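import Cfsg.Agent.Lib.Helper28.S1692.Defs

set_option autoImplicit false
set_option maxRecDepth 100000
set_option linter.all false

namespace Cfsg.Agent.Helper28.S1692

open Cfsg.Agent.Helper28
open Cfsg.Spor.ON (Gen)

noncomputable section

abbrev kc := Pt.mk
abbrev xc0 := D1.c0
abbrev xc1 := D1.c1
abbrev xc2 := D1.c2
abbrev xc3 := D1.c3
abbrev xc4 := D1.c4
abbrev xc5 := D1.c5
abbrev xc6 := D1.c6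
abbrev xc7 := D1.c7
abbrev xc8 := D1.c8
abbrev xc9 := D1.c9
abbrev xc10 := D1.c10
abbrev xc11 := D1.c11
abbrev xc12 := D1.c12
abbrev xc13 := D1.c13
abbrev xc14 := D1.c14
abbrev xc15 := D1.c15
abbrev xc16 := D1.c16
abbrev xc17 := D1.c17
abbrev xc18 := D1.c18
abbrev xc19 := D1.c19
abbrev xc20 := D1.c20
abbrev xc21 := D1.c21
abbrev xc22 := D1.c22
abbrev xc23 := D1.c23
abbrev xc24 := D1.c24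
abbrev xc25 := D1.c25
abbrev xc26 := D1.c26
abbrev xc27 := D1.c27
abbrev xc28 := D1.c28
abbrev xc29 := D1.c29
abbrev xc30 := D1.c30
abbrev xc31 := D1.c31
abbrev xc32 := D1.c32
abbrev yc0 := D2.c0
abbrev yc1 := D2.c1
abbrev yc2 := D2.c2
abbrev yc3 := D2.c3
abbrev yc4 := D2.c4
abbrev yc5 := D2.c5
abbrev yc6 := D2.c6
abbrev yc7 := D2.c7
abbrev yc8 := D2.c8
abbrev yc9 := D2.c9
abbrev yc10 := D2.c10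
abbrev yc11 := D2.c11
abbrev yc12 := D2.c12
abbrev yc13 := D2.c13
abbrev yc14 := D2.c14
abbrev yc15 := D2.c15
abbrev yc16 := D2.c16
abbrev yc17 := D2.c17
abbrev yc18 := D2.c18
abbrev yc19 := D2.c19
abbrev yc20 := D2.c20
abbrev yc21 := D2.c21
abbrev yc22 := D2.c22
abbrev yc23 := D2.c23
abbrev yc24 := D2.c24
abbrev yc25 := D2.c25
abbrev yc26 := D2.c26
abbrev yc27 := D2.c27
abbrev yc28 := D2.c28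
abbrev yc29 := D2.c29
abbrev yc30 := D2.c30
abbrev yc31 := D2.c31
abbrev yc32 := D2.c32
abbrev yc33 := D2.c33
abbrev yc34 := D2.c34
abbrev yc35 := D2.c35
abbrev yc36 := D2.c36
abbrev yc37 := D2.c37
abbrev yc38 := D2.c38
abbrev yc39 := D2.c39
abbrev yc40 := D2.c40
abbrev yc41 := D2.c41
abbrev yc42 := D2.c42
abbrev yc43 := D2.c43
abbrev yc44 := D2.c44
abbrev yc45 := D2.c45
abbrev yc46 := D2.c46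
abbrev yc47 := D2.c47
abbrev yc48 := D2.c48
abbrev yc49 := D2.c49
abbrev yc50 := D2.c50
abbrev yc51 := D2.c51
abbrev yc52 := D2.c52
abbrev yc53 := D2.c53
abbrev yc54 := D2.c54
abbrev yc55 := D2.c55
abbrev yc56 := D2.c56
abbrev yc57 := D2.c57
abbrev yc58 := D2.c58
abbrev yc59 := D2.c59
abbrev zc0 := D3.c0
abbrev zc1 := D3.c1
abbrev zc2 := D3.c2
abbrev zc3 := D3.c3
abbrev zc4 := D3.c4
abbrev zc5 := D3.c5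
abbrev zc6 := D3.c6
abbrev zc7 := D3.c7
abbrev zc8 := D3.c8
abbrev zc9 := D3.c9
abbrev zc10 := D3.c10
abbrev zc11 := D3.c11
abbrev zc12 := D3.c12
abbrev zc13 := D3.c13
abbrev zc14 := D3.c14
abbrev zc15 := D3.c15
abbrev zc16 := D3.c16
abbrev zc17 := D3.c17
abbrev zc18 := D3.c18
abbrev zc19 := D3.c19
abbrev zc20 := D3.c20
abbrev zc21 := D3.c21
abbrev zc22 := D3.c22
abbrev zc23 := D3.c23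
abbrev zc24 := D3.c24
abbrev zc25 := D3.c25
abbrev zc26 := D3.c26
abbrev zc27 := D3.c27
abbrev zc28 := D3.c28
abbrev zc29 := D3.c29
abbrev zc30 := D3.c30
abbrev zc31 := D3.c31
abbrev zc32 := D3.c32
abbrev zc33 := D3.c33
abbrev zc34 := D3.c34
abbrev zc35 := D3.c35
abbrev zc36 := D3.c36
abbrev zc37 := D3.c37
abbrev zc38 := D3.c38
abbrev zc39 := D3.c39
abbrev zc40 := D3.c40
abbrev zc41 := D3.c41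
abbrev zc42 := D3.c42
abbrev zc43 := D3.c43
abbrev zc44 := D3.c44
abbrev zc45 := D3.c45
abbrev zc46 := D3.c46
abbrev zc47 := D3.c47
abbrev zc48 := D3.c48
abbrev zc49 := D3.c49
abbrev zc50 := D3.c50
abbrev zc51 := D3.c51
abbrev zc52 := D3.c52
abbrev zc53 := D3.c53
abbrev zc54 := D3.c54
abbrev zc55 := D3.c55
abbrev zc56 := D3.c56
abbrev zc57 := D3.c57
abbrev zc58 := D3.c58
abbrev zc59 := D3.c59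
abbrev zc60 := D3.c60
abbrev zc61 := D3.c61
def f_c_0 : D2 → D3 → Pt := @D2.rec (fun _ => D3 → Pt) (@D3.rec (fun _ => Pt) (kc xc0 yc0 zc0) (kc xc0 yc0 zc3) (kc xc0 yc0 zc9) (kc xc0 yc0 zc1) (kc xc0 yc0 zc14) (kc xc0 yc0 zc15) (kc xc0 yc0 zc22) (kc xc0 yc0 zc23) (kc xc0 yc0 zc24) (kc xc0 yc0 zc2) (kc xc0 yc0 zc34) (kc xc0 yc0 zc31) (kc xc0 yc0 zc12) (kc xc0 yc0 zc29) (kc xc0 yc0 zc4) (kc xc0 yc0 zc5) (kc xc0 yc0 zc16) (kc xc0 yc0 zc46) (kc xc0 yc0 zc18) (kc xc0 yc0 zc19) (kc xc0 yc0 zc59) (kc xc0 yc0 zc50) (kc xc0 yc0 zc6) (kc xc0 yc0 zc7) (kc xc0 yc0 zc8) (kc xc0 yc1 zc7) (kc xc0 yc1 zc6) (kc xc0 yc0 zc40) (kc xc0 yc0 zc41) (kc xc0 yc0 zc13) (kc xc0 yc1 zc20) (kc xc0 yc0 zc11) (kc xc0 yc1 zc26) (kc xc0 yc1 zc28) (kc xc0 yc0 zc10) (kc xc0 yc1 zc34) (kc xc0 yc1 zc38)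 (kc xc0 yc1 zc40) (kc xc0 yc1 zc44) (kc xc0 yc1 zc25) (kc xc0 yc0 zc27) (kc xc0 yc0 zc28) (kc xc0 yc0 zc61) (kc xc0 yc1 zc32) (kc xc0 yc1 zc17) (kc xc0 yc0 zc45) (kc xc0 yc0 zc17) (kc xc0 yc0 zc47) (kc xc0 yc0 zc48) (kc xc0 yc2 zc2) (kc xc0 yc0 zc21) (kc xc0 yc0 zc51) (kc xc0 yc0 zc52) (kc xc0 yc2 zc4) (kc xc0 yc1 zc58) (kc xc0 yc2 zc6) (kc xc0 yc2 zc8) (kc xc0 yc2 zc10) (kc xc0 yc2 zc11) (kc xc0 yc0 zc20) (kc xc0 yc2 zc17) (kc xc0 yc0 zc42)) (@D3.rec (fun _ => Pt) (kc xc0 yc1 zc2) (kc xc0 yc2 zc28) (kc xc0 yc1 zc0) (kc xc0 yc2 zc32) (kc xc0 yc1 zc4) (kc xc0 yc2 zc36) (kc xc0 yc0 zc26) (kc xc0 yc0 zc25) (kc xc0 yc2 zc44) (kc xc0 yc2 zc48) (kc xc0 yc2 zc50) (kc xc0 yc2 zc54) (kc xc0 yc2 zc41) (kc xc0 yc2 zc56) (kc xc0 yc1 zc14) (kc xc0 yc2 zc60) (kc xc0 yc3 zc2) (kc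 xc0 yc0 zc44) (kc xc0 yc3 zc6) (kc xc0 yc3 zc9) (kc xc0 yc0 zc30) (kc xc0 yc3 zc15) (kc xc0 yc1 zc59) (kc xc0 yc3 zc22) (kc xc0 yc3 zc26) (kc xc0 yc0 zc39) (kc xc0 yc0 zc32) (kc xc0 yc3 zc30) (kc xc0 yc0 zc33) (kc xc0 yc3 zc32) (kc xc0 yc1 zc49) (kc xc0 yc1 zc48) (kc xc0 yc0 zc43) (kc xc0 yc3 zc37) (kc xc0 yc0 zc35) (kc xc0 yc3 zc42) (kc xc0 yc3 zc43) (kc xc0 yc3 zc41) (kc xc0 yc0 zc36) (kc xc0 yc3 zc49) (kc xc0 yc0 zc37) (kc xc0 yc3 zc53) (kc xc0 yc3 zc55) (kc xc0 yc3 zc56) (kc xc0 yc0 zc38) (kc xc0 yc4 zc0) (kc xc0 yc3 zc28) (kc xc0 yc2 zc21) (kc xc0 yc1 zc31) (kc xc0 yc1 zc30) (kc xc0 yc3 zc36) (kc xc0 yc2 zc38) (kc xc0 yc2 zc39) (kc xc0 yc4 zc14) (kc xc0 yc3 zc5) (kc xc0 yc1 zc55) (kc xc0 yc1 zc56) (kc xc0 yc4 zc17) (kc xc0 yc0 zc54) (kc xc0 yc1 zc22) (kc xc0 yc4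 zc20) (kc xc0 yc4 zc22)) (@D3.rec (fun _ => Pt) (kc xc0 yc2 zc13) (kc xc0 yc2 zc14) (kc xc0 yc0 zc49) (kc xc0 yc4 zc28) (kc xc0 yc0 zc53) (kc xc0 yc4 zc32) (kc xc0 yc0 zc55) (kc xc0 yc4 zc37) (kc xc0 yc0 zc56) (kc xc0 yc4 zc43) (kc xc0 yc0 zc57) (kc xc0 yc0 zc58) (kc xc0 yc4 zc49) (kc xc0 yc2 zc0) (kc xc0 yc2 zc1) (kc xc0 yc3 zc60) (kc xc0 yc5 zc1) (kc xc0 yc0 zc60) (kc xc0 yc5 zc4) (kc xc0 yc2 zc19) (kc xc0 yc5 zc7) (kc xc0 yc1 zc47) (kc xc0 yc2 zc23) (kc xc0 yc2 zc22) (kc xc0 yc2 zc30) (kc xc0 yc5 zc17) (kc xc0 yc5 zc20) (kc xc0 yc5 zc22) (kc xc0 yc1 zc1) (kc xc0 yc5 zc25) (kc xc0 yc2 zc24) (kc xc0 yc5 zc31) (kc xc0 yc1 zc3) (kc xc0 yc5 zc34) (kc xc0 yc5 zc40) (kc xc0 yc2 zc35) (kc xc0 yc1 zc5) (kc xc0 yc5 zc47) (kc xc0 yc1 zc51) (kc xc0 yc1 zc52) (kc xc0 yc5 zc57)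 (kc xc0 yc1 zc12) (kc xc0 yc2 zc42) (kc xc0 yc3 zc14) (kc xc0 yc1 zc8) (kc xc0 yc6 zc4) (kc xc0 yc6 zc5) (kc xc0 yc6 zc3) (kc xc0 yc1 zc9) (kc xc0 yc6 zc7) (kc xc0 yc1 zc10) (kc xc0 yc6 zc11) (kc xc0 yc6 zc13) (kc xc0 yc6 zc14) (kc xc0 yc1 zc11) (kc xc0 yc6 zc20) (kc xc0 yc1 zc13) (kc xc0 yc6 zc23) (kc xc0 yc2 zc58) (kc xc0 yc6 zc27) (kc xc0 yc1 zc15) (kc xc0 yc6 zc32)) (@D3.rec (fun _ => Pt) (kc xc0 yc3 zc11) (kc xc0 yc3 zc12) (kc xc0 yc1 zc16) (kc xc0 yc6 zc40) (kc xc0 yc6 zc47) (kc xc0 yc1 zc54) (kc xc0 yc1 zc18) (kc xc0 yc6 zc50) (kc xc0 yc6 zc29) (kc xc0 yc1 zc19) (kc xc0 yc6 zc57) (kc xc0 yc3 zc0) (kc xc0 yc3 zc1) (kc xc0 yc6 zc39) (kc xc0 yc2 zc43) (kc xc0 yc1 zc21) (kc xc0 yc7 zc14) (kc xc0 yc7 zc18) (kc xc0 yc7 zc23) (kc xc0 yc7 zc13) (kc xc0 yc7 zc26) (kc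 xc0 yc3 zc21) (kc xc0 yc1 zc23) (kc xc0 yc7 zc31) (kc xc0 yc7 zc33) (kc xc0 yc7 zc35) (kc xc0 yc1 zc24) (kc xc0 yc7 zc41) (kc xc0 yc1 zc46) (kc xc0 yc3 zc31) (kc xc0 yc1 zc27) (kc xc0 yc3 zc29) (kc xc0 yc1 zc29) (kc xc0 yc4 zc6) (kc xc0 yc3 zc34) (kc xc0 yc4 zc5) (kc xc0 yc1 zc50) (kc xc0 yc1 zc33) (kc xc0 yc7 zc56) (kc xc0 yc4 zc16) (kc xc0 yc7 zc61) (kc xc0 yc1 zc37) (kc xc0 yc1 zc35) (kc xc0 yc1 zc36) (kc xc0 yc8 zc7) (kc xc0 yc4 zc4) (kc xc0 yc5 zc42) (kc xc0 yc8 zc15) (kc xc0 yc8 zc17) (kc xc0 yc1 zc39) (kc xc0 yc8 zc23) (kc xc0 yc6 zc9) (kc xc0 yc8 zc28) (kc xc0 yc1 zc41) (kc xc0 yc8 zc32) (kc xc0 yc1 zc42) (kc xc0 yc1 zc43) (kc xc0 yc8 zc39) (kc xc0 yc4 zc24) (kc xc0 yc8 zc45) (kc xc0 yc2 zc15) (kc xc0 yc8 zc55)) (@D3.rec (fun _ => Pt) (kc xc0 yc1 zc45) (kc xc0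 yc8 zc58) (kc xc0 yc7 zc43) (kc xc0 yc8 zc61) (kc xc0 yc3 zc45) (kc xc0 yc3 zc35) (kc xc0 yc3 zc33) (kc xc0 yc6 zc1) (kc xc0 yc8 zc20) (kc xc0 yc7 zc48) (kc xc0 yc9 zc3) (kc xc0 yc9 zc5) (kc xc0 yc6 zc16) (kc xc0 yc6 zc17) (kc xc0 yc1 zc53) (kc xc0 yc9 zc10) (kc xc0 yc3 zc39) (kc xc0 yc1 zc57) (kc xc0 yc4 zc34) (kc xc0 yc8 zc3) (kc xc0 yc1 zc60) (kc xc0 yc9 zc17) (kc xc0 yc1 zc61) (kc xc0 yc9 zc22) (kc xc0 yc3 zc58) (kc xc0 yc4 zc55) (kc xc0 yc9 zc8) (kc xc0 yc5 zc3) (kc xc0 yc2 zc3) (kc xc0 yc9 zc31) (kc xc0 yc8 zc5) (kc xc0 yc9 zc37) (kc xc0 yc2 zc5) (kc xc0 yc9 zc40) (kc xc0 yc4 zc18) (kc xc0 yc4 zc35) (kc xc0 yc4 zc42) (kc xc0 yc2 zc7) (kc xc0 yc9 zc54) (kc xc0 yc9 zc55) (kc xc0 yc9 zc52) (kc xc0 yc4 zc41) (kc xc0 yc4 zc36) (kc xc0 yc2 zc9) (kc xc0 yc10 zc1) (kc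 xc0 yc4 zc45) (kc xc0 yc4 zc48) (kc xc0 yc4 zc47) (kc xc0 yc4 zc46) (kc xc0 yc2 zc12) (kc xc0 yc10 zc14) (kc xc0 yc8 zc42) (kc xc0 yc4 zc54) (kc xc0 yc10 zc23) (kc xc0 yc4 zc52) (kc xc0 yc4 zc25) (kc xc0 yc10 zc30) (kc xc0 yc10 zc34) (kc xc0 yc8 zc50) (kc xc0 yc10 zc40) (kc xc0 yc8 zc52) (kc xc0 yc5 zc0)) (@D3.rec (fun _ => Pt) (kc xc0 yc4 zc61) (kc xc0 yc2 zc16) (kc xc0 yc10 zc49) (kc xc0 yc4 zc27) (kc xc0 yc2 zc18) (kc xc0 yc10 zc56) (kc xc0 yc5 zc6) (kc xc0 yc2 zc20) (kc xc0 yc10 zc61) (kc xc0 yc11 zc4) (kc xc0 yc6 zc31) (kc xc0 yc5 zc13) (kc xc0 yc11 zc8) (kc xc0 yc5 zc11) (kc xc0 yc11 zc13) (kc xc0 yc6 zc56) (kc xc0 yc11 zc16) (kc xc0 yc2 zc25) (kc xc0 yc11 zc22) (kc xc0 yc11 zc18) (kc xc0 yc2 zc26) (kc xc0 yc11 zc28) (kc xc0 yc2 zc27) (kc xc0 yc11 zc34) (kc xc0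 yc11 zc20) (kc xc0 yc2 zc29) (kc xc0 yc11 zc48) (kc xc0 yc11 zc51) (kc xc0 yc11 zc46) (kc xc0 yc11 zc54) (kc xc0 yc11 zc19) (kc xc0 yc2 zc31) (kc xc0 yc11 zc59) (kc xc0 yc11 zc57) (kc xc0 yc2 zc33) (kc xc0 yc12 zc8) (kc xc0 yc12 zc12) (kc xc0 yc12 zc7) (kc xc0 yc12 zc15) (kc xc0 yc12 zc17) (kc xc0 yc2 zc34) (kc xc0 yc12 zc23) (kc xc0 yc3 zc46) (kc xc0 yc11 zc10) (kc xc0 yc12 zc32) (kc xc0 yc5 zc45) (kc xc0 yc12 zc21) (kc xc0 yc2 zc37) (kc xc0 yc12 zc43) (kc xc0 yc12 zc46) (kc xc0 yc12 zc51) (kc xc0 yc12 zc41) (kc xc0 yc5 zc52) (kc xc0 yc12 zc54) (kc xc0 yc12 zc56) (kc xc0 yc12 zc59) (kc xc0 yc12 zc60) (kc xc0 yc2 zc40) (kc xc0 yc13 zc4) (kc xc0 yc7 zc46) (kc xc0 yc5 zc60) (kc xc0 yc5 zc61)) (@D3.rec (fun _ => Pt) (kc xc0 yc7 zc9) (kc xc0 yc4 zc7) (kc xc0 yc13 zc16)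 (kc xc0 yc2 zc47) (kc xc0 yc2 zc45) (kc xc0 yc2 zc46) (kc xc0 yc13 zc21) (kc xc0 yc2 zc49) (kc xc0 yc13 zc27) (kc xc0 yc3 zc51) (kc xc0 yc13 zc31) (kc xc0 yc2 zc51) (kc xc0 yc13 zc35) (kc xc0 yc2 zc52) (kc xc0 yc2 zc53) (kc xc0 yc13 zc41) (kc xc0 yc4 zc12) (kc xc0 yc4 zc13) (kc xc0 yc6 zc18) (kc xc0 yc13 zc53) (kc xc0 yc2 zc55) (kc xc0 yc13 zc56) (kc xc0 yc6 zc22) (kc xc0 yc2 zc57) (kc xc0 yc11 zc43) (kc xc0 yc11 zc44) (kc xc0 yc13 zc61) (kc xc0 yc2 zc59) (kc xc0 yc6 zc28) (kc xc0 yc3 zc8) (kc xc0 yc14 zc5) (kc xc0 yc5 zc10) (kc xc0 yc2 zc61) (kc xc0 yc12 zc4) (kc xc0 yc12 zc5) (kc xc0 yc14 zc13) (kc xc0 yc12 zc19) (kc xc0 yc7 zc1) (kc xc0 yc7 zc3) (kc xc0 yc3 zc13) (kc xc0 yc3 zc3) (kc xc0 yc7 zc10) (kc xc0 yc7 zc11) (kc xc0 yc14 zc41) (kc xc0 yc14 zc32) (kc xc0 yc7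 zc37) (kc xc0 yc7 zc38) (kc xc0 yc3 zc4) (kc xc0 yc14 zc48) (kc xc0 yc6 zc49) (kc xc0 yc3 zc7) (kc xc0 yc14 zc59) (kc xc0 yc14 zc61) (kc xc0 yc15 zc4) (kc xc0 yc14 zc57) (kc xc0 yc14 zc7) (kc xc0 yc5 zc15) (kc xc0 yc3 zc10) (kc xc0 yc15 zc15) (kc xc0 yc15 zc18) (kc xc0 yc15 zc23) (kc xc0 yc15 zc14)) (@D3.rec (fun _ => Pt) (kc xc0 yc12 zc0) (kc xc0 yc6 zc37) (kc xc0 yc15 zc33) (kc xc0 yc6 zc38) (kc xc0 yc15 zc38) (kc xc0 yc15 zc37) (kc xc0 yc14 zc29) (kc xc0 yc15 zc46) (kc xc0 yc14 zc30) (kc xc0 yc6 zc0) (kc xc0 yc6 zc41) (kc xc0 yc6 zc42) (kc xc0 yc16 zc2) (kc xc0 yc3 zc19) (kc xc0 yc3 zc16) (kc xc0 yc16 zc9) (kc xc0 yc16 zc6) (kc xc0 yc14 zc9) (kc xc0 yc3 zc17) (kc xc0 yc16 zc20) (kc xc0 yc16 zc19) (kc xc0 yc16 zc23) (kc xc0 yc16 zc27) (kc xc0 yc3 zc18) (kc xc0 yc16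 zc34) (kc xc0 yc16 zc37) (kc xc0 yc3 zc20) (kc xc0 yc16 zc43) (kc xc0 yc7 zc28) (kc xc0 yc16 zc50) (kc xc0 yc8 zc4) (kc xc0 yc3 zc23) (kc xc0 yc16 zc52) (kc xc0 yc3 zc24) (kc xc0 yc16 zc59) (kc xc0 yc3 zc25) (kc xc0 yc17 zc1) (kc xc0 yc6 zc45) (kc xc0 yc6 zc46) (kc xc0 yc14 zc46) (kc xc0 yc13 zc55) (kc xc0 yc3 zc27) (kc xc0 yc17 zc19) (kc xc0 yc4 zc2) (kc xc0 yc7 zc45) (kc xc0 yc7 zc44) (kc xc0 yc5 zc59) (kc xc0 yc7 zc49) (kc xc0 yc4 zc9) (kc xc0 yc7 zc47) (kc xc0 yc8 zc60) (kc xc0 yc13 zc0) (kc xc0 yc7 zc52) (kc xc0 yc7 zc53) (kc xc0 yc17 zc29) (kc xc0 yc11 zc33) (kc xc0 yc3 zc38) (kc xc0 yc17 zc38) (kc xc0 yc17 zc42) (kc xc0 yc17 zc47) (kc xc0 yc17 zc37) (kc xc0 yc3 zc40)) (@D3.rec (fun _ => Pt) (kc xc0 yc17 zc51) (kc xc0 yc13 zc8) (kc xc0 yc13 zc1) (kc xc0 yc4 zc19)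 (kc xc0 yc7 zc30) (kc xc0 yc4 zc30) (kc xc0 yc18 zc4) (kc xc0 yc3 zc44) (kc xc0 yc18 zc7) (kc xc0 yc8 zc9) (kc xc0 yc18 zc9) (kc xc0 yc11 zc12) (kc xc0 yc10 zc58) (kc xc0 yc18 zc15) (kc xc0 yc18 zc18) (kc xc0 yc3 zc47) (kc xc0 yc18 zc21) (kc xc0 yc3 zc48) (kc xc0 yc18 zc27) (kc xc0 yc9 zc2) (kc xc0 yc4 zc8) (kc xc0 yc13 zc25) (kc xc0 yc17 zc17) (kc xc0 yc3 zc50) (kc xc0 yc18 zc44) (kc xc0 yc18 zc45) (kc xc0 yc18 zc43) (kc xc0 yc18 zc47) (kc xc0 yc3 zc52) (kc xc0 yc18 zc50) (kc xc0 yc13 zc33) (kc xc0 yc17 zc16) (kc xc0 yc3 zc54) (kc xc0 yc19 zc1) (kc xc0 yc9 zc0) (kc xc0 yc13 zc37) (kc xc0 yc17 zc9) (kc xc0 yc13 zc39) (kc xc0 yc17 zc6) (kc xc0 yc3 zc57) (kc xc0 yc19 zc17) (kc xc0 yc19 zc18) (kc xc0 yc4 zc51) (kc xc0 yc17 zc0) (kc xc0 yc8 zc44) (kc xc0 yc3 zc59) (kc xc0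 yc16 zc58) (kc xc0 yc19 zc29) (kc xc0 yc19 zc35) (kc xc0 yc19 zc39) (kc xc0 yc4 zc58) (kc xc0 yc19 zc45) (kc xc0 yc4 zc60) (kc xc0 yc16 zc53) (kc xc0 yc16 zc42) (kc xc0 yc3 zc61) (kc xc0 yc19 zc54) (kc xc0 yc13 zc3) (kc xc0 yc4 zc1) (kc xc0 yc13 zc24) (kc xc0 yc7 zc50) (kc xc0 yc4 zc3)) (@D3.rec (fun _ => Pt) (kc xc0 yc8 zc34) (kc xc0 yc13 zc23) (kc xc0 yc8 zc19) (kc xc0 yc4 zc10) (kc xc0 yc20 zc6) (kc xc0 yc4 zc11) (kc xc0 yc19 zc59) (kc xc0 yc13 zc45) (kc xc0 yc4 zc26) (kc xc0 yc20 zc19) (kc xc0 yc4 zc15) (kc xc0 yc20 zc22) (kc xc0 yc18 zc31) (kc xc0 yc9 zc39) (kc xc0 yc9 zc42) (kc xc0 yc17 zc58) (kc xc0 yc17 zc57) (kc xc0 yc4 zc21) (kc xc0 yc9 zc49) (kc xc0 yc9 zc50) (kc xc0 yc20 zc36) (kc xc0 yc20 zc10) (kc xc0 yc4 zc23) (kc xc0 yc10 zc54) (kc xc0 yc10 zc13) (kc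 xc0 yc20 zc45) (kc xc0 yc20 zc49) (kc xc0 yc20 zc16) (kc xc0 yc20 zc55) (kc xc0 yc20 zc18) (kc xc0 yc10 zc53) (kc xc0 yc4 zc29) (kc xc0 yc21 zc3) (kc xc0 yc21 zc7) (kc xc0 yc18 zc1) (kc xc0 yc21 zc12) (kc xc0 yc18 zc3) (kc xc0 yc4 zc31) (kc xc0 yc21 zc17) (kc xc0 yc9 zc13) (kc xc0 yc4 zc33) (kc xc0 yc21 zc26) (kc xc0 yc9 zc14) (kc xc0 yc21 zc30) (kc xc0 yc21 zc34) (kc xc0 yc9 zc45) (kc xc0 yc21 zc40) (kc xc0 yc9 zc47) (kc xc0 yc9 zc61) (kc xc0 yc9 zc18) (kc xc0 yc9 zc19) (kc xc0 yc21 zc53) (kc xc0 yc4 zc40) (kc xc0 yc21 zc55) (kc xc0 yc4 zc38) (kc xc0 yc4 zc39) (kc xc0 yc21 zc60) (kc xc0 yc22 zc1) (kc xc0 yc9 zc58) (kc xc0 yc22 zc8) (kc xc0 yc9 zc60) (kc xc0 yc9 zc48)) (@D3.rec (fun _ => Pt) (kc xc0 yc22 zc17) (kc xc0 yc4 zc44) (kc xc0 yc22 zc20) (kc xc0 yc22 zc23)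 (kc xc0 yc10 zc4) (kc xc0 yc22 zc25) (kc xc0 yc10 zc12) (kc xc0 yc22 zc30) (kc xc0 yc22 zc32) (kc xc0 yc10 zc9) (kc xc0 yc22 zc35) (kc xc0 yc10 zc11) (kc xc0 yc10 zc6) (kc xc0 yc9 zc24) (kc xc0 yc4 zc50) (kc xc0 yc22 zc42) (kc xc0 yc22 zc46) (kc xc0 yc19 zc21) (kc xc0 yc22 zc51) (kc xc0 yc10 zc26) (kc xc0 yc22 zc56) (kc xc0 yc22 zc59) (kc xc0 yc23 zc0) (kc xc0 yc4 zc53) (kc xc0 yc23 zc9) (kc xc0 yc23 zc6) (kc xc0 yc10 zc19) (kc xc0 yc19 zc32) (kc xc0 yc23 zc16) (kc xc0 yc23 zc19) (kc xc0 yc4 zc56) (kc xc0 yc23 zc27) (kc xc0 yc23 zc26) (kc xc0 yc23 zc30) (kc xc0 yc4 zc57) (kc xc0 yc23 zc36) (kc xc0 yc23 zc35) (kc xc0 yc23 zc41) (kc xc0 yc23 zc44) (kc xc0 yc23 zc47) (kc xc0 yc4 zc59) (kc xc0 yc23 zc53) (kc xc0 yc23 zc54) (kc xc0 yc19 zc48) (kc xc0 yc24 zc1) (kc xc0 yc10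 zc47) (kc xc0 yc24 zc7) (kc xc0 yc10 zc45) (kc xc0 yc23 zc51) (kc xc0 yc5 zc2) (kc xc0 yc24 zc21) (kc xc0 yc24 zc25) (kc xc0 yc24 zc19) (kc xc0 yc9 zc30) (kc xc0 yc9 zc23) (kc xc0 yc24 zc31) (kc xc0 yc5 zc5) (kc xc0 yc24 zc33) (kc xc0 yc8 zc12) (kc xc0 yc24 zc39) (kc xc0 yc15 zc45) (kc xc0 yc5 zc8)) (@D3.rec (fun _ => Pt) (kc xc0 yc12 zc38) (kc xc0 yc12 zc39) (kc xc0 yc24 zc53) (kc xc0 yc24 zc45) (kc xc0 yc5 zc9) (kc xc0 yc12 zc20) (kc xc0 yc14 zc11) (kc xc0 yc25 zc0) (kc xc0 yc5 zc12) (kc xc0 yc25 zc1) (kc xc0 yc5 zc43) (kc xc0 yc25 zc7) (kc xc0 yc8 zc11) (kc xc0 yc5 zc14) (kc xc0 yc25 zc11) (kc xc0 yc15 zc10) (kc xc0 yc5 zc16) (kc xc0 yc25 zc19) (kc xc0 yc5 zc19) (kc xc0 yc5 zc30) (kc xc0 yc5 zc24) (kc xc0 yc13 zc57) (kc xc0 yc5 zc18) (kc xc0 yc25 zc33) (kc xc0 yc25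 zc36) (kc xc0 yc25 zc32) (kc xc0 yc25 zc24) (kc xc0 yc12 zc35) (kc xc0 yc5 zc21) (kc xc0 yc15 zc52) (kc xc0 yc15 zc53) (kc xc0 yc25 zc56) (kc xc0 yc25 zc48) (kc xc0 yc7 zc55) (kc xc0 yc5 zc23) (kc xc0 yc17 zc34) (kc xc0 yc17 zc35) (kc xc0 yc26 zc10) (kc xc0 yc26 zc3) (kc xc0 yc26 zc12) (kc xc0 yc26 zc15) (kc xc0 yc15 zc31) (kc xc0 yc25 zc27) (kc xc0 yc6 zc24) (kc xc0 yc6 zc25) (kc xc0 yc26 zc30) (kc xc0 yc5 zc28) (kc xc0 yc25 zc29) (kc xc0 yc5 zc26) (kc xc0 yc26 zc39) (kc xc0 yc26 zc37) (kc xc0 yc5 zc27) (kc xc0 yc26 zc47) (kc xc0 yc26 zc46) (kc xc0 yc5 zc29) (kc xc0 yc26 zc52) (kc xc0 yc25 zc26) (kc xc0 yc5 zc33) (kc xc0 yc25 zc10) (kc xc0 yc5 zc32) (kc xc0 yc25 zc30) (kc xc0 yc27 zc2)) (@D3.rec (fun _ => Pt) (kc xc0 yc7 zc0) (kc xc0 yc15 zc27) (kc xc0 yc26 zc58) (kc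 xc0 yc26 zc60) (kc xc0 yc6 zc33) (kc xc0 yc6 zc34) (kc xc0 yc27 zc21) (kc xc0 yc5 zc37) (kc xc0 yc5 zc35) (kc xc0 yc27 zc27) (kc xc0 yc27 zc25) (kc xc0 yc27 zc32) (kc xc0 yc5 zc36) (kc xc0 yc27 zc38) (kc xc0 yc27 zc37) (kc xc0 yc5 zc38) (kc xc0 yc27 zc42) (kc xc0 yc5 zc39) (kc xc0 yc27 zc47) (kc xc0 yc6 zc36) (kc xc0 yc11 zc5) (kc xc0 yc5 zc46) (kc xc0 yc24 zc32) (kc xc0 yc5 zc41) (kc xc0 yc28 zc3) (kc xc0 yc28 zc6) (kc xc0 yc28 zc11) (kc xc0 yc28 zc2) (kc xc0 yc28 zc13) (kc xc0 yc28 zc15) (kc xc0 yc28 zc17) (kc xc0 yc28 zc18) (kc xc0 yc5 zc44) (kc xc0 yc28 zc25) (kc xc0 yc25 zc45) (kc xc0 yc11 zc27) (kc xc0 yc27 zc57) (kc xc0 yc27 zc59) (kc xc0 yc11 zc0) (kc xc0 yc11 zc1) (kc xc0 yc28 zc43) (kc xc0 yc5 zc51) (kc xc0 yc14 zc8) (kc xc0 yc5 zc48) (kc xc0 yc28 zc51) (kc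 xc0 yc28 zc48) (kc xc0 yc5 zc49) (kc xc0 yc28 zc58) (kc xc0 yc28 zc57) (kc xc0 yc28 zc61) (kc xc0 yc29 zc2) (kc xc0 yc5 zc50) (kc xc0 yc29 zc8) (kc xc0 yc29 zc10) (kc xc0 yc5 zc53) (kc xc0 yc29 zc14) (kc xc0 yc5 zc54) (kc xc0 yc29 zc20) (kc xc0 yc29 zc24) (kc xc0 yc5 zc55) (kc xc0 yc5 zc56) (kc xc0 yc29 zc29)) (@D3.rec (fun _ => Pt) (kc xc0 yc7 zc51) (kc xc0 yc8 zc2) (kc xc0 yc28 zc23) (kc xc0 yc8 zc57) (kc xc0 yc5 zc58) (kc xc0 yc29 zc47) (kc xc0 yc17 zc24) (kc xc0 yc13 zc7) (kc xc0 yc8 zc1) (kc xc0 yc29 zc50) (kc xc0 yc13 zc10) (kc xc0 yc26 zc0) (kc xc0 yc26 zc1) (kc xc0 yc29 zc55) (kc xc0 yc15 zc55) (kc xc0 yc13 zc15) (kc xc0 yc6 zc2) (kc xc0 yc13 zc17) (kc xc0 yc30 zc1) (kc xc0 yc16 zc39) (kc xc0 yc16 zc40) (kc xc0 yc6 zc6) (kc xc0 yc30 zc5) (kc xc0 yc9 zc1) (kc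 xc0 yc8 zc59) (kc xc0 yc8 zc21) (kc xc0 yc29 zc45) (kc xc0 yc6 zc8) (kc xc0 yc30 zc20) (kc xc0 yc30 zc19) (kc xc0 yc30 zc23) (kc xc0 yc6 zc10) (kc xc0 yc30 zc26) (kc xc0 yc8 zc30) (kc xc0 yc29 zc44) (kc xc0 yc6 zc12) (kc xc0 yc30 zc37) (kc xc0 yc8 zc35) (kc xc0 yc29 zc37) (kc xc0 yc8 zc37) (kc xc0 yc29 zc34) (kc xc0 yc6 zc15) (kc xc0 yc13 zc42) (kc xc0 yc29 zc28) (kc xc0 yc29 zc26) (kc xc0 yc9 zc7) (kc xc0 yc30 zc60) (kc xc0 yc31 zc2) (kc xc0 yc13 zc48) (kc xc0 yc31 zc8) (kc xc0 yc13 zc50) (kc xc0 yc29 zc19) (kc xc0 yc29 zc13) (kc xc0 yc6 zc19) (kc xc0 yc31 zc17) (kc xc0 yc7 zc40) (kc xc0 yc6 zc21) (kc xc0 yc11 zc21) (kc xc0 yc13 zc58) (kc xc0 yc13 zc59) (kc xc0 yc31 zc33) (kc xc0 yc6 zc26)) (@D3.rec (fun _ => Pt) (kc xc0 yc31 zc35) (kc xc0 yc31 zc38) (kc xc0 yc26 zc24)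 (kc xc0 yc31 zc41) (kc xc0 yc26 zc27) (kc xc0 yc6 zc30) (kc xc0 yc31 zc44) (kc xc0 yc6 zc55) (kc xc0 yc12 zc42) (kc xc0 yc7 zc17) (kc xc0 yc16 zc14) (kc xc0 yc11 zc6) (kc xc0 yc31 zc55) (kc xc0 yc6 zc35) (kc xc0 yc31 zc57) (kc xc0 yc27 zc15) (kc xc0 yc31 zc60) (kc xc0 yc27 zc18) (kc xc0 yc27 zc52) (kc xc0 yc15 zc11) (kc xc0 yc15 zc12) (kc xc0 yc17 zc7) (kc xc0 yc15 zc30) (kc xc0 yc14 zc54) (kc xc0 yc14 zc55) (kc xc0 yc29 zc35) (kc xc0 yc15 zc36) (kc xc0 yc32 zc15) (kc xc0 yc32 zc17) (kc xc0 yc7 zc6) (kc xc0 yc7 zc8) (kc xc0 yc32 zc26) (kc xc0 yc6 zc44) (kc xc0 yc27 zc61) (kc xc0 yc32 zc31) (kc xc0 yc15 zc58) (kc xc0 yc32 zc34) (kc xc0 yc32 zc37) (kc xc0 yc15 zc61) (kc xc0 yc16 zc30) (kc xc0 yc16 zc31) (kc xc0 yc6 zc43) (kc xc0 yc32 zc44) (kc xc0 yc28 zc21) (kc xc0 yc32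 zc46) (kc xc0 yc17 zc10) (kc xc0 yc7 zc39) (kc xc0 yc18 zc38) (kc xc0 yc6 zc48) (kc xc0 yc32 zc58) (kc xc0 yc27 zc54) (kc xc0 yc27 zc51) (kc xc0 yc14 zc52) (kc xc0 yc14 zc53) (kc xc0 yc14 zc23) (kc xc0 yc14 zc24) (kc xc0 yc33 zc15) (kc xc0 yc6 zc54) (kc xc0 yc33 zc17) (kc xc0 yc6 zc51) (kc xc0 yc33 zc23) (kc xc0 yc6 zc52)) (@D3.rec (fun _ => Pt) (kc xc0 yc33 zc27) (kc xc0 yc33 zc26) (kc xc0 yc33 zc30) (kc xc0 yc33 zc32) (kc xc0 yc6 zc53) (kc xc0 yc33 zc38) (kc xc0 yc29 zc51) (kc xc0 yc17 zc41) (kc xc0 yc33 zc45) (kc xc0 yc31 zc46) (kc xc0 yc11 zc15) (kc xc0 yc14 zc19) (kc xc0 yc14 zc20) (kc xc0 yc33 zc58) (kc xc0 yc6 zc61) (kc xc0 yc6 zc58) (kc xc0 yc34 zc2) (kc xc0 yc34 zc3) (kc xc0 yc6 zc59) (kc xc0 yc34 zc9) (kc xc0 yc34 zc8) (kc xc0 yc34 zc11) (kc xc0 yc34 zc14)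 (kc xc0 yc6 zc60) (kc xc0 yc34 zc20) (kc xc0 yc34 zc21) (kc xc0 yc34 zc24) (kc xc0 yc12 zc1) (kc xc0 yc27 zc5) (kc xc0 yc34 zc33) (kc xc0 yc14 zc22) (kc xc0 yc11 zc41) (kc xc0 yc34 zc37) (kc xc0 yc7 zc2) (kc xc0 yc34 zc41) (kc xc0 yc34 zc48) (kc xc0 yc14 zc26) (kc xc0 yc7 zc5) (kc xc0 yc7 zc4) (kc xc0 yc34 zc51) (kc xc0 yc25 zc25) (kc xc0 yc34 zc50) (kc xc0 yc28 zc27) (kc xc0 yc32 zc19) (kc xc0 yc24 zc42) (kc xc0 yc10 zc60) (kc xc0 yc7 zc7) (kc xc0 yc35 zc5) (kc xc0 yc35 zc11) (kc xc0 yc35 zc15) (kc xc0 yc35 zc20) (kc xc0 yc32 zc23) (kc xc0 yc11 zc29) (kc xc0 yc11 zc30) (kc xc0 yc35 zc30) (kc xc0 yc13 zc14) (kc xc0 yc27 zc9) (kc xc0 yc35 zc38) (kc xc0 yc14 zc35) (kc xc0 yc35 zc44) (kc xc0 yc35 zc47) (kc xc0 yc14 zc38)) (@D3.rec (fun _ => Pt) (kc xc0 yc35 zc52) (kc xc0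 yc35 zc56) (kc xc0 yc7 zc12) (kc xc0 yc36 zc0) (kc xc0 yc16 zc4) (kc xc0 yc36 zc8) (kc xc0 yc7 zc16) (kc xc0 yc36 zc14) (kc xc0 yc36 zc15) (kc xc0 yc7 zc15) (kc xc0 yc36 zc20) (kc xc0 yc35 zc40) (kc xc0 yc36 zc24) (kc xc0 yc36 zc12) (kc xc0 yc14 zc10) (kc xc0 yc36 zc28) (kc xc0 yc31 zc50) (kc xc0 yc25 zc13) (kc xc0 yc36 zc34) (kc xc0 yc7 zc20) (kc xc0 yc7 zc19) (kc xc0 yc36 zc40) (kc xc0 yc36 zc37) (kc xc0 yc7 zc21) (kc xc0 yc36 zc44) (kc xc0 yc36 zc43) (kc xc0 yc36 zc49) (kc xc0 yc7 zc22) (kc xc0 yc36 zc55) (kc xc0 yc36 zc54) (kc xc0 yc14 zc39) (kc xc0 yc14 zc40) (kc xc0 yc32 zc42) (kc xc0 yc37 zc10) (kc xc0 yc7 zc24) (kc xc0 yc37 zc13) (kc xc0 yc37 zc14) (kc xc0 yc7 zc25) (kc xc0 yc37 zc17) (kc xc0 yc13 zc19) (kc xc0 yc13 zc20) (kc xc0 yc16 zc41) (kc xc0 yc8 zc54)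 (kc xc0 yc7 zc27) (kc xc0 yc37 zc36) (kc xc0 yc37 zc38) (kc xc0 yc37 zc34) (kc xc0 yc37 zc41) (kc xc0 yc37 zc43) (kc xc0 yc37 zc44) (kc xc0 yc7 zc29) (kc xc0 yc17 zc60) (kc xc0 yc7 zc32) (kc xc0 yc8 zc53) (kc xc0 yc37 zc51) (kc xc0 yc37 zc53) (kc xc0 yc29 zc12) (kc xc0 yc16 zc57) (kc xc0 yc8 zc46) (kc xc0 yc7 zc34) (kc xc0 yc38 zc1) (kc xc0 yc37 zc61)) (@D3.rec (fun _ => Pt) (kc xc0 yc8 zc43) (kc xc0 yc7 zc36) (kc xc0 yc38 zc15) (kc xc0 yc38 zc17) (kc xc0 yc38 zc14) (kc xc0 yc38 zc21) (kc xc0 yc8 zc38) (kc xc0 yc14 zc21) (kc xc0 yc38 zc30) (kc xc0 yc8 zc36) (kc xc0 yc14 zc45) (kc xc0 yc38 zc39) (kc xc0 yc38 zc44) (kc xc0 yc32 zc53) (kc xc0 yc38 zc50) (kc xc0 yc32 zc55) (kc xc0 yc8 zc31) (kc xc0 yc8 zc22) (kc xc0 yc31 zc21) (kc xc0 yc7 zc42) (kc xc0 yc39 zc1) (kc xc0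 yc38 zc9) (kc xc0 yc17 zc23) (kc xc0 yc17 zc22) (kc xc0 yc13 zc6) (kc xc0 yc17 zc53) (kc xc0 yc17 zc26) (kc xc0 yc17 zc27) (kc xc0 yc17 zc28) (kc xc0 yc7 zc54) (kc xc0 yc27 zc58) (kc xc0 yc39 zc5) (kc xc0 yc25 zc60) (kc xc0 yc25 zc61) (kc xc0 yc11 zc35) (kc xc0 yc11 zc36) (kc xc0 yc39 zc21) (kc xc0 yc7 zc60) (kc xc0 yc7 zc57) (kc xc0 yc39 zc26) (kc xc0 yc39 zc25) (kc xc0 yc15 zc7) (kc xc0 yc7 zc58) (kc xc0 yc39 zc33) (kc xc0 yc39 zc32) (kc xc0 yc39 zc34) (kc xc0 yc39 zc36) (kc xc0 yc7 zc59) (kc xc0 yc39 zc42) (kc xc0 yc39 zc4) (kc xc0 yc18 zc26) (kc xc0 yc8 zc0) (kc xc0 yc39 zc50) (kc xc0 yc17 zc25) (kc xc0 yc28 zc19) (kc xc0 yc39 zc53) (kc xc0 yc29 zc38) (kc xc0 yc9 zc16) (kc xc0 yc9 zc15) (kc xc0 yc17 zc59) (kc xc0 yc16 zc51) (kc xc0 yc40 zc10)) (@D3.rec (fun _ =>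 Pt) (kc xc0 yc40 zc14) (kc xc0 yc9 zc34) (kc xc0 yc40 zc19) (kc xc0 yc9 zc36) (kc xc0 yc8 zc6) (kc xc0 yc40 zc24) (kc xc0 yc29 zc58) (kc xc0 yc8 zc8) (kc xc0 yc40 zc30) (kc xc0 yc8 zc10) (kc xc0 yc40 zc33) (kc xc0 yc40 zc37) (kc xc0 yc40 zc39) (kc xc0 yc40 zc41) (kc xc0 yc40 zc43) (kc xc0 yc8 zc13) (kc xc0 yc40 zc47) (kc xc0 yc40 zc44) (kc xc0 yc8 zc14) (kc xc0 yc40 zc53) (kc xc0 yc40 zc45) (kc xc0 yc8 zc16) (kc xc0 yc41 zc2) (kc xc0 yc41 zc5) (kc xc0 yc41 zc0) (kc xc0 yc18 zc25) (kc xc0 yc17 zc50) (kc xc0 yc8 zc18) (kc xc0 yc18 zc28) (kc xc0 yc37 zc58) (kc xc0 yc20 zc4) (kc xc0 yc9 zc12) (kc xc0 yc37 zc59) (kc xc0 yc41 zc28) (kc xc0 yc41 zc32) (kc xc0 yc30 zc12) (kc xc0 yc41 zc38) (kc xc0 yc30 zc14) (kc xc0 yc14 zc47) (kc xc0 yc38 zc56) (kc xc0 yc20 zc7) (kc xc0 yc20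 zc8) (kc xc0 yc41 zc55) (kc xc0 yc8 zc26) (kc xc0 yc8 zc24) (kc xc0 yc8 zc25) (kc xc0 yc42 zc0) (kc xc0 yc8 zc27) (kc xc0 yc42 zc3) (kc xc0 yc42 zc1) (kc xc0 yc8 zc29) (kc xc0 yc42 zc12) (kc xc0 yc42 zc15) (kc xc0 yc42 zc11) (kc xc0 yc42 zc19) (kc xc0 yc42 zc22) (kc xc0 yc30 zc32) (kc xc0 yc42 zc29) (kc xc0 yc30 zc34) (kc xc0 yc38 zc54) (kc xc0 yc20 zc3) (kc xc0 yc20 zc2)) (@D3.rec (fun _ => Pt) (kc xc0 yc42 zc43) (kc xc0 yc8 zc33) (kc xc0 yc19 zc2) (kc xc0 yc42 zc49) (kc xc0 yc42 zc52) (kc xc0 yc30 zc40) (kc xc0 yc42 zc56) (kc xc0 yc37 zc21) (kc xc0 yc37 zc24) (kc xc0 yc38 zc33) (kc xc0 yc43 zc3) (kc xc0 yc43 zc5) (kc xc0 yc30 zc45) (kc xc0 yc38 zc24) (kc xc0 yc30 zc47) (kc xc0 yc20 zc12) (kc xc0 yc20 zc13) (kc xc0 yc8 zc40) (kc xc0 yc8 zc41) (kc xc0 yc43 zc16) (kc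 xc0 yc22 zc29) (kc xc0 yc10 zc17) (kc xc0 yc43 zc24) (kc xc0 yc38 zc10) (kc xc0 yc43 zc29) (kc xc0 yc42 zc48) (kc xc0 yc19 zc26) (kc xc0 yc43 zc38) (kc xc0 yc19 zc28) (kc xc0 yc8 zc47) (kc xc0 yc37 zc60) (kc xc0 yc43 zc44) (kc xc0 yc10 zc27) (kc xc0 yc20 zc44) (kc xc0 yc42 zc46) (kc xc0 yc8 zc48) (kc xc0 yc43 zc56) (kc xc0 yc43 zc55) (kc xc0 yc43 zc60) (kc xc0 yc8 zc49) (kc xc0 yc44 zc3) (kc xc0 yc44 zc2) (kc xc0 yc44 zc9) (kc xc0 yc44 zc12) (kc xc0 yc44 zc15) (kc xc0 yc8 zc51) (kc xc0 yc44 zc21) (kc xc0 yc44 zc22) (kc xc0 yc10 zc43) (kc xc0 yc44 zc31) (kc xc0 yc37 zc50) (kc xc0 yc44 zc38) (kc xc0 yc37 zc30) (kc xc0 yc44 zc19) (kc xc0 yc8 zc56) (kc xc0 yc44 zc53) (kc xc0 yc44 zc57) (kc xc0 yc44 zc51) (kc xc0 yc29 zc46) (kc xc0 yc9 zc6) (kc xc0 yc37 zc46) (kc xc0 yc45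 zc7)) (@D3.rec (fun _ => Pt) (kc xc0 yc20 zc0) (kc xc0 yc32 zc57) (kc xc0 yc18 zc61) (kc xc0 yc18 zc60) (kc xc0 yc18 zc30) (kc xc0 yc20 zc5) (kc xc0 yc9 zc4) (kc xc0 yc18 zc40) (kc xc0 yc18 zc41) (kc xc0 yc41 zc57) (kc xc0 yc9 zc21) (kc xc0 yc31 zc22) (kc xc0 yc19 zc15) (kc xc0 yc19 zc16) (kc xc0 yc23 zc18) (kc xc0 yc23 zc21) (kc xc0 yc9 zc27) (kc xc0 yc45 zc29) (kc xc0 yc9 zc29) (kc xc0 yc9 zc9) (kc xc0 yc45 zc34) (kc xc0 yc24 zc56) (kc xc0 yc9 zc11) (kc xc0 yc45 zc40) (kc xc0 yc45 zc43) (kc xc0 yc41 zc24) (kc xc0 yc45 zc48) (kc xc0 yc21 zc21) (kc xc0 yc30 zc16) (kc xc0 yc30 zc17) (kc xc0 yc40 zc1) (kc xc0 yc45 zc53) (kc xc0 yc42 zc18) (kc xc0 yc39 zc60) (kc xc0 yc39 zc61) (kc xc0 yc45 zc61) (kc xc0 yc9 zc20) (kc xc0 yc46 zc0) (kc xc0 yc46 zc2) (kc xc0 yc45 zc20) (kc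 xc0 yc45 zc2) (kc xc0 yc22 zc53) (kc xc0 yc45 zc21) (kc xc0 yc30 zc59) (kc xc0 yc19 zc33) (kc xc0 yc9 zc25) (kc xc0 yc46 zc14) (kc xc0 yc46 zc13) (kc xc0 yc46 zc19) (kc xc0 yc9 zc26) (kc xc0 yc46 zc24) (kc xc0 yc46 zc23) (kc xc0 yc46 zc27) (kc xc0 yc46 zc30) (kc xc0 yc46 zc33) (kc xc0 yc9 zc28) (kc xc0 yc46 zc38) (kc xc0 yc45 zc32) (kc xc0 yc24 zc16) (kc xc0 yc24 zc17) (kc xc0 yc24 zc27) (kc xc0 yc46 zc50)) (@D3.rec (fun _ => Pt) (kc xc0 yc40 zc7) (kc xc0 yc46 zc54) (kc xc0 yc46 zc58) (kc xc0 yc9 zc32) (kc xc0 yc47 zc3) (kc xc0 yc47 zc4) (kc xc0 yc47 zc8) (kc xc0 yc9 zc33) (kc xc0 yc47 zc12) (kc xc0 yc47 zc14) (kc xc0 yc47 zc17) (kc xc0 yc47 zc20) (kc xc0 yc9 zc35) (kc xc0 yc47 zc26) (kc xc0 yc47 zc27) (kc xc0 yc40 zc22) (kc xc0 yc47 zc24) (kc xc0 yc9 zc38) (kc xc0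 yc47 zc40) (kc xc0 yc47 zc44) (kc xc0 yc47 zc38) (kc xc0 yc20 zc27) (kc xc0 yc46 zc49) (kc xc0 yc47 zc48) (kc xc0 yc47 zc50) (kc xc0 yc47 zc52) (kc xc0 yc9 zc41) (kc xc0 yc42 zc39) (kc xc0 yc24 zc26) (kc xc0 yc45 zc19) (kc xc0 yc9 zc43) (kc xc0 yc48 zc1) (kc xc0 yc48 zc0) (kc xc0 yc48 zc6) (kc xc0 yc9 zc44) (kc xc0 yc48 zc9) (kc xc0 yc48 zc11) (kc xc0 yc21 zc37) (kc xc0 yc48 zc18) (kc xc0 yc48 zc21) (kc xc0 yc9 zc46) (kc xc0 yc48 zc26) (kc xc0 yc48 zc32) (kc xc0 yc48 zc34) (kc xc0 yc48 zc37) (kc xc0 yc21 zc45) (kc xc0 yc21 zc48) (kc xc0 yc24 zc9) (kc xc0 yc21 zc46) (kc xc0 yc22 zc16) (kc xc0 yc48 zc46) (kc xc0 yc41 zc52) (kc xc0 yc22 zc55) (kc xc0 yc9 zc51) (kc xc0 yc48 zc51) (kc xc0 yc9 zc53) (kc xc0 yc48 zc53) (kc xc0 yc41 zc60) (kc xc0 yc22 zc28) (kc xc0 yc39 zc59)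 (kc xc0 yc9 zc56) (kc xc0 yc49 zc1)) (@D3.rec (fun _ => Pt) (kc xc0 yc46 zc61) (kc xc0 yc9 zc57) (kc xc0 yc49 zc9) (kc xc0 yc49 zc8) (kc xc0 yc49 zc12) (kc xc0 yc22 zc5) (kc xc0 yc49 zc16) (kc xc0 yc49 zc19) (kc xc0 yc9 zc59) (kc xc0 yc49 zc24) (kc xc0 yc49 zc30) (kc xc0 yc49 zc32) (kc xc0 yc22 zc12) (kc xc0 yc24 zc3) (kc xc0 yc24 zc4) (kc xc0 yc49 zc38) (kc xc0 yc21 zc49) (kc xc0 yc10 zc0) (kc xc0 yc22 zc27) (kc xc0 yc23 zc4) (kc xc0 yc10 zc2) (kc xc0 yc49 zc45) (kc xc0 yc49 zc47) (kc xc0 yc10 zc3) (kc xc0 yc49 zc49) (kc xc0 yc10 zc5) (kc xc0 yc49 zc54) (kc xc0 yc22 zc18) (kc xc0 yc21 zc58) (kc xc0 yc19 zc20) (kc xc0 yc10 zc7) (kc xc0 yc23 zc22) (kc xc0 yc10 zc8) (kc xc0 yc50 zc1) (kc xc0 yc22 zc34) (kc xc0 yc10 zc10) (kc xc0 yc50 zc6) (kc xc0 yc50 zc10) (kc xc0 yc50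 zc12) (kc xc0 yc43 zc12) (kc xc0 yc22 zc54) (kc xc0 yc43 zc10) (kc xc0 yc10 zc15) (kc xc0 yc50 zc18) (kc xc0 yc50 zc17) (kc xc0 yc50 zc21) (kc xc0 yc10 zc16) (kc xc0 yc50 zc24) (kc xc0 yc50 zc26) (kc xc0 yc50 zc28) (kc xc0 yc50 zc31) (kc xc0 yc10 zc18) (kc xc0 yc50 zc36) (kc xc0 yc20 zc41) (kc xc0 yc22 zc40) (kc xc0 yc21 zc52) (kc xc0 yc10 zc20) (kc xc0 yc50 zc48) (kc xc0 yc46 zc10) (kc xc0 yc10 zc21) (kc xc0 yc50 zc55) (kc xc0 yc50 zc54)) (@D3.rec (fun _ => Pt) (kc xc0 yc10 zc22) (kc xc0 yc50 zc61) (kc xc0 yc50 zc60) (kc xc0 yc46 zc17) (kc xc0 yc22 zc19) (kc xc0 yc51 zc8) (kc xc0 yc10 zc25) (kc xc0 yc51 zc13) (kc xc0 yc51 zc16) (kc xc0 yc10 zc24) (kc xc0 yc51 zc21) (kc xc0 yc51 zc24) (kc xc0 yc51 zc26) (kc xc0 yc51 zc28) (kc xc0 yc43 zc46) (kc xc0 yc49 zc60) (kc xc0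 yc10 zc28) (kc xc0 yc43 zc19) (kc xc0 yc20 zc14) (kc xc0 yc10 zc29) (kc xc0 yc51 zc37) (kc xc0 yc20 zc15) (kc xc0 yc22 zc31) (kc xc0 yc46 zc8) (kc xc0 yc51 zc34) (kc xc0 yc51 zc47) (kc xc0 yc10 zc32) (kc xc0 yc10 zc31) (kc xc0 yc51 zc55) (kc xc0 yc51 zc50) (kc xc0 yc10 zc33) (kc xc0 yc51 zc60) (kc xc0 yc51 zc59) (kc xc0 yc50 zc50) (kc xc0 yc52 zc2) (kc xc0 yc10 zc36) (kc xc0 yc10 zc35) (kc xc0 yc52 zc9) (kc xc0 yc44 zc5) (kc xc0 yc52 zc12) (kc xc0 yc52 zc15) (kc xc0 yc10 zc37) (kc xc0 yc52 zc21) (kc xc0 yc52 zc26) (kc xc0 yc10 zc38) (kc xc0 yc52 zc32) (kc xc0 yc52 zc37) (kc xc0 yc10 zc39) (kc xc0 yc52 zc41) (kc xc0 yc52 zc46) (kc xc0 yc52 zc50) (kc xc0 yc10 zc48) (kc xc0 yc52 zc59) (kc xc0 yc10 zc41) (kc xc0 yc10 zc42) (kc xc0 yc53 zc6) (kc xc0 yc53 zc10) (kc xc0 yc53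 zc3) (kc xc0 yc53 zc4) (kc xc0 yc53 zc18) (kc xc0 yc53 zc20) (kc xc0 yc53 zc22)) (@D3.rec (fun _ => Pt) (kc xc0 yc53 zc23) (kc xc0 yc10 zc44) (kc xc0 yc53 zc28) (kc xc0 yc22 zc13) (kc xc0 yc22 zc14) (kc xc0 yc24 zc11) (kc xc0 yc53 zc36) (kc xc0 yc10 zc46) (kc xc0 yc53 zc41) (kc xc0 yc21 zc47) (kc xc0 yc50 zc42) (kc xc0 yc24 zc5) (kc xc0 yc53 zc51) (kc xc0 yc53 zc54) (kc xc0 yc52 zc54) (kc xc0 yc52 zc56) (kc xc0 yc20 zc58) (kc xc0 yc20 zc59) (kc xc0 yc24 zc22) (kc xc0 yc10 zc52) (kc xc0 yc54 zc6) (kc xc0 yc10 zc50) (kc xc0 yc24 zc18) (kc xc0 yc54 zc3) (kc xc0 yc54 zc12) (kc xc0 yc10 zc51) (kc xc0 yc21 zc28) (kc xc0 yc20 zc60) (kc xc0 yc46 zc46) (kc xc0 yc54 zc16) (kc xc0 yc50 zc41) (kc xc0 yc10 zc55) (kc xc0 yc12 zc22) (kc xc0 yc10 zc57) (kc xc0 yc54 zc25) (kc xc0 yc54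 zc29) (kc xc0 yc54 zc24) (kc xc0 yc54 zc31) (kc xc0 yc54 zc33) (kc xc0 yc10 zc59) (kc xc0 yc54 zc37) (kc xc0 yc31 zc24) (kc xc0 yc15 zc44) (kc xc0 yc35 zc3) (kc xc0 yc54 zc47) (kc xc0 yc11 zc3) (kc xc0 yc54 zc49) (kc xc0 yc28 zc37) (kc xc0 yc54 zc22) (kc xc0 yc54 zc54) (kc xc0 yc28 zc40) (kc xc0 yc29 zc4) (kc xc0 yc29 zc5) (kc xc0 yc11 zc2) (kc xc0 yc54 zc60) (kc xc0 yc54 zc35) (kc xc0 yc20 zc21) (kc xc0 yc27 zc55) (kc xc0 yc54 zc21) (kc xc0 yc55 zc10) (kc xc0 yc31 zc52) (kc xc0 yc54 zc34)) (@D3.rec (fun _ => Pt) (kc xc0 yc11 zc7) (kc xc0 yc11 zc9) (kc xc0 yc28 zc0) (kc xc0 yc55 zc19) (kc xc0 yc55 zc15) (kc xc0 yc55 zc21) (kc xc0 yc28 zc22) (kc xc0 yc11 zc11) (kc xc0 yc55 zc26) (kc xc0 yc26 zc51) (kc xc0 yc11 zc58) (kc xc0 yc11 zc14) (kc xc0 yc27 zc0) (kc xc0 yc16 zc17)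 (kc xc0 yc55 zc31) (kc xc0 yc55 zc36) (kc xc0 yc55 zc39) (kc xc0 yc55 zc44) (kc xc0 yc33 zc50) (kc xc0 yc11 zc17) (kc xc0 yc55 zc50) (kc xc0 yc55 zc53) (kc xc0 yc55 zc58) (kc xc0 yc55 zc49) (kc xc0 yc11 zc26) (kc xc0 yc15 zc40) (kc xc0 yc11 zc56) (kc xc0 yc11 zc42) (kc xc0 yc31 zc25) (kc xc0 yc11 zc47) (kc xc0 yc11 zc60) (kc xc0 yc56 zc18) (kc xc0 yc11 zc25) (kc xc0 yc11 zc23) (kc xc0 yc56 zc23) (kc xc0 yc56 zc21) (kc xc0 yc11 zc24) (kc xc0 yc56 zc31) (kc xc0 yc56 zc30) (kc xc0 yc55 zc46) (kc xc0 yc55 zc47) (kc xc0 yc56 zc41) (kc xc0 yc55 zc61) (kc xc0 yc56 zc44) (kc xc0 yc33 zc1) (kc xc0 yc12 zc34) (kc xc0 yc28 zc29) (kc xc0 yc56 zc54) (kc xc0 yc11 zc32) (kc xc0 yc33 zc47) (kc xc0 yc56 zc60) (kc xc0 yc35 zc24) (kc xc0 yc57 zc0) (kc xc0 yc35 zc27) (kc xc0 yc57 zc3)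 (kc xc0 yc57 zc4) (kc xc0 yc11 zc31) (kc xc0 yc57 zc8) (kc xc0 yc57 zc10) (kc xc0 yc56 zc43) (kc xc0 yc17 zc32) (kc xc0 yc17 zc33)) (@D3.rec (fun _ => Pt) (kc xc0 yc13 zc11) (kc xc0 yc13 zc12) (kc xc0 yc57 zc24) (kc xc0 yc11 zc38) (kc xc0 yc57 zc28) (kc xc0 yc39 zc15) (kc xc0 yc57 zc30) (kc xc0 yc39 zc18) (kc xc0 yc39 zc38) (kc xc0 yc39 zc39) (kc xc0 yc11 zc37) (kc xc0 yc57 zc35) (kc xc0 yc11 zc39) (kc xc0 yc57 zc38) (kc xc0 yc32 zc14) (kc xc0 yc11 zc40) (kc xc0 yc57 zc43) (kc xc0 yc34 zc36) (kc xc0 yc57 zc52) (kc xc0 yc57 zc56) (kc xc0 yc57 zc61) (kc xc0 yc56 zc5) (kc xc0 yc58 zc3) (kc xc0 yc58 zc7) (kc xc0 yc14 zc2) (kc xc0 yc26 zc44) (kc xc0 yc58 zc15) (kc xc0 yc14 zc4) (kc xc0 yc58 zc20) (kc xc0 yc58 zc23) (kc xc0 yc11 zc45) (kc xc0 yc58 zc29) (kc xc0 yc36 zc31)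 (kc xc0 yc58 zc32) (kc xc0 yc56 zc12) (kc xc0 yc56 zc10) (kc xc0 yc58 zc44) (kc xc0 yc11 zc50) (kc xc0 yc35 zc50) (kc xc0 yc11 zc49) (kc xc0 yc36 zc10) (kc xc0 yc58 zc9) (kc xc0 yc33 zc35) (kc xc0 yc58 zc47) (kc xc0 yc26 zc25) (kc xc0 yc58 zc56) (kc xc0 yc11 zc53) (kc xc0 yc11 zc52) (kc xc0 yc35 zc53) (kc xc0 yc36 zc16) (kc xc0 yc58 zc59) (kc xc0 yc25 zc9) (kc xc0 yc11 zc55) (kc xc0 yc33 zc48) (kc xc0 yc59 zc4) (kc xc0 yc56 zc2) (kc xc0 yc59 zc6) (kc xc0 yc26 zc59) (kc xc0 yc12 zc2) (kc xc0 yc26 zc57) (kc xc0 yc12 zc3) (kc xc0 yc55 zc29)) (@D3.rec (fun _ => Pt) (kc xc0 yc25 zc12) (kc xc0 yc59 zc23) (kc xc0 yc11 zc61) (kc xc0 yc59 zc25) (kc xc0 yc56 zc15) (kc xc0 yc15 zc28) (kc xc0 yc59 zc31) (kc xc0 yc34 zc26) (kc xc0 yc59 zc10) (kc xc0 yc15 zc56) (kc xc0 yc59 zc43)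 (kc xc0 yc59 zc48) (kc xc0 yc59 zc15) (kc xc0 yc27 zc23) (kc xc0 yc59 zc56) (kc xc0 yc14 zc15) (kc xc0 yc56 zc13) (kc xc1 yc0 zc2) (kc xc0 yc14 zc17) (kc xc1 yc0 zc7) (kc xc1 yc0 zc10) (kc xc0 yc12 zc6) (kc xc0 yc58 zc28) (kc xc0 yc27 zc13) (kc xc1 yc0 zc21) (kc xc0 yc12 zc10) (kc xc1 yc0 zc26) (kc xc0 yc12 zc9) (kc xc1 yc0 zc28) (kc xc0 yc59 zc58) (kc xc0 yc34 zc17) (kc xc1 yc0 zc24) (kc xc0 yc12 zc11) (kc xc1 yc0 zc32) (kc xc1 yc0 zc31) (kc xc0 yc28 zc32) (kc xc1 yc0 zc40) (kc xc0 yc12 zc14) (kc xc0 yc12 zc13) (kc xc1 yc0 zc4) (kc xc1 yc0 zc45) (kc xc1 yc0 zc43) (kc xc0 yc12 zc16) (kc xc1 yc0 zc49) (kc xc1 yc0 zc52) (kc xc1 yc0 zc48) (kc xc0 yc27 zc53) (kc xc0 yc12 zc18) (kc xc1 yc0 zc58) (kc xc1 yc0 zc61) (kc xc1 yc0 zc57) (kc xc0 yc14 zc51) (kc xc0 yc14 zc18) (kc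 xc0 yc27 zc46) (kc xc0 yc14 zc50) (kc xc0 yc24 zc57) (kc xc0 yc59 zc8) (kc xc0 yc12 zc36) (kc xc0 yc17 zc30) (kc xc0 yc12 zc37) (kc xc0 yc54 zc20) (kc xc0 yc14 zc33)) (@D3.rec (fun _ => Pt) (kc xc0 yc25 zc2) (kc xc1 yc1 zc24) (kc xc0 yc12 zc27) (kc xc0 yc12 zc24) (kc xc1 yc1 zc30) (kc xc1 yc1 zc28) (kc xc0 yc12 zc25) (kc xc1 yc1 zc37) (kc xc1 yc1 zc36) (kc xc1 yc1 zc38) (kc xc1 yc1 zc40) (kc xc0 yc12 zc26) (kc xc1 yc1 zc46) (kc xc0 yc12 zc28) (kc xc1 yc1 zc52) (kc xc0 yc12 zc29) (kc xc1 yc1 zc57) (kc xc0 yc12 zc30) (kc xc0 yc12 zc31) (kc xc0 yc17 zc54) (kc xc1 yc2 zc2) (kc xc0 yc14 zc43) (kc xc0 yc25 zc6) (kc xc0 yc13 zc2) (kc xc1 yc2 zc17) (kc xc0 yc12 zc33) (kc xc1 yc2 zc20) (kc xc0 yc15 zc42) (kc xc0 yc56 zc47) (kc xc0 yc25 zc46) (kc xc1 yc1 zc9) (kc xc0 yc58 zc39)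 (kc xc0 yc27 zc35) (kc xc1 yc2 zc40) (kc xc1 yc1 zc13) (kc xc1 yc1 zc26) (kc xc1 yc2 zc45) (kc xc0 yc24 zc47) (kc xc0 yc59 zc37) (kc xc1 yc2 zc52) (kc xc0 yc24 zc50) (kc xc1 yc2 zc55) (kc xc1 yc2 zc58) (kc xc0 yc12 zc40) (kc xc1 yc3 zc2) (kc xc1 yc3 zc4) (kc xc0 yc31 zc48) (kc xc1 yc3 zc9) (kc xc0 yc12 zc45) (kc xc1 yc3 zc12) (kc xc1 yc3 zc13) (kc xc0 yc12 zc44) (kc xc1 yc3 zc17) (kc xc1 yc2 zc47) (kc xc1 yc3 zc11) (kc xc0 yc28 zc55) (kc xc1 yc3 zc23) (kc xc0 yc12 zc48) (kc xc0 yc12 zc47) (kc xc0 yc58 zc49) (kc xc1 yc3 zc27) (kc xc0 yc12 zc49)) (@D3.rec (fun _ => Pt) (kc xc0 yc58 zc58) (kc xc1 yc3 zc29) (kc xc0 yc12 zc50) (kc xc1 yc3 zc36) (kc xc0 yc24 zc51) (kc xc0 yc24 zc52) (kc xc1 yc1 zc44) (kc xc1 yc3 zc52) (kc xc0 yc12 zc52) (kc xc1 yc3 zc55) (kc xc0 yc12 zc53)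 (kc xc1 yc3 zc56) (kc xc0 yc16 zc56) (kc xc0 yc13 zc52) (kc xc0 yc12 zc55) (kc xc1 yc4 zc2) (kc xc1 yc4 zc4) (kc xc1 yc3 zc61) (kc xc0 yc29 zc18) (kc xc0 yc13 zc51) (kc xc0 yc12 zc57) (kc xc1 yc4 zc13) (kc xc1 yc4 zc14) (kc xc1 yc3 zc59) (kc xc0 yc12 zc58) (kc xc0 yc36 zc57) (kc xc0 yc13 zc44) (kc xc0 yc29 zc27) (kc xc0 yc13 zc43) (kc xc0 yc12 zc61) (kc xc1 yc4 zc30) (kc xc1 yc4 zc31) (kc xc1 yc4 zc29) (kc xc1 yc1 zc60) (kc xc0 yc13 zc40) (kc xc0 yc14 zc25) (kc xc1 yc4 zc43) (kc xc0 yc13 zc38) (kc xc0 yc17 zc56) (kc xc1 yc4 zc52) (kc xc1 yc4 zc57) (kc xc1 yc2 zc13) (kc xc1 yc5 zc1) (kc xc1 yc2 zc15) (kc xc0 yc13 zc34) (kc xc0 yc13 zc26) (kc xc0 yc19 zc58) (kc xc0 yc13 zc5) (kc xc1 yc5 zc15) (kc xc1 yc5 zc17) (kc xc0 yc13 zc9) (kc xc0 yc15 zc6) (kc xc0 yc34 zc18) (kc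 xc1 yc5 zc22) (kc xc0 yc57 zc22) (kc xc0 yc13 zc13) (kc xc1 yc5 zc25) (kc xc1 yc5 zc20) (kc xc0 yc18 zc6) (kc xc1 yc5 zc30) (kc xc1 yc5 zc33) (kc xc0 yc29 zc61)) (@D3.rec (fun _ => Pt) (kc xc1 yc5 zc38) (kc xc0 yc13 zc18) (kc xc1 yc5 zc41) (kc xc0 yc37 zc22) (kc xc1 yc1 zc50) (kc xc0 yc13 zc22) (kc xc0 yc37 zc31) (kc xc0 yc37 zc32) (kc xc1 yc5 zc52) (kc xc0 yc30 zc9) (kc xc1 yc5 zc61) (kc xc1 yc6 zc0) (kc xc0 yc18 zc35) (kc xc1 yc6 zc5) (kc xc0 yc18 zc37) (kc xc1 yc5 zc7) (kc xc0 yc20 zc28) (kc xc0 yc20 zc29) (kc xc1 yc6 zc18) (kc xc0 yc13 zc29) (kc xc0 yc13 zc28) (kc xc1 yc1 zc49) (kc xc1 yc1 zc48) (kc xc0 yc13 zc30) (kc xc1 yc6 zc25) (kc xc1 yc6 zc23) (kc xc0 yc13 zc32) (kc xc0 yc37 zc47) (kc xc0 yc37 zc48) (kc xc1 yc6 zc34) (kc xc1 yc6 zc38) (kc xc1 yc6 zc40) (kc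 xc0 yc18 zc56) (kc xc1 yc6 zc46) (kc xc0 yc18 zc58) (kc xc1 yc5 zc5) (kc xc1 yc6 zc55) (kc xc0 yc13 zc36) (kc xc1 yc6 zc57) (kc xc0 yc51 zc1) (kc xc0 yc19 zc5) (kc xc1 yc6 zc60) (kc xc1 yc4 zc46) (kc xc1 yc7 zc3) (kc xc1 yc7 zc5) (kc xc0 yc19 zc12) (kc xc1 yc7 zc8) (kc xc0 yc19 zc14) (kc xc1 yc4 zc37) (kc xc1 yc7 zc7) (kc xc1 yc7 zc11) (kc xc1 yc7 zc2) (kc xc0 yc30 zc52) (kc xc1 yc7 zc19) (kc xc1 yc4 zc25) (kc xc1 yc4 zc19) (kc xc0 yc44 zc0) (kc xc0 yc30 zc57) (kc xc1 yc7 zc30) (kc xc0 yc20 zc43) (kc xc0 yc13 zc46) (kc xc1 yc7 zc35)) (@D3.rec (fun _ => Pt) (kc xc1 yc7 zc34) (kc xc0 yc43 zc59) (kc xc0 yc13 zc47) (kc xc1 yc7 zc40) (kc xc1 yc7 zc39) (kc xc1 yc7 zc44) (kc xc1 yc7 zc47) (kc xc1 yc7 zc50) (kc xc0 yc13 zc49) (kc xc1 yc7 zc56) (kc xc1 yc7 zc57) (kc xc0 yc31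 zc11) (kc xc1 yc8 zc4) (kc xc1 yc4 zc11) (kc xc1 yc8 zc11) (kc xc1 yc4 zc0) (kc xc1 yc7 zc54) (kc xc0 yc13 zc54) (kc xc1 yc8 zc26) (kc xc1 yc8 zc29) (kc xc1 yc8 zc24) (kc xc0 yc17 zc18) (kc xc0 yc20 zc11) (kc xc1 yc8 zc37) (kc xc0 yc24 zc41) (kc xc0 yc25 zc28) (kc xc0 yc31 zc26) (kc xc1 yc8 zc48) (kc xc1 yc8 zc52) (kc xc1 yc8 zc57) (kc xc0 yc31 zc30) (kc xc1 yc0 zc12) (kc xc1 yc0 zc13) (kc xc0 yc13 zc60) (kc xc1 yc9 zc3) (kc xc0 yc14 zc0) (kc xc1 yc9 zc7) (kc xc1 yc9 zc6) (kc xc0 yc14 zc1) (kc xc1 yc0 zc23) (kc xc0 yc58 zc10) (kc xc0 yc14 zc3) (kc xc0 yc58 zc18) (kc xc1 yc9 zc12) (kc xc0 yc14 zc6) (kc xc0 yc33 zc41) (kc xc0 yc15 zc9) (kc xc1 yc3 zc28) (kc xc0 yc28 zc46) (kc xc0 yc36 zc50) (kc xc0 yc16 zc16) (kc xc1 yc9 zc20) (kc xc0 yc24 zc60) (kc xc0 yc58 zc25) (kc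 xc0 yc58 zc26) (kc xc0 yc14 zc12) (kc xc1 yc9 zc2) (kc xc0 yc14 zc14) (kc xc0 yc58 zc46) (kc xc0 yc59 zc59) (kc xc0 yc14 zc16) (kc xc1 yc0 zc5)) (@D3.rec (fun _ => Pt) (kc xc0 yc57 zc18) (kc xc1 yc0 zc55) (kc xc1 yc2 zc7) (kc xc1 yc1 zc3) (kc xc1 yc9 zc36) (kc xc1 yc9 zc37) (kc xc0 yc33 zc55) (kc xc0 yc34 zc16) (kc xc0 yc38 zc26) (kc xc1 yc9 zc38) (kc xc1 yc9 zc39) (kc xc0 yc33 zc12) (kc xc0 yc33 zc34) (kc xc1 yc4 zc39) (kc xc0 yc26 zc14) (kc xc0 yc14 zc27) (kc xc1 yc9 zc41) (kc xc0 yc14 zc28) (kc xc1 yc9 zc45) (kc xc0 yc15 zc43) (kc xc1 yc9 zc54) (kc xc1 yc9 zc58) (kc xc1 yc10 zc1) (kc xc0 yc15 zc51) (kc xc1 yc2 zc60) (kc xc1 yc2 zc61) (kc xc0 yc14 zc31) (kc xc1 yc10 zc9) (kc xc1 yc10 zc13) (kc xc1 yc1 zc18) (kc xc1 yc3 zc14) (kc xc0 yc14 zc34) (kc xc1 yc10 zc19) (kc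 xc0 yc35 zc41) (kc xc0 yc14 zc36) (kc xc1 yc10 zc24) (kc xc1 yc10 zc22) (kc xc0 yc14 zc37) (kc xc1 yc1 zc42) (kc xc0 yc36 zc61) (kc xc1 yc10 zc30) (kc xc0 yc37 zc2) (kc xc0 yc16 zc32) (kc xc1 yc10 zc38) (kc xc0 yc14 zc42) (kc xc1 yc10 zc41) (kc xc0 yc14 zc44) (kc xc1 yc10 zc43) (kc xc1 yc4 zc26) (kc xc1 yc4 zc27) (kc xc0 yc38 zc35) (kc xc1 yc10 zc49) (kc xc1 yc10 zc54) (kc xc0 yc17 zc13) (kc xc1 yc10 zc60) (kc xc0 yc17 zc15) (kc xc0 yc41 zc45) (kc xc0 yc20 zc1) (kc xc0 yc14 zc49) (kc xc0 yc38 zc60) (kc xc0 yc38 zc61) (kc xc0 yc34 zc40)) (@D3.rec (fun _ => Pt) (kc xc1 yc1 zc5) (kc xc0 yc25 zc44) (kc xc1 yc1 zc1) (kc xc0 yc33 zc3) (kc xc1 yc11 zc21) (kc xc1 yc11 zc25) (kc xc1 yc11 zc30) (kc xc0 yc33 zc7) (kc xc0 yc33 zc60) (kc xc1 yc11 zc35) (kc xc0 yc35 zc7) (kc xc1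 yc11 zc41) (kc xc0 yc32 zc11) (kc xc1 yc11 zc45) (kc xc1 yc11 zc48) (kc xc0 yc14 zc56) (kc xc1 yc11 zc54) (kc xc0 yc14 zc58) (kc xc1 yc11 zc60) (kc xc1 yc11 zc56) (kc xc1 yc12 zc2) (kc xc1 yc12 zc5) (kc xc1 yc12 zc6) (kc xc0 yc14 zc60) (kc xc0 yc33 zc53) (kc xc1 yc12 zc13) (kc xc0 yc15 zc1) (kc xc0 yc15 zc0) (kc xc1 yc12 zc18) (kc xc1 yc12 zc19) (kc xc0 yc15 zc2) (kc xc1 yc12 zc23) (kc xc0 yc15 zc3) (kc xc1 yc12 zc26) (kc xc0 yc32 zc12) (kc xc0 yc26 zc42) (kc xc0 yc33 zc36) (kc xc1 yc12 zc40) (kc xc0 yc15 zc5) (kc xc1 yc9 zc14) (kc xc0 yc39 zc30) (kc xc0 yc31 zc45) (kc xc0 yc39 zc29) (kc xc1 yc12 zc45) (kc xc1 yc12 zc47) (kc xc0 yc15 zc8) (kc xc0 yc39 zc28) (kc xc0 yc25 zc49) (kc xc0 yc26 zc53) (kc xc1 yc12 zc56) (kc xc0 yc25 zc18) (kc xc1 yc12 zc60) (kc xc1 yc13 zc2)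 (kc xc0 yc33 zc24) (kc xc1 yc13 zc6) (kc xc0 yc32 zc6) (kc xc1 yc13 zc10) (kc xc1 yc13 zc13) (kc xc0 yc15 zc13) (kc xc1 yc13 zc19) (kc xc0 yc33 zc8) (kc xc1 yc13 zc24)) (@D3.rec (fun _ => Pt) (kc xc1 yc13 zc26) (kc xc1 yc13 zc27) (kc xc0 yc15 zc16) (kc xc0 yc15 zc17) (kc xc1 yc13 zc37) (kc xc1 yc13 zc34) (kc xc1 yc13 zc32) (kc xc1 yc13 zc41) (kc xc0 yc15 zc20) (kc xc0 yc15 zc19) (kc xc1 yc13 zc46) (kc xc0 yc15 zc21) (kc xc1 yc13 zc49) (kc xc1 yc13 zc50) (kc xc0 yc15 zc22) (kc xc1 yc13 zc54) (kc xc0 yc32 zc7) (kc xc0 yc27 zc30) (kc xc0 yc29 zc52) (kc xc1 yc14 zc3) (kc xc0 yc15 zc24) (kc xc0 yc15 zc25) (kc xc1 yc14 zc6) (kc xc0 yc57 zc9) (kc xc0 yc15 zc26) (kc xc1 yc14 zc9) (kc xc0 yc27 zc7) (kc xc1 yc14 zc16) (kc xc1 yc14 zc20) (kc xc1 yc14 zc25) (kc xc0 yc59 zc30) (kc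 xc1 yc11 zc50) (kc xc1 yc11 zc51) (kc xc0 yc15 zc29) (kc xc1 yc14 zc33) (kc xc0 yc58 zc61) (kc xc0 yc26 zc17) (kc xc0 yc15 zc32) (kc xc1 yc14 zc37) (kc xc0 yc57 zc37) (kc xc0 yc32 zc61) (kc xc0 yc15 zc34) (kc xc0 yc39 zc13) (kc xc0 yc57 zc44) (kc xc1 yc14 zc55) (kc xc1 yc14 zc47) (kc xc1 yc13 zc15) (kc xc1 yc13 zc16) (kc xc0 yc15 zc35) (kc xc1 yc15 zc1) (kc xc0 yc15 zc41) (kc xc0 yc15 zc39) (kc xc1 yc9 zc42) (kc xc1 yc15 zc13) (kc xc1 yc15 zc9) (kc xc0 yc56 zc0) (kc xc1 yc9 zc46) (kc xc1 yc15 zc20) (kc xc1 yc15 zc6) (kc xc1 yc2 zc23) (kc xc0 yc35 zc10) (kc xc1 yc15 zc28)) (@D3.rec (fun _ => Pt) (kc xc1 yc15 zc33) (kc xc1 yc9 zc52) (kc xc0 yc54 zc40) (kc xc0 yc24 zc43) (kc xc1 yc8 zc38) (kc xc0 yc15 zc47) (kc xc1 yc12 zc59) (kc xc0 yc33 zc10) (kc xc1 yc15 zc48) (kc xc1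 yc15 zc40) (kc xc0 yc34 zc60) (kc xc0 yc15 zc48) (kc xc1 yc15 zc59) (kc xc1 yc15 zc56) (kc xc1 yc16 zc3) (kc xc0 yc15 zc49) (kc xc1 yc16 zc8) (kc xc1 yc16 zc7) (kc xc1 yc16 zc13) (kc xc1 yc16 zc17) (kc xc0 yc15 zc50) (kc xc1 yc16 zc24) (kc xc1 yc12 zc48) (kc xc1 yc16 zc29) (kc xc0 yc25 zc51) (kc xc1 yc14 zc39) (kc xc1 yc16 zc33) (kc xc0 yc25 zc53) (kc xc1 yc16 zc36) (kc xc1 yc16 zc39) (kc xc0 yc15 zc54) (kc xc1 yc16 zc45) (kc xc1 yc16 zc47) (kc xc0 yc59 zc36) (kc xc1 yc16 zc53) (kc xc0 yc59 zc41) (kc xc1 yc16 zc59) (kc xc1 yc16 zc61) (kc xc0 yc15 zc57) (kc xc1 yc17 zc5) (kc xc0 yc16 zc11) (kc xc0 yc32 zc33) (kc xc0 yc57 zc50) (kc xc1 yc17 zc11) (kc xc0 yc15 zc59) (kc xc1 yc17 zc19) (kc xc1 yc17 zc16) (kc xc0 yc15 zc60) (kc xc1 yc17 zc27) (kc xc1 yc17 zc32) (kc xc0 yc26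 zc38) (kc xc1 yc17 zc34) (kc xc0 yc16 zc0) (kc xc0 yc26 zc48) (kc xc1 yc17 zc40) (kc xc1 yc17 zc46) (kc xc0 yc16 zc1) (kc xc1 yc17 zc50) (kc xc0 yc54 zc45) (kc xc0 yc54 zc46) (kc xc1 yc16 zc22) (kc xc1 yc3 zc54)) (@D3.rec (fun _ => Pt) (kc xc0 yc16 zc3) (kc xc1 yc18 zc6) (kc xc1 yc18 zc10) (kc xc0 yc36 zc3) (kc xc1 yc18 zc16) (kc xc0 yc36 zc5) (kc xc1 yc18 zc23) (kc xc1 yc18 zc26) (kc xc0 yc16 zc5) (kc xc1 yc18 zc29) (kc xc0 yc26 zc40) (kc xc1 yc16 zc42) (kc xc0 yc16 zc13) (kc xc1 yc18 zc36) (kc xc0 yc16 zc7) (kc xc0 yc16 zc8) (kc xc0 yc26 zc49) (kc xc0 yc42 zc17) (kc xc0 yc36 zc18) (kc xc1 yc18 zc4) (kc xc0 yc16 zc10) (kc xc1 yc18 zc56) (kc xc1 yc18 zc57) (kc xc1 yc18 zc54) (kc xc0 yc16 zc12) (kc xc1 yc18 zc61) (kc xc0 yc37 zc45) (kc xc1 yc19 zc2) (kc xc0 yc16 zc15)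 (kc xc1 yc12 zc43) (kc xc1 yc9 zc17) (kc xc0 yc26 zc32) (kc xc1 yc19 zc7) (kc xc0 yc55 zc35) (kc xc0 yc16 zc18) (kc xc1 yc19 zc14) (kc xc1 yc19 zc19) (kc xc0 yc16 zc22) (kc xc0 yc39 zc52) (kc xc1 yc18 zc3) (kc xc0 yc16 zc21) (kc xc0 yc36 zc41) (kc xc1 yc17 zc58) (kc xc0 yc16 zc25) (kc xc0 yc16 zc24) (kc xc1 yc19 zc38) (kc xc1 yc19 zc39) (kc xc1 yc19 zc21) (kc xc1 yc19 zc35) (kc xc0 yc16 zc26) (kc xc0 yc31 zc49) (kc xc0 yc38 zc0) (kc xc1 yc3 zc33) (kc xc1 yc17 zc55) (kc xc0 yc16 zc29) (kc xc0 yc16 zc28) (kc xc1 yc19 zc47) (kc xc0 yc29 zc25) (kc xc1 yc19 zc42) (kc xc1 yc19 zc51) (kc xc1 yc17 zc49) (kc xc0 yc32 zc39)) (@D3.rec (fun _ => Pt) (kc xc1 yc20 zc0) (kc xc1 yc17 zc39) (kc xc0 yc32 zc41) (kc xc1 yc20 zc9) (kc xc1 yc20 zc13) (kc xc1 yc10 zc35) (kc xc1 yc20 zc19)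 (kc xc1 yc10 zc37) (kc xc1 yc17 zc26) (kc xc1 yc17 zc4) (kc xc0 yc16 zc33) (kc xc1 yc20 zc28) (kc xc1 yc3 zc1) (kc xc0 yc16 zc35) (kc xc0 yc16 zc36) (kc xc1 yc20 zc36) (kc xc1 yc20 zc34) (kc xc0 yc16 zc38) (kc xc1 yc3 zc15) (kc xc1 yc20 zc47) (kc xc0 yc39 zc48) (kc xc0 yc19 zc7) (kc xc0 yc30 zc3) (kc xc1 yc20 zc58) (kc xc0 yc19 zc8) (kc xc1 yc21 zc0) (kc xc1 yc21 zc3) (kc xc0 yc37 zc27) (kc xc1 yc21 zc10) (kc xc0 yc37 zc29) (kc xc0 yc19 zc52) (kc xc0 yc30 zc6) (kc xc0 yc30 zc7) (kc xc1 yc21 zc25) (kc xc0 yc16 zc46) (kc xc1 yc21 zc27) (kc xc0 yc16 zc44) (kc xc1 yc21 zc31) (kc xc0 yc16 zc45) (kc xc1 yc21 zc35) (kc xc1 yc21 zc34) (kc xc0 yc16 zc47) (kc xc0 yc38 zc2) (kc xc0 yc16 zc48) (kc xc0 yc16 zc49) (kc xc0 yc36 zc26) (kc xc0 yc19 zc60) (kc xc0 yc30 zc27) (kc xc0 yc30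 zc28) (kc xc1 yc21 zc44) (kc xc0 yc19 zc50) (kc xc0 yc16 zc54) (kc xc1 yc21 zc51) (kc xc0 yc16 zc55) (kc xc1 yc21 zc54) (kc xc1 yc21 zc57) (kc xc0 yc37 zc56) (kc xc1 yc21 zc61) (kc xc0 yc18 zc29) (kc xc0 yc18 zc32) (kc xc0 yc19 zc30) (kc xc0 yc16 zc61)) (@D3.rec (fun _ => Pt) (kc xc0 yc36 zc51) (kc xc0 yc16 zc60) (kc xc0 yc37 zc42) (kc xc1 yc19 zc0) (kc xc1 yc5 zc14) (kc xc0 yc41 zc3) (kc xc0 yc41 zc6) (kc xc1 yc5 zc19) (kc xc1 yc22 zc18) (kc xc0 yc17 zc21) (kc xc0 yc19 zc23) (kc xc0 yc39 zc55) (kc xc0 yc39 zc56) (kc xc1 yc18 zc30) (kc xc0 yc17 zc4) (kc xc0 yc17 zc2) (kc xc1 yc22 zc34) (kc xc0 yc17 zc3) (kc xc1 yc22 zc38) (kc xc1 yc22 zc42) (kc xc1 yc22 zc44) (kc xc0 yc17 zc5) (kc xc1 yc22 zc53) (kc xc1 yc22 zc50) (kc xc0 yc19 zc13) (kc xc1 yc22 zc61) (kc xc0 yc32 zc8)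 (kc xc1 yc23 zc1) (kc xc1 yc23 zc4) (kc xc1 yc23 zc7) (kc xc0 yc17 zc8) (kc xc1 yc23 zc16) (kc xc1 yc23 zc13) (kc xc0 yc19 zc9) (kc xc1 yc17 zc6) (kc xc0 yc32 zc50) (kc xc1 yc10 zc46) (kc xc0 yc38 zc38) (kc xc0 yc38 zc37) (kc xc0 yc17 zc11) (kc xc1 yc23 zc41) (kc xc1 yc23 zc38) (kc xc1 yc23 zc39) (kc xc1 yc23 zc49) (kc xc0 yc17 zc12) (kc xc1 yc23 zc54) (kc xc1 yc23 zc53) (kc xc1 yc23 zc59) (kc xc1 yc24 zc0) (kc xc1 yc24 zc3) (kc xc0 yc17 zc14) (kc xc1 yc24 zc8) (kc xc1 yc11 zc1) (kc xc1 yc24 zc16) (kc xc0 yc18 zc59) (kc xc1 yc24 zc23) (kc xc0 yc18 zc39) (kc xc1 yc24 zc30) (kc xc1 yc24 zc34) (kc xc1 yc8 zc31) (kc xc0 yc32 zc59) (kc xc0 yc32 zc60)) (@D3.rec (fun _ => Pt) (kc xc1 yc24 zc42) (kc xc0 yc17 zc20) (kc xc1 yc24 zc46) (kc xc1 yc24 zc47) (kc xc0 yc17 zc49) (kc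 xc0 yc17 zc31) (kc xc1 yc1 zc10) (kc xc1 yc24 zc51) (kc xc0 yc57 zc13) (kc xc1 yc24 zc59) (kc xc1 yc25 zc1) (kc xc1 yc25 zc6) (kc xc0 yc57 zc17) (kc xc0 yc34 zc42) (kc xc1 yc25 zc10) (kc xc0 yc26 zc5) (kc xc1 yc25 zc12) (kc xc1 yc25 zc15) (kc xc0 yc26 zc7) (kc xc1 yc25 zc18) (kc xc1 yc25 zc21) (kc xc0 yc17 zc36) (kc xc1 yc25 zc27) (kc xc0 yc39 zc23) (kc xc1 yc25 zc31) (kc xc0 yc17 zc40) (kc xc0 yc17 zc39) (kc xc1 yc4 zc17) (kc xc0 yc33 zc46) (kc xc0 yc33 zc42) (kc xc0 yc33 zc40) (kc xc1 yc25 zc37) (kc xc0 yc17 zc44) (kc xc0 yc17 zc43) (kc xc0 yc17 zc45) (kc xc1 yc12 zc4) (kc xc0 yc17 zc46) (kc xc1 yc25 zc44) (kc xc0 yc26 zc8) (kc xc0 yc26 zc9) (kc xc0 yc57 zc33) (kc xc1 yc25 zc57) (kc xc0 yc17 zc48) (kc xc1 yc25 zc60) (kc xc1 yc26 zc2) (kc xc1 yc26 zc6) (kc xc1 yc24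 zc50) (kc xc1 yc26 zc8) (kc xc0 yc37 zc20) (kc xc0 yc41 zc13) (kc xc0 yc17 zc52) (kc xc1 yc26 zc17) (kc xc0 yc36 zc38) (kc xc0 yc17 zc55) (kc xc1 yc26 zc19) (kc xc0 yc38 zc11) (kc xc0 yc38 zc12) (kc xc1 yc4 zc48) (kc xc0 yc47 zc57) (kc xc0 yc21 zc59) (kc xc0 yc20 zc33) (kc xc0 yc20 zc34)) (@D3.rec (fun _ => Pt) (kc xc1 yc26 zc31) (kc xc0 yc20 zc30) (kc xc1 yc26 zc32) (kc xc0 yc41 zc27) (kc xc0 yc40 zc4) (kc xc0 yc40 zc5) (kc xc1 yc26 zc38) (kc xc0 yc21 zc0) (kc xc0 yc45 zc39) (kc xc0 yc41 zc16) (kc xc0 yc17 zc61) (kc xc1 yc26 zc47) (kc xc0 yc49 zc3) (kc xc1 yc26 zc52) (kc xc0 yc18 zc0) (kc xc1 yc26 zc54) (kc xc1 yc26 zc56) (kc xc1 yc26 zc59) (kc xc1 yc26 zc61) (kc xc0 yc18 zc2) (kc xc1 yc27 zc5) (kc xc1 yc27 zc6) (kc xc0 yc21 zc15) (kc xc1 yc27 zc3) (kc xc0 yc18 zc5)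 (kc xc1 yc27 zc20) (kc xc1 yc27 zc24) (kc xc1 yc27 zc18) (kc xc1 yc5 zc29) (kc xc1 yc27 zc31) (kc xc0 yc18 zc8) (kc xc1 yc27 zc33) (kc xc1 yc27 zc32) (kc xc0 yc18 zc10) (kc xc1 yc5 zc11) (kc xc1 yc5 zc12) (kc xc1 yc27 zc41) (kc xc0 yc18 zc11) (kc xc1 yc27 zc48) (kc xc0 yc18 zc12) (kc xc1 yc27 zc53) (kc xc0 yc18 zc13) (kc xc1 yc27 zc59) (kc xc0 yc18 zc14) (kc xc0 yc18 zc17) (kc xc0 yc18 zc20) (kc xc1 yc1 zc56) (kc xc0 yc18 zc16) (kc xc1 yc28 zc16) (kc xc1 yc28 zc18) (kc xc1 yc28 zc15) (kc xc1 yc28 zc5) (kc xc1 yc28 zc3) (kc xc0 yc18 zc19) (kc xc1 yc20 zc44) (kc xc1 yc20 zc45) (kc xc1 yc28 zc29) (kc xc1 yc28 zc32) (kc xc1 yc28 zc36) (kc xc1 yc28 zc8) (kc xc1 yc28 zc10) (kc xc1 yc28 zc46)) (@D3.rec (fun _ => Pt) (kc xc0 yc18 zc24) (kc xc1 yc28 zc12) (kc xc0 yc18 zc22)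 (kc xc0 yc38 zc5) (kc xc1 yc28 zc53) (kc xc0 yc18 zc23) (kc xc0 yc38 zc6) (kc xc1 yc28 zc57) (kc xc1 yc28 zc59) (kc xc1 yc28 zc61) (kc xc0 yc41 zc10) (kc xc1 yc29 zc3) (kc xc0 yc41 zc12) (kc xc0 yc39 zc49) (kc xc1 yc29 zc11) (kc xc1 yc29 zc12) (kc xc0 yc40 zc9) (kc xc0 yc41 zc17) (kc xc1 yc29 zc21) (kc xc0 yc41 zc19) (kc xc1 yc22 zc2) (kc xc1 yc29 zc30) (kc xc0 yc46 zc57) (kc xc0 yc46 zc60) (kc xc0 yc20 zc25) (kc xc1 yc29 zc35) (kc xc1 yc22 zc4) (kc xc0 yc40 zc3) (kc xc0 yc18 zc33) (kc xc1 yc29 zc45) (kc xc1 yc29 zc44) (kc xc1 yc29 zc49) (kc xc0 yc18 zc34) (kc xc1 yc29 zc51) (kc xc1 yc29 zc53) (kc xc1 yc6 zc2) (kc xc1 yc29 zc60) (kc xc1 yc30 zc1) (kc xc0 yc18 zc36) (kc xc1 yc30 zc6) (kc xc1 yc30 zc12) (kc xc1 yc30 zc15) (kc xc1 yc30 zc18) (kc xc1 yc6 zc10) (kc xc1 yc30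 zc21) (kc xc0 yc32 zc56) (kc xc1 yc30 zc26) (kc xc1 yc30 zc30) (kc xc1 yc30 zc35) (kc xc1 yc24 zc28) (kc xc0 yc41 zc50) (kc xc1 yc30 zc40) (kc xc0 yc21 zc51) (kc xc1 yc30 zc45) (kc xc1 yc30 zc48) (kc xc0 yc18 zc42) (kc xc1 yc30 zc52) (kc xc0 yc20 zc9) (kc xc0 yc41 zc58) (kc xc1 yc30 zc58) (kc xc0 yc21 zc57) (kc xc1 yc31 zc1)) (@D3.rec (fun _ => Pt) (kc xc0 yc18 zc46) (kc xc0 yc18 zc49) (kc xc1 yc27 zc52) (kc xc0 yc18 zc48) (kc xc1 yc31 zc13) (kc xc1 yc31 zc12) (kc xc1 yc31 zc15) (kc xc1 yc31 zc18) (kc xc1 yc31 zc6) (kc xc1 yc31 zc8) (kc xc1 yc31 zc23) (kc xc0 yc18 zc53) (kc xc0 yc18 zc51) (kc xc1 yc31 zc27) (kc xc1 yc31 zc28) (kc xc0 yc18 zc52) (kc xc1 yc13 zc57) (kc xc0 yc36 zc17) (kc xc0 yc20 zc32) (kc xc0 yc18 zc54) (kc xc1 yc22 zc6) (kc xc0 yc49 zc4) (kc xc0 yc18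 zc55) (kc xc1 yc22 zc5) (kc xc1 yc31 zc39) (kc xc1 yc24 zc36) (kc xc1 yc6 zc43) (kc xc1 yc31 zc44) (kc xc1 yc31 zc47) (kc xc0 yc18 zc57) (kc xc1 yc5 zc9) (kc xc1 yc31 zc53) (kc xc1 yc31 zc56) (kc xc1 yc31 zc59) (kc xc1 yc6 zc50) (kc xc1 yc32 zc0) (kc xc1 yc32 zc3) (kc xc1 yc32 zc8) (kc xc1 yc24 zc21) (kc xc0 yc21 zc27) (kc xc1 yc32 zc13) (kc xc0 yc42 zc41) (kc xc1 yc32 zc18) (kc xc0 yc19 zc0) (kc xc1 yc30 zc51) (kc xc1 yc32 zc21) (kc xc0 yc19 zc34) (kc xc0 yc42 zc47) (kc xc0 yc19 zc25) (kc xc0 yc19 zc3) (kc xc1 yc32 zc28) (kc xc1 yc32 zc30) (kc xc0 yc19 zc4) (kc xc1 yc32 zc32) (kc xc1 yc32 zc35) (kc xc1 yc32 zc38) (kc xc0 yc19 zc6) (kc xc1 yc32 zc43) (kc xc1 yc32 zc46) (kc xc1 yc20 zc53) (kc xc1 yc32 zc52) (kc xc1 yc20 zc60)) (@D3.rec (fun _ => Pt) (kc xc1 yc32 zc58)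 (kc xc1 yc33 zc0) (kc xc1 yc23 zc24) (kc xc0 yc19 zc10) (kc xc0 yc43 zc52) (kc xc0 yc19 zc11) (kc xc1 yc33 zc7) (kc xc1 yc33 zc10) (kc xc1 yc33 zc12) (kc xc1 yc33 zc13) (kc xc0 yc22 zc41) (kc xc0 yc43 zc11) (kc xc0 yc22 zc39) (kc xc1 yc7 zc9) (kc xc0 yc43 zc14) (kc xc1 yc7 zc10) (kc xc0 yc19 zc19) (kc xc1 yc33 zc21) (kc xc1 yc33 zc20) (kc xc0 yc23 zc17) (kc xc1 yc33 zc26) (kc xc1 yc33 zc28) (kc xc1 yc33 zc31) (kc xc1 yc33 zc34) (kc xc0 yc19 zc22) (kc xc1 yc33 zc39) (kc xc1 yc23 zc21) (kc xc1 yc23 zc22) (kc xc1 yc22 zc24) (kc xc0 yc19 zc24) (kc xc1 yc33 zc50) (kc xc1 yc32 zc26) (kc xc1 yc33 zc54) (kc xc1 yc32 zc25) (kc xc1 yc33 zc58) (kc xc0 yc43 zc35) (kc xc1 yc33 zc59) (kc xc1 yc34 zc0) (kc xc0 yc19 zc27) (kc xc1 yc34 zc5) (kc xc1 yc34 zc8) (kc xc1 yc22 zc58) (kc xc1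 yc22 zc59) (kc xc1 yc22 zc7) (kc xc0 yc19 zc31) (kc xc1 yc34 zc13) (kc xc0 yc23 zc14) (kc xc0 yc46 zc11) (kc xc1 yc7 zc14) (kc xc0 yc45 zc8) (kc xc1 yc34 zc18) (kc xc0 yc45 zc9) (kc xc0 yc43 zc4) (kc xc0 yc50 zc15) (kc xc1 yc34 zc25) (kc xc0 yc19 zc37) (kc xc0 yc19 zc36) (kc xc1 yc34 zc33) (kc xc1 yc34 zc28) (kc xc0 yc31 zc1) (kc xc0 yc19 zc38) (kc xc1 yc34 zc37)) (@D3.rec (fun _ => Pt) (kc xc0 yc30 zc56) (kc xc1 yc34 zc38) (kc xc0 yc19 zc41) (kc xc0 yc19 zc40) (kc xc1 yc34 zc43) (kc xc0 yc23 zc38) (kc xc1 yc32 zc23) (kc xc1 yc34 zc45) (kc xc1 yc34 zc48) (kc xc0 yc19 zc42) (kc xc1 yc34 zc54) (kc xc1 yc34 zc59) (kc xc0 yc19 zc43) (kc xc1 yc35 zc3) (kc xc1 yc35 zc9) (kc xc0 yc19 zc44) (kc xc1 yc35 zc13) (kc xc0 yc47 zc2) (kc xc0 yc47 zc11) (kc xc0 yc19 zc53) (kc xc1 yc35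 zc31) (kc xc0 yc19 zc46) (kc xc0 yc19 zc47) (kc xc1 yc35 zc40) (kc xc1 yc35 zc43) (kc xc1 yc35 zc37) (kc xc1 yc35 zc38) (kc xc1 yc35 zc51) (kc xc1 yc35 zc54) (kc xc1 yc35 zc57) (kc xc1 yc35 zc58) (kc xc0 yc19 zc49) (kc xc1 yc36 zc1) (kc xc1 yc24 zc25) (kc xc1 yc24 zc26) (kc xc1 yc36 zc13) (kc xc1 yc21 zc48) (kc xc1 yc36 zc15) (kc xc0 yc19 zc51) (kc xc1 yc36 zc20) (kc xc1 yc24 zc18) (kc xc1 yc24 zc19) (kc xc1 yc36 zc30) (kc xc1 yc21 zc17) (kc xc1 yc36 zc33) (kc xc1 yc36 zc35) (kc xc1 yc35 zc26) (kc xc1 yc35 zc28) (kc xc0 yc45 zc35) (kc xc0 yc45 zc36) (kc xc1 yc36 zc50) (kc xc0 yc19 zc57) (kc xc1 yc36 zc54) (kc xc0 yc19 zc55) (kc xc1 yc37 zc1) (kc xc1 yc36 zc60) (kc xc1 yc37 zc6) (kc xc0 yc19 zc56) (kc xc1 yc37 zc12) (kc xc1 yc37 zc11) (kc xc1 yc5 zc10) (kc xc1 yc11 zc2))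 (@D3.rec (fun _ => Pt) (kc xc1 yc11 zc3) (kc xc1 yc37 zc22) (kc xc0 yc20 zc40) (kc xc1 yc37 zc24) (kc xc0 yc45 zc4) (kc xc1 yc37 zc26) (kc xc1 yc37 zc29) (kc xc0 yc19 zc61) (kc xc0 yc43 zc49) (kc xc0 yc43 zc51) (kc xc0 yc45 zc10) (kc xc1 yc37 zc36) (kc xc1 yc11 zc5) (kc xc1 yc29 zc40) (kc xc1 yc6 zc37) (kc xc0 yc45 zc15) (kc xc0 yc45 zc16) (kc xc1 yc37 zc45) (kc xc0 yc48 zc59) (kc xc0 yc21 zc29) (kc xc0 yc20 zc39) (kc xc0 yc20 zc42) (kc xc1 yc37 zc50) (kc xc0 yc51 zc44) (kc xc1 yc37 zc54) (kc xc0 yc51 zc39) (kc xc1 yc37 zc59) (kc xc1 yc38 zc0) (kc xc1 yc38 zc3) (kc xc0 yc20 zc17) (kc xc1 yc38 zc9) (kc xc1 yc38 zc10) (kc xc0 yc20 zc57) (kc xc1 yc38 zc7) (kc xc0 yc20 zc20) (kc xc0 yc44 zc48) (kc xc0 yc44 zc49) (kc xc1 yc36 zc57) (kc xc0 yc55 zc3) (kc xc0 yc40 zc8) (kc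 xc0 yc20 zc23) (kc xc1 yc38 zc34) (kc xc1 yc31 zc31) (kc xc0 yc20 zc24) (kc xc1 yc38 zc38) (kc xc1 yc38 zc40) (kc xc1 yc38 zc42) (kc xc1 yc38 zc45) (kc xc0 yc20 zc26) (kc xc1 yc38 zc49) (kc xc0 yc47 zc36) (kc xc0 yc47 zc37) (kc xc0 yc47 zc47) (kc xc0 yc20 zc31) (kc xc1 yc38 zc59) (kc xc1 yc31 zc34) (kc xc1 yc26 zc26) (kc xc1 yc39 zc3) (kc xc1 yc39 zc5) (kc xc1 yc39 zc7) (kc xc1 yc26 zc30) (kc xc0 yc20 zc35)) (@D3.rec (fun _ => Pt) (kc xc0 yc20 zc37) (kc xc1 yc38 zc31) (kc xc0 yc20 zc38) (kc xc1 yc31 zc52) (kc xc1 yc33 zc23) (kc xc1 yc39 zc17) (kc xc1 yc37 zc49) (kc xc0 yc50 zc45) (kc xc0 yc23 zc23) (kc xc0 yc47 zc23) (kc xc0 yc22 zc58) (kc xc0 yc43 zc47) (kc xc1 yc39 zc25) (kc xc0 yc20 zc47) (kc xc0 yc20 zc46) (kc xc1 yc39 zc30) (kc xc0 yc51 zc12) (kc xc0 yc23 zc3)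 (kc xc0 yc50 zc46) (kc xc0 yc20 zc48) (kc xc1 yc39 zc37) (kc xc1 yc37 zc56) (kc xc1 yc39 zc40) (kc xc0 yc20 zc51) (kc xc0 yc20 zc50) (kc xc1 yc39 zc45) (kc xc1 yc33 zc15) (kc xc0 yc20 zc52) (kc xc1 yc39 zc49) (kc xc0 yc52 zc17) (kc xc0 yc20 zc53) (kc xc1 yc39 zc58) (kc xc1 yc40 zc0) (kc xc0 yc20 zc54) (kc xc1 yc40 zc4) (kc xc0 yc52 zc25) (kc xc0 yc52 zc14) (kc xc1 yc40 zc16) (kc xc0 yc20 zc56) (kc xc1 yc40 zc23) (kc xc1 yc40 zc27) (kc xc1 yc40 zc21) (kc xc1 yc40 zc30) (kc xc1 yc40 zc32) (kc xc1 yc40 zc34) (kc xc1 yc40 zc37) (kc xc0 yc24 zc28) (kc xc0 yc54 zc0) (kc xc1 yc40 zc42) (kc xc0 yc21 zc22) (kc xc0 yc20 zc61) (kc xc1 yc40 zc45) (kc xc1 yc26 zc40) (kc xc0 yc48 zc61) (kc xc0 yc21 zc1) (kc xc1 yc40 zc49) (kc xc1 yc26 zc25) (kc xc0 yc41 zc22) (kc xc0 yc21 zc2) (kc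 xc1 yc40 zc54) (kc xc0 yc41 zc23) (kc xc0 yc22 zc0)) (@D3.rec (fun _ => Pt) (kc xc0 yc48 zc5) (kc xc1 yc40 zc53) (kc xc0 yc44 zc17) (kc xc0 yc21 zc4) (kc xc0 yc21 zc5) (kc xc1 yc26 zc48) (kc xc1 yc41 zc8) (kc xc1 yc41 zc7) (kc xc0 yc21 zc6) (kc xc1 yc41 zc10) (kc xc1 yc39 zc12) (kc xc0 yc44 zc18) (kc xc0 yc21 zc8) (kc xc1 yc41 zc14) (kc xc0 yc21 zc9) (kc xc1 yc41 zc17) (kc xc1 yc41 zc22) (kc xc0 yc21 zc10) (kc xc1 yc41 zc28) (kc xc1 yc41 zc30) (kc xc0 yc21 zc11) (kc xc1 yc41 zc34) (kc xc1 yc34 zc27) (kc xc0 yc46 zc9) (kc xc0 yc21 zc16) (kc xc1 yc41 zc47) (kc xc0 yc21 zc13) (kc xc0 yc21 zc14) (kc xc1 yc41 zc56) (kc xc1 yc41 zc60) (kc xc1 yc41 zc53) (kc xc1 yc41 zc54) (kc xc1 yc42 zc5) (kc xc1 yc42 zc7) (kc xc1 yc41 zc44) (kc xc1 yc41 zc46) (kc xc0 yc45 zc50) (kc xc0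 yc45 zc51) (kc xc0 yc21 zc20) (kc xc1 yc42 zc17) (kc xc0 yc21 zc18) (kc xc1 yc42 zc23) (kc xc0 yc47 zc45) (kc xc1 yc42 zc26) (kc xc0 yc21 zc19) (kc xc0 yc47 zc42) (kc xc0 yc48 zc40) (kc xc0 yc45 zc52) (kc xc0 yc21 zc23) (kc xc1 yc39 zc9) (kc xc0 yc21 zc24) (kc xc1 yc42 zc33) (kc xc0 yc21 zc25) (kc xc1 yc32 zc11) (kc xc1 yc42 zc36) (kc xc1 yc42 zc39) (kc xc1 yc29 zc15) (kc xc0 yc39 zc58) (kc xc0 yc50 zc34) (kc xc1 yc37 zc47) (kc xc1 yc37 zc46) (kc xc0 yc50 zc3)) (@D3.rec (fun _ => Pt) (kc xc0 yc21 zc32) (kc xc0 yc21 zc31) (kc xc1 yc42 zc53) (kc xc0 yc48 zc3) (kc xc1 yc42 zc58) (kc xc0 yc47 zc0) (kc xc0 yc21 zc33) (kc xc0 yc51 zc51) (kc xc0 yc50 zc4) (kc xc0 yc21 zc35) (kc xc1 yc43 zc1) (kc xc0 yc21 zc36) (kc xc1 yc43 zc6) (kc xc1 yc39 zc2) (kc xc1 yc43 zc13) (kc xc1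 yc43 zc14) (kc xc0 yc48 zc16) (kc xc0 yc53 zc39) (kc xc0 yc21 zc38) (kc xc1 yc43 zc19) (kc xc1 yc43 zc23) (kc xc0 yc21 zc39) (kc xc1 yc43 zc27) (kc xc0 yc49 zc44) (kc xc0 yc49 zc48) (kc xc1 yc43 zc36) (kc xc0 yc21 zc41) (kc xc1 yc43 zc43) (kc xc1 yc43 zc47) (kc xc1 yc43 zc51) (kc xc1 yc43 zc41) (kc xc1 yc43 zc54) (kc xc0 yc21 zc42) (kc xc1 yc43 zc60) (kc xc0 yc21 zc43) (kc xc1 yc44 zc1) (kc xc1 yc44 zc3) (kc xc0 yc21 zc44) (kc xc1 yc44 zc9) (kc xc1 yc44 zc11) (kc xc0 yc47 zc46) (kc xc1 yc44 zc16) (kc xc0 yc49 zc37) (kc xc0 yc53 zc47) (kc xc1 yc44 zc19) (kc xc1 yc44 zc20) (kc xc0 yc21 zc50) (kc xc1 yc44 zc23) (kc xc1 yc30 zc43) (kc xc1 yc44 zc25) (kc xc1 yc44 zc7) (kc xc0 yc21 zc54) (kc xc0 yc54 zc15) (kc xc0 yc21 zc56) (kc xc1 yc44 zc31) (kc xc1 yc44 zc34) (kc xc1 yc30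 zc61) (kc xc1 yc44 zc36) (kc xc1 yc39 zc10) (kc xc0 yc45 zc18) (kc xc0 yc51 zc19) (kc xc0 yc46 zc53)) (@D3.rec (fun _ => Pt) (kc xc0 yc49 zc51) (kc xc0 yc21 zc61) (kc xc1 yc44 zc45) (kc xc0 yc40 zc12) (kc xc0 yc42 zc21) (kc xc1 yc41 zc24) (kc xc1 yc40 zc60) (kc xc0 yc49 zc52) (kc xc0 yc22 zc3) (kc xc0 yc22 zc2) (kc xc1 yc44 zc57) (kc xc1 yc44 zc60) (kc xc0 yc22 zc4) (kc xc1 yc45 zc0) (kc xc1 yc45 zc5) (kc xc0 yc53 zc26) (kc xc0 yc22 zc6) (kc xc1 yc45 zc11) (kc xc0 yc52 zc28) (kc xc0 yc22 zc7) (kc xc1 yc45 zc15) (kc xc0 yc49 zc61) (kc xc0 yc50 zc0) (kc xc1 yc43 zc5) (kc xc0 yc22 zc9) (kc xc1 yc45 zc32) (kc xc1 yc45 zc34) (kc xc1 yc45 zc39) (kc xc1 yc45 zc30) (kc xc0 yc51 zc41) (kc xc0 yc22 zc10) (kc xc1 yc45 zc43) (kc xc0 yc22 zc11) (kc xc1 yc45 zc48) (kc xc1 yc45 zc52)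 (kc xc1 yc45 zc53) (kc xc0 yc53 zc35) (kc xc0 yc48 zc42) (kc xc0 yc22 zc15) (kc xc1 yc42 zc30) (kc xc1 yc45 zc46) (kc xc0 yc49 zc59) (kc xc0 yc51 zc5) (kc xc0 yc51 zc3) (kc xc0 yc48 zc23) (kc xc0 yc22 zc21) (kc xc1 yc46 zc2) (kc xc0 yc22 zc22) (kc xc0 yc48 zc24) (kc xc0 yc22 zc24) (kc xc1 yc46 zc7) (kc xc0 yc49 zc0) (kc xc0 yc49 zc7) (kc xc1 yc46 zc15) (kc xc0 yc22 zc26) (kc xc1 yc46 zc22) (kc xc1 yc46 zc26) (kc xc1 yc46 zc20) (kc xc1 yc46 zc31) (kc xc0 yc49 zc41) (kc xc0 yc23 zc15) (kc xc0 yc49 zc21)) (@D3.rec (fun _ => Pt) (kc xc0 yc49 zc22) (kc xc0 yc22 zc33) (kc xc1 yc46 zc37) (kc xc0 yc47 zc61) (kc xc0 yc48 zc8) (kc xc1 yc46 zc6) (kc xc0 yc22 zc36) (kc xc1 yc46 zc47) (kc xc1 yc46 zc50) (kc xc0 yc51 zc11) (kc xc0 yc22 zc37) (kc xc0 yc52 zc5) (kc xc0 yc22 zc38) (kc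 xc1 yc46 zc53) (kc xc0 yc50 zc44) (kc xc0 yc43 zc53) (kc xc1 yc35 zc60) (kc xc0 yc22 zc44) (kc xc0 yc22 zc43) (kc xc1 yc47 zc3) (kc xc1 yc47 zc7) (kc xc0 yc22 zc45) (kc xc1 yc47 zc9) (kc xc1 yc35 zc61) (kc xc0 yc22 zc47) (kc xc1 yc47 zc14) (kc xc0 yc22 zc48) (kc xc1 yc47 zc17) (kc xc0 yc22 zc49) (kc xc1 yc47 zc24) (kc xc1 yc47 zc25) (kc xc0 yc22 zc50) (kc xc1 yc47 zc29) (kc xc1 yc44 zc37) (kc xc0 yc47 zc58) (kc xc1 yc47 zc40) (kc xc0 yc22 zc52) (kc xc1 yc47 zc47) (kc xc1 yc47 zc51) (kc xc1 yc47 zc45) (kc xc1 yc47 zc54) (kc xc0 yc24 zc30) (kc xc0 yc24 zc10) (kc xc1 yc47 zc57) (kc xc0 yc50 zc14) (kc xc0 yc46 zc7) (kc xc0 yc46 zc18) (kc xc1 yc48 zc2) (kc xc0 yc22 zc57) (kc xc1 yc48 zc8) (kc xc0 yc23 zc33) (kc xc1 yc39 zc54) (kc xc1 yc39 zc23) (kc xc1 yc48 zc14) (kc xc0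 yc22 zc61) (kc xc0 yc22 zc60) (kc xc1 yc48 zc20) (kc xc1 yc48 zc24) (kc xc1 yc48 zc26) (kc xc1 yc48 zc27) (kc xc0 yc23 zc2) (kc xc0 yc23 zc1)) (@D3.rec (fun _ => Pt) (kc xc1 yc48 zc30) (kc xc0 yc30 zc39) (kc xc1 yc48 zc32) (kc xc0 yc49 zc43) (kc xc1 yc48 zc36) (kc xc0 yc49 zc42) (kc xc1 yc48 zc39) (kc xc1 yc48 zc42) (kc xc0 yc23 zc5) (kc xc1 yc48 zc48) (kc xc1 yc39 zc39) (kc xc0 yc50 zc9) (kc xc0 yc46 zc16) (kc xc0 yc23 zc7) (kc xc1 yc48 zc54) (kc xc1 yc39 zc26) (kc xc0 yc23 zc8) (kc xc1 yc48 zc61) (kc xc1 yc39 zc36) (kc xc0 yc48 zc60) (kc xc1 yc49 zc8) (kc xc0 yc23 zc10) (kc xc1 yc49 zc14) (kc xc1 yc49 zc17) (kc xc0 yc23 zc11) (kc xc1 yc39 zc42) (kc xc0 yc23 zc12) (kc xc1 yc49 zc19) (kc xc0 yc23 zc13) (kc xc1 yc49 zc21) (kc xc1 yc49 zc25) (kc xc1 yc27 zc2) (kc xc1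 yc39 zc55) (kc xc1 yc41 zc43) (kc xc0 yc23 zc24) (kc xc1 yc49 zc30) (kc xc1 yc39 zc27) (kc xc0 yc23 zc20) (kc xc1 yc49 zc35) (kc xc0 yc45 zc25) (kc xc1 yc49 zc39) (kc xc0 yc49 zc29) (kc xc1 yc49 zc42) (kc xc1 yc49 zc45) (kc xc0 yc45 zc23) (kc xc1 yc49 zc49) (kc xc1 yc49 zc51) (kc xc0 yc23 zc25) (kc xc1 yc49 zc54) (kc xc1 yc27 zc1) (kc xc0 yc23 zc29) (kc xc0 yc48 zc7) (kc xc1 yc39 zc20) (kc xc1 yc49 zc33) (kc xc1 yc35 zc30) (kc xc0 yc23 zc28) (kc xc1 yc50 zc11) (kc xc1 yc50 zc10) (kc xc1 yc42 zc50) (kc xc0 yc23 zc32) (kc xc0 yc23 zc31) (kc xc1 yc50 zc17)) (@D3.rec (fun _ => Pt) (kc xc1 yc50 zc20) (kc xc1 yc48 zc9) (kc xc0 yc23 zc34) (kc xc1 yc50 zc22) (kc xc1 yc34 zc40) (kc xc0 yc50 zc11) (kc xc1 yc34 zc20) (kc xc1 yc50 zc15) (kc xc1 yc35 zc29) (kc xc0 yc23 zc37) (kc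 xc1 yc50 zc33) (kc xc1 yc45 zc7) (kc xc0 yc23 zc39) (kc xc1 yc50 zc39) (kc xc0 yc46 zc36) (kc xc0 yc23 zc40) (kc xc1 yc50 zc44) (kc xc0 yc46 zc29) (kc xc1 yc44 zc48) (kc xc0 yc52 zc19) (kc xc1 yc35 zc33) (kc xc0 yc23 zc42) (kc xc1 yc51 zc0) (kc xc1 yc51 zc3) (kc xc1 yc50 zc60) (kc xc0 yc46 zc35) (kc xc0 yc23 zc43) (kc xc1 yc51 zc8) (kc xc0 yc49 zc18) (kc xc1 yc39 zc19) (kc xc1 yc51 zc6) (kc xc1 yc35 zc22) (kc xc0 yc23 zc45) (kc xc1 yc51 zc27) (kc xc1 yc51 zc30) (kc xc1 yc51 zc26) (kc xc1 yc45 zc8) (kc xc0 yc23 zc46) (kc xc1 yc51 zc36) (kc xc1 yc51 zc34) (kc xc1 yc35 zc19) (kc xc0 yc23 zc48) (kc xc1 yc51 zc51) (kc xc1 yc51 zc55) (kc xc1 yc51 zc50) (kc xc1 yc51 zc60) (kc xc0 yc23 zc49) (kc xc1 yc35 zc12) (kc xc1 yc52 zc1) (kc xc1 yc52 zc9) (kc xc0 yc23 zc50) (kc xc1 yc35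 zc2) (kc xc1 yc52 zc12) (kc xc1 yc48 zc10) (kc xc0 yc24 zc14) (kc xc1 yc52 zc22) (kc xc0 yc24 zc15) (kc xc1 yc34 zc42) (kc xc1 yc34 zc32) (kc xc0 yc23 zc52) (kc xc1 yc52 zc33) (kc xc1 yc34 zc53)) (@D3.rec (fun _ => Pt) (kc xc1 yc52 zc40) (kc xc1 yc52 zc44) (kc xc1 yc52 zc49) (kc xc0 yc23 zc57) (kc xc0 yc23 zc58) (kc xc1 yc52 zc57) (kc xc0 yc23 zc55) (kc xc1 yc53 zc4) (kc xc1 yc53 zc1) (kc xc1 yc53 zc8) (kc xc0 yc23 zc56) (kc xc1 yc53 zc14) (kc xc1 yc53 zc13) (kc xc1 yc52 zc51) (kc xc1 yc53 zc18) (kc xc1 yc53 zc21) (kc xc1 yc53 zc23) (kc xc1 yc29 zc33) (kc xc0 yc23 zc59) (kc xc1 yc42 zc48) (kc xc0 yc23 zc60) (kc xc1 yc53 zc28) (kc xc0 yc23 zc61) (kc xc0 yc24 zc0) (kc xc1 yc53 zc36) (kc xc1 yc33 zc19) (kc xc0 yc49 zc15) (kc xc1 yc53 zc44) (kc xc0 yc24 zc2) (kc xc1 yc53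 zc51) (kc xc1 yc53 zc55) (kc xc1 yc53 zc49) (kc xc1 yc53 zc58) (kc xc0 yc53 zc48) (kc xc0 yc53 zc49) (kc xc0 yc49 zc36) (kc xc0 yc24 zc6) (kc xc1 yc54 zc0) (kc xc1 yc39 zc33) (kc xc0 yc48 zc17) (kc xc1 yc54 zc9) (kc xc0 yc24 zc8) (kc xc1 yc54 zc16) (kc xc1 yc54 zc18) (kc xc1 yc54 zc22) (kc xc1 yc54 zc14) (kc xc1 yc54 zc24) (kc xc0 yc48 zc43) (kc xc0 yc53 zc33) (kc xc0 yc53 zc34) (kc xc1 yc44 zc13) (kc xc0 yc24 zc12) (kc xc1 yc54 zc28) (kc xc1 yc48 zc4) (kc xc0 yc24 zc13) (kc xc1 yc54 zc32) (kc xc1 yc52 zc20) (kc xc1 yc54 zc37) (kc xc1 yc54 zc40) (kc xc1 yc54 zc42) (kc xc1 yc52 zc27) (kc xc1 yc54 zc44)) (@D3.rec (fun _ => Pt) (kc xc0 yc46 zc47) (kc xc1 yc54 zc45) (kc xc0 yc54 zc18) (kc xc0 yc24 zc23) (kc xc1 yc54 zc47) (kc xc1 yc54 zc48) (kc xc0 yc24 zc20) (kc xc1 yc54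 zc56) (kc xc1 yc54 zc54) (kc xc1 yc54 zc52) (kc xc1 yc54 zc59) (kc xc1 yc54 zc60) (kc xc0 yc24 zc24) (kc xc1 yc55 zc3) (kc xc1 yc55 zc1) (kc xc0 yc48 zc52) (kc xc0 yc24 zc29) (kc xc1 yc55 zc6) (kc xc0 yc54 zc2) (kc xc1 yc53 zc32) (kc xc0 yc27 zc60) (kc xc0 yc24 zc58) (kc xc0 yc24 zc48) (kc xc1 yc55 zc19) (kc xc0 yc24 zc36) (kc xc0 yc24 zc34) (kc xc1 yc55 zc24) (kc xc1 yc55 zc23) (kc xc1 yc55 zc27) (kc xc0 yc24 zc35) (kc xc1 yc55 zc33) (kc xc0 yc24 zc37) (kc xc1 yc55 zc36) (kc xc0 yc24 zc38) (kc xc0 yc24 zc61) (kc xc0 yc24 zc55) (kc xc1 yc2 zc19) (kc xc0 yc24 zc40) (kc xc1 yc55 zc47) (kc xc1 yc8 zc39) (kc xc0 yc35 zc2) (kc xc1 yc55 zc55) (kc xc1 yc8 zc51) (kc xc1 yc56 zc1) (kc xc0 yc59 zc60) (kc xc0 yc35 zc58) (kc xc0 yc35 zc59) (kc xc0 yc24 zc44) (kc xc1 yc17 zc37)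 (kc xc0 yc24 zc46) (kc xc1 yc56 zc10) (kc xc1 yc2 zc48) (kc xc1 yc56 zc11) (kc xc1 yc55 zc16) (kc xc0 yc24 zc49) (kc xc1 yc3 zc41) (kc xc1 yc55 zc30) (kc xc1 yc3 zc44) (kc xc1 yc55 zc31) (kc xc1 yc56 zc19) (kc xc0 yc24 zc54) (kc xc1 yc56 zc23)) (@D3.rec (fun _ => Pt) (kc xc1 yc56 zc27) (kc xc1 yc55 zc44) (kc xc1 yc56 zc33) (kc xc0 yc45 zc38) (kc xc1 yc0 zc46) (kc xc1 yc55 zc41) (kc xc1 yc1 zc7) (kc xc1 yc56 zc41) (kc xc1 yc55 zc14) (kc xc1 yc55 zc29) (kc xc0 yc24 zc59) (kc xc1 yc56 zc48) (kc xc1 yc9 zc13) (kc xc1 yc27 zc47) (kc xc1 yc56 zc56) (kc xc0 yc25 zc4) (kc xc1 yc56 zc58) (kc xc1 yc1 zc21) (kc xc1 yc1 zc43) (kc xc0 yc25 zc3) (kc xc1 yc57 zc0) (kc xc0 yc25 zc5) (kc xc1 yc57 zc3) (kc xc1 yc2 zc10) (kc xc0 yc55 zc24) (kc xc1 yc57 zc13) (kc xc0 yc25 zc8) (kc xc1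 yc57 zc15) (kc xc0 yc59 zc0) (kc xc0 yc26 zc61) (kc xc1 yc57 zc23) (kc xc0 yc25 zc14) (kc xc1 yc57 zc25) (kc xc0 yc59 zc20) (kc xc1 yc19 zc46) (kc xc0 yc36 zc33) (kc xc0 yc25 zc15) (kc xc1 yc57 zc33) (kc xc1 yc57 zc30) (kc xc0 yc25 zc16) (kc xc1 yc57 zc37) (kc xc1 yc57 zc36) (kc xc1 yc57 zc39) (kc xc1 yc57 zc40) (kc xc0 yc25 zc17) (kc xc1 yc57 zc46) (kc xc0 yc25 zc39) (kc xc0 yc25 zc40) (kc xc1 yc57 zc53) (kc xc0 yc25 zc23) (kc xc0 yc25 zc20) (kc xc1 yc57 zc59) (kc xc1 yc57 zc56) (kc xc0 yc25 zc21) (kc xc1 yc58 zc1) (kc xc1 yc58 zc0) (kc xc1 yc58 zc3) (kc xc1 yc58 zc4) (kc xc0 yc25 zc22) (kc xc1 yc58 zc10) (kc xc1 yc58 zc14) (kc xc0 yc25 zc42)) (@D3.rec (fun _ => Pt) (kc xc0 yc34 zc55) (kc xc1 yc58 zc21) (kc xc0 yc26 zc55) (kc xc1 yc58 zc23) (kc xc1 yc58 zc27) (kc xc0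 yc26 zc21) (kc xc1 yc57 zc18) (kc xc1 yc25 zc0) (kc xc1 yc58 zc36) (kc xc1 yc8 zc42) (kc xc0 yc26 zc35) (kc xc1 yc58 zc42) (kc xc0 yc26 zc34) (kc xc0 yc27 zc16) (kc xc1 yc58 zc51) (kc xc0 yc27 zc4) (kc xc1 yc58 zc57) (kc xc1 yc58 zc60) (kc xc0 yc25 zc31) (kc xc1 yc59 zc4) (kc xc1 yc59 zc8) (kc xc0 yc25 zc35) (kc xc1 yc59 zc13) (kc xc0 yc25 zc34) (kc xc1 yc59 zc15) (kc xc1 yc58 zc44) (kc xc1 yc59 zc17) (kc xc1 yc59 zc12) (kc xc0 yc56 zc28) (kc xc1 yc59 zc20) (kc xc0 yc25 zc38) (kc xc0 yc25 zc37) (kc xc1 yc58 zc53) (kc xc1 yc59 zc27) (kc xc1 yc59 zc24) (kc xc1 yc59 zc29) (kc xc1 yc19 zc10) (kc xc1 yc59 zc31) (kc xc1 yc57 zc50) (kc xc1 yc58 zc6) (kc xc1 yc58 zc7) (kc xc0 yc25 zc41) (kc xc1 yc59 zc35) (kc xc0 yc25 zc59) (kc xc0 yc25 zc43) (kc xc1 yc59 zc37) (kc xc1 yc11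 zc14) (kc xc0 yc28 zc28) (kc xc1 yc59 zc45) (kc xc1 yc11 zc24) (kc xc1 yc59 zc53) (kc xc1 yc2 zc29) (kc xc1 yc25 zc23) (kc xc1 yc25 zc24) (kc xc0 yc25 zc47) (kc xc1 yc59 zc60) (kc xc2 yc0 zc1) (kc xc1 yc12 zc50) (kc xc1 yc25 zc33) (kc xc1 yc12 zc32) (kc xc0 yc25 zc50) (kc xc2 yc0 zc5)) (@D3.rec (fun _ => Pt) (kc xc0 yc25 zc52) (kc xc1 yc13 zc28) (kc xc1 yc57 zc42) (kc xc0 yc25 zc54) (kc xc0 yc25 zc55) (kc xc2 yc0 zc12) (kc xc1 yc59 zc33) (kc xc2 yc0 zc18) (kc xc0 yc25 zc57) (kc xc0 yc34 zc23) (kc xc0 yc25 zc58) (kc xc2 yc0 zc22) (kc xc1 yc59 zc36) (kc xc0 yc39 zc8) (kc xc2 yc0 zc30) (kc xc2 yc0 zc34) (kc xc2 yc0 zc39) (kc xc0 yc39 zc12) (kc xc0 yc32 zc0) (kc xc2 yc0 zc43) (kc xc0 yc57 zc20) (kc xc2 yc0 zc47) (kc xc0 yc29 zc54) (kc xc1 yc16 zc41) (kc xc0 yc26 zc2) (kc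 xc2 yc0 zc53) (kc xc1 yc13 zc61) (kc xc1 yc13 zc60) (kc xc0 yc26 zc4) (kc xc2 yc0 zc56) (kc xc0 yc26 zc6) (kc xc1 yc12 zc7) (kc xc1 yc25 zc49) (kc xc0 yc39 zc40) (kc xc2 yc1 zc2) (kc xc0 yc26 zc11) (kc xc1 yc19 zc20) (kc xc0 yc34 zc39) (kc xc0 yc26 zc13) (kc xc1 yc14 zc38) (kc xc2 yc1 zc13) (kc xc2 yc1 zc9) (kc xc1 yc9 zc40) (kc xc0 yc26 zc16) (kc xc0 yc34 zc43) (kc xc2 yc1 zc24) (kc xc2 yc1 zc20) (kc xc2 yc1 zc27) (kc xc1 yc55 zc58) (kc xc2 yc1 zc34) (kc xc0 yc35 zc42) (kc xc1 yc8 zc43) (kc xc0 yc26 zc18) (kc xc2 yc1 zc43) (kc xc2 yc1 zc40) (kc xc2 yc1 zc50) (kc xc0 yc26 zc19) (kc xc2 yc1 zc56) (kc xc2 yc1 zc55) (kc xc2 yc1 zc61) (kc xc2 yc2 zc3) (kc xc0 yc26 zc20)) (@D3.rec (fun _ => Pt) (kc xc2 yc2 zc10) (kc xc1 yc55 zc53) (kc xc1 yc2 zc33) (kc xc0 yc26 zc22) (kc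 xc2 yc2 zc20) (kc xc2 yc2 zc17) (kc xc2 yc2 zc25) (kc xc0 yc26 zc23) (kc xc2 yc2 zc29) (kc xc0 yc26 zc41) (kc xc0 yc31 zc40) (kc xc2 yc2 zc33) (kc xc0 yc58 zc53) (kc xc2 yc2 zc38) (kc xc0 yc58 zc55) (kc xc0 yc26 zc26) (kc xc2 yc2 zc43) (kc xc2 yc2 zc47) (kc xc0 yc31 zc42) (kc xc2 yc2 zc49) (kc xc0 yc26 zc28) (kc xc2 yc2 zc52) (kc xc2 yc2 zc58) (kc xc0 yc26 zc29) (kc xc2 yc2 zc61) (kc xc0 yc31 zc53) (kc xc0 yc31 zc54) (kc xc2 yc2 zc8) (kc xc0 yc27 zc22) (kc xc0 yc26 zc31) (kc xc2 yc3 zc11) (kc xc2 yc3 zc13) (kc xc0 yc26 zc33) (kc xc2 yc3 zc15) (kc xc1 yc12 zc53) (kc xc2 yc3 zc16) (kc xc2 yc3 zc17) (kc xc1 yc58 zc46) (kc xc2 yc3 zc19) (kc xc0 yc28 zc31) (kc xc2 yc3 zc25) (kc xc1 yc58 zc39) (kc xc2 yc3 zc31) (kc xc2 yc3 zc34) (kc xc0 yc26 zc36) (kc xc2 yc3 zc37) (kc xc0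 yc31 zc58) (kc xc0 yc26 zc43) (kc xc1 yc59 zc14) (kc xc0 yc28 zc59) (kc xc2 yc3 zc14) (kc xc1 yc12 zc8) (kc xc2 yc3 zc18) (kc xc0 yc58 zc12) (kc xc2 yc3 zc50) (kc xc0 yc58 zc14) (kc xc0 yc26 zc45) (kc xc2 yc3 zc56) (kc xc0 yc29 zc0) (kc xc0 yc26 zc50) (kc xc1 yc9 zc11) (kc xc0 yc34 zc35)) (@D3.rec (fun _ => Pt) (kc xc0 yc55 zc28) (kc xc2 yc4 zc2) (kc xc2 yc4 zc3) (kc xc1 yc57 zc43) (kc xc0 yc26 zc54) (kc xc2 yc4 zc7) (kc xc0 yc26 zc56) (kc xc2 yc4 zc8) (kc xc0 yc27 zc56) (kc xc0 yc59 zc11) (kc xc0 yc27 zc8) (kc xc0 yc59 zc9) (kc xc2 yc4 zc21) (kc xc2 yc4 zc25) (kc xc2 yc4 zc30) (kc xc0 yc27 zc12) (kc xc0 yc59 zc16) (kc xc2 yc4 zc34) (kc xc1 yc57 zc20) (kc xc2 yc4 zc36) (kc xc0 yc55 zc33) (kc xc2 yc4 zc41) (kc xc2 yc4 zc43) (kc xc0 yc27 zc1) (kc xc2 yc4 zc47) (kc xc0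 yc27 zc3) (kc xc1 yc19 zc9) (kc xc1 yc58 zc55) (kc xc2 yc4 zc9) (kc xc2 yc4 zc53) (kc xc0 yc34 zc30) (kc xc0 yc27 zc6) (kc xc2 yc4 zc55) (kc xc2 yc4 zc13) (kc xc2 yc4 zc61) (kc xc1 yc14 zc14) (kc xc0 yc35 zc33) (kc xc0 yc28 zc38) (kc xc2 yc5 zc8) (kc xc2 yc4 zc18) (kc xc2 yc5 zc12) (kc xc0 yc35 zc35) (kc xc2 yc5 zc17) (kc xc0 yc27 zc10) (kc xc2 yc5 zc22) (kc xc2 yc5 zc21) (kc xc2 yc5 zc26) (kc xc2 yc5 zc29) (kc xc0 yc27 zc11) (kc xc2 yc5 zc35) (kc xc2 yc5 zc37) (kc xc1 yc0 zc17) (kc xc2 yc5 zc43) (kc xc1 yc0 zc19) (kc xc2 yc5 zc49) (kc xc2 yc5 zc51) (kc xc0 yc27 zc14) (kc xc2 yc5 zc54) (kc xc0 yc27 zc29) (kc xc0 yc31 zc59) (kc xc0 yc54 zc44) (kc xc1 yc58 zc48))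
def f_c_1 : D2 → D3 → Pt := @D2.rec (fun _ => D3 → Pt) (@D3.rec (fun _ => Pt) (kc xc2 yc6 zc1) (kc xc1 yc58 zc50) (kc xc0 yc27 zc17) (kc xc2 yc6 zc7) (kc xc0 yc27 zc39) (kc xc0 yc31 zc61) (kc xc2 yc6 zc11) (kc xc0 yc27 zc19) (kc xc2 yc6 zc14) (kc xc2 yc6 zc19) (kc xc0 yc27 zc20) (kc xc2 yc6 zc22) (kc xc0 yc31 zc31) (kc xc0 yc31 zc32) (kc xc2 yc5 zc33) (kc xc2 yc3 zc10) (kc xc2 yc6 zc35) (kc xc0 yc59 zc51) (kc xc2 yc6 zc41) (kc xc0 yc59 zc53) (kc xc2 yc2 zc27) (kc xc0 yc27 zc24) (kc xc2 yc6 zc49) (kc xc0 yc31 zc39) (kc xc0 yc27 zc31) (kc xc2 yc6 zc54) (kc xc0 yc27 zc26) (kc xc1 yc9 zc28) (kc xc0 yc27 zc28) (kc xc1 yc13 zc29) (kc xc2 yc6 zc61) (kc xc0 yc27 zc34) (kc xc0 yc27 zc33) (kc xc1 yc59 zc22) (kc xc2 yc7 zc4) (kc xc2 yc7 zc3) (kc xc2 yc7 zc5) (kc xc1 yc2 zc30)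 (kc xc2 yc7 zc11) (kc xc1 yc2 zc37) (kc xc0 yc27 zc36) (kc xc2 yc7 zc18) (kc xc1 yc17 zc1) (kc xc0 yc27 zc41) (kc xc2 yc6 zc4) (kc xc0 yc27 zc40) (kc xc0 yc55 zc4) (kc xc2 yc7 zc28) (kc xc0 yc27 zc45) (kc xc0 yc27 zc43) (kc xc2 yc7 zc31) (kc xc2 yc7 zc32) (kc xc0 yc27 zc44) (kc xc2 yc7 zc36) (kc xc1 yc1 zc4) (kc xc0 yc32 zc1) (kc xc2 yc7 zc41) (kc xc0 yc27 zc50) (kc xc0 yc27 zc48) (kc xc2 yc7 zc45) (kc xc2 yc7 zc44) (kc xc0 yc27 zc49)) (@D3.rec (fun _ => Pt) (kc xc2 yc7 zc50) (kc xc0 yc33 zc2) (kc xc2 yc7 zc54) (kc xc0 yc32 zc3) (kc xc1 yc0 zc54) (kc xc0 yc33 zc0) (kc xc2 yc7 zc60) (kc xc0 yc55 zc6) (kc xc2 yc4 zc12) (kc xc0 yc28 zc30) (kc xc0 yc39 zc6) (kc xc2 yc8 zc4) (kc xc2 yc8 zc8) (kc xc0 yc28 zc34) (kc xc1 yc8 zc44) (kc xc2 yc8 zc13) (kc xc1 yc55 zc11) (kc xc2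 yc8 zc16) (kc xc0 yc32 zc29) (kc xc1 yc1 zc34) (kc xc2 yc8 zc22) (kc xc0 yc55 zc17) (kc xc2 yc8 zc24) (kc xc2 yc8 zc27) (kc xc0 yc28 zc1) (kc xc2 yc8 zc33) (kc xc0 yc28 zc35) (kc xc2 yc8 zc37) (kc xc0 yc28 zc5) (kc xc2 yc8 zc40) (kc xc0 yc28 zc4) (kc xc2 yc8 zc44) (kc xc2 yc8 zc18) (kc xc2 yc8 zc39) (kc xc1 yc1 zc19) (kc xc2 yc8 zc48) (kc xc0 yc28 zc8) (kc xc0 yc28 zc7) (kc xc0 yc28 zc9) (kc xc2 yc8 zc54) (kc xc0 yc28 zc10) (kc xc2 yc8 zc60) (kc xc0 yc32 zc38) (kc xc0 yc55 zc18) (kc xc0 yc29 zc6) (kc xc2 yc9 zc13) (kc xc0 yc28 zc12) (kc xc2 yc9 zc16) (kc xc0 yc30 zc22) (kc xc0 yc30 zc21) (kc xc0 yc30 zc4) (kc xc1 yc2 zc16) (kc xc0 yc28 zc14) (kc xc1 yc28 zc13) (kc xc2 yc9 zc31) (kc xc1 yc57 zc2) (kc xc0 yc40 zc46) (kc xc0 yc28 zc16) (kc xc2 yc9 zc43) (kc xc2 yc9 zc42)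 (kc xc0 yc29 zc33) (kc xc1 yc2 zc9)) (@D3.rec (fun _ => Pt) (kc xc1 yc2 zc8) (kc xc1 yc2 zc6) (kc xc0 yc28 zc20) (kc xc2 yc9 zc59) (kc xc2 yc9 zc60) (kc xc2 yc9 zc58) (kc xc1 yc2 zc1) (kc xc0 yc32 zc2) (kc xc1 yc2 zc0) (kc xc1 yc1 zc61) (kc xc0 yc55 zc23) (kc xc2 yc10 zc13) (kc xc2 yc10 zc18) (kc xc0 yc29 zc41) (kc xc2 yc10 zc24) (kc xc0 yc29 zc43) (kc xc1 yc1 zc51) (kc xc0 yc28 zc24) (kc xc2 yc10 zc31) (kc xc0 yc54 zc36) (kc xc0 yc28 zc26) (kc xc2 yc10 zc39) (kc xc2 yc10 zc41) (kc xc0 yc34 zc59) (kc xc1 yc15 zc41) (kc xc2 yc10 zc51) (kc xc1 yc59 zc43) (kc xc2 yc1 zc15) (kc xc2 yc10 zc56) (kc xc0 yc56 zc51) (kc xc1 yc0 zc37) (kc xc2 yc10 zc61) (kc xc2 yc1 zc48) (kc xc0 yc58 zc2) (kc xc2 yc11 zc5) (kc xc2 yc3 zc22) (kc xc2 yc11 zc10) (kc xc1 yc0 zc39) (kc xc2 yc11 zc14)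 (kc xc2 yc11 zc16) (kc xc0 yc28 zc33) (kc xc2 yc11 zc22) (kc xc2 yc11 zc26) (kc xc2 yc8 zc36) (kc xc2 yc11 zc31) (kc xc0 yc28 zc36) (kc xc1 yc22 zc30) (kc xc0 yc28 zc53) (kc xc0 yc54 zc51) (kc xc2 yc11 zc38) (kc xc2 yc11 zc41) (kc xc2 yc5 zc5) (kc xc0 yc28 zc39) (kc xc2 yc11 zc45) (kc xc2 yc11 zc48) (kc xc0 yc28 zc41) (kc xc2 yc11 zc52) (kc xc2 yc11 zc58) (kc xc0 yc28 zc42) (kc xc2 yc12 zc0) (kc xc0 yc32 zc24) (kc xc0 yc32 zc25)) (@D3.rec (fun _ => Pt) (kc xc2 yc11 zc20) (kc xc0 yc37 zc12) (kc xc0 yc28 zc44) (kc xc2 yc12 zc18) (kc xc0 yc28 zc45) (kc xc1 yc22 zc8) (kc xc1 yc9 zc15) (kc xc1 yc9 zc16) (kc xc1 yc17 zc2) (kc xc0 yc28 zc47) (kc xc2 yc12 zc24) (kc xc0 yc28 zc54) (kc xc0 yc28 zc49) (kc xc0 yc28 zc50) (kc xc0 yc32 zc30) (kc xc0 yc37 zc18) (kc xc2 yc12 zc16)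 (kc xc0 yc28 zc52) (kc xc2 yc12 zc35) (kc xc2 yc12 zc36) (kc xc1 yc16 zc2) (kc xc2 yc12 zc40) (kc xc1 yc3 zc22) (kc xc0 yc28 zc56) (kc xc2 yc12 zc45) (kc xc1 yc3 zc25) (kc xc2 yc12 zc15) (kc xc0 yc28 zc60) (kc xc0 yc31 zc47) (kc xc0 yc29 zc1) (kc xc2 yc12 zc8) (kc xc2 yc12 zc58) (kc xc2 yc12 zc59) (kc xc0 yc36 zc52) (kc xc1 yc3 zc34) (kc xc2 yc12 zc5) (kc xc0 yc29 zc3) (kc xc2 yc13 zc6) (kc xc2 yc13 zc5) (kc xc2 yc8 zc52) (kc xc2 yc11 zc61) (kc xc0 yc54 zc55) (kc xc2 yc13 zc18) (kc xc2 yc11 zc51) (kc xc0 yc54 zc57) (kc xc2 yc13 zc26) (kc xc2 yc13 zc29) (kc xc2 yc9 zc8) (kc xc2 yc13 zc35) (kc xc2 yc9 zc10) (kc xc2 yc11 zc44) (kc xc2 yc11 zc34) (kc xc0 yc29 zc7) (kc xc2 yc13 zc44) (kc xc0 yc35 zc61) (kc xc0 yc29 zc9) (kc xc0 yc29 zc11) (kc xc1 yc3 zc58) (kc xc1 yc3 zc57)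 (kc xc0 yc29 zc23) (kc xc2 yc13 zc54) (kc xc0 yc29 zc17)) (@D3.rec (fun _ => Pt) (kc xc0 yc31 zc15) (kc xc2 yc13 zc61) (kc xc0 yc29 zc15) (kc xc2 yc14 zc2) (kc xc0 yc29 zc16) (kc xc2 yc14 zc6) (kc xc2 yc14 zc5) (kc xc2 yc14 zc8) (kc xc1 yc28 zc31) (kc xc1 yc4 zc9) (kc xc2 yc14 zc14) (kc xc0 yc31 zc13) (kc xc2 yc14 zc18) (kc xc0 yc29 zc21) (kc xc0 yc29 zc22) (kc xc1 yc5 zc56) (kc xc1 yc5 zc53) (kc xc0 yc39 zc27) (kc xc1 yc48 zc46) (kc xc0 yc30 zc55) (kc xc1 yc23 zc48) (kc xc1 yc22 zc37) (kc xc1 yc4 zc22) (kc xc2 yc14 zc32) (kc xc1 yc4 zc24) (kc xc0 yc30 zc54) (kc xc0 yc32 zc48) (kc xc0 yc32 zc49) (kc xc2 yc12 zc25) (kc xc0 yc29 zc32) (kc xc0 yc29 zc30) (kc xc0 yc29 zc31) (kc xc2 yc14 zc49) (kc xc2 yc14 zc51) (kc xc2 yc9 zc46) (kc xc2 yc14 zc55) (kc xc2 yc7 zc34) (kc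 xc0 yc30 zc48) (kc xc2 yc15 zc3) (kc xc0 yc32 zc13) (kc xc2 yc15 zc5) (kc xc2 yc15 zc8) (kc xc2 yc15 zc11) (kc xc0 yc29 zc36) (kc xc2 yc15 zc18) (kc xc2 yc15 zc17) (kc xc0 yc30 zc42) (kc xc2 yc11 zc35) (kc xc0 yc39 zc57) (kc xc2 yc10 zc10) (kc xc2 yc15 zc31) (kc xc2 yc15 zc35) (kc xc0 yc29 zc39) (kc xc2 yc15 zc46) (kc xc2 yc15 zc43) (kc xc2 yc15 zc44) (kc xc1 yc11 zc11) (kc xc0 yc29 zc40) (kc xc2 yc15 zc58) (kc xc2 yc15 zc57) (kc xc2 yc16 zc1) (kc xc2 yc16 zc4)) (@D3.rec (fun _ => Pt) (kc xc2 yc16 zc6) (kc xc0 yc29 zc42) (kc xc2 yc16 zc11) (kc xc2 yc10 zc27) (kc xc2 yc16 zc18) (kc xc0 yc30 zc35) (kc xc2 yc16 zc25) (kc xc0 yc30 zc15) (kc xc1 yc38 zc29) (kc xc0 yc42 zc30) (kc xc0 yc44 zc60) (kc xc0 yc40 zc34) (kc xc0 yc40 zc35) (kc xc2 yc16 zc41) (kc xc0 yc38 zc4) (kc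 xc0 yc29 zc48) (kc xc2 yc16 zc44) (kc xc0 yc29 zc49) (kc xc2 yc16 zc46) (kc xc0 yc38 zc7) (kc xc0 yc29 zc57) (kc xc1 yc28 zc4) (kc xc0 yc29 zc53) (kc xc2 yc4 zc5) (kc xc2 yc16 zc58) (kc xc0 yc29 zc56) (kc xc2 yc17 zc0) (kc xc2 yc16 zc49) (kc xc2 yc17 zc2) (kc xc0 yc40 zc28) (kc xc0 yc29 zc59) (kc xc2 yc17 zc9) (kc xc1 yc26 zc51) (kc xc0 yc29 zc60) (kc xc2 yc17 zc13) (kc xc2 yc17 zc15) (kc xc2 yc17 zc17) (kc xc2 yc17 zc18) (kc xc0 yc30 zc0) (kc xc2 yc17 zc24) (kc xc2 yc17 zc22) (kc xc0 yc30 zc2) (kc xc2 yc17 zc35) (kc xc2 yc17 zc39) (kc xc2 yc17 zc33) (kc xc1 yc26 zc14) (kc xc1 yc26 zc15) (kc xc2 yc17 zc43) (kc xc2 yc17 zc45) (kc xc2 yc9 zc24) (kc xc2 yc9 zc26) (kc xc2 yc17 zc53) (kc xc0 yc30 zc8) (kc xc1 yc4 zc16) (kc xc1 yc18 zc51) (kc xc2 yc17 zc55) (kc xc1 yc4 zc15)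 (kc xc1 yc21 zc22) (kc xc1 yc26 zc44) (kc xc1 yc26 zc46) (kc xc1 yc5 zc60) (kc xc0 yc30 zc10)) (@D3.rec (fun _ => Pt) (kc xc0 yc30 zc11) (kc xc2 yc17 zc60) (kc xc0 yc41 zc35) (kc xc2 yc18 zc3) (kc xc2 yc18 zc4) (kc xc0 yc30 zc13) (kc xc2 yc18 zc9) (kc xc2 yc18 zc14) (kc xc2 yc18 zc16) (kc xc2 yc18 zc18) (kc xc0 yc41 zc43) (kc xc1 yc21 zc46) (kc xc1 yc21 zc47) (kc xc2 yc18 zc26) (kc xc2 yc16 zc30) (kc xc2 yc18 zc28) (kc xc1 yc6 zc16) (kc xc2 yc18 zc32) (kc xc0 yc30 zc18) (kc xc1 yc37 zc31) (kc xc1 yc6 zc20) (kc xc2 yc18 zc40) (kc xc2 yc9 zc19) (kc xc0 yc30 zc25) (kc xc1 yc55 zc35) (kc xc0 yc30 zc24) (kc xc2 yc9 zc20) (kc xc2 yc9 zc40) (kc xc2 yc18 zc50) (kc xc2 yc18 zc53) (kc xc2 yc18 zc56) (kc xc2 yc18 zc45) (kc xc2 yc18 zc47) (kc xc2 yc19 zc2) (kc xc0 yc30 zc29) (kc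 xc1 yc19 zc44) (kc xc1 yc12 zc29) (kc xc0 yc45 zc14) (kc xc0 yc30 zc30) (kc xc2 yc17 zc7) (kc xc0 yc30 zc31) (kc xc2 yc19 zc5) (kc xc2 yc19 zc7) (kc xc0 yc42 zc26) (kc xc2 yc19 zc11) (kc xc2 yc19 zc14) (kc xc0 yc30 zc33) (kc xc2 yc19 zc19) (kc xc2 yc19 zc24) (kc xc2 yc3 zc40) (kc xc0 yc42 zc34) (kc xc1 yc21 zc14) (kc xc1 yc21 zc15) (kc xc2 yc19 zc34) (kc xc2 yc16 zc23) (kc xc0 yc30 zc36) (kc xc2 yc18 zc35) (kc xc0 yc30 zc38) (kc xc2 yc19 zc38) (kc xc2 yc15 zc2) (kc xc0 yc30 zc41) (kc xc2 yc15 zc27)) (@D3.rec (fun _ => Pt) (kc xc1 yc22 zc21) (kc xc1 yc22 zc22) (kc xc0 yc30 zc51) (kc xc0 yc30 zc43) (kc xc1 yc7 zc32) (kc xc0 yc30 zc44) (kc xc2 yc19 zc48) (kc xc0 yc30 zc49) (kc xc0 yc30 zc46) (kc xc0 yc43 zc13) (kc xc0 yc43 zc15) (kc xc0 yc30 zc50) (kc xc2 yc19 zc55) (kc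 xc2 yc19 zc54) (kc xc0 yc43 zc48) (kc xc2 yc19 zc59) (kc xc2 yc19 zc61) (kc xc2 yc20 zc1) (kc xc2 yc20 zc4) (kc xc0 yc30 zc53) (kc xc2 yc20 zc8) (kc xc2 yc15 zc24) (kc xc2 yc15 zc25) (kc xc2 yc14 zc38) (kc xc2 yc14 zc61) (kc xc2 yc15 zc0) (kc xc2 yc14 zc26) (kc xc2 yc20 zc17) (kc xc1 yc7 zc28) (kc xc1 yc33 zc3) (kc xc0 yc30 zc58) (kc xc2 yc20 zc21) (kc xc1 yc7 zc4) (kc xc2 yc20 zc26) (kc xc0 yc31 zc0) (kc xc0 yc30 zc61) (kc xc2 yc20 zc34) (kc xc2 yc20 zc29) (kc xc2 yc20 zc35) (kc xc0 yc31 zc4) (kc xc0 yc31 zc3) (kc xc1 yc7 zc41) (kc xc2 yc20 zc40) (kc xc2 yc20 zc42) (kc xc0 yc31 zc5) (kc xc2 yc20 zc48) (kc xc2 yc20 zc51) (kc xc0 yc31 zc6) (kc xc2 yc20 zc57) (kc xc2 yc21 zc1) (kc xc0 yc31 zc7) (kc xc2 yc21 zc4) (kc xc2 yc17 zc8) (kc xc2 yc17 zc12) (kc xc0 yc31 zc16)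 (kc xc2 yc21 zc21) (kc xc0 yc31 zc9) (kc xc0 yc31 zc10) (kc xc2 yc21 zc30) (kc xc2 yc21 zc32) (kc xc2 yc21 zc27) (kc xc2 yc21 zc28)) (@D3.rec (fun _ => Pt) (kc xc2 yc21 zc37) (kc xc2 yc21 zc40) (kc xc2 yc21 zc43) (kc xc2 yc21 zc44) (kc xc0 yc31 zc12) (kc xc2 yc21 zc49) (kc xc2 yc16 zc27) (kc xc2 yc16 zc28) (kc xc2 yc21 zc60) (kc xc2 yc14 zc17) (kc xc2 yc22 zc0) (kc xc0 yc31 zc14) (kc xc2 yc22 zc3) (kc xc2 yc16 zc20) (kc xc2 yc16 zc21) (kc xc2 yc22 zc13) (kc xc2 yc13 zc58) (kc xc2 yc22 zc16) (kc xc2 yc22 zc19) (kc xc2 yc21 zc16) (kc xc2 yc21 zc18) (kc xc1 yc37 zc38) (kc xc1 yc37 zc39) (kc xc2 yc22 zc34) (kc xc0 yc31 zc20) (kc xc2 yc22 zc37) (kc xc0 yc31 zc18) (kc xc2 yc22 zc41) (kc xc2 yc22 zc44) (kc xc0 yc31 zc19) (kc xc2 yc22 zc48) (kc xc0 yc38 zc59) (kc xc1 yc56 zc35)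 (kc xc1 yc56 zc36) (kc xc2 yc22 zc56) (kc xc2 yc22 zc57) (kc xc2 yc22 zc60) (kc xc0 yc31 zc23) (kc xc0 yc35 zc4) (kc xc0 yc54 zc39) (kc xc1 yc8 zc40) (kc xc2 yc23 zc9) (kc xc0 yc56 zc9) (kc xc0 yc57 zc51) (kc xc1 yc1 zc14) (kc xc2 yc23 zc18) (kc xc1 yc8 zc46) (kc xc2 yc4 zc16) (kc xc0 yc31 zc27) (kc xc2 yc23 zc25) (kc xc2 yc23 zc23) (kc xc0 yc54 zc42) (kc xc0 yc31 zc28) (kc xc2 yc23 zc34) (kc xc2 yc23 zc33) (kc xc2 yc23 zc38) (kc xc2 yc23 zc41) (kc xc0 yc31 zc29) (kc xc2 yc23 zc47) (kc xc2 yc23 zc50) (kc xc2 yc6 zc27) (kc xc2 yc23 zc56)) (@D3.rec (fun _ => Pt) (kc xc2 yc6 zc29) (kc xc2 yc23 zc45) (kc xc0 yc31 zc56) (kc xc0 yc31 zc34) (kc xc2 yc24 zc5) (kc xc2 yc24 zc7) (kc xc0 yc31 zc37) (kc xc0 yc31 zc36) (kc xc1 yc59 zc10) (kc xc2 yc24 zc10) (kc xc2 yc24 zc11) (kc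 xc0 yc58 zc60) (kc xc0 yc31 zc43) (kc xc0 yc55 zc12) (kc xc0 yc33 zc39) (kc xc1 yc3 zc6) (kc xc1 yc3 zc7) (kc xc0 yc36 zc30) (kc xc2 yc8 zc29) (kc xc2 yc8 zc30) (kc xc0 yc31 zc51) (kc xc2 yc24 zc25) (kc xc2 yc24 zc28) (kc xc2 yc3 zc4) (kc xc2 yc24 zc34) (kc xc1 yc30 zc19) (kc xc2 yc24 zc23) (kc xc2 yc24 zc4) (kc xc1 yc0 zc27) (kc xc2 yc4 zc49) (kc xc2 yc24 zc44) (kc xc2 yc24 zc45) (kc xc2 yc7 zc40) (kc xc2 yc7 zc46) (kc xc2 yc7 zc47) (kc xc2 yc10 zc1) (kc xc0 yc32 zc4) (kc xc0 yc32 zc5) (kc xc0 yc32 zc9) (kc xc0 yc32 zc10) (kc xc0 yc57 zc42) (kc xc0 yc32 zc16) (kc xc0 yc34 zc52) (kc xc2 yc24 zc60) (kc xc2 yc24 zc57) (kc xc0 yc32 zc18) (kc xc0 yc34 zc56) (kc xc2 yc25 zc6) (kc xc2 yc25 zc2) (kc xc1 yc55 zc54) (kc xc2 yc1 zc53) (kc xc2 yc25 zc13) (kc xc0 yc35 zc1) (kc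 xc2 yc1 zc26) (kc xc0 yc32 zc20) (kc xc2 yc25 zc21) (kc xc2 yc25 zc19) (kc xc2 yc25 zc25) (kc xc0 yc32 zc21) (kc xc2 yc25 zc30) (kc xc2 yc25 zc29) (kc xc2 yc25 zc33)) (@D3.rec (fun _ => Pt) (kc xc2 yc25 zc36) (kc xc0 yc32 zc22) (kc xc2 yc25 zc42) (kc xc1 yc59 zc0) (kc xc2 yc12 zc6) (kc xc2 yc25 zc50) (kc xc2 yc12 zc9) (kc xc2 yc25 zc40) (kc xc1 yc56 zc21) (kc xc0 yc32 zc27) (kc xc2 yc25 zc61) (kc xc2 yc26 zc2) (kc xc2 yc26 zc3) (kc xc0 yc32 zc28) (kc xc2 yc26 zc5) (kc xc1 yc25 zc36) (kc xc2 yc26 zc7) (kc xc2 yc8 zc19) (kc xc2 yc26 zc4) (kc xc0 yc32 zc32) (kc xc2 yc12 zc33) (kc xc2 yc26 zc14) (kc xc0 yc32 zc36) (kc xc2 yc26 zc16) (kc xc0 yc32 zc35) (kc xc2 yc26 zc17) (kc xc2 yc9 zc2) (kc xc2 yc12 zc54) (kc xc2 yc12 zc55) (kc xc1 yc19 zc58) (kc xc0 yc32 zc40) (kc xc2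 yc26 zc25) (kc xc1 yc20 zc5) (kc xc2 yc26 zc30) (kc xc2 yc26 zc34) (kc xc0 yc37 zc5) (kc xc2 yc26 zc40) (kc xc0 yc37 zc7) (kc xc0 yc32 zc43) (kc xc2 yc26 zc45) (kc xc1 yc56 zc7) (kc xc0 yc32 zc45) (kc xc1 yc55 zc40) (kc xc0 yc32 zc47) (kc xc2 yc26 zc56) (kc xc2 yc26 zc55) (kc xc0 yc38 zc36) (kc xc1 yc56 zc22) (kc xc2 yc10 zc11) (kc xc0 yc32 zc51) (kc xc2 yc27 zc10) (kc xc2 yc27 zc7) (kc xc2 yc27 zc8) (kc xc2 yc27 zc19) (kc xc0 yc32 zc52) (kc xc2 yc27 zc24) (kc xc2 yc27 zc23) (kc xc2 yc27 zc31) (kc xc2 yc27 zc34) (kc xc2 yc27 zc37) (kc xc0 yc32 zc54) (kc xc2 yc27 zc42)) (@D3.rec (fun _ => Pt) (kc xc2 yc27 zc43) (kc xc0 yc38 zc52) (kc xc0 yc44 zc61) (kc xc0 yc45 zc0) (kc xc1 yc30 zc24) (kc xc0 yc45 zc12) (kc xc2 yc27 zc58) (kc xc2 yc10 zc36) (kc xc2 yc27 zc60) (kc xc2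 yc27 zc61) (kc xc2 yc28 zc2) (kc xc1 yc4 zc56) (kc xc1 yc14 zc43) (kc xc2 yc28 zc4) (kc xc0 yc56 zc46) (kc xc2 yc28 zc6) (kc xc1 yc14 zc15) (kc xc1 yc58 zc16) (kc xc2 yc28 zc10) (kc xc1 yc11 zc19) (kc xc2 yc28 zc12) (kc xc0 yc33 zc4) (kc xc2 yc28 zc19) (kc xc2 yc28 zc16) (kc xc0 yc56 zc49) (kc xc0 yc33 zc5) (kc xc2 yc28 zc25) (kc xc2 yc28 zc24) (kc xc2 yc28 zc29) (kc xc2 yc28 zc32) (kc xc0 yc33 zc6) (kc xc2 yc28 zc38) (kc xc2 yc28 zc42) (kc xc2 yc28 zc45) (kc xc2 yc28 zc47) (kc xc0 yc33 zc9) (kc xc2 yc28 zc53) (kc xc2 yc23 zc5) (kc xc1 yc15 zc22) (kc xc2 yc29 zc0) (kc xc1 yc15 zc45) (kc xc0 yc33 zc11) (kc xc2 yc29 zc7) (kc xc2 yc29 zc11) (kc xc2 yc29 zc12) (kc xc0 yc33 zc13) (kc xc2 yc29 zc16) (kc xc2 yc29 zc21) (kc xc0 yc33 zc14) (kc xc2 yc29 zc25) (kc xc0 yc34 zc31)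 (kc xc0 yc34 zc32) (kc xc2 yc28 zc36) (kc xc1 yc14 zc5) (kc xc0 yc33 zc16) (kc xc2 yc29 zc43) (kc xc0 yc33 zc19) (kc xc2 yc29 zc48) (kc xc2 yc29 zc50) (kc xc2 yc29 zc52) (kc xc0 yc33 zc18) (kc xc2 yc29 zc59)) (@D3.rec (fun _ => Pt) (kc xc2 yc30 zc0) (kc xc2 yc30 zc3) (kc xc0 yc33 zc20) (kc xc2 yc30 zc5) (kc xc0 yc39 zc35) (kc xc0 yc33 zc21) (kc xc0 yc33 zc22) (kc xc0 yc57 zc31) (kc xc0 yc58 zc51) (kc xc2 yc29 zc55) (kc xc2 yc29 zc41) (kc xc2 yc30 zc22) (kc xc1 yc13 zc5) (kc xc0 yc33 zc25) (kc xc2 yc30 zc26) (kc xc2 yc30 zc30) (kc xc2 yc24 zc48) (kc xc2 yc29 zc40) (kc xc0 yc33 zc28) (kc xc0 yc33 zc29) (kc xc2 yc30 zc40) (kc xc2 yc30 zc38) (kc xc2 yc29 zc33) (kc xc0 yc33 zc31) (kc xc1 yc13 zc58) (kc xc2 yc29 zc30) (kc xc0 yc33 zc33) (kc xc1 yc13 zc47) (kc xc2 yc29 zc24)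 (kc xc1 yc6 zc36) (kc xc2 yc30 zc59) (kc xc2 yc29 zc15) (kc xc0 yc56 zc59) (kc xc2 yc31 zc4) (kc xc2 yc31 zc9) (kc xc1 yc12 zc35) (kc xc2 yc31 zc14) (kc xc1 yc12 zc37) (kc xc2 yc29 zc6) (kc xc2 yc28 zc52) (kc xc0 yc33 zc37) (kc xc2 yc31 zc22) (kc xc1 yc13 zc18) (kc xc0 yc36 zc29) (kc xc1 yc57 zc44) (kc xc0 yc33 zc43) (kc xc1 yc19 zc40) (kc xc0 yc33 zc44) (kc xc0 yc35 zc22) (kc xc2 yc31 zc31) (kc xc0 yc56 zc57) (kc xc1 yc15 zc4) (kc xc2 yc31 zc35) (kc xc0 yc58 zc34) (kc xc2 yc31 zc39) (kc xc2 yc31 zc42) (kc xc0 yc33 zc49) (kc xc2 yc31 zc48) (kc xc2 yc31 zc50) (kc xc0 yc35 zc6) (kc xc0 yc33 zc51) (kc xc2 yc31 zc56)) (@D3.rec (fun _ => Pt) (kc xc2 yc31 zc59) (kc xc2 yc31 zc61) (kc xc0 yc33 zc52) (kc xc2 yc32 zc2) (kc xc2 yc32 zc8) (kc xc1 yc12 zc12) (kc xc0 yc33 zc54)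 (kc xc2 yc32 zc13) (kc xc2 yc32 zc17) (kc xc2 yc32 zc19) (kc xc0 yc33 zc56) (kc xc2 yc32 zc23) (kc xc2 yc32 zc27) (kc xc0 yc33 zc57) (kc xc2 yc32 zc31) (kc xc0 yc34 zc46) (kc xc0 yc34 zc47) (kc xc2 yc31 zc46) (kc xc1 yc12 zc42) (kc xc0 yc33 zc59) (kc xc2 yc32 zc49) (kc xc2 yc32 zc53) (kc xc2 yc28 zc49) (kc xc2 yc28 zc50) (kc xc0 yc33 zc61) (kc xc2 yc32 zc59) (kc xc0 yc34 zc0) (kc xc0 yc34 zc1) (kc xc0 yc57 zc1) (kc xc1 yc0 zc29) (kc xc2 yc24 zc49) (kc xc2 yc32 zc47) (kc xc0 yc34 zc6) (kc xc2 yc33 zc13) (kc xc0 yc34 zc5) (kc xc2 yc33 zc16) (kc xc2 yc33 zc17) (kc xc0 yc34 zc4) (kc xc2 yc33 zc23) (kc xc2 yc33 zc26) (kc xc2 yc33 zc10) (kc xc0 yc34 zc7) (kc xc2 yc33 zc30) (kc xc2 yc33 zc34) (kc xc2 yc33 zc21) (kc xc2 yc32 zc46) (kc xc0 yc34 zc10) (kc xc1 yc12 zc27) (kc xc2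 yc32 zc39) (kc xc0 yc34 zc12) (kc xc0 yc34 zc13) (kc xc2 yc33 zc45) (kc xc2 yc33 zc43) (kc xc2 yc32 zc36) (kc xc0 yc34 zc15) (kc xc2 yc33 zc54) (kc xc2 yc32 zc30) (kc xc0 yc42 zc16) (kc xc1 yc12 zc24) (kc xc2 yc32 zc22) (kc xc0 yc57 zc27) (kc xc0 yc57 zc26)) (@D3.rec (fun _ => Pt) (kc xc2 yc34 zc4) (kc xc2 yc32 zc12) (kc xc2 yc32 zc1) (kc xc0 yc34 zc19) (kc xc2 yc34 zc11) (kc xc1 yc11 zc53) (kc xc0 yc34 zc22) (kc xc2 yc34 zc17) (kc xc2 yc0 zc21) (kc xc0 yc34 zc25) (kc xc2 yc34 zc20) (kc xc2 yc34 zc21) (kc xc1 yc59 zc48) (kc xc2 yc34 zc25) (kc xc0 yc59 zc35) (kc xc1 yc11 zc16) (kc xc0 yc34 zc27) (kc xc2 yc34 zc33) (kc xc2 yc34 zc31) (kc xc2 yc23 zc3) (kc xc0 yc34 zc28) (kc xc2 yc34 zc40) (kc xc2 yc34 zc39) (kc xc2 yc34 zc44) (kc xc2 yc34 zc47) (kc xc0 yc34 zc29) (kc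 xc2 yc34 zc53) (kc xc2 yc34 zc55) (kc xc2 yc29 zc31) (kc xc2 yc34 zc60) (kc xc2 yc29 zc34) (kc xc2 yc34 zc51) (kc xc2 yc15 zc4) (kc xc0 yc34 zc34) (kc xc2 yc35 zc9) (kc xc2 yc4 zc0) (kc xc2 yc35 zc12) (kc xc0 yc34 zc38) (kc xc0 yc57 zc39) (kc xc0 yc35 zc25) (kc xc2 yc35 zc18) (kc xc2 yc35 zc14) (kc xc2 yc1 zc5) (kc xc1 yc11 zc12) (kc xc2 yc1 zc6) (kc xc2 yc1 zc7) (kc xc2 yc35 zc29) (kc xc0 yc34 zc45) (kc xc2 yc35 zc32) (kc xc1 yc25 zc9) (kc xc2 yc25 zc0) (kc xc2 yc35 zc36) (kc xc2 yc1 zc22) (kc xc2 yc35 zc39) (kc xc2 yc35 zc42) (kc xc0 yc34 zc44) (kc xc2 yc35 zc48) (kc xc2 yc35 zc50) (kc xc2 yc32 zc37) (kc xc2 yc35 zc55) (kc xc2 yc32 zc40) (kc xc2 yc35 zc46)) (@D3.rec (fun _ => Pt) (kc xc1 yc23 zc0) (kc xc0 yc34 zc49) (kc xc2 yc36 zc4) (kc xc2 yc24 zc55) (kc xc1 yc12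 zc51) (kc xc2 yc36 zc12) (kc xc0 yc34 zc58) (kc xc1 yc57 zc47) (kc xc2 yc36 zc17) (kc xc0 yc34 zc54) (kc xc2 yc36 zc19) (kc xc2 yc3 zc61) (kc xc2 yc36 zc21) (kc xc0 yc34 zc53) (kc xc2 yc36 zc28) (kc xc2 yc36 zc32) (kc xc1 yc58 zc18) (kc xc2 yc36 zc34) (kc xc2 yc25 zc4) (kc xc2 yc36 zc39) (kc xc0 yc34 zc57) (kc xc2 yc36 zc45) (kc xc1 yc11 zc38) (kc xc2 yc36 zc49) (kc xc2 yc10 zc47) (kc xc1 yc15 zc54) (kc xc2 yc36 zc54) (kc xc1 yc15 zc52) (kc xc0 yc34 zc61) (kc xc2 yc36 zc58) (kc xc2 yc36 zc57) (kc xc2 yc36 zc61) (kc xc2 yc37 zc3) (kc xc0 yc35 zc0) (kc xc2 yc37 zc9) (kc xc2 yc37 zc11) (kc xc2 yc37 zc12) (kc xc2 yc23 zc1) (kc xc2 yc23 zc2) (kc xc2 yc37 zc17) (kc xc0 yc35 zc9) (kc xc1 yc2 zc24) (kc xc2 yc37 zc23) (kc xc2 yc7 zc24) (kc xc2 yc37 zc25) (kc xc1 yc11 zc40) (kc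 xc2 yc37 zc28) (kc xc2 yc37 zc30) (kc xc0 yc35 zc8) (kc xc2 yc37 zc36) (kc xc2 yc25 zc17) (kc xc2 yc37 zc41) (kc xc1 yc15 zc27) (kc xc1 yc19 zc3) (kc xc1 yc15 zc25) (kc xc2 yc37 zc51) (kc xc0 yc35 zc13) (kc xc2 yc37 zc56) (kc xc2 yc37 zc58) (kc xc0 yc35 zc12) (kc xc2 yc38 zc2) (kc xc2 yc6 zc58)) (@D3.rec (fun _ => Pt) (kc xc2 yc38 zc8) (kc xc2 yc37 zc55) (kc xc1 yc3 zc20) (kc xc0 yc35 zc14) (kc xc2 yc38 zc14) (kc xc2 yc38 zc11) (kc xc2 yc38 zc19) (kc xc0 yc35 zc17) (kc xc0 yc35 zc16) (kc xc2 yc38 zc26) (kc xc2 yc38 zc31) (kc xc2 yc38 zc23) (kc xc2 yc38 zc33) (kc xc0 yc35 zc18) (kc xc2 yc38 zc42) (kc xc2 yc38 zc40) (kc xc2 yc38 zc49) (kc xc0 yc35 zc19) (kc xc2 yc38 zc54) (kc xc2 yc38 zc53) (kc xc2 yc38 zc60) (kc xc2 yc39 zc2) (kc xc0 yc35 zc60) (kc xc2 yc39 zc12) (kc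 xc0 yc35 zc21) (kc xc2 yc39 zc15) (kc xc2 yc39 zc20) (kc xc2 yc31 zc28) (kc xc2 yc39 zc22) (kc xc0 yc35 zc23) (kc xc2 yc39 zc26) (kc xc2 yc39 zc31) (kc xc2 yc11 zc28) (kc xc0 yc35 zc26) (kc xc2 yc39 zc35) (kc xc2 yc39 zc38) (kc xc0 yc35 zc28) (kc xc2 yc39 zc42) (kc xc2 yc39 zc46) (kc xc0 yc35 zc29) (kc xc2 yc14 zc40) (kc xc0 yc57 zc23) (kc xc0 yc36 zc11) (kc xc2 yc37 zc34) (kc xc1 yc25 zc59) (kc xc0 yc35 zc31) (kc xc2 yc40 zc3) (kc xc0 yc35 zc32) (kc xc2 yc40 zc5) (kc xc2 yc40 zc7) (kc xc2 yc5 zc3) (kc xc2 yc40 zc11) (kc xc2 yc40 zc14) (kc xc0 yc35 zc34) (kc xc2 yc40 zc20) (kc xc2 yc40 zc24) (kc xc2 yc40 zc27) (kc xc2 yc5 zc16) (kc xc2 yc40 zc30) (kc xc0 yc35 zc36) (kc xc2 yc40 zc34) (kc xc0 yc35 zc37)) (@D3.rec (fun _ => Pt) (kc xc2 yc40 zc40) (kc xc1 yc0 zc42) (kc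 xc1 yc3 zc8) (kc xc2 yc40 zc18) (kc xc0 yc37 zc9) (kc xc0 yc35 zc39) (kc xc0 yc38 zc34) (kc xc2 yc15 zc29) (kc xc1 yc22 zc29) (kc xc2 yc40 zc54) (kc xc2 yc40 zc55) (kc xc0 yc35 zc43) (kc xc2 yc40 zc59) (kc xc2 yc40 zc58) (kc xc1 yc18 zc9) (kc xc2 yc41 zc5) (kc xc0 yc35 zc46) (kc xc2 yc41 zc11) (kc xc2 yc41 zc14) (kc xc0 yc35 zc45) (kc xc2 yc41 zc20) (kc xc1 yc17 zc35) (kc xc2 yc1 zc11) (kc xc2 yc41 zc26) (kc xc2 yc41 zc10) (kc xc2 yc41 zc18) (kc xc0 yc37 zc8) (kc xc0 yc35 zc48) (kc xc2 yc41 zc37) (kc xc2 yc41 zc40) (kc xc2 yc41 zc43) (kc xc2 yc41 zc36) (kc xc0 yc35 zc49) (kc xc2 yc41 zc46) (kc xc0 yc35 zc51) (kc xc1 yc17 zc21) (kc xc2 yc41 zc52) (kc xc0 yc54 zc48) (kc xc2 yc41 zc50) (kc xc0 yc37 zc1) (kc xc0 yc35 zc54) (kc xc2 yc42 zc11) (kc xc2 yc42 zc13) (kc xc2 yc42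 zc16) (kc xc2 yc42 zc9) (kc xc2 yc42 zc17) (kc xc0 yc35 zc55) (kc xc2 yc42 zc23) (kc xc2 yc42 zc21) (kc xc0 yc36 zc60) (kc xc0 yc35 zc57) (kc xc2 yc42 zc36) (kc xc2 yc42 zc39) (kc xc2 yc42 zc35) (kc xc2 yc42 zc43) (kc xc0 yc36 zc53) (kc xc1 yc56 zc4) (kc xc2 yc42 zc54) (kc xc0 yc36 zc42) (kc xc1 yc56 zc5) (kc xc2 yc43 zc0) (kc xc2 yc43 zc5)) (@D3.rec (fun _ => Pt) (kc xc2 yc39 zc7) (kc xc2 yc43 zc11) (kc xc2 yc39 zc9) (kc xc0 yc36 zc39) (kc xc0 yc36 zc19) (kc xc2 yc13 zc48) (kc xc0 yc36 zc1) (kc xc2 yc43 zc24) (kc xc2 yc43 zc28) (kc xc1 yc17 zc14) (kc xc0 yc36 zc2) (kc xc2 yc43 zc33) (kc xc2 yc43 zc35) (kc xc1 yc18 zc13) (kc xc2 yc43 zc40) (kc xc2 yc43 zc43) (kc xc0 yc36 zc4) (kc xc2 yc43 zc49) (kc xc2 yc43 zc55) (kc xc2 yc43 zc58) (kc xc2 yc43 zc61) (kc xc1 yc18 zc21)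 (kc xc2 yc44 zc0) (kc xc0 yc36 zc6) (kc xc2 yc44 zc3) (kc xc2 yc44 zc8) (kc xc0 yc36 zc7) (kc xc2 yc44 zc11) (kc xc2 yc43 zc47) (kc xc0 yc36 zc9) (kc xc0 yc38 zc13) (kc xc2 yc14 zc44) (kc xc1 yc22 zc33) (kc xc2 yc15 zc28) (kc xc2 yc2 zc23) (kc xc2 yc39 zc23) (kc xc0 yc36 zc13) (kc xc2 yc44 zc28) (kc xc2 yc40 zc39) (kc xc2 yc12 zc30) (kc xc2 yc40 zc33) (kc xc2 yc12 zc28) (kc xc2 yc42 zc3) (kc xc2 yc44 zc48) (kc xc2 yc42 zc4) (kc xc2 yc44 zc52) (kc xc2 yc44 zc56) (kc xc1 yc18 zc47) (kc xc2 yc45 zc0) (kc xc1 yc18 zc49) (kc xc2 yc43 zc16) (kc xc1 yc5 zc54) (kc xc1 yc26 zc22) (kc xc2 yc45 zc12) (kc xc0 yc36 zc23) (kc xc2 yc45 zc14) (kc xc0 yc36 zc21) (kc xc0 yc36 zc22) (kc xc2 yc45 zc17) (kc xc1 yc18 zc59) (kc xc2 yc39 zc54) (kc xc0 yc36 zc25)) (@D3.rec (fun _ => Pt) (kc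 xc0 yc38 zc3) (kc xc2 yc8 zc41) (kc xc0 yc36 zc27) (kc xc1 yc15 zc53) (kc xc2 yc4 zc46) (kc xc2 yc45 zc24) (kc xc2 yc45 zc27) (kc xc0 yc36 zc32) (kc xc2 yc45 zc32) (kc xc0 yc59 zc26) (kc xc0 yc56 zc36) (kc xc2 yc45 zc39) (kc xc1 yc57 zc28) (kc xc2 yc45 zc31) (kc xc0 yc36 zc35) (kc xc2 yc45 zc47) (kc xc2 yc45 zc50) (kc xc2 yc45 zc53) (kc xc2 yc45 zc45) (kc xc0 yc36 zc36) (kc xc0 yc57 zc36) (kc xc0 yc36 zc47) (kc xc2 yc45 zc61) (kc xc1 yc21 zc30) (kc xc2 yc39 zc57) (kc xc2 yc46 zc6) (kc xc2 yc46 zc8) (kc xc1 yc19 zc27) (kc xc2 yc46 zc12) (kc xc2 yc40 zc42) (kc xc2 yc40 zc45) (kc xc2 yc42 zc57) (kc xc1 yc26 zc23) (kc xc1 yc28 zc54) (kc xc2 yc46 zc25) (kc xc0 yc36 zc48) (kc xc1 yc19 zc36) (kc xc2 yc46 zc29) (kc xc0 yc36 zc45) (kc xc0 yc36 zc46) (kc xc1 yc12 zc46) (kc xc2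 yc46 zc33) (kc xc0 yc36 zc58) (kc xc2 yc42 zc48) (kc xc1 yc6 zc35) (kc xc2 yc46 zc1) (kc xc0 yc55 zc34) (kc xc0 yc36 zc56) (kc xc2 yc46 zc43) (kc xc2 yc46 zc47) (kc xc2 yc46 zc49) (kc xc0 yc36 zc59) (kc xc2 yc46 zc57) (kc xc2 yc46 zc54) (kc xc2 yc42 zc47) (kc xc2 yc42 zc46) (kc xc2 yc42 zc32) (kc xc2 yc47 zc9) (kc xc1 yc10 zc29) (kc xc2 yc47 zc11) (kc xc2 yc47 zc14) (kc xc2 yc47 zc16)) (@D3.rec (fun _ => Pt) (kc xc0 yc37 zc0) (kc xc2 yc47 zc25) (kc xc2 yc47 zc22) (kc xc2 yc42 zc5) (kc xc2 yc47 zc33) (kc xc1 yc10 zc32) (kc xc2 yc26 zc27) (kc xc1 yc20 zc8) (kc xc1 yc20 zc7) (kc xc0 yc37 zc3) (kc xc2 yc47 zc46) (kc xc2 yc47 zc44) (kc xc2 yc47 zc51) (kc xc0 yc37 zc4) (kc xc2 yc47 zc56) (kc xc2 yc47 zc55) (kc xc2 yc48 zc1) (kc xc2 yc48 zc4) (kc xc2 yc48 zc7) (kc xc0 yc37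 zc6) (kc xc2 yc48 zc13) (kc xc2 yc48 zc14) (kc xc2 yc26 zc43) (kc xc2 yc48 zc22) (kc xc2 yc41 zc32) (kc xc2 yc48 zc29) (kc xc1 yc28 zc52) (kc xc2 yc48 zc11) (kc xc0 yc37 zc11) (kc xc2 yc48 zc43) (kc xc2 yc48 zc47) (kc xc2 yc48 zc41) (kc xc2 yc12 zc17) (kc xc2 yc48 zc54) (kc xc0 yc37 zc16) (kc xc1 yc31 zc3) (kc xc0 yc37 zc15) (kc xc2 yc49 zc3) (kc xc2 yc49 zc4) (kc xc2 yc49 zc2) (kc xc2 yc49 zc5) (kc xc2 yc49 zc6) (kc xc2 yc48 zc57) (kc xc2 yc48 zc59) (kc xc0 yc40 zc54) (kc xc0 yc40 zc55) (kc xc2 yc49 zc15) (kc xc0 yc37 zc19) (kc xc2 yc49 zc18) (kc xc2 yc49 zc20) (kc xc1 yc25 zc61) (kc xc2 yc49 zc24) (kc xc1 yc26 zc10) (kc xc0 yc42 zc59) (kc xc2 yc49 zc31) (kc xc2 yc49 zc32) (kc xc2 yc49 zc35) (kc xc2 yc49 zc37) (kc xc0 yc37 zc23) (kc xc2 yc49 zc44) (kc xc0 yc42 zc61)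 (kc xc1 yc31 zc5)) (@D3.rec (fun _ => Pt) (kc xc0 yc37 zc25) (kc xc1 yc52 zc10) (kc xc2 yc49 zc59) (kc xc0 yc37 zc26) (kc xc2 yc50 zc2) (kc xc2 yc50 zc1) (kc xc2 yc50 zc5) (kc xc1 yc21 zc7) (kc xc1 yc52 zc30) (kc xc2 yc50 zc12) (kc xc0 yc37 zc28) (kc xc2 yc50 zc17) (kc xc2 yc50 zc23) (kc xc2 yc50 zc26) (kc xc1 yc6 zc51) (kc xc1 yc6 zc52) (kc xc2 yc46 zc18) (kc xc0 yc44 zc43) (kc xc2 yc14 zc0) (kc xc2 yc13 zc42) (kc xc2 yc50 zc41) (kc xc2 yc48 zc33) (kc xc1 yc5 zc57) (kc xc2 yc50 zc47) (kc xc2 yc50 zc50) (kc xc0 yc37 zc33) (kc xc2 yc50 zc54) (kc xc0 yc37 zc35) (kc xc2 yc50 zc58) (kc xc2 yc50 zc56) (kc xc1 yc19 zc23) (kc xc0 yc37 zc37) (kc xc1 yc28 zc55) (kc xc2 yc51 zc3) (kc xc0 yc37 zc40) (kc xc0 yc37 zc39) (kc xc1 yc27 zc46) (kc xc1 yc27 zc57) (kc xc1 yc28 zc7) (kc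 xc2 yc51 zc9) (kc xc2 yc14 zc20) (kc xc2 yc51 zc13) (kc xc2 yc51 zc16) (kc xc2 yc48 zc32) (kc xc0 yc37 zc49) (kc xc2 yc51 zc21) (kc xc1 yc6 zc11) (kc xc1 yc6 zc12) (kc xc0 yc44 zc36) (kc xc1 yc31 zc25) (kc xc2 yc51 zc34) (kc xc0 yc37 zc52) (kc xc2 yc51 zc38) (kc xc1 yc23 zc11) (kc xc0 yc37 zc54) (kc xc2 yc51 zc44) (kc xc2 yc51 zc46) (kc xc0 yc37 zc55) (kc xc2 yc51 zc48) (kc xc2 yc51 zc51) (kc xc2 yc51 zc54) (kc xc0 yc37 zc57)) (@D3.rec (fun _ => Pt) (kc xc2 yc20 zc37) (kc xc2 yc52 zc0) (kc xc0 yc41 zc20) (kc xc2 yc52 zc6) (kc xc0 yc41 zc26) (kc xc0 yc42 zc23) (kc xc0 yc42 zc20) (kc xc0 yc43 zc43) (kc xc1 yc3 zc5) (kc xc2 yc9 zc55) (kc xc2 yc52 zc16) (kc xc2 yc26 zc53) (kc xc2 yc13 zc50) (kc xc1 yc22 zc48) (kc xc1 yc23 zc34) (kc xc2 yc52 zc18) (kc xc2 yc52 zc21) (kc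 xc2 yc52 zc24) (kc xc0 yc38 zc8) (kc xc2 yc52 zc29) (kc xc2 yc52 zc36) (kc xc1 yc7 zc0) (kc xc1 yc7 zc1) (kc xc2 yc44 zc19) (kc xc0 yc43 zc28) (kc xc2 yc52 zc46) (kc xc1 yc25 zc22) (kc xc2 yc14 zc47) (kc xc2 yc39 zc52) (kc xc1 yc17 zc8) (kc xc1 yc2 zc46) (kc xc2 yc12 zc26) (kc xc2 yc14 zc39) (kc xc1 yc18 zc32) (kc xc0 yc38 zc16) (kc xc2 yc52 zc59) (kc xc2 yc53 zc0) (kc xc1 yc4 zc21) (kc xc0 yc38 zc18) (kc xc2 yc53 zc7) (kc xc2 yc53 zc6) (kc xc2 yc53 zc11) (kc xc0 yc38 zc19) (kc xc2 yc53 zc14) (kc xc0 yc38 zc20) (kc xc2 yc53 zc19) (kc xc2 yc53 zc18) (kc xc2 yc53 zc24) (kc xc1 yc22 zc13) (kc xc2 yc53 zc31) (kc xc0 yc38 zc23) (kc xc2 yc53 zc37) (kc xc2 yc53 zc40) (kc xc0 yc38 zc22) (kc xc2 yc53 zc46) (kc xc2 yc53 zc50) (kc xc2 yc53 zc54) (kc xc2 yc53 zc36) (kc xc0 yc43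 zc41) (kc xc0 yc43 zc42) (kc xc2 yc54 zc2) (kc xc0 yc38 zc25)) (@D3.rec (fun _ => Pt) (kc xc1 yc15 zc0) (kc xc0 yc38 zc27) (kc xc2 yc54 zc7) (kc xc2 yc27 zc4) (kc xc0 yc38 zc28) (kc xc2 yc54 zc12) (kc xc2 yc54 zc11) (kc xc0 yc38 zc29) (kc xc2 yc54 zc17) (kc xc2 yc54 zc16) (kc xc2 yc54 zc21) (kc xc1 yc21 zc53) (kc xc2 yc54 zc28) (kc xc0 yc38 zc32) (kc xc2 yc54 zc34) (kc xc2 yc54 zc37) (kc xc0 yc38 zc31) (kc xc2 yc54 zc42) (kc xc2 yc54 zc47) (kc xc2 yc54 zc51) (kc xc2 yc54 zc33) (kc xc0 yc43 zc26) (kc xc0 yc43 zc27) (kc xc2 yc39 zc27) (kc xc0 yc43 zc2) (kc xc2 yc12 zc27) (kc xc2 yc11 zc36) (kc xc2 yc26 zc59) (kc xc1 yc23 zc36) (kc xc2 yc55 zc4) (kc xc1 yc23 zc33) (kc xc2 yc14 zc23) (kc xc2 yc55 zc9) (kc xc1 yc23 zc30) (kc xc1 yc22 zc14) (kc xc2 yc55 zc15) (kc xc1 yc23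 zc28) (kc xc2 yc55 zc20) (kc xc0 yc38 zc41) (kc xc0 yc38 zc42) (kc xc2 yc55 zc26) (kc xc0 yc38 zc40) (kc xc2 yc55 zc32) (kc xc2 yc55 zc33) (kc xc2 yc27 zc13) (kc xc2 yc55 zc40) (kc xc2 yc55 zc25) (kc xc1 yc24 zc13) (kc xc1 yc4 zc20) (kc xc0 yc38 zc43) (kc xc2 yc55 zc46) (kc xc2 yc55 zc45) (kc xc2 yc55 zc51) (kc xc0 yc38 zc46) (kc xc0 yc38 zc45) (kc xc2 yc55 zc56) (kc xc2 yc27 zc26) (kc xc2 yc56 zc0) (kc xc1 yc24 zc12) (kc xc0 yc38 zc47) (kc xc2 yc56 zc4) (kc xc2 yc56 zc9)) (@D3.rec (fun _ => Pt) (kc xc0 yc38 zc48) (kc xc2 yc56 zc15) (kc xc2 yc56 zc21) (kc xc0 yc38 zc49) (kc xc2 yc56 zc25) (kc xc2 yc56 zc31) (kc xc2 yc56 zc35) (kc xc2 yc56 zc40) (kc xc0 yc38 zc51) (kc xc2 yc56 zc47) (kc xc2 yc56 zc51) (kc xc2 yc56 zc45) (kc xc1 yc23 zc58) (kc xc1 yc23 zc47) (kc xc2 yc56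 zc58) (kc xc2 yc56 zc59) (kc xc0 yc38 zc53) (kc xc2 yc16 zc34) (kc xc0 yc44 zc40) (kc xc0 yc44 zc41) (kc xc2 yc47 zc4) (kc xc0 yc42 zc38) (kc xc2 yc57 zc12) (kc xc0 yc38 zc55) (kc xc2 yc57 zc17) (kc xc0 yc44 zc33) (kc xc0 yc44 zc34) (kc xc2 yc57 zc28) (kc xc0 yc41 zc49) (kc xc2 yc57 zc5) (kc xc0 yc38 zc57) (kc xc2 yc57 zc37) (kc xc2 yc18 zc13) (kc xc2 yc57 zc43) (kc xc0 yc38 zc58) (kc xc2 yc57 zc47) (kc xc0 yc42 zc25) (kc xc2 yc57 zc50) (kc xc2 yc57 zc54) (kc xc2 yc57 zc56) (kc xc2 yc57 zc59) (kc xc2 yc58 zc0) (kc xc0 yc39 zc0) (kc xc1 yc24 zc43) (kc xc2 yc58 zc7) (kc xc2 yc58 zc10) (kc xc0 yc39 zc2) (kc xc0 yc39 zc3) (kc xc2 yc58 zc16) (kc xc2 yc58 zc19) (kc xc0 yc39 zc46) (kc xc0 yc39 zc7) (kc xc2 yc58 zc21) (kc xc2 yc58 zc22) (kc xc1 yc24 zc58) (kc xc1 yc58 zc31)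 (kc xc2 yc58 zc26) (kc xc2 yc0 zc28) (kc xc1 yc24 zc54) (kc xc0 yc39 zc9) (kc xc2 yc58 zc31) (kc xc2 yc58 zc30)) (@D3.rec (fun _ => Pt) (kc xc0 yc56 zc7) (kc xc0 yc39 zc10) (kc xc2 yc58 zc37) (kc xc2 yc58 zc36) (kc xc2 yc58 zc40) (kc xc2 yc58 zc43) (kc xc0 yc39 zc11) (kc xc2 yc58 zc49) (kc xc2 yc58 zc51) (kc xc1 yc14 zc49) (kc xc0 yc39 zc14) (kc xc2 yc52 zc42) (kc xc0 yc39 zc16) (kc xc2 yc59 zc0) (kc xc2 yc58 zc60) (kc xc0 yc39 zc17) (kc xc2 yc59 zc4) (kc xc2 yc59 zc7) (kc xc0 yc39 zc19) (kc xc2 yc59 zc11) (kc xc2 yc59 zc15) (kc xc0 yc39 zc20) (kc xc1 yc22 zc26) (kc xc0 yc56 zc52) (kc xc0 yc56 zc53) (kc xc2 yc58 zc47) (kc xc2 yc16 zc60) (kc xc0 yc39 zc22) (kc xc2 yc59 zc35) (kc xc2 yc59 zc36) (kc xc1 yc25 zc30) (kc xc0 yc39 zc24) (kc xc2 yc59 zc39) (kc xc0 yc56 zc58)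 (kc xc2 yc59 zc33) (kc xc2 yc59 zc46) (kc xc1 yc10 zc15) (kc xc0 yc39 zc31) (kc xc2 yc59 zc49) (kc xc2 yc59 zc32) (kc xc1 yc25 zc40) (kc xc2 yc59 zc26) (kc xc2 yc16 zc42) (kc xc2 yc59 zc23) (kc xc0 yc39 zc37) (kc xc2 yc59 zc59) (kc xc2 yc59 zc18) (kc xc3 yc0 zc0) (kc xc2 yc59 zc10) (kc xc0 yc57 zc32) (kc xc2 yc33 zc5) (kc xc2 yc33 zc4) (kc xc2 yc0 zc60) (kc xc3 yc0 zc15) (kc xc2 yc1 zc0) (kc xc2 yc59 zc3) (kc xc2 yc58 zc55) (kc xc0 yc39 zc41) (kc xc3 yc0 zc24) (kc xc1 yc16 zc44) (kc xc0 yc39 zc43) (kc xc1 yc20 zc50)) (@D3.rec (fun _ => Pt) (kc xc1 yc26 zc1) (kc xc1 yc26 zc0) (kc xc0 yc39 zc44) (kc xc2 yc50 zc61) (kc xc1 yc26 zc7) (kc xc2 yc49 zc52) (kc xc0 yc39 zc45) (kc xc1 yc26 zc4) (kc xc0 yc39 zc47) (kc xc3 yc0 zc39) (kc xc1 yc20 zc52) (kc xc1 yc29 zc26) (kc xc1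 yc29 zc27) (kc xc1 yc29 zc10) (kc xc1 yc5 zc45) (kc xc1 yc5 zc46) (kc xc3 yc0 zc57) (kc xc0 yc39 zc51) (kc xc1 yc55 zc38) (kc xc0 yc39 zc54) (kc xc2 yc9 zc56) (kc xc3 yc0 zc61) (kc xc1 yc18 zc52) (kc xc1 yc19 zc32) (kc xc1 yc42 zc42) (kc xc0 yc46 zc56) (kc xc0 yc45 zc56) (kc xc1 yc43 zc53) (kc xc1 yc43 zc12) (kc xc3 yc1 zc10) (kc xc0 yc45 zc60) (kc xc0 yc40 zc0) (kc xc0 yc40 zc2) (kc xc1 yc29 zc43) (kc xc1 yc29 zc42) (kc xc1 yc26 zc35) (kc xc3 yc1 zc16) (kc xc3 yc1 zc20) (kc xc0 yc40 zc6) (kc xc3 yc1 zc22) (kc xc0 yc46 zc52) (kc xc1 yc38 zc32) (kc xc1 yc38 zc30) (kc xc1 yc37 zc41) (kc xc1 yc5 zc58) (kc xc1 yc29 zc17) (kc xc1 yc5 zc59) (kc xc0 yc40 zc11) (kc xc0 yc47 zc5) (kc xc3 yc1 zc36) (kc xc3 yc1 zc34) (kc xc1 yc5 zc32) (kc xc0 yc40 zc13) (kc xc3 yc1 zc39) (kc xc0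 yc40 zc15) (kc xc3 yc1 zc41) (kc xc0 yc40 zc16) (kc xc3 yc1 zc44) (kc xc3 yc1 zc48) (kc xc0 yc40 zc17) (kc xc3 yc1 zc52) (kc xc0 yc40 zc18)) (@D3.rec (fun _ => Pt) (kc xc3 yc1 zc56) (kc xc0 yc51 zc49) (kc xc0 yc51 zc31) (kc xc0 yc40 zc23) (kc xc1 yc52 zc2) (kc xc0 yc40 zc20) (kc xc0 yc40 zc21) (kc xc3 yc2 zc16) (kc xc3 yc2 zc19) (kc xc3 yc2 zc13) (kc xc3 yc2 zc14) (kc xc1 yc44 zc51) (kc xc3 yc2 zc28) (kc xc3 yc2 zc5) (kc xc3 yc2 zc7) (kc xc1 yc29 zc37) (kc xc1 yc29 zc38) (kc xc3 yc2 zc41) (kc xc0 yc40 zc27) (kc xc3 yc2 zc45) (kc xc0 yc40 zc25) (kc xc3 yc2 zc52) (kc xc3 yc2 zc50) (kc xc3 yc2 zc58) (kc xc0 yc40 zc26) (kc xc3 yc3 zc1) (kc xc3 yc3 zc0) (kc xc2 yc17 zc6) (kc xc2 yc52 zc2) (kc xc2 yc52 zc3) (kc xc3 yc3 zc13) (kc xc0 yc40 zc29) (kc xc0 yc40 zc32) (kc xc0 yc40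 zc31) (kc xc3 yc3 zc22) (kc xc3 yc3 zc21) (kc xc3 yc3 zc23) (kc xc3 yc3 zc26) (kc xc3 yc3 zc16) (kc xc3 yc3 zc17) (kc xc3 yc3 zc32) (kc xc0 yc40 zc36) (kc xc2 yc30 zc13) (kc xc3 yc3 zc19) (kc xc3 yc0 zc54) (kc xc2 yc15 zc53) (kc xc1 yc21 zc36) (kc xc0 yc55 zc13) (kc xc0 yc40 zc38) (kc xc3 yc3 zc18) (kc xc3 yc3 zc40) (kc xc1 yc55 zc34) (kc xc0 yc42 zc2) (kc xc0 yc40 zc40) (kc xc2 yc9 zc28) (kc xc2 yc9 zc29) (kc xc3 yc3 zc47) (kc xc1 yc21 zc37) (kc xc2 yc9 zc21) (kc xc0 yc40 zc42) (kc xc3 yc3 zc53) (kc xc3 yc3 zc56)) (@D3.rec (fun _ => Pt) (kc xc3 yc3 zc52) (kc xc1 yc28 zc1) (kc xc2 yc9 zc18) (kc xc0 yc40 zc52) (kc xc1 yc5 zc21) (kc xc0 yc40 zc51) (kc xc3 yc4 zc7) (kc xc1 yc21 zc38) (kc xc0 yc40 zc59) (kc xc3 yc4 zc14) (kc xc0 yc40 zc60) (kc xc2 yc9 zc39) (kc xc0 yc41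 zc1) (kc xc1 yc1 zc53) (kc xc3 yc4 zc31) (kc xc0 yc40 zc50) (kc xc0 yc40 zc48) (kc xc3 yc4 zc34) (kc xc0 yc40 zc49) (kc xc3 yc3 zc36) (kc xc3 yc4 zc37) (kc xc3 yc4 zc39) (kc xc3 yc4 zc41) (kc xc3 yc4 zc6) (kc xc3 yc4 zc42) (kc xc3 yc4 zc44) (kc xc3 yc4 zc1) (kc xc3 yc4 zc3) (kc xc3 yc4 zc51) (kc xc0 yc40 zc56) (kc xc2 yc13 zc14) (kc xc1 yc4 zc8) (kc xc0 yc40 zc57) (kc xc3 yc4 zc59) (kc xc3 yc4 zc58) (kc xc3 yc5 zc2) (kc xc0 yc40 zc58) (kc xc3 yc5 zc7) (kc xc3 yc5 zc6) (kc xc3 yc4 zc13) (kc xc3 yc5 zc17) (kc xc3 yc5 zc20) (kc xc3 yc5 zc25) (kc xc3 yc4 zc19) (kc xc2 yc50 zc52) (kc xc2 yc50 zc53) (kc xc0 yc40 zc61) (kc xc3 yc5 zc34) (kc xc3 yc5 zc36) (kc xc2 yc53 zc27) (kc xc3 yc4 zc25) (kc xc3 yc4 zc17) (kc xc1 yc20 zc26) (kc xc0 yc41 zc4) (kc xc1 yc19 zc33) (kc xc1 yc21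 zc32) (kc xc3 yc5 zc46) (kc xc0 yc41 zc7) (kc xc2 yc58 zc11) (kc xc0 yc41 zc8) (kc xc1 yc31 zc33) (kc xc0 yc41 zc9)) (@D3.rec (fun _ => Pt) (kc xc3 yc5 zc51) (kc xc3 yc5 zc53) (kc xc1 yc29 zc2) (kc xc0 yc41 zc11) (kc xc3 yc5 zc57) (kc xc3 yc6 zc0) (kc xc3 yc6 zc3) (kc xc2 yc49 zc46) (kc xc2 yc49 zc47) (kc xc3 yc6 zc11) (kc xc1 yc26 zc13) (kc xc0 yc41 zc14) (kc xc0 yc41 zc15) (kc xc3 yc6 zc16) (kc xc3 yc6 zc15) (kc xc0 yc47 zc56) (kc xc3 yc6 zc20) (kc xc1 yc26 zc45) (kc xc3 yc6 zc23) (kc xc1 yc29 zc19) (kc xc3 yc6 zc26) (kc xc0 yc41 zc18) (kc xc3 yc6 zc29) (kc xc3 yc6 zc34) (kc xc1 yc35 zc50) (kc xc3 yc6 zc38) (kc xc1 yc26 zc11) (kc xc1 yc26 zc12) (kc xc3 yc6 zc46) (kc xc2 yc52 zc4) (kc xc0 yc41 zc21) (kc xc1 yc40 zc52) (kc xc1 yc41 zc1) (kc xc0 yc53 zc17) (kc xc3 yc6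 zc52) (kc xc0 yc41 zc25) (kc xc3 yc6 zc55) (kc xc1 yc27 zc15) (kc xc1 yc27 zc16) (kc xc2 yc52 zc9) (kc xc0 yc45 zc13) (kc xc1 yc51 zc18) (kc xc1 yc26 zc34) (kc xc1 yc26 zc33) (kc xc0 yc41 zc30) (kc xc0 yc41 zc29) (kc xc3 yc7 zc7) (kc xc1 yc31 zc43) (kc xc2 yc6 zc24) (kc xc0 yc41 zc31) (kc xc2 yc20 zc30) (kc xc0 yc41 zc33) (kc xc3 yc7 zc14) (kc xc0 yc41 zc34) (kc xc3 yc7 zc19) (kc xc1 yc33 zc18) (kc xc3 yc7 zc26) (kc xc2 yc23 zc60) (kc xc2 yc18 zc2) (kc xc1 yc36 zc18) (kc xc0 yc41 zc36) (kc xc3 yc7 zc29)) (@D3.rec (fun _ => Pt) (kc xc3 yc7 zc32) (kc xc0 yc41 zc37) (kc xc3 yc7 zc36) (kc xc2 yc19 zc37) (kc xc1 yc48 zc31) (kc xc2 yc57 zc49) (kc xc0 yc41 zc39) (kc xc3 yc7 zc53) (kc xc3 yc7 zc57) (kc xc2 yc23 zc54) (kc xc3 yc7 zc51) (kc xc1 yc34 zc9) (kc xc0 yc41 zc40) (kc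 xc2 yc2 zc30) (kc xc3 yc8 zc4) (kc xc0 yc41 zc41) (kc xc2 yc2 zc31) (kc xc2 yc6 zc23) (kc xc0 yc41 zc42) (kc xc1 yc9 zc25) (kc xc3 yc8 zc12) (kc xc0 yc41 zc44) (kc xc3 yc8 zc16) (kc xc3 yc8 zc22) (kc xc1 yc11 zc4) (kc xc3 yc8 zc26) (kc xc0 yc41 zc46) (kc xc3 yc8 zc34) (kc xc3 yc8 zc31) (kc xc3 yc8 zc39) (kc xc0 yc41 zc47) (kc xc3 yc8 zc45) (kc xc3 yc8 zc44) (kc xc3 yc8 zc49) (kc xc3 yc8 zc52) (kc xc0 yc41 zc48) (kc xc3 yc8 zc57) (kc xc3 yc8 zc58) (kc xc1 yc30 zc38) (kc xc3 yc8 zc61) (kc xc0 yc41 zc51) (kc xc3 yc9 zc2) (kc xc1 yc40 zc58) (kc xc0 yc48 zc48) (kc xc3 yc9 zc7) (kc xc0 yc41 zc53) (kc xc3 yc9 zc10) (kc xc3 yc9 zc15) (kc xc0 yc41 zc54) (kc xc3 yc9 zc18) (kc xc3 yc8 zc11) (kc xc0 yc42 zc44) (kc xc0 yc41 zc56) (kc xc3 yc9 zc28) (kc xc1 yc30 zc54) (kc xc3 yc9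 zc32) (kc xc1 yc30 zc56) (kc xc3 yc9 zc34) (kc xc0 yc41 zc59) (kc xc3 yc9 zc37) (kc xc1 yc43 zc58) (kc xc0 yc48 zc56)) (@D3.rec (fun _ => Pt) (kc xc3 yc9 zc42) (kc xc0 yc41 zc61) (kc xc3 yc9 zc45) (kc xc1 yc20 zc35) (kc xc3 yc9 zc51) (kc xc1 yc20 zc61) (kc xc0 yc42 zc8) (kc xc3 yc9 zc58) (kc xc0 yc42 zc9) (kc xc3 yc3 zc46) (kc xc1 yc57 zc4) (kc xc3 yc10 zc6) (kc xc0 yc42 zc5) (kc xc0 yc42 zc4) (kc xc3 yc10 zc9) (kc xc0 yc42 zc6) (kc xc3 yc10 zc13) (kc xc2 yc51 zc11) (kc xc0 yc42 zc7) (kc xc3 yc10 zc17) (kc xc3 yc10 zc16) (kc xc2 yc51 zc19) (kc xc2 yc51 zc20) (kc xc0 yc42 zc10) (kc xc3 yc5 zc33) (kc xc1 yc21 zc49) (kc xc2 yc13 zc23) (kc xc0 yc42 zc13) (kc xc0 yc42 zc14) (kc xc3 yc10 zc28) (kc xc2 yc18 zc44) (kc xc0 yc45 zc42) (kc xc1 yc48 zc45) (kc xc1 yc28 zc60) (kc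 xc0 yc45 zc55) (kc xc1 yc32 zc40) (kc xc2 yc52 zc15) (kc xc1 yc44 zc49) (kc xc1 yc32 zc41) (kc xc0 yc42 zc24) (kc xc2 yc52 zc12) (kc xc3 yc10 zc39) (kc xc3 yc10 zc40) (kc xc1 yc29 zc47) (kc xc0 yc42 zc27) (kc xc3 yc10 zc44) (kc xc1 yc34 zc61) (kc xc0 yc42 zc28) (kc xc2 yc19 zc46) (kc xc2 yc19 zc47) (kc xc3 yc7 zc18) (kc xc3 yc10 zc53) (kc xc0 yc46 zc3) (kc xc0 yc42 zc31) (kc xc3 yc10 zc59) (kc xc1 yc34 zc22) (kc xc0 yc42 zc32) (kc xc3 yc11 zc0) (kc xc3 yc11 zc2) (kc xc0 yc42 zc33) (kc xc3 yc11 zc5) (kc xc3 yc11 zc8)) (@D3.rec (fun _ => Pt) (kc xc0 yc42 zc35) (kc xc3 yc11 zc14) (kc xc3 yc11 zc17) (kc xc0 yc42 zc36) (kc xc3 yc11 zc23) (kc xc3 yc11 zc22) (kc xc3 yc11 zc26) (kc xc3 yc11 zc30) (kc xc0 yc42 zc37) (kc xc3 yc11 zc36) (kc xc3 yc11 zc38) (kc xc0 yc47 zc53) (kc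 xc3 yc11 zc42) (kc xc0 yc42 zc40) (kc xc3 yc11 zc45) (kc xc3 yc2 zc26) (kc xc1 yc32 zc16) (kc xc3 yc11 zc52) (kc xc0 yc42 zc42) (kc xc3 yc11 zc4) (kc xc3 yc9 zc27) (kc xc0 yc42 zc45) (kc xc3 yc1 zc61) (kc xc0 yc44 zc6) (kc xc3 yc11 zc58) (kc xc0 yc43 zc33) (kc xc0 yc43 zc31) (kc xc2 yc18 zc6) (kc xc0 yc42 zc50) (kc xc2 yc3 zc0) (kc xc0 yc42 zc51) (kc xc2 yc18 zc7) (kc xc0 yc42 zc53) (kc xc3 yc12 zc4) (kc xc1 yc34 zc3) (kc xc0 yc42 zc54) (kc xc3 yc12 zc10) (kc xc3 yc12 zc15) (kc xc0 yc42 zc55) (kc xc3 yc12 zc19) (kc xc1 yc31 zc35) (kc xc1 yc31 zc38) (kc xc2 yc15 zc1) (kc xc0 yc42 zc57) (kc xc3 yc12 zc32) (kc xc3 yc12 zc35) (kc xc0 yc42 zc58) (kc xc3 yc12 zc38) (kc xc2 yc17 zc30) (kc xc2 yc17 zc31) (kc xc2 yc49 zc30) (kc xc3 yc12 zc46) (kc xc0 yc42 zc60) (kc xc3 yc12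 zc49) (kc xc2 yc17 zc4) (kc xc2 yc17 zc5) (kc xc2 yc49 zc48) (kc xc3 yc12 zc58) (kc xc0 yc43 zc0) (kc xc3 yc13 zc3) (kc xc3 yc13 zc0) (kc xc3 yc13 zc9)) (@D3.rec (fun _ => Pt) (kc xc0 yc43 zc1) (kc xc2 yc51 zc27) (kc xc3 yc13 zc14) (kc xc1 yc7 zc29) (kc xc2 yc19 zc16) (kc xc2 yc19 zc17) (kc xc1 yc33 zc37) (kc xc0 yc43 zc6) (kc xc3 yc13 zc23) (kc xc1 yc34 zc29) (kc xc0 yc43 zc7) (kc xc3 yc13 zc28) (kc xc0 yc43 zc8) (kc xc0 yc43 zc9) (kc xc3 yc1 zc6) (kc xc0 yc46 zc26) (kc xc1 yc33 zc16) (kc xc1 yc34 zc7) (kc xc1 yc29 zc55) (kc xc0 yc53 zc25) (kc xc0 yc43 zc18) (kc xc0 yc43 zc17) (kc xc3 yc13 zc37) (kc xc0 yc46 zc4) (kc xc3 yc13 zc42) (kc xc3 yc13 zc43) (kc xc0 yc43 zc20) (kc xc3 yc13 zc47) (kc xc0 yc43 zc21) (kc xc3 yc13 zc49) (kc xc2 yc19 zc50) (kc xc0 yc43 zc22) (kc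 xc3 yc13 zc57) (kc xc3 yc13 zc58) (kc xc0 yc43 zc23) (kc xc3 yc14 zc0) (kc xc1 yc39 zc11) (kc xc1 yc33 zc6) (kc xc1 yc48 zc29) (kc xc0 yc43 zc25) (kc xc3 yc14 zc18) (kc xc3 yc14 zc21) (kc xc3 yc14 zc16) (kc xc3 yc14 zc24) (kc xc3 yc14 zc27) (kc xc2 yc54 zc54) (kc xc3 yc14 zc30) (kc xc3 yc14 zc33) (kc xc2 yc54 zc57) (kc xc1 yc36 zc17) (kc xc0 yc43 zc30) (kc xc3 yc14 zc38) (kc xc3 yc14 zc39) (kc xc3 yc12 zc1) (kc xc0 yc43 zc32) (kc xc3 yc14 zc44) (kc xc1 yc33 zc56) (kc xc3 yc14 zc48) (kc xc0 yc43 zc34) (kc xc0 yc43 zc36) (kc xc3 yc14 zc53) (kc xc3 yc14 zc57)) (@D3.rec (fun _ => Pt) (kc xc0 yc43 zc37) (kc xc3 yc14 zc61) (kc xc1 yc49 zc44) (kc xc1 yc32 zc34) (kc xc1 yc50 zc1) (kc xc0 yc43 zc39) (kc xc3 yc7 zc61) (kc xc1 yc33 zc17) (kc xc0 yc43 zc40) (kc xc1 yc30 zc11) (kc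 xc3 yc15 zc5) (kc xc2 yc53 zc58) (kc xc2 yc53 zc61) (kc xc0 yc43 zc45) (kc xc3 yc15 zc8) (kc xc3 yc15 zc13) (kc xc3 yc15 zc14) (kc xc3 yc6 zc27) (kc xc0 yc43 zc50) (kc xc3 yc15 zc18) (kc xc0 yc52 zc6) (kc xc1 yc50 zc36) (kc xc1 yc31 zc55) (kc xc1 yc47 zc21) (kc xc1 yc41 zc25) (kc xc0 yc43 zc54) (kc xc3 yc15 zc24) (kc xc0 yc47 zc22) (kc xc0 yc43 zc58) (kc xc1 yc33 zc9) (kc xc1 yc40 zc59) (kc xc3 yc15 zc16) (kc xc0 yc52 zc58) (kc xc0 yc43 zc57) (kc xc3 yc15 zc42) (kc xc3 yc7 zc6) (kc xc2 yc19 zc49) (kc xc0 yc43 zc61) (kc xc0 yc44 zc1) (kc xc1 yc45 zc45) (kc xc0 yc52 zc4) (kc xc3 yc15 zc46) (kc xc0 yc52 zc57) (kc xc0 yc44 zc4) (kc xc3 yc15 zc57) (kc xc0 yc44 zc7) (kc xc3 yc15 zc61) (kc xc3 yc16 zc3) (kc xc0 yc44 zc8) (kc xc3 yc16 zc6) (kc xc1 yc37 zc61) (kc xc1 yc41 zc3)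 (kc xc2 yc20 zc46) (kc xc0 yc52 zc61) (kc xc0 yc44 zc10) (kc xc3 yc16 zc24) (kc xc3 yc16 zc26) (kc xc3 yc16 zc22) (kc xc3 yc16 zc28) (kc xc0 yc44 zc11) (kc xc3 yc16 zc33) (kc xc1 yc31 zc46)) (@D3.rec (fun _ => Pt) (kc xc1 yc46 zc3) (kc xc3 yc16 zc31) (kc xc0 yc52 zc51) (kc xc0 yc44 zc13) (kc xc3 yc16 zc53) (kc xc3 yc16 zc56) (kc xc3 yc16 zc60) (kc xc3 yc16 zc52) (kc xc3 yc17 zc0) (kc xc0 yc44 zc14) (kc xc3 yc17 zc4) (kc xc3 yc17 zc2) (kc xc0 yc52 zc47) (kc xc0 yc44 zc16) (kc xc3 yc17 zc18) (kc xc3 yc17 zc20) (kc xc3 yc17 zc25) (kc xc3 yc17 zc17) (kc xc3 yc17 zc30) (kc xc0 yc52 zc40) (kc xc1 yc41 zc2) (kc xc2 yc53 zc60) (kc xc0 yc52 zc31) (kc xc1 yc41 zc12) (kc xc3 yc17 zc42) (kc xc2 yc27 zc33) (kc xc0 yc44 zc46) (kc xc3 yc17 zc52) (kc xc0 yc44 zc47) (kc xc0 yc52 zc8)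 (kc xc0 yc51 zc54) (kc xc0 yc44 zc20) (kc xc3 yc18 zc0) (kc xc0 yc52 zc20) (kc xc3 yc18 zc7) (kc xc3 yc18 zc11) (kc xc3 yc18 zc16) (kc xc0 yc44 zc25) (kc xc0 yc44 zc26) (kc xc3 yc18 zc22) (kc xc0 yc44 zc23) (kc xc3 yc18 zc28) (kc xc3 yc18 zc32) (kc xc0 yc44 zc24) (kc xc3 yc18 zc38) (kc xc3 yc18 zc37) (kc xc3 yc18 zc18) (kc xc3 yc18 zc42) (kc xc3 yc18 zc44) (kc xc3 yc18 zc48) (kc xc1 yc29 zc24) (kc xc0 yc44 zc27) (kc xc3 yc18 zc50) (kc xc3 yc7 zc4) (kc xc0 yc44 zc28) (kc xc3 yc18 zc51) (kc xc3 yc18 zc52) (kc xc0 yc44 zc29) (kc xc0 yc44 zc30) (kc xc3 yc18 zc58) (kc xc0 yc50 zc16) (kc xc0 yc50 zc23)) (@D3.rec (fun _ => Pt) (kc xc1 yc53 zc61) (kc xc0 yc44 zc32) (kc xc3 yc19 zc13) (kc xc3 yc19 zc17) (kc xc3 yc19 zc21) (kc xc3 yc19 zc11) (kc xc3 yc19 zc23) (kc xc3 yc19 zc27)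 (kc xc2 yc57 zc22) (kc xc3 yc19 zc29) (kc xc2 yc57 zc25) (kc xc3 yc8 zc53) (kc xc3 yc8 zc54) (kc xc0 yc44 zc35) (kc xc3 yc19 zc40) (kc xc0 yc44 zc37) (kc xc3 yc19 zc44) (kc xc1 yc33 zc49) (kc xc1 yc29 zc59) (kc xc1 yc51 zc16) (kc xc0 yc44 zc39) (kc xc3 yc19 zc55) (kc xc3 yc19 zc59) (kc xc3 yc19 zc54) (kc xc3 yc20 zc1) (kc xc3 yc20 zc2) (kc xc3 yc20 zc4) (kc xc2 yc57 zc9) (kc xc3 yc11 zc32) (kc xc3 yc11 zc33) (kc xc0 yc44 zc42) (kc xc3 yc20 zc13) (kc xc3 yc20 zc16) (kc xc0 yc44 zc44) (kc xc3 yc20 zc21) (kc xc0 yc44 zc45) (kc xc3 yc20 zc26) (kc xc3 yc17 zc49) (kc xc3 yc20 zc34) (kc xc3 yc20 zc38) (kc xc3 yc20 zc41) (kc xc3 yc17 zc57) (kc xc3 yc20 zc44) (kc xc3 yc20 zc49) (kc xc1 yc38 zc24) (kc xc3 yc20 zc55) (kc xc3 yc20 zc58) (kc xc1 yc38 zc27) (kc xc3 yc21 zc1) (kc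 xc3 yc21 zc5) (kc xc0 yc44 zc50) (kc xc3 yc21 zc11) (kc xc3 yc21 zc13) (kc xc3 yc21 zc14) (kc xc0 yc44 zc52) (kc xc3 yc21 zc20) (kc xc3 yc21 zc17) (kc xc0 yc45 zc37) (kc xc2 yc34 zc1) (kc xc3 yc21 zc29) (kc xc0 yc44 zc55) (kc xc3 yc21 zc33)) (@D3.rec (fun _ => Pt) (kc xc3 yc21 zc34) (kc xc0 yc44 zc54) (kc xc3 yc21 zc38) (kc xc3 yc10 zc47) (kc xc3 yc21 zc39) (kc xc3 yc21 zc40) (kc xc0 yc44 zc56) (kc xc3 yc21 zc46) (kc xc3 yc21 zc45) (kc xc3 yc21 zc43) (kc xc3 yc21 zc52) (kc xc0 yc44 zc59) (kc xc0 yc44 zc58) (kc xc3 yc20 zc60) (kc xc3 yc21 zc55) (kc xc3 yc21 zc58) (kc xc3 yc21 zc59) (kc xc3 yc22 zc1) (kc xc2 yc27 zc52) (kc xc3 yc22 zc3) (kc xc3 yc22 zc5) (kc xc3 yc22 zc8) (kc xc0 yc45 zc1) (kc xc3 yc22 zc15) (kc xc0 yc45 zc3) (kc xc3 yc22 zc18) (kc xc0 yc45 zc5) (kc xc3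 yc22 zc21) (kc xc3 yc22 zc23) (kc xc0 yc45 zc6) (kc xc3 yc22 zc26) (kc xc1 yc6 zc19) (kc xc3 yc18 zc55) (kc xc3 yc16 zc30) (kc xc3 yc22 zc36) (kc xc3 yc22 zc38) (kc xc0 yc45 zc11) (kc xc3 yc22 zc41) (kc xc1 yc8 zc21) (kc xc1 yc8 zc22) (kc xc2 yc22 zc38) (kc xc1 yc26 zc43) (kc xc1 yc37 zc42) (kc xc3 yc7 zc25) (kc xc3 yc22 zc48) (kc xc0 yc45 zc17) (kc xc0 yc47 zc60) (kc xc0 yc47 zc59) (kc xc3 yc22 zc52) (kc xc0 yc46 zc6) (kc xc0 yc45 zc22) (kc xc3 yc22 zc55) (kc xc3 yc22 zc58) (kc xc1 yc49 zc48) (kc xc0 yc45 zc24) (kc xc3 yc22 zc61) (kc xc0 yc46 zc21) (kc xc3 yc23 zc1) (kc xc3 yc23 zc3) (kc xc0 yc45 zc26) (kc xc3 yc23 zc7) (kc xc1 yc34 zc50)) (@D3.rec (fun _ => Pt) (kc xc0 yc45 zc27) (kc xc3 yc23 zc15) (kc xc3 yc23 zc20) (kc xc0 yc45 zc28) (kc xc3 yc23 zc24) (kc xc1 yc38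 zc33) (kc xc1 yc38 zc37) (kc xc0 yc45 zc33) (kc xc1 yc52 zc19) (kc xc0 yc45 zc30) (kc xc0 yc45 zc31) (kc xc3 yc23 zc48) (kc xc3 yc23 zc52) (kc xc3 yc23 zc45) (kc xc3 yc23 zc46) (kc xc1 yc48 zc12) (kc xc1 yc42 zc4) (kc xc3 yc23 zc60) (kc xc3 yc24 zc1) (kc xc3 yc23 zc36) (kc xc3 yc23 zc38) (kc xc3 yc24 zc9) (kc xc3 yc24 zc12) (kc xc3 yc20 zc52) (kc xc1 yc36 zc44) (kc xc3 yc24 zc13) (kc xc2 yc22 zc28) (kc xc1 yc36 zc47) (kc xc1 yc56 zc37) (kc xc1 yc5 zc8) (kc xc1 yc26 zc42) (kc xc0 yc46 zc1) (kc xc1 yc26 zc41) (kc xc1 yc38 zc5) (kc xc0 yc45 zc41) (kc xc3 yc24 zc22) (kc xc1 yc46 zc59) (kc xc1 yc38 zc6) (kc xc0 yc45 zc44) (kc xc3 yc24 zc26) (kc xc0 yc45 zc45) (kc xc3 yc24 zc29) (kc xc0 yc45 zc46) (kc xc3 yc24 zc36) (kc xc1 yc48 zc50) (kc xc0 yc45 zc47) (kc xc3 yc24 zc40)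 (kc xc1 yc41 zc21) (kc xc3 yc24 zc43) (kc xc0 yc45 zc49) (kc xc3 yc24 zc50) (kc xc3 yc24 zc54) (kc xc3 yc24 zc48) (kc xc3 yc24 zc57) (kc xc1 yc46 zc33) (kc xc1 yc38 zc57) (kc xc3 yc24 zc60) (kc xc1 yc38 zc55) (kc xc1 yc48 zc44) (kc xc0 yc45 zc54) (kc xc3 yc25 zc2) (kc xc3 yc25 zc3)) (@D3.rec (fun _ => Pt) (kc xc3 yc25 zc4) (kc xc3 yc1 zc5) (kc xc0 yc48 zc13) (kc xc0 yc45 zc57) (kc xc3 yc25 zc7) (kc xc0 yc45 zc58) (kc xc3 yc25 zc9) (kc xc0 yc45 zc59) (kc xc3 yc25 zc12) (kc xc0 yc47 zc49) (kc xc0 yc48 zc58) (kc xc1 yc33 zc36) (kc xc0 yc47 zc10) (kc xc3 yc10 zc56) (kc xc3 yc25 zc17) (kc xc3 yc25 zc18) (kc xc3 yc25 zc19) (kc xc0 yc46 zc5) (kc xc3 yc25 zc23) (kc xc0 yc52 zc29) (kc xc0 yc51 zc52) (kc xc1 yc41 zc42) (kc xc3 yc25 zc29) (kc xc0 yc50 zc52) (kc xc3 yc25 zc31)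 (kc xc0 yc46 zc12) (kc xc0 yc51 zc15) (kc xc0 yc51 zc36) (kc xc1 yc41 zc40) (kc xc3 yc23 zc40) (kc xc0 yc46 zc15) (kc xc3 yc25 zc51) (kc xc3 yc25 zc50) (kc xc0 yc53 zc38) (kc xc1 yc48 zc51) (kc xc1 yc47 zc61) (kc xc0 yc51 zc18) (kc xc0 yc46 zc20) (kc xc3 yc25 zc59) (kc xc0 yc51 zc10) (kc xc0 yc46 zc22) (kc xc1 yc46 zc52) (kc xc0 yc51 zc25) (kc xc3 yc25 zc57) (kc xc3 yc23 zc39) (kc xc0 yc46 zc25) (kc xc3 yc26 zc10) (kc xc1 yc39 zc47) (kc xc3 yc23 zc42) (kc xc0 yc46 zc28) (kc xc3 yc26 zc18) (kc xc3 yc26 zc20) (kc xc3 yc26 zc16) (kc xc1 yc50 zc47) (kc xc0 yc50 zc51) (kc xc0 yc51 zc32) (kc xc1 yc50 zc45) (kc xc3 yc23 zc32) (kc xc0 yc46 zc31) (kc xc3 yc26 zc37) (kc xc3 yc26 zc36) (kc xc1 yc48 zc5)) (@D3.rec (fun _ => Pt) (kc xc0 yc46 zc32) (kc xc3 yc26 zc42) (kc xc3 yc26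 zc40) (kc xc3 yc23 zc29) (kc xc0 yc46 zc34) (kc xc3 yc26 zc56) (kc xc3 yc26 zc59) (kc xc3 yc26 zc55) (kc xc3 yc27 zc2) (kc xc3 yc23 zc23) (kc xc1 yc51 zc5) (kc xc1 yc50 zc42) (kc xc3 yc23 zc14) (kc xc1 yc50 zc41) (kc xc3 yc22 zc60) (kc xc3 yc10 zc48) (kc xc0 yc46 zc37) (kc xc3 yc27 zc20) (kc xc1 yc52 zc56) (kc xc1 yc51 zc2) (kc xc3 yc27 zc30) (kc xc0 yc46 zc41) (kc xc1 yc50 zc57) (kc xc0 yc46 zc39) (kc xc3 yc27 zc40) (kc xc3 yc27 zc38) (kc xc3 yc27 zc44) (kc xc0 yc46 zc40) (kc xc3 yc27 zc50) (kc xc3 yc27 zc49) (kc xc0 yc46 zc42) (kc xc1 yc48 zc16) (kc xc0 yc46 zc43) (kc xc3 yc27 zc54) (kc xc0 yc46 zc44) (kc xc3 yc27 zc59) (kc xc3 yc27 zc60) (kc xc0 yc46 zc45) (kc xc3 yc28 zc5) (kc xc3 yc28 zc3) (kc xc3 yc28 zc7) (kc xc3 yc28 zc8) (kc xc0 yc46 zc48) (kc xc3 yc28 zc12)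 (kc xc3 yc27 zc57) (kc xc0 yc46 zc51) (kc xc3 yc28 zc16) (kc xc3 yc28 zc20) (kc xc1 yc44 zc40) (kc xc0 yc46 zc55) (kc xc3 yc28 zc23) (kc xc3 yc24 zc33) (kc xc1 yc29 zc31) (kc xc0 yc47 zc1) (kc xc0 yc46 zc59) (kc xc3 yc24 zc20) (kc xc3 yc1 zc8) (kc xc3 yc28 zc30) (kc xc1 yc30 zc42) (kc xc1 yc34 zc30) (kc xc0 yc49 zc6) (kc xc3 yc28 zc34)) (@D3.rec (fun _ => Pt) (kc xc3 yc28 zc27) (kc xc1 yc29 zc32) (kc xc1 yc35 zc20) (kc xc1 yc34 zc51) (kc xc1 yc43 zc11) (kc xc1 yc43 zc59) (kc xc3 yc18 zc53) (kc xc0 yc47 zc7) (kc xc0 yc47 zc6) (kc xc3 yc28 zc51) (kc xc0 yc47 zc9) (kc xc3 yc28 zc54) (kc xc1 yc35 zc23) (kc xc3 yc28 zc58) (kc xc0 yc47 zc13) (kc xc1 yc41 zc15) (kc xc3 yc2 zc9) (kc xc0 yc47 zc15) (kc xc3 yc29 zc11) (kc xc3 yc29 zc15) (kc xc3 yc29 zc9) (kc xc1 yc38 zc47) (kc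 xc0 yc47 zc16) (kc xc3 yc25 zc21) (kc xc0 yc49 zc5) (kc xc1 yc34 zc24) (kc xc3 yc29 zc18) (kc xc3 yc2 zc1) (kc xc0 yc47 zc18) (kc xc1 yc44 zc42) (kc xc0 yc47 zc19) (kc xc3 yc29 zc33) (kc xc3 yc29 zc31) (kc xc3 yc1 zc60) (kc xc0 yc47 zc21) (kc xc3 yc29 zc47) (kc xc3 yc29 zc46) (kc xc3 yc29 zc52) (kc xc3 yc1 zc55) (kc xc1 yc43 zc57) (kc xc1 yc39 zc28) (kc xc3 yc1 zc50) (kc xc1 yc39 zc21) (kc xc0 yc51 zc33) (kc xc0 yc47 zc34) (kc xc3 yc30 zc6) (kc xc0 yc47 zc35) (kc xc0 yc47 zc25) (kc xc3 yc30 zc13) (kc xc3 yc1 zc43) (kc xc3 yc30 zc20) (kc xc3 yc30 zc24) (kc xc3 yc30 zc29) (kc xc0 yc47 zc30) (kc xc0 yc47 zc31) (kc xc3 yc30 zc37) (kc xc0 yc47 zc28) (kc xc3 yc30 zc45) (kc xc3 yc30 zc43) (kc xc3 yc30 zc52) (kc xc0 yc47 zc29) (kc xc3 yc30 zc58)) (@D3.rec (fun _ => Pt) (kc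 xc3 yc30 zc57) (kc xc3 yc30 zc31) (kc xc3 yc30 zc61) (kc xc3 yc31 zc2) (kc xc1 yc38 zc16) (kc xc0 yc47 zc32) (kc xc3 yc31 zc5) (kc xc0 yc47 zc33) (kc xc3 yc30 zc5) (kc xc3 yc31 zc14) (kc xc3 yc31 zc18) (kc xc3 yc30 zc11) (kc xc3 yc31 zc20) (kc xc1 yc45 zc55) (kc xc3 yc31 zc21) (kc xc3 yc31 zc22) (kc xc3 yc31 zc23) (kc xc0 yc47 zc39) (kc xc3 yc31 zc31) (kc xc3 yc31 zc29) (kc xc3 yc31 zc27) (kc xc1 yc42 zc22) (kc xc1 yc42 zc21) (kc xc0 yc47 zc41) (kc xc3 yc31 zc37) (kc xc3 yc31 zc38) (kc xc0 yc47 zc43) (kc xc3 yc31 zc47) (kc xc3 yc31 zc44) (kc xc3 yc31 zc42) (kc xc0 yc49 zc39) (kc xc3 yc23 zc5) (kc xc3 yc25 zc14) (kc xc0 yc47 zc51) (kc xc3 yc31 zc52) (kc xc3 yc31 zc53) (kc xc0 yc47 zc54) (kc xc3 yc31 zc55) (kc xc3 yc31 zc57) (kc xc0 yc47 zc55) (kc xc1 yc47 zc0) (kc xc3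 yc6 zc19) (kc xc1 yc26 zc24) (kc xc1 yc47 zc37) (kc xc1 yc48 zc15) (kc xc3 yc32 zc8) (kc xc3 yc22 zc50) (kc xc1 yc46 zc39) (kc xc0 yc53 zc19) (kc xc1 yc44 zc5) (kc xc0 yc51 zc58) (kc xc1 yc47 zc35) (kc xc1 yc43 zc35) (kc xc0 yc48 zc2) (kc xc3 yc32 zc25) (kc xc3 yc32 zc28) (kc xc3 yc32 zc24) (kc xc3 yc32 zc29) (kc xc0 yc48 zc4) (kc xc1 yc49 zc59) (kc xc1 yc46 zc41) (kc xc1 yc49 zc57)) (@D3.rec (fun _ => Pt) (kc xc1 yc43 zc34) (kc xc0 yc48 zc10) (kc xc3 yc32 zc43) (kc xc3 yc32 zc42) (kc xc1 yc43 zc4) (kc xc0 yc49 zc23) (kc xc0 yc48 zc12) (kc xc3 yc32 zc53) (kc xc3 yc32 zc55) (kc xc3 yc32 zc56) (kc xc3 yc32 zc52) (kc xc1 yc41 zc4) (kc xc1 yc26 zc28) (kc xc0 yc48 zc14) (kc xc0 yc48 zc15) (kc xc1 yc54 zc8) (kc xc1 yc44 zc39) (kc xc1 yc54 zc7) (kc xc1 yc43 zc32) (kc xc0 yc48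 zc19) (kc xc3 yc33 zc13) (kc xc3 yc33 zc16) (kc xc3 yc33 zc12) (kc xc0 yc48 zc20) (kc xc3 yc33 zc18) (kc xc3 yc33 zc17) (kc xc1 yc43 zc29) (kc xc0 yc48 zc22) (kc xc3 yc33 zc29) (kc xc1 yc43 zc26) (kc xc1 yc46 zc0) (kc xc1 yc48 zc6) (kc xc1 yc43 zc18) (kc xc1 yc46 zc4) (kc xc1 yc43 zc0) (kc xc1 yc42 zc52) (kc xc0 yc48 zc25) (kc xc3 yc33 zc44) (kc xc3 yc33 zc50) (kc xc3 yc33 zc54) (kc xc3 yc33 zc59) (kc xc0 yc48 zc30) (kc xc3 yc34 zc1) (kc xc0 yc48 zc27) (kc xc3 yc34 zc9) (kc xc3 yc34 zc7) (kc xc3 yc34 zc10) (kc xc0 yc48 zc28) (kc xc3 yc34 zc16) (kc xc3 yc34 zc15) (kc xc3 yc34 zc19) (kc xc0 yc48 zc29) (kc xc3 yc25 zc5) (kc xc1 yc26 zc27) (kc xc0 yc48 zc31) (kc xc1 yc44 zc33) (kc xc3 yc26 zc1) (kc xc1 yc41 zc39) (kc xc1 yc30 zc60) (kc xc1 yc41 zc5) (kc xc0 yc48 zc33) (kc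 xc3 yc34 zc26)) (@D3.rec (fun _ => Pt) (kc xc3 yc34 zc27) (kc xc0 yc48 zc35) (kc xc3 yc34 zc30) (kc xc0 yc48 zc36) (kc xc3 yc34 zc34) (kc xc1 yc42 zc49) (kc xc1 yc45 zc41) (kc xc0 yc48 zc50) (kc xc3 yc34 zc49) (kc xc0 yc48 zc38) (kc xc3 yc34 zc52) (kc xc0 yc48 zc39) (kc xc3 yc34 zc56) (kc xc0 yc53 zc50) (kc xc3 yc34 zc58) (kc xc3 yc34 zc59) (kc xc0 yc48 zc41) (kc xc3 yc35 zc4) (kc xc3 yc35 zc2) (kc xc0 yc48 zc44) (kc xc0 yc48 zc45) (kc xc3 yc28 zc26) (kc xc3 yc35 zc8) (kc xc0 yc48 zc47) (kc xc3 yc35 zc11) (kc xc0 yc48 zc49) (kc xc3 yc35 zc16) (kc xc3 yc35 zc18) (kc xc3 yc34 zc45) (kc xc3 yc34 zc47) (kc xc3 yc35 zc19) (kc xc0 yc48 zc54) (kc xc3 yc35 zc22) (kc xc1 yc43 zc55) (kc xc0 yc48 zc55) (kc xc3 yc35 zc27) (kc xc0 yc48 zc57) (kc xc0 yc50 zc33) (kc xc1 yc49 zc5)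 (kc xc1 yc43 zc16) (kc xc1 yc40 zc48) (kc xc1 yc46 zc12) (kc xc1 yc41 zc29) (kc xc1 yc49 zc3) (kc xc1 yc45 zc25) (kc xc0 yc49 zc2) (kc xc3 yc35 zc52) (kc xc3 yc35 zc51) (kc xc0 yc52 zc18) (kc xc1 yc31 zc37) (kc xc3 yc29 zc21) (kc xc1 yc27 zc11) (kc xc3 yc28 zc47) (kc xc1 yc46 zc14) (kc xc3 yc32 zc57) (kc xc3 yc29 zc20) (kc xc1 yc45 zc24) (kc xc0 yc49 zc10) (kc xc3 yc36 zc12) (kc xc3 yc36 zc11) (kc xc0 yc49 zc11) (kc xc1 yc44 zc61)) (@D3.rec (fun _ => Pt) (kc xc0 yc49 zc13) (kc xc3 yc36 zc24) (kc xc3 yc36 zc25) (kc xc3 yc36 zc27) (kc xc3 yc36 zc22) (kc xc0 yc49 zc14) (kc xc1 yc53 zc43) (kc xc0 yc52 zc11) (kc xc0 yc52 zc36) (kc xc1 yc53 zc42) (kc xc1 yc45 zc22) (kc xc0 yc49 zc17) (kc xc1 yc51 zc13) (kc xc1 yc51 zc12) (kc xc1 yc45 zc19) (kc xc0 yc49 zc20) (kc xc3 yc36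 zc53) (kc xc3 yc36 zc52) (kc xc1 yc51 zc42) (kc xc1 yc45 zc14) (kc xc1 yc46 zc34) (kc xc1 yc47 zc1) (kc xc1 yc45 zc10) (kc xc1 yc46 zc35) (kc xc1 yc44 zc56) (kc xc1 yc44 zc44) (kc xc3 yc32 zc48) (kc xc1 yc51 zc37) (kc xc1 yc51 zc38) (kc xc3 yc37 zc15) (kc xc0 yc49 zc28) (kc xc3 yc37 zc17) (kc xc0 yc49 zc25) (kc xc1 yc51 zc48) (kc xc0 yc49 zc26) (kc xc3 yc37 zc28) (kc xc3 yc37 zc27) (kc xc3 yc37 zc31) (kc xc3 yc37 zc34) (kc xc0 yc49 zc27) (kc xc3 yc37 zc41) (kc xc1 yc44 zc6) (kc xc3 yc37 zc44) (kc xc0 yc49 zc31) (kc xc3 yc28 zc53) (kc xc1 yc34 zc39) (kc xc0 yc49 zc40) (kc xc3 yc37 zc54) (kc xc0 yc49 zc33) (kc xc3 yc37 zc57) (kc xc3 yc37 zc58) (kc xc3 yc37 zc59) (kc xc0 yc49 zc34) (kc xc0 yc49 zc35) (kc xc3 yc38 zc1) (kc xc1 yc42 zc13) (kc xc3 yc38 zc3) (kc xc3 yc37 zc39)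 (kc xc1 yc46 zc60) (kc xc3 yc25 zc11) (kc xc1 yc54 zc26) (kc xc1 yc48 zc35)) (@D3.rec (fun _ => Pt) (kc xc1 yc43 zc30) (kc xc3 yc32 zc58) (kc xc0 yc49 zc46) (kc xc1 yc35 zc0) (kc xc1 yc43 zc33) (kc xc1 yc46 zc5) (kc xc0 yc50 zc5) (kc xc0 yc49 zc50) (kc xc3 yc38 zc20) (kc xc3 yc38 zc22) (kc xc3 yc38 zc19) (kc xc3 yc29 zc38) (kc xc1 yc44 zc41) (kc xc1 yc48 zc52) (kc xc1 yc44 zc53) (kc xc0 yc49 zc53) (kc xc3 yc38 zc33) (kc xc3 yc29 zc34) (kc xc3 yc29 zc35) (kc xc3 yc38 zc46) (kc xc0 yc49 zc57) (kc xc3 yc38 zc50) (kc xc0 yc49 zc55) (kc xc3 yc38 zc57) (kc xc3 yc38 zc56) (kc xc3 yc29 zc44) (kc xc0 yc49 zc56) (kc xc3 yc39 zc1) (kc xc3 yc39 zc0) (kc xc3 yc39 zc4) (kc xc3 yc39 zc5) (kc xc0 yc49 zc58) (kc xc3 yc39 zc9) (kc xc1 yc38 zc54) (kc xc1 yc45 zc20) (kc xc1 yc45 zc23)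 (kc xc1 yc46 zc36) (kc xc0 yc50 zc2) (kc xc1 yc50 zc25) (kc xc1 yc42 zc47) (kc xc1 yc47 zc22) (kc xc1 yc42 zc60) (kc xc3 yc38 zc15) (kc xc1 yc50 zc18) (kc xc1 yc50 zc19) (kc xc3 yc39 zc43) (kc xc3 yc35 zc13) (kc xc0 yc50 zc7) (kc xc3 yc39 zc47) (kc xc1 yc50 zc31) (kc xc0 yc50 zc8) (kc xc3 yc39 zc51) (kc xc1 yc39 zc41) (kc xc0 yc50 zc13) (kc xc3 yc39 zc53) (kc xc3 yc39 zc54) (kc xc3 yc39 zc55) (kc xc3 yc39 zc56) (kc xc3 yc19 zc2) (kc xc1 yc38 zc36) (kc xc1 yc45 zc58) (kc xc3 yc40 zc2)) (@D3.rec (fun _ => Pt) (kc xc1 yc42 zc40) (kc xc1 yc45 zc21) (kc xc3 yc14 zc11) (kc xc0 yc50 zc19) (kc xc3 yc40 zc16) (kc xc3 yc40 zc19) (kc xc3 yc40 zc15) (kc xc0 yc50 zc20) (kc xc3 yc23 zc13) (kc xc0 yc50 zc22) (kc xc3 yc40 zc26) (kc xc3 yc19 zc4) (kc xc3 yc40 zc24) (kc xc3 yc14 zc10)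 (kc xc0 yc50 zc25) (kc xc1 yc47 zc15) (kc xc1 yc48 zc47) (kc xc0 yc50 zc27) (kc xc3 yc40 zc43) (kc xc3 yc40 zc44) (kc xc3 yc40 zc42) (kc xc1 yc34 zc23) (kc xc1 yc46 zc40) (kc xc3 yc14 zc8) (kc xc0 yc50 zc29) (kc xc0 yc50 zc30) (kc xc3 yc40 zc58) (kc xc3 yc40 zc57) (kc xc3 yc14 zc5) (kc xc0 yc50 zc32) (kc xc3 yc41 zc9) (kc xc3 yc41 zc8) (kc xc3 yc29 zc22) (kc xc3 yc13 zc61) (kc xc3 yc35 zc31) (kc xc1 yc42 zc51) (kc xc3 yc13 zc56) (kc xc1 yc42 zc43) (kc xc3 yc13 zc46) (kc xc3 yc13 zc36) (kc xc0 yc50 zc35) (kc xc3 yc41 zc30) (kc xc3 yc38 zc49) (kc xc3 yc38 zc21) (kc xc3 yc41 zc43) (kc xc0 yc50 zc39) (kc xc3 yc38 zc16) (kc xc0 yc50 zc37) (kc xc3 yc41 zc51) (kc xc3 yc41 zc50) (kc xc3 yc41 zc53) (kc xc0 yc50 zc38) (kc xc3 yc41 zc59) (kc xc3 yc41 zc58) (kc xc0 yc50 zc40) (kc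 xc3 yc42 zc0) (kc xc3 yc41 zc61) (kc xc0 yc50 zc43) (kc xc3 yc42 zc2) (kc xc3 yc13 zc54) (kc xc3 yc13 zc53) (kc xc1 yc39 zc35)) (@D3.rec (fun _ => Pt) (kc xc3 yc13 zc34) (kc xc3 yc13 zc33) (kc xc0 yc50 zc47) (kc xc3 yc42 zc7) (kc xc0 yc53 zc53) (kc xc1 yc39 zc61) (kc xc1 yc43 zc31) (kc xc3 yc42 zc20) (kc xc0 yc50 zc49) (kc xc0 yc52 zc1) (kc xc0 yc52 zc53) (kc xc3 yc26 zc25) (kc xc1 yc38 zc15) (kc xc3 yc42 zc29) (kc xc0 yc50 zc53) (kc xc1 yc42 zc44) (kc xc1 yc40 zc31) (kc xc3 yc42 zc35) (kc xc3 yc26 zc24) (kc xc3 yc42 zc6) (kc xc0 yc50 zc56) (kc xc3 yc42 zc45) (kc xc3 yc42 zc46) (kc xc3 yc42 zc44) (kc xc0 yc50 zc57) (kc xc3 yc42 zc48) (kc xc0 yc50 zc58) (kc xc0 yc50 zc59) (kc xc1 yc48 zc28) (kc xc1 yc33 zc38) (kc xc0 yc51 zc0) (kc xc1 yc30 zc4) (kc xc0 yc51 zc2) (kc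 xc3 yc43 zc0) (kc xc3 yc23 zc12) (kc xc1 yc45 zc61) (kc xc0 yc51 zc4) (kc xc3 yc43 zc5) (kc xc3 yc43 zc9) (kc xc0 yc51 zc6) (kc xc3 yc43 zc12) (kc xc2 yc55 zc35) (kc xc0 yc51 zc7) (kc xc3 yc43 zc18) (kc xc1 yc38 zc58) (kc xc1 yc31 zc32) (kc xc1 yc4 zc18) (kc xc1 yc47 zc16) (kc xc0 yc51 zc9) (kc xc3 yc22 zc54) (kc xc1 yc38 zc44) (kc xc1 yc39 zc34) (kc xc1 yc46 zc13) (kc xc3 yc19 zc6) (kc xc0 yc51 zc14) (kc xc3 yc43 zc43) (kc xc3 yc43 zc45) (kc xc3 yc43 zc42) (kc xc3 yc25 zc36) (kc xc3 yc25 zc34) (kc xc3 yc19 zc5) (kc xc0 yc51 zc17)) (@D3.rec (fun _ => Pt) (kc xc1 yc49 zc60) (kc xc3 yc43 zc17) (kc xc3 yc25 zc56) (kc xc1 yc44 zc43) (kc xc3 yc43 zc11) (kc xc1 yc44 zc38) (kc xc3 yc43 zc4) (kc xc3 yc42 zc61) (kc xc0 yc51 zc20) (kc xc3 yc44 zc11) (kc xc3 yc25 zc60) (kc xc3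 yc25 zc61) (kc xc3 yc44 zc24) (kc xc3 yc35 zc29) (kc xc0 yc51 zc22) (kc xc3 yc44 zc29) (kc xc3 yc26 zc8) (kc xc0 yc51 zc23) (kc xc3 yc44 zc33) (kc xc0 yc51 zc27) (kc xc1 yc49 zc20) (kc xc0 yc51 zc29) (kc xc3 yc44 zc40) (kc xc3 yc44 zc41) (kc xc3 yc44 zc39) (kc xc0 yc51 zc30) (kc xc3 yc2 zc2) (kc xc3 yc26 zc26) (kc xc3 yc30 zc4) (kc xc3 yc14 zc51) (kc xc0 yc51 zc35) (kc xc3 yc44 zc51) (kc xc3 yc25 zc38) (kc xc0 yc51 zc53) (kc xc3 yc44 zc58) (kc xc0 yc51 zc38) (kc xc3 yc25 zc47) (kc xc3 yc25 zc48) (kc xc3 yc39 zc7) (kc xc0 yc51 zc40) (kc xc3 yc45 zc6) (kc xc3 yc45 zc8) (kc xc0 yc51 zc42) (kc xc3 yc45 zc11) (kc xc1 yc34 zc2) (kc xc0 yc51 zc43) (kc xc3 yc45 zc15) (kc xc3 yc14 zc52) (kc xc1 yc37 zc53) (kc xc0 yc51 zc45) (kc xc3 yc45 zc19) (kc xc0 yc51 zc46) (kc xc3 yc45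 zc24) (kc xc3 yc45 zc13) (kc xc0 yc51 zc48) (kc xc3 yc45 zc35) (kc xc3 yc45 zc34) (kc xc1 yc42 zc61) (kc xc3 yc16 zc46) (kc xc1 yc42 zc59) (kc xc1 yc49 zc0) (kc xc3 yc16 zc47)) (@D3.rec (fun _ => Pt) (kc xc3 yc25 zc25) (kc xc1 yc34 zc4) (kc xc3 yc44 zc56) (kc xc3 yc44 zc57) (kc xc3 yc45 zc10) (kc xc3 yc45 zc5) (kc xc3 yc17 zc60) (kc xc3 yc25 zc26) (kc xc3 yc25 zc27) (kc xc3 yc46 zc13) (kc xc0 yc51 zc57) (kc xc0 yc51 zc56) (kc xc3 yc46 zc18) (kc xc3 yc46 zc17) (kc xc3 yc32 zc16) (kc xc0 yc52 zc7) (kc xc3 yc29 zc32) (kc xc0 yc51 zc61) (kc xc1 yc46 zc43) (kc xc1 yc46 zc44) (kc xc0 yc52 zc0) (kc xc3 yc46 zc28) (kc xc0 yc52 zc3) (kc xc3 yc1 zc32) (kc xc3 yc4 zc18) (kc xc1 yc46 zc38) (kc xc3 yc46 zc21) (kc xc3 yc46 zc40) (kc xc3 yc46 zc23) (kc xc3 yc17 zc59) (kc xc3 yc28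 zc52) (kc xc1 yc46 zc49) (kc xc3 yc37 zc48) (kc xc0 yc52 zc10) (kc xc3 yc46 zc58) (kc xc3 yc36 zc32) (kc xc1 yc34 zc21) (kc xc3 yc36 zc31) (kc xc3 yc16 zc11) (kc xc0 yc52 zc13) (kc xc3 yc47 zc6) (kc xc1 yc40 zc13) (kc xc1 yc40 zc11) (kc xc3 yc12 zc8) (kc xc0 yc52 zc16) (kc xc1 yc39 zc56) (kc xc3 yc16 zc5) (kc xc1 yc39 zc53) (kc xc3 yc42 zc11) (kc xc3 yc15 zc60) (kc xc3 yc35 zc55) (kc xc3 yc47 zc30) (kc xc3 yc47 zc34) (kc xc1 yc50 zc53) (kc xc3 yc47 zc41) (kc xc1 yc50 zc55) (kc xc3 yc18 zc5) (kc xc1 yc40 zc22) (kc xc3 yc47 zc55) (kc xc3 yc47 zc60) (kc xc0 yc52 zc24) (kc xc3 yc36 zc39)) (@D3.rec (fun _ => Pt) (kc xc0 yc52 zc22) (kc xc3 yc48 zc4) (kc xc1 yc40 zc19) (kc xc0 yc52 zc23) (kc xc3 yc48 zc8) (kc xc1 yc40 zc10) (kc xc0 yc52 zc30) (kc xc2 yc53 zc59) (kc xc0 yc52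 zc27) (kc xc3 yc26 zc33) (kc xc3 yc26 zc34) (kc xc3 yc35 zc0) (kc xc1 yc45 zc13) (kc xc1 yc45 zc12) (kc xc1 yc54 zc5) (kc xc3 yc25 zc24) (kc xc1 yc36 zc19) (kc xc3 yc14 zc60) (kc xc1 yc29 zc41) (kc xc3 yc48 zc13) (kc xc3 yc15 zc28) (kc xc3 yc15 zc31) (kc xc3 yc17 zc38) (kc xc3 yc26 zc21) (kc xc3 yc26 zc22) (kc xc3 yc48 zc54) (kc xc0 yc52 zc35) (kc xc0 yc52 zc33) (kc xc3 yc48 zc59) (kc xc3 yc48 zc58) (kc xc0 yc52 zc34) (kc xc3 yc49 zc0) (kc xc3 yc48 zc61) (kc xc3 yc36 zc34) (kc xc0 yc52 zc39) (kc xc3 yc35 zc45) (kc xc0 yc52 zc38) (kc xc1 yc45 zc27) (kc xc1 yc45 zc28) (kc xc3 yc49 zc15) (kc xc3 yc37 zc18) (kc xc3 yc33 zc28) (kc xc1 yc45 zc18) (kc xc3 yc49 zc6) (kc xc3 yc49 zc24) (kc xc3 yc49 zc8) (kc xc3 yc17 zc33) (kc xc3 yc49 zc35) (kc xc1 yc45 zc33) (kc xc3 yc49 zc42)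 (kc xc0 yc52 zc44) (kc xc0 yc52 zc42) (kc xc3 yc49 zc46) (kc xc3 yc49 zc47) (kc xc3 yc49 zc48) (kc xc0 yc52 zc43) (kc xc3 yc49 zc54) (kc xc3 yc49 zc55) (kc xc3 yc49 zc59) (kc xc3 yc42 zc36) (kc xc0 yc52 zc45) (kc xc3 yc50 zc5)) (@D3.rec (fun _ => Pt) (kc xc3 yc50 zc3) (kc xc0 yc52 zc48) (kc xc1 yc27 zc4) (kc xc3 yc17 zc13) (kc xc3 yc50 zc20) (kc xc3 yc50 zc12) (kc xc3 yc47 zc15) (kc xc3 yc47 zc16) (kc xc3 yc50 zc27) (kc xc0 yc52 zc49) (kc xc1 yc21 zc1) (kc xc3 yc50 zc31) (kc xc0 yc52 zc52) (kc xc3 yc16 zc48) (kc xc3 yc50 zc45) (kc xc3 yc37 zc21) (kc xc3 yc36 zc33) (kc xc2 yc55 zc34) (kc xc3 yc42 zc25) (kc xc1 yc38 zc8) (kc xc0 yc53 zc56) (kc xc3 yc44 zc50) (kc xc0 yc52 zc55) (kc xc3 yc51 zc0) (kc xc3 yc42 zc26) (kc xc3 yc32 zc5) (kc xc3 yc51 zc12) (kc xc0 yc53 zc60)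 (kc xc3 yc51 zc15) (kc xc3 yc15 zc55) (kc xc1 yc21 zc8) (kc xc3 yc15 zc38) (kc xc3 yc50 zc61) (kc xc0 yc52 zc60) (kc xc3 yc51 zc36) (kc xc3 yc51 zc40) (kc xc3 yc51 zc45) (kc xc3 yc51 zc34) (kc xc3 yc16 zc18) (kc xc3 yc51 zc53) (kc xc0 yc53 zc0) (kc xc3 yc52 zc0) (kc xc3 yc51 zc59) (kc xc3 yc52 zc6) (kc xc0 yc53 zc1) (kc xc3 yc52 zc8) (kc xc3 yc35 zc15) (kc xc3 yc52 zc12) (kc xc3 yc52 zc16) (kc xc0 yc53 zc2) (kc xc3 yc52 zc23) (kc xc0 yc53 zc13) (kc xc3 yc36 zc42) (kc xc3 yc36 zc1) (kc xc3 yc52 zc33) (kc xc3 yc27 zc35) (kc xc1 yc40 zc18) (kc xc0 yc53 zc5) (kc xc3 yc52 zc41) (kc xc3 yc52 zc38) (kc xc3 yc27 zc32) (kc xc3 yc52 zc36)) (@D3.rec (fun _ => Pt) (kc xc3 yc52 zc53) (kc xc0 yc53 zc8) (kc xc3 yc52 zc57) (kc xc3 yc52 zc58) (kc xc0 yc53 zc7) (kc xc3 yc53 zc1) (kc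 xc3 yc28 zc10) (kc xc3 yc36 zc40) (kc xc0 yc53 zc9) (kc xc3 yc53 zc9) (kc xc3 yc53 zc6) (kc xc3 yc53 zc4) (kc xc3 yc53 zc17) (kc xc0 yc53 zc12) (kc xc0 yc53 zc11) (kc xc3 yc53 zc21) (kc xc3 yc53 zc24) (kc xc3 yc50 zc54) (kc xc0 yc53 zc14) (kc xc3 yc53 zc28) (kc xc3 yc36 zc50) (kc xc0 yc53 zc15) (kc xc3 yc53 zc32) (kc xc0 yc53 zc16) (kc xc3 yc6 zc50) (kc xc3 yc53 zc36) (kc xc3 yc53 zc38) (kc xc3 yc32 zc30) (kc xc0 yc53 zc21) (kc xc3 yc53 zc43) (kc xc3 yc1 zc33) (kc xc3 yc31 zc56) (kc xc0 yc54 zc19) (kc xc3 yc53 zc52) (kc xc1 yc53 zc34) (kc xc2 yc22 zc2) (kc xc0 yc53 zc24) (kc xc3 yc53 zc60) (kc xc3 yc53 zc61) (kc xc3 yc53 zc59) (kc xc3 yc46 zc59) (kc xc3 yc13 zc31) (kc xc1 yc45 zc9) (kc xc1 yc45 zc6) (kc xc0 yc53 zc27) (kc xc3 yc54 zc14) (kc xc3 yc34 zc0) (kc xc3 yc32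 zc54) (kc xc3 yc54 zc27) (kc xc0 yc53 zc31) (kc xc3 yc32 zc49) (kc xc0 yc53 zc29) (kc xc3 yc54 zc35) (kc xc3 yc54 zc33) (kc xc3 yc54 zc36) (kc xc0 yc53 zc30) (kc xc3 yc54 zc42) (kc xc3 yc54 zc41) (kc xc0 yc53 zc32) (kc xc3 yc54 zc46) (kc xc1 yc53 zc60) (kc xc1 yc36 zc0)) (@D3.rec (fun _ => Pt) (kc xc0 yc53 zc37) (kc xc3 yc54 zc54) (kc xc3 yc54 zc55) (kc xc3 yc54 zc56) (kc xc3 yc54 zc53) (kc xc1 yc51 zc14) (kc xc3 yc25 zc54) (kc xc1 yc43 zc17) (kc xc1 yc43 zc15) (kc xc0 yc53 zc40) (kc xc3 yc55 zc8) (kc xc3 yc26 zc43) (kc xc3 yc26 zc44) (kc xc3 yc55 zc20) (kc xc0 yc53 zc45) (kc xc3 yc36 zc19) (kc xc0 yc53 zc42) (kc xc3 yc26 zc53) (kc xc0 yc53 zc43) (kc xc3 yc55 zc27) (kc xc3 yc55 zc29) (kc xc3 yc55 zc31) (kc xc0 yc53 zc44) (kc xc3 yc55 zc36) (kc xc0 yc53 zc46) (kc xc3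 yc55 zc38) (kc xc1 yc45 zc60) (kc xc3 yc55 zc41) (kc xc0 yc53 zc52) (kc xc3 yc42 zc10) (kc xc3 yc42 zc9) (kc xc3 yc55 zc48) (kc xc0 yc53 zc55) (kc xc3 yc55 zc52) (kc xc3 yc55 zc53) (kc xc3 yc50 zc57) (kc xc3 yc44 zc37) (kc xc0 yc53 zc57) (kc xc3 yc55 zc58) (kc xc3 yc42 zc42) (kc xc0 yc53 zc58) (kc xc3 yc56 zc0) (kc xc0 yc53 zc59) (kc xc3 yc56 zc3) (kc xc0 yc53 zc61) (kc xc0 yc54 zc1) (kc xc3 yc56 zc6) (kc xc0 yc54 zc4) (kc xc0 yc54 zc5) (kc xc3 yc56 zc12) (kc xc3 yc56 zc11) (kc xc3 yc56 zc14) (kc xc0 yc54 zc9) (kc xc3 yc56 zc19) (kc xc0 yc54 zc8) (kc xc3 yc56 zc24) (kc xc0 yc54 zc7) (kc xc3 yc56 zc27) (kc xc3 yc56 zc28) (kc xc0 yc54 zc10) (kc xc0 yc54 zc11) (kc xc3 yc56 zc33)) (@D3.rec (fun _ => Pt) (kc xc3 yc27 zc42) (kc xc0 yc54 zc14) (kc xc3 yc56 zc39) (kc xc0 yc54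 zc13) (kc xc3 yc56 zc44) (kc xc3 yc56 zc45) (kc xc0 yc54 zc17) (kc xc3 yc56 zc49) (kc xc3 yc56 zc51) (kc xc3 yc53 zc50) (kc xc3 yc56 zc54) (kc xc1 yc1 zc16) (kc xc1 yc55 zc21) (kc xc3 yc56 zc59) (kc xc0 yc55 zc8) (kc xc3 yc57 zc0) (kc xc0 yc54 zc53) (kc xc2 yc24 zc21) (kc xc2 yc24 zc22) (kc xc0 yc54 zc23) (kc xc3 yc57 zc9) (kc xc1 yc55 zc12) (kc xc3 yc57 zc14) (kc xc0 yc54 zc27) (kc xc0 yc54 zc26) (kc xc3 yc57 zc19) (kc xc3 yc57 zc16) (kc xc0 yc54 zc28) (kc xc3 yc57 zc22) (kc xc0 yc55 zc9) (kc xc0 yc54 zc56) (kc xc0 yc54 zc58) (kc xc3 yc57 zc34) (kc xc0 yc54 zc30) (kc xc1 yc27 zc51) (kc xc1 yc6 zc24) (kc xc0 yc54 zc32) (kc xc1 yc55 zc39) (kc xc1 yc26 zc18) (kc xc1 yc55 zc37) (kc xc1 yc10 zc42) (kc xc0 yc55 zc5) (kc xc2 yc15 zc34) (kc xc2 yc15 zc38) (kc xc0 yc55 zc1)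 (kc xc3 yc57 zc60) (kc xc2 yc10 zc35) (kc xc0 yc54 zc38) (kc xc3 yc58 zc4) (kc xc3 yc58 zc5) (kc xc2 yc23 zc11) (kc xc2 yc23 zc29) (kc xc3 yc58 zc10) (kc xc0 yc58 zc1) (kc xc1 yc9 zc49) (kc xc0 yc54 zc41) (kc xc3 yc58 zc17) (kc xc3 yc58 zc15) (kc xc0 yc57 zc48) (kc xc3 yc58 zc22) (kc xc2 yc23 zc31) (kc xc3 yc58 zc25)) (@D3.rec (fun _ => Pt) (kc xc3 yc58 zc28) (kc xc0 yc54 zc43) (kc xc3 yc58 zc34) (kc xc3 yc58 zc36) (kc xc1 yc17 zc56) (kc xc1 yc17 zc59) (kc xc3 yc58 zc32) (kc xc1 yc10 zc40) (kc xc2 yc41 zc59) (kc xc2 yc8 zc42) (kc xc0 yc54 zc50) (kc xc0 yc54 zc52) (kc xc3 yc58 zc52) (kc xc3 yc57 zc27) (kc xc3 yc58 zc59) (kc xc3 yc59 zc2) (kc xc3 yc57 zc29) (kc xc3 yc59 zc8) (kc xc3 yc57 zc31) (kc xc0 yc54 zc59) (kc xc3 yc59 zc12) (kc xc1 yc10 zc8) (kc xc1 yc10 zc47)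 (kc xc0 yc54 zc61) (kc xc3 yc59 zc24) (kc xc3 yc59 zc23) (kc xc3 yc59 zc28) (kc xc0 yc55 zc0) (kc xc3 yc59 zc34) (kc xc3 yc59 zc33) (kc xc3 yc59 zc39) (kc xc3 yc59 zc42) (kc xc3 yc59 zc45) (kc xc0 yc55 zc2) (kc xc3 yc59 zc49) (kc xc1 yc8 zc32) (kc xc1 yc8 zc33) (kc xc1 yc38 zc28) (kc xc3 yc59 zc58) (kc xc2 yc7 zc33) (kc xc2 yc33 zc42) (kc xc0 yc55 zc7) (kc xc3 yc59 zc60) (kc xc3 yc56 zc61) (kc xc2 yc7 zc1) (kc xc3 yc57 zc25) (kc xc2 yc24 zc14) (kc xc4 yc0 zc3) (kc xc0 yc55 zc11) (kc xc2 yc0 zc2) (kc xc2 yc10 zc43) (kc xc2 yc24 zc16) (kc xc4 yc0 zc9) (kc xc3 yc3 zc38) (kc xc3 yc57 zc5) (kc xc3 yc57 zc6) (kc xc0 yc55 zc14) (kc xc4 yc0 zc20) (kc xc0 yc55 zc16) (kc xc2 yc9 zc5) (kc xc1 yc56 zc60) (kc xc4 yc0 zc30)) (@D3.rec (fun _ => Pt) (kc xc0 yc55 zc20) (kc xc4 yc0 zc33)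 (kc xc1 yc1 zc55) (kc xc0 yc55 zc22) (kc xc1 yc31 zc10) (kc xc2 yc51 zc36) (kc xc2 yc26 zc52) (kc xc2 yc10 zc9) (kc xc4 yc0 zc41) (kc xc4 yc0 zc45) (kc xc1 yc57 zc10) (kc xc3 yc0 zc34) (kc xc1 yc57 zc12) (kc xc0 yc55 zc25) (kc xc4 yc0 zc54) (kc xc0 yc55 zc27) (kc xc2 yc10 zc37) (kc xc4 yc0 zc60) (kc xc0 yc56 zc6) (kc xc4 yc1 zc2) (kc xc0 yc59 zc18) (kc xc4 yc1 zc5) (kc xc4 yc1 zc7) (kc xc0 yc55 zc30) (kc xc1 yc59 zc3) (kc xc0 yc55 zc32) (kc xc2 yc24 zc9) (kc xc2 yc4 zc39) (kc xc1 yc19 zc12) (kc xc4 yc1 zc12) (kc xc0 yc55 zc38) (kc xc4 yc1 zc14) (kc xc4 yc1 zc15) (kc xc0 yc55 zc37) (kc xc4 yc1 zc18) (kc xc4 yc1 zc19) (kc xc0 yc55 zc41) (kc xc0 yc55 zc40) (kc xc2 yc29 zc53) (kc xc0 yc55 zc42) (kc xc0 yc55 zc43) (kc xc4 yc1 zc27) (kc xc0 yc57 zc2) (kc xc0 yc59 zc3) (kc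 xc1 yc12 zc44) (kc xc4 yc1 zc36) (kc xc0 yc55 zc45) (kc xc1 yc15 zc7) (kc xc4 yc1 zc41) (kc xc4 yc1 zc43) (kc xc0 yc56 zc38) (kc xc4 yc1 zc47) (kc xc4 yc1 zc50) (kc xc0 yc55 zc48) (kc xc4 yc1 zc56) (kc xc4 yc1 zc60) (kc xc0 yc55 zc52) (kc xc4 yc2 zc0) (kc xc4 yc2 zc1) (kc xc0 yc55 zc51) (kc xc3 yc57 zc51) (kc xc4 yc2 zc4)) (@D3.rec (fun _ => Pt) (kc xc0 yc55 zc55) (kc xc0 yc55 zc54) (kc xc2 yc33 zc20) (kc xc0 yc55 zc56) (kc xc0 yc55 zc57) (kc xc4 yc2 zc11) (kc xc0 yc56 zc39) (kc xc0 yc56 zc40) (kc xc1 yc58 zc8) (kc xc4 yc2 zc23) (kc xc0 yc55 zc59) (kc xc4 yc2 zc26) (kc xc2 yc31 zc44) (kc xc2 yc31 zc45) (kc xc0 yc55 zc60) (kc xc4 yc2 zc31) (kc xc1 yc11 zc17) (kc xc4 yc2 zc35) (kc xc1 yc15 zc16) (kc xc4 yc1 zc52) (kc xc4 yc1 zc53) (kc xc0 yc56 zc1) (kc xc4 yc2 zc41) (kc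 xc0 yc56 zc3) (kc xc4 yc2 zc45) (kc xc4 yc2 zc44) (kc xc4 yc2 zc48) (kc xc0 yc56 zc4) (kc xc4 yc2 zc55) (kc xc4 yc2 zc59) (kc xc4 yc1 zc0) (kc xc1 yc24 zc55) (kc xc4 yc3 zc3) (kc xc2 yc58 zc34) (kc xc4 yc3 zc8) (kc xc4 yc3 zc11) (kc xc0 yc56 zc8) (kc xc4 yc3 zc17) (kc xc4 yc3 zc20) (kc xc0 yc58 zc41) (kc xc4 yc3 zc24) (kc xc4 yc3 zc26) (kc xc0 yc56 zc11) (kc xc4 yc3 zc29) (kc xc0 yc56 zc25) (kc xc4 yc3 zc34) (kc xc0 yc58 zc37) (kc xc2 yc6 zc34) (kc xc0 yc59 zc61) (kc xc4 yc3 zc40) (kc xc1 yc0 zc1) (kc xc0 yc56 zc14) (kc xc4 yc3 zc47) (kc xc0 yc56 zc32) (kc xc4 yc3 zc52) (kc xc0 yc59 zc27) (kc xc4 yc3 zc53) (kc xc0 yc56 zc16) (kc xc4 yc3 zc56) (kc xc4 yc4 zc0) (kc xc0 yc56 zc17) (kc xc4 yc4 zc3)) (@D3.rec (fun _ => Pt) (kc xc1 yc10 zc3) (kc xc1 yc59 zc26) (kc xc4 yc2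 zc53) (kc xc1 yc57 zc24) (kc xc0 yc56 zc19) (kc xc4 yc4 zc17) (kc xc4 yc4 zc20) (kc xc4 yc4 zc23) (kc xc0 yc56 zc20) (kc xc4 yc4 zc26) (kc xc1 yc9 zc8) (kc xc4 yc4 zc33) (kc xc0 yc56 zc27) (kc xc0 yc56 zc22) (kc xc0 yc58 zc48) (kc xc0 yc56 zc24) (kc xc2 yc33 zc19) (kc xc0 yc56 zc26) (kc xc4 yc4 zc36) (kc xc1 yc59 zc19) (kc xc0 yc56 zc29) (kc xc4 yc4 zc40) (kc xc1 yc0 zc33) (kc xc4 yc4 zc46) (kc xc0 yc56 zc34) (kc xc1 yc59 zc25) (kc xc1 yc59 zc1) (kc xc0 yc56 zc33) (kc xc4 yc1 zc16) (kc xc0 yc56 zc35) (kc xc3 yc3 zc35) (kc xc0 yc56 zc37) (kc xc4 yc2 zc15) (kc xc0 yc57 zc6) (kc xc4 yc4 zc57) (kc xc0 yc56 zc42) (kc xc0 yc57 zc12) (kc xc0 yc56 zc45) (kc xc4 yc5 zc0) (kc xc4 yc5 zc1) (kc xc2 yc24 zc51) (kc xc2 yc24 zc52) (kc xc4 yc5 zc5) (kc xc1 yc2 zc26) (kc xc2 yc0 zc25)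 (kc xc0 yc56 zc48) (kc xc4 yc5 zc12) (kc xc4 yc5 zc10) (kc xc1 yc14 zc12) (kc xc4 yc5 zc15) (kc xc2 yc28 zc22) (kc xc4 yc5 zc18) (kc xc4 yc5 zc21) (kc xc0 yc56 zc50) (kc xc4 yc5 zc26) (kc xc4 yc3 zc13) (kc xc2 yc59 zc24) (kc xc2 yc14 zc46) (kc xc3 yc21 zc7) (kc xc2 yc1 zc4) (kc xc0 yc56 zc55) (kc xc4 yc5 zc34))
def f_c_2 : D2 → D3 → Pt := @D2.rec (fun _ => D3 → Pt) (@D3.rec (fun _ => Pt) (kc xc4 yc2 zc2) (kc xc0 yc56 zc56) (kc xc1 yc56 zc49) (kc xc4 yc5 zc35) (kc xc2 yc39 zc34) (kc xc0 yc56 zc61) (kc xc4 yc1 zc21) (kc xc2 yc39 zc25) (kc xc4 yc1 zc28) (kc xc2 yc39 zc49) (kc xc4 yc1 zc25) (kc xc2 yc39 zc41) (kc xc0 yc57 zc5) (kc xc4 yc5 zc50) (kc xc4 yc5 zc55) (kc xc4 yc4 zc54) (kc xc4 yc5 zc61) (kc xc4 yc4 zc56) (kc xc0 yc57 zc7) (kc xc4 yc6 zc3) (kc xc2 yc0 zc52) (kc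 xc1 yc14 zc8) (kc xc0 yc57 zc11) (kc xc4 yc6 zc10) (kc xc4 yc6 zc11) (kc xc1 yc59 zc44) (kc xc2 yc34 zc37) (kc xc4 yc6 zc15) (kc xc1 yc24 zc57) (kc xc2 yc10 zc44) (kc xc0 yc57 zc14) (kc xc4 yc6 zc24) (kc xc4 yc6 zc21) (kc xc2 yc1 zc18) (kc xc0 yc57 zc15) (kc xc4 yc6 zc30) (kc xc4 yc6 zc29) (kc xc4 yc6 zc33) (kc xc4 yc6 zc36) (kc xc0 yc57 zc16) (kc xc4 yc6 zc42) (kc xc4 yc6 zc44) (kc xc2 yc58 zc53) (kc xc0 yc57 zc19) (kc xc2 yc54 zc59) (kc xc4 yc6 zc50) (kc xc2 yc0 zc46) (kc xc0 yc57 zc21) (kc xc4 yc6 zc53) (kc xc4 yc6 zc54) (kc xc2 yc39 zc55) (kc xc4 yc6 zc40) (kc xc2 yc0 zc20) (kc xc0 yc57 zc25) (kc xc4 yc7 zc3) (kc xc3 yc57 zc53) (kc xc0 yc57 zc29) (kc xc4 yc4 zc51) (kc xc4 yc7 zc9) (kc xc4 yc7 zc12) (kc xc1 yc25 zc52) (kc xc4 yc7 zc18)) (@D3.rec (fun _ => Pt) (kc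 xc1 yc25 zc54) (kc xc2 yc40 zc1) (kc xc0 yc57 zc34) (kc xc4 yc7 zc24) (kc xc1 yc59 zc59) (kc xc1 yc14 zc42) (kc xc1 yc14 zc44) (kc xc1 yc14 zc45) (kc xc4 yc7 zc35) (kc xc0 yc57 zc41) (kc xc4 yc7 zc37) (kc xc1 yc17 zc22) (kc xc4 yc7 zc39) (kc xc0 yc57 zc40) (kc xc4 yc7 zc45) (kc xc1 yc2 zc27) (kc xc4 yc7 zc51) (kc xc2 yc24 zc54) (kc xc2 yc0 zc33) (kc xc4 yc7 zc56) (kc xc0 yc57 zc46) (kc xc4 yc7 zc58) (kc xc1 yc14 zc52) (kc xc4 yc8 zc0) (kc xc0 yc57 zc45) (kc xc4 yc8 zc6) (kc xc1 yc9 zc53) (kc xc0 yc57 zc47) (kc xc4 yc8 zc13) (kc xc4 yc8 zc11) (kc xc4 yc8 zc15) (kc xc3 yc58 zc21) (kc xc4 yc8 zc18) (kc xc4 yc8 zc20) (kc xc0 yc57 zc49) (kc xc4 yc8 zc26) (kc xc4 yc8 zc29) (kc xc2 yc23 zc13) (kc xc2 yc3 zc44) (kc xc4 yc8 zc34) (kc xc0 yc57 zc54) (kc xc4 yc8 zc38) (kc xc4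 yc8 zc40) (kc xc0 yc57 zc53) (kc xc4 yc8 zc46) (kc xc2 yc41 zc25) (kc xc4 yc8 zc51) (kc xc4 yc8 zc37) (kc xc1 yc2 zc32) (kc xc2 yc4 zc24) (kc xc0 yc57 zc55) (kc xc4 yc8 zc59) (kc xc4 yc8 zc56) (kc xc1 yc9 zc50) (kc xc4 yc9 zc2) (kc xc0 yc57 zc58) (kc xc0 yc57 zc57) (kc xc4 yc9 zc9) (kc xc4 yc9 zc14) (kc xc4 yc9 zc6) (kc xc4 yc9 zc15) (kc xc0 yc57 zc59)) (@D3.rec (fun _ => Pt) (kc xc4 yc9 zc24) (kc xc4 yc9 zc22) (kc xc4 yc9 zc30) (kc xc0 yc57 zc60) (kc xc4 yc9 zc35) (kc xc4 yc9 zc34) (kc xc4 yc9 zc41) (kc xc4 yc0 zc16) (kc xc0 yc58 zc27) (kc xc4 yc9 zc54) (kc xc0 yc58 zc0) (kc xc4 yc9 zc57) (kc xc4 yc9 zc60) (kc xc4 yc10 zc0) (kc xc2 yc11 zc2) (kc xc2 yc41 zc1) (kc xc4 yc10 zc6) (kc xc0 yc58 zc5) (kc xc4 yc10 zc11) (kc xc4 yc10 zc13) (kc xc0 yc58 zc4) (kc xc4 yc10 zc19)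 (kc xc2 yc28 zc59) (kc xc1 yc18 zc34) (kc xc4 yc10 zc10) (kc xc0 yc58 zc6) (kc xc4 yc10 zc24) (kc xc1 yc0 zc20) (kc xc4 yc10 zc17) (kc xc0 yc58 zc8) (kc xc1 yc30 zc13) (kc xc1 yc30 zc16) (kc xc4 yc10 zc33) (kc xc0 yc58 zc11) (kc xc4 yc10 zc37) (kc xc4 yc10 zc39) (kc xc2 yc3 zc47) (kc xc4 yc10 zc42) (kc xc0 yc58 zc13) (kc xc4 yc10 zc48) (kc xc4 yc10 zc52) (kc xc2 yc3 zc54) (kc xc4 yc10 zc46) (kc xc0 yc58 zc16) (kc xc4 yc10 zc57) (kc xc4 yc10 zc60) (kc xc3 yc17 zc6) (kc xc0 yc58 zc17) (kc xc4 yc11 zc1) (kc xc0 yc58 zc19) (kc xc4 yc11 zc7) (kc xc4 yc11 zc5) (kc xc0 yc58 zc21) (kc xc3 yc7 zc9) (kc xc3 yc7 zc59) (kc xc4 yc11 zc23) (kc xc4 yc11 zc19) (kc xc4 yc11 zc24) (kc xc0 yc58 zc22) (kc xc4 yc11 zc30) (kc xc4 yc11 zc28) (kc xc0 yc58 zc24)) (@D3.rec (fun _ => Pt) (kc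 xc1 yc32 zc29) (kc xc2 yc19 zc6) (kc xc4 yc11 zc39) (kc xc4 yc11 zc45) (kc xc1 yc9 zc23) (kc xc4 yc11 zc49) (kc xc4 yc11 zc54) (kc xc4 yc9 zc49) (kc xc4 yc11 zc60) (kc xc4 yc9 zc51) (kc xc1 yc0 zc15) (kc xc0 yc58 zc30) (kc xc4 yc12 zc4) (kc xc0 yc58 zc31) (kc xc0 yc58 zc50) (kc xc0 yc58 zc33) (kc xc0 yc58 zc35) (kc xc0 yc58 zc36) (kc xc0 yc58 zc52) (kc xc0 yc58 zc38) (kc xc4 yc12 zc12) (kc xc4 yc12 zc14) (kc xc1 yc2 zc35) (kc xc4 yc12 zc19) (kc xc4 yc12 zc22) (kc xc0 yc58 zc40) (kc xc4 yc12 zc28) (kc xc4 yc12 zc32) (kc xc2 yc43 zc57) (kc xc4 yc3 zc23) (kc xc4 yc12 zc35) (kc xc0 yc58 zc42) (kc xc4 yc12 zc38) (kc xc4 yc12 zc42) (kc xc0 yc58 zc43) (kc xc4 yc12 zc45) (kc xc4 yc12 zc26) (kc xc0 yc58 zc45) (kc xc4 yc12 zc49) (kc xc4 yc12 zc51) (kc xc1 yc6 zc49) (kc xc2 yc3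 zc41) (kc xc4 yc12 zc54) (kc xc2 yc6 zc3) (kc xc2 yc1 zc38) (kc xc4 yc12 zc56) (kc xc4 yc12 zc58) (kc xc2 yc2 zc36) (kc xc4 yc13 zc1) (kc xc4 yc13 zc4) (kc xc0 yc58 zc54) (kc xc4 yc13 zc10) (kc xc4 yc13 zc14) (kc xc4 yc5 zc8) (kc xc2 yc2 zc41) (kc xc4 yc13 zc8) (kc xc0 yc58 zc57) (kc xc4 yc13 zc21) (kc xc4 yc13 zc19) (kc xc4 yc9 zc1) (kc xc4 yc12 zc53) (kc xc1 yc15 zc11)) (@D3.rec (fun _ => Pt) (kc xc1 yc14 zc35) (kc xc4 yc13 zc25) (kc xc0 yc59 zc1) (kc xc0 yc59 zc2) (kc xc4 yc1 zc32) (kc xc1 yc5 zc23) (kc xc4 yc13 zc33) (kc xc0 yc59 zc5) (kc xc0 yc59 zc7) (kc xc0 yc59 zc28) (kc xc4 yc13 zc40) (kc xc2 yc34 zc29) (kc xc1 yc1 zc8) (kc xc0 yc59 zc33) (kc xc4 yc13 zc47) (kc xc2 yc4 zc20) (kc xc1 yc8 zc47) (kc xc4 yc13 zc52) (kc xc0 yc59 zc39) (kc xc4 yc13 zc56) (kc xc2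 yc4 zc15) (kc xc0 yc59 zc12) (kc xc4 yc13 zc61) (kc xc4 yc13 zc59) (kc xc2 yc1 zc49) (kc xc0 yc59 zc13) (kc xc4 yc14 zc6) (kc xc4 yc14 zc5) (kc xc4 yc14 zc9) (kc xc4 yc14 zc12) (kc xc0 yc59 zc14) (kc xc4 yc14 zc17) (kc xc4 yc14 zc19) (kc xc4 yc14 zc21) (kc xc0 yc59 zc17) (kc xc4 yc14 zc25) (kc xc0 yc59 zc19) (kc xc4 yc14 zc28) (kc xc4 yc14 zc33) (kc xc1 yc57 zc27) (kc xc4 yc14 zc34) (kc xc0 yc59 zc21) (kc xc4 yc14 zc37) (kc xc0 yc59 zc22) (kc xc4 yc14 zc42) (kc xc4 yc14 zc15) (kc xc1 yc19 zc4) (kc xc0 yc59 zc24) (kc xc4 yc14 zc52) (kc xc1 yc9 zc29) (kc xc4 yc14 zc55) (kc xc4 yc13 zc38) (kc xc4 yc14 zc57) (kc xc0 yc59 zc29) (kc xc4 yc15 zc1) (kc xc0 yc59 zc32) (kc xc4 yc15 zc5) (kc xc4 yc6 zc19) (kc xc4 yc15 zc7) (kc xc4 yc13 zc45) (kc xc4 yc15 zc11) (kc xc0 yc59 zc34))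 (@D3.rec (fun _ => Pt) (kc xc4 yc15 zc17) (kc xc3 yc57 zc11) (kc xc4 yc15 zc22) (kc xc1 yc16 zc50) (kc xc4 yc15 zc24) (kc xc1 yc2 zc51) (kc xc4 yc15 zc27) (kc xc4 yc15 zc29) (kc xc0 yc59 zc38) (kc xc4 yc15 zc35) (kc xc4 yc15 zc37) (kc xc4 yc15 zc39) (kc xc0 yc59 zc40) (kc xc4 yc15 zc45) (kc xc4 yc12 zc8) (kc xc4 yc15 zc50) (kc xc1 yc16 zc57) (kc xc0 yc59 zc42) (kc xc4 yc15 zc54) (kc xc4 yc15 zc52) (kc xc4 yc15 zc57) (kc xc0 yc59 zc45) (kc xc0 yc59 zc44) (kc xc4 yc15 zc61) (kc xc2 yc45 zc37) (kc xc4 yc9 zc23) (kc xc0 yc59 zc46) (kc xc4 yc16 zc7) (kc xc4 yc16 zc12) (kc xc0 yc59 zc47) (kc xc4 yc16 zc16) (kc xc4 yc16 zc22) (kc xc4 yc16 zc26) (kc xc1 yc0 zc14) (kc xc4 yc16 zc35) (kc xc0 yc59 zc49) (kc xc4 yc16 zc38) (kc xc0 yc59 zc50) (kc xc4 yc16 zc42) (kc xc4 yc16 zc44)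 (kc xc2 yc6 zc38) (kc xc4 yc16 zc46) (kc xc4 yc16 zc49) (kc xc0 yc59 zc52) (kc xc4 yc16 zc55) (kc xc4 yc3 zc2) (kc xc4 yc16 zc60) (kc xc2 yc6 zc45) (kc xc4 yc16 zc61) (kc xc0 yc59 zc54) (kc xc3 yc7 zc58) (kc xc0 yc59 zc55) (kc xc4 yc17 zc6) (kc xc4 yc16 zc53) (kc xc0 yc59 zc57) (kc xc2 yc19 zc26) (kc xc2 yc19 zc25) (kc xc3 yc1 zc40) (kc xc4 yc17 zc12) (kc xc4 yc17 zc14) (kc xc4 yc3 zc37) (kc xc4 yc17 zc18)) (@D3.rec (fun _ => Pt) (kc xc4 yc17 zc20) (kc xc1 yc0 zc0) (kc xc4 yc17 zc26) (kc xc2 yc3 zc43) (kc xc1 yc0 zc44) (kc xc4 yc3 zc45) (kc xc4 yc17 zc24) (kc xc1 yc0 zc3) (kc xc4 yc17 zc36) (kc xc4 yc17 zc35) (kc xc4 yc17 zc37) (kc xc1 yc0 zc6) (kc xc4 yc17 zc43) (kc xc4 yc17 zc41) (kc xc1 yc0 zc8) (kc xc3 yc12 zc22) (kc xc4 yc17 zc57) (kc xc4 yc17 zc54) (kc xc4 yc17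 zc60) (kc xc1 yc0 zc9) (kc xc4 yc18 zc4) (kc xc4 yc18 zc2) (kc xc1 yc0 zc11) (kc xc1 yc30 zc17) (kc xc1 yc29 zc48) (kc xc4 yc18 zc12) (kc xc4 yc18 zc18) (kc xc1 yc8 zc60) (kc xc4 yc18 zc22) (kc xc1 yc9 zc0) (kc xc4 yc18 zc24) (kc xc4 yc18 zc28) (kc xc4 yc16 zc31) (kc xc4 yc18 zc32) (kc xc1 yc58 zc47) (kc xc1 yc0 zc16) (kc xc4 yc18 zc37) (kc xc4 yc18 zc39) (kc xc2 yc5 zc40) (kc xc4 yc18 zc43) (kc xc4 yc18 zc45) (kc xc1 yc0 zc18) (kc xc4 yc18 zc51) (kc xc4 yc18 zc56) (kc xc4 yc18 zc58) (kc xc2 yc5 zc47) (kc xc4 yc18 zc60) (kc xc4 yc10 zc26) (kc xc4 yc18 zc49) (kc xc1 yc0 zc22) (kc xc4 yc10 zc31) (kc xc4 yc10 zc32) (kc xc2 yc19 zc9) (kc xc2 yc6 zc53) (kc xc1 yc0 zc25) (kc xc2 yc41 zc12) (kc xc4 yc19 zc7) (kc xc2 yc24 zc43) (kc xc1 yc15 zc61) (kc xc2 yc45 zc29) (kc xc2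 yc45 zc30) (kc xc1 yc0 zc30)) (@D3.rec (fun _ => Pt) (kc xc4 yc19 zc12) (kc xc1 yc56 zc44) (kc xc4 yc19 zc18) (kc xc1 yc0 zc35) (kc xc1 yc0 zc34) (kc xc1 yc0 zc36) (kc xc4 yc19 zc22) (kc xc4 yc19 zc24) (kc xc2 yc10 zc59) (kc xc4 yc19 zc28) (kc xc4 yc19 zc31) (kc xc1 yc0 zc38) (kc xc4 yc19 zc37) (kc xc4 yc19 zc42) (kc xc4 yc19 zc43) (kc xc4 yc19 zc44) (kc xc2 yc11 zc12) (kc xc4 yc19 zc35) (kc xc1 yc0 zc41) (kc xc4 yc10 zc56) (kc xc2 yc40 zc43) (kc xc2 yc19 zc21) (kc xc4 yc19 zc49) (kc xc4 yc19 zc51) (kc xc1 yc15 zc43) (kc xc4 yc19 zc19) (kc xc4 yc19 zc54) (kc xc4 yc19 zc56) (kc xc1 yc0 zc47) (kc xc4 yc20 zc0) (kc xc4 yc20 zc2) (kc xc1 yc0 zc50) (kc xc1 yc0 zc51) (kc xc1 yc56 zc39) (kc xc1 yc4 zc36) (kc xc4 yc20 zc16) (kc xc1 yc0 zc53) (kc xc4 yc20 zc21) (kc xc2 yc7 zc57)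 (kc xc4 yc20 zc23) (kc xc1 yc9 zc32) (kc xc1 yc0 zc56) (kc xc4 yc20 zc28) (kc xc4 yc20 zc30) (kc xc1 yc0 zc60) (kc xc1 yc0 zc59) (kc xc1 yc9 zc33) (kc xc1 yc9 zc34) (kc xc3 yc38 zc35) (kc xc4 yc20 zc43) (kc xc1 yc1 zc0) (kc xc4 yc20 zc46) (kc xc4 yc19 zc58) (kc xc4 yc19 zc59) (kc xc1 yc1 zc2) (kc xc4 yc20 zc51) (kc xc4 yc20 zc53) (kc xc2 yc7 zc38) (kc xc4 yc20 zc56) (kc xc4 yc20 zc25) (kc xc1 yc1 zc6) (kc xc4 yc20 zc60)) (@D3.rec (fun _ => Pt) (kc xc4 yc21 zc0) (kc xc4 yc13 zc43) (kc xc4 yc21 zc2) (kc xc4 yc21 zc3) (kc xc1 yc1 zc11) (kc xc4 yc21 zc6) (kc xc4 yc21 zc5) (kc xc4 yc21 zc11) (kc xc1 yc1 zc12) (kc xc4 yc21 zc16) (kc xc4 yc21 zc18) (kc xc2 yc23 zc15) (kc xc4 yc21 zc23) (kc xc1 yc1 zc15) (kc xc4 yc21 zc27) (kc xc4 yc21 zc29) (kc xc1 yc1 zc17) (kc xc4 yc21 zc34)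 (kc xc1 yc1 zc32) (kc xc1 yc10 zc17) (kc xc4 yc21 zc39) (kc xc2 yc8 zc47) (kc xc1 yc1 zc20) (kc xc4 yc21 zc43) (kc xc1 yc1 zc22) (kc xc4 yc21 zc49) (kc xc4 yc21 zc54) (kc xc1 yc1 zc23) (kc xc4 yc21 zc58) (kc xc1 yc9 zc18) (kc xc1 yc9 zc19) (kc xc4 yc21 zc14) (kc xc3 yc57 zc36) (kc xc1 yc1 zc25) (kc xc4 yc22 zc14) (kc xc4 yc22 zc18) (kc xc1 yc2 zc43) (kc xc1 yc1 zc27) (kc xc4 yc22 zc23) (kc xc1 yc1 zc33) (kc xc1 yc1 zc29) (kc xc1 yc19 zc1) (kc xc1 yc56 zc9) (kc xc4 yc22 zc12) (kc xc1 yc1 zc31) (kc xc4 yc22 zc38) (kc xc4 yc22 zc40) (kc xc2 yc8 zc21) (kc xc1 yc1 zc35) (kc xc4 yc22 zc43) (kc xc4 yc0 zc22) (kc xc4 yc22 zc11) (kc xc1 yc3 zc39) (kc xc4 yc22 zc4) (kc xc1 yc1 zc39) (kc xc4 yc23 zc0) (kc xc4 yc23 zc1) (kc xc4 yc22 zc61) (kc xc2 yc9 zc3) (kc xc4 yc22 zc1) (kc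 xc1 yc1 zc41) (kc xc4 yc23 zc7)) (@D3.rec (fun _ => Pt) (kc xc3 yc33 zc5) (kc xc4 yc21 zc57) (kc xc1 yc10 zc26) (kc xc2 yc8 zc58) (kc xc4 yc21 zc48) (kc xc1 yc56 zc59) (kc xc4 yc23 zc19) (kc xc4 yc23 zc24) (kc xc1 yc3 zc47) (kc xc4 yc23 zc30) (kc xc1 yc3 zc49) (kc xc4 yc21 zc42) (kc xc4 yc21 zc33) (kc xc1 yc1 zc45) (kc xc4 yc23 zc39) (kc xc3 yc57 zc8) (kc xc1 yc1 zc47) (kc xc2 yc9 zc17) (kc xc1 yc28 zc2) (kc xc1 yc6 zc22) (kc xc1 yc6 zc26) (kc xc1 yc27 zc58) (kc xc2 yc49 zc50) (kc xc2 yc14 zc7) (kc xc1 yc5 zc49) (kc xc4 yc23 zc61) (kc xc1 yc5 zc50) (kc xc2 yc10 zc29) (kc xc1 yc27 zc54) (kc xc1 yc27 zc55) (kc xc3 yc41 zc19) (kc xc1 yc1 zc54) (kc xc4 yc24 zc10) (kc xc3 yc4 zc28) (kc xc4 yc24 zc11) (kc xc4 yc23 zc54) (kc xc4 yc0 zc36) (kc xc4 yc24 zc21) (kc xc4 yc0 zc37)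 (kc xc1 yc28 zc11) (kc xc1 yc6 zc27) (kc xc4 yc24 zc30) (kc xc1 yc1 zc59) (kc xc1 yc1 zc58) (kc xc2 yc51 zc40) (kc xc2 yc14 zc27) (kc xc1 yc4 zc34) (kc xc4 yc24 zc36) (kc xc2 yc10 zc7) (kc xc4 yc24 zc41) (kc xc4 yc24 zc33) (kc xc2 yc10 zc4) (kc xc4 yc24 zc48) (kc xc2 yc10 zc6) (kc xc2 yc9 zc61) (kc xc1 yc22 zc9) (kc xc1 yc26 zc20) (kc xc4 yc25 zc1) (kc xc1 yc2 zc5) (kc xc1 yc2 zc3) (kc xc1 yc2 zc4) (kc xc2 yc9 zc54)) (@D3.rec (fun _ => Pt) (kc xc4 yc25 zc11) (kc xc1 yc9 zc35) (kc xc4 yc25 zc14) (kc xc4 yc25 zc17) (kc xc2 yc9 zc51) (kc xc4 yc25 zc24) (kc xc2 yc9 zc53) (kc xc2 yc9 zc48) (kc xc4 yc25 zc36) (kc xc1 yc57 zc7) (kc xc1 yc4 zc49) (kc xc1 yc10 zc48) (kc xc4 yc0 zc40) (kc xc1 yc2 zc11) (kc xc4 yc25 zc52) (kc xc4 yc25 zc49) (kc xc4 yc25 zc50) (kc xc3 yc59 zc27)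 (kc xc1 yc2 zc12) (kc xc4 yc26 zc1) (kc xc4 yc26 zc0) (kc xc4 yc26 zc8) (kc xc4 yc26 zc11) (kc xc4 yc26 zc14) (kc xc1 yc2 zc14) (kc xc4 yc26 zc20) (kc xc4 yc26 zc21) (kc xc1 yc5 zc3) (kc xc4 yc26 zc29) (kc xc2 yc9 zc27) (kc xc4 yc26 zc18) (kc xc1 yc2 zc18) (kc xc4 yc26 zc44) (kc xc4 yc26 zc48) (kc xc4 yc26 zc42) (kc xc1 yc55 zc46) (kc xc1 yc11 zc7) (kc xc1 yc57 zc16) (kc xc4 yc26 zc61) (kc xc1 yc2 zc21) (kc xc4 yc27 zc3) (kc xc1 yc2 zc22) (kc xc4 yc27 zc6) (kc xc1 yc56 zc50) (kc xc2 yc0 zc29) (kc xc2 yc35 zc24) (kc xc4 yc27 zc10) (kc xc1 yc15 zc24) (kc xc4 yc27 zc12) (kc xc2 yc37 zc20) (kc xc4 yc27 zc14) (kc xc1 yc2 zc25) (kc xc4 yc27 zc20) (kc xc4 yc27 zc22) (kc xc4 yc7 zc48) (kc xc4 yc27 zc24) (kc xc1 yc2 zc28) (kc xc4 yc27 zc30) (kc xc4 yc27 zc32) (kc xc2 yc7 zc8)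 (kc xc4 yc27 zc34) (kc xc1 yc2 zc31)) (@D3.rec (fun _ => Pt) (kc xc4 yc27 zc40) (kc xc4 yc27 zc42) (kc xc2 yc2 zc14) (kc xc4 yc27 zc46) (kc xc4 yc27 zc48) (kc xc1 yc2 zc34) (kc xc4 yc27 zc54) (kc xc4 yc21 zc8) (kc xc4 yc27 zc59) (kc xc4 yc12 zc17) (kc xc1 yc2 zc36) (kc xc4 yc28 zc0) (kc xc2 yc7 zc16) (kc xc4 yc28 zc4) (kc xc1 yc2 zc38) (kc xc4 yc28 zc10) (kc xc1 yc2 zc39) (kc xc4 yc28 zc17) (kc xc4 yc28 zc23) (kc xc4 yc28 zc27) (kc xc1 yc3 zc0) (kc xc4 yc28 zc37) (kc xc1 yc2 zc41) (kc xc4 yc28 zc40) (kc xc4 yc28 zc43) (kc xc4 yc28 zc45) (kc xc1 yc2 zc42) (kc xc4 yc28 zc51) (kc xc1 yc16 zc32) (kc xc4 yc7 zc61) (kc xc4 yc22 zc21) (kc xc1 yc2 zc44) (kc xc4 yc28 zc56) (kc xc4 yc28 zc49) (kc xc1 yc3 zc51) (kc xc1 yc4 zc47) (kc xc1 yc23 zc26) (kc xc2 yc14 zc43) (kc xc1 yc2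 zc49) (kc xc4 yc29 zc2) (kc xc4 yc29 zc5) (kc xc1 yc2 zc50) (kc xc4 yc29 zc11) (kc xc4 yc29 zc9) (kc xc1 yc3 zc50) (kc xc1 yc2 zc53) (kc xc4 yc29 zc22) (kc xc2 yc52 zc51) (kc xc1 yc2 zc54) (kc xc4 yc29 zc28) (kc xc4 yc29 zc26) (kc xc1 yc3 zc43) (kc xc1 yc2 zc56) (kc xc2 yc48 zc26) (kc xc4 yc29 zc45) (kc xc4 yc29 zc48) (kc xc4 yc29 zc42) (kc xc4 yc14 zc14) (kc xc1 yc2 zc57) (kc xc4 yc29 zc52) (kc xc4 yc29 zc50) (kc xc1 yc3 zc40)) (@D3.rec (fun _ => Pt) (kc xc1 yc2 zc59) (kc xc4 yc30 zc0) (kc xc4 yc30 zc3) (kc xc3 yc13 zc13) (kc xc4 yc4 zc7) (kc xc1 yc3 zc35) (kc xc1 yc10 zc4) (kc xc4 yc30 zc15) (kc xc1 yc3 zc30) (kc xc1 yc10 zc6) (kc xc4 yc30 zc22) (kc xc4 yc30 zc27) (kc xc4 yc28 zc32) (kc xc4 yc30 zc33) (kc xc4 yc28 zc34) (kc xc1 yc3 zc26) (kc xc1 yc3 zc16) (kc xc1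 yc20 zc32) (kc xc1 yc3 zc3) (kc xc4 yc30 zc46) (kc xc4 yc30 zc50) (kc xc4 yc30 zc53) (kc xc2 yc40 zc46) (kc xc4 yc4 zc25) (kc xc1 yc3 zc10) (kc xc1 yc4 zc28) (kc xc1 yc22 zc31) (kc xc1 yc23 zc25) (kc xc1 yc18 zc41) (kc xc4 yc22 zc26) (kc xc1 yc18 zc39) (kc xc4 yc31 zc8) (kc xc4 yc30 zc38) (kc xc1 yc10 zc20) (kc xc2 yc44 zc23) (kc xc1 yc3 zc18) (kc xc1 yc3 zc19) (kc xc4 yc31 zc16) (kc xc4 yc31 zc18) (kc xc4 yc31 zc21) (kc xc1 yc3 zc21) (kc xc4 yc31 zc27) (kc xc2 yc38 zc16) (kc xc2 yc34 zc28) (kc xc4 yc31 zc25) (kc xc1 yc3 zc24) (kc xc2 yc41 zc33) (kc xc2 yc41 zc34) (kc xc4 yc31 zc36) (kc xc3 yc4 zc53) (kc xc4 yc31 zc42) (kc xc2 yc12 zc51) (kc xc4 yc25 zc53) (kc xc2 yc14 zc1) (kc xc1 yc10 zc27) (kc xc1 yc10 zc28) (kc xc4 yc31 zc49) (kc xc4 yc30 zc18) (kc xc1 yc3 zc31)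 (kc xc1 yc3 zc32) (kc xc2 yc47 zc50) (kc xc2 yc46 zc42)) (@D3.rec (fun _ => Pt) (kc xc2 yc13 zc0) (kc xc4 yc31 zc61) (kc xc2 yc13 zc2) (kc xc4 yc30 zc9) (kc xc2 yc52 zc28) (kc xc1 yc3 zc38) (kc xc1 yc3 zc37) (kc xc4 yc32 zc8) (kc xc4 yc32 zc10) (kc xc4 yc22 zc53) (kc xc4 yc32 zc14) (kc xc4 yc22 zc55) (kc xc2 yc50 zc33) (kc xc4 yc32 zc21) (kc xc1 yc28 zc30) (kc xc4 yc32 zc22) (kc xc4 yc32 zc25) (kc xc4 yc32 zc28) (kc xc1 yc3 zc42) (kc xc4 yc32 zc37) (kc xc4 yc32 zc34) (kc xc4 yc29 zc38) (kc xc4 yc32 zc47) (kc xc1 yc31 zc26) (kc xc4 yc23 zc16) (kc xc4 yc32 zc50) (kc xc1 yc3 zc45) (kc xc4 yc32 zc58) (kc xc4 yc32 zc57) (kc xc1 yc3 zc46) (kc xc4 yc33 zc2) (kc xc4 yc33 zc1) (kc xc4 yc33 zc8) (kc xc4 yc33 zc11) (kc xc4 yc33 zc13) (kc xc1 yc3 zc48) (kc xc4 yc33 zc19) (kc xc4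 yc33 zc20) (kc xc4 yc23 zc33) (kc xc4 yc33 zc27) (kc xc4 yc29 zc20) (kc xc4 yc33 zc33) (kc xc1 yc21 zc19) (kc xc4 yc33 zc17) (kc xc1 yc3 zc53) (kc xc4 yc33 zc45) (kc xc4 yc33 zc49) (kc xc4 yc33 zc43) (kc xc1 yc18 zc5) (kc xc2 yc58 zc5) (kc xc1 yc22 zc12) (kc xc4 yc33 zc56) (kc xc2 yc59 zc61) (kc xc3 yc10 zc21) (kc xc1 yc3 zc60) (kc xc4 yc34 zc0) (kc xc4 yc34 zc5) (kc xc4 yc31 zc51) (kc xc1 yc8 zc16) (kc xc3 yc5 zc31) (kc xc2 yc57 zc38) (kc xc1 yc4 zc1)) (@D3.rec (fun _ => Pt) (kc xc1 yc21 zc18) (kc xc2 yc12 zc53) (kc xc1 yc4 zc3) (kc xc3 yc4 zc26) (kc xc2 yc46 zc4) (kc xc1 yc4 zc6) (kc xc1 yc4 zc5) (kc xc2 yc9 zc23) (kc xc1 yc4 zc7) (kc xc4 yc34 zc22) (kc xc3 yc4 zc56) (kc xc4 yc34 zc25) (kc xc3 yc29 zc60) (kc xc3 yc51 zc21) (kc xc1 yc4 zc10) (kc xc4 yc34 zc32) (kc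 xc4 yc34 zc38) (kc xc1 yc8 zc9) (kc xc1 yc4 zc12) (kc xc2 yc52 zc27) (kc xc1 yc21 zc40) (kc xc2 yc52 zc26) (kc xc2 yc15 zc15) (kc xc1 yc23 zc31) (kc xc3 yc43 zc25) (kc xc3 yc43 zc26) (kc xc1 yc7 zc26) (kc xc2 yc9 zc45) (kc xc2 yc15 zc39) (kc xc2 yc53 zc3) (kc xc4 yc34 zc49) (kc xc2 yc14 zc31) (kc xc1 yc4 zc23) (kc xc4 yc34 zc53) (kc xc2 yc55 zc48) (kc xc4 yc35 zc0) (kc xc2 yc14 zc36) (kc xc2 yc59 zc40) (kc xc1 yc7 zc23) (kc xc1 yc22 zc32) (kc xc1 yc16 zc40) (kc xc4 yc25 zc5) (kc xc2 yc59 zc21) (kc xc2 yc11 zc37) (kc xc1 yc18 zc31) (kc xc4 yc25 zc3) (kc xc1 yc59 zc57) (kc xc1 yc22 zc27) (kc xc2 yc44 zc24) (kc xc1 yc4 zc32) (kc xc4 yc35 zc16) (kc xc1 yc4 zc33) (kc xc4 yc35 zc19) (kc xc4 yc35 zc21) (kc xc4 yc20 zc12) (kc xc1 yc4 zc35) (kc xc4 yc35 zc28) (kc xc4 yc35 zc33)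 (kc xc4 yc35 zc35) (kc xc4 yc35 zc39) (kc xc4 yc20 zc14) (kc xc1 yc7 zc24)) (@D3.rec (fun _ => Pt) (kc xc1 yc7 zc25) (kc xc1 yc32 zc42) (kc xc1 yc6 zc59) (kc xc1 yc4 zc38) (kc xc1 yc14 zc32) (kc xc1 yc4 zc40) (kc xc4 yc35 zc49) (kc xc3 yc59 zc19) (kc xc1 yc4 zc41) (kc xc4 yc35 zc56) (kc xc4 yc35 zc55) (kc xc1 yc4 zc42) (kc xc4 yc36 zc0) (kc xc4 yc35 zc61) (kc xc2 yc27 zc17) (kc xc2 yc14 zc22) (kc xc4 yc36 zc8) (kc xc1 yc4 zc45) (kc xc1 yc4 zc44) (kc xc4 yc36 zc17) (kc xc4 yc36 zc21) (kc xc4 yc36 zc23) (kc xc4 yc36 zc27) (kc xc4 yc36 zc13) (kc xc1 yc7 zc21) (kc xc1 yc7 zc22) (kc xc2 yc58 zc56) (kc xc1 yc6 zc61) (kc xc1 yc18 zc33) (kc xc1 yc17 zc7) (kc xc4 yc25 zc39) (kc xc1 yc4 zc50) (kc xc4 yc36 zc39) (kc xc3 yc59 zc20) (kc xc1 yc55 zc42) (kc xc1 yc4 zc51) (kc xc4 yc36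 zc47) (kc xc4 yc36 zc45) (kc xc1 yc55 zc43) (kc xc2 yc14 zc28) (kc xc2 yc27 zc1) (kc xc4 yc36 zc43) (kc xc4 yc36 zc60) (kc xc1 yc4 zc54) (kc xc1 yc4 zc55) (kc xc4 yc37 zc6) (kc xc1 yc4 zc53) (kc xc4 yc37 zc12) (kc xc4 yc37 zc13) (kc xc4 yc25 zc55) (kc xc4 yc37 zc20) (kc xc4 yc37 zc4) (kc xc4 yc37 zc5) (kc xc1 yc27 zc45) (kc xc4 yc37 zc23) (kc xc2 yc28 zc1) (kc xc4 yc37 zc26) (kc xc1 yc4 zc59) (kc xc1 yc4 zc58) (kc xc4 yc37 zc32) (kc xc4 yc26 zc3) (kc xc4 yc37 zc38)) (@D3.rec (fun _ => Pt) (kc xc4 yc27 zc0) (kc xc1 yc4 zc60) (kc xc4 yc37 zc42) (kc xc3 yc23 zc35) (kc xc1 yc4 zc61) (kc xc4 yc37 zc50) (kc xc1 yc5 zc0) (kc xc4 yc37 zc57) (kc xc4 yc38 zc0) (kc xc4 yc38 zc4) (kc xc4 yc38 zc9) (kc xc1 yc5 zc2) (kc xc4 yc38 zc16) (kc xc4 yc38 zc20) (kc xc4 yc38 zc14) (kc xc4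 yc38 zc23) (kc xc4 yc38 zc27) (kc xc4 yc38 zc28) (kc xc1 yc5 zc4) (kc xc4 yc38 zc33) (kc xc1 yc8 zc13) (kc xc1 yc8 zc14) (kc xc4 yc32 zc17) (kc xc1 yc6 zc54) (kc xc4 yc38 zc43) (kc xc1 yc5 zc6) (kc xc4 yc38 zc48) (kc xc1 yc8 zc6) (kc xc1 yc8 zc7) (kc xc4 yc38 zc59) (kc xc1 yc6 zc14) (kc xc4 yc39 zc1) (kc xc2 yc50 zc51) (kc xc3 yc24 zc16) (kc xc1 yc24 zc17) (kc xc4 yc39 zc11) (kc xc4 yc39 zc14) (kc xc4 yc39 zc16) (kc xc4 yc39 zc18) (kc xc4 yc39 zc21) (kc xc4 yc39 zc24) (kc xc1 yc5 zc13) (kc xc1 yc25 zc42) (kc xc4 yc39 zc30) (kc xc1 yc5 zc16) (kc xc4 yc39 zc32) (kc xc1 yc5 zc18) (kc xc2 yc49 zc57) (kc xc2 yc49 zc17) (kc xc1 yc5 zc27) (kc xc4 yc39 zc36) (kc xc3 yc4 zc4) (kc xc2 yc16 zc52) (kc xc4 yc39 zc43) (kc xc4 yc39 zc46) (kc xc4 yc13 zc30) (kc xc4 yc39 zc49) (kc xc4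 yc13 zc32) (kc xc1 yc5 zc24) (kc xc4 yc39 zc52) (kc xc1 yc25 zc26) (kc xc3 yc4 zc0)) (@D3.rec (fun _ => Pt) (kc xc1 yc5 zc26) (kc xc3 yc32 zc37) (kc xc1 yc5 zc28) (kc xc4 yc39 zc61) (kc xc1 yc32 zc54) (kc xc1 yc32 zc55) (kc xc1 yc27 zc27) (kc xc1 yc6 zc39) (kc xc1 yc7 zc52) (kc xc1 yc5 zc31) (kc xc4 yc40 zc13) (kc xc3 yc1 zc38) (kc xc1 yc7 zc53) (kc xc1 yc5 zc34) (kc xc4 yc40 zc16) (kc xc1 yc5 zc35) (kc xc4 yc40 zc19) (kc xc1 yc5 zc36) (kc xc1 yc5 zc37) (kc xc4 yc40 zc28) (kc xc2 yc20 zc28) (kc xc2 yc20 zc20) (kc xc1 yc5 zc40) (kc xc4 yc40 zc39) (kc xc1 yc5 zc39) (kc xc4 yc40 zc46) (kc xc4 yc40 zc49) (kc xc4 yc40 zc44) (kc xc4 yc40 zc36) (kc xc4 yc40 zc38) (kc xc1 yc32 zc48) (kc xc1 yc32 zc49) (kc xc4 yc40 zc61) (kc xc1 yc5 zc44) (kc xc4 yc41 zc2) (kc xc1 yc5 zc42)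 (kc xc4 yc41 zc7) (kc xc4 yc41 zc6) (kc xc4 yc41 zc11) (kc xc1 yc5 zc43) (kc xc4 yc7 zc23) (kc xc4 yc41 zc15) (kc xc2 yc48 zc61) (kc xc1 yc5 zc47) (kc xc3 yc10 zc24) (kc xc1 yc5 zc48) (kc xc4 yc41 zc22) (kc xc3 yc36 zc5) (kc xc4 yc41 zc25) (kc xc4 yc41 zc30) (kc xc4 yc24 zc3) (kc xc4 yc34 zc11) (kc xc4 yc34 zc12) (kc xc1 yc5 zc51) (kc xc4 yc41 zc37) (kc xc1 yc5 zc55) (kc xc4 yc36 zc6) (kc xc4 yc41 zc39) (kc xc2 yc45 zc11) (kc xc3 yc1 zc27) (kc xc1 yc6 zc1) (kc xc4 yc39 zc7)) (@D3.rec (fun _ => Pt) (kc xc4 yc41 zc42) (kc xc4 yc41 zc43) (kc xc1 yc29 zc58) (kc xc1 yc6 zc3) (kc xc1 yc6 zc4) (kc xc3 yc21 zc31) (kc xc1 yc32 zc27) (kc xc1 yc32 zc31) (kc xc4 yc41 zc48) (kc xc1 yc6 zc6) (kc xc4 yc41 zc51) (kc xc2 yc51 zc30) (kc xc4 yc41 zc54) (kc xc1 yc24 zc32) (kc xc1 yc6 zc7)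 (kc xc4 yc41 zc55) (kc xc1 yc6 zc8) (kc xc4 yc41 zc56) (kc xc1 yc6 zc9) (kc xc4 yc41 zc61) (kc xc4 yc42 zc0) (kc xc4 yc42 zc4) (kc xc4 yc42 zc7) (kc xc4 yc42 zc9) (kc xc3 yc19 zc36) (kc xc3 yc19 zc37) (kc xc1 yc6 zc13) (kc xc4 yc42 zc15) (kc xc1 yc6 zc15) (kc xc3 yc1 zc31) (kc xc2 yc18 zc30) (kc xc4 yc42 zc18) (kc xc1 yc6 zc17) (kc xc4 yc42 zc21) (kc xc4 yc41 zc60) (kc xc1 yc6 zc56) (kc xc3 yc22 zc31) (kc xc3 yc8 zc3) (kc xc2 yc18 zc38) (kc xc4 yc42 zc28) (kc xc1 yc6 zc21) (kc xc4 yc42 zc31) (kc xc2 yc49 zc0) (kc xc2 yc51 zc7) (kc xc1 yc31 zc30) (kc xc1 yc6 zc31) (kc xc4 yc42 zc37) (kc xc1 yc6 zc32) (kc xc3 yc57 zc40) (kc xc3 yc43 zc36) (kc xc1 yc6 zc28) (kc xc4 yc23 zc6) (kc xc4 yc20 zc9) (kc xc1 yc6 zc29) (kc xc4 yc42 zc49) (kc xc4 yc42 zc51) (kc xc1 yc6 zc30) (kc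 xc4 yc42 zc53) (kc xc2 yc49 zc40) (kc xc4 yc23 zc56) (kc xc3 yc23 zc34) (kc xc2 yc49 zc39)) (@D3.rec (fun _ => Pt) (kc xc4 yc33 zc61) (kc xc2 yc46 zc3) (kc xc1 yc6 zc33) (kc xc4 yc41 zc36) (kc xc4 yc40 zc9) (kc xc1 yc6 zc41) (kc xc2 yc3 zc1) (kc xc1 yc6 zc42) (kc xc4 yc43 zc3) (kc xc2 yc6 zc52) (kc xc2 yc21 zc47) (kc xc1 yc6 zc44) (kc xc4 yc43 zc6) (kc xc2 yc20 zc53) (kc xc1 yc6 zc45) (kc xc4 yc43 zc9) (kc xc1 yc33 zc4) (kc xc1 yc33 zc5) (kc xc4 yc41 zc41) (kc xc1 yc6 zc47) (kc xc4 yc43 zc19) (kc xc2 yc7 zc21) (kc xc4 yc43 zc17) (kc xc2 yc20 zc24) (kc xc1 yc6 zc48) (kc xc2 yc5 zc56) (kc xc2 yc5 zc55) (kc xc3 yc16 zc39) (kc xc4 yc43 zc29) (kc xc4 yc43 zc30) (kc xc4 yc43 zc32) (kc xc2 yc50 zc31) (kc xc3 yc20 zc9) (kc xc3 yc20 zc10) (kc xc1 yc6 zc53) (kc xc4 yc43 zc39)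 (kc xc4 yc12 zc31) (kc xc1 yc30 zc3) (kc xc1 yc6 zc58) (kc xc4 yc43 zc44) (kc xc4 yc43 zc45) (kc xc3 yc14 zc14) (kc xc4 yc43 zc49) (kc xc2 yc52 zc38) (kc xc3 yc15 zc39) (kc xc2 yc52 zc40) (kc xc1 yc31 zc48) (kc xc1 yc31 zc49) (kc xc1 yc7 zc6) (kc xc1 yc34 zc36) (kc xc1 yc33 zc30) (kc xc4 yc35 zc45) (kc xc2 yc20 zc36) (kc xc2 yc21 zc46) (kc xc1 yc7 zc13) (kc xc1 yc7 zc12) (kc xc4 yc43 zc60) (kc xc4 yc44 zc1) (kc xc4 yc44 zc2) (kc xc1 yc7 zc15) (kc xc4 yc44 zc4) (kc xc1 yc7 zc16)) (@D3.rec (fun _ => Pt) (kc xc4 yc44 zc6) (kc xc1 yc7 zc17) (kc xc4 yc44 zc7) (kc xc4 yc44 zc8) (kc xc1 yc7 zc18) (kc xc4 yc44 zc11) (kc xc3 yc1 zc12) (kc xc3 yc14 zc50) (kc xc1 yc7 zc20) (kc xc4 yc44 zc20) (kc xc4 yc44 zc22) (kc xc4 yc44 zc24) (kc xc4 yc36 zc30) (kc xc4 yc36 zc32) (kc xc4 yc35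 zc41) (kc xc4 yc44 zc26) (kc xc4 yc35 zc43) (kc xc1 yc7 zc27) (kc xc4 yc44 zc29) (kc xc4 yc44 zc31) (kc xc2 yc17 zc21) (kc xc1 yc7 zc31) (kc xc4 yc44 zc33) (kc xc4 yc44 zc34) (kc xc2 yc19 zc23) (kc xc4 yc40 zc23) (kc xc1 yc7 zc33) (kc xc4 yc44 zc39) (kc xc2 yc17 zc20) (kc xc1 yc7 zc37) (kc xc1 yc29 zc50) (kc xc3 yc12 zc14) (kc xc4 yc44 zc32) (kc xc2 yc21 zc20) (kc xc1 yc7 zc36) (kc xc1 yc7 zc38) (kc xc2 yc19 zc52) (kc xc1 yc22 zc0) (kc xc2 yc21 zc19) (kc xc3 yc10 zc41) (kc xc1 yc7 zc42) (kc xc4 yc45 zc2) (kc xc1 yc7 zc43) (kc xc4 yc45 zc8) (kc xc3 yc5 zc50) (kc xc3 yc5 zc48) (kc xc1 yc34 zc52) (kc xc2 yc21 zc23) (kc xc1 yc7 zc45) (kc xc4 yc45 zc26) (kc xc4 yc45 zc25) (kc xc1 yc7 zc46) (kc xc4 yc45 zc29) (kc xc2 yc19 zc13) (kc xc3 yc7 zc31) (kc xc4 yc45 zc28) (kc xc2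 yc21 zc12) (kc xc1 yc7 zc48) (kc xc4 yc45 zc50) (kc xc4 yc45 zc53) (kc xc4 yc45 zc57) (kc xc4 yc45 zc49)) (@D3.rec (fun _ => Pt) (kc xc3 yc10 zc42) (kc xc1 yc7 zc49) (kc xc4 yc45 zc59) (kc xc2 yc21 zc9) (kc xc1 yc7 zc51) (kc xc4 yc46 zc9) (kc xc4 yc46 zc13) (kc xc4 yc46 zc8) (kc xc4 yc46 zc18) (kc xc2 yc21 zc3) (kc xc4 yc40 zc10) (kc xc4 yc46 zc27) (kc xc2 yc20 zc56) (kc xc4 yc40 zc14) (kc xc4 yc46 zc34) (kc xc3 yc59 zc41) (kc xc1 yc8 zc19) (kc xc4 yc46 zc44) (kc xc1 yc8 zc20) (kc xc2 yc20 zc38) (kc xc2 yc20 zc33) (kc xc1 yc7 zc55) (kc xc4 yc46 zc55) (kc xc2 yc20 zc47) (kc xc4 yc47 zc0) (kc xc4 yc47 zc4) (kc xc4 yc47 zc9) (kc xc1 yc7 zc60) (kc xc1 yc7 zc61) (kc xc4 yc47 zc15) (kc xc1 yc7 zc58) (kc xc4 yc47 zc19) (kc xc1 yc7 zc59) (kc xc4 yc47 zc22) (kc xc4 yc47 zc11)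 (kc xc4 yc47 zc25) (kc xc4 yc47 zc30) (kc xc1 yc8 zc0) (kc xc4 yc47 zc32) (kc xc3 yc10 zc55) (kc xc1 yc8 zc1) (kc xc4 yc47 zc34) (kc xc4 yc47 zc37) (kc xc1 yc8 zc2) (kc xc1 yc8 zc3) (kc xc4 yc47 zc44) (kc xc2 yc19 zc53) (kc xc2 yc19 zc10) (kc xc3 yc19 zc43) (kc xc1 yc8 zc5) (kc xc4 yc47 zc54) (kc xc4 yc47 zc57) (kc xc4 yc47 zc61) (kc xc4 yc47 zc53) (kc xc4 yc48 zc1) (kc xc4 yc48 zc4) (kc xc4 yc48 zc5) (kc xc4 yc38 zc56) (kc xc4 yc42 zc11) (kc xc4 yc42 zc12) (kc xc1 yc8 zc8) (kc xc4 yc48 zc11)) (@D3.rec (fun _ => Pt) (kc xc1 yc8 zc10) (kc xc4 yc48 zc13) (kc xc1 yc53 zc35) (kc xc1 yc8 zc12) (kc xc4 yc48 zc21) (kc xc4 yc48 zc23) (kc xc4 yc48 zc27) (kc xc4 yc48 zc20) (kc xc4 yc48 zc31) (kc xc4 yc48 zc32) (kc xc4 yc48 zc34) (kc xc4 yc43 zc35) (kc xc4 yc43 zc36) (kc xc1 yc8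 zc15) (kc xc4 yc48 zc40) (kc xc2 yc27 zc40) (kc xc1 yc8 zc17) (kc xc4 yc48 zc47) (kc xc4 yc48 zc51) (kc xc1 yc8 zc18) (kc xc4 yc48 zc55) (kc xc4 yc46 zc41) (kc xc4 yc49 zc2) (kc xc4 yc49 zc6) (kc xc4 yc49 zc11) (kc xc4 yc46 zc49) (kc xc4 yc49 zc15) (kc xc4 yc49 zc19) (kc xc1 yc38 zc26) (kc xc4 yc49 zc23) (kc xc4 yc49 zc26) (kc xc3 yc13 zc2) (kc xc4 yc49 zc30) (kc xc4 yc49 zc34) (kc xc1 yc8 zc23) (kc xc4 yc49 zc40) (kc xc4 yc49 zc42) (kc xc1 yc8 zc25) (kc xc1 yc37 zc40) (kc xc4 yc49 zc44) (kc xc4 yc49 zc53) (kc xc1 yc8 zc27) (kc xc4 yc49 zc57) (kc xc4 yc49 zc58) (kc xc1 yc8 zc28) (kc xc4 yc49 zc60) (kc xc2 yc45 zc19) (kc xc4 yc50 zc1) (kc xc1 yc8 zc30) (kc xc4 yc50 zc3) (kc xc4 yc50 zc5) (kc xc3 yc59 zc55) (kc xc4 yc50 zc7) (kc xc4 yc50 zc9) (kc xc4 yc50 zc11) (kc xc4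 yc50 zc14) (kc xc1 yc8 zc34) (kc xc1 yc8 zc35) (kc xc4 yc50 zc20) (kc xc4 yc50 zc22) (kc xc1 yc8 zc36) (kc xc4 yc50 zc24)) (@D3.rec (fun _ => Pt) (kc xc4 yc47 zc41) (kc xc1 yc15 zc37) (kc xc1 yc15 zc38) (kc xc1 yc14 zc19) (kc xc4 yc50 zc36) (kc xc1 yc11 zc37) (kc xc4 yc50 zc38) (kc xc2 yc23 zc7) (kc xc4 yc3 zc14) (kc xc1 yc8 zc41) (kc xc4 yc50 zc45) (kc xc1 yc55 zc50) (kc xc4 yc50 zc49) (kc xc2 yc1 zc37) (kc xc4 yc50 zc51) (kc xc2 yc8 zc11) (kc xc4 yc50 zc54) (kc xc4 yc50 zc56) (kc xc1 yc8 zc45) (kc xc4 yc50 zc60) (kc xc4 yc51 zc1) (kc xc4 yc13 zc50) (kc xc4 yc51 zc5) (kc xc1 yc8 zc50) (kc xc4 yc51 zc8) (kc xc1 yc8 zc49) (kc xc4 yc51 zc14) (kc xc4 yc51 zc18) (kc xc4 yc51 zc7) (kc xc1 yc55 zc51) (kc xc4 yc51 zc21) (kc xc1 yc55 zc60) (kc xc4 yc51 zc24) (kc xc1 yc8 zc54)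 (kc xc1 yc8 zc53) (kc xc4 yc51 zc28) (kc xc4 yc2 zc61) (kc xc4 yc15 zc31) (kc xc1 yc8 zc55) (kc xc4 yc51 zc35) (kc xc4 yc51 zc40) (kc xc1 yc8 zc56) (kc xc4 yc51 zc44) (kc xc3 yc56 zc52) (kc xc3 yc56 zc53) (kc xc1 yc9 zc1) (kc xc4 yc52 zc0) (kc xc1 yc8 zc58) (kc xc4 yc52 zc3) (kc xc4 yc52 zc6) (kc xc1 yc8 zc59) (kc xc4 yc52 zc11) (kc xc4 yc11 zc16) (kc xc4 yc11 zc17) (kc xc1 yc30 zc9) (kc xc4 yc52 zc19) (kc xc1 yc8 zc61) (kc xc4 yc52 zc23) (kc xc3 yc10 zc61) (kc xc3 yc10 zc57) (kc xc1 yc29 zc57) (kc xc4 yc52 zc32)) (@D3.rec (fun _ => Pt) (kc xc4 yc52 zc36) (kc xc4 yc51 zc57) (kc xc4 yc52 zc40) (kc xc4 yc51 zc59) (kc xc1 yc9 zc27) (kc xc1 yc9 zc4) (kc xc4 yc12 zc1) (kc xc1 yc9 zc5) (kc xc4 yc52 zc47) (kc xc1 yc57 zc26) (kc xc1 yc9 zc9) (kc xc1 yc9 zc10) (kc xc4 yc19 zc26)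 (kc xc4 yc17 zc29) (kc xc1 yc56 zc46) (kc xc4 yc52 zc53) (kc xc1 yc56 zc51) (kc xc4 yc8 zc22) (kc xc4 yc22 zc2) (kc xc4 yc52 zc60) (kc xc4 yc22 zc5) (kc xc1 yc55 zc17) (kc xc1 yc55 zc18) (kc xc1 yc9 zc26) (kc xc4 yc0 zc32) (kc xc1 yc9 zc21) (kc xc4 yc53 zc16) (kc xc4 yc21 zc13) (kc xc1 yc9 zc22) (kc xc4 yc53 zc21) (kc xc4 yc17 zc51) (kc xc4 yc17 zc52) (kc xc3 yc7 zc22) (kc xc4 yc53 zc29) (kc xc1 yc9 zc24) (kc xc3 yc9 zc26) (kc xc4 yc18 zc11) (kc xc3 yc10 zc37) (kc xc4 yc53 zc38) (kc xc4 yc53 zc42) (kc xc4 yc53 zc11) (kc xc4 yc12 zc2) (kc xc4 yc53 zc47) (kc xc2 yc6 zc57) (kc xc1 yc9 zc30) (kc xc1 yc9 zc31) (kc xc4 yc20 zc34) (kc xc4 yc20 zc4) (kc xc1 yc12 zc16) (kc xc1 yc13 zc30) (kc xc3 yc4 zc11) (kc xc1 yc59 zc40) (kc xc1 yc59 zc41) (kc xc4 yc53 zc60) (kc xc2 yc1 zc17)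 (kc xc1 yc15 zc3) (kc xc4 yc54 zc3) (kc xc1 yc9 zc44) (kc xc4 yc54 zc5) (kc xc4 yc54 zc7) (kc xc1 yc9 zc43) (kc xc4 yc54 zc13)) (@D3.rec (fun _ => Pt) (kc xc1 yc14 zc50) (kc xc4 yc54 zc18) (kc xc1 yc9 zc48) (kc xc4 yc54 zc20) (kc xc1 yc15 zc18) (kc xc4 yc54 zc22) (kc xc1 yc9 zc47) (kc xc4 yc54 zc28) (kc xc4 yc54 zc30) (kc xc3 yc58 zc13) (kc xc4 yc54 zc32) (kc xc4 yc54 zc34) (kc xc4 yc54 zc36) (kc xc1 yc9 zc51) (kc xc4 yc54 zc41) (kc xc4 yc54 zc44) (kc xc4 yc8 zc9) (kc xc1 yc15 zc50) (kc xc4 yc54 zc50) (kc xc1 yc9 zc56) (kc xc4 yc54 zc54) (kc xc1 yc9 zc55) (kc xc4 yc54 zc60) (kc xc4 yc55 zc2) (kc xc4 yc54 zc53) (kc xc1 yc9 zc57) (kc xc4 yc55 zc6) (kc xc4 yc55 zc4) (kc xc4 yc55 zc9) (kc xc1 yc9 zc60) (kc xc1 yc9 zc59) (kc xc4 yc55 zc13) (kc xc4 yc27 zc36) (kc xc1 yc9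 zc61) (kc xc4 yc55 zc20) (kc xc4 yc55 zc25) (kc xc1 yc10 zc0) (kc xc4 yc55 zc29) (kc xc2 yc38 zc32) (kc xc2 yc37 zc2) (kc xc1 yc10 zc7) (kc xc4 yc55 zc47) (kc xc1 yc10 zc2) (kc xc4 yc55 zc50) (kc xc4 yc4 zc8) (kc xc2 yc42 zc6) (kc xc2 yc42 zc7) (kc xc4 yc55 zc61) (kc xc4 yc30 zc11) (kc xc4 yc56 zc0) (kc xc1 yc10 zc5) (kc xc4 yc56 zc4) (kc xc2 yc42 zc33) (kc xc2 yc42 zc34) (kc xc2 yc54 zc56) (kc xc4 yc56 zc13) (kc xc4 yc56 zc18) (kc xc4 yc55 zc42) (kc xc4 yc31 zc10) (kc xc4 yc55 zc44) (kc xc3 yc59 zc16) (kc xc1 yc10 zc10)) (@D3.rec (fun _ => Pt) (kc xc4 yc30 zc42) (kc xc4 yc30 zc43) (kc xc1 yc10 zc11) (kc xc1 yc10 zc12) (kc xc1 yc10 zc18) (kc xc1 yc10 zc14) (kc xc4 yc56 zc38) (kc xc1 yc10 zc16) (kc xc4 yc56 zc39) (kc xc4 yc56 zc41) (kc xc4 yc56 zc35) (kc xc4 yc56 zc36)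 (kc xc2 yc59 zc20) (kc xc4 yc21 zc31) (kc xc1 yc10 zc21) (kc xc4 yc56 zc48) (kc xc1 yc10 zc23) (kc xc1 yc10 zc25) (kc xc4 yc56 zc55) (kc xc4 yc56 zc58) (kc xc4 yc56 zc53) (kc xc4 yc0 zc2) (kc xc4 yc0 zc0) (kc xc4 yc23 zc11) (kc xc4 yc56 zc59) (kc xc1 yc10 zc31) (kc xc4 yc57 zc0) (kc xc1 yc20 zc6) (kc xc3 yc58 zc58) (kc xc4 yc23 zc17) (kc xc1 yc10 zc33) (kc xc4 yc57 zc11) (kc xc4 yc57 zc9) (kc xc4 yc57 zc17) (kc xc1 yc10 zc34) (kc xc4 yc57 zc22) (kc xc4 yc57 zc21) (kc xc4 yc57 zc28) (kc xc4 yc57 zc31) (kc xc3 yc40 zc11) (kc xc1 yc10 zc36) (kc xc4 yc57 zc37) (kc xc4 yc57 zc38) (kc xc1 yc20 zc22) (kc xc4 yc57 zc35) (kc xc1 yc10 zc39) (kc xc4 yc33 zc40) (kc xc4 yc33 zc41) (kc xc4 yc57 zc51) (kc xc3 yc58 zc48) (kc xc4 yc57 zc61) (kc xc3 yc57 zc49) (kc xc1 yc57 zc6) (kc xc1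 yc22 zc11) (kc xc4 yc58 zc9) (kc xc1 yc10 zc45) (kc xc1 yc10 zc44) (kc xc4 yc58 zc12) (kc xc4 yc58 zc13) (kc xc1 yc23 zc27) (kc xc3 yc59 zc21) (kc xc4 yc58 zc18)) (@D3.rec (fun _ => Pt) (kc xc3 yc59 zc18) (kc xc2 yc15 zc40) (kc xc4 yc39 zc59) (kc xc4 yc25 zc42) (kc xc1 yc23 zc3) (kc xc4 yc25 zc40) (kc xc3 yc30 zc7) (kc xc1 yc10 zc51) (kc xc1 yc10 zc52) (kc xc4 yc58 zc35) (kc xc1 yc10 zc50) (kc xc4 yc58 zc41) (kc xc4 yc58 zc42) (kc xc1 yc23 zc44) (kc xc4 yc58 zc49) (kc xc4 yc58 zc34) (kc xc4 yc57 zc43) (kc xc2 yc15 zc14) (kc xc4 yc0 zc44) (kc xc1 yc10 zc53) (kc xc4 yc58 zc57) (kc xc4 yc58 zc55) (kc xc4 yc40 zc35) (kc xc1 yc10 zc56) (kc xc1 yc10 zc55) (kc xc4 yc59 zc2) (kc xc1 yc23 zc56) (kc xc4 yc59 zc8) (kc xc4 yc57 zc44) (kc xc4 yc59 zc11) (kc xc4 yc59 zc13) (kc xc1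 yc10 zc57) (kc xc4 yc59 zc17) (kc xc1 yc35 zc25) (kc xc1 yc10 zc58) (kc xc4 yc59 zc26) (kc xc4 yc59 zc31) (kc xc1 yc10 zc59) (kc xc4 yc59 zc35) (kc xc2 yc56 zc8) (kc xc2 yc22 zc15) (kc xc4 yc46 zc40) (kc xc1 yc10 zc61) (kc xc1 yc11 zc0) (kc xc4 yc59 zc55) (kc xc4 yc59 zc59) (kc xc4 yc59 zc52) (kc xc4 yc59 zc53) (kc xc4 yc35 zc4) (kc xc5 yc0 zc7) (kc xc5 yc0 zc10) (kc xc4 yc41 zc34) (kc xc1 yc37 zc18) (kc xc4 yc46 zc3) (kc xc5 yc0 zc20) (kc xc5 yc0 zc23) (kc xc4 yc39 zc26) (kc xc4 yc39 zc27) (kc xc1 yc11 zc6) (kc xc5 yc0 zc30) (kc xc1 yc11 zc8) (kc xc1 yc11 zc9)) (@D3.rec (fun _ => Pt) (kc xc5 yc0 zc33) (kc xc2 yc15 zc55) (kc xc1 yc11 zc10) (kc xc4 yc29 zc25) (kc xc1 yc11 zc13) (kc xc5 yc0 zc41) (kc xc1 yc11 zc15) (kc xc5 yc0 zc46) (kc xc5 yc0 zc47) (kc xc5 yc0 zc49)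 (kc xc1 yc11 zc18) (kc xc5 yc0 zc55) (kc xc1 yc11 zc20) (kc xc5 yc0 zc60) (kc xc2 yc41 zc8) (kc xc5 yc1 zc1) (kc xc1 yc11 zc23) (kc xc5 yc1 zc3) (kc xc5 yc1 zc5) (kc xc1 yc11 zc22) (kc xc5 yc1 zc11) (kc xc5 yc1 zc17) (kc xc1 yc59 zc50) (kc xc5 yc1 zc21) (kc xc1 yc11 zc27) (kc xc1 yc11 zc26) (kc xc5 yc1 zc26) (kc xc5 yc1 zc30) (kc xc5 yc1 zc31) (kc xc1 yc11 zc28) (kc xc5 yc1 zc36) (kc xc4 yc27 zc27) (kc xc1 yc11 zc29) (kc xc5 yc1 zc43) (kc xc2 yc36 zc30) (kc xc2 yc36 zc31) (kc xc1 yc11 zc52) (kc xc5 yc1 zc60) (kc xc1 yc11 zc31) (kc xc5 yc2 zc1) (kc xc5 yc2 zc4) (kc xc5 yc2 zc7) (kc xc1 yc11 zc32) (kc xc5 yc2 zc13) (kc xc5 yc2 zc17) (kc xc1 yc11 zc33) (kc xc5 yc2 zc21) (kc xc1 yc11 zc34) (kc xc5 yc2 zc27) (kc xc1 yc13 zc22) (kc xc1 yc13 zc23) (kc xc5 yc2 zc11) (kc xc1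 yc12 zc39) (kc xc1 yc11 zc36) (kc xc5 yc2 zc43) (kc xc5 yc2 zc44) (kc xc5 yc2 zc41) (kc xc5 yc2 zc46) (kc xc5 yc2 zc48) (kc xc2 yc2 zc22) (kc xc5 yc2 zc51) (kc xc5 yc2 zc53)) (@D3.rec (fun _ => Pt) (kc xc1 yc11 zc39) (kc xc5 yc2 zc59) (kc xc5 yc3 zc2) (kc xc4 yc50 zc48) (kc xc5 yc3 zc3) (kc xc5 yc2 zc57) (kc xc1 yc12 zc38) (kc xc1 yc11 zc42) (kc xc5 yc3 zc13) (kc xc5 yc3 zc16) (kc xc5 yc3 zc12) (kc xc1 yc11 zc43) (kc xc1 yc11 zc44) (kc xc5 yc3 zc20) (kc xc5 yc3 zc18) (kc xc1 yc12 zc31) (kc xc1 yc11 zc46) (kc xc5 yc3 zc37) (kc xc5 yc3 zc39) (kc xc5 yc3 zc35) (kc xc5 yc3 zc42) (kc xc1 yc11 zc47) (kc xc5 yc3 zc47) (kc xc5 yc3 zc45) (kc xc1 yc12 zc28) (kc xc1 yc11 zc49) (kc xc5 yc3 zc60) (kc xc5 yc4 zc1) (kc xc5 yc3 zc59) (kc xc5 yc4 zc4) (kc xc1 yc12 zc25) (kc xc1 yc14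 zc28) (kc xc5 yc4 zc15) (kc xc1 yc12 zc22) (kc xc1 yc14 zc30) (kc xc5 yc4 zc24) (kc xc5 yc4 zc29) (kc xc5 yc1 zc55) (kc xc5 yc4 zc35) (kc xc5 yc1 zc57) (kc xc1 yc12 zc17) (kc xc1 yc12 zc10) (kc xc2 yc34 zc15) (kc xc1 yc11 zc55) (kc xc5 yc4 zc47) (kc xc5 yc4 zc51) (kc xc5 yc4 zc53) (kc xc5 yc4 zc56) (kc xc1 yc11 zc57) (kc xc5 yc5 zc0) (kc xc1 yc11 zc58) (kc xc2 yc29 zc54) (kc xc1 yc11 zc59) (kc xc1 yc57 zc38) (kc xc2 yc29 zc51) (kc xc1 yc12 zc9) (kc xc5 yc5 zc15) (kc xc5 yc5 zc18) (kc xc5 yc5 zc20) (kc xc1 yc11 zc61) (kc xc5 yc5 zc26) (kc xc5 yc5 zc30)) (@D3.rec (fun _ => Pt) (kc xc1 yc12 zc0) (kc xc5 yc5 zc33) (kc xc5 yc5 zc38) (kc xc1 yc12 zc1) (kc xc5 yc5 zc24) (kc xc1 yc12 zc3) (kc xc5 yc5 zc47) (kc xc5 yc5 zc49) (kc xc5 yc5 zc45) (kc xc5 yc2 zc26) (kc xc2 yc30 zc10)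 (kc xc5 yc2 zc20) (kc xc5 yc3 zc29) (kc xc1 yc27 zc42) (kc xc4 yc4 zc52) (kc xc5 yc3 zc30) (kc xc5 yc5 zc57) (kc xc5 yc5 zc13) (kc xc5 yc5 zc60) (kc xc5 yc4 zc40) (kc xc5 yc6 zc4) (kc xc5 yc6 zc6) (kc xc1 yc12 zc11) (kc xc5 yc6 zc12) (kc xc5 yc6 zc16) (kc xc5 yc6 zc10) (kc xc1 yc12 zc14) (kc xc5 yc6 zc23) (kc xc5 yc6 zc26) (kc xc5 yc6 zc21) (kc xc1 yc12 zc15) (kc xc3 yc0 zc6) (kc xc3 yc0 zc9) (kc xc4 yc53 zc50) (kc xc5 yc6 zc34) (kc xc5 yc4 zc38) (kc xc2 yc59 zc43) (kc xc5 yc6 zc40) (kc xc1 yc12 zc21) (kc xc5 yc6 zc46) (kc xc1 yc12 zc20) (kc xc5 yc6 zc49) (kc xc5 yc6 zc43) (kc xc5 yc2 zc29) (kc xc5 yc2 zc32) (kc xc5 yc4 zc18) (kc xc2 yc55 zc13) (kc xc2 yc33 zc59) (kc xc3 yc23 zc50) (kc xc2 yc33 zc61) (kc xc5 yc4 zc9) (kc xc5 yc7 zc2) (kc xc5 yc7 zc5) (kc xc2 yc33 zc40)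 (kc xc5 yc4 zc8) (kc xc5 yc4 zc7) (kc xc5 yc3 zc56) (kc xc5 yc7 zc13) (kc xc5 yc7 zc15) (kc xc1 yc12 zc30) (kc xc5 yc7 zc22) (kc xc2 yc53 zc34)) (@D3.rec (fun _ => Pt) (kc xc5 yc3 zc31) (kc xc3 yc21 zc25) (kc xc2 yc53 zc45) (kc xc5 yc7 zc32) (kc xc1 yc12 zc33) (kc xc5 yc7 zc40) (kc xc5 yc7 zc38) (kc xc5 yc7 zc39) (kc xc5 yc7 zc44) (kc xc1 yc12 zc34) (kc xc5 yc7 zc47) (kc xc5 yc7 zc50) (kc xc5 yc7 zc53) (kc xc5 yc7 zc56) (kc xc1 yc12 zc36) (kc xc5 yc8 zc0) (kc xc5 yc8 zc1) (kc xc5 yc8 zc6) (kc xc5 yc3 zc9) (kc xc5 yc8 zc12) (kc xc5 yc2 zc38) (kc xc5 yc7 zc60) (kc xc1 yc12 zc41) (kc xc3 yc7 zc40) (kc xc3 yc7 zc43) (kc xc3 yc15 zc47) (kc xc2 yc32 zc48) (kc xc5 yc8 zc30) (kc xc1 yc16 zc27) (kc xc5 yc8 zc32) (kc xc5 yc8 zc34) (kc xc1 yc12 zc49) (kc xc5 yc8 zc39) (kc xc5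 yc8 zc45) (kc xc2 yc36 zc9) (kc xc1 yc12 zc52) (kc xc5 yc8 zc50) (kc xc5 yc8 zc55) (kc xc5 yc8 zc56) (kc xc1 yc12 zc54) (kc xc5 yc8 zc60) (kc xc2 yc36 zc42) (kc xc1 yc12 zc55) (kc xc5 yc9 zc5) (kc xc1 yc58 zc12) (kc xc1 yc58 zc13) (kc xc1 yc13 zc17) (kc xc4 yc2 zc25) (kc xc1 yc12 zc57) (kc xc5 yc9 zc23) (kc xc1 yc12 zc58) (kc xc5 yc9 zc27) (kc xc5 yc9 zc29) (kc xc5 yc9 zc32) (kc xc5 yc9 zc33) (kc xc5 yc9 zc36) (kc xc1 yc12 zc61) (kc xc5 yc9 zc42) (kc xc5 yc9 zc46) (kc xc1 yc13 zc0) (kc xc5 yc9 zc49) (kc xc1 yc13 zc1)) (@D3.rec (fun _ => Pt) (kc xc5 yc9 zc40) (kc xc1 yc14 zc2) (kc xc1 yc13 zc3) (kc xc5 yc10 zc0) (kc xc5 yc10 zc1) (kc xc5 yc9 zc60) (kc xc5 yc10 zc4) (kc xc5 yc10 zc5) (kc xc1 yc13 zc4) (kc xc5 yc10 zc11) (kc xc5 yc10 zc15) (kc xc5 yc10 zc9) (kc xc1 yc14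 zc1) (kc xc1 yc13 zc7) (kc xc5 yc10 zc23) (kc xc5 yc10 zc26) (kc xc5 yc10 zc22) (kc xc1 yc13 zc8) (kc xc5 yc10 zc28) (kc xc1 yc13 zc9) (kc xc5 yc10 zc33) (kc xc5 yc10 zc31) (kc xc1 yc13 zc59) (kc xc1 yc13 zc11) (kc xc5 yc10 zc48) (kc xc5 yc10 zc50) (kc xc5 yc10 zc46) (kc xc1 yc13 zc12) (kc xc5 yc10 zc55) (kc xc5 yc10 zc53) (kc xc1 yc13 zc56) (kc xc1 yc13 zc14) (kc xc5 yc11 zc6) (kc xc5 yc11 zc9) (kc xc5 yc11 zc5) (kc xc5 yc11 zc13) (kc xc1 yc13 zc53) (kc xc1 yc14 zc58) (kc xc5 yc11 zc22) (kc xc1 yc13 zc48) (kc xc1 yc14 zc60) (kc xc5 yc11 zc31) (kc xc5 yc11 zc36) (kc xc5 yc9 zc17) (kc xc5 yc11 zc42) (kc xc5 yc9 zc19) (kc xc1 yc13 zc45) (kc xc1 yc13 zc31) (kc xc2 yc31 zc26) (kc xc1 yc13 zc20) (kc xc5 yc11 zc55) (kc xc5 yc11 zc59) (kc xc5 yc11 zc61) (kc xc1 yc13 zc21)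 (kc xc5 yc12 zc5) (kc xc5 yc12 zc9) (kc xc5 yc2 zc30) (kc xc5 yc12 zc15) (kc xc5 yc12 zc3) (kc xc1 yc13 zc25) (kc xc5 yc2 zc39) (kc xc5 yc2 zc40)) (@D3.rec (fun _ => Pt) (kc xc5 yc12 zc21) (kc xc2 yc33 zc1) (kc xc5 yc5 zc7) (kc xc5 yc12 zc27) (kc xc1 yc25 zc51) (kc xc1 yc25 zc50) (kc xc4 yc53 zc52) (kc xc3 yc6 zc56) (kc xc5 yc11 zc48) (kc xc5 yc12 zc36) (kc xc1 yc13 zc40) (kc xc5 yc12 zc39) (kc xc5 yc12 zc41) (kc xc1 yc13 zc33) (kc xc5 yc12 zc46) (kc xc5 yc12 zc51) (kc xc1 yc13 zc35) (kc xc1 yc13 zc36) (kc xc5 yc12 zc55) (kc xc1 yc59 zc16) (kc xc1 yc58 zc2) (kc xc1 yc13 zc44) (kc xc5 yc13 zc0) (kc xc1 yc13 zc38) (kc xc5 yc13 zc4) (kc xc5 yc13 zc5) (kc xc1 yc13 zc39) (kc xc5 yc13 zc11) (kc xc5 yc13 zc15) (kc xc5 yc13 zc9) (kc xc1 yc13 zc42) (kc xc5 yc3 zc10) (kc xc5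 yc13 zc25) (kc xc5 yc13 zc21) (kc xc1 yc13 zc43) (kc xc5 yc13 zc27) (kc xc5 yc13 zc28) (kc xc5 yc11 zc46) (kc xc3 yc20 zc37) (kc xc3 yc23 zc49) (kc xc2 yc30 zc53) (kc xc5 yc11 zc25) (kc xc1 yc56 zc40) (kc xc1 yc13 zc52) (kc xc5 yc13 zc42) (kc xc1 yc13 zc51) (kc xc5 yc13 zc39) (kc xc5 yc13 zc46) (kc xc5 yc13 zc41) (kc xc5 yc11 zc16) (kc xc5 yc6 zc28) (kc xc5 yc13 zc53) (kc xc5 yc13 zc56) (kc xc5 yc13 zc58) (kc xc1 yc13 zc55) (kc xc5 yc14 zc3) (kc xc5 yc14 zc0) (kc xc5 yc11 zc2) (kc xc5 yc13 zc52) (kc xc2 yc30 zc47) (kc xc5 yc14 zc16) (kc xc2 yc30 zc49)) (@D3.rec (fun _ => Pt) (kc xc5 yc10 zc42) (kc xc1 yc36 zc58) (kc xc5 yc14 zc24) (kc xc4 yc49 zc61) (kc xc1 yc14 zc0) (kc xc5 yc14 zc28) (kc xc5 yc14 zc32) (kc xc5 yc10 zc21) (kc xc5 yc14 zc38) (kc xc5 yc9 zc59) (kc xc5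 yc14 zc27) (kc xc1 yc14 zc4) (kc xc4 yc37 zc10) (kc xc4 yc43 zc11) (kc xc5 yc14 zc47) (kc xc2 yc29 zc42) (kc xc5 yc14 zc54) (kc xc1 yc14 zc7) (kc xc5 yc14 zc57) (kc xc4 yc16 zc4) (kc xc1 yc14 zc10) (kc xc1 yc14 zc11) (kc xc5 yc15 zc1) (kc xc5 yc15 zc2) (kc xc5 yc15 zc4) (kc xc1 yc14 zc13) (kc xc5 yc15 zc9) (kc xc5 yc15 zc12) (kc xc2 yc12 zc43) (kc xc2 yc4 zc11) (kc xc5 yc15 zc18) (kc xc1 yc14 zc18) (kc xc5 yc15 zc21) (kc xc1 yc14 zc17) (kc xc5 yc15 zc27) (kc xc5 yc15 zc31) (kc xc4 yc18 zc55) (kc xc2 yc0 zc26) (kc xc5 yc15 zc34) (kc xc1 yc14 zc22) (kc xc1 yc14 zc21) (kc xc5 yc15 zc39) (kc xc5 yc15 zc43) (kc xc5 yc0 zc51) (kc xc1 yc14 zc23) (kc xc5 yc15 zc48) (kc xc5 yc15 zc52) (kc xc1 yc14 zc24) (kc xc5 yc15 zc56) (kc xc4 yc13 zc39) (kc xc4 yc1 zc49) (kc xc1 yc14 zc31)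 (kc xc5 yc16 zc11) (kc xc1 yc14 zc26) (kc xc5 yc16 zc14) (kc xc1 yc14 zc27) (kc xc5 yc16 zc19) (kc xc5 yc10 zc43) (kc xc5 yc10 zc44) (kc xc5 yc4 zc11) (kc xc1 yc14 zc29) (kc xc5 yc16 zc28)) (@D3.rec (fun _ => Pt) (kc xc5 yc11 zc3) (kc xc5 yc11 zc4) (kc xc5 yc4 zc20) (kc xc5 yc16 zc37) (kc xc5 yc16 zc42) (kc xc5 yc16 zc6) (kc xc5 yc16 zc48) (kc xc5 yc16 zc8) (kc xc4 yc35 zc47) (kc xc1 yc14 zc34) (kc xc5 yc4 zc44) (kc xc5 yc16 zc55) (kc xc1 yc14 zc36) (kc xc5 yc16 zc61) (kc xc1 yc14 zc41) (kc xc5 yc17 zc1) (kc xc5 yc17 zc2) (kc xc5 yc17 zc4) (kc xc1 yc14 zc40) (kc xc5 yc17 zc9) (kc xc5 yc17 zc11) (kc xc4 yc9 zc19) (kc xc5 yc17 zc15) (kc xc4 yc7 zc31) (kc xc2 yc10 zc45) (kc xc5 yc17 zc19) (kc xc2 yc43 zc54) (kc xc4 yc7 zc41) (kc xc4 yc7 zc42) (kc xc1 yc14 zc46) (kc xc5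 yc17 zc27) (kc xc5 yc17 zc29) (kc xc1 yc14 zc48) (kc xc5 yc17 zc35) (kc xc5 yc17 zc39) (kc xc4 yc54 zc16) (kc xc1 yc14 zc51) (kc xc5 yc17 zc44) (kc xc5 yc17 zc48) (kc xc1 yc14 zc53) (kc xc5 yc17 zc52) (kc xc4 yc54 zc25) (kc xc1 yc14 zc54) (kc xc5 yc17 zc59) (kc xc4 yc7 zc33) (kc xc4 yc7 zc34) (kc xc1 yc14 zc61) (kc xc5 yc18 zc14) (kc xc1 yc14 zc56) (kc xc5 yc18 zc17) (kc xc1 yc14 zc57) (kc xc5 yc18 zc22) (kc xc5 yc3 zc32) (kc xc5 yc3 zc33) (kc xc5 yc11 zc18) (kc xc1 yc14 zc59) (kc xc5 yc18 zc32) (kc xc5 yc3 zc57) (kc xc5 yc3 zc58) (kc xc5 yc11 zc27) (kc xc5 yc18 zc41) (kc xc5 yc18 zc46)) (@D3.rec (fun _ => Pt) (kc xc5 yc18 zc9) (kc xc5 yc18 zc52) (kc xc5 yc18 zc11) (kc xc2 yc54 zc4) (kc xc1 yc15 zc2) (kc xc5 yc11 zc52) (kc xc5 yc18 zc61) (kc xc4 yc54 zc1) (kc xc5 yc19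 zc1) (kc xc2 yc31 zc34) (kc xc4 yc54 zc9) (kc xc4 yc54 zc10) (kc xc1 yc15 zc5) (kc xc5 yc10 zc52) (kc xc5 yc19 zc8) (kc xc2 yc45 zc38) (kc xc4 yc54 zc24) (kc xc1 yc15 zc8) (kc xc5 yc3 zc17) (kc xc1 yc15 zc10) (kc xc5 yc19 zc17) (kc xc1 yc15 zc12) (kc xc4 yc18 zc41) (kc xc5 yc19 zc23) (kc xc4 yc1 zc46) (kc xc4 yc54 zc17) (kc xc5 yc19 zc6) (kc xc5 yc19 zc39) (kc xc1 yc15 zc14) (kc xc5 yc19 zc41) (kc xc2 yc28 zc34) (kc xc2 yc28 zc35) (kc xc1 yc15 zc15) (kc xc5 yc1 zc33) (kc xc1 yc15 zc17) (kc xc5 yc19 zc50) (kc xc2 yc37 zc45) (kc xc5 yc19 zc54) (kc xc4 yc19 zc8) (kc xc1 yc15 zc19) (kc xc5 yc19 zc58) (kc xc4 yc54 zc2) (kc xc2 yc31 zc41) (kc xc5 yc19 zc45) (kc xc5 yc20 zc11) (kc xc1 yc15 zc21) (kc xc5 yc20 zc13) (kc xc5 yc20 zc15) (kc xc5 yc20 zc17) (kc xc1 yc15 zc23) (kc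 xc5 yc20 zc23) (kc xc5 yc20 zc25) (kc xc2 yc37 zc48) (kc xc5 yc20 zc27) (kc xc1 yc15 zc26) (kc xc5 yc20 zc32) (kc xc5 yc20 zc35) (kc xc1 yc15 zc30) (kc xc1 yc15 zc29) (kc xc5 yc20 zc39) (kc xc5 yc0 zc37) (kc xc1 yc15 zc31)) (@D3.rec (fun _ => Pt) (kc xc2 yc38 zc34) (kc xc5 yc20 zc46) (kc xc2 yc25 zc39) (kc xc1 yc15 zc32) (kc xc5 yc20 zc52) (kc xc3 yc58 zc24) (kc xc5 yc20 zc59) (kc xc4 yc27 zc38) (kc xc4 yc55 zc49) (kc xc1 yc15 zc34) (kc xc5 yc21 zc8) (kc xc1 yc15 zc35) (kc xc1 yc15 zc36) (kc xc5 yc21 zc18) (kc xc5 yc21 zc19) (kc xc4 yc50 zc32) (kc xc5 yc21 zc21) (kc xc1 yc15 zc39) (kc xc5 yc10 zc30) (kc xc5 yc21 zc26) (kc xc2 yc10 zc49) (kc xc5 yc21 zc28) (kc xc5 yc21 zc30) (kc xc1 yc15 zc42) (kc xc5 yc21 zc35) (kc xc1 yc15 zc44) (kc xc5 yc21 zc41) (kc xc5 yc21 zc44)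 (kc xc1 yc15 zc46) (kc xc5 yc21 zc50) (kc xc1 yc15 zc47) (kc xc5 yc21 zc56) (kc xc4 yc50 zc34) (kc xc4 yc50 zc35) (kc xc1 yc16 zc43) (kc xc5 yc22 zc11) (kc xc1 yc15 zc49) (kc xc5 yc22 zc14) (kc xc4 yc55 zc17) (kc xc4 yc54 zc56) (kc xc4 yc54 zc57) (kc xc1 yc15 zc51) (kc xc5 yc22 zc21) (kc xc4 yc4 zc31) (kc xc4 yc6 zc39) (kc xc2 yc36 zc36) (kc xc5 yc22 zc26) (kc xc5 yc22 zc28) (kc xc2 yc36 zc52) (kc xc5 yc22 zc32) (kc xc5 yc22 zc34) (kc xc1 yc15 zc55) (kc xc5 yc22 zc37) (kc xc5 yc22 zc42) (kc xc5 yc22 zc44) (kc xc1 yc16 zc1) (kc xc1 yc15 zc57) (kc xc5 yc22 zc47) (kc xc1 yc15 zc58) (kc xc5 yc22 zc53) (kc xc2 yc45 zc26) (kc xc5 yc22 zc58)) (@D3.rec (fun _ => Pt) (kc xc5 yc22 zc19) (kc xc4 yc55 zc46) (kc xc1 yc15 zc60) (kc xc5 yc23 zc11) (kc xc5 yc23 zc13) (kc xc5 yc23 zc17)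 (kc xc5 yc23 zc10) (kc xc5 yc23 zc19) (kc xc1 yc16 zc0) (kc xc4 yc56 zc2) (kc xc5 yc23 zc24) (kc xc1 yc16 zc5) (kc xc4 yc31 zc23) (kc xc4 yc31 zc24) (kc xc1 yc16 zc4) (kc xc5 yc23 zc29) (kc xc2 yc12 zc42) (kc xc4 yc51 zc10) (kc xc5 yc15 zc14) (kc xc1 yc16 zc6) (kc xc5 yc23 zc34) (kc xc5 yc23 zc39) (kc xc4 yc13 zc7) (kc xc1 yc16 zc11) (kc xc5 yc23 zc27) (kc xc4 yc55 zc45) (kc xc1 yc16 zc9) (kc xc5 yc23 zc50) (kc xc5 yc23 zc52) (kc xc5 yc23 zc55) (kc xc5 yc23 zc49) (kc xc1 yc16 zc10) (kc xc2 yc25 zc38) (kc xc1 yc16 zc12) (kc xc2 yc37 zc0) (kc xc5 yc24 zc2) (kc xc2 yc45 zc21) (kc xc4 yc13 zc24) (kc xc5 yc24 zc0) (kc xc4 yc55 zc38) (kc xc1 yc16 zc15) (kc xc4 yc12 zc61) (kc xc1 yc16 zc14) (kc xc5 yc24 zc22) (kc xc5 yc24 zc23) (kc xc5 yc24 zc25) (kc xc5 yc24 zc28) (kc xc5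 yc24 zc21) (kc xc5 yc0 zc38) (kc xc1 yc16 zc16) (kc xc5 yc24 zc32) (kc xc5 yc24 zc30) (kc xc4 yc55 zc35) (kc xc1 yc16 zc19) (kc xc1 yc16 zc18) (kc xc5 yc24 zc44) (kc xc5 yc24 zc46) (kc xc5 yc24 zc49) (kc xc5 yc24 zc43) (kc xc5 yc24 zc54) (kc xc1 yc16 zc20) (kc xc4 yc55 zc28)) (@D3.rec (fun _ => Pt) (kc xc5 yc24 zc58) (kc xc5 yc25 zc4) (kc xc1 yc16 zc21) (kc xc4 yc55 zc19) (kc xc5 yc25 zc7) (kc xc5 yc25 zc14) (kc xc5 yc25 zc19) (kc xc1 yc18 zc0) (kc xc5 yc25 zc25) (kc xc1 yc18 zc2) (kc xc4 yc55 zc12) (kc xc4 yc54 zc59) (kc xc1 yc16 zc23) (kc xc5 yc25 zc34) (kc xc4 yc54 zc40) (kc xc1 yc16 zc25) (kc xc5 yc25 zc43) (kc xc5 yc25 zc47) (kc xc5 yc25 zc50) (kc xc5 yc25 zc52) (kc xc1 yc16 zc26) (kc xc5 yc25 zc57) (kc xc1 yc16 zc28) (kc xc1 yc18 zc35) (kc xc5 yc25 zc55) (kc xc2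 yc0 zc7) (kc xc1 yc16 zc30) (kc xc1 yc23 zc23) (kc xc4 yc36 zc34) (kc xc2 yc52 zc41) (kc xc5 yc26 zc6) (kc xc1 yc16 zc31) (kc xc5 yc26 zc11) (kc xc5 yc26 zc9) (kc xc2 yc0 zc4) (kc xc1 yc16 zc34) (kc xc5 yc26 zc22) (kc xc5 yc26 zc21) (kc xc1 yc16 zc35) (kc xc5 yc26 zc26) (kc xc5 yc26 zc24) (kc xc2 yc0 zc11) (kc xc1 yc16 zc37) (kc xc5 yc26 zc39) (kc xc5 yc26 zc41) (kc xc4 yc35 zc8) (kc xc1 yc16 zc38) (kc xc5 yc26 zc45) (kc xc5 yc26 zc43) (kc xc2 yc0 zc9) (kc xc2 yc52 zc57) (kc xc2 yc52 zc58) (kc xc1 yc22 zc28) (kc xc5 yc26 zc56) (kc xc1 yc18 zc60) (kc xc2 yc0 zc50) (kc xc5 yc27 zc1) (kc xc1 yc19 zc24) (kc xc5 yc27 zc6) (kc xc5 yc27 zc11) (kc xc5 yc22 zc6) (kc xc5 yc27 zc17)) (@D3.rec (fun _ => Pt) (kc xc5 yc22 zc8) (kc xc2 yc1 zc1) (kc xc3 yc0 zc28) (kc xc1 yc16 zc46)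 (kc xc4 yc16 zc3) (kc xc1 yc16 zc48) (kc xc5 yc27 zc28) (kc xc1 yc16 zc49) (kc xc5 yc27 zc32) (kc xc4 yc12 zc33) (kc xc4 yc15 zc9) (kc xc1 yc16 zc51) (kc xc5 yc27 zc39) (kc xc5 yc27 zc43) (kc xc1 yc16 zc52) (kc xc5 yc27 zc47) (kc xc4 yc13 zc60) (kc xc2 yc45 zc23) (kc xc1 yc17 zc3) (kc xc4 yc15 zc60) (kc xc1 yc16 zc54) (kc xc5 yc28 zc5) (kc xc5 yc28 zc8) (kc xc5 yc28 zc3) (kc xc1 yc16 zc55) (kc xc5 yc28 zc12) (kc xc5 yc28 zc14) (kc xc1 yc16 zc56) (kc xc5 yc28 zc18) (kc xc5 yc28 zc17) (kc xc1 yc16 zc58) (kc xc5 yc28 zc22) (kc xc5 yc28 zc20) (kc xc1 yc18 zc40) (kc xc1 yc16 zc60) (kc xc5 yc28 zc37) (kc xc5 yc28 zc38) (kc xc5 yc28 zc35) (kc xc5 yc22 zc51) (kc xc1 yc18 zc38) (kc xc1 yc17 zc0) (kc xc5 yc28 zc50) (kc xc1 yc19 zc29) (kc xc2 yc7 zc20) (kc xc5 yc28 zc59) (kc xc1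 yc19 zc30) (kc xc2 yc12 zc22) (kc xc5 yc29 zc3) (kc xc5 yc29 zc7) (kc xc5 yc27 zc58) (kc xc5 yc29 zc14) (kc xc5 yc27 zc60) (kc xc5 yc29 zc17) (kc xc4 yc36 zc36) (kc xc1 yc17 zc9) (kc xc1 yc17 zc10) (kc xc5 yc29 zc19) (kc xc5 yc29 zc21) (kc xc1 yc17 zc13) (kc xc1 yc17 zc12) (kc xc5 yc29 zc27) (kc xc2 yc41 zc47)) (@D3.rec (fun _ => Pt) (kc xc5 yc29 zc24) (kc xc2 yc2 zc15) (kc xc5 yc29 zc31) (kc xc5 yc29 zc33) (kc xc5 yc29 zc36) (kc xc1 yc17 zc15) (kc xc5 yc29 zc39) (kc xc5 yc29 zc44) (kc xc2 yc28 zc14) (kc xc4 yc29 zc8) (kc xc1 yc17 zc24) (kc xc1 yc17 zc17) (kc xc2 yc6 zc55) (kc xc5 yc29 zc47) (kc xc1 yc17 zc18) (kc xc5 yc29 zc50) (kc xc5 yc29 zc54) (kc xc2 yc43 zc39) (kc xc1 yc17 zc25) (kc xc4 yc9 zc52) (kc xc1 yc17 zc20) (kc xc5 yc30 zc10) (kc xc5 yc30 zc13) (kc xc5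 yc30 zc16) (kc xc5 yc30 zc9) (kc xc2 yc1 zc45) (kc xc1 yc17 zc23) (kc xc5 yc30 zc22) (kc xc5 yc30 zc26) (kc xc5 yc30 zc0) (kc xc5 yc30 zc33) (kc xc5 yc30 zc2) (kc xc1 yc20 zc24) (kc xc2 yc12 zc46) (kc xc2 yc12 zc47) (kc xc5 yc30 zc45) (kc xc1 yc17 zc31) (kc xc1 yc17 zc28) (kc xc5 yc30 zc49) (kc xc5 yc30 zc50) (kc xc1 yc17 zc29) (kc xc5 yc30 zc53) (kc xc5 yc30 zc55) (kc xc1 yc17 zc30) (kc xc3 yc7 zc54) (kc xc5 yc30 zc19) (kc xc1 yc17 zc33) (kc xc2 yc40 zc61) (kc xc5 yc31 zc0) (kc xc4 yc13 zc53) (kc xc1 yc17 zc38) (kc xc4 yc16 zc15) (kc xc1 yc17 zc36) (kc xc4 yc19 zc50) (kc xc5 yc31 zc19) (kc xc5 yc31 zc23) (kc xc5 yc31 zc26) (kc xc5 yc31 zc17) (kc xc5 yc31 zc30) (kc xc1 yc56 zc8) (kc xc5 yc31 zc34) (kc xc5 yc31 zc37)) (@D3.rec (fun _ => Pt) (kc xc5 yc31 zc8) (kc xc5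 yc31 zc42) (kc xc5 yc31 zc10) (kc xc1 yc18 zc42) (kc xc1 yc18 zc44) (kc xc1 yc20 zc3) (kc xc2 yc25 zc45) (kc xc2 yc25 zc46) (kc xc5 yc31 zc50) (kc xc1 yc17 zc44) (kc xc5 yc31 zc61) (kc xc1 yc17 zc41) (kc xc5 yc32 zc2) (kc xc1 yc17 zc42) (kc xc5 yc32 zc5) (kc xc5 yc32 zc4) (kc xc1 yc17 zc43) (kc xc1 yc17 zc45) (kc xc5 yc32 zc10) (kc xc4 yc7 zc29) (kc xc2 yc43 zc31) (kc xc1 yc17 zc48) (kc xc4 yc9 zc42) (kc xc1 yc17 zc47) (kc xc5 yc32 zc29) (kc xc5 yc32 zc32) (kc xc5 yc32 zc28) (kc xc5 yc32 zc35) (kc xc5 yc32 zc37) (kc xc5 yc32 zc19) (kc xc5 yc32 zc43) (kc xc5 yc32 zc21) (kc xc1 yc19 zc56) (kc xc2 yc25 zc52) (kc xc2 yc25 zc53) (kc xc1 yc17 zc53) (kc xc1 yc17 zc51) (kc xc5 yc32 zc52) (kc xc5 yc32 zc53) (kc xc1 yc17 zc52) (kc xc5 yc32 zc56) (kc xc5 yc32 zc59) (kc xc5 yc32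 zc61) (kc xc1 yc17 zc54) (kc xc5 yc33 zc8) (kc xc5 yc33 zc5) (kc xc1 yc19 zc55) (kc xc1 yc19 zc54) (kc xc1 yc19 zc43) (kc xc5 yc33 zc23) (kc xc3 yc58 zc40) (kc xc5 yc33 zc26) (kc xc5 yc33 zc29) (kc xc5 yc33 zc32) (kc xc1 yc17 zc57) (kc xc5 yc33 zc40) (kc xc5 yc33 zc37) (kc xc1 yc19 zc31) (kc xc3 yc58 zc43) (kc xc5 yc25 zc11) (kc xc5 yc33 zc47) (kc xc5 yc33 zc52)) (@D3.rec (fun _ => Pt) (kc xc1 yc17 zc60) (kc xc5 yc34 zc1) (kc xc5 yc33 zc60) (kc xc5 yc33 zc61) (kc xc5 yc34 zc10) (kc xc1 yc17 zc61) (kc xc5 yc34 zc16) (kc xc5 yc34 zc15) (kc xc5 yc34 zc21) (kc xc5 yc34 zc24) (kc xc5 yc34 zc26) (kc xc1 yc18 zc1) (kc xc5 yc34 zc30) (kc xc5 yc25 zc28) (kc xc5 yc34 zc38) (kc xc5 yc34 zc40) (kc xc1 yc18 zc50) (kc xc4 yc57 zc58) (kc xc4 yc57 zc59) (kc xc4 yc33 zc52) (kc xc3 yc58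 zc49) (kc xc3 yc58 zc50) (kc xc5 yc34 zc59) (kc xc5 yc34 zc60) (kc xc1 yc18 zc7) (kc xc5 yc35 zc4) (kc xc5 yc35 zc2) (kc xc5 yc35 zc5) (kc xc1 yc18 zc8) (kc xc5 yc35 zc10) (kc xc5 yc35 zc9) (kc xc2 yc42 zc20) (kc xc5 yc35 zc12) (kc xc1 yc18 zc11) (kc xc5 yc35 zc16) (kc xc1 yc18 zc12) (kc xc5 yc35 zc20) (kc xc5 yc22 zc30) (kc xc2 yc43 zc38) (kc xc2 yc41 zc17) (kc xc1 yc18 zc14) (kc xc5 yc35 zc27) (kc xc5 yc35 zc31) (kc xc1 yc18 zc15) (kc xc5 yc35 zc35) (kc xc4 yc21 zc21) (kc xc4 yc29 zc4) (kc xc1 yc18 zc28) (kc xc5 yc35 zc51) (kc xc1 yc18 zc17) (kc xc5 yc35 zc58) (kc xc5 yc35 zc61) (kc xc5 yc36 zc3) (kc xc5 yc35 zc56) (kc xc2 yc35 zc26) (kc xc1 yc18 zc18) (kc xc5 yc36 zc6) (kc xc2 yc3 zc28) (kc xc1 yc18 zc19) (kc xc5 yc36 zc10) (kc xc4 yc9 zc16) (kc xc1 yc18 zc20)) (@D3.rec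 (fun _ => Pt) (kc xc1 yc18 zc22) (kc xc5 yc36 zc14) (kc xc5 yc36 zc12) (kc xc1 yc18 zc24) (kc xc5 yc28 zc32) (kc xc5 yc28 zc33) (kc xc5 yc36 zc25) (kc xc5 yc36 zc28) (kc xc1 yc18 zc25) (kc xc5 yc36 zc33) (kc xc5 yc36 zc31) (kc xc1 yc18 zc27) (kc xc5 yc28 zc45) (kc xc5 yc36 zc43) (kc xc5 yc36 zc46) (kc xc5 yc36 zc50) (kc xc5 yc35 zc46) (kc xc5 yc35 zc48) (kc xc5 yc36 zc53) (kc xc1 yc22 zc23) (kc xc5 yc36 zc57) (kc xc4 yc35 zc10) (kc xc2 yc45 zc13) (kc xc2 yc12 zc34) (kc xc2 yc14 zc48) (kc xc5 yc37 zc2) (kc xc4 yc10 zc2) (kc xc5 yc37 zc4) (kc xc1 yc18 zc37) (kc xc5 yc37 zc9) (kc xc5 yc37 zc11) (kc xc5 yc37 zc12) (kc xc5 yc37 zc7) (kc xc5 yc37 zc14) (kc xc5 yc28 zc44) (kc xc5 yc37 zc18) (kc xc5 yc6 zc29) (kc xc4 yc31 zc5) (kc xc5 yc37 zc21) (kc xc5 yc28 zc31) (kc xc5 yc37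 zc27) (kc xc5 yc37 zc28) (kc xc4 yc31 zc1) (kc xc5 yc37 zc31) (kc xc5 yc31 zc49) (kc xc5 yc37 zc36) (kc xc5 yc37 zc39) (kc xc3 yc4 zc9) (kc xc1 yc18 zc43) (kc xc5 yc31 zc46) (kc xc5 yc31 zc51) (kc xc4 yc56 zc52) (kc xc1 yc18 zc45) (kc xc5 yc37 zc58) (kc xc5 yc37 zc57) (kc xc3 yc9 zc56) (kc xc1 yc18 zc46) (kc xc5 yc38 zc2) (kc xc5 yc38 zc4) (kc xc2 yc44 zc59) (kc xc5 yc38 zc9) (kc xc5 yc38 zc12)) (@D3.rec (fun _ => Pt) (kc xc1 yc18 zc48) (kc xc5 yc38 zc17) (kc xc5 yc38 zc22) (kc xc5 yc38 zc25) (kc xc5 yc38 zc27) (kc xc2 yc45 zc5) (kc xc4 yc56 zc21) (kc xc3 yc59 zc11) (kc xc2 yc51 zc4) (kc xc4 yc31 zc14) (kc xc5 yc38 zc37) (kc xc2 yc17 zc58) (kc xc1 yc18 zc53) (kc xc2 yc44 zc22) (kc xc1 yc18 zc55) (kc xc5 yc38 zc41) (kc xc4 yc31 zc13) (kc xc1 yc18 zc58) (kc xc5 yc38 zc46)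 (kc xc2 yc22 zc46) (kc xc5 yc26 zc58) (kc xc2 yc38 zc36) (kc xc4 yc14 zc51) (kc xc2 yc40 zc17) (kc xc1 yc19 zc5) (kc xc5 yc38 zc55) (kc xc2 yc37 zc60) (kc xc1 yc19 zc6) (kc xc5 yc38 zc59) (kc xc2 yc6 zc59) (kc xc2 yc6 zc60) (kc xc1 yc19 zc13) (kc xc1 yc19 zc8) (kc xc5 yc39 zc13) (kc xc5 yc39 zc16) (kc xc5 yc39 zc19) (kc xc5 yc39 zc11) (kc xc2 yc5 zc24) (kc xc2 yc36 zc15) (kc xc1 yc19 zc11) (kc xc5 yc39 zc24) (kc xc5 yc39 zc28) (kc xc5 yc39 zc6) (kc xc5 yc39 zc7) (kc xc5 yc39 zc37) (kc xc1 yc19 zc18) (kc xc5 yc39 zc41) (kc xc1 yc19 zc15) (kc xc5 yc39 zc45) (kc xc5 yc39 zc46) (kc xc1 yc19 zc16) (kc xc5 yc39 zc49) (kc xc5 yc39 zc52) (kc xc1 yc19 zc17) (kc xc5 yc39 zc55) (kc xc5 yc39 zc21) (kc xc3 yc0 zc18) (kc xc5 yc39 zc59) (kc xc5 yc39 zc61) (kc xc5 yc40 zc2) (kc xc5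 yc40 zc5) (kc xc1 yc19 zc22)) (@D3.rec (fun _ => Pt) (kc xc5 yc40 zc10) (kc xc1 yc19 zc45) (kc xc2 yc50 zc38) (kc xc2 yc19 zc1) (kc xc2 yc14 zc4) (kc xc2 yc47 zc20) (kc xc1 yc19 zc25) (kc xc5 yc40 zc19) (kc xc1 yc19 zc26) (kc xc5 yc40 zc21) (kc xc5 yc40 zc24) (kc xc5 yc40 zc27) (kc xc1 yc19 zc28) (kc xc5 yc40 zc32) (kc xc5 yc40 zc36) (kc xc5 yc28 zc53) (kc xc5 yc40 zc42) (kc xc5 yc29 zc0) (kc xc1 yc21 zc16) (kc xc4 yc34 zc7) (kc xc5 yc40 zc52) (kc xc4 yc38 zc41) (kc xc2 yc47 zc40) (kc xc2 yc46 zc52) (kc xc5 yc40 zc55) (kc xc1 yc19 zc34) (kc xc5 yc40 zc9) (kc xc4 yc21 zc22) (kc xc2 yc46 zc28) (kc xc1 yc19 zc37) (kc xc5 yc40 zc8) (kc xc4 yc31 zc48) (kc xc5 yc40 zc7) (kc xc1 yc19 zc41) (kc xc5 yc41 zc2) (kc xc4 yc31 zc46) (kc xc5 yc41 zc8) (kc xc5 yc41 zc10) (kc xc5 yc40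 zc15) (kc xc5 yc33 zc20) (kc xc5 yc41 zc16) (kc xc3 yc10 zc26) (kc xc2 yc12 zc61) (kc xc1 yc19 zc48) (kc xc5 yc41 zc23) (kc xc5 yc41 zc22) (kc xc5 yc41 zc26) (kc xc1 yc19 zc49) (kc xc5 yc41 zc29) (kc xc1 yc19 zc50) (kc xc5 yc41 zc33) (kc xc5 yc41 zc35) (kc xc2 yc46 zc23) (kc xc5 yc41 zc42) (kc xc1 yc19 zc53) (kc xc5 yc41 zc47) (kc xc5 yc41 zc50) (kc xc1 yc19 zc52) (kc xc5 yc41 zc55) (kc xc5 yc41 zc60) (kc xc5 yc42 zc0) (kc xc5 yc41 zc46)) (@D3.rec (fun _ => Pt) (kc xc5 yc42 zc2) (kc xc5 yc33 zc17) (kc xc5 yc42 zc8) (kc xc5 yc33 zc15) (kc xc1 yc24 zc20) (kc xc4 yc38 zc42) (kc xc5 yc42 zc19) (kc xc2 yc50 zc32) (kc xc5 yc40 zc57) (kc xc1 yc19 zc57) (kc xc5 yc42 zc25) (kc xc1 yc19 zc59) (kc xc5 yc42 zc28) (kc xc4 yc57 zc7) (kc xc1 yc19 zc60) (kc xc5 yc42 zc32) (kc xc1 yc19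 zc61) (kc xc5 yc42 zc35) (kc xc3 yc33 zc21) (kc xc5 yc42 zc39) (kc xc2 yc46 zc5) (kc xc5 yc42 zc44) (kc xc1 yc20 zc2) (kc xc5 yc42 zc48) (kc xc5 yc42 zc51) (kc xc1 yc20 zc1) (kc xc5 yc42 zc56) (kc xc5 yc42 zc61) (kc xc5 yc43 zc1) (kc xc5 yc33 zc18) (kc xc5 yc33 zc19) (kc xc5 yc43 zc5) (kc xc5 yc31 zc54) (kc xc1 yc20 zc4) (kc xc4 yc33 zc35) (kc xc5 yc43 zc10) (kc xc4 yc57 zc2) (kc xc2 yc47 zc42) (kc xc5 yc43 zc14) (kc xc5 yc43 zc16) (kc xc2 yc46 zc22) (kc xc5 yc43 zc19) (kc xc2 yc47 zc37) (kc xc5 yc43 zc23) (kc xc1 yc20 zc11) (kc xc5 yc43 zc26) (kc xc1 yc20 zc10) (kc xc5 yc43 zc32) (kc xc5 yc43 zc33) (kc xc2 yc47 zc60) (kc xc2 yc12 zc60) (kc xc1 yc20 zc12) (kc xc5 yc43 zc41) (kc xc5 yc43 zc40) (kc xc5 yc43 zc45) (kc xc1 yc20 zc15) (kc xc1 yc20 zc14) (kc xc5 yc43 zc50)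 (kc xc4 yc57 zc24) (kc xc5 yc43 zc56) (kc xc2 yc47 zc49) (kc xc5 yc43 zc59)) (@D3.rec (fun _ => Pt) (kc xc5 yc44 zc0) (kc xc1 yc20 zc16) (kc xc5 yc44 zc6) (kc xc5 yc44 zc11) (kc xc1 yc20 zc17) (kc xc5 yc44 zc17) (kc xc4 yc36 zc61) (kc xc1 yc20 zc18) (kc xc5 yc44 zc25) (kc xc5 yc44 zc30) (kc xc5 yc44 zc34) (kc xc1 yc20 zc27) (kc xc5 yc44 zc44) (kc xc1 yc20 zc20) (kc xc1 yc20 zc21) (kc xc5 yc44 zc53) (kc xc5 yc44 zc57) (kc xc5 yc44 zc50) (kc xc5 yc44 zc51) (kc xc2 yc52 zc54) (kc xc5 yc45 zc6) (kc xc5 yc45 zc7) (kc xc1 yc20 zc23) (kc xc5 yc45 zc12) (kc xc5 yc34 zc42) (kc xc5 yc34 zc43) (kc xc2 yc11 zc53) (kc xc3 yc5 zc47) (kc xc5 yc45 zc22) (kc xc1 yc20 zc25) (kc xc5 yc45 zc27) (kc xc2 yc50 zc60) (kc xc1 yc21 zc43) (kc xc1 yc21 zc21) (kc xc5 yc45 zc35) (kc xc5 yc45 zc37)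 (kc xc5 yc44 zc39) (kc xc5 yc44 zc41) (kc xc3 yc59 zc13) (kc xc3 yc59 zc14) (kc xc5 yc45 zc48) (kc xc1 yc20 zc31) (kc xc5 yc45 zc51) (kc xc1 yc20 zc29) (kc xc4 yc43 zc52) (kc xc5 yc45 zc57) (kc xc5 yc46 zc3) (kc xc1 yc20 zc30) (kc xc3 yc6 zc61) (kc xc3 yc11 zc11) (kc xc4 yc30 zc41) (kc xc5 yc46 zc11) (kc xc5 yc46 zc15) (kc xc5 yc46 zc20) (kc xc1 yc20 zc33) (kc xc4 yc34 zc23) (kc xc2 yc58 zc15) (kc xc1 yc20 zc42) (kc xc5 yc46 zc26) (kc xc1 yc20 zc43) (kc xc3 yc9 zc49) (kc xc2 yc17 zc42)) (@D3.rec (fun _ => Pt) (kc xc2 yc18 zc42) (kc xc5 yc46 zc42) (kc xc1 yc20 zc39) (kc xc1 yc20 zc37) (kc xc1 yc20 zc38) (kc xc1 yc20 zc40) (kc xc1 yc20 zc41) (kc xc5 yc46 zc25) (kc xc4 yc22 zc31) (kc xc5 yc46 zc50) (kc xc5 yc46 zc31) (kc xc5 yc42 zc24) (kc xc5 yc46 zc52) (kc xc5 yc46 zc54)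 (kc xc5 yc46 zc56) (kc xc1 yc20 zc46) (kc xc5 yc46 zc59) (kc xc2 yc16 zc48) (kc xc1 yc20 zc48) (kc xc4 yc42 zc46) (kc xc1 yc20 zc49) (kc xc3 yc5 zc42) (kc xc5 yc47 zc0) (kc xc3 yc0 zc29) (kc xc1 yc20 zc51) (kc xc5 yc47 zc4) (kc xc4 yc31 zc3) (kc xc4 yc31 zc4) (kc xc5 yc43 zc28) (kc xc5 yc47 zc12) (kc xc1 yc32 zc50) (kc xc1 yc20 zc54) (kc xc1 yc20 zc55) (kc xc5 yc47 zc16) (kc xc4 yc41 zc18) (kc xc1 yc20 zc56) (kc xc4 yc42 zc47) (kc xc1 yc20 zc57) (kc xc5 yc47 zc20) (kc xc2 yc18 zc61) (kc xc2 yc18 zc58) (kc xc5 yc47 zc24) (kc xc5 yc47 zc26) (kc xc5 yc47 zc29) (kc xc1 yc20 zc59) (kc xc5 yc47 zc33) (kc xc1 yc29 zc7) (kc xc1 yc29 zc8) (kc xc1 yc32 zc56) (kc xc4 yc41 zc19) (kc xc2 yc9 zc22) (kc xc3 yc16 zc44) (kc xc1 yc26 zc5) (kc xc3 yc0 zc32) (kc xc3 yc9 zc54) (kc xc4 yc34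 zc52) (kc xc3 yc50 zc34) (kc xc2 yc16 zc47) (kc xc3 yc9 zc60) (kc xc1 yc21 zc2) (kc xc4 yc37 zc8) (kc xc5 yc47 zc54)) (@D3.rec (fun _ => Pt) (kc xc3 yc50 zc30) (kc xc1 yc21 zc5) (kc xc1 yc21 zc4) (kc xc5 yc48 zc1) (kc xc5 yc48 zc5) (kc xc1 yc21 zc6) (kc xc5 yc48 zc7) (kc xc3 yc5 zc16) (kc xc3 yc54 zc48) (kc xc2 yc57 zc15) (kc xc3 yc51 zc22) (kc xc3 yc20 zc18) (kc xc1 yc21 zc9) (kc xc5 yc48 zc17) (kc xc2 yc51 zc43) (kc xc2 yc51 zc47) (kc xc3 yc50 zc29) (kc xc1 yc21 zc11) (kc xc5 yc48 zc27) (kc xc5 yc48 zc31) (kc xc5 yc48 zc36) (kc xc5 yc48 zc25) (kc xc5 yc48 zc39) (kc xc1 yc21 zc12) (kc xc5 yc48 zc43) (kc xc5 yc48 zc46) (kc xc1 yc21 zc13) (kc xc5 yc48 zc49) (kc xc4 yc33 zc51) (kc xc5 yc48 zc55) (kc xc5 yc46 zc9) (kc xc2 yc19 zc31) (kc xc2 yc47 zc7) (kc xc2 yc13 zc12)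 (kc xc4 yc31 zc52) (kc xc2 yc58 zc17) (kc xc3 yc0 zc33) (kc xc5 yc49 zc6) (kc xc2 yc46 zc2) (kc xc5 yc49 zc8) (kc xc3 yc4 zc16) (kc xc1 yc21 zc20) (kc xc5 yc49 zc15) (kc xc5 yc49 zc12) (kc xc4 yc33 zc31) (kc xc5 yc49 zc20) (kc xc5 yc49 zc22) (kc xc1 yc21 zc23) (kc xc5 yc37 zc16) (kc xc5 yc49 zc28) (kc xc1 yc21 zc24) (kc xc2 yc16 zc32) (kc xc1 yc28 zc44) (kc xc1 yc28 zc45) (kc xc1 yc21 zc26) (kc xc5 yc49 zc35) (kc xc1 yc21 zc29) (kc xc3 yc55 zc1) (kc xc1 yc21 zc28) (kc xc5 yc49 zc43) (kc xc2 yc48 zc31) (kc xc1 yc26 zc3)) (@D3.rec (fun _ => Pt) (kc xc3 yc5 zc43) (kc xc5 yc49 zc50) (kc xc3 yc5 zc45) (kc xc1 yc21 zc33) (kc xc2 yc45 zc8) (kc xc5 yc49 zc58) (kc xc4 yc26 zc58) (kc xc2 yc18 zc43) (kc xc4 yc36 zc15) (kc xc1 yc21 zc39) (kc xc2 yc57 zc40) (kc xc1 yc31 zc17) (kc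 xc5 yc50 zc4) (kc xc1 yc21 zc41) (kc xc5 yc50 zc7) (kc xc2 yc57 zc0) (kc xc1 yc21 zc42) (kc xc5 yc50 zc12) (kc xc2 yc56 zc11) (kc xc1 yc31 zc21) (kc xc1 yc31 zc22) (kc xc1 yc21 zc45) (kc xc5 yc50 zc21) (kc xc5 yc50 zc25) (kc xc5 yc50 zc19) (kc xc5 yc50 zc29) (kc xc4 yc5 zc42) (kc xc1 yc33 zc1) (kc xc5 yc50 zc34) (kc xc5 yc50 zc37) (kc xc2 yc18 zc11) (kc xc5 yc50 zc40) (kc xc5 yc43 zc8) (kc xc5 yc45 zc33) (kc xc1 yc21 zc50) (kc xc4 yc6 zc5) (kc xc1 yc57 zc5) (kc xc5 yc50 zc51) (kc xc1 yc21 zc52) (kc xc5 yc50 zc54) (kc xc2 yc9 zc44) (kc xc2 yc54 zc25) (kc xc2 yc54 zc23) (kc xc2 yc50 zc14) (kc xc1 yc21 zc55) (kc xc5 yc51 zc0) (kc xc1 yc21 zc56) (kc xc2 yc50 zc15) (kc xc1 yc21 zc58) (kc xc4 yc44 zc58) (kc xc2 yc54 zc40) (kc xc1 yc21 zc59) (kc xc5 yc51 zc10) (kc xc5 yc51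 zc14) (kc xc1 yc21 zc60) (kc xc5 yc51 zc17) (kc xc4 yc34 zc21) (kc xc3 yc4 zc52) (kc xc5 yc51 zc23) (kc xc5 yc51 zc26) (kc xc5 yc51 zc30) (kc xc4 yc40 zc26)) (@D3.rec (fun _ => Pt) (kc xc1 yc22 zc1) (kc xc5 yc51 zc35) (kc xc1 yc27 zc28) (kc xc1 yc27 zc29) (kc xc1 yc29 zc29) (kc xc5 yc51 zc42) (kc xc1 yc22 zc3) (kc xc3 yc59 zc26) (kc xc5 yc51 zc49) (kc xc1 yc29 zc39) (kc xc3 yc45 zc23) (kc xc3 yc12 zc25) (kc xc1 yc31 zc40) (kc xc3 yc43 zc23) (kc xc3 yc12 zc28) (kc xc1 yc31 zc36) (kc xc1 yc22 zc10) (kc xc4 yc22 zc36) (kc xc1 yc22 zc15) (kc xc5 yc52 zc2) (kc xc2 yc53 zc43) (kc xc1 yc22 zc16) (kc xc5 yc52 zc8) (kc xc2 yc55 zc28) (kc xc1 yc22 zc17) (kc xc3 yc0 zc26) (kc xc2 yc14 zc21) (kc xc2 yc14 zc19) (kc xc2 yc13 zc4) (kc xc1 yc22 zc19) (kc xc5 yc52 zc24) (kc xc5 yc52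 zc28) (kc xc5 yc52 zc33) (kc xc5 yc52 zc22) (kc xc5 yc52 zc36) (kc xc5 yc52 zc39) (kc xc1 yc22 zc20) (kc xc5 yc52 zc44) (kc xc2 yc19 zc43) (kc xc5 yc52 zc48) (kc xc2 yc19 zc45) (kc xc2 yc39 zc29) (kc xc1 yc25 zc11) (kc xc2 yc59 zc41) (kc xc5 yc52 zc55) (kc xc2 yc53 zc26) (kc xc1 yc22 zc25) (kc xc5 yc52 zc61) (kc xc5 yc53 zc2) (kc xc2 yc59 zc14) (kc xc5 yc53 zc5) (kc xc2 yc11 zc47) (kc xc5 yc53 zc7) (kc xc4 yc30 zc61) (kc xc2 yc48 zc19) (kc xc4 yc35 zc5) (kc xc5 yc53 zc12) (kc xc2 yc39 zc50) (kc xc2 yc39 zc51) (kc xc1 yc22 zc35) (kc xc5 yc53 zc17) (kc xc5 yc53 zc20)) (@D3.rec (fun _ => Pt) (kc xc1 yc22 zc36) (kc xc4 yc6 zc58) (kc xc3 yc25 zc42) (kc xc2 yc14 zc29) (kc xc4 yc25 zc47) (kc xc5 yc53 zc31) (kc xc1 yc22 zc40) (kc xc1 yc22 zc39) (kc xc5 yc53 zc35) (kc xc5 yc53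 zc37) (kc xc5 yc53 zc40) (kc xc1 yc22 zc41) (kc xc5 yc53 zc42) (kc xc5 yc53 zc44) (kc xc1 yc22 zc43) (kc xc5 yc53 zc48) (kc xc3 yc57 zc43) (kc xc5 yc53 zc51) (kc xc1 yc22 zc46) (kc xc1 yc22 zc45) (kc xc5 yc53 zc57) (kc xc5 yc53 zc59) (kc xc5 yc54 zc1) (kc xc5 yc53 zc55) (kc xc1 yc22 zc47) (kc xc5 yc54 zc4) (kc xc2 yc52 zc45) (kc xc1 yc28 zc49) (kc xc5 yc54 zc7) (kc xc5 yc54 zc9) (kc xc5 yc54 zc11) (kc xc1 yc22 zc49) (kc xc5 yc54 zc15) (kc xc5 yc14 zc23) (kc xc2 yc30 zc61) (kc xc5 yc54 zc25) (kc xc1 yc22 zc57) (kc xc1 yc22 zc51) (kc xc5 yc54 zc28) (kc xc5 yc54 zc32) (kc xc1 yc22 zc52) (kc xc5 yc54 zc36) (kc xc5 yc49 zc59) (kc xc2 yc52 zc20) (kc xc5 yc54 zc48) (kc xc2 yc31 zc2) (kc xc1 yc22 zc54) (kc xc5 yc54 zc54) (kc xc5 yc54 zc52) (kc xc5 yc54 zc57) (kc xc1 yc22 zc55)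 (kc xc5 yc54 zc61) (kc xc5 yc55 zc2) (kc xc5 yc55 zc4) (kc xc1 yc22 zc56) (kc xc5 yc55 zc9) (kc xc5 yc55 zc11) (kc xc3 yc7 zc13) (kc xc1 yc34 zc11) (kc xc1 yc51 zc7) (kc xc1 yc35 zc21) (kc xc1 yc34 zc12)) (@D3.rec (fun _ => Pt) (kc xc3 yc46 zc29) (kc xc3 yc2 zc0) (kc xc1 yc22 zc60) (kc xc5 yc55 zc7) (kc xc2 yc36 zc3) (kc xc3 yc3 zc25) (kc xc5 yc55 zc32) (kc xc1 yc23 zc2) (kc xc5 yc55 zc37) (kc xc4 yc59 zc22) (kc xc5 yc55 zc39) (kc xc1 yc23 zc6) (kc xc1 yc23 zc5) (kc xc5 yc55 zc44) (kc xc5 yc55 zc46) (kc xc5 yc55 zc47) (kc xc1 yc23 zc9) (kc xc1 yc23 zc8) (kc xc5 yc55 zc53) (kc xc5 yc55 zc60) (kc xc3 yc57 zc42) (kc xc1 yc23 zc10) (kc xc5 yc56 zc1) (kc xc2 yc51 zc42) (kc xc5 yc56 zc4) (kc xc2 yc51 zc41) (kc xc5 yc56 zc8) (kc xc5 yc56 zc10) (kc xc1 yc23 zc12) (kc xc5 yc56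 zc16) (kc xc5 yc56 zc21) (kc xc5 yc56 zc23) (kc xc5 yc56 zc27) (kc xc1 yc23 zc20) (kc xc1 yc23 zc14) (kc xc5 yc56 zc31) (kc xc4 yc58 zc37) (kc xc1 yc23 zc15) (kc xc5 yc56 zc37) (kc xc5 yc47 zc44) (kc xc2 yc51 zc50) (kc xc5 yc56 zc45) (kc xc1 yc23 zc17) (kc xc5 yc56 zc50) (kc xc5 yc56 zc54) (kc xc5 yc56 zc59) (kc xc5 yc56 zc48) (kc xc1 yc23 zc18) (kc xc5 yc57 zc1) (kc xc5 yc57 zc3) (kc xc5 yc57 zc7) (kc xc1 yc23 zc19) (kc xc5 yc57 zc12) (kc xc5 yc57 zc16) (kc xc1 yc33 zc45) (kc xc5 yc57 zc20) (kc xc2 yc25 zc54) (kc xc1 yc33 zc48) (kc xc2 yc59 zc42) (kc xc2 yc0 zc44) (kc xc2 yc58 zc57) (kc xc5 yc57 zc27)) (@D3.rec (fun _ => Pt) (kc xc4 yc29 zc0) (kc xc5 yc57 zc30) (kc xc3 yc50 zc32) (kc xc2 yc55 zc18) (kc xc1 yc23 zc29) (kc xc3 yc25 zc37) (kc xc3 yc25 zc32) (kc xc4 yc59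 zc23) (kc xc4 yc58 zc38) (kc xc1 yc23 zc32) (kc xc5 yc57 zc40) (kc xc4 yc58 zc33) (kc xc5 yc57 zc47) (kc xc2 yc30 zc46) (kc xc5 yc57 zc49) (kc xc1 yc23 zc35) (kc xc5 yc57 zc51) (kc xc5 yc51 zc9) (kc xc2 yc55 zc3) (kc xc5 yc57 zc55) (kc xc1 yc23 zc37) (kc xc5 yc57 zc58) (kc xc5 yc51 zc33) (kc xc5 yc14 zc13) (kc xc5 yc58 zc3) (kc xc1 yc23 zc46) (kc xc1 yc23 zc40) (kc xc5 yc58 zc6) (kc xc2 yc52 zc23) (kc xc5 yc50 zc3) (kc xc5 yc57 zc38) (kc xc4 yc59 zc46) (kc xc1 yc23 zc42) (kc xc1 yc23 zc43) (kc xc1 yc52 zc17) (kc xc1 yc48 zc41) (kc xc3 yc25 zc35) (kc xc5 yc58 zc26) (kc xc3 yc40 zc27) (kc xc5 yc58 zc30) (kc xc1 yc23 zc45) (kc xc5 yc58 zc33) (kc xc5 yc58 zc35) (kc xc4 yc34 zc31) (kc xc3 yc50 zc33) (kc xc1 yc23 zc51) (kc xc1 yc23 zc50) (kc xc5 yc58 zc41) (kc xc2 yc14 zc34)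 (kc xc5 yc58 zc49) (kc xc5 yc45 zc2) (kc xc1 yc23 zc52) (kc xc5 yc58 zc52) (kc xc5 yc58 zc58) (kc xc5 yc58 zc39) (kc xc4 yc59 zc45) (kc xc1 yc23 zc55) (kc xc5 yc59 zc5) (kc xc5 yc59 zc9) (kc xc5 yc59 zc4) (kc xc5 yc59 zc11) (kc xc5 yc59 zc13)) (@D3.rec (fun _ => Pt) (kc xc1 yc23 zc57) (kc xc5 yc59 zc19) (kc xc4 yc37 zc40) (kc xc4 yc59 zc48) (kc xc1 yc23 zc60) (kc xc5 yc59 zc28) (kc xc5 yc59 zc32) (kc xc5 yc59 zc26) (kc xc2 yc27 zc39) (kc xc1 yc23 zc61) (kc xc5 yc59 zc38) (kc xc2 yc51 zc18) (kc xc5 yc57 zc50) (kc xc5 yc59 zc36) (kc xc4 yc59 zc43) (kc xc1 yc24 zc1) (kc xc3 yc50 zc59) (kc xc5 yc59 zc58) (kc xc4 yc0 zc51) (kc xc5 yc59 zc56) (kc xc6 yc0 zc1) (kc xc1 yc24 zc2) (kc xc6 yc0 zc4) (kc xc6 yc0 zc3) (kc xc4 yc59 zc40) (kc xc1 yc24 zc4) (kc xc6 yc0 zc17) (kc xc6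 yc0 zc20) (kc xc6 yc0 zc25) (kc xc6 yc0 zc16) (kc xc6 yc0 zc30) (kc xc1 yc24 zc5) (kc xc4 yc59 zc34) (kc xc6 yc0 zc32) (kc xc6 yc0 zc40) (kc xc1 yc24 zc6) (kc xc4 yc59 zc25) (kc xc4 yc59 zc37) (kc xc4 yc59 zc1) (kc xc4 yc58 zc40) (kc xc1 yc24 zc7) (kc xc6 yc0 zc48) (kc xc6 yc0 zc53) (kc xc6 yc0 zc56) (kc xc6 yc0 zc60) (kc xc1 yc24 zc11) (kc xc6 yc1 zc2) (kc xc1 yc24 zc9) (kc xc6 yc1 zc11) (kc xc6 yc1 zc8) (kc xc6 yc1 zc18) (kc xc1 yc24 zc10) (kc xc6 yc1 zc23) (kc xc3 yc25 zc45) (kc xc6 yc1 zc27) (kc xc6 yc1 zc29) (kc xc6 yc1 zc31) (kc xc6 yc1 zc34) (kc xc1 yc24 zc14) (kc xc1 yc24 zc15) (kc xc4 yc39 zc9) (kc xc5 yc54 zc3)) (@D3.rec (fun _ => Pt) (kc xc2 yc51 zc15) (kc xc6 yc1 zc50) (kc xc6 yc1 zc53) (kc xc6 yc1 zc56) (kc xc6 yc1 zc60) (kc xc1 yc24 zc29) (kc xc6 yc2 zc0)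 (kc xc6 yc2 zc4) (kc xc6 yc2 zc5) (kc xc1 yc36 zc27) (kc xc4 yc31 zc53) (kc xc4 yc32 zc18) (kc xc1 yc24 zc22) (kc xc6 yc2 zc13) (kc xc5 yc56 zc0) (kc xc2 yc50 zc9) (kc xc6 yc2 zc21) (kc xc1 yc24 zc24) (kc xc6 yc2 zc27) (kc xc6 yc2 zc30) (kc xc6 yc2 zc26) (kc xc2 yc59 zc52) (kc xc1 yc36 zc8) (kc xc6 yc2 zc35) (kc xc6 yc2 zc38) (kc xc1 yc36 zc10) (kc xc5 yc50 zc16) (kc xc5 yc50 zc17) (kc xc1 yc24 zc27) (kc xc6 yc2 zc48) (kc xc6 yc2 zc50) (kc xc6 yc1 zc45) (kc xc6 yc2 zc55) (kc xc4 yc38 zc52) (kc xc6 yc2 zc61) (kc xc6 yc3 zc1) (kc xc6 yc3 zc2) (kc xc1 yc24 zc31) (kc xc2 yc13 zc60) (kc xc3 yc14 zc28) (kc xc2 yc51 zc10) (kc xc6 yc3 zc8) (kc xc6 yc3 zc9) (kc xc1 yc24 zc33) (kc xc6 yc3 zc15) (kc xc4 yc43 zc2) (kc xc6 yc3 zc20) (kc xc1 yc24 zc35) (kc xc6 yc3 zc22) (kc xc1 yc30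 zc5) (kc xc1 yc24 zc37) (kc xc6 yc3 zc27) (kc xc5 yc52 zc41) (kc xc5 yc52 zc40) (kc xc1 yc24 zc38) (kc xc6 yc3 zc32) (kc xc1 yc24 zc39) (kc xc6 yc3 zc37) (kc xc6 yc3 zc41) (kc xc1 yc24 zc40) (kc xc6 yc3 zc44) (kc xc6 yc3 zc48)) (@D3.rec (fun _ => Pt) (kc xc1 yc24 zc41) (kc xc6 yc3 zc51) (kc xc2 yc58 zc13) (kc xc2 yc58 zc14) (kc xc6 yc1 zc38) (kc xc2 yc13 zc49) (kc xc6 yc4 zc2) (kc xc1 yc24 zc44) (kc xc6 yc4 zc5) (kc xc6 yc4 zc9) (kc xc1 yc24 zc45) (kc xc1 yc28 zc58) (kc xc2 yc58 zc12) (kc xc2 yc58 zc2) (kc xc2 yc58 zc3) (kc xc2 yc48 zc56) (kc xc1 yc24 zc48) (kc xc2 yc50 zc35) (kc xc3 yc4 zc54) (kc xc1 yc24 zc49) (kc xc4 yc52 zc9) (kc xc1 yc24 zc52) (kc xc1 yc24 zc53) (kc xc6 yc4 zc23) (kc xc6 yc4 zc24) (kc xc6 yc4 zc26) (kc xc1 yc24 zc56) (kc xc6 yc4 zc32) (kc xc6 yc4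 zc34) (kc xc6 yc4 zc36) (kc xc1 yc24 zc61) (kc xc1 yc24 zc60) (kc xc6 yc4 zc41) (kc xc6 yc4 zc46) (kc xc1 yc58 zc33) (kc xc6 yc4 zc48) (kc xc1 yc25 zc3) (kc xc1 yc25 zc2) (kc xc6 yc4 zc52) (kc xc6 yc4 zc56) (kc xc1 yc25 zc4) (kc xc6 yc4 zc60) (kc xc4 yc50 zc42) (kc xc1 yc25 zc5) (kc xc6 yc5 zc5) (kc xc4 yc20 zc19) (kc xc4 yc20 zc20) (kc xc1 yc25 zc25) (kc xc6 yc5 zc22) (kc xc1 yc25 zc7) (kc xc6 yc5 zc25) (kc xc1 yc25 zc8) (kc xc6 yc5 zc32) (kc xc2 yc0 zc42) (kc xc6 yc5 zc30) (kc xc1 yc25 zc56) (kc xc2 yc15 zc26) (kc xc2 yc54 zc60) (kc xc4 yc35 zc2) (kc xc6 yc5 zc42) (kc xc1 yc25 zc14) (kc xc6 yc5 zc45)) (@D3.rec (fun _ => Pt) (kc xc1 yc25 zc13) (kc xc6 yc5 zc50) (kc xc6 yc5 zc48) (kc xc1 yc25 zc55) (kc xc1 yc25 zc16) (kc xc6 yc5 zc58) (kc xc5 yc36 zc41) (kc xc1 yc25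 zc17) (kc xc6 yc6 zc0) (kc xc6 yc5 zc60) (kc xc1 yc25 zc48) (kc xc1 yc25 zc19) (kc xc5 yc53 zc24) (kc xc5 yc53 zc23) (kc xc2 yc52 zc49) (kc xc1 yc25 zc20) (kc xc6 yc6 zc20) (kc xc6 yc6 zc18) (kc xc1 yc25 zc46) (kc xc3 yc0 zc4) (kc xc2 yc26 zc12) (kc xc2 yc14 zc42) (kc xc6 yc6 zc33) (kc xc1 yc25 zc43) (kc xc1 yc59 zc56) (kc xc6 yc6 zc39) (kc xc1 yc25 zc41) (kc xc6 yc6 zc42) (kc xc6 yc6 zc44) (kc xc6 yc5 zc17) (kc xc6 yc6 zc48) (kc xc6 yc5 zc19) (kc xc1 yc25 zc39) (kc xc1 yc25 zc34) (kc xc4 yc39 zc55) (kc xc1 yc25 zc28) (kc xc1 yc25 zc29) (kc xc6 yc6 zc61) (kc xc6 yc6 zc59) (kc xc1 yc25 zc32) (kc xc2 yc14 zc37) (kc xc2 yc52 zc43) (kc xc2 yc54 zc58) (kc xc2 yc30 zc36) (kc xc6 yc6 zc52) (kc xc5 yc12 zc43) (kc xc1 yc25 zc35) (kc xc6 yc7 zc14) (kc xc6 yc7 zc12) (kc xc1 yc25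 zc38) (kc xc5 yc26 zc19) (kc xc6 yc7 zc21) (kc xc2 yc57 zc21) (kc xc6 yc7 zc27) (kc xc6 yc7 zc28) (kc xc6 yc6 zc36) (kc xc4 yc5 zc32) (kc xc6 yc7 zc30) (kc xc6 yc7 zc32) (kc xc1 yc25 zc45) (kc xc6 yc7 zc38) (kc xc2 yc13 zc52))
def f_c_3 : D2 → D3 → Pt := @D2.rec (fun _ => D3 → Pt) (@D3.rec (fun _ => Pt) (kc xc1 yc25 zc47) (kc xc6 yc7 zc43) (kc xc6 yc7 zc42) (kc xc6 yc6 zc9) (kc xc2 yc59 zc19) (kc xc4 yc7 zc6) (kc xc2 yc30 zc31) (kc xc6 yc7 zc51) (kc xc3 yc0 zc44) (kc xc2 yc30 zc32) (kc xc5 yc6 zc30) (kc xc6 yc7 zc56) (kc xc5 yc12 zc28) (kc xc6 yc7 zc60) (kc xc6 yc8 zc0) (kc xc1 yc25 zc53) (kc xc6 yc8 zc5) (kc xc6 yc8 zc6) (kc xc2 yc45 zc56) (kc xc5 yc54 zc33) (kc xc5 yc54 zc34) (kc xc6 yc8 zc15) (kc xc3 yc8 zc30) (kc xc6 yc8 zc3) (kc xc1 yc25 zc58) (kc xc5 yc50 zc2)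 (kc xc2 yc52 zc25) (kc xc6 yc8 zc25) (kc xc2 yc40 zc2) (kc xc2 yc49 zc23) (kc xc3 yc0 zc31) (kc xc3 yc0 zc30) (kc xc2 yc49 zc53) (kc xc2 yc50 zc36) (kc xc1 yc57 zc11) (kc xc4 yc59 zc15) (kc xc4 yc58 zc32) (kc xc3 yc59 zc17) (kc xc6 yc8 zc37) (kc xc1 yc26 zc9) (kc xc6 yc8 zc44) (kc xc6 yc8 zc48) (kc xc6 yc8 zc42) (kc xc4 yc31 zc0) (kc xc3 yc0 zc8) (kc xc6 yc8 zc53) (kc xc6 yc8 zc54) (kc xc6 yc8 zc57) (kc xc3 yc6 zc41) (kc xc6 yc8 zc58) (kc xc6 yc8 zc61) (kc xc3 yc6 zc44) (kc xc5 yc37 zc41) (kc xc6 yc9 zc3) (kc xc1 yc27 zc44) (kc xc6 yc9 zc5) (kc xc6 yc9 zc6) (kc xc1 yc26 zc16) (kc xc6 yc9 zc9) (kc xc3 yc57 zc45) (kc xc6 yc9 zc16) (kc xc1 yc26 zc21)) (@D3.rec (fun _ => Pt) (kc xc4 yc22 zc35) (kc xc4 yc22 zc59) (kc xc6 yc9 zc18) (kc xc3 yc31 zc61) (kc xc6 yc9 zc19) (kc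 xc1 yc39 zc1) (kc xc1 yc33 zc14) (kc xc6 yc9 zc20) (kc xc1 yc40 zc56) (kc xc6 yc9 zc23) (kc xc1 yc26 zc29) (kc xc6 yc9 zc26) (kc xc2 yc20 zc6) (kc xc3 yc7 zc3) (kc xc6 yc9 zc33) (kc xc6 yc9 zc34) (kc xc1 yc26 zc36) (kc xc6 yc9 zc36) (kc xc6 yc9 zc37) (kc xc6 yc9 zc40) (kc xc1 yc26 zc37) (kc xc6 yc9 zc43) (kc xc1 yc26 zc39) (kc xc6 yc9 zc49) (kc xc6 yc9 zc54) (kc xc3 yc13 zc30) (kc xc6 yc9 zc55) (kc xc2 yc17 zc59) (kc xc3 yc8 zc2) (kc xc3 yc22 zc47) (kc xc6 yc9 zc59) (kc xc2 yc18 zc29) (kc xc1 yc50 zc23) (kc xc1 yc53 zc30) (kc xc1 yc26 zc50) (kc xc6 yc9 zc61) (kc xc1 yc26 zc49) (kc xc6 yc10 zc3) (kc xc2 yc17 zc11) (kc xc1 yc26 zc53) (kc xc2 yc5 zc57) (kc xc1 yc26 zc55) (kc xc4 yc40 zc17) (kc xc1 yc41 zc49) (kc xc1 yc26 zc57) (kc xc6 yc10 zc17) (kc xc6 yc10 zc21) (kc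 xc6 yc10 zc15) (kc xc1 yc26 zc58) (kc xc6 yc10 zc23) (kc xc1 yc41 zc41) (kc xc3 yc12 zc7) (kc xc1 yc26 zc60) (kc xc5 yc11 zc53) (kc xc6 yc10 zc27) (kc xc1 yc41 zc38) (kc xc1 yc27 zc0) (kc xc6 yc10 zc37) (kc xc6 yc10 zc36) (kc xc6 yc10 zc42) (kc xc1 yc41 zc33) (kc xc1 yc32 zc22)) (@D3.rec (fun _ => Pt) (kc xc2 yc54 zc1) (kc xc1 yc41 zc27) (kc xc1 yc49 zc26) (kc xc4 yc25 zc48) (kc xc4 yc25 zc61) (kc xc1 yc27 zc13) (kc xc6 yc10 zc57) (kc xc1 yc27 zc14) (kc xc3 yc50 zc14) (kc xc1 yc41 zc16) (kc xc6 yc11 zc7) (kc xc6 yc11 zc9) (kc xc6 yc11 zc11) (kc xc1 yc27 zc9) (kc xc1 yc27 zc10) (kc xc6 yc11 zc17) (kc xc1 yc27 zc7) (kc xc6 yc11 zc21) (kc xc6 yc11 zc27) (kc xc1 yc27 zc8) (kc xc6 yc11 zc32) (kc xc6 yc11 zc31) (kc xc6 yc11 zc12) (kc xc6 yc11 zc37) (kc xc6 yc11 zc40) (kc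 xc6 yc11 zc43) (kc xc1 yc32 zc15) (kc xc6 yc11 zc45) (kc xc1 yc27 zc12) (kc xc6 yc10 zc56) (kc xc5 yc10 zc19) (kc xc6 yc11 zc56) (kc xc6 yc11 zc61) (kc xc6 yc11 zc0) (kc xc6 yc12 zc1) (kc xc6 yc12 zc4) (kc xc6 yc8 zc56) (kc xc6 yc12 zc6) (kc xc3 yc6 zc39) (kc xc6 yc12 zc9) (kc xc6 yc12 zc12) (kc xc1 yc27 zc17) (kc xc4 yc49 zc39) (kc xc6 yc12 zc18) (kc xc6 yc8 zc4) (kc xc1 yc27 zc19) (kc xc4 yc7 zc20) (kc xc6 yc12 zc22) (kc xc6 yc12 zc21) (kc xc6 yc12 zc31) (kc xc1 yc27 zc22) (kc xc5 yc55 zc19) (kc xc1 yc27 zc21) (kc xc5 yc52 zc46) (kc xc5 yc45 zc58) (kc xc4 yc57 zc53) (kc xc6 yc12 zc33) (kc xc6 yc12 zc34) (kc xc1 yc27 zc23) (kc xc6 yc12 zc38) (kc xc6 yc12 zc36) (kc xc6 yc12 zc42)) (@D3.rec (fun _ => Pt) (kc xc1 yc27 zc26) (kc xc1 yc27 zc25) (kc xc5 yc55 zc15) (kc xc6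 yc12 zc45) (kc xc5 yc51 zc56) (kc xc6 yc12 zc46) (kc xc4 yc7 zc19) (kc xc6 yc12 zc48) (kc xc6 yc12 zc49) (kc xc6 yc12 zc52) (kc xc5 yc51 zc41) (kc xc6 yc12 zc54) (kc xc6 yc12 zc57) (kc xc1 yc27 zc30) (kc xc6 yc11 zc48) (kc xc4 yc35 zc51) (kc xc1 yc27 zc38) (kc xc1 yc27 zc39) (kc xc1 yc27 zc49) (kc xc1 yc27 zc43) (kc xc6 yc13 zc10) (kc xc1 yc27 zc35) (kc xc1 yc27 zc34) (kc xc1 yc27 zc36) (kc xc6 yc13 zc15) (kc xc2 yc54 zc5) (kc xc1 yc27 zc37) (kc xc4 yc36 zc10) (kc xc6 yc13 zc20) (kc xc6 yc13 zc23) (kc xc6 yc13 zc27) (kc xc4 yc36 zc11) (kc xc1 yc27 zc40) (kc xc5 yc0 zc28) (kc xc5 yc46 zc37) (kc xc1 yc59 zc30) (kc xc1 yc28 zc19) (kc xc6 yc13 zc32) (kc xc1 yc56 zc53) (kc xc6 yc13 zc40) (kc xc1 yc27 zc50) (kc xc5 yc12 zc57) (kc xc6 yc13 zc43) (kc xc6 yc13 zc46) (kc xc3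 yc36 zc7) (kc xc6 yc13 zc51) (kc xc1 yc31 zc9) (kc xc1 yc27 zc56) (kc xc4 yc24 zc9) (kc xc6 yc13 zc55) (kc xc4 yc23 zc53) (kc xc6 yc14 zc1) (kc xc1 yc28 zc0) (kc xc1 yc27 zc60) (kc xc6 yc14 zc6) (kc xc6 yc14 zc5) (kc xc1 yc27 zc61) (kc xc6 yc14 zc8) (kc xc5 yc46 zc22) (kc xc3 yc3 zc59) (kc xc5 yc43 zc37) (kc xc4 yc23 zc50)) (@D3.rec (fun _ => Pt) (kc xc2 yc16 zc61) (kc xc1 yc28 zc26) (kc xc6 yc14 zc17) (kc xc1 yc28 zc27) (kc xc2 yc16 zc51) (kc xc6 yc14 zc27) (kc xc1 yc28 zc23) (kc xc1 yc28 zc6) (kc xc6 yc0 zc41) (kc xc2 yc44 zc47) (kc xc6 yc14 zc33) (kc xc2 yc24 zc50) (kc xc6 yc14 zc37) (kc xc1 yc28 zc39) (kc xc1 yc28 zc9) (kc xc6 yc14 zc41) (kc xc2 yc50 zc40) (kc xc1 yc28 zc51) (kc xc1 yc50 zc24) (kc xc1 yc28 zc43) (kc xc4 yc26 zc31) (kc xc4 yc26 zc32) (kc xc6 yc14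 zc57) (kc xc4 yc24 zc27) (kc xc3 yc54 zc9) (kc xc1 yc28 zc50) (kc xc2 yc14 zc3) (kc xc3 yc54 zc8) (kc xc2 yc9 zc33) (kc xc3 yc44 zc1) (kc xc3 yc44 zc0) (kc xc1 yc28 zc14) (kc xc3 yc43 zc35) (kc xc3 yc40 zc6) (kc xc1 yc28 zc17) (kc xc3 yc4 zc35) (kc xc3 yc40 zc5) (kc xc1 yc28 zc20) (kc xc6 yc15 zc13) (kc xc1 yc28 zc21) (kc xc3 yc59 zc61) (kc xc1 yc28 zc22) (kc xc1 yc28 zc24) (kc xc3 yc10 zc10) (kc xc1 yc28 zc25) (kc xc6 yc15 zc20) (kc xc6 yc14 zc16) (kc xc6 yc15 zc26) (kc xc6 yc15 zc30) (kc xc6 yc15 zc33) (kc xc6 yc14 zc21) (kc xc1 yc28 zc28) (kc xc2 yc51 zc57) (kc xc2 yc12 zc49) (kc xc2 yc58 zc18) (kc xc3 yc10 zc29) (kc xc2 yc14 zc10) (kc xc6 yc15 zc41) (kc xc1 yc28 zc34) (kc xc1 yc28 zc33) (kc xc6 yc15 zc47) (kc xc6 yc14 zc30)) (@D3.rec (fun _ => Pt) (kc xc6 yc15 zc53)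 (kc xc6 yc15 zc44) (kc xc1 yc28 zc35) (kc xc6 yc15 zc57) (kc xc6 yc15 zc56) (kc xc6 yc15 zc59) (kc xc1 yc28 zc38) (kc xc1 yc28 zc37) (kc xc6 yc16 zc4) (kc xc6 yc14 zc35) (kc xc6 yc16 zc11) (kc xc6 yc16 zc2) (kc xc3 yc49 zc7) (kc xc6 yc16 zc15) (kc xc6 yc16 zc19) (kc xc3 yc33 zc41) (kc xc2 yc50 zc7) (kc xc1 yc28 zc40) (kc xc6 yc16 zc25) (kc xc6 yc16 zc23) (kc xc1 yc28 zc41) (kc xc6 yc16 zc29) (kc xc6 yc16 zc28) (kc xc6 yc16 zc34) (kc xc6 yc16 zc36) (kc xc1 yc28 zc42) (kc xc6 yc16 zc42) (kc xc6 yc16 zc44) (kc xc5 yc40 zc44) (kc xc6 yc16 zc48) (kc xc3 yc59 zc54) (kc xc2 yc13 zc59) (kc xc6 yc16 zc40) (kc xc1 yc31 zc24) (kc xc1 yc28 zc47) (kc xc6 yc16 zc57) (kc xc1 yc28 zc48) (kc xc5 yc41 zc38) (kc xc6 yc16 zc60) (kc xc6 yc14 zc39) (kc xc6 yc17 zc4) (kc xc6 yc14 zc48) (kc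 xc2 yc49 zc21) (kc xc2 yc51 zc0) (kc xc4 yc0 zc42) (kc xc2 yc51 zc2) (kc xc1 yc28 zc56) (kc xc2 yc48 zc27) (kc xc2 yc20 zc45) (kc xc3 yc10 zc32) (kc xc2 yc20 zc44) (kc xc1 yc29 zc0) (kc xc6 yc17 zc19) (kc xc1 yc29 zc1) (kc xc6 yc17 zc21) (kc xc6 yc17 zc24) (kc xc4 yc40 zc18) (kc xc1 yc29 zc4) (kc xc6 yc17 zc31) (kc xc6 yc17 zc33) (kc xc6 yc17 zc36) (kc xc6 yc17 zc29)) (@D3.rec (fun _ => Pt) (kc xc1 yc29 zc5) (kc xc6 yc17 zc38) (kc xc6 yc17 zc40) (kc xc1 yc29 zc6) (kc xc6 yc17 zc46) (kc xc6 yc17 zc48) (kc xc6 yc17 zc49) (kc xc6 yc17 zc52) (kc xc5 yc47 zc41) (kc xc6 yc17 zc53) (kc xc6 yc17 zc55) (kc xc1 yc29 zc9) (kc xc6 yc17 zc60) (kc xc6 yc17 zc44) (kc xc3 yc8 zc14) (kc xc1 yc29 zc14) (kc xc1 yc29 zc13) (kc xc6 yc18 zc5) (kc xc6 yc18 zc7) (kc xc1 yc42 zc41) (kc xc1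 yc29 zc16) (kc xc6 yc18 zc10) (kc xc6 yc18 zc12) (kc xc1 yc29 zc18) (kc xc6 yc18 zc15) (kc xc6 yc18 zc20) (kc xc1 yc29 zc20) (kc xc1 yc34 zc17) (kc xc6 yc18 zc26) (kc xc1 yc29 zc22) (kc xc6 yc18 zc32) (kc xc6 yc18 zc35) (kc xc6 yc18 zc39) (kc xc6 yc18 zc30) (kc xc1 yc29 zc23) (kc xc6 yc18 zc41) (kc xc6 yc18 zc43) (kc xc6 yc18 zc45) (kc xc1 yc29 zc25) (kc xc3 yc2 zc38) (kc xc6 yc18 zc49) (kc xc3 yc0 zc48) (kc xc6 yc18 zc50) (kc xc6 yc18 zc52) (kc xc3 yc0 zc51) (kc xc6 yc17 zc57) (kc xc1 yc29 zc28) (kc xc6 yc18 zc55) (kc xc6 yc18 zc47) (kc xc6 yc18 zc59) (kc xc1 yc53 zc24) (kc xc6 yc18 zc61) (kc xc1 yc29 zc34) (kc xc4 yc7 zc16) (kc xc3 yc27 zc5) (kc xc1 yc29 zc36) (kc xc2 yc33 zc7) (kc xc5 yc6 zc32) (kc xc4 yc7 zc17) (kc xc6 yc19 zc7) (kc xc3 yc21 zc2) (kc xc2 yc48 zc48))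 (@D3.rec (fun _ => Pt) (kc xc3 yc48 zc33) (kc xc3 yc11 zc60) (kc xc6 yc19 zc15) (kc xc3 yc1 zc13) (kc xc1 yc35 zc53) (kc xc4 yc41 zc58) (kc xc1 yc34 zc35) (kc xc1 yc29 zc46) (kc xc6 yc19 zc23) (kc xc2 yc2 zc53) (kc xc6 yc19 zc22) (kc xc4 yc44 zc42) (kc xc4 yc44 zc40) (kc xc2 yc53 zc57) (kc xc1 yc29 zc52) (kc xc6 yc19 zc33) (kc xc6 yc19 zc32) (kc xc4 yc41 zc40) (kc xc1 yc31 zc50) (kc xc1 yc29 zc54) (kc xc6 yc19 zc44) (kc xc6 yc19 zc47) (kc xc2 yc24 zc32) (kc xc6 yc19 zc42) (kc xc4 yc40 zc11) (kc xc1 yc37 zc43) (kc xc1 yc29 zc56) (kc xc3 yc19 zc48) (kc xc3 yc10 zc31) (kc xc1 yc29 zc61) (kc xc4 yc11 zc40) (kc xc2 yc20 zc54) (kc xc1 yc30 zc0) (kc xc6 yc19 zc59) (kc xc6 yc19 zc57) (kc xc4 yc35 zc44) (kc xc1 yc30 zc2) (kc xc6 yc20 zc5) (kc xc6 yc20 zc4) (kc xc6 yc20 zc10)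 (kc xc2 yc31 zc23) (kc xc4 yc43 zc43) (kc xc3 yc42 zc60) (kc xc2 yc31 zc24) (kc xc3 yc42 zc59) (kc xc3 yc13 zc27) (kc xc3 yc13 zc22) (kc xc6 yc3 zc23) (kc xc6 yc20 zc29) (kc xc5 yc39 zc54) (kc xc5 yc39 zc47) (kc xc1 yc30 zc10) (kc xc6 yc20 zc38) (kc xc1 yc30 zc7) (kc xc2 yc41 zc44) (kc xc6 yc20 zc43) (kc xc6 yc20 zc46) (kc xc1 yc30 zc8) (kc xc2 yc5 zc50) (kc xc2 yc2 zc54) (kc xc3 yc28 zc38) (kc xc1 yc34 zc6)) (@D3.rec (fun _ => Pt) (kc xc6 yc9 zc42) (kc xc3 yc9 zc40) (kc xc3 yc1 zc28) (kc xc2 yc18 zc37) (kc xc1 yc30 zc14) (kc xc6 yc20 zc55) (kc xc3 yc28 zc36) (kc xc6 yc20 zc57) (kc xc4 yc10 zc35) (kc xc6 yc20 zc59) (kc xc4 yc18 zc13) (kc xc1 yc30 zc50) (kc xc1 yc30 zc20) (kc xc3 yc17 zc14) (kc xc3 yc6 zc14) (kc xc6 yc21 zc8) (kc xc1 yc30 zc22) (kc xc6 yc21 zc12) (kc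 xc6 yc21 zc16) (kc xc3 yc17 zc15) (kc xc4 yc50 zc15) (kc xc4 yc50 zc16) (kc xc1 yc30 zc23) (kc xc6 yc21 zc21) (kc xc6 yc21 zc22) (kc xc6 yc21 zc24) (kc xc1 yc30 zc25) (kc xc6 yc21 zc32) (kc xc6 yc21 zc29) (kc xc6 yc21 zc27) (kc xc3 yc0 zc22) (kc xc1 yc30 zc28) (kc xc6 yc21 zc42) (kc xc6 yc21 zc43) (kc xc1 yc30 zc27) (kc xc6 yc21 zc48) (kc xc4 yc49 zc28) (kc xc6 yc21 zc49) (kc xc6 yc21 zc51) (kc xc1 yc30 zc29) (kc xc6 yc21 zc59) (kc xc3 yc19 zc9) (kc xc6 yc21 zc55) (kc xc6 yc22 zc4) (kc xc1 yc30 zc32) (kc xc1 yc30 zc31) (kc xc6 yc22 zc9) (kc xc6 yc22 zc10) (kc xc6 yc22 zc12) (kc xc1 yc30 zc33) (kc xc5 yc51 zc57) (kc xc6 yc22 zc16) (kc xc1 yc30 zc34) (kc xc1 yc36 zc11) (kc xc1 yc36 zc12) (kc xc4 yc52 zc14) (kc xc6 yc22 zc29) (kc xc1 yc30 zc36) (kc xc1 yc30 zc37) (kc xc6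 yc22 zc32) (kc xc6 yc22 zc33) (kc xc1 yc30 zc39)) (@D3.rec (fun _ => Pt) (kc xc6 yc10 zc5) (kc xc6 yc22 zc37) (kc xc1 yc30 zc41) (kc xc6 yc22 zc44) (kc xc6 yc22 zc45) (kc xc6 yc22 zc47) (kc xc6 yc22 zc49) (kc xc1 yc30 zc44) (kc xc6 yc22 zc55) (kc xc6 yc22 zc53) (kc xc1 yc30 zc46) (kc xc6 yc23 zc5) (kc xc6 yc23 zc7) (kc xc6 yc23 zc4) (kc xc6 yc23 zc8) (kc xc1 yc30 zc47) (kc xc6 yc23 zc14) (kc xc6 yc23 zc12) (kc xc1 yc30 zc49) (kc xc3 yc22 zc9) (kc xc3 yc22 zc10) (kc xc6 yc23 zc23) (kc xc6 yc23 zc28) (kc xc6 yc23 zc33) (kc xc6 yc21 zc3) (kc xc6 yc23 zc39) (kc xc2 yc24 zc35) (kc xc1 yc32 zc20) (kc xc1 yc30 zc53) (kc xc6 yc23 zc48) (kc xc6 yc23 zc50) (kc xc3 yc9 zc31) (kc xc1 yc30 zc55) (kc xc6 yc23 zc53) (kc xc1 yc30 zc57) (kc xc6 yc23 zc58) (kc xc6 yc23 zc56) (kc xc1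 yc30 zc59) (kc xc5 yc4 zc19) (kc xc6 yc24 zc1) (kc xc3 yc8 zc1) (kc xc6 yc24 zc3) (kc xc1 yc31 zc0) (kc xc6 yc24 zc8) (kc xc6 yc24 zc6) (kc xc1 yc31 zc2) (kc xc6 yc19 zc31) (kc xc6 yc24 zc20) (kc xc6 yc24 zc16) (kc xc2 yc48 zc60) (kc xc3 yc57 zc38) (kc xc1 yc31 zc4) (kc xc6 yc24 zc27) (kc xc6 yc24 zc26) (kc xc2 yc49 zc54) (kc xc6 yc24 zc33) (kc xc2 yc44 zc55) (kc xc6 yc24 zc37) (kc xc1 yc31 zc7) (kc xc6 yc24 zc40) (kc xc2 yc49 zc58) (kc xc4 yc26 zc17)) (@D3.rec (fun _ => Pt) (kc xc4 yc24 zc4) (kc xc4 yc24 zc5) (kc xc6 yc24 zc54) (kc xc6 yc13 zc54) (kc xc6 yc24 zc56) (kc xc6 yc24 zc58) (kc xc1 yc31 zc11) (kc xc3 yc41 zc20) (kc xc6 yc25 zc1) (kc xc1 yc31 zc14) (kc xc3 yc4 zc43) (kc xc4 yc34 zc19) (kc xc6 yc25 zc5) (kc xc1 yc31 zc16) (kc xc6 yc25 zc9) (kc xc6 yc25 zc12)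 (kc xc1 yc31 zc20) (kc xc1 yc31 zc19) (kc xc6 yc25 zc17) (kc xc6 yc25 zc21) (kc xc5 yc50 zc14) (kc xc2 yc13 zc53) (kc xc4 yc37 zc55) (kc xc6 yc16 zc56) (kc xc2 yc17 zc44) (kc xc6 yc25 zc29) (kc xc2 yc46 zc41) (kc xc6 yc25 zc34) (kc xc1 yc31 zc29) (kc xc3 yc4 zc55) (kc xc3 yc43 zc24) (kc xc3 yc7 zc28) (kc xc3 yc5 zc49) (kc xc3 yc12 zc26) (kc xc5 yc52 zc0) (kc xc6 yc10 zc0) (kc xc3 yc12 zc29) (kc xc2 yc24 zc37) (kc xc6 yc25 zc44) (kc xc1 yc31 zc41) (kc xc1 yc31 zc42) (kc xc2 yc20 zc39) (kc xc2 yc21 zc0) (kc xc3 yc19 zc3) (kc xc1 yc31 zc45) (kc xc3 yc16 zc38) (kc xc6 yc25 zc59) (kc xc1 yc37 zc3) (kc xc1 yc40 zc15) (kc xc3 yc12 zc18) (kc xc3 yc12 zc9) (kc xc6 yc19 zc38) (kc xc6 yc26 zc6) (kc xc1 yc31 zc51) (kc xc6 yc26 zc10) (kc xc2 yc21 zc39) (kc xc1 yc39 zc13) (kc xc2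 yc23 zc59) (kc xc6 yc26 zc12) (kc xc1 yc31 zc54) (kc xc6 yc26 zc15) (kc xc2 yc23 zc58)) (@D3.rec (fun _ => Pt) (kc xc1 yc31 zc57) (kc xc6 yc26 zc19) (kc xc1 yc31 zc58) (kc xc3 yc35 zc25) (kc xc1 yc32 zc19) (kc xc1 yc31 zc60) (kc xc6 yc26 zc25) (kc xc6 yc26 zc26) (kc xc1 yc31 zc61) (kc xc6 yc26 zc32) (kc xc6 yc26 zc28) (kc xc2 yc48 zc49) (kc xc6 yc26 zc37) (kc xc6 yc26 zc38) (kc xc1 yc32 zc1) (kc xc6 yc26 zc43) (kc xc6 yc26 zc45) (kc xc1 yc32 zc2) (kc xc6 yc26 zc52) (kc xc3 yc18 zc23) (kc xc6 yc26 zc48) (kc xc6 yc26 zc59) (kc xc1 yc32 zc5) (kc xc1 yc32 zc4) (kc xc6 yc27 zc2) (kc xc6 yc27 zc4) (kc xc1 yc32 zc6) (kc xc5 yc52 zc47) (kc xc6 yc27 zc8) (kc xc6 yc27 zc10) (kc xc1 yc32 zc7) (kc xc6 yc27 zc14) (kc xc1 yc36 zc28) (kc xc1 yc36 zc29) (kc xc6 yc26 zc9) (kc xc5 yc42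 zc15) (kc xc1 yc32 zc9) (kc xc6 yc23 zc43) (kc xc1 yc32 zc10) (kc xc6 yc27 zc29) (kc xc6 yc27 zc31) (kc xc6 yc27 zc34) (kc xc1 yc32 zc12) (kc xc6 yc27 zc40) (kc xc6 yc27 zc38) (kc xc1 yc32 zc14) (kc xc6 yc12 zc59) (kc xc6 yc12 zc60) (kc xc6 yc27 zc49) (kc xc6 yc27 zc50) (kc xc6 yc27 zc51) (kc xc6 yc27 zc53) (kc xc1 yc32 zc17) (kc xc6 yc27 zc57) (kc xc6 yc28 zc1) (kc xc6 yc28 zc4) (kc xc6 yc26 zc24) (kc xc6 yc28 zc6) (kc xc1 yc32 zc24) (kc xc6 yc10 zc50) (kc xc3 yc7 zc1) (kc xc6 yc28 zc9)) (@D3.rec (fun _ => Pt) (kc xc6 yc18 zc3) (kc xc1 yc33 zc53) (kc xc6 yc28 zc10) (kc xc4 yc35 zc32) (kc xc1 yc32 zc33) (kc xc6 yc28 zc15) (kc xc3 yc15 zc2) (kc xc3 yc1 zc51) (kc xc1 yc50 zc43) (kc xc3 yc10 zc50) (kc xc1 yc32 zc36) (kc xc6 yc28 zc28) (kc xc6 yc28 zc30) (kc xc6 yc28 zc27)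 (kc xc2 yc20 zc31) (kc xc1 yc32 zc37) (kc xc6 yc28 zc33) (kc xc6 yc28 zc32) (kc xc3 yc10 zc49) (kc xc1 yc32 zc39) (kc xc6 yc28 zc47) (kc xc6 yc28 zc48) (kc xc2 yc6 zc15) (kc xc6 yc28 zc46) (kc xc6 yc28 zc53) (kc xc2 yc52 zc11) (kc xc3 yc10 zc33) (kc xc3 yc43 zc10) (kc xc2 yc52 zc14) (kc xc3 yc10 zc36) (kc xc6 yc10 zc28) (kc xc6 yc29 zc7) (kc xc1 yc32 zc44) (kc xc6 yc29 zc14) (kc xc6 yc29 zc12) (kc xc1 yc32 zc45) (kc xc6 yc29 zc17) (kc xc6 yc18 zc14) (kc xc1 yc32 zc47) (kc xc6 yc29 zc29) (kc xc6 yc29 zc32) (kc xc6 yc29 zc27) (kc xc4 yc49 zc31) (kc xc4 yc33 zc50) (kc xc4 yc40 zc5) (kc xc4 yc40 zc59) (kc xc1 yc32 zc51) (kc xc6 yc29 zc35) (kc xc3 yc24 zc28) (kc xc1 yc32 zc53) (kc xc6 yc29 zc44) (kc xc6 yc29 zc47) (kc xc6 yc29 zc43) (kc xc6 yc29 zc50) (kc xc5 yc45 zc59)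 (kc xc6 yc29 zc51) (kc xc4 yc40 zc8) (kc xc3 yc15 zc40) (kc xc1 yc32 zc57) (kc xc6 yc29 zc59) (kc xc6 yc29 zc56) (kc xc6 yc29 zc54)) (@D3.rec (fun _ => Pt) (kc xc1 yc32 zc60) (kc xc3 yc20 zc61) (kc xc2 yc22 zc31) (kc xc1 yc32 zc59) (kc xc5 yc0 zc15) (kc xc5 yc57 zc18) (kc xc5 yc48 zc61) (kc xc6 yc30 zc7) (kc xc3 yc14 zc13) (kc xc1 yc32 zc61) (kc xc6 yc30 zc15) (kc xc6 yc30 zc12) (kc xc6 yc30 zc10) (kc xc2 yc12 zc3) (kc xc1 yc33 zc2) (kc xc4 yc33 zc46) (kc xc6 yc30 zc26) (kc xc6 yc30 zc25) (kc xc4 yc43 zc12) (kc xc4 yc43 zc13) (kc xc3 yc14 zc9) (kc xc3 yc14 zc7) (kc xc3 yc7 zc46) (kc xc1 yc33 zc8) (kc xc5 yc50 zc22) (kc xc3 yc15 zc29) (kc xc3 yc15 zc27) (kc xc3 yc7 zc45) (kc xc1 yc33 zc11) (kc xc4 yc11 zc38) (kc xc3 yc1 zc25) (kc xc1 yc53 zc41) (kc xc3 yc56 zc47) (kc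 xc1 yc48 zc1) (kc xc1 yc48 zc0) (kc xc4 yc37 zc11) (kc xc1 yc47 zc39) (kc xc1 yc33 zc22) (kc xc6 yc30 zc57) (kc xc6 yc30 zc60) (kc xc6 yc30 zc56) (kc xc6 yc31 zc0) (kc xc1 yc33 zc24) (kc xc1 yc33 zc25) (kc xc6 yc31 zc7) (kc xc6 yc31 zc5) (kc xc1 yc47 zc38) (kc xc1 yc33 zc27) (kc xc4 yc44 zc5) (kc xc1 yc33 zc29) (kc xc6 yc31 zc15) (kc xc6 yc31 zc18) (kc xc4 yc43 zc56) (kc xc1 yc47 zc60) (kc xc1 yc47 zc59) (kc xc3 yc20 zc20) (kc xc1 yc47 zc36) (kc xc1 yc33 zc32) (kc xc1 yc33 zc33) (kc xc6 yc31 zc31) (kc xc6 yc31 zc30) (kc xc1 yc47 zc33)) (@D3.rec (fun _ => Pt) (kc xc1 yc33 zc35) (kc xc6 yc31 zc40) (kc xc6 yc31 zc43) (kc xc6 yc31 zc39) (kc xc3 yc45 zc18) (kc xc1 yc47 zc28) (kc xc3 yc25 zc15) (kc xc3 yc13 zc21) (kc xc1 yc47 zc23) (kc xc3 yc13 zc20) (kc xc1 yc47 zc13) (kc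 xc1 yc47 zc2) (kc xc3 yc42 zc57) (kc xc3 yc13 zc8) (kc xc2 yc19 zc41) (kc xc6 yc32 zc12) (kc xc1 yc33 zc42) (kc xc6 yc28 zc13) (kc xc1 yc33 zc40) (kc xc6 yc32 zc20) (kc xc6 yc32 zc18) (kc xc1 yc33 zc41) (kc xc6 yc32 zc27) (kc xc6 yc32 zc26) (kc xc1 yc33 zc43) (kc xc6 yc32 zc32) (kc xc6 yc32 zc31) (kc xc1 yc33 zc44) (kc xc2 yc57 zc39) (kc xc5 yc57 zc19) (kc xc1 yc33 zc46) (kc xc6 yc32 zc38) (kc xc6 yc32 zc37) (kc xc1 yc33 zc47) (kc xc6 yc32 zc41) (kc xc3 yc19 zc47) (kc xc3 yc23 zc0) (kc xc3 yc23 zc19) (kc xc1 yc33 zc51) (kc xc1 yc33 zc52) (kc xc6 yc32 zc50) (kc xc6 yc32 zc52) (kc xc6 yc32 zc48) (kc xc3 yc15 zc3) (kc xc1 yc33 zc55) (kc xc6 yc32 zc60) (kc xc6 yc32 zc61) (kc xc6 yc33 zc1) (kc xc1 yc33 zc57) (kc xc3 yc42 zc53) (kc xc2 yc20 zc7) (kc xc1 yc49 zc29) (kc xc1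 yc49 zc47) (kc xc1 yc33 zc60) (kc xc6 yc33 zc16) (kc xc6 yc33 zc18) (kc xc6 yc33 zc15) (kc xc1 yc33 zc61) (kc xc6 yc33 zc21) (kc xc6 yc33 zc19) (kc xc1 yc51 zc17) (kc xc1 yc34 zc1)) (@D3.rec (fun _ => Pt) (kc xc4 yc44 zc43) (kc xc3 yc45 zc12) (kc xc3 yc12 zc6) (kc xc3 yc14 zc43) (kc xc3 yc45 zc53) (kc xc1 yc34 zc10) (kc xc6 yc33 zc38) (kc xc4 yc44 zc28) (kc xc1 yc34 zc14) (kc xc6 yc33 zc44) (kc xc6 yc33 zc46) (kc xc6 yc33 zc49) (kc xc6 yc33 zc43) (kc xc1 yc34 zc15) (kc xc1 yc34 zc16) (kc xc6 yc33 zc54) (kc xc1 yc34 zc31) (kc xc6 yc10 zc46) (kc xc1 yc34 zc19) (kc xc3 yc46 zc60) (kc xc3 yc28 zc48) (kc xc3 yc40 zc46) (kc xc3 yc29 zc23) (kc xc3 yc40 zc45) (kc xc1 yc34 zc26) (kc xc3 yc29 zc43) (kc xc3 yc37 zc49) (kc xc3 yc13 zc26) (kc xc1 yc51 zc20) (kc xc3 yc13 zc25) (kc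 xc3 yc43 zc21) (kc xc1 yc51 zc21) (kc xc3 yc28 zc32) (kc xc5 yc56 zc15) (kc xc6 yc33 zc57) (kc xc6 yc33 zc58) (kc xc3 yc29 zc25) (kc xc3 yc29 zc26) (kc xc1 yc52 zc31) (kc xc2 yc19 zc44) (kc xc3 yc12 zc57) (kc xc6 yc34 zc43) (kc xc1 yc34 zc34) (kc xc6 yc34 zc47) (kc xc6 yc34 zc46) (kc xc4 yc43 zc55) (kc xc1 yc34 zc41) (kc xc2 yc31 zc25) (kc xc3 yc24 zc34) (kc xc3 yc29 zc28) (kc xc3 yc17 zc11) (kc xc5 yc56 zc41) (kc xc6 yc34 zc52) (kc xc6 yc35 zc2) (kc xc6 yc19 zc18) (kc xc1 yc52 zc29) (kc xc6 yc28 zc8) (kc xc1 yc34 zc44) (kc xc6 yc35 zc12) (kc xc6 yc35 zc11) (kc xc1 yc50 zc49) (kc xc1 yc34 zc46)) (@D3.rec (fun _ => Pt) (kc xc6 yc35 zc22) (kc xc6 yc35 zc25) (kc xc6 yc35 zc21) (kc xc1 yc34 zc47) (kc xc6 yc35 zc26) (kc xc1 yc50 zc46) (kc xc1 yc34 zc49) (kc xc6 yc35 zc33)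 (kc xc6 yc35 zc31) (kc xc3 yc23 zc11) (kc xc3 yc49 zc56) (kc xc1 yc50 zc38) (kc xc3 yc28 zc43) (kc xc6 yc35 zc43) (kc xc6 yc35 zc47) (kc xc4 yc45 zc18) (kc xc3 yc27 zc19) (kc xc4 yc45 zc20) (kc xc1 yc52 zc38) (kc xc3 yc23 zc47) (kc xc6 yc26 zc53) (kc xc6 yc36 zc7) (kc xc1 yc34 zc57) (kc xc6 yc23 zc3) (kc xc1 yc34 zc55) (kc xc6 yc36 zc12) (kc xc1 yc34 zc56) (kc xc6 yc36 zc15) (kc xc1 yc34 zc58) (kc xc6 yc36 zc17) (kc xc1 yc37 zc33) (kc xc1 yc35 zc1) (kc xc6 yc18 zc4) (kc xc1 yc34 zc60) (kc xc6 yc36 zc30) (kc xc6 yc36 zc32) (kc xc6 yc36 zc35) (kc xc6 yc36 zc29) (kc xc3 yc10 zc45) (kc xc2 yc19 zc27) (kc xc3 yc42 zc5) (kc xc3 yc38 zc11) (kc xc6 yc24 zc39) (kc xc6 yc36 zc24) (kc xc2 yc49 zc51) (kc xc6 yc36 zc25) (kc xc1 yc49 zc58) (kc xc1 yc49 zc61) (kc xc1 yc52 zc13) (kc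 xc6 yc29 zc60) (kc xc6 yc37 zc1) (kc xc6 yc37 zc5) (kc xc1 yc35 zc7) (kc xc1 yc35 zc4) (kc xc6 yc37 zc11) (kc xc6 yc37 zc9) (kc xc1 yc35 zc5) (kc xc6 yc37 zc14) (kc xc6 yc37 zc15) (kc xc6 yc37 zc17) (kc xc1 yc35 zc6) (kc xc6 yc37 zc22)) (@D3.rec (fun _ => Pt) (kc xc1 yc35 zc8) (kc xc6 yc37 zc24) (kc xc1 yc35 zc11) (kc xc5 yc51 zc54) (kc xc1 yc35 zc10) (kc xc4 yc43 zc15) (kc xc2 yc2 zc46) (kc xc6 yc37 zc33) (kc xc6 yc10 zc32) (kc xc6 yc2 zc17) (kc xc6 yc37 zc27) (kc xc3 yc15 zc50) (kc xc6 yc37 zc29) (kc xc1 yc52 zc3) (kc xc3 yc8 zc13) (kc xc3 yc8 zc19) (kc xc6 yc37 zc57) (kc xc1 yc35 zc17) (kc xc1 yc35 zc14) (kc xc6 yc38 zc0) (kc xc1 yc35 zc15) (kc xc6 yc38 zc4) (kc xc6 yc38 zc3) (kc xc6 yc38 zc5) (kc xc6 yc38 zc7) (kc xc1 yc35 zc16) (kc xc6 yc38 zc12) (kc xc6 yc38 zc14)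 (kc xc6 yc38 zc18) (kc xc3 yc49 zc60) (kc xc1 yc35 zc18) (kc xc6 yc38 zc23) (kc xc6 yc38 zc22) (kc xc1 yc51 zc46) (kc xc6 yc38 zc35) (kc xc3 yc28 zc42) (kc xc5 yc51 zc53) (kc xc5 yc55 zc18) (kc xc1 yc51 zc22) (kc xc6 yc38 zc49) (kc xc3 yc28 zc57) (kc xc6 yc25 zc55) (kc xc1 yc35 zc24) (kc xc6 yc38 zc57) (kc xc6 yc38 zc55) (kc xc4 yc59 zc24) (kc xc5 yc52 zc17) (kc xc4 yc59 zc21) (kc xc4 yc26 zc19) (kc xc1 yc36 zc37) (kc xc6 yc39 zc12) (kc xc6 yc39 zc14) (kc xc1 yc35 zc27) (kc xc6 yc39 zc17) (kc xc6 yc39 zc23) (kc xc6 yc39 zc27) (kc xc6 yc39 zc32) (kc xc1 yc36 zc41) (kc xc6 yc39 zc34) (kc xc1 yc50 zc29) (kc xc1 yc50 zc6) (kc xc6 yc39 zc16)) (@D3.rec (fun _ => Pt) (kc xc1 yc35 zc32) (kc xc6 yc39 zc51) (kc xc6 yc39 zc53) (kc xc6 yc39 zc58) (kc xc6 yc39 zc50) (kc xc1 yc50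 zc56) (kc xc6 yc40 zc4) (kc xc1 yc35 zc34) (kc xc6 yc40 zc10) (kc xc3 yc22 zc42) (kc xc5 yc7 zc1) (kc xc1 yc35 zc35) (kc xc6 yc40 zc18) (kc xc6 yc21 zc35) (kc xc6 yc40 zc24) (kc xc6 yc40 zc27) (kc xc1 yc35 zc36) (kc xc6 yc40 zc33) (kc xc1 yc35 zc46) (kc xc4 yc43 zc25) (kc xc3 yc22 zc39) (kc xc6 yc40 zc42) (kc xc1 yc35 zc39) (kc xc3 yc11 zc19) (kc xc6 yc40 zc43) (kc xc6 yc40 zc51) (kc xc6 yc40 zc53) (kc xc6 yc40 zc54) (kc xc1 yc35 zc41) (kc xc6 yc40 zc57) (kc xc6 yc20 zc20) (kc xc6 yc40 zc58) (kc xc1 yc35 zc42) (kc xc6 yc20 zc2) (kc xc6 yc41 zc0) (kc xc6 yc40 zc61) (kc xc6 yc41 zc6) (kc xc1 yc35 zc45) (kc xc1 yc35 zc44) (kc xc6 yc40 zc20) (kc xc6 yc41 zc10) (kc xc6 yc41 zc13) (kc xc1 yc35 zc47) (kc xc6 yc41 zc17) (kc xc1 yc35 zc48) (kc xc6 yc41 zc20) (kc xc6 yc41 zc21)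 (kc xc6 yc41 zc24) (kc xc1 yc35 zc49) (kc xc6 yc41 zc30) (kc xc1 yc35 zc52) (kc xc1 yc35 zc55) (kc xc1 yc35 zc56) (kc xc1 yc41 zc6) (kc xc3 yc35 zc26) (kc xc1 yc37 zc32) (kc xc6 yc41 zc49) (kc xc4 yc47 zc43) (kc xc1 yc35 zc59) (kc xc6 yc41 zc58) (kc xc6 yc41 zc60) (kc xc6 yc42 zc1)) (@D3.rec (fun _ => Pt) (kc xc6 yc41 zc57) (kc xc3 yc45 zc4) (kc xc1 yc46 zc58) (kc xc3 yc10 zc43) (kc xc1 yc47 zc11) (kc xc1 yc48 zc60) (kc xc1 yc48 zc53) (kc xc3 yc54 zc50) (kc xc6 yc42 zc19) (kc xc3 yc8 zc41) (kc xc6 yc42 zc25) (kc xc1 yc36 zc5) (kc xc6 yc19 zc39) (kc xc1 yc36 zc2) (kc xc6 yc42 zc32) (kc xc6 yc42 zc29) (kc xc6 yc42 zc34) (kc xc1 yc36 zc3) (kc xc6 yc42 zc38) (kc xc6 yc42 zc39) (kc xc6 yc42 zc42) (kc xc1 yc36 zc4) (kc xc6 yc42 zc47) (kc xc1 yc36 zc6) (kc xc6 yc42 zc50) (kc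 xc6 yc42 zc49) (kc xc6 yc42 zc52) (kc xc1 yc36 zc7) (kc xc6 yc26 zc8) (kc xc1 yc36 zc9) (kc xc6 yc23 zc41) (kc xc5 yc0 zc16) (kc xc6 yc42 zc56) (kc xc4 yc39 zc6) (kc xc6 yc42 zc57) (kc xc6 yc2 zc41) (kc xc2 yc18 zc24) (kc xc2 yc18 zc25) (kc xc6 yc42 zc45) (kc xc6 yc43 zc6) (kc xc1 yc36 zc14) (kc xc6 yc43 zc9) (kc xc4 yc48 zc12) (kc xc2 yc21 zc48) (kc xc1 yc36 zc16) (kc xc6 yc43 zc18) (kc xc4 yc45 zc36) (kc xc3 yc14 zc35) (kc xc3 yc7 zc27) (kc xc3 yc27 zc11) (kc xc3 yc48 zc31) (kc xc4 yc44 zc35) (kc xc6 yc43 zc31) (kc xc6 yc43 zc35) (kc xc1 yc36 zc23) (kc xc1 yc36 zc21) (kc xc6 yc43 zc39) (kc xc6 yc43 zc41) (kc xc6 yc43 zc44) (kc xc1 yc36 zc22) (kc xc6 yc43 zc50) (kc xc6 yc43 zc53)) (@D3.rec (fun _ => Pt) (kc xc6 yc43 zc54) (kc xc1 yc36 zc24) (kc xc1 yc36 zc25) (kc xc6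 yc43 zc56) (kc xc1 yc36 zc26) (kc xc6 yc2 zc9) (kc xc6 yc27 zc16) (kc xc6 yc43 zc58) (kc xc6 yc27 zc19) (kc xc2 yc19 zc32) (kc xc2 yc19 zc33) (kc xc6 yc43 zc48) (kc xc5 yc40 zc48) (kc xc1 yc36 zc31) (kc xc6 yc44 zc12) (kc xc6 yc44 zc13) (kc xc1 yc36 zc32) (kc xc6 yc44 zc15) (kc xc2 yc50 zc11) (kc xc6 yc44 zc21) (kc xc3 yc13 zc55) (kc xc1 yc36 zc34) (kc xc6 yc38 zc59) (kc xc6 yc44 zc29) (kc xc6 yc16 zc54) (kc xc6 yc44 zc34) (kc xc1 yc36 zc36) (kc xc6 yc39 zc3) (kc xc6 yc44 zc43) (kc xc6 yc44 zc39) (kc xc6 yc44 zc45) (kc xc6 yc44 zc48) (kc xc6 yc39 zc10) (kc xc5 yc7 zc23) (kc xc1 yc36 zc38) (kc xc6 yc44 zc58) (kc xc5 yc3 zc27) (kc xc2 yc33 zc38) (kc xc1 yc36 zc39) (kc xc6 yc45 zc4) (kc xc6 yc45 zc3) (kc xc1 yc36 zc40) (kc xc6 yc45 zc12) (kc xc6 yc45 zc13) (kc xc1 yc36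 zc42) (kc xc6 yc45 zc19) (kc xc6 yc45 zc17) (kc xc6 yc45 zc26) (kc xc6 yc45 zc28) (kc xc1 yc36 zc43) (kc xc6 yc45 zc33) (kc xc6 yc45 zc38) (kc xc1 yc38 zc23) (kc xc6 yc45 zc39) (kc xc6 yc45 zc41) (kc xc1 yc36 zc45) (kc xc6 yc45 zc48) (kc xc6 yc45 zc45) (kc xc1 yc36 zc46) (kc xc6 yc45 zc53) (kc xc1 yc37 zc13) (kc xc3 yc13 zc1)) (@D3.rec (fun _ => Pt) (kc xc6 yc45 zc54) (kc xc1 yc36 zc48) (kc xc3 yc6 zc60) (kc xc6 yc45 zc58) (kc xc6 yc46 zc1) (kc xc1 yc36 zc49) (kc xc6 yc22 zc14) (kc xc1 yc59 zc58) (kc xc5 yc0 zc22) (kc xc6 yc45 zc10) (kc xc4 yc41 zc0) (kc xc1 yc36 zc51) (kc xc6 yc46 zc14) (kc xc1 yc36 zc52) (kc xc1 yc36 zc53) (kc xc3 yc23 zc43) (kc xc3 yc42 zc8) (kc xc1 yc36 zc56) (kc xc6 yc46 zc19) (kc xc6 yc46 zc20) (kc xc1 yc36 zc55) (kc xc6 yc46 zc23) (kc xc6 yc46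 zc24) (kc xc6 yc46 zc28) (kc xc6 yc46 zc30) (kc xc2 yc31 zc1) (kc xc5 yc14 zc20) (kc xc6 yc46 zc36) (kc xc6 yc46 zc39) (kc xc1 yc36 zc59) (kc xc6 yc46 zc40) (kc xc2 yc18 zc5) (kc xc6 yc46 zc46) (kc xc1 yc36 zc61) (kc xc1 yc37 zc0) (kc xc6 yc45 zc29) (kc xc6 yc46 zc21) (kc xc6 yc12 zc14) (kc xc1 yc37 zc2) (kc xc1 yc37 zc4) (kc xc1 yc37 zc5) (kc xc6 yc46 zc60) (kc xc6 yc47 zc0) (kc xc1 yc37 zc9) (kc xc6 yc47 zc8) (kc xc1 yc37 zc8) (kc xc1 yc37 zc7) (kc xc6 yc47 zc16) (kc xc6 yc47 zc18) (kc xc6 yc47 zc3) (kc xc6 yc47 zc22) (kc xc6 yc47 zc5) (kc xc1 yc37 zc10) (kc xc6 yc47 zc29) (kc xc3 yc58 zc41) (kc xc1 yc37 zc14) (kc xc6 yc47 zc14) (kc xc6 yc12 zc15) (kc xc1 yc37 zc15) (kc xc1 yc37 zc16) (kc xc6 yc47 zc41) (kc xc6 yc47 zc39)) (@D3.rec (fun _ => Pt) (kc xc6 yc26 zc7)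 (kc xc1 yc37 zc17) (kc xc6 yc47 zc44) (kc xc1 yc37 zc19) (kc xc6 yc47 zc46) (kc xc1 yc37 zc20) (kc xc6 yc47 zc48) (kc xc6 yc47 zc51) (kc xc1 yc37 zc21) (kc xc3 yc9 zc19) (kc xc3 yc9 zc20) (kc xc6 yc41 zc27) (kc xc5 yc6 zc55) (kc xc6 yc48 zc2) (kc xc6 yc48 zc5) (kc xc1 yc37 zc23) (kc xc6 yc48 zc8) (kc xc6 yc48 zc13) (kc xc1 yc37 zc25) (kc xc6 yc48 zc19) (kc xc6 yc48 zc17) (kc xc1 yc37 zc27) (kc xc6 yc23 zc42) (kc xc1 yc37 zc28) (kc xc6 yc48 zc31) (kc xc6 yc48 zc29) (kc xc1 yc37 zc30) (kc xc6 yc48 zc41) (kc xc6 yc48 zc45) (kc xc6 yc48 zc40) (kc xc6 yc48 zc48) (kc xc2 yc18 zc36) (kc xc6 yc48 zc53) (kc xc6 yc48 zc57) (kc xc6 yc41 zc45) (kc xc6 yc36 zc21) (kc xc1 yc37 zc34) (kc xc6 yc49 zc1) (kc xc1 yc37 zc35) (kc xc3 yc18 zc20) (kc xc6 yc21 zc5) (kc xc1 yc37 zc37) (kc xc3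 yc18 zc9) (kc xc5 yc11 zc23) (kc xc6 yc37 zc54) (kc xc6 yc49 zc7) (kc xc6 yc49 zc8) (kc xc3 yc1 zc29) (kc xc1 yc37 zc44) (kc xc6 yc49 zc10) (kc xc1 yc42 zc46) (kc xc6 yc49 zc15) (kc xc1 yc37 zc48) (kc xc4 yc48 zc17) (kc xc1 yc48 zc49) (kc xc1 yc37 zc51) (kc xc6 yc31 zc13) (kc xc6 yc49 zc22) (kc xc1 yc37 zc52) (kc xc6 yc49 zc25) (kc xc1 yc40 zc14) (kc xc1 yc37 zc55)) (@D3.rec (fun _ => Pt) (kc xc3 yc14 zc36) (kc xc1 yc37 zc57) (kc xc6 yc49 zc33) (kc xc1 yc37 zc58) (kc xc6 yc49 zc34) (kc xc1 yc42 zc31) (kc xc6 yc36 zc20) (kc xc1 yc37 zc60) (kc xc6 yc49 zc42) (kc xc6 yc49 zc43) (kc xc6 yc46 zc18) (kc xc3 yc16 zc9) (kc xc1 yc48 zc34) (kc xc1 yc47 zc8) (kc xc1 yc40 zc12) (kc xc1 yc38 zc1) (kc xc6 yc49 zc54) (kc xc6 yc49 zc57) (kc xc6 yc49 zc53) (kc xc3 yc14 zc37) (kc xc1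 yc38 zc2) (kc xc6 yc49 zc61) (kc xc6 yc49 zc60) (kc xc1 yc40 zc9) (kc xc1 yc38 zc4) (kc xc6 yc42 zc7) (kc xc6 yc50 zc12) (kc xc6 yc50 zc9) (kc xc6 yc50 zc17) (kc xc1 yc40 zc3) (kc xc3 yc24 zc19) (kc xc4 yc45 zc6) (kc xc1 yc39 zc57) (kc xc3 yc24 zc24) (kc xc2 yc18 zc60) (kc xc2 yc16 zc3) (kc xc1 yc38 zc19) (kc xc6 yc50 zc29) (kc xc1 yc38 zc20) (kc xc1 yc39 zc44) (kc xc1 yc39 zc29) (kc xc3 yc50 zc53) (kc xc1 yc39 zc48) (kc xc3 yc21 zc15) (kc xc4 yc58 zc50) (kc xc1 yc38 zc13) (kc xc1 yc38 zc14) (kc xc3 yc16 zc19) (kc xc1 yc38 zc11) (kc xc2 yc33 zc39) (kc xc2 yc30 zc48) (kc xc6 yc50 zc48) (kc xc1 yc38 zc12) (kc xc5 yc6 zc58) (kc xc6 yc50 zc51) (kc xc4 yc48 zc18) (kc xc6 yc50 zc52) (kc xc6 yc50 zc55) (kc xc6 yc50 zc57) (kc xc6 yc50 zc58) (kc xc1 yc38 zc17) (kc xc6 yc50 zc61))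 (@D3.rec (fun _ => Pt) (kc xc5 yc55 zc34) (kc xc1 yc38 zc18) (kc xc6 yc51 zc3) (kc xc6 yc50 zc27) (kc xc6 yc51 zc7) (kc xc6 yc51 zc11) (kc xc5 yc22 zc5) (kc xc4 yc49 zc36) (kc xc4 yc49 zc37) (kc xc1 yc38 zc21) (kc xc6 yc40 zc60) (kc xc6 yc51 zc19) (kc xc1 yc38 zc22) (kc xc1 yc38 zc25) (kc xc6 yc51 zc21) (kc xc6 yc51 zc22) (kc xc2 yc16 zc33) (kc xc3 yc31 zc8) (kc xc4 yc41 zc44) (kc xc3 yc23 zc30) (kc xc1 yc40 zc55) (kc xc6 yc23 zc10) (kc xc1 yc38 zc35) (kc xc6 yc51 zc27) (kc xc3 yc23 zc33) (kc xc6 yc22 zc52) (kc xc1 yc38 zc39) (kc xc3 yc24 zc27) (kc xc3 yc12 zc48) (kc xc1 yc38 zc41) (kc xc6 yc51 zc38) (kc xc6 yc51 zc39) (kc xc6 yc51 zc37) (kc xc1 yc40 zc51) (kc xc3 yc15 zc48) (kc xc3 yc50 zc60) (kc xc1 yc38 zc43) (kc xc3 yc43 zc31) (kc xc3 yc43 zc30) (kc xc3 yc43 zc28)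 (kc xc1 yc38 zc46) (kc xc3 yc32 zc14) (kc xc3 yc29 zc17) (kc xc1 yc38 zc48) (kc xc6 yc51 zc56) (kc xc3 yc30 zc36) (kc xc3 yc29 zc14) (kc xc6 yc52 zc4) (kc xc1 yc38 zc52) (kc xc3 yc29 zc6) (kc xc1 yc38 zc50) (kc xc6 yc52 zc13) (kc xc6 yc52 zc11) (kc xc3 yc43 zc52) (kc xc1 yc38 zc51) (kc xc6 yc52 zc19) (kc xc6 yc52 zc18) (kc xc1 yc38 zc53) (kc xc6 yc52 zc23) (kc xc6 yc52 zc21) (kc xc1 yc38 zc56) (kc xc6 yc52 zc25)) (@D3.rec (fun _ => Pt) (kc xc3 yc43 zc22) (kc xc6 yc9 zc25) (kc xc1 yc38 zc60) (kc xc1 yc38 zc61) (kc xc1 yc39 zc0) (kc xc1 yc43 zc52) (kc xc6 yc52 zc31) (kc xc1 yc39 zc4) (kc xc3 yc44 zc26) (kc xc1 yc39 zc6) (kc xc3 yc32 zc2) (kc xc1 yc45 zc59) (kc xc1 yc39 zc8) (kc xc6 yc52 zc42) (kc xc1 yc42 zc32) (kc xc3 yc14 zc6) (kc xc6 yc51 zc23) (kc xc1 yc39 zc14) (kc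 xc1 yc39 zc15) (kc xc1 yc39 zc16) (kc xc3 yc37 zc43) (kc xc1 yc41 zc23) (kc xc6 yc52 zc57) (kc xc1 yc39 zc18) (kc xc1 yc51 zc15) (kc xc1 yc50 zc0) (kc xc1 yc50 zc7) (kc xc1 yc50 zc8) (kc xc3 yc30 zc2) (kc xc1 yc39 zc22) (kc xc6 yc53 zc4) (kc xc1 yc39 zc24) (kc xc2 yc55 zc6) (kc xc4 yc34 zc46) (kc xc1 yc48 zc59) (kc xc2 yc55 zc36) (kc xc1 yc48 zc58) (kc xc2 yc55 zc5) (kc xc1 yc49 zc32) (kc xc3 yc25 zc40) (kc xc3 yc25 zc39) (kc xc3 yc29 zc59) (kc xc2 yc53 zc2) (kc xc3 yc29 zc61) (kc xc6 yc31 zc6) (kc xc2 yc56 zc53) (kc xc6 yc50 zc36) (kc xc1 yc49 zc36) (kc xc1 yc49 zc37) (kc xc6 yc53 zc35) (kc xc1 yc39 zc32) (kc xc1 yc39 zc31) (kc xc6 yc53 zc40) (kc xc6 yc53 zc39) (kc xc1 yc54 zc6) (kc xc3 yc43 zc32) (kc xc1 yc49 zc2) (kc xc1 yc39 zc43) (kc xc6 yc53 zc49) (kc xc1 yc39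 zc38) (kc xc1 yc49 zc10) (kc xc1 yc49 zc11)) (@D3.rec (fun _ => Pt) (kc xc4 yc40 zc24) (kc xc1 yc43 zc56) (kc xc3 yc41 zc12) (kc xc6 yc53 zc46) (kc xc6 yc54 zc0) (kc xc6 yc53 zc48) (kc xc6 yc50 zc35) (kc xc3 yc32 zc7) (kc xc1 yc49 zc16) (kc xc6 yc54 zc15) (kc xc1 yc39 zc46) (kc xc6 yc54 zc18) (kc xc6 yc54 zc19) (kc xc3 yc26 zc13) (kc xc3 yc44 zc44) (kc xc6 yc54 zc28) (kc xc1 yc39 zc52) (kc xc3 yc42 zc22) (kc xc1 yc39 zc50) (kc xc6 yc54 zc34) (kc xc1 yc39 zc51) (kc xc1 yc51 zc23) (kc xc1 yc51 zc24) (kc xc3 yc47 zc21) (kc xc1 yc48 zc18) (kc xc1 yc48 zc11) (kc xc1 yc49 zc27) (kc xc3 yc26 zc28) (kc xc3 yc26 zc27) (kc xc3 yc47 zc17) (kc xc3 yc47 zc18) (kc xc5 yc55 zc16) (kc xc6 yc50 zc21) (kc xc1 yc51 zc9) (kc xc1 yc51 zc10) (kc xc6 yc55 zc2) (kc xc1 yc39 zc60) (kc xc1 yc39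 zc59) (kc xc6 yc55 zc6) (kc xc3 yc42 zc12) (kc xc1 yc40 zc2) (kc xc6 yc31 zc25) (kc xc1 yc40 zc1) (kc xc1 yc54 zc11) (kc xc1 yc54 zc12) (kc xc6 yc55 zc20) (kc xc3 yc55 zc22) (kc xc3 yc54 zc4) (kc xc6 yc55 zc12) (kc xc6 yc49 zc27) (kc xc6 yc55 zc14) (kc xc5 yc50 zc35) (kc xc3 yc49 zc11) (kc xc1 yc54 zc17) (kc xc6 yc55 zc40) (kc xc1 yc40 zc7) (kc xc1 yc40 zc5) (kc xc6 yc55 zc44) (kc xc6 yc55 zc45) (kc xc1 yc40 zc6) (kc xc6 yc55 zc51) (kc xc6 yc55 zc52)) (@D3.rec (fun _ => Pt) (kc xc6 yc55 zc55) (kc xc3 yc36 zc44) (kc xc1 yc40 zc8) (kc xc6 yc55 zc61) (kc xc6 yc55 zc58) (kc xc3 yc6 zc54) (kc xc6 yc50 zc6) (kc xc6 yc56 zc11) (kc xc3 yc48 zc10) (kc xc3 yc48 zc11) (kc xc3 yc48 zc12) (kc xc3 yc19 zc49) (kc xc3 yc47 zc10) (kc xc6 yc49 zc49) (kc xc6 yc56 zc27) (kc xc3 yc34 zc18)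 (kc xc6 yc56 zc29) (kc xc6 yc49 zc29) (kc xc4 yc38 zc38) (kc xc3 yc16 zc16) (kc xc1 yc40 zc17) (kc xc6 yc56 zc45) (kc xc6 yc56 zc48) (kc xc6 yc56 zc53) (kc xc3 yc52 zc35) (kc xc3 yc48 zc6) (kc xc6 yc56 zc61) (kc xc3 yc48 zc5) (kc xc6 yc57 zc3) (kc xc6 yc57 zc7) (kc xc1 yc40 zc20) (kc xc6 yc57 zc14) (kc xc1 yc52 zc60) (kc xc6 yc57 zc17) (kc xc3 yc47 zc53) (kc xc1 yc52 zc55) (kc xc3 yc47 zc51) (kc xc6 yc57 zc28) (kc xc1 yc40 zc25) (kc xc6 yc57 zc31) (kc xc1 yc40 zc24) (kc xc6 yc57 zc36) (kc xc1 yc55 zc0) (kc xc3 yc42 zc23) (kc xc1 yc40 zc26) (kc xc6 yc57 zc44) (kc xc6 yc57 zc41) (kc xc6 yc57 zc39) (kc xc6 yc57 zc50) (kc xc1 yc40 zc29) (kc xc1 yc40 zc28) (kc xc6 yc57 zc56) (kc xc6 yc57 zc57) (kc xc3 yc42 zc50) (kc xc1 yc40 zc33) (kc xc3 yc28 zc25) (kc xc3 yc28 zc31) (kc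 xc1 yc40 zc44) (kc xc6 yc58 zc6) (kc xc1 yc40 zc35) (kc xc1 yc40 zc36) (kc xc6 yc58 zc13)) (@D3.rec (fun _ => Pt) (kc xc6 yc58 zc12) (kc xc3 yc39 zc13) (kc xc6 yc58 zc18) (kc xc1 yc40 zc39) (kc xc6 yc58 zc22) (kc xc1 yc40 zc38) (kc xc6 yc58 zc25) (kc xc1 yc40 zc40) (kc xc1 yc40 zc41) (kc xc6 yc58 zc30) (kc xc1 yc53 zc6) (kc xc6 yc58 zc35) (kc xc1 yc40 zc43) (kc xc6 yc58 zc40) (kc xc6 yc58 zc4) (kc xc3 yc28 zc15) (kc xc1 yc40 zc46) (kc xc6 yc58 zc48) (kc xc6 yc58 zc49) (kc xc6 yc58 zc47) (kc xc1 yc40 zc47) (kc xc3 yc36 zc14) (kc xc6 yc11 zc47) (kc xc1 yc40 zc50) (kc xc6 yc51 zc40) (kc xc3 yc27 zc55) (kc xc1 yc44 zc21) (kc xc1 yc41 zc0) (kc xc6 yc51 zc29) (kc xc6 yc51 zc24) (kc xc1 yc40 zc57) (kc xc3 yc27 zc56) (kc xc3 yc15 zc32) (kc xc6 yc58 zc61) (kc xc1 yc40 zc61)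 (kc xc6 yc59 zc0) (kc xc3 yc8 zc6) (kc xc6 yc33 zc3) (kc xc3 yc7 zc60) (kc xc6 yc35 zc18) (kc xc6 yc35 zc19) (kc xc6 yc41 zc39) (kc xc3 yc17 zc35) (kc xc3 yc16 zc12) (kc xc6 yc41 zc32) (kc xc6 yc41 zc31) (kc xc6 yc11 zc46) (kc xc1 yc44 zc52) (kc xc3 yc15 zc20) (kc xc6 yc58 zc57) (kc xc6 yc41 zc41) (kc xc1 yc41 zc9) (kc xc1 yc50 zc30) (kc xc1 yc45 zc44) (kc xc1 yc41 zc11) (kc xc6 yc35 zc29) (kc xc6 yc59 zc28) (kc xc3 yc17 zc40) (kc xc1 yc41 zc13) (kc xc3 yc34 zc23) (kc xc6 yc59 zc23) (kc xc6 yc59 zc40)) (@D3.rec (fun _ => Pt) (kc xc6 yc59 zc43) (kc xc6 yc59 zc46) (kc xc3 yc29 zc2) (kc xc6 yc59 zc49) (kc xc3 yc29 zc4) (kc xc6 yc11 zc5) (kc xc3 yc24 zc49) (kc xc6 yc34 zc3) (kc xc7 yc0 zc3) (kc xc1 yc41 zc20) (kc xc3 yc35 zc48) (kc xc1 yc41 zc18) (kc xc7 yc0 zc11) (kc xc7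 yc0 zc10) (kc xc3 yc24 zc46) (kc xc1 yc41 zc19) (kc xc7 yc0 zc14) (kc xc3 yc24 zc42) (kc xc1 yc41 zc26) (kc xc6 yc51 zc44) (kc xc1 yc44 zc55) (kc xc1 yc44 zc50) (kc xc1 yc47 zc32) (kc xc3 yc15 zc22) (kc xc6 yc52 zc55) (kc xc3 yc15 zc36) (kc xc3 yc15 zc37) (kc xc6 yc10 zc48) (kc xc3 yc15 zc49) (kc xc3 yc34 zc48) (kc xc3 yc35 zc40) (kc xc1 yc41 zc32) (kc xc1 yc50 zc16) (kc xc1 yc41 zc31) (kc xc1 yc46 zc17) (kc xc1 yc46 zc18) (kc xc3 yc38 zc53) (kc xc3 yc39 zc22) (kc xc1 yc46 zc11) (kc xc7 yc0 zc42) (kc xc6 yc0 zc8) (kc xc7 yc0 zc44) (kc xc6 yc10 zc45) (kc xc3 yc15 zc25) (kc xc1 yc46 zc25) (kc xc7 yc1 zc8) (kc xc1 yc41 zc36) (kc xc1 yc41 zc35) (kc xc7 yc1 zc12) (kc xc7 yc1 zc13) (kc xc7 yc1 zc16) (kc xc3 yc41 zc0) (kc xc1 yc41 zc37) (kc xc6 yc37 zc35) (kc xc7 yc1 zc21)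 (kc xc6 yc10 zc34) (kc xc3 yc34 zc29) (kc xc5 yc58 zc40) (kc xc6 yc34 zc54) (kc xc3 yc25 zc41) (kc xc2 yc14 zc12) (kc xc3 yc25 zc43)) (@D3.rec (fun _ => Pt) (kc xc6 yc10 zc25) (kc xc7 yc1 zc47) (kc xc3 yc25 zc28) (kc xc3 yc35 zc39) (kc xc1 yc49 zc28) (kc xc1 yc42 zc8) (kc xc1 yc41 zc45) (kc xc2 yc27 zc6) (kc xc3 yc40 zc59) (kc xc3 yc40 zc60) (kc xc7 yc2 zc4) (kc xc1 yc42 zc11) (kc xc7 yc1 zc57) (kc xc1 yc41 zc48) (kc xc7 yc2 zc10) (kc xc7 yc2 zc14) (kc xc7 yc2 zc19) (kc xc6 yc19 zc27) (kc xc6 yc10 zc13) (kc xc7 yc2 zc27) (kc xc1 yc41 zc50) (kc xc7 yc2 zc35) (kc xc7 yc2 zc32) (kc xc7 yc2 zc42) (kc xc1 yc41 zc51) (kc xc7 yc2 zc46) (kc xc3 yc55 zc28) (kc xc7 yc2 zc50) (kc xc7 yc2 zc53) (kc xc1 yc41 zc52) (kc xc7 yc2 zc59) (kc xc1 yc42 zc1) (kc xc3 yc35 zc57) (kc xc3 yc35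 zc58) (kc xc7 yc3 zc8) (kc xc6 yc52 zc8) (kc xc3 yc24 zc45) (kc xc1 yc41 zc55) (kc xc7 yc3 zc15) (kc xc7 yc3 zc13) (kc xc3 yc32 zc34) (kc xc7 yc3 zc11) (kc xc7 yc3 zc26) (kc xc1 yc41 zc58) (kc xc7 yc3 zc31) (kc xc1 yc41 zc57) (kc xc7 yc3 zc35) (kc xc7 yc2 zc37) (kc xc7 yc3 zc36) (kc xc7 yc3 zc30) (kc xc3 yc39 zc30) (kc xc3 yc35 zc49) (kc xc1 yc41 zc59) (kc xc7 yc3 zc44) (kc xc7 yc3 zc41) (kc xc7 yc3 zc39) (kc xc7 yc3 zc51) (kc xc1 yc42 zc0) (kc xc1 yc41 zc61) (kc xc7 yc3 zc57) (kc xc7 yc1 zc53) (kc xc1 yc42 zc2)) (@D3.rec (fun _ => Pt) (kc xc7 yc3 zc61) (kc xc3 yc36 zc9) (kc xc1 yc42 zc3) (kc xc7 yc4 zc2) (kc xc6 yc24 zc5) (kc xc1 yc42 zc6) (kc xc7 yc4 zc6) (kc xc3 yc35 zc60) (kc xc3 yc24 zc17) (kc xc6 yc33 zc52) (kc xc7 yc4 zc12) (kc xc7 yc4 zc13) (kc xc7 yc1 zc56)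 (kc xc6 yc58 zc44) (kc xc1 yc42 zc9) (kc xc7 yc4 zc19) (kc xc7 yc4 zc18) (kc xc3 yc41 zc6) (kc xc1 yc42 zc10) (kc xc7 yc4 zc22) (kc xc1 yc42 zc12) (kc xc1 yc42 zc14) (kc xc1 yc42 zc15) (kc xc1 yc42 zc16) (kc xc7 yc4 zc30) (kc xc7 yc4 zc29) (kc xc7 yc4 zc32) (kc xc1 yc42 zc20) (kc xc7 yc4 zc37) (kc xc1 yc42 zc19) (kc xc7 yc4 zc43) (kc xc1 yc42 zc18) (kc xc7 yc4 zc46) (kc xc7 yc4 zc48) (kc xc7 yc4 zc42) (kc xc7 yc4 zc49) (kc xc7 yc4 zc50) (kc xc1 yc42 zc24) (kc xc1 yc42 zc25) (kc xc7 yc4 zc56) (kc xc7 yc4 zc55) (kc xc3 yc35 zc34) (kc xc1 yc42 zc29) (kc xc7 yc5 zc0) (kc xc1 yc42 zc28) (kc xc7 yc5 zc5) (kc xc7 yc5 zc6) (kc xc1 yc42 zc27) (kc xc7 yc5 zc11) (kc xc7 yc5 zc12) (kc xc3 yc40 zc20) (kc xc6 yc27 zc37) (kc xc1 yc42 zc34) (kc xc1 yc42 zc35) (kc xc6 yc22 zc51) (kc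 xc1 yc42 zc37) (kc xc1 yc53 zc31) (kc xc1 yc42 zc38) (kc xc6 yc52 zc46) (kc xc7 yc5 zc25) (kc xc3 yc40 zc4) (kc xc3 yc1 zc3)) (@D3.rec (fun _ => Pt) (kc xc3 yc42 zc49) (kc xc3 yc39 zc61) (kc xc3 yc25 zc10) (kc xc3 yc43 zc39) (kc xc3 yc43 zc40) (kc xc1 yc52 zc25) (kc xc3 yc41 zc24) (kc xc3 yc26 zc7) (kc xc1 yc42 zc45) (kc xc7 yc5 zc13) (kc xc3 yc36 zc8) (kc xc3 yc34 zc39) (kc xc3 yc39 zc25) (kc xc3 yc36 zc13) (kc xc3 yc24 zc41) (kc xc3 yc33 zc7) (kc xc1 yc50 zc14) (kc xc3 yc43 zc34) (kc xc3 yc43 zc33) (kc xc3 yc41 zc21) (kc xc3 yc35 zc46) (kc xc3 yc35 zc61) (kc xc3 yc36 zc0) (kc xc7 yc5 zc50) (kc xc1 yc42 zc56) (kc xc1 yc42 zc54) (kc xc7 yc5 zc55) (kc xc7 yc5 zc54) (kc xc1 yc42 zc55) (kc xc1 yc42 zc57) (kc xc1 yc53 zc27) (kc xc3 yc35 zc36) (kc xc7 yc5 zc30) (kc xc3 yc34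 zc41) (kc xc3 yc30 zc40) (kc xc7 yc1 zc50) (kc xc3 yc45 zc40) (kc xc2 yc17 zc1) (kc xc3 yc45 zc42) (kc xc3 yc33 zc42) (kc xc3 yc35 zc37) (kc xc7 yc6 zc15) (kc xc1 yc43 zc3) (kc xc1 yc43 zc2) (kc xc7 yc6 zc19) (kc xc7 yc6 zc21) (kc xc3 yc33 zc43) (kc xc3 yc32 zc47) (kc xc1 yc45 zc26) (kc xc1 yc53 zc50) (kc xc3 yc48 zc17) (kc xc7 yc6 zc41) (kc xc1 yc43 zc10) (kc xc1 yc43 zc7) (kc xc1 yc53 zc47) (kc xc1 yc43 zc8) (kc xc1 yc43 zc9) (kc xc1 yc44 zc54) (kc xc1 yc46 zc1) (kc xc3 yc32 zc59) (kc xc3 yc34 zc51) (kc xc3 yc40 zc12)) (@D3.rec (fun _ => Pt) (kc xc3 yc40 zc13) (kc xc6 yc52 zc39) (kc xc3 yc55 zc6) (kc xc3 yc35 zc35) (kc xc3 yc55 zc3) (kc xc2 yc9 zc0) (kc xc3 yc55 zc4) (kc xc3 yc32 zc15) (kc xc3 yc33 zc39) (kc xc3 yc39 zc14) (kc xc3 yc39 zc15) (kc xc7 yc7 zc19) (kc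 xc1 yc43 zc22) (kc xc1 yc43 zc20) (kc xc7 yc7 zc23) (kc xc7 yc7 zc24) (kc xc1 yc43 zc21) (kc xc1 yc43 zc25) (kc xc1 yc43 zc24) (kc xc3 yc50 zc48) (kc xc7 yc7 zc30) (kc xc2 yc47 zc18) (kc xc7 yc7 zc31) (kc xc3 yc33 zc32) (kc xc3 yc39 zc12) (kc xc7 yc7 zc46) (kc xc7 yc7 zc47) (kc xc3 yc47 zc33) (kc xc1 yc51 zc41) (kc xc1 yc43 zc28) (kc xc4 yc32 zc30) (kc xc7 yc7 zc52) (kc xc3 yc33 zc23) (kc xc7 yc8 zc0) (kc xc3 yc38 zc8) (kc xc3 yc55 zc2) (kc xc3 yc42 zc15) (kc xc4 yc0 zc24) (kc xc3 yc42 zc17) (kc xc3 yc33 zc8) (kc xc7 yc8 zc13) (kc xc3 yc5 zc15) (kc xc3 yc32 zc39) (kc xc3 yc32 zc46) (kc xc1 yc43 zc37) (kc xc7 yc8 zc22) (kc xc7 yc8 zc25) (kc xc7 yc8 zc29) (kc xc7 yc8 zc20) (kc xc7 yc8 zc33) (kc xc1 yc43 zc38) (kc xc7 yc8 zc41) (kc xc7 yc8 zc38) (kc xc7 yc8 zc46) (kc xc1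 yc43 zc39) (kc xc7 yc8 zc51) (kc xc7 yc8 zc50) (kc xc7 yc8 zc56) (kc xc7 yc8 zc60) (kc xc1 yc43 zc40) (kc xc7 yc9 zc5) (kc xc3 yc54 zc30)) (@D3.rec (fun _ => Pt) (kc xc1 yc53 zc46) (kc xc1 yc43 zc42) (kc xc7 yc2 zc1) (kc xc3 yc56 zc42) (kc xc3 yc37 zc23) (kc xc7 yc9 zc9) (kc xc7 yc9 zc22) (kc xc1 yc43 zc45) (kc xc7 yc9 zc26) (kc xc1 yc43 zc44) (kc xc1 yc43 zc46) (kc xc7 yc9 zc34) (kc xc7 yc9 zc32) (kc xc7 yc9 zc30) (kc xc7 yc9 zc40) (kc xc1 yc43 zc49) (kc xc1 yc43 zc48) (kc xc7 yc9 zc43) (kc xc3 yc27 zc15) (kc xc1 yc43 zc50) (kc xc7 yc9 zc50) (kc xc7 yc9 zc52) (kc xc7 yc9 zc56) (kc xc3 yc28 zc59) (kc xc6 yc10 zc4) (kc xc3 yc35 zc28) (kc xc1 yc43 zc61) (kc xc1 yc44 zc0) (kc xc7 yc9 zc59) (kc xc3 yc29 zc56) (kc xc1 yc44 zc2) (kc xc7 yc10 zc6) (kc xc7 yc10 zc5) (kc xc3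 yc34 zc38) (kc xc1 yc44 zc4) (kc xc7 yc10 zc18) (kc xc7 yc10 zc17) (kc xc7 yc10 zc22) (kc xc3 yc34 zc33) (kc xc3 yc32 zc11) (kc xc3 yc40 zc22) (kc xc3 yc32 zc33) (kc xc3 yc37 zc42) (kc xc7 yc10 zc36) (kc xc3 yc52 zc42) (kc xc1 yc44 zc28) (kc xc7 yc10 zc43) (kc xc1 yc44 zc29) (kc xc3 yc29 zc29) (kc xc1 yc44 zc8) (kc xc7 yc10 zc49) (kc xc3 yc32 zc60) (kc xc1 yc44 zc10) (kc xc7 yc10 zc56) (kc xc7 yc10 zc58) (kc xc7 yc10 zc59) (kc xc1 yc44 zc12) (kc xc7 yc11 zc1) (kc xc1 yc44 zc14) (kc xc1 yc44 zc15) (kc xc7 yc11 zc7) (kc xc7 yc11 zc6)) (@D3.rec (fun _ => Pt) (kc xc1 yc51 zc11) (kc xc7 yc11 zc12) (kc xc1 yc44 zc18) (kc xc7 yc11 zc17) (kc xc1 yc44 zc17) (kc xc7 yc11 zc20) (kc xc6 yc27 zc36) (kc xc7 yc11 zc21) (kc xc1 yc44 zc22) (kc xc6 yc48 zc7) (kc xc6 yc23 zc11) (kc xc1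 yc44 zc24) (kc xc6 yc27 zc28) (kc xc1 yc46 zc46) (kc xc7 yc11 zc28) (kc xc1 yc52 zc46) (kc xc1 yc44 zc26) (kc xc7 yc11 zc35) (kc xc1 yc44 zc27) (kc xc1 yc44 zc30) (kc xc7 yc11 zc40) (kc xc7 yc11 zc38) (kc xc1 yc44 zc32) (kc xc5 yc11 zc26) (kc xc6 yc22 zc43) (kc xc3 yc11 zc3) (kc xc3 yc18 zc54) (kc xc1 yc44 zc35) (kc xc3 yc34 zc25) (kc xc1 yc49 zc13) (kc xc7 yc11 zc52) (kc xc1 yc47 zc34) (kc xc3 yc40 zc54) (kc xc3 yc40 zc55) (kc xc3 yc31 zc41) (kc xc3 yc33 zc3) (kc xc3 yc32 zc31) (kc xc3 yc32 zc40) (kc xc3 yc38 zc28) (kc xc3 yc30 zc3) (kc xc3 yc29 zc30) (kc xc3 yc40 zc48) (kc xc3 yc40 zc47) (kc xc3 yc44 zc2) (kc xc3 yc44 zc3) (kc xc1 yc51 zc35) (kc xc3 yc32 zc20) (kc xc3 yc37 zc3) (kc xc3 yc29 zc10) (kc xc3 yc30 zc51) (kc xc7 yc12 zc19) (kc xc1 yc44 zc47) (kc xc1 yc44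 zc46) (kc xc7 yc12 zc24) (kc xc7 yc12 zc23) (kc xc1 yc50 zc50) (kc xc6 yc58 zc51) (kc xc3 yc30 zc32) (kc xc3 yc30 zc33) (kc xc7 yc0 zc21) (kc xc3 yc31 zc7) (kc xc3 yc32 zc21)) (@D3.rec (fun _ => Pt) (kc xc3 yc32 zc22) (kc xc1 yc52 zc53) (kc xc3 yc38 zc31) (kc xc6 yc32 zc55) (kc xc7 yc0 zc18) (kc xc2 yc17 zc47) (kc xc7 yc0 zc19) (kc xc3 yc3 zc44) (kc xc3 yc32 zc10) (kc xc3 yc31 zc1) (kc xc7 yc12 zc44) (kc xc1 yc44 zc59) (kc xc1 yc44 zc58) (kc xc3 yc32 zc13) (kc xc3 yc28 zc21) (kc xc6 yc59 zc10) (kc xc7 yc6 zc53) (kc xc7 yc12 zc55) (kc xc3 yc36 zc18) (kc xc1 yc54 zc15) (kc xc3 yc49 zc1) (kc xc7 yc13 zc6) (kc xc1 yc45 zc4) (kc xc3 yc47 zc12) (kc xc1 yc45 zc1) (kc xc1 yc45 zc2) (kc xc7 yc13 zc13) (kc xc1 yc45 zc3) (kc xc7 yc13 zc17) (kc xc3 yc36 zc29) (kc xc3 yc37 zc56)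 (kc xc1 yc50 zc37) (kc xc1 yc50 zc35) (kc xc1 yc52 zc16) (kc xc1 yc51 zc33) (kc xc3 yc42 zc14) (kc xc3 yc42 zc13) (kc xc3 yc54 zc10) (kc xc3 yc54 zc11) (kc xc1 yc50 zc61) (kc xc1 yc53 zc7) (kc xc7 yc13 zc42) (kc xc1 yc52 zc52) (kc xc3 yc48 zc25) (kc xc3 yc27 zc1) (kc xc3 yc48 zc22) (kc xc4 yc32 zc61) (kc xc3 yc48 zc23) (kc xc3 yc36 zc59) (kc xc3 yc38 zc6) (kc xc1 yc53 zc20) (kc xc7 yc13 zc58) (kc xc1 yc45 zc17) (kc xc1 yc45 zc16) (kc xc7 yc14 zc0) (kc xc7 yc14 zc3) (kc xc3 yc46 zc61) (kc xc7 yc14 zc8) (kc xc3 yc49 zc19) (kc xc3 yc36 zc48) (kc xc7 yc14 zc18) (kc xc3 yc40 zc7)) (@D3.rec (fun _ => Pt) (kc xc3 yc40 zc9) (kc xc7 yc14 zc25) (kc xc3 yc39 zc16) (kc xc3 yc35 zc47) (kc xc7 yc14 zc30) (kc xc7 yc14 zc33) (kc xc7 yc14 zc37) (kc xc7 yc6 zc33) (kc xc6 yc55 zc33) (kc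 xc7 yc14 zc44) (kc xc7 yc14 zc48) (kc xc7 yc14 zc51) (kc xc3 yc49 zc12) (kc xc7 yc14 zc55) (kc xc7 yc14 zc59) (kc xc1 yc45 zc29) (kc xc7 yc15 zc4) (kc xc1 yc45 zc31) (kc xc1 yc51 zc40) (kc xc7 yc15 zc6) (kc xc7 yc15 zc15) (kc xc1 yc52 zc15) (kc xc3 yc47 zc13) (kc xc3 yc34 zc4) (kc xc3 yc49 zc39) (kc xc3 yc49 zc37) (kc xc7 yc15 zc22) (kc xc1 yc45 zc36) (kc xc1 yc45 zc35) (kc xc7 yc15 zc28) (kc xc6 yc52 zc1) (kc xc1 yc45 zc37) (kc xc7 yc15 zc33) (kc xc3 yc49 zc51) (kc xc1 yc45 zc38) (kc xc7 yc15 zc39) (kc xc7 yc15 zc38) (kc xc3 yc49 zc13) (kc xc3 yc49 zc14) (kc xc1 yc45 zc57) (kc xc7 yc15 zc49) (kc xc1 yc45 zc40) (kc xc3 yc34 zc42) (kc xc3 yc25 zc20) (kc xc1 yc45 zc42) (kc xc7 yc15 zc52) (kc xc3 yc37 zc51) (kc xc7 yc15 zc61) (kc xc1 yc50 zc32) (kc xc3 yc15 zc26) (kc xc6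 yc51 zc42) (kc xc3 yc37 zc46) (kc xc3 yc44 zc47) (kc xc7 yc16 zc10) (kc xc1 yc45 zc47) (kc xc7 yc16 zc13) (kc xc3 yc36 zc30) (kc xc1 yc45 zc49) (kc xc1 yc45 zc50) (kc xc1 yc45 zc51) (kc xc7 yc9 zc46) (kc xc7 yc16 zc27)) (@D3.rec (fun _ => Pt) (kc xc7 yc16 zc31) (kc xc1 yc45 zc54) (kc xc7 yc16 zc34) (kc xc1 yc45 zc56) (kc xc3 yc40 zc21) (kc xc3 yc55 zc40) (kc xc3 yc36 zc49) (kc xc7 yc6 zc54) (kc xc3 yc33 zc34) (kc xc6 yc52 zc37) (kc xc7 yc6 zc51) (kc xc3 yc16 zc41) (kc xc7 yc16 zc45) (kc xc3 yc38 zc32) (kc xc3 yc38 zc14) (kc xc1 yc46 zc42) (kc xc1 yc47 zc46) (kc xc3 yc45 zc1) (kc xc7 yc16 zc60) (kc xc1 yc46 zc10) (kc xc1 yc46 zc8) (kc xc1 yc47 zc43) (kc xc1 yc46 zc9) (kc xc7 yc17 zc5) (kc xc7 yc17 zc6) (kc xc7 yc17 zc9) (kc xc7 yc0 zc51) (kc xc7 yc17 zc15) (kc xc3 yc35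 zc38) (kc xc3 yc43 zc37) (kc xc7 yc17 zc22) (kc xc3 yc36 zc2) (kc xc3 yc38 zc13) (kc xc1 yc46 zc16) (kc xc7 yc17 zc28) (kc xc2 yc7 zc48) (kc xc7 yc17 zc34) (kc xc7 yc17 zc27) (kc xc7 yc10 zc1) (kc xc7 yc17 zc41) (kc xc7 yc0 zc47) (kc xc7 yc17 zc45) (kc xc7 yc17 zc48) (kc xc7 yc0 zc48) (kc xc7 yc17 zc54) (kc xc7 yc17 zc57) (kc xc1 yc46 zc19) (kc xc7 yc18 zc1) (kc xc3 yc41 zc47) (kc xc1 yc47 zc42) (kc xc1 yc46 zc21) (kc xc6 yc58 zc3) (kc xc7 yc10 zc61) (kc xc3 yc29 zc36) (kc xc7 yc18 zc4) (kc xc7 yc18 zc14) (kc xc1 yc46 zc24) (kc xc1 yc46 zc23) (kc xc3 yc48 zc48) (kc xc7 yc1 zc5) (kc xc7 yc1 zc3) (kc xc7 yc18 zc25)) (@D3.rec (fun _ => Pt) (kc xc1 yc46 zc28) (kc xc1 yc46 zc27) (kc xc7 yc17 zc50) (kc xc7 yc18 zc29) (kc xc1 yc46 zc29) (kc xc1 yc46 zc30) (kc xc7 yc18 zc36)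 (kc xc1 yc49 zc38) (kc xc7 yc18 zc39) (kc xc1 yc46 zc32) (kc xc7 yc18 zc44) (kc xc7 yc18 zc45) (kc xc3 yc33 zc24) (kc xc3 yc28 zc1) (kc xc3 yc33 zc9) (kc xc3 yc33 zc10) (kc xc3 yc37 zc2) (kc xc7 yc18 zc48) (kc xc3 yc39 zc18) (kc xc6 yc24 zc7) (kc xc7 yc18 zc53) (kc xc6 yc59 zc45) (kc xc3 yc29 zc37) (kc xc3 yc46 zc36) (kc xc7 yc19 zc2) (kc xc3 yc32 zc12) (kc xc3 yc41 zc17) (kc xc3 yc41 zc18) (kc xc3 yc40 zc50) (kc xc7 yc19 zc11) (kc xc3 yc30 zc50) (kc xc7 yc19 zc13) (kc xc4 yc4 zc50) (kc xc7 yc19 zc20) (kc xc7 yc16 zc53) (kc xc6 yc54 zc7) (kc xc6 yc41 zc35) (kc xc3 yc46 zc26) (kc xc7 yc5 zc18) (kc xc6 yc41 zc34) (kc xc3 yc46 zc27) (kc xc7 yc19 zc34) (kc xc7 yc19 zc37) (kc xc1 yc46 zc45) (kc xc7 yc5 zc3) (kc xc7 yc11 zc27) (kc xc6 yc41 zc48) (kc xc1 yc46 zc48) (kc xc3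 yc46 zc54) (kc xc3 yc46 zc52) (kc xc6 yc41 zc47) (kc xc1 yc46 zc51) (kc xc7 yc19 zc58) (kc xc1 yc46 zc54) (kc xc1 yc46 zc55) (kc xc1 yc46 zc56) (kc xc1 yc46 zc57) (kc xc7 yc20 zc2) (kc xc7 yc20 zc5) (kc xc7 yc20 zc6) (kc xc7 yc20 zc7) (kc xc3 yc32 zc1)) (@D3.rec (fun _ => Pt) (kc xc7 yc20 zc9) (kc xc7 yc20 zc11) (kc xc1 yc46 zc61) (kc xc6 yc31 zc26) (kc xc3 yc31 zc60) (kc xc3 yc4 zc36) (kc xc3 yc4 zc33) (kc xc3 yc36 zc61) (kc xc6 yc25 zc33) (kc xc3 yc37 zc0) (kc xc6 yc49 zc30) (kc xc2 yc26 zc39) (kc xc3 yc32 zc61) (kc xc3 yc33 zc0) (kc xc7 yc20 zc42) (kc xc1 yc47 zc6) (kc xc1 yc47 zc4) (kc xc7 yc20 zc46) (kc xc7 yc20 zc47) (kc xc1 yc47 zc5) (kc xc3 yc31 zc50) (kc xc3 yc38 zc4) (kc xc3 yc34 zc40) (kc xc7 yc20 zc59) (kc xc1 yc47 zc12) (kc xc5 yc59 zc34) (kc xc1 yc47 zc10)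 (kc xc2 yc55 zc38) (kc xc4 yc7 zc13) (kc xc3 yc47 zc24) (kc xc7 yc21 zc1) (kc xc7 yc2 zc15) (kc xc7 yc21 zc3) (kc xc6 yc31 zc61) (kc xc3 yc51 zc57) (kc xc7 yc21 zc22) (kc xc7 yc21 zc23) (kc xc5 yc48 zc42) (kc xc3 yc40 zc38) (kc xc3 yc43 zc27) (kc xc6 yc34 zc1) (kc xc7 yc21 zc40) (kc xc1 yc47 zc20) (kc xc1 yc47 zc18) (kc xc1 yc47 zc19) (kc xc3 yc15 zc23) (kc xc3 yc15 zc21) (kc xc3 yc35 zc42) (kc xc3 yc35 zc41) (kc xc4 yc42 zc45) (kc xc3 yc39 zc28) (kc xc6 yc30 zc46) (kc xc6 yc30 zc48) (kc xc6 yc31 zc57) (kc xc3 yc35 zc32) (kc xc3 yc35 zc33) (kc xc7 yc22 zc8) (kc xc1 yc47 zc27) (kc xc1 yc47 zc26) (kc xc3 yc30 zc8) (kc xc3 yc30 zc9) (kc xc7 yc4 zc15)) (@D3.rec (fun _ => Pt) (kc xc3 yc29 zc51) (kc xc7 yc0 zc49) (kc xc7 yc22 zc18) (kc xc7 yc22 zc11) (kc xc6 yc31 zc50) (kc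 xc6 yc53 zc41) (kc xc3 yc31 zc17) (kc xc7 yc22 zc35) (kc xc1 yc47 zc31) (kc xc1 yc47 zc30) (kc xc7 yc22 zc39) (kc xc7 yc22 zc43) (kc xc3 yc26 zc2) (kc xc7 yc22 zc50) (kc xc7 yc0 zc22) (kc xc6 yc1 zc3) (kc xc7 yc22 zc60) (kc xc3 yc39 zc26) (kc xc3 yc39 zc27) (kc xc2 yc9 zc30) (kc xc3 yc10 zc7) (kc xc3 yc32 zc19) (kc xc6 yc31 zc27) (kc xc7 yc23 zc17) (kc xc3 yc32 zc6) (kc xc7 yc23 zc20) (kc xc5 yc43 zc61) (kc xc4 yc37 zc25) (kc xc6 yc30 zc54) (kc xc3 yc44 zc10) (kc xc1 yc47 zc41) (kc xc7 yc23 zc38) (kc xc7 yc23 zc42) (kc xc7 yc23 zc47) (kc xc7 yc23 zc36) (kc xc7 yc1 zc0) (kc xc7 yc23 zc54) (kc xc7 yc18 zc3) (kc xc7 yc17 zc3) (kc xc7 yc23 zc61) (kc xc7 yc17 zc2) (kc xc7 yc24 zc3) (kc xc7 yc24 zc6) (kc xc1 yc47 zc44) (kc xc7 yc24 zc12) (kc xc3 yc53 zc49) (kc xc7 yc14 zc60)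 (kc xc3 yc38 zc48) (kc xc7 yc16 zc54) (kc xc7 yc24 zc22) (kc xc1 yc47 zc49) (kc xc1 yc47 zc48) (kc xc7 yc24 zc29) (kc xc1 yc47 zc50) (kc xc6 yc54 zc59) (kc xc7 yc24 zc32) (kc xc7 yc24 zc30) (kc xc7 yc24 zc37) (kc xc1 yc47 zc53) (kc xc1 yc47 zc52) (kc xc7 yc24 zc45) (kc xc1 yc47 zc56)) (@D3.rec (fun _ => Pt) (kc xc1 yc47 zc55) (kc xc7 yc24 zc52) (kc xc1 yc47 zc58) (kc xc6 yc30 zc49) (kc xc6 yc30 zc47) (kc xc3 yc16 zc40) (kc xc1 yc48 zc19) (kc xc1 yc48 zc3) (kc xc3 yc21 zc16) (kc xc1 yc54 zc30) (kc xc1 yc54 zc29) (kc xc1 yc50 zc48) (kc xc3 yc26 zc39) (kc xc3 yc36 zc36) (kc xc3 yc36 zc35) (kc xc3 yc33 zc36) (kc xc5 yc50 zc49) (kc xc3 yc33 zc38) (kc xc6 yc30 zc52) (kc xc6 yc30 zc53) (kc xc1 yc48 zc7) (kc xc7 yc25 zc22) (kc xc3 yc26 zc17) (kc xc3 yc27 zc43) (kc xc7 yc25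 zc33) (kc xc1 yc52 zc18) (kc xc1 yc52 zc24) (kc xc7 yc25 zc36) (kc xc3 yc55 zc55) (kc xc1 yc48 zc13) (kc xc4 yc41 zc45) (kc xc7 yc25 zc42) (kc xc7 yc25 zc43) (kc xc6 yc31 zc1) (kc xc6 yc31 zc2) (kc xc1 yc48 zc17) (kc xc1 yc51 zc59) (kc xc3 yc49 zc17) (kc xc7 yc25 zc53) (kc xc6 yc54 zc42) (kc xc4 yc57 zc27) (kc xc6 yc30 zc42) (kc xc1 yc54 zc39) (kc xc6 yc43 zc59) (kc xc1 yc48 zc23) (kc xc1 yc48 zc21) (kc xc1 yc48 zc22) (kc xc7 yc26 zc13) (kc xc1 yc48 zc25) (kc xc3 yc32 zc0) (kc xc3 yc27 zc53) (kc xc7 yc25 zc37) (kc xc7 yc26 zc25) (kc xc3 yc14 zc49) (kc xc7 yc26 zc31) (kc xc4 yc32 zc2) (kc xc3 yc42 zc56) (kc xc3 yc14 zc12) (kc xc6 yc22 zc54) (kc xc3 yc7 zc44) (kc xc3 yc7 zc42) (kc xc1 yc49 zc7)) (@D3.rec (fun _ => Pt) (kc xc1 yc48 zc33) (kc xc6 yc49 zc47) (kc xc7 yc26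 zc47) (kc xc6 yc49 zc46) (kc xc1 yc49 zc6) (kc xc1 yc48 zc37) (kc xc7 yc26 zc55) (kc xc6 yc50 zc7) (kc xc7 yc25 zc46) (kc xc1 yc48 zc38) (kc xc3 yc12 zc27) (kc xc1 yc49 zc4) (kc xc1 yc48 zc40) (kc xc7 yc27 zc4) (kc xc7 yc27 zc6) (kc xc7 yc27 zc3) (kc xc5 yc57 zc43) (kc xc1 yc49 zc1) (kc xc1 yc48 zc43) (kc xc7 yc27 zc17) (kc xc7 yc27 zc16) (kc xc3 yc15 zc30) (kc xc3 yc25 zc0) (kc xc2 yc52 zc13) (kc xc3 yc10 zc30) (kc xc2 yc14 zc24) (kc xc2 yc14 zc25) (kc xc3 yc40 zc39) (kc xc3 yc24 zc39) (kc xc6 yc49 zc20) (kc xc3 yc24 zc38) (kc xc3 yc24 zc37) (kc xc3 yc25 zc55) (kc xc3 yc32 zc18) (kc xc3 yc32 zc17) (kc xc3 yc4 zc32) (kc xc2 yc18 zc49) (kc xc3 yc38 zc29) (kc xc6 yc42 zc13) (kc xc3 yc32 zc3) (kc xc3 yc32 zc4) (kc xc7 yc28 zc1) (kc xc1 yc48 zc57) (kc xc1 yc48 zc55) (kc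 xc7 yc28 zc5) (kc xc1 yc48 zc56) (kc xc6 yc34 zc7) (kc xc3 yc46 zc32) (kc xc7 yc2 zc18) (kc xc6 yc53 zc8) (kc xc4 yc59 zc56) (kc xc7 yc2 zc30) (kc xc3 yc24 zc53) (kc xc7 yc28 zc26) (kc xc7 yc28 zc27) (kc xc6 yc59 zc42) (kc xc3 yc45 zc46) (kc xc7 yc28 zc37) (kc xc3 yc45 zc48) (kc xc7 yc27 zc12) (kc xc7 yc28 zc49) (kc xc6 yc53 zc43)) (@D3.rec (fun _ => Pt) (kc xc3 yc4 zc30) (kc xc3 yc4 zc29) (kc xc3 yc35 zc43) (kc xc3 yc35 zc44) (kc xc7 yc27 zc0) (kc xc7 yc29 zc1) (kc xc7 yc29 zc3) (kc xc7 yc26 zc52) (kc xc4 yc0 zc6) (kc xc6 yc8 zc52) (kc xc3 yc41 zc29) (kc xc1 yc49 zc9) (kc xc7 yc29 zc20) (kc xc7 yc29 zc24) (kc xc7 yc29 zc29) (kc xc7 yc29 zc18) (kc xc3 yc46 zc49) (kc xc7 yc29 zc35) (kc xc6 yc53 zc52) (kc xc7 yc4 zc4) (kc xc7 yc29 zc42) (kc xc6 yc53 zc53) (kc xc7 yc29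 zc45) (kc xc7 yc29 zc48) (kc xc1 yc49 zc12) (kc xc7 yc8 zc61) (kc xc3 yc25 zc8) (kc xc7 yc11 zc51) (kc xc7 yc29 zc61) (kc xc1 yc49 zc15) (kc xc6 yc54 zc12) (kc xc6 yc54 zc10) (kc xc7 yc30 zc7) (kc xc1 yc49 zc18) (kc xc7 yc30 zc12) (kc xc7 yc30 zc15) (kc xc3 yc44 zc36) (kc xc1 yc54 zc36) (kc xc7 yc30 zc25) (kc xc1 yc49 zc24) (kc xc1 yc49 zc22) (kc xc1 yc49 zc23) (kc xc3 yc44 zc42) (kc xc6 yc11 zc49) (kc xc3 yc26 zc14) (kc xc6 yc54 zc31) (kc xc6 yc51 zc49) (kc xc3 yc37 zc52) (kc xc6 yc32 zc29) (kc xc6 yc33 zc11) (kc xc1 yc52 zc21) (kc xc1 yc49 zc31) (kc xc7 yc1 zc54) (kc xc6 yc53 zc12) (kc xc6 yc49 zc26) (kc xc3 yc45 zc14) (kc xc1 yc50 zc2) (kc xc1 yc50 zc3) (kc xc1 yc49 zc34) (kc xc6 yc46 zc47) (kc xc7 yc30 zc54) (kc xc7 yc11 zc31)) (@D3.rec (fun _ => Pt) (kc xc6 yc53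 zc30) (kc xc3 yc38 zc17) (kc xc7 yc11 zc32) (kc xc6 yc53 zc32) (kc xc3 yc19 zc1) (kc xc1 yc50 zc5) (kc xc1 yc49 zc40) (kc xc7 yc31 zc0) (kc xc1 yc49 zc41) (kc xc4 yc41 zc46) (kc xc1 yc50 zc4) (kc xc1 yc49 zc43) (kc xc3 yc15 zc1) (kc xc1 yc49 zc53) (kc xc3 yc44 zc55) (kc xc1 yc49 zc46) (kc xc7 yc31 zc17) (kc xc4 yc40 zc34) (kc xc3 yc14 zc4) (kc xc1 yc49 zc50) (kc xc5 yc11 zc47) (kc xc6 yc10 zc14) (kc xc7 yc31 zc25) (kc xc2 yc52 zc10) (kc xc1 yc49 zc52) (kc xc6 yc11 zc13) (kc xc6 yc11 zc14) (kc xc7 yc31 zc35) (kc xc7 yc31 zc32) (kc xc7 yc31 zc37) (kc xc7 yc31 zc40) (kc xc7 yc31 zc13) (kc xc7 yc31 zc14) (kc xc7 yc31 zc48) (kc xc1 yc49 zc56) (kc xc1 yc49 zc55) (kc xc6 yc41 zc8) (kc xc7 yc31 zc52) (kc xc7 yc17 zc8) (kc xc6 yc15 zc4) (kc xc3 yc32 zc36) (kc xc7 yc32 zc1) (kc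 xc3 yc32 zc38) (kc xc6 yc36 zc53) (kc xc7 yc32 zc10) (kc xc7 yc27 zc37) (kc xc3 yc43 zc56) (kc xc7 yc32 zc13) (kc xc3 yc43 zc58) (kc xc6 yc36 zc55) (kc xc7 yc32 zc24) (kc xc6 yc53 zc0) (kc xc7 yc32 zc27) (kc xc3 yc15 zc4) (kc xc7 yc30 zc46) (kc xc7 yc15 zc54) (kc xc7 yc15 zc53) (kc xc7 yc32 zc44) (kc xc7 yc18 zc37) (kc xc7 yc32 zc46) (kc xc7 yc31 zc8) (kc xc7 yc32 zc51)) (@D3.rec (fun _ => Pt) (kc xc7 yc30 zc60) (kc xc7 yc32 zc58) (kc xc7 yc33 zc0) (kc xc7 yc33 zc5) (kc xc6 yc39 zc43) (kc xc7 yc17 zc0) (kc xc7 yc33 zc12) (kc xc6 yc53 zc1) (kc xc7 yc21 zc36) (kc xc7 yc33 zc18) (kc xc6 yc53 zc3) (kc xc7 yc33 zc22) (kc xc7 yc33 zc26) (kc xc1 yc50 zc9) (kc xc7 yc33 zc33) (kc xc3 yc46 zc15) (kc xc7 yc33 zc37) (kc xc1 yc50 zc13) (kc xc1 yc50 zc12) (kc xc7 yc33 zc42) (kc xc7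 yc1 zc31) (kc xc1 yc50 zc26) (kc xc4 yc32 zc40) (kc xc1 yc50 zc28) (kc xc7 yc0 zc45) (kc xc7 yc33 zc52) (kc xc3 yc39 zc37) (kc xc3 yc39 zc40) (kc xc1 yc50 zc21) (kc xc2 yc54 zc0) (kc xc6 yc31 zc19) (kc xc6 yc18 zc24) (kc xc3 yc43 zc47) (kc xc7 yc33 zc59) (kc xc6 yc14 zc44) (kc xc6 yc16 zc41) (kc xc3 yc39 zc23) (kc xc7 yc33 zc45) (kc xc7 yc34 zc5) (kc xc7 yc34 zc7) (kc xc1 yc50 zc27) (kc xc7 yc34 zc8) (kc xc7 yc17 zc37) (kc xc7 yc16 zc56) (kc xc7 yc34 zc20) (kc xc7 yc34 zc22) (kc xc7 yc34 zc26) (kc xc7 yc16 zc2) (kc xc6 yc39 zc39) (kc xc3 yc44 zc16) (kc xc7 yc0 zc35) (kc xc3 yc49 zc2) (kc xc3 yc39 zc49) (kc xc6 yc59 zc24) (kc xc3 yc39 zc48) (kc xc7 yc0 zc38) (kc xc7 yc0 zc37) (kc xc3 yc46 zc57) (kc xc1 yc50 zc34) (kc xc1 yc53 zc40) (kc xc3 yc15 zc19) (kc xc3 yc36 zc56))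 (@D3.rec (fun _ => Pt) (kc xc7 yc13 zc24) (kc xc7 yc34 zc52) (kc xc7 yc13 zc25) (kc xc6 yc35 zc40) (kc xc3 yc50 zc11) (kc xc7 yc35 zc3) (kc xc1 yc50 zc40) (kc xc7 yc35 zc6) (kc xc3 yc55 zc43) (kc xc3 yc55 zc44) (kc xc3 yc27 zc12) (kc xc6 yc28 zc21) (kc xc3 yc36 zc23) (kc xc3 yc37 zc22) (kc xc7 yc35 zc20) (kc xc1 yc52 zc6) (kc xc1 yc52 zc7) (kc xc3 yc26 zc29) (kc xc3 yc26 zc30) (kc xc6 yc35 zc28) (kc xc7 yc35 zc33) (kc xc3 yc26 zc23) (kc xc7 yc35 zc34) (kc xc7 yc35 zc37) (kc xc3 yc40 zc29) (kc xc7 yc35 zc40) (kc xc7 yc25 zc4) (kc xc6 yc35 zc17) (kc xc7 yc35 zc50) (kc xc3 yc54 zc3) (kc xc1 yc50 zc51) (kc xc6 yc31 zc11) (kc xc7 yc35 zc55) (kc xc3 yc33 zc27) (kc xc1 yc50 zc52) (kc xc6 yc31 zc10) (kc xc7 yc36 zc0) (kc xc7 yc36 zc4) (kc xc3 yc47 zc38) (kc xc7 yc36 zc11) (kc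 xc7 yc36 zc14) (kc xc1 yc50 zc54) (kc xc7 yc36 zc19) (kc xc7 yc36 zc25) (kc xc7 yc36 zc29) (kc xc7 yc36 zc33) (kc xc3 yc47 zc46) (kc xc7 yc36 zc36) (kc xc7 yc36 zc40) (kc xc7 yc36 zc45) (kc xc6 yc39 zc60) (kc xc3 yc27 zc36) (kc xc7 yc36 zc51) (kc xc3 yc27 zc34) (kc xc7 yc25 zc29) (kc xc1 yc50 zc58) (kc xc7 yc36 zc57) (kc xc7 yc11 zc30) (kc xc7 yc36 zc59) (kc xc7 yc37 zc0) (kc xc1 yc50 zc59) (kc xc7 yc2 zc58)) (@D3.rec (fun _ => Pt) (kc xc7 yc37 zc6) (kc xc3 yc51 zc56) (kc xc7 yc13 zc35) (kc xc7 yc37 zc14) (kc xc1 yc51 zc1) (kc xc3 yc27 zc27) (kc xc3 yc27 zc25) (kc xc7 yc37 zc21) (kc xc1 yc51 zc4) (kc xc3 yc55 zc50) (kc xc3 yc27 zc8) (kc xc3 yc27 zc9) (kc xc3 yc27 zc10) (kc xc1 yc51 zc19) (kc xc5 yc55 zc17) (kc xc7 yc37 zc35) (kc xc7 yc22 zc32) (kc xc3 yc32 zc50) (kc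 xc7 yc24 zc24) (kc xc6 yc54 zc61) (kc xc7 yc7 zc49) (kc xc5 yc49 zc39) (kc xc3 yc36 zc45) (kc xc3 yc36 zc47) (kc xc7 yc37 zc52) (kc xc3 yc36 zc43) (kc xc7 yc25 zc1) (kc xc3 yc54 zc60) (kc xc3 yc54 zc61) (kc xc7 yc37 zc60) (kc xc7 yc37 zc61) (kc xc3 yc19 zc50) (kc xc6 yc33 zc25) (kc xc3 yc7 zc0) (kc xc7 yc38 zc8) (kc xc7 yc38 zc12) (kc xc5 yc27 zc35) (kc xc7 yc11 zc8) (kc xc7 yc38 zc16) (kc xc6 yc34 zc16) (kc xc7 yc38 zc22) (kc xc6 yc34 zc20) (kc xc7 yc38 zc27) (kc xc7 yc38 zc31) (kc xc7 yc38 zc36) (kc xc6 yc38 zc46) (kc xc7 yc6 zc44) (kc xc7 yc38 zc43) (kc xc3 yc38 zc58) (kc xc7 yc38 zc47) (kc xc7 yc38 zc50) (kc xc6 yc54 zc39) (kc xc7 yc38 zc54) (kc xc7 yc38 zc57) (kc xc1 yc51 zc25) (kc xc7 yc38 zc60) (kc xc3 yc48 zc56) (kc xc7 yc39 zc2) (kc xc1 yc51 zc29) (kc xc1 yc51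 zc28) (kc xc7 yc39 zc6) (kc xc1 yc51 zc32)) (@D3.rec (fun _ => Pt) (kc xc1 yc51 zc31) (kc xc3 yc36 zc20) (kc xc3 yc46 zc51) (kc xc7 yc13 zc8) (kc xc7 yc35 zc59) (kc xc7 yc35 zc21) (kc xc1 yc51 zc43) (kc xc3 yc5 zc12) (kc xc1 yc51 zc45) (kc xc7 yc12 zc7) (kc xc7 yc39 zc21) (kc xc3 yc26 zc52) (kc xc3 yc37 zc12) (kc xc3 yc37 zc37) (kc xc3 yc37 zc38) (kc xc1 yc51 zc39) (kc xc7 yc15 zc30) (kc xc3 yc42 zc37) (kc xc7 yc7 zc51) (kc xc3 yc36 zc58) (kc xc7 yc39 zc29) (kc xc7 yc39 zc13) (kc xc7 yc39 zc35) (kc xc7 yc39 zc37) (kc xc1 yc51 zc44) (kc xc7 yc39 zc40) (kc xc7 yc8 zc32) (kc xc7 yc6 zc36) (kc xc7 yc39 zc51) (kc xc7 yc15 zc8) (kc xc7 yc39 zc54) (kc xc7 yc39 zc58) (kc xc7 yc40 zc1) (kc xc6 yc38 zc32) (kc xc3 yc55 zc13) (kc xc1 yc51 zc47) (kc xc7 yc40 zc5) (kc xc3 yc37 zc25)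 (kc xc7 yc40 zc11) (kc xc3 yc37 zc24) (kc xc7 yc40 zc14) (kc xc7 yc40 zc18) (kc xc1 yc51 zc49) (kc xc7 yc40 zc23) (kc xc3 yc49 zc44) (kc xc7 yc9 zc4) (kc xc1 yc51 zc52) (kc xc1 yc51 zc53) (kc xc1 yc51 zc54) (kc xc7 yc40 zc31) (kc xc7 yc3 zc38) (kc xc3 yc37 zc33) (kc xc7 yc39 zc23) (kc xc7 yc9 zc2) (kc xc1 yc51 zc56) (kc xc1 yc51 zc57) (kc xc3 yc16 zc10) (kc xc7 yc40 zc47) (kc xc7 yc24 zc61) (kc xc1 yc51 zc58) (kc xc3 yc17 zc29) (kc xc7 yc40 zc55)) (@D3.rec (fun _ => Pt) (kc xc7 yc40 zc58) (kc xc7 yc25 zc49) (kc xc7 yc41 zc2) (kc xc1 yc52 zc0) (kc xc6 yc10 zc41) (kc xc1 yc51 zc61) (kc xc7 yc31 zc31) (kc xc7 yc41 zc17) (kc xc7 yc41 zc21) (kc xc7 yc41 zc26) (kc xc7 yc41 zc7) (kc xc3 yc47 zc4) (kc xc1 yc52 zc5) (kc xc7 yc41 zc28) (kc xc3 yc2 zc8) (kc xc6 yc38 zc43) (kc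 xc6 yc38 zc44) (kc xc7 yc41 zc42) (kc xc6 yc37 zc50) (kc xc7 yc15 zc3) (kc xc1 yc52 zc4) (kc xc7 yc41 zc49) (kc xc7 yc13 zc23) (kc xc7 yc35 zc22) (kc xc7 yc41 zc53) (kc xc4 yc48 zc50) (kc xc7 yc35 zc23) (kc xc1 yc52 zc8) (kc xc7 yc41 zc60) (kc xc2 yc50 zc16) (kc xc2 yc50 zc0) (kc xc1 yc52 zc11) (kc xc2 yc55 zc2) (kc xc2 yc55 zc44) (kc xc2 yc49 zc56) (kc xc7 yc35 zc25) (kc xc7 yc35 zc26) (kc xc7 yc42 zc21) (kc xc7 yc16 zc19) (kc xc6 yc38 zc29) (kc xc6 yc38 zc30) (kc xc7 yc42 zc30) (kc xc6 yc36 zc59) (kc xc7 yc40 zc20) (kc xc7 yc40 zc21) (kc xc1 yc52 zc14) (kc xc7 yc42 zc38) (kc xc7 yc6 zc20) (kc xc3 yc33 zc19) (kc xc7 yc42 zc43) (kc xc7 yc13 zc27) (kc xc5 yc58 zc27) (kc xc7 yc42 zc52) (kc xc3 yc23 zc41) (kc xc1 yc53 zc17) (kc xc6 yc53 zc42) (kc xc7 yc43 zc1) (kc xc1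 yc54 zc35) (kc xc7 yc43 zc3) (kc xc2 yc56 zc16) (kc xc3 yc24 zc35) (kc xc1 yc52 zc32)) (@D3.rec (fun _ => Pt) (kc xc1 yc52 zc23) (kc xc7 yc43 zc18) (kc xc7 yc43 zc22) (kc xc7 yc43 zc26) (kc xc7 yc43 zc16) (kc xc7 yc13 zc51) (kc xc7 yc43 zc34) (kc xc7 yc25 zc34) (kc xc6 yc43 zc26) (kc xc7 yc43 zc40) (kc xc7 yc43 zc43) (kc xc7 yc43 zc46) (kc xc1 yc52 zc26) (kc xc7 yc43 zc52) (kc xc6 yc44 zc19) (kc xc1 yc52 zc28) (kc xc7 yc43 zc58) (kc xc6 yc39 zc40) (kc xc6 yc39 zc41) (kc xc7 yc44 zc7) (kc xc6 yc35 zc10) (kc xc2 yc14 zc13) (kc xc2 yc50 zc10) (kc xc6 yc39 zc36) (kc xc6 yc39 zc37) (kc xc7 yc15 zc57) (kc xc6 yc34 zc35) (kc xc7 yc44 zc22) (kc xc7 yc44 zc24) (kc xc7 yc43 zc11) (kc xc7 yc43 zc12) (kc xc7 yc32 zc53) (kc xc7 yc32 zc54) (kc xc7 yc44 zc37) (kc xc1 yc52 zc37) (kc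 xc7 yc44 zc41) (kc xc1 yc52 zc34) (kc xc7 yc44 zc50) (kc xc7 yc44 zc47) (kc xc7 yc44 zc57) (kc xc1 yc52 zc35) (kc xc7 yc44 zc61) (kc xc7 yc44 zc60) (kc xc7 yc45 zc5) (kc xc7 yc45 zc9) (kc xc1 yc52 zc36) (kc xc7 yc45 zc16) (kc xc6 yc36 zc0) (kc xc7 yc45 zc20) (kc xc7 yc45 zc24) (kc xc7 yc45 zc29) (kc xc7 yc45 zc30) (kc xc7 yc25 zc55) (kc xc1 yc52 zc39) (kc xc7 yc45 zc38) (kc xc7 yc45 zc35) (kc xc3 yc48 zc1) (kc xc3 yc40 zc34) (kc xc3 yc52 zc3) (kc xc1 yc52 zc42) (kc xc7 yc45 zc47) (kc xc7 yc45 zc49)) (@D3.rec (fun _ => Pt) (kc xc1 yc52 zc41) (kc xc7 yc45 zc54) (kc xc7 yc45 zc59) (kc xc3 yc51 zc58) (kc xc7 yc41 zc59) (kc xc7 yc45 zc61) (kc xc1 yc52 zc43) (kc xc7 yc11 zc33) (kc xc1 yc52 zc45) (kc xc7 yc46 zc6) (kc xc6 yc57 zc18) (kc xc6 yc41 zc19) (kc xc1 yc52 zc47) (kc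 xc7 yc2 zc31) (kc xc7 yc46 zc13) (kc xc7 yc46 zc19) (kc xc1 yc52 zc48) (kc xc7 yc2 zc45) (kc xc7 yc46 zc23) (kc xc7 yc3 zc34) (kc xc7 yc3 zc56) (kc xc7 yc43 zc50) (kc xc7 yc0 zc4) (kc xc1 yc52 zc50) (kc xc7 yc46 zc38) (kc xc7 yc46 zc42) (kc xc7 yc25 zc61) (kc xc7 yc46 zc47) (kc xc7 yc13 zc43) (kc xc7 yc28 zc7) (kc xc7 yc46 zc51) (kc xc7 yc46 zc54) (kc xc7 yc46 zc57) (kc xc1 yc52 zc54) (kc xc6 yc56 zc56) (kc xc3 yc27 zc24) (kc xc1 yc52 zc61) (kc xc6 yc56 zc54) (kc xc1 yc52 zc59) (kc xc6 yc57 zc32) (kc xc6 yc57 zc33) (kc xc1 yc52 zc58) (kc xc3 yc34 zc44) (kc xc6 yc55 zc37) (kc xc6 yc57 zc29) (kc xc6 yc58 zc26) (kc xc7 yc47 zc13) (kc xc7 yc47 zc16) (kc xc7 yc47 zc2) (kc xc7 yc47 zc22) (kc xc7 yc47 zc4) (kc xc7 yc47 zc28) (kc xc7 yc47 zc31) (kc xc1 yc53 zc0) (kc xc7 yc47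 zc35) (kc xc6 yc57 zc19) (kc xc7 yc47 zc42) (kc xc1 yc53 zc2) (kc xc1 yc53 zc3) (kc xc3 yc53 zc40) (kc xc6 yc57 zc16) (kc xc7 yc47 zc7)) (@D3.rec (fun _ => Pt) (kc xc7 yc2 zc55) (kc xc1 yc53 zc5) (kc xc7 yc7 zc43) (kc xc7 yc13 zc39) (kc xc1 yc53 zc11) (kc xc7 yc48 zc1) (kc xc1 yc53 zc10) (kc xc6 yc58 zc20) (kc xc3 yc53 zc48) (kc xc1 yc53 zc9) (kc xc6 yc58 zc37) (kc xc6 yc58 zc38) (kc xc7 yc18 zc18) (kc xc7 yc7 zc56) (kc xc7 yc47 zc58) (kc xc7 yc48 zc10) (kc xc7 yc47 zc60) (kc xc1 yc53 zc12) (kc xc7 yc48 zc16) (kc xc6 yc34 zc10) (kc xc7 yc48 zc21) (kc xc1 yc53 zc15) (kc xc7 yc48 zc4) (kc xc7 yc2 zc56) (kc xc1 yc53 zc16) (kc xc7 yc11 zc15) (kc xc7 yc42 zc57) (kc xc7 yc48 zc32) (kc xc1 yc53 zc19) (kc xc7 yc13 zc54) (kc xc7 yc48 zc36) (kc xc7 yc48 zc38) (kc xc1 yc53 zc22)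 (kc xc7 yc10 zc7) (kc xc7 yc48 zc43) (kc xc7 yc48 zc45) (kc xc1 yc53 zc25) (kc xc7 yc48 zc48) (kc xc1 yc53 zc26) (kc xc7 yc48 zc51) (kc xc3 yc52 zc59) (kc xc7 yc5 zc59) (kc xc6 yc41 zc38) (kc xc1 yc53 zc29) (kc xc7 yc26 zc17) (kc xc6 yc41 zc36) (kc xc7 yc5 zc20) (kc xc6 yc10 zc2) (kc xc3 yc53 zc8) (kc xc3 yc41 zc45) (kc xc1 yc55 zc9) (kc xc7 yc49 zc14) (kc xc1 yc53 zc33) (kc xc7 yc49 zc17) (kc xc7 yc49 zc21) (kc xc3 yc53 zc55) (kc xc4 yc48 zc16) (kc xc6 yc54 zc37) (kc xc7 yc49 zc34) (kc xc1 yc53 zc39) (kc xc1 yc53 zc37) (kc xc1 yc53 zc38)) (@D3.rec (fun _ => Pt) (kc xc7 yc49 zc40) (kc xc7 yc49 zc39) (kc xc7 yc49 zc41) (kc xc3 yc47 zc29) (kc xc3 yc26 zc47) (kc xc7 yc34 zc48) (kc xc7 yc49 zc50) (kc xc6 yc30 zc44) (kc xc3 yc4 zc27) (kc xc3 yc4 zc24) (kc xc3 yc36 zc37)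 (kc xc3 yc36 zc38) (kc xc7 yc49 zc59) (kc xc3 yc55 zc7) (kc xc1 yc53 zc45) (kc xc7 yc50 zc5) (kc xc5 yc43 zc24) (kc xc7 yc50 zc12) (kc xc7 yc50 zc3) (kc xc7 yc34 zc61) (kc xc7 yc50 zc19) (kc xc7 yc9 zc8) (kc xc7 yc6 zc46) (kc xc7 yc50 zc25) (kc xc7 yc3 zc18) (kc xc7 yc50 zc29) (kc xc7 yc50 zc32) (kc xc1 yc53 zc48) (kc xc7 yc50 zc38) (kc xc7 yc3 zc5) (kc xc3 yc33 zc61) (kc xc7 yc6 zc34) (kc xc7 yc50 zc48) (kc xc1 yc53 zc53) (kc xc7 yc50 zc52) (kc xc1 yc53 zc52) (kc xc1 yc53 zc54) (kc xc7 yc50 zc59) (kc xc7 yc26 zc10) (kc xc7 yc50 zc57) (kc xc7 yc51 zc2) (kc xc1 yc53 zc57) (kc xc1 yc53 zc56) (kc xc7 yc51 zc9) (kc xc7 yc51 zc6) (kc xc7 yc51 zc10) (kc xc1 yc53 zc59) (kc xc7 yc51 zc13) (kc xc2 yc50 zc8) (kc xc3 yc54 zc49) (kc xc3 yc19 zc7) (kc xc6 yc55 zc7) (kc xc7 yc51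 zc27) (kc xc1 yc54 zc4) (kc xc1 yc54 zc1) (kc xc1 yc54 zc2) (kc xc1 yc54 zc3) (kc xc7 yc51 zc33) (kc xc7 yc35 zc52) (kc xc7 yc30 zc11) (kc xc3 yc48 zc27) (kc xc3 yc48 zc28)) (@D3.rec (fun _ => Pt) (kc xc7 yc51 zc42) (kc xc2 yc50 zc57) (kc xc3 yc33 zc35) (kc xc3 yc33 zc4) (kc xc3 yc33 zc6) (kc xc7 yc51 zc53) (kc xc3 yc33 zc2) (kc xc3 yc54 zc13) (kc xc1 yc54 zc10) (kc xc7 yc52 zc2) (kc xc7 yc52 zc6) (kc xc7 yc52 zc11) (kc xc7 yc52 zc0) (kc xc3 yc49 zc34) (kc xc7 yc52 zc16) (kc xc7 yc13 zc11) (kc xc7 yc52 zc22) (kc xc6 yc55 zc17) (kc xc7 yc52 zc25) (kc xc7 yc52 zc27) (kc xc1 yc54 zc13) (kc xc7 yc52 zc32) (kc xc3 yc26 zc46) (kc xc7 yc13 zc0) (kc xc7 yc52 zc41) (kc xc6 yc55 zc35) (kc xc7 yc52 zc45) (kc xc1 yc54 zc19) (kc xc3 yc30 zc26) (kc xc1 yc54 zc20) (kc xc6 yc55 zc48)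 (kc xc1 yc54 zc21) (kc xc7 yc52 zc55) (kc xc6 yc55 zc18) (kc xc6 yc55 zc19) (kc xc7 yc52 zc59) (kc xc1 yc54 zc23) (kc xc7 yc53 zc1) (kc xc1 yc54 zc25) (kc xc6 yc1 zc25) (kc xc3 yc38 zc5) (kc xc1 yc54 zc27) (kc xc7 yc53 zc6) (kc xc3 yc47 zc8) (kc xc3 yc47 zc9) (kc xc7 yc53 zc16) (kc xc7 yc30 zc36) (kc xc7 yc25 zc2) (kc xc1 yc54 zc31) (kc xc5 yc26 zc17) (kc xc3 yc48 zc9) (kc xc7 yc53 zc26) (kc xc1 yc54 zc33) (kc xc1 yc54 zc34) (kc xc7 yc10 zc34) (kc xc3 yc42 zc28) (kc xc7 yc30 zc22) (kc xc7 yc53 zc36) (kc xc1 yc54 zc38) (kc xc7 yc26 zc2) (kc xc7 yc53 zc40) (kc xc7 yc8 zc54)) (@D3.rec (fun _ => Pt) (kc xc1 yc54 zc41) (kc xc7 yc25 zc35) (kc xc7 yc53 zc46) (kc xc1 yc54 zc43) (kc xc7 yc53 zc50) (kc xc7 yc53 zc53) (kc xc1 yc54 zc46) (kc xc6 yc58 zc31) (kc xc7 yc53 zc60) (kc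 xc3 yc56 zc9) (kc xc3 yc56 zc20) (kc xc1 yc54 zc50) (kc xc1 yc54 zc49) (kc xc7 yc37 zc7) (kc xc1 yc54 zc51) (kc xc7 yc54 zc8) (kc xc7 yc54 zc12) (kc xc7 yc54 zc15) (kc xc7 yc54 zc18) (kc xc1 yc54 zc53) (kc xc3 yc56 zc10) (kc xc6 yc57 zc42) (kc xc6 yc57 zc43) (kc xc7 yc54 zc26) (kc xc1 yc54 zc55) (kc xc7 yc54 zc33) (kc xc7 yc54 zc34) (kc xc1 yc54 zc57) (kc xc1 yc54 zc58) (kc xc6 yc57 zc20) (kc xc7 yc54 zc44) (kc xc3 yc56 zc31) (kc xc7 yc54 zc27) (kc xc1 yc54 zc61) (kc xc6 yc58 zc8) (kc xc7 yc54 zc54) (kc xc7 yc54 zc57) (kc xc7 yc54 zc60) (kc xc7 yc55 zc1) (kc xc1 yc55 zc2) (kc xc7 yc55 zc5) (kc xc6 yc57 zc45) (kc xc3 yc34 zc3) (kc xc7 yc55 zc12) (kc xc1 yc55 zc4) (kc xc1 yc55 zc5) (kc xc7 yc55 zc16) (kc xc3 yc13 zc32) (kc xc7 yc55 zc20) (kc xc1 yc55 zc7) (kc xc7 yc33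 zc23) (kc xc1 yc55 zc8) (kc xc2 yc23 zc43) (kc xc2 yc23 zc44) (kc xc1 yc55 zc10) (kc xc4 yc51 zc32) (kc xc7 yc55 zc30) (kc xc3 yc57 zc13) (kc xc4 yc56 zc45) (kc xc1 yc55 zc13) (kc xc7 yc55 zc34) (kc xc1 yc56 zc43)) (@D3.rec (fun _ => Pt) (kc xc1 yc55 zc15) (kc xc7 yc55 zc39) (kc xc7 yc55 zc43) (kc xc4 yc53 zc5) (kc xc4 yc53 zc8) (kc xc1 yc56 zc54) (kc xc1 yc56 zc55) (kc xc5 yc21 zc16) (kc xc2 yc9 zc15) (kc xc1 yc55 zc20) (kc xc7 yc56 zc0) (kc xc2 yc5 zc1) (kc xc5 yc23 zc58) (kc xc3 yc56 zc57) (kc xc1 yc55 zc22) (kc xc7 yc56 zc9) (kc xc1 yc55 zc26) (kc xc3 yc59 zc59) (kc xc4 yc56 zc47) (kc xc1 yc55 zc25) (kc xc3 yc57 zc23) (kc xc7 yc55 zc54) (kc xc1 yc55 zc28) (kc xc3 yc57 zc20) (kc xc4 yc53 zc7) (kc xc1 yc56 zc45) (kc xc4 yc53 zc4) (kc xc1 yc56 zc13) (kc xc4 yc32 zc52)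 (kc xc1 yc56 zc16) (kc xc7 yc56 zc27) (kc xc1 yc56 zc18) (kc xc4 yc53 zc14) (kc xc4 yc53 zc13) (kc xc1 yc55 zc32) (kc xc7 yc56 zc35) (kc xc2 yc8 zc32) (kc xc7 yc12 zc10) (kc xc3 yc9 zc50) (kc xc7 yc56 zc44) (kc xc2 yc18 zc48) (kc xc7 yc56 zc48) (kc xc2 yc54 zc20) (kc xc2 yc53 zc16) (kc xc7 yc56 zc51) (kc xc3 yc0 zc59) (kc xc7 yc56 zc56) (kc xc4 yc25 zc13) (kc xc5 yc56 zc14) (kc xc2 yc26 zc51) (kc xc7 yc57 zc4) (kc xc1 yc57 zc60) (kc xc7 yc25 zc21) (kc xc2 yc0 zc55) (kc xc4 yc36 zc57) (kc xc7 yc57 zc10) (kc xc4 yc35 zc58) (kc xc7 yc57 zc13) (kc xc6 yc31 zc55) (kc xc7 yc57 zc17) (kc xc1 yc55 zc45) (kc xc7 yc57 zc21)) (@D3.rec (fun _ => Pt) (kc xc6 yc13 zc34) (kc xc6 yc13 zc35) (kc xc4 yc26 zc51) (kc xc5 yc21 zc47) (kc xc1 yc55 zc48) (kc xc1 yc55 zc49) (kc xc7 yc57 zc37)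 (kc xc7 yc57 zc39) (kc xc7 yc57 zc41) (kc xc7 yc57 zc43) (kc xc1 yc55 zc52) (kc xc7 yc57 zc47) (kc xc7 yc57 zc49) (kc xc2 yc25 zc9) (kc xc7 yc57 zc51) (kc xc1 yc55 zc57) (kc xc7 yc57 zc54) (kc xc1 yc55 zc56) (kc xc7 yc57 zc60) (kc xc7 yc58 zc2) (kc xc7 yc58 zc3) (kc xc2 yc1 zc31) (kc xc1 yc55 zc59) (kc xc7 yc58 zc7) (kc xc2 yc37 zc5) (kc xc1 yc55 zc61) (kc xc7 yc58 zc14) (kc xc5 yc16 zc57) (kc xc1 yc56 zc0) (kc xc7 yc58 zc21) (kc xc4 yc1 zc4) (kc xc4 yc3 zc61) (kc xc1 yc56 zc6) (kc xc7 yc58 zc38) (kc xc1 yc56 zc2) (kc xc7 yc58 zc41) (kc xc1 yc56 zc3) (kc xc7 yc58 zc45) (kc xc4 yc29 zc39) (kc xc4 yc29 zc40) (kc xc2 yc42 zc50) (kc xc3 yc21 zc54) (kc xc4 yc29 zc61) (kc xc2 yc42 zc58) (kc xc7 yc58 zc55) (kc xc7 yc58 zc59) (kc xc7 yc58 zc34) (kc xc7 yc59 zc2) (kc xc2 yc26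 zc49) (kc xc2 yc43 zc20) (kc xc2 yc43 zc21) (kc xc4 yc22 zc33) (kc xc1 yc56 zc12) (kc xc6 yc24 zc32) (kc xc7 yc59 zc7) (kc xc6 yc14 zc19) (kc xc5 yc41 zc44) (kc xc7 yc59 zc10) (kc xc2 yc26 zc28) (kc xc1 yc56 zc14) (kc xc7 yc59 zc17) (kc xc7 yc59 zc14)) (@D3.rec (fun _ => Pt) (kc xc7 yc59 zc16) (kc xc7 yc59 zc21) (kc xc1 yc56 zc15) (kc xc7 yc59 zc27) (kc xc7 yc59 zc26) (kc xc7 yc59 zc31) (kc xc7 yc59 zc34) (kc xc7 yc59 zc37) (kc xc1 yc56 zc17) (kc xc7 yc59 zc40) (kc xc7 yc59 zc41) (kc xc2 yc45 zc7) (kc xc1 yc56 zc20) (kc xc2 yc48 zc38) (kc xc2 yc48 zc39) (kc xc5 yc45 zc54) (kc xc2 yc25 zc60) (kc xc3 yc0 zc37) (kc xc2 yc27 zc0) (kc xc2 yc15 zc7) (kc xc2 yc15 zc33) (kc xc2 yc26 zc60) (kc xc7 yc59 zc57) (kc xc1 yc56 zc25) (kc xc1 yc56 zc24) (kc xc8 yc0 zc3) (kc xc2 yc52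 zc7) (kc xc2 yc10 zc17) (kc xc1 yc56 zc26) (kc xc6 yc25 zc7) (kc xc8 yc0 zc6) (kc xc8 yc0 zc5) (kc xc4 yc33 zc34) (kc xc1 yc56 zc29) (kc xc1 yc56 zc28) (kc xc8 yc0 zc16) (kc xc5 yc41 zc37) (kc xc8 yc0 zc19) (kc xc8 yc0 zc13) (kc xc1 yc56 zc30) (kc xc8 yc0 zc21) (kc xc2 yc21 zc15) (kc xc1 yc56 zc31) (kc xc8 yc0 zc28) (kc xc8 yc0 zc31) (kc xc1 yc56 zc32) (kc xc8 yc0 zc35) (kc xc4 yc37 zc46) (kc xc8 yc0 zc39) (kc xc1 yc56 zc34) (kc xc8 yc0 zc45) (kc xc8 yc0 zc49) (kc xc8 yc0 zc43) (kc xc8 yc0 zc53) (kc xc3 yc5 zc30) (kc xc2 yc22 zc51) (kc xc5 yc26 zc20) (kc xc8 yc0 zc59) (kc xc1 yc56 zc38) (kc xc3 yc57 zc17) (kc xc1 yc56 zc42) (kc xc3 yc4 zc40))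
def f_c_4 : D2 → D3 → Pt := @D2.rec (fun _ => D3 → Pt) (@D3.rec (fun _ => Pt) (kc xc2 yc26 zc22) (kc xc8 yc1 zc5) (kc xc2 yc26 zc21) (kc xc1 yc56 zc47) (kc xc8 yc1 zc9) (kc xc4 yc0 zc19) (kc xc3 yc44 zc8) (kc xc7 yc57 zc7) (kc xc7 yc23 zc24) (kc xc1 yc56 zc52) (kc xc8 yc1 zc17) (kc xc4 yc26 zc39) (kc xc4 yc26 zc40) (kc xc6 yc13 zc37) (kc xc6 yc4 zc16) (kc xc7 yc55 zc52) (kc xc2 yc2 zc7) (kc xc7 yc55 zc55) (kc xc4 yc50 zc58) (kc xc4 yc0 zc5) (kc xc1 yc56 zc57) (kc xc8 yc1 zc40) (kc xc2 yc8 zc50) (kc xc4 yc56 zc61) (kc xc3 yc33 zc37) (kc xc8 yc1 zc46) (kc xc8 yc1 zc49) (kc xc4 yc0 zc27) (kc xc8 yc1 zc55) (kc xc4 yc0 zc29) (kc xc1 yc56 zc61) (kc xc8 yc1 zc60) (kc xc2 yc24 zc24) (kc xc1 yc57 zc1) (kc xc7 yc14 zc27) (kc xc6 yc13 zc42) (kc xc2 yc9 zc36) (kc xc2 yc9 zc38)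 (kc xc7 yc27 zc44) (kc xc4 yc0 zc39) (kc xc2 yc10 zc12) (kc xc1 yc57 zc8) (kc xc3 yc5 zc44) (kc xc8 yc2 zc13) (kc xc2 yc27 zc18) (kc xc1 yc57 zc9) (kc xc5 yc49 zc3) (kc xc8 yc2 zc18) (kc xc6 yc8 zc32) (kc xc4 yc34 zc10) (kc xc5 yc49 zc21) (kc xc2 yc56 zc18) (kc xc6 yc8 zc33) (kc xc4 yc0 zc53) (kc xc1 yc57 zc14) (kc xc4 yc26 zc52) (kc xc4 yc26 zc53) (kc xc8 yc2 zc33) (kc xc8 yc2 zc42) (kc xc4 yc54 zc38) (kc xc1 yc57 zc17) (kc xc8 yc2 zc46)) (@D3.rec (fun _ => Pt) (kc xc1 yc58 zc30) (kc xc4 yc50 zc41) (kc xc1 yc57 zc19) (kc xc8 yc2 zc51) (kc xc3 yc58 zc30) (kc xc1 yc57 zc21) (kc xc8 yc2 zc55) (kc xc1 yc57 zc22) (kc xc8 yc2 zc61) (kc xc8 yc2 zc44) (kc xc4 yc4 zc16) (kc xc8 yc3 zc8) (kc xc1 yc57 zc29) (kc xc8 yc3 zc10) (kc xc1 yc57 zc31) (kc xc1 yc57 zc32) (kc xc1 yc59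 zc28) (kc xc5 yc9 zc21) (kc xc1 yc57 zc34) (kc xc1 yc57 zc35) (kc xc8 yc3 zc19) (kc xc2 yc0 zc6) (kc xc5 yc9 zc20) (kc xc4 yc2 zc12) (kc xc5 yc9 zc13) (kc xc2 yc0 zc10) (kc xc5 yc9 zc10) (kc xc1 yc57 zc41) (kc xc2 yc0 zc8) (kc xc5 yc9 zc4) (kc xc4 yc2 zc9) (kc xc5 yc8 zc59) (kc xc2 yc4 zc4) (kc xc8 yc3 zc44) (kc xc5 yc8 zc49) (kc xc5 yc8 zc38) (kc xc1 yc57 zc45) (kc xc8 yc3 zc51) (kc xc4 yc1 zc55) (kc xc8 yc3 zc57) (kc xc8 yc3 zc59) (kc xc1 yc57 zc48) (kc xc8 yc4 zc0) (kc xc1 yc57 zc49) (kc xc8 yc4 zc5) (kc xc5 yc4 zc58) (kc xc2 yc36 zc24) (kc xc1 yc57 zc51) (kc xc8 yc4 zc12) (kc xc2 yc34 zc50) (kc xc1 yc57 zc52) (kc xc8 yc4 zc18) (kc xc1 yc58 zc19) (kc xc1 yc58 zc20) (kc xc5 yc0 zc53) (kc xc4 yc1 zc38) (kc xc1 yc57 zc54) (kc xc8 yc4 zc35) (kc xc5 yc8 zc35) (kc xc5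 yc8 zc36) (kc xc1 yc57 zc55) (kc xc8 yc4 zc38)) (@D3.rec (fun _ => Pt) (kc xc1 yc57 zc57) (kc xc1 yc57 zc58) (kc xc2 yc0 zc0) (kc xc8 yc4 zc33) (kc xc1 yc57 zc61) (kc xc8 yc4 zc45) (kc xc4 yc13 zc27) (kc xc8 yc4 zc32) (kc xc8 yc4 zc25) (kc xc4 yc1 zc30) (kc xc8 yc4 zc22) (kc xc1 yc58 zc5) (kc xc4 yc1 zc23) (kc xc8 yc4 zc17) (kc xc8 yc4 zc11) (kc xc1 yc59 zc32) (kc xc8 yc5 zc0) (kc xc8 yc5 zc5) (kc xc4 yc2 zc18) (kc xc8 yc5 zc11) (kc xc4 yc2 zc20) (kc xc8 yc4 zc4) (kc xc8 yc3 zc61) (kc xc1 yc58 zc9) (kc xc8 yc5 zc20) (kc xc2 yc31 zc47) (kc xc1 yc58 zc11) (kc xc5 yc9 zc11) (kc xc5 yc9 zc14) (kc xc4 yc27 zc28) (kc xc4 yc13 zc35) (kc xc1 yc58 zc15) (kc xc8 yc5 zc38) (kc xc8 yc5 zc41) (kc xc5 yc0 zc52) (kc xc1 yc58 zc17) (kc xc8 yc5 zc46) (kc xc8 yc4 zc23) (kc xc8 yc4 zc26)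 (kc xc5 yc21 zc23) (kc xc4 yc4 zc59) (kc xc1 yc58 zc22) (kc xc8 yc5 zc60) (kc xc8 yc6 zc1) (kc xc1 yc58 zc25) (kc xc1 yc58 zc24) (kc xc8 yc6 zc6) (kc xc8 yc6 zc3) (kc xc1 yc58 zc26) (kc xc4 yc55 zc8) (kc xc8 yc6 zc10) (kc xc5 yc0 zc35) (kc xc5 yc0 zc36) (kc xc1 yc59 zc2) (kc xc8 yc6 zc27) (kc xc1 yc58 zc28) (kc xc8 yc6 zc30) (kc xc6 yc6 zc57) (kc xc6 yc6 zc58) (kc xc1 yc58 zc29) (kc xc8 yc6 zc36) (kc xc2 yc23 zc36)) (@D3.rec (fun _ => Pt) (kc xc4 yc21 zc20) (kc xc8 yc6 zc40) (kc xc2 yc5 zc45) (kc xc1 yc58 zc32) (kc xc8 yc6 zc44) (kc xc4 yc19 zc4) (kc xc8 yc6 zc48) (kc xc4 yc16 zc59) (kc xc1 yc58 zc34) (kc xc5 yc22 zc31) (kc xc8 yc6 zc51) (kc xc1 yc58 zc35) (kc xc8 yc6 zc57) (kc xc1 yc59 zc55) (kc xc2 yc23 zc8) (kc xc4 yc7 zc43) (kc xc8 yc7 zc10) (kc xc1 yc58 zc37) (kc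 xc8 yc7 zc13) (kc xc8 yc7 zc14) (kc xc1 yc58 zc38) (kc xc8 yc7 zc18) (kc xc8 yc7 zc20) (kc xc2 yc3 zc29) (kc xc1 yc58 zc40) (kc xc8 yc7 zc22) (kc xc1 yc58 zc41) (kc xc8 yc7 zc27) (kc xc8 yc7 zc16) (kc xc1 yc58 zc43) (kc xc8 yc7 zc36) (kc xc8 yc7 zc38) (kc xc8 yc7 zc42) (kc xc8 yc7 zc35) (kc xc1 yc58 zc45) (kc xc7 yc58 zc11) (kc xc5 yc36 zc30) (kc xc2 yc5 zc60) (kc xc7 yc57 zc57) (kc xc7 yc57 zc56) (kc xc1 yc58 zc49) (kc xc8 yc7 zc51) (kc xc4 yc51 zc23) (kc xc4 yc6 zc18) (kc xc4 yc12 zc24) (kc xc2 yc6 zc5) (kc xc8 yc7 zc49) (kc xc1 yc58 zc52) (kc xc8 yc8 zc0) (kc xc8 yc8 zc3) (kc xc8 yc8 zc6) (kc xc8 yc7 zc61) (kc xc1 yc58 zc54) (kc xc1 yc58 zc56) (kc xc8 yc8 zc13) (kc xc8 yc8 zc11) (kc xc1 yc58 zc58) (kc xc8 yc8 zc25) (kc xc8 yc8 zc27) (kc xc8 yc8 zc31) (kc xc8 yc8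 zc23) (kc xc3 yc58 zc31)) (@D3.rec (fun _ => Pt) (kc xc1 yc58 zc59) (kc xc8 yc8 zc36) (kc xc8 yc8 zc34) (kc xc1 yc58 zc61) (kc xc8 yc8 zc48) (kc xc8 yc8 zc52) (kc xc8 yc8 zc47) (kc xc2 yc12 zc4) (kc xc2 yc25 zc44) (kc xc8 yc9 zc1) (kc xc4 yc4 zc47) (kc xc8 yc9 zc8) (kc xc8 yc9 zc13) (kc xc8 yc6 zc22) (kc xc8 yc9 zc19) (kc xc8 yc6 zc24) (kc xc4 yc1 zc10) (kc xc1 yc59 zc5) (kc xc8 yc9 zc28) (kc xc8 yc9 zc32) (kc xc1 yc59 zc6) (kc xc8 yc9 zc36) (kc xc5 yc20 zc29) (kc xc1 yc59 zc7) (kc xc8 yc9 zc42) (kc xc2 yc12 zc23) (kc xc1 yc59 zc9) (kc xc8 yc9 zc52) (kc xc8 yc9 zc54) (kc xc8 yc9 zc58) (kc xc8 yc9 zc50) (kc xc2 yc37 zc43) (kc xc5 yc4 zc59) (kc xc1 yc59 zc11) (kc xc4 yc12 zc7) (kc xc8 yc9 zc61) (kc xc1 yc59 zc18) (kc xc8 yc10 zc2) (kc xc4 yc4 zc38) (kc xc8 yc10 zc1) (kc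 xc1 yc59 zc21) (kc xc8 yc10 zc12) (kc xc8 yc10 zc16) (kc xc8 yc10 zc19) (kc xc8 yc10 zc10) (kc xc4 yc19 zc17) (kc xc1 yc59 zc23) (kc xc4 yc4 zc10) (kc xc4 yc4 zc48) (kc xc8 yc10 zc28) (kc xc3 yc39 zc32) (kc xc2 yc0 zc57) (kc xc2 yc30 zc14) (kc xc5 yc12 zc26) (kc xc2 yc0 zc15) (kc xc8 yc10 zc37) (kc xc2 yc0 zc17) (kc xc1 yc59 zc34) (kc xc8 yc10 zc41) (kc xc4 yc2 zc40) (kc xc4 yc17 zc40) (kc xc4 yc28 zc7)) (@D3.rec (fun _ => Pt) (kc xc1 yc59 zc38) (kc xc1 yc59 zc39) (kc xc8 yc10 zc52) (kc xc8 yc10 zc53) (kc xc8 yc10 zc55) (kc xc1 yc59 zc42) (kc xc8 yc10 zc60) (kc xc8 yc11 zc1) (kc xc2 yc3 zc53) (kc xc8 yc11 zc4) (kc xc1 yc59 zc47) (kc xc8 yc11 zc7) (kc xc1 yc59 zc46) (kc xc8 yc11 zc13) (kc xc8 yc11 zc17) (kc xc1 yc59 zc49) (kc xc8 yc11 zc21) (kc xc6 yc4 zc28) (kc xc1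 yc59 zc51) (kc xc8 yc11 zc28) (kc xc4 yc15 zc14) (kc xc1 yc59 zc52) (kc xc8 yc11 zc35) (kc xc4 yc7 zc49) (kc xc4 yc7 zc50) (kc xc8 yc11 zc47) (kc xc1 yc59 zc54) (kc xc8 yc11 zc50) (kc xc8 yc7 zc0) (kc xc5 yc26 zc35) (kc xc5 yc26 zc36) (kc xc4 yc35 zc14) (kc xc2 yc59 zc56) (kc xc4 yc7 zc28) (kc xc1 yc59 zc61) (kc xc2 yc0 zc3) (kc xc7 yc53 zc17) (kc xc4 yc34 zc45) (kc xc7 yc59 zc60) (kc xc7 yc59 zc59) (kc xc5 yc7 zc18) (kc xc8 yc12 zc6) (kc xc2 yc51 zc26) (kc xc8 yc12 zc10) (kc xc8 yc12 zc12) (kc xc8 yc3 zc31) (kc xc5 yc0 zc8) (kc xc8 yc10 zc31) (kc xc8 yc4 zc61) (kc xc4 yc7 zc7) (kc xc2 yc0 zc13) (kc xc8 yc12 zc24) (kc xc8 yc12 zc22) (kc xc8 yc12 zc23) (kc xc5 yc5 zc11) (kc xc2 yc0 zc14) (kc xc8 yc12 zc31) (kc xc8 yc12 zc30) (kc xc8 yc12 zc36) (kc xc8 yc12 zc38) (kc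 xc8 yc12 zc40) (kc xc2 yc0 zc16)) (@D3.rec (fun _ => Pt) (kc xc8 yc12 zc45) (kc xc8 yc12 zc46) (kc xc8 yc12 zc43) (kc xc2 yc0 zc19) (kc xc6 yc8 zc23) (kc xc2 yc51 zc35) (kc xc5 yc52 zc13) (kc xc4 yc7 zc2) (kc xc4 yc11 zc4) (kc xc4 yc11 zc26) (kc xc2 yc0 zc23) (kc xc2 yc0 zc24) (kc xc8 yc13 zc2) (kc xc8 yc13 zc3) (kc xc8 yc13 zc4) (kc xc2 yc0 zc27) (kc xc8 yc13 zc8) (kc xc8 yc13 zc11) (kc xc4 yc3 zc43) (kc xc2 yc4 zc57) (kc xc8 yc13 zc15) (kc xc2 yc0 zc32) (kc xc8 yc13 zc17) (kc xc8 yc13 zc19) (kc xc2 yc0 zc31) (kc xc8 yc13 zc24) (kc xc8 yc13 zc29) (kc xc4 yc7 zc54) (kc xc8 yc13 zc31) (kc xc2 yc0 zc36) (kc xc2 yc0 zc35) (kc xc8 yc13 zc35) (kc xc5 yc20 zc19) (kc xc2 yc0 zc37) (kc xc8 yc13 zc40) (kc xc4 yc8 zc3) (kc xc2 yc0 zc38) (kc xc8 yc13 zc47) (kc xc4 yc15 zc4) (kc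 xc2 yc37 zc44) (kc xc2 yc0 zc51) (kc xc8 yc14 zc0) (kc xc2 yc0 zc40) (kc xc8 yc14 zc3) (kc xc2 yc0 zc41) (kc xc8 yc14 zc8) (kc xc8 yc14 zc6) (kc xc4 yc35 zc3) (kc xc4 yc36 zc33) (kc xc8 yc6 zc33) (kc xc2 yc0 zc45) (kc xc8 yc14 zc15) (kc xc8 yc14 zc13) (kc xc2 yc0 zc48) (kc xc2 yc0 zc49) (kc xc8 yc14 zc21) (kc xc6 yc6 zc10) (kc xc6 yc6 zc11) (kc xc2 yc53 zc1) (kc xc8 yc14 zc30) (kc xc8 yc14 zc34) (kc xc8 yc13 zc57)) (@D3.rec (fun _ => Pt) (kc xc8 yc14 zc38) (kc xc8 yc13 zc59) (kc xc4 yc6 zc7) (kc xc2 yc0 zc54) (kc xc8 yc14 zc45) (kc xc5 yc50 zc0) (kc xc3 yc0 zc5) (kc xc4 yc5 zc49) (kc xc8 yc14 zc47) (kc xc2 yc0 zc58) (kc xc4 yc53 zc51) (kc xc6 yc16 zc0) (kc xc2 yc0 zc59) (kc xc3 yc40 zc28) (kc xc8 yc14 zc49) (kc xc5 yc58 zc32) (kc xc3 yc6 zc53) (kc xc3 yc6 zc58) (kc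 xc2 yc0 zc61) (kc xc3 yc3 zc6) (kc xc3 yc2 zc46) (kc xc8 yc14 zc53) (kc xc4 yc38 zc53) (kc xc2 yc17 zc40) (kc xc2 yc1 zc3) (kc xc5 yc50 zc47) (kc xc4 yc34 zc41) (kc xc5 yc47 zc39) (kc xc4 yc5 zc33) (kc xc2 yc42 zc19) (kc xc8 yc15 zc1) (kc xc2 yc35 zc23) (kc xc8 yc15 zc3) (kc xc2 yc35 zc44) (kc xc2 yc35 zc45) (kc xc2 yc1 zc8) (kc xc5 yc17 zc49) (kc xc2 yc1 zc10) (kc xc8 yc15 zc13) (kc xc2 yc1 zc12) (kc xc8 yc15 zc19) (kc xc2 yc35 zc27) (kc xc2 yc35 zc28) (kc xc4 yc3 zc15) (kc xc8 yc15 zc35) (kc xc2 yc1 zc14) (kc xc8 yc15 zc38) (kc xc8 yc15 zc39) (kc xc2 yc10 zc54) (kc xc4 yc5 zc23) (kc xc4 yc5 zc24) (kc xc2 yc1 zc16) (kc xc8 yc11 zc25) (kc xc8 yc15 zc47) (kc xc4 yc6 zc27) (kc xc5 yc17 zc6) (kc xc2 yc1 zc19) (kc xc8 yc15 zc54) (kc xc2 yc1 zc21) (kc xc8 yc15 zc58) (kc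 xc8 yc15 zc49) (kc xc2 yc11 zc29)) (@D3.rec (fun _ => Pt) (kc xc2 yc1 zc23) (kc xc8 yc16 zc1) (kc xc5 yc16 zc60) (kc xc4 yc6 zc35) (kc xc8 yc15 zc44) (kc xc8 yc16 zc18) (kc xc2 yc1 zc25) (kc xc8 yc16 zc21) (kc xc8 yc16 zc22) (kc xc2 yc25 zc16) (kc xc8 yc16 zc24) (kc xc2 yc1 zc29) (kc xc8 yc16 zc26) (kc xc2 yc1 zc28) (kc xc8 yc16 zc29) (kc xc2 yc1 zc30) (kc xc8 yc16 zc34) (kc xc8 yc10 zc46) (kc xc2 yc1 zc32) (kc xc8 yc16 zc40) (kc xc2 yc1 zc33) (kc xc8 yc16 zc45) (kc xc2 yc24 zc17) (kc xc5 yc17 zc12) (kc xc4 yc15 zc33) (kc xc8 yc6 zc29) (kc xc2 yc1 zc35) (kc xc8 yc17 zc0) (kc xc4 yc51 zc11) (kc xc2 yc1 zc36) (kc xc8 yc17 zc4) (kc xc4 yc29 zc24) (kc xc4 yc28 zc47) (kc xc4 yc28 zc48) (kc xc2 yc1 zc39) (kc xc8 yc17 zc13) (kc xc4 yc22 zc20) (kc xc2 yc1 zc47) (kc xc2 yc1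 zc41) (kc xc8 yc17 zc19) (kc xc2 yc1 zc42) (kc xc8 yc17 zc25) (kc xc4 yc13 zc3) (kc xc4 yc22 zc17) (kc xc8 yc17 zc2) (kc xc8 yc6 zc26) (kc xc2 yc1 zc44) (kc xc8 yc17 zc44) (kc xc8 yc17 zc46) (kc xc8 yc17 zc49) (kc xc8 yc17 zc43) (kc xc2 yc1 zc46) (kc xc4 yc52 zc21) (kc xc8 yc17 zc55) (kc xc4 yc14 zc3) (kc xc8 yc17 zc57) (kc xc2 yc1 zc52) (kc xc4 yc19 zc33) (kc xc4 yc19 zc34) (kc xc2 yc1 zc51) (kc xc8 yc18 zc1) (kc xc4 yc19 zc6)) (@D3.rec (fun _ => Pt) (kc xc8 yc18 zc5) (kc xc2 yc3 zc59) (kc xc2 yc1 zc54) (kc xc8 yc18 zc8) (kc xc5 yc29 zc23) (kc xc8 yc18 zc13) (kc xc2 yc1 zc59) (kc xc8 yc17 zc61) (kc xc8 yc6 zc25) (kc xc2 yc1 zc57) (kc xc8 yc18 zc24) (kc xc8 yc18 zc25) (kc xc8 yc18 zc28) (kc xc8 yc18 zc23) (kc xc2 yc1 zc58) (kc xc2 yc1 zc60) (kc xc2 yc43 zc60) (kc xc8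 yc18 zc34) (kc xc4 yc12 zc55) (kc xc2 yc35 zc21) (kc xc8 yc18 zc32) (kc xc8 yc6 zc18) (kc xc2 yc2 zc1) (kc xc2 yc5 zc25) (kc xc2 yc2 zc0) (kc xc8 yc18 zc53) (kc xc8 yc18 zc55) (kc xc8 yc18 zc57) (kc xc8 yc18 zc51) (kc xc8 yc10 zc47) (kc xc2 yc2 zc2) (kc xc8 yc18 zc61) (kc xc8 yc18 zc59) (kc xc8 yc6 zc15) (kc xc2 yc2 zc5) (kc xc2 yc2 zc4) (kc xc8 yc19 zc14) (kc xc8 yc19 zc16) (kc xc8 yc19 zc18) (kc xc8 yc19 zc13) (kc xc8 yc19 zc23) (kc xc2 yc2 zc6) (kc xc2 yc42 zc22) (kc xc8 yc19 zc26) (kc xc7 yc55 zc53) (kc xc8 yc6 zc9) (kc xc8 yc1 zc31) (kc xc6 yc48 zc34) (kc xc6 yc33 zc2) (kc xc2 yc3 zc7) (kc xc8 yc19 zc50) (kc xc2 yc3 zc9) (kc xc2 yc41 zc19) (kc xc8 yc6 zc5) (kc xc2 yc2 zc9) (kc xc8 yc19 zc59) (kc xc5 yc16 zc59) (kc xc2 yc2 zc11) (kc xc8 yc20 zc5) (kc xc8 yc20 zc9)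 (kc xc2 yc2 zc12) (kc xc8 yc20 zc13)) (@D3.rec (fun _ => Pt) (kc xc2 yc2 zc13) (kc xc8 yc20 zc17) (kc xc2 yc44 zc26) (kc xc4 yc27 zc45) (kc xc8 yc20 zc21) (kc xc8 yc20 zc23) (kc xc2 yc2 zc16) (kc xc8 yc20 zc26) (kc xc5 yc17 zc18) (kc xc8 yc10 zc57) (kc xc2 yc2 zc24) (kc xc2 yc2 zc18) (kc xc8 yc20 zc32) (kc xc2 yc2 zc19) (kc xc8 yc20 zc37) (kc xc5 yc29 zc35) (kc xc4 yc13 zc0) (kc xc2 yc2 zc28) (kc xc7 yc58 zc37) (kc xc2 yc2 zc21) (kc xc8 yc20 zc59) (kc xc8 yc20 zc60) (kc xc8 yc20 zc57) (kc xc8 yc17 zc23) (kc xc2 yc2 zc26) (kc xc8 yc21 zc5) (kc xc2 yc6 zc47) (kc xc8 yc21 zc7) (kc xc8 yc21 zc8) (kc xc8 yc20 zc48) (kc xc8 yc20 zc50) (kc xc2 yc6 zc50) (kc xc2 yc6 zc51) (kc xc2 yc2 zc32) (kc xc8 yc21 zc10) (kc xc3 yc8 zc8) (kc xc4 yc53 zc31) (kc xc2 yc2 zc34) (kc xc8 yc21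 zc14) (kc xc2 yc2 zc35) (kc xc8 yc21 zc17) (kc xc4 yc18 zc48) (kc xc2 yc2 zc37) (kc xc7 yc49 zc47) (kc xc4 yc22 zc39) (kc xc4 yc12 zc18) (kc xc2 yc2 zc42) (kc xc8 yc21 zc30) (kc xc2 yc2 zc39) (kc xc8 yc21 zc35) (kc xc8 yc21 zc38) (kc xc6 yc38 zc10) (kc xc2 yc2 zc40) (kc xc8 yc21 zc41) (kc xc8 yc21 zc43) (kc xc8 yc21 zc26) (kc xc2 yc7 zc19) (kc xc2 yc2 zc44) (kc xc5 yc36 zc22) (kc xc5 yc36 zc23) (kc xc2 yc2 zc45) (kc xc8 yc21 zc51)) (@D3.rec (fun _ => Pt) (kc xc8 yc21 zc40) (kc xc2 yc2 zc48) (kc xc8 yc21 zc57) (kc xc5 yc29 zc30) (kc xc4 yc6 zc8) (kc xc2 yc2 zc51) (kc xc7 yc58 zc30) (kc xc2 yc2 zc50) (kc xc8 yc22 zc15) (kc xc8 yc22 zc18) (kc xc8 yc22 zc20) (kc xc8 yc22 zc13) (kc xc8 yc22 zc21) (kc xc8 yc22 zc24) (kc xc8 yc22 zc4) (kc xc8 yc22 zc6) (kc xc2 yc23 zc52) (kc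 xc2 yc23 zc53) (kc xc6 yc20 zc41) (kc xc2 yc2 zc56) (kc xc8 yc22 zc26) (kc xc8 yc22 zc28) (kc xc6 yc20 zc51) (kc xc2 yc2 zc55) (kc xc2 yc2 zc57) (kc xc8 yc22 zc33) (kc xc4 yc6 zc9) (kc xc4 yc12 zc10) (kc xc2 yc2 zc60) (kc xc8 yc22 zc45) (kc xc2 yc2 zc59) (kc xc8 yc22 zc51) (kc xc8 yc22 zc54) (kc xc8 yc22 zc50) (kc xc8 yc22 zc55) (kc xc8 yc22 zc56) (kc xc8 yc22 zc41) (kc xc6 yc18 zc46) (kc xc3 yc13 zc29) (kc xc2 yc3 zc2) (kc xc3 yc7 zc30) (kc xc8 yc22 zc58) (kc xc8 yc22 zc60) (kc xc8 yc23 zc1) (kc xc8 yc23 zc2) (kc xc2 yc3 zc3) (kc xc8 yc19 zc40) (kc xc8 yc23 zc8) (kc xc8 yc23 zc13) (kc xc2 yc3 zc5) (kc xc8 yc23 zc22) (kc xc8 yc23 zc19) (kc xc8 yc23 zc20) (kc xc8 yc23 zc28) (kc xc2 yc3 zc6) (kc xc8 yc23 zc32) (kc xc8 yc23 zc31) (kc xc8 yc23 zc33) (kc xc8 yc23 zc35) (kc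 xc8 yc23 zc37) (kc xc2 yc3 zc8) (kc xc8 yc23 zc42)) (@D3.rec (fun _ => Pt) (kc xc8 yc19 zc53) (kc xc2 yc24 zc6) (kc xc2 yc24 zc41) (kc xc8 yc23 zc48) (kc xc2 yc3 zc12) (kc xc8 yc23 zc54) (kc xc8 yc23 zc53) (kc xc4 yc4 zc34) (kc xc2 yc5 zc14) (kc xc8 yc23 zc57) (kc xc4 yc11 zc27) (kc xc8 yc8 zc10) (kc xc2 yc3 zc20) (kc xc8 yc24 zc1) (kc xc2 yc3 zc21) (kc xc8 yc24 zc5) (kc xc4 yc54 zc46) (kc xc2 yc11 zc9) (kc xc4 yc10 zc45) (kc xc2 yc3 zc23) (kc xc8 yc24 zc12) (kc xc8 yc24 zc16) (kc xc2 yc3 zc24) (kc xc8 yc24 zc20) (kc xc4 yc3 zc44) (kc xc4 yc17 zc17) (kc xc2 yc3 zc36) (kc xc8 yc24 zc34) (kc xc2 yc3 zc26) (kc xc8 yc24 zc39) (kc xc8 yc24 zc42) (kc xc2 yc19 zc36) (kc xc2 yc3 zc27) (kc xc2 yc40 zc9) (kc xc5 yc36 zc9) (kc xc2 yc3 zc30) (kc xc8 yc24 zc48) (kc xc8 yc24 zc46)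 (kc xc2 yc3 zc32) (kc xc5 yc30 zc56) (kc xc5 yc30 zc57) (kc xc8 yc24 zc56) (kc xc2 yc3 zc33) (kc xc8 yc24 zc59) (kc xc8 yc24 zc58) (kc xc2 yc3 zc35) (kc xc6 yc48 zc26) (kc xc6 yc48 zc27) (kc xc8 yc25 zc2) (kc xc2 yc3 zc38) (kc xc8 yc25 zc3) (kc xc2 yc3 zc39) (kc xc8 yc25 zc5) (kc xc2 yc3 zc60) (kc xc2 yc3 zc42) (kc xc4 yc9 zc18) (kc xc2 yc3 zc45) (kc xc8 yc25 zc9) (kc xc2 yc3 zc46) (kc xc8 yc25 zc12) (kc xc4 yc19 zc41) (kc xc2 yc38 zc41)) (@D3.rec (fun _ => Pt) (kc xc4 yc10 zc16) (kc xc2 yc3 zc48) (kc xc8 yc25 zc17) (kc xc4 yc8 zc42) (kc xc2 yc3 zc49) (kc xc8 yc25 zc21) (kc xc4 yc15 zc53) (kc xc2 yc38 zc22) (kc xc2 yc3 zc55) (kc xc8 yc25 zc35) (kc xc2 yc3 zc51) (kc xc8 yc25 zc41) (kc xc8 yc25 zc39) (kc xc5 yc28 zc15) (kc xc2 yc3 zc52) (kc xc5 yc28 zc16) (kc xc6 yc43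 zc61) (kc xc8 yc25 zc44) (kc xc8 yc25 zc32) (kc xc2 yc3 zc58) (kc xc8 yc25 zc45) (kc xc2 yc3 zc57) (kc xc8 yc18 zc52) (kc xc5 yc3 zc1) (kc xc2 yc38 zc37) (kc xc2 yc4 zc1) (kc xc8 yc25 zc46) (kc xc4 yc2 zc6) (kc xc5 yc47 zc57) (kc xc5 yc47 zc58) (kc xc2 yc16 zc55) (kc xc8 yc25 zc61) (kc xc2 yc16 zc57) (kc xc2 yc4 zc6) (kc xc8 yc26 zc3) (kc xc4 yc2 zc30) (kc xc6 yc6 zc16) (kc xc8 yc26 zc9) (kc xc2 yc4 zc51) (kc xc2 yc34 zc49) (kc xc2 yc4 zc10) (kc xc5 yc15 zc45) (kc xc5 yc18 zc29) (kc xc2 yc8 zc1) (kc xc8 yc26 zc16) (kc xc2 yc4 zc59) (kc xc5 yc15 zc6) (kc xc2 yc4 zc14) (kc xc8 yc17 zc51) (kc xc5 yc27 zc36) (kc xc2 yc23 zc21) (kc xc5 yc14 zc59) (kc xc2 yc4 zc17) (kc xc2 yc41 zc49) (kc xc4 yc14 zc59) (kc xc4 yc14 zc60) (kc xc2 yc4 zc19) (kc xc6 yc6 zc17) (kc xc8 yc26 zc32)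 (kc xc2 yc4 zc23) (kc xc2 yc40 zc16) (kc xc2 yc4 zc22)) (@D3.rec (fun _ => Pt) (kc xc8 yc26 zc37) (kc xc5 yc28 zc11) (kc xc5 yc28 zc19) (kc xc4 yc8 zc54) (kc xc8 yc26 zc42) (kc xc2 yc4 zc27) (kc xc2 yc4 zc26) (kc xc8 yc26 zc46) (kc xc5 yc15 zc20) (kc xc2 yc4 zc28) (kc xc8 yc26 zc51) (kc xc4 yc27 zc37) (kc xc2 yc4 zc29) (kc xc8 yc26 zc59) (kc xc2 yc11 zc57) (kc xc2 yc4 zc45) (kc xc8 yc27 zc11) (kc xc2 yc4 zc31) (kc xc8 yc27 zc14) (kc xc2 yc4 zc32) (kc xc8 yc27 zc19) (kc xc2 yc4 zc33) (kc xc8 yc27 zc25) (kc xc8 yc26 zc29) (kc xc8 yc7 zc12) (kc xc2 yc4 zc35) (kc xc8 yc27 zc35) (kc xc5 yc35 zc18) (kc xc2 yc4 zc37) (kc xc8 yc7 zc32) (kc xc8 yc7 zc33) (kc xc8 yc27 zc47) (kc xc8 yc27 zc42) (kc xc2 yc4 zc38) (kc xc2 yc4 zc40) (kc xc8 yc27 zc53) (kc xc8 yc27 zc51) (kc xc2 yc4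 zc42) (kc xc8 yc8 zc20) (kc xc8 yc8 zc21) (kc xc8 yc28 zc8) (kc xc8 yc28 zc2) (kc xc2 yc4 zc44) (kc xc8 yc8 zc44) (kc xc8 yc8 zc45) (kc xc8 yc28 zc13) (kc xc8 yc28 zc19) (kc xc8 yc28 zc24) (kc xc8 yc27 zc7) (kc xc5 yc24 zc7) (kc xc8 yc27 zc9) (kc xc2 yc45 zc22) (kc xc2 yc4 zc48) (kc xc8 yc9 zc22) (kc xc8 yc9 zc23) (kc xc2 yc4 zc50) (kc xc8 yc28 zc42) (kc xc2 yc4 zc52) (kc xc8 yc28 zc48) (kc xc4 yc13 zc54) (kc xc4 yc13 zc55) (kc xc4 yc20 zc49)) (@D3.rec (fun _ => Pt) (kc xc8 yc29 zc3) (kc xc2 yc4 zc54) (kc xc8 yc29 zc5) (kc xc6 yc4 zc59) (kc xc4 yc6 zc38) (kc xc2 yc4 zc56) (kc xc8 yc13 zc37) (kc xc2 yc4 zc58) (kc xc8 yc29 zc13) (kc xc2 yc40 zc10) (kc xc8 yc23 zc56) (kc xc2 yc4 zc60) (kc xc8 yc29 zc16) (kc xc8 yc26 zc8) (kc xc4 yc5 zc20) (kc xc8 yc29 zc8) (kc xc5 yc16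 zc13) (kc xc2 yc5 zc0) (kc xc8 yc29 zc33) (kc xc8 yc25 zc14) (kc xc7 yc56 zc4) (kc xc8 yc29 zc35) (kc xc2 yc5 zc2) (kc xc8 yc29 zc38) (kc xc2 yc5 zc4) (kc xc8 yc29 zc43) (kc xc8 yc12 zc58) (kc xc2 yc5 zc6) (kc xc8 yc29 zc50) (kc xc2 yc5 zc7) (kc xc8 yc29 zc55) (kc xc2 yc23 zc37) (kc xc5 yc14 zc58) (kc xc4 yc8 zc24) (kc xc8 yc27 zc13) (kc xc2 yc5 zc9) (kc xc8 yc30 zc10) (kc xc2 yc5 zc10) (kc xc8 yc30 zc13) (kc xc2 yc5 zc11) (kc xc8 yc30 zc19) (kc xc4 yc19 zc30) (kc xc4 yc51 zc0) (kc xc4 yc21 zc32) (kc xc8 yc27 zc10) (kc xc2 yc5 zc13) (kc xc8 yc30 zc38) (kc xc8 yc30 zc39) (kc xc8 yc30 zc42) (kc xc8 yc30 zc37) (kc xc2 yc5 zc15) (kc xc5 yc23 zc57) (kc xc2 yc5 zc19) (kc xc4 yc13 zc6) (kc xc2 yc5 zc18) (kc xc8 yc30 zc50) (kc xc8 yc11 zc3) (kc xc2 yc5 zc20) (kc xc8 yc30 zc55)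 (kc xc8 yc30 zc48) (kc xc2 yc40 zc19) (kc xc2 yc5 zc23)) (@D3.rec (fun _ => Pt) (kc xc8 yc31 zc6) (kc xc8 yc31 zc8) (kc xc8 yc31 zc5) (kc xc2 yc40 zc4) (kc xc2 yc34 zc19) (kc xc4 yc21 zc47) (kc xc8 yc27 zc3) (kc xc2 yc5 zc27) (kc xc8 yc31 zc24) (kc xc8 yc31 zc26) (kc xc8 yc31 zc29) (kc xc8 yc31 zc23) (kc xc2 yc5 zc28) (kc xc8 yc31 zc32) (kc xc8 yc31 zc30) (kc xc2 yc41 zc51) (kc xc2 yc5 zc30) (kc xc8 yc31 zc46) (kc xc8 yc31 zc48) (kc xc8 yc31 zc49) (kc xc8 yc31 zc45) (kc xc8 yc31 zc54) (kc xc2 yc5 zc31) (kc xc8 yc26 zc58) (kc xc8 yc31 zc58) (kc xc8 yc32 zc4) (kc xc2 yc5 zc32) (kc xc8 yc26 zc50) (kc xc8 yc32 zc7) (kc xc8 yc32 zc12) (kc xc6 yc17 zc41) (kc xc2 yc6 zc32) (kc xc8 yc32 zc18) (kc xc8 yc26 zc45) (kc xc8 yc26 zc36) (kc xc2 yc5 zc34) (kc xc8 yc32 zc25) (kc xc8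 yc26 zc25) (kc xc2 yc5 zc36) (kc xc8 yc32 zc33) (kc xc8 yc32 zc37) (kc xc4 yc52 zc8) (kc xc2 yc5 zc38) (kc xc8 yc32 zc43) (kc xc2 yc5 zc39) (kc xc8 yc32 zc46) (kc xc2 yc5 zc41) (kc xc8 yc32 zc53) (kc xc8 yc32 zc57) (kc xc2 yc5 zc42) (kc xc8 yc32 zc60) (kc xc7 yc56 zc5) (kc xc4 yc19 zc27) (kc xc2 yc5 zc53) (kc xc8 yc25 zc11) (kc xc2 yc5 zc44) (kc xc8 yc33 zc16) (kc xc8 yc33 zc19) (kc xc6 yc10 zc6) (kc xc4 yc3 zc7) (kc xc2 yc5 zc46) (kc xc2 yc5 zc48)) (@D3.rec (fun _ => Pt) (kc xc8 yc33 zc23) (kc xc8 yc33 zc22) (kc xc8 yc24 zc54) (kc xc8 yc24 zc55) (kc xc6 yc19 zc45) (kc xc8 yc30 zc17) (kc xc2 yc5 zc52) (kc xc8 yc33 zc30) (kc xc8 yc33 zc32) (kc xc8 yc33 zc7) (kc xc8 yc33 zc34) (kc xc4 yc43 zc23) (kc xc2 yc5 zc58) (kc xc8 yc33 zc37) (kc xc2 yc5 zc59) (kc xc8 yc33 zc40)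 (kc xc4 yc52 zc52) (kc xc4 yc12 zc25) (kc xc2 yc5 zc61) (kc xc8 yc33 zc45) (kc xc2 yc6 zc0) (kc xc8 yc33 zc48) (kc xc4 yc51 zc20) (kc xc4 yc18 zc42) (kc xc2 yc6 zc6) (kc xc8 yc34 zc0) (kc xc2 yc6 zc2) (kc xc8 yc34 zc6) (kc xc8 yc34 zc4) (kc xc2 yc24 zc13) (kc xc8 yc34 zc7) (kc xc8 yc34 zc9) (kc xc8 yc33 zc57) (kc xc8 yc33 zc59) (kc xc6 yc19 zc52) (kc xc2 yc6 zc9) (kc xc2 yc6 zc8) (kc xc2 yc6 zc10) (kc xc8 yc34 zc14) (kc xc4 yc18 zc36) (kc xc4 yc4 zc60) (kc xc2 yc6 zc13) (kc xc8 yc34 zc26) (kc xc2 yc6 zc12) (kc xc8 yc34 zc33) (kc xc8 yc34 zc37) (kc xc8 yc34 zc31) (kc xc8 yc34 zc40) (kc xc8 yc34 zc43) (kc xc8 yc34 zc23) (kc xc8 yc34 zc25) (kc xc2 yc24 zc30) (kc xc2 yc24 zc31) (kc xc8 yc34 zc45) (kc xc2 yc6 zc17) (kc xc8 yc34 zc46) (kc xc8 yc34 zc48) (kc xc2 yc6 zc16)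 (kc xc8 yc34 zc50) (kc xc4 yc43 zc20) (kc xc2 yc6 zc18) (kc xc8 yc34 zc53)) (@D3.rec (fun _ => Pt) (kc xc4 yc50 zc30) (kc xc4 yc18 zc35) (kc xc2 yc6 zc21) (kc xc8 yc35 zc1) (kc xc2 yc6 zc20) (kc xc8 yc35 zc8) (kc xc8 yc35 zc10) (kc xc8 yc35 zc6) (kc xc8 yc35 zc11) (kc xc8 yc35 zc13) (kc xc8 yc34 zc61) (kc xc2 yc24 zc36) (kc xc2 yc6 zc25) (kc xc3 yc8 zc10) (kc xc8 yc35 zc16) (kc xc8 yc35 zc18) (kc xc8 yc35 zc21) (kc xc6 yc48 zc51) (kc xc2 yc6 zc26) (kc xc8 yc35 zc24) (kc xc8 yc35 zc26) (kc xc8 yc35 zc28) (kc xc2 yc6 zc28) (kc xc8 yc35 zc34) (kc xc2 yc6 zc30) (kc xc8 yc35 zc39) (kc xc8 yc31 zc22) (kc xc8 yc35 zc44) (kc xc2 yc6 zc31) (kc xc8 yc35 zc47) (kc xc4 yc47 zc40) (kc xc8 yc35 zc49) (kc xc2 yc6 zc33) (kc xc8 yc23 zc52) (kc xc8 yc35 zc53) (kc xc4 yc18 zc1) (kc xc4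 yc17 zc39) (kc xc2 yc6 zc36) (kc xc8 yc35 zc58) (kc xc2 yc6 zc37) (kc xc8 yc35 zc61) (kc xc2 yc36 zc22) (kc xc4 yc17 zc23) (kc xc2 yc6 zc39) (kc xc8 yc36 zc6) (kc xc2 yc6 zc40) (kc xc8 yc36 zc11) (kc xc4 yc21 zc38) (kc xc4 yc10 zc41) (kc xc2 yc6 zc48) (kc xc8 yc21 zc16) (kc xc2 yc6 zc42) (kc xc8 yc36 zc27) (kc xc8 yc36 zc30) (kc xc6 yc25 zc47) (kc xc2 yc34 zc36) (kc xc2 yc6 zc43) (kc xc8 yc15 zc50) (kc xc2 yc6 zc44) (kc xc8 yc17 zc1) (kc xc2 yc6 zc46) (kc xc8 yc36 zc35)) (@D3.rec (fun _ => Pt) (kc xc8 yc36 zc36) (kc xc8 yc36 zc37) (kc xc8 yc36 zc40) (kc xc8 yc21 zc9) (kc xc4 yc3 zc5) (kc xc4 yc19 zc5) (kc xc4 yc8 zc61) (kc xc2 yc6 zc56) (kc xc2 yc36 zc38) (kc xc5 yc39 zc1) (kc xc5 yc39 zc3) (kc xc4 yc27 zc60) (kc xc2 yc7 zc0) (kc xc5 yc39 zc8) (kc xc5 yc39 zc9) (kc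 xc8 yc36 zc58) (kc xc8 yc36 zc52) (kc xc4 yc4 zc45) (kc xc2 yc7 zc2) (kc xc2 yc7 zc25) (kc xc8 yc37 zc1) (kc xc4 yc28 zc6) (kc xc2 yc7 zc6) (kc xc8 yc37 zc6) (kc xc2 yc7 zc7) (kc xc8 yc37 zc9) (kc xc2 yc24 zc12) (kc xc4 yc16 zc52) (kc xc2 yc7 zc9) (kc xc8 yc37 zc13) (kc xc4 yc15 zc41) (kc xc2 yc7 zc10) (kc xc8 yc37 zc17) (kc xc4 yc8 zc57) (kc xc4 yc8 zc58) (kc xc2 yc7 zc17) (kc xc4 yc27 zc53) (kc xc2 yc7 zc12) (kc xc8 yc37 zc31) (kc xc8 yc37 zc34) (kc xc4 yc43 zc37) (kc xc4 yc12 zc60) (kc xc2 yc7 zc13) (kc xc2 yc7 zc14) (kc xc2 yc7 zc15) (kc xc8 yc37 zc39) (kc xc8 yc21 zc47) (kc xc8 yc21 zc48) (kc xc5 yc28 zc55) (kc xc2 yc7 zc22) (kc xc2 yc41 zc53) (kc xc2 yc7 zc23) (kc xc8 yc37 zc42) (kc xc6 yc14 zc32) (kc xc2 yc7 zc26) (kc xc8 yc37 zc44) (kc xc2 yc7 zc27) (kc xc8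 yc37 zc49) (kc xc2 yc7 zc52) (kc xc2 yc7 zc53) (kc xc5 yc17 zc25) (kc xc4 yc20 zc45)) (@D3.rec (fun _ => Pt) (kc xc2 yc7 zc29) (kc xc8 yc38 zc0) (kc xc2 yc7 zc30) (kc xc8 yc38 zc3) (kc xc2 yc24 zc47) (kc xc5 yc12 zc45) (kc xc8 yc37 zc55) (kc xc4 yc20 zc7) (kc xc8 yc9 zc60) (kc xc2 yc18 zc52) (kc xc5 yc7 zc31) (kc xc5 yc7 zc35) (kc xc2 yc14 zc54) (kc xc8 yc38 zc20) (kc xc2 yc14 zc60) (kc xc6 yc7 zc13) (kc xc2 yc7 zc35) (kc xc8 yc38 zc26) (kc xc4 yc20 zc27) (kc xc2 yc58 zc45) (kc xc2 yc58 zc46) (kc xc2 yc7 zc37) (kc xc6 yc4 zc58) (kc xc2 yc7 zc39) (kc xc8 yc38 zc38) (kc xc2 yc7 zc59) (kc xc8 yc38 zc33) (kc xc4 yc20 zc18) (kc xc2 yc7 zc42) (kc xc8 yc38 zc47) (kc xc2 yc7 zc43) (kc xc8 yc38 zc49) (kc xc5 yc4 zc61) (kc xc8 yc27 zc50) (kc xc2 yc24 zc46) (kc xc4 yc20 zc35)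 (kc xc8 yc14 zc20) (kc xc8 yc10 zc30) (kc xc5 yc53 zc50) (kc xc8 yc39 zc0) (kc xc5 yc13 zc37) (kc xc8 yc38 zc37) (kc xc8 yc14 zc7) (kc xc2 yc7 zc49) (kc xc8 yc39 zc6) (kc xc4 yc19 zc61) (kc xc2 yc7 zc51) (kc xc8 yc37 zc54) (kc xc7 yc50 zc44) (kc xc4 yc14 zc61) (kc xc5 yc12 zc61) (kc xc2 yc7 zc55) (kc xc8 yc39 zc24) (kc xc2 yc7 zc56) (kc xc8 yc39 zc28) (kc xc5 yc0 zc42) (kc xc2 yc7 zc58) (kc xc8 yc38 zc40) (kc xc8 yc39 zc26) (kc xc4 yc25 zc12) (kc xc2 yc7 zc61) (kc xc8 yc39 zc42)) (@D3.rec (fun _ => Pt) (kc xc2 yc8 zc0) (kc xc8 yc39 zc47) (kc xc2 yc8 zc2) (kc xc2 yc8 zc3) (kc xc8 yc39 zc51) (kc xc2 yc8 zc6) (kc xc2 yc8 zc5) (kc xc8 yc39 zc55) (kc xc2 yc11 zc7) (kc xc7 yc57 zc32) (kc xc5 yc1 zc19) (kc xc2 yc8 zc7) (kc xc8 yc39 zc61) (kc xc2 yc24 zc27) (kc xc2 yc8 zc31)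 (kc xc8 yc40 zc10) (kc xc2 yc8 zc9) (kc xc8 yc40 zc12) (kc xc2 yc8 zc10) (kc xc8 yc40 zc16) (kc xc4 yc3 zc0) (kc xc2 yc43 zc45) (kc xc2 yc46 zc27) (kc xc2 yc8 zc12) (kc xc8 yc40 zc22) (kc xc8 yc39 zc50) (kc xc8 yc40 zc30) (kc xc2 yc8 zc14) (kc xc8 yc40 zc32) (kc xc2 yc8 zc15) (kc xc8 yc40 zc34) (kc xc2 yc26 zc13) (kc xc4 yc15 zc43) (kc xc2 yc9 zc12) (kc xc2 yc8 zc17) (kc xc8 yc40 zc47) (kc xc8 yc40 zc49) (kc xc8 yc40 zc46) (kc xc4 yc18 zc47) (kc xc2 yc8 zc20) (kc xc8 yc40 zc55) (kc xc8 yc40 zc53) (kc xc2 yc9 zc11) (kc xc2 yc8 zc23) (kc xc8 yc41 zc4) (kc xc8 yc41 zc7) (kc xc8 yc41 zc3) (kc xc4 yc16 zc5) (kc xc2 yc9 zc4) (kc xc2 yc8 zc25) (kc xc8 yc41 zc18) (kc xc8 yc41 zc20) (kc xc8 yc41 zc24) (kc xc8 yc41 zc17) (kc xc2 yc8 zc26) (kc xc8 yc41 zc28) (kc xc8 yc41 zc26)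 (kc xc2 yc9 zc1) (kc xc2 yc8 zc28) (kc xc8 yc41 zc40) (kc xc8 yc41 zc43) (kc xc8 yc41 zc39)) (@D3.rec (fun _ => Pt) (kc xc8 yc16 zc48) (kc xc2 yc8 zc59) (kc xc2 yc24 zc18) (kc xc8 yc41 zc56) (kc xc2 yc8 zc53) (kc xc2 yc24 zc20) (kc xc8 yc42 zc3) (kc xc8 yc42 zc8) (kc xc8 yc40 zc7) (kc xc8 yc42 zc14) (kc xc8 yc40 zc9) (kc xc2 yc8 zc51) (kc xc2 yc8 zc43) (kc xc7 yc56 zc39) (kc xc2 yc8 zc34) (kc xc8 yc42 zc27) (kc xc8 yc42 zc30) (kc xc4 yc8 zc43) (kc xc2 yc8 zc35) (kc xc8 yc42 zc35) (kc xc4 yc8 zc36) (kc xc2 yc11 zc30) (kc xc8 yc42 zc34) (kc xc2 yc8 zc38) (kc xc8 yc42 zc45) (kc xc8 yc42 zc44) (kc xc2 yc12 zc29) (kc xc8 yc36 zc61) (kc xc8 yc10 zc22) (kc xc5 yc37 zc51) (kc xc4 yc31 zc40) (kc xc2 yc49 zc8) (kc xc8 yc42 zc58) (kc xc3 yc58 zc51) (kc xc8 yc42 zc20) (kc xc3 yc1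 zc0) (kc xc2 yc52 zc17) (kc xc8 yc43 zc7) (kc xc2 yc8 zc45) (kc xc4 yc10 zc44) (kc xc2 yc8 zc46) (kc xc8 yc43 zc12) (kc xc8 yc43 zc10) (kc xc2 yc8 zc49) (kc xc8 yc43 zc21) (kc xc8 yc43 zc20) (kc xc7 yc56 zc40) (kc xc8 yc42 zc52) (kc xc8 yc1 zc43) (kc xc8 yc43 zc29) (kc xc8 yc42 zc18) (kc xc5 yc40 zc17) (kc xc4 yc31 zc56) (kc xc2 yc13 zc9) (kc xc8 yc43 zc38) (kc xc2 yc13 zc11) (kc xc5 yc39 zc22) (kc xc8 yc40 zc36) (kc xc8 yc41 zc59) (kc xc3 yc1 zc1) (kc xc8 yc43 zc50) (kc xc2 yc8 zc57)) (@D3.rec (fun _ => Pt) (kc xc2 yc8 zc55) (kc xc2 yc8 zc56) (kc xc7 yc7 zc8) (kc xc7 yc7 zc9) (kc xc8 yc43 zc56) (kc xc8 yc41 zc50) (kc xc2 yc18 zc51) (kc xc2 yc8 zc61) (kc xc8 yc8 zc9) (kc xc8 yc41 zc35) (kc xc8 yc44 zc4) (kc xc2 yc26 zc23) (kc xc7 yc14 zc12) (kc xc7 yc14 zc13) (kc xc8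 yc44 zc11) (kc xc8 yc41 zc13) (kc xc2 yc13 zc24) (kc xc2 yc26 zc29) (kc xc8 yc1 zc45) (kc xc2 yc9 zc6) (kc xc5 yc12 zc0) (kc xc7 yc59 zc9) (kc xc8 yc44 zc21) (kc xc7 yc59 zc20) (kc xc2 yc9 zc7) (kc xc5 yc13 zc12) (kc xc8 yc44 zc28) (kc xc8 yc44 zc33) (kc xc8 yc44 zc36) (kc xc8 yc44 zc39) (kc xc2 yc9 zc9) (kc xc8 yc44 zc45) (kc xc8 yc44 zc46) (kc xc2 yc13 zc38) (kc xc8 yc44 zc53) (kc xc8 yc41 zc0) (kc xc8 yc44 zc60) (kc xc8 yc40 zc43) (kc xc8 yc44 zc43) (kc xc2 yc9 zc14) (kc xc8 yc45 zc12) (kc xc8 yc45 zc16) (kc xc8 yc45 zc10) (kc xc7 yc55 zc61) (kc xc8 yc45 zc23) (kc xc8 yc45 zc24) (kc xc4 yc39 zc34) (kc xc4 yc23 zc47) (kc xc5 yc43 zc47) (kc xc4 yc23 zc49) (kc xc3 yc3 zc61) (kc xc8 yc45 zc33) (kc xc7 yc25 zc12) (kc xc3 yc3 zc50) (kc xc2 yc9 zc35) (kc xc5 yc37 zc61)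 (kc xc2 yc18 zc59) (kc xc4 yc34 zc20) (kc xc8 yc45 zc40) (kc xc8 yc45 zc42) (kc xc8 yc45 zc44) (kc xc2 yc9 zc25)) (@D3.rec (fun _ => Pt) (kc xc8 yc45 zc49) (kc xc5 yc48 zc38) (kc xc5 yc48 zc12) (kc xc2 yc17 zc50) (kc xc3 yc10 zc0) (kc xc3 yc10 zc1) (kc xc7 yc23 zc4) (kc xc4 yc26 zc34) (kc xc4 yc24 zc8) (kc xc3 yc3 zc48) (kc xc2 yc9 zc32) (kc xc2 yc9 zc34) (kc xc8 yc46 zc4) (kc xc8 yc46 zc3) (kc xc4 yc34 zc24) (kc xc8 yc46 zc7) (kc xc7 yc56 zc13) (kc xc8 yc46 zc11) (kc xc5 yc47 zc22) (kc xc8 yc46 zc14) (kc xc8 yc46 zc17) (kc xc2 yc9 zc37) (kc xc8 yc46 zc20) (kc xc8 yc46 zc26) (kc xc7 yc56 zc45) (kc xc7 yc56 zc46) (kc xc8 yc46 zc34) (kc xc3 yc4 zc23) (kc xc7 yc25 zc13) (kc xc7 yc20 zc20) (kc xc2 yc9 zc41) (kc xc7 yc23 zc3) (kc xc7 yc23 zc1) (kc xc2 yc9 zc50) (kc xc5 yc50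 zc57) (kc xc8 yc46 zc42) (kc xc2 yc9 zc47) (kc xc8 yc46 zc45) (kc xc4 yc58 zc0) (kc xc4 yc58 zc1) (kc xc4 yc25 zc33) (kc xc2 yc9 zc49) (kc xc4 yc25 zc46) (kc xc8 yc46 zc39) (kc xc8 yc46 zc57) (kc xc4 yc25 zc21) (kc xc4 yc46 zc28) (kc xc8 yc47 zc1) (kc xc2 yc9 zc52) (kc xc8 yc47 zc5) (kc xc7 yc56 zc49) (kc xc8 yc43 zc53) (kc xc8 yc47 zc14) (kc xc4 yc25 zc29) (kc xc7 yc56 zc53) (kc xc7 yc56 zc54) (kc xc8 yc47 zc24) (kc xc4 yc25 zc10) (kc xc8 yc47 zc26) (kc xc4 yc24 zc59) (kc xc8 yc47 zc29) (kc xc8 yc47 zc32)) (@D3.rec (fun _ => Pt) (kc xc8 yc47 zc35) (kc xc2 yc9 zc57) (kc xc8 yc47 zc41) (kc xc2 yc14 zc45) (kc xc8 yc47 zc45) (kc xc2 yc14 zc41) (kc xc8 yc47 zc48) (kc xc4 yc25 zc30) (kc xc4 yc25 zc31) (kc xc8 yc47 zc58) (kc xc4 yc24 zc57) (kc xc2 yc10 zc0) (kc xc4 yc20 zc59)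 (kc xc3 yc57 zc47) (kc xc2 yc10 zc2) (kc xc8 yc48 zc2) (kc xc8 yc2 zc11) (kc xc2 yc10 zc3) (kc xc8 yc48 zc7) (kc xc4 yc25 zc26) (kc xc8 yc48 zc10) (kc xc4 yc24 zc45) (kc xc8 yc48 zc15) (kc xc8 yc48 zc17) (kc xc2 yc10 zc5) (kc xc8 yc48 zc21) (kc xc4 yc25 zc19) (kc xc8 yc48 zc28) (kc xc8 yc48 zc30) (kc xc4 yc24 zc53) (kc xc4 yc25 zc7) (kc xc4 yc25 zc8) (kc xc8 yc48 zc38) (kc xc4 yc24 zc40) (kc xc8 yc47 zc37) (kc xc8 yc47 zc38) (kc xc2 yc10 zc8) (kc xc8 yc48 zc48) (kc xc8 yc48 zc50) (kc xc2 yc15 zc30) (kc xc2 yc27 zc5) (kc xc8 yc48 zc54) (kc xc2 yc27 zc3) (kc xc7 yc56 zc58) (kc xc4 yc34 zc14) (kc xc8 yc2 zc10) (kc xc4 yc24 zc42) (kc xc2 yc53 zc4) (kc xc3 yc2 zc3) (kc xc2 yc10 zc15) (kc xc2 yc10 zc16) (kc xc8 yc49 zc5) (kc xc2 yc10 zc14) (kc xc2 yc12 zc52) (kc xc5 yc49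 zc54) (kc xc2 yc15 zc49) (kc xc8 yc49 zc14) (kc xc8 yc49 zc4) (kc xc6 yc13 zc22) (kc xc8 yc49 zc17) (kc xc8 yc0 zc4) (kc xc3 yc2 zc4)) (@D3.rec (fun _ => Pt) (kc xc2 yc10 zc20) (kc xc2 yc10 zc19) (kc xc8 yc49 zc26) (kc xc2 yc15 zc60) (kc xc8 yc49 zc32) (kc xc8 yc49 zc23) (kc xc8 yc49 zc35) (kc xc5 yc49 zc34) (kc xc2 yc10 zc21) (kc xc8 yc49 zc40) (kc xc4 yc41 zc32) (kc xc2 yc10 zc22) (kc xc8 yc49 zc47) (kc xc8 yc49 zc52) (kc xc2 yc10 zc23) (kc xc8 yc49 zc56) (kc xc4 yc39 zc56) (kc xc3 yc9 zc61) (kc xc2 yc10 zc30) (kc xc3 yc17 zc48) (kc xc2 yc10 zc25) (kc xc2 yc10 zc26) (kc xc5 yc40 zc35) (kc xc5 yc40 zc22) (kc xc8 yc50 zc8) (kc xc8 yc50 zc9) (kc xc8 yc0 zc9) (kc xc8 yc50 zc24) (kc xc8 yc50 zc25) (kc xc2 yc10 zc28) (kc xc8 yc50 zc30) (kc xc3 yc4 zc20) (kc xc3 yc4 zc21)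 (kc xc8 yc50 zc42) (kc xc4 yc24 zc7) (kc xc6 yc42 zc12) (kc xc8 yc50 zc45) (kc xc8 yc50 zc2) (kc xc5 yc41 zc56) (kc xc4 yc0 zc11) (kc xc4 yc0 zc12) (kc xc8 yc50 zc59) (kc xc2 yc10 zc34) (kc xc8 yc51 zc1) (kc xc2 yc10 zc32) (kc xc8 yc51 zc9) (kc xc8 yc51 zc6) (kc xc8 yc51 zc15) (kc xc2 yc10 zc33) (kc xc8 yc51 zc21) (kc xc8 yc51 zc20) (kc xc3 yc58 zc2) (kc xc4 yc0 zc55) (kc xc4 yc0 zc56) (kc xc8 yc51 zc35) (kc xc8 yc51 zc38) (kc xc4 yc27 zc4) (kc xc8 yc51 zc41) (kc xc2 yc51 zc6) (kc xc8 yc51 zc44) (kc xc8 yc51 zc46) (kc xc2 yc10 zc38)) (@D3.rec (fun _ => Pt) (kc xc2 yc16 zc0) (kc xc8 yc51 zc53) (kc xc8 yc51 zc55) (kc xc2 yc10 zc40) (kc xc4 yc26 zc56) (kc xc8 yc51 zc58) (kc xc2 yc10 zc42) (kc xc8 yc51 zc60) (kc xc8 yc51 zc61) (kc xc7 yc57 zc31) (kc xc2 yc10 zc46) (kc xc5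 yc3 zc44) (kc xc2 yc10 zc48) (kc xc8 yc52 zc7) (kc xc2 yc10 zc50) (kc xc8 yc52 zc11) (kc xc4 yc53 zc58) (kc xc4 yc53 zc59) (kc xc8 yc52 zc2) (kc xc8 yc11 zc49) (kc xc2 yc10 zc52) (kc xc8 yc52 zc28) (kc xc2 yc10 zc53) (kc xc6 yc24 zc35) (kc xc2 yc10 zc55) (kc xc8 yc52 zc34) (kc xc8 yc15 zc5) (kc xc2 yc28 zc31) (kc xc4 yc2 zc29) (kc xc8 yc52 zc51) (kc xc2 yc10 zc57) (kc xc8 yc44 zc47) (kc xc2 yc10 zc58) (kc xc8 yc52 zc55) (kc xc2 yc10 zc60) (kc xc8 yc52 zc60) (kc xc2 yc25 zc32) (kc xc4 yc14 zc11) (kc xc2 yc37 zc7) (kc xc8 yc24 zc32) (kc xc2 yc11 zc0) (kc xc8 yc53 zc15) (kc xc2 yc11 zc1) (kc xc8 yc53 zc17) (kc xc7 yc57 zc53) (kc xc4 yc10 zc3) (kc xc2 yc11 zc3) (kc xc8 yc53 zc23) (kc xc2 yc11 zc4) (kc xc8 yc53 zc29) (kc xc4 yc31 zc20) (kc xc4 yc54 zc43) (kc xc8 yc53 zc16)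 (kc xc4 yc19 zc36) (kc xc2 yc11 zc6) (kc xc8 yc53 zc48) (kc xc8 yc53 zc49) (kc xc8 yc53 zc52) (kc xc8 yc53 zc47) (kc xc2 yc11 zc8) (kc xc4 yc19 zc11) (kc xc8 yc24 zc4)) (@D3.rec (fun _ => Pt) (kc xc2 yc11 zc11) (kc xc8 yc54 zc5) (kc xc8 yc54 zc7) (kc xc8 yc54 zc4) (kc xc2 yc11 zc13) (kc xc8 yc54 zc9) (kc xc4 yc19 zc21) (kc xc4 yc4 zc61) (kc xc8 yc54 zc8) (kc xc4 yc52 zc22) (kc xc2 yc11 zc15) (kc xc8 yc54 zc29) (kc xc8 yc54 zc31) (kc xc8 yc54 zc34) (kc xc8 yc54 zc28) (kc xc8 yc2 zc60) (kc xc8 yc40 zc3) (kc xc2 yc11 zc17) (kc xc8 yc54 zc45) (kc xc8 yc54 zc47) (kc xc7 yc36 zc58) (kc xc8 yc54 zc44) (kc xc8 yc54 zc52) (kc xc2 yc11 zc18) (kc xc8 yc18 zc60) (kc xc8 yc54 zc54) (kc xc8 yc54 zc60) (kc xc2 yc11 zc19) (kc xc8 yc39 zc60) (kc xc8 yc55 zc1) (kc xc8 yc55 zc8) (kc xc8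 yc55 zc13) (kc xc2 yc12 zc12) (kc xc8 yc55 zc19) (kc xc2 yc12 zc14) (kc xc8 yc18 zc0) (kc xc8 yc39 zc54) (kc xc2 yc11 zc21) (kc xc8 yc55 zc28) (kc xc8 yc24 zc33) (kc xc2 yc11 zc23) (kc xc8 yc55 zc37) (kc xc8 yc55 zc40) (kc xc2 yc11 zc24) (kc xc8 yc55 zc44) (kc xc2 yc11 zc25) (kc xc8 yc55 zc49) (kc xc4 yc8 zc32) (kc xc4 yc8 zc33) (kc xc2 yc11 zc33) (kc xc8 yc16 zc60) (kc xc2 yc11 zc27) (kc xc8 yc56 zc3) (kc xc8 yc56 zc4) (kc xc8 yc56 zc2) (kc xc8 yc53 zc27) (kc xc2 yc11 zc32) (kc xc8 yc56 zc12) (kc xc8 yc56 zc15) (kc xc8 yc55 zc56) (kc xc8 yc56 zc20) (kc xc8 yc56 zc21)) (@D3.rec (fun _ => Pt) (kc xc2 yc55 zc0) (kc xc8 yc29 zc47) (kc xc2 yc11 zc39) (kc xc8 yc56 zc25) (kc xc2 yc43 zc46) (kc xc2 yc11 zc40) (kc xc8 yc56 zc28) (kc xc4 yc55 zc5) (kc xc2 yc41 zc9) (kc xc2 yc11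 zc43) (kc xc8 yc29 zc37) (kc xc2 yc11 zc42) (kc xc8 yc56 zc41) (kc xc4 yc46 zc22) (kc xc6 yc33 zc30) (kc xc8 yc56 zc44) (kc xc8 yc56 zc47) (kc xc8 yc56 zc35) (kc xc8 yc56 zc53) (kc xc8 yc56 zc37) (kc xc2 yc13 zc40) (kc xc6 yc20 zc42) (kc xc2 yc11 zc46) (kc xc8 yc56 zc60) (kc xc4 yc8 zc31) (kc xc2 yc28 zc3) (kc xc2 yc11 zc50) (kc xc8 yc16 zc52) (kc xc2 yc11 zc49) (kc xc8 yc57 zc12) (kc xc8 yc57 zc15) (kc xc8 yc57 zc18) (kc xc8 yc57 zc11) (kc xc8 yc57 zc20) (kc xc8 yc57 zc23) (kc xc8 yc57 zc4) (kc xc8 yc57 zc26) (kc xc8 yc57 zc6) (kc xc2 yc13 zc21) (kc xc3 yc58 zc38) (kc xc3 yc58 zc39) (kc xc8 yc57 zc36) (kc xc2 yc11 zc56) (kc xc8 yc57 zc38) (kc xc8 yc57 zc40) (kc xc2 yc11 zc54) (kc xc8 yc57 zc43) (kc xc8 yc57 zc42) (kc xc2 yc11 zc55) (kc xc8 yc27 zc4) (kc xc2 yc11 zc60)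 (kc xc8 yc29 zc49) (kc xc2 yc11 zc59) (kc xc8 yc57 zc58) (kc xc8 yc57 zc60) (kc xc8 yc57 zc57) (kc xc8 yc58 zc0) (kc xc8 yc58 zc2) (kc xc8 yc57 zc50) (kc xc8 yc58 zc6) (kc xc8 yc57 zc52) (kc xc3 yc58 zc42)) (@D3.rec (fun _ => Pt) (kc xc2 yc12 zc1) (kc xc8 yc58 zc11) (kc xc8 yc58 zc12) (kc xc2 yc12 zc2) (kc xc8 yc58 zc15) (kc xc8 yc58 zc19) (kc xc8 yc8 zc56) (kc xc8 yc58 zc23) (kc xc8 yc8 zc57) (kc xc2 yc13 zc3) (kc xc8 yc58 zc33) (kc xc2 yc25 zc48) (kc xc8 yc58 zc36) (kc xc8 yc58 zc38) (kc xc8 yc58 zc41) (kc xc2 yc12 zc7) (kc xc8 yc58 zc48) (kc xc8 yc58 zc47) (kc xc2 yc12 zc57) (kc xc8 yc55 zc5) (kc xc8 yc58 zc54) (kc xc8 yc58 zc57) (kc xc2 yc12 zc10) (kc xc8 yc59 zc2) (kc xc8 yc54 zc20) (kc xc8 yc59 zc0) (kc xc8 yc59 zc10) (kc xc2 yc12 zc11) (kc xc8 yc59 zc16) (kc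 xc8 yc59 zc15) (kc xc8 yc59 zc19) (kc xc8 yc59 zc21) (kc xc8 yc59 zc23) (kc xc2 yc12 zc13) (kc xc8 yc59 zc28) (kc xc8 yc55 zc22) (kc xc8 yc48 zc59) (kc xc8 yc59 zc34) (kc xc2 yc12 zc32) (kc xc7 yc59 zc51) (kc xc7 yc59 zc52) (kc xc2 yc48 zc50) (kc xc2 yc26 zc0) (kc xc2 yc26 zc1) (kc xc8 yc59 zc46) (kc xc8 yc59 zc47) (kc xc2 yc12 zc19) (kc xc8 yc59 zc52) (kc xc8 yc59 zc51) (kc xc8 yc59 zc53) (kc xc2 yc12 zc20) (kc xc8 yc59 zc56) (kc xc5 yc22 zc18) (kc xc2 yc12 zc21) (kc xc8 yc59 zc57) (kc xc8 yc59 zc59) (kc xc9 yc0 zc0) (kc xc8 yc9 zc47) (kc xc8 yc9 zc48) (kc xc9 yc0 zc2) (kc xc9 yc0 zc5) (kc xc2 yc52 zc53)) (@D3.rec (fun _ => Pt) (kc xc3 yc0 zc43) (kc xc2 yc44 zc42) (kc xc8 yc45 zc38) (kc xc2 yc49 zc26) (kc xc2 yc49 zc27) (kc xc2 yc44 zc37) (kc xc9 yc0 zc11) (kc xc9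 yc0 zc14) (kc xc2 yc12 zc31) (kc xc9 yc0 zc18) (kc xc2 yc25 zc58) (kc xc5 yc30 zc39) (kc xc4 yc34 zc18) (kc xc2 yc45 zc16) (kc xc2 yc45 zc9) (kc xc8 yc43 zc8) (kc xc2 yc12 zc37) (kc xc9 yc0 zc31) (kc xc2 yc12 zc38) (kc xc9 yc0 zc34) (kc xc4 yc27 zc50) (kc xc2 yc12 zc39) (kc xc9 yc0 zc38) (kc xc2 yc38 zc12) (kc xc2 yc38 zc13) (kc xc2 yc12 zc44) (kc xc5 yc35 zc19) (kc xc2 yc12 zc41) (kc xc9 yc0 zc57) (kc xc9 yc0 zc60) (kc xc9 yc0 zc56) (kc xc9 yc1 zc0) (kc xc9 yc1 zc3) (kc xc9 yc0 zc49) (kc xc9 yc0 zc51) (kc xc9 yc1 zc11) (kc xc2 yc12 zc48) (kc xc9 yc1 zc15) (kc xc5 yc30 zc42) (kc xc9 yc1 zc17) (kc xc4 yc22 zc30) (kc xc6 yc24 zc36) (kc xc2 yc12 zc50) (kc xc8 yc48 zc55) (kc xc9 yc1 zc23) (kc xc9 yc1 zc26) (kc xc2 yc46 zc35) (kc xc4 yc32 zc32) (kc xc2 yc46 zc31) (kc xc2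 yc12 zc56) (kc xc9 yc1 zc29) (kc xc2 yc13 zc57) (kc xc2 yc50 zc34) (kc xc2 yc57 zc10) (kc xc9 yc0 zc16) (kc xc9 yc0 zc17) (kc xc4 yc22 zc52) (kc xc4 yc32 zc53) (kc xc5 yc41 zc19) (kc xc9 yc1 zc41) (kc xc4 yc31 zc60) (kc xc2 yc13 zc1)) (@D3.rec (fun _ => Pt) (kc xc9 yc1 zc46) (kc xc5 yc43 zc43) (kc xc3 yc42 zc55) (kc xc5 yc31 zc52) (kc xc5 yc31 zc53) (kc xc5 yc52 zc18) (kc xc8 yc58 zc30) (kc xc8 yc43 zc60) (kc xc2 yc13 zc7) (kc xc9 yc1 zc58) (kc xc2 yc13 zc8) (kc xc9 yc1 zc61) (kc xc9 yc2 zc1) (kc xc9 yc2 zc3) (kc xc2 yc13 zc10) (kc xc9 yc2 zc8) (kc xc9 yc2 zc13) (kc xc2 yc16 zc22) (kc xc2 yc57 zc11) (kc xc6 yc43 zc60) (kc xc4 yc34 zc6) (kc xc2 yc13 zc13) (kc xc2 yc13 zc15) (kc xc9 yc2 zc24) (kc xc7 yc59 zc12) (kc xc2 yc13 zc16) (kc xc9 yc2 zc28) (kc xc8 yc0 zc11) (kc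 xc2 yc13 zc17) (kc xc9 yc2 zc32) (kc xc3 yc33 zc30) (kc xc4 yc57 zc15) (kc xc4 yc31 zc47) (kc xc9 yc2 zc37) (kc xc2 yc13 zc20) (kc xc9 yc2 zc39) (kc xc9 yc2 zc41) (kc xc2 yc13 zc19) (kc xc9 yc2 zc45) (kc xc9 yc2 zc50) (kc xc3 yc46 zc22) (kc xc9 yc2 zc51) (kc xc7 yc14 zc5) (kc xc8 yc58 zc28) (kc xc8 yc58 zc29) (kc xc9 yc2 zc55) (kc xc5 yc41 zc11) (kc xc2 yc13 zc22) (kc xc9 yc2 zc58) (kc xc7 yc59 zc13) (kc xc2 yc13 zc25) (kc xc9 yc3 zc0) (kc xc3 yc57 zc28) (kc xc4 yc31 zc57) (kc xc4 yc57 zc4) (kc xc7 yc14 zc15) (kc xc9 yc3 zc6) (kc xc2 yc13 zc28) (kc xc2 yc13 zc27) (kc xc9 yc3 zc12) (kc xc9 yc3 zc13) (kc xc3 yc36 zc46)) (@D3.rec (fun _ => Pt) (kc xc9 yc3 zc17) (kc xc2 yc13 zc31) (kc xc2 yc13 zc30) (kc xc9 yc3 zc20) (kc xc8 yc44 zc30) (kc xc9 yc3 zc25) (kc xc9 yc3 zc26)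 (kc xc9 yc3 zc29) (kc xc2 yc13 zc32) (kc xc9 yc3 zc34) (kc xc9 yc3 zc38) (kc xc2 yc13 zc33) (kc xc9 yc3 zc44) (kc xc2 yc13 zc34) (kc xc9 yc3 zc50) (kc xc9 yc3 zc54) (kc xc9 yc3 zc58) (kc xc2 yc13 zc43) (kc xc9 yc4 zc4) (kc xc2 yc13 zc36) (kc xc2 yc13 zc37) (kc xc9 yc4 zc12) (kc xc9 yc4 zc16) (kc xc9 yc4 zc9) (kc xc9 yc4 zc10) (kc xc9 yc4 zc24) (kc xc9 yc4 zc25) (kc xc2 yc13 zc39) (kc xc9 yc4 zc30) (kc xc5 yc49 zc56) (kc xc5 yc49 zc55) (kc xc2 yc50 zc44) (kc xc9 yc4 zc39) (kc xc2 yc13 zc41) (kc xc3 yc59 zc32) (kc xc2 yc47 zc34) (kc xc9 yc4 zc48) (kc xc9 yc4 zc50) (kc xc9 yc4 zc1) (kc xc9 yc4 zc3) (kc xc2 yc26 zc46) (kc xc2 yc26 zc47) (kc xc9 yc4 zc59) (kc xc2 yc13 zc47) (kc xc9 yc5 zc0) (kc xc2 yc13 zc45) (kc xc3 yc13 zc15) (kc xc9 yc5 zc4) (kc xc9 yc5 zc9) (kc xc2 yc13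 zc46) (kc xc3 yc12 zc43) (kc xc2 yc50 zc28) (kc xc2 yc43 zc19) (kc xc4 yc56 zc24) (kc xc4 yc56 zc25) (kc xc6 yc4 zc1) (kc xc2 yc13 zc51) (kc xc9 yc5 zc24) (kc xc4 yc38 zc46) (kc xc4 yc48 zc43) (kc xc6 yc7 zc49) (kc xc2 yc19 zc0)) (@D3.rec (fun _ => Pt) (kc xc2 yc13 zc55) (kc xc9 yc5 zc33) (kc xc9 yc5 zc35) (kc xc9 yc5 zc38) (kc xc9 yc5 zc32) (kc xc2 yc13 zc56) (kc xc4 yc32 zc20) (kc xc2 yc46 zc19) (kc xc6 yc16 zc39) (kc xc5 yc42 zc10) (kc xc4 yc0 zc49) (kc xc2 yc17 zc51) (kc xc2 yc17 zc52) (kc xc7 yc51 zc57) (kc xc4 yc25 zc44) (kc xc6 yc14 zc46) (kc xc9 yc5 zc46) (kc xc6 yc15 zc0) (kc xc4 yc31 zc12) (kc xc3 yc10 zc11) (kc xc4 yc23 zc57) (kc xc2 yc51 zc56) (kc xc2 yc14 zc9) (kc xc2 yc48 zc55) (kc xc4 yc24 zc14) (kc xc2 yc14 zc11) (kc xc9 yc5 zc50) (kc xc4 yc38 zc31)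 (kc xc7 yc1 zc36) (kc xc4 yc37 zc48) (kc xc7 yc44 zc9) (kc xc2 yc55 zc43) (kc xc2 yc14 zc15) (kc xc7 yc36 zc35) (kc xc7 yc44 zc56) (kc xc9 yc5 zc59) (kc xc6 yc2 zc44) (kc xc6 yc2 zc45) (kc xc2 yc14 zc16) (kc xc9 yc6 zc9) (kc xc9 yc5 zc49) (kc xc4 yc7 zc26) (kc xc5 yc52 zc16) (kc xc5 yc14 zc29) (kc xc6 yc8 zc14) (kc xc4 yc5 zc37) (kc xc3 yc25 zc33) (kc xc4 yc36 zc52) (kc xc9 yc6 zc14) (kc xc2 yc14 zc30) (kc xc9 yc6 zc16) (kc xc9 yc6 zc21) (kc xc2 yc49 zc55) (kc xc2 yc14 zc33) (kc xc9 yc6 zc28) (kc xc9 yc6 zc32) (kc xc9 yc6 zc37) (kc xc9 yc6 zc26) (kc xc4 yc37 zc28) (kc xc9 yc6 zc40) (kc xc9 yc6 zc43) (kc xc9 yc6 zc46)) (@D3.rec (fun _ => Pt) (kc xc2 yc14 zc35) (kc xc9 yc6 zc50) (kc xc2 yc58 zc58) (kc xc4 yc6 zc47) (kc xc2 yc27 zc48) (kc xc2 yc52 zc55) (kc xc9 yc6 zc58)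 (kc xc9 yc6 zc60) (kc xc2 yc39 zc45) (kc xc9 yc7 zc1) (kc xc2 yc44 zc21) (kc xc8 yc46 zc40) (kc xc9 yc7 zc4) (kc xc9 yc7 zc6) (kc xc4 yc5 zc31) (kc xc8 yc45 zc46) (kc xc2 yc14 zc50) (kc xc9 yc7 zc10) (kc xc8 yc45 zc47) (kc xc2 yc14 zc52) (kc xc9 yc7 zc14) (kc xc2 yc14 zc53) (kc xc9 yc7 zc15) (kc xc5 yc54 zc20) (kc xc9 yc7 zc22) (kc xc8 yc38 zc13) (kc xc5 yc51 zc7) (kc xc9 yc7 zc25) (kc xc2 yc14 zc56) (kc xc7 yc2 zc6) (kc xc7 yc2 zc7) (kc xc9 yc7 zc35) (kc xc3 yc12 zc3) (kc xc2 yc14 zc57) (kc xc6 yc45 zc1) (kc xc2 yc14 zc58) (kc xc9 yc7 zc40) (kc xc9 yc7 zc42) (kc xc9 yc7 zc44) (kc xc2 yc14 zc59) (kc xc9 yc7 zc50) (kc xc2 yc20 zc14) (kc xc9 yc7 zc53) (kc xc2 yc20 zc16) (kc xc3 yc7 zc35) (kc xc2 yc19 zc51) (kc xc9 yc7 zc48) (kc xc2 yc35 zc8) (kc xc9 yc7 zc60) (kc xc2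 yc15 zc6) (kc xc9 yc8 zc2) (kc xc3 yc3 zc15) (kc xc8 yc0 zc26) (kc xc7 yc59 zc54) (kc xc4 yc44 zc49) (kc xc2 yc15 zc10) (kc xc2 yc15 zc9) (kc xc9 yc8 zc6) (kc xc3 yc57 zc56) (kc xc9 yc8 zc9) (kc xc9 yc8 zc10) (kc xc2 yc15 zc13)) (@D3.rec (fun _ => Pt) (kc xc2 yc15 zc12) (kc xc9 yc8 zc15) (kc xc9 yc8 zc18) (kc xc9 yc8 zc21) (kc xc9 yc8 zc13) (kc xc9 yc8 zc23) (kc xc2 yc17 zc56) (kc xc9 yc8 zc25) (kc xc2 yc15 zc16) (kc xc9 yc8 zc27) (kc xc3 yc3 zc27) (kc xc3 yc3 zc31) (kc xc9 yc8 zc36) (kc xc2 yc15 zc23) (kc xc4 yc58 zc56) (kc xc2 yc51 zc8) (kc xc4 yc44 zc47) (kc xc2 yc15 zc19) (kc xc9 yc8 zc45) (kc xc5 yc52 zc23) (kc xc9 yc8 zc51) (kc xc2 yc15 zc20) (kc xc9 yc8 zc54) (kc xc2 yc15 zc21) (kc xc9 yc8 zc56) (kc xc9 yc8 zc59) (kc xc9 yc8 zc61) (kc xc2 yc15 zc22) (kc xc9 yc9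 zc3) (kc xc9 yc9 zc7) (kc xc2 yc20 zc12) (kc xc9 yc9 zc10) (kc xc2 yc20 zc13) (kc xc4 yc6 zc48) (kc xc2 yc39 zc28) (kc xc9 yc9 zc15) (kc xc2 yc40 zc53) (kc xc9 yc9 zc18) (kc xc7 yc26 zc44) (kc xc2 yc15 zc32) (kc xc9 yc9 zc22) (kc xc8 yc0 zc27) (kc xc5 yc51 zc44) (kc xc2 yc15 zc41) (kc xc9 yc9 zc26) (kc xc2 yc15 zc37) (kc xc8 yc0 zc0) (kc xc2 yc15 zc36) (kc xc6 yc31 zc53) (kc xc5 yc8 zc23) (kc xc9 yc9 zc29) (kc xc9 yc9 zc32) (kc xc4 yc34 zc47) (kc xc9 yc9 zc35) (kc xc7 yc19 zc17) (kc xc9 yc9 zc39) (kc xc7 yc17 zc25) (kc xc3 yc57 zc54) (kc xc9 yc9 zc43) (kc xc9 yc9 zc45) (kc xc2 yc15 zc42) (kc xc2 yc48 zc6)) (@D3.rec (fun _ => Pt) (kc xc9 yc9 zc47) (kc xc4 yc58 zc24) (kc xc4 yc58 zc25) (kc xc9 yc9 zc54) (kc xc2 yc15 zc51) (kc xc2 yc15 zc52) (kc xc2 yc15 zc45) (kc xc9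 yc9 zc58) (kc xc2 yc49 zc60) (kc xc4 yc58 zc22) (kc xc2 yc34 zc12) (kc xc3 yc13 zc35) (kc xc2 yc15 zc47) (kc xc2 yc15 zc48) (kc xc9 yc10 zc11) (kc xc7 yc37 zc54) (kc xc9 yc10 zc9) (kc xc9 yc10 zc10) (kc xc9 yc10 zc13) (kc xc9 yc10 zc15) (kc xc2 yc15 zc50) (kc xc9 yc10 zc19) (kc xc9 yc10 zc21) (kc xc2 yc15 zc54) (kc xc9 yc10 zc23) (kc xc3 yc41 zc27) (kc xc2 yc15 zc56) (kc xc9 yc10 zc28) (kc xc4 yc34 zc58) (kc xc9 yc10 zc36) (kc xc9 yc10 zc22) (kc xc7 yc26 zc43) (kc xc2 yc15 zc59) (kc xc9 yc10 zc44) (kc xc9 yc10 zc48) (kc xc9 yc10 zc43) (kc xc9 yc10 zc50) (kc xc9 yc10 zc52) (kc xc2 yc15 zc61) (kc xc9 yc10 zc55) (kc xc2 yc56 zc2) (kc xc7 yc26 zc42) (kc xc2 yc16 zc2) (kc xc9 yc11 zc2) (kc xc9 yc11 zc6) (kc xc9 yc11 zc0) (kc xc3 yc59 zc47) (kc xc6 yc50 zc25) (kc xc4 yc34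 zc29) (kc xc4 yc58 zc21) (kc xc2 yc16 zc5) (kc xc9 yc11 zc21) (kc xc9 yc11 zc23) (kc xc9 yc11 zc26) (kc xc9 yc11 zc20) (kc xc3 yc10 zc22) (kc xc6 yc31 zc22) (kc xc2 yc16 zc7) (kc xc9 yc11 zc34) (kc xc9 yc11 zc36) (kc xc9 yc11 zc33) (kc xc4 yc59 zc61)) (@D3.rec (fun _ => Pt) (kc xc2 yc16 zc8) (kc xc8 yc49 zc55) (kc xc9 yc11 zc43) (kc xc9 yc11 zc49) (kc xc2 yc16 zc9) (kc xc5 yc50 zc53) (kc xc9 yc11 zc51) (kc xc8 yc49 zc25) (kc xc5 yc50 zc15) (kc xc2 yc16 zc10) (kc xc9 yc11 zc57) (kc xc9 yc12 zc1) (kc xc9 yc12 zc5) (kc xc9 yc12 zc10) (kc xc2 yc16 zc14) (kc xc9 yc12 zc14) (kc xc2 yc16 zc12) (kc xc9 yc12 zc23) (kc xc9 yc12 zc20) (kc xc6 yc7 zc20) (kc xc2 yc16 zc13) (kc xc9 yc12 zc34) (kc xc9 yc12 zc33) (kc xc2 yc16 zc15) (kc xc9 yc12 zc38) (kc xc9 yc12 zc40) (kc xc9 yc12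 zc42) (kc xc2 yc16 zc16) (kc xc2 yc16 zc17) (kc xc9 yc12 zc48) (kc xc5 yc48 zc14) (kc xc4 yc34 zc27) (kc xc9 yc12 zc56) (kc xc2 yc16 zc19) (kc xc7 yc44 zc23) (kc xc9 yc13 zc1) (kc xc9 yc13 zc5) (kc xc9 yc12 zc61) (kc xc3 yc27 zc18) (kc xc4 yc57 zc56) (kc xc9 yc13 zc10) (kc xc2 yc46 zc21) (kc xc2 yc47 zc5) (kc xc2 yc16 zc24) (kc xc9 yc13 zc16) (kc xc4 yc58 zc52) (kc xc4 yc33 zc58) (kc xc4 yc45 zc39) (kc xc2 yc16 zc26) (kc xc9 yc13 zc26) (kc xc9 yc13 zc30) (kc xc6 yc50 zc24) (kc xc2 yc57 zc33) (kc xc4 yc7 zc22) (kc xc7 yc43 zc24) (kc xc6 yc7 zc25) (kc xc2 yc21 zc57) (kc xc9 yc6 zc6) (kc xc9 yc6 zc7) (kc xc2 yc16 zc29) (kc xc9 yc13 zc43) (kc xc9 yc13 zc45)) (@D3.rec (fun _ => Pt) (kc xc9 yc13 zc46) (kc xc2 yc16 zc31) (kc xc9 yc13 zc54) (kc xc9 yc13 zc51) (kc xc9 yc13 zc59)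 (kc xc9 yc13 zc60) (kc xc3 yc19 zc33) (kc xc2 yc17 zc61) (kc xc9 yc14 zc0) (kc xc2 yc56 zc60) (kc xc9 yc14 zc4) (kc xc2 yc16 zc35) (kc xc5 yc49 zc26) (kc xc9 yc14 zc7) (kc xc2 yc16 zc36) (kc xc6 yc22 zc8) (kc xc2 yc16 zc37) (kc xc9 yc14 zc12) (kc xc2 yc16 zc38) (kc xc9 yc14 zc15) (kc xc9 yc14 zc19) (kc xc2 yc16 zc39) (kc xc9 yc14 zc22) (kc xc9 yc14 zc26) (kc xc2 yc16 zc40) (kc xc9 yc14 zc29) (kc xc2 yc27 zc56) (kc xc2 yc27 zc57) (kc xc9 yc12 zc45) (kc xc6 yc3 zc30) (kc xc2 yc16 zc43) (kc xc6 yc22 zc28) (kc xc2 yc16 zc45) (kc xc9 yc14 zc43) (kc xc4 yc23 zc46) (kc xc5 yc47 zc51) (kc xc2 yc16 zc50) (kc xc9 yc14 zc48) (kc xc8 yc45 zc29) (kc xc8 yc45 zc30) (kc xc6 yc14 zc25) (kc xc8 yc25 zc52) (kc xc8 yc10 zc32) (kc xc2 yc16 zc53) (kc xc9 yc15 zc0) (kc xc9 yc14 zc61) (kc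 xc2 yc16 zc54) (kc xc9 yc15 zc4) (kc xc8 yc51 zc56) (kc xc2 yc16 zc56) (kc xc9 yc15 zc10) (kc xc9 yc15 zc8) (kc xc2 yc16 zc59) (kc xc5 yc52 zc14) (kc xc5 yc50 zc46) (kc xc2 yc59 zc34) (kc xc4 yc26 zc16) (kc xc9 yc15 zc22) (kc xc5 yc47 zc55) (kc xc2 yc27 zc2) (kc xc7 yc26 zc60) (kc xc2 yc17 zc3)) (@D3.rec (fun _ => Pt) (kc xc9 yc15 zc32) (kc xc9 yc15 zc34) (kc xc9 yc15 zc30) (kc xc9 yc15 zc37) (kc xc5 yc50 zc26) (kc xc3 yc12 zc44) (kc xc9 yc15 zc40) (kc xc9 yc15 zc43) (kc xc3 yc12 zc56) (kc xc2 yc19 zc4) (kc xc2 yc21 zc10) (kc xc3 yc7 zc24) (kc xc4 yc47 zc39) (kc xc2 yc17 zc10) (kc xc2 yc21 zc13) (kc xc9 yc15 zc54) (kc xc2 yc17 zc14) (kc xc3 yc1 zc42) (kc xc3 yc5 zc56) (kc xc2 yc17 zc16) (kc xc9 yc16 zc7) (kc xc9 yc16 zc9) (kc xc9 yc16 zc6) (kc xc2 yc20 zc25) (kc xc3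 yc26 zc0) (kc xc4 yc40 zc33) (kc xc2 yc51 zc61) (kc xc4 yc40 zc31) (kc xc2 yc17 zc19) (kc xc9 yc16 zc20) (kc xc6 yc49 zc28) (kc xc4 yc40 zc27) (kc xc6 yc18 zc21) (kc xc4 yc40 zc25) (kc xc3 yc45 zc17) (kc xc2 yc27 zc22) (kc xc2 yc17 zc28) (kc xc9 yc16 zc34) (kc xc2 yc17 zc29) (kc xc2 yc17 zc23) (kc xc9 yc16 zc41) (kc xc6 yc19 zc24) (kc xc6 yc19 zc25) (kc xc9 yc16 zc54) (kc xc2 yc17 zc27) (kc xc8 yc14 zc46) (kc xc2 yc17 zc25) (kc xc9 yc16 zc60) (kc xc9 yc16 zc59) (kc xc2 yc17 zc26) (kc xc9 yc16 zc33) (kc xc9 yc17 zc9) (kc xc9 yc17 zc12) (kc xc9 yc17 zc16) (kc xc9 yc16 zc39) (kc xc9 yc17 zc18) (kc xc9 yc17 zc20) (kc xc9 yc17 zc21) (kc xc9 yc17 zc24) (kc xc3 yc12 zc45) (kc xc9 yc17 zc26) (kc xc2 yc17 zc32)) (@D3.rec (fun _ => Pt) (kc xc3 yc21 zc10) (kc xc9 yc17 zc31) (kc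 xc2 yc17 zc34) (kc xc9 yc17 zc35) (kc xc9 yc17 zc33) (kc xc9 yc17 zc39) (kc xc2 yc17 zc37) (kc xc2 yc17 zc36) (kc xc6 yc30 zc5) (kc xc6 yc3 zc3) (kc xc6 yc30 zc24) (kc xc2 yc17 zc38) (kc xc6 yc29 zc40) (kc xc9 yc17 zc41) (kc xc9 yc17 zc44) (kc xc2 yc17 zc41) (kc xc6 yc21 zc44) (kc xc6 yc30 zc36) (kc xc2 yc49 zc34) (kc xc2 yc49 zc49) (kc xc5 yc56 zc12) (kc xc5 yc56 zc13) (kc xc2 yc17 zc46) (kc xc9 yc17 zc47) (kc xc9 yc17 zc48) (kc xc2 yc17 zc48) (kc xc9 yc17 zc50) (kc xc9 yc17 zc49) (kc xc9 yc17 zc51) (kc xc9 yc17 zc53) (kc xc2 yc17 zc49) (kc xc9 yc17 zc58) (kc xc4 yc26 zc10) (kc xc5 yc37 zc34) (kc xc2 yc27 zc51) (kc xc9 yc17 zc57) (kc xc2 yc19 zc3) (kc xc2 yc17 zc54) (kc xc9 yc18 zc4) (kc xc2 yc17 zc57) (kc xc3 yc7 zc17) (kc xc2 yc19 zc18) (kc xc2 yc18 zc0) (kc xc2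 yc18 zc1) (kc xc3 yc24 zc18) (kc xc3 yc42 zc30) (kc xc3 yc45 zc9) (kc xc9 yc18 zc12) (kc xc2 yc18 zc8) (kc xc9 yc18 zc14) (kc xc6 yc41 zc54) (kc xc2 yc18 zc10) (kc xc6 yc44 zc2) (kc xc9 yc18 zc18) (kc xc2 yc18 zc12) (kc xc2 yc18 zc15) (kc xc2 yc18 zc17) (kc xc9 yc18 zc22) (kc xc3 yc7 zc5) (kc xc4 yc43 zc21) (kc xc2 yc18 zc34) (kc xc2 yc18 zc19)) (@D3.rec (fun _ => Pt) (kc xc2 yc18 zc20) (kc xc9 yc18 zc30) (kc xc9 yc18 zc31) (kc xc9 yc18 zc32) (kc xc2 yc18 zc21) (kc xc9 yc18 zc34) (kc xc6 yc36 zc27) (kc xc2 yc18 zc22) (kc xc9 yc18 zc39) (kc xc2 yc18 zc23) (kc xc9 yc18 zc41) (kc xc2 yc21 zc58) (kc xc2 yc21 zc59) (kc xc9 yc18 zc19) (kc xc6 yc3 zc33) (kc xc2 yc18 zc27) (kc xc7 yc11 zc22) (kc xc9 yc18 zc55) (kc xc2 yc18 zc31) (kc xc9 yc18 zc59) (kc xc9 yc18 zc57) (kc xc2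 yc18 zc33) (kc xc6 yc28 zc57) (kc xc9 yc19 zc5) (kc xc9 yc19 zc7) (kc xc9 yc19 zc10) (kc xc9 yc18 zc27) (kc xc9 yc19 zc12) (kc xc2 yc18 zc39) (kc xc9 yc19 zc17) (kc xc9 yc19 zc15) (kc xc2 yc18 zc41) (kc xc6 yc23 zc1) (kc xc6 yc23 zc2) (kc xc9 yc19 zc22) (kc xc4 yc53 zc55) (kc xc9 yc19 zc26) (kc xc2 yc18 zc46) (kc xc9 yc19 zc28) (kc xc6 yc13 zc52) (kc xc6 yc13 zc53) (kc xc7 yc27 zc46) (kc xc7 yc56 zc47) (kc xc6 yc24 zc60) (kc xc6 yc24 zc61) (kc xc3 yc40 zc49) (kc xc2 yc49 zc19) (kc xc2 yc49 zc36) (kc xc5 yc54 zc13) (kc xc2 yc18 zc54) (kc xc5 yc51 zc46) (kc xc2 yc18 zc55) (kc xc4 yc45 zc41) (kc xc2 yc18 zc57) (kc xc5 yc37 zc42) (kc xc9 yc19 zc50) (kc xc9 yc19 zc49) (kc xc9 yc19 zc51) (kc xc8 yc12 zc19) (kc xc5 yc38 zc50) (kc xc6 yc50 zc23) (kc xc9 yc18 zc3)) (@D3.rec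 (fun _ => Pt) (kc xc9 yc15 zc47) (kc xc9 yc18 zc8) (kc xc2 yc57 zc45) (kc xc2 yc19 zc8) (kc xc6 yc37 zc31) (kc xc4 yc47 zc48) (kc xc2 yc19 zc12) (kc xc4 yc45 zc35) (kc xc4 yc45 zc34) (kc xc2 yc19 zc15) (kc xc6 yc49 zc48) (kc xc2 yc34 zc13) (kc xc3 yc13 zc18) (kc xc3 yc13 zc19) (kc xc5 yc6 zc61) (kc xc3 yc17 zc5) (kc xc5 yc36 zc24) (kc xc2 yc19 zc22) (kc xc4 yc46 zc6) (kc xc2 yc19 zc20) (kc xc4 yc17 zc59) (kc xc4 yc41 zc59) (kc xc6 yc48 zc16) (kc xc4 yc17 zc11) (kc xc9 yc15 zc56) (kc xc3 yc18 zc19) (kc xc9 yc20 zc13) (kc xc9 yc20 zc14) (kc xc9 yc20 zc15) (kc xc2 yc19 zc28) (kc xc2 yc19 zc29) (kc xc9 yc20 zc18) (kc xc2 yc19 zc30) (kc xc7 yc25 zc56) (kc xc9 yc20 zc21) (kc xc2 yc22 zc11) (kc xc2 yc22 zc12) (kc xc4 yc19 zc40) (kc xc9 yc2 zc17) (kc xc2 yc19 zc35) (kc xc8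 yc39 zc56) (kc xc8 yc20 zc58) (kc xc8 yc24 zc8) (kc xc3 yc7 zc41) (kc xc2 yc19 zc39) (kc xc2 yc19 zc40) (kc xc5 yc18 zc57) (kc xc9 yc20 zc37) (kc xc6 yc32 zc9) (kc xc2 yc19 zc42) (kc xc9 yc9 zc9) (kc xc6 yc34 zc37) (kc xc2 yc48 zc44) (kc xc5 yc52 zc51) (kc xc6 yc49 zc19) (kc xc3 yc15 zc45) (kc xc3 yc13 zc52) (kc xc9 yc7 zc55) (kc xc4 yc46 zc5) (kc xc6 yc48 zc28) (kc xc2 yc19 zc56) (kc xc9 yc20 zc51)) (@D3.rec (fun _ => Pt) (kc xc9 yc20 zc54) (kc xc2 yc19 zc57) (kc xc2 yc19 zc58) (kc xc9 yc20 zc58) (kc xc2 yc19 zc60) (kc xc3 yc13 zc48) (kc xc2 yc20 zc0) (kc xc2 yc20 zc2) (kc xc2 yc20 zc3) (kc xc9 yc21 zc10) (kc xc9 yc21 zc8) (kc xc2 yc20 zc5) (kc xc7 yc38 zc4) (kc xc9 yc21 zc17) (kc xc9 yc21 zc15) (kc xc6 yc9 zc31) (kc xc6 yc33 zc10) (kc xc6 yc29 zc6) (kc xc6 yc28 zc14)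 (kc xc9 yc21 zc30) (kc xc2 yc20 zc9) (kc xc9 yc21 zc32) (kc xc2 yc20 zc10) (kc xc9 yc21 zc35) (kc xc2 yc20 zc11) (kc xc9 yc21 zc37) (kc xc2 yc20 zc15) (kc xc9 yc21 zc41) (kc xc3 yc15 zc7) (kc xc2 yc20 zc18) (kc xc9 yc21 zc48) (kc xc2 yc20 zc19) (kc xc2 yc20 zc32) (kc xc2 yc20 zc22) (kc xc2 yc20 zc23) (kc xc3 yc19 zc51) (kc xc9 yc15 zc48) (kc xc9 yc16 zc10) (kc xc6 yc31 zc20) (kc xc2 yc20 zc27) (kc xc3 yc7 zc12) (kc xc4 yc45 zc43) (kc xc3 yc7 zc11) (kc xc3 yc15 zc0) (kc xc4 yc45 zc44) (kc xc6 yc28 zc31) (kc xc5 yc53 zc56) (kc xc4 yc36 zc16) (kc xc5 yc53 zc47) (kc xc4 yc35 zc54) (kc xc9 yc21 zc53) (kc xc6 yc19 zc58) (kc xc9 yc16 zc12) (kc xc4 yc46 zc53) (kc xc9 yc22 zc27) (kc xc6 yc10 zc44) (kc xc9 yc22 zc31) (kc xc9 yc8 zc38) (kc xc2 yc51 zc49) (kc xc9 yc22 zc39) (kc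 xc4 yc46 zc51) (kc xc6 yc22 zc5)) (@D3.rec (fun _ => Pt) (kc xc6 yc25 zc48) (kc xc4 yc45 zc14) (kc xc2 yc20 zc41) (kc xc9 yc22 zc51) (kc xc9 yc22 zc53) (kc xc9 yc22 zc50) (kc xc3 yc23 zc31) (kc xc4 yc45 zc11) (kc xc2 yc20 zc43) (kc xc9 yc22 zc60) (kc xc6 yc48 zc61) (kc xc4 yc45 zc7) (kc xc6 yc17 zc17) (kc xc7 yc20 zc0) (kc xc4 yc45 zc1) (kc xc6 yc17 zc15) (kc xc9 yc23 zc12) (kc xc9 yc23 zc16) (kc xc3 yc16 zc15) (kc xc6 yc0 zc47) (kc xc3 yc16 zc17) (kc xc4 yc46 zc60) (kc xc6 yc49 zc6) (kc xc7 yc21 zc5) (kc xc9 yc23 zc37) (kc xc2 yc20 zc50) (kc xc2 yc20 zc49) (kc xc9 yc23 zc41) (kc xc2 yc20 zc55) (kc xc2 yc20 zc52) (kc xc6 yc49 zc50) (kc xc6 yc49 zc51) (kc xc9 yc23 zc47) (kc xc6 yc21 zc54) (kc xc4 yc43 zc8) (kc xc4 yc43 zc7) (kc xc3 yc19 zc46) (kc xc6 yc19 zc56) (kc xc6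 yc1 zc41) (kc xc4 yc38 zc47) (kc xc6 yc16 zc3) (kc xc4 yc42 zc52) (kc xc9 yc23 zc44) (kc xc4 yc44 zc41) (kc xc4 yc44 zc44) (kc xc4 yc46 zc30) (kc xc6 yc19 zc43) (kc xc6 yc20 zc45) (kc xc8 yc26 zc47) (kc xc2 yc20 zc61) (kc xc2 yc20 zc58) (kc xc9 yc24 zc17) (kc xc9 yc24 zc16) (kc xc2 yc20 zc59) (kc xc9 yc24 zc19) (kc xc7 yc43 zc21) (kc xc9 yc24 zc22) (kc xc2 yc20 zc60) (kc xc9 yc24 zc27) (kc xc2 yc21 zc2) (kc xc6 yc28 zc22) (kc xc9 yc24 zc34)) (@D3.rec (fun _ => Pt) (kc xc9 yc13 zc20) (kc xc9 yc24 zc30) (kc xc9 yc24 zc40) (kc xc2 yc27 zc53) (kc xc4 yc46 zc21) (kc xc4 yc43 zc58) (kc xc4 yc43 zc18) (kc xc5 yc12 zc10) (kc xc2 yc21 zc7) (kc xc2 yc21 zc5) (kc xc9 yc24 zc53) (kc xc9 yc24 zc54) (kc xc9 yc24 zc56) (kc xc2 yc21 zc6) (kc xc9 yc25 zc0) (kc xc9 yc25 zc3) (kc xc9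 yc25 zc7) (kc xc9 yc25 zc10) (kc xc2 yc21 zc8) (kc xc9 yc25 zc17) (kc xc9 yc25 zc15) (kc xc4 yc46 zc4) (kc xc4 yc29 zc13) (kc xc8 yc35 zc41) (kc xc9 yc25 zc26) (kc xc9 yc25 zc29) (kc xc9 yc25 zc31) (kc xc2 yc21 zc11) (kc xc4 yc24 zc46) (kc xc9 yc25 zc34) (kc xc4 yc45 zc45) (kc xc9 yc25 zc43) (kc xc9 yc15 zc53) (kc xc6 yc38 zc15) (kc xc2 yc21 zc14) (kc xc9 yc25 zc49) (kc xc9 yc25 zc48) (kc xc5 yc54 zc44) (kc xc9 yc25 zc57) (kc xc8 yc0 zc25) (kc xc2 yc27 zc41) (kc xc2 yc22 zc21) (kc xc9 yc26 zc3) (kc xc9 yc26 zc5) (kc xc2 yc21 zc17) (kc xc9 yc26 zc8) (kc xc9 yc26 zc13) (kc xc9 yc26 zc16) (kc xc9 yc26 zc21) (kc xc2 yc22 zc25) (kc xc9 yc26 zc24) (kc xc4 yc44 zc60) (kc xc7 yc56 zc42) (kc xc4 yc44 zc53) (kc xc9 yc26 zc7) (kc xc2 yc21 zc22) (kc xc9 yc26 zc42) (kc xc9 yc26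 zc46) (kc xc9 yc26 zc50) (kc xc9 yc26 zc40) (kc xc4 yc45 zc21) (kc xc5 yc13 zc45)) (@D3.rec (fun _ => Pt) (kc xc2 yc21 zc24) (kc xc9 yc26 zc61) (kc xc6 yc49 zc41) (kc xc9 yc27 zc4) (kc xc2 yc21 zc25) (kc xc9 yc27 zc8) (kc xc9 yc27 zc7) (kc xc9 yc27 zc13) (kc xc9 yc27 zc16) (kc xc2 yc21 zc26) (kc xc9 yc27 zc22) (kc xc2 yc21 zc34) (kc xc6 yc50 zc1) (kc xc6 yc49 zc59) (kc xc9 yc27 zc31) (kc xc2 yc21 zc29) (kc xc6 yc19 zc60) (kc xc9 yc27 zc32) (kc xc8 yc32 zc19) (kc xc2 yc21 zc31) (kc xc4 yc49 zc55) (kc xc9 yc27 zc45) (kc xc2 yc21 zc33) (kc xc9 yc27 zc49) (kc xc9 yc27 zc50) (kc xc2 yc21 zc35) (kc xc9 yc27 zc55) (kc xc9 yc27 zc54) (kc xc9 yc27 zc59) (kc xc9 yc27 zc61) (kc xc2 yc21 zc36) (kc xc6 yc23 zc54) (kc xc2 yc21 zc38) (kc xc6 yc23 zc55) (kc xc2 yc21 zc41) (kc xc9 yc28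 zc10) (kc xc6 yc26 zc13) (kc xc2 yc21 zc42) (kc xc8 yc23 zc39) (kc xc4 yc40 zc12) (kc xc4 yc18 zc30) (kc xc2 yc23 zc0) (kc xc9 yc28 zc26) (kc xc3 yc18 zc57) (kc xc2 yc21 zc45) (kc xc9 yc28 zc32) (kc xc9 yc28 zc33) (kc xc9 yc21 zc55) (kc xc4 yc43 zc5) (kc xc6 yc43 zc14) (kc xc6 yc20 zc37) (kc xc6 yc19 zc46) (kc xc9 yc28 zc42) (kc xc2 yc21 zc53) (kc xc2 yc21 zc50) (kc xc9 yc28 zc45) (kc xc9 yc28 zc46) (kc xc2 yc21 zc51) (kc xc9 yc28 zc49) (kc xc9 yc28 zc50) (kc xc9 yc28 zc51) (kc xc2 yc21 zc52)) (@D3.rec (fun _ => Pt) (kc xc8 yc19 zc44) (kc xc2 yc21 zc54) (kc xc9 yc28 zc59) (kc xc6 yc21 zc45) (kc xc2 yc21 zc55) (kc xc2 yc21 zc56) (kc xc8 yc24 zc29) (kc xc9 yc29 zc1) (kc xc9 yc29 zc2) (kc xc9 yc28 zc54) (kc xc6 yc4 zc6) (kc xc2 yc21 zc61) (kc xc3 yc19 zc42) (kc xc2 yc22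 zc1) (kc xc9 yc29 zc13) (kc xc9 yc29 zc15) (kc xc3 yc53 zc56) (kc xc3 yc22 zc53) (kc xc3 yc23 zc55) (kc xc9 yc29 zc24) (kc xc2 yc22 zc7) (kc xc2 yc22 zc4) (kc xc9 yc29 zc28) (kc xc2 yc22 zc5) (kc xc9 yc29 zc31) (kc xc9 yc29 zc32) (kc xc9 yc29 zc33) (kc xc2 yc22 zc6) (kc xc9 yc29 zc38) (kc xc6 yc26 zc39) (kc xc6 yc26 zc40) (kc xc2 yc22 zc8) (kc xc2 yc22 zc9) (kc xc9 yc29 zc43) (kc xc2 yc22 zc10) (kc xc8 yc25 zc30) (kc xc9 yc29 zc45) (kc xc9 yc20 zc25) (kc xc9 yc29 zc36) (kc xc9 yc1 zc36) (kc xc2 yc22 zc14) (kc xc9 yc29 zc53) (kc xc4 yc59 zc44) (kc xc4 yc33 zc59) (kc xc4 yc58 zc28) (kc xc4 yc59 zc42) (kc xc5 yc59 zc37) (kc xc2 yc22 zc17) (kc xc9 yc25 zc51) (kc xc9 yc30 zc6) (kc xc3 yc50 zc25) (kc xc2 yc22 zc18) (kc xc9 yc30 zc11) (kc xc9 yc30 zc10) (kc xc9 yc30 zc18)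 (kc xc2 yc22 zc20) (kc xc7 yc43 zc7) (kc xc8 yc2 zc23) (kc xc6 yc54 zc4) (kc xc9 yc30 zc26) (kc xc9 yc30 zc30) (kc xc9 yc30 zc35)) (@D3.rec (fun _ => Pt) (kc xc9 yc26 zc2) (kc xc9 yc30 zc39) (kc xc2 yc22 zc22) (kc xc9 yc30 zc46) (kc xc6 yc53 zc24) (kc xc9 yc30 zc52) (kc xc2 yc22 zc23) (kc xc9 yc30 zc58) (kc xc9 yc30 zc57) (kc xc9 yc31 zc0) (kc xc9 yc31 zc3) (kc xc2 yc22 zc24) (kc xc9 yc31 zc9) (kc xc9 yc31 zc11) (kc xc9 yc31 zc13) (kc xc2 yc22 zc26) (kc xc9 yc31 zc18) (kc xc9 yc31 zc21) (kc xc9 yc31 zc23) (kc xc2 yc22 zc27) (kc xc9 yc31 zc25) (kc xc9 yc31 zc29) (kc xc9 yc31 zc30) (kc xc2 yc22 zc29) (kc xc9 yc31 zc35) (kc xc9 yc31 zc34) (kc xc2 yc22 zc30) (kc xc9 yc31 zc40) (kc xc3 yc8 zc36) (kc xc9 yc31 zc42) (kc xc2 yc22 zc32) (kc xc3 yc12 zc42) (kc xc9 yc31 zc44)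 (kc xc9 yc31 zc47) (kc xc2 yc22 zc33) (kc xc6 yc42 zc59) (kc xc3 yc24 zc7) (kc xc3 yc24 zc8) (kc xc8 yc16 zc12) (kc xc3 yc2 zc42) (kc xc2 yc22 zc35) (kc xc9 yc31 zc60) (kc xc2 yc22 zc36) (kc xc6 yc32 zc43) (kc xc2 yc22 zc39) (kc xc8 yc19 zc51) (kc xc9 yc32 zc10) (kc xc6 yc45 zc56) (kc xc7 yc44 zc13) (kc xc9 yc32 zc3) (kc xc9 yc32 zc16) (kc xc6 yc45 zc30) (kc xc6 yc45 zc31) (kc xc2 yc22 zc40) (kc xc9 yc32 zc22) (kc xc4 yc47 zc20) (kc xc9 yc17 zc28) (kc xc2 yc22 zc42) (kc xc2 yc22 zc43) (kc xc9 yc32 zc31) (kc xc2 yc22 zc45) (kc xc2 yc34 zc3)) (@D3.rec (fun _ => Pt) (kc xc5 yc38 zc48) (kc xc2 yc22 zc47) (kc xc9 yc32 zc35) (kc xc2 yc22 zc49) (kc xc9 yc32 zc37) (kc xc2 yc22 zc50) (kc xc9 yc32 zc40) (kc xc2 yc22 zc52) (kc xc9 yc32 zc41) (kc xc2 yc22 zc53) (kc xc9 yc32 zc43)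 (kc xc2 yc22 zc54) (kc xc6 yc20 zc3) (kc xc9 yc32 zc48) (kc xc2 yc22 zc55) (kc xc3 yc8 zc20) (kc xc3 yc8 zc21) (kc xc9 yc28 zc2) (kc xc5 yc13 zc35) (kc xc7 yc55 zc14) (kc xc2 yc22 zc58) (kc xc8 yc24 zc30) (kc xc2 yc22 zc59) (kc xc9 yc33 zc1) (kc xc2 yc22 zc61) (kc xc6 yc23 zc44) (kc xc6 yc23 zc45) (kc xc9 yc33 zc9) (kc xc9 yc33 zc12) (kc xc9 yc28 zc22) (kc xc4 yc18 zc0) (kc xc9 yc33 zc14) (kc xc2 yc37 zc15) (kc xc9 yc33 zc16) (kc xc2 yc37 zc32) (kc xc2 yc37 zc33) (kc xc2 yc23 zc4) (kc xc5 yc21 zc46) (kc xc2 yc23 zc6) (kc xc9 yc33 zc24) (kc xc8 yc7 zc3) (kc xc4 yc1 zc1) (kc xc2 yc58 zc42) (kc xc9 yc33 zc20) (kc xc9 yc33 zc41) (kc xc2 yc23 zc10) (kc xc8 yc28 zc34) (kc xc8 yc33 zc41) (kc xc2 yc29 zc3) (kc xc2 yc23 zc12) (kc xc9 yc33 zc47) (kc xc2 yc23 zc14) (kc xc9 yc33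 zc50) (kc xc5 yc21 zc11) (kc xc2 yc23 zc16) (kc xc9 yc33 zc54) (kc xc2 yc23 zc17) (kc xc9 yc33 zc57) (kc xc4 yc0 zc18) (kc xc4 yc52 zc2) (kc xc2 yc23 zc19) (kc xc9 yc34 zc4)) (@D3.rec (fun _ => Pt) (kc xc4 yc15 zc42) (kc xc2 yc23 zc20) (kc xc9 yc34 zc6) (kc xc8 yc23 zc55) (kc xc9 yc33 zc44) (kc xc2 yc23 zc22) (kc xc9 yc34 zc12) (kc xc2 yc23 zc28) (kc xc2 yc23 zc24) (kc xc9 yc34 zc17) (kc xc2 yc38 zc17) (kc xc4 yc8 zc28) (kc xc9 yc34 zc5) (kc xc4 yc51 zc61) (kc xc2 yc23 zc26) (kc xc9 yc34 zc38) (kc xc9 yc34 zc40) (kc xc9 yc34 zc37) (kc xc2 yc23 zc27) (kc xc8 yc33 zc42) (kc xc4 yc17 zc22) (kc xc2 yc23 zc30) (kc xc9 yc34 zc48) (kc xc4 yc3 zc42) (kc xc2 yc23 zc32) (kc xc9 yc34 zc52) (kc xc9 yc34 zc46) (kc xc4 yc51 zc60) (kc xc2 yc23 zc35) (kc xc8 yc40 zc37) (kc xc9 yc35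 zc2) (kc xc8 yc29 zc60) (kc xc3 yc56 zc55) (kc xc8 yc29 zc58) (kc xc4 yc51 zc53) (kc xc2 yc23 zc39) (kc xc9 yc35 zc20) (kc xc9 yc35 zc22) (kc xc9 yc35 zc19) (kc xc5 yc21 zc12) (kc xc2 yc23 zc40) (kc xc9 yc35 zc27) (kc xc9 yc35 zc25) (kc xc4 yc51 zc50) (kc xc2 yc23 zc42) (kc xc6 yc31 zc3) (kc xc9 yc35 zc43) (kc xc9 yc35 zc44) (kc xc9 yc35 zc41) (kc xc8 yc39 zc59) (kc xc4 yc51 zc43) (kc xc7 yc55 zc25) (kc xc8 yc16 zc43) (kc xc4 yc51 zc34) (kc xc7 yc55 zc26) (kc xc8 yc35 zc33) (kc xc7 yc25 zc45) (kc xc2 yc24 zc1) (kc xc9 yc36 zc11) (kc xc2 yc24 zc3) (kc xc4 yc51 zc27) (kc xc4 yc51 zc13)) (@D3.rec (fun _ => Pt) (kc xc2 yc23 zc46) (kc xc9 yc36 zc20) (kc xc4 yc50 zc59) (kc xc2 yc23 zc48) (kc xc9 yc36 zc27) (kc xc9 yc36 zc31) (kc xc2 yc23 zc49) (kc xc9 yc36 zc35) (kc xc4 yc16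 zc41) (kc xc2 yc58 zc20) (kc xc8 yc22 zc32) (kc xc2 yc23 zc51) (kc xc9 yc36 zc47) (kc xc9 yc36 zc51) (kc xc3 yc8 zc55) (kc xc8 yc41 zc14) (kc xc9 yc36 zc55) (kc xc5 yc34 zc56) (kc xc6 yc37 zc34) (kc xc2 yc23 zc55) (kc xc9 yc36 zc58) (kc xc4 yc8 zc52) (kc xc4 yc28 zc9) (kc xc2 yc23 zc57) (kc xc9 yc37 zc6) (kc xc9 yc37 zc9) (kc xc9 yc18 zc9) (kc xc6 yc26 zc16) (kc xc8 yc41 zc37) (kc xc9 yc36 zc1) (kc xc9 yc37 zc11) (kc xc8 yc19 zc41) (kc xc2 yc23 zc61) (kc xc9 yc37 zc18) (kc xc9 yc37 zc16) (kc xc9 yc37 zc17) (kc xc2 yc24 zc0) (kc xc9 yc37 zc21) (kc xc9 yc37 zc23) (kc xc8 yc42 zc2) (kc xc2 yc24 zc2) (kc xc9 yc37 zc25) (kc xc9 yc36 zc14) (kc xc9 yc37 zc29) (kc xc8 yc23 zc47) (kc xc6 yc19 zc54) (kc xc8 yc20 zc25) (kc xc2 yc24 zc8) (kc xc8 yc27 zc39) (kc xc8 yc27 zc40) (kc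 xc9 yc37 zc37) (kc xc8 yc11 zc6) (kc xc4 yc17 zc16) (kc xc2 yc24 zc15) (kc xc8 yc16 zc50) (kc xc9 yc37 zc46) (kc xc9 yc37 zc48) (kc xc9 yc37 zc51) (kc xc8 yc41 zc52) (kc xc6 yc4 zc17) (kc xc2 yc24 zc19) (kc xc9 yc37 zc54)) (@D3.rec (fun _ => Pt) (kc xc9 yc37 zc58) (kc xc9 yc37 zc60) (kc xc8 yc41 zc61) (kc xc9 yc38 zc2) (kc xc3 yc57 zc26) (kc xc3 yc57 zc3) (kc xc8 yc29 zc53) (kc xc3 yc57 zc24) (kc xc3 yc57 zc4) (kc xc8 yc23 zc12) (kc xc6 yc22 zc46) (kc xc2 yc24 zc40) (kc xc9 yc38 zc24) (kc xc3 yc57 zc33) (kc xc3 yc57 zc32) (kc xc8 yc2 zc2) (kc xc2 yc24 zc26) (kc xc8 yc42 zc24) (kc xc8 yc42 zc25) (kc xc8 yc40 zc4) (kc xc8 yc52 zc59) (kc xc2 yc24 zc29) (kc xc9 yc38 zc50) (kc xc9 yc38 zc53) (kc xc9 yc38 zc48) (kc xc9 yc38 zc56) (kc xc9 yc38 zc58) (kc xc8 yc59 zc43) (kc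 xc8 yc34 zc44) (kc xc2 yc24 zc33) (kc xc6 yc23 zc25) (kc xc4 yc10 zc36) (kc xc8 yc34 zc13) (kc xc9 yc39 zc0) (kc xc9 yc39 zc3) (kc xc8 yc35 zc15) (kc xc9 yc39 zc4) (kc xc8 yc23 zc40) (kc xc2 yc24 zc38) (kc xc9 yc39 zc11) (kc xc9 yc39 zc10) (kc xc9 yc39 zc12) (kc xc2 yc24 zc39) (kc xc9 yc39 zc14) (kc xc9 yc39 zc15) (kc xc6 yc20 zc58) (kc xc6 yc20 zc61) (kc xc2 yc24 zc42) (kc xc6 yc15 zc61) (kc xc6 yc7 zc34) (kc xc2 yc30 zc33) (kc xc4 yc7 zc10) (kc xc2 yc33 zc6) (kc xc8 yc12 zc20) (kc xc8 yc5 zc4) (kc xc4 yc42 zc35) (kc xc9 yc39 zc21) (kc xc9 yc39 zc22) (kc xc4 yc27 zc16) (kc xc4 yc27 zc17) (kc xc2 yc24 zc53) (kc xc5 yc18 zc30)) (@D3.rec (fun _ => Pt) (kc xc9 yc39 zc29) (kc xc2 yc36 zc7) (kc xc2 yc36 zc41) (kc xc2 yc24 zc56) (kc xc5 yc18 zc20) (kc xc2 yc24 zc58) (kc xc9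 yc39 zc37) (kc xc2 yc24 zc59) (kc xc9 yc39 zc41) (kc xc2 yc36 zc10) (kc xc2 yc36 zc11) (kc xc9 yc39 zc26) (kc xc9 yc39 zc58) (kc xc2 yc24 zc61) (kc xc9 yc39 zc61) (kc xc9 yc40 zc1) (kc xc2 yc35 zc35) (kc xc2 yc36 zc25) (kc xc2 yc25 zc1) (kc xc5 yc16 zc26) (kc xc2 yc25 zc3) (kc xc9 yc40 zc9) (kc xc2 yc25 zc5) (kc xc9 yc40 zc14) (kc xc2 yc36 zc16) (kc xc2 yc35 zc41) (kc xc8 yc26 zc12) (kc xc9 yc40 zc31) (kc xc2 yc25 zc7) (kc xc9 yc40 zc34) (kc xc2 yc25 zc8) (kc xc9 yc40 zc38) (kc xc2 yc25 zc10) (kc xc9 yc40 zc41) (kc xc2 yc25 zc11) (kc xc9 yc40 zc44) (kc xc2 yc25 zc12) (kc xc9 yc40 zc48) (kc xc4 yc0 zc59) (kc xc7 yc57 zc45) (kc xc2 yc39 zc14) (kc xc2 yc25 zc14) (kc xc9 yc40 zc61) (kc xc4 yc27 zc51) (kc xc2 yc25 zc15) (kc xc9 yc41 zc2) (kc xc4 yc12 zc16) (kc xc8 yc15 zc41)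 (kc xc5 yc20 zc43) (kc xc5 yc20 zc28) (kc xc2 yc25 zc18) (kc xc9 yc41 zc9) (kc xc6 yc4 zc29) (kc xc2 yc25 zc24) (kc xc2 yc25 zc20) (kc xc9 yc41 zc15) (kc xc2 yc37 zc39) (kc xc2 yc37 zc40) (kc xc9 yc41 zc1) (kc xc2 yc39 zc11) (kc xc2 yc25 zc22) (kc xc9 yc41 zc36)) (@D3.rec (fun _ => Pt) (kc xc9 yc41 zc38) (kc xc9 yc41 zc35) (kc xc2 yc25 zc23) (kc xc5 yc30 zc18) (kc xc2 yc25 zc27) (kc xc4 yc29 zc7) (kc xc2 yc25 zc26) (kc xc9 yc41 zc46) (kc xc4 yc2 zc49) (kc xc2 yc25 zc28) (kc xc9 yc41 zc50) (kc xc9 yc41 zc44) (kc xc2 yc39 zc10) (kc xc2 yc25 zc31) (kc xc9 yc42 zc1) (kc xc9 yc42 zc0) (kc xc8 yc53 zc3) (kc xc2 yc37 zc38) (kc xc8 yc53 zc1) (kc xc2 yc39 zc3) (kc xc2 yc25 zc34) (kc xc9 yc42 zc18) (kc xc9 yc42 zc20) (kc xc9 yc42 zc23) (kc xc9 yc42 zc17) (kc xc2 yc25 zc35) (kc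 xc9 yc42 zc26) (kc xc9 yc42 zc24) (kc xc2 yc38 zc61) (kc xc2 yc25 zc37) (kc xc9 yc42 zc40) (kc xc9 yc42 zc42) (kc xc9 yc42 zc44) (kc xc9 yc42 zc39) (kc xc9 yc42 zc49) (kc xc2 yc38 zc52) (kc xc5 yc23 zc61) (kc xc5 yc20 zc50) (kc xc2 yc38 zc39) (kc xc5 yc20 zc49) (kc xc6 yc45 zc59) (kc xc6 yc45 zc60) (kc xc2 yc25 zc57) (kc xc5 yc18 zc28) (kc xc2 yc25 zc59) (kc xc2 yc38 zc25) (kc xc2 yc38 zc1) (kc xc2 yc25 zc41) (kc xc9 yc43 zc16) (kc xc2 yc37 zc8) (kc xc2 yc25 zc43) (kc xc9 yc43 zc23) (kc xc9 yc43 zc27) (kc xc9 yc43 zc30) (kc xc9 yc43 zc32) (kc xc9 yc43 zc34) (kc xc8 yc8 zc59) (kc xc9 yc43 zc35) (kc xc9 yc43 zc37) (kc xc9 yc43 zc38) (kc xc5 yc31 zc57) (kc xc2 yc25 zc47)) (@D3.rec (fun _ => Pt) (kc xc2 yc25 zc49) (kc xc9 yc43 zc42) (kc xc2 yc38 zc9) (kc xc8 yc27 zc52)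 (kc xc2 yc25 zc51) (kc xc9 yc43 zc54) (kc xc9 yc43 zc57) (kc xc9 yc43 zc52) (kc xc5 yc32 zc49) (kc xc9 yc43 zc58) (kc xc9 yc43 zc2) (kc xc9 yc43 zc61) (kc xc5 yc25 zc12) (kc xc2 yc25 zc55) (kc xc5 yc33 zc21) (kc xc9 yc44 zc7) (kc xc5 yc13 zc20) (kc xc9 yc44 zc15) (kc xc2 yc25 zc56) (kc xc5 yc33 zc22) (kc xc9 yc44 zc19) (kc xc2 yc45 zc6) (kc xc9 yc0 zc23) (kc xc6 yc22 zc22) (kc xc4 yc33 zc53) (kc xc4 yc33 zc54) (kc xc7 yc59 zc50) (kc xc9 yc44 zc28) (kc xc8 yc9 zc25) (kc xc5 yc57 zc28) (kc xc8 yc59 zc41) (kc xc9 yc44 zc31) (kc xc5 yc57 zc29) (kc xc4 yc56 zc33) (kc xc6 yc15 zc25) (kc xc2 yc26 zc10) (kc xc2 yc26 zc11) (kc xc9 yc44 zc38) (kc xc2 yc26 zc6) (kc xc2 yc26 zc8) (kc xc9 yc44 zc43) (kc xc2 yc26 zc9) (kc xc9 yc44 zc35) (kc xc9 yc44 zc46) (kc xc9 yc44 zc47) (kc xc3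 yc56 zc58) (kc xc5 yc29 zc38) (kc xc3 yc57 zc18) (kc xc2 yc26 zc15) (kc xc8 yc41 zc1) (kc xc9 yc44 zc57) (kc xc9 yc1 zc19) (kc xc2 yc44 zc51) (kc xc2 yc26 zc20) (kc xc9 yc44 zc59) (kc xc2 yc26 zc18) (kc xc9 yc45 zc0) (kc xc5 yc39 zc57) (kc xc2 yc26 zc19) (kc xc2 yc26 zc24) (kc xc9 yc45 zc6) (kc xc4 yc0 zc23)) (@D3.rec (fun _ => Pt) (kc xc2 yc26 zc26) (kc xc7 yc23 zc22) (kc xc2 yc47 zc36) (kc xc9 yc45 zc13) (kc xc4 yc32 zc54) (kc xc9 yc45 zc16) (kc xc8 yc44 zc16) (kc xc2 yc47 zc13) (kc xc9 yc45 zc20) (kc xc2 yc26 zc32) (kc xc9 yc45 zc22) (kc xc2 yc26 zc31) (kc xc9 yc45 zc28) (kc xc9 yc45 zc29) (kc xc6 yc25 zc30) (kc xc4 yc32 zc31) (kc xc8 yc1 zc48) (kc xc2 yc26 zc33) (kc xc9 yc45 zc36) (kc xc9 yc45 zc34) (kc xc9 yc45 zc38) (kc xc2 yc26 zc36) (kc xc2 yc26 zc35) (kc xc9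 yc45 zc42) (kc xc2 yc47 zc58) (kc xc8 yc48 zc58) (kc xc7 yc20 zc34) (kc xc3 yc42 zc40) (kc xc2 yc26 zc37) (kc xc9 yc45 zc48) (kc xc9 yc3 zc31) (kc xc2 yc26 zc38) (kc xc7 yc21 zc17) (kc xc9 yc45 zc56) (kc xc5 yc44 zc10) (kc xc2 yc26 zc44) (kc xc9 yc46 zc3) (kc xc2 yc26 zc41) (kc xc2 yc26 zc42) (kc xc9 yc46 zc11) (kc xc9 yc46 zc14) (kc xc9 yc46 zc8) (kc xc9 yc46 zc9) (kc xc2 yc27 zc16) (kc xc2 yc27 zc28) (kc xc9 yc46 zc25) (kc xc9 yc46 zc27) (kc xc9 yc46 zc29) (kc xc9 yc45 zc61) (kc xc9 yc46 zc1) (kc xc9 yc46 zc35) (kc xc2 yc26 zc48) (kc xc9 yc46 zc37) (kc xc3 yc2 zc55) (kc xc9 yc4 zc58) (kc xc9 yc46 zc42) (kc xc4 yc38 zc39) (kc xc7 yc59 zc4) (kc xc2 yc43 zc17) (kc xc2 yc43 zc18) (kc xc9 yc46 zc53) (kc xc2 yc26 zc50)) (@D3.rec (fun _ => Pt) (kc xc4 yc24 zc38) (kc xc4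 yc24 zc39) (kc xc9 yc47 zc1) (kc xc7 yc57 zc3) (kc xc4 yc58 zc4) (kc xc9 yc47 zc5) (kc xc9 yc47 zc7) (kc xc8 yc48 zc44) (kc xc8 yc48 zc45) (kc xc2 yc26 zc54) (kc xc8 yc47 zc40) (kc xc9 yc47 zc16) (kc xc2 yc26 zc57) (kc xc2 yc26 zc58) (kc xc9 yc47 zc19) (kc xc9 yc47 zc21) (kc xc6 yc15 zc45) (kc xc7 yc59 zc56) (kc xc2 yc26 zc61) (kc xc6 yc10 zc51) (kc xc9 yc47 zc23) (kc xc4 yc37 zc49) (kc xc4 yc37 zc9) (kc xc9 yc15 zc25) (kc xc4 yc37 zc1) (kc xc4 yc37 zc2) (kc xc9 yc47 zc35) (kc xc5 yc13 zc38) (kc xc4 yc48 zc44) (kc xc6 yc25 zc8) (kc xc8 yc48 zc53) (kc xc5 yc57 zc33) (kc xc3 yc0 zc36) (kc xc2 yc55 zc11) (kc xc2 yc27 zc15) (kc xc2 yc27 zc9) (kc xc9 yc47 zc42) (kc xc2 yc54 zc36) (kc xc2 yc55 zc8) (kc xc5 yc55 zc36) (kc xc2 yc56 zc39) (kc xc2 yc27 zc11) (kc xc2 yc27 zc12)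 (kc xc7 yc31 zc27) (kc xc9 yc47 zc60) (kc xc9 yc47 zc56) (kc xc9 yc47 zc57) (kc xc9 yc48 zc1) (kc xc9 yc48 zc3) (kc xc2 yc27 zc14) (kc xc3 yc23 zc44) (kc xc9 yc48 zc7) (kc xc4 yc38 zc45) (kc xc6 yc15 zc46) (kc xc9 yc48 zc9) (kc xc2 yc27 zc21) (kc xc4 yc36 zc14) (kc xc2 yc27 zc20) (kc xc9 yc48 zc14) (kc xc9 yc48 zc20) (kc xc9 yc16 zc32) (kc xc9 yc48 zc25)) (@D3.rec (fun _ => Pt) (kc xc9 yc48 zc13) (kc xc2 yc56 zc38) (kc xc2 yc27 zc25) (kc xc9 yc48 zc34) (kc xc9 yc48 zc38) (kc xc9 yc48 zc33) (kc xc9 yc48 zc40) (kc xc9 yc48 zc42) (kc xc2 yc27 zc27) (kc xc9 yc48 zc47) (kc xc9 yc8 zc0) (kc xc2 yc27 zc29) (kc xc9 yc48 zc51) (kc xc2 yc27 zc30) (kc xc9 yc48 zc53) (kc xc3 yc0 zc35) (kc xc8 yc0 zc20) (kc xc2 yc27 zc32) (kc xc9 yc49 zc0) (kc xc9 yc49 zc1) (kc xc9 yc48 zc60) (kc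 xc3 yc17 zc47) (kc xc2 yc54 zc9) (kc xc2 yc55 zc7) (kc xc3 yc17 zc45) (kc xc2 yc56 zc36) (kc xc2 yc27 zc35) (kc xc9 yc49 zc20) (kc xc9 yc49 zc23) (kc xc9 yc49 zc19) (kc xc9 yc8 zc1) (kc xc2 yc27 zc36) (kc xc9 yc49 zc26) (kc xc9 yc49 zc25) (kc xc2 yc56 zc32) (kc xc2 yc27 zc38) (kc xc9 yc49 zc38) (kc xc2 yc56 zc37) (kc xc9 yc49 zc37) (kc xc7 yc41 zc54) (kc xc2 yc56 zc24) (kc xc5 yc59 zc35) (kc xc4 yc48 zc45) (kc xc2 yc56 zc14) (kc xc4 yc48 zc42) (kc xc2 yc55 zc55) (kc xc2 yc55 zc31) (kc xc9 yc25 zc60) (kc xc2 yc56 zc3) (kc xc6 yc1 zc1) (kc xc5 yc59 zc31) (kc xc9 yc50 zc10) (kc xc2 yc27 zc46) (kc xc2 yc27 zc47) (kc xc9 yc10 zc59) (kc xc2 yc27 zc44) (kc xc3 yc43 zc50) (kc xc9 yc50 zc21) (kc xc9 yc50 zc27) (kc xc2 yc27 zc45) (kc xc7 yc22 zc0) (kc xc4 yc37 zc61))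
def f_c_5 : D2 → D3 → Pt := @D2.rec (fun _ => D3 → Pt) (@D3.rec (fun _ => Pt) (kc xc5 yc4 zc25) (kc xc5 yc4 zc30) (kc xc9 yc50 zc40) (kc xc8 yc44 zc50) (kc xc9 yc50 zc42) (kc xc9 yc50 zc44) (kc xc9 yc50 zc46) (kc xc2 yc27 zc49) (kc xc4 yc5 zc46) (kc xc5 yc38 zc49) (kc xc2 yc27 zc50) (kc xc9 yc50 zc57) (kc xc9 yc50 zc54) (kc xc6 yc3 zc4) (kc xc6 yc3 zc5) (kc xc3 yc13 zc4) (kc xc3 yc19 zc31) (kc xc9 yc50 zc60) (kc xc9 yc24 zc38) (kc xc9 yc51 zc2) (kc xc2 yc27 zc54) (kc xc9 yc17 zc61) (kc xc3 yc21 zc8) (kc xc2 yc27 zc55) (kc xc9 yc14 zc34) (kc xc9 yc51 zc11) (kc xc9 yc14 zc36) (kc xc9 yc50 zc50) (kc xc3 yc3 zc33) (kc xc8 yc43 zc6) (kc xc2 yc27 zc59) (kc xc9 yc51 zc20) (kc xc9 yc51 zc24) (kc xc2 yc28 zc0) (kc xc9 yc51 zc26) (kc xc4 yc2 zc51) (kc xc4 yc2 zc52) (kc xc2 yc36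 zc60) (kc xc2 yc38 zc48) (kc xc8 yc57 zc1) (kc xc9 yc0 zc52) (kc xc2 yc28 zc5) (kc xc4 yc20 zc55) (kc xc9 yc51 zc42) (kc xc5 yc35 zc49) (kc xc9 yc51 zc52) (kc xc2 yc28 zc7) (kc xc2 yc28 zc8) (kc xc9 yc51 zc58) (kc xc2 yc28 zc9) (kc xc9 yc51 zc61) (kc xc2 yc34 zc43) (kc xc4 yc2 zc34) (kc xc4 yc1 zc54) (kc xc5 yc2 zc0) (kc xc2 yc28 zc11) (kc xc9 yc52 zc16) (kc xc9 yc52 zc17) (kc xc5 yc17 zc31) (kc xc5 yc17 zc32) (kc xc2 yc28 zc13) (kc xc9 yc52 zc23)) (@D3.rec (fun _ => Pt) (kc xc9 yc51 zc53) (kc xc2 yc28 zc15) (kc xc9 yc52 zc28) (kc xc2 yc28 zc17) (kc xc9 yc52 zc32) (kc xc2 yc28 zc18) (kc xc9 yc52 zc38) (kc xc5 yc6 zc5) (kc xc5 yc15 zc11) (kc xc9 yc52 zc21) (kc xc5 yc1 zc59) (kc xc2 yc28 zc20) (kc xc8 yc40 zc45) (kc xc9 yc52 zc55) (kc xc9 yc52 zc54) (kc xc5 yc13 zc7)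 (kc xc5 yc13 zc8) (kc xc2 yc28 zc21) (kc xc8 yc42 zc49) (kc xc4 yc21 zc10) (kc xc5 yc21 zc31) (kc xc2 yc28 zc23) (kc xc9 yc53 zc2) (kc xc8 yc14 zc12) (kc xc8 yc42 zc50) (kc xc5 yc1 zc58) (kc xc2 yc28 zc26) (kc xc9 yc53 zc11) (kc xc9 yc53 zc15) (kc xc9 yc53 zc10) (kc xc2 yc28 zc27) (kc xc2 yc28 zc28) (kc xc9 yc24 zc47) (kc xc2 yc36 zc33) (kc xc9 yc53 zc18) (kc xc5 yc1 zc51) (kc xc2 yc28 zc30) (kc xc9 yc53 zc37) (kc xc9 yc53 zc39) (kc xc9 yc53 zc36) (kc xc8 yc52 zc43) (kc xc8 yc52 zc41) (kc xc5 yc1 zc48) (kc xc2 yc28 zc33) (kc xc9 yc53 zc55) (kc xc9 yc53 zc57) (kc xc9 yc53 zc54) (kc xc9 yc53 zc61) (kc xc5 yc1 zc42) (kc xc5 yc19 zc43) (kc xc8 yc17 zc52) (kc xc5 yc1 zc35) (kc xc5 yc19 zc44) (kc xc9 yc54 zc18) (kc xc9 yc54 zc23) (kc xc2 yc29 zc37) (kc xc9 yc54 zc29) (kc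 xc2 yc29 zc39) (kc xc5 yc1 zc25) (kc xc5 yc1 zc10) (kc xc2 yc28 zc37) (kc xc9 yc54 zc38)) (@D3.rec (fun _ => Pt) (kc xc5 yc0 zc54) (kc xc2 yc28 zc39) (kc xc9 yc54 zc47) (kc xc8 yc45 zc6) (kc xc2 yc28 zc40) (kc xc9 yc54 zc53) (kc xc9 yc54 zc57) (kc xc2 yc28 zc41) (kc xc9 yc54 zc60) (kc xc5 yc18 zc60) (kc xc5 yc6 zc3) (kc xc2 yc28 zc51) (kc xc5 yc19 zc49) (kc xc2 yc28 zc43) (kc xc9 yc55 zc18) (kc xc9 yc55 zc20) (kc xc9 yc55 zc16) (kc xc2 yc28 zc44) (kc xc9 yc55 zc24) (kc xc9 yc55 zc22) (kc xc2 yc30 zc11) (kc xc2 yc28 zc46) (kc xc9 yc55 zc38) (kc xc9 yc55 zc39) (kc xc9 yc55 zc36) (kc xc9 yc52 zc36) (kc xc2 yc30 zc9) (kc xc2 yc28 zc48) (kc xc9 yc55 zc49) (kc xc2 yc30 zc43) (kc xc2 yc32 zc56) (kc xc9 yc55 zc58) (kc xc2 yc30 zc44) (kc xc9 yc56 zc0) (kc xc9 yc56 zc4) (kc xc9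 yc55 zc9) (kc xc6 yc11 zc51) (kc xc9 yc55 zc11) (kc xc2 yc31 zc20) (kc xc2 yc32 zc60) (kc xc2 yc32 zc61) (kc xc2 yc28 zc56) (kc xc9 yc56 zc19) (kc xc2 yc28 zc54) (kc xc2 yc28 zc55) (kc xc9 yc56 zc22) (kc xc2 yc28 zc57) (kc xc9 yc56 zc25) (kc xc2 yc28 zc58) (kc xc9 yc56 zc28) (kc xc5 yc12 zc2) (kc xc2 yc28 zc60) (kc xc9 yc56 zc31) (kc xc2 yc28 zc61) (kc xc9 yc56 zc34) (kc xc5 yc15 zc30) (kc xc5 yc5 zc17) (kc xc2 yc29 zc5) (kc xc5 yc21 zc34) (kc xc2 yc29 zc1) (kc xc9 yc56 zc53) (kc xc9 yc56 zc56)) (@D3.rec (fun _ => Pt) (kc xc9 yc56 zc51) (kc xc4 yc13 zc23) (kc xc2 yc29 zc2) (kc xc2 yc29 zc4) (kc xc9 yc56 zc59) (kc xc9 yc57 zc1) (kc xc9 yc56 zc45) (kc xc9 yc57 zc8) (kc xc9 yc56 zc47) (kc xc2 yc31 zc18) (kc xc2 yc33 zc31) (kc xc9 yc31 zc45) (kc xc2 yc29 zc10) (kc xc2 yc29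 zc8) (kc xc5 yc45 zc20) (kc xc5 yc45 zc18) (kc xc2 yc29 zc9) (kc xc2 yc36 zc18) (kc xc2 yc29 zc14) (kc xc5 yc19 zc57) (kc xc2 yc29 zc13) (kc xc9 yc57 zc36) (kc xc9 yc57 zc40) (kc xc9 yc57 zc34) (kc xc9 yc57 zc44) (kc xc9 yc57 zc47) (kc xc9 yc57 zc26) (kc xc3 yc20 zc36) (kc xc9 yc57 zc28) (kc xc2 yc30 zc12) (kc xc2 yc30 zc15) (kc xc2 yc31 zc0) (kc xc2 yc35 zc52) (kc xc2 yc35 zc53) (kc xc9 yc58 zc3) (kc xc2 yc29 zc19) (kc xc9 yc58 zc5) (kc xc2 yc29 zc17) (kc xc9 yc58 zc9) (kc xc2 yc29 zc18) (kc xc5 yc34 zc53) (kc xc9 yc58 zc12) (kc xc2 yc29 zc20) (kc xc9 yc58 zc15) (kc xc4 yc27 zc11) (kc xc2 yc29 zc23) (kc xc5 yc21 zc49) (kc xc2 yc29 zc22) (kc xc9 yc58 zc33) (kc xc9 yc58 zc36) (kc xc9 yc58 zc31) (kc xc9 yc58 zc38) (kc xc9 yc58 zc40) (kc xc9 yc58 zc22) (kc xc9 yc58 zc46)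 (kc xc9 yc58 zc24) (kc xc2 yc30 zc56) (kc xc2 yc35 zc57) (kc xc2 yc35 zc58) (kc xc2 yc29 zc28) (kc xc2 yc29 zc26) (kc xc9 yc58 zc54)) (@D3.rec (fun _ => Pt) (kc xc9 yc58 zc55) (kc xc2 yc29 zc27) (kc xc6 yc40 zc32) (kc xc9 yc58 zc58) (kc xc2 yc29 zc29) (kc xc6 yc40 zc17) (kc xc7 yc7 zc42) (kc xc2 yc30 zc55) (kc xc2 yc30 zc54) (kc xc2 yc30 zc50) (kc xc9 yc59 zc13) (kc xc2 yc34 zc59) (kc xc9 yc59 zc16) (kc xc9 yc59 zc19) (kc xc9 yc59 zc21) (kc xc2 yc29 zc32) (kc xc9 yc27 zc3) (kc xc9 yc59 zc26) (kc xc2 yc30 zc45) (kc xc3 yc9 zc38) (kc xc2 yc35 zc2) (kc xc9 yc54 zc15) (kc xc9 yc59 zc36) (kc xc9 yc59 zc41) (kc xc2 yc29 zc35) (kc xc5 yc0 zc0) (kc xc9 yc59 zc49) (kc xc9 yc59 zc50) (kc xc9 yc59 zc60) (kc xc2 yc29 zc36) (kc xc5 yc0 zc1) (kc xc10 yc0 zc3) (kc xc10 yc0 zc8) (kc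 xc10 yc0 zc11) (kc xc10 yc0 zc13) (kc xc2 yc29 zc38) (kc xc6 yc0 zc18) (kc xc9 yc54 zc32) (kc xc2 yc30 zc35) (kc xc10 yc0 zc26) (kc xc2 yc30 zc19) (kc xc5 yc34 zc55) (kc xc5 yc34 zc52) (kc xc5 yc14 zc51) (kc xc2 yc35 zc10) (kc xc6 yc10 zc26) (kc xc10 yc0 zc37) (kc xc2 yc29 zc44) (kc xc10 yc0 zc40) (kc xc10 yc0 zc41) (kc xc10 yc0 zc43) (kc xc2 yc29 zc45) (kc xc10 yc0 zc45) (kc xc2 yc29 zc46) (kc xc10 yc0 zc51) (kc xc8 yc13 zc21) (kc xc2 yc29 zc47) (kc xc10 yc0 zc58) (kc xc4 yc1 zc45) (kc xc4 yc4 zc32) (kc xc10 yc0 zc44) (kc xc4 yc20 zc32)) (@D3.rec (fun _ => Pt) (kc xc2 yc29 zc49) (kc xc10 yc1 zc12) (kc xc10 yc1 zc14) (kc xc10 yc1 zc11) (kc xc10 yc1 zc1) (kc xc5 yc5 zc9) (kc xc10 yc0 zc60) (kc xc2 yc33 zc2) (kc xc10 yc0 zc57) (kc xc5 yc5 zc5) (kc xc10 yc0 zc50) (kc xc4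 yc5 zc54) (kc xc8 yc14 zc48) (kc xc2 yc30 zc17) (kc xc10 yc1 zc31) (kc xc2 yc29 zc56) (kc xc10 yc1 zc34) (kc xc5 yc2 zc56) (kc xc2 yc29 zc57) (kc xc10 yc1 zc41) (kc xc2 yc29 zc58) (kc xc10 yc1 zc47) (kc xc9 yc39 zc20) (kc xc5 yc10 zc3) (kc xc2 yc30 zc4) (kc xc8 yc11 zc46) (kc xc2 yc29 zc60) (kc xc10 yc2 zc3) (kc xc10 yc2 zc4) (kc xc10 yc2 zc1) (kc xc2 yc29 zc61) (kc xc10 yc2 zc8) (kc xc10 yc2 zc6) (kc xc2 yc30 zc1) (kc xc9 yc55 zc33) (kc xc9 yc55 zc34) (kc xc10 yc2 zc18) (kc xc10 yc2 zc20) (kc xc2 yc30 zc2) (kc xc10 yc2 zc21) (kc xc10 yc2 zc25) (kc xc10 yc2 zc28) (kc xc10 yc1 zc56) (kc xc10 yc1 zc57) (kc xc6 yc17 zc16) (kc xc2 yc30 zc8) (kc xc10 yc2 zc35) (kc xc2 yc30 zc6) (kc xc10 yc2 zc37) (kc xc2 yc30 zc7) (kc xc10 yc2 zc40) (kc xc6 yc38 zc40) (kc xc6 yc39 zc13)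 (kc xc9 yc55 zc32) (kc xc9 yc57 zc57) (kc xc10 yc2 zc48) (kc xc9 yc57 zc59) (kc xc2 yc30 zc16) (kc xc10 yc2 zc53) (kc xc10 yc2 zc52) (kc xc2 yc30 zc18) (kc xc10 yc2 zc57)) (@D3.rec (fun _ => Pt) (kc xc10 yc3 zc0) (kc xc10 yc3 zc4) (kc xc10 yc0 zc30) (kc xc5 yc2 zc10) (kc xc2 yc30 zc20) (kc xc5 yc1 zc7) (kc xc2 yc30 zc21) (kc xc10 yc3 zc10) (kc xc5 yc8 zc43) (kc xc5 yc8 zc44) (kc xc2 yc30 zc25) (kc xc9 yc39 zc36) (kc xc2 yc30 zc23) (kc xc10 yc3 zc28) (kc xc10 yc3 zc31) (kc xc10 yc3 zc26) (kc xc2 yc30 zc24) (kc xc10 yc3 zc36) (kc xc10 yc3 zc40) (kc xc10 yc3 zc20) (kc xc10 yc3 zc22) (kc xc2 yc30 zc29) (kc xc10 yc3 zc48) (kc xc2 yc30 zc27) (kc xc9 yc0 zc25) (kc xc9 yc0 zc22) (kc xc2 yc30 zc28) (kc xc10 yc3 zc33) (kc xc2 yc33 zc50) (kc xc2 yc44 zc36) (kc xc3 yc0 zc10) (kc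 xc6 yc7 zc53) (kc xc3 yc6 zc57) (kc xc6 yc12 zc23) (kc xc2 yc30 zc34) (kc xc6 yc30 zc29) (kc xc10 yc3 zc58) (kc xc10 yc3 zc61) (kc xc10 yc0 zc25) (kc xc6 yc50 zc42) (kc xc2 yc30 zc37) (kc xc10 yc4 zc4) (kc xc10 yc4 zc9) (kc xc2 yc30 zc42) (kc xc10 yc4 zc11) (kc xc10 yc4 zc13) (kc xc2 yc30 zc39) (kc xc10 yc4 zc18) (kc xc10 yc4 zc21) (kc xc2 yc30 zc41) (kc xc10 yc4 zc23) (kc xc10 yc4 zc27) (kc xc9 yc55 zc52) (kc xc10 yc4 zc31) (kc xc9 yc55 zc60) (kc xc3 yc22 zc12) (kc xc9 yc32 zc39) (kc xc5 yc7 zc36) (kc xc3 yc23 zc53) (kc xc9 yc27 zc33) (kc xc10 yc4 zc38) (kc xc4 yc43 zc14)) (@D3.rec (fun _ => Pt) (kc xc10 yc4 zc42) (kc xc3 yc18 zc10) (kc xc2 yc30 zc51) (kc xc10 yc4 zc45) (kc xc6 yc31 zc51) (kc xc2 yc30 zc52) (kc xc10 yc4 zc49) (kc xc9 yc59 zc7) (kc xc10 yc4 zc55) (kc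 xc9 yc59 zc5) (kc xc6 yc21 zc20) (kc xc6 yc48 zc1) (kc xc8 yc50 zc21) (kc xc2 yc30 zc57) (kc xc10 yc5 zc1) (kc xc2 yc30 zc58) (kc xc10 yc5 zc4) (kc xc5 yc53 zc53) (kc xc4 yc5 zc40) (kc xc10 yc5 zc7) (kc xc5 yc48 zc57) (kc xc10 yc5 zc10) (kc xc2 yc30 zc60) (kc xc3 yc20 zc33) (kc xc10 yc5 zc14) (kc xc10 yc5 zc15) (kc xc9 yc59 zc8) (kc xc9 yc59 zc9) (kc xc6 yc46 zc32) (kc xc9 yc19 zc61) (kc xc10 yc5 zc21) (kc xc4 yc20 zc10) (kc xc2 yc31 zc3) (kc xc10 yc5 zc26) (kc xc5 yc42 zc47) (kc xc4 yc20 zc11) (kc xc5 yc6 zc57) (kc xc10 yc5 zc31) (kc xc2 yc31 zc6) (kc xc2 yc31 zc7) (kc xc2 yc31 zc5) (kc xc10 yc5 zc37) (kc xc10 yc5 zc38) (kc xc10 yc5 zc43) (kc xc2 yc31 zc8) (kc xc10 yc5 zc45) (kc xc10 yc5 zc47) (kc xc2 yc31 zc10) (kc xc10 yc5 zc50) (kc xc10 yc5 zc53) (kc xc2 yc31 zc11)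 (kc xc10 yc5 zc59) (kc xc10 yc6 zc2) (kc xc2 yc31 zc12) (kc xc10 yc6 zc8) (kc xc10 yc6 zc12) (kc xc2 yc31 zc13) (kc xc10 yc6 zc15) (kc xc10 yc6 zc19) (kc xc9 yc5 zc48) (kc xc2 yc31 zc21) (kc xc10 yc6 zc31)) (@D3.rec (fun _ => Pt) (kc xc2 yc31 zc15) (kc xc2 yc31 zc16) (kc xc9 yc20 zc44) (kc xc6 yc36 zc54) (kc xc10 yc6 zc37) (kc xc10 yc6 zc38) (kc xc2 yc31 zc17) (kc xc10 yc6 zc45) (kc xc10 yc0 zc28) (kc xc10 yc0 zc29) (kc xc9 yc57 zc16) (kc xc10 yc6 zc53) (kc xc2 yc31 zc19) (kc xc10 yc6 zc57) (kc xc10 yc0 zc23) (kc xc10 yc0 zc24) (kc xc9 yc56 zc15) (kc xc10 yc7 zc2) (kc xc10 yc7 zc5) (kc xc10 yc6 zc27) (kc xc6 yc34 zc51) (kc xc7 yc27 zc8) (kc xc6 yc20 zc13) (kc xc4 yc36 zc49) (kc xc6 yc20 zc18) (kc xc5 yc11 zc51) (kc xc5 yc16 zc51) (kc xc5 yc16 zc52) (kc xc5 yc15 zc23)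 (kc xc5 yc15 zc24) (kc xc2 yc31 zc27) (kc xc10 yc7 zc23) (kc xc2 yc31 zc29) (kc xc10 yc7 zc29) (kc xc2 yc31 zc30) (kc xc4 yc1 zc58) (kc xc4 yc1 zc59) (kc xc10 yc7 zc21) (kc xc4 yc1 zc35) (kc xc2 yc31 zc32) (kc xc10 yc7 zc51) (kc xc10 yc7 zc52) (kc xc10 yc7 zc50) (kc xc5 yc6 zc8) (kc xc5 yc6 zc9) (kc xc2 yc31 zc33) (kc xc10 yc7 zc55) (kc xc6 yc4 zc38) (kc xc8 yc44 zc1) (kc xc4 yc1 zc34) (kc xc2 yc31 zc36) (kc xc10 yc8 zc6) (kc xc10 yc8 zc8) (kc xc10 yc8 zc11) (kc xc10 yc8 zc5) (kc xc2 yc31 zc37) (kc xc2 yc31 zc38) (kc xc10 yc8 zc16) (kc xc10 yc8 zc14) (kc xc4 yc1 zc31) (kc xc2 yc31 zc40) (kc xc10 yc8 zc32)) (@D3.rec (fun _ => Pt) (kc xc10 yc8 zc34) (kc xc10 yc8 zc31) (kc xc5 yc20 zc5) (kc xc5 yc20 zc3) (kc xc4 yc1 zc29) (kc xc2 yc31 zc43) (kc xc10 yc8 zc47) (kc xc10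 yc8 zc49) (kc xc10 yc8 zc46) (kc xc9 yc40 zc18) (kc xc4 yc1 zc26) (kc xc4 yc2 zc27) (kc xc8 yc30 zc44) (kc xc4 yc1 zc24) (kc xc4 yc2 zc28) (kc xc10 yc9 zc5) (kc xc10 yc9 zc10) (kc xc2 yc32 zc43) (kc xc10 yc9 zc16) (kc xc2 yc32 zc45) (kc xc4 yc1 zc22) (kc xc4 yc1 zc17) (kc xc8 yc5 zc24) (kc xc2 yc31 zc49) (kc xc10 yc9 zc30) (kc xc10 yc9 zc33) (kc xc8 yc53 zc54) (kc xc2 yc31 zc51) (kc xc10 yc9 zc39) (kc xc2 yc31 zc52) (kc xc10 yc9 zc42) (kc xc10 yc9 zc44) (kc xc2 yc31 zc53) (kc xc2 yc31 zc54) (kc xc10 yc9 zc50) (kc xc10 yc9 zc54) (kc xc2 yc31 zc55) (kc xc10 yc9 zc58) (kc xc5 yc12 zc38) (kc xc5 yc13 zc3) (kc xc2 yc32 zc0) (kc xc10 yc10 zc7) (kc xc2 yc31 zc57) (kc xc10 yc10 zc14) (kc xc10 yc10 zc16) (kc xc10 yc10 zc12) (kc xc2 yc31 zc58) (kc xc10 yc10 zc19) (kc xc10 yc10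 zc18) (kc xc2 yc31 zc60) (kc xc10 yc2 zc16) (kc xc10 yc2 zc17) (kc xc10 yc10 zc28) (kc xc10 yc7 zc33) (kc xc10 yc10 zc34) (kc xc10 yc10 zc37) (kc xc10 yc10 zc3) (kc xc10 yc10 zc42) (kc xc10 yc10 zc5) (kc xc2 yc34 zc9) (kc xc2 yc32 zc5) (kc xc10 yc10 zc48)) (@D3.rec (fun _ => Pt) (kc xc2 yc32 zc3) (kc xc2 yc32 zc4) (kc xc10 yc10 zc51) (kc xc5 yc5 zc23) (kc xc2 yc32 zc6) (kc xc2 yc32 zc7) (kc xc10 yc10 zc56) (kc xc5 yc17 zc38) (kc xc5 yc11 zc58) (kc xc2 yc32 zc11) (kc xc5 yc19 zc16) (kc xc2 yc32 zc9) (kc xc10 yc11 zc9) (kc xc10 yc11 zc12) (kc xc10 yc11 zc8) (kc xc2 yc32 zc10) (kc xc10 yc11 zc16) (kc xc10 yc11 zc19) (kc xc10 yc11 zc2) (kc xc3 yc2 zc30) (kc xc10 yc11 zc4) (kc xc2 yc34 zc7) (kc xc2 yc32 zc16) (kc xc2 yc32 zc14) (kc xc9 yc4 zc37) (kc xc9 yc4 zc35) (kc xc2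 yc32 zc15) (kc xc10 yc11 zc13) (kc xc2 yc32 zc18) (kc xc10 yc11 zc34) (kc xc2 yc37 zc18) (kc xc2 yc32 zc21) (kc xc8 yc53 zc56) (kc xc2 yc32 zc20) (kc xc10 yc11 zc51) (kc xc10 yc11 zc54) (kc xc10 yc11 zc49) (kc xc10 yc11 zc57) (kc xc10 yc11 zc60) (kc xc10 yc11 zc42) (kc xc9 yc7 zc41) (kc xc10 yc11 zc44) (kc xc2 yc34 zc0) (kc xc2 yc34 zc57) (kc xc2 yc34 zc58) (kc xc10 yc12 zc10) (kc xc2 yc32 zc26) (kc xc10 yc12 zc12) (kc xc2 yc32 zc24) (kc xc10 yc12 zc16) (kc xc2 yc32 zc25) (kc xc10 yc12 zc19) (kc xc2 yc36 zc13) (kc xc2 yc32 zc29) (kc xc5 yc19 zc22) (kc xc2 yc32 zc28) (kc xc10 yc12 zc32) (kc xc10 yc12 zc35) (kc xc10 yc12 zc30) (kc xc9 yc40 zc27) (kc xc10 yc12 zc38) (kc xc10 yc12 zc23)) (@D3.rec (fun _ => Pt) (kc xc6 yc44 zc61) (kc xc10 yc12 zc25) (kc xc2 yc33 zc57) (kc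 xc2 yc35 zc0) (kc xc2 yc35 zc1) (kc xc2 yc32 zc34) (kc xc2 yc32 zc32) (kc xc10 yc12 zc48) (kc xc10 yc12 zc49) (kc xc2 yc32 zc33) (kc xc10 yc12 zc52) (kc xc10 yc12 zc56) (kc xc10 yc12 zc58) (kc xc2 yc32 zc35) (kc xc10 yc13 zc2) (kc xc10 yc13 zc1) (kc xc2 yc33 zc49) (kc xc9 yc50 zc56) (kc xc2 yc35 zc54) (kc xc10 yc13 zc11) (kc xc10 yc13 zc13) (kc xc10 yc13 zc15) (kc xc2 yc32 zc38) (kc xc3 yc22 zc43) (kc xc10 yc13 zc20) (kc xc2 yc33 zc41) (kc xc3 yc35 zc23) (kc xc2 yc35 zc59) (kc xc10 yc9 zc2) (kc xc10 yc13 zc28) (kc xc10 yc13 zc33) (kc xc2 yc32 zc41) (kc xc10 yc13 zc44) (kc xc10 yc13 zc41) (kc xc10 yc13 zc42) (kc xc10 yc13 zc53) (kc xc2 yc32 zc42) (kc xc10 yc13 zc59) (kc xc10 yc13 zc58) (kc xc10 yc14 zc2) (kc xc10 yc14 zc5) (kc xc10 yc14 zc8) (kc xc2 yc32 zc44) (kc xc10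 yc14 zc13) (kc xc10 yc9 zc18) (kc xc10 yc14 zc20) (kc xc2 yc33 zc37) (kc xc3 yc45 zc20) (kc xc2 yc33 zc8) (kc xc5 yc55 zc27) (kc xc5 yc55 zc28) (kc xc5 yc8 zc25) (kc xc2 yc36 zc5) (kc xc3 yc1 zc53) (kc xc10 yc14 zc37) (kc xc2 yc32 zc50) (kc xc6 yc29 zc4) (kc xc9 yc43 zc9) (kc xc5 yc10 zc8) (kc xc2 yc32 zc51) (kc xc10 yc14 zc44) (kc xc2 yc32 zc52)) (@D3.rec (fun _ => Pt) (kc xc4 yc23 zc20) (kc xc8 yc3 zc56) (kc xc5 yc2 zc50) (kc xc2 yc32 zc58) (kc xc9 yc40 zc8) (kc xc2 yc32 zc54) (kc xc10 yc15 zc2) (kc xc10 yc15 zc3) (kc xc10 yc15 zc0) (kc xc2 yc32 zc55) (kc xc4 yc46 zc7) (kc xc10 yc10 zc26) (kc xc10 yc10 zc27) (kc xc9 yc55 zc54) (kc xc9 yc52 zc20) (kc xc2 yc32 zc57) (kc xc10 yc15 zc11) (kc xc10 yc15 zc14) (kc xc10 yc14 zc55) (kc xc10 yc14 zc57) (kc xc6 yc12 zc55) (kc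 xc2 yc33 zc0) (kc xc7 yc32 zc37) (kc xc10 yc15 zc21) (kc xc9 yc56 zc18) (kc xc8 yc12 zc18) (kc xc4 yc4 zc53) (kc xc2 yc33 zc3) (kc xc3 yc0 zc12) (kc xc5 yc47 zc61) (kc xc6 yc19 zc3) (kc xc9 yc57 zc13) (kc xc9 yc57 zc14) (kc xc10 yc14 zc29) (kc xc8 yc11 zc10) (kc xc8 yc11 zc9) (kc xc2 yc33 zc9) (kc xc10 yc15 zc37) (kc xc5 yc9 zc38) (kc xc2 yc33 zc11) (kc xc10 yc15 zc42) (kc xc2 yc33 zc12) (kc xc10 yc15 zc45) (kc xc2 yc59 zc45) (kc xc10 yc15 zc35) (kc xc4 yc20 zc5) (kc xc2 yc33 zc14) (kc xc10 yc15 zc59) (kc xc9 yc0 zc43) (kc xc10 yc16 zc2) (kc xc10 yc15 zc58) (kc xc2 yc33 zc15) (kc xc10 yc4 zc15) (kc xc5 yc12 zc56) (kc xc10 yc4 zc16) (kc xc2 yc33 zc18) (kc xc5 yc12 zc53) (kc xc3 yc3 zc41) (kc xc8 yc12 zc16) (kc xc8 yc12 zc26) (kc xc10 yc16 zc15) (kc xc4 yc20 zc50)) (@D3.rec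 (fun _ => Pt) (kc xc2 yc33 zc22) (kc xc10 yc16 zc20) (kc xc10 yc8 zc25) (kc xc5 yc9 zc39) (kc xc2 yc33 zc24) (kc xc2 yc33 zc25) (kc xc10 yc16 zc29) (kc xc5 yc1 zc15) (kc xc5 yc1 zc16) (kc xc2 yc33 zc29) (kc xc10 yc16 zc44) (kc xc2 yc33 zc27) (kc xc4 yc23 zc25) (kc xc10 yc16 zc48) (kc xc9 yc3 zc5) (kc xc2 yc33 zc28) (kc xc10 yc16 zc53) (kc xc10 yc16 zc56) (kc xc10 yc16 zc40) (kc xc8 yc43 zc55) (kc xc4 yc56 zc16) (kc xc2 yc33 zc33) (kc xc10 yc17 zc3) (kc xc5 yc38 zc32) (kc xc5 yc38 zc30) (kc xc2 yc33 zc32) (kc xc10 yc16 zc50) (kc xc2 yc33 zc35) (kc xc2 yc33 zc36) (kc xc10 yc17 zc13) (kc xc9 yc56 zc13) (kc xc9 yc56 zc14) (kc xc10 yc14 zc24) (kc xc6 yc45 zc0) (kc xc6 yc50 zc46) (kc xc4 yc50 zc18) (kc xc6 yc40 zc16) (kc xc4 yc20 zc40) (kc xc4 yc58 zc27) (kc xc2 yc33 zc46)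 (kc xc10 yc17 zc30) (kc xc2 yc33 zc48) (kc xc2 yc33 zc44) (kc xc10 yc17 zc34) (kc xc10 yc7 zc36) (kc xc4 yc46 zc61) (kc xc2 yc33 zc47) (kc xc10 yc17 zc43) (kc xc10 yc17 zc48) (kc xc9 yc20 zc1) (kc xc10 yc3 zc53) (kc xc6 yc40 zc14) (kc xc2 yc33 zc58) (kc xc2 yc33 zc51) (kc xc5 yc51 zc48) (kc xc5 yc55 zc30) (kc xc2 yc33 zc52) (kc xc5 yc51 zc43) (kc xc2 yc33 zc53) (kc xc10 yc17 zc59) (kc xc7 yc14 zc7) (kc xc10 yc18 zc0)) (@D3.rec (fun _ => Pt) (kc xc2 yc33 zc56) (kc xc6 yc25 zc52) (kc xc10 yc18 zc3) (kc xc2 yc33 zc55) (kc xc10 yc18 zc7) (kc xc7 yc33 zc47) (kc xc7 yc33 zc46) (kc xc6 yc23 zc22) (kc xc10 yc13 zc25) (kc xc9 yc32 zc58) (kc xc5 yc54 zc50) (kc xc6 yc8 zc2) (kc xc6 yc50 zc45) (kc xc2 yc55 zc23) (kc xc7 yc27 zc27) (kc xc10 yc18 zc18) (kc xc2 yc33 zc60) (kc xc5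 yc58 zc2) (kc xc6 yc40 zc13) (kc xc6 yc37 zc30) (kc xc3 yc21 zc26) (kc xc10 yc12 zc6) (kc xc5 yc53 zc28) (kc xc2 yc53 zc33) (kc xc2 yc34 zc2) (kc xc10 yc18 zc25) (kc xc9 yc32 zc33) (kc xc2 yc34 zc10) (kc xc2 yc34 zc5) (kc xc4 yc34 zc43) (kc xc9 yc13 zc37) (kc xc10 yc18 zc34) (kc xc2 yc34 zc6) (kc xc10 yc18 zc37) (kc xc10 yc14 zc26) (kc xc10 yc14 zc27) (kc xc10 yc11 zc27) (kc xc10 yc18 zc45) (kc xc2 yc34 zc8) (kc xc10 yc18 zc48) (kc xc10 yc14 zc22) (kc xc10 yc14 zc23) (kc xc10 yc10 zc47) (kc xc10 yc18 zc55) (kc xc10 yc18 zc58) (kc xc10 yc18 zc31) (kc xc5 yc57 zc42) (kc xc2 yc34 zc14) (kc xc9 yc10 zc2) (kc xc6 yc31 zc34) (kc xc6 yc47 zc55) (kc xc5 yc4 zc43) (kc xc5 yc18 zc55) (kc xc5 yc18 zc56) (kc xc2 yc34 zc16) (kc xc8 yc39 zc11) (kc xc10 yc19 zc16) (kc xc2 yc34 zc18)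 (kc xc4 yc15 zc32) (kc xc4 yc13 zc51) (kc xc10 yc19 zc17) (kc xc8 yc30 zc31)) (@D3.rec (fun _ => Pt) (kc xc10 yc19 zc28) (kc xc2 yc34 zc22) (kc xc2 yc34 zc23) (kc xc10 yc19 zc34) (kc xc2 yc34 zc24) (kc xc10 yc19 zc37) (kc xc4 yc13 zc46) (kc xc5 yc17 zc7) (kc xc8 yc29 zc4) (kc xc2 yc34 zc26) (kc xc10 yc19 zc50) (kc xc5 yc1 zc8) (kc xc2 yc34 zc27) (kc xc10 yc19 zc52) (kc xc2 yc38 zc18) (kc xc5 yc26 zc23) (kc xc5 yc25 zc53) (kc xc5 yc25 zc54) (kc xc2 yc34 zc30) (kc xc10 yc19 zc59) (kc xc4 yc14 zc8) (kc xc2 yc34 zc32) (kc xc9 yc22 zc58) (kc xc5 yc8 zc28) (kc xc5 yc8 zc29) (kc xc10 yc19 zc51) (kc xc8 yc29 zc2) (kc xc2 yc34 zc34) (kc xc10 yc20 zc16) (kc xc10 yc20 zc15) (kc xc5 yc2 zc55) (kc xc2 yc34 zc35) (kc xc10 yc20 zc20) (kc xc10 yc3 zc32) (kc xc2 yc34 zc38) (kc xc10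 yc20 zc25) (kc xc10 yc20 zc29) (kc xc10 yc20 zc18) (kc xc8 yc29 zc1) (kc xc2 yc34 zc41) (kc xc10 yc20 zc40) (kc xc10 yc20 zc42) (kc xc10 yc20 zc39) (kc xc2 yc34 zc42) (kc xc9 yc52 zc4) (kc xc4 yc13 zc41) (kc xc9 yc52 zc2) (kc xc8 yc28 zc56) (kc xc2 yc34 zc45) (kc xc10 yc20 zc61) (kc xc10 yc21 zc1) (kc xc10 yc20 zc60) (kc xc2 yc34 zc46) (kc xc10 yc21 zc5) (kc xc10 yc21 zc3) (kc xc8 yc28 zc53) (kc xc2 yc34 zc48) (kc xc10 yc21 zc19) (kc xc10 yc21 zc21) (kc xc10 yc21 zc18) (kc xc5 yc20 zc0) (kc xc6 yc6 zc19)) (@D3.rec (fun _ => Pt) (kc xc8 yc26 zc11) (kc xc8 yc4 zc16) (kc xc8 yc28 zc47) (kc xc8 yc4 zc15) (kc xc9 yc59 zc40) (kc xc9 yc59 zc44) (kc xc2 yc35 zc5) (kc xc10 yc21 zc49) (kc xc2 yc35 zc7) (kc xc6 yc5 zc49) (kc xc8 yc28 zc41) (kc xc2 yc34 zc52) (kc xc10 yc21 zc57)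 (kc xc4 yc15 zc16) (kc xc2 yc34 zc54) (kc xc10 yc22 zc3) (kc xc10 yc22 zc7) (kc xc8 yc26 zc15) (kc xc8 yc11 zc43) (kc xc2 yc34 zc56) (kc xc10 yc22 zc16) (kc xc10 yc22 zc18) (kc xc10 yc22 zc14) (kc xc10 yc22 zc21) (kc xc10 yc22 zc23) (kc xc9 yc43 zc7) (kc xc4 yc54 zc19) (kc xc9 yc39 zc40) (kc xc2 yc34 zc61) (kc xc10 yc22 zc32) (kc xc10 yc22 zc34) (kc xc10 yc22 zc30) (kc xc9 yc43 zc10) (kc xc7 yc32 zc42) (kc xc10 yc21 zc39) (kc xc10 yc22 zc36) (kc xc10 yc9 zc3) (kc xc2 yc35 zc3) (kc xc6 yc40 zc48) (kc xc10 yc22 zc45) (kc xc10 yc22 zc46) (kc xc10 yc22 zc55) (kc xc2 yc35 zc4) (kc xc6 yc36 zc13) (kc xc10 yc22 zc59) (kc xc10 yc23 zc2) (kc xc10 yc23 zc5) (kc xc10 yc23 zc7) (kc xc2 yc35 zc6) (kc xc10 yc23 zc11) (kc xc10 yc21 zc52) (kc xc5 yc8 zc26) (kc xc5 yc8 zc27) (kc xc10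 yc23 zc20) (kc xc6 yc29 zc11) (kc xc2 yc35 zc11) (kc xc5 yc24 zc57) (kc xc3 yc58 zc27) (kc xc10 yc23 zc22) (kc xc4 yc9 zc56) (kc xc4 yc8 zc2) (kc xc2 yc35 zc13)) (@D3.rec (fun _ => Pt) (kc xc6 yc5 zc59) (kc xc2 yc35 zc15) (kc xc2 yc35 zc16) (kc xc10 yc23 zc44) (kc xc2 yc35 zc17) (kc xc9 yc24 zc52) (kc xc4 yc7 zc55) (kc xc5 yc15 zc7) (kc xc10 yc23 zc58) (kc xc2 yc35 zc19) (kc xc10 yc23 zc61) (kc xc2 yc35 zc20) (kc xc4 yc8 zc23) (kc xc6 yc5 zc28) (kc xc6 yc5 zc29) (kc xc2 yc35 zc22) (kc xc10 yc24 zc5) (kc xc10 yc16 zc49) (kc xc4 yc10 zc8) (kc xc2 yc35 zc25) (kc xc10 yc24 zc11) (kc xc9 yc25 zc39) (kc xc8 yc15 zc24) (kc xc5 yc20 zc20) (kc xc8 yc15 zc27) (kc xc4 yc19 zc60) (kc xc10 yc23 zc60) (kc xc2 yc35 zc30) (kc xc10 yc24 zc28) (kc xc2 yc35 zc31) (kc xc10 yc24 zc33) (kc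 xc5 yc0 zc58) (kc xc5 yc0 zc59) (kc xc8 yc4 zc37) (kc xc8 yc15 zc57) (kc xc2 yc35 zc33) (kc xc10 yc24 zc53) (kc xc10 yc24 zc52) (kc xc5 yc10 zc7) (kc xc2 yc35 zc34) (kc xc10 yc24 zc56) (kc xc8 yc13 zc20) (kc xc10 yc24 zc55) (kc xc6 yc5 zc31) (kc xc2 yc35 zc37) (kc xc10 yc25 zc8) (kc xc10 yc25 zc10) (kc xc10 yc25 zc7) (kc xc2 yc35 zc38) (kc xc4 yc7 zc36) (kc xc8 yc4 zc21) (kc xc8 yc16 zc0) (kc xc2 yc35 zc40) (kc xc10 yc25 zc24) (kc xc10 yc25 zc26) (kc xc9 yc20 zc50) (kc xc9 yc40 zc23) (kc xc9 yc40 zc21) (kc xc6 yc5 zc61) (kc xc2 yc35 zc43) (kc xc10 yc25 zc41) (kc xc10 yc25 zc43)) (@D3.rec (fun _ => Pt) (kc xc10 yc25 zc40) (kc xc8 yc52 zc38) (kc xc8 yc15 zc26) (kc xc8 yc15 zc6) (kc xc9 yc34 zc42) (kc xc8 yc15 zc23) (kc xc8 yc15 zc7) (kc xc10 yc13 zc32) (kc xc10 yc13 zc36)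 (kc xc2 yc36 zc0) (kc xc10 yc26 zc2) (kc xc2 yc36 zc2) (kc xc8 yc15 zc34) (kc xc8 yc15 zc33) (kc xc2 yc35 zc47) (kc xc10 yc26 zc11) (kc xc10 yc23 zc38) (kc xc2 yc35 zc49) (kc xc10 yc26 zc19) (kc xc10 yc26 zc23) (kc xc4 yc54 zc4) (kc xc9 yc40 zc13) (kc xc2 yc35 zc51) (kc xc10 yc26 zc33) (kc xc8 yc44 zc37) (kc xc10 yc26 zc31) (kc xc10 yc26 zc37) (kc xc10 yc26 zc39) (kc xc4 yc55 zc43) (kc xc4 yc13 zc42) (kc xc4 yc53 zc61) (kc xc10 yc26 zc43) (kc xc2 yc35 zc56) (kc xc8 yc44 zc40) (kc xc10 yc26 zc50) (kc xc10 yc26 zc48) (kc xc9 yc58 zc51) (kc xc10 yc26 zc51) (kc xc10 yc25 zc53) (kc xc10 yc26 zc54) (kc xc9 yc54 zc16) (kc xc2 yc35 zc60) (kc xc10 yc27 zc4) (kc xc10 yc27 zc1) (kc xc10 yc27 zc2) (kc xc10 yc27 zc13) (kc xc2 yc35 zc61) (kc xc10 yc27 zc19) (kc xc10 yc27 zc18) (kc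 xc10 yc27 zc24) (kc xc10 yc27 zc27) (kc xc10 yc27 zc30) (kc xc2 yc36 zc1) (kc xc10 yc27 zc35) (kc xc10 yc26 zc5) (kc xc5 yc14 zc52) (kc xc5 yc14 zc53) (kc xc4 yc43 zc46) (kc xc10 yc27 zc47) (kc xc10 yc27 zc49) (kc xc5 yc2 zc9) (kc xc2 yc36 zc6)) (@D3.rec (fun _ => Pt) (kc xc10 yc27 zc52) (kc xc2 yc36 zc8) (kc xc10 yc27 zc57) (kc xc8 yc36 zc33) (kc xc9 yc39 zc47) (kc xc9 yc39 zc50) (kc xc2 yc36 zc26) (kc xc10 yc12 zc20) (kc xc2 yc36 zc14) (kc xc10 yc28 zc4) (kc xc7 yc56 zc7) (kc xc9 yc40 zc20) (kc xc8 yc5 zc44) (kc xc5 yc19 zc36) (kc xc9 yc57 zc23) (kc xc8 yc52 zc5) (kc xc5 yc10 zc10) (kc xc2 yc36 zc20) (kc xc10 yc28 zc24) (kc xc10 yc28 zc25) (kc xc10 yc28 zc23) (kc xc8 yc52 zc9) (kc xc5 yc10 zc54) (kc xc2 yc36 zc23) (kc xc10 yc28 zc37) (kc xc10 yc28 zc39) (kc xc10 yc28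 zc42) (kc xc10 yc28 zc36) (kc xc8 yc4 zc10) (kc xc9 yc40 zc22) (kc xc8 yc4 zc9) (kc xc10 yc19 zc40) (kc xc9 yc40 zc19) (kc xc9 yc40 zc3) (kc xc9 yc39 zc56) (kc xc9 yc39 zc57) (kc xc5 yc19 zc13) (kc xc9 yc40 zc30) (kc xc9 yc40 zc29) (kc xc2 yc36 zc27) (kc xc10 yc29 zc6) (kc xc2 yc36 zc29) (kc xc10 yc29 zc12) (kc xc5 yc1 zc49) (kc xc5 yc1 zc52) (kc xc2 yc36 zc43) (kc xc9 yc52 zc50) (kc xc9 yc53 zc24) (kc xc8 yc52 zc29) (kc xc5 yc2 zc12) (kc xc2 yc36 zc35) (kc xc10 yc29 zc34) (kc xc10 yc29 zc37) (kc xc10 yc29 zc33) (kc xc2 yc36 zc37) (kc xc10 yc29 zc41) (kc xc8 yc52 zc32) (kc xc5 yc3 zc19) (kc xc2 yc36 zc40) (kc xc10 yc29 zc52) (kc xc10 yc29 zc54) (kc xc10 yc29 zc51)) (@D3.rec (fun _ => Pt) (kc xc5 yc15 zc60) (kc xc9 yc39 zc49) (kc xc9 yc39 zc31) (kc xc5 yc9 zc3) (kc xc9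 yc39 zc46) (kc xc5 yc9 zc2) (kc xc10 yc30 zc10) (kc xc10 yc30 zc15) (kc xc10 yc29 zc22) (kc xc10 yc30 zc18) (kc xc9 yc53 zc23) (kc xc2 yc36 zc44) (kc xc10 yc30 zc22) (kc xc2 yc36 zc46) (kc xc10 yc30 zc27) (kc xc2 yc36 zc47) (kc xc10 yc30 zc31) (kc xc2 yc36 zc48) (kc xc10 yc30 zc34) (kc xc4 yc6 zc32) (kc xc5 yc17 zc23) (kc xc6 yc4 zc30) (kc xc10 yc10 zc6) (kc xc2 yc36 zc50) (kc xc10 yc30 zc52) (kc xc2 yc36 zc51) (kc xc10 yc30 zc54) (kc xc2 yc36 zc53) (kc xc4 yc54 zc49) (kc xc4 yc4 zc22) (kc xc10 yc30 zc53) (kc xc9 yc40 zc59) (kc xc2 yc36 zc55) (kc xc10 yc31 zc9) (kc xc10 yc31 zc8) (kc xc2 yc36 zc56) (kc xc10 yc31 zc12) (kc xc5 yc23 zc33) (kc xc5 yc22 zc20) (kc xc2 yc36 zc59) (kc xc10 yc31 zc24) (kc xc10 yc31 zc23) (kc xc9 yc51 zc31) (kc xc4 yc54 zc48) (kc xc9 yc51 zc29)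 (kc xc9 yc40 zc52) (kc xc2 yc37 zc1) (kc xc10 yc31 zc40) (kc xc10 yc31 zc39) (kc xc4 yc55 zc39) (kc xc4 yc55 zc37) (kc xc5 yc24 zc1) (kc xc2 yc37 zc4) (kc xc10 yc31 zc53) (kc xc10 yc31 zc52) (kc xc7 yc58 zc12) (kc xc9 yc40 zc47) (kc xc7 yc58 zc10) (kc xc8 yc6 zc17) (kc xc2 yc37 zc6) (kc xc9 yc40 zc43) (kc xc10 yc32 zc2)) (@D3.rec (fun _ => Pt) (kc xc10 yc32 zc7) (kc xc10 yc32 zc11) (kc xc8 yc53 zc9) (kc xc10 yc21 zc20) (kc xc8 yc53 zc11) (kc xc9 yc40 zc40) (kc xc9 yc40 zc37) (kc xc9 yc43 zc19) (kc xc2 yc37 zc10) (kc xc10 yc32 zc26) (kc xc10 yc32 zc29) (kc xc4 yc50 zc53) (kc xc4 yc51 zc39) (kc xc8 yc39 zc49) (kc xc7 yc58 zc40) (kc xc8 yc31 zc57) (kc xc3 yc57 zc7) (kc xc10 yc32 zc52) (kc xc2 yc37 zc13) (kc xc2 yc37 zc14) (kc xc10 yc32 zc58) (kc xc2 yc37 zc16) (kc xc10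 yc33 zc0) (kc xc4 yc2 zc39) (kc xc10 yc30 zc51) (kc xc10 yc11 zc39) (kc xc2 yc37 zc19) (kc xc10 yc33 zc9) (kc xc2 yc37 zc21) (kc xc10 yc33 zc15) (kc xc2 yc37 zc22) (kc xc5 yc1 zc20) (kc xc8 yc13 zc10) (kc xc10 yc33 zc8) (kc xc5 yc2 zc58) (kc xc2 yc37 zc24) (kc xc10 yc33 zc32) (kc xc10 yc33 zc33) (kc xc7 yc46 zc18) (kc xc8 yc38 zc48) (kc xc10 yc9 zc41) (kc xc2 yc37 zc26) (kc xc10 yc33 zc39) (kc xc7 yc46 zc21) (kc xc2 yc37 zc27) (kc xc10 yc33 zc41) (kc xc4 yc50 zc37) (kc xc3 yc58 zc3) (kc xc10 yc33 zc40) (kc xc5 yc3 zc46) (kc xc2 yc37 zc29) (kc xc10 yc33 zc60) (kc xc10 yc34 zc0) (kc xc10 yc33 zc59) (kc xc8 yc7 zc44) (kc xc10 yc11 zc33) (kc xc2 yc37 zc31) (kc xc10 yc34 zc12) (kc xc10 yc34 zc14) (kc xc10 yc34 zc11) (kc xc8 yc16 zc5) (kc xc10 yc21 zc4)) (@D3.rec (fun _ =>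 Pt) (kc xc9 yc33 zc18) (kc xc9 yc41 zc40) (kc xc10 yc32 zc61) (kc xc9 yc33 zc19) (kc xc10 yc34 zc35) (kc xc3 yc24 zc6) (kc xc2 yc39 zc60) (kc xc10 yc34 zc44) (kc xc2 yc40 zc0) (kc xc10 yc20 zc19) (kc xc10 yc32 zc57) (kc xc2 yc37 zc35) (kc xc10 yc34 zc53) (kc xc8 yc52 zc3) (kc xc2 yc37 zc37) (kc xc9 yc42 zc7) (kc xc9 yc41 zc21) (kc xc9 yc41 zc24) (kc xc4 yc30 zc52) (kc xc2 yc38 zc0) (kc xc5 yc20 zc38) (kc xc2 yc37 zc42) (kc xc9 yc41 zc32) (kc xc9 yc41 zc33) (kc xc8 yc13 zc54) (kc xc10 yc35 zc11) (kc xc2 yc37 zc46) (kc xc10 yc35 zc17) (kc xc2 yc37 zc47) (kc xc10 yc35 zc20) (kc xc2 yc43 zc37) (kc xc4 yc3 zc9) (kc xc2 yc37 zc49) (kc xc10 yc35 zc23) (kc xc2 yc37 zc50) (kc xc10 yc35 zc28) (kc xc10 yc35 zc19) (kc xc2 yc37 zc52) (kc xc10 yc35 zc37) (kc xc10 yc35 zc38) (kc xc10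 yc35 zc42) (kc xc10 yc35 zc36) (kc xc2 yc37 zc53) (kc xc10 yc35 zc44) (kc xc2 yc37 zc54) (kc xc8 yc53 zc21) (kc xc8 yc57 zc44) (kc xc2 yc37 zc57) (kc xc10 yc35 zc56) (kc xc10 yc35 zc57) (kc xc10 yc35 zc54) (kc xc2 yc40 zc38) (kc xc9 yc41 zc14) (kc xc2 yc37 zc59) (kc xc5 yc38 zc58) (kc xc9 yc42 zc12) (kc xc5 yc38 zc57) (kc xc8 yc56 zc29) (kc xc2 yc37 zc61) (kc xc9 yc42 zc13) (kc xc10 yc36 zc18) (kc xc10 yc36 zc22)) (@D3.rec (fun _ => Pt) (kc xc10 yc36 zc26) (kc xc10 yc35 zc5) (kc xc8 yc44 zc5) (kc xc10 yc35 zc7) (kc xc10 yc23 zc23) (kc xc10 yc35 zc16) (kc xc9 yc43 zc14) (kc xc8 yc27 zc43) (kc xc10 yc36 zc49) (kc xc10 yc36 zc54) (kc xc2 yc38 zc6) (kc xc2 yc38 zc3) (kc xc10 yc36 zc59) (kc xc2 yc38 zc4) (kc xc10 yc37 zc0) (kc xc10 yc37 zc1) (kc xc10 yc37 zc3) (kc xc2 yc38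 zc5) (kc xc10 yc37 zc8) (kc xc2 yc38 zc7) (kc xc8 yc13 zc13) (kc xc8 yc13 zc53) (kc xc10 yc37 zc18) (kc xc9 yc43 zc47) (kc xc2 yc38 zc10) (kc xc10 yc37 zc21) (kc xc9 yc0 zc46) (kc xc2 yc38 zc24) (kc xc9 yc51 zc39) (kc xc2 yc38 zc15) (kc xc9 yc0 zc54) (kc xc9 yc34 zc23) (kc xc10 yc37 zc31) (kc xc5 yc20 zc37) (kc xc2 yc38 zc20) (kc xc10 yc37 zc41) (kc xc10 yc37 zc44) (kc xc8 yc25 zc29) (kc xc10 yc37 zc40) (kc xc2 yc38 zc21) (kc xc10 yc37 zc49) (kc xc10 yc37 zc52) (kc xc10 yc37 zc25) (kc xc10 yc37 zc59) (kc xc10 yc37 zc27) (kc xc9 yc43 zc12) (kc xc10 yc38 zc8) (kc xc5 yc39 zc15) (kc xc10 yc38 zc15) (kc xc2 yc38 zc30) (kc xc2 yc38 zc27) (kc xc10 yc38 zc20) (kc xc2 yc38 zc28) (kc xc10 yc38 zc23) (kc xc10 yc38 zc24) (kc xc2 yc38 zc29) (kc xc10 yc38 zc29) (kc xc4 yc15 zc51)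 (kc xc3 yc57 zc12) (kc xc9 yc34 zc21) (kc xc8 yc25 zc25) (kc xc4 yc55 zc36)) (@D3.rec (fun _ => Pt) (kc xc2 yc38 zc38) (kc xc5 yc20 zc51) (kc xc2 yc38 zc35) (kc xc9 yc42 zc15) (kc xc9 yc42 zc16) (kc xc9 yc55 zc6) (kc xc10 yc38 zc52) (kc xc4 yc14 zc49) (kc xc5 yc38 zc51) (kc xc8 yc26 zc24) (kc xc10 yc39 zc5) (kc xc10 yc39 zc8) (kc xc10 yc38 zc45) (kc xc10 yc39 zc13) (kc xc10 yc38 zc47) (kc xc9 yc41 zc20) (kc xc9 yc41 zc23) (kc xc9 yc42 zc61) (kc xc8 yc28 zc3) (kc xc10 yc39 zc28) (kc xc10 yc39 zc31) (kc xc2 yc38 zc47) (kc xc2 yc38 zc43) (kc xc2 yc38 zc44) (kc xc9 yc3 zc2) (kc xc2 yc38 zc45) (kc xc9 yc3 zc3) (kc xc10 yc39 zc36) (kc xc2 yc38 zc46) (kc xc9 yc51 zc34) (kc xc2 yc38 zc51) (kc xc9 yc51 zc30) (kc xc2 yc38 zc50) (kc xc9 yc43 zc49) (kc xc9 yc43 zc50) (kc xc10 yc39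 zc48) (kc xc10 yc39 zc51) (kc xc10 yc39 zc53) (kc xc10 yc39 zc42) (kc xc10 yc39 zc58) (kc xc9 yc42 zc53) (kc xc10 yc40 zc1) (kc xc8 yc28 zc15) (kc xc2 yc38 zc58) (kc xc2 yc38 zc55) (kc xc10 yc40 zc8) (kc xc2 yc38 zc56) (kc xc10 yc40 zc11) (kc xc10 yc40 zc12) (kc xc2 yc38 zc57) (kc xc10 yc40 zc18) (kc xc10 yc40 zc20) (kc xc10 yc40 zc24) (kc xc10 yc40 zc26) (kc xc2 yc38 zc59) (kc xc10 yc40 zc35) (kc xc10 yc40 zc32) (kc xc5 yc16 zc56) (kc xc2 yc39 zc0) (kc xc5 yc36 zc13) (kc xc9 yc42 zc52) (kc xc9 yc42 zc35)) (@D3.rec (fun _ => Pt) (kc xc10 yc40 zc40) (kc xc10 yc40 zc46) (kc xc10 yc40 zc49) (kc xc10 yc40 zc52) (kc xc2 yc39 zc1) (kc xc10 yc40 zc60) (kc xc10 yc40 zc57) (kc xc2 yc39 zc4) (kc xc9 yc42 zc14) (kc xc7 yc41 zc57) (kc xc10 yc41 zc4) (kc xc2 yc42 zc59) (kc xc4 yc56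 zc12) (kc xc8 yc28 zc29) (kc xc2 yc39 zc5) (kc xc10 yc41 zc25) (kc xc10 yc41 zc22) (kc xc10 yc41 zc23) (kc xc10 yc16 zc60) (kc xc2 yc39 zc6) (kc xc10 yc41 zc38) (kc xc10 yc41 zc37) (kc xc10 yc41 zc45) (kc xc10 yc41 zc48) (kc xc10 yc41 zc51) (kc xc2 yc39 zc8) (kc xc10 yc41 zc56) (kc xc10 yc41 zc57) (kc xc2 yc43 zc13) (kc xc10 yc42 zc4) (kc xc9 yc41 zc58) (kc xc10 yc42 zc10) (kc xc9 yc41 zc31) (kc xc10 yc41 zc54) (kc xc2 yc39 zc13) (kc xc10 yc42 zc20) (kc xc10 yc42 zc24) (kc xc10 yc22 zc61) (kc xc9 yc40 zc60) (kc xc10 yc42 zc31) (kc xc10 yc42 zc35) (kc xc10 yc42 zc40) (kc xc10 yc42 zc41) (kc xc2 yc39 zc16) (kc xc10 yc42 zc48) (kc xc10 yc42 zc46) (kc xc10 yc42 zc49) (kc xc2 yc39 zc17) (kc xc10 yc42 zc53) (kc xc10 yc42 zc52) (kc xc2 yc39 zc18) (kc xc10 yc42 zc56) (kc xc2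 yc39 zc19) (kc xc5 yc15 zc16) (kc xc5 yc15 zc17) (kc xc2 yc39 zc24) (kc xc10 yc19 zc48) (kc xc2 yc39 zc21) (kc xc10 yc43 zc9) (kc xc10 yc43 zc11) (kc xc10 yc43 zc8) (kc xc10 yc33 zc18)) (@D3.rec (fun _ => Pt) (kc xc10 yc43 zc17) (kc xc10 yc43 zc21) (kc xc10 yc43 zc1) (kc xc5 yc54 zc39) (kc xc10 yc43 zc3) (kc xc9 yc9 zc13) (kc xc2 yc39 zc30) (kc xc8 yc13 zc28) (kc xc6 yc5 zc44) (kc xc2 yc39 zc33) (kc xc10 yc23 zc41) (kc xc2 yc39 zc32) (kc xc10 yc43 zc43) (kc xc10 yc43 zc42) (kc xc10 yc43 zc45) (kc xc10 yc43 zc48) (kc xc10 yc43 zc37) (kc xc3 yc55 zc49) (kc xc10 yc43 zc39) (kc xc2 yc59 zc50) (kc xc3 yc59 zc56) (kc xc2 yc39 zc37) (kc xc2 yc39 zc36) (kc xc5 yc15 zc15) (kc xc2 yc39 zc40) (kc xc10 yc19 zc41) (kc xc2 yc39 zc39) (kc xc10 yc44 zc7) (kc xc10 yc44 zc10) (kc xc10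 yc44 zc6) (kc xc10 yc44 zc12) (kc xc10 yc44 zc15) (kc xc10 yc43 zc60) (kc xc6 yc1 zc58) (kc xc10 yc44 zc0) (kc xc4 yc5 zc29) (kc xc4 yc5 zc30) (kc xc10 yc44 zc25) (kc xc10 yc44 zc26) (kc xc2 yc39 zc43) (kc xc6 yc41 zc23) (kc xc2 yc39 zc44) (kc xc10 yc44 zc31) (kc xc2 yc39 zc48) (kc xc10 yc23 zc46) (kc xc2 yc39 zc47) (kc xc10 yc44 zc43) (kc xc10 yc44 zc45) (kc xc10 yc44 zc42) (kc xc9 yc31 zc6) (kc xc9 yc31 zc7) (kc xc10 yc44 zc34) (kc xc5 yc59 zc44) (kc xc5 yc53 zc14) (kc xc10 yc44 zc49) (kc xc10 yc44 zc52) (kc xc2 yc39 zc53) (kc xc10 yc44 zc57) (kc xc2 yc45 zc20) (kc xc9 yc20 zc5) (kc xc10 yc45 zc1) (kc xc10 yc45 zc3)) (@D3.rec (fun _ => Pt) (kc xc10 yc45 zc5) (kc xc2 yc39 zc56) (kc xc9 yc59 zc6) (kc xc10 yc34 zc32) (kc xc10 yc45 zc11) (kc xc10 yc45 zc15) (kc xc2 yc39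 zc58) (kc xc10 yc45 zc25) (kc xc10 yc45 zc23) (kc xc10 yc45 zc24) (kc xc10 yc45 zc30) (kc xc2 yc39 zc59) (kc xc10 yc45 zc34) (kc xc10 yc45 zc33) (kc xc10 yc45 zc35) (kc xc10 yc45 zc38) (kc xc10 yc45 zc39) (kc xc2 yc39 zc61) (kc xc10 yc45 zc42) (kc xc10 yc34 zc47) (kc xc10 yc45 zc50) (kc xc8 yc12 zc56) (kc xc8 yc12 zc57) (kc xc6 yc8 zc29) (kc xc10 yc45 zc53) (kc xc8 yc31 zc10) (kc xc9 yc43 zc46) (kc xc8 yc30 zc32) (kc xc2 yc40 zc6) (kc xc10 yc46 zc2) (kc xc8 yc6 zc4) (kc xc8 yc29 zc42) (kc xc2 yc40 zc8) (kc xc10 yc46 zc12) (kc xc10 yc46 zc13) (kc xc3 yc48 zc36) (kc xc4 yc13 zc49) (kc xc9 yc0 zc44) (kc xc8 yc30 zc24) (kc xc2 yc40 zc12) (kc xc10 yc46 zc27) (kc xc10 yc46 zc30) (kc xc10 yc46 zc26) (kc xc2 yc40 zc13) (kc xc10 yc46 zc33) (kc xc10 yc46 zc31) (kc xc8 yc30 zc21)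 (kc xc2 yc40 zc15) (kc xc10 yc46 zc45) (kc xc10 yc46 zc44) (kc xc10 yc30 zc57) (kc xc8 yc30 zc18) (kc xc8 yc26 zc34) (kc xc5 yc38 zc54) (kc xc8 yc30 zc12) (kc xc5 yc38 zc53) (kc xc10 yc47 zc1) (kc xc9 yc0 zc61) (kc xc2 yc40 zc49) (kc xc10 yc47 zc11) (kc xc2 yc40 zc51) (kc xc8 yc31 zc1)) (@D3.rec (fun _ => Pt) (kc xc8 yc26 zc38) (kc xc8 yc26 zc39) (kc xc10 yc47 zc24) (kc xc2 yc40 zc23) (kc xc10 yc47 zc25) (kc xc2 yc40 zc21) (kc xc10 yc47 zc28) (kc xc10 yc47 zc30) (kc xc2 yc40 zc22) (kc xc10 yc47 zc35) (kc xc10 yc47 zc34) (kc xc4 yc14 zc1) (kc xc2 yc40 zc25) (kc xc10 yc47 zc38) (kc xc2 yc40 zc26) (kc xc4 yc13 zc13) (kc xc4 yc13 zc15) (kc xc2 yc40 zc29) (kc xc2 yc40 zc28) (kc xc4 yc14 zc2) (kc xc2 yc40 zc32) (kc xc8 yc24 zc27) (kc xc2 yc40 zc31) (kc xc10 yc47 zc55) (kc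 xc10 yc47 zc58) (kc xc10 yc47 zc53) (kc xc10 yc47 zc60) (kc xc10 yc48 zc0) (kc xc10 yc47 zc46) (kc xc10 yc48 zc3) (kc xc10 yc47 zc48) (kc xc2 yc44 zc39) (kc xc2 yc44 zc4) (kc xc2 yc44 zc5) (kc xc6 yc37 zc32) (kc xc2 yc40 zc37) (kc xc10 yc48 zc17) (kc xc2 yc40 zc35) (kc xc2 yc40 zc36) (kc xc10 yc48 zc23) (kc xc10 yc48 zc25) (kc xc10 yc35 zc60) (kc xc10 yc48 zc28) (kc xc10 yc36 zc0) (kc xc2 yc44 zc34) (kc xc2 yc44 zc12) (kc xc10 yc48 zc37) (kc xc10 yc48 zc39) (kc xc10 yc48 zc42) (kc xc10 yc48 zc43) (kc xc2 yc40 zc41) (kc xc10 yc48 zc50) (kc xc10 yc48 zc49) (kc xc2 yc46 zc15) (kc xc9 yc19 zc56) (kc xc4 yc19 zc48) (kc xc10 yc48 zc61) (kc xc10 yc49 zc1) (kc xc5 yc32 zc7) (kc xc2 yc40 zc44) (kc xc5 yc31 zc60) (kc xc10 yc49 zc5)) (@D3.rec (fun _ => Pt) (kc xc2 yc46 zc17) (kc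 xc10 yc49 zc11) (kc xc5 yc39 zc5) (kc xc2 yc40 zc47) (kc xc10 yc49 zc21) (kc xc10 yc49 zc20) (kc xc10 yc49 zc28) (kc xc2 yc40 zc48) (kc xc10 yc49 zc34) (kc xc10 yc49 zc33) (kc xc10 yc49 zc39) (kc xc10 yc47 zc8) (kc xc10 yc49 zc41) (kc xc10 yc49 zc44) (kc xc2 yc40 zc50) (kc xc10 yc49 zc49) (kc xc10 yc49 zc51) (kc xc2 yc40 zc52) (kc xc9 yc42 zc6) (kc xc2 yc40 zc56) (kc xc10 yc50 zc0) (kc xc2 yc40 zc57) (kc xc10 yc50 zc4) (kc xc4 yc9 zc4) (kc xc2 yc41 zc0) (kc xc8 yc30 zc54) (kc xc8 yc16 zc59) (kc xc2 yc40 zc60) (kc xc10 yc50 zc16) (kc xc10 yc50 zc15) (kc xc4 yc11 zc3) (kc xc2 yc41 zc2) (kc xc10 yc50 zc20) (kc xc2 yc41 zc3) (kc xc8 yc31 zc3) (kc xc4 yc10 zc15) (kc xc2 yc41 zc4) (kc xc10 yc50 zc26) (kc xc4 yc56 zc46) (kc xc2 yc41 zc6) (kc xc10 yc50 zc36) (kc xc8 yc30 zc25)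 (kc xc8 yc56 zc32) (kc xc10 yc50 zc35) (kc xc2 yc41 zc7) (kc xc8 yc7 zc26) (kc xc8 yc17 zc18) (kc xc2 yc41 zc13) (kc xc9 yc41 zc19) (kc xc8 yc17 zc24) (kc xc2 yc41 zc15) (kc xc10 yc50 zc58) (kc xc10 yc50 zc57) (kc xc8 yc53 zc33) (kc xc2 yc41 zc16) (kc xc8 yc18 zc46) (kc xc10 yc24 zc13) (kc xc5 yc35 zc25) (kc xc8 yc18 zc45) (kc xc5 yc35 zc24) (kc xc10 yc51 zc12) (kc xc8 yc59 zc58)) (@D3.rec (fun _ => Pt) (kc xc2 yc41 zc29) (kc xc10 yc51 zc22) (kc xc2 yc41 zc31) (kc xc10 yc50 zc19) (kc xc10 yc24 zc1) (kc xc8 yc19 zc55) (kc xc10 yc51 zc37) (kc xc9 yc37 zc44) (kc xc10 yc51 zc44) (kc xc2 yc41 zc24) (kc xc2 yc41 zc21) (kc xc10 yc51 zc49) (kc xc9 yc41 zc60) (kc xc2 yc41 zc22) (kc xc10 yc51 zc52) (kc xc10 yc51 zc55) (kc xc2 yc41 zc23) (kc xc10 yc51 zc61) (kc xc4 yc55 zc3) (kc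 xc2 yc41 zc45) (kc xc5 yc31 zc11) (kc xc5 yc35 zc45) (kc xc2 yc41 zc27) (kc xc10 yc52 zc16) (kc xc10 yc52 zc15) (kc xc10 yc52 zc21) (kc xc2 yc41 zc28) (kc xc10 yc52 zc27) (kc xc10 yc52 zc26) (kc xc10 yc52 zc32) (kc xc10 yc51 zc19) (kc xc10 yc52 zc38) (kc xc10 yc52 zc41) (kc xc2 yc41 zc30) (kc xc10 yc52 zc45) (kc xc10 yc52 zc48) (kc xc10 yc52 zc52) (kc xc10 yc52 zc56) (kc xc10 yc51 zc27) (kc xc4 yc31 zc11) (kc xc10 yc52 zc59) (kc xc6 yc20 zc35) (kc xc4 yc31 zc38) (kc xc10 yc53 zc1) (kc xc6 yc19 zc41) (kc xc2 yc41 zc35) (kc xc6 yc20 zc49) (kc xc10 yc38 zc18) (kc xc10 yc53 zc11) (kc xc2 yc41 zc38) (kc xc2 yc41 zc39) (kc xc10 yc53 zc13) (kc xc10 yc53 zc18) (kc xc2 yc41 zc41) (kc xc10 yc53 zc20) (kc xc2 yc41 zc42) (kc xc4 yc12 zc39) (kc xc4 yc12 zc40) (kc xc10 yc51 zc59)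 (kc xc10 yc52 zc4) (kc xc8 yc6 zc8) (kc xc8 yc29 zc54)) (@D3.rec (fun _ => Pt) (kc xc2 yc41 zc48) (kc xc10 yc53 zc35) (kc xc10 yc53 zc37) (kc xc10 yc53 zc34) (kc xc10 yc31 zc29) (kc xc8 yc26 zc26) (kc xc10 yc53 zc45) (kc xc8 yc58 zc35) (kc xc2 yc42 zc0) (kc xc10 yc53 zc52) (kc xc2 yc42 zc2) (kc xc5 yc30 zc20) (kc xc8 yc31 zc59) (kc xc8 yc31 zc41) (kc xc8 yc26 zc52) (kc xc8 yc26 zc53) (kc xc10 yc54 zc10) (kc xc2 yc41 zc57) (kc xc10 yc54 zc12) (kc xc2 yc41 zc54) (kc xc10 yc54 zc19) (kc xc10 yc54 zc17) (kc xc10 yc54 zc20) (kc xc2 yc41 zc55) (kc xc10 yc54 zc26) (kc xc10 yc54 zc25) (kc xc2 yc41 zc56) (kc xc10 yc54 zc30) (kc xc10 yc54 zc33) (kc xc10 yc54 zc36) (kc xc2 yc41 zc58) (kc xc10 yc54 zc40) (kc xc10 yc54 zc46) (kc xc5 yc33 zc36) (kc xc2 yc41 zc60) (kc xc10 yc54 zc52)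 (kc xc10 yc54 zc56) (kc xc2 yc41 zc61) (kc xc10 yc54 zc59) (kc xc10 yc53 zc49) (kc xc10 yc55 zc4) (kc xc10 yc55 zc7) (kc xc2 yc42 zc1) (kc xc10 yc55 zc12) (kc xc10 yc55 zc16) (kc xc10 yc55 zc18) (kc xc2 yc44 zc49) (kc xc10 yc53 zc57) (kc xc10 yc55 zc22) (kc xc2 yc44 zc44) (kc xc2 yc42 zc8) (kc xc2 yc44 zc50) (kc xc4 yc32 zc3) (kc xc4 yc32 zc4) (kc xc2 yc47 zc32) (kc xc10 yc55 zc31) (kc xc10 yc55 zc32) (kc xc4 yc55 zc60) (kc xc10 yc55 zc34) (kc xc10 yc55 zc36) (kc xc5 yc28 zc60) (kc xc2 yc42 zc10)) (@D3.rec (fun _ => Pt) (kc xc10 yc55 zc40) (kc xc10 yc55 zc38) (kc xc2 yc42 zc12) (kc xc10 yc39 zc35) (kc xc2 yc42 zc15) (kc xc2 yc42 zc14) (kc xc10 yc54 zc28) (kc xc5 yc28 zc58) (kc xc8 yc27 zc2) (kc xc8 yc16 zc49) (kc xc2 yc42 zc18) (kc xc10 yc56 zc3) (kc xc10 yc56 zc4)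 (kc xc10 yc56 zc2) (kc xc8 yc54 zc16) (kc xc5 yc35 zc14) (kc xc5 yc35 zc11) (kc xc8 yc59 zc8) (kc xc8 yc58 zc14) (kc xc2 yc42 zc29) (kc xc10 yc56 zc20) (kc xc2 yc42 zc31) (kc xc8 yc17 zc30) (kc xc8 yc17 zc27) (kc xc8 yc19 zc29) (kc xc10 yc56 zc34) (kc xc10 yc56 zc38) (kc xc10 yc56 zc43) (kc xc2 yc42 zc26) (kc xc2 yc42 zc24) (kc xc10 yc56 zc48) (kc xc9 yc42 zc37) (kc xc2 yc42 zc25) (kc xc10 yc56 zc51) (kc xc5 yc33 zc3) (kc xc2 yc42 zc27) (kc xc5 yc33 zc56) (kc xc2 yc42 zc28) (kc xc10 yc56 zc61) (kc xc10 yc57 zc2) (kc xc10 yc56 zc17) (kc xc10 yc57 zc7) (kc xc10 yc57 zc10) (kc xc2 yc42 zc30) (kc xc10 yc57 zc14) (kc xc10 yc57 zc17) (kc xc10 yc57 zc21) (kc xc10 yc56 zc25) (kc xc6 yc20 zc26) (kc xc4 yc56 zc8) (kc xc10 yc57 zc26) (kc xc10 yc40 zc6) (kc xc2 yc42 zc37) (kc xc2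 yc42 zc38) (kc xc10 yc57 zc30) (kc xc8 yc57 zc49) (kc xc2 yc42 zc40) (kc xc10 yc57 zc40) (kc xc10 yc57 zc39) (kc xc2 yc42 zc41) (kc xc10 yc57 zc46) (kc xc2 yc42 zc42)) (@D3.rec (fun _ => Pt) (kc xc10 yc57 zc51) (kc xc10 yc57 zc50) (kc xc10 yc57 zc56) (kc xc5 yc32 zc34) (kc xc10 yc58 zc1) (kc xc2 yc42 zc45) (kc xc10 yc58 zc8) (kc xc10 yc58 zc10) (kc xc2 yc42 zc44) (kc xc10 yc58 zc15) (kc xc10 yc58 zc20) (kc xc10 yc58 zc21) (kc xc10 yc58 zc26) (kc xc10 yc58 zc6) (kc xc10 yc58 zc28) (kc xc2 yc47 zc3) (kc xc10 yc58 zc31) (kc xc2 yc47 zc1) (kc xc2 yc47 zc29) (kc xc2 yc47 zc30) (kc xc2 yc46 zc39) (kc xc4 yc56 zc14) (kc xc4 yc56 zc19) (kc xc2 yc42 zc49) (kc xc10 yc58 zc45) (kc xc8 yc57 zc3) (kc xc2 yc42 zc51) (kc xc10 yc58 zc51) (kc xc10 yc58 zc55) (kc xc2 yc42 zc52) (kc xc10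 yc58 zc61) (kc xc10 yc58 zc60) (kc xc2 yc42 zc53) (kc xc10 yc59 zc3) (kc xc10 yc59 zc2) (kc xc9 yc44 zc13) (kc xc5 yc31 zc33) (kc xc2 yc42 zc56) (kc xc10 yc59 zc13) (kc xc10 yc59 zc16) (kc xc2 yc42 zc55) (kc xc10 yc59 zc21) (kc xc10 yc59 zc23) (kc xc10 yc59 zc26) (kc xc10 yc59 zc11) (kc xc10 yc41 zc10) (kc xc10 yc59 zc29) (kc xc2 yc42 zc60) (kc xc10 yc59 zc35) (kc xc10 yc59 zc34) (kc xc10 yc59 zc38) (kc xc7 yc58 zc32) (kc xc2 yc42 zc61) (kc xc10 yc59 zc46) (kc xc10 yc59 zc44) (kc xc7 yc58 zc33) (kc xc5 yc32 zc36) (kc xc9 yc44 zc2) (kc xc10 yc59 zc42) (kc xc11 yc0 zc3) (kc xc2 yc43 zc2) (kc xc2 yc43 zc3)) (@D3.rec (fun _ => Pt) (kc xc11 yc0 zc11) (kc xc2 yc43 zc1) (kc xc11 yc0 zc17) (kc xc11 yc0 zc18) (kc xc10 yc41 zc28) (kc xc11 yc0 zc23) (kc xc11 yc0 zc9) (kc xc11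 yc0 zc10) (kc xc8 yc57 zc48) (kc xc11 yc0 zc26) (kc xc2 yc43 zc4) (kc xc11 yc0 zc32) (kc xc11 yc0 zc31) (kc xc11 yc0 zc29) (kc xc11 yc0 zc40) (kc xc2 yc43 zc7) (kc xc2 yc43 zc6) (kc xc11 yc0 zc47) (kc xc10 yc41 zc40) (kc xc9 yc48 zc16) (kc xc11 yc0 zc44) (kc xc2 yc43 zc8) (kc xc11 yc0 zc54) (kc xc9 yc45 zc60) (kc xc2 yc43 zc9) (kc xc11 yc1 zc1) (kc xc2 yc43 zc10) (kc xc11 yc1 zc5) (kc xc8 yc56 zc54) (kc xc11 yc1 zc11) (kc xc2 yc43 zc12) (kc xc11 yc1 zc18) (kc xc11 yc1 zc21) (kc xc11 yc1 zc16) (kc xc11 yc1 zc24) (kc xc11 yc1 zc28) (kc xc11 yc1 zc33) (kc xc11 yc1 zc34) (kc xc2 yc43 zc14) (kc xc11 yc1 zc38) (kc xc2 yc43 zc15) (kc xc11 yc1 zc42) (kc xc2 yc48 zc24) (kc xc2 yc48 zc25) (kc xc10 yc55 zc53) (kc xc11 yc1 zc49) (kc xc11 yc1 zc51) (kc xc9 yc46 zc47) (kc xc11 yc1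 zc58) (kc xc11 yc1 zc60) (kc xc9 yc46 zc50) (kc xc11 yc2 zc1) (kc xc5 yc4 zc42) (kc xc5 yc3 zc40) (kc xc11 yc2 zc6) (kc xc5 yc4 zc41) (kc xc4 yc52 zc17) (kc xc10 yc0 zc31) (kc xc10 yc0 zc34) (kc xc2 yc43 zc22) (kc xc2 yc43 zc23) (kc xc11 yc2 zc18)) (@D3.rec (fun _ => Pt) (kc xc11 yc2 zc16) (kc xc11 yc2 zc14) (kc xc2 yc43 zc26) (kc xc5 yc57 zc25) (kc xc2 yc43 zc25) (kc xc2 yc43 zc27) (kc xc11 yc2 zc27) (kc xc11 yc2 zc25) (kc xc11 yc2 zc23) (kc xc2 yc43 zc30) (kc xc2 yc43 zc29) (kc xc5 yc32 zc16) (kc xc2 yc43 zc32) (kc xc11 yc2 zc34) (kc xc5 yc32 zc15) (kc xc5 yc35 zc50) (kc xc2 yc43 zc34) (kc xc11 yc2 zc42) (kc xc4 yc14 zc27) (kc xc4 yc31 zc26) (kc xc2 yc43 zc36) (kc xc11 yc2 zc53) (kc xc11 yc2 zc54) (kc xc11 yc2 zc52) (kc xc5 yc29 zc59) (kc xc5 yc29 zc57) (kc xc5 yc35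 zc42) (kc xc2 yc43 zc41) (kc xc11 yc3 zc7) (kc xc11 yc3 zc10) (kc xc11 yc3 zc6) (kc xc2 yc43 zc42) (kc xc11 yc3 zc12) (kc xc11 yc3 zc11) (kc xc5 yc35 zc39) (kc xc2 yc43 zc44) (kc xc11 yc3 zc24) (kc xc11 yc3 zc23) (kc xc11 yc3 zc28) (kc xc5 yc35 zc34) (kc xc8 yc40 zc18) (kc xc8 yc56 zc26) (kc xc5 yc35 zc26) (kc xc8 yc38 zc51) (kc xc11 yc3 zc41) (kc xc5 yc30 zc21) (kc xc2 yc44 zc16) (kc xc11 yc3 zc48) (kc xc2 yc44 zc17) (kc xc5 yc0 zc44) (kc xc5 yc35 zc15) (kc xc2 yc43 zc48) (kc xc11 yc3 zc58) (kc xc9 yc37 zc40) (kc xc9 yc37 zc38) (kc xc11 yc4 zc8) (kc xc2 yc43 zc53) (kc xc11 yc4 zc10) (kc xc2 yc43 zc50) (kc xc10 yc1 zc8) (kc xc11 yc4 zc14) (kc xc2 yc43 zc51)) (@D3.rec (fun _ => Pt) (kc xc11 yc4 zc18) (kc xc11 yc4 zc22) (kc xc11 yc4 zc25) (kc xc2 yc43 zc52) (kc xc11 yc4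 zc29) (kc xc6 yc5 zc47) (kc xc2 yc43 zc56) (kc xc11 yc4 zc33) (kc xc10 yc9 zc46) (kc xc4 yc12 zc34) (kc xc2 yc43 zc59) (kc xc8 yc27 zc24) (kc xc2 yc44 zc2) (kc xc5 yc24 zc59) (kc xc2 yc44 zc1) (kc xc11 yc4 zc47) (kc xc11 yc4 zc51) (kc xc11 yc4 zc45) (kc xc10 yc55 zc47) (kc xc10 yc55 zc42) (kc xc9 yc57 zc18) (kc xc11 yc4 zc40) (kc xc4 yc10 zc58) (kc xc4 yc10 zc59) (kc xc4 yc43 zc16) (kc xc2 yc44 zc6) (kc xc11 yc4 zc61) (kc xc9 yc9 zc17) (kc xc2 yc44 zc7) (kc xc11 yc5 zc2) (kc xc4 yc3 zc36) (kc xc2 yc44 zc10) (kc xc8 yc20 zc31) (kc xc2 yc44 zc9) (kc xc11 yc5 zc17) (kc xc11 yc5 zc19) (kc xc11 yc5 zc16) (kc xc11 yc5 zc21) (kc xc11 yc5 zc23) (kc xc11 yc5 zc9) (kc xc11 yc5 zc11) (kc xc2 yc59 zc6) (kc xc11 yc5 zc32) (kc xc2 yc44 zc13) (kc xc11 yc5 zc34) (kc xc8 yc56 zc34)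 (kc xc2 yc44 zc14) (kc xc11 yc5 zc43) (kc xc11 yc5 zc42) (kc xc9 yc55 zc45) (kc xc2 yc44 zc15) (kc xc11 yc5 zc53) (kc xc11 yc5 zc52) (kc xc2 yc44 zc18) (kc xc11 yc5 zc58) (kc xc11 yc5 zc59) (kc xc11 yc5 zc60) (kc xc2 yc44 zc20) (kc xc11 yc6 zc2) (kc xc9 yc9 zc16) (kc xc9 yc6 zc53) (kc xc11 yc6 zc6)) (@D3.rec (fun _ => Pt) (kc xc5 yc38 zc40) (kc xc6 yc3 zc57) (kc xc2 yc44 zc25) (kc xc10 yc15 zc34) (kc xc2 yc44 zc27) (kc xc6 yc15 zc29) (kc xc9 yc0 zc8) (kc xc2 yc44 zc32) (kc xc9 yc53 zc0) (kc xc2 yc44 zc29) (kc xc11 yc6 zc13) (kc xc2 yc44 zc30) (kc xc2 yc44 zc31) (kc xc10 yc39 zc30) (kc xc2 yc44 zc33) (kc xc11 yc6 zc21) (kc xc2 yc50 zc48) (kc xc6 yc16 zc46) (kc xc2 yc44 zc35) (kc xc5 yc49 zc52) (kc xc5 yc37 zc54) (kc xc2 yc44 zc38) (kc xc11 yc6 zc29) (kc xc10 yc48 zc56)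 (kc xc9 yc44 zc9) (kc xc10 yc48 zc11) (kc xc8 yc42 zc48) (kc xc2 yc44 zc40) (kc xc2 yc44 zc41) (kc xc6 yc17 zc13) (kc xc11 yc6 zc37) (kc xc2 yc44 zc43) (kc xc7 yc28 zc43) (kc xc6 yc16 zc47) (kc xc4 yc41 zc33) (kc xc5 yc49 zc25) (kc xc2 yc44 zc45) (kc xc11 yc6 zc45) (kc xc10 yc16 zc12) (kc xc2 yc44 zc46) (kc xc10 yc55 zc1) (kc xc3 yc0 zc52) (kc xc4 yc42 zc54) (kc xc11 yc6 zc51) (kc xc11 yc6 zc53) (kc xc11 yc6 zc56) (kc xc5 yc41 zc7) (kc xc10 yc48 zc8) (kc xc10 yc48 zc9) (kc xc10 yc55 zc27) (kc xc11 yc6 zc10) (kc xc4 yc22 zc29) (kc xc9 yc2 zc6) (kc xc9 yc14 zc58) (kc xc5 yc37 zc20) (kc xc6 yc15 zc36) (kc xc9 yc1 zc43) (kc xc2 yc44 zc54) (kc xc2 yc44 zc53) (kc xc11 yc7 zc13) (kc xc8 yc42 zc47) (kc xc4 yc23 zc55)) (@D3.rec (fun _ => Pt) (kc xc9 yc3 zc8) (kc xc9 yc1 zc44)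 (kc xc2 yc44 zc57) (kc xc11 yc7 zc22) (kc xc2 yc44 zc58) (kc xc8 yc49 zc29) (kc xc6 yc16 zc22) (kc xc11 yc7 zc30) (kc xc5 yc45 zc25) (kc xc2 yc44 zc60) (kc xc11 yc7 zc36) (kc xc11 yc7 zc39) (kc xc2 yc44 zc61) (kc xc11 yc7 zc43) (kc xc5 yc40 zc18) (kc xc5 yc40 zc20) (kc xc11 yc7 zc51) (kc xc2 yc45 zc1) (kc xc11 yc7 zc55) (kc xc11 yc7 zc59) (kc xc8 yc49 zc11) (kc xc11 yc8 zc1) (kc xc2 yc45 zc2) (kc xc11 yc8 zc4) (kc xc11 yc8 zc7) (kc xc2 yc45 zc3) (kc xc11 yc8 zc9) (kc xc2 yc45 zc4) (kc xc11 yc8 zc14) (kc xc7 yc23 zc27) (kc xc5 yc13 zc24) (kc xc5 yc48 zc52) (kc xc5 yc13 zc23) (kc xc7 yc59 zc46) (kc xc6 yc17 zc12) (kc xc5 yc59 zc14) (kc xc11 yc8 zc20) (kc xc2 yc45 zc10) (kc xc9 yc44 zc36) (kc xc11 yc8 zc12) (kc xc5 yc37 zc0) (kc xc2 yc45 zc15) (kc xc9 yc47 zc13) (kc xc11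 yc8 zc26) (kc xc9 yc0 zc27) (kc xc6 yc4 zc10) (kc xc2 yc45 zc18) (kc xc11 yc8 zc30) (kc xc4 yc50 zc0) (kc xc5 yc0 zc9) (kc xc4 yc42 zc59) (kc xc5 yc24 zc8) (kc xc8 yc9 zc26) (kc xc5 yc27 zc55) (kc xc5 yc27 zc53) (kc xc2 yc45 zc25) (kc xc11 yc8 zc46) (kc xc5 yc22 zc56) (kc xc5 yc22 zc54) (kc xc2 yc45 zc28) (kc xc11 yc8 zc56) (kc xc11 yc8 zc55)) (@D3.rec (fun _ => Pt) (kc xc9 yc41 zc22) (kc xc4 yc19 zc9) (kc xc8 yc55 zc42) (kc xc4 yc19 zc10) (kc xc11 yc9 zc9) (kc xc5 yc29 zc2) (kc xc2 yc45 zc42) (kc xc2 yc45 zc43) (kc xc4 yc19 zc13) (kc xc4 yc19 zc14) (kc xc11 yc9 zc24) (kc xc2 yc45 zc36) (kc xc11 yc9 zc26) (kc xc2 yc45 zc33) (kc xc11 yc9 zc30) (kc xc5 yc23 zc47) (kc xc2 yc45 zc34) (kc xc11 yc9 zc33) (kc xc11 yc9 zc36) (kc xc2 yc45 zc35) (kc xc11 yc9 zc42) (kc xc2 yc45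 zc55) (kc xc4 yc22 zc56) (kc xc8 yc55 zc55) (kc xc2 yc45 zc40) (kc xc11 yc9 zc55) (kc xc11 yc9 zc54) (kc xc11 yc10 zc0) (kc xc2 yc45 zc41) (kc xc11 yc10 zc5) (kc xc11 yc10 zc4) (kc xc11 yc9 zc13) (kc xc11 yc10 zc15) (kc xc11 yc10 zc19) (kc xc11 yc10 zc21) (kc xc11 yc9 zc16) (kc xc10 yc53 zc4) (kc xc2 yc45 zc44) (kc xc11 yc10 zc26) (kc xc11 yc10 zc27) (kc xc11 yc10 zc28) (kc xc2 yc45 zc46) (kc xc11 yc10 zc33) (kc xc11 yc10 zc31) (kc xc11 yc10 zc40) (kc xc2 yc45 zc48) (kc xc2 yc45 zc49) (kc xc3 yc7 zc50) (kc xc11 yc10 zc43) (kc xc2 yc45 zc51) (kc xc11 yc10 zc45) (kc xc11 yc10 zc46) (kc xc2 yc45 zc52) (kc xc11 yc9 zc40) (kc xc3 yc7 zc49) (kc xc2 yc45 zc54) (kc xc11 yc9 zc45) (kc xc4 yc56 zc57) (kc xc11 yc10 zc49) (kc xc2 yc45 zc57) (kc xc11 yc10 zc52) (kc xc2 yc45 zc58))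 (@D3.rec (fun _ => Pt) (kc xc11 yc10 zc55) (kc xc5 yc45 zc10) (kc xc2 yc45 zc59) (kc xc11 yc10 zc59) (kc xc5 yc44 zc13) (kc xc2 yc45 zc60) (kc xc11 yc11 zc0) (kc xc2 yc46 zc32) (kc xc2 yc46 zc30) (kc xc2 yc46 zc26) (kc xc2 yc46 zc0) (kc xc11 yc11 zc11) (kc xc11 yc11 zc14) (kc xc11 yc11 zc9) (kc xc7 yc23 zc32) (kc xc2 yc46 zc38) (kc xc5 yc49 zc7) (kc xc4 yc22 zc51) (kc xc5 yc38 zc14) (kc xc2 yc46 zc7) (kc xc5 yc38 zc15) (kc xc2 yc46 zc9) (kc xc4 yc26 zc23) (kc xc5 yc42 zc54) (kc xc2 yc46 zc10) (kc xc11 yc11 zc30) (kc xc11 yc11 zc33) (kc xc2 yc46 zc11) (kc xc11 yc11 zc37) (kc xc6 yc15 zc37) (kc xc9 yc1 zc21) (kc xc11 yc11 zc46) (kc xc2 yc46 zc13) (kc xc9 yc9 zc36) (kc xc11 yc11 zc52) (kc xc4 yc26 zc22) (kc xc2 yc46 zc14) (kc xc11 yc11 zc56) (kc xc10 yc58 zc33) (kc xc10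 yc58 zc34) (kc xc10 yc48 zc58) (kc xc11 yc11 zc61) (kc xc2 yc46 zc16) (kc xc9 yc50 zc59) (kc xc3 yc5 zc28) (kc xc9 yc5 zc43) (kc xc9 yc29 zc52) (kc xc11 yc12 zc8) (kc xc3 yc20 zc12) (kc xc9 yc5 zc39) (kc xc11 yc12 zc13) (kc xc11 yc12 zc16) (kc xc2 yc46 zc20) (kc xc9 yc20 zc24) (kc xc5 yc41 zc53) (kc xc2 yc46 zc24) (kc xc11 yc12 zc23) (kc xc2 yc47 zc8) (kc xc11 yc11 zc20) (kc xc11 yc11 zc5) (kc xc11 yc12 zc33) (kc xc11 yc11 zc4)) (@D3.rec (fun _ => Pt) (kc xc7 yc20 zc31) (kc xc11 yc11 zc2) (kc xc2 yc46 zc34) (kc xc6 yc40 zc15) (kc xc10 yc13 zc7) (kc xc9 yc1 zc28) (kc xc11 yc12 zc39) (kc xc5 yc37 zc46) (kc xc2 yc46 zc36) (kc xc11 yc12 zc46) (kc xc2 yc46 zc37) (kc xc4 yc32 zc46) (kc xc5 yc46 zc17) (kc xc10 yc58 zc38) (kc xc11 yc11 zc16) (kc xc5 yc54 zc22) (kc xc2 yc46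 zc40) (kc xc6 yc25 zc31) (kc xc8 yc47 zc53) (kc xc4 yc31 zc58) (kc xc7 yc59 zc11) (kc xc11 yc12 zc57) (kc xc2 yc46 zc45) (kc xc2 yc46 zc44) (kc xc11 yc12 zc61) (kc xc11 yc13 zc3) (kc xc2 yc46 zc46) (kc xc11 yc13 zc5) (kc xc11 yc13 zc7) (kc xc2 yc46 zc48) (kc xc11 yc13 zc11) (kc xc7 yc7 zc41) (kc xc11 yc13 zc13) (kc xc2 yc46 zc50) (kc xc11 yc13 zc17) (kc xc2 yc46 zc51) (kc xc11 yc13 zc23) (kc xc3 yc59 zc36) (kc xc3 yc5 zc37) (kc xc11 yc13 zc27) (kc xc11 yc13 zc30) (kc xc11 yc13 zc32) (kc xc2 yc46 zc53) (kc xc11 yc13 zc37) (kc xc3 yc58 zc56) (kc xc11 yc13 zc42) (kc xc2 yc46 zc61) (kc xc2 yc46 zc55) (kc xc11 yc13 zc46) (kc xc11 yc13 zc49) (kc xc2 yc46 zc56) (kc xc11 yc13 zc53) (kc xc6 yc15 zc24) (kc xc5 yc40 zc54) (kc xc11 yc14 zc3) (kc xc2 yc46 zc58) (kc xc4 yc26 zc38)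 (kc xc11 yc14 zc11) (kc xc11 yc14 zc15) (kc xc11 yc14 zc8) (kc xc2 yc46 zc59) (kc xc11 yc14 zc18)) (@D3.rec (fun _ => Pt) (kc xc2 yc46 zc60) (kc xc10 yc55 zc20) (kc xc2 yc47 zc0) (kc xc11 yc14 zc23) (kc xc10 yc55 zc24) (kc xc10 yc55 zc25) (kc xc10 yc58 zc36) (kc xc11 yc14 zc29) (kc xc2 yc47 zc2) (kc xc11 yc14 zc32) (kc xc4 yc34 zc9) (kc xc9 yc17 zc60) (kc xc11 yc14 zc37) (kc xc9 yc20 zc31) (kc xc11 yc14 zc43) (kc xc3 yc11 zc35) (kc xc9 yc13 zc13) (kc xc11 yc12 zc17) (kc xc11 yc12 zc18) (kc xc2 yc47 zc6) (kc xc6 yc44 zc1) (kc xc9 yc45 zc25) (kc xc11 yc12 zc27) (kc xc11 yc14 zc20) (kc xc2 yc49 zc11) (kc xc2 yc47 zc10) (kc xc11 yc15 zc2) (kc xc11 yc15 zc6) (kc xc2 yc47 zc12) (kc xc11 yc15 zc11) (kc xc7 yc20 zc32) (kc xc11 yc15 zc13) (kc xc2 yc47 zc15) (kc xc11 yc15 zc17)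 (kc xc11 yc15 zc19) (kc xc2 yc47 zc17) (kc xc11 yc15 zc22) (kc xc11 yc15 zc27) (kc xc7 yc7 zc38) (kc xc2 yc47 zc19) (kc xc11 yc15 zc30) (kc xc11 yc15 zc32) (kc xc11 yc15 zc35) (kc xc11 yc15 zc37) (kc xc2 yc47 zc21) (kc xc11 yc15 zc43) (kc xc11 yc15 zc47) (kc xc5 yc7 zc34) (kc xc2 yc47 zc23) (kc xc11 yc15 zc52) (kc xc9 yc45 zc24) (kc xc2 yc47 zc24) (kc xc11 yc15 zc57) (kc xc11 yc7 zc3) (kc xc5 yc40 zc23) (kc xc11 yc16 zc5) (kc xc2 yc47 zc26) (kc xc11 yc16 zc10) (kc xc11 yc16 zc12) (kc xc11 yc16 zc16) (kc xc11 yc16 zc9) (kc xc2 yc47 zc27)) (@D3.rec (fun _ => Pt) (kc xc11 yc16 zc18) (kc xc2 yc47 zc28) (kc xc11 yc16 zc24) (kc xc11 yc16 zc25) (kc xc10 yc55 zc29) (kc xc2 yc47 zc31) (kc xc11 yc2 zc0) (kc xc11 yc16 zc21) (kc xc2 yc51 zc32) (kc xc9 yc4 zc46) (kc xc2 yc47 zc35)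 (kc xc11 yc16 zc33) (kc xc11 yc16 zc38) (kc xc11 yc7 zc9) (kc xc2 yc47 zc38) (kc xc11 yc16 zc43) (kc xc2 yc47 zc39) (kc xc7 yc49 zc28) (kc xc7 yc25 zc59) (kc xc2 yc47 zc41) (kc xc7 yc25 zc58) (kc xc11 yc11 zc27) (kc xc11 yc16 zc48) (kc xc2 yc47 zc43) (kc xc3 yc54 zc16) (kc xc11 yc11 zc54) (kc xc2 yc47 zc45) (kc xc11 yc16 zc57) (kc xc2 yc49 zc28) (kc xc11 yc10 zc48) (kc xc6 yc4 zc19) (kc xc8 yc32 zc41) (kc xc2 yc47 zc47) (kc xc2 yc47 zc48) (kc xc11 yc17 zc14) (kc xc11 yc17 zc12) (kc xc11 yc17 zc13) (kc xc3 yc3 zc60) (kc xc8 yc49 zc9) (kc xc11 yc7 zc10) (kc xc2 yc47 zc53) (kc xc2 yc47 zc52) (kc xc11 yc17 zc22) (kc xc4 yc32 zc1) (kc xc11 yc17 zc28) (kc xc2 yc47 zc54) (kc xc11 yc17 zc29) (kc xc4 yc23 zc48) (kc xc11 yc17 zc20) (kc xc9 yc46 zc2) (kc xc2 yc47 zc57) (kc xc11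 yc17 zc44) (kc xc11 yc17 zc48) (kc xc11 yc17 zc43) (kc xc11 yc17 zc50) (kc xc8 yc2 zc12) (kc xc2 yc47 zc59) (kc xc8 yc45 zc26) (kc xc9 yc9 zc49) (kc xc2 yc47 zc61) (kc xc11 yc17 zc58) (kc xc3 yc41 zc26)) (@D3.rec (fun _ => Pt) (kc xc2 yc48 zc0) (kc xc11 yc18 zc0) (kc xc7 yc59 zc33) (kc xc11 yc6 zc36) (kc xc9 yc3 zc33) (kc xc9 yc46 zc5) (kc xc2 yc48 zc2) (kc xc11 yc18 zc20) (kc xc11 yc18 zc24) (kc xc11 yc18 zc18) (kc xc4 yc57 zc34) (kc xc2 yc48 zc3) (kc xc7 yc29 zc8) (kc xc5 yc40 zc4) (kc xc11 yc16 zc46) (kc xc8 yc32 zc52) (kc xc7 yc23 zc23) (kc xc2 yc48 zc5) (kc xc11 yc18 zc41) (kc xc11 yc18 zc44) (kc xc11 yc18 zc48) (kc xc11 yc18 zc40) (kc xc9 yc9 zc19) (kc xc9 yc9 zc40) (kc xc9 yc45 zc58) (kc xc2 yc48 zc8) (kc xc11 yc18 zc58) (kc xc11 yc18 zc60) (kc xc11 yc18 zc57)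 (kc xc11 yc19 zc2) (kc xc2 yc48 zc9) (kc xc7 yc20 zc33) (kc xc11 yc19 zc5) (kc xc11 yc19 zc11) (kc xc2 yc48 zc10) (kc xc9 yc45 zc54) (kc xc11 yc19 zc13) (kc xc11 yc19 zc18) (kc xc11 yc19 zc21) (kc xc2 yc48 zc36) (kc xc11 yc19 zc25) (kc xc2 yc48 zc37) (kc xc9 yc45 zc41) (kc xc9 yc45 zc27) (kc xc2 yc48 zc12) (kc xc11 yc19 zc35) (kc xc9 yc45 zc47) (kc xc11 yc19 zc40) (kc xc11 yc19 zc44) (kc xc11 yc19 zc49) (kc xc2 yc48 zc17) (kc xc2 yc48 zc18) (kc xc11 yc19 zc57) (kc xc2 yc48 zc15) (kc xc11 yc20 zc3) (kc xc11 yc20 zc1) (kc xc11 yc20 zc10) (kc xc2 yc48 zc16) (kc xc11 yc20 zc16) (kc xc11 yc20 zc15) (kc xc11 yc19 zc51) (kc xc11 yc20 zc21)) (@D3.rec (fun _ => Pt) (kc xc11 yc20 zc25) (kc xc11 yc20 zc30) (kc xc2 yc55 zc50) (kc xc11 yc20 zc32) (kc xc11 yc20 zc34) (kc xc11 yc20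 zc36) (kc xc2 yc48 zc20) (kc xc2 yc48 zc21) (kc xc11 yc20 zc44) (kc xc11 yc13 zc21) (kc xc5 yc40 zc1) (kc xc11 yc20 zc53) (kc xc2 yc48 zc23) (kc xc11 yc20 zc60) (kc xc11 yc21 zc2) (kc xc11 yc21 zc5) (kc xc11 yc20 zc58) (kc xc11 yc21 zc6) (kc xc5 yc3 zc15) (kc xc6 yc2 zc3) (kc xc5 yc3 zc14) (kc xc11 yc1 zc45) (kc xc2 yc48 zc28) (kc xc11 yc21 zc13) (kc xc11 yc15 zc29) (kc xc5 yc38 zc8) (kc xc11 yc21 zc22) (kc xc2 yc48 zc30) (kc xc11 yc21 zc27) (kc xc11 yc21 zc30) (kc xc5 yc59 zc43) (kc xc11 yc21 zc25) (kc xc11 yc21 zc32) (kc xc2 yc51 zc33) (kc xc5 yc49 zc45) (kc xc2 yc48 zc34) (kc xc11 yc21 zc39) (kc xc2 yc48 zc35) (kc xc11 yc19 zc23) (kc xc11 yc21 zc45) (kc xc11 yc21 zc48) (kc xc11 yc21 zc51) (kc xc11 yc19 zc30) (kc xc11 yc21 zc54) (kc xc9 yc32 zc50) (kc xc7 yc59 zc48)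 (kc xc11 yc21 zc60) (kc xc6 yc20 zc1) (kc xc2 yc48 zc40) (kc xc11 yc22 zc1) (kc xc11 yc22 zc2) (kc xc2 yc48 zc42) (kc xc9 yc15 zc42) (kc xc11 yc22 zc7) (kc xc3 yc59 zc15) (kc xc11 yc22 zc5) (kc xc9 yc32 zc53) (kc xc2 yc48 zc45) (kc xc3 yc2 zc54) (kc xc3 yc12 zc54) (kc xc11 yc16 zc29) (kc xc11 yc22 zc20)) (@D3.rec (fun _ => Pt) (kc xc6 yc26 zc60) (kc xc11 yc22 zc21) (kc xc11 yc22 zc22) (kc xc2 yc48 zc46) (kc xc11 yc22 zc31) (kc xc11 yc22 zc28) (kc xc11 yc22 zc26) (kc xc6 yc2 zc2) (kc xc6 yc27 zc1) (kc xc2 yc50 zc30) (kc xc11 yc22 zc38) (kc xc2 yc48 zc51) (kc xc11 yc22 zc45) (kc xc11 yc22 zc42) (kc xc11 yc22 zc47) (kc xc2 yc48 zc52) (kc xc11 yc22 zc50) (kc xc5 yc41 zc12) (kc xc11 yc22 zc52) (kc xc11 yc22 zc54) (kc xc2 yc48 zc53) (kc xc11 yc20 zc40) (kc xc3 yc3 zc58) (kc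 xc6 yc4 zc14) (kc xc11 yc23 zc2) (kc xc2 yc49 zc7) (kc xc2 yc48 zc58) (kc xc11 yc23 zc4) (kc xc8 yc37 zc41) (kc xc9 yc1 zc18) (kc xc11 yc23 zc12) (kc xc2 yc49 zc10) (kc xc6 yc14 zc12) (kc xc6 yc14 zc13) (kc xc11 yc23 zc22) (kc xc6 yc24 zc23) (kc xc11 yc23 zc24) (kc xc3 yc3 zc34) (kc xc5 yc46 zc45) (kc xc11 yc23 zc28) (kc xc11 yc23 zc30) (kc xc11 yc23 zc33) (kc xc2 yc49 zc1) (kc xc11 yc23 zc39) (kc xc11 yc23 zc41) (kc xc5 yc46 zc38) (kc xc11 yc23 zc44) (kc xc8 yc49 zc38) (kc xc6 yc31 zc23) (kc xc8 yc42 zc55) (kc xc2 yc49 zc9) (kc xc11 yc15 zc1) (kc xc2 yc49 zc12) (kc xc11 yc23 zc55) (kc xc2 yc49 zc13) (kc xc11 yc23 zc58) (kc xc2 yc49 zc14) (kc xc11 yc24 zc0) (kc xc11 yc23 zc50) (kc xc2 yc49 zc16) (kc xc11 yc24 zc8) (kc xc11 yc24 zc11)) (@D3.rec (fun _ => Pt) (kc xc2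 yc49 zc22) (kc xc11 yc24 zc13) (kc xc11 yc16 zc40) (kc xc5 yc58 zc5) (kc xc2 yc49 zc25) (kc xc11 yc24 zc24) (kc xc11 yc24 zc28) (kc xc11 yc17 zc1) (kc xc11 yc24 zc22) (kc xc9 yc0 zc9) (kc xc11 yc6 zc26) (kc xc11 yc6 zc27) (kc xc2 yc49 zc29) (kc xc6 yc51 zc18) (kc xc11 yc16 zc61) (kc xc7 yc57 zc19) (kc xc2 yc49 zc33) (kc xc11 yc24 zc41) (kc xc5 yc49 zc24) (kc xc9 yc4 zc44) (kc xc2 yc49 zc38) (kc xc11 yc24 zc45) (kc xc4 yc24 zc18) (kc xc6 yc32 zc0) (kc xc2 yc49 zc41) (kc xc11 yc22 zc9) (kc xc2 yc49 zc42) (kc xc11 yc24 zc53) (kc xc5 yc56 zc29) (kc xc2 yc49 zc43) (kc xc11 yc24 zc49) (kc xc5 yc50 zc42) (kc xc11 yc24 zc58) (kc xc2 yc49 zc45) (kc xc11 yc25 zc0) (kc xc11 yc25 zc4) (kc xc10 yc17 zc55) (kc xc11 yc25 zc7) (kc xc6 yc2 zc43) (kc xc4 yc7 zc27) (kc xc11 yc25 zc9)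 (kc xc3 yc6 zc8) (kc xc9 yc7 zc9) (kc xc6 yc14 zc60) (kc xc2 yc54 zc39) (kc xc5 yc56 zc30) (kc xc6 yc36 zc47) (kc xc5 yc49 zc46) (kc xc9 yc6 zc22) (kc xc11 yc25 zc21) (kc xc7 yc42 zc13) (kc xc4 yc39 zc35) (kc xc9 yc9 zc20) (kc xc6 yc24 zc46) (kc xc2 yc49 zc61) (kc xc4 yc39 zc58) (kc xc9 yc10 zc0) (kc xc4 yc13 zc28) (kc xc4 yc13 zc29) (kc xc9 yc7 zc47) (kc xc7 yc42 zc4) (kc xc5 yc12 zc29)) (@D3.rec (fun _ => Pt) (kc xc10 yc5 zc56) (kc xc2 yc50 zc3) (kc xc11 yc25 zc41) (kc xc11 yc25 zc44) (kc xc11 yc25 zc40) (kc xc2 yc50 zc4) (kc xc9 yc5 zc23) (kc xc2 yc50 zc6) (kc xc11 yc25 zc53) (kc xc7 yc45 zc23) (kc xc7 yc51 zc15) (kc xc11 yc25 zc52) (kc xc4 yc24 zc2) (kc xc11 yc25 zc61) (kc xc4 yc38 zc30) (kc xc6 yc2 zc19) (kc xc6 yc44 zc20) (kc xc2 yc50 zc13) (kc xc11 yc26 zc5)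 (kc xc5 yc50 zc60) (kc xc5 yc51 zc2) (kc xc7 yc42 zc3) (kc xc9 yc30 zc12) (kc xc9 yc30 zc13) (kc xc11 yc26 zc16) (kc xc2 yc50 zc21) (kc xc11 yc26 zc20) (kc xc2 yc50 zc18) (kc xc11 yc26 zc27) (kc xc11 yc26 zc24) (kc xc6 yc44 zc37) (kc xc2 yc50 zc19) (kc xc11 yc26 zc34) (kc xc11 yc26 zc33) (kc xc11 yc26 zc38) (kc xc11 yc26 zc42) (kc xc2 yc50 zc20) (kc xc11 yc26 zc47) (kc xc4 yc24 zc1) (kc xc2 yc50 zc22) (kc xc11 yc16 zc20) (kc xc7 yc21 zc26) (kc xc3 yc40 zc37) (kc xc2 yc50 zc24) (kc xc11 yc26 zc53) (kc xc11 yc26 zc55) (kc xc2 yc50 zc25) (kc xc11 yc26 zc59) (kc xc11 yc17 zc27) (kc xc2 yc50 zc27) (kc xc11 yc27 zc6) (kc xc11 yc27 zc7) (kc xc5 yc38 zc31) (kc xc11 yc27 zc8) (kc xc10 yc18 zc4) (kc xc2 yc50 zc29) (kc xc11 yc1 zc14) (kc xc5 yc7 zc20) (kc xc9 yc5 zc6) (kc xc11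 yc27 zc20) (kc xc11 yc27 zc21) (kc xc3 yc13 zc6)) (@D3.rec (fun _ => Pt) (kc xc11 yc27 zc24) (kc xc9 yc1 zc37) (kc xc11 yc27 zc25) (kc xc4 yc0 zc46) (kc xc11 yc27 zc27) (kc xc11 yc27 zc29) (kc xc2 yc50 zc37) (kc xc5 yc40 zc16) (kc xc2 yc50 zc39) (kc xc11 yc27 zc31) (kc xc11 yc1 zc7) (kc xc6 yc14 zc47) (kc xc2 yc50 zc43) (kc xc11 yc27 zc34) (kc xc6 yc0 zc10) (kc xc2 yc50 zc42) (kc xc9 yc4 zc0) (kc xc11 yc27 zc40) (kc xc11 yc27 zc41) (kc xc9 yc9 zc1) (kc xc2 yc50 zc45) (kc xc4 yc0 zc50) (kc xc2 yc50 zc46) (kc xc11 yc27 zc45) (kc xc5 yc47 zc18) (kc xc5 yc37 zc35) (kc xc4 yc39 zc12) (kc xc6 yc16 zc38) (kc xc2 yc50 zc49) (kc xc11 yc27 zc49) (kc xc9 yc25 zc8) (kc xc5 yc52 zc50) (kc xc8 yc0 zc56) (kc xc11 yc27 zc56) (kc xc4 yc26 zc7) (kc xc2 yc50 zc55) (kc xc11 yc6 zc35) (kc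 xc11 yc27 zc60) (kc xc6 yc15 zc18) (kc xc3 yc48 zc21) (kc xc7 yc51 zc44) (kc xc7 yc23 zc6) (kc xc11 yc28 zc4) (kc xc2 yc50 zc59) (kc xc11 yc28 zc9) (kc xc5 yc45 zc34) (kc xc5 yc47 zc47) (kc xc8 yc2 zc9) (kc xc11 yc28 zc14) (kc xc6 yc17 zc9) (kc xc2 yc51 zc1) (kc xc11 yc28 zc15) (kc xc5 yc37 zc19) (kc xc11 yc28 zc20) (kc xc4 yc25 zc54) (kc xc4 yc33 zc30) (kc xc4 yc33 zc29) (kc xc10 yc49 zc3) (kc xc2 yc51 zc5) (kc xc2 yc53 zc42) (kc xc5 yc54 zc27) (kc xc9 yc8 zc40)) (@D3.rec (fun _ => Pt) (kc xc4 yc7 zc5) (kc xc6 yc50 zc60) (kc xc3 yc0 zc25) (kc xc2 yc55 zc29) (kc xc2 yc51 zc12) (kc xc11 yc28 zc32) (kc xc11 yc28 zc31) (kc xc2 yc51 zc14) (kc xc11 yc28 zc41) (kc xc9 yc15 zc18) (kc xc6 yc1 zc42) (kc xc6 yc1 zc48) (kc xc2 yc51 zc17) (kc xc9 yc49 zc9) (kc xc3 yc10 zc20) (kc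 xc4 yc38 zc8) (kc xc2 yc57 zc26) (kc xc2 yc57 zc27) (kc xc9 yc29 zc9) (kc xc2 yc51 zc24) (kc xc6 yc2 zc58) (kc xc2 yc51 zc22) (kc xc3 yc13 zc24) (kc xc10 yc17 zc22) (kc xc6 yc0 zc14) (kc xc2 yc51 zc23) (kc xc4 yc40 zc4) (kc xc11 yc28 zc51) (kc xc11 yc28 zc52) (kc xc2 yc51 zc25) (kc xc6 yc16 zc7) (kc xc10 yc18 zc8) (kc xc6 yc7 zc23) (kc xc6 yc7 zc24) (kc xc2 yc51 zc28) (kc xc3 yc26 zc51) (kc xc11 yc29 zc1) (kc xc2 yc51 zc29) (kc xc8 yc12 zc4) (kc xc9 yc50 zc58) (kc xc2 yc51 zc31) (kc xc11 yc29 zc6) (kc xc5 yc47 zc31) (kc xc11 yc16 zc31) (kc xc6 yc8 zc11) (kc xc11 yc29 zc5) (kc xc4 yc39 zc54) (kc xc4 yc7 zc25) (kc xc6 yc15 zc6) (kc xc3 yc42 zc16) (kc xc7 yc20 zc22) (kc xc2 yc51 zc37) (kc xc11 yc29 zc15) (kc xc4 yc38 zc5) (kc xc2 yc51 zc39) (kc xc11 yc29 zc22) (kc xc8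 yc12 zc54) (kc xc4 yc24 zc34) (kc xc8 yc47 zc43) (kc xc11 yc29 zc28) (kc xc5 yc48 zc19) (kc xc11 yc29 zc31)) (@D3.rec (fun _ => Pt) (kc xc2 yc51 zc45) (kc xc8 yc49 zc46) (kc xc5 yc48 zc20) (kc xc7 yc26 zc29) (kc xc11 yc29 zc37) (kc xc7 yc2 zc13) (kc xc9 yc16 zc16) (kc xc4 yc35 zc26) (kc xc5 yc56 zc43) (kc xc2 yc55 zc17) (kc xc2 yc51 zc52) (kc xc11 yc29 zc51) (kc xc11 yc29 zc53) (kc xc11 yc29 zc50) (kc xc2 yc51 zc53) (kc xc9 yc56 zc8) (kc xc11 yc29 zc56) (kc xc2 yc51 zc55) (kc xc11 yc30 zc3) (kc xc11 yc30 zc2) (kc xc7 yc30 zc37) (kc xc9 yc5 zc47) (kc xc6 yc15 zc35) (kc xc2 yc51 zc58) (kc xc11 yc30 zc11) (kc xc6 yc28 zc12) (kc xc2 yc51 zc59) (kc xc6 yc20 zc8) (kc xc11 yc30 zc19) (kc xc11 yc30 zc25) (kc xc2 yc51 zc60) (kc xc6 yc20 zc7) (kc xc11 yc30 zc29) (kc xc2 yc55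 zc22) (kc xc6 yc0 zc33) (kc xc2 yc52 zc1) (kc xc10 yc0 zc12) (kc xc11 yc30 zc38) (kc xc11 yc30 zc36) (kc xc9 yc13 zc41) (kc xc11 yc30 zc40) (kc xc3 yc3 zc10) (kc xc2 yc52 zc5) (kc xc5 yc13 zc57) (kc xc4 yc36 zc42) (kc xc6 yc16 zc12) (kc xc4 yc42 zc50) (kc xc11 yc30 zc52) (kc xc5 yc13 zc54) (kc xc2 yc52 zc8) (kc xc9 yc51 zc7) (kc xc6 yc31 zc8) (kc xc7 yc31 zc28) (kc xc3 yc17 zc36) (kc xc3 yc17 zc3) (kc xc6 yc28 zc56) (kc xc3 yc3 zc4) (kc xc3 yc8 zc50) (kc xc11 yc28 zc28) (kc xc7 yc27 zc25) (kc xc7 yc27 zc26) (kc xc6 yc29 zc0)) (@D3.rec (fun _ => Pt) (kc xc3 yc10 zc34) (kc xc9 yc6 zc15) (kc xc2 yc52 zc19) (kc xc11 yc31 zc7) (kc xc10 yc48 zc33) (kc xc11 yc31 zc6) (kc xc5 yc54 zc45) (kc xc5 yc54 zc43) (kc xc2 yc52 zc22) (kc xc11 yc31 zc12) (kc xc6 yc8 zc27) (kc xc5 yc58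 zc13) (kc xc5 yc58 zc11) (kc xc4 yc6 zc6) (kc xc4 yc39 zc53) (kc xc7 yc33 zc55) (kc xc4 yc34 zc42) (kc xc3 yc17 zc46) (kc xc4 yc32 zc5) (kc xc9 yc10 zc24) (kc xc9 yc10 zc25) (kc xc10 yc15 zc29) (kc xc2 yc52 zc33) (kc xc4 yc36 zc19) (kc xc2 yc52 zc30) (kc xc10 yc14 zc28) (kc xc6 yc8 zc30) (kc xc5 yc59 zc2) (kc xc2 yc52 zc31) (kc xc11 yc31 zc28) (kc xc8 yc56 zc10) (kc xc11 yc31 zc32) (kc xc11 yc31 zc35) (kc xc2 yc52 zc32) (kc xc11 yc31 zc38) (kc xc11 yc31 zc39) (kc xc2 yc52 zc34) (kc xc11 yc31 zc42) (kc xc5 yc59 zc16) (kc xc2 yc52 zc35) (kc xc2 yc57 zc53) (kc xc2 yc57 zc52) (kc xc11 yc31 zc46) (kc xc11 yc31 zc48) (kc xc2 yc52 zc37) (kc xc11 yc31 zc51) (kc xc3 yc2 zc53) (kc xc3 yc11 zc27) (kc xc2 yc52 zc39) (kc xc11 yc31 zc57) (kc xc5 yc49 zc31) (kc xc4 yc43 zc53) (kc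 xc11 yc31 zc61) (kc xc11 yc32 zc0) (kc xc6 yc7 zc9) (kc xc2 yc52 zc44) (kc xc11 yc32 zc2) (kc xc11 yc32 zc4) (kc xc11 yc32 zc6) (kc xc11 yc32 zc8) (kc xc11 yc32 zc11) (kc xc2 yc52 zc47)) (@D3.rec (fun _ => Pt) (kc xc11 yc20 zc38) (kc xc11 yc20 zc39) (kc xc2 yc52 zc48) (kc xc11 yc32 zc15) (kc xc7 yc34 zc56) (kc xc2 yc52 zc50) (kc xc11 yc32 zc19) (kc xc2 yc52 zc52) (kc xc11 yc32 zc23) (kc xc11 yc32 zc25) (kc xc11 yc32 zc26) (kc xc11 yc32 zc29) (kc xc2 yc52 zc56) (kc xc11 yc32 zc31) (kc xc5 yc26 zc53) (kc xc7 yc40 zc4) (kc xc11 yc32 zc37) (kc xc2 yc52 zc60) (kc xc11 yc32 zc40) (kc xc11 yc32 zc44) (kc xc2 yc52 zc61) (kc xc11 yc32 zc49) (kc xc11 yc32 zc47) (kc xc2 yc59 zc13) (kc xc2 yc59 zc12) (kc xc6 yc53 zc17) (kc xc11 yc8 zc10) (kc xc11 yc32 zc56) (kc xc5 yc14 zc22) (kc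 xc11 yc32 zc59) (kc xc11 yc32 zc61) (kc xc2 yc53 zc5) (kc xc11 yc33 zc2) (kc xc11 yc33 zc9) (kc xc6 yc25 zc36) (kc xc2 yc53 zc8) (kc xc11 yc33 zc12) (kc xc2 yc53 zc9) (kc xc10 yc47 zc13) (kc xc11 yc33 zc15) (kc xc2 yc53 zc10) (kc xc11 yc33 zc19) (kc xc2 yc53 zc12) (kc xc11 yc33 zc23) (kc xc2 yc53 zc13) (kc xc11 yc33 zc24) (kc xc11 yc33 zc21) (kc xc4 yc44 zc48) (kc xc2 yc53 zc15) (kc xc11 yc33 zc31) (kc xc4 yc20 zc38) (kc xc2 yc53 zc17) (kc xc11 yc33 zc35) (kc xc5 yc7 zc17) (kc xc11 yc33 zc41) (kc xc2 yc53 zc23) (kc xc4 yc44 zc46) (kc xc2 yc53 zc20) (kc xc11 yc33 zc43) (kc xc2 yc53 zc21) (kc xc11 yc33 zc46) (kc xc11 yc33 zc48)) (@D3.rec (fun _ => Pt) (kc xc11 yc33 zc49) (kc xc2 yc53 zc22) (kc xc8 yc12 zc42) (kc xc2 yc56 zc61) (kc xc2 yc53 zc25) (kc xc11 yc33 zc57) (kc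 xc11 yc34 zc1) (kc xc2 yc53 zc28) (kc xc6 yc59 zc53) (kc xc2 yc53 zc29) (kc xc11 yc34 zc6) (kc xc2 yc53 zc30) (kc xc11 yc34 zc12) (kc xc4 yc42 zc48) (kc xc9 yc8 zc14) (kc xc2 yc53 zc32) (kc xc11 yc34 zc22) (kc xc11 yc34 zc26) (kc xc11 yc34 zc31) (kc xc11 yc34 zc20) (kc xc4 yc35 zc23) (kc xc11 yc34 zc35) (kc xc5 yc41 zc15) (kc xc11 yc34 zc37) (kc xc11 yc34 zc40) (kc xc2 yc53 zc35) (kc xc11 yc34 zc46) (kc xc5 yc49 zc60) (kc xc2 yc53 zc38) (kc xc11 yc34 zc48) (kc xc11 yc30 zc49) (kc xc11 yc28 zc53) (kc xc2 yc53 zc39) (kc xc3 yc0 zc19) (kc xc3 yc0 zc20) (kc xc9 yc22 zc54) (kc xc2 yc53 zc41) (kc xc11 yc34 zc50) (kc xc11 yc34 zc59) (kc xc5 yc26 zc3) (kc xc9 yc16 zc15) (kc xc6 yc0 zc39) (kc xc11 yc28 zc24) (kc xc5 yc52 zc7) (kc xc4 yc46 zc37) (kc xc5 yc52 zc6) (kc xc6 yc59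 zc50) (kc xc9 yc16 zc31) (kc xc2 yc53 zc44) (kc xc11 yc8 zc27) (kc xc5 yc14 zc10) (kc xc11 yc35 zc11) (kc xc2 yc53 zc48) (kc xc11 yc35 zc13) (kc xc2 yc53 zc47) (kc xc11 yc35 zc16) (kc xc11 yc35 zc20) (kc xc2 yc53 zc49) (kc xc6 yc51 zc9) (kc xc8 yc25 zc51) (kc xc11 yc35 zc23) (kc xc2 yc53 zc51)) (@D3.rec (fun _ => Pt) (kc xc11 yc35 zc26) (kc xc10 yc5 zc55) (kc xc2 yc53 zc52) (kc xc11 yc35 zc34) (kc xc2 yc53 zc53) (kc xc11 yc35 zc38) (kc xc8 yc12 zc15) (kc xc2 yc54 zc3) (kc xc11 yc35 zc49) (kc xc2 yc53 zc55) (kc xc11 yc35 zc52) (kc xc2 yc53 zc56) (kc xc7 yc40 zc52) (kc xc11 yc35 zc56) (kc xc6 yc19 zc29) (kc xc3 yc3 zc2) (kc xc3 yc26 zc31) (kc xc3 yc48 zc14) (kc xc3 yc17 zc37) (kc xc3 yc2 zc51) (kc xc7 yc41 zc8) (kc xc7 yc33 zc53) (kc xc6 yc10 zc47) (kc xc11 yc35 zc8)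 (kc xc11 yc36 zc8) (kc xc11 yc36 zc11) (kc xc11 yc35 zc45) (kc xc5 yc11 zc49) (kc xc5 yc11 zc50) (kc xc11 yc36 zc16) (kc xc5 yc13 zc55) (kc xc11 yc36 zc18) (kc xc2 yc54 zc6) (kc xc11 yc36 zc22) (kc xc3 yc24 zc0) (kc xc8 yc0 zc30) (kc xc4 yc58 zc39) (kc xc2 yc54 zc8) (kc xc9 yc49 zc8) (kc xc2 yc54 zc10) (kc xc11 yc36 zc31) (kc xc11 yc36 zc36) (kc xc9 yc49 zc7) (kc xc11 yc36 zc21) (kc xc2 yc54 zc13) (kc xc11 yc36 zc43) (kc xc2 yc54 zc14) (kc xc2 yc54 zc15) (kc xc11 yc36 zc45) (kc xc11 yc36 zc50) (kc xc11 yc36 zc54) (kc xc9 yc7 zc19) (kc xc8 yc46 zc44) (kc xc2 yc54 zc18) (kc xc11 yc36 zc58) (kc xc11 yc36 zc60) (kc xc11 yc37 zc2) (kc xc11 yc36 zc55) (kc xc11 yc37 zc4) (kc xc11 yc37 zc5) (kc xc2 yc54 zc19) (kc xc11 yc37 zc10)) (@D3.rec (fun _ => Pt) (kc xc2 yc57 zc14) (kc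 xc2 yc54 zc22) (kc xc11 yc37 zc15) (kc xc11 yc37 zc18) (kc xc2 yc54 zc24) (kc xc11 yc37 zc21) (kc xc11 yc37 zc28) (kc xc11 yc37 zc29) (kc xc2 yc54 zc26) (kc xc11 yc37 zc32) (kc xc2 yc54 zc27) (kc xc11 yc37 zc35) (kc xc4 yc41 zc20) (kc xc4 yc41 zc21) (kc xc3 yc57 zc48) (kc xc3 yc15 zc33) (kc xc2 yc54 zc29) (kc xc11 yc37 zc51) (kc xc11 yc37 zc54) (kc xc11 yc37 zc59) (kc xc11 yc37 zc49) (kc xc2 yc54 zc30) (kc xc11 yc38 zc1) (kc xc2 yc54 zc31) (kc xc11 yc38 zc4) (kc xc11 yc38 zc7) (kc xc11 yc38 zc11) (kc xc2 yc54 zc32) (kc xc11 yc38 zc17) (kc xc5 yc47 zc28) (kc xc5 yc47 zc45) (kc xc2 yc54 zc35) (kc xc11 yc38 zc23) (kc xc11 yc38 zc22) (kc xc9 yc47 zc47) (kc xc9 yc47 zc45) (kc xc9 yc49 zc11) (kc xc2 yc54 zc38) (kc xc11 yc38 zc35) (kc xc11 yc38 zc39) (kc xc11 yc38 zc34) (kc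 xc3 yc15 zc51) (kc xc11 yc25 zc13) (kc xc5 yc51 zc8) (kc xc11 yc37 zc20) (kc xc2 yc54 zc41) (kc xc11 yc38 zc47) (kc xc11 yc38 zc51) (kc xc2 yc54 zc46) (kc xc11 yc27 zc47) (kc xc2 yc54 zc43) (kc xc11 yc38 zc60) (kc xc11 yc38 zc58) (kc xc9 yc48 zc31) (kc xc2 yc54 zc44) (kc xc11 yc39 zc7) (kc xc11 yc39 zc6) (kc xc11 yc39 zc9) (kc xc11 yc39 zc12) (kc xc2 yc54 zc45) (kc xc11 yc39 zc16) (kc xc6 yc13 zc19)) (@D3.rec (fun _ => Pt) (kc xc11 yc39 zc19) (kc xc2 yc54 zc48) (kc xc11 yc39 zc23) (kc xc2 yc54 zc49) (kc xc11 yc39 zc31) (kc xc11 yc39 zc30) (kc xc9 yc48 zc44) (kc xc2 yc54 zc50) (kc xc11 yc39 zc34) (kc xc11 yc39 zc36) (kc xc11 yc8 zc2) (kc xc11 yc39 zc43) (kc xc2 yc54 zc52) (kc xc11 yc39 zc46) (kc xc6 yc53 zc9) (kc xc11 yc39 zc50) (kc xc2 yc54 zc53) (kc xc11 yc39 zc53)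 (kc xc3 yc13 zc5) (kc xc3 yc14 zc29) (kc xc2 yc54 zc55) (kc xc11 yc39 zc61) (kc xc11 yc39 zc59) (kc xc11 yc40 zc1) (kc xc11 yc40 zc2) (kc xc5 yc35 zc3) (kc xc11 yc40 zc3) (kc xc2 yc54 zc61) (kc xc4 yc56 zc29) (kc xc4 yc56 zc32) (kc xc2 yc55 zc1) (kc xc7 yc42 zc8) (kc xc6 yc28 zc55) (kc xc4 yc58 zc31) (kc xc7 yc42 zc7) (kc xc9 yc26 zc6) (kc xc9 yc49 zc10) (kc xc9 yc47 zc49) (kc xc2 yc55 zc30) (kc xc5 yc58 zc25) (kc xc2 yc55 zc10) (kc xc9 yc47 zc55) (kc xc5 yc14 zc46) (kc xc3 yc43 zc16) (kc xc6 yc34 zc12) (kc xc6 yc46 zc22) (kc xc9 yc17 zc42) (kc xc2 yc55 zc12) (kc xc10 yc18 zc47) (kc xc2 yc55 zc14) (kc xc2 yc56 zc12) (kc xc2 yc55 zc16) (kc xc11 yc40 zc30) (kc xc11 yc29 zc46) (kc xc10 yc6 zc5) (kc xc2 yc55 zc19) (kc xc11 yc40 zc35) (kc xc6 yc55 zc59) (kc xc2 yc55 zc21)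 (kc xc10 yc18 zc61) (kc xc10 yc18 zc60) (kc xc7 yc27 zc10)) (@D3.rec (fun _ => Pt) (kc xc7 yc31 zc26) (kc xc11 yc30 zc31) (kc xc5 yc14 zc17) (kc xc2 yc55 zc24) (kc xc9 yc9 zc57) (kc xc5 yc47 zc3) (kc xc2 yc55 zc27) (kc xc11 yc40 zc56) (kc xc11 yc40 zc58) (kc xc10 yc19 zc8) (kc xc11 yc40 zc55) (kc xc5 yc52 zc12) (kc xc9 yc49 zc13) (kc xc5 yc52 zc11) (kc xc9 yc49 zc14) (kc xc11 yc28 zc30) (kc xc11 yc41 zc11) (kc xc8 yc48 zc20) (kc xc11 yc40 zc16) (kc xc8 yc48 zc6) (kc xc11 yc40 zc17) (kc xc5 yc58 zc51) (kc xc11 yc40 zc29) (kc xc11 yc40 zc27) (kc xc9 yc49 zc59) (kc xc5 yc57 zc39) (kc xc2 yc55 zc37) (kc xc3 yc50 zc51) (kc xc11 yc41 zc30) (kc xc6 yc30 zc14) (kc xc2 yc55 zc39) (kc xc6 yc30 zc17) (kc xc4 yc7 zc15) (kc xc2 yc55 zc41) (kc xc6 yc31 zc33) (kc xc2 yc55 zc42) (kc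 xc9 yc5 zc55) (kc xc7 yc42 zc9) (kc xc11 yc41 zc42) (kc xc2 yc55 zc54) (kc xc3 yc29 zc57) (kc xc2 yc55 zc47) (kc xc9 yc6 zc23) (kc xc9 yc6 zc24) (kc xc11 yc41 zc59) (kc xc11 yc41 zc51) (kc xc11 yc8 zc11) (kc xc9 yc6 zc47) (kc xc9 yc6 zc48) (kc xc2 yc55 zc49) (kc xc11 yc42 zc3) (kc xc5 yc58 zc21) (kc xc2 yc55 zc52) (kc xc11 yc42 zc10) (kc xc11 yc42 zc12) (kc xc11 yc42 zc17) (kc xc11 yc31 zc55) (kc xc11 yc42 zc19) (kc xc2 yc55 zc53) (kc xc11 yc41 zc44) (kc xc6 yc15 zc21) (kc xc11 yc41 zc46)) (@D3.rec (fun _ => Pt) (kc xc9 yc49 zc57) (kc xc11 yc42 zc31) (kc xc5 yc52 zc27) (kc xc11 yc42 zc39) (kc xc2 yc55 zc59) (kc xc2 yc55 zc57) (kc xc11 yc42 zc44) (kc xc11 yc42 zc43) (kc xc11 yc42 zc45) (kc xc2 yc55 zc58) (kc xc11 yc42 zc50) (kc xc2 yc55 zc60) (kc xc11 yc42 zc54) (kc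 xc2 yc55 zc61) (kc xc5 yc38 zc35) (kc xc11 yc42 zc61) (kc xc5 yc52 zc38) (kc xc11 yc42 zc1) (kc xc11 yc43 zc10) (kc xc2 yc56 zc1) (kc xc11 yc43 zc13) (kc xc11 yc43 zc15) (kc xc9 yc10 zc57) (kc xc9 yc50 zc2) (kc xc8 yc0 zc44) (kc xc11 yc43 zc29) (kc xc2 yc56 zc7) (kc xc11 yc43 zc31) (kc xc2 yc56 zc5) (kc xc11 yc43 zc37) (kc xc11 yc43 zc36) (kc xc4 yc59 zc50) (kc xc2 yc56 zc6) (kc xc11 yc43 zc43) (kc xc3 yc40 zc25) (kc xc4 yc59 zc41) (kc xc2 yc56 zc13) (kc xc4 yc48 zc46) (kc xc2 yc56 zc10) (kc xc9 yc49 zc16) (kc xc9 yc49 zc17) (kc xc8 yc2 zc30) (kc xc11 yc43 zc52) (kc xc5 yc45 zc30) (kc xc5 yc26 zc52) (kc xc6 yc56 zc40) (kc xc11 yc44 zc1) (kc xc8 yc50 zc29) (kc xc11 yc43 zc46) (kc xc8 yc48 zc14) (kc xc11 yc43 zc48) (kc xc9 yc47 zc46) (kc xc9 yc47 zc48) (kc xc9 yc49 zc53)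 (kc xc11 yc44 zc17) (kc xc11 yc44 zc21) (kc xc2 yc56 zc19) (kc xc11 yc44 zc25) (kc xc2 yc56 zc17) (kc xc11 yc44 zc26) (kc xc7 yc30 zc53) (kc xc11 yc44 zc29))
def f_c_6 : D2 → D3 → Pt := @D2.rec (fun _ => D3 → Pt) (@D3.rec (fun _ => Pt) (kc xc8 yc2 zc29) (kc xc2 yc56 zc20) (kc xc11 yc44 zc31) (kc xc2 yc56 zc23) (kc xc2 yc56 zc22) (kc xc9 yc5 zc56) (kc xc9 yc5 zc57) (kc xc11 yc44 zc39) (kc xc3 yc29 zc40) (kc xc11 yc44 zc36) (kc xc5 yc49 zc14) (kc xc11 yc44 zc37) (kc xc9 yc49 zc46) (kc xc11 yc44 zc56) (kc xc5 yc50 zc24) (kc xc11 yc45 zc1) (kc xc2 yc56 zc29) (kc xc2 yc56 zc26) (kc xc5 yc4 zc36) (kc xc11 yc45 zc4) (kc xc2 yc56 zc27) (kc xc11 yc45 zc9) (kc xc7 yc42 zc54) (kc xc9 yc49 zc34) (kc xc9 yc49 zc35) (kc xc2 yc56 zc28) (kc xc11 yc45 zc17) (kc xc11 yc45 zc18) (kc xc11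 yc45 zc20) (kc xc6 yc38 zc19) (kc xc2 yc56 zc30) (kc xc11 yc45 zc23) (kc xc2 yc56 zc33) (kc xc5 yc51 zc34) (kc xc9 yc49 zc33) (kc xc11 yc45 zc33) (kc xc11 yc45 zc25) (kc xc9 yc23 zc42) (kc xc9 yc23 zc43) (kc xc5 yc54 zc41) (kc xc2 yc56 zc34) (kc xc3 yc4 zc8) (kc xc11 yc45 zc39) (kc xc9 yc49 zc15) (kc xc11 yc45 zc50) (kc xc9 yc49 zc40) (kc xc9 yc47 zc54) (kc xc4 yc45 zc19) (kc xc2 yc56 zc41) (kc xc11 yc46 zc3) (kc xc10 yc13 zc48) (kc xc11 yc46 zc11) (kc xc11 yc46 zc1) (kc xc2 yc56 zc42) (kc xc11 yc46 zc18) (kc xc11 yc46 zc21) (kc xc2 yc56 zc43) (kc xc11 yc46 zc24) (kc xc11 yc46 zc26) (kc xc11 yc46 zc30) (kc xc2 yc56 zc44) (kc xc11 yc46 zc37)) (@D3.rec (fun _ => Pt) (kc xc9 yc50 zc18) (kc xc4 yc59 zc49) (kc xc2 yc56 zc46) (kc xc3 yc41 zc15) (kc xc11 yc46 zc41) (kc xc6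 yc56 zc41) (kc xc11 yc46 zc39) (kc xc11 yc46 zc54) (kc xc2 yc56 zc49) (kc xc11 yc46 zc58) (kc xc11 yc46 zc60) (kc xc2 yc56 zc48) (kc xc11 yc47 zc4) (kc xc7 yc42 zc53) (kc xc11 yc47 zc6) (kc xc6 yc53 zc23) (kc xc9 yc24 zc42) (kc xc11 yc47 zc7) (kc xc2 yc56 zc50) (kc xc11 yc47 zc16) (kc xc11 yc47 zc13) (kc xc11 yc47 zc11) (kc xc11 yc47 zc22) (kc xc2 yc56 zc52) (kc xc11 yc47 zc25) (kc xc3 yc55 zc39) (kc xc9 yc48 zc43) (kc xc2 yc56 zc54) (kc xc11 yc47 zc29) (kc xc2 yc56 zc55) (kc xc11 yc47 zc35) (kc xc2 yc56 zc56) (kc xc11 yc47 zc41) (kc xc11 yc47 zc44) (kc xc2 yc56 zc57) (kc xc11 yc47 zc48) (kc xc9 yc6 zc56) (kc xc9 yc6 zc57) (kc xc2 yc58 zc4) (kc xc11 yc48 zc1) (kc xc9 yc12 zc47) (kc xc4 yc45 zc38) (kc xc5 yc50 zc10) (kc xc11 yc48 zc6) (kc xc11 yc48 zc8) (kc xc2 yc57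 zc31) (kc xc9 yc22 zc44) (kc xc11 yc33 zc54) (kc xc5 yc50 zc11) (kc xc9 yc25 zc55) (kc xc2 yc57 zc1) (kc xc11 yc48 zc15) (kc xc9 yc24 zc36) (kc xc2 yc57 zc2) (kc xc11 yc48 zc23) (kc xc8 yc12 zc13) (kc xc2 yc57 zc3) (kc xc11 yc48 zc26) (kc xc5 yc26 zc33) (kc xc11 yc48 zc30) (kc xc2 yc57 zc4) (kc xc11 yc48 zc35)) (@D3.rec (fun _ => Pt) (kc xc2 yc57 zc6) (kc xc11 yc48 zc39) (kc xc5 yc46 zc7) (kc xc5 yc45 zc19) (kc xc2 yc57 zc7) (kc xc2 yc57 zc8) (kc xc11 yc31 zc13) (kc xc11 yc48 zc45) (kc xc11 yc48 zc46) (kc xc3 yc20 zc5) (kc xc9 yc2 zc18) (kc xc9 yc13 zc14) (kc xc8 yc45 zc48) (kc xc2 yc57 zc13) (kc xc9 yc41 zc61) (kc xc11 yc48 zc55) (kc xc11 yc48 zc53) (kc xc3 yc17 zc9) (kc xc11 yc37 zc12) (kc xc5 yc48 zc15) (kc xc11 yc48 zc60) (kc xc2 yc57 zc16) (kc xc11 yc49 zc2) (kc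 xc11 yc49 zc7) (kc xc11 yc49 zc9) (kc xc9 yc42 zc41) (kc xc2 yc57 zc20) (kc xc2 yc57 zc18) (kc xc11 yc49 zc18) (kc xc11 yc49 zc16) (kc xc2 yc57 zc19) (kc xc11 yc49 zc20) (kc xc7 yc44 zc28) (kc xc6 yc8 zc17) (kc xc6 yc8 zc18) (kc xc2 yc57 zc23) (kc xc11 yc49 zc27) (kc xc11 yc49 zc24) (kc xc2 yc57 zc24) (kc xc6 yc7 zc11) (kc xc10 yc17 zc17) (kc xc3 yc19 zc35) (kc xc10 yc18 zc14) (kc xc5 yc47 zc38) (kc xc4 yc34 zc36) (kc xc4 yc34 zc37) (kc xc9 yc11 zc28) (kc xc9 yc18 zc51) (kc xc2 yc57 zc29) (kc xc11 yc49 zc41) (kc xc2 yc57 zc30) (kc xc11 yc24 zc40) (kc xc9 yc13 zc19) (kc xc6 yc14 zc49) (kc xc11 yc49 zc46) (kc xc2 yc57 zc32) (kc xc6 yc15 zc19) (kc xc11 yc49 zc51) (kc xc5 yc50 zc20) (kc xc9 yc13 zc31) (kc xc6 yc47 zc43) (kc xc2 yc57 zc34)) (@D3.rec (fun _ => Pt) (kc xc11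 yc49 zc56) (kc xc2 yc57 zc35) (kc xc2 yc57 zc36) (kc xc4 yc41 zc9) (kc xc5 yc0 zc13) (kc xc5 yc0 zc14) (kc xc8 yc2 zc24) (kc xc10 yc17 zc20) (kc xc2 yc57 zc41) (kc xc2 yc57 zc42) (kc xc11 yc50 zc4) (kc xc11 yc50 zc6) (kc xc11 yc50 zc10) (kc xc11 yc50 zc12) (kc xc11 yc50 zc14) (kc xc2 yc57 zc44) (kc xc11 yc50 zc20) (kc xc6 yc35 zc52) (kc xc6 yc35 zc53) (kc xc11 yc49 zc1) (kc xc2 yc57 zc46) (kc xc11 yc50 zc18) (kc xc2 yc57 zc48) (kc xc3 yc7 zc47) (kc xc11 yc50 zc32) (kc xc11 yc50 zc34) (kc xc11 yc50 zc35) (kc xc2 yc57 zc51) (kc xc11 yc50 zc38) (kc xc10 yc55 zc52) (kc xc4 yc39 zc29) (kc xc6 yc55 zc38) (kc xc2 yc57 zc55) (kc xc4 yc42 zc14) (kc xc6 yc22 zc31) (kc xc6 yc21 zc47) (kc xc7 yc25 zc3) (kc xc2 yc57 zc57) (kc xc11 yc31 zc36) (kc xc11 yc31 zc37) (kc xc11 yc50 zc50)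 (kc xc2 yc57 zc58) (kc xc11 yc50 zc53) (kc xc7 yc53 zc13) (kc xc2 yc57 zc60) (kc xc11 yc51 zc3) (kc xc11 yc51 zc5) (kc xc11 yc51 zc1) (kc xc2 yc57 zc61) (kc xc11 yc51 zc10) (kc xc11 yc51 zc8) (kc xc2 yc58 zc1) (kc xc11 yc51 zc15) (kc xc8 yc35 zc31) (kc xc11 yc51 zc14) (kc xc11 yc51 zc22) (kc xc6 yc4 zc12) (kc xc5 yc37 zc1) (kc xc6 yc4 zc13) (kc xc11 yc51 zc30) (kc xc11 yc51 zc33) (kc xc11 yc47 zc60)) (@D3.rec (fun _ => Pt) (kc xc11 yc51 zc39) (kc xc4 yc33 zc55) (kc xc2 yc58 zc6) (kc xc11 yc51 zc45) (kc xc11 yc51 zc43) (kc xc2 yc58 zc8) (kc xc4 yc48 zc10) (kc xc6 yc43 zc8) (kc xc6 yc22 zc27) (kc xc2 yc58 zc9) (kc xc5 yc38 zc45) (kc xc11 yc51 zc54) (kc xc6 yc3 zc56) (kc xc6 yc3 zc58) (kc xc5 yc46 zc23) (kc xc8 yc48 zc4) (kc xc4 yc0 zc14) (kc xc4 yc52 zc59) (kc xc9 yc36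 zc41) (kc xc5 yc43 zc30) (kc xc8 yc1 zc27) (kc xc7 yc55 zc27) (kc xc8 yc36 zc20) (kc xc2 yc58 zc23) (kc xc2 yc58 zc24) (kc xc11 yc52 zc17) (kc xc2 yc58 zc25) (kc xc11 yc52 zc21) (kc xc4 yc5 zc17) (kc xc4 yc54 zc52) (kc xc5 yc20 zc21) (kc xc8 yc14 zc2) (kc xc2 yc58 zc27) (kc xc11 yc52 zc38) (kc xc2 yc58 zc28) (kc xc11 yc52 zc41) (kc xc2 yc58 zc29) (kc xc11 yc52 zc45) (kc xc5 yc8 zc47) (kc xc8 yc11 zc0) (kc xc8 yc13 zc61) (kc xc2 yc58 zc32) (kc xc11 yc52 zc59) (kc xc11 yc52 zc60) (kc xc11 yc52 zc58) (kc xc8 yc14 zc11) (kc xc2 yc58 zc33) (kc xc11 yc8 zc43) (kc xc2 yc58 zc35) (kc xc11 yc53 zc0) (kc xc11 yc52 zc61) (kc xc8 yc13 zc60) (kc xc2 yc58 zc38) (kc xc11 yc53 zc9) (kc xc11 yc53 zc10) (kc xc11 yc53 zc8) (kc xc2 yc58 zc39) (kc xc11 yc53 zc11) (kc xc4 yc20 zc22) (kc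 xc4 yc15 zc3) (kc xc2 yc58 zc41) (kc xc11 yc53 zc22)) (@D3.rec (fun _ => Pt) (kc xc11 yc53 zc24) (kc xc11 yc53 zc21) (kc xc9 yc33 zc33) (kc xc9 yc33 zc31) (kc xc8 yc13 zc51) (kc xc2 yc58 zc44) (kc xc11 yc53 zc39) (kc xc11 yc53 zc41) (kc xc11 yc53 zc38) (kc xc8 yc29 zc19) (kc xc8 yc13 zc46) (kc xc8 yc38 zc31) (kc xc11 yc53 zc53) (kc xc8 yc13 zc39) (kc xc8 yc38 zc32) (kc xc11 yc54 zc0) (kc xc11 yc54 zc4) (kc xc2 yc59 zc29) (kc xc11 yc54 zc9) (kc xc2 yc59 zc31) (kc xc8 yc13 zc34) (kc xc8 yc13 zc23) (kc xc2 yc58 zc48) (kc xc11 yc54 zc18) (kc xc8 yc13 zc7) (kc xc2 yc58 zc50) (kc xc11 yc54 zc27) (kc xc11 yc54 zc29) (kc xc5 yc17 zc13) (kc xc5 yc17 zc14) (kc xc2 yc58 zc54) (kc xc5 yc17 zc43) (kc xc2 yc58 zc52) (kc xc11 yc54 zc43) (kc xc11 yc54 zc44) (kc xc11 yc54 zc42) (kc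 xc11 yc54 zc45) (kc xc11 yc54 zc47) (kc xc11 yc54 zc50) (kc xc11 yc54 zc36) (kc xc7 yc53 zc22) (kc xc11 yc54 zc54) (kc xc2 yc58 zc59) (kc xc11 yc54 zc56) (kc xc5 yc26 zc8) (kc xc2 yc58 zc61) (kc xc8 yc11 zc16) (kc xc5 yc36 zc5) (kc xc2 yc59 zc2) (kc xc5 yc16 zc9) (kc xc2 yc59 zc1) (kc xc11 yc55 zc11) (kc xc11 yc55 zc10) (kc xc11 yc55 zc12) (kc xc11 yc55 zc14) (kc xc11 yc55 zc2) (kc xc11 yc55 zc4) (kc xc8 yc0 zc57) (kc xc2 yc59 zc5) (kc xc5 yc17 zc0) (kc xc2 yc59 zc9) (kc xc5 yc17 zc58)) (@D3.rec (fun _ => Pt) (kc xc2 yc59 zc8) (kc xc11 yc55 zc31) (kc xc11 yc55 zc34) (kc xc11 yc55 zc29) (kc xc11 yc55 zc37) (kc xc11 yc55 zc39) (kc xc11 yc55 zc22) (kc xc9 yc30 zc41) (kc xc11 yc55 zc24) (kc xc3 yc0 zc3) (kc xc4 yc6 zc56) (kc xc4 yc6 zc57) (kc xc11 yc55 zc49) (kc xc11 yc55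 zc50) (kc xc11 yc55 zc52) (kc xc11 yc32 zc53) (kc xc4 yc13 zc36) (kc xc4 yc13 zc57) (kc xc2 yc59 zc17) (kc xc5 yc15 zc61) (kc xc2 yc59 zc16) (kc xc11 yc56 zc0) (kc xc11 yc56 zc2) (kc xc11 yc55 zc61) (kc xc11 yc56 zc4) (kc xc11 yc56 zc6) (kc xc11 yc55 zc57) (kc xc9 yc13 zc21) (kc xc6 yc7 zc48) (kc xc11 yc56 zc8) (kc xc11 yc56 zc9) (kc xc11 yc56 zc11) (kc xc11 yc56 zc12) (kc xc2 yc59 zc22) (kc xc9 yc55 zc43) (kc xc11 yc56 zc16) (kc xc2 yc59 zc55) (kc xc11 yc56 zc18) (kc xc11 yc56 zc19) (kc xc2 yc59 zc25) (kc xc11 yc53 zc59) (kc xc11 yc56 zc25) (kc xc2 yc59 zc27) (kc xc11 yc56 zc30) (kc xc2 yc59 zc28) (kc xc11 yc56 zc33) (kc xc11 yc56 zc35) (kc xc11 yc56 zc36) (kc xc2 yc59 zc30) (kc xc11 yc56 zc40) (kc xc11 yc54 zc12) (kc xc10 yc5 zc57) (kc xc2 yc59 zc44) (kc xc8 yc14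 zc61) (kc xc8 yc15 zc0) (kc xc9 yc15 zc19) (kc xc11 yc2 zc13) (kc xc4 yc2 zc57) (kc xc4 yc2 zc58) (kc xc2 yc59 zc38) (kc xc8 yc7 zc9) (kc xc2 yc59 zc37)) (@D3.rec (fun _ => Pt) (kc xc11 yc57 zc0) (kc xc11 yc57 zc2) (kc xc11 yc56 zc60) (kc xc11 yc57 zc4) (kc xc11 yc57 zc7) (kc xc11 yc56 zc53) (kc xc11 yc56 zc55) (kc xc11 yc57 zc8) (kc xc11 yc57 zc11) (kc xc5 yc52 zc54) (kc xc9 yc6 zc12) (kc xc6 yc2 zc39) (kc xc2 yc59 zc48) (kc xc4 yc20 zc15) (kc xc2 yc59 zc47) (kc xc10 yc15 zc56) (kc xc11 yc57 zc21) (kc xc11 yc57 zc22) (kc xc11 yc57 zc15) (kc xc11 yc57 zc17) (kc xc4 yc38 zc19) (kc xc2 yc59 zc51) (kc xc11 yc57 zc30) (kc xc5 yc50 zc32) (kc xc5 yc50 zc33) (kc xc4 yc38 zc55) (kc xc6 yc7 zc40) (kc xc2 yc59 zc53) (kc xc2 yc59 zc54) (kc xc8 yc11 zc59) (kc xc2 yc59 zc57) (kc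 xc11 yc30 zc42) (kc xc2 yc59 zc58) (kc xc10 yc5 zc11) (kc xc4 yc53 zc49) (kc xc11 yc57 zc40) (kc xc11 yc27 zc17) (kc xc11 yc27 zc16) (kc xc2 yc59 zc60) (kc xc8 yc0 zc2) (kc xc6 yc7 zc26) (kc xc11 yc57 zc46) (kc xc3 yc0 zc2) (kc xc3 yc0 zc1) (kc xc11 yc46 zc46) (kc xc11 yc57 zc55) (kc xc9 yc12 zc28) (kc xc9 yc11 zc1) (kc xc6 yc6 zc28) (kc xc4 yc33 zc60) (kc xc10 yc4 zc48) (kc xc3 yc0 zc7) (kc xc7 yc27 zc15) (kc xc5 yc6 zc31) (kc xc10 yc5 zc34) (kc xc10 yc3 zc54) (kc xc3 yc0 zc11) (kc xc11 yc57 zc61) (kc xc9 yc50 zc48) (kc xc6 yc8 zc51) (kc xc3 yc0 zc13) (kc xc11 yc25 zc46)) (@D3.rec (fun _ => Pt) (kc xc3 yc0 zc14) (kc xc11 yc40 zc60) (kc xc5 yc14 zc11) (kc xc3 yc0 zc23) (kc xc3 yc2 zc44) (kc xc3 yc0 zc16) (kc xc3 yc0 zc17) (kc xc11 yc40 zc26) (kc xc11 yc58 zc6) (kc xc11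 yc58 zc15) (kc xc11 yc58 zc16) (kc xc5 yc50 zc44) (kc xc11 yc56 zc44) (kc xc8 yc12 zc2) (kc xc4 yc34 zc44) (kc xc3 yc0 zc21) (kc xc11 yc58 zc24) (kc xc6 yc2 zc33) (kc xc6 yc2 zc34) (kc xc11 yc58 zc29) (kc xc11 yc58 zc30) (kc xc11 yc58 zc10) (kc xc11 yc24 zc59) (kc xc4 yc6 zc4) (kc xc11 yc58 zc36) (kc xc3 yc0 zc27) (kc xc11 yc58 zc31) (kc xc5 yc52 zc10) (kc xc11 yc41 zc2) (kc xc5 yc27 zc23) (kc xc5 yc52 zc26) (kc xc8 yc11 zc60) (kc xc4 yc0 zc48) (kc xc4 yc0 zc52) (kc xc8 yc49 zc43) (kc xc9 yc47 zc40) (kc xc8 yc0 zc1) (kc xc3 yc0 zc38) (kc xc11 yc58 zc45) (kc xc11 yc31 zc15) (kc xc11 yc31 zc16) (kc xc11 yc58 zc56) (kc xc3 yc0 zc42) (kc xc11 yc58 zc58) (kc xc3 yc0 zc40) (kc xc6 yc42 zc36) (kc xc7 yc53 zc20) (kc xc11 yc25 zc38) (kc xc3 yc0 zc41) (kc xc11 yc59 zc4) (kc xc11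 yc59 zc3) (kc xc6 yc7 zc59) (kc xc3 yc44 zc9) (kc xc3 yc0 zc45) (kc xc3 yc0 zc46) (kc xc9 yc13 zc29) (kc xc3 yc2 zc36) (kc xc3 yc0 zc47) (kc xc3 yc0 zc49) (kc xc11 yc59 zc11) (kc xc11 yc59 zc9) (kc xc3 yc0 zc50)) (@D3.rec (fun _ => Pt) (kc xc11 yc59 zc13) (kc xc7 yc59 zc35) (kc xc11 yc6 zc48) (kc xc3 yc0 zc53) (kc xc11 yc18 zc1) (kc xc3 yc0 zc55) (kc xc3 yc0 zc56) (kc xc11 yc59 zc18) (kc xc11 yc59 zc6) (kc xc3 yc0 zc58) (kc xc11 yc59 zc25) (kc xc7 yc57 zc0) (kc xc7 yc57 zc1) (kc xc11 yc59 zc36) (kc xc7 yc56 zc55) (kc xc9 yc47 zc12) (kc xc3 yc0 zc60) (kc xc8 yc48 zc47) (kc xc3 yc1 zc2) (kc xc3 yc1 zc4) (kc xc3 yc1 zc7) (kc xc11 yc59 zc43) (kc xc11 yc59 zc44) (kc xc3 yc1 zc9) (kc xc11 yc59 zc48) (kc xc3 yc25 zc1) (kc xc3 yc1 zc11) (kc xc7 yc26 zc16) (kc xc11 yc59 zc60)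 (kc xc12 yc0 zc1) (kc xc11 yc59 zc54) (kc xc4 yc44 zc15) (kc xc12 yc0 zc5) (kc xc3 yc1 zc14) (kc xc3 yc1 zc15) (kc xc6 yc49 zc9) (kc xc3 yc1 zc17) (kc xc3 yc1 zc18) (kc xc12 yc0 zc15) (kc xc12 yc0 zc17) (kc xc3 yc1 zc19) (kc xc6 yc59 zc4) (kc xc3 yc8 zc0) (kc xc3 yc1 zc21) (kc xc12 yc0 zc29) (kc xc12 yc0 zc31) (kc xc12 yc0 zc34) (kc xc12 yc0 zc26) (kc xc6 yc17 zc20) (kc xc3 yc1 zc23) (kc xc7 yc31 zc29) (kc xc7 yc31 zc30) (kc xc12 yc0 zc43) (kc xc12 yc0 zc41) (kc xc3 yc1 zc24) (kc xc3 yc1 zc26) (kc xc6 yc27 zc55) (kc xc12 yc0 zc45) (kc xc12 yc0 zc46) (kc xc3 yc1 zc30) (kc xc6 yc27 zc56) (kc xc3 yc1 zc35)) (@D3.rec (fun _ => Pt) (kc xc3 yc10 zc35) (kc xc12 yc0 zc47) (kc xc3 yc53 zc47) (kc xc3 yc1 zc37) (kc xc3 yc34 zc24) (kc xc3 yc9 zc0) (kc xc4 yc16 zc58) (kc xc7 yc4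 zc9) (kc xc12 yc1 zc9) (kc xc12 yc1 zc12) (kc xc9 yc15 zc61) (kc xc6 yc51 zc55) (kc xc9 yc16 zc1) (kc xc3 yc30 zc18) (kc xc3 yc45 zc21) (kc xc3 yc1 zc47) (kc xc6 yc28 zc25) (kc xc3 yc1 zc45) (kc xc6 yc29 zc24) (kc xc12 yc1 zc24) (kc xc6 yc29 zc25) (kc xc3 yc1 zc46) (kc xc12 yc1 zc28) (kc xc3 yc1 zc49) (kc xc6 yc18 zc22) (kc xc3 yc30 zc0) (kc xc5 yc4 zc45) (kc xc3 yc1 zc54) (kc xc3 yc12 zc30) (kc xc6 yc35 zc15) (kc xc6 yc37 zc38) (kc xc12 yc1 zc34) (kc xc3 yc17 zc8) (kc xc10 yc14 zc18) (kc xc3 yc29 zc55) (kc xc12 yc1 zc47) (kc xc3 yc1 zc58) (kc xc3 yc1 zc57) (kc xc12 yc1 zc51) (kc xc12 yc1 zc53) (kc xc12 yc1 zc55) (kc xc3 yc50 zc4) (kc xc3 yc1 zc59) (kc xc9 yc23 zc50) (kc xc4 yc44 zc55) (kc xc3 yc29 zc42) (kc xc3 yc15 zc17) (kc xc5 yc55 zc22) (kc xc3 yc29 zc27) (kc xc12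 yc2 zc8) (kc xc3 yc11 zc59) (kc xc4 yc58 zc19) (kc xc8 yc49 zc1) (kc xc9 yc47 zc51) (kc xc8 yc49 zc20) (kc xc7 yc26 zc59) (kc xc3 yc2 zc29) (kc xc3 yc2 zc6) (kc xc12 yc2 zc17) (kc xc11 yc29 zc57) (kc xc11 yc29 zc58) (kc xc10 yc12 zc22)) (@D3.rec (fun _ => Pt) (kc xc3 yc2 zc33) (kc xc7 yc38 zc18) (kc xc7 yc38 zc19) (kc xc12 yc2 zc33) (kc xc7 yc41 zc33) (kc xc3 yc29 zc5) (kc xc12 yc2 zc34) (kc xc3 yc2 zc10) (kc xc12 yc2 zc36) (kc xc3 yc2 zc11) (kc xc6 yc18 zc16) (kc xc3 yc2 zc12) (kc xc3 yc2 zc22) (kc xc3 yc45 zc25) (kc xc3 yc45 zc26) (kc xc12 yc2 zc49) (kc xc12 yc2 zc50) (kc xc3 yc2 zc15) (kc xc12 yc2 zc52) (kc xc6 yc26 zc54) (kc xc12 yc2 zc55) (kc xc3 yc2 zc17) (kc xc12 yc2 zc37) (kc xc7 yc45 zc34) (kc xc12 yc2 zc57) (kc xc9 yc20 zc47) (kc xc6 yc28 zc26) (kc xc3 yc2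 zc18) (kc xc6 yc28 zc43) (kc xc10 yc14 zc10) (kc xc12 yc3 zc0) (kc xc3 yc2 zc21) (kc xc3 yc2 zc20) (kc xc12 yc2 zc40) (kc xc12 yc3 zc7) (kc xc12 yc3 zc4) (kc xc12 yc3 zc8) (kc xc3 yc2 zc23) (kc xc12 yc3 zc10) (kc xc6 yc28 zc44) (kc xc3 yc2 zc24) (kc xc12 yc3 zc15) (kc xc12 yc3 zc14) (kc xc3 yc2 zc25) (kc xc6 yc22 zc36) (kc xc3 yc2 zc27) (kc xc3 yc28 zc46) (kc xc3 yc28 zc22) (kc xc3 yc3 zc14) (kc xc3 yc44 zc43) (kc xc10 yc11 zc21) (kc xc5 yc2 zc36) (kc xc12 yc2 zc16) (kc xc12 yc3 zc35) (kc xc10 yc11 zc24) (kc xc11 yc28 zc40) (kc xc3 yc2 zc31) (kc xc12 yc3 zc38) (kc xc12 yc3 zc37) (kc xc12 yc3 zc39) (kc xc12 yc3 zc41) (kc xc3 yc2 zc32)) (@D3.rec (fun _ => Pt) (kc xc12 yc3 zc46) (kc xc3 yc2 zc34) (kc xc12 yc3 zc50) (kc xc12 yc3 zc51) (kc xc3 yc2 zc35) (kc xc12 yc3 zc55)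 (kc xc3 yc2 zc37) (kc xc9 yc58 zc11) (kc xc12 yc3 zc59) (kc xc3 yc2 zc39) (kc xc12 yc4 zc0) (kc xc11 yc6 zc54) (kc xc3 yc2 zc40) (kc xc12 yc4 zc3) (kc xc3 yc21 zc37) (kc xc3 yc21 zc57) (kc xc12 yc3 zc44) (kc xc9 yc31 zc59) (kc xc3 yc2 zc43) (kc xc11 yc58 zc12) (kc xc6 yc52 zc45) (kc xc3 yc2 zc48) (kc xc3 yc2 zc47) (kc xc5 yc6 zc33) (kc xc8 yc14 zc52) (kc xc12 yc4 zc21) (kc xc12 yc4 zc22) (kc xc12 yc4 zc19) (kc xc9 yc13 zc11) (kc xc10 yc49 zc10) (kc xc12 yc4 zc25) (kc xc3 yc2 zc49) (kc xc6 yc27 zc26) (kc xc3 yc2 zc56) (kc xc3 yc2 zc57) (kc xc6 yc28 zc19) (kc xc3 yc2 zc60) (kc xc9 yc27 zc19) (kc xc3 yc2 zc59) (kc xc12 yc4 zc36) (kc xc11 yc23 zc6) (kc xc12 yc4 zc33) (kc xc3 yc2 zc61) (kc xc9 yc58 zc1) (kc xc9 yc17 zc2) (kc xc3 yc3 zc3) (kc xc3 yc3 zc5) (kc xc12 yc4 zc43)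 (kc xc3 yc3 zc7) (kc xc3 yc3 zc8) (kc xc12 yc4 zc48) (kc xc12 yc4 zc47) (kc xc3 yc3 zc9) (kc xc12 yc4 zc49) (kc xc3 yc3 zc11) (kc xc5 yc12 zc20) (kc xc8 yc31 zc61) (kc xc3 yc3 zc12) (kc xc12 yc4 zc52) (kc xc3 yc11 zc46) (kc xc3 yc11 zc47) (kc xc12 yc3 zc19)) (@D3.rec (fun _ => Pt) (kc xc10 yc17 zc27) (kc xc12 yc4 zc60) (kc xc12 yc5 zc1) (kc xc12 yc3 zc28) (kc xc12 yc5 zc5) (kc xc6 yc13 zc12) (kc xc12 yc5 zc7) (kc xc12 yc5 zc9) (kc xc12 yc5 zc12) (kc xc12 yc5 zc14) (kc xc3 yc3 zc20) (kc xc8 yc51 zc51) (kc xc6 yc13 zc5) (kc xc12 yc5 zc23) (kc xc9 yc4 zc40) (kc xc3 yc3 zc24) (kc xc6 yc17 zc14) (kc xc12 yc5 zc26) (kc xc12 yc5 zc29) (kc xc5 yc56 zc61) (kc xc3 yc3 zc28) (kc xc12 yc5 zc32) (kc xc4 yc25 zc58) (kc xc3 yc3 zc29) (kc xc12 yc5 zc36) (kc xc12 yc5 zc38) (kc xc12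 yc5 zc40) (kc xc3 yc3 zc30) (kc xc12 yc5 zc45) (kc xc12 yc5 zc43) (kc xc9 yc51 zc19) (kc xc7 yc29 zc9) (kc xc3 yc3 zc37) (kc xc12 yc5 zc51) (kc xc3 yc58 zc0) (kc xc3 yc58 zc1) (kc xc12 yc6 zc0) (kc xc4 yc0 zc13) (kc xc8 yc51 zc48) (kc xc8 yc51 zc49) (kc xc3 yc3 zc39) (kc xc12 yc6 zc7) (kc xc4 yc0 zc35) (kc xc3 yc3 zc42) (kc xc8 yc1 zc0) (kc xc9 yc14 zc47) (kc xc3 yc3 zc43) (kc xc10 yc16 zc10) (kc xc12 yc6 zc16) (kc xc9 yc49 zc58) (kc xc12 yc6 zc18) (kc xc3 yc3 zc45) (kc xc4 yc42 zc39) (kc xc4 yc42 zc40) (kc xc3 yc10 zc3) (kc xc3 yc3 zc49) (kc xc12 yc6 zc25) (kc xc6 yc24 zc21) (kc xc6 yc24 zc22) (kc xc12 yc6 zc34) (kc xc8 yc45 zc37) (kc xc11 yc23 zc35)) (@D3.rec (fun _ => Pt) (kc xc11 yc23 zc36) (kc xc3 yc3 zc51) (kc xc12 yc6 zc42) (kc xc6 yc15 zc14) (kc xc12 yc6 zc45)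 (kc xc3 yc3 zc55) (kc xc3 yc3 zc54) (kc xc12 yc6 zc47) (kc xc3 yc3 zc57) (kc xc7 yc8 zc15) (kc xc6 yc17 zc8) (kc xc11 yc17 zc16) (kc xc5 yc46 zc32) (kc xc5 yc46 zc33) (kc xc8 yc45 zc32) (kc xc12 yc6 zc59) (kc xc3 yc4 zc46) (kc xc3 yc4 zc2) (kc xc12 yc6 zc61) (kc xc3 yc58 zc55) (kc xc12 yc7 zc4) (kc xc3 yc4 zc50) (kc xc8 yc45 zc35) (kc xc8 yc45 zc36) (kc xc12 yc7 zc11) (kc xc4 yc39 zc40) (kc xc12 yc6 zc39) (kc xc3 yc4 zc5) (kc xc11 yc23 zc38) (kc xc11 yc45 zc40) (kc xc3 yc4 zc61) (kc xc12 yc7 zc20) (kc xc4 yc19 zc53) (kc xc3 yc4 zc10) (kc xc12 yc7 zc22) (kc xc3 yc5 zc9) (kc xc12 yc7 zc26) (kc xc3 yc4 zc12) (kc xc12 yc7 zc28) (kc xc3 yc5 zc39) (kc xc9 yc13 zc15) (kc xc3 yc4 zc15) (kc xc12 yc7 zc39) (kc xc12 yc7 zc43) (kc xc3 yc46 zc34) (kc xc12 yc7 zc37) (kc xc4 yc34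 zc15) (kc xc5 yc49 zc11) (kc xc3 yc5 zc41) (kc xc6 yc2 zc53) (kc xc12 yc7 zc56) (kc xc8 yc50 zc36) (kc xc12 yc8 zc1) (kc xc12 yc8 zc4) (kc xc8 yc50 zc39) (kc xc12 yc8 zc8) (kc xc12 yc8 zc12) (kc xc3 yc4 zc22) (kc xc12 yc8 zc17) (kc xc7 yc49 zc53) (kc xc5 yc47 zc43) (kc xc7 yc7 zc29)) (@D3.rec (fun _ => Pt) (kc xc4 yc34 zc17) (kc xc7 yc49 zc52) (kc xc12 yc8 zc26) (kc xc7 yc28 zc53) (kc xc3 yc45 zc39) (kc xc7 yc28 zc52) (kc xc5 yc50 zc48) (kc xc7 yc27 zc45) (kc xc7 yc20 zc21) (kc xc7 yc13 zc30) (kc xc6 yc15 zc10) (kc xc7 yc20 zc18) (kc xc12 yc8 zc41) (kc xc3 yc4 zc38) (kc xc6 yc14 zc3) (kc xc12 yc8 zc45) (kc xc12 yc8 zc47) (kc xc8 yc50 zc1) (kc xc5 yc49 zc38) (kc xc6 yc2 zc56) (kc xc3 yc4 zc45) (kc xc5 yc58 zc60) (kc xc9 yc44 zc41) (kc xc9 yc44 zc40) (kc xc5 yc41 zc52)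 (kc xc4 yc56 zc34) (kc xc3 yc4 zc47) (kc xc12 yc8 zc54) (kc xc12 yc8 zc53) (kc xc5 yc37 zc5) (kc xc3 yc4 zc48) (kc xc7 yc57 zc11) (kc xc11 yc13 zc43) (kc xc3 yc4 zc49) (kc xc12 yc8 zc59) (kc xc5 yc51 zc22) (kc xc5 yc37 zc55) (kc xc5 yc40 zc29) (kc xc8 yc49 zc8) (kc xc11 yc34 zc5) (kc xc11 yc34 zc4) (kc xc3 yc4 zc57) (kc xc12 yc9 zc9) (kc xc12 yc9 zc16) (kc xc3 yc5 zc1) (kc xc4 yc58 zc16) (kc xc4 yc58 zc53) (kc xc3 yc4 zc60) (kc xc12 yc9 zc18) (kc xc12 yc9 zc22) (kc xc10 yc43 zc23) (kc xc12 yc7 zc19) (kc xc11 yc12 zc1) (kc xc3 yc5 zc0) (kc xc12 yc9 zc25) (kc xc12 yc9 zc27) (kc xc3 yc5 zc4) (kc xc3 yc5 zc3) (kc xc12 yc9 zc31) (kc xc3 yc5 zc5) (kc xc12 yc9 zc34) (kc xc4 yc53 zc48)) (@D3.rec (fun _ => Pt) (kc xc4 yc7 zc11) (kc xc12 yc9 zc41) (kc xc3 yc5 zc11) (kc xc4 yc45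 zc40) (kc xc3 yc5 zc8) (kc xc12 yc9 zc46) (kc xc12 yc9 zc49) (kc xc5 yc50 zc30) (kc xc10 yc18 zc5) (kc xc7 yc8 zc21) (kc xc10 yc6 zc55) (kc xc3 yc5 zc10) (kc xc5 yc51 zc45) (kc xc9 yc22 zc6) (kc xc7 yc39 zc14) (kc xc3 yc5 zc13) (kc xc7 yc39 zc39) (kc xc12 yc9 zc54) (kc xc9 yc22 zc21) (kc xc3 yc5 zc14) (kc xc12 yc9 zc58) (kc xc7 yc26 zc33) (kc xc5 yc38 zc6) (kc xc3 yc5 zc19) (kc xc12 yc9 zc61) (kc xc3 yc5 zc18) (kc xc12 yc10 zc2) (kc xc12 yc9 zc60) (kc xc3 yc5 zc22) (kc xc3 yc5 zc21) (kc xc12 yc10 zc5) (kc xc12 yc10 zc8) (kc xc12 yc10 zc4) (kc xc7 yc21 zc24) (kc xc3 yc5 zc23) (kc xc12 yc10 zc11) (kc xc3 yc5 zc24) (kc xc12 yc10 zc15) (kc xc5 yc49 zc27) (kc xc4 yc34 zc8) (kc xc3 yc5 zc32) (kc xc3 yc46 zc35) (kc xc3 yc5 zc26) (kc xc12 yc10 zc29) (kc xc3 yc5 zc27) (kc xc12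 yc10 zc32) (kc xc5 yc37 zc17) (kc xc5 yc37 zc33) (kc xc3 yc5 zc29) (kc xc12 yc10 zc34) (kc xc12 yc10 zc20) (kc xc9 yc22 zc37) (kc xc9 yc22 zc38) (kc xc12 yc10 zc25) (kc xc3 yc20 zc24) (kc xc12 yc10 zc26) (kc xc3 yc10 zc23) (kc xc3 yc5 zc35) (kc xc11 yc11 zc60) (kc xc11 yc12 zc10) (kc xc3 yc5 zc38) (kc xc12 yc10 zc51)) (@D3.rec (fun _ => Pt) (kc xc12 yc10 zc53) (kc xc12 yc7 zc32) (kc xc11 yc44 zc45) (kc xc9 yc30 zc16) (kc xc3 yc5 zc40) (kc xc12 yc10 zc57) (kc xc12 yc10 zc59) (kc xc8 yc48 zc57) (kc xc6 yc14 zc10) (kc xc5 yc49 zc49) (kc xc8 yc48 zc16) (kc xc8 yc2 zc14) (kc xc5 yc38 zc34) (kc xc5 yc37 zc29) (kc xc6 yc13 zc16) (kc xc4 yc45 zc15) (kc xc5 yc5 zc44) (kc xc4 yc45 zc12) (kc xc6 yc17 zc43) (kc xc3 yc5 zc52) (kc xc6 yc9 zc48) (kc xc3 yc5 zc54) (kc xc12 yc11 zc16)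 (kc xc12 yc11 zc15) (kc xc3 yc5 zc55) (kc xc9 yc16 zc2) (kc xc6 yc28 zc34) (kc xc6 yc28 zc35) (kc xc12 yc11 zc29) (kc xc3 yc5 zc61) (kc xc12 yc11 zc31) (kc xc3 yc5 zc58) (kc xc12 yc11 zc35) (kc xc3 yc5 zc59) (kc xc12 yc11 zc37) (kc xc12 yc11 zc36) (kc xc3 yc5 zc60) (kc xc9 yc19 zc14) (kc xc3 yc6 zc1) (kc xc12 yc11 zc44) (kc xc3 yc6 zc2) (kc xc4 yc16 zc30) (kc xc6 yc23 zc52) (kc xc6 yc17 zc18) (kc xc3 yc6 zc13) (kc xc9 yc21 zc50) (kc xc3 yc6 zc4) (kc xc12 yc11 zc59) (kc xc3 yc6 zc5) (kc xc3 yc6 zc6) (kc xc12 yc12 zc2) (kc xc12 yc12 zc0) (kc xc3 yc6 zc7) (kc xc3 yc6 zc9) (kc xc12 yc12 zc4) (kc xc3 yc6 zc10) (kc xc12 yc12 zc6) (kc xc3 yc6 zc45) (kc xc12 yc11 zc40) (kc xc10 yc4 zc36) (kc xc3 yc6 zc12) (kc xc12 yc12 zc14)) (@D3.rec (fun _ => Pt) (kc xc12 yc12 zc17) (kc xc12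 yc11 zc53) (kc xc6 yc22 zc35) (kc xc3 yc12 zc0) (kc xc3 yc16 zc32) (kc xc3 yc6 zc17) (kc xc12 yc12 zc21) (kc xc3 yc6 zc18) (kc xc7 yc20 zc1) (kc xc6 yc18 zc25) (kc xc3 yc6 zc21) (kc xc12 yc12 zc30) (kc xc3 yc6 zc22) (kc xc6 yc29 zc34) (kc xc3 yc12 zc37) (kc xc3 yc6 zc24) (kc xc6 yc11 zc10) (kc xc12 yc12 zc40) (kc xc6 yc37 zc19) (kc xc12 yc3 zc2) (kc xc3 yc6 zc25) (kc xc4 yc40 zc32) (kc xc6 yc10 zc24) (kc xc6 yc28 zc20) (kc xc3 yc46 zc31) (kc xc6 yc18 zc9) (kc xc3 yc6 zc28) (kc xc12 yc12 zc54) (kc xc9 yc21 zc11) (kc xc12 yc12 zc61) (kc xc3 yc6 zc33) (kc xc12 yc11 zc12) (kc xc3 yc6 zc30) (kc xc12 yc13 zc4) (kc xc6 yc31 zc38) (kc xc3 yc6 zc31) (kc xc12 yc13 zc6) (kc xc12 yc13 zc5) (kc xc12 yc13 zc8) (kc xc3 yc6 zc32) (kc xc6 yc37 zc18) (kc xc3 yc6 zc35) (kc xc12 yc13 zc14)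 (kc xc3 yc6 zc36) (kc xc12 yc13 zc19) (kc xc3 yc6 zc37) (kc xc4 yc11 zc37) (kc xc3 yc6 zc48) (kc xc12 yc13 zc29) (kc xc3 yc6 zc40) (kc xc3 yc6 zc42) (kc xc12 yc13 zc32) (kc xc3 yc6 zc43) (kc xc12 yc13 zc10) (kc xc10 yc18 zc13) (kc xc3 yc6 zc47) (kc xc12 yc13 zc40) (kc xc12 yc13 zc42) (kc xc12 yc13 zc25) (kc xc3 yc6 zc49) (kc xc12 yc13 zc47) (kc xc3 yc6 zc51)) (@D3.rec (fun _ => Pt) (kc xc6 yc29 zc16) (kc xc8 yc14 zc50) (kc xc6 yc31 zc28) (kc xc5 yc12 zc30) (kc xc6 yc33 zc27) (kc xc6 yc31 zc29) (kc xc6 yc31 zc37) (kc xc3 yc6 zc59) (kc xc12 yc13 zc56) (kc xc6 yc33 zc12) (kc xc6 yc33 zc13) (kc xc12 yc13 zc60) (kc xc7 yc38 zc6) (kc xc12 yc0 zc12) (kc xc6 yc33 zc4) (kc xc3 yc7 zc2) (kc xc12 yc12 zc31) (kc xc6 yc25 zc45) (kc xc3 yc15 zc54) (kc xc6 yc25 zc41) (kc xc6 yc25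 zc42) (kc xc11 yc2 zc29) (kc xc3 yc7 zc10) (kc xc3 yc7 zc8) (kc xc4 yc40 zc41) (kc xc4 yc40 zc42) (kc xc9 yc16 zc57) (kc xc3 yc30 zc17) (kc xc9 yc22 zc4) (kc xc5 yc55 zc14) (kc xc6 yc25 zc39) (kc xc3 yc9 zc46) (kc xc3 yc7 zc16) (kc xc3 yc7 zc15) (kc xc6 yc56 zc37) (kc xc6 yc56 zc36) (kc xc11 yc48 zc14) (kc xc9 yc13 zc57) (kc xc3 yc10 zc51) (kc xc3 yc19 zc12) (kc xc8 yc22 zc25) (kc xc5 yc30 zc44) (kc xc3 yc7 zc23) (kc xc4 yc45 zc46) (kc xc3 yc7 zc20) (kc xc4 yc17 zc4) (kc xc4 yc47 zc51) (kc xc3 yc7 zc21) (kc xc9 yc20 zc49) (kc xc10 yc51 zc4) (kc xc6 yc36 zc16) (kc xc6 yc25 zc38) (kc xc4 yc17 zc34) (kc xc10 yc48 zc19) (kc xc4 yc52 zc45) (kc xc8 yc14 zc26) (kc xc4 yc45 zc37) (kc xc3 yc7 zc34) (kc xc4 yc44 zc51) (kc xc3 yc7 zc33) (kc xc4 yc47 zc16) (kc xc9 yc25 zc46)) (@D3.rec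 (fun _ => Pt) (kc xc12 yc14 zc40) (kc xc5 yc45 zc47) (kc xc3 yc18 zc33) (kc xc4 yc50 zc12) (kc xc3 yc7 zc38) (kc xc3 yc7 zc37) (kc xc12 yc14 zc55) (kc xc5 yc51 zc31) (kc xc5 yc51 zc27) (kc xc12 yc14 zc59) (kc xc3 yc7 zc39) (kc xc12 yc14 zc61) (kc xc9 yc29 zc26) (kc xc5 yc8 zc22) (kc xc12 yc4 zc1) (kc xc11 yc28 zc44) (kc xc11 yc28 zc45) (kc xc7 yc26 zc45) (kc xc5 yc8 zc24) (kc xc6 yc21 zc18) (kc xc3 yc18 zc30) (kc xc12 yc10 zc45) (kc xc6 yc30 zc41) (kc xc6 yc30 zc35) (kc xc12 yc15 zc22) (kc xc12 yc15 zc23) (kc xc5 yc32 zc48) (kc xc10 yc17 zc50) (kc xc12 yc15 zc29) (kc xc3 yc7 zc48) (kc xc6 yc32 zc14) (kc xc12 yc15 zc33) (kc xc9 yc1 zc12) (kc xc10 yc53 zc10) (kc xc10 yc53 zc9) (kc xc5 yc30 zc41) (kc xc9 yc27 zc27) (kc xc4 yc47 zc50) (kc xc3 yc7 zc52) (kc xc12 yc15 zc42)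 (kc xc6 yc47 zc11) (kc xc4 yc11 zc18) (kc xc4 yc29 zc21) (kc xc3 yc7 zc55) (kc xc9 yc23 zc4) (kc xc4 yc45 zc47) (kc xc3 yc7 zc56) (kc xc12 yc15 zc50) (kc xc12 yc15 zc46) (kc xc5 yc30 zc46) (kc xc12 yc15 zc54) (kc xc4 yc11 zc22) (kc xc6 yc48 zc15) (kc xc12 yc15 zc56) (kc xc9 yc15 zc55) (kc xc3 yc8 zc5) (kc xc12 yc15 zc59) (kc xc3 yc8 zc7) (kc xc4 yc53 zc45) (kc xc3 yc8 zc9) (kc xc12 yc16 zc2) (kc xc4 yc53 zc46)) (@D3.rec (fun _ => Pt) (kc xc8 yc11 zc57) (kc xc12 yc16 zc5) (kc xc12 yc16 zc7) (kc xc3 yc9 zc24) (kc xc6 yc49 zc16) (kc xc3 yc22 zc40) (kc xc12 yc16 zc13) (kc xc6 yc37 zc23) (kc xc3 yc8 zc15) (kc xc12 yc16 zc17) (kc xc12 yc16 zc24) (kc xc9 yc21 zc45) (kc xc3 yc8 zc17) (kc xc12 yc16 zc28) (kc xc12 yc16 zc31) (kc xc12 yc16 zc33) (kc xc3 yc8 zc18) (kc xc12 yc16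 zc38) (kc xc6 yc20 zc19) (kc xc12 yc16 zc36) (kc xc5 yc7 zc10) (kc xc3 yc8 zc23) (kc xc3 yc8 zc24) (kc xc12 yc16 zc45) (kc xc3 yc8 zc25) (kc xc12 yc16 zc48) (kc xc6 yc33 zc45) (kc xc3 yc8 zc29) (kc xc12 yc16 zc54) (kc xc3 yc8 zc28) (kc xc12 yc16 zc56) (kc xc12 yc16 zc58) (kc xc3 yc8 zc27) (kc xc6 yc38 zc9) (kc xc12 yc17 zc1) (kc xc3 yc18 zc13) (kc xc12 yc17 zc3) (kc xc11 yc45 zc14) (kc xc6 yc55 zc32) (kc xc12 yc16 zc52) (kc xc8 yc14 zc55) (kc xc8 yc14 zc56) (kc xc3 yc8 zc32) (kc xc3 yc8 zc33) (kc xc4 yc41 zc16) (kc xc4 yc48 zc3) (kc xc12 yc16 zc61) (kc xc6 yc3 zc35) (kc xc3 yc8 zc35) (kc xc3 yc8 zc37) (kc xc12 yc17 zc23) (kc xc3 yc8 zc38) (kc xc12 yc17 zc25) (kc xc6 yc41 zc55) (kc xc4 yc45 zc33) (kc xc3 yc8 zc42) (kc xc10 yc18 zc59) (kc xc12 yc17 zc32) (kc xc12 yc17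 zc34) (kc xc3 yc8 zc40) (kc xc12 yc17 zc39) (kc xc12 yc17 zc41)) (@D3.rec (fun _ => Pt) (kc xc12 yc17 zc42) (kc xc12 yc17 zc44) (kc xc12 yc17 zc31) (kc xc6 yc42 zc22) (kc xc3 yc8 zc43) (kc xc4 yc44 zc61) (kc xc10 yc6 zc61) (kc xc12 yc17 zc37) (kc xc4 yc39 zc15) (kc xc3 yc8 zc46) (kc xc3 yc8 zc47) (kc xc12 yc17 zc55) (kc xc3 yc8 zc48) (kc xc12 yc17 zc56) (kc xc3 yc21 zc6) (kc xc11 yc59 zc51) (kc xc3 yc8 zc51) (kc xc12 yc17 zc61) (kc xc9 yc31 zc52) (kc xc12 yc18 zc7) (kc xc9 yc51 zc5) (kc xc12 yc18 zc13) (kc xc4 yc56 zc23) (kc xc12 yc18 zc15) (kc xc8 yc34 zc32) (kc xc9 yc36 zc38) (kc xc12 yc18 zc23) (kc xc6 yc4 zc8) (kc xc4 yc39 zc31) (kc xc3 yc8 zc56) (kc xc6 yc45 zc34) (kc xc6 yc3 zc34) (kc xc3 yc8 zc59) (kc xc3 yc8 zc60) (kc xc12 yc18 zc36) (kc xc6 yc18 zc2) (kc xc6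 yc11 zc44) (kc xc3 yc9 zc1) (kc xc12 yc18 zc46) (kc xc12 yc18 zc49) (kc xc12 yc18 zc52) (kc xc12 yc18 zc44) (kc xc12 yc1 zc0) (kc xc3 yc35 zc24) (kc xc3 yc9 zc3) (kc xc3 yc9 zc4) (kc xc4 yc53 zc10) (kc xc3 yc9 zc5) (kc xc12 yc19 zc1) (kc xc3 yc9 zc6) (kc xc12 yc19 zc6) (kc xc3 yc31 zc54) (kc xc3 yc24 zc25) (kc xc3 yc9 zc9) (kc xc3 yc42 zc58) (kc xc3 yc9 zc8) (kc xc12 yc19 zc24) (kc xc12 yc19 zc26) (kc xc12 yc19 zc23) (kc xc12 yc19 zc29) (kc xc12 yc19 zc32) (kc xc12 yc19 zc14)) (@D3.rec (fun _ => Pt) (kc xc12 yc19 zc16) (kc xc4 yc42 zc32) (kc xc4 yc42 zc33) (kc xc3 yc16 zc23) (kc xc3 yc9 zc13) (kc xc3 yc9 zc11) (kc xc12 yc19 zc42) (kc xc3 yc9 zc12) (kc xc3 yc9 zc14) (kc xc12 yc19 zc45) (kc xc3 yc24 zc21) (kc xc3 yc35 zc10) (kc xc3 yc9 zc17) (kc xc7 yc5 zc17) (kc xc3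 yc9 zc16) (kc xc12 yc19 zc60) (kc xc12 yc20 zc1) (kc xc12 yc19 zc59) (kc xc12 yc20 zc3) (kc xc8 yc41 zc34) (kc xc12 yc19 zc52) (kc xc12 yc19 zc54) (kc xc5 yc14 zc7) (kc xc3 yc9 zc21) (kc xc6 yc47 zc56) (kc xc4 yc53 zc30) (kc xc8 yc31 zc34) (kc xc12 yc20 zc13) (kc xc3 yc9 zc22) (kc xc12 yc20 zc20) (kc xc12 yc20 zc19) (kc xc8 yc31 zc33) (kc xc12 yc20 zc27) (kc xc3 yc9 zc23) (kc xc12 yc20 zc31) (kc xc12 yc20 zc30) (kc xc12 yc20 zc36) (kc xc12 yc20 zc38) (kc xc12 yc20 zc41) (kc xc3 yc9 zc25) (kc xc12 yc20 zc44) (kc xc3 yc19 zc30) (kc xc3 yc22 zc22) (kc xc3 yc11 zc37) (kc xc4 yc50 zc25) (kc xc4 yc50 zc26) (kc xc11 yc14 zc46) (kc xc8 yc34 zc22) (kc xc3 yc9 zc29) (kc xc9 yc39 zc6) (kc xc3 yc9 zc30) (kc xc12 yc14 zc14) (kc xc6 yc17 zc42) (kc xc3 yc9 zc33) (kc xc4 yc47 zc31)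 (kc xc4 yc47 zc33) (kc xc3 yc9 zc36) (kc xc12 yc21 zc5) (kc xc3 yc9 zc35) (kc xc12 yc21 zc9) (kc xc12 yc21 zc12) (kc xc12 yc21 zc2)) (@D3.rec (fun _ => Pt) (kc xc12 yc21 zc4) (kc xc3 yc9 zc39) (kc xc12 yc21 zc18) (kc xc3 yc9 zc41) (kc xc12 yc21 zc20) (kc xc3 yc31 zc4) (kc xc3 yc9 zc44) (kc xc3 yc39 zc19) (kc xc3 yc9 zc43) (kc xc12 yc21 zc35) (kc xc12 yc21 zc37) (kc xc12 yc21 zc34) (kc xc12 yc21 zc39) (kc xc12 yc21 zc42) (kc xc12 yc21 zc27) (kc xc12 yc21 zc29) (kc xc3 yc9 zc48) (kc xc12 yc21 zc49) (kc xc12 yc21 zc50) (kc xc12 yc21 zc51) (kc xc3 yc9 zc47) (kc xc6 yc13 zc57) (kc xc6 yc13 zc58) (kc xc5 yc46 zc35) (kc xc8 yc48 zc19) (kc xc7 yc56 zc41) (kc xc3 yc9 zc53) (kc xc3 yc9 zc52) (kc xc12 yc21 zc59) (kc xc12 yc22 zc0) (kc xc11 yc57 zc34) (kc xc12 yc22 zc2) (kc xc3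 yc58 zc53) (kc xc3 yc9 zc55) (kc xc8 yc11 zc45) (kc xc4 yc27 zc23) (kc xc4 yc31 zc41) (kc xc3 yc9 zc57) (kc xc12 yc22 zc7) (kc xc3 yc16 zc42) (kc xc3 yc9 zc59) (kc xc12 yc22 zc17) (kc xc10 yc27 zc8) (kc xc8 yc50 zc0) (kc xc12 yc22 zc15) (kc xc8 yc49 zc7) (kc xc5 yc47 zc53) (kc xc6 yc32 zc25) (kc xc12 yc22 zc32) (kc xc8 yc45 zc56) (kc xc12 yc22 zc36) (kc xc12 yc22 zc39) (kc xc8 yc45 zc59) (kc xc12 yc22 zc44) (kc xc3 yc10 zc2) (kc xc12 yc22 zc50) (kc xc3 yc10 zc4) (kc xc12 yc22 zc52) (kc xc3 yc10 zc5) (kc xc12 yc22 zc57) (kc xc4 yc42 zc43) (kc xc4 yc42 zc44)) (@D3.rec (fun _ => Pt) (kc xc7 yc23 zc7) (kc xc3 yc10 zc8) (kc xc12 yc23 zc5) (kc xc11 yc37 zc31) (kc xc11 yc37 zc30) (kc xc3 yc10 zc12) (kc xc12 yc23 zc12) (kc xc3 yc59 zc29) (kc xc4 yc58 zc29) (kc xc3 yc10 zc14)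 (kc xc12 yc23 zc22) (kc xc12 yc23 zc21) (kc xc3 yc10 zc15) (kc xc12 yc23 zc24) (kc xc9 yc39 zc23) (kc xc11 yc40 zc34) (kc xc11 yc49 zc0) (kc xc3 yc10 zc18) (kc xc12 yc23 zc31) (kc xc12 yc23 zc33) (kc xc12 yc23 zc30) (kc xc3 yc10 zc19) (kc xc8 yc12 zc14) (kc xc9 yc29 zc56) (kc xc12 yc23 zc40) (kc xc12 yc23 zc43) (kc xc6 yc28 zc54) (kc xc9 yc5 zc29) (kc xc9 yc5 zc30) (kc xc3 yc10 zc25) (kc xc4 yc57 zc14) (kc xc5 yc41 zc17) (kc xc7 yc25 zc10) (kc xc3 yc40 zc8) (kc xc3 yc10 zc27) (kc xc12 yc23 zc50) (kc xc5 yc53 zc34) (kc xc7 yc27 zc28) (kc xc6 yc19 zc51) (kc xc6 yc19 zc30) (kc xc6 yc28 zc58) (kc xc6 yc19 zc19) (kc xc6 yc19 zc20) (kc xc6 yc29 zc2) (kc xc3 yc10 zc38) (kc xc6 yc19 zc17) (kc xc12 yc0 zc50) (kc xc4 yc18 zc54) (kc xc4 yc45 zc0) (kc xc6 yc49 zc36) (kc xc8 yc50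 zc3) (kc xc6 yc42 zc10) (kc xc5 yc14 zc1) (kc xc12 yc3 zc53) (kc xc9 yc11 zc41) (kc xc3 yc17 zc41) (kc xc6 yc36 zc39) (kc xc12 yc24 zc6) (kc xc12 yc24 zc7) (kc xc3 yc10 zc46) (kc xc12 yc24 zc10) (kc xc12 yc24 zc12)) (@D3.rec (fun _ => Pt) (kc xc6 yc28 zc42) (kc xc6 yc28 zc24) (kc xc12 yc24 zc14) (kc xc6 yc40 zc38) (kc xc12 yc14 zc25) (kc xc12 yc24 zc16) (kc xc3 yc10 zc52) (kc xc3 yc22 zc0) (kc xc3 yc19 zc28) (kc xc3 yc11 zc34) (kc xc3 yc10 zc54) (kc xc12 yc24 zc24) (kc xc3 yc10 zc58) (kc xc4 yc47 zc36) (kc xc12 yc24 zc23) (kc xc3 yc10 zc60) (kc xc4 yc52 zc27) (kc xc12 yc24 zc30) (kc xc6 yc48 zc6) (kc xc3 yc11 zc1) (kc xc12 yc24 zc34) (kc xc12 yc24 zc39) (kc xc12 yc24 zc41) (kc xc12 yc24 zc45) (kc xc3 yc11 zc56) (kc xc3 yc11 zc6) (kc xc3 yc11 zc7) (kc xc12 yc24 zc49)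 (kc xc3 yc11 zc10) (kc xc12 yc24 zc55) (kc xc12 yc24 zc56) (kc xc12 yc24 zc58) (kc xc3 yc11 zc9) (kc xc12 yc25 zc1) (kc xc12 yc24 zc51) (kc xc12 yc25 zc6) (kc xc9 yc46 zc44) (kc xc3 yc11 zc12) (kc xc3 yc11 zc13) (kc xc4 yc48 zc29) (kc xc4 yc48 zc30) (kc xc12 yc24 zc60) (kc xc11 yc14 zc39) (kc xc3 yc11 zc15) (kc xc12 yc25 zc21) (kc xc3 yc11 zc16) (kc xc12 yc25 zc24) (kc xc6 yc36 zc9) (kc xc3 yc11 zc20) (kc xc12 yc25 zc28) (kc xc12 yc25 zc30) (kc xc12 yc25 zc31) (kc xc3 yc11 zc18) (kc xc3 yc16 zc20) (kc xc6 yc11 zc19) (kc xc9 yc12 zc0) (kc xc11 yc43 zc50) (kc xc12 yc25 zc39) (kc xc6 yc40 zc45) (kc xc3 yc11 zc21) (kc xc5 yc46 zc0) (kc xc12 yc3 zc52)) (@D3.rec (fun _ => Pt) (kc xc12 yc25 zc33) (kc xc5 yc46 zc8) (kc xc3 yc11 zc24) (kc xc12 yc25 zc50) (kc xc3 yc11 zc25) (kc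 xc12 yc4 zc17) (kc xc12 yc25 zc55) (kc xc12 yc25 zc53) (kc xc3 yc11 zc28) (kc xc12 yc25 zc59) (kc xc3 yc11 zc29) (kc xc12 yc25 zc60) (kc xc7 yc26 zc6) (kc xc9 yc2 zc21) (kc xc3 yc11 zc31) (kc xc12 yc26 zc6) (kc xc3 yc20 zc6) (kc xc12 yc26 zc9) (kc xc9 yc1 zc32) (kc xc3 yc20 zc8) (kc xc12 yc26 zc14) (kc xc11 yc39 zc58) (kc xc12 yc24 zc22) (kc xc12 yc26 zc24) (kc xc11 yc49 zc55) (kc xc11 yc12 zc5) (kc xc6 yc12 zc32) (kc xc9 yc2 zc15) (kc xc3 yc35 zc12) (kc xc3 yc11 zc39) (kc xc12 yc26 zc31) (kc xc3 yc11 zc40) (kc xc9 yc37 zc24) (kc xc9 yc20 zc55) (kc xc3 yc11 zc41) (kc xc12 yc26 zc36) (kc xc3 yc35 zc6) (kc xc3 yc31 zc51) (kc xc3 yc11 zc44) (kc xc6 yc52 zc60) (kc xc3 yc11 zc43) (kc xc12 yc26 zc47) (kc xc12 yc26 zc48) (kc xc12 yc26 zc46) (kc xc12 yc26 zc50) (kc xc12 yc26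 zc53) (kc xc12 yc26 zc41) (kc xc12 yc26 zc43) (kc xc10 yc4 zc60) (kc xc3 yc11 zc48) (kc xc3 yc11 zc49) (kc xc3 yc11 zc50) (kc xc12 yc3 zc17) (kc xc3 yc11 zc51) (kc xc12 yc27 zc4) (kc xc6 yc9 zc56) (kc xc6 yc9 zc60) (kc xc3 yc11 zc53) (kc xc12 yc12 zc43) (kc xc12 yc27 zc17) (kc xc9 yc46 zc4) (kc xc12 yc27 zc13)) (@D3.rec (fun _ => Pt) (kc xc12 yc27 zc21) (kc xc3 yc11 zc54) (kc xc10 yc6 zc29) (kc xc12 yc27 zc30) (kc xc3 yc11 zc55) (kc xc8 yc20 zc47) (kc xc3 yc11 zc57) (kc xc7 yc19 zc61) (kc xc3 yc15 zc56) (kc xc3 yc11 zc61) (kc xc3 yc12 zc2) (kc xc12 yc27 zc40) (kc xc5 yc51 zc25) (kc xc3 yc14 zc17) (kc xc4 yc44 zc18) (kc xc3 yc12 zc5) (kc xc12 yc27 zc49) (kc xc9 yc21 zc5) (kc xc9 yc21 zc6) (kc xc6 yc12 zc35) (kc xc6 yc18 zc23) (kc xc3 yc47 zc11) (kc xc4 yc45 zc60) (kc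 xc6 yc30 zc34) (kc xc6 yc26 zc1) (kc xc6 yc10 zc16) (kc xc6 yc11 zc26) (kc xc3 yc12 zc13) (kc xc3 yc12 zc11) (kc xc12 yc27 zc59) (kc xc3 yc12 zc12) (kc xc4 yc44 zc45) (kc xc3 yc12 zc17) (kc xc3 yc12 zc16) (kc xc6 yc17 zc26) (kc xc6 yc17 zc27) (kc xc9 yc28 zc53) (kc xc12 yc11 zc32) (kc xc6 yc59 zc58) (kc xc7 yc32 zc6) (kc xc7 yc1 zc22) (kc xc12 yc28 zc0) (kc xc6 yc26 zc0) (kc xc6 yc11 zc28) (kc xc6 yc11 zc39) (kc xc10 yc52 zc60) (kc xc3 yc12 zc23) (kc xc3 yc12 zc20) (kc xc3 yc12 zc21) (kc xc12 yc28 zc15) (kc xc10 yc5 zc60) (kc xc10 yc5 zc61) (kc xc11 yc40 zc32) (kc xc3 yc12 zc24) (kc xc6 yc25 zc26) (kc xc5 yc57 zc32) (kc xc5 yc51 zc55) (kc xc4 yc42 zc22) (kc xc6 yc25 zc40) (kc xc11 yc31 zc20) (kc xc10 yc6 zc40) (kc xc7 yc26 zc61)) (@D3.rec (fun _ => Pt) (kc xc5 yc51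 zc61) (kc xc11 yc2 zc10) (kc xc6 yc25 zc43) (kc xc12 yc28 zc29) (kc xc5 yc11 zc56) (kc xc8 yc21 zc44) (kc xc4 yc44 zc17) (kc xc3 yc12 zc31) (kc xc9 yc24 zc10) (kc xc12 yc28 zc36) (kc xc7 yc32 zc19) (kc xc5 yc16 zc54) (kc xc3 yc12 zc34) (kc xc12 yc28 zc45) (kc xc3 yc12 zc33) (kc xc12 yc28 zc44) (kc xc6 yc19 zc0) (kc xc3 yc12 zc36) (kc xc12 yc28 zc53) (kc xc12 yc2 zc46) (kc xc12 yc28 zc52) (kc xc6 yc49 zc3) (kc xc6 yc49 zc0) (kc xc12 yc12 zc38) (kc xc6 yc10 zc18) (kc xc6 yc10 zc20) (kc xc12 yc29 zc3) (kc xc3 yc12 zc41) (kc xc9 yc16 zc3) (kc xc3 yc12 zc39) (kc xc12 yc29 zc6) (kc xc7 yc27 zc14) (kc xc3 yc12 zc40) (kc xc10 yc14 zc33) (kc xc6 yc18 zc13) (kc xc3 yc12 zc47) (kc xc12 yc29 zc13) (kc xc11 yc2 zc7) (kc xc12 yc29 zc12) (kc xc6 yc51 zc34) (kc xc4 yc41 zc12) (kc xc6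 yc31 zc32) (kc xc12 yc29 zc20) (kc xc3 yc12 zc52) (kc xc3 yc12 zc50) (kc xc12 yc29 zc22) (kc xc9 yc21 zc13) (kc xc3 yc12 zc51) (kc xc12 yc29 zc25) (kc xc12 yc29 zc24) (kc xc3 yc12 zc53) (kc xc3 yc12 zc55) (kc xc12 yc29 zc27) (kc xc6 yc34 zc40) (kc xc3 yc12 zc61) (kc xc12 yc29 zc35) (kc xc3 yc12 zc60) (kc xc6 yc36 zc4) (kc xc6 yc40 zc22) (kc xc3 yc12 zc59) (kc xc3 yc16 zc49) (kc xc12 yc2 zc39)) (@D3.rec (fun _ => Pt) (kc xc10 yc14 zc25) (kc xc12 yc29 zc39) (kc xc12 yc29 zc42) (kc xc12 yc29 zc30) (kc xc12 yc29 zc32) (kc xc4 yc41 zc8) (kc xc12 yc29 zc40) (kc xc3 yc13 zc7) (kc xc9 yc32 zc32) (kc xc6 yc32 zc7) (kc xc3 yc13 zc12) (kc xc12 yc29 zc57) (kc xc3 yc13 zc11) (kc xc10 yc17 zc25) (kc xc5 yc58 zc29) (kc xc3 yc13 zc10) (kc xc10 yc15 zc27) (kc xc5 yc58 zc31) (kc xc9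 yc29 zc35) (kc xc12 yc29 zc60) (kc xc12 yc30 zc2) (kc xc12 yc29 zc55) (kc xc12 yc30 zc7) (kc xc10 yc18 zc38) (kc xc4 yc41 zc10) (kc xc3 yc13 zc17) (kc xc3 yc13 zc16) (kc xc6 yc51 zc20) (kc xc9 yc19 zc55) (kc xc5 yc6 zc35) (kc xc7 yc27 zc1) (kc xc6 yc31 zc59) (kc xc6 yc31 zc54) (kc xc6 yc31 zc56) (kc xc6 yc28 zc23) (kc xc6 yc20 zc23) (kc xc4 yc41 zc17) (kc xc9 yc15 zc23) (kc xc6 yc34 zc13) (kc xc7 yc26 zc48) (kc xc6 yc34 zc15) (kc xc6 yc20 zc22) (kc xc3 yc42 zc41) (kc xc7 yc11 zc14) (kc xc3 yc54 zc7) (kc xc6 yc49 zc2) (kc xc3 yc40 zc51) (kc xc3 yc42 zc4) (kc xc3 yc40 zc52) (kc xc3 yc42 zc3) (kc xc9 yc9 zc21) (kc xc9 yc10 zc5) (kc xc3 yc42 zc18) (kc xc3 yc42 zc19) (kc xc3 yc41 zc28) (kc xc12 yc30 zc31) (kc xc3 yc13 zc40) (kc xc3 yc13 zc38) (kc xc12 yc30 zc34) (kc xc12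 yc30 zc35) (kc xc3 yc13 zc39) (kc xc12 yc30 zc38)) (@D3.rec (fun _ => Pt) (kc xc3 yc13 zc41) (kc xc3 yc42 zc33) (kc xc3 yc42 zc34) (kc xc4 yc51 zc45) (kc xc7 yc5 zc31) (kc xc3 yc13 zc45) (kc xc3 yc25 zc44) (kc xc3 yc13 zc44) (kc xc5 yc51 zc51) (kc xc8 yc0 zc37) (kc xc3 yc47 zc35) (kc xc3 yc47 zc31) (kc xc9 yc21 zc3) (kc xc3 yc22 zc56) (kc xc12 yc31 zc1) (kc xc3 yc13 zc50) (kc xc10 yc17 zc24) (kc xc10 yc15 zc25) (kc xc3 yc13 zc51) (kc xc3 yc46 zc30) (kc xc4 yc44 zc38) (kc xc6 yc38 zc56) (kc xc4 yc37 zc56) (kc xc5 yc46 zc48) (kc xc6 yc44 zc25) (kc xc3 yc26 zc41) (kc xc3 yc40 zc3) (kc xc3 yc41 zc22) (kc xc6 yc19 zc2) (kc xc6 yc19 zc5) (kc xc3 yc13 zc60) (kc xc3 yc13 zc59) (kc xc6 yc29 zc41) (kc xc5 yc58 zc34) (kc xc5 yc14 zc49) (kc xc9 yc47 zc59) (kc xc11 yc40 zc45) (kc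 xc6 yc19 zc6) (kc xc6 yc18 zc34) (kc xc3 yc14 zc3) (kc xc3 yc14 zc1) (kc xc12 yc31 zc21) (kc xc12 yc31 zc20) (kc xc3 yc14 zc2) (kc xc12 yc31 zc24) (kc xc12 yc31 zc25) (kc xc12 yc31 zc28) (kc xc7 yc31 zc22) (kc xc12 yc31 zc33) (kc xc7 yc31 zc23) (kc xc3 yc41 zc4) (kc xc5 yc7 zc4) (kc xc12 yc9 zc30) (kc xc4 yc36 zc48) (kc xc6 yc30 zc32) (kc xc3 yc57 zc58) (kc xc6 yc30 zc33) (kc xc3 yc40 zc53) (kc xc12 yc31 zc43) (kc xc6 yc30 zc31) (kc xc12 yc31 zc45) (kc xc3 yc40 zc33)) (@D3.rec (fun _ => Pt) (kc xc5 yc47 zc23) (kc xc12 yc31 zc50) (kc xc12 yc31 zc54) (kc xc12 yc31 zc58) (kc xc7 yc26 zc41) (kc xc7 yc31 zc50) (kc xc12 yc32 zc2) (kc xc6 yc30 zc9) (kc xc12 yc32 zc6) (kc xc4 yc43 zc48) (kc xc12 yc32 zc8) (kc xc12 yc32 zc9) (kc xc3 yc14 zc15) (kc xc12 yc32 zc13) (kc xc6 yc20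 zc30) (kc xc12 yc27 zc47) (kc xc12 yc27 zc46) (kc xc12 yc32 zc19) (kc xc3 yc14 zc20) (kc xc6 yc50 zc43) (kc xc3 yc14 zc19) (kc xc12 yc32 zc24) (kc xc12 yc32 zc25) (kc xc10 yc15 zc26) (kc xc12 yc31 zc2) (kc xc6 yc24 zc47) (kc xc3 yc14 zc23) (kc xc3 yc14 zc22) (kc xc12 yc32 zc30) (kc xc3 yc44 zc48) (kc xc12 yc32 zc35) (kc xc3 yc14 zc26) (kc xc3 yc14 zc25) (kc xc12 yc32 zc44) (kc xc12 yc32 zc40) (kc xc12 yc32 zc42) (kc xc12 yc32 zc48) (kc xc3 yc14 zc32) (kc xc3 yc14 zc31) (kc xc12 yc32 zc52) (kc xc12 yc32 zc51) (kc xc3 yc14 zc34) (kc xc9 yc20 zc61) (kc xc4 yc49 zc43) (kc xc6 yc49 zc32) (kc xc6 yc49 zc31) (kc xc6 yc50 zc47) (kc xc12 yc32 zc59) (kc xc3 yc14 zc42) (kc xc9 yc20 zc59) (kc xc3 yc14 zc40) (kc xc12 yc33 zc4) (kc xc3 yc14 zc41) (kc xc9 yc49 zc43) (kc xc9 yc48 zc54)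 (kc xc3 yc36 zc3) (kc xc12 yc33 zc1) (kc xc6 yc33 zc33) (kc xc10 yc23 zc48) (kc xc12 yc33 zc14) (kc xc3 yc14 zc45) (kc xc3 yc14 zc46)) (@D3.rec (fun _ => Pt) (kc xc10 yc52 zc3) (kc xc3 yc14 zc47) (kc xc4 yc9 zc48) (kc xc3 yc28 zc37) (kc xc6 yc19 zc14) (kc xc12 yc33 zc5) (kc xc12 yc0 zc28) (kc xc12 yc33 zc33) (kc xc12 yc33 zc35) (kc xc6 yc53 zc14) (kc xc4 yc44 zc16) (kc xc3 yc44 zc49) (kc xc6 yc19 zc9) (kc xc6 yc19 zc10) (kc xc9 yc41 zc48) (kc xc3 yc14 zc56) (kc xc3 yc14 zc54) (kc xc12 yc33 zc50) (kc xc3 yc14 zc55) (kc xc3 yc14 zc59) (kc xc9 yc21 zc9) (kc xc3 yc14 zc58) (kc xc11 yc40 zc39) (kc xc11 yc30 zc30) (kc xc12 yc33 zc53) (kc xc3 yc48 zc32) (kc xc12 yc0 zc3) (kc xc6 yc19 zc4) (kc xc12 yc34 zc1) (kc xc9 yc22 zc7) (kc xc4 yc29 zc14) (kc xc7 yc31 zc12) (kc xc12 yc34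 zc5) (kc xc6 yc32 zc57) (kc xc12 yc34 zc8) (kc xc6 yc51 zc61) (kc xc7 yc32 zc31) (kc xc9 yc21 zc40) (kc xc3 yc15 zc6) (kc xc12 yc34 zc14) (kc xc12 yc34 zc17) (kc xc9 yc21 zc44) (kc xc7 yc45 zc37) (kc xc3 yc15 zc12) (kc xc3 yc15 zc9) (kc xc6 yc21 zc26) (kc xc3 yc15 zc10) (kc xc12 yc34 zc28) (kc xc12 yc34 zc29) (kc xc3 yc15 zc11) (kc xc12 yc34 zc32) (kc xc9 yc21 zc49) (kc xc3 yc31 zc9) (kc xc12 yc2 zc0) (kc xc3 yc15 zc15) (kc xc12 yc2 zc10) (kc xc12 yc1 zc52) (kc xc3 yc15 zc34) (kc xc3 yc15 zc35) (kc xc12 yc1 zc60) (kc xc12 yc34 zc48) (kc xc6 yc59 zc14)) (@D3.rec (fun _ => Pt) (kc xc7 yc5 zc56) (kc xc3 yc40 zc40) (kc xc7 yc21 zc42) (kc xc3 yc29 zc7) (kc xc7 yc0 zc7) (kc xc12 yc34 zc49) (kc xc7 yc26 zc30) (kc xc3 yc43 zc46) (kc xc7 yc21 zc46) (kc xc12 yc34 zc57) (kc xc3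 yc53 zc19) (kc xc7 yc1 zc2) (kc xc5 yc57 zc44) (kc xc6 yc30 zc38) (kc xc12 yc35 zc0) (kc xc6 yc30 zc40) (kc xc3 yc48 zc39) (kc xc9 yc58 zc60) (kc xc7 yc27 zc20) (kc xc7 yc27 zc21) (kc xc3 yc48 zc41) (kc xc7 yc40 zc59) (kc xc6 yc58 zc60) (kc xc12 yc35 zc11) (kc xc11 yc37 zc45) (kc xc12 yc34 zc41) (kc xc12 yc35 zc13) (kc xc12 yc35 zc16) (kc xc12 yc35 zc19) (kc xc12 yc35 zc20) (kc xc7 yc0 zc28) (kc xc7 yc0 zc30) (kc xc7 yc0 zc31) (kc xc7 yc0 zc32) (kc xc12 yc35 zc35) (kc xc3 yc51 zc26) (kc xc12 yc35 zc38) (kc xc4 yc43 zc51) (kc xc12 yc30 zc61) (kc xc12 yc35 zc44) (kc xc6 yc29 zc53) (kc xc12 yc35 zc48) (kc xc12 yc35 zc50) (kc xc3 yc15 zc41) (kc xc9 yc21 zc33) (kc xc12 yc35 zc59) (kc xc3 yc15 zc44) (kc xc3 yc15 zc43) (kc xc12 yc35 zc61) (kc xc9 yc20 zc46) (kc xc12 yc36 zc1)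 (kc xc5 yc8 zc20) (kc xc3 yc15 zc52) (kc xc12 yc1 zc33) (kc xc3 yc29 zc58) (kc xc6 yc51 zc41) (kc xc7 yc0 zc36) (kc xc10 yc7 zc8) (kc xc6 yc37 zc42) (kc xc10 yc7 zc9) (kc xc11 yc38 zc41) (kc xc12 yc14 zc0)) (@D3.rec (fun _ => Pt) (kc xc6 yc35 zc46) (kc xc12 yc36 zc3) (kc xc3 yc15 zc53) (kc xc12 yc36 zc12) (kc xc12 yc34 zc61) (kc xc12 yc27 zc39) (kc xc12 yc36 zc20) (kc xc7 yc0 zc58) (kc xc7 yc0 zc59) (kc xc12 yc27 zc37) (kc xc3 yc51 zc20) (kc xc3 yc15 zc59) (kc xc3 yc15 zc58) (kc xc9 yc12 zc53) (kc xc12 yc36 zc29) (kc xc6 yc10 zc29) (kc xc12 yc36 zc30) (kc xc3 yc47 zc27) (kc xc3 yc28 zc39) (kc xc3 yc28 zc40) (kc xc12 yc36 zc44) (kc xc3 yc16 zc2) (kc xc3 yc16 zc0) (kc xc12 yc36 zc48) (kc xc12 yc36 zc49) (kc xc3 yc16 zc1) (kc xc3 yc16 zc4) (kc xc11 yc49 zc4) (kc xc3 yc47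 zc19) (kc xc3 yc28 zc55) (kc xc12 yc37 zc2) (kc xc3 yc16 zc8) (kc xc12 yc37 zc4) (kc xc3 yc16 zc7) (kc xc12 yc37 zc9) (kc xc12 yc37 zc12) (kc xc6 yc49 zc45) (kc xc12 yc37 zc13) (kc xc12 yc37 zc15) (kc xc7 yc40 zc48) (kc xc3 yc47 zc3) (kc xc12 yc37 zc26) (kc xc6 yc42 zc3) (kc xc3 yc16 zc13) (kc xc9 yc7 zc17) (kc xc12 yc37 zc29) (kc xc6 yc35 zc0) (kc xc3 yc16 zc14) (kc xc9 yc7 zc16) (kc xc12 yc37 zc37) (kc xc6 yc56 zc38) (kc xc9 yc23 zc20) (kc xc6 yc3 zc17) (kc xc6 yc3 zc18) (kc xc6 yc56 zc39) (kc xc12 yc37 zc53) (kc xc12 yc37 zc57) (kc xc11 yc37 zc36) (kc xc9 yc23 zc27) (kc xc9 yc23 zc51) (kc xc12 yc38 zc1) (kc xc12 yc38 zc6)) (@D3.rec (fun _ => Pt) (kc xc3 yc51 zc47) (kc xc12 yc38 zc10) (kc xc12 yc32 zc57) (kc xc10 yc13 zc19) (kc xc6 yc29 zc57) (kc xc12 yc38 zc18) (kc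 xc10 yc16 zc41) (kc xc3 yc16 zc21) (kc xc11 yc23 zc17) (kc xc6 yc26 zc47) (kc xc12 yc19 zc37) (kc xc12 yc38 zc29) (kc xc3 yc16 zc25) (kc xc5 yc16 zc43) (kc xc12 yc38 zc36) (kc xc3 yc16 zc27) (kc xc6 yc19 zc50) (kc xc3 yc16 zc29) (kc xc12 yc12 zc29) (kc xc12 yc27 zc8) (kc xc3 yc23 zc6) (kc xc3 yc22 zc35) (kc xc9 yc11 zc47) (kc xc9 yc11 zc48) (kc xc3 yc16 zc43) (kc xc3 yc16 zc45) (kc xc12 yc12 zc19) (kc xc4 yc42 zc6) (kc xc12 yc38 zc55) (kc xc3 yc16 zc37) (kc xc3 yc16 zc34) (kc xc12 yc38 zc59) (kc xc3 yc16 zc35) (kc xc12 yc38 zc61) (kc xc12 yc39 zc0) (kc xc3 yc16 zc36) (kc xc12 yc39 zc4) (kc xc12 yc39 zc5) (kc xc12 yc30 zc50) (kc xc6 yc25 zc56) (kc xc12 yc39 zc10) (kc xc7 yc24 zc58) (kc xc7 yc24 zc60) (kc xc12 yc39 zc14) (kc xc12 yc39 zc15) (kc xc12 yc22 zc11) (kc xc12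 yc38 zc44) (kc xc5 yc47 zc46) (kc xc12 yc39 zc24) (kc xc12 yc39 zc26) (kc xc12 yc39 zc29) (kc xc12 yc38 zc47) (kc xc12 yc39 zc32) (kc xc3 yc45 zc43) (kc xc5 yc8 zc3) (kc xc3 yc45 zc49) (kc xc7 yc35 zc10) (kc xc7 yc35 zc11) (kc xc12 yc39 zc45) (kc xc3 yc50 zc42) (kc xc9 yc50 zc24) (kc xc12 yc39 zc49)) (@D3.rec (fun _ => Pt) (kc xc12 yc39 zc53) (kc xc3 yc16 zc50) (kc xc12 yc39 zc55) (kc xc12 yc39 zc58) (kc xc12 yc39 zc61) (kc xc3 yc16 zc51) (kc xc12 yc40 zc5) (kc xc9 yc24 zc14) (kc xc12 yc40 zc10) (kc xc3 yc16 zc55) (kc xc12 yc40 zc11) (kc xc3 yc16 zc54) (kc xc12 yc40 zc15) (kc xc12 yc40 zc16) (kc xc3 yc16 zc57) (kc xc3 yc16 zc58) (kc xc12 yc13 zc0) (kc xc3 yc16 zc59) (kc xc6 yc18 zc40) (kc xc6 yc18 zc18) (kc xc12 yc39 zc2) (kc xc12 yc40 zc34) (kc xc3 yc16 zc61) (kc xc6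 yc21 zc7) (kc xc3 yc17 zc1) (kc xc12 yc37 zc33) (kc xc12 yc27 zc54) (kc xc3 yc17 zc10) (kc xc12 yc36 zc28) (kc xc3 yc17 zc12) (kc xc5 yc14 zc19) (kc xc4 yc43 zc4) (kc xc5 yc28 zc34) (kc xc3 yc17 zc7) (kc xc4 yc52 zc18) (kc xc3 yc29 zc53) (kc xc12 yc1 zc38) (kc xc11 yc48 zc58) (kc xc6 yc10 zc30) (kc xc12 yc40 zc43) (kc xc12 yc1 zc11) (kc xc12 yc36 zc4) (kc xc6 yc34 zc58) (kc xc12 yc41 zc7) (kc xc12 yc41 zc9) (kc xc12 yc41 zc14) (kc xc12 yc40 zc48) (kc xc7 yc34 zc57) (kc xc7 yc34 zc58) (kc xc12 yc41 zc24) (kc xc3 yc50 zc18) (kc xc9 yc29 zc19) (kc xc12 yc41 zc30) (kc xc12 yc41 zc32) (kc xc3 yc22 zc44) (kc xc12 yc41 zc35) (kc xc12 yc41 zc39) (kc xc3 yc17 zc16) (kc xc12 yc41 zc45) (kc xc12 yc41 zc49) (kc xc12 yc41 zc51) (kc xc12 yc41 zc52)) (@D3.rec (fun _ => Pt) (kc xc3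 yc17 zc19) (kc xc9 yc24 zc51) (kc xc11 yc8 zc61) (kc xc3 yc17 zc22) (kc xc3 yc17 zc21) (kc xc3 yc17 zc23) (kc xc12 yc41 zc59) (kc xc3 yc17 zc24) (kc xc7 yc48 zc49) (kc xc6 yc21 zc33) (kc xc4 yc10 zc51) (kc xc12 yc42 zc9) (kc xc3 yc17 zc26) (kc xc12 yc36 zc53) (kc xc3 yc17 zc27) (kc xc4 yc46 zc33) (kc xc12 yc42 zc13) (kc xc9 yc15 zc1) (kc xc3 yc17 zc28) (kc xc6 yc0 zc29) (kc xc12 yc42 zc19) (kc xc7 yc40 zc56) (kc xc3 yc17 zc32) (kc xc3 yc17 zc31) (kc xc12 yc42 zc26) (kc xc12 yc42 zc31) (kc xc12 yc42 zc35) (kc xc12 yc42 zc40) (kc xc7 yc44 zc39) (kc xc3 yc50 zc39) (kc xc3 yc50 zc40) (kc xc12 yc42 zc48) (kc xc3 yc49 zc33) (kc xc12 yc40 zc1) (kc xc12 yc40 zc2) (kc xc3 yc17 zc34) (kc xc12 yc42 zc54) (kc xc12 yc42 zc56) (kc xc11 yc6 zc43) (kc xc10 yc4 zc58) (kc xc5 yc5 zc51)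 (kc xc9 yc51 zc9) (kc xc10 yc4 zc33) (kc xc3 yc50 zc15) (kc xc3 yc50 zc16) (kc xc12 yc43 zc11) (kc xc3 yc48 zc45) (kc xc12 yc41 zc41) (kc xc12 yc41 zc42) (kc xc3 yc17 zc39) (kc xc12 yc43 zc20) (kc xc12 yc43 zc22) (kc xc9 yc18 zc10) (kc xc12 yc43 zc25) (kc xc12 yc24 zc5) (kc xc3 yc17 zc44) (kc xc6 yc31 zc21) (kc xc3 yc17 zc43) (kc xc12 yc43 zc31) (kc xc3 yc20 zc22) (kc xc12 yc43 zc37) (kc xc12 yc43 zc30)) (@D3.rec (fun _ => Pt) (kc xc12 yc36 zc52) (kc xc9 yc49 zc12) (kc xc8 yc14 zc59) (kc xc3 yc20 zc27) (kc xc12 yc43 zc49) (kc xc9 yc49 zc6) (kc xc8 yc50 zc4) (kc xc9 yc50 zc32) (kc xc12 yc43 zc59) (kc xc12 yc44 zc2) (kc xc3 yc20 zc32) (kc xc12 yc44 zc4) (kc xc3 yc17 zc50) (kc xc5 yc5 zc52) (kc xc3 yc17 zc51) (kc xc11 yc8 zc33) (kc xc3 yc17 zc61) (kc xc3 yc17 zc53) (kc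 xc12 yc44 zc17) (kc xc12 yc44 zc20) (kc xc12 yc44 zc25) (kc xc12 yc44 zc16) (kc xc12 yc25 zc42) (kc xc3 yc17 zc54) (kc xc12 yc44 zc33) (kc xc12 yc44 zc30) (kc xc12 yc44 zc37) (kc xc3 yc17 zc55) (kc xc12 yc44 zc42) (kc xc12 yc44 zc41) (kc xc12 yc44 zc48) (kc xc12 yc44 zc52) (kc xc3 yc17 zc56) (kc xc12 yc44 zc59) (kc xc3 yc17 zc58) (kc xc12 yc44 zc61) (kc xc3 yc51 zc23) (kc xc3 yc51 zc24) (kc xc12 yc45 zc9) (kc xc3 yc46 zc48) (kc xc3 yc51 zc17) (kc xc3 yc51 zc18) (kc xc12 yc12 zc50) (kc xc3 yc46 zc4) (kc xc6 yc41 zc52) (kc xc6 yc41 zc51) (kc xc12 yc44 zc13) (kc xc12 yc35 zc24) (kc xc12 yc35 zc25) (kc xc12 yc45 zc30) (kc xc3 yc18 zc4) (kc xc3 yc18 zc1) (kc xc11 yc37 zc11) (kc xc3 yc18 zc2) (kc xc12 yc45 zc37) (kc xc9 yc27 zc34) (kc xc12 yc45 zc41) (kc xc12 yc45 zc44) (kc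 xc3 yc18 zc3) (kc xc12 yc45 zc50) (kc xc3 yc47 zc50) (kc xc12 yc45 zc54)) (@D3.rec (fun _ => Pt) (kc xc9 yc28 zc38) (kc xc12 yc45 zc59) (kc xc12 yc45 zc60) (kc xc12 yc46 zc0) (kc xc3 yc18 zc6) (kc xc12 yc46 zc6) (kc xc9 yc23 zc31) (kc xc6 yc40 zc12) (kc xc12 yc46 zc9) (kc xc12 yc46 zc11) (kc xc3 yc18 zc8) (kc xc7 yc12 zc18) (kc xc6 yc40 zc7) (kc xc5 yc14 zc18) (kc xc5 yc13 zc51) (kc xc5 yc41 zc3) (kc xc5 yc13 zc36) (kc xc5 yc4 zc5) (kc xc3 yc18 zc12) (kc xc12 yc46 zc22) (kc xc3 yc18 zc39) (kc xc12 yc46 zc27) (kc xc6 yc29 zc58) (kc xc12 yc46 zc29) (kc xc3 yc18 zc14) (kc xc12 yc46 zc33) (kc xc11 yc11 zc12) (kc xc3 yc18 zc15) (kc xc9 yc9 zc38) (kc xc12 yc2 zc51) (kc xc12 yc3 zc6) (kc xc12 yc44 zc57) (kc xc5 yc4 zc2) (kc xc3 yc18 zc17) (kc xc12 yc46 zc45) (kc xc7 yc45 zc36)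 (kc xc7 yc43 zc59) (kc xc12 yc46 zc52) (kc xc6 yc26 zc3) (kc xc12 yc46 zc54) (kc xc12 yc46 zc57) (kc xc10 yc41 zc35) (kc xc3 yc18 zc21) (kc xc3 yc18 zc24) (kc xc6 yc58 zc19) (kc xc6 yc26 zc58) (kc xc12 yc47 zc3) (kc xc12 yc47 zc5) (kc xc5 yc16 zc38) (kc xc12 yc47 zc9) (kc xc12 yc47 zc12) (kc xc3 yc18 zc25) (kc xc7 yc19 zc10) (kc xc3 yc18 zc26) (kc xc3 yc18 zc27) (kc xc12 yc46 zc12) (kc xc6 yc48 zc60) (kc xc3 yc18 zc29) (kc xc3 yc18 zc31) (kc xc12 yc28 zc46) (kc xc3 yc24 zc10) (kc xc3 yc18 zc35)) (@D3.rec (fun _ => Pt) (kc xc3 yc18 zc34) (kc xc10 yc14 zc41) (kc xc12 yc47 zc24) (kc xc12 yc47 zc21) (kc xc12 yc47 zc30) (kc xc12 yc47 zc22) (kc xc3 yc18 zc36) (kc xc12 yc47 zc37) (kc xc3 yc45 zc36) (kc xc12 yc47 zc40) (kc xc3 yc18 zc40) (kc xc12 yc14 zc50) (kc xc12 yc2 zc42)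 (kc xc3 yc18 zc41) (kc xc12 yc36 zc57) (kc xc12 yc47 zc48) (kc xc12 yc47 zc50) (kc xc3 yc18 zc43) (kc xc12 yc40 zc38) (kc xc3 yc52 zc11) (kc xc3 yc18 zc45) (kc xc3 yc18 zc46) (kc xc12 yc47 zc56) (kc xc5 yc26 zc40) (kc xc3 yc18 zc47) (kc xc9 yc20 zc11) (kc xc9 yc20 zc12) (kc xc3 yc22 zc11) (kc xc12 yc48 zc6) (kc xc12 yc12 zc22) (kc xc3 yc18 zc49) (kc xc3 yc28 zc45) (kc xc3 yc28 zc44) (kc xc12 yc48 zc8) (kc xc3 yc39 zc39) (kc xc3 yc39 zc36) (kc xc3 yc53 zc45) (kc xc12 yc33 zc22) (kc xc3 yc53 zc42) (kc xc3 yc28 zc41) (kc xc12 yc26 zc34) (kc xc3 yc28 zc50) (kc xc7 yc11 zc46) (kc xc12 yc48 zc36) (kc xc12 yc13 zc39) (kc xc3 yc22 zc34) (kc xc12 yc48 zc45) (kc xc3 yc39 zc50) (kc xc3 yc39 zc46) (kc xc3 yc18 zc56) (kc xc12 yc48 zc52) (kc xc6 yc39 zc45) (kc xc6 yc39 zc44) (kc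 xc9 yc28 zc30) (kc xc4 yc41 zc50) (kc xc6 yc21 zc53) (kc xc12 yc49 zc1) (kc xc3 yc19 zc0) (kc xc3 yc18 zc59) (kc xc12 yc49 zc3) (kc xc3 yc18 zc60) (kc xc12 yc49 zc4)) (@D3.rec (fun _ => Pt) (kc xc12 yc49 zc5) (kc xc3 yc18 zc61) (kc xc12 yc49 zc8) (kc xc6 yc35 zc42) (kc xc7 yc30 zc57) (kc xc7 yc30 zc59) (kc xc12 yc49 zc20) (kc xc3 yc23 zc25) (kc xc12 yc49 zc23) (kc xc12 yc49 zc26) (kc xc6 yc25 zc51) (kc xc12 yc10 zc24) (kc xc4 yc26 zc35) (kc xc3 yc43 zc38) (kc xc12 yc49 zc33) (kc xc12 yc49 zc36) (kc xc12 yc49 zc40) (kc xc7 yc51 zc23) (kc xc12 yc36 zc40) (kc xc3 yc19 zc8) (kc xc12 yc49 zc49) (kc xc6 yc49 zc23) (kc xc6 yc22 zc3) (kc xc12 yc49 zc52) (kc xc12 yc49 zc54) (kc xc3 yc19 zc10) (kc xc12 yc49 zc58) (kc xc6 yc50 zc54) (kc xc12 yc14 zc26) (kc xc3 yc19 zc15) (kc xc12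 yc50 zc1) (kc xc12 yc50 zc2) (kc xc3 yc19 zc14) (kc xc12 yc50 zc4) (kc xc3 yc19 zc16) (kc xc12 yc50 zc5) (kc xc6 yc8 zc45) (kc xc12 yc50 zc9) (kc xc3 yc19 zc18) (kc xc3 yc19 zc19) (kc xc10 yc3 zc56) (kc xc12 yc50 zc14) (kc xc3 yc19 zc20) (kc xc12 yc13 zc44) (kc xc12 yc26 zc33) (kc xc3 yc19 zc38) (kc xc12 yc50 zc28) (kc xc3 yc19 zc22) (kc xc12 yc50 zc31) (kc xc3 yc19 zc25) (kc xc3 yc19 zc24) (kc xc12 yc50 zc37) (kc xc3 yc19 zc26) (kc xc12 yc50 zc36) (kc xc12 yc40 zc18) (kc xc8 yc25 zc31) (kc xc3 yc19 zc32) (kc xc3 yc19 zc34) (kc xc12 yc50 zc49) (kc xc4 yc49 zc35) (kc xc12 yc50 zc51) (kc xc6 yc46 zc6)) (@D3.rec (fun _ => Pt) (kc xc12 yc50 zc56) (kc xc12 yc50 zc61) (kc xc12 yc50 zc23) (kc xc12 yc51 zc5) (kc xc12 yc50 zc25) (kc xc9 yc14 zc9) (kc xc3 yc19 zc39) (kc xc6 yc46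 zc41) (kc xc6 yc4 zc7) (kc xc3 yc19 zc41) (kc xc11 yc35 zc14) (kc xc12 yc44 zc12) (kc xc6 yc54 zc46) (kc xc9 yc29 zc10) (kc xc4 yc47 zc49) (kc xc9 yc21 zc57) (kc xc12 yc51 zc24) (kc xc12 yc51 zc25) (kc xc3 yc19 zc45) (kc xc12 yc51 zc31) (kc xc12 yc51 zc34) (kc xc9 yc23 zc54) (kc xc12 yc51 zc38) (kc xc9 yc53 zc22) (kc xc6 yc56 zc16) (kc xc12 yc51 zc40) (kc xc3 yc51 zc8) (kc xc12 yc51 zc46) (kc xc7 yc37 zc17) (kc xc9 yc24 zc45) (kc xc12 yc51 zc51) (kc xc3 yc19 zc52) (kc xc12 yc51 zc53) (kc xc12 yc51 zc56) (kc xc12 yc51 zc60) (kc xc3 yc19 zc53) (kc xc12 yc52 zc4) (kc xc12 yc34 zc22) (kc xc12 yc52 zc7) (kc xc3 yc19 zc56) (kc xc12 yc52 zc11) (kc xc3 yc19 zc57) (kc xc12 yc52 zc17) (kc xc12 yc52 zc16) (kc xc3 yc19 zc58) (kc xc12 yc52 zc20) (kc xc12 yc52 zc22) (kc xc8 yc34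 zc11) (kc xc3 yc20 zc11) (kc xc12 yc52 zc34) (kc xc3 yc19 zc60) (kc xc10 yc52 zc2) (kc xc12 yc19 zc56) (kc xc3 yc19 zc61) (kc xc3 yc20 zc0) (kc xc12 yc41 zc53) (kc xc3 yc20 zc3) (kc xc12 yc52 zc42) (kc xc3 yc20 zc7) (kc xc3 yc42 zc43) (kc xc4 yc32 zc19) (kc xc4 yc13 zc16)) (@D3.rec (fun _ => Pt) (kc xc12 yc52 zc54) (kc xc5 yc42 zc20) (kc xc4 yc41 zc52) (kc xc12 yc52 zc60) (kc xc12 yc53 zc2) (kc xc12 yc52 zc29) (kc xc12 yc53 zc7) (kc xc12 yc52 zc31) (kc xc11 yc22 zc37) (kc xc9 yc5 zc14) (kc xc9 yc0 zc19) (kc xc9 yc1 zc34) (kc xc3 yc20 zc14) (kc xc3 yc20 zc15) (kc xc12 yc53 zc13) (kc xc3 yc20 zc17) (kc xc9 yc15 zc41) (kc xc11 yc34 zc49) (kc xc12 yc17 zc30) (kc xc3 yc51 zc14) (kc xc5 yc48 zc16) (kc xc3 yc20 zc19) (kc xc12 yc53 zc19) (kc xc11 yc29 zc19) (kc xc11 yc29 zc20)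 (kc xc6 yc31 zc24) (kc xc12 yc53 zc26) (kc xc12 yc53 zc28) (kc xc8 yc24 zc57) (kc xc3 yc20 zc23) (kc xc12 yc53 zc31) (kc xc12 yc43 zc35) (kc xc12 yc53 zc34) (kc xc12 yc10 zc47) (kc xc3 yc20 zc25) (kc xc11 yc58 zc17) (kc xc12 yc53 zc40) (kc xc5 yc48 zc30) (kc xc12 yc53 zc47) (kc xc3 yc20 zc29) (kc xc12 yc53 zc49) (kc xc12 yc43 zc47) (kc xc12 yc53 zc51) (kc xc3 yc20 zc28) (kc xc12 yc53 zc57) (kc xc3 yc20 zc30) (kc xc9 yc57 zc48) (kc xc6 yc50 zc32) (kc xc3 yc20 zc31) (kc xc12 yc54 zc0) (kc xc12 yc53 zc61) (kc xc12 yc54 zc1) (kc xc6 yc50 zc31) (kc xc12 yc54 zc2) (kc xc6 yc47 zc17) (kc xc12 yc54 zc8) (kc xc12 yc54 zc9) (kc xc12 yc54 zc11) (kc xc3 yc20 zc35) (kc xc12 yc54 zc16) (kc xc12 yc54 zc21) (kc xc5 yc11 zc0)) (@D3.rec (fun _ => Pt) (kc xc5 yc13 zc33) (kc xc4 yc35 zc34)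 (kc xc12 yc54 zc24) (kc xc3 yc20 zc40) (kc xc3 yc20 zc39) (kc xc12 yc44 zc44) (kc xc12 yc54 zc30) (kc xc12 yc54 zc28) (kc xc10 yc44 zc14) (kc xc12 yc54 zc33) (kc xc3 yc21 zc9) (kc xc12 yc54 zc42) (kc xc3 yc20 zc42) (kc xc3 yc20 zc43) (kc xc12 yc54 zc46) (kc xc12 yc54 zc45) (kc xc12 yc54 zc49) (kc xc3 yc20 zc46) (kc xc12 yc54 zc52) (kc xc3 yc20 zc45) (kc xc12 yc54 zc56) (kc xc12 yc54 zc61) (kc xc7 yc44 zc25) (kc xc12 yc55 zc1) (kc xc12 yc14 zc54) (kc xc12 yc55 zc2) (kc xc3 yc20 zc47) (kc xc12 yc55 zc6) (kc xc3 yc20 zc48) (kc xc3 yc21 zc35) (kc xc4 yc49 zc51) (kc xc4 yc49 zc52) (kc xc10 yc1 zc2) (kc xc3 yc20 zc50) (kc xc6 yc22 zc30) (kc xc8 yc37 zc26) (kc xc12 yc55 zc16) (kc xc12 yc51 zc11) (kc xc3 yc20 zc51) (kc xc3 yc20 zc53) (kc xc12 yc55 zc20) (kc xc3 yc20 zc54) (kc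 xc10 yc43 zc0) (kc xc11 yc0 zc51) (kc xc11 yc12 zc43) (kc xc3 yc20 zc57) (kc xc12 yc55 zc25) (kc xc12 yc55 zc28) (kc xc3 yc20 zc56) (kc xc11 yc44 zc49) (kc xc12 yc55 zc32) (kc xc12 yc55 zc33) (kc xc11 yc44 zc53) (kc xc3 yc20 zc59) (kc xc3 yc21 zc0) (kc xc12 yc27 zc58) (kc xc4 yc49 zc47) (kc xc12 yc55 zc39) (kc xc3 yc21 zc3) (kc xc4 yc55 zc40) (kc xc4 yc55 zc41) (kc xc9 yc44 zc5)) (@D3.rec (fun _ => Pt) (kc xc11 yc55 zc56) (kc xc3 yc21 zc4) (kc xc12 yc55 zc51) (kc xc12 yc55 zc49) (kc xc12 yc18 zc9) (kc xc12 yc18 zc10) (kc xc6 yc42 zc61) (kc xc12 yc56 zc0) (kc xc11 yc53 zc50) (kc xc11 yc53 zc51) (kc xc12 yc54 zc38) (kc xc12 yc56 zc13) (kc xc11 yc56 zc28) (kc xc9 yc17 zc30) (kc xc3 yc21 zc12) (kc xc12 yc15 zc11) (kc xc9 yc27 zc39) (kc xc12 yc38 zc24) (kc xc3 yc23 zc10)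 (kc xc3 yc21 zc18) (kc xc3 yc21 zc19) (kc xc3 yc21 zc36) (kc xc5 yc57 zc45) (kc xc3 yc21 zc21) (kc xc3 yc21 zc22) (kc xc12 yc56 zc22) (kc xc11 yc57 zc42) (kc xc12 yc56 zc24) (kc xc3 yc21 zc23) (kc xc10 yc34 zc33) (kc xc3 yc21 zc24) (kc xc12 yc56 zc29) (kc xc5 yc7 zc28) (kc xc10 yc4 zc40) (kc xc10 yc4 zc41) (kc xc12 yc56 zc31) (kc xc3 yc21 zc27) (kc xc12 yc56 zc34) (kc xc12 yc56 zc37) (kc xc3 yc21 zc28) (kc xc3 yc21 zc30) (kc xc6 yc43 zc7) (kc xc12 yc56 zc42) (kc xc12 yc56 zc45) (kc xc12 yc56 zc39) (kc xc7 yc31 zc7) (kc xc3 yc21 zc32) (kc xc3 yc44 zc59) (kc xc12 yc55 zc8) (kc xc12 yc47 zc18) (kc xc12 yc55 zc5) (kc xc10 yc17 zc52) (kc xc10 yc17 zc51) (kc xc10 yc5 zc20) (kc xc11 yc8 zc35) (kc xc12 yc4 zc8) (kc xc12 yc41 zc55) (kc xc10 yc44 zc38) (kc xc9 yc32 zc30) (kc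 xc12 yc56 zc57) (kc xc3 yc21 zc41) (kc xc12 yc2 zc6)) (@D3.rec (fun _ => Pt) (kc xc3 yc21 zc42) (kc xc12 yc56 zc61) (kc xc9 yc30 zc50) (kc xc3 yc21 zc49) (kc xc12 yc57 zc5) (kc xc3 yc21 zc51) (kc xc12 yc57 zc11) (kc xc12 yc57 zc15) (kc xc3 yc21 zc44) (kc xc12 yc57 zc19) (kc xc12 yc28 zc33) (kc xc6 yc20 zc40) (kc xc12 yc57 zc27) (kc xc9 yc26 zc59) (kc xc3 yc21 zc56) (kc xc12 yc57 zc34) (kc xc3 yc21 zc47) (kc xc6 yc44 zc54) (kc xc3 yc21 zc48) (kc xc12 yc57 zc2) (kc xc12 yc57 zc43) (kc xc12 yc57 zc45) (kc xc3 yc21 zc50) (kc xc12 yc57 zc50) (kc xc12 yc57 zc53) (kc xc12 yc57 zc56) (kc xc12 yc57 zc58) (kc xc9 yc27 zc44) (kc xc12 yc57 zc48) (kc xc3 yc21 zc53) (kc xc7 yc58 zc52) (kc xc11 yc10 zc24) (kc xc12 yc58 zc1) (kc xc12 yc58 zc4) (kc xc12 yc57 zc32) (kc xc12 yc58 zc6)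 (kc xc12 yc4 zc9) (kc xc12 yc47 zc44) (kc xc12 yc58 zc13) (kc xc3 yc21 zc61) (kc xc12 yc58 zc14) (kc xc3 yc21 zc60) (kc xc12 yc58 zc17) (kc xc6 yc2 zc60) (kc xc3 yc22 zc2) (kc xc9 yc24 zc60) (kc xc3 yc22 zc4) (kc xc12 yc58 zc24) (kc xc3 yc22 zc6) (kc xc12 yc13 zc55) (kc xc12 yc14 zc17) (kc xc3 yc22 zc7) (kc xc12 yc58 zc28) (kc xc9 yc4 zc57) (kc xc9 yc39 zc17) (kc xc5 yc14 zc50) (kc xc6 yc23 zc24) (kc xc12 yc25 zc11) (kc xc9 yc5 zc3) (kc xc12 yc58 zc43) (kc xc12 yc58 zc45) (kc xc12 yc48 zc2)) (@D3.rec (fun _ => Pt) (kc xc12 yc58 zc48) (kc xc5 yc7 zc11) (kc xc3 yc22 zc13) (kc xc12 yc58 zc50) (kc xc12 yc13 zc49) (kc xc3 yc22 zc14) (kc xc6 yc26 zc18) (kc xc3 yc35 zc9) (kc xc3 yc22 zc16) (kc xc6 yc54 zc17) (kc xc12 yc59 zc1) (kc xc12 yc59 zc4) (kc xc12 yc58 zc59) (kc xc3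 yc22 zc17) (kc xc12 yc59 zc8) (kc xc6 yc20 zc52) (kc xc4 yc43 zc22) (kc xc3 yc22 zc20) (kc xc12 yc0 zc9) (kc xc3 yc22 zc19) (kc xc12 yc59 zc18) (kc xc12 yc59 zc19) (kc xc12 yc59 zc21) (kc xc12 yc59 zc24) (kc xc12 yc59 zc14) (kc xc12 yc59 zc16) (kc xc4 yc12 zc46) (kc xc4 yc12 zc47) (kc xc4 yc43 zc59) (kc xc3 yc22 zc25) (kc xc12 yc59 zc37) (kc xc3 yc22 zc24) (kc xc8 yc23 zc16) (kc xc8 yc23 zc15) (kc xc4 yc9 zc47) (kc xc12 yc59 zc41) (kc xc12 yc59 zc43) (kc xc12 yc59 zc34) (kc xc12 yc59 zc36) (kc xc11 yc59 zc26) (kc xc3 yc22 zc29) (kc xc3 yc22 zc27) (kc xc8 yc35 zc30) (kc xc8 yc23 zc4) (kc xc12 yc59 zc50) (kc xc3 yc22 zc28) (kc xc8 yc35 zc29) (kc xc12 yc59 zc53) (kc xc3 yc22 zc30) (kc xc12 yc59 zc56) (kc xc11 yc59 zc14) (kc xc4 yc18 zc17) (kc xc12 yc26 zc40) (kc xc3 yc22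 zc32) (kc xc13 yc0 zc10) (kc xc13 yc0 zc9) (kc xc13 yc0 zc17) (kc xc3 yc22 zc33) (kc xc13 yc0 zc23) (kc xc13 yc0 zc22) (kc xc6 yc40 zc56) (kc xc4 yc45 zc10)) (@D3.rec (fun _ => Pt) (kc xc6 yc29 zc22) (kc xc3 yc22 zc37) (kc xc6 yc30 zc45) (kc xc6 yc29 zc21) (kc xc12 yc16 zc10) (kc xc10 yc1 zc54) (kc xc4 yc45 zc22) (kc xc3 yc22 zc45) (kc xc3 yc22 zc46) (kc xc6 yc9 zc35) (kc xc3 yc22 zc49) (kc xc12 yc33 zc20) (kc xc13 yc0 zc41) (kc xc13 yc0 zc43) (kc xc13 yc0 zc38) (kc xc3 yc22 zc51) (kc xc6 yc21 zc4) (kc xc13 yc0 zc49) (kc xc9 yc29 zc11) (kc xc4 yc43 zc54) (kc xc3 yc43 zc29) (kc xc13 yc0 zc51) (kc xc3 yc22 zc57) (kc xc6 yc42 zc21) (kc xc10 yc52 zc18) (kc xc3 yc22 zc59) (kc xc3 yc44 zc54) (kc xc3 yc26 zc49) (kc xc4 yc40 zc30) (kc xc3 yc27 zc17) (kc xc3 yc40 zc10) (kc xc6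 yc32 zc45) (kc xc6 yc32 zc44) (kc xc3 yc23 zc2) (kc xc3 yc23 zc4) (kc xc13 yc0 zc56) (kc xc6 yc25 zc49) (kc xc13 yc0 zc58) (kc xc13 yc0 zc61) (kc xc9 yc47 zc18) (kc xc9 yc58 zc44) (kc xc4 yc47 zc2) (kc xc3 yc23 zc8) (kc xc3 yc23 zc9) (kc xc12 yc3 zc25) (kc xc6 yc35 zc36) (kc xc3 yc43 zc3) (kc xc3 yc43 zc1) (kc xc4 yc43 zc10) (kc xc3 yc27 zc13) (kc xc4 yc45 zc30) (kc xc4 yc45 zc31) (kc xc13 yc1 zc9) (kc xc3 yc23 zc18) (kc xc3 yc23 zc16) (kc xc13 yc1 zc11) (kc xc13 yc1 zc12) (kc xc3 yc23 zc17) (kc xc9 yc38 zc18) (kc xc4 yc47 zc13) (kc xc3 yc23 zc22) (kc xc3 yc23 zc21)) (@D3.rec (fun _ => Pt) (kc xc13 yc1 zc18) (kc xc4 yc47 zc12) (kc xc6 yc51 zc46) (kc xc6 yc53 zc59) (kc xc9 yc48 zc26) (kc xc13 yc1 zc16) (kc xc3 yc27 zc6) (kc xc3 yc43 zc7) (kc xc13 yc1 zc24) (kc xc3 yc23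 zc27) (kc xc12 yc58 zc22) (kc xc12 yc58 zc15) (kc xc3 yc23 zc26) (kc xc13 yc1 zc29) (kc xc11 yc58 zc21) (kc xc11 yc50 zc22) (kc xc13 yc1 zc31) (kc xc3 yc23 zc28) (kc xc9 yc25 zc54) (kc xc9 yc25 zc2) (kc xc9 yc22 zc55) (kc xc3 yc26 zc32) (kc xc13 yc1 zc36) (kc xc4 yc42 zc60) (kc xc4 yc38 zc51) (kc xc4 yc37 zc47) (kc xc7 yc57 zc20) (kc xc3 yc24 zc3) (kc xc7 yc25 zc41) (kc xc3 yc23 zc37) (kc xc13 yc1 zc41) (kc xc6 yc44 zc52) (kc xc6 yc44 zc47) (kc xc13 yc1 zc45) (kc xc13 yc1 zc46) (kc xc3 yc26 zc6) (kc xc3 yc25 zc46) (kc xc13 yc1 zc50) (kc xc13 yc1 zc53) (kc xc9 yc48 zc6) (kc xc7 yc42 zc56) (kc xc9 yc23 zc39) (kc xc5 yc6 zc39) (kc xc6 yc32 zc19) (kc xc13 yc1 zc59) (kc xc5 yc14 zc12) (kc xc5 yc13 zc34) (kc xc6 yc32 zc46) (kc xc3 yc23 zc51) (kc xc12 yc32 zc41) (kc xc13 yc1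 zc60) (kc xc3 yc23 zc54) (kc xc3 yc23 zc56) (kc xc13 yc2 zc0) (kc xc6 yc42 zc27) (kc xc3 yc23 zc57) (kc xc13 yc2 zc4) (kc xc3 yc23 zc58) (kc xc3 yc23 zc59) (kc xc13 yc2 zc7) (kc xc5 yc50 zc1) (kc xc3 yc23 zc61)) (@D3.rec (fun _ => Pt) (kc xc11 yc36 zc26) (kc xc11 yc36 zc25) (kc xc11 yc31 zc11) (kc xc3 yc24 zc2) (kc xc11 yc42 zc24) (kc xc10 yc34 zc38) (kc xc9 yc25 zc61) (kc xc3 yc24 zc4) (kc xc13 yc2 zc12) (kc xc5 yc54 zc58) (kc xc11 yc36 zc41) (kc xc3 yc24 zc5) (kc xc13 yc2 zc20) (kc xc13 yc2 zc19) (kc xc13 yc2 zc22) (kc xc13 yc2 zc24) (kc xc9 yc18 zc43) (kc xc10 yc34 zc39) (kc xc5 yc47 zc13) (kc xc3 yc24 zc11) (kc xc6 yc30 zc27) (kc xc3 yc24 zc14) (kc xc3 yc24 zc15) (kc xc3 yc25 zc16) (kc xc3 yc28 zc29) (kc xc7 yc4 zc8) (kc xc12 yc19 zc18) (kc xc3 yc24 zc23) (kc xc12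 yc19 zc11) (kc xc3 yc28 zc28) (kc xc13 yc2 zc41) (kc xc12 yc19 zc8) (kc xc13 yc2 zc47) (kc xc6 yc51 zc33) (kc xc6 yc29 zc39) (kc xc6 yc58 zc54) (kc xc13 yc2 zc56) (kc xc3 yc24 zc32) (kc xc3 yc24 zc30) (kc xc3 yc24 zc31) (kc xc3 yc28 zc24) (kc xc6 yc34 zc55) (kc xc3 yc37 zc50) (kc xc7 yc43 zc8) (kc xc3 yc29 zc19) (kc xc11 yc59 zc57) (kc xc6 yc50 zc2) (kc xc7 yc27 zc38) (kc xc7 yc27 zc32) (kc xc3 yc44 zc46) (kc xc13 yc3 zc14) (kc xc11 yc23 zc1) (kc xc7 yc16 zc44) (kc xc7 yc5 zc33) (kc xc11 yc59 zc47) (kc xc6 yc10 zc11) (kc xc3 yc24 zc44) (kc xc13 yc3 zc24) (kc xc7 yc6 zc10) (kc xc13 yc3 zc30) (kc xc7 yc3 zc10) (kc xc6 yc33 zc35)) (@D3.rec (fun _ => Pt) (kc xc13 yc3 zc36) (kc xc3 yc37 zc30) (kc xc13 yc3 zc39) (kc xc13 yc3 zc42) (kc xc3 yc24 zc47) (kc xc13 yc3 zc47) (kc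 xc7 yc34 zc47) (kc xc6 yc59 zc61) (kc xc3 yc30 zc35) (kc xc6 yc59 zc59) (kc xc13 yc3 zc57) (kc xc3 yc24 zc52) (kc xc13 yc3 zc61) (kc xc3 yc24 zc51) (kc xc7 yc27 zc57) (kc xc7 yc28 zc23) (kc xc7 yc28 zc21) (kc xc13 yc4 zc7) (kc xc3 yc24 zc56) (kc xc3 yc24 zc55) (kc xc13 yc4 zc14) (kc xc3 yc24 zc59) (kc xc13 yc4 zc15) (kc xc3 yc24 zc58) (kc xc13 yc4 zc18) (kc xc3 yc24 zc61) (kc xc7 yc27 zc22) (kc xc7 yc6 zc50) (kc xc7 yc25 zc48) (kc xc6 yc52 zc29) (kc xc9 yc33 zc2) (kc xc3 yc25 zc6) (kc xc12 yc13 zc48) (kc xc7 yc29 zc53) (kc xc11 yc59 zc56) (kc xc13 yc4 zc30) (kc xc7 yc26 zc58) (kc xc3 yc38 zc9) (kc xc11 yc59 zc41) (kc xc3 yc33 zc1) (kc xc7 yc33 zc30) (kc xc10 yc8 zc61) (kc xc3 yc25 zc13) (kc xc13 yc4 zc40) (kc xc7 yc27 zc13) (kc xc6 yc12 zc20) (kc xc3 yc31 zc58) (kc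 xc13 yc2 zc33) (kc xc7 yc20 zc14) (kc xc6 yc52 zc49) (kc xc7 yc55 zc15) (kc xc7 yc9 zc61) (kc xc12 yc58 zc56) (kc xc6 yc59 zc32) (kc xc12 yc58 zc52) (kc xc3 yc29 zc24) (kc xc12 yc58 zc49) (kc xc3 yc25 zc22) (kc xc13 yc5 zc3) (kc xc6 yc52 zc59) (kc xc6 yc27 zc39) (kc xc6 yc58 zc45)) (@D3.rec (fun _ => Pt) (kc xc3 yc45 zc51) (kc xc3 yc46 zc7) (kc xc7 yc33 zc27) (kc xc3 yc46 zc10) (kc xc3 yc25 zc30) (kc xc7 yc22 zc42) (kc xc7 yc22 zc61) (kc xc7 yc41 zc10) (kc xc3 yc43 zc49) (kc xc5 yc57 zc14) (kc xc13 yc5 zc20) (kc xc13 yc5 zc22) (kc xc3 yc44 zc53) (kc xc6 yc53 zc15) (kc xc6 yc33 zc9) (kc xc6 yc53 zc13) (kc xc7 yc1 zc35) (kc xc5 yc53 zc25) (kc xc13 yc4 zc54) (kc xc13 yc4 zc53) (kc xc13 yc5 zc41) (kc xc7 yc1 zc40) (kc xc12 yc39 zc7) (kc xc6 yc1 zc15) (kc xc4 yc49 zc4) (kc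 xc12 yc56 zc49) (kc xc13 yc5 zc51) (kc xc13 yc1 zc49) (kc xc7 yc21 zc43) (kc xc13 yc5 zc57) (kc xc3 yc45 zc0) (kc xc13 yc5 zc59) (kc xc3 yc45 zc3) (kc xc13 yc6 zc1) (kc xc13 yc6 zc3) (kc xc3 yc25 zc49) (kc xc13 yc6 zc8) (kc xc6 yc53 zc37) (kc xc13 yc6 zc12) (kc xc3 yc25 zc53) (kc xc3 yc25 zc52) (kc xc3 yc41 zc5) (kc xc3 yc50 zc55) (kc xc3 yc43 zc61) (kc xc7 yc1 zc15) (kc xc7 yc30 zc43) (kc xc3 yc26 zc3) (kc xc13 yc6 zc24) (kc xc3 yc26 zc5) (kc xc3 yc25 zc58) (kc xc13 yc6 zc29) (kc xc13 yc6 zc32) (kc xc3 yc44 zc18) (kc xc3 yc44 zc21) (kc xc11 yc58 zc42) (kc xc11 yc58 zc43) (kc xc9 yc16 zc11) (kc xc13 yc6 zc35) (kc xc7 yc22 zc47) (kc xc6 yc50 zc3) (kc xc13 yc6 zc22) (kc xc13 yc0 zc60)) (@D3.rec (fun _ => Pt) (kc xc3 yc26 zc4) (kc xc13 yc6 zc43) (kc xc7 yc23 zc50) (kc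 xc13 yc6 zc50) (kc xc4 yc48 zc58) (kc xc13 yc6 zc55) (kc xc9 yc5 zc34) (kc xc3 yc39 zc35) (kc xc12 yc30 zc48) (kc xc6 yc55 zc8) (kc xc3 yc44 zc31) (kc xc12 yc30 zc47) (kc xc3 yc44 zc30) (kc xc13 yc7 zc4) (kc xc13 yc7 zc7) (kc xc3 yc26 zc9) (kc xc6 yc54 zc16) (kc xc6 yc48 zc9) (kc xc3 yc26 zc11) (kc xc3 yc26 zc12) (kc xc13 yc7 zc15) (kc xc13 yc7 zc19) (kc xc13 yc7 zc23) (kc xc6 yc54 zc23) (kc xc7 yc13 zc37) (kc xc13 yc7 zc28) (kc xc13 yc7 zc31) (kc xc13 yc7 zc34) (kc xc3 yc26 zc15) (kc xc13 yc3 zc46) (kc xc7 yc54 zc36) (kc xc3 yc44 zc45) (kc xc7 yc25 zc27) (kc xc13 yc7 zc46) (kc xc3 yc26 zc19) (kc xc13 yc7 zc48) (kc xc7 yc12 zc41) (kc xc3 yc53 zc57) (kc xc7 yc18 zc16) (kc xc3 yc48 zc51) (kc xc7 yc40 zc45) (kc xc7 yc40 zc44) (kc xc3 yc42 zc39) (kc xc13 yc7 zc58) (kc xc13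 yc7 zc59) (kc xc6 yc54 zc47) (kc xc6 yc43 zc12) (kc xc6 yc54 zc45) (kc xc7 yc35 zc24) (kc xc13 yc8 zc5) (kc xc13 yc8 zc9) (kc xc13 yc8 zc14) (kc xc7 yc35 zc28) (kc xc9 yc31 zc1) (kc xc9 yc31 zc4) (kc xc13 yc8 zc22) (kc xc11 yc54 zc51) (kc xc7 yc49 zc36) (kc xc13 yc8 zc28) (kc xc3 yc41 zc54) (kc xc13 yc8 zc30) (kc xc3 yc48 zc19)) (@D3.rec (fun _ => Pt) (kc xc13 yc8 zc34) (kc xc13 yc8 zc36) (kc xc3 yc26 zc35) (kc xc13 yc8 zc39) (kc xc6 yc55 zc4) (kc xc13 yc8 zc42) (kc xc3 yc26 zc38) (kc xc3 yc54 zc51) (kc xc6 yc54 zc9) (kc xc7 yc25 zc6) (kc xc7 yc35 zc36) (kc xc7 yc35 zc51) (kc xc3 yc26 zc48) (kc xc9 yc10 zc8) (kc xc3 yc26 zc50) (kc xc12 yc31 zc10) (kc xc13 yc8 zc59) (kc xc3 yc55 zc17) (kc xc3 yc55 zc33) (kc xc3 yc55 zc34) (kc xc3 yc26 zc45) (kc xc7 yc52 zc49) (kc xc7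 yc49 zc44) (kc xc13 yc8 zc50) (kc xc13 yc9 zc1) (kc xc11 yc29 zc4) (kc xc7 yc50 zc15) (kc xc13 yc9 zc7) (kc xc7 yc52 zc34) (kc xc9 yc17 zc13) (kc xc11 yc20 zc4) (kc xc13 yc9 zc13) (kc xc6 yc21 zc38) (kc xc3 yc37 zc8) (kc xc9 yc14 zc28) (kc xc3 yc55 zc25) (kc xc11 yc50 zc59) (kc xc3 yc52 zc43) (kc xc6 yc3 zc31) (kc xc13 yc9 zc24) (kc xc3 yc26 zc54) (kc xc13 yc9 zc29) (kc xc6 yc55 zc42) (kc xc7 yc50 zc37) (kc xc3 yc26 zc57) (kc xc3 yc26 zc58) (kc xc13 yc9 zc36) (kc xc7 yc11 zc57) (kc xc3 yc55 zc30) (kc xc13 yc8 zc60) (kc xc7 yc50 zc35) (kc xc3 yc26 zc60) (kc xc3 yc26 zc61) (kc xc13 yc9 zc47) (kc xc7 yc13 zc22) (kc xc3 yc27 zc0) (kc xc13 yc9 zc50) (kc xc7 yc13 zc44) (kc xc3 yc27 zc4) (kc xc5 yc57 zc57) (kc xc13 yc9 zc56) (kc xc3 yc27 zc3)) (@D3.rec (fun _ => Pt) (kc xc13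 yc9 zc60) (kc xc13 yc10 zc3) (kc xc13 yc10 zc7) (kc xc13 yc10 zc12) (kc xc7 yc15 zc18) (kc xc13 yc10 zc14) (kc xc11 yc54 zc53) (kc xc11 yc54 zc52) (kc xc13 yc10 zc19) (kc xc13 yc1 zc22) (kc xc7 yc52 zc31) (kc xc3 yc27 zc7) (kc xc13 yc10 zc26) (kc xc7 yc25 zc0) (kc xc7 yc37 zc24) (kc xc7 yc37 zc25) (kc xc6 yc43 zc24) (kc xc7 yc37 zc26) (kc xc7 yc37 zc27) (kc xc8 yc26 zc40) (kc xc7 yc9 zc48) (kc xc11 yc29 zc2) (kc xc11 yc29 zc3) (kc xc13 yc10 zc41) (kc xc11 yc45 zc11) (kc xc13 yc9 zc26) (kc xc13 yc9 zc27) (kc xc3 yc27 zc14) (kc xc11 yc50 zc43) (kc xc3 yc27 zc16) (kc xc13 yc10 zc46) (kc xc13 yc1 zc47) (kc xc13 yc1 zc48) (kc xc13 yc10 zc53) (kc xc9 yc30 zc22) (kc xc13 yc10 zc57) (kc xc6 yc19 zc35) (kc xc6 yc19 zc34) (kc xc6 yc35 zc50) (kc xc6 yc35 zc54) (kc xc5 yc59 zc45)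 (kc xc6 yc1 zc5) (kc xc13 yc11 zc4) (kc xc13 yc11 zc6) (kc xc6 yc57 zc5) (kc xc3 yc27 zc21) (kc xc13 yc11 zc15) (kc xc7 yc13 zc46) (kc xc3 yc27 zc22) (kc xc13 yc11 zc22) (kc xc13 yc11 zc19) (kc xc13 yc11 zc29) (kc xc13 yc11 zc31) (kc xc3 yc27 zc23) (kc xc3 yc52 zc37) (kc xc13 yc11 zc38) (kc xc3 yc52 zc34) (kc xc7 yc43 zc37) (kc xc7 yc37 zc18) (kc xc13 yc11 zc44) (kc xc7 yc37 zc20) (kc xc3 yc27 zc26)) (@D3.rec (fun _ => Pt) (kc xc13 yc11 zc50) (kc xc13 yc11 zc54) (kc xc13 yc11 zc56) (kc xc3 yc27 zc28) (kc xc7 yc3 zc9) (kc xc6 yc56 zc44) (kc xc13 yc12 zc5) (kc xc3 yc27 zc29) (kc xc7 yc0 zc12) (kc xc13 yc12 zc9) (kc xc13 yc4 zc2) (kc xc13 yc4 zc12) (kc xc7 yc46 zc61) (kc xc13 yc2 zc57) (kc xc3 yc27 zc31) (kc xc13 yc12 zc22) (kc xc3 yc52 zc60) (kc xc3 yc27 zc33) (kc xc3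 yc52 zc10) (kc xc3 yc52 zc55) (kc xc3 yc56 zc29) (kc xc13 yc12 zc30) (kc xc13 yc12 zc32) (kc xc7 yc36 zc48) (kc xc11 yc52 zc57) (kc xc7 yc36 zc49) (kc xc13 yc11 zc36) (kc xc13 yc11 zc37) (kc xc3 yc27 zc37) (kc xc3 yc52 zc44) (kc xc13 yc12 zc49) (kc xc3 yc27 zc39) (kc xc3 yc52 zc39) (kc xc3 yc52 zc40) (kc xc13 yc12 zc25) (kc xc13 yc3 zc43) (kc xc3 yc27 zc41) (kc xc7 yc21 zc19) (kc xc7 yc24 zc26) (kc xc3 yc27 zc47) (kc xc13 yc13 zc6) (kc xc3 yc27 zc46) (kc xc3 yc56 zc21) (kc xc3 yc56 zc22) (kc xc3 yc27 zc45) (kc xc3 yc56 zc41) (kc xc7 yc49 zc48) (kc xc13 yc13 zc1) (kc xc13 yc13 zc15) (kc xc13 yc13 zc3) (kc xc3 yc27 zc48) (kc xc13 yc13 zc20) (kc xc7 yc30 zc35) (kc xc13 yc13 zc24) (kc xc13 yc13 zc9) (kc xc13 yc3 zc44) (kc xc3 yc27 zc51) (kc xc3 yc27 zc52) (kc xc13 yc13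 zc31) (kc xc7 yc26 zc19) (kc xc12 yc19 zc17) (kc xc7 yc5 zc60)) (@D3.rec (fun _ => Pt) (kc xc12 yc18 zc60) (kc xc6 yc59 zc19) (kc xc12 yc13 zc46) (kc xc3 yc38 zc51) (kc xc3 yc28 zc14) (kc xc13 yc13 zc49) (kc xc3 yc27 zc58) (kc xc13 yc13 zc52) (kc xc3 yc56 zc34) (kc xc13 yc13 zc59) (kc xc6 yc58 zc10) (kc xc12 yc47 zc43) (kc xc3 yc28 zc0) (kc xc3 yc27 zc61) (kc xc7 yc39 zc28) (kc xc10 yc3 zc42) (kc xc13 yc14 zc7) (kc xc13 yc14 zc10) (kc xc3 yc28 zc2) (kc xc6 yc40 zc44) (kc xc3 yc53 zc7) (kc xc12 yc38 zc30) (kc xc3 yc28 zc4) (kc xc7 yc12 zc27) (kc xc13 yc14 zc18) (kc xc3 yc28 zc6) (kc xc3 yc52 zc45) (kc xc13 yc14 zc25) (kc xc6 yc58 zc28) (kc xc13 yc14 zc29) (kc xc3 yc28 zc9) (kc xc3 yc56 zc7) (kc xc10 yc15 zc12) (kc xc9 yc59 zc1) (kc xc9 yc59 zc0) (kc xc3 yc28 zc11) (kc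 xc13 yc14 zc42) (kc xc3 yc53 zc10) (kc xc3 yc53 zc11) (kc xc13 yc14 zc49) (kc xc3 yc28 zc13) (kc xc7 yc32 zc26) (kc xc7 yc31 zc54) (kc xc6 yc58 zc43) (kc xc3 yc31 zc13) (kc xc6 yc52 zc61) (kc xc13 yc14 zc60) (kc xc3 yc28 zc19) (kc xc3 yc28 zc17) (kc xc3 yc28 zc18) (kc xc6 yc58 zc50) (kc xc3 yc35 zc56) (kc xc7 yc12 zc49) (kc xc7 yc19 zc40) (kc xc6 yc51 zc35) (kc xc13 yc2 zc58) (kc xc7 yc51 zc4) (kc xc3 yc28 zc49) (kc xc12 yc0 zc39) (kc xc12 yc39 zc1) (kc xc6 yc34 zc22) (kc xc3 yc28 zc33)) (@D3.rec (fun _ => Pt) (kc xc3 yc28 zc35) (kc xc9 yc24 zc13) (kc xc12 yc33 zc24) (kc xc13 yc15 zc15) (kc xc6 yc9 zc41) (kc xc13 yc15 zc17) (kc xc13 yc15 zc18) (kc xc12 yc36 zc50) (kc xc12 yc48 zc27) (kc xc12 yc48 zc10) (kc xc3 yc36 zc15) (kc xc12 yc1 zc6) (kc xc7 yc55 zc19) (kc xc12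 yc1 zc5) (kc xc6 yc33 zc61) (kc xc13 yc15 zc33) (kc xc13 yc15 zc38) (kc xc13 yc15 zc12) (kc xc13 yc15 zc42) (kc xc6 yc58 zc1) (kc xc12 yc48 zc12) (kc xc12 yc48 zc32) (kc xc7 yc19 zc39) (kc xc3 yc28 zc60) (kc xc3 yc46 zc53) (kc xc13 yc15 zc56) (kc xc12 yc37 zc5) (kc xc12 yc37 zc6) (kc xc3 yc28 zc56) (kc xc13 yc15 zc59) (kc xc13 yc2 zc5) (kc xc7 yc4 zc5) (kc xc6 yc52 zc53) (kc xc7 yc0 zc39) (kc xc13 yc16 zc7) (kc xc7 yc1 zc51) (kc xc13 yc15 zc53) (kc xc13 yc16 zc13) (kc xc7 yc31 zc2) (kc xc12 yc0 zc51) (kc xc3 yc28 zc61) (kc xc13 yc16 zc20) (kc xc3 yc43 zc55) (kc xc3 yc29 zc0) (kc xc13 yc16 zc25) (kc xc3 yc39 zc21) (kc xc3 yc29 zc1) (kc xc13 yc16 zc29) (kc xc6 yc59 zc48) (kc xc3 yc29 zc3) (kc xc5 yc54 zc46) (kc xc13 yc16 zc40) (kc xc13 yc16 zc44) (kc xc5 yc54 zc8) (kc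 xc6 yc59 zc54) (kc xc12 yc27 zc43) (kc xc12 yc35 zc9) (kc xc12 yc23 zc0) (kc xc6 yc28 zc38) (kc xc6 yc52 zc9) (kc xc13 yc16 zc57) (kc xc6 yc52 zc7))
def f_c_7 : D2 → D3 → Pt := @D2.rec (fun _ => D3 → Pt) (@D3.rec (fun _ => Pt) (kc xc7 yc22 zc4) (kc xc13 yc17 zc0) (kc xc13 yc17 zc3) (kc xc3 yc29 zc8) (kc xc3 yc52 zc22) (kc xc13 yc17 zc7) (kc xc7 yc12 zc14) (kc xc6 yc34 zc4) (kc xc7 yc12 zc12) (kc xc13 yc17 zc11) (kc xc3 yc29 zc13) (kc xc3 yc29 zc12) (kc xc6 yc57 zc8) (kc xc13 yc17 zc17) (kc xc3 yc29 zc16) (kc xc13 yc3 zc4) (kc xc7 yc18 zc55) (kc xc7 yc19 zc4) (kc xc3 yc36 zc4) (kc xc3 yc36 zc6) (kc xc13 yc17 zc28) (kc xc3 yc35 zc59) (kc xc3 yc41 zc14) (kc xc13 yc17 zc33) (kc xc7 yc32 zc32) (kc xc7 yc32 zc33) (kc xc13 yc17 zc41) (kc xc12 yc32 zc61) (kc xc6 yc34 zc30)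 (kc xc11 yc30 zc26) (kc xc6 yc34 zc31) (kc xc6 yc34 zc32) (kc xc6 yc34 zc33) (kc xc7 yc10 zc47) (kc xc7 yc11 zc26) (kc xc3 yc46 zc50) (kc xc6 yc34 zc56) (kc xc3 yc46 zc56) (kc xc3 yc46 zc55) (kc xc6 yc59 zc33) (kc xc13 yc16 zc27) (kc xc11 yc41 zc45) (kc xc3 yc29 zc39) (kc xc8 yc12 zc5) (kc xc3 yc29 zc41) (kc xc3 yc46 zc24) (kc xc13 yc18 zc9) (kc xc3 yc38 zc40) (kc xc3 yc38 zc43) (kc xc3 yc41 zc1) (kc xc7 yc18 zc57) (kc xc3 yc38 zc26) (kc xc13 yc18 zc4) (kc xc11 yc44 zc44) (kc xc7 yc19 zc23) (kc xc7 yc11 zc49) (kc xc13 yc18 zc28) (kc xc7 yc18 zc6) (kc xc6 yc35 zc7) (kc xc6 yc35 zc8) (kc xc13 yc18 zc36) (kc xc12 yc1 zc61)) (@D3.rec (fun _ => Pt) (kc xc3 yc41 zc35) (kc xc13 yc18 zc40) (kc xc6 yc34 zc11) (kc xc3 yc38 zc60) (kc xc13 yc18 zc46) (kc xc3 yc38 zc59) (kc xc13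 yc18 zc49) (kc xc13 yc18 zc52) (kc xc3 yc29 zc45) (kc xc7 yc33 zc32) (kc xc7 yc1 zc10) (kc xc13 yc18 zc59) (kc xc3 yc29 zc48) (kc xc3 yc29 zc49) (kc xc13 yc19 zc0) (kc xc6 yc53 zc44) (kc xc3 yc29 zc50) (kc xc13 yc19 zc6) (kc xc9 yc11 zc14) (kc xc7 yc22 zc14) (kc xc13 yc19 zc10) (kc xc3 yc29 zc54) (kc xc6 yc28 zc40) (kc xc12 yc40 zc53) (kc xc13 yc19 zc18) (kc xc12 yc48 zc7) (kc xc13 yc19 zc25) (kc xc12 yc2 zc3) (kc xc12 yc2 zc4) (kc xc7 yc10 zc4) (kc xc12 yc1 zc44) (kc xc3 yc46 zc20) (kc xc11 yc41 zc47) (kc xc12 yc8 zc19) (kc xc12 yc36 zc5) (kc xc6 yc53 zc16) (kc xc4 yc34 zc28) (kc xc7 yc16 zc4) (kc xc7 yc16 zc5) (kc xc13 yc19 zc49) (kc xc6 yc53 zc21) (kc xc12 yc1 zc58) (kc xc12 yc1 zc59) (kc xc13 yc19 zc57) (kc xc11 yc50 zc5) (kc xc13 yc18 zc54) (kc xc13 yc18 zc55)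 (kc xc3 yc30 zc1) (kc xc13 yc20 zc2) (kc xc7 yc18 zc47) (kc xc3 yc32 zc35) (kc xc6 yc59 zc35) (kc xc13 yc20 zc9) (kc xc3 yc30 zc60) (kc xc3 yc44 zc52) (kc xc13 yc20 zc14) (kc xc3 yc31 zc12) (kc xc3 yc30 zc12) (kc xc7 yc12 zc36) (kc xc13 yc20 zc21) (kc xc7 yc22 zc13) (kc xc9 yc21 zc20)) (@D3.rec (fun _ => Pt) (kc xc13 yc20 zc27) (kc xc3 yc34 zc2) (kc xc13 yc20 zc29) (kc xc13 yc20 zc32) (kc xc3 yc30 zc10) (kc xc13 yc20 zc37) (kc xc4 yc35 zc29) (kc xc4 yc35 zc30) (kc xc11 yc24 zc54) (kc xc11 yc42 zc6) (kc xc3 yc30 zc14) (kc xc7 yc25 zc50) (kc xc13 yc20 zc42) (kc xc5 yc51 zc5) (kc xc3 yc30 zc15) (kc xc3 yc40 zc31) (kc xc13 yc20 zc47) (kc xc7 yc22 zc15) (kc xc3 yc43 zc48) (kc xc3 yc30 zc16) (kc xc13 yc20 zc56) (kc xc12 yc1 zc20) (kc xc12 yc35 zc4) (kc xc11 yc38 zc50) (kc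 xc13 yc21 zc4) (kc xc13 yc21 zc5) (kc xc7 yc22 zc20) (kc xc3 yc30 zc19) (kc xc13 yc21 zc13) (kc xc13 yc21 zc10) (kc xc3 yc43 zc51) (kc xc3 yc52 zc13) (kc xc3 yc30 zc22) (kc xc13 yc21 zc20) (kc xc13 yc21 zc22) (kc xc3 yc30 zc21) (kc xc13 yc21 zc27) (kc xc3 yc30 zc47) (kc xc13 yc21 zc32) (kc xc7 yc18 zc21) (kc xc13 yc19 zc36) (kc xc13 yc21 zc34) (kc xc3 yc30 zc23) (kc xc13 yc21 zc41) (kc xc7 yc52 zc50) (kc xc3 yc52 zc17) (kc xc3 yc30 zc25) (kc xc13 yc21 zc47) (kc xc13 yc21 zc52) (kc xc13 yc21 zc54) (kc xc3 yc30 zc27) (kc xc13 yc21 zc57) (kc xc9 yc45 zc17) (kc xc3 yc30 zc28) (kc xc9 yc45 zc26) (kc xc3 yc53 zc0) (kc xc3 yc53 zc23) (kc xc13 yc20 zc35) (kc xc3 yc47 zc61) (kc xc3 yc30 zc30) (kc xc13 yc22 zc12) (kc xc13 yc22 zc16)) (@D3.rec (fun _ => Pt) (kc xc7 yc22 zc27)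 (kc xc13 yc22 zc20) (kc xc7 yc12 zc26) (kc xc11 yc30 zc13) (kc xc13 yc22 zc24) (kc xc3 yc54 zc29) (kc xc13 yc22 zc27) (kc xc13 yc22 zc30) (kc xc3 yc30 zc34) (kc xc6 yc57 zc4) (kc xc6 yc51 zc60) (kc xc3 yc30 zc41) (kc xc13 yc22 zc39) (kc xc3 yc30 zc39) (kc xc13 yc4 zc0) (kc xc3 yc30 zc38) (kc xc7 yc15 zc46) (kc xc13 yc3 zc59) (kc xc3 yc54 zc24) (kc xc7 yc52 zc58) (kc xc7 yc6 zc8) (kc xc13 yc22 zc47) (kc xc13 yc22 zc51) (kc xc13 yc22 zc38) (kc xc13 yc22 zc57) (kc xc13 yc22 zc59) (kc xc3 yc30 zc42) (kc xc13 yc22 zc61) (kc xc7 yc5 zc32) (kc xc13 yc23 zc6) (kc xc3 yc30 zc49) (kc xc3 yc30 zc44) (kc xc7 yc15 zc17) (kc xc13 yc22 zc41) (kc xc3 yc52 zc19) (kc xc3 yc30 zc46) (kc xc3 yc30 zc48) (kc xc7 yc12 zc38) (kc xc3 yc49 zc50) (kc xc3 yc30 zc55) (kc xc13 yc23 zc21) (kc xc3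 yc30 zc54) (kc xc7 yc11 zc50) (kc xc7 yc19 zc32) (kc xc3 yc30 zc53) (kc xc7 yc8 zc57) (kc xc7 yc9 zc27) (kc xc7 yc18 zc61) (kc xc13 yc23 zc19) (kc xc11 yc48 zc7) (kc xc13 yc23 zc20) (kc xc3 yc30 zc56) (kc xc13 yc23 zc30) (kc xc7 yc39 zc10) (kc xc13 yc23 zc36) (kc xc13 yc23 zc22) (kc xc3 yc52 zc20) (kc xc3 yc30 zc59) (kc xc7 yc4 zc40) (kc xc13 yc20 zc10) (kc xc13 yc23 zc47) (kc xc3 yc31 zc0)) (@D3.rec (fun _ => Pt) (kc xc7 yc12 zc39) (kc xc13 yc23 zc53) (kc xc3 yc31 zc3) (kc xc12 yc21 zc24) (kc xc3 yc44 zc19) (kc xc6 yc59 zc31) (kc xc3 yc31 zc6) (kc xc7 yc20 zc52) (kc xc6 yc51 zc25) (kc xc6 yc10 zc7) (kc xc12 yc3 zc22) (kc xc12 yc34 zc37) (kc xc3 yc31 zc10) (kc xc3 yc31 zc11) (kc xc7 yc17 zc52) (kc xc3 yc40 zc61) (kc xc13 yc14 zc56) (kc xc12 yc53 zc11) (kc xc3 yc31 zc16)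 (kc xc3 yc31 zc15) (kc xc7 yc22 zc30) (kc xc13 yc24 zc27) (kc xc3 yc31 zc19) (kc xc13 yc24 zc32) (kc xc13 yc24 zc34) (kc xc7 yc19 zc9) (kc xc13 yc24 zc37) (kc xc7 yc4 zc27) (kc xc13 yc24 zc42) (kc xc3 yc31 zc25) (kc xc3 yc31 zc24) (kc xc13 yc17 zc8) (kc xc3 yc31 zc26) (kc xc13 yc24 zc50) (kc xc13 yc24 zc54) (kc xc13 yc24 zc57) (kc xc13 yc24 zc60) (kc xc3 yc31 zc28) (kc xc13 yc25 zc4) (kc xc7 yc30 zc42) (kc xc7 yc3 zc58) (kc xc12 yc18 zc50) (kc xc3 yc31 zc34) (kc xc3 yc31 zc30) (kc xc13 yc13 zc8) (kc xc13 yc25 zc13) (kc xc3 yc31 zc32) (kc xc13 yc25 zc17) (kc xc3 yc31 zc33) (kc xc3 yc31 zc35) (kc xc3 yc31 zc36) (kc xc13 yc3 zc49) (kc xc13 yc25 zc21) (kc xc7 yc4 zc53) (kc xc13 yc25 zc26) (kc xc3 yc31 zc40) (kc xc3 yc31 zc39) (kc xc7 yc12 zc6) (kc xc13 yc25 zc33) (kc xc13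 yc25 zc35) (kc xc13 yc25 zc38) (kc xc13 yc25 zc41)) (@D3.rec (fun _ => Pt) (kc xc3 yc31 zc43) (kc xc13 yc25 zc47) (kc xc13 yc4 zc4) (kc xc3 yc39 zc44) (kc xc13 yc25 zc54) (kc xc3 yc31 zc45) (kc xc3 yc31 zc46) (kc xc12 yc26 zc29) (kc xc13 yc4 zc3) (kc xc13 yc25 zc60) (kc xc7 yc53 zc3) (kc xc3 yc31 zc48) (kc xc3 yc31 zc49) (kc xc3 yc32 zc9) (kc xc7 yc20 zc51) (kc xc7 yc29 zc51) (kc xc7 yc5 zc16) (kc xc6 yc23 zc13) (kc xc3 yc39 zc38) (kc xc12 yc19 zc10) (kc xc3 yc53 zc46) (kc xc7 yc29 zc50) (kc xc7 yc12 zc48) (kc xc12 yc13 zc51) (kc xc12 yc19 zc5) (kc xc3 yc31 zc59) (kc xc13 yc26 zc28) (kc xc7 yc20 zc17) (kc xc7 yc27 zc60) (kc xc7 yc28 zc6) (kc xc3 yc32 zc32) (kc xc6 yc31 zc4) (kc xc7 yc3 zc28) (kc xc6 yc51 zc53) (kc xc7 yc7 zc7) (kc xc12 yc0 zc58) (kc xc7 yc27 zc43) (kc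 xc7 yc12 zc0) (kc xc7 yc27 zc41) (kc xc12 yc8 zc14) (kc xc12 yc8 zc15) (kc xc7 yc23 zc11) (kc xc7 yc12 zc9) (kc xc13 yc15 zc0) (kc xc13 yc26 zc50) (kc xc13 yc20 zc12) (kc xc13 yc26 zc56) (kc xc7 yc12 zc29) (kc xc13 yc26 zc60) (kc xc13 yc27 zc1) (kc xc3 yc32 zc23) (kc xc13 yc27 zc6) (kc xc7 yc5 zc52) (kc xc13 yc27 zc10) (kc xc3 yc32 zc27) (kc xc3 yc32 zc26) (kc xc6 yc34 zc0) (kc xc13 yc27 zc15) (kc xc7 yc5 zc58) (kc xc3 yc53 zc41) (kc xc6 yc57 zc61) (kc xc13 yc27 zc25)) (@D3.rec (fun _ => Pt) (kc xc7 yc38 zc10) (kc xc13 yc26 zc34) (kc xc8 yc19 zc12) (kc xc7 yc10 zc32) (kc xc13 yc20 zc5) (kc xc7 yc31 zc60) (kc xc13 yc20 zc17) (kc xc8 yc49 zc61) (kc xc7 yc3 zc20) (kc xc13 yc27 zc38) (kc xc6 yc51 zc58) (kc xc13 yc27 zc41) (kc xc7 yc11 zc59) (kc xc12 yc46 zc17) (kc xc9 yc59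 zc2) (kc xc3 yc32 zc41) (kc xc13 yc27 zc45) (kc xc7 yc6 zc17) (kc xc13 yc27 zc49) (kc xc3 yc32 zc44) (kc xc3 yc50 zc47) (kc xc3 yc32 zc45) (kc xc13 yc27 zc54) (kc xc13 yc27 zc53) (kc xc8 yc45 zc25) (kc xc7 yc8 zc16) (kc xc13 yc28 zc0) (kc xc13 yc28 zc3) (kc xc13 yc28 zc8) (kc xc7 yc6 zc29) (kc xc8 yc3 zc41) (kc xc13 yc28 zc10) (kc xc13 yc28 zc13) (kc xc3 yc37 zc7) (kc xc3 yc54 zc31) (kc xc13 yc28 zc16) (kc xc3 yc49 zc27) (kc xc13 yc28 zc22) (kc xc7 yc37 zc38) (kc xc13 yc28 zc25) (kc xc13 yc28 zc28) (kc xc3 yc32 zc51) (kc xc13 yc28 zc33) (kc xc7 yc8 zc36) (kc xc3 yc48 zc46) (kc xc13 yc28 zc39) (kc xc3 yc54 zc22) (kc xc13 yc28 zc42) (kc xc7 yc6 zc48) (kc xc13 yc28 zc46) (kc xc6 yc52 zc27) (kc xc3 yc38 zc10) (kc xc13 yc2 zc34) (kc xc3 yc36 zc16) (kc xc3 yc38 zc7) (kc xc13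 yc28 zc60) (kc xc13 yc29 zc1) (kc xc7 yc6 zc57) (kc xc13 yc29 zc6) (kc xc7 yc10 zc53) (kc xc7 yc20 zc37) (kc xc7 yc20 zc48)) (@D3.rec (fun _ => Pt) (kc xc13 yc29 zc12) (kc xc7 yc51 zc46) (kc xc7 yc53 zc57) (kc xc7 yc53 zc56) (kc xc13 yc29 zc20) (kc xc7 yc51 zc50) (kc xc10 yc5 zc24) (kc xc7 yc5 zc34) (kc xc4 yc23 zc2) (kc xc4 yc23 zc3) (kc xc10 yc39 zc11) (kc xc7 yc8 zc10) (kc xc7 yc30 zc27) (kc xc13 yc29 zc30) (kc xc7 yc10 zc8) (kc xc7 yc42 zc59) (kc xc13 yc29 zc33) (kc xc13 yc29 zc36) (kc xc13 yc29 zc39) (kc xc3 yc33 zc11) (kc xc13 yc29 zc44) (kc xc7 yc7 zc21) (kc xc13 yc22 zc35) (kc xc3 yc33 zc14) (kc xc3 yc33 zc15) (kc xc7 yc9 zc35) (kc xc13 yc4 zc36) (kc xc13 yc22 zc32) (kc xc7 yc14 zc2) (kc xc6 yc14 zc61) (kc xc3 yc33 zc20) (kc xc3 yc33 zc22) (kc xc7 yc46 zc11)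 (kc xc7 yc42 zc42) (kc xc13 yc29 zc59) (kc xc9 yc1 zc51) (kc xc7 yc43 zc29) (kc xc13 yc30 zc5) (kc xc5 yc42 zc38) (kc xc7 yc13 zc49) (kc xc13 yc30 zc8) (kc xc5 yc41 zc31) (kc xc5 yc4 zc6) (kc xc3 yc53 zc2) (kc xc13 yc30 zc11) (kc xc13 yc30 zc14) (kc xc3 yc33 zc25) (kc xc3 yc33 zc26) (kc xc13 yc30 zc19) (kc xc3 yc48 zc20) (kc xc7 yc35 zc61) (kc xc3 yc49 zc18) (kc xc3 yc33 zc31) (kc xc13 yc30 zc27) (kc xc7 yc36 zc28) (kc xc13 yc30 zc34) (kc xc3 yc53 zc13) (kc xc7 yc8 zc7) (kc xc7 yc8 zc8) (kc xc13 yc30 zc40) (kc xc13 yc29 zc41) (kc xc13 yc29 zc42)) (@D3.rec (fun _ => Pt) (kc xc3 yc33 zc33) (kc xc13 yc30 zc47) (kc xc7 yc51 zc45) (kc xc7 yc25 zc11) (kc xc7 yc51 zc47) (kc xc7 yc51 zc48) (kc xc13 yc30 zc56) (kc xc7 yc7 zc57) (kc xc7 yc7 zc58) (kc xc10 yc16 zc59) (kc xc7 yc7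 zc11) (kc xc13 yc30 zc16) (kc xc13 yc30 zc17) (kc xc3 yc33 zc40) (kc xc13 yc31 zc7) (kc xc6 yc14 zc9) (kc xc7 yc6 zc25) (kc xc10 yc16 zc8) (kc xc13 yc26 zc44) (kc xc13 yc31 zc14) (kc xc3 yc33 zc48) (kc xc6 yc16 zc9) (kc xc3 yc33 zc45) (kc xc13 yc31 zc19) (kc xc8 yc3 zc39) (kc xc3 yc33 zc46) (kc xc13 yc31 zc23) (kc xc13 yc31 zc25) (kc xc13 yc31 zc27) (kc xc3 yc33 zc47) (kc xc13 yc31 zc31) (kc xc13 yc31 zc33) (kc xc3 yc49 zc26) (kc xc3 yc33 zc49) (kc xc13 yc31 zc40) (kc xc7 yc12 zc51) (kc xc7 yc6 zc43) (kc xc7 yc24 zc47) (kc xc3 yc33 zc52) (kc xc13 yc31 zc46) (kc xc13 yc31 zc48) (kc xc3 yc33 zc51) (kc xc13 yc31 zc54) (kc xc13 yc31 zc59) (kc xc7 yc52 zc18) (kc xc13 yc31 zc61) (kc xc3 yc33 zc53) (kc xc8 yc7 zc34) (kc xc13 yc32 zc3) (kc xc7 yc24 zc48) (kc xc3 yc33 zc56)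 (kc xc3 yc33 zc55) (kc xc13 yc32 zc13) (kc xc13 yc21 zc14) (kc xc3 yc55 zc61) (kc xc13 yc32 zc18) (kc xc3 yc33 zc57) (kc xc7 yc3 zc45) (kc xc13 yc32 zc24) (kc xc13 yc32 zc29) (kc xc3 yc33 zc58) (kc xc3 yc44 zc25)) (@D3.rec (fun _ => Pt) (kc xc13 yc32 zc34) (kc xc13 yc29 zc11) (kc xc3 yc49 zc53) (kc xc7 yc15 zc2) (kc xc3 yc49 zc45) (kc xc3 yc33 zc60) (kc xc13 yc32 zc50) (kc xc7 yc15 zc45) (kc xc3 yc54 zc21) (kc xc3 yc34 zc5) (kc xc13 yc32 zc56) (kc xc7 yc50 zc53) (kc xc7 yc50 zc54) (kc xc7 yc50 zc50) (kc xc7 yc15 zc26) (kc xc13 yc33 zc0) (kc xc13 yc33 zc2) (kc xc13 yc32 zc54) (kc xc13 yc33 zc8) (kc xc7 yc55 zc11) (kc xc13 yc33 zc13) (kc xc13 yc33 zc16) (kc xc3 yc34 zc6) (kc xc13 yc33 zc19) (kc xc7 yc47 zc56) (kc xc13 yc33 zc24) (kc xc3 yc34 zc8) (kc xc7 yc3 zc46) (kc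 xc13 yc20 zc26) (kc xc13 yc32 zc48) (kc xc3 yc34 zc13) (kc xc13 yc33 zc36) (kc xc3 yc34 zc12) (kc xc7 yc39 zc4) (kc xc3 yc34 zc11) (kc xc7 yc7 zc25) (kc xc7 yc16 zc23) (kc xc13 yc33 zc33) (kc xc13 yc33 zc45) (kc xc13 yc33 zc35) (kc xc3 yc34 zc14) (kc xc13 yc33 zc51) (kc xc13 yc33 zc56) (kc xc3 yc34 zc17) (kc xc13 yc33 zc38) (kc xc13 yc32 zc47) (kc xc3 yc37 zc60) (kc xc7 yc16 zc35) (kc xc6 yc56 zc20) (kc xc13 yc32 zc41) (kc xc3 yc34 zc20) (kc xc7 yc50 zc60) (kc xc3 yc34 zc21) (kc xc13 yc32 zc33) (kc xc13 yc32 zc12) (kc xc13 yc31 zc53) (kc xc3 yc34 zc22) (kc xc13 yc34 zc11) (kc xc12 yc0 zc61) (kc xc3 yc34 zc28) (kc xc12 yc0 zc57) (kc xc6 yc52 zc51)) (@D3.rec (fun _ => Pt) (kc xc13 yc34 zc24) (kc xc3 yc38 zc38) (kc xc13 yc34 zc17) (kc xc13 yc34 zc30) (kc xc7 yc1 zc29)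 (kc xc3 yc34 zc32) (kc xc3 yc34 zc31) (kc xc3 yc53 zc33) (kc xc7 yc7 zc14) (kc xc13 yc31 zc36) (kc xc13 yc14 zc47) (kc xc13 yc34 zc37) (kc xc13 yc34 zc42) (kc xc13 yc34 zc38) (kc xc7 yc10 zc25) (kc xc7 yc16 zc38) (kc xc13 yc34 zc51) (kc xc3 yc34 zc36) (kc xc3 yc34 zc35) (kc xc13 yc34 zc54) (kc xc13 yc34 zc57) (kc xc13 yc34 zc58) (kc xc3 yc34 zc37) (kc xc13 yc35 zc3) (kc xc7 yc20 zc38) (kc xc7 yc10 zc14) (kc xc13 yc35 zc11) (kc xc13 yc35 zc13) (kc xc13 yc35 zc16) (kc xc7 yc20 zc55) (kc xc13 yc35 zc23) (kc xc7 yc20 zc49) (kc xc7 yc6 zc3) (kc xc13 yc35 zc33) (kc xc3 yc55 zc54) (kc xc7 yc48 zc56) (kc xc3 yc34 zc43) (kc xc13 yc35 zc38) (kc xc7 yc30 zc55) (kc xc7 yc47 zc54) (kc xc13 yc35 zc43) (kc xc13 yc35 zc45) (kc xc13 yc35 zc48) (kc xc3 yc34 zc46) (kc xc13 yc35 zc51)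 (kc xc13 yc35 zc52) (kc xc13 yc35 zc58) (kc xc7 yc0 zc33) (kc xc13 yc35 zc50) (kc xc3 yc34 zc50) (kc xc13 yc36 zc10) (kc xc13 yc36 zc14) (kc xc13 yc36 zc8) (kc xc7 yc6 zc59) (kc xc13 yc36 zc21) (kc xc13 yc36 zc24) (kc xc3 yc34 zc53) (kc xc8 yc57 zc5) (kc xc3 yc34 zc54) (kc xc3 yc34 zc55) (kc xc7 yc37 zc36) (kc xc3 yc38 zc52)) (@D3.rec (fun _ => Pt) (kc xc13 yc36 zc36) (kc xc3 yc34 zc57) (kc xc7 yc50 zc40) (kc xc13 yc36 zc41) (kc xc7 yc11 zc4) (kc xc13 yc36 zc45) (kc xc3 yc34 zc61) (kc xc3 yc34 zc60) (kc xc3 yc48 zc37) (kc xc13 yc36 zc50) (kc xc13 yc36 zc53) (kc xc13 yc36 zc56) (kc xc3 yc35 zc1) (kc xc13 yc37 zc0) (kc xc6 yc30 zc43) (kc xc3 yc53 zc25) (kc xc13 yc37 zc6) (kc xc3 yc35 zc3) (kc xc7 yc15 zc29) (kc xc13 yc37 zc9) (kc xc3 yc35 zc5) (kc xc3 yc35 zc7) (kc xc4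 yc42 zc16) (kc xc7 yc11 zc25) (kc xc7 yc11 zc24) (kc xc7 yc11 zc23) (kc xc7 yc0 zc34) (kc xc3 yc39 zc45) (kc xc3 yc35 zc14) (kc xc13 yc37 zc25) (kc xc3 yc47 zc57) (kc xc3 yc44 zc61) (kc xc3 yc45 zc2) (kc xc3 yc52 zc7) (kc xc13 yc37 zc33) (kc xc3 yc35 zc17) (kc xc13 yc37 zc35) (kc xc13 yc37 zc38) (kc xc3 yc35 zc21) (kc xc7 yc11 zc48) (kc xc3 yc35 zc20) (kc xc13 yc37 zc48) (kc xc13 yc37 zc51) (kc xc13 yc37 zc42) (kc xc13 yc37 zc44) (kc xc12 yc18 zc58) (kc xc6 yc41 zc42) (kc xc7 yc11 zc47) (kc xc7 yc11 zc39) (kc xc7 yc0 zc55) (kc xc7 yc3 zc42) (kc xc3 yc44 zc27) (kc xc3 yc35 zc30) (kc xc13 yc38 zc3) (kc xc13 yc25 zc55) (kc xc7 yc22 zc3) (kc xc7 yc22 zc29) (kc xc6 yc55 zc47) (kc xc7 yc19 zc55) (kc xc7 yc6 zc12) (kc xc13 yc38 zc7) (kc xc7 yc21 zc50)) (@D3.rec (fun _ => Pt)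 (kc xc7 yc5 zc37) (kc xc7 yc21 zc48) (kc xc7 yc28 zc54) (kc xc13 yc38 zc15) (kc xc13 yc38 zc19) (kc xc13 yc38 zc24) (kc xc7 yc4 zc57) (kc xc3 yc49 zc9) (kc xc11 yc25 zc11) (kc xc7 yc5 zc42) (kc xc3 yc57 zc37) (kc xc13 yc38 zc30) (kc xc7 yc0 zc8) (kc xc12 yc45 zc45) (kc xc7 yc0 zc6) (kc xc13 yc2 zc54) (kc xc13 yc38 zc37) (kc xc13 yc38 zc39) (kc xc6 yc40 zc11) (kc xc3 yc35 zc50) (kc xc12 yc47 zc15) (kc xc7 yc12 zc21) (kc xc13 yc38 zc46) (kc xc3 yc35 zc54) (kc xc3 yc35 zc53) (kc xc13 yc38 zc48) (kc xc7 yc3 zc2) (kc xc6 yc58 zc23) (kc xc13 yc17 zc13) (kc xc7 yc5 zc47) (kc xc12 yc33 zc9) (kc xc13 yc17 zc23) (kc xc13 yc3 zc26) (kc xc13 yc38 zc54) (kc xc13 yc17 zc27) (kc xc11 yc41 zc17) (kc xc7 yc1 zc58) (kc xc13 yc38 zc58) (kc xc7 yc3 zc37) (kc xc7 yc4 zc0) (kc xc13 yc39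 zc2) (kc xc6 yc54 zc36) (kc xc13 yc39 zc3) (kc xc13 yc39 zc5) (kc xc3 yc36 zc10) (kc xc13 yc39 zc8) (kc xc7 yc12 zc46) (kc xc13 yc39 zc11) (kc xc7 yc5 zc22) (kc xc6 yc58 zc52) (kc xc13 yc39 zc17) (kc xc7 yc8 zc35) (kc xc13 yc15 zc22) (kc xc13 yc39 zc20) (kc xc13 yc28 zc58) (kc xc3 yc36 zc17) (kc xc8 yc1 zc51) (kc xc13 yc39 zc25) (kc xc13 yc39 zc28) (kc xc13 yc39 zc30) (kc xc13 yc39 zc35) (kc xc7 yc12 zc61)) (@D3.rec (fun _ => Pt) (kc xc3 yc55 zc23) (kc xc13 yc39 zc39) (kc xc7 yc34 zc55) (kc xc13 yc39 zc44) (kc xc13 yc39 zc47) (kc xc13 yc39 zc50) (kc xc3 yc36 zc21) (kc xc13 yc39 zc56) (kc xc3 yc49 zc3) (kc xc7 yc35 zc14) (kc xc13 yc40 zc0) (kc xc3 yc55 zc15) (kc xc13 yc40 zc5) (kc xc3 yc36 zc26) (kc xc7 yc39 zc9) (kc xc7 yc13 zc15) (kc xc13 yc40 zc13) (kc xc3 yc36 zc28)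 (kc xc13 yc40 zc16) (kc xc13 yc40 zc18) (kc xc13 yc40 zc19) (kc xc7 yc16 zc17) (kc xc6 yc55 zc54) (kc xc3 yc50 zc22) (kc xc3 yc47 zc0) (kc xc3 yc47 zc2) (kc xc13 yc32 zc22) (kc xc3 yc50 zc50) (kc xc13 yc40 zc33) (kc xc7 yc25 zc9) (kc xc6 yc15 zc9) (kc xc7 yc25 zc7) (kc xc7 yc49 zc54) (kc xc13 yc40 zc36) (kc xc13 yc40 zc40) (kc xc3 yc48 zc2) (kc xc9 yc58 zc59) (kc xc6 yc54 zc24) (kc xc9 yc59 zc3) (kc xc3 yc53 zc3) (kc xc13 yc31 zc3) (kc xc13 yc31 zc4) (kc xc3 yc36 zc41) (kc xc3 yc52 zc28) (kc xc6 yc55 zc57) (kc xc7 yc37 zc46) (kc xc6 yc56 zc47) (kc xc13 yc40 zc60) (kc xc7 yc37 zc50) (kc xc7 yc7 zc39) (kc xc10 yc36 zc27) (kc xc3 yc51 zc5) (kc xc13 yc41 zc5) (kc xc7 yc16 zc37) (kc xc3 yc53 zc29) (kc xc13 yc41 zc10) (kc xc13 yc30 zc44) (kc xc13 yc30 zc45) (kc xc3 yc36 zc51)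 (kc xc13 yc41 zc19) (kc xc7 yc13 zc60) (kc xc13 yc41 zc21)) (@D3.rec (fun _ => Pt) (kc xc3 yc36 zc54) (kc xc13 yc41 zc24) (kc xc7 yc7 zc28) (kc xc3 yc36 zc55) (kc xc13 yc41 zc28) (kc xc4 yc32 zc42) (kc xc7 yc34 zc50) (kc xc5 yc13 zc60) (kc xc3 yc36 zc57) (kc xc13 yc41 zc32) (kc xc13 yc41 zc35) (kc xc13 yc41 zc40) (kc xc4 yc23 zc12) (kc xc4 yc23 zc13) (kc xc13 yc41 zc44) (kc xc4 yc32 zc55) (kc xc13 yc40 zc55) (kc xc13 yc40 zc56) (kc xc3 yc36 zc60) (kc xc7 yc20 zc23) (kc xc7 yc49 zc55) (kc xc7 yc49 zc56) (kc xc7 yc20 zc28) (kc xc13 yc41 zc15) (kc xc13 yc41 zc16) (kc xc3 yc37 zc1) (kc xc13 yc42 zc0) (kc xc4 yc0 zc34) (kc xc9 yc25 zc30) (kc xc9 yc51 zc22) (kc xc3 yc37 zc4) (kc xc13 yc42 zc6) (kc xc10 yc16 zc6) (kc xc3 yc37 zc5) (kc xc13 yc42 zc9) (kc xc13 yc42 zc11) (kc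 xc13 yc42 zc13) (kc xc3 yc37 zc6) (kc xc13 yc42 zc16) (kc xc13 yc42 zc18) (kc xc7 yc34 zc54) (kc xc11 yc33 zc61) (kc xc13 yc42 zc24) (kc xc13 yc42 zc26) (kc xc3 yc37 zc9) (kc xc13 yc42 zc31) (kc xc7 yc50 zc21) (kc xc13 yc42 zc36) (kc xc3 yc37 zc10) (kc xc13 yc42 zc41) (kc xc7 yc54 zc37) (kc xc3 yc37 zc11) (kc xc13 yc42 zc44) (kc xc13 yc42 zc49) (kc xc7 yc57 zc12) (kc xc3 yc37 zc13) (kc xc7 yc39 zc22) (kc xc13 yc42 zc55) (kc xc13 yc42 zc61) (kc xc3 yc37 zc14) (kc xc3 yc41 zc46) (kc xc13 yc43 zc4)) (@D3.rec (fun _ => Pt) (kc xc13 yc40 zc31) (kc xc13 yc40 zc32) (kc xc7 yc9 zc3) (kc xc3 yc50 zc19) (kc xc3 yc37 zc16) (kc xc13 yc43 zc22) (kc xc3 yc37 zc19) (kc xc13 yc43 zc26) (kc xc3 yc49 zc29) (kc xc13 yc43 zc31) (kc xc11 yc4 zc17) (kc xc13 yc43 zc25) (kc xc13 yc43 zc37)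 (kc xc13 yc43 zc40) (kc xc13 yc43 zc43) (kc xc3 yc37 zc20) (kc xc13 yc43 zc46) (kc xc7 yc3 zc32) (kc xc6 yc56 zc4) (kc xc7 yc40 zc8) (kc xc13 yc43 zc55) (kc xc7 yc40 zc10) (kc xc3 yc37 zc26) (kc xc13 yc43 zc60) (kc xc7 yc18 zc46) (kc xc13 yc44 zc4) (kc xc7 yc9 zc14) (kc xc13 yc43 zc20) (kc xc3 yc37 zc29) (kc xc7 yc11 zc18) (kc xc3 yc49 zc16) (kc xc13 yc3 zc35) (kc xc13 yc43 zc13) (kc xc3 yc37 zc32) (kc xc7 yc19 zc48) (kc xc7 yc40 zc36) (kc xc7 yc40 zc34) (kc xc13 yc43 zc10) (kc xc3 yc37 zc36) (kc xc3 yc37 zc35) (kc xc13 yc9 zc37) (kc xc13 yc43 zc3) (kc xc13 yc44 zc21) (kc xc13 yc42 zc54) (kc xc7 yc18 zc43) (kc xc7 yc9 zc7) (kc xc7 yc3 zc16) (kc xc13 yc44 zc27) (kc xc13 yc42 zc30) (kc xc3 yc37 zc40) (kc xc13 yc44 zc32) (kc xc13 yc39 zc55) (kc xc3 yc37 zc45) (kc xc3 yc45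 zc56) (kc xc3 yc45 zc55) (kc xc10 yc25 zc39) (kc xc13 yc44 zc42) (kc xc3 yc51 zc25) (kc xc13 yc44 zc46) (kc xc13 yc44 zc49) (kc xc13 yc44 zc50) (kc xc3 yc37 zc47)) (@D3.rec (fun _ => Pt) (kc xc13 yc44 zc57) (kc xc7 yc30 zc3) (kc xc3 yc46 zc47) (kc xc13 yc20 zc1) (kc xc7 yc1 zc37) (kc xc7 yc1 zc38) (kc xc13 yc3 zc0) (kc xc13 yc45 zc9) (kc xc7 yc19 zc50) (kc xc13 yc45 zc12) (kc xc3 yc37 zc53) (kc xc13 yc45 zc15) (kc xc13 yc45 zc14) (kc xc3 yc37 zc55) (kc xc13 yc45 zc27) (kc xc13 yc45 zc31) (kc xc13 yc45 zc25) (kc xc7 yc13 zc21) (kc xc13 yc45 zc38) (kc xc3 yc50 zc38) (kc xc13 yc45 zc41) (kc xc7 yc16 zc21) (kc xc13 yc45 zc45) (kc xc7 yc9 zc36) (kc xc13 yc45 zc51) (kc xc11 yc50 zc58) (kc xc11 yc50 zc57) (kc xc3 yc37 zc61) (kc xc13 yc45 zc60) (kc xc13 yc46 zc3) (kc xc13 yc46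 zc4) (kc xc3 yc38 zc0) (kc xc13 yc46 zc7) (kc xc13 yc46 zc12) (kc xc3 yc38 zc2) (kc xc7 yc9 zc47) (kc xc13 yc46 zc14) (kc xc7 yc13 zc53) (kc xc7 yc10 zc15) (kc xc13 yc46 zc16) (kc xc13 yc46 zc18) (kc xc13 yc4 zc35) (kc xc13 yc46 zc20) (kc xc13 yc28 zc52) (kc xc6 yc51 zc52) (kc xc3 yc38 zc12) (kc xc13 yc46 zc25) (kc xc7 yc17 zc24) (kc xc13 yc46 zc31) (kc xc13 yc46 zc35) (kc xc13 yc46 zc40) (kc xc7 yc16 zc51) (kc xc13 yc46 zc42) (kc xc3 yc39 zc34) (kc xc3 yc41 zc48) (kc xc13 yc46 zc45) (kc xc3 yc46 zc43) (kc xc13 yc46 zc49) (kc xc7 yc30 zc56) (kc xc13 yc46 zc52) (kc xc3 yc38 zc18) (kc xc7 yc18 zc0)) (@D3.rec (fun _ => Pt) (kc xc3 yc46 zc5) (kc xc13 yc46 zc59) (kc xc3 yc41 zc40) (kc xc3 yc41 zc38) (kc xc13 yc47 zc1) (kc xc3 yc38 zc23) (kc xc3 yc38 zc24) (kc xc13 yc47 zc4)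 (kc xc3 yc45 zc38) (kc xc3 yc38 zc25) (kc xc13 yc40 zc17) (kc xc13 yc47 zc6) (kc xc13 yc47 zc10) (kc xc13 yc18 zc14) (kc xc12 yc47 zc16) (kc xc3 yc38 zc27) (kc xc12 yc46 zc16) (kc xc7 yc28 zc55) (kc xc7 yc28 zc56) (kc xc12 yc8 zc31) (kc xc7 yc27 zc50) (kc xc7 yc47 zc0) (kc xc3 yc38 zc30) (kc xc13 yc47 zc27) (kc xc7 yc16 zc47) (kc xc4 yc36 zc56) (kc xc12 yc21 zc30) (kc xc3 yc38 zc37) (kc xc3 yc38 zc34) (kc xc13 yc47 zc35) (kc xc8 yc46 zc61) (kc xc13 yc47 zc37) (kc xc13 yc47 zc39) (kc xc13 yc47 zc41) (kc xc3 yc38 zc36) (kc xc13 yc47 zc47) (kc xc13 yc47 zc49) (kc xc3 yc46 zc42) (kc xc13 yc47 zc55) (kc xc13 yc23 zc28) (kc xc13 yc47 zc60) (kc xc3 yc38 zc39) (kc xc13 yc48 zc3) (kc xc7 yc29 zc38) (kc xc13 yc48 zc8) (kc xc3 yc38 zc41) (kc xc13 yc48 zc15) (kc xc13 yc25 zc15)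 (kc xc3 yc38 zc42) (kc xc13 yc48 zc21) (kc xc3 yc39 zc2) (kc xc13 yc48 zc26) (kc xc7 yc4 zc14) (kc xc13 yc48 zc28) (kc xc3 yc38 zc44) (kc xc13 yc48 zc32) (kc xc13 yc48 zc38) (kc xc3 yc38 zc45) (kc xc13 yc48 zc41) (kc xc7 yc18 zc20) (kc xc7 yc18 zc31) (kc xc7 yc19 zc41)) (@D3.rec (fun _ => Pt) (kc xc7 yc16 zc61) (kc xc3 yc38 zc47) (kc xc13 yc48 zc55) (kc xc3 yc41 zc37) (kc xc3 yc38 zc54) (kc xc13 yc48 zc59) (kc xc7 yc0 zc57) (kc xc13 yc49 zc1) (kc xc13 yc26 zc11) (kc xc11 yc3 zc61) (kc xc13 yc49 zc7) (kc xc11 yc2 zc51) (kc xc13 yc49 zc13) (kc xc13 yc49 zc15) (kc xc3 yc38 zc55) (kc xc13 yc49 zc18) (kc xc6 yc54 zc38) (kc xc13 yc39 zc53) (kc xc3 yc53 zc12) (kc xc13 yc13 zc47) (kc xc7 yc17 zc59) (kc xc7 yc2 zc39) (kc xc13 yc18 zc43) (kc xc13 yc49 zc31) (kc xc13 yc18 zc45)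 (kc xc3 yc38 zc61) (kc xc13 yc49 zc36) (kc xc13 yc24 zc15) (kc xc13 yc49 zc42) (kc xc3 yc39 zc3) (kc xc7 yc38 zc41) (kc xc7 yc17 zc60) (kc xc7 yc24 zc14) (kc xc13 yc6 zc7) (kc xc7 yc18 zc34) (kc xc13 yc49 zc50) (kc xc3 yc39 zc6) (kc xc3 yc45 zc58) (kc xc13 yc49 zc55) (kc xc3 yc39 zc8) (kc xc13 yc49 zc58) (kc xc7 yc24 zc33) (kc xc13 yc50 zc2) (kc xc7 yc15 zc44) (kc xc3 yc39 zc10) (kc xc3 yc39 zc11) (kc xc7 yc15 zc24) (kc xc7 yc1 zc49) (kc xc3 yc39 zc17) (kc xc13 yc50 zc7) (kc xc13 yc50 zc9) (kc xc13 yc50 zc13) (kc xc13 yc50 zc18) (kc xc3 yc39 zc20) (kc xc13 yc50 zc19) (kc xc7 yc0 zc16) (kc xc13 yc16 zc28) (kc xc7 yc0 zc50) (kc xc13 yc50 zc26) (kc xc13 yc16 zc43) (kc xc13 yc50 zc30) (kc xc7 yc3 zc47)) (@D3.rec (fun _ => Pt) (kc xc13 yc27 zc3) (kc xc13 yc27 zc4) (kc xc3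 yc39 zc24) (kc xc13 yc50 zc37) (kc xc7 yc0 zc17) (kc xc7 yc23 zc0) (kc xc7 yc23 zc2) (kc xc7 yc23 zc8) (kc xc7 yc23 zc9) (kc xc7 yc4 zc25) (kc xc6 yc40 zc52) (kc xc3 yc39 zc29) (kc xc13 yc41 zc50) (kc xc3 yc39 zc31) (kc xc13 yc50 zc47) (kc xc12 yc5 zc21) (kc xc13 yc50 zc49) (kc xc4 yc36 zc54) (kc xc13 yc50 zc51) (kc xc13 yc50 zc53) (kc xc3 yc39 zc33) (kc xc13 yc50 zc59) (kc xc13 yc50 zc60) (kc xc7 yc0 zc54) (kc xc13 yc51 zc4) (kc xc13 yc6 zc58) (kc xc12 yc48 zc18) (kc xc7 yc23 zc57) (kc xc13 yc26 zc12) (kc xc13 yc51 zc16) (kc xc13 yc25 zc56) (kc xc12 yc48 zc17) (kc xc7 yc3 zc43) (kc xc13 yc51 zc25) (kc xc3 yc39 zc41) (kc xc13 yc51 zc28) (kc xc13 yc51 zc34) (kc xc3 yc39 zc42) (kc xc13 yc51 zc37) (kc xc6 yc59 zc22) (kc xc6 yc58 zc53) (kc xc7 yc17 zc61) (kc xc7 yc30 zc1)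 (kc xc13 yc48 zc11) (kc xc13 yc37 zc23) (kc xc13 yc51 zc51) (kc xc13 yc25 zc53) (kc xc12 yc48 zc50) (kc xc7 yc15 zc34) (kc xc13 yc28 zc31) (kc xc7 yc16 zc8) (kc xc7 yc34 zc37) (kc xc13 yc52 zc4) (kc xc7 yc34 zc39) (kc xc12 yc48 zc48) (kc xc7 yc11 zc58) (kc xc13 yc14 zc40) (kc xc13 yc0 zc46) (kc xc3 yc39 zc52) (kc xc13 yc52 zc15) (kc xc13 yc52 zc20) (kc xc6 yc28 zc7)) (@D3.rec (fun _ => Pt) (kc xc4 yc45 zc13) (kc xc6 yc18 zc8) (kc xc3 yc39 zc57) (kc xc13 yc52 zc22) (kc xc13 yc52 zc24) (kc xc3 yc39 zc58) (kc xc3 yc39 zc59) (kc xc3 yc39 zc60) (kc xc13 yc52 zc31) (kc xc3 yc40 zc0) (kc xc12 yc50 zc12) (kc xc3 yc40 zc1) (kc xc9 yc36 zc5) (kc xc7 yc31 zc1) (kc xc6 yc52 zc48) (kc xc11 yc16 zc44) (kc xc11 yc50 zc46) (kc xc7 yc5 zc27) (kc xc6 yc15 zc11) (kc xc7 yc25 zc8) (kc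 xc4 yc24 zc29) (kc xc6 yc15 zc8) (kc xc5 yc50 zc50) (kc xc7 yc14 zc19) (kc xc12 yc23 zc48) (kc xc13 yc13 zc57) (kc xc13 yc13 zc56) (kc xc13 yc52 zc59) (kc xc7 yc14 zc22) (kc xc13 yc52 zc61) (kc xc13 yc0 zc55) (kc xc5 yc41 zc0) (kc xc5 yc42 zc30) (kc xc5 yc44 zc31) (kc xc4 yc57 zc26) (kc xc7 yc37 zc57) (kc xc13 yc53 zc17) (kc xc7 yc6 zc60) (kc xc7 yc10 zc24) (kc xc13 yc53 zc20) (kc xc13 yc53 zc23) (kc xc13 yc53 zc26) (kc xc3 yc40 zc14) (kc xc12 yc26 zc0) (kc xc7 yc20 zc44) (kc xc13 yc20 zc36) (kc xc3 yc40 zc17) (kc xc3 yc40 zc18) (kc xc7 yc6 zc61) (kc xc7 yc10 zc31) (kc xc12 yc26 zc1) (kc xc7 yc5 zc14) (kc xc7 yc4 zc7) (kc xc13 yc37 zc30) (kc xc13 yc27 zc24) (kc xc7 yc10 zc29) (kc xc13 yc53 zc45) (kc xc13 yc52 zc30) (kc xc13 yc52 zc28) (kc xc3 yc40 zc23) (kc xc13 yc53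 zc50) (kc xc7 yc51 zc35)) (@D3.rec (fun _ => Pt) (kc xc7 yc51 zc43) (kc xc3 yc40 zc30) (kc xc7 yc43 zc55) (kc xc3 yc40 zc32) (kc xc13 yc11 zc60) (kc xc4 yc45 zc23) (kc xc7 yc32 zc7) (kc xc7 yc35 zc39) (kc xc11 yc45 zc22) (kc xc13 yc53 zc54) (kc xc13 yc54 zc2) (kc xc13 yc20 zc48) (kc xc7 yc40 zc49) (kc xc13 yc54 zc10) (kc xc13 yc54 zc12) (kc xc13 yc54 zc15) (kc xc13 yc54 zc18) (kc xc4 yc57 zc32) (kc xc13 yc54 zc20) (kc xc6 yc57 zc37) (kc xc13 yc54 zc21) (kc xc13 yc54 zc24) (kc xc3 yc40 zc35) (kc xc3 yc40 zc36) (kc xc6 yc16 zc33) (kc xc13 yc54 zc27) (kc xc5 yc48 zc41) (kc xc11 yc26 zc51) (kc xc13 yc54 zc37) (kc xc13 yc54 zc40) (kc xc13 yc54 zc43) (kc xc7 yc21 zc31) (kc xc13 yc54 zc46) (kc xc11 yc19 zc59) (kc xc13 yc54 zc53) (kc xc7 yc27 zc33) (kc xc3 yc46 zc8) (kc xc13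 yc54 zc58) (kc xc13 yc54 zc61) (kc xc13 yc55 zc2) (kc xc3 yc40 zc41) (kc xc7 yc24 zc11) (kc xc6 yc34 zc2) (kc xc6 yc53 zc28) (kc xc13 yc55 zc11) (kc xc13 yc55 zc13) (kc xc6 yc34 zc8) (kc xc13 yc55 zc16) (kc xc7 yc12 zc1) (kc xc7 yc27 zc42) (kc xc7 yc11 zc61) (kc xc9 yc19 zc43) (kc xc8 yc45 zc60) (kc xc8 yc45 zc61) (kc xc13 yc55 zc31) (kc xc13 yc55 zc33) (kc xc11 yc16 zc51) (kc xc7 yc38 zc24) (kc xc12 yc30 zc23) (kc xc13 yc55 zc44) (kc xc13 yc55 zc48) (kc xc13 yc55 zc53)) (@D3.rec (fun _ => Pt) (kc xc4 yc59 zc60) (kc xc7 yc32 zc15) (kc xc13 yc55 zc59) (kc xc7 yc11 zc55) (kc xc7 yc0 zc0) (kc xc13 yc56 zc2) (kc xc13 yc56 zc5) (kc xc13 yc56 zc8) (kc xc3 yc40 zc56) (kc xc7 yc28 zc30) (kc xc7 yc28 zc51) (kc xc3 yc41 zc3) (kc xc13 yc24 zc44) (kc xc7 yc1 zc60) (kc xc7 yc1 zc19)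 (kc xc7 yc2 zc17) (kc xc13 yc18 zc10) (kc xc13 yc56 zc18) (kc xc3 yc41 zc2) (kc xc13 yc56 zc20) (kc xc7 yc2 zc26) (kc xc13 yc56 zc27) (kc xc13 yc24 zc16) (kc xc11 yc16 zc49) (kc xc13 yc56 zc32) (kc xc13 yc56 zc37) (kc xc11 yc6 zc40) (kc xc7 yc3 zc0) (kc xc13 yc56 zc43) (kc xc7 yc11 zc56) (kc xc7 yc4 zc20) (kc xc13 yc56 zc49) (kc xc3 yc48 zc16) (kc xc13 yc56 zc52) (kc xc13 yc56 zc55) (kc xc3 yc41 zc7) (kc xc13 yc56 zc58) (kc xc7 yc22 zc37) (kc xc13 yc56 zc61) (kc xc3 yc41 zc10) (kc xc11 yc37 zc40) (kc xc13 yc57 zc1) (kc xc6 yc53 zc5) (kc xc3 yc41 zc11) (kc xc9 yc49 zc31) (kc xc13 yc57 zc5) (kc xc13 yc57 zc8) (kc xc6 yc53 zc58) (kc xc13 yc57 zc11) (kc xc9 yc48 zc28) (kc xc3 yc41 zc13) (kc xc11 yc47 zc2) (kc xc13 yc57 zc18) (kc xc13 yc57 zc22) (kc xc13 yc57 zc27) (kc xc11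 yc31 zc58) (kc xc12 yc31 zc42) (kc xc13 yc57 zc35) (kc xc11 yc43 zc39) (kc xc7 yc55 zc4) (kc xc3 yc41 zc16) (kc xc6 yc53 zc6)) (@D3.rec (fun _ => Pt) (kc xc7 yc19 zc5) (kc xc4 yc24 zc32) (kc xc7 yc19 zc6) (kc xc4 yc24 zc31) (kc xc4 yc24 zc6) (kc xc8 yc2 zc8) (kc xc5 yc49 zc41) (kc xc6 yc25 zc0) (kc xc7 yc19 zc7) (kc xc7 yc19 zc8) (kc xc13 yc57 zc60) (kc xc7 yc5 zc41) (kc xc11 yc6 zc38) (kc xc11 yc6 zc41) (kc xc13 yc58 zc6) (kc xc12 yc31 zc12) (kc xc7 yc43 zc51) (kc xc3 yc41 zc23) (kc xc13 yc58 zc13) (kc xc13 yc58 zc15) (kc xc3 yc41 zc25) (kc xc8 yc25 zc28) (kc xc4 yc57 zc1) (kc xc5 yc44 zc16) (kc xc4 yc0 zc8) (kc xc9 yc10 zc27) (kc xc12 yc31 zc47) (kc xc5 yc38 zc29) (kc xc13 yc58 zc33) (kc xc11 yc18 zc26) (kc xc13 yc58 zc36) (kc xc11 yc23 zc56) (kc xc5 yc40 zc14) (kc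 xc7 yc29 zc14) (kc xc13 yc53 zc1) (kc xc13 yc53 zc2) (kc xc3 yc41 zc34) (kc xc13 yc58 zc47) (kc xc3 yc41 zc31) (kc xc13 yc58 zc54) (kc xc13 yc58 zc51) (kc xc13 yc58 zc61) (kc xc3 yc41 zc32) (kc xc13 yc59 zc3) (kc xc11 yc19 zc56) (kc xc13 yc59 zc9) (kc xc13 yc59 zc13) (kc xc3 yc41 zc33) (kc xc13 yc59 zc20) (kc xc13 yc59 zc22) (kc xc6 yc54 zc2) (kc xc13 yc59 zc26) (kc xc13 yc18 zc39) (kc xc13 yc59 zc30) (kc xc3 yc41 zc36) (kc xc13 yc59 zc35) (kc xc11 yc42 zc58) (kc xc7 yc19 zc27) (kc xc13 yc38 zc9) (kc xc13 yc59 zc41) (kc xc13 yc47 zc0) (kc xc3 yc41 zc39)) (@D3.rec (fun _ => Pt) (kc xc13 yc59 zc47) (kc xc13 yc59 zc52) (kc xc13 yc59 zc54) (kc xc3 yc41 zc41) (kc xc13 yc59 zc59) (kc xc14 yc0 zc3) (kc xc3 yc41 zc42) (kc xc14 yc0 zc6) (kc xc7 yc24 zc28) (kc xc7 yc24 zc42)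 (kc xc7 yc29 zc52) (kc xc7 yc21 zc41) (kc xc3 yc41 zc44) (kc xc14 yc0 zc20) (kc xc7 yc18 zc32) (kc xc14 yc0 zc27) (kc xc13 yc23 zc57) (kc xc12 yc8 zc29) (kc xc14 yc0 zc32) (kc xc13 yc43 zc0) (kc xc14 yc0 zc38) (kc xc14 yc0 zc41) (kc xc3 yc41 zc49) (kc xc14 yc0 zc44) (kc xc3 yc48 zc18) (kc xc14 yc0 zc50) (kc xc6 yc57 zc38) (kc xc7 yc49 zc12) (kc xc7 yc24 zc8) (kc xc3 yc41 zc52) (kc xc3 yc41 zc56) (kc xc14 yc0 zc57) (kc xc3 yc41 zc55) (kc xc7 yc18 zc41) (kc xc13 yc34 zc23) (kc xc13 yc15 zc24) (kc xc14 yc0 zc56) (kc xc3 yc41 zc57) (kc xc14 yc1 zc2) (kc xc13 yc23 zc43) (kc xc9 yc20 zc16) (kc xc13 yc8 zc26) (kc xc7 yc24 zc9) (kc xc14 yc1 zc10) (kc xc14 yc1 zc11) (kc xc3 yc41 zc60) (kc xc14 yc1 zc16) (kc xc7 yc8 zc37) (kc xc7 yc8 zc49) (kc xc14 yc1 zc23) (kc xc7 yc45 zc45)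 (kc xc14 yc1 zc26) (kc xc3 yc42 zc1) (kc xc14 yc1 zc28) (kc xc14 yc1 zc33) (kc xc14 yc1 zc34) (kc xc10 yc6 zc36) (kc xc12 yc34 zc13) (kc xc6 yc36 zc41) (kc xc9 yc3 zc60) (kc xc6 yc36 zc42) (kc xc3 yc49 zc58)) (@D3.rec (fun _ => Pt) (kc xc6 yc56 zc13) (kc xc3 yc48 zc26) (kc xc3 yc55 zc47) (kc xc6 yc3 zc36) (kc xc3 yc47 zc26) (kc xc14 yc1 zc49) (kc xc6 yc55 zc9) (kc xc7 yc13 zc31) (kc xc7 yc20 zc19) (kc xc7 yc13 zc29) (kc xc6 yc25 zc32) (kc xc7 yc8 zc3) (kc xc4 yc23 zc52) (kc xc4 yc24 zc28) (kc xc11 yc29 zc12) (kc xc13 yc29 zc13) (kc xc13 yc15 zc35) (kc xc14 yc2 zc5) (kc xc13 yc58 zc16) (kc xc12 yc30 zc29) (kc xc12 yc30 zc30) (kc xc3 yc57 zc52) (kc xc3 yc42 zc21) (kc xc11 yc18 zc28) (kc xc11 yc18 zc27) (kc xc14 yc2 zc22) (kc xc9 yc45 zc46) (kc xc6 yc54 zc32) (kc xc14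 yc2 zc27) (kc xc3 yc47 zc54) (kc xc14 yc2 zc30) (kc xc14 yc2 zc32) (kc xc12 yc37 zc7) (kc xc3 yc42 zc24) (kc xc3 yc51 zc7) (kc xc3 yc56 zc1) (kc xc3 yc42 zc27) (kc xc3 yc42 zc51) (kc xc14 yc2 zc39) (kc xc11 yc33 zc22) (kc xc11 yc48 zc11) (kc xc6 yc50 zc28) (kc xc3 yc42 zc31) (kc xc3 yc42 zc32) (kc xc11 yc9 zc44) (kc xc4 yc51 zc56) (kc xc3 yc43 zc8) (kc xc9 yc20 zc36) (kc xc6 yc52 zc28) (kc xc3 yc50 zc1) (kc xc7 yc2 zc11) (kc xc7 yc39 zc24) (kc xc14 yc2 zc57) (kc xc3 yc42 zc38) (kc xc9 yc3 zc57) (kc xc3 yc51 zc52) (kc xc4 yc43 zc33) (kc xc7 yc53 zc29) (kc xc5 yc43 zc20) (kc xc5 yc43 zc18) (kc xc11 yc18 zc2) (kc xc3 yc52 zc26)) (@D3.rec (fun _ => Pt) (kc xc14 yc3 zc8) (kc xc12 yc30 zc20) (kc xc3 yc55 zc59) (kc xc14 yc3 zc13) (kc xc14 yc3 zc16) (kc xc14 yc3 zc19) (kc xc6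 yc27 zc12) (kc xc7 yc26 zc7) (kc xc12 yc25 zc46) (kc xc7 yc37 zc41) (kc xc3 yc54 zc38) (kc xc14 yc2 zc34) (kc xc14 yc3 zc27) (kc xc3 yc42 zc47) (kc xc14 yc3 zc30) (kc xc7 yc26 zc15) (kc xc6 yc9 zc27) (kc xc3 yc53 zc44) (kc xc12 yc30 zc43) (kc xc6 yc57 zc59) (kc xc12 yc30 zc41) (kc xc14 yc3 zc44) (kc xc7 yc55 zc10) (kc xc14 yc2 zc37) (kc xc14 yc3 zc47) (kc xc3 yc42 zc52) (kc xc14 yc3 zc50) (kc xc7 yc30 zc16) (kc xc7 yc30 zc13) (kc xc5 yc51 zc3) (kc xc6 yc34 zc6) (kc xc3 yc42 zc54) (kc xc14 yc3 zc56) (kc xc6 yc16 zc21) (kc xc9 yc1 zc49) (kc xc14 yc4 zc0) (kc xc14 yc4 zc4) (kc xc14 yc4 zc9) (kc xc14 yc4 zc11) (kc xc14 yc4 zc15) (kc xc12 yc19 zc19) (kc xc6 yc32 zc4) (kc xc4 yc37 zc41) (kc xc4 yc37 zc31) (kc xc4 yc36 zc38) (kc xc6 yc20 zc17) (kc xc14 yc4 zc22) (kc xc3 yc43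 zc2) (kc xc6 yc30 zc39) (kc xc13 yc1 zc3) (kc xc12 yc36 zc17) (kc xc13 yc1 zc4) (kc xc3 yc44 zc7) (kc xc14 yc4 zc30) (kc xc12 yc24 zc59) (kc xc3 yc43 zc6) (kc xc14 yc4 zc33) (kc xc14 yc4 zc23) (kc xc6 yc52 zc36) (kc xc6 yc10 zc55) (kc xc4 yc39 zc60) (kc xc6 yc28 zc61)) (@D3.rec (fun _ => Pt) (kc xc3 yc44 zc4) (kc xc6 yc30 zc30) (kc xc9 yc50 zc5) (kc xc3 yc43 zc15) (kc xc3 yc43 zc13) (kc xc12 yc17 zc36) (kc xc3 yc43 zc14) (kc xc14 yc4 zc46) (kc xc5 yc8 zc21) (kc xc10 yc19 zc3) (kc xc5 yc57 zc61) (kc xc14 yc4 zc48) (kc xc3 yc43 zc59) (kc xc6 yc52 zc44) (kc xc6 yc29 zc31) (kc xc6 yc7 zc52) (kc xc3 yc43 zc20) (kc xc3 yc43 zc19) (kc xc14 yc4 zc52) (kc xc12 yc1 zc8) (kc xc6 yc34 zc18) (kc xc6 yc34 zc19) (kc xc6 yc52 zc26) (kc xc9 yc9 zc24) (kc xc9 yc9 zc30) (kc xc5 yc51 zc59)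 (kc xc5 yc51 zc60) (kc xc5 yc14 zc14) (kc xc6 yc25 zc37) (kc xc13 yc1 zc19) (kc xc14 yc2 zc8) (kc xc14 yc2 zc9) (kc xc6 yc51 zc48) (kc xc7 yc21 zc35) (kc xc12 yc29 zc10) (kc xc12 yc34 zc51) (kc xc13 yc0 zc53) (kc xc3 yc45 zc45) (kc xc6 yc51 zc47) (kc xc13 yc59 zc57) (kc xc14 yc5 zc7) (kc xc7 yc5 zc38) (kc xc7 yc21 zc49) (kc xc7 yc5 zc36) (kc xc4 yc0 zc38) (kc xc6 yc15 zc7) (kc xc4 yc42 zc41) (kc xc13 yc38 zc12) (kc xc13 yc38 zc13) (kc xc14 yc5 zc24) (kc xc7 yc17 zc20) (kc xc11 yc14 zc55) (kc xc12 yc31 zc11) (kc xc14 yc5 zc33) (kc xc9 yc50 zc30) (kc xc13 yc17 zc30) (kc xc14 yc5 zc39) (kc xc6 yc52 zc14) (kc xc13 yc14 zc58) (kc xc14 yc5 zc43) (kc xc7 yc5 zc28) (kc xc13 yc58 zc10)) (@D3.rec (fun _ => Pt) (kc xc13 yc58 zc11) (kc xc3 yc43 zc41) (kc xc14 yc5 zc54) (kc xc7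 yc28 zc3) (kc xc14 yc5 zc57) (kc xc3 yc43 zc44) (kc xc7 yc5 zc29) (kc xc3 yc52 zc29) (kc xc14 yc6 zc1) (kc xc12 yc34 zc53) (kc xc13 yc16 zc51) (kc xc7 yc33 zc58) (kc xc13 yc20 zc54) (kc xc13 yc19 zc1) (kc xc14 yc6 zc10) (kc xc11 yc46 zc42) (kc xc11 yc46 zc43) (kc xc14 yc6 zc19) (kc xc9 yc49 zc2) (kc xc14 yc6 zc21) (kc xc7 yc37 zc40) (kc xc6 yc52 zc16) (kc xc14 yc6 zc27) (kc xc6 yc52 zc15) (kc xc13 yc57 zc39) (kc xc13 yc56 zc9) (kc xc3 yc43 zc53) (kc xc3 yc43 zc54) (kc xc12 yc23 zc11) (kc xc14 yc6 zc33) (kc xc7 yc22 zc9) (kc xc14 yc6 zc38) (kc xc13 yc16 zc24) (kc xc14 yc6 zc41) (kc xc7 yc32 zc12) (kc xc11 yc36 zc20) (kc xc12 yc2 zc9) (kc xc3 yc43 zc57) (kc xc14 yc6 zc50) (kc xc14 yc6 zc55) (kc xc14 yc6 zc59) (kc xc14 yc7 zc2) (kc xc7 yc32 zc18) (kc xc5 yc37 zc32) (kc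 xc12 yc49 zc30) (kc xc14 yc7 zc10) (kc xc14 yc4 zc49) (kc xc14 yc5 zc50) (kc xc14 yc5 zc51) (kc xc3 yc43 zc60) (kc xc14 yc7 zc17) (kc xc7 yc22 zc10) (kc xc6 yc15 zc5) (kc xc6 yc15 zc3) (kc xc7 yc12 zc2) (kc xc7 yc17 zc17) (kc xc7 yc17 zc18) (kc xc14 yc7 zc30) (kc xc9 yc50 zc22) (kc xc9 yc50 zc23) (kc xc14 yc7 zc35) (kc xc14 yc4 zc43)) (@D3.rec (fun _ => Pt) (kc xc7 yc54 zc23) (kc xc3 yc44 zc5) (kc xc14 yc7 zc39) (kc xc3 yc44 zc6) (kc xc14 yc7 zc42) (kc xc9 yc0 zc24) (kc xc9 yc45 zc55) (kc xc14 yc7 zc52) (kc xc5 yc44 zc12) (kc xc6 yc13 zc31) (kc xc8 yc1 zc14) (kc xc11 yc17 zc57) (kc xc14 yc7 zc60) (kc xc14 yc7 zc61) (kc xc7 yc23 zc33) (kc xc14 yc2 zc12) (kc xc14 yc2 zc13) (kc xc14 yc8 zc9) (kc xc3 yc44 zc15) (kc xc12 yc56 zc8) (kc xc3 yc44 zc12) (kc xc14 yc8 zc20) (kc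 xc14 yc8 zc17) (kc xc12 yc22 zc54) (kc xc3 yc44 zc13) (kc xc14 yc8 zc32) (kc xc14 yc8 zc31) (kc xc14 yc8 zc38) (kc xc14 yc8 zc41) (kc xc3 yc44 zc14) (kc xc14 yc8 zc48) (kc xc14 yc8 zc49) (kc xc7 yc34 zc32) (kc xc14 yc8 zc55) (kc xc7 yc34 zc34) (kc xc3 yc44 zc17) (kc xc14 yc8 zc61) (kc xc14 yc9 zc4) (kc xc7 yc17 zc43) (kc xc13 yc23 zc58) (kc xc13 yc15 zc34) (kc xc13 yc23 zc60) (kc xc3 yc44 zc20) (kc xc14 yc9 zc13) (kc xc14 yc9 zc18) (kc xc3 yc44 zc22) (kc xc12 yc26 zc42) (kc xc8 yc38 zc54) (kc xc3 yc44 zc23) (kc xc14 yc9 zc26) (kc xc7 yc5 zc21) (kc xc7 yc5 zc15) (kc xc7 yc24 zc10) (kc xc6 yc52 zc33) (kc xc14 yc9 zc41) (kc xc13 yc38 zc11) (kc xc13 yc38 zc1) (kc xc14 yc9 zc48) (kc xc13 yc32 zc30) (kc xc14 yc4 zc24) (kc xc14 yc9 zc54) (kc xc3 yc44 zc28)) (@D3.rec (fun _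 => Pt) (kc xc14 yc9 zc57) (kc xc7 yc19 zc42) (kc xc10 yc35 zc34) (kc xc7 yc16 zc1) (kc xc13 yc6 zc61) (kc xc14 yc10 zc5) (kc xc13 yc7 zc1) (kc xc3 yc44 zc32) (kc xc14 yc10 zc10) (kc xc7 yc37 zc39) (kc xc7 yc54 zc24) (kc xc3 yc54 zc59) (kc xc3 yc44 zc34) (kc xc7 yc26 zc28) (kc xc14 yc10 zc14) (kc xc3 yc44 zc35) (kc xc7 yc26 zc27) (kc xc14 yc10 zc17) (kc xc14 yc10 zc21) (kc xc14 yc10 zc24) (kc xc14 yc10 zc28) (kc xc7 yc30 zc21) (kc xc3 yc55 zc56) (kc xc13 yc50 zc36) (kc xc14 yc10 zc35) (kc xc3 yc44 zc38) (kc xc14 yc10 zc39) (kc xc7 yc7 zc12) (kc xc13 yc27 zc5) (kc xc7 yc30 zc29) (kc xc14 yc10 zc46) (kc xc14 yc10 zc48) (kc xc7 yc30 zc32) (kc xc14 yc10 zc50) (kc xc12 yc3 zc30) (kc xc6 yc57 zc52) (kc xc3 yc55 zc46) (kc xc5 yc51 zc20) (kc xc12 yc33 zc42) (kc xc9 yc49 zc29)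 (kc xc12 yc32 zc31) (kc xc14 yc10 zc56) (kc xc7 yc4 zc39) (kc xc6 yc53 zc45) (kc xc13 yc0 zc54) (kc xc7 yc31 zc15) (kc xc3 yc45 zc54) (kc xc13 yc4 zc61) (kc xc13 yc5 zc0) (kc xc14 yc11 zc5) (kc xc14 yc4 zc61) (kc xc14 yc5 zc0) (kc xc14 yc11 zc11) (kc xc5 yc59 zc60) (kc xc3 yc44 zc60) (kc xc7 yc10 zc38) (kc xc7 yc16 zc58) (kc xc6 yc42 zc4) (kc xc11 yc29 zc38) (kc xc6 yc42 zc5) (kc xc3 yc46 zc0) (kc xc14 yc11 zc20)) (@D3.rec (fun _ => Pt) (kc xc3 yc45 zc7) (kc xc7 yc20 zc13) (kc xc6 yc59 zc38) (kc xc14 yc11 zc26) (kc xc11 yc43 zc40) (kc xc9 yc18 zc11) (kc xc14 yc11 zc31) (kc xc6 yc46 zc45) (kc xc3 yc45 zc60) (kc xc12 yc46 zc32) (kc xc9 yc16 zc51) (kc xc9 yc24 zc24) (kc xc6 yc33 zc31) (kc xc3 yc45 zc31) (kc xc3 yc45 zc32) (kc xc7 yc30 zc45) (kc xc14 yc11 zc44) (kc xc3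 yc45 zc16) (kc xc9 yc27 zc47) (kc xc14 yc11 zc46) (kc xc11 yc21 zc33) (kc xc12 yc31 zc17) (kc xc6 yc31 zc47) (kc xc6 yc31 zc49) (kc xc10 yc13 zc18) (kc xc3 yc45 zc22) (kc xc5 yc58 zc0) (kc xc4 yc58 zc43) (kc xc5 yc51 zc52) (kc xc6 yc9 zc50) (kc xc6 yc9 zc51) (kc xc3 yc50 zc6) (kc xc3 yc45 zc28) (kc xc12 yc2 zc48) (kc xc12 yc3 zc18) (kc xc3 yc45 zc27) (kc xc12 yc1 zc30) (kc xc3 yc45 zc29) (kc xc14 yc11 zc58) (kc xc14 yc11 zc60) (kc xc3 yc45 zc30) (kc xc14 yc11 zc39) (kc xc14 yc12 zc1) (kc xc14 yc12 zc5) (kc xc14 yc12 zc8) (kc xc9 yc16 zc28) (kc xc12 yc35 zc51) (kc xc12 yc35 zc52) (kc xc3 yc45 zc33) (kc xc14 yc12 zc16) (kc xc6 yc32 zc5) (kc xc14 yc12 zc21) (kc xc3 yc45 zc37) (kc xc12 yc41 zc36) (kc xc6 yc58 zc42) (kc xc14 yc12 zc22) (kc xc13 yc47 zc5) (kc xc14 yc12 zc25)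 (kc xc12 yc8 zc28) (kc xc12 yc1 zc10) (kc xc7 yc6 zc5) (kc xc14 yc12 zc29)) (@D3.rec (fun _ => Pt) (kc xc14 yc12 zc31) (kc xc3 yc45 zc41) (kc xc12 yc0 zc37) (kc xc14 yc12 zc35) (kc xc12 yc8 zc11) (kc xc14 yc12 zc42) (kc xc6 yc28 zc39) (kc xc7 yc21 zc6) (kc xc12 yc39 zc33) (kc xc13 yc17 zc5) (kc xc3 yc45 zc44) (kc xc14 yc5 zc3) (kc xc7 yc28 zc34) (kc xc3 yc45 zc47) (kc xc14 yc12 zc53) (kc xc7 yc22 zc1) (kc xc14 yc6 zc24) (kc xc14 yc13 zc0) (kc xc7 yc28 zc42) (kc xc6 yc29 zc10) (kc xc12 yc1 zc19) (kc xc14 yc13 zc8) (kc xc12 yc39 zc38) (kc xc13 yc22 zc33) (kc xc3 yc45 zc50) (kc xc14 yc13 zc13) (kc xc6 yc58 zc41) (kc xc3 yc45 zc52) (kc xc14 yc13 zc16) (kc xc13 yc20 zc24) (kc xc14 yc13 zc23) (kc xc6 yc33 zc36) (kc xc7 yc0 zc24) (kc xc7 yc0 zc25) (kc xc14 yc13 zc26) (kc xc13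 yc49 zc53) (kc xc13 yc5 zc29) (kc xc5 yc12 zc22) (kc xc10 yc47 zc20) (kc xc14 yc13 zc31) (kc xc8 yc19 zc17) (kc xc13 yc44 zc37) (kc xc5 yc16 zc33) (kc xc8 yc30 zc41) (kc xc3 yc45 zc57) (kc xc12 yc32 zc60) (kc xc3 yc45 zc59) (kc xc12 yc34 zc20) (kc xc14 yc13 zc45) (kc xc14 yc11 zc37) (kc xc14 yc13 zc47) (kc xc3 yc45 zc61) (kc xc14 yc13 zc51) (kc xc3 yc51 zc31) (kc xc3 yc51 zc32) (kc xc14 yc13 zc61) (kc xc7 yc44 zc44) (kc xc12 yc37 zc41) (kc xc3 yc46 zc1) (kc xc14 yc14 zc10) (kc xc14 yc14 zc7) (kc xc14 yc14 zc16)) (@D3.rec (fun _ => Pt) (kc xc3 yc46 zc2) (kc xc14 yc14 zc21) (kc xc14 yc14 zc20) (kc xc14 yc14 zc24) (kc xc14 yc14 zc28) (kc xc3 yc46 zc3) (kc xc9 yc53 zc29) (kc xc14 yc14 zc33) (kc xc13 yc16 zc3) (kc xc14 yc14 zc39) (kc xc13 yc44 zc12) (kc xc10 yc7 zc45) (kc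 xc3 yc46 zc6) (kc xc14 yc14 zc44) (kc xc14 yc9 zc39) (kc xc13 yc54 zc56) (kc xc14 yc14 zc51) (kc xc13 yc25 zc8) (kc xc3 yc46 zc9) (kc xc14 yc14 zc56) (kc xc14 yc14 zc61) (kc xc14 yc15 zc1) (kc xc3 yc46 zc11) (kc xc3 yc56 zc50) (kc xc14 yc15 zc5) (kc xc14 yc15 zc10) (kc xc3 yc46 zc12) (kc xc6 yc53 zc2) (kc xc14 yc15 zc13) (kc xc7 yc33 zc41) (kc xc6 yc52 zc40) (kc xc9 yc34 zc41) (kc xc7 yc1 zc9) (kc xc3 yc46 zc14) (kc xc14 yc15 zc23) (kc xc14 yc15 zc27) (kc xc7 yc33 zc36) (kc xc3 yc46 zc16) (kc xc14 yc15 zc32) (kc xc7 yc37 zc37) (kc xc7 yc33 zc40) (kc xc7 yc33 zc29) (kc xc3 yc46 zc19) (kc xc14 yc15 zc39) (kc xc11 yc48 zc34) (kc xc3 yc46 zc37) (kc xc5 yc14 zc6) (kc xc5 yc14 zc5) (kc xc14 yc15 zc40) (kc xc14 yc15 zc43) (kc xc14 yc15 zc48) (kc xc14 yc15 zc50) (kc xc3 yc46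 zc25) (kc xc5 yc55 zc21) (kc xc10 yc18 zc53) (kc xc5 yc52 zc15) (kc xc14 yc15 zc56) (kc xc14 yc15 zc57) (kc xc7 yc28 zc11) (kc xc3 yc46 zc33) (kc xc14 yc16 zc1) (kc xc13 yc26 zc48)) (@D3.rec (fun _ => Pt) (kc xc14 yc16 zc5) (kc xc12 yc7 zc48) (kc xc11 yc27 zc32) (kc xc14 yc16 zc7) (kc xc7 yc43 zc56) (kc xc3 yc46 zc38) (kc xc14 yc16 zc9) (kc xc3 yc46 zc39) (kc xc3 yc46 zc41) (kc xc14 yc16 zc16) (kc xc14 yc16 zc18) (kc xc14 yc16 zc23) (kc xc14 yc16 zc14) (kc xc13 yc44 zc53) (kc xc14 yc16 zc27) (kc xc13 yc47 zc52) (kc xc14 yc16 zc29) (kc xc13 yc46 zc48) (kc xc14 yc16 zc32) (kc xc14 yc16 zc34) (kc xc3 yc46 zc44) (kc xc10 yc5 zc46) (kc xc3 yc46 zc45) (kc xc14 yc16 zc44) (kc xc10 yc5 zc49) (kc xc14 yc16 zc50) (kc xc3 yc46 zc46) (kc xc14 yc16 zc56) (kc xc14 yc16 zc55) (kc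 xc13 yc34 zc32) (kc xc13 yc34 zc33) (kc xc13 yc45 zc3) (kc xc7 yc29 zc32) (kc xc14 yc17 zc6) (kc xc7 yc29 zc34) (kc xc13 yc17 zc60) (kc xc14 yc17 zc12) (kc xc7 yc19 zc51) (kc xc14 yc17 zc18) (kc xc7 yc19 zc53) (kc xc13 yc15 zc55) (kc xc14 yc17 zc24) (kc xc13 yc18 zc2) (kc xc14 yc17 zc29) (kc xc13 yc18 zc0) (kc xc14 yc17 zc36) (kc xc7 yc34 zc46) (kc xc6 yc52 zc6) (kc xc3 yc54 zc5) (kc xc14 yc17 zc41) (kc xc7 yc14 zc6) (kc xc13 yc40 zc26) (kc xc3 yc47 zc1) (kc xc14 yc17 zc43) (kc xc7 yc14 zc40) (kc xc7 yc13 zc2) (kc xc5 yc53 zc4) (kc xc6 yc37 zc47) (kc xc6 yc37 zc48) (kc xc14 yc17 zc56) (kc xc12 yc37 zc23) (kc xc3 yc54 zc19)) (@D3.rec (fun _ => Pt) (kc xc14 yc17 zc59) (kc xc7 yc41 zc46) (kc xc7 yc41 zc47) (kc xc3 yc47 zc5) (kc xc7 yc35 zc4) (kc xc14 yc18 zc3) (kc xc3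 yc47 zc7) (kc xc7 yc38 zc2) (kc xc7 yc38 zc3) (kc xc14 yc18 zc9) (kc xc6 yc36 zc56) (kc xc6 yc36 zc57) (kc xc14 yc18 zc16) (kc xc12 yc27 zc53) (kc xc7 yc13 zc9) (kc xc14 yc18 zc21) (kc xc7 yc51 zc24) (kc xc14 yc18 zc23) (kc xc7 yc42 zc35) (kc xc7 yc42 zc36) (kc xc3 yc47 zc14) (kc xc3 yc49 zc5) (kc xc3 yc50 zc23) (kc xc3 yc50 zc26) (kc xc6 yc54 zc48) (kc xc3 yc50 zc35) (kc xc3 yc50 zc36) (kc xc14 yc18 zc43) (kc xc6 yc54 zc52) (kc xc12 yc37 zc20) (kc xc12 yc37 zc21) (kc xc14 yc18 zc51) (kc xc12 yc36 zc59) (kc xc3 yc47 zc20) (kc xc3 yc47 zc22) (kc xc14 yc18 zc55) (kc xc6 yc55 zc10) (kc xc3 yc47 zc23) (kc xc14 yc18 zc58) (kc xc7 yc21 zc7) (kc xc3 yc47 zc25) (kc xc14 yc18 zc61) (kc xc14 yc19 zc2) (kc xc14 yc19 zc5) (kc xc14 yc19 zc10) (kc xc12 yc27 zc51) (kc xc12 yc27 zc52)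 (kc xc8 yc15 zc31) (kc xc12 yc36 zc39) (kc xc14 yc18 zc29) (kc xc3 yc47 zc28) (kc xc6 yc55 zc11) (kc xc3 yc54 zc58) (kc xc14 yc12 zc51) (kc xc7 yc49 zc43) (kc xc3 yc47 zc32) (kc xc12 yc30 zc57) (kc xc14 yc19 zc33) (kc xc14 yc19 zc29) (kc xc3 yc49 zc4) (kc xc12 yc10 zc28) (kc xc7 yc7 zc50)) (@D3.rec (fun _ => Pt) (kc xc3 yc47 zc36) (kc xc12 yc30 zc55) (kc xc14 yc19 zc48) (kc xc14 yc19 zc43) (kc xc3 yc47 zc37) (kc xc11 yc1 zc32) (kc xc14 yc19 zc56) (kc xc10 yc41 zc41) (kc xc14 yc19 zc61) (kc xc7 yc36 zc9) (kc xc14 yc20 zc1) (kc xc3 yc47 zc39) (kc xc14 yc20 zc4) (kc xc9 yc25 zc6) (kc xc3 yc47 zc40) (kc xc8 yc12 zc17) (kc xc9 yc28 zc28) (kc xc9 yc28 zc29) (kc xc13 yc7 zc13) (kc xc3 yc47 zc42) (kc xc14 yc20 zc16) (kc xc14 yc20 zc19) (kc xc14 yc20 zc23) (kc xc11 yc1 zc31)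 (kc xc7 yc54 zc5) (kc xc3 yc47 zc43) (kc xc10 yc57 zc27) (kc xc14 yc20 zc30) (kc xc7 yc7 zc54) (kc xc3 yc47 zc44) (kc xc14 yc20 zc36) (kc xc14 yc20 zc38) (kc xc14 yc20 zc41) (kc xc3 yc47 zc45) (kc xc12 yc5 zc37) (kc xc4 yc34 zc33) (kc xc3 yc47 zc47) (kc xc14 yc20 zc49) (kc xc14 yc20 zc47) (kc xc12 yc16 zc55) (kc xc3 yc47 zc48) (kc xc14 yc20 zc59) (kc xc14 yc20 zc58) (kc xc14 yc21 zc2) (kc xc14 yc21 zc6) (kc xc3 yc47 zc49) (kc xc14 yc21 zc12) (kc xc14 yc10 zc30) (kc xc6 yc57 zc23) (kc xc6 yc57 zc25) (kc xc14 yc21 zc17) (kc xc3 yc47 zc52) (kc xc14 yc21 zc19) (kc xc14 yc21 zc22) (kc xc14 yc2 zc29) (kc xc12 yc25 zc26) (kc xc13 yc13 zc33) (kc xc3 yc47 zc56) (kc xc4 yc28 zc20) (kc xc3 yc47 zc58) (kc xc8 yc38 zc2) (kc xc12 yc34 zc26)) (@D3.rec (fun _ => Pt) (kc xc3 yc47 zc59)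 (kc xc14 yc21 zc33) (kc xc13 yc17 zc16) (kc xc13 yc17 zc20) (kc xc14 yc20 zc45) (kc xc13 yc22 zc11) (kc xc3 yc48 zc0) (kc xc3 yc56 zc13) (kc xc7 yc46 zc10) (kc xc13 yc30 zc25) (kc xc13 yc40 zc44) (kc xc14 yc21 zc56) (kc xc7 yc45 zc51) (kc xc7 yc45 zc52) (kc xc3 yc48 zc3) (kc xc14 yc22 zc1) (kc xc14 yc21 zc46) (kc xc6 yc43 zc28) (kc xc6 yc56 zc58) (kc xc14 yc22 zc12) (kc xc6 yc56 zc60) (kc xc3 yc48 zc7) (kc xc14 yc22 zc15) (kc xc14 yc1 zc13) (kc xc6 yc56 zc14) (kc xc6 yc56 zc15) (kc xc6 yc56 zc17) (kc xc6 yc56 zc18) (kc xc10 yc44 zc41) (kc xc10 yc43 zc50) (kc xc10 yc43 zc51) (kc xc14 yc22 zc32) (kc xc11 yc35 zc61) (kc xc14 yc22 zc34) (kc xc14 yc22 zc36) (kc xc3 yc48 zc15) (kc xc7 yc10 zc60) (kc xc7 yc33 zc39) (kc xc7 yc6 zc38) (kc xc7 yc30 zc9) (kc xc7 yc28 zc20) (kc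 xc7 yc26 zc9) (kc xc11 yc28 zc8) (kc xc13 yc30 zc21) (kc xc11 yc40 zc38) (kc xc11 yc27 zc61) (kc xc7 yc13 zc45) (kc xc14 yc22 zc46) (kc xc14 yc22 zc49) (kc xc14 yc22 zc53) (kc xc7 yc13 zc48) (kc xc14 yc10 zc37) (kc xc3 yc48 zc24) (kc xc14 yc22 zc58) (kc xc4 yc37 zc15) (kc xc14 yc1 zc45) (kc xc7 yc51 zc37) (kc xc7 yc20 zc35) (kc xc14 yc3 zc11) (kc xc14 yc23 zc3) (kc xc3 yc48 zc29) (kc xc3 yc48 zc30)) (@D3.rec (fun _ => Pt) (kc xc14 yc23 zc5) (kc xc14 yc23 zc8) (kc xc7 yc35 zc7) (kc xc7 yc35 zc8) (kc xc4 yc44 zc12) (kc xc8 yc30 zc57) (kc xc6 yc19 zc12) (kc xc13 yc8 zc1) (kc xc3 yc48 zc34) (kc xc14 yc23 zc18) (kc xc7 yc6 zc0) (kc xc14 yc23 zc20) (kc xc3 yc48 zc35) (kc xc14 yc23 zc24) (kc xc7 yc47 zc24) (kc xc13 yc9 zc58) (kc xc3 yc48 zc38) (kc xc14 yc23 zc29) (kc xc6 yc11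 zc1) (kc xc6 yc11 zc2) (kc xc14 yc23 zc41) (kc xc12 yc35 zc6) (kc xc3 yc48 zc40) (kc xc14 yc23 zc44) (kc xc7 yc21 zc57) (kc xc12 yc28 zc21) (kc xc14 yc23 zc51) (kc xc3 yc48 zc42) (kc xc14 yc23 zc58) (kc xc14 yc23 zc55) (kc xc14 yc24 zc2) (kc xc3 yc48 zc43) (kc xc14 yc24 zc8) (kc xc14 yc24 zc7) (kc xc14 yc24 zc14) (kc xc14 yc24 zc17) (kc xc3 yc48 zc44) (kc xc10 yc50 zc11) (kc xc14 yc24 zc22) (kc xc13 yc28 zc37) (kc xc14 yc24 zc27) (kc xc7 yc18 zc30) (kc xc14 yc24 zc31) (kc xc3 yc48 zc47) (kc xc14 yc24 zc34) (kc xc14 yc24 zc37) (kc xc14 yc24 zc39) (kc xc3 yc48 zc49) (kc xc14 yc24 zc46) (kc xc14 yc24 zc43) (kc xc3 yc48 zc50) (kc xc14 yc24 zc50) (kc xc14 yc24 zc55) (kc xc14 yc24 zc57) (kc xc3 yc48 zc52) (kc xc14 yc24 zc60) (kc xc14 yc25 zc3) (kc xc3 yc48 zc53) (kc xc14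 yc25 zc6) (kc xc8 yc6 zc7) (kc xc3 yc48 zc55) (kc xc14 yc25 zc12)) (@D3.rec (fun _ => Pt) (kc xc7 yc39 zc0) (kc xc14 yc25 zc15) (kc xc3 yc48 zc57) (kc xc14 yc25 zc18) (kc xc7 yc9 zc33) (kc xc7 yc39 zc5) (kc xc3 yc48 zc60) (kc xc14 yc25 zc25) (kc xc14 yc25 zc30) (kc xc7 yc13 zc14) (kc xc7 yc3 zc53) (kc xc14 yc19 zc35) (kc xc14 yc18 zc31) (kc xc3 yc49 zc21) (kc xc6 yc16 zc14) (kc xc14 yc19 zc37) (kc xc14 yc19 zc38) (kc xc14 yc25 zc41) (kc xc14 yc25 zc42) (kc xc13 yc38 zc27) (kc xc13 yc39 zc52) (kc xc3 yc49 zc10) (kc xc7 yc14 zc56) (kc xc3 yc49 zc52) (kc xc7 yc25 zc51) (kc xc14 yc25 zc53) (kc xc13 yc41 zc8) (kc xc14 yc25 zc56) (kc xc6 yc58 zc14) (kc xc3 yc49 zc20) (kc xc14 yc25 zc58) (kc xc13 yc28 zc19) (kc xc14 yc26 zc5) (kc xc13 yc43 zc29) (kc xc7 yc41 zc11) (kc xc3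 yc49 zc22) (kc xc12 yc33 zc55) (kc xc3 yc49 zc23) (kc xc14 yc26 zc7) (kc xc6 yc16 zc16) (kc xc3 yc49 zc25) (kc xc14 yc26 zc15) (kc xc14 yc26 zc17) (kc xc14 yc26 zc22) (kc xc14 yc26 zc13) (kc xc13 yc53 zc59) (kc xc14 yc26 zc27) (kc xc14 yc26 zc29) (kc xc13 yc28 zc21) (kc xc14 yc26 zc32) (kc xc14 yc26 zc35) (kc xc3 yc49 zc28) (kc xc14 yc26 zc41) (kc xc9 yc47 zc33) (kc xc3 yc49 zc30) (kc xc14 yc26 zc49) (kc xc14 yc26 zc46) (kc xc14 yc26 zc55) (kc xc3 yc49 zc31) (kc xc14 yc26 zc61) (kc xc14 yc26 zc60) (kc xc14 yc27 zc5)) (@D3.rec (fun _ => Pt) (kc xc14 yc27 zc8) (kc xc3 yc49 zc32) (kc xc14 yc27 zc14) (kc xc7 yc52 zc14) (kc xc5 yc53 zc15) (kc xc3 yc49 zc36) (kc xc14 yc27 zc22) (kc xc14 yc27 zc26) (kc xc7 yc15 zc19) (kc xc13 yc33 zc15) (kc xc7 yc15 zc21) (kc xc3 yc49 zc38)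 (kc xc14 yc27 zc35) (kc xc11 yc8 zc24) (kc xc3 yc49 zc40) (kc xc12 yc34 zc58) (kc xc14 yc27 zc42) (kc xc13 yc43 zc50) (kc xc3 yc49 zc41) (kc xc14 yc27 zc49) (kc xc3 yc50 zc43) (kc xc3 yc50 zc44) (kc xc14 yc26 zc39) (kc xc3 yc49 zc43) (kc xc14 yc28 zc1) (kc xc14 yc28 zc6) (kc xc7 yc40 zc26) (kc xc13 yc32 zc49) (kc xc14 yc27 zc57) (kc xc7 yc40 zc29) (kc xc14 yc27 zc54) (kc xc3 yc49 zc49) (kc xc7 yc52 zc56) (kc xc13 yc31 zc50) (kc xc7 yc15 zc36) (kc xc13 yc31 zc51) (kc xc7 yc15 zc35) (kc xc14 yc28 zc24) (kc xc14 yc28 zc27) (kc xc14 yc25 zc48) (kc xc14 yc28 zc29) (kc xc13 yc44 zc7) (kc xc13 yc32 zc42) (kc xc13 yc28 zc30) (kc xc6 yc54 zc41) (kc xc6 yc54 zc40) (kc xc9 yc22 zc3) (kc xc3 yc49 zc57) (kc xc6 yc35 zc39) (kc xc7 yc21 zc12) (kc xc14 yc28 zc49) (kc xc14 yc28 zc42)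 (kc xc5 yc55 zc12) (kc xc14 yc1 zc42) (kc xc12 yc10 zc1) (kc xc3 yc49 zc61) (kc xc6 yc38 zc21) (kc xc12 yc46 zc50) (kc xc3 yc50 zc0) (kc xc6 yc34 zc21) (kc xc14 yc28 zc60) (kc xc14 yc29 zc0)) (@D3.rec (fun _ => Pt) (kc xc14 yc29 zc4) (kc xc14 yc2 zc55) (kc xc3 yc50 zc2) (kc xc14 yc29 zc7) (kc xc7 yc53 zc11) (kc xc13 yc9 zc17) (kc xc13 yc9 zc23) (kc xc3 yc50 zc10) (kc xc5 yc55 zc20) (kc xc12 yc1 zc56) (kc xc6 yc53 zc7) (kc xc7 yc39 zc34) (kc xc12 yc2 zc44) (kc xc10 yc14 zc30) (kc xc14 yc29 zc25) (kc xc12 yc38 zc54) (kc xc12 yc33 zc60) (kc xc3 yc50 zc7) (kc xc14 yc29 zc31) (kc xc14 yc29 zc29) (kc xc14 yc29 zc33) (kc xc3 yc50 zc8) (kc xc14 yc29 zc38) (kc xc14 yc29 zc37) (kc xc11 yc4 zc3) (kc xc14 yc29 zc44) (kc xc3 yc50 zc9) (kc xc14 yc29 zc15) (kc xc3 yc50 zc13) (kc xc14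 yc29 zc51) (kc xc12 yc39 zc35) (kc xc12 yc39 zc36) (kc xc14 yc29 zc61) (kc xc6 yc11 zc4) (kc xc11 yc33 zc50) (kc xc14 yc30 zc3) (kc xc10 yc6 zc22) (kc xc12 yc17 zc7) (kc xc14 yc30 zc7) (kc xc12 yc43 zc8) (kc xc14 yc24 zc19) (kc xc14 yc24 zc20) (kc xc3 yc50 zc17) (kc xc14 yc30 zc19) (kc xc14 yc30 zc21) (kc xc13 yc43 zc21) (kc xc7 yc35 zc1) (kc xc7 yc35 zc2) (kc xc14 yc29 zc46) (kc xc3 yc50 zc21) (kc xc14 yc30 zc33) (kc xc13 yc40 zc25) (kc xc14 yc30 zc37) (kc xc3 yc50 zc24) (kc xc4 yc59 zc39) (kc xc14 yc30 zc38) (kc xc9 yc30 zc9) (kc xc5 yc25 zc9) (kc xc14 yc30 zc45) (kc xc3 yc52 zc4) (kc xc3 yc50 zc28) (kc xc14 yc18 zc34)) (@D3.rec (fun _ => Pt) (kc xc14 yc18 zc35) (kc xc14 yc30 zc52) (kc xc13 yc45 zc39) (kc xc5 yc48 zc21) (kc xc5 yc47 zc60) (kc xc13 yc8 zc2) (kc xc14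 yc30 zc58) (kc xc5 yc57 zc34) (kc xc5 yc57 zc31) (kc xc5 yc58 zc37) (kc xc12 yc9 zc1) (kc xc12 yc9 zc2) (kc xc14 yc31 zc6) (kc xc5 yc47 zc50) (kc xc13 yc43 zc28) (kc xc14 yc31 zc10) (kc xc14 yc31 zc12) (kc xc14 yc31 zc15) (kc xc13 yc35 zc26) (kc xc14 yc31 zc18) (kc xc14 yc31 zc22) (kc xc3 yc50 zc37) (kc xc14 yc31 zc29) (kc xc14 yc31 zc33) (kc xc12 yc42 zc44) (kc xc14 yc31 zc37) (kc xc14 yc31 zc40) (kc xc12 yc28 zc4) (kc xc14 yc27 zc10) (kc xc14 yc27 zc11) (kc xc3 yc50 zc41) (kc xc14 yc31 zc50) (kc xc14 yc27 zc55) (kc xc14 yc31 zc56) (kc xc14 yc27 zc58) (kc xc7 yc35 zc18) (kc xc7 yc35 zc19) (kc xc14 yc31 zc27) (kc xc3 yc50 zc46) (kc xc14 yc32 zc5) (kc xc14 yc32 zc8) (kc xc13 yc27 zc52) (kc xc7 yc7 zc33) (kc xc3 yc50 zc49) (kc xc14 yc32 zc14) (kc xc14 yc32 zc19) (kc xc13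 yc28 zc2) (kc xc14 yc32 zc27) (kc xc12 yc17 zc8) (kc xc14 yc32 zc29) (kc xc11 yc41 zc29) (kc xc14 yc32 zc31) (kc xc3 yc50 zc52) (kc xc6 yc1 zc13) (kc xc6 yc0 zc22) (kc xc14 yc32 zc38) (kc xc6 yc50 zc40) (kc xc3 yc53 zc26) (kc xc14 yc7 zc16) (kc xc7 yc7 zc15) (kc xc14 yc32 zc42) (kc xc14 yc32 zc45)) (@D3.rec (fun _ => Pt) (kc xc14 yc32 zc48) (kc xc3 yc50 zc56) (kc xc14 yc32 zc53) (kc xc3 yc50 zc58) (kc xc14 yc32 zc56) (kc xc12 yc25 zc0) (kc xc14 yc33 zc2) (kc xc4 yc48 zc56) (kc xc6 yc51 zc43) (kc xc9 yc19 zc54) (kc xc9 yc19 zc53) (kc xc3 yc51 zc29) (kc xc3 yc51 zc30) (kc xc11 yc46 zc56) (kc xc11 yc44 zc61) (kc xc10 yc18 zc15) (kc xc3 yc51 zc4) (kc xc14 yc33 zc18) (kc xc3 yc51 zc1) (kc xc14 yc33 zc25) (kc xc12 yc32 zc46) (kc xc4 yc45 zc55) (kc xc3 yc51 zc2) (kc xc14 yc33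 zc32) (kc xc4 yc38 zc54) (kc xc14 yc33 zc36) (kc xc3 yc51 zc3) (kc xc14 yc33 zc42) (kc xc14 yc33 zc44) (kc xc7 yc7 zc36) (kc xc14 yc33 zc49) (kc xc13 yc41 zc2) (kc xc14 yc33 zc53) (kc xc14 yc33 zc55) (kc xc3 yc51 zc6) (kc xc14 yc33 zc60) (kc xc14 yc34 zc3) (kc xc6 yc56 zc57) (kc xc12 yc51 zc19) (kc xc14 yc34 zc8) (kc xc3 yc51 zc9) (kc xc14 yc34 zc11) (kc xc14 yc34 zc14) (kc xc3 yc51 zc10) (kc xc14 yc34 zc19) (kc xc14 yc34 zc24) (kc xc3 yc51 zc11) (kc xc14 yc34 zc28) (kc xc13 yc50 zc4) (kc xc13 yc50 zc6) (kc xc3 yc52 zc21) (kc xc7 yc23 zc16) (kc xc3 yc51 zc13) (kc xc14 yc34 zc44) (kc xc12 yc53 zc17) (kc xc7 yc21 zc2) (kc xc7 yc34 zc4) (kc xc12 yc14 zc38) (kc xc3 yc51 zc16) (kc xc6 yc40 zc36) (kc xc14 yc34 zc60) (kc xc14 yc35 zc2)) (@D3.rec (fun _ => Pt) (kc xc14 yc34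 zc56) (kc xc14 yc35 zc4) (kc xc14 yc35 zc9) (kc xc12 yc45 zc12) (kc xc14 yc35 zc11) (kc xc14 yc14 zc30) (kc xc14 yc14 zc31) (kc xc3 yc51 zc19) (kc xc14 yc35 zc20) (kc xc4 yc34 zc30) (kc xc9 yc30 zc25) (kc xc9 yc30 zc51) (kc xc14 yc35 zc32) (kc xc4 yc49 zc48) (kc xc14 yc35 zc36) (kc xc12 yc45 zc0) (kc xc14 yc35 zc39) (kc xc12 yc45 zc6) (kc xc13 yc45 zc0) (kc xc13 yc45 zc1) (kc xc13 yc44 zc45) (kc xc11 yc30 zc20) (kc xc3 yc51 zc27) (kc xc4 yc38 zc34) (kc xc3 yc51 zc28) (kc xc6 yc45 zc22) (kc xc14 yc33 zc7) (kc xc14 yc35 zc58) (kc xc6 yc2 zc32) (kc xc14 yc36 zc2) (kc xc14 yc33 zc11) (kc xc14 yc36 zc6) (kc xc12 yc57 zc25) (kc xc14 yc13 zc58) (kc xc14 yc36 zc10) (kc xc14 yc36 zc12) (kc xc14 yc36 zc14) (kc xc3 yc51 zc33) (kc xc14 yc36 zc19) (kc xc6 yc38 zc28) (kc xc12 yc53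 zc25) (kc xc3 yc51 zc35) (kc xc14 yc36 zc27) (kc xc14 yc36 zc25) (kc xc7 yc32 zc56) (kc xc12 yc36 zc34) (kc xc14 yc36 zc39) (kc xc3 yc51 zc38) (kc xc14 yc36 zc44) (kc xc14 yc36 zc45) (kc xc3 yc51 zc37) (kc xc14 yc36 zc50) (kc xc14 yc36 zc8) (kc xc14 yc36 zc56) (kc xc14 yc36 zc42) (kc xc11 yc44 zc33) (kc xc4 yc34 zc34) (kc xc3 yc51 zc39) (kc xc14 yc36 zc59) (kc xc14 yc37 zc2) (kc xc3 yc51 zc42) (kc xc3 yc51 zc41)) (@D3.rec (fun _ => Pt) (kc xc14 yc37 zc7) (kc xc12 yc42 zc14) (kc xc14 yc37 zc11) (kc xc14 yc37 zc5) (kc xc14 yc37 zc14) (kc xc3 yc51 zc43) (kc xc14 yc37 zc22) (kc xc14 yc37 zc21) (kc xc10 yc32 zc27) (kc xc3 yc51 zc44) (kc xc14 yc37 zc29) (kc xc14 yc37 zc28) (kc xc14 yc13 zc59) (kc xc14 yc13 zc60) (kc xc14 yc33 zc40) (kc xc14 yc37 zc45) (kc xc3 yc51 zc46) (kc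 xc14 yc37 zc48) (kc xc14 yc37 zc50) (kc xc12 yc41 zc6) (kc xc3 yc51 zc48) (kc xc14 yc37 zc55) (kc xc14 yc34 zc51) (kc xc5 yc48 zc9) (kc xc3 yc51 zc49) (kc xc14 yc37 zc60) (kc xc14 yc37 zc59) (kc xc14 yc38 zc2) (kc xc14 yc38 zc5) (kc xc3 yc51 zc50) (kc xc3 yc51 zc51) (kc xc12 yc46 zc51) (kc xc12 yc25 zc27) (kc xc14 yc2 zc59) (kc xc6 yc11 zc23) (kc xc3 yc51 zc55) (kc xc6 yc40 zc35) (kc xc6 yc33 zc42) (kc xc3 yc51 zc54) (kc xc14 yc38 zc20) (kc xc14 yc38 zc22) (kc xc14 yc38 zc24) (kc xc14 yc38 zc26) (kc xc14 yc38 zc15) (kc xc7 yc52 zc47) (kc xc7 yc24 zc50) (kc xc14 yc38 zc27) (kc xc3 yc51 zc60) (kc xc14 yc38 zc31) (kc xc3 yc51 zc61) (kc xc14 yc38 zc37) (kc xc7 yc37 zc12) (kc xc7 yc37 zc13) (kc xc14 yc38 zc19) (kc xc3 yc52 zc1) (kc xc14 yc38 zc48) (kc xc14 yc38 zc50) (kc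 xc14 yc38 zc55) (kc xc14 yc38 zc47) (kc xc3 yc52 zc2) (kc xc14 yc38 zc58) (kc xc3 yc52 zc5)) (@D3.rec (fun _ => Pt) (kc xc13 yc37 zc31) (kc xc7 yc47 zc15) (kc xc14 yc39 zc3) (kc xc13 yc28 zc48) (kc xc13 yc28 zc49) (kc xc13 yc12 zc60) (kc xc3 yc52 zc9) (kc xc12 yc34 zc27) (kc xc12 yc47 zc52) (kc xc12 yc47 zc54) (kc xc7 yc37 zc8) (kc xc7 yc7 zc32) (kc xc12 yc47 zc53) (kc xc3 yc52 zc14) (kc xc14 yc39 zc20) (kc xc14 yc39 zc22) (kc xc14 yc39 zc26) (kc xc14 yc39 zc18) (kc xc5 yc21 zc38) (kc xc3 yc52 zc15) (kc xc13 yc24 zc18) (kc xc5 yc21 zc43) (kc xc8 yc38 zc6) (kc xc3 yc52 zc18) (kc xc14 yc39 zc38) (kc xc14 yc39 zc41) (kc xc14 yc39 zc45) (kc xc14 yc39 zc37) (kc xc14 yc39 zc49) (kc xc13 yc23 zc14) (kc xc14 yc39 zc55) (kc xc13 yc23 zc41) (kc xc14 yc40 zc0) (kc xc14 yc40 zc5)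 (kc xc14 yc34 zc40) (kc xc14 yc40 zc11) (kc xc14 yc34 zc42) (kc xc13 yc17 zc6) (kc xc3 yc52 zc24) (kc xc14 yc40 zc19) (kc xc14 yc40 zc22) (kc xc14 yc40 zc26) (kc xc3 yc52 zc25) (kc xc14 yc40 zc30) (kc xc14 yc3 zc7) (kc xc14 yc40 zc34) (kc xc14 yc40 zc36) (kc xc3 yc52 zc27) (kc xc14 yc37 zc51) (kc xc13 yc41 zc61) (kc xc14 yc40 zc44) (kc xc3 yc52 zc30) (kc xc14 yc40 zc47) (kc xc14 yc40 zc51) (kc xc3 yc52 zc31) (kc xc13 yc21 zc17) (kc xc8 yc55 zc3) (kc xc3 yc52 zc32) (kc xc14 yc40 zc59) (kc xc13 yc23 zc7) (kc xc13 yc17 zc14) (kc xc6 yc57 zc12)) (@D3.rec (fun _ => Pt) (kc xc7 yc17 zc21) (kc xc14 yc22 zc21) (kc xc3 yc52 zc48) (kc xc14 yc41 zc17) (kc xc3 yc52 zc50) (kc xc14 yc41 zc21) (kc xc13 yc12 zc45) (kc xc3 yc52 zc61) (kc xc14 yc41 zc26) (kc xc13 yc30 zc30) (kc xc13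 yc30 zc50) (kc xc13 yc14 zc23) (kc xc14 yc41 zc33) (kc xc3 yc52 zc46) (kc xc14 yc1 zc48) (kc xc7 yc46 zc1) (kc xc3 yc52 zc47) (kc xc14 yc41 zc40) (kc xc14 yc41 zc41) (kc xc14 yc41 zc14) (kc xc14 yc41 zc44) (kc xc14 yc41 zc47) (kc xc3 yc52 zc49) (kc xc14 yc41 zc54) (kc xc7 yc38 zc14) (kc xc13 yc29 zc53) (kc xc14 yc42 zc0) (kc xc14 yc42 zc2) (kc xc3 yc52 zc51) (kc xc14 yc42 zc5) (kc xc14 yc42 zc10) (kc xc3 yc52 zc52) (kc xc12 yc36 zc6) (kc xc14 yc42 zc14) (kc xc14 yc41 zc52) (kc xc3 yc52 zc54) (kc xc14 yc42 zc24) (kc xc8 yc33 zc58) (kc xc14 yc42 zc32) (kc xc14 yc42 zc22) (kc xc7 yc54 zc32) (kc xc13 yc21 zc56) (kc xc3 yc52 zc56) (kc xc7 yc47 zc43) (kc xc14 yc38 zc36) (kc xc14 yc38 zc30) (kc xc7 yc48 zc59) (kc xc13 yc21 zc25) (kc xc7 yc54 zc28) (kc xc13 yc21 zc24) (kc xc14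 yc23 zc27) (kc xc14 yc23 zc11) (kc xc14 yc41 zc24) (kc xc9 yc22 zc23) (kc xc7 yc10 zc39) (kc xc13 yc22 zc5) (kc xc7 yc9 zc24) (kc xc14 yc20 zc33) (kc xc3 yc53 zc14) (kc xc14 yc42 zc60) (kc xc3 yc53 zc16) (kc xc13 yc14 zc13)) (@D3.rec (fun _ => Pt) (kc xc13 yc14 zc12) (kc xc3 yc53 zc5) (kc xc14 yc43 zc7) (kc xc13 yc4 zc16) (kc xc3 yc53 zc22) (kc xc14 yc43 zc13) (kc xc14 yc43 zc15) (kc xc14 yc42 zc57) (kc xc14 yc43 zc18) (kc xc14 yc43 zc21) (kc xc3 yc53 zc15) (kc xc10 yc53 zc39) (kc xc13 yc24 zc2) (kc xc14 yc43 zc32) (kc xc13 yc49 zc23) (kc xc14 yc43 zc25) (kc xc3 yc53 zc18) (kc xc14 yc43 zc40) (kc xc14 yc43 zc44) (kc xc14 yc43 zc48) (kc xc14 yc43 zc39) (kc xc3 yc53 zc20) (kc xc14 yc1 zc14) (kc xc14 yc43 zc53) (kc xc7 yc48 zc41) (kc xc14 yc43 zc12) (kc xc11 yc0 zc21)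 (kc xc13 yc22 zc6) (kc xc14 yc43 zc60) (kc xc13 yc37 zc5) (kc xc14 yc44 zc2) (kc xc14 yc44 zc5) (kc xc3 yc53 zc27) (kc xc14 yc44 zc7) (kc xc13 yc41 zc18) (kc xc14 yc44 zc14) (kc xc3 yc53 zc30) (kc xc14 yc44 zc17) (kc xc3 yc53 zc31) (kc xc14 yc44 zc21) (kc xc14 yc41 zc4) (kc xc7 yc48 zc24) (kc xc14 yc40 zc58) (kc xc3 yc53 zc34) (kc xc14 yc44 zc29) (kc xc3 yc53 zc35) (kc xc12 yc52 zc13) (kc xc14 yc44 zc33) (kc xc3 yc53 zc37) (kc xc6 yc38 zc8) (kc xc12 yc19 zc4) (kc xc3 yc53 zc39) (kc xc8 yc21 zc25) (kc xc8 yc21 zc24) (kc xc14 yc44 zc44) (kc xc14 yc44 zc46) (kc xc7 yc10 zc35) (kc xc13 yc27 zc21) (kc xc14 yc44 zc49) (kc xc7 yc47 zc46) (kc xc12 yc48 zc25) (kc xc14 yc44 zc56)) (@D3.rec (fun _ => Pt) (kc xc14 yc44 zc57) (kc xc14 yc44 zc59) (kc xc14 yc3 zc36) (kc xc14 yc45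 zc0) (kc xc12 yc48 zc19) (kc xc14 yc45 zc6) (kc xc14 yc45 zc7) (kc xc13 yc26 zc17) (kc xc14 yc45 zc11) (kc xc7 yc54 zc30) (kc xc12 yc0 zc59) (kc xc14 yc45 zc15) (kc xc7 yc24 zc27) (kc xc14 yc45 zc18) (kc xc3 yc53 zc51) (kc xc14 yc45 zc21) (kc xc14 yc45 zc20) (kc xc3 yc53 zc53) (kc xc14 yc45 zc32) (kc xc14 yc45 zc35) (kc xc14 yc45 zc30) (kc xc3 yc53 zc54) (kc xc14 yc45 zc38) (kc xc14 yc45 zc40) (kc xc14 yc45 zc42) (kc xc14 yc45 zc47) (kc xc7 yc49 zc26) (kc xc11 yc16 zc53) (kc xc5 yc43 zc17) (kc xc14 yc45 zc51) (kc xc9 yc1 zc35) (kc xc14 yc45 zc53) (kc xc13 yc7 zc51) (kc xc14 yc32 zc34) (kc xc3 yc53 zc58) (kc xc13 yc45 zc59) (kc xc6 yc54 zc57) (kc xc14 yc45 zc61) (kc xc14 yc46 zc1) (kc xc3 yc54 zc1) (kc xc3 yc54 zc0) (kc xc3 yc54 zc2) (kc xc14 yc46 zc5) (kc xc7 yc35 zc54)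 (kc xc6 yc55 zc22) (kc xc14 yc46 zc11) (kc xc13 yc7 zc18) (kc xc4 yc10 zc43) (kc xc6 yc57 zc46) (kc xc12 yc25 zc61) (kc xc3 yc54 zc6) (kc xc14 yc46 zc18) (kc xc6 yc15 zc1) (kc xc6 yc14 zc59) (kc xc7 yc13 zc32) (kc xc7 yc14 zc20) (kc xc7 yc14 zc21) (kc xc14 yc46 zc26) (kc xc13 yc25 zc3) (kc xc3 yc54 zc12) (kc xc14 yc20 zc11) (kc xc14 yc20 zc12)) (@D3.rec (fun _ => Pt) (kc xc7 yc51 zc58) (kc xc13 yc52 zc40) (kc xc14 yc46 zc37) (kc xc3 yc54 zc18) (kc xc14 yc46 zc41) (kc xc3 yc54 zc15) (kc xc14 yc46 zc46) (kc xc11 yc17 zc33) (kc xc12 yc22 zc59) (kc xc14 yc46 zc50) (kc xc14 yc46 zc53) (kc xc14 yc46 zc55) (kc xc3 yc54 zc17) (kc xc14 yc46 zc60) (kc xc14 yc47 zc0) (kc xc6 yc55 zc26) (kc xc14 yc47 zc5) (kc xc13 yc4 zc45) (kc xc14 yc47 zc9) (kc xc3 yc54 zc20) (kc xc14 yc47 zc13)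 (kc xc7 yc14 zc46) (kc xc12 yc8 zc38) (kc xc14 yc47 zc22) (kc xc13 yc23 zc16) (kc xc3 yc54 zc23) (kc xc14 yc47 zc28) (kc xc14 yc34 zc18) (kc xc14 yc47 zc34) (kc xc3 yc54 zc25) (kc xc14 yc47 zc38) (kc xc14 yc47 zc43) (kc xc3 yc54 zc26) (kc xc14 yc47 zc46) (kc xc13 yc26 zc1) (kc xc6 yc55 zc50) (kc xc7 yc52 zc30) (kc xc6 yc55 zc43) (kc xc3 yc54 zc28) (kc xc14 yc47 zc57) (kc xc7 yc11 zc2) (kc xc9 yc14 zc8) (kc xc13 yc40 zc2) (kc xc11 yc28 zc0) (kc xc4 yc20 zc48) (kc xc13 yc14 zc48) (kc xc9 yc14 zc21) (kc xc11 yc51 zc11) (kc xc3 yc54 zc32) (kc xc14 yc48 zc11) (kc xc7 yc9 zc13) (kc xc13 yc55 zc5) (kc xc3 yc54 zc34) (kc xc7 yc9 zc11) (kc xc7 yc9 zc12) (kc xc13 yc22 zc23) (kc xc13 yc45 zc57) (kc xc3 yc54 zc39) (kc xc14 yc48 zc22) (kc xc3 yc54 zc37) (kc xc7 yc9 zc51) (kc xc14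 yc26 zc1)) (@D3.rec (fun _ => Pt) (kc xc14 yc48 zc31) (kc xc14 yc3 zc23) (kc xc3 yc54 zc40) (kc xc14 yc48 zc37) (kc xc6 yc58 zc56) (kc xc14 yc34 zc33) (kc xc3 yc54 zc44) (kc xc14 yc48 zc24) (kc xc13 yc45 zc58) (kc xc3 yc54 zc43) (kc xc3 yc54 zc45) (kc xc14 yc48 zc45) (kc xc14 yc48 zc49) (kc xc3 yc54 zc47) (kc xc14 yc48 zc51) (kc xc5 yc48 zc10) (kc xc14 yc48 zc58) (kc xc14 yc48 zc60) (kc xc14 yc49 zc3) (kc xc7 yc51 zc19) (kc xc14 yc49 zc6) (kc xc14 yc49 zc9) (kc xc14 yc49 zc13) (kc xc6 yc42 zc17) (kc xc7 yc35 zc16) (kc xc11 yc42 zc52) (kc xc14 yc49 zc17) (kc xc3 yc54 zc52) (kc xc14 yc49 zc21) (kc xc14 yc49 zc23) (kc xc14 yc49 zc25) (kc xc13 yc8 zc45) (kc xc7 yc51 zc32) (kc xc3 yc54 zc57) (kc xc14 yc19 zc21) (kc xc7 yc20 zc61) (kc xc14 yc10 zc13) (kc xc7 yc37 zc56) (kc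 xc14 yc20 zc26) (kc xc14 yc19 zc58) (kc xc14 yc49 zc39) (kc xc13 yc25 zc46) (kc xc3 yc55 zc0) (kc xc7 yc21 zc0) (kc xc5 yc49 zc40) (kc xc7 yc8 zc2) (kc xc7 yc7 zc1) (kc xc7 yc8 zc4) (kc xc7 yc8 zc5) (kc xc14 yc49 zc51) (kc xc7 yc7 zc5) (kc xc12 yc52 zc49) (kc xc12 yc52 zc50) (kc xc3 yc55 zc5) (kc xc14 yc49 zc57) (kc xc12 yc10 zc40) (kc xc14 yc50 zc0) (kc xc4 yc34 zc13) (kc xc7 yc50 zc0) (kc xc13 yc55 zc39) (kc xc13 yc55 zc40) (kc xc14 yc50 zc14)) (@D3.rec (fun _ => Pt) (kc xc3 yc55 zc12) (kc xc12 yc26 zc19) (kc xc3 yc55 zc9) (kc xc14 yc50 zc24) (kc xc9 yc17 zc14) (kc xc14 yc50 zc29) (kc xc3 yc55 zc10) (kc xc14 yc50 zc34) (kc xc14 yc50 zc33) (kc xc14 yc50 zc40) (kc xc14 yc50 zc42) (kc xc3 yc55 zc11) (kc xc14 yc50 zc47) (kc xc14 yc50 zc49) (kc xc7 yc40 zc3) (kc xc13 yc36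 zc61) (kc xc3 yc55 zc14) (kc xc14 yc50 zc54) (kc xc7 yc8 zc44) (kc xc13 yc40 zc3) (kc xc8 yc27 zc48) (kc xc13 yc14 zc20) (kc xc3 yc55 zc16) (kc xc14 yc51 zc3) (kc xc9 yc9 zc14) (kc xc3 yc55 zc18) (kc xc14 yc51 zc9) (kc xc3 yc55 zc19) (kc xc13 yc36 zc32) (kc xc13 yc36 zc34) (kc xc7 yc50 zc36) (kc xc6 yc56 zc10) (kc xc3 yc55 zc21) (kc xc14 yc51 zc23) (kc xc6 yc55 zc28) (kc xc14 yc51 zc28) (kc xc12 yc8 zc40) (kc xc12 yc8 zc23) (kc xc14 yc51 zc34) (kc xc14 yc51 zc36) (kc xc14 yc51 zc39) (kc xc3 yc55 zc24) (kc xc14 yc51 zc42) (kc xc14 yc51 zc48) (kc xc13 yc9 zc19) (kc xc3 yc55 zc26) (kc xc14 yc51 zc53) (kc xc7 yc45 zc44) (kc xc13 yc25 zc44) (kc xc6 yc55 zc21) (kc xc7 yc2 zc44) (kc xc13 yc36 zc26) (kc xc13 yc9 zc39) (kc xc11 yc51 zc9) (kc xc13 yc36 zc27) (kc xc3 yc55 zc32)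 (kc xc7 yc40 zc32) (kc xc13 yc40 zc7) (kc xc7 yc3 zc19) (kc xc3 yc55 zc35) (kc xc14 yc52 zc14) (kc xc14 yc27 zc21)) (@D3.rec (fun _ => Pt) (kc xc14 yc27 zc20) (kc xc3 yc55 zc37) (kc xc14 yc52 zc24) (kc xc7 yc5 zc10) (kc xc11 yc43 zc38) (kc xc14 yc52 zc30) (kc xc3 yc55 zc42) (kc xc13 yc1 zc6) (kc xc13 yc1 zc7) (kc xc14 yc52 zc36) (kc xc12 yc17 zc5) (kc xc7 yc41 zc4) (kc xc14 yc52 zc39) (kc xc6 yc3 zc43) (kc xc11 yc50 zc44) (kc xc9 yc14 zc14) (kc xc3 yc55 zc45) (kc xc4 yc5 zc36) (kc xc14 yc52 zc46) (kc xc13 yc1 zc21) (kc xc6 yc8 zc46) (kc xc14 yc52 zc51) (kc xc6 yc5 zc40) (kc xc14 yc52 zc53) (kc xc13 yc10 zc23) (kc xc13 yc10 zc24) (kc xc3 yc55 zc51) (kc xc14 yc5 zc53) (kc xc7 yc53 zc28) (kc xc7 yc25 zc57) (kc xc14 yc52 zc61) (kc xc14 yc10 zc31) (kc xc14 yc53 zc2) (kc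 xc13 yc35 zc28) (kc xc14 yc53 zc6) (kc xc14 yc53 zc8) (kc xc3 yc55 zc57) (kc xc14 yc53 zc11) (kc xc12 yc52 zc51) (kc xc14 yc53 zc15) (kc xc3 yc55 zc60) (kc xc14 yc53 zc17) (kc xc13 yc32 zc10) (kc xc14 yc34 zc36) (kc xc13 yc13 zc26) (kc xc14 yc34 zc27) (kc xc3 yc56 zc2) (kc xc14 yc53 zc26) (kc xc14 yc53 zc31) (kc xc14 yc53 zc34) (kc xc3 yc56 zc4) (kc xc14 yc53 zc39) (kc xc14 yc53 zc44) (kc xc3 yc56 zc5) (kc xc14 yc53 zc48) (kc xc14 yc53 zc51) (kc xc7 yc7 zc3) (kc xc7 yc7 zc2) (kc xc13 yc14 zc33) (kc xc14 yc53 zc60) (kc xc3 yc56 zc8) (kc xc14 yc54 zc1)) (@D3.rec (fun _ => Pt) (kc xc14 yc54 zc5) (kc xc14 yc54 zc8) (kc xc7 yc54 zc2) (kc xc7 yc54 zc3) (kc xc14 yc54 zc10) (kc xc7 yc36 zc24) (kc xc14 yc21 zc48) (kc xc14 yc54 zc17) (kc xc3 yc56 zc15) (kc xc14 yc54 zc20) (kc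 xc14 yc54 zc25) (kc xc14 yc54 zc28) (kc xc3 yc56 zc16) (kc xc14 yc54 zc32) (kc xc14 yc54 zc37) (kc xc3 yc56 zc17) (kc xc14 yc54 zc40) (kc xc14 yc54 zc45) (kc xc3 yc56 zc18) (kc xc12 yc40 zc27) (kc xc13 yc13 zc5) (kc xc13 yc13 zc4) (kc xc14 yc54 zc31) (kc xc7 yc29 zc0) (kc xc7 yc30 zc10) (kc xc13 yc25 zc11) (kc xc3 yc56 zc23) (kc xc3 yc56 zc32) (kc xc7 yc47 zc48) (kc xc13 yc14 zc15) (kc xc7 yc49 zc9) (kc xc13 yc25 zc43) (kc xc7 yc47 zc40) (kc xc3 yc56 zc25) (kc xc3 yc56 zc26) (kc xc14 yc55 zc11) (kc xc6 yc54 zc30) (kc xc7 yc14 zc50) (kc xc13 yc25 zc0) (kc xc13 yc12 zc52) (kc xc13 yc25 zc1) (kc xc13 yc34 zc60) (kc xc13 yc12 zc28) (kc xc14 yc55 zc25) (kc xc3 yc56 zc30) (kc xc14 yc55 zc27) (kc xc14 yc55 zc32) (kc xc14 yc55 zc34) (kc xc7 yc54 zc48) (kc xc7 yc55 zc9) (kc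 xc13 yc41 zc51) (kc xc13 yc41 zc31) (kc xc13 yc13 zc58) (kc xc14 yc55 zc45) (kc xc3 yc56 zc35) (kc xc14 yc55 zc48) (kc xc14 yc55 zc53) (kc xc3 yc56 zc36) (kc xc14 yc55 zc56) (kc xc14 yc55 zc61) (kc xc3 yc56 zc37) (kc xc14 yc56 zc2)) (@D3.rec (fun _ => Pt) (kc xc14 yc56 zc7) (kc xc3 yc56 zc38) (kc xc14 yc56 zc10) (kc xc14 yc55 zc54) (kc xc7 yc22 zc59) (kc xc3 yc56 zc40) (kc xc14 yc56 zc21) (kc xc14 yc56 zc25) (kc xc14 yc56 zc30) (kc xc7 yc54 zc49) (kc xc7 yc26 zc22) (kc xc7 yc9 zc19) (kc xc3 yc56 zc43) (kc xc14 yc56 zc37) (kc xc4 yc50 zc19) (kc xc6 yc52 zc50) (kc xc3 yc56 zc46) (kc xc14 yc56 zc46) (kc xc14 yc56 zc45) (kc xc6 yc59 zc12) (kc xc3 yc56 zc48) (kc xc14 yc56 zc50) (kc xc14 yc56 zc54) (kc xc14 yc15 zc2) (kc xc13 yc46 zc54) (kc xc4 yc51 zc51) (kc xc4 yc51 zc54)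 (kc xc6 yc4 zc21) (kc xc9 yc34 zc32) (kc xc9 yc35 zc7) (kc xc3 yc56 zc56) (kc xc14 yc57 zc5) (kc xc9 yc35 zc0) (kc xc14 yc57 zc3) (kc xc3 yc56 zc60) (kc xc14 yc57 zc14) (kc xc14 yc57 zc15) (kc xc14 yc57 zc12) (kc xc8 yc29 zc41) (kc xc3 yc57 zc1) (kc xc9 yc44 zc55) (kc xc9 yc34 zc26) (kc xc14 yc57 zc22) (kc xc3 yc57 zc2) (kc xc14 yc57 zc24) (kc xc14 yc57 zc26) (kc xc14 yc57 zc28) (kc xc9 yc38 zc7) (kc xc14 yc57 zc30) (kc xc14 yc57 zc33) (kc xc9 yc38 zc15) (kc xc11 yc51 zc60) (kc xc4 yc0 zc15) (kc xc4 yc9 zc44) (kc xc3 yc57 zc21) (kc xc4 yc0 zc17) (kc xc14 yc57 zc51) (kc xc14 yc57 zc55) (kc xc10 yc32 zc49) (kc xc8 yc28 zc4) (kc xc8 yc33 zc35) (kc xc4 yc23 zc43)) (@D3.rec (fun _ => Pt) (kc xc3 yc57 zc10) (kc xc9 yc38 zc33) (kc xc9 yc38 zc34) (kc xc8 yc32 zc50) (kc xc4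 yc15 zc20) (kc xc4 yc16 zc51) (kc xc10 yc38 zc35) (kc xc5 yc19 zc10) (kc xc10 yc38 zc33) (kc xc3 yc57 zc15) (kc xc8 yc40 zc44) (kc xc14 yc58 zc19) (kc xc12 yc8 zc42) (kc xc4 yc24 zc16) (kc xc8 yc1 zc1) (kc xc14 yc58 zc22) (kc xc9 yc44 zc54) (kc xc14 yc58 zc28) (kc xc14 yc58 zc29) (kc xc14 yc57 zc45) (kc xc14 yc58 zc33) (kc xc9 yc38 zc13) (kc xc9 yc38 zc5) (kc xc14 yc58 zc41) (kc xc14 yc58 zc42) (kc xc14 yc58 zc44) (kc xc14 yc58 zc47) (kc xc3 yc57 zc30) (kc xc14 yc58 zc53) (kc xc14 yc58 zc54) (kc xc14 yc58 zc60) (kc xc9 yc38 zc29) (kc xc14 yc59 zc3) (kc xc9 yc38 zc27) (kc xc14 yc58 zc51) (kc xc3 yc57 zc35) (kc xc14 yc59 zc17) (kc xc14 yc59 zc21) (kc xc14 yc59 zc15) (kc xc4 yc22 zc13) (kc xc4 yc22 zc46) (kc xc6 yc24 zc25) (kc xc4 yc46 zc52) (kc xc14 yc59 zc27) (kc xc3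 yc57 zc39) (kc xc4 yc24 zc24) (kc xc4 yc24 zc25) (kc xc4 yc42 zc42) (kc xc3 yc57 zc41) (kc xc4 yc24 zc50) (kc xc11 yc41 zc14) (kc xc3 yc57 zc44) (kc xc14 yc59 zc37) (kc xc4 yc24 zc54) (kc xc4 yc24 zc55) (kc xc6 yc9 zc14) (kc xc3 yc57 zc46) (kc xc8 yc48 zc12) (kc xc4 yc25 zc43) (kc xc11 yc43 zc47) (kc xc14 yc59 zc44) (kc xc11 yc37 zc44)) (@D3.rec (fun _ => Pt) (kc xc6 yc9 zc11) (kc xc6 yc9 zc12) (kc xc14 yc59 zc53) (kc xc4 yc58 zc3) (kc xc3 yc57 zc50) (kc xc14 yc2 zc16) (kc xc14 yc59 zc58) (kc xc4 yc0 zc7) (kc xc14 yc59 zc59) (kc xc8 yc46 zc55) (kc xc3 yc57 zc55) (kc xc6 yc15 zc31) (kc xc7 yc14 zc54) (kc xc3 yc57 zc57) (kc xc15 yc0 zc0) (kc xc12 yc31 zc40) (kc xc9 yc25 zc27) (kc xc3 yc57 zc59) (kc xc15 yc0 zc5) (kc xc5 yc47 zc15) (kc xc6 yc50 zc26) (kc xc3 yc57 zc61)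 (kc xc14 yc50 zc6) (kc xc15 yc0 zc17) (kc xc15 yc0 zc12) (kc xc12 yc45 zc34) (kc xc15 yc0 zc26) (kc xc12 yc5 zc56) (kc xc15 yc0 zc30) (kc xc15 yc0 zc33) (kc xc12 yc5 zc59) (kc xc4 yc27 zc9) (kc xc4 yc21 zc9) (kc xc9 yc40 zc4) (kc xc10 yc33 zc28) (kc xc8 yc15 zc8) (kc xc15 yc0 zc52) (kc xc3 yc58 zc6) (kc xc15 yc0 zc56) (kc xc3 yc58 zc7) (kc xc15 yc0 zc59) (kc xc3 yc58 zc8) (kc xc15 yc1 zc0) (kc xc3 yc58 zc9) (kc xc15 yc1 zc4) (kc xc4 yc54 zc39) (kc xc8 yc33 zc36) (kc xc3 yc58 zc11) (kc xc15 yc1 zc13) (kc xc3 yc58 zc12) (kc xc15 yc1 zc15) (kc xc3 yc58 zc14) (kc xc15 yc1 zc18) (kc xc4 yc27 zc44) (kc xc3 yc58 zc16) (kc xc15 yc1 zc23) (kc xc4 yc3 zc39) (kc xc4 yc3 zc38) (kc xc15 yc1 zc14) (kc xc9 yc34 zc47) (kc xc3 yc58 zc18) (kc xc15 yc1 zc44)) (@D3.rec (fun _ => Pt) (kc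 xc15 yc1 zc46) (kc xc15 yc1 zc43) (kc xc3 yc58 zc19) (kc xc3 yc58 zc20) (kc xc15 yc1 zc50) (kc xc15 yc1 zc49) (kc xc10 yc32 zc51) (kc xc3 yc58 zc23) (kc xc15 yc2 zc0) (kc xc15 yc1 zc61) (kc xc5 yc20 zc57) (kc xc4 yc3 zc35) (kc xc5 yc20 zc55) (kc xc9 yc35 zc26) (kc xc3 yc58 zc26) (kc xc15 yc2 zc14) (kc xc15 yc2 zc16) (kc xc15 yc2 zc13) (kc xc10 yc23 zc28) (kc xc10 yc23 zc26) (kc xc10 yc32 zc45) (kc xc3 yc58 zc29) (kc xc15 yc2 zc29) (kc xc15 yc2 zc31) (kc xc15 yc2 zc32) (kc xc15 yc2 zc28) (kc xc8 yc2 zc54) (kc xc8 yc34 zc52) (kc xc8 yc2 zc53) (kc xc8 yc52 zc58) (kc xc4 yc11 zc6) (kc xc8 yc8 zc33) (kc xc5 yc33 zc51) (kc xc5 yc33 zc55) (kc xc3 yc58 zc46) (kc xc15 yc2 zc58) (kc xc8 yc33 zc39) (kc xc4 yc10 zc18) (kc xc3 yc58 zc33) (kc xc15 yc3 zc2) (kc xc5 yc21 zc14) (kc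 xc3 yc58 zc35) (kc xc15 yc3 zc11) (kc xc15 yc3 zc13) (kc xc9 yc43 zc41) (kc xc3 yc58 zc37) (kc xc15 yc3 zc20) (kc xc15 yc3 zc23) (kc xc15 yc3 zc18) (kc xc10 yc38 zc49) (kc xc9 yc43 zc8) (kc xc8 yc57 zc33) (kc xc6 yc47 zc30) (kc xc15 yc3 zc26) (kc xc8 yc55 zc6) (kc xc3 yc58 zc44) (kc xc15 yc3 zc32) (kc xc15 yc3 zc31) (kc xc10 yc57 zc35) (kc xc3 yc58 zc45) (kc xc15 yc3 zc40) (kc xc15 yc3 zc39)) (@D3.rec (fun _ => Pt) (kc xc13 yc58 zc28) (kc xc15 yc3 zc42) (kc xc3 yc58 zc47) (kc xc15 yc3 zc45) (kc xc4 yc57 zc57) (kc xc15 yc3 zc46) (kc xc15 yc3 zc47) (kc xc3 yc58 zc54) (kc xc15 yc3 zc49) (kc xc4 yc23 zc21) (kc xc3 yc58 zc57) (kc xc5 yc41 zc20) (kc xc4 yc32 zc24) (kc xc4 yc32 zc49) (kc xc3 yc58 zc61) (kc xc15 yc3 zc54) (kc xc3 yc59 zc0) (kc xc3 yc58 zc60) (kc xc15 yc3 zc57)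 (kc xc15 yc3 zc60) (kc xc4 yc23 zc23) (kc xc3 yc59 zc1) (kc xc11 yc23 zc48) (kc xc13 yc27 zc51) (kc xc13 yc27 zc55) (kc xc15 yc4 zc1) (kc xc3 yc59 zc4) (kc xc3 yc59 zc3) (kc xc11 yc34 zc58) (kc xc9 yc3 zc39) (kc xc15 yc4 zc7) (kc xc3 yc59 zc5) (kc xc15 yc4 zc9) (kc xc5 yc44 zc2) (kc xc3 yc59 zc6) (kc xc6 yc9 zc1) (kc xc15 yc4 zc16) (kc xc3 yc59 zc7) (kc xc9 yc3 zc28) (kc xc15 yc4 zc19) (kc xc3 yc59 zc9) (kc xc3 yc59 zc10) (kc xc15 yc4 zc26) (kc xc15 yc4 zc28) (kc xc15 yc4 zc23) (kc xc15 yc4 zc24) (kc xc5 yc38 zc33) (kc xc15 yc4 zc34) (kc xc5 yc45 zc45) (kc xc9 yc58 zc0) (kc xc4 yc56 zc26) (kc xc4 yc30 zc39) (kc xc4 yc30 zc40) (kc xc12 yc49 zc27) (kc xc4 yc35 zc53) (kc xc12 yc49 zc24) (kc xc4 yc58 zc17) (kc xc3 yc59 zc22) (kc xc11 yc20 zc47) (kc xc4 yc5 zc39) (kc xc4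 yc5 zc38) (kc xc15 yc4 zc44))
def f_c_8 : D2 → D3 → Pt := @D2.rec (fun _ => D3 → Pt) (@D3.rec (fun _ => Pt) (kc xc4 yc36 zc46) (kc xc6 yc8 zc36) (kc xc6 yc7 zc39) (kc xc3 yc59 zc25) (kc xc4 yc25 zc60) (kc xc3 yc59 zc31) (kc xc3 yc59 zc30) (kc xc12 yc23 zc17) (kc xc15 yc4 zc49) (kc xc4 yc26 zc26) (kc xc15 yc4 zc46) (kc xc4 yc32 zc27) (kc xc15 yc4 zc53) (kc xc3 yc59 zc38) (kc xc12 yc23 zc16) (kc xc11 yc28 zc42) (kc xc3 yc59 zc35) (kc xc15 yc4 zc57) (kc xc11 yc50 zc52) (kc xc3 yc59 zc37) (kc xc4 yc59 zc16) (kc xc3 yc59 zc40) (kc xc15 yc5 zc3) (kc xc15 yc5 zc4) (kc xc15 yc5 zc1) (kc xc4 yc46 zc39) (kc xc4 yc35 zc52) (kc xc4 yc36 zc41) (kc xc3 yc59 zc43) (kc xc15 yc5 zc10) (kc xc5 yc55 zc35) (kc xc3 yc59 zc44) (kc xc15 yc5 zc12) (kc xc14 yc35 zc45) (kc xc11 yc28 zc29) (kc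 xc3 yc59 zc46) (kc xc15 yc5 zc15) (kc xc6 yc31 zc9) (kc xc9 yc11 zc9) (kc xc3 yc59 zc48) (kc xc9 yc12 zc13) (kc xc9 yc11 zc5) (kc xc15 yc5 zc21) (kc xc3 yc59 zc52) (kc xc5 yc59 zc24) (kc xc3 yc59 zc50) (kc xc15 yc5 zc29) (kc xc15 yc5 zc26) (kc xc12 yc37 zc42) (kc xc3 yc59 zc51) (kc xc15 yc5 zc32) (kc xc11 yc47 zc10) (kc xc15 yc5 zc33) (kc xc3 yc59 zc53) (kc xc8 yc49 zc37) (kc xc15 yc5 zc37) (kc xc5 yc49 zc32) (kc xc6 yc5 zc57) (kc xc10 yc12 zc9) (kc xc3 yc59 zc57) (kc xc8 yc0 zc60) (kc xc11 yc23 zc26)) (@D3.rec (fun _ => Pt) (kc xc6 yc13 zc44) (kc xc7 yc56 zc14) (kc xc15 yc5 zc44) (kc xc12 yc7 zc13) (kc xc15 yc5 zc45) (kc xc4 yc0 zc1) (kc xc15 yc5 zc47) (kc xc15 yc5 zc48) (kc xc15 yc5 zc46) (kc xc4 yc0 zc4) (kc xc8 yc45 zc7) (kc xc8 yc45 zc8) (kc xc15 yc5 zc58) (kc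 xc8 yc1 zc39) (kc xc7 yc29 zc10) (kc xc15 yc6 zc8) (kc xc13 yc58 zc21) (kc xc4 yc0 zc10) (kc xc14 yc40 zc10) (kc xc14 yc40 zc9) (kc xc15 yc6 zc15) (kc xc15 yc6 zc22) (kc xc15 yc6 zc27) (kc xc8 yc50 zc53) (kc xc15 yc6 zc31) (kc xc15 yc6 zc34) (kc xc8 yc50 zc56) (kc xc6 yc4 zc20) (kc xc11 yc52 zc0) (kc xc8 yc41 zc15) (kc xc14 yc57 zc39) (kc xc4 yc9 zc46) (kc xc8 yc41 zc36) (kc xc14 yc57 zc47) (kc xc15 yc6 zc49) (kc xc15 yc6 zc54) (kc xc9 yc34 zc0) (kc xc15 yc6 zc60) (kc xc9 yc34 zc2) (kc xc8 yc1 zc13) (kc xc4 yc0 zc21) (kc xc8 yc2 zc6) (kc xc12 yc6 zc12) (kc xc4 yc22 zc48) (kc xc8 yc1 zc44) (kc xc4 yc23 zc18) (kc xc4 yc0 zc25) (kc xc15 yc7 zc8) (kc xc4 yc57 zc16) (kc xc4 yc0 zc26) (kc xc15 yc7 zc12) (kc xc7 yc12 zc56) (kc xc15 yc7 zc16) (kc xc15 yc7 zc19) (kc xc15 yc7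 zc21) (kc xc4 yc0 zc28) (kc xc15 yc7 zc27) (kc xc15 yc7 zc28) (kc xc8 yc1 zc58) (kc xc15 yc7 zc25) (kc xc4 yc0 zc31) (kc xc14 yc59 zc12)) (@D3.rec (fun _ => Pt) (kc xc14 yc59 zc13) (kc xc15 yc7 zc39) (kc xc4 yc53 zc15) (kc xc12 yc6 zc6) (kc xc10 yc1 zc23) (kc xc11 yc23 zc0) (kc xc8 yc1 zc41) (kc xc13 yc20 zc52) (kc xc7 yc23 zc5) (kc xc5 yc49 zc47) (kc xc4 yc25 zc45) (kc xc4 yc25 zc16) (kc xc5 yc43 zc55) (kc xc4 yc0 zc43) (kc xc6 yc17 zc11) (kc xc8 yc2 zc15) (kc xc15 yc7 zc58) (kc xc13 yc46 zc27) (kc xc4 yc0 zc47) (kc xc8 yc56 zc17) (kc xc15 yc8 zc1) (kc xc15 yc7 zc61) (kc xc9 yc5 zc44) (kc xc4 yc48 zc57) (kc xc6 yc3 zc6) (kc xc11 yc33 zc55) (kc xc11 yc27 zc44) (kc xc11 yc27 zc58) (kc xc15 yc8 zc15) (kc xc6 yc0 zc0) (kc xc5 yc59 zc41) (kc xc15 yc8 zc23) (kc xc15 yc8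 zc26) (kc xc4 yc0 zc57) (kc xc15 yc8 zc30) (kc xc15 yc8 zc35) (kc xc8 yc51 zc29) (kc xc15 yc8 zc41) (kc xc15 yc8 zc44) (kc xc8 yc51 zc32) (kc xc12 yc5 zc16) (kc xc12 yc5 zc17) (kc xc4 yc0 zc58) (kc xc9 yc40 zc53) (kc xc4 yc1 zc9) (kc xc10 yc31 zc3) (kc xc4 yc0 zc61) (kc xc15 yc9 zc0) (kc xc9 yc33 zc30) (kc xc8 yc39 zc45) (kc xc9 yc33 zc42) (kc xc4 yc1 zc3) (kc xc8 yc9 zc24) (kc xc7 yc58 zc28) (kc xc7 yc58 zc26) (kc xc4 yc1 zc6) (kc xc8 yc27 zc61) (kc xc8 yc28 zc0) (kc xc10 yc7 zc40) (kc xc15 yc9 zc15) (kc xc4 yc28 zc15) (kc xc4 yc1 zc8)) (@D3.rec (fun _ => Pt) (kc xc8 yc28 zc10) (kc xc8 yc28 zc11) (kc xc15 yc9 zc28) (kc xc15 yc9 zc31) (kc xc15 yc9 zc34) (kc xc15 yc8 zc58) (kc xc8 yc28 zc32) (kc xc8 yc28 zc33) (kc xc4 yc1 zc11) (kc xc10 yc28 zc3) (kc xc4 yc1 zc13) (kc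 xc15 yc9 zc49) (kc xc15 yc9 zc50) (kc xc15 yc9 zc47) (kc xc10 yc7 zc34) (kc xc10 yc7 zc28) (kc xc10 yc8 zc26) (kc xc10 yc9 zc22) (kc xc10 yc23 zc42) (kc xc4 yc1 zc20) (kc xc15 yc10 zc0) (kc xc9 yc52 zc44) (kc xc15 yc9 zc61) (kc xc15 yc10 zc2) (kc xc10 yc9 zc20) (kc xc10 yc16 zc11) (kc xc8 yc4 zc55) (kc xc15 yc10 zc7) (kc xc10 yc7 zc39) (kc xc10 yc9 zc0) (kc xc8 yc10 zc38) (kc xc4 yc5 zc45) (kc xc8 yc10 zc40) (kc xc15 yc10 zc16) (kc xc15 yc10 zc17) (kc xc9 yc55 zc23) (kc xc10 yc8 zc54) (kc xc10 yc8 zc44) (kc xc8 yc43 zc25) (kc xc7 yc8 zc24) (kc xc15 yc10 zc25) (kc xc7 yc6 zc30) (kc xc10 yc8 zc27) (kc xc11 yc32 zc39) (kc xc4 yc1 zc33) (kc xc15 yc10 zc33) (kc xc15 yc10 zc37) (kc xc10 yc8 zc1) (kc xc15 yc10 zc42) (kc xc10 yc7 zc46) (kc xc15 yc10 zc32) (kc xc4 yc1 zc37)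 (kc xc15 yc10 zc55) (kc xc15 yc10 zc57) (kc xc15 yc10 zc53) (kc xc8 yc4 zc34) (kc xc5 yc12 zc1) (kc xc4 yc1 zc39) (kc xc15 yc11 zc1) (kc xc4 yc1 zc40) (kc xc14 yc58 zc35) (kc xc4 yc2 zc22)) (@D3.rec (fun _ => Pt) (kc xc4 yc1 zc42) (kc xc15 yc11 zc11) (kc xc15 yc11 zc10) (kc xc11 yc54 zc55) (kc xc4 yc2 zc21) (kc xc4 yc1 zc44) (kc xc15 yc11 zc21) (kc xc10 yc0 zc61) (kc xc15 yc11 zc20) (kc xc5 yc19 zc30) (kc xc5 yc19 zc28) (kc xc4 yc2 zc14) (kc xc4 yc1 zc48) (kc xc15 yc11 zc36) (kc xc15 yc11 zc35) (kc xc5 yc16 zc3) (kc xc5 yc16 zc1) (kc xc4 yc2 zc13) (kc xc4 yc1 zc51) (kc xc9 yc35 zc61) (kc xc15 yc11 zc49) (kc xc5 yc17 zc50) (kc xc4 yc2 zc10) (kc xc4 yc2 zc37) (kc xc9 yc39 zc48) (kc xc4 yc2 zc8) (kc xc4 yc2 zc38) (kc xc15 yc12 zc7) (kc xc15 yc12 zc12) (kc xc9 yc52 zc10)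 (kc xc15 yc12 zc18) (kc xc9 yc52 zc12) (kc xc4 yc2 zc7) (kc xc4 yc2 zc3) (kc xc8 yc3 zc55) (kc xc4 yc1 zc57) (kc xc10 yc7 zc37) (kc xc5 yc17 zc33) (kc xc4 yc1 zc61) (kc xc10 yc7 zc47) (kc xc10 yc7 zc48) (kc xc15 yc12 zc37) (kc xc8 yc4 zc42) (kc xc15 yc12 zc24) (kc xc10 yc27 zc56) (kc xc4 yc2 zc5) (kc xc10 yc8 zc2) (kc xc10 yc8 zc3) (kc xc15 yc12 zc47) (kc xc15 yc12 zc51) (kc xc15 yc12 zc22) (kc xc15 yc12 zc2) (kc xc10 yc1 zc22) (kc xc15 yc11 zc56) (kc xc10 yc1 zc17) (kc xc8 yc3 zc26) (kc xc13 yc47 zc43) (kc xc15 yc11 zc46) (kc xc15 yc11 zc31) (kc xc15 yc13 zc12) (kc xc8 yc25 zc53) (kc xc4 yc5 zc48)) (@D3.rec (fun _ => Pt) (kc xc4 yc2 zc16) (kc xc15 yc13 zc18) (kc xc15 yc13 zc17) (kc xc10 yc1 zc27) (kc xc4 yc53 zc54) (kc xc4 yc2 zc17) (kc xc15 yc13 zc24) (kc xc13 yc31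 zc8) (kc xc15 yc13 zc28) (kc xc15 yc13 zc30) (kc xc15 yc13 zc32) (kc xc4 yc2 zc19) (kc xc15 yc13 zc36) (kc xc15 yc13 zc37) (kc xc8 yc5 zc14) (kc xc15 yc13 zc43) (kc xc15 yc11 zc18) (kc xc15 yc13 zc48) (kc xc15 yc11 zc8) (kc xc15 yc13 zc34) (kc xc4 yc2 zc24) (kc xc15 yc13 zc61) (kc xc15 yc14 zc2) (kc xc15 yc13 zc59) (kc xc5 yc9 zc22) (kc xc12 yc6 zc41) (kc xc15 yc11 zc32) (kc xc15 yc11 zc33) (kc xc10 yc8 zc56) (kc xc15 yc11 zc47) (kc xc15 yc11 zc48) (kc xc10 yc9 zc1) (kc xc15 yc14 zc15) (kc xc15 yc14 zc19) (kc xc8 yc52 zc46) (kc xc13 yc6 zc30) (kc xc8 yc52 zc48) (kc xc8 yc26 zc7) (kc xc4 yc2 zc32) (kc xc10 yc9 zc26) (kc xc10 yc9 zc27) (kc xc4 yc2 zc33) (kc xc15 yc14 zc31) (kc xc9 yc52 zc7) (kc xc5 yc19 zc12) (kc xc15 yc14 zc38) (kc xc4 yc2 zc36) (kc xc15 yc14 zc40) (kc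 xc10 yc8 zc28) (kc xc10 yc8 zc29) (kc xc15 yc11 zc58) (kc xc9 yc35 zc40) (kc xc10 yc8 zc45) (kc xc15 yc12 zc3) (kc xc15 yc14 zc46) (kc xc15 yc14 zc50) (kc xc10 yc33 zc5) (kc xc15 yc10 zc15) (kc xc10 yc11 zc38) (kc xc8 yc10 zc45) (kc xc4 yc2 zc42) (kc xc9 yc54 zc44)) (@D3.rec (fun _ => Pt) (kc xc9 yc54 zc43) (kc xc4 yc2 zc43) (kc xc15 yc15 zc2) (kc xc4 yc2 zc47) (kc xc5 yc27 zc30) (kc xc4 yc9 zc53) (kc xc4 yc2 zc46) (kc xc7 yc38 zc59) (kc xc5 yc30 zc60) (kc xc4 yc9 zc45) (kc xc4 yc2 zc50) (kc xc15 yc15 zc21) (kc xc15 yc15 zc23) (kc xc15 yc15 zc20) (kc xc15 yc0 zc60) (kc xc4 yc9 zc33) (kc xc9 yc51 zc27) (kc xc5 yc20 zc58) (kc xc4 yc9 zc21) (kc xc9 yc51 zc28) (kc xc15 yc15 zc41) (kc xc15 yc15 zc46) (kc xc4 yc4 zc13) (kc xc13 yc28 zc26) (kc xc4 yc4 zc15) (kc xc4 yc9 zc8)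 (kc xc4 yc8 zc45) (kc xc4 yc2 zc54) (kc xc15 yc15 zc58) (kc xc4 yc8 zc25) (kc xc4 yc2 zc56) (kc xc15 yc16 zc3) (kc xc11 yc56 zc49) (kc xc4 yc6 zc49) (kc xc11 yc52 zc14) (kc xc9 yc33 zc40) (kc xc4 yc2 zc60) (kc xc11 yc56 zc57) (kc xc11 yc56 zc58) (kc xc15 yc16 zc19) (kc xc4 yc3 zc1) (kc xc11 yc5 zc13) (kc xc15 yc16 zc21) (kc xc9 yc33 zc39) (kc xc4 yc3 zc4) (kc xc15 yc16 zc32) (kc xc15 yc16 zc35) (kc xc11 yc8 zc44) (kc xc4 yc3 zc6) (kc xc11 yc52 zc20) (kc xc9 yc33 zc32) (kc xc4 yc3 zc10) (kc xc15 yc16 zc44) (kc xc15 yc16 zc46) (kc xc15 yc16 zc42) (kc xc10 yc35 zc45) (kc xc9 yc33 zc29) (kc xc4 yc3 zc12) (kc xc15 yc16 zc56) (kc xc15 yc16 zc59) (kc xc15 yc16 zc55) (kc xc8 yc7 zc2)) (@D3.rec (fun _ => Pt) (kc xc4 yc5 zc28) (kc xc8 yc27 zc49) (kc xc8 yc6 zc61) (kc xc4 yc50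 zc40) (kc xc15 yc17 zc11) (kc xc15 yc17 zc16) (kc xc8 yc15 zc30) (kc xc12 yc39 zc46) (kc xc8 yc15 zc32) (kc xc6 yc6 zc60) (kc xc4 yc3 zc16) (kc xc15 yc17 zc27) (kc xc4 yc14 zc24) (kc xc4 yc3 zc18) (kc xc4 yc3 zc19) (kc xc8 yc17 zc9) (kc xc4 yc3 zc28) (kc xc8 yc37 zc8) (kc xc4 yc3 zc21) (kc xc15 yc17 zc44) (kc xc4 yc3 zc22) (kc xc10 yc35 zc22) (kc xc4 yc3 zc25) (kc xc11 yc8 zc52) (kc xc11 yc8 zc53) (kc xc15 yc17 zc50) (kc xc5 yc29 zc45) (kc xc4 yc3 zc27) (kc xc15 yc17 zc59) (kc xc15 yc18 zc0) (kc xc15 yc17 zc37) (kc xc15 yc17 zc39) (kc xc4 yc14 zc29) (kc xc4 yc14 zc30) (kc xc7 yc8 zc47) (kc xc4 yc3 zc33) (kc xc4 yc3 zc30) (kc xc11 yc2 zc50) (kc xc4 yc3 zc31) (kc xc15 yc18 zc19) (kc xc14 yc50 zc60) (kc xc14 yc50 zc59) (kc xc4 yc3 zc32) (kc xc15 yc18 zc24) (kc xc5 yc21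 zc54) (kc xc15 yc2 zc3) (kc xc11 yc5 zc6) (kc xc15 yc1 zc32) (kc xc15 yc1 zc29) (kc xc4 yc3 zc46) (kc xc8 yc20 zc16) (kc xc4 yc3 zc41) (kc xc15 yc1 zc58) (kc xc15 yc1 zc59) (kc xc8 yc24 zc25) (kc xc11 yc10 zc30) (kc xc15 yc18 zc43) (kc xc15 yc18 zc46) (kc xc15 yc18 zc34) (kc xc15 yc18 zc36) (kc xc15 yc18 zc52) (kc xc4 yc3 zc51)) (@D3.rec (fun _ => Pt) (kc xc4 yc3 zc48) (kc xc15 yc18 zc56) (kc xc15 yc18 zc55) (kc xc4 yc3 zc49) (kc xc15 yc18 zc59) (kc xc15 yc18 zc60) (kc xc4 yc3 zc50) (kc xc15 yc19 zc2) (kc xc8 yc24 zc23) (kc xc4 yc23 zc8) (kc xc4 yc12 zc11) (kc xc4 yc3 zc55) (kc xc9 yc36 zc57) (kc xc4 yc3 zc54) (kc xc15 yc19 zc19) (kc xc15 yc19 zc18) (kc xc15 yc19 zc22) (kc xc15 yc19 zc25) (kc xc15 yc19 zc11) (kc xc15 yc19 zc13) (kc xc4 yc14 zc38) (kc xc4 yc14 zc39)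 (kc xc15 yc19 zc37) (kc xc4 yc3 zc60) (kc xc15 yc19 zc39) (kc xc4 yc3 zc57) (kc xc15 yc19 zc44) (kc xc4 yc3 zc58) (kc xc15 yc19 zc49) (kc xc15 yc19 zc48) (kc xc15 yc19 zc50) (kc xc4 yc3 zc59) (kc xc15 yc19 zc53) (kc xc7 yc58 zc31) (kc xc4 yc4 zc2) (kc xc8 yc21 zc56) (kc xc4 yc4 zc1) (kc xc15 yc2 zc25) (kc xc15 yc2 zc26) (kc xc15 yc20 zc3) (kc xc15 yc20 zc5) (kc xc15 yc20 zc7) (kc xc15 yc19 zc59) (kc xc15 yc19 zc61) (kc xc4 yc14 zc43) (kc xc4 yc14 zc44) (kc xc13 yc32 zc6) (kc xc4 yc4 zc6) (kc xc4 yc4 zc4) (kc xc15 yc20 zc24) (kc xc15 yc20 zc23) (kc xc15 yc20 zc27) (kc xc4 yc4 zc5) (kc xc15 yc20 zc30) (kc xc10 yc54 zc47) (kc xc8 yc57 zc61) (kc xc4 yc30 zc6) (kc xc4 yc30 zc8) (kc xc15 yc20 zc40) (kc xc4 yc55 zc56) (kc xc15 yc20 zc43) (kc xc15 yc20 zc45)) (@D3.rec (fun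 _ => Pt) (kc xc14 yc50 zc25) (kc xc4 yc4 zc9) (kc xc14 yc49 zc7) (kc xc15 yc20 zc54) (kc xc8 yc10 zc25) (kc xc15 yc15 zc38) (kc xc15 yc20 zc58) (kc xc10 yc38 zc59) (kc xc4 yc4 zc11) (kc xc15 yc21 zc9) (kc xc15 yc21 zc7) (kc xc15 yc21 zc8) (kc xc15 yc21 zc17) (kc xc4 yc4 zc12) (kc xc15 yc21 zc23) (kc xc15 yc21 zc22) (kc xc15 yc21 zc28) (kc xc15 yc21 zc31) (kc xc15 yc21 zc34) (kc xc4 yc4 zc14) (kc xc15 yc21 zc38) (kc xc15 yc15 zc52) (kc xc4 yc14 zc53) (kc xc4 yc14 zc54) (kc xc8 yc2 zc52) (kc xc4 yc56 zc28) (kc xc5 yc38 zc52) (kc xc15 yc21 zc58) (kc xc4 yc4 zc18) (kc xc15 yc22 zc1) (kc xc15 yc21 zc61) (kc xc15 yc22 zc3) (kc xc4 yc4 zc19) (kc xc15 yc22 zc9) (kc xc15 yc22 zc8) (kc xc8 yc56 zc31) (kc xc4 yc4 zc21) (kc xc15 yc17 zc47) (kc xc15 yc17 zc48) (kc xc15 yc22 zc17)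 (kc xc10 yc30 zc60) (kc xc10 yc30 zc59) (kc xc4 yc4 zc24) (kc xc15 yc17 zc57) (kc xc15 yc22 zc27) (kc xc10 yc49 zc13) (kc xc8 yc56 zc43) (kc xc4 yc30 zc57) (kc xc4 yc30 zc58) (kc xc13 yc40 zc4) (kc xc4 yc4 zc30) (kc xc10 yc46 zc10) (kc xc4 yc4 zc27) (kc xc10 yc31 zc6) (kc xc4 yc4 zc28) (kc xc15 yc22 zc42) (kc xc14 yc48 zc3) (kc xc14 yc48 zc4) (kc xc4 yc4 zc29) (kc xc11 yc52 zc13) (kc xc4 yc20 zc8) (kc xc4 yc4 zc35)) (@D3.rec (fun _ => Pt) (kc xc15 yc22 zc45) (kc xc4 yc4 zc39) (kc xc4 yc4 zc37) (kc xc10 yc37 zc29) (kc xc15 yc22 zc55) (kc xc15 yc22 zc58) (kc xc15 yc22 zc61) (kc xc15 yc22 zc51) (kc xc15 yc22 zc52) (kc xc15 yc23 zc7) (kc xc4 yc4 zc44) (kc xc10 yc31 zc20) (kc xc4 yc4 zc41) (kc xc15 yc23 zc15) (kc xc15 yc23 zc14) (kc xc8 yc56 zc40) (kc xc4 yc4 zc42) (kc xc15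 yc23 zc19) (kc xc15 yc23 zc22) (kc xc4 yc4 zc43) (kc xc15 yc23 zc25) (kc xc9 yc34 zc15) (kc xc4 yc22 zc28) (kc xc15 yc9 zc25) (kc xc15 yc9 zc26) (kc xc8 yc9 zc4) (kc xc15 yc23 zc31) (kc xc15 yc23 zc32) (kc xc4 yc4 zc49) (kc xc15 yc23 zc35) (kc xc4 yc20 zc37) (kc xc4 yc5 zc47) (kc xc4 yc39 zc42) (kc xc15 yc23 zc38) (kc xc15 yc23 zc40) (kc xc15 yc23 zc42) (kc xc15 yc23 zc44) (kc xc4 yc4 zc55) (kc xc8 yc3 zc30) (kc xc15 yc23 zc49) (kc xc8 yc3 zc32) (kc xc4 yc4 zc58) (kc xc15 yc10 zc50) (kc xc15 yc10 zc51) (kc xc15 yc12 zc0) (kc xc8 yc5 zc59) (kc xc4 yc8 zc17) (kc xc4 yc9 zc29) (kc xc8 yc34 zc20) (kc xc8 yc53 zc41) (kc xc10 yc19 zc10) (kc xc15 yc17 zc40) (kc xc4 yc5 zc2) (kc xc4 yc5 zc3) (kc xc15 yc24 zc19) (kc xc4 yc5 zc4) (kc xc15 yc24 zc22) (kc xc4 yc10 zc9) (kc xc8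 yc13 zc6) (kc xc8 yc52 zc53) (kc xc4 yc5 zc6) (kc xc15 yc24 zc28)) (@D3.rec (fun _ => Pt) (kc xc6 yc4 zc39) (kc xc4 yc5 zc7) (kc xc15 yc24 zc31) (kc xc4 yc15 zc56) (kc xc4 yc5 zc9) (kc xc15 yc24 zc36) (kc xc4 yc52 zc51) (kc xc4 yc5 zc11) (kc xc15 yc24 zc41) (kc xc5 yc12 zc35) (kc xc5 yc12 zc34) (kc xc15 yc24 zc30) (kc xc8 yc52 zc50) (kc xc4 yc5 zc13) (kc xc15 yc24 zc57) (kc xc15 yc24 zc56) (kc xc6 yc5 zc46) (kc xc4 yc5 zc14) (kc xc15 yc24 zc59) (kc xc15 yc24 zc58) (kc xc8 yc52 zc49) (kc xc4 yc5 zc16) (kc xc10 yc35 zc2) (kc xc15 yc25 zc5) (kc xc11 yc52 zc26) (kc xc4 yc7 zc52) (kc xc11 yc52 zc24) (kc xc8 yc52 zc42) (kc xc4 yc5 zc19) (kc xc15 yc25 zc23) (kc xc15 yc25 zc25) (kc xc15 yc25 zc22) (kc xc8 yc29 zc24) (kc xc8 yc29 zc22) (kc xc8 yc52 zc39) (kc xc4 yc5 zc22) (kc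 xc9 yc14 zc33) (kc xc11 yc51 zc28) (kc xc15 yc25 zc35) (kc xc8 yc38 zc39) (kc xc8 yc52 zc33) (kc xc8 yc15 zc42) (kc xc8 yc53 zc55) (kc xc5 yc16 zc18) (kc xc8 yc15 zc43) (kc xc6 yc24 zc34) (kc xc5 yc5 zc25) (kc xc4 yc5 zc25) (kc xc15 yc25 zc51) (kc xc4 yc27 zc19) (kc xc4 yc5 zc27) (kc xc15 yc25 zc58) (kc xc15 yc25 zc60) (kc xc15 yc26 zc1) (kc xc15 yc26 zc4) (kc xc15 yc17 zc2) (kc xc15 yc26 zc5) (kc xc6 yc21 zc0) (kc xc10 yc44 zc24) (kc xc6 yc7 zc29) (kc xc6 yc8 zc31) (kc xc8 yc14 zc60)) (@D3.rec (fun _ => Pt) (kc xc15 yc26 zc8) (kc xc8 yc49 zc2) (kc xc6 yc8 zc13) (kc xc10 yc18 zc32) (kc xc5 yc50 zc38) (kc xc7 yc0 zc43) (kc xc4 yc5 zc41) (kc xc12 yc9 zc33) (kc xc9 yc13 zc34) (kc xc9 yc13 zc35) (kc xc4 yc5 zc43) (kc xc12 yc24 zc2) (kc xc4 yc5 zc44) (kc xc6 yc1 zc55) (kc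 xc6 yc25 zc22) (kc xc5 yc55 zc6) (kc xc5 yc12 zc58) (kc xc7 yc36 zc15) (kc xc5 yc12 zc25) (kc xc4 yc42 zc58) (kc xc4 yc53 zc53) (kc xc15 yc26 zc22) (kc xc4 yc5 zc52) (kc xc4 yc5 zc53) (kc xc4 yc5 zc51) (kc xc15 yc26 zc28) (kc xc5 yc12 zc59) (kc xc10 yc17 zc40) (kc xc10 yc1 zc29) (kc xc15 yc26 zc33) (kc xc4 yc5 zc57) (kc xc4 yc5 zc56) (kc xc15 yc26 zc39) (kc xc15 yc26 zc41) (kc xc11 yc35 zc31) (kc xc11 yc35 zc30) (kc xc4 yc5 zc58) (kc xc12 yc33 zc48) (kc xc4 yc5 zc59) (kc xc10 yc2 zc55) (kc xc4 yc5 zc60) (kc xc15 yc26 zc50) (kc xc5 yc54 zc2) (kc xc4 yc6 zc2) (kc xc15 yc26 zc60) (kc xc4 yc6 zc0) (kc xc4 yc6 zc1) (kc xc14 yc19 zc31) (kc xc14 yc10 zc18) (kc xc15 yc27 zc3) (kc xc15 yc27 zc4) (kc xc15 yc27 zc10) (kc xc12 yc13 zc38) (kc xc12 yc43 zc45) (kc xc5 yc50 zc56) (kc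 xc8 yc14 zc43) (kc xc5 yc27 zc21) (kc xc5 yc27 zc22) (kc xc4 yc15 zc26) (kc xc8 yc22 zc1) (kc xc8 yc21 zc29) (kc xc10 yc24 zc0)) (@D3.rec (fun _ => Pt) (kc xc8 yc33 zc9) (kc xc11 yc52 zc39) (kc xc4 yc6 zc12) (kc xc4 yc6 zc13) (kc xc4 yc6 zc14) (kc xc15 yc27 zc32) (kc xc8 yc10 zc58) (kc xc6 yc5 zc24) (kc xc4 yc6 zc16) (kc xc15 yc27 zc41) (kc xc5 yc21 zc32) (kc xc4 yc6 zc17) (kc xc15 yc27 zc43) (kc xc5 yc23 zc20) (kc xc11 yc52 zc12) (kc xc4 yc6 zc20) (kc xc15 yc27 zc48) (kc xc4 yc6 zc22) (kc xc15 yc27 zc54) (kc xc4 yc6 zc23) (kc xc5 yc17 zc41) (kc xc5 yc4 zc55) (kc xc15 yc27 zc42) (kc xc6 yc5 zc21) (kc xc4 yc6 zc25) (kc xc15 yc28 zc11) (kc xc15 yc28 zc12) (kc xc15 yc28 zc10) (kc xc5 yc26 zc7) (kc xc4 yc6 zc26) (kc xc10 yc50 zc48) (kc xc4 yc6 zc28) (kc xc15 yc28 zc16)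 (kc xc15 yc28 zc13) (kc xc6 yc5 zc20) (kc xc4 yc6 zc31) (kc xc10 yc30 zc39) (kc xc4 yc15 zc6) (kc xc10 yc30 zc37) (kc xc6 yc5 zc13) (kc xc4 yc6 zc34) (kc xc15 yc28 zc42) (kc xc15 yc28 zc44) (kc xc15 yc28 zc41) (kc xc8 yc16 zc10) (kc xc8 yc16 zc8) (kc xc6 yc5 zc10) (kc xc4 yc6 zc37) (kc xc15 yc28 zc58) (kc xc15 yc28 zc57) (kc xc9 yc33 zc28) (kc xc6 yc5 zc4) (kc xc8 yc29 zc7) (kc xc5 yc23 zc21) (kc xc5 yc22 zc24) (kc xc10 yc45 zc14) (kc xc10 yc45 zc18) (kc xc4 yc6 zc61) (kc xc15 yc29 zc18) (kc xc4 yc7 zc1) (kc xc6 yc4 zc51) (kc xc6 yc4 zc40)) (@D3.rec (fun _ => Pt) (kc xc4 yc6 zc41) (kc xc15 yc29 zc26) (kc xc6 yc4 zc31) (kc xc4 yc6 zc43) (kc xc15 yc29 zc33) (kc xc15 yc29 zc36) (kc xc4 yc6 zc46) (kc xc4 yc20 zc42) (kc xc4 yc6 zc45) (kc xc10 yc1 zc9) (kc xc15 yc29 zc44)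 (kc xc6 yc4 zc45) (kc xc5 yc1 zc23) (kc xc4 yc6 zc52) (kc xc8 yc27 zc18) (kc xc4 yc6 zc51) (kc xc15 yc29 zc55) (kc xc15 yc29 zc57) (kc xc15 yc29 zc50) (kc xc15 yc29 zc52) (kc xc4 yc20 zc36) (kc xc4 yc6 zc55) (kc xc15 yc30 zc3) (kc xc15 yc30 zc6) (kc xc15 yc30 zc1) (kc xc15 yc30 zc8) (kc xc6 yc19 zc55) (kc xc15 yc29 zc8) (kc xc15 yc30 zc12) (kc xc11 yc53 zc60) (kc xc4 yc6 zc59) (kc xc15 yc30 zc18) (kc xc15 yc28 zc51) (kc xc12 yc55 zc38) (kc xc4 yc6 zc60) (kc xc15 yc30 zc25) (kc xc15 yc30 zc27) (kc xc13 yc20 zc46) (kc xc4 yc7 zc0) (kc xc15 yc30 zc32) (kc xc15 yc29 zc21) (kc xc9 yc15 zc20) (kc xc9 yc15 zc21) (kc xc8 yc12 zc55) (kc xc15 yc30 zc39) (kc xc4 yc7 zc4) (kc xc4 yc40 zc45) (kc xc4 yc7 zc8) (kc xc5 yc5 zc12) (kc xc4 yc7 zc14) (kc xc6 yc19 zc1) (kc xc12 yc28 zc50)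 (kc xc6 yc12 zc24) (kc xc4 yc7 zc21) (kc xc15 yc30 zc42) (kc xc6 yc21 zc40) (kc xc6 yc21 zc41) (kc xc12 yc26 zc60) (kc xc9 yc6 zc11) (kc xc6 yc39 zc2) (kc xc8 yc11 zc61) (kc xc6 yc6 zc53)) (@D3.rec (fun _ => Pt) (kc xc6 yc6 zc54) (kc xc4 yc7 zc30) (kc xc15 yc30 zc50) (kc xc4 yc7 zc32) (kc xc15 yc30 zc54) (kc xc4 yc27 zc26) (kc xc5 yc18 zc3) (kc xc5 yc18 zc6) (kc xc7 yc57 zc35) (kc xc8 yc16 zc20) (kc xc10 yc25 zc14) (kc xc8 yc28 zc40) (kc xc10 yc23 zc43) (kc xc4 yc7 zc38) (kc xc15 yc31 zc16) (kc xc15 yc31 zc17) (kc xc15 yc31 zc15) (kc xc8 yc28 zc46) (kc xc8 yc30 zc45) (kc xc4 yc7 zc40) (kc xc15 yc31 zc28) (kc xc15 yc31 zc27) (kc xc15 yc27 zc30) (kc xc5 yc18 zc5) (kc xc5 yc17 zc22) (kc xc10 yc30 zc40) (kc xc5 yc18 zc2) (kc xc5 yc17 zc24) (kc xc15 yc31 zc43) (kc xc15 yc31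 zc47) (kc xc8 yc7 zc6) (kc xc7 yc35 zc47) (kc xc8 yc7 zc8) (kc xc5 yc18 zc13) (kc xc5 yc18 zc12) (kc xc4 yc7 zc44) (kc xc15 yc31 zc56) (kc xc8 yc15 zc53) (kc xc4 yc7 zc46) (kc xc4 yc7 zc47) (kc xc15 yc32 zc1) (kc xc4 yc54 zc47) (kc xc8 yc11 zc41) (kc xc8 yc11 zc44) (kc xc4 yc8 zc4) (kc xc10 yc1 zc58) (kc xc15 yc25 zc10) (kc xc4 yc7 zc53) (kc xc10 yc54 zc11) (kc xc4 yc7 zc60) (kc xc4 yc18 zc57) (kc xc10 yc23 zc51) (kc xc9 yc39 zc32) (kc xc8 yc15 zc37) (kc xc4 yc7 zc57) (kc xc15 yc32 zc18) (kc xc8 yc29 zc11) (kc xc5 yc17 zc34) (kc xc4 yc7 zc59) (kc xc12 yc52 zc43) (kc xc9 yc24 zc61) (kc xc8 yc29 zc14)) (@D3.rec (fun _ => Pt) (kc xc5 yc17 zc51) (kc xc4 yc8 zc1) (kc xc15 yc32 zc35) (kc xc15 yc32 zc37) (kc xc15 yc32 zc34) (kc xc5 yc21 zc60) (kc xc10 yc23 zc50) (kc xc10 yc23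 zc36) (kc xc8 yc13 zc45) (kc xc9 yc53 zc19) (kc xc8 yc13 zc44) (kc xc15 yc32 zc56) (kc xc4 yc49 zc38) (kc xc15 yc32 zc7) (kc xc15 yc33 zc1) (kc xc15 yc25 zc9) (kc xc10 yc23 zc57) (kc xc9 yc52 zc22) (kc xc4 yc8 zc5) (kc xc15 yc33 zc9) (kc xc8 yc15 zc9) (kc xc4 yc8 zc7) (kc xc4 yc8 zc8) (kc xc15 yc33 zc16) (kc xc4 yc8 zc10) (kc xc15 yc33 zc20) (kc xc4 yc8 zc12) (kc xc15 yc33 zc15) (kc xc10 yc23 zc34) (kc xc4 yc8 zc14) (kc xc15 yc33 zc34) (kc xc15 yc33 zc33) (kc xc9 yc34 zc51) (kc xc10 yc23 zc33) (kc xc4 yc8 zc16) (kc xc15 yc33 zc44) (kc xc15 yc33 zc43) (kc xc15 yc24 zc1) (kc xc15 yc23 zc61) (kc xc10 yc23 zc27) (kc xc4 yc8 zc19) (kc xc15 yc33 zc56) (kc xc15 yc33 zc55) (kc xc4 yc51 zc52) (kc xc10 yc23 zc24) (kc xc4 yc8 zc21) (kc xc15 yc34 zc6) (kc xc15 yc34 zc5) (kc xc4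 yc22 zc0) (kc xc5 yc32 zc9) (kc xc4 yc52 zc54) (kc xc11 yc52 zc1) (kc xc4 yc29 zc27) (kc xc10 yc24 zc2) (kc xc15 yc34 zc24) (kc xc15 yc34 zc29) (kc xc8 yc30 zc4) (kc xc15 yc34 zc35) (kc xc8 yc30 zc6) (kc xc5 yc29 zc26) (kc xc4 yc28 zc50) (kc xc15 yc15 zc61)) (@D3.rec (fun _ => Pt) (kc xc4 yc8 zc27) (kc xc4 yc18 zc59) (kc xc4 yc8 zc44) (kc xc9 yc33 zc49) (kc xc4 yc8 zc30) (kc xc9 yc34 zc34) (kc xc9 yc34 zc35) (kc xc15 yc34 zc52) (kc xc8 yc57 zc0) (kc xc8 yc7 zc15) (kc xc8 yc55 zc51) (kc xc8 yc55 zc53) (kc xc15 yc0 zc54) (kc xc4 yc8 zc35) (kc xc8 yc55 zc61) (kc xc8 yc56 zc0) (kc xc15 yc35 zc1) (kc xc8 yc30 zc11) (kc xc5 yc29 zc46) (kc xc4 yc8 zc39) (kc xc15 yc35 zc14) (kc xc15 yc35 zc15) (kc xc15 yc35 zc12) (kc xc4 yc10 zc23) (kc xc5 yc29 zc49) (kc xc4 yc8 zc41) (kc xc8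 yc25 zc19) (kc xc5 yc32 zc23) (kc xc8 yc25 zc18) (kc xc8 yc33 zc51) (kc xc5 yc32 zc22) (kc xc8 yc42 zc33) (kc xc15 yc35 zc29) (kc xc15 yc35 zc33) (kc xc15 yc34 zc46) (kc xc15 yc35 zc40) (kc xc15 yc34 zc48) (kc xc8 yc55 zc59) (kc xc8 yc55 zc58) (kc xc15 yc15 zc56) (kc xc8 yc42 zc36) (kc xc8 yc42 zc37) (kc xc15 yc35 zc61) (kc xc4 yc8 zc50) (kc xc4 yc8 zc47) (kc xc15 yc36 zc4) (kc xc4 yc8 zc48) (kc xc15 yc36 zc7) (kc xc15 yc36 zc8) (kc xc4 yc8 zc49) (kc xc15 yc36 zc14) (kc xc4 yc13 zc48) (kc xc5 yc1 zc50) (kc xc8 yc29 zc20) (kc xc9 yc37 zc0) (kc xc4 yc8 zc53) (kc xc15 yc36 zc23) (kc xc4 yc8 zc55) (kc xc15 yc36 zc26) (kc xc8 yc37 zc22) (kc xc8 yc37 zc25) (kc xc4 yc9 zc7)) (@D3.rec (fun _ => Pt) (kc xc4 yc28 zc35) (kc xc4 yc8 zc60) (kc xc8 yc37 zc28) (kc xc8 yc36 zc17) (kc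 xc15 yc36 zc38) (kc xc4 yc9 zc0) (kc xc15 yc36 zc42) (kc xc15 yc36 zc41) (kc xc4 yc9 zc3) (kc xc10 yc50 zc13) (kc xc10 yc43 zc33) (kc xc15 yc36 zc52) (kc xc15 yc36 zc48) (kc xc4 yc9 zc5) (kc xc15 yc36 zc56) (kc xc15 yc36 zc60) (kc xc15 yc36 zc32) (kc xc15 yc37 zc5) (kc xc15 yc36 zc34) (kc xc15 yc15 zc54) (kc xc10 yc50 zc5) (kc xc8 yc24 zc17) (kc xc15 yc37 zc21) (kc xc4 yc9 zc13) (kc xc4 yc9 zc10) (kc xc4 yc9 zc11) (kc xc15 yc37 zc27) (kc xc15 yc37 zc28) (kc xc4 yc9 zc12) (kc xc15 yc37 zc33) (kc xc15 yc1 zc27) (kc xc8 yc31 zc17) (kc xc4 yc9 zc20) (kc xc9 yc33 zc56) (kc xc4 yc9 zc17) (kc xc9 yc35 zc16) (kc xc9 yc35 zc17) (kc xc8 yc25 zc7) (kc xc8 yc25 zc6) (kc xc8 yc34 zc56) (kc xc15 yc37 zc55) (kc xc15 yc37 zc58) (kc xc15 yc37 zc41) (kc xc15 yc38 zc1) (kc xc15 yc37 zc43)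 (kc xc5 yc29 zc58) (kc xc5 yc29 zc55) (kc xc15 yc15 zc36) (kc xc9 yc37 zc42) (kc xc9 yc37 zc43) (kc xc15 yc38 zc20) (kc xc4 yc9 zc28) (kc xc4 yc13 zc22) (kc xc4 yc9 zc25) (kc xc15 yc38 zc24) (kc xc4 yc9 zc26) (kc xc15 yc38 zc26) (kc xc4 yc9 zc27) (kc xc15 yc24 zc4) (kc xc4 yc9 zc32) (kc xc4 yc28 zc24) (kc xc4 yc9 zc31)) (@D3.rec (fun _ => Pt) (kc xc9 yc37 zc2) (kc xc9 yc37 zc3) (kc xc15 yc38 zc40) (kc xc15 yc38 zc37) (kc xc15 yc38 zc43) (kc xc15 yc38 zc45) (kc xc15 yc38 zc32) (kc xc15 yc38 zc51) (kc xc15 yc38 zc33) (kc xc15 yc15 zc30) (kc xc15 yc38 zc59) (kc xc9 yc39 zc2) (kc xc7 yc6 zc2) (kc xc4 yc9 zc39) (kc xc4 yc9 zc36) (kc xc15 yc39 zc4) (kc xc4 yc9 zc37) (kc xc7 yc32 zc40) (kc xc4 yc9 zc38) (kc xc15 yc39 zc12) (kc xc15 yc39 zc14) (kc xc15 yc39 zc18) (kc xc15 yc39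 zc20) (kc xc4 yc9 zc40) (kc xc13 yc34 zc14) (kc xc15 yc39 zc26) (kc xc4 yc9 zc43) (kc xc8 yc55 zc43) (kc xc8 yc55 zc48) (kc xc5 yc32 zc24) (kc xc15 yc39 zc44) (kc xc15 yc39 zc35) (kc xc15 yc39 zc47) (kc xc15 yc39 zc50) (kc xc14 yc57 zc42) (kc xc15 yc39 zc57) (kc xc14 yc57 zc44) (kc xc15 yc15 zc16) (kc xc15 yc40 zc7) (kc xc15 yc6 zc45) (kc xc4 yc11 zc46) (kc xc4 yc52 zc31) (kc xc12 yc59 zc47) (kc xc15 yc40 zc18) (kc xc4 yc48 zc0) (kc xc15 yc40 zc24) (kc xc15 yc40 zc26) (kc xc15 yc40 zc29) (kc xc15 yc40 zc32) (kc xc15 yc40 zc35) (kc xc4 yc9 zc50) (kc xc4 yc49 zc45) (kc xc15 yc40 zc39) (kc xc4 yc12 zc0) (kc xc15 yc40 zc44) (kc xc5 yc30 zc5) (kc xc15 yc40 zc51) (kc xc8 yc19 zc60) (kc xc15 yc40 zc38) (kc xc4 yc9 zc55) (kc xc8 yc19 zc57) (kc xc15 yc41 zc2)) (@D3.rec (fun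 _ => Pt) (kc xc15 yc37 zc11) (kc xc10 yc23 zc35) (kc xc15 yc41 zc8) (kc xc9 yc36 zc26) (kc xc11 yc53 zc31) (kc xc4 yc9 zc58) (kc xc15 yc41 zc18) (kc xc15 yc41 zc16) (kc xc15 yc41 zc19) (kc xc4 yc9 zc59) (kc xc15 yc41 zc25) (kc xc15 yc41 zc24) (kc xc9 yc36 zc61) (kc xc4 yc9 zc61) (kc xc15 yc41 zc32) (kc xc8 yc32 zc45) (kc xc8 yc7 zc50) (kc xc4 yc10 zc1) (kc xc15 yc41 zc44) (kc xc15 yc41 zc45) (kc xc15 yc41 zc43) (kc xc4 yc10 zc4) (kc xc15 yc41 zc49) (kc xc4 yc10 zc5) (kc xc15 yc41 zc50) (kc xc4 yc52 zc46) (kc xc4 yc10 zc7) (kc xc15 yc41 zc59) (kc xc11 yc51 zc26) (kc xc15 yc41 zc58) (kc xc8 yc37 zc23) (kc xc5 yc36 zc32) (kc xc4 yc10 zc12) (kc xc15 yc42 zc9) (kc xc15 yc42 zc8) (kc xc9 yc44 zc48) (kc xc15 yc1 zc22) (kc xc4 yc10 zc14) (kc xc12 yc42 zc5) (kc xc15 yc42 zc20)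 (kc xc10 yc50 zc25) (kc xc10 yc46 zc32) (kc xc10 yc50 zc24) (kc xc8 yc25 zc15) (kc xc15 yc2 zc9) (kc xc8 yc25 zc13) (kc xc12 yc13 zc15) (kc xc6 yc28 zc5) (kc xc4 yc10 zc29) (kc xc14 yc22 zc2) (kc xc4 yc10 zc30) (kc xc10 yc19 zc18) (kc xc15 yc41 zc48) (kc xc15 yc3 zc0) (kc xc15 yc42 zc51) (kc xc15 yc42 zc54) (kc xc15 yc42 zc59) (kc xc4 yc10 zc22) (kc xc4 yc43 zc41) (kc xc4 yc10 zc20) (kc xc4 yc10 zc21) (kc xc15 yc43 zc4)) (@D3.rec (fun _ => Pt) (kc xc15 yc43 zc5) (kc xc15 yc43 zc6) (kc xc12 yc52 zc24) (kc xc12 yc51 zc27) (kc xc15 yc43 zc8) (kc xc4 yc10 zc25) (kc xc15 yc43 zc11) (kc xc4 yc10 zc27) (kc xc4 yc10 zc28) (kc xc4 yc19 zc3) (kc xc4 yc10 zc34) (kc xc9 yc38 zc60) (kc xc9 yc35 zc6) (kc xc8 yc25 zc34) (kc xc4 yc10 zc38) (kc xc8 yc33 zc38) (kc xc4 yc18 zc50) (kc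 xc4 yc10 zc40) (kc xc8 yc30 zc23) (kc xc8 yc25 zc20) (kc xc8 yc43 zc9) (kc xc8 yc24 zc10) (kc xc8 yc25 zc16) (kc xc8 yc24 zc9) (kc xc7 yc48 zc53) (kc xc7 yc48 zc52) (kc xc4 yc10 zc55) (kc xc14 yc43 zc57) (kc xc8 yc25 zc8) (kc xc8 yc12 zc60) (kc xc4 yc10 zc47) (kc xc15 yc43 zc46) (kc xc8 yc43 zc13) (kc xc15 yc43 zc55) (kc xc15 yc43 zc56) (kc xc4 yc10 zc49) (kc xc15 yc43 zc59) (kc xc15 yc44 zc0) (kc xc4 yc10 zc50) (kc xc15 yc44 zc6) (kc xc4 yc11 zc0) (kc xc4 yc10 zc53) (kc xc15 yc44 zc11) (kc xc4 yc10 zc54) (kc xc6 yc29 zc5) (kc xc9 yc24 zc59) (kc xc15 yc44 zc14) (kc xc4 yc19 zc46) (kc xc4 yc19 zc47) (kc xc15 yc44 zc4) (kc xc12 yc40 zc39) (kc xc4 yc10 zc61) (kc xc15 yc44 zc23) (kc xc15 yc44 zc25) (kc xc15 yc44 zc9) (kc xc8 yc34 zc12) (kc xc8 yc8 zc35) (kc xc4 yc11 zc2)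 (kc xc15 yc44 zc36) (kc xc15 yc44 zc37) (kc xc15 yc44 zc35) (kc xc10 yc50 zc18)) (@D3.rec (fun _ => Pt) (kc xc10 yc50 zc17) (kc xc8 yc12 zc59) (kc xc13 yc37 zc56) (kc xc8 yc35 zc23) (kc xc4 yc11 zc14) (kc xc15 yc44 zc51) (kc xc4 yc11 zc15) (kc xc15 yc1 zc28) (kc xc15 yc1 zc31) (kc xc15 yc2 zc46) (kc xc15 yc45 zc1) (kc xc15 yc45 zc5) (kc xc15 yc45 zc10) (kc xc4 yc11 zc11) (kc xc12 yc20 zc10) (kc xc4 yc11 zc8) (kc xc15 yc45 zc17) (kc xc15 yc45 zc16) (kc xc4 yc11 zc9) (kc xc15 yc45 zc20) (kc xc4 yc11 zc10) (kc xc4 yc11 zc12) (kc xc15 yc45 zc25) (kc xc15 yc45 zc26) (kc xc4 yc11 zc13) (kc xc6 yc19 zc40) (kc xc4 yc11 zc20) (kc xc15 yc45 zc28) (kc xc4 yc11 zc21) (kc xc15 yc45 zc22) (kc xc12 yc14 zc4) (kc xc8 yc34 zc51) (kc xc4 yc52 zc10) (kc xc4 yc11 zc25) (kc xc15 yc45 zc41)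 (kc xc15 yc45 zc40) (kc xc8 yc31 zc11) (kc xc8 yc23 zc61) (kc xc8 yc23 zc59) (kc xc8 yc35 zc43) (kc xc8 yc35 zc17) (kc xc4 yc11 zc36) (kc xc15 yc45 zc54) (kc xc8 yc36 zc10) (kc xc8 yc36 zc5) (kc xc4 yc11 zc29) (kc xc15 yc45 zc58) (kc xc9 yc37 zc55) (kc xc9 yc37 zc56) (kc xc15 yc46 zc6) (kc xc4 yc11 zc33) (kc xc4 yc11 zc31) (kc xc15 yc46 zc10) (kc xc9 yc35 zc39) (kc xc4 yc11 zc32) (kc xc4 yc11 zc34) (kc xc4 yc11 zc35) (kc xc15 yc46 zc16) (kc xc4 yc11 zc41) (kc xc8 yc34 zc60) (kc xc4 yc11 zc42) (kc xc12 yc2 zc58)) (@D3.rec (fun _ => Pt) (kc xc15 yc46 zc20) (kc xc4 yc11 zc43) (kc xc4 yc11 zc44) (kc xc9 yc33 zc7) (kc xc6 yc48 zc43) (kc xc9 yc14 zc30) (kc xc15 yc16 zc51) (kc xc15 yc46 zc25) (kc xc4 yc11 zc47) (kc xc15 yc46 zc28) (kc xc12 yc11 zc39) (kc xc9 yc39 zc7) (kc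 xc4 yc53 zc9) (kc xc4 yc11 zc48) (kc xc15 yc43 zc9) (kc xc6 yc48 zc33) (kc xc6 yc48 zc32) (kc xc15 yc46 zc29) (kc xc15 yc46 zc42) (kc xc4 yc11 zc51) (kc xc4 yc11 zc52) (kc xc15 yc46 zc46) (kc xc4 yc11 zc50) (kc xc12 yc52 zc12) (kc xc15 yc46 zc50) (kc xc15 yc40 zc20) (kc xc12 yc11 zc38) (kc xc8 yc34 zc59) (kc xc4 yc11 zc53) (kc xc15 yc46 zc51) (kc xc15 yc46 zc55) (kc xc4 yc11 zc56) (kc xc4 yc11 zc55) (kc xc4 yc11 zc57) (kc xc15 yc47 zc0) (kc xc4 yc11 zc58) (kc xc15 yc46 zc13) (kc xc4 yc11 zc59) (kc xc12 yc33 zc51) (kc xc4 yc47 zc38) (kc xc4 yc53 zc37) (kc xc15 yc47 zc11) (kc xc4 yc11 zc61) (kc xc15 yc47 zc16) (kc xc15 yc47 zc17) (kc xc15 yc47 zc18) (kc xc15 yc47 zc21) (kc xc4 yc52 zc44) (kc xc4 yc12 zc3) (kc xc15 yc47 zc28) (kc xc15 yc47 zc26) (kc xc15 yc47 zc24) (kc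 xc4 yc18 zc33) (kc xc4 yc12 zc6) (kc xc4 yc12 zc5) (kc xc4 yc51 zc3) (kc xc4 yc15 zc10) (kc xc4 yc12 zc9) (kc xc15 yc47 zc30) (kc xc8 yc22 zc38) (kc xc15 yc19 zc8) (kc xc8 yc22 zc37)) (@D3.rec (fun _ => Pt) (kc xc9 yc51 zc43) (kc xc4 yc12 zc13) (kc xc15 yc47 zc45) (kc xc8 yc35 zc60) (kc xc4 yc27 zc61) (kc xc4 yc12 zc15) (kc xc12 yc59 zc20) (kc xc15 yc47 zc52) (kc xc4 yc43 zc42) (kc xc8 yc21 zc23) (kc xc8 yc21 zc21) (kc xc8 yc54 zc22) (kc xc4 yc12 zc20) (kc xc15 yc48 zc4) (kc xc15 yc48 zc7) (kc xc15 yc48 zc3) (kc xc4 yc12 zc21) (kc xc8 yc18 zc21) (kc xc15 yc48 zc8) (kc xc8 yc54 zc23) (kc xc4 yc12 zc23) (kc xc15 yc48 zc14) (kc xc15 yc48 zc13) (kc xc8 yc8 zc8) (kc xc8 yc54 zc55) (kc xc8 yc7 zc54) (kc xc8 yc33 zc43) (kc xc5 yc28 zc21) (kc xc8 yc30 zc52) (kc xc4 yc48 zc6)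 (kc xc4 yc50 zc21) (kc xc9 yc31 zc26) (kc xc4 yc27 zc39) (kc xc4 yc28 zc39) (kc xc4 yc12 zc27) (kc xc15 yc48 zc35) (kc xc14 yc57 zc13) (kc xc15 yc33 zc17) (kc xc12 yc1 zc2) (kc xc4 yc12 zc29) (kc xc15 yc48 zc46) (kc xc15 yc48 zc48) (kc xc4 yc12 zc30) (kc xc15 yc48 zc51) (kc xc15 yc48 zc50) (kc xc10 yc9 zc45) (kc xc4 yc12 zc37) (kc xc9 yc35 zc51) (kc xc4 yc12 zc36) (kc xc15 yc49 zc0) (kc xc15 yc49 zc3) (kc xc15 yc48 zc61) (kc xc15 yc48 zc54) (kc xc15 yc48 zc56) (kc xc4 yc17 zc2) (kc xc4 yc17 zc3) (kc xc4 yc12 zc41) (kc xc6 yc44 zc28) (kc xc4 yc12 zc44) (kc xc4 yc12 zc43) (kc xc13 yc1 zc26) (kc xc12 yc28 zc32)) (@D3.rec (fun _ => Pt) (kc xc8 yc33 zc56) (kc xc15 yc49 zc8) (kc xc4 yc12 zc48) (kc xc4 yc12 zc50) (kc xc15 yc49 zc10) (kc xc4 yc12 zc52) (kc xc8 yc18 zc38) (kc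 xc8 yc18 zc37) (kc xc8 yc21 zc28) (kc xc4 yc12 zc57) (kc xc8 yc37 zc7) (kc xc4 yc16 zc54) (kc xc4 yc12 zc59) (kc xc8 yc20 zc45) (kc xc4 yc15 zc19) (kc xc8 yc20 zc43) (kc xc8 yc21 zc22) (kc xc4 yc13 zc2) (kc xc8 yc17 zc28) (kc xc8 yc17 zc26) (kc xc8 yc21 zc19) (kc xc4 yc13 zc5) (kc xc15 yc49 zc34) (kc xc15 yc49 zc33) (kc xc9 yc34 zc24) (kc xc5 yc23 zc60) (kc xc8 yc30 zc47) (kc xc8 yc32 zc51) (kc xc7 yc23 zc21) (kc xc5 yc23 zc37) (kc xc4 yc48 zc35) (kc xc6 yc42 zc55) (kc xc4 yc13 zc18) (kc xc12 yc4 zc5) (kc xc8 yc21 zc13) (kc xc4 yc13 zc9) (kc xc15 yc49 zc49) (kc xc8 yc30 zc51) (kc xc15 yc49 zc52) (kc xc4 yc13 zc12) (kc xc15 yc49 zc53) (kc xc4 yc13 zc11) (kc xc8 yc33 zc6) (kc xc15 yc49 zc56) (kc xc4 yc13 zc17) (kc xc4 yc13 zc20) (kc xc4 yc13 zc26) (kc xc9 yc41 zc30) (kc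 xc10 yc41 zc15) (kc xc10 yc41 zc18) (kc xc15 yc49 zc61) (kc xc5 yc54 zc59) (kc xc4 yc39 zc41) (kc xc8 yc4 zc60) (kc xc15 yc50 zc7) (kc xc9 yc39 zc18) (kc xc13 yc58 zc48) (kc xc11 yc8 zc5) (kc xc15 yc50 zc13) (kc xc15 yc50 zc15) (kc xc13 yc59 zc8) (kc xc4 yc13 zc31)) (@D3.rec (fun _ => Pt) (kc xc15 yc50 zc22) (kc xc15 yc50 zc23) (kc xc15 yc50 zc20) (kc xc4 yc13 zc34) (kc xc15 yc13 zc56) (kc xc15 yc13 zc57) (kc xc15 yc50 zc32) (kc xc8 yc5 zc37) (kc xc4 yc15 zc13) (kc xc4 yc13 zc37) (kc xc15 yc50 zc41) (kc xc5 yc16 zc0) (kc xc4 yc54 zc26) (kc xc11 yc55 zc6) (kc xc10 yc20 zc49) (kc xc5 yc16 zc17) (kc xc4 yc13 zc44) (kc xc10 yc32 zc8) (kc xc10 yc19 zc42) (kc xc10 yc26 zc40) (kc xc10 yc43 zc4) (kc xc15 yc36 zc17) (kc xc10 yc46 zc16) (kc xc10 yc19 zc21) (kc xc5 yc24 zc9) (kc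 xc4 yc16 zc37) (kc xc5 yc31 zc5) (kc xc8 yc28 zc54) (kc xc8 yc28 zc57) (kc xc4 yc14 zc23) (kc xc10 yc20 zc12) (kc xc11 yc55 zc55) (kc xc4 yc13 zc58) (kc xc15 yc51 zc18) (kc xc5 yc27 zc52) (kc xc9 yc40 zc36) (kc xc4 yc16 zc34) (kc xc4 yc14 zc0) (kc xc5 yc28 zc0) (kc xc5 yc28 zc1) (kc xc6 yc56 zc19) (kc xc10 yc47 zc43) (kc xc4 yc14 zc4) (kc xc15 yc51 zc29) (kc xc10 yc47 zc42) (kc xc4 yc16 zc33) (kc xc4 yc14 zc7) (kc xc4 yc45 zc48) (kc xc9 yc21 zc14) (kc xc9 yc40 zc42) (kc xc4 yc16 zc27) (kc xc4 yc14 zc10) (kc xc5 yc31 zc14) (kc xc5 yc31 zc15) (kc xc10 yc25 zc5) (kc xc10 yc54 zc14) (kc xc8 yc53 zc6) (kc xc8 yc53 zc4) (kc xc4 yc16 zc23) (kc xc4 yc14 zc13) (kc xc15 yc51 zc52) (kc xc15 yc51 zc54)) (@D3.rec (fun _ => Pt) (kc xc14 yc34 zc32) (kc xc15 yc51 zc51) (kc xc5 yc32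 zc8) (kc xc4 yc16 zc6) (kc xc4 yc29 zc49) (kc xc15 yc52 zc7) (kc xc15 yc21 zc30) (kc xc4 yc14 zc48) (kc xc15 yc52 zc17) (kc xc4 yc14 zc50) (kc xc4 yc15 zc44) (kc xc4 yc14 zc16) (kc xc15 yc52 zc22) (kc xc4 yc15 zc34) (kc xc4 yc14 zc18) (kc xc10 yc45 zc61) (kc xc10 yc46 zc0) (kc xc8 yc37 zc43) (kc xc8 yc14 zc14) (kc xc4 yc14 zc20) (kc xc15 yc16 zc16) (kc xc15 yc16 zc17) (kc xc15 yc52 zc40) (kc xc8 yc37 zc48) (kc xc5 yc36 zc11) (kc xc4 yc14 zc22) (kc xc15 yc16 zc39) (kc xc15 yc16 zc40) (kc xc15 yc52 zc51) (kc xc15 yc52 zc56) (kc xc15 yc52 zc61) (kc xc15 yc51 zc14) (kc xc12 yc39 zc22) (kc xc11 yc55 zc54) (kc xc12 yc40 zc3) (kc xc4 yc14 zc26) (kc xc15 yc53 zc11) (kc xc15 yc53 zc14) (kc xc11 yc2 zc47) (kc xc4 yc52 zc48) (kc xc4 yc52 zc49) (kc xc15 yc53 zc23) (kc xc4 yc14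 zc32) (kc xc5 yc23 zc7) (kc xc15 yc18 zc10) (kc xc15 yc18 zc21) (kc xc15 yc18 zc22) (kc xc4 yc14 zc31) (kc xc7 yc52 zc20) (kc xc8 yc7 zc1) (kc xc4 yc20 zc33) (kc xc4 yc14 zc36) (kc xc4 yc56 zc3) (kc xc4 yc14 zc35) (kc xc15 yc53 zc39) (kc xc15 yc53 zc42) (kc xc15 yc53 zc38) (kc xc15 yc53 zc45) (kc xc15 yc53 zc48) (kc xc10 yc57 zc48) (kc xc15 yc53 zc34) (kc xc8 yc2 zc56)) (@D3.rec (fun _ => Pt) (kc xc8 yc2 zc57) (kc xc15 yc53 zc61) (kc xc4 yc14 zc41) (kc xc5 yc24 zc18) (kc xc7 yc55 zc59) (kc xc8 yc45 zc5) (kc xc15 yc19 zc34) (kc xc15 yc19 zc51) (kc xc4 yc14 zc40) (kc xc15 yc54 zc4) (kc xc8 yc3 zc0) (kc xc8 yc3 zc1) (kc xc15 yc54 zc12) (kc xc4 yc14 zc45) (kc xc15 yc20 zc15) (kc xc5 yc24 zc42) (kc xc15 yc52 zc4) (kc xc15 yc54 zc16) (kc xc15 yc15 zc39) (kc xc4 yc14 zc46)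 (kc xc15 yc54 zc25) (kc xc15 yc54 zc23) (kc xc15 yc54 zc24) (kc xc15 yc54 zc33) (kc xc4 yc14 zc47) (kc xc15 yc54 zc38) (kc xc15 yc54 zc37) (kc xc10 yc38 zc60) (kc xc15 yc54 zc45) (kc xc5 yc25 zc13) (kc xc10 yc38 zc61) (kc xc10 yc38 zc22) (kc xc8 yc3 zc6) (kc xc8 yc3 zc7) (kc xc4 yc50 zc46) (kc xc15 yc54 zc61) (kc xc15 yc55 zc0) (kc xc15 yc21 zc47) (kc xc15 yc55 zc1) (kc xc15 yc21 zc49) (kc xc8 yc15 zc11) (kc xc5 yc16 zc10) (kc xc4 yc14 zc56) (kc xc15 yc55 zc12) (kc xc15 yc55 zc13) (kc xc15 yc55 zc11) (kc xc8 yc15 zc17) (kc xc5 yc16 zc2) (kc xc4 yc14 zc58) (kc xc15 yc55 zc24) (kc xc15 yc55 zc25) (kc xc15 yc55 zc23) (kc xc15 yc24 zc20) (kc xc5 yc15 zc55) (kc xc8 yc26 zc27) (kc xc11 yc52 zc27) (kc xc5 yc15 zc47) (kc xc8 yc26 zc28) (kc xc15 yc55 zc46) (kc xc15 yc55 zc50)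 (kc xc8 yc39 zc20) (kc xc15 yc55 zc55)) (@D3.rec (fun _ => Pt) (kc xc8 yc39 zc22) (kc xc5 yc15 zc38) (kc xc5 yc15 zc26) (kc xc4 yc15 zc0) (kc xc5 yc15 zc8) (kc xc4 yc15 zc2) (kc xc15 yc52 zc27) (kc xc8 yc13 zc52) (kc xc4 yc15 zc15) (kc xc11 yc52 zc52) (kc xc15 yc28 zc29) (kc xc8 yc15 zc56) (kc xc10 yc7 zc22) (kc xc4 yc15 zc8) (kc xc8 yc15 zc61) (kc xc10 yc8 zc15) (kc xc4 yc15 zc12) (kc xc15 yc56 zc18) (kc xc14 yc23 zc17) (kc xc6 yc5 zc9) (kc xc8 yc17 zc53) (kc xc10 yc50 zc39) (kc xc8 yc11 zc33) (kc xc10 yc19 zc36) (kc xc8 yc11 zc32) (kc xc15 yc56 zc32) (kc xc15 yc56 zc36) (kc xc15 yc56 zc8) (kc xc15 yc56 zc38) (kc xc15 yc28 zc28) (kc xc10 yc19 zc33) (kc xc10 yc19 zc31) (kc xc10 yc21 zc61) (kc xc4 yc15 zc18) (kc xc15 yc49 zc20) (kc xc4 yc15 zc21) (kc xc15 yc49 zc19)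 (kc xc4 yc29 zc10) (kc xc4 yc15 zc23) (kc xc15 yc56 zc57) (kc xc15 yc56 zc56) (kc xc7 yc55 zc38) (kc xc5 yc27 zc31) (kc xc4 yc15 zc25) (kc xc15 yc57 zc3) (kc xc15 yc32 zc44) (kc xc15 yc27 zc16) (kc xc4 yc29 zc1) (kc xc15 yc27 zc14) (kc xc4 yc29 zc51) (kc xc4 yc15 zc28) (kc xc15 yc57 zc17) (kc xc15 yc57 zc16) (kc xc4 yc53 zc6) (kc xc5 yc30 zc61) (kc xc4 yc15 zc30) (kc xc15 yc57 zc28) (kc xc15 yc57 zc27) (kc xc4 yc51 zc33) (kc xc9 yc42 zc25) (kc xc4 yc51 zc31) (kc xc10 yc32 zc35)) (@D3.rec (fun _ => Pt) (kc xc10 yc19 zc20) (kc xc10 yc19 zc19) (kc xc15 yc57 zc44) (kc xc15 yc57 zc49) (kc xc8 yc16 zc56) (kc xc15 yc57 zc55) (kc xc8 yc16 zc58) (kc xc9 yc41 zc45) (kc xc10 yc19 zc26) (kc xc15 yc52 zc26) (kc xc4 yc15 zc36) (kc xc8 yc17 zc17) (kc xc5 yc27 zc54) (kc xc4 yc15 zc38)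 (kc xc15 yc58 zc10) (kc xc15 yc58 zc11) (kc xc15 yc58 zc9) (kc xc4 yc17 zc5) (kc xc5 yc27 zc51) (kc xc4 yc15 zc40) (kc xc8 yc37 zc15) (kc xc5 yc27 zc46) (kc xc8 yc37 zc14) (kc xc8 yc21 zc18) (kc xc5 yc27 zc38) (kc xc5 yc29 zc41) (kc xc15 yc58 zc31) (kc xc15 yc58 zc35) (kc xc8 yc40 zc40) (kc xc15 yc58 zc42) (kc xc8 yc40 zc42) (kc xc5 yc14 zc61) (kc xc5 yc27 zc27) (kc xc12 yc4 zc31) (kc xc9 yc34 zc7) (kc xc9 yc34 zc8) (kc xc12 yc34 zc6) (kc xc4 yc15 zc49) (kc xc4 yc15 zc46) (kc xc4 yc15 zc47) (kc xc15 yc58 zc58) (kc xc7 yc32 zc43) (kc xc4 yc15 zc48) (kc xc13 yc5 zc1) (kc xc5 yc9 zc12) (kc xc8 yc15 zc18) (kc xc10 yc38 zc32) (kc xc8 yc25 zc26) (kc xc4 yc15 zc59) (kc xc10 yc38 zc34) (kc xc4 yc15 zc55) (kc xc8 yc25 zc37) (kc xc8 yc24 zc28) (kc xc15 yc48 zc11) (kc xc5 yc29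 zc25) (kc xc4 yc15 zc58) (kc xc9 yc25 zc24) (kc xc7 yc38 zc5) (kc xc15 yc59 zc11) (kc xc15 yc59 zc14) (kc xc15 yc59 zc2) (kc xc15 yc59 zc21)) (@D3.rec (fun _ => Pt) (kc xc15 yc59 zc4) (kc xc5 yc27 zc61) (kc xc15 yc59 zc29) (kc xc5 yc29 zc34) (kc xc10 yc24 zc17) (kc xc4 yc16 zc2) (kc xc4 yc16 zc0) (kc xc15 yc59 zc31) (kc xc4 yc16 zc1) (kc xc8 yc37 zc4) (kc xc5 yc27 zc25) (kc xc8 yc22 zc36) (kc xc15 yc59 zc41) (kc xc15 yc59 zc44) (kc xc8 yc41 zc10) (kc xc15 yc59 zc49) (kc xc8 yc41 zc12) (kc xc8 yc18 zc31) (kc xc8 yc56 zc27) (kc xc15 yc52 zc1) (kc xc9 yc35 zc3) (kc xc9 yc35 zc4) (kc xc4 yc18 zc26) (kc xc4 yc16 zc11) (kc xc4 yc16 zc8) (kc xc9 yc24 zc9) (kc xc4 yc16 zc9) (kc xc9 yc24 zc12) (kc xc16 yc0 zc6) (kc xc4 yc16 zc10) (kc xc4 yc16 zc14) (kc xc11 yc51 zc61) (kc xc4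 yc16 zc13) (kc xc6 yc23 zc31) (kc xc6 yc23 zc26) (kc xc16 yc0 zc14) (kc xc16 yc0 zc17) (kc xc12 yc59 zc51) (kc xc16 yc0 zc9) (kc xc16 yc0 zc22) (kc xc16 yc0 zc11) (kc xc5 yc31 zc13) (kc xc16 yc0 zc30) (kc xc9 yc37 zc8) (kc xc16 yc0 zc35) (kc xc4 yc16 zc20) (kc xc4 yc16 zc17) (kc xc16 yc0 zc38) (kc xc4 yc16 zc18) (kc xc4 yc16 zc19) (kc xc16 yc0 zc45) (kc xc16 yc0 zc47) (kc xc16 yc0 zc51) (kc xc16 yc0 zc53) (kc xc4 yc16 zc21) (kc xc16 yc1 zc0) (kc xc16 yc0 zc59) (kc xc5 yc21 zc15) (kc xc4 yc16 zc24) (kc xc5 yc31 zc12) (kc xc15 yc51 zc49) (kc xc6 yc12 zc56)) (@D3.rec (fun _ => Pt) (kc xc16 yc1 zc8) (kc xc16 yc1 zc13) (kc xc16 yc1 zc16) (kc xc16 yc1 zc19) (kc xc4 yc16 zc25) (kc xc15 yc35 zc30) (kc xc16 yc1 zc25) (kc xc4 yc16 zc28) (kc xc15 yc51 zc38) (kc xc16 yc0 zc27)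 (kc xc16 yc1 zc35) (kc xc16 yc1 zc42) (kc xc4 yc16 zc29) (kc xc16 yc1 zc45) (kc xc16 yc1 zc47) (kc xc12 yc57 zc35) (kc xc16 yc1 zc49) (kc xc16 yc1 zc51) (kc xc4 yc16 zc32) (kc xc4 yc47 zc18) (kc xc16 yc1 zc57) (kc xc12 yc4 zc28) (kc xc15 yc35 zc38) (kc xc13 yc36 zc49) (kc xc16 yc1 zc55) (kc xc4 yc16 zc36) (kc xc16 yc2 zc9) (kc xc16 yc2 zc13) (kc xc16 yc2 zc7) (kc xc15 yc51 zc6) (kc xc10 yc45 zc54) (kc xc9 yc38 zc36) (kc xc11 yc53 zc32) (kc xc4 yc16 zc39) (kc xc16 yc2 zc28) (kc xc16 yc2 zc27) (kc xc15 yc47 zc42) (kc xc4 yc16 zc40) (kc xc16 yc2 zc34) (kc xc16 yc2 zc33) (kc xc9 yc36 zc40) (kc xc5 yc43 zc31) (kc xc8 yc36 zc21) (kc xc4 yc16 zc43) (kc xc16 yc2 zc41) (kc xc8 yc20 zc15) (kc xc4 yc16 zc45) (kc xc16 yc2 zc45) (kc xc16 yc2 zc46) (kc xc12 yc1 zc3) (kc xc7 yc56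 zc3) (kc xc8 yc25 zc27) (kc xc5 yc44 zc15) (kc xc4 yc16 zc47) (kc xc16 yc2 zc54) (kc xc16 yc2 zc56) (kc xc16 yc2 zc53) (kc xc4 yc16 zc48) (kc xc16 yc2 zc57) (kc xc8 yc36 zc15) (kc xc4 yc16 zc50) (kc xc13 yc54 zc23)) (@D3.rec (fun _ => Pt) (kc xc16 yc3 zc0) (kc xc15 yc36 zc54) (kc xc14 yc58 zc10) (kc xc8 yc37 zc11) (kc xc8 yc37 zc10) (kc xc13 yc23 zc56) (kc xc8 yc25 zc42) (kc xc4 yc17 zc9) (kc xc14 yc42 zc30) (kc xc8 yc13 zc0) (kc xc8 yc35 zc57) (kc xc12 yc54 zc22) (kc xc14 yc58 zc11) (kc xc14 yc58 zc12) (kc xc16 yc3 zc29) (kc xc9 yc20 zc35) (kc xc4 yc16 zc56) (kc xc16 yc3 zc33) (kc xc16 yc3 zc35) (kc xc4 yc16 zc57) (kc xc16 yc3 zc39) (kc xc16 yc3 zc38) (kc xc4 yc17 zc1) (kc xc4 yc17 zc0) (kc xc16 yc3 zc45) (kc xc16 yc3 zc46) (kc xc16 yc3 zc41) (kc xc16 yc3 zc47) (kc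 xc15 yc58 zc14) (kc xc16 yc3 zc49) (kc xc4 yc17 zc7) (kc xc16 yc3 zc53) (kc xc4 yc17 zc8) (kc xc16 yc3 zc56) (kc xc4 yc17 zc10) (kc xc7 yc55 zc60) (kc xc7 yc57 zc46) (kc xc4 yc17 zc13) (kc xc8 yc21 zc15) (kc xc7 yc58 zc36) (kc xc4 yc17 zc15) (kc xc4 yc50 zc47) (kc xc4 yc51 zc19) (kc xc8 yc24 zc26) (kc xc8 yc37 zc36) (kc xc4 yc17 zc19) (kc xc8 yc36 zc60) (kc xc11 yc5 zc1) (kc xc4 yc17 zc21) (kc xc16 yc4 zc28) (kc xc16 yc4 zc27) (kc xc8 yc17 zc29) (kc xc9 yc34 zc45) (kc xc8 yc36 zc4) (kc xc8 yc36 zc3) (kc xc12 yc18 zc37) (kc xc8 yc25 zc0) (kc xc4 yc17 zc32) (kc xc7 yc47 zc37) (kc xc4 yc17 zc33) (kc xc15 yc1 zc38) (kc xc10 yc32 zc55)) (@D3.rec (fun _ => Pt) (kc xc4 yc17 zc25) (kc xc16 yc4 zc48) (kc xc9 yc34 zc49) (kc xc16 yc4 zc56) (kc xc4 yc17 zc28) (kc xc9 yc20 zc26)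 (kc xc4 yc17 zc27) (kc xc4 yc17 zc30) (kc xc16 yc4 zc61) (kc xc4 yc17 zc31) (kc xc16 yc5 zc1) (kc xc6 yc43 zc47) (kc xc8 yc21 zc55) (kc xc4 yc53 zc32) (kc xc4 yc17 zc38) (kc xc16 yc5 zc9) (kc xc16 yc5 zc11) (kc xc16 yc5 zc8) (kc xc15 yc57 zc7) (kc xc8 yc35 zc55) (kc xc8 yc10 zc48) (kc xc12 yc27 zc5) (kc xc6 yc23 zc47) (kc xc4 yc17 zc49) (kc xc14 yc42 zc25) (kc xc4 yc17 zc50) (kc xc4 yc17 zc42) (kc xc12 yc26 zc21) (kc xc15 yc6 zc40) (kc xc15 yc6 zc41) (kc xc16 yc5 zc36) (kc xc4 yc17 zc46) (kc xc6 yc22 zc24) (kc xc4 yc17 zc44) (kc xc16 yc5 zc43) (kc xc16 yc5 zc42) (kc xc16 yc5 zc44) (kc xc4 yc17 zc45) (kc xc16 yc5 zc49) (kc xc16 yc5 zc48) (kc xc4 yc17 zc47) (kc xc16 yc5 zc53) (kc xc15 yc46 zc26) (kc xc4 yc17 zc48) (kc xc4 yc53 zc28) (kc xc4 yc17 zc53) (kc xc4 yc17 zc55)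 (kc xc16 yc5 zc57) (kc xc4 yc17 zc56) (kc xc9 yc24 zc23) (kc xc4 yc17 zc58) (kc xc8 yc22 zc31) (kc xc7 yc58 zc27) (kc xc4 yc17 zc61) (kc xc16 yc6 zc7) (kc xc16 yc6 zc6) (kc xc8 yc18 zc39) (kc xc8 yc35 zc56) (kc xc8 yc35 zc54) (kc xc8 yc23 zc27) (kc xc8 yc22 zc59) (kc xc4 yc18 zc10)) (@D3.rec (fun _ => Pt) (kc xc16 yc6 zc20) (kc xc4 yc18 zc3) (kc xc16 yc6 zc22) (kc xc9 yc35 zc28) (kc xc9 yc35 zc29) (kc xc16 yc6 zc32) (kc xc4 yc18 zc7) (kc xc16 yc6 zc33) (kc xc4 yc18 zc5) (kc xc14 yc54 zc24) (kc xc4 yc18 zc6) (kc xc4 yc18 zc8) (kc xc8 yc35 zc36) (kc xc4 yc18 zc9) (kc xc16 yc6 zc42) (kc xc4 yc53 zc35) (kc xc4 yc18 zc14) (kc xc8 yc22 zc40) (kc xc4 yc18 zc15) (kc xc12 yc14 zc51) (kc xc16 yc6 zc46) (kc xc4 yc18 zc16) (kc xc11 yc59 zc15) (kc xc8 yc22 zc3) (kc xc4 yc18 zc19)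 (kc xc9 yc37 zc12) (kc xc4 yc18 zc20) (kc xc12 yc14 zc52) (kc xc4 yc18 zc21) (kc xc6 yc48 zc46) (kc xc6 yc48 zc42) (kc xc6 yc3 zc53) (kc xc9 yc37 zc13) (kc xc4 yc51 zc55) (kc xc4 yc18 zc23) (kc xc15 yc49 zc5) (kc xc8 yc35 zc12) (kc xc9 yc28 zc14) (kc xc16 yc6 zc54) (kc xc4 yc18 zc25) (kc xc16 yc7 zc1) (kc xc4 yc46 zc23) (kc xc9 yc28 zc17) (kc xc8 yc22 zc39) (kc xc4 yc18 zc27) (kc xc16 yc7 zc2) (kc xc16 yc7 zc5) (kc xc4 yc18 zc29) (kc xc12 yc11 zc6) (kc xc4 yc18 zc31) (kc xc16 yc7 zc10) (kc xc16 yc7 zc9) (kc xc16 yc7 zc7) (kc xc4 yc18 zc34) (kc xc8 yc34 zc58) (kc xc8 yc34 zc19) (kc xc8 yc34 zc57) (kc xc8 yc33 zc10) (kc xc4 yc18 zc38) (kc xc16 yc7 zc16) (kc xc8 yc24 zc3) (kc xc4 yc18 zc40)) (@D3.rec (fun _ => Pt) (kc xc16 yc7 zc20) (kc xc16 yc7 zc21) (kc xc12 yc23 zc61)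 (kc xc8 yc33 zc54) (kc xc8 yc33 zc53) (kc xc8 yc22 zc44) (kc xc4 yc18 zc44) (kc xc9 yc11 zc32) (kc xc12 yc43 zc36) (kc xc10 yc50 zc21) (kc xc8 yc22 zc43) (kc xc4 yc18 zc46) (kc xc9 yc20 zc27) (kc xc15 yc36 zc36) (kc xc16 yc7 zc40) (kc xc8 yc32 zc59) (kc xc8 yc40 zc52) (kc xc8 yc18 zc3) (kc xc9 yc29 zc0) (kc xc11 yc51 zc16) (kc xc6 yc4 zc22) (kc xc8 yc32 zc42) (kc xc13 yc55 zc43) (kc xc15 yc56 zc45) (kc xc15 yc56 zc46) (kc xc16 yc7 zc53) (kc xc15 yc41 zc40) (kc xc4 yc18 zc52) (kc xc16 yc7 zc58) (kc xc15 yc33 zc31) (kc xc4 yc18 zc53) (kc xc16 yc8 zc2) (kc xc16 yc8 zc1) (kc xc5 yc19 zc3) (kc xc9 yc34 zc16) (kc xc4 yc18 zc61) (kc xc4 yc19 zc0) (kc xc4 yc19 zc1) (kc xc16 yc8 zc5) (kc xc15 yc34 zc50) (kc xc4 yc19 zc2) (kc xc16 yc8 zc8) (kc xc15 yc22 zc25) (kc xc11 yc9 zc1)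 (kc xc15 yc22 zc14) (kc xc15 yc22 zc15) (kc xc11 yc9 zc7) (kc xc16 yc8 zc11) (kc xc16 yc8 zc14) (kc xc8 yc53 zc59) (kc xc8 yc53 zc61) (kc xc16 yc8 zc23) (kc xc4 yc19 zc16) (kc xc9 yc41 zc59) (kc xc9 yc35 zc54) (kc xc11 yc9 zc19) (kc xc11 yc9 zc38) (kc xc11 yc9 zc39) (kc xc4 yc19 zc15) (kc xc16 yc8 zc29) (kc xc8 yc33 zc46) (kc xc4 yc22 zc27)) (@D3.rec (fun _ => Pt) (kc xc16 yc8 zc33) (kc xc4 yc19 zc20) (kc xc16 yc8 zc36) (kc xc8 yc54 zc15) (kc xc8 yc31 zc9) (kc xc8 yc53 zc42) (kc xc4 yc19 zc23) (kc xc8 yc25 zc10) (kc xc8 yc7 zc17) (kc xc4 yc19 zc25) (kc xc8 yc33 zc4) (kc xc8 yc33 zc3) (kc xc8 yc53 zc31) (kc xc4 yc19 zc29) (kc xc8 yc30 zc22) (kc xc8 yc30 zc20) (kc xc8 yc53 zc34) (kc xc4 yc19 zc32) (kc xc16 yc9 zc5) (kc xc16 yc9 zc4) (kc xc8 yc40 zc33) (kc xc8 yc53 zc22)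 (kc xc8 yc17 zc59) (kc xc8 yc20 zc30) (kc xc8 yc53 zc28) (kc xc8 yc17 zc60) (kc xc6 yc45 zc35) (kc xc8 yc53 zc43) (kc xc8 yc18 zc2) (kc xc16 yc9 zc26) (kc xc12 yc42 zc4) (kc xc4 yc19 zc38) (kc xc16 yc9 zc30) (kc xc16 yc9 zc32) (kc xc4 yc19 zc39) (kc xc16 yc9 zc37) (kc xc8 yc33 zc44) (kc xc16 yc9 zc39) (kc xc16 yc9 zc40) (kc xc4 yc19 zc45) (kc xc16 yc9 zc43) (kc xc5 yc46 zc28) (kc xc4 yc19 zc52) (kc xc8 yc27 zc17) (kc xc4 yc19 zc55) (kc xc16 yc9 zc49) (kc xc16 yc9 zc50) (kc xc16 yc9 zc48) (kc xc8 yc27 zc23) (kc xc4 yc19 zc57) (kc xc16 yc9 zc55) (kc xc16 yc9 zc57) (kc xc14 yc50 zc61) (kc xc10 yc30 zc32) (kc xc4 yc20 zc47) (kc xc4 yc20 zc6) (kc xc16 yc10 zc5) (kc xc16 yc10 zc9) (kc xc10 yc24 zc24) (kc xc16 yc10 zc14) (kc xc10 yc24 zc26) (kc xc8 yc39 zc10)) (@D3.rec (fun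 _ => Pt) (kc xc4 yc20 zc1) (kc xc16 yc10 zc20) (kc xc7 yc36 zc60) (kc xc4 yc20 zc3) (kc xc11 yc4 zc2) (kc xc15 yc29 zc42) (kc xc7 yc46 zc22) (kc xc16 yc10 zc25) (kc xc10 yc15 zc55) (kc xc14 yc48 zc7) (kc xc14 yc56 zc19) (kc xc8 yc38 zc11) (kc xc14 yc9 zc24) (kc xc4 yc35 zc25) (kc xc16 yc10 zc31) (kc xc9 yc47 zc31) (kc xc16 yc10 zc33) (kc xc15 yc50 zc18) (kc xc16 yc10 zc37) (kc xc16 yc10 zc39) (kc xc4 yc20 zc13) (kc xc16 yc10 zc42) (kc xc15 yc50 zc19) (kc xc16 yc10 zc47) (kc xc11 yc57 zc18) (kc xc16 yc10 zc41) (kc xc4 yc20 zc17) (kc xc16 yc10 zc60) (kc xc16 yc11 zc0) (kc xc16 yc10 zc58) (kc xc8 yc38 zc46) (kc xc6 yc5 zc11) (kc xc6 yc5 zc14) (kc xc4 yc20 zc26) (kc xc15 yc28 zc5) (kc xc11 yc53 zc16) (kc xc9 yc33 zc23) (kc xc4 yc20 zc41) (kc xc4 yc20 zc24) (kc xc8 yc11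 zc39) (kc xc4 yc20 zc57) (kc xc11 yc53 zc54) (kc xc16 yc11 zc33) (kc xc16 yc11 zc11) (kc xc16 yc11 zc39) (kc xc11 yc53 zc15) (kc xc8 yc38 zc30) (kc xc4 yc20 zc29) (kc xc5 yc21 zc39) (kc xc4 yc20 zc31) (kc xc11 yc57 zc19) (kc xc5 yc35 zc43) (kc xc11 yc3 zc21) (kc xc10 yc1 zc7) (kc xc7 yc29 zc47) (kc xc8 yc49 zc0) (kc xc13 yc59 zc31) (kc xc15 yc29 zc59) (kc xc16 yc11 zc55) (kc xc16 yc11 zc59) (kc xc16 yc11 zc61) (kc xc16 yc12 zc0)) (@D3.rec (fun _ => Pt) (kc xc4 yc20 zc39) (kc xc11 yc3 zc55) (kc xc16 yc12 zc5) (kc xc16 yc11 zc18) (kc xc15 yc29 zc41) (kc xc11 yc3 zc56) (kc xc4 yc20 zc44) (kc xc16 yc12 zc19) (kc xc16 yc12 zc22) (kc xc9 yc51 zc38) (kc xc8 yc37 zc61) (kc xc5 yc14 zc55) (kc xc15 yc29 zc60) (kc xc15 yc29 zc61) (kc xc16 yc10 zc1) (kc xc15 yc53 zc27) (kc xc15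 yc53 zc28) (kc xc13 yc32 zc2) (kc xc16 yc12 zc34) (kc xc16 yc12 zc39) (kc xc8 yc28 zc60) (kc xc16 yc12 zc44) (kc xc8 yc29 zc0) (kc xc10 yc16 zc18) (kc xc4 yc20 zc52) (kc xc16 yc10 zc19) (kc xc4 yc20 zc58) (kc xc10 yc37 zc11) (kc xc4 yc20 zc54) (kc xc16 yc12 zc58) (kc xc9 yc51 zc45) (kc xc10 yc32 zc54) (kc xc9 yc0 zc30) (kc xc16 yc9 zc52) (kc xc16 yc9 zc53) (kc xc16 yc11 zc25) (kc xc16 yc13 zc7) (kc xc16 yc13 zc11) (kc xc16 yc12 zc54) (kc xc16 yc13 zc16) (kc xc16 yc12 zc55) (kc xc8 yc47 zc61) (kc xc4 yc20 zc61) (kc xc11 yc2 zc40) (kc xc11 yc2 zc39) (kc xc8 yc2 zc49) (kc xc10 yc16 zc43) (kc xc4 yc21 zc1) (kc xc16 yc13 zc31) (kc xc5 yc21 zc13) (kc xc4 yc21 zc25) (kc xc4 yc21 zc4) (kc xc16 yc13 zc37) (kc xc9 yc34 zc11) (kc xc4 yc28 zc36) (kc xc4 yc21 zc7) (kc xc4 yc43 zc40)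 (kc xc15 yc0 zc40) (kc xc12 yc19 zc31) (kc xc4 yc51 zc49) (kc xc4 yc28 zc28) (kc xc4 yc21 zc12)) (@D3.rec (fun _ => Pt) (kc xc12 yc20 zc23) (kc xc16 yc13 zc48) (kc xc9 yc36 zc34) (kc xc4 yc28 zc16) (kc xc4 yc53 zc19) (kc xc16 yc13 zc60) (kc xc16 yc14 zc3) (kc xc4 yc22 zc8) (kc xc16 yc14 zc9) (kc xc4 yc22 zc10) (kc xc4 yc21 zc15) (kc xc16 yc14 zc12) (kc xc4 yc21 zc17) (kc xc16 yc7 zc15) (kc xc15 yc36 zc22) (kc xc9 yc33 zc46) (kc xc4 yc21 zc19) (kc xc9 yc34 zc61) (kc xc5 yc35 zc40) (kc xc16 yc9 zc41) (kc xc15 yc24 zc2) (kc xc9 yc33 zc53) (kc xc4 yc21 zc24) (kc xc9 yc35 zc38) (kc xc12 yc30 zc44) (kc xc12 yc51 zc8) (kc xc16 yc14 zc37) (kc xc11 yc17 zc37) (kc xc16 yc14 zc43) (kc xc9 yc36 zc39) (kc xc4 yc21 zc26) (kc xc16 yc14 zc47) (kc xc4 yc21 zc28) (kc xc8 yc37 zc20) (kc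 xc4 yc21 zc30) (kc xc15 yc34 zc43) (kc xc4 yc22 zc57) (kc xc4 yc51 zc29) (kc xc16 yc15 zc1) (kc xc16 yc15 zc5) (kc xc8 yc30 zc28) (kc xc16 yc15 zc10) (kc xc8 yc30 zc30) (kc xc4 yc23 zc37) (kc xc7 yc56 zc10) (kc xc5 yc1 zc12) (kc xc4 yc21 zc37) (kc xc4 yc21 zc35) (kc xc16 yc15 zc22) (kc xc4 yc21 zc36) (kc xc14 yc58 zc18) (kc xc16 yc15 zc24) (kc xc8 yc36 zc16) (kc xc4 yc21 zc41) (kc xc11 yc52 zc10) (kc xc4 yc21 zc40) (kc xc16 yc8 zc54) (kc xc16 yc15 zc32) (kc xc16 yc15 zc36) (kc xc16 yc15 zc26) (kc xc16 yc15 zc43) (kc xc16 yc15 zc28)) (@D3.rec (fun _ => Pt) (kc xc4 yc23 zc35) (kc xc4 yc56 zc49) (kc xc16 yc15 zc58) (kc xc4 yc21 zc46) (kc xc4 yc21 zc44) (kc xc16 yc16 zc1) (kc xc16 yc16 zc0) (kc xc4 yc21 zc45) (kc xc16 yc16 zc5) (kc xc16 yc16 zc8) (kc xc8 yc31 zc14) (kc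 xc10 yc40 zc33) (kc xc8 yc31 zc16) (kc xc4 yc23 zc15) (kc xc4 yc52 zc15) (kc xc8 yc1 zc29) (kc xc16 yc16 zc26) (kc xc4 yc21 zc53) (kc xc4 yc21 zc50) (kc xc16 yc16 zc30) (kc xc4 yc21 zc51) (kc xc16 yc16 zc35) (kc xc16 yc16 zc34) (kc xc16 yc16 zc36) (kc xc4 yc21 zc52) (kc xc15 yc22 zc53) (kc xc4 yc21 zc56) (kc xc10 yc38 zc40) (kc xc4 yc21 zc55) (kc xc12 yc26 zc52) (kc xc16 yc16 zc42) (kc xc16 yc16 zc44) (kc xc12 yc26 zc51) (kc xc11 yc13 zc35) (kc xc6 yc23 zc19) (kc xc4 yc23 zc9) (kc xc8 yc1 zc32) (kc xc4 yc52 zc28) (kc xc15 yc10 zc19) (kc xc4 yc21 zc61) (kc xc4 yc21 zc59) (kc xc9 yc53 zc51) (kc xc16 yc17 zc2) (kc xc4 yc21 zc60) (kc xc9 yc53 zc52) (kc xc16 yc17 zc6) (kc xc16 yc17 zc10) (kc xc15 yc34 zc10) (kc xc16 yc17 zc15) (kc xc15 yc34 zc12) (kc xc4 yc23 zc5) (kc xc16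 yc17 zc25) (kc xc4 yc52 zc58) (kc xc16 yc17 zc27) (kc xc16 yc5 zc20) (kc xc16 yc17 zc32) (kc xc4 yc22 zc3) (kc xc16 yc17 zc41) (kc xc16 yc17 zc38) (kc xc4 yc22 zc58) (kc xc15 yc12 zc56) (kc xc4 yc53 zc2)) (@D3.rec (fun _ => Pt) (kc xc16 yc13 zc57) (kc xc16 yc17 zc51) (kc xc4 yc52 zc39) (kc xc4 yc22 zc6) (kc xc16 yc17 zc60) (kc xc12 yc12 zc5) (kc xc16 yc17 zc58) (kc xc16 yc1 zc44) (kc xc4 yc22 zc7) (kc xc16 yc18 zc8) (kc xc16 yc18 zc7) (kc xc16 yc18 zc12) (kc xc13 yc4 zc38) (kc xc16 yc18 zc15) (kc xc4 yc22 zc9) (kc xc16 yc18 zc19) (kc xc12 yc35 zc34) (kc xc16 yc18 zc27) (kc xc4 yc22 zc50) (kc xc16 yc18 zc31) (kc xc4 yc22 zc34) (kc xc15 yc7 zc46) (kc xc15 yc7 zc47) (kc xc14 yc59 zc22) (kc xc4 yc53 zc17) (kc xc4 yc53 zc18) (kc xc16 yc18 zc51) (kc xc4 yc22 zc15) (kc xc16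 yc18 zc54) (kc xc16 yc18 zc53) (kc xc4 yc22 zc16) (kc xc16 yc18 zc57) (kc xc16 yc18 zc56) (kc xc8 yc17 zc31) (kc xc4 yc22 zc22) (kc xc4 yc22 zc19) (kc xc8 yc17 zc40) (kc xc8 yc17 zc41) (kc xc15 yc36 zc1) (kc xc16 yc19 zc4) (kc xc16 yc19 zc8) (kc xc16 yc18 zc61) (kc xc16 yc19 zc0) (kc xc10 yc19 zc53) (kc xc4 yc22 zc25) (kc xc4 yc22 zc24) (kc xc16 yc15 zc20) (kc xc5 yc37 zc60) (kc xc5 yc37 zc26) (kc xc5 yc1 zc18) (kc xc5 yc1 zc24) (kc xc15 yc23 zc30) (kc xc4 yc22 zc47) (kc xc11 yc7 zc4) (kc xc16 yc19 zc26) (kc xc5 yc46 zc49) (kc xc16 yc19 zc29) (kc xc16 yc19 zc31) (kc xc4 yc22 zc32) (kc xc16 yc19 zc36) (kc xc11 yc8 zc0) (kc xc11 yc7 zc29)) (@D3.rec (fun _ => Pt) (kc xc16 yc19 zc40) (kc xc16 yc19 zc42) (kc xc16 yc19 zc46) (kc xc16 yc19 zc51) (kc xc16 yc18 zc36) (kc xc8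 yc43 zc5) (kc xc5 yc0 zc29) (kc xc4 yc22 zc37) (kc xc4 yc31 zc15) (kc xc8 yc21 zc20) (kc xc4 yc22 zc42) (kc xc15 yc27 zc20) (kc xc4 yc22 zc41) (kc xc8 yc21 zc32) (kc xc15 yc42 zc18) (kc xc13 yc52 zc51) (kc xc16 yc3 zc9) (kc xc16 yc19 zc56) (kc xc16 yc19 zc58) (kc xc16 yc20 zc11) (kc xc4 yc22 zc45) (kc xc4 yc22 zc44) (kc xc10 yc16 zc58) (kc xc9 yc1 zc20) (kc xc10 yc16 zc61) (kc xc8 yc3 zc38) (kc xc16 yc20 zc16) (kc xc16 yc20 zc18) (kc xc16 yc20 zc21) (kc xc4 yc22 zc49) (kc xc16 yc20 zc24) (kc xc16 yc20 zc27) (kc xc16 yc20 zc31) (kc xc16 yc18 zc29) (kc xc8 yc49 zc21) (kc xc16 yc20 zc35) (kc xc16 yc20 zc36) (kc xc16 yc20 zc38) (kc xc4 yc22 zc54) (kc xc9 yc54 zc52) (kc xc8 yc44 zc19) (kc xc9 yc52 zc60) (kc xc16 yc20 zc42) (kc xc11 yc9 zc47) (kc xc16 yc14 zc60) (kc xc16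 yc20 zc50) (kc xc16 yc20 zc54) (kc xc9 yc56 zc29) (kc xc15 yc11 zc6) (kc xc16 yc20 zc58) (kc xc4 yc22 zc60) (kc xc16 yc20 zc60) (kc xc16 yc21 zc0) (kc xc4 yc24 zc51) (kc xc16 yc21 zc3) (kc xc5 yc13 zc19) (kc xc4 yc23 zc4) (kc xc16 yc21 zc6) (kc xc16 yc21 zc10) (kc xc16 yc17 zc22) (kc xc4 yc32 zc7) (kc xc9 yc53 zc6)) (@D3.rec (fun _ => Pt) (kc xc15 yc11 zc7) (kc xc5 yc8 zc48) (kc xc16 yc21 zc20) (kc xc16 yc16 zc56) (kc xc4 yc23 zc10) (kc xc5 yc23 zc2) (kc xc13 yc30 zc58) (kc xc16 yc21 zc25) (kc xc8 yc48 zc13) (kc xc10 yc31 zc47) (kc xc10 yc39 zc9) (kc xc4 yc23 zc14) (kc xc16 yc17 zc19) (kc xc16 yc17 zc20) (kc xc16 yc16 zc20) (kc xc16 yc21 zc35) (kc xc4 yc57 zc6) (kc xc13 yc30 zc36) (kc xc16 yc21 zc39) (kc xc8 yc43 zc40) (kc xc10 yc39 zc32) (kc xc4 yc23 zc22) (kc xc8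 yc52 zc30) (kc xc16 yc21 zc43) (kc xc10 yc18 zc11) (kc xc16 yc21 zc44) (kc xc12 yc23 zc45) (kc xc10 yc31 zc38) (kc xc4 yc23 zc26) (kc xc10 yc14 zc47) (kc xc4 yc33 zc4) (kc xc10 yc28 zc40) (kc xc10 yc39 zc34) (kc xc4 yc23 zc27) (kc xc16 yc21 zc54) (kc xc16 yc21 zc56) (kc xc4 yc23 zc28) (kc xc5 yc18 zc24) (kc xc16 yc21 zc61) (kc xc4 yc23 zc29) (kc xc5 yc18 zc33) (kc xc16 yc22 zc6) (kc xc11 yc59 zc16) (kc xc4 yc23 zc38) (kc xc10 yc31 zc37) (kc xc4 yc23 zc31) (kc xc4 yc23 zc32) (kc xc4 yc27 zc31) (kc xc10 yc9 zc32) (kc xc16 yc22 zc13) (kc xc5 yc0 zc3) (kc xc16 yc22 zc23) (kc xc16 yc22 zc24) (kc xc4 yc23 zc34) (kc xc14 yc42 zc58) (kc xc16 yc18 zc33) (kc xc16 yc18 zc34) (kc xc16 yc22 zc37) (kc xc16 yc15 zc52) (kc xc16 yc22 zc39) (kc xc4 yc23 zc36) (kc xc16 yc22 zc44)) (@D3.rec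 (fun _ => Pt) (kc xc9 yc53 zc53) (kc xc14 yc15 zc20) (kc xc16 yc15 zc17) (kc xc15 yc14 zc42) (kc xc16 yc22 zc54) (kc xc8 yc28 zc5) (kc xc5 yc2 zc3) (kc xc8 yc1 zc10) (kc xc8 yc1 zc11) (kc xc16 yc23 zc2) (kc xc4 yc23 zc42) (kc xc16 yc23 zc6) (kc xc4 yc23 zc40) (kc xc16 yc23 zc13) (kc xc16 yc23 zc11) (kc xc16 yc23 zc17) (kc xc4 yc23 zc41) (kc xc16 yc23 zc21) (kc xc16 yc23 zc20) (kc xc14 yc58 zc2) (kc xc9 yc38 zc30) (kc xc9 yc38 zc31) (kc xc16 yc23 zc30) (kc xc4 yc23 zc44) (kc xc4 yc23 zc45) (kc xc7 yc6 zc24) (kc xc5 yc43 zc57) (kc xc11 yc17 zc32) (kc xc16 yc23 zc36) (kc xc4 yc39 zc38) (kc xc4 yc39 zc39) (kc xc16 yc23 zc41) (kc xc6 yc14 zc14) (kc xc4 yc23 zc51) (kc xc14 yc1 zc54) (kc xc6 yc14 zc22) (kc xc6 yc14 zc23) (kc xc6 yc13 zc60) (kc xc4 yc31 zc2) (kc xc16 yc23 zc50)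 (kc xc4 yc23 zc58) (kc xc8 yc50 zc28) (kc xc4 yc23 zc59) (kc xc16 yc23 zc53) (kc xc4 yc23 zc60) (kc xc16 yc23 zc58) (kc xc4 yc35 zc15) (kc xc4 yc35 zc18) (kc xc6 yc2 zc12) (kc xc4 yc24 zc0) (kc xc16 yc24 zc2) (kc xc16 yc24 zc5) (kc xc16 yc24 zc1) (kc xc11 yc7 zc28) (kc xc11 yc9 zc56) (kc xc14 yc55 zc15) (kc xc6 yc24 zc49) (kc xc16 yc24 zc8) (kc xc14 yc53 zc56) (kc xc6 yc24 zc52) (kc xc7 yc21 zc52) (kc xc7 yc21 zc53)) (@D3.rec (fun _ => Pt) (kc xc13 yc57 zc46) (kc xc16 yc24 zc15) (kc xc11 yc37 zc42) (kc xc4 yc24 zc13) (kc xc4 yc24 zc12) (kc xc16 yc24 zc18) (kc xc16 yc24 zc22) (kc xc4 yc24 zc15) (kc xc16 yc24 zc23) (kc xc11 yc6 zc49) (kc xc16 yc21 zc30) (kc xc4 yc24 zc17) (kc xc16 yc24 zc29) (kc xc16 yc24 zc33) (kc xc4 yc24 zc19) (kc xc16 yc24 zc34) (kc xc8 yc49 zc45)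 (kc xc4 yc24 zc20) (kc xc13 yc19 zc7) (kc xc8 yc48 zc1) (kc xc4 yc24 zc22) (kc xc16 yc24 zc46) (kc xc16 yc24 zc50) (kc xc16 yc24 zc55) (kc xc16 yc24 zc44) (kc xc8 yc50 zc27) (kc xc4 yc24 zc23) (kc xc14 yc5 zc13) (kc xc16 yc24 zc61) (kc xc14 yc59 zc30) (kc xc12 yc31 zc3) (kc xc16 yc25 zc5) (kc xc14 yc59 zc33) (kc xc14 yc5 zc14) (kc xc4 yc24 zc26) (kc xc16 yc25 zc11) (kc xc14 yc1 zc56) (kc xc13 yc52 zc45) (kc xc13 yc57 zc43) (kc xc4 yc24 zc43) (kc xc4 yc35 zc11) (kc xc16 yc25 zc21) (kc xc4 yc24 zc35) (kc xc16 yc25 zc23) (kc xc5 yc55 zc52) (kc xc4 yc24 zc37) (kc xc16 yc25 zc33) (kc xc16 yc25 zc36) (kc xc16 yc25 zc31) (kc xc8 yc58 zc16) (kc xc16 yc25 zc41) (kc xc9 yc46 zc57) (kc xc16 yc25 zc46) (kc xc16 yc25 zc49) (kc xc9 yc46 zc60) (kc xc7 yc57 zc9) (kc xc16 yc25 zc56)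 (kc xc4 yc24 zc44) (kc xc16 yc25 zc58) (kc xc12 yc5 zc20) (kc xc16 yc26 zc2) (kc xc7 yc17 zc30)) (@D3.rec (fun _ => Pt) (kc xc9 yc25 zc37) (kc xc4 yc24 zc47) (kc xc16 yc26 zc7) (kc xc12 yc6 zc9) (kc xc12 yc6 zc14) (kc xc4 yc24 zc49) (kc xc16 yc26 zc18) (kc xc16 yc26 zc19) (kc xc16 yc26 zc24) (kc xc16 yc26 zc16) (kc xc16 yc26 zc26) (kc xc16 yc26 zc27) (kc xc16 yc26 zc30) (kc xc16 yc26 zc33) (kc xc4 yc24 zc52) (kc xc16 yc26 zc37) (kc xc13 yc52 zc49) (kc xc16 yc26 zc45) (kc xc12 yc22 zc37) (kc xc10 yc58 zc46) (kc xc16 yc26 zc49) (kc xc14 yc59 zc42) (kc xc16 yc26 zc52) (kc xc16 yc26 zc55) (kc xc4 yc24 zc56) (kc xc16 yc26 zc61) (kc xc4 yc24 zc58) (kc xc15 yc20 zc19) (kc xc16 yc27 zc4) (kc xc4 yc24 zc60) (kc xc16 yc27 zc7) (kc xc16 yc27 zc11) (kc xc4 yc24 zc61) (kc xc16 yc27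 zc14) (kc xc16 yc27 zc18) (kc xc4 yc25 zc0) (kc xc15 yc18 zc7) (kc xc4 yc25 zc34) (kc xc4 yc25 zc35) (kc xc16 yc26 zc35) (kc xc4 yc58 zc10) (kc xc4 yc25 zc2) (kc xc16 yc27 zc31) (kc xc5 yc50 zc58) (kc xc14 yc18 zc22) (kc xc4 yc25 zc4) (kc xc15 yc54 zc11) (kc xc13 yc33 zc12) (kc xc4 yc25 zc6) (kc xc16 yc27 zc42) (kc xc11 yc20 zc46) (kc xc16 yc27 zc49) (kc xc8 yc48 zc33) (kc xc5 yc41 zc18) (kc xc16 yc27 zc54) (kc xc8 yc48 zc35) (kc xc16 yc10 zc56) (kc xc16 yc10 zc57) (kc xc4 yc25 zc9) (kc xc16 yc28 zc1) (kc xc11 yc34 zc44) (kc xc8 yc39 zc41)) (@D3.rec (fun _ => Pt) (kc xc11 yc41 zc19) (kc xc8 yc46 zc19) (kc xc4 yc25 zc15) (kc xc14 yc37 zc52) (kc xc6 yc4 zc15) (kc xc15 yc7 zc53) (kc xc5 yc58 zc19) (kc xc4 yc25 zc18) (kc xc16 yc28 zc12) (kc xc16 yc28 zc15) (kc xc4 yc25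 zc20) (kc xc16 yc28 zc17) (kc xc7 yc56 zc57) (kc xc8 yc44 zc8) (kc xc5 yc59 zc49) (kc xc4 yc25 zc22) (kc xc6 yc17 zc10) (kc xc4 yc25 zc23) (kc xc16 yc28 zc25) (kc xc6 yc24 zc24) (kc xc5 yc58 zc17) (kc xc4 yc25 zc25) (kc xc16 yc28 zc30) (kc xc16 yc28 zc31) (kc xc15 yc35 zc46) (kc xc16 yc28 zc29) (kc xc16 yc28 zc36) (kc xc15 yc7 zc59) (kc xc4 yc25 zc27) (kc xc16 yc28 zc40) (kc xc4 yc25 zc28) (kc xc16 yc28 zc44) (kc xc16 yc28 zc49) (kc xc8 yc47 zc52) (kc xc16 yc28 zc51) (kc xc8 yc47 zc55) (kc xc16 yc26 zc57) (kc xc16 yc26 zc58) (kc xc4 yc25 zc32) (kc xc10 yc51 zc30) (kc xc14 yc18 zc27) (kc xc16 yc27 zc24) (kc xc13 yc40 zc29) (kc xc15 yc53 zc17) (kc xc4 yc58 zc7) (kc xc4 yc58 zc8) (kc xc15 yc35 zc47) (kc xc6 yc9 zc17) (kc xc4 yc25 zc37) (kc xc16 yc29 zc8) (kc xc4 yc25 zc38)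 (kc xc16 yc29 zc11) (kc xc16 yc29 zc16) (kc xc4 yc58 zc30) (kc xc4 yc25 zc41) (kc xc4 yc31 zc43) (kc xc11 yc7 zc52) (kc xc6 yc17 zc7) (kc xc4 yc57 zc25) (kc xc4 yc30 zc36) (kc xc13 yc46 zc29) (kc xc14 yc56 zc22)) (@D3.rec (fun _ => Pt) (kc xc8 yc38 zc55) (kc xc6 yc10 zc52) (kc xc8 yc12 zc1) (kc xc10 yc17 zc10) (kc xc4 yc25 zc57) (kc xc4 yc25 zc51) (kc xc16 yc29 zc28) (kc xc6 yc24 zc45) (kc xc6 yc15 zc38) (kc xc5 yc43 zc38) (kc xc11 yc7 zc25) (kc xc5 yc38 zc20) (kc xc16 yc29 zc37) (kc xc16 yc29 zc39) (kc xc4 yc25 zc56) (kc xc16 yc29 zc44) (kc xc16 yc29 zc46) (kc xc4 yc25 zc59) (kc xc16 yc29 zc48) (kc xc16 yc29 zc55) (kc xc6 yc10 zc54) (kc xc8 yc43 zc34) (kc xc14 yc46 zc6) (kc xc4 yc26 zc5) (kc xc16 yc29 zc47) (kc xc4 yc38 zc7) (kc xc4 yc26 zc2) (kc xc16 yc30 zc2) (kc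 xc16 yc30 zc6) (kc xc5 yc38 zc5) (kc xc14 yc27 zc16) (kc xc14 yc27 zc39) (kc xc4 yc26 zc4) (kc xc16 yc30 zc14) (kc xc11 yc37 zc13) (kc xc4 yc26 zc6) (kc xc11 yc11 zc38) (kc xc8 yc0 zc54) (kc xc5 yc46 zc47) (kc xc14 yc19 zc50) (kc xc4 yc26 zc9) (kc xc11 yc11 zc24) (kc xc16 yc30 zc22) (kc xc6 yc8 zc34) (kc xc9 yc17 zc59) (kc xc8 yc46 zc16) (kc xc5 yc51 zc1) (kc xc4 yc26 zc12) (kc xc11 yc7 zc8) (kc xc13 yc20 zc4) (kc xc9 yc51 zc3) (kc xc11 yc37 zc14) (kc xc4 yc26 zc13) (kc xc16 yc30 zc33) (kc xc16 yc30 zc32) (kc xc4 yc38 zc1) (kc xc4 yc26 zc15) (kc xc11 yc47 zc15) (kc xc11 yc47 zc14) (kc xc9 yc50 zc61) (kc xc12 yc36 zc19) (kc xc7 yc6 zc7)) (@D3.rec (fun _ => Pt) (kc xc6 yc24 zc43) (kc xc6 yc15 zc17) (kc xc4 yc26 zc37) (kc xc6 yc25 zc50) (kc xc6 yc39 zc6) (kc xc16 yc30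 zc45) (kc xc16 yc30 zc46) (kc xc16 yc30 zc48) (kc xc4 yc26 zc24) (kc xc4 yc26 zc25) (kc xc9 yc13 zc12) (kc xc10 yc15 zc4) (kc xc9 yc1 zc50) (kc xc11 yc12 zc19) (kc xc16 yc3 zc34) (kc xc16 yc30 zc50) (kc xc16 yc31 zc3) (kc xc16 yc31 zc7) (kc xc16 yc31 zc12) (kc xc9 yc47 zc3) (kc xc16 yc31 zc14) (kc xc5 yc7 zc12) (kc xc16 yc31 zc17) (kc xc16 yc31 zc19) (kc xc4 yc26 zc27) (kc xc4 yc26 zc28) (kc xc16 yc31 zc25) (kc xc8 yc46 zc25) (kc xc8 yc45 zc41) (kc xc5 yc59 zc47) (kc xc4 yc26 zc30) (kc xc16 yc31 zc34) (kc xc16 yc31 zc37) (kc xc16 yc31 zc41) (kc xc16 yc31 zc32) (kc xc16 yc31 zc44) (kc xc6 yc14 zc51) (kc xc16 yc31 zc47) (kc xc16 yc31 zc50) (kc xc6 yc14 zc54) (kc xc16 yc25 zc8) (kc xc16 yc25 zc9) (kc xc4 yc26 zc33) (kc xc16 yc31 zc57) (kc xc12 yc49 zc29) (kc xc4 yc26 zc36)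 (kc xc11 yc13 zc18) (kc xc14 yc46 zc33) (kc xc12 yc8 zc58) (kc xc16 yc32 zc7) (kc xc11 yc13 zc19) (kc xc12 yc53 zc3) (kc xc16 yc32 zc14) (kc xc8 yc1 zc23) (kc xc16 yc32 zc20) (kc xc16 yc32 zc23) (kc xc8 yc1 zc26) (kc xc16 yc32 zc26) (kc xc16 yc32 zc29) (kc xc4 yc26 zc41) (kc xc16 yc32 zc35) (kc xc16 yc32 zc37)) (@D3.rec (fun _ => Pt) (kc xc16 yc32 zc38) (kc xc4 yc26 zc43) (kc xc16 yc32 zc47) (kc xc16 yc32 zc44) (kc xc16 yc32 zc42) (kc xc16 yc32 zc57) (kc xc4 yc26 zc46) (kc xc16 yc33 zc0) (kc xc16 yc33 zc2) (kc xc4 yc26 zc45) (kc xc16 yc33 zc8) (kc xc16 yc32 zc16) (kc xc16 yc32 zc60) (kc xc14 yc37 zc58) (kc xc12 yc45 zc35) (kc xc4 yc26 zc47) (kc xc16 yc33 zc17) (kc xc12 yc46 zc24) (kc xc16 yc33 zc14) (kc xc16 yc33 zc23) (kc xc4 yc26 zc50) (kc xc4 yc26 zc49) (kc xc16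 yc33 zc27) (kc xc11 yc13 zc44) (kc xc16 yc33 zc29) (kc xc12 yc22 zc34) (kc xc16 yc33 zc31) (kc xc16 yc33 zc32) (kc xc16 yc33 zc37) (kc xc8 yc2 zc36) (kc xc16 yc33 zc39) (kc xc16 yc33 zc42) (kc xc8 yc2 zc39) (kc xc16 yc33 zc46) (kc xc16 yc33 zc47) (kc xc4 yc26 zc54) (kc xc16 yc33 zc53) (kc xc16 yc33 zc54) (kc xc4 yc26 zc55) (kc xc16 yc33 zc57) (kc xc16 yc33 zc61) (kc xc4 yc26 zc57) (kc xc16 yc34 zc2) (kc xc13 yc42 zc20) (kc xc4 yc26 zc59) (kc xc16 yc34 zc8) (kc xc4 yc26 zc60) (kc xc16 yc34 zc13) (kc xc6 yc13 zc38) (kc xc6 yc13 zc39) (kc xc16 yc31 zc22) (kc xc6 yc13 zc11) (kc xc14 yc22 zc60) (kc xc4 yc27 zc1) (kc xc16 yc34 zc29) (kc xc4 yc27 zc2) (kc xc4 yc39 zc48) (kc xc13 yc31 zc29) (kc xc4 yc27 zc5) (kc xc16 yc34 zc37) (kc xc4 yc27 zc7) (kc xc4 yc27 zc8)) (@D3.rec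 (fun _ => Pt) (kc xc16 yc34 zc42) (kc xc15 yc0 zc37) (kc xc4 yc27 zc18) (kc xc5 yc22 zc13) (kc xc9 yc58 zc19) (kc xc5 yc19 zc15) (kc xc10 yc15 zc36) (kc xc4 yc27 zc13) (kc xc16 yc34 zc55) (kc xc5 yc19 zc21) (kc xc15 yc24 zc25) (kc xc4 yc27 zc15) (kc xc16 yc35 zc2) (kc xc16 yc35 zc4) (kc xc16 yc35 zc1) (kc xc9 yc51 zc59) (kc xc15 yc1 zc48) (kc xc9 yc39 zc24) (kc xc10 yc23 zc49) (kc xc15 yc24 zc21) (kc xc9 yc39 zc25) (kc xc16 yc35 zc20) (kc xc16 yc35 zc24) (kc xc10 yc28 zc12) (kc xc9 yc17 zc37) (kc xc9 yc58 zc18) (kc xc15 yc24 zc18) (kc xc15 yc25 zc55) (kc xc4 yc27 zc21) (kc xc5 yc19 zc48) (kc xc8 yc44 zc22) (kc xc12 yc22 zc5) (kc xc5 yc19 zc56) (kc xc8 yc11 zc40) (kc xc4 yc27 zc25) (kc xc16 yc21 zc50) (kc xc16 yc22 zc4) (kc xc16 yc35 zc42) (kc xc5 yc18 zc1) (kc xc8 yc11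 zc34) (kc xc15 yc30 zc57) (kc xc5 yc1 zc41) (kc xc8 yc11 zc27) (kc xc5 yc1 zc40) (kc xc16 yc35 zc55) (kc xc16 yc35 zc59) (kc xc8 yc5 zc34) (kc xc16 yc36 zc3) (kc xc8 yc5 zc36) (kc xc8 yc11 zc20) (kc xc8 yc11 zc12) (kc xc4 yc27 zc29) (kc xc16 yc36 zc8) (kc xc8 yc10 zc59) (kc xc11 yc5 zc5) (kc xc4 yc27 zc33) (kc xc16 yc36 zc20) (kc xc16 yc36 zc19) (kc xc7 yc58 zc29) (kc xc4 yc53 zc20) (kc xc4 yc27 zc35) (kc xc16 yc36 zc31)) (@D3.rec (fun _ => Pt) (kc xc16 yc36 zc30) (kc xc4 yc55 zc18) (kc xc15 yc24 zc3) (kc xc4 yc55 zc16) (kc xc8 yc26 zc57) (kc xc15 yc24 zc0) (kc xc8 yc26 zc56) (kc xc16 yc36 zc47) (kc xc16 yc36 zc52) (kc xc5 yc21 zc2) (kc xc16 yc36 zc58) (kc xc5 yc21 zc4) (kc xc15 yc24 zc10) (kc xc15 yc24 zc9) (kc xc15 yc48 zc31) (kc xc4 yc27 zc41) (kc xc4 yc27 zc52)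 (kc xc4 yc27 zc43) (kc xc15 yc1 zc40) (kc xc15 yc1 zc41) (kc xc11 yc6 zc0) (kc xc5 yc22 zc45) (kc xc8 yc37 zc21) (kc xc4 yc27 zc47) (kc xc16 yc37 zc23) (kc xc16 yc37 zc24) (kc xc16 yc37 zc22) (kc xc4 yc28 zc55) (kc xc8 yc37 zc24) (kc xc4 yc27 zc49) (kc xc9 yc0 zc36) (kc xc8 yc37 zc12) (kc xc9 yc0 zc35) (kc xc5 yc29 zc53) (kc xc8 yc37 zc16) (kc xc9 yc41 zc0) (kc xc16 yc37 zc50) (kc xc16 yc37 zc54) (kc xc16 yc37 zc9) (kc xc12 yc54 zc18) (kc xc16 yc37 zc10) (kc xc8 yc10 zc49) (kc xc8 yc37 zc5) (kc xc8 yc37 zc27) (kc xc9 yc41 zc3) (kc xc9 yc41 zc4) (kc xc16 yc38 zc19) (kc xc4 yc27 zc58) (kc xc4 yc27 zc55) (kc xc4 yc27 zc56) (kc xc16 yc38 zc25) (kc xc16 yc38 zc26) (kc xc4 yc27 zc57) (kc xc16 yc38 zc31) (kc xc5 yc9 zc26) (kc xc8 yc11 zc42) (kc xc5 yc10 zc32) (kc xc16 yc38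 zc40) (kc xc15 yc22 zc28) (kc xc8 yc36 zc49) (kc xc16 yc38 zc50) (kc xc8 yc36 zc50)) (@D3.rec (fun _ => Pt) (kc xc15 yc47 zc51) (kc xc15 yc51 zc26) (kc xc9 yc0 zc59) (kc xc16 yc39 zc5) (kc xc4 yc28 zc3) (kc xc4 yc28 zc1) (kc xc16 yc39 zc8) (kc xc4 yc28 zc2) (kc xc4 yc28 zc8) (kc xc4 yc28 zc5) (kc xc15 yc2 zc11) (kc xc15 yc2 zc12) (kc xc10 yc10 zc0) (kc xc16 yc39 zc16) (kc xc9 yc0 zc29) (kc xc8 yc37 zc3) (kc xc5 yc32 zc14) (kc xc16 yc39 zc29) (kc xc16 yc39 zc32) (kc xc16 yc39 zc13) (kc xc4 yc30 zc24) (kc xc16 yc39 zc14) (kc xc8 yc24 zc11) (kc xc8 yc24 zc19) (kc xc9 yc37 zc1) (kc xc9 yc42 zc2) (kc xc9 yc42 zc3) (kc xc16 yc39 zc53) (kc xc4 yc28 zc14) (kc xc4 yc28 zc11) (kc xc16 yc39 zc57) (kc xc4 yc28 zc12) (kc xc16 yc39 zc61) (kc xc16 yc39 zc60) (kc xc4 yc28 zc13) (kc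 xc15 yc21 zc15) (kc xc15 yc20 zc31) (kc xc15 yc9 zc23) (kc xc16 yc40 zc8) (kc xc15 yc9 zc24) (kc xc16 yc13 zc55) (kc xc15 yc51 zc43) (kc xc9 yc43 zc56) (kc xc16 yc40 zc24) (kc xc4 yc28 zc21) (kc xc4 yc28 zc18) (kc xc16 yc40 zc28) (kc xc4 yc28 zc19) (kc xc13 yc7 zc60) (kc xc16 yc40 zc31) (kc xc16 yc40 zc34) (kc xc16 yc40 zc36) (kc xc4 yc28 zc22) (kc xc16 yc40 zc40) (kc xc4 yc28 zc25) (kc xc8 yc24 zc24) (kc xc16 yc40 zc45) (kc xc12 yc56 zc5) (kc xc16 yc40 zc50) (kc xc16 yc40 zc53) (kc xc4 yc28 zc26) (kc xc16 yc40 zc58)) (@D3.rec (fun _ => Pt) (kc xc9 yc12 zc9) (kc xc4 yc28 zc29) (kc xc9 yc12 zc8) (kc xc7 yc46 zc56) (kc xc16 yc41 zc3) (kc xc4 yc30 zc19) (kc xc7 yc58 zc54) (kc xc16 yc41 zc15) (kc xc4 yc28 zc30) (kc xc16 yc4 zc45) (kc xc16 yc41 zc21) (kc xc16 yc41 zc22)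 (kc xc16 yc41 zc30) (kc xc4 yc28 zc31) (kc xc16 yc41 zc34) (kc xc16 yc41 zc33) (kc xc16 yc41 zc41) (kc xc15 yc42 zc32) (kc xc16 yc41 zc46) (kc xc4 yc28 zc33) (kc xc16 yc41 zc52) (kc xc16 yc41 zc53) (kc xc4 yc30 zc35) (kc xc16 yc42 zc0) (kc xc15 yc36 zc35) (kc xc16 yc42 zc6) (kc xc16 yc13 zc41) (kc xc16 yc41 zc50) (kc xc4 yc28 zc38) (kc xc16 yc42 zc18) (kc xc16 yc42 zc22) (kc xc16 yc42 zc17) (kc xc15 yc48 zc33) (kc xc16 yc8 zc39) (kc xc15 yc25 zc57) (kc xc16 yc42 zc35) (kc xc15 yc29 zc31) (kc xc4 yc28 zc41) (kc xc16 yc42 zc41) (kc xc16 yc42 zc40) (kc xc4 yc28 zc42) (kc xc16 yc42 zc44) (kc xc5 yc39 zc2) (kc xc8 yc19 zc27) (kc xc4 yc28 zc44) (kc xc16 yc42 zc53) (kc xc16 yc42 zc52) (kc xc10 yc35 zc27) (kc xc8 yc19 zc28) (kc xc4 yc28 zc46) (kc xc15 yc17 zc33) (kc xc8 yc17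 zc10) (kc xc9 yc0 zc32) (kc xc8 yc17 zc11) (kc xc16 yc43 zc7) (kc xc5 yc39 zc23) (kc xc4 yc28 zc59) (kc xc16 yc43 zc14) (kc xc8 yc17 zc38) (kc xc8 yc17 zc37) (kc xc15 yc34 zc40) (kc xc8 yc17 zc14)) (@D3.rec (fun _ => Pt) (kc xc8 yc17 zc15) (kc xc13 yc36 zc23) (kc xc4 yc28 zc54) (kc xc4 yc28 zc52) (kc xc4 yc28 zc53) (kc xc16 yc43 zc27) (kc xc16 yc43 zc28) (kc xc16 yc43 zc30) (kc xc16 yc37 zc27) (kc xc16 yc37 zc29) (kc xc5 yc52 zc30) (kc xc9 yc0 zc48) (kc xc4 yc28 zc57) (kc xc16 yc43 zc42) (kc xc16 yc43 zc48) (kc xc4 yc28 zc58) (kc xc16 yc43 zc51) (kc xc8 yc2 zc19) (kc xc16 yc43 zc53) (kc xc16 yc43 zc56) (kc xc4 yc28 zc60) (kc xc4 yc28 zc61) (kc xc15 yc57 zc8) (kc xc15 yc2 zc2) (kc xc10 yc19 zc11) (kc xc4 yc29 zc3) (kc xc5 yc35 zc41) (kc xc8 yc31 zc18) (kc xc4 yc29 zc6)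 (kc xc5 yc22 zc57) (kc xc9 yc41 zc43) (kc xc8 yc9 zc35) (kc xc5 yc29 zc42) (kc xc16 yc44 zc27) (kc xc5 yc36 zc45) (kc xc4 yc29 zc17) (kc xc16 yc44 zc35) (kc xc4 yc29 zc19) (kc xc15 yc56 zc54) (kc xc9 yc41 zc47) (kc xc8 yc10 zc15) (kc xc4 yc29 zc12) (kc xc16 yc44 zc43) (kc xc8 yc9 zc46) (kc xc4 yc29 zc15) (kc xc16 yc44 zc50) (kc xc16 yc44 zc54) (kc xc4 yc29 zc16) (kc xc16 yc44 zc58) (kc xc16 yc45 zc0) (kc xc16 yc44 zc32) (kc xc16 yc45 zc3) (kc xc16 yc45 zc6) (kc xc4 yc29 zc18) (kc xc5 yc34 zc28) (kc xc16 yc45 zc13) (kc xc16 yc45 zc16) (kc xc16 yc45 zc19) (kc xc10 yc53 zc14) (kc xc12 yc14 zc5) (kc xc4 yc29 zc23) (kc xc15 yc19 zc7)) (@D3.rec (fun _ => Pt) (kc xc8 yc17 zc8) (kc xc5 yc0 zc39) (kc xc16 yc45 zc31) (kc xc5 yc33 zc25) (kc xc4 yc29 zc35) (kc xc7 yc10 zc57) (kc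 xc4 yc29 zc37) (kc xc13 yc34 zc10) (kc xc16 yc45 zc42) (kc xc15 yc53 zc41) (kc xc16 yc45 zc48) (kc xc4 yc29 zc32) (kc xc4 yc29 zc29) (kc xc16 yc45 zc52) (kc xc16 yc45 zc53) (kc xc4 yc29 zc30) (kc xc16 yc45 zc58) (kc xc12 yc52 zc48) (kc xc4 yc29 zc31) (kc xc8 yc58 zc45) (kc xc4 yc29 zc33) (kc xc16 yc46 zc1) (kc xc10 yc59 zc32) (kc xc4 yc29 zc34) (kc xc16 yc46 zc4) (kc xc16 yc45 zc34) (kc xc4 yc29 zc36) (kc xc16 yc46 zc12) (kc xc16 yc46 zc14) (kc xc16 yc46 zc16) (kc xc16 yc46 zc18) (kc xc16 yc45 zc37) (kc xc16 yc46 zc21) (kc xc7 yc58 zc51) (kc xc8 yc58 zc58) (kc xc10 yc58 zc42) (kc xc4 yc29 zc41) (kc xc9 yc44 zc8) (kc xc4 yc29 zc43) (kc xc16 yc20 zc20) (kc xc4 yc29 zc44) (kc xc16 yc39 zc58) (kc xc4 yc29 zc47) (kc xc4 yc29 zc46) (kc xc5 yc22 zc46) (kc xc16 yc46 zc27) (kc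 xc16 yc46 zc28) (kc xc15 yc52 zc3) (kc xc5 yc34 zc8) (kc xc5 yc32 zc55) (kc xc4 yc29 zc58) (kc xc16 yc46 zc34) (kc xc4 yc29 zc60) (kc xc15 yc47 zc4) (kc xc9 yc42 zc27) (kc xc9 yc42 zc28) (kc xc16 yc46 zc47) (kc xc4 yc29 zc55) (kc xc4 yc29 zc53) (kc xc16 yc46 zc52) (kc xc4 yc29 zc54) (kc xc8 yc8 zc55)) (@D3.rec (fun _ => Pt) (kc xc4 yc29 zc56) (kc xc8 yc58 zc59) (kc xc4 yc29 zc57) (kc xc16 yc46 zc59) (kc xc16 yc47 zc0) (kc xc16 yc46 zc33) (kc xc4 yc29 zc59) (kc xc16 yc47 zc5) (kc xc16 yc47 zc8) (kc xc12 yc15 zc26) (kc xc16 yc40 zc26) (kc xc4 yc30 zc1) (kc xc4 yc30 zc2) (kc xc16 yc47 zc11) (kc xc5 yc32 zc18) (kc xc4 yc30 zc4) (kc xc8 yc46 zc49) (kc xc16 yc47 zc14) (kc xc16 yc47 zc16) (kc xc4 yc30 zc5) (kc xc16 yc47 zc18) (kc xc16 yc47 zc20) (kc xc15 yc20 zc33) (kc xc4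 yc30 zc7) (kc xc16 yc47 zc25) (kc xc16 yc47 zc29) (kc xc11 yc14 zc58) (kc xc15 yc20 zc37) (kc xc4 yc32 zc43) (kc xc4 yc32 zc44) (kc xc4 yc32 zc6) (kc xc9 yc44 zc0) (kc xc9 yc44 zc10) (kc xc4 yc30 zc10) (kc xc11 yc5 zc48) (kc xc5 yc31 zc7) (kc xc4 yc30 zc12) (kc xc16 yc47 zc42) (kc xc4 yc30 zc13) (kc xc16 yc47 zc47) (kc xc16 yc47 zc46) (kc xc4 yc30 zc14) (kc xc16 yc47 zc51) (kc xc14 yc50 zc18) (kc xc10 yc56 zc54) (kc xc8 yc57 zc19) (kc xc15 yc50 zc16) (kc xc4 yc30 zc17) (kc xc4 yc30 zc16) (kc xc16 yc47 zc59) (kc xc16 yc5 zc27) (kc xc16 yc47 zc61) (kc xc16 yc41 zc9) (kc xc10 yc56 zc55) (kc xc4 yc30 zc20) (kc xc16 yc48 zc2) (kc xc16 yc39 zc33) (kc xc4 yc30 zc21) (kc xc8 yc57 zc34) (kc xc8 yc58 zc1) (kc xc10 yc54 zc55) (kc xc16 yc48 zc9)) (@D3.rec (fun _ => Pt) (kc xc4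 yc30 zc25) (kc xc16 yc48 zc11) (kc xc4 yc30 zc23) (kc xc12 yc56 zc48) (kc xc16 yc48 zc15) (kc xc16 yc41 zc25) (kc xc16 yc48 zc17) (kc xc16 yc36 zc24) (kc xc5 yc32 zc17) (kc xc10 yc56 zc56) (kc xc4 yc30 zc26) (kc xc16 yc48 zc25) (kc xc16 yc48 zc23) (kc xc16 yc48 zc21) (kc xc14 yc42 zc21) (kc xc4 yc30 zc29) (kc xc4 yc30 zc28) (kc xc16 yc48 zc34) (kc xc16 yc41 zc36) (kc xc4 yc30 zc30) (kc xc16 yc48 zc39) (kc xc4 yc30 zc31) (kc xc16 yc48 zc41) (kc xc4 yc30 zc32) (kc xc16 yc48 zc44) (kc xc16 yc48 zc46) (kc xc9 yc46 zc26) (kc xc12 yc48 zc41) (kc xc4 yc30 zc34) (kc xc16 yc48 zc52) (kc xc16 yc48 zc53) (kc xc16 yc38 zc58) (kc xc16 yc48 zc56) (kc xc15 yc7 zc54) (kc xc4 yc30 zc37) (kc xc10 yc49 zc4) (kc xc16 yc48 zc60) (kc xc10 yc6 zc51) (kc xc9 yc12 zc60) (kc xc11 yc12 zc45)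 (kc xc15 yc21 zc50) (kc xc4 yc56 zc30) (kc xc16 yc49 zc4) (kc xc4 yc53 zc27) (kc xc10 yc14 zc31) (kc xc10 yc14 zc34) (kc xc4 yc30 zc44) (kc xc4 yc30 zc45) (kc xc16 yc49 zc10) (kc xc16 yc49 zc9) (kc xc16 yc49 zc7) (kc xc4 yc30 zc48) (kc xc4 yc30 zc47) (kc xc4 yc30 zc49) (kc xc16 yc49 zc14) (kc xc16 yc49 zc12) (kc xc4 yc30 zc51) (kc xc4 yc30 zc54) (kc xc5 yc29 zc61) (kc xc4 yc30 zc55) (kc xc16 yc49 zc22) (kc xc16 yc49 zc27))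
def f_c_9 : D2 → D3 → Pt := @D2.rec (fun _ => D3 → Pt) (@D3.rec (fun _ => Pt) (kc xc4 yc30 zc56) (kc xc16 yc49 zc29) (kc xc4 yc30 zc59) (kc xc13 yc10 zc45) (kc xc10 yc35 zc9) (kc xc4 yc30 zc60) (kc xc12 yc18 zc27) (kc xc16 yc23 zc49) (kc xc5 yc37 zc6) (kc xc5 yc47 zc9) (kc xc9 yc4 zc42) (kc xc4 yc31 zc6) (kc xc16 yc49 zc38) (kc xc11 yc17 zc55) (kc xc4 yc31 zc7) (kc xc16 yc49 zc41) (kc xc4 yc31 zc54) (kc xc4 yc31 zc55) (kc xc4 yc31 zc9) (kc xc6 yc44 zc10) (kc xc12 yc59 zc48) (kc xc12 yc59 zc61) (kc xc5 yc6 zc25) (kc xc4 yc56 zc22) (kc xc7 yc29 zc5) (kc xc5 yc6 zc24) (kc xc10 yc52 zc58) (kc xc5 yc38 zc44) (kc xc16 yc19 zc54) (kc xc8 yc54 zc14) (kc xc8 yc39 zc32) (kc xc4 yc31 zc17) (kc xc8 yc55 zc52) (kc xc9 yc0 zc45) (kc xc4 yc31 zc19) (kc xc8 yc53 zc32) (kc xc8 yc53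 zc30) (kc xc9 yc0 zc42) (kc xc4 yc31 zc22) (kc xc16 yc50 zc14) (kc xc16 yc50 zc13) (kc xc15 yc1 zc30) (kc xc9 yc0 zc37) (kc xc5 yc12 zc48) (kc xc5 yc27 zc37) (kc xc9 yc0 zc33) (kc xc5 yc23 zc26) (kc xc10 yc52 zc8) (kc xc8 yc56 zc11) (kc xc4 yc31 zc33) (kc xc16 yc50 zc36) (kc xc4 yc31 zc34) (kc xc5 yc0 zc40) (kc xc11 yc2 zc49) (kc xc5 yc23 zc30) (kc xc16 yc50 zc47) (kc xc4 yc31 zc30) (kc xc4 yc31 zc28) (kc xc16 yc50 zc49) (kc xc8 yc54 zc2) (kc xc4 yc31 zc29) (kc xc5 yc27 zc57)) (@D3.rec (fun _ => Pt) (kc xc4 yc31 zc31) (kc xc16 yc50 zc58) (kc xc10 yc11 zc29) (kc xc4 yc31 zc32) (kc xc16 yc51 zc0) (kc xc16 yc5 zc41) (kc xc16 yc51 zc6) (kc xc16 yc51 zc9) (kc xc16 yc51 zc10) (kc xc16 yc5 zc47) (kc xc12 yc15 zc44) (kc xc4 yc31 zc35) (kc xc6 yc20 zc32) (kc xc16 yc51 zc12)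 (kc xc16 yc51 zc13) (kc xc4 yc31 zc37) (kc xc16 yc51 zc15) (kc xc4 yc31 zc39) (kc xc5 yc46 zc29) (kc xc4 yc56 zc51) (kc xc8 yc43 zc23) (kc xc5 yc40 zc30) (kc xc9 yc4 zc28) (kc xc4 yc31 zc44) (kc xc16 yc51 zc22) (kc xc9 yc3 zc40) (kc xc4 yc31 zc45) (kc xc16 yc51 zc26) (kc xc5 yc41 zc5) (kc xc4 yc31 zc50) (kc xc11 yc14 zc51) (kc xc11 yc14 zc52) (kc xc6 yc27 zc18) (kc xc14 yc50 zc2) (kc xc6 yc44 zc11) (kc xc7 yc49 zc30) (kc xc4 yc48 zc39) (kc xc5 yc49 zc1) (kc xc9 yc20 zc4) (kc xc16 yc49 zc44) (kc xc16 yc51 zc33) (kc xc4 yc31 zc59) (kc xc16 yc51 zc35) (kc xc5 yc37 zc56) (kc xc5 yc38 zc1) (kc xc11 yc11 zc21) (kc xc4 yc32 zc0) (kc xc16 yc51 zc44) (kc xc16 yc51 zc46) (kc xc7 yc26 zc34) (kc xc8 yc50 zc12) (kc xc7 yc7 zc35) (kc xc16 yc51 zc52) (kc xc11 yc6 zc60) (kc xc9 yc5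 zc20) (kc xc11 yc16 zc27) (kc xc11 yc31 zc21) (kc xc16 yc19 zc33) (kc xc4 yc32 zc9) (kc xc16 yc51 zc58) (kc xc16 yc19 zc34) (kc xc4 yc32 zc11)) (@D3.rec (fun _ => Pt) (kc xc16 yc52 zc0) (kc xc4 yc32 zc12) (kc xc16 yc52 zc3) (kc xc4 yc32 zc13) (kc xc16 yc52 zc9) (kc xc11 yc11 zc25) (kc xc5 yc37 zc52) (kc xc16 yc52 zc17) (kc xc4 yc32 zc15) (kc xc16 yc52 zc22) (kc xc16 yc52 zc24) (kc xc14 yc53 zc4) (kc xc16 yc52 zc21) (kc xc4 yc32 zc16) (kc xc16 yc52 zc30) (kc xc6 yc27 zc27) (kc xc16 yc52 zc33) (kc xc4 yc43 zc38) (kc xc6 yc2 zc10) (kc xc12 yc25 zc12) (kc xc12 yc25 zc10) (kc xc6 yc27 zc13) (kc xc14 yc53 zc14) (kc xc16 yc52 zc38) (kc xc4 yc32 zc23) (kc xc16 yc52 zc41) (kc xc15 yc4 zc14) (kc xc16 yc52 zc43) (kc xc4 yc32 zc26) (kc xc16 yc52 zc45) (kc xc16 yc52 zc49) (kc xc16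 yc52 zc50) (kc xc4 yc32 zc29) (kc xc16 yc52 zc53) (kc xc16 yc52 zc57) (kc xc11 yc13 zc24) (kc xc16 yc52 zc59) (kc xc4 yc32 zc33) (kc xc16 yc53 zc3) (kc xc4 yc32 zc35) (kc xc9 yc19 zc32) (kc xc4 yc32 zc36) (kc xc16 yc53 zc11) (kc xc9 yc45 zc35) (kc xc16 yc53 zc16) (kc xc4 yc32 zc38) (kc xc16 yc53 zc20) (kc xc16 yc53 zc22) (kc xc16 yc53 zc26) (kc xc16 yc53 zc18) (kc xc4 yc32 zc39) (kc xc4 yc32 zc41) (kc xc16 yc53 zc31) (kc xc16 yc53 zc32) (kc xc11 yc12 zc49) (kc xc4 yc32 zc45) (kc xc16 yc49 zc2) (kc xc16 yc53 zc28) (kc xc4 yc32 zc48) (kc xc16 yc53 zc37) (kc xc11 yc21 zc1) (kc xc16 yc53 zc42)) (@D3.rec (fun _ => Pt) (kc xc4 yc32 zc51) (kc xc16 yc53 zc46) (kc xc5 yc24 zc24) (kc xc5 yc24 zc26) (kc xc10 yc39 zc12) (kc xc5 yc13 zc14) (kc xc4 yc32 zc56) (kc xc9 yc52 zc59) (kc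 xc5 yc38 zc0) (kc xc9 yc45 zc15) (kc xc16 yc53 zc44) (kc xc15 yc2 zc1) (kc xc4 yc32 zc59) (kc xc4 yc32 zc60) (kc xc16 yc54 zc1) (kc xc16 yc53 zc61) (kc xc16 yc54 zc0) (kc xc4 yc33 zc0) (kc xc16 yc54 zc3) (kc xc11 yc23 zc61) (kc xc4 yc33 zc3) (kc xc16 yc54 zc11) (kc xc16 yc54 zc15) (kc xc16 yc54 zc10) (kc xc16 yc54 zc17) (kc xc4 yc33 zc5) (kc xc4 yc33 zc6) (kc xc16 yc54 zc23) (kc xc7 yc59 zc38) (kc xc4 yc33 zc7) (kc xc9 yc22 zc32) (kc xc4 yc57 zc30) (kc xc12 yc8 zc56) (kc xc5 yc44 zc4) (kc xc4 yc33 zc9) (kc xc16 yc54 zc41) (kc xc16 yc54 zc44) (kc xc16 yc54 zc40) (kc xc4 yc33 zc10) (kc xc7 yc59 zc29) (kc xc9 yc1 zc25) (kc xc9 yc45 zc14) (kc xc16 yc54 zc46) (kc xc16 yc22 zc9) (kc xc4 yc33 zc12) (kc xc16 yc54 zc60) (kc xc16 yc54 zc61) (kc xc16 yc54 zc59) (kc xc11 yc59 zc17)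 (kc xc16 yc22 zc7) (kc xc4 yc33 zc14) (kc xc16 yc55 zc5) (kc xc9 yc22 zc34) (kc xc16 yc55 zc7) (kc xc4 yc33 zc15) (kc xc10 yc33 zc17) (kc xc16 yc55 zc10) (kc xc7 yc25 zc54) (kc xc4 yc33 zc16) (kc xc10 yc33 zc16) (kc xc7 yc24 zc59) (kc xc16 yc45 zc1)) (@D3.rec (fun _ => Pt) (kc xc5 yc49 zc16) (kc xc4 yc33 zc38) (kc xc10 yc54 zc4) (kc xc4 yc33 zc39) (kc xc4 yc33 zc18) (kc xc16 yc55 zc26) (kc xc16 yc55 zc27) (kc xc16 yc55 zc29) (kc xc16 yc55 zc32) (kc xc4 yc33 zc23) (kc xc4 yc33 zc24) (kc xc16 yc55 zc39) (kc xc4 yc33 zc21) (kc xc16 yc55 zc46) (kc xc16 yc55 zc44) (kc xc9 yc58 zc8) (kc xc4 yc33 zc22) (kc xc16 yc55 zc48) (kc xc13 yc24 zc17) (kc xc16 yc55 zc34) (kc xc16 yc55 zc50) (kc xc16 yc55 zc53) (kc xc16 yc55 zc56) (kc xc16 yc55 zc57) (kc xc4 yc33 zc25) (kc xc4 yc33 zc26)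 (kc xc16 yc56 zc1) (kc xc11 yc7 zc31) (kc xc9 yc1 zc22) (kc xc16 yc56 zc9) (kc xc4 yc33 zc28) (kc xc16 yc56 zc14) (kc xc16 yc56 zc15) (kc xc16 yc55 zc15) (kc xc16 yc56 zc17) (kc xc5 yc10 zc25) (kc xc9 yc13 zc9) (kc xc5 yc10 zc24) (kc xc11 yc28 zc22) (kc xc4 yc33 zc32) (kc xc6 yc13 zc14) (kc xc9 yc45 zc31) (kc xc9 yc0 zc10) (kc xc16 yc56 zc25) (kc xc5 yc47 zc19) (kc xc16 yc54 zc19) (kc xc5 yc43 zc9) (kc xc15 yc3 zc43) (kc xc4 yc33 zc36) (kc xc16 yc56 zc35) (kc xc4 yc33 zc37) (kc xc16 yc55 zc18) (kc xc16 yc56 zc41) (kc xc16 yc56 zc44) (kc xc16 yc56 zc46) (kc xc16 yc55 zc25) (kc xc16 yc56 zc49) (kc xc6 yc47 zc53) (kc xc4 yc57 zc54) (kc xc4 yc33 zc42) (kc xc16 yc56 zc54) (kc xc16 yc56 zc55)) (@D3.rec (fun _ => Pt) (kc xc4 yc33 zc44) (kc xc16 yc56 zc60) (kc xc16 yc56 zc58)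 (kc xc6 yc47 zc58) (kc xc4 yc33 zc47) (kc xc11 yc28 zc11) (kc xc5 yc48 zc58) (kc xc16 yc57 zc2) (kc xc16 yc57 zc3) (kc xc4 yc33 zc48) (kc xc16 yc57 zc7) (kc xc16 yc57 zc6) (kc xc16 yc57 zc5) (kc xc9 yc13 zc8) (kc xc6 yc44 zc9) (kc xc16 yc57 zc13) (kc xc16 yc57 zc15) (kc xc9 yc44 zc24) (kc xc16 yc57 zc17) (kc xc16 yc57 zc20) (kc xc9 yc1 zc54) (kc xc16 yc57 zc21) (kc xc16 yc57 zc23) (kc xc5 yc48 zc6) (kc xc4 yc33 zc57) (kc xc12 yc10 zc49) (kc xc12 yc10 zc50) (kc xc16 yc57 zc26) (kc xc9 yc29 zc58) (kc xc6 yc25 zc27) (kc xc6 yc25 zc28) (kc xc16 yc57 zc27) (kc xc4 yc34 zc4) (kc xc4 yc34 zc1) (kc xc6 yc54 zc6) (kc xc4 yc34 zc2) (kc xc11 yc14 zc28) (kc xc10 yc58 zc41) (kc xc4 yc34 zc3) (kc xc5 yc40 zc49) (kc xc16 yc57 zc31) (kc xc12 yc9 zc57) (kc xc12 yc10 zc22) (kc xc5 yc40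 zc45) (kc xc8 yc2 zc22) (kc xc16 yc57 zc34) (kc xc4 yc34 zc16) (kc xc5 yc51 zc21) (kc xc5 yc7 zc59) (kc xc4 yc34 zc40) (kc xc4 yc34 zc26) (kc xc10 yc42 zc45) (kc xc16 yc57 zc41) (kc xc9 yc12 zc55) (kc xc9 yc11 zc15) (kc xc5 yc58 zc36) (kc xc6 yc0 zc5) (kc xc6 yc0 zc6) (kc xc10 yc42 zc47) (kc xc4 yc34 zc35) (kc xc10 yc37 zc39) (kc xc16 yc57 zc49)) (@D3.rec (fun _ => Pt) (kc xc14 yc20 zc46) (kc xc9 yc11 zc31) (kc xc14 yc36 zc58) (kc xc9 yc30 zc3) (kc xc10 yc4 zc5) (kc xc9 yc13 zc24) (kc xc4 yc38 zc57) (kc xc4 yc38 zc58) (kc xc16 yc57 zc39) (kc xc4 yc34 zc39) (kc xc11 yc28 zc39) (kc xc8 yc14 zc58) (kc xc6 yc7 zc10) (kc xc11 yc54 zc5) (kc xc4 yc34 zc48) (kc xc5 yc52 zc1) (kc xc4 yc34 zc50) (kc xc11 yc41 zc48) (kc xc11 yc41 zc49) (kc xc16 yc58 zc4) (kc xc16 yc58 zc1) (kc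 xc4 yc34 zc51) (kc xc5 yc47 zc48) (kc xc5 yc58 zc42) (kc xc5 yc58 zc43) (kc xc16 yc58 zc19) (kc xc4 yc34 zc57) (kc xc11 yc36 zc56) (kc xc4 yc34 zc54) (kc xc16 yc58 zc24) (kc xc16 yc58 zc23) (kc xc9 yc10 zc41) (kc xc4 yc34 zc55) (kc xc16 yc58 zc30) (kc xc16 yc58 zc29) (kc xc16 yc58 zc33) (kc xc16 yc58 zc36) (kc xc4 yc34 zc56) (kc xc16 yc58 zc40) (kc xc11 yc51 zc7) (kc xc4 yc34 zc59) (kc xc16 yc58 zc46) (kc xc11 yc37 zc6) (kc xc4 yc34 zc60) (kc xc16 yc58 zc50) (kc xc9 yc10 zc54) (kc xc4 yc34 zc61) (kc xc5 yc58 zc47) (kc xc5 yc58 zc48) (kc xc11 yc51 zc44) (kc xc4 yc35 zc1) (kc xc16 yc59 zc0) (kc xc16 yc59 zc4) (kc xc5 yc36 zc60) (kc xc16 yc59 zc5) (kc xc11 yc47 zc38) (kc xc6 yc1 zc36) (kc xc6 yc1 zc37) (kc xc4 yc35 zc6) (kc xc16 yc59 zc8) (kc xc4 yc35 zc7) (kc xc16 yc59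 zc9)) (@D3.rec (fun _ => Pt) (kc xc11 yc47 zc26) (kc xc4 yc35 zc9) (kc xc16 yc59 zc12) (kc xc16 yc59 zc14) (kc xc4 yc35 zc12) (kc xc9 yc50 zc49) (kc xc4 yc35 zc13) (kc xc16 yc59 zc21) (kc xc11 yc36 zc30) (kc xc5 yc47 zc42) (kc xc4 yc35 zc17) (kc xc16 yc23 zc59) (kc xc11 yc40 zc28) (kc xc9 yc47 zc50) (kc xc4 yc35 zc20) (kc xc4 yc35 zc22) (kc xc6 yc35 zc48) (kc xc6 yc35 zc44) (kc xc16 yc59 zc28) (kc xc5 yc55 zc51) (kc xc12 yc39 zc12) (kc xc16 yc59 zc30) (kc xc4 yc35 zc24) (kc xc16 yc59 zc34) (kc xc11 yc29 zc42) (kc xc4 yc35 zc27) (kc xc16 yc59 zc39) (kc xc11 yc30 zc16) (kc xc11 yc29 zc40) (kc xc9 yc22 zc12) (kc xc9 yc48 zc56) (kc xc9 yc48 zc55) (kc xc13 yc20 zc40) (kc xc12 yc28 zc48) (kc xc12 yc28 zc49) (kc xc4 yc35 zc31) (kc xc16 yc59 zc38) (kc xc16 yc59 zc47) (kc xc12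 yc54 zc23) (kc xc16 yc3 zc20) (kc xc4 yc35 zc36) (kc xc5 yc10 zc40) (kc xc4 yc35 zc37) (kc xc16 yc59 zc54) (kc xc4 yc35 zc38) (kc xc10 yc27 zc44) (kc xc10 yc6 zc1) (kc xc5 yc47 zc59) (kc xc4 yc35 zc46) (kc xc16 yc3 zc19) (kc xc4 yc35 zc40) (kc xc17 yc0 zc9) (kc xc17 yc0 zc11) (kc xc4 yc35 zc42) (kc xc17 yc0 zc13) (kc xc4 yc43 zc57) (kc xc17 yc0 zc15) (kc xc12 yc29 zc1) (kc xc16 yc25 zc27) (kc xc11 yc33 zc56) (kc xc4 yc35 zc48) (kc xc17 yc0 zc19)) (@D3.rec (fun _ => Pt) (kc xc4 yc59 zc10) (kc xc4 yc59 zc30) (kc xc4 yc35 zc50) (kc xc9 yc22 zc15) (kc xc17 yc0 zc30) (kc xc15 yc5 zc6) (kc xc4 yc35 zc57) (kc xc11 yc32 zc18) (kc xc11 yc32 zc12) (kc xc4 yc35 zc59) (kc xc4 yc35 zc60) (kc xc17 yc0 zc37) (kc xc17 yc0 zc43) (kc xc4 yc36 zc4) (kc xc5 yc54 zc14) (kc xc4 yc36 zc1)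 (kc xc9 yc48 zc15) (kc xc17 yc0 zc47) (kc xc4 yc36 zc2) (kc xc17 yc0 zc49) (kc xc17 yc0 zc50) (kc xc4 yc36 zc3) (kc xc17 yc0 zc54) (kc xc4 yc36 zc5) (kc xc13 yc16 zc33) (kc xc4 yc36 zc7) (kc xc17 yc0 zc56) (kc xc4 yc36 zc9) (kc xc17 yc1 zc0) (kc xc17 yc1 zc3) (kc xc17 yc1 zc8) (kc xc17 yc0 zc60) (kc xc17 yc1 zc10) (kc xc17 yc1 zc11) (kc xc17 yc1 zc14) (kc xc17 yc1 zc16) (kc xc4 yc36 zc12) (kc xc17 yc1 zc21) (kc xc4 yc44 zc57) (kc xc9 yc48 zc12) (kc xc5 yc49 zc61) (kc xc13 yc16 zc38) (kc xc9 yc22 zc13) (kc xc17 yc1 zc26) (kc xc16 yc57 zc60) (kc xc4 yc36 zc18) (kc xc17 yc1 zc29) (kc xc11 yc31 zc24) (kc xc11 yc31 zc23) (kc xc14 yc19 zc60) (kc xc14 yc19 zc59) (kc xc4 yc36 zc20) (kc xc17 yc1 zc40) (kc xc17 yc1 zc42) (kc xc4 yc36 zc22) (kc xc17 yc1 zc46) (kc xc4 yc36 zc24)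 (kc xc17 yc1 zc50) (kc xc16 yc58 zc6) (kc xc4 yc36 zc25) (kc xc17 yc1 zc54) (kc xc4 yc36 zc26)) (@D3.rec (fun _ => Pt) (kc xc9 yc48 zc19) (kc xc5 yc49 zc19) (kc xc17 yc2 zc3) (kc xc4 yc36 zc28) (kc xc17 yc2 zc6) (kc xc12 yc58 zc40) (kc xc17 yc2 zc10) (kc xc4 yc36 zc29) (kc xc17 yc2 zc12) (kc xc4 yc43 zc50) (kc xc4 yc36 zc31) (kc xc13 yc11 zc10) (kc xc14 yc21 zc42) (kc xc5 yc26 zc5) (kc xc7 yc52 zc24) (kc xc4 yc36 zc35) (kc xc5 yc36 zc59) (kc xc5 yc36 zc27) (kc xc4 yc36 zc37) (kc xc5 yc44 zc22) (kc xc5 yc47 zc52) (kc xc6 yc30 zc50) (kc xc4 yc36 zc40) (kc xc15 yc5 zc7) (kc xc7 yc27 zc23) (kc xc9 yc25 zc35) (kc xc4 yc36 zc44) (kc xc17 yc2 zc24) (kc xc17 yc2 zc26) (kc xc4 yc36 zc50) (kc xc7 yc27 zc24) (kc xc10 yc7 zc13) (kc xc4 yc36 zc51) (kc xc17 yc2 zc27) (kc xc17 yc2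 zc32) (kc xc4 yc36 zc53) (kc xc5 yc40 zc33) (kc xc16 yc28 zc22) (kc xc6 yc40 zc28) (kc xc4 yc36 zc55) (kc xc5 yc44 zc23) (kc xc16 yc28 zc23) (kc xc17 yc2 zc40) (kc xc4 yc36 zc58) (kc xc17 yc2 zc41) (kc xc4 yc36 zc59) (kc xc12 yc58 zc5) (kc xc4 yc37 zc0) (kc xc17 yc2 zc50) (kc xc5 yc43 zc58) (kc xc17 yc2 zc49) (kc xc17 yc2 zc53) (kc xc17 yc2 zc54) (kc xc17 yc2 zc57) (kc xc4 yc37 zc3) (kc xc17 yc2 zc61) (kc xc13 yc36 zc40) (kc xc5 yc58 zc4) (kc xc4 yc37 zc7) (kc xc17 yc3 zc5) (kc xc10 yc27 zc41) (kc xc17 yc3 zc4)) (@D3.rec (fun _ => Pt) (kc xc5 yc47 zc56) (kc xc9 yc47 zc25) (kc xc5 yc14 zc48) (kc xc12 yc44 zc7) (kc xc12 yc44 zc6) (kc xc6 yc30 zc51) (kc xc9 yc47 zc26) (kc xc9 yc47 zc27) (kc xc6 yc55 zc13) (kc xc4 yc37 zc16) (kc xc4 yc37 zc17) (kc xc4 yc37 zc14) (kc xc17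 yc3 zc19) (kc xc4 yc37 zc18) (kc xc17 yc3 zc21) (kc xc4 yc37 zc19) (kc xc17 yc3 zc23) (kc xc9 yc47 zc34) (kc xc16 yc34 zc27) (kc xc4 yc37 zc21) (kc xc14 yc24 zc0) (kc xc4 yc37 zc22) (kc xc4 yc37 zc30) (kc xc4 yc37 zc24) (kc xc5 yc52 zc19) (kc xc5 yc52 zc20) (kc xc11 yc1 zc54) (kc xc7 yc23 zc25) (kc xc4 yc37 zc27) (kc xc11 yc7 zc27) (kc xc11 yc7 zc26) (kc xc17 yc3 zc42) (kc xc17 yc3 zc35) (kc xc17 yc3 zc44) (kc xc17 yc3 zc46) (kc xc17 yc3 zc48) (kc xc4 yc37 zc29) (kc xc13 yc1 zc5) (kc xc11 yc21 zc46) (kc xc10 yc5 zc30) (kc xc17 yc3 zc53) (kc xc9 yc6 zc31) (kc xc17 yc3 zc59) (kc xc4 yc37 zc35) (kc xc4 yc37 zc33) (kc xc17 yc4 zc1) (kc xc17 yc4 zc0) (kc xc14 yc21 zc41) (kc xc4 yc37 zc34) (kc xc17 yc4 zc4) (kc xc4 yc37 zc36) (kc xc17 yc4 zc6) (kc xc4 yc37 zc37) (kc xc17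 yc4 zc8) (kc xc9 yc6 zc45) (kc xc4 yc37 zc39) (kc xc17 yc4 zc12) (kc xc5 yc59 zc22) (kc xc14 yc4 zc21) (kc xc4 yc59 zc54) (kc xc17 yc4 zc24) (kc xc16 yc40 zc15)) (@D3.rec (fun _ => Pt) (kc xc4 yc37 zc45) (kc xc6 yc7 zc47) (kc xc4 yc37 zc43) (kc xc17 yc4 zc33) (kc xc17 yc4 zc32) (kc xc8 yc0 zc41) (kc xc4 yc37 zc44) (kc xc17 yc4 zc38) (kc xc17 yc4 zc37) (kc xc8 yc0 zc38) (kc xc11 yc28 zc43) (kc xc12 yc9 zc50) (kc xc17 yc4 zc43) (kc xc11 yc27 zc11) (kc xc7 yc1 zc18) (kc xc9 yc5 zc54) (kc xc9 yc47 zc24) (kc xc9 yc49 zc3) (kc xc9 yc49 zc4) (kc xc17 yc4 zc53) (kc xc4 yc37 zc54) (kc xc4 yc37 zc51) (kc xc17 yc4 zc56) (kc xc4 yc37 zc52) (kc xc12 yc26 zc27) (kc xc17 yc4 zc58) (kc xc4 yc37 zc53) (kc xc17 yc5 zc1) (kc xc6 yc2 zc46) (kc xc11 yc40 zc48) (kc xc12 yc43 zc29) (kc xc9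 yc6 zc1) (kc xc8 yc36 zc7) (kc xc4 yc37 zc60) (kc xc4 yc37 zc58) (kc xc17 yc5 zc14) (kc xc4 yc37 zc59) (kc xc12 yc37 zc38) (kc xc17 yc5 zc17) (kc xc17 yc5 zc19) (kc xc11 yc43 zc54) (kc xc6 yc25 zc54) (kc xc11 yc19 zc15) (kc xc4 yc38 zc2) (kc xc10 yc18 zc52) (kc xc17 yc5 zc31) (kc xc17 yc5 zc24) (kc xc6 yc36 zc22) (kc xc6 yc36 zc23) (kc xc4 yc38 zc3) (kc xc17 yc5 zc36) (kc xc4 yc38 zc6) (kc xc11 yc29 zc21) (kc xc10 yc37 zc45) (kc xc12 yc17 zc2) (kc xc17 yc5 zc43) (kc xc16 yc30 zc0) (kc xc4 yc38 zc10) (kc xc10 yc54 zc43) (kc xc11 yc28 zc46) (kc xc17 yc5 zc57) (kc xc17 yc5 zc51)) (@D3.rec (fun _ => Pt) (kc xc6 yc26 zc55) (kc xc4 yc38 zc11) (kc xc17 yc6 zc3) (kc xc17 yc6 zc0) (kc xc11 yc38 zc30) (kc xc4 yc38 zc12) (kc xc17 yc6 zc9) (kc xc12 yc24 zc4) (kc xc8 yc55 zc2) (kc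 xc8 yc55 zc0) (kc xc4 yc38 zc13) (kc xc16 yc40 zc14) (kc xc15 yc5 zc23) (kc xc8 yc0 zc40) (kc xc4 yc38 zc15) (kc xc11 yc12 zc2) (kc xc12 yc49 zc50) (kc xc9 yc50 zc15) (kc xc11 yc8 zc18) (kc xc17 yc6 zc27) (kc xc4 yc38 zc18) (kc xc17 yc6 zc31) (kc xc17 yc6 zc33) (kc xc4 yc38 zc17) (kc xc17 yc6 zc38) (kc xc17 yc6 zc5) (kc xc9 yc15 zc29) (kc xc17 yc6 zc30) (kc xc6 yc7 zc46) (kc xc10 yc13 zc8) (kc xc11 yc56 zc45) (kc xc11 yc57 zc26) (kc xc17 yc6 zc45) (kc xc4 yc38 zc22) (kc xc4 yc38 zc21) (kc xc17 yc6 zc50) (kc xc17 yc6 zc47) (kc xc17 yc6 zc51) (kc xc4 yc38 zc24) (kc xc17 yc6 zc55) (kc xc4 yc38 zc25) (kc xc17 yc7 zc0) (kc xc4 yc38 zc26) (kc xc15 yc26 zc32) (kc xc16 yc57 zc56) (kc xc4 yc39 zc28) (kc xc17 yc7 zc15) (kc xc6 yc1 zc40) (kc xc4 yc38 zc29) (kc xc12 yc37 zc49)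 (kc xc12 yc44 zc19) (kc xc14 yc35 zc48) (kc xc17 yc7 zc19) (kc xc6 yc35 zc13) (kc xc11 yc26 zc0) (kc xc9 yc5 zc53) (kc xc4 yc38 zc32) (kc xc17 yc7 zc22) (kc xc11 yc26 zc19) (kc xc11 yc25 zc55) (kc xc8 yc59 zc38) (kc xc4 yc38 zc37)) (@D3.rec (fun _ => Pt) (kc xc17 yc7 zc30) (kc xc4 yc38 zc35) (kc xc17 yc7 zc18) (kc xc14 yc35 zc52) (kc xc17 yc7 zc36) (kc xc4 yc38 zc36) (kc xc17 yc7 zc33) (kc xc17 yc7 zc41) (kc xc9 yc5 zc13) (kc xc9 yc4 zc36) (kc xc4 yc38 zc40) (kc xc6 yc12 zc28) (kc xc8 yc50 zc10) (kc xc5 yc42 zc16) (kc xc6 yc2 zc11) (kc xc6 yc14 zc40) (kc xc4 yc38 zc44) (kc xc17 yc7 zc45) (kc xc13 yc1 zc38) (kc xc6 yc2 zc52) (kc xc4 yc46 zc0) (kc xc6 yc6 zc27) (kc xc9 yc23 zc59) (kc xc9 yc49 zc27) (kc xc9 yc6 zc5) (kc xc10 yc42 zc32) (kc xc4 yc38 zc49) (kc xc11 yc34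 zc51) (kc xc17 yc7 zc52) (kc xc6 yc8 zc55) (kc xc4 yc38 zc50) (kc xc6 yc2 zc59) (kc xc12 yc9 zc47) (kc xc11 yc28 zc55) (kc xc8 yc12 zc8) (kc xc8 yc12 zc9) (kc xc10 yc0 zc19) (kc xc5 yc14 zc30) (kc xc10 yc3 zc59) (kc xc11 yc8 zc34) (kc xc17 yc8 zc0) (kc xc5 yc51 zc39) (kc xc13 yc1 zc37) (kc xc4 yc38 zc60) (kc xc17 yc8 zc1) (kc xc4 yc38 zc61) (kc xc4 yc39 zc0) (kc xc17 yc8 zc5) (kc xc17 yc8 zc4) (kc xc13 yc10 zc60) (kc xc17 yc8 zc10) (kc xc4 yc39 zc3) (kc xc17 yc8 zc15) (kc xc17 yc8 zc16) (kc xc4 yc39 zc2) (kc xc14 yc35 zc54) (kc xc14 yc35 zc53) (kc xc6 yc19 zc37) (kc xc17 yc8 zc20) (kc xc4 yc39 zc4) (kc xc4 yc39 zc5) (kc xc10 yc4 zc0)) (@D3.rec (fun _ => Pt) (kc xc4 yc39 zc8) (kc xc17 yc8 zc22) (kc xc12 yc6 zc22) (kc xc12 yc7 zc52) (kc xc4 yc39 zc10) (kc xc17 yc8 zc25)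 (kc xc15 yc8 zc8) (kc xc4 yc39 zc13) (kc xc7 yc50 zc41) (kc xc6 yc43 zc5) (kc xc13 yc42 zc50) (kc xc15 yc4 zc59) (kc xc4 yc39 zc17) (kc xc17 yc8 zc32) (kc xc7 yc53 zc15) (kc xc4 yc39 zc19) (kc xc17 yc6 zc24) (kc xc17 yc8 zc37) (kc xc12 yc17 zc20) (kc xc4 yc39 zc20) (kc xc17 yc8 zc39) (kc xc7 yc50 zc46) (kc xc4 yc39 zc22) (kc xc17 yc8 zc43) (kc xc12 yc15 zc19) (kc xc12 yc43 zc3) (kc xc4 yc39 zc23) (kc xc10 yc53 zc54) (kc xc6 yc55 zc34) (kc xc4 yc39 zc25) (kc xc8 yc23 zc5) (kc xc9 yc43 zc4) (kc xc12 yc59 zc30) (kc xc8 yc11 zc36) (kc xc5 yc0 zc24) (kc xc17 yc8 zc58) (kc xc5 yc0 zc26) (kc xc17 yc8 zc60) (kc xc16 yc37 zc30) (kc xc17 yc7 zc11) (kc xc11 yc41 zc33) (kc xc9 yc18 zc50) (kc xc16 yc58 zc8) (kc xc4 yc39 zc33) (kc xc11 yc50 zc48) (kc xc11 yc50 zc49) (kc xc12 yc18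 zc26) (kc xc6 yc13 zc45) (kc xc4 yc39 zc37) (kc xc17 yc9 zc9) (kc xc17 yc9 zc12) (kc xc17 yc9 zc7) (kc xc17 yc9 zc15) (kc xc17 yc9 zc18) (kc xc15 yc6 zc1) (kc xc12 yc46 zc34) (kc xc17 yc9 zc20) (kc xc16 yc23 zc39) (kc xc5 yc37 zc53) (kc xc10 yc1 zc24) (kc xc17 yc9 zc21) (kc xc4 yc39 zc45)) (@D3.rec (fun _ => Pt) (kc xc4 yc39 zc44) (kc xc6 yc38 zc17) (kc xc17 yc9 zc27) (kc xc17 yc9 zc29) (kc xc4 yc39 zc47) (kc xc17 yc9 zc33) (kc xc10 yc17 zc56) (kc xc11 yc25 zc32) (kc xc4 yc39 zc51) (kc xc17 yc9 zc41) (kc xc4 yc39 zc50) (kc xc17 yc9 zc46) (kc xc17 yc3 zc3) (kc xc17 yc9 zc44) (kc xc17 yc9 zc48) (kc xc17 yc9 zc38) (kc xc12 yc12 zc12) (kc xc17 yc9 zc49) (kc xc5 yc50 zc9) (kc xc6 yc6 zc55) (kc xc8 yc14 zc41) (kc xc8 yc14 zc42) (kc xc4 yc39 zc57) (kc xc6 yc30 zc37) (kc xc11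 yc25 zc27) (kc xc4 yc58 zc23) (kc xc11 yc35 zc6) (kc xc11 yc25 zc28) (kc xc11 yc25 zc29) (kc xc9 yc12 zc26) (kc xc4 yc40 zc2) (kc xc10 yc7 zc17) (kc xc4 yc40 zc0) (kc xc17 yc10 zc2) (kc xc4 yc40 zc1) (kc xc17 yc10 zc6) (kc xc17 yc10 zc5) (kc xc4 yc40 zc3) (kc xc17 yc10 zc8) (kc xc12 yc14 zc16) (kc xc4 yc40 zc6) (kc xc6 yc44 zc16) (kc xc5 yc45 zc52) (kc xc4 yc40 zc7) (kc xc9 yc32 zc34) (kc xc9 yc22 zc49) (kc xc9 yc28 zc5) (kc xc4 yc43 zc0) (kc xc4 yc44 zc36) (kc xc12 yc26 zc38) (kc xc9 yc28 zc19) (kc xc9 yc22 zc57) (kc xc17 yc10 zc22) (kc xc4 yc46 zc32) (kc xc4 yc40 zc15) (kc xc6 yc20 zc54) (kc xc4 yc43 zc24) (kc xc9 yc59 zc32) (kc xc12 yc11 zc55) (kc xc14 yc29 zc18) (kc xc14 yc11 zc49) (kc xc6 yc10 zc10)) (@D3.rec (fun _ => Pt) (kc xc11 yc58 zc44) (kc xc6 yc10 zc12)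 (kc xc6 yc17 zc25) (kc xc6 yc29 zc28) (kc xc9 yc21 zc58) (kc xc12 yc57 zc17) (kc xc4 yc40 zc22) (kc xc4 yc40 zc20) (kc xc17 yc10 zc45) (kc xc4 yc40 zc21) (kc xc4 yc44 zc37) (kc xc6 yc53 zc56) (kc xc4 yc44 zc52) (kc xc9 yc16 zc29) (kc xc11 yc40 zc31) (kc xc5 yc54 zc40) (kc xc5 yc51 zc6) (kc xc12 yc49 zc12) (kc xc9 yc16 zc25) (kc xc17 yc10 zc54) (kc xc4 yc40 zc29) (kc xc17 yc10 zc57) (kc xc12 yc30 zc54) (kc xc11 yc28 zc36) (kc xc17 yc10 zc61) (kc xc9 yc16 zc18) (kc xc11 yc42 zc5) (kc xc12 yc12 zc44) (kc xc7 yc31 zc45) (kc xc9 yc16 zc13) (kc xc17 yc11 zc10) (kc xc5 yc54 zc47) (kc xc4 yc58 zc60) (kc xc4 yc40 zc50) (kc xc4 yc40 zc37) (kc xc17 yc11 zc17) (kc xc11 yc28 zc33) (kc xc11 yc28 zc34) (kc xc17 yc11 zc23) (kc xc4 yc40 zc54) (kc xc17 yc11 zc16) (kc xc4 yc40 zc40) (kc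 xc16 yc54 zc49) (kc xc17 yc11 zc35) (kc xc17 yc11 zc39) (kc xc17 yc11 zc31) (kc xc14 yc4 zc50) (kc xc17 yc11 zc45) (kc xc12 yc14 zc8) (kc xc17 yc11 zc51) (kc xc17 yc11 zc53) (kc xc7 yc31 zc10) (kc xc17 yc11 zc55) (kc xc17 yc11 zc57) (kc xc4 yc40 zc43) (kc xc12 yc57 zc16) (kc xc12 yc29 zc59) (kc xc6 yc19 zc26) (kc xc17 yc12 zc0) (kc xc4 yc40 zc48) (kc xc4 yc40 zc47) (kc xc17 yc12 zc5)) (@D3.rec (fun _ => Pt) (kc xc17 yc12 zc6) (kc xc14 yc23 zc14) (kc xc6 yc12 zc44) (kc xc17 yc12 zc8) (kc xc17 yc12 zc10) (kc xc14 yc52 zc33) (kc xc17 yc12 zc12) (kc xc17 yc11 zc15) (kc xc17 yc12 zc14) (kc xc4 yc40 zc51) (kc xc17 yc12 zc18) (kc xc11 yc30 zc0) (kc xc4 yc40 zc52) (kc xc6 yc55 zc29) (kc xc7 yc52 zc4) (kc xc17 yc12 zc21) (kc xc4 yc40 zc53) (kc xc13 yc56 zc34) (kc xc4 yc40 zc55)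 (kc xc17 yc12 zc28) (kc xc4 yc40 zc56) (kc xc4 yc40 zc57) (kc xc17 yc12 zc31) (kc xc12 yc14 zc7) (kc xc4 yc40 zc58) (kc xc10 yc12 zc18) (kc xc4 yc40 zc60) (kc xc12 yc14 zc36) (kc xc4 yc49 zc56) (kc xc17 yc12 zc25) (kc xc6 yc46 zc13) (kc xc4 yc41 zc1) (kc xc12 yc0 zc4) (kc xc4 yc41 zc4) (kc xc17 yc12 zc39) (kc xc4 yc41 zc3) (kc xc17 yc12 zc42) (kc xc8 yc52 zc24) (kc xc17 yc12 zc38) (kc xc4 yc41 zc5) (kc xc9 yc20 zc30) (kc xc4 yc41 zc13) (kc xc5 yc57 zc46) (kc xc17 yc12 zc46) (kc xc4 yc41 zc14) (kc xc11 yc37 zc41) (kc xc17 yc12 zc51) (kc xc4 yc41 zc23) (kc xc4 yc41 zc24) (kc xc4 yc41 zc27) (kc xc4 yc41 zc26) (kc xc4 yc41 zc28) (kc xc17 yc12 zc56) (kc xc4 yc41 zc29) (kc xc17 yc12 zc58) (kc xc11 yc26 zc54) (kc xc10 yc5 zc29) (kc xc4 yc41 zc35) (kc xc4 yc41 zc31) (kc xc8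 yc49 zc44) (kc xc5 yc42 zc11) (kc xc5 yc0 zc21)) (@D3.rec (fun _ => Pt) (kc xc17 yc13 zc8) (kc xc17 yc13 zc4) (kc xc17 yc13 zc5) (kc xc4 yc42 zc61) (kc xc4 yc41 zc38) (kc xc11 yc7 zc0) (kc xc10 yc55 zc37) (kc xc17 yc7 zc21) (kc xc4 yc43 zc1) (kc xc4 yc52 zc26) (kc xc6 yc38 zc52) (kc xc7 yc31 zc5) (kc xc4 yc41 zc47) (kc xc9 yc23 zc58) (kc xc4 yc41 zc49) (kc xc17 yc13 zc18) (kc xc10 yc54 zc54) (kc xc9 yc50 zc53) (kc xc4 yc41 zc53) (kc xc4 yc42 zc13) (kc xc12 yc58 zc55) (kc xc12 yc48 zc9) (kc xc4 yc41 zc57) (kc xc17 yc13 zc29) (kc xc9 yc20 zc56) (kc xc17 yc13 zc34) (kc xc17 yc13 zc37) (kc xc4 yc42 zc26) (kc xc17 yc13 zc39) (kc xc17 yc13 zc40) (kc xc4 yc42 zc1) (kc xc4 yc42 zc2) (kc xc4 yc42 zc3) (kc xc17 yc13 zc41) (kc xc4 yc42 zc5) (kc xc15 yc42 zc37) (kc xc17 yc13 zc47)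 (kc xc17 yc13 zc49) (kc xc17 yc13 zc50) (kc xc4 yc42 zc8) (kc xc17 yc13 zc51) (kc xc4 yc42 zc10) (kc xc17 yc13 zc57) (kc xc6 yc51 zc16) (kc xc12 yc33 zc52) (kc xc9 yc43 zc59) (kc xc17 yc14 zc2) (kc xc17 yc14 zc6) (kc xc17 yc13 zc20) (kc xc12 yc4 zc53) (kc xc9 yc14 zc41) (kc xc6 yc2 zc47) (kc xc17 yc14 zc11) (kc xc17 yc14 zc12) (kc xc13 yc37 zc15) (kc xc4 yc42 zc17) (kc xc17 yc14 zc14) (kc xc4 yc42 zc20) (kc xc12 yc18 zc33) (kc xc4 yc42 zc19) (kc xc17 yc14 zc21) (kc xc17 yc14 zc22)) (@D3.rec (fun _ => Pt) (kc xc17 yc14 zc25) (kc xc14 yc49 zc55) (kc xc17 yc14 zc16) (kc xc17 yc14 zc18) (kc xc12 yc15 zc16) (kc xc4 yc42 zc23) (kc xc12 yc59 zc33) (kc xc4 yc42 zc24) (kc xc17 yc14 zc35) (kc xc17 yc14 zc36) (kc xc4 yc42 zc25) (kc xc17 yc14 zc40) (kc xc4 yc42 zc27) (kc xc17 yc14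 zc42) (kc xc6 yc17 zc37) (kc xc4 yc42 zc30) (kc xc12 yc20 zc58) (kc xc4 yc42 zc29) (kc xc17 yc14 zc52) (kc xc17 yc14 zc54) (kc xc17 yc14 zc45) (kc xc17 yc14 zc47) (kc xc4 yc42 zc34) (kc xc12 yc14 zc53) (kc xc12 yc19 zc20) (kc xc17 yc14 zc59) (kc xc4 yc42 zc36) (kc xc17 yc14 zc61) (kc xc4 yc42 zc38) (kc xc17 yc15 zc8) (kc xc17 yc15 zc11) (kc xc17 yc15 zc6) (kc xc9 yc2 zc40) (kc xc17 yc15 zc16) (kc xc11 yc11 zc43) (kc xc17 yc8 zc23) (kc xc17 yc15 zc19) (kc xc12 yc6 zc24) (kc xc12 yc22 zc47) (kc xc12 yc22 zc48) (kc xc14 yc5 zc16) (kc xc12 yc23 zc1) (kc xc12 yc23 zc2) (kc xc7 yc21 zc51) (kc xc11 yc34 zc15) (kc xc17 yc15 zc37) (kc xc11 yc11 zc10) (kc xc9 yc23 zc61) (kc xc17 yc15 zc42) (kc xc4 yc42 zc56) (kc xc4 yc42 zc55) (kc xc4 yc42 zc57) (kc xc17 yc15 zc46) (kc xc7 yc43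 zc10) (kc xc7 yc43 zc9) (kc xc6 yc30 zc28) (kc xc5 yc28 zc54) (kc xc11 yc4 zc58) (kc xc11 yc29 zc41) (kc xc12 yc56 zc20) (kc xc10 yc48 zc13) (kc xc5 yc7 zc29)) (@D3.rec (fun _ => Pt) (kc xc10 yc55 zc26) (kc xc5 yc13 zc49) (kc xc16 yc30 zc41) (kc xc10 yc48 zc15) (kc xc9 yc1 zc38) (kc xc5 yc26 zc59) (kc xc9 yc46 zc45) (kc xc12 yc58 zc27) (kc xc11 yc4 zc60) (kc xc12 yc59 zc12) (kc xc17 yc16 zc1) (kc xc6 yc41 zc25) (kc xc6 yc41 zc26) (kc xc4 yc43 zc26) (kc xc4 yc43 zc27) (kc xc4 yc43 zc28) (kc xc7 yc24 zc40) (kc xc17 yc16 zc4) (kc xc4 yc43 zc31) (kc xc17 yc16 zc5) (kc xc12 yc47 zc51) (kc xc4 yc43 zc34) (kc xc15 yc37 zc8) (kc xc17 yc16 zc15) (kc xc5 yc40 zc53) (kc xc4 yc48 zc37) (kc xc8 yc34 zc5) (kc xc8 yc36 zc12) (kc xc17 yc16 zc23) (kc xc11 yc48 zc42) (kc xc9 yc17 zc40)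 (kc xc5 yc42 zc13) (kc xc14 yc56 zc40) (kc xc16 yc13 zc42) (kc xc15 yc43 zc0) (kc xc8 yc33 zc15) (kc xc7 yc25 zc47) (kc xc4 yc43 zc47) (kc xc17 yc16 zc36) (kc xc14 yc4 zc51) (kc xc17 yc16 zc35) (kc xc17 yc16 zc39) (kc xc17 yc16 zc40) (kc xc12 yc35 zc40) (kc xc5 yc8 zc2) (kc xc13 yc0 zc50) (kc xc6 yc34 zc49) (kc xc6 yc11 zc25) (kc xc12 yc58 zc26) (kc xc6 yc19 zc48) (kc xc5 yc17 zc55) (kc xc4 yc43 zc61) (kc xc10 yc43 zc41) (kc xc17 yc16 zc49) (kc xc4 yc44 zc0) (kc xc6 yc27 zc33) (kc xc9 yc18 zc24) (kc xc12 yc13 zc61) (kc xc4 yc44 zc3) (kc xc6 yc32 zc49) (kc xc12 yc47 zc17) (kc xc6 yc32 zc42)) (@D3.rec (fun _ => Pt) (kc xc17 yc16 zc61) (kc xc14 yc29 zc48) (kc xc14 yc29 zc49) (kc xc6 yc31 zc12) (kc xc17 yc17 zc5) (kc xc6 yc28 zc17) (kc xc6 yc28 zc18) (kc xc17 yc17 zc8)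 (kc xc4 yc44 zc10) (kc xc6 yc33 zc20) (kc xc4 yc44 zc9) (kc xc6 yc18 zc28) (kc xc17 yc17 zc9) (kc xc6 yc29 zc46) (kc xc8 yc26 zc48) (kc xc4 yc44 zc14) (kc xc17 yc17 zc16) (kc xc4 yc44 zc13) (kc xc17 yc17 zc18) (kc xc17 yc17 zc19) (kc xc7 yc1 zc61) (kc xc17 yc17 zc24) (kc xc12 yc33 zc39) (kc xc14 yc11 zc45) (kc xc17 yc17 zc28) (kc xc12 yc28 zc34) (kc xc17 yc17 zc30) (kc xc12 yc27 zc48) (kc xc17 yc17 zc33) (kc xc17 yc17 zc35) (kc xc4 yc44 zc19) (kc xc17 yc17 zc41) (kc xc4 yc44 zc21) (kc xc6 yc34 zc44) (kc xc17 yc17 zc46) (kc xc4 yc44 zc23) (kc xc17 yc17 zc48) (kc xc4 yc44 zc25) (kc xc14 yc11 zc55) (kc xc12 yc29 zc0) (kc xc6 yc33 zc37) (kc xc4 yc44 zc27) (kc xc12 yc27 zc44) (kc xc12 yc27 zc41) (kc xc6 yc33 zc41) (kc xc6 yc21 zc11) (kc xc17 yc17 zc57) (kc xc17 yc17 zc58)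 (kc xc4 yc44 zc30) (kc xc6 yc33 zc51) (kc xc6 yc17 zc45) (kc xc13 yc16 zc37) (kc xc13 yc16 zc36) (kc xc4 yc44 zc50) (kc xc12 yc32 zc12) (kc xc4 yc47 zc47) (kc xc17 yc10 zc14) (kc xc6 yc43 zc15) (kc xc9 yc16 zc4) (kc xc12 yc57 zc12) (kc xc17 yc18 zc11) (kc xc14 yc3 zc54)) (@D3.rec (fun _ => Pt) (kc xc11 yc21 zc28) (kc xc12 yc29 zc50) (kc xc17 yc18 zc17) (kc xc7 yc40 zc46) (kc xc6 yc19 zc28) (kc xc9 yc24 zc5) (kc xc6 yc16 zc13) (kc xc6 yc33 zc29) (kc xc9 yc24 zc6) (kc xc17 yc18 zc28) (kc xc12 yc27 zc61) (kc xc12 yc1 zc57) (kc xc9 yc7 zc29) (kc xc9 yc8 zc42) (kc xc11 yc33 zc29) (kc xc9 yc8 zc3) (kc xc17 yc18 zc36) (kc xc17 yc18 zc39) (kc xc17 yc18 zc44) (kc xc13 yc18 zc61) (kc xc12 yc14 zc41) (kc xc6 yc16 zc18) (kc xc17 yc10 zc47) (kc xc7 yc47 zc53) (kc xc14 yc41 zc43)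 (kc xc17 yc18 zc59) (kc xc9 yc26 zc33) (kc xc4 yc44 zc54) (kc xc11 yc40 zc14) (kc xc11 yc40 zc15) (kc xc11 yc31 zc18) (kc xc4 yc44 zc56) (kc xc9 yc3 zc30) (kc xc11 yc44 zc42) (kc xc9 yc3 zc52) (kc xc17 yc1 zc23) (kc xc12 yc49 zc9) (kc xc6 yc16 zc51) (kc xc6 yc16 zc52) (kc xc4 yc44 zc59) (kc xc17 yc19 zc8) (kc xc11 yc55 zc7) (kc xc9 yc26 zc29) (kc xc15 yc4 zc55) (kc xc6 yc1 zc46) (kc xc12 yc24 zc1) (kc xc14 yc1 zc40) (kc xc12 yc17 zc48) (kc xc9 yc23 zc10) (kc xc9 yc15 zc45) (kc xc4 yc45 zc5) (kc xc4 yc45 zc3) (kc xc16 yc0 zc0) (kc xc4 yc45 zc4) (kc xc5 yc54 zc35) (kc xc6 yc50 zc20) (kc xc9 yc23 zc3) (kc xc9 yc15 zc51) (kc xc5 yc15 zc22) (kc xc17 yc19 zc26) (kc xc4 yc45 zc9) (kc xc9 yc49 zc49)) (@D3.rec (fun _ => Pt) (kc xc9 yc49 zc50) (kc xc12 yc46 zc40) (kc xc12 yc2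 zc45) (kc xc9 yc22 zc56) (kc xc6 yc20 zc44) (kc xc17 yc19 zc33) (kc xc12 yc48 zc56) (kc xc12 yc23 zc38) (kc xc17 yc19 zc35) (kc xc13 yc2 zc2) (kc xc9 yc22 zc48) (kc xc10 yc7 zc19) (kc xc4 yc45 zc16) (kc xc12 yc44 zc54) (kc xc17 yc19 zc40) (kc xc11 yc47 zc9) (kc xc4 yc45 zc17) (kc xc17 yc19 zc47) (kc xc17 yc19 zc46) (kc xc11 yc45 zc58) (kc xc6 yc35 zc51) (kc xc17 yc9 zc54) (kc xc17 yc19 zc56) (kc xc11 yc45 zc59) (kc xc17 yc20 zc0) (kc xc17 yc20 zc3) (kc xc17 yc20 zc8) (kc xc6 yc35 zc58) (kc xc17 yc20 zc10) (kc xc17 yc20 zc15) (kc xc9 yc26 zc52) (kc xc6 yc40 zc6) (kc xc17 yc20 zc19) (kc xc17 yc20 zc21) (kc xc12 yc28 zc37) (kc xc17 yc20 zc24) (kc xc17 yc20 zc26) (kc xc4 yc45 zc24) (kc xc17 yc11 zc60) (kc xc6 yc50 zc41) (kc xc12 yc57 zc18) (kc xc4 yc45 zc27) (kc xc6 yc0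 zc37) (kc xc6 yc0 zc38) (kc xc4 yc45 zc42) (kc xc17 yc20 zc39) (kc xc17 yc20 zc40) (kc xc4 yc45 zc32) (kc xc12 yc36 zc9) (kc xc12 yc15 zc8) (kc xc6 yc10 zc43) (kc xc6 yc35 zc59) (kc xc17 yc20 zc47) (kc xc12 yc33 zc7) (kc xc6 yc43 zc21) (kc xc17 yc20 zc52) (kc xc9 yc25 zc33) (kc xc11 yc48 zc4) (kc xc9 yc18 zc13) (kc xc9 yc13 zc22) (kc xc12 yc9 zc43) (kc xc9 yc19 zc47)) (@D3.rec (fun _ => Pt) (kc xc17 yc21 zc5) (kc xc11 yc58 zc33) (kc xc17 yc21 zc13) (kc xc12 yc17 zc28) (kc xc14 yc18 zc54) (kc xc9 yc22 zc5) (kc xc9 yc22 zc8) (kc xc9 yc25 zc40) (kc xc12 yc14 zc30) (kc xc8 yc31 zc25) (kc xc6 yc29 zc8) (kc xc17 yc21 zc26) (kc xc8 yc31 zc27) (kc xc6 yc59 zc1) (kc xc6 yc37 zc7) (kc xc17 yc21 zc31) (kc xc4 yc45 zc52) (kc xc4 yc45 zc51) (kc xc17 yc21 zc36) (kc xc4 yc45 zc54)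 (kc xc15 yc36 zc59) (kc xc17 yc21 zc37) (kc xc4 yc45 zc56) (kc xc8 yc34 zc49) (kc xc7 yc31 zc11) (kc xc17 yc20 zc41) (kc xc9 yc35 zc5) (kc xc4 yc45 zc58) (kc xc17 yc19 zc44) (kc xc17 yc19 zc29) (kc xc4 yc46 zc1) (kc xc12 yc40 zc41) (kc xc12 yc27 zc55) (kc xc9 yc25 zc13) (kc xc4 yc45 zc61) (kc xc17 yc21 zc46) (kc xc6 yc1 zc52) (kc xc14 yc1 zc39) (kc xc5 yc0 zc18) (kc xc12 yc23 zc41) (kc xc4 yc46 zc2) (kc xc17 yc21 zc52) (kc xc6 yc1 zc16) (kc xc9 yc55 zc51) (kc xc9 yc25 zc23) (kc xc6 yc43 zc29) (kc xc15 yc30 zc59) (kc xc5 yc1 zc32) (kc xc17 yc21 zc59) (kc xc17 yc22 zc1) (kc xc10 yc15 zc7) (kc xc6 yc38 zc1) (kc xc5 yc17 zc5) (kc xc4 yc46 zc10) (kc xc4 yc46 zc11) (kc xc17 yc22 zc6) (kc xc4 yc46 zc12) (kc xc17 yc22 zc9) (kc xc15 yc46 zc47) (kc xc8 yc21 zc45) (kc xc6 yc47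 zc45) (kc xc8 yc15 zc60)) (@D3.rec (fun _ => Pt) (kc xc4 yc46 zc14) (kc xc16 yc3 zc40) (kc xc6 yc50 zc19) (kc xc4 yc46 zc15) (kc xc12 yc10 zc37) (kc xc17 yc22 zc21) (kc xc7 yc36 zc13) (kc xc4 yc46 zc16) (kc xc5 yc49 zc30) (kc xc15 yc26 zc18) (kc xc4 yc46 zc17) (kc xc16 yc29 zc32) (kc xc16 yc49 zc6) (kc xc9 yc24 zc33) (kc xc14 yc23 zc46) (kc xc4 yc46 zc20) (kc xc11 yc21 zc16) (kc xc4 yc46 zc19) (kc xc17 yc22 zc37) (kc xc17 yc22 zc42) (kc xc17 yc22 zc46) (kc xc17 yc22 zc51) (kc xc17 yc22 zc35) (kc xc9 yc24 zc44) (kc xc8 yc30 zc56) (kc xc12 yc24 zc0) (kc xc4 yc46 zc24) (kc xc7 yc57 zc16) (kc xc17 yc22 zc55) (kc xc4 yc46 zc25) (kc xc7 yc14 zc28) (kc xc4 yc46 zc26) (kc xc9 yc29 zc61) (kc xc9 yc23 zc56) (kc xc4 yc46 zc29) (kc xc9 yc9 zc25) (kc xc11 yc29 zc13) (kc xc8 yc47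 zc0) (kc xc17 yc23 zc8) (kc xc5 yc17 zc21) (kc xc9 yc24 zc7) (kc xc10 yc15 zc5) (kc xc10 yc15 zc6) (kc xc4 yc46 zc31) (kc xc17 yc23 zc16) (kc xc12 yc14 zc18) (kc xc6 yc19 zc61) (kc xc14 yc6 zc36) (kc xc4 yc46 zc36) (kc xc4 yc46 zc35) (kc xc17 yc23 zc18) (kc xc4 yc48 zc48) (kc xc17 yc23 zc23) (kc xc12 yc17 zc4) (kc xc6 yc50 zc18) (kc xc6 yc1 zc49) (kc xc11 yc35 zc4) (kc xc4 yc46 zc38) (kc xc17 yc23 zc26) (kc xc17 yc23 zc31) (kc xc4 yc59 zc47) (kc xc6 yc51 zc6)) (@D3.rec (fun _ => Pt) (kc xc10 yc43 zc46) (kc xc17 yc23 zc36) (kc xc4 yc49 zc0) (kc xc4 yc46 zc42) (kc xc17 yc23 zc38) (kc xc4 yc46 zc43) (kc xc5 yc57 zc35) (kc xc4 yc46 zc54) (kc xc4 yc46 zc45) (kc xc17 yc23 zc50) (kc xc17 yc23 zc54) (kc xc17 yc23 zc58) (kc xc17 yc23 zc48) (kc xc4 yc46 zc46) (kc xc16 yc43 zc15)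 (kc xc11 yc35 zc28) (kc xc4 yc46 zc47) (kc xc17 yc24 zc4) (kc xc17 yc24 zc3) (kc xc17 yc24 zc7) (kc xc17 yc24 zc10) (kc xc4 yc46 zc48) (kc xc17 yc24 zc16) (kc xc17 yc2 zc33) (kc xc4 yc46 zc50) (kc xc17 yc24 zc20) (kc xc9 yc26 zc31) (kc xc9 yc26 zc32) (kc xc17 yc24 zc30) (kc xc9 yc22 zc42) (kc xc14 yc59 zc26) (kc xc9 yc26 zc26) (kc xc9 yc26 zc27) (kc xc9 yc22 zc26) (kc xc17 yc12 zc53) (kc xc17 yc24 zc37) (kc xc17 yc23 zc44) (kc xc17 yc18 zc49) (kc xc15 yc51 zc16) (kc xc17 yc24 zc49) (kc xc4 yc46 zc59) (kc xc17 yc24 zc51) (kc xc4 yc46 zc56) (kc xc17 yc24 zc59) (kc xc10 yc21 zc60) (kc xc16 yc24 zc31) (kc xc4 yc46 zc57) (kc xc17 yc25 zc4) (kc xc17 yc25 zc6) (kc xc17 yc25 zc10) (kc xc4 yc46 zc58) (kc xc17 yc25 zc17) (kc xc9 yc23 zc30) (kc xc17 yc25 zc20) (kc xc17 yc25 zc22)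 (kc xc17 yc25 zc26) (kc xc10 yc18 zc16) (kc xc17 yc25 zc30) (kc xc10 yc17 zc39) (kc xc6 yc47 zc13) (kc xc15 yc57 zc58) (kc xc4 yc47 zc1)) (@D3.rec (fun _ => Pt) (kc xc17 yc25 zc36) (kc xc17 yc25 zc39) (kc xc17 yc25 zc40) (kc xc5 yc4 zc16) (kc xc4 yc47 zc3) (kc xc17 yc25 zc45) (kc xc17 yc25 zc43) (kc xc4 yc47 zc6) (kc xc4 yc47 zc5) (kc xc17 yc25 zc49) (kc xc17 yc25 zc54) (kc xc12 yc28 zc38) (kc xc17 yc25 zc55) (kc xc4 yc47 zc7) (kc xc17 yc25 zc60) (kc xc17 yc26 zc1) (kc xc4 yc47 zc8) (kc xc17 yc26 zc4) (kc xc17 yc12 zc4) (kc xc6 yc12 zc37) (kc xc17 yc24 zc14) (kc xc17 yc10 zc43) (kc xc4 yc47 zc10) (kc xc17 yc26 zc18) (kc xc17 yc26 zc21) (kc xc11 yc57 zc52) (kc xc17 yc26 zc26) (kc xc6 yc20 zc36) (kc xc17 yc26 zc29) (kc xc17 yc26 zc31) (kc xc17 yc26 zc34) (kc xc4 yc47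 zc14) (kc xc4 yc47 zc17) (kc xc5 yc6 zc59) (kc xc6 yc39 zc55) (kc xc17 yc26 zc43) (kc xc17 yc26 zc46) (kc xc10 yc5 zc13) (kc xc16 yc2 zc3) (kc xc6 yc46 zc16) (kc xc15 yc40 zc30) (kc xc17 yc26 zc54) (kc xc9 yc32 zc27) (kc xc17 yc26 zc59) (kc xc6 yc47 zc27) (kc xc4 yc47 zc21) (kc xc17 yc27 zc2) (kc xc7 yc31 zc18) (kc xc17 yc27 zc8) (kc xc4 yc47 zc23) (kc xc4 yc47 zc24) (kc xc17 yc27 zc13) (kc xc17 yc27 zc11) (kc xc17 yc27 zc16) (kc xc4 yc47 zc27) (kc xc4 yc47 zc26) (kc xc15 yc58 zc12) (kc xc15 yc40 zc12) (kc xc17 yc27 zc21) (kc xc4 yc47 zc28) (kc xc15 yc47 zc14) (kc xc4 yc47 zc29)) (@D3.rec (fun _ => Pt) (kc xc12 yc16 zc3) (kc xc12 yc16 zc4) (kc xc4 yc50 zc17) (kc xc17 yc27 zc38) (kc xc12 yc20 zc60) (kc xc9 yc15 zc46) (kc xc12 yc19 zc9) (kc xc9 yc28 zc25) (kc xc12 yc18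 zc57) (kc xc9 yc28 zc24) (kc xc4 yc47 zc35) (kc xc12 yc24 zc26) (kc xc12 yc24 zc25) (kc xc9 yc28 zc16) (kc xc8 yc35 zc37) (kc xc13 yc52 zc33) (kc xc9 yc28 zc13) (kc xc8 yc35 zc42) (kc xc12 yc13 zc20) (kc xc9 yc15 zc50) (kc xc17 yc28 zc7) (kc xc12 yc26 zc49) (kc xc4 yc50 zc29) (kc xc17 yc28 zc15) (kc xc9 yc28 zc9) (kc xc9 yc28 zc7) (kc xc4 yc47 zc42) (kc xc17 yc28 zc22) (kc xc7 yc36 zc16) (kc xc7 yc36 zc17) (kc xc6 yc41 zc53) (kc xc17 yc28 zc29) (kc xc4 yc47 zc45) (kc xc4 yc47 zc46) (kc xc17 yc28 zc33) (kc xc17 yc28 zc36) (kc xc17 yc19 zc14) (kc xc17 yc28 zc40) (kc xc6 yc40 zc0) (kc xc17 yc28 zc43) (kc xc17 yc28 zc46) (kc xc17 yc28 zc49) (kc xc4 yc47 zc52) (kc xc17 yc28 zc54) (kc xc17 yc28 zc56) (kc xc4 yc47 zc55) (kc xc4 yc47 zc56) (kc xc17 yc29 zc0) (kc xc17 yc29 zc3)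 (kc xc4 yc47 zc58) (kc xc4 yc47 zc59) (kc xc4 yc47 zc60) (kc xc12 yc15 zc53) (kc xc6 yc28 zc36) (kc xc4 yc48 zc9) (kc xc17 yc29 zc19) (kc xc15 yc59 zc61) (kc xc17 yc29 zc20) (kc xc17 yc29 zc21) (kc xc4 yc48 zc2) (kc xc17 yc29 zc22) (kc xc15 yc37 zc0)) (@D3.rec (fun _ => Pt) (kc xc8 yc36 zc18) (kc xc4 yc48 zc7) (kc xc4 yc48 zc8) (kc xc17 yc29 zc34) (kc xc17 yc29 zc39) (kc xc17 yc29 zc15) (kc xc17 yc29 zc44) (kc xc15 yc40 zc16) (kc xc9 yc32 zc23) (kc xc5 yc50 zc18) (kc xc6 yc43 zc13) (kc xc6 yc49 zc18) (kc xc17 yc29 zc53) (kc xc4 yc48 zc14) (kc xc17 yc29 zc54) (kc xc4 yc48 zc15) (kc xc13 yc55 zc35) (kc xc13 yc55 zc36) (kc xc17 yc30 zc0) (kc xc6 yc37 zc51) (kc xc17 yc30 zc4) (kc xc17 yc30 zc5) (kc xc17 yc30 zc7) (kc xc17 yc30 zc9) (kc xc4 yc48 zc19) (kc xc17 yc30 zc15)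 (kc xc6 yc20 zc12) (kc xc17 yc30 zc16) (kc xc4 yc48 zc22) (kc xc11 yc57 zc58) (kc xc17 yc30 zc20) (kc xc4 yc48 zc24) (kc xc4 yc48 zc25) (kc xc4 yc48 zc26) (kc xc12 yc24 zc15) (kc xc6 yc30 zc18) (kc xc4 yc48 zc38) (kc xc17 yc30 zc34) (kc xc4 yc48 zc28) (kc xc17 yc16 zc52) (kc xc17 yc30 zc42) (kc xc12 yc16 zc35) (kc xc12 yc16 zc34) (kc xc4 yc48 zc33) (kc xc14 yc56 zc13) (kc xc4 yc48 zc36) (kc xc17 yc30 zc51) (kc xc17 yc30 zc55) (kc xc17 yc30 zc60) (kc xc17 yc30 zc29) (kc xc17 yc31 zc3) (kc xc17 yc30 zc31) (kc xc5 yc40 zc46) (kc xc4 yc48 zc41) (kc xc17 yc31 zc6) (kc xc9 yc49 zc55) (kc xc6 yc25 zc23) (kc xc9 yc47 zc52) (kc xc9 yc5 zc28) (kc xc9 yc47 zc53) (kc xc9 yc47 zc37) (kc xc9 yc25 zc32)) (@D3.rec (fun _ => Pt) (kc xc9 yc49 zc51) (kc xc9 yc49 zc52) (kc xc11 yc43 zc49)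 (kc xc9 yc6 zc3) (kc xc9 yc49 zc39) (kc xc17 yc31 zc26) (kc xc4 yc48 zc49) (kc xc10 yc0 zc9) (kc xc14 yc33 zc29) (kc xc7 yc41 zc56) (kc xc4 yc48 zc53) (kc xc4 yc48 zc52) (kc xc5 yc48 zc22) (kc xc5 yc48 zc23) (kc xc17 yc31 zc34) (kc xc11 yc26 zc22) (kc xc6 yc17 zc3) (kc xc17 yc31 zc29) (kc xc4 yc48 zc54) (kc xc17 yc31 zc38) (kc xc17 yc31 zc44) (kc xc16 yc36 zc4) (kc xc6 yc56 zc34) (kc xc17 yc31 zc45) (kc xc15 yc8 zc6) (kc xc7 yc44 zc10) (kc xc4 yc48 zc59) (kc xc11 yc54 zc34) (kc xc13 yc3 zc7) (kc xc9 yc50 zc13) (kc xc4 yc48 zc60) (kc xc11 yc54 zc35) (kc xc17 yc31 zc53) (kc xc10 yc44 zc32) (kc xc10 yc44 zc33) (kc xc4 yc48 zc61) (kc xc17 yc31 zc57) (kc xc9 yc59 zc51) (kc xc9 yc50 zc12) (kc xc4 yc49 zc1) (kc xc12 yc47 zc0) (kc xc6 yc6 zc7) (kc xc17 yc31 zc60) (kc xc17 yc32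 zc4) (kc xc17 yc32 zc6) (kc xc17 yc32 zc7) (kc xc4 yc49 zc3) (kc xc17 yc32 zc10) (kc xc13 yc59 zc10) (kc xc13 yc3 zc8) (kc xc6 yc47 zc2) (kc xc7 yc44 zc11) (kc xc4 yc49 zc5) (kc xc17 yc32 zc21) (kc xc17 yc32 zc18) (kc xc17 yc32 zc16) (kc xc17 yc32 zc28) (kc xc4 yc49 zc8) (kc xc4 yc49 zc7) (kc xc17 yc32 zc34) (kc xc17 yc32 zc37) (kc xc13 yc5 zc48)) (@D3.rec (fun _ => Pt) (kc xc4 yc49 zc9) (kc xc6 yc54 zc53) (kc xc17 yc32 zc41) (kc xc4 yc49 zc10) (kc xc6 yc54 zc54) (kc xc17 yc32 zc46) (kc xc5 yc26 zc49) (kc xc5 yc26 zc50) (kc xc17 yc32 zc56) (kc xc4 yc49 zc12) (kc xc17 yc32 zc59) (kc xc4 yc49 zc13) (kc xc17 yc33 zc0) (kc xc4 yc49 zc14) (kc xc11 yc55 zc1) (kc xc10 yc44 zc16) (kc xc17 yc33 zc2) (kc xc17 yc33 zc4) (kc xc4 yc49 zc16) (kc xc17 yc33 zc7) (kc xc17 yc33 zc10)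 (kc xc4 yc49 zc17) (kc xc17 yc33 zc12) (kc xc4 yc49 zc18) (kc xc17 yc33 zc5) (kc xc4 yc49 zc20) (kc xc8 yc24 zc31) (kc xc12 yc18 zc30) (kc xc16 yc6 zc51) (kc xc4 yc49 zc21) (kc xc4 yc49 zc22) (kc xc17 yc33 zc23) (kc xc9 yc32 zc13) (kc xc17 yc33 zc27) (kc xc4 yc49 zc25) (kc xc4 yc49 zc24) (kc xc14 yc35 zc60) (kc xc17 yc33 zc35) (kc xc17 yc33 zc31) (kc xc10 yc15 zc50) (kc xc4 yc49 zc27) (kc xc10 yc43 zc59) (kc xc4 yc49 zc29) (kc xc17 yc33 zc40) (kc xc4 yc49 zc32) (kc xc5 yc3 zc11) (kc xc10 yc17 zc0) (kc xc4 yc49 zc33) (kc xc17 yc33 zc45) (kc xc16 yc11 zc20) (kc xc12 yc15 zc36) (kc xc12 yc17 zc10) (kc xc6 yc22 zc18) (kc xc15 yc27 zc37) (kc xc17 yc33 zc52) (kc xc17 yc33 zc57) (kc xc15 yc32 zc59) (kc xc17 yc34 zc1) (kc xc15 yc32 zc54) (kc xc6 yc12 zc17) (kc xc4 yc49 zc41)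 (kc xc15 yc32 zc31)) (@D3.rec (fun _ => Pt) (kc xc12 yc57 zc28) (kc xc15 yc31 zc38) (kc xc10 yc45 zc16) (kc xc4 yc49 zc49) (kc xc15 yc40 zc59) (kc xc17 yc34 zc13) (kc xc17 yc34 zc15) (kc xc9 yc59 zc53) (kc xc9 yc59 zc37) (kc xc17 yc34 zc18) (kc xc4 yc49 zc46) (kc xc17 yc34 zc23) (kc xc12 yc55 zc42) (kc xc9 yc31 zc32) (kc xc17 yc34 zc26) (kc xc15 yc28 zc20) (kc xc4 yc49 zc50) (kc xc17 yc34 zc33) (kc xc17 yc34 zc36) (kc xc12 yc55 zc10) (kc xc17 yc34 zc39) (kc xc17 yc34 zc31) (kc xc4 yc49 zc54) (kc xc9 yc29 zc8) (kc xc12 yc51 zc12) (kc xc12 yc18 zc29) (kc xc17 yc34 zc44) (kc xc9 yc27 zc42) (kc xc17 yc34 zc45) (kc xc17 yc12 zc34) (kc xc6 yc46 zc58) (kc xc4 yc49 zc59) (kc xc6 yc30 zc8) (kc xc5 yc14 zc26) (kc xc9 yc15 zc44) (kc xc4 yc50 zc2) (kc xc17 yc27 zc9) (kc xc4 yc50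 zc4) (kc xc17 yc22 zc17) (kc xc5 yc6 zc56) (kc xc4 yc50 zc6) (kc xc4 yc50 zc8) (kc xc17 yc34 zc56) (kc xc4 yc50 zc10) (kc xc15 yc47 zc13) (kc xc17 yc34 zc59) (kc xc12 yc15 zc14) (kc xc12 yc15 zc15) (kc xc4 yc50 zc13) (kc xc14 yc12 zc15) (kc xc5 yc45 zc44) (kc xc17 yc16 zc2) (kc xc15 yc30 zc9) (kc xc5 yc45 zc56) (kc xc17 yc35 zc1) (kc xc17 yc35 zc5) (kc xc17 yc27 zc34) (kc xc17 yc35 zc9) (kc xc5 yc14 zc9) (kc xc17 yc35 zc10) (kc xc17 yc35 zc12) (kc xc14 yc56 zc41)) (@D3.rec (fun _ => Pt) (kc xc14 yc56 zc42) (kc xc4 yc50 zc23) (kc xc6 yc52 zc30) (kc xc17 yc35 zc18) (kc xc17 yc35 zc20) (kc xc16 yc14 zc39) (kc xc9 yc37 zc19) (kc xc8 yc23 zc3) (kc xc12 yc13 zc24) (kc xc4 yc50 zc27) (kc xc17 yc35 zc28) (kc xc17 yc35 zc32) (kc xc4 yc50 zc28) (kc xc15 yc57 zc48) (kc xc4 yc50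 zc31) (kc xc17 yc35 zc39) (kc xc4 yc50 zc33) (kc xc17 yc35 zc43) (kc xc5 yc22 zc0) (kc xc5 yc22 zc3) (kc xc4 yc50 zc43) (kc xc10 yc9 zc38) (kc xc10 yc33 zc46) (kc xc8 yc38 zc36) (kc xc4 yc50 zc39) (kc xc17 yc35 zc58) (kc xc17 yc35 zc60) (kc xc14 yc51 zc2) (kc xc8 yc13 zc50) (kc xc8 yc6 zc56) (kc xc8 yc2 zc48) (kc xc6 yc5 zc3) (kc xc8 yc6 zc50) (kc xc6 yc5 zc2) (kc xc17 yc36 zc9) (kc xc17 yc36 zc14) (kc xc17 yc35 zc49) (kc xc17 yc36 zc20) (kc xc10 yc33 zc45) (kc xc8 yc6 zc43) (kc xc8 yc6 zc35) (kc xc4 yc50 zc44) (kc xc8 yc2 zc50) (kc xc16 yc4 zc9) (kc xc4 yc51 zc4) (kc xc16 yc4 zc8) (kc xc8 yc40 zc15) (kc xc4 yc50 zc50) (kc xc15 yc51 zc28) (kc xc8 yc17 zc3) (kc xc4 yc50 zc52) (kc xc10 yc32 zc34) (kc xc10 yc32 zc32) (kc xc8 yc40 zc21) (kc xc4 yc50 zc55) (kc xc15 yc37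 zc45) (kc xc8 yc18 zc33) (kc xc4 yc50 zc57) (kc xc12 yc30 zc45) (kc xc17 yc36 zc52) (kc xc17 yc36 zc56) (kc xc17 yc36 zc61)) (@D3.rec (fun _ => Pt) (kc xc8 yc1 zc36) (kc xc17 yc37 zc5) (kc xc8 yc1 zc38) (kc xc9 yc36 zc24) (kc xc4 yc50 zc61) (kc xc4 yc51 zc12) (kc xc4 yc51 zc2) (kc xc8 yc30 zc34) (kc xc8 yc30 zc35) (kc xc15 yc58 zc56) (kc xc17 yc36 zc25) (kc xc8 yc39 zc53) (kc xc4 yc51 zc6) (kc xc17 yc36 zc32) (kc xc15 yc49 zc9) (kc xc8 yc10 zc21) (kc xc8 yc36 zc34) (kc xc4 yc51 zc9) (kc xc17 yc37 zc30) (kc xc17 yc37 zc31) (kc xc16 yc15 zc55) (kc xc5 yc23 zc59) (kc xc9 yc35 zc13) (kc xc5 yc23 zc31) (kc xc8 yc25 zc24) (kc xc9 yc35 zc14) (kc xc7 yc55 zc41) (kc xc17 yc37 zc47) (kc xc17 yc37 zc51) (kc xc17 yc37 zc12) (kc xc17 yc37 zc58) (kc xc17 yc37 zc13) (kc xc7 yc55 zc28)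 (kc xc9 yc36 zc18) (kc xc8 yc17 zc5) (kc xc8 yc17 zc6) (kc xc17 yc38 zc13) (kc xc4 yc51 zc17) (kc xc4 yc51 zc15) (kc xc17 yc38 zc16) (kc xc4 yc51 zc16) (kc xc7 yc33 zc31) (kc xc5 yc18 zc4) (kc xc9 yc52 zc3) (kc xc16 yc2 zc60) (kc xc8 yc33 zc52) (kc xc4 yc51 zc26) (kc xc7 yc57 zc59) (kc xc4 yc51 zc22) (kc xc8 yc34 zc2) (kc xc16 yc2 zc61) (kc xc8 yc16 zc32) (kc xc4 yc51 zc25) (kc xc17 yc36 zc40) (kc xc15 yc49 zc6) (kc xc17 yc38 zc34) (kc xc15 yc42 zc36) (kc xc17 yc38 zc24) (kc xc17 yc38 zc42) (kc xc14 yc55 zc44) (kc xc9 yc36 zc16) (kc xc8 yc40 zc17)) (@D3.rec (fun _ => Pt) (kc xc7 yc55 zc32) (kc xc17 yc38 zc54) (kc xc4 yc51 zc30) (kc xc8 yc31 zc20) (kc xc8 yc31 zc21) (kc xc9 yc24 zc26) (kc xc8 yc21 zc12) (kc xc7 yc55 zc29) (kc xc17 yc39 zc2) (kc xc17 yc39 zc5) (kc xc15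 yc57 zc31) (kc xc17 yc39 zc10) (kc xc15 yc57 zc33) (kc xc9 yc34 zc22) (kc xc9 yc34 zc25) (kc xc9 yc35 zc60) (kc xc8 yc18 zc35) (kc xc8 yc18 zc36) (kc xc17 yc39 zc27) (kc xc4 yc51 zc38) (kc xc4 yc51 zc36) (kc xc17 yc39 zc31) (kc xc4 yc51 zc37) (kc xc17 yc39 zc33) (kc xc10 yc32 zc37) (kc xc4 yc51 zc42) (kc xc7 yc58 zc13) (kc xc4 yc51 zc41) (kc xc8 yc35 zc3) (kc xc8 yc35 zc4) (kc xc17 yc39 zc42) (kc xc16 yc6 zc35) (kc xc17 yc39 zc45) (kc xc15 yc44 zc45) (kc xc17 yc39 zc37) (kc xc17 yc39 zc50) (kc xc17 yc39 zc38) (kc xc9 yc35 zc52) (kc xc8 yc40 zc23) (kc xc8 yc22 zc53) (kc xc8 yc5 zc51) (kc xc4 yc51 zc48) (kc xc12 yc30 zc36) (kc xc4 yc51 zc46) (kc xc4 yc51 zc47) (kc xc16 yc19 zc16) (kc xc17 yc39 zc60) (kc xc17 yc40 zc2) (kc xc16 yc13 zc45) (kc xc17 yc40 zc7) (kc xc12 yc26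 zc57) (kc xc8 yc24 zc47) (kc xc9 yc35 zc37) (kc xc17 yc40 zc14) (kc xc8 yc36 zc54) (kc xc15 yc40 zc22) (kc xc15 yc39 zc13) (kc xc15 yc33 zc60) (kc xc17 yc37 zc48) (kc xc15 yc34 zc0) (kc xc9 yc35 zc15) (kc xc8 yc4 zc19)) (@D3.rec (fun _ => Pt) (kc xc14 yc56 zc59) (kc xc4 yc52 zc29) (kc xc15 yc43 zc20) (kc xc17 yc40 zc40) (kc xc12 yc26 zc32) (kc xc7 yc20 zc12) (kc xc15 yc47 zc1) (kc xc17 yc40 zc45) (kc xc17 yc40 zc49) (kc xc17 yc40 zc52) (kc xc17 yc40 zc55) (kc xc4 yc51 zc58) (kc xc17 yc40 zc61) (kc xc17 yc41 zc0) (kc xc4 yc52 zc42) (kc xc17 yc41 zc9) (kc xc9 yc34 zc60) (kc xc17 yc37 zc56) (kc xc9 yc34 zc33) (kc xc17 yc40 zc59) (kc xc4 yc52 zc1) (kc xc17 yc37 zc6) (kc xc17 yc41 zc29) (kc xc17 yc41 zc25) (kc xc9 yc34 zc3) (kc xc17 yc41 zc38) (kc xc8 yc20 zc3) (kc xc4 yc52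 zc4) (kc xc17 yc41 zc44) (kc xc17 yc41 zc43) (kc xc16 yc2 zc38) (kc xc4 yc52 zc5) (kc xc17 yc41 zc50) (kc xc17 yc41 zc49) (kc xc8 yc40 zc2) (kc xc4 yc52 zc7) (kc xc17 yc41 zc52) (kc xc17 yc41 zc54) (kc xc6 yc22 zc25) (kc xc8 yc40 zc29) (kc xc8 yc32 zc40) (kc xc6 yc4 zc18) (kc xc15 yc45 zc37) (kc xc15 yc57 zc4) (kc xc15 yc57 zc5) (kc xc17 yc42 zc7) (kc xc15 yc44 zc32) (kc xc4 yc52 zc12) (kc xc17 yc42 zc12) (kc xc15 yc38 zc35) (kc xc15 yc33 zc53) (kc xc4 yc52 zc13) (kc xc17 yc42 zc17) (kc xc17 yc42 zc16) (kc xc17 yc42 zc18) (kc xc4 yc52 zc16) (kc xc9 yc38 zc59) (kc xc8 yc8 zc12) (kc xc4 yc52 zc20) (kc xc15 yc38 zc34) (kc xc17 yc13 zc13) (kc xc8 yc20 zc12)) (@D3.rec (fun _ => Pt) (kc xc8 yc17 zc54) (kc xc8 yc54 zc24) (kc xc8 yc19 zc0) (kc xc8 yc19 zc1) (kc xc17 yc42 zc35)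 (kc xc15 yc45 zc38) (kc xc4 yc52 zc24) (kc xc17 yc42 zc39) (kc xc8 yc31 zc43) (kc xc4 yc52 zc25) (kc xc17 yc40 zc33) (kc xc4 yc52 zc30) (kc xc8 yc35 zc25) (kc xc8 yc35 zc32) (kc xc15 yc40 zc10) (kc xc17 yc42 zc51) (kc xc4 yc52 zc34) (kc xc4 yc52 zc35) (kc xc4 yc52 zc33) (kc xc9 yc33 zc6) (kc xc17 yc42 zc58) (kc xc4 yc52 zc37) (kc xc17 yc42 zc60) (kc xc4 yc52 zc38) (kc xc6 yc27 zc32) (kc xc4 yc52 zc41) (kc xc17 yc43 zc3) (kc xc17 yc43 zc4) (kc xc17 yc43 zc5) (kc xc4 yc52 zc43) (kc xc17 yc14 zc29) (kc xc12 yc25 zc9) (kc xc17 yc43 zc6) (kc xc17 yc43 zc9) (kc xc15 yc41 zc55) (kc xc15 yc41 zc56) (kc xc13 yc32 zc0) (kc xc4 yc52 zc50) (kc xc5 yc35 zc54) (kc xc15 yc52 zc37) (kc xc5 yc35 zc53) (kc xc15 yc53 zc20) (kc xc8 yc18 zc48) (kc xc8 yc18 zc49) (kc xc5 yc30 zc7) (kc xc15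 yc34 zc15) (kc xc4 yc52 zc55) (kc xc17 yc43 zc24) (kc xc4 yc52 zc56) (kc xc17 yc43 zc27) (kc xc17 yc43 zc26) (kc xc4 yc52 zc57) (kc xc11 yc52 zc3) (kc xc15 yc27 zc15) (kc xc4 yc52 zc61) (kc xc8 yc22 zc47) (kc xc8 yc22 zc48) (kc xc15 yc46 zc8) (kc xc4 yc53 zc0) (kc xc17 yc30 zc17) (kc xc4 yc53 zc1) (kc xc17 yc43 zc38)) (@D3.rec (fun _ => Pt) (kc xc17 yc43 zc42) (kc xc17 yc43 zc44) (kc xc4 yc53 zc3) (kc xc16 yc53 zc1) (kc xc12 yc18 zc2) (kc xc7 yc56 zc22) (kc xc17 yc43 zc57) (kc xc7 yc55 zc47) (kc xc16 yc1 zc43) (kc xc16 yc0 zc46) (kc xc15 yc57 zc20) (kc xc17 yc44 zc4) (kc xc15 yc57 zc22) (kc xc7 yc56 zc21) (kc xc15 yc13 zc5) (kc xc7 yc55 zc50) (kc xc16 yc3 zc60) (kc xc17 yc44 zc16) (kc xc6 yc49 zc58) (kc xc15 yc46 zc39) (kc xc17 yc44 zc21) (kc xc17 yc40 zc60) (kc xc17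 yc44 zc25) (kc xc17 yc44 zc28) (kc xc4 yc53 zc12) (kc xc17 yc44 zc32) (kc xc17 yc44 zc35) (kc xc7 yc56 zc33) (kc xc10 yc40 zc21) (kc xc7 yc56 zc31) (kc xc8 yc45 zc20) (kc xc8 yc45 zc21) (kc xc15 yc7 zc45) (kc xc7 yc56 zc1) (kc xc7 yc56 zc2) (kc xc17 yc44 zc53) (kc xc8 yc32 zc31) (kc xc17 yc44 zc56) (kc xc16 yc18 zc45) (kc xc15 yc41 zc29) (kc xc17 yc44 zc59) (kc xc16 yc18 zc48) (kc xc17 yc5 zc12) (kc xc17 yc5 zc16) (kc xc12 yc20 zc22) (kc xc16 yc36 zc26) (kc xc15 yc33 zc45) (kc xc11 yc49 zc17) (kc xc4 yc53 zc24) (kc xc16 yc5 zc5) (kc xc4 yc53 zc22) (kc xc17 yc45 zc5) (kc xc15 yc57 zc15) (kc xc4 yc53 zc23) (kc xc17 yc45 zc8) (kc xc17 yc45 zc7) (kc xc4 yc53 zc25) (kc xc17 yc45 zc10) (kc xc4 yc53 zc26) (kc xc9 yc36 zc56) (kc xc8 yc21 zc11) (kc xc16 yc6 zc4)) (@D3.rec (fun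 _ => Pt) (kc xc4 yc53 zc33) (kc xc17 yc45 zc16) (kc xc8 yc19 zc11) (kc xc4 yc53 zc34) (kc xc4 yc53 zc36) (kc xc15 yc35 zc16) (kc xc6 yc23 zc49) (kc xc8 yc23 zc11) (kc xc15 yc47 zc7) (kc xc17 yc45 zc25) (kc xc4 yc53 zc40) (kc xc4 yc53 zc39) (kc xc4 yc53 zc41) (kc xc17 yc45 zc30) (kc xc4 yc53 zc43) (kc xc4 yc53 zc44) (kc xc12 yc19 zc41) (kc xc6 yc47 zc54) (kc xc8 yc25 zc55) (kc xc14 yc25 zc34) (kc xc5 yc5 zc22) (kc xc4 yc53 zc56) (kc xc4 yc53 zc57) (kc xc6 yc25 zc14) (kc xc8 yc52 zc17) (kc xc8 yc52 zc20) (kc xc4 yc54 zc11) (kc xc16 yc13 zc30) (kc xc10 yc26 zc42) (kc xc4 yc54 zc0) (kc xc17 yc45 zc44) (kc xc5 yc20 zc2) (kc xc8 yc15 zc52) (kc xc9 yc40 zc33) (kc xc10 yc26 zc26) (kc xc10 yc9 zc40) (kc xc5 yc6 zc11) (kc xc4 yc54 zc6) (kc xc17 yc45 zc60) (kc xc10 yc11 zc32)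 (kc xc5 yc16 zc27) (kc xc4 yc54 zc8) (kc xc17 yc46 zc9) (kc xc17 yc46 zc11) (kc xc17 yc46 zc8) (kc xc10 yc23 zc45) (kc xc5 yc20 zc4) (kc xc5 yc19 zc4) (kc xc8 yc4 zc24) (kc xc5 yc20 zc1) (kc xc5 yc19 zc5) (kc xc17 yc46 zc29) (kc xc17 yc46 zc33) (kc xc16 yc23 zc38) (kc xc17 yc46 zc36) (kc xc10 yc26 zc41) (kc xc5 yc19 zc34) (kc xc5 yc19 zc35) (kc xc4 yc54 zc12) (kc xc17 yc46 zc43) (kc xc9 yc40 zc5) (kc xc4 yc54 zc14)) (@D3.rec (fun _ => Pt) (kc xc17 yc46 zc49) (kc xc4 yc54 zc15) (kc xc17 yc46 zc53) (kc xc5 yc19 zc33) (kc xc7 yc57 zc33) (kc xc9 yc39 zc60) (kc xc10 yc22 zc25) (kc xc9 yc56 zc26) (kc xc5 yc12 zc4) (kc xc4 yc54 zc21) (kc xc17 yc47 zc8) (kc xc17 yc47 zc7) (kc xc9 yc58 zc13) (kc xc5 yc18 zc21) (kc xc4 yc54 zc23) (kc xc17 yc47 zc19) (kc xc17 yc47 zc21) (kc xc17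 yc47 zc18) (kc xc5 yc9 zc9) (kc xc5 yc19 zc32) (kc xc5 yc19 zc11) (kc xc5 yc17 zc57) (kc xc5 yc19 zc29) (kc xc5 yc17 zc56) (kc xc17 yc47 zc40) (kc xc17 yc47 zc45) (kc xc15 yc50 zc48) (kc xc5 yc10 zc59) (kc xc10 yc20 zc48) (kc xc5 yc19 zc38) (kc xc5 yc19 zc37) (kc xc4 yc54 zc27) (kc xc17 yc47 zc53) (kc xc9 yc39 zc33) (kc xc4 yc54 zc29) (kc xc17 yc47 zc61) (kc xc8 yc26 zc35) (kc xc5 yc21 zc6) (kc xc4 yc54 zc31) (kc xc15 yc36 zc25) (kc xc5 yc21 zc5) (kc xc4 yc54 zc33) (kc xc8 yc26 zc49) (kc xc5 yc20 zc60) (kc xc4 yc54 zc35) (kc xc10 yc38 zc50) (kc xc17 yc48 zc19) (kc xc5 yc20 zc56) (kc xc4 yc54 zc37) (kc xc17 yc48 zc25) (kc xc17 yc48 zc24) (kc xc9 yc51 zc32) (kc xc5 yc20 zc45) (kc xc8 yc2 zc43) (kc xc17 yc48 zc34) (kc xc17 yc48 zc38) (kc xc15 yc1 zc9) (kc xc17 yc48 zc42)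 (kc xc15 yc1 zc11) (kc xc5 yc20 zc31) (kc xc5 yc25 zc38) (kc xc4 yc54 zc42)) (@D3.rec (fun _ => Pt) (kc xc8 yc53 zc35) (kc xc4 yc54 zc58) (kc xc4 yc54 zc45) (kc xc8 yc53 zc44) (kc xc8 yc53 zc45) (kc xc16 yc38 zc21) (kc xc10 yc31 zc30) (kc xc10 yc30 zc58) (kc xc15 yc33 zc19) (kc xc4 yc54 zc51) (kc xc10 yc31 zc5) (kc xc11 yc52 zc29) (kc xc16 yc43 zc60) (kc xc15 yc1 zc21) (kc xc5 yc22 zc52) (kc xc4 yc54 zc55) (kc xc11 yc19 zc29) (kc xc17 yc49 zc11) (kc xc17 yc49 zc10) (kc xc5 yc29 zc48) (kc xc5 yc24 zc15) (kc xc5 yc22 zc16) (kc xc5 yc39 zc0) (kc xc5 yc24 zc16) (kc xc5 yc22 zc17) (kc xc17 yc49 zc23) (kc xc17 yc49 zc27) (kc xc17 yc48 zc50) (kc xc17 yc49 zc34) (kc xc17 yc48 zc51) (kc xc8 yc25 zc47) (kc xc5 yc25 zc32) (kc xc5 yc22 zc22) (kc xc5 yc22 zc23) (kc xc17 yc49 zc53)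 (kc xc4 yc55 zc1) (kc xc4 yc54 zc61) (kc xc17 yc49 zc55) (kc xc4 yc55 zc0) (kc xc17 yc49 zc61) (kc xc5 yc22 zc1) (kc xc11 yc52 zc25) (kc xc10 yc52 zc1) (kc xc8 yc56 zc30) (kc xc4 yc55 zc11) (kc xc8 yc30 zc7) (kc xc4 yc55 zc7) (kc xc8 yc56 zc39) (kc xc6 yc33 zc14) (kc xc15 yc0 zc57) (kc xc4 yc55 zc10) (kc xc10 yc31 zc21) (kc xc15 yc45 zc21) (kc xc17 yc50 zc15) (kc xc10 yc47 zc0) (kc xc17 yc50 zc6) (kc xc16 yc17 zc7) (kc xc11 yc45 zc49) (kc xc5 yc25 zc30) (kc xc8 yc36 zc53) (kc xc5 yc30 zc12) (kc xc6 yc2 zc14)) (@D3.rec (fun _ => Pt) (kc xc4 yc55 zc15) (kc xc4 yc55 zc14) (kc xc8 yc54 zc25) (kc xc8 yc54 zc26) (kc xc10 yc1 zc53) (kc xc16 yc36 zc36) (kc xc5 yc29 zc18) (kc xc5 yc22 zc15) (kc xc17 yc50 zc42) (kc xc17 yc50 zc45) (kc xc16 yc36 zc34) (kc xc17 yc50 zc49) (kc xc5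 yc22 zc55) (kc xc5 yc22 zc59) (kc xc5 yc25 zc8) (kc xc5 yc24 zc3) (kc xc5 yc24 zc4) (kc xc4 yc55 zc24) (kc xc4 yc55 zc21) (kc xc17 yc51 zc1) (kc xc4 yc55 zc22) (kc xc17 yc51 zc3) (kc xc17 yc51 zc2) (kc xc4 yc55 zc23) (kc xc4 yc55 zc27) (kc xc8 yc29 zc59) (kc xc4 yc55 zc26) (kc xc8 yc57 zc54) (kc xc8 yc57 zc55) (kc xc16 yc46 zc49) (kc xc17 yc51 zc16) (kc xc10 yc53 zc44) (kc xc17 yc51 zc9) (kc xc16 yc19 zc5) (kc xc17 yc51 zc11) (kc xc5 yc24 zc61) (kc xc15 yc8 zc54) (kc xc5 yc32 zc31) (kc xc17 yc51 zc30) (kc xc4 yc55 zc33) (kc xc4 yc55 zc30) (kc xc6 yc2 zc25) (kc xc4 yc55 zc31) (kc xc17 yc51 zc34) (kc xc4 yc55 zc32) (kc xc17 yc51 zc40) (kc xc17 yc51 zc41) (kc xc17 yc51 zc45) (kc xc17 yc51 zc47) (kc xc4 yc55 zc34) (kc xc17 yc51 zc55) (kc xc17 yc51 zc52) (kc xc5 yc24 zc60)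 (kc xc5 yc24 zc40) (kc xc17 yc52 zc0) (kc xc10 yc38 zc42) (kc xc10 yc41 zc32) (kc xc10 yc40 zc19) (kc xc10 yc31 zc46) (kc xc12 yc6 zc11) (kc xc10 yc31 zc48) (kc xc5 yc24 zc17)) (@D3.rec (fun _ => Pt) (kc xc17 yc52 zc9) (kc xc10 yc31 zc43) (kc xc4 yc56 zc10) (kc xc10 yc49 zc56) (kc xc9 yc14 zc31) (kc xc16 yc39 zc45) (kc xc11 yc38 zc54) (kc xc5 yc16 zc25) (kc xc7 yc58 zc50) (kc xc5 yc11 zc57) (kc xc5 yc16 zc32) (kc xc17 yc52 zc19) (kc xc5 yc23 zc45) (kc xc13 yc30 zc57) (kc xc5 yc23 zc6) (kc xc10 yc25 zc27) (kc xc4 yc55 zc48) (kc xc11 yc26 zc4) (kc xc17 yc52 zc26) (kc xc5 yc21 zc7) (kc xc10 yc34 zc59) (kc xc10 yc32 zc28) (kc xc11 yc54 zc24) (kc xc4 yc55 zc51) (kc xc17 yc52 zc39) (kc xc17 yc52 zc37) (kc xc15 yc56 zc1) (kc xc4 yc55 zc52) (kc xc17 yc52 zc43) (kc xc10 yc53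 zc31) (kc xc4 yc55 zc53) (kc xc14 yc57 zc57) (kc xc4 yc55 zc54) (kc xc17 yc52 zc49) (kc xc4 yc55 zc55) (kc xc4 yc55 zc57) (kc xc17 yc52 zc53) (kc xc4 yc55 zc58) (kc xc4 yc55 zc59) (kc xc17 yc52 zc50) (kc xc11 yc1 zc46) (kc xc7 yc58 zc44) (kc xc4 yc56 zc1) (kc xc10 yc39 zc45) (kc xc10 yc39 zc46) (kc xc14 yc50 zc30) (kc xc5 yc27 zc26) (kc xc5 yc23 zc23) (kc xc15 yc53 zc35) (kc xc5 yc24 zc33) (kc xc5 yc24 zc34) (kc xc16 yc25 zc14) (kc xc4 yc56 zc7) (kc xc10 yc55 zc61) (kc xc4 yc56 zc5) (kc xc17 yc53 zc13) (kc xc8 yc54 zc42) (kc xc4 yc56 zc6) (kc xc4 yc56 zc9) (kc xc9 yc18 zc45) (kc xc10 yc58 zc47) (kc xc4 yc56 zc11)) (@D3.rec (fun _ => Pt) (kc xc8 yc58 zc31) (kc xc17 yc8 zc49) (kc xc5 yc33 zc57) (kc xc17 yc53 zc20) (kc xc10 yc41 zc13) (kc xc6 yc45 zc61) (kc xc10 yc41 zc11)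 (kc xc4 yc56 zc15) (kc xc8 yc57 zc37) (kc xc5 yc37 zc24) (kc xc8 yc58 zc32) (kc xc12 yc46 zc20) (kc xc17 yc8 zc48) (kc xc5 yc33 zc35) (kc xc10 yc58 zc48) (kc xc4 yc56 zc17) (kc xc17 yc53 zc36) (kc xc17 yc53 zc34) (kc xc17 yc53 zc32) (kc xc4 yc56 zc20) (kc xc17 yc52 zc15) (kc xc12 yc17 zc12) (kc xc12 yc17 zc14) (kc xc17 yc53 zc43) (kc xc9 yc5 zc17) (kc xc17 yc53 zc47) (kc xc10 yc23 zc16) (kc xc10 yc23 zc18) (kc xc4 yc56 zc27) (kc xc17 yc53 zc49) (kc xc15 yc21 zc52) (kc xc4 yc56 zc31) (kc xc17 yc53 zc51) (kc xc11 yc23 zc9) (kc xc11 yc6 zc9) (kc xc4 yc56 zc42) (kc xc5 yc38 zc38) (kc xc17 yc53 zc52) (kc xc4 yc56 zc37) (kc xc9 yc44 zc39) (kc xc6 yc15 zc23) (kc xc6 yc15 zc22) (kc xc16 yc52 zc61) (kc xc4 yc56 zc40) (kc xc16 yc53 zc0) (kc xc12 yc5 zc42) (kc xc4 yc56 zc43) (kc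 xc4 yc56 zc44) (kc xc8 yc20 zc35) (kc xc17 yc53 zc59) (kc xc15 yc35 zc28) (kc xc10 yc50 zc32) (kc xc17 yc54 zc5) (kc xc10 yc50 zc33) (kc xc7 yc56 zc16) (kc xc7 yc55 zc40) (kc xc17 yc54 zc17) (kc xc4 yc56 zc50) (kc xc17 yc54 zc19) (kc xc4 yc56 zc54) (kc xc17 yc54 zc23) (kc xc17 yc54 zc21)) (@D3.rec (fun _ => Pt) (kc xc4 yc56 zc56) (kc xc9 yc54 zc13) (kc xc16 yc15 zc16) (kc xc17 yc54 zc31) (kc xc16 yc20 zc40) (kc xc11 yc15 zc41) (kc xc4 yc56 zc60) (kc xc16 yc16 zc17) (kc xc16 yc16 zc18) (kc xc17 yc54 zc42) (kc xc9 yc45 zc10) (kc xc13 yc58 zc19) (kc xc17 yc54 zc50) (kc xc4 yc57 zc3) (kc xc9 yc3 zc41) (kc xc9 yc3 zc9) (kc xc4 yc57 zc5) (kc xc7 yc2 zc52) (kc xc11 yc23 zc49) (kc xc11 yc17 zc54) (kc xc4 yc57 zc8) (kc xc17 yc54 zc60) (kc xc4 yc57 zc10) (kc xc14 yc50 zc26) (kc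 xc5 yc42 zc50) (kc xc5 yc42 zc21) (kc xc7 yc2 zc54) (kc xc5 yc44 zc43) (kc xc4 yc57 zc12) (kc xc4 yc57 zc13) (kc xc17 yc55 zc4) (kc xc9 yc4 zc41) (kc xc16 yc53 zc7) (kc xc17 yc55 zc6) (kc xc4 yc57 zc19) (kc xc9 yc2 zc43) (kc xc4 yc57 zc18) (kc xc17 yc55 zc11) (kc xc4 yc57 zc20) (kc xc12 yc4 zc2) (kc xc17 yc55 zc9) (kc xc5 yc44 zc42) (kc xc4 yc57 zc23) (kc xc13 yc57 zc32) (kc xc16 yc29 zc18) (kc xc17 yc55 zc26) (kc xc7 yc25 zc26) (kc xc5 yc44 zc46) (kc xc4 yc57 zc29) (kc xc17 yc55 zc29) (kc xc17 yc55 zc31) (kc xc13 yc59 zc5) (kc xc16 yc54 zc29) (kc xc16 yc54 zc27) (kc xc5 yc44 zc35) (kc xc7 yc29 zc6) (kc xc4 yc57 zc33) (kc xc15 yc6 zc7) (kc xc5 yc44 zc24) (kc xc16 yc56 zc30) (kc xc5 yc34 zc23) (kc xc4 yc57 zc48)) (@D3.rec (fun _ => Pt) (kc xc15 yc24 zc6) (kc xc4 yc57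 zc49) (kc xc5 yc43 zc49) (kc xc4 yc57 zc36) (kc xc6 yc27 zc60) (kc xc5 yc44 zc5) (kc xc11 yc18 zc23) (kc xc17 yc55 zc58) (kc xc4 yc57 zc41) (kc xc4 yc57 zc42) (kc xc16 yc54 zc37) (kc xc4 yc57 zc39) (kc xc17 yc56 zc5) (kc xc17 yc56 zc8) (kc xc4 yc57 zc40) (kc xc17 yc56 zc14) (kc xc17 yc56 zc13) (kc xc17 yc55 zc59) (kc xc17 yc56 zc17) (kc xc17 yc56 zc19) (kc xc17 yc56 zc20) (kc xc15 yc22 zc32) (kc xc15 yc22 zc33) (kc xc16 yc59 zc18) (kc xc16 yc59 zc19) (kc xc4 yc57 zc45) (kc xc8 yc59 zc26) (kc xc4 yc57 zc46) (kc xc17 yc56 zc30) (kc xc4 yc57 zc47) (kc xc17 yc55 zc44) (kc xc17 yc56 zc36) (kc xc17 yc56 zc39) (kc xc17 yc5 zc53) (kc xc17 yc55 zc50) (kc xc4 yc57 zc50) (kc xc17 yc56 zc42) (kc xc4 yc57 zc52) (kc xc11 yc5 zc31) (kc xc11 yc22 zc17) (kc xc17 yc56 zc44) (kc xc17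 yc56 zc45) (kc xc4 yc57 zc55) (kc xc16 yc22 zc15) (kc xc6 yc26 zc36) (kc xc9 yc20 zc6) (kc xc17 yc56 zc50) (kc xc5 yc34 zc47) (kc xc17 yc9 zc11) (kc xc17 yc56 zc51) (kc xc5 yc34 zc50) (kc xc11 yc51 zc41) (kc xc11 yc51 zc42) (kc xc4 yc57 zc60) (kc xc17 yc56 zc24) (kc xc11 yc28 zc16) (kc xc17 yc56 zc60) (kc xc8 yc46 zc51) (kc xc17 yc57 zc1) (kc xc17 yc57 zc4) (kc xc8 yc46 zc54) (kc xc16 yc28 zc57)) (@D3.rec (fun _ => Pt) (kc xc16 yc28 zc58) (kc xc4 yc58 zc2) (kc xc17 yc57 zc13) (kc xc8 yc50 zc19) (kc xc17 yc57 zc18) (kc xc4 yc58 zc5) (kc xc17 yc57 zc21) (kc xc4 yc58 zc6) (kc xc15 yc34 zc30) (kc xc17 yc57 zc29) (kc xc16 yc29 zc4) (kc xc15 yc22 zc38) (kc xc6 yc9 zc15) (kc xc5 yc38 zc42) (kc xc11 yc38 zc15) (kc xc16 yc27 zc30) (kc xc4 yc58 zc11) (kc xc15 yc20 zc53) (kc xc6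 yc49 zc39) (kc xc4 yc58 zc14) (kc xc17 yc36 zc13) (kc xc4 yc58 zc15) (kc xc17 yc57 zc43) (kc xc4 yc58 zc20) (kc xc9 yc11 zc16) (kc xc9 yc10 zc1) (kc xc9 yc10 zc6) (kc xc9 yc10 zc7) (kc xc12 yc33 zc40) (kc xc9 yc48 zc27) (kc xc15 yc26 zc14) (kc xc8 yc38 zc15) (kc xc15 yc26 zc13) (kc xc7 yc39 zc53) (kc xc9 yc10 zc17) (kc xc4 yc58 zc26) (kc xc10 yc17 zc11) (kc xc9 yc29 zc60) (kc xc10 yc17 zc28) (kc xc11 yc40 zc9) (kc xc6 yc8 zc35) (kc xc11 yc24 zc44) (kc xc4 yc58 zc36) (kc xc17 yc57 zc61) (kc xc17 yc57 zc60) (kc xc5 yc56 zc35) (kc xc5 yc59 zc51) (kc xc5 yc56 zc34) (kc xc5 yc59 zc52) (kc xc5 yc57 zc37) (kc xc9 yc7 zc13) (kc xc6 yc10 zc53) (kc xc9 yc29 zc57) (kc xc9 yc29 zc59) (kc xc6 yc0 zc46) (kc xc5 yc57 zc41) (kc xc4 yc58 zc45) (kc xc4 yc58 zc46) (kc xc14 yc11 zc50)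 (kc xc6 yc31 zc35) (kc xc4 yc58 zc44) (kc xc12 yc30 zc56)) (@D3.rec (fun _ => Pt) (kc xc17 yc58 zc13) (kc xc4 yc58 zc47) (kc xc17 yc58 zc14) (kc xc4 yc58 zc48) (kc xc17 yc58 zc17) (kc xc14 yc10 zc15) (kc xc6 yc50 zc39) (kc xc4 yc58 zc51) (kc xc9 yc48 zc18) (kc xc4 yc58 zc54) (kc xc11 yc21 zc11) (kc xc17 yc58 zc25) (kc xc9 yc8 zc39) (kc xc4 yc59 zc0) (kc xc4 yc58 zc58) (kc xc9 yc8 zc16) (kc xc5 yc34 zc19) (kc xc14 yc20 zc0) (kc xc9 yc48 zc8) (kc xc9 yc9 zc0) (kc xc4 yc58 zc59) (kc xc11 yc41 zc26) (kc xc11 yc41 zc27) (kc xc17 yc58 zc38) (kc xc11 yc41 zc34) (kc xc4 yc58 zc61) (kc xc6 yc50 zc4) (kc xc9 yc47 zc29) (kc xc7 yc22 zc49) (kc xc17 yc58 zc28) (kc xc11 yc40 zc47) (kc xc5 yc56 zc53) (kc xc13 yc53 zc30) (kc xc4 yc59 zc5) (kc xc4 yc59 zc3) (kc xc17 yc58 zc50) (kc xc17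 yc58 zc49) (kc xc17 yc58 zc51) (kc xc4 yc59 zc4) (kc xc14 yc32 zc52) (kc xc4 yc59 zc6) (kc xc17 yc58 zc55) (kc xc4 yc59 zc7) (kc xc6 yc1 zc26) (kc xc5 yc57 zc6) (kc xc14 yc32 zc54) (kc xc17 yc59 zc4) (kc xc4 yc59 zc9) (kc xc17 yc59 zc7) (kc xc9 yc50 zc26) (kc xc17 yc0 zc22) (kc xc4 yc59 zc12) (kc xc17 yc59 zc10) (kc xc4 yc59 zc14) (kc xc6 yc32 zc54) (kc xc9 yc7 zc31) (kc xc9 yc7 zc30) (kc xc15 yc4 zc61) (kc xc11 yc40 zc10) (kc xc17 yc59 zc22) (kc xc4 yc59 zc20) (kc xc17 yc0 zc23)) (@D3.rec (fun _ => Pt) (kc xc4 yc59 zc18) (kc xc4 yc59 zc19) (kc xc7 yc28 zc18) (kc xc9 yc11 zc17) (kc xc9 yc11 zc18) (kc xc17 yc59 zc32) (kc xc6 yc39 zc5) (kc xc5 yc55 zc42) (kc xc5 yc55 zc38) (kc xc5 yc50 zc13) (kc xc5 yc57 zc36) (kc xc5 yc56 zc36) (kc xc6 yc39 zc1) (kc xc5 yc58 zc12) (kc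 xc5 yc58 zc14) (kc xc6 yc0 zc43) (kc xc5 yc59 zc39) (kc xc5 yc59 zc40) (kc xc17 yc59 zc46) (kc xc4 yc59 zc29) (kc xc4 yc59 zc27) (kc xc17 yc59 zc49) (kc xc17 yc59 zc50) (kc xc4 yc59 zc28) (kc xc17 yc59 zc55) (kc xc4 yc59 zc33) (kc xc4 yc59 zc32) (kc xc9 yc13 zc23) (kc xc17 yc7 zc51) (kc xc7 yc30 zc39) (kc xc17 yc13 zc14) (kc xc7 yc22 zc44) (kc xc17 yc59 zc57) (kc xc6 yc0 zc34) (kc xc6 yc0 zc23) (kc xc6 yc0 zc24) (kc xc18 yc0 zc8) (kc xc4 yc59 zc38) (kc xc4 yc59 zc36) (kc xc9 yc30 zc4) (kc xc6 yc0 zc45) (kc xc13 yc17 zc22) (kc xc12 yc51 zc14) (kc xc6 yc32 zc53) (kc xc11 yc26 zc49) (kc xc14 yc30 zc39) (kc xc6 yc0 zc12) (kc xc18 yc0 zc27) (kc xc11 yc43 zc45) (kc xc9 yc22 zc61) (kc xc9 yc23 zc0) (kc xc9 yc30 zc0) (kc xc9 yc30 zc1) (kc xc5 yc59 zc53) (kc xc12 yc14 zc1) (kc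 xc9 yc29 zc55) (kc xc12 yc8 zc50) (kc xc5 yc59 zc0) (kc xc6 yc13 zc49) (kc xc5 yc58 zc24) (kc xc18 yc0 zc36) (kc xc18 yc0 zc39)) (@D3.rec (fun _ => Pt) (kc xc18 yc0 zc43) (kc xc17 yc23 zc35) (kc xc5 yc59 zc23) (kc xc14 yc32 zc57) (kc xc18 yc0 zc54) (kc xc7 yc27 zc2) (kc xc11 yc43 zc41) (kc xc18 yc0 zc59) (kc xc18 yc1 zc0) (kc xc18 yc1 zc3) (kc xc4 yc59 zc51) (kc xc18 yc1 zc9) (kc xc9 yc30 zc38) (kc xc9 yc30 zc29) (kc xc18 yc1 zc15) (kc xc9 yc12 zc17) (kc xc18 yc1 zc18) (kc xc17 yc4 zc23) (kc xc6 yc1 zc0) (kc xc17 yc4 zc21) (kc xc18 yc1 zc26) (kc xc4 yc59 zc57) (kc xc7 yc28 zc58) (kc xc7 yc28 zc59) (kc xc6 yc36 zc60) (kc xc12 yc43 zc24) (kc xc9 yc48 zc49) (kc xc4 yc59 zc58) (kc xc12 yc7 zc51) (kc xc18 yc1 zc34) (kc xc7 yc27 zc54) (kc xc17 yc22 zc19) (kc xc6 yc39 zc7)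 (kc xc11 yc56 zc51) (kc xc9 yc59 zc52) (kc xc17 yc0 zc32) (kc xc11 yc56 zc52) (kc xc10 yc0 zc4) (kc xc10 yc45 zc6) (kc xc10 yc45 zc7) (kc xc5 yc0 zc2) (kc xc18 yc1 zc44) (kc xc5 yc0 zc4) (kc xc16 yc55 zc59) (kc xc5 yc0 zc5) (kc xc18 yc1 zc49) (kc xc5 yc0 zc6) (kc xc18 yc1 zc55) (kc xc6 yc7 zc58) (kc xc9 yc7 zc5) (kc xc5 yc0 zc27) (kc xc17 yc59 zc3) (kc xc9 yc55 zc53) (kc xc9 yc18 zc17) (kc xc5 yc0 zc12) (kc xc9 yc59 zc14) (kc xc5 yc11 zc17) (kc xc5 yc0 zc11) (kc xc5 yc50 zc39) (kc xc5 yc40 zc43) (kc xc5 yc0 zc17) (kc xc8 yc49 zc59)) (@D3.rec (fun _ => Pt) (kc xc16 yc24 zc49) (kc xc18 yc2 zc11) (kc xc5 yc0 zc19) (kc xc8 yc49 zc50) (kc xc18 yc2 zc13) (kc xc6 yc22 zc20) (kc xc18 yc1 zc42) (kc xc5 yc51 zc50) (kc xc11 yc50 zc61) (kc xc6 yc38 zc41) (kc xc17 yc8 zc55) (kc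 xc5 yc0 zc25) (kc xc18 yc2 zc21) (kc xc11 yc51 zc13) (kc xc15 yc48 zc29) (kc xc18 yc2 zc23) (kc xc18 yc2 zc26) (kc xc18 yc2 zc4) (kc xc18 yc2 zc32) (kc xc6 yc13 zc30) (kc xc5 yc0 zc31) (kc xc15 yc26 zc35) (kc xc7 yc14 zc29) (kc xc16 yc33 zc55) (kc xc5 yc0 zc32) (kc xc18 yc2 zc36) (kc xc5 yc0 zc34) (kc xc8 yc6 zc16) (kc xc8 yc6 zc19) (kc xc5 yc20 zc44) (kc xc5 yc24 zc31) (kc xc5 yc20 zc42) (kc xc9 yc40 zc51) (kc xc9 yc51 zc44) (kc xc5 yc24 zc29) (kc xc18 yc2 zc53) (kc xc18 yc2 zc56) (kc xc16 yc45 zc29) (kc xc8 yc39 zc9) (kc xc5 yc23 zc28) (kc xc9 yc51 zc50) (kc xc16 yc50 zc40) (kc xc5 yc0 zc43) (kc xc8 yc24 zc0) (kc xc9 yc51 zc33) (kc xc8 yc39 zc30) (kc xc16 yc41 zc14) (kc xc16 yc41 zc17) (kc xc18 yc3 zc1) (kc xc18 yc3 zc13) (kc xc9 yc51 zc40) (kc xc11 yc3 zc54) (kc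 xc5 yc0 zc45) (kc xc5 yc1 zc0) (kc xc16 yc19 zc22) (kc xc9 yc52 zc14) (kc xc15 yc30 zc53) (kc xc9 yc52 zc13) (kc xc5 yc0 zc48) (kc xc8 yc52 zc15) (kc xc9 yc52 zc6) (kc xc5 yc0 zc50)) (@D3.rec (fun _ => Pt) (kc xc18 yc3 zc39) (kc xc18 yc3 zc38) (kc xc5 yc15 zc46) (kc xc9 yc34 zc43) (kc xc5 yc15 zc44) (kc xc15 yc0 zc38) (kc xc9 yc51 zc60) (kc xc8 yc5 zc43) (kc xc18 yc3 zc58) (kc xc18 yc4 zc0) (kc xc8 yc4 zc29) (kc xc18 yc4 zc6) (kc xc8 yc4 zc31) (kc xc9 yc51 zc57) (kc xc9 yc51 zc55) (kc xc9 yc54 zc42) (kc xc5 yc0 zc56) (kc xc5 yc0 zc57) (kc xc10 yc24 zc39) (kc xc10 yc24 zc42) (kc xc5 yc12 zc14) (kc xc5 yc1 zc9) (kc xc8 yc16 zc17) (kc xc5 yc0 zc61) (kc xc10 yc24 zc49) (kc xc10 yc24 zc50) (kc xc18 yc4 zc24) (kc xc10 yc32 zc56) (kc xc5 yc1 zc2) (kc xc18 yc4 zc30) (kc xc10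 yc7 zc27) (kc xc9 yc52 zc37) (kc xc5 yc1 zc4) (kc xc18 yc4 zc42) (kc xc18 yc4 zc43) (kc xc18 yc4 zc40) (kc xc5 yc2 zc25) (kc xc9 yc52 zc31) (kc xc5 yc1 zc6) (kc xc10 yc3 zc8) (kc xc9 yc53 zc30) (kc xc10 yc3 zc7) (kc xc10 yc10 zc59) (kc xc9 yc53 zc31) (kc xc8 yc3 zc21) (kc xc18 yc4 zc57) (kc xc18 yc4 zc61) (kc xc18 yc4 zc21) (kc xc18 yc5 zc6) (kc xc14 yc14 zc46) (kc xc5 yc19 zc46) (kc xc9 yc54 zc36) (kc xc10 yc19 zc54) (kc xc12 yc20 zc17) (kc xc5 yc1 zc14) (kc xc5 yc1 zc13) (kc xc18 yc5 zc14) (kc xc10 yc16 zc34) (kc xc10 yc16 zc37) (kc xc9 yc3 zc7) (kc xc8 yc43 zc41) (kc xc10 yc33 zc22)) (@D3.rec (fun _ => Pt) (kc xc5 yc37 zc8) (kc xc10 yc19 zc32) (kc xc5 yc1 zc22) (kc xc15 yc29 zc47) (kc xc16 yc19 zc23) (kc xc16 yc19 zc24) (kc xc8 yc43 zc61) (kc xc18 yc5 zc29) (kc xc9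 yc54 zc34) (kc xc15 yc9 zc20) (kc xc5 yc1 zc29) (kc xc5 yc1 zc27) (kc xc18 yc5 zc36) (kc xc18 yc5 zc37) (kc xc18 yc5 zc38) (kc xc5 yc1 zc28) (kc xc10 yc33 zc20) (kc xc15 yc16 zc60) (kc xc5 yc1 zc34) (kc xc8 yc16 zc9) (kc xc10 yc25 zc22) (kc xc10 yc25 zc23) (kc xc6 yc43 zc23) (kc xc5 yc20 zc10) (kc xc5 yc19 zc47) (kc xc18 yc5 zc57) (kc xc18 yc5 zc60) (kc xc18 yc5 zc49) (kc xc12 yc1 zc43) (kc xc7 yc33 zc6) (kc xc9 yc52 zc40) (kc xc9 yc52 zc43) (kc xc9 yc54 zc12) (kc xc10 yc20 zc46) (kc xc10 yc20 zc47) (kc xc18 yc6 zc16) (kc xc5 yc1 zc39) (kc xc5 yc1 zc37) (kc xc18 yc6 zc19) (kc xc5 yc1 zc38) (kc xc18 yc6 zc21) (kc xc18 yc6 zc20) (kc xc10 yc26 zc45) (kc xc10 yc26 zc46) (kc xc16 yc22 zc2) (kc xc18 yc6 zc23) (kc xc15 yc7 zc42) (kc xc16 yc22 zc51) (kc xc18 yc6 zc28) (kc xc14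 yc59 zc6) (kc xc9 yc54 zc4) (kc xc8 yc41 zc41) (kc xc8 yc41 zc44) (kc xc8 yc45 zc0) (kc xc5 yc1 zc46) (kc xc5 yc1 zc44) (kc xc18 yc6 zc39) (kc xc5 yc1 zc45) (kc xc18 yc6 zc43) (kc xc18 yc6 zc47) (kc xc18 yc6 zc49) (kc xc5 yc1 zc47)) (@D3.rec (fun _ => Pt) (kc xc18 yc6 zc56) (kc xc18 yc6 zc54) (kc xc9 yc54 zc3) (kc xc9 yc54 zc2) (kc xc9 yc53 zc50) (kc xc18 yc7 zc8) (kc xc10 yc29 zc16) (kc xc18 yc7 zc11) (kc xc18 yc7 zc14) (kc xc15 yc36 zc20) (kc xc18 yc7 zc21) (kc xc15 yc36 zc12) (kc xc9 yc53 zc32) (kc xc9 yc45 zc1) (kc xc10 yc29 zc19) (kc xc5 yc4 zc21) (kc xc5 yc18 zc40) (kc xc10 yc30 zc8) (kc xc5 yc1 zc53) (kc xc18 yc7 zc39) (kc xc18 yc7 zc37) (kc xc18 yc1 zc11) (kc xc13 yc20 zc3) (kc xc5 yc1 zc54) (kc xc18 yc7 zc47) (kc xc18 yc7 zc46) (kc xc15 yc29 zc51) (kc xc18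 yc7 zc55) (kc xc18 yc7 zc58) (kc xc5 yc1 zc56) (kc xc18 yc8 zc1) (kc xc18 yc8 zc2) (kc xc5 yc4 zc37) (kc xc18 yc8 zc10) (kc xc9 yc53 zc8) (kc xc18 yc8 zc15) (kc xc9 yc52 zc51) (kc xc18 yc8 zc0) (kc xc5 yc1 zc61) (kc xc18 yc8 zc29) (kc xc18 yc8 zc32) (kc xc18 yc8 zc27) (kc xc9 yc52 zc15) (kc xc8 yc6 zc0) (kc xc8 yc5 zc61) (kc xc18 yc8 zc45) (kc xc10 yc22 zc1) (kc xc5 yc2 zc2) (kc xc18 yc8 zc51) (kc xc18 yc8 zc50) (kc xc18 yc8 zc52) (kc xc10 yc16 zc35) (kc xc8 yc43 zc39) (kc xc5 yc2 zc5) (kc xc18 yc8 zc61) (kc xc18 yc9 zc1) (kc xc18 yc8 zc60) (kc xc5 yc2 zc6) (kc xc18 yc9 zc2) (kc xc10 yc14 zc51) (kc xc5 yc2 zc8) (kc xc18 yc9 zc11)) (@D3.rec (fun _ => Pt) (kc xc18 yc9 zc10) (kc xc15 yc7 zc3) (kc xc10 yc14 zc49) (kc xc10 yc27 zc50) (kc xc10 yc3 zc6) (kc xc10 yc14 zc43)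 (kc xc5 yc24 zc5) (kc xc18 yc9 zc22) (kc xc10 yc16 zc52) (kc xc5 yc2 zc35) (kc xc18 yc9 zc32) (kc xc5 yc2 zc37) (kc xc10 yc29 zc30) (kc xc10 yc27 zc53) (kc xc10 yc27 zc54) (kc xc18 yc9 zc48) (kc xc5 yc2 zc16) (kc xc16 yc34 zc52) (kc xc5 yc2 zc14) (kc xc15 yc39 zc10) (kc xc5 yc2 zc15) (kc xc18 yc9 zc56) (kc xc5 yc2 zc19) (kc xc8 yc3 zc35) (kc xc5 yc2 zc18) (kc xc18 yc10 zc0) (kc xc18 yc10 zc2) (kc xc18 yc10 zc4) (kc xc18 yc10 zc7) (kc xc18 yc9 zc59) (kc xc12 yc44 zc5) (kc xc17 yc30 zc32) (kc xc5 yc5 zc53) (kc xc5 yc5 zc34) (kc xc5 yc5 zc35) (kc xc12 yc23 zc37) (kc xc5 yc2 zc24) (kc xc18 yc10 zc14) (kc xc5 yc2 zc22) (kc xc5 yc2 zc23) (kc xc18 yc10 zc17) (kc xc18 yc10 zc19) (kc xc18 yc4 zc46) (kc xc6 yc6 zc34) (kc xc18 yc4 zc48) (kc xc5 yc36 zc49) (kc xc10 yc31 zc36) (kc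 xc10 yc39 zc26) (kc xc10 yc40 zc44) (kc xc5 yc2 zc28) (kc xc12 yc43 zc39) (kc xc9 yc24 zc43) (kc xc5 yc6 zc52) (kc xc9 yc50 zc52) (kc xc5 yc12 zc13) (kc xc18 yc10 zc31) (kc xc18 yc10 zc34) (kc xc10 yc40 zc43) (kc xc5 yc2 zc31) (kc xc18 yc10 zc39) (kc xc5 yc6 zc54) (kc xc10 yc3 zc19)) (@D3.rec (fun _ => Pt) (kc xc5 yc2 zc33) (kc xc12 yc58 zc3) (kc xc18 yc10 zc44) (kc xc18 yc10 zc47) (kc xc5 yc2 zc34) (kc xc17 yc59 zc29) (kc xc18 yc10 zc51) (kc xc18 yc9 zc29) (kc xc5 yc51 zc15) (kc xc17 yc57 zc47) (kc xc11 yc35 zc58) (kc xc18 yc10 zc59) (kc xc18 yc10 zc61) (kc xc5 yc13 zc30) (kc xc5 yc13 zc31) (kc xc5 yc8 zc16) (kc xc10 yc41 zc6) (kc xc18 yc11 zc7) (kc xc5 yc12 zc24) (kc xc5 yc2 zc42) (kc xc18 yc11 zc8) (kc xc18 yc5 zc13) (kc xc5 yc2 zc45) (kc xc10 yc25 zc13) (kc xc10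 yc33 zc29) (kc xc5 yc2 zc47) (kc xc9 yc40 zc7) (kc xc10 yc9 zc47) (kc xc5 yc2 zc49) (kc xc8 yc43 zc47) (kc xc10 yc33 zc21) (kc xc5 yc2 zc52) (kc xc10 yc24 zc37) (kc xc10 yc33 zc24) (kc xc5 yc2 zc54) (kc xc18 yc11 zc45) (kc xc18 yc11 zc44) (kc xc10 yc7 zc38) (kc xc10 yc33 zc14) (kc xc10 yc20 zc17) (kc xc10 yc1 zc39) (kc xc10 yc33 zc19) (kc xc10 yc1 zc38) (kc xc18 yc12 zc1) (kc xc10 yc15 zc10) (kc xc5 yc3 zc6) (kc xc18 yc12 zc11) (kc xc5 yc3 zc8) (kc xc10 yc33 zc30) (kc xc10 yc20 zc21) (kc xc18 yc12 zc24) (kc xc5 yc3 zc0) (kc xc10 yc29 zc31) (kc xc5 yc2 zc60) (kc xc18 yc12 zc29) (kc xc18 yc12 zc31) (kc xc5 yc2 zc61) (kc xc10 yc16 zc26) (kc xc10 yc1 zc55) (kc xc5 yc3 zc4) (kc xc12 yc56 zc19) (kc xc18 yc12 zc40)) (@D3.rec (fun _ => Pt) (kc xc18 yc12 zc43) (kc xc5 yc3 zc5)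 (kc xc13 yc1 zc0) (kc xc18 yc12 zc46) (kc xc18 yc12 zc49) (kc xc18 yc12 zc8) (kc xc12 yc4 zc16) (kc xc12 yc31 zc31) (kc xc5 yc3 zc7) (kc xc18 yc12 zc54) (kc xc18 yc12 zc58) (kc xc10 yc23 zc30) (kc xc18 yc12 zc15) (kc xc5 yc12 zc31) (kc xc5 yc12 zc32) (kc xc17 yc3 zc33) (kc xc5 yc8 zc10) (kc xc18 yc13 zc2) (kc xc5 yc36 zc20) (kc xc18 yc5 zc35) (kc xc10 yc58 zc44) (kc xc18 yc13 zc3) (kc xc15 yc14 zc37) (kc xc5 yc19 zc14) (kc xc12 yc2 zc15) (kc xc10 yc13 zc10) (kc xc5 yc3 zc26) (kc xc18 yc13 zc15) (kc xc5 yc3 zc28) (kc xc10 yc3 zc9) (kc xc10 yc29 zc47) (kc xc10 yc27 zc59) (kc xc10 yc27 zc60) (kc xc18 yc13 zc32) (kc xc5 yc3 zc23) (kc xc16 yc34 zc61) (kc xc5 yc3 zc21) (kc xc18 yc13 zc38) (kc xc18 yc13 zc37) (kc xc18 yc13 zc39) (kc xc5 yc3 zc22) (kc xc18 yc13 zc44) (kc xc18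 yc13 zc43) (kc xc9 yc59 zc24) (kc xc5 yc3 zc24) (kc xc18 yc13 zc48) (kc xc18 yc13 zc50) (kc xc5 yc3 zc25) (kc xc6 yc44 zc46) (kc xc18 yc13 zc12) (kc xc11 yc26 zc30) (kc xc18 yc13 zc56) (kc xc18 yc13 zc58) (kc xc18 yc13 zc61) (kc xc18 yc14 zc4) (kc xc18 yc13 zc20) (kc xc17 yc9 zc31) (kc xc5 yc5 zc54) (kc xc14 yc12 zc23) (kc xc5 yc5 zc56) (kc xc11 yc24 zc2) (kc xc18 yc14 zc8)) (@D3.rec (fun _ => Pt) (kc xc7 yc59 zc49) (kc xc6 yc12 zc43) (kc xc15 yc5 zc41) (kc xc5 yc3 zc34) (kc xc17 yc6 zc42) (kc xc5 yc3 zc36) (kc xc18 yc14 zc12) (kc xc18 yc14 zc10) (kc xc9 yc4 zc15) (kc xc5 yc3 zc38) (kc xc17 yc30 zc24) (kc xc6 yc12 zc7) (kc xc5 yc3 zc41) (kc xc9 yc40 zc12) (kc xc10 yc30 zc33) (kc xc5 yc3 zc43) (kc xc18 yc14 zc27) (kc xc18 yc14 zc26) (kc xc8 yc52 zc25) (kc xc8 yc52 zc4)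 (kc xc10 yc13 zc51) (kc xc10 yc12 zc51) (kc xc5 yc3 zc53) (kc xc18 yc14 zc40) (kc xc5 yc3 zc55) (kc xc10 yc34 zc20) (kc xc10 yc16 zc51) (kc xc10 yc33 zc55) (kc xc10 yc21 zc6) (kc xc10 yc21 zc7) (kc xc18 yc14 zc58) (kc xc5 yc3 zc50) (kc xc10 yc29 zc48) (kc xc5 yc3 zc48) (kc xc18 yc15 zc2) (kc xc10 yc25 zc38) (kc xc5 yc3 zc49) (kc xc9 yc58 zc61) (kc xc5 yc3 zc51) (kc xc9 yc59 zc45) (kc xc5 yc3 zc52) (kc xc18 yc15 zc10) (kc xc18 yc15 zc11) (kc xc18 yc14 zc37) (kc xc6 yc49 zc40) (kc xc18 yc15 zc13) (kc xc5 yc3 zc54) (kc xc11 yc21 zc50) (kc xc18 yc15 zc18) (kc xc18 yc15 zc21) (kc xc13 yc53 zc42) (kc xc5 yc18 zc36) (kc xc10 yc32 zc22) (kc xc18 yc6 zc37) (kc xc5 yc3 zc61) (kc xc5 yc4 zc0) (kc xc18 yc15 zc24) (kc xc18 yc15 zc25) (kc xc5 yc4 zc3) (kc xc7 yc13 zc36) (kc xc6 yc34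 zc17) (kc xc9 yc58 zc37)) (@D3.rec (fun _ => Pt) (kc xc6 yc58 zc34) (kc xc6 yc58 zc33) (kc xc7 yc6 zc14) (kc xc7 yc13 zc38) (kc xc18 yc15 zc29) (kc xc5 yc7 zc9) (kc xc5 yc27 zc2) (kc xc5 yc7 zc7) (kc xc5 yc7 zc26) (kc xc5 yc7 zc27) (kc xc11 yc12 zc32) (kc xc17 yc4 zc29) (kc xc17 yc6 zc40) (kc xc5 yc4 zc10) (kc xc9 yc50 zc55) (kc xc10 yc11 zc41) (kc xc5 yc4 zc12) (kc xc18 yc15 zc42) (kc xc10 yc22 zc41) (kc xc5 yc4 zc13) (kc xc18 yc15 zc46) (kc xc5 yc4 zc14) (kc xc18 yc15 zc48) (kc xc10 yc27 zc11) (kc xc9 yc57 zc43) (kc xc18 yc15 zc55) (kc xc5 yc4 zc17) (kc xc11 yc44 zc2) (kc xc18 yc16 zc0) (kc xc14 yc36 zc30) (kc xc18 yc16 zc4) (kc xc13 yc14 zc8) (kc xc9 yc15 zc57) (kc xc18 yc15 zc59) (kc xc18 yc7 zc30) (kc xc17 yc47 zc48) (kc xc5 yc4 zc22) (kc xc9 yc32 zc8) (kc xc18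 yc16 zc11) (kc xc10 yc22 zc42) (kc xc5 yc16 zc4) (kc xc5 yc4 zc23) (kc xc12 yc43 zc55) (kc xc18 yc16 zc18) (kc xc5 yc16 zc5) (kc xc9 yc58 zc39) (kc xc10 yc26 zc57) (kc xc18 yc16 zc16) (kc xc18 yc16 zc34) (kc xc5 yc4 zc26) (kc xc5 yc4 zc27) (kc xc9 yc30 zc37) (kc xc9 yc50 zc34) (kc xc9 yc32 zc7) (kc xc17 yc30 zc27) (kc xc11 yc14 zc35) (kc xc18 yc16 zc39) (kc xc18 yc16 zc40) (kc xc10 yc12 zc21) (kc xc17 yc47 zc44) (kc xc5 yc4 zc28) (kc xc18 yc16 zc52))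
def f_c_10 : D2 → D3 → Pt := @D2.rec (fun _ => D3 → Pt) (@D3.rec (fun _ => Pt) (kc xc18 yc16 zc50) (kc xc18 yc16 zc48) (kc xc15 yc41 zc14) (kc xc5 yc4 zc31) (kc xc9 yc50 zc37) (kc xc18 yc7 zc49) (kc xc18 yc17 zc1) (kc xc18 yc16 zc59) (kc xc5 yc4 zc32) (kc xc9 yc30 zc7) (kc xc17 yc0 zc4) (kc xc5 yc4 zc33) (kc xc5 yc51 zc36) (kc xc5 yc4 zc34) (kc xc12 yc29 zc46) (kc xc12 yc35 zc2) (kc xc11 yc36 zc7) (kc xc17 yc56 zc6) (kc xc11 yc24 zc30) (kc xc9 yc13 zc36) (kc xc18 yc17 zc13) (kc xc18 yc17 zc17) (kc xc12 yc1 zc42) (kc xc5 yc8 zc14) (kc xc5 yc8 zc15) (kc xc5 yc6 zc38) (kc xc5 yc4 zc39) (kc xc18 yc17 zc24) (kc xc5 yc8 zc8) (kc xc5 yc8 zc9) (kc xc5 yc6 zc2) (kc xc5 yc34 zc57) (kc xc11 yc2 zc9) (kc xc14 yc28 zc57) (kc xc5 yc34 zc58) (kc xc11 yc2 zc4) (kc xc18 yc17 zc33) (kc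 xc5 yc4 zc46) (kc xc18 yc17 zc36) (kc xc18 yc17 zc34) (kc xc5 yc4 zc48) (kc xc5 yc4 zc49) (kc xc18 yc17 zc39) (kc xc5 yc4 zc50) (kc xc5 yc4 zc60) (kc xc5 yc4 zc52) (kc xc18 yc17 zc49) (kc xc18 yc17 zc50) (kc xc18 yc17 zc48) (kc xc10 yc42 zc54) (kc xc5 yc5 zc10) (kc xc5 yc4 zc54) (kc xc18 yc17 zc61) (kc xc18 yc18 zc0) (kc xc18 yc17 zc60) (kc xc15 yc27 zc61) (kc xc15 yc27 zc59) (kc xc5 yc5 zc8) (kc xc5 yc4 zc57) (kc xc10 yc43 zc34) (kc xc5 yc5 zc6) (kc xc8 yc4 zc7)) (@D3.rec (fun _ => Pt) (kc xc18 yc18 zc18) (kc xc5 yc5 zc4) (kc xc6 yc45 zc32) (kc xc17 yc33 zc38) (kc xc18 yc17 zc45) (kc xc18 yc18 zc29) (kc xc18 yc17 zc46) (kc xc8 yc38 zc53) (kc xc5 yc35 zc59) (kc xc8 yc14 zc9) (kc xc18 yc18 zc41) (kc xc5 yc5 zc3) (kc xc5 yc5 zc1) (kc xc15 yc28 zc8) (kc xc5 yc5 zc2) (kc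 xc18 yc18 zc46) (kc xc18 yc18 zc20) (kc xc8 yc4 zc54) (kc xc13 yc50 zc55) (kc xc18 yc18 zc13) (kc xc18 yc18 zc54) (kc xc18 yc18 zc6) (kc xc8 yc4 zc52) (kc xc8 yc2 zc4) (kc xc9 yc14 zc59) (kc xc18 yc18 zc59) (kc xc18 yc17 zc57) (kc xc8 yc5 zc3) (kc xc18 yc19 zc3) (kc xc8 yc12 zc28) (kc xc18 yc19 zc5) (kc xc5 yc5 zc14) (kc xc18 yc19 zc9) (kc xc18 yc19 zc7) (kc xc5 yc5 zc16) (kc xc18 yc19 zc22) (kc xc18 yc19 zc24) (kc xc18 yc19 zc20) (kc xc9 yc56 zc42) (kc xc9 yc56 zc40) (kc xc11 yc6 zc8) (kc xc5 yc5 zc19) (kc xc18 yc19 zc37) (kc xc18 yc19 zc38) (kc xc18 yc19 zc36) (kc xc15 yc9 zc41) (kc xc15 yc24 zc40) (kc xc5 yc5 zc21) (kc xc17 yc23 zc4) (kc xc15 yc25 zc16) (kc xc17 yc23 zc15) (kc xc10 yc10 zc52) (kc xc15 yc25 zc17) (kc xc9 yc42 zc4) (kc xc6 yc49 zc5) (kc xc9 yc56 zc58)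 (kc xc5 yc5 zc42) (kc xc5 yc5 zc43) (kc xc8 yc15 zc45) (kc xc15 yc25 zc50) (kc xc17 yc39 zc41) (kc xc15 yc48 zc42)) (@D3.rec (fun _ => Pt) (kc xc18 yc20 zc8) (kc xc5 yc5 zc29) (kc xc18 yc20 zc10) (kc xc5 yc5 zc27) (kc xc5 yc5 zc28) (kc xc11 yc11 zc48) (kc xc5 yc5 zc32) (kc xc10 yc43 zc32) (kc xc5 yc5 zc31) (kc xc18 yc20 zc23) (kc xc17 yc23 zc12) (kc xc18 yc20 zc22) (kc xc18 yc20 zc25) (kc xc18 yc20 zc27) (kc xc18 yc20 zc16) (kc xc18 yc20 zc18) (kc xc5 yc9 zc50) (kc xc5 yc9 zc51) (kc xc5 yc5 zc36) (kc xc13 yc40 zc53) (kc xc5 yc5 zc37) (kc xc5 yc5 zc39) (kc xc18 yc20 zc38) (kc xc18 yc20 zc36) (kc xc10 yc11 zc1) (kc xc5 yc5 zc40) (kc xc18 yc20 zc40) (kc xc10 yc39 zc22) (kc xc5 yc5 zc41) (kc xc18 yc20 zc46) (kc xc18 yc19 zc58) (kc xc18 yc20 zc53) (kc xc18 yc20 zc55) (kc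 xc12 yc11 zc7) (kc xc16 yc20 zc15) (kc xc5 yc5 zc46) (kc xc18 yc20 zc58) (kc xc5 yc5 zc48) (kc xc18 yc21 zc1) (kc xc18 yc21 zc0) (kc xc5 yc5 zc50) (kc xc12 yc15 zc20) (kc xc12 yc28 zc8) (kc xc18 yc10 zc29) (kc xc12 yc15 zc24) (kc xc12 yc12 zc25) (kc xc12 yc28 zc10) (kc xc12 yc28 zc26) (kc xc5 yc5 zc55) (kc xc12 yc12 zc26) (kc xc18 yc0 zc13) (kc xc18 yc21 zc7) (kc xc5 yc5 zc59) (kc xc5 yc5 zc58) (kc xc18 yc21 zc10) (kc xc8 yc12 zc39) (kc xc18 yc21 zc16) (kc xc5 yc5 zc61) (kc xc18 yc21 zc23) (kc xc18 yc21 zc25) (kc xc18 yc21 zc21) (kc xc18 yc21 zc28)) (@D3.rec (fun _ => Pt) (kc xc5 yc6 zc0) (kc xc11 yc31 zc5) (kc xc12 yc32 zc54) (kc xc18 yc21 zc33) (kc xc5 yc6 zc1) (kc xc17 yc8 zc54) (kc xc9 yc55 zc4) (kc xc9 yc52 zc41) (kc xc9 yc52 zc39) (kc xc9 yc57 zc29) (kc xc5 yc6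 zc7) (kc xc13 yc40 zc59) (kc xc16 yc21 zc42) (kc xc10 yc24 zc40) (kc xc10 yc10 zc55) (kc xc10 yc9 zc48) (kc xc10 yc10 zc53) (kc xc10 yc7 zc54) (kc xc18 yc21 zc51) (kc xc9 yc55 zc61) (kc xc5 yc6 zc19) (kc xc18 yc21 zc54) (kc xc5 yc6 zc20) (kc xc17 yc45 zc56) (kc xc10 yc7 zc56) (kc xc18 yc22 zc4) (kc xc5 yc6 zc15) (kc xc17 yc47 zc5) (kc xc5 yc6 zc13) (kc xc18 yc22 zc9) (kc xc18 yc22 zc10) (kc xc5 yc6 zc14) (kc xc5 yc15 zc33) (kc xc5 yc6 zc27) (kc xc15 yc29 zc1) (kc xc10 yc10 zc2) (kc xc5 yc6 zc17) (kc xc17 yc26 zc45) (kc xc11 yc23 zc32) (kc xc10 yc39 zc24) (kc xc5 yc6 zc18) (kc xc17 yc31 zc14) (kc xc6 yc58 zc15) (kc xc18 yc21 zc53) (kc xc18 yc22 zc21) (kc xc18 yc21 zc58) (kc xc18 yc22 zc23) (kc xc18 yc22 zc24) (kc xc5 yc6 zc22) (kc xc18 yc22 zc26) (kc xc18 yc22 zc27)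 (kc xc18 yc22 zc12) (kc xc18 yc22 zc29) (kc xc5 yc13 zc50) (kc xc6 yc7 zc55) (kc xc10 yc6 zc4) (kc xc6 yc42 zc40) (kc xc15 yc27 zc1) (kc xc5 yc6 zc36) (kc xc9 yc13 zc38) (kc xc18 yc22 zc35) (kc xc5 yc6 zc37)) (@D3.rec (fun _ => Pt) (kc xc9 yc13 zc61) (kc xc17 yc3 zc9) (kc xc13 yc1 zc56) (kc xc12 yc56 zc25) (kc xc5 yc6 zc41) (kc xc9 yc6 zc4) (kc xc17 yc7 zc60) (kc xc18 yc22 zc42) (kc xc18 yc22 zc44) (kc xc5 yc6 zc42) (kc xc18 yc22 zc47) (kc xc5 yc6 zc44) (kc xc18 yc22 zc52) (kc xc5 yc6 zc45) (kc xc18 yc22 zc57) (kc xc5 yc12 zc52) (kc xc5 yc12 zc54) (kc xc13 yc15 zc48) (kc xc5 yc6 zc47) (kc xc13 yc57 zc44) (kc xc18 yc23 zc5) (kc xc5 yc6 zc48) (kc xc18 yc23 zc8) (kc xc5 yc6 zc50) (kc xc18 yc23 zc14) (kc xc18 yc23 zc15) (kc xc18 yc23 zc12) (kc xc5 yc6 zc51) (kc xc13 yc0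 zc28) (kc xc12 yc38 zc42) (kc xc17 yc26 zc51) (kc xc5 yc6 zc53) (kc xc17 yc19 zc21) (kc xc6 yc38 zc42) (kc xc12 yc15 zc18) (kc xc18 yc23 zc21) (kc xc6 yc17 zc59) (kc xc17 yc20 zc31) (kc xc5 yc6 zc60) (kc xc18 yc23 zc24) (kc xc6 yc46 zc33) (kc xc6 yc46 zc34) (kc xc5 yc7 zc0) (kc xc11 yc6 zc34) (kc xc10 yc17 zc41) (kc xc5 yc7 zc3) (kc xc11 yc30 zc56) (kc xc12 yc31 zc38) (kc xc6 yc7 zc50) (kc xc5 yc7 zc6) (kc xc10 yc4 zc51) (kc xc10 yc4 zc50) (kc xc11 yc40 zc24) (kc xc18 yc14 zc7) (kc xc17 yc59 zc12) (kc xc5 yc7 zc8) (kc xc17 yc5 zc48) (kc xc12 yc28 zc27) (kc xc6 yc38 zc39) (kc xc11 yc49 zc32) (kc xc6 yc27 zc48) (kc xc16 yc59 zc52)) (@D3.rec (fun _ => Pt) (kc xc18 yc23 zc39) (kc xc5 yc7 zc14) (kc xc11 yc24 zc48) (kc xc18 yc23 zc42) (kc xc5 yc7 zc16) (kc xc18 yc23 zc44)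 (kc xc18 yc23 zc46) (kc xc5 yc7 zc19) (kc xc18 yc23 zc52) (kc xc12 yc39 zc11) (kc xc5 yc7 zc21) (kc xc6 yc7 zc33) (kc xc18 yc23 zc57) (kc xc9 yc27 zc37) (kc xc5 yc7 zc24) (kc xc5 yc7 zc25) (kc xc18 yc23 zc61) (kc xc18 yc15 zc34) (kc xc16 yc56 zc28) (kc xc12 yc23 zc44) (kc xc6 yc46 zc53) (kc xc5 yc7 zc30) (kc xc18 yc24 zc2) (kc xc17 yc9 zc25) (kc xc7 yc7 zc6) (kc xc18 yc24 zc5) (kc xc5 yc7 zc33) (kc xc16 yc15 zc30) (kc xc17 yc9 zc24) (kc xc9 yc17 zc56) (kc xc9 yc10 zc39) (kc xc5 yc7 zc37) (kc xc18 yc24 zc10) (kc xc11 yc8 zc28) (kc xc6 yc7 zc54) (kc xc18 yc24 zc6) (kc xc10 yc6 zc30) (kc xc5 yc7 zc41) (kc xc5 yc7 zc42) (kc xc18 yc24 zc25) (kc xc18 yc24 zc26) (kc xc18 yc24 zc23) (kc xc18 yc24 zc24) (kc xc5 yc7 zc43) (kc xc18 yc24 zc28) (kc xc5 yc7 zc45) (kc xc7 yc34 zc21)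 (kc xc5 yc7 zc46) (kc xc18 yc24 zc34) (kc xc7 yc34 zc24) (kc xc5 yc7 zc48) (kc xc18 yc24 zc37) (kc xc12 yc35 zc30) (kc xc5 yc7 zc49) (kc xc18 yc24 zc40) (kc xc5 yc55 zc1) (kc xc5 yc48 zc0) (kc xc6 yc6 zc51) (kc xc10 yc6 zc33) (kc xc5 yc7 zc51) (kc xc6 yc28 zc50) (kc xc6 yc28 zc51)) (@D3.rec (fun _ => Pt) (kc xc13 yc20 zc39) (kc xc9 yc7 zc46) (kc xc5 yc7 zc52) (kc xc18 yc24 zc55) (kc xc10 yc3 zc55) (kc xc5 yc57 zc54) (kc xc18 yc24 zc53) (kc xc10 yc6 zc23) (kc xc5 yc7 zc54) (kc xc18 yc25 zc6) (kc xc18 yc25 zc9) (kc xc18 yc25 zc5) (kc xc5 yc7 zc55) (kc xc18 yc25 zc13) (kc xc10 yc6 zc20) (kc xc5 yc7 zc57) (kc xc17 yc5 zc28) (kc xc12 yc53 zc37) (kc xc11 yc25 zc15) (kc xc5 yc7 zc58) (kc xc10 yc6 zc14) (kc xc18 yc25 zc21) (kc xc7 yc41 zc36) (kc xc10 yc6 zc7) (kc xc16 yc57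 zc37) (kc xc12 yc1 zc22) (kc xc10 yc23 zc4) (kc xc5 yc8 zc19) (kc xc18 yc25 zc32) (kc xc6 yc28 zc2) (kc xc10 yc5 zc36) (kc xc5 yc7 zc61) (kc xc18 yc25 zc36) (kc xc10 yc5 zc58) (kc xc11 yc24 zc55) (kc xc12 yc28 zc18) (kc xc7 yc24 zc56) (kc xc5 yc8 zc4) (kc xc5 yc8 zc5) (kc xc18 yc25 zc45) (kc xc6 yc28 zc60) (kc xc12 yc39 zc34) (kc xc18 yc25 zc42) (kc xc17 yc16 zc41) (kc xc12 yc41 zc16) (kc xc5 yc8 zc7) (kc xc18 yc25 zc56) (kc xc18 yc25 zc59) (kc xc18 yc25 zc54) (kc xc11 yc1 zc55) (kc xc12 yc2 zc2) (kc xc8 yc59 zc37) (kc xc11 yc51 zc0) (kc xc5 yc8 zc11) (kc xc17 yc7 zc54) (kc xc6 yc16 zc10) (kc xc18 yc26 zc4) (kc xc5 yc8 zc13) (kc xc11 yc28 zc47) (kc xc12 yc30 zc13) (kc xc17 yc7 zc53) (kc xc6 yc22 zc6)) (@D3.rec (fun _ => Pt) (kc xc18 yc17 zc22) (kc xc10 yc27 zc33) (kc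 xc5 yc8 zc17) (kc xc18 yc26 zc10) (kc xc18 yc26 zc15) (kc xc5 yc8 zc18) (kc xc18 yc26 zc17) (kc xc12 yc1 zc32) (kc xc6 yc34 zc57) (kc xc6 yc34 zc59) (kc xc11 yc40 zc22) (kc xc12 yc27 zc34) (kc xc12 yc15 zc6) (kc xc9 yc9 zc31) (kc xc12 yc2 zc1) (kc xc11 yc40 zc61) (kc xc10 yc23 zc17) (kc xc9 yc15 zc31) (kc xc10 yc23 zc19) (kc xc9 yc23 zc11) (kc xc10 yc20 zc7) (kc xc5 yc8 zc37) (kc xc8 yc29 zc12) (kc xc5 yc8 zc31) (kc xc10 yc20 zc13) (kc xc10 yc20 zc14) (kc xc14 yc22 zc13) (kc xc9 yc52 zc30) (kc xc8 yc3 zc15) (kc xc5 yc8 zc33) (kc xc18 yc26 zc38) (kc xc18 yc26 zc39) (kc xc18 yc26 zc36) (kc xc5 yc9 zc53) (kc xc8 yc3 zc14) (kc xc10 yc16 zc27) (kc xc5 yc13 zc44) (kc xc8 yc4 zc36) (kc xc9 yc56 zc37) (kc xc8 yc3 zc28) (kc xc8 yc2 zc58) (kc xc18 yc26 zc59) (kc xc18 yc27 zc0)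 (kc xc14 yc43 zc51) (kc xc18 yc27 zc5) (kc xc7 yc33 zc11) (kc xc8 yc3 zc49) (kc xc8 yc4 zc39) (kc xc8 yc4 zc40) (kc xc16 yc21 zc17) (kc xc5 yc8 zc42) (kc xc5 yc8 zc40) (kc xc5 yc8 zc41) (kc xc18 yc27 zc16) (kc xc10 yc3 zc17) (kc xc5 yc8 zc46) (kc xc10 yc3 zc24) (kc xc11 yc52 zc49) (kc xc18 yc19 zc45) (kc xc14 yc58 zc32) (kc xc14 yc58 zc36) (kc xc15 yc13 zc51)) (@D3.rec (fun _ => Pt) (kc xc16 yc21 zc18) (kc xc8 yc3 zc47) (kc xc8 yc4 zc46) (kc xc8 yc4 zc47) (kc xc17 yc39 zc18) (kc xc5 yc8 zc54) (kc xc5 yc8 zc51) (kc xc18 yc27 zc39) (kc xc5 yc8 zc52) (kc xc18 yc17 zc58) (kc xc18 yc17 zc59) (kc xc5 yc8 zc53) (kc xc18 yc27 zc46) (kc xc11 yc52 zc48) (kc xc5 yc8 zc58) (kc xc8 yc29 zc15) (kc xc5 yc8 zc57) (kc xc10 yc20 zc57) (kc xc10 yc20 zc58) (kc xc18 yc27 zc57) (kc xc18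 yc28 zc1) (kc xc18 yc28 zc4) (kc xc18 yc27 zc52) (kc xc18 yc28 zc9) (kc xc14 yc15 zc7) (kc xc5 yc13 zc2) (kc xc8 yc3 zc16) (kc xc8 yc3 zc42) (kc xc8 yc5 zc48) (kc xc8 yc5 zc49) (kc xc18 yc28 zc27) (kc xc5 yc9 zc1) (kc xc5 yc8 zc61) (kc xc18 yc28 zc31) (kc xc5 yc9 zc0) (kc xc18 yc28 zc34) (kc xc10 yc22 zc27) (kc xc10 yc22 zc28) (kc xc10 yc30 zc7) (kc xc17 yc46 zc42) (kc xc15 yc6 zc2) (kc xc10 yc30 zc2) (kc xc18 yc28 zc41) (kc xc10 yc30 zc4) (kc xc8 yc3 zc37) (kc xc8 yc5 zc52) (kc xc5 yc9 zc8) (kc xc5 yc9 zc6) (kc xc18 yc28 zc50) (kc xc5 yc9 zc7) (kc xc18 yc28 zc53) (kc xc18 yc28 zc57) (kc xc17 yc47 zc23) (kc xc17 yc47 zc25) (kc xc8 yc3 zc36) (kc xc18 yc29 zc1) (kc xc8 yc5 zc28) (kc xc18 yc29 zc4) (kc xc18 yc29 zc7) (kc xc13 yc4 zc60) (kc xc18 yc29 zc13) (kc xc6 yc52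 zc41)) (@D3.rec (fun _ => Pt) (kc xc8 yc3 zc29) (kc xc8 yc5 zc31) (kc xc5 yc11 zc28) (kc xc5 yc16 zc36) (kc xc16 yc35 zc54) (kc xc5 yc9 zc15) (kc xc18 yc29 zc24) (kc xc18 yc29 zc21) (kc xc18 yc29 zc22) (kc xc18 yc29 zc33) (kc xc5 yc9 zc16) (kc xc18 yc29 zc38) (kc xc18 yc29 zc37) (kc xc18 yc29 zc43) (kc xc18 yc29 zc45) (kc xc18 yc29 zc47) (kc xc5 yc9 zc18) (kc xc18 yc29 zc51) (kc xc5 yc11 zc44) (kc xc18 yc29 zc58) (kc xc8 yc3 zc24) (kc xc18 yc30 zc0) (kc xc8 yc3 zc17) (kc xc15 yc50 zc38) (kc xc15 yc50 zc39) (kc xc15 yc14 zc4) (kc xc8 yc5 zc39) (kc xc8 yc5 zc40) (kc xc18 yc30 zc19) (kc xc10 yc26 zc17) (kc xc5 yc9 zc24) (kc xc18 yc30 zc23) (kc xc8 yc44 zc48) (kc xc5 yc9 zc25) (kc xc18 yc30 zc28) (kc xc18 yc30 zc27) (kc xc16 yc38 zc33) (kc xc10 yc22 zc24) (kc xc9 yc33 zc21)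 (kc xc5 yc9 zc28) (kc xc9 yc39 zc35) (kc xc5 yc21 zc40) (kc xc5 yc9 zc30) (kc xc18 yc30 zc44) (kc xc5 yc9 zc31) (kc xc8 yc24 zc45) (kc xc5 yc36 zc8) (kc xc9 yc56 zc27) (kc xc10 yc3 zc15) (kc xc10 yc33 zc53) (kc xc5 yc9 zc34) (kc xc18 yc30 zc58) (kc xc18 yc30 zc59) (kc xc18 yc30 zc57) (kc xc5 yc9 zc35) (kc xc10 yc20 zc37) (kc xc18 yc30 zc60) (kc xc10 yc33 zc54) (kc xc5 yc9 zc37) (kc xc10 yc16 zc4) (kc xc10 yc15 zc39) (kc xc10 yc16 zc25)) (@D3.rec (fun _ => Pt) (kc xc8 yc54 zc12) (kc xc18 yc31 zc18) (kc xc10 yc3 zc35) (kc xc5 yc9 zc56) (kc xc18 yc31 zc25) (kc xc5 yc9 zc58) (kc xc5 yc20 zc22) (kc xc5 yc9 zc41) (kc xc18 yc31 zc30) (kc xc15 yc9 zc48) (kc xc15 yc38 zc39) (kc xc18 yc31 zc42) (kc xc5 yc9 zc45) (kc xc10 yc28 zc20) (kc xc5 yc9 zc43) (kc xc16 yc0 zc42) (kc xc5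 yc9 zc44) (kc xc18 yc31 zc49) (kc xc5 yc9 zc48) (kc xc5 yc9 zc47) (kc xc18 yc31 zc58) (kc xc18 yc31 zc60) (kc xc18 yc31 zc61) (kc xc18 yc32 zc1) (kc xc18 yc31 zc52) (kc xc18 yc31 zc53) (kc xc5 yc12 zc11) (kc xc5 yc12 zc12) (kc xc5 yc9 zc52) (kc xc18 yc32 zc9) (kc xc18 yc32 zc11) (kc xc18 yc32 zc14) (kc xc18 yc26 zc42) (kc xc10 yc16 zc39) (kc xc5 yc9 zc54) (kc xc18 yc32 zc21) (kc xc18 yc32 zc24) (kc xc5 yc9 zc55) (kc xc18 yc32 zc27) (kc xc18 yc32 zc31) (kc xc18 yc14 zc59) (kc xc18 yc32 zc34) (kc xc5 yc9 zc57) (kc xc17 yc0 zc10) (kc xc18 yc32 zc38) (kc xc18 yc32 zc40) (kc xc18 yc14 zc25) (kc xc5 yc14 zc42) (kc xc5 yc9 zc61) (kc xc18 yc32 zc41) (kc xc18 yc27 zc15) (kc xc5 yc10 zc2) (kc xc10 yc1 zc51) (kc xc10 yc3 zc16) (kc xc10 yc20 zc5) (kc xc10 yc3 zc14) (kc xc5 yc10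 zc6) (kc xc18 yc32 zc56) (kc xc18 yc32 zc55) (kc xc9 yc52 zc42) (kc xc10 yc24 zc54) (kc xc10 yc14 zc42)) (@D3.rec (fun _ => Pt) (kc xc18 yc33 zc2) (kc xc10 yc2 zc24) (kc xc5 yc10 zc18) (kc xc15 yc50 zc47) (kc xc5 yc10 zc20) (kc xc10 yc28 zc19) (kc xc10 yc24 zc57) (kc xc18 yc33 zc22) (kc xc5 yc10 zc14) (kc xc5 yc10 zc12) (kc xc18 yc33 zc26) (kc xc18 yc33 zc29) (kc xc5 yc10 zc13) (kc xc5 yc10 zc27) (kc xc11 yc53 zc46) (kc xc10 yc14 zc54) (kc xc5 yc10 zc16) (kc xc18 yc33 zc36) (kc xc18 yc33 zc40) (kc xc5 yc10 zc17) (kc xc18 yc33 zc43) (kc xc6 yc11 zc50) (kc xc18 yc33 zc7) (kc xc11 yc29 zc59) (kc xc6 yc11 zc54) (kc xc18 yc33 zc49) (kc xc18 yc33 zc13) (kc xc5 yc14 zc36) (kc xc18 yc27 zc37) (kc xc9 yc1 zc2) (kc xc18 yc33 zc54) (kc xc18 yc33 zc32) (kc xc9 yc39 zc39) (kc xc5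 yc21 zc55) (kc xc5 yc10 zc29) (kc xc18 yc34 zc5) (kc xc18 yc34 zc7) (kc xc18 yc34 zc4) (kc xc8 yc5 zc58) (kc xc5 yc21 zc25) (kc xc18 yc34 zc13) (kc xc9 yc59 zc15) (kc xc5 yc10 zc39) (kc xc18 yc34 zc18) (kc xc5 yc10 zc41) (kc xc16 yc38 zc38) (kc xc15 yc14 zc8) (kc xc16 yc34 zc43) (kc xc18 yc34 zc34) (kc xc5 yc10 zc36) (kc xc10 yc28 zc33) (kc xc5 yc10 zc34) (kc xc18 yc34 zc40) (kc xc17 yc16 zc45) (kc xc5 yc10 zc35) (kc xc18 yc34 zc46) (kc xc18 yc34 zc45) (kc xc5 yc10 zc37) (kc xc18 yc34 zc49) (kc xc18 yc16 zc10) (kc xc5 yc10 zc38) (kc xc10 yc17 zc46)) (@D3.rec (fun _ => Pt) (kc xc18 yc34 zc17) (kc xc18 yc34 zc57) (kc xc18 yc34 zc61) (kc xc14 yc6 zc14) (kc xc18 yc34 zc23) (kc xc11 yc15 zc4) (kc xc5 yc14 zc21) (kc xc12 yc4 zc39) (kc xc18 yc35 zc3) (kc xc8 yc0 zc58) (kc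 xc5 yc10 zc45) (kc xc18 yc35 zc5) (kc xc5 yc10 zc47) (kc xc18 yc35 zc8) (kc xc18 yc35 zc6) (kc xc12 yc3 zc58) (kc xc5 yc10 zc49) (kc xc18 yc28 zc32) (kc xc9 yc17 zc25) (kc xc5 yc10 zc51) (kc xc5 yc19 zc7) (kc xc9 yc59 zc58) (kc xc6 yc10 zc61) (kc xc5 yc10 zc61) (kc xc18 yc35 zc20) (kc xc5 yc11 zc1) (kc xc10 yc28 zc32) (kc xc10 yc25 zc28) (kc xc10 yc25 zc29) (kc xc18 yc35 zc29) (kc xc5 yc10 zc58) (kc xc16 yc35 zc39) (kc xc5 yc10 zc56) (kc xc18 yc35 zc32) (kc xc10 yc21 zc16) (kc xc5 yc10 zc57) (kc xc10 yc12 zc61) (kc xc10 yc13 zc37) (kc xc5 yc10 zc60) (kc xc18 yc35 zc36) (kc xc12 yc24 zc11) (kc xc18 yc9 zc49) (kc xc12 yc53 zc32) (kc xc18 yc15 zc4) (kc xc18 yc15 zc1) (kc xc17 yc45 zc59) (kc xc14 yc13 zc36) (kc xc18 yc28 zc49) (kc xc5 yc11 zc7) (kc xc5 yc11 zc8) (kc xc18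 yc35 zc44) (kc xc9 yc58 zc21) (kc xc5 yc11 zc10) (kc xc18 yc35 zc52) (kc xc18 yc35 zc51) (kc xc18 yc35 zc54) (kc xc5 yc11 zc11) (kc xc18 yc35 zc57) (kc xc5 yc11 zc12) (kc xc18 yc35 zc59) (kc xc18 yc13 zc45) (kc xc10 yc12 zc36)) (@D3.rec (fun _ => Pt) (kc xc18 yc36 zc0) (kc xc5 yc11 zc15) (kc xc5 yc11 zc14) (kc xc18 yc36 zc8) (kc xc18 yc36 zc12) (kc xc18 yc36 zc16) (kc xc18 yc36 zc5) (kc xc5 yc41 zc4) (kc xc9 yc12 zc29) (kc xc11 yc31 zc29) (kc xc9 yc57 zc25) (kc xc5 yc11 zc19) (kc xc10 yc26 zc59) (kc xc5 yc11 zc20) (kc xc18 yc36 zc24) (kc xc5 yc11 zc21) (kc xc14 yc43 zc9) (kc xc10 yc22 zc53) (kc xc7 yc31 zc24) (kc xc6 yc36 zc3) (kc xc5 yc11 zc24) (kc xc13 yc14 zc44) (kc xc13 yc14 zc43) (kc xc13 yc13 zc29) (kc xc13 yc40 zc49) (kc xc5 yc14 zc8) (kc xc18 yc29 zc14) (kc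 xc18 yc15 zc5) (kc xc5 yc11 zc29) (kc xc18 yc36 zc43) (kc xc18 yc36 zc42) (kc xc10 yc26 zc60) (kc xc5 yc18 zc7) (kc xc5 yc11 zc30) (kc xc13 yc17 zc48) (kc xc10 yc42 zc27) (kc xc5 yc18 zc8) (kc xc10 yc12 zc37) (kc xc10 yc22 zc38) (kc xc18 yc36 zc48) (kc xc13 yc26 zc29) (kc xc5 yc11 zc33) (kc xc5 yc11 zc34) (kc xc17 yc33 zc19) (kc xc5 yc11 zc32) (kc xc18 yc37 zc10) (kc xc14 yc16 zc53) (kc xc18 yc29 zc27) (kc xc6 yc0 zc50) (kc xc18 yc37 zc5) (kc xc18 yc37 zc6) (kc xc9 yc58 zc20) (kc xc18 yc15 zc6) (kc xc5 yc11 zc35) (kc xc18 yc37 zc22) (kc xc18 yc37 zc21) (kc xc18 yc37 zc19) (kc xc13 yc26 zc30) (kc xc5 yc11 zc38) (kc xc5 yc11 zc37) (kc xc18 yc37 zc36) (kc xc18 yc29 zc40)) (@D3.rec (fun _ => Pt) (kc xc18 yc37 zc40) (kc xc18 yc37 zc34) (kc xc5 yc11 zc39) (kc xc18 yc37 zc43)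 (kc xc11 yc35 zc44) (kc xc5 yc11 zc40) (kc xc14 yc23 zc53) (kc xc12 yc31 zc35) (kc xc5 yc11 zc41) (kc xc11 yc17 zc11) (kc xc6 yc11 zc29) (kc xc17 yc0 zc14) (kc xc18 yc37 zc60) (kc xc5 yc11 zc43) (kc xc18 yc38 zc3) (kc xc18 yc38 zc1) (kc xc18 yc38 zc5) (kc xc18 yc38 zc8) (kc xc6 yc10 zc33) (kc xc17 yc17 zc7) (kc xc5 yc11 zc45) (kc xc18 yc38 zc13) (kc xc5 yc14 zc40) (kc xc5 yc14 zc41) (kc xc5 yc13 zc32) (kc xc6 yc30 zc0) (kc xc5 yc14 zc34) (kc xc5 yc14 zc35) (kc xc5 yc52 zc25) (kc xc5 yc12 zc33) (kc xc7 yc41 zc13) (kc xc8 yc59 zc44) (kc xc11 yc36 zc14) (kc xc6 yc29 zc33) (kc xc8 yc59 zc45) (kc xc11 yc36 zc15) (kc xc18 yc38 zc31) (kc xc5 yc11 zc54) (kc xc18 yc38 zc35) (kc xc18 yc38 zc34) (kc xc18 yc38 zc32) (kc xc6 yc41 zc1) (kc xc10 yc10 zc61) (kc xc9 yc55 zc5) (kc xc5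 yc11 zc60) (kc xc16 yc54 zc4) (kc xc13 yc30 zc10) (kc xc8 yc44 zc29) (kc xc18 yc3 zc19) (kc xc9 yc55 zc2) (kc xc18 yc38 zc44) (kc xc9 yc54 zc59) (kc xc15 yc11 zc0) (kc xc18 yc10 zc41) (kc xc10 yc11 zc15) (kc xc5 yc12 zc18) (kc xc18 yc38 zc46) (kc xc5 yc12 zc19) (kc xc17 yc47 zc4) (kc xc15 yc11 zc2) (kc xc15 yc11 zc3) (kc xc18 yc39 zc0)) (@D3.rec (fun _ => Pt) (kc xc5 yc12 zc8) (kc xc17 yc45 zc57) (kc xc5 yc12 zc6) (kc xc5 yc12 zc7) (kc xc8 yc50 zc11) (kc xc9 yc25 zc41) (kc xc9 yc25 zc42) (kc xc9 yc24 zc50) (kc xc18 yc39 zc8) (kc xc10 yc44 zc36) (kc xc9 yc56 zc44) (kc xc5 yc12 zc16) (kc xc6 yc58 zc32) (kc xc18 yc39 zc17) (kc xc5 yc12 zc17) (kc xc13 yc41 zc45) (kc xc18 yc38 zc45) (kc xc18 yc39 zc25) (kc xc18 yc39 zc27) (kc xc12 yc19 zc48) (kc xc18 yc38 zc51) (kc xc5 yc12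 zc23) (kc xc18 yc39 zc31) (kc xc18 yc39 zc32) (kc xc11 yc51 zc53) (kc xc6 yc31 zc17) (kc xc6 yc32 zc23) (kc xc6 yc30 zc16) (kc xc17 yc18 zc41) (kc xc5 yc52 zc21) (kc xc12 yc15 zc13) (kc xc18 yc39 zc41) (kc xc11 yc51 zc24) (kc xc15 yc24 zc47) (kc xc5 yc37 zc3) (kc xc5 yc12 zc44) (kc xc8 yc52 zc6) (kc xc5 yc12 zc37) (kc xc15 yc25 zc3) (kc xc10 yc9 zc60) (kc xc18 yc0 zc61) (kc xc11 yc54 zc60) (kc xc5 yc12 zc40) (kc xc15 yc2 zc7) (kc xc15 yc2 zc10) (kc xc5 yc12 zc42) (kc xc18 yc27 zc42) (kc xc18 yc27 zc43) (kc xc16 yc50 zc44) (kc xc11 yc54 zc33) (kc xc9 yc31 zc39) (kc xc12 yc55 zc13) (kc xc18 yc1 zc5) (kc xc18 yc40 zc11) (kc xc17 yc59 zc21) (kc xc8 yc38 zc8) (kc xc6 yc7 zc15) (kc xc18 yc40 zc24) (kc xc5 yc12 zc50) (kc xc5 yc12 zc47) (kc xc18 yc3 zc48) (kc xc16 yc50 zc30))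 (@D3.rec (fun _ => Pt) (kc xc18 yc26 zc34) (kc xc18 yc26 zc35) (kc xc5 yc12 zc49) (kc xc18 yc5 zc34) (kc xc10 yc9 zc59) (kc xc18 yc22 zc61) (kc xc7 yc14 zc32) (kc xc18 yc40 zc38) (kc xc7 yc8 zc17) (kc xc18 yc23 zc1) (kc xc6 yc13 zc47) (kc xc8 yc3 zc25) (kc xc5 yc37 zc38) (kc xc12 yc11 zc4) (kc xc16 yc29 zc45) (kc xc5 yc12 zc60) (kc xc18 yc40 zc45) (kc xc18 yc40 zc49) (kc xc8 yc39 zc23) (kc xc18 yc40 zc44) (kc xc5 yc13 zc1) (kc xc18 yc40 zc61) (kc xc18 yc41 zc3) (kc xc18 yc40 zc60) (kc xc18 yc28 zc15) (kc xc10 yc9 zc61) (kc xc9 yc56 zc57) (kc xc10 yc7 zc35) (kc xc15 yc25 zc40) (kc xc5 yc13 zc6) (kc xc18 yc41 zc19) (kc xc18 yc41 zc18) (kc xc10 yc20 zc6) (kc xc15 yc24 zc46) (kc xc9 yc52 zc57) (kc xc9 yc54 zc51) (kc xc15 yc24 zc49) (kc xc9 yc52 zc58) (kc xc12 yc2 zc54)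 (kc xc10 yc10 zc33) (kc xc5 yc13 zc18) (kc xc6 yc36 zc6) (kc xc15 yc24 zc53) (kc xc8 yc39 zc46) (kc xc5 yc13 zc10) (kc xc18 yc9 zc20) (kc xc16 yc54 zc31) (kc xc16 yc54 zc28) (kc xc5 yc13 zc13) (kc xc5 yc17 zc17) (kc xc5 yc13 zc26) (kc xc9 yc58 zc26) (kc xc9 yc55 zc8) (kc xc5 yc13 zc16) (kc xc18 yc41 zc43) (kc xc18 yc41 zc46) (kc xc5 yc13 zc17) (kc xc18 yc41 zc49) (kc xc8 yc43 zc22) (kc xc7 yc8 zc9) (kc xc5 yc25 zc18) (kc xc8 yc43 zc24)) (@D3.rec (fun _ => Pt) (kc xc9 yc31 zc46) (kc xc15 yc51 zc39) (kc xc18 yc41 zc53) (kc xc5 yc13 zc22) (kc xc18 yc41 zc55) (kc xc18 yc41 zc56) (kc xc18 yc41 zc34) (kc xc18 yc41 zc60) (kc xc18 yc41 zc61) (kc xc18 yc22 zc46) (kc xc8 yc49 zc3) (kc xc9 yc47 zc36) (kc xc18 yc42 zc5) (kc xc5 yc13 zc29) (kc xc18 yc42 zc10) (kc xc18 yc42 zc9)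 (kc xc18 yc42 zc12) (kc xc6 yc2 zc40) (kc xc18 yc11 zc2) (kc xc17 yc17 zc1) (kc xc6 yc3 zc7) (kc xc12 yc15 zc3) (kc xc5 yc50 zc23) (kc xc11 yc49 zc31) (kc xc6 yc31 zc16) (kc xc6 yc30 zc13) (kc xc18 yc42 zc17) (kc xc6 yc13 zc0) (kc xc9 yc47 zc38) (kc xc18 yc42 zc19) (kc xc5 yc13 zc40) (kc xc18 yc42 zc23) (kc xc18 yc42 zc28) (kc xc18 yc42 zc21) (kc xc5 yc13 zc43) (kc xc18 yc42 zc37) (kc xc18 yc42 zc41) (kc xc18 yc26 zc50) (kc xc18 yc42 zc35) (kc xc9 yc26 zc58) (kc xc8 yc12 zc27) (kc xc10 yc4 zc44) (kc xc18 yc42 zc49) (kc xc5 yc13 zc47) (kc xc17 yc34 zc7) (kc xc13 yc3 zc5) (kc xc10 yc11 zc61) (kc xc18 yc42 zc52) (kc xc5 yc13 zc48) (kc xc18 yc42 zc56) (kc xc6 yc20 zc27) (kc xc6 yc46 zc52) (kc xc6 yc46 zc51) (kc xc11 yc14 zc27) (kc xc18 yc42 zc58) (kc xc5 yc47 zc36) (kc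 xc9 yc15 zc6) (kc xc18 yc42 zc61) (kc xc18 yc43 zc1) (kc xc5 yc13 zc59) (kc xc18 yc43 zc2) (kc xc15 yc23 zc43)) (@D3.rec (fun _ => Pt) (kc xc5 yc13 zc61) (kc xc18 yc43 zc8) (kc xc18 yc42 zc54) (kc xc5 yc14 zc2) (kc xc5 yc48 zc54) (kc xc6 yc16 zc8) (kc xc18 yc43 zc13) (kc xc5 yc14 zc4) (kc xc5 yc50 zc31) (kc xc17 yc16 zc38) (kc xc12 yc53 zc59) (kc xc8 yc44 zc24) (kc xc18 yc43 zc16) (kc xc6 yc18 zc54) (kc xc6 yc2 zc42) (kc xc7 yc43 zc15) (kc xc9 yc26 zc56) (kc xc12 yc49 zc31) (kc xc5 yc14 zc15) (kc xc12 yc30 zc18) (kc xc11 yc1 zc61) (kc xc12 yc42 zc60) (kc xc18 yc43 zc20) (kc xc11 yc21 zc35) (kc xc18 yc43 zc21) (kc xc5 yc14 zc25) (kc xc18 yc43 zc23) (kc xc17 yc7 zc61) (kc xc12 yc56 zc53) (kc xc18 yc43 zc27) (kc xc10 yc27 zc26) (kc xc5 yc14 zc45) (kc xc8 yc12 zc3) (kc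 xc17 yc6 zc41) (kc xc5 yc14 zc31) (kc xc18 yc43 zc30) (kc xc18 yc43 zc34) (kc xc5 yc14 zc33) (kc xc6 yc30 zc23) (kc xc18 yc43 zc38) (kc xc16 yc55 zc40) (kc xc18 yc43 zc40) (kc xc16 yc49 zc0) (kc xc12 yc14 zc49) (kc xc17 yc8 zc42) (kc xc5 yc14 zc37) (kc xc15 yc26 zc12) (kc xc5 yc57 zc48) (kc xc5 yc14 zc39) (kc xc11 yc58 zc13) (kc xc18 yc43 zc43) (kc xc18 yc38 zc18) (kc xc9 yc11 zc44) (kc xc7 yc33 zc54) (kc xc10 yc23 zc9) (kc xc5 yc14 zc43) (kc xc18 yc43 zc48) (kc xc17 yc57 zc45) (kc xc5 yc14 zc44) (kc xc6 yc21 zc56) (kc xc5 yc57 zc60) (kc xc5 yc57 zc59)) (@D3.rec (fun _ => Pt) (kc xc18 yc43 zc53) (kc xc12 yc58 zc41) (kc xc18 yc26 zc21) (kc xc7 yc27 zc9) (kc xc12 yc31 zc18) (kc xc12 yc14 zc48) (kc xc12 yc9 zc32) (kc xc10 yc27 zc43) (kc xc5 yc58 zc9) (kc xc10 yc27 zc46)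 (kc xc8 yc10 zc50) (kc xc8 yc56 zc24) (kc xc18 yc44 zc1) (kc xc18 yc44 zc5) (kc xc16 yc12 zc27) (kc xc18 yc44 zc11) (kc xc5 yc14 zc56) (kc xc5 yc14 zc60) (kc xc8 yc20 zc51) (kc xc8 yc30 zc1) (kc xc8 yc30 zc0) (kc xc8 yc26 zc23) (kc xc18 yc44 zc21) (kc xc18 yc44 zc24) (kc xc18 yc44 zc15) (kc xc18 yc44 zc29) (kc xc8 yc30 zc8) (kc xc15 yc58 zc49) (kc xc5 yc15 zc0) (kc xc18 yc44 zc36) (kc xc16 yc34 zc40) (kc xc8 yc29 zc31) (kc xc9 yc53 zc1) (kc xc8 yc29 zc30) (kc xc5 yc15 zc3) (kc xc15 yc0 zc35) (kc xc8 yc29 zc23) (kc xc5 yc15 zc5) (kc xc18 yc27 zc55) (kc xc18 yc44 zc56) (kc xc5 yc19 zc31) (kc xc5 yc26 zc25) (kc xc8 yc26 zc18) (kc xc18 yc45 zc7) (kc xc18 yc45 zc11) (kc xc10 yc23 zc54) (kc xc18 yc45 zc16) (kc xc10 yc23 zc56) (kc xc5 yc25 zc56) (kc xc15 yc56 zc0) (kc xc5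 yc15 zc10) (kc xc5 yc15 zc25) (kc xc5 yc15 zc13) (kc xc8 yc42 zc43) (kc xc9 yc52 zc52) (kc xc12 yc30 zc46) (kc xc10 yc43 zc58) (kc xc10 yc42 zc60) (kc xc12 yc55 zc34) (kc xc5 yc15 zc19) (kc xc10 yc43 zc5) (kc xc10 yc43 zc6)) (@D3.rec (fun _ => Pt) (kc xc18 yc45 zc31) (kc xc10 yc24 zc31) (kc xc17 yc19 zc39) (kc xc12 yc32 zc39) (kc xc17 yc16 zc48) (kc xc10 yc10 zc54) (kc xc10 yc16 zc32) (kc xc10 yc7 zc20) (kc xc18 yc45 zc42) (kc xc18 yc45 zc44) (kc xc18 yc45 zc25) (kc xc18 yc45 zc48) (kc xc8 yc26 zc30) (kc xc10 yc7 zc24) (kc xc10 yc7 zc25) (kc xc5 yc15 zc29) (kc xc5 yc15 zc28) (kc xc9 yc56 zc39) (kc xc5 yc15 zc37) (kc xc5 yc22 zc9) (kc xc5 yc15 zc32) (kc xc9 yc56 zc49) (kc xc18 yc9 zc8) (kc xc16 yc37 zc31) (kc xc11 yc54 zc8) (kc xc5 yc15 zc35) (kc xc10 yc46 zc61) (kc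 xc18 yc46 zc6) (kc xc16 yc44 zc13) (kc xc5 yc15 zc36) (kc xc18 yc46 zc9) (kc xc18 yc31 zc17) (kc xc18 yc45 zc56) (kc xc12 yc4 zc11) (kc xc18 yc45 zc58) (kc xc15 yc55 zc59) (kc xc15 yc50 zc53) (kc xc10 yc9 zc55) (kc xc16 yc36 zc45) (kc xc5 yc15 zc42) (kc xc5 yc15 zc40) (kc xc18 yc46 zc26) (kc xc5 yc15 zc41) (kc xc18 yc46 zc31) (kc xc15 yc24 zc45) (kc xc10 yc25 zc20) (kc xc9 yc53 zc33) (kc xc9 yc53 zc34) (kc xc9 yc40 zc28) (kc xc8 yc26 zc14) (kc xc18 yc46 zc42) (kc xc18 yc46 zc45) (kc xc18 yc3 zc43) (kc xc18 yc46 zc47) (kc xc18 yc3 zc45) (kc xc10 yc44 zc1) (kc xc15 yc55 zc40) (kc xc10 yc8 zc17) (kc xc10 yc8 zc18) (kc xc18 yc47 zc0) (kc xc5 yc15 zc51) (kc xc5 yc15 zc49)) (@D3.rec (fun _ => Pt) (kc xc17 yc21 zc23) (kc xc5 yc15 zc50) (kc xc10 yc54 zc8) (kc xc5 yc15 zc54)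 (kc xc5 yc21 zc61) (kc xc5 yc15 zc53) (kc xc9 yc58 zc28) (kc xc9 yc58 zc29) (kc xc18 yc14 zc61) (kc xc18 yc47 zc14) (kc xc18 yc34 zc12) (kc xc18 yc47 zc7) (kc xc18 yc47 zc21) (kc xc18 yc47 zc9) (kc xc15 yc55 zc32) (kc xc15 yc50 zc55) (kc xc10 yc12 zc34) (kc xc18 yc47 zc35) (kc xc5 yc15 zc59) (kc xc5 yc15 zc57) (kc xc5 yc21 zc3) (kc xc5 yc15 zc58) (kc xc18 yc47 zc38) (kc xc18 yc47 zc42) (kc xc10 yc29 zc57) (kc xc11 yc1 zc22) (kc xc10 yc29 zc59) (kc xc10 yc42 zc55) (kc xc11 yc55 zc59) (kc xc18 yc47 zc58) (kc xc15 yc50 zc45) (kc xc18 yc29 zc31) (kc xc18 yc28 zc52) (kc xc15 yc11 zc43) (kc xc18 yc48 zc7) (kc xc15 yc11 zc45) (kc xc15 yc55 zc19) (kc xc18 yc48 zc16) (kc xc15 yc11 zc40) (kc xc5 yc16 zc34) (kc xc17 yc47 zc38) (kc xc18 yc48 zc22) (kc xc18 yc16 zc15) (kc xc18 yc15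 zc43) (kc xc18 yc16 zc33) (kc xc18 yc48 zc30) (kc xc18 yc16 zc24) (kc xc18 yc48 zc33) (kc xc16 yc53 zc29) (kc xc5 yc16 zc7) (kc xc18 yc48 zc39) (kc xc18 yc48 zc40) (kc xc5 yc16 zc50) (kc xc16 yc53 zc23) (kc xc18 yc48 zc48) (kc xc15 yc55 zc7) (kc xc18 yc48 zc37) (kc xc5 yc16 zc12) (kc xc18 yc45 zc20) (kc xc14 yc41 zc57) (kc xc9 yc26 zc44) (kc xc8 yc29 zc32)) (@D3.rec (fun _ => Pt) (kc xc15 yc32 zc19) (kc xc9 yc54 zc46) (kc xc18 yc49 zc5) (kc xc5 yc16 zc15) (kc xc18 yc49 zc9) (kc xc18 yc49 zc8) (kc xc17 yc46 zc46) (kc xc5 yc16 zc16) (kc xc18 yc49 zc13) (kc xc15 yc36 zc15) (kc xc15 yc50 zc51) (kc xc15 yc25 zc47) (kc xc17 yc45 zc35) (kc xc17 yc45 zc36) (kc xc5 yc16 zc22) (kc xc18 yc34 zc1) (kc xc5 yc16 zc20) (kc xc18 yc49 zc24) (kc xc5 yc16 zc21) (kc xc18 yc49 zc28) (kc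 xc18 yc49 zc27) (kc xc5 yc16 zc23) (kc xc18 yc49 zc29) (kc xc5 yc16 zc24) (kc xc10 yc9 zc37) (kc xc9 yc40 zc6) (kc xc17 yc46 zc4) (kc xc10 yc8 zc36) (kc xc10 yc8 zc37) (kc xc18 yc42 zc27) (kc xc5 yc16 zc31) (kc xc17 yc47 zc15) (kc xc5 yc16 zc29) (kc xc18 yc49 zc44) (kc xc5 yc16 zc30) (kc xc18 yc48 zc18) (kc xc5 yc16 zc35) (kc xc14 yc53 zc38) (kc xc10 yc13 zc38) (kc xc18 yc49 zc49) (kc xc18 yc29 zc17) (kc xc9 yc59 zc18) (kc xc9 yc59 zc39) (kc xc18 yc29 zc15) (kc xc12 yc31 zc49) (kc xc5 yc16 zc39) (kc xc5 yc16 zc40) (kc xc12 yc44 zc35) (kc xc12 yc38 zc33) (kc xc18 yc48 zc25) (kc xc18 yc50 zc9) (kc xc18 yc50 zc4) (kc xc18 yc50 zc5) (kc xc10 yc13 zc17) (kc xc16 yc35 zc58) (kc xc5 yc16 zc41) (kc xc13 yc14 zc46) (kc xc14 yc53 zc42) (kc xc18 yc50 zc16) (kc xc5 yc16 zc44) (kc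 xc12 yc38 zc35) (kc xc5 yc25 zc37)) (@D3.rec (fun _ => Pt) (kc xc18 yc50 zc24) (kc xc18 yc50 zc20) (kc xc5 yc16 zc45) (kc xc18 yc50 zc27) (kc xc10 yc6 zc26) (kc xc5 yc16 zc46) (kc xc16 yc59 zc40) (kc xc5 yc16 zc47) (kc xc12 yc2 zc24) (kc xc10 yc18 zc54) (kc xc18 yc50 zc41) (kc xc5 yc16 zc49) (kc xc18 yc50 zc34) (kc xc17 yc0 zc17) (kc xc18 yc50 zc50) (kc xc16 yc59 zc58) (kc xc9 yc44 zc26) (kc xc10 yc7 zc16) (kc xc9 yc44 zc27) (kc xc10 yc7 zc18) (kc xc5 yc16 zc53) (kc xc18 yc50 zc56) (kc xc5 yc16 zc58) (kc xc5 yc23 zc4) (kc xc8 yc16 zc44) (kc xc10 yc40 zc39) (kc xc7 yc58 zc19) (kc xc8 yc16 zc39) (kc xc7 yc58 zc18) (kc xc17 yc52 zc12) (kc xc9 yc57 zc11) (kc xc18 yc50 zc59) (kc xc18 yc51 zc17) (kc xc8 yc16 zc33) (kc xc8 yc16 zc28) (kc xc8 yc20 zc1) (kc xc8 yc16 zc7) (kc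 xc11 yc53 zc17) (kc xc5 yc18 zc16) (kc xc11 yc55 zc21) (kc xc10 yc27 zc51) (kc xc5 yc26 zc10) (kc xc8 yc3 zc18) (kc xc8 yc15 zc12) (kc xc5 yc17 zc3) (kc xc9 yc39 zc45) (kc xc5 yc26 zc44) (kc xc17 yc21 zc57) (kc xc6 yc32 zc58) (kc xc8 yc52 zc18) (kc xc8 yc16 zc6) (kc xc8 yc15 zc51) (kc xc18 yc51 zc55) (kc xc18 yc51 zc60) (kc xc10 yc19 zc45) (kc xc18 yc52 zc4) (kc xc10 yc19 zc47) (kc xc8 yc16 zc16) (kc xc5 yc17 zc8) (kc xc18 yc52 zc10) (kc xc5 yc17 zc26) (kc xc5 yc17 zc10)) (@D3.rec (fun _ => Pt) (kc xc8 yc12 zc61) (kc xc5 yc30 zc4) (kc xc8 yc16 zc53) (kc xc11 yc54 zc32) (kc xc15 yc27 zc26) (kc xc5 yc17 zc16) (kc xc11 yc54 zc39) (kc xc11 yc54 zc40) (kc xc18 yc52 zc28) (kc xc10 yc36 zc2) (kc xc18 yc41 zc35) (kc xc5 yc17 zc20) (kc xc15 yc32 zc26) (kc xc5 yc29 zc56) (kc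 xc10 yc50 zc49) (kc xc11 yc55 zc26) (kc xc11 yc55 zc27) (kc xc8 yc31 zc4) (kc xc10 yc30 zc42) (kc xc15 yc32 zc32) (kc xc15 yc32 zc33) (kc xc15 yc31 zc39) (kc xc18 yc52 zc44) (kc xc18 yc52 zc49) (kc xc8 yc37 zc58) (kc xc11 yc59 zc40) (kc xc8 yc37 zc60) (kc xc18 yc52 zc13) (kc xc5 yc17 zc28) (kc xc10 yc49 zc60) (kc xc10 yc49 zc59) (kc xc10 yc20 zc1) (kc xc10 yc44 zc37) (kc xc5 yc17 zc30) (kc xc18 yc53 zc7) (kc xc18 yc53 zc8) (kc xc18 yc53 zc6) (kc xc9 yc56 zc32) (kc xc10 yc47 zc41) (kc xc9 yc52 zc18) (kc xc10 yc3 zc13) (kc xc10 yc47 zc37) (kc xc9 yc52 zc19) (kc xc18 yc53 zc23) (kc xc18 yc53 zc27) (kc xc15 yc12 zc34) (kc xc18 yc53 zc34) (kc xc15 yc12 zc35) (kc xc15 yc32 zc25) (kc xc9 yc52 zc24) (kc xc9 yc52 zc25) (kc xc16 yc1 zc38) (kc xc5 yc17 zc37) (kc xc5 yc17 zc36)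 (kc xc10 yc10 zc60) (kc xc5 yc17 zc42) (kc xc5 yc17 zc40) (kc xc10 yc11 zc6) (kc xc15 yc27 zc58) (kc xc18 yc31 zc5) (kc xc18 yc53 zc52) (kc xc18 yc9 zc21)) (@D3.rec (fun _ => Pt) (kc xc18 yc53 zc46) (kc xc18 yc54 zc0) (kc xc18 yc53 zc47) (kc xc11 yc54 zc38) (kc xc15 yc32 zc11) (kc xc8 yc26 zc54) (kc xc15 yc51 zc1) (kc xc5 yc17 zc47) (kc xc5 yc17 zc45) (kc xc18 yc54 zc11) (kc xc5 yc17 zc46) (kc xc17 yc22 zc53) (kc xc15 yc27 zc56) (kc xc9 yc56 zc23) (kc xc8 yc15 zc10) (kc xc18 yc54 zc23) (kc xc18 yc54 zc26) (kc xc15 yc11 zc53) (kc xc18 yc54 zc30) (kc xc15 yc11 zc55) (kc xc10 yc20 zc45) (kc xc10 yc43 zc30) (kc xc9 yc53 zc20) (kc xc9 yc53 zc21) (kc xc5 yc17 zc53) (kc xc17 yc34 zc60) (kc xc5 yc17 zc54) (kc xc9 yc43 zc15) (kc xc10 yc12 zc27) (kc xc10 yc12 zc28) (kc xc17 yc47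 zc36) (kc xc18 yc54 zc40) (kc xc18 yc13 zc8) (kc xc17 yc47 zc31) (kc xc18 yc54 zc46) (kc xc17 yc47 zc33) (kc xc11 yc55 zc25) (kc xc14 yc13 zc38) (kc xc9 yc58 zc35) (kc xc7 yc15 zc55) (kc xc5 yc18 zc0) (kc xc5 yc17 zc60) (kc xc18 yc54 zc52) (kc xc5 yc17 zc61) (kc xc18 yc54 zc54) (kc xc18 yc54 zc58) (kc xc16 yc35 zc45) (kc xc18 yc55 zc2) (kc xc16 yc35 zc47) (kc xc10 yc43 zc35) (kc xc18 yc7 zc44) (kc xc18 yc6 zc42) (kc xc14 yc15 zc21) (kc xc5 yc18 zc38) (kc xc18 yc11 zc15) (kc xc18 yc55 zc19) (kc xc18 yc36 zc47) (kc xc18 yc36 zc21) (kc xc18 yc37 zc0) (kc xc18 yc55 zc22) (kc xc18 yc36 zc53) (kc xc18 yc55 zc25)) (@D3.rec (fun _ => Pt) (kc xc18 yc55 zc28) (kc xc18 yc55 zc31) (kc xc5 yc18 zc10) (kc xc15 yc35 zc48) (kc xc18 yc55 zc36) (kc xc5 yc18 zc54) (kc xc18 yc55 zc42)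 (kc xc15 yc31 zc54) (kc xc14 yc35 zc35) (kc xc15 yc31 zc52) (kc xc15 yc35 zc49) (kc xc5 yc18 zc15) (kc xc18 yc55 zc49) (kc xc18 yc55 zc52) (kc xc10 yc51 zc28) (kc xc18 yc51 zc30) (kc xc15 yc31 zc5) (kc xc10 yc9 zc29) (kc xc18 yc56 zc0) (kc xc5 yc18 zc18) (kc xc17 yc23 zc10) (kc xc18 yc56 zc3) (kc xc17 yc47 zc59) (kc xc5 yc18 zc19) (kc xc18 yc56 zc7) (kc xc15 yc32 zc16) (kc xc9 yc39 zc34) (kc xc17 yc47 zc14) (kc xc15 yc11 zc23) (kc xc15 yc11 zc24) (kc xc18 yc56 zc18) (kc xc5 yc18 zc25) (kc xc17 yc46 zc5) (kc xc5 yc18 zc23) (kc xc18 yc56 zc23) (kc xc18 yc3 zc36) (kc xc18 yc56 zc24) (kc xc5 yc18 zc26) (kc xc18 yc56 zc26) (kc xc5 yc18 zc27) (kc xc8 yc26 zc19) (kc xc9 yc39 zc55) (kc xc9 yc39 zc28) (kc xc5 yc18 zc31) (kc xc18 yc56 zc33) (kc xc9 yc53 zc42) (kc xc9 yc53 zc43)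 (kc xc18 yc56 zc39) (kc xc5 yc18 zc35) (kc xc18 yc14 zc24) (kc xc5 yc18 zc34) (kc xc5 yc18 zc37) (kc xc10 yc42 zc6) (kc xc18 yc15 zc41) (kc xc5 yc18 zc39) (kc xc17 yc16 zc59) (kc xc18 yc2 zc8) (kc xc9 yc59 zc46) (kc xc18 yc7 zc33) (kc xc10 yc13 zc12) (kc xc10 yc13 zc31) (kc xc18 yc7 zc31)) (@D3.rec (fun _ => Pt) (kc xc18 yc56 zc57) (kc xc5 yc18 zc43) (kc xc5 yc18 zc44) (kc xc14 yc16 zc48) (kc xc5 yc18 zc42) (kc xc17 yc19 zc51) (kc xc14 yc35 zc27) (kc xc10 yc42 zc26) (kc xc6 yc24 zc42) (kc xc13 yc19 zc41) (kc xc13 yc19 zc50) (kc xc9 yc59 zc23) (kc xc10 yc30 zc14) (kc xc5 yc18 zc45) (kc xc18 yc57 zc9) (kc xc18 yc57 zc8) (kc xc18 yc57 zc6) (kc xc18 yc57 zc17) (kc xc5 yc18 zc48) (kc xc5 yc18 zc47) (kc xc18 yc57 zc20) (kc xc13 yc53 zc44) (kc xc18 yc57 zc24) (kc xc13 yc19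 zc39) (kc xc5 yc18 zc49) (kc xc18 yc57 zc27) (kc xc10 yc18 zc30) (kc xc5 yc18 zc50) (kc xc14 yc32 zc15) (kc xc14 yc26 zc14) (kc xc5 yc18 zc51) (kc xc18 yc57 zc38) (kc xc18 yc37 zc44) (kc xc10 yc7 zc1) (kc xc18 yc57 zc47) (kc xc5 yc18 zc53) (kc xc18 yc57 zc52) (kc xc18 yc57 zc55) (kc xc17 yc18 zc30) (kc xc10 yc31 zc4) (kc xc10 yc36 zc45) (kc xc9 yc9 zc60) (kc xc10 yc54 zc44) (kc xc10 yc19 zc7) (kc xc9 yc7 zc45) (kc xc10 yc54 zc45) (kc xc10 yc19 zc9) (kc xc5 yc18 zc58) (kc xc18 yc58 zc6) (kc xc5 yc18 zc59) (kc xc9 yc55 zc3) (kc xc10 yc23 zc40) (kc xc5 yc19 zc0) (kc xc9 yc55 zc13) (kc xc9 yc55 zc14) (kc xc18 yc9 zc50) (kc xc8 yc4 zc44) (kc xc5 yc19 zc2) (kc xc18 yc11 zc33) (kc xc9 yc57 zc31) (kc xc9 yc57 zc32) (kc xc17 yc46 zc20)) (@D3.rec (fun _ => Pt) (kc xc17 yc47 zc16)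 (kc xc17 yc46 zc26) (kc xc17 yc46 zc47) (kc xc8 yc3 zc9) (kc xc5 yc19 zc9) (kc xc17 yc45 zc58) (kc xc18 yc58 zc22) (kc xc17 yc46 zc6) (kc xc17 yc47 zc28) (kc xc17 yc41 zc48) (kc xc17 yc41 zc42) (kc xc15 yc14 zc35) (kc xc8 yc52 zc23) (kc xc17 yc47 zc58) (kc xc18 yc58 zc32) (kc xc18 yc58 zc34) (kc xc16 yc34 zc49) (kc xc18 yc58 zc38) (kc xc16 yc34 zc51) (kc xc10 yc11 zc5) (kc xc10 yc10 zc13) (kc xc17 yc45 zc45) (kc xc18 yc58 zc52) (kc xc5 yc19 zc20) (kc xc5 yc19 zc18) (kc xc5 yc19 zc19) (kc xc16 yc30 zc24) (kc xc18 yc58 zc60) (kc xc18 yc59 zc1) (kc xc16 yc34 zc58) (kc xc18 yc59 zc5) (kc xc16 yc34 zc60) (kc xc10 yc12 zc26) (kc xc10 yc11 zc50) (kc xc16 yc22 zc8) (kc xc18 yc59 zc20) (kc xc5 yc19 zc27) (kc xc5 yc19 zc24) (kc xc18 yc59 zc24) (kc xc5 yc19 zc25) (kc xc8 yc44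 zc31) (kc xc14 yc39 zc29) (kc xc5 yc19 zc26) (kc xc18 yc59 zc30) (kc xc18 yc59 zc32) (kc xc18 yc29 zc3) (kc xc15 yc11 zc28) (kc xc18 yc11 zc29) (kc xc15 yc11 zc30) (kc xc17 yc47 zc34) (kc xc18 yc59 zc41) (kc xc15 yc11 zc25) (kc xc18 yc59 zc43) (kc xc18 yc59 zc46) (kc xc18 yc44 zc60) (kc xc18 yc59 zc52) (kc xc18 yc45 zc0) (kc xc17 yc47 zc26) (kc xc19 yc0 zc1) (kc xc17 yc46 zc56) (kc xc18 yc30 zc30) (kc xc17 yc46 zc40)) (@D3.rec (fun _ => Pt) (kc xc19 yc0 zc10) (kc xc17 yc46 zc41) (kc xc15 yc0 zc42) (kc xc17 yc47 zc52) (kc xc19 yc0 zc21) (kc xc17 yc47 zc50) (kc xc5 yc19 zc40) (kc xc19 yc0 zc28) (kc xc19 yc0 zc29) (kc xc18 yc14 zc31) (kc xc17 yc46 zc60) (kc xc17 yc12 zc43) (kc xc5 yc19 zc42) (kc xc19 yc0 zc34) (kc xc11 yc11 zc18) (kc xc18 yc3 zc35) (kc xc9 yc54 zc6) (kc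 xc16 yc22 zc55) (kc xc17 yc38 zc17) (kc xc9 yc54 zc14) (kc xc19 yc0 zc37) (kc xc19 yc0 zc40) (kc xc5 yc20 zc8) (kc xc11 yc59 zc45) (kc xc11 yc59 zc46) (kc xc19 yc0 zc48) (kc xc19 yc0 zc50) (kc xc16 yc35 zc32) (kc xc19 yc0 zc54) (kc xc12 yc22 zc4) (kc xc9 yc55 zc12) (kc xc9 yc56 zc52) (kc xc19 yc1 zc0) (kc xc5 yc19 zc53) (kc xc5 yc19 zc51) (kc xc19 yc1 zc4) (kc xc19 yc1 zc5) (kc xc5 yc19 zc52) (kc xc16 yc40 zc35) (kc xc10 yc33 zc13) (kc xc15 yc27 zc55) (kc xc5 yc19 zc55) (kc xc19 yc1 zc12) (kc xc16 yc23 zc8) (kc xc16 yc35 zc35) (kc xc19 yc1 zc16) (kc xc16 yc35 zc37) (kc xc9 yc57 zc30) (kc xc9 yc58 zc32) (kc xc17 yc46 zc55) (kc xc19 yc1 zc29) (kc xc5 yc19 zc61) (kc xc5 yc19 zc59) (kc xc16 yc22 zc17) (kc xc5 yc19 zc60) (kc xc18 yc49 zc53) (kc xc18 yc47 zc13) (kc xc10 yc21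 zc24) (kc xc12 yc7 zc2) (kc xc10 yc21 zc26) (kc xc12 yc7 zc14) (kc xc19 yc1 zc41)) (@D3.rec (fun _ => Pt) (kc xc17 yc45 zc47) (kc xc19 yc1 zc43) (kc xc10 yc8 zc41) (kc xc18 yc30 zc49) (kc xc10 yc8 zc43) (kc xc17 yc46 zc18) (kc xc19 yc1 zc51) (kc xc10 yc8 zc38) (kc xc9 yc54 zc17) (kc xc19 yc1 zc55) (kc xc5 yc20 zc6) (kc xc19 yc2 zc0) (kc xc19 yc1 zc60) (kc xc19 yc1 zc61) (kc xc10 yc27 zc12) (kc xc5 yc20 zc7) (kc xc19 yc2 zc9) (kc xc19 yc2 zc8) (kc xc5 yc20 zc9) (kc xc19 yc2 zc15) (kc xc18 yc5 zc54) (kc xc19 yc2 zc14) (kc xc5 yc20 zc12) (kc xc19 yc2 zc26) (kc xc19 yc2 zc28) (kc xc19 yc2 zc25) (kc xc11 yc48 zc43) (kc xc5 yc20 zc14) (kc xc19 yc2 zc33) (kc xc19 yc2 zc32) (kc xc15 yc32 zc0) (kc xc5 yc20 zc16) (kc xc8 yc37 zc53) (kc xc9 yc58 zc14) (kc xc5 yc20 zc18) (kc xc19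 yc2 zc46) (kc xc19 yc2 zc45) (kc xc8 yc13 zc38) (kc xc15 yc0 zc39) (kc xc8 yc13 zc36) (kc xc8 yc15 zc25) (kc xc15 yc0 zc36) (kc xc10 yc24 zc18) (kc xc19 yc3 zc4) (kc xc19 yc3 zc8) (kc xc11 yc52 zc32) (kc xc19 yc3 zc13) (kc xc11 yc52 zc34) (kc xc15 yc0 zc46) (kc xc15 yc0 zc45) (kc xc18 yc31 zc28) (kc xc5 yc21 zc24) (kc xc5 yc20 zc24) (kc xc5 yc20 zc30) (kc xc5 yc20 zc26) (kc xc11 yc4 zc12) (kc xc15 yc17 zc32) (kc xc5 yc27 zc50) (kc xc9 yc41 zc7) (kc xc8 yc9 zc41) (kc xc8 yc9 zc40) (kc xc19 yc3 zc39)) (@D3.rec (fun _ => Pt) (kc xc16 yc50 zc31) (kc xc19 yc3 zc23) (kc xc19 yc3 zc44) (kc xc8 yc2 zc45) (kc xc10 yc27 zc39) (kc xc9 yc41 zc10) (kc xc8 yc9 zc53) (kc xc19 yc3 zc56) (kc xc5 yc20 zc34) (kc xc5 yc20 zc33) (kc xc16 yc57 zc46) (kc xc10 yc37 zc20) (kc xc5 yc20 zc36)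 (kc xc16 yc51 zc14) (kc xc18 yc39 zc20) (kc xc17 yc49 zc22) (kc xc10 yc37 zc37) (kc xc13 yc30 zc38) (kc xc10 yc37 zc38) (kc xc10 yc35 zc8) (kc xc8 yc10 zc11) (kc xc9 yc41 zc51) (kc xc19 yc4 zc19) (kc xc5 yc20 zc41) (kc xc5 yc20 zc40) (kc xc16 yc54 zc55) (kc xc15 yc3 zc15) (kc xc15 yc3 zc16) (kc xc18 yc2 zc44) (kc xc5 yc31 zc4) (kc xc9 yc41 zc6) (kc xc19 yc4 zc28) (kc xc16 yc47 zc52) (kc xc18 yc2 zc41) (kc xc19 yc4 zc30) (kc xc15 yc42 zc40) (kc xc9 yc55 zc46) (kc xc8 yc44 zc44) (kc xc8 yc44 zc27) (kc xc5 yc20 zc48) (kc xc5 yc20 zc47) (kc xc19 yc4 zc35) (kc xc17 yc48 zc22) (kc xc9 yc43 zc1) (kc xc17 yc53 zc27) (kc xc17 yc50 zc41) (kc xc9 yc42 zc58) (kc xc8 yc44 zc9) (kc xc9 yc42 zc60) (kc xc10 yc38 zc48) (kc xc10 yc41 zc2) (kc xc10 yc41 zc3) (kc xc5 yc20 zc54) (kc xc5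 yc20 zc53) (kc xc19 yc4 zc46) (kc xc19 yc4 zc47) (kc xc15 yc2 zc39) (kc xc15 yc2 zc6) (kc xc19 yc4 zc56) (kc xc15 yc2 zc8) (kc xc17 yc48 zc21) (kc xc19 yc4 zc59)) (@D3.rec (fun _ => Pt) (kc xc19 yc4 zc60) (kc xc14 yc2 zc52) (kc xc5 yc20 zc61) (kc xc17 yc48 zc18) (kc xc16 yc36 zc44) (kc xc19 yc5 zc3) (kc xc10 yc53 zc40) (kc xc5 yc21 zc0) (kc xc8 yc26 zc17) (kc xc19 yc5 zc7) (kc xc19 yc5 zc8) (kc xc5 yc21 zc1) (kc xc11 yc54 zc59) (kc xc15 yc36 zc9) (kc xc19 yc5 zc11) (kc xc19 yc5 zc13) (kc xc16 yc36 zc60) (kc xc19 yc5 zc16) (kc xc17 yc48 zc13) (kc xc19 yc5 zc20) (kc xc17 yc48 zc6) (kc xc19 yc5 zc26) (kc xc9 yc58 zc52) (kc xc15 yc3 zc10) (kc xc17 yc35 zc52) (kc xc11 yc30 zc23) (kc xc5 yc21 zc9) (kc xc7 yc45 zc8) (kc xc9 yc43 zc21) (kc xc5 yc21 zc10) (kc xc19 yc5 zc37)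 (kc xc19 yc5 zc36) (kc xc9 yc33 zc52) (kc xc15 yc1 zc3) (kc xc9 yc33 zc51) (kc xc8 yc29 zc61) (kc xc15 yc0 zc61) (kc xc9 yc35 zc24) (kc xc19 yc5 zc47) (kc xc19 yc5 zc50) (kc xc11 yc17 zc39) (kc xc19 yc5 zc54) (kc xc15 yc0 zc58) (kc xc15 yc0 zc55) (kc xc15 yc3 zc6) (kc xc7 yc58 zc20) (kc xc16 yc1 zc6) (kc xc17 yc44 zc13) (kc xc15 yc54 zc3) (kc xc7 yc55 zc58) (kc xc15 yc19 zc33) (kc xc7 yc58 zc6) (kc xc5 yc21 zc17) (kc xc19 yc6 zc10) (kc xc8 yc39 zc31) (kc xc8 yc33 zc61) (kc xc9 yc52 zc27) (kc xc5 yc22 zc10) (kc xc5 yc21 zc20) (kc xc18 yc30 zc42) (kc xc19 yc6 zc23) (kc xc5 yc22 zc2)) (@D3.rec (fun _ => Pt) (kc xc5 yc21 zc22) (kc xc18 yc34 zc2) (kc xc19 yc6 zc27) (kc xc19 yc6 zc31) (kc xc19 yc6 zc35) (kc xc8 yc5 zc56) (kc xc19 yc6 zc41) (kc xc12 yc4 zc32) (kc xc5 yc21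 zc33) (kc xc5 yc21 zc27) (kc xc15 yc24 zc54) (kc xc15 yc24 zc55) (kc xc12 yc47 zc46) (kc xc10 yc29 zc39) (kc xc9 yc56 zc38) (kc xc5 yc21 zc29) (kc xc9 yc3 zc59) (kc xc9 yc3 zc55) (kc xc5 yc25 zc61) (kc xc9 yc56 zc41) (kc xc9 yc53 zc16) (kc xc9 yc56 zc30) (kc xc9 yc52 zc61) (kc xc11 yc54 zc61) (kc xc9 yc56 zc33) (kc xc19 yc7 zc8) (kc xc19 yc7 zc12) (kc xc19 yc7 zc16) (kc xc7 yc57 zc34) (kc xc9 yc56 zc24) (kc xc9 yc56 zc48) (kc xc19 yc7 zc22) (kc xc5 yc21 zc36) (kc xc5 yc21 zc37) (kc xc16 yc57 zc40) (kc xc19 yc7 zc24) (kc xc18 yc30 zc41) (kc xc18 yc52 zc30) (kc xc19 yc7 zc34) (kc xc5 yc21 zc42) (kc xc5 yc21 zc48) (kc xc5 yc21 zc45) (kc xc15 yc25 zc19) (kc xc15 yc25 zc20) (kc xc19 yc7 zc42) (kc xc9 yc33 zc38) (kc xc9 yc33 zc22) (kc xc11 yc55 zc53) (kc xc13 yc2 zc27) (kc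 xc13 yc2 zc26) (kc xc19 yc7 zc38) (kc xc19 yc7 zc59) (kc xc19 yc7 zc39) (kc xc10 yc9 zc49) (kc xc10 yc9 zc57) (kc xc9 yc58 zc27) (kc xc15 yc28 zc25) (kc xc15 yc28 zc26) (kc xc19 yc8 zc17) (kc xc5 yc21 zc53) (kc xc5 yc21 zc51) (kc xc19 yc8 zc20)) (@D3.rec (fun _ => Pt) (kc xc5 yc21 zc52) (kc xc19 yc8 zc23) (kc xc19 yc8 zc25) (kc xc19 yc8 zc26) (kc xc15 yc18 zc27) (kc xc19 yc8 zc31) (kc xc15 yc18 zc23) (kc xc18 yc34 zc0) (kc xc18 yc52 zc38) (kc xc11 yc4 zc24) (kc xc19 yc8 zc42) (kc xc5 yc21 zc59) (kc xc5 yc21 zc57) (kc xc19 yc8 zc45) (kc xc5 yc21 zc58) (kc xc19 yc8 zc49) (kc xc19 yc8 zc52) (kc xc15 yc32 zc40) (kc xc19 yc8 zc58) (kc xc15 yc32 zc42) (kc xc9 yc58 zc25) (kc xc18 yc47 zc10) (kc xc19 yc9 zc6) (kc xc16 yc19 zc60) (kc xc19 yc9 zc8) (kc xc19 yc9 zc11) (kc xc17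 yc50 zc2) (kc xc19 yc9 zc18) (kc xc17 yc49 zc59) (kc xc19 yc6 zc25) (kc xc19 yc9 zc28) (kc xc17 yc35 zc46) (kc xc5 yc27 zc3) (kc xc6 yc46 zc29) (kc xc17 yc36 zc7) (kc xc5 yc22 zc4) (kc xc19 yc9 zc39) (kc xc19 yc9 zc38) (kc xc6 yc51 zc5) (kc xc6 yc51 zc17) (kc xc14 yc19 zc45) (kc xc19 yc9 zc50) (kc xc19 yc9 zc53) (kc xc19 yc9 zc56) (kc xc5 yc22 zc7) (kc xc19 yc10 zc0) (kc xc19 yc10 zc1) (kc xc5 yc27 zc19) (kc xc19 yc10 zc7) (kc xc18 yc45 zc59) (kc xc19 yc10 zc9) (kc xc19 yc6 zc21) (kc xc19 yc9 zc60) (kc xc5 yc22 zc12) (kc xc19 yc10 zc20) (kc xc19 yc10 zc24) (kc xc19 yc10 zc15) (kc xc16 yc34 zc47) (kc xc11 yc30 zc5) (kc xc9 yc43 zc20) (kc xc11 yc4 zc42) (kc xc11 yc4 zc43)) (@D3.rec (fun _ => Pt) (kc xc17 yc49 zc19) (kc xc11 yc5 zc0) (kc xc8 yc11 zc22) (kc xc19 yc10 zc35)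 (kc xc16 yc21 zc31) (kc xc5 yc23 zc1) (kc xc13 yc41 zc42) (kc xc5 yc23 zc3) (kc xc10 yc31 zc19) (kc xc9 yc0 zc4) (kc xc19 yc10 zc44) (kc xc5 yc22 zc25) (kc xc17 yc49 zc50) (kc xc17 yc49 zc57) (kc xc17 yc49 zc58) (kc xc15 yc29 zc7) (kc xc5 yc23 zc5) (kc xc5 yc22 zc27) (kc xc15 yc25 zc56) (kc xc5 yc22 zc36) (kc xc5 yc22 zc29) (kc xc19 yc10 zc48) (kc xc8 yc7 zc21) (kc xc5 yc22 zc33) (kc xc17 yc49 zc7) (kc xc17 yc49 zc8) (kc xc19 yc10 zc53) (kc xc8 yc55 zc47) (kc xc5 yc22 zc35) (kc xc16 yc49 zc16) (kc xc19 yc10 zc59) (kc xc19 yc10 zc61) (kc xc19 yc11 zc2) (kc xc13 yc9 zc45) (kc xc7 yc30 zc2) (kc xc19 yc11 zc4) (kc xc5 yc22 zc41) (kc xc5 yc22 zc38) (kc xc5 yc22 zc39) (kc xc19 yc11 zc9) (kc xc15 yc28 zc54) (kc xc15 yc28 zc55) (kc xc5 yc22 zc40) (kc xc19 yc11 zc13) (kc xc5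 yc22 zc43) (kc xc8 yc6 zc55) (kc xc10 yc37 zc15) (kc xc19 yc11 zc20) (kc xc19 yc11 zc23) (kc xc16 yc37 zc15) (kc xc16 yc37 zc17) (kc xc16 yc9 zc29) (kc xc17 yc48 zc54) (kc xc19 yc11 zc33) (kc xc5 yc22 zc50) (kc xc11 yc3 zc3) (kc xc5 yc22 zc48) (kc xc5 yc22 zc49) (kc xc16 yc43 zc46) (kc xc11 yc4 zc53) (kc xc5 yc28 zc41) (kc xc19 yc11 zc40)) (@D3.rec (fun _ => Pt) (kc xc5 yc28 zc43) (kc xc17 yc49 zc6) (kc xc10 yc24 zc9) (kc xc15 yc22 zc19) (kc xc19 yc11 zc55) (kc xc19 yc11 zc57) (kc xc19 yc11 zc61) (kc xc11 yc8 zc50) (kc xc19 yc12 zc4) (kc xc11 yc8 zc51) (kc xc17 yc50 zc51) (kc xc19 yc12 zc11) (kc xc11 yc8 zc49) (kc xc19 yc12 zc13) (kc xc19 yc12 zc16) (kc xc16 yc44 zc17) (kc xc19 yc12 zc22) (kc xc16 yc44 zc18) (kc xc5 yc22 zc60) (kc xc17 yc50 zc53) (kc xc19 yc12 zc33)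 (kc xc19 yc12 zc36) (kc xc5 yc22 zc61) (kc xc12 yc6 zc37) (kc xc19 yc12 zc41) (kc xc19 yc12 zc46) (kc xc5 yc23 zc0) (kc xc7 yc13 zc50) (kc xc19 yc12 zc48) (kc xc13 yc30 zc37) (kc xc14 yc47 zc51) (kc xc12 yc8 zc44) (kc xc16 yc24 zc27) (kc xc16 yc21 zc23) (kc xc19 yc12 zc60) (kc xc19 yc13 zc1) (kc xc14 yc37 zc61) (kc xc14 yc37 zc3) (kc xc19 yc13 zc7) (kc xc18 yc36 zc51) (kc xc19 yc13 zc12) (kc xc19 yc10 zc46) (kc xc19 yc13 zc14) (kc xc18 yc36 zc23) (kc xc19 yc13 zc20) (kc xc10 yc27 zc40) (kc xc15 yc18 zc6) (kc xc19 yc13 zc26) (kc xc19 yc13 zc28) (kc xc5 yc23 zc8) (kc xc19 yc13 zc32) (kc xc19 yc13 zc31) (kc xc19 yc13 zc35) (kc xc19 yc13 zc38) (kc xc5 yc23 zc9) (kc xc19 yc13 zc43) (kc xc15 yc1 zc16) (kc xc16 yc38 zc22) (kc xc19 yc13 zc50) (kc xc5 yc23 zc12) (kc xc19 yc13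 zc53) (kc xc19 yc13 zc54)) (@D3.rec (fun _ => Pt) (kc xc5 yc23 zc14) (kc xc5 yc23 zc15) (kc xc19 yc13 zc58) (kc xc5 yc23 zc16) (kc xc15 yc53 zc25) (kc xc16 yc11 zc7) (kc xc15 yc29 zc5) (kc xc19 yc14 zc8) (kc xc5 yc23 zc18) (kc xc15 yc27 zc53) (kc xc11 yc55 zc20) (kc xc8 yc39 zc27) (kc xc15 yc27 zc45) (kc xc15 yc27 zc57) (kc xc15 yc27 zc60) (kc xc10 yc35 zc46) (kc xc15 yc28 zc35) (kc xc15 yc28 zc36) (kc xc5 yc23 zc22) (kc xc19 yc14 zc23) (kc xc10 yc31 zc11) (kc xc5 yc23 zc25) (kc xc11 yc3 zc4) (kc xc19 yc14 zc31) (kc xc19 yc14 zc34) (kc xc5 yc23 zc42) (kc xc19 yc14 zc41) (kc xc5 yc23 zc44) (kc xc14 yc9 zc44) (kc xc8 yc10 zc3) (kc xc19 yc14 zc55) (kc xc5 yc23 zc32) (kc xc15 yc48 zc58) (kc xc15 yc48 zc59) (kc xc17 yc37 zc38) (kc xc19 yc14 zc58) (kc xc19 yc14 zc60) (kc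 xc10 yc31 zc16) (kc xc10 yc31 zc18) (kc xc9 yc5 zc60) (kc xc5 yc23 zc38) (kc xc5 yc23 zc35) (kc xc17 yc45 zc3) (kc xc19 yc15 zc4) (kc xc5 yc23 zc36) (kc xc9 yc11 zc53) (kc xc12 yc43 zc38) (kc xc15 yc49 zc44) (kc xc19 yc15 zc9) (kc xc5 yc23 zc40) (kc xc19 yc15 zc15) (kc xc10 yc52 zc20) (kc xc5 yc23 zc41) (kc xc19 yc15 zc20) (kc xc19 yc15 zc19) (kc xc19 yc15 zc23) (kc xc19 yc14 zc38) (kc xc16 yc18 zc20) (kc xc16 yc18 zc21) (kc xc5 yc23 zc43) (kc xc19 yc15 zc33) (kc xc19 yc15 zc37)) (@D3.rec (fun _ => Pt) (kc xc19 yc15 zc40) (kc xc19 yc15 zc43) (kc xc19 yc14 zc46) (kc xc19 yc15 zc45) (kc xc19 yc15 zc49) (kc xc19 yc15 zc53) (kc xc17 yc48 zc41) (kc xc16 yc44 zc39) (kc xc5 yc23 zc46) (kc xc19 yc16 zc1) (kc xc19 yc15 zc60) (kc xc11 yc9 zc31) (kc xc19 yc16 zc6) (kc xc19 yc16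 zc9) (kc xc19 yc16 zc12) (kc xc5 yc23 zc48) (kc xc19 yc16 zc18) (kc xc15 yc23 zc9) (kc xc5 yc30 zc47) (kc xc19 yc16 zc27) (kc xc5 yc23 zc51) (kc xc16 yc39 zc9) (kc xc8 yc28 zc31) (kc xc5 yc23 zc53) (kc xc5 yc23 zc54) (kc xc19 yc16 zc32) (kc xc11 yc9 zc35) (kc xc17 yc37 zc36) (kc xc19 yc16 zc42) (kc xc5 yc23 zc56) (kc xc10 yc50 zc3) (kc xc14 yc57 zc4) (kc xc8 yc30 zc46) (kc xc7 yc56 zc8) (kc xc8 yc30 zc49) (kc xc7 yc56 zc6) (kc xc19 yc16 zc59) (kc xc19 yc17 zc0) (kc xc17 yc37 zc34) (kc xc16 yc25 zc44) (kc xc8 yc41 zc27) (kc xc15 yc49 zc40) (kc xc9 yc42 zc55) (kc xc19 yc17 zc5) (kc xc16 yc22 zc43) (kc xc5 yc24 zc12) (kc xc13 yc30 zc60) (kc xc5 yc24 zc14) (kc xc10 yc31 zc49) (kc xc7 yc58 zc49) (kc xc9 yc40 zc45) (kc xc15 yc34 zc28) (kc xc5 yc24 zc6) (kc xc19 yc17 zc17)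 (kc xc15 yc25 zc33) (kc xc19 yc17 zc18) (kc xc12 yc43 zc14) (kc xc17 yc51 zc4) (kc xc19 yc17 zc20) (kc xc8 yc9 zc7) (kc xc8 yc28 zc27) (kc xc8 yc28 zc30)) (@D3.rec (fun _ => Pt) (kc xc19 yc17 zc27) (kc xc19 yc17 zc28) (kc xc19 yc17 zc31) (kc xc15 yc51 zc4) (kc xc10 yc40 zc55) (kc xc5 yc24 zc10) (kc xc12 yc51 zc0) (kc xc19 yc17 zc39) (kc xc5 yc24 zc11) (kc xc8 yc44 zc10) (kc xc19 yc17 zc7) (kc xc7 yc7 zc10) (kc xc9 yc3 zc4) (kc xc5 yc24 zc13) (kc xc19 yc17 zc45) (kc xc19 yc17 zc48) (kc xc15 yc48 zc9) (kc xc19 yc17 zc56) (kc xc19 yc17 zc12) (kc xc19 yc17 zc58) (kc xc17 yc49 zc17) (kc xc19 yc18 zc3) (kc xc10 yc2 zc27) (kc xc18 yc39 zc16) (kc xc10 yc3 zc39) (kc xc18 yc48 zc36) (kc xc9 yc55 zc47) (kc xc15 yc19 zc30) (kc xc5 yc24 zc19) (kc xc19 yc18 zc12) (kc xc5 yc37 zc13)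 (kc xc5 yc24 zc20) (kc xc8 yc44 zc20) (kc xc16 yc39 zc55) (kc xc8 yc44 zc32) (kc xc5 yc32 zc3) (kc xc5 yc24 zc27) (kc xc17 yc45 zc34) (kc xc18 yc9 zc17) (kc xc18 yc2 zc51) (kc xc14 yc22 zc16) (kc xc14 yc22 zc17) (kc xc5 yc24 zc38) (kc xc19 yc18 zc26) (kc xc18 yc2 zc43) (kc xc9 yc43 zc43) (kc xc9 yc43 zc44) (kc xc19 yc18 zc37) (kc xc5 yc24 zc35) (kc xc17 yc53 zc7) (kc xc10 yc40 zc30) (kc xc5 yc24 zc36) (kc xc10 yc41 zc19) (kc xc5 yc24 zc37) (kc xc19 yc18 zc44) (kc xc19 yc18 zc45) (kc xc18 yc5 zc1) (kc xc19 yc18 zc48) (kc xc5 yc24 zc39) (kc xc18 yc39 zc26) (kc xc19 yc18 zc56) (kc xc17 yc51 zc61)) (@D3.rec (fun _ => Pt) (kc xc16 yc46 zc41) (kc xc5 yc24 zc41) (kc xc19 yc19 zc1) (kc xc19 yc19 zc0) (kc xc15 yc20 zc16) (kc xc13 yc19 zc46) (kc xc5 yc32 zc51) (kc xc19 yc19 zc9)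 (kc xc5 yc24 zc45) (kc xc19 yc19 zc2) (kc xc19 yc19 zc13) (kc xc5 yc24 zc47) (kc xc5 yc24 zc48) (kc xc17 yc28 zc52) (kc xc15 yc27 zc49) (kc xc15 yc27 zc50) (kc xc15 yc16 zc14) (kc xc13 yc12 zc34) (kc xc5 yc24 zc50) (kc xc9 yc42 zc57) (kc xc5 yc24 zc51) (kc xc9 yc38 zc28) (kc xc19 yc19 zc35) (kc xc19 yc19 zc38) (kc xc5 yc24 zc52) (kc xc16 yc15 zc6) (kc xc5 yc24 zc53) (kc xc19 yc19 zc44) (kc xc19 yc19 zc43) (kc xc10 yc59 zc54) (kc xc10 yc39 zc50) (kc xc15 yc59 zc47) (kc xc5 yc24 zc56) (kc xc8 yc41 zc11) (kc xc17 yc44 zc2) (kc xc5 yc24 zc55) (kc xc19 yc19 zc58) (kc xc19 yc19 zc60) (kc xc19 yc20 zc1) (kc xc10 yc23 zc25) (kc xc5 yc25 zc0) (kc xc11 yc4 zc41) (kc xc19 yc20 zc7) (kc xc9 yc55 zc57) (kc xc9 yc55 zc48) (kc xc17 yc51 zc24) (kc xc5 yc25 zc1) (kc xc18 yc33 zc19)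 (kc xc19 yc20 zc10) (kc xc5 yc25 zc2) (kc xc18 yc31 zc16) (kc xc19 yc20 zc13) (kc xc5 yc25 zc3) (kc xc18 yc58 zc15) (kc xc10 yc59 zc58) (kc xc10 yc39 zc4) (kc xc15 yc18 zc39) (kc xc5 yc25 zc6) (kc xc18 yc33 zc20) (kc xc18 yc33 zc21) (kc xc5 yc25 zc5) (kc xc19 yc20 zc33)) (@D3.rec (fun _ => Pt) (kc xc19 yc20 zc34) (kc xc19 yc20 zc26) (kc xc10 yc31 zc50) (kc xc10 yc31 zc51) (kc xc5 yc25 zc10) (kc xc17 yc51 zc59) (kc xc9 yc56 zc16) (kc xc13 yc28 zc50) (kc xc17 yc50 zc56) (kc xc19 yc20 zc40) (kc xc5 yc33 zc45) (kc xc9 yc44 zc6) (kc xc19 yc20 zc45) (kc xc9 yc44 zc4) (kc xc15 yc53 zc47) (kc xc8 yc25 zc48) (kc xc19 yc20 zc51) (kc xc15 yc54 zc48) (kc xc8 yc25 zc49) (kc xc10 yc39 zc52) (kc xc15 yc54 zc47) (kc xc19 yc20 zc60) (kc xc5 yc25 zc16) (kc xc5 yc25 zc17) (kc xc19 yc21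 zc3) (kc xc5 yc25 zc15) (kc xc19 yc21 zc9) (kc xc19 yc21 zc10) (kc xc5 yc34 zc4) (kc xc19 yc21 zc14) (kc xc19 yc21 zc2) (kc xc17 yc58 zc29) (kc xc9 yc42 zc56) (kc xc18 yc41 zc52) (kc xc13 yc29 zc25) (kc xc6 yc40 zc41) (kc xc19 yc21 zc21) (kc xc5 yc25 zc21) (kc xc5 yc25 zc20) (kc xc19 yc21 zc25) (kc xc5 yc34 zc18) (kc xc7 yc36 zc7) (kc xc17 yc58 zc31) (kc xc19 yc21 zc29) (kc xc19 yc21 zc32) (kc xc5 yc25 zc22) (kc xc14 yc13 zc37) (kc xc19 yc21 zc37) (kc xc5 yc25 zc23) (kc xc19 yc21 zc43) (kc xc13 yc40 zc61) (kc xc5 yc25 zc24) (kc xc19 yc21 zc50) (kc xc19 yc21 zc53) (kc xc5 yc25 zc33) (kc xc16 yc55 zc17) (kc xc5 yc25 zc26) (kc xc5 yc25 zc27) (kc xc19 yc22 zc5) (kc xc19 yc22 zc9) (kc xc19 yc22 zc2) (kc xc19 yc22 zc3)) (@D3.rec (fun _ => Pt) (kc xc19 yc22 zc16) (kc xc19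 yc22 zc19) (kc xc11 yc57 zc31) (kc xc19 yc22 zc22) (kc xc5 yc25 zc29) (kc xc19 yc22 zc25) (kc xc10 yc26 zc52) (kc xc19 yc22 zc33) (kc xc17 yc50 zc26) (kc xc19 yc22 zc35) (kc xc5 yc25 zc31) (kc xc19 yc22 zc39) (kc xc17 yc48 zc40) (kc xc19 yc22 zc45) (kc xc17 yc49 zc45) (kc xc19 yc4 zc13) (kc xc19 yc5 zc22) (kc xc19 yc21 zc56) (kc xc19 yc22 zc51) (kc xc19 yc22 zc54) (kc xc5 yc25 zc35) (kc xc19 yc22 zc60) (kc xc18 yc16 zc23) (kc xc17 yc47 zc47) (kc xc5 yc25 zc36) (kc xc19 yc23 zc5) (kc xc10 yc27 zc7) (kc xc10 yc13 zc35) (kc xc19 yc23 zc9) (kc xc19 yc23 zc13) (kc xc19 yc23 zc14) (kc xc5 yc25 zc39) (kc xc9 yc13 zc25) (kc xc19 yc23 zc17) (kc xc19 yc23 zc19) (kc xc5 yc25 zc40) (kc xc11 yc44 zc32) (kc xc19 yc23 zc22) (kc xc11 yc35 zc1) (kc xc17 yc7 zc49) (kc xc5 yc25 zc41)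 (kc xc5 yc25 zc42) (kc xc19 yc23 zc27) (kc xc19 yc23 zc26) (kc xc19 yc23 zc25) (kc xc9 yc5 zc51) (kc xc5 yc25 zc45) (kc xc9 yc5 zc58) (kc xc5 yc25 zc44) (kc xc5 yc25 zc46) (kc xc19 yc23 zc35) (kc xc19 yc23 zc34) (kc xc5 yc25 zc49) (kc xc5 yc25 zc48) (kc xc10 yc0 zc49) (kc xc10 yc21 zc27) (kc xc5 yc25 zc51) (kc xc19 yc23 zc45) (kc xc19 yc11 zc14) (kc xc18 yc30 zc46) (kc xc10 yc19 zc57) (kc xc15 yc16 zc8)) (@D3.rec (fun _ => Pt) (kc xc6 yc45 zc42) (kc xc5 yc26 zc2) (kc xc19 yc23 zc61) (kc xc5 yc26 zc4) (kc xc8 yc26 zc20) (kc xc10 yc19 zc60) (kc xc10 yc19 zc61) (kc xc19 yc24 zc8) (kc xc5 yc25 zc60) (kc xc5 yc25 zc58) (kc xc17 yc51 zc37) (kc xc5 yc25 zc59) (kc xc19 yc24 zc13) (kc xc14 yc20 zc39) (kc xc19 yc24 zc14) (kc xc19 yc6 zc56) (kc xc15 yc29 zc49) (kc xc5 yc26 zc0)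 (kc xc11 yc33 zc10) (kc xc19 yc24 zc18) (kc xc19 yc24 zc20) (kc xc5 yc26 zc1) (kc xc11 yc33 zc11) (kc xc6 yc15 zc50) (kc xc19 yc23 zc59) (kc xc11 yc31 zc9) (kc xc11 yc31 zc8) (kc xc19 yc24 zc25) (kc xc19 yc24 zc27) (kc xc11 yc56 zc50) (kc xc10 yc25 zc21) (kc xc11 yc52 zc50) (kc xc10 yc2 zc7) (kc xc8 yc18 zc10) (kc xc10 yc0 zc59) (kc xc10 yc25 zc49) (kc xc11 yc54 zc58) (kc xc5 yc26 zc16) (kc xc19 yc24 zc48) (kc xc5 yc26 zc18) (kc xc15 yc28 zc14) (kc xc9 yc20 zc52) (kc xc5 yc26 zc13) (kc xc5 yc26 zc12) (kc xc15 yc29 zc39) (kc xc5 yc26 zc14) (kc xc9 yc26 zc0) (kc xc19 yc24 zc58) (kc xc5 yc26 zc15) (kc xc19 yc25 zc1) (kc xc7 yc37 zc29) (kc xc7 yc37 zc30) (kc xc19 yc25 zc7) (kc xc19 yc25 zc9) (kc xc10 yc45 zc52) (kc xc19 yc7 zc35) (kc xc15 yc30 zc38) (kc xc16 yc38 zc32)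 (kc xc10 yc19 zc56) (kc xc9 yc31 zc41) (kc xc5 yc26 zc32) (kc xc19 yc25 zc21)) (@D3.rec (fun _ => Pt) (kc xc5 yc26 zc34) (kc xc10 yc20 zc55) (kc xc18 yc45 zc1) (kc xc15 yc51 zc8) (kc xc15 yc51 zc9) (kc xc19 yc25 zc36) (kc xc5 yc26 zc29) (kc xc5 yc26 zc27) (kc xc19 yc25 zc40) (kc xc19 yc25 zc41) (kc xc5 yc26 zc28) (kc xc17 yc17 zc15) (kc xc5 yc26 zc30) (kc xc19 yc15 zc57) (kc xc6 yc45 zc8) (kc xc5 yc26 zc31) (kc xc9 yc31 zc15) (kc xc19 yc25 zc19) (kc xc17 yc0 zc31) (kc xc19 yc25 zc47) (kc xc19 yc25 zc49) (kc xc19 yc25 zc52) (kc xc19 yc25 zc53) (kc xc17 yc15 zc51) (kc xc8 yc11 zc58) (kc xc5 yc26 zc37) (kc xc5 yc26 zc38) (kc xc12 yc47 zc57) (kc xc19 yc25 zc54) (kc xc19 yc8 zc21) (kc xc17 yc15 zc49) (kc xc5 yc26 zc42) (kc xc9 yc30 zc33) (kc xc9 yc30 zc34) (kc xc5 yc26 zc51)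 (kc xc19 yc26 zc1) (kc xc10 yc15 zc9) (kc xc10 yc24 zc32) (kc xc6 yc46 zc57) (kc xc15 yc28 zc45) (kc xc15 yc28 zc46) (kc xc7 yc37 zc28) (kc xc5 yc26 zc48) (kc xc5 yc26 zc46) (kc xc19 yc26 zc14) (kc xc5 yc26 zc47) (kc xc10 yc44 zc55) (kc xc10 yc45 zc19) (kc xc17 yc32 zc53) (kc xc5 yc26 zc54) (kc xc19 yc26 zc22) (kc xc19 yc26 zc21) (kc xc5 yc26 zc55) (kc xc19 yc26 zc24) (kc xc13 yc2 zc23) (kc xc10 yc44 zc46) (kc xc19 yc26 zc31) (kc xc5 yc26 zc57) (kc xc19 yc26 zc37) (kc xc19 yc26 zc38) (kc xc19 yc26 zc40) (kc xc17 yc15 zc61)) (@D3.rec (fun _ => Pt) (kc xc12 yc14 zc35) (kc xc5 yc26 zc60) (kc xc15 yc30 zc16) (kc xc5 yc26 zc61) (kc xc19 yc26 zc46) (kc xc5 yc27 zc0) (kc xc9 yc50 zc38) (kc xc9 yc50 zc39) (kc xc18 yc7 zc38) (kc xc17 yc34 zc20) (kc xc19 yc9 zc31) (kc xc5 yc27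 zc4) (kc xc19 yc26 zc54) (kc xc15 yc30 zc17) (kc xc8 yc13 zc55) (kc xc5 yc27 zc5) (kc xc9 yc32 zc2) (kc xc19 yc26 zc60) (kc xc8 yc13 zc56) (kc xc10 yc44 zc47) (kc xc12 yc56 zc26) (kc xc19 yc26 zc58) (kc xc17 yc26 zc50) (kc xc5 yc27 zc8) (kc xc5 yc27 zc9) (kc xc5 yc27 zc7) (kc xc19 yc27 zc20) (kc xc19 yc9 zc42) (kc xc19 yc27 zc24) (kc xc19 yc27 zc18) (kc xc5 yc27 zc10) (kc xc19 yc27 zc25) (kc xc17 yc26 zc49) (kc xc5 yc27 zc13) (kc xc5 yc27 zc12) (kc xc5 yc27 zc14) (kc xc19 yc27 zc33) (kc xc15 yc26 zc56) (kc xc5 yc27 zc15) (kc xc5 yc27 zc16) (kc xc19 yc27 zc40) (kc xc12 yc4 zc29) (kc xc5 yc27 zc18) (kc xc19 yc27 zc45) (kc xc19 yc25 zc11) (kc xc19 yc27 zc44) (kc xc19 yc27 zc49) (kc xc19 yc27 zc51) (kc xc17 yc21 zc10) (kc xc18 yc37 zc41) (kc xc5 yc27 zc20) (kc xc18 yc38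 zc20) (kc xc10 yc43 zc54) (kc xc5 yc27 zc24) (kc xc8 yc32 zc30) (kc xc19 yc27 zc61) (kc xc18 yc2 zc52) (kc xc17 yc52 zc60) (kc xc19 yc28 zc9) (kc xc17 yc52 zc61) (kc xc15 yc58 zc51) (kc xc8 yc27 zc15)) (@D3.rec (fun _ => Pt) (kc xc8 yc27 zc16) (kc xc19 yc28 zc21) (kc xc5 yc27 zc29) (kc xc19 yc28 zc25) (kc xc19 yc28 zc24) (kc xc19 yc28 zc27) (kc xc19 yc28 zc31) (kc xc15 yc15 zc7) (kc xc19 yc28 zc36) (kc xc15 yc57 zc1) (kc xc8 yc9 zc51) (kc xc15 yc35 zc3) (kc xc5 yc27 zc33) (kc xc5 yc27 zc34) (kc xc19 yc28 zc43) (kc xc16 yc13 zc36) (kc xc8 yc26 zc22) (kc xc19 yc28 zc48) (kc xc19 yc28 zc50) (kc xc16 yc50 zc25) (kc xc19 yc28 zc53) (kc xc16 yc50 zc27) (kc xc15 yc58 zc28) (kc xc10 yc50 zc40) (kc xc10 yc50 zc41) (kc xc19 yc29 zc3) (kc xc5 yc27 zc42) (kc xc5 yc27 zc40) (kc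 xc19 yc29 zc8) (kc xc19 yc29 zc7) (kc xc5 yc27 zc41) (kc xc5 yc27 zc45) (kc xc8 yc20 zc41) (kc xc5 yc27 zc44) (kc xc11 yc5 zc14) (kc xc19 yc29 zc19) (kc xc19 yc29 zc21) (kc xc19 yc29 zc23) (kc xc19 yc29 zc13) (kc xc19 yc29 zc29) (kc xc19 yc29 zc15) (kc xc15 yc58 zc22) (kc xc15 yc24 zc61) (kc xc19 yc29 zc43) (kc xc5 yc27 zc49) (kc xc5 yc27 zc48) (kc xc19 yc29 zc48) (kc xc19 yc29 zc50) (kc xc19 yc3 zc29) (kc xc19 yc29 zc56) (kc xc19 yc3 zc30) (kc xc15 yc58 zc15) (kc xc19 yc30 zc5) (kc xc15 yc51 zc22) (kc xc19 yc30 zc8) (kc xc15 yc21 zc0) (kc xc11 yc8 zc41) (kc xc19 yc30 zc15) (kc xc11 yc8 zc42) (kc xc15 yc58 zc6) (kc xc19 yc30 zc25) (kc xc10 yc20 zc26)) (@D3.rec (fun _ => Pt) (kc xc9 yc41 zc54) (kc xc5 yc27 zc56) (kc xc19 yc30 zc30) (kc xc16 yc57 zc18) (kc xc16 yc50 zc56)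 (kc xc19 yc30 zc39) (kc xc16 yc50 zc53) (kc xc19 yc30 zc44) (kc xc5 yc29 zc11) (kc xc18 yc55 zc43) (kc xc19 yc30 zc47) (kc xc5 yc27 zc59) (kc xc19 yc30 zc52) (kc xc5 yc53 zc38) (kc xc13 yc32 zc60) (kc xc16 yc1 zc60) (kc xc16 yc1 zc61) (kc xc13 yc10 zc33) (kc xc15 yc32 zc51) (kc xc19 yc3 zc50) (kc xc7 yc32 zc38) (kc xc15 yc18 zc8) (kc xc19 yc31 zc0) (kc xc15 yc51 zc25) (kc xc5 yc28 zc2) (kc xc5 yc28 zc4) (kc xc19 yc31 zc2) (kc xc19 yc31 zc4) (kc xc5 yc28 zc6) (kc xc19 yc31 zc7) (kc xc5 yc28 zc7) (kc xc19 yc31 zc10) (kc xc19 yc31 zc8) (kc xc19 yc31 zc17) (kc xc5 yc28 zc10) (kc xc5 yc28 zc9) (kc xc15 yc29 zc46) (kc xc10 yc24 zc41) (kc xc5 yc28 zc13) (kc xc19 yc31 zc31) (kc xc18 yc17 zc42) (kc xc10 yc24 zc38) (kc xc8 yc26 zc44) (kc xc8 yc26 zc41) (kc xc16 yc44 zc52) (kc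 xc11 yc5 zc20) (kc xc5 yc28 zc28) (kc xc19 yc31 zc46) (kc xc5 yc28 zc30) (kc xc15 yc48 zc27) (kc xc16 yc50 zc1) (kc xc16 yc50 zc2) (kc xc19 yc32 zc0) (kc xc5 yc28 zc25) (kc xc19 yc32 zc2) (kc xc5 yc28 zc23) (kc xc14 yc55 zc52) (kc xc19 yc32 zc6) (kc xc5 yc28 zc24) (kc xc19 yc32 zc9) (kc xc5 yc28 zc26) (kc xc10 yc52 zc11)) (@D3.rec (fun _ => Pt) (kc xc5 yc28 zc27) (kc xc19 yc32 zc13) (kc xc19 yc31 zc45) (kc xc5 yc28 zc29) (kc xc19 yc32 zc17) (kc xc19 yc32 zc18) (kc xc19 yc32 zc20) (kc xc19 yc31 zc51) (kc xc5 yc37 zc47) (kc xc5 yc37 zc48) (kc xc12 yc40 zc49) (kc xc5 yc37 zc25) (kc xc19 yc32 zc24) (kc xc9 yc19 zc60) (kc xc19 yc32 zc25) (kc xc9 yc20 zc3) (kc xc12 yc40 zc51) (kc xc5 yc28 zc36) (kc xc19 yc32 zc27) (kc xc6 yc19 zc53) (kc xc19 yc29 zc9) (kc xc12 yc40 zc50)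 (kc xc10 yc48 zc47) (kc xc5 yc28 zc39) (kc xc10 yc49 zc16) (kc xc5 yc28 zc40) (kc xc19 yc32 zc32) (kc xc19 yc11 zc39) (kc xc5 yc28 zc42) (kc xc19 yc32 zc35) (kc xc19 yc32 zc38) (kc xc14 yc20 zc42) (kc xc19 yc27 zc34) (kc xc5 yc52 zc4) (kc xc19 yc32 zc42) (kc xc17 yc7 zc56) (kc xc16 yc57 zc55) (kc xc5 yc28 zc46) (kc xc16 yc37 zc26) (kc xc5 yc28 zc47) (kc xc19 yc32 zc48) (kc xc16 yc50 zc54) (kc xc5 yc28 zc48) (kc xc5 yc28 zc49) (kc xc19 yc32 zc54) (kc xc19 yc32 zc53) (kc xc11 yc9 zc60) (kc xc10 yc48 zc22) (kc xc19 yc33 zc0) (kc xc5 yc28 zc52) (kc xc5 yc28 zc51) (kc xc19 yc33 zc9) (kc xc19 yc33 zc13) (kc xc19 yc33 zc15) (kc xc19 yc33 zc17) (kc xc19 yc33 zc5) (kc xc5 yc37 zc23) (kc xc17 yc13 zc17) (kc xc5 yc40 zc40) (kc xc13 yc2 zc32) (kc xc15 yc44 zc8) (kc xc5 yc28 zc56))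 (@D3.rec (fun _ => Pt) (kc xc16 yc49 zc19) (kc xc5 yc28 zc57) (kc xc10 yc55 zc54) (kc xc5 yc49 zc57) (kc xc8 yc59 zc35) (kc xc5 yc28 zc61) (kc xc18 yc17 zc29) (kc xc18 yc17 zc28) (kc xc11 yc29 zc10) (kc xc11 yc28 zc61) (kc xc6 yc12 zc29) (kc xc5 yc29 zc1) (kc xc15 yc54 zc34) (kc xc8 yc9 zc45) (kc xc16 yc47 zc24) (kc xc11 yc9 zc12) (kc xc10 yc48 zc24) (kc xc11 yc5 zc35) (kc xc11 yc9 zc11) (kc xc19 yc33 zc35) (kc xc5 yc29 zc5) (kc xc5 yc29 zc4) (kc xc18 yc47 zc43) (kc xc19 yc30 zc32) (kc xc19 yc33 zc49) (kc xc19 yc33 zc40) (kc xc16 yc37 zc25) (kc xc19 yc33 zc52) (kc xc5 yc29 zc6) (kc xc16 yc48 zc13) (kc xc19 yc33 zc55) (kc xc16 yc39 zc47) (kc xc19 yc34 zc2) (kc xc5 yc29 zc9) (kc xc5 yc29 zc8) (kc xc19 yc34 zc10) (kc xc19 yc30 zc41) (kc xc19 yc34 zc12) (kc xc19 yc34 zc7)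 (kc xc5 yc29 zc10) (kc xc11 yc1 zc40) (kc xc5 yc29 zc12) (kc xc19 yc34 zc18) (kc xc11 yc21 zc36) (kc xc5 yc29 zc13) (kc xc14 yc43 zc55) (kc xc11 yc28 zc21) (kc xc12 yc10 zc6) (kc xc19 yc34 zc31) (kc xc5 yc29 zc15) (kc xc11 yc39 zc26) (kc xc5 yc29 zc16) (kc xc19 yc34 zc38) (kc xc16 yc13 zc38) (kc xc19 yc34 zc43) (kc xc18 yc12 zc51) (kc xc9 yc43 zc3) (kc xc17 yc50 zc40) (kc xc17 yc42 zc11) (kc xc10 yc24 zc30) (kc xc10 yc24 zc29) (kc xc19 yc34 zc61)) (@D3.rec (fun _ => Pt) (kc xc5 yc29 zc20) (kc xc19 yc35 zc3) (kc xc19 yc35 zc2) (kc xc10 yc38 zc30) (kc xc5 yc29 zc22) (kc xc8 yc18 zc20) (kc xc15 yc37 zc23) (kc xc19 yc35 zc11) (kc xc19 yc35 zc15) (kc xc15 yc59 zc9) (kc xc19 yc35 zc21) (kc xc7 yc38 zc37) (kc xc15 yc34 zc38) (kc xc8 yc18 zc9) (kc xc19 yc35 zc32) (kc xc5 yc29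 zc29) (kc xc5 yc29 zc28) (kc xc8 yc22 zc0) (kc xc8 yc21 zc61) (kc xc5 yc30 zc3) (kc xc5 yc29 zc32) (kc xc8 yc36 zc9) (kc xc11 yc55 zc28) (kc xc15 yc57 zc2) (kc xc8 yc20 zc42) (kc xc8 yc20 zc40) (kc xc5 yc29 zc37) (kc xc15 yc35 zc10) (kc xc15 yc35 zc11) (kc xc12 yc50 zc46) (kc xc19 yc35 zc52) (kc xc19 yc35 zc56) (kc xc9 yc44 zc51) (kc xc9 yc44 zc53) (kc xc19 yc36 zc3) (kc xc5 yc29 zc43) (kc xc5 yc29 zc40) (kc xc15 yc55 zc34) (kc xc15 yc58 zc23) (kc xc8 yc29 zc21) (kc xc10 yc46 zc23) (kc xc10 yc46 zc24) (kc xc16 yc44 zc25) (kc xc19 yc36 zc12) (kc xc19 yc36 zc15) (kc xc15 yc17 zc55) (kc xc19 yc36 zc21) (kc xc15 yc17 zc56) (kc xc8 yc13 zc30) (kc xc10 yc24 zc14) (kc xc19 yc36 zc28) (kc xc19 yc33 zc21) (kc xc17 yc49 zc14) (kc xc19 yc36 zc33) (kc xc17 yc49 zc16) (kc xc15 yc34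 zc55) (kc xc15 yc34 zc56) (kc xc5 yc29 zc52) (kc xc5 yc29 zc51) (kc xc19 yc36 zc42) (kc xc19 yc36 zc44) (kc xc19 yc36 zc47)) (@D3.rec (fun _ => Pt) (kc xc16 yc37 zc44) (kc xc19 yc36 zc53) (kc xc16 yc37 zc46) (kc xc12 yc0 zc11) (kc xc6 yc19 zc49) (kc xc19 yc36 zc55) (kc xc19 yc36 zc57) (kc xc11 yc2 zc61) (kc xc16 yc28 zc48) (kc xc11 yc3 zc1) (kc xc11 yc2 zc58) (kc xc19 yc37 zc4) (kc xc5 yc29 zc60) (kc xc19 yc37 zc9) (kc xc19 yc37 zc8) (kc xc16 yc49 zc20) (kc xc19 yc37 zc16) (kc xc16 yc49 zc18) (kc xc19 yc37 zc20) (kc xc5 yc30 zc30) (kc xc19 yc37 zc26) (kc xc19 yc37 zc29) (kc xc5 yc30 zc1) (kc xc19 yc37 zc34) (kc xc17 yc32 zc36) (kc xc17 yc31 zc54) (kc xc17 yc32 zc35) (kc xc5 yc30 zc38) (kc xc10 yc26 zc14) (kc xc19 yc35 zc40) (kc xc8 yc48 zc39) (kc xc18 yc52 zc19) (kc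 xc19 yc37 zc55) (kc xc19 yc37 zc59) (kc xc19 yc38 zc0) (kc xc15 yc40 zc49) (kc xc16 yc38 zc60) (kc xc5 yc30 zc6) (kc xc19 yc38 zc6) (kc xc18 yc52 zc22) (kc xc17 yc43 zc28) (kc xc19 yc38 zc7) (kc xc19 yc38 zc9) (kc xc19 yc38 zc12) (kc xc5 yc30 zc8) (kc xc19 yc38 zc19) (kc xc15 yc1 zc51) (kc xc15 yc18 zc53) (kc xc19 yc38 zc29) (kc xc5 yc30 zc11) (kc xc17 yc50 zc30) (kc xc19 yc38 zc35) (kc xc5 yc30 zc14) (kc xc19 yc38 zc39) (kc xc15 yc49 zc32) (kc xc5 yc30 zc15) (kc xc19 yc38 zc42) (kc xc16 yc8 zc56) (kc xc16 yc8 zc57) (kc xc5 yc30 zc58) (kc xc19 yc38 zc48) (kc xc5 yc30 zc17)) (@D3.rec (fun _ => Pt) (kc xc16 yc4 zc10) (kc xc9 yc41 zc42) (kc xc6 yc43 zc51) (kc xc6 yc33 zc0) (kc xc5 yc30 zc59) (kc xc19 yc38 zc57) (kc xc10 yc53 zc59) (kc xc16 yc50 zc55) (kc xc9 yc0 zc47)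 (kc xc16 yc47 zc58) (kc xc11 yc3 zc46) (kc xc10 yc47 zc61) (kc xc11 yc1 zc44) (kc xc11 yc3 zc44) (kc xc13 yc36 zc29) (kc xc5 yc30 zc24) (kc xc5 yc30 zc23) (kc xc19 yc39 zc23) (kc xc6 yc49 zc24) (kc xc15 yc44 zc7) (kc xc10 yc37 zc51) (kc xc5 yc30 zc25) (kc xc19 yc39 zc28) (kc xc19 yc39 zc27) (kc xc19 yc39 zc25) (kc xc13 yc36 zc30) (kc xc5 yc30 zc28) (kc xc5 yc30 zc27) (kc xc19 yc39 zc41) (kc xc19 yc37 zc17) (kc xc11 yc19 zc53) (kc xc19 yc39 zc38) (kc xc5 yc30 zc29) (kc xc19 yc39 zc49) (kc xc19 yc39 zc50) (kc xc19 yc37 zc39) (kc xc19 yc37 zc24) (kc xc11 yc1 zc36) (kc xc5 yc30 zc31) (kc xc19 yc39 zc57) (kc xc11 yc0 zc59) (kc xc5 yc30 zc32) (kc xc13 yc39 zc10) (kc xc11 yc28 zc17) (kc xc19 yc40 zc2) (kc xc5 yc30 zc34) (kc xc11 yc1 zc39) (kc xc19 yc40 zc7) (kc xc5 yc30 zc35)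 (kc xc19 yc40 zc13) (kc xc15 yc53 zc52) (kc xc19 yc40 zc14) (kc xc5 yc30 zc36) (kc xc19 yc40 zc17) (kc xc11 yc9 zc14) (kc xc11 yc9 zc15) (kc xc5 yc30 zc37) (kc xc19 yc37 zc42) (kc xc9 yc0 zc26) (kc xc5 yc30 zc40) (kc xc6 yc28 zc45) (kc xc12 yc14 zc6)) (@D3.rec (fun _ => Pt) (kc xc19 yc40 zc26) (kc xc5 yc30 zc43) (kc xc19 yc40 zc30) (kc xc12 yc14 zc24) (kc xc5 yc39 zc36) (kc xc19 yc40 zc24) (kc xc19 yc16 zc22) (kc xc19 yc40 zc37) (kc xc19 yc16 zc24) (kc xc6 yc20 zc34) (kc xc6 yc20 zc33) (kc xc5 yc30 zc48) (kc xc15 yc36 zc27) (kc xc5 yc30 zc51) (kc xc8 yc56 zc58) (kc xc19 yc40 zc46) (kc xc19 yc40 zc43) (kc xc16 yc5 zc7) (kc xc5 yc30 zc52) (kc xc18 yc38 zc21) (kc xc5 yc30 zc54) (kc xc12 yc16 zc59) (kc xc19 yc40 zc49) (kc xc19 yc40 zc50) (kc xc19 yc38 zc47) (kc xc19 yc40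 zc52) (kc xc19 yc40 zc55) (kc xc15 yc15 zc13) (kc xc19 yc35 zc12) (kc xc15 yc15 zc15) (kc xc15 yc57 zc23) (kc xc9 yc43 zc29) (kc xc15 yc51 zc0) (kc xc15 yc30 zc56) (kc xc5 yc31 zc3) (kc xc5 yc31 zc1) (kc xc19 yc41 zc8) (kc xc5 yc31 zc2) (kc xc19 yc41 zc10) (kc xc7 yc48 zc11) (kc xc10 yc32 zc6) (kc xc19 yc4 zc24) (kc xc19 yc4 zc25) (kc xc19 yc41 zc22) (kc xc9 yc42 zc31) (kc xc5 yc31 zc6) (kc xc12 yc55 zc54) (kc xc16 yc47 zc40) (kc xc19 yc41 zc30) (kc xc5 yc31 zc39) (kc xc19 yc41 zc35) (kc xc19 yc41 zc38) (kc xc5 yc31 zc9) (kc xc19 yc41 zc43) (kc xc9 yc14 zc27) (kc xc15 yc4 zc17) (kc xc12 yc7 zc21) (kc xc5 yc31 zc47) (kc xc19 yc41 zc50) (kc xc10 yc52 zc6) (kc xc19 yc41 zc57) (kc xc16 yc1 zc10)) (@D3.rec (fun _ => Pt) (kc xc16 yc1 zc36) (kc xc16 yc1 zc37) (kc xc15 yc30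 zc52) (kc xc16 yc0 zc28) (kc xc9 yc4 zc2) (kc xc10 yc54 zc18) (kc xc15 yc51 zc10) (kc xc15 yc19 zc32) (kc xc10 yc21 zc2) (kc xc15 yc51 zc42) (kc xc5 yc31 zc16) (kc xc8 yc15 zc48) (kc xc5 yc31 zc18) (kc xc19 yc42 zc10) (kc xc8 yc26 zc55) (kc xc19 yc42 zc9) (kc xc19 yc42 zc15) (kc xc5 yc31 zc21) (kc xc10 yc54 zc5) (kc xc5 yc31 zc20) (kc xc5 yc31 zc22) (kc xc19 yc42 zc19) (kc xc19 yc42 zc18) (kc xc19 yc42 zc16) (kc xc18 yc13 zc40) (kc xc5 yc31 zc25) (kc xc5 yc31 zc24) (kc xc19 yc42 zc26) (kc xc5 yc32 zc6) (kc xc11 yc4 zc30) (kc xc5 yc31 zc27) (kc xc16 yc3 zc16) (kc xc16 yc47 zc38) (kc xc5 yc31 zc28) (kc xc19 yc42 zc36) (kc xc18 yc44 zc16) (kc xc5 yc31 zc29) (kc xc19 yc42 zc41) (kc xc10 yc58 zc53) (kc xc19 yc42 zc44) (kc xc5 yc31 zc31) (kc xc19 yc42 zc50) (kc xc19 yc42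 zc53) (kc xc9 yc11 zc58) (kc xc10 yc27 zc42) (kc xc10 yc27 zc45) (kc xc5 yc31 zc32) (kc xc8 yc8 zc54) (kc xc10 yc59 zc7) (kc xc10 yc57 zc32) (kc xc10 yc59 zc6) (kc xc19 yc30 zc49) (kc xc5 yc31 zc35) (kc xc19 yc41 zc26) (kc xc9 yc18 zc16) (kc xc8 yc58 zc60) (kc xc5 yc31 zc36) (kc xc19 yc43 zc1) (kc xc19 yc30 zc50) (kc xc5 yc31 zc38) (kc xc19 yc43 zc7) (kc xc19 yc43 zc12)) (@D3.rec (fun _ => Pt) (kc xc19 yc43 zc13) (kc xc5 yc37 zc40) (kc xc19 yc41 zc33) (kc xc10 yc59 zc19) (kc xc5 yc31 zc40) (kc xc19 yc43 zc19) (kc xc19 yc43 zc23) (kc xc5 yc31 zc41) (kc xc19 yc43 zc27) (kc xc19 yc43 zc32) (kc xc11 yc5 zc36) (kc xc19 yc43 zc38) (kc xc5 yc31 zc43) (kc xc19 yc43 zc41) (kc xc17 yc33 zc41) (kc xc19 yc43 zc40) (kc xc5 yc31 zc44) (kc xc16 yc37 zc51) (kc xc5 yc31 zc45) (kc xc19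 yc43 zc49) (kc xc5 yc42 zc1) (kc xc19 yc43 zc52) (kc xc5 yc31 zc48) (kc xc14 yc7 zc4) (kc xc5 yc42 zc4) (kc xc5 yc42 zc5) (kc xc9 yc20 zc0) (kc xc5 yc37 zc49) (kc xc19 yc43 zc57) (kc xc5 yc43 zc4) (kc xc19 yc43 zc58) (kc xc5 yc31 zc55) (kc xc5 yc31 zc56) (kc xc19 yc43 zc61) (kc xc5 yc31 zc58) (kc xc12 yc20 zc52) (kc xc5 yc31 zc59) (kc xc9 yc18 zc6) (kc xc5 yc32 zc1) (kc xc19 yc44 zc3) (kc xc5 yc32 zc0) (kc xc16 yc20 zc22) (kc xc5 yc36 zc19) (kc xc19 yc44 zc8) (kc xc19 yc18 zc16) (kc xc19 yc18 zc17) (kc xc13 yc30 zc6) (kc xc5 yc36 zc18) (kc xc19 yc44 zc12) (kc xc19 yc44 zc14) (kc xc19 yc42 zc30) (kc xc19 yc44 zc15) (kc xc6 yc3 zc29) (kc xc5 yc34 zc44) (kc xc10 yc49 zc2) (kc xc19 yc44 zc20) (kc xc19 yc44 zc22) (kc xc15 yc51 zc60) (kc xc19 yc44 zc28) (kc xc15 yc52 zc0)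 (kc xc15 yc34 zc13) (kc xc9 yc43 zc53)) (@D3.rec (fun _ => Pt) (kc xc15 yc51 zc55) (kc xc19 yc44 zc44) (kc xc5 yc32 zc13) (kc xc5 yc32 zc11) (kc xc5 yc32 zc12) (kc xc19 yc44 zc50) (kc xc19 yc44 zc53) (kc xc16 yc39 zc27) (kc xc19 yc44 zc56) (kc xc19 yc44 zc59) (kc xc11 yc2 zc37) (kc xc11 yc2 zc38) (kc xc19 yc45 zc4) (kc xc19 yc45 zc7) (kc xc16 yc47 zc13) (kc xc16 yc47 zc12) (kc xc19 yc45 zc11) (kc xc5 yc32 zc40) (kc xc19 yc45 zc17) (kc xc19 yc45 zc19) (kc xc5 yc32 zc20) (kc xc13 yc37 zc3) (kc xc16 yc48 zc27) (kc xc16 yc48 zc28) (kc xc19 yc45 zc34) (kc xc5 yc32 zc47) (kc xc19 yc45 zc37) (kc xc16 yc33 zc44) (kc xc12 yc0 zc7) (kc xc19 yc45 zc41) (kc xc19 yc45 zc45) (kc xc19 yc45 zc50) (kc xc15 yc39 zc41) (kc xc16 yc40 zc18) (kc xc5 yc32 zc25) (kc xc19 yc45 zc57) (kc xc19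 yc45 zc56) (kc xc19 yc18 zc35) (kc xc5 yc32 zc26) (kc xc19 yc46 zc1) (kc xc15 yc30 zc2) (kc xc19 yc46 zc4) (kc xc19 yc46 zc6) (kc xc5 yc32 zc27) (kc xc19 yc46 zc12) (kc xc15 yc2 zc18) (kc xc15 yc20 zc21) (kc xc19 yc46 zc22) (kc xc5 yc32 zc30) (kc xc17 yc51 zc26) (kc xc19 yc46 zc30) (kc xc5 yc32 zc33) (kc xc19 yc46 zc31) (kc xc16 yc47 zc39) (kc xc8 yc58 zc44) (kc xc8 yc58 zc53) (kc xc8 yc59 zc9) (kc xc10 yc57 zc59) (kc xc19 yc37 zc31) (kc xc10 yc59 zc56) (kc xc19 yc37 zc32) (kc xc5 yc32 zc38)) (@D3.rec (fun _ => Pt) (kc xc19 yc45 zc9) (kc xc18 yc23 zc32) (kc xc5 yc32 zc39) (kc xc15 yc8 zc19) (kc xc19 yc46 zc47) (kc xc19 yc46 zc49) (kc xc10 yc58 zc13) (kc xc5 yc32 zc41) (kc xc19 yc46 zc56) (kc xc11 yc0 zc13) (kc xc5 yc32 zc42) (kc xc16 yc48 zc24) (kc xc11 yc9 zc48) (kc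 xc13 yc35 zc46) (kc xc5 yc32 zc44) (kc xc19 yc47 zc3) (kc xc19 yc47 zc6) (kc xc5 yc32 zc45) (kc xc18 yc16 zc44) (kc xc19 yc47 zc11) (kc xc11 yc0 zc43) (kc xc5 yc32 zc46) (kc xc18 yc17 zc0) (kc xc19 yc47 zc15) (kc xc18 yc38 zc23) (kc xc19 yc47 zc17) (kc xc5 yc32 zc50) (kc xc7 yc36 zc26) (kc xc14 yc41 zc46) (kc xc19 yc19 zc7) (kc xc5 yc32 zc54) (kc xc13 yc12 zc37) (kc xc10 yc54 zc49) (kc xc16 yc45 zc9) (kc xc16 yc46 zc31) (kc xc7 yc58 zc58) (kc xc16 yc41 zc19) (kc xc16 yc46 zc30) (kc xc19 yc47 zc37) (kc xc5 yc32 zc58) (kc xc5 yc32 zc57) (kc xc19 yc47 zc44) (kc xc19 yc47 zc45) (kc xc19 yc47 zc47) (kc xc12 yc55 zc46) (kc xc19 yc47 zc49) (kc xc5 yc32 zc60) (kc xc19 yc47 zc51) (kc xc8 yc27 zc59) (kc xc19 yc47 zc54) (kc xc5 yc33 zc1) (kc xc5 yc33 zc0) (kc xc19 yc48 zc0) (kc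 xc19 yc48 zc2) (kc xc19 yc48 zc5) (kc xc19 yc47 zc59) (kc xc5 yc33 zc2) (kc xc19 yc48 zc7) (kc xc19 yc48 zc6) (kc xc10 yc56 zc57) (kc xc19 yc48 zc11) (kc xc19 yc48 zc14)) (@D3.rec (fun _ => Pt) (kc xc19 yc48 zc17) (kc xc5 yc33 zc4) (kc xc19 yc48 zc23) (kc xc19 yc48 zc29) (kc xc19 yc48 zc31) (kc xc19 yc48 zc34) (kc xc5 yc33 zc13) (kc xc16 yc47 zc2) (kc xc5 yc33 zc6) (kc xc15 yc25 zc21) (kc xc5 yc33 zc7) (kc xc19 yc48 zc41) (kc xc19 yc39 zc2) (kc xc10 yc57 zc6) (kc xc12 yc23 zc10) (kc xc5 yc33 zc9) (kc xc12 yc44 zc38) (kc xc18 yc50 zc40) (kc xc19 yc48 zc47) (kc xc19 yc41 zc31) (kc xc5 yc33 zc10) (kc xc5 yc33 zc11) (kc xc17 yc19 zc5) (kc xc19 yc48 zc51) (kc xc18 yc48 zc41) (kc xc18 yc48 zc42) (kc xc5 yc33 zc12) (kc xc19 yc43 zc31) (kc xc5 yc33 zc14) (kc xc19 yc48 zc57)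 (kc xc19 yc48 zc58) (kc xc5 yc33 zc16) (kc xc19 yc25 zc44) (kc xc5 yc40 zc38) (kc xc5 yc40 zc39) (kc xc18 yc15 zc35) (kc xc5 yc42 zc6) (kc xc19 yc49 zc3) (kc xc5 yc41 zc13) (kc xc19 yc49 zc5) (kc xc19 yc49 zc7) (kc xc9 yc5 zc37) (kc xc8 yc57 zc35) (kc xc16 yc47 zc1) (kc xc9 yc57 zc20) (kc xc5 yc33 zc24) (kc xc8 yc47 zc19) (kc xc9 yc43 zc60) (kc xc9 yc44 zc14) (kc xc15 yc21 zc4) (kc xc15 yc53 zc31) (kc xc5 yc33 zc27) (kc xc19 yc49 zc17) (kc xc10 yc54 zc38) (kc xc19 yc42 zc31) (kc xc5 yc33 zc28) (kc xc19 yc49 zc23) (kc xc19 yc49 zc22) (kc xc19 yc49 zc20) (kc xc15 yc53 zc32) (kc xc5 yc33 zc31) (kc xc5 yc33 zc30)) (@D3.rec (fun _ => Pt) (kc xc16 yc25 zc3) (kc xc19 yc49 zc32) (kc xc5 yc33 zc34) (kc xc5 yc33 zc33) (kc xc19 yc49 zc39) (kc xc15 yc19 zc10) (kc xc10 yc54 zc50)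 (kc xc10 yc54 zc48) (kc xc17 yc53 zc37) (kc xc17 yc53 zc38) (kc xc13 yc36 zc22) (kc xc5 yc33 zc44) (kc xc16 yc46 zc10) (kc xc5 yc33 zc38) (kc xc19 yc49 zc54) (kc xc19 yc49 zc58) (kc xc5 yc33 zc39) (kc xc15 yc8 zc7) (kc xc17 yc53 zc35) (kc xc10 yc55 zc3) (kc xc13 yc59 zc38) (kc xc5 yc33 zc41) (kc xc19 yc45 zc13) (kc xc5 yc33 zc42) (kc xc19 yc37 zc23) (kc xc19 yc50 zc13) (kc xc5 yc33 zc43) (kc xc19 yc50 zc14) (kc xc17 yc28 zc26) (kc xc5 yc33 zc46) (kc xc18 yc48 zc55) (kc xc19 yc50 zc15) (kc xc8 yc57 zc22) (kc xc19 yc50 zc17) (kc xc5 yc33 zc49) (kc xc5 yc33 zc48) (kc xc18 yc45 zc19) (kc xc11 yc11 zc40) (kc xc5 yc33 zc50) (kc xc19 yc50 zc24) (kc xc19 yc33 zc6) (kc xc15 yc2 zc51) (kc xc5 yc33 zc58) (kc xc19 yc50 zc29) (kc xc5 yc33 zc54) (kc xc19 yc50 zc33) (kc xc5 yc33 zc53)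 (kc xc19 yc50 zc35) (kc xc19 yc33 zc7) (kc xc19 yc50 zc38) (kc xc19 yc50 zc39) (kc xc19 yc50 zc42) (kc xc19 yc50 zc32) (kc xc15 yc2 zc54) (kc xc10 yc40 zc29) (kc xc19 yc50 zc45) (kc xc10 yc56 zc59) (kc xc19 yc50 zc47) (kc xc10 yc40 zc54) (kc xc18 yc33 zc33) (kc xc18 yc33 zc23) (kc xc19 yc50 zc28))
def f_c_11 : D2 → D3 → Pt := @D2.rec (fun _ => D3 → Pt) (@D3.rec (fun _ => Pt) (kc xc15 yc2 zc52) (kc xc19 yc50 zc57) (kc xc19 yc50 zc59) (kc xc5 yc33 zc59) (kc xc19 yc51 zc0) (kc xc19 yc51 zc1) (kc xc17 yc53 zc22) (kc xc17 yc53 zc23) (kc xc19 yc51 zc9) (kc xc5 yc34 zc6) (kc xc5 yc34 zc7) (kc xc5 yc34 zc0) (kc xc19 yc51 zc14) (kc xc10 yc57 zc9) (kc xc17 yc53 zc19) (kc xc16 yc5 zc52) (kc xc19 yc21 zc58) (kc xc5 yc34 zc2) (kc xc5 yc34 zc3) (kc xc19 yc43 zc37) (kc xc18 yc48 zc46)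 (kc xc7 yc48 zc26) (kc xc19 yc51 zc24) (kc xc5 yc34 zc5) (kc xc12 yc7 zc54) (kc xc16 yc45 zc8) (kc xc5 yc34 zc9) (kc xc19 yc33 zc41) (kc xc19 yc51 zc26) (kc xc5 yc34 zc13) (kc xc19 yc51 zc32) (kc xc5 yc34 zc12) (kc xc5 yc34 zc11) (kc xc17 yc18 zc54) (kc xc16 yc46 zc36) (kc xc16 yc46 zc37) (kc xc19 yc32 zc36) (kc xc19 yc51 zc37) (kc xc19 yc51 zc40) (kc xc19 yc51 zc31) (kc xc5 yc34 zc14) (kc xc19 yc51 zc43) (kc xc19 yc51 zc44) (kc xc10 yc57 zc20) (kc xc5 yc34 zc20) (kc xc17 yc18 zc56) (kc xc19 yc21 zc57) (kc xc5 yc34 zc17) (kc xc19 yc51 zc47) (kc xc17 yc58 zc32) (kc xc17 yc19 zc9) (kc xc6 yc45 zc43) (kc xc16 yc48 zc38) (kc xc19 yc21 zc60) (kc xc5 yc34 zc22) (kc xc19 yc51 zc55) (kc xc19 yc51 zc57) (kc xc19 yc51 zc54) (kc xc13 yc54 zc31) (kc xc10 yc52 zc40) (kc xc11 yc27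 zc39) (kc xc14 yc28 zc53)) (@D3.rec (fun _ => Pt) (kc xc19 yc21 zc51) (kc xc5 yc34 zc25) (kc xc17 yc21 zc20) (kc xc19 yc21 zc54) (kc xc11 yc32 zc57) (kc xc5 yc34 zc27) (kc xc19 yc21 zc49) (kc xc5 yc49 zc10) (kc xc19 yc21 zc42) (kc xc19 yc21 zc24) (kc xc19 yc21 zc8) (kc xc5 yc34 zc29) (kc xc19 yc52 zc13) (kc xc12 yc25 zc3) (kc xc5 yc48 zc56) (kc xc19 yc52 zc26) (kc xc5 yc34 zc33) (kc xc19 yc52 zc29) (kc xc5 yc34 zc31) (kc xc13 yc2 zc11) (kc xc19 yc52 zc34) (kc xc5 yc34 zc32) (kc xc10 yc21 zc25) (kc xc19 yc52 zc39) (kc xc5 yc34 zc34) (kc xc14 yc31 zc39) (kc xc19 yc52 zc43) (kc xc19 yc52 zc45) (kc xc5 yc34 zc35) (kc xc11 yc58 zc52) (kc xc19 yc52 zc48) (kc xc7 yc36 zc23) (kc xc7 yc36 zc5) (kc xc5 yc34 zc36) (kc xc5 yc34 zc37) (kc xc17 yc56 zc28) (kc xc10 yc52 zc37) (kc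 xc16 yc51 zc34) (kc xc5 yc34 zc39) (kc xc10 yc52 zc46) (kc xc10 yc49 zc40) (kc xc19 yc52 zc61) (kc xc5 yc34 zc41) (kc xc16 yc43 zc58) (kc xc10 yc52 zc12) (kc xc5 yc45 zc21) (kc xc9 yc43 zc40) (kc xc19 yc53 zc3) (kc xc19 yc53 zc4) (kc xc5 yc34 zc45) (kc xc19 yc53 zc6) (kc xc5 yc34 zc46) (kc xc13 yc0 zc57) (kc xc16 yc56 zc20) (kc xc9 yc10 zc26) (kc xc10 yc6 zc49) (kc xc19 yc53 zc9) (kc xc19 yc53 zc10) (kc xc5 yc34 zc48) (kc xc17 yc9 zc8) (kc xc5 yc34 zc49) (kc xc10 yc18 zc20)) (@D3.rec (fun _ => Pt) (kc xc5 yc43 zc6) (kc xc5 yc34 zc51) (kc xc19 yc53 zc18) (kc xc19 yc53 zc17) (kc xc10 yc0 zc35) (kc xc11 yc29 zc23) (kc xc5 yc34 zc54) (kc xc6 yc29 zc37) (kc xc19 yc53 zc22) (kc xc10 yc0 zc32) (kc xc6 yc29 zc1) (kc xc17 yc22 zc32) (kc xc19 yc52 zc51) (kc xc6 yc6 zc56) (kc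 xc5 yc35 zc1) (kc xc19 yc53 zc29) (kc xc5 yc35 zc0) (kc xc19 yc53 zc32) (kc xc5 yc34 zc61) (kc xc19 yc53 zc27) (kc xc11 yc31 zc14) (kc xc19 yc53 zc36) (kc xc19 yc53 zc34) (kc xc5 yc35 zc8) (kc xc19 yc53 zc41) (kc xc5 yc35 zc7) (kc xc19 yc53 zc43) (kc xc5 yc35 zc6) (kc xc19 yc53 zc38) (kc xc6 yc19 zc21) (kc xc19 yc53 zc46) (kc xc15 yc16 zc0) (kc xc15 yc16 zc1) (kc xc15 yc41 zc47) (kc xc5 yc35 zc13) (kc xc19 yc46 zc39) (kc xc15 yc15 zc40) (kc xc10 yc56 zc10) (kc xc10 yc56 zc11) (kc xc8 yc39 zc44) (kc xc8 yc39 zc43) (kc xc18 yc52 zc54) (kc xc5 yc35 zc17) (kc xc19 yc54 zc9) (kc xc19 yc54 zc8) (kc xc16 yc49 zc21) (kc xc16 yc8 zc10) (kc xc8 yc27 zc38) (kc xc19 yc54 zc17) (kc xc9 yc0 zc53) (kc xc8 yc7 zc37) (kc xc7 yc18 zc11) (kc xc5 yc35 zc23) (kc xc5 yc35 zc21) (kc xc5 yc35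 zc22) (kc xc19 yc54 zc24) (kc xc16 yc42 zc50) (kc xc16 yc42 zc51) (kc xc10 yc51 zc10) (kc xc19 yc39 zc12) (kc xc19 yc36 zc11) (kc xc10 yc51 zc7)) (@D3.rec (fun _ => Pt) (kc xc15 yc6 zc37) (kc xc10 yc51 zc9) (kc xc11 yc3 zc39) (kc xc10 yc35 zc55) (kc xc10 yc37 zc22) (kc xc19 yc54 zc45) (kc xc5 yc35 zc30) (kc xc5 yc35 zc28) (kc xc16 yc16 zc24) (kc xc19 yc54 zc49) (kc xc5 yc35 zc29) (kc xc5 yc35 zc33) (kc xc5 yc35 zc32) (kc xc16 yc37 zc32) (kc xc19 yc54 zc57) (kc xc19 yc54 zc59) (kc xc19 yc31 zc41) (kc xc19 yc54 zc53) (kc xc19 yc55 zc4) (kc xc19 yc54 zc54) (kc xc11 yc3 zc31) (kc xc8 yc38 zc52) (kc xc19 yc55 zc17) (kc xc5 yc35 zc37) (kc xc5 yc35 zc36) (kc xc19 yc55 zc22) (kc xc19 yc55 zc25) (kc xc19 yc55 zc26) (kc xc5 yc35 zc38) (kc xc19 yc55 zc35) (kc xc19 yc55 zc32) (kc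 xc11 yc3 zc20) (kc xc19 yc55 zc45) (kc xc16 yc11 zc47) (kc xc19 yc30 zc35) (kc xc19 yc29 zc47) (kc xc16 yc44 zc9) (kc xc19 yc55 zc55) (kc xc16 yc44 zc11) (kc xc11 yc3 zc2) (kc xc19 yc56 zc3) (kc xc5 yc35 zc44) (kc xc16 yc10 zc43) (kc xc19 yc56 zc4) (kc xc10 yc52 zc13) (kc xc16 yc10 zc44) (kc xc10 yc52 zc10) (kc xc19 yc56 zc14) (kc xc5 yc35 zc47) (kc xc19 yc56 zc15) (kc xc12 yc5 zc34) (kc xc16 yc29 zc61) (kc xc13 yc6 zc48) (kc xc18 yc3 zc7) (kc xc9 yc51 zc51) (kc xc8 yc39 zc1) (kc xc8 yc39 zc5) (kc xc19 yc49 zc38) (kc xc5 yc35 zc52) (kc xc19 yc14 zc47) (kc xc19 yc14 zc48) (kc xc7 yc18 zc9)) (@D3.rec (fun _ => Pt) (kc xc13 yc59 zc42) (kc xc19 yc56 zc34) (kc xc8 yc38 zc4) (kc xc7 yc41 zc24) (kc xc11 yc28 zc1) (kc xc17 yc43 zc18) (kc xc13 yc50 zc43) (kc xc19 yc56 zc40)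 (kc xc5 yc35 zc55) (kc xc19 yc56 zc42) (kc xc5 yc35 zc57) (kc xc15 yc31 zc12) (kc xc10 yc30 zc55) (kc xc19 yc56 zc44) (kc xc5 yc35 zc60) (kc xc19 yc56 zc48) (kc xc19 yc56 zc47) (kc xc7 yc15 zc10) (kc xc5 yc36 zc0) (kc xc19 yc56 zc38) (kc xc18 yc18 zc40) (kc xc14 yc23 zc10) (kc xc5 yc36 zc1) (kc xc19 yc56 zc59) (kc xc10 yc34 zc9) (kc xc5 yc36 zc2) (kc xc11 yc53 zc26) (kc xc11 yc53 zc27) (kc xc16 yc27 zc21) (kc xc5 yc36 zc4) (kc xc10 yc54 zc29) (kc xc11 yc55 zc0) (kc xc11 yc4 zc38) (kc xc5 yc36 zc7) (kc xc19 yc57 zc14) (kc xc18 yc30 zc47) (kc xc11 yc4 zc37) (kc xc11 yc4 zc36) (kc xc11 yc4 zc32) (kc xc15 yc52 zc47) (kc xc5 yc36 zc21) (kc xc10 yc40 zc41) (kc xc10 yc34 zc60) (kc xc10 yc34 zc61) (kc xc12 yc10 zc33) (kc xc5 yc36 zc17) (kc xc16 yc37 zc19) (kc xc5 yc36 zc15)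 (kc xc19 yc57 zc37) (kc xc19 yc57 zc36) (kc xc15 yc37 zc30) (kc xc5 yc36 zc16) (kc xc19 yc57 zc39) (kc xc10 yc35 zc59) (kc xc11 yc9 zc50) (kc xc12 yc51 zc13) (kc xc19 yc57 zc41) (kc xc19 yc57 zc42) (kc xc9 yc19 zc57) (kc xc19 yc57 zc44) (kc xc9 yc20 zc8) (kc xc5 yc36 zc26)) (@D3.rec (fun _ => Pt) (kc xc10 yc35 zc1) (kc xc8 yc33 zc47) (kc xc5 yc36 zc29) (kc xc19 yc29 zc17) (kc xc19 yc57 zc54) (kc xc8 yc52 zc54) (kc xc8 yc7 zc46) (kc xc16 yc49 zc25) (kc xc15 yc44 zc22) (kc xc5 yc36 zc39) (kc xc19 yc58 zc3) (kc xc5 yc36 zc40) (kc xc15 yc42 zc4) (kc xc8 yc6 zc41) (kc xc10 yc46 zc34) (kc xc19 yc58 zc20) (kc xc5 yc36 zc36) (kc xc5 yc36 zc34) (kc xc16 yc42 zc59) (kc xc5 yc36 zc35) (kc xc10 yc47 zc45) (kc xc5 yc36 zc37) (kc xc11 yc5 zc38) (kc xc5 yc36 zc38) (kc xc19 yc58 zc31)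 (kc xc19 yc58 zc2) (kc xc19 yc58 zc35) (kc xc19 yc58 zc37) (kc xc19 yc58 zc40) (kc xc19 yc58 zc8) (kc xc19 yc58 zc42) (kc xc9 yc46 zc38) (kc xc5 yc36 zc42) (kc xc11 yc56 zc47) (kc xc5 yc36 zc44) (kc xc10 yc49 zc17) (kc xc10 yc55 zc10) (kc xc16 yc44 zc30) (kc xc11 yc5 zc22) (kc xc16 yc43 zc36) (kc xc16 yc44 zc29) (kc xc19 yc58 zc54) (kc xc5 yc36 zc48) (kc xc5 yc36 zc47) (kc xc19 yc59 zc2) (kc xc19 yc56 zc5) (kc xc19 yc59 zc5) (kc xc19 yc58 zc59) (kc xc8 yc58 zc34) (kc xc12 yc43 zc2) (kc xc18 yc10 zc22) (kc xc19 yc59 zc8) (kc xc5 yc36 zc52) (kc xc5 yc36 zc51) (kc xc19 yc59 zc16) (kc xc19 yc56 zc11) (kc xc19 yc59 zc18) (kc xc19 yc59 zc13) (kc xc5 yc36 zc54) (kc xc5 yc36 zc55) (kc xc5 yc36 zc56) (kc xc19 yc59 zc23)) (@D3.rec (fun _ => Pt) (kc xc8 yc53 zc20) (kc xc19 yc59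 zc27) (kc xc5 yc36 zc58) (kc xc19 yc59 zc32) (kc xc19 yc59 zc33) (kc xc19 yc59 zc30) (kc xc5 yc36 zc61) (kc xc19 yc59 zc35) (kc xc10 yc1 zc40) (kc xc9 yc44 zc34) (kc xc5 yc37 zc50) (kc xc16 yc49 zc35) (kc xc17 yc39 zc43) (kc xc5 yc37 zc10) (kc xc19 yc59 zc42) (kc xc19 yc59 zc45) (kc xc17 yc39 zc59) (kc xc16 yc21 zc52) (kc xc16 yc21 zc51) (kc xc19 yc18 zc14) (kc xc15 yc48 zc52) (kc xc5 yc37 zc15) (kc xc19 yc59 zc52) (kc xc19 yc59 zc53) (kc xc19 yc59 zc51) (kc xc11 yc24 zc42) (kc xc5 yc47 zc10) (kc xc5 yc47 zc11) (kc xc13 yc58 zc20) (kc xc5 yc37 zc22) (kc xc19 yc59 zc59) (kc xc11 yc24 zc21) (kc xc18 yc16 zc42) (kc xc18 yc23 zc51) (kc xc10 yc4 zc43) (kc xc5 yc49 zc36) (kc xc5 yc44 zc3) (kc xc5 yc37 zc30) (kc xc7 yc23 zc12) (kc xc11 yc16 zc56) (kc xc7 yc22 zc26) (kc xc7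 yc23 zc13) (kc xc12 yc56 zc17) (kc xc6 yc38 zc38) (kc xc14 yc58 zc49) (kc xc5 yc37 zc37) (kc xc14 yc58 zc50) (kc xc11 yc12 zc44) (kc xc6 yc9 zc2) (kc xc8 yc46 zc9) (kc xc20 yc0 zc8) (kc xc5 yc37 zc43) (kc xc20 yc0 zc10) (kc xc5 yc37 zc44) (kc xc6 yc12 zc11) (kc xc11 yc15 zc48) (kc xc5 yc37 zc45) (kc xc20 yc0 zc15) (kc xc20 yc0 zc17) (kc xc12 yc9 zc24) (kc xc9 yc1 zc53) (kc xc16 yc31 zc5)) (@D3.rec (fun _ => Pt) (kc xc9 yc18 zc5) (kc xc16 yc51 zc55) (kc xc12 yc8 zc21) (kc xc5 yc42 zc53) (kc xc8 yc42 zc53) (kc xc11 yc15 zc49) (kc xc16 yc52 zc14) (kc xc11 yc28 zc19) (kc xc8 yc49 zc48) (kc xc5 yc43 zc13) (kc xc5 yc43 zc39) (kc xc16 yc52 zc13) (kc xc11 yc7 zc50) (kc xc5 yc37 zc59) (kc xc12 yc7 zc61) (kc xc13 yc27 zc0) (kc xc16 yc19 zc19) (kc xc16 yc52 zc29) (kc xc16 yc53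 zc51) (kc xc16 yc51 zc40) (kc xc16 yc53 zc50) (kc xc11 yc7 zc49) (kc xc5 yc38 zc3) (kc xc20 yc0 zc51) (kc xc11 yc59 zc24) (kc xc8 yc49 zc10) (kc xc9 yc10 zc30) (kc xc9 yc10 zc29) (kc xc8 yc45 zc53) (kc xc8 yc42 zc61) (kc xc5 yc38 zc7) (kc xc9 yc4 zc27) (kc xc11 yc21 zc19) (kc xc11 yc12 zc51) (kc xc11 yc21 zc18) (kc xc11 yc7 zc47) (kc xc5 yc38 zc10) (kc xc20 yc1 zc7) (kc xc20 yc1 zc6) (kc xc5 yc38 zc11) (kc xc20 yc1 zc9) (kc xc11 yc34 zc17) (kc xc11 yc7 zc45) (kc xc5 yc38 zc13) (kc xc11 yc20 zc45) (kc xc11 yc7 zc42) (kc xc11 yc11 zc17) (kc xc11 yc7 zc35) (kc xc11 yc11 zc19) (kc xc11 yc7 zc21) (kc xc11 yc7 zc12) (kc xc5 yc38 zc16) (kc xc8 yc48 zc56) (kc xc18 yc44 zc28) (kc xc20 yc1 zc28) (kc xc5 yc38 zc18) (kc xc20 yc1 zc32) (kc xc20 yc1 zc31) (kc xc20 yc1 zc33) (kc xc5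 yc38 zc19) (kc xc19 yc29 zc14) (kc xc20 yc1 zc38)) (@D3.rec (fun _ => Pt) (kc xc8 yc42 zc60) (kc xc5 yc38 zc21) (kc xc5 yc57 zc10) (kc xc16 yc58 zc7) (kc xc5 yc38 zc23) (kc xc8 yc25 zc57) (kc xc16 yc34 zc33) (kc xc5 yc38 zc24) (kc xc17 yc3 zc31) (kc xc5 yc38 zc26) (kc xc5 yc53 zc26) (kc xc5 yc58 zc46) (kc xc5 yc38 zc39) (kc xc20 yc1 zc52) (kc xc5 yc38 zc28) (kc xc20 yc1 zc55) (kc xc20 yc1 zc57) (kc xc13 yc58 zc30) (kc xc9 yc12 zc18) (kc xc11 yc22 zc12) (kc xc5 yc38 zc36) (kc xc12 yc7 zc50) (kc xc13 yc32 zc61) (kc xc17 yc45 zc33) (kc xc7 yc40 zc13) (kc xc15 yc18 zc15) (kc xc5 yc38 zc43) (kc xc5 yc54 zc49) (kc xc10 yc5 zc33) (kc xc12 yc44 zc8) (kc xc5 yc38 zc47) (kc xc12 yc14 zc56) (kc xc20 yc2 zc6) (kc xc6 yc39 zc15) (kc xc9 yc13 zc39) (kc xc6 yc46 zc54) (kc xc20 yc2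 zc8) (kc xc20 yc2 zc9) (kc xc15 yc21 zc55) (kc xc19 yc33 zc29) (kc xc19 yc28 zc47) (kc xc10 yc46 zc56) (kc xc10 yc46 zc58) (kc xc6 yc4 zc47) (kc xc8 yc6 zc47) (kc xc20 yc2 zc26) (kc xc5 yc38 zc56) (kc xc15 yc44 zc2) (kc xc15 yc44 zc3) (kc xc10 yc36 zc12) (kc xc10 yc36 zc7) (kc xc10 yc36 zc9) (kc xc8 yc7 zc23) (kc xc8 yc7 zc24) (kc xc20 yc2 zc40) (kc xc5 yc38 zc61) (kc xc5 yc38 zc60) (kc xc16 yc16 zc59) (kc xc20 yc2 zc45) (kc xc20 yc2 zc47) (kc xc17 yc30 zc43) (kc xc6 yc38 zc2)) (@D3.rec (fun _ => Pt) (kc xc20 yc2 zc54) (kc xc8 yc36 zc43) (kc xc19 yc37 zc12) (kc xc19 yc36 zc43) (kc xc16 yc42 zc47) (kc xc16 yc42 zc49) (kc xc20 yc3 zc4) (kc xc8 yc36 zc46) (kc xc15 yc17 zc36) (kc xc5 yc39 zc4) (kc xc20 yc3 zc8) (kc xc10 yc49 zc18) (kc xc10 yc49 zc15) (kc xc5 yc39 zc31)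 (kc xc10 yc52 zc54) (kc xc10 yc52 zc55) (kc xc5 yc39 zc35) (kc xc17 yc50 zc27) (kc xc20 yc3 zc31) (kc xc8 yc36 zc55) (kc xc15 yc38 zc27) (kc xc20 yc3 zc36) (kc xc20 yc3 zc38) (kc xc19 yc54 zc28) (kc xc5 yc39 zc10) (kc xc20 yc3 zc43) (kc xc5 yc39 zc12) (kc xc18 yc41 zc54) (kc xc20 yc3 zc44) (kc xc20 yc3 zc51) (kc xc5 yc39 zc14) (kc xc10 yc38 zc11) (kc xc20 yc3 zc56) (kc xc5 yc39 zc17) (kc xc20 yc3 zc60) (kc xc10 yc38 zc26) (kc xc5 yc39 zc18) (kc xc20 yc4 zc1) (kc xc8 yc36 zc56) (kc xc8 yc36 zc57) (kc xc5 yc39 zc53) (kc xc20 yc4 zc9) (kc xc5 yc39 zc20) (kc xc13 yc2 zc1) (kc xc7 yc25 zc44) (kc xc5 yc39 zc56) (kc xc20 yc4 zc14) (kc xc8 yc43 zc43) (kc xc10 yc57 zc12) (kc xc16 yc43 zc10) (kc xc11 yc4 zc54) (kc xc16 yc44 zc44) (kc xc16 yc43 zc9) (kc xc15 yc22 zc49) (kc xc5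 yc39 zc26) (kc xc5 yc39 zc25) (kc xc8 yc45 zc54) (kc xc20 yc3 zc9) (kc xc11 yc58 zc19) (kc xc20 yc4 zc28) (kc xc10 yc48 zc46) (kc xc19 yc32 zc45)) (@D3.rec (fun _ => Pt) (kc xc5 yc39 zc27) (kc xc20 yc4 zc36) (kc xc20 yc4 zc35) (kc xc15 yc22 zc50) (kc xc5 yc39 zc30) (kc xc5 yc39 zc29) (kc xc20 yc4 zc47) (kc xc20 yc3 zc15) (kc xc14 yc4 zc13) (kc xc20 yc4 zc44) (kc xc19 yc40 zc22) (kc xc19 yc40 zc23) (kc xc20 yc4 zc54) (kc xc19 yc40 zc16) (kc xc19 yc37 zc22) (kc xc5 yc39 zc32) (kc xc20 yc4 zc59) (kc xc20 yc4 zc57) (kc xc20 yc4 zc61) (kc xc5 yc39 zc33) (kc xc19 yc45 zc28) (kc xc5 yc39 zc34) (kc xc17 yc58 zc58) (kc xc16 yc44 zc37) (kc xc6 yc47 zc31) (kc xc20 yc5 zc2) (kc xc5 yc39 zc38) (kc xc5 yc39 zc39) (kc xc5 yc39 zc40) (kc xc20 yc5 zc10) (kc xc8 yc7 zc55) (kc xc5 yc39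 zc43) (kc xc20 yc5 zc16) (kc xc5 yc39 zc42) (kc xc19 yc20 zc21) (kc xc19 yc20 zc22) (kc xc20 yc5 zc12) (kc xc20 yc5 zc25) (kc xc20 yc5 zc13) (kc xc12 yc28 zc14) (kc xc5 yc39 zc44) (kc xc11 yc22 zc56) (kc xc11 yc49 zc26) (kc xc5 yc39 zc48) (kc xc20 yc5 zc30) (kc xc5 yc39 zc50) (kc xc5 yc39 zc51) (kc xc20 yc5 zc31) (kc xc5 yc43 zc29) (kc xc5 yc39 zc58) (kc xc20 yc5 zc33) (kc xc20 yc5 zc32) (kc xc5 yc39 zc60) (kc xc12 yc56 zc16) (kc xc13 yc2 zc30) (kc xc5 yc40 zc0) (kc xc12 yc12 zc27) (kc xc11 yc20 zc50) (kc xc11 yc20 zc49) (kc xc5 yc40 zc3) (kc xc11 yc18 zc31) (kc xc11 yc18 zc30)) (@D3.rec (fun _ => Pt) (kc xc5 yc40 zc6) (kc xc13 yc53 zc5) (kc xc5 yc41 zc1) (kc xc16 yc51 zc56) (kc xc5 yc40 zc61) (kc xc5 yc40 zc59) (kc xc11 yc59 zc19) (kc xc11 yc36 zc1) (kc xc11 yc36 zc0)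 (kc xc5 yc40 zc13) (kc xc9 yc19 zc46) (kc xc5 yc40 zc11) (kc xc6 yc40 zc26) (kc xc11 yc18 zc56) (kc xc5 yc40 zc12) (kc xc13 yc58 zc38) (kc xc5 yc41 zc14) (kc xc11 yc7 zc46) (kc xc10 yc29 zc14) (kc xc11 yc7 zc48) (kc xc5 yc40 zc58) (kc xc9 yc1 zc45) (kc xc11 yc29 zc36) (kc xc17 yc2 zc34) (kc xc8 yc49 zc41) (kc xc9 yc2 zc5) (kc xc11 yc16 zc2) (kc xc5 yc43 zc21) (kc xc11 yc16 zc0) (kc xc11 yc11 zc44) (kc xc5 yc40 zc25) (kc xc20 yc6 zc10) (kc xc20 yc6 zc9) (kc xc5 yc40 zc26) (kc xc20 yc6 zc12) (kc xc20 yc6 zc11) (kc xc11 yc11 zc41) (kc xc5 yc40 zc28) (kc xc8 yc49 zc36) (kc xc20 yc6 zc21) (kc xc10 yc59 zc37) (kc xc11 yc11 zc36) (kc xc12 yc9 zc3) (kc xc9 yc19 zc34) (kc xc11 yc11 zc29) (kc xc16 yc51 zc18) (kc xc5 yc40 zc31) (kc xc18 yc42 zc25) (kc xc10 yc2 zc5) (kc xc17 yc24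 zc18) (kc xc20 yc6 zc35) (kc xc20 yc6 zc36) (kc xc5 yc40 zc34) (kc xc17 yc2 zc31) (kc xc5 yc43 zc25) (kc xc11 yc19 zc6) (kc xc5 yc40 zc37) (kc xc17 yc12 zc23) (kc xc17 yc12 zc24) (kc xc13 yc58 zc3) (kc xc6 yc16 zc58) (kc xc5 yc40 zc41)) (@D3.rec (fun _ => Pt) (kc xc15 yc5 zc27) (kc xc6 yc15 zc52) (kc xc9 yc12 zc15) (kc xc15 yc5 zc28) (kc xc17 yc34 zc4) (kc xc6 yc27 zc25) (kc xc19 yc27 zc22) (kc xc14 yc50 zc5) (kc xc5 yc40 zc47) (kc xc20 yc6 zc49) (kc xc6 yc16 zc59) (kc xc20 yc6 zc50) (kc xc11 yc17 zc9) (kc xc5 yc40 zc50) (kc xc12 yc27 zc36) (kc xc11 yc14 zc6) (kc xc5 yc40 zc51) (kc xc5 yc42 zc17) (kc xc5 yc42 zc18) (kc xc8 yc50 zc13) (kc xc17 yc16 zc18) (kc xc11 yc14 zc0) (kc xc11 yc13 zc60) (kc xc5 yc40 zc56) (kc xc17 yc34 zc5) (kc xc18 yc2 zc16) (kc xc17 yc55 zc3)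 (kc xc5 yc42 zc22) (kc xc16 yc35 zc38) (kc xc16 yc24 zc3) (kc xc19 yc49 zc37) (kc xc12 yc46 zc19) (kc xc9 yc59 zc10) (kc xc5 yc40 zc60) (kc xc20 yc7 zc6) (kc xc13 yc53 zc7) (kc xc17 yc56 zc43) (kc xc11 yc24 zc1) (kc xc18 yc42 zc14) (kc xc5 yc41 zc6) (kc xc12 yc46 zc21) (kc xc11 yc17 zc41) (kc xc12 yc4 zc23) (kc xc6 yc45 zc44) (kc xc11 yc6 zc47) (kc xc8 yc59 zc39) (kc xc5 yc41 zc9) (kc xc20 yc7 zc14) (kc xc20 yc7 zc13) (kc xc9 yc2 zc54) (kc xc20 yc7 zc17) (kc xc11 yc7 zc33) (kc xc16 yc27 zc53) (kc xc18 yc2 zc19) (kc xc20 yc7 zc21) (kc xc20 yc7 zc22) (kc xc20 yc7 zc24) (kc xc5 yc41 zc21) (kc xc20 yc7 zc27) (kc xc12 yc8 zc51) (kc xc20 yc7 zc30) (kc xc5 yc41 zc24)) (@D3.rec (fun _ => Pt) (kc xc20 yc7 zc35) (kc xc20 yc7 zc38) (kc xc20 yc7 zc34) (kc xc5 yc41 zc25) (kc xc20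 yc7 zc41) (kc xc5 yc41 zc27) (kc xc20 yc7 zc44) (kc xc5 yc41 zc28) (kc xc20 yc7 zc46) (kc xc20 yc7 zc43) (kc xc20 yc7 zc26) (kc xc5 yc41 zc30) (kc xc19 yc21 zc18) (kc xc5 yc41 zc32) (kc xc16 yc35 zc30) (kc xc16 yc52 zc1) (kc xc16 yc53 zc2) (kc xc5 yc41 zc34) (kc xc8 yc50 zc46) (kc xc8 yc50 zc50) (kc xc20 yc7 zc57) (kc xc5 yc45 zc9) (kc xc20 yc7 zc25) (kc xc5 yc41 zc36) (kc xc9 yc2 zc35) (kc xc20 yc8 zc0) (kc xc20 yc8 zc1) (kc xc5 yc41 zc39) (kc xc16 yc23 zc4) (kc xc11 yc15 zc40) (kc xc5 yc41 zc40) (kc xc11 yc13 zc38) (kc xc5 yc41 zc41) (kc xc20 yc8 zc11) (kc xc15 yc3 zc48) (kc xc8 yc41 zc33) (kc xc16 yc52 zc52) (kc xc5 yc41 zc43) (kc xc11 yc13 zc31) (kc xc18 yc46 zc8) (kc xc16 yc35 zc31) (kc xc20 yc8 zc24) (kc xc5 yc41 zc45) (kc xc6 yc15 zc32) (kc xc8 yc51 zc23) (kc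 xc20 yc8 zc15) (kc xc5 yc41 zc48) (kc xc18 yc43 zc7) (kc xc16 yc31 zc49) (kc xc5 yc41 zc49) (kc xc20 yc8 zc32) (kc xc20 yc8 zc31) (kc xc19 yc0 zc56) (kc xc5 yc41 zc51) (kc xc12 yc8 zc49) (kc xc20 yc8 zc39) (kc xc15 yc0 zc6) (kc xc20 yc8 zc42) (kc xc20 yc8 zc10) (kc xc11 yc30 zc43) (kc xc11 yc12 zc22) (kc xc20 yc8 zc8)) (@D3.rec (fun _ => Pt) (kc xc11 yc12 zc21) (kc xc20 yc8 zc2) (kc xc16 yc27 zc41) (kc xc5 yc41 zc54) (kc xc20 yc8 zc56) (kc xc20 yc8 zc60) (kc xc11 yc12 zc15) (kc xc13 yc45 zc22) (kc xc5 yc41 zc59) (kc xc19 yc26 zc55) (kc xc20 yc9 zc7) (kc xc5 yc41 zc57) (kc xc11 yc14 zc19) (kc xc15 yc0 zc3) (kc xc20 yc9 zc11) (kc xc5 yc41 zc58) (kc xc20 yc0 zc18) (kc xc20 yc9 zc14) (kc xc5 yc41 zc61) (kc xc11 yc14 zc12) (kc xc5 yc42 zc23) (kc xc20 yc9 zc21) (kc xc19 yc43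 zc51) (kc xc5 yc42 zc3) (kc xc20 yc9 zc25) (kc xc20 yc9 zc24) (kc xc20 yc9 zc27) (kc xc10 yc17 zc53) (kc xc9 yc5 zc36) (kc xc5 yc42 zc7) (kc xc20 yc9 zc30) (kc xc14 yc7 zc58) (kc xc5 yc42 zc9) (kc xc20 yc9 zc32) (kc xc13 yc27 zc44) (kc xc9 yc59 zc55) (kc xc20 yc9 zc33) (kc xc5 yc42 zc12) (kc xc20 yc9 zc35) (kc xc6 yc26 zc42) (kc xc17 yc16 zc24) (kc xc20 yc9 zc38) (kc xc20 yc9 zc39) (kc xc5 yc42 zc14) (kc xc13 yc54 zc16) (kc xc20 yc9 zc43) (kc xc6 yc23 zc46) (kc xc20 yc9 zc48) (kc xc20 yc6 zc53) (kc xc13 yc55 zc38) (kc xc17 yc15 zc48) (kc xc9 yc1 zc30) (kc xc9 yc1 zc31) (kc xc20 yc9 zc12) (kc xc12 yc52 zc57) (kc xc7 yc27 zc51) (kc xc18 yc15 zc37) (kc xc20 yc5 zc37) (kc xc8 yc58 zc26) (kc xc11 yc46 zc59) (kc xc20 yc9 zc18) (kc xc16 yc54 zc21)) (@D3.rec (fun _ => Pt) (kc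 xc19 yc43 zc50) (kc xc5 yc46 zc51) (kc xc5 yc42 zc26) (kc xc17 yc15 zc52) (kc xc10 yc12 zc5) (kc xc20 yc10 zc1) (kc xc5 yc42 zc27) (kc xc15 yc4 zc6) (kc xc15 yc4 zc15) (kc xc16 yc49 zc43) (kc xc20 yc10 zc13) (kc xc5 yc42 zc29) (kc xc13 yc53 zc10) (kc xc5 yc42 zc31) (kc xc20 yc10 zc19) (kc xc13 yc53 zc8) (kc xc20 yc10 zc3) (kc xc5 yc42 zc33) (kc xc14 yc42 zc47) (kc xc5 yc42 zc34) (kc xc16 yc52 zc51) (kc xc16 yc20 zc41) (kc xc5 yc42 zc36) (kc xc20 yc10 zc30) (kc xc20 yc10 zc31) (kc xc20 yc10 zc32) (kc xc18 yc48 zc50) (kc xc5 yc42 zc37) (kc xc20 yc10 zc35) (kc xc5 yc45 zc24) (kc xc5 yc42 zc40) (kc xc19 yc2 zc22) (kc xc5 yc42 zc41) (kc xc20 yc10 zc46) (kc xc19 yc21 zc16) (kc xc5 yc42 zc42) (kc xc20 yc10 zc54) (kc xc5 yc42 zc43) (kc xc18 yc11 zc54) (kc xc11 yc23 zc13) (kc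 xc11 yc13 zc29) (kc xc9 yc45 zc5) (kc xc16 yc52 zc2) (kc xc5 yc42 zc45) (kc xc20 yc11 zc15) (kc xc20 yc11 zc18) (kc xc18 yc32 zc49) (kc xc5 yc42 zc46) (kc xc11 yc6 zc55) (kc xc11 yc7 zc5) (kc xc11 yc24 zc7) (kc xc20 yc11 zc4) (kc xc5 yc42 zc49) (kc xc20 yc11 zc36) (kc xc20 yc11 zc35) (kc xc17 yc55 zc2) (kc xc20 yc11 zc1) (kc xc5 yc42 zc52) (kc xc20 yc11 zc46) (kc xc16 yc53 zc52) (kc xc20 yc10 zc59) (kc xc20 yc0 zc21)) (@D3.rec (fun _ => Pt) (kc xc11 yc11 zc28) (kc xc20 yc10 zc53) (kc xc11 yc11 zc26) (kc xc20 yc10 zc45) (kc xc20 yc10 zc41) (kc xc5 yc42 zc55) (kc xc18 yc32 zc54) (kc xc20 yc12 zc4) (kc xc20 yc12 zc5) (kc xc5 yc42 zc60) (kc xc5 yc42 zc57) (kc xc13 yc55 zc50) (kc xc5 yc42 zc58) (kc xc20 yc12 zc11) (kc xc12 yc4 zc26) (kc xc15 yc24 zc26) (kc xc5 yc42 zc59)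 (kc xc20 yc12 zc19) (kc xc5 yc43 zc0) (kc xc20 yc12 zc20) (kc xc5 yc48 zc40) (kc xc5 yc43 zc7) (kc xc20 yc12 zc22) (kc xc20 yc12 zc23) (kc xc5 yc43 zc2) (kc xc5 yc43 zc3) (kc xc12 yc47 zc6) (kc xc9 yc1 zc55) (kc xc20 yc12 zc17) (kc xc5 yc45 zc60) (kc xc20 yc12 zc21) (kc xc5 yc50 zc43) (kc xc16 yc53 zc36) (kc xc5 yc43 zc11) (kc xc20 yc12 zc34) (kc xc20 yc12 zc36) (kc xc20 yc12 zc37) (kc xc20 yc12 zc33) (kc xc5 yc43 zc12) (kc xc20 yc0 zc30) (kc xc5 yc47 zc2) (kc xc20 yc0 zc28) (kc xc16 yc2 zc35) (kc xc5 yc43 zc15) (kc xc7 yc20 zc15) (kc xc14 yc3 zc3) (kc xc5 yc44 zc14) (kc xc14 yc3 zc0) (kc xc5 yc43 zc22) (kc xc7 yc22 zc23) (kc xc20 yc5 zc61) (kc xc7 yc21 zc56) (kc xc13 yc52 zc42) (kc xc7 yc49 zc27) (kc xc20 yc6 zc40) (kc xc12 yc23 zc35) (kc xc11 yc6 zc39) (kc xc5 yc43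 zc27) (kc xc20 yc12 zc54) (kc xc20 yc12 zc56) (kc xc12 yc44 zc28) (kc xc5 yc47 zc14)) (@D3.rec (fun _ => Pt) (kc xc13 yc53 zc11) (kc xc5 yc47 zc7) (kc xc16 yc53 zc12) (kc xc11 yc59 zc7) (kc xc13 yc1 zc58) (kc xc11 yc52 zc4) (kc xc14 yc2 zc61) (kc xc14 yc3 zc2) (kc xc16 yc2 zc36) (kc xc11 yc12 zc12) (kc xc20 yc13 zc13) (kc xc10 yc14 zc9) (kc xc5 yc43 zc35) (kc xc5 yc43 zc36) (kc xc5 yc43 zc34) (kc xc20 yc13 zc20) (kc xc6 yc14 zc11) (kc xc16 yc29 zc35) (kc xc20 yc0 zc33) (kc xc14 yc1 zc55) (kc xc5 yc43 zc48) (kc xc20 yc0 zc29) (kc xc5 yc43 zc42) (kc xc16 yc51 zc41) (kc xc16 yc51 zc42) (kc xc20 yc13 zc36) (kc xc20 yc13 zc34) (kc xc5 yc48 zc48) (kc xc5 yc43 zc44) (kc xc5 yc43 zc46) (kc xc20 yc13 zc39) (kc xc14 yc6 zc16) (kc xc8 yc45 zc27) (kc xc7 yc50 zc7) (kc xc13 yc14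 zc19) (kc xc19 yc50 zc0) (kc xc20 yc13 zc27) (kc xc8 yc40 zc27) (kc xc20 yc13 zc29) (kc xc10 yc32 zc40) (kc xc20 yc13 zc49) (kc xc11 yc12 zc41) (kc xc20 yc13 zc53) (kc xc5 yc43 zc53) (kc xc5 yc43 zc51) (kc xc20 yc13 zc56) (kc xc20 yc13 zc55) (kc xc20 yc13 zc57) (kc xc5 yc43 zc52) (kc xc20 yc13 zc61) (kc xc5 yc43 zc54) (kc xc20 yc14 zc1) (kc xc16 yc23 zc32) (kc xc17 yc2 zc51) (kc xc9 yc45 zc19) (kc xc9 yc0 zc13) (kc xc17 yc2 zc38) (kc xc7 yc29 zc11) (kc xc5 yc43 zc60) (kc xc20 yc14 zc11) (kc xc20 yc14 zc14) (kc xc20 yc14 zc10)) (@D3.rec (fun _ => Pt) (kc xc5 yc44 zc1) (kc xc6 yc9 zc4) (kc xc7 yc25 zc60) (kc xc15 yc4 zc13) (kc xc11 yc44 zc12) (kc xc13 yc53 zc12) (kc xc18 yc23 zc26) (kc xc20 yc14 zc18) (kc xc20 yc14 zc22) (kc xc16 yc54 zc35) (kc xc20 yc14 zc28) (kc xc16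 yc54 zc36) (kc xc15 yc45 zc51) (kc xc17 yc54 zc52) (kc xc17 yc55 zc55) (kc xc15 yc4 zc25) (kc xc20 yc14 zc40) (kc xc20 yc14 zc45) (kc xc5 yc44 zc9) (kc xc20 yc14 zc47) (kc xc5 yc44 zc7) (kc xc14 yc52 zc35) (kc xc12 yc47 zc2) (kc xc9 yc46 zc6) (kc xc5 yc44 zc8) (kc xc20 yc14 zc55) (kc xc7 yc23 zc29) (kc xc7 yc25 zc24) (kc xc7 yc25 zc23) (kc xc20 yc14 zc60) (kc xc11 yc10 zc61) (kc xc11 yc10 zc60) (kc xc11 yc36 zc46) (kc xc13 yc11 zc0) (kc xc14 yc7 zc46) (kc xc14 yc3 zc4) (kc xc14 yc3 zc5) (kc xc20 yc15 zc9) (kc xc20 yc15 zc12) (kc xc13 yc20 zc33) (kc xc5 yc44 zc21) (kc xc5 yc44 zc18) (kc xc20 yc15 zc19) (kc xc20 yc15 zc18) (kc xc5 yc44 zc19) (kc xc20 yc15 zc22) (kc xc20 yc15 zc21) (kc xc20 yc15 zc23) (kc xc5 yc44 zc20) (kc xc20 yc15 zc28) (kc xc14 yc59 zc45) (kc xc14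 yc59 zc46) (kc xc17 yc2 zc35) (kc xc20 yc15 zc32) (kc xc17 yc55 zc40) (kc xc20 yc15 zc37) (kc xc11 yc11 zc13) (kc xc5 yc44 zc28) (kc xc5 yc44 zc26) (kc xc20 yc15 zc40) (kc xc5 yc44 zc27) (kc xc14 yc56 zc38)) (@D3.rec (fun _ => Pt) (kc xc20 yc15 zc42) (kc xc20 yc15 zc44) (kc xc5 yc44 zc29) (kc xc16 yc20 zc0) (kc xc20 yc15 zc47) (kc xc5 yc44 zc32) (kc xc11 yc11 zc55) (kc xc20 yc15 zc51) (kc xc20 yc15 zc49) (kc xc11 yc59 zc27) (kc xc11 yc23 zc53) (kc xc5 yc44 zc33) (kc xc11 yc23 zc60) (kc xc5 yc44 zc36) (kc xc17 yc55 zc35) (kc xc9 yc11 zc42) (kc xc13 yc58 zc37) (kc xc20 yc5 zc43) (kc xc5 yc44 zc37) (kc xc15 yc42 zc31) (kc xc19 yc39 zc0) (kc xc5 yc44 zc38) (kc xc16 yc41 zc51) (kc xc5 yc45 zc38) (kc xc16 yc6 zc13) (kc xc5 yc44 zc40) (kc xc20 yc16 zc6) (kc xc20 yc16 zc10)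 (kc xc20 yc16 zc14) (kc xc9 yc41 zc16) (kc xc5 yc45 zc42) (kc xc20 yc16 zc17) (kc xc17 yc55 zc23) (kc xc15 yc44 zc47) (kc xc20 yc16 zc5) (kc xc5 yc44 zc45) (kc xc20 yc16 zc26) (kc xc20 yc16 zc29) (kc xc20 yc16 zc25) (kc xc20 yc16 zc33) (kc xc5 yc44 zc47) (kc xc20 yc16 zc41) (kc xc20 yc16 zc38) (kc xc17 yc9 zc53) (kc xc5 yc44 zc48) (kc xc20 yc16 zc47) (kc xc17 yc29 zc61) (kc xc20 yc16 zc51) (kc xc19 yc30 zc29) (kc xc5 yc44 zc49) (kc xc20 yc16 zc58) (kc xc5 yc44 zc60) (kc xc17 yc30 zc8) (kc xc10 yc52 zc30) (kc xc20 yc16 zc61) (kc xc17 yc56 zc1) (kc xc7 yc23 zc44) (kc xc5 yc44 zc52) (kc xc20 yc17 zc4) (kc xc7 yc21 zc33) (kc xc13 yc11 zc1) (kc xc20 yc17 zc1)) (@D3.rec (fun _ => Pt) (kc xc20 yc17 zc11) (kc xc5 yc44 zc55) (kc xc13 yc11 zc7) (kc xc5 yc44 zc54) (kc xc6 yc55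 zc30) (kc xc20 yc16 zc43) (kc xc11 yc24 zc20) (kc xc20 yc17 zc14) (kc xc17 yc56 zc47) (kc xc20 yc17 zc19) (kc xc5 yc44 zc56) (kc xc14 yc31 zc1) (kc xc18 yc49 zc17) (kc xc20 yc17 zc22) (kc xc20 yc17 zc31) (kc xc5 yc44 zc59) (kc xc5 yc44 zc58) (kc xc20 yc16 zc48) (kc xc13 yc54 zc48) (kc xc20 yc17 zc33) (kc xc14 yc8 zc24) (kc xc5 yc44 zc61) (kc xc19 yc37 zc19) (kc xc20 yc17 zc40) (kc xc20 yc17 zc42) (kc xc5 yc45 zc0) (kc xc16 yc43 zc8) (kc xc20 yc17 zc45) (kc xc20 yc17 zc47) (kc xc20 yc17 zc49) (kc xc5 yc45 zc1) (kc xc20 yc1 zc41) (kc xc5 yc45 zc3) (kc xc20 yc17 zc56) (kc xc5 yc45 zc4) (kc xc11 yc29 zc32) (kc xc5 yc45 zc5) (kc xc20 yc18 zc2) (kc xc5 yc53 zc0) (kc xc5 yc53 zc1) (kc xc5 yc46 zc21) (kc xc11 yc43 zc8) (kc xc16 yc55 zc61) (kc xc20 yc18 zc13) (kc xc5 yc45 zc8)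 (kc xc11 yc7 zc44) (kc xc8 yc47 zc50) (kc xc7 yc59 zc58) (kc xc19 yc33 zc48) (kc xc11 yc10 zc58) (kc xc11 yc10 zc57) (kc xc20 yc18 zc22) (kc xc20 yc18 zc25) (kc xc5 yc45 zc11) (kc xc20 yc18 zc30) (kc xc20 yc18 zc35) (kc xc20 yc18 zc38) (kc xc20 yc18 zc43) (kc xc5 yc45 zc16) (kc xc11 yc59 zc31) (kc xc5 yc45 zc13) (kc xc20 yc18 zc47)) (@D3.rec (fun _ => Pt) (kc xc20 yc18 zc46) (kc xc9 yc2 zc60) (kc xc5 yc45 zc14) (kc xc19 yc52 zc7) (kc xc20 yc18 zc51) (kc xc5 yc45 zc15) (kc xc5 yc45 zc17) (kc xc20 yc18 zc55) (kc xc13 yc21 zc39) (kc xc12 yc25 zc19) (kc xc11 yc48 zc41) (kc xc9 yc48 zc10) (kc xc16 yc19 zc35) (kc xc5 yc45 zc23) (kc xc20 yc18 zc58) (kc xc20 yc18 zc59) (kc xc9 yc25 zc16) (kc xc20 yc10 zc37) (kc xc11 yc7 zc34) (kc xc11 yc7 zc32) (kc xc20 yc19 zc1) (kc xc20 yc19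 zc3) (kc xc5 yc45 zc26) (kc xc18 yc32 zc20) (kc xc17 yc2 zc45) (kc xc5 yc45 zc31) (kc xc20 yc5 zc38) (kc xc5 yc45 zc28) (kc xc9 yc22 zc0) (kc xc20 yc19 zc10) (kc xc5 yc45 zc29) (kc xc20 yc19 zc11) (kc xc5 yc45 zc32) (kc xc7 yc31 zc20) (kc xc20 yc19 zc13) (kc xc10 yc18 zc23) (kc xc10 yc49 zc43) (kc xc17 yc56 zc25) (kc xc16 yc4 zc59) (kc xc5 yc45 zc36) (kc xc12 yc23 zc9) (kc xc20 yc19 zc22) (kc xc20 yc19 zc24) (kc xc20 yc19 zc26) (kc xc20 yc16 zc2) (kc xc5 yc45 zc39) (kc xc9 yc10 zc38) (kc xc20 yc19 zc31) (kc xc5 yc45 zc40) (kc xc12 yc35 zc41) (kc xc9 yc58 zc47) (kc xc5 yc45 zc41) (kc xc20 yc19 zc35) (kc xc20 yc19 zc36) (kc xc5 yc45 zc43) (kc xc20 yc19 zc37) (kc xc12 yc15 zc12) (kc xc18 yc58 zc4) (kc xc20 yc19 zc38) (kc xc18 yc50 zc7) (kc xc5 yc45 zc46) (kc xc20 yc19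 zc42)) (@D3.rec (fun _ => Pt) (kc xc20 yc19 zc34) (kc xc5 yc45 zc49) (kc xc5 yc45 zc50) (kc xc12 yc9 zc48) (kc xc20 yc19 zc44) (kc xc5 yc45 zc55) (kc xc20 yc19 zc48) (kc xc5 yc45 zc53) (kc xc20 yc19 zc51) (kc xc5 yc47 zc25) (kc xc20 yc19 zc52) (kc xc20 yc19 zc50) (kc xc11 yc8 zc19) (kc xc13 yc38 zc44) (kc xc20 yc19 zc46) (kc xc20 yc19 zc32) (kc xc20 yc13 zc60) (kc xc9 yc46 zc39) (kc xc12 yc46 zc38) (kc xc20 yc19 zc60) (kc xc5 yc45 zc61) (kc xc5 yc46 zc1) (kc xc5 yc46 zc2) (kc xc20 yc20 zc3) (kc xc20 yc20 zc2) (kc xc20 yc20 zc6) (kc xc5 yc46 zc6) (kc xc20 yc20 zc11) (kc xc5 yc46 zc5) (kc xc20 yc20 zc16) (kc xc20 yc20 zc17) (kc xc5 yc46 zc4) (kc xc20 yc20 zc22) (kc xc20 yc20 zc24) (kc xc19 yc52 zc21) (kc xc20 yc20 zc26) (kc xc19 yc52 zc20) (kc xc6 yc44 zc8) (kc xc5 yc46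 zc10) (kc xc19 yc30 zc34) (kc xc20 yc20 zc29) (kc xc20 yc20 zc27) (kc xc5 yc46 zc13) (kc xc16 yc9 zc17) (kc xc12 yc18 zc31) (kc xc5 yc46 zc12) (kc xc12 yc43 zc0) (kc xc5 yc46 zc14) (kc xc15 yc56 zc37) (kc xc20 yc20 zc31) (kc xc5 yc46 zc16) (kc xc20 yc20 zc34) (kc xc5 yc46 zc18) (kc xc20 yc20 zc35) (kc xc5 yc46 zc19) (kc xc17 yc53 zc40) (kc xc11 yc10 zc41) (kc xc11 yc55 zc46) (kc xc20 yc17 zc52) (kc xc20 yc20 zc43) (kc xc14 yc25 zc24) (kc xc20 yc18 zc8)) (@D3.rec (fun _ => Pt) (kc xc8 yc2 zc5) (kc xc6 yc51 zc51) (kc xc5 yc46 zc24) (kc xc20 yc20 zc46) (kc xc5 yc46 zc27) (kc xc11 yc25 zc22) (kc xc6 yc12 zc40) (kc xc20 yc20 zc52) (kc xc20 yc20 zc50) (kc xc9 yc44 zc33) (kc xc12 yc10 zc58) (kc xc20 yc10 zc51) (kc xc5 yc46 zc30) (kc xc11 yc15 zc39) (kc xc17 yc21 zc1) (kc xc20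 yc20 zc58) (kc xc12 yc6 zc55) (kc xc6 yc36 zc8) (kc xc18 yc35 zc17) (kc xc12 yc6 zc58) (kc xc20 yc21 zc0) (kc xc18 yc33 zc4) (kc xc5 yc46 zc34) (kc xc18 yc8 zc53) (kc xc5 yc46 zc36) (kc xc20 yc21 zc6) (kc xc8 yc0 zc61) (kc xc18 yc36 zc34) (kc xc5 yc46 zc39) (kc xc20 yc21 zc11) (kc xc5 yc46 zc40) (kc xc20 yc21 zc16) (kc xc10 yc3 zc38) (kc xc5 yc46 zc41) (kc xc18 yc31 zc20) (kc xc6 yc13 zc61) (kc xc6 yc14 zc0) (kc xc20 yc20 zc55) (kc xc6 yc14 zc28) (kc xc5 yc46 zc43) (kc xc20 yc21 zc28) (kc xc5 yc46 zc44) (kc xc20 yc21 zc32) (kc xc19 yc4 zc4) (kc xc5 yc46 zc46) (kc xc20 yc21 zc35) (kc xc11 yc43 zc32) (kc xc12 yc31 zc6) (kc xc7 yc59 zc22) (kc xc9 yc45 zc18) (kc xc5 yc46 zc58) (kc xc20 yc19 zc5) (kc xc13 yc0 zc0) (kc xc11 yc19 zc10) (kc xc20 yc21 zc48) (kc xc5 yc46 zc53)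 (kc xc7 yc23 zc31) (kc xc20 yc21 zc50) (kc xc5 yc46 zc55) (kc xc20 yc5 zc39) (kc xc11 yc19 zc12) (kc xc9 yc3 zc19)) (@D3.rec (fun _ => Pt) (kc xc5 yc46 zc57) (kc xc11 yc12 zc37) (kc xc9 yc57 zc60) (kc xc12 yc26 zc3) (kc xc20 yc21 zc55) (kc xc20 yc21 zc58) (kc xc20 yc21 zc45) (kc xc11 yc15 zc50) (kc xc5 yc46 zc60) (kc xc18 yc36 zc19) (kc xc20 yc6 zc60) (kc xc5 yc46 zc61) (kc xc11 yc30 zc41) (kc xc5 yc47 zc1) (kc xc20 yc22 zc1) (kc xc18 yc50 zc36) (kc xc20 yc12 zc39) (kc xc20 yc22 zc0) (kc xc11 yc40 zc51) (kc xc11 yc40 zc36) (kc xc11 yc20 zc6) (kc xc11 yc6 zc31) (kc xc5 yc47 zc8) (kc xc12 yc2 zc14) (kc xc5 yc47 zc5) (kc xc20 yc16 zc44) (kc xc20 yc22 zc13) (kc xc11 yc34 zc56) (kc xc5 yc47 zc6) (kc xc20 yc14 zc38) (kc xc10 yc0 zc18) (kc xc19 yc59 zc58) (kc xc17 yc58 zc4)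 (kc xc20 yc13 zc1) (kc xc19 yc59 zc55) (kc xc19 yc59 zc56) (kc xc20 yc12 zc61) (kc xc15 yc27 zc24) (kc xc20 yc22 zc23) (kc xc20 yc12 zc59) (kc xc6 yc2 zc51) (kc xc5 yc47 zc17) (kc xc11 yc6 zc25) (kc xc11 yc57 zc44) (kc xc9 yc47 zc41) (kc xc5 yc47 zc21) (kc xc20 yc22 zc28) (kc xc19 yc52 zc46) (kc xc10 yc5 zc2) (kc xc5 yc47 zc30) (kc xc11 yc30 zc45) (kc xc11 yc30 zc48) (kc xc18 yc26 zc3) (kc xc5 yc47 zc27) (kc xc7 yc2 zc8) (kc xc10 yc6 zc34) (kc xc11 yc57 zc38) (kc xc11 yc29 zc9) (kc xc5 yc47 zc32) (kc xc6 yc8 zc22) (kc xc19 yc16 zc8) (kc xc11 yc40 zc52)) (@D3.rec (fun _ => Pt) (kc xc5 yc47 zc34) (kc xc11 yc45 zc42) (kc xc19 yc27 zc38) (kc xc11 yc38 zc32) (kc xc5 yc47 zc35) (kc xc11 yc45 zc41) (kc xc19 yc32 zc40) (kc xc5 yc47 zc37) (kc xc17 yc5 zc54) (kc xc5 yc47 zc40)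 (kc xc12 yc45 zc13) (kc xc7 yc12 zc8) (kc xc17 yc12 zc55) (kc xc5 yc56 zc42) (kc xc11 yc38 zc19) (kc xc10 yc6 zc18) (kc xc11 yc38 zc20) (kc xc12 yc39 zc23) (kc xc12 yc22 zc56) (kc xc11 yc29 zc61) (kc xc16 yc58 zc11) (kc xc5 yc47 zc49) (kc xc11 yc23 zc5) (kc xc19 yc23 zc7) (kc xc17 yc12 zc54) (kc xc17 yc2 zc21) (kc xc16 yc59 zc31) (kc xc9 yc15 zc24) (kc xc9 yc15 zc27) (kc xc9 yc15 zc28) (kc xc17 yc0 zc2) (kc xc17 yc3 zc8) (kc xc9 yc15 zc7) (kc xc11 yc29 zc47) (kc xc11 yc29 zc48) (kc xc17 yc5 zc25) (kc xc14 yc30 zc55) (kc xc16 yc57 zc36) (kc xc6 yc8 zc47) (kc xc20 yc23 zc8) (kc xc5 yc48 zc4) (kc xc5 yc48 zc2) (kc xc20 yc23 zc12) (kc xc20 yc23 zc11) (kc xc5 yc48 zc3) (kc xc12 yc28 zc23) (kc xc6 yc7 zc61) (kc xc17 yc0 zc0) (kc xc18 yc24 zc42) (kc xc16 yc57 zc25) (kc xc17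 yc4 zc40) (kc xc20 yc23 zc24) (kc xc5 yc48 zc11) (kc xc5 yc48 zc8) (kc xc20 yc23 zc26) (kc xc9 yc12 zc59) (kc xc20 yc23 zc28) (kc xc20 yc23 zc30) (kc xc20 yc23 zc32) (kc xc14 yc48 zc56) (kc xc13 yc9 zc59) (kc xc5 yc48 zc13)) (@D3.rec (fun _ => Pt) (kc xc9 yc12 zc54) (kc xc16 yc59 zc25) (kc xc16 yc59 zc26) (kc xc11 yc41 zc37) (kc xc9 yc43 zc17) (kc xc5 yc48 zc18) (kc xc18 yc42 zc46) (kc xc20 yc23 zc39) (kc xc18 yc36 zc52) (kc xc19 yc19 zc16) (kc xc18 yc21 zc11) (kc xc20 yc23 zc46) (kc xc11 yc46 zc13) (kc xc20 yc23 zc48) (kc xc20 yc23 zc51) (kc xc20 yc23 zc54) (kc xc5 yc48 zc24) (kc xc20 yc23 zc60) (kc xc14 yc35 zc47) (kc xc9 yc12 zc58) (kc xc5 yc48 zc26) (kc xc20 yc16 zc16) (kc xc9 yc30 zc15) (kc xc20 yc24 zc6) (kc xc5 yc48 zc29) (kc xc20 yc24 zc8) (kc xc20 yc24 zc9)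 (kc xc5 yc48 zc28) (kc xc20 yc24 zc14) (kc xc16 yc48 zc50) (kc xc9 yc57 zc50) (kc xc12 yc53 zc43) (kc xc20 yc24 zc19) (kc xc5 yc48 zc33) (kc xc5 yc48 zc32) (kc xc20 yc24 zc23) (kc xc17 yc2 zc48) (kc xc20 yc24 zc27) (kc xc5 yc48 zc34) (kc xc20 yc24 zc35) (kc xc20 yc24 zc34) (kc xc12 yc53 zc54) (kc xc5 yc48 zc35) (kc xc20 yc24 zc39) (kc xc17 yc31 zc32) (kc xc17 yc31 zc33) (kc xc20 yc24 zc44) (kc xc5 yc48 zc37) (kc xc16 yc48 zc47) (kc xc9 yc49 zc44) (kc xc16 yc57 zc35) (kc xc7 yc21 zc27) (kc xc16 yc7 zc30) (kc xc5 yc48 zc44) (kc xc9 yc17 zc55) (kc xc5 yc48 zc45) (kc xc20 yc24 zc50) (kc xc11 yc28 zc12) (kc xc20 yc24 zc49) (kc xc5 yc48 zc47) (kc xc13 yc57 zc28) (kc xc13 yc58 zc1)) (@D3.rec (fun _ => Pt) (kc xc20 yc24 zc56) (kc xc14 yc23 zc48) (kc xc20 yc13 zc38) (kc xc20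 yc25 zc0) (kc xc20 yc25 zc2) (kc xc20 yc25 zc3) (kc xc5 yc48 zc50) (kc xc5 yc48 zc51) (kc xc5 yc48 zc53) (kc xc20 yc25 zc6) (kc xc19 yc51 zc52) (kc xc9 yc11 zc13) (kc xc20 yc25 zc11) (kc xc20 yc25 zc12) (kc xc20 yc25 zc14) (kc xc19 yc52 zc23) (kc xc6 yc7 zc37) (kc xc6 yc7 zc36) (kc xc20 yc19 zc49) (kc xc12 yc38 zc17) (kc xc5 yc48 zc59) (kc xc5 yc48 zc60) (kc xc20 yc25 zc21) (kc xc20 yc25 zc22) (kc xc5 yc49 zc0) (kc xc5 yc49 zc2) (kc xc19 yc50 zc5) (kc xc5 yc49 zc4) (kc xc16 yc36 zc2) (kc xc5 yc49 zc5) (kc xc20 yc25 zc26) (kc xc5 yc49 zc9) (kc xc7 yc34 zc2) (kc xc17 yc0 zc51) (kc xc5 yc49 zc13) (kc xc18 yc47 zc47) (kc xc11 yc44 zc47) (kc xc11 yc28 zc3) (kc xc13 yc41 zc27) (kc xc11 yc0 zc60) (kc xc5 yc49 zc17) (kc xc5 yc49 zc18) (kc xc20 yc25 zc30) (kc xc17 yc1 zc61)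 (kc xc8 yc2 zc26) (kc xc5 yc49 zc23) (kc xc12 yc22 zc27) (kc xc5 yc56 zc49) (kc xc12 yc10 zc19) (kc xc5 yc49 zc29) (kc xc19 yc51 zc19) (kc xc20 yc25 zc35) (kc xc20 yc25 zc36) (kc xc17 yc10 zc60) (kc xc14 yc15 zc52) (kc xc20 yc25 zc37) (kc xc5 yc49 zc33) (kc xc17 yc29 zc47) (kc xc8 yc2 zc27) (kc xc11 yc48 zc33) (kc xc5 yc49 zc37) (kc xc7 yc37 zc45)) (@D3.rec (fun _ => Pt) (kc xc7 yc50 zc43) (kc xc11 yc4 zc4) (kc xc13 yc57 zc49) (kc xc11 yc27 zc37) (kc xc5 yc49 zc42) (kc xc12 yc44 zc51) (kc xc12 yc10 zc55) (kc xc12 yc11 zc0) (kc xc7 yc37 zc42) (kc xc5 yc49 zc44) (kc xc20 yc25 zc48) (kc xc9 yc5 zc5) (kc xc11 yc26 zc57) (kc xc15 yc7 zc52) (kc xc5 yc49 zc48) (kc xc5 yc49 zc51) (kc xc9 yc46 zc55) (kc xc10 yc52 zc43) (kc xc16 yc43 zc39) (kc xc11 yc7 zc7) (kc xc5 yc49 zc53)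 (kc xc10 yc49 zc46) (kc xc9 yc4 zc38) (kc xc19 yc36 zc30) (kc xc5 yc54 zc42) (kc xc11 yc28 zc58) (kc xc11 yc28 zc57) (kc xc12 yc53 zc14) (kc xc5 yc51 zc58) (kc xc8 yc0 zc34) (kc xc5 yc58 zc15) (kc xc5 yc50 zc6) (kc xc5 yc50 zc5) (kc xc9 yc16 zc36) (kc xc9 yc16 zc37) (kc xc17 yc12 zc16) (kc xc9 yc16 zc23) (kc xc14 yc23 zc45) (kc xc20 yc25 zc59) (kc xc9 yc6 zc10) (kc xc6 yc11 zc55) (kc xc5 yc50 zc8) (kc xc8 yc0 zc15) (kc xc9 yc11 zc10) (kc xc6 yc20 zc15) (kc xc6 yc20 zc16) (kc xc9 yc11 zc59) (kc xc10 yc6 zc58) (kc xc11 yc49 zc53) (kc xc11 yc49 zc52) (kc xc11 yc44 zc59) (kc xc5 yc50 zc27) (kc xc5 yc50 zc28) (kc xc5 yc54 zc31) (kc xc18 yc43 zc3) (kc xc9 yc13 zc33) (kc xc12 yc9 zc45) (kc xc11 yc28 zc26) (kc xc11 yc28 zc25) (kc xc20 yc26 zc12) (kc xc12 yc10 zc13) (kc xc10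 yc49 zc9)) (@D3.rec (fun _ => Pt) (kc xc20 yc26 zc15) (kc xc5 yc50 zc36) (kc xc6 yc56 zc21) (kc xc6 yc56 zc22) (kc xc6 yc55 zc25) (kc xc5 yc50 zc45) (kc xc5 yc50 zc41) (kc xc17 yc57 zc58) (kc xc18 yc38 zc17) (kc xc11 yc24 zc57) (kc xc10 yc49 zc8) (kc xc11 yc58 zc22) (kc xc7 yc25 zc14) (kc xc9 yc25 zc36) (kc xc13 yc52 zc46) (kc xc5 yc50 zc52) (kc xc20 yc26 zc23) (kc xc20 yc26 zc26) (kc xc13 yc58 zc59) (kc xc6 yc44 zc23) (kc xc6 yc44 zc24) (kc xc9 yc11 zc52) (kc xc5 yc50 zc55) (kc xc11 yc2 zc5) (kc xc11 yc51 zc6) (kc xc17 yc2 zc16) (kc xc16 yc59 zc16) (kc xc16 yc59 zc17) (kc xc5 yc50 zc59) (kc xc14 yc35 zc22) (kc xc16 yc57 zc57) (kc xc5 yc50 zc61) (kc xc11 yc20 zc35) (kc xc11 yc32 zc28) (kc xc16 yc4 zc49) (kc xc20 yc26 zc44) (kc xc11 yc11 zc22) (kc xc5 yc51 zc4) (kc xc7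 yc30 zc58) (kc xc19 yc23 zc32) (kc xc9 yc7 zc28) (kc xc9 yc19 zc58) (kc xc9 yc7 zc24) (kc xc12 yc23 zc18) (kc xc12 yc23 zc19) (kc xc11 yc38 zc45) (kc xc5 yc57 zc53) (kc xc11 yc25 zc33) (kc xc11 yc25 zc34) (kc xc20 yc3 zc45) (kc xc5 yc51 zc13) (kc xc5 yc51 zc11) (kc xc20 yc27 zc0) (kc xc5 yc51 zc12) (kc xc14 yc35 zc57) (kc xc20 yc27 zc2) (kc xc5 yc51 zc16) (kc xc6 yc10 zc59) (kc xc6 yc10 zc60) (kc xc10 yc11 zc23) (kc xc18 yc10 zc55) (kc xc11 yc25 zc19)) (@D3.rec (fun _ => Pt) (kc xc9 yc17 zc11) (kc xc20 yc27 zc15) (kc xc5 yc51 zc19) (kc xc5 yc51 zc18) (kc xc20 yc20 zc47) (kc xc10 yc34 zc58) (kc xc14 yc10 zc54) (kc xc19 yc38 zc34) (kc xc16 yc57 zc38) (kc xc20 yc27 zc22) (kc xc12 yc9 zc4) (kc xc5 yc51 zc24) (kc xc20 yc27 zc25) (kc xc7 yc3 zc3) (kc xc13 yc21 zc37) (kc xc12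 yc1 zc14) (kc xc9 yc7 zc27) (kc xc12 yc27 zc45) (kc xc11 yc34 zc61) (kc xc5 yc51 zc28) (kc xc7 yc44 zc21) (kc xc20 yc27 zc32) (kc xc12 yc14 zc58) (kc xc10 yc32 zc25) (kc xc19 yc23 zc37) (kc xc5 yc51 zc29) (kc xc7 yc0 zc29) (kc xc11 yc56 zc38) (kc xc12 yc31 zc44) (kc xc5 yc51 zc32) (kc xc6 yc33 zc23) (kc xc5 yc58 zc1) (kc xc11 yc45 zc27) (kc xc11 yc38 zc25) (kc xc11 yc38 zc26) (kc xc20 yc27 zc47) (kc xc5 yc51 zc38) (kc xc17 yc3 zc1) (kc xc5 yc51 zc37) (kc xc18 yc17 zc7) (kc xc5 yc51 zc40) (kc xc11 yc24 zc12) (kc xc6 yc7 zc31) (kc xc11 yc13 zc59) (kc xc17 yc11 zc13) (kc xc11 yc24 zc50) (kc xc12 yc9 zc53) (kc xc12 yc23 zc28) (kc xc11 yc24 zc51) (kc xc5 yc54 zc30) (kc xc15 yc0 zc15) (kc xc20 yc8 zc30) (kc xc5 yc51 zc47) (kc xc20 yc27 zc55) (kc xc20 yc27 zc54) (kc xc14 yc20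 zc3) (kc xc10 yc4 zc46) (kc xc12 yc30 zc52) (kc xc18 yc17 zc3) (kc xc18 yc17 zc2) (kc xc14 yc11 zc53) (kc xc12 yc12 zc11)) (@D3.rec (fun _ => Pt) (kc xc11 yc58 zc8) (kc xc20 yc27 zc60) (kc xc20 yc27 zc61) (kc xc11 yc58 zc9) (kc xc16 yc57 zc59) (kc xc10 yc3 zc1) (kc xc5 yc52 zc5) (kc xc5 yc52 zc3) (kc xc10 yc43 zc26) (kc xc10 yc43 zc25) (kc xc11 yc35 zc5) (kc xc6 yc51 zc2) (kc xc5 yc52 zc9) (kc xc6 yc2 zc6) (kc xc11 yc2 zc20) (kc xc6 yc8 zc39) (kc xc6 yc8 zc40) (kc xc11 yc41 zc5) (kc xc9 yc22 zc30) (kc xc14 yc15 zc53) (kc xc6 yc28 zc59) (kc xc9 yc1 zc56) (kc xc12 yc2 zc19) (kc xc9 yc8 zc48) (kc xc9 yc8 zc47) (kc xc19 yc50 zc9) (kc xc11 yc42 zc36) (kc xc11 yc42 zc34) (kc xc5 yc52 zc29) (kc xc10 yc13 zc9) (kc xc11 yc55 zc19) (kc xc20 yc28 zc10) (kc xc5 yc52 zc31) (kc xc18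 yc38 zc26) (kc xc11 yc42 zc47) (kc xc5 yc52 zc32) (kc xc6 yc3 zc38) (kc xc6 yc3 zc39) (kc xc5 yc52 zc34) (kc xc5 yc52 zc35) (kc xc20 yc28 zc15) (kc xc20 yc28 zc13) (kc xc5 yc52 zc37) (kc xc11 yc43 zc2) (kc xc17 yc58 zc56) (kc xc20 yc28 zc23) (kc xc5 yc52 zc42) (kc xc20 yc28 zc26) (kc xc5 yc52 zc43) (kc xc19 yc27 zc41) (kc xc19 yc51 zc39) (kc xc5 yc52 zc45) (kc xc20 yc28 zc29) (kc xc19 yc52 zc44) (kc xc19 yc27 zc42) (kc xc5 yc58 zc56) (kc xc20 yc28 zc33) (kc xc5 yc52 zc49) (kc xc7 yc22 zc55) (kc xc20 yc28 zc34) (kc xc20 yc28 zc35) (kc xc5 yc52 zc52)) (@D3.rec (fun _ => Pt) (kc xc5 yc52 zc53) (kc xc20 yc28 zc41) (kc xc5 yc52 zc56) (kc xc20 yc28 zc44) (kc xc5 yc52 zc57) (kc xc13 yc39 zc43) (kc xc5 yc52 zc58) (kc xc20 yc28 zc48) (kc xc5 yc52 zc59) (kc xc20 yc28 zc53) (kc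 xc16 yc55 zc58) (kc xc5 yc52 zc60) (kc xc9 yc8 zc8) (kc xc20 yc28 zc57) (kc xc20 yc28 zc58) (kc xc5 yc53 zc3) (kc xc20 yc17 zc51) (kc xc14 yc17 zc46) (kc xc9 yc8 zc7) (kc xc5 yc53 zc6) (kc xc20 yc29 zc3) (kc xc20 yc29 zc6) (kc xc20 yc29 zc8) (kc xc5 yc53 zc8) (kc xc20 yc29 zc12) (kc xc5 yc53 zc9) (kc xc5 yc53 zc10) (kc xc20 yc29 zc16) (kc xc11 yc29 zc33) (kc xc5 yc53 zc11) (kc xc13 yc43 zc9) (kc xc5 yc53 zc13) (kc xc20 yc29 zc22) (kc xc20 yc29 zc25) (kc xc20 yc29 zc26) (kc xc14 yc27 zc19) (kc xc20 yc29 zc31) (kc xc5 yc53 zc16) (kc xc20 yc29 zc33) (kc xc8 yc3 zc43) (kc xc5 yc53 zc18) (kc xc20 yc29 zc43) (kc xc15 yc39 zc36) (kc xc20 yc29 zc41) (kc xc5 yc53 zc19) (kc xc12 yc5 zc39) (kc xc16 yc58 zc42) (kc xc5 yc53 zc22) (kc xc13 yc36 zc38) (kc xc5 yc53 zc21) (kc xc20 yc29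 zc54) (kc xc20 yc29 zc57) (kc xc12 yc14 zc37) (kc xc6 yc6 zc15) (kc xc20 yc29 zc59) (kc xc15 yc29 zc12) (kc xc5 yc53 zc27) (kc xc11 yc1 zc4) (kc xc20 yc30 zc1) (kc xc5 yc53 zc29) (kc xc20 yc30 zc2) (kc xc5 yc53 zc30)) (@D3.rec (fun _ => Pt) (kc xc20 yc30 zc5) (kc xc12 yc31 zc32) (kc xc5 yc53 zc32) (kc xc20 yc30 zc11) (kc xc20 yc30 zc14) (kc xc20 yc30 zc18) (kc xc20 yc30 zc10) (kc xc20 yc28 zc46) (kc xc20 yc28 zc47) (kc xc5 yc53 zc33) (kc xc10 yc43 zc18) (kc xc10 yc43 zc22) (kc xc5 yc53 zc36) (kc xc13 yc39 zc49) (kc xc19 yc30 zc54) (kc xc5 yc53 zc39) (kc xc20 yc30 zc29) (kc xc20 yc1 zc46) (kc xc13 yc47 zc57) (kc xc5 yc53 zc41) (kc xc19 yc57 zc43) (kc xc5 yc53 zc46) (kc xc7 yc25 zc39) (kc xc5 yc53 zc43) (kc xc5 yc53 zc45) (kc xc20 yc30 zc41) (kc xc14 yc20 zc31) (kc xc20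 yc30 zc40) (kc xc11 yc34 zc53) (kc xc9 yc22 zc14) (kc xc11 yc48 zc19) (kc xc5 yc53 zc49) (kc xc20 yc14 zc21) (kc xc20 yc30 zc48) (kc xc20 yc14 zc24) (kc xc5 yc53 zc52) (kc xc19 yc52 zc4) (kc xc19 yc52 zc5) (kc xc20 yc30 zc59) (kc xc20 yc30 zc52) (kc xc13 yc51 zc5) (kc xc5 yc53 zc54) (kc xc20 yc31 zc3) (kc xc5 yc53 zc58) (kc xc20 yc31 zc5) (kc xc20 yc31 zc6) (kc xc5 yc53 zc60) (kc xc20 yc31 zc9) (kc xc5 yc53 zc61) (kc xc5 yc54 zc0) (kc xc7 yc41 zc34) (kc xc16 yc59 zc32) (kc xc20 yc31 zc14) (kc xc15 yc26 zc55) (kc xc6 yc1 zc47) (kc xc8 yc2 zc25) (kc xc9 yc7 zc59) (kc xc5 yc54 zc5) (kc xc20 yc30 zc8) (kc xc20 yc31 zc24) (kc xc20 yc31 zc20) (kc xc7 yc14 zc41)) (@D3.rec (fun _ => Pt) (kc xc20 yc30 zc22) (kc xc5 yc54 zc6) (kc xc20 yc30 zc39) (kc xc13 yc16 zc49) (kc xc6 yc15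 zc40) (kc xc6 yc15 zc39) (kc xc5 yc54 zc10) (kc xc20 yc31 zc37) (kc xc20 yc31 zc40) (kc xc20 yc31 zc44) (kc xc20 yc31 zc35) (kc xc12 yc23 zc49) (kc xc5 yc54 zc12) (kc xc17 yc21 zc2) (kc xc20 yc31 zc49) (kc xc9 yc19 zc44) (kc xc17 yc0 zc45) (kc xc11 yc7 zc41) (kc xc20 yc29 zc60) (kc xc12 yc56 zc40) (kc xc5 yc54 zc19) (kc xc20 yc31 zc58) (kc xc5 yc54 zc16) (kc xc14 yc45 zc31) (kc xc20 yc31 zc61) (kc xc17 yc55 zc38) (kc xc5 yc54 zc17) (kc xc20 yc32 zc6) (kc xc20 yc32 zc5) (kc xc20 yc32 zc11) (kc xc20 yc32 zc14) (kc xc5 yc54 zc18) (kc xc20 yc32 zc19) (kc xc20 yc32 zc21) (kc xc20 yc32 zc23) (kc xc5 yc54 zc21) (kc xc20 yc32 zc28) (kc xc5 yc54 zc23) (kc xc13 yc51 zc0) (kc xc20 yc32 zc35) (kc xc5 yc54 zc24) (kc xc20 yc32 zc38) (kc xc17 yc2 zc56) (kc xc12 yc9 zc29) (kc xc8 yc47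 zc60) (kc xc15 yc26 zc54) (kc xc5 yc54 zc26) (kc xc20 yc32 zc53) (kc xc5 yc54 zc29) (kc xc6 yc44 zc17) (kc xc5 yc54 zc37) (kc xc9 yc13 zc27) (kc xc12 yc30 zc14) (kc xc11 yc33 zc28) (kc xc17 yc19 zc19) (kc xc17 yc58 zc26) (kc xc11 yc24 zc27) (kc xc19 yc43 zc43) (kc xc7 yc59 zc28) (kc xc5 yc54 zc38) (kc xc20 yc32 zc61) (kc xc11 yc30 zc18)) (@D3.rec (fun _ => Pt) (kc xc12 yc14 zc43) (kc xc10 yc42 zc38) (kc xc11 yc45 zc38) (kc xc20 yc25 zc56) (kc xc9 yc25 zc56) (kc xc11 yc31 zc10) (kc xc9 yc15 zc26) (kc xc17 yc11 zc11) (kc xc5 yc55 zc23) (kc xc20 yc2 zc0) (kc xc20 yc33 zc6) (kc xc5 yc54 zc51) (kc xc20 yc33 zc9) (kc xc5 yc54 zc53) (kc xc6 yc43 zc10) (kc xc20 yc32 zc51) (kc xc5 yc54 zc55) (kc xc17 yc21 zc7) (kc xc20 yc33 zc21) (kc xc20 yc33 zc20) (kc xc5 yc54 zc56) (kc xc15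 yc23 zc51) (kc xc20 yc33 zc24) (kc xc5 yc54 zc60) (kc xc20 yc33 zc27) (kc xc20 yc32 zc50) (kc xc5 yc55 zc0) (kc xc12 yc7 zc33) (kc xc9 yc26 zc15) (kc xc18 yc24 zc43) (kc xc8 yc12 zc35) (kc xc8 yc12 zc34) (kc xc12 yc14 zc9) (kc xc20 yc32 zc45) (kc xc5 yc55 zc3) (kc xc20 yc33 zc45) (kc xc20 yc33 zc44) (kc xc20 yc32 zc43) (kc xc5 yc55 zc5) (kc xc12 yc33 zc34) (kc xc13 yc10 zc38) (kc xc15 yc23 zc48) (kc xc15 yc26 zc17) (kc xc12 yc1 zc17) (kc xc10 yc14 zc4) (kc xc5 yc55 zc26) (kc xc20 yc33 zc59) (kc xc20 yc32 zc32) (kc xc20 yc32 zc27) (kc xc5 yc55 zc8) (kc xc20 yc34 zc2) (kc xc20 yc31 zc2) (kc xc5 yc55 zc10) (kc xc20 yc34 zc8) (kc xc20 yc34 zc10) (kc xc14 yc1 zc43) (kc xc5 yc55 zc13) (kc xc14 yc28 zc51) (kc xc9 yc56 zc10) (kc xc16 yc13 zc56) (kc xc12 yc4 zc45) (kc xc7 yc37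 zc32)) (@D3.rec (fun _ => Pt) (kc xc11 yc11 zc8) (kc xc11 yc11 zc7) (kc xc12 yc27 zc35) (kc xc12 yc58 zc37) (kc xc12 yc11 zc10) (kc xc12 yc11 zc9) (kc xc11 yc41 zc13) (kc xc10 yc0 zc16) (kc xc5 yc55 zc24) (kc xc20 yc34 zc16) (kc xc20 yc34 zc20) (kc xc5 yc55 zc25) (kc xc17 yc17 zc10) (kc xc14 yc29 zc20) (kc xc10 yc14 zc32) (kc xc10 yc14 zc35) (kc xc5 yc55 zc29) (kc xc19 yc47 zc61) (kc xc5 yc55 zc31) (kc xc20 yc34 zc28) (kc xc7 yc28 zc35) (kc xc5 yc55 zc43) (kc xc5 yc55 zc33) (kc xc20 yc34 zc35) (kc xc20 yc34 zc34) (kc xc6 yc51 zc1) (kc xc6 yc51 zc0) (kc xc15 yc5 zc11) (kc xc12 yc1 zc29) (kc xc15 yc5 zc2) (kc xc9 yc7 zc8) (kc xc5 yc55 zc40) (kc xc19 yc59 zc36) (kc xc20 yc34 zc46) (kc xc20 yc34 zc51) (kc xc11 yc50 zc2) (kc xc5 yc55 zc41) (kc xc12 yc38 zc39) (kc xc17 yc59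 zc35) (kc xc20 yc34 zc31) (kc xc17 yc23 zc60) (kc xc6 yc51 zc10) (kc xc14 yc55 zc35) (kc xc5 yc55 zc45) (kc xc16 yc25 zc57) (kc xc5 yc55 zc48) (kc xc11 yc18 zc32) (kc xc17 yc35 zc36) (kc xc20 yc35 zc4) (kc xc20 yc14 zc17) (kc xc5 yc55 zc49) (kc xc20 yc35 zc7) (kc xc20 yc35 zc8) (kc xc20 yc35 zc10) (kc xc5 yc55 zc50) (kc xc5 yc55 zc57) (kc xc9 yc6 zc27) (kc xc20 yc22 zc44) (kc xc5 yc55 zc54) (kc xc20 yc35 zc20) (kc xc5 yc55 zc55) (kc xc20 yc35 zc23)) (@D3.rec (fun _ => Pt) (kc xc20 yc35 zc24) (kc xc20 yc35 zc25) (kc xc5 yc55 zc56) (kc xc20 yc35 zc30) (kc xc5 yc55 zc58) (kc xc5 yc55 zc59) (kc xc9 yc6 zc42) (kc xc19 yc33 zc51) (kc xc17 yc0 zc52) (kc xc20 yc35 zc43) (kc xc5 yc55 zc61) (kc xc6 yc39 zc52) (kc xc6 yc2 zc18) (kc xc8 yc49 zc34) (kc xc8 yc49 zc51) (kc xc5 yc56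 zc2) (kc xc20 yc34 zc32) (kc xc20 yc6 zc55) (kc xc5 yc56 zc3) (kc xc20 yc35 zc51) (kc xc5 yc56 zc44) (kc xc5 yc56 zc5) (kc xc20 yc34 zc42) (kc xc20 yc34 zc43) (kc xc20 yc20 zc7) (kc xc17 yc8 zc7) (kc xc14 yc27 zc18) (kc xc14 yc27 zc17) (kc xc5 yc56 zc6) (kc xc5 yc56 zc7) (kc xc6 yc25 zc4) (kc xc6 yc25 zc3) (kc xc5 yc56 zc9) (kc xc18 yc23 zc56) (kc xc20 yc5 zc53) (kc xc5 yc56 zc11) (kc xc6 yc35 zc57) (kc xc20 yc36 zc6) (kc xc20 yc36 zc10) (kc xc18 yc39 zc48) (kc xc7 yc22 zc40) (kc xc9 yc17 zc45) (kc xc8 yc46 zc2) (kc xc11 yc41 zc10) (kc xc7 yc56 zc61) (kc xc6 yc34 zc24) (kc xc16 yc29 zc49) (kc xc16 yc29 zc50) (kc xc20 yc36 zc20) (kc xc5 yc56 zc20) (kc xc20 yc5 zc42) (kc xc5 yc56 zc17) (kc xc20 yc36 zc28) (kc xc20 yc36 zc25) (kc xc5 yc56 zc18) (kc xc20 yc36 zc31) (kc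 xc20 yc36 zc30) (kc xc20 yc36 zc37) (kc xc20 yc36 zc39) (kc xc5 yc56 zc19) (kc xc20 yc36 zc44) (kc xc17 yc6 zc59)) (@D3.rec (fun _ => Pt) (kc xc16 yc31 zc21) (kc xc5 yc56 zc22) (kc xc20 yc36 zc52) (kc xc17 yc6 zc58) (kc xc5 yc56 zc24) (kc xc20 yc36 zc58) (kc xc20 yc36 zc60) (kc xc5 yc56 zc25) (kc xc15 yc26 zc31) (kc xc20 yc37 zc4) (kc xc13 yc41 zc29) (kc xc5 yc56 zc26) (kc xc20 yc37 zc11) (kc xc16 yc29 zc53) (kc xc16 yc29 zc54) (kc xc9 yc47 zc14) (kc xc17 yc6 zc54) (kc xc5 yc56 zc28) (kc xc20 yc37 zc25) (kc xc11 yc25 zc14) (kc xc11 yc25 zc16) (kc xc20 yc37 zc30) (kc xc5 yc56 zc33) (kc xc5 yc56 zc32) (kc xc20 yc37 zc34) (kc xc11 yc30 zc33) (kc xc11 yc30 zc34) (kc xc17 yc58 zc3) (kc xc12 yc12 zc48) (kc xc17 yc58 zc1) (kc xc9 yc12 zc4) (kc xc20 yc26 zc46) (kc xc11 yc25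 zc3) (kc xc20 yc37 zc45) (kc xc5 yc56 zc40) (kc xc5 yc56 zc38) (kc xc16 yc57 zc42) (kc xc20 yc37 zc47) (kc xc17 yc19 zc3) (kc xc5 yc56 zc39) (kc xc20 yc37 zc50) (kc xc6 yc34 zc60) (kc xc15 yc53 zc2) (kc xc20 yc22 zc43) (kc xc20 yc37 zc55) (kc xc11 yc29 zc45) (kc xc17 yc3 zc52) (kc xc5 yc56 zc46) (kc xc20 yc38 zc2) (kc xc20 yc38 zc0) (kc xc7 yc2 zc23) (kc xc5 yc56 zc47) (kc xc20 yc38 zc9) (kc xc20 yc38 zc8) (kc xc9 yc43 zc6) (kc xc12 yc30 zc1) (kc xc18 yc25 zc8) (kc xc20 yc38 zc14) (kc xc5 yc56 zc52) (kc xc20 yc38 zc18) (kc xc5 yc56 zc51) (kc xc20 yc38 zc3)) (@D3.rec (fun _ => Pt) (kc xc20 yc38 zc24) (kc xc20 yc38 zc17) (kc xc19 yc47 zc8) (kc xc17 yc58 zc46) (kc xc17 yc58 zc44) (kc xc20 yc38 zc27) (kc xc5 yc56 zc56) (kc xc5 yc56 zc55) (kc xc20 yc38 zc33) (kc xc5 yc56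 zc57) (kc xc20 yc38 zc36) (kc xc17 yc58 zc53) (kc xc5 yc56 zc58) (kc xc20 yc38 zc40) (kc xc20 yc38 zc42) (kc xc19 yc22 zc30) (kc xc5 yc56 zc60) (kc xc20 yc38 zc48) (kc xc20 yc38 zc49) (kc xc5 yc57 zc0) (kc xc20 yc38 zc52) (kc xc20 yc12 zc38) (kc xc16 yc31 zc23) (kc xc5 yc57 zc2) (kc xc20 yc39 zc2) (kc xc20 yc39 zc1) (kc xc10 yc49 zc50) (kc xc15 yc4 zc45) (kc xc17 yc8 zc29) (kc xc20 yc37 zc18) (kc xc5 yc57 zc5) (kc xc5 yc57 zc4) (kc xc17 yc58 zc59) (kc xc20 yc37 zc15) (kc xc5 yc57 zc8) (kc xc17 yc4 zc7) (kc xc5 yc57 zc9) (kc xc20 yc37 zc10) (kc xc20 yc39 zc24) (kc xc20 yc1 zc42) (kc xc20 yc37 zc3) (kc xc20 yc36 zc57) (kc xc20 yc36 zc51) (kc xc5 yc57 zc11) (kc xc20 yc39 zc39) (kc xc20 yc35 zc14) (kc xc5 yc57 zc13) (kc xc20 yc39 zc47) (kc xc20 yc39 zc48) (kc xc20 yc39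 zc49) (kc xc5 yc57 zc15) (kc xc20 yc39 zc51) (kc xc20 yc39 zc54) (kc xc5 yc57 zc17) (kc xc20 yc39 zc58) (kc xc14 yc52 zc48) (kc xc20 yc39 zc57) (kc xc12 yc29 zc41) (kc xc6 yc27 zc21) (kc xc5 yc57 zc22) (kc xc20 yc40 zc2) (kc xc5 yc57 zc21)) (@D3.rec (fun _ => Pt) (kc xc20 yc40 zc3) (kc xc5 yc57 zc23) (kc xc5 yc57 zc24) (kc xc5 yc57 zc26) (kc xc13 yc43 zc45) (kc xc20 yc40 zc8) (kc xc20 yc40 zc9) (kc xc17 yc2 zc19) (kc xc11 yc43 zc9) (kc xc9 yc47 zc39) (kc xc9 yc48 zc58) (kc xc12 yc43 zc1) (kc xc20 yc21 zc61) (kc xc17 yc58 zc5) (kc xc9 yc22 zc28) (kc xc9 yc22 zc29) (kc xc5 yc58 zc18) (kc xc5 yc58 zc20) (kc xc11 yc41 zc25) (kc xc12 yc38 zc37) (kc xc18 yc21 zc4) (kc xc14 yc2 zc41) (kc xc10 yc7 zc10) (kc xc12 yc31 zc39) (kc xc10 yc4 zc52) (kc xc17 yc12 zc45) (kc xc6 yc8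 zc7) (kc xc5 yc58 zc23) (kc xc9 yc7 zc12) (kc xc5 yc58 zc22) (kc xc5 yc57 zc52) (kc xc9 yc16 zc14) (kc xc6 yc28 zc52) (kc xc13 yc20 zc45) (kc xc6 yc25 zc15) (kc xc5 yc57 zc56) (kc xc11 yc24 zc19) (kc xc20 yc22 zc12) (kc xc7 yc37 zc44) (kc xc6 yc33 zc22) (kc xc12 yc16 zc15) (kc xc12 yc49 zc22) (kc xc18 yc23 zc25) (kc xc14 yc4 zc58) (kc xc18 yc26 zc22) (kc xc6 yc31 zc36) (kc xc12 yc29 zc29) (kc xc9 yc48 zc30) (kc xc9 yc11 zc29) (kc xc12 yc12 zc36) (kc xc17 yc3 zc0) (kc xc11 yc24 zc18) (kc xc11 yc24 zc61) (kc xc17 yc57 zc55) (kc xc20 yc40 zc41) (kc xc5 yc58 zc10) (kc xc5 yc58 zc7) (kc xc12 yc50 zc7) (kc xc5 yc58 zc8) (kc xc12 yc49 zc2) (kc xc6 yc8 zc1) (kc xc10 yc7 zc15)) (@D3.rec (fun _ => Pt) (kc xc12 yc31 zc27) (kc xc17 yc22 zc20) (kc xc6 yc8 zc28) (kc xc17 yc59 zc39)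 (kc xc14 yc33 zc39) (kc xc11 yc31 zc17) (kc xc17 yc59 zc41) (kc xc20 yc40 zc55) (kc xc20 yc25 zc58) (kc xc11 yc42 zc7) (kc xc11 yc37 zc43) (kc xc5 yc58 zc16) (kc xc20 yc40 zc60) (kc xc11 yc36 zc6) (kc xc7 yc56 zc50) (kc xc16 yc28 zc27) (kc xc13 yc31 zc6) (kc xc7 yc12 zc35) (kc xc16 yc28 zc11) (kc xc8 yc48 zc0) (kc xc11 yc42 zc8) (kc xc20 yc41 zc11) (kc xc20 yc40 zc28) (kc xc18 yc15 zc36) (kc xc18 yc0 zc35) (kc xc11 yc40 zc18) (kc xc9 yc48 zc21) (kc xc9 yc48 zc22) (kc xc20 yc41 zc27) (kc xc7 yc42 zc50) (kc xc5 yc58 zc28) (kc xc12 yc4 zc20) (kc xc12 yc29 zc51) (kc xc9 yc14 zc40) (kc xc9 yc48 zc24) (kc xc11 yc42 zc21) (kc xc11 yc47 zc28) (kc xc11 yc26 zc3) (kc xc15 yc5 zc35) (kc xc16 yc57 zc61) (kc xc20 yc41 zc40) (kc xc14 yc30 zc60) (kc xc5 yc58 zc38) (kc xc12 yc10 zc27)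 (kc xc5 yc58 zc59) (kc xc7 yc0 zc41) (kc xc5 yc58 zc61) (kc xc7 yc1 zc32) (kc xc9 yc6 zc17) (kc xc9 yc6 zc18) (kc xc20 yc41 zc57) (kc xc5 yc58 zc45) (kc xc15 yc4 zc56) (kc xc19 yc42 zc43) (kc xc16 yc58 zc14) (kc xc19 yc47 zc18) (kc xc16 yc58 zc16) (kc xc16 yc58 zc37) (kc xc16 yc58 zc38) (kc xc5 yc58 zc44) (kc xc20 yc42 zc5) (kc xc20 yc1 zc48)) (@D3.rec (fun _ => Pt) (kc xc16 yc58 zc55) (kc xc5 yc59 zc17) (kc xc20 yc42 zc14) (kc xc5 yc58 zc50) (kc xc20 yc42 zc16) (kc xc9 yc16 zc26) (kc xc7 yc2 zc9) (kc xc11 yc41 zc9) (kc xc11 yc41 zc20) (kc xc14 yc3 zc9) (kc xc5 yc58 zc53) (kc xc18 yc43 zc49) (kc xc5 yc58 zc54) (kc xc20 yc42 zc28) (kc xc20 yc42 zc27) (kc xc20 yc42 zc29) (kc xc20 yc42 zc31) (kc xc5 yc58 zc55) (kc xc20 yc28 zc39) (kc xc5 yc58 zc57) (kc xc19 yc40 zc10)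 (kc xc11 yc41 zc35) (kc xc20 yc29 zc11) (kc xc20 yc41 zc45) (kc xc6 yc51 zc4) (kc xc14 yc23 zc34) (kc xc20 yc42 zc45) (kc xc20 yc42 zc47) (kc xc20 yc42 zc50) (kc xc20 yc42 zc54) (kc xc18 yc0 zc33) (kc xc5 yc59 zc1) (kc xc20 yc42 zc59) (kc xc20 yc42 zc56) (kc xc11 yc31 zc27) (kc xc20 yc43 zc2) (kc xc11 yc31 zc26) (kc xc20 yc43 zc4) (kc xc20 yc43 zc7) (kc xc5 yc59 zc3) (kc xc20 yc43 zc13) (kc xc17 yc3 zc60) (kc xc20 yc43 zc16) (kc xc5 yc59 zc7) (kc xc5 yc59 zc6) (kc xc5 yc59 zc8) (kc xc20 yc43 zc23) (kc xc11 yc31 zc34) (kc xc20 yc42 zc3) (kc xc20 yc43 zc30) (kc xc5 yc59 zc10) (kc xc20 yc43 zc33) (kc xc7 yc51 zc25) (kc xc16 yc59 zc7) (kc xc5 yc59 zc12) (kc xc20 yc43 zc40) (kc xc20 yc43 zc42) (kc xc20 yc43 zc39) (kc xc7 yc23 zc56) (kc xc16 yc59 zc11) (kc xc17 yc1 zc58)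 (kc xc5 yc59 zc15)) (@D3.rec (fun _ => Pt) (kc xc20 yc25 zc53) (kc xc19 yc39 zc53) (kc xc11 yc31 zc43) (kc xc20 yc42 zc34) (kc xc20 yc43 zc52) (kc xc20 yc42 zc10) (kc xc20 yc43 zc55) (kc xc20 yc42 zc12) (kc xc11 yc20 zc41) (kc xc11 yc40 zc8) (kc xc5 yc59 zc18) (kc xc13 yc43 zc17) (kc xc11 yc47 zc34) (kc xc5 yc59 zc20) (kc xc20 yc44 zc6) (kc xc5 yc59 zc21) (kc xc20 yc44 zc7) (kc xc18 yc0 zc20) (kc xc18 yc0 zc15) (kc xc20 yc44 zc17) (kc xc17 yc4 zc17) (kc xc18 yc37 zc15) (kc xc18 yc36 zc45) (kc xc20 yc44 zc25) (kc xc18 yc0 zc45) (kc xc15 yc5 zc24) (kc xc20 yc44 zc28) (kc xc20 yc44 zc31) (kc xc20 yc44 zc32) (kc xc5 yc59 zc25) (kc xc20 yc16 zc57) (kc xc5 yc59 zc27) (kc xc11 yc23 zc46) (kc xc20 yc44 zc39) (kc xc20 yc44 zc37) (kc xc13 yc12 zc1) (kc xc5 yc59 zc30) (kc xc5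 yc59 zc29) (kc xc7 yc53 zc4) (kc xc7 yc22 zc58) (kc xc7 yc31 zc4) (kc xc9 yc50 zc6) (kc xc13 yc12 zc0) (kc xc5 yc59 zc33) (kc xc12 yc42 zc57) (kc xc9 yc49 zc48) (kc xc5 yc59 zc48) (kc xc7 yc56 zc59) (kc xc5 yc59 zc50) (kc xc9 yc30 zc2) (kc xc6 yc26 zc56) (kc xc20 yc45 zc4) (kc xc5 yc59 zc42) (kc xc20 yc45 zc6) (kc xc9 yc11 zc40) (kc xc12 yc44 zc27) (kc xc17 yc59 zc52) (kc xc17 yc59 zc53) (kc xc15 yc8 zc18) (kc xc12 yc49 zc11) (kc xc17 yc22 zc18) (kc xc20 yc45 zc8)) (@D3.rec (fun _ => Pt) (kc xc20 yc45 zc9) (kc xc5 yc59 zc46) (kc xc9 yc59 zc27) (kc xc11 yc48 zc48) (kc xc12 yc37 zc17) (kc xc14 yc34 zc54) (kc xc12 yc46 zc43) (kc xc12 yc37 zc16) (kc xc12 yc42 zc17) (kc xc20 yc45 zc25) (kc xc14 yc34 zc53) (kc xc20 yc45 zc27) (kc xc11 yc18 zc4) (kc xc20 yc45 zc32) (kc xc20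 yc45 zc35) (kc xc18 yc45 zc23) (kc xc18 yc0 zc30) (kc xc5 yc59 zc54) (kc xc18 yc36 zc61) (kc xc20 yc45 zc38) (kc xc20 yc45 zc41) (kc xc5 yc59 zc55) (kc xc20 yc45 zc47) (kc xc20 yc45 zc50) (kc xc16 yc26 zc48) (kc xc5 yc59 zc57) (kc xc5 yc59 zc59) (kc xc16 yc36 zc0) (kc xc14 yc2 zc11) (kc xc5 yc59 zc61) (kc xc20 yc45 zc55) (kc xc6 yc0 zc2) (kc xc10 yc42 zc36) (kc xc7 yc44 zc55) (kc xc12 yc10 zc21) (kc xc12 yc10 zc18) (kc xc6 yc0 zc9) (kc xc6 yc0 zc11) (kc xc20 yc46 zc1) (kc xc6 yc0 zc7) (kc xc19 yc5 zc32) (kc xc16 yc57 zc43) (kc xc9 yc22 zc33) (kc xc16 yc57 zc44) (kc xc7 yc0 zc53) (kc xc6 yc17 zc2) (kc xc20 yc45 zc58) (kc xc11 yc27 zc36) (kc xc17 yc28 zc38) (kc xc6 yc45 zc49) (kc xc20 yc46 zc0) (kc xc12 yc3 zc54) (kc xc20 yc46 zc8) (kc xc6 yc45 zc52) (kc xc18 yc0 zc24)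 (kc xc17 yc7 zc48) (kc xc6 yc0 zc13) (kc xc12 yc41 zc4) (kc xc20 yc46 zc14) (kc xc11 yc28 zc50) (kc xc20 yc46 zc18) (kc xc7 yc43 zc14)) (@D3.rec (fun _ => Pt) (kc xc20 yc46 zc21) (kc xc6 yc0 zc15) (kc xc19 yc40 zc31) (kc xc20 yc46 zc23) (kc xc6 yc0 zc19) (kc xc14 yc11 zc52) (kc xc14 yc11 zc51) (kc xc17 yc5 zc15) (kc xc18 yc38 zc0) (kc xc6 yc0 zc21) (kc xc17 yc53 zc48) (kc xc6 yc56 zc24) (kc xc18 yc0 zc4) (kc xc12 yc43 zc27) (kc xc6 yc21 zc37) (kc xc12 yc33 zc8) (kc xc18 yc37 zc61) (kc xc6 yc0 zc26) (kc xc6 yc0 zc27) (kc xc18 yc24 zc36) (kc xc6 yc0 zc28) (kc xc12 yc23 zc4) (kc xc7 yc21 zc8) (kc xc6 yc0 zc31) (kc xc20 yc46 zc36) (kc xc6 yc0 zc36) (kc xc12 yc12 zc53) (kc xc11 yc30 zc32) (kc xc12 yc40 zc54) (kc xc12 yc47 zc25) (kc xc18 yc0 zc2) (kc xc20 yc45 zc43) (kc xc20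 yc45 zc44) (kc xc6 yc0 zc35) (kc xc20 yc46 zc53) (kc xc13 yc47 zc3) (kc xc17 yc20 zc37) (kc xc17 yc20 zc38) (kc xc11 yc35 zc2) (kc xc6 yc0 zc42) (kc xc6 yc14 zc29) (kc xc11 yc25 zc5) (kc xc11 yc25 zc1) (kc xc20 yc47 zc5) (kc xc20 yc26 zc7) (kc xc18 yc0 zc21) (kc xc18 yc0 zc22) (kc xc20 yc47 zc10) (kc xc15 yc25 zc0) (kc xc9 yc41 zc57) (kc xc6 yc0 zc44) (kc xc20 yc47 zc13) (kc xc18 yc0 zc31) (kc xc18 yc0 zc32) (kc xc20 yc47 zc21) (kc xc17 yc58 zc11) (kc xc20 yc47 zc23) (kc xc14 yc12 zc33) (kc xc9 yc23 zc19) (kc xc9 yc23 zc23) (kc xc14 yc44 zc28) (kc xc20 yc41 zc15)) (@D3.rec (fun _ => Pt) (kc xc20 yc47 zc28) (kc xc6 yc0 zc52) (kc xc20 yc47 zc32) (kc xc6 yc0 zc49) (kc xc20 yc47 zc37) (kc xc20 yc47 zc35) (kc xc17 yc15 zc1) (kc xc20 yc47 zc45) (kc xc18 yc37 zc12) (kc xc20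 yc47 zc48) (kc xc20 yc47 zc51) (kc xc6 yc0 zc51) (kc xc20 yc47 zc57) (kc xc11 yc26 zc12) (kc xc12 yc37 zc51) (kc xc20 yc16 zc52) (kc xc13 yc7 zc32) (kc xc13 yc12 zc3) (kc xc6 yc0 zc54) (kc xc20 yc48 zc5) (kc xc17 yc29 zc48) (kc xc6 yc0 zc55) (kc xc20 yc48 zc11) (kc xc20 yc16 zc54) (kc xc6 yc0 zc57) (kc xc20 yc48 zc13) (kc xc6 yc0 zc58) (kc xc20 yc16 zc37) (kc xc20 yc48 zc18) (kc xc20 yc48 zc20) (kc xc6 yc0 zc59) (kc xc20 yc16 zc46) (kc xc20 yc48 zc23) (kc xc20 yc17 zc18) (kc xc20 yc17 zc35) (kc xc17 yc26 zc38) (kc xc20 yc14 zc46) (kc xc6 yc0 zc61) (kc xc20 yc48 zc34) (kc xc6 yc1 zc6) (kc xc20 yc48 zc39) (kc xc6 yc1 zc4) (kc xc7 yc28 zc15) (kc xc7 yc28 zc16) (kc xc12 yc26 zc58) (kc xc12 yc39 zc9) (kc xc6 yc7 zc44) (kc xc20 yc48 zc43) (kc xc12 yc37 zc18) (kc xc20 yc48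 zc36) (kc xc20 yc48 zc50) (kc xc14 yc36 zc23) (kc xc13 yc11 zc12) (kc xc13 yc11 zc11) (kc xc6 yc1 zc7) (kc xc20 yc48 zc57) (kc xc7 yc43 zc13) (kc xc20 yc49 zc0) (kc xc6 yc1 zc9) (kc xc11 yc14 zc59) (kc xc6 yc1 zc10) (kc xc20 yc48 zc1)) (@D3.rec (fun _ => Pt) (kc xc13 yc11 zc3) (kc xc13 yc11 zc2) (kc xc7 yc22 zc51) (kc xc20 yc16 zc55) (kc xc6 yc1 zc12) (kc xc20 yc49 zc12) (kc xc6 yc1 zc14) (kc xc6 yc1 zc17) (kc xc12 yc22 zc24) (kc xc9 yc23 zc15) (kc xc8 yc0 zc51) (kc xc6 yc1 zc21) (kc xc12 yc22 zc14) (kc xc6 yc1 zc20) (kc xc8 yc49 zc58) (kc xc8 yc49 zc57) (kc xc6 yc1 zc19) (kc xc13 yc27 zc37) (kc xc20 yc19 zc12) (kc xc17 yc19 zc23) (kc xc20 yc49 zc15) (kc xc14 yc17 zc42) (kc xc6 yc1 zc22) (kc xc13 yc27 zc46) (kc xc20 yc16 zc56) (kc xc6 yc1 zc24) (kc xc9 yc7 zc0) (kc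 xc20 yc29 zc10) (kc xc11 yc41 zc36) (kc xc6 yc1 zc28) (kc xc20 yc49 zc36) (kc xc20 yc49 zc38) (kc xc20 yc49 zc35) (kc xc20 yc41 zc42) (kc xc11 yc43 zc12) (kc xc6 yc1 zc30) (kc xc17 yc58 zc52) (kc xc20 yc49 zc47) (kc xc9 yc6 zc55) (kc xc20 yc29 zc14) (kc xc18 yc2 zc1) (kc xc6 yc1 zc32) (kc xc20 yc49 zc56) (kc xc20 yc49 zc57) (kc xc6 yc1 zc33) (kc xc20 yc49 zc60) (kc xc20 yc49 zc58) (kc xc18 yc1 zc60) (kc xc6 yc1 zc35) (kc xc20 yc50 zc8) (kc xc19 yc46 zc36) (kc xc20 yc50 zc7) (kc xc14 yc47 zc21) (kc xc18 yc1 zc54) (kc xc12 yc49 zc21) (kc xc20 yc50 zc18) (kc xc18 yc1 zc48) (kc xc16 yc46 zc6) (kc xc20 yc50 zc22) (kc xc20 yc50 zc26) (kc xc6 yc3 zc61) (kc xc20 yc50 zc32)) (@D3.rec (fun _ => Pt) (kc xc17 yc58 zc40) (kc xc6 yc1 zc39) (kc xc20 yc50 zc37) (kc xc17 yc22 zc58)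 (kc xc9 yc23 zc57) (kc xc20 yc50 zc42) (kc xc6 yc1 zc43) (kc xc7 yc3 zc49) (kc xc6 yc1 zc44) (kc xc12 yc57 zc31) (kc xc20 yc50 zc47) (kc xc7 yc25 zc40) (kc xc12 yc42 zc18) (kc xc13 yc19 zc53) (kc xc6 yc19 zc36) (kc xc6 yc1 zc51) (kc xc12 yc45 zc23) (kc xc12 yc51 zc17) (kc xc20 yc50 zc50) (kc xc11 yc33 zc30) (kc xc16 yc56 zc22) (kc xc20 yc50 zc52) (kc xc20 yc50 zc54) (kc xc6 yc1 zc54) (kc xc20 yc50 zc55) (kc xc13 yc38 zc33) (kc xc6 yc1 zc57) (kc xc11 yc55 zc58) (kc xc20 yc50 zc57) (kc xc14 yc48 zc53) (kc xc6 yc1 zc59) (kc xc20 yc50 zc59) (kc xc20 yc50 zc60) (kc xc11 yc27 zc59) (kc xc7 yc33 zc44) (kc xc6 yc1 zc61) (kc xc20 yc51 zc5) (kc xc20 yc51 zc8) (kc xc20 yc51 zc10) (kc xc6 yc2 zc1) (kc xc20 yc51 zc13) (kc xc11 yc21 zc10) (kc xc9 yc20 zc29) (kc xc10 yc30 zc26) (kc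 xc17 yc15 zc53) (kc xc6 yc2 zc7) (kc xc6 yc2 zc8) (kc xc20 yc51 zc16) (kc xc11 yc44 zc3) (kc xc17 yc7 zc44) (kc xc16 yc23 zc60) (kc xc20 yc51 zc19) (kc xc15 yc49 zc35) (kc xc6 yc2 zc16) (kc xc20 yc51 zc22) (kc xc6 yc2 zc15) (kc xc12 yc37 zc34) (kc xc12 yc34 zc16) (kc xc6 yc37 zc37) (kc xc20 yc51 zc28) (kc xc6 yc2 zc20) (kc xc18 yc17 zc47)) (@D3.rec (fun _ => Pt) (kc xc6 yc25 zc16) (kc xc6 yc3 zc19) (kc xc6 yc2 zc22) (kc xc20 yc51 zc31) (kc xc6 yc35 zc27) (kc xc20 yc37 zc38) (kc xc17 yc5 zc8) (kc xc6 yc2 zc23) (kc xc20 yc51 zc40) (kc xc6 yc2 zc24) (kc xc20 yc51 zc41) (kc xc16 yc13 zc49) (kc xc15 yc45 zc12) (kc xc15 yc25 zc26) (kc xc12 yc17 zc43) (kc xc16 yc57 zc53) (kc xc6 yc2 zc29) (kc xc9 yc38 zc47) (kc xc6 yc2 zc28) (kc xc18 yc0 zc5) (kc xc6 yc2 zc31) (kc xc12 yc32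 zc56) (kc xc18 yc26 zc2) (kc xc11 yc58 zc26) (kc xc6 yc2 zc37) (kc xc20 yc51 zc54) (kc xc11 yc10 zc42) (kc xc6 yc2 zc36) (kc xc17 yc59 zc15) (kc xc20 yc51 zc55) (kc xc17 yc6 zc43) (kc xc10 yc17 zc23) (kc xc10 yc4 zc59) (kc xc17 yc31 zc22) (kc xc17 yc6 zc19) (kc xc20 yc51 zc57) (kc xc20 yc51 zc58) (kc xc12 yc28 zc19) (kc xc20 yc51 zc59) (kc xc17 yc5 zc4) (kc xc17 yc14 zc9) (kc xc6 yc2 zc49) (kc xc20 yc51 zc61) (kc xc15 yc5 zc14) (kc xc17 yc58 zc30) (kc xc20 yc52 zc0) (kc xc6 yc2 zc54) (kc xc15 yc30 zc37) (kc xc20 yc52 zc2) (kc xc18 yc15 zc38) (kc xc20 yc50 zc45) (kc xc6 yc2 zc57) (kc xc11 yc28 zc49) (kc xc11 yc28 zc48) (kc xc20 yc26 zc4) (kc xc6 yc27 zc24) (kc xc6 yc3 zc0) (kc xc19 yc43 zc34) (kc xc20 yc49 zc3) (kc xc14 yc7 zc32) (kc xc13 yc47 zc13) (kc xc13 yc47 zc24))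 (@D3.rec (fun _ => Pt) (kc xc15 yc8 zc3) (kc xc18 yc1 zc21) (kc xc11 yc36 zc35) (kc xc20 yc52 zc11) (kc xc6 yc3 zc10) (kc xc7 yc1 zc44) (kc xc6 yc3 zc11) (kc xc16 yc23 zc56) (kc xc16 yc25 zc38) (kc xc20 yc52 zc18) (kc xc6 yc3 zc12) (kc xc17 yc12 zc48) (kc xc6 yc3 zc13) (kc xc20 yc52 zc26) (kc xc6 yc3 zc14) (kc xc20 yc52 zc29) (kc xc20 yc52 zc30) (kc xc20 yc52 zc32) (kc xc6 yc3 zc21) (kc xc20 yc52 zc39) (kc xc6 yc3 zc16) (kc xc20 yc51 zc33) (kc xc6 yc50 zc15) (kc xc12 yc37 zc48) (kc xc12 yc16 zc8) (kc xc12 yc16 zc9) (kc xc20 yc52 zc43) (kc xc20 yc52 zc45) (kc xc20 yc52 zc36) (kc xc20 yc52 zc38) (kc xc12 yc42 zc58) (kc xc20 yc37 zc8) (kc xc6 yc3 zc24) (kc xc20 yc52 zc47) (kc xc6 yc3 zc25) (kc xc6 yc3 zc26) (kc xc20 yc52 zc52) (kc xc13 yc42 zc51) (kc xc6 yc3 zc28) (kc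 xc20 yc52 zc57) (kc xc20 yc52 zc58) (kc xc20 yc52 zc56) (kc xc20 yc41 zc32) (kc xc6 yc56 zc28) (kc xc7 yc53 zc14) (kc xc13 yc9 zc22) (kc xc7 yc20 zc16) (kc xc13 yc55 zc37) (kc xc9 yc14 zc44) (kc xc9 yc14 zc45) (kc xc6 yc3 zc40) (kc xc18 yc58 zc1) (kc xc8 yc0 zc18) (kc xc6 yc3 zc42) (kc xc20 yc53 zc8) (kc xc20 yc53 zc11) (kc xc20 yc53 zc6) (kc xc7 yc16 zc26) (kc xc7 yc16 zc25) (kc xc6 yc55 zc36) (kc xc14 yc52 zc41) (kc xc9 yc51 zc8)) (@D3.rec (fun _ => Pt) (kc xc10 yc6 zc52) (kc xc6 yc3 zc47) (kc xc20 yc53 zc19) (kc xc6 yc3 zc45) (kc xc18 yc38 zc27) (kc xc6 yc3 zc46) (kc xc11 yc29 zc24) (kc xc9 yc6 zc39) (kc xc6 yc3 zc50) (kc xc7 yc52 zc53) (kc xc6 yc3 zc49) (kc xc7 yc50 zc47) (kc xc20 yc53 zc24) (kc xc9 yc51 zc13) (kc xc6 yc3 zc54) (kc xc6 yc3 zc52) (kc xc8 yc36 zc19)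 (kc xc12 yc15 zc25) (kc xc15 yc49 zc47) (kc xc20 yc53 zc33) (kc xc20 yc53 zc36) (kc xc20 yc53 zc37) (kc xc6 yc3 zc55) (kc xc20 yc53 zc42) (kc xc10 yc15 zc32) (kc xc11 yc51 zc58) (kc xc8 yc20 zc28) (kc xc15 yc32 zc4) (kc xc8 yc11 zc37) (kc xc20 yc53 zc48) (kc xc6 yc3 zc59) (kc xc20 yc53 zc56) (kc xc20 yc53 zc54) (kc xc6 yc3 zc60) (kc xc20 yc53 zc61) (kc xc20 yc53 zc60) (kc xc20 yc54 zc1) (kc xc16 yc40 zc47) (kc xc20 yc54 zc4) (kc xc6 yc4 zc0) (kc xc20 yc54 zc8) (kc xc9 yc46 zc51) (kc xc9 yc46 zc52) (kc xc6 yc4 zc4) (kc xc9 yc6 zc49) (kc xc6 yc4 zc3) (kc xc20 yc54 zc22) (kc xc20 yc54 zc25) (kc xc20 yc54 zc20) (kc xc20 yc54 zc28) (kc xc19 yc59 zc21) (kc xc20 yc54 zc15) (kc xc20 yc54 zc31) (kc xc10 yc15 zc24) (kc xc6 yc4 zc11) (kc xc20 yc54 zc32) (kc xc12 yc43 zc4) (kc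 xc12 yc28 zc9) (kc xc11 yc51 zc25) (kc xc12 yc10 zc31) (kc xc7 yc55 zc51) (kc xc8 yc31 zc31)) (@D3.rec (fun _ => Pt) (kc xc8 yc1 zc28) (kc xc8 yc16 zc51) (kc xc14 yc57 zc23) (kc xc9 yc37 zc52) (kc xc11 yc17 zc5) (kc xc15 yc6 zc39) (kc xc17 yc40 zc35) (kc xc17 yc40 zc38) (kc xc14 yc57 zc0) (kc xc15 yc6 zc21) (kc xc8 yc40 zc54) (kc xc16 yc7 zc45) (kc xc8 yc13 zc14) (kc xc8 yc9 zc59) (kc xc8 yc6 zc34) (kc xc15 yc16 zc22) (kc xc11 yc52 zc40) (kc xc6 yc4 zc25) (kc xc20 yc55 zc5) (kc xc19 yc54 zc55) (kc xc8 yc6 zc49) (kc xc6 yc4 zc27) (kc xc20 yc55 zc13) (kc xc20 yc55 zc12) (kc xc8 yc11 zc26) (kc xc9 yc41 zc41) (kc xc8 yc11 zc24) (kc xc8 yc28 zc55) (kc xc15 yc27 zc31) (kc xc9 yc41 zc11) (kc xc20 yc55 zc27) (kc xc20 yc55 zc32) (kc xc10 yc30 zc45) (kc xc20 yc55 zc38) (kc xc10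 yc30 zc47) (kc xc15 yc27 zc29) (kc xc15 yc27 zc27) (kc xc15 yc29 zc30) (kc xc6 yc4 zc33) (kc xc8 yc13 zc1) (kc xc11 yc52 zc16) (kc xc6 yc4 zc35) (kc xc15 yc28 zc7) (kc xc19 yc58 zc17) (kc xc15 yc8 zc61) (kc xc6 yc4 zc37) (kc xc17 yc51 zc36) (kc xc20 yc55 zc56) (kc xc10 yc8 zc13) (kc xc10 yc7 zc57) (kc xc10 yc43 zc31) (kc xc15 yc24 zc29) (kc xc8 yc29 zc9) (kc xc16 yc12 zc57) (kc xc15 yc29 zc24) (kc xc15 yc24 zc32) (kc xc15 yc24 zc33) (kc xc6 yc57 zc24) (kc xc6 yc4 zc44) (kc xc6 yc4 zc42) (kc xc6 yc4 zc43) (kc xc6 yc4 zc50)) (@D3.rec (fun _ => Pt) (kc xc6 yc4 zc49) (kc xc15 yc41 zc23) (kc xc15 yc41 zc15) (kc xc20 yc56 zc15) (kc xc20 yc2 zc19) (kc xc15 yc29 zc23) (kc xc17 yc48 zc47) (kc xc14 yc30 zc40) (kc xc6 yc4 zc55) (kc xc6 yc4 zc53) (kc xc6 yc4 zc54) (kc xc6 yc4 zc57)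 (kc xc15 yc28 zc38) (kc xc15 yc28 zc39) (kc xc20 yc56 zc43) (kc xc8 yc38 zc45) (kc xc8 yc38 zc35) (kc xc10 yc23 zc37) (kc xc15 yc25 zc6) (kc xc15 yc25 zc7) (kc xc20 yc56 zc58) (kc xc6 yc5 zc1) (kc xc6 yc4 zc61) (kc xc14 yc2 zc26) (kc xc6 yc5 zc0) (kc xc20 yc57 zc1) (kc xc11 yc4 zc26) (kc xc11 yc4 zc27) (kc xc17 yc36 zc5) (kc xc20 yc57 zc3) (kc xc20 yc57 zc4) (kc xc8 yc20 zc4) (kc xc8 yc32 zc32) (kc xc17 yc36 zc3) (kc xc15 yc29 zc2) (kc xc17 yc48 zc61) (kc xc15 yc22 zc44) (kc xc20 yc57 zc19) (kc xc6 yc5 zc8) (kc xc6 yc5 zc6) (kc xc20 yc57 zc22) (kc xc6 yc5 zc7) (kc xc20 yc57 zc25) (kc xc20 yc57 zc28) (kc xc15 yc56 zc21) (kc xc15 yc56 zc23) (kc xc10 yc11 zc14) (kc xc15 yc28 zc53) (kc xc20 yc57 zc39) (kc xc16 yc11 zc6) (kc xc6 yc46 zc8) (kc xc6 yc46 zc9) (kc xc20 yc57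 zc42) (kc xc6 yc5 zc12) (kc xc8 yc38 zc41) (kc xc20 yc57 zc47) (kc xc15 yc28 zc37) (kc xc20 yc57 zc57) (kc xc16 yc11 zc8) (kc xc6 yc6 zc40) (kc xc8 yc14 zc29) (kc xc16 yc11 zc27)) (@D3.rec (fun _ => Pt) (kc xc6 yc5 zc15) (kc xc15 yc55 zc37) (kc xc20 yc58 zc2) (kc xc20 yc36 zc46) (kc xc6 yc5 zc16) (kc xc9 yc6 zc13) (kc xc20 yc58 zc7) (kc xc20 yc58 zc9) (kc xc10 yc20 zc24) (kc xc6 yc5 zc18) (kc xc20 yc58 zc16) (kc xc20 yc58 zc17) (kc xc6 yc6 zc50) (kc xc17 yc34 zc28) (kc xc15 yc28 zc22) (kc xc18 yc27 zc47) (kc xc15 yc28 zc6) (kc xc20 yc58 zc14) (kc xc6 yc5 zc23) (kc xc20 yc58 zc38) (kc xc20 yc54 zc19) (kc xc20 yc58 zc37) (kc xc15 yc27 zc40) (kc xc15 yc47 zc35) (kc xc9 yc43 zc22) (kc xc20 yc58 zc53) (kc xc15 yc3 zc8) (kc xc6 yc5 zc26) (kc xc20 yc58 zc57) (kc xc6 yc5 zc27)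 (kc xc20 yc58 zc60) (kc xc20 yc54 zc59) (kc xc10 yc24 zc3) (kc xc10 yc15 zc49) (kc xc9 yc30 zc27) (kc xc9 yc30 zc31) (kc xc6 yc5 zc39) (kc xc20 yc59 zc10) (kc xc10 yc25 zc3) (kc xc10 yc24 zc6) (kc xc10 yc24 zc7) (kc xc20 yc59 zc18) (kc xc6 yc5 zc35) (kc xc6 yc5 zc33) (kc xc6 yc5 zc34) (kc xc6 yc5 zc36) (kc xc11 yc57 zc14) (kc xc6 yc5 zc37) (kc xc20 yc59 zc27) (kc xc20 yc59 zc29) (kc xc6 yc5 zc38) (kc xc6 yc54 zc56) (kc xc6 yc56 zc7) (kc xc6 yc56 zc6) (kc xc6 yc5 zc41) (kc xc8 yc4 zc3) (kc xc6 yc5 zc43) (kc xc18 yc44 zc47) (kc xc10 yc43 zc36) (kc xc10 yc32 zc12) (kc xc10 yc15 zc41) (kc xc10 yc33 zc23)) (@D3.rec (fun _ => Pt) (kc xc11 yc4 zc31) (kc xc9 yc31 zc14) (kc xc6 yc5 zc55) (kc xc20 yc59 zc49) (kc xc6 yc5 zc56) (kc xc15 yc36 zc16) (kc xc8 yc26 zc13) (kc xc9 yc22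 zc41) (kc xc15 yc24 zc60) (kc xc20 yc59 zc61) (kc xc6 yc5 zc52) (kc xc6 yc5 zc51) (kc xc6 yc5 zc53) (kc xc21 yc0 zc5) (kc xc6 yc5 zc54) (kc xc20 yc8 zc26) (kc xc20 yc59 zc48) (kc xc21 yc0 zc10) (kc xc20 yc56 zc37) (kc xc11 yc31 zc30) (kc xc10 yc37 zc10) (kc xc10 yc23 zc39) (kc xc6 yc6 zc6) (kc xc21 yc0 zc17) (kc xc6 yc6 zc8) (kc xc10 yc25 zc36) (kc xc10 yc24 zc15) (kc xc10 yc24 zc16) (kc xc10 yc50 zc22) (kc xc6 yc6 zc3) (kc xc15 yc52 zc48) (kc xc6 yc6 zc1) (kc xc19 yc36 zc38) (kc xc20 yc16 zc15) (kc xc6 yc6 zc2) (kc xc21 yc0 zc29) (kc xc11 yc56 zc22) (kc xc6 yc6 zc4) (kc xc21 yc0 zc33) (kc xc6 yc6 zc5) (kc xc17 yc26 zc53) (kc xc21 yc0 zc16) (kc xc21 yc0 zc37) (kc xc21 yc0 zc38) (kc xc20 yc15 zc1) (kc xc18 yc32 zc8) (kc xc11 yc22 zc57) (kc xc21 yc0 zc40) (kc xc12 yc15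 zc7) (kc xc6 yc6 zc12) (kc xc6 yc6 zc13) (kc xc21 yc0 zc43) (kc xc6 yc6 zc14) (kc xc10 yc33 zc47) (kc xc8 yc27 zc33) (kc xc8 yc26 zc31) (kc xc6 yc46 zc0) (kc xc6 yc6 zc26) (kc xc11 yc48 zc27) (kc xc10 yc21 zc28) (kc xc21 yc0 zc51) (kc xc6 yc6 zc23)) (@D3.rec (fun _ => Pt) (kc xc6 yc6 zc21) (kc xc21 yc0 zc52) (kc xc6 yc6 zc22) (kc xc11 yc56 zc14) (kc xc6 yc6 zc24) (kc xc11 yc56 zc26) (kc xc6 yc6 zc25) (kc xc21 yc0 zc58) (kc xc6 yc6 zc29) (kc xc6 yc6 zc30) (kc xc21 yc1 zc0) (kc xc6 yc6 zc31) (kc xc6 yc6 zc32) (kc xc17 yc34 zc22) (kc xc11 yc56 zc3) (kc xc21 yc1 zc4) (kc xc6 yc6 zc35) (kc xc21 yc1 zc6) (kc xc6 yc6 zc37) (kc xc6 yc6 zc38) (kc xc20 yc37 zc32) (kc xc15 yc30 zc22) (kc xc11 yc55 zc36) (kc xc21 yc1 zc15) (kc xc20 yc57 zc59) (kc xc6 yc6 zc41) (kc xc11 yc56 zc5)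 (kc xc15 yc30 zc14) (kc xc6 yc46 zc12) (kc xc21 yc1 zc24) (kc xc6 yc6 zc43) (kc xc17 yc31 zc55) (kc xc21 yc1 zc27) (kc xc6 yc6 zc45) (kc xc21 yc1 zc30) (kc xc6 yc6 zc46) (kc xc6 yc6 zc47) (kc xc21 yc1 zc32) (kc xc11 yc30 zc27) (kc xc21 yc1 zc34) (kc xc6 yc6 zc49) (kc xc21 yc1 zc37) (kc xc21 yc1 zc38) (kc xc21 yc1 zc40) (kc xc6 yc8 zc12) (kc xc9 yc12 zc30) (kc xc17 yc58 zc43) (kc xc11 yc5 zc33) (kc xc18 yc17 zc38) (kc xc8 yc6 zc32) (kc xc10 yc43 zc29) (kc xc9 yc50 zc33) (kc xc9 yc50 zc36) (kc xc6 yc7 zc5) (kc xc18 yc7 zc29) (kc xc6 yc7 zc6) (kc xc15 yc17 zc25) (kc xc8 yc6 zc37) (kc xc8 yc6 zc38) (kc xc21 yc1 zc60) (kc xc6 yc7 zc2) (kc xc15 yc55 zc8)) (@D3.rec (fun _ => Pt) (kc xc6 yc7 zc0) (kc xc14 yc18 zc33) (kc xc6 yc7 zc1) (kc xc21 yc2 zc4) (kc xc6 yc7 zc3) (kc xc21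 yc2 zc7) (kc xc21 yc2 zc8) (kc xc6 yc7 zc4) (kc xc6 yc7 zc7) (kc xc21 yc2 zc10) (kc xc19 yc6 zc47) (kc xc6 yc7 zc8) (kc xc17 yc14 zc8) (kc xc13 yc2 zc15) (kc xc11 yc54 zc46) (kc xc6 yc7 zc18) (kc xc21 yc2 zc17) (kc xc6 yc7 zc19) (kc xc8 yc38 zc24) (kc xc8 yc38 zc50) (kc xc21 yc2 zc28) (kc xc6 yc7 zc16) (kc xc6 yc7 zc17) (kc xc21 yc2 zc32) (kc xc21 yc2 zc16) (kc xc21 yc2 zc34) (kc xc9 yc12 zc31) (kc xc21 yc2 zc21) (kc xc19 yc10 zc58) (kc xc18 yc39 zc49) (kc xc6 yc7 zc22) (kc xc10 yc42 zc2) (kc xc12 yc17 zc60) (kc xc12 yc4 zc41) (kc xc6 yc24 zc30) (kc xc18 yc23 zc35) (kc xc21 yc2 zc36) (kc xc12 yc30 zc9) (kc xc11 yc24 zc56) (kc xc21 yc2 zc38) (kc xc6 yc7 zc35) (kc xc21 yc2 zc42) (kc xc6 yc46 zc26) (kc xc17 yc16 zc37) (kc xc11 yc24 zc43) (kc xc21 yc2 zc47) (kc xc6 yc7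 zc41) (kc xc20 yc36 zc4) (kc xc21 yc2 zc53) (kc xc15 yc26 zc29) (kc xc21 yc2 zc57) (kc xc21 yc2 zc59) (kc xc9 yc27 zc25) (kc xc21 yc2 zc61) (kc xc17 yc31 zc9) (kc xc6 yc7 zc45) (kc xc21 yc3 zc1) (kc xc14 yc11 zc16) (kc xc9 yc29 zc29) (kc xc18 yc24 zc16) (kc xc18 yc24 zc14) (kc xc6 yc7 zc57)) (@D3.rec (fun _ => Pt) (kc xc21 yc3 zc4) (kc xc18 yc1 zc61) (kc xc21 yc3 zc3) (kc xc20 yc23 zc16) (kc xc17 yc5 zc7) (kc xc14 yc33 zc14) (kc xc6 yc8 zc8) (kc xc17 yc11 zc41) (kc xc11 yc31 zc0) (kc xc11 yc31 zc3) (kc xc6 yc8 zc21) (kc xc17 yc12 zc3) (kc xc6 yc12 zc19) (kc xc10 yc18 zc49) (kc xc21 yc3 zc14) (kc xc6 yc8 zc9) (kc xc6 yc8 zc10) (kc xc6 yc44 zc35) (kc xc21 yc3 zc15) (kc xc11 yc9 zc58) (kc xc21 yc3 zc17) (kc xc6 yc50 zc14) (kc xc11 yc29 zc11) (kc xc17 yc2 zc60) (kc xc6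 yc8 zc16) (kc xc12 yc33 zc43) (kc xc11 yc49 zc23) (kc xc18 yc32 zc32) (kc xc15 yc30 zc30) (kc xc6 yc8 zc19) (kc xc6 yc8 zc20) (kc xc6 yc8 zc26) (kc xc12 yc9 zc51) (kc xc9 yc24 zc1) (kc xc18 yc42 zc60) (kc xc12 yc11 zc61) (kc xc6 yc8 zc24) (kc xc17 yc1 zc32) (kc xc20 yc14 zc36) (kc xc20 yc16 zc45) (kc xc13 yc46 zc26) (kc xc21 yc3 zc23) (kc xc6 yc53 zc54) (kc xc6 yc53 zc55) (kc xc9 yc16 zc0) (kc xc6 yc8 zc38) (kc xc20 yc10 zc0) (kc xc20 yc9 zc61) (kc xc21 yc3 zc36) (kc xc21 yc3 zc31) (kc xc20 yc37 zc40) (kc xc21 yc3 zc38) (kc xc11 yc1 zc29) (kc xc19 yc19 zc46) (kc xc20 yc28 zc5) (kc xc21 yc3 zc42) (kc xc6 yc8 zc41) (kc xc21 yc3 zc45) (kc xc6 yc8 zc43) (kc xc21 yc3 zc47) (kc xc21 yc3 zc50) (kc xc12 yc15 zc28)) (@D3.rec (fun _ => Pt) (kc xc20 yc23 zc5) (kc xc20 yc23 zc3)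 (kc xc21 yc3 zc54) (kc xc6 yc8 zc50) (kc xc6 yc8 zc49) (kc xc18 yc22 zc40) (kc xc6 yc9 zc8) (kc xc11 yc17 zc3) (kc xc21 yc3 zc59) (kc xc6 yc8 zc60) (kc xc21 yc3 zc60) (kc xc6 yc8 zc59) (kc xc21 yc4 zc1) (kc xc6 yc9 zc0) (kc xc6 yc48 zc50) (kc xc8 yc35 zc22) (kc xc8 yc44 zc42) (kc xc9 yc3 zc48) (kc xc6 yc9 zc7) (kc xc11 yc11 zc6) (kc xc17 yc59 zc40) (kc xc21 yc4 zc3) (kc xc21 yc4 zc6) (kc xc21 yc3 zc56) (kc xc11 yc7 zc24) (kc xc6 yc9 zc10) (kc xc6 yc48 zc39) (kc xc11 yc19 zc9) (kc xc12 yc20 zc53) (kc xc21 yc4 zc11) (kc xc14 yc59 zc49) (kc xc11 yc20 zc59) (kc xc21 yc4 zc14) (kc xc14 yc59 zc51) (kc xc17 yc57 zc11) (kc xc17 yc57 zc12) (kc xc6 yc9 zc13) (kc xc19 yc37 zc50) (kc xc17 yc57 zc35) (kc xc17 yc1 zc19) (kc xc10 yc24 zc25) (kc xc6 yc52 zc38) (kc xc13 yc0 zc34) (kc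 xc6 yc9 zc21) (kc xc6 yc9 zc22) (kc xc10 yc29 zc23) (kc xc10 yc29 zc24) (kc xc6 yc51 zc54) (kc xc6 yc9 zc24) (kc xc18 yc7 zc54) (kc xc13 yc15 zc13) (kc xc6 yc22 zc15) (kc xc12 yc20 zc12) (kc xc12 yc20 zc16) (kc xc6 yc9 zc30) (kc xc21 yc4 zc36) (kc xc6 yc52 zc34) (kc xc6 yc51 zc45) (kc xc14 yc3 zc34) (kc xc12 yc59 zc55) (kc xc6 yc9 zc28) (kc xc21 yc4 zc45))
def f_c_12 : D2 → D3 → Pt := @D2.rec (fun _ => D3 → Pt) (@D3.rec (fun _ => Pt) (kc xc21 yc4 zc48) (kc xc6 yc9 zc29) (kc xc21 yc4 zc52) (kc xc6 yc33 zc26) (kc xc9 yc17 zc32) (kc xc6 yc9 zc32) (kc xc21 yc4 zc54) (kc xc10 yc56 zc28) (kc xc12 yc30 zc39) (kc xc6 yc48 zc18) (kc xc17 yc13 zc11) (kc xc10 yc51 zc3) (kc xc6 yc19 zc13) (kc xc12 yc16 zc0) (kc xc12 yc0 zc23) (kc xc6 yc9 zc38) (kc xc21 yc5 zc15) (kc xc6 yc9 zc39)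 (kc xc21 yc5 zc16) (kc xc12 yc0 zc21) (kc xc15 yc16 zc30) (kc xc12 yc0 zc19) (kc xc13 yc15 zc16) (kc xc12 yc0 zc14) (kc xc12 yc27 zc20) (kc xc12 yc20 zc37) (kc xc6 yc9 zc47) (kc xc14 yc31 zc34) (kc xc6 yc33 zc6) (kc xc6 yc9 zc44) (kc xc16 yc2 zc14) (kc xc6 yc9 zc45) (kc xc21 yc5 zc40) (kc xc21 yc5 zc43) (kc xc6 yc9 zc46) (kc xc21 yc5 zc47) (kc xc17 yc18 zc29) (kc xc7 yc32 zc2) (kc xc12 yc11 zc11) (kc xc6 yc58 zc58) (kc xc21 yc5 zc53) (kc xc6 yc9 zc53) (kc xc12 yc16 zc60) (kc xc6 yc9 zc52) (kc xc12 yc11 zc18) (kc xc6 yc9 zc57) (kc xc6 yc9 zc58) (kc xc6 yc10 zc1) (kc xc12 yc13 zc21) (kc xc12 yc20 zc57) (kc xc6 yc25 zc46) (kc xc6 yc59 zc39) (kc xc21 yc6 zc12) (kc xc14 yc54 zc59) (kc xc21 yc6 zc0) (kc xc21 yc6 zc20) (kc xc12 yc27 zc9) (kc xc7 yc9 zc60) (kc xc7 yc5 zc35)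 (kc xc7 yc49 zc10) (kc xc12 yc58 zc53) (kc xc7 yc9 zc58)) (@D3.rec (fun _ => Pt) (kc xc6 yc22 zc42) (kc xc17 yc37 zc15) (kc xc8 yc24 zc38) (kc xc8 yc32 zc49) (kc xc21 yc6 zc42) (kc xc6 yc59 zc13) (kc xc6 yc59 zc11) (kc xc13 yc24 zc7) (kc xc7 yc27 zc19) (kc xc6 yc10 zc8) (kc xc7 yc31 zc59) (kc xc6 yc37 zc40) (kc xc6 yc10 zc9) (kc xc14 yc23 zc33) (kc xc11 yc30 zc15) (kc xc17 yc10 zc31) (kc xc13 yc3 zc20) (kc xc11 yc35 zc43) (kc xc17 yc10 zc34) (kc xc7 yc32 zc20) (kc xc7 yc2 zc21) (kc xc12 yc27 zc56) (kc xc10 yc6 zc25) (kc xc18 yc41 zc42) (kc xc6 yc10 zc19) (kc xc18 yc38 zc19) (kc xc12 yc29 zc37) (kc xc18 yc41 zc41) (kc xc6 yc10 zc22) (kc xc11 yc36 zc28) (kc xc7 yc31 zc36) (kc xc12 yc12 zc45) (kc xc10 yc7 zc7) (kc xc6 yc34 zc53) (kc xc6 yc10 zc31) (kc xc12 yc36 zc33) (kc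 xc12 yc40 zc58) (kc xc18 yc36 zc38) (kc xc6 yc37 zc36) (kc xc20 yc37 zc58) (kc xc20 yc35 zc17) (kc xc18 yc7 zc22) (kc xc10 yc0 zc22) (kc xc9 yc53 zc28) (kc xc7 yc1 zc30) (kc xc14 yc12 zc12) (kc xc14 yc12 zc13) (kc xc6 yc10 zc35) (kc xc12 yc35 zc54) (kc xc17 yc10 zc55) (kc xc21 yc7 zc16) (kc xc6 yc10 zc38) (kc xc6 yc33 zc56) (kc xc6 yc10 zc39) (kc xc12 yc10 zc41) (kc xc6 yc10 zc40) (kc xc7 yc41 zc9) (kc xc9 yc22 zc11) (kc xc7 yc1 zc41) (kc xc7 yc1 zc42) (kc xc6 yc33 zc59) (kc xc7 yc0 zc61)) (@D3.rec (fun _ => Pt) (kc xc6 yc33 zc53) (kc xc10 yc7 zc14) (kc xc10 yc6 zc50) (kc xc7 yc1 zc27) (kc xc7 yc1 zc28) (kc xc16 yc18 zc23) (kc xc6 yc46 zc61) (kc xc21 yc7 zc12) (kc xc6 yc10 zc49) (kc xc7 yc28 zc36) (kc xc6 yc33 zc55) (kc xc17 yc58 zc6) (kc xc21 yc7 zc37) (kc xc14 yc4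 zc39) (kc xc11 yc24 zc23) (kc xc9 yc57 zc24) (kc xc6 yc11 zc52) (kc xc6 yc10 zc58) (kc xc18 yc43 zc42) (kc xc11 yc31 zc22) (kc xc18 yc35 zc18) (kc xc21 yc7 zc42) (kc xc18 yc10 zc42) (kc xc20 yc27 zc4) (kc xc10 yc23 zc8) (kc xc18 yc10 zc43) (kc xc20 yc27 zc6) (kc xc18 yc13 zc47) (kc xc13 yc30 zc15) (kc xc14 yc23 zc36) (kc xc21 yc7 zc51) (kc xc14 yc23 zc38) (kc xc21 yc7 zc54) (kc xc6 yc11 zc3) (kc xc6 yc11 zc6) (kc xc21 yc7 zc60) (kc xc6 yc11 zc8) (kc xc6 yc11 zc22) (kc xc19 yc21 zc17) (kc xc6 yc29 zc61) (kc xc6 yc11 zc33) (kc xc17 yc19 zc18) (kc xc6 yc41 zc12) (kc xc21 yc8 zc3) (kc xc7 yc41 zc12) (kc xc9 yc23 zc2) (kc xc6 yc29 zc19) (kc xc21 yc8 zc4) (kc xc7 yc31 zc33) (kc xc6 yc11 zc15) (kc xc6 yc11 zc16) (kc xc6 yc40 zc29) (kc xc6 yc11 zc18) (kc xc12 yc25 zc49) (kc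 xc10 yc16 zc38) (kc xc6 yc11 zc20) (kc xc12 yc29 zc28) (kc xc6 yc11 zc24) (kc xc8 yc22 zc61) (kc xc18 yc26 zc7) (kc xc18 yc26 zc40) (kc xc12 yc28 zc11)) (@D3.rec (fun _ => Pt) (kc xc6 yc11 zc30) (kc xc21 yc8 zc15) (kc xc6 yc18 zc19) (kc xc21 yc8 zc19) (kc xc6 yc11 zc35) (kc xc12 yc27 zc57) (kc xc6 yc40 zc30) (kc xc6 yc11 zc34) (kc xc6 yc11 zc36) (kc xc17 yc31 zc15) (kc xc6 yc11 zc38) (kc xc12 yc28 zc13) (kc xc12 yc28 zc12) (kc xc17 yc31 zc18) (kc xc6 yc11 zc42) (kc xc6 yc11 zc41) (kc xc21 yc8 zc29) (kc xc6 yc27 zc52) (kc xc7 yc31 zc34) (kc xc6 yc12 zc61) (kc xc21 yc8 zc38) (kc xc12 yc18 zc40) (kc xc7 yc4 zc10) (kc xc15 yc46 zc54) (kc xc12 yc13 zc45) (kc xc6 yc49 zc44) (kc xc21 yc8 zc50) (kc xc12 yc27 zc16) (kc xc6 yc13 zc3) (kc xc21 yc8 zc58) (kc xc7 yc30 zc34) (kc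 xc21 yc8 zc60) (kc xc21 yc8 zc61) (kc xc21 yc9 zc0) (kc xc21 yc9 zc2) (kc xc6 yc11 zc53) (kc xc21 yc9 zc5) (kc xc6 yc11 zc58) (kc xc6 yc11 zc57) (kc xc6 yc11 zc59) (kc xc21 yc9 zc9) (kc xc6 yc11 zc60) (kc xc20 yc5 zc58) (kc xc20 yc5 zc59) (kc xc6 yc12 zc16) (kc xc18 yc33 zc8) (kc xc6 yc12 zc0) (kc xc16 yc0 zc18) (kc xc21 yc9 zc25) (kc xc21 yc9 zc27) (kc xc6 yc12 zc2) (kc xc6 yc12 zc3) (kc xc6 yc26 zc61) (kc xc6 yc25 zc53) (kc xc11 yc44 zc51) (kc xc6 yc12 zc5) (kc xc15 yc4 zc21) (kc xc17 yc30 zc10) (kc xc10 yc12 zc15) (kc xc6 yc12 zc8) (kc xc20 yc42 zc46) (kc xc20 yc42 zc49)) (@D3.rec (fun _ => Pt) (kc xc6 yc12 zc10) (kc xc6 yc20 zc14) (kc xc9 yc45 zc39) (kc xc6 yc12 zc13) (kc xc12 yc24 zc47) (kc xc8 yc25 zc33) (kc xc16 yc6 zc45) (kc xc16 yc48 zc16) (kc xc6 yc46 zc55)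 (kc xc6 yc47 zc36) (kc xc21 yc9 zc41) (kc xc10 yc20 zc33) (kc xc21 yc9 zc19) (kc xc12 yc53 zc24) (kc xc18 yc39 zc37) (kc xc12 yc29 zc18) (kc xc9 yc57 zc6) (kc xc6 yc27 zc5) (kc xc20 yc49 zc53) (kc xc6 yc12 zc27) (kc xc11 yc41 zc31) (kc xc6 yc12 zc25) (kc xc6 yc12 zc26) (kc xc11 yc12 zc42) (kc xc20 yc15 zc38) (kc xc6 yc12 zc30) (kc xc11 yc16 zc14) (kc xc21 yc8 zc6) (kc xc8 yc32 zc21) (kc xc10 yc45 zc41) (kc xc17 yc20 zc28) (kc xc8 yc30 zc33) (kc xc10 yc33 zc7) (kc xc6 yc12 zc41) (kc xc17 yc26 zc11) (kc xc20 yc55 zc40) (kc xc6 yc12 zc39) (kc xc12 yc9 zc5) (kc xc20 yc20 zc51) (kc xc10 yc12 zc7) (kc xc21 yc9 zc57) (kc xc11 yc57 zc33) (kc xc21 yc8 zc23) (kc xc6 yc12 zc47) (kc xc21 yc10 zc1) (kc xc11 yc35 zc60) (kc xc19 yc35 zc50) (kc xc6 yc12 zc51) (kc xc6 yc12 zc50) (kc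 xc6 yc12 zc53) (kc xc16 yc18 zc2) (kc xc16 yc1 zc4) (kc xc6 yc12 zc58) (kc xc9 yc18 zc49) (kc xc21 yc10 zc6) (kc xc21 yc10 zc7) (kc xc21 yc8 zc35) (kc xc21 yc10 zc9) (kc xc12 yc30 zc16) (kc xc12 yc19 zc51) (kc xc6 yc13 zc1) (kc xc16 yc6 zc11)) (@D3.rec (fun _ => Pt) (kc xc21 yc10 zc18) (kc xc6 yc13 zc2) (kc xc21 yc10 zc21) (kc xc20 yc33 zc50) (kc xc21 yc10 zc22) (kc xc6 yc13 zc4) (kc xc18 yc2 zc34) (kc xc6 yc13 zc6) (kc xc21 yc10 zc29) (kc xc6 yc13 zc7) (kc xc21 yc10 zc34) (kc xc21 yc10 zc38) (kc xc6 yc13 zc8) (kc xc21 yc10 zc41) (kc xc6 yc13 zc9) (kc xc21 yc10 zc46) (kc xc8 yc2 zc40) (kc xc8 yc2 zc41) (kc xc21 yc10 zc26) (kc xc16 yc34 zc25) (kc xc8 yc46 zc59) (kc xc7 yc19 zc15) (kc xc21 yc10 zc61) (kc xc6 yc13 zc13) (kc xc21 yc11 zc2) (kc xc21 yc11 zc7) (kc xc6 yc13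 zc17) (kc xc19 yc27 zc30) (kc xc19 yc27 zc31) (kc xc6 yc13 zc18) (kc xc20 yc29 zc20) (kc xc21 yc11 zc12) (kc xc6 yc13 zc21) (kc xc21 yc3 zc41) (kc xc11 yc3 zc50) (kc xc21 yc11 zc17) (kc xc6 yc13 zc24) (kc xc7 yc36 zc34) (kc xc6 yc13 zc25) (kc xc11 yc32 zc45) (kc xc6 yc13 zc26) (kc xc19 yc50 zc19) (kc xc9 yc44 zc45) (kc xc6 yc13 zc29) (kc xc21 yc11 zc31) (kc xc6 yc13 zc28) (kc xc21 yc11 zc33) (kc xc21 yc11 zc36) (kc xc19 yc17 zc50) (kc xc21 yc11 zc29) (kc xc14 yc7 zc54) (kc xc6 yc13 zc33) (kc xc14 yc49 zc5) (kc xc14 yc50 zc28) (kc xc21 yc11 zc39) (kc xc21 yc11 zc47) (kc xc7 yc57 zc27) (kc xc21 yc11 zc49) (kc xc21 yc11 zc52) (kc xc7 yc57 zc30) (kc xc16 yc33 zc49) (kc xc16 yc33 zc50)) (@D3.rec (fun _ => Pt) (kc xc6 yc13 zc36) (kc xc21 yc11 zc59) (kc xc16 yc34 zc18) (kc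 xc21 yc12 zc2) (kc xc16 yc34 zc20) (kc xc16 yc27 zc1) (kc xc8 yc2 zc3) (kc xc6 yc13 zc41) (kc xc21 yc12 zc13) (kc xc8 yc47 zc3) (kc xc12 yc8 zc43) (kc xc9 yc42 zc59) (kc xc8 yc1 zc42) (kc xc15 yc50 zc5) (kc xc8 yc47 zc4) (kc xc21 yc12 zc19) (kc xc6 yc13 zc48) (kc xc18 yc0 zc34) (kc xc6 yc13 zc50) (kc xc21 yc12 zc22) (kc xc13 yc38 zc29) (kc xc14 yc47 zc24) (kc xc9 yc14 zc2) (kc xc14 yc47 zc25) (kc xc9 yc19 zc37) (kc xc6 yc13 zc56) (kc xc13 yc54 zc45) (kc xc13 yc58 zc60) (kc xc21 yc12 zc28) (kc xc12 yc21 zc55) (kc xc21 yc12 zc31) (kc xc17 yc46 zc27) (kc xc12 yc21 zc57) (kc xc18 yc8 zc54) (kc xc6 yc13 zc59) (kc xc21 yc12 zc37) (kc xc20 yc21 zc20) (kc xc10 yc36 zc23) (kc xc18 yc11 zc30) (kc xc6 yc14 zc26) (kc xc15 yc23 zc29) (kc xc8 yc5 zc25) (kc xc6 yc14 zc2) (kc xc21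 yc12 zc46) (kc xc19 yc17 zc40) (kc xc6 yc14 zc4) (kc xc21 yc12 zc50) (kc xc6 yc14 zc7) (kc xc21 yc12 zc54) (kc xc12 yc10 zc61) (kc xc12 yc25 zc40) (kc xc20 yc19 zc55) (kc xc19 yc53 zc14) (kc xc21 yc12 zc59) (kc xc18 yc28 zc54) (kc xc11 yc23 zc16) (kc xc12 yc37 zc61) (kc xc18 yc28 zc58) (kc xc11 yc23 zc19) (kc xc6 yc14 zc15) (kc xc21 yc13 zc7) (kc xc6 yc14 zc18)) (@D3.rec (fun _ => Pt) (kc xc14 yc8 zc3) (kc xc21 yc13 zc14) (kc xc10 yc29 zc58) (kc xc21 yc13 zc12) (kc xc6 yc14 zc20) (kc xc18 yc13 zc10) (kc xc21 yc13 zc17) (kc xc21 yc13 zc19) (kc xc14 yc44 zc23) (kc xc18 yc9 zc25) (kc xc21 yc12 zc36) (kc xc6 yc14 zc24) (kc xc17 yc47 zc24) (kc xc8 yc1 zc3) (kc xc10 yc29 zc60) (kc xc20 yc21 zc27) (kc xc15 yc32 zc10) (kc xc20 yc46 zc61) (kc xc21 yc13 zc28) (kc xc6 yc15 zc51)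 (kc xc6 yc14 zc31) (kc xc10 yc53 zc56) (kc xc6 yc14 zc34) (kc xc18 yc45 zc12) (kc xc21 yc13 zc35) (kc xc21 yc13 zc32) (kc xc6 yc14 zc36) (kc xc21 yc12 zc20) (kc xc6 yc14 zc38) (kc xc21 yc13 zc42) (kc xc17 yc23 zc53) (kc xc21 yc13 zc41) (kc xc6 yc17 zc1) (kc xc11 yc35 zc27) (kc xc20 yc6 zc19) (kc xc13 yc39 zc4) (kc xc21 yc13 zc49) (kc xc6 yc14 zc45) (kc xc21 yc13 zc53) (kc xc6 yc14 zc42) (kc xc21 yc13 zc58) (kc xc19 yc51 zc7) (kc xc21 yc13 zc60) (kc xc6 yc14 zc43) (kc xc21 yc14 zc3) (kc xc21 yc14 zc2) (kc xc21 yc14 zc7) (kc xc21 yc14 zc10) (kc xc7 yc34 zc1) (kc xc21 yc14 zc12) (kc xc11 yc8 zc21) (kc xc9 yc50 zc28) (kc xc9 yc14 zc3) (kc xc21 yc14 zc13) (kc xc11 yc0 zc24) (kc xc14 yc55 zc16) (kc xc6 yc14 zc50) (kc xc13 yc15 zc11) (kc xc16 yc25 zc1) (kc xc14 yc0 zc33) (kc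 xc16 yc28 zc53) (kc xc11 yc7 zc14)) (@D3.rec (fun _ => Pt) (kc xc20 yc0 zc27) (kc xc6 yc14 zc52) (kc xc14 yc27 zc34) (kc xc20 yc0 zc42) (kc xc6 yc14 zc53) (kc xc15 yc8 zc38) (kc xc17 yc46 zc28) (kc xc15 yc0 zc28) (kc xc6 yc14 zc55) (kc xc16 yc31 zc53) (kc xc14 yc9 zc11) (kc xc7 yc32 zc4) (kc xc6 yc14 zc56) (kc xc19 yc54 zc21) (kc xc7 yc5 zc39) (kc xc7 yc5 zc40) (kc xc21 yc14 zc35) (kc xc6 yc14 zc58) (kc xc14 yc5 zc12) (kc xc7 yc1 zc33) (kc xc13 yc29 zc58) (kc xc11 yc7 zc2) (kc xc20 yc35 zc12) (kc xc7 yc52 zc37) (kc xc21 yc14 zc42) (kc xc13 yc32 zc53) (kc xc6 yc15 zc2) (kc xc18 yc26 zc57) (kc xc7 yc31 zc58) (kc xc7 yc24 zc17) (kc xc13 yc37 zc22) (kc xc7 yc17 zc19) (kc xc13 yc25 zc30) (kc xc13 yc25 zc29) (kc xc13 yc40 zc35) (kc xc13 yc31 zc9) (kc xc21 yc14 zc57) (kc xc12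 yc8 zc37) (kc xc7 yc50 zc22) (kc xc21 yc14 zc60) (kc xc7 yc52 zc36) (kc xc6 yc15 zc12) (kc xc7 yc56 zc12) (kc xc12 yc6 zc10) (kc xc10 yc36 zc31) (kc xc6 yc15 zc15) (kc xc21 yc15 zc3) (kc xc6 yc15 zc16) (kc xc18 yc35 zc30) (kc xc11 yc13 zc54) (kc xc9 yc49 zc56) (kc xc11 yc12 zc59) (kc xc20 yc7 zc60) (kc xc6 yc15 zc28) (kc xc6 yc15 zc27) (kc xc14 yc59 zc57) (kc xc9 yc3 zc32) (kc xc16 yc23 zc24) (kc xc8 yc50 zc48) (kc xc6 yc15 zc34) (kc xc21 yc15 zc17) (kc xc16 yc33 zc41)) (@D3.rec (fun _ => Pt) (kc xc21 yc15 zc15) (kc xc7 yc42 zc10) (kc xc7 yc42 zc11) (kc xc11 yc11 zc42) (kc xc11 yc30 zc10) (kc xc12 yc4 zc37) (kc xc19 yc52 zc6) (kc xc19 yc34 zc14) (kc xc12 yc31 zc26) (kc xc6 yc15 zc42) (kc xc20 yc31 zc46) (kc xc20 yc31 zc47) (kc xc21 yc15 zc30) (kc xc21 yc15 zc24) (kc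 xc19 yc41 zc48) (kc xc19 yc41 zc47) (kc xc6 yc15 zc43) (kc xc21 yc15 zc34) (kc xc6 yc15 zc48) (kc xc14 yc8 zc0) (kc xc19 yc51 zc48) (kc xc15 yc4 zc5) (kc xc6 yc15 zc49) (kc xc16 yc53 zc21) (kc xc11 yc6 zc59) (kc xc6 yc15 zc54) (kc xc17 yc6 zc17) (kc xc6 yc15 zc55) (kc xc12 yc24 zc3) (kc xc11 yc34 zc43) (kc xc6 yc31 zc52) (kc xc6 yc15 zc58) (kc xc10 yc19 zc6) (kc xc8 yc12 zc7) (kc xc6 yc15 zc60) (kc xc20 yc31 zc32) (kc xc20 yc31 zc33) (kc xc21 yc15 zc41) (kc xc18 yc47 zc52) (kc xc18 yc23 zc49) (kc xc18 yc23 zc48) (kc xc6 yc16 zc1) (kc xc13 yc48 zc29) (kc xc9 yc23 zc60) (kc xc20 yc22 zc53) (kc xc11 yc28 zc56) (kc xc6 yc16 zc5) (kc xc9 yc13 zc32) (kc xc11 yc22 zc3) (kc xc6 yc16 zc6) (kc xc9 yc11 zc11) (kc xc11 yc58 zc32) (kc xc20 yc22 zc26) (kc xc11 yc30 zc46) (kc xc6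 yc16 zc17) (kc xc14 yc26 zc9) (kc xc17 yc18 zc48) (kc xc9 yc5 zc41) (kc xc6 yc16 zc20) (kc xc21 yc15 zc48) (kc xc6 yc16 zc27) (kc xc6 yc16 zc24)) (@D3.rec (fun _ => Pt) (kc xc21 yc15 zc49) (kc xc7 yc40 zc54) (kc xc6 yc16 zc26) (kc xc13 yc30 zc20) (kc xc6 yc16 zc32) (kc xc6 yc16 zc30) (kc xc10 yc49 zc47) (kc xc16 yc44 zc46) (kc xc6 yc16 zc31) (kc xc13 yc54 zc28) (kc xc13 yc19 zc5) (kc xc6 yc16 zc35) (kc xc20 yc52 zc35) (kc xc11 yc28 zc60) (kc xc21 yc15 zc59) (kc xc6 yc16 zc37) (kc xc21 yc16 zc0) (kc xc21 yc15 zc61) (kc xc11 yc44 zc35) (kc xc11 yc27 zc48) (kc xc6 yc16 zc50) (kc xc11 yc44 zc34) (kc xc9 yc5 zc42) (kc xc12 yc31 zc30) (kc xc6 yc42 zc11) (kc xc6 yc16 zc53) (kc xc6 yc16 zc55) (kc xc11 yc41 zc43) (kc xc7 yc35 zc60) (kc xc6 yc16 zc43) (kc xc20 yc42 zc40) (kc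 xc11 yc51 zc59) (kc xc6 yc16 zc45) (kc xc11 yc4 zc44) (kc xc6 yc16 zc49) (kc xc21 yc16 zc13) (kc xc14 yc29 zc6) (kc xc9 yc25 zc4) (kc xc17 yc24 zc36) (kc xc17 yc10 zc48) (kc xc7 yc51 zc55) (kc xc12 yc1 zc54) (kc xc17 yc19 zc7) (kc xc18 yc15 zc31) (kc xc14 yc11 zc59) (kc xc6 yc20 zc21) (kc xc17 yc5 zc33) (kc xc6 yc44 zc33) (kc xc21 yc16 zc7) (kc xc9 yc5 zc25) (kc xc9 yc5 zc26) (kc xc6 yc16 zc61) (kc xc13 yc18 zc11) (kc xc6 yc17 zc0) (kc xc19 yc23 zc57) (kc xc11 yc28 zc6) (kc xc17 yc31 zc36) (kc xc6 yc17 zc5) (kc xc11 yc23 zc10) (kc xc6 yc17 zc6) (kc xc16 yc29 zc17) (kc xc12 yc6 zc49)) (@D3.rec (fun _ => Pt) (kc xc11 yc28 zc7) (kc xc16 yc28 zc24) (kc xc16 yc29 zc19) (kc xc16 yc29 zc20) (kc xc10 yc16 zc13) (kc xc12 yc11 zc51) (kc xc8 yc35 zc48) (kc xc10 yc2 zc33) (kc xc12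 yc11 zc48) (kc xc11 yc36 zc5) (kc xc11 yc36 zc4) (kc xc12 yc0 zc38) (kc xc6 yc18 zc31) (kc xc12 yc27 zc60) (kc xc17 yc28 zc51) (kc xc6 yc17 zc23) (kc xc6 yc17 zc22) (kc xc21 yc16 zc33) (kc xc12 yc0 zc44) (kc xc17 yc18 zc19) (kc xc17 yc18 zc20) (kc xc21 yc16 zc42) (kc xc17 yc10 zc37) (kc xc21 yc16 zc44) (kc xc21 yc16 zc46) (kc xc21 yc16 zc48) (kc xc12 yc28 zc1) (kc xc21 yc16 zc50) (kc xc21 yc16 zc51) (kc xc6 yc17 zc28) (kc xc17 yc28 zc50) (kc xc6 yc17 zc30) (kc xc6 yc28 zc37) (kc xc15 yc26 zc51) (kc xc21 yc16 zc55) (kc xc6 yc17 zc32) (kc xc6 yc17 zc35) (kc xc6 yc17 zc34) (kc xc8 yc23 zc26) (kc xc8 yc23 zc10) (kc xc6 yc17 zc58) (kc xc21 yc17 zc9) (kc xc13 yc13 zc30) (kc xc12 yc11 zc56) (kc xc6 yc17 zc39) (kc xc12 yc19 zc49) (kc xc12 yc11 zc50) (kc xc12 yc30 zc42) (kc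 xc12 yc11 zc8) (kc xc12 yc27 zc0) (kc xc12 yc11 zc46) (kc xc12 yc11 zc5) (kc xc12 yc20 zc2) (kc xc6 yc18 zc1) (kc xc21 yc17 zc37) (kc xc9 yc15 zc58) (kc xc12 yc11 zc43) (kc xc17 yc18 zc5) (kc xc15 yc51 zc53) (kc xc6 yc17 zc47) (kc xc21 yc17 zc45) (kc xc11 yc58 zc35)) (@D3.rec (fun _ => Pt) (kc xc6 yc17 zc51) (kc xc21 yc17 zc46) (kc xc6 yc17 zc50) (kc xc21 yc17 zc47) (kc xc6 yc17 zc54) (kc xc8 yc42 zc5) (kc xc6 yc17 zc56) (kc xc21 yc17 zc53) (kc xc21 yc17 zc55) (kc xc21 yc17 zc5) (kc xc17 yc29 zc7) (kc xc11 yc30 zc61) (kc xc9 yc15 zc16) (kc xc12 yc27 zc12) (kc xc6 yc17 zc61) (kc xc21 yc17 zc60) (kc xc21 yc17 zc61) (kc xc6 yc18 zc0) (kc xc21 yc18 zc3) (kc xc6 yc36 zc26) (kc xc21 yc18 zc9) (kc xc6 yc18 zc6) (kc xc6 yc41 zc29) (kc xc17 yc10 zc23) (kc xc12 yc18 zc41) (kc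 xc10 yc2 zc45) (kc xc10 yc2 zc49) (kc xc11 yc10 zc56) (kc xc12 yc12 zc52) (kc xc6 yc36 zc18) (kc xc6 yc18 zc11) (kc xc6 yc19 zc16) (kc xc12 yc30 zc40) (kc xc12 yc13 zc22) (kc xc14 yc35 zc46) (kc xc14 yc35 zc49) (kc xc11 yc40 zc49) (kc xc12 yc29 zc9) (kc xc6 yc29 zc23) (kc xc12 yc40 zc12) (kc xc6 yc18 zc17) (kc xc12 yc40 zc13) (kc xc12 yc26 zc30) (kc xc6 yc27 zc58) (kc xc9 yc16 zc27) (kc xc12 yc1 zc31) (kc xc12 yc39 zc8) (kc xc12 yc39 zc6) (kc xc11 yc38 zc28) (kc xc21 yc18 zc35) (kc xc6 yc39 zc42) (kc xc20 yc5 zc40) (kc xc12 yc12 zc28) (kc xc11 yc45 zc26) (kc xc6 yc18 zc27) (kc xc16 yc49 zc40) (kc xc20 yc5 zc44) (kc xc19 yc35 zc55) (kc xc21 yc18 zc45) (kc xc14 yc11 zc54) (kc xc21 yc18 zc51) (kc xc6 yc18 zc29)) (@D3.rec (fun _ => Pt) (kc xc6 yc37 zc16) (kc xc21 yc16 zc29)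 (kc xc21 yc18 zc55) (kc xc16 yc3 zc10) (kc xc6 yc18 zc33) (kc xc6 yc18 zc37) (kc xc6 yc18 zc36) (kc xc12 yc21 zc32) (kc xc6 yc18 zc38) (kc xc12 yc48 zc34) (kc xc6 yc18 zc53) (kc xc16 yc1 zc3) (kc xc12 yc20 zc61) (kc xc12 yc13 zc28) (kc xc6 yc18 zc42) (kc xc8 yc20 zc46) (kc xc15 yc43 zc12) (kc xc14 yc2 zc44) (kc xc12 yc13 zc27) (kc xc6 yc18 zc44) (kc xc9 yc28 zc18) (kc xc12 yc0 zc48) (kc xc12 yc12 zc33) (kc xc20 yc13 zc8) (kc xc9 yc33 zc8) (kc xc6 yc18 zc58) (kc xc13 yc24 zc61) (kc xc12 yc13 zc18) (kc xc12 yc13 zc13) (kc xc6 yc18 zc48) (kc xc21 yc19 zc28) (kc xc12 yc17 zc9) (kc xc6 yc18 zc51) (kc xc21 yc19 zc35) (kc xc19 yc5 zc48) (kc xc21 yc19 zc0) (kc xc21 yc19 zc41) (kc xc12 yc40 zc23) (kc xc8 yc12 zc52) (kc xc6 yc41 zc44) (kc xc6 yc18 zc56) (kc xc21 yc19 zc47) (kc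 xc6 yc18 zc57) (kc xc21 yc19 zc51) (kc xc6 yc42 zc43) (kc xc12 yc3 zc24) (kc xc6 yc58 zc2) (kc xc6 yc18 zc60) (kc xc6 yc52 zc32) (kc xc6 yc48 zc4) (kc xc21 yc19 zc59) (kc xc7 yc5 zc23) (kc xc21 yc20 zc3) (kc xc12 yc31 zc14) (kc xc21 yc20 zc5) (kc xc6 yc47 zc49) (kc xc6 yc19 zc8) (kc xc12 yc50 zc34) (kc xc12 yc50 zc35) (kc xc12 yc33 zc47) (kc xc6 yc19 zc11) (kc xc9 yc20 zc57)) (@D3.rec (fun _ => Pt) (kc xc6 yc34 zc61) (kc xc9 yc49 zc54) (kc xc21 yc8 zc14) (kc xc12 yc23 zc55) (kc xc8 yc22 zc30) (kc xc8 yc56 zc59) (kc xc10 yc52 zc61) (kc xc9 yc17 zc23) (kc xc9 yc16 zc48) (kc xc11 yc35 zc32) (kc xc14 yc18 zc45) (kc xc21 yc20 zc11) (kc xc14 yc23 zc60) (kc xc12 yc28 zc60) (kc xc6 yc23 zc51) (kc xc12 yc23 zc54) (kc xc9 yc15 zc39) (kc xc6 yc47 zc50) (kc xc9 yc25 zc45) (kc xc13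 yc10 zc58) (kc xc14 yc13 zc40) (kc xc21 yc20 zc20) (kc xc21 yc20 zc22) (kc xc18 yc23 zc34) (kc xc10 yc53 zc3) (kc xc6 yc26 zc4) (kc xc6 yc42 zc28) (kc xc13 yc1 zc8) (kc xc12 yc55 zc57) (kc xc12 yc52 zc26) (kc xc9 yc24 zc8) (kc xc17 yc16 zc50) (kc xc17 yc16 zc51) (kc xc12 yc38 zc40) (kc xc12 yc34 zc25) (kc xc10 yc45 zc0) (kc xc9 yc17 zc27) (kc xc11 yc32 zc52) (kc xc7 yc43 zc57) (kc xc13 yc20 zc55) (kc xc6 yc20 zc0) (kc xc9 yc22 zc20) (kc xc17 yc25 zc58) (kc xc11 yc35 zc0) (kc xc14 yc20 zc61) (kc xc13 yc19 zc27) (kc xc14 yc31 zc43) (kc xc21 yc20 zc36) (kc xc10 yc19 zc5) (kc xc10 yc18 zc43) (kc xc6 yc41 zc11) (kc xc8 yc35 zc19) (kc xc8 yc35 zc27) (kc xc9 yc19 zc23) (kc xc6 yc45 zc24) (kc xc6 yc20 zc6) (kc xc11 yc8 zc31) (kc xc17 yc59 zc34) (kc xc11 yc30 zc22) (kc xc6 yc20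 zc9) (kc xc16 yc30 zc42) (kc xc6 yc20 zc11)) (@D3.rec (fun _ => Pt) (kc xc20 yc1 zc39) (kc xc20 yc26 zc3) (kc xc14 yc12 zc28) (kc xc10 yc17 zc21) (kc xc12 yc31 zc5) (kc xc18 yc21 zc6) (kc xc10 yc7 zc12) (kc xc11 yc55 zc48) (kc xc9 yc23 zc49) (kc xc19 yc42 zc55) (kc xc18 yc25 zc1) (kc xc6 yc46 zc15) (kc xc11 yc21 zc56) (kc xc10 yc15 zc30) (kc xc9 yc32 zc46) (kc xc9 yc32 zc47) (kc xc9 yc19 zc4) (kc xc20 yc52 zc42) (kc xc10 yc4 zc34) (kc xc9 yc14 zc24) (kc xc10 yc2 zc41) (kc xc17 yc9 zc34) (kc xc6 yc20 zc24) (kc xc6 yc20 zc25) (kc xc10 yc2 zc44) (kc xc11 yc51 zc17) (kc xc8 yc58 zc9) (kc xc20 yc26 zc61) (kc xc11 yc58 zc61) (kc xc6 yc20 zc28) (kc xc12 yc32 zc22) (kc xc19 yc42 zc54) (kc xc17 yc5 zc49) (kc xc6 yc20 zc31) (kc xc20 yc39 zc10) (kc xc21 yc20 zc57) (kc xc9 yc31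 zc50) (kc xc21 yc20 zc59) (kc xc21 yc16 zc56) (kc xc21 yc20 zc60) (kc xc17 yc28 zc58) (kc xc17 yc28 zc59) (kc xc6 yc20 zc39) (kc xc12 yc36 zc37) (kc xc9 yc1 zc10) (kc xc16 yc0 zc4) (kc xc6 yc20 zc48) (kc xc15 yc56 zc4) (kc xc17 yc21 zc34) (kc xc17 yc21 zc33) (kc xc6 yc20 zc47) (kc xc13 yc19 zc52) (kc xc21 yc21 zc5) (kc xc9 yc28 zc52) (kc xc6 yc20 zc50) (kc xc17 yc27 zc22) (kc xc6 yc20 zc53) (kc xc15 yc16 zc28) (kc xc17 yc10 zc19) (kc xc6 yc20 zc56) (kc xc17 yc14 zc49) (kc xc17 yc14 zc50)) (@D3.rec (fun _ => Pt) (kc xc12 yc0 zc13) (kc xc17 yc10 zc11) (kc xc6 yc20 zc60) (kc xc9 yc28 zc0) (kc xc9 yc28 zc1) (kc xc6 yc21 zc1) (kc xc15 yc34 zc2) (kc xc6 yc21 zc2) (kc xc11 yc50 zc24) (kc xc11 yc50 zc25) (kc xc6 yc49 zc4) (kc xc17 yc30 zc45) (kc xc17 yc30 zc44) (kc xc6 yc21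 zc6) (kc xc12 yc34 zc59) (kc xc11 yc40 zc40) (kc xc12 yc40 zc37) (kc xc6 yc21 zc9) (kc xc18 yc36 zc17) (kc xc12 yc46 zc7) (kc xc21 yc21 zc24) (kc xc21 yc21 zc18) (kc xc21 yc21 zc27) (kc xc21 yc21 zc30) (kc xc6 yc21 zc10) (kc xc21 yc21 zc36) (kc xc14 yc28 zc45) (kc xc21 yc21 zc39) (kc xc6 yc21 zc13) (kc xc16 yc3 zc50) (kc xc17 yc17 zc59) (kc xc6 yc21 zc14) (kc xc21 yc21 zc45) (kc xc6 yc21 zc15) (kc xc9 yc29 zc42) (kc xc9 yc29 zc41) (kc xc6 yc21 zc19) (kc xc21 yc21 zc55) (kc xc6 yc21 zc17) (kc xc14 yc54 zc35) (kc xc21 yc21 zc52) (kc xc20 yc46 zc28) (kc xc21 yc21 zc54) (kc xc14 yc34 zc58) (kc xc12 yc33 zc45) (kc xc6 yc21 zc23) (kc xc13 yc1 zc10) (kc xc21 yc22 zc0) (kc xc6 yc21 zc25) (kc xc16 yc5 zc55) (kc xc13 yc9 zc10) (kc xc21 yc22 zc5) (kc xc6 yc21 zc39) (kc xc21 yc22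 zc10) (kc xc6 yc21 zc28) (kc xc7 yc36 zc39) (kc xc6 yc21 zc30) (kc xc20 yc4 zc6) (kc xc6 yc21 zc31) (kc xc10 yc53 zc21) (kc xc12 yc0 zc42) (kc xc6 yc21 zc46)) (@D3.rec (fun _ => Pt) (kc xc21 yc22 zc23) (kc xc6 yc21 zc34) (kc xc9 yc11 zc54) (kc xc6 yc21 zc36) (kc xc9 yc25 zc53) (kc xc7 yc53 zc10) (kc xc20 yc46 zc31) (kc xc7 yc41 zc37) (kc xc7 yc42 zc48) (kc xc12 yc13 zc31) (kc xc9 yc31 zc51) (kc xc21 yc22 zc32) (kc xc9 yc44 zc21) (kc xc21 yc16 zc59) (kc xc9 yc44 zc22) (kc xc21 yc22 zc39) (kc xc21 yc22 zc42) (kc xc21 yc22 zc21) (kc xc21 yc22 zc45) (kc xc12 yc42 zc2) (kc xc9 yc14 zc18) (kc xc17 yc26 zc23) (kc xc21 yc22 zc47) (kc xc6 yc21 zc50) (kc xc12 yc38 zc52) (kc xc6 yc21 zc52) (kc xc17 yc38 zc37) (kc xc21 yc22 zc51) (kc xc9 yc24 zc3) (kc xc12 yc39 zc47) (kc xc6 yc44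 zc18) (kc xc6 yc22 zc2) (kc xc6 yc21 zc57) (kc xc19 yc0 zc44) (kc xc6 yc21 zc58) (kc xc20 yc4 zc7) (kc xc7 yc27 zc5) (kc xc6 yc22 zc7) (kc xc21 yc23 zc0) (kc xc6 yc21 zc60) (kc xc15 yc48 zc53) (kc xc6 yc21 zc61) (kc xc6 yc22 zc0) (kc xc11 yc49 zc14) (kc xc6 yc22 zc1) (kc xc12 yc31 zc41) (kc xc12 yc49 zc51) (kc xc20 yc26 zc6) (kc xc9 yc22 zc47) (kc xc21 yc23 zc5) (kc xc21 yc23 zc8) (kc xc21 yc22 zc59) (kc xc14 yc48 zc1) (kc xc21 yc22 zc61) (kc xc21 yc23 zc2) (kc xc6 yc22 zc11) (kc xc6 yc22 zc13) (kc xc14 yc28 zc58) (kc xc21 yc23 zc19) (kc xc21 yc23 zc23) (kc xc11 yc57 zc32) (kc xc6 yc22 zc17)) (@D3.rec (fun _ => Pt) (kc xc21 yc23 zc16) (kc xc21 yc23 zc30) (kc xc9 yc38 zc4) (kc xc21 yc23 zc26) (kc xc21 yc23 zc33) (kc xc21 yc23 zc34) (kc xc21 yc23 zc36) (kc xc6 yc22 zc19)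 (kc xc21 yc23 zc41) (kc xc6 yc46 zc4) (kc xc6 yc46 zc5) (kc xc21 yc23 zc45) (kc xc21 yc23 zc47) (kc xc6 yc22 zc21) (kc xc17 yc39 zc23) (kc xc6 yc22 zc23) (kc xc21 yc23 zc55) (kc xc21 yc23 zc53) (kc xc16 yc5 zc40) (kc xc21 yc23 zc60) (kc xc21 yc23 zc61) (kc xc21 yc24 zc1) (kc xc21 yc24 zc4) (kc xc6 yc22 zc26) (kc xc21 yc24 zc9) (kc xc21 yc24 zc14) (kc xc9 yc14 zc46) (kc xc9 yc0 zc6) (kc xc21 yc24 zc7) (kc xc9 yc32 zc25) (kc xc9 yc31 zc27) (kc xc11 yc22 zc44) (kc xc13 yc37 zc12) (kc xc9 yc18 zc58) (kc xc13 yc52 zc29) (kc xc12 yc18 zc39) (kc xc6 yc22 zc34) (kc xc8 yc33 zc55) (kc xc16 yc4 zc58) (kc xc12 yc18 zc35) (kc xc12 yc3 zc21) (kc xc12 yc12 zc24) (kc xc17 yc16 zc28) (kc xc13 yc0 zc3) (kc xc6 yc22 zc41) (kc xc21 yc24 zc38) (kc xc6 yc22 zc38) (kc xc21 yc24 zc41) (kc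 xc12 yc21 zc26) (kc xc6 yc22 zc39) (kc xc7 yc4 zc41) (kc xc12 yc27 zc23) (kc xc6 yc22 zc40) (kc xc16 yc4 zc11) (kc xc21 yc6 zc35) (kc xc21 yc24 zc57) (kc xc20 yc6 zc41) (kc xc9 yc28 zc8) (kc xc7 yc11 zc45) (kc xc12 yc33 zc25) (kc xc6 yc58 zc0) (kc xc16 yc17 zc29)) (@D3.rec (fun _ => Pt) (kc xc17 yc14 zc13) (kc xc6 yc22 zc48) (kc xc19 yc0 zc43) (kc xc12 yc58 zc54) (kc xc7 yc48 zc50) (kc xc7 yc5 zc24) (kc xc6 yc22 zc50) (kc xc12 yc21 zc17) (kc xc6 yc51 zc31) (kc xc9 yc28 zc6) (kc xc7 yc5 zc19) (kc xc6 yc51 zc28) (kc xc21 yc25 zc17) (kc xc13 yc37 zc47) (kc xc6 yc22 zc61) (kc xc21 yc25 zc26) (kc xc6 yc23 zc0) (kc xc6 yc57 zc60) (kc xc6 yc51 zc26) (kc xc7 yc26 zc40) (kc xc9 yc19 zc24) (kc xc12 yc21 zc48) (kc xc21 yc25 zc37) (kc xc6 yc22 zc58) (kc xc6 yc22 zc56) (kc xc17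 yc43 zc0) (kc xc6 yc22 zc57) (kc xc17 yc43 zc1) (kc xc12 yc21 zc1) (kc xc6 yc22 zc59) (kc xc17 yc37 zc19) (kc xc8 yc39 zc58) (kc xc6 yc22 zc60) (kc xc21 yc25 zc49) (kc xc18 yc7 zc12) (kc xc21 yc23 zc28) (kc xc21 yc25 zc54) (kc xc6 yc36 zc10) (kc xc18 yc7 zc15) (kc xc21 yc25 zc58) (kc xc21 yc25 zc36) (kc xc9 yc39 zc16) (kc xc6 yc23 zc6) (kc xc12 yc28 zc20) (kc xc12 yc26 zc61) (kc xc6 yc23 zc9) (kc xc21 yc25 zc60) (kc xc12 yc50 zc20) (kc xc10 yc15 zc19) (kc xc12 yc11 zc45) (kc xc13 yc0 zc2) (kc xc12 yc4 zc59) (kc xc6 yc23 zc20) (kc xc14 yc9 zc23) (kc xc6 yc23 zc21) (kc xc13 yc26 zc10) (kc xc6 yc43 zc52) (kc xc12 yc50 zc15) (kc xc18 yc10 zc9) (kc xc6 yc23 zc17) (kc xc6 yc23 zc15) (kc xc17 yc41 zc5)) (@D3.rec (fun _ => Pt) (kc xc12 yc33 zc16) (kc xc6 yc23 zc16) (kc xc12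 yc11 zc52) (kc xc6 yc23 zc18) (kc xc21 yc26 zc3) (kc xc21 yc26 zc22) (kc xc21 yc26 zc25) (kc xc18 yc38 zc9) (kc xc21 yc26 zc9) (kc xc17 yc55 zc53) (kc xc8 yc22 zc14) (kc xc21 yc4 zc42) (kc xc11 yc59 zc52) (kc xc6 yc23 zc27) (kc xc13 yc0 zc37) (kc xc21 yc26 zc30) (kc xc11 yc59 zc53) (kc xc9 yc52 zc53) (kc xc18 yc13 zc27) (kc xc6 yc23 zc30) (kc xc6 yc23 zc29) (kc xc21 yc26 zc38) (kc xc9 yc38 zc44) (kc xc8 yc40 zc0) (kc xc16 yc0 zc15) (kc xc12 yc27 zc11) (kc xc17 yc55 zc52) (kc xc6 yc23 zc32) (kc xc16 yc16 zc51) (kc xc14 yc54 zc33) (kc xc6 yc23 zc35) (kc xc6 yc23 zc34) (kc xc21 yc26 zc43) (kc xc15 yc25 zc24) (kc xc18 yc43 zc15) (kc xc19 yc10 zc54) (kc xc6 yc23 zc36) (kc xc12 yc0 zc25) (kc xc6 yc23 zc37) (kc xc15 yc48 zc45) (kc xc21 yc26 zc50) (kc xc6 yc23 zc38) (kc xc18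 yc24 zc48) (kc xc12 yc59 zc0) (kc xc6 yc23 zc40) (kc xc21 yc26 zc56) (kc xc21 yc26 zc58) (kc xc15 yc49 zc17) (kc xc16 yc3 zc51) (kc xc15 yc33 zc25) (kc xc15 yc57 zc10) (kc xc15 yc45 zc24) (kc xc10 yc55 zc35) (kc xc11 yc59 zc28) (kc xc17 yc45 zc19) (kc xc17 yc45 zc17) (kc xc12 yc55 zc17) (kc xc12 yc0 zc49) (kc xc9 yc19 zc16) (kc xc13 yc52 zc27) (kc xc9 yc28 zc4) (kc xc12 yc13 zc12)) (@D3.rec (fun _ => Pt) (kc xc21 yc27 zc12) (kc xc12 yc19 zc28) (kc xc6 yc23 zc61) (kc xc21 yc27 zc15) (kc xc6 yc24 zc0) (kc xc6 yc23 zc57) (kc xc21 yc27 zc21) (kc xc12 yc59 zc11) (kc xc14 yc3 zc20) (kc xc6 yc23 zc59) (kc xc21 yc27 zc29) (kc xc21 yc5 zc37) (kc xc6 yc23 zc60) (kc xc21 yc27 zc33) (kc xc21 yc27 zc14) (kc xc21 yc27 zc36) (kc xc21 yc27 zc39) (kc xc12 yc19 zc7) (kc xc6 yc24 zc2)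 (kc xc17 yc14 zc41) (kc xc6 yc24 zc4) (kc xc21 yc27 zc48) (kc xc21 yc18 zc13) (kc xc21 yc21 zc7) (kc xc7 yc4 zc3) (kc xc21 yc27 zc54) (kc xc12 yc18 zc48) (kc xc6 yc24 zc14) (kc xc21 yc27 zc59) (kc xc6 yc24 zc15) (kc xc7 yc17 zc26) (kc xc13 yc15 zc19) (kc xc12 yc13 zc7) (kc xc21 yc28 zc11) (kc xc6 yc24 zc11) (kc xc6 yc24 zc9) (kc xc21 yc28 zc15) (kc xc6 yc24 zc10) (kc xc13 yc37 zc14) (kc xc6 yc24 zc12) (kc xc16 yc3 zc5) (kc xc21 yc28 zc21) (kc xc6 yc24 zc13) (kc xc21 yc28 zc25) (kc xc21 yc27 zc58) (kc xc21 yc28 zc28) (kc xc21 yc28 zc31) (kc xc19 yc0 zc42) (kc xc12 yc19 zc21) (kc xc6 yc24 zc17) (kc xc6 yc24 zc18) (kc xc6 yc24 zc19) (kc xc21 yc28 zc33) (kc xc21 yc28 zc35) (kc xc21 yc28 zc37) (kc xc12 yc6 zc29) (kc xc21 yc28 zc40) (kc xc12 yc6 zc32) (kc xc12 yc46 zc37)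 (kc xc6 yc24 zc28) (kc xc12 yc37 zc45) (kc xc21 yc28 zc46)) (@D3.rec (fun _ => Pt) (kc xc6 yc24 zc29) (kc xc16 yc29 zc41) (kc xc6 yc24 zc31) (kc xc21 yc28 zc48) (kc xc10 yc29 zc29) (kc xc8 yc52 zc31) (kc xc16 yc24 zc28) (kc xc6 yc24 zc38) (kc xc18 yc57 zc3) (kc xc18 yc56 zc46) (kc xc21 yc28 zc54) (kc xc6 yc36 zc45) (kc xc16 yc30 zc34) (kc xc16 yc30 zc35) (kc xc11 yc47 zc12) (kc xc6 yc24 zc44) (kc xc21 yc28 zc61) (kc xc6 yc24 zc41) (kc xc15 yc4 zc33) (kc xc20 yc13 zc2) (kc xc21 yc29 zc1) (kc xc18 yc56 zc61) (kc xc15 yc5 zc38) (kc xc15 yc5 zc39) (kc xc11 yc47 zc8) (kc xc16 yc29 zc33) (kc xc21 yc29 zc10) (kc xc11 yc27 zc46) (kc xc12 yc31 zc4) (kc xc12 yc32 zc23) (kc xc21 yc29 zc12) (kc xc13 yc59 zc1) (kc xc6 yc24 zc48) (kc xc17 yc53 zc15) (kc xc8 yc51 zc25) (kc xc15 yc8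 zc46) (kc xc6 yc24 zc50) (kc xc8 yc47 zc18) (kc xc21 yc29 zc22) (kc xc6 yc24 zc51) (kc xc14 yc1 zc57) (kc xc16 yc32 zc17) (kc xc21 yc29 zc30) (kc xc16 yc24 zc12) (kc xc6 yc24 zc53) (kc xc16 yc24 zc14) (kc xc21 yc29 zc34) (kc xc9 yc19 zc38) (kc xc9 yc19 zc39) (kc xc21 yc14 zc37) (kc xc6 yc24 zc55) (kc xc13 yc57 zc53) (kc xc6 yc24 zc57) (kc xc21 yc29 zc47) (kc xc7 yc29 zc23) (kc xc21 yc29 zc46) (kc xc11 yc25 zc18) (kc xc6 yc24 zc59) (kc xc21 yc29 zc55) (kc xc7 yc50 zc8) (kc xc21 yc29 zc58) (kc xc21 yc29 zc54)) (@D3.rec (fun _ => Pt) (kc xc6 yc59 zc57) (kc xc9 yc19 zc41) (kc xc9 yc19 zc42) (kc xc21 yc14 zc49) (kc xc11 yc45 zc21) (kc xc6 yc25 zc2) (kc xc18 yc40 zc59) (kc xc21 yc30 zc5) (kc xc21 yc30 zc1) (kc xc11 yc21 zc40) (kc xc10 yc58 zc14) (kc xc7 yc28 zc28) (kc xc6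 yc25 zc6) (kc xc20 yc36 zc1) (kc xc20 yc36 zc2) (kc xc12 yc37 zc60) (kc xc8 yc0 zc14) (kc xc8 yc0 zc7) (kc xc11 yc29 zc43) (kc xc11 yc29 zc44) (kc xc21 yc30 zc20) (kc xc6 yc25 zc11) (kc xc6 yc25 zc10) (kc xc14 yc13 zc52) (kc xc6 yc25 zc13) (kc xc20 yc40 zc30) (kc xc20 yc51 zc32) (kc xc20 yc22 zc42) (kc xc11 yc30 zc47) (kc xc21 yc30 zc29) (kc xc6 yc25 zc20) (kc xc6 yc25 zc18) (kc xc21 yc30 zc32) (kc xc6 yc25 zc19) (kc xc21 yc30 zc37) (kc xc11 yc16 zc55) (kc xc15 yc23 zc11) (kc xc9 yc55 zc35) (kc xc9 yc23 zc7) (kc xc17 yc19 zc10) (kc xc6 yc25 zc24) (kc xc9 yc24 zc39) (kc xc21 yc30 zc41) (kc xc6 yc25 zc25) (kc xc10 yc5 zc19) (kc xc8 yc44 zc26) (kc xc16 yc24 zc17) (kc xc14 yc1 zc52) (kc xc7 yc20 zc24) (kc xc11 yc34 zc11) (kc xc6 yc25 zc35) (kc xc21 yc12 zc25) (kc xc21 yc12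 zc26) (kc xc21 yc30 zc49) (kc xc12 yc14 zc15) (kc xc12 yc14 zc3) (kc xc12 yc26 zc37) (kc xc19 yc5 zc52) (kc xc12 yc48 zc35) (kc xc21 yc6 zc8) (kc xc14 yc57 zc6) (kc xc8 yc36 zc2)) (@D3.rec (fun _ => Pt) (kc xc9 yc25 zc25) (kc xc9 yc22 zc45) (kc xc8 yc12 zc11) (kc xc12 yc9 zc28) (kc xc9 yc12 zc7) (kc xc6 yc38 zc54) (kc xc6 yc25 zc57) (kc xc6 yc25 zc58) (kc xc18 yc16 zc51) (kc xc13 yc6 zc19) (kc xc6 yc25 zc60) (kc xc10 yc12 zc40) (kc xc6 yc25 zc61) (kc xc21 yc30 zc57) (kc xc6 yc26 zc2) (kc xc9 yc29 zc34) (kc xc6 yc26 zc5) (kc xc21 yc30 zc58) (kc xc14 yc48 zc52) (kc xc21 yc31 zc4) (kc xc21 yc31 zc6) (kc xc21 yc31 zc7) (kc xc6 yc27 zc22) (kc xc6 yc26 zc14) (kc xc6 yc26 zc11) (kc xc9 yc28 zc12) (kc xc9 yc28 zc11) (kc xc21 yc31 zc14) (kc xc21 yc31 zc17) (kc xc21 yc31 zc10)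 (kc xc6 yc26 zc17) (kc xc21 yc31 zc22) (kc xc21 yc8 zc49) (kc xc21 yc31 zc20) (kc xc6 yc26 zc20) (kc xc21 yc31 zc27) (kc xc21 yc31 zc25) (kc xc21 yc31 zc30) (kc xc21 yc31 zc31) (kc xc6 yc26 zc21) (kc xc17 yc27 zc48) (kc xc6 yc26 zc22) (kc xc18 yc9 zc55) (kc xc18 yc24 zc49) (kc xc18 yc29 zc41) (kc xc6 yc26 zc23) (kc xc18 yc9 zc52) (kc xc12 yc4 zc4) (kc xc19 yc39 zc18) (kc xc6 yc26 zc27) (kc xc17 yc4 zc39) (kc xc6 yc26 zc34) (kc xc21 yc31 zc45) (kc xc21 yc31 zc46) (kc xc21 yc31 zc47) (kc xc6 yc26 zc29) (kc xc6 yc26 zc30) (kc xc17 yc17 zc60) (kc xc6 yc26 zc31) (kc xc7 yc26 zc54) (kc xc6 yc26 zc41) (kc xc15 yc58 zc37)) (@D3.rec (fun _ => Pt) (kc xc7 yc43 zc5) (kc xc6 yc26 zc33) (kc xc21 yc31 zc57) (kc xc11 yc1 zc13) (kc xc19 yc52 zc31) (kc xc19 yc51 zc59) (kc xc6 yc26 zc35)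 (kc xc21 yc31 zc61) (kc xc16 yc49 zc50) (kc xc9 yc37 zc31) (kc xc9 yc2 zc20) (kc xc6 yc47 zc57) (kc xc9 yc2 zc19) (kc xc21 yc32 zc10) (kc xc21 yc32 zc13) (kc xc21 yc32 zc15) (kc xc21 yc32 zc18) (kc xc21 yc31 zc56) (kc xc19 yc39 zc46) (kc xc11 yc21 zc9) (kc xc21 yc32 zc20) (kc xc6 yc26 zc44) (kc xc12 yc49 zc18) (kc xc14 yc53 zc5) (kc xc6 yc26 zc46) (kc xc21 yc32 zc29) (kc xc7 yc36 zc55) (kc xc7 yc45 zc32) (kc xc6 yc26 zc49) (kc xc21 yc32 zc32) (kc xc6 yc26 zc50) (kc xc6 yc26 zc51) (kc xc21 yc32 zc35) (kc xc6 yc27 zc0) (kc xc21 yc32 zc36) (kc xc21 yc32 zc37) (kc xc12 yc47 zc1) (kc xc19 yc52 zc57) (kc xc19 yc53 zc12) (kc xc6 yc26 zc57) (kc xc12 yc6 zc50) (kc xc18 yc16 zc43) (kc xc6 yc39 zc22) (kc xc21 yc32 zc45) (kc xc21 yc32 zc41) (kc xc21 yc9 zc31) (kc xc7 yc26 zc8)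 (kc xc13 yc24 zc24) (kc xc13 yc24 zc14) (kc xc12 yc2 zc53) (kc xc6 yc27 zc3) (kc xc19 yc25 zc8) (kc xc21 yc32 zc48) (kc xc6 yc27 zc7) (kc xc19 yc39 zc19) (kc xc6 yc27 zc6) (kc xc21 yc32 zc55) (kc xc21 yc32 zc50) (kc xc21 yc32 zc52) (kc xc6 yc27 zc9) (kc xc6 yc27 zc11) (kc xc7 yc49 zc49)) (@D3.rec (fun _ => Pt) (kc xc7 yc20 zc43) (kc xc7 yc20 zc50) (kc xc14 yc3 zc21) (kc xc11 yc24 zc3) (kc xc21 yc32 zc61) (kc xc21 yc33 zc1) (kc xc6 yc27 zc15) (kc xc21 yc33 zc5) (kc xc15 yc37 zc7) (kc xc6 yc27 zc17) (kc xc17 yc28 zc60) (kc xc12 yc54 zc27) (kc xc17 yc2 zc11) (kc xc21 yc33 zc14) (kc xc6 yc27 zc20) (kc xc13 yc22 zc7) (kc xc21 yc33 zc19) (kc xc17 yc3 zc61) (kc xc21 yc33 zc25) (kc xc7 yc52 zc1) (kc xc20 yc40 zc0) (kc xc8 yc34 zc27) (kc xc21 yc33 zc33) (kc xc14 yc8 zc14) (kc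 xc6 yc27 zc23) (kc xc21 yc33 zc36) (kc xc16 yc35 zc28) (kc xc9 yc11 zc24) (kc xc16 yc52 zc32) (kc xc7 yc5 zc7) (kc xc12 yc12 zc42) (kc xc6 yc27 zc30) (kc xc9 yc36 zc4) (kc xc6 yc42 zc44) (kc xc6 yc41 zc40) (kc xc17 yc16 zc53) (kc xc6 yc27 zc35) (kc xc12 yc23 zc56) (kc xc9 yc15 zc49) (kc xc21 yc10 zc11) (kc xc6 yc48 zc52) (kc xc6 yc27 zc46) (kc xc7 yc29 zc46) (kc xc6 yc27 zc47) (kc xc13 yc5 zc10) (kc xc21 yc16 zc61) (kc xc6 yc27 zc43) (kc xc6 yc27 zc41) (kc xc6 yc27 zc42) (kc xc9 yc28 zc21) (kc xc6 yc27 zc44) (kc xc8 yc41 zc32) (kc xc8 yc41 zc29) (kc xc6 yc27 zc45) (kc xc17 yc43 zc53) (kc xc13 yc1 zc14) (kc xc17 yc13 zc42) (kc xc9 yc35 zc50) (kc xc11 yc46 zc44) (kc xc21 yc22 zc49) (kc xc8 yc14 zc57) (kc xc12 yc19 zc44)) (@D3.rec (fun _ => Pt) (kc xc12 yc11 zc49) (kc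 xc12 yc27 zc10) (kc xc13 yc52 zc34) (kc xc12 yc27 zc7) (kc xc6 yc27 zc54) (kc xc8 yc34 zc21) (kc xc16 yc5 zc50) (kc xc12 yc27 zc3) (kc xc6 yc36 zc19) (kc xc12 yc0 zc56) (kc xc12 yc27 zc1) (kc xc12 yc20 zc25) (kc xc12 yc12 zc13) (kc xc6 yc27 zc61) (kc xc21 yc34 zc37) (kc xc21 yc18 zc33) (kc xc12 yc3 zc27) (kc xc6 yc27 zc59) (kc xc17 yc14 zc31) (kc xc21 yc5 zc38) (kc xc12 yc0 zc24) (kc xc6 yc28 zc0) (kc xc21 yc34 zc48) (kc xc12 yc18 zc51) (kc xc16 yc0 zc13) (kc xc21 yc34 zc46) (kc xc18 yc9 zc44) (kc xc20 yc23 zc15) (kc xc13 yc37 zc13) (kc xc21 yc34 zc58) (kc xc6 yc28 zc3) (kc xc21 yc34 zc59) (kc xc18 yc9 zc42) (kc xc15 yc42 zc38) (kc xc10 yc7 zc11) (kc xc11 yc36 zc2) (kc xc11 yc12 zc14) (kc xc6 yc35 zc9) (kc xc21 yc5 zc59) (kc xc6 yc35 zc5) (kc xc6 yc28 zc11) (kc xc9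 yc21 zc43) (kc xc21 yc34 zc61) (kc xc6 yc59 zc55) (kc xc9 yc21 zc42) (kc xc11 yc30 zc17) (kc xc6 yc32 zc16) (kc xc6 yc32 zc15) (kc xc9 yc21 zc27) (kc xc6 yc28 zc16) (kc xc17 yc17 zc6) (kc xc7 yc35 zc45) (kc xc7 yc35 zc46) (kc xc7 yc35 zc13) (kc xc6 yc37 zc26) (kc xc9 yc24 zc32) (kc xc12 yc1 zc21) (kc xc12 yc3 zc5) (kc xc6 yc45 zc55) (kc xc6 yc28 zc29) (kc xc12 yc11 zc13) (kc xc9 yc22 zc10)) (@D3.rec (fun _ => Pt) (kc xc6 yc28 zc41) (kc xc12 yc11 zc26) (kc xc14 yc12 zc43) (kc xc13 yc19 zc13) (kc xc7 yc42 zc27) (kc xc13 yc20 zc44) (kc xc21 yc35 zc11) (kc xc21 yc16 zc54) (kc xc10 yc2 zc42) (kc xc11 yc51 zc57) (kc xc10 yc2 zc46) (kc xc12 yc2 zc61) (kc xc12 yc3 zc12) (kc xc12 yc3 zc11) (kc xc11 yc10 zc39) (kc xc6 yc28 zc49) (kc xc17 yc58 zc0) (kc xc18 yc24 zc51) (kc xc10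 yc6 zc35) (kc xc11 yc49 zc37) (kc xc12 yc19 zc43) (kc xc7 yc38 zc25) (kc xc18 yc25 zc47) (kc xc11 yc25 zc45) (kc xc21 yc35 zc17) (kc xc14 yc4 zc42) (kc xc10 yc2 zc47) (kc xc10 yc4 zc57) (kc xc21 yc7 zc41) (kc xc6 yc29 zc3) (kc xc21 yc35 zc22) (kc xc21 yc9 zc48) (kc xc8 yc24 zc61) (kc xc6 yc47 zc10) (kc xc9 yc21 zc25) (kc xc21 yc35 zc26) (kc xc6 yc29 zc9) (kc xc9 yc23 zc34) (kc xc9 yc27 zc11) (kc xc17 yc11 zc48) (kc xc17 yc10 zc40) (kc xc21 yc35 zc28) (kc xc13 yc40 zc54) (kc xc14 yc13 zc3) (kc xc6 yc29 zc15) (kc xc6 yc29 zc13) (kc xc6 yc40 zc59) (kc xc17 yc21 zc22) (kc xc9 yc7 zc33) (kc xc9 yc7 zc34) (kc xc8 yc14 zc51) (kc xc12 yc46 zc14) (kc xc6 yc29 zc20) (kc xc6 yc29 zc18) (kc xc13 yc0 zc29) (kc xc12 yc38 zc20) (kc xc21 yc35 zc39) (kc xc21 yc35 zc41) (kc xc21 yc15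 zc13) (kc xc21 yc18 zc28) (kc xc12 yc14 zc13) (kc xc12 yc38 zc21)) (@D3.rec (fun _ => Pt) (kc xc9 yc21 zc39) (kc xc9 yc7 zc57) (kc xc12 yc38 zc22) (kc xc6 yc29 zc26) (kc xc12 yc46 zc15) (kc xc17 yc10 zc38) (kc xc6 yc29 zc30) (kc xc16 yc59 zc45) (kc xc16 yc59 zc44) (kc xc12 yc12 zc37) (kc xc7 yc27 zc34) (kc xc21 yc35 zc57) (kc xc6 yc29 zc38) (kc xc6 yc29 zc36) (kc xc21 yc1 zc51) (kc xc21 yc35 zc58) (kc xc19 yc20 zc42) (kc xc21 yc35 zc61) (kc xc12 yc4 zc15) (kc xc20 yc44 zc4) (kc xc6 yc29 zc42) (kc xc21 yc36 zc5) (kc xc6 yc29 zc45) (kc xc17 yc17 zc14) (kc xc6 yc29 zc49) (kc xc6 yc29 zc48) (kc xc17 yc13 zc43) (kc xc6 yc29 zc52) (kc xc12 yc2 zc56) (kc xc11 yc40 zc46) (kc xc6 yc30 zc3) (kc xc21 yc36 zc12) (kc xc6 yc30 zc4) (kc xc21 yc36 zc17) (kc xc21 yc36 zc20) (kc xc6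 yc29 zc55) (kc xc21 yc36 zc22) (kc xc12 yc1 zc26) (kc xc14 yc25 zc51) (kc xc6 yc30 zc1) (kc xc6 yc30 zc6) (kc xc11 yc39 zc57) (kc xc6 yc30 zc2) (kc xc21 yc36 zc31) (kc xc21 yc36 zc10) (kc xc18 yc43 zc50) (kc xc10 yc0 zc14) (kc xc21 yc36 zc32) (kc xc21 yc21 zc58) (kc xc21 yc26 zc41) (kc xc9 yc22 zc1) (kc xc11 yc41 zc32) (kc xc17 yc29 zc55) (kc xc12 yc32 zc5) (kc xc17 yc1 zc30) (kc xc6 yc30 zc21) (kc xc15 yc8 zc10) (kc xc6 yc30 zc11) (kc xc21 yc36 zc36) (kc xc9 yc16 zc56) (kc xc6 yc30 zc19) (kc xc21 yc36 zc37)) (@D3.rec (fun _ => Pt) (kc xc21 yc36 zc38) (kc xc11 yc38 zc55) (kc xc6 yc30 zc20) (kc xc21 yc36 zc39) (kc xc18 yc43 zc31) (kc xc19 yc51 zc35) (kc xc19 yc51 zc34) (kc xc6 yc30 zc22) (kc xc20 yc52 zc6) (kc xc11 yc57 zc37) (kc xc18 yc43 zc32) (kc xc17 yc52 zc25) (kc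 xc17 yc30 zc26) (kc xc10 yc6 zc59) (kc xc11 yc34 zc52) (kc xc15 yc26 zc9) (kc xc12 yc4 zc58) (kc xc12 yc34 zc60) (kc xc10 yc18 zc19) (kc xc14 yc4 zc25) (kc xc7 yc26 zc1) (kc xc21 yc32 zc7) (kc xc21 yc36 zc49) (kc xc7 yc21 zc58) (kc xc17 yc2 zc22) (kc xc17 yc5 zc45) (kc xc17 yc5 zc46) (kc xc21 yc36 zc55) (kc xc17 yc3 zc15) (kc xc7 yc25 zc19) (kc xc7 yc25 zc20) (kc xc6 yc30 zc55) (kc xc17 yc16 zc47) (kc xc21 yc36 zc58) (kc xc6 yc30 zc58) (kc xc6 yc30 zc59) (kc xc9 yc35 zc42) (kc xc20 yc49 zc55) (kc xc6 yc30 zc61) (kc xc12 yc0 zc8) (kc xc12 yc12 zc32) (kc xc7 yc26 zc20) (kc xc12 yc11 zc47) (kc xc7 yc26 zc18) (kc xc8 yc40 zc24) (kc xc9 yc33 zc58) (kc xc10 yc19 zc55) (kc xc6 yc54 zc11) (kc xc6 yc54 zc8) (kc xc13 yc26 zc35) (kc xc6 yc36 zc38) (kc xc21 yc37 zc16) (kc xc11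 yc30 zc57) (kc xc15 yc5 zc16) (kc xc9 yc16 zc22) (kc xc7 yc36 zc1) (kc xc9 yc47 zc61) (kc xc7 yc35 zc56) (kc xc21 yc37 zc21) (kc xc21 yc37 zc23) (kc xc16 yc55 zc22) (kc xc6 yc34 zc38)) (@D3.rec (fun _ => Pt) (kc xc21 yc36 zc35) (kc xc6 yc31 zc14) (kc xc6 yc32 zc24) (kc xc8 yc46 zc30) (kc xc12 yc22 zc28) (kc xc12 yc15 zc4) (kc xc11 yc23 zc47) (kc xc12 yc43 zc32) (kc xc12 yc42 zc45) (kc xc17 yc3 zc10) (kc xc6 yc55 zc15) (kc xc7 yc27 zc52) (kc xc7 yc23 zc15) (kc xc18 yc38 zc30) (kc xc12 yc13 zc53) (kc xc17 yc10 zc41) (kc xc12 yc49 zc55) (kc xc7 yc31 zc21) (kc xc10 yc19 zc4) (kc xc14 yc23 zc12) (kc xc6 yc31 zc42) (kc xc6 yc31 zc41) (kc xc12 yc50 zc16) (kc xc20 yc27 zc45) (kc xc6 yc31 zc44) (kc xc6 yc31 zc45) (kc xc12 yc9 zc8) (kc xc11 yc41 zc0) (kc xc6 yc31 zc46) (kc xc21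 yc37 zc35) (kc xc12 yc10 zc23) (kc xc9 yc57 zc7) (kc xc11 yc33 zc1) (kc xc6 yc31 zc48) (kc xc19 yc59 zc50) (kc xc10 yc14 zc7) (kc xc18 yc26 zc14) (kc xc17 yc25 zc32) (kc xc10 yc4 zc47) (kc xc11 yc40 zc23) (kc xc7 yc57 zc15) (kc xc12 yc17 zc45) (kc xc7 yc22 zc56) (kc xc6 yc31 zc58) (kc xc11 yc30 zc28) (kc xc6 yc31 zc60) (kc xc21 yc37 zc46) (kc xc7 yc23 zc26) (kc xc21 yc37 zc49) (kc xc10 yc22 zc44) (kc xc6 yc32 zc1) (kc xc16 yc35 zc60) (kc xc21 yc37 zc56) (kc xc21 yc13 zc9) (kc xc6 yc32 zc2) (kc xc16 yc35 zc56) (kc xc21 yc37 zc59) (kc xc16 yc36 zc1) (kc xc6 yc32 zc3) (kc xc16 yc23 zc33) (kc xc21 yc38 zc0) (kc xc14 yc12 zc19)) (@D3.rec (fun _ => Pt) (kc xc21 yc16 zc12) (kc xc14 yc12 zc20) (kc xc6 yc32 zc6) (kc xc21 yc38 zc4) (kc xc21 yc38 zc6) (kc xc12 yc29 zc53) (kc xc6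 yc32 zc8) (kc xc19 yc57 zc32) (kc xc6 yc32 zc10) (kc xc6 yc32 zc11) (kc xc12 yc32 zc29) (kc xc18 yc39 zc38) (kc xc9 yc21 zc54) (kc xc6 yc32 zc13) (kc xc21 yc7 zc40) (kc xc21 yc35 zc3) (kc xc20 yc24 zc54) (kc xc18 yc25 zc2) (kc xc21 yc36 zc34) (kc xc6 yc32 zc17) (kc xc21 yc38 zc20) (kc xc21 yc38 zc21) (kc xc12 yc15 zc30) (kc xc12 yc22 zc29) (kc xc6 yc32 zc21) (kc xc6 yc32 zc22) (kc xc20 yc19 zc54) (kc xc21 yc37 zc25) (kc xc18 yc22 zc39) (kc xc12 yc32 zc10) (kc xc6 yc32 zc28) (kc xc7 yc30 zc40) (kc xc21 yc38 zc28) (kc xc21 yc38 zc30) (kc xc21 yc38 zc33) (kc xc6 yc32 zc30) (kc xc21 yc38 zc38) (kc xc21 yc20 zc28) (kc xc21 yc4 zc53) (kc xc10 yc20 zc3) (kc xc6 yc32 zc34) (kc xc6 yc50 zc49) (kc xc6 yc32 zc35) (kc xc21 yc38 zc44) (kc xc6 yc32 zc33) (kc xc21 yc38 zc48) (kc xc7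 yc43 zc20) (kc xc21 yc36 zc21) (kc xc6 yc32 zc36) (kc xc21 yc38 zc50) (kc xc14 yc18 zc56) (kc xc6 yc32 zc40) (kc xc6 yc32 zc39) (kc xc14 yc54 zc6) (kc xc10 yc3 zc2) (kc xc13 yc1 zc32) (kc xc11 yc49 zc21) (kc xc6 yc36 zc2) (kc xc21 yc38 zc53) (kc xc6 yc32 zc47) (kc xc7 yc32 zc45) (kc xc7 yc0 zc27)) (@D3.rec (fun _ => Pt) (kc xc18 yc24 zc4) (kc xc6 yc32 zc56) (kc xc17 yc16 zc58) (kc xc20 yc2 zc51) (kc xc6 yc32 zc51) (kc xc6 yc33 zc5) (kc xc21 yc4 zc55) (kc xc9 yc23 zc53) (kc xc11 yc45 zc15) (kc xc7 yc12 zc30) (kc xc18 yc0 zc50) (kc xc17 yc46 zc19) (kc xc13 yc19 zc17) (kc xc13 yc49 zc52) (kc xc6 yc32 zc59) (kc xc15 yc47 zc23) (kc xc12 yc20 zc0) (kc xc21 yc39 zc0) (kc xc14 yc3 zc29) (kc xc14 yc2 zc47) (kc xc6 yc49 zc11) (kc xc15 yc38 zc44) (kc xc6 yc41 zc37) (kc xc15 yc46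 zc57) (kc xc6 yc59 zc2) (kc xc12 yc18 zc59) (kc xc17 yc16 zc54) (kc xc21 yc39 zc38) (kc xc21 yc19 zc19) (kc xc21 yc39 zc3) (kc xc21 yc39 zc47) (kc xc17 yc16 zc57) (kc xc17 yc16 zc56) (kc xc6 yc33 zc7) (kc xc11 yc35 zc39) (kc xc6 yc33 zc8) (kc xc21 yc39 zc54) (kc xc13 yc5 zc25) (kc xc13 yc3 zc33) (kc xc9 yc21 zc22) (kc xc9 yc47 zc28) (kc xc13 yc6 zc33) (kc xc7 yc30 zc38) (kc xc11 yc58 zc25) (kc xc16 yc0 zc5) (kc xc12 yc16 zc44) (kc xc15 yc55 zc26) (kc xc12 yc13 zc59) (kc xc8 yc12 zc37) (kc xc17 yc51 zc14) (kc xc6 yc33 zc17) (kc xc8 yc23 zc38) (kc xc9 yc18 zc44) (kc xc6 yc33 zc24) (kc xc16 yc48 zc45) (kc xc7 yc39 zc36) (kc xc20 yc27 zc35) (kc xc21 yc40 zc6) (kc xc20 yc36 zc3) (kc xc21 yc40 zc10) (kc xc7 yc41 zc16) (kc xc13 yc10 zc31)) (@D3.rec (fun _ => Pt) (kc xc13 yc43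 zc12) (kc xc6 yc33 zc28) (kc xc21 yc40 zc16) (kc xc21 yc40 zc19) (kc xc17 yc18 zc24) (kc xc6 yc33 zc32) (kc xc8 yc30 zc36) (kc xc13 yc38 zc32) (kc xc6 yc33 zc34) (kc xc18 yc47 zc55) (kc xc21 yc40 zc25) (kc xc18 yc27 zc54) (kc xc17 yc17 zc50) (kc xc7 yc24 zc57) (kc xc6 yc33 zc39) (kc xc21 yc40 zc30) (kc xc11 yc48 zc57) (kc xc6 yc33 zc40) (kc xc21 yc40 zc32) (kc xc21 yc40 zc36) (kc xc7 yc32 zc47) (kc xc21 yc40 zc43) (kc xc6 yc43 zc37) (kc xc19 yc21 zc20) (kc xc14 yc21 zc25) (kc xc12 yc14 zc34) (kc xc7 yc36 zc61) (kc xc7 yc46 zc7) (kc xc6 yc33 zc47) (kc xc6 yc33 zc48) (kc xc17 yc17 zc61) (kc xc13 yc44 zc47) (kc xc6 yc33 zc50) (kc xc21 yc40 zc57) (kc xc15 yc57 zc38) (kc xc17 yc18 zc3) (kc xc21 yc40 zc61) (kc xc7 yc4 zc11) (kc xc21 yc7 zc24) (kc xc18 yc43 zc44) (kc xc21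 yc5 zc51) (kc xc6 yc34 zc25) (kc xc21 yc7 zc33) (kc xc21 yc7 zc34) (kc xc12 yc36 zc24) (kc xc12 yc36 zc25) (kc xc18 yc6 zc4) (kc xc21 yc7 zc23) (kc xc6 yc33 zc60) (kc xc6 yc34 zc5) (kc xc21 yc41 zc12) (kc xc7 yc27 zc35) (kc xc14 yc3 zc55) (kc xc7 yc28 zc9) (kc xc21 yc41 zc18) (kc xc14 yc4 zc3) (kc xc21 yc41 zc26) (kc xc6 yc34 zc9) (kc xc7 yc40 zc15) (kc xc12 yc16 zc14) (kc xc12 yc30 zc17) (kc xc6 yc35 zc4)) (@D3.rec (fun _ => Pt) (kc xc6 yc34 zc14) (kc xc21 yc41 zc28) (kc xc10 yc0 zc15) (kc xc18 yc6 zc24) (kc xc7 yc2 zc22) (kc xc15 yc7 zc40) (kc xc7 yc38 zc21) (kc xc14 yc4 zc55) (kc xc14 yc4 zc57) (kc xc6 yc59 zc56) (kc xc14 yc28 zc59) (kc xc6 yc34 zc23) (kc xc21 yc41 zc35) (kc xc6 yc34 zc26) (kc xc21 yc41 zc36) (kc xc21 yc41 zc37) (kc xc6 yc34 zc27) (kc xc14 yc55 zc33)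 (kc xc21 yc41 zc39) (kc xc6 yc34 zc28) (kc xc6 yc34 zc29) (kc xc21 yc41 zc42) (kc xc21 yc41 zc45) (kc xc13 yc17 zc45) (kc xc6 yc39 zc47) (kc xc6 yc39 zc48) (kc xc21 yc41 zc52) (kc xc12 yc45 zc32) (kc xc21 yc41 zc55) (kc xc13 yc17 zc50) (kc xc10 yc5 zc52) (kc xc21 yc41 zc57) (kc xc13 yc17 zc53) (kc xc21 yc41 zc61) (kc xc8 yc42 zc16) (kc xc6 yc34 zc34) (kc xc21 yc42 zc1) (kc xc21 yc38 zc49) (kc xc6 yc34 zc36) (kc xc16 yc14 zc53) (kc xc9 yc20 zc43) (kc xc11 yc21 zc49) (kc xc20 yc28 zc27) (kc xc19 yc39 zc8) (kc xc6 yc34 zc39) (kc xc21 yc42 zc6) (kc xc13 yc7 zc56) (kc xc14 yc54 zc34) (kc xc6 yc34 zc41) (kc xc21 yc42 zc10) (kc xc6 yc34 zc42) (kc xc7 yc31 zc46) (kc xc7 yc31 zc47) (kc xc13 yc52 zc56) (kc xc12 yc1 zc48) (kc xc14 yc23 zc28) (kc xc17 yc17 zc43) (kc xc21 yc42 zc21)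 (kc xc17 yc17 zc45) (kc xc6 yc34 zc45) (kc xc21 yc42 zc25) (kc xc6 yc34 zc48)) (@D3.rec (fun _ => Pt) (kc xc12 yc57 zc36) (kc xc6 yc34 zc50) (kc xc18 yc0 zc7) (kc xc6 yc35 zc1) (kc xc6 yc37 zc41) (kc xc7 yc1 zc34) (kc xc7 yc47 zc32) (kc xc12 yc41 zc5) (kc xc18 yc26 zc20) (kc xc9 yc23 zc48) (kc xc12 yc37 zc35) (kc xc21 yc19 zc40) (kc xc6 yc35 zc3) (kc xc21 yc42 zc33) (kc xc21 yc42 zc34) (kc xc21 yc40 zc47) (kc xc21 yc41 zc27) (kc xc7 yc26 zc50) (kc xc18 yc24 zc60) (kc xc8 yc49 zc60) (kc xc6 yc35 zc6) (kc xc21 yc42 zc37) (kc xc13 yc18 zc32) (kc xc21 yc42 zc41) (kc xc12 yc34 zc44) (kc xc12 yc34 zc45) (kc xc20 yc9 zc53) (kc xc17 yc5 zc21) (kc xc6 yc37 zc28) (kc xc6 yc35 zc14) (kc xc6 yc35 zc16) (kc xc17 yc7 zc20) (kc xc21 yc42 zc44) (kc xc12 yc1 zc35) (kc xc7 yc44 zc45)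 (kc xc20 yc51 zc18) (kc xc12 yc40 zc30) (kc xc12 yc15 zc43) (kc xc21 yc42 zc51) (kc xc7 yc35 zc48) (kc xc6 yc42 zc18) (kc xc21 yc42 zc52) (kc xc21 yc42 zc53) (kc xc12 yc42 zc51) (kc xc6 yc35 zc20) (kc xc21 yc42 zc58) (kc xc17 yc19 zc15) (kc xc21 yc42 zc61) (kc xc6 yc35 zc23) (kc xc6 yc35 zc24) (kc xc6 yc59 zc7) (kc xc21 yc43 zc5) (kc xc6 yc39 zc0) (kc xc6 yc38 zc13) (kc xc17 yc5 zc34) (kc xc17 yc6 zc7) (kc xc21 yc43 zc9) (kc xc6 yc41 zc14) (kc xc21 yc43 zc12) (kc xc7 yc35 zc32) (kc xc17 yc29 zc50) (kc xc21 yc43 zc15)) (@D3.rec (fun _ => Pt) (kc xc12 yc43 zc16) (kc xc12 yc43 zc17) (kc xc6 yc35 zc30) (kc xc21 yc43 zc22) (kc xc6 yc35 zc32) (kc xc6 yc59 zc26) (kc xc6 yc59 zc27) (kc xc7 yc25 zc32) (kc xc21 yc43 zc31) (kc xc6 yc35 zc34) (kc xc21 yc42 zc55) (kc xc21 yc42 zc56)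 (kc xc6 yc35 zc35) (kc xc6 yc35 zc37) (kc xc21 yc43 zc36) (kc xc6 yc35 zc38) (kc xc11 yc44 zc7) (kc xc11 yc44 zc4) (kc xc11 yc46 zc48) (kc xc21 yc43 zc43) (kc xc7 yc35 zc29) (kc xc7 yc35 zc30) (kc xc21 yc43 zc46) (kc xc7 yc34 zc60) (kc xc21 yc43 zc18) (kc xc21 yc43 zc19) (kc xc6 yc35 zc41) (kc xc12 yc49 zc13) (kc xc21 yc3 zc25) (kc xc6 yc35 zc45) (kc xc17 yc19 zc41) (kc xc21 yc43 zc57) (kc xc21 yc43 zc54) (kc xc6 yc37 zc25) (kc xc11 yc48 zc56) (kc xc12 yc36 zc10) (kc xc21 yc3 zc26) (kc xc6 yc35 zc49) (kc xc9 yc11 zc37) (kc xc14 yc32 zc60) (kc xc17 yc46 zc10) (kc xc7 yc32 zc57) (kc xc8 yc0 zc48) (kc xc21 yc44 zc8) (kc xc21 yc2 zc54) (kc xc12 yc21 zc60) (kc xc17 yc19 zc54) (kc xc13 yc1 zc30) (kc xc11 yc50 zc23) (kc xc9 yc12 zc49) (kc xc20 yc36 zc5) (kc xc11 yc46 zc14)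 (kc xc12 yc56 zc18) (kc xc6 yc35 zc55) (kc xc21 yc44 zc21) (kc xc21 yc44 zc18) (kc xc18 yc24 zc17) (kc xc6 yc35 zc56) (kc xc21 yc44 zc26) (kc xc21 yc44 zc25) (kc xc12 yc23 zc15) (kc xc12 yc6 zc56)) (@D3.rec (fun _ => Pt) (kc xc16 yc24 zc56) (kc xc6 yc35 zc60) (kc xc20 yc35 zc47) (kc xc17 yc26 zc42) (kc xc21 yc44 zc35) (kc xc13 yc27 zc42) (kc xc6 yc35 zc61) (kc xc21 yc44 zc38) (kc xc18 yc20 zc45) (kc xc16 yc32 zc12) (kc xc6 yc36 zc1) (kc xc21 yc44 zc41) (kc xc13 yc19 zc14) (kc xc18 yc56 zc32) (kc xc14 yc36 zc29) (kc xc18 yc36 zc30) (kc xc21 yc42 zc2) (kc xc11 yc27 zc19) (kc xc6 yc36 zc5) (kc xc21 yc44 zc51) (kc xc12 yc28 zc55) (kc xc12 yc28 zc61) (kc xc12 yc29 zc2) (kc xc20 yc20 zc59) (kc xc6 yc46 zc17) (kc xc12 yc46 zc31) (kc xc21 yc7 zc2) (kc xc21 yc25 zc51) (kc xc21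 yc44 zc60) (kc xc6 yc36 zc11) (kc xc6 yc58 zc21) (kc xc12 yc47 zc19) (kc xc18 yc15 zc61) (kc xc10 yc22 zc48) (kc xc21 yc37 zc52) (kc xc10 yc22 zc60) (kc xc6 yc36 zc14) (kc xc11 yc40 zc19) (kc xc14 yc11 zc30) (kc xc11 yc36 zc37) (kc xc12 yc14 zc33) (kc xc14 yc52 zc31) (kc xc10 yc4 zc29) (kc xc17 yc5 zc35) (kc xc6 yc36 zc46) (kc xc17 yc5 zc37) (kc xc17 yc5 zc38) (kc xc6 yc36 zc51) (kc xc21 yc18 zc41) (kc xc21 yc18 zc42) (kc xc20 yc41 zc3) (kc xc12 yc46 zc30) (kc xc12 yc17 zc24) (kc xc17 yc19 zc32) (kc xc7 yc41 zc15) (kc xc6 yc36 zc28) (kc xc21 yc40 zc18) (kc xc14 yc33 zc17) (kc xc17 yc31 zc16) (kc xc6 yc36 zc31) (kc xc17 yc21 zc4) (kc xc6 yc36 zc33)) (@D3.rec (fun _ => Pt) (kc xc6 yc36 zc34) (kc xc6 yc58 zc59) (kc xc6 yc37 zc20) (kc xc21 yc45 zc25) (kc xc6 yc36 zc36)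 (kc xc6 yc36 zc37) (kc xc12 yc12 zc47) (kc xc6 yc53 zc22) (kc xc12 yc12 zc46) (kc xc11 yc46 zc45) (kc xc6 yc36 zc40) (kc xc10 yc5 zc9) (kc xc9 yc7 zc20) (kc xc13 yc58 zc46) (kc xc6 yc36 zc43) (kc xc6 yc36 zc44) (kc xc21 yc45 zc31) (kc xc17 yc7 zc34) (kc xc21 yc45 zc32) (kc xc21 yc45 zc33) (kc xc21 yc45 zc34) (kc xc18 yc57 zc53) (kc xc8 yc27 zc32) (kc xc11 yc25 zc17) (kc xc6 yc36 zc48) (kc xc21 yc45 zc36) (kc xc6 yc36 zc49) (kc xc21 yc45 zc37) (kc xc21 yc45 zc38) (kc xc6 yc36 zc50) (kc xc21 yc45 zc41) (kc xc20 yc15 zc57) (kc xc6 yc36 zc52) (kc xc7 yc32 zc8) (kc xc10 yc6 zc41) (kc xc7 yc41 zc30) (kc xc7 yc41 zc31) (kc xc18 yc36 zc29) (kc xc7 yc32 zc22) (kc xc21 yc45 zc47) (kc xc21 yc45 zc52) (kc xc14 yc18 zc12) (kc xc21 yc45 zc56) (kc xc14 yc18 zc14) (kc xc21 yc45 zc61)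 (kc xc6 yc36 zc58) (kc xc8 yc7 zc7) (kc xc12 yc17 zc29) (kc xc17 yc20 zc42) (kc xc6 yc36 zc61) (kc xc13 yc0 zc36) (kc xc20 yc51 zc56) (kc xc21 yc46 zc4) (kc xc6 yc37 zc0) (kc xc21 yc46 zc7) (kc xc6 yc37 zc2) (kc xc21 yc46 zc10) (kc xc21 yc22 zc57) (kc xc6 yc37 zc3) (kc xc21 yc46 zc14) (kc xc21 yc46 zc15) (kc xc6 yc37 zc4)) (@D3.rec (fun _ => Pt) (kc xc21 yc46 zc18) (kc xc6 yc38 zc33) (kc xc6 yc38 zc34) (kc xc8 yc27 zc34) (kc xc15 yc44 zc53) (kc xc6 yc37 zc6) (kc xc21 yc46 zc28) (kc xc21 yc46 zc33) (kc xc17 yc21 zc30) (kc xc21 yc46 zc34) (kc xc6 yc37 zc8) (kc xc6 yc37 zc10) (kc xc12 yc12 zc39) (kc xc12 yc12 zc41) (kc xc17 yc21 zc35) (kc xc6 yc37 zc12) (kc xc6 yc37 zc13) (kc xc21 yc46 zc39) (kc xc6 yc42 zc54) (kc xc21 yc46 zc26) (kc xc17 yc21 zc38) (kc xc17 yc17 zc17)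 (kc xc21 yc46 zc21) (kc xc12 yc13 zc37) (kc xc21 yc46 zc17) (kc xc21 yc33 zc40) (kc xc21 yc46 zc13) (kc xc7 yc54 zc19) (kc xc14 yc56 zc5) (kc xc21 yc45 zc21) (kc xc12 yc36 zc36) (kc xc21 yc45 zc23) (kc xc21 yc46 zc9) (kc xc21 yc46 zc3) (kc xc6 yc37 zc21) (kc xc21 yc47 zc0) (kc xc21 yc42 zc57) (kc xc12 yc16 zc16) (kc xc6 yc41 zc18) (kc xc8 yc21 zc50) (kc xc21 yc43 zc59) (kc xc9 yc24 zc31) (kc xc21 yc35 zc5) (kc xc6 yc37 zc39) (kc xc21 yc25 zc57) (kc xc20 yc40 zc27) (kc xc18 yc15 zc30) (kc xc21 yc47 zc12) (kc xc6 yc37 zc46) (kc xc10 yc48 zc10) (kc xc10 yc48 zc21) (kc xc10 yc48 zc16) (kc xc12 yc51 zc33) (kc xc7 yc1 zc23) (kc xc11 yc45 zc28) (kc xc21 yc47 zc5) (kc xc14 yc46 zc44) (kc xc17 yc8 zc6) (kc xc12 yc1 zc36) (kc xc17 yc7 zc24) (kc xc21 yc41 zc47) (kc xc21 yc47 zc22))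 (@D3.rec (fun _ => Pt) (kc xc21 yc47 zc8) (kc xc21 yc6 zc51) (kc xc17 yc59 zc11) (kc xc18 yc0 zc9) (kc xc11 yc44 zc57) (kc xc12 yc36 zc7) (kc xc7 yc45 zc19) (kc xc6 yc37 zc43) (kc xc21 yc47 zc31) (kc xc6 yc37 zc44) (kc xc21 yc47 zc32) (kc xc18 yc37 zc7) (kc xc13 yc9 zc33) (kc xc13 yc46 zc11) (kc xc6 yc37 zc45) (kc xc21 yc47 zc41) (kc xc10 yc6 zc44) (kc xc21 yc47 zc44) (kc xc14 yc17 zc51) (kc xc18 yc37 zc49) (kc xc21 yc47 zc51) (kc xc14 yc17 zc54) (kc xc21 yc47 zc56) (kc xc21 yc47 zc59) (kc xc6 yc37 zc49) (kc xc21 yc48 zc3) (kc xc20 yc51 zc60) (kc xc21 yc48 zc8) (kc xc20 yc2 zc49) (kc xc20 yc2 zc48) (kc xc6 yc37 zc52) (kc xc21 yc48 zc17) (kc xc6 yc37 zc53) (kc xc20 yc4 zc22) (kc xc21 yc48 zc23) (kc xc6 yc37 zc55) (kc xc7 yc31 zc53) (kc xc21 yc48 zc27) (kc xc21 yc48 zc31)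 (kc xc6 yc37 zc56) (kc xc21 yc48 zc34) (kc xc6 yc38 zc47) (kc xc6 yc38 zc48) (kc xc21 yc47 zc39) (kc xc21 yc43 zc33) (kc xc6 yc37 zc58) (kc xc15 yc21 zc39) (kc xc21 yc21 zc32) (kc xc21 yc21 zc33) (kc xc6 yc37 zc59) (kc xc21 yc48 zc49) (kc xc6 yc37 zc60) (kc xc6 yc37 zc61) (kc xc6 yc43 zc55) (kc xc20 yc2 zc50) (kc xc6 yc46 zc56) (kc xc17 yc22 zc4) (kc xc21 yc48 zc44) (kc xc21 yc48 zc38) (kc xc6 yc38 zc6) (kc xc17 yc22 zc7) (kc xc21 yc48 zc37)) (@D3.rec (fun _ => Pt) (kc xc16 yc20 zc6) (kc xc21 yc48 zc33) (kc xc12 yc17 zc19) (kc xc21 yc48 zc26) (kc xc8 yc37 zc30) (kc xc8 yc20 zc38) (kc xc21 yc49 zc21) (kc xc21 yc48 zc21) (kc xc21 yc48 zc16) (kc xc6 yc38 zc11) (kc xc21 yc49 zc28) (kc xc21 yc43 zc21) (kc xc20 yc51 zc29) (kc xc6 yc38 zc16) (kc xc7 yc45 zc1) (kc xc14 yc34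 zc47) (kc xc15 yc54 zc5) (kc xc11 yc44 zc8) (kc xc11 yc48 zc12) (kc xc6 yc38 zc20) (kc xc21 yc49 zc37) (kc xc21 yc49 zc38) (kc xc21 yc49 zc39) (kc xc14 yc20 zc53) (kc xc12 yc51 zc3) (kc xc13 yc54 zc30) (kc xc6 yc38 zc24) (kc xc13 yc20 zc49) (kc xc18 yc7 zc57) (kc xc21 yc49 zc42) (kc xc21 yc45 zc0) (kc xc6 yc38 zc25) (kc xc21 yc49 zc48) (kc xc21 yc49 zc47) (kc xc17 yc10 zc3) (kc xc6 yc38 zc26) (kc xc21 yc49 zc51) (kc xc21 yc49 zc50) (kc xc12 yc50 zc24) (kc xc21 yc49 zc53) (kc xc6 yc38 zc27) (kc xc21 yc49 zc58) (kc xc19 yc25 zc4) (kc xc21 yc49 zc59) (kc xc7 yc42 zc24) (kc xc12 yc31 zc8) (kc xc15 yc59 zc36) (kc xc21 yc46 zc0) (kc xc6 yc38 zc31) (kc xc21 yc50 zc1) (kc xc21 yc50 zc2) (kc xc12 yc36 zc43) (kc xc18 yc7 zc59) (kc xc21 yc18 zc59) (kc xc6 yc38 zc36) (kc xc21 yc50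 zc13) (kc xc6 yc38 zc37) (kc xc11 yc43 zc44) (kc xc11 yc50 zc30) (kc xc15 yc45 zc33) (kc xc10 yc18 zc21) (kc xc17 yc5 zc44)) (@D3.rec (fun _ => Pt) (kc xc11 yc22 zc46) (kc xc11 yc40 zc11) (kc xc11 yc5 zc49) (kc xc9 yc14 zc25) (kc xc11 yc51 zc56) (kc xc20 yc3 zc26) (kc xc20 yc27 zc30) (kc xc15 yc18 zc57) (kc xc7 yc41 zc39) (kc xc21 yc47 zc61) (kc xc21 yc48 zc0) (kc xc6 yc38 zc45) (kc xc21 yc50 zc25) (kc xc21 yc50 zc26) (kc xc10 yc38 zc56) (kc xc15 yc53 zc56) (kc xc12 yc37 zc0) (kc xc12 yc37 zc1) (kc xc18 yc1 zc51) (kc xc21 yc21 zc42) (kc xc6 yc38 zc50) (kc xc21 yc50 zc40) (kc xc6 yc38 zc51) (kc xc12 yc55 zc0) (kc xc9 yc50 zc25) (kc xc6 yc38 zc53) (kc xc21 yc50 zc41) (kc xc11 yc45 zc13) (kc xc20 yc4 zc2) (kc xc9 yc11 zc30) (kc xc6 yc38 zc61) (kc xc6 yc38 zc58) (kc xc12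 yc31 zc7) (kc xc16 yc14 zc16) (kc xc18 yc24 zc38) (kc xc6 yc44 zc31) (kc xc8 yc36 zc8) (kc xc6 yc38 zc60) (kc xc10 yc37 zc46) (kc xc9 yc55 zc50) (kc xc17 yc51 zc33) (kc xc21 yc50 zc52) (kc xc17 yc59 zc37) (kc xc20 yc23 zc1) (kc xc21 yc50 zc55) (kc xc8 yc12 zc53) (kc xc16 yc42 zc58) (kc xc6 yc44 zc41) (kc xc21 yc33 zc8) (kc xc6 yc39 zc4) (kc xc21 yc51 zc0) (kc xc19 yc53 zc8) (kc xc16 yc30 zc29) (kc xc14 yc12 zc38) (kc xc16 yc30 zc44) (kc xc9 yc59 zc42) (kc xc21 yc51 zc9) (kc xc18 yc1 zc38) (kc xc12 yc56 zc46) (kc xc6 yc39 zc8) (kc xc21 yc30 zc35) (kc xc21 yc51 zc11)) (@D3.rec (fun _ => Pt) (kc xc21 yc51 zc13) (kc xc21 yc51 zc15) (kc xc6 yc39 zc9) (kc xc21 yc51 zc17) (kc xc6 yc39 zc11) (kc xc9 yc55 zc30) (kc xc9 yc10 zc4) (kc xc9 yc10 zc3) (kc xc11 yc8 zc29) (kc xc21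 yc36 zc50) (kc xc13 yc2 zc10) (kc xc13 yc57 zc12) (kc xc6 yc43 zc11) (kc xc6 yc39 zc46) (kc xc17 yc15 zc57) (kc xc21 yc51 zc29) (kc xc6 yc39 zc21) (kc xc6 yc39 zc18) (kc xc17 yc19 zc57) (kc xc9 yc12 zc50) (kc xc6 yc39 zc19) (kc xc21 yc51 zc35) (kc xc18 yc23 zc60) (kc xc21 yc51 zc38) (kc xc21 yc51 zc39) (kc xc6 yc39 zc20) (kc xc14 yc12 zc36) (kc xc11 yc43 zc55) (kc xc11 yc16 zc60) (kc xc12 yc47 zc23) (kc xc6 yc39 zc25) (kc xc21 yc51 zc43) (kc xc21 yc51 zc45) (kc xc6 yc39 zc24) (kc xc17 yc19 zc59) (kc xc10 yc22 zc47) (kc xc21 yc51 zc50) (kc xc6 yc39 zc26) (kc xc10 yc58 zc16) (kc xc21 yc51 zc52) (kc xc21 yc51 zc56) (kc xc6 yc39 zc29) (kc xc6 yc39 zc28) (kc xc21 yc30 zc39) (kc xc6 yc45 zc5) (kc xc21 yc32 zc57) (kc xc21 yc36 zc33) (kc xc20 yc14 zc52) (kc xc6 yc39 zc30) (kc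 xc19 yc24 zc23) (kc xc18 yc47 zc20) (kc xc11 yc28 zc5) (kc xc6 yc39 zc31) (kc xc18 yc17 zc5) (kc xc9 yc23 zc13) (kc xc21 yc1 zc29) (kc xc17 yc9 zc39) (kc xc6 yc40 zc31) (kc xc21 yc1 zc17) (kc xc6 yc39 zc33) (kc xc21 yc52 zc13) (kc xc6 yc39 zc35)) (@D3.rec (fun _ => Pt) (kc xc7 yc44 zc15) (kc xc21 yc52 zc14) (kc xc21 yc52 zc15) (kc xc21 yc52 zc16) (kc xc21 yc52 zc17) (kc xc21 yc52 zc18) (kc xc7 yc44 zc17) (kc xc18 yc5 zc0) (kc xc18 yc4 zc58) (kc xc6 yc39 zc38) (kc xc16 yc18 zc24) (kc xc17 yc31 zc1) (kc xc7 yc44 zc3) (kc xc11 yc25 zc10) (kc xc17 yc31 zc2) (kc xc21 yc34 zc60) (kc xc20 yc22 zc24) (kc xc21 yc18 zc39) (kc xc14 yc13 zc50) (kc xc12 yc48 zc57) (kc xc13 yc1 zc34) (kc xc21 yc52 zc26) (kc xc20 yc47 zc43) (kc xc11 yc48 zc16) (kc xc21 yc52 zc32) (kc xc18 yc0 zc56)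 (kc xc21 yc52 zc36) (kc xc21 yc41 zc49) (kc xc21 yc52 zc39) (kc xc21 yc52 zc43) (kc xc6 yc39 zc49) (kc xc21 yc52 zc48) (kc xc12 yc35 zc27) (kc xc21 yc52 zc52) (kc xc7 yc57 zc25) (kc xc8 yc51 zc14) (kc xc21 yc52 zc55) (kc xc6 yc39 zc54) (kc xc20 yc8 zc61) (kc xc21 yc52 zc58) (kc xc21 yc18 zc48) (kc xc6 yc39 zc56) (kc xc21 yc53 zc0) (kc xc20 yc35 zc0) (kc xc6 yc39 zc57) (kc xc7 yc12 zc13) (kc xc21 yc41 zc50) (kc xc21 yc41 zc51) (kc xc21 yc51 zc42) (kc xc21 yc53 zc4) (kc xc6 yc39 zc59) (kc xc21 yc53 zc6) (kc xc21 yc53 zc8) (kc xc17 yc21 zc21) (kc xc6 yc39 zc61) (kc xc21 yc53 zc13) (kc xc21 yc53 zc10) (kc xc21 yc53 zc15) (kc xc21 yc53 zc16) (kc xc6 yc40 zc1) (kc xc6 yc40 zc2) (kc xc21 yc53 zc22)) (@D3.rec (fun _ => Pt) (kc xc6 yc40 zc3) (kc xc20 yc13 zc50) (kc xc12 yc54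 zc4) (kc xc19 yc7 zc55) (kc xc20 yc22 zc19) (kc xc20 yc22 zc18) (kc xc6 yc40 zc5) (kc xc12 yc16 zc19) (kc xc21 yc29 zc2) (kc xc6 yc40 zc8) (kc xc21 yc53 zc31) (kc xc6 yc40 zc9) (kc xc6 yc40 zc55) (kc xc16 yc32 zc10) (kc xc12 yc28 zc51) (kc xc12 yc29 zc4) (kc xc7 yc17 zc16) (kc xc7 yc6 zc13) (kc xc19 yc49 zc1) (kc xc11 yc12 zc31) (kc xc9 yc44 zc11) (kc xc11 yc12 zc40) (kc xc6 yc40 zc19) (kc xc21 yc53 zc38) (kc xc8 yc51 zc17) (kc xc21 yc53 zc41) (kc xc13 yc38 zc40) (kc xc6 yc40 zc21) (kc xc21 yc18 zc43) (kc xc6 yc40 zc23) (kc xc12 yc38 zc51) (kc xc12 yc38 zc25) (kc xc7 yc31 zc9) (kc xc6 yc40 zc25) (kc xc9 yc14 zc55) (kc xc20 yc31 zc36) (kc xc21 yc53 zc50) (kc xc12 yc21 zc58) (kc xc11 yc22 zc18) (kc xc20 yc5 zc52) (kc xc9 yc23 zc1) (kc xc14 yc8 zc8) (kc xc21 yc8 zc7) (kc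 xc11 yc44 zc6) (kc xc21 yc53 zc57) (kc xc6 yc40 zc34) (kc xc21 yc53 zc61) (kc xc21 yc54 zc2) (kc xc14 yc38 zc16) (kc xc21 yc54 zc8) (kc xc7 yc40 zc57) (kc xc7 yc45 zc31) (kc xc6 yc40 zc37) (kc xc21 yc54 zc14) (kc xc6 yc40 zc39) (kc xc21 yc54 zc19) (kc xc21 yc54 zc22) (kc xc6 yc40 zc40) (kc xc21 yc54 zc23) (kc xc14 yc41 zc51) (kc xc21 yc40 zc55) (kc xc20 yc12 zc55)) (@D3.rec (fun _ => Pt) (kc xc9 yc30 zc40) (kc xc12 yc25 zc36) (kc xc11 yc18 zc22) (kc xc6 yc40 zc46) (kc xc21 yc54 zc28) (kc xc6 yc40 zc47) (kc xc11 yc16 zc26) (kc xc21 yc54 zc31) (kc xc16 yc54 zc12) (kc xc6 yc40 zc49) (kc xc20 yc24 zc51) (kc xc21 yc54 zc37) (kc xc6 yc40 zc50) (kc xc21 yc54 zc39) (kc xc14 yc8 zc6) (kc xc7 yc12 zc20) (kc xc7 yc17 zc14) (kc xc9 yc20 zc60) (kc xc6 yc46 zc49) (kc xc12 yc38 zc31)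 (kc xc18 yc15 zc32) (kc xc6 yc41 zc3) (kc xc6 yc41 zc5) (kc xc12 yc44 zc29) (kc xc6 yc41 zc2) (kc xc11 yc45 zc29) (kc xc21 yc54 zc46) (kc xc21 yc54 zc43) (kc xc13 yc20 zc30) (kc xc18 yc44 zc45) (kc xc6 yc41 zc4) (kc xc21 yc54 zc53) (kc xc21 yc54 zc57) (kc xc20 yc51 zc37) (kc xc21 yc54 zc60) (kc xc21 yc35 zc32) (kc xc21 yc54 zc52) (kc xc6 yc41 zc7) (kc xc21 yc55 zc2) (kc xc17 yc34 zc48) (kc xc6 yc41 zc9) (kc xc21 yc55 zc4) (kc xc21 yc55 zc5) (kc xc6 yc58 zc11) (kc xc6 yc47 zc37) (kc xc14 yc38 zc18) (kc xc10 yc33 zc12) (kc xc14 yc52 zc60) (kc xc6 yc41 zc15) (kc xc21 yc55 zc9) (kc xc6 yc41 zc16) (kc xc9 yc20 zc20) (kc xc7 yc46 zc8) (kc xc7 yc46 zc12) (kc xc7 yc46 zc9) (kc xc21 yc54 zc27) (kc xc6 yc41 zc22) (kc xc10 yc44 zc27) (kc xc21 yc39 zc14) (kc xc14 yc25 zc50) (kc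 xc15 yc47 zc20) (kc xc21 yc55 zc22)) (@D3.rec (fun _ => Pt) (kc xc14 yc25 zc49) (kc xc21 yc7 zc35) (kc xc6 yc47 zc61) (kc xc21 yc55 zc25) (kc xc21 yc54 zc18) (kc xc21 yc54 zc13) (kc xc6 yc41 zc28) (kc xc7 yc1 zc25) (kc xc6 yc41 zc33) (kc xc9 yc18 zc21) (kc xc6 yc59 zc9) (kc xc13 yc4 zc24) (kc xc6 yc59 zc20) (kc xc21 yc55 zc42) (kc xc21 yc55 zc46) (kc xc13 yc54 zc25) (kc xc21 yc55 zc49) (kc xc7 yc19 zc31) (kc xc7 yc19 zc26) (kc xc7 yc49 zc4) (kc xc21 yc55 zc56) (kc xc21 yc55 zc60) (kc xc21 yc39 zc28) (kc xc21 yc56 zc4) (kc xc21 yc39 zc30) (kc xc7 yc48 zc60) (kc xc21 yc56 zc11) (kc xc6 yc59 zc8) (kc xc21 yc56 zc13) (kc xc21 yc56 zc15) (kc xc21 yc33 zc44) (kc xc14 yc9 zc43) (kc xc6 yc59 zc21) (kc xc21 yc56 zc23) (kc xc12 yc13 zc9) (kc xc12 yc23 zc58) (kc xc6 yc41 zc43)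 (kc xc21 yc2 zc18) (kc xc21 yc56 zc27) (kc xc21 yc19 zc45) (kc xc21 yc56 zc33) (kc xc8 yc59 zc27) (kc xc21 yc56 zc37) (kc xc21 yc56 zc39) (kc xc21 yc56 zc41) (kc xc6 yc41 zc46) (kc xc21 yc56 zc47) (kc xc21 yc56 zc50) (kc xc7 yc19 zc54) (kc xc14 yc9 zc46) (kc xc7 yc19 zc47) (kc xc21 yc56 zc45) (kc xc6 yc41 zc50) (kc xc21 yc57 zc3) (kc xc21 yc57 zc6) (kc xc21 yc57 zc2) (kc xc9 yc23 zc6) (kc xc12 yc45 zc19) (kc xc14 yc19 zc51) (kc xc14 yc19 zc52) (kc xc20 yc34 zc6) (kc xc17 yc27 zc15)) (@D3.rec (fun _ => Pt) (kc xc21 yc1 zc1) (kc xc6 yc41 zc56) (kc xc11 yc40 zc59) (kc xc6 yc41 zc59) (kc xc6 yc41 zc61) (kc xc6 yc42 zc0) (kc xc17 yc28 zc31) (kc xc21 yc57 zc20) (kc xc6 yc42 zc2) (kc xc9 yc22 zc36) (kc xc21 yc57 zc22) (kc xc11 yc43 zc59) (kc xc9 yc16 zc17) (kc xc12 yc37 zc27)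 (kc xc14 yc11 zc14) (kc xc21 yc57 zc30) (kc xc21 yc57 zc33) (kc xc19 yc48 zc33) (kc xc12 yc25 zc22) (kc xc20 yc49 zc54) (kc xc6 yc42 zc6) (kc xc11 yc47 zc54) (kc xc11 yc40 zc41) (kc xc6 yc42 zc8) (kc xc7 yc59 zc55) (kc xc18 yc22 zc32) (kc xc6 yc42 zc9) (kc xc7 yc59 zc53) (kc xc21 yc16 zc6) (kc xc8 yc50 zc44) (kc xc7 yc28 zc44) (kc xc10 yc18 zc17) (kc xc21 yc57 zc47) (kc xc6 yc42 zc14) (kc xc20 yc43 zc37) (kc xc15 yc0 zc2) (kc xc6 yc42 zc15) (kc xc20 yc43 zc36) (kc xc21 yc57 zc52) (kc xc21 yc57 zc54) (kc xc6 yc42 zc16) (kc xc20 yc4 zc42) (kc xc21 yc57 zc58) (kc xc17 yc5 zc2) (kc xc21 yc57 zc61) (kc xc18 yc15 zc15) (kc xc21 yc58 zc1) (kc xc19 yc49 zc28) (kc xc19 yc49 zc29) (kc xc6 yc42 zc20) (kc xc9 yc12 zc16) (kc xc12 yc17 zc46) (kc xc6 yc42 zc23) (kc xc21 yc58 zc6)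 (kc xc6 yc42 zc24) (kc xc12 yc31 zc16) (kc xc17 yc29 zc46) (kc xc17 yc42 zc54) (kc xc6 yc42 zc26) (kc xc21 yc58 zc15) (kc xc17 yc4 zc20) (kc xc21 yc20 zc24)) (@D3.rec (fun _ => Pt) (kc xc18 yc38 zc36) (kc xc6 yc42 zc30) (kc xc6 yc42 zc31) (kc xc21 yc58 zc13) (kc xc6 yc42 zc33) (kc xc6 yc42 zc35) (kc xc14 yc33 zc12) (kc xc11 yc40 zc57) (kc xc19 yc25 zc59) (kc xc6 yc42 zc37) (kc xc18 yc5 zc31) (kc xc19 yc49 zc30) (kc xc7 yc20 zc10) (kc xc21 yc58 zc8) (kc xc6 yc42 zc41) (kc xc12 yc19 zc57) (kc xc12 yc31 zc22) (kc xc20 yc44 zc5) (kc xc21 yc43 zc1) (kc xc21 yc36 zc4) (kc xc12 yc19 zc47) (kc xc21 yc23 zc50) (kc xc17 yc42 zc2) (kc xc6 yc43 zc2) (kc xc12 yc42 zc38) (kc xc6 yc43 zc4) (kc xc21 yc58 zc5) (kc xc21 yc58 zc4) (kc xc6 yc42 zc46) (kc xc19 yc35 zc60) (kc xc21 yc57 zc12)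 (kc xc6 yc42 zc48) (kc xc18 yc27 zc58) (kc xc17 yc17 zc37) (kc xc12 yc13 zc57) (kc xc12 yc13 zc58) (kc xc6 yc42 zc53) (kc xc6 yc42 zc51) (kc xc21 yc58 zc18) (kc xc21 yc59 zc0) (kc xc21 yc59 zc2) (kc xc21 yc58 zc57) (kc xc21 yc59 zc5) (kc xc21 yc59 zc6) (kc xc21 yc46 zc42) (kc xc21 yc45 zc13) (kc xc10 yc50 zc29) (kc xc17 yc43 zc46) (kc xc21 yc59 zc10) (kc xc6 yc42 zc58) (kc xc21 yc59 zc14) (kc xc6 yc42 zc60) (kc xc19 yc41 zc25) (kc xc21 yc58 zc35) (kc xc21 yc59 zc20) (kc xc21 yc10 zc5) (kc xc6 yc43 zc0) (kc xc14 yc36 zc26) (kc xc21 yc59 zc27) (kc xc21 yc59 zc28) (kc xc21 yc59 zc34) (kc xc6 yc43 zc1)) (@D3.rec (fun _ => Pt) (kc xc10 yc39 zc6) (kc xc21 yc59 zc39) (kc xc21 yc59 zc41) (kc xc12 yc42 zc24) (kc xc21 yc59 zc45) (kc xc6 yc43 zc3) (kc xc16 yc26 zc15) (kc xc21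 yc59 zc47) (kc xc8 yc40 zc25) (kc xc21 yc59 zc53) (kc xc20 yc31 zc52) (kc xc6 yc45 zc37) (kc xc9 yc32 zc24) (kc xc11 yc4 zc55) (kc xc9 yc49 zc42) (kc xc18 yc23 zc20) (kc xc13 yc7 zc61) (kc xc11 yc48 zc17) (kc xc21 yc59 zc61) (kc xc7 yc43 zc38) (kc xc22 yc0 zc2) (kc xc22 yc0 zc3) (kc xc22 yc0 zc6) (kc xc22 yc0 zc7) (kc xc6 yc43 zc16) (kc xc6 yc43 zc17) (kc xc22 yc0 zc15) (kc xc8 yc21 zc3) (kc xc14 yc44 zc34) (kc xc17 yc29 zc56) (kc xc22 yc0 zc23) (kc xc6 yc43 zc19) (kc xc22 yc0 zc24) (kc xc12 yc40 zc52) (kc xc6 yc43 zc20) (kc xc22 yc0 zc26) (kc xc22 yc0 zc29) (kc xc22 yc0 zc34) (kc xc6 yc43 zc22) (kc xc13 yc29 zc27) (kc xc6 yc43 zc25) (kc xc22 yc0 zc42) (kc xc17 yc24 zc33) (kc xc22 yc0 zc44) (kc xc22 yc0 zc47) (kc xc22 yc0 zc48) (kc xc6 yc43 zc27) (kc xc22 yc0 zc54)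 (kc xc22 yc0 zc57) (kc xc17 yc26 zc36) (kc xc17 yc26 zc37) (kc xc6 yc43 zc30) (kc xc22 yc1 zc1) (kc xc6 yc43 zc32) (kc xc22 yc1 zc7) (kc xc22 yc1 zc11) (kc xc6 yc43 zc33) (kc xc21 yc35 zc25) (kc xc22 yc1 zc17) (kc xc21 yc52 zc46) (kc xc6 yc43 zc34) (kc xc22 yc1 zc22)) (@D3.rec (fun _ => Pt) (kc xc17 yc26 zc25) (kc xc17 yc26 zc24) (kc xc20 yc23 zc58) (kc xc17 yc27 zc20) (kc xc6 yc43 zc36) (kc xc22 yc1 zc38) (kc xc22 yc1 zc41) (kc xc6 yc43 zc38) (kc xc22 yc1 zc44) (kc xc21 yc40 zc54) (kc xc17 yc26 zc39) (kc xc6 yc43 zc40) (kc xc8 yc23 zc23) (kc xc7 yc48 zc46) (kc xc17 yc34 zc52) (kc xc22 yc1 zc30) (kc xc6 yc43 zc43) (kc xc6 yc43 zc42) (kc xc21 yc46 zc38) (kc xc22 yc1 zc27) (kc xc6 yc43 zc45) (kc xc17 yc22 zc10) (kc xc6 yc43 zc46) (kc xc22 yc1 zc21) (kc xc8 yc21 zc2) (kc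 xc22 yc1 zc16) (kc xc12 yc14 zc29) (kc xc21 yc33 zc13) (kc xc21 yc33 zc17) (kc xc6 yc44 zc5) (kc xc22 yc2 zc19) (kc xc6 yc44 zc7) (kc xc22 yc1 zc6) (kc xc20 yc56 zc54) (kc xc6 yc43 zc49) (kc xc20 yc55 zc33) (kc xc22 yc0 zc12) (kc xc21 yc26 zc10) (kc xc17 yc27 zc26) (kc xc22 yc2 zc32) (kc xc22 yc2 zc34) (kc xc14 yc56 zc14) (kc xc6 yc43 zc57) (kc xc8 yc15 zc59) (kc xc22 yc2 zc39) (kc xc22 yc2 zc42) (kc xc22 yc2 zc37) (kc xc15 yc43 zc7) (kc xc8 yc57 zc17) (kc xc7 yc51 zc51) (kc xc7 yc51 zc52) (kc xc7 yc53 zc38) (kc xc16 yc14 zc22) (kc xc22 yc2 zc52) (kc xc6 yc44 zc0) (kc xc19 yc47 zc16) (kc xc21 yc22 zc55) (kc xc11 yc14 zc54) (kc xc22 yc2 zc12) (kc xc22 yc2 zc58) (kc xc6 yc44 zc3) (kc xc16 yc28 zc13)) (@D3.rec (fun _ => Pt) (kc xc22 yc2 zc61) (kc xc22 yc3 zc1) (kc xc6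 yc44 zc4) (kc xc8 yc50 zc51) (kc xc22 yc3 zc5) (kc xc22 yc3 zc7) (kc xc21 yc28 zc36) (kc xc6 yc44 zc6) (kc xc17 yc2 zc36) (kc xc22 yc3 zc11) (kc xc19 yc38 zc54) (kc xc7 yc4 zc17) (kc xc16 yc51 zc31) (kc xc6 yc44 zc14) (kc xc11 yc28 zc27) (kc xc17 yc10 zc9) (kc xc20 yc32 zc56) (kc xc7 yc43 zc54) (kc xc16 yc40 zc60) (kc xc6 yc44 zc22) (kc xc15 yc55 zc38) (kc xc17 yc56 zc37) (kc xc20 yc26 zc27) (kc xc20 yc26 zc28) (kc xc12 yc4 zc13) (kc xc7 yc44 zc40) (kc xc6 yc44 zc26) (kc xc12 yc57 zc55) (kc xc6 yc44 zc27) (kc xc22 yc3 zc16) (kc xc15 yc36 zc40) (kc xc6 yc44 zc30) (kc xc10 yc12 zc42) (kc xc21 yc50 zc47) (kc xc6 yc44 zc32) (kc xc21 yc3 zc7) (kc xc22 yc3 zc18) (kc xc10 yc6 zc17) (kc xc22 yc3 zc21) (kc xc20 yc23 zc0) (kc xc6 yc44 zc36) (kc xc22 yc3 zc24) (kc xc13 yc10 zc59)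 (kc xc11 yc26 zc31) (kc xc22 yc3 zc25) (kc xc22 yc3 zc26) (kc xc22 yc3 zc29) (kc xc6 yc44 zc38) (kc xc22 yc3 zc34) (kc xc6 yc44 zc40) (kc xc16 yc36 zc7) (kc xc6 yc44 zc42) (kc xc21 yc50 zc57) (kc xc22 yc3 zc36) (kc xc11 yc26 zc41) (kc xc17 yc13 zc9) (kc xc22 yc3 zc41) (kc xc6 yc44 zc44) (kc xc22 yc3 zc44) (kc xc10 yc18 zc10) (kc xc20 yc12 zc7) (kc xc6 yc44 zc50)) (@D3.rec (fun _ => Pt) (kc xc6 yc44 zc49) (kc xc6 yc44 zc51) (kc xc6 yc44 zc53) (kc xc20 yc31 zc55) (kc xc12 yc46 zc2) (kc xc20 yc47 zc7) (kc xc22 yc3 zc50) (kc xc15 yc55 zc60) (kc xc6 yc44 zc55) (kc xc6 yc44 zc56) (kc xc22 yc3 zc53) (kc xc6 yc44 zc57) (kc xc12 yc57 zc44) (kc xc19 yc24 zc19) (kc xc19 yc6 zc51) (kc xc21 yc52 zc12) (kc xc6 yc44 zc59) (kc xc22 yc4 zc5) (kc xc8 yc53 zc39) (kc xc19 yc50 zc53) (kc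 xc22 yc4 zc4) (kc xc6 yc44 zc60) (kc xc8 yc33 zc11) (kc xc9 yc7 zc38) (kc xc6 yc45 zc2) (kc xc22 yc4 zc8) (kc xc22 yc4 zc10) (kc xc12 yc26 zc11) (kc xc6 yc45 zc7) (kc xc21 yc52 zc11) (kc xc6 yc45 zc6) (kc xc15 yc55 zc35) (kc xc18 yc46 zc0) (kc xc6 yc45 zc9) (kc xc18 yc46 zc1) (kc xc21 yc46 zc6) (kc xc15 yc25 zc12) (kc xc15 yc25 zc11) (kc xc6 yc46 zc10) (kc xc16 yc12 zc33) (kc xc15 yc56 zc19) (kc xc15 yc56 zc20) (kc xc6 yc45 zc11) (kc xc22 yc4 zc21) (kc xc22 yc4 zc25) (kc xc6 yc45 zc15) (kc xc6 yc45 zc14) (kc xc22 yc4 zc29) (kc xc17 yc33 zc21) (kc xc6 yc45 zc16) (kc xc22 yc4 zc31) (kc xc22 yc4 zc32) (kc xc6 yc45 zc18) (kc xc19 yc24 zc53) (kc xc12 yc57 zc42) (kc xc22 yc4 zc39) (kc xc6 yc45 zc20) (kc xc22 yc4 zc43) (kc xc22 yc4 zc44) (kc xc22 yc4 zc45) (kc xc22 yc4 zc42)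 (kc xc6 yc45 zc21)) (@D3.rec (fun _ => Pt) (kc xc12 yc43 zc23) (kc xc6 yc45 zc23) (kc xc6 yc45 zc25) (kc xc22 yc4 zc50) (kc xc19 yc31 zc33) (kc xc6 yc46 zc50) (kc xc6 yc45 zc27) (kc xc22 yc3 zc54) (kc xc6 yc46 zc48) (kc xc22 yc4 zc58) (kc xc9 yc32 zc19) (kc xc22 yc4 zc60) (kc xc14 yc46 zc56) (kc xc10 yc15 zc51) (kc xc18 yc18 zc22) (kc xc22 yc5 zc6) (kc xc6 yc45 zc36) (kc xc12 yc20 zc56) (kc xc22 yc4 zc48) (kc xc20 yc5 zc54) (kc xc6 yc45 zc40) (kc xc22 yc5 zc13) (kc xc16 yc44 zc38) (kc xc15 yc3 zc59) (kc xc17 yc34 zc30) (kc xc6 yc45 zc46) (kc xc17 yc58 zc27) (kc xc22 yc5 zc14) (kc xc6 yc45 zc47) (kc xc22 yc5 zc17) (kc xc22 yc5 zc18) (kc xc17 yc26 zc61) (kc xc6 yc45 zc50) (kc xc6 yc45 zc51) (kc xc10 yc19 zc58) (kc xc20 yc47 zc9) (kc xc17 yc31 zc20) (kc xc20 yc58 zc1)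 (kc xc8 yc14 zc33) (kc xc6 yc45 zc57) (kc xc22 yc5 zc26) (kc xc22 yc5 zc29) (kc xc9 yc32 zc12) (kc xc14 yc47 zc16) (kc xc13 yc32 zc57) (kc xc16 yc11 zc21) (kc xc10 yc57 zc44) (kc xc16 yc45 zc60) (kc xc21 yc0 zc50) (kc xc6 yc46 zc3) (kc xc19 yc43 zc8) (kc xc6 yc46 zc2) (kc xc19 yc42 zc61) (kc xc19 yc42 zc60) (kc xc10 yc53 zc46) (kc xc15 yc55 zc29) (kc xc22 yc5 zc35) (kc xc12 yc14 zc28) (kc xc19 yc46 zc41) (kc xc22 yc5 zc42) (kc xc22 yc5 zc44) (kc xc15 yc27 zc39)) (@D3.rec (fun _ => Pt) (kc xc6 yc46 zc7) (kc xc21 yc1 zc21) (kc xc20 yc55 zc15) (kc xc22 yc5 zc51) (kc xc22 yc5 zc56) (kc xc8 yc54 zc57) (kc xc20 yc55 zc14) (kc xc22 yc5 zc61) (kc xc7 yc29 zc19) (kc xc16 yc41 zc60) (kc xc22 yc6 zc3) (kc xc15 yc43 zc24) (kc xc14 yc46 zc43) (kc xc6 yc46 zc11) (kc xc13 yc56 zc31)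 (kc xc21 yc1 zc22) (kc xc11 yc10 zc53) (kc xc11 yc6 zc42) (kc xc12 yc37 zc52) (kc xc9 yc56 zc60) (kc xc9 yc19 zc59) (kc xc13 yc2 zc31) (kc xc6 yc46 zc25) (kc xc14 yc39 zc19) (kc xc6 yc46 zc27) (kc xc10 yc4 zc3) (kc xc10 yc45 zc20) (kc xc19 yc9 zc34) (kc xc19 yc9 zc32) (kc xc6 yc46 zc31) (kc xc18 yc41 zc36) (kc xc6 yc46 zc35) (kc xc22 yc6 zc14) (kc xc22 yc6 zc13) (kc xc6 yc46 zc37) (kc xc19 yc44 zc19) (kc xc21 yc2 zc5) (kc xc6 yc46 zc38) (kc xc22 yc6 zc18) (kc xc6 yc46 zc44) (kc xc11 yc34 zc19) (kc xc22 yc6 zc23) (kc xc6 yc46 zc42) (kc xc18 yc15 zc39) (kc xc17 yc34 zc55) (kc xc6 yc46 zc43) (kc xc12 yc43 zc58) (kc xc14 yc11 zc29) (kc xc8 yc59 zc3) (kc xc6 yc53 zc25) (kc xc22 yc6 zc30) (kc xc22 yc4 zc54) (kc xc13 yc3 zc10) (kc xc10 yc18 zc28) (kc xc21 yc44 zc5) (kc xc22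 yc6 zc32) (kc xc17 yc34 zc47) (kc xc6 yc46 zc59) (kc xc20 yc43 zc54) (kc xc22 yc6 zc39) (kc xc13 yc36 zc0) (kc xc6 yc47 zc1)) (@D3.rec (fun _ => Pt) (kc xc22 yc6 zc40) (kc xc22 yc6 zc41) (kc xc6 yc47 zc19) (kc xc22 yc6 zc45) (kc xc22 yc6 zc46) (kc xc6 yc47 zc4) (kc xc22 yc6 zc48) (kc xc17 yc32 zc23) (kc xc17 yc7 zc50) (kc xc22 yc6 zc56) (kc xc17 yc32 zc26) (kc xc6 yc47 zc6) (kc xc9 yc21 zc59) (kc xc22 yc6 zc60) (kc xc22 yc7 zc1) (kc xc6 yc47 zc7) (kc xc9 yc16 zc55) (kc xc9 yc16 zc5) (kc xc9 yc23 zc40) (kc xc6 yc47 zc9) (kc xc22 yc7 zc8) (kc xc22 yc7 zc10) (kc xc22 yc7 zc14) (kc xc15 yc40 zc40) (kc xc17 yc27 zc7) (kc xc7 yc44 zc32) (kc xc22 yc7 zc18) (kc xc6 yc47 zc12) (kc xc9 yc32 zc0) (kc xc17 yc25 zc57) (kc xc18 yc43 zc12) (kc xc11 yc48 zc9) (kc xc6 yc47 zc34) (kc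 xc22 yc7 zc23) (kc xc6 yc47 zc15) (kc xc8 yc32 zc15) (kc xc12 yc36 zc0) (kc xc17 yc17 zc38) (kc xc22 yc7 zc31) (kc xc22 yc7 zc32) (kc xc22 yc7 zc33) (kc xc17 yc26 zc57) (kc xc12 yc54 zc54) (kc xc6 yc47 zc20) (kc xc12 yc54 zc12) (kc xc6 yc47 zc21) (kc xc17 yc32 zc19) (kc xc17 yc32 zc20) (kc xc6 yc47 zc28) (kc xc15 yc31 zc29) (kc xc6 yc47 zc23) (kc xc22 yc7 zc43) (kc xc18 yc57 zc59) (kc xc6 yc47 zc24) (kc xc14 yc37 zc1) (kc xc12 yc53 zc27) (kc xc6 yc47 zc25) (kc xc22 yc7 zc48) (kc xc6 yc47 zc26) (kc xc22 yc7 zc51) (kc xc22 yc7 zc52) (kc xc20 yc55 zc48)) (@D3.rec (fun _ => Pt) (kc xc17 yc7 zc27) (kc xc6 yc47 zc32) (kc xc21 yc15 zc22) (kc xc9 yc56 zc1) (kc xc6 yc47 zc33) (kc xc9 yc9 zc46) (kc xc6 yc47 zc35) (kc xc22 yc7 zc61) (kc xc18 yc36 zc20) (kc xc12 yc59 zc52) (kc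 xc22 yc8 zc3) (kc xc14 yc54 zc7) (kc xc22 yc8 zc4) (kc xc6 yc47 zc38) (kc xc6 yc47 zc40) (kc xc6 yc50 zc11) (kc xc22 yc8 zc11) (kc xc6 yc47 zc42) (kc xc21 yc43 zc26) (kc xc15 yc37 zc17) (kc xc22 yc8 zc15) (kc xc17 yc22 zc15) (kc xc6 yc50 zc10) (kc xc22 yc8 zc17) (kc xc6 yc47 zc47) (kc xc22 yc8 zc20) (kc xc9 yc20 zc48) (kc xc9 yc20 zc7) (kc xc6 yc47 zc52) (kc xc15 yc16 zc5) (kc xc22 yc8 zc25) (kc xc22 yc8 zc27) (kc xc22 yc8 zc23) (kc xc17 yc11 zc4) (kc xc16 yc13 zc50) (kc xc15 yc47 zc47) (kc xc20 yc19 zc25) (kc xc11 yc36 zc3) (kc xc21 yc59 zc24) (kc xc21 yc32 zc5) (kc xc9 yc9 zc5) (kc xc10 yc19 zc1) (kc xc22 yc8 zc31) (kc xc6 yc47 zc59) (kc xc22 yc8 zc35) (kc xc6 yc47 zc60) (kc xc22 yc8 zc39) (kc xc18 yc50 zc6) (kc xc6 yc48 zc0) (kc xc6 yc52 zc56) (kc xc6 yc48 zc3) (kc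 xc19 yc0 zc47) (kc xc6 yc52 zc54) (kc xc12 yc0 zc60) (kc xc12 yc19 zc3) (kc xc9 yc18 zc20) (kc xc6 yc52 zc52) (kc xc17 yc16 zc26) (kc xc15 yc48 zc39) (kc xc6 yc48 zc12) (kc xc14 yc15 zc35) (kc xc13 yc7 zc12)) (@D3.rec (fun _ => Pt) (kc xc12 yc20 zc43) (kc xc6 yc48 zc10) (kc xc18 yc5 zc4) (kc xc22 yc8 zc61) (kc xc6 yc48 zc11) (kc xc22 yc9 zc3) (kc xc21 yc18 zc11) (kc xc12 yc59 zc10) (kc xc6 yc48 zc14) (kc xc17 yc27 zc40) (kc xc12 yc59 zc7) (kc xc12 yc21 zc7) (kc xc9 yc20 zc9) (kc xc21 yc26 zc44) (kc xc6 yc48 zc24) (kc xc22 yc9 zc22) (kc xc6 yc48 zc25) (kc xc21 yc5 zc2) (kc xc6 yc48 zc20) (kc xc6 yc48 zc21) (kc xc8 yc24 zc6) (kc xc6 yc48 zc22) (kc xc15 yc35 zc54) (kc xc22 yc9 zc32) (kc xc6 yc48 zc23) (kc xc15 yc17 zc20) (kc xc22 yc9 zc19) (kc xc22 yc9 zc35) (kc xc16 yc4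 zc42) (kc xc22 yc9 zc37) (kc xc9 yc14 zc32) (kc xc17 yc10 zc12) (kc xc17 yc35 zc30) (kc xc9 yc19 zc6) (kc xc6 yc48 zc37) (kc xc14 yc1 zc19) (kc xc6 yc48 zc38) (kc xc6 yc48 zc30) (kc xc14 yc52 zc13) (kc xc22 yc9 zc50) (kc xc15 yc46 zc33) (kc xc6 yc48 zc35) (kc xc13 yc0 zc5) (kc xc6 yc48 zc36) (kc xc22 yc9 zc44) (kc xc15 yc37 zc50) (kc xc20 yc15 zc8) (kc xc8 yc19 zc42) (kc xc9 yc0 zc20) (kc xc16 yc6 zc39) (kc xc6 yc48 zc44) (kc xc8 yc31 zc37) (kc xc12 yc58 zc9) (kc xc6 yc48 zc47) (kc xc21 yc21 zc12) (kc xc11 yc59 zc59) (kc xc6 yc48 zc49) (kc xc22 yc9 zc59) (kc xc18 yc25 zc25) (kc xc22 yc10 zc1) (kc xc15 yc46 zc22) (kc xc9 yc0 zc21))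
def f_c_13 : D2 → D3 → Pt := @D2.rec (fun _ => D3 → Pt) (@D3.rec (fun _ => Pt) (kc xc11 yc23 zc52) (kc xc16 yc16 zc50) (kc xc12 yc19 zc50) (kc xc12 yc18 zc43) (kc xc21 yc33 zc56) (kc xc12 yc59 zc42) (kc xc17 yc45 zc15) (kc xc21 yc33 zc54) (kc xc22 yc10 zc20) (kc xc6 yc48 zc55) (kc xc6 yc48 zc54) (kc xc22 yc10 zc29) (kc xc21 yc23 zc48) (kc xc19 yc10 zc29) (kc xc22 yc10 zc25) (kc xc17 yc35 zc15) (kc xc22 yc10 zc32) (kc xc6 yc48 zc56) (kc xc22 yc9 zc28) (kc xc22 yc10 zc35) (kc xc22 yc10 zc33) (kc xc22 yc10 zc37) (kc xc6 yc48 zc59) (kc xc6 yc48 zc58) (kc xc22 yc10 zc40) (kc xc21 yc56 zc35) (kc xc19 yc34 zc19) (kc xc16 yc6 zc12) (kc xc10 yc4 zc28) (kc xc12 yc28 zc54) (kc xc20 yc5 zc36) (kc xc21 yc38 zc59) (kc xc18 yc19 zc55) (kc xc21 yc21 zc14) (kc xc11 yc59 zc42) (kc xc21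 yc16 zc20) (kc xc12 yc39 zc50) (kc xc12 yc20 zc14) (kc xc6 yc49 zc14) (kc xc22 yc10 zc53) (kc xc16 yc29 zc6) (kc xc6 yc49 zc12) (kc xc21 yc10 zc13) (kc xc6 yc49 zc13) (kc xc22 yc11 zc0) (kc xc21 yc19 zc53) (kc xc7 yc19 zc57) (kc xc22 yc11 zc3) (kc xc21 yc52 zc8) (kc xc6 yc49 zc17) (kc xc9 yc20 zc45) (kc xc6 yc49 zc21) (kc xc14 yc12 zc50) (kc xc7 yc27 zc36) (kc xc7 yc30 zc44) (kc xc7 yc20 zc30) (kc xc6 yc49 zc35) (kc xc11 yc1 zc52) (kc xc6 yc49 zc37) (kc xc17 yc9 zc56) (kc xc6 yc53 zc61) (kc xc6 yc49 zc38)) (@D3.rec (fun _ => Pt) (kc xc9 yc57 zc2) (kc xc18 yc36 zc39) (kc xc18 yc37 zc17) (kc xc7 yc26 zc49) (kc xc7 yc26 zc51) (kc xc9 yc10 zc37) (kc xc7 yc53 zc7) (kc xc7 yc53 zc8) (kc xc12 yc14 zc27) (kc xc6 yc49 zc52) (kc xc12 yc16 zc46) (kc xc6 yc49 zc55) (kc xc6 yc49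 zc56) (kc xc21 yc8 zc47) (kc xc12 yc26 zc55) (kc xc14 yc13 zc49) (kc xc6 yc50 zc5) (kc xc22 yc1 zc15) (kc xc6 yc50 zc0) (kc xc7 yc27 zc29) (kc xc13 yc6 zc40) (kc xc7 yc53 zc19) (kc xc6 yc56 zc9) (kc xc19 yc24 zc49) (kc xc6 yc50 zc8) (kc xc22 yc11 zc24) (kc xc8 yc24 zc60) (kc xc22 yc11 zc21) (kc xc22 yc11 zc30) (kc xc6 yc50 zc13) (kc xc12 yc37 zc47) (kc xc6 yc50 zc16) (kc xc12 yc32 zc55) (kc xc17 yc23 zc24) (kc xc12 yc45 zc20) (kc xc14 yc20 zc7) (kc xc6 yc50 zc22) (kc xc9 yc13 zc42) (kc xc9 yc13 zc18) (kc xc15 yc0 zc8) (kc xc14 yc19 zc46) (kc xc6 yc50 zc30) (kc xc16 yc46 zc61) (kc xc17 yc20 zc32) (kc xc19 yc9 zc61) (kc xc6 yc50 zc33) (kc xc6 yc50 zc34) (kc xc6 yc56 zc31) (kc xc6 yc56 zc32) (kc xc6 yc53 zc27) (kc xc6 yc50 zc37) (kc xc20 yc49 zc37) (kc xc22 yc11 zc37)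 (kc xc6 yc50 zc38) (kc xc17 yc23 zc61) (kc xc17 yc20 zc34) (kc xc10 yc4 zc2) (kc xc22 yc11 zc38) (kc xc11 yc17 zc4) (kc xc6 yc50 zc44) (kc xc6 yc50 zc50) (kc xc21 yc38 zc43)) (@D3.rec (fun _ => Pt) (kc xc6 yc50 zc53) (kc xc11 yc9 zc43) (kc xc9 yc23 zc9) (kc xc22 yc11 zc42) (kc xc6 yc50 zc56) (kc xc6 yc59 zc30) (kc xc21 yc5 zc6) (kc xc6 yc50 zc59) (kc xc17 yc30 zc25) (kc xc17 yc7 zc25) (kc xc12 yc44 zc10) (kc xc11 yc1 zc19) (kc xc6 yc51 zc8) (kc xc22 yc11 zc53) (kc xc22 yc11 zc55) (kc xc11 yc57 zc13) (kc xc20 yc34 zc57) (kc xc20 yc34 zc55) (kc xc17 yc24 zc0) (kc xc6 yc51 zc13) (kc xc6 yc51 zc12) (kc xc19 yc15 zc39) (kc xc6 yc51 zc14) (kc xc10 yc44 zc54) (kc xc6 yc51 zc15) (kc xc14 yc36 zc43) (kc xc10 yc33 zc49) (kc xc10 yc33 zc48) (kc xc19 yc9 zc46) (kc xc22 yc12 zc4)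 (kc xc11 yc10 zc54) (kc xc12 yc56 zc21) (kc xc10 yc48 zc59) (kc xc6 yc52 zc47) (kc xc7 yc6 zc52) (kc xc13 yc40 zc42) (kc xc13 yc49 zc24) (kc xc13 yc24 zc5) (kc xc22 yc12 zc14) (kc xc14 yc9 zc20) (kc xc21 yc25 zc31) (kc xc6 yc51 zc30) (kc xc13 yc44 zc52) (kc xc13 yc18 zc21) (kc xc22 yc12 zc22) (kc xc13 yc5 zc11) (kc xc21 yc25 zc14) (kc xc6 yc51 zc32) (kc xc20 yc28 zc24) (kc xc22 yc12 zc28) (kc xc22 yc12 zc29) (kc xc22 yc12 zc33) (kc xc13 yc2 zc52) (kc xc22 yc12 zc35) (kc xc7 yc12 zc15) (kc xc20 yc43 zc17) (kc xc6 yc51 zc36) (kc xc6 yc57 zc13) (kc xc6 yc58 zc55) (kc xc22 yc12 zc41) (kc xc20 yc43 zc3) (kc xc22 yc12 zc43)) (@D3.rec (fun _ => Pt) (kc xc7 yc16 zc6) (kc xc13 yc5 zc30) (kc xc22 yc12 zc44) (kc xc21 yc4 zc38) (kc xc7 yc0 zc15) (kc xc10 yc17 zc45) (kc xc22 yc12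 zc47) (kc xc9 yc30 zc28) (kc xc9 yc30 zc49) (kc xc22 yc12 zc50) (kc xc12 yc56 zc52) (kc xc22 yc12 zc52) (kc xc22 yc12 zc54) (kc xc22 yc12 zc57) (kc xc6 yc51 zc50) (kc xc16 yc30 zc17) (kc xc13 yc46 zc24) (kc xc22 yc12 zc61) (kc xc13 yc46 zc34) (kc xc22 yc13 zc4) (kc xc12 yc1 zc16) (kc xc20 yc40 zc4) (kc xc20 yc43 zc10) (kc xc20 yc43 zc9) (kc xc6 yc51 zc57) (kc xc22 yc13 zc13) (kc xc7 yc12 zc32) (kc xc22 yc13 zc19) (kc xc13 yc27 zc40) (kc xc22 yc13 zc23) (kc xc6 yc51 zc59) (kc xc22 yc13 zc28) (kc xc13 yc20 zc23) (kc xc12 yc33 zc38) (kc xc22 yc13 zc36) (kc xc7 yc15 zc31) (kc xc6 yc52 zc0) (kc xc17 yc2 zc14) (kc xc22 yc13 zc41) (kc xc6 yc52 zc2) (kc xc22 yc13 zc45) (kc xc22 yc13 zc49) (kc xc6 yc52 zc3) (kc xc6 yc57 zc35) (kc xc6 yc57 zc55) (kc xc13 yc22 zc34) (kc xc6 yc54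 zc29) (kc xc6 yc52 zc5) (kc xc22 yc13 zc60) (kc xc7 yc4 zc51) (kc xc22 yc14 zc0) (kc xc13 yc5 zc28) (kc xc13 yc16 zc54) (kc xc22 yc14 zc7) (kc xc13 yc16 zc56) (kc xc22 yc14 zc10) (kc xc22 yc14 zc13) (kc xc6 yc52 zc10) (kc xc22 yc14 zc16) (kc xc7 yc3 zc17) (kc xc14 yc32 zc51) (kc xc6 yc52 zc12)) (@D3.rec (fun _ => Pt) (kc xc7 yc3 zc14) (kc xc14 yc17 zc39) (kc xc6 yc57 zc10) (kc xc7 yc5 zc8) (kc xc7 yc5 zc2) (kc xc22 yc14 zc25) (kc xc14 yc6 zc26) (kc xc6 yc52 zc17) (kc xc20 yc41 zc24) (kc xc13 yc8 zc46) (kc xc13 yc36 zc59) (kc xc14 yc5 zc38) (kc xc6 yc57 zc11) (kc xc18 yc15 zc27) (kc xc6 yc52 zc20) (kc xc6 yc52 zc22) (kc xc7 yc48 zc3) (kc xc22 yc14 zc38) (kc xc6 yc52 zc24) (kc xc22 yc14 zc41) (kc xc13 yc8 zc7) (kc xc22 yc14 zc43) (kc xc19 yc50 zc48) (kc xc17 yc35 zc17)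 (kc xc12 yc48 zc11) (kc xc22 yc14 zc51) (kc xc15 yc14 zc49) (kc xc22 yc14 zc56) (kc xc14 yc10 zc45) (kc xc13 yc49 zc43) (kc xc6 yc52 zc35) (kc xc22 yc15 zc0) (kc xc14 yc4 zc38) (kc xc13 yc35 zc40) (kc xc13 yc34 zc53) (kc xc7 yc16 zc41) (kc xc7 yc7 zc26) (kc xc22 yc15 zc5) (kc xc8 yc42 zc12) (kc xc14 yc15 zc19) (kc xc6 yc52 zc43) (kc xc22 yc15 zc17) (kc xc22 yc15 zc18) (kc xc22 yc15 zc15) (kc xc14 yc56 zc33) (kc xc7 yc50 zc17) (kc xc22 yc12 zc8) (kc xc22 yc15 zc23) (kc xc13 yc52 zc39) (kc xc14 yc13 zc30) (kc xc14 yc13 zc15) (kc xc14 yc15 zc28) (kc xc14 yc15 zc31) (kc xc6 yc53 zc19) (kc xc6 yc53 zc18) (kc xc13 yc34 zc22) (kc xc21 yc14 zc45) (kc xc13 yc50 zc8) (kc xc13 yc16 zc4) (kc xc22 yc15 zc31) (kc xc10 yc8 zc59) (kc xc7 yc30 zc47)) (@D3.rec (fun _ => Pt) (kc xc7 yc30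 zc48) (kc xc8 yc30 zc43) (kc xc14 yc1 zc15) (kc xc6 yc52 zc58) (kc xc22 yc15 zc43) (kc xc22 yc15 zc41) (kc xc22 yc15 zc46) (kc xc22 yc15 zc48) (kc xc13 yc5 zc8) (kc xc14 yc9 zc19) (kc xc12 yc26 zc44) (kc xc13 yc2 zc45) (kc xc13 yc57 zc4) (kc xc13 yc57 zc41) (kc xc14 yc29 zc17) (kc xc22 yc15 zc57) (kc xc22 yc15 zc60) (kc xc22 yc16 zc3) (kc xc22 yc16 zc4) (kc xc22 yc12 zc39) (kc xc6 yc53 zc10) (kc xc13 yc20 zc34) (kc xc6 yc53 zc11) (kc xc22 yc16 zc8) (kc xc22 yc16 zc10) (kc xc12 yc33 zc37) (kc xc13 yc19 zc34) (kc xc17 yc54 zc55) (kc xc13 yc3 zc51) (kc xc7 yc32 zc36) (kc xc13 yc3 zc1) (kc xc22 yc16 zc19) (kc xc13 yc19 zc40) (kc xc22 yc16 zc22) (kc xc21 yc5 zc9) (kc xc14 yc51 zc60) (kc xc13 yc17 zc36) (kc xc22 yc16 zc28) (kc xc22 yc15 zc25) (kc xc21 yc5 zc5) (kc xc22 yc16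 zc31) (kc xc6 yc53 zc20) (kc xc22 yc16 zc36) (kc xc21 yc22 zc13) (kc xc21 yc3 zc44) (kc xc21 yc47 zc14) (kc xc22 yc16 zc39) (kc xc22 yc16 zc41) (kc xc9 yc30 zc61) (kc xc22 yc16 zc44) (kc xc22 yc16 zc46) (kc xc6 yc53 zc26) (kc xc22 yc16 zc52) (kc xc22 yc16 zc54) (kc xc22 yc16 zc58) (kc xc13 yc36 zc33) (kc xc13 yc49 zc57) (kc xc6 yc53 zc29) (kc xc22 yc17 zc1) (kc xc6 yc53 zc31) (kc xc22 yc17 zc6) (kc xc14 yc33 zc57)) (@D3.rec (fun _ => Pt) (kc xc22 yc17 zc11) (kc xc6 yc53 zc33) (kc xc22 yc17 zc14) (kc xc6 yc53 zc34) (kc xc22 yc17 zc19) (kc xc13 yc6 zc16) (kc xc22 yc16 zc35) (kc xc7 yc18 zc33) (kc xc6 yc53 zc36) (kc xc22 yc17 zc30) (kc xc22 yc17 zc33) (kc xc13 yc6 zc11) (kc xc6 yc53 zc38) (kc xc22 yc17 zc37) (kc xc13 yc7 zc50) (kc xc13 yc6 zc15) (kc xc13 yc6 zc5) (kc xc17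 yc13 zc0) (kc xc13 yc19 zc4) (kc xc12 yc24 zc9) (kc xc14 yc10 zc57) (kc xc13 yc58 zc17) (kc xc6 yc53 zc60) (kc xc17 yc0 zc12) (kc xc6 yc53 zc47) (kc xc16 yc59 zc57) (kc xc22 yc17 zc49) (kc xc21 yc39 zc11) (kc xc15 yc50 zc27) (kc xc6 yc53 zc50) (kc xc8 yc5 zc35) (kc xc20 yc45 zc53) (kc xc6 yc53 zc51) (kc xc12 yc33 zc41) (kc xc21 yc3 zc24) (kc xc6 yc53 zc57) (kc xc14 yc4 zc54) (kc xc14 yc5 zc36) (kc xc21 yc9 zc10) (kc xc13 yc24 zc48) (kc xc13 yc1 zc20) (kc xc22 yc17 zc60) (kc xc21 yc57 zc32) (kc xc6 yc54 zc1) (kc xc22 yc18 zc1) (kc xc22 yc18 zc4) (kc xc16 yc57 zc28) (kc xc22 yc18 zc6) (kc xc11 yc3 zc52) (kc xc22 yc18 zc9) (kc xc6 yc54 zc3) (kc xc20 yc24 zc3) (kc xc22 yc18 zc16) (kc xc22 yc18 zc19) (kc xc22 yc18 zc21) (kc xc6 yc54 zc5) (kc xc22 yc18 zc24) (kc xc22 yc18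 zc26) (kc xc7 yc19 zc25) (kc xc21 yc37 zc15) (kc xc22 yc18 zc31) (kc xc7 yc30 zc4)) (@D3.rec (fun _ => Pt) (kc xc16 yc33 zc18) (kc xc7 yc30 zc6) (kc xc16 yc33 zc25) (kc xc22 yc18 zc42) (kc xc6 yc54 zc13) (kc xc22 yc18 zc44) (kc xc22 yc18 zc48) (kc xc6 yc54 zc14) (kc xc22 yc18 zc51) (kc xc22 yc18 zc13) (kc xc22 yc18 zc57) (kc xc13 yc7 zc11) (kc xc12 yc58 zc61) (kc xc7 yc36 zc18) (kc xc13 yc14 zc3) (kc xc6 yc54 zc20) (kc xc22 yc19 zc5) (kc xc22 yc19 zc4) (kc xc7 yc49 zc46) (kc xc6 yc54 zc21) (kc xc19 yc21 zc45) (kc xc22 yc19 zc13) (kc xc22 yc19 zc16) (kc xc6 yc54 zc22) (kc xc22 yc19 zc22) (kc xc18 yc21 zc44) (kc xc13 yc40 zc48) (kc xc20 yc56 zc40) (kc xc6 yc54 zc25) (kc xc13 yc11 zc53) (kc xc22 yc0 zc50) (kc xc6 yc54 zc26) (kc xc11 yc46 zc16) (kc xc22 yc19 zc32) (kc xc6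 yc54 zc27) (kc xc22 yc19 zc35) (kc xc13 yc53 zc58) (kc xc13 yc24 zc22) (kc xc22 yc19 zc20) (kc xc22 yc13 zc59) (kc xc13 yc11 zc59) (kc xc14 yc46 zc10) (kc xc14 yc2 zc25) (kc xc20 yc57 zc0) (kc xc13 yc11 zc33) (kc xc13 yc11 zc34) (kc xc6 yc54 zc33) (kc xc14 yc55 zc14) (kc xc6 yc54 zc35) (kc xc22 yc19 zc50) (kc xc13 yc6 zc14) (kc xc7 yc49 zc32) (kc xc14 yc28 zc37) (kc xc14 yc28 zc36) (kc xc14 yc28 zc54) (kc xc14 yc28 zc55) (kc xc12 yc35 zc46) (kc xc14 yc32 zc50) (kc xc6 yc54 zc43) (kc xc6 yc54 zc44) (kc xc8 yc54 zc48) (kc xc12 yc51 zc16)) (@D3.rec (fun _ => Pt) (kc xc16 yc41 zc5) (kc xc7 yc38 zc7) (kc xc7 yc42 zc5) (kc xc16 yc34 zc28) (kc xc14 yc18 zc37) (kc xc6 yc54 zc49) (kc xc18 yc12 zc16) (kc xc13 yc4 zc20) (kc xc14 yc18 zc7) (kc xc6 yc54 zc50) (kc xc18 yc12 zc17)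 (kc xc13 yc12 zc39) (kc xc22 yc20 zc11) (kc xc22 yc20 zc14) (kc xc6 yc54 zc51) (kc xc22 yc20 zc18) (kc xc18 yc57 zc35) (kc xc17 yc24 zc12) (kc xc17 yc32 zc40) (kc xc17 yc24 zc13) (kc xc22 yc20 zc25) (kc xc22 yc20 zc27) (kc xc6 yc54 zc55) (kc xc22 yc20 zc30) (kc xc22 yc20 zc32) (kc xc22 yc20 zc36) (kc xc7 yc24 zc41) (kc xc13 yc36 zc58) (kc xc6 yc54 zc58) (kc xc19 yc39 zc16) (kc xc6 yc54 zc60) (kc xc22 yc20 zc43) (kc xc22 yc20 zc47) (kc xc22 yc20 zc48) (kc xc6 yc55 zc0) (kc xc17 yc57 zc37) (kc xc6 yc55 zc1) (kc xc22 yc20 zc55) (kc xc22 yc20 zc16) (kc xc6 yc55 zc3) (kc xc22 yc21 zc1) (kc xc22 yc21 zc4) (kc xc6 yc55 zc5) (kc xc16 yc45 zc33) (kc xc13 yc8 zc44) (kc xc7 yc51 zc31) (kc xc13 yc4 zc9) (kc xc14 yc18 zc57) (kc xc14 yc19 zc20) (kc xc14 yc6 zc48) (kc xc6 yc55 zc23)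 (kc xc17 yc13 zc15) (kc xc17 yc3 zc14) (kc xc14 yc19 zc23) (kc xc14 yc19 zc24) (kc xc22 yc21 zc15) (kc xc22 yc21 zc18) (kc xc20 yc9 zc50) (kc xc14 yc49 zc19) (kc xc6 yc55 zc16) (kc xc6 yc55 zc49) (kc xc20 yc56 zc59)) (@D3.rec (fun _ => Pt) (kc xc22 yc21 zc25) (kc xc6 yc55 zc24) (kc xc22 yc21 zc26) (kc xc22 yc21 zc28) (kc xc22 yc21 zc31) (kc xc22 yc21 zc32) (kc xc22 yc21 zc34) (kc xc6 yc55 zc27) (kc xc22 yc21 zc41) (kc xc21 yc20 zc9) (kc xc12 yc16 zc50) (kc xc22 yc21 zc44) (kc xc17 yc50 zc22) (kc xc6 yc55 zc31) (kc xc20 yc47 zc12) (kc xc17 yc8 zc47) (kc xc14 yc29 zc27) (kc xc7 yc41 zc5) (kc xc14 yc51 zc47) (kc xc7 yc52 zc44) (kc xc20 yc53 zc13) (kc xc13 yc22 zc42) (kc xc11 yc50 zc45) (kc xc7 yc41 zc6) (kc xc6 yc55 zc39) (kc xc17 yc59 zc44) (kc xc6 yc56 zc25) (kc xc6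 yc56 zc26) (kc xc22 yc21 zc39) (kc xc6 yc55 zc41) (kc xc22 yc22 zc6) (kc xc22 yc22 zc7) (kc xc13 yc9 zc32) (kc xc12 yc41 zc12) (kc xc13 yc9 zc34) (kc xc17 yc9 zc0) (kc xc6 yc55 zc46) (kc xc7 yc15 zc40) (kc xc14 yc47 zc11) (kc xc7 yc52 zc52) (kc xc22 yc22 zc19) (kc xc14 yc15 zc36) (kc xc22 yc21 zc23) (kc xc14 yc21 zc45) (kc xc14 yc51 zc58) (kc xc10 yc35 zc33) (kc xc14 yc45 zc57) (kc xc6 yc55 zc53) (kc xc21 yc2 zc2) (kc xc13 yc40 zc24) (kc xc6 yc55 zc56) (kc xc20 yc55 zc4) (kc xc13 yc27 zc61) (kc xc20 yc37 zc13) (kc xc13 yc39 zc59) (kc xc14 yc18 zc25) (kc xc6 yc55 zc60) (kc xc17 yc35 zc6) (kc xc7 yc38 zc15) (kc xc11 yc25 zc60) (kc xc6 yc56 zc0) (kc xc20 yc22 zc6)) (@D3.rec (fun _ => Pt) (kc xc18 yc57 zc56) (kc xc22 yc22 zc33) (kc xc22 yc22 zc28) (kc xc6 yc56 zc1) (kc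 xc22 yc22 zc37) (kc xc22 yc22 zc36) (kc xc13 yc43 zc27) (kc xc6 yc56 zc2) (kc xc22 yc22 zc43) (kc xc21 yc14 zc18) (kc xc21 yc14 zc39) (kc xc22 yc22 zc46) (kc xc6 yc56 zc3) (kc xc20 yc37 zc12) (kc xc6 yc56 zc5) (kc xc22 yc22 zc49) (kc xc22 yc22 zc52) (kc xc20 yc59 zc31) (kc xc22 yc22 zc54) (kc xc6 yc56 zc8) (kc xc22 yc22 zc58) (kc xc22 yc22 zc60) (kc xc14 yc51 zc22) (kc xc7 yc53 zc24) (kc xc7 yc53 zc25) (kc xc16 yc27 zc22) (kc xc6 yc56 zc12) (kc xc22 yc23 zc3) (kc xc14 yc1 zc44) (kc xc22 yc23 zc7) (kc xc22 yc23 zc8) (kc xc12 yc33 zc61) (kc xc15 yc50 zc61) (kc xc10 yc47 zc17) (kc xc14 yc51 zc26) (kc xc14 yc22 zc26) (kc xc22 yc23 zc9) (kc xc13 yc58 zc44) (kc xc11 yc35 zc40) (kc xc20 yc17 zc32) (kc xc20 yc26 zc17) (kc xc6 yc56 zc23) (kc xc21 yc24 zc3) (kc xc22 yc23 zc15)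 (kc xc20 yc45 zc2) (kc xc9 yc0 zc3) (kc xc6 yc56 zc30) (kc xc22 yc23 zc20) (kc xc19 yc40 zc3) (kc xc22 yc23 zc22) (kc xc22 yc11 zc36) (kc xc22 yc16 zc48) (kc xc22 yc16 zc49) (kc xc6 yc56 zc33) (kc xc22 yc23 zc30) (kc xc22 yc18 zc22) (kc xc22 yc18 zc23) (kc xc6 yc56 zc35) (kc xc12 yc14 zc19) (kc xc12 yc53 zc42) (kc xc9 yc13 zc49) (kc xc20 yc52 zc24)) (@D3.rec (fun _ => Pt) (kc xc11 yc18 zc33) (kc xc11 yc19 zc60) (kc xc11 yc47 zc1) (kc xc11 yc47 zc0) (kc xc6 yc56 zc42) (kc xc22 yc23 zc39) (kc xc6 yc56 zc43) (kc xc11 yc20 zc2) (kc xc13 yc12 zc11) (kc xc22 yc0 zc10) (kc xc9 yc9 zc11) (kc xc11 yc46 zc53) (kc xc11 yc46 zc52) (kc xc14 yc38 zc9) (kc xc20 yc14 zc43) (kc xc6 yc56 zc46) (kc xc20 yc56 zc35) (kc xc20 yc56 zc38) (kc xc13 yc40 zc58) (kc xc6 yc56 zc50) (kc xc22 yc23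 zc57) (kc xc20 yc39 zc13) (kc xc6 yc56 zc49) (kc xc22 yc24 zc1) (kc xc22 yc24 zc5) (kc xc22 yc24 zc7) (kc xc22 yc24 zc10) (kc xc13 yc44 zc3) (kc xc22 yc24 zc11) (kc xc6 yc56 zc51) (kc xc22 yc24 zc14) (kc xc6 yc56 zc52) (kc xc22 yc24 zc19) (kc xc13 yc7 zc44) (kc xc13 yc7 zc45) (kc xc22 yc24 zc0) (kc xc6 yc57 zc26) (kc xc6 yc57 zc27) (kc xc6 yc56 zc55) (kc xc22 yc24 zc28) (kc xc22 yc24 zc30) (kc xc14 yc22 zc9) (kc xc22 yc24 zc33) (kc xc22 yc24 zc35) (kc xc6 yc56 zc59) (kc xc22 yc24 zc41) (kc xc13 yc26 zc32) (kc xc13 yc26 zc33) (kc xc15 yc34 zc20) (kc xc22 yc24 zc39) (kc xc6 yc57 zc0) (kc xc22 yc19 zc51) (kc xc13 yc28 zc9) (kc xc13 yc7 zc29) (kc xc6 yc57 zc1) (kc xc22 yc24 zc55) (kc xc6 yc57 zc2) (kc xc13 yc52 zc12) (kc xc22 yc25 zc0) (kc xc13 yc7 zc40) (kc xc7 yc21 zc4)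 (kc xc22 yc24 zc60)) (@D3.rec (fun _ => Pt) (kc xc11 yc43 zc42) (kc xc11 yc43 zc35) (kc xc20 yc16 zc39) (kc xc11 yc46 zc17) (kc xc22 yc0 zc51) (kc xc6 yc57 zc6) (kc xc13 yc17 zc19) (kc xc22 yc25 zc21) (kc xc22 yc25 zc19) (kc xc6 yc57 zc9) (kc xc22 yc25 zc32) (kc xc13 yc11 zc8) (kc xc22 yc25 zc37) (kc xc20 yc48 zc3) (kc xc19 yc31 zc50) (kc xc22 yc14 zc32) (kc xc22 yc25 zc46) (kc xc22 yc25 zc51) (kc xc14 yc41 zc8) (kc xc22 yc25 zc56) (kc xc14 yc40 zc27) (kc xc20 yc47 zc22) (kc xc6 yc57 zc15) (kc xc22 yc26 zc2) (kc xc20 yc37 zc22) (kc xc6 yc57 zc34) (kc xc14 yc28 zc40) (kc xc14 yc28 zc39) (kc xc7 yc54 zc42) (kc xc22 yc26 zc15) (kc xc6 yc57 zc21) (kc xc22 yc26 zc18) (kc xc6 yc57 zc22) (kc xc16 yc41 zc6) (kc xc10 yc40 zc17) (kc xc14 yc21 zc15) (kc xc22 yc26 zc23) (kc xc10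 yc57 zc31) (kc xc20 yc56 zc7) (kc xc13 yc8 zc11) (kc xc13 yc53 zc35) (kc xc22 yc26 zc32) (kc xc22 yc26 zc34) (kc xc20 yc44 zc23) (kc xc22 yc0 zc56) (kc xc7 yc47 zc6) (kc xc22 yc24 zc27) (kc xc13 yc14 zc17) (kc xc22 yc13 zc43) (kc xc6 yc57 zc30) (kc xc13 yc12 zc50) (kc xc22 yc24 zc18) (kc xc7 yc54 zc39) (kc xc22 yc13 zc26) (kc xc13 yc14 zc14) (kc xc22 yc13 zc25) (kc xc14 yc53 zc3) (kc xc14 yc41 zc59) (kc xc22 yc26 zc9) (kc xc22 yc26 zc60) (kc xc7 yc46 zc5) (kc xc22 yc13 zc52)) (@D3.rec (fun _ => Pt) (kc xc14 yc41 zc11) (kc xc6 yc57 zc47) (kc xc16 yc2 zc42) (kc xc6 yc57 zc49) (kc xc7 yc54 zc21) (kc xc7 yc54 zc20) (kc xc6 yc57 zc40) (kc xc22 yc27 zc10) (kc xc7 yc4 zc44) (kc xc6 yc57 zc54) (kc xc20 yc55 zc11) (kc xc20 yc56 zc61) (kc xc22 yc27 zc3) (kc xc22 yc27 zc20) (kc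 xc22 yc27 zc23) (kc xc6 yc57 zc48) (kc xc22 yc27 zc28) (kc xc13 yc26 zc22) (kc xc22 yc27 zc34) (kc xc22 yc27 zc27) (kc xc6 yc57 zc51) (kc xc20 yc44 zc33) (kc xc20 yc48 zc25) (kc xc22 yc27 zc45) (kc xc6 yc57 zc53) (kc xc22 yc27 zc48) (kc xc7 yc53 zc44) (kc xc22 yc27 zc15) (kc xc22 yc27 zc51) (kc xc10 yc13 zc23) (kc xc12 yc11 zc42) (kc xc6 yc57 zc58) (kc xc22 yc27 zc59) (kc xc7 yc36 zc56) (kc xc14 yc3 zc40) (kc xc22 yc27 zc61) (kc xc21 yc25 zc29) (kc xc22 yc28 zc4) (kc xc22 yc28 zc5) (kc xc13 yc27 zc23) (kc xc22 yc28 zc7) (kc xc21 yc25 zc1) (kc xc14 yc45 zc16) (kc xc13 yc30 zc53) (kc xc13 yc15 zc30) (kc xc13 yc51 zc48) (kc xc21 yc19 zc58) (kc xc7 yc18 zc19) (kc xc22 yc28 zc18) (kc xc6 yc58 zc5) (kc xc22 yc28 zc21) (kc xc22 yc28 zc20) (kc xc6 yc58 zc7) (kc xc22 yc28 zc32)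 (kc xc15 yc12 zc19) (kc xc22 yc28 zc31) (kc xc7 yc20 zc26) (kc xc7 yc20 zc25) (kc xc7 yc54 zc52) (kc xc6 yc58 zc9) (kc xc22 yc28 zc39) (kc xc18 yc29 zc19)) (@D3.rec (fun _ => Pt) (kc xc13 yc14 zc0) (kc xc13 yc14 zc1) (kc xc22 yc28 zc43) (kc xc13 yc7 zc14) (kc xc14 yc10 zc41) (kc xc20 yc49 zc16) (kc xc22 yc28 zc48) (kc xc6 yc58 zc16) (kc xc9 yc59 zc31) (kc xc22 yc28 zc53) (kc xc6 yc58 zc17) (kc xc22 yc28 zc55) (kc xc7 yc48 zc0) (kc xc7 yc47 zc61) (kc xc13 yc12 zc54) (kc xc7 yc54 zc29) (kc xc22 yc14 zc39) (kc xc13 yc12 zc47) (kc xc6 yc58 zc24) (kc xc11 yc17 zc34) (kc xc7 yc52 zc21) (kc xc22 yc14 zc34) (kc xc14 yc32 zc10) (kc xc7 yc47 zc11) (kc xc18 yc9 zc7) (kc xc6 yc58 zc27) (kc xc22 yc29 zc9) (kc xc22 yc29 zc12) (kc xc13 yc14 zc28) (kc xc6 yc58 zc29) (kc xc22 yc29 zc14)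 (kc xc14 yc49 zc45) (kc xc14 yc49 zc33) (kc xc7 yc53 zc58) (kc xc22 yc29 zc22) (kc xc22 yc29 zc24) (kc xc15 yc8 zc59) (kc xc22 yc29 zc30) (kc xc18 yc15 zc28) (kc xc13 yc40 zc46) (kc xc7 yc19 zc56) (kc xc14 yc53 zc46) (kc xc6 yc58 zc36) (kc xc10 yc13 zc22) (kc xc10 yc13 zc21) (kc xc22 yc29 zc41) (kc xc10 yc22 zc56) (kc xc7 yc10 zc10) (kc xc7 yc50 zc45) (kc xc6 yc58 zc39) (kc xc13 yc37 zc29) (kc xc13 yc55 zc4) (kc xc14 yc13 zc17) (kc xc14 yc13 zc18) (kc xc22 yc29 zc51) (kc xc13 yc14 zc55) (kc xc7 yc4 zc16) (kc xc22 yc29 zc54) (kc xc7 yc27 zc58) (kc xc22 yc29 zc56) (kc xc6 yc58 zc46) (kc xc14 yc53 zc47)) (@D3.rec (fun _ => Pt) (kc xc7 yc5 zc43) (kc xc22 yc29 zc61) (kc xc22 yc30 zc1) (kc xc22 yc30 zc4) (kc xc22 yc30 zc6) (kc xc13 yc35 zc35) (kc xc13 yc35 zc37) (kc xc13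 yc39 zc15) (kc xc22 yc30 zc8) (kc xc13 yc51 zc44) (kc xc22 yc29 zc20) (kc xc12 yc7 zc57) (kc xc6 yc59 zc17) (kc xc11 yc59 zc50) (kc xc22 yc30 zc17) (kc xc6 yc59 zc3) (kc xc12 yc0 zc22) (kc xc6 yc59 zc5) (kc xc6 yc59 zc6) (kc xc12 yc21 zc31) (kc xc22 yc30 zc19) (kc xc13 yc35 zc12) (kc xc7 yc12 zc52) (kc xc22 yc30 zc23) (kc xc7 yc24 zc35) (kc xc22 yc15 zc21) (kc xc14 yc56 zc48) (kc xc20 yc1 zc24) (kc xc13 yc37 zc4) (kc xc21 yc6 zc45) (kc xc13 yc13 zc44) (kc xc14 yc48 zc5) (kc xc13 yc26 zc16) (kc xc6 yc59 zc15) (kc xc7 yc29 zc40) (kc xc7 yc25 zc16) (kc xc14 yc48 zc6) (kc xc22 yc30 zc35) (kc xc6 yc59 zc16) (kc xc22 yc30 zc38) (kc xc22 yc30 zc39) (kc xc22 yc28 zc12) (kc xc6 yc59 zc18) (kc xc22 yc30 zc42) (kc xc14 yc5 zc8) (kc xc19 yc1 zc49) (kc xc21 yc55 zc40) (kc xc18 yc42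 zc30) (kc xc10 yc4 zc17) (kc xc21 yc56 zc22) (kc xc13 yc51 zc42) (kc xc22 yc30 zc59) (kc xc13 yc50 zc39) (kc xc6 yc59 zc36) (kc xc22 yc31 zc3) (kc xc7 yc34 zc40) (kc xc6 yc59 zc25) (kc xc22 yc11 zc7) (kc xc22 yc31 zc11) (kc xc6 yc59 zc29) (kc xc22 yc31 zc14) (kc xc22 yc31 zc17)) (@D3.rec (fun _ => Pt) (kc xc22 yc11 zc47) (kc xc22 yc31 zc18) (kc xc13 yc23 zc61) (kc xc7 yc33 zc8) (kc xc13 yc4 zc58) (kc xc13 yc48 zc30) (kc xc13 yc18 zc17) (kc xc6 yc59 zc34) (kc xc22 yc31 zc25) (kc xc22 yc31 zc27) (kc xc22 yc31 zc28) (kc xc22 yc31 zc31) (kc xc19 yc48 zc15) (kc xc6 yc59 zc37) (kc xc22 yc31 zc36) (kc xc22 yc31 zc41) (kc xc14 yc0 zc59) (kc xc22 yc31 zc47) (kc xc21 yc6 zc9) (kc xc22 yc31 zc34) (kc xc6 yc59 zc41) (kc xc18 yc40 zc56) (kc xc21 yc55 zc54) (kc xc22 yc31 zc56) (kc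 xc7 yc28 zc32) (kc xc6 yc59 zc44) (kc xc22 yc32 zc2) (kc xc7 yc0 zc40) (kc xc7 yc18 zc56) (kc xc6 yc59 zc47) (kc xc19 yc21 zc35) (kc xc14 yc12 zc34) (kc xc22 yc16 zc11) (kc xc9 yc8 zc24) (kc xc13 yc16 zc34) (kc xc21 yc13 zc6) (kc xc9 yc21 zc52) (kc xc9 yc21 zc51) (kc xc9 yc8 zc41) (kc xc13 yc24 zc47) (kc xc6 yc59 zc51) (kc xc22 yc32 zc15) (kc xc22 yc32 zc13) (kc xc7 yc18 zc59) (kc xc6 yc59 zc52) (kc xc22 yc32 zc19) (kc xc22 yc32 zc18) (kc xc17 yc0 zc20) (kc xc15 yc8 zc14) (kc xc11 yc34 zc3) (kc xc21 yc41 zc34) (kc xc7 yc28 zc10) (kc xc13 yc57 zc47) (kc xc20 yc41 zc51) (kc xc13 yc3 zc52) (kc xc22 yc32 zc27) (kc xc13 yc3 zc54) (kc xc6 yc59 zc60) (kc xc22 yc32 zc31) (kc xc22 yc32 zc35) (kc xc13 yc56 zc0) (kc xc22 yc32 zc39)) (@D3.rec (fun _ => Pt) (kc xc7 yc0 zc1) (kc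 xc22 yc32 zc40) (kc xc17 yc29 zc58) (kc xc7 yc0 zc2) (kc xc22 yc32 zc43) (kc xc7 yc32 zc9) (kc xc7 yc46 zc37) (kc xc7 yc0 zc5) (kc xc7 yc4 zc31) (kc xc13 yc50 zc25) (kc xc13 yc38 zc34) (kc xc7 yc0 zc9) (kc xc22 yc32 zc54) (kc xc7 yc12 zc28) (kc xc7 yc46 zc60) (kc xc22 yc32 zc50) (kc xc7 yc37 zc2) (kc xc7 yc0 zc13) (kc xc22 yc33 zc2) (kc xc13 yc12 zc6) (kc xc7 yc37 zc3) (kc xc13 yc50 zc21) (kc xc9 yc49 zc41) (kc xc7 yc12 zc31) (kc xc21 yc14 zc6) (kc xc21 yc14 zc52) (kc xc22 yc33 zc18) (kc xc7 yc12 zc34) (kc xc7 yc0 zc20) (kc xc22 yc33 zc21) (kc xc7 yc27 zc55) (kc xc13 yc56 zc46) (kc xc17 yc22 zc33) (kc xc7 yc0 zc23) (kc xc15 yc43 zc18) (kc xc13 yc33 zc28) (kc xc13 yc5 zc36) (kc xc22 yc33 zc25) (kc xc13 yc22 zc53) (kc xc15 yc39 zc3) (kc xc15 yc39 zc7) (kc xc7 yc0 zc26)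 (kc xc14 yc32 zc55) (kc xc21 yc38 zc56) (kc xc14 yc37 zc18) (kc xc12 yc35 zc23) (kc xc20 yc2 zc5) (kc xc22 yc33 zc35) (kc xc10 yc13 zc34) (kc xc18 yc55 zc8) (kc xc12 yc35 zc29) (kc xc18 yc24 zc33) (kc xc18 yc55 zc10) (kc xc12 yc35 zc32) (kc xc13 yc44 zc43) (kc xc13 yc44 zc44) (kc xc14 yc0 zc25) (kc xc13 yc37 zc21) (kc xc22 yc33 zc44) (kc xc13 yc25 zc58) (kc xc7 yc34 zc35) (kc xc22 yc33 zc51)) (@D3.rec (fun _ => Pt) (kc xc7 yc34 zc44) (kc xc22 yc33 zc55) (kc xc7 yc34 zc42) (kc xc20 yc41 zc46) (kc xc7 yc0 zc52) (kc xc22 yc15 zc28) (kc xc22 yc32 zc3) (kc xc22 yc34 zc4) (kc xc22 yc34 zc5) (kc xc7 yc0 zc46) (kc xc7 yc22 zc16) (kc xc12 yc10 zc52) (kc xc13 yc38 zc61) (kc xc22 yc34 zc12) (kc xc7 yc17 zc13) (kc xc13 yc37 zc60) (kc xc22 yc34 zc14) (kc xc13 yc16 zc6) (kc xc22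 yc34 zc15) (kc xc22 yc28 zc44) (kc xc20 yc44 zc43) (kc xc13 yc2 zc43) (kc xc22 yc34 zc18) (kc xc13 yc51 zc1) (kc xc22 yc34 zc20) (kc xc13 yc37 zc61) (kc xc22 yc34 zc23) (kc xc20 yc0 zc5) (kc xc7 yc0 zc56) (kc xc16 yc22 zc49) (kc xc22 yc34 zc27) (kc xc22 yc34 zc30) (kc xc12 yc36 zc22) (kc xc22 yc34 zc32) (kc xc14 yc35 zc16) (kc xc14 yc35 zc17) (kc xc7 yc0 zc60) (kc xc18 yc5 zc61) (kc xc22 yc34 zc39) (kc xc7 yc23 zc52) (kc xc7 yc1 zc1) (kc xc22 yc34 zc42) (kc xc21 yc14 zc46) (kc xc7 yc18 zc22) (kc xc22 yc34 zc51) (kc xc7 yc18 zc24) (kc xc7 yc1 zc4) (kc xc22 yc34 zc56) (kc xc22 yc34 zc60) (kc xc7 yc1 zc6) (kc xc22 yc35 zc1) (kc xc22 yc35 zc7) (kc xc7 yc1 zc7) (kc xc22 yc35 zc10) (kc xc7 yc1 zc45) (kc xc7 yc1 zc46) (kc xc14 yc59 zc5) (kc xc22 yc35 zc14) (kc xc13 yc18 zc58)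 (kc xc7 yc1 zc11) (kc xc22 yc35 zc17) (kc xc9 yc22 zc19)) (@D3.rec (fun _ => Pt) (kc xc7 yc1 zc14) (kc xc7 yc28 zc13) (kc xc22 yc35 zc26) (kc xc22 yc35 zc23) (kc xc13 yc6 zc18) (kc xc12 yc10 zc10) (kc xc7 yc1 zc17) (kc xc8 yc46 zc18) (kc xc17 yc4 zc45) (kc xc22 yc35 zc33) (kc xc7 yc1 zc20) (kc xc22 yc33 zc4) (kc xc22 yc35 zc37) (kc xc12 yc28 zc3) (kc xc12 yc38 zc12) (kc xc22 yc35 zc43) (kc xc21 yc44 zc57) (kc xc12 yc33 zc12) (kc xc7 yc1 zc24) (kc xc22 yc35 zc46) (kc xc22 yc35 zc45) (kc xc14 yc0 zc23) (kc xc22 yc35 zc49) (kc xc22 yc35 zc52) (kc xc22 yc35 zc55) (kc xc7 yc1 zc26) (kc xc22 yc35 zc60) (kc xc12 yc14 zc45) (kc xc22 yc36 zc0) (kc xc21 yc7 zc28) (kc xc13 yc35 zc60) (kc xc13 yc35 zc61) (kc xc13 yc34 zc34) (kc xc21 yc14 zc38) (kc xc13 yc5 zc26) (kc xc22 yc36 zc7)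 (kc xc7 yc2 zc40) (kc xc13 yc34 zc21) (kc xc13 yc34 zc20) (kc xc10 yc27 zc23) (kc xc13 yc5 zc32) (kc xc10 yc27 zc9) (kc xc13 yc48 zc61) (kc xc17 yc50 zc55) (kc xc13 yc44 zc18) (kc xc17 yc50 zc54) (kc xc10 yc40 zc5) (kc xc18 yc36 zc35) (kc xc22 yc36 zc15) (kc xc7 yc1 zc39) (kc xc10 yc27 zc10) (kc xc16 yc17 zc61) (kc xc12 yc15 zc51) (kc xc11 yc48 zc13) (kc xc18 yc26 zc61) (kc xc18 yc6 zc3) (kc xc18 yc6 zc2) (kc xc7 yc1 zc43) (kc xc22 yc36 zc21) (kc xc22 yc35 zc12) (kc xc22 yc36 zc24) (kc xc14 yc59 zc9)) (@D3.rec (fun _ => Pt) (kc xc22 yc36 zc16) (kc xc7 yc16 zc3) (kc xc7 yc1 zc48) (kc xc9 yc54 zc22) (kc xc8 yc49 zc49) (kc xc7 yc6 zc4) (kc xc22 yc36 zc31) (kc xc13 yc50 zc12) (kc xc22 yc36 zc39) (kc xc7 yc1 zc52) (kc xc7 yc3 zc59) (kc xc22 yc36 zc42) (kc xc7 yc5 zc45) (kc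 xc22 yc36 zc44) (kc xc7 yc1 zc55) (kc xc14 yc55 zc55) (kc xc21 yc14 zc16) (kc xc7 yc6 zc6) (kc xc21 yc20 zc42) (kc xc13 yc38 zc57) (kc xc22 yc2 zc49) (kc xc7 yc1 zc59) (kc xc22 yc36 zc53) (kc xc13 yc3 zc32) (kc xc7 yc32 zc29) (kc xc18 yc44 zc53) (kc xc7 yc9 zc28) (kc xc7 yc2 zc0) (kc xc21 yc9 zc43) (kc xc7 yc2 zc2) (kc xc12 yc47 zc28) (kc xc17 yc11 zc6) (kc xc7 yc2 zc3) (kc xc11 yc18 zc39) (kc xc13 yc5 zc21) (kc xc7 yc2 zc57) (kc xc7 yc20 zc45) (kc xc7 yc2 zc5) (kc xc21 yc47 zc9) (kc xc10 yc6 zc0) (kc xc9 yc7 zc32) (kc xc20 yc42 zc19) (kc xc7 yc2 zc12) (kc xc14 yc2 zc56) (kc xc12 yc28 zc5) (kc xc11 yc40 zc33) (kc xc8 yc14 zc37) (kc xc7 yc2 zc16) (kc xc7 yc21 zc11) (kc xc12 yc42 zc27) (kc xc18 yc4 zc22) (kc xc22 yc37 zc13) (kc xc8 yc2 zc7) (kc xc13 yc56 zc16) (kc xc7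 yc28 zc12) (kc xc12 yc14 zc39) (kc xc7 yc2 zc20) (kc xc22 yc37 zc23) (kc xc22 yc37 zc25) (kc xc20 yc42 zc21) (kc xc22 yc37 zc28) (kc xc21 yc41 zc31)) (@D3.rec (fun _ => Pt) (kc xc22 yc37 zc30) (kc xc20 yc38 zc6) (kc xc22 yc37 zc33) (kc xc22 yc37 zc35) (kc xc7 yc2 zc24) (kc xc7 yc2 zc25) (kc xc16 yc32 zc52) (kc xc22 yc37 zc43) (kc xc13 yc56 zc25) (kc xc22 yc37 zc49) (kc xc7 yc2 zc29) (kc xc22 yc37 zc52) (kc xc20 yc1 zc0) (kc xc7 yc2 zc28) (kc xc7 yc8 zc53) (kc xc21 yc40 zc53) (kc xc22 yc37 zc59) (kc xc7 yc46 zc55) (kc xc14 yc1 zc6) (kc xc22 yc38 zc0) (kc xc7 yc2 zc33) (kc xc22 yc38 zc3) (kc xc7 yc2 zc34) (kc xc15 yc39 zc25) (kc xc7 yc47 zc49) (kc xc7 yc47 zc47) (kc xc22 yc37 zc56) (kc xc7 yc2 zc36) (kc xc22 yc38 zc17) (kc xc22 yc38 zc19) (kc xc22 yc38 zc23) (kc xc22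 yc38 zc15) (kc xc7 yc2 zc38) (kc xc16 yc52 zc27) (kc xc7 yc2 zc41) (kc xc22 yc38 zc27) (kc xc14 yc51 zc61) (kc xc11 yc30 zc14) (kc xc22 yc38 zc31) (kc xc11 yc21 zc8) (kc xc20 yc20 zc23) (kc xc7 yc2 zc43) (kc xc14 yc4 zc59) (kc xc14 yc31 zc19) (kc xc14 yc31 zc23) (kc xc22 yc38 zc40) (kc xc14 yc4 zc60) (kc xc7 yc2 zc47) (kc xc22 yc38 zc45) (kc xc21 yc30 zc46) (kc xc15 yc31 zc46) (kc xc22 yc38 zc44) (kc xc7 yc2 zc48) (kc xc22 yc38 zc50) (kc xc7 yc2 zc49) (kc xc22 yc38 zc55) (kc xc7 yc47 zc41) (kc xc7 yc2 zc51) (kc xc22 yc39 zc1) (kc xc22 yc39 zc2) (kc xc22 yc39 zc4) (kc xc22 yc38 zc61)) (@D3.rec (fun _ => Pt) (kc xc16 yc21 zc41) (kc xc21 yc27 zc53) (kc xc22 yc39 zc8) (kc xc15 yc43 zc41) (kc xc17 yc18 zc52) (kc xc7 yc47 zc55) (kc xc7 yc48 zc27) (kc xc12 yc26 zc15) (kc xc20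 yc34 zc30) (kc xc20 yc22 zc52) (kc xc22 yc37 zc3) (kc xc7 yc37 zc5) (kc xc7 yc2 zc60) (kc xc14 yc29 zc9) (kc xc14 yc29 zc8) (kc xc22 yc39 zc23) (kc xc7 yc2 zc61) (kc xc14 yc39 zc43) (kc xc13 yc56 zc40) (kc xc22 yc39 zc29) (kc xc7 yc3 zc1) (kc xc22 yc26 zc51) (kc xc22 yc39 zc37) (kc xc7 yc50 zc55) (kc xc7 yc3 zc4) (kc xc22 yc39 zc40) (kc xc22 yc39 zc44) (kc xc7 yc3 zc6) (kc xc22 yc39 zc47) (kc xc22 yc39 zc51) (kc xc7 yc3 zc7) (kc xc22 yc39 zc54) (kc xc7 yc7 zc27) (kc xc7 yc32 zc23) (kc xc13 yc3 zc45) (kc xc7 yc7 zc22) (kc xc22 yc11 zc6) (kc xc22 yc40 zc8) (kc xc7 yc3 zc23) (kc xc7 yc3 zc12) (kc xc22 yc40 zc12) (kc xc7 yc3 zc33) (kc xc13 yc9 zc21) (kc xc13 yc50 zc28) (kc xc13 yc50 zc40) (kc xc13 yc26 zc52) (kc xc22 yc40 zc21) (kc xc7 yc3 zc21) (kc xc22 yc40 zc24) (kc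 xc22 yc40 zc28) (kc xc21 yc16 zc40) (kc xc7 yc3 zc22) (kc xc18 yc48 zc14) (kc xc13 yc17 zc38) (kc xc13 yc23 zc10) (kc xc14 yc52 zc12) (kc xc22 yc40 zc33) (kc xc7 yc3 zc24) (kc xc22 yc40 zc36) (kc xc7 yc3 zc25) (kc xc22 yc40 zc30) (kc xc7 yc3 zc27)) (@D3.rec (fun _ => Pt) (kc xc15 yc45 zc55) (kc xc22 yc40 zc48) (kc xc22 yc40 zc53) (kc xc22 yc40 zc44) (kc xc22 yc40 zc55) (kc xc14 yc40 zc53) (kc xc7 yc3 zc29) (kc xc7 yc46 zc59) (kc xc13 yc23 zc8) (kc xc13 yc44 zc6) (kc xc13 yc22 zc54) (kc xc22 yc40 zc16) (kc xc22 yc41 zc2) (kc xc13 yc44 zc26) (kc xc7 yc46 zc29) (kc xc14 yc52 zc21) (kc xc7 yc50 zc24) (kc xc22 yc41 zc8) (kc xc20 yc51 zc4) (kc xc7 yc3 zc48) (kc xc7 yc3 zc50) (kc xc7 yc3 zc40) (kc xc7 yc3 zc55) (kc xc20 yc25 zc7) (kc xc16 yc45 zc4) (kc xc19 yc34 zc23) (kc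 xc20 yc25 zc49) (kc xc22 yc41 zc17) (kc xc7 yc17 zc39) (kc xc17 yc31 zc31) (kc xc7 yc3 zc52) (kc xc22 yc35 zc36) (kc xc13 yc54 zc3) (kc xc15 yc32 zc29) (kc xc22 yc41 zc19) (kc xc13 yc25 zc52) (kc xc7 yc3 zc54) (kc xc22 yc41 zc21) (kc xc22 yc41 zc22) (kc xc22 yc41 zc14) (kc xc22 yc41 zc24) (kc xc7 yc46 zc31) (kc xc13 yc33 zc26) (kc xc7 yc24 zc39) (kc xc22 yc41 zc33) (kc xc22 yc41 zc36) (kc xc22 yc41 zc38) (kc xc7 yc3 zc60) (kc xc22 yc41 zc39) (kc xc13 yc25 zc9) (kc xc14 yc53 zc45) (kc xc22 yc41 zc48) (kc xc13 yc39 zc1) (kc xc7 yc4 zc1) (kc xc22 yc41 zc52) (kc xc14 yc52 zc22) (kc xc8 yc33 zc5) (kc xc7 yc24 zc16) (kc xc7 yc29 zc39) (kc xc22 yc30 zc37) (kc xc7 yc29 zc41) (kc xc13 yc16 zc2)) (@D3.rec (fun _ => Pt) (kc xc22 yc42 zc0) (kc xc14 yc20 zc35) (kc xc7 yc48 zc12)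 (kc xc14 yc55 zc40) (kc xc14 yc56 zc34) (kc xc13 yc2 zc37) (kc xc22 yc42 zc9) (kc xc12 yc1 zc7) (kc xc22 yc42 zc15) (kc xc21 yc8 zc42) (kc xc14 yc0 zc61) (kc xc13 yc35 zc0) (kc xc21 yc41 zc2) (kc xc20 yc16 zc60) (kc xc12 yc25 zc48) (kc xc7 yc18 zc27) (kc xc7 yc22 zc22) (kc xc9 yc4 zc18) (kc xc7 yc46 zc20) (kc xc22 yc42 zc27) (kc xc22 yc42 zc29) (kc xc18 yc14 zc13) (kc xc13 yc7 zc37) (kc xc13 yc48 zc19) (kc xc12 yc25 zc47) (kc xc20 yc0 zc57) (kc xc13 yc56 zc48) (kc xc7 yc4 zc21) (kc xc17 yc59 zc42) (kc xc13 yc46 zc6) (kc xc22 yc37 zc44) (kc xc22 yc37 zc57) (kc xc7 yc4 zc23) (kc xc22 yc42 zc44) (kc xc7 yc4 zc24) (kc xc22 yc42 zc48) (kc xc16 yc25 zc10) (kc xc7 yc4 zc26) (kc xc22 yc42 zc52) (kc xc22 yc42 zc56) (kc xc22 yc42 zc60) (kc xc13 yc24 zc41) (kc xc7 yc4 zc28) (kc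 xc22 yc43 zc1) (kc xc7 yc22 zc12) (kc xc13 yc24 zc45) (kc xc20 yc20 zc32) (kc xc13 yc16 zc39) (kc xc13 yc6 zc39) (kc xc22 yc43 zc9) (kc xc7 yc4 zc33) (kc xc22 yc43 zc12) (kc xc22 yc43 zc17) (kc xc22 yc43 zc20) (kc xc7 yc4 zc34) (kc xc22 yc43 zc24) (kc xc20 yc29 zc53) (kc xc7 yc4 zc35) (kc xc22 yc43 zc31) (kc xc22 yc43 zc36) (kc xc7 yc4 zc36) (kc xc12 yc13 zc26)) (@D3.rec (fun _ => Pt) (kc xc7 yc54 zc38) (kc xc7 yc54 zc40) (kc xc19 yc47 zc14) (kc xc7 yc49 zc58) (kc xc7 yc4 zc38) (kc xc14 yc55 zc7) (kc xc22 yc43 zc51) (kc xc22 yc43 zc38) (kc xc7 yc33 zc17) (kc xc13 yc23 zc49) (kc xc13 yc51 zc20) (kc xc7 yc54 zc25) (kc xc14 yc42 zc11) (kc xc7 yc4 zc45) (kc xc13 yc58 zc32) (kc xc7 yc17 zc47) (kc xc14 yc54 zc30) (kc xc7 yc4 zc47) (kc xc21 yc41 zc14) (kc xc14 yc16 zc0) (kc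 xc22 yc44 zc6) (kc xc7 yc4 zc52) (kc xc22 yc44 zc9) (kc xc22 yc44 zc14) (kc xc22 yc44 zc18) (kc xc13 yc25 zc25) (kc xc7 yc4 zc54) (kc xc13 yc57 zc29) (kc xc13 yc25 zc28) (kc xc12 yc8 zc33) (kc xc12 yc8 zc32) (kc xc13 yc38 zc14) (kc xc22 yc44 zc32) (kc xc7 yc4 zc58) (kc xc22 yc44 zc35) (kc xc7 yc4 zc59) (kc xc22 yc44 zc41) (kc xc19 yc26 zc35) (kc xc7 yc4 zc60) (kc xc21 yc19 zc24) (kc xc22 yc44 zc51) (kc xc7 yc4 zc61) (kc xc22 yc44 zc52) (kc xc7 yc54 zc31) (kc xc7 yc52 zc48) (kc xc22 yc44 zc39) (kc xc7 yc51 zc41) (kc xc7 yc5 zc1) (kc xc22 yc45 zc3) (kc xc22 yc45 zc7) (kc xc18 yc0 zc53) (kc xc13 yc57 zc31) (kc xc13 yc23 zc35) (kc xc7 yc19 zc46) (kc xc7 yc5 zc4) (kc xc7 yc11 zc54) (kc xc7 yc19 zc30) (kc xc22 yc14 zc22) (kc xc13 yc17 zc59) (kc xc22 yc14 zc36) (kc xc7 yc5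 zc9) (kc xc21 yc27 zc55)) (@D3.rec (fun _ => Pt) (kc xc14 yc52 zc28) (kc xc7 yc50 zc34) (kc xc14 yc21 zc24) (kc xc14 yc1 zc24) (kc xc13 yc53 zc41) (kc xc22 yc45 zc27) (kc xc14 yc9 zc33) (kc xc22 yc45 zc33) (kc xc22 yc45 zc35) (kc xc22 yc45 zc36) (kc xc12 yc19 zc55) (kc xc7 yc18 zc8) (kc xc7 yc19 zc28) (kc xc22 yc45 zc44) (kc xc21 yc25 zc15) (kc xc13 yc33 zc10) (kc xc13 yc15 zc32) (kc xc7 yc49 zc7) (kc xc22 yc45 zc48) (kc xc14 yc9 zc31) (kc xc22 yc45 zc53) (kc xc13 yc28 zc59) (kc xc13 yc13 zc17) (kc xc22 yc45 zc59) (kc xc21 yc20 zc2) (kc xc16 yc11 zc1) (kc xc21 yc25 zc10) (kc xc14 yc56 zc36) (kc xc7 yc5 zc26) (kc xc10 yc13 zc40) (kc xc10 yc13 zc57) (kc xc18 yc26 zc43) (kc xc13 yc11 zc46) (kc xc13 yc11 zc47) (kc xc7 yc6 zc1) (kc xc12 yc30 zc49) (kc xc22 yc46 zc14) (kc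 xc21 yc6 zc25) (kc xc14 yc9 zc25) (kc xc13 yc38 zc8) (kc xc16 yc24 zc57) (kc xc21 yc14 zc31) (kc xc13 yc38 zc18) (kc xc14 yc9 zc49) (kc xc7 yc8 zc18) (kc xc16 yc28 zc43) (kc xc13 yc31 zc17) (kc xc22 yc46 zc17) (kc xc7 yc33 zc61) (kc xc22 yc46 zc20) (kc xc7 yc5 zc44) (kc xc22 yc46 zc23) (kc xc13 yc22 zc45) (kc xc22 yc36 zc28) (kc xc20 yc0 zc54) (kc xc13 yc44 zc25) (kc xc7 yc5 zc46) (kc xc19 yc17 zc49) (kc xc13 yc42 zc28) (kc xc21 yc13 zc38) (kc xc7 yc5 zc48) (kc xc22 yc46 zc30)) (@D3.rec (fun _ => Pt) (kc xc11 yc7 zc15) (kc xc7 yc5 zc49) (kc xc22 yc46 zc32) (kc xc7 yc19 zc0) (kc xc7 yc19 zc1) (kc xc7 yc30 zc28) (kc xc7 yc5 zc51) (kc xc22 yc46 zc37) (kc xc16 yc57 zc11) (kc xc13 yc27 zc9) (kc xc7 yc5 zc53) (kc xc22 yc46 zc42) (kc xc13 yc27 zc12) (kc xc22 yc42 zc47) (kc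 xc14 yc40 zc37) (kc xc7 yc5 zc57) (kc xc22 yc46 zc51) (kc xc22 yc46 zc55) (kc xc22 yc46 zc57) (kc xc22 yc46 zc58) (kc xc22 yc42 zc4) (kc xc7 yc48 zc57) (kc xc22 yc27 zc58) (kc xc13 yc13 zc39) (kc xc7 yc20 zc54) (kc xc7 yc5 zc61) (kc xc22 yc47 zc0) (kc xc15 yc34 zc4) (kc xc15 yc40 zc5) (kc xc15 yc40 zc6) (kc xc15 yc33 zc11) (kc xc13 yc46 zc21) (kc xc13 yc46 zc22) (kc xc13 yc35 zc32) (kc xc22 yc47 zc10) (kc xc20 yc1 zc40) (kc xc22 yc36 zc47) (kc xc11 yc47 zc17) (kc xc7 yc6 zc9) (kc xc22 yc47 zc11) (kc xc13 yc3 zc28) (kc xc7 yc6 zc11) (kc xc12 yc38 zc5) (kc xc21 yc44 zc49) (kc xc11 yc14 zc34) (kc xc7 yc6 zc16) (kc xc11 yc47 zc23) (kc xc16 yc43 zc54) (kc xc13 yc27 zc48) (kc xc7 yc6 zc18) (kc xc22 yc47 zc18) (kc xc7 yc59 zc23) (kc xc7 yc42 zc41) (kc xc7 yc6 zc23) (kc xc7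 yc6 zc22) (kc xc7 yc59 zc24) (kc xc22 yc47 zc20) (kc xc15 yc13 zc21) (kc xc15 yc13 zc26) (kc xc22 yc47 zc23) (kc xc13 yc31 zc11) (kc xc13 yc9 zc52)) (@D3.rec (fun _ => Pt) (kc xc7 yc6 zc26) (kc xc22 yc16 zc45) (kc xc7 yc42 zc46) (kc xc7 yc6 zc27) (kc xc22 yc27 zc40) (kc xc22 yc47 zc32) (kc xc22 yc27 zc44) (kc xc22 yc27 zc43) (kc xc7 yc6 zc28) (kc xc13 yc11 zc52) (kc xc7 yc6 zc31) (kc xc22 yc47 zc42) (kc xc22 yc47 zc44) (kc xc7 yc6 zc32) (kc xc22 yc47 zc47) (kc xc15 yc18 zc13) (kc xc7 yc6 zc35) (kc xc22 yc47 zc51) (kc xc14 yc19 zc40) (kc xc7 yc39 zc31) (kc xc22 yc47 zc59) (kc xc7 yc39 zc48) (kc xc7 yc6 zc37) (kc xc22 yc48 zc0) (kc xc17 yc36 zc4) (kc xc7 yc6 zc39) (kc xc8 yc6 zc23) (kc xc22 yc48 zc8) (kc xc7 yc6 zc40) (kc xc22 yc48 zc11) (kc xc7 yc40 zc43) (kc xc7 yc19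 zc49) (kc xc22 yc47 zc40) (kc xc7 yc6 zc42) (kc xc22 yc48 zc19) (kc xc13 yc32 zc21) (kc xc13 yc45 zc49) (kc xc7 yc38 zc39) (kc xc21 yc2 zc58) (kc xc7 yc6 zc45) (kc xc22 yc48 zc26) (kc xc22 yc48 zc32) (kc xc7 yc6 zc47) (kc xc22 yc48 zc34) (kc xc22 yc20 zc5) (kc xc22 yc48 zc38) (kc xc7 yc6 zc49) (kc xc22 yc48 zc41) (kc xc7 yc46 zc3) (kc xc7 yc46 zc4) (kc xc10 yc41 zc7) (kc xc22 yc48 zc49) (kc xc7 yc16 zc43) (kc xc22 yc48 zc54) (kc xc22 yc45 zc32) (kc xc22 yc12 zc10) (kc xc22 yc48 zc58) (kc xc14 yc48 zc42) (kc xc7 yc12 zc54) (kc xc13 yc26 zc21) (kc xc7 yc6 zc55) (kc xc22 yc49 zc5)) (@D3.rec (fun _ => Pt) (kc xc13 yc31 zc43) (kc xc7 yc6 zc56) (kc xc22 yc49 zc12) (kc xc22 yc49 zc11) (kc xc22 yc49 zc14) (kc xc22 yc49 zc17) (kc xc7 yc6 zc58) (kc xc22 yc49 zc22) (kc xc14 yc17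 zc25) (kc xc14 yc17 zc26) (kc xc13 yc36 zc17) (kc xc7 yc9 zc1) (kc xc7 yc7 zc0) (kc xc7 yc25 zc15) (kc xc14 yc49 zc47) (kc xc22 yc49 zc36) (kc xc13 yc40 zc39) (kc xc22 yc49 zc38) (kc xc22 yc49 zc39) (kc xc22 yc49 zc43) (kc xc7 yc7 zc4) (kc xc22 yc49 zc50) (kc xc22 yc49 zc51) (kc xc16 yc22 zc41) (kc xc16 yc22 zc42) (kc xc10 yc41 zc34) (kc xc22 yc19 zc0) (kc xc12 yc51 zc39) (kc xc22 yc49 zc60) (kc xc13 yc34 zc46) (kc xc7 yc7 zc13) (kc xc18 yc45 zc6) (kc xc22 yc50 zc3) (kc xc7 yc7 zc16) (kc xc22 yc50 zc5) (kc xc22 yc50 zc9) (kc xc7 yc7 zc17) (kc xc22 yc50 zc12) (kc xc22 yc50 zc15) (kc xc7 yc7 zc18) (kc xc22 yc50 zc18) (kc xc7 yc7 zc60) (kc xc7 yc7 zc61) (kc xc22 yc49 zc48) (kc xc7 yc7 zc20) (kc xc22 yc50 zc28) (kc xc22 yc50 zc29) (kc xc13 yc29 zc47) (kc xc22 yc40 zc3)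 (kc xc13 yc29 zc49) (kc xc22 yc50 zc22) (kc xc13 yc33 zc49) (kc xc22 yc39 zc31) (kc xc7 yc47 zc25) (kc xc22 yc15 zc3) (kc xc22 yc50 zc39) (kc xc22 yc39 zc58) (kc xc13 yc41 zc26) (kc xc12 yc8 zc20) (kc xc7 yc7 zc34) (kc xc22 yc47 zc19) (kc xc22 yc29 zc18)) (@D3.rec (fun _ => Pt) (kc xc22 yc50 zc50) (kc xc22 yc50 zc52) (kc xc22 yc50 zc53) (kc xc14 yc33 zc47) (kc xc22 yc50 zc55) (kc xc7 yc7 zc37) (kc xc10 yc55 zc46) (kc xc22 yc50 zc61) (kc xc7 yc7 zc40) (kc xc17 yc52 zc6) (kc xc10 yc14 zc46) (kc xc7 yc7 zc44) (kc xc18 yc10 zc13) (kc xc22 yc51 zc4) (kc xc7 yc7 zc45) (kc xc12 yc2 zc28) (kc xc7 yc8 zc11) (kc xc7 yc8 zc12) (kc xc22 yc50 zc59) (kc xc7 yc7 zc48) (kc xc12 yc10 zc3) (kc xc7 yc37 zc43) (kc xc22 yc51 zc9) (kc xc14 yc19 zc55) (kc xc14 yc20 zc34) (kc xc7 yc37 zc9)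 (kc xc22 yc51 zc12) (kc xc7 yc7 zc53) (kc xc16 yc22 zc27) (kc xc20 yc51 zc2) (kc xc7 yc47 zc9) (kc xc16 yc22 zc28) (kc xc22 yc51 zc16) (kc xc22 yc51 zc20) (kc xc7 yc7 zc55) (kc xc22 yc51 zc26) (kc xc8 yc44 zc17) (kc xc10 yc36 zc29) (kc xc10 yc31 zc17) (kc xc19 yc4 zc39) (kc xc7 yc7 zc59) (kc xc22 yc51 zc32) (kc xc17 yc23 zc7) (kc xc22 yc50 zc23) (kc xc7 yc13 zc56) (kc xc7 yc13 zc57) (kc xc22 yc51 zc24) (kc xc7 yc8 zc1) (kc xc22 yc51 zc45) (kc xc22 yc51 zc47) (kc xc7 yc47 zc10) (kc xc22 yc51 zc48) (kc xc22 yc51 zc49) (kc xc13 yc13 zc43) (kc xc22 yc49 zc46) (kc xc22 yc49 zc47) (kc xc7 yc8 zc6) (kc xc9 yc43 zc13) (kc xc8 yc44 zc6) (kc xc19 yc10 zc38) (kc xc10 yc38 zc46) (kc xc17 yc52 zc5)) (@D3.rec (fun _ => Pt) (kc xc22 yc10 zc44) (kc xc22 yc52 zc1) (kc xc21 yc41 zc30)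 (kc xc7 yc13 zc40) (kc xc7 yc13 zc41) (kc xc22 yc51 zc55) (kc xc11 yc41 zc16) (kc xc7 yc8 zc14) (kc xc8 yc5 zc7) (kc xc12 yc8 zc35) (kc xc22 yc52 zc11) (kc xc13 yc27 zc60) (kc xc22 yc52 zc13) (kc xc22 yc52 zc15) (kc xc7 yc8 zc19) (kc xc16 yc26 zc34) (kc xc22 yc52 zc19) (kc xc13 yc26 zc46) (kc xc22 yc52 zc21) (kc xc7 yc8 zc23) (kc xc22 yc52 zc27) (kc xc22 yc52 zc32) (kc xc22 yc52 zc33) (kc xc7 yc8 zc26) (kc xc22 yc52 zc36) (kc xc7 yc8 zc27) (kc xc22 yc52 zc42) (kc xc7 yc8 zc28) (kc xc22 yc52 zc48) (kc xc8 yc51 zc57) (kc xc21 yc10 zc60) (kc xc7 yc8 zc30) (kc xc22 yc52 zc57) (kc xc7 yc8 zc31) (kc xc22 yc52 zc59) (kc xc22 yc52 zc61) (kc xc7 yc10 zc9) (kc xc22 yc53 zc2) (kc xc22 yc53 zc4) (kc xc22 yc53 zc6) (kc xc7 yc8 zc34) (kc xc22 yc53 zc12) (kc xc22 yc53 zc17) (kc xc13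 yc29 zc0) (kc xc22 yc53 zc18) (kc xc22 yc53 zc19) (kc xc7 yc8 zc39) (kc xc22 yc9 zc47) (kc xc7 yc8 zc40) (kc xc22 yc53 zc24) (kc xc7 yc40 zc33) (kc xc7 yc40 zc35) (kc xc22 yc53 zc10) (kc xc7 yc9 zc55) (kc xc7 yc8 zc42) (kc xc22 yc53 zc38) (kc xc22 yc53 zc40) (kc xc22 yc53 zc45) (kc xc22 yc53 zc36) (kc xc7 yc8 zc43) (kc xc15 yc18 zc18) (kc xc7 yc8 zc45)) (@D3.rec (fun _ => Pt) (kc xc9 yc37 zc36) (kc xc22 yc53 zc48) (kc xc8 yc39 zc17) (kc xc7 yc8 zc48) (kc xc15 yc22 zc35) (kc xc15 yc22 zc36) (kc xc8 yc8 zc46) (kc xc14 yc51 zc0) (kc xc14 yc51 zc1) (kc xc22 yc38 zc11) (kc xc7 yc53 zc42) (kc xc15 yc18 zc4) (kc xc7 yc9 zc54) (kc xc7 yc8 zc52) (kc xc22 yc54 zc0) (kc xc22 yc54 zc3) (kc xc22 yc53 zc61) (kc xc22 yc54 zc4) (kc xc7 yc8 zc55) (kc xc13 yc33 zc58) (kc xc22 yc54 zc11)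 (kc xc13 yc28 zc35) (kc xc7 yc13 zc26) (kc xc22 yc54 zc9) (kc xc7 yc8 zc58) (kc xc22 yc54 zc22) (kc xc22 yc54 zc24) (kc xc22 yc54 zc20) (kc xc22 yc54 zc27) (kc xc7 yc8 zc59) (kc xc7 yc29 zc58) (kc xc22 yc54 zc30) (kc xc22 yc10 zc55) (kc xc7 yc9 zc53) (kc xc7 yc9 zc0) (kc xc22 yc54 zc40) (kc xc15 yc32 zc23) (kc xc22 yc54 zc39) (kc xc22 yc54 zc46) (kc xc22 yc49 zc32) (kc xc22 yc54 zc52) (kc xc7 yc9 zc49) (kc xc7 yc40 zc42) (kc xc22 yc54 zc55) (kc xc22 yc54 zc56) (kc xc22 yc54 zc58) (kc xc13 yc43 zc19) (kc xc7 yc9 zc45) (kc xc7 yc9 zc29) (kc xc7 yc40 zc27) (kc xc7 yc9 zc6) (kc xc22 yc55 zc9) (kc xc21 yc5 zc21) (kc xc12 yc8 zc25) (kc xc7 yc9 zc17) (kc xc22 yc55 zc19) (kc xc7 yc9 zc10) (kc xc12 yc55 zc44) (kc xc14 yc32 zc22) (kc xc14 yc18 zc38) (kc xc10 yc47 zc14) (kc xc11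 yc8 zc22)) (@D3.rec (fun _ => Pt) (kc xc7 yc9 zc15) (kc xc22 yc55 zc26) (kc xc7 yc9 zc16) (kc xc22 yc55 zc32) (kc xc22 yc55 zc34) (kc xc14 yc56 zc35) (kc xc22 yc55 zc37) (kc xc22 yc55 zc39) (kc xc7 yc9 zc18) (kc xc22 yc55 zc44) (kc xc13 yc26 zc15) (kc xc22 yc55 zc49) (kc xc8 yc47 zc47) (kc xc7 yc9 zc20) (kc xc22 yc55 zc50) (kc xc7 yc40 zc9) (kc xc7 yc9 zc21) (kc xc22 yc55 zc55) (kc xc22 yc55 zc42) (kc xc7 yc9 zc23) (kc xc22 yc56 zc2) (kc xc22 yc56 zc5) (kc xc22 yc56 zc10) (kc xc22 yc56 zc0) (kc xc7 yc9 zc25) (kc xc13 yc33 zc25) (kc xc13 yc23 zc42) (kc xc19 yc28 zc39) (kc xc13 yc17 zc35) (kc xc15 yc55 zc41) (kc xc22 yc56 zc17) (kc xc22 yc55 zc1) (kc xc20 yc25 zc39) (kc xc7 yc9 zc37) (kc xc22 yc56 zc25) (kc xc7 yc9 zc39) (kc xc7 yc9 zc31) (kc xc22 yc56 zc28) (kc xc7 yc9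 zc44) (kc xc13 yc42 zc29) (kc xc22 yc56 zc36) (kc xc22 yc56 zc38) (kc xc22 yc27 zc47) (kc xc22 yc56 zc40) (kc xc22 yc56 zc42) (kc xc7 yc9 zc38) (kc xc22 yc56 zc47) (kc xc22 yc23 zc55) (kc xc22 yc56 zc49) (kc xc13 yc29 zc51) (kc xc22 yc56 zc45) (kc xc7 yc9 zc41) (kc xc22 yc56 zc52) (kc xc22 yc56 zc54) (kc xc22 yc56 zc57) (kc xc22 yc56 zc51) (kc xc7 yc9 zc42) (kc xc22 yc40 zc58) (kc xc13 yc32 zc19) (kc xc22 yc56 zc33) (kc xc22 yc56 zc60) (kc xc22 yc54 zc61)) (@D3.rec (fun _ => Pt) (kc xc13 yc46 zc13) (kc xc22 yc57 zc5) (kc xc14 yc48 zc57) (kc xc13 yc53 zc61) (kc xc22 yc57 zc12) (kc xc22 yc54 zc35) (kc xc22 yc57 zc16) (kc xc22 yc53 zc57) (kc xc18 yc11 zc26) (kc xc22 yc53 zc32) (kc xc8 yc57 zc7) (kc xc7 yc9 zc57) (kc xc22 yc57 zc27) (kc xc22 yc57 zc31) (kc xc8 yc19 zc24)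 (kc xc22 yc36 zc34) (kc xc13 yc45 zc4) (kc xc7 yc10 zc2) (kc xc22 yc57 zc34) (kc xc21 yc6 zc23) (kc xc13 yc19 zc38) (kc xc13 yc19 zc37) (kc xc13 yc4 zc55) (kc xc7 yc24 zc34) (kc xc7 yc10 zc0) (kc xc22 yc57 zc39) (kc xc22 yc57 zc41) (kc xc22 yc57 zc43) (kc xc22 yc57 zc45) (kc xc22 yc57 zc47) (kc xc7 yc10 zc3) (kc xc22 yc57 zc50) (kc xc7 yc34 zc29) (kc xc7 yc34 zc30) (kc xc13 yc19 zc32) (kc xc22 yc49 zc7) (kc xc22 yc48 zc45) (kc xc7 yc10 zc11) (kc xc7 yc10 zc13) (kc xc13 yc34 zc61) (kc xc14 yc26 zc36) (kc xc22 yc57 zc58) (kc xc7 yc10 zc12) (kc xc14 yc26 zc4) (kc xc22 yc29 zc2) (kc xc22 yc58 zc5) (kc xc13 yc29 zc29) (kc xc13 yc39 zc22) (kc xc13 yc39 zc23) (kc xc22 yc58 zc13) (kc xc13 yc35 zc10) (kc xc7 yc10 zc16) (kc xc13 yc34 zc52) (kc xc13 yc4 zc34) (kc xc7 yc10 zc19)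 (kc xc22 yc58 zc20) (kc xc22 yc58 zc21) (kc xc7 yc10 zc20) (kc xc7 yc10 zc21) (kc xc22 yc58 zc24) (kc xc7 yc54 zc41) (kc xc13 yc34 zc39)) (@D3.rec (fun _ => Pt) (kc xc13 yc24 zc11) (kc xc22 yc58 zc29) (kc xc22 yc58 zc32) (kc xc7 yc10 zc23) (kc xc22 yc58 zc37) (kc xc14 yc55 zc31) (kc xc22 yc58 zc44) (kc xc13 yc35 zc29) (kc xc13 yc35 zc30) (kc xc22 yc58 zc51) (kc xc13 yc34 zc50) (kc xc7 yc10 zc26) (kc xc13 yc15 zc21) (kc xc7 yc10 zc27) (kc xc22 yc58 zc56) (kc xc22 yc58 zc59) (kc xc7 yc10 zc28) (kc xc22 yc59 zc0) (kc xc22 yc58 zc61) (kc xc22 yc59 zc2) (kc xc13 yc53 zc36) (kc xc22 yc59 zc8) (kc xc22 yc59 zc11) (kc xc7 yc10 zc30) (kc xc22 yc59 zc13) (kc xc22 yc26 zc8) (kc xc7 yc42 zc18) (kc xc22 yc59 zc19) (kc xc7 yc53 zc33) (kc xc13 yc35 zc7) (kc xc13 yc35 zc8) (kc xc22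 yc59 zc26) (kc xc13 yc27 zc33) (kc xc7 yc10 zc33) (kc xc22 yc30 zc5) (kc xc13 yc15 zc5) (kc xc22 yc59 zc31) (kc xc13 yc15 zc6) (kc xc7 yc10 zc37) (kc xc13 yc39 zc36) (kc xc13 yc4 zc33) (kc xc14 yc42 zc52) (kc xc22 yc59 zc35) (kc xc7 yc10 zc40) (kc xc22 yc47 zc24) (kc xc7 yc10 zc41) (kc xc10 yc57 zc13) (kc xc15 yc31 zc24) (kc xc7 yc10 zc42) (kc xc22 yc59 zc42) (kc xc7 yc10 zc48) (kc xc7 yc10 zc44) (kc xc7 yc10 zc45) (kc xc22 yc59 zc51) (kc xc22 yc53 zc20) (kc xc22 yc59 zc48) (kc xc22 yc59 zc49) (kc xc22 yc59 zc58) (kc xc7 yc10 zc46) (kc xc22 yc59 zc59) (kc xc13 yc19 zc30) (kc xc13 yc19 zc31)) (@D3.rec (fun _ => Pt) (kc xc12 yc56 zc60) (kc xc23 yc0 zc2) (kc xc23 yc0 zc5) (kc xc22 yc59 zc45) (kc xc22 yc59 zc46) (kc xc22 yc33 zc57) (kc xc22 yc33 zc58) (kc xc23 yc0 zc15)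 (kc xc7 yc10 zc52) (kc xc23 yc0 zc19) (kc xc7 yc10 zc50) (kc xc23 yc0 zc27) (kc xc23 yc0 zc24) (kc xc18 yc51 zc10) (kc xc7 yc10 zc51) (kc xc23 yc0 zc36) (kc xc23 yc0 zc35) (kc xc13 yc29 zc10) (kc xc14 yc17 zc31) (kc xc14 yc17 zc32) (kc xc13 yc43 zc51) (kc xc7 yc10 zc54) (kc xc10 yc59 zc10) (kc xc8 yc56 zc1) (kc xc7 yc10 zc55) (kc xc23 yc0 zc51) (kc xc7 yc52 zc51) (kc xc7 yc52 zc54) (kc xc13 yc36 zc48) (kc xc10 yc52 zc14) (kc xc10 yc52 zc25) (kc xc14 yc25 zc22) (kc xc7 yc52 zc28) (kc xc13 yc5 zc55) (kc xc7 yc52 zc29) (kc xc14 yc27 zc40) (kc xc7 yc11 zc0) (kc xc21 yc50 zc29) (kc xc11 yc32 zc48) (kc xc14 yc48 zc0) (kc xc9 yc9 zc56) (kc xc7 yc11 zc3) (kc xc15 yc39 zc51) (kc xc23 yc1 zc11) (kc xc13 yc36 zc44) (kc xc7 yc11 zc5) (kc xc23 yc1 zc14) (kc xc13 yc36 zc47) (kc xc13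 yc36 zc28) (kc xc8 yc32 zc23) (kc xc7 yc11 zc9) (kc xc23 yc1 zc17) (kc xc23 yc1 zc20) (kc xc7 yc11 zc10) (kc xc23 yc1 zc22) (kc xc16 yc43 zc22) (kc xc7 yc11 zc11) (kc xc19 yc49 zc36) (kc xc13 yc8 zc27) (kc xc13 yc4 zc10) (kc xc14 yc52 zc23) (kc xc7 yc52 zc15)) (@D3.rec (fun _ => Pt) (kc xc7 yc11 zc13) (kc xc23 yc1 zc40) (kc xc20 yc16 zc31) (kc xc10 yc56 zc21) (kc xc13 yc15 zc28) (kc xc7 yc48 zc29) (kc xc7 yc11 zc16) (kc xc14 yc48 zc15) (kc xc13 yc44 zc8) (kc xc7 yc11 zc19) (kc xc23 yc1 zc48) (kc xc13 yc53 zc16) (kc xc12 yc18 zc32) (kc xc12 yc27 zc28) (kc xc12 yc21 zc38) (kc xc9 yc18 zc54) (kc xc23 yc1 zc56) (kc xc13 yc37 zc19) (kc xc23 yc1 zc59) (kc xc13 yc37 zc17) (kc xc13 yc40 zc15) (kc xc13 yc17 zc57) (kc xc12 yc8 zc30) (kc xc7 yc19 zc44) (kc xc14 yc0 zc18) (kc xc7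 yc11 zc29) (kc xc23 yc2 zc8) (kc xc23 yc2 zc12) (kc xc23 yc2 zc6) (kc xc13 yc14 zc50) (kc xc7 yc20 zc53) (kc xc7 yc46 zc0) (kc xc23 yc2 zc15) (kc xc7 yc11 zc34) (kc xc23 yc2 zc17) (kc xc7 yc11 zc36) (kc xc13 yc59 zc33) (kc xc23 yc2 zc24) (kc xc7 yc11 zc37) (kc xc17 yc57 zc28) (kc xc21 yc5 zc42) (kc xc17 yc14 zc24) (kc xc7 yc11 zc43) (kc xc23 yc2 zc31) (kc xc7 yc11 zc44) (kc xc13 yc37 zc58) (kc xc21 yc5 zc58) (kc xc12 yc19 zc13) (kc xc7 yc11 zc41) (kc xc23 yc2 zc43) (kc xc22 yc8 zc56) (kc xc7 yc11 zc42) (kc xc15 yc43 zc33) (kc xc23 yc2 zc30) (kc xc23 yc2 zc51) (kc xc23 yc2 zc52) (kc xc8 yc22 zc2) (kc xc23 yc2 zc23) (kc xc13 yc37 zc45) (kc xc22 yc15 zc24) (kc xc13 yc18 zc15) (kc xc13 yc18 zc25)) (@D3.rec (fun _ => Pt) (kc xc13 yc48 zc58) (kc xc7 yc29 zc56) (kc xc13 yc48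 zc53) (kc xc7 yc11 zc53) (kc xc23 yc3 zc7) (kc xc23 yc3 zc11) (kc xc23 yc3 zc6) (kc xc7 yc11 zc60) (kc xc13 yc26 zc39) (kc xc7 yc23 zc58) (kc xc18 yc26 zc44) (kc xc7 yc29 zc55) (kc xc7 yc27 zc47) (kc xc7 yc27 zc48) (kc xc13 yc25 zc31) (kc xc7 yc12 zc3) (kc xc23 yc3 zc24) (kc xc22 yc45 zc14) (kc xc13 yc26 zc42) (kc xc7 yc12 zc4) (kc xc23 yc3 zc29) (kc xc14 yc0 zc34) (kc xc13 yc55 zc20) (kc xc13 yc55 zc21) (kc xc7 yc12 zc5) (kc xc23 yc3 zc35) (kc xc22 yc52 zc39) (kc xc7 yc39 zc19) (kc xc20 yc0 zc36) (kc xc12 yc6 zc20) (kc xc7 yc12 zc11) (kc xc23 yc3 zc37) (kc xc12 yc34 zc7) (kc xc11 yc48 zc25) (kc xc13 yc17 zc10) (kc xc22 yc33 zc11) (kc xc22 yc12 zc37) (kc xc7 yc12 zc16) (kc xc18 yc1 zc32) (kc xc7 yc12 zc17) (kc xc12 yc46 zc26) (kc xc14 yc6 zc42) (kc xc20 yc49 zc25) (kc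 xc22 yc46 zc15) (kc xc11 yc22 zc13) (kc xc13 yc38 zc45) (kc xc7 yc12 zc22) (kc xc23 yc3 zc50) (kc xc7 yc12 zc25) (kc xc13 yc38 zc49) (kc xc23 yc3 zc51) (kc xc23 yc3 zc52) (kc xc22 yc13 zc16) (kc xc23 yc3 zc53) (kc xc7 yc12 zc33) (kc xc23 yc3 zc58) (kc xc23 yc3 zc60) (kc xc13 yc20 zc19) (kc xc7 yc12 zc37) (kc xc23 yc4 zc1) (kc xc23 yc4 zc4) (kc xc13 yc18 zc12)) (@D3.rec (fun _ => Pt) (kc xc23 yc4 zc9) (kc xc13 yc23 zc52) (kc xc7 yc12 zc40) (kc xc7 yc12 zc42) (kc xc12 yc7 zc35) (kc xc7 yc12 zc43) (kc xc22 yc38 zc56) (kc xc23 yc3 zc56) (kc xc7 yc12 zc45) (kc xc23 yc4 zc20) (kc xc10 yc52 zc42) (kc xc7 yc12 zc47) (kc xc16 yc26 zc13) (kc xc23 yc4 zc23) (kc xc14 yc45 zc5) (kc xc13 yc15 zc7) (kc xc22 yc12 zc9) (kc xc7 yc12 zc50) (kc xc14 yc44 zc26) (kc xc23 yc4 zc25) (kc xc7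 yc12 zc53) (kc xc23 yc4 zc30) (kc xc13 yc34 zc47) (kc xc13 yc34 zc48) (kc xc22 yc49 zc0) (kc xc7 yc12 zc57) (kc xc23 yc4 zc40) (kc xc13 yc45 zc48) (kc xc7 yc12 zc58) (kc xc23 yc4 zc44) (kc xc7 yc12 zc59) (kc xc23 yc4 zc47) (kc xc23 yc4 zc46) (kc xc23 yc2 zc19) (kc xc23 yc2 zc18) (kc xc7 yc12 zc60) (kc xc13 yc35 zc39) (kc xc23 yc4 zc56) (kc xc14 yc48 zc44) (kc xc7 yc13 zc1) (kc xc23 yc4 zc60) (kc xc21 yc15 zc55) (kc xc13 yc44 zc5) (kc xc11 yc32 zc5) (kc xc7 yc13 zc3) (kc xc23 yc5 zc2) (kc xc23 yc5 zc5) (kc xc7 yc13 zc4) (kc xc23 yc5 zc7) (kc xc11 yc33 zc13) (kc xc7 yc13 zc5) (kc xc23 yc5 zc12) (kc xc7 yc39 zc20) (kc xc7 yc18 zc17) (kc xc23 yc4 zc53) (kc xc7 yc15 zc51) (kc xc7 yc13 zc7) (kc xc23 yc5 zc23) (kc xc13 yc42 zc53) (kc xc13 yc9 zc54) (kc xc14 yc18 zc19) (kc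 xc23 yc1 zc19)) (@D3.rec (fun _ => Pt) (kc xc7 yc13 zc10) (kc xc23 yc5 zc29) (kc xc7 yc50 zc42) (kc xc7 yc52 zc19) (kc xc8 yc9 zc49) (kc xc7 yc13 zc12) (kc xc23 yc5 zc34) (kc xc7 yc52 zc57) (kc xc14 yc9 zc61) (kc xc23 yc5 zc41) (kc xc23 yc5 zc43) (kc xc14 yc43 zc14) (kc xc13 yc40 zc12) (kc xc7 yc13 zc16) (kc xc23 yc5 zc45) (kc xc13 yc37 zc20) (kc xc7 yc13 zc18) (kc xc7 yc17 zc10) (kc xc7 yc13 zc19) (kc xc7 yc13 zc20) (kc xc23 yc5 zc53) (kc xc22 yc33 zc47) (kc xc22 yc33 zc48) (kc xc13 yc45 zc34) (kc xc13 yc9 zc49) (kc xc7 yc41 zc51) (kc xc7 yc34 zc51) (kc xc20 yc28 zc55) (kc xc20 yc28 zc52) (kc xc8 yc48 zc42) (kc xc23 yc6 zc2) (kc xc7 yc15 zc0) (kc xc7 yc15 zc1) (kc xc7 yc13 zc28) (kc xc23 yc6 zc7) (kc xc12 yc8 zc34) (kc xc7 yc13 zc33) (kc xc23 yc6 zc10) (kc xc22 yc53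 zc51) (kc xc13 yc29 zc16) (kc xc7 yc13 zc34) (kc xc18 yc7 zc27) (kc xc13 yc2 zc35) (kc xc23 yc6 zc16) (kc xc7 yc37 zc10) (kc xc18 yc59 zc3) (kc xc13 yc14 zc39) (kc xc14 yc22 zc45) (kc xc13 yc7 zc26) (kc xc10 yc13 zc24) (kc xc13 yc48 zc0) (kc xc22 yc51 zc22) (kc xc18 yc41 zc50) (kc xc10 yc2 zc19) (kc xc12 yc28 zc42) (kc xc7 yc14 zc16) (kc xc7 yc14 zc17) (kc xc16 yc17 zc16) (kc xc13 yc11 zc18) (kc xc10 yc3 zc11) (kc xc7 yc13 zc47) (kc xc10 yc41 zc50)) (@D3.rec (fun _ => Pt) (kc xc19 yc20 zc43) (kc xc23 yc6 zc30) (kc xc7 yc43 zc31) (kc xc14 yc53 zc36) (kc xc14 yc53 zc37) (kc xc7 yc13 zc52) (kc xc23 yc6 zc36) (kc xc23 yc6 zc37) (kc xc7 yc39 zc26) (kc xc23 yc6 zc42) (kc xc7 yc13 zc55) (kc xc23 yc6 zc45) (kc xc20 yc45 zc24) (kc xc23 yc6 zc51) (kc xc22 yc51 zc40) (kc xc7 yc14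 zc23) (kc xc7 yc14 zc24) (kc xc18 yc46 zc7) (kc xc7 yc48 zc34) (kc xc7 yc13 zc59) (kc xc23 yc6 zc59) (kc xc7 yc13 zc61) (kc xc23 yc6 zc61) (kc xc14 yc26 zc6) (kc xc7 yc14 zc1) (kc xc23 yc7 zc1) (kc xc13 yc29 zc57) (kc xc11 yc27 zc38) (kc xc7 yc14 zc4) (kc xc11 yc38 zc10) (kc xc23 yc7 zc3) (kc xc7 yc54 zc51) (kc xc7 yc14 zc9) (kc xc18 yc54 zc61) (kc xc14 yc22 zc43) (kc xc7 yc14 zc10) (kc xc17 yc21 zc56) (kc xc22 yc46 zc56) (kc xc23 yc7 zc7) (kc xc17 yc21 zc58) (kc xc7 yc14 zc11) (kc xc16 yc20 zc23) (kc xc10 yc35 zc6) (kc xc16 yc21 zc5) (kc xc7 yc14 zc14) (kc xc10 yc15 zc15) (kc xc23 yc7 zc13) (kc xc23 yc6 zc26) (kc xc21 yc45 zc42) (kc xc20 yc44 zc38) (kc xc7 yc19 zc12) (kc xc7 yc54 zc50) (kc xc13 yc52 zc48) (kc xc14 yc22 zc42) (kc xc18 yc3 zc33) (kc xc14 yc46 zc22) (kc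 xc22 yc34 zc37) (kc xc23 yc6 zc56) (kc xc23 yc7 zc27) (kc xc23 yc6 zc58) (kc xc16 yc16 zc12) (kc xc7 yc46 zc49)) (@D3.rec (fun _ => Pt) (kc xc7 yc14 zc26) (kc xc23 yc7 zc35) (kc xc14 yc59 zc36) (kc xc23 yc0 zc55) (kc xc23 yc7 zc40) (kc xc23 yc7 zc42) (kc xc7 yc14 zc31) (kc xc23 yc7 zc44) (kc xc23 yc7 zc49) (kc xc7 yc14 zc34) (kc xc23 yc7 zc52) (kc xc7 yc14 zc35) (kc xc23 yc7 zc57) (kc xc7 yc14 zc36) (kc xc23 yc8 zc1) (kc xc16 yc26 zc3) (kc xc7 yc14 zc38) (kc xc23 yc8 zc5) (kc xc7 yc14 zc39) (kc xc21 yc11 zc6) (kc xc8 yc51 zc43) (kc xc15 yc4 zc51) (kc xc20 yc31 zc26) (kc xc23 yc8 zc11) (kc xc7 yc14 zc42) (kc xc23 yc8 zc13) (kc xc7 yc14 zc43) (kc xc23 yc8 zc18) (kc xc13 yc26 zc58) (kc xc13 yc33 zc39) (kc xc7 yc15 zc48) (kc xc7 yc14 zc45) (kc xc23 yc8 zc26) (kc xc23 yc8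 zc28) (kc xc23 yc8 zc25) (kc xc23 yc8 zc31) (kc xc7 yc14 zc47) (kc xc21 yc10 zc45) (kc xc20 yc50 zc10) (kc xc23 yc8 zc38) (kc xc23 yc8 zc40) (kc xc7 yc14 zc49) (kc xc16 yc25 zc43) (kc xc23 yc8 zc42) (kc xc7 yc14 zc52) (kc xc23 yc8 zc51) (kc xc23 yc8 zc53) (kc xc22 yc3 zc4) (kc xc23 yc8 zc50) (kc xc7 yc14 zc53) (kc xc9 yc14 zc10) (kc xc11 yc50 zc37) (kc xc14 yc59 zc61) (kc xc13 yc39 zc58) (kc xc7 yc15 zc43) (kc xc7 yc14 zc57) (kc xc16 yc0 zc52) (kc xc16 yc0 zc48) (kc xc23 yc9 zc10) (kc xc23 yc9 zc4) (kc xc16 yc33 zc56) (kc xc7 yc14 zc58)) (@D3.rec (fun _ => Pt) (kc xc7 yc24 zc19) (kc xc23 yc9 zc13) (kc xc23 yc8 zc43) (kc xc7 yc15 zc41) (kc xc7 yc14 zc61) (kc xc23 yc9 zc25) (kc xc23 yc9 zc29) (kc xc23 yc9 zc33) (kc xc23 yc9 zc24) (kc xc11 yc32 zc30) (kc xc7 yc15 zc37)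 (kc xc23 yc6 zc3) (kc xc12 yc34 zc0) (kc xc7 yc15 zc32) (kc xc23 yc6 zc4) (kc xc16 yc27 zc27) (kc xc16 yc27 zc29) (kc xc11 yc43 zc11) (kc xc23 yc9 zc44) (kc xc13 yc32 zc46) (kc xc7 yc15 zc27) (kc xc7 yc41 zc45) (kc xc7 yc15 zc5) (kc xc23 yc9 zc53) (kc xc23 yc9 zc56) (kc xc7 yc15 zc11) (kc xc7 yc15 zc7) (kc xc13 yc10 zc6) (kc xc7 yc42 zc14) (kc xc7 yc39 zc33) (kc xc22 yc54 zc7) (kc xc7 yc15 zc9) (kc xc23 yc10 zc2) (kc xc15 yc18 zc9) (kc xc15 yc53 zc24) (kc xc15 yc18 zc12) (kc xc15 yc18 zc11) (kc xc7 yc15 zc12) (kc xc23 yc10 zc8) (kc xc22 yc53 zc8) (kc xc7 yc15 zc13) (kc xc23 yc10 zc14) (kc xc23 yc10 zc18) (kc xc7 yc15 zc14) (kc xc23 yc10 zc21) (kc xc11 yc40 zc4) (kc xc7 yc15 zc16) (kc xc23 yc10 zc28) (kc xc17 yc25 zc59) (kc xc23 yc10 zc26) (kc xc7 yc40 zc17) (kc xc13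 yc36 zc20) (kc xc14 yc27 zc29) (kc xc14 yc27 zc28) (kc xc14 yc18 zc20) (kc xc7 yc15 zc20) (kc xc23 yc10 zc34) (kc xc23 yc1 zc44) (kc xc21 yc51 zc27) (kc xc23 yc1 zc25) (kc xc7 yc15 zc23) (kc xc23 yc10 zc41)) (@D3.rec (fun _ => Pt) (kc xc23 yc10 zc45) (kc xc23 yc10 zc47) (kc xc23 yc10 zc39) (kc xc13 yc11 zc27) (kc xc7 yc15 zc25) (kc xc13 yc39 zc42) (kc xc13 yc23 zc9) (kc xc7 yc40 zc41) (kc xc13 yc37 zc8) (kc xc14 yc28 zc19) (kc xc14 yc28 zc20) (kc xc23 yc9 zc35) (kc xc7 yc33 zc10) (kc xc23 yc10 zc55) (kc xc23 yc10 zc57) (kc xc22 yc22 zc15) (kc xc23 yc10 zc58) (kc xc23 yc9 zc21) (kc xc13 yc19 zc44) (kc xc23 yc11 zc1) (kc xc23 yc11 zc2) (kc xc7 yc15 zc42) (kc xc23 yc11 zc6) (kc xc13 yc50 zc3) (kc xc23 yc9 zc0) (kc xc13 yc26 zc55) (kc xc13 yc23 zc13) (kc xc7 yc15 zc47)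 (kc xc18 yc0 zc25) (kc xc20 yc2 zc11) (kc xc23 yc8 zc21) (kc xc20 yc28 zc20) (kc xc7 yc15 zc50) (kc xc23 yc11 zc24) (kc xc23 yc11 zc28) (kc xc23 yc11 zc22) (kc xc23 yc5 zc22) (kc xc7 yc32 zc41) (kc xc22 yc16 zc14) (kc xc15 yc32 zc43) (kc xc16 yc6 zc43) (kc xc21 yc0 zc20) (kc xc7 yc15 zc56) (kc xc13 yc17 zc54) (kc xc13 yc17 zc55) (kc xc7 yc44 zc20) (kc xc7 yc15 zc58) (kc xc12 yc34 zc31) (kc xc14 yc5 zc4) (kc xc7 yc15 zc59) (kc xc7 yc15 zc60) (kc xc23 yc11 zc39) (kc xc13 yc2 zc42) (kc xc7 yc34 zc13) (kc xc15 yc10 zc8) (kc xc23 yc11 zc41) (kc xc23 yc11 zc43) (kc xc7 yc16 zc0) (kc xc23 yc11 zc47) (kc xc23 yc11 zc37) (kc xc13 yc54 zc36) (kc xc23 yc11 zc53)) (@D3.rec (fun _ => Pt) (kc xc7 yc44 zc18) (kc xc7 yc44 zc19) (kc xc18 yc7 zc45) (kc xc7 yc34 zc31) (kc xc13 yc34 zc16)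 (kc xc23 yc11 zc57) (kc xc23 yc11 zc58) (kc xc22 yc16 zc33) (kc xc22 yc16 zc34) (kc xc7 yc16 zc7) (kc xc13 yc46 zc30) (kc xc23 yc12 zc1) (kc xc7 yc16 zc9) (kc xc23 yc12 zc3) (kc xc7 yc16 zc12) (kc xc7 yc16 zc11) (kc xc23 yc12 zc10) (kc xc23 yc12 zc13) (kc xc20 yc25 zc20) (kc xc22 yc52 zc60) (kc xc17 yc1 zc15) (kc xc23 yc12 zc6) (kc xc11 yc14 zc7) (kc xc14 yc17 zc9) (kc xc14 yc17 zc10) (kc xc7 yc16 zc16) (kc xc23 yc12 zc27) (kc xc7 yc16 zc14) (kc xc23 yc12 zc33) (kc xc23 yc12 zc31) (kc xc23 yc12 zc36) (kc xc7 yc16 zc15) (kc xc23 yc12 zc40) (kc xc17 yc34 zc14) (kc xc13 yc40 zc23) (kc xc22 yc31 zc5) (kc xc18 yc55 zc45) (kc xc23 yc12 zc46) (kc xc7 yc16 zc18) (kc xc7 yc42 zc2) (kc xc23 yc12 zc48) (kc xc7 yc16 zc20) (kc xc23 yc12 zc50) (kc xc14 yc23 zc19) (kc xc23 yc12 zc52)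 (kc xc7 yc16 zc22) (kc xc23 yc12 zc55) (kc xc20 yc25 zc38) (kc xc13 yc39 zc27) (kc xc13 yc28 zc36) (kc xc23 yc12 zc60) (kc xc7 yc16 zc24) (kc xc17 yc48 zc4) (kc xc20 yc58 zc3) (kc xc15 yc25 zc29) (kc xc15 yc25 zc27) (kc xc20 yc49 zc4) (kc xc7 yc50 zc56) (kc xc7 yc51 zc8) (kc xc7 yc49 zc35) (kc xc7 yc16 zc28) (kc xc16 yc13 zc46)) (@D3.rec (fun _ => Pt) (kc xc17 yc48 zc17) (kc xc21 yc47 zc37) (kc xc23 yc13 zc9) (kc xc7 yc16 zc29) (kc xc7 yc16 zc30) (kc xc14 yc46 zc4) (kc xc13 yc24 zc29) (kc xc7 yc16 zc32) (kc xc23 yc13 zc14) (kc xc21 yc43 zc61) (kc xc23 yc13 zc20) (kc xc12 yc41 zc13) (kc xc7 yc16 zc33) (kc xc13 yc34 zc0) (kc xc7 yc16 zc36) (kc xc23 yc13 zc26) (kc xc7 yc16 zc39) (kc xc22 yc49 zc3) (kc xc7 yc16 zc40) (kc xc23 yc13 zc30) (kc xc7 yc16 zc42) (kc xc13 yc27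 zc31) (kc xc13 yc27 zc32) (kc xc22 yc48 zc53) (kc xc13 yc3 zc16) (kc xc7 yc16 zc46) (kc xc11 yc58 zc40) (kc xc8 yc2 zc17) (kc xc23 yc13 zc39) (kc xc8 yc48 zc60) (kc xc13 yc45 zc10) (kc xc7 yc16 zc48) (kc xc23 yc13 zc45) (kc xc23 yc13 zc44) (kc xc13 yc3 zc18) (kc xc7 yc16 zc49) (kc xc23 yc13 zc51) (kc xc23 yc13 zc50) (kc xc22 yc28 zc23) (kc xc22 yc28 zc22) (kc xc7 yc16 zc50) (kc xc14 yc0 zc42) (kc xc7 yc16 zc52) (kc xc23 yc14 zc1) (kc xc22 yc30 zc13) (kc xc7 yc16 zc55) (kc xc14 yc17 zc35) (kc xc23 yc14 zc5) (kc xc7 yc34 zc17) (kc xc7 yc16 zc57) (kc xc23 yc14 zc7) (kc xc14 yc7 zc20) (kc xc7 yc16 zc59) (kc xc23 yc14 zc13) (kc xc7 yc55 zc24) (kc xc23 yc13 zc58) (kc xc13 yc48 zc54) (kc xc23 yc14 zc23) (kc xc13 yc48 zc1) (kc xc7 yc17 zc1) (kc xc23 yc14 zc27) (kc xc23 yc14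 zc32)) (@D3.rec (fun _ => Pt) (kc xc7 yc23 zc60) (kc xc7 yc17 zc4) (kc xc23 yc14 zc34) (kc xc11 yc45 zc35) (kc xc7 yc17 zc7) (kc xc7 yc31 zc56) (kc xc7 yc17 zc11) (kc xc22 yc38 zc1) (kc xc23 yc14 zc41) (kc xc22 yc33 zc9) (kc xc7 yc17 zc12) (kc xc23 yc14 zc47) (kc xc23 yc14 zc46) (kc xc11 yc49 zc60) (kc xc20 yc12 zc40) (kc xc21 yc13 zc37) (kc xc21 yc53 zc34) (kc xc22 yc33 zc8) (kc xc23 yc14 zc50) (kc xc14 yc7 zc25) (kc xc23 yc14 zc52) (kc xc14 yc7 zc27) (kc xc23 yc3 zc33) (kc xc21 yc14 zc50) (kc xc11 yc49 zc61) (kc xc14 yc41 zc10) (kc xc14 yc6 zc3) (kc xc7 yc17 zc23) (kc xc17 yc25 zc1) (kc xc23 yc14 zc55) (kc xc23 yc14 zc56) (kc xc21 yc28 zc4) (kc xc23 yc14 zc57) (kc xc23 yc14 zc60) (kc xc23 yc15 zc0) (kc xc7 yc17 zc29) (kc xc23 yc15 zc5) (kc xc7 yc17 zc31) (kc xc23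 yc15 zc11) (kc xc7 yc17 zc32) (kc xc23 yc15 zc15) (kc xc7 yc17 zc33) (kc xc23 yc15 zc20) (kc xc8 yc4 zc56) (kc xc15 yc10 zc23) (kc xc13 yc50 zc57) (kc xc23 yc15 zc34) (kc xc7 yc17 zc35) (kc xc23 yc15 zc37) (kc xc7 yc17 zc36) (kc xc23 yc15 zc39) (kc xc23 yc15 zc40) (kc xc7 yc34 zc15) (kc xc23 yc15 zc42) (kc xc23 yc15 zc44) (kc xc7 yc17 zc38) (kc xc23 yc15 zc48) (kc xc11 yc33 zc18) (kc xc23 yc5 zc42) (kc xc23 yc15 zc54) (kc xc7 yc17 zc40) (kc xc23 yc15 zc57)) (@D3.rec (fun _ => Pt) (kc xc13 yc40 zc50) (kc xc13 yc46 zc58) (kc xc23 yc15 zc46) (kc xc7 yc17 zc42) (kc xc23 yc16 zc11) (kc xc23 yc16 zc13) (kc xc23 yc16 zc9) (kc xc14 yc0 zc52) (kc xc7 yc17 zc44) (kc xc22 yc30 zc14) (kc xc22 yc44 zc1) (kc xc7 yc19 zc43) (kc xc13 yc48 zc14) (kc xc14 yc0 zc29) (kc xc13 yc48 zc12)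 (kc xc7 yc17 zc46) (kc xc23 yc16 zc21) (kc xc14 yc9 zc10) (kc xc23 yc16 zc23) (kc xc13 yc24 zc23) (kc xc23 yc16 zc20) (kc xc7 yc17 zc49) (kc xc23 yc16 zc30) (kc xc23 yc16 zc34) (kc xc14 yc3 zc41) (kc xc23 yc16 zc29) (kc xc7 yc17 zc51) (kc xc21 yc2 zc37) (kc xc7 yc17 zc53) (kc xc12 yc9 zc42) (kc xc13 yc16 zc5) (kc xc13 yc49 zc38) (kc xc7 yc17 zc55) (kc xc23 yc16 zc44) (kc xc23 yc16 zc46) (kc xc15 yc55 zc47) (kc xc23 yc16 zc42) (kc xc14 yc9 zc5) (kc xc7 yc17 zc56) (kc xc23 yc16 zc53) (kc xc23 yc16 zc52) (kc xc7 yc17 zc58) (kc xc23 yc17 zc1) (kc xc23 yc17 zc4) (kc xc23 yc17 zc0) (kc xc23 yc17 zc8) (kc xc13 yc49 zc27) (kc xc23 yc17 zc14) (kc xc13 yc49 zc46) (kc xc23 yc17 zc18) (kc xc23 yc17 zc23) (kc xc13 yc51 zc47) (kc xc23 yc17 zc29) (kc xc13 yc38 zc2) (kc xc13 yc46 zc56)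 (kc xc7 yc18 zc2) (kc xc23 yc16 zc1) (kc xc23 yc17 zc38) (kc xc13 yc38 zc0) (kc xc7 yc18 zc5) (kc xc22 yc13 zc1) (kc xc13 yc19 zc42)) (@D3.rec (fun _ => Pt) (kc xc23 yc17 zc47) (kc xc7 yc18 zc7) (kc xc23 yc17 zc50) (kc xc21 yc19 zc57) (kc xc23 yc17 zc55) (kc xc14 yc9 zc12) (kc xc23 yc17 zc58) (kc xc7 yc18 zc10) (kc xc23 yc18 zc1) (kc xc13 yc55 zc28) (kc xc22 yc45 zc24) (kc xc19 yc57 zc3) (kc xc23 yc18 zc7) (kc xc7 yc18 zc12) (kc xc23 yc18 zc10) (kc xc7 yc18 zc13) (kc xc23 yc18 zc15) (kc xc23 yc17 zc61) (kc xc7 yc18 zc15) (kc xc23 yc16 zc61) (kc xc23 yc18 zc26) (kc xc23 yc5 zc16) (kc xc23 yc18 zc23) (kc xc7 yc48 zc14) (kc xc13 yc2 zc36) (kc xc22 yc28 zc17) (kc xc23 yc18 zc32) (kc xc13 yc48 zc46) (kc xc23 yc18 zc35) (kc xc22 yc34 zc48) (kc xc20 yc6 zc26) (kc xc7 yc18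 zc23) (kc xc23 yc18 zc36) (kc xc22 yc24 zc56) (kc xc22 yc32 zc59) (kc xc23 yc18 zc11) (kc xc7 yc18 zc26) (kc xc23 yc18 zc44) (kc xc13 yc48 zc31) (kc xc21 yc41 zc24) (kc xc23 yc18 zc42) (kc xc13 yc50 zc1) (kc xc7 yc18 zc28) (kc xc13 yc4 zc29) (kc xc14 yc3 zc43) (kc xc18 yc42 zc0) (kc xc13 yc48 zc48) (kc xc23 yc18 zc51) (kc xc22 yc17 zc29) (kc xc13 yc49 zc49) (kc xc7 yc18 zc35) (kc xc23 yc18 zc56) (kc xc12 yc33 zc13) (kc xc7 yc32 zc35) (kc xc23 yc18 zc61) (kc xc7 yc18 zc38) (kc xc22 yc52 zc12) (kc xc13 yc5 zc56) (kc xc7 yc18 zc40) (kc xc23 yc19 zc7) (kc xc23 yc19 zc10) (kc xc23 yc19 zc13)) (@D3.rec (fun _ => Pt) (kc xc23 yc19 zc5) (kc xc13 yc49 zc41) (kc xc7 yc18 zc42) (kc xc13 yc44 zc23) (kc xc7 yc43 zc48) (kc xc13 yc55 zc58) (kc xc7 yc43 zc49) (kc xc7 yc18 zc49) (kc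 xc13 yc4 zc57) (kc xc7 yc18 zc50) (kc xc23 yc19 zc24) (kc xc23 yc19 zc23) (kc xc13 yc20 zc7) (kc xc7 yc18 zc51) (kc xc23 yc19 zc30) (kc xc23 yc19 zc29) (kc xc23 yc19 zc32) (kc xc13 yc59 zc4) (kc xc7 yc18 zc52) (kc xc7 yc18 zc54) (kc xc23 yc19 zc39) (kc xc13 yc17 zc21) (kc xc23 yc19 zc40) (kc xc20 yc51 zc3) (kc xc20 yc30 zc37) (kc xc13 yc17 zc9) (kc xc7 yc18 zc58) (kc xc23 yc19 zc41) (kc xc13 yc22 zc43) (kc xc17 yc0 zc35) (kc xc7 yc18 zc60) (kc xc18 yc1 zc30) (kc xc17 yc8 zc27) (kc xc19 yc43 zc17) (kc xc22 yc46 zc35) (kc xc17 yc5 zc61) (kc xc7 yc30 zc23) (kc xc7 yc19 zc3) (kc xc23 yc19 zc48) (kc xc13 yc15 zc52) (kc xc13 yc22 zc44) (kc xc16 yc27 zc51) (kc xc13 yc57 zc56) (kc xc11 yc4 zc6) (kc xc17 yc8 zc26) (kc xc23 yc19 zc50) (kc xc23 yc19 zc52) (kc xc7 yc19 zc14) (kc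 xc18 yc40 zc55) (kc xc7 yc19 zc16) (kc xc23 yc19 zc59) (kc xc7 yc19 zc18) (kc xc23 yc11 zc38) (kc xc7 yc19 zc19) (kc xc23 yc20 zc5) (kc xc10 yc1 zc18) (kc xc18 yc40 zc37) (kc xc13 yc47 zc45) (kc xc23 yc15 zc36) (kc xc7 yc19 zc21) (kc xc7 yc19 zc22) (kc xc14 yc0 zc10)) (@D3.rec (fun _ => Pt) (kc xc11 yc34 zc38) (kc xc13 yc18 zc23) (kc xc20 yc33 zc28) (kc xc20 yc33 zc29) (kc xc7 yc19 zc24) (kc xc11 yc33 zc40) (kc xc23 yc20 zc20) (kc xc23 yc20 zc22) (kc xc21 yc56 zc57) (kc xc21 yc56 zc58) (kc xc21 yc55 zc55) (kc xc18 yc30 zc5) (kc xc18 yc30 zc7) (kc xc22 yc45 zc15) (kc xc23 yc20 zc32) (kc xc23 yc20 zc33) (kc xc7 yc19 zc29) (kc xc15 yc12 zc25) (kc xc13 yc59 zc43) (kc xc13 yc59 zc44) (kc xc13 yc25 zc10) (kc xc21 yc56 zc52) (kc xc21 yc56 zc53) (kc xc21 yc55 zc53) (kc xc23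 yc20 zc39) (kc xc7 yc19 zc33) (kc xc23 yc20 zc43) (kc xc23 yc20 zc41) (kc xc7 yc19 zc35) (kc xc23 yc20 zc52) (kc xc23 yc20 zc54) (kc xc21 yc44 zc52) (kc xc23 yc20 zc50) (kc xc23 yc20 zc57) (kc xc7 yc19 zc36) (kc xc23 yc20 zc60) (kc xc23 yc20 zc59) (kc xc7 yc19 zc38) (kc xc23 yc21 zc2) (kc xc23 yc21 zc5) (kc xc18 yc42 zc29) (kc xc13 yc55 zc17) (kc xc13 yc15 zc50) (kc xc23 yc21 zc15) (kc xc13 yc15 zc9) (kc xc23 yc21 zc18) (kc xc23 yc21 zc19) (kc xc13 yc48 zc51) (kc xc13 yc13 zc45) (kc xc22 yc30 zc31) (kc xc22 yc45 zc12) (kc xc7 yc19 zc45) (kc xc23 yc21 zc22) (kc xc14 yc5 zc21) (kc xc23 yc0 zc61) (kc xc23 yc21 zc28) (kc xc22 yc38 zc43) (kc xc23 yc21 zc33) (kc xc22 yc48 zc18) (kc xc21 yc56 zc60) (kc xc14 yc49 zc27) (kc xc23 yc21 zc39)) (@D3.rec (fun _ => Pt) (kc xc23 yc21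 zc41) (kc xc14 yc17 zc15) (kc xc19 yc56 zc10) (kc xc23 yc21 zc44) (kc xc7 yc19 zc52) (kc xc22 yc17 zc53) (kc xc23 yc19 zc16) (kc xc23 yc21 zc51) (kc xc21 yc6 zc46) (kc xc21 yc6 zc47) (kc xc18 yc57 zc12) (kc xc21 yc56 zc55) (kc xc13 yc11 zc57) (kc xc23 yc21 zc55) (kc xc14 yc1 zc27) (kc xc7 yc19 zc59) (kc xc23 yc22 zc3) (kc xc23 yc22 zc5) (kc xc23 yc22 zc6) (kc xc23 yc22 zc1) (kc xc7 yc19 zc60) (kc xc21 yc36 zc2) (kc xc7 yc20 zc3) (kc xc17 yc41 zc6) (kc xc7 yc20 zc4) (kc xc14 yc11 zc21) (kc xc23 yc22 zc16) (kc xc12 yc20 zc59) (kc xc7 yc20 zc58) (kc xc12 yc18 zc34) (kc xc7 yc20 zc57) (kc xc7 yc20 zc8) (kc xc14 yc56 zc43) (kc xc9 yc28 zc15) (kc xc12 yc27 zc2) (kc xc23 yc22 zc34) (kc xc23 yc22 zc37) (kc xc14 yc11 zc24) (kc xc23 yc22 zc40) (kc xc13 yc4 zc48) (kc xc7 yc50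 zc1) (kc xc20 yc52 zc61) (kc xc11 yc16 zc52) (kc xc14 yc47 zc36) (kc xc14 yc1 zc50) (kc xc8 yc46 zc37) (kc xc11 yc29 zc14) (kc xc17 yc38 zc45) (kc xc13 yc41 zc52) (kc xc8 yc47 zc16) (kc xc15 yc6 zc10) (kc xc8 yc43 zc15) (kc xc21 yc15 zc11) (kc xc23 yc22 zc53) (kc xc22 yc28 zc37) (kc xc14 yc2 zc1) (kc xc12 yc35 zc53) (kc xc23 yc22 zc57) (kc xc23 yc22 zc60) (kc xc7 yc20 zc27) (kc xc17 yc38 zc44) (kc xc7 yc20 zc29)) (@D3.rec (fun _ => Pt) (kc xc23 yc23 zc1) (kc xc7 yc23 zc34) (kc xc7 yc23 zc35) (kc xc23 yc23 zc8) (kc xc13 yc58 zc50) (kc xc11 yc11 zc1) (kc xc17 yc41 zc59) (kc xc11 yc12 zc35) (kc xc11 yc15 zc15) (kc xc17 yc41 zc58) (kc xc11 yc15 zc12) (kc xc11 yc17 zc0) (kc xc11 yc18 zc5) (kc xc14 yc20 zc25) (kc xc14 yc21 zc47) (kc xc23 yc23 zc24) (kc xc13 yc37 zc11) (kc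 xc7 yc20 zc36) (kc xc20 yc27 zc36) (kc xc22 yc1 zc49) (kc xc7 yc20 zc39) (kc xc20 yc13 zc11) (kc xc23 yc23 zc37) (kc xc7 yc20 zc40) (kc xc15 yc48 zc23) (kc xc23 yc23 zc39) (kc xc7 yc20 zc41) (kc xc21 yc32 zc58) (kc xc23 yc23 zc41) (kc xc13 yc53 zc29) (kc xc9 yc48 zc32) (kc xc13 yc53 zc31) (kc xc21 yc24 zc48) (kc xc14 yc48 zc35) (kc xc22 yc36 zc52) (kc xc13 yc12 zc40) (kc xc13 yc35 zc20) (kc xc16 yc52 zc28) (kc xc21 yc32 zc59) (kc xc21 yc55 zc18) (kc xc22 yc28 zc11) (kc xc13 yc26 zc4) (kc xc9 yc58 zc50) (kc xc22 yc46 zc61) (kc xc10 yc27 zc21) (kc xc7 yc20 zc56) (kc xc19 yc59 zc44) (kc xc23 yc22 zc27) (kc xc23 yc22 zc22) (kc xc18 yc10 zc18) (kc xc7 yc20 zc60) (kc xc18 yc45 zc24) (kc xc14 yc49 zc31) (kc xc14 yc49 zc43) (kc xc7 yc21 zc9) (kc xc23 yc24 zc5) (kc xc14 yc55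 zc38) (kc xc14 yc40 zc54) (kc xc13 yc7 zc36) (kc xc7 yc39 zc45) (kc xc14 yc21 zc50) (kc xc13 yc34 zc3)) (@D3.rec (fun _ => Pt) (kc xc20 yc46 zc35) (kc xc23 yc24 zc12) (kc xc7 yc21 zc10) (kc xc13 yc23 zc32) (kc xc23 yc24 zc14) (kc xc23 yc24 zc18) (kc xc22 yc37 zc16) (kc xc22 yc1 zc48) (kc xc14 yc28 zc47) (kc xc23 yc24 zc21) (kc xc7 yc21 zc13) (kc xc14 yc42 zc28) (kc xc7 yc21 zc14) (kc xc16 yc6 zc0) (kc xc23 yc24 zc25) (kc xc7 yc21 zc15) (kc xc11 yc14 zc44) (kc xc15 yc41 zc36) (kc xc7 yc21 zc16) (kc xc23 yc24 zc32) (kc xc7 yc21 zc18) (kc xc7 yc21 zc20) (kc xc14 yc2 zc21) (kc xc8 yc32 zc61) (kc xc7 yc21 zc21) (kc xc12 yc48 zc15) (kc xc23 yc24 zc24) (kc xc7 yc21 zc25) (kc xc12 yc10 zc9) (kc xc23 yc24 zc38) (kc xc12 yc42 zc25) (kc xc11 yc0 zc58) (kc xc23 yc24 zc42) (kc xc23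 yc24 zc44) (kc xc23 yc24 zc49) (kc xc20 yc19 zc59) (kc xc13 yc44 zc60) (kc xc7 yc21 zc28) (kc xc23 yc24 zc56) (kc xc23 yc24 zc55) (kc xc7 yc21 zc29) (kc xc23 yc24 zc60) (kc xc23 yc25 zc0) (kc xc7 yc21 zc30) (kc xc23 yc25 zc5) (kc xc12 yc6 zc26) (kc xc7 yc21 zc32) (kc xc23 yc25 zc10) (kc xc11 yc20 zc18) (kc xc20 yc17 zc8) (kc xc23 yc13 zc56) (kc xc23 yc25 zc18) (kc xc19 yc53 zc0) (kc xc7 yc21 zc34) (kc xc22 yc16 zc51) (kc xc14 yc15 zc22) (kc xc7 yc33 zc15) (kc xc23 yc25 zc23) (kc xc7 yc21 zc37) (kc xc23 yc25 zc24) (kc xc23 yc21 zc6) (kc xc7 yc21 zc38)) (@D3.rec (fun _ => Pt) (kc xc23 yc25 zc29) (kc xc23 yc25 zc34) (kc xc7 yc21 zc39) (kc xc23 yc25 zc36) (kc xc13 yc14 zc51) (kc xc7 yc50 zc51) (kc xc23 yc25 zc3) (kc xc14 yc0 zc19) (kc xc13 yc59 zc56) (kc xc22 yc30 zc25)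 (kc xc13 yc59 zc32) (kc xc7 yc21 zc44) (kc xc23 yc25 zc50) (kc xc7 yc21 zc45) (kc xc23 yc25 zc54) (kc xc23 yc25 zc58) (kc xc7 yc21 zc47) (kc xc13 yc51 zc41) (kc xc14 yc5 zc9) (kc xc16 yc11 zc51) (kc xc13 yc38 zc22) (kc xc13 yc38 zc23) (kc xc23 yc26 zc6) (kc xc17 yc15 zc25) (kc xc21 yc29 zc21) (kc xc16 yc21 zc11) (kc xc14 yc5 zc19) (kc xc21 yc29 zc33) (kc xc13 yc49 zc9) (kc xc21 yc29 zc28) (kc xc21 yc29 zc17) (kc xc7 yc21 zc54) (kc xc13 yc57 zc13) (kc xc7 yc21 zc55) (kc xc21 yc32 zc6) (kc xc9 yc29 zc16) (kc xc9 yc29 zc17) (kc xc11 yc50 zc47) (kc xc11 yc14 zc49) (kc xc7 yc51 zc59) (kc xc7 yc51 zc60) (kc xc23 yc26 zc28) (kc xc14 yc50 zc20) (kc xc8 yc36 zc22) (kc xc7 yc21 zc59) (kc xc13 yc56 zc3) (kc xc20 yc50 zc9) (kc xc23 yc26 zc34) (kc xc7 yc21 zc60) (kc xc23 yc26 zc37)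 (kc xc11 yc16 zc11) (kc xc23 yc26 zc41) (kc xc23 yc26 zc44) (kc xc7 yc21 zc61) (kc xc23 yc26 zc49) (kc xc23 yc26 zc50) (kc xc14 yc12 zc47) (kc xc23 yc26 zc56) (kc xc13 yc50 zc5) (kc xc7 yc22 zc2) (kc xc23 yc26 zc60) (kc xc22 yc32 zc51)) (@D3.rec (fun _ => Pt) (kc xc13 yc16 zc60) (kc xc23 yc27 zc3) (kc xc7 yc22 zc5) (kc xc13 yc55 zc45) (kc xc23 yc27 zc8) (kc xc7 yc22 zc6) (kc xc23 yc13 zc59) (kc xc23 yc27 zc12) (kc xc7 yc22 zc7) (kc xc7 yc28 zc25) (kc xc23 yc26 zc15) (kc xc14 yc6 zc37) (kc xc14 yc7 zc19) (kc xc22 yc35 zc30) (kc xc21 yc14 zc26) (kc xc23 yc20 zc2) (kc xc13 yc20 zc53) (kc xc23 yc27 zc24) (kc xc7 yc22 zc17) (kc xc22 yc40 zc26) (kc xc7 yc22 zc19) (kc xc23 yc27 zc28) (kc xc23 yc27 zc30) (kc xc23 yc27 zc27) (kc xc23 yc27 zc32) (kc xc13 yc21 zc8) (kc xc23 yc27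 zc34) (kc xc7 yc22 zc21) (kc xc23 yc27 zc40) (kc xc23 yc27 zc42) (kc xc23 yc27 zc46) (kc xc12 yc56 zc14) (kc xc7 yc22 zc24) (kc xc23 yc27 zc51) (kc xc9 yc17 zc17) (kc xc23 yc27 zc56) (kc xc23 yc27 zc59) (kc xc7 yc22 zc25) (kc xc23 yc28 zc3) (kc xc21 yc19 zc7) (kc xc13 yc22 zc18) (kc xc22 yc43 zc22) (kc xc22 yc43 zc23) (kc xc7 yc22 zc28) (kc xc23 yc28 zc9) (kc xc23 yc28 zc12) (kc xc13 yc17 zc31) (kc xc23 yc28 zc17) (kc xc13 yc24 zc26) (kc xc7 yc22 zc31) (kc xc23 yc28 zc22) (kc xc23 yc28 zc26) (kc xc7 yc22 zc33) (kc xc23 yc28 zc28) (kc xc23 yc28 zc33) (kc xc7 yc22 zc34) (kc xc23 yc28 zc36) (kc xc23 yc27 zc38) (kc xc7 yc22 zc36) (kc xc23 yc28 zc39) (kc xc23 yc28 zc42) (kc xc7 yc22 zc38)) (@D3.rec (fun _ => Pt) (kc xc23 yc28 zc45) (kc xc7 yc22 zc41) (kc xc15 yc24 zc52)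 (kc xc23 yc28 zc51) (kc xc13 yc5 zc12) (kc xc7 yc22 zc45) (kc xc17 yc0 zc1) (kc xc16 yc10 zc38) (kc xc7 yc22 zc46) (kc xc20 yc49 zc9) (kc xc23 yc28 zc58) (kc xc7 yc22 zc48) (kc xc12 yc44 zc11) (kc xc13 yc55 zc32) (kc xc23 yc28 zc59) (kc xc23 yc29 zc1) (kc xc23 yc29 zc6) (kc xc20 yc44 zc55) (kc xc7 yc22 zc52) (kc xc19 yc58 zc58) (kc xc23 yc29 zc8) (kc xc22 yc34 zc8) (kc xc7 yc22 zc53) (kc xc23 yc29 zc12) (kc xc23 yc5 zc40) (kc xc23 yc29 zc15) (kc xc23 yc29 zc18) (kc xc7 yc22 zc54) (kc xc11 yc26 zc60) (kc xc13 yc25 zc27) (kc xc16 yc46 zc19) (kc xc13 yc25 zc51) (kc xc9 yc45 zc43) (kc xc23 yc26 zc45) (kc xc23 yc26 zc46) (kc xc7 yc22 zc57) (kc xc23 yc29 zc29) (kc xc23 yc29 zc30) (kc xc14 yc56 zc18) (kc xc7 yc28 zc24) (kc xc19 yc54 zc50) (kc xc13 yc5 zc13) (kc xc23 yc29 zc38)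 (kc xc8 yc46 zc38) (kc xc10 yc4 zc19) (kc xc23 yc29 zc40) (kc xc8 yc46 zc0) (kc xc13 yc16 zc52) (kc xc15 yc7 zc51) (kc xc11 yc28 zc2) (kc xc17 yc15 zc31) (kc xc17 yc15 zc32) (kc xc23 yc29 zc48) (kc xc12 yc22 zc51) (kc xc22 yc34 zc7) (kc xc21 yc29 zc40) (kc xc13 yc50 zc42) (kc xc21 yc29 zc37) (kc xc21 yc29 zc43) (kc xc21 yc29 zc42) (kc xc7 yc23 zc10) (kc xc16 yc31 zc56)) (@D3.rec (fun _ => Pt) (kc xc23 yc30 zc2) (kc xc11 yc26 zc61) (kc xc23 yc30 zc5) (kc xc11 yc11 zc59) (kc xc23 yc27 zc61) (kc xc23 yc28 zc0) (kc xc7 yc23 zc14) (kc xc23 yc30 zc13) (kc xc23 yc30 zc15) (kc xc14 yc34 zc43) (kc xc7 yc27 zc61) (kc xc7 yc28 zc0) (kc xc23 yc29 zc60) (kc xc7 yc23 zc18) (kc xc23 yc30 zc26) (kc xc7 yc23 zc19) (kc xc7 yc25 zc18) (kc xc13 yc6 zc21) (kc xc16 yc29 zc26) (kc xc9 yc45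 zc11) (kc xc11 yc6 zc28) (kc xc8 yc1 zc16) (kc xc21 yc30 zc44) (kc xc21 yc30 zc45) (kc xc23 yc30 zc33) (kc xc16 yc26 zc39) (kc xc21 yc56 zc32) (kc xc21 yc37 zc48) (kc xc7 yc59 zc0) (kc xc23 yc30 zc36) (kc xc11 yc8 zc17) (kc xc23 yc24 zc29) (kc xc13 yc25 zc14) (kc xc7 yc23 zc28) (kc xc16 yc4 zc4) (kc xc17 yc21 zc51) (kc xc7 yc23 zc30) (kc xc11 yc19 zc16) (kc xc11 yc11 zc15) (kc xc23 yc30 zc42) (kc xc23 yc30 zc44) (kc xc14 yc8 zc2) (kc xc18 yc18 zc32) (kc xc22 yc38 zc38) (kc xc13 yc10 zc37) (kc xc16 yc59 zc60) (kc xc12 yc39 zc13) (kc xc7 yc23 zc37) (kc xc8 yc25 zc56) (kc xc23 yc30 zc50) (kc xc13 yc53 zc4) (kc xc7 yc23 zc40) (kc xc23 yc30 zc57) (kc xc23 yc30 zc59) (kc xc7 yc23 zc39) (kc xc23 yc30 zc61) (kc xc23 yc30 zc45) (kc xc23 yc31 zc4) (kc xc20 yc9 zc44) (kc xc11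 yc29 zc18) (kc xc12 yc6 zc27) (kc xc7 yc23 zc41)) (@D3.rec (fun _ => Pt) (kc xc23 yc31 zc9) (kc xc12 yc22 zc31) (kc xc17 yc2 zc47) (kc xc7 yc23 zc43) (kc xc13 yc50 zc17) (kc xc9 yc45 zc51) (kc xc23 yc31 zc16) (kc xc20 yc7 zc10) (kc xc8 yc25 zc60) (kc xc7 yc23 zc45) (kc xc9 yc30 zc48) (kc xc16 yc29 zc25) (kc xc15 yc3 zc14) (kc xc7 yc23 zc46) (kc xc17 yc12 zc11) (kc xc19 yc48 zc21) (kc xc23 yc23 zc6) (kc xc23 yc23 zc7) (kc xc14 yc8 zc46) (kc xc22 yc12 zc51) (kc xc7 yc23 zc48) (kc xc23 yc31 zc26) (kc xc7 yc23 zc49) (kc xc23 yc21 zc48) (kc xc23 yc31 zc29) (kc xc18 yc38 zc54) (kc xc7 yc23 zc51) (kc xc23 yc31 zc34) (kc xc23 yc31 zc35) (kc xc19 yc26 zc32) (kc xc7 yc23 zc53) (kc xc8 yc38 zc56) (kc xc13 yc55 zc10) (kc xc13 yc37 zc36) (kc xc18 yc59 zc61) (kc xc7 yc23 zc55) (kc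 xc16 yc25 zc39) (kc xc23 yc31 zc41) (kc xc10 yc59 zc20) (kc xc23 yc31 zc43) (kc xc23 yc3 zc18) (kc xc7 yc23 zc59) (kc xc11 yc4 zc0) (kc xc13 yc51 zc18) (kc xc13 yc51 zc19) (kc xc23 yc31 zc46) (kc xc23 yc31 zc45) (kc xc7 yc24 zc0) (kc xc23 yc31 zc52) (kc xc23 yc31 zc54) (kc xc23 yc31 zc55) (kc xc23 yc31 zc51) (kc xc7 yc24 zc1) (kc xc23 yc31 zc56) (kc xc7 yc24 zc2) (kc xc23 yc31 zc59) (kc xc13 yc55 zc8) (kc xc7 yc27 zc39) (kc xc19 yc1 zc33) (kc xc7 yc24 zc4) (kc xc23 yc32 zc11) (kc xc23 yc32 zc13))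
def f_c_14 : D2 → D3 → Pt := @D2.rec (fun _ => D3 → Pt) (@D3.rec (fun _ => Pt) (kc xc23 yc32 zc16) (kc xc23 yc32 zc9) (kc xc23 yc21 zc7) (kc xc7 yc24 zc5) (kc xc23 yc32 zc19) (kc xc16 yc3 zc37) (kc xc7 yc24 zc7) (kc xc15 yc13 zc40) (kc xc15 yc13 zc29) (kc xc23 yc32 zc26) (kc xc13 yc50 zc61) (kc xc14 yc0 zc53) (kc xc23 yc32 zc39) (kc xc14 yc1 zc8) (kc xc23 yc32 zc44) (kc xc23 yc32 zc47) (kc xc14 yc9 zc36) (kc xc23 yc32 zc51) (kc xc13 yc37 zc24) (kc xc13 yc55 zc7) (kc xc7 yc24 zc13) (kc xc23 yc19 zc25) (kc xc23 yc32 zc60) (kc xc13 yc19 zc21) (kc xc14 yc10 zc60) (kc xc13 yc17 zc56) (kc xc23 yc33 zc6) (kc xc7 yc24 zc15) (kc xc23 yc33 zc9) (kc xc13 yc48 zc13) (kc xc21 yc14 zc48) (kc xc22 yc30 zc32) (kc xc7 yc24 zc18) (kc xc12 yc7 zc59) (kc xc13 yc38 zc21) (kc xc22 yc57 zc3)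 (kc xc23 yc33 zc16) (kc xc23 yc33 zc18) (kc xc7 yc24 zc20) (kc xc16 yc29 zc22) (kc xc23 yc17 zc30) (kc xc7 yc24 zc21) (kc xc13 yc46 zc41) (kc xc22 yc42 zc1) (kc xc7 yc24 zc23) (kc xc19 yc50 zc3) (kc xc19 yc50 zc2) (kc xc17 yc53 zc33) (kc xc23 yc33 zc21) (kc xc14 yc51 zc8) (kc xc7 yc24 zc25) (kc xc14 yc45 zc17) (kc xc13 yc48 zc7) (kc xc14 yc0 zc11) (kc xc21 yc55 zc29) (kc xc22 yc58 zc34) (kc xc7 yc24 zc36) (kc xc7 yc24 zc31) (kc xc23 yc33 zc35) (kc xc13 yc16 zc16) (kc xc21 yc32 zc31) (kc xc13 yc24 zc10)) (@D3.rec (fun _ => Pt) (kc xc14 yc39 zc7) (kc xc22 yc30 zc24) (kc xc7 yc24 zc38) (kc xc23 yc33 zc46) (kc xc23 yc33 zc49) (kc xc23 yc33 zc44) (kc xc13 yc21 zc18) (kc xc23 yc33 zc50) (kc xc14 yc0 zc13) (kc xc22 yc51 zc30) (kc xc7 yc24 zc43) (kc xc7 yc24 zc44) (kc xc23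 yc33 zc54) (kc xc7 yc37 zc23) (kc xc7 yc48 zc22) (kc xc13 yc5 zc2) (kc xc7 yc24 zc46) (kc xc21 yc4 zc51) (kc xc21 yc4 zc44) (kc xc12 yc59 zc35) (kc xc18 yc5 zc8) (kc xc14 yc5 zc42) (kc xc14 yc46 zc3) (kc xc7 yc24 zc49) (kc xc13 yc26 zc3) (kc xc23 yc34 zc8) (kc xc7 yc24 zc51) (kc xc13 yc52 zc14) (kc xc7 yc24 zc53) (kc xc23 yc34 zc18) (kc xc23 yc34 zc21) (kc xc23 yc34 zc24) (kc xc23 yc34 zc17) (kc xc7 yc24 zc54) (kc xc7 yc24 zc55) (kc xc18 yc25 zc39) (kc xc17 yc21 zc45) (kc xc21 yc40 zc29) (kc xc16 yc54 zc32) (kc xc9 yc24 zc37) (kc xc9 yc22 zc46) (kc xc17 yc58 zc41) (kc xc7 yc40 zc53) (kc xc11 yc35 zc55) (kc xc13 yc10 zc28) (kc xc7 yc37 zc55) (kc xc22 yc57 zc7) (kc xc21 yc40 zc12) (kc xc7 yc47 zc14) (kc xc7 yc25 zc5) (kc xc13 yc52 zc44) (kc xc23 yc34 zc39) (kc xc12 yc23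 zc47) (kc xc23 yc34 zc43) (kc xc8 yc45 zc34) (kc xc11 yc17 zc19) (kc xc8 yc46 zc36) (kc xc12 yc22 zc40) (kc xc16 yc25 zc45) (kc xc23 yc34 zc52) (kc xc20 yc26 zc19) (kc xc23 yc34 zc55)) (@D3.rec (fun _ => Pt) (kc xc14 yc59 zc32) (kc xc13 yc52 zc55) (kc xc23 yc34 zc57) (kc xc23 yc34 zc59) (kc xc23 yc35 zc0) (kc xc7 yc25 zc17) (kc xc14 yc7 zc41) (kc xc22 yc4 zc56) (kc xc7 yc27 zc30) (kc xc7 yc27 zc31) (kc xc23 yc31 zc21) (kc xc11 yc44 zc28) (kc xc7 yc29 zc15) (kc xc7 yc29 zc16) (kc xc15 yc14 zc21) (kc xc14 yc8 zc15) (kc xc7 yc57 zc5) (kc xc20 yc14 zc58) (kc xc23 yc35 zc22) (kc xc15 yc44 zc28) (kc xc20 yc9 zc40) (kc xc13 yc54 zc22) (kc xc7 yc25 zc25) (kc xc22 yc43 zc60) (kc xc22 yc58 zc41) (kc xc13 yc7 zc42) (kc xc11 yc53 zc23) (kc xc7 yc25 zc28) (kc xc14 yc21 zc51) (kc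 xc7 yc36 zc54) (kc xc7 yc25 zc30) (kc xc23 yc35 zc28) (kc xc7 yc25 zc31) (kc xc18 yc6 zc12) (kc xc7 yc26 zc11) (kc xc23 yc35 zc34) (kc xc22 yc46 zc12) (kc xc7 yc26 zc23) (kc xc19 yc0 zc18) (kc xc7 yc25 zc38) (kc xc23 yc35 zc39) (kc xc11 yc40 zc21) (kc xc17 yc2 zc23) (kc xc17 yc6 zc21) (kc xc12 yc13 zc17) (kc xc17 yc14 zc43) (kc xc17 yc39 zc46) (kc xc12 yc33 zc19) (kc xc23 yc35 zc52) (kc xc23 yc35 zc54) (kc xc17 yc16 zc34) (kc xc18 yc32 zc42) (kc xc10 yc32 zc1) (kc xc14 yc17 zc48) (kc xc20 yc29 zc1) (kc xc7 yc41 zc1) (kc xc13 yc20 zc43) (kc xc7 yc25 zc52) (kc xc18 yc48 zc5) (kc xc7 yc45 zc33) (kc xc16 yc51 zc60) (kc xc11 yc17 zc6)) (@D3.rec (fun _ => Pt) (kc xc11 yc16 zc47) (kc xc16 yc49 zc42) (kc xc11 yc17 zc7) (kc xc11 yc16 zc45) (kc xc11 yc18 zc35) (kc xc11 yc18 zc36)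 (kc xc23 yc36 zc8) (kc xc7 yc46 zc44) (kc xc7 yc26 zc0) (kc xc11 yc42 zc9) (kc xc23 yc36 zc11) (kc xc7 yc37 zc58) (kc xc23 yc36 zc15) (kc xc7 yc26 zc3) (kc xc23 yc36 zc17) (kc xc22 yc2 zc2) (kc xc7 yc26 zc4) (kc xc16 yc9 zc11) (kc xc23 yc36 zc25) (kc xc7 yc26 zc5) (kc xc12 yc21 zc8) (kc xc12 yc26 zc2) (kc xc20 yc16 zc19) (kc xc7 yc51 zc1) (kc xc14 yc55 zc9) (kc xc23 yc35 zc33) (kc xc23 yc36 zc31) (kc xc7 yc26 zc12) (kc xc23 yc36 zc32) (kc xc12 yc33 zc18) (kc xc7 yc26 zc14) (kc xc23 yc23 zc50) (kc xc19 yc21 zc26) (kc xc23 yc36 zc39) (kc xc11 yc59 zc58) (kc xc14 yc44 zc45) (kc xc7 yc49 zc2) (kc xc21 yc37 zc13) (kc xc23 yc36 zc44) (kc xc22 yc30 zc12) (kc xc13 yc13 zc34) (kc xc13 yc48 zc24) (kc xc21 yc37 zc9) (kc xc13 yc49 zc44) (kc xc7 yc26 zc21) (kc xc23 yc36 zc50) (kc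 xc23 yc36 zc52) (kc xc7 yc26 zc24) (kc xc18 yc9 zc3) (kc xc23 yc36 zc54) (kc xc7 yc26 zc26) (kc xc18 yc5 zc18) (kc xc18 yc5 zc17) (kc xc23 yc37 zc0) (kc xc9 yc21 zc61) (kc xc12 yc34 zc52) (kc xc7 yc26 zc32) (kc xc23 yc37 zc6) (kc xc20 yc13 zc35) (kc xc17 yc9 zc6) (kc xc23 yc37 zc12) (kc xc16 yc51 zc49)) (@D3.rec (fun _ => Pt) (kc xc7 yc26 zc35) (kc xc23 yc37 zc16) (kc xc23 yc37 zc15) (kc xc12 yc34 zc55) (kc xc7 yc26 zc36) (kc xc23 yc37 zc22) (kc xc23 yc37 zc21) (kc xc23 yc37 zc24) (kc xc23 yc37 zc27) (kc xc7 yc26 zc37) (kc xc16 yc23 zc44) (kc xc7 yc26 zc38) (kc xc15 yc10 zc49) (kc xc11 yc10 zc8) (kc xc22 yc5 zc48) (kc xc7 yc26 zc39) (kc xc23 yc37 zc38) (kc xc21 yc3 zc16) (kc xc15 yc50 zc29) (kc xc15 yc50 zc28) (kc xc21 yc25 zc35) (kc xc9 yc10 zc58) (kc xc7 yc26 zc46)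 (kc xc7 yc26 zc57) (kc xc7 yc29 zc59) (kc xc12 yc30 zc19) (kc xc21 yc50 zc34) (kc xc16 yc45 zc35) (kc xc21 yc57 zc40) (kc xc21 yc57 zc41) (kc xc7 yc26 zc53) (kc xc18 yc6 zc30) (kc xc23 yc37 zc53) (kc xc7 yc26 zc56) (kc xc18 yc30 zc6) (kc xc18 yc30 zc9) (kc xc16 yc16 zc57) (kc xc23 yc37 zc60) (kc xc13 yc4 zc32) (kc xc12 yc2 zc13) (kc xc17 yc5 zc26) (kc xc14 yc36 zc61) (kc xc12 yc28 zc25) (kc xc7 yc28 zc61) (kc xc14 yc11 zc27) (kc xc21 yc45 zc29) (kc xc7 yc27 zc7) (kc xc18 yc43 zc54) (kc xc7 yc27 zc11) (kc xc7 yc28 zc46) (kc xc9 yc16 zc46) (kc xc9 yc20 zc39) (kc xc7 yc27 zc18) (kc xc23 yc38 zc7) (kc xc13 yc6 zc36) (kc xc12 yc35 zc7) (kc xc17 yc9 zc61) (kc xc12 yc35 zc8) (kc xc11 yc40 zc43) (kc xc13 yc21 zc42) (kc xc13 yc21 zc46) (kc xc7 yc30 zc50)) (@D3.rec (fun _ =>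 Pt) (kc xc7 yc30 zc51) (kc xc21 yc41 zc13) (kc xc22 yc11 zc5) (kc xc7 yc32 zc11) (kc xc13 yc44 zc48) (kc xc22 yc31 zc61) (kc xc23 yc38 zc20) (kc xc7 yc27 zc40) (kc xc13 yc15 zc44) (kc xc13 yc55 zc18) (kc xc23 yc21 zc8) (kc xc23 yc29 zc61) (kc xc12 yc8 zc18) (kc xc8 yc46 zc27) (kc xc8 yc46 zc33) (kc xc23 yc29 zc41) (kc xc9 yc19 zc40) (kc xc23 yc38 zc28) (kc xc22 yc49 zc44) (kc xc13 yc55 zc26) (kc xc23 yc38 zc32) (kc xc13 yc51 zc53) (kc xc23 yc38 zc34) (kc xc23 yc38 zc37) (kc xc7 yc27 zc49) (kc xc23 yc38 zc43) (kc xc20 yc7 zc2) (kc xc21 yc50 zc36) (kc xc23 yc38 zc53) (kc xc23 yc38 zc55) (kc xc17 yc12 zc13) (kc xc23 yc30 zc10) (kc xc23 yc30 zc11) (kc xc7 yc27 zc53) (kc xc23 yc39 zc2) (kc xc22 yc32 zc9) (kc xc13 yc6 zc37) (kc xc19 yc56 zc6) (kc xc13 yc4 zc11) (kc xc7 yc27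 zc56) (kc xc23 yc39 zc10) (kc xc23 yc39 zc15) (kc xc14 yc1 zc21) (kc xc7 yc27 zc59) (kc xc23 yc39 zc18) (kc xc14 yc50 zc52) (kc xc23 yc29 zc19) (kc xc23 yc30 zc20) (kc xc23 yc39 zc28) (kc xc19 yc45 zc32) (kc xc7 yc28 zc47) (kc xc7 yc28 zc48) (kc xc23 yc38 zc41) (kc xc7 yc53 zc27) (kc xc7 yc28 zc2) (kc xc23 yc39 zc42) (kc xc23 yc39 zc45) (kc xc7 yc28 zc4) (kc xc23 yc39 zc48) (kc xc14 yc5 zc59) (kc xc22 yc44 zc40) (kc xc14 yc34 zc16)) (@D3.rec (fun _ => Pt) (kc xc14 yc33 zc58) (kc xc7 yc28 zc8) (kc xc23 yc39 zc55) (kc xc13 yc47 zc26) (kc xc23 yc39 zc57) (kc xc23 yc39 zc58) (kc xc23 yc40 zc0) (kc xc22 yc37 zc21) (kc xc21 yc24 zc27) (kc xc23 yc40 zc2) (kc xc7 yc28 zc14) (kc xc20 yc52 zc27) (kc xc14 yc6 zc28) (kc xc20 yc48 zc41) (kc xc10 yc12 zc3) (kc xc23 yc27 zc6) (kc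 xc11 yc17 zc31) (kc xc23 yc29 zc26) (kc xc23 yc29 zc27) (kc xc7 yc28 zc17) (kc xc23 yc40 zc17) (kc xc7 yc28 zc19) (kc xc23 yc40 zc18) (kc xc22 yc40 zc4) (kc xc7 yc32 zc16) (kc xc21 yc48 zc42) (kc xc13 yc4 zc6) (kc xc7 yc28 zc22) (kc xc14 yc6 zc12) (kc xc23 yc40 zc26) (kc xc23 yc19 zc37) (kc xc23 yc40 zc31) (kc xc19 yc55 zc16) (kc xc7 yc28 zc29) (kc xc21 yc30 zc10) (kc xc23 yc40 zc37) (kc xc9 yc25 zc47) (kc xc13 yc56 zc11) (kc xc7 yc28 zc31) (kc xc23 yc40 zc40) (kc xc23 yc40 zc42) (kc xc7 yc28 zc33) (kc xc13 yc38 zc41) (kc xc22 yc29 zc46) (kc xc23 yc40 zc46) (kc xc23 yc40 zc50) (kc xc14 yc12 zc49) (kc xc17 yc5 zc47) (kc xc13 yc8 zc49) (kc xc14 yc33 zc5) (kc xc7 yc28 zc38) (kc xc21 yc28 zc56) (kc xc23 yc40 zc56) (kc xc23 yc40 zc61) (kc xc18 yc35 zc2) (kc xc7 yc28 zc39)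 (kc xc23 yc41 zc4) (kc xc23 yc41 zc2) (kc xc14 yc15 zc60) (kc xc7 yc28 zc40) (kc xc23 yc41 zc10) (kc xc23 yc41 zc9)) (@D3.rec (fun _ => Pt) (kc xc23 yc41 zc12) (kc xc23 yc41 zc15) (kc xc7 yc28 zc41) (kc xc23 yc41 zc21) (kc xc10 yc55 zc23) (kc xc23 yc41 zc25) (kc xc23 yc41 zc26) (kc xc17 yc55 zc1) (kc xc23 yc38 zc60) (kc xc23 yc38 zc61) (kc xc7 yc28 zc45) (kc xc23 yc41 zc33) (kc xc23 yc41 zc35) (kc xc23 yc39 zc34) (kc xc23 yc39 zc35) (kc xc23 yc41 zc19) (kc xc7 yc42 zc58) (kc xc7 yc28 zc50) (kc xc23 yc41 zc48) (kc xc13 yc56 zc12) (kc xc13 yc46 zc51) (kc xc22 yc10 zc16) (kc xc22 yc42 zc50) (kc xc14 yc15 zc59) (kc xc23 yc41 zc52) (kc xc13 yc47 zc19) (kc xc23 yc41 zc53) (kc xc13 yc47 zc21) (kc xc23 yc38 zc39) (kc xc23 yc38 zc40) (kc xc7 yc28 zc57) (kc xc18 yc1 zc29) (kc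 xc11 yc49 zc59) (kc xc22 yc44 zc24) (kc xc18 yc1 zc8) (kc xc7 yc28 zc60) (kc xc23 yc42 zc2) (kc xc23 yc42 zc3) (kc xc23 yc41 zc59) (kc xc7 yc29 zc2) (kc xc20 yc21 zc56) (kc xc14 yc2 zc6) (kc xc7 yc29 zc4) (kc xc23 yc42 zc10) (kc xc23 yc42 zc14) (kc xc23 yc42 zc19) (kc xc11 yc18 zc34) (kc xc19 yc5 zc49) (kc xc16 yc49 zc49) (kc xc17 yc55 zc37) (kc xc22 yc43 zc61) (kc xc14 yc49 zc41) (kc xc7 yc29 zc7) (kc xc15 yc41 zc35) (kc xc12 yc5 zc50) (kc xc16 yc31 zc51) (kc xc20 yc26 zc18) (kc xc23 yc42 zc25) (kc xc11 yc14 zc31) (kc xc17 yc19 zc2) (kc xc7 yc29 zc12) (kc xc7 yc29 zc13)) (@D3.rec (fun _ => Pt) (kc xc12 yc9 zc19) (kc xc22 yc5 zc12) (kc xc13 yc58 zc41) (kc xc12 yc7 zc0) (kc xc23 yc42 zc29) (kc xc18 yc50 zc0) (kc xc12 yc47 zc14) (kc xc23 yc35 zc16) (kc xc12 yc46 zc41)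 (kc xc7 yc29 zc17) (kc xc23 yc42 zc36) (kc xc23 yc42 zc37) (kc xc22 yc5 zc58) (kc xc23 yc42 zc41) (kc xc12 yc26 zc23) (kc xc14 yc2 zc15) (kc xc22 yc6 zc0) (kc xc7 yc29 zc22) (kc xc23 yc42 zc46) (kc xc23 yc42 zc48) (kc xc7 yc29 zc21) (kc xc15 yc10 zc48) (kc xc17 yc54 zc49) (kc xc20 yc43 zc20) (kc xc11 yc20 zc20) (kc xc16 yc25 zc18) (kc xc16 yc23 zc45) (kc xc15 yc10 zc36) (kc xc21 yc29 zc50) (kc xc21 yc29 zc7) (kc xc23 yc43 zc2) (kc xc7 yc29 zc26) (kc xc7 yc29 zc25) (kc xc23 yc43 zc3) (kc xc23 yc42 zc32) (kc xc23 yc43 zc5) (kc xc21 yc3 zc18) (kc xc23 yc43 zc7) (kc xc7 yc29 zc27) (kc xc23 yc43 zc10) (kc xc21 yc29 zc25) (kc xc7 yc29 zc28) (kc xc20 yc12 zc46) (kc xc23 yc43 zc17) (kc xc17 yc55 zc25) (kc xc23 yc35 zc17) (kc xc13 yc59 zc18) (kc xc23 yc43 zc30) (kc xc7 yc29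 zc30) (kc xc7 yc29 zc31) (kc xc23 yc43 zc33) (kc xc23 yc43 zc35) (kc xc14 yc17 zc4) (kc xc23 yc43 zc38) (kc xc23 yc43 zc40) (kc xc7 yc29 zc33) (kc xc23 yc43 zc45) (kc xc20 yc30 zc36) (kc xc23 yc43 zc49) (kc xc23 yc43 zc52) (kc xc23 yc43 zc43) (kc xc7 yc29 zc36)) (@D3.rec (fun _ => Pt) (kc xc23 yc44 zc0) (kc xc23 yc44 zc1) (kc xc23 yc44 zc3) (kc xc23 yc43 zc60) (kc xc7 yc29 zc37) (kc xc13 yc48 zc37) (kc xc22 yc30 zc29) (kc xc22 yc41 zc58) (kc xc21 yc14 zc47) (kc xc22 yc30 zc33) (kc xc13 yc48 zc17) (kc xc12 yc8 zc10) (kc xc13 yc49 zc5) (kc xc7 yc29 zc43) (kc xc23 yc44 zc19) (kc xc23 yc44 zc20) (kc xc23 yc44 zc18) (kc xc23 yc44 zc21) (kc xc7 yc29 zc44) (kc xc13 yc5 zc9) (kc xc13 yc2 zc39) (kc xc21 yc25 zc46) (kc xc21 yc25 zc48) (kc xc12 yc19 zc53) (kc xc8 yc38 zc12) (kc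 xc13 yc26 zc38) (kc xc7 yc29 zc49) (kc xc23 yc44 zc32) (kc xc23 yc42 zc50) (kc xc18 yc26 zc31) (kc xc21 yc6 zc18) (kc xc13 yc26 zc19) (kc xc23 yc44 zc38) (kc xc13 yc26 zc6) (kc xc18 yc42 zc38) (kc xc15 yc23 zc56) (kc xc14 yc0 zc16) (kc xc21 yc41 zc21) (kc xc22 yc15 zc32) (kc xc7 yc33 zc14) (kc xc23 yc31 zc58) (kc xc7 yc29 zc54) (kc xc18 yc29 zc10) (kc xc12 yc48 zc31) (kc xc10 yc37 zc28) (kc xc22 yc54 zc28) (kc xc12 yc48 zc49) (kc xc19 yc56 zc30) (kc xc7 yc29 zc57) (kc xc13 yc26 zc43) (kc xc19 yc56 zc41) (kc xc23 yc31 zc32) (kc xc18 yc37 zc2) (kc xc21 yc57 zc0) (kc xc7 yc29 zc60) (kc xc23 yc44 zc61) (kc xc21 yc6 zc13) (kc xc7 yc30 zc0) (kc xc23 yc45 zc6) (kc xc18 yc30 zc1) (kc xc23 yc45 zc4) (kc xc13 yc40 zc8)) (@D3.rec (fun _ => Pt) (kc xc23 yc45 zc8) (kc xc23 yc16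 zc24) (kc xc22 yc18 zc34) (kc xc23 yc45 zc12) (kc xc23 yc45 zc14) (kc xc7 yc30 zc5) (kc xc23 yc45 zc16) (kc xc22 yc37 zc47) (kc xc23 yc45 zc21) (kc xc23 yc45 zc15) (kc xc7 yc30 zc8) (kc xc23 yc45 zc25) (kc xc23 yc45 zc3) (kc xc7 yc51 zc36) (kc xc7 yc30 zc14) (kc xc9 yc48 zc5) (kc xc23 yc45 zc29) (kc xc7 yc30 zc17) (kc xc8 yc12 zc48) (kc xc23 yc45 zc32) (kc xc14 yc46 zc8) (kc xc7 yc30 zc18) (kc xc23 yc45 zc37) (kc xc23 yc45 zc36) (kc xc7 yc30 zc19) (kc xc23 yc45 zc40) (kc xc23 yc45 zc43) (kc xc23 yc45 zc46) (kc xc7 yc30 zc20) (kc xc23 yc45 zc51) (kc xc7 yc36 zc47) (kc xc7 yc53 zc31) (kc xc23 yc45 zc56) (kc xc23 yc19 zc47) (kc xc16 yc41 zc7) (kc xc7 yc30 zc24) (kc xc22 yc37 zc46) (kc xc7 yc37 zc51) (kc xc20 yc47 zc46) (kc xc7 yc30 zc26) (kc xc23 yc46 zc5) (kc xc13 yc14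 zc4) (kc xc23 yc46 zc9) (kc xc22 yc46 zc36) (kc xc20 yc19 zc47) (kc xc13 yc4 zc28) (kc xc7 yc30 zc30) (kc xc22 yc58 zc58) (kc xc7 yc30 zc31) (kc xc23 yc46 zc19) (kc xc7 yc30 zc33) (kc xc23 yc46 zc23) (kc xc19 yc47 zc33) (kc xc19 yc55 zc48) (kc xc11 yc30 zc6) (kc xc14 yc12 zc54) (kc xc7 yc30 zc41) (kc xc13 yc6 zc20) (kc xc23 yc46 zc31) (kc xc17 yc37 zc14) (kc xc14 yc0 zc24) (kc xc23 yc13 zc31)) (@D3.rec (fun _ => Pt) (kc xc14 yc52 zc9) (kc xc23 yc13 zc32) (kc xc22 yc15 zc33) (kc xc15 yc38 zc60) (kc xc15 yc39 zc0) (kc xc7 yc30 zc49) (kc xc23 yc46 zc40) (kc xc23 yc46 zc42) (kc xc23 yc38 zc10) (kc xc23 yc46 zc43) (kc xc23 yc46 zc45) (kc xc7 yc30 zc52) (kc xc22 yc53 zc37) (kc xc23 yc46 zc39) (kc xc12 yc49 zc14) (kc xc20 yc22 zc39) (kc xc11 yc57 zc57) (kc xc16 yc59 zc43)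 (kc xc23 yc46 zc52) (kc xc23 yc46 zc54) (kc xc7 yc30 zc61) (kc xc13 yc52 zc25) (kc xc23 yc46 zc55) (kc xc23 yc46 zc58) (kc xc13 yc52 zc37) (kc xc23 yc46 zc61) (kc xc7 yc31 zc3) (kc xc14 yc4 zc44) (kc xc20 yc40 zc25) (kc xc12 yc56 zc47) (kc xc12 yc38 zc38) (kc xc7 yc31 zc6) (kc xc21 yc40 zc39) (kc xc17 yc31 zc59) (kc xc17 yc32 zc0) (kc xc20 yc14 zc53) (kc xc21 yc52 zc60) (kc xc7 yc32 zc49) (kc xc17 yc19 zc17) (kc xc7 yc31 zc41) (kc xc23 yc47 zc4) (kc xc23 yc47 zc7) (kc xc23 yc47 zc11) (kc xc23 yc47 zc12) (kc xc7 yc31 zc16) (kc xc9 yc21 zc23) (kc xc7 yc31 zc19) (kc xc17 yc19 zc27) (kc xc17 yc21 zc60) (kc xc9 yc15 zc60) (kc xc9 yc47 zc58) (kc xc11 yc45 zc6) (kc xc11 yc45 zc5) (kc xc11 yc30 zc60) (kc xc12 yc12 zc59) (kc xc9 yc21 zc38) (kc xc19 yc28 zc49) (kc xc18 yc50 zc29)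 (kc xc7 yc31 zc38) (kc xc12 yc10 zc44) (kc xc7 yc31 zc39) (kc xc22 yc15 zc54)) (@D3.rec (fun _ => Pt) (kc xc22 yc15 zc55) (kc xc7 yc31 zc42) (kc xc23 yc47 zc23) (kc xc23 yc47 zc22) (kc xc19 yc48 zc39) (kc xc7 yc31 zc43) (kc xc19 yc36 zc5) (kc xc23 yc47 zc28) (kc xc7 yc31 zc44) (kc xc23 yc47 zc33) (kc xc21 yc42 zc12) (kc xc17 yc13 zc38) (kc xc12 yc1 zc45) (kc xc12 yc1 zc46) (kc xc23 yc47 zc30) (kc xc9 yc32 zc49) (kc xc7 yc31 zc49) (kc xc23 yc47 zc35) (kc xc19 yc53 zc7) (kc xc12 yc31 zc61) (kc xc12 yc32 zc1) (kc xc7 yc31 zc51) (kc xc7 yc31 zc55) (kc xc9 yc57 zc58) (kc xc23 yc47 zc40) (kc xc7 yc31 zc57) (kc xc23 yc47 zc41) (kc xc18 yc13 zc23) (kc xc12 yc15 zc2) (kc xc7 yc31 zc61) (kc xc18 yc11 zc3) (kc xc7 yc32 zc0) (kc xc23 yc47 zc43) (kc xc11 yc45 zc57) (kc xc13 yc16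 zc31) (kc xc7 yc32 zc3) (kc xc12 yc44 zc26) (kc xc23 yc47 zc48) (kc xc12 yc43 zc53) (kc xc21 yc14 zc25) (kc xc23 yc47 zc51) (kc xc18 yc25 zc23) (kc xc7 yc32 zc5) (kc xc12 yc28 zc2) (kc xc22 yc32 zc47) (kc xc23 yc40 zc53) (kc xc23 yc47 zc57) (kc xc13 yc55 zc56) (kc xc23 yc47 zc60) (kc xc14 yc6 zc46) (kc xc13 yc0 zc52) (kc xc7 yc35 zc53) (kc xc17 yc4 zc50) (kc xc7 yc32 zc14) (kc xc14 yc10 zc55) (kc xc23 yc48 zc5) (kc xc23 yc48 zc2) (kc xc23 yc48 zc7) (kc xc23 yc48 zc9) (kc xc23 yc40 zc21) (kc xc23 yc48 zc12) (kc xc23 yc48 zc14)) (@D3.rec (fun _ => Pt) (kc xc7 yc32 zc17) (kc xc23 yc48 zc20) (kc xc23 yc48 zc23) (kc xc12 yc28 zc43) (kc xc23 yc48 zc25) (kc xc21 yc6 zc56) (kc xc22 yc37 zc37) (kc xc22 yc37 zc38) (kc xc7 yc32 zc21) (kc xc23 yc48 zc32) (kc xc23 yc48 zc34) (kc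 xc22 yc39 zc60) (kc xc23 yc48 zc18) (kc xc7 yc32 zc25) (kc xc23 yc48 zc42) (kc xc13 yc4 zc50) (kc xc7 yc32 zc28) (kc xc13 yc14 zc52) (kc xc13 yc14 zc53) (kc xc17 yc17 zc26) (kc xc22 yc38 zc30) (kc xc23 yc48 zc54) (kc xc23 yc48 zc56) (kc xc7 yc32 zc30) (kc xc23 yc48 zc60) (kc xc22 yc15 zc26) (kc xc7 yc32 zc34) (kc xc14 yc48 zc17) (kc xc15 yc50 zc43) (kc xc19 yc26 zc11) (kc xc13 yc4 zc49) (kc xc7 yc32 zc39) (kc xc23 yc49 zc0) (kc xc23 yc48 zc61) (kc xc15 yc39 zc8) (kc xc23 yc49 zc7) (kc xc10 yc12 zc46) (kc xc10 yc41 zc46) (kc xc10 yc25 zc37) (kc xc17 yc4 zc15) (kc xc12 yc14 zc20) (kc xc23 yc49 zc10) (kc xc20 yc58 zc30) (kc xc17 yc4 zc14) (kc xc21 yc52 zc45) (kc xc7 yc32 zc48) (kc xc23 yc49 zc17) (kc xc7 yc32 zc50) (kc xc23 yc49 zc19) (kc xc13 yc1 zc15) (kc xc12 yc45 zc18)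 (kc xc7 yc32 zc52) (kc xc12 yc23 zc23) (kc xc23 yc49 zc26) (kc xc23 yc49 zc23) (kc xc23 yc49 zc29) (kc xc17 yc21 zc25) (kc xc23 yc49 zc32) (kc xc7 yc44 zc33) (kc xc7 yc45 zc12) (kc xc7 yc45 zc13) (kc xc7 yc32 zc55)) (@D3.rec (fun _ => Pt) (kc xc14 yc37 zc17) (kc xc16 yc49 zc17) (kc xc21 yc38 zc58) (kc xc18 yc13 zc36) (kc xc21 yc40 zc34) (kc xc21 yc44 zc0) (kc xc23 yc49 zc46) (kc xc7 yc32 zc60) (kc xc23 yc49 zc48) (kc xc23 yc49 zc50) (kc xc7 yc32 zc59) (kc xc23 yc49 zc55) (kc xc14 yc30 zc16) (kc xc14 yc34 zc52) (kc xc18 yc42 zc53) (kc xc23 yc34 zc29) (kc xc7 yc32 zc61) (kc xc23 yc50 zc1) (kc xc21 yc51 zc21) (kc xc23 yc50 zc4) (kc xc7 yc33 zc2) (kc xc7 yc33 zc1) (kc xc23 yc50 zc6) (kc xc18 yc30 zc56) (kc xc7 yc33 zc3) (kc xc21 yc45 zc55) (kc xc23 yc50 zc11) (kc xc23 yc50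 zc15) (kc xc7 yc33 zc4) (kc xc23 yc50 zc17) (kc xc7 yc44 zc5) (kc xc7 yc44 zc6) (kc xc21 yc41 zc11) (kc xc7 yc33 zc7) (kc xc23 yc50 zc26) (kc xc23 yc50 zc27) (kc xc14 yc28 zc15) (kc xc23 yc50 zc29) (kc xc23 yc50 zc30) (kc xc7 yc33 zc9) (kc xc23 yc50 zc35) (kc xc23 yc14 zc44) (kc xc23 yc50 zc40) (kc xc23 yc50 zc33) (kc xc7 yc33 zc13) (kc xc23 yc50 zc48) (kc xc9 yc52 zc49) (kc xc23 yc50 zc46) (kc xc23 yc50 zc51) (kc xc23 yc50 zc52) (kc xc22 yc43 zc53) (kc xc7 yc33 zc16) (kc xc23 yc50 zc56) (kc xc16 yc4 zc7) (kc xc16 yc4 zc57) (kc xc23 yc50 zc54) (kc xc7 yc33 zc19) (kc xc23 yc34 zc14) (kc xc23 yc34 zc15) (kc xc23 yc51 zc12) (kc xc23 yc51 zc6) (kc xc7 yc33 zc20)) (@D3.rec (fun _ => Pt) (kc xc23 yc51 zc14) (kc xc7 yc33 zc21) (kc xc7 yc55 zc23) (kc xc23 yc51 zc17) (kc xc23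 yc51 zc16) (kc xc7 yc33 zc24) (kc xc23 yc51 zc30) (kc xc10 yc8 zc24) (kc xc23 yc51 zc34) (kc xc23 yc51 zc28) (kc xc7 yc33 zc25) (kc xc23 yc51 zc40) (kc xc23 yc51 zc38) (kc xc7 yc33 zc28) (kc xc14 yc59 zc10) (kc xc23 yc51 zc52) (kc xc23 yc51 zc50) (kc xc22 yc23 zc33) (kc xc14 yc15 zc38) (kc xc13 yc4 zc39) (kc xc8 yc45 zc1) (kc xc10 yc25 zc52) (kc xc13 yc54 zc55) (kc xc7 yc33 zc34) (kc xc18 yc45 zc13) (kc xc23 yc51 zc59) (kc xc23 yc51 zc61) (kc xc7 yc33 zc35) (kc xc13 yc4 zc51) (kc xc23 yc52 zc5) (kc xc23 yc52 zc6) (kc xc13 yc4 zc52) (kc xc7 yc33 zc38) (kc xc23 yc52 zc10) (kc xc23 yc52 zc14) (kc xc12 yc58 zc60) (kc xc13 yc9 zc41) (kc xc23 yc52 zc17) (kc xc14 yc15 zc18) (kc xc7 yc33 zc43) (kc xc7 yc33 zc48) (kc xc23 yc52 zc23) (kc xc15 yc4 zc60) (kc xc7 yc33 zc49) (kc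 xc18 yc59 zc56) (kc xc23 yc52 zc26) (kc xc16 yc10 zc26) (kc xc23 yc52 zc28) (kc xc7 yc33 zc50) (kc xc21 yc28 zc2) (kc xc7 yc33 zc51) (kc xc23 yc52 zc30) (kc xc11 yc27 zc54) (kc xc11 yc31 zc19) (kc xc18 yc42 zc15) (kc xc20 yc9 zc49) (kc xc7 yc33 zc56) (kc xc7 yc33 zc57) (kc xc23 yc52 zc38) (kc xc14 yc7 zc23) (kc xc14 yc6 zc58) (kc xc23 yc52 zc44)) (@D3.rec (fun _ => Pt) (kc xc13 yc25 zc19) (kc xc7 yc33 zc60) (kc xc22 yc12 zc30) (kc xc23 yc52 zc47) (kc xc23 yc52 zc49) (kc xc7 yc34 zc0) (kc xc23 yc52 zc55) (kc xc7 yc34 zc3) (kc xc14 yc34 zc50) (kc xc7 yc34 zc6) (kc xc23 yc53 zc0) (kc xc23 yc52 zc61) (kc xc23 yc53 zc2) (kc xc23 yc53 zc4) (kc xc7 yc34 zc12) (kc xc23 yc53 zc6) (kc xc7 yc34 zc9) (kc xc23 yc53 zc9) (kc xc7 yc34 zc10) (kc xc23 yc53 zc13) (kc xc23 yc53 zc12)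 (kc xc23 yc53 zc17) (kc xc23 yc53 zc19) (kc xc7 yc34 zc11) (kc xc23 yc53 zc21) (kc xc22 yc58 zc35) (kc xc22 yc22 zc14) (kc xc7 yc34 zc14) (kc xc23 yc53 zc28) (kc xc7 yc34 zc16) (kc xc23 yc53 zc33) (kc xc23 yc11 zc45) (kc xc7 yc34 zc18) (kc xc23 yc53 zc40) (kc xc7 yc34 zc19) (kc xc19 yc42 zc58) (kc xc23 yc53 zc46) (kc xc22 yc58 zc54) (kc xc23 yc53 zc50) (kc xc18 yc42 zc45) (kc xc17 yc57 zc51) (kc xc23 yc53 zc55) (kc xc23 yc53 zc57) (kc xc23 yc5 zc61) (kc xc7 yc34 zc23) (kc xc20 yc11 zc41) (kc xc14 yc31 zc48) (kc xc18 yc24 zc1) (kc xc10 yc27 zc3) (kc xc21 yc44 zc22) (kc xc7 yc34 zc25) (kc xc23 yc54 zc1) (kc xc21 yc44 zc29) (kc xc10 yc13 zc46) (kc xc23 yc54 zc6) (kc xc7 yc34 zc28) (kc xc7 yc34 zc27) (kc xc21 yc7 zc55) (kc xc23 yc54 zc10) (kc xc14 yc36 zc40) (kc xc23 yc54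 zc13) (kc xc21 yc47 zc46)) (@D3.rec (fun _ => Pt) (kc xc22 yc57 zc53) (kc xc23 yc54 zc19) (kc xc22 yc57 zc56) (kc xc23 yc54 zc24) (kc xc14 yc8 zc52) (kc xc23 yc54 zc27) (kc xc7 yc34 zc33) (kc xc23 yc54 zc32) (kc xc16 yc4 zc51) (kc xc13 yc45 zc23) (kc xc13 yc45 zc24) (kc xc22 yc33 zc49) (kc xc7 yc34 zc36) (kc xc23 yc54 zc40) (kc xc23 yc54 zc42) (kc xc13 yc52 zc1) (kc xc23 yc54 zc44) (kc xc23 yc54 zc46) (kc xc7 yc34 zc38) (kc xc23 yc54 zc50) (kc xc23 yc54 zc55) (kc xc23 yc14 zc49) (kc xc22 yc31 zc6) (kc xc23 yc54 zc56) (kc xc7 yc34 zc41) (kc xc13 yc29 zc8) (kc xc13 yc29 zc9) (kc xc22 yc33 zc59) (kc xc23 yc55 zc0) (kc xc7 yc34 zc43) (kc xc23 yc55 zc4) (kc xc13 yc36 zc18) (kc xc13 yc36 zc19) (kc xc23 yc55 zc13) (kc xc22 yc33 zc53) (kc xc13 yc46 zc46) (kc xc7 yc34 zc45)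 (kc xc23 yc55 zc17) (kc xc23 yc55 zc19) (kc xc13 yc4 zc1) (kc xc23 yc55 zc20) (kc xc7 yc34 zc49) (kc xc11 yc47 zc21) (kc xc7 yc34 zc53) (kc xc23 yc55 zc23) (kc xc23 yc55 zc26) (kc xc11 yc32 zc17) (kc xc23 yc55 zc22) (kc xc14 yc2 zc53) (kc xc18 yc25 zc50) (kc xc23 yc55 zc31) (kc xc12 yc41 zc18) (kc xc23 yc55 zc35) (kc xc23 yc55 zc38) (kc xc12 yc41 zc21) (kc xc14 yc30 zc15) (kc xc7 yc34 zc59) (kc xc19 yc35 zc19) (kc xc23 yc55 zc44) (kc xc7 yc35 zc0) (kc xc23 yc55 zc46) (kc xc14 yc30 zc26)) (@D3.rec (fun _ => Pt) (kc xc23 yc55 zc52) (kc xc14 yc30 zc28) (kc xc23 yc55 zc56) (kc xc7 yc35 zc5) (kc xc23 yc55 zc59) (kc xc14 yc18 zc5) (kc xc23 yc56 zc1) (kc xc13 yc8 zc8) (kc xc23 yc56 zc4) (kc xc7 yc35 zc9) (kc xc22 yc22 zc27) (kc xc23 yc56 zc12) (kc xc12 yc39 zc41) (kc xc23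 yc56 zc14) (kc xc12 yc39 zc43) (kc xc14 yc31 zc47) (kc xc7 yc35 zc12) (kc xc23 yc56 zc19) (kc xc22 yc47 zc25) (kc xc13 yc39 zc60) (kc xc13 yc43 zc54) (kc xc7 yc35 zc15) (kc xc8 yc47 zc44) (kc xc7 yc35 zc17) (kc xc23 yc56 zc22) (kc xc13 yc9 zc55) (kc xc14 yc31 zc61) (kc xc8 yc48 zc40) (kc xc14 yc32 zc0) (kc xc7 yc35 zc49) (kc xc23 yc56 zc6) (kc xc7 yc39 zc12) (kc xc19 yc19 zc20) (kc xc11 yc57 zc1) (kc xc7 yc41 zc61) (kc xc7 yc42 zc0) (kc xc23 yc56 zc32) (kc xc13 yc8 zc4) (kc xc13 yc32 zc59) (kc xc18 yc1 zc53) (kc xc23 yc56 zc33) (kc xc23 yc56 zc35) (kc xc23 yc56 zc36) (kc xc7 yc35 zc27) (kc xc23 yc56 zc40) (kc xc12 yc14 zc10) (kc xc18 yc22 zc31) (kc xc23 yc56 zc43) (kc xc21 yc35 zc30) (kc xc19 yc35 zc24) (kc xc19 yc35 zc23) (kc xc7 yc35 zc31) (kc xc23 yc56 zc50) (kc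 xc20 yc41 zc35) (kc xc9 yc24 zc4) (kc xc7 yc35 zc35) (kc xc12 yc32 zc50) (kc xc13 yc8 zc47) (kc xc7 yc35 zc38) (kc xc23 yc56 zc54) (kc xc23 yc56 zc55) (kc xc7 yc35 zc41)) (@D3.rec (fun _ => Pt) (kc xc15 yc31 zc55) (kc xc18 yc57 zc4) (kc xc7 yc35 zc42) (kc xc23 yc56 zc58) (kc xc14 yc47 zc60) (kc xc7 yc35 zc43) (kc xc23 yc57 zc1) (kc xc23 yc57 zc0) (kc xc23 yc57 zc3) (kc xc23 yc57 zc5) (kc xc7 yc35 zc44) (kc xc23 yc57 zc8) (kc xc23 yc57 zc11) (kc xc21 yc35 zc4) (kc xc23 yc57 zc14) (kc xc23 yc56 zc17) (kc xc23 yc56 zc18) (kc xc15 yc31 zc49) (kc xc22 yc22 zc61) (kc xc14 yc51 zc20) (kc xc13 yc8 zc48) (kc xc7 yc51 zc34) (kc xc21 yc3 zc12) (kc xc13 yc8 zc53) (kc xc13 yc8 zc54) (kc xc23 yc57 zc22) (kc xc14 yc24 zc41) (kc xc14 yc23 zc9) (kc xc23 yc57 zc24) (kc xc7 yc35 zc58)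 (kc xc23 yc57 zc26) (kc xc8 yc12 zc47) (kc xc23 yc57 zc28) (kc xc7 yc35 zc57) (kc xc23 yc57 zc33) (kc xc7 yc39 zc11) (kc xc21 yc16 zc9) (kc xc7 yc39 zc15) (kc xc7 yc39 zc16) (kc xc22 yc58 zc2) (kc xc13 yc28 zc18) (kc xc22 yc19 zc59) (kc xc23 yc57 zc45) (kc xc7 yc36 zc3) (kc xc20 yc34 zc11) (kc xc10 yc34 zc40) (kc xc13 yc1 zc40) (kc xc23 yc57 zc48) (kc xc7 yc36 zc2) (kc xc23 yc57 zc52) (kc xc8 yc49 zc39) (kc xc12 yc48 zc58) (kc xc12 yc48 zc59) (kc xc21 yc11 zc16) (kc xc19 yc27 zc53) (kc xc13 yc30 zc23) (kc xc7 yc36 zc6) (kc xc23 yc57 zc58) (kc xc7 yc51 zc39) (kc xc9 yc8 zc50) (kc xc9 yc8 zc49) (kc xc7 yc36 zc8)) (@D3.rec (fun _ => Pt) (kc xc9 yc48 zc17) (kc xc7 yc36 zc10) (kc xc23 yc58 zc0) (kc xc11 yc30 zc55) (kc xc7 yc36 zc12) (kc xc18 yc23 zc19) (kc xc19 yc22 zc7)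 (kc xc13 yc1 zc35) (kc xc17 yc22 zc26) (kc xc23 yc58 zc6) (kc xc17 yc19 zc20) (kc xc7 yc49 zc60) (kc xc7 yc49 zc61) (kc xc16 yc53 zc47) (kc xc14 yc20 zc21) (kc xc20 yc26 zc50) (kc xc7 yc36 zc20) (kc xc18 yc23 zc33) (kc xc17 yc22 zc45) (kc xc7 yc36 zc21) (kc xc20 yc22 zc29) (kc xc14 yc20 zc14) (kc xc20 yc18 zc52) (kc xc7 yc36 zc22) (kc xc15 yc26 zc52) (kc xc13 yc53 zc13) (kc xc7 yc51 zc38) (kc xc23 yc58 zc19) (kc xc14 yc54 zc13) (kc xc14 yc22 zc6) (kc xc7 yc36 zc27) (kc xc11 yc33 zc26) (kc xc16 yc32 zc43) (kc xc7 yc47 zc57) (kc xc13 yc30 zc24) (kc xc13 yc24 zc1) (kc xc7 yc36 zc30) (kc xc23 yc58 zc26) (kc xc7 yc36 zc31) (kc xc10 yc43 zc13) (kc xc23 yc58 zc30) (kc xc7 yc36 zc32) (kc xc10 yc48 zc31) (kc xc17 yc1 zc37) (kc xc17 yc1 zc36) (kc xc7 yc37 zc4) (kc xc9 yc6 zc0)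 (kc xc7 yc36 zc38) (kc xc23 yc58 zc40) (kc xc7 yc36 zc37) (kc xc23 yc40 zc6) (kc xc21 yc35 zc33) (kc xc21 yc41 zc58) (kc xc12 yc42 zc23) (kc xc17 yc5 zc10) (kc xc23 yc58 zc47) (kc xc21 yc22 zc6) (kc xc23 yc58 zc49) (kc xc7 yc36 zc42) (kc xc7 yc36 zc41) (kc xc23 yc58 zc54) (kc xc12 yc14 zc44)) (@D3.rec (fun _ => Pt) (kc xc23 yc58 zc58) (kc xc21 yc42 zc39) (kc xc7 yc36 zc43) (kc xc21 yc45 zc58) (kc xc19 yc54 zc40) (kc xc23 yc59 zc0) (kc xc7 yc36 zc44) (kc xc15 yc44 zc50) (kc xc22 yc33 zc32) (kc xc17 yc28 zc48) (kc xc23 yc58 zc13) (kc xc23 yc59 zc17) (kc xc7 yc36 zc46) (kc xc22 yc39 zc15) (kc xc17 yc35 zc40) (kc xc13 yc12 zc35) (kc xc22 yc59 zc4) (kc xc7 yc36 zc50) (kc xc23 yc59 zc19) (kc xc7 yc36 zc52) (kc xc21 yc24 zc28) (kc xc19 yc48 zc28) (kc xc7 yc36 zc53) (kc xc21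 yc18 zc8) (kc xc13 yc26 zc2) (kc xc12 yc34 zc24) (kc xc22 yc58 zc18) (kc xc22 yc45 zc34) (kc xc21 yc32 zc30) (kc xc21 yc56 zc21) (kc xc21 yc2 zc11) (kc xc21 yc40 zc49) (kc xc21 yc40 zc48) (kc xc7 yc37 zc1) (kc xc23 yc59 zc30) (kc xc23 yc59 zc33) (kc xc23 yc59 zc29) (kc xc23 yc59 zc35) (kc xc22 yc33 zc0) (kc xc23 yc59 zc38) (kc xc22 yc33 zc5) (kc xc9 yc10 zc47) (kc xc9 yc9 zc12) (kc xc21 yc36 zc30) (kc xc19 yc56 zc45) (kc xc13 yc9 zc43) (kc xc7 yc37 zc16) (kc xc13 yc53 zc14) (kc xc7 yc54 zc6) (kc xc23 yc59 zc46) (kc xc13 yc53 zc60) (kc xc14 yc2 zc28) (kc xc22 yc23 zc16) (kc xc23 yc59 zc50) (kc xc23 yc59 zc51) (kc xc23 yc59 zc53) (kc xc7 yc37 zc11) (kc xc19 yc42 zc1) (kc xc23 yc59 zc59) (kc xc14 yc38 zc39) (kc xc24 yc0 zc3) (kc xc14 yc38 zc41)) (@D3.rec (fun _ => Pt)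 (kc xc23 yc59 zc55) (kc xc7 yc37 zc15) (kc xc8 yc20 zc49) (kc xc14 yc38 zc46) (kc xc16 yc6 zc41) (kc xc20 yc52 zc3) (kc xc14 yc20 zc29) (kc xc20 yc35 zc28) (kc xc24 yc0 zc14) (kc xc13 yc11 zc41) (kc xc24 yc0 zc15) (kc xc24 yc0 zc16) (kc xc7 yc37 zc19) (kc xc10 yc7 zc26) (kc xc24 yc0 zc20) (kc xc7 yc37 zc22) (kc xc10 yc39 zc40) (kc xc10 yc39 zc41) (kc xc23 yc33 zc56) (kc xc19 yc18 zc39) (kc xc24 yc0 zc30) (kc xc7 yc47 zc1) (kc xc24 yc0 zc32) (kc xc14 yc47 zc61) (kc xc19 yc26 zc13) (kc xc19 yc26 zc16) (kc xc13 yc10 zc35) (kc xc15 yc59 zc27) (kc xc15 yc59 zc26) (kc xc19 yc25 zc5) (kc xc15 yc41 zc1) (kc xc24 yc0 zc38) (kc xc7 yc37 zc31) (kc xc24 yc0 zc41) (kc xc7 yc37 zc33) (kc xc22 yc54 zc50) (kc xc7 yc37 zc34) (kc xc24 yc0 zc45) (kc xc20 yc25 zc47) (kc xc24 yc0 zc50)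 (kc xc20 yc34 zc24) (kc xc24 yc0 zc52) (kc xc13 yc41 zc53) (kc xc13 yc41 zc34) (kc xc22 yc24 zc59) (kc xc13 yc40 zc47) (kc xc7 yc37 zc47) (kc xc24 yc0 zc59) (kc xc24 yc0 zc57) (kc xc7 yc37 zc48) (kc xc16 yc37 zc48) (kc xc24 yc1 zc2) (kc xc24 yc1 zc4) (kc xc7 yc37 zc49) (kc xc22 yc24 zc58) (kc xc24 yc1 zc7) (kc xc22 yc26 zc13) (kc xc24 yc1 zc5) (kc xc7 yc37 zc53) (kc xc24 yc1 zc15) (kc xc8 yc51 zc52) (kc xc24 yc1 zc18)) (@D3.rec (fun _ => Pt) (kc xc24 yc1 zc19) (kc xc24 yc1 zc21) (kc xc24 yc1 zc23) (kc xc7 yc37 zc59) (kc xc24 yc1 zc26) (kc xc7 yc38 zc0) (kc xc17 yc0 zc46) (kc xc24 yc1 zc31) (kc xc7 yc38 zc1) (kc xc14 yc19 zc27) (kc xc11 yc4 zc21) (kc xc7 yc47 zc51) (kc xc12 yc31 zc19) (kc xc24 yc1 zc36) (kc xc9 yc17 zc1) (kc xc24 yc1 zc39) (kc xc16 yc43 zc20) (kc xc8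 yc29 zc18) (kc xc7 yc38 zc9) (kc xc13 yc45 zc43) (kc xc7 yc38 zc11) (kc xc19 yc8 zc39) (kc xc22 yc26 zc57) (kc xc16 yc43 zc21) (kc xc7 yc38 zc13) (kc xc24 yc1 zc49) (kc xc24 yc1 zc51) (kc xc7 yc47 zc50) (kc xc12 yc35 zc55) (kc xc7 yc38 zc17) (kc xc21 yc20 zc46) (kc xc21 yc41 zc5) (kc xc24 yc1 zc61) (kc xc12 yc1 zc13) (kc xc11 yc42 zc25) (kc xc24 yc2 zc3) (kc xc12 yc2 zc29) (kc xc24 yc2 zc5) (kc xc12 yc2 zc31) (kc xc24 yc2 zc8) (kc xc24 yc2 zc10) (kc xc7 yc38 zc20) (kc xc24 yc2 zc14) (kc xc17 yc22 zc54) (kc xc7 yc38 zc23) (kc xc11 yc28 zc37) (kc xc9 yc25 zc14) (kc xc20 yc28 zc6) (kc xc11 yc27 zc1) (kc xc18 yc22 zc34) (kc xc24 yc2 zc20) (kc xc7 yc38 zc26) (kc xc24 yc2 zc24) (kc xc10 yc14 zc6) (kc xc24 yc2 zc29) (kc xc7 yc38 zc29) (kc xc24 yc2 zc32) (kc xc24 yc2 zc34)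 (kc xc7 yc38 zc28) (kc xc24 yc2 zc38) (kc xc12 yc14 zc12) (kc xc18 yc26 zc8)) (@D3.rec (fun _ => Pt) (kc xc9 yc10 zc20) (kc xc24 yc2 zc41) (kc xc7 yc38 zc30) (kc xc24 yc2 zc47) (kc xc24 yc2 zc44) (kc xc15 yc30 zc43) (kc xc24 yc2 zc53) (kc xc7 yc38 zc33) (kc xc7 yc38 zc32) (kc xc24 yc2 zc60) (kc xc21 yc35 zc31) (kc xc24 yc3 zc1) (kc xc24 yc2 zc57) (kc xc20 yc58 zc8) (kc xc7 yc38 zc34) (kc xc24 yc3 zc4) (kc xc24 yc3 zc6) (kc xc7 yc38 zc35) (kc xc24 yc3 zc9) (kc xc7 yc41 zc40) (kc xc7 yc41 zc41) (kc xc24 yc3 zc18) (kc xc7 yc38 zc38) (kc xc24 yc3 zc20) (kc xc24 yc3 zc21) (kc xc24 yc3 zc23) (kc xc24 yc3 zc25) (kc xc7 yc38 zc40) (kc xc24 yc3 zc29) (kc xc22 yc42 zc2) (kc xc23 yc46 zc15) (kc xc7 yc38 zc42) (kc xc24 yc3 zc33) (kc xc24 yc3 zc27) (kc xc7 yc38 zc44) (kc xc24 yc3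 zc39) (kc xc24 yc3 zc38) (kc xc7 yc38 zc45) (kc xc24 yc3 zc41) (kc xc7 yc38 zc46) (kc xc24 yc3 zc43) (kc xc14 yc19 zc26) (kc xc24 yc3 zc46) (kc xc7 yc38 zc49) (kc xc24 yc3 zc48) (kc xc24 yc3 zc50) (kc xc7 yc38 zc48) (kc xc24 yc3 zc56) (kc xc24 yc3 zc61) (kc xc24 yc3 zc54) (kc xc7 yc38 zc51) (kc xc22 yc8 zc24) (kc xc23 yc47 zc31) (kc xc23 yc47 zc27) (kc xc24 yc4 zc5) (kc xc7 yc38 zc52) (kc xc24 yc4 zc11) (kc xc7 yc38 zc53) (kc xc24 yc4 zc16) (kc xc24 yc4 zc14) (kc xc7 yc38 zc55) (kc xc23 yc9 zc46)) (@D3.rec (fun _ => Pt) (kc xc23 yc9 zc47) (kc xc24 yc4 zc26) (kc xc24 yc4 zc29) (kc xc7 yc38 zc56) (kc xc24 yc4 zc34) (kc xc24 yc4 zc32) (kc xc7 yc38 zc58) (kc xc23 yc11 zc19) (kc xc23 yc11 zc20) (kc xc24 yc4 zc44) (kc xc24 yc4 zc46) (kc xc17 yc1 zc48) (kc xc7 yc38 zc61) (kc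 xc23 yc59 zc58) (kc xc14 yc29 zc13) (kc xc7 yc39 zc1) (kc xc24 yc4 zc56) (kc xc24 yc4 zc51) (kc xc7 yc39 zc3) (kc xc24 yc5 zc4) (kc xc24 yc5 zc6) (kc xc24 yc5 zc2) (kc xc13 yc36 zc31) (kc xc24 yc5 zc9) (kc xc11 yc22 zc60) (kc xc7 yc39 zc7) (kc xc24 yc5 zc15) (kc xc24 yc5 zc19) (kc xc23 yc47 zc8) (kc xc24 yc5 zc13) (kc xc7 yc39 zc8) (kc xc24 yc5 zc25) (kc xc22 yc34 zc16) (kc xc22 yc54 zc8) (kc xc9 yc39 zc19) (kc xc17 yc1 zc18) (kc xc24 yc5 zc27) (kc xc24 yc5 zc29) (kc xc23 yc57 zc39) (kc xc22 yc59 zc21) (kc xc24 yc5 zc33) (kc xc7 yc39 zc17) (kc xc7 yc39 zc18) (kc xc22 yc22 zc25) (kc xc15 yc57 zc59) (kc xc24 yc5 zc35) (kc xc23 yc19 zc42) (kc xc24 yc5 zc44) (kc xc7 yc40 zc39) (kc xc12 yc48 zc0) (kc xc12 yc47 zc59) (kc xc12 yc29 zc38) (kc xc24 yc5 zc46) (kc xc7 yc39 zc25)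 (kc xc24 yc5 zc51) (kc xc24 yc5 zc53) (kc xc7 yc39 zc27) (kc xc24 yc5 zc55) (kc xc7 yc39 zc30) (kc xc24 yc5 zc58) (kc xc20 yc34 zc22) (kc xc24 yc5 zc60)) (@D3.rec (fun _ => Pt) (kc xc22 yc6 zc58) (kc xc7 yc50 zc61) (kc xc24 yc6 zc0) (kc xc22 yc7 zc7) (kc xc13 yc34 zc43) (kc xc7 yc39 zc32) (kc xc13 yc41 zc23) (kc xc7 yc39 zc38) (kc xc22 yc29 zc49) (kc xc12 yc9 zc55) (kc xc21 yc40 zc5) (kc xc20 yc27 zc10) (kc xc23 yc53 zc3) (kc xc7 yc39 zc44) (kc xc10 yc27 zc29) (kc xc7 yc39 zc41) (kc xc24 yc6 zc16) (kc xc7 yc39 zc42) (kc xc17 yc34 zc6) (kc xc20 yc26 zc52) (kc xc22 yc6 zc57) (kc xc17 yc34 zc12) (kc xc7 yc39 zc43) (kc xc24 yc6 zc24) (kc xc22 yc55 zc14) (kc xc24 yc6 zc28) (kc xc24 yc6 zc30) (kc xc7 yc39 zc46) (kc xc23 yc53 zc42) (kc xc7 yc39 zc47) (kc xc20 yc28 zc38) (kc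 xc22 yc58 zc40) (kc xc7 yc39 zc49) (kc xc22 yc54 zc5) (kc xc23 yc4 zc33) (kc xc7 yc39 zc50) (kc xc13 yc34 zc40) (kc xc23 yc57 zc40) (kc xc23 yc57 zc41) (kc xc7 yc40 zc22) (kc xc24 yc6 zc60) (kc xc7 yc39 zc52) (kc xc16 yc29 zc27) (kc xc21 yc28 zc47) (kc xc17 yc57 zc52) (kc xc24 yc7 zc9) (kc xc7 yc39 zc56) (kc xc24 yc7 zc12) (kc xc24 yc7 zc14) (kc xc7 yc39 zc55) (kc xc24 yc7 zc17) (kc xc21 yc49 zc60) (kc xc21 yc42 zc42) (kc xc24 yc7 zc19) (kc xc21 yc30 zc11) (kc xc7 yc39 zc57) (kc xc24 yc7 zc27) (kc xc24 yc7 zc24) (kc xc24 yc7 zc23) (kc xc24 yc7 zc32) (kc xc7 yc39 zc60) (kc xc7 yc39 zc59)) (@D3.rec (fun _ => Pt) (kc xc24 yc7 zc35) (kc xc21 yc35 zc8) (kc xc23 yc58 zc41) (kc xc22 yc37 zc5) (kc xc24 yc7 zc37) (kc xc7 yc39 zc61) (kc xc24 yc7 zc40) (kc xc20 yc36 zc38) (kc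 xc7 yc40 zc0) (kc xc24 yc7 zc45) (kc xc7 yc42 zc28) (kc xc7 yc42 zc29) (kc xc17 yc32 zc17) (kc xc24 yc7 zc56) (kc xc7 yc40 zc2) (kc xc19 yc35 zc20) (kc xc8 yc49 zc30) (kc xc11 yc37 zc27) (kc xc11 yc37 zc26) (kc xc11 yc32 zc35) (kc xc7 yc53 zc0) (kc xc7 yc52 zc61) (kc xc7 yc40 zc6) (kc xc22 yc57 zc24) (kc xc22 yc57 zc25) (kc xc24 yc8 zc7) (kc xc7 yc40 zc7) (kc xc22 yc47 zc34) (kc xc13 yc43 zc53) (kc xc13 yc43 zc52) (kc xc22 yc22 zc35) (kc xc22 yc22 zc42) (kc xc22 yc55 zc54) (kc xc16 yc30 zc30) (kc xc12 yc8 zc2) (kc xc7 yc40 zc12) (kc xc22 yc55 zc2) (kc xc22 yc55 zc3) (kc xc24 yc8 zc22) (kc xc8 yc49 zc31) (kc xc13 yc36 zc35) (kc xc20 yc1 zc59) (kc xc7 yc40 zc16) (kc xc18 yc2 zc5) (kc xc24 yc8 zc33) (kc xc19 yc13 zc4) (kc xc24 yc8 zc30) (kc xc20 yc37 zc14) (kc xc20 yc37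 zc7) (kc xc7 yc40 zc19) (kc xc21 yc34 zc47) (kc xc22 yc9 zc17) (kc xc24 yc8 zc41) (kc xc15 yc41 zc5) (kc xc7 yc40 zc30) (kc xc7 yc42 zc32) (kc xc20 yc37 zc20) (kc xc7 yc40 zc28) (kc xc7 yc42 zc34) (kc xc22 yc6 zc49) (kc xc22 yc6 zc50) (kc xc24 yc6 zc55)) (@D3.rec (fun _ => Pt) (kc xc24 yc6 zc57) (kc xc7 yc40 zc24) (kc xc24 yc8 zc57) (kc xc24 yc8 zc59) (kc xc24 yc8 zc61) (kc xc24 yc9 zc1) (kc xc7 yc40 zc25) (kc xc24 yc9 zc6) (kc xc24 yc9 zc11) (kc xc24 yc9 zc14) (kc xc22 yc55 zc4) (kc xc24 yc8 zc48) (kc xc24 yc9 zc18) (kc xc14 yc28 zc13) (kc xc24 yc8 zc44) (kc xc14 yc14 zc36) (kc xc14 yc52 zc8) (kc xc22 yc53 zc25) (kc xc20 yc28 zc43) (kc xc13 yc44 zc9) (kc xc13 yc44 zc10) (kc xc22 yc53 zc26) (kc xc23 yc10 zc50) (kc xc22 yc34 zc10) (kc xc7 yc40 zc37) (kc xc24 yc9 zc31)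 (kc xc24 yc9 zc30) (kc xc7 yc40 zc38) (kc xc19 yc9 zc19) (kc xc7 yc40 zc40) (kc xc19 yc9 zc14) (kc xc24 yc8 zc25) (kc xc24 yc9 zc37) (kc xc24 yc9 zc40) (kc xc22 yc54 zc54) (kc xc22 yc48 zc16) (kc xc13 yc7 zc53) (kc xc13 yc7 zc52) (kc xc17 yc18 zc18) (kc xc13 yc12 zc27) (kc xc13 yc12 zc26) (kc xc22 yc0 zc13) (kc xc7 yc40 zc51) (kc xc17 yc4 zc48) (kc xc24 yc9 zc52) (kc xc12 yc16 zc26) (kc xc24 yc9 zc54) (kc xc13 yc54 zc8) (kc xc23 yc46 zc1) (kc xc7 yc40 zc50) (kc xc24 yc9 zc61) (kc xc11 yc35 zc57) (kc xc24 yc10 zc2) (kc xc11 yc0 zc61) (kc xc13 yc7 zc54) (kc xc13 yc7 zc55) (kc xc21 yc54 zc10) (kc xc10 yc0 zc33) (kc xc12 yc17 zc57) (kc xc12 yc35 zc10) (kc xc7 yc40 zc60) (kc xc24 yc10 zc8)) (@D3.rec (fun _ => Pt) (kc xc7 yc40 zc61) (kc xc24 yc10 zc11) (kc xc24 yc10 zc10)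 (kc xc19 yc56 zc37) (kc xc7 yc41 zc0) (kc xc23 yc1 zc3) (kc xc12 yc10 zc36) (kc xc7 yc41 zc3) (kc xc13 yc22 zc14) (kc xc13 yc22 zc13) (kc xc22 yc22 zc3) (kc xc14 yc42 zc35) (kc xc14 yc29 zc30) (kc xc14 yc25 zc14) (kc xc22 yc21 zc55) (kc xc7 yc41 zc27) (kc xc14 yc52 zc42) (kc xc13 yc5 zc14) (kc xc9 yc15 zc59) (kc xc21 yc8 zc32) (kc xc11 yc36 zc13) (kc xc21 yc8 zc31) (kc xc18 yc38 zc24) (kc xc16 yc16 zc37) (kc xc21 yc8 zc37) (kc xc7 yc41 zc14) (kc xc21 yc45 zc18) (kc xc13 yc9 zc16) (kc xc24 yc10 zc36) (kc xc7 yc41 zc19) (kc xc14 yc29 zc12) (kc xc7 yc41 zc18) (kc xc18 yc49 zc37) (kc xc7 yc41 zc20) (kc xc24 yc10 zc38) (kc xc22 yc27 zc13) (kc xc24 yc3 zc24) (kc xc7 yc41 zc23) (kc xc7 yc41 zc22) (kc xc24 yc10 zc47) (kc xc24 yc10 zc51) (kc xc24 yc10 zc46) (kc xc14 yc37 zc47)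 (kc xc24 yc10 zc53) (kc xc7 yc41 zc25) (kc xc14 yc39 zc53) (kc xc7 yc41 zc48) (kc xc22 yc41 zc16) (kc xc9 yc21 zc1) (kc xc9 yc21 zc2) (kc xc16 yc56 zc26) (kc xc7 yc41 zc29) (kc xc17 yc18 zc8) (kc xc17 yc18 zc7) (kc xc24 yc10 zc61) (kc xc17 yc1 zc24) (kc xc24 yc11 zc1) (kc xc21 yc45 zc43) (kc xc24 yc11 zc3) (kc xc21 yc45 zc46) (kc xc23 yc48 zc29) (kc xc7 yc41 zc32)) (@D3.rec (fun _ => Pt) (kc xc24 yc11 zc6) (kc xc20 yc52 zc55) (kc xc20 yc3 zc35) (kc xc7 yc41 zc35) (kc xc19 yc44 zc30) (kc xc21 yc47 zc45) (kc xc21 yc47 zc26) (kc xc7 yc41 zc38) (kc xc24 yc11 zc11) (kc xc21 yc47 zc53) (kc xc16 yc33 zc15) (kc xc19 yc41 zc27) (kc xc15 yc32 zc20) (kc xc24 yc11 zc14) (kc xc24 yc3 zc15) (kc xc14 yc17 zc55) (kc xc14 yc14 zc12) (kc xc24 yc10 zc35) (kc xc24 yc11 zc27) (kc xc7 yc41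 zc43) (kc xc24 yc11 zc29) (kc xc7 yc41 zc44) (kc xc24 yc11 zc33) (kc xc24 yc11 zc37) (kc xc23 yc9 zc48) (kc xc24 yc11 zc42) (kc xc14 yc17 zc61) (kc xc24 yc11 zc48) (kc xc14 yc18 zc1) (kc xc14 yc47 zc17) (kc xc14 yc40 zc13) (kc xc23 yc1 zc1) (kc xc23 yc33 zc13) (kc xc7 yc41 zc50) (kc xc15 yc15 zc5) (kc xc15 yc15 zc6) (kc xc24 yc11 zc61) (kc xc7 yc41 zc52) (kc xc7 yc41 zc55) (kc xc9 yc49 zc45) (kc xc11 yc53 zc7) (kc xc24 yc12 zc2) (kc xc17 yc31 zc28) (kc xc24 yc12 zc4) (kc xc16 yc36 zc42) (kc xc7 yc41 zc58) (kc xc19 yc19 zc18) (kc xc24 yc12 zc8) (kc xc24 yc12 zc9) (kc xc24 yc12 zc11) (kc xc24 yc12 zc13) (kc xc24 yc12 zc15) (kc xc7 yc42 zc1) (kc xc24 yc12 zc19) (kc xc24 yc12 zc22) (kc xc11 yc25 zc36) (kc xc24 yc12 zc23) (kc xc24 yc12 zc25) (kc xc7 yc42 zc6) (kc xc24 yc12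 zc29) (kc xc11 yc41 zc41) (kc xc24 yc5 zc57)) (@D3.rec (fun _ => Pt) (kc xc24 yc12 zc34) (kc xc11 yc20 zc11) (kc xc15 yc0 zc47) (kc xc20 yc46 zc3) (kc xc24 yc12 zc38) (kc xc24 yc12 zc40) (kc xc7 yc42 zc12) (kc xc24 yc12 zc43) (kc xc24 yc12 zc46) (kc xc18 yc12 zc19) (kc xc7 yc42 zc15) (kc xc24 yc12 zc51) (kc xc7 yc42 zc16) (kc xc23 yc8 zc37) (kc xc24 yc12 zc55) (kc xc7 yc42 zc17) (kc xc24 yc12 zc58) (kc xc24 yc6 zc3) (kc xc7 yc42 zc19) (kc xc13 yc21 zc43) (kc xc24 yc13 zc3) (kc xc24 yc8 zc12) (kc xc7 yc42 zc20) (kc xc13 yc21 zc44) (kc xc24 yc13 zc10) (kc xc22 yc20 zc0) (kc xc22 yc20 zc1) (kc xc7 yc42 zc37) (kc xc24 yc13 zc26) (kc xc7 yc42 zc22) (kc xc24 yc13 zc29) (kc xc19 yc24 zc32) (kc xc24 yc13 zc32) (kc xc7 yc42 zc23) (kc xc12 yc0 zc27) (kc xc21 yc45 zc54) (kc xc21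 yc35 zc10) (kc xc7 yc42 zc25) (kc xc19 yc27 zc3) (kc xc11 yc1 zc25) (kc xc7 yc42 zc26) (kc xc24 yc13 zc35) (kc xc21 yc35 zc7) (kc xc12 yc14 zc46) (kc xc24 yc7 zc48) (kc xc19 yc27 zc11) (kc xc24 yc7 zc51) (kc xc14 yc18 zc15) (kc xc14 yc16 zc46) (kc xc24 yc12 zc42) (kc xc7 yc42 zc31) (kc xc24 yc13 zc46) (kc xc24 yc13 zc48) (kc xc24 yc13 zc50) (kc xc24 yc13 zc53) (kc xc22 yc10 zc54) (kc xc7 yc42 zc33) (kc xc24 yc13 zc57) (kc xc22 yc9 zc34) (kc xc22 yc9 zc30) (kc xc22 yc10 zc52) (kc xc14 yc18 zc26)) (@D3.rec (fun _ => Pt) (kc xc14 yc18 zc28) (kc xc24 yc14 zc7) (kc xc24 yc14 zc11) (kc xc24 yc13 zc21) (kc xc24 yc13 zc23) (kc xc7 yc42 zc39) (kc xc15 yc15 zc8) (kc xc19 yc35 zc18) (kc xc7 yc42 zc40) (kc xc18 yc50 zc48) (kc xc13 yc14 zc22) (kc xc24 yc14 zc22) (kc xc22 yc29 zc8)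 (kc xc19 yc34 zc39) (kc xc7 yc42 zc44) (kc xc10 yc27 zc28) (kc xc20 yc34 zc26) (kc xc24 yc14 zc32) (kc xc24 yc14 zc25) (kc xc7 yc42 zc45) (kc xc24 yc14 zc35) (kc xc23 yc46 zc16) (kc xc13 yc32 zc58) (kc xc17 yc7 zc5) (kc xc22 yc47 zc30) (kc xc24 yc14 zc40) (kc xc24 yc14 zc41) (kc xc7 yc42 zc47) (kc xc20 yc25 zc1) (kc xc7 yc42 zc49) (kc xc17 yc50 zc19) (kc xc7 yc42 zc51) (kc xc24 yc14 zc48) (kc xc24 yc14 zc44) (kc xc7 yc49 zc33) (kc xc24 yc14 zc54) (kc xc21 yc45 zc35) (kc xc24 yc14 zc56) (kc xc7 yc42 zc55) (kc xc24 yc15 zc0) (kc xc23 yc41 zc47) (kc xc24 yc15 zc3) (kc xc7 yc42 zc60) (kc xc19 yc19 zc31) (kc xc24 yc15 zc5) (kc xc7 yc42 zc61) (kc xc24 yc15 zc8) (kc xc24 yc15 zc11) (kc xc7 yc43 zc0) (kc xc24 yc15 zc14) (kc xc13 yc7 zc57) (kc xc13 yc3 zc60) (kc xc9 yc48 zc39)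 (kc xc7 yc43 zc2) (kc xc9 yc48 zc45) (kc xc13 yc17 zc42) (kc xc7 yc43 zc4) (kc xc9 yc50 zc3) (kc xc21 yc35 zc2) (kc xc17 yc47 zc27) (kc xc12 yc37 zc39) (kc xc24 yc15 zc27)) (@D3.rec (fun _ => Pt) (kc xc24 yc15 zc29) (kc xc24 yc15 zc30) (kc xc7 yc43 zc6) (kc xc24 yc15 zc32) (kc xc21 yc38 zc12) (kc xc14 yc6 zc49) (kc xc17 yc15 zc47) (kc xc7 yc44 zc26) (kc xc17 yc8 zc13) (kc xc17 yc8 zc12) (kc xc20 yc37 zc48) (kc xc7 yc44 zc30) (kc xc12 yc50 zc6) (kc xc17 yc32 zc30) (kc xc11 yc58 zc5) (kc xc18 yc43 zc17) (kc xc18 yc50 zc46) (kc xc12 yc38 zc57) (kc xc7 yc43 zc17) (kc xc24 yc15 zc35) (kc xc21 yc42 zc29) (kc xc17 yc59 zc61) (kc xc19 yc42 zc56) (kc xc19 yc46 zc43) (kc xc24 yc15 zc42) (kc xc7 yc43 zc19) (kc xc24 yc15 zc44) (kc xc19 yc24 zc59) (kc xc24 yc15 zc49) (kc xc9 yc30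 zc8) (kc xc24 yc15 zc50) (kc xc19 yc46 zc45) (kc xc7 yc43 zc23) (kc xc24 yc15 zc52) (kc xc24 yc15 zc56) (kc xc24 yc15 zc58) (kc xc7 yc43 zc25) (kc xc24 yc15 zc61) (kc xc20 yc48 zc61) (kc xc11 yc41 zc4) (kc xc7 yc45 zc14) (kc xc21 yc3 zc13) (kc xc7 yc43 zc27) (kc xc24 yc16 zc12) (kc xc7 yc43 zc28) (kc xc24 yc16 zc13) (kc xc24 yc16 zc14) (kc xc13 yc30 zc3) (kc xc24 yc16 zc15) (kc xc7 yc43 zc30) (kc xc24 yc16 zc20) (kc xc23 yc46 zc14) (kc xc23 yc47 zc55) (kc xc7 yc43 zc32) (kc xc24 yc16 zc21) (kc xc7 yc43 zc33) (kc xc24 yc16 zc26) (kc xc13 yc5 zc61) (kc xc14 yc6 zc0) (kc xc24 yc16 zc18) (kc xc7 yc43 zc35) (kc xc24 yc16 zc34)) (@D3.rec (fun _ => Pt) (kc xc24 yc16 zc35) (kc xc20 yc14 zc9) (kc xc20 yc15 zc27) (kc xc7 yc43 zc36) (kc xc24 yc16 zc39) (kc xc16 yc36 zc54) (kc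 xc24 yc0 zc18) (kc xc24 yc0 zc19) (kc xc7 yc43 zc39) (kc xc16 yc36 zc50) (kc xc24 yc16 zc42) (kc xc7 yc43 zc41) (kc xc19 yc19 zc32) (kc xc24 yc16 zc46) (kc xc7 yc43 zc42) (kc xc24 yc16 zc51) (kc xc14 yc5 zc61) (kc xc24 yc16 zc49) (kc xc7 yc50 zc27) (kc xc7 yc43 zc44) (kc xc19 yc24 zc61) (kc xc24 yc17 zc3) (kc xc24 yc17 zc1) (kc xc24 yc17 zc6) (kc xc7 yc43 zc45) (kc xc24 yc17 zc10) (kc xc24 yc17 zc8) (kc xc7 yc53 zc45) (kc xc7 yc43 zc47) (kc xc24 yc17 zc20) (kc xc24 yc17 zc22) (kc xc19 yc36 zc0) (kc xc8 yc27 zc0) (kc xc7 yc51 zc5) (kc xc17 yc35 zc38) (kc xc24 yc17 zc27) (kc xc7 yc53 zc43) (kc xc23 yc19 zc19) (kc xc24 yc17 zc35) (kc xc24 yc17 zc40) (kc xc7 yc46 zc34) (kc xc24 yc17 zc46) (kc xc7 yc46 zc36) (kc xc13 yc58 zc9) (kc xc7 yc43 zc53) (kc xc23 yc9 zc43) (kc xc23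 yc9 zc42) (kc xc12 yc42 zc15) (kc xc24 yc17 zc60) (kc xc17 yc6 zc22) (kc xc14 yc16 zc8) (kc xc7 yc45 zc22) (kc xc14 yc14 zc13) (kc xc11 yc44 zc10) (kc xc11 yc44 zc5) (kc xc24 yc18 zc4) (kc xc7 yc44 zc0) (kc xc23 yc6 zc49) (kc xc12 yc16 zc43) (kc xc20 yc52 zc46) (kc xc7 yc43 zc60) (kc xc23 yc6 zc48)) (@D3.rec (fun _ => Pt) (kc xc18 yc59 zc17) (kc xc24 yc18 zc9) (kc xc7 yc43 zc61) (kc xc19 yc1 zc56) (kc xc7 yc44 zc1) (kc xc19 yc50 zc58) (kc xc20 yc33 zc1) (kc xc17 yc30 zc30) (kc xc24 yc18 zc17) (kc xc7 yc44 zc2) (kc xc16 yc17 zc52) (kc xc7 yc44 zc4) (kc xc15 yc11 zc14) (kc xc24 yc18 zc21) (kc xc21 yc7 zc52) (kc xc21 yc4 zc33) (kc xc13 yc18 zc34) (kc xc13 yc18 zc35) (kc xc19 yc2 zc4) (kc xc21 yc52 zc19) (kc xc7 yc44 zc8) (kc xc19 yc1 zc59) (kc xc11 yc29 zc29) (kc xc24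 yc18 zc36) (kc xc17 yc20 zc49) (kc xc24 yc7 zc54) (kc xc17 yc31 zc48) (kc xc10 yc27 zc6) (kc xc24 yc7 zc52) (kc xc17 yc32 zc15) (kc xc24 yc18 zc42) (kc xc24 yc18 zc44) (kc xc7 yc44 zc12) (kc xc15 yc32 zc49) (kc xc24 yc18 zc49) (kc xc10 yc26 zc8) (kc xc7 yc44 zc14) (kc xc24 yc18 zc52) (kc xc21 yc20 zc17) (kc xc7 yc44 zc16) (kc xc22 yc48 zc51) (kc xc24 yc18 zc56) (kc xc23 yc11 zc55) (kc xc24 yc18 zc57) (kc xc23 yc11 zc56) (kc xc8 yc0 zc33) (kc xc12 yc12 zc34) (kc xc11 yc26 zc18) (kc xc9 yc12 zc51) (kc xc12 yc12 zc35) (kc xc21 yc30 zc54) (kc xc24 yc19 zc1) (kc xc9 yc13 zc3) (kc xc9 yc13 zc56) (kc xc9 yc13 zc55) (kc xc24 yc19 zc6) (kc xc21 yc23 zc3) (kc xc11 yc29 zc54) (kc xc7 yc44 zc27) (kc xc24 yc19 zc8) (kc xc9 yc31 zc36) (kc xc21 yc50 zc42)) (@D3.rec (fun _ => Pt) (kc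 xc24 yc19 zc12) (kc xc24 yc19 zc13) (kc xc7 yc44 zc29) (kc xc24 yc19 zc19) (kc xc24 yc19 zc21) (kc xc24 yc19 zc22) (kc xc7 yc44 zc31) (kc xc19 yc11 zc38) (kc xc7 yc44 zc52) (kc xc24 yc19 zc26) (kc xc7 yc44 zc34) (kc xc24 yc19 zc29) (kc xc7 yc44 zc35) (kc xc19 yc22 zc18) (kc xc7 yc44 zc36) (kc xc21 yc41 zc44) (kc xc20 yc51 zc45) (kc xc24 yc19 zc17) (kc xc23 yc59 zc18) (kc xc7 yc44 zc38) (kc xc24 yc19 zc42) (kc xc21 yc59 zc40) (kc xc22 yc3 zc14) (kc xc11 yc46 zc51) (kc xc16 yc18 zc1) (kc xc7 yc44 zc43) (kc xc12 yc50 zc57) (kc xc7 yc44 zc42) (kc xc20 yc48 zc37) (kc xc12 yc38 zc14) (kc xc9 yc59 zc29) (kc xc24 yc19 zc54) (kc xc17 yc13 zc48) (kc xc24 yc19 zc55) (kc xc21 yc19 zc39) (kc xc24 yc19 zc58) (kc xc21 yc42 zc50) (kc xc24 yc19 zc61) (kc xc24 yc20 zc1) (kc xc7 yc44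 zc46) (kc xc14 yc16 zc59) (kc xc21 yc7 zc58) (kc xc7 yc44 zc54) (kc xc13 yc2 zc25) (kc xc7 yc44 zc48) (kc xc7 yc44 zc49) (kc xc23 yc56 zc15) (kc xc14 yc43 zc45) (kc xc20 yc48 zc40) (kc xc24 yc19 zc41) (kc xc7 yc44 zc51) (kc xc24 yc20 zc14) (kc xc24 yc20 zc15) (kc xc22 yc13 zc61) (kc xc24 yc20 zc13) (kc xc24 yc20 zc16) (kc xc7 yc44 zc53) (kc xc15 yc22 zc39) (kc xc9 yc6 zc2) (kc xc7 yc44 zc58) (kc xc20 yc44 zc42) (kc xc14 yc4 zc41)) (@D3.rec (fun _ => Pt) (kc xc24 yc20 zc21) (kc xc12 yc57 zc54) (kc xc7 yc44 zc59) (kc xc10 yc36 zc37) (kc xc24 yc20 zc23) (kc xc7 yc45 zc3) (kc xc24 yc19 zc40) (kc xc7 yc45 zc0) (kc xc24 yc20 zc28) (kc xc24 yc20 zc31) (kc xc24 yc20 zc27) (kc xc7 yc45 zc2) (kc xc24 yc2 zc35) (kc xc24 yc20 zc35) (kc xc7 yc45 zc4) (kc xc24 yc20 zc42) (kc xc24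 yc20 zc41) (kc xc14 yc14 zc0) (kc xc13 yc17 zc44) (kc xc24 yc20 zc39) (kc xc19 yc28 zc10) (kc xc7 yc45 zc7) (kc xc7 yc45 zc6) (kc xc24 yc20 zc58) (kc xc24 yc20 zc60) (kc xc24 yc20 zc56) (kc xc16 yc13 zc24) (kc xc19 yc28 zc11) (kc xc7 yc45 zc11) (kc xc7 yc45 zc10) (kc xc21 yc56 zc24) (kc xc15 yc46 zc52) (kc xc15 yc44 zc49) (kc xc20 yc58 zc59) (kc xc24 yc19 zc33) (kc xc23 yc12 zc39) (kc xc24 yc19 zc25) (kc xc24 yc19 zc31) (kc xc19 yc51 zc60) (kc xc24 yc21 zc12) (kc xc24 yc21 zc15) (kc xc24 yc16 zc8) (kc xc16 yc10 zc24) (kc xc24 yc16 zc9) (kc xc24 yc19 zc28) (kc xc7 yc45 zc15) (kc xc24 yc21 zc18) (kc xc14 yc29 zc42) (kc xc7 yc45 zc17) (kc xc24 yc21 zc19) (kc xc7 yc45 zc18) (kc xc7 yc46 zc48) (kc xc8 yc48 zc3) (kc xc22 yc26 zc35) (kc xc24 yc21 zc24) (kc xc7 yc45 zc21) (kc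 xc24 yc21 zc28) (kc xc24 yc21 zc33) (kc xc8 yc51 zc13) (kc xc7 yc45 zc26) (kc xc7 yc45 zc25) (kc xc10 yc36 zc36)) (@D3.rec (fun _ => Pt) (kc xc24 yc7 zc15) (kc xc21 yc52 zc44) (kc xc7 yc45 zc27) (kc xc24 yc21 zc37) (kc xc24 yc21 zc39) (kc xc7 yc45 zc28) (kc xc24 yc9 zc51) (kc xc22 yc0 zc5) (kc xc22 yc1 zc18) (kc xc13 yc11 zc13) (kc xc21 yc53 zc5) (kc xc18 yc2 zc24) (kc xc16 yc32 zc3) (kc xc14 yc48 zc33) (kc xc23 yc4 zc24) (kc xc7 yc45 zc43) (kc xc12 yc46 zc48) (kc xc24 yc21 zc54) (kc xc12 yc47 zc45) (kc xc7 yc45 zc53) (kc xc7 yc45 zc39) (kc xc24 yc21 zc60) (kc xc7 yc45 zc40) (kc xc23 yc35 zc32) (kc xc7 yc45 zc41) (kc xc16 yc24 zc39) (kc xc7 yc45 zc42) (kc xc7 yc45 zc46) (kc xc21 yc11 zc34) (kc xc24 yc22 zc5) (kc xc7 yc47 zc45) (kc xc7 yc45 zc48) (kc xc24 yc22 zc11)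 (kc xc24 yc22 zc13) (kc xc24 yc22 zc10) (kc xc24 yc16 zc25) (kc xc7 yc47 zc44) (kc xc7 yc45 zc50) (kc xc24 yc22 zc23) (kc xc14 yc21 zc59) (kc xc24 yc22 zc27) (kc xc14 yc21 zc61) (kc xc24 yc22 zc31) (kc xc24 yc22 zc33) (kc xc24 yc21 zc57) (kc xc24 yc21 zc58) (kc xc14 yc22 zc3) (kc xc7 yc45 zc58) (kc xc7 yc45 zc55) (kc xc24 yc10 zc3) (kc xc7 yc45 zc56) (kc xc16 yc7 zc3) (kc xc24 yc22 zc39) (kc xc14 yc44 zc43) (kc xc24 yc22 zc42) (kc xc7 yc45 zc57) (kc xc16 yc3 zc12) (kc xc17 yc15 zc29) (kc xc7 yc45 zc60) (kc xc19 yc19 zc28) (kc xc22 yc26 zc59) (kc xc14 yc41 zc38)) (@D3.rec (fun _ => Pt) (kc xc19 yc19 zc15) (kc xc16 yc40 zc29) (kc xc16 yc40 zc27) (kc xc7 yc46 zc2) (kc xc24 yc22 zc48) (kc xc22 yc57 zc57) (kc xc17 yc51 zc56) (kc xc14 yc1 zc0) (kc xc21 yc54 zc20) (kc xc21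 yc54 zc21) (kc xc22 yc35 zc41) (kc xc21 yc55 zc15) (kc xc24 yc22 zc61) (kc xc24 yc23 zc0) (kc xc20 yc53 zc0) (kc xc24 yc23 zc1) (kc xc24 yc23 zc3) (kc xc23 yc21 zc31) (kc xc7 yc46 zc17) (kc xc12 yc56 zc23) (kc xc7 yc46 zc14) (kc xc24 yc23 zc5) (kc xc7 yc46 zc15) (kc xc15 yc40 zc61) (kc xc24 yc23 zc8) (kc xc22 yc9 zc23) (kc xc7 yc46 zc16) (kc xc24 yc23 zc11) (kc xc20 yc27 zc27) (kc xc10 yc28 zc41) (kc xc22 yc32 zc28) (kc xc22 yc32 zc29) (kc xc15 yc22 zc20) (kc xc24 yc23 zc17) (kc xc24 yc23 zc19) (kc xc24 yc23 zc21) (kc xc14 yc51 zc51) (kc xc7 yc46 zc27) (kc xc7 yc46 zc24) (kc xc14 yc40 zc32) (kc xc24 yc23 zc24) (kc xc7 yc46 zc25) (kc xc22 yc35 zc25) (kc xc13 yc22 zc17) (kc xc24 yc23 zc28) (kc xc7 yc46 zc26) (kc xc24 yc23 zc30) (kc xc20 yc23 zc59) (kc xc24 yc23 zc31)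 (kc xc7 yc46 zc28) (kc xc24 yc23 zc34) (kc xc23 yc19 zc55) (kc xc22 yc41 zc7) (kc xc14 yc29 zc45) (kc xc24 yc23 zc42) (kc xc7 yc46 zc30) (kc xc24 yc23 zc46) (kc xc24 yc23 zc51) (kc xc22 yc41 zc28) (kc xc24 yc17 zc33) (kc xc24 yc23 zc53) (kc xc24 yc23 zc55)) (@D3.rec (fun _ => Pt) (kc xc7 yc46 zc32) (kc xc24 yc24 zc0) (kc xc19 yc24 zc41) (kc xc24 yc23 zc61) (kc xc24 yc24 zc4) (kc xc7 yc46 zc33) (kc xc24 yc24 zc8) (kc xc24 yc24 zc7) (kc xc20 yc25 zc43) (kc xc8 yc1 zc19) (kc xc8 yc1 zc18) (kc xc7 yc46 zc35) (kc xc24 yc24 zc12) (kc xc14 yc30 zc30) (kc xc22 yc40 zc25) (kc xc22 yc32 zc22) (kc xc23 yc59 zc48) (kc xc23 yc59 zc49) (kc xc23 yc58 zc50) (kc xc7 yc46 zc39) (kc xc22 yc58 zc39) (kc xc24 yc24 zc21) (kc xc7 yc46 zc40) (kc xc24 yc24 zc24) (kc xc24 yc24 zc27) (kc xc24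 yc24 zc29) (kc xc7 yc46 zc41) (kc xc13 yc12 zc20) (kc xc24 yc2 zc61) (kc xc24 yc24 zc39) (kc xc7 yc46 zc43) (kc xc24 yc21 zc26) (kc xc14 yc39 zc39) (kc xc22 yc24 zc12) (kc xc7 yc46 zc45) (kc xc22 yc24 zc13) (kc xc7 yc46 zc46) (kc xc13 yc27 zc14) (kc xc24 yc24 zc51) (kc xc24 yc24 zc53) (kc xc23 yc7 zc34) (kc xc21 yc52 zc35) (kc xc16 yc40 zc22) (kc xc16 yc40 zc19) (kc xc7 yc46 zc50) (kc xc24 yc24 zc60) (kc xc24 yc24 zc59) (kc xc7 yc46 zc52) (kc xc24 yc25 zc6) (kc xc24 yc25 zc8) (kc xc24 yc25 zc5) (kc xc7 yc46 zc53) (kc xc22 yc38 zc24) (kc xc13 yc23 zc5) (kc xc13 yc53 zc57) (kc xc22 yc26 zc12) (kc xc16 yc41 zc4) (kc xc16 yc41 zc0) (kc xc7 yc48 zc42) (kc xc7 yc46 zc58) (kc xc24 yc25 zc19) (kc xc20 yc48 zc12)) (@D3.rec (fun _ => Pt) (kc xc24 yc9 zc57) (kc xc24 yc25 zc23)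 (kc xc22 yc40 zc59) (kc xc21 yc52 zc29) (kc xc7 yc48 zc40) (kc xc22 yc32 zc57) (kc xc24 yc25 zc33) (kc xc24 yc25 zc35) (kc xc13 yc12 zc18) (kc xc19 yc43 zc21) (kc xc13 yc47 zc25) (kc xc13 yc13 zc0) (kc xc24 yc25 zc43) (kc xc24 yc25 zc45) (kc xc7 yc47 zc19) (kc xc24 yc25 zc47) (kc xc24 yc25 zc49) (kc xc7 yc47 zc3) (kc xc21 yc40 zc13) (kc xc22 yc58 zc16) (kc xc24 yc25 zc53) (kc xc7 yc47 zc5) (kc xc24 yc25 zc56) (kc xc22 yc15 zc4) (kc xc7 yc47 zc52) (kc xc24 yc25 zc60) (kc xc7 yc47 zc8) (kc xc24 yc26 zc1) (kc xc15 yc50 zc4) (kc xc24 yc26 zc4) (kc xc24 yc26 zc6) (kc xc20 yc43 zc22) (kc xc24 yc26 zc9) (kc xc7 yc47 zc12) (kc xc23 yc34 zc37) (kc xc22 yc39 zc13) (kc xc22 yc39 zc14) (kc xc14 yc48 zc26) (kc xc14 yc38 zc61) (kc xc24 yc26 zc19) (kc xc7 yc47 zc17) (kc xc7 yc47 zc18)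 (kc xc24 yc26 zc24) (kc xc9 yc22 zc24) (kc xc7 yc47 zc20) (kc xc20 yc56 zc60) (kc xc10 yc57 zc28) (kc xc7 yc47 zc21) (kc xc21 yc40 zc26) (kc xc24 yc26 zc34) (kc xc24 yc14 zc61) (kc xc12 yc46 zc59) (kc xc7 yc47 zc34) (kc xc24 yc26 zc46) (kc xc7 yc47 zc23) (kc xc24 yc26 zc50) (kc xc24 yc26 zc52) (kc xc10 yc21 zc59) (kc xc24 yc26 zc49) (kc xc13 yc12 zc57) (kc xc24 yc26 zc54) (kc xc17 yc11 zc8)) (@D3.rec (fun _ => Pt) (kc xc7 yc47 zc26) (kc xc24 yc26 zc57) (kc xc7 yc47 zc27) (kc xc24 yc26 zc61) (kc xc15 yc20 zc50) (kc xc7 yc47 zc29) (kc xc24 yc22 zc7) (kc xc24 yc22 zc8) (kc xc24 yc27 zc6) (kc xc24 yc27 zc12) (kc xc7 yc47 zc30) (kc xc13 yc25 zc12) (kc xc24 yc27 zc19) (kc xc24 yc27 zc17) (kc xc7 yc47 zc33) (kc xc24 yc22 zc18) (kc xc24 yc22 zc19) (kc xc24 yc27 zc29) (kc xc24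 yc27 zc35) (kc xc24 yc27 zc37) (kc xc24 yc26 zc43) (kc xc8 yc59 zc14) (kc xc7 yc47 zc39) (kc xc24 yc27 zc43) (kc xc7 yc47 zc36) (kc xc8 yc34 zc24) (kc xc24 yc27 zc47) (kc xc16 yc4 zc47) (kc xc13 yc54 zc11) (kc xc14 yc48 zc29) (kc xc8 yc33 zc8) (kc xc15 yc43 zc40) (kc xc7 yc47 zc38) (kc xc15 yc46 zc15) (kc xc16 yc52 zc26) (kc xc14 yc29 zc11) (kc xc24 yc26 zc55) (kc xc24 yc8 zc19) (kc xc17 yc1 zc5) (kc xc24 yc22 zc6) (kc xc21 yc14 zc17) (kc xc20 yc6 zc29) (kc xc14 yc44 zc48) (kc xc24 yc28 zc1) (kc xc22 yc38 zc10) (kc xc23 yc23 zc21) (kc xc14 yc55 zc1) (kc xc11 yc15 zc18) (kc xc22 yc38 zc8) (kc xc18 yc46 zc53) (kc xc22 yc20 zc7) (kc xc18 yc46 zc54) (kc xc13 yc35 zc41) (kc xc24 yc28 zc10) (kc xc24 yc28 zc12) (kc xc24 yc28 zc13) (kc xc18 yc59 zc10) (kc xc7 yc48 zc7) (kc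 xc8 yc44 zc54) (kc xc24 yc28 zc17) (kc xc7 yc47 zc59) (kc xc24 yc28 zc21)) (@D3.rec (fun _ => Pt) (kc xc23 yc58 zc24) (kc xc22 yc58 zc55) (kc xc24 yc28 zc24) (kc xc22 yc28 zc61) (kc xc24 yc28 zc26) (kc xc22 yc28 zc60) (kc xc24 yc28 zc19) (kc xc7 yc48 zc2) (kc xc18 yc50 zc12) (kc xc10 yc13 zc16) (kc xc22 yc22 zc41) (kc xc24 yc28 zc31) (kc xc7 yc48 zc25) (kc xc7 yc48 zc5) (kc xc13 yc40 zc11) (kc xc7 yc48 zc6) (kc xc15 yc51 zc3) (kc xc24 yc28 zc37) (kc xc7 yc48 zc8) (kc xc24 yc28 zc40) (kc xc20 yc33 zc49) (kc xc7 yc48 zc9) (kc xc24 yc28 zc44) (kc xc19 yc18 zc59) (kc xc19 yc4 zc44) (kc xc7 yc48 zc15) (kc xc18 yc59 zc9) (kc xc24 yc28 zc56) (kc xc24 yc28 zc59) (kc xc24 yc29 zc1) (kc xc15 yc51 zc2) (kc xc24 yc29 zc3) (kc xc7 yc48 zc13) (kc xc24 yc29 zc9) (kc xc16 yc46 zc50)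 (kc xc24 yc29 zc12) (kc xc24 yc28 zc51) (kc xc19 yc41 zc11) (kc xc24 yc29 zc17) (kc xc7 yc48 zc20) (kc xc7 yc48 zc17) (kc xc24 yc29 zc21) (kc xc16 yc9 zc59) (kc xc15 yc20 zc44) (kc xc7 yc48 zc18) (kc xc14 yc36 zc47) (kc xc24 yc29 zc27) (kc xc24 yc29 zc29) (kc xc7 yc48 zc19) (kc xc24 yc29 zc33) (kc xc24 yc29 zc7) (kc xc10 yc7 zc43) (kc xc14 yc48 zc28) (kc xc7 yc48 zc23) (kc xc17 yc53 zc42) (kc xc10 yc49 zc45) (kc xc16 yc3 zc11) (kc xc8 yc21 zc27) (kc xc22 yc24 zc38) (kc xc22 yc24 zc37) (kc xc7 yc48 zc28) (kc xc24 yc29 zc44)) (@D3.rec (fun _ => Pt) (kc xc24 yc29 zc49) (kc xc22 yc23 zc61) (kc xc7 yc48 zc30) (kc xc24 yc29 zc52) (kc xc19 yc32 zc8) (kc xc7 yc48 zc31) (kc xc24 yc29 zc42) (kc xc7 yc48 zc33) (kc xc24 yc10 zc31) (kc xc17 yc26 zc33) (kc xc19 yc12 zc49) (kc xc24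 yc29 zc60) (kc xc24 yc30 zc9) (kc xc24 yc30 zc10) (kc xc7 yc48 zc35) (kc xc24 yc30 zc14) (kc xc21 yc52 zc27) (kc xc7 yc48 zc37) (kc xc24 yc30 zc25) (kc xc24 yc30 zc28) (kc xc24 yc30 zc23) (kc xc7 yc48 zc39) (kc xc24 yc30 zc29) (kc xc12 yc7 zc8) (kc xc24 yc25 zc29) (kc xc20 yc50 zc61) (kc xc13 yc39 zc18) (kc xc20 yc27 zc51) (kc xc11 yc45 zc60) (kc xc7 yc48 zc44) (kc xc20 yc11 zc52) (kc xc20 yc11 zc51) (kc xc24 yc30 zc37) (kc xc7 yc48 zc47) (kc xc12 yc51 zc28) (kc xc24 yc30 zc45) (kc xc24 yc30 zc48) (kc xc24 yc30 zc43) (kc xc22 yc1 zc56) (kc xc21 yc50 zc39) (kc xc17 yc38 zc8) (kc xc24 yc30 zc53) (kc xc21 yc25 zc8) (kc xc14 yc38 zc53) (kc xc7 yc48 zc54) (kc xc14 yc3 zc35) (kc xc7 yc48 zc55) (kc xc24 yc30 zc55) (kc xc14 yc42 zc42) (kc xc7 yc48 zc58) (kc xc24 yc30 zc59)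 (kc xc21 yc38 zc18) (kc xc23 yc20 zc48) (kc xc23 yc20 zc49) (kc xc24 yc31 zc6) (kc xc21 yc56 zc10) (kc xc7 yc48 zc61) (kc xc7 yc49 zc0) (kc xc23 yc36 zc49) (kc xc7 yc49 zc1) (kc xc24 yc31 zc9) (kc xc23 yc32 zc32)) (@D3.rec (fun _ => Pt) (kc xc7 yc49 zc3) (kc xc23 yc15 zc50) (kc xc21 yc56 zc19) (kc xc21 yc56 zc20) (kc xc18 yc23 zc2) (kc xc13 yc39 zc14) (kc xc7 yc49 zc5) (kc xc7 yc49 zc6) (kc xc24 yc31 zc21) (kc xc14 yc55 zc5) (kc xc24 yc31 zc22) (kc xc7 yc49 zc8) (kc xc21 yc56 zc7) (kc xc21 yc56 zc8) (kc xc21 yc6 zc28) (kc xc7 yc49 zc11) (kc xc13 yc13 zc42) (kc xc14 yc0 zc51) (kc xc7 yc49 zc13) (kc xc24 yc31 zc28) (kc xc7 yc49 zc16) (kc xc7 yc49 zc15) (kc xc24 yc31 zc39) (kc xc24 yc31 zc40) (kc xc24 yc31 zc38) (kc xc24 yc31 zc43) (kc xc24 yc31 zc46) (kc xc24 yc31 zc33)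 (kc xc24 yc31 zc34) (kc xc22 yc30 zc27) (kc xc7 yc49 zc20) (kc xc11 yc34 zc23) (kc xc7 yc49 zc18) (kc xc17 yc23 zc0) (kc xc18 yc30 zc4) (kc xc7 yc49 zc19) (kc xc24 yc31 zc52) (kc xc18 yc40 zc54) (kc xc7 yc49 zc22) (kc xc21 yc31 zc1) (kc xc7 yc49 zc23) (kc xc24 yc31 zc54) (kc xc7 yc49 zc24) (kc xc24 yc31 zc58) (kc xc24 yc31 zc57) (kc xc24 yc31 zc61) (kc xc24 yc32 zc1) (kc xc7 yc49 zc25) (kc xc20 yc39 zc20) (kc xc18 yc37 zc54) (kc xc24 yc32 zc5) (kc xc7 yc49 zc29) (kc xc21 yc55 zc12) (kc xc7 yc49 zc31) (kc xc24 yc32 zc8) (kc xc24 yc32 zc12) (kc xc24 yc14 zc53) (kc xc13 yc9 zc46) (kc xc24 yc32 zc3) (kc xc23 yc13 zc1) (kc xc19 yc8 zc28) (kc xc7 yc49 zc37)) (@D3.rec (fun _ => Pt) (kc xc20 yc13 zc51) (kc xc7 yc49 zc38) (kc xc24 yc32 zc17) (kc xc14 yc1 zc22) (kc xc13 yc46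 zc5) (kc xc7 yc49 zc42) (kc xc8 yc49 zc22) (kc xc24 yc32 zc21) (kc xc14 yc10 zc20) (kc xc22 yc19 zc8) (kc xc13 yc7 zc41) (kc xc7 yc49 zc45) (kc xc24 yc32 zc26) (kc xc24 yc32 zc25) (kc xc24 yc32 zc28) (kc xc16 yc8 zc47) (kc xc21 yc51 zc54) (kc xc21 yc24 zc55) (kc xc7 yc49 zc51) (kc xc24 yc32 zc31) (kc xc23 yc37 zc52) (kc xc23 yc22 zc13) (kc xc13 yc41 zc55) (kc xc23 yc22 zc12) (kc xc17 yc38 zc39) (kc xc17 yc38 zc47) (kc xc7 yc49 zc57) (kc xc24 yc32 zc40) (kc xc22 yc43 zc47) (kc xc24 yc32 zc39) (kc xc24 yc2 zc17) (kc xc17 yc13 zc3) (kc xc24 yc32 zc44) (kc xc8 yc50 zc47) (kc xc20 yc9 zc42) (kc xc20 yc16 zc49) (kc xc20 yc14 zc42) (kc xc7 yc50 zc2) (kc xc20 yc52 zc15) (kc xc20 yc2 zc4) (kc xc24 yc32 zc47) (kc xc7 yc50 zc4) (kc xc24 yc32 zc51) (kc xc12 yc56 zc12) (kc xc12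 yc40 zc56) (kc xc24 yc21 zc56) (kc xc7 yc50 zc6) (kc xc24 yc32 zc57) (kc xc16 yc51 zc51) (kc xc24 yc32 zc61) (kc xc7 yc50 zc9) (kc xc24 yc33 zc1) (kc xc24 yc33 zc2) (kc xc7 yc50 zc10) (kc xc24 yc33 zc6) (kc xc7 yc50 zc11) (kc xc12 yc55 zc12) (kc xc18 yc18 zc33) (kc xc14 yc50 zc45) (kc xc24 yc33 zc14) (kc xc7 yc50 zc13) (kc xc24 yc33 zc16)) (@D3.rec (fun _ => Pt) (kc xc7 yc50 zc14) (kc xc24 yc33 zc17) (kc xc24 yc33 zc19) (kc xc24 yc33 zc20) (kc xc24 yc33 zc22) (kc xc7 yc50 zc16) (kc xc24 yc31 zc7) (kc xc22 yc14 zc42) (kc xc24 yc33 zc25) (kc xc7 yc50 zc18) (kc xc20 yc48 zc38) (kc xc13 yc9 zc38) (kc xc20 yc53 zc40) (kc xc7 yc50 zc20) (kc xc22 yc5 zc47) (kc xc22 yc5 zc60) (kc xc12 yc55 zc43) (kc xc14 yc30 zc29) (kc xc24 yc33 zc36) (kc xc16 yc24 zc7) (kc xc24 yc33 zc38)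 (kc xc11 yc47 zc52) (kc xc7 yc50 zc23) (kc xc24 yc33 zc43) (kc xc12 yc6 zc21) (kc xc12 yc6 zc23) (kc xc24 yc33 zc48) (kc xc20 yc53 zc50) (kc xc7 yc50 zc26) (kc xc24 yc33 zc55) (kc xc24 yc33 zc58) (kc xc24 yc16 zc59) (kc xc24 yc33 zc54) (kc xc24 yc34 zc0) (kc xc7 yc50 zc28) (kc xc24 yc34 zc5) (kc xc13 yc52 zc43) (kc xc20 yc54 zc13) (kc xc7 yc50 zc30) (kc xc24 yc19 zc57) (kc xc24 yc2 zc27) (kc xc24 yc34 zc8) (kc xc19 yc36 zc58) (kc xc7 yc50 zc31) (kc xc16 yc43 zc2) (kc xc23 yc11 zc16) (kc xc7 yc50 zc33) (kc xc19 yc3 zc60) (kc xc19 yc3 zc59) (kc xc24 yc34 zc17) (kc xc22 yc45 zc25) (kc xc10 yc36 zc30) (kc xc24 yc12 zc27) (kc xc15 yc21 zc24) (kc xc14 yc51 zc19) (kc xc21 yc11 zc27) (kc xc14 yc51 zc21) (kc xc7 yc50 zc39) (kc xc21 yc23 zc13) (kc xc21 yc23 zc14) (kc xc14 yc19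 zc4) (kc xc14 yc22 zc23)) (@D3.rec (fun _ => Pt) (kc xc13 yc36 zc39) (kc xc12 yc17 zc52) (kc xc20 yc25 zc41) (kc xc8 yc9 zc56) (kc xc8 yc9 zc57) (kc xc13 yc15 zc31) (kc xc13 yc15 zc36) (kc xc8 yc38 zc9) (kc xc17 yc8 zc41) (kc xc14 yc52 zc38) (kc xc20 yc53 zc29) (kc xc7 yc50 zc49) (kc xc17 yc33 zc47) (kc xc15 yc13 zc38) (kc xc14 yc48 zc14) (kc xc13 yc37 zc7) (kc xc23 yc11 zc5) (kc xc14 yc13 zc27) (kc xc22 yc36 zc5) (kc xc24 yc34 zc32) (kc xc23 yc13 zc0) (kc xc24 yc34 zc35) (kc xc7 yc50 zc58) (kc xc24 yc34 zc38) (kc xc7 yc51 zc7) (kc xc14 yc50 zc53) (kc xc14 yc41 zc37) (kc xc19 yc8 zc35) (kc xc14 yc43 zc52) (kc xc14 yc42 zc29) (kc xc24 yc34 zc43) (kc xc7 yc51 zc0) (kc xc23 yc12 zc45) (kc xc14 yc38 zc13) (kc xc24 yc34 zc47) (kc xc13 yc53 zc33) (kc xc24 yc34 zc44) (kc xc7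 yc51 zc3) (kc xc24 yc34 zc49) (kc xc20 yc20 zc36) (kc xc24 yc17 zc24) (kc xc24 yc34 zc48) (kc xc13 yc28 zc57) (kc xc20 yc49 zc7) (kc xc13 yc39 zc38) (kc xc7 yc51 zc11) (kc xc24 yc3 zc35) (kc xc24 yc3 zc36) (kc xc24 yc34 zc59) (kc xc7 yc51 zc12) (kc xc24 yc35 zc0) (kc xc7 yc51 zc14) (kc xc12 yc24 zc18) (kc xc11 yc48 zc29) (kc xc20 yc41 zc60) (kc xc24 yc35 zc6) (kc xc11 yc25 zc59) (kc xc13 yc34 zc2) (kc xc7 yc51 zc16) (kc xc24 yc35 zc8) (kc xc7 yc51 zc17) (kc xc24 yc35 zc12)) (@D3.rec (fun _ => Pt) (kc xc24 yc35 zc11) (kc xc24 yc35 zc14) (kc xc24 yc35 zc16) (kc xc7 yc51 zc18) (kc xc24 yc35 zc20) (kc xc12 yc5 zc52) (kc xc7 yc51 zc20) (kc xc8 yc9 zc2) (kc xc21 yc4 zc7) (kc xc7 yc51 zc21) (kc xc20 yc43 zc18) (kc xc24 yc35 zc24) (kc xc24 yc35 zc25) (kc xc7 yc51 zc22) (kc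 xc24 yc35 zc30) (kc xc16 yc30 zc13) (kc xc20 yc43 zc34) (kc xc7 yc51 zc26) (kc xc15 yc23 zc5) (kc xc13 yc8 zc58) (kc xc24 yc35 zc18) (kc xc7 yc51 zc28) (kc xc24 yc35 zc40) (kc xc7 yc51 zc29) (kc xc15 yc52 zc60) (kc xc7 yc51 zc30) (kc xc24 yc35 zc46) (kc xc13 yc51 zc60) (kc xc23 yc48 zc50) (kc xc24 yc35 zc51) (kc xc14 yc49 zc30) (kc xc13 yc53 zc52) (kc xc24 yc35 zc52) (kc xc13 yc14 zc32) (kc xc24 yc35 zc53) (kc xc23 yc58 zc16) (kc xc23 yc36 zc38) (kc xc24 yc35 zc56) (kc xc24 yc35 zc58) (kc xc7 yc51 zc40) (kc xc24 yc36 zc0) (kc xc14 yc7 zc51) (kc xc24 yc35 zc60) (kc xc13 yc53 zc53) (kc xc17 yc58 zc22) (kc xc13 yc14 zc31) (kc xc16 yc16 zc2) (kc xc13 yc29 zc14) (kc xc24 yc36 zc6) (kc xc22 yc11 zc39) (kc xc23 yc35 zc2) (kc xc7 yc51 zc49) (kc xc24 yc36 zc10) (kc xc22 yc2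 zc50) (kc xc24 yc36 zc12) (kc xc9 yc19 zc1) (kc xc17 yc30 zc28) (kc xc7 yc51 zc54) (kc xc20 yc15 zc36) (kc xc17 yc19 zc6) (kc xc20 yc8 zc34) (kc xc21 yc51 zc18)) (@D3.rec (fun _ => Pt) (kc xc7 yc51 zc56) (kc xc17 yc6 zc15) (kc xc9 yc1 zc33) (kc xc16 yc53 zc49) (kc xc24 yc36 zc20) (kc xc11 yc12 zc7) (kc xc7 yc57 zc22) (kc xc19 yc49 zc49) (kc xc23 yc26 zc22) (kc xc24 yc36 zc27) (kc xc24 yc36 zc30) (kc xc23 yc26 zc25) (kc xc20 yc3 zc17) (kc xc15 yc22 zc29) (kc xc7 yc51 zc61) (kc xc24 yc36 zc35) (kc xc24 yc36 zc36) (kc xc21 yc33 zc21) (kc xc8 yc58 zc43) (kc xc21 yc33 zc28) (kc xc13 yc55 zc42) (kc xc21 yc33 zc26) (kc xc24 yc36 zc38) (kc xc24 yc36 zc40) (kc xc7 yc52 zc3) (kc xc8 yc9 zc0) (kc xc9 yc45 zc23) (kc xc17 yc15 zc30) (kc xc12 yc5 zc53) (kc xc7 yc52 zc5) (kc xc9 yc43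 zc45) (kc xc24 yc36 zc44) (kc xc24 yc36 zc43) (kc xc7 yc52 zc8) (kc xc7 yc52 zc7) (kc xc15 yc53 zc53) (kc xc16 yc46 zc7) (kc xc15 yc44 zc27) (kc xc17 yc12 zc22) (kc xc17 yc2 zc15) (kc xc7 yc52 zc9) (kc xc24 yc36 zc53) (kc xc7 yc52 zc10) (kc xc23 yc26 zc26) (kc xc23 yc26 zc27) (kc xc14 yc46 zc58) (kc xc24 yc37 zc3) (kc xc7 yc52 zc12) (kc xc24 yc37 zc5) (kc xc7 yc52 zc13) (kc xc24 yc37 zc6) (kc xc23 yc1 zc35) (kc xc14 yc5 zc45) (kc xc14 yc48 zc25) (kc xc7 yc52 zc17) (kc xc19 yc49 zc27) (kc xc24 yc37 zc17) (kc xc15 yc52 zc44) (kc xc22 yc29 zc4) (kc xc8 yc7 zc41) (kc xc8 yc7 zc40) (kc xc8 yc37 zc52)) (@D3.rec (fun _ => Pt) (kc xc13 yc32 zc7) (kc xc13 yc32 zc8) (kc xc9 yc33 zc27) (kc xc7 yc52 zc23) (kc xc24 yc37 zc25) (kc xc24 yc37 zc29) (kc xc15 yc52 zc46) (kc xc16 yc51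 zc4) (kc xc14 yc0 zc49) (kc xc7 yc52 zc26) (kc xc24 yc37 zc33) (kc xc24 yc37 zc34) (kc xc17 yc42 zc4) (kc xc15 yc23 zc1) (kc xc23 yc7 zc51) (kc xc23 yc1 zc2) (kc xc23 yc11 zc13) (kc xc23 yc1 zc4) (kc xc20 yc52 zc60) (kc xc14 yc47 zc54) (kc xc14 yc19 zc19) (kc xc14 yc47 zc56) (kc xc13 yc10 zc22) (kc xc7 yc52 zc33) (kc xc24 yc37 zc43) (kc xc24 yc37 zc46) (kc xc13 yc10 zc34) (kc xc24 yc34 zc2) (kc xc7 yc52 zc35) (kc xc24 yc37 zc52) (kc xc16 yc43 zc18) (kc xc20 yc50 zc11) (kc xc24 yc33 zc41) (kc xc24 yc33 zc40) (kc xc7 yc52 zc38) (kc xc24 yc33 zc23) (kc xc7 yc52 zc39) (kc xc24 yc38 zc0) (kc xc24 yc0 zc13) (kc xc7 yc52 zc40) (kc xc24 yc38 zc5) (kc xc23 yc8 zc0) (kc xc7 yc52 zc42) (kc xc15 yc17 zc3) (kc xc15 yc17 zc4) (kc xc24 yc38 zc10) (kc xc20 yc28 zc56) (kc xc13 yc9 zc18)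 (kc xc7 yc52 zc43) (kc xc24 yc38 zc16) (kc xc22 yc48 zc57) (kc xc14 yc39 zc36) (kc xc23 yc11 zc3) (kc xc7 yc52 zc46) (kc xc24 yc38 zc24) (kc xc24 yc38 zc28) (kc xc22 yc44 zc58) (kc xc24 yc38 zc23) (kc xc13 yc9 zc44) (kc xc19 yc19 zc10) (kc xc13 yc5 zc35) (kc xc13 yc21 zc36)) (@D3.rec (fun _ => Pt) (kc xc24 yc38 zc34) (kc xc20 yc43 zc28) (kc xc20 yc29 zc48) (kc xc16 yc25 zc20) (kc xc20 yc53 zc27) (kc xc23 yc0 zc56) (kc xc24 yc38 zc42) (kc xc23 yc19 zc21) (kc xc14 yc28 zc16) (kc xc14 yc11 zc0) (kc xc19 yc28 zc42) (kc xc19 yc30 zc59) (kc xc13 yc22 zc55) (kc xc12 yc59 zc38) (kc xc7 yc52 zc60) (kc xc24 yc38 zc49) (kc xc24 yc38 zc53) (kc xc21 yc39 zc26) (kc xc24 yc38 zc56) (kc xc24 yc38 zc57) (kc xc24 yc8 zc2) (kc xc13 yc23 zc15) (kc xc13 yc23 zc55) (kc xc13 yc36 zc60) (kc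 xc7 yc53 zc2) (kc xc15 yc21 zc26) (kc xc24 yc8 zc20) (kc xc15 yc39 zc29) (kc xc13 yc26 zc0) (kc xc24 yc39 zc8) (kc xc7 yc53 zc5) (kc xc12 yc38 zc41) (kc xc24 yc39 zc11) (kc xc9 yc17 zc5) (kc xc19 yc40 zc40) (kc xc11 yc18 zc21) (kc xc7 yc53 zc9) (kc xc24 yc3 zc45) (kc xc14 yc48 zc9) (kc xc7 yc53 zc12) (kc xc24 yc39 zc15) (kc xc11 yc50 zc60) (kc xc14 yc29 zc16) (kc xc20 yc16 zc28) (kc xc17 yc8 zc35) (kc xc24 yc39 zc25) (kc xc7 yc53 zc18) (kc xc22 yc0 zc37) (kc xc11 yc39 zc55) (kc xc20 yc34 zc19) (kc xc24 yc39 zc28) (kc xc7 yc53 zc21) (kc xc24 yc39 zc30) (kc xc7 yc53 zc23) (kc xc19 yc46 zc35) (kc xc22 yc23 zc0) (kc xc22 yc58 zc25) (kc xc22 yc23 zc2) (kc xc23 yc39 zc41) (kc xc24 yc39 zc37) (kc xc12 yc47 zc47) (kc xc7 yc53 zc30)) (@D3.rec (fun _ => Pt) (kc xc24 yc39 zc40)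 (kc xc22 yc59 zc6) (kc xc7 yc53 zc32) (kc xc13 yc12 zc56) (kc xc9 yc2 zc11) (kc xc12 yc25 zc23) (kc xc7 yc53 zc34) (kc xc24 yc39 zc44) (kc xc7 yc53 zc35) (kc xc24 yc11 zc8) (kc xc18 yc2 zc40) (kc xc7 yc53 zc37) (kc xc24 yc39 zc52) (kc xc24 yc5 zc0) (kc xc9 yc2 zc22) (kc xc7 yc53 zc39) (kc xc24 yc39 zc57) (kc xc7 yc53 zc41) (kc xc22 yc29 zc3) (kc xc22 yc53 zc50) (kc xc24 yc40 zc2) (kc xc24 yc17 zc30) (kc xc24 yc40 zc6) (kc xc22 yc15 zc22) (kc xc24 yc40 zc8) (kc xc14 yc55 zc10) (kc xc7 yc53 zc47) (kc xc24 yc40 zc14) (kc xc24 yc40 zc18) (kc xc24 yc40 zc9) (kc xc18 yc59 zc7) (kc xc7 yc53 zc48) (kc xc22 yc34 zc22) (kc xc17 yc44 zc46) (kc xc7 yc53 zc49) (kc xc24 yc40 zc25) (kc xc13 yc41 zc3) (kc xc13 yc41 zc4) (kc xc10 yc22 zc37) (kc xc7 yc53 zc51) (kc xc24 yc21 zc53) (kc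 xc24 yc40 zc33) (kc xc10 yc22 zc57) (kc xc21 yc15 zc9) (kc xc7 yc53 zc52) (kc xc13 yc23 zc50) (kc xc13 yc14 zc41) (kc xc13 yc14 zc61) (kc xc7 yc53 zc54) (kc xc23 yc11 zc46) (kc xc18 yc50 zc15) (kc xc7 yc53 zc55) (kc xc24 yc40 zc41) (kc xc24 yc40 zc45) (kc xc22 yc8 zc38) (kc xc24 yc40 zc48) (kc xc8 yc45 zc58) (kc xc24 yc40 zc50) (kc xc24 yc36 zc9) (kc xc24 yc36 zc8) (kc xc7 yc53 zc59) (kc xc24 yc40 zc58)) (@D3.rec (fun _ => Pt) (kc xc24 yc40 zc56) (kc xc7 yc53 zc61) (kc xc24 yc41 zc5) (kc xc21 yc22 zc17) (kc xc24 yc41 zc4) (kc xc7 yc54 zc0) (kc xc12 yc32 zc53) (kc xc12 yc58 zc11) (kc xc7 yc54 zc1) (kc xc24 yc41 zc10) (kc xc7 yc54 zc4) (kc xc24 yc41 zc12) (kc xc24 yc41 zc14) (kc xc14 yc20 zc28) (kc xc24 yc41 zc16) (kc xc24 yc41 zc17) (kc xc22 yc2 zc45) (kc xc7 yc54 zc7)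 (kc xc19 yc16 zc17) (kc xc24 yc41 zc19) (kc xc7 yc54 zc9) (kc xc24 yc34 zc11) (kc xc24 yc34 zc10) (kc xc24 yc41 zc27) (kc xc8 yc35 zc9) (kc xc7 yc54 zc10) (kc xc24 yc41 zc30) (kc xc24 yc41 zc33) (kc xc7 yc54 zc11) (kc xc24 yc41 zc36) (kc xc13 yc25 zc16) (kc xc7 yc54 zc22) (kc xc7 yc54 zc13) (kc xc12 yc20 zc29) (kc xc12 yc35 zc47) (kc xc12 yc16 zc39) (kc xc24 yc41 zc42) (kc xc7 yc54 zc14) (kc xc24 yc41 zc46) (kc xc24 yc41 zc44) (kc xc7 yc54 zc16) (kc xc21 yc34 zc42) (kc xc23 yc42 zc21) (kc xc21 yc34 zc28) (kc xc21 yc42 zc14) (kc xc7 yc54 zc17) (kc xc20 yc4 zc0) (kc xc24 yc41 zc53) (kc xc24 yc41 zc60) (kc xc24 yc42 zc1) (kc xc21 yc46 zc56) (kc xc18 yc40 zc30) (kc xc21 yc6 zc15) (kc xc24 yc42 zc8) (kc xc22 yc27 zc7) (kc xc17 yc30 zc49) (kc xc20 yc34 zc33) (kc xc24 yc42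 zc13) (kc xc24 yc42 zc16) (kc xc12 yc0 zc53) (kc xc18 yc6 zc15) (kc xc21 yc45 zc19)) (@D3.rec (fun _ => Pt) (kc xc24 yc42 zc24) (kc xc14 yc42 zc46) (kc xc22 yc42 zc7) (kc xc22 yc29 zc0) (kc xc14 yc59 zc29) (kc xc14 yc45 zc9) (kc xc24 yc42 zc27) (kc xc13 yc25 zc5) (kc xc23 yc58 zc22) (kc xc14 yc3 zc24) (kc xc14 yc53 zc25) (kc xc7 yc54 zc35) (kc xc23 yc27 zc10) (kc xc21 yc24 zc39) (kc xc13 yc7 zc47) (kc xc8 yc45 zc55) (kc xc12 yc7 zc55) (kc xc24 yc42 zc35) (kc xc22 yc43 zc40) (kc xc22 yc26 zc50) (kc xc24 yc23 zc22) (kc xc22 yc43 zc2) (kc xc24 yc42 zc41) (kc xc24 yc42 zc43) (kc xc22 yc2 zc1) (kc xc7 yc54 zc43) (kc xc24 yc42 zc47) (kc xc7 yc54 zc45) (kc xc21 yc8 zc25) (kc xc24 yc41 zc25) (kc xc24 yc42 zc52) (kc xc13 yc35 zc5) (kc xc7 yc54 zc46) (kc xc12 yc35 zc17) (kc xc7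 yc54 zc47) (kc xc11 yc36 zc42) (kc xc22 yc27 zc12) (kc xc22 yc27 zc11) (kc xc13 yc53 zc56) (kc xc24 yc43 zc2) (kc xc13 yc24 zc3) (kc xc18 yc7 zc4) (kc xc24 yc43 zc4) (kc xc24 yc43 zc7) (kc xc9 yc34 zc59) (kc xc7 yc54 zc53) (kc xc24 yc43 zc11) (kc xc24 yc43 zc9) (kc xc7 yc54 zc55) (kc xc24 yc41 zc28) (kc xc24 yc42 zc50) (kc xc24 yc43 zc20) (kc xc10 yc47 zc56) (kc xc7 yc54 zc56) (kc xc7 yc55 zc3) (kc xc13 yc20 zc15) (kc xc7 yc54 zc58) (kc xc17 yc42 zc28) (kc xc18 yc26 zc9) (kc xc20 yc16 zc20) (kc xc24 yc43 zc26) (kc xc7 yc54 zc59)) (@D3.rec (fun _ => Pt) (kc xc24 yc43 zc31) (kc xc24 yc43 zc29) (kc xc7 yc54 zc61) (kc xc24 yc42 zc21) (kc xc24 yc41 zc51) (kc xc12 yc40 zc28) (kc xc24 yc43 zc34) (kc xc7 yc55 zc0) (kc xc24 yc43 zc35) (kc xc16 yc14 zc61) (kc xc7 yc55 zc2) (kc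 xc24 yc42 zc3) (kc xc21 yc5 zc61) (kc xc9 yc29 zc44) (kc xc12 yc52 zc41) (kc xc22 yc4 zc26) (kc xc24 yc43 zc46) (kc xc17 yc33 zc20) (kc xc13 yc57 zc38) (kc xc8 yc38 zc10) (kc xc24 yc43 zc52) (kc xc7 yc55 zc6) (kc xc8 yc48 zc61) (kc xc16 yc5 zc2) (kc xc18 yc6 zc26) (kc xc7 yc55 zc7) (kc xc23 yc13 zc38) (kc xc16 yc5 zc61) (kc xc18 yc19 zc2) (kc xc15 yc50 zc6) (kc xc7 yc55 zc8) (kc xc15 yc7 zc57) (kc xc24 yc44 zc3) (kc xc13 yc4 zc44) (kc xc13 yc24 zc4) (kc xc13 yc33 zc5) (kc xc13 yc26 zc27) (kc xc7 yc55 zc13) (kc xc11 yc18 zc61) (kc xc23 yc2 zc44) (kc xc9 yc20 zc32) (kc xc9 yc32 zc61) (kc xc9 yc33 zc0) (kc xc13 yc52 zc32) (kc xc22 yc15 zc11) (kc xc7 yc55 zc18) (kc xc7 yc55 zc17) (kc xc22 yc30 zc3) (kc xc13 yc15 zc26) (kc xc22 yc35 zc11) (kc xc7 yc55 zc21) (kc xc24 yc44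 zc17) (kc xc22 yc14 zc17) (kc xc24 yc44 zc15) (kc xc7 yc55 zc22) (kc xc24 yc44 zc23) (kc xc23 yc14 zc18) (kc xc17 yc36 zc48) (kc xc17 yc36 zc51) (kc xc9 yc36 zc0) (kc xc24 yc44 zc29) (kc xc24 yc44 zc32)) (@D3.rec (fun _ => Pt) (kc xc11 yc52 zc8) (kc xc17 yc38 zc4) (kc xc17 yc38 zc3) (kc xc7 yc55 zc33) (kc xc10 yc38 zc31) (kc xc7 yc55 zc31) (kc xc12 yc23 zc60) (kc xc18 yc37 zc26) (kc xc20 yc27 zc39) (kc xc24 yc44 zc40) (kc xc21 yc31 zc28) (kc xc17 yc13 zc22) (kc xc7 yc55 zc37) (kc xc8 yc24 zc36) (kc xc7 yc55 zc35) (kc xc7 yc55 zc36) (kc xc24 yc44 zc44) (kc xc24 yc44 zc46) (kc xc24 yc44 zc47) (kc xc15 yc56 zc60) (kc xc15 yc57 zc0) (kc xc24 yc44 zc56) (kc xc7 yc55 zc42) (kc xc11 yc52 zc2) (kc xc7 yc55 zc44) (kc xc21 yc34 zc7) (kc xc7 yc55 zc45) (kc xc24 yc44 zc60) (kc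 xc7 yc55 zc46) (kc xc24 yc45 zc1) (kc xc7 yc55 zc48) (kc xc24 yc45 zc2) (kc xc17 yc13 zc12) (kc xc7 yc55 zc49) (kc xc17 yc55 zc21) (kc xc15 yc45 zc50) (kc xc20 yc54 zc39) (kc xc20 yc54 zc40) (kc xc16 yc16 zc22) (kc xc8 yc1 zc30) (kc xc15 yc46 zc35) (kc xc15 yc37 zc54) (kc xc8 yc19 zc34) (kc xc24 yc45 zc7) (kc xc8 yc19 zc36) (kc xc7 yc56 zc19) (kc xc15 yc10 zc9) (kc xc8 yc1 zc33) (kc xc16 yc3 zc61) (kc xc24 yc45 zc14) (kc xc17 yc36 zc54) (kc xc7 yc55 zc56) (kc xc24 yc45 zc21) (kc xc24 yc45 zc22) (kc xc21 yc10 zc12) (kc xc7 yc55 zc57) (kc xc21 yc10 zc14) (kc xc9 yc43 zc31) (kc xc15 yc19 zc43) (kc xc15 yc14 zc10) (kc xc15 yc53 zc40) (kc xc16 yc4 zc1)) (@D3.rec (fun _ => Pt) (kc xc15 yc6 zc4) (kc xc15 yc6 zc5) (kc xc8 yc45 zc19) (kc xc24 yc45 zc42) (kc xc15 yc47 zc43) (kc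 xc24 yc45 zc44) (kc xc17 yc44 zc49) (kc xc24 yc45 zc45) (kc xc17 yc44 zc50) (kc xc16 yc2 zc48) (kc xc8 yc33 zc2) (kc xc8 yc33 zc12) (kc xc8 yc33 zc13) (kc xc16 yc3 zc30) (kc xc23 yc22 zc52) (kc xc15 yc43 zc39) (kc xc19 yc16 zc53) (kc xc19 yc16 zc55) (kc xc8 yc40 zc50) (kc xc7 yc56 zc11) (kc xc16 yc15 zc19) (kc xc19 yc10 zc39) (kc xc7 yc56 zc15) (kc xc24 yc45 zc50) (kc xc16 yc15 zc49) (kc xc16 yc15 zc50) (kc xc24 yc45 zc56) (kc xc17 yc54 zc12) (kc xc7 yc56 zc17) (kc xc7 yc56 zc18) (kc xc16 yc16 zc53) (kc xc16 yc16 zc54) (kc xc10 yc7 zc59) (kc xc7 yc56 zc20) (kc xc24 yc46 zc0) (kc xc8 yc3 zc60) (kc xc10 yc7 zc60) (kc xc17 yc44 zc10) (kc xc17 yc54 zc39) (kc xc17 yc54 zc40) (kc xc17 yc43 zc55) (kc xc7 yc56 zc23) (kc xc7 yc56 zc24) (kc xc18 yc48 zc60) (kc xc7 yc56 zc25)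 (kc xc24 yc46 zc10) (kc xc19 yc17 zc37) (kc xc7 yc56 zc26) (kc xc24 yc46 zc13) (kc xc11 yc6 zc44) (kc xc11 yc6 zc46) (kc xc7 yc56 zc34) (kc xc20 yc9 zc20) (kc xc7 yc56 zc28) (kc xc7 yc56 zc29) (kc xc24 yc46 zc23) (kc xc24 yc46 zc24) (kc xc24 yc46 zc21) (kc xc24 yc46 zc22) (kc xc24 yc46 zc27) (kc xc7 yc56 zc30) (kc xc24 yc46 zc29)) (@D3.rec (fun _ => Pt) (kc xc17 yc54 zc10) (kc xc19 yc45 zc44) (kc xc17 yc44 zc41) (kc xc7 yc56 zc32) (kc xc24 yc46 zc36) (kc xc13 yc18 zc56) (kc xc9 yc53 zc49) (kc xc17 yc44 zc37) (kc xc22 yc15 zc7) (kc xc13 yc19 zc61) (kc xc14 yc15 zc14) (kc xc24 yc46 zc15) (kc xc8 yc1 zc61) (kc xc8 yc2 zc0) (kc xc24 yc46 zc49) (kc xc7 yc56 zc38) (kc xc21 yc52 zc47) (kc xc7 yc56 zc36) (kc xc16 yc25 zc51) (kc xc24 yc46 zc53) (kc xc20 yc7 zc47) (kc xc7 yc56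 zc37) (kc xc8 yc42 zc23) (kc xc15 yc7 zc0) (kc xc15 yc7 zc1) (kc xc23 yc15 zc1) (kc xc9 yc26 zc30) (kc xc7 yc56 zc43) (kc xc24 yc46 zc58) (kc xc14 yc55 zc4) (kc xc8 yc46 zc29) (kc xc20 yc4 zc30) (kc xc14 yc2 zc0) (kc xc8 yc46 zc32) (kc xc22 yc52 zc24) (kc xc20 yc41 zc2) (kc xc13 yc42 zc2) (kc xc7 yc56 zc52) (kc xc24 yc47 zc4) (kc xc24 yc47 zc3) (kc xc23 yc43 zc15) (kc xc24 yc47 zc7) (kc xc8 yc47 zc21) (kc xc20 yc44 zc57) (kc xc7 yc56 zc60) (kc xc11 yc18 zc50) (kc xc11 yc18 zc51) (kc xc20 yc36 zc15) (kc xc19 yc53 zc55) (kc xc11 yc59 zc30) (kc xc19 yc53 zc58) (kc xc11 yc59 zc33) (kc xc16 yc12 zc18) (kc xc7 yc57 zc2) (kc xc24 yc47 zc15) (kc xc23 yc15 zc9) (kc xc20 yc30 zc53) (kc xc12 yc8 zc55) (kc xc7 yc57 zc6) (kc xc7 yc57 zc8) (kc xc16 yc54 zc30) (kc xc13 yc42 zc52))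
def f_c_15 : D2 → D3 → Pt := @D2.rec (fun _ => D3 → Pt) (@D3.rec (fun _ => Pt) (kc xc7 yc57 zc14) (kc xc24 yc36 zc23) (kc xc12 yc49 zc35) (kc xc11 yc14 zc13) (kc xc17 yc22 zc56) (kc xc7 yc57 zc18) (kc xc11 yc13 zc56) (kc xc24 yc47 zc24) (kc xc13 yc1 zc39) (kc xc24 yc47 zc26) (kc xc24 yc47 zc27) (kc xc24 yc47 zc28) (kc xc7 yc57 zc24) (kc xc21 yc29 zc51) (kc xc24 yc47 zc33) (kc xc11 yc30 zc50) (kc xc24 yc47 zc36) (kc xc7 yc57 zc23) (kc xc24 yc47 zc38) (kc xc24 yc47 zc37) (kc xc21 yc41 zc48) (kc xc21 yc44 zc31) (kc xc24 yc47 zc42) (kc xc21 yc52 zc54) (kc xc24 yc47 zc44) (kc xc24 yc47 zc46) (kc xc7 yc57 zc26) (kc xc18 yc6 zc41) (kc xc12 yc8 zc7) (kc xc16 yc24 zc10) (kc xc7 yc57 zc28) (kc xc20 yc30 zc42) (kc xc24 yc47 zc51) (kc xc7 yc57 zc29) (kc xc19 yc48 zc16) (kc xc10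 yc19 zc35) (kc xc10 yc30 zc41) (kc xc8 yc52 zc1) (kc xc9 yc52 zc5) (kc xc10 yc30 zc38) (kc xc8 yc39 zc57) (kc xc19 yc0 zc3) (kc xc10 yc29 zc2) (kc xc17 yc46 zc59) (kc xc24 yc48 zc14) (kc xc10 yc30 zc49) (kc xc10 yc30 zc48) (kc xc14 yc31 zc2) (kc xc18 yc55 zc14) (kc xc18 yc55 zc17) (kc xc15 yc31 zc2) (kc xc24 yc48 zc28) (kc xc7 yc57 zc36) (kc xc20 yc27 zc11) (kc xc8 yc17 zc12) (kc xc10 yc32 zc43) (kc xc7 yc57 zc38) (kc xc9 yc41 zc49) (kc xc10 yc32 zc42) (kc xc7 yc57 zc40) (kc xc8 yc6 zc14) (kc xc10 yc32 zc36)) (@D3.rec (fun _ => Pt) (kc xc7 yc57 zc42) (kc xc16 yc39 zc15) (kc xc19 yc20 zc19) (kc xc10 yc32 zc33) (kc xc7 yc57 zc44) (kc xc15 yc20 zc1) (kc xc24 yc48 zc51) (kc xc24 yc48 zc53) (kc xc24 yc48 zc56) (kc xc9 yc40 zc56) (kc xc24 yc49 zc0) (kc xc9 yc40 zc58) (kc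 xc16 yc4 zc2) (kc xc7 yc57 zc48) (kc xc7 yc57 zc58) (kc xc7 yc57 zc50) (kc xc10 yc36 zc56) (kc xc15 yc51 zc17) (kc xc7 yc57 zc52) (kc xc15 yc41 zc41) (kc xc24 yc32 zc29) (kc xc9 yc41 zc13) (kc xc8 yc20 zc36) (kc xc7 yc57 zc55) (kc xc24 yc49 zc23) (kc xc24 yc49 zc24) (kc xc24 yc49 zc22) (kc xc8 yc18 zc30) (kc xc8 yc22 zc7) (kc xc8 yc7 zc48) (kc xc9 yc0 zc41) (kc xc8 yc22 zc8) (kc xc8 yc7 zc47) (kc xc19 yc12 zc35) (kc xc19 yc4 zc1) (kc xc24 yc49 zc7) (kc xc15 yc9 zc9) (kc xc24 yc49 zc8) (kc xc8 yc33 zc60) (kc xc17 yc38 zc25) (kc xc8 yc53 zc18) (kc xc8 yc53 zc19) (kc xc24 yc49 zc56) (kc xc7 yc58 zc1) (kc xc7 yc57 zc61) (kc xc17 yc8 zc52) (kc xc7 yc58 zc0) (kc xc24 yc50 zc0) (kc xc8 yc52 zc16) (kc xc7 yc58 zc5) (kc xc7 yc58 zc4) (kc xc10 yc51 zc46) (kc xc19 yc37 zc3) (kc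 xc16 yc43 zc6) (kc xc24 yc50 zc3) (kc xc19 yc42 zc22) (kc xc24 yc50 zc4) (kc xc19 yc6 zc8) (kc xc8 yc7 zc52) (kc xc8 yc7 zc53) (kc xc24 yc50 zc26) (kc xc7 yc58 zc9)) (@D3.rec (fun _ => Pt) (kc xc7 yc58 zc8) (kc xc9 yc3 zc11) (kc xc8 yc56 zc23) (kc xc8 yc7 zc45) (kc xc19 yc17 zc34) (kc xc19 yc4 zc37) (kc xc10 yc31 zc57) (kc xc10 yc15 zc43) (kc xc10 yc31 zc59) (kc xc8 yc20 zc44) (kc xc10 yc15 zc44) (kc xc8 yc54 zc10) (kc xc8 yc54 zc11) (kc xc7 yc58 zc17) (kc xc7 yc58 zc15) (kc xc24 yc50 zc47) (kc xc7 yc58 zc16) (kc xc24 yc50 zc49) (kc xc10 yc56 zc45) (kc xc19 yc45 zc6) (kc xc16 yc45 zc30) (kc xc18 yc51 zc4) (kc xc24 yc50 zc54) (kc xc18 yc51 zc6) (kc xc19 yc5 zc59) (kc xc8 yc8 zc37) (kc xc8 yc8 zc38) (kc xc18 yc1 zc23) (kc xc7 yc58 zc25) (kc xc7 yc58 zc22) (kc xc24 yc51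 zc11) (kc xc7 yc58 zc23) (kc xc7 yc58 zc24) (kc xc24 yc51 zc14) (kc xc15 yc20 zc42) (kc xc15 yc9 zc12) (kc xc24 yc51 zc21) (kc xc15 yc9 zc13) (kc xc16 yc6 zc3) (kc xc10 yc31 zc56) (kc xc15 yc9 zc10) (kc xc16 yc41 zc28) (kc xc16 yc40 zc30) (kc xc16 yc36 zc23) (kc xc24 yc51 zc37) (kc xc16 yc36 zc25) (kc xc8 yc22 zc9) (kc xc20 yc53 zc43) (kc xc15 yc19 zc56) (kc xc16 yc44 zc1) (kc xc17 yc34 zc42) (kc xc10 yc59 zc41) (kc xc11 yc0 zc0) (kc xc24 yc51 zc51) (kc xc10 yc59 zc53) (kc xc24 yc51 zc53) (kc xc17 yc8 zc59) (kc xc19 yc17 zc13) (kc xc7 yc58 zc35) (kc xc24 yc51 zc57) (kc xc16 yc4 zc6) (kc xc24 yc0 zc10)) (@D3.rec (fun _ => Pt) (kc xc8 yc20 zc53) (kc xc24 yc51 zc56) (kc xc7 yc58 zc39) (kc xc24 yc52 zc5) (kc xc24 yc29 zc19) (kc xc16 yc12 zc60) (kc xc10 yc32 zc44) (kc xc15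 yc9 zc36) (kc xc11 yc54 zc26) (kc xc19 yc40 zc29) (kc xc10 yc32 zc23) (kc xc7 yc58 zc42) (kc xc24 yc52 zc20) (kc xc7 yc58 zc43) (kc xc13 yc59 zc12) (kc xc10 yc31 zc26) (kc xc10 yc31 zc27) (kc xc24 yc52 zc28) (kc xc7 yc58 zc48) (kc xc15 yc15 zc17) (kc xc7 yc58 zc46) (kc xc24 yc45 zc29) (kc xc15 yc19 zc16) (kc xc7 yc58 zc47) (kc xc24 yc52 zc33) (kc xc24 yc52 zc34) (kc xc7 yc58 zc53) (kc xc15 yc27 zc19) (kc xc16 yc41 zc12) (kc xc16 yc41 zc10) (kc xc24 yc52 zc43) (kc xc7 yc58 zc57) (kc xc7 yc58 zc56) (kc xc24 yc52 zc45) (kc xc24 yc52 zc46) (kc xc19 yc48 zc37) (kc xc19 yc47 zc29) (kc xc19 yc47 zc28) (kc xc15 yc47 zc39) (kc xc7 yc58 zc61) (kc xc7 yc58 zc60) (kc xc16 yc48 zc48) (kc xc7 yc59 zc1) (kc xc9 yc4 zc47) (kc xc15 yc47 zc37) (kc xc7 yc59 zc3) (kc xc7 yc59 zc5) (kc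 xc7 yc59 zc6) (kc xc11 yc13 zc34) (kc xc7 yc59 zc8) (kc xc24 yc52 zc56) (kc xc19 yc21 zc48) (kc xc24 yc52 zc60) (kc xc20 yc8 zc6) (kc xc7 yc59 zc15) (kc xc24 yc53 zc1) (kc xc24 yc46 zc16) (kc xc7 yc59 zc18) (kc xc16 yc31 zc60) (kc xc12 yc55 zc23) (kc xc7 yc59 zc19) (kc xc20 yc21 zc39)) (@D3.rec (fun _ => Pt) (kc xc24 yc53 zc6) (kc xc7 yc59 zc25) (kc xc22 yc18 zc15) (kc xc20 yc59 zc46) (kc xc20 yc0 zc7) (kc xc12 yc9 zc21) (kc xc11 yc15 zc7) (kc xc7 yc59 zc30) (kc xc24 yc46 zc18) (kc xc7 yc59 zc32) (kc xc24 yc53 zc9) (kc xc24 yc53 zc10) (kc xc23 yc35 zc43) (kc xc11 yc18 zc3) (kc xc9 yc2 zc26) (kc xc11 yc15 zc8) (kc xc7 yc59 zc36) (kc xc10 yc53 zc55) (kc xc16 yc54 zc25) (kc xc7 yc59 zc39) (kc xc24 yc46 zc7) (kc xc12 yc3 zc56) (kc xc16 yc54 zc43) (kc xc7 yc59 zc44) (kc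 xc7 yc59 zc45) (kc xc11 yc18 zc15) (kc xc7 yc59 zc42) (kc xc24 yc53 zc16) (kc xc7 yc59 zc43) (kc xc16 yc55 zc49) (kc xc20 yc25 zc5) (kc xc20 yc9 zc6) (kc xc20 yc9 zc5) (kc xc12 yc22 zc18) (kc xc7 yc59 zc47) (kc xc24 yc53 zc20) (kc xc21 yc24 zc17) (kc xc16 yc51 zc27) (kc xc24 yc53 zc21) (kc xc19 yc33 zc46) (kc xc15 yc23 zc46) (kc xc20 yc1 zc12) (kc xc21 yc2 zc41) (kc xc21 yc2 zc40) (kc xc7 yc59 zc61) (kc xc11 yc39 zc27) (kc xc8 yc0 zc10) (kc xc20 yc37 zc1) (kc xc24 yc53 zc24) (kc xc8 yc0 zc8) (kc xc22 yc59 zc37) (kc xc13 yc42 zc21) (kc xc23 yc5 zc1) (kc xc8 yc0 zc12) (kc xc23 yc6 zc1) (kc xc9 yc22 zc43) (kc xc11 yc41 zc52) (kc xc8 yc0 zc17) (kc xc20 yc53 zc2) (kc xc9 yc14 zc11) (kc xc14 yc15 zc42) (kc xc9 yc48 zc57)) (@D3.rec (fun _ => Pt) (kc xc17 yc4 zc35) (kc xc8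 yc0 zc24) (kc xc11 yc36 zc29) (kc xc8 yc0 zc22) (kc xc8 yc0 zc23) (kc xc20 yc8 zc33) (kc xc9 yc8 zc5) (kc xc9 yc9 zc23) (kc xc23 yc58 zc36) (kc xc21 yc16 zc10) (kc xc8 yc0 zc29) (kc xc11 yc36 zc27) (kc xc8 yc0 zc32) (kc xc24 yc18 zc61) (kc xc11 yc49 zc43) (kc xc8 yc0 zc36) (kc xc12 yc30 zc53) (kc xc19 yc11 zc42) (kc xc15 yc26 zc16) (kc xc17 yc6 zc16) (kc xc21 yc37 zc44) (kc xc8 yc0 zc42) (kc xc24 yc53 zc37) (kc xc9 yc12 zc12) (kc xc11 yc43 zc25) (kc xc16 yc53 zc41) (kc xc8 yc0 zc47) (kc xc11 yc12 zc0) (kc xc11 yc12 zc3) (kc xc8 yc0 zc46) (kc xc24 yc53 zc38) (kc xc16 yc55 zc38) (kc xc8 yc0 zc50) (kc xc8 yc0 zc52) (kc xc24 yc53 zc40) (kc xc11 yc41 zc38) (kc xc18 yc10 zc28) (kc xc8 yc0 zc55) (kc xc12 yc22 zc22) (kc xc12 yc22 zc23) (kc xc24 yc20 zc20) (kc xc9 yc58 zc2)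 (kc xc18 yc35 zc4) (kc xc15 yc7 zc50) (kc xc8 yc1 zc2) (kc xc8 yc1 zc4) (kc xc8 yc1 zc8) (kc xc8 yc1 zc6) (kc xc8 yc1 zc7) (kc xc17 yc46 zc38) (kc xc24 yc53 zc56) (kc xc24 yc53 zc53) (kc xc24 yc53 zc54) (kc xc24 yc53 zc61) (kc xc24 yc54 zc2) (kc xc24 yc53 zc48) (kc xc24 yc53 zc49) (kc xc18 yc9 zc14) (kc xc8 yc1 zc12) (kc xc24 yc54 zc5) (kc xc16 yc32 zc27) (kc xc16 yc22 zc59)) (@D3.rec (fun _ => Pt) (kc xc21 yc41 zc33) (kc xc9 yc14 zc54) (kc xc10 yc8 zc40) (kc xc15 yc7 zc2) (kc xc14 yc58 zc0) (kc xc14 yc58 zc1) (kc xc23 yc34 zc40) (kc xc9 yc45 zc57) (kc xc8 yc1 zc15) (kc xc24 yc54 zc12) (kc xc13 yc52 zc50) (kc xc19 yc17 zc2) (kc xc17 yc15 zc26) (kc xc17 yc15 zc27) (kc xc24 yc23 zc57) (kc xc8 yc1 zc20) (kc xc16 yc30 zc20) (kc xc24 yc54 zc24) (kc xc23 yc43 zc14) (kc xc24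 yc54 zc25) (kc xc24 yc54 zc26) (kc xc11 yc52 zc9) (kc xc8 yc1 zc21) (kc xc24 yc54 zc32) (kc xc21 yc44 zc20) (kc xc24 yc47 zc47) (kc xc24 yc47 zc48) (kc xc8 yc1 zc22) (kc xc18 yc27 zc13) (kc xc24 yc22 zc3) (kc xc24 yc54 zc38) (kc xc8 yc1 zc24) (kc xc24 yc20 zc2) (kc xc24 yc30 zc34) (kc xc8 yc1 zc25) (kc xc24 yc54 zc42) (kc xc16 yc25 zc2) (kc xc11 yc3 zc0) (kc xc16 yc32 zc25) (kc xc11 yc52 zc5) (kc xc8 yc34 zc28) (kc xc8 yc34 zc29) (kc xc16 yc5 zc39) (kc xc24 yc54 zc47) (kc xc15 yc34 zc3) (kc xc8 yc19 zc39) (kc xc17 yc36 zc53) (kc xc24 yc44 zc28) (kc xc16 yc13 zc58) (kc xc8 yc1 zc34) (kc xc24 yc54 zc55) (kc xc15 yc48 zc60) (kc xc24 yc54 zc53) (kc xc23 yc22 zc47) (kc xc8 yc1 zc35) (kc xc24 yc55 zc2) (kc xc24 yc55 zc1) (kc xc24 yc55 zc4) (kc xc24 yc55 zc6) (kc xc24 yc55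 zc8) (kc xc8 yc1 zc37) (kc xc24 yc55 zc13)) (@D3.rec (fun _ => Pt) (kc xc14 yc59 zc23) (kc xc14 yc59 zc24) (kc xc15 yc6 zc3) (kc xc9 yc55 zc1) (kc xc19 yc59 zc37) (kc xc24 yc55 zc21) (kc xc24 yc55 zc23) (kc xc24 yc55 zc24) (kc xc8 yc1 zc47) (kc xc24 yc55 zc29) (kc xc20 yc8 zc5) (kc xc24 yc55 zc32) (kc xc8 yc1 zc50) (kc xc24 yc55 zc33) (kc xc24 yc55 zc18) (kc xc24 yc55 zc36) (kc xc8 yc1 zc52) (kc xc24 yc55 zc41) (kc xc24 yc46 zc5) (kc xc8 yc1 zc53) (kc xc24 yc55 zc50) (kc xc8 yc1 zc54) (kc xc24 yc55 zc55) (kc xc16 yc21 zc55) (kc xc16 yc21 zc49) (kc xc8 yc1 zc59) (kc xc24 yc56 zc8) (kc xc8 yc1 zc56) (kc xc8 yc1 zc57) (kc xc24 yc56 zc14) (kc xc16 yc23 zc9) (kc xc24 yc56 zc12) (kc xc24 yc56 zc13) (kc xc24 yc56 zc19) (kc xc24 yc56 zc21) (kc xc24 yc56 zc24) (kc xc24 yc56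 zc4) (kc xc24 yc56 zc6) (kc xc24 yc56 zc30) (kc xc8 yc2 zc1) (kc xc12 yc35 zc5) (kc xc16 yc27 zc56) (kc xc9 yc53 zc46) (kc xc17 yc46 zc45) (kc xc15 yc11 zc26) (kc xc9 yc38 zc32) (kc xc8 yc42 zc21) (kc xc8 yc42 zc22) (kc xc21 yc12 zc12) (kc xc16 yc12 zc3) (kc xc15 yc5 zc43) (kc xc13 yc57 zc48) (kc xc11 yc28 zc13) (kc xc8 yc48 zc5) (kc xc8 yc59 zc33) (kc xc24 yc42 zc61) (kc xc24 yc56 zc48) (kc xc14 yc56 zc31) (kc xc8 yc2 zc16) (kc xc8 yc48 zc27) (kc xc24 yc56 zc51) (kc xc8 yc2 zc21)) (@D3.rec (fun _ => Pt) (kc xc19 yc37 zc33) (kc xc8 yc2 zc20) (kc xc22 yc23 zc23) (kc xc11 yc50 zc0) (kc xc20 yc25 zc25) (kc xc16 yc57 zc30) (kc xc9 yc30 zc24) (kc xc10 yc59 zc17) (kc xc9 yc14 zc6) (kc xc20 yc31 zc15) (kc xc12 yc29 zc56) (kc xc20 yc0 zc0) (kc xc24 yc57 zc1) (kc xc19 yc33 zc18)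 (kc xc13 yc16 zc48) (kc xc8 yc2 zc28) (kc xc16 yc33 zc6) (kc xc17 yc53 zc30) (kc xc11 yc43 zc58) (kc xc10 yc57 zc3) (kc xc24 yc57 zc8) (kc xc24 yc57 zc9) (kc xc24 yc57 zc11) (kc xc8 yc2 zc31) (kc xc16 yc32 zc31) (kc xc16 yc32 zc32) (kc xc8 yc2 zc32) (kc xc24 yc57 zc20) (kc xc22 yc37 zc42) (kc xc24 yc57 zc21) (kc xc8 yc2 zc34) (kc xc23 yc54 zc8) (kc xc24 yc57 zc25) (kc xc16 yc33 zc4) (kc xc16 yc33 zc5) (kc xc8 yc2 zc35) (kc xc18 yc6 zc36) (kc xc16 yc32 zc59) (kc xc12 yc8 zc5) (kc xc22 yc2 zc33) (kc xc24 yc57 zc34) (kc xc8 yc2 zc37) (kc xc24 yc57 zc37) (kc xc20 yc15 zc60) (kc xc8 yc2 zc38) (kc xc19 yc59 zc38) (kc xc12 yc22 zc35) (kc xc19 yc54 zc29) (kc xc16 yc31 zc46) (kc xc24 yc57 zc43) (kc xc21 yc10 zc51) (kc xc23 yc48 zc11) (kc xc21 yc10 zc53) (kc xc24 yc57 zc14) (kc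 xc9 yc42 zc36) (kc xc17 yc48 zc31) (kc xc19 yc49 zc8) (kc xc15 yc54 zc44) (kc xc8 yc3 zc5) (kc xc13 yc14 zc36) (kc xc19 yc3 zc47) (kc xc11 yc52 zc44)) (@D3.rec (fun _ => Pt) (kc xc8 yc2 zc47) (kc xc15 yc52 zc38) (kc xc20 yc2 zc23) (kc xc15 yc52 zc49) (kc xc24 yc57 zc58) (kc xc24 yc58 zc1) (kc xc16 yc13 zc27) (kc xc24 yc58 zc7) (kc xc16 yc13 zc28) (kc xc15 yc1 zc36) (kc xc15 yc2 zc40) (kc xc24 yc50 zc50) (kc xc15 yc2 zc35) (kc xc15 yc2 zc37) (kc xc24 yc58 zc15) (kc xc8 yc2 zc59) (kc xc24 yc58 zc17) (kc xc18 yc30 zc13) (kc xc15 yc53 zc58) (kc xc15 yc54 zc1) (kc xc9 yc53 zc9) (kc xc24 yc58 zc18) (kc xc24 yc58 zc20) (kc xc8 yc54 zc37) (kc xc8 yc54 zc39) (kc xc8 yc10 zc23) (kc xc8 yc10 zc24) (kc xc16 yc27 zc38) (kc xc8 yc3 zc2) (kc xc15 yc54 zc7) (kc xc15 yc52 zc5) (kc xc8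 yc3 zc3) (kc xc16 yc14 zc4) (kc xc24 yc58 zc40) (kc xc8 yc3 zc4) (kc xc24 yc18 zc3) (kc xc15 yc3 zc7) (kc xc24 yc58 zc45) (kc xc15 yc54 zc55) (kc xc24 yc58 zc46) (kc xc15 yc54 zc58) (kc xc10 yc1 zc45) (kc xc24 yc58 zc48) (kc xc24 yc58 zc49) (kc xc18 yc58 zc19) (kc xc18 yc58 zc20) (kc xc24 yc45 zc59) (kc xc8 yc3 zc13) (kc xc10 yc10 zc9) (kc xc8 yc3 zc11) (kc xc8 yc3 zc12) (kc xc24 yc58 zc54) (kc xc18 yc26 zc33) (kc xc18 yc28 zc17) (kc xc17 yc38 zc6) (kc xc24 yc58 zc59) (kc xc24 yc58 zc61) (kc xc24 yc59 zc1) (kc xc18 yc51 zc37) (kc xc18 yc51 zc39) (kc xc17 yc36 zc45) (kc xc8 yc3 zc22)) (@D3.rec (fun _ => Pt) (kc xc8 yc3 zc20) (kc xc18 yc4 zc55) (kc xc8 yc3 zc23) (kc xc24 yc59 zc9) (kc xc24 yc59 zc14) (kc xc24 yc59 zc18) (kc xc18 yc29 zc60) (kc xc8 yc3 zc27) (kc xc13 yc44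 zc54) (kc xc14 yc57 zc46) (kc xc16 yc17 zc48) (kc xc16 yc8 zc7) (kc xc24 yc59 zc25) (kc xc24 yc59 zc28) (kc xc24 yc59 zc31) (kc xc8 yc5 zc57) (kc xc8 yc3 zc33) (kc xc8 yc3 zc34) (kc xc22 yc46 zc13) (kc xc8 yc41 zc38) (kc xc17 yc44 zc11) (kc xc18 yc28 zc47) (kc xc24 yc59 zc39) (kc xc13 yc47 zc44) (kc xc23 yc15 zc12) (kc xc8 yc3 zc40) (kc xc24 yc59 zc42) (kc xc24 yc59 zc46) (kc xc15 yc23 zc53) (kc xc15 yc23 zc54) (kc xc20 yc29 zc38) (kc xc18 yc28 zc21) (kc xc8 yc3 zc50) (kc xc8 yc3 zc45) (kc xc18 yc40 zc57) (kc xc18 yc40 zc58) (kc xc14 yc8 zc27) (kc xc8 yc3 zc46) (kc xc20 yc0 zc35) (kc xc17 yc41 zc13) (kc xc18 yc30 zc2) (kc xc18 yc27 zc25) (kc xc8 yc3 zc48) (kc xc24 yc59 zc58) (kc xc18 yc29 zc59) (kc xc18 yc27 zc8) (kc xc23 yc45 zc7) (kc xc25 yc0 zc0) (kc xc14 yc8 zc21)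 (kc xc14 yc4 zc12) (kc xc8 yc10 zc42) (kc xc8 yc10 zc43) (kc xc25 yc0 zc4) (kc xc8 yc3 zc54) (kc xc25 yc0 zc5) (kc xc8 yc3 zc52) (kc xc25 yc0 zc8) (kc xc8 yc3 zc53) (kc xc16 yc17 zc1) (kc xc15 yc12 zc27) (kc xc15 yc14 zc23) (kc xc15 yc14 zc24)) (@D3.rec (fun _ => Pt) (kc xc10 yc14 zc52) (kc xc8 yc3 zc58) (kc xc10 yc14 zc59) (kc xc10 yc14 zc60) (kc xc18 yc39 zc2) (kc xc18 yc3 zc18) (kc xc8 yc43 zc48) (kc xc8 yc44 zc0) (kc xc8 yc5 zc18) (kc xc24 yc46 zc1) (kc xc8 yc4 zc2) (kc xc8 yc4 zc1) (kc xc25 yc0 zc17) (kc xc23 yc33 zc55) (kc xc14 yc35 zc12) (kc xc20 yc59 zc34) (kc xc25 yc0 zc22) (kc xc20 yc59 zc35) (kc xc8 yc5 zc16) (kc xc25 yc0 zc28) (kc xc8 yc4 zc8) (kc xc8 yc4 zc6) (kc xc18 yc39 zc60) (kc xc10 yc26 zc28) (kc xc10 yc26 zc29) (kc xc10 yc28 zc51) (kc xc15 yc7 zc44)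 (kc xc18 yc15 zc52) (kc xc10 yc28 zc46) (kc xc21 yc2 zc48) (kc xc10 yc28 zc48) (kc xc8 yc4 zc58) (kc xc8 yc5 zc26) (kc xc8 yc5 zc27) (kc xc25 yc0 zc43) (kc xc8 yc4 zc14) (kc xc8 yc4 zc13) (kc xc24 yc56 zc20) (kc xc15 yc36 zc10) (kc xc15 yc36 zc11) (kc xc10 yc21 zc38) (kc xc18 yc49 zc56) (kc xc18 yc46 zc41) (kc xc10 yc21 zc33) (kc xc23 yc15 zc22) (kc xc10 yc21 zc35) (kc xc8 yc4 zc57) (kc xc8 yc5 zc29) (kc xc8 yc5 zc30) (kc xc8 yc4 zc20) (kc xc17 yc40 zc30) (kc xc22 yc14 zc54) (kc xc22 yc14 zc53) (kc xc10 yc25 zc17) (kc xc23 yc20 zc3) (kc xc10 yc25 zc19) (kc xc8 yc4 zc53) (kc xc25 yc0 zc52) (kc xc8 yc5 zc50) (kc xc25 yc0 zc55) (kc xc25 yc0 zc57) (kc xc17 yc46 zc23)) (@D3.rec (fun _ => Pt) (kc xc8 yc10 zc44) (kc xc17 yc46 zc24) (kc xc8 yc4 zc51) (kc xc8 yc5 zc53) (kc xc18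 yc3 zc56) (kc xc19 yc0 zc36) (kc xc18 yc34 zc9) (kc xc8 yc4 zc27) (kc xc22 yc45 zc30) (kc xc25 yc1 zc4) (kc xc25 yc1 zc5) (kc xc24 yc56 zc34) (kc xc8 yc4 zc28) (kc xc22 yc45 zc29) (kc xc23 yc51 zc56) (kc xc23 yc42 zc53) (kc xc24 yc38 zc12) (kc xc24 yc38 zc13) (kc xc8 yc4 zc30) (kc xc13 yc13 zc54) (kc xc18 yc4 zc7) (kc xc25 yc1 zc19) (kc xc8 yc4 zc50) (kc xc16 yc31 zc52) (kc xc8 yc4 zc43) (kc xc13 yc51 zc17) (kc xc15 yc23 zc60) (kc xc15 yc10 zc59) (kc xc25 yc1 zc27) (kc xc16 yc20 zc7) (kc xc18 yc9 zc60) (kc xc18 yc26 zc51) (kc xc25 yc1 zc29) (kc xc19 yc19 zc55) (kc xc10 yc24 zc45) (kc xc10 yc24 zc47) (kc xc16 yc20 zc52) (kc xc8 yc4 zc41) (kc xc18 yc27 zc11) (kc xc18 yc27 zc30) (kc xc18 yc27 zc31) (kc xc25 yc1 zc25) (kc xc25 yc1 zc39) (kc xc25 yc1 zc42) (kc xc17 yc46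 zc34) (kc xc18 yc58 zc14) (kc xc25 yc1 zc48) (kc xc8 yc4 zc48) (kc xc18 yc3 zc6) (kc xc18 yc27 zc35) (kc xc16 yc12 zc2) (kc xc8 yc4 zc49) (kc xc18 yc19 zc13) (kc xc18 yc27 zc6) (kc xc18 yc27 zc7) (kc xc23 yc43 zc26) (kc xc8 yc41 zc60) (kc xc18 yc28 zc46) (kc xc15 yc14 zc56) (kc xc15 yc13 zc15) (kc xc18 yc28 zc18) (kc xc18 yc28 zc19)) (@D3.rec (fun _ => Pt) (kc xc15 yc14 zc53) (kc xc23 yc15 zc2) (kc xc23 yc13 zc60) (kc xc25 yc1 zc60) (kc xc23 yc15 zc24) (kc xc9 yc38 zc14) (kc xc16 yc16 zc61) (kc xc16 yc17 zc47) (kc xc15 yc14 zc55) (kc xc15 yc14 zc54) (kc xc25 yc2 zc9) (kc xc25 yc0 zc37) (kc xc8 yc4 zc59) (kc xc25 yc2 zc12) (kc xc20 yc32 zc25) (kc xc15 yc12 zc59) (kc xc23 yc31 zc37) (kc xc8 yc5 zc2) (kc xc8 yc5 zc1) (kc xc25 yc2 zc18) (kc xc25 yc2 zc19) (kc xc13 yc27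 zc57) (kc xc18 yc43 zc6) (kc xc23 yc31 zc36) (kc xc8 yc5 zc6) (kc xc25 yc2 zc26) (kc xc13 yc27 zc58) (kc xc25 yc2 zc29) (kc xc8 yc5 zc8) (kc xc14 yc0 zc8) (kc xc8 yc5 zc9) (kc xc25 yc2 zc36) (kc xc8 yc5 zc10) (kc xc23 yc35 zc10) (kc xc8 yc5 zc19) (kc xc24 yc43 zc22) (kc xc8 yc5 zc12) (kc xc8 yc5 zc13) (kc xc14 yc48 zc13) (kc xc23 yc33 zc51) (kc xc14 yc0 zc7) (kc xc25 yc2 zc42) (kc xc25 yc2 zc48) (kc xc8 yc5 zc15) (kc xc24 yc31 zc35) (kc xc25 yc1 zc22) (kc xc25 yc1 zc23) (kc xc25 yc0 zc26) (kc xc8 yc5 zc17) (kc xc23 yc43 zc28) (kc xc23 yc43 zc27) (kc xc10 yc7 zc61) (kc xc25 yc2 zc54) (kc xc25 yc2 zc57) (kc xc23 yc43 zc11) (kc xc22 yc28 zc9) (kc xc8 yc26 zc4) (kc xc8 yc26 zc5) (kc xc25 yc2 zc60) (kc xc8 yc5 zc23) (kc xc25 yc3 zc2) (kc xc8 yc5 zc21)) (@D3.rec (fun _ =>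 Pt) (kc xc25 yc3 zc5) (kc xc25 yc3 zc6) (kc xc8 yc5 zc22) (kc xc17 yc38 zc11) (kc xc10 yc9 zc25) (kc xc15 yc14 zc57) (kc xc15 yc14 zc58) (kc xc21 yc12 zc45) (kc xc10 yc11 zc46) (kc xc25 yc3 zc14) (kc xc14 yc57 zc59) (kc xc24 yc56 zc0) (kc xc16 yc35 zc53) (kc xc25 yc3 zc15) (kc xc18 yc3 zc57) (kc xc8 yc5 zc32) (kc xc25 yc3 zc18) (kc xc25 yc3 zc19) (kc xc25 yc3 zc23) (kc xc8 yc5 zc33) (kc xc24 yc55 zc56) (kc xc14 yc2 zc14) (kc xc16 yc22 zc14) (kc xc15 yc10 zc60) (kc xc15 yc10 zc61) (kc xc15 yc50 zc37) (kc xc25 yc3 zc34) (kc xc25 yc3 zc35) (kc xc25 yc3 zc36) (kc xc18 yc30 zc16) (kc xc16 yc34 zc41) (kc xc8 yc5 zc42) (kc xc18 yc3 zc55) (kc xc25 yc3 zc41) (kc xc25 yc3 zc44) (kc xc10 yc28 zc11) (kc xc16 yc8 zc6) (kc xc9 yc57 zc22) (kc xc8 yc5 zc45) (kc xc16 yc15 zc18) (kc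 xc8 yc5 zc47) (kc xc25 yc3 zc48) (kc xc8 yc45 zc3) (kc xc17 yc39 zc54) (kc xc18 yc34 zc10) (kc xc24 yc48 zc21) (kc xc8 yc5 zc54) (kc xc23 yc18 zc2) (kc xc25 yc3 zc53) (kc xc13 yc4 zc26) (kc xc8 yc5 zc55) (kc xc23 yc18 zc3) (kc xc25 yc3 zc56) (kc xc15 yc13 zc0) (kc xc15 yc13 zc9) (kc xc15 yc13 zc8) (kc xc15 yc12 zc58) (kc xc15 yc14 zc5) (kc xc15 yc14 zc6) (kc xc15 yc23 zc59) (kc xc25 yc4 zc2) (kc xc25 yc4 zc3)) (@D3.rec (fun _ => Pt) (kc xc18 yc8 zc41) (kc xc16 yc2 zc47) (kc xc8 yc6 zc2) (kc xc15 yc33 zc30) (kc xc16 yc3 zc57) (kc xc14 yc30 zc34) (kc xc14 yc30 zc35) (kc xc10 yc46 zc7) (kc xc14 yc32 zc6) (kc xc15 yc33 zc21) (kc xc23 yc0 zc49) (kc xc25 yc4 zc15) (kc xc25 yc4 zc18) (kc xc10 yc53 zc27) (kc xc25 yc4 zc20) (kc xc10 yc53 zc29) (kc xc8 yc19 zc37) (kc xc15 yc3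 zc19) (kc xc17 yc50 zc35) (kc xc16 yc40 zc46) (kc xc8 yc6 zc13) (kc xc8 yc6 zc11) (kc xc25 yc4 zc30) (kc xc8 yc6 zc12) (kc xc17 yc22 zc8) (kc xc25 yc4 zc34) (kc xc24 yc51 zc28) (kc xc24 yc48 zc43) (kc xc25 yc4 zc43) (kc xc24 yc48 zc45) (kc xc8 yc19 zc9) (kc xc25 yc4 zc53) (kc xc18 yc2 zc39) (kc xc19 yc18 zc38) (kc xc19 yc4 zc27) (kc xc15 yc58 zc32) (kc xc8 yc18 zc47) (kc xc25 yc5 zc4) (kc xc8 yc9 zc5) (kc xc8 yc28 zc18) (kc xc11 yc2 zc36) (kc xc8 yc6 zc20) (kc xc25 yc5 zc11) (kc xc25 yc5 zc10) (kc xc19 yc49 zc12) (kc xc25 yc5 zc18) (kc xc8 yc6 zc21) (kc xc22 yc56 zc53) (kc xc25 yc5 zc22) (kc xc25 yc5 zc26) (kc xc18 yc21 zc57) (kc xc22 yc48 zc6) (kc xc8 yc9 zc21) (kc xc25 yc5 zc33) (kc xc8 yc18 zc19) (kc xc15 yc58 zc40) (kc xc8 yc17 zc39) (kc xc22 yc48 zc3) (kc xc8 yc6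 zc28) (kc xc21 yc39 zc31) (kc xc25 yc5 zc47) (kc xc8 yc16 zc61)) (@D3.rec (fun _ => Pt) (kc xc11 yc2 zc31) (kc xc11 yc2 zc32) (kc xc25 yc5 zc57) (kc xc8 yc6 zc31) (kc xc25 yc5 zc60) (kc xc12 yc58 zc29) (kc xc18 yc5 zc39) (kc xc18 yc5 zc40) (kc xc10 yc42 zc61) (kc xc15 yc16 zc61) (kc xc25 yc6 zc5) (kc xc25 yc6 zc8) (kc xc20 yc55 zc1) (kc xc15 yc41 zc17) (kc xc10 yc40 zc16) (kc xc17 yc36 zc23) (kc xc8 yc27 zc20) (kc xc8 yc27 zc21) (kc xc25 yc6 zc17) (kc xc8 yc6 zc39) (kc xc21 yc1 zc59) (kc xc8 yc6 zc42) (kc xc11 yc52 zc15) (kc xc15 yc28 zc23) (kc xc19 yc57 zc52) (kc xc25 yc6 zc21) (kc xc25 yc6 zc23) (kc xc15 yc29 zc22) (kc xc12 yc15 zc57) (kc xc19 yc58 zc13) (kc xc12 yc0 zc20) (kc xc25 yc6 zc32) (kc xc8 yc6 zc45) (kc xc18 yc4 zc37) (kc xc18 yc4 zc38) (kc xc8 yc6 zc46)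 (kc xc25 yc6 zc36) (kc xc20 yc57 zc40) (kc xc20 yc55 zc8) (kc xc8 yc27 zc26) (kc xc8 yc27 zc27) (kc xc25 yc6 zc44) (kc xc8 yc6 zc54) (kc xc20 yc16 zc11) (kc xc8 yc6 zc52) (kc xc25 yc6 zc48) (kc xc8 yc6 zc53) (kc xc24 yc11 zc24) (kc xc25 yc6 zc49) (kc xc25 yc6 zc51) (kc xc19 yc11 zc17) (kc xc8 yc23 zc6) (kc xc19 yc11 zc11) (kc xc15 yc46 zc60) (kc xc20 yc1 zc60) (kc xc8 yc6 zc60) (kc xc8 yc6 zc58) (kc xc25 yc6 zc58) (kc xc18 yc2 zc25) (kc xc8 yc6 zc59) (kc xc9 yc53 zc17) (kc xc15 yc16 zc9)) (@D3.rec (fun _ => Pt) (kc xc15 yc17 zc6) (kc xc25 yc7 zc4) (kc xc8 yc11 zc55) (kc xc14 yc51 zc43) (kc xc14 yc51 zc44) (kc xc16 yc17 zc8) (kc xc15 yc17 zc0) (kc xc17 yc57 zc34) (kc xc15 yc31 zc40) (kc xc22 yc2 zc20) (kc xc19 yc7 zc46) (kc xc8 yc7 zc4) (kc xc21 yc20 zc35) (kc xc22 yc2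 zc16) (kc xc24 yc7 zc55) (kc xc25 yc7 zc25) (kc xc8 yc7 zc5) (kc xc15 yc49 zc12) (kc xc20 yc49 zc48) (kc xc21 yc34 zc49) (kc xc12 yc59 zc25) (kc xc21 yc5 zc41) (kc xc21 yc46 zc1) (kc xc15 yc31 zc50) (kc xc18 yc8 zc23) (kc xc11 yc56 zc56) (kc xc17 yc14 zc57) (kc xc8 yc7 zc11) (kc xc25 yc7 zc48) (kc xc25 yc7 zc51) (kc xc25 yc7 zc46) (kc xc25 yc7 zc45) (kc xc10 yc30 zc56) (kc xc8 yc55 zc50) (kc xc15 yc34 zc54) (kc xc25 yc7 zc61) (kc xc11 yc9 zc8) (kc xc8 yc7 zc30) (kc xc25 yc8 zc5) (kc xc8 yc7 zc31) (kc xc8 yc10 zc51) (kc xc16 yc8 zc45) (kc xc15 yc35 zc2) (kc xc25 yc8 zc18) (kc xc8 yc7 zc19) (kc xc18 yc22 zc22) (kc xc19 yc10 zc51) (kc xc8 yc9 zc37) (kc xc8 yc9 zc38) (kc xc25 yc8 zc30) (kc xc8 yc7 zc25) (kc xc16 yc9 zc34) (kc xc17 yc39 zc25) (kc xc25 yc8 zc32) (kc xc25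 yc8 zc35) (kc xc10 yc50 zc45) (kc xc10 yc50 zc47) (kc xc8 yc9 zc43) (kc xc25 yc8 zc44) (kc xc8 yc7 zc28) (kc xc25 yc8 zc49) (kc xc21 yc43 zc16)) (@D3.rec (fun _ => Pt) (kc xc8 yc7 zc29) (kc xc25 yc8 zc55) (kc xc25 yc8 zc2) (kc xc25 yc8 zc58) (kc xc13 yc32 zc11) (kc xc25 yc8 zc10) (kc xc10 yc36 zc46) (kc xc8 yc47 zc36) (kc xc10 yc47 zc21) (kc xc13 yc43 zc33) (kc xc8 yc27 zc44) (kc xc13 yc43 zc36) (kc xc13 yc43 zc35) (kc xc13 yc28 zc15) (kc xc19 yc11 zc5) (kc xc11 yc8 zc25) (kc xc19 yc54 zc20) (kc xc19 yc31 zc6) (kc xc13 yc31 zc60) (kc xc8 yc7 zc39) (kc xc24 yc37 zc20) (kc xc8 yc27 zc45) (kc xc8 yc27 zc46) (kc xc10 yc34 zc6) (kc xc8 yc7 zc43) (kc xc24 yc0 zc26) (kc xc24 yc29 zc24) (kc xc10 yc34 zc4) (kc xc24 yc48 zc40) (kc xc16 yc51 zc16) (kc xc16 yc9 zc35) (kc xc24 yc49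 zc32) (kc xc25 yc9 zc14) (kc xc15 yc53 zc10) (kc xc8 yc7 zc58) (kc xc25 yc9 zc20) (kc xc8 yc7 zc59) (kc xc15 yc41 zc39) (kc xc25 yc9 zc29) (kc xc10 yc40 zc56) (kc xc16 yc9 zc1) (kc xc16 yc9 zc2) (kc xc15 yc48 zc21) (kc xc8 yc7 zc56) (kc xc25 yc9 zc34) (kc xc19 yc37 zc13) (kc xc8 yc7 zc57) (kc xc25 yc9 zc38) (kc xc25 yc9 zc42) (kc xc25 yc9 zc45) (kc xc20 yc3 zc40) (kc xc20 yc3 zc41) (kc xc8 yc7 zc60) (kc xc10 yc51 zc47) (kc xc25 yc9 zc53) (kc xc8 yc8 zc2) (kc xc8 yc8 zc1) (kc xc12 yc43 zc7) (kc xc25 yc9 zc59) (kc xc8 yc8 zc4) (kc xc8 yc8 zc5) (kc xc17 yc37 zc28)) (@D3.rec (fun _ => Pt) (kc xc15 yc48 zc19) (kc xc25 yc10 zc2) (kc xc8 yc8 zc7) (kc xc17 yc31 zc5) (kc xc17 yc35 zc13) (kc xc15 yc48 zc17) (kc xc20 yc0 zc9) (kc xc8 yc56 zc61) (kc xc8 yc23 zc60) (kc xc25 yc10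 zc9) (kc xc10 yc59 zc5) (kc xc8 yc8 zc18) (kc xc25 yc10 zc13) (kc xc8 yc8 zc19) (kc xc17 yc42 zc23) (kc xc16 yc40 zc44) (kc xc15 yc3 zc22) (kc xc19 yc41 zc13) (kc xc8 yc8 zc15) (kc xc8 yc8 zc14) (kc xc22 yc24 zc61) (kc xc15 yc20 zc48) (kc xc8 yc8 zc16) (kc xc25 yc10 zc26) (kc xc22 yc5 zc53) (kc xc8 yc8 zc17) (kc xc25 yc10 zc12) (kc xc16 yc37 zc16) (kc xc15 yc36 zc49) (kc xc25 yc10 zc15) (kc xc10 yc39 zc27) (kc xc25 yc10 zc33) (kc xc10 yc54 zc7) (kc xc10 yc32 zc50) (kc xc8 yc28 zc6) (kc xc25 yc10 zc39) (kc xc16 yc4 zc21) (kc xc8 yc8 zc22) (kc xc18 yc18 zc12) (kc xc8 yc8 zc24) (kc xc25 yc10 zc45) (kc xc18 yc2 zc28) (kc xc18 yc2 zc54) (kc xc14 yc57 zc58) (kc xc8 yc8 zc26) (kc xc25 yc10 zc49) (kc xc25 yc4 zc31) (kc xc25 yc10 zc53) (kc xc8 yc8 zc29) (kc xc8 yc8 zc28) (kc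 xc8 yc8 zc30) (kc xc8 yc28 zc7) (kc xc18 yc19 zc43) (kc xc8 yc8 zc32) (kc xc24 yc48 zc48) (kc xc24 yc48 zc49) (kc xc15 yc2 zc48) (kc xc24 yc58 zc38) (kc xc15 yc53 zc44) (kc xc8 yc8 zc42) (kc xc25 yc11 zc3) (kc xc8 yc8 zc43)) (@D3.rec (fun _ => Pt) (kc xc15 yc44 zc31) (kc xc15 yc1 zc5) (kc xc21 yc43 zc10) (kc xc8 yc8 zc39) (kc xc24 yc51 zc4) (kc xc8 yc8 zc40) (kc xc15 yc21 zc3) (kc xc8 yc8 zc41) (kc xc25 yc11 zc23) (kc xc25 yc11 zc0) (kc xc25 yc11 zc25) (kc xc22 yc53 zc56) (kc xc25 yc11 zc8) (kc xc25 yc11 zc29) (kc xc16 yc26 zc56) (kc xc8 yc28 zc14) (kc xc10 yc40 zc4) (kc xc25 yc11 zc35) (kc xc17 yc57 zc23) (kc xc8 yc47 zc27) (kc xc16 yc27 zc39) (kc xc10 yc56 zc46) (kc xc21 yc4 zc18) (kc xc8 yc8 zc50) (kc xc8 yc8 zc49) (kc xc25 yc11 zc43) (kc xc19 yc38 zc11) (kc xc8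 yc8 zc51) (kc xc21 yc49 zc34) (kc xc25 yc11 zc45) (kc xc8 yc8 zc53) (kc xc8 yc54 zc36) (kc xc16 yc46 zc55) (kc xc8 yc58 zc22) (kc xc17 yc56 zc22) (kc xc18 yc1 zc58) (kc xc21 yc3 zc34) (kc xc8 yc58 zc27) (kc xc25 yc10 zc43) (kc xc25 yc10 zc44) (kc xc8 yc8 zc58) (kc xc19 yc6 zc2) (kc xc15 yc2 zc34) (kc xc8 yc8 zc60) (kc xc14 yc43 zc43) (kc xc8 yc8 zc61) (kc xc24 yc20 zc4) (kc xc15 yc54 zc31) (kc xc15 yc19 zc21) (kc xc23 yc36 zc5) (kc xc14 yc42 zc4) (kc xc25 yc12 zc5) (kc xc16 yc27 zc40) (kc xc9 yc47 zc17) (kc xc8 yc9 zc3) (kc xc16 yc27 zc2) (kc xc25 yc5 zc5) (kc xc25 yc12 zc10) (kc xc8 yc9 zc6) (kc xc25 yc12 zc12) (kc xc19 yc4 zc50) (kc xc15 yc49 zc59)) (@D3.rec (fun _ => Pt) (kc xc10 yc46 zc55) (kc xc19 yc17 zc23) (kc xc15 yc49 zc60) (kc xc15 yc20 zc6) (kc xc10 yc58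 zc49) (kc xc19 yc17 zc22) (kc xc25 yc12 zc22) (kc xc8 yc9 zc10) (kc xc8 yc9 zc11) (kc xc8 yc9 zc9) (kc xc21 yc47 zc43) (kc xc25 yc5 zc13) (kc xc25 yc12 zc30) (kc xc24 yc16 zc33) (kc xc24 yc15 zc4) (kc xc8 yc54 zc35) (kc xc16 yc36 zc51) (kc xc8 yc9 zc12) (kc xc25 yc9 zc31) (kc xc25 yc12 zc36) (kc xc25 yc12 zc34) (kc xc25 yc12 zc43) (kc xc8 yc9 zc15) (kc xc8 yc9 zc14) (kc xc14 yc47 zc53) (kc xc25 yc5 zc23) (kc xc14 yc52 zc25) (kc xc24 yc16 zc32) (kc xc8 yc9 zc16) (kc xc25 yc12 zc48) (kc xc8 yc27 zc6) (kc xc8 yc9 zc17) (kc xc25 yc12 zc56) (kc xc25 yc11 zc18) (kc xc8 yc9 zc18) (kc xc25 yc13 zc0) (kc xc15 yc50 zc2) (kc xc22 yc29 zc28) (kc xc8 yc9 zc20) (kc xc12 yc41 zc46) (kc xc25 yc13 zc7) (kc xc25 yc13 zc4) (kc xc24 yc15 zc43) (kc xc25 yc13 zc11) (kc xc25 yc13 zc13) (kc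 xc19 yc54 zc6) (kc xc25 yc13 zc19) (kc xc8 yc28 zc37) (kc xc25 yc13 zc21) (kc xc8 yc28 zc39) (kc xc8 yc59 zc40) (kc xc25 yc13 zc27) (kc xc9 yc44 zc30) (kc xc25 yc13 zc29) (kc xc25 yc13 zc31) (kc xc11 yc8 zc38) (kc xc21 yc46 zc22) (kc xc21 yc46 zc23) (kc xc8 yc9 zc27) (kc xc20 yc58 zc58) (kc xc17 yc21 zc39) (kc xc8 yc9 zc30)) (@D3.rec (fun _ => Pt) (kc xc25 yc13 zc42) (kc xc8 yc9 zc29) (kc xc19 yc57 zc11) (kc xc8 yc9 zc31) (kc xc25 yc13 zc45) (kc xc25 yc13 zc44) (kc xc25 yc13 zc43) (kc xc25 yc13 zc46) (kc xc8 yc9 zc34) (kc xc8 yc9 zc33) (kc xc25 yc13 zc49) (kc xc25 yc13 zc51) (kc xc16 yc44 zc22) (kc xc16 yc44 zc23) (kc xc8 yc36 zc44) (kc xc8 yc36 zc45) (kc xc25 yc13 zc61) (kc xc8 yc9 zc39) (kc xc25 yc14 zc0) (kc xc10 yc36 zc3) (kc xc14 yc39 zc32) (kc xc25 yc14 zc1) (kc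 xc25 yc14 zc3) (kc xc19 yc3 zc35) (kc xc19 yc3 zc36) (kc xc8 yc36 zc42) (kc xc25 yc14 zc13) (kc xc8 yc9 zc44) (kc xc8 yc53 zc58) (kc xc14 yc50 zc13) (kc xc16 yc44 zc48) (kc xc16 yc44 zc45) (kc xc9 yc46 zc21) (kc xc9 yc46 zc22) (kc xc20 yc49 zc26) (kc xc13 yc32 zc4) (kc xc13 yc32 zc5) (kc xc19 yc28 zc38) (kc xc9 yc47 zc11) (kc xc14 yc36 zc57) (kc xc19 yc3 zc52) (kc xc16 yc27 zc23) (kc xc8 yc9 zc55) (kc xc24 yc34 zc25) (kc xc11 yc53 zc36) (kc xc8 yc10 zc0) (kc xc18 yc42 zc32) (kc xc18 yc42 zc33) (kc xc22 yc28 zc13) (kc xc11 yc9 zc53) (kc xc11 yc10 zc3) (kc xc8 yc10 zc7) (kc xc8 yc10 zc8) (kc xc8 yc41 zc25) (kc xc25 yc14 zc45) (kc xc8 yc10 zc4) (kc xc16 yc36 zc17) (kc xc15 yc41 zc54) (kc xc8 yc10 zc5) (kc xc25 yc14 zc50) (kc xc25 yc14 zc55) (kc xc8 yc10 zc6)) (@D3.rec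 (fun _ => Pt) (kc xc25 yc14 zc58) (kc xc14 yc51 zc13) (kc xc25 yc15 zc4) (kc xc25 yc15 zc8) (kc xc19 yc15 zc36) (kc xc14 yc49 zc18) (kc xc25 yc9 zc48) (kc xc8 yc10 zc9) (kc xc25 yc15 zc18) (kc xc10 yc38 zc17) (kc xc15 yc45 zc13) (kc xc12 yc23 zc36) (kc xc19 yc4 zc14) (kc xc25 yc15 zc26) (kc xc8 yc10 zc14) (kc xc8 yc10 zc13) (kc xc16 yc44 zc41) (kc xc25 yc15 zc30) (kc xc16 yc2 zc50) (kc xc8 yc10 zc17) (kc xc25 yc15 zc35) (kc xc16 yc3 zc43) (kc xc8 yc10 zc18) (kc xc17 yc37 zc25) (kc xc25 yc15 zc39) (kc xc8 yc10 zc20) (kc xc25 yc15 zc43) (kc xc18 yc8 zc31) (kc xc17 yc37 zc23) (kc xc12 yc6 zc40) (kc xc8 yc42 zc51) (kc xc8 yc10 zc26) (kc xc8 yc10 zc27) (kc xc25 yc15 zc52) (kc xc25 yc15 zc50) (kc xc8 yc10 zc29) (kc xc25 yc15 zc58) (kc xc25 yc15 zc57) (kc xc8 yc10 zc33) (kc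 xc25 yc15 zc61) (kc xc8 yc10 zc34) (kc xc25 yc16 zc3) (kc xc8 yc10 zc35) (kc xc10 yc17 zc61) (kc xc8 yc10 zc36) (kc xc25 yc16 zc7) (kc xc15 yc4 zc40) (kc xc18 yc23 zc58) (kc xc11 yc35 zc41) (kc xc8 yc10 zc39) (kc xc15 yc30 zc40) (kc xc11 yc35 zc21) (kc xc21 yc2 zc45) (kc xc15 yc10 zc28) (kc xc15 yc10 zc29) (kc xc25 yc16 zc23) (kc xc14 yc9 zc35) (kc xc25 yc16 zc27) (kc xc16 yc16 zc58) (kc xc15 yc14 zc59) (kc xc15 yc12 zc26) (kc xc8 yc16 zc38)) (@D3.rec (fun _ => Pt) (kc xc8 yc53 zc5) (kc xc8 yc16 zc37) (kc xc8 yc40 zc20) (kc xc8 yc53 zc2) (kc xc8 yc18 zc58) (kc xc23 yc30 zc35) (kc xc9 yc46 zc0) (kc xc16 yc5 zc19) (kc xc19 yc42 zc35) (kc xc8 yc53 zc13) (kc xc8 yc53 zc12) (kc xc16 yc38 zc5) (kc xc16 yc1 zc41) (kc xc15 yc47 zc5) (kc xc18 yc43 zc60) (kc xc24 yc22 zc55) (kc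 xc25 yc8 zc12) (kc xc15 yc28 zc15) (kc xc8 yc52 zc26) (kc xc8 yc10 zc54) (kc xc8 yc28 zc52) (kc xc8 yc52 zc19) (kc xc8 yc10 zc56) (kc xc19 yc7 zc40) (kc xc25 yc16 zc49) (kc xc8 yc52 zc10) (kc xc11 yc16 zc15) (kc xc16 yc36 zc12) (kc xc8 yc10 zc61) (kc xc11 yc52 zc51) (kc xc8 yc11 zc11) (kc xc8 yc11 zc2) (kc xc11 yc52 zc55) (kc xc11 yc52 zc56) (kc xc20 yc56 zc14) (kc xc15 yc30 zc49) (kc xc8 yc11 zc5) (kc xc16 yc34 zc53) (kc xc19 yc18 zc20) (kc xc15 yc27 zc52) (kc xc10 yc1 zc46) (kc xc8 yc11 zc8) (kc xc25 yc16 zc59) (kc xc15 yc36 zc33) (kc xc25 yc16 zc58) (kc xc10 yc20 zc44) (kc xc10 yc16 zc33) (kc xc10 yc15 zc33) (kc xc15 yc29 zc45) (kc xc10 yc16 zc36) (kc xc16 yc11 zc12) (kc xc16 yc42 zc26) (kc xc13 yc57 zc2) (kc xc10 yc16 zc42) (kc xc10 yc33 zc10) (kc xc10 yc33 zc11)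 (kc xc8 yc11 zc15) (kc xc8 yc11 zc14) (kc xc8 yc11 zc19) (kc xc8 yc11 zc18) (kc xc11 yc55 zc8) (kc xc10 yc46 zc42)) (@D3.rec (fun _ => Pt) (kc xc11 yc45 zc48) (kc xc25 yc17 zc13) (kc xc16 yc36 zc6) (kc xc10 yc15 zc38) (kc xc23 yc56 zc10) (kc xc8 yc11 zc23) (kc xc11 yc53 zc18) (kc xc11 yc53 zc19) (kc xc20 yc55 zc20) (kc xc8 yc16 zc15) (kc xc8 yc15 zc46) (kc xc12 yc54 zc37) (kc xc12 yc54 zc36) (kc xc20 yc55 zc16) (kc xc25 yc17 zc30) (kc xc20 yc55 zc18) (kc xc10 yc1 zc49) (kc xc10 yc1 zc52) (kc xc16 yc35 zc51) (kc xc10 yc33 zc42) (kc xc10 yc33 zc43) (kc xc10 yc58 zc9) (kc xc8 yc11 zc31) (kc xc8 yc11 zc29) (kc xc12 yc20 zc33) (kc xc8 yc11 zc30) (kc xc11 yc49 zc13) (kc xc13 yc45 zc55) (kc xc24 yc34 zc33) (kc xc13 yc45 zc54) (kc xc17 yc23 zc56) (kc xc16 yc35 zc48) (kc xc15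 yc41 zc60) (kc xc10 yc38 zc54) (kc xc25 yc17 zc44) (kc xc8 yc11 zc38) (kc xc17 yc8 zc53) (kc xc22 yc55 zc22) (kc xc16 yc11 zc22) (kc xc16 yc11 zc23) (kc xc10 yc16 zc28) (kc xc20 yc52 zc44) (kc xc15 yc32 zc2) (kc xc19 yc9 zc45) (kc xc19 yc8 zc48) (kc xc16 yc38 zc36) (kc xc16 yc38 zc29) (kc xc10 yc22 zc11) (kc xc25 yc17 zc49) (kc xc25 yc17 zc50) (kc xc10 yc1 zc59) (kc xc8 yc11 zc48) (kc xc25 yc17 zc52) (kc xc16 yc25 zc35) (kc xc25 yc17 zc51) (kc xc8 yc52 zc27) (kc xc10 yc35 zc18) (kc xc8 yc55 zc34) (kc xc8 yc11 zc51) (kc xc25 yc17 zc58) (kc xc8 yc11 zc52) (kc xc25 yc17 zc59)) (@D3.rec (fun _ => Pt) (kc xc15 yc55 zc20) (kc xc8 yc11 zc53) (kc xc25 yc18 zc1) (kc xc19 yc2 zc43) (kc xc8 yc11 zc54) (kc xc8 yc11 zc56) (kc xc17 yc16 zc3) (kc xc20 yc45 zc39) (kc xc8 yc12 zc0)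 (kc xc12 yc30 zc15) (kc xc24 yc47 zc25) (kc xc25 yc18 zc7) (kc xc10 yc18 zc46) (kc xc9 yc47 zc32) (kc xc9 yc47 zc30) (kc xc25 yc18 zc9) (kc xc15 yc5 zc18) (kc xc11 yc35 zc42) (kc xc9 yc25 zc9) (kc xc20 yc30 zc61) (kc xc20 yc31 zc0) (kc xc18 yc43 zc5) (kc xc8 yc12 zc21) (kc xc23 yc20 zc42) (kc xc20 yc32 zc26) (kc xc24 yc46 zc6) (kc xc18 yc24 zc32) (kc xc25 yc16 zc13) (kc xc8 yc12 zc25) (kc xc11 yc57 zc49) (kc xc18 yc42 zc48) (kc xc11 yc38 zc8) (kc xc9 yc12 zc43) (kc xc8 yc12 zc29) (kc xc25 yc18 zc22) (kc xc9 yc51 zc21) (kc xc20 yc31 zc28) (kc xc18 yc42 zc47) (kc xc25 yc16 zc12) (kc xc8 yc12 zc32) (kc xc25 yc18 zc32) (kc xc8 yc12 zc33) (kc xc20 yc33 zc36) (kc xc25 yc16 zc14) (kc xc20 yc33 zc48) (kc xc17 yc57 zc44) (kc xc25 yc16 zc11) (kc xc18 yc21 zc13) (kc xc18 yc21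 zc12) (kc xc25 yc16 zc10) (kc xc8 yc12 zc41) (kc xc12 yc11 zc33) (kc xc14 yc20 zc24) (kc xc21 yc53 zc28) (kc xc11 yc34 zc45) (kc xc11 yc33 zc53) (kc xc10 yc45 zc37) (kc xc25 yc18 zc38) (kc xc25 yc16 zc2) (kc xc25 yc15 zc60) (kc xc8 yc12 zc44) (kc xc25 yc18 zc41)) (@D3.rec (fun _ => Pt) (kc xc22 yc52 zc20) (kc xc10 yc3 zc57) (kc xc25 yc18 zc46) (kc xc8 yc12 zc49) (kc xc8 yc12 zc50) (kc xc17 yc18 zc12) (kc xc25 yc18 zc48) (kc xc20 yc33 zc41) (kc xc20 yc33 zc42) (kc xc21 yc20 zc15) (kc xc8 yc12 zc51) (kc xc17 yc5 zc42) (kc xc20 yc54 zc12) (kc xc17 yc16 zc0) (kc xc8 yc29 zc48) (kc xc9 yc37 zc53) (kc xc8 yc29 zc46) (kc xc21 yc8 zc52) (kc xc15 yc44 zc44) (kc xc15 yc3 zc27) (kc xc8 yc43 zc11) (kc xc15 yc43 zc44) (kc xc15 yc40 zc14) (kc xc18 yc52 zc17) (kc xc11 yc24 zc37) (kc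 xc16 yc3 zc15) (kc xc10 yc24 zc4) (kc xc11 yc52 zc36) (kc xc17 yc35 zc42) (kc xc11 yc52 zc35) (kc xc8 yc15 zc22) (kc xc11 yc52 zc28) (kc xc8 yc13 zc5) (kc xc20 yc56 zc41) (kc xc25 yc19 zc19) (kc xc22 yc5 zc31) (kc xc25 yc19 zc25) (kc xc9 yc31 zc53) (kc xc25 yc19 zc29) (kc xc12 yc55 zc61) (kc xc11 yc54 zc22) (kc xc8 yc13 zc9) (kc xc8 yc13 zc22) (kc xc8 yc13 zc12) (kc xc19 yc7 zc23) (kc xc10 yc37 zc12) (kc xc20 yc54 zc60) (kc xc18 yc44 zc35) (kc xc8 yc13 zc16) (kc xc10 yc40 zc14) (kc xc10 yc40 zc15) (kc xc19 yc19 zc14) (kc xc15 yc24 zc39) (kc xc10 yc37 zc9) (kc xc8 yc13 zc18) (kc xc10 yc29 zc40) (kc xc10 yc25 zc12) (kc xc10 yc37 zc13) (kc xc10 yc24 zc58) (kc xc10 yc0 zc56) (kc xc10 yc37 zc14) (kc xc10 yc0 zc55)) (@D3.rec (fun _ => Pt) (kc xc25 yc19 zc52) (kc xc24 yc22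 zc56) (kc xc24 yc1 zc22) (kc xc25 yc19 zc57) (kc xc23 yc59 zc45) (kc xc8 yc38 zc34) (kc xc11 yc54 zc16) (kc xc11 yc52 zc42) (kc xc10 yc1 zc13) (kc xc25 yc20 zc9) (kc xc8 yc13 zc27) (kc xc8 yc13 zc25) (kc xc8 yc13 zc26) (kc xc8 yc13 zc33) (kc xc10 yc43 zc40) (kc xc15 yc24 zc17) (kc xc8 yc13 zc32) (kc xc25 yc20 zc18) (kc xc20 yc59 zc6) (kc xc25 yc20 zc13) (kc xc9 yc32 zc15) (kc xc19 yc36 zc24) (kc xc11 yc54 zc14) (kc xc15 yc16 zc23) (kc xc25 yc20 zc34) (kc xc10 yc33 zc56) (kc xc10 yc33 zc57) (kc xc19 yc2 zc54) (kc xc8 yc29 zc29) (kc xc8 yc29 zc10) (kc xc25 yc20 zc43) (kc xc25 yc20 zc46) (kc xc19 yc2 zc49) (kc xc16 yc11 zc28) (kc xc19 yc2 zc51) (kc xc10 yc37 zc16) (kc xc10 yc37 zc17) (kc xc11 yc53 zc56) (kc xc11 yc53 zc12) (kc xc11 yc53 zc13) (kc xc25 yc21 zc3) (kc xc8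 yc13 zc43) (kc xc8 yc13 zc41) (kc xc21 yc23 zc56) (kc xc8 yc13 zc42) (kc xc10 yc44 zc39) (kc xc10 yc44 zc40) (kc xc15 yc32 zc52) (kc xc24 yc7 zc53) (kc xc17 yc32 zc44) (kc xc15 yc32 zc48) (kc xc8 yc14 zc32) (kc xc15 yc32 zc50) (kc xc11 yc53 zc47) (kc xc10 yc35 zc40) (kc xc10 yc35 zc41) (kc xc25 yc21 zc23) (kc xc8 yc13 zc49) (kc xc8 yc13 zc48) (kc xc25 yc21 zc27) (kc xc25 yc7 zc5) (kc xc15 yc47 zc15)) (@D3.rec (fun _ => Pt) (kc xc17 yc36 zc1) (kc xc10 yc3 zc34) (kc xc11 yc53 zc34) (kc xc25 yc21 zc42) (kc xc15 yc36 zc39) (kc xc10 yc37 zc6) (kc xc25 yc21 zc48) (kc xc10 yc35 zc15) (kc xc8 yc14 zc27) (kc xc15 yc56 zc30) (kc xc25 yc21 zc54) (kc xc19 yc26 zc57) (kc xc11 yc32 zc55) (kc xc19 yc27 zc10) (kc xc18 yc52 zc48) (kc xc18 yc52 zc23) (kc xc25 yc22 zc2) (kc xc25 yc22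 zc5) (kc xc8 yc13 zc58) (kc xc25 yc22 zc8) (kc xc18 yc52 zc24) (kc xc8 yc14 zc40) (kc xc15 yc16 zc27) (kc xc11 yc53 zc5) (kc xc11 yc52 zc54) (kc xc25 yc22 zc7) (kc xc8 yc14 zc1) (kc xc25 yc22 zc29) (kc xc25 yc22 zc32) (kc xc25 yc22 zc28) (kc xc11 yc52 zc37) (kc xc8 yc55 zc36) (kc xc20 yc5 zc24) (kc xc8 yc14 zc4) (kc xc25 yc22 zc45) (kc xc25 yc22 zc44) (kc xc8 yc14 zc5) (kc xc25 yc22 zc46) (kc xc20 yc23 zc33) (kc xc10 yc43 zc44) (kc xc25 yc2 zc30) (kc xc8 yc39 zc4) (kc xc8 yc38 zc5) (kc xc21 yc29 zc18) (kc xc8 yc14 zc10) (kc xc15 yc24 zc48) (kc xc10 yc47 zc36) (kc xc9 yc53 zc3) (kc xc17 yc34 zc17) (kc xc10 yc43 zc16) (kc xc8 yc14 zc18) (kc xc9 yc54 zc26) (kc xc8 yc14 zc19) (kc xc15 yc52 zc36) (kc xc25 yc23 zc3) (kc xc8 yc14 zc16) (kc xc25 yc20 zc22) (kc xc8 yc14 zc17)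 (kc xc25 yc23 zc9) (kc xc8 yc38 zc57) (kc xc8 yc39 zc12) (kc xc8 yc39 zc13)) (@D3.rec (fun _ => Pt) (kc xc22 yc44 zc47) (kc xc8 yc14 zc24) (kc xc10 yc56 zc40) (kc xc8 yc14 zc22) (kc xc25 yc23 zc22) (kc xc20 yc55 zc10) (kc xc8 yc14 zc23) (kc xc25 yc23 zc26) (kc xc8 yc14 zc25) (kc xc9 yc32 zc52) (kc xc25 yc21 zc51) (kc xc17 yc33 zc43) (kc xc8 yc14 zc28) (kc xc25 yc23 zc28) (kc xc11 yc56 zc27) (kc xc20 yc57 zc60) (kc xc10 yc45 zc2) (kc xc10 yc45 zc13) (kc xc8 yc14 zc31) (kc xc25 yc21 zc56) (kc xc25 yc23 zc37) (kc xc25 yc23 zc36) (kc xc11 yc56 zc21) (kc xc16 yc11 zc32) (kc xc22 yc5 zc23) (kc xc8 yc14 zc35) (kc xc17 yc9 zc37) (kc xc8 yc14 zc36) (kc xc16 yc59 zc42) (kc xc19 yc27 zc37) (kc xc11 yc58 zc28) (kc xc24 yc18 zc46) (kc xc8 yc14 zc39) (kc xc25 yc22 zc38) (kc xc25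 yc23 zc45) (kc xc17 yc4 zc18) (kc xc20 yc41 zc23) (kc xc11 yc49 zc47) (kc xc10 yc43 zc56) (kc xc8 yc14 zc44) (kc xc15 yc23 zc50) (kc xc23 yc25 zc16) (kc xc8 yc14 zc54) (kc xc14 yc24 zc5) (kc xc16 yc42 zc16) (kc xc19 yc10 zc6) (kc xc20 yc19 zc28) (kc xc25 yc23 zc50) (kc xc20 yc20 zc39) (kc xc15 yc24 zc35) (kc xc8 yc15 zc2) (kc xc16 yc0 zc41) (kc xc10 yc54 zc2) (kc xc9 yc51 zc56) (kc xc8 yc15 zc4) (kc xc18 yc51 zc41) (kc xc10 yc53 zc33) (kc xc8 yc52 zc40) (kc xc17 yc16 zc46) (kc xc9 yc24 zc46) (kc xc15 yc58 zc59) (kc xc15 yc58 zc60)) (@D3.rec (fun _ => Pt) (kc xc25 yc23 zc59) (kc xc25 yc24 zc1) (kc xc15 yc0 zc50) (kc xc25 yc24 zc5) (kc xc15 yc33 zc13) (kc xc10 yc26 zc16) (kc xc24 yc11 zc13) (kc xc23 yc56 zc45) (kc xc15 yc55 zc4) (kc xc22 yc48 zc12) (kc xc15 yc55 zc6)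 (kc xc18 yc51 zc40) (kc xc11 yc4 zc11) (kc xc15 yc51 zc56) (kc xc25 yc24 zc18) (kc xc8 yc15 zc16) (kc xc8 yc15 zc14) (kc xc8 yc15 zc15) (kc xc25 yc24 zc21) (kc xc22 yc38 zc48) (kc xc22 yc38 zc47) (kc xc15 yc55 zc16) (kc xc23 yc20 zc25) (kc xc15 yc55 zc18) (kc xc13 yc35 zc47) (kc xc18 yc51 zc26) (kc xc16 yc18 zc58) (kc xc8 yc15 zc21) (kc xc8 yc15 zc20) (kc xc12 yc57 zc49) (kc xc18 yc33 zc34) (kc xc25 yc19 zc14) (kc xc25 yc19 zc15) (kc xc22 yc11 zc58) (kc xc21 yc3 zc39) (kc xc19 yc2 zc57) (kc xc22 yc20 zc23) (kc xc19 yc2 zc59) (kc xc9 yc32 zc1) (kc xc10 yc24 zc21) (kc xc15 yc17 zc8) (kc xc15 yc52 zc55) (kc xc16 yc10 zc3) (kc xc8 yc15 zc28) (kc xc25 yc24 zc49) (kc xc24 yc38 zc9) (kc xc13 yc21 zc50) (kc xc8 yc15 zc29) (kc xc22 yc52 zc53) (kc xc14 yc19 zc17) (kc xc15 yc17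 zc23) (kc xc24 yc18 zc37) (kc xc10 yc26 zc9) (kc xc25 yc25 zc1) (kc xc10 yc26 zc7) (kc xc14 yc19 zc0) (kc xc8 yc15 zc36) (kc xc22 yc47 zc4) (kc xc22 yc47 zc1) (kc xc25 yc25 zc11) (kc xc15 yc32 zc17) (kc xc25 yc25 zc17)) (@D3.rec (fun _ => Pt) (kc xc10 yc30 zc30) (kc xc8 yc15 zc40) (kc xc15 yc25 zc42) (kc xc24 yc49 zc60) (kc xc11 yc51 zc27) (kc xc25 yc25 zc21) (kc xc25 yc25 zc24) (kc xc8 yc16 zc13) (kc xc25 yc25 zc27) (kc xc18 yc19 zc61) (kc xc12 yc7 zc16) (kc xc10 yc25 zc4) (kc xc19 yc1 zc54) (kc xc19 yc1 zc57) (kc xc17 yc45 zc49) (kc xc23 yc56 zc56) (kc xc10 yc26 zc25) (kc xc15 yc31 zc60) (kc xc8 yc15 zc55) (kc xc10 yc22 zc0) (kc xc14 yc30 zc12) (kc xc22 yc38 zc46) (kc xc15 yc56 zc12) (kc xc13 yc32 zc36) (kc xc15 yc56 zc14) (kc xc10 yc24 zc48) (kc xc10 yc24 zc12) (kc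 xc23 yc10 zc59) (kc xc23 yc10 zc60) (kc xc13 yc23 zc33) (kc xc22 yc52 zc28) (kc xc9 yc31 zc61) (kc xc10 yc24 zc19) (kc xc10 yc24 zc20) (kc xc8 yc16 zc4) (kc xc8 yc16 zc2) (kc xc17 yc22 zc5) (kc xc8 yc16 zc3) (kc xc19 yc27 zc2) (kc xc19 yc8 zc24) (kc xc10 yc34 zc17) (kc xc19 yc8 zc53) (kc xc10 yc34 zc19) (kc xc13 yc44 zc39) (kc xc8 yc29 zc45) (kc xc18 yc51 zc27) (kc xc17 yc34 zc32) (kc xc20 yc59 zc23) (kc xc15 yc28 zc50) (kc xc14 yc35 zc33) (kc xc15 yc28 zc52) (kc xc10 yc47 zc18) (kc xc15 yc28 zc47) (kc xc25 yc17 zc24) (kc xc9 yc31 zc58) (kc xc19 yc14 zc12) (kc xc8 yc16 zc11) (kc xc25 yc26 zc18) (kc xc25 yc26 zc16) (kc xc9 yc31 zc56) (kc xc25 yc26 zc22) (kc xc25 yc26 zc24)) (@D3.rec (fun _ => Pt) (kc xc25 yc26 zc26) (kc xc8 yc16 zc14) (kc xc25 yc26 zc31) (kc xc25 yc17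 zc25) (kc xc19 yc8 zc57) (kc xc16 yc46 zc48) (kc xc22 yc37 zc11) (kc xc15 yc40 zc37) (kc xc25 yc26 zc29) (kc xc8 yc16 zc19) (kc xc18 yc55 zc54) (kc xc13 yc27 zc30) (kc xc25 yc26 zc47) (kc xc15 yc31 zc4) (kc xc25 yc26 zc51) (kc xc8 yc16 zc27) (kc xc8 yc16 zc23) (kc xc8 yc24 zc37) (kc xc15 yc48 zc43) (kc xc9 yc41 zc8) (kc xc8 yc16 zc25) (kc xc15 yc15 zc9) (kc xc19 yc31 zc5) (kc xc15 yc56 zc48) (kc xc17 yc50 zc61) (kc xc12 yc20 zc49) (kc xc21 yc25 zc43) (kc xc25 yc27 zc0) (kc xc21 yc25 zc42) (kc xc18 yc51 zc22) (kc xc15 yc15 zc3) (kc xc8 yc36 zc29) (kc xc25 yc27 zc7) (kc xc8 yc16 zc31) (kc xc8 yc16 zc30) (kc xc17 yc36 zc22) (kc xc25 yc27 zc10) (kc xc17 yc37 zc46) (kc xc17 yc38 zc30) (kc xc25 yc27 zc17) (kc xc17 yc38 zc31) (kc xc18 yc51 zc20) (kc xc25 yc27 zc22) (kc xc8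 yc16 zc36) (kc xc8 yc16 zc35) (kc xc9 yc38 zc46) (kc xc19 yc17 zc15) (kc xc16 yc6 zc52) (kc xc25 yc16 zc34) (kc xc18 yc9 zc9) (kc xc25 yc16 zc35) (kc xc18 yc51 zc7) (kc xc15 yc39 zc34) (kc xc9 yc36 zc50) (kc xc25 yc27 zc37) (kc xc8 yc16 zc42) (kc xc8 yc16 zc41) (kc xc21 yc0 zc23) (kc xc17 yc42 zc46) (kc xc17 yc39 zc1) (kc xc9 yc35 zc57) (kc xc25 yc27 zc41)) (@D3.rec (fun _ => Pt) (kc xc9 yc35 zc59) (kc xc18 yc50 zc61) (kc xc12 yc16 zc6) (kc xc15 yc6 zc44) (kc xc13 yc27 zc27) (kc xc8 yc16 zc47) (kc xc8 yc16 zc46) (kc xc25 yc27 zc50) (kc xc25 yc27 zc52) (kc xc16 yc16 zc41) (kc xc8 yc41 zc47) (kc xc25 yc27 zc56) (kc xc8 yc41 zc49) (kc xc10 yc55 zc60) (kc xc25 yc27 zc61) (kc xc9 yc37 zc45) (kc xc25 yc28 zc1) (kc xc25 yc28 zc4) (kc xc20 yc54 zc44) (kc xc20 yc54 zc46) (kc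 xc13 yc11 zc48) (kc xc18 yc52 zc20) (kc xc25 yc7 zc2) (kc xc15 yc44 zc39) (kc xc8 yc16 zc54) (kc xc16 yc27 zc10) (kc xc25 yc28 zc20) (kc xc25 yc7 zc1) (kc xc10 yc38 zc51) (kc xc8 yc16 zc55) (kc xc9 yc47 zc8) (kc xc25 yc28 zc26) (kc xc25 yc28 zc27) (kc xc25 yc28 zc30) (kc xc25 yc28 zc33) (kc xc8 yc16 zc57) (kc xc22 yc54 zc33) (kc xc22 yc23 zc5) (kc xc10 yc50 zc12) (kc xc23 yc0 zc26) (kc xc8 yc55 zc60) (kc xc15 yc40 zc55) (kc xc22 yc54 zc34) (kc xc8 yc40 zc35) (kc xc25 yc28 zc48) (kc xc25 yc28 zc50) (kc xc8 yc17 zc34) (kc xc25 yc28 zc54) (kc xc8 yc17 zc36) (kc xc17 yc36 zc39) (kc xc8 yc36 zc39) (kc xc17 yc54 zc35) (kc xc8 yc17 zc7) (kc xc17 yc38 zc10) (kc xc15 yc17 zc34) (kc xc10 yc50 zc55) (kc xc10 yc50 zc56) (kc xc15 yc59 zc30) (kc xc25 yc29 zc1) (kc xc25 yc29 zc5)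 (kc xc24 yc48 zc33) (kc xc24 yc48 zc35)) (@D3.rec (fun _ => Pt) (kc xc24 yc1 zc40) (kc xc8 yc17 zc16) (kc xc15 yc17 zc42) (kc xc10 yc46 zc11) (kc xc16 yc43 zc19) (kc xc25 yc29 zc12) (kc xc25 yc29 zc14) (kc xc15 yc58 zc4) (kc xc16 yc27 zc43) (kc xc15 yc54 zc60) (kc xc10 yc50 zc27) (kc xc10 yc50 zc28) (kc xc8 yc17 zc22) (kc xc15 yc48 zc0) (kc xc8 yc17 zc20) (kc xc8 yc17 zc21) (kc xc9 yc39 zc5) (kc xc25 yc29 zc19) (kc xc21 yc46 zc19) (kc xc20 yc15 zc4) (kc xc15 yc49 zc31) (kc xc22 yc53 zc21) (kc xc15 yc49 zc28) (kc xc21 yc19 zc6) (kc xc24 yc35 zc57) (kc xc16 yc4 zc32) (kc xc25 yc29 zc34) (kc xc16 yc4 zc33) (kc xc9 yc44 zc50) (kc xc8 yc17 zc32) (kc xc8 yc32 zc5) (kc xc25 yc29 zc43) (kc xc25 yc29 zc50) (kc xc8 yc17 zc33) (kc xc25 yc29 zc54) (kc xc25 yc29 zc53) (kc xc25 yc29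 zc58) (kc xc21 yc25 zc45) (kc xc8 yc32 zc22) (kc xc25 yc30 zc2) (kc xc8 yc17 zc35) (kc xc25 yc30 zc5) (kc xc18 yc8 zc4) (kc xc18 yc7 zc53) (kc xc23 yc28 zc11) (kc xc23 yc44 zc17) (kc xc8 yc48 zc24) (kc xc8 yc48 zc46) (kc xc10 yc26 zc3) (kc xc10 yc26 zc10) (kc xc19 yc35 zc26) (kc xc19 yc35 zc27) (kc xc25 yc30 zc21) (kc xc25 yc5 zc42) (kc xc12 yc59 zc22) (kc xc25 yc30 zc25) (kc xc25 yc30 zc28) (kc xc25 yc30 zc31) (kc xc16 yc19 zc2) (kc xc25 yc30 zc35) (kc xc25 yc30 zc37) (kc xc8 yc17 zc42)) (@D3.rec (fun _ => Pt) (kc xc25 yc30 zc43) (kc xc8 yc42 zc38) (kc xc15 yc58 zc57) (kc xc19 yc46 zc7) (kc xc8 yc17 zc45) (kc xc23 yc49 zc6) (kc xc25 yc30 zc49) (kc xc8 yc17 zc47) (kc xc8 yc17 zc48) (kc xc10 yc32 zc13) (kc xc15 yc11 zc38) (kc xc15 yc11 zc39) (kc xc9 yc54 zc11) (kc xc25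 yc30 zc56) (kc xc8 yc17 zc50) (kc xc10 yc22 zc9) (kc xc11 yc55 zc5) (kc xc8 yc26 zc21) (kc xc18 yc16 zc29) (kc xc18 yc5 zc56) (kc xc9 yc54 zc9) (kc xc15 yc56 zc24) (kc xc8 yc40 zc14) (kc xc8 yc17 zc56) (kc xc15 yc49 zc25) (kc xc9 yc40 zc39) (kc xc8 yc17 zc58) (kc xc10 yc53 zc12) (kc xc15 yc48 zc1) (kc xc16 yc9 zc16) (kc xc25 yc31 zc3) (kc xc25 yc31 zc4) (kc xc8 yc18 zc16) (kc xc15 yc24 zc43) (kc xc8 yc18 zc18) (kc xc8 yc55 zc24) (kc xc8 yc36 zc13) (kc xc25 yc31 zc13) (kc xc8 yc18 zc4) (kc xc15 yc29 zc4) (kc xc12 yc53 zc30) (kc xc8 yc18 zc7) (kc xc8 yc18 zc6) (kc xc19 yc15 zc8) (kc xc19 yc3 zc38) (kc xc25 yc31 zc15) (kc xc25 yc31 zc16) (kc xc25 yc31 zc22) (kc xc8 yc18 zc12) (kc xc15 yc19 zc28) (kc xc15 yc58 zc7) (kc xc15 yc58 zc8) (kc xc8 yc18 zc11) (kc xc15 yc37 zc16)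 (kc xc8 yc33 zc1) (kc xc25 yc31 zc30) (kc xc8 yc18 zc14) (kc xc25 yc31 zc33) (kc xc25 yc31 zc32) (kc xc9 yc24 zc20) (kc xc8 yc18 zc15) (kc xc25 yc31 zc34)) (@D3.rec (fun _ => Pt) (kc xc9 yc28 zc61) (kc xc25 yc31 zc38) (kc xc21 yc32 zc54) (kc xc18 yc12 zc25) (kc xc18 yc11 zc27) (kc xc8 yc18 zc17) (kc xc25 yc31 zc45) (kc xc12 yc26 zc8) (kc xc9 yc20 zc22) (kc xc21 yc1 zc36) (kc xc25 yc31 zc8) (kc xc8 yc20 zc0) (kc xc20 yc56 zc0) (kc xc25 yc5 zc37) (kc xc16 yc4 zc53) (kc xc25 yc31 zc57) (kc xc15 yc36 zc53) (kc xc12 yc58 zc19) (kc xc25 yc31 zc60) (kc xc25 yc32 zc0) (kc xc25 yc32 zc2) (kc xc8 yc18 zc22) (kc xc25 yc32 zc7) (kc xc10 yc50 zc6) (kc xc25 yc32 zc13) (kc xc15 yc59 zc32) (kc xc25 yc32 zc16) (kc xc8 yc18 zc26) (kc xc8 yc18 zc27) (kc xc15 yc51 zc21) (kc xc11 yc4 zc50)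 (kc xc24 yc49 zc29) (kc xc25 yc32 zc30) (kc xc8 yc18 zc29) (kc xc25 yc32 zc33) (kc xc19 yc57 zc60) (kc xc24 yc49 zc27) (kc xc17 yc3 zc36) (kc xc15 yc59 zc56) (kc xc25 yc32 zc39) (kc xc25 yc28 zc0) (kc xc8 yc18 zc42) (kc xc17 yc39 zc8) (kc xc8 yc18 zc44) (kc xc17 yc36 zc50) (kc xc9 yc33 zc55) (kc xc25 yc32 zc48) (kc xc25 yc32 zc49) (kc xc17 yc35 zc33) (kc xc21 yc18 zc46) (kc xc12 yc59 zc45) (kc xc25 yc32 zc53) (kc xc25 yc32 zc56) (kc xc16 yc6 zc10) (kc xc14 yc57 zc41) (kc xc8 yc18 zc40) (kc xc18 yc4 zc47) (kc xc25 yc32 zc60) (kc xc8 yc18 zc41) (kc xc25 yc33 zc0) (kc xc21 yc22 zc60) (kc xc15 yc57 zc32)) (@D3.rec (fun _ => Pt) (kc xc16 yc1 zc20) (kc xc8 yc18 zc43) (kc xc25 yc33 zc9) (kc xc21 yc57 zc16) (kc xc21 yc57 zc15) (kc xc24 yc37 zc55) (kc xc25 yc9 zc55) (kc xc24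 yc9 zc16) (kc xc22 yc16 zc29) (kc xc19 yc44 zc34) (kc xc19 yc44 zc35) (kc xc25 yc33 zc27) (kc xc25 yc5 zc1) (kc xc17 yc29 zc37) (kc xc25 yc33 zc30) (kc xc15 yc45 zc2) (kc xc25 yc33 zc36) (kc xc17 yc43 zc22) (kc xc25 yc33 zc39) (kc xc25 yc33 zc42) (kc xc8 yc18 zc50) (kc xc25 yc33 zc47) (kc xc16 yc0 zc3) (kc xc24 yc52 zc11) (kc xc8 yc18 zc54) (kc xc25 yc33 zc49) (kc xc8 yc18 zc56) (kc xc11 yc9 zc20) (kc xc25 yc33 zc53) (kc xc21 yc31 zc16) (kc xc25 yc28 zc22) (kc xc25 yc27 zc51) (kc xc8 yc19 zc6) (kc xc8 yc19 zc8) (kc xc9 yc36 zc59) (kc xc9 yc36 zc49) (kc xc25 yc33 zc59) (kc xc8 yc19 zc3) (kc xc17 yc42 zc32) (kc xc10 yc10 zc10) (kc xc8 yc19 zc2) (kc xc18 yc31 zc43) (kc xc15 yc39 zc24) (kc xc8 yc19 zc4) (kc xc12 yc33 zc21) (kc xc8 yc19 zc5) (kc xc17 yc12 zc30) (kc xc18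 yc12 zc27) (kc xc21 yc31 zc13) (kc xc25 yc34 zc7) (kc xc25 yc34 zc9) (kc xc8 yc19 zc7) (kc xc25 yc34 zc12) (kc xc17 yc13 zc32) (kc xc25 yc33 zc56) (kc xc16 yc45 zc38) (kc xc16 yc45 zc39) (kc xc25 yc4 zc52) (kc xc16 yc6 zc27) (kc xc8 yc19 zc10) (kc xc14 yc11 zc3) (kc xc19 yc36 zc9)) (@D3.rec (fun _ => Pt) (kc xc14 yc11 zc4) (kc xc22 yc24 zc46) (kc xc22 yc24 zc47) (kc xc13 yc17 zc39) (kc xc8 yc19 zc15) (kc xc25 yc34 zc22) (kc xc16 yc0 zc39) (kc xc13 yc17 zc40) (kc xc14 yc13 zc34) (kc xc15 yc50 zc42) (kc xc9 yc55 zc19) (kc xc25 yc33 zc61) (kc xc8 yc19 zc19) (kc xc9 yc35 zc56) (kc xc8 yc19 zc20) (kc xc23 yc55 zc10) (kc xc25 yc34 zc34) (kc xc25 yc34 zc36) (kc xc8 yc19 zc21) (kc xc23 yc55 zc8) (kc xc8 yc19 zc22) (kc xc22 yc48 zc44) (kc xc24 yc22 zc20) (kc xc15 yc46 zc31)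 (kc xc15 yc38 zc42) (kc xc13 yc21 zc23) (kc xc8 yc19 zc25) (kc xc23 yc55 zc12) (kc xc23 yc55 zc11) (kc xc14 yc52 zc27) (kc xc19 yc14 zc45) (kc xc25 yc34 zc54) (kc xc25 yc34 zc58) (kc xc25 yc34 zc46) (kc xc15 yc33 zc52) (kc xc8 yc19 zc31) (kc xc11 yc32 zc42) (kc xc23 yc11 zc30) (kc xc25 yc4 zc60) (kc xc25 yc4 zc61) (kc xc25 yc35 zc1) (kc xc10 yc56 zc32) (kc xc25 yc33 zc44) (kc xc25 yc33 zc45) (kc xc8 yc19 zc30) (kc xc25 yc35 zc5) (kc xc25 yc16 zc33) (kc xc8 yc19 zc32) (kc xc22 yc20 zc31) (kc xc21 yc45 zc53) (kc xc8 yc19 zc33) (kc xc13 yc36 zc42) (kc xc25 yc35 zc10) (kc xc25 yc35 zc12) (kc xc24 yc45 zc6) (kc xc25 yc35 zc16) (kc xc25 yc35 zc19) (kc xc8 yc19 zc35) (kc xc25 yc35 zc21) (kc xc21 yc24 zc59) (kc xc21 yc24 zc60) (kc xc25 yc35 zc28)) (@D3.rec (fun _ => Pt) (kc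 xc21 yc58 zc29) (kc xc25 yc4 zc49) (kc xc25 yc4 zc50) (kc xc25 yc25 zc9) (kc xc23 yc1 zc33) (kc xc13 yc27 zc28) (kc xc13 yc27 zc29) (kc xc8 yc19 zc38) (kc xc22 yc59 zc34) (kc xc25 yc35 zc32) (kc xc9 yc37 zc14) (kc xc25 yc35 zc35) (kc xc9 yc27 zc57) (kc xc22 yc9 zc58) (kc xc15 yc27 zc22) (kc xc16 yc28 zc32) (kc xc9 yc29 zc7) (kc xc25 yc35 zc45) (kc xc8 yc19 zc43) (kc xc25 yc35 zc48) (kc xc8 yc23 zc25) (kc xc25 yc35 zc51) (kc xc9 yc35 zc55) (kc xc16 yc14 zc36) (kc xc8 yc19 zc45) (kc xc25 yc35 zc56) (kc xc8 yc19 zc46) (kc xc25 yc35 zc60) (kc xc25 yc36 zc1) (kc xc8 yc19 zc47) (kc xc9 yc27 zc40) (kc xc16 yc28 zc34) (kc xc8 yc19 zc48) (kc xc17 yc51 zc13) (kc xc16 yc1 zc14) (kc xc8 yc19 zc49) (kc xc25 yc25 zc5) (kc xc15 yc33 zc7) (kc xc8 yc19 zc58) (kc xc8 yc19 zc52) (kc xc12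 yc57 zc23) (kc xc17 yc14 zc55) (kc xc17 yc14 zc53) (kc xc23 yc0 zc25) (kc xc8 yc19 zc54) (kc xc24 yc13 zc39) (kc xc25 yc5 zc40) (kc xc21 yc5 zc11) (kc xc25 yc36 zc22) (kc xc10 yc51 zc35) (kc xc22 yc23 zc4) (kc xc8 yc19 zc56) (kc xc24 yc17 zc4) (kc xc25 yc5 zc35) (kc xc25 yc22 zc23) (kc xc15 yc34 zc41) (kc xc25 yc36 zc27) (kc xc25 yc36 zc30) (kc xc25 yc36 zc13) (kc xc9 yc32 zc4) (kc xc19 yc1 zc9) (kc xc14 yc39 zc23)) (@D3.rec (fun _ => Pt) (kc xc17 yc26 zc6) (kc xc14 yc22 zc30) (kc xc8 yc19 zc61) (kc xc17 yc26 zc5) (kc xc18 yc51 zc25) (kc xc14 yc27 zc53) (kc xc20 yc57 zc6) (kc xc25 yc36 zc37) (kc xc8 yc20 zc2) (kc xc25 yc36 zc42) (kc xc25 yc36 zc41) (kc xc17 yc41 zc41) (kc xc25 yc36 zc46) (kc xc17 yc41 zc40) (kc xc10 yc0 zc2) (kc xc11 yc53 zc2) (kc xc8 yc20 zc7) (kc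 xc15 yc16 zc13) (kc xc8 yc20 zc6) (kc xc8 yc20 zc8) (kc xc25 yc36 zc56) (kc xc25 yc36 zc54) (kc xc22 yc4 zc46) (kc xc11 yc53 zc1) (kc xc8 yc20 zc11) (kc xc8 yc20 zc10) (kc xc20 yc16 zc22) (kc xc20 yc16 zc21) (kc xc17 yc42 zc27) (kc xc9 yc38 zc39) (kc xc16 yc7 zc11) (kc xc25 yc37 zc5) (kc xc8 yc20 zc14) (kc xc25 yc37 zc7) (kc xc22 yc27 zc9) (kc xc14 yc7 zc53) (kc xc13 yc54 zc17) (kc xc25 yc37 zc10) (kc xc16 yc2 zc43) (kc xc15 yc18 zc37) (kc xc8 yc36 zc26) (kc xc15 yc1 zc19) (kc xc25 yc37 zc18) (kc xc8 yc20 zc20) (kc xc8 yc20 zc18) (kc xc8 yc20 zc19) (kc xc25 yc37 zc21) (kc xc11 yc2 zc33) (kc xc8 yc20 zc52) (kc xc8 yc20 zc22) (kc xc8 yc20 zc24) (kc xc24 yc49 zc20) (kc xc25 yc20 zc31) (kc xc25 yc12 zc37) (kc xc15 yc22 zc57) (kc xc9 yc37 zc34) (kc xc9 yc37 zc35) (kc xc25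 yc37 zc37) (kc xc8 yc20 zc29) (kc xc8 yc20 zc27) (kc xc15 yc25 zc32) (kc xc17 yc8 zc51)) (@D3.rec (fun _ => Pt) (kc xc17 yc14 zc26) (kc xc16 yc9 zc13) (kc xc22 yc5 zc4) (kc xc16 yc9 zc15) (kc xc11 yc5 zc12) (kc xc16 yc7 zc23) (kc xc16 yc7 zc24) (kc xc25 yc37 zc51) (kc xc8 yc20 zc34) (kc xc8 yc20 zc33) (kc xc25 yc37 zc54) (kc xc25 yc37 zc53) (kc xc25 yc37 zc55) (kc xc20 yc4 zc11) (kc xc17 yc53 zc58) (kc xc19 yc57 zc13) (kc xc17 yc38 zc51) (kc xc24 yc49 zc19) (kc xc8 yc43 zc14) (kc xc25 yc38 zc2) (kc xc8 yc20 zc39) (kc xc25 yc38 zc4) (kc xc25 yc38 zc6) (kc xc19 yc35 zc48) (kc xc20 yc1 zc34) (kc xc19 yc35 zc49) (kc xc19 yc29 zc16) (kc xc25 yc38 zc17) (kc xc16 yc19 zc61) (kc xc20 yc19 zc18) (kc xc20 yc19 zc19) (kc xc11 yc19 zc19) (kc xc8 yc55 zc17) (kc xc15 yc49 zc23) (kc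 xc24 yc50 zc42) (kc xc25 yc38 zc35) (kc xc9 yc34 zc56) (kc xc9 yc18 zc35) (kc xc12 yc27 zc33) (kc xc23 yc59 zc5) (kc xc10 yc31 zc35) (kc xc24 yc0 zc11) (kc xc19 yc42 zc34) (kc xc18 yc44 zc17) (kc xc16 yc41 zc24) (kc xc25 yc37 zc25) (kc xc25 yc38 zc44) (kc xc25 yc38 zc48) (kc xc25 yc38 zc53) (kc xc24 yc52 zc3) (kc xc25 yc27 zc4) (kc xc8 yc20 zc54) (kc xc25 yc38 zc57) (kc xc25 yc38 zc59) (kc xc8 yc20 zc55) (kc xc25 yc39 zc1) (kc xc25 yc39 zc0) (kc xc25 yc39 zc5) (kc xc25 yc39 zc8) (kc xc8 yc20 zc56) (kc xc25 yc39 zc14) (kc xc16 yc7 zc54)) (@D3.rec (fun _ => Pt) (kc xc9 yc20 zc34) (kc xc25 yc39 zc16) (kc xc24 yc44 zc43) (kc xc25 yc39 zc19) (kc xc8 yc20 zc61) (kc xc8 yc21 zc0) (kc xc8 yc21 zc1) (kc xc12 yc52 zc47) (kc xc8 yc21 zc4) (kc xc8 yc23 zc14) (kc xc25 yc39 zc23)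 (kc xc8 yc21 zc6) (kc xc12 yc13 zc16) (kc xc15 yc49 zc46) (kc xc25 yc39 zc28) (kc xc22 yc9 zc27) (kc xc25 yc39 zc30) (kc xc15 yc51 zc20) (kc xc13 yc17 zc34) (kc xc25 yc39 zc33) (kc xc9 yc36 zc2) (kc xc17 yc38 zc60) (kc xc24 yc54 zc30) (kc xc17 yc38 zc61) (kc xc12 yc56 zc11) (kc xc25 yc39 zc37) (kc xc25 yc39 zc38) (kc xc25 yc39 zc39) (kc xc25 yc39 zc42) (kc xc15 yc58 zc25) (kc xc25 yc39 zc45) (kc xc15 yc58 zc27) (kc xc21 yc26 zc59) (kc xc13 yc37 zc52) (kc xc15 yc47 zc58) (kc xc15 yc47 zc60) (kc xc15 yc49 zc24) (kc xc25 yc39 zc49) (kc xc15 yc47 zc55) (kc xc14 yc58 zc15) (kc xc14 yc42 zc31) (kc xc13 yc22 zc3) (kc xc25 yc39 zc52) (kc xc15 yc49 zc13) (kc xc15 yc27 zc21) (kc xc24 yc29 zc38) (kc xc8 yc21 zc31) (kc xc25 yc39 zc57) (kc xc25 yc39 zc59) (kc xc25 yc40 zc1) (kc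 xc18 yc34 zc55) (kc xc15 yc59 zc28) (kc xc25 yc40 zc6) (kc xc25 yc40 zc9) (kc xc25 yc40 zc13) (kc xc8 yc21 zc33) (kc xc8 yc21 zc34) (kc xc21 yc36 zc9) (kc xc25 yc40 zc20) (kc xc8 yc21 zc36) (kc xc25 yc40 zc23) (kc xc16 yc50 zc11)) (@D3.rec (fun _ => Pt) (kc xc8 yc21 zc37) (kc xc25 yc40 zc24) (kc xc11 yc8 zc47) (kc xc11 yc8 zc48) (kc xc8 yc21 zc49) (kc xc25 yc40 zc34) (kc xc8 yc21 zc39) (kc xc10 yc52 zc19) (kc xc10 yc48 zc60) (kc xc8 yc21 zc54) (kc xc15 yc48 zc28) (kc xc8 yc21 zc42) (kc xc25 yc40 zc37) (kc xc24 yc27 zc48) (kc xc8 yc21 zc46) (kc xc25 yc40 zc38) (kc xc25 yc8 zc27) (kc xc23 yc58 zc12) (kc xc25 yc40 zc42) (kc xc25 yc40 zc31) (kc xc24 yc32 zc45) (kc xc25 yc40 zc33) (kc xc11 yc5 zc8) (kc xc8 yc21 zc52) (kc xc25 yc40 zc46) (kc xc8 yc21 zc53) (kc xc20 yc16 zc23)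 (kc xc14 yc50 zc37) (kc xc14 yc2 zc19) (kc xc25 yc15 zc6) (kc xc16 yc5 zc4) (kc xc15 yc20 zc0) (kc xc9 yc36 zc46) (kc xc17 yc43 zc20) (kc xc25 yc40 zc57) (kc xc8 yc21 zc60) (kc xc8 yc21 zc58) (kc xc8 yc21 zc59) (kc xc25 yc41 zc2) (kc xc15 yc34 zc23) (kc xc19 yc35 zc37) (kc xc19 yc35 zc39) (kc xc25 yc41 zc13) (kc xc21 yc10 zc17) (kc xc15 yc27 zc18) (kc xc9 yc35 zc33) (kc xc23 yc2 zc54) (kc xc11 yc19 zc33) (kc xc24 yc27 zc57) (kc xc14 yc37 zc32) (kc xc14 yc21 zc7) (kc xc8 yc22 zc5) (kc xc25 yc41 zc22) (kc xc12 yc40 zc4) (kc xc25 yc41 zc25) (kc xc24 yc49 zc30) (kc xc16 yc41 zc40) (kc xc24 yc49 zc37) (kc xc25 yc41 zc34) (kc xc25 yc41 zc37) (kc xc25 yc41 zc41) (kc xc24 yc51 zc45)) (@D3.rec (fun _ => Pt) (kc xc25 yc27 zc33) (kc xc8 yc22 zc10) (kc xc15 yc38 zc15) (kc xc17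 yc43 zc30) (kc xc20 yc16 zc7) (kc xc8 yc22 zc11) (kc xc25 yc41 zc50) (kc xc25 yc41 zc49) (kc xc25 yc31 zc24) (kc xc25 yc41 zc53) (kc xc8 yc22 zc12) (kc xc15 yc54 zc54) (kc xc11 yc49 zc12) (kc xc15 yc23 zc10) (kc xc21 yc26 zc28) (kc xc25 yc34 zc53) (kc xc8 yc22 zc17) (kc xc8 yc22 zc16) (kc xc24 yc44 zc61) (kc xc25 yc42 zc0) (kc xc8 yc22 zc19) (kc xc9 yc41 zc52) (kc xc8 yc22 zc29) (kc xc15 yc54 zc14) (kc xc12 yc20 zc51) (kc xc8 yc22 zc22) (kc xc8 yc22 zc23) (kc xc25 yc42 zc7) (kc xc8 yc22 zc27) (kc xc25 yc42 zc8) (kc xc25 yc42 zc10) (kc xc19 yc41 zc19) (kc xc21 yc40 zc17) (kc xc12 yc42 zc59) (kc xc24 yc43 zc54) (kc xc24 yc43 zc0) (kc xc16 yc6 zc2) (kc xc9 yc36 zc42) (kc xc9 yc37 zc5) (kc xc25 yc42 zc17) (kc xc8 yc22 zc35) (kc xc8 yc22 zc34) (kc xc25 yc42 zc20) (kc xc25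 yc42 zc22) (kc xc15 yc59 zc39) (kc xc25 yc42 zc24) (kc xc16 yc13 zc59) (kc xc15 yc47 zc38) (kc xc15 yc47 zc40) (kc xc25 yc42 zc29) (kc xc14 yc57 zc35) (kc xc11 yc18 zc12) (kc xc16 yc6 zc44) (kc xc22 yc37 zc9) (kc xc8 yc22 zc42) (kc xc13 yc23 zc0) (kc xc16 yc7 zc36) (kc xc25 yc42 zc31) (kc xc8 yc22 zc46) (kc xc25 yc42 zc37) (kc xc20 yc16 zc13) (kc xc23 yc27 zc14)) (@D3.rec (fun _ => Pt) (kc xc25 yc42 zc35) (kc xc16 yc0 zc29) (kc xc17 yc43 zc34) (kc xc25 yc33 zc58) (kc xc25 yc42 zc48) (kc xc25 yc42 zc51) (kc xc8 yc22 zc49) (kc xc23 yc29 zc16) (kc xc9 yc37 zc57) (kc xc25 yc39 zc10) (kc xc8 yc22 zc52) (kc xc17 yc39 zc57) (kc xc25 yc39 zc11) (kc xc8 yc23 zc36) (kc xc15 yc46 zc23) (kc xc14 yc42 zc33) (kc xc8 yc22 zc57) (kc xc25 yc30 zc40) (kc xc16 yc6 zc18) (kc xc16 yc6 zc17)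 (kc xc8 yc23 zc0) (kc xc25 yc43 zc2) (kc xc12 yc59 zc60) (kc xc15 yc46 zc14) (kc xc17 yc3 zc34) (kc xc8 yc23 zc7) (kc xc8 yc34 zc42) (kc xc25 yc43 zc6) (kc xc8 yc23 zc9) (kc xc8 yc23 zc17) (kc xc25 yc43 zc10) (kc xc15 yc39 zc23) (kc xc18 yc53 zc39) (kc xc12 yc59 zc40) (kc xc17 yc25 zc37) (kc xc14 yc57 zc40) (kc xc21 yc58 zc33) (kc xc19 yc41 zc34) (kc xc21 yc22 zc48) (kc xc9 yc38 zc19) (kc xc25 yc43 zc18) (kc xc25 yc43 zc20) (kc xc8 yc23 zc18) (kc xc25 yc43 zc21) (kc xc25 yc43 zc22) (kc xc25 yc43 zc27) (kc xc8 yc23 zc21) (kc xc9 yc24 zc58) (kc xc25 yc39 zc22) (kc xc22 yc7 zc27) (kc xc8 yc23 zc24) (kc xc8 yc23 zc29) (kc xc14 yc37 zc31) (kc xc23 yc0 zc44) (kc xc12 yc3 zc23) (kc xc8 yc23 zc30) (kc xc25 yc43 zc34) (kc xc12 yc33 zc23) (kc xc21 yc27 zc52) (kc xc22 yc7 zc26)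 (kc xc15 yc16 zc53) (kc xc22 yc7 zc28)) (@D3.rec (fun _ => Pt) (kc xc8 yc23 zc34) (kc xc9 yc36 zc6) (kc xc24 yc8 zc8) (kc xc23 yc42 zc15) (kc xc8 yc57 zc53) (kc xc15 yc24 zc13) (kc xc25 yc36 zc9) (kc xc9 yc39 zc8) (kc xc17 yc51 zc12) (kc xc25 yc35 zc59) (kc xc25 yc35 zc47) (kc xc8 yc23 zc41) (kc xc25 yc43 zc58) (kc xc9 yc32 zc44) (kc xc9 yc27 zc60) (kc xc15 yc28 zc61) (kc xc8 yc23 zc43) (kc xc8 yc23 zc44) (kc xc8 yc23 zc45) (kc xc21 yc5 zc12) (kc xc12 yc47 zc60) (kc xc8 yc23 zc46) (kc xc21 yc5 zc13) (kc xc12 yc33 zc15) (kc xc8 yc23 zc51) (kc xc25 yc44 zc9) (kc xc8 yc23 zc50) (kc xc25 yc44 zc12) (kc xc8 yc23 zc49) (kc xc18 yc23 zc50) (kc xc8 yc23 zc58) (kc xc25 yc14 zc33) (kc xc25 yc14 zc34) (kc xc23 yc33 zc26) (kc xc16 yc2 zc39) (kc xc11 yc54 zc23) (kc xc17 yc55 zc43)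 (kc xc15 yc3 zc44) (kc xc15 yc45 zc47) (kc xc15 yc3 zc38) (kc xc15 yc45 zc48) (kc xc18 yc3 zc3) (kc xc8 yc32 zc36) (kc xc14 yc58 zc4) (kc xc20 yc40 zc33) (kc xc8 yc24 zc2) (kc xc17 yc5 zc6) (kc xc12 yc58 zc35) (kc xc20 yc14 zc23) (kc xc20 yc14 zc19) (kc xc25 yc44 zc31) (kc xc8 yc54 zc0) (kc xc8 yc24 zc7) (kc xc25 yc44 zc35) (kc xc16 yc2 zc51) (kc xc15 yc43 zc38) (kc xc23 yc30 zc38) (kc xc19 yc33 zc8) (kc xc15 yc43 zc34) (kc xc19 yc32 zc50) (kc xc15 yc43 zc35) (kc xc16 yc39 zc40)) (@D3.rec (fun _ => Pt) (kc xc15 yc35 zc13) (kc xc15 yc36 zc28) (kc xc25 yc44 zc44) (kc xc8 yc24 zc15) (kc xc8 yc24 zc13) (kc xc25 yc44 zc48) (kc xc25 yc44 zc47) (kc xc8 yc24 zc14) (kc xc8 yc24 zc18) (kc xc10 yc39 zc16) (kc xc16 yc39 zc42) (kc xc8 yc30 zc53) (kc xc20 yc19 zc29) (kc xc8 yc24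 zc22) (kc xc8 yc24 zc21) (kc xc25 yc44 zc57) (kc xc25 yc44 zc61) (kc xc15 yc19 zc5) (kc xc25 yc4 zc22) (kc xc15 yc19 zc0) (kc xc25 yc45 zc1) (kc xc15 yc18 zc42) (kc xc23 yc36 zc23) (kc xc13 yc53 zc24) (kc xc16 yc4 zc12) (kc xc19 yc5 zc53) (kc xc16 yc4 zc14) (kc xc10 yc47 zc49) (kc xc15 yc44 zc10) (kc xc9 yc51 zc14) (kc xc25 yc45 zc6) (kc xc8 yc53 zc14) (kc xc25 yc36 zc61) (kc xc8 yc55 zc32) (kc xc17 yc33 zc18) (kc xc8 yc24 zc35) (kc xc25 yc45 zc13) (kc xc20 yc39 zc46) (kc xc25 yc45 zc11) (kc xc12 yc58 zc58) (kc xc21 yc24 zc46) (kc xc25 yc26 zc52) (kc xc10 yc1 zc61) (kc xc15 yc33 zc18) (kc xc21 yc6 zc38) (kc xc12 yc20 zc39) (kc xc8 yc24 zc40) (kc xc25 yc45 zc18) (kc xc8 yc24 zc41) (kc xc25 yc36 zc53) (kc xc8 yc24 zc44) (kc xc8 yc24 zc43) (kc xc11 yc6 zc20) (kc xc12 yc17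 zc40) (kc xc8 yc24 zc52) (kc xc25 yc45 zc21) (kc xc8 yc24 zc53) (kc xc17 yc40 zc12) (kc xc10 yc37 zc32) (kc xc10 yc37 zc33) (kc xc15 yc6 zc51) (kc xc8 yc24 zc51)) (@D3.rec (fun _ => Pt) (kc xc8 yc24 zc49) (kc xc25 yc45 zc28) (kc xc16 yc4 zc25) (kc xc8 yc24 zc50) (kc xc19 yc18 zc34) (kc xc8 yc35 zc35) (kc xc9 yc34 zc54) (kc xc24 yc43 zc38) (kc xc8 yc25 zc1) (kc xc9 yc34 zc14) (kc xc8 yc25 zc4) (kc xc20 yc5 zc34) (kc xc15 yc17 zc17) (kc xc15 yc43 zc43) (kc xc20 yc40 zc32) (kc xc25 yc45 zc35) (kc xc25 yc45 zc36) (kc xc12 yc20 zc47) (kc xc16 yc4 zc16) (kc xc8 yc29 zc36) (kc xc8 yc29 zc34) (kc xc25 yc39 zc26) (kc xc24 yc32 zc30) (kc xc15 yc42 zc33) (kc xc15 yc43 zc36) (kc xc15 yc36 zc24) (kc xc25 yc45 zc44) (kc xc16 yc3 zc42) (kc xc15 yc35 zc22) (kc xc25 yc45 zc45) (kc xc17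 yc27 zc51) (kc xc15 yc35 zc20) (kc xc10 yc51 zc54) (kc xc8 yc25 zc23) (kc xc8 yc25 zc22) (kc xc11 yc48 zc52) (kc xc25 yc45 zc47) (kc xc17 yc37 zc41) (kc xc25 yc45 zc48) (kc xc17 yc37 zc43) (kc xc10 yc38 zc41) (kc xc20 yc47 zc16) (kc xc16 yc2 zc49) (kc xc25 yc45 zc53) (kc xc10 yc37 zc47) (kc xc15 yc56 zc50) (kc xc15 yc43 zc13) (kc xc11 yc51 zc18) (kc xc21 yc9 zc38) (kc xc8 yc25 zc36) (kc xc23 yc31 zc18) (kc xc23 yc40 zc10) (kc xc8 yc25 zc38) (kc xc8 yc25 zc40) (kc xc24 yc42 zc55) (kc xc19 yc59 zc17) (kc xc8 yc25 zc43) (kc xc25 yc45 zc58) (kc xc25 yc46 zc0) (kc xc15 yc20 zc61) (kc xc15 yc21 zc2) (kc xc8 yc25 zc50)) (@D3.rec (fun _ => Pt) (kc xc25 yc46 zc6) (kc xc17 yc49 zc41) (kc xc15 yc21 zc36) (kc xc19 yc20 zc49) (kc xc14 yc41 zc28) (kc xc12 yc6 zc13) (kc xc14 yc56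 zc29) (kc xc8 yc25 zc54) (kc xc25 yc46 zc14) (kc xc23 yc30 zc47) (kc xc16 yc28 zc4) (kc xc23 yc25 zc19) (kc xc23 yc31 zc17) (kc xc8 yc25 zc58) (kc xc25 yc46 zc23) (kc xc8 yc25 zc59) (kc xc8 yc58 zc46) (kc xc23 yc31 zc19) (kc xc8 yc38 zc17) (kc xc8 yc38 zc22) (kc xc8 yc26 zc2) (kc xc23 yc30 zc49) (kc xc8 yc26 zc0) (kc xc8 yc26 zc1) (kc xc25 yc46 zc35) (kc xc23 yc32 zc57) (kc xc23 yc44 zc44) (kc xc13 yc6 zc28) (kc xc14 yc4 zc19) (kc xc14 yc4 zc18) (kc xc23 yc35 zc18) (kc xc23 yc44 zc47) (kc xc8 yc26 zc6) (kc xc25 yc46 zc38) (kc xc16 yc17 zc44) (kc xc22 yc58 zc28) (kc xc17 yc43 zc35) (kc xc15 yc14 zc25) (kc xc10 yc9 zc23) (kc xc10 yc9 zc24) (kc xc17 yc45 zc43) (kc xc8 yc26 zc10) (kc xc15 yc39 zc9) (kc xc14 yc13 zc28) (kc xc18 yc44 zc54) (kc xc10 yc21 zc30) (kc xc18 yc9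 zc28) (kc xc10 yc11 zc3) (kc xc9 yc40 zc26) (kc xc17 yc57 zc46) (kc xc20 yc59 zc55) (kc xc10 yc22 zc10) (kc xc17 yc46 zc52) (kc xc10 yc20 zc36) (kc xc18 yc22 zc25) (kc xc10 yc21 zc15) (kc xc18 yc45 zc3) (kc xc22 yc50 zc32) (kc xc18 yc56 zc29) (kc xc23 yc4 zc15) (kc xc18 yc48 zc49) (kc xc13 yc10 zc32)) (@D3.rec (fun _ => Pt) (kc xc10 yc53 zc32) (kc xc10 yc25 zc6) (kc xc14 yc43 zc30) (kc xc14 yc43 zc16) (kc xc10 yc39 zc3) (kc xc25 yc43 zc57) (kc xc8 yc32 zc29) (kc xc15 yc56 zc2) (kc xc10 yc44 zc3) (kc xc10 yc44 zc4) (kc xc10 yc54 zc6) (kc xc15 yc55 zc42) (kc xc25 yc47 zc4) (kc xc25 yc47 zc6) (kc xc8 yc27 zc31) (kc xc25 yc47 zc7) (kc xc9 yc26 zc38) (kc xc15 yc1 zc17) (kc xc8 yc26 zc33) (kc xc15 yc56 zc55) (kc xc15 yc43 zc17) (kc xc15 yc37 zc29) (kc xc10 yc46 zc53) (kc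 xc25 yc47 zc13) (kc xc19 yc14 zc57) (kc xc10 yc47 zc23) (kc xc8 yc54 zc1) (kc xc16 yc39 zc7) (kc xc9 yc33 zc48) (kc xc8 yc26 zc43) (kc xc16 yc39 zc49) (kc xc19 yc31 zc38) (kc xc19 yc0 zc61) (kc xc19 yc31 zc39) (kc xc25 yc47 zc23) (kc xc17 yc52 zc2) (kc xc17 yc48 zc15) (kc xc25 yc29 zc38) (kc xc8 yc32 zc8) (kc xc10 yc17 zc1) (kc xc19 yc42 zc3) (kc xc18 yc55 zc60) (kc xc10 yc54 zc9) (kc xc8 yc54 zc41) (kc xc16 yc36 zc43) (kc xc25 yc10 zc8) (kc xc16 yc36 zc39) (kc xc18 yc41 zc25) (kc xc16 yc36 zc40) (kc xc8 yc31 zc60) (kc xc20 yc59 zc15) (kc xc8 yc27 zc1) (kc xc8 yc26 zc60) (kc xc12 yc11 zc58) (kc xc8 yc26 zc61) (kc xc10 yc56 zc0) (kc xc15 yc31 zc13) (kc xc19 yc36 zc26) (kc xc25 yc5 zc16) (kc xc25 yc4 zc33) (kc xc10 yc55 zc57) (kc xc19 yc44 zc26)) (@D3.rec (fun _ => Pt)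 (kc xc10 yc55 zc59) (kc xc8 yc31 zc19) (kc xc25 yc24 zc61) (kc xc8 yc57 zc47) (kc xc8 yc28 zc16) (kc xc15 yc9 zc30) (kc xc24 yc50 zc31) (kc xc8 yc27 zc5) (kc xc25 yc47 zc54) (kc xc25 yc47 zc53) (kc xc19 yc49 zc40) (kc xc25 yc12 zc54) (kc xc25 yc47 zc61) (kc xc25 yc12 zc52) (kc xc25 yc48 zc5) (kc xc25 yc48 zc7) (kc xc25 yc48 zc8) (kc xc8 yc27 zc8) (kc xc25 yc48 zc12) (kc xc18 yc14 zc46) (kc xc25 yc4 zc13) (kc xc25 yc48 zc10) (kc xc8 yc27 zc12) (kc xc25 yc48 zc20) (kc xc25 yc48 zc24) (kc xc25 yc48 zc18) (kc xc8 yc30 zc9) (kc xc8 yc29 zc6) (kc xc25 yc48 zc28) (kc xc19 yc28 zc17) (kc xc25 yc32 zc23) (kc xc17 yc19 zc16) (kc xc25 yc48 zc29) (kc xc24 yc23 zc2) (kc xc16 yc9 zc46) (kc xc18 yc4 zc3) (kc xc15 yc29 zc53) (kc xc9 yc37 zc39) (kc xc15 yc9 zc1) (kc xc21 yc11 zc43)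 (kc xc8 yc27 zc22) (kc xc25 yc6 zc16) (kc xc24 yc35 zc44) (kc xc24 yc35 zc43) (kc xc14 yc50 zc57) (kc xc17 yc39 zc3) (kc xc14 yc51 zc6) (kc xc11 yc4 zc39) (kc xc11 yc55 zc30) (kc xc15 yc9 zc3) (kc xc25 yc48 zc53) (kc xc8 yc27 zc28) (kc xc18 yc6 zc58) (kc xc19 yc16 zc28) (kc xc15 yc55 zc45) (kc xc15 yc31 zc41) (kc xc8 yc27 zc29) (kc xc18 yc25 zc19) (kc xc25 yc48 zc59) (kc xc22 yc38 zc37) (kc xc14 yc49 zc24) (kc xc8 yc27 zc30)) (@D3.rec (fun _ => Pt) (kc xc20 yc37 zc28) (kc xc22 yc38 zc29) (kc xc11 yc38 zc42) (kc xc18 yc25 zc34) (kc xc20 yc37 zc29) (kc xc19 yc4 zc22) (kc xc25 yc7 zc43) (kc xc25 yc7 zc44) (kc xc21 yc46 zc25) (kc xc21 yc46 zc24) (kc xc15 yc18 zc33) (kc xc8 yc27 zc36) (kc xc25 yc49 zc12) (kc xc25 yc49 zc18) (kc xc8 yc27 zc37) (kc xc24 yc23 zc18) (kc xc16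 yc43 zc23) (kc xc8 yc48 zc43) (kc xc17 yc49 zc48) (kc xc20 yc1 zc61) (kc xc9 yc37 zc41) (kc xc22 yc47 zc49) (kc xc16 yc28 zc50) (kc xc8 yc27 zc41) (kc xc13 yc43 zc34) (kc xc10 yc37 zc4) (kc xc25 yc9 zc11) (kc xc8 yc39 zc15) (kc xc8 yc39 zc16) (kc xc25 yc49 zc4) (kc xc25 yc6 zc35) (kc xc10 yc58 zc50) (kc xc10 yc58 zc59) (kc xc24 yc56 zc46) (kc xc8 yc27 zc60) (kc xc9 yc43 zc48) (kc xc16 yc12 zc59) (kc xc25 yc49 zc38) (kc xc8 yc27 zc56) (kc xc8 yc27 zc54) (kc xc14 yc57 zc60) (kc xc8 yc57 zc9) (kc xc8 yc27 zc55) (kc xc25 yc49 zc41) (kc xc15 yc19 zc58) (kc xc8 yc27 zc57) (kc xc25 yc49 zc42) (kc xc10 yc41 zc14) (kc xc8 yc27 zc58) (kc xc19 yc47 zc53) (kc xc16 yc4 zc5) (kc xc24 yc27 zc46) (kc xc10 yc52 zc50) (kc xc14 yc50 zc35) (kc xc16 yc45 zc50) (kc xc19 yc53 zc59) (kc xc12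 yc43 zc15) (kc xc25 yc49 zc49) (kc xc15 yc9 zc18) (kc xc25 yc49 zc52) (kc xc25 yc49 zc55) (kc xc8 yc28 zc1)) (@D3.rec (fun _ => Pt) (kc xc25 yc37 zc57) (kc xc15 yc9 zc19) (kc xc18 yc27 zc40) (kc xc10 yc32 zc48) (kc xc8 yc28 zc9) (kc xc12 yc42 zc16) (kc xc16 yc28 zc56) (kc xc15 yc9 zc29) (kc xc19 yc44 zc48) (kc xc25 yc50 zc2) (kc xc17 yc57 zc42) (kc xc8 yc47 zc46) (kc xc8 yc28 zc12) (kc xc17 yc57 zc22) (kc xc15 yc45 zc23) (kc xc25 yc11 zc57) (kc xc8 yc28 zc17) (kc xc25 yc50 zc10) (kc xc17 yc49 zc21) (kc xc25 yc5 zc7) (kc xc24 yc58 zc31) (kc xc25 yc5 zc6) (kc xc25 yc50 zc21) (kc xc8 yc28 zc21) (kc xc8 yc28 zc22) (kc xc8 yc28 zc20) (kc xc25 yc50 zc29) (kc xc19 yc21 zc55) (kc xc25 yc50 zc33) (kc xc24 yc5 zc3) (kc xc25 yc50 zc25) (kc xc15 yc20 zc47) (kc xc18 yc2 zc55) (kc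 xc8 yc28 zc23) (kc xc10 yc49 zc12) (kc xc21 yc57 zc49) (kc xc25 yc50 zc42) (kc xc8 yc28 zc26) (kc xc8 yc28 zc25) (kc xc25 yc50 zc48) (kc xc25 yc48 zc1) (kc xc25 yc50 zc52) (kc xc25 yc50 zc47) (kc xc19 yc17 zc24) (kc xc15 yc8 zc57) (kc xc8 yc28 zc28) (kc xc22 yc50 zc47) (kc xc10 yc41 zc20) (kc xc10 yc41 zc17) (kc xc25 yc51 zc2) (kc xc25 yc51 zc5) (kc xc19 yc7 zc48) (kc xc19 yc16 zc0) (kc xc19 yc15 zc61) (kc xc15 yc45 zc11) (kc xc15 yc9 zc38) (kc xc16 yc42 zc42) (kc xc25 yc51 zc16) (kc xc15 yc9 zc40) (kc xc25 yc13 zc37) (kc xc15 yc35 zc9) (kc xc8 yc28 zc35)) (@D3.rec (fun _ => Pt) (kc xc8 yc28 zc36) (kc xc8 yc28 zc38) (kc xc25 yc51 zc20) (kc xc24 yc11 zc20) (kc xc15 yc31 zc8) (kc xc25 yc51 zc24) (kc xc15 yc31 zc10) (kc xc10 yc21 zc55) (kc xc11 yc56 zc61) (kc xc18 yc44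 zc37) (kc xc25 yc51 zc26) (kc xc8 yc28 zc45) (kc xc8 yc28 zc43) (kc xc8 yc28 zc44) (kc xc25 yc51 zc30) (kc xc25 yc26 zc5) (kc xc15 yc31 zc21) (kc xc25 yc51 zc32) (kc xc15 yc31 zc23) (kc xc10 yc21 zc36) (kc xc15 yc26 zc0) (kc xc19 yc36 zc7) (kc xc25 yc51 zc39) (kc xc8 yc28 zc51) (kc xc8 yc28 zc49) (kc xc8 yc28 zc50) (kc xc12 yc33 zc46) (kc xc17 yc33 zc56) (kc xc25 yc17 zc46) (kc xc12 yc55 zc55) (kc xc20 yc44 zc60) (kc xc20 yc16 zc40) (kc xc10 yc21 zc14) (kc xc25 yc51 zc48) (kc xc10 yc50 zc37) (kc xc12 yc54 zc31) (kc xc21 yc1 zc23) (kc xc11 yc54 zc1) (kc xc12 yc53 zc20) (kc xc20 yc55 zc21) (kc xc10 yc20 zc56) (kc xc13 yc33 zc29) (kc xc15 yc51 zc11) (kc xc16 yc12 zc31) (kc xc16 yc10 zc4) (kc xc15 yc52 zc54) (kc xc8 yc28 zc58) (kc xc13 yc48 zc35) (kc xc24 yc38 zc20) (kc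 xc24 yc10 zc22) (kc xc8 yc28 zc59) (kc xc21 yc30 zc2) (kc xc16 yc24 zc52) (kc xc25 yc52 zc3) (kc xc25 yc52 zc6) (kc xc8 yc28 zc61) (kc xc25 yc52 zc10) (kc xc16 yc12 zc45) (kc xc21 yc9 zc44) (kc xc10 yc20 zc35) (kc xc12 yc54 zc7) (kc xc25 yc52 zc9)) (@D3.rec (fun _ => Pt) (kc xc10 yc19 zc49) (kc xc9 yc43 zc26) (kc xc15 yc51 zc7) (kc xc25 yc52 zc24) (kc xc12 yc15 zc47) (kc xc25 yc19 zc17) (kc xc25 yc52 zc27) (kc xc24 yc3 zc51) (kc xc8 yc29 zc27) (kc xc25 yc16 zc42) (kc xc16 yc38 zc4) (kc xc25 yc52 zc35) (kc xc15 yc32 zc22) (kc xc22 yc39 zc9) (kc xc15 yc32 zc24) (kc xc25 yc52 zc40) (kc xc22 yc54 zc38) (kc xc25 yc24 zc33) (kc xc8 yc29 zc17) (kc xc12 yc54 zc40) (kc xc12 yc54 zc41) (kc xc11 yc53 zc44) (kc xc21 yc1 zc33) (kc xc11 yc53 zc45) (kc xc15 yc36 zc21) (kc xc25 yc52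 zc52) (kc xc19 yc35 zc9) (kc xc25 yc52 zc53) (kc xc25 yc52 zc56) (kc xc25 yc20 zc40) (kc xc15 yc29 zc9) (kc xc25 yc53 zc0) (kc xc8 yc29 zc25) (kc xc25 yc53 zc5) (kc xc25 yc53 zc3) (kc xc25 yc53 zc4) (kc xc8 yc29 zc26) (kc xc11 yc22 zc48) (kc xc8 yc29 zc28) (kc xc25 yc20 zc41) (kc xc21 yc54 zc51) (kc xc17 yc24 zc61) (kc xc25 yc53 zc17) (kc xc17 yc11 zc1) (kc xc25 yc53 zc19) (kc xc8 yc36 zc23) (kc xc8 yc36 zc24) (kc xc16 yc7 zc55) (kc xc15 yc33 zc23) (kc xc20 yc19 zc21) (kc xc15 yc49 zc45) (kc xc20 yc36 zc19) (kc xc25 yc53 zc26) (kc xc25 yc45 zc37) (kc xc8 yc56 zc38) (kc xc15 yc51 zc19) (kc xc8 yc29 zc40) (kc xc8 yc29 zc39) (kc xc23 yc22 zc17) (kc xc16 yc19 zc3) (kc xc14 yc57 zc19) (kc xc19 yc19 zc40)) (@D3.rec (fun _ => Pt) (kc xc14 yc57 zc20) (kc xc10 yc46 zc9) (kc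 xc10 yc50 zc23) (kc xc8 yc29 zc44) (kc xc9 yc36 zc43) (kc xc9 yc36 zc44) (kc xc17 yc42 zc9) (kc xc8 yc34 zc18) (kc xc8 yc56 zc22) (kc xc17 yc35 zc35) (kc xc12 yc20 zc50) (kc xc25 yc18 zc56) (kc xc25 yc53 zc39) (kc xc25 yc18 zc57) (kc xc16 yc1 zc7) (kc xc9 yc38 zc52) (kc xc8 yc29 zc52) (kc xc8 yc29 zc51) (kc xc16 yc18 zc3) (kc xc16 yc17 zc5) (kc xc9 yc38 zc10) (kc xc25 yc53 zc42) (kc xc9 yc38 zc12) (kc xc10 yc53 zc30) (kc xc16 yc1 zc33) (kc xc16 yc1 zc34) (kc xc25 yc53 zc51) (kc xc8 yc29 zc57) (kc xc8 yc29 zc56) (kc xc25 yc53 zc54) (kc xc25 yc53 zc57) (kc xc9 yc35 zc10) (kc xc15 yc37 zc61) (kc xc9 yc35 zc12) (kc xc25 yc54 zc1) (kc xc25 yc40 zc48) (kc xc19 yc5 zc43) (kc xc25 yc54 zc10) (kc xc12 yc34 zc34) (kc xc18 yc44 zc19) (kc xc25 yc53 zc49) (kc xc18 yc44 zc18) (kc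 xc19 yc57 zc25) (kc xc16 yc5 zc13) (kc xc8 yc30 zc2) (kc xc25 yc54 zc26) (kc xc25 yc13 zc26) (kc xc19 yc57 zc24) (kc xc9 yc33 zc13) (kc xc8 yc30 zc3) (kc xc25 yc54 zc33) (kc xc25 yc54 zc32) (kc xc25 yc54 zc36) (kc xc25 yc54 zc38) (kc xc25 yc54 zc41) (kc xc8 yc30 zc5) (kc xc18 yc14 zc45) (kc xc25 yc27 zc16) (kc xc9 yc26 zc60) (kc xc14 yc25 zc44) (kc xc18 yc44 zc32) (kc xc19 yc28 zc12)) (@D3.rec (fun _ => Pt) (kc xc19 yc28 zc13) (kc xc19 yc6 zc52) (kc xc25 yc54 zc53) (kc xc25 yc54 zc56) (kc xc15 yc35 zc7) (kc xc25 yc54 zc58) (kc xc10 yc46 zc59) (kc xc15 yc36 zc50) (kc xc15 yc36 zc51) (kc xc8 yc30 zc16) (kc xc8 yc30 zc14) (kc xc8 yc30 zc15) (kc xc9 yc27 zc56) (kc xc16 yc46 zc39) (kc xc8 yc33 zc28) (kc xc10 yc46 zc51) (kc xc25 yc55 zc8) (kc xc25 yc55 zc10) (kc xc25 yc45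 zc2) (kc xc16 yc8 zc59) (kc xc16 yc26 zc20) (kc xc16 yc8 zc61) (kc xc10 yc46 zc41) (kc xc10 yc50 zc38) (kc xc19 yc16 zc58) (kc xc15 yc43 zc29) (kc xc25 yc55 zc29) (kc xc15 yc43 zc31) (kc xc10 yc46 zc22) (kc xc25 yc55 zc37) (kc xc17 yc36 zc35) (kc xc8 yc30 zc26) (kc xc15 yc15 zc35) (kc xc25 yc55 zc40) (kc xc25 yc29 zc49) (kc xc8 yc30 zc27) (kc xc19 yc19 zc42) (kc xc12 yc24 zc61) (kc xc19 yc19 zc34) (kc xc16 yc15 zc7) (kc xc15 yc15 zc55) (kc xc25 yc55 zc53) (kc xc8 yc30 zc29) (kc xc19 yc24 zc47) (kc xc21 yc37 zc3) (kc xc21 yc37 zc2) (kc xc23 yc52 zc57) (kc xc16 yc15 zc15) (kc xc16 yc26 zc23) (kc xc10 yc19 zc27) (kc xc25 yc56 zc5) (kc xc10 yc45 zc60) (kc xc21 yc6 zc36) (kc xc17 yc37 zc16) (kc xc22 yc35 zc51) (kc xc22 yc59 zc33) (kc xc9 yc34 zc9) (kc xc15 yc36 zc2) (kc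 xc8 yc30 zc40) (kc xc15 yc30 zc60) (kc xc15 yc30 zc61) (kc xc18 yc36 zc58)) (@D3.rec (fun _ => Pt) (kc xc18 yc28 zc0) (kc xc25 yc56 zc17) (kc xc8 yc30 zc60) (kc xc25 yc56 zc18) (kc xc8 yc31 zc0) (kc xc19 yc16 zc56) (kc xc18 yc24 zc3) (kc xc24 yc11 zc56) (kc xc24 yc11 zc55) (kc xc10 yc50 zc9) (kc xc24 yc49 zc10) (kc xc8 yc30 zc58) (kc xc25 yc56 zc28) (kc xc17 yc16 zc12) (kc xc8 yc30 zc59) (kc xc25 yc56 zc30) (kc xc17 yc29 zc30) (kc xc25 yc56 zc34) (kc xc21 yc44 zc28) (kc xc25 yc56 zc37) (kc xc25 yc56 zc39) (kc xc8 yc30 zc61) (kc xc25 yc56 zc43) (kc xc21 yc31 zc3) (kc xc25 yc56 zc46) (kc xc25 yc44 zc55) (kc xc14 yc22 zc28) (kc xc14 yc22 zc27) (kc xc15 yc43 zc51) (kc xc8 yc31 zc2) (kc xc15 yc34 zc57) (kc xc8 yc31 zc7) (kc xc15 yc37 zc25) (kc xc19 yc17 zc11) (kc xc24 yc21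 zc59) (kc xc16 yc8 zc41) (kc xc12 yc42 zc46) (kc xc25 yc56 zc56) (kc xc23 yc42 zc11) (kc xc15 yc45 zc44) (kc xc16 yc1 zc23) (kc xc8 yc31 zc12) (kc xc18 yc7 zc0) (kc xc25 yc7 zc13) (kc xc8 yc31 zc13) (kc xc25 yc56 zc58) (kc xc16 yc16 zc10) (kc xc10 yc40 zc31) (kc xc24 yc39 zc61) (kc xc8 yc31 zc15) (kc xc25 yc34 zc47) (kc xc25 yc57 zc5) (kc xc25 yc57 zc7) (kc xc21 yc34 zc3) (kc xc16 yc16 zc16) (kc xc22 yc46 zc29) (kc xc15 yc37 zc38) (kc xc25 yc57 zc14) (kc xc16 yc44 zc12) (kc xc24 yc0 zc34) (kc xc17 yc25 zc12) (kc xc9 yc28 zc56))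
def f_c_16 : D2 → D3 → Pt := @D2.rec (fun _ => D3 → Pt) (@D3.rec (fun _ => Pt) (kc xc9 yc22 zc52) (kc xc25 yc41 zc35) (kc xc17 yc38 zc57) (kc xc15 yc38 zc22) (kc xc12 yc15 zc45) (kc xc12 yc33 zc44) (kc xc8 yc31 zc28) (kc xc25 yc54 zc30) (kc xc25 yc53 zc53) (kc xc8 yc31 zc38) (kc xc21 yc30 zc7) (kc xc8 yc31 zc40) (kc xc20 yc54 zc41) (kc xc12 yc27 zc24) (kc xc8 yc31 zc35) (kc xc12 yc20 zc24) (kc xc16 yc0 zc57) (kc xc8 yc31 zc36) (kc xc12 yc3 zc47) (kc xc25 yc57 zc34) (kc xc23 yc55 zc5) (kc xc23 yc55 zc6) (kc xc8 yc31 zc39) (kc xc22 yc36 zc38) (kc xc25 yc57 zc42) (kc xc17 yc20 zc25) (kc xc17 yc25 zc61) (kc xc8 yc32 zc9) (kc xc10 yc54 zc3) (kc xc15 yc46 zc1) (kc xc8 yc31 zc42) (kc xc25 yc57 zc49) (kc xc19 yc54 zc25) (kc xc17 yc42 zc40) (kc xc25 yc57 zc52) (kc xc8 yc31 zc44)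 (kc xc21 yc17 zc21) (kc xc25 yc57 zc55) (kc xc8 yc31 zc47) (kc xc15 yc39 zc6) (kc xc25 yc57 zc57) (kc xc15 yc30 zc51) (kc xc10 yc10 zc15) (kc xc18 yc58 zc11) (kc xc25 yc43 zc51) (kc xc8 yc31 zc50) (kc xc9 yc38 zc9) (kc xc8 yc31 zc51) (kc xc13 yc42 zc57) (kc xc25 yc58 zc9) (kc xc25 yc58 zc12) (kc xc8 yc31 zc52) (kc xc13 yc42 zc56) (kc xc8 yc31 zc53) (kc xc25 yc58 zc17) (kc xc21 yc46 zc36) (kc xc16 yc6 zc56) (kc xc16 yc0 zc16) (kc xc24 yc10 zc34) (kc xc8 yc31 zc56) (kc xc25 yc58 zc24) (kc xc25 yc58 zc26)) (@D3.rec (fun _ => Pt) (kc xc8 yc31 zc55) (kc xc25 yc58 zc29) (kc xc21 yc43 zc2) (kc xc12 yc13 zc11) (kc xc12 yc4 zc51) (kc xc21 yc46 zc37) (kc xc10 yc32 zc46) (kc xc15 yc57 zc14) (kc xc8 yc32 zc0) (kc xc25 yc58 zc32) (kc xc10 yc53 zc61) (kc xc23 yc56 zc2) (kc xc25 yc18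 zc55) (kc xc8 yc32 zc1) (kc xc15 yc40 zc34) (kc xc24 yc7 zc33) (kc xc8 yc32 zc2) (kc xc25 yc58 zc44) (kc xc25 yc58 zc43) (kc xc8 yc32 zc3) (kc xc15 yc38 zc0) (kc xc23 yc22 zc36) (kc xc16 yc6 zc60) (kc xc15 yc59 zc40) (kc xc25 yc29 zc52) (kc xc8 yc32 zc6) (kc xc25 yc35 zc33) (kc xc25 yc35 zc53) (kc xc25 yc29 zc44) (kc xc21 yc4 zc50) (kc xc21 yc37 zc10) (kc xc25 yc59 zc5) (kc xc25 yc58 zc56) (kc xc15 yc57 zc24) (kc xc15 yc57 zc25) (kc xc8 yc32 zc10) (kc xc10 yc54 zc0) (kc xc10 yc54 zc1) (kc xc10 yc24 zc51) (kc xc17 yc28 zc6) (kc xc25 yc59 zc8) (kc xc15 yc24 zc12) (kc xc8 yc32 zc11) (kc xc9 yc38 zc8) (kc xc8 yc42 zc7) (kc xc8 yc32 zc13) (kc xc19 yc19 zc47) (kc xc8 yc32 zc14) (kc xc25 yc59 zc14) (kc xc8 yc32 zc16) (kc xc25 yc4 zc55) (kc xc8 yc32 zc17) (kc xc25 yc59 zc18)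 (kc xc25 yc43 zc33) (kc xc25 yc43 zc8) (kc xc8 yc32 zc24) (kc xc25 yc59 zc28) (kc xc8 yc32 zc20) (kc xc25 yc59 zc33) (kc xc20 yc29 zc19) (kc xc10 yc47 zc15) (kc xc10 yc47 zc16)) (@D3.rec (fun _ => Pt) (kc xc25 yc59 zc39) (kc xc25 yc59 zc42) (kc xc25 yc59 zc27) (kc xc9 yc27 zc38) (kc xc25 yc56 zc6) (kc xc25 yc43 zc37) (kc xc22 yc3 zc46) (kc xc8 yc32 zc28) (kc xc25 yc59 zc48) (kc xc8 yc32 zc26) (kc xc25 yc59 zc54) (kc xc25 yc59 zc51) (kc xc17 yc32 zc52) (kc xc8 yc32 zc27) (kc xc12 yc0 zc30) (kc xc25 yc47 zc0) (kc xc18 yc44 zc33) (kc xc18 yc44 zc34) (kc xc20 yc57 zc7) (kc xc26 yc0 zc1) (kc xc19 yc27 zc60) (kc xc16 yc18 zc43) (kc xc17 yc44 zc55) (kc xc26 yc0 zc5) (kc xc26 yc0 zc6) (kc xc16 yc18 zc52) (kc xc20 yc55 zc0) (kc xc8 yc32 zc35) (kc xc8 yc32 zc34) (kc xc17 yc5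 zc41) (kc xc25 yc44 zc25) (kc xc21 yc44 zc11) (kc xc20 yc54 zc61) (kc xc8 yc32 zc39) (kc xc8 yc32 zc38) (kc xc11 yc16 zc42) (kc xc11 yc17 zc8) (kc xc16 yc7 zc46) (kc xc9 yc36 zc30) (kc xc15 yc47 zc34) (kc xc26 yc0 zc15) (kc xc8 yc32 zc44) (kc xc13 yc13 zc2) (kc xc15 yc41 zc38) (kc xc18 yc42 zc26) (kc xc8 yc32 zc47) (kc xc8 yc32 zc48) (kc xc15 yc15 zc1) (kc xc14 yc58 zc9) (kc xc15 yc49 zc42) (kc xc15 yc23 zc18) (kc xc15 yc47 zc54) (kc xc25 yc41 zc54) (kc xc8 yc32 zc56) (kc xc8 yc32 zc54) (kc xc26 yc0 zc23) (kc xc8 yc32 zc55) (kc xc8 yc32 zc58) (kc xc26 yc0 zc26) (kc xc17 yc41 zc17) (kc xc9 yc34 zc44) (kc xc9 yc34 zc50)) (@D3.rec (fun _ => Pt) (kc xc8 yc33 zc0) (kc xc26 yc0 zc28) (kc xc26 yc0 zc30) (kc xc25 yc31 zc27) (kc xc17 yc38 zc27) (kc xc12 yc21 zc40) (kc xc23 yc2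 zc49) (kc xc16 yc8 zc50) (kc xc16 yc8 zc52) (kc xc8 yc43 zc16) (kc xc12 yc13 zc3) (kc xc14 yc43 zc56) (kc xc14 yc38 zc56) (kc xc22 yc4 zc7) (kc xc20 yc22 zc21) (kc xc15 yc27 zc25) (kc xc10 yc54 zc31) (kc xc16 yc7 zc14) (kc xc21 yc53 zc27) (kc xc9 yc7 zc49) (kc xc9 yc7 zc39) (kc xc18 yc42 zc55) (kc xc24 yc30 zc42) (kc xc26 yc0 zc45) (kc xc22 yc9 zc31) (kc xc26 yc0 zc48) (kc xc24 yc45 zc47) (kc xc25 yc14 zc36) (kc xc26 yc0 zc51) (kc xc8 yc33 zc14) (kc xc14 yc58 zc13) (kc xc17 yc16 zc30) (kc xc26 yc0 zc57) (kc xc8 yc33 zc17) (kc xc8 yc50 zc14) (kc xc8 yc33 zc18) (kc xc26 yc0 zc59) (kc xc14 yc0 zc5) (kc xc8 yc33 zc21) (kc xc8 yc33 zc20) (kc xc9 yc25 zc1) (kc xc8 yc33 zc26) (kc xc15 yc49 zc27) (kc xc15 yc23 zc21) (kc xc17 yc37 zc27) (kc xc8 yc33 zc24) (kc xc8 yc33 zc25)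 (kc xc8 yc33 zc27) (kc xc17 yc12 zc41) (kc xc8 yc33 zc29) (kc xc12 yc16 zc29) (kc xc12 yc20 zc48) (kc xc16 yc56 zc33) (kc xc8 yc33 zc31) (kc xc25 yc31 zc29) (kc xc17 yc21 zc14) (kc xc8 yc33 zc33) (kc xc15 yc15 zc4) (kc xc26 yc1 zc5) (kc xc17 yc52 zc51) (kc xc9 yc38 zc16) (kc xc14 yc57 zc48)) (@D3.rec (fun _ => Pt) (kc xc17 yc52 zc46) (kc xc14 yc57 zc61) (kc xc15 yc1 zc12) (kc xc26 yc1 zc13) (kc xc13 yc58 zc34) (kc xc15 yc53 zc50) (kc xc15 yc2 zc60) (kc xc14 yc14 zc53) (kc xc9 yc33 zc45) (kc xc9 yc33 zc43) (kc xc10 yc52 zc0) (kc xc12 yc18 zc53) (kc xc15 yc48 zc24) (kc xc26 yc1 zc26) (kc xc15 yc48 zc26) (kc xc16 yc9 zc38) (kc xc15 yc49 zc18) (kc xc19 yc46 zc10) (kc xc26 yc1 zc35) (kc xc23 yc22 zc26) (kc xc16 yc8 zc32) (kc xc15 yc19 zc36) (kc xc16 yc8 zc27) (kc xc19 yc57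 zc51) (kc xc19 yc35 zc45) (kc xc15 yc49 zc2) (kc xc16 yc49 zc5) (kc xc8 yc33 zc50) (kc xc8 yc33 zc49) (kc xc26 yc1 zc42) (kc xc26 yc1 zc43) (kc xc25 yc29 zc11) (kc xc15 yc35 zc25) (kc xc15 yc35 zc27) (kc xc26 yc1 zc47) (kc xc25 yc45 zc55) (kc xc23 yc2 zc53) (kc xc16 yc7 zc28) (kc xc16 yc7 zc29) (kc xc26 yc1 zc54) (kc xc16 yc7 zc25) (kc xc17 yc36 zc27) (kc xc12 yc59 zc28) (kc xc26 yc1 zc55) (kc xc24 yc49 zc48) (kc xc8 yc55 zc9) (kc xc19 yc6 zc16) (kc xc14 yc42 zc27) (kc xc8 yc34 zc1) (kc xc11 yc29 zc34) (kc xc24 yc49 zc49) (kc xc14 yc17 zc8) (kc xc26 yc2 zc2) (kc xc15 yc37 zc14) (kc xc26 yc2 zc4) (kc xc26 yc2 zc5) (kc xc8 yc34 zc3) (kc xc14 yc14 zc54) (kc xc12 yc18 zc38) (kc xc11 yc21 zc38) (kc xc25 yc41 zc21) (kc xc8 yc34 zc8)) (@D3.rec (fun _ => Pt) (kc xc26 yc2 zc8)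 (kc xc8 yc34 zc10) (kc xc14 yc56 zc23) (kc xc24 yc36 zc51) (kc xc15 yc44 zc30) (kc xc9 yc38 zc49) (kc xc17 yc38 zc56) (kc xc10 yc53 zc17) (kc xc8 yc34 zc17) (kc xc8 yc34 zc15) (kc xc26 yc2 zc13) (kc xc8 yc34 zc16) (kc xc26 yc2 zc14) (kc xc15 yc57 zc43) (kc xc25 yc43 zc44) (kc xc25 yc53 zc34) (kc xc16 yc11 zc40) (kc xc25 yc43 zc4) (kc xc25 yc43 zc5) (kc xc15 yc24 zc7) (kc xc8 yc41 zc54) (kc xc21 yc21 zc46) (kc xc24 yc27 zc49) (kc xc21 yc45 zc8) (kc xc24 yc27 zc44) (kc xc25 yc57 zc29) (kc xc25 yc57 zc30) (kc xc8 yc58 zc50) (kc xc21 yc33 zc10) (kc xc25 yc31 zc37) (kc xc19 yc58 zc29) (kc xc17 yc39 zc34) (kc xc26 yc2 zc39) (kc xc26 yc2 zc41) (kc xc19 yc57 zc34) (kc xc26 yc2 zc43) (kc xc8 yc34 zc30) (kc xc20 yc29 zc56) (kc xc26 yc2 zc45) (kc xc15 yc6 zc42) (kc xc12 yc18 zc18)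 (kc xc9 yc1 zc5) (kc xc8 yc34 zc35) (kc xc8 yc34 zc34) (kc xc8 yc34 zc36) (kc xc26 yc2 zc51) (kc xc26 yc2 zc49) (kc xc9 yc1 zc9) (kc xc8 yc34 zc39) (kc xc8 yc34 zc38) (kc xc12 yc27 zc6) (kc xc16 yc6 zc53) (kc xc11 yc0 zc15) (kc xc8 yc34 zc41) (kc xc25 yc34 zc1) (kc xc12 yc16 zc49) (kc xc26 yc2 zc59) (kc xc8 yc34 zc47) (kc xc20 yc5 zc1) (kc xc17 yc21 zc27) (kc xc23 yc30 zc34) (kc xc14 yc56 zc27)) (@D3.rec (fun _ => Pt) (kc xc13 yc54 zc13) (kc xc25 yc48 zc30) (kc xc15 yc45 zc36) (kc xc15 yc2 zc38) (kc xc9 yc38 zc61) (kc xc23 yc32 zc22) (kc xc8 yc34 zc55) (kc xc8 yc34 zc54) (kc xc25 yc28 zc14) (kc xc25 yc28 zc17) (kc xc15 yc37 zc53) (kc xc12 yc4 zc61) (kc xc13 yc0 zc27) (kc xc11 yc19 zc24) (kc xc16 yc7 zc13) (kc xc18 yc3 zc14) (kc xc17 yc36 zc43) (kc xc15 yc46 zc19) (kc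 xc15 yc46 zc18) (kc xc24 yc29 zc39) (kc xc8 yc35 zc0) (kc xc26 yc3 zc14) (kc xc8 yc35 zc2) (kc xc24 yc50 zc43) (kc xc24 yc50 zc44) (kc xc26 yc3 zc26) (kc xc26 yc3 zc20) (kc xc15 yc38 zc58) (kc xc17 yc39 zc40) (kc xc21 yc19 zc43) (kc xc26 yc3 zc31) (kc xc26 yc3 zc34) (kc xc8 yc35 zc5) (kc xc8 yc35 zc7) (kc xc21 yc32 zc0) (kc xc9 yc35 zc31) (kc xc23 yc31 zc47) (kc xc16 yc17 zc3) (kc xc23 yc17 zc42) (kc xc12 yc59 zc49) (kc xc16 yc6 zc58) (kc xc14 yc22 zc4) (kc xc8 yc35 zc14) (kc xc13 yc44 zc40) (kc xc15 yc45 zc52) (kc xc12 yc4 zc6) (kc xc8 yc35 zc20) (kc xc24 yc45 zc27) (kc xc21 yc3 zc22) (kc xc17 yc42 zc45) (kc xc17 yc42 zc43) (kc xc9 yc31 zc28) (kc xc15 yc33 zc47) (kc xc16 yc5 zc51) (kc xc8 yc35 zc38) (kc xc17 yc40 zc24) (kc xc16 yc0 zc56) (kc xc17 yc25 zc38) (kc xc16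 yc6 zc40) (kc xc17 yc20 zc20) (kc xc16 yc1 zc22) (kc xc25 yc58 zc38)) (@D3.rec (fun _ => Pt) (kc xc25 yc45 zc30) (kc xc8 yc35 zc40) (kc xc8 yc35 zc45) (kc xc14 yc38 zc51) (kc xc26 yc3 zc50) (kc xc8 yc35 zc46) (kc xc25 yc36 zc2) (kc xc8 yc35 zc52) (kc xc26 yc3 zc53) (kc xc8 yc35 zc51) (kc xc8 yc35 zc50) (kc xc15 yc41 zc30) (kc xc16 yc41 zc32) (kc xc16 yc6 zc14) (kc xc16 yc3 zc17) (kc xc8 yc40 zc13) (kc xc8 yc35 zc59) (kc xc21 yc32 zc1) (kc xc26 yc3 zc59) (kc xc26 yc3 zc60) (kc xc8 yc36 zc0) (kc xc8 yc36 zc1) (kc xc21 yc50 zc46) (kc xc15 yc42 zc5) (kc xc15 yc42 zc6) (kc xc16 yc4 zc40) (kc xc24 yc36 zc1) (kc xc26 yc1 zc24) (kc xc16 yc4 zc37) (kc xc16 yc4 zc38) (kc xc11 yc26 zc52) (kc xc20 yc51 zc21) (kc xc26 yc4 zc1) (kc xc26 yc1 zc1) (kc xc19 yc35 zc44) (kc xc26 yc4 zc2)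 (kc xc15 yc45 zc56) (kc xc26 yc4 zc5) (kc xc26 yc4 zc6) (kc xc26 yc4 zc8) (kc xc8 yc36 zc14) (kc xc26 yc4 zc11) (kc xc17 yc57 zc48) (kc xc26 yc4 zc13) (kc xc21 yc53 zc36) (kc xc11 yc52 zc11) (kc xc16 yc2 zc37) (kc xc23 yc40 zc44) (kc xc22 yc8 zc51) (kc xc26 yc0 zc18) (kc xc25 yc36 zc55) (kc xc26 yc4 zc17) (kc xc26 yc4 zc19) (kc xc8 yc36 zc25) (kc xc15 yc42 zc61) (kc xc15 yc56 zc47) (kc xc25 yc37 zc14) (kc xc18 yc9 zc34) (kc xc8 yc36 zc28) (kc xc26 yc4 zc28) (kc xc25 yc7 zc30) (kc xc25 yc7 zc31)) (@D3.rec (fun _ => Pt) (kc xc18 yc9 zc35) (kc xc8 yc36 zc32) (kc xc8 yc36 zc31) (kc xc17 yc37 zc26) (kc xc26 yc4 zc38) (kc xc8 yc36 zc38) (kc xc15 yc14 zc36) (kc xc15 yc10 zc11) (kc xc8 yc36 zc41) (kc xc19 yc57 zc12) (kc xc11 yc2 zc46) (kc xc8 yc36 zc47) (kc xc26 yc4 zc45) (kc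 xc26 yc4 zc49) (kc xc8 yc36 zc48) (kc xc26 yc4 zc52) (kc xc16 yc38 zc47) (kc xc26 yc4 zc58) (kc xc26 yc4 zc61) (kc xc26 yc5 zc3) (kc xc16 yc38 zc55) (kc xc25 yc15 zc15) (kc xc25 yc15 zc16) (kc xc8 yc36 zc51) (kc xc26 yc5 zc10) (kc xc17 yc50 zc29) (kc xc20 yc3 zc39) (kc xc16 yc4 zc22) (kc xc26 yc5 zc14) (kc xc8 yc36 zc59) (kc xc23 yc34 zc60) (kc xc25 yc38 zc19) (kc xc16 yc4 zc20) (kc xc8 yc37 zc0) (kc xc23 yc50 zc47) (kc xc23 yc49 zc56) (kc xc8 yc37 zc2) (kc xc26 yc5 zc25) (kc xc26 yc5 zc23) (kc xc8 yc55 zc33) (kc xc25 yc43 zc49) (kc xc15 yc59 zc35) (kc xc26 yc5 zc29) (kc xc16 yc38 zc7) (kc xc26 yc5 zc31) (kc xc15 yc17 zc41) (kc xc26 yc5 zc36) (kc xc14 yc46 zc15) (kc xc23 yc2 zc29) (kc xc19 yc43 zc54) (kc xc16 yc3 zc7) (kc xc19 yc58 zc30) (kc xc16 yc3 zc8) (kc xc16 yc37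 zc39) (kc xc8 yc40 zc56) (kc xc18 yc21 zc30) (kc xc10 yc51 zc57) (kc xc10 yc51 zc58) (kc xc26 yc5 zc45) (kc xc15 yc58 zc19) (kc xc19 yc17 zc41) (kc xc15 yc58 zc21)) (@D3.rec (fun _ => Pt) (kc xc16 yc37 zc47) (kc xc15 yc18 zc40) (kc xc15 yc18 zc41) (kc xc21 yc24 zc6) (kc xc8 yc37 zc19) (kc xc8 yc37 zc18) (kc xc25 yc11 zc15) (kc xc23 yc51 zc49) (kc xc25 yc15 zc42) (kc xc21 yc50 zc33) (kc xc16 yc37 zc18) (kc xc14 yc3 zc17) (kc xc21 yc24 zc36) (kc xc15 yc42 zc1) (kc xc22 yc22 zc13) (kc xc15 yc42 zc3) (kc xc15 yc36 zc29) (kc xc11 yc22 zc43) (kc xc16 yc42 zc1) (kc xc16 yc42 zc2) (kc xc26 yc5 zc61) (kc xc16 yc38 zc11) (kc xc16 yc15 zc60) (kc xc26 yc6 zc1) (kc xc26 yc6 zc2) (kc xc26 yc6 zc4) (kc xc8 yc37 zc29) (kc xc21 yc49 zc16) (kc xc26 yc6 zc9) (kc xc10 yc35 zc51) (kc xc8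 yc37 zc32) (kc xc26 yc6 zc12) (kc xc8 yc37 zc33) (kc xc25 yc33 zc57) (kc xc15 yc17 zc51) (kc xc15 yc18 zc30) (kc xc26 yc6 zc18) (kc xc8 yc37 zc35) (kc xc16 yc4 zc15) (kc xc8 yc37 zc37) (kc xc8 yc37 zc38) (kc xc8 yc40 zc19) (kc xc24 yc41 zc59) (kc xc8 yc37 zc40) (kc xc26 yc6 zc28) (kc xc25 yc36 zc44) (kc xc15 yc52 zc34) (kc xc26 yc6 zc30) (kc xc8 yc37 zc47) (kc xc8 yc37 zc45) (kc xc8 yc37 zc46) (kc xc26 yc6 zc33) (kc xc8 yc39 zc33) (kc xc8 yc39 zc34) (kc xc26 yc6 zc39) (kc xc8 yc37 zc50) (kc xc26 yc6 zc42) (kc xc8 yc37 zc51) (kc xc24 yc7 zc36) (kc xc14 yc43 zc42) (kc xc19 yc2 zc38) (kc xc19 yc2 zc40)) (@D3.rec (fun _ => Pt) (kc xc26 yc6 zc47) (kc xc8 yc39 zc14) (kc xc18 yc52 zc41) (kc xc15 yc31 zc42) (kc xc15 yc55 zc44) (kc xc8 yc37 zc56) (kc xc26 yc6 zc57) (kc xc26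 yc6 zc54) (kc xc26 yc6 zc55) (kc xc8 yc37 zc57) (kc xc26 yc7 zc2) (kc xc26 yc7 zc3) (kc xc18 yc3 zc16) (kc xc18 yc3 zc15) (kc xc8 yc37 zc59) (kc xc26 yc7 zc10) (kc xc18 yc40 zc51) (kc xc18 yc40 zc52) (kc xc16 yc12 zc23) (kc xc8 yc39 zc25) (kc xc8 yc38 zc1) (kc xc22 yc41 zc4) (kc xc22 yc41 zc5) (kc xc21 yc30 zc4) (kc xc14 yc37 zc42) (kc xc8 yc38 zc7) (kc xc14 yc15 zc46) (kc xc26 yc7 zc20) (kc xc18 yc40 zc19) (kc xc24 yc43 zc50) (kc xc25 yc46 zc20) (kc xc8 yc38 zc14) (kc xc23 yc30 zc51) (kc xc8 yc38 zc16) (kc xc19 yc16 zc57) (kc xc23 yc40 zc36) (kc xc19 yc58 zc53) (kc xc8 yc38 zc18) (kc xc13 yc57 zc7) (kc xc8 yc38 zc19) (kc xc26 yc7 zc30) (kc xc8 yc38 zc25) (kc xc8 yc38 zc21) (kc xc11 yc3 zc42) (kc xc11 yc3 zc45) (kc xc19 yc58 zc52) (kc xc25 yc46 zc29) (kc xc8 yc38 zc23)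 (kc xc21 yc56 zc25) (kc xc18 yc40 zc16) (kc xc18 yc40 zc17) (kc xc21 yc2 zc23) (kc xc23 yc40 zc41) (kc xc23 yc42 zc38) (kc xc26 yc7 zc34) (kc xc26 yc7 zc35) (kc xc8 yc47 zc56) (kc xc8 yc47 zc57) (kc xc8 yc38 zc29) (kc xc19 yc54 zc13) (kc xc8 yc38 zc27) (kc xc26 yc7 zc46)) (@D3.rec (fun _ => Pt) (kc xc8 yc38 zc28) (kc xc13 yc26 zc25) (kc xc16 yc11 zc44) (kc xc16 yc12 zc46) (kc xc16 yc12 zc47) (kc xc20 yc55 zc9) (kc xc11 yc53 zc49) (kc xc10 yc37 zc5) (kc xc11 yc53 zc58) (kc xc26 yc7 zc52) (kc xc24 yc31 zc55) (kc xc8 yc38 zc43) (kc xc15 yc24 zc50) (kc xc25 yc20 zc0) (kc xc26 yc7 zc61) (kc xc25 yc6 zc4) (kc xc17 yc35 zc55) (kc xc17 yc35 zc56) (kc xc8 yc39 zc3) (kc xc26 yc8 zc4) (kc xc9 yc31 zc49) (kc xc12 yc55 zc45) (kc xc15 yc25 zc38) (kc xc15 yc25 zc39) (kc xc26 yc8 zc7)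 (kc xc8 yc39 zc35) (kc xc20 yc56 zc48) (kc xc11 yc53 zc61) (kc xc15 yc28 zc33) (kc xc22 yc31 zc52) (kc xc20 yc57 zc50) (kc xc20 yc55 zc17) (kc xc15 yc30 zc23) (kc xc8 yc38 zc42) (kc xc23 yc42 zc40) (kc xc26 yc8 zc21) (kc xc25 yc39 zc54) (kc xc26 yc8 zc23) (kc xc23 yc28 zc50) (kc xc8 yc38 zc44) (kc xc16 yc5 zc16) (kc xc16 yc39 zc24) (kc xc16 yc28 zc6) (kc xc16 yc28 zc7) (kc xc16 yc11 zc2) (kc xc19 yc44 zc60) (kc xc22 yc43 zc41) (kc xc11 yc3 zc33) (kc xc24 yc59 zc52) (kc xc24 yc59 zc53) (kc xc18 yc18 zc37) (kc xc13 yc55 zc19) (kc xc25 yc44 zc14) (kc xc25 yc44 zc15) (kc xc25 yc23 zc11) (kc xc8 yc38 zc58) (kc xc26 yc8 zc45) (kc xc25 yc1 zc50) (kc xc25 yc1 zc49) (kc xc8 yc38 zc59) (kc xc19 yc56 zc27) (kc xc8 yc38 zc60)) (@D3.rec (fun _ => Pt) (kc xc8 yc38 zc61) (kc xc26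 yc8 zc51) (kc xc15 yc12 zc50) (kc xc15 yc7 zc49) (kc xc23 yc15 zc4) (kc xc8 yc39 zc2) (kc xc23 yc25 zc47) (kc xc16 yc50 zc39) (kc xc24 yc23 zc40) (kc xc18 yc19 zc17) (kc xc18 yc19 zc18) (kc xc23 yc42 zc57) (kc xc18 yc18 zc34) (kc xc18 yc18 zc35) (kc xc23 yc42 zc55) (kc xc18 yc2 zc59) (kc xc18 yc2 zc60) (kc xc16 yc13 zc1) (kc xc14 yc59 zc52) (kc xc8 yc39 zc7) (kc xc23 yc44 zc10) (kc xc25 yc14 zc41) (kc xc8 yc39 zc8) (kc xc16 yc10 zc18) (kc xc16 yc13 zc19) (kc xc16 yc13 zc20) (kc xc19 yc41 zc28) (kc xc10 yc19 zc14) (kc xc26 yc9 zc11) (kc xc25 yc23 zc16) (kc xc25 yc49 zc30) (kc xc15 yc55 zc43) (kc xc26 yc9 zc13) (kc xc12 yc54 zc39) (kc xc8 yc39 zc18) (kc xc26 yc9 zc23) (kc xc26 yc9 zc20) (kc xc26 yc9 zc21) (kc xc24 yc29 zc22) (kc xc8 yc39 zc19) (kc xc26 yc9 zc28) (kc xc26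 yc9 zc29) (kc xc26 yc9 zc31) (kc xc26 yc9 zc34) (kc xc8 yc39 zc21) (kc xc15 yc55 zc57) (kc xc16 yc11 zc3) (kc xc16 yc11 zc4) (kc xc18 yc40 zc53) (kc xc26 yc9 zc45) (kc xc19 yc56 zc55) (kc xc26 yc7 zc17) (kc xc26 yc8 zc12) (kc xc26 yc8 zc14) (kc xc8 yc39 zc38) (kc xc8 yc39 zc40) (kc xc19 yc14 zc16) (kc xc11 yc52 zc53) (kc xc8 yc39 zc29) (kc xc15 yc53 zc36) (kc xc15 yc3 zc5) (kc xc19 yc6 zc14)) (@D3.rec (fun _ => Pt) (kc xc19 yc55 zc2) (kc xc16 yc12 zc17) (kc xc21 yc36 zc60) (kc xc26 yc6 zc38) (kc xc25 yc19 zc55) (kc xc25 yc19 zc21) (kc xc18 yc52 zc42) (kc xc8 yc39 zc36) (kc xc26 yc9 zc61) (kc xc26 yc9 zc59) (kc xc25 yc21 zc60) (kc xc8 yc39 zc37) (kc xc26 yc10 zc5) (kc xc26 yc10 zc6) (kc xc25 yc46 zc16) (kc xc25 yc46 zc18) (kc xc8 yc39 zc39) (kc xc24 yc30 zc60) (kc xc26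 yc9 zc47) (kc xc16 yc12 zc24) (kc xc16 yc12 zc25) (kc xc16 yc28 zc2) (kc xc26 yc10 zc19) (kc xc26 yc10 zc20) (kc xc14 yc37 zc26) (kc xc19 yc54 zc1) (kc xc26 yc10 zc21) (kc xc15 yc9 zc6) (kc xc15 yc9 zc8) (kc xc18 yc41 zc33) (kc xc9 yc39 zc27) (kc xc8 yc39 zc48) (kc xc25 yc41 zc17) (kc xc25 yc41 zc1) (kc xc26 yc10 zc28) (kc xc26 yc10 zc30) (kc xc10 yc46 zc15) (kc xc8 yc39 zc52) (kc xc10 yc49 zc53) (kc xc17 yc38 zc33) (kc xc26 yc10 zc34) (kc xc8 yc55 zc26) (kc xc9 yc20 zc33) (kc xc24 yc48 zc7) (kc xc17 yc39 zc44) (kc xc9 yc35 zc48) (kc xc13 yc45 zc61) (kc xc21 yc15 zc44) (kc xc8 yc40 zc1) (kc xc11 yc49 zc11) (kc xc12 yc58 zc34) (kc xc26 yc10 zc40) (kc xc25 yc57 zc27) (kc xc26 yc10 zc41) (kc xc17 yc13 zc61) (kc xc8 yc54 zc40) (kc xc11 yc35 zc59) (kc xc8 yc42 zc0) (kc xc15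 yc6 zc48) (kc xc15 yc45 zc46) (kc xc8 yc40 zc5) (kc xc25 yc13 zc2)) (@D3.rec (fun _ => Pt) (kc xc26 yc10 zc50) (kc xc26 yc10 zc51) (kc xc26 yc10 zc57) (kc xc8 yc40 zc6) (kc xc15 yc9 zc32) (kc xc26 yc10 zc61) (kc xc26 yc11 zc3) (kc xc26 yc11 zc4) (kc xc26 yc11 zc7) (kc xc8 yc40 zc8) (kc xc25 yc36 zc38) (kc xc25 yc36 zc43) (kc xc8 yc40 zc11) (kc xc26 yc11 zc14) (kc xc25 yc20 zc14) (kc xc18 yc25 zc51) (kc xc12 yc43 zc33) (kc xc26 yc3 zc58) (kc xc26 yc11 zc18) (kc xc23 yc13 zc4) (kc xc21 yc23 zc15) (kc xc26 yc11 zc25) (kc xc12 yc52 zc52) (kc xc17 yc36 zc31) (kc xc19 yc16 zc61) (kc xc16 yc50 zc10) (kc xc26 yc10 zc55) (kc xc26 yc10 zc39) (kc xc21 yc31 zc15) (kc xc24 yc59 zc5) (kc xc17 yc16 zc33) (kc xc17 yc36 zc47) (kc xc17 yc39 zc56) (kc xc17 yc41 zc56) (kc xc21 yc59 zc18)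 (kc xc26 yc11 zc42) (kc xc15 yc40 zc23) (kc xc8 yc40 zc26) (kc xc26 yc11 zc45) (kc xc9 yc33 zc5) (kc xc26 yc11 zc50) (kc xc26 yc11 zc52) (kc xc26 yc11 zc55) (kc xc8 yc40 zc28) (kc xc26 yc11 zc60) (kc xc26 yc11 zc58) (kc xc17 yc41 zc57) (kc xc8 yc40 zc31) (kc xc17 yc41 zc22) (kc xc17 yc41 zc23) (kc xc26 yc12 zc8) (kc xc26 yc12 zc14) (kc xc21 yc42 zc26) (kc xc12 yc35 zc39) (kc xc26 yc12 zc19) (kc xc26 yc12 zc20) (kc xc26 yc12 zc22) (kc xc25 yc28 zc47) (kc xc21 yc12 zc44) (kc xc16 yc20 zc13) (kc xc8 yc43 zc44) (kc xc14 yc56 zc9)) (@D3.rec (fun _ => Pt) (kc xc16 yc19 zc55) (kc xc8 yc40 zc38) (kc xc22 yc15 zc1) (kc xc26 yc12 zc33) (kc xc26 yc12 zc36) (kc xc8 yc40 zc39) (kc xc10 yc40 zc25) (kc xc15 yc58 zc39) (kc xc26 yc12 zc42) (kc xc22 yc15 zc20) (kc xc8 yc40 zc41) (kc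 xc26 yc12 zc44) (kc xc21 yc39 zc20) (kc xc21 yc39 zc21) (kc xc18 yc27 zc14) (kc xc15 yc58 zc47) (kc xc9 yc45 zc2) (kc xc8 yc45 zc2) (kc xc15 yc14 zc39) (kc xc14 yc58 zc20) (kc xc8 yc42 zc46) (kc xc21 yc24 zc23) (kc xc8 yc40 zc48) (kc xc26 yc12 zc56) (kc xc8 yc40 zc51) (kc xc24 yc45 zc48) (kc xc8 yc40 zc59) (kc xc20 yc47 zc41) (kc xc8 yc40 zc61) (kc xc20 yc54 zc58) (kc xc10 yc5 zc27) (kc xc16 yc18 zc60) (kc xc8 yc40 zc57) (kc xc26 yc13 zc3) (kc xc26 yc13 zc2) (kc xc17 yc35 zc14) (kc xc8 yc40 zc58) (kc xc26 yc13 zc9) (kc xc17 yc57 zc59) (kc xc26 yc13 zc10) (kc xc21 yc30 zc60) (kc xc26 yc13 zc16) (kc xc26 yc13 zc19) (kc xc8 yc40 zc60) (kc xc24 yc28 zc15) (kc xc21 yc54 zc58) (kc xc21 yc54 zc59) (kc xc26 yc13 zc26) (kc xc18 yc37 zc38) (kc xc14 yc58 zc24) (kc xc14 yc58 zc25)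 (kc xc26 yc13 zc33) (kc xc8 yc44 zc58) (kc xc24 yc41 zc54) (kc xc26 yc13 zc37) (kc xc9 yc34 zc20) (kc xc20 yc11 zc10) (kc xc26 yc13 zc39) (kc xc8 yc41 zc2) (kc xc26 yc13 zc44) (kc xc16 yc9 zc22) (kc xc26 yc13 zc47)) (@D3.rec (fun _ => Pt) (kc xc8 yc41 zc6) (kc xc8 yc41 zc5) (kc xc14 yc49 zc46) (kc xc26 yc13 zc51) (kc xc16 yc17 zc36) (kc xc8 yc41 zc8) (kc xc26 yc13 zc56) (kc xc26 yc13 zc57) (kc xc8 yc41 zc9) (kc xc19 yc5 zc0) (kc xc15 yc59 zc46) (kc xc18 yc44 zc46) (kc xc13 yc41 zc60) (kc xc26 yc14 zc5) (kc xc26 yc14 zc7) (kc xc26 yc14 zc9) (kc xc15 yc59 zc54) (kc xc9 yc45 zc7) (kc xc9 yc45 zc8) (kc xc26 yc14 zc16) (kc xc8 yc44 zc14) (kc xc18 yc3 zc29) (kc xc14 yc57 zc38) (kc xc18 yc5 zc32) (kc xc11 yc3 zc8) (kc xc21 yc37 zc30) (kc xc8 yc41 zc16) (kc xc26 yc14 zc26)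 (kc xc25 yc40 zc59) (kc xc18 yc4 zc10) (kc xc8 yc41 zc19) (kc xc26 yc14 zc30) (kc xc21 yc7 zc11) (kc xc18 yc8 zc20) (kc xc8 yc41 zc22) (kc xc8 yc41 zc21) (kc xc8 yc41 zc23) (kc xc14 yc29 zc23) (kc xc26 yc14 zc37) (kc xc19 yc17 zc3) (kc xc21 yc26 zc46) (kc xc15 yc34 zc9) (kc xc8 yc41 zc30) (kc xc16 yc17 zc55) (kc xc8 yc41 zc31) (kc xc18 yc24 zc61) (kc xc20 yc8 zc19) (kc xc19 yc2 zc1) (kc xc26 yc14 zc46) (kc xc20 yc8 zc21) (kc xc13 yc0 zc1) (kc xc12 yc20 zc28) (kc xc26 yc14 zc53) (kc xc14 yc58 zc30) (kc xc14 yc58 zc31) (kc xc24 yc59 zc37) (kc xc8 yc44 zc3) (kc xc14 yc4 zc36) (kc xc15 yc23 zc58) (kc xc11 yc8 zc57) (kc xc25 yc46 zc42) (kc xc15 yc13 zc6)) (@D3.rec (fun _ => Pt) (kc xc17 yc42 zc31) (kc xc15 yc10 zc58) (kc xc8 yc41 zc42) (kc xc16 yc6 zc37) (kc xc25 yc3 zc9)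 (kc xc15 yc57 zc19) (kc xc8 yc41 zc45) (kc xc9 yc41 zc56) (kc xc15 yc17 zc5) (kc xc26 yc15 zc1) (kc xc8 yc41 zc46) (kc xc26 yc15 zc4) (kc xc26 yc15 zc6) (kc xc17 yc48 zc16) (kc xc17 yc51 zc17) (kc xc8 yc41 zc48) (kc xc13 yc40 zc57) (kc xc25 yc13 zc23) (kc xc26 yc15 zc12) (kc xc8 yc44 zc12) (kc xc8 yc44 zc13) (kc xc18 yc6 zc5) (kc xc8 yc43 zc59) (kc xc24 yc45 zc17) (kc xc26 yc14 zc23) (kc xc8 yc41 zc51) (kc xc17 yc43 zc47) (kc xc8 yc41 zc53) (kc xc26 yc15 zc19) (kc xc12 yc18 zc61) (kc xc26 yc15 zc22) (kc xc26 yc2 zc23) (kc xc8 yc41 zc55) (kc xc26 yc15 zc26) (kc xc26 yc15 zc25) (kc xc24 yc54 zc58) (kc xc16 yc16 zc4) (kc xc20 yc26 zc21) (kc xc8 yc41 zc58) (kc xc26 yc15 zc31) (kc xc26 yc15 zc34) (kc xc8 yc41 zc57) (kc xc18 yc8 zc55) (kc xc21 yc34 zc14) (kc xc15 yc50 zc34)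 (kc xc25 yc42 zc55) (kc xc23 yc21 zc0) (kc xc15 yc13 zc7) (kc xc15 yc10 zc10) (kc xc21 yc7 zc9) (kc xc25 yc43 zc52) (kc xc8 yc42 zc1) (kc xc14 yc35 zc10) (kc xc21 yc17 zc50) (kc xc26 yc15 zc46) (kc xc16 yc16 zc43) (kc xc24 yc54 zc51) (kc xc26 yc15 zc49) (kc xc8 yc42 zc6) (kc xc19 yc41 zc0) (kc xc8 yc42 zc4) (kc xc13 yc19 zc51)) (@D3.rec (fun _ => Pt) (kc xc26 yc15 zc50) (kc xc14 yc36 zc24) (kc xc12 yc4 zc50) (kc xc15 yc57 zc18) (kc xc18 yc53 zc29) (kc xc21 yc17 zc19) (kc xc25 yc46 zc10) (kc xc8 yc42 zc10) (kc xc8 yc42 zc9) (kc xc26 yc11 zc0) (kc xc26 yc15 zc56) (kc xc18 yc39 zc23) (kc xc8 yc42 zc11) (kc xc19 yc5 zc12) (kc xc19 yc50 zc44) (kc xc8 yc42 zc13) (kc xc23 yc52 zc20) (kc xc24 yc53 zc60) (kc xc26 yc16 zc2) (kc xc8 yc42 zc15) (kc xc10 yc37 zc57) (kc xc10 yc37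 zc58) (kc xc26 yc16 zc4) (kc xc12 yc2 zc5) (kc xc12 yc45 zc10) (kc xc18 yc4 zc19) (kc xc26 yc16 zc9) (kc xc8 yc42 zc17) (kc xc26 yc16 zc13) (kc xc8 yc43 zc33) (kc xc26 yc16 zc16) (kc xc8 yc42 zc19) (kc xc26 yc16 zc20) (kc xc8 yc44 zc55) (kc xc8 yc44 zc56) (kc xc26 yc16 zc23) (kc xc8 yc43 zc4) (kc xc26 yc16 zc27) (kc xc26 yc16 zc30) (kc xc24 yc56 zc38) (kc xc26 yc16 zc32) (kc xc26 yc16 zc33) (kc xc24 yc56 zc41) (kc xc16 yc2 zc21) (kc xc18 yc13 zc5) (kc xc9 yc38 zc38) (kc xc24 yc43 zc55) (kc xc18 yc13 zc4) (kc xc9 yc38 zc41) (kc xc18 yc32 zc58) (kc xc18 yc32 zc57) (kc xc8 yc42 zc26) (kc xc16 yc2 zc25) (kc xc8 yc42 zc29) (kc xc8 yc42 zc28) (kc xc26 yc3 zc57) (kc xc8 yc42 zc32) (kc xc8 yc42 zc31) (kc xc15 yc31 zc26) (kc xc26 yc16 zc46) (kc xc16 yc15 zc31) (kc xc8 yc42 zc41))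 (@D3.rec (fun _ => Pt) (kc xc8 yc42 zc42) (kc xc26 yc16 zc52) (kc xc15 yc35 zc58) (kc xc15 yc56 zc59) (kc xc8 yc42 zc39) (kc xc9 yc42 zc33) (kc xc26 yc16 zc56) (kc xc26 yc17 zc0) (kc xc8 yc42 zc40) (kc xc17 yc52 zc56) (kc xc19 yc39 zc37) (kc xc26 yc16 zc48) (kc xc21 yc27 zc7) (kc xc21 yc27 zc6) (kc xc18 yc58 zc55) (kc xc25 yc30 zc45) (kc xc9 yc35 zc45) (kc xc17 yc38 zc15) (kc xc26 yc12 zc53) (kc xc11 yc7 zc16) (kc xc20 yc4 zc16) (kc xc20 yc4 zc17) (kc xc9 yc51 zc54) (kc xc9 yc53 zc4) (kc xc9 yc53 zc5) (kc xc25 yc15 zc49) (kc xc8 yc42 zc54) (kc xc26 yc17 zc19) (kc xc26 yc17 zc21) (kc xc8 yc42 zc56) (kc xc26 yc17 zc24) (kc xc8 yc42 zc57) (kc xc19 yc0 zc25) (kc xc9 yc1 zc57) (kc xc9 yc1 zc60) (kc xc11 yc21 zc12) (kc xc8 yc42 zc59) (kc xc18 yc9 zc40) (kc xc23 yc1 zc39)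 (kc xc26 yc17 zc36) (kc xc8 yc43 zc0) (kc xc19 yc0 zc38) (kc xc8 yc43 zc1) (kc xc25 yc28 zc31) (kc xc25 yc0 zc59) (kc xc26 yc17 zc45) (kc xc8 yc43 zc2) (kc xc26 yc17 zc49) (kc xc26 yc17 zc48) (kc xc26 yc17 zc53) (kc xc26 yc17 zc54) (kc xc8 yc43 zc3) (kc xc26 yc17 zc57) (kc xc23 yc1 zc41) (kc xc9 yc0 zc28) (kc xc16 yc15 zc0) (kc xc8 yc43 zc17) (kc xc16 yc31 zc54) (kc xc8 yc43 zc18) (kc xc26 yc18 zc0) (kc xc10 yc34 zc23) (kc xc15 yc42 zc28)) (@D3.rec (fun _ => Pt) (kc xc11 yc19 zc3) (kc xc26 yc18 zc2) (kc xc26 yc18 zc4) (kc xc26 yc0 zc35) (kc xc23 yc35 zc29) (kc xc26 yc18 zc11) (kc xc12 yc42 zc0) (kc xc15 yc12 zc29) (kc xc23 yc35 zc30) (kc xc26 yc13 zc40) (kc xc26 yc13 zc41) (kc xc8 yc43 zc19) (kc xc26 yc18 zc17) (kc xc16 yc14 zc59) (kc xc26 yc18 zc20) (kc xc10 yc2 zc34)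 (kc xc8 yc43 zc26) (kc xc18 yc15 zc17) (kc xc8 yc43 zc27) (kc xc18 yc35 zc53) (kc xc8 yc57 zc39) (kc xc8 yc43 zc28) (kc xc10 yc55 zc41) (kc xc13 yc41 zc41) (kc xc8 yc43 zc30) (kc xc22 yc29 zc34) (kc xc26 yc18 zc25) (kc xc8 yc43 zc31) (kc xc23 yc44 zc14) (kc xc26 yc18 zc26) (kc xc25 yc3 zc22) (kc xc8 yc43 zc32) (kc xc17 yc37 zc20) (kc xc18 yc3 zc61) (kc xc24 yc0 zc33) (kc xc8 yc43 zc35) (kc xc8 yc43 zc36) (kc xc18 yc31 zc13) (kc xc8 yc43 zc37) (kc xc26 yc18 zc33) (kc xc9 yc45 zc4) (kc xc11 yc15 zc21) (kc xc8 yc43 zc42) (kc xc18 yc26 zc45) (kc xc18 yc3 zc21) (kc xc18 yc3 zc20) (kc xc20 yc4 zc18) (kc xc19 yc59 zc39) (kc xc26 yc12 zc26) (kc xc26 yc18 zc45) (kc xc8 yc43 zc45) (kc xc26 yc18 zc47) (kc xc15 yc12 zc36) (kc xc26 yc18 zc49) (kc xc8 yc43 zc46) (kc xc19 yc6 zc30)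 (kc xc26 yc18 zc52) (kc xc26 yc18 zc56) (kc xc8 yc43 zc49) (kc xc26 yc18 zc58) (kc xc8 yc43 zc51) (kc xc20 yc10 zc18)) (@D3.rec (fun _ => Pt) (kc xc8 yc43 zc52) (kc xc26 yc19 zc3) (kc xc22 yc52 zc23) (kc xc8 yc43 zc54) (kc xc18 yc20 zc51) (kc xc13 yc41 zc43) (kc xc8 yc43 zc57) (kc xc22 yc42 zc34) (kc xc26 yc19 zc7) (kc xc26 yc19 zc10) (kc xc8 yc43 zc58) (kc xc13 yc55 zc25) (kc xc25 yc15 zc47) (kc xc25 yc15 zc48) (kc xc18 yc3 zc22) (kc xc24 yc29 zc10) (kc xc18 yc30 zc29) (kc xc10 yc7 zc49) (kc xc10 yc8 zc0) (kc xc18 yc11 zc28) (kc xc8 yc44 zc2) (kc xc26 yc19 zc27) (kc xc18 yc46 zc11) (kc xc10 yc36 zc33) (kc xc24 yc55 zc46) (kc xc8 yc44 zc7) (kc xc26 yc19 zc32) (kc xc19 yc4 zc40) (kc xc24 yc55 zc25) (kc xc18 yc45 zc39) (kc xc8 yc46 zc10) (kc xc10 yc35 zc4) (kc xc18 yc10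 zc1) (kc xc26 yc15 zc15) (kc xc26 yc19 zc39) (kc xc8 yc44 zc15) (kc xc26 yc19 zc40) (kc xc24 yc55 zc47) (kc xc24 yc55 zc26) (kc xc8 yc44 zc18) (kc xc16 yc54 zc20) (kc xc13 yc22 zc0) (kc xc10 yc3 zc12) (kc xc8 yc44 zc23) (kc xc8 yc44 zc25) (kc xc26 yc19 zc48) (kc xc19 yc4 zc32) (kc xc25 yc0 zc11) (kc xc20 yc10 zc38) (kc xc15 yc7 zc24) (kc xc8 yc52 zc35) (kc xc11 yc6 zc18) (kc xc11 yc6 zc17) (kc xc18 yc49 zc0) (kc xc8 yc44 zc34) (kc xc15 yc7 zc23) (kc xc8 yc44 zc35) (kc xc26 yc19 zc53) (kc xc24 yc45 zc32) (kc xc26 yc19 zc58) (kc xc20 yc10 zc39) (kc xc8 yc44 zc38)) (@D3.rec (fun _ => Pt) (kc xc26 yc20 zc0) (kc xc26 yc19 zc60) (kc xc9 yc53 zc44) (kc xc26 yc20 zc5) (kc xc8 yc52 zc36) (kc xc18 yc54 zc36) (kc xc8 yc44 zc41) (kc xc9 yc3 zc49) (kc xc10 yc28 zc34) (kc xc9 yc3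 zc43) (kc xc17 yc44 zc24) (kc xc19 yc4 zc34) (kc xc20 yc6 zc32) (kc xc8 yc44 zc49) (kc xc15 yc14 zc22) (kc xc9 yc46 zc43) (kc xc18 yc30 zc25) (kc xc10 yc29 zc53) (kc xc16 yc35 zc5) (kc xc25 yc47 zc19) (kc xc20 yc37 zc0) (kc xc20 yc36 zc49) (kc xc20 yc36 zc48) (kc xc8 yc44 zc51) (kc xc8 yc44 zc52) (kc xc23 yc6 zc18) (kc xc16 yc56 zc21) (kc xc13 yc30 zc28) (kc xc13 yc30 zc31) (kc xc24 yc28 zc48) (kc xc23 yc6 zc17) (kc xc18 yc47 zc45) (kc xc26 yc20 zc30) (kc xc26 yc20 zc32) (kc xc18 yc28 zc45) (kc xc26 yc17 zc55) (kc xc25 yc14 zc28) (kc xc8 yc44 zc57) (kc xc26 yc20 zc37) (kc xc8 yc44 zc59) (kc xc22 yc35 zc58) (kc xc13 yc29 zc23) (kc xc13 yc29 zc24) (kc xc10 yc38 zc44) (kc xc8 yc44 zc61) (kc xc25 yc46 zc53) (kc xc26 yc20 zc41) (kc xc17 yc38 zc14) (kc xc18 yc6 zc31) (kc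 xc13 yc18 zc29) (kc xc17 yc36 zc33) (kc xc9 yc53 zc47) (kc xc24 yc55 zc11) (kc xc26 yc20 zc10) (kc xc8 yc45 zc4) (kc xc10 yc29 zc17) (kc xc26 yc20 zc52) (kc xc26 yc20 zc54) (kc xc26 yc20 zc57) (kc xc15 yc5 zc61) (kc xc21 yc47 zc24) (kc xc26 yc20 zc60)) (@D3.rec (fun _ => Pt) (kc xc26 yc21 zc0) (kc xc26 yc21 zc2) (kc xc8 yc45 zc9) (kc xc16 yc33 zc52) (kc xc11 yc13 zc28) (kc xc18 yc58 zc61) (kc xc8 yc45 zc11) (kc xc22 yc32 zc12) (kc xc10 yc29 zc43) (kc xc15 yc7 zc30) (kc xc26 yc21 zc10) (kc xc8 yc45 zc14) (kc xc16 yc27 zc58) (kc xc8 yc45 zc13) (kc xc16 yc26 zc46) (kc xc26 yc21 zc12) (kc xc24 yc21 zc27) (kc xc8 yc45 zc15) (kc xc26 yc21 zc14) (kc xc26 yc21 zc13) (kc xc8 yc45 zc18) (kc xc8 yc45 zc17) (kc xc18 yc34 zc15) (kc xc26 yc21 zc15) (kc xc12 yc8 zc57) (kc xc26 yc21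 zc20) (kc xc17 yc44 zc43) (kc xc26 yc21 zc22) (kc xc26 yc21 zc24) (kc xc26 yc21 zc27) (kc xc8 yc45 zc22) (kc xc26 yc20 zc16) (kc xc11 yc17 zc52) (kc xc12 yc31 zc59) (kc xc23 yc43 zc16) (kc xc20 yc13 zc41) (kc xc8 yc45 zc28) (kc xc20 yc45 zc16) (kc xc9 yc39 zc53) (kc xc9 yc14 zc57) (kc xc18 yc32 zc47) (kc xc8 yc45 zc31) (kc xc26 yc21 zc42) (kc xc26 yc21 zc38) (kc xc14 yc4 zc10) (kc xc14 yc8 zc26) (kc xc23 yc34 zc45) (kc xc25 yc0 zc34) (kc xc25 yc0 zc56) (kc xc9 yc0 zc7) (kc xc8 yc45 zc39) (kc xc20 yc41 zc6) (kc xc16 yc31 zc28) (kc xc8 yc45 zc43) (kc xc20 yc34 zc41) (kc xc17 yc25 zc5) (kc xc11 yc50 zc7) (kc xc21 yc57 zc44) (kc xc8 yc45 zc45) (kc xc9 yc7 zc11) (kc xc11 yc48 zc50) (kc xc21 yc13 zc52)) (@D3.rec (fun _ => Pt) (kc xc26 yc21 zc55) (kc xc8 yc45 zc52) (kc xc8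 yc45 zc50) (kc xc11 yc12 zc29) (kc xc18 yc1 zc31) (kc xc8 yc45 zc51) (kc xc24 yc56 zc56) (kc xc14 yc47 zc19) (kc xc8 yc45 zc57) (kc xc26 yc21 zc59) (kc xc15 yc0 zc29) (kc xc18 yc58 zc26) (kc xc12 yc22 zc43) (kc xc23 yc3 zc19) (kc xc12 yc22 zc45) (kc xc8 yc46 zc1) (kc xc20 yc36 zc12) (kc xc12 yc23 zc46) (kc xc8 yc46 zc5) (kc xc21 yc51 zc16) (kc xc26 yc22 zc0) (kc xc19 yc23 zc41) (kc xc8 yc46 zc6) (kc xc8 yc46 zc8) (kc xc20 yc45 zc17) (kc xc26 yc19 zc36) (kc xc26 yc22 zc3) (kc xc10 yc36 zc32) (kc xc12 yc22 zc6) (kc xc8 yc46 zc12) (kc xc20 yc52 zc31) (kc xc9 yc26 zc45) (kc xc20 yc44 zc50) (kc xc8 yc46 zc13) (kc xc8 yc46 zc15) (kc xc16 yc30 zc28) (kc xc16 yc30 zc27) (kc xc20 yc41 zc7) (kc xc22 yc53 zc59) (kc xc14 yc38 zc25) (kc xc16 yc28 zc9) (kc xc21 yc38 zc7) (kc xc23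 yc14 zc54) (kc xc26 yc22 zc20) (kc xc8 yc46 zc24) (kc xc26 yc22 zc22) (kc xc8 yc46 zc21) (kc xc21 yc44 zc54) (kc xc26 yc22 zc26) (kc xc9 yc51 zc0) (kc xc8 yc46 zc22) (kc xc21 yc44 zc55) (kc xc15 yc55 zc52) (kc xc16 yc31 zc29) (kc xc16 yc31 zc30) (kc xc8 yc46 zc23) (kc xc12 yc38 zc0) (kc xc13 yc26 zc40) (kc xc17 yc55 zc18) (kc xc23 yc31 zc12) (kc xc23 yc31 zc7) (kc xc8 yc46 zc28)) (@D3.rec (fun _ => Pt) (kc xc19 yc18 zc36) (kc xc12 yc7 zc58) (kc xc15 yc6 zc36) (kc xc10 yc59 zc0) (kc xc21 yc37 zc26) (kc xc8 yc46 zc31) (kc xc26 yc22 zc42) (kc xc23 yc38 zc26) (kc xc8 yc50 zc40) (kc xc8 yc50 zc41) (kc xc13 yc24 zc36) (kc xc8 yc46 zc35) (kc xc21 yc30 zc47) (kc xc23 yc34 zc47) (kc xc9 yc43 zc51) (kc xc18 yc18 zc39) (kc xc18 yc18 zc36) (kc xc21 yc29 zc44) (kc xc14 yc8 zc25)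 (kc xc26 yc22 zc52) (kc xc14 yc52 zc3) (kc xc8 yc46 zc41) (kc xc20 yc41 zc1) (kc xc8 yc46 zc43) (kc xc19 yc48 zc44) (kc xc19 yc48 zc45) (kc xc26 yc22 zc56) (kc xc9 yc7 zc58) (kc xc20 yc31 zc57) (kc xc20 yc30 zc54) (kc xc19 yc39 zc4) (kc xc8 yc46 zc48) (kc xc26 yc22 zc60) (kc xc8 yc46 zc46) (kc xc16 yc47 zc53) (kc xc15 yc25 zc53) (kc xc8 yc46 zc47) (kc xc16 yc27 zc61) (kc xc11 yc50 zc8) (kc xc13 yc59 zc36) (kc xc26 yc23 zc8) (kc xc8 yc46 zc50) (kc xc23 yc43 zc13) (kc xc13 yc42 zc42) (kc xc10 yc38 zc39) (kc xc14 yc1 zc58) (kc xc8 yc46 zc52) (kc xc25 yc16 zc19) (kc xc17 yc53 zc12) (kc xc8 yc46 zc53) (kc xc26 yc23 zc13) (kc xc14 yc59 zc18) (kc xc26 yc23 zc15) (kc xc17 yc57 zc6) (kc xc22 yc47 zc46) (kc xc23 yc1 zc30) (kc xc8 yc46 zc56) (kc xc11 yc36 zc44) (kc xc8 yc46 zc58)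 (kc xc19 yc17 zc52) (kc xc25 yc43 zc54) (kc xc26 yc23 zc22)) (@D3.rec (fun _ => Pt) (kc xc26 yc23 zc24) (kc xc23 yc7 zc55) (kc xc8 yc46 zc60) (kc xc13 yc42 zc15) (kc xc26 yc23 zc28) (kc xc26 yc23 zc29) (kc xc17 yc23 zc5) (kc xc8 yc47 zc2) (kc xc26 yc9 zc19) (kc xc26 yc23 zc31) (kc xc26 yc23 zc30) (kc xc21 yc12 zc16) (kc xc21 yc12 zc18) (kc xc13 yc39 zc12) (kc xc22 yc42 zc49) (kc xc12 yc51 zc6) (kc xc8 yc47 zc9) (kc xc26 yc23 zc41) (kc xc8 yc47 zc6) (kc xc8 yc47 zc7) (kc xc15 yc58 zc20) (kc xc26 yc23 zc42) (kc xc26 yc23 zc43) (kc xc15 yc58 zc48) (kc xc8 yc47 zc8) (kc xc25 yc59 zc13) (kc xc8 yc47 zc10) (kc xc8 yc47 zc11) (kc xc25 yc57 zc20) (kc xc26 yc23 zc47) (kc xc8 yc47 zc12) (kc xc26 yc23 zc48) (kc xc16 yc30 zc11) (kc xc8 yc47 zc13) (kc xc13 yc31 zc15) (kc xc8 yc47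 zc39) (kc xc26 yc23 zc54) (kc xc8 yc47 zc15) (kc xc25 yc59 zc47) (kc xc13 yc58 zc25) (kc xc23 yc22 zc43) (kc xc26 yc23 zc60) (kc xc21 yc29 zc27) (kc xc19 yc39 zc14) (kc xc26 yc24 zc0) (kc xc8 yc47 zc17) (kc xc16 yc23 zc14) (kc xc22 yc17 zc20) (kc xc11 yc44 zc24) (kc xc8 yc47 zc20) (kc xc21 yc13 zc2) (kc xc26 yc24 zc4) (kc xc8 yc47 zc22) (kc xc26 yc24 zc7) (kc xc26 yc24 zc10) (kc xc8 yc47 zc23) (kc xc15 yc20 zc14) (kc xc8 yc48 zc36) (kc xc8 yc48 zc37) (kc xc25 yc59 zc17) (kc xc19 yc18 zc40) (kc xc8 yc47 zc25)) (@D3.rec (fun _ => Pt) (kc xc26 yc24 zc14) (kc xc12 yc6 zc5) (kc xc15 yc20 zc55) (kc xc21 yc2 zc3) (kc xc8 yc47 zc28) (kc xc22 yc17 zc16) (kc xc26 yc24 zc16) (kc xc8 yc47 zc30) (kc xc25 yc33 zc5) (kc xc26 yc24 zc24) (kc xc15 yc34 zc25) (kc xc8 yc47 zc31) (kc xc26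 yc24 zc26) (kc xc26 yc24 zc25) (kc xc8 yc47 zc33) (kc xc21 yc1 zc55) (kc xc26 yc24 zc31) (kc xc25 yc8 zc61) (kc xc8 yc47 zc34) (kc xc23 yc2 zc20) (kc xc26 yc24 zc34) (kc xc11 yc4 zc28) (kc xc13 yc10 zc25) (kc xc15 yc22 zc41) (kc xc8 yc48 zc41) (kc xc17 yc59 zc1) (kc xc20 yc50 zc35) (kc xc13 yc43 zc15) (kc xc20 yc37 zc23) (kc xc13 yc43 zc16) (kc xc9 yc47 zc15) (kc xc8 yc47 zc42) (kc xc18 yc52 zc52) (kc xc18 yc52 zc53) (kc xc24 yc32 zc20) (kc xc20 yc35 zc59) (kc xc20 yc35 zc60) (kc xc20 yc19 zc61) (kc xc15 yc9 zc27) (kc xc15 yc20 zc20) (kc xc15 yc20 zc52) (kc xc11 yc14 zc2) (kc xc8 yc47 zc49) (kc xc15 yc35 zc8) (kc xc25 yc28 zc21) (kc xc25 yc50 zc5) (kc xc26 yc24 zc58) (kc xc20 yc18 zc18) (kc xc19 yc56 zc8) (kc xc8 yc47 zc51) (kc xc26 yc25 zc2) (kc xc13 yc50 zc41) (kc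 xc16 yc51 zc21) (kc xc11 yc12 zc52) (kc xc8 yc47 zc54) (kc xc26 yc25 zc8) (kc xc15 yc7 zc41) (kc xc26 yc25 zc9) (kc xc16 yc23 zc12) (kc xc26 yc25 zc10) (kc xc26 yc7 zc45) (kc xc16 yc25 zc37)) (@D3.rec (fun _ => Pt) (kc xc16 yc45 zc61) (kc xc8 yc47 zc59) (kc xc16 yc13 zc21) (kc xc26 yc25 zc14) (kc xc15 yc50 zc10) (kc xc20 yc32 zc48) (kc xc16 yc11 zc42) (kc xc16 yc11 zc43) (kc xc20 yc41 zc9) (kc xc16 yc24 zc40) (kc xc26 yc25 zc21) (kc xc11 yc41 zc18) (kc xc8 yc48 zc8) (kc xc12 yc52 zc61) (kc xc21 yc54 zc40) (kc xc8 yc48 zc9) (kc xc17 yc0 zc36) (kc xc8 yc48 zc11) (kc xc26 yc25 zc27) (kc xc20 yc5 zc41) (kc xc26 yc25 zc28) (kc xc25 yc12 zc23) (kc xc9 yc9 zc37) (kc xc9 yc9 zc41) (kc xc12 yc11 zc1) (kc xc8 yc48 zc18) (kc xc26 yc25 zc34) (kc xc11 yc41 zc15) (kc xc25 yc19 zc1)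 (kc xc8 yc48 zc25) (kc xc8 yc48 zc22) (kc xc8 yc48 zc23) (kc xc15 yc40 zc15) (kc xc26 yc25 zc36) (kc xc15 yc40 zc31) (kc xc18 yc52 zc18) (kc xc8 yc48 zc26) (kc xc26 yc25 zc39) (kc xc26 yc25 zc40) (kc xc20 yc49 zc50) (kc xc8 yc48 zc29) (kc xc25 yc12 zc11) (kc xc16 yc34 zc34) (kc xc13 yc26 zc45) (kc xc8 yc48 zc31) (kc xc26 yc25 zc47) (kc xc21 yc51 zc30) (kc xc19 yc45 zc38) (kc xc10 yc51 zc8) (kc xc8 yc48 zc32) (kc xc15 yc53 zc22) (kc xc8 yc48 zc34) (kc xc24 yc8 zc56) (kc xc12 yc7 zc60) (kc xc26 yc24 zc13) (kc xc20 yc18 zc27) (kc xc15 yc54 zc6) (kc xc9 yc46 zc61) (kc xc9 yc47 zc0) (kc xc19 yc37 zc51) (kc xc22 yc18 zc8) (kc xc23 yc56 zc28)) (@D3.rec (fun _ => Pt) (kc xc25 yc6 zc14) (kc xc22 yc9 zc13) (kc xc26 yc26 zc8) (kc xc25 yc49 zc25) (kc xc9 yc47 zc10) (kc xc24 yc13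 zc19) (kc xc13 yc0 zc40) (kc xc22 yc52 zc46) (kc xc8 yc48 zc49) (kc xc24 yc7 zc39) (kc xc26 yc24 zc46) (kc xc8 yc48 zc51) (kc xc17 yc34 zc46) (kc xc20 yc6 zc38) (kc xc26 yc26 zc17) (kc xc24 yc36 zc47) (kc xc8 yc48 zc52) (kc xc12 yc10 zc60) (kc xc9 yc45 zc44) (kc xc12 yc11 zc2) (kc xc12 yc11 zc3) (kc xc19 yc47 zc52) (kc xc14 yc0 zc39) (kc xc24 yc56 zc49) (kc xc24 yc56 zc50) (kc xc13 yc59 zc11) (kc xc13 yc58 zc18) (kc xc14 yc26 zc42) (kc xc8 yc49 zc6) (kc xc19 yc33 zc10) (kc xc20 yc7 zc15) (kc xc23 yc43 zc0) (kc xc9 yc25 zc11) (kc xc12 yc22 zc25) (kc xc16 yc51 zc25) (kc xc11 yc17 zc17) (kc xc25 yc32 zc35) (kc xc8 yc49 zc12) (kc xc26 yc26 zc28) (kc xc8 yc49 zc13) (kc xc26 yc26 zc31) (kc xc12 yc22 zc1) (kc xc19 yc47 zc55) (kc xc18 yc42 zc3) (kc xc8 yc49 zc15) (kc xc10 yc16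 zc14) (kc xc8 yc49 zc16) (kc xc8 yc49 zc24) (kc xc8 yc49 zc18) (kc xc11 yc37 zc46) (kc xc11 yc37 zc47) (kc xc26 yc26 zc42) (kc xc20 yc36 zc23) (kc xc11 yc38 zc13) (kc xc11 yc38 zc14) (kc xc8 yc49 zc19) (kc xc17 yc3 zc17) (kc xc17 yc3 zc18) (kc xc22 yc39 zc12) (kc xc17 yc8 zc38) (kc xc17 yc3 zc32) (kc xc11 yc3 zc51)) (@D3.rec (fun _ => Pt) (kc xc9 yc11 zc56) (kc xc19 yc50 zc30) (kc xc8 yc49 zc27) (kc xc26 yc26 zc51) (kc xc16 yc30 zc49) (kc xc26 yc26 zc52) (kc xc8 yc49 zc28) (kc xc25 yc32 zc34) (kc xc24 yc7 zc58) (kc xc20 yc37 zc9) (kc xc16 yc34 zc26) (kc xc16 yc26 zc32) (kc xc26 yc26 zc44) (kc xc14 yc49 zc15) (kc xc8 yc49 zc33) (kc xc17 yc25 zc28) (kc xc20 yc35 zc48) (kc xc13 yc3 zc15) (kc xc20 yc44 zc40) (kc xc18 yc57 zc2) (kc xc15 yc6 zc16) (kc xc19 yc2 zc30) (kc xc8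 yc49 zc42) (kc xc17 yc16 zc16) (kc xc10 yc28 zc26) (kc xc16 yc51 zc38) (kc xc17 yc13 zc7) (kc xc16 yc24 zc36) (kc xc16 yc24 zc35) (kc xc12 yc43 zc52) (kc xc14 yc27 zc33) (kc xc22 yc36 zc29) (kc xc8 yc49 zc54) (kc xc8 yc49 zc53) (kc xc12 yc22 zc12) (kc xc12 yc22 zc13) (kc xc18 yc14 zc9) (kc xc26 yc10 zc23) (kc xc19 yc50 zc43) (kc xc26 yc10 zc24) (kc xc20 yc13 zc24) (kc xc9 yc20 zc2) (kc xc12 yc14 zc60) (kc xc23 yc47 zc47) (kc xc12 yc43 zc54) (kc xc8 yc50 zc5) (kc xc8 yc50 zc6) (kc xc18 yc49 zc32) (kc xc8 yc50 zc7) (kc xc16 yc30 zc4) (kc xc8 yc50 zc15) (kc xc26 yc22 zc11) (kc xc19 yc33 zc2) (kc xc17 yc59 zc56) (kc xc26 yc27 zc16) (kc xc16 yc47 zc27) (kc xc26 yc19 zc50) (kc xc18 yc30 zc24) (kc xc16 yc53 zc19) (kc xc26 yc27 zc18) (kc xc20 yc52 zc10) (kc xc20 yc6 zc56))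 (@D3.rec (fun _ => Pt) (kc xc26 yc27 zc22) (kc xc26 yc27 zc23) (kc xc17 yc13 zc10) (kc xc8 yc50 zc16) (kc xc26 yc27 zc26) (kc xc11 yc6 zc61) (kc xc20 yc20 zc21) (kc xc8 yc50 zc17) (kc xc26 yc27 zc30) (kc xc22 yc8 zc0) (kc xc24 yc8 zc15) (kc xc26 yc27 zc33) (kc xc8 yc50 zc18) (kc xc26 yc27 zc38) (kc xc8 yc50 zc20) (kc xc26 yc27 zc42) (kc xc26 yc27 zc46) (kc xc8 yc50 zc22) (kc xc24 yc7 zc26) (kc xc8 yc50 zc23) (kc xc24 yc8 zc16) (kc xc11 yc38 zc0) (kc xc8 yc51 zc50) (kc xc11 yc39 zc22) (kc xc17 yc14 zc60) (kc xc8 yc50 zc26) (kc xc20 yc49 zc24) (kc xc18 yc0 zc38) (kc xc16 yc23 zc52) (kc xc16 yc24 zc53) (kc xc16 yc24 zc54) (kc xc19 yc12 zc43) (kc xc8 yc50 zc34) (kc xc26 yc22 zc6) (kc xc8 yc50 zc31) (kc xc26 yc28 zc12) (kc xc21 yc35 zc43) (kc xc8 yc50 zc32) (kc xc26 yc28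 zc14) (kc xc20 yc13 zc45) (kc xc26 yc22 zc7) (kc xc8 yc50 zc33) (kc xc21 yc29 zc14) (kc xc21 yc29 zc15) (kc xc8 yc50 zc35) (kc xc25 yc11 zc47) (kc xc15 yc8 zc48) (kc xc8 yc50 zc37) (kc xc22 yc38 zc16) (kc xc11 yc13 zc48) (kc xc8 yc50 zc38) (kc xc14 yc7 zc55) (kc xc15 yc12 zc23) (kc xc12 yc8 zc9) (kc xc16 yc19 zc57) (kc xc26 yc22 zc47) (kc xc13 yc57 zc61) (kc xc8 yc50 zc43) (kc xc18 yc1 zc33) (kc xc20 yc6 zc46) (kc xc15 yc3 zc58) (kc xc26 yc28 zc30)) (@D3.rec (fun _ => Pt) (kc xc18 yc2 zc50) (kc xc26 yc28 zc34) (kc xc17 yc55 zc14) (kc xc14 yc38 zc12) (kc xc26 yc28 zc37) (kc xc26 yc28 zc39) (kc xc25 yc40 zc32) (kc xc8 yc50 zc49) (kc xc19 yc27 zc17) (kc xc26 yc28 zc46) (kc xc12 yc46 zc13) (kc xc20 yc3 zc1) (kc xc12 yc38 zc9) (kc xc26 yc28 zc50) (kc xc8 yc50 zc52) (kc xc26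 yc28 zc53) (kc xc8 yc51 zc11) (kc xc12 yc22 zc41) (kc xc22 yc32 zc21) (kc xc17 yc18 zc33) (kc xc8 yc50 zc54) (kc xc26 yc28 zc61) (kc xc26 yc28 zc60) (kc xc8 yc50 zc55) (kc xc26 yc29 zc5) (kc xc15 yc6 zc38) (kc xc8 yc50 zc57) (kc xc15 yc5 zc60) (kc xc26 yc29 zc8) (kc xc8 yc50 zc58) (kc xc26 yc29 zc11) (kc xc15 yc8 zc24) (kc xc15 yc8 zc25) (kc xc26 yc28 zc44) (kc xc24 yc46 zc50) (kc xc8 yc50 zc60) (kc xc26 yc29 zc20) (kc xc8 yc50 zc61) (kc xc8 yc51 zc0) (kc xc20 yc30 zc44) (kc xc25 yc52 zc16) (kc xc17 yc0 zc21) (kc xc8 yc51 zc4) (kc xc14 yc20 zc32) (kc xc8 yc51 zc3) (kc xc16 yc32 zc46) (kc xc16 yc32 zc45) (kc xc8 yc51 zc2) (kc xc26 yc29 zc31) (kc xc20 yc47 zc44) (kc xc26 yc29 zc34) (kc xc25 yc52 zc15) (kc xc13 yc21 zc6) (kc xc26 yc29 zc25) (kc xc26 yc29 zc39) (kc xc24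 yc25 zc40) (kc xc26 yc29 zc42) (kc xc8 yc51 zc5) (kc xc26 yc29 zc44) (kc xc15 yc8 zc37) (kc xc8 yc51 zc12) (kc xc26 yc29 zc47)) (@D3.rec (fun _ => Pt) (kc xc8 yc51 zc7) (kc xc26 yc29 zc49) (kc xc8 yc51 zc8) (kc xc21 yc28 zc39) (kc xc15 yc8 zc33) (kc xc15 yc8 zc34) (kc xc15 yc8 zc16) (kc xc26 yc21 zc4) (kc xc8 yc51 zc10) (kc xc24 yc29 zc34) (kc xc18 yc6 zc38) (kc xc18 yc29 zc57) (kc xc26 yc29 zc56) (kc xc21 yc44 zc47) (kc xc8 yc51 zc18) (kc xc14 yc30 zc10) (kc xc26 yc29 zc58) (kc xc8 yc51 zc16) (kc xc13 yc7 zc0) (kc xc26 yc30 zc1) (kc xc21 yc44 zc46) (kc xc26 yc30 zc4) (kc xc21 yc53 zc40) (kc xc8 yc51 zc19) (kc xc26 yc30 zc7) (kc xc13 yc7 zc2) (kc xc26 yc21 zc5) (kc xc8 yc51 zc22) (kc xc26 yc30 zc12) (kc xc8 yc51 zc24) (kc xc26 yc23 zc9) (kc xc8 yc51 zc26) (kc xc8 yc51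 zc27) (kc xc26 yc30 zc17) (kc xc26 yc30 zc15) (kc xc26 yc30 zc19) (kc xc26 yc30 zc21) (kc xc8 yc51 zc28) (kc xc26 yc30 zc22) (kc xc8 yc51 zc30) (kc xc26 yc30 zc29) (kc xc12 yc8 zc61) (kc xc8 yc51 zc31) (kc xc26 yc30 zc30) (kc xc10 yc56 zc27) (kc xc20 yc31 zc27) (kc xc8 yc51 zc33) (kc xc8 yc51 zc34) (kc xc26 yc30 zc34) (kc xc12 yc5 zc60) (kc xc12 yc5 zc61) (kc xc26 yc27 zc36) (kc xc16 yc23 zc3) (kc xc8 yc51 zc36) (kc xc8 yc51 zc37) (kc xc9 yc51 zc23) (kc xc13 yc42 zc60) (kc xc8 yc51 zc39) (kc xc26 yc30 zc57) (kc xc18 yc30 zc51) (kc xc26 yc30 zc55) (kc xc8 yc51 zc40)) (@D3.rec (fun _ => Pt) (kc xc25 yc55 zc11) (kc xc26 yc30 zc59) (kc xc8 yc51 zc42) (kc xc26 yc31 zc6) (kc xc26 yc31 zc8) (kc xc26 yc31 zc5) (kc xc23 yc8 zc7) (kc xc21 yc14 zc40) (kc xc8 yc51 zc45) (kc xc26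 yc31 zc18) (kc xc26 yc31 zc20) (kc xc26 yc31 zc16) (kc xc23 yc7 zc50) (kc xc8 yc51 zc47) (kc xc26 yc31 zc30) (kc xc26 yc31 zc33) (kc xc26 yc31 zc29) (kc xc19 yc3 zc15) (kc xc12 yc6 zc2) (kc xc26 yc31 zc37) (kc xc12 yc6 zc4) (kc xc26 yc31 zc41) (kc xc26 yc31 zc43) (kc xc26 yc27 zc60) (kc xc26 yc31 zc48) (kc xc12 yc5 zc19) (kc xc16 yc30 zc10) (kc xc9 yc10 zc18) (kc xc13 yc8 zc3) (kc xc8 yc51 zc54) (kc xc26 yc31 zc56) (kc xc26 yc31 zc59) (kc xc26 yc31 zc54) (kc xc11 yc8 zc6) (kc xc16 yc28 zc42) (kc xc22 yc52 zc54) (kc xc22 yc52 zc52) (kc xc8 yc51 zc59) (kc xc26 yc32 zc4) (kc xc26 yc32 zc3) (kc xc10 yc19 zc30) (kc xc15 yc14 zc30) (kc xc8 yc52 zc0) (kc xc10 yc11 zc47) (kc xc18 yc34 zc37) (kc xc22 yc50 zc54) (kc xc20 yc6 zc8) (kc xc10 yc34 zc57) (kc xc18 yc59 zc51) (kc xc10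 yc28 zc16) (kc xc23 yc42 zc28) (kc xc10 yc28 zc18) (kc xc9 yc55 zc17) (kc xc15 yc24 zc37) (kc xc23 yc32 zc3) (kc xc8 yc52 zc8) (kc xc18 yc59 zc44) (kc xc18 yc59 zc47) (kc xc10 yc28 zc29) (kc xc26 yc32 zc25) (kc xc10 yc28 zc31) (kc xc9 yc57 zc35)) (@D3.rec (fun _ => Pt) (kc xc18 yc27 zc59) (kc xc8 yc52 zc14) (kc xc8 yc52 zc12) (kc xc26 yc32 zc27) (kc xc8 yc52 zc13) (kc xc16 yc22 zc18) (kc xc18 yc7 zc10) (kc xc18 yc3 zc31) (kc xc23 yc29 zc45) (kc xc23 yc3 zc55) (kc xc17 yc45 zc37) (kc xc26 yc32 zc30) (kc xc18 yc51 zc49) (kc xc26 yc32 zc31) (kc xc18 yc51 zc51) (kc xc19 yc59 zc15) (kc xc19 yc58 zc55) (kc xc17 yc45 zc39) (kc xc18 yc14 zc30) (kc xc17 yc47 zc54) (kc xc8 yc52 zc21) (kc xc26 yc32 zc36) (kc xc17 yc47 zc55) (kc xc19 yc0 zc9) (kc xc8 yc52 zc22) (kc xc26 yc32 zc42)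 (kc xc25 yc57 zc28) (kc xc26 yc32 zc47) (kc xc12 yc26 zc26) (kc xc17 yc56 zc46) (kc xc11 yc13 zc14) (kc xc11 yc13 zc40) (kc xc10 yc29 zc27) (kc xc19 yc0 zc8) (kc xc18 yc59 zc31) (kc xc10 yc29 zc44) (kc xc17 yc55 zc12) (kc xc10 yc29 zc46) (kc xc11 yc12 zc28) (kc xc10 yc12 zc31) (kc xc17 yc45 zc38) (kc xc19 yc48 zc18) (kc xc8 yc52 zc37) (kc xc18 yc56 zc51) (kc xc18 yc54 zc39) (kc xc10 yc25 zc46) (kc xc26 yc32 zc54) (kc xc10 yc25 zc48) (kc xc15 yc25 zc31) (kc xc25 yc23 zc55) (kc xc26 yc32 zc55) (kc xc15 yc25 zc18) (kc xc26 yc32 zc58) (kc xc15 yc14 zc12) (kc xc10 yc9 zc4) (kc xc8 yc52 zc44) (kc xc12 yc31 zc55) (kc xc23 yc43 zc29) (kc xc10 yc22 zc54) (kc xc8 yc52 zc45) (kc xc12 yc31 zc51) (kc xc26 yc33 zc1)) (@D3.rec (fun _ => Pt) (kc xc11 yc44 zc27) (kc xc12 yc31 zc57)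 (kc xc11 yc27 zc28) (kc xc8 yc52 zc47) (kc xc9 yc30 zc21) (kc xc20 yc12 zc13) (kc xc15 yc25 zc2) (kc xc12 yc53 zc50) (kc xc8 yc52 zc52) (kc xc20 yc36 zc18) (kc xc26 yc33 zc7) (kc xc21 yc33 zc37) (kc xc15 yc24 zc27) (kc xc26 yc33 zc8) (kc xc24 yc49 zc39) (kc xc19 yc57 zc57) (kc xc19 yc57 zc58) (kc xc15 yc22 zc56) (kc xc21 yc1 zc39) (kc xc8 yc52 zc57) (kc xc8 yc52 zc56) (kc xc24 yc52 zc37) (kc xc24 yc50 zc35) (kc xc15 yc2 zc43) (kc xc8 yc59 zc7) (kc xc15 yc2 zc45) (kc xc9 yc38 zc45) (kc xc16 yc41 zc1) (kc xc16 yc41 zc2) (kc xc20 yc23 zc41) (kc xc8 yc53 zc0) (kc xc8 yc52 zc61) (kc xc17 yc42 zc29) (kc xc17 yc42 zc30) (kc xc9 yc42 zc10) (kc xc26 yc33 zc31) (kc xc9 yc42 zc5) (kc xc26 yc33 zc32) (kc xc19 yc40 zc51) (kc xc15 yc51 zc46) (kc xc15 yc51 zc48) (kc xc17 yc4 zc26)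 (kc xc14 yc30 zc44) (kc xc15 yc51 zc44) (kc xc10 yc32 zc4) (kc xc10 yc20 zc38) (kc xc16 yc45 zc23) (kc xc8 yc53 zc7) (kc xc26 yc33 zc51) (kc xc26 yc33 zc50) (kc xc14 yc34 zc9) (kc xc15 yc21 zc16) (kc xc8 yc53 zc8) (kc xc19 yc31 zc30) (kc xc14 yc34 zc5) (kc xc26 yc4 zc60) (kc xc25 yc4 zc29) (kc xc25 yc4 zc32) (kc xc8 yc53 zc10) (kc xc26 yc4 zc55) (kc xc10 yc32 zc16) (kc xc26 yc34 zc4)) (@D3.rec (fun _ => Pt) (kc xc25 yc16 zc45) (kc xc18 yc12 zc28) (kc xc25 yc16 zc43) (kc xc24 yc14 zc46) (kc xc17 yc48 zc12) (kc xc21 yc20 zc55) (kc xc26 yc34 zc14) (kc xc26 yc34 zc16) (kc xc19 yc44 zc1) (kc xc8 yc53 zc38) (kc xc8 yc53 zc40) (kc xc26 yc34 zc24) (kc xc24 yc49 zc53) (kc xc26 yc34 zc25) (kc xc26 yc34 zc27) (kc xc10 yc35 zc49) (kc xc15 yc19 zc27) (kc xc10 yc35 zc50) (kc xc16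 yc9 zc10) (kc xc11 yc4 zc46) (kc xc19 yc36 zc8) (kc xc23 yc50 zc60) (kc xc8 yc53 zc26) (kc xc8 yc53 zc24) (kc xc8 yc53 zc25) (kc xc10 yc49 zc26) (kc xc10 yc48 zc38) (kc xc8 yc56 zc8) (kc xc26 yc34 zc46) (kc xc8 yc56 zc9) (kc xc9 yc14 zc38) (kc xc10 yc20 zc23) (kc xc11 yc3 zc13) (kc xc22 yc19 zc24) (kc xc26 yc34 zc55) (kc xc19 yc55 zc47) (kc xc16 yc50 zc6) (kc xc26 yc34 zc59) (kc xc16 yc50 zc8) (kc xc16 yc8 zc53) (kc xc22 yc19 zc15) (kc xc16 yc50 zc3) (kc xc19 yc39 zc9) (kc xc19 yc36 zc27) (kc xc10 yc51 zc0) (kc xc26 yc35 zc12) (kc xc10 yc51 zc2) (kc xc16 yc9 zc0) (kc xc14 yc22 zc50) (kc xc17 yc48 zc9) (kc xc8 yc53 zc36) (kc xc10 yc55 zc17) (kc xc26 yc35 zc21) (kc xc19 yc12 zc45) (kc xc8 yc53 zc37) (kc xc26 yc35 zc30) (kc xc25 yc20 zc2) (kc xc18 yc22 zc28) (kc xc26 yc34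 zc20) (kc xc21 yc0 zc6) (kc xc26 yc35 zc38) (kc xc19 yc32 zc15)) (@D3.rec (fun _ => Pt) (kc xc26 yc35 zc43) (kc xc26 yc35 zc46) (kc xc26 yc35 zc51) (kc xc19 yc59 zc24) (kc xc15 yc56 zc10) (kc xc15 yc24 zc11) (kc xc25 yc52 zc18) (kc xc16 yc8 zc43) (kc xc26 yc35 zc56) (kc xc26 yc35 zc59) (kc xc26 yc36 zc2) (kc xc16 yc9 zc21) (kc xc19 yc54 zc23) (kc xc26 yc36 zc6) (kc xc25 yc4 zc14) (kc xc26 yc36 zc11) (kc xc17 yc48 zc53) (kc xc26 yc36 zc15) (kc xc26 yc36 zc18) (kc xc8 yc53 zc46) (kc xc26 yc36 zc24) (kc xc9 yc41 zc5) (kc xc10 yc36 zc57) (kc xc19 yc34 zc44) (kc xc26 yc36 zc30) (kc xc8 yc53 zc50) (kc xc8 yc53 zc51) (kc xc26 yc36 zc36) (kc xc17 yc35 zc45) (kc xc15 yc25 zc46) (kc xc26 yc36 zc44) (kc xc8 yc53 zc53) (kc xc10 yc43 zc57) (kc xc10 yc9 zc36) (kc xc22 yc6 zc11) (kc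 xc21 yc59 zc29) (kc xc15 yc25 zc45) (kc xc22 yc35 zc39) (kc xc10 yc11 zc45) (kc xc19 yc28 zc44) (kc xc8 yc53 zc57) (kc xc16 yc45 zc41) (kc xc26 yc36 zc52) (kc xc16 yc44 zc53) (kc xc26 yc36 zc55) (kc xc25 yc14 zc16) (kc xc26 yc36 zc60) (kc xc16 yc8 zc16) (kc xc19 yc38 zc3) (kc xc26 yc37 zc4) (kc xc8 yc53 zc60) (kc xc19 yc34 zc57) (kc xc26 yc37 zc14) (kc xc26 yc0 zc9) (kc xc26 yc37 zc19) (kc xc16 yc8 zc20) (kc xc21 yc59 zc43) (kc xc26 yc37 zc24) (kc xc8 yc59 zc31) (kc xc25 yc44 zc34) (kc xc10 yc51 zc36) (kc xc21 yc51 zc57)) (@D3.rec (fun _ => Pt) (kc xc25 yc19 zc39) (kc xc16 yc50 zc50) (kc xc20 yc29 zc5) (kc xc19 yc40 zc8) (kc xc26 yc37 zc31) (kc xc8 yc54 zc3) (kc xc26 yc37 zc33) (kc xc15 yc51 zc27) (kc xc8 yc54 zc6) (kc xc10 yc38 zc21) (kc xc16 yc45 zc20) (kc xc22 yc4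 zc3) (kc xc19 yc14 zc11) (kc xc8 yc54 zc19) (kc xc8 yc54 zc21) (kc xc15 yc1 zc1) (kc xc8 yc54 zc13) (kc xc19 yc22 zc38) (kc xc26 yc37 zc45) (kc xc24 yc50 zc46) (kc xc24 yc0 zc24) (kc xc26 yc9 zc8) (kc xc16 yc49 zc52) (kc xc16 yc49 zc54) (kc xc16 yc11 zc41) (kc xc19 yc46 zc34) (kc xc19 yc34 zc45) (kc xc10 yc56 zc7) (kc xc16 yc40 zc56) (kc xc8 yc54 zc17) (kc xc26 yc37 zc55) (kc xc18 yc46 zc24) (kc xc8 yc54 zc18) (kc xc8 yc58 zc56) (kc xc26 yc37 zc40) (kc xc19 yc43 zc11) (kc xc19 yc43 zc46) (kc xc26 yc37 zc60) (kc xc26 yc38 zc0) (kc xc26 yc37 zc43) (kc xc15 yc47 zc61) (kc xc19 yc17 zc51) (kc xc15 yc48 zc10) (kc xc16 yc40 zc55) (kc xc24 yc3 zc31) (kc xc9 yc43 zc5) (kc xc25 yc38 zc22) (kc xc10 yc49 zc31) (kc xc25 yc4 zc26) (kc xc15 yc51 zc30) (kc xc17 yc50 zc37) (kc xc16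 yc40 zc37) (kc xc16 yc40 zc38) (kc xc8 yc54 zc27) (kc xc26 yc38 zc18) (kc xc10 yc39 zc33) (kc xc25 yc56 zc21) (kc xc8 yc54 zc30) (kc xc8 yc57 zc41) (kc xc26 yc38 zc26) (kc xc8 yc54 zc33) (kc xc8 yc54 zc32)) (@D3.rec (fun _ => Pt) (kc xc17 yc46 zc54) (kc xc18 yc31 zc15) (kc xc26 yc38 zc32) (kc xc16 yc41 zc18) (kc xc21 yc58 zc3) (kc xc26 yc38 zc36) (kc xc24 yc58 zc21) (kc xc26 yc38 zc41) (kc xc8 yc54 zc38) (kc xc26 yc38 zc43) (kc xc25 yc12 zc39) (kc xc25 yc12 zc40) (kc xc22 yc1 zc33) (kc xc24 yc58 zc25) (kc xc9 yc12 zc11) (kc xc9 yc10 zc61) (kc xc26 yc38 zc60) (kc xc26 yc10 zc44) (kc xc10 yc56 zc33) (kc xc14 yc40 zc43) (kc xc25 yc47 zc27) (kc xc17 yc53 zc14) (kc xc14 yc40 zc42) (kc xc23 yc45 zc52) (kc xc8 yc54 zc43) (kc xc20 yc23 zc40) (kc xc8 yc58 zc10) (kc xc14 yc39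 zc2) (kc xc8 yc54 zc46) (kc xc14 yc39 zc1) (kc xc15 yc2 zc42) (kc xc8 yc54 zc49) (kc xc26 yc39 zc16) (kc xc26 yc39 zc18) (kc xc8 yc54 zc50) (kc xc10 yc29 zc38) (kc xc8 yc54 zc51) (kc xc16 yc39 zc51) (kc xc16 yc39 zc52) (kc xc18 yc22 zc1) (kc xc8 yc54 zc53) (kc xc24 yc3 zc22) (kc xc24 yc3 zc32) (kc xc18 yc54 zc4) (kc xc15 yc19 zc15) (kc xc8 yc54 zc56) (kc xc15 yc15 zc19) (kc xc11 yc51 zc37) (kc xc26 yc39 zc31) (kc xc26 yc39 zc34) (kc xc8 yc54 zc58) (kc xc26 yc39 zc36) (kc xc17 yc14 zc7) (kc xc8 yc54 zc59) (kc xc17 yc4 zc27) (kc xc16 yc39 zc43) (kc xc16 yc39 zc28) (kc xc26 yc39 zc43) (kc xc8 yc54 zc61) (kc xc26 yc39 zc44) (kc xc12 yc53 zc18) (kc xc26 yc10 zc42)) (@D3.rec (fun _ => Pt) (kc xc14 yc40 zc57) (kc xc16 yc36 zc27) (kc xc16 yc36 zc28) (kc xc8 yc55 zc4) (kc xc14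 yc40 zc56) (kc xc13 yc8 zc0) (kc xc13 yc12 zc33) (kc xc14 yc10 zc34) (kc xc21 yc56 zc36) (kc xc8 yc58 zc52) (kc xc15 yc3 zc29) (kc xc26 yc1 zc57) (kc xc15 yc3 zc28) (kc xc25 yc49 zc34) (kc xc9 yc51 zc46) (kc xc8 yc55 zc7) (kc xc19 yc6 zc15) (kc xc9 yc51 zc47) (kc xc16 yc40 zc3) (kc xc10 yc57 zc36) (kc xc19 yc32 zc16) (kc xc8 yc55 zc10) (kc xc8 yc55 zc11) (kc xc24 yc27 zc40) (kc xc15 yc42 zc44) (kc xc8 yc59 zc5) (kc xc26 yc40 zc0) (kc xc20 yc37 zc61) (kc xc15 yc2 zc41) (kc xc26 yc40 zc4) (kc xc8 yc55 zc12) (kc xc26 yc40 zc7) (kc xc16 yc7 zc12) (kc xc8 yc55 zc15) (kc xc8 yc55 zc14) (kc xc20 yc24 zc38) (kc xc8 yc59 zc18) (kc xc26 yc40 zc14) (kc xc20 yc38 zc7) (kc xc25 yc38 zc24) (kc xc15 yc44 zc56) (kc xc8 yc55 zc16) (kc xc26 yc40 zc18) (kc xc19 yc55 zc31) (kc xc25 yc38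 zc28) (kc xc26 yc40 zc26) (kc xc8 yc55 zc18) (kc xc26 yc40 zc27) (kc xc26 yc40 zc31) (kc xc26 yc40 zc33) (kc xc8 yc55 zc27) (kc xc11 yc19 zc22) (kc xc8 yc55 zc20) (kc xc8 yc55 zc21) (kc xc26 yc40 zc36) (kc xc19 yc54 zc61) (kc xc24 yc34 zc9) (kc xc24 yc23 zc35) (kc xc26 yc40 zc40) (kc xc25 yc23 zc43) (kc xc12 yc56 zc9) (kc xc25 yc19 zc38)) (@D3.rec (fun _ => Pt) (kc xc8 yc55 zc23) (kc xc16 yc9 zc18) (kc xc16 yc9 zc19) (kc xc26 yc40 zc49) (kc xc19 yc57 zc35) (kc xc26 yc40 zc51) (kc xc8 yc55 zc25) (kc xc26 yc40 zc56) (kc xc25 yc44 zc32) (kc xc25 yc44 zc33) (kc xc26 yc10 zc37) (kc xc25 yc38 zc38) (kc xc26 yc41 zc2) (kc xc24 yc34 zc12) (kc xc24 yc32 zc14) (kc xc26 yc35 zc54) (kc xc15 yc30 zc44) (kc xc8 yc55 zc31) (kc xc8 yc55 zc29) (kc xc19 yc42 zc48) (kc xc17 yc49 zc39)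 (kc xc24 yc14 zc33) (kc xc8 yc55 zc30) (kc xc26 yc41 zc9) (kc xc17 yc48 zc10) (kc xc22 yc4 zc55) (kc xc15 yc24 zc51) (kc xc26 yc41 zc12) (kc xc25 yc52 zc19) (kc xc26 yc41 zc15) (kc xc26 yc5 zc26) (kc xc25 yc17 zc56) (kc xc24 yc54 zc46) (kc xc26 yc8 zc29) (kc xc26 yc8 zc30) (kc xc8 yc55 zc35) (kc xc26 yc41 zc22) (kc xc25 yc22 zc41) (kc xc25 yc22 zc39) (kc xc24 yc21 zc2) (kc xc8 yc55 zc39) (kc xc8 yc55 zc38) (kc xc15 yc54 zc56) (kc xc23 yc59 zc9) (kc xc8 yc55 zc41) (kc xc20 yc4 zc21) (kc xc20 yc2 zc10) (kc xc11 yc9 zc4) (kc xc20 yc29 zc46) (kc xc11 yc9 zc5) (kc xc11 yc2 zc56) (kc xc11 yc2 zc57) (kc xc8 yc55 zc46) (kc xc8 yc55 zc45) (kc xc26 yc41 zc41) (kc xc19 yc44 zc18) (kc xc19 yc10 zc57) (kc xc26 yc41 zc45) (kc xc12 yc43 zc46) (kc xc11 yc5 zc18) (kc xc26 yc41 zc48)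 (kc xc26 yc41 zc50)) (@D3.rec (fun _ => Pt) (kc xc25 yc7 zc58) (kc xc25 yc7 zc59) (kc xc14 yc47 zc44) (kc xc19 yc55 zc21) (kc xc16 yc49 zc58) (kc xc16 yc49 zc60) (kc xc15 yc1 zc53) (kc xc8 yc55 zc54) (kc xc11 yc20 zc26) (kc xc11 yc9 zc52) (kc xc11 yc9 zc49) (kc xc24 yc0 zc39) (kc xc19 yc8 zc59) (kc xc26 yc42 zc4) (kc xc8 yc55 zc57) (kc xc9 yc26 zc14) (kc xc23 yc0 zc50) (kc xc25 yc8 zc17) (kc xc14 yc51 zc30) (kc xc15 yc35 zc4) (kc xc14 yc23 zc16) (kc xc14 yc23 zc23) (kc xc13 yc36 zc55) (kc xc15 yc53 zc16) (kc xc21 yc40 zc15) (kc xc19 yc11 zc7) (kc xc21 yc40 zc14) (kc xc8 yc56 zc5) (kc xc8 yc56 zc6) (kc xc16 yc43 zc38) (kc xc8 yc56 zc7) (kc xc26 yc2 zc54) (kc xc26 yc34 zc45) (kc xc26 yc42 zc18) (kc xc26 yc42 zc19) (kc xc20 yc43 zc1) (kc xc11 yc5 zc39) (kc xc16 yc50 zc34)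 (kc xc16 yc43 zc29) (kc xc11 yc28 zc18) (kc xc16 yc50 zc33) (kc xc19 yc45 zc21) (kc xc8 yc56 zc13) (kc xc26 yc41 zc60) (kc xc20 yc12 zc32) (kc xc26 yc42 zc31) (kc xc10 yc35 zc58) (kc xc19 yc3 zc40) (kc xc8 yc56 zc14) (kc xc26 yc42 zc33) (kc xc19 yc45 zc22) (kc xc8 yc56 zc16) (kc xc16 yc48 zc58) (kc xc8 yc56 zc18) (kc xc13 yc27 zc47) (kc xc16 yc56 zc31) (kc xc8 yc56 zc19) (kc xc26 yc33 zc5) (kc xc11 yc1 zc43) (kc xc26 yc42 zc36) (kc xc9 yc41 zc12) (kc xc26 yc42 zc39)) (@D3.rec (fun _ => Pt) (kc xc26 yc42 zc40) (kc xc15 yc2 zc49) (kc xc24 yc50 zc32) (kc xc17 yc3 zc40) (kc xc24 yc50 zc33) (kc xc18 yc44 zc0) (kc xc26 yc42 zc49) (kc xc19 yc58 zc48) (kc xc19 yc54 zc27) (kc xc11 yc3 zc36) (kc xc26 yc42 zc52) (kc xc11 yc3 zc38) (kc xc15 yc59 zc58) (kc xc10 yc20 zc28) (kc xc26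 yc43 zc2) (kc xc26 yc43 zc4) (kc xc19 yc11 zc19) (kc xc10 yc36 zc15) (kc xc10 yc36 zc17) (kc xc26 yc43 zc11) (kc xc20 yc3 zc12) (kc xc20 yc2 zc44) (kc xc15 yc22 zc12) (kc xc15 yc22 zc13) (kc xc26 yc43 zc18) (kc xc10 yc50 zc42) (kc xc17 yc48 zc3) (kc xc8 yc56 zc33) (kc xc26 yc43 zc20) (kc xc11 yc5 zc40) (kc xc11 yc5 zc37) (kc xc26 yc43 zc27) (kc xc8 yc56 zc50) (kc xc25 yc36 zc10) (kc xc26 yc43 zc30) (kc xc8 yc56 zc36) (kc xc26 yc43 zc35) (kc xc11 yc10 zc23) (kc xc12 yc55 zc22) (kc xc10 yc38 zc7) (kc xc17 yc50 zc8) (kc xc15 yc23 zc16) (kc xc25 yc14 zc43) (kc xc8 yc56 zc42) (kc xc11 yc9 zc51) (kc xc15 yc22 zc31) (kc xc12 yc10 zc7) (kc xc16 yc50 zc52) (kc xc15 yc22 zc30) (kc xc19 yc41 zc40) (kc xc8 yc56 zc45) (kc xc26 yc43 zc48) (kc xc10 yc47 zc44) (kc xc16 yc38 zc43) (kc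 xc8 yc56 zc46) (kc xc26 yc35 zc39) (kc xc25 yc10 zc19) (kc xc19 yc41 zc41) (kc xc8 yc56 zc48) (kc xc24 yc46 zc17) (kc xc20 yc7 zc33) (kc xc26 yc43 zc57)) (@D3.rec (fun _ => Pt) (kc xc8 yc56 zc49) (kc xc9 yc3 zc61) (kc xc25 yc40 zc35) (kc xc8 yc56 zc51) (kc xc13 yc23 zc24) (kc xc16 yc48 zc40) (kc xc8 yc56 zc52) (kc xc26 yc44 zc1) (kc xc11 yc0 zc25) (kc xc10 yc57 zc33) (kc xc26 yc44 zc6) (kc xc16 yc56 zc32) (kc xc20 yc3 zc18) (kc xc8 yc56 zc55) (kc xc26 yc44 zc11) (kc xc20 yc39 zc14) (kc xc8 yc56 zc56) (kc xc19 yc51 zc45) (kc xc26 yc44 zc13) (kc xc8 yc56 zc57) (kc xc16 yc39 zc10) (kc xc25 yc38 zc16) (kc xc19 yc40 zc45) (kc xc16 yc36 zc46) (kc xc25 yc10 zc5) (kc xc25 yc10 zc6) (kc xc19 yc14 zc15) (kc xc19 yc48 zc9) (kc xc19 yc48 zc10) (kc xc9 yc51 zc37) (kc xc15 yc2 zc20)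 (kc xc8 yc57 zc2) (kc xc17 yc32 zc49) (kc xc13 yc8 zc43) (kc xc8 yc57 zc25) (kc xc14 yc4 zc27) (kc xc23 yc1 zc16) (kc xc8 yc57 zc31) (kc xc15 yc38 zc55) (kc xc15 yc38 zc56) (kc xc26 yc44 zc28) (kc xc16 yc38 zc41) (kc xc8 yc57 zc8) (kc xc26 yc44 zc31) (kc xc25 yc49 zc40) (kc xc26 yc44 zc34) (kc xc25 yc49 zc39) (kc xc19 yc5 zc9) (kc xc8 yc57 zc10) (kc xc26 yc34 zc29) (kc xc15 yc53 zc54) (kc xc26 yc11 zc12) (kc xc8 yc57 zc13) (kc xc8 yc57 zc14) (kc xc26 yc44 zc41) (kc xc21 yc44 zc6) (kc xc21 yc50 zc58) (kc xc26 yc11 zc11) (kc xc8 yc57 zc16) (kc xc16 yc47 zc54) (kc xc12 yc55 zc47) (kc xc16 yc28 zc0)) (@D3.rec (fun _ => Pt) (kc xc22 yc59 zc52) (kc xc8 yc57 zc21) (kc xc20 yc28 zc4) (kc xc22 yc59 zc54) (kc xc8 yc57 zc24) (kc xc26 yc44 zc48) (kc xc11 yc47 zc57) (kc xc14 yc50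 zc36) (kc xc20 yc50 zc5) (kc xc19 yc37 zc7) (kc xc10 yc59 zc12) (kc xc22 yc59 zc40) (kc xc8 yc57 zc27) (kc xc19 yc47 zc56) (kc xc8 yc57 zc28) (kc xc19 yc50 zc20) (kc xc8 yc57 zc29) (kc xc23 yc40 zc8) (kc xc8 yc57 zc30) (kc xc13 yc57 zc30) (kc xc24 yc49 zc47) (kc xc8 yc57 zc32) (kc xc26 yc44 zc53) (kc xc26 yc26 zc14) (kc xc26 yc38 zc23) (kc xc26 yc38 zc25) (kc xc26 yc18 zc23) (kc xc8 yc57 zc45) (kc xc8 yc57 zc46) (kc xc17 yc33 zc42) (kc xc10 yc57 zc37) (kc xc10 yc57 zc34) (kc xc26 yc44 zc61) (kc xc8 yc58 zc5) (kc xc8 yc57 zc51) (kc xc26 yc44 zc4) (kc xc11 yc0 zc34) (kc xc11 yc0 zc35) (kc xc26 yc43 zc28) (kc xc15 yc58 zc13) (kc xc19 yc38 zc56) (kc xc10 yc40 zc0) (kc xc26 yc45 zc8) (kc xc24 yc58 zc28) (kc xc26 yc45 zc10) (kc xc20 yc59 zc13) (kc xc20 yc59 zc12) (kc xc8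 yc57 zc56) (kc xc15 yc33 zc5) (kc xc9 yc42 zc29) (kc xc14 yc43 zc34) (kc xc26 yc45 zc20) (kc xc8 yc57 zc59) (kc xc24 yc51 zc5) (kc xc26 yc45 zc23) (kc xc15 yc20 zc32) (kc xc26 yc43 zc32) (kc xc16 yc48 zc6) (kc xc26 yc43 zc33) (kc xc8 yc58 zc3) (kc xc22 yc5 zc37) (kc xc13 yc1 zc42)) (@D3.rec (fun _ => Pt) (kc xc8 yc58 zc4) (kc xc10 yc58 zc43) (kc xc10 yc58 zc7) (kc xc24 yc12 zc47) (kc xc19 yc49 zc34) (kc xc8 yc58 zc7) (kc xc26 yc45 zc37) (kc xc16 yc48 zc31) (kc xc8 yc58 zc8) (kc xc26 yc45 zc40) (kc xc26 yc39 zc9) (kc xc8 yc58 zc13) (kc xc10 yc56 zc15) (kc xc10 yc56 zc14) (kc xc8 yc58 zc17) (kc xc21 yc58 zc2) (kc xc8 yc58 zc18) (kc xc17 yc56 zc26) (kc xc8 yc58 zc20) (kc xc21 yc32 zc39) (kc xc8 yc58 zc21) (kc xc26 yc45 zc44) (kc xc20 yc9 zc57) (kc xc19 yc43 zc15) (kc xc10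 yc49 zc14) (kc xc8 yc58 zc24) (kc xc24 yc57 zc3) (kc xc16 yc30 zc55) (kc xc26 yc45 zc45) (kc xc8 yc58 zc25) (kc xc23 yc41 zc32) (kc xc21 yc3 zc30) (kc xc26 yc45 zc48) (kc xc19 yc59 zc14) (kc xc26 yc45 zc32) (kc xc26 yc45 zc50) (kc xc26 yc45 zc51) (kc xc26 yc45 zc52) (kc xc10 yc54 zc32) (kc xc10 yc56 zc53) (kc xc10 yc53 zc47) (kc xc20 yc31 zc59) (kc xc8 yc58 zc37) (kc xc26 yc45 zc57) (kc xc17 yc53 zc26) (kc xc26 yc45 zc58) (kc xc8 yc58 zc40) (kc xc8 yc58 zc39) (kc xc26 yc46 zc0) (kc xc25 yc37 zc46) (kc xc20 yc1 zc25) (kc xc8 yc58 zc42) (kc xc10 yc31 zc32) (kc xc16 yc25 zc34) (kc xc16 yc45 zc59) (kc xc19 yc47 zc5) (kc xc19 yc46 zc48) (kc xc19 yc46 zc50) (kc xc10 yc52 zc9) (kc xc8 yc58 zc49) (kc xc21 yc36 zc44) (kc xc8 yc58 zc51)) (@D3.rec (fun _ => Pt) (kc xc19 yc46 zc52)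 (kc xc24 yc27 zc41) (kc xc8 yc58 zc55) (kc xc22 yc6 zc28) (kc xc16 yc53 zc54) (kc xc18 yc27 zc44) (kc xc16 yc46 zc57) (kc xc25 yc41 zc14) (kc xc25 yc38 zc20) (kc xc8 yc58 zc61) (kc xc24 yc27 zc39) (kc xc8 yc59 zc1) (kc xc26 yc46 zc11) (kc xc10 yc49 zc29) (kc xc19 yc43 zc22) (kc xc8 yc59 zc4) (kc xc12 yc4 zc7) (kc xc8 yc59 zc6) (kc xc16 yc53 zc55) (kc xc19 yc46 zc53) (kc xc19 yc46 zc38) (kc xc8 yc59 zc13) (kc xc24 yc39 zc32) (kc xc8 yc59 zc12) (kc xc10 yc57 zc11) (kc xc8 yc59 zc11) (kc xc20 yc34 zc45) (kc xc10 yc56 zc22) (kc xc10 yc56 zc23) (kc xc26 yc46 zc16) (kc xc26 yc46 zc20) (kc xc16 yc47 zc7) (kc xc20 yc23 zc53) (kc xc20 yc34 zc48) (kc xc8 yc59 zc17) (kc xc21 yc51 zc34) (kc xc26 yc46 zc28) (kc xc26 yc46 zc29) (kc xc11 yc0 zc52) (kc xc8 yc59 zc20) (kc xc16 yc45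 zc5) (kc xc8 yc59 zc22) (kc xc21 yc30 zc9) (kc xc26 yc2 zc6) (kc xc8 yc59 zc24) (kc xc12 yc33 zc54) (kc xc8 yc59 zc25) (kc xc11 yc26 zc48) (kc xc15 yc3 zc41) (kc xc22 yc3 zc22) (kc xc11 yc26 zc29) (kc xc25 yc31 zc40) (kc xc8 yc59 zc29) (kc xc8 yc59 zc30) (kc xc19 yc46 zc42) (kc xc18 yc32 zc36) (kc xc8 yc59 zc32) (kc xc19 yc39 zc54) (kc xc16 yc43 zc52) (kc xc21 yc32 zc40) (kc xc8 yc59 zc36) (kc xc22 yc46 zc38)) (@D3.rec (fun _ => Pt) (kc xc10 yc18 zc42) (kc xc17 yc7 zc23) (kc xc9 yc2 zc56) (kc xc25 yc13 zc24) (kc xc8 yc59 zc42) (kc xc16 yc4 zc26) (kc xc9 yc25 zc12) (kc xc8 yc59 zc50) (kc xc26 yc46 zc42) (kc xc8 yc59 zc49) (kc xc8 yc59 zc48) (kc xc20 yc49 zc32) (kc xc8 yc59 zc55) (kc xc26 yc46 zc44) (kc xc8 yc59 zc54) (kc xc20 yc52 zc54) (kc xc10 yc35 zc29) (kc xc14 yc14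 zc1) (kc xc10 yc51 zc17) (kc xc10 yc49 zc0) (kc xc10 yc51 zc15) (kc xc11 yc2 zc45) (kc xc8 yc59 zc60) (kc xc25 yc14 zc17) (kc xc24 yc36 zc32) (kc xc11 yc5 zc7) (kc xc19 yc58 zc26) (kc xc8 yc59 zc61) (kc xc26 yc46 zc51) (kc xc9 yc0 zc1) (kc xc25 yc14 zc21) (kc xc20 yc40 zc22) (kc xc26 yc46 zc57) (kc xc26 yc46 zc58) (kc xc19 yc10 zc43) (kc xc11 yc6 zc11) (kc xc16 yc56 zc24) (kc xc16 yc56 zc23) (kc xc9 yc0 zc12) (kc xc20 yc14 zc3) (kc xc12 yc12 zc55) (kc xc9 yc0 zc15) (kc xc14 yc3 zc1) (kc xc11 yc15 zc9) (kc xc9 yc1 zc39) (kc xc20 yc18 zc15) (kc xc20 yc14 zc8) (kc xc22 yc9 zc53) (kc xc26 yc47 zc3) (kc xc14 yc7 zc48) (kc xc12 yc25 zc8) (kc xc26 yc39 zc33) (kc xc16 yc39 zc22) (kc xc26 yc47 zc5) (kc xc16 yc39 zc23) (kc xc19 yc45 zc1) (kc xc24 yc11 zc54) (kc xc25 yc15 zc14)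 (kc xc16 yc43 zc4) (kc xc24 yc47 zc6) (kc xc16 yc43 zc5) (kc xc16 yc50 zc28)) (@D3.rec (fun _ => Pt) (kc xc26 yc47 zc16) (kc xc10 yc47 zc50) (kc xc10 yc47 zc51) (kc xc16 yc37 zc41) (kc xc26 yc47 zc18) (kc xc26 yc34 zc44) (kc xc16 yc37 zc36) (kc xc26 yc47 zc22) (kc xc16 yc37 zc38) (kc xc16 yc50 zc21) (kc xc16 yc14 zc25) (kc xc15 yc43 zc61) (kc xc26 yc47 zc35) (kc xc9 yc0 zc40) (kc xc9 yc0 zc39) (kc xc21 yc36 zc61) (kc xc26 yc47 zc38) (kc xc26 yc47 zc39) (kc xc24 yc49 zc34) (kc xc18 yc3 zc11) (kc xc24 yc49 zc36) (kc xc16 yc50 zc9) (kc xc23 yc40 zc32) (kc xc26 yc43 zc22) (kc xc26 yc43 zc3) (kc xc10 yc46 zc19) (kc xc26 yc47 zc53) (kc xc10 yc46 zc21) (kc xc16 yc49 zc61) (kc xc26 yc47 zc61) (kc xc10 yc15 zc61) (kc xc10 yc31 zc0) (kc xc19 yc39 zc3) (kc xc16 yc43 zc40) (kc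 xc16 yc43 zc37) (kc xc20 yc6 zc30) (kc xc9 yc0 zc50) (kc xc19 yc40 zc6) (kc xc19 yc24 zc54) (kc xc16 yc12 zc7) (kc xc9 yc51 zc41) (kc xc22 yc45 zc43) (kc xc24 yc48 zc47) (kc xc26 yc14 zc25) (kc xc10 yc15 zc48) (kc xc26 yc48 zc15) (kc xc17 yc40 zc37) (kc xc9 yc0 zc55) (kc xc26 yc14 zc19) (kc xc9 yc0 zc58) (kc xc16 yc39 zc1) (kc xc21 yc37 zc31) (kc xc16 yc44 zc47) (kc xc10 yc47 zc6) (kc xc10 yc48 zc41) (kc xc10 yc52 zc7) (kc xc10 yc47 zc4) (kc xc19 yc48 zc19) (kc xc9 yc1 zc1) (kc xc23 yc47 zc26) (kc xc18 yc33 zc53) (kc xc19 yc48 zc20)) (@D3.rec (fun _ => Pt) (kc xc9 yc1 zc4) (kc xc26 yc48 zc3) (kc xc26 yc48 zc32) (kc xc26 yc1 zc41) (kc xc14 yc51 zc7) (kc xc20 yc29 zc2) (kc xc9 yc1 zc6) (kc xc26 yc48 zc34) (kc xc25 yc41 zc5) (kc xc9 yc1 zc7) (kc xc9 yc1 zc8) (kc xc26 yc48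 zc35) (kc xc9 yc1 zc13) (kc xc9 yc1 zc14) (kc xc10 yc31 zc13) (kc xc9 yc1 zc16) (kc xc15 yc18 zc29) (kc xc19 yc34 zc56) (kc xc11 yc11 zc45) (kc xc16 yc56 zc8) (kc xc16 yc56 zc7) (kc xc16 yc27 zc52) (kc xc9 yc1 zc24) (kc xc16 yc54 zc48) (kc xc16 yc54 zc47) (kc xc16 yc29 zc34) (kc xc9 yc1 zc27) (kc xc15 yc4 zc37) (kc xc20 yc9 zc52) (kc xc20 yc12 zc43) (kc xc26 yc48 zc48) (kc xc12 yc53 zc12) (kc xc20 yc15 zc11) (kc xc9 yc1 zc40) (kc xc11 yc1 zc37) (kc xc9 yc1 zc42) (kc xc20 yc13 zc31) (kc xc20 yc13 zc32) (kc xc16 yc30 zc25) (kc xc17 yc8 zc24) (kc xc11 yc7 zc19) (kc xc11 yc17 zc23) (kc xc11 yc17 zc24) (kc xc18 yc48 zc51) (kc xc9 yc1 zc47) (kc xc16 yc54 zc9) (kc xc9 yc1 zc48) (kc xc26 yc48 zc56) (kc xc26 yc48 zc58) (kc xc14 yc3 zc61) (kc xc23 yc26 zc20) (kc xc14 yc46 zc48)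 (kc xc9 yc1 zc52) (kc xc26 yc48 zc59) (kc xc26 yc17 zc32) (kc xc11 yc7 zc1) (kc xc11 yc11 zc3) (kc xc26 yc17 zc34) (kc xc9 yc1 zc59) (kc xc22 yc32 zc10) (kc xc14 yc2 zc60) (kc xc26 yc17 zc31)) (@D3.rec (fun _ => Pt) (kc xc9 yc2 zc0) (kc xc11 yc13 zc15) (kc xc11 yc15 zc42) (kc xc9 yc2 zc2) (kc xc24 yc10 zc13) (kc xc26 yc49 zc10) (kc xc17 yc24 zc21) (kc xc20 yc12 zc45) (kc xc20 yc19 zc6) (kc xc9 yc2 zc4) (kc xc17 yc22 zc22) (kc xc23 yc47 zc38) (kc xc26 yc49 zc14) (kc xc11 yc7 zc11) (kc xc11 yc7 zc6) (kc xc26 yc17 zc29) (kc xc26 yc17 zc23) (kc xc9 yc2 zc7) (kc xc24 yc12 zc49) (kc xc20 yc5 zc57) (kc xc22 yc59 zc5) (kc xc9 yc2 zc12) (kc xc9 yc2 zc9) (kc xc22 yc32 zc25) (kc xc9 yc2 zc10) (kc xc22 yc32 zc26) (kc xc14 yc42 zc34) (kc xc13 yc21 zc33) (kc xc13 yc53 zc37) (kc xc11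 yc7 zc17) (kc xc9 yc2 zc14) (kc xc22 yc38 zc41) (kc xc12 yc26 zc28) (kc xc9 yc2 zc16) (kc xc26 yc49 zc33) (kc xc26 yc49 zc32) (kc xc24 yc16 zc37) (kc xc17 yc23 zc52) (kc xc9 yc2 zc23) (kc xc19 yc2 zc31) (kc xc24 yc53 zc26) (kc xc9 yc2 zc25) (kc xc20 yc7 zc58) (kc xc9 yc2 zc27) (kc xc26 yc49 zc36) (kc xc9 yc2 zc29) (kc xc26 yc49 zc40) (kc xc26 yc49 zc41) (kc xc26 yc27 zc12) (kc xc9 yc2 zc30) (kc xc9 yc2 zc31) (kc xc11 yc15 zc20) (kc xc11 yc13 zc36) (kc xc9 yc2 zc33) (kc xc20 yc6 zc25) (kc xc21 yc12 zc24) (kc xc26 yc32 zc17) (kc xc9 yc2 zc34) (kc xc20 yc8 zc4) (kc xc9 yc2 zc36) (kc xc26 yc29 zc32) (kc xc9 yc44 zc42)) (@D3.rec (fun _ => Pt) (kc xc9 yc44 zc44) (kc xc9 yc38 zc3) (kc xc11 yc13 zc16) (kc xc9 yc2 zc38) (kc xc22 yc51 zc18) (kc xc26 yc29 zc28) (kc xc26 yc32 zc50)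 (kc xc9 yc45 zc32) (kc xc21 yc15 zc8) (kc xc17 yc15 zc44) (kc xc20 yc18 zc28) (kc xc9 yc2 zc42) (kc xc11 yc17 zc2) (kc xc17 yc55 zc8) (kc xc20 yc7 zc61) (kc xc26 yc24 zc54) (kc xc9 yc2 zc44) (kc xc17 yc55 zc13) (kc xc9 yc2 zc49) (kc xc16 yc30 zc58) (kc xc9 yc2 zc46) (kc xc12 yc9 zc23) (kc xc9 yc2 zc47) (kc xc10 yc21 zc53) (kc xc18 yc47 zc44) (kc xc18 yc44 zc61) (kc xc9 yc2 zc48) (kc xc26 yc49 zc60) (kc xc9 yc2 zc57) (kc xc10 yc21 zc48) (kc xc18 yc49 zc55) (kc xc9 yc2 zc52) (kc xc9 yc2 zc53) (kc xc26 yc25 zc30) (kc xc19 yc18 zc8) (kc xc17 yc19 zc45) (kc xc11 yc16 zc32) (kc xc9 yc2 zc59) (kc xc26 yc50 zc6) (kc xc18 yc48 zc23) (kc xc26 yc50 zc5) (kc xc15 yc5 zc25) (kc xc9 yc2 zc61) (kc xc26 yc50 zc8) (kc xc9 yc3 zc10) (kc xc26 yc50 zc13) (kc xc9 yc3 zc1) (kc xc14 yc20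 zc13) (kc xc20 yc9 zc8) (kc xc14 yc50 zc3) (kc xc11 yc7 zc20) (kc xc11 yc7 zc18) (kc xc11 yc15 zc59) (kc xc17 yc54 zc54) (kc xc16 yc48 zc4) (kc xc16 yc48 zc18) (kc xc26 yc50 zc10) (kc xc24 yc50 zc41) (kc xc26 yc50 zc12) (kc xc20 yc6 zc44) (kc xc17 yc54 zc56) (kc xc9 yc3 zc15)) (@D3.rec (fun _ => Pt) (kc xc9 yc3 zc16) (kc xc9 yc3 zc14) (kc xc26 yc50 zc19) (kc xc9 yc3 zc18) (kc xc10 yc14 zc45) (kc xc26 yc50 zc22) (kc xc26 yc46 zc5) (kc xc20 yc15 zc52) (kc xc20 yc21 zc51) (kc xc16 yc51 zc45) (kc xc9 yc3 zc23) (kc xc9 yc3 zc21) (kc xc12 yc47 zc8) (kc xc26 yc50 zc27) (kc xc21 yc44 zc61) (kc xc9 yc3 zc22) (kc xc26 yc50 zc31) (kc xc9 yc3 zc24) (kc xc18 yc50 zc8) (kc xc9 yc4 zc45) (kc xc16 yc21 zc40) (kc xc11 yc14 zc61) (kc xc25 yc15 zc20) (kc xc9 yc3 zc27) (kc xc26 yc50 zc36)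 (kc xc15 yc4 zc18) (kc xc18 yc33 zc25) (kc xc9 yc45 zc53) (kc xc10 yc16 zc47) (kc xc9 yc45 zc52) (kc xc14 yc59 zc60) (kc xc10 yc16 zc46) (kc xc14 yc1 zc38) (kc xc22 yc10 zc0) (kc xc21 yc18 zc27) (kc xc11 yc18 zc9) (kc xc11 yc18 zc11) (kc xc9 yc46 zc10) (kc xc26 yc50 zc47) (kc xc26 yc38 zc54) (kc xc9 yc3 zc37) (kc xc9 yc3 zc35) (kc xc26 yc10 zc43) (kc xc15 yc4 zc22) (kc xc9 yc3 zc36) (kc xc20 yc27 zc26) (kc xc9 yc3 zc42) (kc xc16 yc51 zc24) (kc xc16 yc51 zc23) (kc xc9 yc16 zc42) (kc xc17 yc54 zc53) (kc xc16 yc56 zc2) (kc xc16 yc56 zc3) (kc xc20 yc0 zc20) (kc xc26 yc50 zc60) (kc xc10 yc31 zc25) (kc xc17 yc55 zc33) (kc xc17 yc55 zc34) (kc xc26 yc51 zc4) (kc xc9 yc3 zc47) (kc xc9 yc3 zc45) (kc xc9 yc3 zc46)) (@D3.rec (fun _ => Pt) (kc xc26 yc51 zc8) (kc xc21 yc3 zc28) (kc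 xc21 yc3 zc29) (kc xc26 yc51 zc12) (kc xc19 yc23 zc16) (kc xc9 yc3 zc51) (kc xc23 yc4 zc21) (kc xc9 yc3 zc53) (kc xc26 yc51 zc14) (kc xc23 yc46 zc25) (kc xc9 yc3 zc56) (kc xc26 yc51 zc17) (kc xc21 yc37 zc45) (kc xc20 yc30 zc0) (kc xc26 yc51 zc21) (kc xc9 yc4 zc33) (kc xc26 yc51 zc24) (kc xc10 yc41 zc55) (kc xc9 yc4 zc51) (kc xc26 yc51 zc31) (kc xc26 yc51 zc32) (kc xc19 yc42 zc2) (kc xc12 yc30 zc60) (kc xc17 yc53 zc44) (kc xc26 yc51 zc40) (kc xc9 yc4 zc55) (kc xc9 yc4 zc5) (kc xc9 yc4 zc6) (kc xc20 yc27 zc50) (kc xc9 yc4 zc7) (kc xc26 yc51 zc44) (kc xc26 yc51 zc46) (kc xc9 yc4 zc8) (kc xc26 yc38 zc56) (kc xc9 yc4 zc19) (kc xc26 yc48 zc41) (kc xc21 yc37 zc53) (kc xc26 yc51 zc61) (kc xc15 yc5 zc31) (kc xc9 yc4 zc11) (kc xc10 yc18 zc40) (kc xc17 yc55 zc61) (kc xc26 yc52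 zc0) (kc xc26 yc38 zc61) (kc xc9 yc4 zc14) (kc xc26 yc52 zc10) (kc xc9 yc4 zc13) (kc xc26 yc33 zc24) (kc xc9 yc4 zc17) (kc xc15 yc4 zc29) (kc xc9 yc4 zc20) (kc xc26 yc52 zc16) (kc xc26 yc52 zc15) (kc xc9 yc4 zc21) (kc xc18 yc16 zc17) (kc xc26 yc52 zc18) (kc xc9 yc4 zc22) (kc xc9 yc4 zc23) (kc xc11 yc32 zc10) (kc xc9 yc50 zc43) (kc xc26 yc26 zc20) (kc xc11 yc20 zc42)) (@D3.rec (fun _ => Pt) (kc xc17 yc54 zc22) (kc xc9 yc4 zc26) (kc xc16 yc54 zc51) (kc xc16 yc54 zc52) (kc xc17 yc22 zc36) (kc xc17 yc18 zc26) (kc xc20 yc0 zc55) (kc xc16 yc51 zc20) (kc xc16 yc51 zc19) (kc xc9 yc4 zc29) (kc xc26 yc52 zc38) (kc xc20 yc1 zc27) (kc xc20 yc0 zc53) (kc xc24 yc51 zc35) (kc xc9 yc4 zc31) (kc xc9 yc4 zc32) (kc xc26 yc52 zc46) (kc xc9 yc4 zc34) (kc xc26 yc52 zc49) (kc xc26 yc52 zc48)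 (kc xc11 yc1 zc53) (kc xc16 yc22 zc26) (kc xc11 yc48 zc20) (kc xc16 yc49 zc37) (kc xc16 yc49 zc36) (kc xc9 yc4 zc43) (kc xc14 yc29 zc50) (kc xc26 yc50 zc30) (kc xc10 yc5 zc18) (kc xc17 yc56 zc27) (kc xc9 yc45 zc59) (kc xc16 yc43 zc55) (kc xc16 yc45 zc11) (kc xc16 yc3 zc52) (kc xc26 yc52 zc54) (kc xc9 yc4 zc49) (kc xc26 yc52 zc57) (kc xc19 yc25 zc22) (kc xc26 yc52 zc58) (kc xc26 yc51 zc30) (kc xc23 yc24 zc46) (kc xc9 yc4 zc52) (kc xc19 yc25 zc18) (kc xc26 yc52 zc59) (kc xc9 yc4 zc53) (kc xc17 yc24 zc2) (kc xc9 yc4 zc54) (kc xc26 yc53 zc1) (kc xc25 yc16 zc50) (kc xc9 yc4 zc56) (kc xc17 yc18 zc13) (kc xc17 yc12 zc47) (kc xc17 yc15 zc54) (kc xc26 yc52 zc61) (kc xc9 yc4 zc60) (kc xc9 yc4 zc61) (kc xc26 yc53 zc6) (kc xc22 yc23 zc35) (kc xc9 yc5 zc2) (kc xc20 yc34 zc47) (kc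 xc9 yc5 zc1) (kc xc24 yc29 zc36)) (@D3.rec (fun _ => Pt) (kc xc26 yc53 zc8) (kc xc21 yc9 zc6) (kc xc9 yc5 zc7) (kc xc9 yc5 zc8) (kc xc26 yc53 zc11) (kc xc9 yc5 zc12) (kc xc9 yc5 zc11) (kc xc9 yc5 zc10) (kc xc26 yc53 zc14) (kc xc20 yc1 zc17) (kc xc19 yc39 zc30) (kc xc13 yc27 zc8) (kc xc26 yc53 zc12) (kc xc9 yc5 zc15) (kc xc26 yc51 zc36) (kc xc9 yc5 zc16) (kc xc21 yc35 zc12) (kc xc9 yc5 zc18) (kc xc10 yc47 zc3) (kc xc21 yc53 zc52) (kc xc9 yc5 zc19) (kc xc9 yc5 zc21) (kc xc19 yc25 zc23) (kc xc9 yc5 zc22) (kc xc18 yc38 zc22) (kc xc11 yc25 zc49) (kc xc9 yc5 zc27) (kc xc9 yc5 zc31) (kc xc13 yc6 zc46) (kc xc20 yc50 zc43) (kc xc15 yc8 zc5) (kc xc9 yc5 zc40) (kc xc21 yc15 zc47) (kc xc24 yc25 zc36) (kc xc9 yc5 zc45) (kc xc11 yc26 zc50) (kc xc11 yc25 zc37) (kc xc10 yc6 zc24) (kc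 xc11 yc30 zc8) (kc xc9 yc6 zc8) (kc xc10 yc33 zc34) (kc xc9 yc5 zc52) (kc xc11 yc38 zc36) (kc xc11 yc44 zc41) (kc xc11 yc44 zc43) (kc xc19 yc23 zc21) (kc xc10 yc31 zc10) (kc xc18 yc10 zc57) (kc xc17 yc33 zc29) (kc xc9 yc5 zc61) (kc xc20 yc42 zc2) (kc xc17 yc5 zc11) (kc xc17 yc31 zc24) (kc xc11 yc49 zc15) (kc xc26 yc53 zc20) (kc xc10 yc48 zc36) (kc xc9 yc12 zc44) (kc xc11 yc29 zc30) (kc xc16 yc58 zc59) (kc xc11 yc31 zc4) (kc xc9 yc8 zc44) (kc xc11 yc41 zc39)) (@D3.rec (fun _ => Pt) (kc xc26 yc53 zc30) (kc xc9 yc6 zc20) (kc xc20 yc41 zc54) (kc xc20 yc42 zc1) (kc xc9 yc6 zc19) (kc xc26 yc53 zc36) (kc xc9 yc8 zc58) (kc xc11 yc8 zc3) (kc xc9 yc14 zc42) (kc xc16 yc58 zc61) (kc xc26 yc31 zc53) (kc xc11 yc25 zc20) (kc xc20 yc19 zc40) (kc xc26 yc53 zc44) (kc xc11 yc41 zc54)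 (kc xc26 yc53 zc46) (kc xc11 yc41 zc56) (kc xc23 yc48 zc8) (kc xc26 yc53 zc49) (kc xc9 yc6 zc25) (kc xc26 yc53 zc54) (kc xc20 yc35 zc16) (kc xc26 yc53 zc59) (kc xc9 yc6 zc30) (kc xc9 yc6 zc29) (kc xc26 yc1 zc56) (kc xc17 yc3 zc58) (kc xc17 yc3 zc56) (kc xc26 yc54 zc6) (kc xc9 yc6 zc34) (kc xc9 yc6 zc33) (kc xc26 yc54 zc9) (kc xc20 yc35 zc26) (kc xc9 yc6 zc35) (kc xc26 yc54 zc12) (kc xc17 yc4 zc3) (kc xc9 yc6 zc36) (kc xc11 yc41 zc57) (kc xc11 yc41 zc58) (kc xc26 yc54 zc19) (kc xc9 yc6 zc38) (kc xc26 yc54 zc22) (kc xc11 yc32 zc46) (kc xc20 yc53 zc23) (kc xc20 yc53 zc22) (kc xc16 yc58 zc58) (kc xc9 yc6 zc41) (kc xc19 yc40 zc42) (kc xc20 yc35 zc34) (kc xc16 yc58 zc57) (kc xc9 yc6 zc44) (kc xc17 yc4 zc10) (kc xc16 yc58 zc54) (kc xc19 yc31 zc13) (kc xc16 yc58 zc52) (kc xc11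 yc42 zc0) (kc xc21 yc15 zc51) (kc xc16 yc58 zc49) (kc xc16 yc58 zc45) (kc xc16 yc57 zc58) (kc xc20 yc54 zc16) (kc xc16 yc58 zc9)) (@D3.rec (fun _ => Pt) (kc xc9 yc6 zc51) (kc xc26 yc54 zc49) (kc xc26 yc54 zc51) (kc xc20 yc49 zc45) (kc xc9 yc6 zc52) (kc xc9 yc6 zc54) (kc xc24 yc16 zc11) (kc xc11 yc42 zc53) (kc xc9 yc6 zc59) (kc xc9 yc6 zc61) (kc xc26 yc54 zc54) (kc xc11 yc42 zc59) (kc xc9 yc7 zc2) (kc xc26 yc54 zc56) (kc xc9 yc7 zc3) (kc xc26 yc54 zc58) (kc xc11 yc29 zc26) (kc xc11 yc29 zc27) (kc xc9 yc46 zc23) (kc xc9 yc46 zc24) (kc xc20 yc49 zc31) (kc xc9 yc7 zc7) (kc xc26 yc55 zc4) (kc xc20 yc35 zc52) (kc xc17 yc8 zc2) (kc xc11 yc26 zc1) (kc xc11 yc26 zc2) (kc xc21 yc55 zc23) (kc xc9 yc7 zc18) (kc xc20 yc40 zc59) (kc xc9 yc7 zc21) (kc xc11 yc25 zc26) (kc xc11 yc33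 zc51) (kc xc25 yc45 zc57) (kc xc9 yc7 zc23) (kc xc26 yc55 zc7) (kc xc24 yc19 zc16) (kc xc20 yc26 zc47) (kc xc9 yc7 zc36) (kc xc9 yc7 zc26) (kc xc10 yc23 zc6) (kc xc20 yc27 zc28) (kc xc15 yc30 zc28) (kc xc14 yc11 zc17) (kc xc12 yc29 zc8) (kc xc12 yc29 zc7) (kc xc26 yc55 zc8) (kc xc9 yc7 zc37) (kc xc24 yc30 zc57) (kc xc25 yc56 zc20) (kc xc18 yc15 zc12) (kc xc18 yc15 zc60) (kc xc10 yc4 zc61) (kc xc25 yc46 zc22) (kc xc9 yc7 zc43) (kc xc25 yc44 zc53) (kc xc23 yc47 zc37) (kc xc13 yc6 zc25) (kc xc10 yc23 zc15) (kc xc23 yc56 zc8) (kc xc13 yc58 zc45) (kc xc18 yc24 zc52))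
def f_c_17 : D2 → D3 → Pt := @D2.rec (fun _ => D3 → Pt) (@D3.rec (fun _ => Pt) (kc xc11 yc25 zc47) (kc xc13 yc57 zc6) (kc xc11 yc25 zc30) (kc xc18 yc43 zc45) (kc xc10 yc0 zc10) (kc xc21 yc54 zc33) (kc xc23 yc40 zc58) (kc xc21 yc3 zc55) (kc xc25 yc45 zc56) (kc xc9 yc7 zc51) (kc xc10 yc10 zc43) (kc xc9 yc7 zc52) (kc xc13 yc6 zc23) (kc xc9 yc7 zc54) (kc xc10 yc14 zc11) (kc xc9 yc7 zc56) (kc xc26 yc55 zc24) (kc xc10 yc23 zc13) (kc xc20 yc31 zc16) (kc xc9 yc7 zc61) (kc xc13 yc16 zc47) (kc xc16 yc32 zc41) (kc xc9 yc48 zc50) (kc xc9 yc48 zc61) (kc xc26 yc55 zc28) (kc xc20 yc31 zc17) (kc xc20 yc31 zc18) (kc xc26 yc55 zc34) (kc xc17 yc18 zc35) (kc xc20 yc31 zc29) (kc xc9 yc8 zc4) (kc xc10 yc44 zc18) (kc xc9 yc50 zc35) (kc xc20 yc28 zc37) (kc xc19 yc27 zc28) (kc xc13 yc50 zc29)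 (kc xc16 yc28 zc16) (kc xc9 yc8 zc11) (kc xc26 yc52 zc29) (kc xc26 yc52 zc28) (kc xc20 yc34 zc3) (kc xc26 yc55 zc38) (kc xc22 yc49 zc6) (kc xc9 yc8 zc12) (kc xc26 yc55 zc45) (kc xc11 yc34 zc16) (kc xc14 yc23 zc6) (kc xc9 yc8 zc17) (kc xc26 yc55 zc48) (kc xc9 yc8 zc19) (kc xc9 yc8 zc20) (kc xc11 yc27 zc33) (kc xc11 yc37 zc8) (kc xc26 yc55 zc58) (kc xc9 yc8 zc22) (kc xc26 yc55 zc60) (kc xc9 yc8 zc26) (kc xc20 yc1 zc36) (kc xc20 yc18 zc11) (kc xc26 yc56 zc4) (kc xc9 yc8 zc31) (kc xc20 yc15 zc41)) (@D3.rec (fun _ => Pt) (kc xc9 yc8 zc28) (kc xc23 yc0 zc7) (kc xc23 yc30 zc30) (kc xc9 yc8 zc29) (kc xc20 yc10 zc27) (kc xc14 yc42 zc38) (kc xc26 yc56 zc14) (kc xc26 yc52 zc30) (kc xc9 yc8 zc30) (kc xc18 yc52 zc5) (kc xc9 yc8 zc32) (kc xc9 yc8 zc33) (kc xc26 yc56 zc21) (kc xc20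 yc35 zc11) (kc xc9 yc8 zc34) (kc xc13 yc45 zc20) (kc xc9 yc8 zc35) (kc xc21 yc11 zc11) (kc xc14 yc25 zc35) (kc xc11 yc59 zc39) (kc xc26 yc55 zc59) (kc xc9 yc8 zc37) (kc xc18 yc52 zc6) (kc xc9 yc22 zc35) (kc xc14 yc29 zc55) (kc xc26 yc53 zc19) (kc xc9 yc8 zc43) (kc xc20 yc23 zc55) (kc xc19 yc19 zc5) (kc xc9 yc8 zc46) (kc xc12 yc29 zc54) (kc xc20 yc22 zc32) (kc xc11 yc58 zc37) (kc xc26 yc53 zc32) (kc xc23 yc57 zc61) (kc xc24 yc53 zc29) (kc xc14 yc20 zc44) (kc xc14 yc20 zc43) (kc xc21 yc10 zc24) (kc xc21 yc10 zc25) (kc xc9 yc8 zc52) (kc xc26 yc56 zc41) (kc xc9 yc8 zc53) (kc xc26 yc56 zc46) (kc xc20 yc26 zc33) (kc xc26 yc56 zc34) (kc xc9 yc8 zc55) (kc xc26 yc56 zc53) (kc xc14 yc25 zc11) (kc xc26 yc56 zc33) (kc xc9 yc8 zc57) (kc xc19 yc40 zc27) (kc xc26 yc53 zc37) (kc xc26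 yc56 zc31) (kc xc9 yc8 zc60) (kc xc24 yc53 zc31) (kc xc21 yc15 zc54) (kc xc26 yc56 zc29) (kc xc11 yc42 zc60) (kc xc26 yc56 zc28) (kc xc17 yc58 zc33) (kc xc11 yc27 zc43)) (@D3.rec (fun _ => Pt) (kc xc23 yc45 zc41) (kc xc26 yc56 zc20) (kc xc26 yc56 zc19) (kc xc9 yc9 zc2) (kc xc26 yc57 zc21) (kc xc26 yc55 zc44) (kc xc9 yc9 zc4) (kc xc23 yc57 zc56) (kc xc23 yc57 zc55) (kc xc26 yc57 zc26) (kc xc9 yc9 zc6) (kc xc12 yc26 zc12) (kc xc9 yc9 zc8) (kc xc18 yc57 zc61) (kc xc13 yc3 zc37) (kc xc14 yc50 zc39) (kc xc11 yc29 zc25) (kc xc22 yc14 zc27) (kc xc23 yc59 zc12) (kc xc11 yc40 zc7) (kc xc26 yc20 zc17) (kc xc11 yc25 zc25) (kc xc12 yc30 zc24) (kc xc14 yc2 zc42) (kc xc9 yc9 zc27) (kc xc21 yc11 zc24) (kc xc9 yc9 zc28) (kc xc9 yc9 zc33) (kc xc24 yc35 zc22) (kc xc24 yc36 zc48) (kc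 xc26 yc57 zc36) (kc xc11 yc11 zc53) (kc xc9 yc9 zc34) (kc xc9 yc26 zc23) (kc xc11 yc11 zc23) (kc xc11 yc18 zc52) (kc xc12 yc53 zc8) (kc xc26 yc57 zc39) (kc xc11 yc17 zc56) (kc xc26 yc25 zc29) (kc xc9 yc9 zc42) (kc xc9 yc9 zc44) (kc xc23 yc37 zc32) (kc xc23 yc43 zc1) (kc xc22 yc7 zc58) (kc xc11 yc21 zc24) (kc xc20 yc20 zc49) (kc xc13 yc59 zc2) (kc xc11 yc26 zc36) (kc xc9 yc9 zc50) (kc xc9 yc9 zc48) (kc xc11 yc17 zc53) (kc xc23 yc1 zc8) (kc xc9 yc9 zc51) (kc xc9 yc9 zc52) (kc xc19 yc1 zc52) (kc xc11 yc34 zc42) (kc xc9 yc9 zc53) (kc xc26 yc3 zc36) (kc xc26 yc57 zc40) (kc xc11 yc58 zc23) (kc xc9 yc9 zc55)) (@D3.rec (fun _ => Pt) (kc xc11 yc40 zc50) (kc xc11 yc30 zc37) (kc xc20 yc22 zc49) (kc xc9 yc15 zc12) (kc xc9 yc9 zc61) (kc xc9 yc9 zc59) (kc xc26 yc57 zc54) (kc xc20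 yc51 zc53) (kc xc11 yc25 zc31) (kc xc10 yc4 zc1) (kc xc12 yc31 zc9) (kc xc20 yc54 zc26) (kc xc18 yc23 zc37) (kc xc18 yc23 zc36) (kc xc13 yc8 zc52) (kc xc12 yc30 zc28) (kc xc17 yc57 zc49) (kc xc16 yc29 zc56) (kc xc16 yc29 zc57) (kc xc9 yc10 zc12) (kc xc18 yc42 zc22) (kc xc9 yc10 zc14) (kc xc22 yc6 zc53) (kc xc9 yc10 zc16) (kc xc24 yc7 zc4) (kc xc24 yc7 zc5) (kc xc21 yc38 zc42) (kc xc26 yc57 zc48) (kc xc17 yc57 zc53) (kc xc26 yc27 zc1) (kc xc24 yc59 zc57) (kc xc11 yc8 zc8) (kc xc16 yc29 zc60) (kc xc9 yc57 zc15) (kc xc15 yc46 zc24) (kc xc9 yc10 zc32) (kc xc15 yc37 zc37) (kc xc26 yc51 zc0) (kc xc19 yc29 zc25) (kc xc17 yc56 zc49) (kc xc16 yc44 zc3) (kc xc18 yc44 zc27) (kc xc9 yc10 zc31) (kc xc26 yc58 zc2) (kc xc9 yc10 zc33) (kc xc26 yc58 zc11) (kc xc9 yc10 zc34) (kc xc26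 yc58 zc15) (kc xc9 yc10 zc35) (kc xc18 yc2 zc35) (kc xc18 yc23 zc29) (kc xc18 yc24 zc15) (kc xc11 yc38 zc46) (kc xc9 yc10 zc40) (kc xc17 yc30 zc54) (kc xc26 yc58 zc19) (kc xc16 yc58 zc27) (kc xc26 yc58 zc22) (kc xc16 yc58 zc26) (kc xc9 yc10 zc42) (kc xc11 yc42 zc41) (kc xc12 yc26 zc17)) (@D3.rec (fun _ => Pt) (kc xc9 yc10 zc46) (kc xc9 yc10 zc45) (kc xc26 yc58 zc28) (kc xc16 yc58 zc35) (kc xc9 yc10 zc49) (kc xc26 yc58 zc29) (kc xc9 yc10 zc51) (kc xc11 yc39 zc35) (kc xc9 yc10 zc53) (kc xc26 yc58 zc18) (kc xc16 yc58 zc51) (kc xc24 yc38 zc44) (kc xc9 yc10 zc56) (kc xc23 yc59 zc11) (kc xc14 yc13 zc43) (kc xc14 yc13 zc39) (kc xc26 yc58 zc37) (kc xc11 yc43 zc20) (kc xc15 yc30 zc35) (kc xc26 yc38 zc57) (kc xc12 yc49 zc60) (kc xc9 yc50 zc19) (kc xc26 yc58 zc43) (kc xc9 yc50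 zc17) (kc xc9 yc10 zc60) (kc xc26 yc41 zc11) (kc xc16 yc36 zc41) (kc xc16 yc40 zc54) (kc xc26 yc33 zc23) (kc xc9 yc59 zc11) (kc xc17 yc5 zc60) (kc xc26 yc58 zc48) (kc xc9 yc11 zc4) (kc xc9 yc11 zc3) (kc xc17 yc9 zc43) (kc xc15 yc5 zc0) (kc xc26 yc58 zc50) (kc xc9 yc11 zc8) (kc xc9 yc11 zc7) (kc xc12 yc24 zc50) (kc xc11 yc25 zc50) (kc xc20 yc59 zc50) (kc xc24 yc53 zc33) (kc xc9 yc11 zc12) (kc xc20 yc25 zc23) (kc xc13 yc19 zc8) (kc xc21 yc52 zc2) (kc xc26 yc33 zc41) (kc xc14 yc28 zc43) (kc xc26 yc58 zc55) (kc xc14 yc12 zc52) (kc xc26 yc58 zc57) (kc xc21 yc50 zc59) (kc xc9 yc11 zc19) (kc xc26 yc58 zc58) (kc xc22 yc2 zc38) (kc xc9 yc11 zc22) (kc xc26 yc41 zc44) (kc xc9 yc11 zc25) (kc xc17 yc59 zc30) (kc xc17 yc59 zc31) (kc xc17 yc19 zc55)) (@D3.rec (fun _ => Pt) (kc xc22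 yc2 zc35) (kc xc9 yc11 zc27) (kc xc12 yc49 zc43) (kc xc25 yc44 zc46) (kc xc11 yc49 zc39) (kc xc21 yc37 zc40) (kc xc15 yc47 zc46) (kc xc11 yc58 zc4) (kc xc11 yc49 zc6) (kc xc21 yc50 zc44) (kc xc14 yc20 zc54) (kc xc16 yc57 zc51) (kc xc9 yc38 zc42) (kc xc17 yc50 zc34) (kc xc9 yc11 zc35) (kc xc11 yc45 zc7) (kc xc9 yc38 zc43) (kc xc9 yc11 zc38) (kc xc17 yc10 zc1) (kc xc9 yc11 zc39) (kc xc17 yc31 zc61) (kc xc12 yc36 zc27) (kc xc18 yc37 zc48) (kc xc22 yc2 zc40) (kc xc9 yc11 zc46) (kc xc11 yc25 zc35) (kc xc14 yc4 zc40) (kc xc25 yc15 zc29) (kc xc10 yc6 zc16) (kc xc20 yc50 zc24) (kc xc25 yc31 zc47) (kc xc9 yc11 zc45) (kc xc26 yc59 zc13) (kc xc12 yc10 zc46) (kc xc12 yc36 zc54) (kc xc12 yc38 zc43) (kc xc9 yc11 zc50) (kc xc12 yc38 zc45) (kc xc12 yc38 zc46) (kc xc25 yc55 zc0) (kc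 xc21 yc22 zc25) (kc xc16 yc2 zc29) (kc xc15 yc27 zc11) (kc xc9 yc11 zc55) (kc xc12 yc42 zc61) (kc xc12 yc30 zc25) (kc xc12 yc30 zc26) (kc xc14 yc6 zc47) (kc xc10 yc4 zc56) (kc xc12 yc15 zc32) (kc xc26 yc54 zc48) (kc xc9 yc11 zc61) (kc xc19 yc42 zc57) (kc xc9 yc46 zc33) (kc xc11 yc25 zc8) (kc xc26 yc59 zc21) (kc xc26 yc59 zc23) (kc xc9 yc11 zc60) (kc xc26 yc59 zc26) (kc xc23 yc11 zc11) (kc xc17 yc4 zc30) (kc xc13 yc50 zc35)) (@D3.rec (fun _ => Pt) (kc xc9 yc12 zc3) (kc xc26 yc59 zc31) (kc xc26 yc59 zc32) (kc xc9 yc12 zc2) (kc xc26 yc59 zc35) (kc xc9 yc12 zc25) (kc xc20 yc22 zc58) (kc xc12 yc36 zc55) (kc xc26 yc51 zc47) (kc xc9 yc12 zc6) (kc xc23 yc13 zc6) (kc xc26 yc51 zc43) (kc xc20 yc22 zc11) (kc xc26 yc50 zc48) (kc xc26 yc38 zc55) (kc xc14 yc50 zc1) (kc xc15 yc5 zc19)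 (kc xc12 yc9 zc26) (kc xc20 yc8 zc35) (kc xc11 yc49 zc34) (kc xc19 yc47 zc27) (kc xc14 yc2 zc43) (kc xc14 yc34 zc49) (kc xc26 yc33 zc40) (kc xc9 yc14 zc16) (kc xc26 yc59 zc43) (kc xc26 yc59 zc44) (kc xc9 yc12 zc19) (kc xc26 yc59 zc45) (kc xc18 yc1 zc19) (kc xc9 yc12 zc27) (kc xc9 yc12 zc21) (kc xc26 yc59 zc47) (kc xc9 yc12 zc22) (kc xc18 yc1 zc16) (kc xc18 yc1 zc17) (kc xc20 yc6 zc45) (kc xc26 yc51 zc49) (kc xc9 yc12 zc24) (kc xc17 yc10 zc4) (kc xc9 yc59 zc12) (kc xc10 yc18 zc33) (kc xc9 yc58 zc4) (kc xc11 yc49 zc30) (kc xc26 yc59 zc55) (kc xc9 yc12 zc32) (kc xc26 yc7 zc55) (kc xc9 yc12 zc36) (kc xc18 yc36 zc18) (kc xc26 yc51 zc50) (kc xc9 yc12 zc35) (kc xc9 yc12 zc37) (kc xc25 yc59 zc50) (kc xc26 yc55 zc56) (kc xc11 yc38 zc16) (kc xc9 yc12 zc39) (kc xc27 yc0 zc9) (kc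 xc27 yc0 zc8) (kc xc11 yc38 zc3) (kc xc11 yc37 zc61) (kc xc26 yc56 zc44) (kc xc26 yc17 zc41)) (@D3.rec (fun _ => Pt) (kc xc9 yc12 zc41) (kc xc27 yc0 zc20) (kc xc27 yc0 zc21) (kc xc27 yc0 zc19) (kc xc22 yc1 zc42) (kc xc14 yc32 zc23) (kc xc26 yc27 zc54) (kc xc25 yc18 zc20) (kc xc26 yc54 zc61) (kc xc26 yc27 zc49) (kc xc25 yc44 zc39) (kc xc9 yc14 zc39) (kc xc27 yc0 zc35) (kc xc26 yc26 zc45) (kc xc26 yc27 zc41) (kc xc9 yc12 zc46) (kc xc22 yc25 zc3) (kc xc17 yc59 zc27) (kc xc9 yc13 zc2) (kc xc9 yc12 zc52) (kc xc12 yc36 zc31) (kc xc9 yc18 zc7) (kc xc9 yc12 zc57) (kc xc16 yc49 zc1) (kc xc12 yc40 zc59) (kc xc13 yc2 zc9) (kc xc27 yc0 zc44) (kc xc12 yc58 zc0) (kc xc21 yc31 zc59) (kc xc27 yc0 zc46) (kc xc9 yc13 zc0) (kc xc18 yc16 zc41) (kc xc27 yc0 zc47) (kc xc9 yc13 zc6) (kc xc12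 yc39 zc17) (kc xc21 yc52 zc3) (kc xc9 yc13 zc4) (kc xc20 yc24 zc26) (kc xc20 yc23 zc31) (kc xc26 yc24 zc2) (kc xc19 yc40 zc0) (kc xc9 yc13 zc7) (kc xc27 yc0 zc51) (kc xc20 yc45 zc10) (kc xc11 yc48 zc49) (kc xc9 yc13 zc17) (kc xc17 yc17 zc51) (kc xc24 yc10 zc57) (kc xc11 yc44 zc55) (kc xc10 yc42 zc39) (kc xc12 yc57 zc8) (kc xc9 yc49 zc28) (kc xc9 yc13 zc28) (kc xc10 yc6 zc60) (kc xc10 yc6 zc54) (kc xc18 yc23 zc13) (kc xc10 yc48 zc35) (kc xc20 yc22 zc9) (kc xc18 yc57 zc51) (kc xc18 yc22 zc36) (kc xc10 yc4 zc6) (kc xc10 yc18 zc27)) (@D3.rec (fun _ => Pt) (kc xc9 yc13 zc40) (kc xc9 yc13 zc44) (kc xc16 yc59 zc24) (kc xc27 yc0 zc53) (kc xc9 yc13 zc48) (kc xc9 yc13 zc47) (kc xc12 yc40 zc57) (kc xc11 yc37 zc25) (kc xc26 yc23 zc5) (kc xc26 yc22 zc58) (kc xc9 yc13 zc50) (kc xc27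 yc0 zc56) (kc xc14 yc33 zc9) (kc xc14 yc33 zc8) (kc xc27 yc0 zc59) (kc xc9 yc13 zc52) (kc xc9 yc13 zc53) (kc xc18 yc2 zc9) (kc xc20 yc34 zc50) (kc xc24 yc19 zc4) (kc xc9 yc13 zc58) (kc xc26 yc59 zc48) (kc xc9 yc14 zc1) (kc xc9 yc19 zc35) (kc xc16 yc51 zc39) (kc xc9 yc14 zc5) (kc xc13 yc50 zc44) (kc xc13 yc50 zc32) (kc xc24 yc46 zc59) (kc xc11 yc39 zc28) (kc xc22 yc55 zc24) (kc xc23 yc8 zc57) (kc xc9 yc14 zc13) (kc xc24 yc53 zc28) (kc xc20 yc28 zc36) (kc xc14 yc52 zc44) (kc xc18 yc50 zc53) (kc xc9 yc14 zc17) (kc xc16 yc29 zc59) (kc xc9 yc14 zc20) (kc xc27 yc1 zc3) (kc xc14 yc48 zc8) (kc xc10 yc18 zc44) (kc xc9 yc14 zc23) (kc xc18 yc17 zc30) (kc xc21 yc15 zc33) (kc xc19 yc41 zc32) (kc xc13 yc9 zc15) (kc xc9 yc44 zc12) (kc xc9 yc44 zc1) (kc xc26 yc44 zc46) (kc xc15 yc41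 zc61) (kc xc15 yc1 zc45) (kc xc15 yc25 zc36) (kc xc10 yc3 zc5) (kc xc9 yc51 zc10) (kc xc27 yc1 zc7) (kc xc25 yc21 zc25) (kc xc9 yc14 zc35) (kc xc15 yc2 zc56) (kc xc9 yc14 zc37) (kc xc23 yc11 zc17)) (@D3.rec (fun _ => Pt) (kc xc13 yc9 zc35) (kc xc23 yc5 zc20) (kc xc24 yc49 zc58) (kc xc26 yc53 zc34) (kc xc20 yc41 zc28) (kc xc21 yc29 zc6) (kc xc14 yc3 zc59) (kc xc9 yc14 zc51) (kc xc11 yc1 zc59) (kc xc9 yc14 zc49) (kc xc26 yc10 zc11) (kc xc9 yc46 zc48) (kc xc9 yc14 zc50) (kc xc26 yc10 zc12) (kc xc18 yc25 zc7) (kc xc9 yc14 zc52) (kc xc24 yc59 zc13) (kc xc27 yc1 zc18) (kc xc9 yc14 zc53) (kc xc27 yc1 zc20) (kc xc9 yc14 zc56) (kc xc9 yc14 zc60) (kc xc27 yc1 zc23) (kc xc27 yc1 zc24) (kc xc10 yc5 zc28) (kc xc10 yc5 zc23) (kc xc25 yc46 zc31) (kc xc9 yc15 zc2) (kc xc27 yc1 zc25)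 (kc xc9 yc15 zc3) (kc xc27 yc1 zc27) (kc xc9 yc57 zc56) (kc xc25 yc46 zc30) (kc xc9 yc15 zc5) (kc xc12 yc15 zc21) (kc xc26 yc59 zc14) (kc xc20 yc22 zc59) (kc xc15 yc30 zc26) (kc xc9 yc15 zc15) (kc xc12 yc44 zc56) (kc xc23 yc25 zc15) (kc xc9 yc15 zc9) (kc xc20 yc22 zc57) (kc xc17 yc4 zc34) (kc xc9 yc15 zc13) (kc xc21 yc39 zc53) (kc xc9 yc15 zc11) (kc xc18 yc15 zc40) (kc xc9 yc15 zc14) (kc xc9 yc15 zc17) (kc xc27 yc1 zc29) (kc xc20 yc20 zc37) (kc xc19 yc27 zc47) (kc xc11 yc19 zc43) (kc xc9 yc23 zc21) (kc xc20 yc2 zc3) (kc xc13 yc0 zc59) (kc xc20 yc22 zc55) (kc xc18 yc50 zc42) (kc xc21 yc22 zc50) (kc xc20 yc22 zc56) (kc xc14 yc4 zc56)) (@D3.rec (fun _ => Pt) (kc xc17 yc20 zc60) (kc xc17 yc5 zc18) (kc xc9 yc15 zc33) (kc xc12 yc42 zc34) (kc xc17 yc6 zc39) (kc xc9 yc15 zc36)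 (kc xc9 yc15 zc35) (kc xc27 yc1 zc33) (kc xc9 yc15 zc38) (kc xc12 yc53 zc15) (kc xc21 yc10 zc3) (kc xc12 yc16 zc1) (kc xc12 yc59 zc31) (kc xc17 yc10 zc28) (kc xc9 yc21 zc56) (kc xc27 yc1 zc39) (kc xc27 yc1 zc42) (kc xc21 yc33 zc52) (kc xc27 yc1 zc47) (kc xc12 yc15 zc58) (kc xc17 yc27 zc41) (kc xc17 yc34 zc58) (kc xc9 yc15 zc52) (kc xc12 yc12 zc23) (kc xc21 yc31 zc35) (kc xc21 yc26 zc45) (kc xc18 yc15 zc50) (kc xc21 yc49 zc30) (kc xc17 yc10 zc13) (kc xc21 yc17 zc40) (kc xc17 yc35 zc2) (kc xc12 yc1 zc15) (kc xc21 yc3 zc27) (kc xc27 yc1 zc59) (kc xc12 yc1 zc18) (kc xc17 yc18 zc25) (kc xc18 yc55 zc47) (kc xc12 yc11 zc22) (kc xc12 yc29 zc5) (kc xc22 yc0 zc35) (kc xc12 yc28 zc40) (kc xc12 yc31 zc15) (kc xc22 yc0 zc36) (kc xc9 yc27 zc21) (kc xc25 yc25 zc53) (kc xc9 yc16 zc8)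 (kc xc25 yc25 zc52) (kc xc9 yc22 zc22) (kc xc12 yc10 zc39) (kc xc21 yc57 zc25) (kc xc27 yc2 zc12) (kc xc17 yc11 zc2) (kc xc23 yc47 zc14) (kc xc23 yc47 zc13) (kc xc9 yc16 zc19) (kc xc12 yc1 zc49) (kc xc22 yc7 zc20) (kc xc9 yc16 zc21) (kc xc18 yc25 zc15) (kc xc21 yc37 zc19) (kc xc11 yc27 zc53) (kc xc9 yc16 zc24)) (@D3.rec (fun _ => Pt) (kc xc27 yc2 zc19) (kc xc15 yc56 zc43) (kc xc17 yc10 zc51) (kc xc20 yc42 zc18) (kc xc12 yc58 zc33) (kc xc23 yc48 zc27) (kc xc13 yc20 zc31) (kc xc27 yc2 zc24) (kc xc14 yc41 zc61) (kc xc21 yc38 zc37) (kc xc9 yc16 zc30) (kc xc11 yc35 zc7) (kc xc27 yc2 zc29) (kc xc11 yc30 zc44) (kc xc27 yc2 zc30) (kc xc9 yc17 zc7) (kc xc9 yc16 zc40) (kc xc9 yc16 zc35) (kc xc17 yc43 zc48) (kc xc20 yc14 zc15) (kc xc22 yc54 zc21) (kc xc27 yc2 zc31) (kc xc20 yc25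 zc61) (kc xc9 yc16 zc38) (kc xc27 yc2 zc36) (kc xc20 yc10 zc34) (kc xc20 yc15 zc39) (kc xc26 yc2 zc29) (kc xc17 yc21 zc17) (kc xc17 yc21 zc18) (kc xc27 yc2 zc39) (kc xc9 yc16 zc45) (kc xc27 yc2 zc42) (kc xc19 yc25 zc28) (kc xc20 yc0 zc60) (kc xc9 yc16 zc43) (kc xc25 yc56 zc9) (kc xc18 yc47 zc53) (kc xc25 yc25 zc13) (kc xc9 yc16 zc44) (kc xc18 yc55 zc46) (kc xc11 yc58 zc7) (kc xc20 yc26 zc1) (kc xc18 yc12 zc7) (kc xc23 yc38 zc6) (kc xc9 yc16 zc47) (kc xc27 yc2 zc55) (kc xc22 yc1 zc0) (kc xc12 yc28 zc39) (kc xc27 yc2 zc58) (kc xc18 yc17 zc31) (kc xc9 yc16 zc49) (kc xc24 yc22 zc58) (kc xc9 yc16 zc50) (kc xc18 yc34 zc16) (kc xc9 yc16 zc52) (kc xc27 yc2 zc61) (kc xc9 yc16 zc53) (kc xc25 yc25 zc3) (kc xc22 yc52 zc50) (kc xc9 yc23 zc38) (kc xc22 yc7 zc3)) (@D3.rec (fun _ =>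 Pt) (kc xc9 yc16 zc58) (kc xc24 yc59 zc33) (kc xc27 yc3 zc11) (kc xc11 yc58 zc11) (kc xc9 yc27 zc18) (kc xc9 yc16 zc61) (kc xc9 yc17 zc0) (kc xc24 yc18 zc47) (kc xc9 yc17 zc3) (kc xc19 yc45 zc40) (kc xc9 yc17 zc4) (kc xc13 yc59 zc14) (kc xc9 yc17 zc6) (kc xc14 yc5 zc30) (kc xc9 yc17 zc8) (kc xc18 yc1 zc4) (kc xc11 yc28 zc35) (kc xc27 yc3 zc17) (kc xc9 yc17 zc10) (kc xc20 yc27 zc12) (kc xc20 yc6 zc7) (kc xc9 yc17 zc15) (kc xc14 yc50 zc38) (kc xc11 yc11 zc57) (kc xc11 yc11 zc58) (kc xc9 yc17 zc29) (kc xc23 yc30 zc60) (kc xc20 yc50 zc56) (kc xc9 yc17 zc19) (kc xc19 yc39 zc43) (kc xc15 yc38 zc46) (kc xc9 yc17 zc22) (kc xc17 yc31 zc19) (kc xc17 yc55 zc17) (kc xc9 yc32 zc29) (kc xc24 yc32 zc48) (kc xc25 yc39 zc53) (kc xc19 yc6 zc44) (kc xc9 yc17 zc38) (kc xc9 yc17 zc34) (kc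 xc25 yc54 zc16) (kc xc16 yc3 zc48) (kc xc9 yc17 zc36) (kc xc10 yc29 zc11) (kc xc18 yc58 zc5) (kc xc11 yc40 zc25) (kc xc9 yc17 zc43) (kc xc16 yc56 zc51) (kc xc11 yc50 zc11) (kc xc21 yc28 zc42) (kc xc27 yc3 zc35) (kc xc9 yc17 zc46) (kc xc18 yc19 zc8) (kc xc9 yc26 zc34) (kc xc11 yc25 zc24) (kc xc11 yc25 zc12) (kc xc9 yc17 zc52) (kc xc18 yc16 zc22) (kc xc9 yc17 zc54) (kc xc25 yc17 zc39) (kc xc17 yc49 zc9) (kc xc20 yc24 zc48)) (@D3.rec (fun _ => Pt) (kc xc13 yc6 zc17) (kc xc18 yc24 zc8) (kc xc21 yc42 zc36) (kc xc14 yc46 zc31) (kc xc9 yc18 zc1) (kc xc9 yc18 zc2) (kc xc23 yc3 zc31) (kc xc16 yc30 zc26) (kc xc9 yc18 zc0) (kc xc12 yc53 zc55) (kc xc16 yc31 zc2) (kc xc12 yc0 zc10) (kc xc14 yc57 zc32) (kc xc9 yc36 zc60) (kc xc9 yc49 zc30) (kc xc13 yc8 zc51) (kc xc17 yc20 zc57) (kc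 xc10 yc48 zc57) (kc xc9 yc18 zc15) (kc xc17 yc21 zc0) (kc xc9 yc18 zc48) (kc xc27 yc3 zc45) (kc xc14 yc57 zc11) (kc xc18 yc37 zc33) (kc xc23 yc42 zc26) (kc xc21 yc55 zc34) (kc xc21 yc55 zc35) (kc xc25 yc42 zc25) (kc xc25 yc42 zc45) (kc xc9 yc18 zc23) (kc xc27 yc3 zc50) (kc xc25 yc28 zc24) (kc xc15 yc38 zc53) (kc xc17 yc27 zc54) (kc xc9 yc18 zc25) (kc xc26 yc46 zc39) (kc xc27 yc3 zc56) (kc xc9 yc18 zc26) (kc xc14 yc12 zc11) (kc xc9 yc18 zc28) (kc xc9 yc18 zc29) (kc xc9 yc18 zc33) (kc xc12 yc26 zc56) (kc xc12 yc29 zc26) (kc xc27 yc4 zc1) (kc xc25 yc45 zc26) (kc xc27 yc3 zc59) (kc xc9 yc18 zc36) (kc xc14 yc36 zc32) (kc xc9 yc18 zc37) (kc xc9 yc18 zc38) (kc xc9 yc18 zc40) (kc xc24 yc10 zc25) (kc xc27 yc4 zc9) (kc xc27 yc4 zc11) (kc xc27 yc4 zc7) (kc xc18 yc1 zc28) (kc xc9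 yc18 zc42) (kc xc27 yc4 zc13) (kc xc21 yc40 zc3) (kc xc27 yc4 zc14) (kc xc16 yc13 zc54)) (@D3.rec (fun _ => Pt) (kc xc21 yc49 zc49) (kc xc25 yc35 zc44) (kc xc9 yc18 zc46) (kc xc26 yc39 zc54) (kc xc27 yc1 zc30) (kc xc27 yc4 zc22) (kc xc9 yc18 zc47) (kc xc16 yc40 zc52) (kc xc11 yc57 zc12) (kc xc11 yc49 zc40) (kc xc17 yc14 zc44) (kc xc9 yc18 zc52) (kc xc9 yc18 zc53) (kc xc12 yc19 zc0) (kc xc9 yc18 zc56) (kc xc22 yc10 zc4) (kc xc9 yc19 zc2) (kc xc27 yc4 zc33) (kc xc9 yc19 zc3) (kc xc21 yc24 zc22) (kc xc27 yc4 zc41) (kc xc9 yc18 zc60) (kc xc9 yc18 zc61) (kc xc26 yc2 zc56) (kc xc13 yc37 zc41) (kc xc9 yc19 zc0) (kc xc15 yc42 zc0) (kc xc27 yc4 zc32) (kc xc18 yc29 zc50) (kc xc9 yc37 zc30) (kc xc22 yc10 zc57) (kc xc12 yc27 zc18) (kc xc21 yc4 zc41) (kc xc22 yc9 zc43) (kc xc18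 yc9 zc47) (kc xc9 yc19 zc8) (kc xc9 yc19 zc9) (kc xc27 yc4 zc49) (kc xc27 yc4 zc47) (kc xc18 yc9 zc46) (kc xc9 yc19 zc11) (kc xc12 yc21 zc19) (kc xc9 yc19 zc13) (kc xc14 yc2 zc45) (kc xc17 yc14 zc10) (kc xc9 yc19 zc20) (kc xc27 yc4 zc57) (kc xc9 yc19 zc21) (kc xc21 yc27 zc5) (kc xc12 yc15 zc60) (kc xc12 yc15 zc61) (kc xc27 yc5 zc3) (kc xc9 yc19 zc18) (kc xc15 yc40 zc42) (kc xc9 yc19 zc19) (kc xc15 yc40 zc41) (kc xc27 yc4 zc56) (kc xc15 yc17 zc26) (kc xc21 yc5 zc10) (kc xc9 yc19 zc25) (kc xc16 yc31 zc24) (kc xc9 yc19 zc27)) (@D3.rec (fun _ => Pt) (kc xc27 yc5 zc8) (kc xc11 yc46 zc6) (kc xc27 yc5 zc7) (kc xc24 yc56 zc57) (kc xc24 yc56 zc58) (kc xc20 yc46 zc56) (kc xc9 yc19 zc31) (kc xc21 yc28 zc51) (kc xc9 yc19 zc29) (kc xc20 yc18 zc53) (kc xc20 yc10 zc25) (kc xc9 yc19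 zc30) (kc xc22 yc39 zc0) (kc xc27 yc5 zc17) (kc xc26 yc22 zc38) (kc xc26 yc22 zc39) (kc xc9 yc19 zc33) (kc xc17 yc53 zc9) (kc xc25 yc25 zc30) (kc xc9 yc19 zc36) (kc xc17 yc55 zc39) (kc xc25 yc1 zc20) (kc xc21 yc29 zc38) (kc xc21 yc28 zc52) (kc xc21 yc29 zc41) (kc xc13 yc55 zc23) (kc xc15 yc6 zc12) (kc xc15 yc6 zc13) (kc xc27 yc5 zc29) (kc xc14 yc38 zc57) (kc xc14 yc50 zc27) (kc xc13 yc57 zc50) (kc xc13 yc57 zc51) (kc xc21 yc9 zc4) (kc xc21 yc13 zc31) (kc xc27 yc5 zc34) (kc xc20 yc31 zc51) (kc xc9 yc19 zc45) (kc xc20 yc46 zc58) (kc xc20 yc46 zc59) (kc xc27 yc5 zc39) (kc xc17 yc21 zc3) (kc xc9 yc19 zc48) (kc xc19 yc21 zc23) (kc xc16 yc53 zc9) (kc xc19 yc42 zc59) (kc xc9 yc19 zc52) (kc xc14 yc33 zc6) (kc xc11 yc14 zc50) (kc xc10 yc44 zc30) (kc xc18 yc23 zc59) (kc xc10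 yc44 zc23) (kc xc11 yc15 zc3) (kc xc11 yc48 zc44) (kc xc16 yc56 zc52) (kc xc19 yc43 zc56) (kc xc21 yc51 zc31) (kc xc12 yc44 zc14) (kc xc22 yc40 zc18) (kc xc23 yc36 zc4) (kc xc22 yc40 zc32) (kc xc10 yc44 zc61)) (@D3.rec (fun _ => Pt) (kc xc15 yc27 zc13) (kc xc9 yc20 zc10) (kc xc9 yc32 zc51) (kc xc15 yc26 zc6) (kc xc9 yc20 zc17) (kc xc9 yc20 zc19) (kc xc21 yc57 zc43) (kc xc27 yc5 zc50) (kc xc27 yc5 zc51) (kc xc27 yc5 zc47) (kc xc25 yc57 zc9) (kc xc27 yc5 zc52) (kc xc15 yc59 zc13) (kc xc26 yc0 zc34) (kc xc27 yc5 zc53) (kc xc9 yc20 zc23) (kc xc16 yc30 zc23) (kc xc27 yc5 zc55) (kc xc11 yc12 zc20) (kc xc17 yc24 zc24) (kc xc27 yc5 zc59) (kc xc27 yc5 zc60) (kc xc27 yc5 zc61) (kc xc9 yc20 zc28) (kc xc11 yc14 zc40) (kc xc22 yc8 zc57) (kc xc12 yc58 zc57) (kc xc24 yc44 zc38) (kc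 xc12 yc18 zc42) (kc xc21 yc24 zc47) (kc xc16 yc3 zc31) (kc xc27 yc6 zc6) (kc xc27 yc3 zc61) (kc xc16 yc14 zc30) (kc xc14 yc2 zc50) (kc xc9 yc20 zc40) (kc xc9 yc20 zc38) (kc xc11 yc57 zc43) (kc xc10 yc18 zc9) (kc xc9 yc20 zc41) (kc xc9 yc20 zc42) (kc xc10 yc6 zc43) (kc xc18 yc22 zc30) (kc xc21 yc30 zc56) (kc xc18 yc26 zc24) (kc xc10 yc11 zc53) (kc xc15 yc30 zc58) (kc xc12 yc30 zc32) (kc xc10 yc20 zc4) (kc xc9 yc20 zc53) (kc xc12 yc14 zc31) (kc xc12 yc14 zc32) (kc xc9 yc29 zc39) (kc xc12 yc26 zc35) (kc xc12 yc33 zc26) (kc xc22 yc16 zc18) (kc xc12 yc33 zc32) (kc xc12 yc33 zc31) (kc xc12 yc33 zc2) (kc xc10 yc26 zc55) (kc xc27 yc6 zc24) (kc xc9 yc21 zc0)) (@D3.rec (fun _ => Pt) (kc xc19 yc27 zc19) (kc xc10 yc17 zc19) (kc xc20 yc33 zc3) (kc xc20 yc33 zc2) (kc xc27 yc6 zc30)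 (kc xc9 yc21 zc4) (kc xc12 yc27 zc50) (kc xc10 yc14 zc19) (kc xc9 yc21 zc7) (kc xc9 yc21 zc12) (kc xc11 yc36 zc12) (kc xc18 yc57 zc34) (kc xc20 yc58 zc18) (kc xc21 yc18 zc53) (kc xc12 yc29 zc23) (kc xc10 yc44 zc11) (kc xc9 yc21 zc16) (kc xc12 yc40 zc21) (kc xc9 yc21 zc18) (kc xc9 yc21 zc19) (kc xc27 yc6 zc42) (kc xc22 yc25 zc17) (kc xc27 yc6 zc44) (kc xc27 yc6 zc46) (kc xc9 yc21 zc21) (kc xc27 yc6 zc51) (kc xc14 yc13 zc19) (kc xc23 yc47 zc16) (kc xc9 yc21 zc24) (kc xc27 yc6 zc31) (kc xc9 yc21 zc26) (kc xc27 yc6 zc57) (kc xc27 yc6 zc59) (kc xc9 yc21 zc28) (kc xc27 yc7 zc0) (kc xc9 yc21 zc29) (kc xc27 yc7 zc1) (kc xc12 yc50 zc33) (kc xc12 yc57 zc37) (kc xc26 yc53 zc52) (kc xc27 yc7 zc13) (kc xc9 yc21 zc31) (kc xc27 yc7 zc15) (kc xc12 yc35 zc56) (kc xc27 yc7 zc22) (kc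 xc12 yc35 zc58) (kc xc9 yc21 zc34) (kc xc27 yc7 zc26) (kc xc9 yc21 zc36) (kc xc24 yc44 zc39) (kc xc12 yc34 zc12) (kc xc17 yc7 zc46) (kc xc21 yc35 zc0) (kc xc27 yc7 zc28) (kc xc27 yc7 zc32) (kc xc22 yc1 zc14) (kc xc22 yc0 zc61) (kc xc9 yc21 zc46) (kc xc9 yc21 zc47) (kc xc12 yc16 zc30) (kc xc12 yc24 zc57) (kc xc12 yc34 zc30)) (@D3.rec (fun _ => Pt) (kc xc27 yc7 zc42) (kc xc27 yc7 zc45) (kc xc27 yc7 zc48) (kc xc12 yc34 zc35) (kc xc27 yc7 zc54) (kc xc12 yc11 zc57) (kc xc22 yc32 zc8) (kc xc14 yc29 zc53) (kc xc14 yc29 zc52) (kc xc26 yc51 zc28) (kc xc17 yc29 zc11) (kc xc9 yc21 zc60) (kc xc15 yc27 zc5) (kc xc16 yc56 zc50) (kc xc23 yc48 zc1) (kc xc23 yc48 zc0) (kc xc27 yc8 zc3) (kc xc9 yc22 zc2) (kc xc14 yc28 zc38) (kc xc12 yc11 zc19) (kc xc12 yc11 zc20) (kc xc17 yc21 zc16)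 (kc xc24 yc14 zc27) (kc xc27 yc8 zc8) (kc xc12 yc34 zc4) (kc xc17 yc10 zc35) (kc xc16 yc56 zc5) (kc xc26 yc35 zc9) (kc xc9 yc22 zc9) (kc xc12 yc0 zc36) (kc xc10 yc27 zc38) (kc xc21 yc11 zc15) (kc xc27 yc8 zc14) (kc xc16 yc32 zc19) (kc xc27 yc8 zc19) (kc xc17 yc0 zc28) (kc xc9 yc22 zc16) (kc xc27 yc8 zc22) (kc xc26 yc48 zc20) (kc xc9 yc22 zc17) (kc xc27 yc8 zc25) (kc xc10 yc15 zc28) (kc xc27 yc8 zc28) (kc xc27 yc8 zc30) (kc xc9 yc22 zc18) (kc xc22 yc35 zc21) (kc xc27 yc8 zc38) (kc xc21 yc20 zc33) (kc xc12 yc9 zc56) (kc xc9 yc26 zc37) (kc xc27 yc8 zc41) (kc xc17 yc24 zc54) (kc xc13 yc22 zc4) (kc xc27 yc8 zc46) (kc xc11 yc0 zc33) (kc xc27 yc8 zc48) (kc xc11 yc0 zc45) (kc xc27 yc8 zc51) (kc xc27 yc8 zc53) (kc xc9 yc22 zc25) (kc xc27 yc8 zc58) (kc xc27 yc6 zc55)) (@D3.rec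 (fun _ => Pt) (kc xc20 yc40 zc17) (kc xc20 yc40 zc18) (kc xc14 yc7 zc59) (kc xc11 yc38 zc38) (kc xc19 yc59 zc31) (kc xc10 yc58 zc22) (kc xc14 yc49 zc59) (kc xc12 yc10 zc42) (kc xc9 yc22 zc40) (kc xc11 yc0 zc50) (kc xc12 yc23 zc39) (kc xc18 yc25 zc18) (kc xc23 yc34 zc34) (kc xc23 yc38 zc1) (kc xc9 yc28 zc36) (kc xc12 yc36 zc46) (kc xc15 yc52 zc31) (kc xc14 yc11 zc38) (kc xc12 yc2 zc41) (kc xc11 yc34 zc54) (kc xc14 yc20 zc10) (kc xc10 yc4 zc32) (kc xc18 yc53 zc2) (kc xc11 yc47 zc19) (kc xc17 yc23 zc13) (kc xc17 yc23 zc14) (kc xc9 yc22 zc59) (kc xc14 yc11 zc47) (kc xc21 yc25 zc16) (kc xc9 yc24 zc29) (kc xc18 yc0 zc29) (kc xc18 yc38 zc28) (kc xc12 yc38 zc53) (kc xc9 yc23 zc5) (kc xc21 yc57 zc9) (kc xc9 yc23 zc8) (kc xc27 yc9 zc13) (kc xc27 yc9 zc14) (kc xc18 yc32 zc51)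 (kc xc10 yc20 zc2) (kc xc9 yc23 zc14) (kc xc12 yc37 zc30) (kc xc22 yc4 zc14) (kc xc27 yc9 zc19) (kc xc9 yc24 zc28) (kc xc16 yc53 zc35) (kc xc9 yc23 zc18) (kc xc9 yc23 zc17) (kc xc21 yc52 zc7) (kc xc18 yc13 zc28) (kc xc18 yc14 zc2) (kc xc10 yc27 zc5) (kc xc27 yc3 zc43) (kc xc27 yc9 zc27) (kc xc12 yc37 zc46) (kc xc17 yc4 zc61) (kc xc9 yc23 zc22) (kc xc12 yc44 zc18) (kc xc27 yc9 zc31) (kc xc12 yc44 zc34) (kc xc27 yc9 zc36) (kc xc18 yc14 zc3)) (@D3.rec (fun _ => Pt) (kc xc9 yc23 zc24) (kc xc27 yc9 zc39) (kc xc20 yc50 zc46) (kc xc9 yc23 zc25) (kc xc27 yc9 zc42) (kc xc17 yc35 zc8) (kc xc27 yc9 zc46) (kc xc27 yc9 zc48) (kc xc9 yc23 zc26) (kc xc20 yc36 zc47) (kc xc9 yc23 zc28) (kc xc27 yc9 zc53) (kc xc18 yc45 zc21) (kc xc27 yc9 zc55) (kc xc27 yc9 zc56) (kc xc9 yc23 zc29) (kc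 xc27 yc9 zc58) (kc xc18 yc13 zc55) (kc xc27 yc9 zc60) (kc xc9 yc23 zc32) (kc xc16 yc6 zc59) (kc xc9 yc23 zc33) (kc xc27 yc10 zc2) (kc xc27 yc10 zc6) (kc xc9 yc23 zc35) (kc xc16 yc0 zc25) (kc xc9 yc23 zc36) (kc xc27 yc10 zc9) (kc xc12 yc4 zc30) (kc xc27 yc9 zc50) (kc xc25 yc58 zc35) (kc xc10 yc4 zc37) (kc xc13 yc1 zc43) (kc xc22 yc3 zc47) (kc xc13 yc1 zc55) (kc xc22 yc7 zc5) (kc xc21 yc38 zc35) (kc xc11 yc45 zc36) (kc xc11 yc45 zc37) (kc xc9 yc23 zc45) (kc xc9 yc23 zc46) (kc xc9 yc24 zc25) (kc xc12 yc39 zc48) (kc xc20 yc26 zc2) (kc xc21 yc20 zc44) (kc xc27 yc10 zc25) (kc xc27 yc7 zc34) (kc xc9 yc23 zc52) (kc xc20 yc44 zc13) (kc xc14 yc35 zc24) (kc xc18 yc57 zc18) (kc xc27 yc10 zc31) (kc xc9 yc23 zc55) (kc xc17 yc22 zc59) (kc xc26 yc53 zc17) (kc xc27 yc10 zc34) (kc xc20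 yc8 zc38) (kc xc17 yc13 zc16) (kc xc27 yc10 zc36) (kc xc18 yc42 zc18) (kc xc17 yc10 zc0) (kc xc26 yc45 zc29)) (@D3.rec (fun _ => Pt) (kc xc17 yc13 zc19) (kc xc11 yc23 zc14) (kc xc11 yc34 zc13) (kc xc17 yc15 zc41) (kc xc12 yc38 zc60) (kc xc9 yc24 zc0) (kc xc24 yc27 zc31) (kc xc11 yc35 zc17) (kc xc21 yc3 zc21) (kc xc24 yc28 zc41) (kc xc10 yc45 zc48) (kc xc27 yc10 zc47) (kc xc27 yc10 zc48) (kc xc9 yc24 zc2) (kc xc16 yc3 zc55) (kc xc27 yc10 zc51) (kc xc17 yc18 zc21) (kc xc17 yc11 zc28) (kc xc17 yc11 zc29) (kc xc25 yc25 zc15) (kc xc11 yc1 zc2) (kc xc12 yc45 zc53) (kc xc12 yc28 zc47) (kc xc10 yc21 zc0) (kc xc27 yc10 zc54) (kc xc14 yc13 zc56) (kc xc9 yc24 zc11) (kc xc16 yc5 zc59) (kc xc27 yc10 zc56) (kc xc27 yc10 zc57) (kc xc12 yc40 zc8) (kc xc9 yc24 zc15) (kc xc25 yc46 zc46)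 (kc xc12 yc15 zc49) (kc xc12 yc15 zc48) (kc xc12 yc40 zc14) (kc xc9 yc24 zc18) (kc xc9 yc24 zc21) (kc xc12 yc40 zc20) (kc xc15 yc21 zc60) (kc xc26 yc13 zc61) (kc xc26 yc13 zc60) (kc xc27 yc10 zc22) (kc xc17 yc39 zc14) (kc xc17 yc45 zc22) (kc xc14 yc1 zc36) (kc xc9 yc24 zc35) (kc xc24 yc48 zc30) (kc xc27 yc11 zc10) (kc xc23 yc34 zc33) (kc xc18 yc10 zc25) (kc xc13 yc58 zc35) (kc xc9 yc24 zc41) (kc xc23 yc42 zc30) (kc xc21 yc28 zc59) (kc xc21 yc28 zc60) (kc xc13 yc41 zc36) (kc xc10 yc23 zc47) (kc xc13 yc41 zc39) (kc xc9 yc24 zc48) (kc xc14 yc11 zc48) (kc xc25 yc24 zc7)) (@D3.rec (fun _ => Pt) (kc xc26 yc15 zc51) (kc xc9 yc24 zc49) (kc xc18 yc4 zc16) (kc xc17 yc46 zc17) (kc xc12 yc41 zc56) (kc xc15 yc32 zc36) (kc xc9 yc24 zc55) (kc xc12 yc41 zc60) (kc xc15 yc15 zc24) (kc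 xc9 yc24 zc57) (kc xc12 yc52 zc21) (kc xc18 yc52 zc40) (kc xc27 yc11 zc17) (kc xc27 yc11 zc32) (kc xc26 yc58 zc20) (kc xc12 yc58 zc21) (kc xc19 yc29 zc45) (kc xc9 yc32 zc38) (kc xc11 yc43 zc60) (kc xc9 yc50 zc31) (kc xc11 yc41 zc1) (kc xc9 yc25 zc5) (kc xc16 yc52 zc10) (kc xc18 yc21 zc5) (kc xc27 yc11 zc43) (kc xc18 yc43 zc18) (kc xc14 yc20 zc8) (kc xc27 yc11 zc45) (kc xc26 yc26 zc25) (kc xc21 yc57 zc10) (kc xc27 yc11 zc48) (kc xc27 yc11 zc50) (kc xc11 yc2 zc11) (kc xc13 yc17 zc32) (kc xc20 yc46 zc16) (kc xc9 yc25 zc22) (kc xc16 yc56 zc4) (kc xc9 yc25 zc18) (kc xc19 yc59 zc3) (kc xc20 yc12 zc26) (kc xc27 yc11 zc55) (kc xc20 yc22 zc30) (kc xc9 yc25 zc19) (kc xc27 yc11 zc61) (kc xc27 yc11 zc59) (kc xc14 yc20 zc18) (kc xc9 yc25 zc20) (kc xc27 yc12 zc3) (kc xc20 yc26 zc48)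 (kc xc27 yc12 zc5) (kc xc26 yc54 zc35) (kc xc9 yc25 zc21) (kc xc27 yc12 zc9) (kc xc10 yc25 zc11) (kc xc14 yc23 zc43) (kc xc9 yc25 zc28) (kc xc15 yc0 zc4) (kc xc23 yc11 zc48) (kc xc11 yc48 zc3) (kc xc17 yc20 zc53) (kc xc20 yc45 zc13) (kc xc27 yc12 zc15)) (@D3.rec (fun _ => Pt) (kc xc14 yc45 zc33) (kc xc20 yc26 zc20) (kc xc21 yc53 zc56) (kc xc20 yc26 zc25) (kc xc10 yc1 zc48) (kc xc16 yc26 zc6) (kc xc23 yc7 zc26) (kc xc13 yc30 zc42) (kc xc9 yc25 zc38) (kc xc27 yc12 zc21) (kc xc10 yc26 zc20) (kc xc27 yc12 zc23) (kc xc10 yc2 zc10) (kc xc17 yc19 zc24) (kc xc17 yc19 zc25) (kc xc10 yc1 zc50) (kc xc9 yc25 zc44) (kc xc23 yc40 zc38) (kc xc9 yc25 zc50) (kc xc20 yc44 zc59) (kc xc27 yc12 zc26) (kc xc22 yc5 zc20) (kc xc27 yc12 zc27) (kc xc9 yc25 zc52) (kc xc13 yc1 zc33) (kc xc27 yc12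 zc28) (kc xc9 yc25 zc58) (kc xc21 yc44 zc58) (kc xc18 yc4 zc56) (kc xc25 yc17 zc15) (kc xc27 yc12 zc30) (kc xc9 yc25 zc59) (kc xc27 yc12 zc32) (kc xc24 yc33 zc53) (kc xc27 yc12 zc35) (kc xc9 yc50 zc1) (kc xc9 yc26 zc1) (kc xc27 yc12 zc38) (kc xc9 yc26 zc4) (kc xc20 yc40 zc19) (kc xc20 yc40 zc20) (kc xc27 yc12 zc45) (kc xc21 yc6 zc50) (kc xc21 yc6 zc52) (kc xc9 yc26 zc36) (kc xc26 yc50 zc24) (kc xc27 yc12 zc48) (kc xc27 yc12 zc50) (kc xc9 yc26 zc12) (kc xc27 yc12 zc51) (kc xc9 yc26 zc9) (kc xc27 yc12 zc56) (kc xc16 yc52 zc37) (kc xc12 yc7 zc30) (kc xc9 yc26 zc10) (kc xc27 yc12 zc60) (kc xc15 yc25 zc30) (kc xc19 yc45 zc12) (kc xc9 yc26 zc11) (kc xc27 yc13 zc3) (kc xc11 yc36 zc40) (kc xc13 yc1 zc54)) (@D3.rec (fun _ => Pt) (kc xc13 yc2 zc18) (kc xc19 yc27 zc12) (kc xc16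 yc56 zc45) (kc xc9 yc26 zc18) (kc xc9 yc26 zc17) (kc xc27 yc13 zc8) (kc xc27 yc13 zc11) (kc xc9 yc26 zc19) (kc xc21 yc5 zc34) (kc xc22 yc11 zc61) (kc xc9 yc26 zc20) (kc xc24 yc13 zc34) (kc xc13 yc8 zc17) (kc xc13 yc8 zc19) (kc xc9 yc27 zc20) (kc xc27 yc13 zc21) (kc xc9 yc26 zc22) (kc xc27 yc13 zc24) (kc xc11 yc11 zc49) (kc xc17 yc31 zc8) (kc xc9 yc26 zc25) (kc xc16 yc52 zc6) (kc xc22 yc26 zc56) (kc xc27 yc13 zc27) (kc xc17 yc16 zc19) (kc xc27 yc13 zc33) (kc xc27 yc13 zc34) (kc xc17 yc24 zc34) (kc xc27 yc8 zc54) (kc xc27 yc8 zc55) (kc xc9 yc26 zc28) (kc xc27 yc6 zc50) (kc xc18 yc25 zc4) (kc xc12 yc51 zc42) (kc xc17 yc24 zc27) (kc xc21 yc51 zc2) (kc xc12 yc10 zc38) (kc xc9 yc26 zc35) (kc xc26 yc4 zc4) (kc xc25 yc17 zc33) (kc xc27 yc13 zc49) (kc xc27 yc13 zc52) (kc xc27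 yc12 zc47) (kc xc27 yc13 zc54) (kc xc24 yc26 zc53) (kc xc27 yc13 zc56) (kc xc27 yc13 zc57) (kc xc27 yc13 zc58) (kc xc27 yc13 zc61) (kc xc9 yc26 zc39) (kc xc27 yc14 zc4) (kc xc9 yc26 zc41) (kc xc27 yc14 zc7) (kc xc27 yc14 zc6) (kc xc17 yc18 zc51) (kc xc26 yc59 zc29) (kc xc27 yc14 zc10) (kc xc25 yc48 zc17) (kc xc25 yc8 zc51) (kc xc9 yc26 zc43) (kc xc27 yc14 zc17) (kc xc15 yc56 zc41)) (@D3.rec (fun _ => Pt) (kc xc27 yc14 zc19) (kc xc13 yc47 zc28) (kc xc27 yc14 zc22) (kc xc22 yc0 zc11) (kc xc9 yc26 zc47) (kc xc16 yc23 zc55) (kc xc9 yc26 zc48) (kc xc25 yc51 zc33) (kc xc25 yc25 zc57) (kc xc27 yc14 zc28) (kc xc9 yc26 zc49) (kc xc25 yc51 zc34) (kc xc15 yc59 zc60) (kc xc23 yc56 zc5) (kc xc26 yc45 zc7) (kc xc27 yc13 zc1) (kc xc27 yc14 zc35) (kc xc9 yc26 zc51) (kc xc25 yc58 zc34)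 (kc xc27 yc14 zc38) (kc xc9 yc26 zc53) (kc xc27 yc14 zc39) (kc xc9 yc26 zc54) (kc xc27 yc14 zc41) (kc xc27 yc14 zc43) (kc xc27 yc14 zc44) (kc xc9 yc26 zc55) (kc xc27 yc14 zc50) (kc xc16 yc30 zc15) (kc xc20 yc1 zc26) (kc xc9 yc26 zc57) (kc xc27 yc14 zc53) (kc xc12 yc31 zc37) (kc xc22 yc11 zc33) (kc xc18 yc14 zc36) (kc xc22 yc30 zc54) (kc xc9 yc27 zc0) (kc xc15 yc46 zc34) (kc xc16 yc6 zc57) (kc xc9 yc27 zc1) (kc xc9 yc27 zc2) (kc xc18 yc54 zc33) (kc xc27 yc15 zc0) (kc xc9 yc27 zc6) (kc xc25 yc25 zc36) (kc xc9 yc27 zc5) (kc xc27 yc15 zc5) (kc xc24 yc4 zc7) (kc xc27 yc15 zc4) (kc xc9 yc27 zc9) (kc xc25 yc43 zc59) (kc xc25 yc9 zc40) (kc xc27 yc15 zc20) (kc xc27 yc15 zc16) (kc xc9 yc27 zc10) (kc xc9 yc27 zc12) (kc xc27 yc15 zc22) (kc xc12 yc57 zc29) (kc xc12 yc14 zc42) (kc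 xc13 yc43 zc48) (kc xc9 yc27 zc14) (kc xc16 yc0 zc26)) (@D3.rec (fun _ => Pt) (kc xc27 yc15 zc27) (kc xc9 yc27 zc15) (kc xc21 yc53 zc21) (kc xc27 yc15 zc30) (kc xc9 yc27 zc17) (kc xc15 yc41 zc3) (kc xc15 yc41 zc0) (kc xc22 yc4 zc17) (kc xc27 yc15 zc37) (kc xc19 yc3 zc10) (kc xc19 yc6 zc38) (kc xc12 yc4 zc34) (kc xc27 yc6 zc25) (kc xc27 yc15 zc50) (kc xc27 yc13 zc16) (kc xc27 yc15 zc55) (kc xc27 yc13 zc18) (kc xc27 yc2 zc6) (kc xc9 yc27 zc23) (kc xc25 yc55 zc35) (kc xc27 yc16 zc1) (kc xc9 yc27 zc24) (kc xc27 yc16 zc5) (kc xc12 yc17 zc21) (kc xc12 yc52 zc1) (kc xc12 yc52 zc0) (kc xc9 yc27 zc26) (kc xc27 yc16 zc11) (kc xc27 yc8 zc11) (kc xc9 yc27 zc28) (kc xc27 yc16 zc15) (kc xc9 yc27 zc29) (kc xc27 yc16 zc19) (kc xc14 yc44 zc9) (kc xc9 yc27 zc30) (kc xc27 yc16 zc23) (kc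 xc12 yc51 zc49) (kc xc12 yc51 zc50) (kc xc11 yc46 zc35) (kc xc12 yc52 zc10) (kc xc20 yc33 zc32) (kc xc21 yc41 zc56) (kc xc12 yc38 zc3) (kc xc9 yc27 zc35) (kc xc25 yc57 zc12) (kc xc10 yc3 zc37) (kc xc9 yc27 zc36) (kc xc27 yc16 zc37) (kc xc19 yc6 zc57) (kc xc10 yc45 zc32) (kc xc10 yc45 zc22) (kc xc10 yc4 zc30) (kc xc27 yc16 zc41) (kc xc11 yc55 zc40) (kc xc9 yc27 zc41) (kc xc24 yc48 zc31) (kc xc18 yc14 zc47) (kc xc12 yc57 zc41) (kc xc26 yc32 zc41) (kc xc9 yc27 zc43) (kc xc27 yc16 zc45) (kc xc12 yc55 zc31)) (@D3.rec (fun _ => Pt) (kc xc27 yc16 zc50) (kc xc27 yc16 zc44) (kc xc9 yc27 zc46) (kc xc27 yc16 zc52) (kc xc27 yc16 zc56) (kc xc27 yc16 zc58) (kc xc25 yc43 zc39) (kc xc12 yc57 zc24) (kc xc9 yc27 zc48) (kc xc9 yc32 zc36) (kc xc27 yc7 zc36) (kc xc9 yc27 zc52) (kc xc20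 yc15 zc13) (kc xc9 yc27 zc51) (kc xc24 yc25 zc25) (kc xc12 yc48 zc61) (kc xc9 yc27 zc53) (kc xc27 yc17 zc10) (kc xc27 yc0 zc4) (kc xc27 yc17 zc5) (kc xc12 yc52 zc3) (kc xc9 yc27 zc58) (kc xc12 yc15 zc55) (kc xc27 yc17 zc17) (kc xc27 yc16 zc29) (kc xc25 yc34 zc3) (kc xc12 yc52 zc38) (kc xc27 yc16 zc26) (kc xc23 yc22 zc8) (kc xc27 yc16 zc22) (kc xc24 yc41 zc15) (kc xc27 yc16 zc18) (kc xc27 yc17 zc32) (kc xc22 yc3 zc42) (kc xc9 yc32 zc56) (kc xc27 yc17 zc35) (kc xc20 yc38 zc58) (kc xc27 yc16 zc10) (kc xc9 yc28 zc3) (kc xc27 yc17 zc38) (kc xc12 yc59 zc9) (kc xc17 yc10 zc20) (kc xc27 yc17 zc44) (kc xc27 yc17 zc48) (kc xc18 yc8 zc3) (kc xc22 yc43 zc25) (kc xc17 yc28 zc20) (kc xc27 yc17 zc52) (kc xc12 yc24 zc40) (kc xc21 yc5 zc48) (kc xc27 yc17 zc58) (kc xc15 yc49 zc30) (kc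 xc17 yc28 zc18) (kc xc27 yc17 zc61) (kc xc17 yc13 zc33) (kc xc21 yc31 zc12) (kc xc27 yc18 zc1) (kc xc17 yc28 zc1) (kc xc25 yc58 zc55) (kc xc25 yc58 zc54) (kc xc23 yc22 zc30) (kc xc27 yc18 zc10)) (@D3.rec (fun _ => Pt) (kc xc21 yc58 zc24) (kc xc17 yc27 zc57) (kc xc25 yc42 zc43) (kc xc25 yc41 zc44) (kc xc21 yc19 zc15) (kc xc27 yc18 zc18) (kc xc16 yc1 zc39) (kc xc9 yc28 zc20) (kc xc24 yc40 zc13) (kc xc21 yc59 zc32) (kc xc17 yc44 zc3) (kc xc27 yc18 zc22) (kc xc21 yc56 zc46) (kc xc27 yc18 zc25) (kc xc27 yc18 zc27) (kc xc9 yc28 zc23) (kc xc27 yc18 zc32) (kc xc23 yc28 zc7) (kc xc17 yc27 zc52) (kc xc27 yc18 zc36) (kc xc17 yc27 zc46) (kc xc27 yc18 zc31) (kc xc9 yc28 zc27) (kc xc25 yc8 zc57) (kc xc27 yc18 zc49) (kc xc27 yc18 zc46) (kc xc10 yc59 zc28) (kc xc26 yc55 zc46) (kc xc27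 yc18 zc50) (kc xc9 yc28 zc31) (kc xc27 yc18 zc53) (kc xc12 yc49 zc6) (kc xc27 yc18 zc56) (kc xc9 yc28 zc34) (kc xc27 yc18 zc57) (kc xc27 yc18 zc59) (kc xc9 yc28 zc35) (kc xc26 yc44 zc9) (kc xc11 yc44 zc48) (kc xc27 yc19 zc1) (kc xc9 yc28 zc37) (kc xc27 yc19 zc6) (kc xc27 yc19 zc9) (kc xc9 yc28 zc39) (kc xc27 yc19 zc11) (kc xc26 yc57 zc12) (kc xc9 yc28 zc40) (kc xc27 yc19 zc16) (kc xc14 yc21 zc9) (kc xc9 yc28 zc41) (kc xc12 yc11 zc30) (kc xc12 yc11 zc14) (kc xc10 yc40 zc13) (kc xc25 yc35 zc37) (kc xc9 yc28 zc43) (kc xc19 yc13 zc51) (kc xc9 yc28 zc44) (kc xc27 yc19 zc26) (kc xc12 yc15 zc40) (kc xc12 yc15 zc41) (kc xc12 yc26 zc10) (kc xc27 yc19 zc20)) (@D3.rec (fun _ => Pt) (kc xc9 yc28 zc47) (kc xc27 yc10 zc41) (kc xc27 yc19 zc34) (kc xc9 yc28 zc48) (kc xc27 yc19 zc36)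 (kc xc26 yc2 zc9) (kc xc27 yc19 zc23) (kc xc12 yc12 zc10) (kc xc27 yc19 zc21) (kc xc21 yc5 zc54) (kc xc27 yc19 zc19) (kc xc17 yc18 zc10) (kc xc27 yc19 zc15) (kc xc27 yc4 zc16) (kc xc27 yc3 zc53) (kc xc9 yc29 zc5) (kc xc27 yc19 zc49) (kc xc27 yc19 zc10) (kc xc27 yc19 zc5) (kc xc9 yc28 zc55) (kc xc9 yc28 zc57) (kc xc9 yc28 zc58) (kc xc9 yc28 zc60) (kc xc27 yc10 zc61) (kc xc27 yc19 zc52) (kc xc22 yc10 zc24) (kc xc24 yc42 zc56) (kc xc27 yc19 zc54) (kc xc27 yc19 zc55) (kc xc25 yc26 zc59) (kc xc15 yc59 zc16) (kc xc27 yc6 zc40) (kc xc25 yc35 zc40) (kc xc27 yc19 zc58) (kc xc9 yc29 zc3) (kc xc25 yc12 zc51) (kc xc27 yc19 zc61) (kc xc15 yc38 zc13) (kc xc25 yc41 zc47) (kc xc9 yc29 zc4) (kc xc25 yc57 zc51) (kc xc27 yc20 zc2) (kc xc27 yc20 zc4) (kc xc25 yc49 zc24) (kc xc9 yc29 zc6)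 (kc xc26 yc11 zc8) (kc xc12 yc49 zc56) (kc xc11 yc27 zc57) (kc xc11 yc46 zc20) (kc xc21 yc38 zc9) (kc xc12 yc36 zc60) (kc xc18 yc16 zc45) (kc xc18 yc35 zc9) (kc xc9 yc29 zc12) (kc xc9 yc29 zc14) (kc xc12 yc29 zc52) (kc xc12 yc51 zc29) (kc xc27 yc20 zc11) (kc xc13 yc17 zc2) (kc xc26 yc49 zc31) (kc xc27 yc20 zc13) (kc xc11 yc19 zc46)) (@D3.rec (fun _ => Pt) (kc xc9 yc29 zc18) (kc xc27 yc20 zc14) (kc xc26 yc49 zc12) (kc xc18 yc56 zc49) (kc xc9 yc29 zc20) (kc xc9 yc29 zc21) (kc xc27 yc20 zc18) (kc xc9 yc29 zc22) (kc xc11 yc19 zc52) (kc xc9 yc29 zc23) (kc xc12 yc3 zc57) (kc xc18 yc39 zc36) (kc xc18 yc39 zc34) (kc xc26 yc53 zc18) (kc xc27 yc17 zc6) (kc xc9 yc29 zc25) (kc xc9 yc29 zc27) (kc xc9 yc37 zc59) (kc xc18 yc33 zc41) (kc xc18 yc23 zc27) (kc xc9 yc29 zc30) (kc xc18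 yc34 zc60) (kc xc21 yc38 zc23) (kc xc22 yc28 zc59) (kc xc9 yc58 zc10) (kc xc13 yc2 zc8) (kc xc12 yc30 zc12) (kc xc9 yc59 zc54) (kc xc14 yc49 zc56) (kc xc9 yc29 zc49) (kc xc14 yc35 zc7) (kc xc9 yc29 zc51) (kc xc9 yc55 zc31) (kc xc27 yc20 zc17) (kc xc9 yc29 zc37) (kc xc20 yc47 zc27) (kc xc27 yc20 zc7) (kc xc21 yc50 zc61) (kc xc27 yc20 zc40) (kc xc25 yc34 zc15) (kc xc21 yc48 zc14) (kc xc21 yc48 zc13) (kc xc9 yc29 zc40) (kc xc11 yc8 zc60) (kc xc12 yc16 zc12) (kc xc12 yc16 zc11) (kc xc27 yc20 zc43) (kc xc27 yc20 zc46) (kc xc27 yc20 zc47) (kc xc14 yc54 zc55) (kc xc27 yc20 zc48) (kc xc9 yc29 zc46) (kc xc26 yc12 zc16) (kc xc23 yc50 zc20) (kc xc17 yc3 zc54) (kc xc9 yc29 zc47) (kc xc21 yc7 zc22) (kc xc27 yc20 zc55) (kc xc23 yc50 zc22) (kc xc27 yc20 zc57) (kc xc9 yc29 zc48) (kc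 xc21 yc7 zc21)) (@D3.rec (fun _ => Pt) (kc xc21 yc35 zc42) (kc xc12 yc45 zc11) (kc xc12 yc45 zc14) (kc xc9 yc29 zc50) (kc xc23 yc49 zc45) (kc xc15 yc19 zc3) (kc xc9 yc29 zc54) (kc xc18 yc16 zc60) (kc xc17 yc24 zc19) (kc xc11 yc57 zc54) (kc xc17 yc58 zc7) (kc xc20 yc48 zc16) (kc xc17 yc58 zc8) (kc xc27 yc20 zc60) (kc xc10 yc3 zc41) (kc xc12 yc3 zc9) (kc xc12 yc38 zc58) (kc xc21 yc22 zc18) (kc xc12 yc3 zc13) (kc xc17 yc12 zc32) (kc xc12 yc55 zc36) (kc xc20 yc45 zc0) (kc xc11 yc49 zc33) (kc xc21 yc47 zc18) (kc xc16 yc57 zc52) (kc xc21 yc47 zc27) (kc xc9 yc30 zc5) (kc xc20 yc24 zc31) (kc xc14 yc30 zc42) (kc xc9 yc30 zc17) (kc xc27 yc21 zc10) (kc xc13 yc23 zc29) (kc xc11 yc26 zc44) (kc xc11 yc26 zc45) (kc xc9 yc30 zc14) (kc xc20 yc24 zc30) (kc xc12 yc10 zc56) (kc xc22 yc49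 zc55) (kc xc9 yc30 zc19) (kc xc18 yc0 zc0) (kc xc18 yc0 zc1) (kc xc21 yc47 zc16) (kc xc20 yc46 zc49) (kc xc20 yc46 zc50) (kc xc9 yc30 zc20) (kc xc9 yc30 zc23) (kc xc20 yc25 zc19) (kc xc22 yc7 zc34) (kc xc14 yc35 zc26) (kc xc19 yc24 zc55) (kc xc20 yc59 zc7) (kc xc18 yc1 zc12) (kc xc18 yc1 zc10) (kc xc9 yc30 zc32) (kc xc10 yc51 zc25) (kc xc11 yc56 zc31) (kc xc27 yc13 zc23) (kc xc9 yc30 zc36) (kc xc27 yc21 zc20) (kc xc14 yc11 zc33) (kc xc9 yc30 zc42) (kc xc17 yc5 zc20)) (@D3.rec (fun _ => Pt) (kc xc14 yc11 zc34) (kc xc27 yc21 zc21) (kc xc18 yc56 zc43) (kc xc25 yc25 zc37) (kc xc9 yc30 zc43) (kc xc25 yc36 zc29) (kc xc9 yc30 zc44) (kc xc9 yc30 zc45) (kc xc21 yc2 zc6) (kc xc27 yc13 zc20) (kc xc9 yc30 zc47) (kc xc27 yc21 zc35) (kc xc27 yc21 zc36) (kc xc23 yc29 zc22) (kc xc27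 yc21 zc34) (kc xc14 yc35 zc29) (kc xc9 yc30 zc55) (kc xc14 yc27 zc12) (kc xc9 yc30 zc54) (kc xc12 yc57 zc46) (kc xc12 yc57 zc47) (kc xc9 yc30 zc53) (kc xc24 yc52 zc15) (kc xc12 yc57 zc7) (kc xc26 yc54 zc0) (kc xc22 yc7 zc45) (kc xc12 yc57 zc10) (kc xc27 yc21 zc37) (kc xc9 yc30 zc56) (kc xc27 yc21 zc41) (kc xc14 yc33 zc13) (kc xc22 yc13 zc39) (kc xc25 yc19 zc5) (kc xc27 yc13 zc19) (kc xc9 yc30 zc59) (kc xc10 yc51 zc26) (kc xc10 yc51 zc24) (kc xc9 yc30 zc60) (kc xc19 yc26 zc42) (kc xc21 yc40 zc22) (kc xc13 yc8 zc18) (kc xc9 yc31 zc2) (kc xc20 yc26 zc54) (kc xc27 yc21 zc49) (kc xc15 yc28 zc49) (kc xc25 yc55 zc46) (kc xc9 yc31 zc5) (kc xc24 yc16 zc4) (kc xc24 yc16 zc2) (kc xc16 yc45 zc32) (kc xc19 yc26 zc27) (kc xc23 yc9 zc40) (kc xc16 yc2 zc12) (kc xc10 yc44 zc48) (kc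 xc27 yc13 zc7) (kc xc20 yc29 zc9) (kc xc9 yc31 zc8) (kc xc27 yc21 zc55) (kc xc27 yc12 zc37) (kc xc9 yc31 zc10) (kc xc19 yc45 zc31) (kc xc20 yc28 zc59)) (@D3.rec (fun _ => Pt) (kc xc9 yc31 zc12) (kc xc27 yc21 zc58) (kc xc9 yc31 zc16) (kc xc19 yc34 zc4) (kc xc9 yc31 zc17) (kc xc9 yc31 zc24) (kc xc20 yc25 zc28) (kc xc9 yc31 zc19) (kc xc27 yc22 zc0) (kc xc27 yc22 zc1) (kc xc9 yc31 zc20) (kc xc26 yc7 zc56) (kc xc9 yc31 zc22) (kc xc17 yc52 zc57) (kc xc18 yc46 zc33) (kc xc18 yc45 zc29) (kc xc27 yc21 zc4) (kc xc27 yc21 zc60) (kc xc15 yc48 zc34) (kc xc10 yc13 zc43) (kc xc14 yc56 zc17) (kc xc12 yc54 zc48) (kc xc27 yc22 zc4) (kc xc9 yc31 zc31) (kc xc25 yc42 zc27) (kc xc27 yc22 zc6) (kc xc27 yc22 zc7) (kc xc9 yc31 zc33) (kc xc22 yc7 zc44) (kc xc16 yc57 zc48) (kc xc27 yc22 zc12)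 (kc xc9 yc31 zc38) (kc xc20 yc59 zc24) (kc xc17 yc34 zc25) (kc xc27 yc22 zc14) (kc xc9 yc31 zc37) (kc xc23 yc31 zc2) (kc xc24 yc33 zc9) (kc xc10 yc1 zc3) (kc xc18 yc40 zc4) (kc xc9 yc31 zc43) (kc xc10 yc55 zc14) (kc xc16 yc46 zc29) (kc xc15 yc30 zc11) (kc xc27 yc22 zc18) (kc xc9 yc31 zc48) (kc xc22 yc55 zc23) (kc xc14 yc48 zc12) (kc xc25 yc52 zc26) (kc xc25 yc52 zc30) (kc xc25 yc24 zc24) (kc xc26 yc20 zc39) (kc xc9 yc31 zc54) (kc xc18 yc47 zc17) (kc xc27 yc22 zc25) (kc xc27 yc22 zc26) (kc xc15 yc55 zc27) (kc xc9 yc31 zc55) (kc xc18 yc44 zc51) (kc xc27 yc22 zc32) (kc xc24 yc28 zc9) (kc xc18 yc46 zc13)) (@D3.rec (fun _ => Pt) (kc xc18 yc44 zc42) (kc xc9 yc31 zc57) (kc xc23 yc4 zc17) (kc xc25 yc26 zc12) (kc xc11 yc12 zc4) (kc xc11 yc12 zc24) (kc xc14 yc26 zc18) (kc xc10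 yc17 zc44) (kc xc27 yc22 zc39) (kc xc25 yc24 zc34) (kc xc27 yc22 zc41) (kc xc27 yc22 zc42) (kc xc14 yc26 zc21) (kc xc9 yc32 zc5) (kc xc13 yc45 zc33) (kc xc9 yc32 zc6) (kc xc27 yc22 zc44) (kc xc15 yc29 zc48) (kc xc9 yc32 zc9) (kc xc21 yc0 zc60) (kc xc10 yc45 zc9) (kc xc27 yc22 zc46) (kc xc11 yc56 zc13) (kc xc9 yc32 zc11) (kc xc27 yc22 zc47) (kc xc17 yc33 zc33) (kc xc9 yc32 zc14) (kc xc27 yc22 zc48) (kc xc11 yc54 zc13) (kc xc18 yc41 zc59) (kc xc12 yc55 zc24) (kc xc9 yc32 zc21) (kc xc15 yc32 zc46) (kc xc9 yc32 zc17) (kc xc27 yc22 zc55) (kc xc25 yc23 zc4) (kc xc9 yc32 zc18) (kc xc20 yc4 zc25) (kc xc19 yc6 zc55) (kc xc9 yc32 zc20) (kc xc25 yc52 zc31) (kc xc25 yc52 zc32) (kc xc15 yc2 zc50) (kc xc20 yc31 zc56) (kc xc9 yc32 zc26) (kc xc9 yc32 zc28) (kc xc16 yc29 zc12) (kc xc12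 yc56 zc56) (kc xc12 yc47 zc39) (kc xc27 yc23 zc0) (kc xc27 yc23 zc2) (kc xc27 yc17 zc2) (kc xc12 yc52 zc14) (kc xc27 yc11 zc31) (kc xc22 yc35 zc40) (kc xc12 yc56 zc44) (kc xc9 yc32 zc42) (kc xc27 yc9 zc10) (kc xc17 yc10 zc21) (kc xc9 yc32 zc45) (kc xc10 yc25 zc25) (kc xc27 yc23 zc7)) (@D3.rec (fun _ => Pt) (kc xc23 yc23 zc29) (kc xc9 yc32 zc54) (kc xc17 yc10 zc30) (kc xc27 yc23 zc11) (kc xc27 yc23 zc12) (kc xc9 yc32 zc55) (kc xc13 yc9 zc57) (kc xc27 yc23 zc15) (kc xc17 yc20 zc5) (kc xc9 yc32 zc57) (kc xc9 yc32 zc59) (kc xc21 yc27 zc25) (kc xc9 yc32 zc60) (kc xc15 yc19 zc4) (kc xc16 yc15 zc35) (kc xc13 yc0 zc15) (kc xc27 yc23 zc20) (kc xc13 yc4 zc23) (kc xc9 yc33 zc3) (kc xc17 yc35 zc24) (kc xc9 yc33 zc4) (kc xc17 yc40 zc1) (kc xc27 yc23 zc23) (kc xc21 yc19 zc23) (kc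 xc17 yc35 zc19) (kc xc21 yc4 zc47) (kc xc21 yc19 zc21) (kc xc27 yc23 zc34) (kc xc9 yc33 zc10) (kc xc27 yc23 zc37) (kc xc12 yc59 zc32) (kc xc21 yc39 zc41) (kc xc9 yc33 zc11) (kc xc15 yc37 zc48) (kc xc27 yc23 zc39) (kc xc15 yc57 zc9) (kc xc11 yc36 zc47) (kc xc25 yc54 zc18) (kc xc14 yc34 zc34) (kc xc9 yc33 zc15) (kc xc14 yc21 zc14) (kc xc20 yc59 zc32) (kc xc15 yc27 zc28) (kc xc9 yc33 zc17) (kc xc19 yc2 zc42) (kc xc16 yc38 zc28) (kc xc10 yc34 zc31) (kc xc25 yc7 zc16) (kc xc25 yc7 zc19) (kc xc9 yc33 zc36) (kc xc27 yc23 zc55) (kc xc18 yc30 zc34) (kc xc10 yc32 zc24) (kc xc27 yc23 zc60) (kc xc26 yc7 zc18) (kc xc16 yc11 zc16) (kc xc16 yc11 zc17) (kc xc27 yc24 zc3) (kc xc9 yc33 zc25) (kc xc25 yc51 zc14) (kc xc9 yc33 zc26) (kc xc25 yc23 zc31)) (@D3.rec (fun _ => Pt) (kc xc25 yc21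 zc9) (kc xc15 yc29 zc0) (kc xc27 yc24 zc7) (kc xc11 yc53 zc33) (kc xc13 yc28 zc24) (kc xc11 yc53 zc28) (kc xc19 yc7 zc47) (kc xc10 yc34 zc34) (kc xc22 yc5 zc28) (kc xc9 yc33 zc34) (kc xc24 yc43 zc1) (kc xc24 yc27 zc1) (kc xc27 yc24 zc17) (kc xc9 yc47 zc20) (kc xc9 yc33 zc35) (kc xc19 yc48 zc26) (kc xc21 yc11 zc9) (kc xc27 yc24 zc29) (kc xc24 yc30 zc46) (kc xc27 yc24 zc31) (kc xc9 yc33 zc37) (kc xc27 yc24 zc34) (kc xc15 yc33 zc35) (kc xc15 yc16 zc15) (kc xc21 yc43 zc6) (kc xc9 yc34 zc10) (kc xc25 yc38 zc37) (kc xc16 yc4 zc41) (kc xc24 yc52 zc26) (kc xc27 yc24 zc40) (kc xc26 yc1 zc20) (kc xc16 yc14 zc23) (kc xc9 yc34 zc13) (kc xc16 yc22 zc50) (kc xc27 yc24 zc44) (kc xc15 yc58 zc30) (kc xc25 yc47 zc18) (kc xc25 yc32 zc61) (kc xc20 yc28 zc60) (kc xc15 yc34 zc49) (kc xc9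 yc34 zc53) (kc xc24 yc43 zc16) (kc xc18 yc3 zc5) (kc xc16 yc6 zc16) (kc xc19 yc5 zc39) (kc xc15 yc9 zc60) (kc xc19 yc5 zc40) (kc xc16 yc14 zc31) (kc xc14 yc56 zc57) (kc xc27 yc25 zc1) (kc xc15 yc37 zc44) (kc xc14 yc56 zc58) (kc xc9 yc33 zc59) (kc xc15 yc6 zc46) (kc xc14 yc57 zc50) (kc xc17 yc41 zc55) (kc xc9 yc33 zc60) (kc xc17 yc37 zc44) (kc xc27 yc25 zc8) (kc xc27 yc25 zc9) (kc xc18 yc18 zc14) (kc xc9 yc33 zc61)) (@D3.rec (fun _ => Pt) (kc xc27 yc25 zc14) (kc xc25 yc1 zc26) (kc xc27 yc25 zc16) (kc xc27 yc25 zc18) (kc xc27 yc25 zc20) (kc xc9 yc34 zc1) (kc xc9 yc36 zc21) (kc xc26 yc12 zc5) (kc xc26 yc12 zc6) (kc xc17 yc41 zc32) (kc xc21 yc58 zc51) (kc xc26 yc11 zc17) (kc xc9 yc34 zc29) (kc xc9 yc34 zc31) (kc xc14 yc10 zc59) (kc xc12 yc1 zc1) (kc xc15 yc58 zc53) (kc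 xc27 yc25 zc31) (kc xc21 yc26 zc57) (kc xc12 yc19 zc30) (kc xc16 yc20 zc32) (kc xc27 yc25 zc33) (kc xc27 yc25 zc35) (kc xc15 yc23 zc28) (kc xc27 yc25 zc37) (kc xc15 yc23 zc23) (kc xc16 yc8 zc3) (kc xc16 yc3 zc44) (kc xc15 yc18 zc61) (kc xc24 yc54 zc50) (kc xc9 yc34 zc18) (kc xc9 yc34 zc19) (kc xc27 yc25 zc41) (kc xc26 yc0 zc32) (kc xc10 yc38 zc38) (kc xc18 yc27 zc32) (kc xc10 yc38 zc27) (kc xc17 yc39 zc16) (kc xc10 yc37 zc34) (kc xc21 yc27 zc42) (kc xc21 yc44 zc48) (kc xc15 yc49 zc37) (kc xc27 yc25 zc47) (kc xc15 yc49 zc39) (kc xc17 yc36 zc57) (kc xc27 yc25 zc52) (kc xc15 yc33 zc37) (kc xc9 yc34 zc27) (kc xc9 yc35 zc58) (kc xc25 yc7 zc50) (kc xc26 yc16 zc61) (kc xc9 yc34 zc28) (kc xc25 yc32 zc42) (kc xc27 yc25 zc56) (kc xc25 yc32 zc59) (kc xc27 yc25 zc26) (kc xc9 yc36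 zc17) (kc xc25 yc28 zc51) (kc xc9 yc34 zc30) (kc xc27 yc26 zc7) (kc xc27 yc26 zc11) (kc xc27 yc26 zc12)) (@D3.rec (fun _ => Pt) (kc xc27 yc26 zc15) (kc xc25 yc56 zc10) (kc xc27 yc24 zc42) (kc xc14 yc57 zc2) (kc xc14 yc57 zc1) (kc xc27 yc24 zc50) (kc xc15 yc9 zc54) (kc xc17 yc40 zc51) (kc xc14 yc44 zc40) (kc xc21 yc30 zc53) (kc xc15 yc34 zc53) (kc xc15 yc14 zc3) (kc xc23 yc32 zc45) (kc xc9 yc34 zc36) (kc xc16 yc22 zc47) (kc xc16 yc19 zc17) (kc xc9 yc34 zc39) (kc xc10 yc29 zc18) (kc xc18 yc56 zc54) (kc xc18 yc54 zc22) (kc xc21 yc7 zc10) (kc xc18 yc3 zc46) (kc xc27 yc26 zc29) (kc xc17 yc39 zc20) (kc xc9 yc34 zc57) (kc xc15 yc1 zc39) (kc xc27 yc26 zc31) (kc xc16 yc3 zc4) (kc xc27 yc26 zc33) (kc xc27 yc26 zc36) (kc xc15 yc33 zc38) (kc xc15 yc33 zc40) (kc xc22 yc31 zc10)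 (kc xc16 yc13 zc39) (kc xc9 yc34 zc55) (kc xc25 yc0 zc27) (kc xc21 yc49 zc8) (kc xc12 yc17 zc26) (kc xc27 yc26 zc42) (kc xc14 yc46 zc24) (kc xc18 yc27 zc36) (kc xc18 yc27 zc34) (kc xc9 yc34 zc58) (kc xc27 yc25 zc21) (kc xc13 yc52 zc60) (kc xc13 yc52 zc47) (kc xc26 yc12 zc23) (kc xc14 yc46 zc25) (kc xc27 yc24 zc41) (kc xc17 yc41 zc14) (kc xc24 yc41 zc40) (kc xc15 yc42 zc16) (kc xc27 yc26 zc55) (kc xc22 yc31 zc8) (kc xc9 yc35 zc1) (kc xc24 yc43 zc15) (kc xc16 yc5 zc6) (kc xc16 yc0 zc2) (kc xc23 yc34 zc48) (kc xc23 yc34 zc49) (kc xc15 yc43 zc21) (kc xc15 yc43 zc23)) (@D3.rec (fun _ => Pt) (kc xc26 yc16 zc43) (kc xc15 yc33 zc59) (kc xc9 yc35 zc8) (kc xc15 yc52 zc45) (kc xc24 yc45 zc16) (kc xc9 yc35 zc9) (kc xc25 yc29 zc42) (kc xc25 yc53 zc59) (kc xc15 yc37 zc42) (kc xc17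 yc40 zc21) (kc xc9 yc35 zc11) (kc xc26 yc3 zc41) (kc xc27 yc18 zc12) (kc xc21 yc50 zc5) (kc xc17 yc21 zc43) (kc xc27 yc27 zc8) (kc xc17 yc37 zc37) (kc xc27 yc27 zc13) (kc xc10 yc8 zc4) (kc xc25 yc0 zc29) (kc xc17 yc38 zc23) (kc xc17 yc40 zc31) (kc xc27 yc27 zc18) (kc xc12 yc18 zc14) (kc xc27 yc27 zc20) (kc xc15 yc17 zc52) (kc xc26 yc5 zc9) (kc xc9 yc35 zc18) (kc xc27 yc27 zc24) (kc xc17 yc43 zc23) (kc xc24 yc41 zc56) (kc xc9 yc35 zc21) (kc xc24 yc41 zc55) (kc xc9 yc35 zc23) (kc xc16 yc5 zc31) (kc xc19 yc5 zc46) (kc xc27 yc25 zc12) (kc xc9 yc35 zc34) (kc xc9 yc35 zc36) (kc xc27 yc27 zc27) (kc xc16 yc6 zc28) (kc xc10 yc1 zc60) (kc xc9 yc35 zc30) (kc xc11 yc6 zc12) (kc xc16 yc13 zc44) (kc xc9 yc35 zc32) (kc xc14 yc2 zc46) (kc xc25 yc41 zc15) (kc xc17 yc40 zc29) (kc xc17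 yc39 zc55) (kc xc9 yc35 zc35) (kc xc27 yc27 zc30) (kc xc18 yc14 zc53) (kc xc27 yc24 zc59) (kc xc15 yc14 zc43) (kc xc17 yc39 zc49) (kc xc16 yc14 zc32) (kc xc15 yc46 zc11) (kc xc17 yc43 zc36) (kc xc11 yc6 zc16) (kc xc9 yc35 zc46) (kc xc27 yc27 zc36)) (@D3.rec (fun _ => Pt) (kc xc24 yc7 zc31) (kc xc17 yc35 zc21) (kc xc9 yc35 zc47) (kc xc27 yc27 zc39) (kc xc27 yc27 zc41) (kc xc22 yc15 zc14) (kc xc27 yc27 zc45) (kc xc9 yc35 zc49) (kc xc27 yc27 zc47) (kc xc27 yc10 zc20) (kc xc18 yc43 zc52) (kc xc26 yc4 zc32) (kc xc15 yc48 zc57) (kc xc25 yc15 zc17) (kc xc9 yc35 zc53) (kc xc21 yc22 zc1) (kc xc19 yc5 zc38) (kc xc17 yc40 zc54) (kc xc25 yc34 zc32) (kc xc27 yc27 zc55) (kc xc18 yc1 zc43) (kc xc17 yc39 zc9) (kc xc25 yc27 zc40) (kc xc27 yc27 zc61) (kc xc16 yc6 zc55) (kc xc21 yc39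 zc23) (kc xc21 yc39 zc24) (kc xc17 yc44 zc26) (kc xc25 yc27 zc46) (kc xc17 yc39 zc48) (kc xc15 yc11 zc50) (kc xc17 yc39 zc21) (kc xc24 yc56 zc5) (kc xc9 yc37 zc10) (kc xc26 yc2 zc10) (kc xc11 yc52 zc6) (kc xc27 yc28 zc7) (kc xc16 yc50 zc46) (kc xc11 yc52 zc7) (kc xc27 yc28 zc10) (kc xc9 yc36 zc3) (kc xc27 yc28 zc15) (kc xc25 yc55 zc38) (kc xc25 yc43 zc40) (kc xc25 yc32 zc43) (kc xc9 yc36 zc7) (kc xc27 yc26 zc40) (kc xc17 yc41 zc1) (kc xc17 yc41 zc2) (kc xc9 yc36 zc8) (kc xc25 yc43 zc3) (kc xc17 yc38 zc7) (kc xc9 yc36 zc9) (kc xc27 yc28 zc23) (kc xc17 yc40 zc17) (kc xc9 yc36 zc10) (kc xc25 yc58 zc53) (kc xc22 yc27 zc57) (kc xc22 yc8 zc13) (kc xc9 yc36 zc19) (kc xc9 yc38 zc21) (kc xc9 yc36 zc12)) (@D3.rec (fun _ => Pt) (kc xc9 yc36 zc13) (kc xc17 yc40 zc47) (kc xc17 yc40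 zc48) (kc xc27 yc26 zc47) (kc xc17 yc41 zc26) (kc xc12 yc19 zc61) (kc xc13 yc52 zc23) (kc xc18 yc38 zc43) (kc xc27 yc28 zc37) (kc xc9 yc36 zc15) (kc xc27 yc28 zc40) (kc xc17 yc41 zc15) (kc xc17 yc41 zc16) (kc xc15 yc10 zc39) (kc xc17 yc38 zc49) (kc xc17 yc41 zc11) (kc xc17 yc41 zc12) (kc xc16 yc2 zc59) (kc xc27 yc28 zc49) (kc xc27 yc26 zc17) (kc xc27 yc26 zc46) (kc xc27 yc24 zc39) (kc xc16 yc14 zc48) (kc xc16 yc14 zc49) (kc xc18 yc32 zc59) (kc xc9 yc36 zc23) (kc xc17 yc41 zc4) (kc xc26 yc19 zc20) (kc xc27 yc29 zc0) (kc xc9 yc36 zc22) (kc xc26 yc19 zc16) (kc xc24 yc59 zc8) (kc xc17 yc37 zc9) (kc xc24 yc44 zc35) (kc xc24 yc44 zc36) (kc xc26 yc19 zc45) (kc xc26 yc16 zc42) (kc xc26 yc16 zc41) (kc xc9 yc36 zc25) (kc xc25 yc6 zc10) (kc xc15 yc41 zc13) (kc xc15 yc41 zc11)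 (kc xc10 yc28 zc10) (kc xc9 yc36 zc29) (kc xc9 yc36 zc28) (kc xc25 yc37 zc48) (kc xc24 yc32 zc23) (kc xc24 yc32 zc35) (kc xc10 yc28 zc9) (kc xc9 yc36 zc33) (kc xc9 yc36 zc32) (kc xc27 yc29 zc14) (kc xc9 yc36 zc36) (kc xc27 yc29 zc16) (kc xc9 yc36 zc37) (kc xc17 yc36 zc55) (kc xc16 yc14 zc33) (kc xc16 yc14 zc46) (kc xc13 yc53 zc9) (kc xc13 yc53 zc6) (kc xc27 yc29 zc19) (kc xc17 yc55 zc56)) (@D3.rec (fun _ => Pt) (kc xc27 yc29 zc22) (kc xc25 yc42 zc15) (kc xc12 yc50 zc22) (kc xc27 yc29 zc25) (kc xc14 yc51 zc12) (kc xc19 yc32 zc3) (kc xc27 yc29 zc27) (kc xc9 yc36 zc45) (kc xc19 yc19 zc11) (kc xc15 yc57 zc6) (kc xc22 yc10 zc23) (kc xc10 yc49 zc58) (kc xc9 yc36 zc48) (kc xc19 yc34 zc58) (kc xc25 yc24 zc32) (kc xc25 yc26 zc10) (kc xc9 yc36 zc53) (kc xc9 yc36 zc52) (kc xc9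 yc36 zc54) (kc xc26 yc1 zc40) (kc xc20 yc14 zc27) (kc xc18 yc25 zc22) (kc xc18 yc51 zc11) (kc xc15 yc19 zc14) (kc xc27 yc29 zc35) (kc xc26 yc3 zc11) (kc xc26 yc3 zc5) (kc xc15 yc41 zc28) (kc xc14 yc55 zc57) (kc xc16 yc36 zc32) (kc xc16 yc36 zc33) (kc xc16 yc17 zc0) (kc xc15 yc38 zc38) (kc xc24 yc41 zc31) (kc xc27 yc29 zc44) (kc xc9 yc37 zc4) (kc xc25 yc40 zc14) (kc xc25 yc42 zc16) (kc xc26 yc4 zc21) (kc xc9 yc37 zc7) (kc xc16 yc0 zc33) (kc xc26 yc4 zc22) (kc xc27 yc29 zc52) (kc xc16 yc6 zc50) (kc xc27 yc28 zc21) (kc xc16 yc6 zc49) (kc xc15 yc33 zc58) (kc xc25 yc34 zc30) (kc xc27 yc27 zc42) (kc xc25 yc35 zc34) (kc xc27 yc28 zc0) (kc xc9 yc37 zc15) (kc xc25 yc35 zc54) (kc xc27 yc27 zc43) (kc xc12 yc49 zc57) (kc xc25 yc55 zc4) (kc xc24 yc56 zc3) (kc xc27 yc29 zc58) (kc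 xc9 yc37 zc20) (kc xc26 yc11 zc36) (kc xc9 yc37 zc22) (kc xc27 yc28 zc28)) (@D3.rec (fun _ => Pt) (kc xc12 yc19 zc25) (kc xc12 yc19 zc27) (kc xc18 yc21 zc41) (kc xc9 yc37 zc26) (kc xc9 yc37 zc27) (kc xc9 yc37 zc28) (kc xc9 yc37 zc32) (kc xc27 yc30 zc7) (kc xc26 yc42 zc0) (kc xc9 yc37 zc33) (kc xc27 yc30 zc12) (kc xc25 yc37 zc31) (kc xc27 yc30 zc17) (kc xc27 yc30 zc19) (kc xc25 yc37 zc35) (kc xc23 yc5 zc33) (kc xc17 yc56 zc61) (kc xc20 yc25 zc40) (kc xc11 yc4 zc5) (kc xc27 yc30 zc22) (kc xc15 yc44 zc33) (kc xc25 yc5 zc54) (kc xc15 yc38 zc17) (kc xc17 yc39 zc29) (kc xc9 yc37 zc47) (kc xc26 yc14 zc32) (kc xc9 yc37 zc50) (kc xc9 yc37 zc49) (kc xc10 yc51 zc40) (kc xc18 yc8 zc11) (kc xc15 yc45 zc3) (kc xc20 yc54 zc49) (kc xc25 yc18 zc58) (kc xc27 yc30 zc27) (kc xc15 yc46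 zc2) (kc xc15 yc50 zc36) (kc xc17 yc39 zc58) (kc xc25 yc16 zc29) (kc xc9 yc37 zc61) (kc xc27 yc30 zc29) (kc xc21 yc45 zc48) (kc xc26 yc15 zc45) (kc xc9 yc38 zc0) (kc xc26 yc19 zc31) (kc xc9 yc38 zc1) (kc xc26 yc49 zc51) (kc xc12 yc50 zc47) (kc xc16 yc17 zc26) (kc xc17 yc11 zc18) (kc xc23 yc19 zc4) (kc xc22 yc10 zc8) (kc xc22 yc10 zc7) (kc xc25 yc33 zc2) (kc xc12 yc26 zc54) (kc xc18 yc7 zc2) (kc xc14 yc58 zc40) (kc xc24 yc54 zc57) (kc xc9 yc38 zc6) (kc xc27 yc30 zc43) (kc xc20 yc54 zc38) (kc xc27 yc30 zc46) (kc xc24 yc45 zc18)) (@D3.rec (fun _ => Pt) (kc xc27 yc30 zc49) (kc xc25 yc58 zc6) (kc xc10 yc40 zc34) (kc xc17 yc28 zc10) (kc xc9 yc38 zc11) (kc xc21 yc17 zc17) (kc xc21 yc17 zc18) (kc xc23 yc2 zc14) (kc xc25 yc53 zc47) (kc xc25 yc2 zc1) (kc xc14 yc58 zc37) (kc xc15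 yc10 zc20) (kc xc24 yc45 zc19) (kc xc10 yc32 zc47) (kc xc21 yc18 zc58) (kc xc27 yc30 zc60) (kc xc9 yc38 zc17) (kc xc27 yc31 zc1) (kc xc21 yc34 zc10) (kc xc25 yc32 zc55) (kc xc17 yc50 zc16) (kc xc9 yc38 zc20) (kc xc27 yc27 zc1) (kc xc17 yc45 zc20) (kc xc16 yc22 zc10) (kc xc9 yc38 zc22) (kc xc17 yc40 zc27) (kc xc17 yc50 zc20) (kc xc9 yc38 zc23) (kc xc27 yc31 zc11) (kc xc23 yc36 zc37) (kc xc24 yc44 zc8) (kc xc9 yc38 zc25) (kc xc17 yc45 zc18) (kc xc24 yc56 zc17) (kc xc9 yc38 zc26) (kc xc27 yc31 zc16) (kc xc14 yc59 zc7) (kc xc19 yc4 zc61) (kc xc19 yc19 zc36) (kc xc27 yc31 zc21) (kc xc14 yc59 zc2) (kc xc27 yc31 zc24) (kc xc16 yc23 zc26) (kc xc22 yc18 zc53) (kc xc27 yc31 zc27) (kc xc14 yc53 zc33) (kc xc21 yc54 zc42) (kc xc17 yc47 zc39) (kc xc14 yc58 zc6) (kc xc14 yc58 zc8)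 (kc xc27 yc31 zc30) (kc xc27 yc31 zc32) (kc xc9 yc38 zc35) (kc xc25 yc54 zc60) (kc xc16 yc2 zc22) (kc xc9 yc38 zc37) (kc xc26 yc0 zc22) (kc xc25 yc37 zc1) (kc xc9 yc38 zc40) (kc xc21 yc44 zc4) (kc xc20 yc38 zc22)) (@D3.rec (fun _ => Pt) (kc xc25 yc40 zc61) (kc xc20 yc51 zc39) (kc xc26 yc39 zc10) (kc xc10 yc37 zc42) (kc xc26 yc2 zc11) (kc xc9 yc38 zc51) (kc xc25 yc53 zc40) (kc xc9 yc38 zc55) (kc xc9 yc38 zc54) (kc xc27 yc31 zc36) (kc xc9 yc38 zc57) (kc xc27 yc31 zc37) (kc xc27 yc31 zc38) (kc xc27 yc31 zc39) (kc xc23 yc35 zc26) (kc xc13 yc0 zc6) (kc xc9 yc39 zc1) (kc xc12 yc20 zc55) (kc xc17 yc44 zc33) (kc xc12 yc20 zc54) (kc xc17 yc44 zc23) (kc xc19 yc15 zc10) (kc xc17 yc21 zc44) (kc xc27 yc31 zc46) (kc xc27 yc31 zc47) (kc xc9 yc39 zc9) (kc xc27 yc31 zc49) (kc xc20 yc26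 zc16) (kc xc25 yc29 zc18) (kc xc27 yc28 zc20) (kc xc9 yc39 zc13) (kc xc27 yc31 zc55) (kc xc27 yc28 zc19) (kc xc11 yc8 zc23) (kc xc10 yc39 zc37) (kc xc10 yc22 zc12) (kc xc10 yc22 zc13) (kc xc16 yc35 zc10) (kc xc16 yc35 zc40) (kc xc16 yc35 zc17) (kc xc27 yc31 zc60) (kc xc27 yc31 zc61) (kc xc22 yc3 zc8) (kc xc15 yc50 zc40) (kc xc9 yc39 zc30) (kc xc10 yc28 zc21) (kc xc18 yc58 zc54) (kc xc10 yc30 zc0) (kc xc27 yc32 zc2) (kc xc15 yc32 zc14) (kc xc17 yc47 zc57) (kc xc27 yc32 zc4) (kc xc27 yc32 zc6) (kc xc18 yc30 zc38) (kc xc27 yc32 zc11) (kc xc18 yc30 zc40) (kc xc10 yc3 zc23) (kc xc10 yc15 zc1) (kc xc10 yc28 zc5) (kc xc10 yc12 zc45) (kc xc9 yc39 zc38) (kc xc27 yc32 zc19)) (@D3.rec (fun _ => Pt) (kc xc27 yc32 zc21) (kc xc18 yc33 zc59) (kc xc27 yc32 zc25) (kc xc18 yc33 zc61)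 (kc xc10 yc22 zc26) (kc xc10 yc26 zc32) (kc xc10 yc28 zc7) (kc xc27 yc32 zc39) (kc xc9 yc39 zc44) (kc xc9 yc39 zc42) (kc xc12 yc37 zc40) (kc xc9 yc39 zc43) (kc xc27 yc32 zc45) (kc xc27 yc32 zc47) (kc xc18 yc55 zc7) (kc xc18 yc51 zc44) (kc xc27 yc32 zc55) (kc xc17 yc22 zc3) (kc xc10 yc30 zc5) (kc xc12 yc33 zc11) (kc xc10 yc27 zc61) (kc xc25 yc2 zc59) (kc xc25 yc0 zc32) (kc xc15 yc11 zc61) (kc xc15 yc12 zc1) (kc xc27 yc33 zc6) (kc xc10 yc28 zc1) (kc xc12 yc6 zc31) (kc xc12 yc8 zc6) (kc xc9 yc39 zc51) (kc xc22 yc29 zc21) (kc xc21 yc13 zc16) (kc xc27 yc33 zc13) (kc xc9 yc39 zc52) (kc xc15 yc12 zc44) (kc xc21 yc12 zc56) (kc xc9 yc39 zc54) (kc xc18 yc6 zc22) (kc xc15 yc5 zc49) (kc xc27 yc33 zc21) (kc xc10 yc28 zc61) (kc xc10 yc29 zc1) (kc xc10 yc8 zc39) (kc xc9 yc39 zc59)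 (kc xc24 yc54 zc6) (kc xc15 yc7 zc43) (kc xc10 yc22 zc6) (kc xc10 yc28 zc2) (kc xc27 yc33 zc35) (kc xc9 yc40 zc0) (kc xc27 yc33 zc39) (kc xc27 yc33 zc38) (kc xc15 yc50 zc52) (kc xc9 yc40 zc2) (kc xc16 yc40 zc0) (kc xc10 yc29 zc49) (kc xc10 yc28 zc59) (kc xc26 yc30 zc54) (kc xc27 yc33 zc43) (kc xc15 yc0 zc43) (kc xc10 yc29 zc10) (kc xc27 yc33 zc46)) (@D3.rec (fun _ => Pt) (kc xc27 yc33 zc48) (kc xc18 yc11 zc23) (kc xc27 yc33 zc52) (kc xc18 yc11 zc25) (kc xc10 yc14 zc58) (kc xc10 yc3 zc27) (kc xc27 yc34 zc1) (kc xc9 yc40 zc11) (kc xc9 yc40 zc10) (kc xc27 yc34 zc3) (kc xc27 yc34 zc4) (kc xc18 yc14 zc20) (kc xc27 yc34 zc7) (kc xc18 yc14 zc22) (kc xc10 yc26 zc27) (kc xc10 yc22 zc31) (kc xc10 yc28 zc0) (kc xc18 yc14 zc44) (kc xc9 yc40 zc17) (kc xc9 yc40 zc15) (kc xc27 yc34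 zc20) (kc xc9 yc40 zc16) (kc xc18 yc36 zc54) (kc xc10 yc8 zc52) (kc xc12 yc7 zc12) (kc xc10 yc8 zc53) (kc xc10 yc28 zc57) (kc xc14 yc32 zc59) (kc xc10 yc28 zc8) (kc xc27 yc34 zc31) (kc xc27 yc34 zc33) (kc xc10 yc25 zc33) (kc xc27 yc34 zc38) (kc xc10 yc25 zc35) (kc xc10 yc28 zc49) (kc xc27 yc34 zc44) (kc xc10 yc25 zc30) (kc xc18 yc46 zc38) (kc xc10 yc21 zc40) (kc xc17 yc44 zc48) (kc xc9 yc40 zc24) (kc xc18 yc32 zc0) (kc xc27 yc34 zc49) (kc xc21 yc9 zc21) (kc xc9 yc59 zc59) (kc xc9 yc40 zc25) (kc xc18 yc41 zc39) (kc xc10 yc42 zc23) (kc xc9 yc59 zc35) (kc xc18 yc46 zc39) (kc xc10 yc29 zc5) (kc xc24 yc48 zc9) (kc xc10 yc29 zc3) (kc xc9 yc40 zc32) (kc xc16 yc35 zc19) (kc xc16 yc35 zc22) (kc xc18 yc36 zc28) (kc xc17 yc45 zc50) (kc xc10 yc28 zc13) (kc xc10 yc26 zc22) (kc xc27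 yc35 zc18) (kc xc9 yc40 zc35)) (@D3.rec (fun _ => Pt) (kc xc27 yc35 zc22) (kc xc27 yc35 zc21) (kc xc19 yc30 zc27) (kc xc16 yc44 zc26) (kc xc13 yc45 zc52) (kc xc17 yc54 zc3) (kc xc10 yc32 zc20) (kc xc26 yc53 zc40) (kc xc27 yc35 zc28) (kc xc16 yc37 zc49) (kc xc16 yc42 zc24) (kc xc27 yc35 zc32) (kc xc16 yc37 zc4) (kc xc10 yc32 zc18) (kc xc19 yc41 zc24) (kc xc15 yc51 zc36) (kc xc16 yc17 zc13) (kc xc13 yc46 zc0) (kc xc10 yc32 zc3) (kc xc9 yc40 zc46) (kc xc19 yc17 zc14) (kc xc10 yc31 zc60) (kc xc10 yc31 zc42) (kc xc26 yc55 zc16) (kc xc9 yc40 zc50) (kc xc9 yc40 zc49) (kc xc24 yc32 zc58) (kc xc24 yc32 zc59) (kc xc18 yc2 zc46) (kc xc27 yc35 zc41) (kc xc18 yc2 zc48) (kc xc15 yc8 zc55) (kc xc19 yc42 zc39) (kc xc27 yc35 zc43) (kc xc9 yc40 zc54) (kc xc26 yc45 zc43) (kc xc27 yc35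 zc46) (kc xc25 yc47 zc58) (kc xc9 yc40 zc55) (kc xc27 yc35 zc49) (kc xc10 yc42 zc12) (kc xc10 yc38 zc6) (kc xc9 yc40 zc57) (kc xc27 yc35 zc52) (kc xc24 yc49 zc2) (kc xc27 yc35 zc53) (kc xc20 yc56 zc36) (kc xc11 yc53 zc6) (kc xc18 yc33 zc50) (kc xc18 yc32 zc29) (kc xc9 yc41 zc27) (kc xc9 yc41 zc29) (kc xc27 yc35 zc58) (kc xc16 yc38 zc16) (kc xc10 yc35 zc52) (kc xc19 yc3 zc32) (kc xc27 yc35 zc59) (kc xc19 yc35 zc10) (kc xc25 yc26 zc53) (kc xc17 yc59 zc0) (kc xc27 yc36 zc3) (kc xc11 yc53 zc35)) (@D3.rec (fun _ => Pt) (kc xc20 yc55 zc23) (kc xc27 yc36 zc5) (kc xc27 yc36 zc6) (kc xc19 yc32 zc51) (kc xc27 yc36 zc8) (kc xc24 yc49 zc18) (kc xc10 yc36 zc1) (kc xc10 yc35 zc24) (kc xc10 yc35 zc25) (kc xc17 yc12 zc60) (kc xc9 yc41 zc18) (kc xc9 yc41 zc17) (kc xc27 yc36 zc14) (kc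 xc26 yc41 zc52) (kc xc10 yc50 zc52) (kc xc18 yc12 zc13) (kc xc10 yc50 zc54) (kc xc10 yc39 zc20) (kc xc27 yc36 zc27) (kc xc10 yc35 zc0) (kc xc20 yc4 zc20) (kc xc15 yc54 zc18) (kc xc10 yc31 zc15) (kc xc9 yc41 zc25) (kc xc21 yc12 zc40) (kc xc25 yc8 zc13) (kc xc27 yc36 zc33) (kc xc9 yc41 zc26) (kc xc18 yc12 zc3) (kc xc27 yc36 zc36) (kc xc27 yc36 zc39) (kc xc27 yc35 zc56) (kc xc20 yc21 zc10) (kc xc27 yc36 zc42) (kc xc9 yc41 zc28) (kc xc27 yc36 zc47) (kc xc20 yc39 zc7) (kc xc20 yc39 zc6) (kc xc27 yc36 zc49) (kc xc16 yc42 zc20) (kc xc27 yc36 zc51) (kc xc15 yc50 zc1) (kc xc19 yc4 zc10) (kc xc19 yc4 zc11) (kc xc24 yc49 zc16) (kc xc10 yc42 zc14) (kc xc19 yc31 zc21) (kc xc27 yc36 zc53) (kc xc15 yc53 zc18) (kc xc27 yc36 zc54) (kc xc10 yc35 zc12) (kc xc27 yc36 zc55) (kc xc27 yc36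 zc57) (kc xc9 yc41 zc34) (kc xc26 yc53 zc39) (kc xc9 yc41 zc37) (kc xc27 yc36 zc60) (kc xc10 yc35 zc13) (kc xc10 yc35 zc14) (kc xc10 yc34 zc28) (kc xc27 yc37 zc6) (kc xc9 yc41 zc39)) (@D3.rec (fun _ => Pt) (kc xc19 yc27 zc6) (kc xc19 yc7 zc52) (kc xc10 yc34 zc26) (kc xc20 yc55 zc19) (kc xc21 yc47 zc33) (kc xc19 yc10 zc34) (kc xc9 yc41 zc55) (kc xc26 yc15 zc3) (kc xc16 yc44 zc40) (kc xc27 yc37 zc16) (kc xc25 yc37 zc28) (kc xc19 yc42 zc17) (kc xc24 yc48 zc38) (kc xc25 yc33 zc41) (kc xc19 yc10 zc47) (kc xc9 yc41 zc53) (kc xc17 yc44 zc20) (kc xc27 yc37 zc26) (kc xc17 yc54 zc4) (kc xc14 yc32 zc30) (kc xc17 yc44 zc27) (kc xc27 yc37 zc28) (kc xc13 yc9 zc12) (kc xc18 yc0 zc6) (kc xc18 yc49 zc54) (kc xc19 yc3 zc48) (kc xc10 yc42 zc8) (kc xc11 yc9 zc17) (kc xc20 yc22 zc48) (kc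 xc16 yc8 zc25) (kc xc10 yc51 zc50) (kc xc21 yc36 zc48) (kc xc20 yc51 zc38) (kc xc24 yc50 zc28) (kc xc17 yc5 zc13) (kc xc15 yc15 zc18) (kc xc19 yc0 zc32) (kc xc16 yc39 zc50) (kc xc27 yc37 zc34) (kc xc26 yc44 zc17) (kc xc10 yc49 zc57) (kc xc10 yc31 zc45) (kc xc9 yc42 zc8) (kc xc22 yc4 zc16) (kc xc27 yc37 zc41) (kc xc9 yc42 zc9) (kc xc27 yc37 zc43) (kc xc18 yc31 zc21) (kc xc18 yc33 zc11) (kc xc9 yc42 zc11) (kc xc18 yc33 zc3) (kc xc10 yc36 zc10) (kc xc27 yc37 zc46) (kc xc10 yc36 zc19) (kc xc13 yc19 zc45) (kc xc13 yc19 zc43) (kc xc10 yc41 zc8) (kc xc25 yc4 zc28) (kc xc27 yc37 zc53) (kc xc19 yc35 zc51) (kc xc19 yc32 zc61) (kc xc15 yc33 zc24)) (@D3.rec (fun _ => Pt) (kc xc27 yc37 zc55) (kc xc9 yc42 zc19) (kc xc9 yc42 zc22) (kc xc9 yc42 zc21) (kc xc10 yc38 zc57) (kc xc18 yc19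 zc52) (kc xc25 yc27 zc28) (kc xc27 yc35 zc47) (kc xc19 yc17 zc4) (kc xc9 yc42 zc32) (kc xc19 yc39 zc34) (kc xc9 yc42 zc34) (kc xc15 yc47 zc8) (kc xc15 yc40 zc33) (kc xc12 yc33 zc49) (kc xc17 yc51 zc50) (kc xc9 yc42 zc30) (kc xc16 yc17 zc14) (kc xc23 yc12 zc11) (kc xc25 yc43 zc9) (kc xc24 yc39 zc12) (kc xc27 yc38 zc3) (kc xc23 yc12 zc14) (kc xc18 yc46 zc12) (kc xc10 yc40 zc45) (kc xc19 yc15 zc6) (kc xc10 yc56 zc49) (kc xc18 yc14 zc6) (kc xc21 yc41 zc6) (kc xc20 yc53 zc44) (kc xc9 yc42 zc38) (kc xc27 yc1 zc32) (kc xc24 yc51 zc12) (kc xc12 yc43 zc40) (kc xc9 yc42 zc43) (kc xc27 yc38 zc11) (kc xc11 yc52 zc46) (kc xc10 yc43 zc10) (kc xc18 yc52 zc26) (kc xc27 yc38 zc19) (kc xc9 yc42 zc45) (kc xc9 yc42 zc46) (kc xc26 yc16 zc26) (kc xc27 yc38 zc22) (kc xc25 yc10 zc27) (kc xc9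 yc42 zc47) (kc xc24 yc45 zc37) (kc xc9 yc42 zc48) (kc xc27 yc38 zc25) (kc xc24 yc22 zc37) (kc xc17 yc51 zc15) (kc xc25 yc2 zc55) (kc xc9 yc42 zc51) (kc xc27 yc38 zc28) (kc xc27 yc38 zc30) (kc xc9 yc42 zc50) (kc xc14 yc39 zc6) (kc xc23 yc13 zc28) (kc xc24 yc22 zc35) (kc xc10 yc41 zc5) (kc xc27 yc38 zc37) (kc xc10 yc39 zc61)) (@D3.rec (fun _ => Pt) (kc xc9 yc42 zc54) (kc xc27 yc38 zc40) (kc xc15 yc51 zc35) (kc xc19 yc19 zc33) (kc xc19 yc19 zc30) (kc xc13 yc30 zc61) (kc xc13 yc30 zc9) (kc xc27 yc38 zc7) (kc xc27 yc38 zc8) (kc xc9 yc43 zc0) (kc xc23 yc47 zc18) (kc xc25 yc4 zc17) (kc xc10 yc23 zc29) (kc xc19 yc34 zc49) (kc xc25 yc10 zc17) (kc xc9 yc44 zc20) (kc xc27 yc38 zc43) (kc xc27 yc38 zc45) (kc xc27 yc38 zc46) (kc xc9 yc43 zc11) (kc xc25 yc35 zc7) (kc xc22 yc51 zc57)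 (kc xc25 yc47 zc26) (kc xc18 yc8 zc47) (kc xc18 yc51 zc46) (kc xc12 yc30 zc11) (kc xc9 yc43 zc18) (kc xc27 yc38 zc50) (kc xc25 yc46 zc8) (kc xc24 yc20 zc7) (kc xc18 yc58 zc24) (kc xc19 yc5 zc35) (kc xc19 yc5 zc34) (kc xc26 yc34 zc10) (kc xc20 yc58 zc50) (kc xc20 yc58 zc48) (kc xc27 yc19 zc50) (kc xc9 yc43 zc25) (kc xc22 yc10 zc31) (kc xc9 yc43 zc24) (kc xc19 yc28 zc61) (kc xc24 yc15 zc54) (kc xc21 yc56 zc29) (kc xc9 yc43 zc28) (kc xc19 yc5 zc14) (kc xc19 yc41 zc3) (kc xc16 yc4 zc0) (kc xc19 yc4 zc33) (kc xc19 yc6 zc3) (kc xc9 yc43 zc33) (kc xc9 yc43 zc39) (kc xc16 yc3 zc59) (kc xc27 yc38 zc60) (kc xc9 yc43 zc36) (kc xc27 yc38 zc61) (kc xc27 yc37 zc58) (kc xc16 yc19 zc9) (kc xc17 yc33 zc13) (kc xc26 yc44 zc58) (kc xc25 yc46 zc55) (kc xc10 yc45 zc57) (kc xc10 yc45 zc59))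 (@D3.rec (fun _ => Pt) (kc xc27 yc39 zc4) (kc xc27 yc39 zc5) (kc xc27 yc39 zc7) (kc xc21 yc54 zc38) (kc xc24 yc43 zc57) (kc xc24 yc51 zc2) (kc xc26 yc28 zc20) (kc xc10 yc39 zc49) (kc xc26 yc44 zc56) (kc xc17 yc15 zc17) (kc xc19 yc38 zc13) (kc xc19 yc44 zc38) (kc xc16 yc25 zc48) (kc xc9 yc43 zc55) (kc xc16 yc40 zc21) (kc xc12 yc22 zc33) (kc xc26 yc21 zc51) (kc xc19 yc49 zc53) (kc xc19 yc49 zc10) (kc xc11 yc0 zc14) (kc xc9 yc44 zc3) (kc xc21 yc9 zc11) (kc xc11 yc0 zc6) (kc xc11 yc0 zc7) (kc xc21 yc53 zc35) (kc xc19 yc18 zc15) (kc xc16 yc47 zc44) (kc xc10 yc31 zc44) (kc xc19 yc19 zc29) (kc xc19 yc20 zc44) (kc xc15 yc8 zc17) (kc xc19 yc49 zc11) (kc xc9 yc44 zc18) (kc xc14 yc0 zc47) (kc xc9 yc44 zc17) (kc xc10 yc59 zc18) (kc xc9 yc44 zc16) (kc xc10 yc59 zc8) (kc xc10 yc59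 zc9) (kc xc27 yc39 zc20) (kc xc11 yc22 zc55) (kc xc19 yc10 zc5) (kc xc14 yc43 zc54) (kc xc9 yc44 zc23) (kc xc16 yc55 zc23) (kc xc20 yc45 zc52) (kc xc24 yc56 zc15) (kc xc9 yc44 zc25) (kc xc11 yc45 zc10) (kc xc9 yc44 zc29) (kc xc25 yc10 zc42) (kc xc9 yc44 zc32) (kc xc9 yc44 zc37) (kc xc27 yc3 zc10) (kc xc18 yc58 zc43) (kc xc27 yc39 zc24) (kc xc27 yc39 zc25) (kc xc24 yc40 zc54) (kc xc15 yc42 zc14) (kc xc9 yc44 zc49) (kc xc26 yc42 zc30) (kc xc25 yc29 zc41)) (@D3.rec (fun _ => Pt) (kc xc25 yc29 zc39) (kc xc27 yc39 zc29) (kc xc19 yc35 zc59) (kc xc17 yc48 zc5) (kc xc17 yc50 zc18) (kc xc9 yc44 zc52) (kc xc18 yc49 zc51) (kc xc27 yc39 zc37) (kc xc23 yc22 zc4) (kc xc19 yc36 zc1) (kc xc14 yc59 zc0) (kc xc27 yc39 zc41) (kc xc14 yc58 zc27) (kc xc24 yc36 zc5) (kc xc27 yc39 zc44) (kc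 xc27 yc39 zc46) (kc xc27 yc39 zc48) (kc xc9 yc44 zc56) (kc xc27 yc39 zc51) (kc xc9 yc44 zc58) (kc xc27 yc39 zc53) (kc xc9 yc44 zc61) (kc xc16 yc56 zc0) (kc xc9 yc44 zc60) (kc xc27 yc40 zc1) (kc xc27 yc40 zc3) (kc xc27 yc40 zc0) (kc xc27 yc40 zc5) (kc xc27 yc40 zc7) (kc xc27 yc39 zc58) (kc xc27 yc39 zc59) (kc xc9 yc45 zc3) (kc xc27 yc40 zc14) (kc xc25 yc45 zc32) (kc xc27 yc40 zc15) (kc xc15 yc34 zc51) (kc xc26 yc12 zc52) (kc xc26 yc18 zc37) (kc xc20 yc11 zc8) (kc xc14 yc58 zc38) (kc xc14 yc58 zc39) (kc xc24 yc43 zc10) (kc xc9 yc45 zc9) (kc xc27 yc40 zc21) (kc xc22 yc44 zc0) (kc xc26 yc14 zc13) (kc xc22 yc51 zc54) (kc xc23 yc23 zc15) (kc xc27 yc40 zc25) (kc xc14 yc8 zc22) (kc xc9 yc45 zc12) (kc xc24 yc53 zc3) (kc xc11 yc18 zc13) (kc xc16 yc54 zc50) (kc xc16 yc53 zc53)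 (kc xc13 yc5 zc27) (kc xc16 yc53 zc60) (kc xc20 yc21 zc42) (kc xc20 yc14 zc2) (kc xc20 yc21 zc40) (kc xc9 yc45 zc21) (kc xc20 yc12 zc42)) (@D3.rec (fun _ => Pt) (kc xc23 yc27 zc53) (kc xc14 yc7 zc7) (kc xc11 yc15 zc55) (kc xc11 yc12 zc26) (kc xc9 yc45 zc30) (kc xc26 yc49 zc54) (kc xc9 yc45 zc33) (kc xc27 yc40 zc35) (kc xc16 yc53 zc13) (kc xc9 yc45 zc40) (kc xc27 yc40 zc37) (kc xc9 yc45 zc37) (kc xc16 yc35 zc36) (kc xc16 yc53 zc17) (kc xc16 yc32 zc2) (kc xc20 yc13 zc18) (kc xc20 yc13 zc19) (kc xc17 yc12 zc33) (kc xc16 yc24 zc58) (kc xc19 yc46 zc61) (kc xc26 yc28 zc23) (kc xc14 yc57 zc34) (kc xc26 yc17 zc10) (kc xc11 yc19 zc32) (kc xc20 yc12 zc47) (kc xc14 yc8 zc44) (kc xc9 yc45 zc45) (kc xc27 yc40 zc44) (kc xc24 yc30 zc30) (kc xc9 yc45 zc49) (kc xc27 yc40 zc46) (kc xc9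 yc45 zc50) (kc xc22 yc32 zc30) (kc xc16 yc54 zc56) (kc xc16 yc54 zc57) (kc xc11 yc19 zc14) (kc xc27 yc21 zc32) (kc xc14 yc7 zc49) (kc xc11 yc34 zc25) (kc xc17 yc15 zc20) (kc xc11 yc18 zc54) (kc xc20 yc10 zc22) (kc xc21 yc26 zc60) (kc xc15 yc47 zc36) (kc xc9 yc46 zc30) (kc xc25 yc34 zc2) (kc xc25 yc16 zc40) (kc xc23 yc38 zc0) (kc xc20 yc50 zc51) (kc xc27 yc40 zc57) (kc xc9 yc46 zc34) (kc xc25 yc16 zc39) (kc xc12 yc20 zc26) (kc xc12 yc20 zc9) (kc xc23 yc44 zc27) (kc xc11 yc18 zc14) (kc xc17 yc41 zc61) (kc xc23 yc40 zc25) (kc xc9 yc46 zc7) (kc xc9 yc46 zc17) (kc xc20 yc4 zc50) (kc xc16 yc55 zc41)) (@D3.rec (fun _ => Pt) (kc xc26 yc58 zc26) (kc xc11 yc19 zc55) (kc xc22 yc32 zc34) (kc xc22 yc44 zc22) (kc xc27 yc41 zc4) (kc xc9 yc46 zc12) (kc xc10 yc0 zc17) (kc xc22 yc42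 zc40) (kc xc9 yc46 zc13) (kc xc19 yc24 zc24) (kc xc26 yc28 zc40) (kc xc22 yc53 zc49) (kc xc22 yc44 zc23) (kc xc9 yc46 zc16) (kc xc9 yc46 zc15) (kc xc23 yc25 zc12) (kc xc26 yc50 zc2) (kc xc9 yc46 zc18) (kc xc23 yc24 zc26) (kc xc9 yc46 zc19) (kc xc9 yc46 zc20) (kc xc21 yc1 zc50) (kc xc15 yc20 zc34) (kc xc26 yc55 zc1) (kc xc9 yc46 zc54) (kc xc11 yc21 zc37) (kc xc16 yc47 zc17) (kc xc16 yc56 zc29) (kc xc11 yc1 zc35) (kc xc19 yc47 zc42) (kc xc9 yc46 zc28) (kc xc25 yc45 zc42) (kc xc27 yc41 zc23) (kc xc20 yc51 zc49) (kc xc27 yc40 zc51) (kc xc20 yc16 zc0) (kc xc9 yc46 zc31) (kc xc12 yc53 zc21) (kc xc27 yc41 zc26) (kc xc9 yc46 zc32) (kc xc21 yc20 zc52) (kc xc18 yc17 zc18) (kc xc9 yc46 zc36) (kc xc11 yc12 zc36) (kc xc9 yc46 zc40) (kc xc9 yc46 zc41) (kc xc16 yc35 zc29) (kc xc11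 yc20 zc8) (kc xc23 yc3 zc61) (kc xc17 yc3 zc39) (kc xc9 yc46 zc46) (kc xc9 yc46 zc49) (kc xc27 yc41 zc13) (kc xc27 yc41 zc34) (kc xc19 yc56 zc61) (kc xc27 yc41 zc19) (kc xc27 yc41 zc35) (kc xc20 yc25 zc52) (kc xc27 yc41 zc38) (kc xc26 yc42 zc25) (kc xc9 yc46 zc56) (kc xc17 yc43 zc16)) (@D3.rec (fun _ => Pt) (kc xc20 yc20 zc61) (kc xc9 yc46 zc58) (kc xc27 yc41 zc43) (kc xc27 yc39 zc14) (kc xc9 yc46 zc59) (kc xc26 yc20 zc34) (kc xc16 yc25 zc53) (kc xc27 yc41 zc45) (kc xc25 yc28 zc38) (kc xc26 yc31 zc4) (kc xc24 yc58 zc27) (kc xc11 yc59 zc34) (kc xc11 yc59 zc35) (kc xc9 yc47 zc2) (kc xc26 yc24 zc45) (kc xc23 yc19 zc1) (kc xc27 yc41 zc49) (kc xc27 yc41 zc51) (kc xc9 yc47 zc4) (kc xc27 yc41 zc56) (kc xc27 yc41 zc54) (kc xc9 yc47 zc6) (kc xc15 yc54 zc13) (kc xc15 yc20 zc18)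 (kc xc21 yc12 zc11) (kc xc20 yc29 zc39) (kc xc20 yc29 zc40) (kc xc25 yc28 zc11) (kc xc13 yc37 zc39) (kc xc9 yc47 zc9) (kc xc25 yc48 zc37) (kc xc27 yc42 zc3) (kc xc26 yc30 zc50) (kc xc25 yc14 zc32) (kc xc15 yc17 zc7) (kc xc11 yc59 zc38) (kc xc24 yc39 zc34) (kc xc13 yc8 zc35) (kc xc20 yc37 zc21) (kc xc26 yc26 zc11) (kc xc25 yc28 zc34) (kc xc24 yc58 zc30) (kc xc15 yc54 zc10) (kc xc9 yc47 zc22) (kc xc15 yc26 zc45) (kc xc10 yc18 zc57) (kc xc15 yc50 zc49) (kc xc9 yc56 zc9) (kc xc16 yc7 zc42) (kc xc17 yc3 zc16) (kc xc25 yc18 zc8) (kc xc14 yc16 zc40) (kc xc14 yc26 zc44) (kc xc17 yc3 zc28) (kc xc18 yc42 zc4) (kc xc11 yc40 zc53) (kc xc20 yc40 zc16) (kc xc20 yc22 zc27) (kc xc11 yc29 zc7) (kc xc16 yc15 zc38) (kc xc9 yc47 zc44) (kc xc9 yc47 zc43)) (@D3.rec (fun _ => Pt) (kc xc12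 yc28 zc16) (kc xc11 yc38 zc29) (kc xc21 yc22 zc53) (kc xc11 yc38 zc27) (kc xc11 yc24 zc32) (kc xc11 yc40 zc13) (kc xc12 yc2 zc11) (kc xc17 yc31 zc10) (kc xc17 yc31 zc12) (kc xc20 yc41 zc18) (kc xc20 yc41 zc19) (kc xc11 yc45 zc55) (kc xc23 yc47 zc17) (kc xc9 yc48 zc0) (kc xc9 yc48 zc2) (kc xc17 yc58 zc16) (kc xc17 yc58 zc15) (kc xc9 yc48 zc4) (kc xc27 yc3 zc29) (kc xc18 yc25 zc61) (kc xc21 yc3 zc8) (kc xc20 yc27 zc17) (kc xc14 yc49 zc44) (kc xc25 yc14 zc26) (kc xc27 yc42 zc24) (kc xc9 yc48 zc11) (kc xc11 yc34 zc55) (kc xc12 yc55 zc26) (kc xc9 yc48 zc29) (kc xc10 yc41 zc31) (kc xc11 yc49 zc44) (kc xc10 yc41 zc42) (kc xc11 yc0 zc49) (kc xc17 yc1 zc60) (kc xc27 yc42 zc26) (kc xc27 yc21 zc48) (kc xc20 yc17 zc16) (kc xc20 yc41 zc29) (kc xc9 yc48 zc23) (kc xc19 yc34 zc33)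 (kc xc11 yc48 zc0) (kc xc14 yc1 zc41) (kc xc27 yc4 zc50) (kc xc11 yc56 zc46) (kc xc11 yc39 zc4) (kc xc27 yc42 zc29) (kc xc11 yc39 zc3) (kc xc23 yc23 zc28) (kc xc23 yc23 zc44) (kc xc9 yc48 zc36) (kc xc9 yc48 zc35) (kc xc9 yc48 zc37) (kc xc11 yc47 zc36) (kc xc11 yc39 zc11) (kc xc24 yc14 zc60) (kc xc9 yc48 zc41) (kc xc11 yc31 zc44) (kc xc20 yc41 zc34) (kc xc11 yc10 zc22) (kc xc11 yc39 zc32) (kc xc20 yc41 zc33) (kc xc24 yc39 zc41)) (@D3.rec (fun _ => Pt) (kc xc17 yc48 zc59) (kc xc16 yc27 zc25) (kc xc21 yc3 zc43) (kc xc9 yc50 zc51) (kc xc9 yc48 zc46) (kc xc27 yc6 zc17) (kc xc25 yc14 zc25) (kc xc9 yc48 zc48) (kc xc20 yc49 zc33) (kc xc22 yc23 zc18) (kc xc9 yc48 zc52) (kc xc12 yc41 zc2) (kc xc10 yc4 zc54) (kc xc20 yc30 zc49) (kc xc20 yc30 zc50) (kc xc11 yc49 zc28) (kc xc26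 yc52 zc47) (kc xc26 yc40 zc46) (kc xc23 yc34 zc30) (kc xc23 yc29 zc28) (kc xc23 yc59 zc25) (kc xc10 yc15 zc54) (kc xc9 yc48 zc59) (kc xc24 yc33 zc7) (kc xc24 yc33 zc27) (kc xc23 yc26 zc48) (kc xc26 yc46 zc30) (kc xc17 yc7 zc17) (kc xc26 yc46 zc31) (kc xc9 yc56 zc5) (kc xc17 yc4 zc59) (kc xc17 yc4 zc60) (kc xc9 yc49 zc5) (kc xc22 yc2 zc43) (kc xc12 yc14 zc57) (kc xc11 yc36 zc38) (kc xc18 yc40 zc13) (kc xc12 yc43 zc42) (kc xc23 yc30 zc41) (kc xc11 yc41 zc3) (kc xc11 yc59 zc20) (kc xc11 yc41 zc6) (kc xc13 yc24 zc28) (kc xc21 yc42 zc43) (kc xc13 yc9 zc25) (kc xc24 yc39 zc24) (kc xc9 yc49 zc18) (kc xc22 yc23 zc17) (kc xc22 yc23 zc10) (kc xc9 yc49 zc21) (kc xc9 yc49 zc22) (kc xc27 yc42 zc61) (kc xc11 yc43 zc56) (kc xc11 yc43 zc57) (kc xc27 yc43 zc1) (kc xc9 yc49 zc24) (kc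 xc16 yc30 zc53) (kc xc9 yc49 zc32) (kc xc17 yc59 zc59) (kc xc17 yc59 zc58) (kc xc18 yc1 zc20) (kc xc14 yc33 zc21))
def f_c_18 : D2 → D3 → Pt := @D2.rec (fun _ => D3 → Pt) (@D3.rec (fun _ => Pt) (kc xc17 yc31 zc39) (kc xc17 yc31 zc40) (kc xc11 yc45 zc30) (kc xc20 yc51 zc51) (kc xc11 yc45 zc12) (kc xc11 yc49 zc19) (kc xc17 yc50 zc23) (kc xc12 yc36 zc2) (kc xc9 yc49 zc36) (kc xc12 yc41 zc3) (kc xc20 yc22 zc54) (kc xc21 yc20 zc19) (kc xc22 yc33 zc7) (kc xc10 yc2 zc50) (kc xc21 yc44 zc2) (kc xc11 yc43 zc18) (kc xc20 yc24 zc46) (kc xc20 yc45 zc12) (kc xc21 yc59 zc57) (kc xc27 yc43 zc5) (kc xc11 yc43 zc17) (kc xc11 yc45 zc45) (kc xc11 yc45 zc46) (kc xc27 yc21 zc2) (kc xc11 yc44 zc54) (kc xc13 yc44 zc28) (kc xc22 yc23 zc19) (kc xc9 yc49 zc47) (kc xc22 yc22 zc4) (kc xc17 yc19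 zc30) (kc xc11 yc44 zc16) (kc xc11 yc45 zc52) (kc xc11 yc45 zc53) (kc xc11 yc42 zc30) (kc xc12 yc6 zc17) (kc xc11 yc41 zc24) (kc xc9 yc49 zc60) (kc xc24 yc39 zc55) (kc xc16 yc31 zc27) (kc xc9 yc49 zc61) (kc xc27 yc43 zc16) (kc xc19 yc54 zc42) (kc xc24 yc20 zc49) (kc xc9 yc50 zc0) (kc xc24 yc34 zc18) (kc xc11 yc43 zc24) (kc xc24 yc30 zc32) (kc xc22 yc46 zc34) (kc xc27 yc43 zc23) (kc xc20 yc45 zc21) (kc xc12 yc33 zc10) (kc xc24 yc15 zc23) (kc xc24 yc33 zc28) (kc xc13 yc25 zc50) (kc xc9 yc50 zc4) (kc xc21 yc37 zc33) (kc xc12 yc45 zc25) (kc xc20 yc44 zc53) (kc xc24 yc19 zc51) (kc xc9 yc50 zc7) (kc xc24 yc41 zc26) (kc xc10 yc15 zc40)) (@D3.rec (fun _ => Pt) (kc xc9 yc50 zc8) (kc xc20 yc17 zc0) (kc xc23 yc59 zc24) (kc xc9 yc50 zc9) (kc xc17 yc12 zc15) (kc xc10 yc15 zc52)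 (kc xc27 yc22 zc15) (kc xc21 yc21 zc34) (kc xc14 yc7 zc34) (kc xc9 yc50 zc11) (kc xc17 yc31 zc52) (kc xc9 yc54 zc21) (kc xc17 yc31 zc51) (kc xc18 yc4 zc45) (kc xc18 yc4 zc44) (kc xc9 yc50 zc14) (kc xc17 yc6 zc34) (kc xc17 yc6 zc35) (kc xc9 yc50 zc16) (kc xc17 yc6 zc29) (kc xc17 yc59 zc60) (kc xc11 yc50 zc1) (kc xc18 yc40 zc14) (kc xc15 yc2 zc27) (kc xc26 yc58 zc41) (kc xc27 yc43 zc41) (kc xc9 yc50 zc20) (kc xc27 yc43 zc44) (kc xc17 yc13 zc56) (kc xc14 yc7 zc31) (kc xc13 yc50 zc31) (kc xc16 yc24 zc4) (kc xc13 yc38 zc38) (kc xc16 yc31 zc58) (kc xc9 yc50 zc29) (kc xc24 yc41 zc3) (kc xc18 yc43 zc19) (kc xc20 yc56 zc19) (kc xc12 yc43 zc57) (kc xc21 yc1 zc48) (kc xc20 yc12 zc53) (kc xc20 yc26 zc5) (kc xc9 yc51 zc6) (kc xc17 yc40 zc20) (kc xc9 yc50 zc41) (kc xc25 yc8 zc8)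 (kc xc26 yc52 zc25) (kc xc26 yc52 zc24) (kc xc11 yc47 zc56) (kc xc9 yc50 zc45) (kc xc27 yc44 zc1) (kc xc12 yc43 zc18) (kc xc23 yc28 zc2) (kc xc14 yc18 zc39) (kc xc11 yc47 zc53) (kc xc9 yc50 zc47) (kc xc20 yc15 zc24) (kc xc20 yc15 zc25) (kc xc15 yc20 zc35) (kc xc26 yc53 zc25) (kc xc11 yc47 zc47) (kc xc11 yc58 zc1)) (@D3.rec (fun _ => Pt) (kc xc20 yc17 zc59) (kc xc11 yc47 zc40) (kc xc21 yc43 zc17) (kc xc20 yc54 zc3) (kc xc9 yc51 zc17) (kc xc14 yc27 zc43) (kc xc25 yc43 zc30) (kc xc20 yc13 zc52) (kc xc10 yc26 zc56) (kc xc17 yc8 zc17) (kc xc24 yc12 zc36) (kc xc9 yc51 zc1) (kc xc26 yc58 zc9) (kc xc9 yc51 zc4) (kc xc27 yc44 zc13) (kc xc24 yc31 zc4) (kc xc11 yc12 zc25) (kc xc27 yc44 zc14) (kc xc18 yc58 zc2) (kc xc11 yc12 zc53) (kc xc20 yc1 zc54) (kc xc9 yc51 zc12) (kc xc20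 yc18 zc7) (kc xc9 yc51 zc15) (kc xc14 yc38 zc11) (kc xc15 yc16 zc58) (kc xc9 yc51 zc16) (kc xc19 yc12 zc52) (kc xc15 yc19 zc41) (kc xc27 yc44 zc19) (kc xc26 yc36 zc40) (kc xc26 yc36 zc39) (kc xc9 yc51 zc18) (kc xc27 yc44 zc21) (kc xc12 yc5 zc6) (kc xc17 yc3 zc49) (kc xc9 yc51 zc25) (kc xc26 yc31 zc3) (kc xc27 yc44 zc25) (kc xc15 yc15 zc32) (kc xc14 yc53 zc10) (kc xc10 yc31 zc33) (kc xc27 yc44 zc28) (kc xc10 yc39 zc44) (kc xc10 yc31 zc28) (kc xc27 yc35 zc33) (kc xc17 yc48 zc28) (kc xc27 yc44 zc33) (kc xc17 yc48 zc30) (kc xc18 yc3 zc4) (kc xc16 yc32 zc0) (kc xc10 yc39 zc39) (kc xc10 yc45 zc56) (kc xc9 yc51 zc35) (kc xc15 yc19 zc42) (kc xc15 yc54 zc32) (kc xc9 yc51 zc36) (kc xc27 yc44 zc36) (kc xc27 yc44 zc38) (kc xc16 yc12 zc15) (kc xc16 yc12 zc16) (kc xc27 yc44 zc43))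 (@D3.rec (fun _ => Pt) (kc xc27 yc39 zc3) (kc xc9 yc51 zc48) (kc xc24 yc52 zc47) (kc xc15 yc47 zc41) (kc xc18 yc2 zc49) (kc xc17 yc36 zc42) (kc xc15 yc12 zc48) (kc xc11 yc3 zc53) (kc xc23 yc43 zc46) (kc xc26 yc39 zc58) (kc xc25 yc38 zc41) (kc xc16 yc50 zc19) (kc xc19 yc55 zc27) (kc xc9 yc51 zc49) (kc xc16 yc6 zc15) (kc xc16 yc10 zc13) (kc xc16 yc10 zc12) (kc xc19 yc56 zc26) (kc xc15 yc11 zc5) (kc xc10 yc14 zc48) (kc xc16 yc20 zc45) (kc xc16 yc20 zc44) (kc xc16 yc21 zc14) (kc xc27 yc45 zc4) (kc xc19 yc15 zc21) (kc xc18 yc53 zc22) (kc xc25 yc23 zc54) (kc xc21 yc41 zc54) (kc xc23 yc49 zc57) (kc xc16 yc16 zc21) (kc xc18 yc36 zc27) (kc xc16 yc35 zc7) (kc xc27 yc45 zc9) (kc xc13 yc41 zc54) (kc xc18 yc3 zc54) (kc xc10 yc29 zc15) (kc xc10 yc26 zc35) (kc xc23 yc22 zc54) (kc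 xc9 yc52 zc1) (kc xc9 yc52 zc0) (kc xc27 yc28 zc4) (kc xc27 yc45 zc14) (kc xc27 yc45 zc16) (kc xc10 yc20 zc52) (kc xc27 yc45 zc20) (kc xc10 yc20 zc54) (kc xc17 yc38 zc21) (kc xc24 yc32 zc34) (kc xc10 yc15 zc60) (kc xc27 yc45 zc28) (kc xc27 yc45 zc30) (kc xc24 yc48 zc2) (kc xc24 yc40 zc46) (kc xc24 yc48 zc4) (kc xc18 yc3 zc34) (kc xc15 yc14 zc32) (kc xc15 yc12 zc4) (kc xc15 yc14 zc14) (kc xc9 yc52 zc8) (kc xc18 yc29 zc56) (kc xc27 yc45 zc38) (kc xc16 yc20 zc33)) (@D3.rec (fun _ => Pt) (kc xc9 yc52 zc9) (kc xc25 yc35 zc11) (kc xc24 yc44 zc9) (kc xc15 yc52 zc35) (kc xc27 yc45 zc44) (kc xc27 yc45 zc45) (kc xc9 yc52 zc11) (kc xc15 yc12 zc20) (kc xc27 yc45 zc48) (kc xc27 yc45 zc50) (kc xc16 yc16 zc29) (kc xc22 yc8 zc42) (kc xc22 yc8 zc41) (kc xc18 yc8 zc35) (kc xc27 yc45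 zc56) (kc xc18 yc20 zc20) (kc xc17 yc22 zc2) (kc xc18 yc53 zc15) (kc xc18 yc20 zc34) (kc xc16 yc18 zc25) (kc xc27 yc45 zc60) (kc xc9 yc52 zc47) (kc xc13 yc20 zc50) (kc xc25 yc43 zc43) (kc xc9 yc52 zc26) (kc xc18 yc53 zc42) (kc xc27 yc45 zc61) (kc xc27 yc46 zc0) (kc xc19 yc6 zc18) (kc xc19 yc6 zc20) (kc xc9 yc52 zc29) (kc xc27 yc46 zc1) (kc xc27 yc46 zc2) (kc xc18 yc26 zc30) (kc xc24 yc37 zc14) (kc xc18 yc26 zc32) (kc xc18 yc4 zc49) (kc xc15 yc16 zc33) (kc xc15 yc16 zc34) (kc xc27 yc46 zc7) (kc xc9 yc52 zc35) (kc xc18 yc19 zc33) (kc xc9 yc52 zc33) (kc xc9 yc52 zc34) (kc xc18 yc1 zc14) (kc xc18 yc1 zc13) (kc xc9 yc55 zc42) (kc xc15 yc37 zc56) (kc xc9 yc55 zc44) (kc xc18 yc4 zc36) (kc xc27 yc46 zc18) (kc xc24 yc45 zc60) (kc xc24 yc55 zc30) (kc xc18 yc21 zc42) (kc xc27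 yc46 zc22) (kc xc15 yc10 zc1) (kc xc17 yc23 zc28) (kc xc9 yc52 zc45) (kc xc12 yc45 zc8) (kc xc27 yc46 zc24) (kc xc27 yc30 zc1) (kc xc9 yc52 zc46)) (@D3.rec (fun _ => Pt) (kc xc12 yc45 zc7) (kc xc10 yc39 zc56) (kc xc21 yc28 zc30) (kc xc22 yc34 zc44) (kc xc12 yc59 zc2) (kc xc21 yc7 zc27) (kc xc9 yc52 zc48) (kc xc21 yc42 zc8) (kc xc14 yc1 zc20) (kc xc22 yc34 zc43) (kc xc27 yc10 zc21) (kc xc27 yc32 zc15) (kc xc18 yc45 zc26) (kc xc9 yc56 zc21) (kc xc9 yc52 zc56) (kc xc18 yc19 zc34) (kc xc18 yc41 zc28) (kc xc14 yc3 zc52) (kc xc14 yc3 zc51) (kc xc18 yc44 zc44) (kc xc27 yc46 zc36) (kc xc19 yc6 zc17) (kc xc24 yc42 zc60) (kc xc26 yc17 zc16) (kc xc24 yc43 zc56) (kc xc26 yc17 zc17) (kc xc27 yc46 zc42) (kc xc27 yc46 zc44) (kc xc27 yc46 zc47) (kc xc9 yc53 zc7) (kc xc25 yc15 zc38)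 (kc xc12 yc50 zc10) (kc xc16 yc16 zc23) (kc xc18 yc33 zc18) (kc xc10 yc16 zc3) (kc xc9 yc57 zc19) (kc xc9 yc53 zc12) (kc xc9 yc53 zc13) (kc xc9 yc53 zc14) (kc xc15 yc16 zc6) (kc xc15 yc16 zc7) (kc xc19 yc7 zc0) (kc xc27 yc46 zc55) (kc xc27 yc46 zc56) (kc xc19 yc6 zc60) (kc xc26 yc2 zc17) (kc xc25 yc6 zc60) (kc xc27 yc47 zc0) (kc xc27 yc45 zc27) (kc xc9 yc53 zc27) (kc xc21 yc39 zc15) (kc xc19 yc34 zc55) (kc xc27 yc47 zc3) (kc xc27 yc33 zc42) (kc xc10 yc30 zc20) (kc xc27 yc34 zc26) (kc xc15 yc36 zc19) (kc xc9 yc53 zc25) (kc xc27 yc47 zc9) (kc xc25 yc3 zc16) (kc xc9 yc53 zc26) (kc xc13 yc18 zc37)) (@D3.rec (fun _ => Pt) (kc xc21 yc7 zc29) (kc xc21 yc7 zc30) (kc xc13 yc19 zc56) (kc xc13 yc19 zc55) (kc xc12 yc34 zc46) (kc xc16 yc17 zc21) (kc xc26 yc14 zc60) (kc xc22 yc8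 zc37) (kc xc18 yc7 zc28) (kc xc18 yc59 zc22) (kc xc24 yc41 zc1) (kc xc27 yc32 zc35) (kc xc14 yc2 zc33) (kc xc18 yc39 zc61) (kc xc24 yc42 zc5) (kc xc14 yc54 zc60) (kc xc9 yc53 zc35) (kc xc27 yc47 zc23) (kc xc18 yc28 zc29) (kc xc9 yc53 zc38) (kc xc9 yc53 zc41) (kc xc9 yc53 zc40) (kc xc17 yc46 zc37) (kc xc9 yc53 zc45) (kc xc12 yc35 zc3) (kc xc27 yc47 zc26) (kc xc14 yc56 zc24) (kc xc24 yc52 zc23) (kc xc9 yc53 zc48) (kc xc27 yc47 zc29) (kc xc14 yc4 zc31) (kc xc16 yc22 zc48) (kc xc18 yc7 zc5) (kc xc18 yc35 zc25) (kc xc24 yc54 zc37) (kc xc18 yc49 zc45) (kc xc15 yc8 zc36) (kc xc9 yc58 zc53) (kc xc16 yc33 zc10) (kc xc9 yc53 zc56) (kc xc18 yc28 zc51) (kc xc15 yc0 zc27) (kc xc10 yc25 zc51) (kc xc9 yc53 zc58) (kc xc27 yc47 zc42) (kc xc27 yc47 zc41) (kc xc27 yc34 zc47) (kc xc9 yc53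 zc59) (kc xc22 yc31 zc15) (kc xc9 yc53 zc60) (kc xc27 yc47 zc46) (kc xc27 yc47 zc45) (kc xc18 yc16 zc25) (kc xc27 yc47 zc51) (kc xc9 yc54 zc1) (kc xc24 yc43 zc25) (kc xc9 yc54 zc0) (kc xc24 yc43 zc37) (kc xc15 yc52 zc52) (kc xc27 yc47 zc54) (kc xc25 yc48 zc44) (kc xc18 yc7 zc1)) (@D3.rec (fun _ => Pt) (kc xc15 yc59 zc42) (kc xc18 yc6 zc61) (kc xc17 yc43 zc54) (kc xc18 yc7 zc26) (kc xc14 yc55 zc41) (kc xc18 yc6 zc32) (kc xc27 yc47 zc22) (kc xc22 yc31 zc7) (kc xc9 yc54 zc5) (kc xc24 yc42 zc18) (kc xc16 yc35 zc6) (kc xc9 yc54 zc7) (kc xc12 yc19 zc34) (kc xc27 yc47 zc60) (kc xc9 yc54 zc8) (kc xc12 yc19 zc38) (kc xc27 yc47 zc61) (kc xc22 yc8 zc32) (kc xc24 yc38 zc50) (kc xc20 yc16 zc18) (kc xc21 yc20 zc38) (kc xc9 yc54 zc10) (kc xc12 yc1 zc41) (kc xc27 yc48 zc3) (kc xc22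 yc15 zc8) (kc xc24 yc38 zc54) (kc xc18 yc7 zc3) (kc xc13 yc40 zc41) (kc xc18 yc6 zc8) (kc xc11 yc56 zc54) (kc xc9 yc59 zc34) (kc xc10 yc26 zc61) (kc xc25 yc23 zc6) (kc xc10 yc26 zc58) (kc xc18 yc59 zc0) (kc xc19 yc1 zc53) (kc xc18 yc35 zc48) (kc xc9 yc54 zc20) (kc xc10 yc45 zc8) (kc xc9 yc54 zc19) (kc xc27 yc6 zc12) (kc xc25 yc23 zc8) (kc xc27 yc48 zc9) (kc xc27 yc43 zc34) (kc xc10 yc25 zc50) (kc xc13 yc45 zc2) (kc xc9 yc54 zc25) (kc xc9 yc54 zc24) (kc xc27 yc17 zc19) (kc xc10 yc0 zc5) (kc xc27 yc48 zc14) (kc xc19 yc26 zc43) (kc xc19 yc26 zc45) (kc xc15 yc35 zc43) (kc xc11 yc59 zc49) (kc xc9 yc54 zc27) (kc xc27 yc48 zc18) (kc xc12 yc42 zc28) (kc xc9 yc54 zc28) (kc xc12 yc42 zc52) (kc xc27 yc48 zc22) (kc xc26 yc16 zc44)) (@D3.rec (fun _ => Pt) (kc xc9 yc54 zc37) (kc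 xc9 yc54 zc30) (kc xc9 yc54 zc31) (kc xc17 yc27 zc44) (kc xc15 yc35 zc42) (kc xc25 yc55 zc48) (kc xc24 yc19 zc60) (kc xc18 yc50 zc49) (kc xc27 yc45 zc39) (kc xc26 yc48 zc19) (kc xc9 yc54 zc33) (kc xc17 yc43 zc29) (kc xc18 yc8 zc17) (kc xc18 yc8 zc18) (kc xc27 yc22 zc5) (kc xc9 yc54 zc35) (kc xc27 yc48 zc33) (kc xc18 yc8 zc12) (kc xc18 yc8 zc13) (kc xc26 yc48 zc17) (kc xc16 yc16 zc33) (kc xc27 yc48 zc37) (kc xc27 yc48 zc39) (kc xc15 yc17 zc24) (kc xc25 yc3 zc46) (kc xc25 yc3 zc47) (kc xc27 yc48 zc43) (kc xc9 yc54 zc41) (kc xc27 yc48 zc44) (kc xc9 yc54 zc39) (kc xc27 yc48 zc48) (kc xc15 yc23 zc27) (kc xc9 yc54 zc40) (kc xc27 yc48 zc51) (kc xc26 yc13 zc35) (kc xc18 yc4 zc13) (kc xc19 yc0 zc45) (kc xc19 yc0 zc46) (kc xc27 yc48 zc56) (kc xc27 yc33 zc31) (kc xc27 yc48 zc61)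 (kc xc15 yc15 zc0) (kc xc18 yc56 zc1) (kc xc27 yc49 zc1) (kc xc27 yc34 zc25) (kc xc9 yc54 zc45) (kc xc27 yc9 zc7) (kc xc17 yc52 zc23) (kc xc18 yc49 zc1) (kc xc27 yc49 zc8) (kc xc9 yc54 zc49) (kc xc9 yc54 zc48) (kc xc9 yc54 zc50) (kc xc11 yc23 zc23) (kc xc12 yc6 zc33) (kc xc16 yc17 zc42) (kc xc18 yc41 zc26) (kc xc18 yc38 zc37) (kc xc18 yc38 zc38) (kc xc20 yc10 zc29) (kc xc9 yc54 zc56) (kc xc9 yc54 zc54)) (@D3.rec (fun _ => Pt) (kc xc26 yc37 zc44) (kc xc9 yc54 zc55) (kc xc9 yc54 zc58) (kc xc14 yc3 zc48) (kc xc19 yc4 zc57) (kc xc27 yc49 zc26) (kc xc18 yc54 zc9) (kc xc13 yc14 zc24) (kc xc10 yc20 zc22) (kc xc15 yc33 zc49) (kc xc9 yc55 zc0) (kc xc9 yc54 zc61) (kc xc24 yc45 zc40) (kc xc24 yc45 zc41) (kc xc15 yc5 zc57) (kc xc27 yc49 zc41) (kc xc18 yc45 zc61) (kc xc10 yc39 zc38)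 (kc xc18 yc38 zc40) (kc xc27 yc49 zc44) (kc xc10 yc16 zc45) (kc xc10 yc24 zc61) (kc xc9 yc55 zc7) (kc xc27 yc49 zc48) (kc xc27 yc49 zc47) (kc xc12 yc7 zc9) (kc xc23 yc50 zc2) (kc xc18 yc41 zc40) (kc xc15 yc50 zc46) (kc xc9 yc56 zc7) (kc xc21 yc9 zc22) (kc xc20 yc11 zc45) (kc xc9 yc55 zc10) (kc xc27 yc49 zc59) (kc xc16 yc7 zc57) (kc xc16 yc8 zc0) (kc xc18 yc30 zc43) (kc xc19 yc0 zc5) (kc xc18 yc59 zc25) (kc xc18 yc13 zc54) (kc xc16 yc19 zc37) (kc xc23 yc36 zc58) (kc xc12 yc27 zc32) (kc xc18 yc58 zc57) (kc xc12 yc27 zc26) (kc xc18 yc58 zc13) (kc xc17 yc14 zc39) (kc xc17 yc14 zc34) (kc xc9 yc55 zc15) (kc xc10 yc12 zc41) (kc xc10 yc27 zc55) (kc xc25 yc3 zc13) (kc xc12 yc24 zc46) (kc xc25 yc34 zc29) (kc xc25 yc34 zc28) (kc xc12 yc24 zc42) (kc xc9 yc55 zc21) (kc xc18 yc33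 zc38) (kc xc18 yc20 zc37) (kc xc9 yc55 zc29) (kc xc15 yc12 zc30) (kc xc21 yc21 zc15)) (@D3.rec (fun _ => Pt) (kc xc9 yc55 zc25) (kc xc16 yc21 zc32) (kc xc9 yc55 zc26) (kc xc18 yc10 zc37) (kc xc9 yc55 zc27) (kc xc27 yc50 zc33) (kc xc18 yc12 zc36) (kc xc9 yc55 zc28) (kc xc27 yc50 zc34) (kc xc12 yc19 zc58) (kc xc27 yc50 zc37) (kc xc23 yc34 zc28) (kc xc21 yc58 zc34) (kc xc13 yc30 zc12) (kc xc9 yc55 zc37) (kc xc27 yc50 zc39) (kc xc27 yc49 zc24) (kc xc9 yc55 zc40) (kc xc13 yc53 zc49) (kc xc9 yc55 zc41) (kc xc27 yc31 zc5) (kc xc27 yc50 zc41) (kc xc11 yc5 zc50) (kc xc18 yc26 zc41) (kc xc19 yc4 zc41) (kc xc17 yc21 zc50) (kc xc27 yc50 zc42) (kc xc26 yc54 zc8) (kc xc15 yc5 zc36) (kc xc10 yc2 zc43) (kc xc18 yc31 zc51) (kc xc9 yc55 zc55) (kc xc23 yc34 zc0) (kc xc18 yc39 zc12) (kc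 xc9 yc55 zc56) (kc xc27 yc50 zc47) (kc xc18 yc20 zc43) (kc xc18 yc10 zc3) (kc xc27 yc50 zc51) (kc xc9 yc55 zc59) (kc xc18 yc39 zc13) (kc xc10 yc14 zc53) (kc xc12 yc2 zc22) (kc xc12 yc2 zc25) (kc xc9 yc56 zc2) (kc xc27 yc49 zc50) (kc xc24 yc45 zc8) (kc xc9 yc56 zc3) (kc xc24 yc45 zc5) (kc xc25 yc0 zc2) (kc xc18 yc45 zc37) (kc xc9 yc56 zc6) (kc xc18 yc14 zc51) (kc xc25 yc4 zc10) (kc xc27 yc51 zc2) (kc xc11 yc29 zc60) (kc xc20 yc22 zc51) (kc xc16 yc57 zc47) (kc xc27 yc51 zc7) (kc xc9 yc56 zc11) (kc xc27 yc51 zc11) (kc xc9 yc56 zc12)) (@D3.rec (fun _ => Pt) (kc xc27 yc51 zc15) (kc xc27 yc51 zc16) (kc xc10 yc17 zc18) (kc xc14 yc12 zc30) (kc xc19 yc5 zc1) (kc xc27 yc51 zc17) (kc xc27 yc51 zc18) (kc xc9 yc56 zc17) (kc xc9 yc56 zc20) (kc xc27 yc51 zc21) (kc xc24 yc22 zc52)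 (kc xc23 yc35 zc56) (kc xc27 yc46 zc33) (kc xc27 yc46 zc34) (kc xc22 yc14 zc52) (kc xc10 yc25 zc54) (kc xc18 yc54 zc19) (kc xc25 yc24 zc2) (kc xc18 yc54 zc20) (kc xc19 yc7 zc20) (kc xc27 yc51 zc38) (kc xc27 yc32 zc54) (kc xc27 yc32 zc53) (kc xc17 yc47 zc1) (kc xc27 yc51 zc48) (kc xc17 yc47 zc3) (kc xc13 yc34 zc8) (kc xc15 yc37 zc4) (kc xc16 yc21 zc19) (kc xc10 yc28 zc47) (kc xc12 yc6 zc38) (kc xc21 yc10 zc30) (kc xc19 yc7 zc1) (kc xc10 yc27 zc58) (kc xc19 yc12 zc54) (kc xc27 yc52 zc7) (kc xc27 yc50 zc48) (kc xc18 yc53 zc11) (kc xc25 yc26 zc42) (kc xc18 yc53 zc13) (kc xc19 yc7 zc6) (kc xc18 yc39 zc51) (kc xc18 yc39 zc7) (kc xc23 yc50 zc7) (kc xc9 yc56 zc36) (kc xc9 yc56 zc35) (kc xc27 yc1 zc5) (kc xc26 yc14 zc54) (kc xc27 yc52 zc26) (kc xc18 yc26 zc54) (kc xc25 yc54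 zc47) (kc xc18 yc26 zc56) (kc xc19 yc6 zc54) (kc xc19 yc4 zc48) (kc xc11 yc15 zc38) (kc xc26 yc18 zc31) (kc xc18 yc19 zc31) (kc xc20 yc27 zc21) (kc xc18 yc19 zc32) (kc xc19 yc6 zc58) (kc xc19 yc13 zc8) (kc xc18 yc19 zc29)) (@D3.rec (fun _ => Pt) (kc xc18 yc44 zc40) (kc xc9 yc56 zc43) (kc xc22 yc6 zc44) (kc xc17 yc49 zc28) (kc xc18 yc39 zc14) (kc xc23 yc53 zc54) (kc xc18 yc39 zc11) (kc xc17 yc11 zc43) (kc xc9 yc57 zc5) (kc xc27 yc22 zc38) (kc xc22 yc12 zc46) (kc xc9 yc56 zc46) (kc xc27 yc52 zc57) (kc xc17 yc49 zc15) (kc xc23 yc0 zc33) (kc xc9 yc57 zc12) (kc xc13 yc8 zc6) (kc xc13 yc8 zc10) (kc xc27 yc53 zc7) (kc xc14 yc31 zc9) (kc xc18 yc27 zc33) (kc xc25 yc28 zc23) (kc xc25 yc28 zc32) (kc xc27 yc53 zc12) (kc xc9 yc56 zc50) (kc xc15 yc37 zc3) (kc xc19 yc0 zc58) (kc xc15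 yc38 zc47) (kc xc16 yc37 zc1) (kc xc9 yc56 zc54) (kc xc18 yc54 zc13) (kc xc9 yc56 zc55) (kc xc18 yc39 zc44) (kc xc18 yc39 zc45) (kc xc18 yc41 zc9) (kc xc18 yc19 zc57) (kc xc18 yc10 zc6) (kc xc18 yc22 zc15) (kc xc18 yc19 zc56) (kc xc20 yc19 zc8) (kc xc9 yc56 zc61) (kc xc25 yc8 zc53) (kc xc18 yc31 zc50) (kc xc9 yc57 zc0) (kc xc27 yc49 zc2) (kc xc20 yc18 zc57) (kc xc9 yc57 zc3) (kc xc27 yc52 zc51) (kc xc27 yc53 zc27) (kc xc9 yc57 zc4) (kc xc19 yc53 zc20) (kc xc10 yc49 zc55) (kc xc18 yc37 zc16) (kc xc18 yc35 zc46) (kc xc9 yc57 zc9) (kc xc27 yc53 zc30) (kc xc18 yc51 zc13) (kc xc26 yc46 zc38) (kc xc9 yc57 zc10) (kc xc27 yc53 zc33) (kc xc19 yc44 zc21) (kc xc24 yc1 zc56)) (@D3.rec (fun _ => Pt) (kc xc27 yc38 zc6) (kc xc25 yc50 zc24) (kc xc9 yc57 zc17) (kc xc9 yc57 zc21) (kc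 xc16 yc18 zc47) (kc xc16 yc18 zc44) (kc xc18 yc29 zc2) (kc xc27 yc53 zc41) (kc xc10 yc25 zc32) (kc xc21 yc7 zc39) (kc xc12 yc7 zc5) (kc xc21 yc9 zc8) (kc xc9 yc57 zc49) (kc xc23 yc36 zc56) (kc xc23 yc36 zc57) (kc xc9 yc57 zc27) (kc xc27 yc53 zc49) (kc xc27 yc29 zc50) (kc xc22 yc28 zc54) (kc xc18 yc21 zc61) (kc xc9 yc57 zc55) (kc xc18 yc21 zc43) (kc xc19 yc1 zc48) (kc xc14 yc12 zc27) (kc xc19 yc1 zc25) (kc xc24 yc40 zc57) (kc xc21 yc39 zc8) (kc xc12 yc20 zc18) (kc xc17 yc19 zc49) (kc xc18 yc58 zc17) (kc xc21 yc39 zc9) (kc xc21 yc39 zc10) (kc xc9 yc57 zc33) (kc xc27 yc54 zc0) (kc xc27 yc54 zc1) (kc xc22 yc49 zc35) (kc xc14 yc14 zc3) (kc xc9 yc57 zc38) (kc xc9 yc57 zc37) (kc xc9 yc57 zc39) (kc xc10 yc54 zc24) (kc xc27 yc54 zc6) (kc xc27 yc54 zc11) (kc xc9 yc57 zc42) (kc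 xc9 yc57 zc41) (kc xc10 yc12 zc60) (kc xc18 yc15 zc54) (kc xc12 yc2 zc27) (kc xc9 yc57 zc45) (kc xc27 yc53 zc43) (kc xc9 yc57 zc46) (kc xc27 yc54 zc16) (kc xc27 yc54 zc18) (kc xc27 yc54 zc20) (kc xc18 yc9 zc39) (kc xc17 yc20 zc17) (kc xc9 yc57 zc51) (kc xc24 yc28 zc30) (kc xc9 yc57 zc52) (kc xc27 yc54 zc23) (kc xc27 yc39 zc30) (kc xc9 yc57 zc53)) (@D3.rec (fun _ => Pt) (kc xc18 yc47 zc22) (kc xc27 yc54 zc27) (kc xc17 yc19 zc50) (kc xc17 yc19 zc61) (kc xc9 yc57 zc54) (kc xc27 yc0 zc60) (kc xc17 yc51 zc27) (kc xc10 yc4 zc53) (kc xc9 yc57 zc61) (kc xc16 yc30 zc36) (kc xc9 yc58 zc7) (kc xc27 yc54 zc30) (kc xc9 yc58 zc6) (kc xc13 yc24 zc21) (kc xc27 yc44 zc0) (kc xc21 yc26 zc14) (kc xc21 yc30 zc59) (kc xc27 yc20 zc30) (kc xc27 yc32 zc50) (kc xc27 yc32 zc46) (kc xc17 yc47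 zc11) (kc xc25 yc31 zc42) (kc xc17 yc47 zc13) (kc xc19 yc2 zc41) (kc xc10 yc26 zc49) (kc xc10 yc10 zc46) (kc xc9 yc58 zc17) (kc xc9 yc58 zc16) (kc xc20 yc0 zc50) (kc xc23 yc6 zc31) (kc xc16 yc35 zc18) (kc xc10 yc29 zc9) (kc xc27 yc54 zc46) (kc xc18 yc44 zc49) (kc xc18 yc35 zc49) (kc xc18 yc35 zc47) (kc xc17 yc25 zc34) (kc xc9 yc58 zc43) (kc xc27 yc22 zc40) (kc xc27 yc54 zc54) (kc xc9 yc58 zc23) (kc xc27 yc54 zc56) (kc xc18 yc37 zc24) (kc xc18 yc37 zc25) (kc xc17 yc47 zc17) (kc xc15 yc57 zc56) (kc xc15 yc52 zc19) (kc xc17 yc26 zc56) (kc xc18 yc41 zc38) (kc xc19 yc9 zc1) (kc xc19 yc9 zc2) (kc xc18 yc10 zc52) (kc xc19 yc8 zc10) (kc xc17 yc39 zc52) (kc xc18 yc47 zc12) (kc xc26 yc20 zc2) (kc xc21 yc26 zc52) (kc xc21 yc26 zc48) (kc xc9 yc58 zc30) (kc xc10 yc10 zc40) (kc xc19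 yc1 zc28) (kc xc10 yc21 zc8)) (@D3.rec (fun _ => Pt) (kc xc19 yc1 zc26) (kc xc10 yc12 zc44) (kc xc9 yc58 zc34) (kc xc18 yc54 zc51) (kc xc10 yc12 zc43) (kc xc10 yc13 zc27) (kc xc10 yc13 zc52) (kc xc27 yc52 zc56) (kc xc18 yc16 zc27) (kc xc25 yc18 zc17) (kc xc9 yc58 zc41) (kc xc9 yc58 zc42) (kc xc16 yc59 zc50) (kc xc9 yc58 zc45) (kc xc18 yc22 zc16) (kc xc12 yc49 zc45) (kc xc18 yc24 zc7) (kc xc16 yc20 zc17) (kc xc9 yc58 zc48) (kc xc27 yc39 zc52) (kc xc18 yc16 zc57) (kc xc9 yc58 zc49) (kc xc26 yc16 zc14) (kc xc22 yc36 zc25) (kc xc9 yc58 zc56) (kc xc9 yc58 zc57) (kc xc27 yc53 zc46) (kc xc13 yc4 zc13) (kc xc13 yc14 zc38) (kc xc9 yc59 zc4) (kc xc12 yc40 zc46) (kc xc12 yc10 zc43) (kc xc12 yc47 zc20) (kc xc19 yc32 zc23) (kc xc10 yc5 zc17) (kc xc10 yc58 zc35) (kc xc11 yc41 zc23)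 (kc xc11 yc14 zc56) (kc xc11 yc49 zc49) (kc xc12 yc56 zc43) (kc xc17 yc9 zc47) (kc xc10 yc26 zc53) (kc xc9 yc59 zc17) (kc xc10 yc21 zc43) (kc xc18 yc47 zc15) (kc xc18 yc54 zc57) (kc xc9 yc59 zc20) (kc xc27 yc55 zc43) (kc xc9 yc59 zc22) (kc xc22 yc28 zc51) (kc xc17 yc10 zc26) (kc xc23 yc21 zc53) (kc xc15 yc11 zc27) (kc xc25 yc25 zc34) (kc xc18 yc13 zc46) (kc xc9 yc59 zc25) (kc xc27 yc55 zc47) (kc xc18 yc57 zc11) (kc xc27 yc55 zc53) (kc xc9 yc59 zc33) (kc xc16 yc59 zc51) (kc xc12 yc38 zc32)) (@D3.rec (fun _ => Pt) (kc xc9 yc59 zc28) (kc xc20 yc44 zc52) (kc xc27 yc55 zc56) (kc xc27 yc55 zc57) (kc xc9 yc59 zc30) (kc xc22 yc28 zc58) (kc xc18 yc50 zc18) (kc xc27 yc18 zc13) (kc xc21 yc7 zc1) (kc xc27 yc34 zc60) (kc xc10 yc11 zc59) (kc xc9 yc59 zc38) (kc xc20 yc9 zc31) (kc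 xc18 yc50 zc30) (kc xc18 yc16 zc19) (kc xc10 yc21 zc42) (kc xc9 yc59 zc47) (kc xc16 yc55 zc54) (kc xc9 yc59 zc43) (kc xc18 yc16 zc14) (kc xc18 yc50 zc1) (kc xc18 yc50 zc2) (kc xc17 yc12 zc57) (kc xc10 yc42 zc22) (kc xc10 yc21 zc46) (kc xc18 yc6 zc52) (kc xc22 yc6 zc19) (kc xc18 yc15 zc8) (kc xc27 yc17 zc46) (kc xc15 yc36 zc18) (kc xc20 yc45 zc33) (kc xc21 yc32 zc16) (kc xc23 yc36 zc47) (kc xc10 yc21 zc44) (kc xc9 yc59 zc48) (kc xc27 yc56 zc5) (kc xc21 yc1 zc3) (kc xc18 yc56 zc47) (kc xc18 yc56 zc48) (kc xc9 yc59 zc56) (kc xc9 yc59 zc57) (kc xc17 yc7 zc31) (kc xc11 yc6 zc32) (kc xc12 yc25 zc41) (kc xc10 yc57 zc18) (kc xc17 yc29 zc51) (kc xc21 yc32 zc44) (kc xc27 yc34 zc55) (kc xc10 yc0 zc1) (kc xc21 yc9 zc15) (kc xc10 yc0 zc0) (kc xc12 yc24 zc8) (kc xc9 yc59 zc61) (kc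 xc27 yc56 zc9) (kc xc18 yc58 zc21) (kc xc27 yc56 zc8) (kc xc25 yc36 zc49) (kc xc18 yc15 zc20) (kc xc27 yc56 zc16) (kc xc10 yc0 zc7) (kc xc17 yc31 zc7) (kc xc25 yc40 zc19)) (@D3.rec (fun _ => Pt) (kc xc10 yc57 zc22) (kc xc10 yc0 zc6) (kc xc11 yc30 zc59) (kc xc11 yc30 zc58) (kc xc26 yc55 zc17) (kc xc12 yc44 zc53) (kc xc19 yc27 zc56) (kc xc11 yc30 zc39) (kc xc20 yc27 zc33) (kc xc20 yc34 zc14) (kc xc26 yc55 zc9) (kc xc21 yc41 zc43) (kc xc21 yc20 zc40) (kc xc10 yc0 zc20) (kc xc21 yc26 zc20) (kc xc26 yc16 zc25) (kc xc27 yc56 zc19) (kc xc10 yc0 zc21) (kc xc17 yc56 zc41) (kc xc20 yc42 zc25) (kc xc21 yc7 zc25) (kc xc21 yc20 zc6) (kc xc10 yc7 zc0) (kc xc27 yc56 zc23) (kc xc10 yc0 zc27) (kc xc27 yc56 zc26) (kc xc27 yc56 zc25) (kc xc27 yc56 zc27) (kc xc10 yc49 zc7) (kc xc10 yc49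 zc6) (kc xc17 yc8 zc44) (kc xc17 yc11 zc50) (kc xc18 yc42 zc13) (kc xc10 yc0 zc36) (kc xc10 yc0 zc39) (kc xc27 yc56 zc31) (kc xc10 yc0 zc38) (kc xc27 yc56 zc34) (kc xc11 yc56 zc48) (kc xc10 yc0 zc42) (kc xc21 yc27 zc34) (kc xc25 yc16 zc57) (kc xc10 yc47 zc40) (kc xc27 yc56 zc39) (kc xc25 yc2 zc41) (kc xc10 yc1 zc4) (kc xc10 yc1 zc6) (kc xc11 yc48 zc61) (kc xc10 yc0 zc48) (kc xc10 yc0 zc46) (kc xc10 yc0 zc47) (kc xc27 yc38 zc54) (kc xc27 yc56 zc42) (kc xc27 yc56 zc43) (kc xc19 yc23 zc40) (kc xc27 yc56 zc44) (kc xc19 yc23 zc42) (kc xc10 yc1 zc26) (kc xc10 yc8 zc9) (kc xc10 yc8 zc10) (kc xc10 yc0 zc54) (kc xc10 yc0 zc52)) (@D3.rec (fun _ => Pt) (kc xc10 yc0 zc53) (kc xc25 yc22 zc4) (kc xc26 yc3 zc19) (kc xc25 yc19 zc48) (kc xc22 yc31 zc37) (kc xc25 yc19 zc49) (kc xc10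 yc1 zc21) (kc xc27 yc48 zc35) (kc xc27 yc56 zc54) (kc xc27 yc56 zc56) (kc xc19 yc24 zc42) (kc xc23 yc20 zc7) (kc xc15 yc19 zc38) (kc xc10 yc1 zc19) (kc xc17 yc36 zc60) (kc xc20 yc55 zc41) (kc xc20 yc58 zc26) (kc xc27 yc57 zc1) (kc xc10 yc1 zc0) (kc xc27 yc1 zc26) (kc xc10 yc1 zc16) (kc xc23 yc32 zc24) (kc xc12 yc55 zc14) (kc xc26 yc23 zc34) (kc xc23 yc32 zc25) (kc xc24 yc34 zc7) (kc xc27 yc57 zc10) (kc xc24 yc31 zc25) (kc xc23 yc16 zc43) (kc xc10 yc1 zc5) (kc xc27 yc57 zc14) (kc xc24 yc33 zc4) (kc xc13 yc58 zc42) (kc xc14 yc46 zc57) (kc xc16 yc12 zc12) (kc xc16 yc12 zc13) (kc xc16 yc25 zc16) (kc xc16 yc11 zc50) (kc xc19 yc19 zc19) (kc xc16 yc25 zc15) (kc xc11 yc4 zc20) (kc xc10 yc1 zc10) (kc xc26 yc24 zc51) (kc xc19 yc24 zc10) (kc xc25 yc20 zc7) (kc xc25 yc20 zc6) (kc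 xc10 yc1 zc15) (kc xc26 yc1 zc12) (kc xc27 yc57 zc27) (kc xc27 yc57 zc5) (kc xc23 yc20 zc9) (kc xc27 yc57 zc30) (kc xc27 yc57 zc33) (kc xc27 yc56 zc60) (kc xc10 yc1 zc20) (kc xc27 yc57 zc36) (kc xc25 yc2 zc35) (kc xc27 yc57 zc4) (kc xc27 yc56 zc52) (kc xc10 yc1 zc25) (kc xc27 yc57 zc42) (kc xc21 yc6 zc24)) (@D3.rec (fun _ => Pt) (kc xc27 yc56 zc59) (kc xc23 yc21 zc17) (kc xc14 yc56 zc28) (kc xc10 yc1 zc28) (kc xc27 yc3 zc30) (kc xc10 yc1 zc30) (kc xc23 yc13 zc55) (kc xc10 yc1 zc33) (kc xc17 yc12 zc52) (kc xc10 yc1 zc32) (kc xc23 yc32 zc5) (kc xc23 yc25 zc35) (kc xc27 yc57 zc58) (kc xc15 yc12 zc52) (kc xc23 yc19 zc57) (kc xc23 yc10 zc29) (kc xc27 yc57 zc55) (kc xc16 yc12 zc9) (kc xc16 yc12 zc10) (kc xc27 yc58 zc8) (kc xc10 yc1 zc37) (kc xc18 yc58 zc42) (kc xc10 yc1 zc35)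 (kc xc27 yc31 zc26) (kc xc10 yc1 zc36) (kc xc22 yc18 zc50) (kc xc27 yc58 zc14) (kc xc18 yc30 zc54) (kc xc18 yc30 zc55) (kc xc18 yc11 zc61) (kc xc27 yc51 zc57) (kc xc18 yc11 zc56) (kc xc18 yc11 zc58) (kc xc18 yc4 zc41) (kc xc18 yc5 zc15) (kc xc27 yc58 zc24) (kc xc10 yc1 zc44) (kc xc10 yc1 zc42) (kc xc10 yc1 zc43) (kc xc27 yc58 zc25) (kc xc27 yc50 zc28) (kc xc24 yc58 zc47) (kc xc20 yc4 zc48) (kc xc15 yc19 zc52) (kc xc25 yc16 zc56) (kc xc10 yc7 zc58) (kc xc27 yc58 zc31) (kc xc27 yc58 zc32) (kc xc24 yc18 zc8) (kc xc27 yc58 zc34) (kc xc27 yc58 zc35) (kc xc18 yc27 zc19) (kc xc17 yc51 zc5) (kc xc25 yc17 zc36) (kc xc25 yc47 zc28) (kc xc13 yc0 zc32) (kc xc18 yc12 zc38) (kc xc18 yc12 zc35) (kc xc10 yc2 zc30) (kc xc27 yc58 zc41) (kc xc21 yc31 zc36) (kc xc15 yc32 zc9)) (@D3.rec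 (fun _ => Pt) (kc xc27 yc58 zc45) (kc xc21 yc41 zc19) (kc xc26 yc57 zc44) (kc xc25 yc45 zc17) (kc xc26 yc57 zc45) (kc xc25 yc45 zc16) (kc xc27 yc58 zc49) (kc xc27 yc58 zc51) (kc xc10 yc2 zc0) (kc xc23 yc32 zc4) (kc xc10 yc2 zc2) (kc xc27 yc58 zc54) (kc xc18 yc42 zc24) (kc xc24 yc58 zc53) (kc xc18 yc41 zc44) (kc xc18 yc32 zc10) (kc xc10 yc2 zc14) (kc xc27 yc58 zc61) (kc xc10 yc2 zc15) (kc xc19 yc24 zc38) (kc xc18 yc4 zc15) (kc xc27 yc59 zc8) (kc xc10 yc2 zc11) (kc xc10 yc2 zc9) (kc xc18 yc32 zc53) (kc xc10 yc2 zc12) (kc xc18 yc22 zc17) (kc xc10 yc2 zc13) (kc xc27 yc59 zc12) (kc xc19 yc11 zc48) (kc xc19 yc12 zc28) (kc xc19 yc12 zc27) (kc xc27 yc59 zc13) (kc xc27 yc59 zc14) (kc xc18 yc4 zc18) (kc xc18 yc39 zc15) (kc xc10 yc2 zc23) (kc xc18 yc9 zc58) (kc xc10 yc2 zc22)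 (kc xc18 yc33 zc5) (kc xc10 yc2 zc26) (kc xc23 yc6 zc23) (kc xc22 yc51 zc61) (kc xc18 yc10 zc36) (kc xc19 yc18 zc4) (kc xc12 yc38 zc8) (kc xc10 yc2 zc29) (kc xc20 yc8 zc14) (kc xc27 yc59 zc22) (kc xc27 yc59 zc23) (kc xc21 yc16 zc23) (kc xc16 yc21 zc4) (kc xc27 yc29 zc46) (kc xc10 yc2 zc31) (kc xc27 yc59 zc25) (kc xc10 yc2 zc32) (kc xc27 yc59 zc29) (kc xc22 yc52 zc4) (kc xc10 yc2 zc36) (kc xc27 yc59 zc32) (kc xc23 yc52 zc9) (kc xc27 yc59 zc31)) (@D3.rec (fun _ => Pt) (kc xc10 yc2 zc39) (kc xc10 yc2 zc38) (kc xc27 yc59 zc34) (kc xc21 yc3 zc2) (kc xc11 yc40 zc20) (kc xc17 yc22 zc23) (kc xc12 yc15 zc5) (kc xc10 yc2 zc51) (kc xc21 yc28 zc43) (kc xc24 yc59 zc34) (kc xc10 yc2 zc54) (kc xc11 yc26 zc10) (kc xc15 yc26 zc48) (kc xc15 yc26 zc47) (kc xc27 yc57 zc52) (kc xc27 yc57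 zc50) (kc xc10 yc2 zc56) (kc xc27 yc59 zc42) (kc xc27 yc42 zc17) (kc xc27 yc42 zc18) (kc xc27 yc59 zc51) (kc xc10 yc2 zc60) (kc xc26 yc52 zc1) (kc xc10 yc2 zc58) (kc xc27 yc59 zc53) (kc xc10 yc2 zc59) (kc xc27 yc59 zc55) (kc xc24 yc2 zc49) (kc xc10 yc2 zc61) (kc xc27 yc11 zc56) (kc xc16 yc8 zc55) (kc xc22 yc23 zc12) (kc xc25 yc18 zc49) (kc xc10 yc3 zc3) (kc xc27 yc59 zc58) (kc xc27 yc59 zc57) (kc xc18 yc58 zc0) (kc xc18 yc31 zc54) (kc xc18 yc31 zc55) (kc xc21 yc28 zc32) (kc xc27 yc46 zc12) (kc xc17 yc43 zc2) (kc xc18 yc4 zc53) (kc xc18 yc13 zc21) (kc xc13 yc7 zc25) (kc xc27 yc59 zc61) (kc xc18 yc53 zc18) (kc xc26 yc19 zc25) (kc xc26 yc19 zc24) (kc xc18 yc30 zc50) (kc xc18 yc30 zc52) (kc xc10 yc3 zc18) (kc xc18 yc51 zc54) (kc xc10 yc3 zc43) (kc xc10 yc3 zc21) (kc xc20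 yc45 zc22) (kc xc27 yc38 zc29) (kc xc15 yc15 zc50) (kc xc10 yc3 zc45) (kc xc27 yc33 zc23) (kc xc28 yc0 zc10) (kc xc18 yc13 zc19)) (@D3.rec (fun _ => Pt) (kc xc18 yc54 zc8) (kc xc16 yc40 zc39) (kc xc18 yc44 zc31) (kc xc25 yc47 zc21) (kc xc10 yc3 zc25) (kc xc28 yc0 zc18) (kc xc27 yc33 zc59) (kc xc28 yc0 zc19) (kc xc20 yc5 zc19) (kc xc10 yc3 zc29) (kc xc10 yc3 zc30) (kc xc18 yc27 zc20) (kc xc10 yc3 zc51) (kc xc21 yc0 zc4) (kc xc25 yc21 zc36) (kc xc18 yc12 zc37) (kc xc18 yc15 zc14) (kc xc18 yc20 zc26) (kc xc18 yc33 zc35) (kc xc19 yc18 zc7) (kc xc27 yc49 zc55) (kc xc10 yc3 zc44) (kc xc15 yc17 zc45) (kc xc10 yc3 zc46) (kc xc10 yc3 zc47) (kc xc15 yc50 zc54) (kc xc10 yc3 zc49) (kc xc10 yc3 zc50) (kc xc16 yc37 zc57) (kc xc10 yc3 zc52) (kc xc17 yc16 zc42) (kc xc14 yc18 zc46)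 (kc xc12 yc49 zc25) (kc xc21 yc9 zc52) (kc xc14 yc23 zc49) (kc xc10 yc3 zc60) (kc xc17 yc7 zc59) (kc xc18 yc58 zc3) (kc xc20 yc34 zc39) (kc xc12 yc32 zc28) (kc xc11 yc59 zc5) (kc xc18 yc43 zc4) (kc xc10 yc4 zc7) (kc xc18 yc22 zc49) (kc xc10 yc4 zc8) (kc xc21 yc30 zc13) (kc xc10 yc17 zc9) (kc xc10 yc4 zc10) (kc xc27 yc57 zc53) (kc xc18 yc22 zc43) (kc xc18 yc49 zc35) (kc xc25 yc15 zc59) (kc xc10 yc4 zc12) (kc xc28 yc0 zc33) (kc xc21 yc55 zc39) (kc xc28 yc0 zc31) (kc xc23 yc15 zc18) (kc xc10 yc4 zc14) (kc xc28 yc0 zc36) (kc xc28 yc0 zc35) (kc xc28 yc0 zc38) (kc xc10 yc16 zc5)) (@D3.rec (fun _ => Pt) (kc xc27 yc39 zc8) (kc xc10 yc16 zc9) (kc xc14 yc45 zc4) (kc xc22 yc30 zc10) (kc xc22 yc30 zc55) (kc xc10 yc4 zc20) (kc xc23 yc29 zc39) (kc xc21 yc2 zc49) (kc xc10 yc4 zc22)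 (kc xc18 yc59 zc21) (kc xc27 yc42 zc16) (kc xc19 yc11 zc47) (kc xc10 yc4 zc26) (kc xc17 yc7 zc55) (kc xc10 yc4 zc24) (kc xc10 yc4 zc25) (kc xc22 yc17 zc47) (kc xc27 yc6 zc10) (kc xc28 yc0 zc46) (kc xc14 yc20 zc5) (kc xc12 yc51 zc15) (kc xc10 yc4 zc35) (kc xc27 yc10 zc14) (kc xc19 yc33 zc19) (kc xc10 yc4 zc39) (kc xc11 yc40 zc42) (kc xc11 yc18 zc6) (kc xc17 yc30 zc19) (kc xc20 yc0 zc3) (kc xc17 yc3 zc50) (kc xc23 yc3 zc46) (kc xc23 yc58 zc8) (kc xc10 yc57 zc1) (kc xc14 yc20 zc17) (kc xc12 yc14 zc23) (kc xc11 yc57 zc35) (kc xc17 yc3 zc13) (kc xc17 yc3 zc12) (kc xc21 yc33 zc29) (kc xc10 yc5 zc0) (kc xc25 yc18 zc24) (kc xc20 yc8 zc46) (kc xc10 yc5 zc3) (kc xc28 yc0 zc49) (kc xc10 yc5 zc5) (kc xc25 yc16 zc4) (kc xc10 yc5 zc6) (kc xc20 yc32 zc41) (kc xc12 yc9 zc40) (kc xc12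 yc9 zc39) (kc xc15 yc47 zc29) (kc xc11 yc6 zc33) (kc xc10 yc5 zc8) (kc xc22 yc34 zc26) (kc xc20 yc32 zc13) (kc xc23 yc32 zc33) (kc xc11 yc37 zc33) (kc xc10 yc5 zc12) (kc xc15 yc23 zc47) (kc xc17 yc15 zc50) (kc xc12 yc44 zc22) (kc xc10 yc5 zc16)) (@D3.rec (fun _ => Pt) (kc xc18 yc38 zc29) (kc xc14 yc16 zc47) (kc xc10 yc5 zc22) (kc xc15 yc59 zc6) (kc xc12 yc33 zc0) (kc xc10 yc5 zc25) (kc xc10 yc5 zc35) (kc xc18 yc15 zc16) (kc xc17 yc13 zc1) (kc xc18 yc37 zc23) (kc xc10 yc5 zc32) (kc xc21 yc20 zc50) (kc xc28 yc0 zc60) (kc xc20 yc2 zc2) (kc xc11 yc57 zc60) (kc xc17 yc3 zc51) (kc xc11 yc57 zc59) (kc xc12 yc37 zc56) (kc xc27 yc46 zc29) (kc xc18 yc37 zc39) (kc xc18 yc36 zc44) (kc xc20 yc33 zc4) (kc xc28 yc1 zc1) (kc xc10 yc5 zc41) (kc xc10 yc5 zc42) (kc xc10 yc5 zc39) (kc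 xc10 yc5 zc40) (kc xc28 yc1 zc4) (kc xc10 yc5 zc44) (kc xc19 yc0 zc2) (kc xc26 yc26 zc35) (kc xc18 yc42 zc51) (kc xc15 yc26 zc26) (kc xc13 yc17 zc51) (kc xc10 yc5 zc48) (kc xc21 yc51 zc37) (kc xc11 yc45 zc19) (kc xc10 yc5 zc51) (kc xc12 yc43 zc34) (kc xc18 yc24 zc44) (kc xc10 yc5 zc54) (kc xc22 yc3 zc20) (kc xc11 yc25 zc48) (kc xc11 yc35 zc29) (kc xc18 yc24 zc39) (kc xc25 yc23 zc38) (kc xc20 yc59 zc30) (kc xc21 yc27 zc61) (kc xc12 yc20 zc42) (kc xc12 yc24 zc43) (kc xc18 yc25 zc41) (kc xc12 yc28 zc17) (kc xc16 yc59 zc61) (kc xc10 yc6 zc6) (kc xc23 yc25 zc14) (kc xc10 yc6 zc3) (kc xc23 yc47 zc36) (kc xc21 yc48 zc24) (kc xc26 yc59 zc37) (kc xc21 yc35 zc45) (kc xc12 yc36 zc18) (kc xc16 yc16 zc45)) (@D3.rec (fun _ => Pt) (kc xc28 yc1 zc12) (kc xc12 yc15 zc10) (kc xc12 yc32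 zc17) (kc xc20 yc33 zc34) (kc xc17 yc24 zc32) (kc xc10 yc6 zc11) (kc xc10 yc6 zc9) (kc xc17 yc9 zc14) (kc xc11 yc38 zc56) (kc xc10 yc6 zc10) (kc xc28 yc1 zc20) (kc xc28 yc1 zc19) (kc xc26 yc26 zc32) (kc xc10 yc6 zc13) (kc xc18 yc42 zc7) (kc xc17 yc10 zc58) (kc xc20 yc40 zc46) (kc xc28 yc1 zc24) (kc xc17 yc19 zc11) (kc xc15 yc52 zc57) (kc xc20 yc22 zc47) (kc xc10 yc6 zc21) (kc xc17 yc42 zc21) (kc xc14 yc12 zc41) (kc xc21 yc38 zc17) (kc xc12 yc59 zc58) (kc xc28 yc1 zc27) (kc xc23 yc23 zc34) (kc xc21 yc6 zc57) (kc xc18 yc50 zc31) (kc xc23 yc23 zc33) (kc xc18 yc50 zc28) (kc xc10 yc6 zc28) (kc xc24 yc36 zc16) (kc xc15 yc53 zc3) (kc xc27 yc22 zc8) (kc xc10 yc6 zc32) (kc xc25 yc45 zc14) (kc xc25 yc44 zc27) (kc xc14 yc1 zc35) (kc xc27 yc38 zc52) (kc xc18 yc24 zc50) (kc xc10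 yc6 zc42) (kc xc20 yc22 zc36) (kc xc19 yc52 zc40) (kc xc10 yc6 zc39) (kc xc21 yc7 zc38) (kc xc12 yc28 zc22) (kc xc28 yc1 zc34) (kc xc24 yc32 zc50) (kc xc14 yc17 zc49) (kc xc16 yc14 zc15) (kc xc20 yc40 zc23) (kc xc27 yc43 zc61) (kc xc10 yc6 zc48) (kc xc26 yc57 zc59) (kc xc10 yc6 zc46) (kc xc20 yc19 zc56) (kc xc28 yc1 zc36) (kc xc10 yc6 zc47) (kc xc23 yc35 zc20) (kc xc17 yc58 zc19)) (@D3.rec (fun _ => Pt) (kc xc18 yc50 zc54) (kc xc18 yc38 zc25) (kc xc11 yc49 zc22) (kc xc11 yc24 zc52) (kc xc10 yc6 zc56) (kc xc18 yc50 zc55) (kc xc18 yc57 zc45) (kc xc12 yc2 zc59) (kc xc14 yc23 zc61) (kc xc14 yc55 zc58) (kc xc10 yc7 zc3) (kc xc27 yc56 zc20) (kc xc21 yc47 zc50) (kc xc18 yc32 zc35) (kc xc12 yc31 zc36) (kc xc10 yc7 zc4) (kc xc21 yc35 zc54) (kc xc10 yc7 zc6) (kc xc21 yc56 zc26)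 (kc xc21 yc47 zc48) (kc xc12 yc36 zc8) (kc xc10 yc19 zc2) (kc xc11 yc40 zc44) (kc xc20 yc40 zc24) (kc xc17 yc16 zc44) (kc xc28 yc1 zc44) (kc xc25 yc1 zc38) (kc xc18 yc45 zc52) (kc xc27 yc31 zc48) (kc xc28 yc1 zc46) (kc xc18 yc4 zc33) (kc xc14 yc9 zc29) (kc xc18 yc4 zc35) (kc xc15 yc9 zc52) (kc xc10 yc16 zc0) (kc xc10 yc16 zc1) (kc xc10 yc7 zc32) (kc xc18 yc38 zc41) (kc xc10 yc7 zc30) (kc xc10 yc7 zc31) (kc xc12 yc2 zc60) (kc xc18 yc10 zc23) (kc xc10 yc10 zc32) (kc xc13 yc26 zc31) (kc xc13 yc38 zc10) (kc xc16 yc20 zc43) (kc xc26 yc21 zc37) (kc xc18 yc41 zc12) (kc xc23 yc45 zc26) (kc xc18 yc41 zc14) (kc xc10 yc17 zc37) (kc xc15 yc12 zc31) (kc xc27 yc53 zc17) (kc xc27 yc52 zc6) (kc xc18 yc11 zc49) (kc xc25 yc16 zc31) (kc xc18 yc11 zc51) (kc xc12 yc8 zc27) (kc xc18 yc51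 zc36) (kc xc10 yc7 zc41) (kc xc28 yc2 zc3) (kc xc13 yc19 zc54)) (@D3.rec (fun _ => Pt) (kc xc10 yc7 zc42) (kc xc28 yc2 zc5) (kc xc28 yc2 zc6) (kc xc28 yc2 zc8) (kc xc28 yc2 zc11) (kc xc10 yc7 zc44) (kc xc15 yc12 zc53) (kc xc15 yc12 zc54) (kc xc15 yc10 zc45) (kc xc26 yc1 zc0) (kc xc28 yc2 zc19) (kc xc15 yc12 zc38) (kc xc24 yc57 zc33) (kc xc15 yc6 zc28) (kc xc16 yc15 zc14) (kc xc10 yc10 zc50) (kc xc10 yc7 zc53) (kc xc18 yc38 zc42) (kc xc26 yc39 zc23) (kc xc18 yc19 zc51) (kc xc18 yc22 zc11) (kc xc20 yc55 zc60) (kc xc18 yc33 zc39) (kc xc23 yc20 zc61) (kc xc24 yc46 zc2) (kc xc15 yc10 zc41) (kc xc26 yc18 zc53) (kc xc26 yc18 zc43) (kc xc27 yc27 zc9) (kc xc26 yc19 zc22) (kc xc15 yc12 zc39) (kc xc15 yc12 zc40) (kc xc17 yc37 zc35) (kc xc18 yc12 zc20) (kc xc17 yc38 zc41) (kc xc15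 yc12 zc49) (kc xc17 yc38 zc40) (kc xc10 yc11 zc28) (kc xc26 yc12 zc13) (kc xc10 yc8 zc7) (kc xc15 yc54 zc2) (kc xc27 yc27 zc51) (kc xc10 yc15 zc46) (kc xc10 yc15 zc47) (kc xc16 yc48 zc5) (kc xc27 yc25 zc13) (kc xc10 yc8 zc12) (kc xc11 yc54 zc15) (kc xc22 yc3 zc57) (kc xc20 yc55 zc59) (kc xc28 yc2 zc38) (kc xc25 yc0 zc54) (kc xc10 yc8 zc22) (kc xc28 yc2 zc42) (kc xc12 yc34 zc11) (kc xc10 yc19 zc38) (kc xc28 yc2 zc48) (kc xc10 yc8 zc19) (kc xc12 yc50 zc32) (kc xc16 yc35 zc0) (kc xc25 yc52 zc21) (kc xc18 yc46 zc59)) (@D3.rec (fun _ => Pt) (kc xc15 yc59 zc0) (kc xc10 yc8 zc20) (kc xc28 yc2 zc52) (kc xc27 yc47 zc11) (kc xc10 yc8 zc21) (kc xc28 yc2 zc53) (kc xc22 yc35 zc3) (kc xc28 yc2 zc56) (kc xc28 yc2 zc57) (kc xc10 yc8 zc23) (kc xc28 yc2 zc13) (kc xc22 yc36 zc23) (kc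 xc28 yc2 zc39) (kc xc22 yc35 zc2) (kc xc23 yc40 zc12) (kc xc10 yc16 zc24) (kc xc20 yc32 zc31) (kc xc15 yc9 zc53) (kc xc15 yc12 zc60) (kc xc15 yc12 zc61) (kc xc28 yc3 zc11) (kc xc15 yc10 zc31) (kc xc22 yc28 zc40) (kc xc28 yc3 zc15) (kc xc28 yc3 zc16) (kc xc28 yc3 zc17) (kc xc27 yc53 zc38) (kc xc10 yc8 zc30) (kc xc28 yc3 zc21) (kc xc18 yc6 zc18) (kc xc28 yc3 zc24) (kc xc10 yc8 zc33) (kc xc10 yc12 zc17) (kc xc28 yc3 zc27) (kc xc10 yc8 zc35) (kc xc18 yc49 zc38) (kc xc18 yc29 zc20) (kc xc22 yc55 zc47) (kc xc19 yc1 zc44) (kc xc26 yc30 zc58) (kc xc24 yc59 zc22) (kc xc10 yc8 zc42) (kc xc22 yc55 zc36) (kc xc24 yc54 zc9) (kc xc24 yc28 zc27) (kc xc16 yc22 zc34) (kc xc15 yc12 zc57) (kc xc15 yc10 zc21) (kc xc18 yc56 zc41) (kc xc10 yc12 zc47) (kc xc10 yc8 zc48) (kc xc18 yc6 zc40)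 (kc xc10 yc21 zc32) (kc xc10 yc8 zc50) (kc xc12 yc6 zc54) (kc xc28 yc3 zc33) (kc xc28 yc3 zc34) (kc xc10 yc8 zc51) (kc xc12 yc6 zc57) (kc xc28 yc3 zc35) (kc xc28 yc3 zc36) (kc xc27 yc34 zc27)) (@D3.rec (fun _ => Pt) (kc xc28 yc3 zc18) (kc xc10 yc8 zc55) (kc xc18 yc13 zc6) (kc xc10 yc28 zc45) (kc xc10 yc8 zc57) (kc xc26 yc9 zc40) (kc xc23 yc42 zc35) (kc xc10 yc8 zc58) (kc xc22 yc46 zc8) (kc xc19 yc22 zc27) (kc xc14 yc9 zc42) (kc xc23 yc1 zc61) (kc xc23 yc2 zc0) (kc xc10 yc8 zc60) (kc xc10 yc13 zc26) (kc xc10 yc22 zc43) (kc xc23 yc44 zc57) (kc xc10 yc22 zc40) (kc xc23 yc35 zc13) (kc xc13 yc13 zc61) (kc xc18 yc28 zc36) (kc xc10 yc9 zc7) (kc xc10 yc9 zc8) (kc xc22 yc45 zc40) (kc xc10 yc9 zc6) (kc xc27 yc44 zc40) (kc xc23 yc44 zc58) (kc xc10 yc13 zc47) (kc xc18 yc54 zc24)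 (kc xc20 yc47 zc24) (kc xc28 yc3 zc51) (kc xc10 yc21 zc31) (kc xc25 yc46 zc52) (kc xc10 yc9 zc9) (kc xc28 yc3 zc59) (kc xc24 yc13 zc61) (kc xc21 yc51 zc19) (kc xc10 yc9 zc12) (kc xc10 yc9 zc11) (kc xc28 yc4 zc0) (kc xc10 yc13 zc61) (kc xc12 yc24 zc44) (kc xc27 yc38 zc51) (kc xc10 yc9 zc13) (kc xc24 yc41 zc50) (kc xc10 yc9 zc14) (kc xc28 yc4 zc4) (kc xc10 yc9 zc15) (kc xc27 yc38 zc24) (kc xc25 yc16 zc18) (kc xc17 yc14 zc28) (kc xc10 yc9 zc17) (kc xc21 yc6 zc19) (kc xc23 yc44 zc33) (kc xc28 yc4 zc8) (kc xc18 yc57 zc57) (kc xc18 yc3 zc59) (kc xc16 yc33 zc11) (kc xc10 yc9 zc19) (kc xc15 yc10 zc44) (kc xc15 yc10 zc6) (kc xc28 yc4 zc10)) (@D3.rec (fun _ => Pt) (kc xc10 yc9 zc21) (kc xc14 yc9 zc59) (kc xc15 yc10 zc40) (kc xc27 yc24 zc57) (kc xc14 yc45 zc34) (kc xc13 yc51 zc11)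 (kc xc14 yc4 zc34) (kc xc13 yc51 zc12) (kc xc28 yc4 zc18) (kc xc14 yc4 zc35) (kc xc25 yc46 zc45) (kc xc27 yc35 zc12) (kc xc28 yc4 zc21) (kc xc15 yc9 zc17) (kc xc18 yc49 zc6) (kc xc28 yc4 zc23) (kc xc15 yc14 zc29) (kc xc28 yc4 zc25) (kc xc27 yc54 zc25) (kc xc10 yc9 zc28) (kc xc23 yc49 zc4) (kc xc18 yc55 zc58) (kc xc28 yc4 zc28) (kc xc10 yc9 zc31) (kc xc16 yc30 zc57) (kc xc16 yc22 zc16) (kc xc28 yc4 zc29) (kc xc10 yc9 zc35) (kc xc10 yc9 zc34) (kc xc16 yc21 zc16) (kc xc10 yc28 zc60) (kc xc18 yc49 zc30) (kc xc25 yc1 zc53) (kc xc18 yc49 zc31) (kc xc17 yc35 zc51) (kc xc28 yc4 zc40) (kc xc27 yc34 zc37) (kc xc27 yc34 zc36) (kc xc17 yc45 zc53) (kc xc28 yc4 zc47) (kc xc17 yc45 zc55) (kc xc10 yc33 zc36) (kc xc10 yc32 zc59) (kc xc18 yc9 zc36) (kc xc10 yc9 zc43) (kc xc19 yc1 zc10)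 (kc xc10 yc42 zc59) (kc xc11 yc4 zc35) (kc xc18 yc59 zc34) (kc xc10 yc30 zc3) (kc xc18 yc21 zc49) (kc xc16 yc33 zc59) (kc xc18 yc21 zc50) (kc xc19 yc8 zc4) (kc xc18 yc19 zc27) (kc xc18 yc19 zc28) (kc xc14 yc14 zc23) (kc xc10 yc9 zc53) (kc xc10 yc9 zc51) (kc xc10 yc9 zc52) (kc xc10 yc9 zc56) (kc xc28 yc5 zc12)) (@D3.rec (fun _ => Pt) (kc xc27 yc58 zc57) (kc xc28 yc5 zc10) (kc xc25 yc24 zc4) (kc xc18 yc46 zc21) (kc xc19 yc8 zc6) (kc xc10 yc24 zc59) (kc xc28 yc5 zc19) (kc xc26 yc18 zc51) (kc xc28 yc5 zc23) (kc xc18 yc40 zc33) (kc xc18 yc40 zc29) (kc xc18 yc39 zc52) (kc xc20 yc10 zc61) (kc xc16 yc20 zc37) (kc xc18 yc41 zc8) (kc xc16 yc40 zc1) (kc xc10 yc40 zc50) (kc xc10 yc20 zc31) (kc xc10 yc10 zc1) (kc xc28 yc5 zc37) (kc xc11 yc23 zc34) (kc xc17 yc50 zc47) (kc xc27 yc2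 zc5) (kc xc20 yc23 zc38) (kc xc23 yc53 zc52) (kc xc10 yc10 zc4) (kc xc28 yc5 zc44) (kc xc28 yc5 zc46) (kc xc10 yc30 zc50) (kc xc22 yc35 zc42) (kc xc10 yc10 zc8) (kc xc28 yc5 zc56) (kc xc28 yc5 zc60) (kc xc27 yc32 zc30) (kc xc24 yc12 zc48) (kc xc24 yc58 zc52) (kc xc28 yc6 zc5) (kc xc23 yc31 zc33) (kc xc28 yc6 zc6) (kc xc25 yc33 zc60) (kc xc28 yc6 zc9) (kc xc28 yc6 zc10) (kc xc10 yc10 zc11) (kc xc15 yc38 zc41) (kc xc18 yc58 zc48) (kc xc27 yc55 zc2) (kc xc25 yc57 zc61) (kc xc25 yc57 zc60) (kc xc27 yc55 zc1) (kc xc10 yc10 zc17) (kc xc18 yc12 zc42) (kc xc18 yc10 zc30) (kc xc10 yc10 zc24) (kc xc10 yc10 zc25) (kc xc18 yc21 zc37) (kc xc18 yc21 zc38) (kc xc28 yc6 zc29) (kc xc18 yc53 zc4) (kc xc10 yc10 zc20) (kc xc18 yc41 zc16) (kc xc10 yc10 zc21) (kc xc10 yc10 zc22)) (@D3.rec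 (fun _ => Pt) (kc xc17 yc47 zc41) (kc xc10 yc10 zc23) (kc xc23 yc23 zc60) (kc xc28 yc6 zc26) (kc xc28 yc6 zc36) (kc xc26 yc30 zc9) (kc xc28 yc2 zc36) (kc xc22 yc51 zc2) (kc xc11 yc55 zc45) (kc xc10 yc10 zc29) (kc xc18 yc20 zc15) (kc xc10 yc10 zc30) (kc xc28 yc6 zc43) (kc xc18 yc32 zc17) (kc xc10 yc10 zc31) (kc xc28 yc6 zc44) (kc xc18 yc41 zc31) (kc xc18 yc32 zc13) (kc xc18 yc39 zc10) (kc xc18 yc41 zc30) (kc xc11 yc21 zc23) (kc xc10 yc10 zc35) (kc xc28 yc5 zc38) (kc xc28 yc6 zc57) (kc xc10 yc10 zc36) (kc xc27 yc46 zc37) (kc xc27 yc2 zc45) (kc xc10 yc10 zc38) (kc xc28 yc5 zc40) (kc xc17 yc48 zc49) (kc xc27 yc37 zc45) (kc xc10 yc10 zc39) (kc xc11 yc58 zc27) (kc xc18 yc43 zc46) (kc xc10 yc10 zc41) (kc xc18 yc26 zc13) (kc xc16 yc48 zc55) (kc xc26 yc18 zc21) (kc xc10 yc10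 zc44) (kc xc23 yc35 zc57) (kc xc10 yc10 zc45) (kc xc10 yc10 zc49) (kc xc14 yc2 zc51) (kc xc28 yc7 zc4) (kc xc28 yc7 zc5) (kc xc28 yc2 zc25) (kc xc28 yc2 zc26) (kc xc16 yc23 zc40) (kc xc25 yc0 zc3) (kc xc11 yc15 zc46) (kc xc21 yc9 zc12) (kc xc17 yc19 zc38) (kc xc18 yc58 zc7) (kc xc18 yc20 zc24) (kc xc11 yc16 zc6) (kc xc10 yc10 zc58) (kc xc10 yc10 zc57) (kc xc16 yc18 zc50) (kc xc16 yc18 zc49) (kc xc17 yc41 zc24) (kc xc28 yc7 zc23) (kc xc28 yc7 zc24)) (@D3.rec (fun _ => Pt) (kc xc18 yc38 zc39) (kc xc18 yc51 zc32) (kc xc10 yc11 zc0) (kc xc17 yc50 zc50) (kc xc11 yc23 zc21) (kc xc18 yc20 zc39) (kc xc18 yc46 zc37) (kc xc10 yc11 zc22) (kc xc12 yc3 zc45) (kc xc18 yc48 zc0) (kc xc25 yc46 zc49) (kc xc17 yc50 zc48) (kc xc28 yc7 zc39) (kc xc10 yc11 zc26) (kc xc19 yc0 zc16) (kc xc19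 yc0 zc17) (kc xc23 yc51 zc58) (kc xc18 yc58 zc47) (kc xc18 yc5 zc33) (kc xc10 yc40 zc47) (kc xc10 yc40 zc58) (kc xc10 yc40 zc59) (kc xc10 yc11 zc7) (kc xc10 yc59 zc60) (kc xc28 yc7 zc50) (kc xc16 yc54 zc26) (kc xc10 yc11 zc10) (kc xc20 yc21 zc31) (kc xc18 yc46 zc28) (kc xc10 yc11 zc11) (kc xc18 yc53 zc48) (kc xc18 yc53 zc49) (kc xc10 yc11 zc31) (kc xc10 yc59 zc59) (kc xc15 yc31 zc30) (kc xc18 yc22 zc18) (kc xc10 yc11 zc17) (kc xc28 yc7 zc57) (kc xc18 yc9 zc57) (kc xc18 yc27 zc22) (kc xc10 yc11 zc18) (kc xc17 yc30 zc18) (kc xc25 yc2 zc58) (kc xc10 yc11 zc20) (kc xc28 yc7 zc27) (kc xc28 yc7 zc61) (kc xc18 yc38 zc12) (kc xc27 yc43 zc37) (kc xc27 yc58 zc40) (kc xc10 yc11 zc25) (kc xc17 yc48 zc48) (kc xc28 yc8 zc3) (kc xc27 yc38 zc32) (kc xc16 yc50 zc60) (kc xc10 yc11 zc30)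 (kc xc28 yc8 zc5) (kc xc24 yc49 zc28) (kc xc27 yc34 zc34) (kc xc27 yc34 zc30) (kc xc17 yc46 zc1) (kc xc28 yc8 zc9) (kc xc17 yc46 zc3)) (@D3.rec (fun _ => Pt) (kc xc10 yc34 zc7) (kc xc10 yc22 zc15) (kc xc10 yc33 zc1) (kc xc20 yc12 zc1) (kc xc10 yc11 zc37) (kc xc10 yc11 zc35) (kc xc28 yc8 zc17) (kc xc10 yc11 zc36) (kc xc28 yc8 zc19) (kc xc15 yc12 zc6) (kc xc15 yc14 zc44) (kc xc28 yc8 zc22) (kc xc10 yc21 zc10) (kc xc10 yc11 zc40) (kc xc28 yc8 zc25) (kc xc16 yc23 zc22) (kc xc17 yc11 zc54) (kc xc10 yc12 zc0) (kc xc10 yc11 zc43) (kc xc28 yc8 zc33) (kc xc28 yc8 zc38) (kc xc28 yc8 zc39) (kc xc28 yc8 zc42) (kc xc10 yc12 zc4) (kc xc22 yc20 zc12) (kc xc28 yc8 zc45) (kc xc28 yc8 zc48) (kc xc24 yc13 zc4) (kc xc25 yc0 zc38) (kc xc23 yc54 zc33) (kc xc26 yc32 zc28) (kc xc23 yc54 zc34)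 (kc xc26 yc32 zc10) (kc xc28 yc8 zc56) (kc xc10 yc11 zc48) (kc xc20 yc12 zc0) (kc xc28 yc8 zc57) (kc xc16 yc34 zc44) (kc xc18 yc59 zc15) (kc xc28 yc9 zc0) (kc xc10 yc11 zc52) (kc xc22 yc2 zc47) (kc xc27 yc6 zc9) (kc xc27 yc6 zc8) (kc xc28 yc9 zc5) (kc xc10 yc11 zc56) (kc xc10 yc11 zc55) (kc xc18 yc35 zc45) (kc xc27 yc2 zc48) (kc xc10 yc11 zc58) (kc xc28 yc8 zc26) (kc xc27 yc47 zc25) (kc xc27 yc2 zc47) (kc xc27 yc55 zc27) (kc xc28 yc9 zc13) (kc xc15 yc43 zc50) (kc xc28 yc8 zc32) (kc xc10 yc12 zc1) (kc xc28 yc9 zc16) (kc xc27 yc54 zc42) (kc xc17 yc30 zc21) (kc xc10 yc12 zc2)) (@D3.rec (fun _ => Pt) (kc xc23 yc37 zc36) (kc xc27 yc36 zc45) (kc xc14 yc6 zc54) (kc xc10 yc12 zc8) (kc xc15 yc5 zc42) (kc xc10 yc12 zc11) (kc xc10 yc12 zc14) (kc xc21 yc43 zc28) (kc xc10 yc12 zc13)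 (kc xc17 yc29 zc52) (kc xc28 yc9 zc19) (kc xc27 yc39 zc34) (kc xc27 yc31 zc9) (kc xc22 yc42 zc33) (kc xc27 yc31 zc8) (kc xc28 yc9 zc22) (kc xc18 yc51 zc43) (kc xc11 yc23 zc18) (kc xc12 yc2 zc20) (kc xc18 yc45 zc36) (kc xc10 yc12 zc24) (kc xc19 yc50 zc50) (kc xc18 yc59 zc37) (kc xc27 yc49 zc37) (kc xc18 yc59 zc14) (kc xc18 yc6 zc33) (kc xc18 yc54 zc38) (kc xc27 yc51 zc14) (kc xc27 yc51 zc9) (kc xc10 yc12 zc29) (kc xc12 yc8 zc48) (kc xc28 yc6 zc12) (kc xc10 yc12 zc33) (kc xc18 yc47 zc32) (kc xc28 yc6 zc13) (kc xc18 yc36 zc56) (kc xc10 yc12 zc39) (kc xc27 yc54 zc5) (kc xc23 yc21 zc54) (kc xc27 yc36 zc44) (kc xc18 yc37 zc32) (kc xc21 yc4 zc37) (kc xc28 yc3 zc32) (kc xc27 yc38 zc47) (kc xc10 yc12 zc50) (kc xc18 yc34 zc47) (kc xc18 yc12 zc53) (kc xc18 yc14 zc35) (kc xc18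 yc7 zc36) (kc xc18 yc14 zc34) (kc xc28 yc3 zc40) (kc xc10 yc12 zc54) (kc xc10 yc12 zc53) (kc xc16 yc20 zc19) (kc xc10 yc12 zc55) (kc xc21 yc35 zc49) (kc xc28 yc9 zc41) (kc xc10 yc12 zc57) (kc xc21 yc45 zc7) (kc xc10 yc12 zc59) (kc xc22 yc29 zc38) (kc xc21 yc12 zc48)) (@D3.rec (fun _ => Pt) (kc xc10 yc13 zc0) (kc xc28 yc9 zc45) (kc xc27 yc54 zc21) (kc xc27 yc54 zc17) (kc xc28 yc9 zc49) (kc xc10 yc13 zc6) (kc xc28 yc9 zc51) (kc xc27 yc50 zc16) (kc xc10 yc13 zc3) (kc xc21 yc52 zc20) (kc xc22 yc29 zc15) (kc xc24 yc40 zc31) (kc xc10 yc13 zc4) (kc xc20 yc16 zc9) (kc xc21 yc12 zc17) (kc xc21 yc38 zc61) (kc xc10 yc13 zc5) (kc xc12 yc16 zc18) (kc xc17 yc6 zc48) (kc xc11 yc24 zc9) (kc xc12 yc58 zc8) (kc xc10 yc25 zc57) (kc xc18 yc54 zc41) (kc xc10 yc36 zc43) (kc xc10 yc13 zc14)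 (kc xc22 yc29 zc16) (kc xc22 yc27 zc53) (kc xc18 yc3 zc30) (kc xc17 yc47 zc56) (kc xc12 yc39 zc37) (kc xc12 yc38 zc15) (kc xc28 yc9 zc58) (kc xc27 yc32 zc18) (kc xc26 yc14 zc51) (kc xc11 yc23 zc27) (kc xc13 yc19 zc47) (kc xc28 yc9 zc61) (kc xc28 yc10 zc0) (kc xc12 yc1 zc37) (kc xc13 yc1 zc1) (kc xc27 yc55 zc30) (kc xc22 yc45 zc38) (kc xc10 yc13 zc30) (kc xc10 yc13 zc29) (kc xc18 yc24 zc20) (kc xc11 yc43 zc22) (kc xc18 yc57 zc30) (kc xc10 yc25 zc56) (kc xc10 yc13 zc39) (kc xc28 yc10 zc2) (kc xc18 yc56 zc58) (kc xc10 yc36 zc39) (kc xc11 yc26 zc8) (kc xc10 yc25 zc60) (kc xc17 yc47 zc22) (kc xc28 yc10 zc4) (kc xc18 yc35 zc35) (kc xc28 yc10 zc5) (kc xc15 yc58 zc61) (kc xc22 yc14 zc55) (kc xc23 yc2 zc1) (kc xc11 yc44 zc18)) (@D3.rec (fun _ => Pt) (kc xc10 yc25 zc58) (kc xc28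 yc10 zc6) (kc xc14 yc9 zc52) (kc xc22 yc45 zc39) (kc xc18 yc49 zc50) (kc xc10 yc13 zc49) (kc xc10 yc13 zc50) (kc xc12 yc41 zc11) (kc xc18 yc49 zc48) (kc xc22 yc46 zc10) (kc xc10 yc13 zc45) (kc xc21 yc25 zc56) (kc xc11 yc46 zc8) (kc xc23 yc54 zc5) (kc xc22 yc42 zc24) (kc xc11 yc43 zc21) (kc xc18 yc12 zc52) (kc xc13 yc1 zc2) (kc xc27 yc55 zc31) (kc xc10 yc13 zc56) (kc xc23 yc53 zc53) (kc xc10 yc13 zc55) (kc xc10 yc13 zc54) (kc xc18 yc24 zc9) (kc xc18 yc14 zc42) (kc xc18 yc14 zc43) (kc xc14 yc57 zc7) (kc xc27 yc55 zc33) (kc xc28 yc10 zc13) (kc xc28 yc10 zc11) (kc xc22 yc46 zc11) (kc xc28 yc10 zc14) (kc xc18 yc35 zc40) (kc xc17 yc13 zc23) (kc xc10 yc14 zc1) (kc xc22 yc46 zc7) (kc xc10 yc13 zc60) (kc xc18 yc38 zc6) (kc xc16 yc15 zc48) (kc xc18 yc24 zc19) (kc xc10 yc14 zc0)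 (kc xc10 yc45 zc49) (kc xc25 yc2 zc38) (kc xc10 yc14 zc3) (kc xc10 yc27 zc32) (kc xc18 yc49 zc47) (kc xc23 yc36 zc27) (kc xc20 yc37 zc37) (kc xc17 yc5 zc22) (kc xc12 yc41 zc19) (kc xc21 yc9 zc47) (kc xc21 yc37 zc41) (kc xc28 yc10 zc20) (kc xc28 yc10 zc21) (kc xc14 yc45 zc49) (kc xc20 yc13 zc17) (kc xc23 yc36 zc18) (kc xc21 yc35 zc46) (kc xc24 yc33 zc13) (kc xc28 yc3 zc52) (kc xc10 yc14 zc12) (kc xc11 yc45 zc16)) (@D3.rec (fun _ => Pt) (kc xc11 yc45 zc8) (kc xc10 yc14 zc15) (kc xc24 yc7 zc30) (kc xc10 yc14 zc14) (kc xc28 yc10 zc25) (kc xc10 yc14 zc16) (kc xc18 yc37 zc37) (kc xc27 yc54 zc13) (kc xc10 yc14 zc17) (kc xc12 yc20 zc7) (kc xc28 yc10 zc29) (kc xc21 yc20 zc37) (kc xc18 yc33 zc46) (kc xc10 yc14 zc21) (kc xc20 yc41 zc0) (kc xc20 yc40 zc58) (kc xc19 yc17 zc38) (kc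 xc11 yc29 zc8) (kc xc10 yc18 zc51) (kc xc12 yc1 zc25) (kc xc10 yc45 zc51) (kc xc10 yc53 zc19) (kc xc16 yc57 zc24) (kc xc10 yc57 zc24) (kc xc14 yc29 zc22) (kc xc18 yc26 zc1) (kc xc11 yc31 zc33) (kc xc11 yc51 zc4) (kc xc17 yc19 zc31) (kc xc18 yc24 zc0) (kc xc12 yc31 zc13) (kc xc10 yc14 zc36) (kc xc10 yc14 zc40) (kc xc28 yc10 zc35) (kc xc10 yc14 zc39) (kc xc10 yc14 zc38) (kc xc12 yc50 zc0) (kc xc18 yc8 zc57) (kc xc18 yc8 zc58) (kc xc18 yc33 zc0) (kc xc18 yc9 zc18) (kc xc18 yc26 zc37) (kc xc18 yc27 zc17) (kc xc17 yc41 zc7) (kc xc10 yc14 zc50) (kc xc10 yc15 zc16) (kc xc10 yc14 zc56) (kc xc22 yc18 zc32) (kc xc27 yc51 zc6) (kc xc27 yc29 zc43) (kc xc28 yc10 zc47) (kc xc10 yc15 zc20) (kc xc27 yc35 zc4) (kc xc27 yc35 zc5) (kc xc13 yc59 zc25) (kc xc27 yc33 zc58) (kc xc25 yc57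 zc59) (kc xc26 yc3 zc35) (kc xc26 yc4 zc26) (kc xc28 yc10 zc53) (kc xc25 yc0 zc13) (kc xc28 yc10 zc54)) (@D3.rec (fun _ => Pt) (kc xc10 yc14 zc61) (kc xc28 yc10 zc57) (kc xc15 yc11 zc4) (kc xc27 yc32 zc14) (kc xc26 yc0 zc58) (kc xc26 yc12 zc55) (kc xc28 yc11 zc1) (kc xc18 yc11 zc42) (kc xc10 yc15 zc8) (kc xc19 yc26 zc4) (kc xc18 yc32 zc18) (kc xc18 yc12 zc6) (kc xc18 yc10 zc33) (kc xc18 yc10 zc40) (kc xc18 yc12 zc4) (kc xc18 yc20 zc35) (kc xc10 yc39 zc23) (kc xc10 yc15 zc13) (kc xc26 yc50 zc7) (kc xc27 yc55 zc46) (kc xc10 yc31 zc14) (kc xc28 yc11 zc10) (kc xc28 yc11 zc11) (kc xc16 yc18 zc11) (kc xc28 yc10 zc41) (kc xc10 yc15 zc17) (kc xc10 yc39 zc59) (kc xc10 yc15 zc18) (kc xc27 yc46 zc31) (kc xc23 yc7 zc17) (kc xc28 yc11 zc15) (kc xc10 yc15 zc22) (kc xc10 yc15 zc23)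 (kc xc28 yc11 zc18) (kc xc17 yc30 zc12) (kc xc25 yc39 zc25) (kc xc17 yc30 zc11) (kc xc12 yc4 zc14) (kc xc12 yc32 zc11) (kc xc18 yc50 zc51) (kc xc28 yc1 zc14) (kc xc10 yc15 zc31) (kc xc27 yc38 zc5) (kc xc18 yc50 zc52) (kc xc18 yc12 zc32) (kc xc18 yc12 zc33) (kc xc23 yc32 zc29) (kc xc27 yc20 zc21) (kc xc11 yc37 zc39) (kc xc11 yc57 zc29) (kc xc22 yc22 zc30) (kc xc18 yc11 zc41) (kc xc18 yc31 zc11) (kc xc28 yc11 zc22) (kc xc28 yc11 zc23) (kc xc20 yc59 zc38) (kc xc20 yc5 zc18) (kc xc24 yc51 zc24) (kc xc24 yc51 zc25) (kc xc24 yc48 zc46) (kc xc15 yc11 zc22) (kc xc18 yc6 zc13)) (@D3.rec (fun _ => Pt) (kc xc24 yc17 zc37) (kc xc28 yc11 zc27) (kc xc20 yc59 zc5) (kc xc26 yc25 zc31) (kc xc17 yc33 zc39) (kc xc28 yc11 zc31) (kc xc28 yc11 zc34) (kc xc22 yc5 zc3) (kc xc21 yc12 zc58)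 (kc xc23 yc20 zc51) (kc xc28 yc11 zc39) (kc xc10 yc15 zc53) (kc xc23 yc46 zc18) (kc xc17 yc59 zc36) (kc xc18 yc1 zc22) (kc xc20 yc17 zc2) (kc xc16 yc10 zc49) (kc xc16 yc10 zc50) (kc xc25 yc42 zc59) (kc xc16 yc10 zc28) (kc xc25 yc25 zc49) (kc xc28 yc11 zc54) (kc xc28 yc11 zc56) (kc xc28 yc11 zc59) (kc xc10 yc15 zc57) (kc xc28 yc12 zc0) (kc xc21 yc0 zc1) (kc xc23 yc40 zc33) (kc xc24 yc52 zc27) (kc xc18 yc31 zc10) (kc xc14 yc54 zc51) (kc xc28 yc6 zc47) (kc xc28 yc5 zc11) (kc xc18 yc31 zc9) (kc xc27 yc56 zc45) (kc xc27 yc56 zc46) (kc xc23 yc46 zc56) (kc xc13 yc50 zc56) (kc xc10 yc16 zc7) (kc xc27 yc39 zc6) (kc xc25 yc39 zc36) (kc xc28 yc0 zc39) (kc xc25 yc2 zc50) (kc xc25 yc2 zc49) (kc xc10 yc16 zc19) (kc xc10 yc16 zc16) (kc xc27 yc57 zc59) (kc xc28 yc12 zc17) (kc xc23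 yc21 zc32) (kc xc10 yc16 zc17) (kc xc28 yc12 zc20) (kc xc16 yc10 zc16) (kc xc16 yc10 zc17) (kc xc16 yc12 zc48) (kc xc14 yc45 zc37) (kc xc13 yc50 zc48) (kc xc13 yc16 zc21) (kc xc15 yc10 zc34) (kc xc15 yc10 zc35) (kc xc12 yc23 zc6) (kc xc10 yc16 zc23) (kc xc10 yc16 zc21)) (@D3.rec (fun _ => Pt) (kc xc27 yc3 zc22) (kc xc28 yc12 zc30) (kc xc28 yc12 zc34) (kc xc10 yc16 zc22) (kc xc24 yc54 zc15) (kc xc24 yc31 zc42) (kc xc28 yc6 zc51) (kc xc20 yc11 zc5) (kc xc18 yc31 zc14) (kc xc18 yc12 zc34) (kc xc23 yc43 zc24) (kc xc23 yc43 zc22) (kc xc18 yc26 zc47) (kc xc19 yc49 zc55) (kc xc18 yc26 zc49) (kc xc27 yc12 zc25) (kc xc18 yc31 zc59) (kc xc20 yc20 zc12) (kc xc10 yc16 zc31) (kc xc10 yc16 zc30) (kc xc28 yc12 zc46) (kc xc18 yc45 zc40) (kc xc24 yc25 zc39) (kc xc18 yc45 zc41) (kc xc25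 yc17 zc2) (kc xc15 yc51 zc47) (kc xc18 yc8 zc56) (kc xc28 yc12 zc53) (kc xc18 yc5 zc16) (kc xc21 yc8 zc8) (kc xc18 yc32 zc19) (kc xc18 yc32 zc16) (kc xc25 yc17 zc9) (kc xc16 yc13 zc29) (kc xc10 yc17 zc6) (kc xc10 yc24 zc10) (kc xc12 yc56 zc30) (kc xc27 yc10 zc15) (kc xc18 yc14 zc48) (kc xc17 yc47 zc46) (kc xc18 yc9 zc27) (kc xc12 yc1 zc27) (kc xc12 yc1 zc23) (kc xc10 yc16 zc54) (kc xc18 yc20 zc14) (kc xc18 yc53 zc55) (kc xc10 yc16 zc55) (kc xc19 yc12 zc30) (kc xc28 yc13 zc1) (kc xc10 yc16 zc57) (kc xc13 yc40 zc52) (kc xc23 yc7 zc15) (kc xc10 yc41 zc33) (kc xc10 yc17 zc2) (kc xc11 yc9 zc27) (kc xc10 yc17 zc4) (kc xc10 yc17 zc5) (kc xc28 yc13 zc4) (kc xc26 yc51 zc20) (kc xc17 yc34 zc29) (kc xc10 yc17 zc7) (kc xc10 yc17 zc8)) (@D3.rec (fun _ => Pt) (kc xc13 yc49 zc45)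 (kc xc20 yc33 zc37) (kc xc26 yc24 zc48) (kc xc16 yc29 zc43) (kc xc17 yc57 zc54) (kc xc10 yc17 zc12) (kc xc28 yc13 zc7) (kc xc18 yc25 zc14) (kc xc27 yc37 zc10) (kc xc10 yc17 zc15) (kc xc10 yc17 zc14) (kc xc25 yc18 zc37) (kc xc10 yc17 zc16) (kc xc18 yc17 zc32) (kc xc11 yc12 zc38) (kc xc14 yc15 zc54) (kc xc20 yc52 zc5) (kc xc10 yc17 zc26) (kc xc17 yc20 zc59) (kc xc10 yc17 zc29) (kc xc19 yc1 zc30) (kc xc10 yc17 zc33) (kc xc17 yc3 zc20) (kc xc10 yc17 zc31) (kc xc18 yc20 zc12) (kc xc11 yc11 zc47) (kc xc16 yc2 zc44) (kc xc10 yc22 zc29) (kc xc10 yc17 zc32) (kc xc13 yc51 zc40) (kc xc13 yc15 zc47) (kc xc27 yc55 zc54) (kc xc15 yc22 zc46) (kc xc15 yc22 zc47) (kc xc28 yc13 zc27) (kc xc10 yc17 zc38) (kc xc22 yc31 zc30) (kc xc10 yc17 zc35) (kc xc14 yc9 zc34) (kc xc28 yc13 zc32) (kc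 xc28 yc13 zc33) (kc xc10 yc17 zc36) (kc xc22 yc46 zc4) (kc xc22 yc46 zc5) (kc xc28 yc1 zc59) (kc xc14 yc16 zc39) (kc xc11 yc26 zc6) (kc xc15 yc26 zc37) (kc xc15 yc26 zc30) (kc xc10 yc17 zc42) (kc xc28 yc13 zc41) (kc xc18 yc24 zc31) (kc xc10 yc17 zc47) (kc xc14 yc14 zc14) (kc xc10 yc18 zc2) (kc xc16 yc3 zc21) (kc xc10 yc17 zc49) (kc xc27 yc36 zc37) (kc xc10 yc17 zc54) (kc xc28 yc13 zc46) (kc xc11 yc58 zc34) (kc xc10 yc17 zc57)) (@D3.rec (fun _ => Pt) (kc xc28 yc13 zc49) (kc xc10 yc17 zc58) (kc xc10 yc17 zc60) (kc xc11 yc28 zc54) (kc xc18 yc22 zc41) (kc xc15 yc26 zc21) (kc xc15 yc13 zc22) (kc xc11 yc13 zc47) (kc xc10 yc18 zc1) (kc xc20 yc45 zc1) (kc xc20 yc35 zc61) (kc xc28 yc13 zc54) (kc xc12 yc57 zc30) (kc xc10 yc18 zc6) (kc xc21 yc2 zc46) (kc xc12 yc20 zc34) (kc xc10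 yc18 zc12) (kc xc14 yc33 zc15) (kc xc17 yc22 zc25) (kc xc18 yc1 zc36) (kc xc10 yc18 zc22) (kc xc10 yc18 zc24) (kc xc22 yc48 zc9) (kc xc10 yc18 zc26) (kc xc20 yc33 zc17) (kc xc20 yc33 zc18) (kc xc26 yc52 zc60) (kc xc10 yc18 zc29) (kc xc21 yc36 zc15) (kc xc18 yc57 zc31) (kc xc10 yc18 zc35) (kc xc12 yc30 zc4) (kc xc12 yc30 zc10) (kc xc20 yc51 zc52) (kc xc10 yc18 zc36) (kc xc28 yc13 zc58) (kc xc21 yc15 zc46) (kc xc27 yc53 zc31) (kc xc10 yc18 zc39) (kc xc20 yc28 zc28) (kc xc10 yc18 zc41) (kc xc26 yc25 zc49) (kc xc12 yc2 zc18) (kc xc10 yc18 zc50) (kc xc12 yc34 zc39) (kc xc17 yc0 zc3) (kc xc18 yc32 zc33) (kc xc18 yc50 zc38) (kc xc10 yc18 zc56) (kc xc11 yc42 zc11) (kc xc12 yc29 zc45) (kc xc20 yc26 zc11) (kc xc17 yc40 zc10) (kc xc10 yc19 zc0) (kc xc14 yc4 zc47) (kc xc18 yc43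 zc56) (kc xc18 yc43 zc55) (kc xc19 yc27 zc36) (kc xc21 yc18 zc52) (kc xc27 yc29 zc36) (kc xc15 yc24 zc14) (kc xc26 yc23 zc23)) (@D3.rec (fun _ => Pt) (kc xc16 yc44 zc5) (kc xc10 yc19 zc12) (kc xc20 yc11 zc59) (kc xc28 yc14 zc3) (kc xc25 yc5 zc17) (kc xc10 yc19 zc13) (kc xc28 yc14 zc8) (kc xc28 yc14 zc7) (kc xc28 yc14 zc11) (kc xc20 yc19 zc2) (kc xc25 yc25 zc39) (kc xc10 yc19 zc15) (kc xc28 yc14 zc13) (kc xc25 yc47 zc49) (kc xc25 yc47 zc52) (kc xc10 yc19 zc24) (kc xc10 yc54 zc35) (kc xc15 yc42 zc43) (kc xc15 yc57 zc41) (kc xc15 yc57 zc39) (kc xc19 yc4 zc23) (kc xc10 yc19 zc22) (kc xc26 yc27 zc32) (kc xc28 yc14 zc24) (kc xc10 yc19 zc23) (kc xc28 yc14 zc29) (kc xc28 yc14 zc28) (kc xc17 yc3 zc41) (kc xc11 yc7 zc53) (kc xc10 yc19 zc25) (kc xc26 yc30 zc3) (kc xc18 yc22 zc2)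 (kc xc15 yc57 zc60) (kc xc16 yc2 zc16) (kc xc16 yc2 zc17) (kc xc15 yc27 zc47) (kc xc10 yc19 zc29) (kc xc15 yc55 zc9) (kc xc25 yc51 zc28) (kc xc28 yc5 zc36) (kc xc18 yc12 zc0) (kc xc26 yc32 zc7) (kc xc17 yc34 zc0) (kc xc23 yc23 zc61) (kc xc18 yc5 zc19) (kc xc12 yc47 zc29) (kc xc16 yc16 zc11) (kc xc11 yc54 zc57) (kc xc28 yc8 zc23) (kc xc18 yc14 zc33) (kc xc24 yc47 zc58) (kc xc17 yc33 zc58) (kc xc24 yc47 zc60) (kc xc13 yc20 zc25) (kc xc15 yc50 zc44) (kc xc28 yc14 zc47) (kc xc10 yc19 zc39) (kc xc19 yc41 zc4) (kc xc19 yc0 zc53) (kc xc18 yc58 zc59) (kc xc10 yc28 zc54) (kc xc16 yc53 zc25)) (@D3.rec (fun _ => Pt) (kc xc10 yc28 zc56) (kc xc10 yc44 zc2) (kc xc28 yc14 zc55) (kc xc15 yc50 zc56) (kc xc18 yc51 zc52) (kc xc25 yc23 zc58) (kc xc13 yc29 zc31) (kc xc10 yc19 zc43) (kc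 xc25 yc18 zc31) (kc xc28 yc14 zc61) (kc xc27 yc54 zc47) (kc xc10 yc19 zc44) (kc xc12 yc7 zc23) (kc xc14 yc15 zc24) (kc xc28 yc15 zc6) (kc xc26 yc29 zc23) (kc xc10 yc19 zc46) (kc xc20 yc7 zc51) (kc xc18 yc52 zc7) (kc xc10 yc59 zc36) (kc xc10 yc21 zc58) (kc xc17 yc20 zc12) (kc xc28 yc15 zc11) (kc xc11 yc44 zc15) (kc xc13 yc53 zc51) (kc xc10 yc20 zc10) (kc xc18 yc5 zc12) (kc xc18 yc54 zc12) (kc xc27 yc43 zc7) (kc xc17 yc33 zc15) (kc xc28 yc15 zc13) (kc xc10 yc20 zc0) (kc xc19 yc24 zc7) (kc xc28 yc15 zc14) (kc xc28 yc15 zc16) (kc xc18 yc53 zc0) (kc xc18 yc35 zc19) (kc xc18 yc10 zc50) (kc xc28 yc13 zc0) (kc xc16 yc21 zc29) (kc xc18 yc41 zc21) (kc xc18 yc41 zc23) (kc xc10 yc20 zc8) (kc xc19 yc50 zc60) (kc xc10 yc20 zc9) (kc xc28 yc15 zc23) (kc xc26 yc55 zc18) (kc xc21 yc44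 zc23) (kc xc10 yc20 zc11) (kc xc27 yc42 zc15) (kc xc25 yc45 zc19) (kc xc26 yc32 zc21) (kc xc18 yc26 zc27) (kc xc18 yc53 zc43) (kc xc28 yc15 zc30) (kc xc28 yc1 zc43) (kc xc10 yc20 zc32) (kc xc28 yc15 zc37) (kc xc10 yc20 zc34) (kc xc10 yc34 zc49) (kc xc28 yc15 zc41) (kc xc18 yc9 zc16)) (@D3.rec (fun _ => Pt) (kc xc12 yc54 zc32) (kc xc12 yc54 zc34) (kc xc20 yc58 zc6) (kc xc20 yc58 zc11) (kc xc28 yc15 zc50) (kc xc18 yc53 zc5) (kc xc10 yc20 zc27) (kc xc13 yc41 zc17) (kc xc11 yc13 zc39) (kc xc10 yc20 zc30) (kc xc21 yc51 zc14) (kc xc16 yc21 zc22) (kc xc17 yc51 zc23) (kc xc17 yc33 zc61) (kc xc28 yc15 zc34) (kc xc25 yc25 zc22) (kc xc20 yc13 zc54) (kc xc21 yc9 zc46) (kc xc28 yc15 zc55) (kc xc27 yc49 zc33) (kc xc26 yc33 zc46) (kc xc18 yc31 zc3) (kc xc26 yc33 zc9) (kc xc19 yc5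 zc6) (kc xc16 yc39 zc31) (kc xc18 yc54 zc10) (kc xc10 yc20 zc41) (kc xc18 yc52 zc21) (kc xc18 yc33 zc28) (kc xc25 yc17 zc1) (kc xc26 yc33 zc52) (kc xc10 yc20 zc43) (kc xc22 yc4 zc51) (kc xc17 yc33 zc14) (kc xc25 yc16 zc61) (kc xc28 yc16 zc6) (kc xc18 yc54 zc32) (kc xc18 yc33 zc6) (kc xc17 yc47 zc37) (kc xc17 yc47 zc49) (kc xc28 yc16 zc14) (kc xc15 yc11 zc42) (kc xc10 yc20 zc50) (kc xc28 yc3 zc56) (kc xc28 yc16 zc18) (kc xc10 yc20 zc51) (kc xc27 yc45 zc18) (kc xc10 yc20 zc53) (kc xc28 yc16 zc21) (kc xc21 yc4 zc40) (kc xc28 yc16 zc28) (kc xc27 yc45 zc23) (kc xc27 yc42 zc54) (kc xc14 yc42 zc49) (kc xc14 yc42 zc51) (kc xc25 yc51 zc52) (kc xc27 yc32 zc41) (kc xc28 yc16 zc34) (kc xc28 yc16 zc35) (kc xc18 yc27 zc61) (kc xc28 yc16 zc37) (kc xc28 yc16 zc39)) (@D3.rec (fun _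 => Pt) (kc xc10 yc20 zc59) (kc xc28 yc16 zc45) (kc xc18 yc54 zc37) (kc xc28 yc16 zc47) (kc xc28 yc16 zc48) (kc xc21 yc9 zc20) (kc xc28 yc2 zc37) (kc xc10 yc21 zc11) (kc xc28 yc16 zc52) (kc xc10 yc21 zc13) (kc xc10 yc34 zc21) (kc xc27 yc4 zc45) (kc xc18 yc14 zc54) (kc xc10 yc29 zc56) (kc xc10 yc21 zc9) (kc xc18 yc15 zc44) (kc xc28 yc8 zc24) (kc xc17 yc33 zc53) (kc xc28 yc16 zc50) (kc xc25 yc25 zc26) (kc xc12 yc44 zc50) (kc xc10 yc21 zc12) (kc xc18 yc14 zc0) (kc xc28 yc17 zc6) (kc xc27 yc53 zc60) (kc xc28 yc17 zc10) (kc xc27 yc55 zc21) (kc xc19 yc25 zc27) (kc xc22 yc25 zc23) (kc xc18 yc56 zc35) (kc xc25 yc53 zc48) (kc xc25 yc46 zc51) (kc xc18 yc35 zc33) (kc xc28 yc17 zc16) (kc xc26 yc42 zc12) (kc xc10 yc21 zc17) (kc xc25 yc30 zc42) (kc xc18 yc54 zc53) (kc xc10 yc21 zc22)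 (kc xc19 yc43 zc30) (kc xc26 yc53 zc16) (kc xc22 yc50 zc31) (kc xc10 yc21 zc23) (kc xc10 yc49 zc22) (kc xc16 yc53 zc24) (kc xc16 yc22 zc31) (kc xc21 yc16 zc16) (kc xc11 yc27 zc35) (kc xc28 yc17 zc21) (kc xc20 yc0 zc4) (kc xc28 yc17 zc24) (kc xc19 yc1 zc36) (kc xc12 yc9 zc38) (kc xc17 yc11 zc37) (kc xc25 yc51 zc51) (kc xc12 yc34 zc9) (kc xc28 yc16 zc41) (kc xc28 yc16 zc42) (kc xc10 yc21 zc29) (kc xc28 yc17 zc35) (kc xc24 yc47 zc57) (kc xc22 yc38 zc60)) (@D3.rec (fun _ => Pt) (kc xc18 yc33 zc9) (kc xc22 yc38 zc59) (kc xc28 yc2 zc55) (kc xc23 yc37 zc8) (kc xc21 yc4 zc34) (kc xc14 yc2 zc58) (kc xc23 yc23 zc4) (kc xc10 yc21 zc34) (kc xc28 yc17 zc41) (kc xc22 yc10 zc34) (kc xc21 yc5 zc26) (kc xc21 yc4 zc35) (kc xc25 yc51 zc47) (kc xc23 yc4 zc12) (kc xc13 yc22 zc52) (kc xc25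 yc59 zc36) (kc xc10 yc21 zc37) (kc xc28 yc17 zc49) (kc xc10 yc22 zc35) (kc xc20 yc27 zc3) (kc xc27 yc34 zc46) (kc xc21 yc37 zc50) (kc xc10 yc21 zc41) (kc xc16 yc53 zc39) (kc xc27 yc59 zc54) (kc xc10 yc22 zc49) (kc xc20 yc43 zc0) (kc xc27 yc55 zc61) (kc xc25 yc3 zc43) (kc xc27 yc56 zc4) (kc xc10 yc21 zc45) (kc xc26 yc57 zc61) (kc xc28 yc17 zc61) (kc xc10 yc21 zc47) (kc xc28 yc18 zc1) (kc xc20 yc12 zc25) (kc xc10 yc39 zc25) (kc xc10 yc21 zc56) (kc xc21 yc51 zc53) (kc xc10 yc21 zc50) (kc xc10 yc21 zc51) (kc xc10 yc58 zc24) (kc xc10 yc58 zc25) (kc xc28 yc18 zc4) (kc xc24 yc19 zc11) (kc xc28 yc18 zc12) (kc xc11 yc0 zc20) (kc xc26 yc2 zc55) (kc xc10 yc21 zc54) (kc xc15 yc50 zc60) (kc xc11 yc15 zc26) (kc xc16 yc51 zc43) (kc xc26 yc39 zc61) (kc xc20 yc11 zc47) (kc xc26 yc35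 zc53) (kc xc10 yc59 zc30) (kc xc26 yc46 zc15) (kc xc24 yc27 zc58) (kc xc28 yc18 zc19) (kc xc28 yc18 zc21) (kc xc14 yc58 zc43) (kc xc28 yc18 zc23)) (@D3.rec (fun _ => Pt) (kc xc16 yc21 zc53) (kc xc18 yc8 zc48) (kc xc28 yc18 zc24) (kc xc28 yc18 zc26) (kc xc28 yc18 zc28) (kc xc10 yc22 zc2) (kc xc18 yc30 zc14) (kc xc28 yc18 zc34) (kc xc10 yc22 zc5) (kc xc10 yc22 zc4) (kc xc28 yc5 zc2) (kc xc27 yc33 zc29) (kc xc28 yc18 zc37) (kc xc10 yc22 zc8) (kc xc28 yc18 zc41) (kc xc24 yc40 zc32) (kc xc25 yc30 zc57) (kc xc11 yc20 zc12) (kc xc27 yc32 zc43) (kc xc28 yc18 zc44) (kc xc26 yc20 zc8) (kc xc28 yc18 zc45) (kc xc28 yc7 zc42) (kc xc22 yc15 zc27) (kc xc10 yc22 zc17) (kc xc25 yc0 zc40) (kc xc22 yc23 zc60) (kc xc10 yc22 zc20) (kc xc10 yc22 zc19) (kc xc10 yc22 zc22) (kc xc18 yc30 zc31)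 (kc xc18 yc30 zc33) (kc xc16 yc30 zc47) (kc xc27 yc32 zc58) (kc xc27 yc32 zc59) (kc xc18 yc22 zc50) (kc xc27 yc32 zc33) (kc xc14 yc29 zc32) (kc xc18 yc28 zc35) (kc xc27 yc54 zc3) (kc xc20 yc13 zc30) (kc xc28 yc1 zc6) (kc xc27 yc34 zc15) (kc xc27 yc33 zc56) (kc xc10 yc22 zc33) (kc xc18 yc6 zc35) (kc xc21 yc37 zc51) (kc xc18 yc37 zc45) (kc xc18 yc37 zc8) (kc xc10 yc22 zc39) (kc xc18 yc37 zc4) (kc xc17 yc54 zc6) (kc xc28 yc3 zc26) (kc xc10 yc29 zc55) (kc xc17 yc50 zc24) (kc xc16 yc53 zc30) (kc xc15 yc11 zc41) (kc xc26 yc32 zc59) (kc xc21 yc37 zc54) (kc xc23 yc51 zc26) (kc xc21 yc9 zc26) (kc xc26 yc49 zc61)) (@D3.rec (fun _ => Pt) (kc xc14 yc8 zc5) (kc xc18 yc16 zc20) (kc xc18 yc16 zc21) (kc xc28 yc18 zc59) (kc xc10 yc22 zc51) (kc xc10 yc22 zc52) (kc xc12 yc58 zc47) (kc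 xc11 yc21 zc59) (kc xc16 yc54 zc18) (kc xc10 yc22 zc50) (kc xc19 yc33 zc57) (kc xc22 yc29 zc17) (kc xc14 yc43 zc8) (kc xc28 yc18 zc61) (kc xc21 yc13 zc13) (kc xc14 yc53 zc50) (kc xc10 yc22 zc58) (kc xc28 yc19 zc1) (kc xc18 yc16 zc6) (kc xc28 yc19 zc4) (kc xc10 yc23 zc1) (kc xc21 yc49 zc44) (kc xc23 yc22 zc59) (kc xc24 yc43 zc43) (kc xc10 yc23 zc0) (kc xc18 yc57 zc25) (kc xc21 yc54 zc34) (kc xc10 yc23 zc3) (kc xc18 yc25 zc31) (kc xc14 yc11 zc57) (kc xc18 yc16 zc13) (kc xc18 yc25 zc29) (kc xc21 yc16 zc14) (kc xc27 yc1 zc31) (kc xc10 yc23 zc12) (kc xc23 yc42 zc33) (kc xc11 yc24 zc15) (kc xc18 yc50 zc43) (kc xc18 yc43 zc47) (kc xc20 yc25 zc45) (kc xc10 yc58 zc17) (kc xc10 yc23 zc10) (kc xc17 yc9 zc58) (kc xc18 yc50 zc37) (kc xc21 yc45 zc39) (kc xc21 yc35 zc13) (kc xc14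 yc33 zc16) (kc xc26 yc55 zc25) (kc xc14 yc32 zc9) (kc xc18 yc8 zc7) (kc xc10 yc23 zc14) (kc xc18 yc39 zc39) (kc xc18 yc39 zc43) (kc xc17 yc8 zc36) (kc xc18 yc26 zc0) (kc xc18 yc26 zc5) (kc xc10 yc23 zc21) (kc xc28 yc19 zc15) (kc xc19 yc44 zc55) (kc xc10 yc23 zc31) (kc xc27 yc55 zc14) (kc xc15 yc34 zc1)) (@D3.rec (fun _ => Pt) (kc xc26 yc35 zc27) (kc xc19 yc20 zc3) (kc xc27 yc22 zc52) (kc xc26 yc37 zc38) (kc xc15 yc2 zc21) (kc xc27 yc49 zc30) (kc xc15 yc2 zc23) (kc xc15 yc33 zc51) (kc xc28 yc19 zc25) (kc xc25 yc10 zc4) (kc xc13 yc36 zc13) (kc xc17 yc42 zc22) (kc xc19 yc8 zc9) (kc xc18 yc12 zc56) (kc xc28 yc19 zc29) (kc xc28 yc19 zc30) (kc xc28 yc19 zc31) (kc xc10 yc23 zc32) (kc xc22 yc6 zc52) (kc xc25 yc53 zc30) (kc xc15 yc33 zc41) (kc xc28 yc19 zc39) (kc xc15 yc33 zc29)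 (kc xc27 yc6 zc18) (kc xc28 yc19 zc44) (kc xc15 yc41 zc4) (kc xc15 yc31 zc25) (kc xc15 yc32 zc45) (kc xc20 yc55 zc28) (kc xc20 yc56 zc51) (kc xc10 yc26 zc15) (kc xc27 yc32 zc24) (kc xc18 yc33 zc1) (kc xc18 yc58 zc10) (kc xc28 yc19 zc52) (kc xc28 yc19 zc53) (kc xc18 yc26 zc58) (kc xc15 yc9 zc58) (kc xc28 yc19 zc57) (kc xc15 yc9 zc59) (kc xc15 yc31 zc11) (kc xc15 yc30 zc55) (kc xc27 yc32 zc10) (kc xc18 yc35 zc16) (kc xc17 yc46 zc15) (kc xc28 yc19 zc61) (kc xc17 yc52 zc24) (kc xc27 yc5 zc36) (kc xc26 yc32 zc23) (kc xc16 yc35 zc12) (kc xc28 yc20 zc4) (kc xc16 yc35 zc14) (kc xc18 yc45 zc4) (kc xc25 yc46 zc47) (kc xc18 yc21 zc52) (kc xc10 yc23 zc52) (kc xc28 yc13 zc6) (kc xc28 yc20 zc9) (kc xc28 yc20 zc10) (kc xc27 yc33 zc50) (kc xc10 yc23 zc53) (kc xc28 yc20 zc15)) (@D3.rec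 (fun _ => Pt) (kc xc28 yc20 zc14) (kc xc28 yc20 zc18) (kc xc28 yc13 zc40) (kc xc28 yc20 zc21) (kc xc10 yc23 zc55) (kc xc17 yc1 zc9) (kc xc17 yc1 zc22) (kc xc18 yc45 zc18) (kc xc28 yc20 zc26) (kc xc21 yc4 zc19) (kc xc10 yc23 zc59) (kc xc25 yc25 zc14) (kc xc19 yc37 zc46) (kc xc10 yc24 zc27) (kc xc28 yc18 zc32) (kc xc27 yc23 zc38) (kc xc20 yc13 zc7) (kc xc15 yc27 zc23) (kc xc16 yc28 zc35) (kc xc10 yc51 zc31) (kc xc15 yc34 zc21) (kc xc18 yc46 zc27) (kc xc10 yc51 zc39) (kc xc15 yc29 zc15) (kc xc15 yc29 zc20) (kc xc25 yc19 zc6) (kc xc17 yc51 zc38) (kc xc20 yc59 zc14) (kc xc10 yc24 zc8) (kc xc19 yc53 zc45) (kc xc10 yc33 zc37) (kc xc18 yc59 zc27) (kc xc24 yc15 zc9) (kc xc23 yc59 zc22) (kc xc28 yc12 zc60) (kc xc19 yc11 zc49) (kc xc25 yc33 zc50) (kc xc21 yc0 zc24) (kc xc10 yc34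 zc8) (kc xc19 yc3 zc0) (kc xc17 yc22 zc11) (kc xc16 yc10 zc2) (kc xc16 yc13 zc6) (kc xc25 yc17 zc23) (kc xc10 yc24 zc22) (kc xc26 yc9 zc6) (kc xc24 yc33 zc47) (kc xc22 yc55 zc20) (kc xc15 yc29 zc14) (kc xc10 yc24 zc23) (kc xc26 yc9 zc7) (kc xc22 yc55 zc16) (kc xc16 yc27 zc32) (kc xc16 yc27 zc33) (kc xc11 yc2 zc41) (kc xc25 yc26 zc45) (kc xc22 yc24 zc43) (kc xc28 yc20 zc47) (kc xc26 yc41 zc37) (kc xc26 yc42 zc15) (kc xc19 yc50 zc18) (kc xc19 yc51 zc4)) (@D3.rec (fun _ => Pt) (kc xc18 yc45 zc35) (kc xc22 yc53 zc0) (kc xc17 yc19 zc22) (kc xc19 yc26 zc6) (kc xc18 yc31 zc57) (kc xc18 yc46 zc5) (kc xc10 yc24 zc36) (kc xc10 yc24 zc34) (kc xc10 yc24 zc35) (kc xc28 yc20 zc53) (kc xc28 yc5 zc30) (kc xc18 yc11 zc37) (kc xc28 yc20 zc57) (kc xc18 yc11 zc39) (kc xc19 yc31 zc36) (kc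 xc18 yc4 zc17) (kc xc18 yc57 zc7) (kc xc22 yc51 zc46) (kc xc18 yc21 zc46) (kc xc27 yc9 zc11) (kc xc19 yc31 zc27) (kc xc27 yc36 zc30) (kc xc18 yc3 zc25) (kc xc10 yc24 zc43) (kc xc24 yc57 zc10) (kc xc28 yc21 zc10) (kc xc28 yc15 zc22) (kc xc10 yc24 zc44) (kc xc28 yc21 zc14) (kc xc16 yc18 zc4) (kc xc23 yc9 zc28) (kc xc25 yc1 zc32) (kc xc28 yc21 zc16) (kc xc28 yc21 zc18) (kc xc10 yc24 zc46) (kc xc19 yc46 zc55) (kc xc22 yc35 zc16) (kc xc25 yc55 zc61) (kc xc25 yc1 zc35) (kc xc15 yc46 zc32) (kc xc26 yc4 zc30) (kc xc18 yc58 zc49) (kc xc18 yc4 zc25) (kc xc18 yc45 zc53) (kc xc28 yc21 zc29) (kc xc27 yc45 zc58) (kc xc10 yc25 zc0) (kc xc10 yc25 zc2) (kc xc18 yc33 zc30) (kc xc18 yc33 zc31) (kc xc19 yc20 zc17) (kc xc20 yc0 zc11) (kc xc10 yc24 zc60) (kc xc27 yc15 zc31) (kc xc28 yc21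 zc36) (kc xc18 yc41 zc45) (kc xc27 yc15 zc32) (kc xc27 yc49 zc46) (kc xc28 yc21 zc41) (kc xc28 yc21 zc32) (kc xc27 yc15 zc10) (kc xc20 yc50 zc33)) (@D3.rec (fun _ => Pt) (kc xc10 yc25 zc1) (kc xc28 yc21 zc50) (kc xc20 yc21 zc15) (kc xc26 yc19 zc30) (kc xc16 yc40 zc43) (kc xc28 yc5 zc18) (kc xc25 yc26 zc38) (kc xc25 yc26 zc39) (kc xc18 yc22 zc0) (kc xc18 yc9 zc6) (kc xc18 yc46 zc25) (kc xc10 yc25 zc9) (kc xc18 yc45 zc27) (kc xc18 yc12 zc30) (kc xc25 yc19 zc47) (kc xc25 yc19 zc28) (kc xc25 yc19 zc45) (kc xc28 yc22 zc2) (kc xc26 yc32 zc11) (kc xc18 yc11 zc16) (kc xc18 yc11 zc18) (kc xc28 yc22 zc9) (kc xc17 yc38 zc19) (kc xc10 yc25 zc15) (kc xc18 yc29 zc28) (kc xc28 yc16 zc17) (kc xc10 yc25 zc16) (kc xc28 yc22 zc13) (kc xc28 yc22 zc14) (kc xc27 yc41 zc50) (kc xc10 yc25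 zc18) (kc xc28 yc22 zc20) (kc xc18 yc46 zc36) (kc xc17 yc25 zc41) (kc xc19 yc24 zc33) (kc xc28 yc8 zc15) (kc xc16 yc22 zc5) (kc xc18 yc47 zc2) (kc xc18 yc35 zc26) (kc xc16 yc35 zc44) (kc xc10 yc25 zc31) (kc xc18 yc36 zc22) (kc xc27 yc53 zc42) (kc xc28 yc22 zc33) (kc xc28 yc22 zc35) (kc xc28 yc22 zc37) (kc xc10 yc25 zc34) (kc xc28 yc22 zc41) (kc xc28 yc22 zc43) (kc xc28 yc22 zc45) (kc xc27 yc32 zc60) (kc xc18 yc15 zc3) (kc xc10 yc25 zc42) (kc xc18 yc47 zc37) (kc xc10 yc25 zc44) (kc xc28 yc22 zc49) (kc xc20 yc20 zc28) (kc xc18 yc15 zc45) (kc xc10 yc25 zc45) (kc xc28 yc22 zc53) (kc xc28 yc22 zc54) (kc xc13 yc41 zc33)) (@D3.rec (fun _ => Pt) (kc xc28 yc22 zc55) (kc xc28 yc22 zc57) (kc xc10 yc25 zc47) (kc xc22 yc49 zc58) (kc xc22 yc49 zc59) (kc xc28 yc23 zc2) (kc xc19 yc24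 zc44) (kc xc17 yc46 zc14) (kc xc13 yc17 zc49) (kc xc27 yc47 zc40) (kc xc13 yc17 zc52) (kc xc27 yc47 zc37) (kc xc28 yc23 zc12) (kc xc28 yc7 zc31) (kc xc15 yc0 zc48) (kc xc27 yc52 zc54) (kc xc27 yc51 zc26) (kc xc15 yc0 zc49) (kc xc28 yc23 zc17) (kc xc10 yc25 zc55) (kc xc28 yc23 zc21) (kc xc28 yc9 zc56) (kc xc10 yc25 zc59) (kc xc28 yc23 zc25) (kc xc28 yc23 zc27) (kc xc10 yc25 zc61) (kc xc25 yc30 zc15) (kc xc28 yc23 zc31) (kc xc10 yc26 zc0) (kc xc28 yc23 zc37) (kc xc28 yc23 zc39) (kc xc10 yc26 zc1) (kc xc28 yc23 zc42) (kc xc27 yc50 zc44) (kc xc27 yc50 zc46) (kc xc20 yc33 zc56) (kc xc10 yc26 zc4) (kc xc28 yc23 zc49) (kc xc19 yc35 zc38) (kc xc28 yc23 zc48) (kc xc20 yc35 zc29) (kc xc26 yc43 zc31) (kc xc10 yc26 zc6) (kc xc10 yc47 zc9) (kc xc22 yc35 zc59) (kc xc13 yc45 zc36)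 (kc xc17 yc11 zc40) (kc xc17 yc10 zc36) (kc xc28 yc23 zc61) (kc xc10 yc26 zc12) (kc xc28 yc24 zc1) (kc xc24 yc18 zc53) (kc xc10 yc26 zc13) (kc xc19 yc37 zc47) (kc xc15 yc33 zc10) (kc xc28 yc24 zc7) (kc xc19 yc0 zc31) (kc xc28 yc24 zc10) (kc xc18 yc30 zc21) (kc xc28 yc24 zc12) (kc xc15 yc51 zc41) (kc xc28 yc24 zc13)) (@D3.rec (fun _ => Pt) (kc xc10 yc26 zc18) (kc xc18 yc8 zc42) (kc xc28 yc24 zc17) (kc xc10 yc26 zc21) (kc xc27 yc49 zc18) (kc xc27 yc35 zc14) (kc xc28 yc24 zc20) (kc xc10 yc26 zc24) (kc xc19 yc12 zc57) (kc xc20 yc17 zc26) (kc xc27 yc34 zc40) (kc xc27 yc34 zc41) (kc xc27 yc14 zc57) (kc xc27 yc34 zc13) (kc xc24 yc17 zc59) (kc xc28 yc24 zc26) (kc xc28 yc24 zc28) (kc xc28 yc24 zc30) (kc xc10 yc26 zc30) (kc xc26 yc57 zc57) (kc xc20 yc51 zc46) (kc xc27 yc32 zc12)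 (kc xc28 yc24 zc32) (kc xc10 yc26 zc34) (kc xc10 yc26 zc36) (kc xc27 yc8 zc4) (kc xc10 yc26 zc38) (kc xc20 yc53 zc4) (kc xc28 yc14 zc59) (kc xc15 yc50 zc58) (kc xc28 yc9 zc23) (kc xc20 yc17 zc21) (kc xc12 yc38 zc13) (kc xc10 yc26 zc44) (kc xc25 yc17 zc37) (kc xc18 yc47 zc29) (kc xc27 yc34 zc21) (kc xc28 yc24 zc40) (kc xc26 yc0 zc46) (kc xc10 yc26 zc47) (kc xc28 yc24 zc45) (kc xc18 yc28 zc48) (kc xc26 yc25 zc15) (kc xc17 yc32 zc2) (kc xc27 yc55 zc41) (kc xc28 yc24 zc47) (kc xc12 yc22 zc9) (kc xc18 yc16 zc37) (kc xc18 yc16 zc38) (kc xc17 yc30 zc3) (kc xc21 yc26 zc11) (kc xc16 yc35 zc43) (kc xc28 yc24 zc49) (kc xc28 yc24 zc51) (kc xc17 yc38 zc18) (kc xc28 yc24 zc54) (kc xc28 yc24 zc55) (kc xc10 yc27 zc0) (kc xc18 yc36 zc50) (kc xc28 yc23 zc46) (kc xc21 yc44 zc16) (kc xc12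 yc22 zc21)) (@D3.rec (fun _ => Pt) (kc xc24 yc15 zc37) (kc xc23 yc46 zc28) (kc xc16 yc30 zc19) (kc xc12 yc22 zc8) (kc xc14 yc19 zc1) (kc xc19 yc2 zc7) (kc xc10 yc27 zc16) (kc xc18 yc53 zc16) (kc xc10 yc27 zc15) (kc xc10 yc27 zc14) (kc xc28 yc25 zc1) (kc xc18 yc15 zc57) (kc xc13 yc52 zc10) (kc xc25 yc30 zc23) (kc xc22 yc28 zc50) (kc xc22 yc20 zc20) (kc xc23 yc16 zc35) (kc xc10 yc27 zc17) (kc xc17 yc20 zc50) (kc xc27 yc6 zc41) (kc xc10 yc27 zc20) (kc xc23 yc54 zc2) (kc xc28 yc25 zc6) (kc xc24 yc15 zc38) (kc xc10 yc27 zc22) (kc xc18 yc50 zc25) (kc xc28 yc23 zc47) (kc xc10 yc27 zc25) (kc xc20 yc40 zc35) (kc xc20 yc40 zc34) (kc xc18 yc36 zc46) (kc xc18 yc43 zc29) (kc xc28 yc23 zc44) (kc xc23 yc55 zc33) (kc xc17 yc17 zc11) (kc xc13 yc8 zc16) (kc xc24 yc6 zc13) (kc xc27 yc15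 zc25) (kc xc10 yc27 zc31) (kc xc28 yc25 zc18) (kc xc28 yc25 zc20) (kc xc24 yc14 zc29) (kc xc21 yc37 zc42) (kc xc28 yc23 zc41) (kc xc28 yc23 zc36) (kc xc18 yc26 zc6) (kc xc28 yc23 zc23) (kc xc10 yc27 zc34) (kc xc28 yc25 zc28) (kc xc26 yc57 zc50) (kc xc21 yc57 zc11) (kc xc17 yc7 zc58) (kc xc10 yc27 zc36) (kc xc12 yc39 zc21) (kc xc28 yc25 zc32) (kc xc10 yc27 zc37) (kc xc13 yc10 zc0) (kc xc18 yc29 zc55) (kc xc21 yc7 zc57) (kc xc12 yc57 zc52) (kc xc24 yc15 zc41) (kc xc17 yc2 zc13)) (@D3.rec (fun _ => Pt) (kc xc18 yc21 zc36) (kc xc11 yc50 zc51) (kc xc18 yc2 zc18) (kc xc18 yc22 zc37) (kc xc11 yc21 zc57) (kc xc17 yc12 zc44) (kc xc10 yc27 zc48) (kc xc18 yc32 zc52) (kc xc28 yc25 zc34) (kc xc28 yc25 zc36) (kc xc18 yc51 zc33) (kc xc16 yc0 zc43) (kc xc21 yc34 zc51) (kc xc18 yc9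 zc45) (kc xc15 yc12 zc45) (kc xc10 yc40 zc53) (kc xc27 yc9 zc21) (kc xc18 yc13 zc29) (kc xc28 yc6 zc23) (kc xc15 yc9 zc44) (kc xc15 yc9 zc45) (kc xc18 yc16 zc54) (kc xc10 yc28 zc6) (kc xc27 yc32 zc16) (kc xc17 yc52 zc30) (kc xc27 yc32 zc37) (kc xc16 yc24 zc11) (kc xc27 yc29 zc13) (kc xc25 yc2 zc61) (kc xc23 yc51 zc21) (kc xc27 yc50 zc26) (kc xc25 yc46 zc50) (kc xc10 yc28 zc14) (kc xc28 yc25 zc53) (kc xc10 yc28 zc15) (kc xc23 yc24 zc0) (kc xc28 yc16 zc57) (kc xc26 yc32 zc18) (kc xc10 yc28 zc17) (kc xc28 yc25 zc58) (kc xc20 yc8 zc12) (kc xc19 yc59 zc41) (kc xc18 yc19 zc21) (kc xc17 yc53 zc54) (kc xc27 yc33 zc26) (kc xc27 yc33 zc27) (kc xc19 yc56 zc17) (kc xc18 yc33 zc17) (kc xc18 yc31 zc44) (kc xc18 yc53 zc41) (kc xc27 yc32 zc1) (kc xc28 yc26 zc12) (kc xc10 yc28 zc22)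 (kc xc25 yc42 zc54) (kc xc17 yc45 zc46) (kc xc16 yc19 zc14) (kc xc28 yc24 zc42) (kc xc18 yc9 zc43) (kc xc28 yc24 zc41) (kc xc18 yc44 zc59) (kc xc10 yc28 zc27) (kc xc16 yc23 zc5)) (@D3.rec (fun _ => Pt) (kc xc18 yc7 zc34) (kc xc10 yc28 zc28) (kc xc28 yc15 zc51) (kc xc13 yc40 zc45) (kc xc23 yc37 zc1) (kc xc10 yc28 zc30) (kc xc19 yc12 zc21) (kc xc14 yc53 zc30) (kc xc24 yc40 zc34) (kc xc14 yc43 zc26) (kc xc14 yc42 zc56) (kc xc21 yc13 zc24) (kc xc21 yc13 zc25) (kc xc28 yc13 zc44) (kc xc18 yc35 zc24) (kc xc18 yc34 zc38) (kc xc19 yc10 zc10) (kc xc14 yc35 zc0) (kc xc24 yc7 zc59) (kc xc28 yc26 zc32) (kc xc10 yc28 zc35) (kc xc18 yc23 zc9) (kc xc18 yc6 zc9) (kc xc28 yc26 zc38) (kc xc10 yc28 zc38) (kc xc18 yc9 zc38) (kc xc28 yc26 zc41) (kc xc18 yc52 zc31) (kc xc20 yc56 zc39) (kc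 xc28 yc26 zc46) (kc xc10 yc28 zc43) (kc xc16 yc35 zc34) (kc xc10 yc28 zc44) (kc xc28 yc8 zc28) (kc xc18 yc30 zc48) (kc xc27 yc51 zc59) (kc xc28 yc26 zc50) (kc xc18 yc35 zc22) (kc xc28 yc26 zc55) (kc xc27 yc34 zc43) (kc xc28 yc26 zc34) (kc xc10 yc28 zc50) (kc xc24 yc7 zc38) (kc xc10 yc28 zc52) (kc xc16 yc34 zc56) (kc xc27 yc54 zc48) (kc xc10 yc28 zc53) (kc xc16 yc34 zc57) (kc xc28 yc26 zc60) (kc xc20 yc8 zc9) (kc xc28 yc14 zc50) (kc xc16 yc34 zc48) (kc xc10 yc28 zc55) (kc xc20 yc8 zc13) (kc xc19 yc13 zc13) (kc xc28 yc27 zc4) (kc xc14 yc15 zc44) (kc xc28 yc14 zc54) (kc xc27 yc32 zc31) (kc xc22 yc30 zc47) (kc xc27 yc34 zc29) (kc xc13 yc59 zc34))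
def f_c_19 : D2 → D3 → Pt := @D2.rec (fun _ => D3 → Pt) (@D3.rec (fun _ => Pt) (kc xc27 yc58 zc55) (kc xc10 yc28 zc58) (kc xc18 yc24 zc29) (kc xc15 yc0 zc41) (kc xc28 yc4 zc32) (kc xc18 yc9 zc37) (kc xc27 yc9 zc34) (kc xc27 yc33 zc25) (kc xc16 yc35 zc33) (kc xc16 yc35 zc23) (kc xc10 yc29 zc0) (kc xc24 yc46 zc37) (kc xc23 yc51 zc39) (kc xc23 yc33 zc39) (kc xc23 yc36 zc55) (kc xc24 yc48 zc11) (kc xc18 yc33 zc14) (kc xc18 yc33 zc15) (kc xc14 yc2 zc38) (kc xc27 yc35 zc6) (kc xc26 yc32 zc33) (kc xc10 yc29 zc4) (kc xc27 yc32 zc13) (kc xc28 yc27 zc19) (kc xc26 yc17 zc35) (kc xc16 yc19 zc32) (kc xc20 yc10 zc43) (kc xc24 yc43 zc42) (kc xc10 yc29 zc7) (kc xc10 yc29 zc8) (kc xc28 yc27 zc30) (kc xc18 yc55 zc56) (kc xc17 yc50 zc36) (kc xc20 yc17 zc25) (kc xc10 yc29 zc13) (kc xc28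 yc27 zc33) (kc xc15 yc12 zc5) (kc xc10 yc29 zc20) (kc xc16 yc19 zc41) (kc xc27 yc47 zc38) (kc xc10 yc29 zc21) (kc xc28 yc27 zc37) (kc xc12 yc21 zc47) (kc xc12 yc19 zc2) (kc xc12 yc17 zc33) (kc xc18 yc8 zc36) (kc xc18 yc8 zc37) (kc xc12 yc58 zc51) (kc xc10 yc29 zc25) (kc xc28 yc27 zc46) (kc xc10 yc29 zc26) (kc xc28 yc27 zc47) (kc xc28 yc20 zc8) (kc xc18 yc44 zc58) (kc xc10 yc29 zc28) (kc xc28 yc27 zc49) (kc xc11 yc13 zc52) (kc xc27 yc54 zc29) (kc xc18 yc12 zc26) (kc xc26 yc39 zc20) (kc xc22 yc22 zc48) (kc xc15 yc51 zc32)) (@D3.rec (fun _ => Pt) (kc xc10 yc29 zc32) (kc xc26 yc39 zc15) (kc xc25 yc10 zc59) (kc xc26 yc38 zc17) (kc xc10 yc29 zc35) (kc xc10 yc29 zc36) (kc xc19 yc6 zc53) (kc xc27 yc15 zc38) (kc xc27 yc15 zc40) (kc xc15 yc40 zc60) (kc xc18 yc30 zc45) (kc xc25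 yc19 zc42) (kc xc10 yc29 zc42) (kc xc19 yc1 zc58) (kc xc28 yc27 zc61) (kc xc24 yc28 zc23) (kc xc10 yc29 zc45) (kc xc28 yc28 zc3) (kc xc20 yc7 zc59) (kc xc24 yc46 zc38) (kc xc28 yc26 zc1) (kc xc24 yc28 zc14) (kc xc23 yc50 zc34) (kc xc27 yc34 zc28) (kc xc23 yc50 zc25) (kc xc18 yc13 zc24) (kc xc18 yc15 zc0) (kc xc23 yc32 zc46) (kc xc18 yc14 zc60) (kc xc10 yc29 zc50) (kc xc18 yc42 zc20) (kc xc26 yc20 zc49) (kc xc28 yc28 zc13) (kc xc13 yc59 zc58) (kc xc28 yc18 zc55) (kc xc20 yc18 zc23) (kc xc18 yc47 zc51) (kc xc27 yc34 zc11) (kc xc28 yc28 zc21) (kc xc20 yc21 zc25) (kc xc28 yc0 zc42) (kc xc10 yc29 zc61) (kc xc28 yc28 zc25) (kc xc10 yc30 zc1) (kc xc18 yc28 zc38) (kc xc28 yc4 zc57) (kc xc21 yc37 zc8) (kc xc28 yc28 zc27) (kc xc18 yc13 zc22) (kc xc13 yc15 zc45) (kc xc27 yc32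 zc61) (kc xc10 yc30 zc6) (kc xc17 yc2 zc55) (kc xc18 yc7 zc35) (kc xc15 yc32 zc12) (kc xc10 yc30 zc9) (kc xc14 yc35 zc3) (kc xc15 yc32 zc13) (kc xc19 yc1 zc13) (kc xc14 yc35 zc21) (kc xc10 yc30 zc12) (kc xc10 yc30 zc13)) (@D3.rec (fun _ => Pt) (kc xc10 yc30 zc11) (kc xc16 yc16 zc47) (kc xc27 yc47 zc15) (kc xc23 yc18 zc57) (kc xc14 yc35 zc18) (kc xc22 yc36 zc27) (kc xc28 yc10 zc39) (kc xc18 yc57 zc5) (kc xc10 yc30 zc17) (kc xc10 yc30 zc16) (kc xc28 yc28 zc36) (kc xc27 yc47 zc33) (kc xc23 yc25 zc55) (kc xc27 yc31 zc17) (kc xc10 yc30 zc21) (kc xc10 yc30 zc19) (kc xc26 yc21 zc8) (kc xc26 yc13 zc20) (kc xc24 yc56 zc11) (kc xc28 yc28 zc38) (kc xc20 yc46 zc52) (kc xc25 yc0 zc53) (kc xc11 yc15 zc31) (kc xc24 yc56 zc33) (kc xc21 yc48 zc55) (kc xc10 yc30 zc25) (kc xc10 yc30 zc23)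 (kc xc28 yc4 zc36) (kc xc10 yc30 zc24) (kc xc28 yc28 zc49) (kc xc16 yc30 zc21) (kc xc16 yc52 zc39) (kc xc10 yc30 zc29) (kc xc10 yc30 zc28) (kc xc21 yc55 zc11) (kc xc28 yc28 zc51) (kc xc28 yc28 zc52) (kc xc21 yc1 zc10) (kc xc16 yc9 zc60) (kc xc28 yc28 zc53) (kc xc16 yc9 zc61) (kc xc18 yc14 zc23) (kc xc17 yc35 zc44) (kc xc15 yc26 zc3) (kc xc28 yc28 zc60) (kc xc10 yc30 zc36) (kc xc10 yc30 zc35) (kc xc28 yc29 zc0) (kc xc24 yc51 zc26) (kc xc15 yc28 zc32) (kc xc28 yc29 zc6) (kc xc15 yc28 zc34) (kc xc24 yc48 zc5) (kc xc28 yc29 zc14) (kc xc15 yc28 zc27) (kc xc27 yc22 zc23) (kc xc25 yc24 zc22) (kc xc15 yc31 zc35) (kc xc25 yc36 zc24) (kc xc15 yc31 zc37) (kc xc24 yc47 zc61) (kc xc28 yc29 zc22)) (@D3.rec (fun _ => Pt) (kc xc18 yc52 zc39) (kc xc20 yc55 zc24) (kc xc26 yc7 zc51) (kc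 xc19 yc25 zc13) (kc xc10 yc30 zc43) (kc xc28 yc29 zc25) (kc xc28 yc29 zc26) (kc xc26 yc9 zc27) (kc xc10 yc30 zc44) (kc xc28 yc29 zc28) (kc xc17 yc26 zc9) (kc xc25 yc5 zc36) (kc xc27 yc15 zc35) (kc xc10 yc30 zc46) (kc xc20 yc35 zc58) (kc xc16 yc34 zc17) (kc xc28 yc29 zc31) (kc xc24 yc48 zc17) (kc xc27 yc51 zc34) (kc xc27 yc51 zc35) (kc xc28 yc5 zc51) (kc xc28 yc29 zc36) (kc xc27 yc37 zc15) (kc xc10 yc31 zc1) (kc xc26 yc35 zc26) (kc xc26 yc34 zc54) (kc xc25 yc7 zc55) (kc xc19 yc33 zc25) (kc xc19 yc29 zc20) (kc xc10 yc46 zc48) (kc xc10 yc46 zc50) (kc xc28 yc29 zc45) (kc xc17 yc48 zc55) (kc xc25 yc49 zc16) (kc xc20 yc2 zc56) (kc xc15 yc22 zc23) (kc xc15 yc22 zc24) (kc xc28 yc29 zc52) (kc xc15 yc36 zc44) (kc xc10 yc30 zc61) (kc xc16 yc43 zc47) (kc xc28 yc29 zc53) (kc xc26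 yc15 zc60) (kc xc26 yc15 zc59) (kc xc10 yc31 zc2) (kc xc28 yc3 zc2) (kc xc22 yc29 zc25) (kc xc15 yc8 zc60) (kc xc17 yc50 zc25) (kc xc28 yc29 zc59) (kc xc10 yc47 zc19) (kc xc26 yc39 zc5) (kc xc15 yc22 zc40) (kc xc28 yc30 zc1) (kc xc28 yc30 zc3) (kc xc28 yc30 zc6) (kc xc10 yc31 zc7) (kc xc28 yc30 zc11) (kc xc28 yc30 zc13) (kc xc14 yc47 zc48) (kc xc14 yc47 zc47) (kc xc19 yc14 zc28)) (@D3.rec (fun _ => Pt) (kc xc19 yc14 zc29) (kc xc15 yc1 zc34) (kc xc21 yc54 zc15) (kc xc27 yc36 zc28) (kc xc11 yc23 zc43) (kc xc21 yc15 zc1) (kc xc22 yc51 zc28) (kc xc21 yc53 zc11) (kc xc21 yc53 zc12) (kc xc23 yc58 zc53) (kc xc17 yc49 zc42) (kc xc17 yc49 zc43) (kc xc28 yc30 zc26) (kc xc10 yc42 zc15) (kc xc15 yc23 zc12) (kc xc28 yc30 zc30) (kc xc19 yc49 zc42) (kc xc28 yc30 zc32) (kc xc28 yc30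 zc34) (kc xc10 yc31 zc22) (kc xc28 yc30 zc38) (kc xc26 yc33 zc16) (kc xc15 yc53 zc5) (kc xc18 yc44 zc20) (kc xc10 yc53 zc41) (kc xc10 yc53 zc42) (kc xc20 yc46 zc2) (kc xc15 yc15 zc34) (kc xc10 yc31 zc31) (kc xc28 yc30 zc43) (kc xc10 yc31 zc34) (kc xc28 yc1 zc51) (kc xc16 yc21 zc46) (kc xc17 yc52 zc47) (kc xc16 yc22 zc11) (kc xc10 yc31 zc41) (kc xc24 yc53 zc35) (kc xc15 yc2 zc5) (kc xc21 yc59 zc30) (kc xc13 yc30 zc39) (kc xc16 yc21 zc27) (kc xc18 yc10 zc24) (kc xc24 yc58 zc26) (kc xc19 yc20 zc37) (kc xc14 yc43 zc24) (kc xc22 yc26 zc26) (kc xc10 yc31 zc54) (kc xc10 yc31 zc55) (kc xc18 yc11 zc53) (kc xc28 yc30 zc50) (kc xc15 yc20 zc60) (kc xc27 yc33 zc60) (kc xc27 yc52 zc4) (kc xc24 yc50 zc38) (kc xc27 yc34 zc0) (kc xc27 yc33 zc61) (kc xc10 yc31 zc58) (kc xc18 yc9 zc4)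 (kc xc24 yc51 zc60) (kc xc10 yc31 zc61) (kc xc10 yc32 zc0) (kc xc17 yc44 zc38)) (@D3.rec (fun _ => Pt) (kc xc16 yc16 zc9) (kc xc18 yc11 zc4) (kc xc26 yc33 zc44) (kc xc10 yc32 zc5) (kc xc27 yc33 zc40) (kc xc19 yc41 zc15) (kc xc18 yc46 zc23) (kc xc10 yc32 zc9) (kc xc10 yc32 zc10) (kc xc16 yc45 zc47) (kc xc28 yc27 zc31) (kc xc10 yc32 zc14) (kc xc16 yc18 zc13) (kc xc10 yc32 zc15) (kc xc17 yc52 zc44) (kc xc27 yc52 zc5) (kc xc10 yc32 zc17) (kc xc27 yc35 zc0) (kc xc28 yc31 zc2) (kc xc26 yc15 zc53) (kc xc10 yc32 zc19) (kc xc27 yc23 zc22) (kc xc10 yc42 zc16) (kc xc28 yc31 zc5) (kc xc27 yc35 zc27) (kc xc27 yc34 zc59) (kc xc10 yc32 zc21) (kc xc28 yc31 zc9) (kc xc24 yc52 zc19) (kc xc24 yc52 zc18) (kc xc25 yc5 zc52) (kc xc27 yc23 zc59) (kc xc11 yc44 zc40) (kc xc21 yc23 zc46) (kc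 xc17 yc52 zc32) (kc xc17 yc52 zc31) (kc xc10 yc32 zc31) (kc xc10 yc32 zc30) (kc xc17 yc40 zc16) (kc xc17 yc36 zc44) (kc xc17 yc36 zc46) (kc xc28 yc31 zc14) (kc xc25 yc53 zc36) (kc xc15 yc57 zc36) (kc xc28 yc31 zc16) (kc xc27 yc57 zc57) (kc xc17 yc39 zc35) (kc xc10 yc32 zc38) (kc xc12 yc13 zc34) (kc xc14 yc7 zc47) (kc xc10 yc32 zc39) (kc xc20 yc13 zc48) (kc xc12 yc23 zc57) (kc xc15 yc48 zc25) (kc xc10 yc32 zc41) (kc xc24 yc48 zc39) (kc xc19 yc42 zc13) (kc xc28 yc31 zc20) (kc xc19 yc58 zc7) (kc xc15 yc2 zc24) (kc xc28 yc31 zc23) (kc xc19 yc15 zc59)) (@D3.rec (fun _ => Pt) (kc xc19 yc35 zc36) (kc xc21 yc58 zc32) (kc xc15 yc20 zc41) (kc xc17 yc52 zc48) (kc xc25 yc49 zc48) (kc xc25 yc49 zc47) (kc xc19 yc45 zc59) (kc xc28 yc31 zc29) (kc xc15 yc1 zc57) (kc xc25 yc10 zc36)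 (kc xc10 yc32 zc53) (kc xc28 yc31 zc42) (kc xc28 yc31 zc41) (kc xc26 yc1 zc58) (kc xc16 yc12 zc61) (kc xc16 yc41 zc16) (kc xc16 yc4 zc46) (kc xc18 yc5 zc21) (kc xc18 yc4 zc28) (kc xc21 yc12 zc1) (kc xc18 yc4 zc29) (kc xc10 yc34 zc51) (kc xc28 yc31 zc54) (kc xc10 yc32 zc60) (kc xc27 yc56 zc33) (kc xc10 yc34 zc29) (kc xc28 yc31 zc58) (kc xc10 yc33 zc2) (kc xc24 yc52 zc13) (kc xc28 yc7 zc45) (kc xc16 yc20 zc55) (kc xc10 yc33 zc3) (kc xc28 yc31 zc61) (kc xc24 yc46 zc46) (kc xc27 yc47 zc24) (kc xc10 yc33 zc4) (kc xc28 yc32 zc4) (kc xc28 yc32 zc3) (kc xc17 yc26 zc10) (kc xc28 yc32 zc8) (kc xc28 yc32 zc9) (kc xc10 yc33 zc6) (kc xc24 yc12 zc33) (kc xc20 yc24 zc21) (kc xc17 yc12 zc37) (kc xc28 yc32 zc17) (kc xc28 yc32 zc19) (kc xc11 yc57 zc10) (kc xc25 yc17 zc11) (kc xc28 yc32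 zc22) (kc xc28 yc32 zc23) (kc xc12 yc54 zc14) (kc xc15 yc58 zc1) (kc xc19 yc1 zc6) (kc xc18 yc11 zc52) (kc xc17 yc34 zc38) (kc xc10 yc43 zc15) (kc xc17 yc26 zc48) (kc xc18 yc11 zc59) (kc xc28 yc32 zc26) (kc xc18 yc5 zc44) (kc xc28 yc32 zc30)) (@D3.rec (fun _ => Pt) (kc xc18 yc5 zc41) (kc xc18 yc11 zc32) (kc xc27 yc21 zc59) (kc xc28 yc22 zc1) (kc xc20 yc59 zc41) (kc xc28 yc32 zc39) (kc xc18 yc11 zc40) (kc xc25 yc19 zc9) (kc xc10 yc33 zc25) (kc xc25 yc18 zc35) (kc xc21 yc59 zc48) (kc xc28 yc32 zc45) (kc xc10 yc33 zc26) (kc xc20 yc41 zc4) (kc xc25 yc18 zc40) (kc xc28 yc32 zc46) (kc xc10 yc33 zc27) (kc xc28 yc32 zc47) (kc xc28 yc32 zc49) (kc xc28 yc32 zc51) (kc xc18 yc11 zc19) (kc xc23 yc54 zc36) (kc xc10 yc33 zc31) (kc xc15 yc27 zc44) (kc xc10 yc33 zc35) (kc xc28 yc32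 zc55) (kc xc26 yc30 zc42) (kc xc26 yc30 zc13) (kc xc28 yc33 zc0) (kc xc28 yc4 zc52) (kc xc20 yc59 zc57) (kc xc28 yc26 zc58) (kc xc28 yc33 zc4) (kc xc28 yc33 zc6) (kc xc10 yc33 zc38) (kc xc10 yc43 zc55) (kc xc28 yc26 zc36) (kc xc28 yc33 zc14) (kc xc10 yc33 zc50) (kc xc10 yc33 zc52) (kc xc15 yc24 zc23) (kc xc19 yc39 zc5) (kc xc10 yc33 zc44) (kc xc28 yc33 zc17) (kc xc21 yc50 zc20) (kc xc28 yc33 zc18) (kc xc15 yc17 zc10) (kc xc17 yc36 zc6) (kc xc15 yc54 zc51) (kc xc22 yc5 zc11) (kc xc24 yc4 zc47) (kc xc21 yc0 zc46) (kc xc17 yc50 zc1) (kc xc21 yc59 zc21) (kc xc28 yc33 zc25) (kc xc12 yc46 zc3) (kc xc26 yc28 zc10) (kc xc20 yc31 zc13) (kc xc28 yc25 zc8) (kc xc10 yc33 zc51) (kc xc28 yc33 zc29) (kc xc21 yc40 zc46)) (@D3.rec (fun _ => Pt) (kc xc21 yc53 zc7) (kc xc26 yc22 zc19)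 (kc xc26 yc28 zc13) (kc xc26 yc27 zc44) (kc xc18 yc30 zc53) (kc xc28 yc33 zc39) (kc xc18 yc31 zc4) (kc xc28 yc33 zc44) (kc xc20 yc19 zc7) (kc xc18 yc51 zc12) (kc xc18 yc14 zc52) (kc xc25 yc6 zc39) (kc xc28 yc33 zc50) (kc xc25 yc51 zc38) (kc xc28 yc33 zc55) (kc xc25 yc20 zc37) (kc xc28 yc33 zc58) (kc xc10 yc33 zc58) (kc xc28 yc34 zc1) (kc xc25 yc30 zc18) (kc xc10 yc33 zc61) (kc xc10 yc44 zc29) (kc xc28 yc34 zc6) (kc xc10 yc34 zc1) (kc xc15 yc32 zc39) (kc xc10 yc34 zc2) (kc xc10 yc34 zc3) (kc xc28 yc34 zc9) (kc xc14 yc45 zc60) (kc xc25 yc28 zc43) (kc xc23 yc10 zc25) (kc xc10 yc34 zc5) (kc xc28 yc34 zc15) (kc xc20 yc29 zc49) (kc xc28 yc34 zc16) (kc xc14 yc48 zc27) (kc xc26 yc30 zc48) (kc xc28 yc34 zc19) (kc xc27 yc52 zc60) (kc xc14 yc23 zc21) (kc xc27 yc46 zc35) (kc xc19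 yc56 zc60) (kc xc10 yc34 zc10) (kc xc26 yc36 zc23) (kc xc28 yc30 zc7) (kc xc10 yc34 zc13) (kc xc20 yc57 zc23) (kc xc28 yc30 zc8) (kc xc15 yc25 zc44) (kc xc10 yc34 zc15) (kc xc25 yc24 zc43) (kc xc25 yc52 zc61) (kc xc10 yc34 zc16) (kc xc15 yc32 zc41) (kc xc19 yc37 zc30) (kc xc25 yc25 zc61) (kc xc25 yc25 zc0) (kc xc15 yc33 zc4) (kc xc10 yc34 zc18) (kc xc16 yc43 zc12) (kc xc28 yc34 zc34) (kc xc26 yc17 zc52)) (@D3.rec (fun _ => Pt) (kc xc25 yc26 zc4) (kc xc18 yc14 zc49) (kc xc18 yc14 zc50) (kc xc26 yc24 zc3) (kc xc28 yc16 zc56) (kc xc28 yc33 zc60) (kc xc10 yc34 zc22) (kc xc28 yc34 zc43) (kc xc10 yc34 zc24) (kc xc28 yc34 zc45) (kc xc28 yc34 zc47) (kc xc10 yc34 zc25) (kc xc28 yc34 zc51) (kc xc28 yc34 zc50) (kc xc14 yc28 zc30) (kc xc27 yc37 zc3) (kc xc28 yc34 zc56) (kc xc28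 yc34 zc58) (kc xc10 yc34 zc27) (kc xc14 yc28 zc28) (kc xc28 yc35 zc2) (kc xc28 yc35 zc6) (kc xc28 yc35 zc10) (kc xc27 yc37 zc5) (kc xc24 yc13 zc14) (kc xc28 yc8 zc12) (kc xc28 yc35 zc15) (kc xc28 yc31 zc57) (kc xc10 yc34 zc30) (kc xc28 yc35 zc19) (kc xc21 yc9 zc53) (kc xc10 yc45 zc10) (kc xc12 yc56 zc28) (kc xc23 yc57 zc47) (kc xc12 yc56 zc27) (kc xc25 yc48 zc43) (kc xc26 yc26 zc34) (kc xc27 yc24 zc10) (kc xc10 yc34 zc37) (kc xc10 yc34 zc36) (kc xc28 yc35 zc28) (kc xc23 yc45 zc28) (kc xc10 yc45 zc27) (kc xc20 yc9 zc0) (kc xc21 yc11 zc10) (kc xc15 yc25 zc43) (kc xc13 yc2 zc28) (kc xc28 yc35 zc34) (kc xc24 yc13 zc33) (kc xc20 yc46 zc57) (kc xc10 yc34 zc41) (kc xc19 yc42 zc0) (kc xc28 yc35 zc42) (kc xc10 yc34 zc42) (kc xc28 yc35 zc43) (kc xc28 yc35 zc46) (kc xc10 yc34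 zc43) (kc xc24 yc9 zc8) (kc xc23 yc58 zc28) (kc xc28 yc35 zc53) (kc xc10 yc34 zc52) (kc xc13 yc1 zc44)) (@D3.rec (fun _ => Pt) (kc xc10 yc34 zc45) (kc xc10 yc34 zc46) (kc xc28 yc35 zc56) (kc xc28 yc35 zc57) (kc xc21 yc35 zc59) (kc xc17 yc53 zc41) (kc xc15 yc30 zc45) (kc xc10 yc34 zc48) (kc xc28 yc24 zc27) (kc xc10 yc34 zc50) (kc xc18 yc59 zc16) (kc xc28 yc4 zc49) (kc xc28 yc4 zc50) (kc xc28 yc36 zc9) (kc xc28 yc31 zc53) (kc xc10 yc34 zc56) (kc xc28 yc32 zc53) (kc xc28 yc32 zc54) (kc xc28 yc36 zc20) (kc xc25 yc35 zc17) (kc xc10 yc34 zc54) (kc xc27 yc51 zc20) (kc xc28 yc36 zc24) (kc xc28 yc36 zc27) (kc xc10 yc34 zc55) (kc xc27 yc59 zc19) (kc xc28 yc36 zc32) (kc xc24 yc48 zc18) (kc xc24 yc48 zc19) (kc xc13 yc0 zc13) (kc xc19 yc57 zc30) (kc xc28 yc36 zc37) (kc xc28 yc36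 zc39) (kc xc19 yc57 zc50) (kc xc17 yc50 zc5) (kc xc10 yc35 zc3) (kc xc28 yc36 zc41) (kc xc26 yc19 zc37) (kc xc13 yc30 zc59) (kc xc14 yc58 zc21) (kc xc22 yc28 zc56) (kc xc26 yc57 zc13) (kc xc26 yc57 zc14) (kc xc16 yc49 zc34) (kc xc10 yc35 zc10) (kc xc27 yc37 zc0) (kc xc10 yc36 zc41) (kc xc17 yc50 zc14) (kc xc10 yc35 zc21) (kc xc25 yc5 zc9) (kc xc25 yc5 zc21) (kc xc15 yc17 zc46) (kc xc21 yc38 zc1) (kc xc10 yc35 zc26) (kc xc12 yc20 zc35) (kc xc28 yc36 zc46) (kc xc19 yc36 zc54) (kc xc16 yc42 zc56) (kc xc11 yc57 zc28) (kc xc10 yc35 zc30) (kc xc25 yc31 zc1) (kc xc10 yc35 zc31)) (@D3.rec (fun _ => Pt) (kc xc28 yc36 zc51) (kc xc28 yc36 zc50) (kc xc10 yc35 zc32) (kc xc28 yc2 zc31) (kc xc10 yc35 zc35) (kc xc15 yc18 zc14) (kc xc28 yc36 zc56) (kc xc16 yc43 zc25) (kc xc28 yc36 zc58)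 (kc xc10 yc35 zc39) (kc xc25 yc21 zc20) (kc xc15 yc16 zc52) (kc xc28 yc37 zc1) (kc xc10 yc35 zc43) (kc xc10 yc42 zc58) (kc xc28 yc37 zc6) (kc xc25 yc48 zc42) (kc xc15 yc16 zc50) (kc xc19 yc14 zc3) (kc xc16 yc44 zc16) (kc xc10 yc35 zc47) (kc xc28 yc37 zc13) (kc xc19 yc15 zc11) (kc xc10 yc35 zc48) (kc xc28 yc37 zc15) (kc xc26 yc34 zc30) (kc xc28 yc37 zc17) (kc xc26 yc34 zc34) (kc xc26 yc6 zc10) (kc xc28 yc37 zc21) (kc xc26 yc41 zc38) (kc xc28 yc37 zc24) (kc xc28 yc37 zc26) (kc xc10 yc35 zc53) (kc xc25 yc40 zc18) (kc xc25 yc24 zc58) (kc xc19 yc57 zc31) (kc xc28 yc37 zc31) (kc xc14 yc36 zc7) (kc xc10 yc48 zc27) (kc xc10 yc35 zc61) (kc xc28 yc37 zc34) (kc xc15 yc5 zc17) (kc xc20 yc25 zc9) (kc xc28 yc37 zc41) (kc xc27 yc36 zc24) (kc xc20 yc38 zc15) (kc xc18 yc23 zc11) (kc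 xc18 yc20 zc29) (kc xc18 yc52 zc35) (kc xc28 yc37 zc46) (kc xc28 yc37 zc49) (kc xc28 yc37 zc51) (kc xc23 yc48 zc10) (kc xc28 yc37 zc53) (kc xc10 yc36 zc4) (kc xc25 yc7 zc54) (kc xc10 yc36 zc5) (kc xc28 yc37 zc58) (kc xc28 yc37 zc57) (kc xc28 yc37 zc61) (kc xc10 yc36 zc6)) (@D3.rec (fun _ => Pt) (kc xc28 yc38 zc1) (kc xc28 yc38 zc0) (kc xc20 yc2 zc30) (kc xc28 yc38 zc5) (kc xc10 yc36 zc8) (kc xc28 yc38 zc8) (kc xc28 yc38 zc10) (kc xc28 yc38 zc13) (kc xc20 yc2 zc34) (kc xc28 yc23 zc18) (kc xc28 yc37 zc28) (kc xc10 yc36 zc11) (kc xc28 yc34 zc41) (kc xc10 yc36 zc13) (kc xc28 yc38 zc19) (kc xc24 yc50 zc48) (kc xc10 yc36 zc14) (kc xc20 yc9 zc15) (kc xc23 yc57 zc27) (kc xc28 yc38 zc23) (kc xc26 yc43 zc6) (kc xc18 yc59 zc6) (kc xc10 yc36 zc16) (kc xc28 yc38 zc27) (kc xc28 yc38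 zc32) (kc xc28 yc38 zc35) (kc xc28 yc38 zc39) (kc xc18 yc20 zc31) (kc xc18 yc20 zc30) (kc xc28 yc38 zc42) (kc xc18 yc41 zc47) (kc xc28 yc37 zc54) (kc xc28 yc37 zc55) (kc xc10 yc36 zc20) (kc xc19 yc32 zc60) (kc xc15 yc1 zc33) (kc xc10 yc36 zc21) (kc xc20 yc21 zc21) (kc xc28 yc38 zc48) (kc xc28 yc38 zc53) (kc xc28 yc38 zc47) (kc xc10 yc36 zc24) (kc xc27 yc12 zc11) (kc xc16 yc31 zc31) (kc xc25 yc7 zc53) (kc xc16 yc37 zc53) (kc xc10 yc36 zc25) (kc xc28 yc38 zc56) (kc xc10 yc36 zc28) (kc xc14 yc44 zc10) (kc xc21 yc54 zc16) (kc xc21 yc12 zc23) (kc xc18 yc2 zc27) (kc xc21 yc52 zc37) (kc xc18 yc11 zc34) (kc xc21 yc15 zc2) (kc xc28 yc18 zc42) (kc xc18 yc56 zc8) (kc xc21 yc53 zc3) (kc xc28 yc38 zc61) (kc xc10 yc36 zc34) (kc xc28 yc39 zc2)) (@D3.rec (fun _ => Pt) (kc xc28 yc39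 zc4) (kc xc10 yc36 zc35) (kc xc28 yc39 zc5) (kc xc28 yc39 zc7) (kc xc14 yc27 zc45) (kc xc24 yc13 zc52) (kc xc27 yc53 zc59) (kc xc10 yc36 zc38) (kc xc18 yc11 zc60) (kc xc28 yc39 zc9) (kc xc28 yc10 zc1) (kc xc24 yc46 zc26) (kc xc10 yc36 zc40) (kc xc18 yc59 zc54) (kc xc10 yc36 zc42) (kc xc26 yc46 zc23) (kc xc24 yc46 zc8) (kc xc26 yc46 zc24) (kc xc28 yc39 zc16) (kc xc28 yc39 zc19) (kc xc10 yc36 zc44) (kc xc28 yc39 zc20) (kc xc28 yc39 zc22) (kc xc20 yc43 zc44) (kc xc28 yc39 zc26) (kc xc28 yc39 zc27) (kc xc10 yc36 zc47) (kc xc23 yc57 zc23) (kc xc10 yc36 zc48) (kc xc28 yc29 zc60) (kc xc28 yc39 zc34) (kc xc10 yc36 zc51) (kc xc10 yc36 zc50) (kc xc26 yc39 zc4) (kc xc28 yc39 zc40) (kc xc10 yc36 zc52) (kc xc28 yc39 zc44) (kc xc28 yc30 zc2) (kc xc10 yc36 zc53) (kc xc26 yc36 zc35)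 (kc xc21 yc0 zc59) (kc xc24 yc21 zc34) (kc xc20 yc57 zc20) (kc xc10 yc36 zc55) (kc xc28 yc39 zc57) (kc xc24 yc49 zc46) (kc xc28 yc40 zc2) (kc xc28 yc40 zc4) (kc xc28 yc40 zc6) (kc xc28 yc40 zc7) (kc xc10 yc36 zc58) (kc xc17 yc28 zc55) (kc xc28 yc39 zc55) (kc xc10 yc36 zc60) (kc xc10 yc36 zc61) (kc xc28 yc40 zc13) (kc xc26 yc36 zc34) (kc xc26 yc36 zc20) (kc xc10 yc37 zc2) (kc xc26 yc36 zc21) (kc xc25 yc9 zc10) (kc xc25 yc49 zc29)) (@D3.rec (fun _ => Pt) (kc xc25 yc25 zc54) (kc xc27 yc37 zc11) (kc xc27 yc37 zc12) (kc xc19 yc11 zc18) (kc xc28 yc35 zc9) (kc xc25 yc21 zc47) (kc xc28 yc39 zc38) (kc xc28 yc39 zc30) (kc xc10 yc37 zc7) (kc xc28 yc40 zc32) (kc xc28 yc30 zc10) (kc xc16 yc39 zc12) (kc xc15 yc32 zc55) (kc xc19 yc37 zc52) (kc xc27 yc14 zc18) (kc xc16 yc45 zc26) (kc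 xc16 yc12 zc56) (kc xc26 yc8 zc31) (kc xc21 yc16 zc45) (kc xc25 yc19 zc50) (kc xc20 yc57 zc45) (kc xc25 yc20 zc54) (kc xc28 yc15 zc58) (kc xc10 yc37 zc19) (kc xc25 yc20 zc55) (kc xc25 yc20 zc56) (kc xc28 yc40 zc43) (kc xc27 yc35 zc23) (kc xc19 yc3 zc61) (kc xc19 yc4 zc0) (kc xc28 yc40 zc53) (kc xc10 yc37 zc23) (kc xc28 yc40 zc54) (kc xc25 yc22 zc33) (kc xc10 yc37 zc24) (kc xc28 yc40 zc58) (kc xc28 yc40 zc57) (kc xc28 yc40 zc61) (kc xc10 yc37 zc56) (kc xc28 yc41 zc1) (kc xc28 yc41 zc3) (kc xc10 yc37 zc26) (kc xc28 yc41 zc8) (kc xc28 yc41 zc11) (kc xc28 yc41 zc12) (kc xc15 yc39 zc30) (kc xc10 yc38 zc2) (kc xc11 yc3 zc59) (kc xc11 yc3 zc60) (kc xc21 yc19 zc54) (kc xc22 yc45 zc42) (kc xc26 yc33 zc12) (kc xc26 yc5 zc11) (kc xc28 yc41 zc21) (kc xc24 yc44 zc31) (kc xc10 yc37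 zc30) (kc xc28 yc41 zc24) (kc xc15 yc51 zc24) (kc xc10 yc37 zc35) (kc xc28 yc41 zc26) (kc xc10 yc37 zc36) (kc xc28 yc41 zc27)) (@D3.rec (fun _ => Pt) (kc xc24 yc19 zc23) (kc xc24 yc19 zc24) (kc xc19 yc35 zc34) (kc xc20 yc27 zc29) (kc xc10 yc37 zc43) (kc xc20 yc51 zc48) (kc xc17 yc51 zc25) (kc xc19 yc36 zc46) (kc xc15 yc36 zc43) (kc xc10 yc37 zc48) (kc xc17 yc45 zc21) (kc xc19 yc11 zc22) (kc xc26 yc16 zc3) (kc xc19 yc39 zc13) (kc xc28 yc41 zc34) (kc xc10 yc37 zc50) (kc xc28 yc41 zc35) (kc xc19 yc39 zc24) (kc xc28 yc41 zc36) (kc xc10 yc37 zc54) (kc xc10 yc37 zc53) (kc xc18 yc3 zc24) (kc xc22 yc36 zc3) (kc xc10 yc37 zc55) (kc xc23 yc51 zc48) (kc xc26 yc48 zc6) (kc xc24 yc4 zc23) (kc xc19 yc22 zc24) (kc xc26 yc11 zc47) (kc xc19 yc21 zc39) (kc xc23 yc50 zc13) (kc xc22 yc34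 zc34) (kc xc28 yc41 zc44) (kc xc10 yc37 zc60) (kc xc28 yc41 zc46) (kc xc23 yc51 zc47) (kc xc15 yc23 zc4) (kc xc10 yc37 zc61) (kc xc25 yc25 zc50) (kc xc13 yc2 zc21) (kc xc10 yc38 zc0) (kc xc25 yc4 zc16) (kc xc28 yc41 zc51) (kc xc10 yc38 zc1) (kc xc24 yc4 zc24) (kc xc10 yc38 zc3) (kc xc27 yc44 zc6) (kc xc28 yc9 zc57) (kc xc27 yc52 zc49) (kc xc10 yc38 zc4) (kc xc28 yc41 zc55) (kc xc28 yc41 zc57) (kc xc28 yc41 zc58) (kc xc10 yc38 zc5) (kc xc28 yc42 zc0) (kc xc23 yc45 zc31) (kc xc26 yc43 zc37) (kc xc10 yc44 zc13) (kc xc26 yc43 zc38) (kc xc19 yc5 zc61) (kc xc10 yc38 zc10) (kc xc15 yc54 zc53)) (@D3.rec (fun _ => Pt) (kc xc15 yc54 zc52) (kc xc10 yc38 zc9) (kc xc19 yc26 zc49) (kc xc28 yc42 zc3) (kc xc20 yc3 zc54) (kc xc28 yc40 zc38) (kc xc10 yc38 zc12) (kc xc19 yc49 zc41) (kc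 xc11 yc24 zc60) (kc xc10 yc38 zc13) (kc xc28 yc42 zc10) (kc xc28 yc42 zc15) (kc xc10 yc38 zc14) (kc xc28 yc42 zc16) (kc xc27 yc37 zc23) (kc xc19 yc30 zc61) (kc xc28 yc41 zc52) (kc xc14 yc54 zc18) (kc xc10 yc38 zc16) (kc xc25 yc13 zc53) (kc xc25 yc15 zc10) (kc xc28 yc42 zc30) (kc xc10 yc53 zc6) (kc xc28 yc42 zc33) (kc xc10 yc53 zc8) (kc xc28 yc42 zc35) (kc xc28 yc42 zc37) (kc xc10 yc38 zc19) (kc xc15 yc52 zc53) (kc xc28 yc42 zc39) (kc xc28 yc42 zc20) (kc xc28 yc42 zc18) (kc xc10 yc38 zc25) (kc xc25 yc44 zc17) (kc xc20 yc3 zc61) (kc xc28 yc42 zc9) (kc xc26 yc18 zc7) (kc xc27 yc3 zc57) (kc xc27 yc25 zc43) (kc xc26 yc12 zc30) (kc xc27 yc25 zc46) (kc xc27 yc19 zc31) (kc xc10 yc38 zc28) (kc xc26 yc12 zc32) (kc xc25 yc41 zc55) (kc xc25 yc26 zc58) (kc xc19 yc35 zc6) (kc xc20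 yc47 zc33) (kc xc19 yc35 zc7) (kc xc20 yc47 zc34) (kc xc28 yc42 zc50) (kc xc26 yc12 zc28) (kc xc24 yc44 zc45) (kc xc14 yc58 zc16) (kc xc26 yc28 zc24) (kc xc14 yc58 zc17) (kc xc15 yc59 zc5) (kc xc16 yc10 zc34) (kc xc15 yc58 zc24) (kc xc10 yc38 zc36) (kc xc23 yc14 zc53) (kc xc16 yc14 zc24)) (@D3.rec (fun _ => Pt) (kc xc10 yc38 zc37) (kc xc25 yc1 zc37) (kc xc15 yc6 zc11) (kc xc16 yc16 zc39) (kc xc17 yc51 zc8) (kc xc10 yc38 zc43) (kc xc28 yc42 zc58) (kc xc10 yc39 zc10) (kc xc22 yc51 zc59) (kc xc26 yc23 zc36) (kc xc24 yc39 zc51) (kc xc15 yc59 zc33) (kc xc10 yc39 zc18) (kc xc15 yc2 zc57) (kc xc17 yc48 zc20) (kc xc15 yc33 zc46) (kc xc25 yc28 zc10) (kc xc10 yc38 zc53) (kc xc10 yc38 zc55) (kc xc21 yc43 zc48) (kc xc10 yc38 zc58) (kc xc24 yc26 zc59) (kc xc15 yc21 zc5) (kc xc15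 yc21 zc1) (kc xc15 yc54 zc43) (kc xc21 yc17 zc6) (kc xc28 yc43 zc2) (kc xc10 yc39 zc0) (kc xc10 yc39 zc1) (kc xc28 yc26 zc16) (kc xc20 yc5 zc20) (kc xc10 yc39 zc2) (kc xc28 yc26 zc21) (kc xc24 yc28 zc39) (kc xc15 yc2 zc4) (kc xc19 yc20 zc20) (kc xc19 yc20 zc18) (kc xc14 yc58 zc46) (kc xc18 yc38 zc16) (kc xc10 yc39 zc7) (kc xc12 yc6 zc44) (kc xc16 yc8 zc60) (kc xc21 yc54 zc24) (kc xc28 yc43 zc12) (kc xc19 yc20 zc32) (kc xc10 yc39 zc14) (kc xc23 yc19 zc46) (kc xc28 yc43 zc14) (kc xc10 yc39 zc15) (kc xc13 yc26 zc57) (kc xc12 yc5 zc48) (kc xc16 yc39 zc41) (kc xc16 yc25 zc59) (kc xc21 yc43 zc42) (kc xc26 yc22 zc9) (kc xc26 yc22 zc29) (kc xc10 yc39 zc17) (kc xc20 yc8 zc27) (kc xc10 yc39 zc19) (kc xc28 yc43 zc22) (kc xc19 yc57 zc26) (kc xc19 yc57 zc27)) (@D3.rec (fun _ =>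 Pt) (kc xc28 yc43 zc28) (kc xc27 yc36 zc26) (kc xc28 yc43 zc30) (kc xc10 yc39 zc21) (kc xc18 yc20 zc44) (kc xc27 yc0 zc48) (kc xc27 yc36 zc34) (kc xc18 yc22 zc19) (kc xc16 yc53 zc34) (kc xc28 yc18 zc0) (kc xc28 yc16 zc0) (kc xc25 yc10 zc30) (kc xc10 yc39 zc29) (kc xc20 yc9 zc29) (kc xc11 yc6 zc19) (kc xc17 yc53 zc25) (kc xc10 yc55 zc44) (kc xc10 yc55 zc45) (kc xc25 yc0 zc31) (kc xc28 yc33 zc8) (kc xc15 yc24 zc38) (kc xc24 yc49 zc3) (kc xc23 yc49 zc28) (kc xc28 yc43 zc41) (kc xc28 yc43 zc43) (kc xc28 yc43 zc45) (kc xc10 yc39 zc43) (kc xc28 yc43 zc50) (kc xc24 yc52 zc21) (kc xc24 yc52 zc22) (kc xc26 yc17 zc13) (kc xc27 yc44 zc29) (kc xc24 yc26 zc42) (kc xc21 yc29 zc20) (kc xc15 yc49 zc4) (kc xc10 yc56 zc37) (kc xc16 yc25 zc0) (kc xc10 yc39 zc47) (kc xc15 yc15 zc33) (kc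 xc14 yc22 zc19) (kc xc16 yc26 zc60) (kc xc28 yc41 zc5) (kc xc19 yc20 zc57) (kc xc28 yc41 zc6) (kc xc10 yc39 zc54) (kc xc10 yc39 zc55) (kc xc19 yc19 zc57) (kc xc19 yc21 zc5) (kc xc10 yc39 zc57) (kc xc27 yc46 zc26) (kc xc24 yc0 zc27) (kc xc24 yc0 zc28) (kc xc28 yc44 zc6) (kc xc28 yc11 zc14) (kc xc20 yc38 zc13) (kc xc27 yc55 zc20) (kc xc10 yc39 zc60) (kc xc26 yc4 zc24) (kc xc24 yc28 zc38) (kc xc14 yc43 zc23) (kc xc22 yc41 zc13) (kc xc21 yc39 zc61)) (@D3.rec (fun _ => Pt) (kc xc10 yc40 zc3) (kc xc10 yc40 zc2) (kc xc10 yc40 zc9) (kc xc25 yc11 zc33) (kc xc28 yc18 zc46) (kc xc17 yc1 zc28) (kc xc24 yc26 zc31) (kc xc10 yc57 zc29) (kc xc23 yc11 zc4) (kc xc10 yc40 zc7) (kc xc14 yc51 zc59) (kc xc17 yc42 zc8) (kc xc28 yc30 zc36) (kc xc10 yc40 zc10) (kc xc15 yc27 zc51) (kc xc14 yc39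 zc0) (kc xc11 yc26 zc9) (kc xc20 yc59 zc16) (kc xc14 yc30 zc46) (kc xc18 yc18 zc38) (kc xc14 yc18 zc32) (kc xc19 yc56 zc51) (kc xc28 yc44 zc30) (kc xc25 yc43 zc24) (kc xc25 yc6 zc9) (kc xc28 yc44 zc36) (kc xc25 yc6 zc13) (kc xc22 yc26 zc21) (kc xc14 yc38 zc59) (kc xc17 yc53 zc28) (kc xc17 yc52 zc4) (kc xc14 yc32 zc43) (kc xc14 yc34 zc12) (kc xc17 yc52 zc3) (kc xc15 yc58 zc38) (kc xc10 yc40 zc22) (kc xc17 yc44 zc39) (kc xc28 yc44 zc45) (kc xc10 yc40 zc23) (kc xc28 yc44 zc47) (kc xc15 yc56 zc61) (kc xc26 yc12 zc37) (kc xc15 yc58 zc36) (kc xc10 yc40 zc28) (kc xc10 yc40 zc27) (kc xc25 yc43 zc56) (kc xc11 yc58 zc53) (kc xc16 yc1 zc46) (kc xc28 yc44 zc49) (kc xc20 yc18 zc6) (kc xc19 yc51 zc5) (kc xc23 yc59 zc20) (kc xc28 yc44 zc51) (kc xc28 yc26 zc19) (kc xc25 yc4 zc8) (kc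 xc15 yc12 zc33) (kc xc19 yc50 zc56) (kc xc19 yc18 zc46) (kc xc10 yc40 zc36) (kc xc28 yc42 zc59) (kc xc10 yc40 zc37) (kc xc24 yc4 zc61)) (@D3.rec (fun _ => Pt) (kc xc24 yc4 zc53) (kc xc10 yc40 zc38) (kc xc28 yc44 zc61) (kc xc18 yc51 zc1) (kc xc27 yc37 zc47) (kc xc27 yc37 zc48) (kc xc21 yc38 zc29) (kc xc10 yc40 zc42) (kc xc27 yc59 zc15) (kc xc28 yc7 zc44) (kc xc10 yc40 zc48) (kc xc27 yc52 zc18) (kc xc28 yc45 zc6) (kc xc10 yc40 zc51) (kc xc27 yc55 zc9) (kc xc28 yc45 zc10) (kc xc23 yc38 zc8) (kc xc18 yc53 zc50) (kc xc19 yc17 zc36) (kc xc15 yc1 zc2) (kc xc19 yc17 zc35) (kc xc11 yc10 zc34) (kc xc11 yc10 zc35) (kc xc23 yc58 zc18) (kc xc23 yc58 zc17) (kc xc28 yc45 zc22) (kc xc10 yc41 zc1) (kc xc28 yc7 zc53) (kc xc28 yc7 zc46) (kc xc28 yc15 zc39) (kc xc25 yc9 zc13) (kc xc28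 yc7 zc48) (kc xc19 yc17 zc44) (kc xc10 yc40 zc61) (kc xc10 yc41 zc0) (kc xc22 yc45 zc18) (kc xc28 yc45 zc33) (kc xc19 yc4 zc43) (kc xc28 yc45 zc35) (kc xc27 yc38 zc36) (kc xc10 yc41 zc9) (kc xc28 yc2 zc45) (kc xc12 yc29 zc16) (kc xc13 yc41 zc0) (kc xc17 yc53 zc29) (kc xc10 yc41 zc12) (kc xc21 yc13 zc59) (kc xc28 yc45 zc39) (kc xc26 yc18 zc29) (kc xc15 yc50 zc3) (kc xc28 yc15 zc40) (kc xc10 yc41 zc16) (kc xc27 yc52 zc47) (kc xc28 yc38 zc6) (kc xc28 yc19 zc27) (kc xc21 yc51 zc59) (kc xc25 yc51 zc0) (kc xc19 yc18 zc42) (kc xc20 yc4 zc29) (kc xc19 yc50 zc22) (kc xc10 yc41 zc21) (kc xc28 yc45 zc44)) (@D3.rec (fun _ => Pt) (kc xc19 yc32 zc33) (kc xc26 yc32 zc51) (kc xc10 yc41 zc30) (kc xc10 yc41 zc24) (kc xc27 yc6 zc11) (kc xc19 yc18 zc47) (kc xc19 yc39 zc26) (kc xc28 yc45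 zc42) (kc xc11 yc1 zc10) (kc xc10 yc41 zc26) (kc xc10 yc41 zc27) (kc xc23 yc52 zc3) (kc xc20 yc1 zc11) (kc xc20 yc6 zc17) (kc xc10 yc41 zc29) (kc xc20 yc31 zc31) (kc xc11 yc15 zc34) (kc xc12 yc2 zc38) (kc xc11 yc13 zc12) (kc xc22 yc49 zc54) (kc xc12 yc34 zc23) (kc xc10 yc41 zc36) (kc xc19 yc51 zc11) (kc xc17 yc15 zc43) (kc xc11 yc1 zc9) (kc xc10 yc41 zc39) (kc xc14 yc3 zc32) (kc xc23 yc52 zc4) (kc xc22 yc16 zc27) (kc xc10 yc41 zc43) (kc xc28 yc45 zc56) (kc xc28 yc45 zc57) (kc xc10 yc41 zc44) (kc xc25 yc40 zc45) (kc xc25 yc40 zc47) (kc xc13 yc16 zc30) (kc xc20 yc10 zc40) (kc xc10 yc41 zc47) (kc xc28 yc46 zc2) (kc xc19 yc15 zc29) (kc xc19 yc50 zc16) (kc xc28 yc46 zc1) (kc xc11 yc1 zc8) (kc xc10 yc41 zc49) (kc xc28 yc14 zc56) (kc xc13 yc7 zc20) (kc xc28 yc46 zc16) (kc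 xc23 yc6 zc28) (kc xc15 yc3 zc51) (kc xc11 yc1 zc6) (kc xc10 yc41 zc52) (kc xc11 yc1 zc0) (kc xc28 yc46 zc25) (kc xc10 yc41 zc53) (kc xc11 yc1 zc3) (kc xc15 yc54 zc27) (kc xc10 yc42 zc17) (kc xc11 yc0 zc46) (kc xc11 yc0 zc16) (kc xc26 yc51 zc26) (kc xc11 yc0 zc53) (kc xc28 yc46 zc29)) (@D3.rec (fun _ => Pt) (kc xc28 yc46 zc30) (kc xc23 yc13 zc29) (kc xc10 yc41 zc60) (kc xc10 yc41 zc61) (kc xc28 yc46 zc34) (kc xc10 yc41 zc58) (kc xc24 yc13 zc58) (kc xc14 yc20 zc6) (kc xc23 yc6 zc47) (kc xc10 yc41 zc59) (kc xc24 yc13 zc59) (kc xc28 yc15 zc0) (kc xc28 yc46 zc42) (kc xc28 yc46 zc43) (kc xc19 yc33 zc24) (kc xc25 yc50 zc54) (kc xc10 yc42 zc0) (kc xc19 yc27 zc43) (kc xc14 yc36 zc13) (kc xc10 yc42 zc1) (kc xc19 yc26 zc52) (kc xc20 yc5 zc27) (kc xc10 yc42 zc3) (kc xc28 yc6 zc28)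 (kc xc19 yc15 zc27) (kc xc10 yc42 zc5) (kc xc24 yc46 zc51) (kc xc18 yc29 zc9) (kc xc26 yc59 zc58) (kc xc27 yc56 zc17) (kc xc11 yc39 zc15) (kc xc26 yc40 zc13) (kc xc26 yc39 zc8) (kc xc10 yc42 zc7) (kc xc28 yc46 zc49) (kc xc10 yc42 zc9) (kc xc28 yc46 zc52) (kc xc19 yc50 zc49) (kc xc16 yc39 zc17) (kc xc10 yc42 zc11) (kc xc28 yc46 zc58) (kc xc24 yc50 zc6) (kc xc28 yc46 zc57) (kc xc28 yc41 zc59) (kc xc19 yc57 zc9) (kc xc10 yc42 zc13) (kc xc28 yc47 zc2) (kc xc22 yc29 zc27) (kc xc21 yc5 zc4) (kc xc26 yc2 zc21) (kc xc28 yc47 zc5) (kc xc10 yc42 zc18) (kc xc26 yc12 zc46) (kc xc28 yc47 zc7) (kc xc10 yc42 zc19) (kc xc28 yc47 zc8) (kc xc24 yc44 zc13) (kc xc23 yc2 zc34) (kc xc24 yc13 zc18) (kc xc28 yc8 zc47) (kc xc10 yc42 zc21) (kc xc28 yc47 zc14)) (@D3.rec (fun _ => Pt) (kc xc23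 yc48 zc3) (kc xc28 yc47 zc16) (kc xc27 yc34 zc54) (kc xc26 yc30 zc5) (kc xc23 yc2 zc33) (kc xc10 yc42 zc25) (kc xc26 yc30 zc6) (kc xc11 yc25 zc23) (kc xc28 yc9 zc4) (kc xc10 yc42 zc28) (kc xc28 yc47 zc22) (kc xc20 yc17 zc24) (kc xc20 yc17 zc23) (kc xc10 yc42 zc29) (kc xc10 yc42 zc30) (kc xc28 yc47 zc24) (kc xc16 yc55 zc4) (kc xc10 yc42 zc33) (kc xc28 yc36 zc3) (kc xc10 yc42 zc34) (kc xc28 yc47 zc25) (kc xc16 yc57 zc45) (kc xc10 yc42 zc37) (kc xc20 yc44 zc41) (kc xc25 yc33 zc34) (kc xc10 yc42 zc44) (kc xc10 yc42 zc43) (kc xc10 yc42 zc42) (kc xc28 yc47 zc28) (kc xc28 yc47 zc31) (kc xc21 yc2 zc1) (kc xc28 yc47 zc29) (kc xc11 yc29 zc39) (kc xc25 yc49 zc56) (kc xc10 yc42 zc51) (kc xc10 yc42 zc50) (kc xc25 yc49 zc7) (kc xc11 yc30 zc24) (kc xc28 yc11 zc30) (kc xc28 yc11 zc25)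 (kc xc18 yc17 zc54) (kc xc16 yc24 zc21) (kc xc18 yc17 zc56) (kc xc19 yc57 zc4) (kc xc19 yc36 zc10) (kc xc10 yc42 zc57) (kc xc20 yc58 zc32) (kc xc20 yc58 zc33) (kc xc28 yc37 zc5) (kc xc28 yc47 zc40) (kc xc24 yc5 zc47) (kc xc28 yc4 zc56) (kc xc19 yc32 zc34) (kc xc28 yc47 zc44) (kc xc28 yc47 zc46) (kc xc25 yc6 zc1) (kc xc21 yc2 zc30) (kc xc12 yc10 zc54) (kc xc20 yc32 zc60) (kc xc10 yc43 zc24) (kc xc19 yc43 zc9) (kc xc10 yc43 zc2)) (@D3.rec (fun _ => Pt) (kc xc26 yc55 zc37) (kc xc24 yc6 zc41) (kc xc28 yc47 zc52) (kc xc23 yc58 zc23) (kc xc25 yc24 zc14) (kc xc25 yc6 zc15) (kc xc25 yc24 zc15) (kc xc18 yc45 zc32) (kc xc10 yc43 zc7) (kc xc28 yc47 zc59) (kc xc18 yc18 zc43) (kc xc27 yc38 zc14) (kc xc27 yc38 zc13) (kc xc10 yc43 zc12) (kc xc10 yc43 zc14) (kc xc25 yc22 zc58) (kc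 xc25 yc22 zc57) (kc xc20 yc25 zc50) (kc xc10 yc43 zc19) (kc xc12 yc54 zc13) (kc xc10 yc43 zc20) (kc xc20 yc25 zc44) (kc xc19 yc47 zc12) (kc xc12 yc44 zc49) (kc xc17 yc56 zc9) (kc xc10 yc43 zc27) (kc xc20 yc38 zc34) (kc xc10 yc43 zc28) (kc xc28 yc42 zc6) (kc xc28 yc48 zc12) (kc xc28 yc48 zc15) (kc xc21 yc1 zc47) (kc xc14 yc31 zc31) (kc xc18 yc54 zc34) (kc xc25 yc22 zc24) (kc xc20 yc56 zc1) (kc xc27 yc15 zc36) (kc xc20 yc56 zc2) (kc xc18 yc20 zc19) (kc xc28 yc48 zc21) (kc xc28 yc48 zc23) (kc xc14 yc40 zc2) (kc xc18 yc18 zc10) (kc xc27 yc42 zc12) (kc xc18 yc55 zc6) (kc xc28 yc48 zc25) (kc xc28 yc48 zc26) (kc xc15 yc58 zc43) (kc xc10 yc43 zc38) (kc xc13 yc1 zc23) (kc xc21 yc36 zc59) (kc xc20 yc56 zc30) (kc xc25 yc6 zc33) (kc xc12 yc54 zc53) (kc xc16 yc50 zc38) (kc xc17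 yc31 zc49) (kc xc25 yc22 zc48) (kc xc23 yc10 zc24) (kc xc10 yc43 zc47) (kc xc14 yc33 zc27) (kc xc19 yc49 zc46) (kc xc14 yc34 zc20)) (@D3.rec (fun _ => Pt) (kc xc25 yc36 zc33) (kc xc10 yc43 zc49) (kc xc23 yc26 zc31) (kc xc25 yc49 zc43) (kc xc12 yc42 zc42) (kc xc14 yc22 zc29) (kc xc19 yc56 zc13) (kc xc10 yc43 zc52) (kc xc12 yc25 zc51) (kc xc10 yc43 zc53) (kc xc28 yc33 zc11) (kc xc10 yc45 zc44) (kc xc28 yc48 zc37) (kc xc19 yc3 zc3) (kc xc26 yc36 zc46) (kc xc26 yc36 zc47) (kc xc26 yc37 zc37) (kc xc21 yc1 zc8) (kc xc16 yc56 zc42) (kc xc10 yc44 zc17) (kc xc20 yc7 zc12) (kc xc10 yc43 zc61) (kc xc16 yc56 zc37) (kc xc16 yc57 zc22) (kc xc20 yc7 zc37) (kc xc28 yc48 zc48) (kc xc23 yc30 zc46) (kc xc18 yc47 zc27) (kc xc17 yc11 zc33) (kc xc26 yc36 zc58) (kc xc25 yc48 zc21) (kc xc28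 yc28 zc55) (kc xc28 yc48 zc53) (kc xc25 yc6 zc41) (kc xc28 yc48 zc58) (kc xc28 yc48 zc60) (kc xc10 yc44 zc5) (kc xc28 yc49 zc2) (kc xc26 yc6 zc34) (kc xc28 yc49 zc4) (kc xc10 yc44 zc8) (kc xc10 yc44 zc9) (kc xc28 yc49 zc8) (kc xc28 yc49 zc6) (kc xc10 yc58 zc32) (kc xc28 yc47 zc50) (kc xc20 yc18 zc20) (kc xc10 yc44 zc19) (kc xc26 yc52 zc19) (kc xc10 yc44 zc20) (kc xc28 yc49 zc16) (kc xc26 yc49 zc39) (kc xc10 yc44 zc21) (kc xc10 yc44 zc22) (kc xc10 yc44 zc28) (kc xc28 yc34 zc3) (kc xc28 yc34 zc5) (kc xc25 yc19 zc13) (kc xc21 yc0 zc61) (kc xc12 yc50 zc8) (kc xc27 yc15 zc52) (kc xc28 yc49 zc20)) (@D3.rec (fun _ => Pt) (kc xc27 yc16 zc35) (kc xc10 yc44 zc35) (kc xc27 yc15 zc48) (kc xc28 yc49 zc21) (kc xc18 yc39 zc9) (kc xc28 yc49 zc22) (kc xc18 yc53 zc3) (kc xc20 yc38 zc55)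 (kc xc25 yc21 zc8) (kc xc23 yc8 zc34) (kc xc19 yc28 zc37) (kc xc14 yc13 zc29) (kc xc25 yc6 zc57) (kc xc14 yc22 zc24) (kc xc10 yc44 zc44) (kc xc24 yc33 zc49) (kc xc14 yc22 zc25) (kc xc19 yc27 zc4) (kc xc20 yc28 zc3) (kc xc21 yc0 zc49) (kc xc28 yc49 zc30) (kc xc10 yc44 zc51) (kc xc10 yc44 zc50) (kc xc22 yc45 zc37) (kc xc10 yc44 zc53) (kc xc28 yc49 zc32) (kc xc22 yc11 zc60) (kc xc17 yc32 zc50) (kc xc25 yc42 zc28) (kc xc28 yc49 zc35) (kc xc28 yc49 zc37) (kc xc10 yc44 zc56) (kc xc13 yc59 zc29) (kc xc28 yc49 zc39) (kc xc20 yc28 zc61) (kc xc13 yc25 zc37) (kc xc26 yc45 zc4) (kc xc10 yc44 zc58) (kc xc10 yc44 zc59) (kc xc20 yc51 zc1) (kc xc10 yc44 zc60) (kc xc24 yc53 zc11) (kc xc17 yc32 zc38) (kc xc18 yc7 zc51) (kc xc25 yc23 zc32) (kc xc18 yc7 zc52) (kc xc10 yc45 zc4) (kc xc20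 yc55 zc7) (kc xc28 yc6 zc32) (kc xc19 yc16 zc2) (kc xc28 yc6 zc31) (kc xc21 yc22 zc7) (kc xc19 yc22 zc20) (kc xc25 yc59 zc40) (kc xc10 yc45 zc12) (kc xc11 yc14 zc9) (kc xc22 yc37 zc10) (kc xc15 yc29 zc11) (kc xc10 yc45 zc21) (kc xc28 yc20 zc35) (kc xc10 yc45 zc17) (kc xc25 yc23 zc33)) (@D3.rec (fun _ => Pt) (kc xc25 yc23 zc34) (kc xc20 yc1 zc20) (kc xc15 yc32 zc38) (kc xc14 yc31 zc38) (kc xc19 yc26 zc17) (kc xc22 yc22 zc50) (kc xc17 yc50 zc0) (kc xc25 yc53 zc2) (kc xc28 yc49 zc59) (kc xc28 yc49 zc50) (kc xc15 yc29 zc13) (kc xc14 yc31 zc45) (kc xc17 yc24 zc1) (kc xc25 yc46 zc59) (kc xc21 yc39 zc55) (kc xc19 yc47 zc13) (kc xc22 yc6 zc10) (kc xc16 yc32 zc8) (kc xc10 yc45 zc29) (kc xc17 yc17 zc0) (kc xc10 yc45 zc26) (kc xc24 yc53 zc32) (kc xc11 yc12 zc6) (kc xc23 yc30 zc43)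 (kc xc10 yc45 zc28) (kc xc10 yc45 zc31) (kc xc20 yc7 zc16) (kc xc28 yc20 zc1) (kc xc17 yc0 zc34) (kc xc23 yc45 zc27) (kc xc12 yc5 zc27) (kc xc12 yc5 zc28) (kc xc28 yc50 zc14) (kc xc10 yc45 zc36) (kc xc10 yc48 zc32) (kc xc28 yc48 zc36) (kc xc18 yc43 zc57) (kc xc15 yc30 zc29) (kc xc11 yc25 zc2) (kc xc20 yc27 zc59) (kc xc10 yc45 zc40) (kc xc11 yc31 zc49) (kc xc11 yc31 zc54) (kc xc19 yc22 zc17) (kc xc10 yc45 zc45) (kc xc10 yc45 zc43) (kc xc25 yc23 zc47) (kc xc17 yc9 zc52) (kc xc19 yc42 zc47) (kc xc10 yc45 zc46) (kc xc28 yc50 zc17) (kc xc10 yc45 zc47) (kc xc28 yc50 zc18) (kc xc14 yc19 zc54) (kc xc20 yc26 zc49) (kc xc21 yc36 zc14) (kc xc18 yc17 zc6) (kc xc27 yc1 zc4) (kc xc27 yc10 zc45) (kc xc25 yc56 zc11) (kc xc16 yc2 zc20) (kc xc10 yc45 zc55)) (@D3.rec (fun _ => Pt) (kc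 xc26 yc49 zc17) (kc xc24 yc10 zc14) (kc xc27 yc44 zc35) (kc xc22 yc35 zc53) (kc xc25 yc58 zc8) (kc xc24 yc47 zc2) (kc xc24 yc20 zc3) (kc xc20 yc11 zc54) (kc xc27 yc2 zc43) (kc xc10 yc45 zc58) (kc xc14 yc37 zc20) (kc xc14 yc37 zc27) (kc xc15 yc57 zc61) (kc xc15 yc58 zc0) (kc xc25 yc56 zc7) (kc xc21 yc22 zc40) (kc xc28 yc50 zc27) (kc xc15 yc52 zc29) (kc xc20 yc58 zc45) (kc xc26 yc34 zc26) (kc xc26 yc37 zc36) (kc xc10 yc46 zc1) (kc xc25 yc5 zc58) (kc xc28 yc50 zc30) (kc xc10 yc46 zc4) (kc xc10 yc46 zc3) (kc xc19 yc31 zc37) (kc xc10 yc46 zc5) (kc xc28 yc50 zc38) (kc xc28 yc50 zc37) (kc xc28 yc50 zc43) (kc xc10 yc46 zc6) (kc xc28 yc50 zc48) (kc xc28 yc50 zc47) (kc xc24 yc14 zc15) (kc xc24 yc14 zc16) (kc xc10 yc46 zc8) (kc xc19 yc26 zc10) (kc xc15 yc22 zc37) (kc xc13 yc33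 zc27) (kc xc25 yc29 zc10) (kc xc22 yc21 zc38) (kc xc14 yc52 zc10) (kc xc10 yc46 zc14) (kc xc16 yc38 zc39) (kc xc19 yc44 zc2) (kc xc24 yc4 zc13) (kc xc11 yc8 zc40) (kc xc10 yc46 zc17) (kc xc14 yc11 zc56) (kc xc10 yc46 zc18) (kc xc28 yc50 zc57) (kc xc26 yc47 zc52) (kc xc10 yc46 zc20) (kc xc28 yc51 zc2) (kc xc24 yc20 zc11) (kc xc28 yc51 zc4) (kc xc28 yc51 zc5) (kc xc26 yc47 zc56) (kc xc28 yc51 zc7) (kc xc28 yc51 zc8) (kc xc17 yc52 zc40)) (@D3.rec (fun _ => Pt) (kc xc26 yc34 zc39) (kc xc28 yc51 zc11) (kc xc28 yc51 zc12) (kc xc10 yc46 zc25) (kc xc25 yc32 zc6) (kc xc26 yc41 zc39) (kc xc26 yc35 zc14) (kc xc10 yc46 zc29) (kc xc10 yc46 zc28) (kc xc10 yc48 zc20) (kc xc28 yc51 zc19) (kc xc22 yc21 zc42) (kc xc26 yc43 zc12) (kc xc10 yc46 zc38) (kc xc11 yc7 zc60) (kc xc10 yc46 zc40)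 (kc xc15 yc42 zc26) (kc xc11 yc5 zc3) (kc xc28 yc51 zc34) (kc xc10 yc46 zc35) (kc xc19 yc3 zc28) (kc xc10 yc46 zc36) (kc xc24 yc4 zc31) (kc xc10 yc46 zc37) (kc xc28 yc51 zc38) (kc xc17 yc3 zc38) (kc xc28 yc51 zc21) (kc xc26 yc25 zc46) (kc xc26 yc25 zc45) (kc xc10 yc46 zc39) (kc xc28 yc11 zc2) (kc xc28 yc51 zc48) (kc xc28 yc51 zc50) (kc xc28 yc51 zc54) (kc xc28 yc51 zc27) (kc xc19 yc38 zc59) (kc xc19 yc38 zc60) (kc xc28 yc51 zc59) (kc xc25 yc55 zc23) (kc xc25 yc17 zc18) (kc xc28 yc52 zc0) (kc xc28 yc52 zc3) (kc xc28 yc52 zc5) (kc xc10 yc46 zc43) (kc xc28 yc16 zc44) (kc xc17 yc22 zc16) (kc xc28 yc52 zc10) (kc xc11 yc3 zc35) (kc xc10 yc46 zc46) (kc xc26 yc38 zc12) (kc xc10 yc46 zc47) (kc xc24 yc28 zc32) (kc xc28 yc52 zc11) (kc xc28 yc29 zc41) (kc xc28 yc52 zc18) (kc xc28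 yc52 zc19) (kc xc10 yc46 zc49) (kc xc23 yc57 zc43) (kc xc28 yc52 zc25) (kc xc19 yc52 zc3) (kc xc28 yc52 zc32) (kc xc28 yc29 zc44)) (@D3.rec (fun _ => Pt) (kc xc25 yc55 zc32) (kc xc25 yc55 zc33) (kc xc28 yc52 zc39) (kc xc25 yc55 zc6) (kc xc28 yc51 zc13) (kc xc10 yc46 zc52) (kc xc28 yc52 zc44) (kc xc24 yc49 zc26) (kc xc10 yc46 zc54) (kc xc28 yc52 zc45) (kc xc25 yc12 zc27) (kc xc25 yc12 zc14) (kc xc28 yc5 zc61) (kc xc20 yc2 zc14) (kc xc28 yc52 zc50) (kc xc10 yc46 zc57) (kc xc28 yc52 zc53) (kc xc28 yc52 zc55) (kc xc28 yc52 zc57) (kc xc20 yc2 zc18) (kc xc25 yc55 zc21) (kc xc25 yc55 zc22) (kc xc28 yc52 zc61) (kc xc25 yc54 zc59) (kc xc23 yc47 zc15) (kc xc10 yc46 zc60) (kc xc28 yc17 zc34) (kc xc17 yc48 zc2) (kc xc25 yc43 zc17) (kc xc11 yc19 zc48) (kc xc10 yc47 zc2) (kc xc28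 yc53 zc9) (kc xc10 yc49 zc23) (kc xc24 yc21 zc20) (kc xc11 yc22 zc39) (kc xc11 yc3 zc34) (kc xc26 yc48 zc22) (kc xc23 yc0 zc41) (kc xc26 yc48 zc24) (kc xc10 yc47 zc5) (kc xc28 yc53 zc24) (kc xc10 yc49 zc36) (kc xc28 yc53 zc30) (kc xc21 yc2 zc33) (kc xc10 yc47 zc7) (kc xc25 yc25 zc2) (kc xc28 yc53 zc34) (kc xc10 yc47 zc10) (kc xc26 yc45 zc0) (kc xc10 yc54 zc51) (kc xc10 yc54 zc58) (kc xc26 yc43 zc59) (kc xc10 yc47 zc12) (kc xc23 yc35 zc59) (kc xc11 yc33 zc14) (kc xc23 yc57 zc50) (kc xc25 yc59 zc20) (kc xc23 yc57 zc30) (kc xc24 yc34 zc31) (kc xc14 yc52 zc11) (kc xc23 yc56 zc38) (kc xc19 yc16 zc15)) (@D3.rec (fun _ => Pt) (kc xc10 yc47 zc22) (kc xc28 yc53 zc48) (kc xc10 yc47 zc26) (kc xc22 yc41 zc1) (kc xc10 yc47 zc27) (kc xc15 yc33 zc22) (kc xc15 yc18 zc17) (kc xc10 yc47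 zc29) (kc xc10 yc47 zc32) (kc xc28 yc53 zc52) (kc xc10 yc47 zc31) (kc xc19 yc59 zc28) (kc xc19 yc59 zc29) (kc xc16 yc58 zc53) (kc xc22 yc21 zc37) (kc xc24 yc34 zc42) (kc xc28 yc53 zc51) (kc xc10 yc47 zc33) (kc xc22 yc24 zc34) (kc xc25 yc47 zc1) (kc xc28 yc53 zc57) (kc xc17 yc49 zc46) (kc xc28 yc53 zc58) (kc xc28 yc53 zc60) (kc xc25 yc22 zc55) (kc xc20 yc46 zc33) (kc xc25 yc22 zc56) (kc xc18 yc53 zc20) (kc xc20 yc5 zc21) (kc xc19 yc54 zc26) (kc xc16 yc36 zc53) (kc xc10 yc47 zc39) (kc xc26 yc59 zc56) (kc xc12 yc55 zc4) (kc xc27 yc56 zc38) (kc xc28 yc54 zc4) (kc xc18 yc53 zc14) (kc xc19 yc28 zc26) (kc xc15 yc51 zc31) (kc xc15 yc51 zc33) (kc xc28 yc54 zc11) (kc xc11 yc3 zc16) (kc xc26 yc43 zc49) (kc xc19 yc58 zc27) (kc xc28 yc54 zc13) (kc xc10 yc48 zc2) (kc xc10 yc47 zc47)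 (kc xc28 yc54 zc18) (kc xc26 yc43 zc50) (kc xc26 yc43 zc51) (kc xc13 yc12 zc14) (kc xc10 yc48 zc7) (kc xc26 yc5 zc41) (kc xc26 yc5 zc42) (kc xc28 yc54 zc34) (kc xc20 yc54 zc5) (kc xc25 yc32 zc21) (kc xc28 yc54 zc39) (kc xc25 yc44 zc18) (kc xc22 yc24 zc32) (kc xc23 yc56 zc52) (kc xc24 yc25 zc42)) (@D3.rec (fun _ => Pt) (kc xc10 yc47 zc52) (kc xc23 yc24 zc9) (kc xc10 yc47 zc54) (kc xc17 yc42 zc5) (kc xc28 yc54 zc47) (kc xc22 yc19 zc44) (kc xc10 yc47 zc57) (kc xc20 yc2 zc37) (kc xc14 yc44 zc4) (kc xc10 yc47 zc59) (kc xc19 yc33 zc22) (kc xc26 yc40 zc16) (kc xc26 yc2 zc7) (kc xc10 yc48 zc1) (kc xc28 yc54 zc55) (kc xc16 yc37 zc61) (kc xc16 yc41 zc20) (kc xc10 yc48 zc4) (kc xc10 yc48 zc5) (kc xc19 yc39 zc36) (kc xc10 yc48 zc6) (kc xc22 yc38 zc25) (kc xc21 yc54 zc41) (kc xc18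 yc15 zc33) (kc xc10 yc48 zc12) (kc xc10 yc48 zc14) (kc xc22 yc17 zc59) (kc xc10 yc48 zc18) (kc xc25 yc23 zc19) (kc xc21 yc18 zc36) (kc xc20 yc9 zc1) (kc xc19 yc33 zc27) (kc xc10 yc48 zc26) (kc xc19 yc21 zc0) (kc xc19 yc23 zc52) (kc xc10 yc48 zc29) (kc xc11 yc0 zc36) (kc xc27 yc22 zc50) (kc xc10 yc48 zc30) (kc xc19 yc34 zc5) (kc xc11 yc25 zc6) (kc xc20 yc25 zc13) (kc xc10 yc48 zc34) (kc xc21 yc42 zc5) (kc xc19 yc40 zc44) (kc xc11 yc9 zc61) (kc xc20 yc58 zc40) (kc xc26 yc5 zc39) (kc xc10 yc48 zc40) (kc xc26 yc48 zc21) (kc xc15 yc47 zc59) (kc xc17 yc49 zc3) (kc xc25 yc16 zc41) (kc xc10 yc48 zc45) (kc xc10 yc48 zc44) (kc xc28 yc55 zc13) (kc xc28 yc55 zc14) (kc xc28 yc55 zc12) (kc xc25 yc45 zc5) (kc xc20 yc4 zc32) (kc xc19 yc12 zc34) (kc xc17 yc50 zc60)) (@D3.rec (fun _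 => Pt) (kc xc10 yc48 zc48) (kc xc28 yc55 zc15) (kc xc16 yc30 zc52) (kc xc20 yc4 zc38) (kc xc28 yc55 zc24) (kc xc10 yc48 zc55) (kc xc10 yc59 zc40) (kc xc10 yc59 zc48) (kc xc15 yc47 zc57) (kc xc10 yc48 zc51) (kc xc16 yc29 zc29) (kc xc23 yc30 zc4) (kc xc28 yc54 zc15) (kc xc10 yc48 zc52) (kc xc25 yc41 zc26) (kc xc10 yc48 zc53) (kc xc26 yc22 zc12) (kc xc10 yc48 zc54) (kc xc15 yc8 zc13) (kc xc18 yc23 zc23) (kc xc25 yc40 zc36) (kc xc10 yc50 zc51) (kc xc19 yc32 zc10) (kc xc26 yc46 zc55) (kc xc19 yc22 zc14) (kc xc19 yc3 zc27) (kc xc23 yc53 zc10) (kc xc19 yc32 zc31) (kc xc28 yc55 zc35) (kc xc11 yc8 zc39) (kc xc20 yc3 zc13) (kc xc28 yc55 zc36) (kc xc20 yc3 zc14) (kc xc22 yc57 zc46) (kc xc23 yc53 zc45) (kc xc10 yc49 zc19) (kc xc28 yc55 zc41) (kc xc19 yc58 zc44) (kc xc19 yc58 zc45)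 (kc xc28 yc39 zc13) (kc xc10 yc49 zc25) (kc xc11 yc0 zc27) (kc xc23 yc19 zc45) (kc xc28 yc53 zc42) (kc xc20 yc51 zc0) (kc xc24 yc25 zc38) (kc xc15 yc4 zc39) (kc xc28 yc53 zc14) (kc xc11 yc20 zc48) (kc xc10 yc49 zc24) (kc xc20 yc7 zc32) (kc xc11 yc37 zc7) (kc xc10 yc49 zc27) (kc xc26 yc46 zc7) (kc xc28 yc55 zc52) (kc xc10 yc49 zc30) (kc xc19 yc48 zc56) (kc xc18 yc50 zc10) (kc xc26 yc34 zc48) (kc xc26 yc34 zc49) (kc xc27 yc8 zc0) (kc xc28 yc55 zc57)) (@D3.rec (fun _ => Pt) (kc xc20 yc38 zc53) (kc xc26 yc38 zc14) (kc xc10 yc49 zc32) (kc xc28 yc56 zc3) (kc xc17 yc33 zc3) (kc xc19 yc32 zc39) (kc xc28 yc56 zc13) (kc xc10 yc49 zc38) (kc xc26 yc46 zc12) (kc xc28 yc53 zc41) (kc xc10 yc49 zc35) (kc xc27 yc3 zc13) (kc xc10 yc49 zc37) (kc xc28 yc56 zc18) (kc xc12 yc9 zc7) (kc xc26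 yc43 zc34) (kc xc19 yc52 zc58) (kc xc19 yc51 zc33) (kc xc10 yc49 zc42) (kc xc13 yc0 zc26) (kc xc20 yc19 zc16) (kc xc20 yc19 zc15) (kc xc28 yc53 zc39) (kc xc13 yc23 zc25) (kc xc24 yc6 zc35) (kc xc20 yc25 zc54) (kc xc26 yc45 zc56) (kc xc23 yc53 zc48) (kc xc20 yc50 zc41) (kc xc28 yc53 zc23) (kc xc25 yc59 zc23) (kc xc10 yc49 zc48) (kc xc28 yc56 zc26) (kc xc17 yc58 zc39) (kc xc22 yc41 zc11) (kc xc20 yc39 zc4) (kc xc20 yc39 zc3) (kc xc22 yc41 zc10) (kc xc10 yc49 zc52) (kc xc14 yc32 zc13) (kc xc28 yc35 zc18) (kc xc28 yc56 zc32) (kc xc28 yc56 zc35) (kc xc10 yc49 zc54) (kc xc16 yc38 zc23) (kc xc16 yc39 zc26) (kc xc22 yc49 zc26) (kc xc27 yc53 zc29) (kc xc23 yc0 zc32) (kc xc17 yc52 zc13) (kc xc27 yc29 zc15) (kc xc22 yc3 zc35) (kc xc20 yc5 zc29) (kc xc27 yc29 zc34) (kc xc28 yc56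 zc45) (kc xc18 yc5 zc51) (kc xc16 yc51 zc17) (kc xc16 yc38 zc51) (kc xc17 yc42 zc13) (kc xc26 yc37 zc11) (kc xc28 yc40 zc37) (kc xc10 yc49 zc61)) (@D3.rec (fun _ => Pt) (kc xc24 yc27 zc30) (kc xc28 yc56 zc52) (kc xc10 yc50 zc2) (kc xc10 yc50 zc1) (kc xc23 yc24 zc11) (kc xc23 yc24 zc19) (kc xc19 yc16 zc46) (kc xc19 yc16 zc48) (kc xc28 yc56 zc58) (kc xc15 yc56 zc26) (kc xc17 yc48 zc57) (kc xc10 yc50 zc7) (kc xc10 yc53 zc28) (kc xc28 yc57 zc0) (kc xc27 yc51 zc3) (kc xc10 yc50 zc8) (kc xc24 yc8 zc11) (kc xc24 yc25 zc14) (kc xc14 yc32 zc7) (kc xc14 yc17 zc57) (kc xc14 yc27 zc15) (kc xc10 yc50 zc10) (kc xc28 yc57 zc7) (kc xc14 yc18 zc50) (kc xc14 yc18 zc49) (kc xc28 yc57 zc19) (kc xc15 yc35 zc50) (kc xc15 yc35 zc51) (kc xc28 yc57 zc23) (kc xc25 yc28 zc42) (kc xc28 yc57 zc24)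 (kc xc28 yc57 zc26) (kc xc10 yc50 zc14) (kc xc28 yc57 zc31) (kc xc19 yc15 zc2) (kc xc25 yc33 zc46) (kc xc19 yc6 zc0) (kc xc15 yc44 zc40) (kc xc18 yc55 zc38) (kc xc15 yc44 zc41) (kc xc10 yc51 zc29) (kc xc20 yc55 zc31) (kc xc21 yc18 zc49) (kc xc20 yc12 zc60) (kc xc16 yc7 zc34) (kc xc16 yc4 zc24) (kc xc19 yc48 zc30) (kc xc19 yc48 zc32) (kc xc15 yc42 zc23) (kc xc15 yc42 zc25) (kc xc12 yc4 zc46) (kc xc17 yc50 zc59) (kc xc10 yc50 zc30) (kc xc25 yc47 zc59) (kc xc21 yc42 zc24) (kc xc12 yc12 zc57) (kc xc10 yc50 zc31) (kc xc28 yc57 zc50) (kc xc28 yc57 zc49) (kc xc17 yc54 zc2) (kc xc12 yc50 zc29) (kc xc28 yc57 zc57)) (@D3.rec (fun _ => Pt) (kc xc14 yc34 zc31) (kc xc17 yc54 zc9) (kc xc25 yc32 zc4) (kc xc10 yc50 zc34) (kc xc28 yc52 zc43) (kc xc14 yc12 zc6) (kc xc28 yc58 zc2) (kc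 xc15 yc55 zc21) (kc xc16 yc37 zc20) (kc xc15 yc38 zc61) (kc xc19 yc23 zc44) (kc xc11 yc2 zc60) (kc xc10 yc50 zc43) (kc xc20 yc41 zc36) (kc xc23 yc11 zc14) (kc xc10 yc50 zc44) (kc xc24 yc3 zc14) (kc xc28 yc58 zc4) (kc xc25 yc8 zc36) (kc xc28 yc58 zc5) (kc xc26 yc18 zc22) (kc xc10 yc50 zc46) (kc xc28 yc58 zc7) (kc xc28 yc58 zc10) (kc xc15 yc28 zc21) (kc xc22 yc14 zc19) (kc xc15 yc51 zc57) (kc xc16 yc37 zc43) (kc xc10 yc50 zc50) (kc xc20 yc5 zc4) (kc xc11 yc28 zc23) (kc xc28 yc58 zc19) (kc xc27 yc36 zc17) (kc xc10 yc50 zc53) (kc xc25 yc42 zc34) (kc xc27 yc29 zc23) (kc xc26 yc58 zc61) (kc xc25 yc40 zc25) (kc xc11 yc55 zc32) (kc xc19 yc53 zc50) (kc xc26 yc6 zc13) (kc xc25 yc32 zc19) (kc xc10 yc50 zc59) (kc xc11 yc9 zc3) (kc xc10 yc50 zc60) (kc xc28 yc58 zc31) (kc xc19 yc15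 zc7) (kc xc10 yc50 zc61) (kc xc25 yc24 zc6) (kc xc28 yc58 zc33) (kc xc23 yc11 zc32) (kc xc25 yc52 zc14) (kc xc27 yc2 zc41) (kc xc10 yc51 zc1) (kc xc19 yc10 zc56) (kc xc10 yc51 zc5) (kc xc28 yc58 zc35) (kc xc10 yc51 zc6) (kc xc14 yc47 zc42) (kc xc21 yc4 zc10) (kc xc19 yc54 zc30) (kc xc28 yc58 zc41)) (@D3.rec (fun _ => Pt) (kc xc25 yc37 zc58) (kc xc19 yc54 zc35) (kc xc28 yc58 zc44) (kc xc15 yc1 zc52) (kc xc10 yc51 zc11) (kc xc28 yc58 zc49) (kc xc24 yc27 zc18) (kc xc16 yc46 zc9) (kc xc10 yc51 zc14) (kc xc10 yc51 zc13) (kc xc28 yc29 zc34) (kc xc22 yc8 zc7) (kc xc11 yc9 zc2) (kc xc15 yc18 zc45) (kc xc27 yc58 zc39) (kc xc26 yc46 zc47) (kc xc10 yc51 zc16) (kc xc10 yc52 zc29) (kc xc26 yc13 zc0) (kc xc11 yc20 zc22) (kc xc10 yc51 zc18) (kc xc27 yc13 zc10) (kc xc11 yc10 zc14)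 (kc xc10 yc59 zc24) (kc xc10 yc52 zc36) (kc xc28 yc59 zc9) (kc xc10 yc51 zc20) (kc xc24 yc39 zc33) (kc xc24 yc9 zc42) (kc xc10 yc51 zc21) (kc xc19 yc8 zc54) (kc xc10 yc56 zc58) (kc xc10 yc56 zc60) (kc xc15 yc8 zc0) (kc xc10 yc51 zc23) (kc xc28 yc59 zc14) (kc xc28 yc59 zc17) (kc xc24 yc0 zc37) (kc xc28 yc59 zc18) (kc xc10 yc52 zc35) (kc xc24 yc36 zc49) (kc xc28 yc59 zc21) (kc xc10 yc52 zc57) (kc xc21 yc36 zc0) (kc xc19 yc53 zc48) (kc xc20 yc43 zc41) (kc xc18 yc52 zc12) (kc xc18 yc55 zc53) (kc xc22 yc10 zc56) (kc xc28 yc57 zc38) (kc xc11 yc59 zc37) (kc xc16 yc28 zc59) (kc xc19 yc14 zc13) (kc xc28 yc19 zc35) (kc xc22 yc7 zc0) (kc xc10 yc51 zc32) (kc xc28 yc59 zc26) (kc xc28 yc19 zc41) (kc xc27 yc5 zc30) (kc xc10 yc51 zc33) (kc xc20 yc55 zc54) (kc xc28 yc59 zc29)) (@D3.rec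 (fun _ => Pt) (kc xc10 yc51 zc34) (kc xc28 yc59 zc32) (kc xc28 yc59 zc33) (kc xc16 yc38 zc48) (kc xc28 yc59 zc37) (kc xc28 yc59 zc39) (kc xc10 yc51 zc38) (kc xc10 yc51 zc41) (kc xc28 yc59 zc41) (kc xc10 yc51 zc42) (kc xc26 yc5 zc44) (kc xc15 yc20 zc26) (kc xc10 yc51 zc43) (kc xc17 yc53 zc10) (kc xc28 yc59 zc47) (kc xc25 yc31 zc20) (kc xc25 yc31 zc21) (kc xc27 yc21 zc38) (kc xc25 yc27 zc60) (kc xc10 yc51 zc45) (kc xc28 yc59 zc53) (kc xc24 yc50 zc17) (kc xc28 yc59 zc57) (kc xc24 yc3 zc12) (kc xc24 yc20 zc34) (kc xc24 yc2 zc28) (kc xc25 yc9 zc50) (kc xc25 yc9 zc22) (kc xc25 yc9 zc23) (kc xc10 yc51 zc48) (kc xc27 yc30 zc4) (kc xc26 yc33 zc45) (kc xc20 yc5 zc5) (kc xc26 yc59 zc6) (kc xc11 yc30 zc7) (kc xc10 yc51 zc51) (kc xc29 yc0 zc3) (kc xc25 yc9 zc61) (kc xc25 yc10 zc60)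 (kc xc10 yc51 zc53) (kc xc25 yc45 zc46) (kc xc25 yc21 zc28) (kc xc10 yc51 zc56) (kc xc26 yc1 zc38) (kc xc25 yc36 zc40) (kc xc21 yc57 zc13) (kc xc28 yc59 zc45) (kc xc10 yc53 zc24) (kc xc10 yc51 zc60) (kc xc29 yc0 zc13) (kc xc29 yc0 zc14) (kc xc25 yc37 zc8) (kc xc26 yc1 zc23) (kc xc26 yc0 zc27) (kc xc12 yc53 zc10) (kc xc23 yc36 zc36) (kc xc16 yc46 zc40) (kc xc10 yc52 zc5) (kc xc28 yc17 zc45) (kc xc19 yc29 zc35) (kc xc19 yc29 zc36) (kc xc19 yc41 zc55)) (@D3.rec (fun _ => Pt) (kc xc11 yc19 zc20) (kc xc26 yc2 zc12) (kc xc10 yc58 zc12) (kc xc16 yc50 zc32) (kc xc16 yc25 zc30) (kc xc19 yc7 zc41) (kc xc26 yc48 zc25) (kc xc26 yc48 zc26) (kc xc12 yc35 zc43) (kc xc16 yc37 zc42) (kc xc22 yc20 zc28) (kc xc27 yc21 zc26) (kc xc11 yc2 zc59) (kc xc19 yc15 zc13) (kc xc16 yc26 zc43) (kc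 xc19 yc56 zc9) (kc xc13 yc8 zc29) (kc xc23 yc0 zc59) (kc xc12 yc24 zc48) (kc xc12 yc25 zc54) (kc xc19 yc44 zc0) (kc xc26 yc46 zc6) (kc xc23 yc0 zc60) (kc xc10 yc52 zc17) (kc xc19 yc15 zc17) (kc xc10 yc52 zc24) (kc xc19 yc21 zc6) (kc xc10 yc52 zc23) (kc xc10 yc52 zc22) (kc xc25 yc40 zc30) (kc xc16 yc57 zc10) (kc xc29 yc0 zc32) (kc xc25 yc43 zc53) (kc xc29 yc0 zc29) (kc xc17 yc51 zc10) (kc xc20 yc17 zc41) (kc xc19 yc32 zc19) (kc xc16 yc19 zc10) (kc xc10 yc52 zc31) (kc xc29 yc0 zc33) (kc xc23 yc0 zc58) (kc xc10 yc52 zc28) (kc xc23 yc32 zc40) (kc xc17 yc12 zc29) (kc xc20 yc13 zc14) (kc xc29 yc0 zc37) (kc xc12 yc25 zc18) (kc xc26 yc43 zc58) (kc xc23 yc46 zc41) (kc xc10 yc52 zc33) (kc xc10 yc52 zc34) (kc xc27 yc42 zc40) (kc xc20 yc3 zc19) (kc xc11 yc43 zc1) (kc xc16 yc48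 zc57) (kc xc19 yc52 zc54) (kc xc22 yc59 zc38) (kc xc10 yc52 zc39) (kc xc23 yc3 zc48) (kc xc19 yc51 zc58) (kc xc22 yc59 zc39) (kc xc28 yc59 zc12)) (@D3.rec (fun _ => Pt) (kc xc17 yc7 zc40) (kc xc28 yc58 zc61) (kc xc10 yc52 zc44) (kc xc13 yc10 zc48) (kc xc25 yc50 zc37) (kc xc25 yc41 zc33) (kc xc16 yc50 zc37) (kc xc10 yc52 zc47) (kc xc16 yc39 zc3) (kc xc25 yc49 zc57) (kc xc11 yc42 zc20) (kc xc28 yc59 zc7) (kc xc28 yc59 zc6) (kc xc10 yc52 zc49) (kc xc10 yc52 zc51) (kc xc29 yc0 zc48) (kc xc11 yc10 zc13) (kc xc10 yc52 zc53) (kc xc20 yc39 zc15) (kc xc29 yc0 zc52) (kc xc20 yc3 zc22) (kc xc29 yc0 zc53) (kc xc11 yc10 zc10) (kc xc11 yc10 zc11) (kc xc10 yc53 zc5) (kc xc28 yc44 zc18) (kc xc10 yc53 zc0) (kc xc17 yc1 zc51) (kc xc25 yc19 zc35) (kc xc15 yc3 zc9) (kc xc10 yc53 zc2) (kc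 xc11 yc45 zc2) (kc xc25 yc50 zc13) (kc xc21 yc40 zc20) (kc xc28 yc42 zc32) (kc xc29 yc0 zc58) (kc xc29 yc0 zc59) (kc xc10 yc53 zc7) (kc xc26 yc33 zc15) (kc xc29 yc0 zc60) (kc xc14 yc52 zc34) (kc xc29 yc0 zc44) (kc xc16 yc58 zc47) (kc xc10 yc53 zc16) (kc xc19 yc32 zc44) (kc xc16 yc45 zc22) (kc xc10 yc53 zc15) (kc xc25 yc37 zc52) (kc xc24 yc22 zc34) (kc xc10 yc53 zc22) (kc xc10 yc53 zc23) (kc xc16 yc36 zc38) (kc xc10 yc53 zc25) (kc xc25 yc24 zc56) (kc xc24 yc51 zc49) (kc xc10 yc53 zc26) (kc xc19 yc44 zc27) (kc xc24 yc34 zc57) (kc xc25 yc5 zc19) (kc xc26 yc25 zc53) (kc xc22 yc9 zc20) (kc xc29 yc1 zc7)) (@D3.rec (fun _ => Pt) (kc xc16 yc17 zc59) (kc xc24 yc34 zc56) (kc xc25 yc54 zc17) (kc xc17 yc52 zc45) (kc xc18 yc44 zc57) (kc xc25 yc46 zc54) (kc xc24 yc50 zc45) (kc xc25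 yc23 zc57) (kc xc10 yc53 zc36) (kc xc24 yc52 zc25) (kc xc10 yc53 zc38) (kc xc14 yc43 zc37) (kc xc29 yc1 zc10) (kc xc15 yc19 zc17) (kc xc29 yc1 zc13) (kc xc19 yc5 zc5) (kc xc28 yc30 zc40) (kc xc27 yc19 zc0) (kc xc27 yc10 zc55) (kc xc15 yc45 zc31) (kc xc28 yc50 zc28) (kc xc28 yc50 zc29) (kc xc10 yc53 zc43) (kc xc27 yc35 zc42) (kc xc17 yc48 zc14) (kc xc12 yc50 zc52) (kc xc10 yc54 zc53) (kc xc14 yc30 zc11) (kc xc16 yc12 zc26) (kc xc26 yc45 zc53) (kc xc10 yc53 zc48) (kc xc10 yc58 zc19) (kc xc17 yc8 zc46) (kc xc10 yc55 zc2) (kc xc15 yc46 zc37) (kc xc10 yc53 zc50) (kc xc29 yc1 zc28) (kc xc23 yc0 zc12) (kc xc10 yc53 zc51) (kc xc29 yc1 zc35) (kc xc16 yc44 zc49) (kc xc16 yc44 zc57) (kc xc26 yc45 zc31) (kc xc10 yc53 zc53) (kc xc21 yc13 zc30) (kc xc29 yc1 zc48) (kc xc20 yc30 zc32)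 (kc xc12 yc9 zc15) (kc xc12 yc9 zc14) (kc xc29 yc1 zc53) (kc xc10 yc53 zc58) (kc xc21 yc13 zc48) (kc xc25 yc57 zc16) (kc xc25 yc57 zc17) (kc xc29 yc1 zc61) (kc xc19 yc38 zc61) (kc xc28 yc43 zc21) (kc xc10 yc53 zc60) (kc xc29 yc2 zc2) (kc xc25 yc57 zc11) (kc xc29 yc2 zc8) (kc xc25 yc58 zc36)) (@D3.rec (fun _ => Pt) (kc xc19 yc9 zc51) (kc xc14 yc21 zc57) (kc xc16 yc55 zc21) (kc xc15 yc51 zc40) (kc xc29 yc2 zc11) (kc xc25 yc10 zc35) (kc xc25 yc10 zc37) (kc xc29 yc2 zc17) (kc xc19 yc56 zc57) (kc xc10 yc54 zc15) (kc xc10 yc54 zc13) (kc xc26 yc10 zc38) (kc xc25 yc58 zc14) (kc xc19 yc5 zc56) (kc xc25 yc59 zc32) (kc xc10 yc54 zc16) (kc xc10 yc54 zc23) (kc xc17 yc50 zc11) (kc xc10 yc54 zc22) (kc xc10 yc54 zc21) (kc xc29 yc2 zc23) (kc xc29 yc2 zc24) (kc xc15 yc1 zc55) (kc xc27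 yc54 zc10) (kc xc29 yc2 zc19) (kc xc29 yc2 zc29) (kc xc10 yc54 zc27) (kc xc29 yc2 zc22) (kc xc28 yc11 zc9) (kc xc28 yc8 zc2) (kc xc10 yc55 zc50) (kc xc10 yc58 zc54) (kc xc25 yc44 zc22) (kc xc19 yc58 zc60) (kc xc15 yc42 zc42) (kc xc15 yc24 zc8) (kc xc10 yc54 zc34) (kc xc26 yc0 zc41) (kc xc29 yc2 zc35) (kc xc17 yc48 zc32) (kc xc25 yc44 zc20) (kc xc10 yc54 zc37) (kc xc21 yc24 zc16) (kc xc11 yc41 zc53) (kc xc10 yc54 zc39) (kc xc26 yc58 zc35) (kc xc19 yc49 zc25) (kc xc19 yc27 zc48) (kc xc16 yc42 zc19) (kc xc20 yc58 zc21) (kc xc10 yc54 zc41) (kc xc29 yc2 zc48) (kc xc25 yc38 zc14) (kc xc10 yc54 zc42) (kc xc12 yc15 zc31) (kc xc12 yc15 zc9) (kc xc14 yc33 zc22) (kc xc17 yc5 zc52) (kc xc14 yc16 zc35) (kc xc17 yc15 zc45) (kc xc12 yc55 zc53) (kc xc12 yc55 zc52)) (@D3.rec (fun _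 => Pt) (kc xc20 yc53 zc3) (kc xc10 yc54 zc57) (kc xc25 yc38 zc27) (kc xc27 yc33 zc41) (kc xc19 yc51 zc36) (kc xc26 yc44 zc47) (kc xc26 yc45 zc1) (kc xc10 yc54 zc60) (kc xc12 yc55 zc50) (kc xc19 yc23 zc60) (kc xc22 yc5 zc16) (kc xc16 yc39 zc35) (kc xc10 yc54 zc61) (kc xc10 yc55 zc0) (kc xc29 yc2 zc61) (kc xc16 yc47 zc23) (kc xc19 yc47 zc25) (kc xc13 yc50 zc33) (kc xc29 yc1 zc43) (kc xc10 yc55 zc5) (kc xc29 yc3 zc2) (kc xc14 yc41 zc9) (kc xc16 yc48 zc14) (kc xc10 yc55 zc6) (kc xc19 yc48 zc46) (kc xc21 yc54 zc47) (kc xc29 yc1 zc41) (kc xc10 yc55 zc8) (kc xc28 yc28 zc2) (kc xc21 yc13 zc8) (kc xc18 yc47 zc39) (kc xc10 yc58 zc27) (kc xc10 yc55 zc9) (kc xc29 yc1 zc34) (kc xc11 yc49 zc57) (kc xc19 yc59 zc0) (kc xc29 yc1 zc27) (kc xc11 yc0 zc19) (kc xc10 yc55 zc11) (kc xc28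 yc56 zc22) (kc xc10 yc55 zc15) (kc xc10 yc55 zc13) (kc xc21 yc9 zc39) (kc xc11 yc34 zc57) (kc xc19 yc44 zc7) (kc xc26 yc38 zc22) (kc xc16 yc39 zc36) (kc xc26 yc35 zc22) (kc xc26 yc35 zc17) (kc xc10 yc55 zc19) (kc xc11 yc15 zc0) (kc xc11 yc14 zc22) (kc xc10 yc55 zc21) (kc xc19 yc49 zc18) (kc xc16 yc8 zc49) (kc xc24 yc57 zc4) (kc xc17 yc15 zc55) (kc xc10 yc55 zc28) (kc xc10 yc55 zc30) (kc xc21 yc29 zc4) (kc xc19 yc50 zc27) (kc xc10 yc55 zc33)) (@D3.rec (fun _ => Pt) (kc xc19 yc39 zc20) (kc xc16 yc37 zc8) (kc xc19 yc28 zc45) (kc xc10 yc55 zc39) (kc xc29 yc3 zc20) (kc xc28 yc50 zc33) (kc xc22 yc51 zc0) (kc xc19 yc43 zc44) (kc xc10 yc55 zc43) (kc xc28 yc43 zc36) (kc xc29 yc3 zc24) (kc xc27 yc31 zc4) (kc xc10 yc55 zc48) (kc xc27 yc59 zc21) (kc xc10 yc55 zc49) (kc xc10 yc55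 zc51) (kc xc24 yc51 zc3) (kc xc26 yc35 zc16) (kc xc16 yc42 zc55) (kc xc12 yc56 zc35) (kc xc10 yc55 zc55) (kc xc18 yc12 zc60) (kc xc10 yc55 zc56) (kc xc24 yc20 zc29) (kc xc28 yc56 zc61) (kc xc25 yc47 zc43) (kc xc15 yc51 zc61) (kc xc19 yc40 zc56) (kc xc10 yc55 zc58) (kc xc24 yc38 zc58) (kc xc14 yc30 zc4) (kc xc23 yc12 zc32) (kc xc24 yc20 zc55) (kc xc25 yc47 zc45) (kc xc15 yc38 zc9) (kc xc15 yc38 zc10) (kc xc29 yc3 zc38) (kc xc20 yc43 zc26) (kc xc17 yc53 zc11) (kc xc29 yc3 zc42) (kc xc26 yc33 zc25) (kc xc29 yc3 zc43) (kc xc29 yc3 zc45) (kc xc26 yc1 zc6) (kc xc10 yc56 zc1) (kc xc28 yc47 zc58) (kc xc27 yc35 zc34) (kc xc27 yc18 zc38) (kc xc15 yc54 zc8) (kc xc27 yc18 zc37) (kc xc10 yc56 zc5) (kc xc27 yc13 zc36) (kc xc29 yc3 zc54) (kc xc10 yc56 zc6) (kc xc25 yc53 zc15) (kc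 xc18 yc50 zc58) (kc xc10 yc56 zc8) (kc xc24 yc22 zc14) (kc xc24 yc49 zc1) (kc xc10 yc56 zc9) (kc xc16 yc11 zc45) (kc xc26 yc10 zc17)) (@D3.rec (fun _ => Pt) (kc xc26 yc10 zc18) (kc xc16 yc49 zc55) (kc xc28 yc56 zc47) (kc xc28 yc56 zc48) (kc xc10 yc56 zc12) (kc xc24 yc48 zc55) (kc xc15 yc2 zc19) (kc xc10 yc56 zc13) (kc xc26 yc45 zc41) (kc xc10 yc57 zc0) (kc xc20 yc40 zc42) (kc xc10 yc56 zc16) (kc xc17 yc23 zc57) (kc xc10 yc59 zc22) (kc xc20 yc17 zc50) (kc xc23 yc41 zc41) (kc xc28 yc46 zc56) (kc xc10 yc56 zc18) (kc xc29 yc4 zc12) (kc xc10 yc56 zc19) (kc xc29 yc4 zc15) (kc xc16 yc43 zc41) (kc xc16 yc43 zc50) (kc xc24 yc34 zc40) (kc xc24 yc34 zc39) (kc xc29 yc4 zc23) (kc xc29 yc4 zc26) (kc xc23 yc27 zc47) (kc xc11 yc10 zc20) (kc xc29 yc4 zc30) (kc xc29 yc4 zc32) (kc xc17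 yc32 zc60) (kc xc14 yc5 zc49) (kc xc23 yc28 zc38) (kc xc10 yc56 zc24) (kc xc23 yc41 zc40) (kc xc27 yc10 zc53) (kc xc10 yc56 zc26) (kc xc16 yc28 zc47) (kc xc26 yc30 zc31) (kc xc17 yc12 zc9) (kc xc10 yc56 zc29) (kc xc25 yc43 zc0) (kc xc29 yc4 zc44) (kc xc14 yc59 zc1) (kc xc10 yc56 zc30) (kc xc28 yc59 zc49) (kc xc22 yc52 zc35) (kc xc21 yc21 zc8) (kc xc29 yc4 zc47) (kc xc10 yc56 zc31) (kc xc29 yc4 zc51) (kc xc29 yc4 zc53) (kc xc26 yc38 zc44) (kc xc29 yc4 zc58) (kc xc26 yc37 zc18) (kc xc10 yc56 zc36) (kc xc10 yc56 zc35) (kc xc25 yc36 zc21) (kc xc19 yc6 zc6) (kc xc27 yc44 zc37) (kc xc29 yc5 zc3)) (@D3.rec (fun _ => Pt) (kc xc25 yc23 zc20) (kc xc10 yc56 zc39) (kc xc25 yc30 zc39) (kc xc29 yc5 zc6) (kc xc10 yc56 zc41) (kc xc29 yc5 zc8) (kc xc10 yc56 zc42) (kc xc15 yc36 zc3)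 (kc xc25 yc5 zc2) (kc xc25 yc5 zc3) (kc xc16 yc4 zc17) (kc xc25 yc51 zc27) (kc xc10 yc56 zc44) (kc xc29 yc5 zc16) (kc xc24 yc50 zc59) (kc xc29 yc5 zc18) (kc xc29 yc5 zc20) (kc xc25 yc11 zc40) (kc xc21 yc49 zc32) (kc xc24 yc11 zc28) (kc xc21 yc17 zc16) (kc xc25 yc24 zc16) (kc xc10 yc56 zc47) (kc xc25 yc30 zc20) (kc xc25 yc34 zc60) (kc xc28 yc57 zc29) (kc xc21 yc20 zc48) (kc xc27 yc38 zc4) (kc xc29 yc5 zc33) (kc xc25 yc17 zc38) (kc xc10 yc56 zc50) (kc xc10 yc56 zc52) (kc xc19 yc58 zc61) (kc xc26 yc2 zc34) (kc xc16 yc39 zc25) (kc xc14 yc52 zc54) (kc xc11 yc47 zc50) (kc xc22 yc20 zc41) (kc xc16 yc48 zc20) (kc xc11 yc2 zc35) (kc xc25 yc59 zc57) (kc xc12 yc55 zc58) (kc xc16 yc48 zc54) (kc xc14 yc33 zc23) (kc xc20 yc4 zc56) (kc xc14 yc33 zc31) (kc xc26 yc45 zc30) (kc xc10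 yc57 zc4) (kc xc16 yc47 zc56) (kc xc10 yc57 zc5) (kc xc16 yc47 zc57) (kc xc19 yc48 zc43) (kc xc16 yc48 zc0) (kc xc16 yc48 zc19) (kc xc19 yc48 zc42) (kc xc18 yc53 zc35) (kc xc10 yc57 zc8) (kc xc24 yc56 zc54) (kc xc27 yc3 zc24) (kc xc19 yc51 zc17) (kc xc23 yc12 zc12) (kc xc17 yc55 zc19)) (@D3.rec (fun _ => Pt) (kc xc29 yc4 zc14) (kc xc20 yc17 zc46) (kc xc19 yc51 zc46) (kc xc10 yc57 zc15) (kc xc19 yc50 zc6) (kc xc16 yc47 zc55) (kc xc10 yc57 zc16) (kc xc20 yc54 zc42) (kc xc11 yc39 zc2) (kc xc24 yc22 zc15) (kc xc22 yc44 zc61) (kc xc10 yc57 zc19) (kc xc19 yc24 zc22) (kc xc19 yc27 zc15) (kc xc13 yc25 zc2) (kc xc10 yc57 zc23) (kc xc12 yc52 zc55) (kc xc10 yc57 zc25) (kc xc11 yc41 zc55) (kc xc29 yc5 zc51) (kc xc24 yc26 zc32) (kc xc29 yc5 zc53) (kc xc28 yc31 zc1) (kc xc23 yc45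 zc53) (kc xc22 yc26 zc27) (kc xc19 yc43 zc16) (kc xc26 yc44 zc5) (kc xc17 yc6 zc20) (kc xc15 yc3 zc37) (kc xc15 yc3 zc36) (kc xc26 yc7 zc27) (kc xc26 yc39 zc59) (kc xc26 yc44 zc59) (kc xc14 yc10 zc52) (kc xc26 yc44 zc60) (kc xc26 yc23 zc1) (kc xc26 yc23 zc0) (kc xc10 yc57 zc38) (kc xc29 yc5 zc57) (kc xc25 yc23 zc44) (kc xc26 yc44 zc45) (kc xc29 yc5 zc61) (kc xc17 yc56 zc29) (kc xc26 yc44 zc3) (kc xc10 yc57 zc41) (kc xc10 yc57 zc42) (kc xc29 yc6 zc4) (kc xc10 yc57 zc43) (kc xc23 yc43 zc58) (kc xc10 yc57 zc45) (kc xc26 yc48 zc52) (kc xc10 yc57 zc47) (kc xc16 yc29 zc21) (kc xc15 yc53 zc49) (kc xc10 yc57 zc49) (kc xc16 yc29 zc42) (kc xc16 yc46 zc13) (kc xc27 yc39 zc19) (kc xc25 yc28 zc3) (kc xc10 yc57 zc55) (kc xc26 yc32 zc56) (kc xc11 yc36 zc17)) (@D3.rec (fun _ => Pt)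 (kc xc10 yc57 zc52) (kc xc21 yc51 zc7) (kc xc10 yc57 zc53) (kc xc29 yc6 zc13) (kc xc20 yc11 zc20) (kc xc10 yc57 zc54) (kc xc10 yc57 zc58) (kc xc10 yc57 zc57) (kc xc29 yc6 zc18) (kc xc16 yc45 zc27) (kc xc16 yc45 zc28) (kc xc10 yc57 zc60) (kc xc26 yc48 zc55) (kc xc28 yc43 zc48) (kc xc10 yc57 zc61) (kc xc13 yc16 zc12) (kc xc15 yc0 zc34) (kc xc10 yc58 zc0) (kc xc16 yc35 zc41) (kc xc16 yc50 zc57) (kc xc16 yc50 zc61) (kc xc13 yc59 zc15) (kc xc21 yc4 zc8) (kc xc10 yc58 zc2) (kc xc29 yc6 zc25) (kc xc29 yc6 zc26) (kc xc17 yc36 zc15) (kc xc25 yc46 zc19) (kc xc14 yc21 zc21) (kc xc10 yc58 zc3) (kc xc19 yc35 zc46) (kc xc10 yc58 zc4) (kc xc19 yc35 zc47) (kc xc12 yc49 zc17) (kc xc10 yc58 zc5) (kc xc25 yc28 zc13) (kc xc26 yc45 zc34) (kc xc15 yc3 zc35) (kc xc26 yc45 zc33) (kc xc14 yc12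 zc4) (kc xc20 yc5 zc56) (kc xc10 yc58 zc11) (kc xc19 yc46 zc54) (kc xc19 yc46 zc51) (kc xc16 yc25 zc24) (kc xc16 yc25 zc25) (kc xc19 yc43 zc24) (kc xc10 yc58 zc18) (kc xc21 yc0 zc57) (kc xc29 yc1 zc25) (kc xc20 yc53 zc31) (kc xc10 yc58 zc23) (kc xc27 yc2 zc9) (kc xc29 yc6 zc39) (kc xc24 yc36 zc29) (kc xc25 yc34 zc37) (kc xc19 yc33 zc56) (kc xc10 yc58 zc29) (kc xc10 yc58 zc30) (kc xc20 yc59 zc47) (kc xc20 yc28 zc1) (kc xc21 yc0 zc55)) (@D3.rec (fun _ => Pt) (kc xc26 yc32 zc61) (kc xc12 yc46 zc18) (kc xc28 yc26 zc59) (kc xc10 yc58 zc37) (kc xc21 yc28 zc49) (kc xc10 yc58 zc39) (kc xc29 yc6 zc43) (kc xc10 yc58 zc40) (kc xc15 yc8 zc56) (kc xc23 yc33 zc24) (kc xc17 yc53 zc18) (kc xc17 yc53 zc31) (kc xc15 yc15 zc44) (kc xc22 yc54 zc48) (kc xc25 yc12 zc53) (kc xc25 yc49 zc33)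 (kc xc19 yc54 zc16) (kc xc10 yc58 zc52) (kc xc19 yc43 zc53) (kc xc29 yc2 zc32) (kc xc10 yc58 zc58) (kc xc26 yc10 zc46) (kc xc10 yc58 zc57) (kc xc10 yc58 zc56) (kc xc26 yc22 zc41) (kc xc19 yc42 zc46) (kc xc29 yc6 zc52) (kc xc14 yc50 zc55) (kc xc12 yc49 zc47) (kc xc12 yc49 zc48) (kc xc12 yc50 zc11) (kc xc19 yc54 zc15) (kc xc10 yc59 zc1) (kc xc29 yc6 zc55) (kc xc16 yc47 zc4) (kc xc20 yc28 zc7) (kc xc13 yc36 zc57) (kc xc11 yc12 zc30) (kc xc11 yc3 zc57) (kc xc10 yc59 zc4) (kc xc15 yc52 zc10) (kc xc19 yc16 zc7) (kc xc19 yc4 zc16) (kc xc21 yc57 zc19) (kc xc26 yc38 zc37) (kc xc27 yc21 zc44) (kc xc19 yc24 zc60) (kc xc25 yc50 zc45) (kc xc22 yc20 zc26) (kc xc14 yc50 zc7) (kc xc29 yc1 zc26) (kc xc22 yc13 zc12) (kc xc23 yc0 zc48) (kc xc17 yc53 zc17) (kc xc10 yc59 zc14) (kc xc18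 yc41 zc13) (kc xc24 yc46 zc61) (kc xc26 yc0 zc33) (kc xc10 yc59 zc15) (kc xc20 yc24 zc53) (kc xc29 yc7 zc6) (kc xc19 yc54 zc10)) (@D3.rec (fun _ => Pt) (kc xc11 yc17 zc35) (kc xc25 yc49 zc20) (kc xc14 yc0 zc46) (kc xc14 yc0 zc45) (kc xc23 yc25 zc26) (kc xc11 yc27 zc26) (kc xc19 yc47 zc4) (kc xc29 yc7 zc9) (kc xc28 yc59 zc23) (kc xc11 yc31 zc25) (kc xc24 yc16 zc31) (kc xc28 yc59 zc8) (kc xc26 yc54 zc1) (kc xc10 yc59 zc25) (kc xc10 yc59 zc27) (kc xc10 yc59 zc31) (kc xc19 yc21 zc40) (kc xc10 yc59 zc33) (kc xc18 yc52 zc60) (kc xc12 yc5 zc41) (kc xc16 yc46 zc15) (kc xc20 yc6 zc16) (kc xc19 yc20 zc59) (kc xc27 yc35 zc44) (kc xc10 yc59 zc39) (kc xc29 yc7 zc17) (kc xc28 yc55 zc26) (kc xc19 yc43 zc60) (kc xc10 yc59 zc61) (kc xc10 yc59 zc43) (kc xc16 yc30 zc1) (kc xc25 yc47 zc48)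 (kc xc10 yc59 zc52) (kc xc10 yc59 zc45) (kc xc29 yc7 zc20) (kc xc10 yc59 zc47) (kc xc29 yc7 zc21) (kc xc24 yc35 zc5) (kc xc10 yc59 zc49) (kc xc10 yc59 zc50) (kc xc29 yc7 zc24) (kc xc29 yc7 zc25) (kc xc10 yc59 zc51) (kc xc16 yc30 zc38) (kc xc16 yc18 zc14) (kc xc10 yc59 zc55) (kc xc29 yc7 zc27) (kc xc10 yc59 zc57) (kc xc13 yc4 zc22) (kc xc19 yc22 zc37) (kc xc18 yc35 zc21) (kc xc24 yc51 zc29) (kc xc29 yc7 zc28) (kc xc12 yc54 zc19) (kc xc24 yc51 zc31) (kc xc24 yc27 zc16) (kc xc19 yc19 zc56) (kc xc11 yc0 zc1) (kc xc14 yc35 zc5) (kc xc11 yc0 zc2) (kc xc18 yc45 zc43) (kc xc26 yc19 zc28)) (@D3.rec (fun _ => Pt) (kc xc11 yc0 zc4) (kc xc11 yc0 zc5) (kc xc28 yc19 zc54) (kc xc28 yc0 zc58) (kc xc18 yc52 zc61) (kc xc19 yc19 zc50) (kc xc21 yc31 zc43) (kc xc12 yc7 zc41) (kc xc29 yc7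 zc39) (kc xc11 yc0 zc8) (kc xc20 yc6 zc15) (kc xc19 yc21 zc22) (kc xc21 yc52 zc0) (kc xc28 yc45 zc5) (kc xc11 yc0 zc12) (kc xc27 yc8 zc40) (kc xc20 yc25 zc32) (kc xc19 yc46 zc59) (kc xc28 yc46 zc11) (kc xc11 yc27 zc50) (kc xc28 yc46 zc12) (kc xc23 yc12 zc53) (kc xc20 yc8 zc22) (kc xc21 yc15 zc25) (kc xc11 yc0 zc22) (kc xc22 yc11 zc54) (kc xc11 yc0 zc28) (kc xc21 yc36 zc43) (kc xc29 yc7 zc49) (kc xc24 yc28 zc35) (kc xc29 yc1 zc11) (kc xc11 yc0 zc39) (kc xc11 yc0 zc30) (kc xc19 yc34 zc17) (kc xc12 yc30 zc6) (kc xc12 yc30 zc5) (kc xc19 yc43 zc4) (kc xc11 yc0 zc37) (kc xc22 yc53 zc3) (kc xc11 yc31 zc50) (kc xc11 yc0 zc38) (kc xc29 yc7 zc59) (kc xc28 yc12 zc49) (kc xc11 yc0 zc41) (kc xc11 yc0 zc42) (kc xc16 yc45 zc17) (kc xc19 yc47 zc2) (kc xc11 yc0 zc48) (kc xc12 yc9 zc20)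 (kc xc25 yc50 zc60) (kc xc25 yc31 zc14) (kc xc28 yc46 zc28) (kc xc11 yc27 zc10) (kc xc28 yc37 zc40) (kc xc11 yc0 zc57) (kc xc11 yc0 zc55) (kc xc22 yc41 zc18) (kc xc11 yc0 zc56) (kc xc19 yc39 zc59) (kc xc12 yc25 zc5) (kc xc14 yc37 zc38) (kc xc28 yc45 zc47)) (@D3.rec (fun _ => Pt) (kc xc28 yc45 zc48) (kc xc26 yc44 zc14) (kc xc29 yc8 zc17) (kc xc19 yc29 zc59) (kc xc11 yc33 zc36) (kc xc11 yc33 zc37) (kc xc12 yc9 zc6) (kc xc11 yc21 zc3) (kc xc28 yc37 zc33) (kc xc28 yc46 zc22) (kc xc28 yc46 zc13) (kc xc26 yc1 zc59) (kc xc28 yc45 zc51) (kc xc11 yc1 zc12) (kc xc29 yc8 zc29) (kc xc29 yc8 zc31) (kc xc29 yc8 zc35) (kc xc24 yc1 zc44) (kc xc27 yc42 zc59) (kc xc29 yc8 zc42) (kc xc11 yc22 zc36) (kc xc11 yc22 zc34) (kc xc24 yc23 zc27) (kc xc11 yc27 zc15) (kc xc29 yc8 zc48) (kc xc29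 yc8 zc49) (kc xc11 yc1 zc15) (kc xc27 yc8 zc29) (kc xc27 yc39 zc17) (kc xc11 yc1 zc17) (kc xc27 yc40 zc50) (kc xc12 yc25 zc4) (kc xc22 yc40 zc41) (kc xc29 yc8 zc53) (kc xc11 yc1 zc20) (kc xc26 yc53 zc7) (kc xc29 yc8 zc56) (kc xc29 yc8 zc57) (kc xc21 yc13 zc10) (kc xc11 yc1 zc23) (kc xc18 yc25 zc44) (kc xc29 yc8 zc59) (kc xc28 yc45 zc7) (kc xc11 yc1 zc26) (kc xc11 yc31 zc53) (kc xc11 yc1 zc27) (kc xc11 yc24 zc47) (kc xc29 yc9 zc0) (kc xc11 yc1 zc30) (kc xc21 yc3 zc40) (kc xc29 yc9 zc1) (kc xc11 yc2 zc12) (kc xc20 yc40 zc48) (kc xc27 yc41 zc21) (kc xc19 yc39 zc55) (kc xc23 yc3 zc54) (kc xc26 yc48 zc50) (kc xc12 yc25 zc37) (kc xc19 yc34 zc16) (kc xc25 yc14 zc57) (kc xc25 yc14 zc49) (kc xc11 yc1 zc41)) (@D3.rec (fun _ => Pt) (kc xc13 yc54 zc52) (kc xc29 yc9 zc8) (kc xc23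 yc3 zc26) (kc xc11 yc1 zc47) (kc xc11 yc1 zc48) (kc xc20 yc24 zc2) (kc xc11 yc1 zc50) (kc xc14 yc12 zc18) (kc xc12 yc43 zc51) (kc xc11 yc1 zc56) (kc xc11 yc1 zc57) (kc xc21 yc30 zc12) (kc xc12 yc25 zc38) (kc xc29 yc9 zc12) (kc xc12 yc6 zc52) (kc xc22 yc4 zc61) (kc xc29 yc9 zc13) (kc xc11 yc2 zc3) (kc xc11 yc2 zc2) (kc xc27 yc2 zc4) (kc xc18 yc12 zc50) (kc xc21 yc58 zc26) (kc xc11 yc2 zc8) (kc xc20 yc3 zc24) (kc xc21 yc49 zc45) (kc xc21 yc30 zc22) (kc xc27 yc10 zc37) (kc xc11 yc2 zc19) (kc xc29 yc9 zc19) (kc xc11 yc2 zc15) (kc xc29 yc9 zc22) (kc xc29 yc9 zc25) (kc xc11 yc2 zc17) (kc xc25 yc48 zc27) (kc xc11 yc2 zc22) (kc xc28 yc35 zc54) (kc xc11 yc2 zc21) (kc xc20 yc52 zc53) (kc xc11 yc2 zc28) (kc xc26 yc37 zc9) (kc xc26 yc37 zc10) (kc xc11 yc2 zc24) (kc xc29 yc9 zc32)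 (kc xc11 yc2 zc26) (kc xc25 yc26 zc55) (kc xc18 yc52 zc29) (kc xc11 yc2 zc30) (kc xc27 yc19 zc25) (kc xc19 yc37 zc44) (kc xc28 yc53 zc49) (kc xc19 yc36 zc39) (kc xc24 yc49 zc5) (kc xc25 yc37 zc22) (kc xc25 yc37 zc24) (kc xc29 yc9 zc34) (kc xc14 yc59 zc48) (kc xc29 yc5 zc37) (kc xc25 yc5 zc8) (kc xc14 yc59 zc50) (kc xc15 yc53 zc55) (kc xc29 yc9 zc37) (kc xc20 yc3 zc32)) (@D3.rec (fun _ => Pt) (kc xc24 yc16 zc6) (kc xc16 yc13 zc25) (kc xc25 yc17 zc55) (kc xc24 yc16 zc7) (kc xc25 yc9 zc54) (kc xc29 yc9 zc43) (kc xc15 yc21 zc45) (kc xc28 yc58 zc42) (kc xc11 yc2 zc44) (kc xc11 yc2 zc43) (kc xc19 yc49 zc61) (kc xc26 yc46 zc48) (kc xc26 yc4 zc43) (kc xc16 yc10 zc59) (kc xc26 yc4 zc40) (kc xc19 yc49 zc31) (kc xc19 yc49 zc16) (kc xc11 yc2 zc48) (kc xc23 yc44 zc52) (kc xc23 yc44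 zc53) (kc xc15 yc18 zc16) (kc xc12 yc8 zc13) (kc xc22 yc54 zc31) (kc xc16 yc38 zc12) (kc xc11 yc2 zc55) (kc xc16 yc0 zc32) (kc xc19 yc31 zc29) (kc xc16 yc44 zc8) (kc xc11 yc9 zc23) (kc xc15 yc8 zc47) (kc xc19 yc36 zc60) (kc xc24 yc54 zc43) (kc xc29 yc10 zc2) (kc xc25 yc49 zc53) (kc xc28 yc11 zc55) (kc xc19 yc37 zc1) (kc xc26 yc6 zc58) (kc xc22 yc45 zc49) (kc xc29 yc10 zc15) (kc xc19 yc56 zc0) (kc xc14 yc21 zc4) (kc xc29 yc10 zc19) (kc xc18 yc0 zc41) (kc xc29 yc10 zc24) (kc xc29 yc10 zc27) (kc xc11 yc3 zc5) (kc xc27 yc26 zc58) (kc xc25 yc8 zc25) (kc xc29 yc10 zc31) (kc xc11 yc3 zc9) (kc xc13 yc57 zc40) (kc xc24 yc32 zc2) (kc xc26 yc47 zc50) (kc xc11 yc3 zc17) (kc xc11 yc3 zc19) (kc xc11 yc52 zc19) (kc xc24 yc0 zc54) (kc xc11 yc3 zc14) (kc xc19 yc55 zc30) (kc xc11 yc3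 zc15) (kc xc24 yc35 zc17) (kc xc16 yc41 zc55)) (@D3.rec (fun _ => Pt) (kc xc29 yc5 zc56) (kc xc29 yc10 zc35) (kc xc16 yc13 zc0) (kc xc19 yc56 zc21) (kc xc11 yc3 zc18) (kc xc29 yc10 zc49) (kc xc20 yc58 zc27) (kc xc29 yc10 zc55) (kc xc29 yc10 zc59) (kc xc29 yc10 zc39) (kc xc26 yc47 zc28) (kc xc26 yc47 zc29) (kc xc29 yc11 zc4) (kc xc19 yc55 zc43) (kc xc22 yc44 zc57) (kc xc29 yc10 zc33) (kc xc14 yc6 zc32) (kc xc11 yc3 zc22) (kc xc23 yc38 zc38) (kc xc25 yc8 zc40) (kc xc21 yc49 zc23) (kc xc16 yc43 zc3) (kc xc11 yc3 zc25) (kc xc29 yc9 zc47) (kc xc24 yc51 zc43) (kc xc11 yc3 zc26) (kc xc11 yc3 zc27) (kc xc18 yc3 zc12) (kc xc29 yc11 zc13) (kc xc19 yc58 zc47) (kc xc19 yc54 zc58) (kc xc16 yc41 zc43) (kc xc11 yc3 zc30) (kc xc29 yc9 zc50) (kc xc23 yc43 zc61) (kc xc11 yc3 zc29) (kc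 xc22 yc10 zc12) (kc xc29 yc11 zc25) (kc xc29 yc11 zc29) (kc xc29 yc11 zc20) (kc xc19 yc55 zc59) (kc xc19 yc55 zc60) (kc xc29 yc11 zc34) (kc xc19 yc55 zc13) (kc xc29 yc10 zc28) (kc xc11 yc3 zc32) (kc xc29 yc11 zc37) (kc xc16 yc37 zc35) (kc xc14 yc10 zc53) (kc xc22 yc21 zc54) (kc xc27 yc10 zc46) (kc xc29 yc11 zc39) (kc xc26 yc42 zc51) (kc xc29 yc11 zc43) (kc xc23 yc20 zc56) (kc xc11 yc3 zc37) (kc xc27 yc55 zc51) (kc xc28 yc53 zc20) (kc xc29 yc11 zc53) (kc xc19 yc55 zc40) (kc xc19 yc55 zc41) (kc xc29 yc11 zc58)) (@D3.rec (fun _ => Pt) (kc xc19 yc54 zc39) (kc xc29 yc10 zc25) (kc xc29 yc11 zc7) (kc xc11 yc3 zc40) (kc xc11 yc3 zc43) (kc xc11 yc5 zc45) (kc xc14 yc5 zc37) (kc xc29 yc12 zc2) (kc xc16 yc27 zc48) (kc xc19 yc39 zc15) (kc xc13 yc52 zc2) (kc xc11 yc5 zc55) (kc xc29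 yc12 zc8) (kc xc19 yc25 zc6) (kc xc11 yc3 zc47) (kc xc11 yc3 zc49) (kc xc28 yc10 zc51) (kc xc18 yc58 zc46) (kc xc23 yc31 zc48) (kc xc26 yc26 zc49) (kc xc29 yc12 zc13) (kc xc19 yc55 zc3) (kc xc26 yc3 zc10) (kc xc19 yc56 zc28) (kc xc19 yc56 zc29) (kc xc21 yc0 zc31) (kc xc18 yc3 zc17) (kc xc16 yc11 zc60) (kc xc19 yc56 zc23) (kc xc19 yc56 zc24) (kc xc14 yc9 zc47) (kc xc28 yc41 zc15) (kc xc22 yc31 zc43) (kc xc28 yc41 zc18) (kc xc11 yc4 zc1) (kc xc27 yc38 zc12) (kc xc22 yc19 zc52) (kc xc14 yc29 zc3) (kc xc11 yc4 zc19) (kc xc22 yc16 zc61) (kc xc11 yc4 zc7) (kc xc14 yc9 zc50) (kc xc11 yc4 zc9) (kc xc22 yc41 zc44) (kc xc11 yc4 zc13) (kc xc14 yc21 zc44) (kc xc21 yc14 zc28) (kc xc11 yc4 zc16) (kc xc11 yc4 zc15) (kc xc26 yc36 zc32) (kc xc26 yc34 zc38) (kc xc19 yc19 zc21) (kc xc29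 yc12 zc26) (kc xc22 yc55 zc30) (kc xc26 yc41 zc25) (kc xc16 yc12 zc50) (kc xc29 yc9 zc27) (kc xc19 yc42 zc8) (kc xc22 yc20 zc8) (kc xc11 yc4 zc23) (kc xc19 yc8 zc41) (kc xc17 yc56 zc54)) (@D3.rec (fun _ => Pt) (kc xc20 yc57 zc2) (kc xc25 yc25 zc56) (kc xc26 yc24 zc37) (kc xc13 yc49 zc11) (kc xc19 yc23 zc43) (kc xc29 yc12 zc36) (kc xc29 yc12 zc37) (kc xc20 yc59 zc44) (kc xc21 yc9 zc24) (kc xc19 yc22 zc44) (kc xc19 yc57 zc23) (kc xc15 yc22 zc2) (kc xc16 yc8 zc9) (kc xc15 yc42 zc15) (kc xc11 yc4 zc34) (kc xc24 yc26 zc10) (kc xc28 yc12 zc61) (kc xc24 yc16 zc52) (kc xc25 yc41 zc9) (kc xc19 yc57 zc21) (kc xc24 yc42 zc42) (kc xc19 yc57 zc19) (kc xc21 yc45 zc51) (kc xc19 yc57 zc10) (kc xc15 yc57 zc47) (kc xc15 yc57 zc42) (kc xc19 yc17 zc60) (kc xc19 yc17 zc61) (kc xc26 yc47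 zc32) (kc xc26 yc43 zc61) (kc xc19 yc10 zc30) (kc xc19 yc11 zc36) (kc xc12 yc32 zc7) (kc xc20 yc25 zc34) (kc xc16 yc5 zc34) (kc xc16 yc42 zc4) (kc xc11 yc4 zc49) (kc xc11 yc4 zc48) (kc xc25 yc27 zc48) (kc xc11 yc4 zc52) (kc xc29 yc12 zc57) (kc xc11 yc4 zc56) (kc xc11 yc4 zc57) (kc xc11 yc33 zc20) (kc xc11 yc4 zc59) (kc xc29 yc12 zc60) (kc xc29 yc12 zc61) (kc xc27 yc35 zc26) (kc xc24 yc19 zc9) (kc xc25 yc10 zc41) (kc xc19 yc10 zc33) (kc xc16 yc4 zc23) (kc xc15 yc16 zc24) (kc xc26 yc44 zc54) (kc xc11 yc5 zc4) (kc xc26 yc40 zc3) (kc xc26 yc38 zc24) (kc xc16 yc36 zc15) (kc xc16 yc36 zc16) (kc xc29 yc13 zc12) (kc xc15 yc37 zc35) (kc xc25 yc40 zc44)) (@D3.rec (fun _ => Pt) (kc xc25 yc40 zc43) (kc xc25 yc44 zc24) (kc xc11 yc5 zc25) (kc xc11 yc5 zc10) (kc xc29 yc13 zc16) (kc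 xc21 yc36 zc53) (kc xc21 yc36 zc52) (kc xc19 yc5 zc58) (kc xc11 yc5 zc29) (kc xc25 yc38 zc13) (kc xc24 yc20 zc45) (kc xc27 yc11 zc60) (kc xc25 yc37 zc47) (kc xc15 yc16 zc29) (kc xc29 yc13 zc31) (kc xc29 yc10 zc40) (kc xc27 yc43 zc9) (kc xc11 yc52 zc43) (kc xc29 yc13 zc33) (kc xc29 yc13 zc34) (kc xc11 yc5 zc15) (kc xc26 yc45 zc22) (kc xc27 yc23 zc46) (kc xc28 yc47 zc61) (kc xc26 yc41 zc47) (kc xc28 yc47 zc38) (kc xc16 yc49 zc26) (kc xc19 yc31 zc43) (kc xc24 yc51 zc55) (kc xc16 yc5 zc30) (kc xc16 yc8 zc51) (kc xc11 yc5 zc24) (kc xc29 yc13 zc39) (kc xc29 yc13 zc15) (kc xc22 yc3 zc56) (kc xc11 yc5 zc26) (kc xc19 yc59 zc11) (kc xc11 yc5 zc27) (kc xc21 yc35 zc23) (kc xc20 yc13 zc6) (kc xc11 yc5 zc28) (kc xc29 yc13 zc44) (kc xc11 yc5 zc30) (kc xc29 yc13 zc46) (kc xc19 yc33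 zc37) (kc xc19 yc33 zc38) (kc xc26 yc43 zc26) (kc xc19 yc55 zc29) (kc xc16 yc44 zc7) (kc xc26 yc43 zc23) (kc xc23 yc3 zc9) (kc xc26 yc43 zc24) (kc xc16 yc10 zc45) (kc xc16 yc10 zc36) (kc xc11 yc5 zc41) (kc xc16 yc35 zc16) (kc xc26 yc42 zc20) (kc xc26 yc42 zc21) (kc xc13 yc57 zc19) (kc xc11 yc5 zc47) (kc xc19 yc42 zc33) (kc xc19 yc46 zc32)) (@D3.rec (fun _ => Pt) (kc xc19 yc43 zc35) (kc xc26 yc32 zc57) (kc xc11 yc5 zc44) (kc xc17 yc22 zc38) (kc xc29 yc14 zc0) (kc xc11 yc5 zc46) (kc xc28 yc2 zc32) (kc xc21 yc50 zc16) (kc xc11 yc5 zc51) (kc xc23 yc20 zc31) (kc xc21 yc57 zc34) (kc xc19 yc58 zc36) (kc xc29 yc14 zc7) (kc xc11 yc5 zc57) (kc xc16 yc47 zc33) (kc xc16 yc35 zc15) (kc xc11 yc5 zc54) (kc xc15 yc49 zc55) (kc xc11 yc5 zc56) (kc xc24 yc11 zc40) (kc xc29 yc14 zc13)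 (kc xc11 yc51 zc50) (kc xc27 yc1 zc8) (kc xc11 yc5 zc61) (kc xc16 yc38 zc3) (kc xc29 yc14 zc20) (kc xc28 yc36 zc45) (kc xc11 yc6 zc1) (kc xc19 yc31 zc11) (kc xc19 yc31 zc12) (kc xc11 yc6 zc5) (kc xc17 yc19 zc4) (kc xc11 yc6 zc3) (kc xc11 yc6 zc4) (kc xc29 yc14 zc15) (kc xc11 yc6 zc7) (kc xc11 yc36 zc32) (kc xc15 yc7 zc4) (kc xc15 yc8 zc45) (kc xc16 yc20 zc47) (kc xc21 yc34 zc20) (kc xc18 yc58 zc41) (kc xc11 yc6 zc14) (kc xc29 yc6 zc24) (kc xc13 yc53 zc46) (kc xc11 yc6 zc15) (kc xc29 yc14 zc35) (kc xc24 yc58 zc50) (kc xc27 yc9 zc33) (kc xc20 yc6 zc13) (kc xc12 yc31 zc34) (kc xc11 yc6 zc24) (kc xc11 yc6 zc22) (kc xc11 yc6 zc23) (kc xc20 yc11 zc22) (kc xc11 yc24 zc34) (kc xc11 yc24 zc35) (kc xc22 yc45 zc0) (kc xc11 yc24 zc31) (kc xc11 yc6 zc30) (kc xc20 yc0 zc49) (kc xc20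 yc22 zc4))
def f_c_20 : D2 → D3 → Pt := @D2.rec (fun _ => D3 → Pt) (@D3.rec (fun _ => Pt) (kc xc15 yc8 zc11) (kc xc20 yc12 zc51) (kc xc28 yc43 zc34) (kc xc18 yc23 zc28) (kc xc18 yc47 zc49) (kc xc13 yc18 zc27) (kc xc20 yc32 zc59) (kc xc15 yc4 zc4) (kc xc11 yc6 zc50) (kc xc15 yc19 zc6) (kc xc11 yc6 zc52) (kc xc18 yc53 zc51) (kc xc25 yc23 zc53) (kc xc20 yc11 zc21) (kc xc29 yc1 zc52) (kc xc11 yc6 zc57) (kc xc20 yc12 zc52) (kc xc11 yc6 zc58) (kc xc11 yc14 zc16) (kc xc20 yc11 zc44) (kc xc16 yc54 zc53) (kc xc11 yc15 zc61) (kc xc20 yc11 zc23) (kc xc20 yc11 zc32) (kc xc20 yc11 zc33) (kc xc22 yc46 zc31) (kc xc20 yc6 zc20) (kc xc12 yc8 zc0) (kc xc11 yc16 zc41) (kc xc11 yc17 zc21) (kc xc11 yc16 zc39) (kc xc20 yc6 zc39) (kc xc20 yc1 zc1) (kc xc11 yc17 zc18) (kc xc24 yc30 zc35) (kc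 xc15 yc10 zc38) (kc xc13 yc38 zc28) (kc xc20 yc59 zc54) (kc xc20 yc9 zc22) (kc xc20 yc9 zc23) (kc xc22 yc4 zc47) (kc xc20 yc6 zc6) (kc xc12 yc8 zc3) (kc xc22 yc32 zc20) (kc xc26 yc50 zc14) (kc xc20 yc32 zc17) (kc xc26 yc50 zc15) (kc xc20 yc1 zc23) (kc xc21 yc15 zc19) (kc xc19 yc59 zc60) (kc xc18 yc14 zc28) (kc xc11 yc7 zc23) (kc xc26 yc22 zc55) (kc xc16 yc56 zc12) (kc xc13 yc26 zc54) (kc xc16 yc56 zc6) (kc xc22 yc17 zc58) (kc xc13 yc24 zc25) (kc xc20 yc19 zc0) (kc xc28 yc14 zc14) (kc xc17 yc11 zc34) (kc xc28 yc14 zc6)) (@D3.rec (fun _ => Pt) (kc xc13 yc21 zc12) (kc xc20 yc0 zc32) (kc xc20 yc1 zc21) (kc xc20 yc7 zc18) (kc xc20 yc4 zc39) (kc xc29 yc14 zc50) (kc xc11 yc7 zc38) (kc xc11 yc7 zc37) (kc xc26 yc25 zc50) (kc xc11 yc7 zc40) (kc xc26 yc51 zc19) (kc xc19 yc21 zc12)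 (kc xc15 yc4 zc41) (kc xc20 yc31 zc53) (kc xc20 yc1 zc18) (kc xc20 yc13 zc22) (kc xc21 yc15 zc23) (kc xc16 yc57 zc9) (kc xc20 yc1 zc14) (kc xc29 yc14 zc57) (kc xc19 yc27 zc1) (kc xc20 yc1 zc2) (kc xc29 yc7 zc42) (kc xc20 yc0 zc47) (kc xc13 yc15 zc27) (kc xc16 yc47 zc50) (kc xc17 yc25 zc29) (kc xc16 yc56 zc11) (kc xc11 yc7 zc54) (kc xc28 yc0 zc22) (kc xc20 yc20 zc14) (kc xc11 yc7 zc57) (kc xc11 yc7 zc56) (kc xc11 yc7 zc58) (kc xc15 yc42 zc24) (kc xc28 yc17 zc60) (kc xc17 yc0 zc57) (kc xc25 yc32 zc36) (kc xc11 yc7 zc61) (kc xc12 yc15 zc0) (kc xc13 yc27 zc35) (kc xc11 yc20 zc31) (kc xc11 yc39 zc39) (kc xc20 yc1 zc51) (kc xc24 yc37 zc49) (kc xc20 yc1 zc50) (kc xc11 yc33 zc17) (kc xc26 yc55 zc50) (kc xc11 yc41 zc61) (kc xc29 yc15 zc16) (kc xc20 yc1 zc45) (kc xc20 yc1 zc43)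 (kc xc11 yc8 zc13) (kc xc29 yc12 zc25) (kc xc18 yc2 zc20) (kc xc11 yc8 zc15) (kc xc28 yc31 zc40) (kc xc11 yc8 zc16) (kc xc22 yc55 zc25) (kc xc14 yc27 zc41) (kc xc15 yc16 zc54) (kc xc15 yc53 zc19)) (@D3.rec (fun _ => Pt) (kc xc11 yc35 zc9) (kc xc20 yc23 zc34) (kc xc18 yc24 zc13) (kc xc17 yc9 zc55) (kc xc14 yc46 zc39) (kc xc13 yc17 zc46) (kc xc11 yc8 zc32) (kc xc21 yc20 zc25) (kc xc11 yc8 zc36) (kc xc11 yc8 zc37) (kc xc16 yc42 zc46) (kc xc13 yc44 zc29) (kc xc25 yc49 zc10) (kc xc20 yc23 zc9) (kc xc19 yc30 zc13) (kc xc29 yc15 zc36) (kc xc29 yc15 zc38) (kc xc23 yc26 zc54) (kc xc19 yc30 zc19) (kc xc11 yc53 zc4) (kc xc29 yc15 zc43) (kc xc29 yc13 zc4) (kc xc29 yc15 zc44) (kc xc15 yc9 zc2) (kc xc29 yc15 zc46) (kc xc29 yc15 zc48) (kc xc11 yc8 zc45) (kc xc29 yc15 zc53) (kc xc25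 yc40 zc10) (kc xc25 yc40 zc27) (kc xc19 yc12 zc2) (kc xc29 yc15 zc59) (kc xc29 yc16 zc0) (kc xc29 yc16 zc4) (kc xc19 yc12 zc8) (kc xc26 yc6 zc15) (kc xc29 yc16 zc6) (kc xc19 yc32 zc7) (kc xc29 yc16 zc7) (kc xc29 yc16 zc8) (kc xc11 yc8 zc54) (kc xc27 yc39 zc50) (kc xc26 yc47 zc36) (kc xc29 yc16 zc13) (kc xc16 yc44 zc21) (kc xc11 yc8 zc58) (kc xc23 yc12 zc49) (kc xc11 yc8 zc59) (kc xc12 yc41 zc29) (kc xc12 yc41 zc28) (kc xc12 yc41 zc54) (kc xc12 yc33 zc3) (kc xc29 yc15 zc49) (kc xc29 yc15 zc50) (kc xc11 yc9 zc0) (kc xc29 yc16 zc23) (kc xc19 yc3 zc34) (kc xc28 yc58 zc54) (kc xc26 yc4 zc41) (kc xc20 yc42 zc36) (kc xc26 yc41 zc32) (kc xc28 yc58 zc57)) (@D3.rec (fun _ => Pt) (kc xc28 yc58 zc58) (kc xc16 yc32 zc11) (kc xc26 yc41 zc35) (kc xc29 yc16 zc9) (kc xc11 yc9 zc6) (kc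 xc26 yc13 zc43) (kc xc26 yc4 zc42) (kc xc20 yc56 zc23) (kc xc11 yc9 zc10) (kc xc11 yc9 zc57) (kc xc23 yc27 zc45) (kc xc21 yc57 zc55) (kc xc16 yc44 zc20) (kc xc19 yc33 zc30) (kc xc19 yc33 zc32) (kc xc11 yc10 zc7) (kc xc29 yc16 zc46) (kc xc14 yc50 zc12) (kc xc16 yc45 zc12) (kc xc19 yc39 zc52) (kc xc26 yc37 zc0) (kc xc26 yc37 zc32) (kc xc19 yc40 zc20) (kc xc20 yc26 zc57) (kc xc19 yc53 zc23) (kc xc23 yc58 zc51) (kc xc12 yc43 zc5) (kc xc28 yc57 zc17) (kc xc27 yc37 zc31) (kc xc29 yc16 zc55) (kc xc29 yc16 zc57) (kc xc11 yc9 zc18) (kc xc19 yc53 zc61) (kc xc28 yc59 zc19) (kc xc25 yc33 zc51) (kc xc14 yc30 zc2) (kc xc11 yc9 zc21) (kc xc29 yc16 zc61) (kc xc11 yc9 zc22) (kc xc16 yc8 zc26) (kc xc15 yc18 zc50) (kc xc15 yc18 zc51) (kc xc25 yc15 zc41) (kc xc11 yc9 zc25) (kc xc11 yc9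 zc28) (kc xc11 yc29 zc49) (kc xc24 yc12 zc21) (kc xc26 yc59 zc10) (kc xc27 yc53 zc35) (kc xc29 yc17 zc8) (kc xc27 yc39 zc15) (kc xc11 yc9 zc29) (kc xc26 yc9 zc44) (kc xc26 yc57 zc10) (kc xc19 yc16 zc4) (kc xc29 yc17 zc14) (kc xc11 yc9 zc32) (kc xc29 yc17 zc17) (kc xc25 yc29 zc15) (kc xc29 yc17 zc3) (kc xc11 yc9 zc34) (kc xc19 yc16 zc34)) (@D3.rec (fun _ => Pt) (kc xc14 yc54 zc46) (kc xc11 yc9 zc37) (kc xc12 yc43 zc28) (kc xc21 yc45 zc17) (kc xc25 yc55 zc2) (kc xc29 yc17 zc2) (kc xc12 yc16 zc57) (kc xc12 yc17 zc35) (kc xc26 yc45 zc42) (kc xc11 yc9 zc41) (kc xc29 yc17 zc27) (kc xc15 yc42 zc13) (kc xc25 yc29 zc37) (kc xc29 yc17 zc29) (kc xc11 yc9 zc46) (kc xc27 yc31 zc57) (kc xc16 yc19 zc20) (kc xc16 yc19 zc21) (kc xc16 yc20 zc46) (kc xc22 yc8 zc5) (kc xc17 yc49 zc20)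 (kc xc16 yc42 zc45) (kc xc12 yc41 zc33) (kc xc26 yc42 zc1) (kc xc25 yc14 zc39) (kc xc17 yc34 zc37) (kc xc26 yc43 zc40) (kc xc23 yc30 zc1) (kc xc11 yc9 zc59) (kc xc19 yc20 zc58) (kc xc14 yc59 zc31) (kc xc21 yc57 zc45) (kc xc19 yc32 zc59) (kc xc28 yc55 zc3) (kc xc27 yc22 zc59) (kc xc11 yc10 zc2) (kc xc11 yc10 zc1) (kc xc29 yc17 zc38) (kc xc19 yc33 zc3) (kc xc20 yc1 zc4) (kc xc28 yc55 zc28) (kc xc25 yc14 zc42) (kc xc12 yc49 zc41) (kc xc24 yc36 zc52) (kc xc11 yc10 zc9) (kc xc29 yc17 zc37) (kc xc25 yc14 zc38) (kc xc11 yc10 zc6) (kc xc18 yc19 zc42) (kc xc22 yc38 zc7) (kc xc17 yc55 zc60) (kc xc24 yc52 zc12) (kc xc28 yc59 zc22) (kc xc29 yc0 zc54) (kc xc11 yc10 zc12) (kc xc28 yc59 zc5) (kc xc19 yc46 zc44) (kc xc11 yc10 zc17) (kc xc29 yc16 zc49) (kc xc11 yc10 zc16) (kc xc21 yc4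 zc5) (kc xc11 yc10 zc18)) (@D3.rec (fun _ => Pt) (kc xc25 yc22 zc43) (kc xc16 yc5 zc58) (kc xc11 yc10 zc25) (kc xc28 yc57 zc15) (kc xc19 yc36 zc29) (kc xc19 yc38 zc32) (kc xc25 yc42 zc3) (kc xc24 yc11 zc43) (kc xc21 yc30 zc21) (kc xc27 yc29 zc30) (kc xc11 yc10 zc29) (kc xc29 yc17 zc59) (kc xc11 yc10 zc36) (kc xc11 yc10 zc38) (kc xc29 yc17 zc61) (kc xc26 yc44 zc21) (kc xc11 yc10 zc32) (kc xc29 yc18 zc0) (kc xc18 yc39 zc56) (kc xc18 yc22 zc8) (kc xc19 yc17 zc30) (kc xc19 yc31 zc28) (kc xc29 yc14 zc27) (kc xc24 yc49 zc6) (kc xc15 yc29 zc32) (kc xc11 yc10 zc37) (kc xc28 yc49 zc52) (kc xc19 yc22 zc21) (kc xc20 yc27 zc31) (kc xc19 yc34 zc52) (kc xc11 yc10 zc44) (kc xc11 yc10 zc47) (kc xc11 yc10 zc51) (kc xc11 yc10 zc50) (kc xc15 yc49 zc11) (kc xc29 yc18 zc10) (kc xc13 yc0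 zc30) (kc xc11 yc14 zc57) (kc xc11 yc21 zc26) (kc xc11 yc23 zc59) (kc xc12 yc12 zc51) (kc xc16 yc28 zc19) (kc xc11 yc37 zc50) (kc xc11 yc19 zc17) (kc xc12 yc12 zc56) (kc xc20 yc14 zc61) (kc xc23 yc23 zc10) (kc xc23 yc23 zc11) (kc xc20 yc46 zc40) (kc xc26 yc50 zc42) (kc xc24 yc28 zc2) (kc xc21 yc51 zc41) (kc xc12 yc46 zc39) (kc xc11 yc37 zc34) (kc xc12 yc55 zc19) (kc xc26 yc48 zc45) (kc xc19 yc48 zc40) (kc xc16 yc52 zc19) (kc xc12 yc3 zc42) (kc xc12 yc3 zc43) (kc xc20 yc11 zc57) (kc xc11 yc16 zc50)) (@D3.rec (fun _ => Pt) (kc xc29 yc3 zc0) (kc xc28 yc51 zc1) (kc xc20 yc11 zc53) (kc xc24 yc31 zc50) (kc xc20 yc11 zc55) (kc xc20 yc6 zc28) (kc xc20 yc0 zc41) (kc xc17 yc12 zc20) (kc xc16 yc34 zc46) (kc xc11 yc11 zc32) (kc xc11 yc11 zc31) (kc xc11 yc11 zc35) (kc xc11 yc11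 zc34) (kc xc19 yc59 zc49) (kc xc29 yc14 zc37) (kc xc19 yc51 zc10) (kc xc19 yc50 zc21) (kc xc19 yc21 zc13) (kc xc29 yc18 zc16) (kc xc12 yc7 zc34) (kc xc20 yc0 zc26) (kc xc11 yc11 zc39) (kc xc20 yc27 zc53) (kc xc21 yc57 zc50) (kc xc29 yc14 zc54) (kc xc16 yc52 zc54) (kc xc13 yc49 zc30) (kc xc21 yc15 zc20) (kc xc20 yc6 zc5) (kc xc14 yc42 zc41) (kc xc16 yc50 zc35) (kc xc27 yc33 zc45) (kc xc16 yc22 zc12) (kc xc26 yc49 zc27) (kc xc22 yc20 zc10) (kc xc11 yc11 zc50) (kc xc11 yc11 zc51) (kc xc29 yc18 zc21) (kc xc16 yc29 zc13) (kc xc20 yc0 zc31) (kc xc11 yc16 zc54) (kc xc12 yc18 zc56) (kc xc29 yc18 zc23) (kc xc21 yc30 zc33) (kc xc16 yc53 zc59) (kc xc17 yc6 zc36) (kc xc16 yc31 zc59) (kc xc20 yc18 zc36) (kc xc26 yc28 zc41) (kc xc11 yc12 zc9) (kc xc11 yc12 zc11) (kc xc20 yc7 zc55)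 (kc xc26 yc49 zc28) (kc xc11 yc14 zc48) (kc xc23 yc26 zc19) (kc xc11 yc37 zc17) (kc xc16 yc30 zc61) (kc xc20 yc8 zc53) (kc xc26 yc25 zc24) (kc xc20 yc8 zc49) (kc xc11 yc24 zc10) (kc xc22 yc39 zc11)) (@D3.rec (fun _ => Pt) (kc xc29 yc18 zc24) (kc xc25 yc39 zc43) (kc xc14 yc5 zc26) (kc xc27 yc44 zc7) (kc xc25 yc19 zc2) (kc xc26 yc17 zc30) (kc xc11 yc12 zc34) (kc xc29 yc18 zc35) (kc xc29 yc18 zc36) (kc xc29 yc18 zc34) (kc xc13 yc59 zc7) (kc xc23 yc23 zc12) (kc xc19 yc25 zc20) (kc xc11 yc12 zc48) (kc xc11 yc12 zc47) (kc xc16 yc29 zc30) (kc xc19 yc27 zc26) (kc xc11 yc12 zc50) (kc xc20 yc1 zc3) (kc xc25 yc21 zc58) (kc xc26 yc25 zc6) (kc xc11 yc12 zc54) (kc xc11 yc12 zc55) (kc xc28 yc27 zc11) (kc xc11 yc12 zc56) (kc xc11 yc13 zc22) (kc xc11 yc13 zc10) (kc xc11 yc12 zc58) (kc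 xc23 yc8 zc59) (kc xc27 yc40 zc34) (kc xc11 yc12 zc60) (kc xc26 yc55 zc35) (kc xc19 yc33 zc50) (kc xc16 yc44 zc60) (kc xc11 yc13 zc2) (kc xc11 yc13 zc0) (kc xc29 yc18 zc42) (kc xc19 yc25 zc24) (kc xc11 yc13 zc1) (kc xc24 yc3 zc52) (kc xc23 yc8 zc58) (kc xc11 yc13 zc4) (kc xc29 yc18 zc47) (kc xc11 yc13 zc9) (kc xc11 yc13 zc6) (kc xc21 yc7 zc56) (kc xc11 yc13 zc8) (kc xc14 yc59 zc20) (kc xc29 yc18 zc50) (kc xc26 yc27 zc11) (kc xc24 yc28 zc61) (kc xc18 yc45 zc17) (kc xc27 yc5 zc10) (kc xc23 yc0 zc6) (kc xc20 yc8 zc59) (kc xc20 yc6 zc51) (kc xc23 yc12 zc17) (kc xc11 yc13 zc20) (kc xc16 yc52 zc42) (kc xc19 yc1 zc18) (kc xc12 yc8 zc52) (kc xc16 yc53 zc14)) (@D3.rec (fun _ => Pt) (kc xc11 yc13 zc25) (kc xc11 yc13 zc26) (kc xc11 yc14 zc1) (kc xc26 yc32 zc24) (kc xc16 yc52 zc58)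 (kc xc15 yc7 zc10) (kc xc15 yc3 zc53) (kc xc20 yc11 zc3) (kc xc11 yc13 zc61) (kc xc18 yc59 zc49) (kc xc11 yc13 zc58) (kc xc11 yc13 zc33) (kc xc18 yc58 zc40) (kc xc18 yc59 zc53) (kc xc18 yc20 zc47) (kc xc11 yc13 zc45) (kc xc24 yc52 zc55) (kc xc25 yc10 zc56) (kc xc25 yc10 zc57) (kc xc16 yc16 zc46) (kc xc29 yc19 zc3) (kc xc16 yc16 zc49) (kc xc19 yc51 zc22) (kc xc28 yc14 zc36) (kc xc11 yc13 zc41) (kc xc27 yc38 zc49) (kc xc11 yc55 zc15) (kc xc19 yc17 zc57) (kc xc26 yc21 zc16) (kc xc29 yc18 zc60) (kc xc11 yc30 zc51) (kc xc11 yc13 zc51) (kc xc11 yc13 zc50) (kc xc15 yc5 zc5) (kc xc14 yc49 zc60) (kc xc17 yc6 zc18) (kc xc28 yc27 zc50) (kc xc29 yc19 zc8) (kc xc17 yc20 zc56) (kc xc11 yc13 zc55) (kc xc29 yc19 zc10) (kc xc26 yc46 zc25) (kc xc11 yc13 zc57) (kc xc29 yc19 zc12) (kc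 xc27 yc9 zc41) (kc xc29 yc18 zc58) (kc xc18 yc23 zc41) (kc xc21 yc35 zc44) (kc xc21 yc4 zc2) (kc xc20 yc6 zc59) (kc xc28 yc20 zc30) (kc xc26 yc20 zc27) (kc xc28 yc48 zc49) (kc xc20 yc6 zc57) (kc xc20 yc31 zc25) (kc xc22 yc49 zc15) (kc xc11 yc14 zc4) (kc xc29 yc19 zc23) (kc xc29 yc19 zc26) (kc xc20 yc7 zc54) (kc xc11 yc14 zc5) (kc xc12 yc45 zc38)) (@D3.rec (fun _ => Pt) (kc xc19 yc9 zc43) (kc xc19 yc32 zc30) (kc xc29 yc19 zc29) (kc xc20 yc34 zc5) (kc xc23 yc12 zc20) (kc xc15 yc4 zc32) (kc xc15 yc4 zc31) (kc xc11 yc14 zc10) (kc xc16 yc53 zc48) (kc xc28 yc49 zc49) (kc xc26 yc43 zc55) (kc xc11 yc14 zc14) (kc xc11 yc14 zc53) (kc xc28 yc49 zc48) (kc xc11 yc14 zc17) (kc xc19 yc12 zc17) (kc xc29 yc18 zc26) (kc xc29 yc9 zc5) (kc xc11 yc14 zc60) (kc xc29 yc16 zc48) (kc xc14 yc58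 zc52) (kc xc11 yc14 zc21) (kc xc20 yc0 zc38) (kc xc20 yc0 zc39) (kc xc11 yc14 zc25) (kc xc11 yc14 zc24) (kc xc27 yc2 zc8) (kc xc11 yc14 zc26) (kc xc29 yc19 zc37) (kc xc19 yc18 zc13) (kc xc11 yc14 zc30) (kc xc18 yc16 zc12) (kc xc11 yc14 zc33) (kc xc11 yc14 zc36) (kc xc26 yc19 zc44) (kc xc11 yc14 zc38) (kc xc29 yc19 zc41) (kc xc22 yc10 zc3) (kc xc11 yc14 zc41) (kc xc11 yc14 zc42) (kc xc14 yc2 zc20) (kc xc20 yc9 zc54) (kc xc14 yc46 zc34) (kc xc11 yc14 zc45) (kc xc13 yc58 zc58) (kc xc29 yc19 zc42) (kc xc29 yc19 zc43) (kc xc26 yc42 zc29) (kc xc11 yc14 zc47) (kc xc14 yc15 zc55) (kc xc13 yc8 zc57) (kc xc23 yc3 zc36) (kc xc16 yc51 zc28) (kc xc12 yc36 zc26) (kc xc20 yc9 zc41) (kc xc20 yc29 zc0) (kc xc27 yc43 zc49) (kc xc16 yc47 zc22) (kc xc22 yc36 zc60) (kc xc29 yc19 zc44) (kc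 xc22 yc36 zc59) (kc xc11 yc58 zc47)) (@D3.rec (fun _ => Pt) (kc xc11 yc58 zc46) (kc xc11 yc15 zc5) (kc xc26 yc19 zc2) (kc xc11 yc15 zc16) (kc xc26 yc19 zc61) (kc xc27 yc52 zc50) (kc xc20 yc14 zc20) (kc xc26 yc25 zc26) (kc xc26 yc47 zc1) (kc xc25 yc54 zc22) (kc xc26 yc47 zc2) (kc xc26 yc19 zc47) (kc xc26 yc19 zc46) (kc xc11 yc15 zc10) (kc xc29 yc19 zc60) (kc xc24 yc53 zc8) (kc xc24 yc53 zc15) (kc xc20 yc34 zc52) (kc xc16 yc20 zc61) (kc xc11 yc15 zc14) (kc xc29 yc20 zc9) (kc xc29 yc20 zc11) (kc xc17 yc55 zc41) (kc xc27 yc20 zc19) (kc xc24 yc53 zc18) (kc xc17 yc15 zc10) (kc xc26 yc29 zc35) (kc xc17 yc1 zc4) (kc xc26 yc49 zc45) (kc xc18 yc8 zc59) (kc xc11 yc15 zc23) (kc xc11 yc15 zc24) (kc xc11 yc15 zc25) (kc xc28 yc19 zc8) (kc xc17 yc11 zc25) (kc xc11 yc15 zc28) (kc xc29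 yc20 zc22) (kc xc11 yc21 zc17) (kc xc16 yc21 zc48) (kc xc16 yc21 zc60) (kc xc19 yc21 zc36) (kc xc11 yc16 zc4) (kc xc27 yc35 zc10) (kc xc19 yc0 zc26) (kc xc29 yc19 zc32) (kc xc11 yc16 zc3) (kc xc11 yc15 zc33) (kc xc29 yc20 zc7) (kc xc29 yc20 zc8) (kc xc28 yc28 zc43) (kc xc22 yc18 zc36) (kc xc11 yc23 zc11) (kc xc25 yc50 zc58) (kc xc11 yc16 zc1) (kc xc11 yc15 zc36) (kc xc27 yc50 zc23) (kc xc29 yc20 zc37) (kc xc27 yc52 zc41) (kc xc21 yc15 zc32) (kc xc11 yc15 zc60) (kc xc27 yc53 zc19) (kc xc18 yc31 zc12)) (@D3.rec (fun _ => Pt) (kc xc20 yc21 zc26) (kc xc11 yc15 zc56) (kc xc20 yc20 zc56) (kc xc20 yc8 zc7) (kc xc11 yc15 zc51) (kc xc18 yc41 zc7) (kc xc25 yc49 zc58) (kc xc26 yc12 zc29) (kc xc17 yc54 zc38) (kc xc23 yc8 zc41) (kc xc16 yc15 zc56) (kc xc26 yc49 zc9) (kc xc22 yc51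 zc50) (kc xc22 yc51 zc19) (kc xc24 yc26 zc12) (kc xc11 yc15 zc44) (kc xc27 yc52 zc44) (kc xc23 yc7 zc10) (kc xc11 yc15 zc45) (kc xc29 yc21 zc7) (kc xc19 yc48 zc4) (kc xc20 yc0 zc13) (kc xc19 yc59 zc54) (kc xc20 yc0 zc22) (kc xc25 yc45 zc41) (kc xc21 yc15 zc16) (kc xc20 yc21 zc52) (kc xc29 yc21 zc15) (kc xc20 yc21 zc59) (kc xc27 yc54 zc53) (kc xc29 yc20 zc24) (kc xc29 yc20 zc47) (kc xc20 yc0 zc23) (kc xc20 yc0 zc24) (kc xc29 yc21 zc25) (kc xc11 yc15 zc54) (kc xc11 yc15 zc53) (kc xc27 yc12 zc12) (kc xc25 yc34 zc43) (kc xc24 yc24 zc14) (kc xc27 yc40 zc31) (kc xc14 yc16 zc45) (kc xc24 yc48 zc24) (kc xc20 yc22 zc15) (kc xc20 yc0 zc19) (kc xc18 yc9 zc31) (kc xc11 yc15 zc58) (kc xc18 yc48 zc53) (kc xc25 yc26 zc49) (kc xc29 yc20 zc40) (kc xc29 yc21 zc31) (kc xc14 yc44 zc31)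 (kc xc14 yc44 zc30) (kc xc20 yc6 zc2) (kc xc19 yc28 zc7) (kc xc20 yc6 zc4) (kc xc29 yc20 zc35) (kc xc20 yc5 zc60) (kc xc29 yc20 zc31) (kc xc18 yc44 zc2) (kc xc28 yc36 zc12) (kc xc24 yc12 zc53)) (@D3.rec (fun _ => Pt) (kc xc18 yc34 zc35) (kc xc18 yc34 zc3) (kc xc28 yc51 zc32) (kc xc28 yc7 zc16) (kc xc11 yc16 zc7) (kc xc11 yc16 zc8) (kc xc24 yc53 zc5) (kc xc12 yc53 zc60) (kc xc25 yc21 zc35) (kc xc23 yc26 zc36) (kc xc25 yc21 zc52) (kc xc11 yc16 zc13) (kc xc21 yc52 zc9) (kc xc16 yc36 zc5) (kc xc29 yc21 zc43) (kc xc27 yc42 zc53) (kc xc29 yc21 zc44) (kc xc11 yc16 zc28) (kc xc27 yc22 zc51) (kc xc11 yc16 zc17) (kc xc11 yc16 zc19) (kc xc11 yc16 zc30) (kc xc11 yc16 zc22) (kc xc11 yc16 zc23) (kc xc20 yc22 zc17) (kc xc18 yc48 zc35) (kc xc17 yc22 zc39) (kc xc25 yc17 zc45) (kc xc22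 yc5 zc2) (kc xc26 yc23 zc19) (kc xc29 yc21 zc46) (kc xc26 yc50 zc1) (kc xc16 yc43 zc44) (kc xc11 yc16 zc37) (kc xc11 yc16 zc34) (kc xc26 yc41 zc61) (kc xc11 yc16 zc35) (kc xc11 yc16 zc36) (kc xc11 yc39 zc21) (kc xc11 yc24 zc16) (kc xc13 yc47 zc14) (kc xc20 yc35 zc46) (kc xc17 yc54 zc61) (kc xc16 yc51 zc29) (kc xc29 yc21 zc50) (kc xc16 yc52 zc7) (kc xc14 yc8 zc42) (kc xc17 yc55 zc24) (kc xc28 yc45 zc41) (kc xc28 yc45 zc43) (kc xc26 yc5 zc37) (kc xc20 yc0 zc1) (kc xc20 yc0 zc16) (kc xc18 yc1 zc40) (kc xc11 yc16 zc58) (kc xc12 yc46 zc61) (kc xc11 yc16 zc59) (kc xc29 yc21 zc51) (kc xc21 yc41 zc9) (kc xc11 yc24 zc39) (kc xc19 yc35 zc43) (kc xc11 yc24 zc36)) (@D3.rec (fun _ => Pt) (kc xc23 yc23 zc17) (kc xc11 yc24 zc33) (kc xc12 yc22 zc19) (kc xc29 yc21 zc56) (kc xc21 yc3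 zc57) (kc xc22 yc40 zc23) (kc xc19 yc58 zc39) (kc xc18 yc52 zc16) (kc xc12 yc13 zc23) (kc xc29 yc21 zc57) (kc xc21 yc59 zc15) (kc xc13 yc53 zc21) (kc xc23 yc36 zc19) (kc xc11 yc17 zc10) (kc xc19 yc39 zc44) (kc xc24 yc33 zc15) (kc xc24 yc32 zc6) (kc xc18 yc37 zc55) (kc xc17 yc55 zc15) (kc xc17 yc55 zc16) (kc xc11 yc17 zc15) (kc xc23 yc24 zc27) (kc xc20 yc1 zc15) (kc xc24 yc53 zc19) (kc xc16 yc30 zc40) (kc xc23 yc34 zc46) (kc xc24 yc54 zc21) (kc xc11 yc17 zc36) (kc xc29 yc22 zc0) (kc xc11 yc17 zc38) (kc xc18 yc49 zc40) (kc xc16 yc51 zc36) (kc xc16 yc51 zc37) (kc xc25 yc46 zc32) (kc xc11 yc17 zc26) (kc xc14 yc3 zc58) (kc xc11 yc17 zc25) (kc xc29 yc22 zc6) (kc xc11 yc27 zc2) (kc xc11 yc17 zc30) (kc xc23 yc24 zc28) (kc xc16 yc23 zc35) (kc xc24 yc30 zc33) (kc xc29 yc21 zc61)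 (kc xc24 yc31 zc23) (kc xc16 yc31 zc39) (kc xc29 yc22 zc8) (kc xc29 yc22 zc2) (kc xc19 yc5 zc51) (kc xc11 yc17 zc40) (kc xc12 yc46 zc1) (kc xc14 yc46 zc0) (kc xc18 yc2 zc7) (kc xc11 yc17 zc42) (kc xc18 yc46 zc16) (kc xc11 yc17 zc46) (kc xc11 yc17 zc45) (kc xc11 yc17 zc47) (kc xc22 yc46 zc39) (kc xc21 yc16 zc18) (kc xc11 yc22 zc16) (kc xc11 yc17 zc49)) (@D3.rec (fun _ => Pt) (kc xc23 yc42 zc34) (kc xc11 yc17 zc51) (kc xc17 yc54 zc58) (kc xc16 yc49 zc39) (kc xc20 yc30 zc46) (kc xc20 yc30 zc45) (kc xc20 yc18 zc21) (kc xc20 yc15 zc48) (kc xc16 yc49 zc46) (kc xc14 yc34 zc1) (kc xc11 yc17 zc61) (kc xc11 yc17 zc59) (kc xc29 yc22 zc14) (kc xc27 yc20 zc20) (kc xc11 yc17 zc60) (kc xc17 yc11 zc19) (kc xc23 yc23 zc18) (kc xc11 yc36 zc49) (kc xc11 yc18 zc7) (kc xc15 yc47 zc49) (kc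 xc20 yc10 zc6) (kc xc11 yc33 zc32) (kc xc11 yc18 zc8) (kc xc15 yc47 zc48) (kc xc11 yc33 zc34) (kc xc28 yc31 zc17) (kc xc26 yc50 zc44) (kc xc17 yc42 zc20) (kc xc11 yc18 zc10) (kc xc27 yc4 zc18) (kc xc29 yc22 zc21) (kc xc23 yc47 zc49) (kc xc26 yc34 zc9) (kc xc26 yc50 zc46) (kc xc25 yc41 zc18) (kc xc24 yc14 zc50) (kc xc11 yc58 zc38) (kc xc28 yc48 zc44) (kc xc11 yc24 zc29) (kc xc29 yc20 zc3) (kc xc11 yc18 zc16) (kc xc22 yc21 zc45) (kc xc14 yc46 zc36) (kc xc13 yc11 zc14) (kc xc28 yc53 zc5) (kc xc11 yc18 zc17) (kc xc11 yc46 zc36) (kc xc11 yc18 zc19) (kc xc24 yc12 zc37) (kc xc21 yc15 zc21) (kc xc20 yc16 zc35) (kc xc23 yc12 zc61) (kc xc12 yc44 zc47) (kc xc14 yc11 zc35) (kc xc20 yc48 zc19) (kc xc11 yc18 zc25) (kc xc21 yc42 zc35) (kc xc25 yc49 zc46) (kc xc14 yc2 zc17) (kc xc26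 yc44 zc49) (kc xc11 yc18 zc29) (kc xc20 yc5 zc45)) (@D3.rec (fun _ => Pt) (kc xc22 yc2 zc55) (kc xc11 yc55 zc44) (kc xc20 yc34 zc61) (kc xc22 yc23 zc51) (kc xc15 yc35 zc19) (kc xc21 yc55 zc32) (kc xc29 yc22 zc36) (kc xc21 yc49 zc12) (kc xc12 yc59 zc46) (kc xc11 yc18 zc37) (kc xc20 yc40 zc49) (kc xc16 yc51 zc32) (kc xc11 yc18 zc38) (kc xc17 yc27 zc12) (kc xc24 yc39 zc54) (kc xc22 yc36 zc61) (kc xc26 yc51 zc6) (kc xc20 yc40 zc38) (kc xc11 yc18 zc43) (kc xc11 yc18 zc42) (kc xc20 yc31 zc60) (kc xc11 yc18 zc46) (kc xc11 yc18 zc45) (kc xc11 yc18 zc47) (kc xc18 yc1 zc56) (kc xc18 yc1 zc57) (kc xc29 yc22 zc28) (kc xc14 yc34 zc2) (kc xc11 yc18 zc49) (kc xc20 yc15 zc45) (kc xc21 yc53 zc58) (kc xc23 yc8 zc55) (kc xc11 yc18 zc53) (kc xc21 yc49 zc56) (kc xc21 yc46 zc57) (kc xc21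 yc46 zc59) (kc xc14 yc49 zc58) (kc xc11 yc18 zc55) (kc xc12 yc4 zc24) (kc xc17 yc11 zc26) (kc xc11 yc18 zc59) (kc xc17 yc0 zc61) (kc xc11 yc19 zc0) (kc xc27 yc13 zc0) (kc xc11 yc19 zc1) (kc xc20 yc15 zc29) (kc xc29 yc19 zc0) (kc xc11 yc19 zc4) (kc xc20 yc14 zc7) (kc xc11 yc19 zc8) (kc xc25 yc44 zc36) (kc xc11 yc19 zc7) (kc xc16 yc54 zc7) (kc xc20 yc18 zc37) (kc xc21 yc4 zc9) (kc xc24 yc32 zc33) (kc xc24 yc32 zc32) (kc xc12 yc39 zc31) (kc xc21 yc18 zc44) (kc xc25 yc38 zc25) (kc xc15 yc8 zc43) (kc xc21 yc56 zc30)) (@D3.rec (fun _ => Pt) (kc xc17 yc56 zc35) (kc xc29 yc22 zc56) (kc xc11 yc21 zc44) (kc xc26 yc3 zc9) (kc xc21 yc10 zc16) (kc xc11 yc19 zc34) (kc xc11 yc19 zc26) (kc xc15 yc45 zc4) (kc xc21 yc8 zc54) (kc xc18 yc36 zc13) (kc xc11 yc19 zc27) (kc xc15 yc16 zc43)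 (kc xc27 yc11 zc11) (kc xc15 yc45 zc60) (kc xc11 yc19 zc28) (kc xc11 yc55 zc33) (kc xc11 yc26 zc21) (kc xc11 yc19 zc31) (kc xc18 yc7 zc19) (kc xc14 yc3 zc22) (kc xc14 yc55 zc59) (kc xc15 yc41 zc27) (kc xc15 yc41 zc26) (kc xc15 yc44 zc26) (kc xc29 yc23 zc1) (kc xc11 yc19 zc38) (kc xc11 yc19 zc36) (kc xc29 yc1 zc20) (kc xc14 yc52 zc43) (kc xc11 yc19 zc37) (kc xc24 yc14 zc49) (kc xc13 yc37 zc2) (kc xc20 yc45 zc36) (kc xc11 yc19 zc39) (kc xc24 yc22 zc32) (kc xc20 yc14 zc50) (kc xc26 yc49 zc4) (kc xc11 yc46 zc27) (kc xc11 yc19 zc42) (kc xc13 yc12 zc2) (kc xc15 yc55 zc31) (kc xc11 yc19 zc41) (kc xc29 yc23 zc9) (kc xc11 yc20 zc5) (kc xc11 yc24 zc25) (kc xc11 yc58 zc39) (kc xc11 yc46 zc31) (kc xc11 yc19 zc45) (kc xc11 yc20 zc17) (kc xc14 yc46 zc35) (kc xc29 yc10 zc21) (kc xc11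 yc19 zc47) (kc xc11 yc46 zc15) (kc xc29 yc23 zc11) (kc xc11 yc46 zc23) (kc xc11 yc47 zc3) (kc xc11 yc47 zc24) (kc xc11 yc43 zc30) (kc xc11 yc19 zc50) (kc xc28 yc21 zc59) (kc xc13 yc24 zc13) (kc xc11 yc19 zc54)) (@D3.rec (fun _ => Pt) (kc xc18 yc1 zc1) (kc xc11 yc19 zc61) (kc xc18 yc40 zc15) (kc xc27 yc41 zc5) (kc xc11 yc19 zc58) (kc xc28 yc6 zc40) (kc xc22 yc23 zc50) (kc xc29 yc23 zc20) (kc xc13 yc54 zc49) (kc xc24 yc32 zc19) (kc xc24 yc34 zc54) (kc xc11 yc20 zc0) (kc xc29 yc23 zc21) (kc xc20 yc22 zc14) (kc xc11 yc20 zc7) (kc xc20 yc28 zc8) (kc xc17 yc58 zc36) (kc xc21 yc22 zc3) (kc xc11 yc46 zc33) (kc xc11 yc20 zc9) (kc xc20 yc27 zc9) (kc xc18 yc56 zc31) (kc xc11 yc20 zc13) (kc xc19 yc23 zc12) (kc xc19 yc23 zc11) (kc xc19 yc0 zc33) (kc xc18 yc56 zc9) (kc xc21 yc38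 zc8) (kc xc21 yc29 zc11) (kc xc29 yc23 zc24) (kc xc22 yc47 zc15) (kc xc11 yc20 zc14) (kc xc13 yc10 zc39) (kc xc11 yc20 zc19) (kc xc24 yc12 zc32) (kc xc11 yc46 zc34) (kc xc23 yc25 zc13) (kc xc23 yc37 zc40) (kc xc23 yc42 zc43) (kc xc21 yc42 zc13) (kc xc11 yc20 zc23) (kc xc19 yc39 zc35) (kc xc11 yc20 zc24) (kc xc23 yc10 zc48) (kc xc29 yc23 zc28) (kc xc11 yc20 zc27) (kc xc19 yc47 zc1) (kc xc11 yc20 zc28) (kc xc29 yc23 zc32) (kc xc11 yc20 zc29) (kc xc19 yc45 zc14) (kc xc11 yc32 zc16) (kc xc11 yc22 zc58) (kc xc26 yc11 zc28) (kc xc29 yc15 zc4) (kc xc29 yc15 zc3) (kc xc11 yc20 zc33) (kc xc24 yc16 zc10) (kc xc29 yc23 zc40) (kc xc18 yc2 zc0) (kc xc20 yc29 zc15) (kc xc20 yc26 zc37)) (@D3.rec (fun _ => Pt) (kc xc20 yc26 zc35) (kc xc20 yc29 zc18) (kc xc11 yc20 zc37) (kc xc22 yc55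 zc18) (kc xc20 yc40 zc7) (kc xc21 yc11 zc21) (kc xc19 yc19 zc49) (kc xc18 yc2 zc22) (kc xc11 yc22 zc61) (kc xc29 yc23 zc53) (kc xc20 yc43 zc59) (kc xc17 yc0 zc58) (kc xc29 yc23 zc57) (kc xc11 yc20 zc43) (kc xc29 yc19 zc15) (kc xc16 yc49 zc45) (kc xc23 yc35 zc19) (kc xc26 yc48 zc42) (kc xc16 yc27 zc47) (kc xc29 yc24 zc0) (kc xc19 yc25 zc46) (kc xc20 yc14 zc6) (kc xc11 yc20 zc51) (kc xc19 yc1 zc35) (kc xc25 yc29 zc21) (kc xc11 yc20 zc52) (kc xc20 yc52 zc49) (kc xc16 yc28 zc55) (kc xc16 yc53 zc10) (kc xc20 yc33 zc31) (kc xc11 yc20 zc54) (kc xc26 yc49 zc55) (kc xc29 yc19 zc6) (kc xc29 yc24 zc13) (kc xc29 yc19 zc14) (kc xc11 yc20 zc55) (kc xc20 yc6 zc47) (kc xc20 yc15 zc53) (kc xc11 yc20 zc56) (kc xc20 yc30 zc60) (kc xc29 yc24 zc15) (kc xc20 yc32 zc1) (kc xc20 yc32 zc0)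 (kc xc11 yc20 zc57) (kc xc28 yc7 zc55) (kc xc20 yc29 zc61) (kc xc11 yc21 zc0) (kc xc11 yc20 zc61) (kc xc29 yc0 zc31) (kc xc28 yc46 zc21) (kc xc29 yc14 zc43) (kc xc11 yc21 zc4) (kc xc14 yc20 zc22) (kc xc17 yc15 zc9) (kc xc25 yc34 zc48) (kc xc11 yc21 zc7) (kc xc26 yc55 zc40) (kc xc18 yc12 zc45) (kc xc11 yc21 zc14) (kc xc11 yc21 zc15) (kc xc23 yc10 zc40) (kc xc21 yc30 zc42)) (@D3.rec (fun _ => Pt) (kc xc20 yc0 zc58) (kc xc11 yc21 zc20) (kc xc18 yc44 zc9) (kc xc11 yc21 zc21) (kc xc29 yc24 zc22) (kc xc11 yc23 zc51) (kc xc16 yc52 zc8) (kc xc19 yc8 zc8) (kc xc18 yc12 zc39) (kc xc22 yc7 zc59) (kc xc11 yc21 zc29) (kc xc11 yc21 zc31) (kc xc11 yc47 zc18) (kc xc11 yc21 zc34) (kc xc21 yc6 zc49) (kc xc19 yc34 zc21) (kc xc19 yc34 zc20) (kc xc21 yc37 zc24) (kc xc15 yc42 zc29) (kc xc15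 yc42 zc30) (kc xc29 yc24 zc27) (kc xc15 yc56 zc49) (kc xc11 yc21 zc41) (kc xc29 yc24 zc28) (kc xc11 yc21 zc42) (kc xc12 yc58 zc36) (kc xc11 yc21 zc43) (kc xc20 yc20 zc25) (kc xc15 yc30 zc46) (kc xc15 yc48 zc12) (kc xc26 yc21 zc61) (kc xc11 yc21 zc47) (kc xc11 yc22 zc15) (kc xc29 yc24 zc29) (kc xc11 yc22 zc0) (kc xc11 yc21 zc52) (kc xc11 yc21 zc53) (kc xc11 yc21 zc55) (kc xc11 yc21 zc58) (kc xc20 yc19 zc53) (kc xc16 yc58 zc12) (kc xc20 yc41 zc21) (kc xc11 yc21 zc61) (kc xc26 yc53 zc4) (kc xc11 yc22 zc4) (kc xc20 yc45 zc51) (kc xc11 yc22 zc14) (kc xc14 yc10 zc44) (kc xc11 yc22 zc6) (kc xc11 yc27 zc18) (kc xc11 yc22 zc11) (kc xc11 yc22 zc8) (kc xc11 yc22 zc10) (kc xc20 yc19 zc39) (kc xc12 yc32 zc26) (kc xc12 yc6 zc51) (kc xc18 yc25 zc57) (kc xc26 yc33 zc4) (kc xc21 yc18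 zc40) (kc xc13 yc54 zc35) (kc xc11 yc22 zc19) (kc xc16 yc27 zc37)) (@D3.rec (fun _ => Pt) (kc xc23 yc4 zc8) (kc xc20 yc34 zc44) (kc xc11 yc22 zc24) (kc xc11 yc22 zc23) (kc xc22 yc16 zc13) (kc xc21 yc29 zc0) (kc xc11 yc22 zc25) (kc xc11 yc37 zc24) (kc xc20 yc50 zc53) (kc xc26 yc45 zc5) (kc xc26 yc58 zc10) (kc xc11 yc22 zc27) (kc xc18 yc41 zc17) (kc xc27 yc9 zc1) (kc xc20 yc1 zc30) (kc xc29 yc24 zc42) (kc xc11 yc22 zc29) (kc xc11 yc22 zc30) (kc xc29 yc6 zc9) (kc xc27 yc14 zc5) (kc xc27 yc44 zc12) (kc xc16 yc31 zc6) (kc xc11 yc22 zc32) (kc xc13 yc21 zc40) (kc xc11 yc22 zc33) (kc xc20 yc19 zc27) (kc xc11 yc22 zc35) (kc xc11 yc22 zc41) (kc xc18 yc54 zc56) (kc xc11 yc22 zc40) (kc xc20 yc59 zc51) (kc xc11 yc22 zc49) (kc xc13 yc24 zc46) (kc xc26 yc48 zc29) (kc xc11 yc22 zc51)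 (kc xc11 yc22 zc53) (kc xc14 yc48 zc39) (kc xc17 yc9 zc51) (kc xc29 yc24 zc48) (kc xc15 yc30 zc48) (kc xc29 yc24 zc49) (kc xc25 yc26 zc21) (kc xc21 yc11 zc28) (kc xc11 yc22 zc59) (kc xc26 yc40 zc61) (kc xc28 yc44 zc57) (kc xc11 yc23 zc3) (kc xc11 yc30 zc4) (kc xc23 yc31 zc13) (kc xc17 yc2 zc46) (kc xc11 yc23 zc8) (kc xc12 yc4 zc38) (kc xc11 yc23 zc7) (kc xc26 yc18 zc38) (kc xc27 yc53 zc52) (kc xc11 yc23 zc37) (kc xc20 yc11 zc2) (kc xc27 yc10 zc39) (kc xc11 yc23 zc15) (kc xc12 yc38 zc23) (kc xc24 yc53 zc50) (kc xc17 yc57 zc0)) (@D3.rec (fun _ => Pt) (kc xc11 yc23 zc20) (kc xc29 yc24 zc56) (kc xc28 yc7 zc26) (kc xc29 yc24 zc51) (kc xc27 yc49 zc11) (kc xc24 yc46 zc9) (kc xc11 yc23 zc25) (kc xc24 yc48 zc8) (kc xc29 yc25 zc2) (kc xc29 yc25 zc1) (kc xc17 yc49 zc32) (kc xc11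 yc23 zc29) (kc xc27 yc33 zc18) (kc xc27 yc33 zc12) (kc xc27 yc50 zc15) (kc xc18 yc54 zc2) (kc xc11 yc23 zc31) (kc xc29 yc25 zc6) (kc xc29 yc25 zc7) (kc xc29 yc25 zc5) (kc xc12 yc6 zc36) (kc xc19 yc12 zc37) (kc xc27 yc51 zc50) (kc xc27 yc32 zc7) (kc xc29 yc24 zc54) (kc xc19 yc1 zc39) (kc xc20 yc11 zc0) (kc xc12 yc7 zc15) (kc xc11 yc23 zc40) (kc xc29 yc25 zc15) (kc xc29 yc25 zc16) (kc xc18 yc33 zc27) (kc xc11 yc23 zc42) (kc xc26 yc31 zc28) (kc xc28 yc17 zc12) (kc xc11 yc23 zc45) (kc xc29 yc25 zc19) (kc xc27 yc33 zc16) (kc xc27 yc49 zc42) (kc xc15 yc3 zc61) (kc xc17 yc54 zc59) (kc xc29 yc20 zc26) (kc xc17 yc54 zc57) (kc xc21 yc51 zc44) (kc xc26 yc4 zc3) (kc xc11 yc24 zc6) (kc xc25 yc54 zc37) (kc xc27 yc51 zc24) (kc xc11 yc23 zc54) (kc xc28 yc22 zc42) (kc xc11 yc23 zc57)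 (kc xc16 yc54 zc8) (kc xc20 yc11 zc26) (kc xc25 yc53 zc14) (kc xc29 yc18 zc9) (kc xc11 yc24 zc4) (kc xc14 yc7 zc40) (kc xc29 yc25 zc33) (kc xc11 yc24 zc5) (kc xc20 yc11 zc28) (kc xc21 yc18 zc19) (kc xc11 yc40 zc12)) (@D3.rec (fun _ => Pt) (kc xc11 yc24 zc17) (kc xc11 yc24 zc14) (kc xc26 yc59 zc4) (kc xc23 yc47 zc0) (kc xc19 yc59 zc61) (kc xc20 yc40 zc40) (kc xc13 yc9 zc61) (kc xc20 yc40 zc31) (kc xc20 yc31 zc12) (kc xc17 yc7 zc57) (kc xc20 yc45 zc31) (kc xc17 yc6 zc12) (kc xc11 yc40 zc37) (kc xc11 yc24 zc26) (kc xc20 yc17 zc13) (kc xc20 yc11 zc43) (kc xc22 yc2 zc53) (kc xc20 yc12 zc24) (kc xc12 yc46 zc5) (kc xc12 yc46 zc4) (kc xc29 yc21 zc52) (kc xc16 yc3 zc14) (kc xc22 yc12 zc2) (kc xc11 yc24 zc38) (kc xc12 yc45 zc16) (kc xc20 yc25 zc18) (kc xc12 yc9 zc52) (kc xc17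 yc57 zc57) (kc xc11 yc24 zc46) (kc xc14 yc20 zc20) (kc xc17 yc22 zc41) (kc xc20 yc27 zc49) (kc xc17 yc1 zc31) (kc xc21 yc0 zc34) (kc xc23 yc58 zc7) (kc xc20 yc37 zc43) (kc xc18 yc25 zc43) (kc xc20 yc47 zc2) (kc xc25 yc11 zc31) (kc xc14 yc11 zc15) (kc xc20 yc24 zc1) (kc xc21 yc7 zc18) (kc xc12 yc23 zc27) (kc xc11 yc38 zc43) (kc xc11 yc36 zc57) (kc xc20 yc38 zc35) (kc xc22 yc38 zc28) (kc xc18 yc25 zc20) (kc xc17 yc50 zc28) (kc xc17 yc3 zc2) (kc xc26 yc55 zc6) (kc xc18 yc10 zc56) (kc xc13 yc22 zc9) (kc xc12 yc9 zc44) (kc xc18 yc0 zc10) (kc xc17 yc9 zc57) (kc xc17 yc9 zc60) (kc xc17 yc9 zc42) (kc xc17 yc6 zc6) (kc xc17 yc9 zc36) (kc xc21 yc20 zc26) (kc xc20 yc26 zc56)) (@D3.rec (fun _ => Pt) (kc xc12 yc53 zc39) (kc xc12 yc43 zc43) (kc xc28 yc58 zc17) (kc xc11 yc59 zc1)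 (kc xc29 yc0 zc0) (kc xc11 yc59 zc0) (kc xc29 yc0 zc1) (kc xc29 yc0 zc2) (kc xc11 yc25 zc39) (kc xc20 yc2 zc13) (kc xc29 yc25 zc49) (kc xc11 yc25 zc43) (kc xc11 yc25 zc42) (kc xc29 yc25 zc45) (kc xc24 yc3 zc13) (kc xc12 yc27 zc27) (kc xc11 yc58 zc3) (kc xc21 yc8 zc21) (kc xc21 yc1 zc31) (kc xc26 yc11 zc33) (kc xc24 yc25 zc24) (kc xc29 yc25 zc51) (kc xc29 yc25 zc53) (kc xc29 yc25 zc55) (kc xc11 yc25 zc51) (kc xc29 yc25 zc59) (kc xc11 yc25 zc54) (kc xc20 yc34 zc38) (kc xc11 yc25 zc56) (kc xc29 yc22 zc3) (kc xc11 yc25 zc57) (kc xc17 yc7 zc38) (kc xc11 yc25 zc58) (kc xc15 yc29 zc38) (kc xc20 yc2 zc1) (kc xc24 yc19 zc10) (kc xc23 yc7 zc21) (kc xc22 yc11 zc9) (kc xc18 yc31 zc23) (kc xc11 yc26 zc7) (kc xc16 yc40 zc25) (kc xc16 yc36 zc29) (kc xc25 yc18 zc19) (kc xc29 yc26 zc8)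 (kc xc29 yc26 zc9) (kc xc29 yc26 zc11) (kc xc11 yc26 zc11) (kc xc20 yc48 zc15) (kc xc11 yc26 zc13) (kc xc29 yc26 zc16) (kc xc29 yc26 zc18) (kc xc11 yc26 zc14) (kc xc20 yc41 zc61) (kc xc16 yc48 zc32) (kc xc11 yc26 zc15) (kc xc17 yc1 zc27) (kc xc21 yc52 zc38) (kc xc24 yc12 zc1) (kc xc12 yc52 zc2) (kc xc14 yc39 zc47) (kc xc11 yc26 zc17) (kc xc26 yc46 zc26)) (@D3.rec (fun _ => Pt) (kc xc29 yc6 zc8) (kc xc20 yc22 zc40) (kc xc19 yc53 zc5) (kc xc13 yc6 zc51) (kc xc29 yc26 zc33) (kc xc29 yc26 zc34) (kc xc11 yc26 zc23) (kc xc29 yc26 zc35) (kc xc11 yc26 zc25) (kc xc11 yc26 zc26) (kc xc20 yc45 zc49) (kc xc20 yc50 zc49) (kc xc26 yc59 zc16) (kc xc29 yc26 zc32) (kc xc11 yc26 zc28) (kc xc21 yc33 zc6) (kc xc26 yc46 zc36) (kc xc21 yc9 zc3) (kc xc23 yc45 zc59) (kc xc11 yc26 zc32) (kc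 xc28 yc39 zc52) (kc xc19 yc6 zc43) (kc xc29 yc26 zc31) (kc xc11 yc26 zc35) (kc xc21 yc29 zc9) (kc xc29 yc22 zc4) (kc xc17 yc7 zc37) (kc xc11 yc26 zc37) (kc xc29 yc9 zc4) (kc xc29 yc13 zc61) (kc xc17 yc31 zc35) (kc xc17 yc31 zc27) (kc xc26 yc3 zc56) (kc xc29 yc26 zc25) (kc xc11 yc26 zc40) (kc xc11 yc26 zc39) (kc xc22 yc3 zc30) (kc xc22 yc3 zc37) (kc xc16 yc41 zc35) (kc xc11 yc26 zc43) (kc xc24 yc27 zc59) (kc xc27 yc44 zc44) (kc xc27 yc21 zc11) (kc xc28 yc44 zc24) (kc xc11 yc26 zc46) (kc xc29 yc25 zc58) (kc xc18 yc0 zc16) (kc xc21 yc35 zc50) (kc xc17 yc12 zc61) (kc xc11 yc26 zc58) (kc xc11 yc26 zc56) (kc xc12 yc47 zc10) (kc xc27 yc36 zc25) (kc xc19 yc49 zc59) (kc xc12 yc32 zc16) (kc xc29 yc26 zc51) (kc xc11 yc27 zc0) (kc xc24 yc2 zc18) (kc xc29 yc26 zc55) (kc xc21 yc38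 zc15) (kc xc29 yc26 zc56) (kc xc25 yc47 zc60)) (@D3.rec (fun _ => Pt) (kc xc11 yc27 zc3) (kc xc14 yc32 zc28) (kc xc11 yc27 zc4) (kc xc11 yc27 zc5) (kc xc29 yc26 zc59) (kc xc15 yc4 zc30) (kc xc11 yc27 zc9) (kc xc13 yc23 zc23) (kc xc26 yc49 zc59) (kc xc19 yc11 zc43) (kc xc29 yc8 zc51) (kc xc11 yc27 zc12) (kc xc11 yc27 zc13) (kc xc19 yc32 zc41) (kc xc11 yc27 zc14) (kc xc28 yc48 zc43) (kc xc28 yc14 zc51) (kc xc21 yc44 zc50) (kc xc20 yc22 zc25) (kc xc17 yc31 zc46) (kc xc13 yc45 zc18) (kc xc11 yc27 zc22) (kc xc11 yc27 zc23) (kc xc17 yc4 zc44) (kc xc24 yc23 zc25) (kc xc15 yc8 zc4) (kc xc11 yc27 zc30) (kc xc20 yc50 zc44) (kc xc17 yc33 zc6) (kc xc23 yc7 zc2) (kc xc11 yc27 zc42) (kc xc26 yc57 zc15) (kc xc19 yc51 zc16) (kc xc23 yc53 zc20) (kc xc19 yc57 zc33) (kc xc11 yc27 zc51)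 (kc xc11 yc27 zc52) (kc xc11 yc27 zc55) (kc xc13 yc45 zc47) (kc xc13 yc33 zc32) (kc xc17 yc43 zc17) (kc xc14 yc48 zc2) (kc xc21 yc29 zc52) (kc xc14 yc40 zc8) (kc xc19 yc24 zc21) (kc xc18 yc50 zc39) (kc xc21 yc16 zc17) (kc xc14 yc22 zc38) (kc xc11 yc28 zc10) (kc xc13 yc23 zc26) (kc xc19 yc24 zc17) (kc xc29 yc27 zc11) (kc xc17 yc56 zc57) (kc xc11 yc43 zc0) (kc xc19 yc34 zc25) (kc xc26 yc41 zc42) (kc xc11 yc35 zc3) (kc xc20 yc26 zc10) (kc xc11 yc41 zc8) (kc xc11 yc28 zc38) (kc xc29 yc0 zc42) (kc xc17 yc11 zc22)) (@D3.rec (fun _ => Pt) (kc xc24 yc2 zc16) (kc xc17 yc11 zc42) (kc xc17 yc20 zc43) (kc xc12 yc15 zc1) (kc xc11 yc49 zc54) (kc xc18 yc1 zc41) (kc xc12 yc17 zc47) (kc xc11 yc45 zc44) (kc xc20 yc46 zc29) (kc xc21 yc15 zc45) (kc xc20 yc25 zc57) (kc xc18 yc43 zc51) (kc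 xc11 yc28 zc59) (kc xc24 yc19 zc0) (kc xc26 yc2 zc58) (kc xc11 yc29 zc0) (kc xc17 yc45 zc27) (kc xc13 yc10 zc40) (kc xc14 yc7 zc56) (kc xc14 yc1 zc60) (kc xc17 yc23 zc1) (kc xc16 yc17 zc37) (kc xc23 yc22 zc44) (kc xc11 yc29 zc16) (kc xc27 yc41 zc12) (kc xc17 yc23 zc3) (kc xc11 yc29 zc17) (kc xc12 yc53 zc22) (kc xc12 yc53 zc23) (kc xc23 yc59 zc15) (kc xc26 yc54 zc60) (kc xc22 yc7 zc56) (kc xc26 yc53 zc27) (kc xc17 yc1 zc44) (kc xc20 yc42 zc13) (kc xc20 yc18 zc0) (kc xc20 yc49 zc59) (kc xc20 yc17 zc61) (kc xc20 yc29 zc17) (kc xc26 yc53 zc26) (kc xc23 yc29 zc14) (kc xc22 yc21 zc12) (kc xc29 yc27 zc28) (kc xc20 yc41 zc43) (kc xc11 yc29 zc35) (kc xc29 yc27 zc31) (kc xc11 yc38 zc31) (kc xc16 yc59 zc37) (kc xc17 yc22 zc48) (kc xc19 yc27 zc54) (kc xc14 yc20 zc15) (kc xc21 yc30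 zc19) (kc xc14 yc26 zc19) (kc xc29 yc0 zc50) (kc xc17 yc32 zc42) (kc xc29 yc27 zc34) (kc xc20 yc22 zc61) (kc xc20 yc3 zc23) (kc xc29 yc27 zc36) (kc xc25 yc13 zc50) (kc xc29 yc27 zc37) (kc xc12 yc15 zc27)) (@D3.rec (fun _ => Pt) (kc xc11 yc29 zc52) (kc xc29 yc17 zc21) (kc xc11 yc29 zc55) (kc xc18 yc48 zc19) (kc xc12 yc2 zc23) (kc xc27 yc21 zc13) (kc xc12 yc2 zc26) (kc xc25 yc25 zc8) (kc xc24 yc48 zc20) (kc xc20 yc17 zc20) (kc xc14 yc26 zc11) (kc xc15 yc0 zc53) (kc xc17 yc12 zc19) (kc xc29 yc27 zc40) (kc xc28 yc6 zc53) (kc xc11 yc30 zc1) (kc xc27 yc54 zc43) (kc xc17 yc58 zc21) (kc xc27 yc12 zc7) (kc xc25 yc15 zc28) (kc xc28 yc57 zc33) (kc xc18 yc11 zc57) (kc xc11 yc30 zc9) (kc xc27 yc35 zc8) (kc xc26 yc49 zc25) (kc xc11 yc30 zc12) (kc xc16 yc54 zc45) (kc xc14 yc39 zc28)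 (kc xc16 yc59 zc41) (kc xc19 yc15 zc3) (kc xc12 yc43 zc6) (kc xc20 yc5 zc28) (kc xc11 yc30 zc21) (kc xc18 yc17 zc8) (kc xc22 yc6 zc47) (kc xc12 yc33 zc56) (kc xc13 yc53 zc18) (kc xc20 yc45 zc28) (kc xc20 yc45 zc29) (kc xc14 yc57 zc8) (kc xc20 yc46 zc42) (kc xc22 yc11 zc16) (kc xc20 yc40 zc43) (kc xc22 yc11 zc17) (kc xc20 yc37 zc35) (kc xc12 yc31 zc23) (kc xc23 yc38 zc4) (kc xc11 yc30 zc35) (kc xc24 yc47 zc22) (kc xc20 yc22 zc31) (kc xc16 yc55 zc28) (kc xc14 yc44 zc27) (kc xc21 yc30 zc34) (kc xc20 yc6 zc22) (kc xc11 yc30 zc54) (kc xc11 yc30 zc53) (kc xc24 yc47 zc41) (kc xc24 yc47 zc43) (kc xc24 yc31 zc2) (kc xc19 yc27 zc39) (kc xc11 yc31 zc1) (kc xc11 yc31 zc2)) (@D3.rec (fun _ => Pt) (kc xc26 yc51 zc27) (kc xc19 yc48 zc60) (kc xc29 yc27 zc47) (kc xc19 yc26 zc18) (kc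 xc16 yc46 zc2) (kc xc11 yc58 zc54) (kc xc14 yc23 zc47) (kc xc19 yc49 zc35) (kc xc20 yc17 zc15) (kc xc29 yc7 zc10) (kc xc11 yc31 zc31) (kc xc20 yc43 zc24) (kc xc27 yc42 zc33) (kc xc11 yc31 zc41) (kc xc29 yc27 zc50) (kc xc11 yc31 zc40) (kc xc26 yc57 zc3) (kc xc24 yc14 zc2) (kc xc20 yc43 zc48) (kc xc29 yc27 zc51) (kc xc13 yc44 zc31) (kc xc27 yc42 zc37) (kc xc29 yc27 zc52) (kc xc11 yc31 zc45) (kc xc13 yc2 zc48) (kc xc28 yc14 zc52) (kc xc11 yc31 zc47) (kc xc12 yc35 zc42) (kc xc18 yc43 zc39) (kc xc11 yc31 zc52) (kc xc27 yc0 zc50) (kc xc21 yc21 zc51) (kc xc21 yc49 zc11) (kc xc11 yc31 zc56) (kc xc11 yc31 zc59) (kc xc11 yc31 zc60) (kc xc17 yc8 zc34) (kc xc17 yc0 zc33) (kc xc14 yc26 zc30) (kc xc11 yc42 zc18) (kc xc22 yc43 zc42) (kc xc11 yc32 zc1) (kc xc29 yc24 zc4) (kc xc14 yc28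 zc18) (kc xc11 yc32 zc3) (kc xc20 yc31 zc23) (kc xc11 yc33 zc7) (kc xc11 yc33 zc8) (kc xc11 yc32 zc7) (kc xc28 yc28 zc16) (kc xc26 yc49 zc57) (kc xc26 yc55 zc0) (kc xc13 yc40 zc28) (kc xc11 yc32 zc9) (kc xc26 yc52 zc23) (kc xc13 yc40 zc27) (kc xc14 yc51 zc46) (kc xc11 yc32 zc13) (kc xc11 yc32 zc14) (kc xc17 yc32 zc61) (kc xc17 yc36 zc38) (kc xc19 yc26 zc34)) (@D3.rec (fun _ => Pt) (kc xc20 yc9 zc55) (kc xc14 yc2 zc54) (kc xc16 yc51 zc5) (kc xc11 yc32 zc20) (kc xc29 yc7 zc43) (kc xc16 yc39 zc2) (kc xc11 yc32 zc21) (kc xc28 yc50 zc6) (kc xc11 yc32 zc22) (kc xc17 yc32 zc55) (kc xc11 yc47 zc27) (kc xc11 yc42 zc22) (kc xc11 yc32 zc24) (kc xc21 yc36 zc3) (kc xc11 yc47 zc39) (kc xc20 yc17 zc60) (kc xc11 yc32 zc27) (kc xc20 yc26 zc38) (kc xc20 yc18 zc1) (kc xc16 yc1 zc59) (kc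 xc12 yc5 zc30) (kc xc29 yc28 zc20) (kc xc11 yc32 zc32) (kc xc29 yc8 zc28) (kc xc27 yc41 zc53) (kc xc11 yc32 zc33) (kc xc11 yc32 zc34) (kc xc28 yc13 zc9) (kc xc29 yc28 zc26) (kc xc28 yc51 zc43) (kc xc24 yc8 zc0) (kc xc11 yc32 zc36) (kc xc29 yc28 zc28) (kc xc11 yc32 zc38) (kc xc29 yc28 zc32) (kc xc29 yc28 zc34) (kc xc29 yc28 zc31) (kc xc29 yc28 zc37) (kc xc15 yc10 zc30) (kc xc17 yc57 zc25) (kc xc17 yc57 zc26) (kc xc11 yc32 zc43) (kc xc28 yc52 zc21) (kc xc11 yc32 zc41) (kc xc29 yc28 zc43) (kc xc25 yc34 zc27) (kc xc16 yc42 zc48) (kc xc27 yc49 zc53) (kc xc14 yc52 zc2) (kc xc19 yc8 zc33) (kc xc21 yc57 zc37) (kc xc26 yc54 zc23) (kc xc21 yc0 zc36) (kc xc13 yc24 zc56) (kc xc11 yc32 zc50) (kc xc23 yc58 zc21) (kc xc16 yc5 zc37) (kc xc11 yc32 zc51) (kc xc29 yc28 zc48) (kc xc11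 yc32 zc54) (kc xc11 yc34 zc18) (kc xc20 yc18 zc45)) (@D3.rec (fun _ => Pt) (kc xc16 yc55 zc13) (kc xc11 yc32 zc58) (kc xc11 yc32 zc60) (kc xc27 yc5 zc5) (kc xc20 yc47 zc42) (kc xc11 yc33 zc0) (kc xc21 yc13 zc55) (kc xc21 yc37 zc37) (kc xc11 yc33 zc58) (kc xc29 yc28 zc57) (kc xc11 yc33 zc6) (kc xc11 yc33 zc3) (kc xc29 yc28 zc60) (kc xc28 yc18 zc16) (kc xc11 yc33 zc4) (kc xc29 yc29 zc0) (kc xc20 yc30 zc21) (kc xc29 yc19 zc20) (kc xc11 yc33 zc5) (kc xc26 yc49 zc38) (kc xc29 yc28 zc3) (kc xc20 yc30 zc16) (kc xc11 yc34 zc0) (kc xc22 yc56 zc43) (kc xc23 yc5 zc11) (kc xc29 yc28 zc1) (kc xc29 yc28 zc2) (kc xc28 yc47 zc51) (kc xc24 yc10 zc21) (kc xc11 yc33 zc16) (kc xc29 yc2 zc54) (kc xc29 yc3 zc14) (kc xc19 yc41 zc46) (kc xc27 yc36 zc61) (kc xc29 yc29 zc10) (kc xc24 yc3 zc53)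 (kc xc14 yc8 zc57) (kc xc13 yc50 zc24) (kc xc24 yc47 zc19) (kc xc11 yc34 zc2) (kc xc11 yc33 zc27) (kc xc11 yc33 zc25) (kc xc15 yc0 zc31) (kc xc29 yc29 zc11) (kc xc16 yc32 zc39) (kc xc20 yc14 zc5) (kc xc20 yc14 zc4) (kc xc27 yc20 zc56) (kc xc11 yc33 zc33) (kc xc17 yc59 zc13) (kc xc17 yc59 zc14) (kc xc22 yc6 zc21) (kc xc11 yc33 zc39) (kc xc14 yc59 zc56) (kc xc16 yc25 zc29) (kc xc23 yc46 zc24) (kc xc29 yc8 zc20) (kc xc29 yc7 zc47) (kc xc24 yc47 zc40) (kc xc11 yc33 zc38) (kc xc20 yc18 zc39) (kc xc15 yc26 zc19)) (@D3.rec (fun _ => Pt) (kc xc15 yc26 zc20) (kc xc29 yc29 zc13) (kc xc11 yc35 zc51) (kc xc11 yc33 zc42) (kc xc24 yc5 zc34) (kc xc11 yc33 zc44) (kc xc11 yc33 zc45) (kc xc23 yc17 zc44) (kc xc29 yc29 zc20) (kc xc11 yc33 zc47) (kc xc26 yc56 zc39) (kc xc21 yc45 zc4) (kc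 xc20 yc22 zc8) (kc xc19 yc7 zc57) (kc xc11 yc33 zc52) (kc xc15 yc8 zc9) (kc xc17 yc0 zc18) (kc xc17 yc0 zc25) (kc xc17 yc0 zc26) (kc xc29 yc29 zc32) (kc xc11 yc33 zc60) (kc xc28 yc28 zc17) (kc xc29 yc28 zc55) (kc xc20 yc28 zc45) (kc xc11 yc33 zc59) (kc xc20 yc8 zc54) (kc xc13 yc42 zc22) (kc xc16 yc33 zc45) (kc xc15 yc26 zc36) (kc xc17 yc0 zc29) (kc xc26 yc55 zc26) (kc xc19 yc21 zc15) (kc xc12 yc9 zc35) (kc xc12 yc9 zc36) (kc xc27 yc46 zc23) (kc xc11 yc34 zc10) (kc xc12 yc46 zc35) (kc xc11 yc34 zc7) (kc xc20 yc32 zc54) (kc xc29 yc29 zc41) (kc xc11 yc34 zc8) (kc xc20 yc32 zc55) (kc xc29 yc29 zc43) (kc xc29 yc29 zc44) (kc xc11 yc34 zc9) (kc xc23 yc52 zc29) (kc xc12 yc9 zc10) (kc xc12 yc9 zc11) (kc xc28 yc23 zc55) (kc xc11 yc34 zc14) (kc xc27 yc10 zc40) (kc xc17 yc15 zc36)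 (kc xc12 yc51 zc10) (kc xc20 yc1 zc13) (kc xc29 yc28 zc49) (kc xc12 yc54 zc3) (kc xc17 yc34 zc43) (kc xc16 yc25 zc28) (kc xc11 yc34 zc21) (kc xc16 yc47 zc41) (kc xc20 yc15 zc20) (kc xc11 yc34 zc24)) (@D3.rec (fun _ => Pt) (kc xc20 yc18 zc42) (kc xc20 yc18 zc41) (kc xc29 yc29 zc50) (kc xc29 yc29 zc55) (kc xc25 yc11 zc42) (kc xc11 yc34 zc28) (kc xc11 yc34 zc27) (kc xc24 yc59 zc12) (kc xc29 yc29 zc51) (kc xc29 yc24 zc12) (kc xc29 yc8 zc37) (kc xc11 yc34 zc29) (kc xc29 yc7 zc16) (kc xc18 yc23 zc54) (kc xc11 yc34 zc30) (kc xc22 yc39 zc7) (kc xc29 yc29 zc59) (kc xc20 yc0 zc45) (kc xc22 yc31 zc48) (kc xc11 yc34 zc32) (kc xc29 yc29 zc61) (kc xc11 yc34 zc33) (kc xc29 yc30 zc0) (kc xc11 yc34 zc34) (kc xc23 yc32 zc37) (kc xc15 yc13 zc14) (kc xc15 yc26 zc24) (kc xc11 yc35 zc48)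 (kc xc11 yc34 zc36) (kc xc29 yc30 zc5) (kc xc22 yc42 zc10) (kc xc18 yc28 zc16) (kc xc11 yc35 zc47) (kc xc23 yc14 zc25) (kc xc22 yc42 zc8) (kc xc11 yc34 zc39) (kc xc22 yc17 zc46) (kc xc23 yc24 zc13) (kc xc11 yc34 zc41) (kc xc28 yc25 zc57) (kc xc28 yc26 zc5) (kc xc18 yc23 zc47) (kc xc26 yc57 zc47) (kc xc11 yc35 zc37) (kc xc26 yc57 zc46) (kc xc11 yc35 zc33) (kc xc26 yc3 zc21) (kc xc26 yc3 zc23) (kc xc16 yc28 zc5) (kc xc28 yc32 zc41) (kc xc11 yc35 zc25) (kc xc11 yc35 zc15) (kc xc25 yc18 zc36) (kc xc11 yc34 zc47) (kc xc20 yc31 zc38) (kc xc20 yc31 zc41) (kc xc12 yc53 zc16) (kc xc21 yc36 zc40) (kc xc27 yc41 zc7) (kc xc20 yc0 zc6) (kc xc19 yc23 zc58) (kc xc11 yc34 zc60)) (@D3.rec (fun _ => Pt) (kc xc21 yc20 zc34) (kc xc14 yc35 zc6) (kc xc17 yc17 zc3) (kc xc17 yc17 zc2) (kc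 xc18 yc24 zc21) (kc xc26 yc59 zc19) (kc xc11 yc35 zc10) (kc xc29 yc29 zc42) (kc xc24 yc31 zc15) (kc xc11 yc35 zc12) (kc xc21 yc2 zc39) (kc xc26 yc7 zc19) (kc xc29 yc30 zc14) (kc xc27 yc57 zc35) (kc xc29 yc28 zc50) (kc xc26 yc56 zc15) (kc xc23 yc9 zc61) (kc xc18 yc43 zc24) (kc xc18 yc43 zc25) (kc xc29 yc30 zc21) (kc xc11 yc35 zc19) (kc xc11 yc35 zc18) (kc xc24 yc25 zc37) (kc xc25 yc16 zc16) (kc xc11 yc35 zc22) (kc xc29 yc30 zc25) (kc xc23 yc33 zc10) (kc xc11 yc35 zc24) (kc xc13 yc51 zc2) (kc xc13 yc51 zc3) (kc xc23 yc17 zc43) (kc xc20 yc18 zc29) (kc xc17 yc26 zc40) (kc xc22 yc11 zc57) (kc xc18 yc25 zc3) (kc xc26 yc59 zc7) (kc xc15 yc26 zc42) (kc xc18 yc42 zc1) (kc xc21 yc7 zc50) (kc xc26 yc31 zc17) (kc xc24 yc5 zc26) (kc xc15 yc27 zc7) (kc xc15 yc27 zc8) (kc xc20 yc47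 zc50) (kc xc11 yc35 zc36) (kc xc11 yc35 zc35) (kc xc21 yc38 zc10) (kc xc28 yc26 zc23) (kc xc15 yc26 zc44) (kc xc14 yc43 zc20) (kc xc12 yc5 zc3) (kc xc27 yc5 zc12) (kc xc21 yc37 zc28) (kc xc21 yc3 zc10) (kc xc29 yc30 zc37) (kc xc21 yc6 zc54) (kc xc18 yc55 zc35) (kc xc29 yc30 zc42) (kc xc29 yc30 zc44) (kc xc11 yc35 zc46) (kc xc25 yc56 zc4) (kc xc22 yc48 zc7)) (@D3.rec (fun _ => Pt) (kc xc22 yc54 zc15) (kc xc29 yc30 zc47) (kc xc11 yc35 zc50) (kc xc17 yc0 zc40) (kc xc29 yc23 zc56) (kc xc20 yc9 zc3) (kc xc12 yc48 zc60) (kc xc25 yc23 zc48) (kc xc11 yc35 zc53) (kc xc24 yc18 zc22) (kc xc11 yc35 zc54) (kc xc14 yc19 zc44) (kc xc27 yc41 zc1) (kc xc21 yc16 zc26) (kc xc18 yc17 zc9) (kc xc29 yc30 zc52) (kc xc11 yc36 zc9) (kc xc29 yc30 zc39) (kc xc27 yc6 zc35) (kc xc14 yc52 zc49)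 (kc xc11 yc36 zc10) (kc xc20 yc40 zc61) (kc xc14 yc25 zc60) (kc xc27 yc10 zc32) (kc xc14 yc22 zc40) (kc xc26 yc2 zc37) (kc xc14 yc32 zc16) (kc xc24 yc10 zc28) (kc xc11 yc36 zc19) (kc xc25 yc17 zc47) (kc xc13 yc22 zc8) (kc xc11 yc36 zc39) (kc xc11 yc37 zc16) (kc xc14 yc54 zc56) (kc xc11 yc36 zc24) (kc xc11 yc36 zc23) (kc xc29 yc30 zc58) (kc xc21 yc54 zc32) (kc xc20 yc23 zc27) (kc xc18 yc22 zc38) (kc xc22 yc56 zc48) (kc xc16 yc23 zc54) (kc xc11 yc37 zc22) (kc xc11 yc37 zc23) (kc xc20 yc20 zc1) (kc xc16 yc48 zc26) (kc xc11 yc36 zc33) (kc xc16 yc56 zc59) (kc xc16 yc48 zc33) (kc xc20 yc52 zc13) (kc xc17 yc8 zc18) (kc xc11 yc36 zc34) (kc xc20 yc10 zc17) (kc xc21 yc22 zc4) (kc xc29 yc31 zc2) (kc xc13 yc2 zc17) (kc xc25 yc38 zc61) (kc xc13 yc2 zc16) (kc xc29 yc31 zc3) (kc xc29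 yc31 zc4) (kc xc29 yc31 zc5) (kc xc20 yc15 zc2)) (@D3.rec (fun _ => Pt) (kc xc12 yc45 zc43) (kc xc29 yc31 zc6) (kc xc21 yc28 zc26) (kc xc29 yc31 zc7) (kc xc11 yc36 zc48) (kc xc25 yc59 zc16) (kc xc21 yc3 zc0) (kc xc11 yc36 zc51) (kc xc11 yc36 zc52) (kc xc29 yc31 zc11) (kc xc11 yc36 zc53) (kc xc17 yc1 zc13) (kc xc12 yc8 zc22) (kc xc25 yc43 zc55) (kc xc11 yc39 zc45) (kc xc28 yc43 zc27) (kc xc16 yc58 zc21) (kc xc12 yc1 zc40) (kc xc23 yc34 zc20) (kc xc28 yc45 zc4) (kc xc11 yc36 zc59) (kc xc26 yc46 zc27) (kc xc27 yc11 zc14) (kc xc11 yc36 zc61) (kc xc11 yc37 zc0) (kc xc11 yc37 zc1) (kc xc16 yc58 zc32) (kc xc28 yc48 zc5) (kc xc14 yc22 zc7) (kc xc18 yc55 zc40) (kc xc11 yc37 zc3) (kc xc20 yc42 zc33) (kc xc29 yc31 zc16) (kc xc29 yc31 zc15) (kc xc16 yc58 zc48) (kc xc29 yc31 zc13)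 (kc xc26 yc47 zc19) (kc xc29 yc31 zc10) (kc xc28 yc39 zc3) (kc xc24 yc17 zc55) (kc xc27 yc16 zc13) (kc xc29 yc31 zc9) (kc xc26 yc57 zc37) (kc xc11 yc37 zc9) (kc xc22 yc26 zc1) (kc xc24 yc2 zc56) (kc xc20 yc12 zc41) (kc xc12 yc38 zc2) (kc xc16 yc30 zc16) (kc xc29 yc31 zc41) (kc xc29 yc30 zc57) (kc xc11 yc37 zc19) (kc xc16 yc59 zc23) (kc xc29 yc31 zc42) (kc xc29 yc31 zc43) (kc xc29 yc31 zc1) (kc xc25 yc18 zc10) (kc xc26 yc52 zc36) (kc xc19 yc3 zc14) (kc xc16 yc27 zc35) (kc xc16 yc27 zc36) (kc xc18 yc43 zc10)) (@D3.rec (fun _ => Pt) (kc xc21 yc9 zc49) (kc xc12 yc23 zc13) (kc xc12 yc23 zc14) (kc xc12 yc33 zc58) (kc xc11 yc57 zc47) (kc xc12 yc37 zc50) (kc xc11 yc37 zc37) (kc xc27 yc9 zc51) (kc xc29 yc22 zc20) (kc xc23 yc14 zc24) (kc xc11 yc37 zc38) (kc xc25 yc18 zc12) (kc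 xc16 yc24 zc16) (kc xc26 yc22 zc57) (kc xc29 yc31 zc46) (kc xc14 yc59 zc47) (kc xc21 yc45 zc40) (kc xc26 yc26 zc38) (kc xc16 yc36 zc9) (kc xc15 yc56 zc51) (kc xc11 yc37 zc48) (kc xc29 yc31 zc53) (kc xc25 yc45 zc49) (kc xc16 yc29 zc52) (kc xc26 yc46 zc60) (kc xc11 yc37 zc53) (kc xc29 yc31 zc55) (kc xc29 yc4 zc17) (kc xc11 yc37 zc52) (kc xc29 yc31 zc47) (kc xc11 yc37 zc56) (kc xc11 yc37 zc55) (kc xc29 yc19 zc57) (kc xc29 yc31 zc50) (kc xc29 yc31 zc60) (kc xc21 yc33 zc0) (kc xc28 yc20 zc31) (kc xc11 yc37 zc57) (kc xc14 yc27 zc7) (kc xc11 yc37 zc58) (kc xc28 yc28 zc23) (kc xc26 yc26 zc40) (kc xc26 yc26 zc41) (kc xc29 yc32 zc2) (kc xc11 yc37 zc60) (kc xc28 yc33 zc21) (kc xc11 yc54 zc3) (kc xc17 yc20 zc9) (kc xc16 yc22 zc22) (kc xc16 yc22 zc21) (kc xc26 yc23 zc17) (kc xc11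 yc39 zc42) (kc xc11 yc38 zc2) (kc xc26 yc27 zc35) (kc xc29 yc32 zc19) (kc xc27 yc0 zc10) (kc xc29 yc18 zc38) (kc xc11 yc39 zc41) (kc xc11 yc38 zc5) (kc xc29 yc3 zc19) (kc xc11 yc38 zc6) (kc xc29 yc32 zc23)) (@D3.rec (fun _ => Pt) (kc xc16 yc22 zc20) (kc xc15 yc4 zc47) (kc xc24 yc14 zc3) (kc xc11 yc39 zc40) (kc xc11 yc38 zc9) (kc xc28 yc17 zc11) (kc xc24 yc38 zc48) (kc xc14 yc27 zc48) (kc xc11 yc50 zc31) (kc xc16 yc30 zc9) (kc xc11 yc39 zc37) (kc xc11 yc38 zc12) (kc xc13 yc10 zc13) (kc xc13 yc9 zc53) (kc xc14 yc27 zc47) (kc xc11 yc39 zc33) (kc xc26 yc26 zc1) (kc xc24 yc6 zc50) (kc xc11 yc39 zc29) (kc xc22 yc51 zc8) (kc xc14 yc27 zc56) (kc xc17 yc57 zc38) (kc xc13 yc12 zc24) (kc xc16 yc27 zc28) (kc xc27 yc0 zc5) (kc xc11 yc38 zc18) (kc xc28 yc35 zc25) (kc xc28 yc34 zc57)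 (kc xc15 yc53 zc0) (kc xc15 yc53 zc4) (kc xc11 yc38 zc21) (kc xc25 yc36 zc59) (kc xc11 yc56 zc20) (kc xc25 yc53 zc37) (kc xc11 yc38 zc24) (kc xc20 yc27 zc44) (kc xc24 yc42 zc51) (kc xc18 yc37 zc47) (kc xc11 yc49 zc5) (kc xc24 yc51 zc9) (kc xc11 yc58 zc50) (kc xc29 yc2 zc34) (kc xc29 yc32 zc41) (kc xc20 yc22 zc35) (kc xc29 yc32 zc42) (kc xc11 yc38 zc33) (kc xc29 yc32 zc46) (kc xc11 yc38 zc37) (kc xc14 yc33 zc10) (kc xc25 yc20 zc44) (kc xc11 yc38 zc40) (kc xc29 yc32 zc48) (kc xc29 yc32 zc39) (kc xc25 yc7 zc42) (kc xc29 yc32 zc44) (kc xc11 yc38 zc44) (kc xc24 yc19 zc15) (kc xc21 yc26 zc26) (kc xc12 yc1 zc39) (kc xc29 yc32 zc51) (kc xc21 yc47 zc36) (kc xc16 yc41 zc27)) (@D3.rec (fun _ => Pt) (kc xc11 yc38 zc49) (kc xc28 yc45 zc37) (kc xc11 yc38 zc48) (kc xc11 yc38 zc61)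 (kc xc29 yc25 zc36) (kc xc23 yc7 zc19) (kc xc13 yc21 zc1) (kc xc16 yc41 zc38) (kc xc11 yc38 zc53) (kc xc11 yc38 zc52) (kc xc20 yc49 zc17) (kc xc29 yc32 zc53) (kc xc28 yc39 zc17) (kc xc19 yc18 zc54) (kc xc11 yc38 zc57) (kc xc19 yc11 zc46) (kc xc26 yc53 zc56) (kc xc11 yc39 zc1) (kc xc11 yc38 zc59) (kc xc29 yc32 zc56) (kc xc21 yc36 zc41) (kc xc26 yc40 zc12) (kc xc17 yc44 zc61) (kc xc28 yc18 zc11) (kc xc11 yc39 zc0) (kc xc29 yc32 zc61) (kc xc27 yc42 zc28) (kc xc11 yc39 zc5) (kc xc24 yc53 zc42) (kc xc29 yc23 zc7) (kc xc20 yc52 zc21) (kc xc29 yc5 zc43) (kc xc28 yc18 zc10) (kc xc11 yc39 zc8) (kc xc19 yc24 zc26) (kc xc20 yc22 zc45) (kc xc11 yc39 zc10) (kc xc27 yc18 zc48) (kc xc28 yc18 zc9) (kc xc26 yc58 zc27) (kc xc11 yc39 zc13) (kc xc28 yc55 zc53) (kc xc11 yc39 zc14) (kc xc28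 yc19 zc13) (kc xc24 yc21 zc41) (kc xc28 yc39 zc11) (kc xc26 yc57 zc20) (kc xc28 yc17 zc50) (kc xc11 yc39 zc17) (kc xc11 yc39 zc18) (kc xc22 yc49 zc24) (kc xc29 yc1 zc44) (kc xc11 yc39 zc20) (kc xc19 yc34 zc0) (kc xc29 yc33 zc15) (kc xc19 yc26 zc7) (kc xc29 yc21 zc49) (kc xc29 yc33 zc21) (kc xc17 yc27 zc36) (kc xc26 yc28 zc0) (kc xc24 yc36 zc28) (kc xc25 yc23 zc29)) (@D3.rec (fun _ => Pt) (kc xc29 yc33 zc34) (kc xc11 yc39 zc25) (kc xc11 yc39 zc24) (kc xc19 yc34 zc36) (kc xc19 yc34 zc35) (kc xc25 yc14 zc24) (kc xc17 yc49 zc37) (kc xc17 yc49 zc36) (kc xc20 yc53 zc55) (kc xc29 yc33 zc42) (kc xc12 yc15 zc34) (kc xc29 yc32 zc5) (kc xc29 yc32 zc7) (kc xc13 yc11 zc21) (kc xc16 yc45 zc15) (kc xc19 yc40 zc18) (kc xc26 yc42 zc7) (kc xc24 yc4 zc20) (kc xc29 yc33 zc50) (kc xc28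 yc39 zc15) (kc xc14 yc45 zc48) (kc xc26 yc58 zc30) (kc xc29 yc33 zc57) (kc xc26 yc2 zc40) (kc xc11 yc39 zc38) (kc xc29 yc32 zc29) (kc xc29 yc32 zc28) (kc xc22 yc27 zc19) (kc xc24 yc54 zc45) (kc xc26 yc34 zc21) (kc xc26 yc34 zc22) (kc xc29 yc15 zc7) (kc xc28 yc39 zc6) (kc xc29 yc32 zc25) (kc xc29 yc34 zc12) (kc xc29 yc32 zc22) (kc xc29 yc34 zc17) (kc xc29 yc32 zc15) (kc xc28 yc56 zc37) (kc xc11 yc39 zc44) (kc xc29 yc34 zc28) (kc xc24 yc1 zc6) (kc xc29 yc34 zc27) (kc xc29 yc31 zc18) (kc xc28 yc56 zc28) (kc xc20 yc54 zc24) (kc xc15 yc48 zc37) (kc xc11 yc39 zc47) (kc xc11 yc39 zc48) (kc xc11 yc39 zc49) (kc xc29 yc34 zc38) (kc xc11 yc39 zc51) (kc xc22 yc14 zc30) (kc xc22 yc14 zc29) (kc xc11 yc39 zc52) (kc xc22 yc40 zc15) (kc xc25 yc23 zc46) (kc xc11 yc39 zc56) (kc xc11 yc39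 zc54) (kc xc29 yc25 zc46) (kc xc22 yc37 zc2) (kc xc25 yc57 zc31)) (@D3.rec (fun _ => Pt) (kc xc12 yc26 zc20) (kc xc26 yc37 zc22) (kc xc11 yc39 zc60) (kc xc11 yc40 zc0) (kc xc13 yc3 zc21) (kc xc27 yc13 zc9) (kc xc21 yc33 zc31) (kc xc20 yc18 zc4) (kc xc11 yc40 zc5) (kc xc11 yc40 zc6) (kc xc29 yc34 zc48) (kc xc29 yc34 zc49) (kc xc26 yc57 zc30) (kc xc25 yc59 zc44) (kc xc20 yc43 zc61) (kc xc24 yc14 zc59) (kc xc17 yc57 zc56) (kc xc17 yc19 zc0) (kc xc17 yc19 zc1) (kc xc17 yc23 zc39) (kc xc17 yc23 zc40) (kc xc20 yc41 zc17) (kc xc16 yc49 zc31) (kc xc18 yc25 zc52) (kc xc18 yc26 zc23) (kc xc14 yc11 zc28) (kc xc20 yc47 zc61) (kc xc12 yc40 zc45) (kc xc11 yc41 zc22) (kc xc27 yc43 zc29) (kc xc12 yc23 zc25) (kc xc20 yc22 zc7) (kc xc15 yc49 zc14) (kc xc15 yc47 zc44) (kc xc18 yc57 zc29)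 (kc xc18 yc57 zc28) (kc xc29 yc34 zc59) (kc xc26 yc57 zc51) (kc xc20 yc15 zc17) (kc xc29 yc17 zc51) (kc xc20 yc22 zc5) (kc xc11 yc40 zc54) (kc xc19 yc45 zc10) (kc xc20 yc27 zc42) (kc xc21 yc37 zc34) (kc xc24 yc53 zc13) (kc xc18 yc25 zc16) (kc xc29 yc35 zc3) (kc xc19 yc52 zc52) (kc xc20 yc15 zc10) (kc xc24 yc16 zc5) (kc xc24 yc14 zc58) (kc xc29 yc19 zc1) (kc xc26 yc27 zc39) (kc xc27 yc2 zc35) (kc xc11 yc41 zc7) (kc xc27 yc42 zc9) (kc xc20 yc42 zc20) (kc xc18 yc38 zc15) (kc xc16 yc59 zc29) (kc xc11 yc41 zc12) (kc xc20 yc34 zc21)) (@D3.rec (fun _ => Pt) (kc xc18 yc38 zc14) (kc xc16 yc25 zc22) (kc xc14 yc59 zc35) (kc xc12 yc38 zc50) (kc xc19 yc7 zc13) (kc xc22 yc38 zc53) (kc xc16 yc23 zc51) (kc xc16 yc24 zc37) (kc xc22 yc38 zc52) (kc xc16 yc28 zc8) (kc xc22 yc37 zc34) (kc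 xc11 yc41 zc21) (kc xc20 yc47 zc59) (kc xc23 yc1 zc37) (kc xc22 yc23 zc37) (kc xc11 yc45 zc61) (kc xc22 yc26 zc37) (kc xc20 yc40 zc21) (kc xc17 yc58 zc9) (kc xc17 yc58 zc10) (kc xc29 yc35 zc17) (kc xc20 yc19 zc41) (kc xc29 yc35 zc20) (kc xc15 yc30 zc36) (kc xc13 yc4 zc8) (kc xc22 yc13 zc10) (kc xc22 yc13 zc9) (kc xc11 yc41 zc28) (kc xc17 yc9 zc4) (kc xc17 yc58 zc37) (kc xc20 yc42 zc32) (kc xc23 yc1 zc27) (kc xc11 yc50 zc42) (kc xc17 yc58 zc60) (kc xc17 yc58 zc57) (kc xc14 yc18 zc53) (kc xc19 yc36 zc13) (kc xc20 yc42 zc37) (kc xc22 yc7 zc49) (kc xc26 yc53 zc33) (kc xc11 yc41 zc40) (kc xc29 yc35 zc33) (kc xc11 yc47 zc33) (kc xc20 yc26 zc43) (kc xc21 yc16 zc8) (kc xc11 yc42 zc23) (kc xc13 yc18 zc3) (kc xc20 yc41 zc48) (kc xc20 yc41 zc47) (kc xc29 yc35 zc44) (kc xc29 yc24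 zc46) (kc xc13 yc16 zc53) (kc xc29 yc35 zc46) (kc xc29 yc35 zc48) (kc xc16 yc58 zc2) (kc xc29 yc35 zc49) (kc xc29 yc35 zc51) (kc xc11 yc41 zc50) (kc xc29 yc35 zc53) (kc xc24 yc52 zc50) (kc xc14 yc48 zc54) (kc xc20 yc23 zc52)) (@D3.rec (fun _ => Pt) (kc xc26 yc54 zc15) (kc xc16 yc58 zc3) (kc xc16 yc57 zc50) (kc xc11 yc42 zc48) (kc xc29 yc36 zc2) (kc xc11 yc41 zc60) (kc xc29 yc36 zc4) (kc xc29 yc36 zc5) (kc xc25 yc33 zc54) (kc xc29 yc0 zc5) (kc xc11 yc43 zc5) (kc xc29 yc36 zc12) (kc xc11 yc43 zc7) (kc xc20 yc26 zc34) (kc xc11 yc42 zc2) (kc xc29 yc36 zc18) (kc xc11 yc42 zc4) (kc xc26 yc54 zc47) (kc xc17 yc11 zc3) (kc xc13 yc20 zc41) (kc xc20 yc40 zc57) (kc xc13 yc20 zc59) (kc xc29 yc36 zc21) (kc xc23 yc23 zc42) (kc xc23 yc23 zc43) (kc xc18 yc17 zc19) (kc xc21 yc49 zc13)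 (kc xc11 yc42 zc14) (kc xc11 yc42 zc13) (kc xc11 yc42 zc15) (kc xc21 yc21 zc57) (kc xc11 yc42 zc16) (kc xc20 yc41 zc30) (kc xc20 yc35 zc31) (kc xc11 yc43 zc3) (kc xc22 yc52 zc26) (kc xc20 yc2 zc59) (kc xc20 yc41 zc37) (kc xc29 yc28 zc13) (kc xc22 yc29 zc47) (kc xc12 yc10 zc30) (kc xc23 yc58 zc35) (kc xc29 yc36 zc28) (kc xc24 yc2 zc2) (kc xc29 yc36 zc30) (kc xc11 yc42 zc26) (kc xc12 yc3 zc60) (kc xc11 yc42 zc27) (kc xc29 yc36 zc36) (kc xc12 yc3 zc61) (kc xc11 yc42 zc28) (kc xc29 yc36 zc38) (kc xc20 yc43 zc8) (kc xc22 yc25 zc59) (kc xc11 yc42 zc29) (kc xc29 yc36 zc45) (kc xc11 yc42 zc33) (kc xc29 yc34 zc39) (kc xc29 yc34 zc41) (kc xc11 yc42 zc32) (kc xc29 yc36 zc50) (kc xc25 yc18 zc5)) (@D3.rec (fun _ => Pt) (kc xc18 yc48 zc26) (kc xc16 yc43 zc35) (kc xc11 yc42 zc35)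 (kc xc13 yc2 zc60) (kc xc11 yc42 zc37) (kc xc29 yc36 zc56) (kc xc28 yc37 zc43) (kc xc11 yc42 zc38) (kc xc20 yc42 zc52) (kc xc13 yc3 zc23) (kc xc13 yc3 zc22) (kc xc29 yc36 zc32) (kc xc29 yc34 zc37) (kc xc11 yc42 zc40) (kc xc29 yc37 zc6) (kc xc26 yc58 zc24) (kc xc11 yc42 zc42) (kc xc13 yc2 zc55) (kc xc14 yc49 zc10) (kc xc23 yc1 zc28) (kc xc14 yc8 zc23) (kc xc24 yc38 zc55) (kc xc14 yc41 zc31) (kc xc11 yc42 zc46) (kc xc20 yc28 zc11) (kc xc29 yc35 zc60) (kc xc19 yc44 zc37) (kc xc29 yc36 zc0) (kc xc14 yc52 zc1) (kc xc29 yc36 zc49) (kc xc11 yc42 zc49) (kc xc29 yc37 zc15) (kc xc23 yc1 zc26) (kc xc11 yc42 zc51) (kc xc14 yc49 zc16) (kc xc26 yc54 zc53) (kc xc12 yc49 zc37) (kc xc12 yc49 zc34) (kc xc29 yc37 zc23) (kc xc11 yc42 zc57) (kc xc11 yc42 zc55) (kc xc19 yc37 zc45) (kc xc11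 yc42 zc56) (kc xc26 yc54 zc55) (kc xc19 yc13 zc23) (kc xc26 yc57 zc8) (kc xc29 yc37 zc29) (kc xc24 yc34 zc20) (kc xc20 yc28 zc18) (kc xc28 yc52 zc34) (kc xc29 yc36 zc24) (kc xc29 yc37 zc32) (kc xc11 yc43 zc4) (kc xc29 yc37 zc34) (kc xc12 yc56 zc58) (kc xc11 yc43 zc6) (kc xc29 yc37 zc37) (kc xc29 yc36 zc15) (kc xc29 yc37 zc39) (kc xc20 yc18 zc10) (kc xc23 yc56 zc27) (kc xc20 yc40 zc14)) (@D3.rec (fun _ => Pt) (kc xc29 yc37 zc35) (kc xc29 yc37 zc45) (kc xc23 yc9 zc36) (kc xc20 yc49 zc44) (kc xc12 yc29 zc19) (kc xc12 yc50 zc17) (kc xc11 yc43 zc14) (kc xc11 yc43 zc16) (kc xc20 yc49 zc1) (kc xc29 yc37 zc51) (kc xc29 yc37 zc55) (kc xc26 yc5 zc58) (kc xc29 yc37 zc57) (kc xc17 yc20 zc48) (kc xc29 yc37 zc59) (kc xc29 yc37 zc60) (kc xc29 yc33 zc43) (kc xc11 yc43 zc19) (kc xc29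 yc33 zc60) (kc xc29 yc38 zc3) (kc xc27 yc40 zc29) (kc xc23 yc40 zc55) (kc xc29 yc38 zc5) (kc xc13 yc12 zc43) (kc xc29 yc38 zc7) (kc xc11 yc43 zc23) (kc xc22 yc24 zc15) (kc xc29 yc38 zc9) (kc xc11 yc43 zc26) (kc xc29 yc38 zc11) (kc xc29 yc38 zc12) (kc xc11 yc43 zc27) (kc xc11 yc43 zc28) (kc xc13 yc13 zc21) (kc xc22 yc27 zc42) (kc xc29 yc38 zc1) (kc xc29 yc23 zc15) (kc xc11 yc43 zc34) (kc xc13 yc41 zc49) (kc xc11 yc43 zc33) (kc xc16 yc30 zc18) (kc xc19 yc23 zc23) (kc xc14 yc36 zc60) (kc xc13 yc18 zc20) (kc xc21 yc39 zc7) (kc xc23 yc46 zc7) (kc xc20 yc48 zc4) (kc xc22 yc25 zc15) (kc xc20 yc49 zc34) (kc xc20 yc47 zc60) (kc xc16 yc24 zc32) (kc xc22 yc25 zc13) (kc xc18 yc16 zc1) (kc xc18 yc0 zc57) (kc xc24 yc21 zc43) (kc xc13 yc57 zc17) (kc xc22 yc25 zc14) (kc xc14 yc59 zc43)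 (kc xc29 yc38 zc18) (kc xc17 yc23 zc19) (kc xc15 yc55 zc30) (kc xc20 yc46 zc11)) (@D3.rec (fun _ => Pt) (kc xc17 yc31 zc21) (kc xc18 yc43 zc9) (kc xc13 yc10 zc44) (kc xc23 yc11 zc12) (kc xc11 yc43 zc51) (kc xc24 yc39 zc23) (kc xc11 yc43 zc53) (kc xc21 yc57 zc24) (kc xc11 yc43 zc61) (kc xc11 yc44 zc0) (kc xc17 yc7 zc43) (kc xc29 yc38 zc23) (kc xc18 yc0 zc17) (kc xc17 yc22 zc60) (kc xc23 yc7 zc24) (kc xc21 yc22 zc11) (kc xc16 yc23 zc37) (kc xc16 yc24 zc24) (kc xc26 yc17 zc12) (kc xc21 yc44 zc53) (kc xc28 yc26 zc30) (kc xc18 yc0 zc49) (kc xc18 yc21 zc55) (kc xc22 yc50 zc14) (kc xc13 yc41 zc12) (kc xc11 yc44 zc9) (kc xc23 yc7 zc25) (kc xc11 yc44 zc11) (kc xc20 yc27 zc37) (kc xc20 yc27 zc38) (kc xc29 yc38 zc34) (kc xc20 yc22 zc10) (kc xc11 yc44 zc13) (kc xc18 yc16 zc30)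 (kc xc21 yc47 zc7) (kc xc11 yc44 zc14) (kc xc20 yc16 zc32) (kc xc28 yc7 zc8) (kc xc11 yc44 zc19) (kc xc15 yc26 zc7) (kc xc23 yc21 zc61) (kc xc11 yc44 zc20) (kc xc29 yc38 zc42) (kc xc11 yc45 zc31) (kc xc11 yc45 zc32) (kc xc26 yc17 zc14) (kc xc24 yc55 zc44) (kc xc11 yc44 zc22) (kc xc24 yc59 zc4) (kc xc20 yc24 zc10) (kc xc11 yc44 zc23) (kc xc20 yc19 zc45) (kc xc17 yc53 zc45) (kc xc13 yc6 zc31) (kc xc29 yc38 zc44) (kc xc11 yc44 zc30) (kc xc21 yc16 zc3) (kc xc21 yc16 zc1) (kc xc11 yc44 zc46) (kc xc23 yc52 zc59) (kc xc23 yc52 zc60) (kc xc29 yc9 zc26)) (@D3.rec (fun _ => Pt) (kc xc11 yc44 zc50) (kc xc11 yc44 zc38) (kc xc19 yc4 zc26) (kc xc14 yc31 zc3) (kc xc22 yc19 zc1) (kc xc25 yc42 zc9) (kc xc27 yc16 zc60) (kc xc29 yc38 zc55) (kc xc11 yc44 zc52) (kc xc27 yc22 zc20) (kc xc28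 yc9 zc21) (kc xc20 yc44 zc61) (kc xc27 yc22 zc57) (kc xc21 yc48 zc1) (kc xc11 yc44 zc58) (kc xc27 yc11 zc58) (kc xc17 yc22 zc34) (kc xc29 yc38 zc59) (kc xc11 yc44 zc60) (kc xc29 yc38 zc61) (kc xc29 yc5 zc38) (kc xc11 yc45 zc0) (kc xc26 yc3 zc39) (kc xc11 yc45 zc3) (kc xc29 yc35 zc24) (kc xc29 yc39 zc5) (kc xc21 yc22 zc43) (kc xc21 yc36 zc29) (kc xc12 yc16 zc41) (kc xc20 yc26 zc8) (kc xc22 yc21 zc49) (kc xc12 yc17 zc6) (kc xc21 yc47 zc19) (kc xc19 yc31 zc25) (kc xc21 yc29 zc61) (kc xc13 yc54 zc0) (kc xc11 yc45 zc24) (kc xc23 yc35 zc60) (kc xc23 yc35 zc14) (kc xc28 yc17 zc39) (kc xc20 yc5 zc48) (kc xc23 yc9 zc5) (kc xc20 yc27 zc40) (kc xc26 yc6 zc3) (kc xc21 yc42 zc30) (kc xc21 yc54 zc45) (kc xc27 yc52 zc21) (kc xc29 yc38 zc43) (kc xc27 yc50 zc29) (kc xc17 yc31 zc42)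 (kc xc17 yc31 zc43) (kc xc24 yc18 zc20) (kc xc19 yc2 zc20) (kc xc11 yc45 zc34) (kc xc29 yc39 zc18) (kc xc23 yc14 zc38) (kc xc17 yc15 zc5) (kc xc19 yc9 zc49) (kc xc17 yc15 zc38) (kc xc17 yc15 zc39) (kc xc29 yc39 zc20) (kc xc12 yc7 zc17)) (@D3.rec (fun _ => Pt) (kc xc29 yc38 zc54) (kc xc29 yc2 zc53) (kc xc20 yc22 zc37) (kc xc29 yc2 zc55) (kc xc27 yc10 zc49) (kc xc11 yc45 zc43) (kc xc29 yc8 zc15) (kc xc12 yc54 zc5) (kc xc27 yc43 zc6) (kc xc12 yc55 zc35) (kc xc11 yc45 zc47) (kc xc28 yc32 zc16) (kc xc13 yc9 zc14) (kc xc11 yc45 zc51) (kc xc27 yc27 zc35) (kc xc29 yc39 zc30) (kc xc15 yc49 zc41) (kc xc29 yc39 zc32) (kc xc27 yc30 zc28) (kc xc23 yc13 zc17) (kc xc23 yc13 zc15) (kc xc11 yc45 zc54) (kc xc13 yc12 zc21) (kc xc11 yc45 zc56) (kc xc18 yc29 zc29) (kc xc23 yc36 zc33) (kc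 xc28 yc6 zc27) (kc xc17 yc30 zc35) (kc xc11 yc46 zc0) (kc xc28 yc4 zc22) (kc xc23 yc38 zc51) (kc xc21 yc29 zc36) (kc xc11 yc46 zc2) (kc xc19 yc16 zc47) (kc xc19 yc16 zc49) (kc xc11 yc46 zc5) (kc xc20 yc48 zc2) (kc xc11 yc46 zc4) (kc xc29 yc39 zc43) (kc xc27 yc30 zc30) (kc xc29 yc39 zc48) (kc xc16 yc15 zc27) (kc xc20 yc30 zc4) (kc xc12 yc45 zc22) (kc xc16 yc32 zc49) (kc xc11 yc46 zc7) (kc xc14 yc10 zc38) (kc xc29 yc39 zc51) (kc xc11 yc46 zc9) (kc xc27 yc54 zc32) (kc xc20 yc33 zc43) (kc xc11 yc46 zc10) (kc xc27 yc54 zc31) (kc xc29 yc39 zc54) (kc xc29 yc35 zc11) (kc xc27 yc14 zc48) (kc xc28 yc3 zc43) (kc xc11 yc46 zc12) (kc xc29 yc39 zc57) (kc xc20 yc41 zc12) (kc xc20 yc44 zc49) (kc xc20 yc40 zc26)) (@D3.rec (fun _ => Pt) (kc xc29 yc39 zc58) (kc xc11 yc46 zc61) (kc xc20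 yc47 zc36) (kc xc13 yc12 zc13) (kc xc20 yc44 zc46) (kc xc11 yc46 zc19) (kc xc29 yc32 zc32) (kc xc22 yc26 zc4) (kc xc24 yc30 zc20) (kc xc23 yc46 zc2) (kc xc24 yc25 zc26) (kc xc11 yc46 zc22) (kc xc14 yc40 zc61) (kc xc11 yc46 zc25) (kc xc22 yc26 zc33) (kc xc20 yc23 zc47) (kc xc17 yc31 zc11) (kc xc29 yc40 zc8) (kc xc11 yc46 zc28) (kc xc20 yc14 zc54) (kc xc11 yc46 zc29) (kc xc21 yc11 zc23) (kc xc22 yc38 zc18) (kc xc11 yc46 zc32) (kc xc23 yc4 zc42) (kc xc13 yc13 zc22) (kc xc24 yc24 zc50) (kc xc24 yc30 zc8) (kc xc29 yc40 zc28) (kc xc29 yc40 zc31) (kc xc27 yc16 zc33) (kc xc26 yc34 zc5) (kc xc27 yc16 zc2) (kc xc25 yc16 zc44) (kc xc11 yc46 zc38) (kc xc29 yc40 zc35) (kc xc11 yc46 zc49) (kc xc14 yc36 zc28) (kc xc14 yc47 zc10) (kc xc11 yc46 zc40) (kc xc14 yc36 zc48) (kc xc14 yc6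 zc13) (kc xc29 yc40 zc38) (kc xc11 yc46 zc47) (kc xc29 yc40 zc41) (kc xc23 yc46 zc13) (kc xc22 yc25 zc6) (kc xc21 yc22 zc14) (kc xc29 yc40 zc44) (kc xc22 yc1 zc19) (kc xc11 yc46 zc50) (kc xc29 yc40 zc48) (kc xc24 yc20 zc38) (kc xc29 yc40 zc51) (kc xc22 yc23 zc36) (kc xc22 yc23 zc45) (kc xc29 yc40 zc47) (kc xc11 yc46 zc55) (kc xc22 yc25 zc61) (kc xc22 yc25 zc60) (kc xc23 yc9 zc41) (kc xc14 yc33 zc38)) (@D3.rec (fun _ => Pt) (kc xc11 yc46 zc57) (kc xc20 yc44 zc8) (kc xc22 yc25 zc16) (kc xc11 yc49 zc58) (kc xc13 yc45 zc56) (kc xc22 yc23 zc44) (kc xc22 yc8 zc1) (kc xc14 yc48 zc43) (kc xc23 yc27 zc49) (kc xc13 yc57 zc9) (kc xc29 yc40 zc61) (kc xc29 yc23 zc13) (kc xc11 yc47 zc5) (kc xc21 yc28 zc53) (kc xc21 yc52 zc25) (kc xc11 yc47 zc20) (kc xc13 yc14 zc5) (kc xc20 yc38 zc10)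 (kc xc27 yc20 zc36) (kc xc27 yc11 zc13) (kc xc29 yc41 zc4) (kc xc22 yc19 zc12) (kc xc29 yc41 zc7) (kc xc23 yc24 zc4) (kc xc16 yc31 zc26) (kc xc13 yc38 zc42) (kc xc15 yc22 zc34) (kc xc25 yc8 zc33) (kc xc25 yc9 zc5) (kc xc27 yc30 zc16) (kc xc28 yc42 zc21) (kc xc16 yc59 zc20) (kc xc16 yc49 zc11) (kc xc17 yc59 zc8) (kc xc20 yc44 zc48) (kc xc11 yc47 zc32) (kc xc11 yc47 zc30) (kc xc13 yc1 zc51) (kc xc11 yc47 zc31) (kc xc29 yc41 zc15) (kc xc27 yc36 zc58) (kc xc29 yc35 zc35) (kc xc29 yc41 zc21) (kc xc29 yc35 zc31) (kc xc20 yc44 zc3) (kc xc16 yc59 zc3) (kc xc23 yc39 zc32) (kc xc11 yc47 zc37) (kc xc15 yc17 zc18) (kc xc29 yc28 zc16) (kc xc16 yc28 zc39) (kc xc29 yc28 zc17) (kc xc25 yc12 zc20) (kc xc12 yc4 zc18) (kc xc12 yc49 zc19) (kc xc12 yc30 zc37) (kc xc11 yc47 zc42) (kc xc11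 yc47 zc43) (kc xc11 yc47 zc46) (kc xc20 yc26 zc36) (kc xc11 yc47 zc45) (kc xc25 yc21 zc61)) (@D3.rec (fun _ => Pt) (kc xc29 yc41 zc39) (kc xc29 yc41 zc35) (kc xc29 yc41 zc44) (kc xc29 yc41 zc37) (kc xc27 yc44 zc10) (kc xc16 yc46 zc8) (kc xc23 yc42 zc24) (kc xc11 yc47 zc51) (kc xc11 yc47 zc49) (kc xc13 yc55 zc46) (kc xc13 yc42 zc38) (kc xc14 yc51 zc31) (kc xc22 yc55 zc17) (kc xc29 yc41 zc56) (kc xc24 yc33 zc39) (kc xc28 yc29 zc16) (kc xc28 yc29 zc19) (kc xc24 yc16 zc36) (kc xc11 yc47 zc55) (kc xc29 yc41 zc61) (kc xc27 yc43 zc60) (kc xc23 yc24 zc31) (kc xc11 yc47 zc58) (kc xc29 yc42 zc3) (kc xc17 yc5 zc29) (kc xc25 yc7 zc27) (kc xc11 yc47 zc59) (kc xc29 yc42 zc4) (kc xc27 yc37 zc52) (kc xc29 yc42 zc7) (kc xc29 yc42 zc9) (kc xc29 yc42 zc10) (kc xc11 yc47 zc61) (kc xc18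 yc53 zc61) (kc xc29 yc42 zc17) (kc xc16 yc27 zc26) (kc xc29 yc42 zc13) (kc xc11 yc48 zc2) (kc xc29 yc37 zc18) (kc xc28 yc19 zc34) (kc xc27 yc15 zc54) (kc xc19 yc34 zc28) (kc xc11 yc48 zc5) (kc xc16 yc57 zc29) (kc xc20 yc25 zc27) (kc xc11 yc49 zc50) (kc xc17 yc20 zc2) (kc xc11 yc48 zc10) (kc xc29 yc28 zc51) (kc xc20 yc24 zc11) (kc xc11 yc48 zc18) (kc xc17 yc55 zc48) (kc xc11 yc48 zc21) (kc xc20 yc20 zc8) (kc xc11 yc48 zc22) (kc xc11 yc48 zc24) (kc xc17 yc12 zc27) (kc xc11 yc48 zc28) (kc xc28 yc47 zc23) (kc xc11 yc48 zc31) (kc xc11 yc48 zc32) (kc xc14 yc44 zc25)) (@D3.rec (fun _ => Pt) (kc xc19 yc33 zc44) (kc xc19 yc26 zc39) (kc xc13 yc30 zc29) (kc xc13 yc50 zc23) (kc xc13 yc23 zc18) (kc xc11 yc48 zc36) (kc xc29 yc42 zc22) (kc xc29 yc42 zc24) (kc xc11 yc48 zc37) (kc xc28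 yc58 zc21) (kc xc11 yc48 zc38) (kc xc27 yc42 zc51) (kc xc21 yc32 zc38) (kc xc11 yc48 zc40) (kc xc23 yc35 zc7) (kc xc26 yc59 zc5) (kc xc11 yc48 zc47) (kc xc29 yc42 zc25) (kc xc12 yc36 zc35) (kc xc11 yc48 zc51) (kc xc21 yc26 zc34) (kc xc16 yc7 zc31) (kc xc11 yc48 zc54) (kc xc21 yc43 zc60) (kc xc21 yc40 zc31) (kc xc27 yc42 zc57) (kc xc24 yc42 zc58) (kc xc24 yc42 zc59) (kc xc11 yc48 zc59) (kc xc12 yc42 zc12) (kc xc24 yc51 zc48) (kc xc11 yc49 zc3) (kc xc12 yc23 zc26) (kc xc11 yc50 zc21) (kc xc24 yc51 zc13) (kc xc21 yc20 zc29) (kc xc29 yc22 zc53) (kc xc12 yc47 zc33) (kc xc17 yc50 zc32) (kc xc17 yc45 zc1) (kc xc11 yc49 zc8) (kc xc11 yc49 zc10) (kc xc29 yc42 zc29) (kc xc26 yc14 zc33) (kc xc21 yc50 zc43) (kc xc14 yc36 zc16) (kc xc18 yc56 zc20) (kc xc21 yc20 zc51) (kc xc19 yc15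 zc5) (kc xc17 yc56 zc33) (kc xc26 yc53 zc24) (kc xc18 yc0 zc3) (kc xc18 yc43 zc33) (kc xc17 yc3 zc7) (kc xc11 yc49 zc25) (kc xc11 yc49 zc29) (kc xc12 yc39 zc51) (kc xc11 yc49 zc35) (kc xc11 yc49 zc36) (kc xc11 yc49 zc38) (kc xc12 yc41 zc26) (kc xc11 yc49 zc42)) (@D3.rec (fun _ => Pt) (kc xc11 yc49 zc45) (kc xc23 yc57 zc57) (kc xc11 yc49 zc48) (kc xc14 yc22 zc5) (kc xc28 yc45 zc45) (kc xc18 yc42 zc16) (kc xc12 yc30 zc8) (kc xc26 yc58 zc45) (kc xc29 yc42 zc30) (kc xc21 yc54 zc36) (kc xc16 yc30 zc60) (kc xc11 yc50 zc3) (kc xc23 yc4 zc5) (kc xc20 yc34 zc49) (kc xc21 yc18 zc34) (kc xc14 yc46 zc38) (kc xc29 yc42 zc33) (kc xc27 yc20 zc51) (kc xc11 yc50 zc9) (kc xc21 yc29 zc3) (kc xc21 yc44 zc12) (kc xc20 yc38 zc30) (kc xc27 yc0 zc54) (kc xc24 yc36 zc17) (kc xc13 yc10 zc61)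 (kc xc26 yc26 zc53) (kc xc11 yc50 zc13) (kc xc14 yc6 zc11) (kc xc29 yc30 zc60) (kc xc11 yc50 zc15) (kc xc11 yc50 zc16) (kc xc16 yc24 zc30) (kc xc11 yc50 zc17) (kc xc26 yc23 zc4) (kc xc26 yc50 zc9) (kc xc12 yc10 zc12) (kc xc11 yc50 zc28) (kc xc29 yc27 zc59) (kc xc11 yc50 zc29) (kc xc11 yc50 zc19) (kc xc22 yc47 zc29) (kc xc29 yc42 zc38) (kc xc12 yc15 zc17) (kc xc11 yc50 zc26) (kc xc15 yc25 zc41) (kc xc11 yc50 zc27) (kc xc14 yc34 zc59) (kc xc11 yc50 zc33) (kc xc29 yc19 zc16) (kc xc20 yc18 zc26) (kc xc29 yc42 zc41) (kc xc26 yc53 zc38) (kc xc11 yc50 zc36) (kc xc19 yc53 zc37) (kc xc16 yc49 zc15) (kc xc14 yc30 zc1) (kc xc11 yc50 zc41) (kc xc11 yc50 zc39) (kc xc11 yc50 zc40) (kc xc25 yc12 zc44) (kc xc14 yc51 zc18) (kc xc13 yc52 zc41)) (@D3.rec (fun _ => Pt) (kc xc14 yc39 zc14)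 (kc xc29 yc35 zc26) (kc xc15 yc4 zc58) (kc xc19 yc43 zc0) (kc xc18 yc56 zc27) (kc xc29 yc42 zc47) (kc xc11 yc50 zc56) (kc xc29 yc2 zc43) (kc xc11 yc50 zc54) (kc xc23 yc57 zc10) (kc xc26 yc45 zc28) (kc xc11 yc50 zc55) (kc xc20 yc57 zc43) (kc xc13 yc9 zc20) (kc xc22 yc22 zc9) (kc xc22 yc22 zc10) (kc xc29 yc42 zc51) (kc xc21 yc47 zc38) (kc xc29 yc42 zc52) (kc xc11 yc51 zc2) (kc xc27 yc2 zc46) (kc xc26 yc35 zc3) (kc xc16 yc58 zc44) (kc xc16 yc58 zc43) (kc xc11 yc51 zc12) (kc xc26 yc26 zc60) (kc xc26 yc27 zc0) (kc xc14 yc52 zc4) (kc xc29 yc6 zc30) (kc xc14 yc48 zc10) (kc xc23 yc13 zc27) (kc xc19 yc48 zc50) (kc xc26 yc44 zc42) (kc xc11 yc51 zc19) (kc xc29 yc42 zc56) (kc xc24 yc58 zc3) (kc xc11 yc51 zc20) (kc xc11 yc51 zc21) (kc xc24 yc51 zc8) (kc xc24 yc49 zc61) (kc xc14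 yc47 zc12) (kc xc24 yc49 zc59) (kc xc11 yc51 zc23) (kc xc15 yc2 zc47) (kc xc17 yc51 zc29) (kc xc24 yc51 zc7) (kc xc26 yc36 zc43) (kc xc26 yc36 zc41) (kc xc11 yc51 zc29) (kc xc29 yc42 zc59) (kc xc14 yc47 zc27) (kc xc27 yc44 zc16) (kc xc28 yc29 zc18) (kc xc29 yc43 zc6) (kc xc11 yc51 zc32) (kc xc20 yc39 zc8) (kc xc11 yc51 zc31) (kc xc26 yc59 zc33) (kc xc27 yc42 zc55) (kc xc29 yc43 zc11) (kc xc11 yc51 zc35) (kc xc11 yc51 zc34)) (@D3.rec (fun _ => Pt) (kc xc29 yc43 zc15) (kc xc11 yc51 zc36) (kc xc29 yc43 zc17) (kc xc18 yc2 zc3) (kc xc11 yc51 zc38) (kc xc19 yc31 zc55) (kc xc21 yc11 zc35) (kc xc29 yc43 zc22) (kc xc11 yc51 zc40) (kc xc29 yc43 zc27) (kc xc26 yc39 zc50) (kc xc29 yc43 zc29) (kc xc15 yc27 zc12) (kc xc14 yc47 zc37) (kc xc25 yc37 zc36) (kc xc11 yc51 zc51) (kc xc16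 yc58 zc60) (kc xc26 yc57 zc25) (kc xc23 yc37 zc45) (kc xc11 yc54 zc20) (kc xc11 yc51 zc48) (kc xc25 yc38 zc9) (kc xc11 yc51 zc46) (kc xc21 yc20 zc23) (kc xc20 yc39 zc45) (kc xc11 yc51 zc47) (kc xc17 yc3 zc11) (kc xc25 yc12 zc46) (kc xc11 yc51 zc49) (kc xc29 yc13 zc17) (kc xc29 yc43 zc43) (kc xc11 yc51 zc52) (kc xc11 yc51 zc55) (kc xc29 yc43 zc46) (kc xc24 yc52 zc10) (kc xc29 yc7 zc19) (kc xc21 yc50 zc37) (kc xc26 yc13 zc53) (kc xc17 yc43 zc59) (kc xc14 yc57 zc36) (kc xc14 yc57 zc37) (kc xc16 yc0 zc12) (kc xc19 yc47 zc7) (kc xc25 yc27 zc26) (kc xc15 yc34 zc18) (kc xc22 yc37 zc14) (kc xc15 yc34 zc19) (kc xc24 yc44 zc58) (kc xc29 yc43 zc53) (kc xc17 yc43 zc31) (kc xc26 yc3 zc55) (kc xc26 yc44 zc12) (kc xc24 yc54 zc44) (kc xc25 yc43 zc45) (kc xc27 yc28 zc6) (kc xc24 yc58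 zc58) (kc xc24 yc58 zc60) (kc xc22 yc39 zc3) (kc xc16 yc15 zc29) (kc xc11 yc54 zc31) (kc xc15 yc27 zc46) (kc xc16 yc2 zc32)) (@D3.rec (fun _ => Pt) (kc xc16 yc2 zc26) (kc xc15 yc16 zc12) (kc xc25 yc6 zc20) (kc xc20 yc55 zc49) (kc xc13 yc9 zc51) (kc xc11 yc52 zc18) (kc xc25 yc36 zc60) (kc xc19 yc26 zc47) (kc xc15 yc16 zc38) (kc xc16 yc11 zc5) (kc xc15 yc30 zc5) (kc xc13 yc13 zc10) (kc xc11 yc52 zc23) (kc xc11 yc52 zc22) (kc xc12 yc56 zc6) (kc xc12 yc56 zc2) (kc xc15 yc25 zc13) (kc xc16 yc11 zc31) (kc xc15 yc25 zc15) (kc xc17 yc50 zc3) (kc xc15 yc25 zc8) (kc xc15 yc55 zc39) (kc xc25 yc19 zc16) (kc xc17 yc49 zc0) (kc xc19 yc3 zc1) (kc xc27 yc15 zc42) (kc xc21 yc0 zc14) (kc xc11 yc52 zc30) (kc xc18 yc51 zc28) (kc xc29 yc44 zc26) (kc xc27 yc15 zc41) (kc xc19 yc35 zc41) (kc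 xc11 yc52 zc31) (kc xc12 yc52 zc35) (kc xc29 yc44 zc29) (kc xc29 yc44 zc30) (kc xc20 yc59 zc0) (kc xc20 yc58 zc61) (kc xc11 yc52 zc33) (kc xc29 yc44 zc35) (kc xc12 yc4 zc35) (kc xc18 yc18 zc15) (kc xc25 yc19 zc11) (kc xc25 yc19 zc7) (kc xc29 yc43 zc38) (kc xc26 yc54 zc30) (kc xc25 yc22 zc35) (kc xc26 yc41 zc21) (kc xc12 yc57 zc61) (kc xc20 yc55 zc3) (kc xc28 yc19 zc11) (kc xc25 yc44 zc2) (kc xc25 yc44 zc0) (kc xc22 yc9 zc15) (kc xc19 yc37 zc60) (kc xc21 yc48 zc10) (kc xc11 yc52 zc47) (kc xc24 yc23 zc38) (kc xc24 yc23 zc32) (kc xc18 yc27 zc49) (kc xc18 yc27 zc21) (kc xc28 yc48 zc32)) (@D3.rec (fun _ => Pt) (kc xc15 yc37 zc12) (kc xc19 yc24 zc35) (kc xc19 yc24 zc37) (kc xc26 yc42 zc48) (kc xc26 yc9 zc50) (kc xc29 yc44 zc59) (kc xc29 yc44 zc61) (kc xc13 yc12 zc38) (kc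 xc25 yc22 zc22) (kc xc26 yc6 zc32) (kc xc24 yc17 zc14) (kc xc25 yc16 zc52) (kc xc23 yc45 zc54) (kc xc23 yc45 zc55) (kc xc15 yc24 zc34) (kc xc11 yc53 zc3) (kc xc24 yc4 zc35) (kc xc28 yc14 zc34) (kc xc25 yc36 zc58) (kc xc18 yc1 zc37) (kc xc25 yc36 zc52) (kc xc26 yc4 zc46) (kc xc29 yc45 zc13) (kc xc20 yc3 zc7) (kc xc24 yc12 zc7) (kc xc25 yc14 zc10) (kc xc29 yc45 zc21) (kc xc29 yc45 zc24) (kc xc24 yc12 zc0) (kc xc25 yc22 zc18) (kc xc19 yc24 zc51) (kc xc24 yc0 zc53) (kc xc25 yc28 zc61) (kc xc24 yc0 zc55) (kc xc23 yc47 zc50) (kc xc13 yc11 zc16) (kc xc17 yc48 zc46) (kc xc11 yc55 zc18) (kc xc13 yc11 zc17) (kc xc18 yc59 zc28) (kc xc13 yc7 zc27) (kc xc15 yc27 zc33) (kc xc29 yc45 zc44) (kc xc11 yc53 zc14) (kc xc26 yc59 zc0) (kc xc25 yc44 zc26) (kc xc25 yc21 zc1) (kc xc24 yc35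 zc9) (kc xc16 yc11 zc26) (kc xc25 yc26 zc14) (kc xc25 yc26 zc15) (kc xc18 yc51 zc29) (kc xc26 yc6 zc40) (kc xc22 yc19 zc9) (kc xc12 yc52 zc33) (kc xc24 yc32 zc24) (kc xc25 yc17 zc21) (kc xc29 yc45 zc50) (kc xc11 yc53 zc20) (kc xc13 yc8 zc61) (kc xc14 yc41 zc45) (kc xc13 yc13 zc11)) (@D3.rec (fun _ => Pt) (kc xc13 yc7 zc43) (kc xc11 yc53 zc25) (kc xc19 yc57 zc0) (kc xc11 yc53 zc29) (kc xc11 yc53 zc30) (kc xc21 yc17 zc7) (kc xc15 yc41 zc6) (kc xc16 yc2 zc18) (kc xc27 yc43 zc57) (kc xc27 yc14 zc40) (kc xc26 yc44 zc27) (kc xc29 yc46 zc0) (kc xc29 yc46 zc2) (kc xc29 yc46 zc7) (kc xc25 yc21 zc40) (kc xc29 yc46 zc9) (kc xc27 yc36 zc4) (kc xc24 yc34 zc26) (kc xc29 yc46 zc12) (kc xc11 yc53 zc37) (kc xc19 yc13 zc42) (kc xc29 yc46 zc16) (kc xc11 yc53 zc40) (kc xc19 yc8 zc46) (kc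 xc29 yc46 zc20) (kc xc11 yc53 zc42) (kc xc29 yc46 zc22) (kc xc25 yc26 zc13) (kc xc11 yc53 zc43) (kc xc25 yc52 zc44) (kc xc29 yc46 zc27) (kc xc29 yc46 zc30) (kc xc29 yc46 zc33) (kc xc25 yc52 zc49) (kc xc25 yc24 zc36) (kc xc25 yc21 zc44) (kc xc25 yc21 zc45) (kc xc28 yc39 zc0) (kc xc25 yc21 zc18) (kc xc11 yc53 zc48) (kc xc15 yc16 zc37) (kc xc24 yc23 zc36) (kc xc11 yc53 zc52) (kc xc20 yc53 zc12) (kc xc21 yc1 zc20) (kc xc19 yc14 zc20) (kc xc24 yc32 zc52) (kc xc11 yc53 zc55) (kc xc25 yc49 zc31) (kc xc24 yc33 zc32) (kc xc16 yc11 zc30) (kc xc29 yc46 zc47) (kc xc26 yc5 zc47) (kc xc25 yc21 zc37) (kc xc25 yc21 zc38) (kc xc29 yc46 zc52) (kc xc25 yc20 zc58) (kc xc11 yc53 zc57) (kc xc25 yc51 zc19) (kc xc11 yc56 zc24) (kc xc15 yc30 zc15) (kc xc24 yc37 zc15)) (@D3.rec (fun _ => Pt)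 (kc xc26 yc8 zc11) (kc xc12 yc55 zc37) (kc xc11 yc54 zc2) (kc xc13 yc45 zc53) (kc xc29 yc47 zc0) (kc xc29 yc31 zc8) (kc xc18 yc46 zc2) (kc xc11 yc54 zc6) (kc xc14 yc24 zc13) (kc xc11 yc54 zc7) (kc xc29 yc47 zc2) (kc xc18 yc46 zc3) (kc xc22 yc3 zc55) (kc xc22 yc3 zc52) (kc xc11 yc54 zc17) (kc xc26 yc58 zc53) (kc xc11 yc54 zc10) (kc xc11 yc54 zc11) (kc xc17 yc17 zc12) (kc xc29 yc47 zc10) (kc xc21 yc57 zc60) (kc xc19 yc42 zc49) (kc xc25 yc22 zc19) (kc xc25 yc22 zc20) (kc xc29 yc47 zc18) (kc xc25 yc20 zc28) (kc xc18 yc18 zc16) (kc xc19 yc55 zc6) (kc xc25 yc22 zc15) (kc xc25 yc22 zc16) (kc xc14 yc13 zc42) (kc xc25 yc20 zc4) (kc xc19 yc23 zc46) (kc xc19 yc23 zc47) (kc xc25 yc51 zc22) (kc xc22 yc21 zc30) (kc xc29 yc44 zc56) (kc xc11 yc54 zc21) (kc xc11 yc54 zc19) (kc xc25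 yc23 zc49) (kc xc19 yc32 zc46) (kc xc26 yc58 zc39) (kc xc26 yc54 zc28) (kc xc25 yc19 zc34) (kc xc25 yc52 zc33) (kc xc19 yc28 zc18) (kc xc25 yc41 zc31) (kc xc25 yc44 zc19) (kc xc17 yc52 zc35) (kc xc29 yc12 zc28) (kc xc17 yc52 zc34) (kc xc26 yc47 zc6) (kc xc26 yc47 zc7) (kc xc11 yc54 zc25) (kc xc24 yc52 zc16) (kc xc24 yc52 zc14) (kc xc29 yc47 zc40) (kc xc11 yc54 zc28) (kc xc15 yc21 zc59) (kc xc14 yc37 zc33) (kc xc11 yc54 zc30) (kc xc20 yc55 zc37)) (@D3.rec (fun _ => Pt) (kc xc20 yc55 zc36) (kc xc26 yc37 zc5) (kc xc25 yc8 zc3) (kc xc24 yc23 zc54) (kc xc24 yc24 zc2) (kc xc18 yc40 zc2) (kc xc15 yc28 zc18) (kc xc17 yc31 zc50) (kc xc25 yc23 zc5) (kc xc24 yc39 zc29) (kc xc11 yc54 zc37) (kc xc24 yc38 zc22) (kc xc16 yc46 zc46) (kc xc16 yc46 zc45) (kc xc18 yc52 zc27) (kc xc15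 yc51 zc50) (kc xc19 yc19 zc17) (kc xc24 yc54 zc20) (kc xc11 yc54 zc41) (kc xc25 yc48 zc39) (kc xc29 yc3 zc47) (kc xc27 yc56 zc40) (kc xc29 yc3 zc46) (kc xc15 yc32 zc47) (kc xc17 yc33 zc32) (kc xc21 yc2 zc14) (kc xc21 yc2 zc13) (kc xc11 yc54 zc48) (kc xc29 yc47 zc48) (kc xc11 yc54 zc49) (kc xc18 yc24 zc46) (kc xc13 yc10 zc17) (kc xc17 yc35 zc41) (kc xc29 yc48 zc1) (kc xc15 yc11 zc15) (kc xc15 yc11 zc17) (kc xc27 yc57 zc7) (kc xc27 yc56 zc53) (kc xc18 yc39 zc55) (kc xc29 yc48 zc3) (kc xc28 yc32 zc21) (kc xc19 yc7 zc4) (kc xc27 yc4 zc60) (kc xc29 yc48 zc7) (kc xc19 yc57 zc7) (kc xc22 yc4 zc27) (kc xc15 yc4 zc3) (kc xc19 yc48 zc59) (kc xc11 yc55 zc16) (kc xc11 yc55 zc3) (kc xc17 yc4 zc41) (kc xc20 yc20 zc30) (kc xc23 yc48 zc39) (kc xc23 yc4 zc14) (kc xc20 yc0 zc37) (kc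 xc15 yc50 zc50) (kc xc29 yc48 zc11) (kc xc19 yc7 zc30) (kc xc29 yc48 zc15) (kc xc29 yc48 zc17) (kc xc29 yc48 zc19) (kc xc11 yc55 zc9))
def f_c_21 : D2 → D3 → Pt := @D2.rec (fun _ => D3 → Pt) (@D3.rec (fun _ => Pt) (kc xc29 yc48 zc23) (kc xc18 yc40 zc26) (kc xc29 yc48 zc28) (kc xc21 yc1 zc49) (kc xc18 yc22 zc13) (kc xc11 yc55 zc13) (kc xc16 yc37 zc59) (kc xc21 yc1 zc18) (kc xc28 yc48 zc42) (kc xc25 yc14 zc23) (kc xc11 yc55 zc17) (kc xc27 yc59 zc48) (kc xc29 yc45 zc35) (kc xc29 yc44 zc23) (kc xc20 yc55 zc26) (kc xc29 yc28 zc12) (kc xc11 yc55 zc41) (kc xc11 yc55 zc23) (kc xc29 yc48 zc33) (kc xc26 yc6 zc23) (kc xc13 yc44 zc41) (kc xc29 yc33 zc23) (kc xc26 yc6 zc43) (kc xc15 yc33 zc57) (kc xc18 yc52 zc37) (kc xc27 yc20 zc27) (kc xc25 yc48 zc49) (kc xc25 yc29 zc0) (kc xc29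 yc22 zc61) (kc xc11 yc55 zc35) (kc xc21 yc1 zc12) (kc xc19 yc56 zc25) (kc xc25 yc59 zc56) (kc xc11 yc55 zc38) (kc xc20 yc22 zc33) (kc xc25 yc54 zc49) (kc xc20 yc29 zc52) (kc xc11 yc55 zc42) (kc xc11 yc55 zc43) (kc xc29 yc16 zc51) (kc xc11 yc55 zc47) (kc xc29 yc22 zc30) (kc xc29 yc48 zc43) (kc xc11 yc55 zc51) (kc xc28 yc29 zc23) (kc xc28 yc29 zc24) (kc xc19 yc7 zc51) (kc xc25 yc34 zc5) (kc xc24 yc57 zc57) (kc xc19 yc26 zc19) (kc xc12 yc55 zc48) (kc xc11 yc55 zc60) (kc xc11 yc56 zc1) (kc xc25 yc21 zc21) (kc xc21 yc1 zc2) (kc xc19 yc48 zc61) (kc xc21 yc1 zc19) (kc xc19 yc48 zc48) (kc xc11 yc56 zc7) (kc xc19 yc13 zc40) (kc xc17 yc34 zc19) (kc xc19 yc25 zc58)) (@D3.rec (fun _ => Pt) (kc xc11 yc56 zc10) (kc xc12 yc49 zc0) (kc xc21 yc0 zc54) (kc xc18 yc16 zc36) (kc xc11 yc56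 zc15) (kc xc29 yc48 zc49) (kc xc11 yc56 zc17) (kc xc29 yc48 zc50) (kc xc19 yc25 zc17) (kc xc29 yc48 zc53) (kc xc19 yc2 zc37) (kc xc29 yc48 zc56) (kc xc21 yc0 zc30) (kc xc29 yc48 zc58) (kc xc29 yc48 zc59) (kc xc11 yc56 zc23) (kc xc29 yc48 zc60) (kc xc12 yc44 zc58) (kc xc21 yc0 zc7) (kc xc21 yc0 zc56) (kc xc20 yc57 zc44) (kc xc12 yc56 zc1) (kc xc12 yc56 zc15) (kc xc15 yc55 zc36) (kc xc11 yc56 zc29) (kc xc22 yc56 zc24) (kc xc29 yc49 zc4) (kc xc11 yc56 zc32) (kc xc29 yc49 zc5) (kc xc12 yc44 zc55) (kc xc11 yc56 zc34) (kc xc20 yc23 zc18) (kc xc11 yc56 zc37) (kc xc15 yc56 zc22) (kc xc11 yc56 zc39) (kc xc29 yc49 zc9) (kc xc15 yc37 zc9) (kc xc11 yc56 zc41) (kc xc11 yc56 zc42) (kc xc16 yc36 zc18) (kc xc11 yc56 zc43) (kc xc21 yc48 zc12) (kc xc26 yc25 zc33) (kc xc21 yc53 zc49)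 (kc xc26 yc15 zc48) (kc xc24 yc16 zc58) (kc xc29 yc47 zc41) (kc xc19 yc24 zc31) (kc xc18 yc1 zc39) (kc xc21 yc0 zc3) (kc xc17 yc56 zc21) (kc xc12 yc29 zc14) (kc xc29 yc49 zc15) (kc xc27 yc17 zc40) (kc xc22 yc10 zc38) (kc xc16 yc27 zc15) (kc xc25 yc7 zc39) (kc xc27 yc12 zc14) (kc xc25 yc24 zc20) (kc xc15 yc16 zc20) (kc xc11 yc56 zc59) (kc xc21 yc11 zc40)) (@D3.rec (fun _ => Pt) (kc xc25 yc51 zc25) (kc xc19 yc23 zc30) (kc xc13 yc9 zc48) (kc xc16 yc27 zc3) (kc xc11 yc57 zc3) (kc xc12 yc56 zc36) (kc xc17 yc32 zc8) (kc xc11 yc57 zc5) (kc xc11 yc57 zc6) (kc xc28 yc36 zc57) (kc xc11 yc57 zc9) (kc xc14 yc21 zc30) (kc xc22 yc11 zc56) (kc xc20 yc59 zc26) (kc xc20 yc59 zc25) (kc xc28 yc4 zc2) (kc xc11 yc57 zc24) (kc xc11 yc57 zc16) (kc xc12 yc48 zc37) (kc xc28 yc48 zc34) (kc xc29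 yc5 zc32) (kc xc11 yc57 zc27) (kc xc29 yc49 zc42) (kc xc16 yc10 zc51) (kc xc25 yc20 zc29) (kc xc29 yc49 zc47) (kc xc29 yc49 zc49) (kc xc26 yc17 zc61) (kc xc11 yc57 zc20) (kc xc29 yc49 zc54) (kc xc19 yc23 zc56) (kc xc21 yc28 zc1) (kc xc11 yc57 zc23) (kc xc19 yc30 zc43) (kc xc11 yc57 zc25) (kc xc28 yc10 zc17) (kc xc11 yc57 zc36) (kc xc13 yc48 zc27) (kc xc11 yc57 zc39) (kc xc20 yc33 zc10) (kc xc15 yc4 zc43) (kc xc15 yc4 zc42) (kc xc11 yc57 zc41) (kc xc28 yc28 zc5) (kc xc28 yc28 zc7) (kc xc15 yc23 zc52) (kc xc18 yc43 zc14) (kc xc11 yc57 zc45) (kc xc15 yc11 zc29) (kc xc18 yc23 zc7) (kc xc29 yc50 zc0) (kc xc27 yc9 zc28) (kc xc21 yc13 zc3) (kc xc11 yc57 zc48) (kc xc12 yc37 zc44) (kc xc26 yc26 zc36) (kc xc25 yc18 zc18) (kc xc11 yc57 zc50) (kc xc13 yc28 zc38) (kc xc11 yc57 zc51)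 (kc xc26 yc37 zc34) (kc xc11 yc57 zc53)) (@D3.rec (fun _ => Pt) (kc xc20 yc35 zc6) (kc xc11 yc57 zc56) (kc xc18 yc21 zc3) (kc xc11 yc58 zc2) (kc xc11 yc58 zc0) (kc xc29 yc50 zc6) (kc xc21 yc30 zc16) (kc xc12 yc53 zc35) (kc xc17 yc58 zc20) (kc xc23 yc55 zc29) (kc xc20 yc33 zc53) (kc xc27 yc2 zc3) (kc xc14 yc19 zc22) (kc xc14 yc33 zc41) (kc xc11 yc58 zc14) (kc xc11 yc58 zc18) (kc xc14 yc4 zc17) (kc xc11 yc58 zc20) (kc xc14 yc8 zc36) (kc xc26 yc57 zc42) (kc xc27 yc12 zc6) (kc xc17 yc21 zc8) (kc xc16 yc6 zc48) (kc xc11 yc58 zc41) (kc xc13 yc6 zc34) (kc xc12 yc37 zc28) (kc xc12 yc37 zc36) (kc xc17 yc10 zc32) (kc xc16 yc55 zc1) (kc xc16 yc55 zc2) (kc xc16 yc47 zc31) (kc xc11 yc58 zc49) (kc xc28 yc6 zc39) (kc xc21 yc47 zc10) (kc xc15 yc20 zc36) (kc xc28 yc48 zc33) (kc xc11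 yc58 zc48) (kc xc29 yc50 zc13) (kc xc11 yc58 zc51) (kc xc15 yc31 zc34) (kc xc19 yc52 zc49) (kc xc12 yc5 zc33) (kc xc11 yc58 zc55) (kc xc17 yc59 zc2) (kc xc13 yc5 zc44) (kc xc11 yc58 zc57) (kc xc29 yc50 zc15) (kc xc11 yc58 zc59) (kc xc21 yc33 zc57) (kc xc21 yc23 zc51) (kc xc11 yc58 zc60) (kc xc21 yc51 zc23) (kc xc28 yc41 zc50) (kc xc29 yc25 zc43) (kc xc11 yc59 zc2) (kc xc17 yc0 zc7) (kc xc11 yc59 zc23) (kc xc20 yc13 zc4) (kc xc29 yc50 zc17) (kc xc11 yc59 zc8) (kc xc11 yc59 zc10) (kc xc29 yc25 zc35)) (@D3.rec (fun _ => Pt) (kc xc29 yc17 zc57) (kc xc11 yc59 zc12) (kc xc20 yc8 zc48) (kc xc11 yc59 zc21) (kc xc29 yc43 zc56) (kc xc20 yc4 zc60) (kc xc11 yc59 zc22) (kc xc14 yc49 zc8) (kc xc19 yc48 zc22) (kc xc20 yc15 zc54) (kc xc19 yc36 zc59) (kc xc11 yc59 zc29) (kc xc21 yc12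 zc34) (kc xc28 yc50 zc44) (kc xc11 yc59 zc32) (kc xc29 yc50 zc22) (kc xc27 yc41 zc48) (kc xc28 yc50 zc54) (kc xc15 yc20 zc22) (kc xc18 yc52 zc9) (kc xc21 yc5 zc24) (kc xc25 yc35 zc31) (kc xc27 yc44 zc23) (kc xc25 yc9 zc8) (kc xc26 yc24 zc44) (kc xc24 yc13 zc42) (kc xc25 yc27 zc44) (kc xc25 yc27 zc43) (kc xc22 yc10 zc48) (kc xc29 yc50 zc27) (kc xc21 yc40 zc56) (kc xc22 yc30 zc16) (kc xc21 yc34 zc21) (kc xc14 yc35 zc15) (kc xc18 yc48 zc4) (kc xc18 yc48 zc11) (kc xc11 yc59 zc55) (kc xc18 yc35 zc41) (kc xc13 yc3 zc3) (kc xc23 yc36 zc46) (kc xc18 yc46 zc49) (kc xc17 yc14 zc32) (kc xc12 yc20 zc11) (kc xc22 yc9 zc57) (kc xc14 yc1 zc18) (kc xc11 yc59 zc61) (kc xc21 yc59 zc38) (kc xc17 yc35 zc25) (kc xc12 yc0 zc0) (kc xc29 yc50 zc34) (kc xc16 yc1 zc29) (kc xc14 yc1 zc17) (kc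 xc12 yc0 zc2) (kc xc12 yc32 zc38) (kc xc12 yc0 zc6) (kc xc12 yc33 zc6) (kc xc29 yc50 zc36) (kc xc21 yc34 zc31) (kc xc27 yc19 zc56) (kc xc23 yc9 zc57) (kc xc26 yc12 zc38) (kc xc25 yc1 zc14)) (@D3.rec (fun _ => Pt) (kc xc21 yc37 zc4) (kc xc27 yc13 zc13) (kc xc12 yc59 zc17) (kc xc23 yc23 zc51) (kc xc19 yc22 zc48) (kc xc13 yc5 zc39) (kc xc13 yc2 zc6) (kc xc27 yc3 zc44) (kc xc21 yc21 zc10) (kc xc13 yc5 zc34) (kc xc17 yc14 zc58) (kc xc15 yc40 zc47) (kc xc15 yc47 zc19) (kc xc15 yc47 zc22) (kc xc29 yc50 zc50) (kc xc12 yc0 zc16) (kc xc12 yc0 zc18) (kc xc21 yc18 zc12) (kc xc24 yc42 zc44) (kc xc27 yc4 zc30) (kc xc29 yc50 zc52) (kc xc13 yc32 zc52) (kc xc25 yc7 zc36) (kc xc25 yc7 zc37) (kc xc21 yc4 zc20) (kc xc22 yc11 zc49) (kc xc18 yc48 zc10) (kc xc21 yc34 zc45) (kc xc21 yc26 zc47)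 (kc xc23 yc56 zc29) (kc xc23 yc57 zc12) (kc xc23 yc50 zc50) (kc xc23 yc50 zc49) (kc xc26 yc24 zc56) (kc xc17 yc24 zc8) (kc xc25 yc34 zc18) (kc xc25 yc54 zc50) (kc xc12 yc21 zc11) (kc xc12 yc27 zc19) (kc xc23 yc34 zc3) (kc xc12 yc0 zc32) (kc xc15 yc17 zc21) (kc xc13 yc37 zc40) (kc xc12 yc0 zc33) (kc xc28 yc19 zc5) (kc xc26 yc0 zc43) (kc xc23 yc34 zc4) (kc xc12 yc0 zc35) (kc xc17 yc27 zc49) (kc xc24 yc1 zc54) (kc xc24 yc7 zc22) (kc xc12 yc34 zc40) (kc xc21 yc16 zc28) (kc xc12 yc0 zc40) (kc xc17 yc29 zc9) (kc xc25 yc54 zc7) (kc xc25 yc54 zc15) (kc xc21 yc16 zc36) (kc xc13 yc37 zc46) (kc xc12 yc27 zc38) (kc xc21 yc18 zc22) (kc xc14 yc56 zc12)) (@D3.rec (fun _ => Pt) (kc xc12 yc0 zc54) (kc xc27 yc1 zc45) (kc xc21 yc19 zc17) (kc xc29 yc51 zc19) (kc xc25 yc4 zc6) (kc xc21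 yc27 zc3) (kc xc27 yc29 zc37) (kc xc27 yc3 zc49) (kc xc12 yc23 zc59) (kc xc13 yc16 zc18) (kc xc24 yc42 zc17) (kc xc21 yc33 zc43) (kc xc12 yc0 zc52) (kc xc14 yc9 zc56) (kc xc24 yc42 zc23) (kc xc14 yc54 zc52) (kc xc29 yc51 zc25) (kc xc27 yc30 zc54) (kc xc14 yc9 zc30) (kc xc18 yc29 zc52) (kc xc12 yc0 zc55) (kc xc27 yc1 zc21) (kc xc26 yc7 zc39) (kc xc13 yc34 zc19) (kc xc18 yc18 zc61) (kc xc13 yc26 zc37) (kc xc22 yc30 zc57) (kc xc22 yc30 zc58) (kc xc14 yc45 zc14) (kc xc29 yc51 zc30) (kc xc29 yc51 zc31) (kc xc22 yc8 zc45) (kc xc22 yc8 zc46) (kc xc29 yc51 zc32) (kc xc27 yc6 zc4) (kc xc12 yc18 zc54) (kc xc15 yc58 zc52) (kc xc27 yc25 zc29) (kc xc15 yc48 zc44) (kc xc28 yc13 zc16) (kc xc26 yc8 zc42) (kc xc29 yc51 zc38) (kc xc12 yc1 zc4) (kc xc29 yc30 zc1) (kc xc24 yc47 zc12) (kc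 xc13 yc15 zc29) (kc xc13 yc52 zc8) (kc xc13 yc52 zc9) (kc xc22 yc42 zc13) (kc xc20 yc19 zc14) (kc xc17 yc23 zc42) (kc xc12 yc41 zc1) (kc xc17 yc23 zc43) (kc xc27 yc17 zc1) (kc xc20 yc33 zc55) (kc xc22 yc51 zc7) (kc xc14 yc13 zc5) (kc xc18 yc25 zc28) (kc xc23 yc20 zc36) (kc xc25 yc57 zc21) (kc xc21 yc18 zc37) (kc xc21 yc18 zc38)) (@D3.rec (fun _ => Pt) (kc xc21 yc45 zc44) (kc xc18 yc16 zc8) (kc xc12 yc38 zc26) (kc xc26 yc11 zc19) (kc xc28 yc1 zc16) (kc xc26 yc13 zc12) (kc xc24 yc32 zc46) (kc xc27 yc31 zc51) (kc xc27 yc48 zc1) (kc xc16 yc17 zc49) (kc xc17 yc38 zc20) (kc xc16 yc16 zc32) (kc xc12 yc2 zc7) (kc xc21 yc42 zc16) (kc xc29 yc51 zc51) (kc xc22 yc2 zc6) (kc xc12 yc1 zc50) (kc xc29 yc51 zc54) (kc xc20 yc22 zc41) (kc xc26 yc46 zc34) (kc xc21 yc59 zc31) (kc xc17 yc30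 zc61) (kc xc17 yc30 zc56) (kc xc12 yc34 zc47) (kc xc12 yc34 zc38) (kc xc18 yc17 zc20) (kc xc22 yc11 zc35) (kc xc18 yc5 zc5) (kc xc13 yc19 zc29) (kc xc18 yc6 zc0) (kc xc18 yc6 zc1) (kc xc26 yc12 zc3) (kc xc21 yc32 zc4) (kc xc12 yc34 zc42) (kc xc12 yc34 zc43) (kc xc12 yc48 zc1) (kc xc21 yc32 zc3) (kc xc12 yc2 zc12) (kc xc18 yc25 zc46) (kc xc18 yc13 zc9) (kc xc12 yc32 zc14) (kc xc12 yc28 zc28) (kc xc12 yc2 zc21) (kc xc29 yc51 zc56) (kc xc29 yc51 zc57) (kc xc27 yc54 zc14) (kc xc27 yc50 zc54) (kc xc27 yc50 zc55) (kc xc27 yc54 zc12) (kc xc23 yc7 zc18) (kc xc20 yc33 zc38) (kc xc12 yc2 zc30) (kc xc14 yc35 zc14) (kc xc23 yc49 zc51) (kc xc12 yc2 zc32) (kc xc14 yc16 zc57) (kc xc20 yc7 zc45) (kc xc18 yc57 zc58) (kc xc14 yc36 zc41) (kc xc29 yc51 zc60) (kc xc12 yc2 zc35) (kc xc29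 yc38 zc29)) (@D3.rec (fun _ => Pt) (kc xc29 yc38 zc27) (kc xc25 yc50 zc57) (kc xc21 yc16 zc47) (kc xc12 yc2 zc43) (kc xc12 yc2 zc47) (kc xc21 yc45 zc16) (kc xc12 yc4 zc27) (kc xc12 yc46 zc42) (kc xc18 yc41 zc29) (kc xc28 yc1 zc15) (kc xc28 yc1 zc50) (kc xc21 yc47 zc47) (kc xc21 yc45 zc28) (kc xc21 yc18 zc60) (kc xc12 yc14 zc2) (kc xc12 yc3 zc1) (kc xc24 yc54 zc40) (kc xc25 yc57 zc50) (kc xc23 yc7 zc11) (kc xc12 yc3 zc3) (kc xc25 yc56 zc54) (kc xc20 yc23 zc17) (kc xc27 yc11 zc1) (kc xc12 yc4 zc42) (kc xc27 yc21 zc1) (kc xc14 yc55 zc28) (kc xc22 yc21 zc46) (kc xc21 yc35 zc14) (kc xc26 yc43 zc36) (kc xc12 yc3 zc16) (kc xc21 yc17 zc30) (kc xc14 yc29 zc21) (kc xc14 yc29 zc19) (kc xc21 yc46 zc31) (kc xc21 yc46 zc32) (kc xc12 yc4 zc56) (kc xc29 yc10 zc34) (kc xc14 yc29 zc24)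 (kc xc12 yc3 zc20) (kc xc22 yc45 zc22) (kc xc22 yc45 zc21) (kc xc23 yc44 zc16) (kc xc13 yc24 zc9) (kc xc29 yc52 zc10) (kc xc25 yc32 zc58) (kc xc23 yc18 zc0) (kc xc21 yc19 zc56) (kc xc13 yc1 zc13) (kc xc21 yc50 zc12) (kc xc12 yc24 zc32) (kc xc12 yc3 zc26) (kc xc29 yc49 zc36) (kc xc15 yc27 zc17) (kc xc29 yc49 zc32) (kc xc20 yc16 zc8) (kc xc29 yc52 zc14) (kc xc29 yc11 zc21) (kc xc29 yc11 zc22) (kc xc12 yc3 zc29) (kc xc27 yc44 zc54) (kc xc12 yc3 zc31) (kc xc12 yc3 zc32)) (@D3.rec (fun _ => Pt) (kc xc12 yc3 zc33) (kc xc22 yc41 zc20) (kc xc12 yc3 zc34) (kc xc20 yc24 zc17) (kc xc17 yc15 zc33) (kc xc12 yc3 zc36) (kc xc16 yc57 zc1) (kc xc26 yc55 zc27) (kc xc18 yc13 zc11) (kc xc12 yc3 zc40) (kc xc13 yc6 zc38) (kc xc17 yc53 zc21) (kc xc18 yc32 zc50) (kc xc24 yc36 zc18) (kc xc28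 yc10 zc9) (kc xc18 yc16 zc49) (kc xc29 yc18 zc13) (kc xc25 yc17 zc35) (kc xc29 yc52 zc23) (kc xc12 yc4 zc12) (kc xc18 yc47 zc5) (kc xc17 yc47 zc43) (kc xc18 yc9 zc30) (kc xc25 yc48 zc60) (kc xc19 yc57 zc8) (kc xc12 yc3 zc48) (kc xc18 yc49 zc60) (kc xc12 yc3 zc49) (kc xc21 yc9 zc59) (kc xc29 yc29 zc15) (kc xc21 yc35 zc36) (kc xc12 yc25 zc45) (kc xc24 yc53 zc7) (kc xc23 yc42 zc44) (kc xc21 yc38 zc5) (kc xc27 yc13 zc45) (kc xc25 yc51 zc44) (kc xc29 yc35 zc13) (kc xc15 yc49 zc48) (kc xc19 yc43 zc42) (kc xc21 yc41 zc8) (kc xc12 yc4 zc10) (kc xc29 yc52 zc26) (kc xc13 yc20 zc28) (kc xc15 yc55 zc58) (kc xc25 yc25 zc43) (kc xc18 yc46 zc17) (kc xc18 yc37 zc50) (kc xc12 yc28 zc31) (kc xc20 yc36 zc0) (kc xc29 yc26 zc39) (kc xc28 yc27 zc55) (kc xc18 yc22 zc33) (kc xc19 yc9 zc30)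 (kc xc26 yc42 zc5) (kc xc29 yc52 zc28) (kc xc28 yc19 zc36) (kc xc12 yc4 zc40) (kc xc29 yc52 zc30) (kc xc21 yc9 zc28) (kc xc25 yc7 zc32) (kc xc26 yc2 zc19)) (@D3.rec (fun _ => Pt) (kc xc24 yc41 zc9) (kc xc12 yc4 zc44) (kc xc21 yc33 zc27) (kc xc17 yc10 zc10) (kc xc21 yc26 zc40) (kc xc12 yc50 zc55) (kc xc12 yc4 zc54) (kc xc12 yc4 zc55) (kc xc21 yc43 zc53) (kc xc12 yc4 zc57) (kc xc21 yc34 zc5) (kc xc12 yc26 zc39) (kc xc14 yc57 zc54) (kc xc13 yc0 zc42) (kc xc14 yc57 zc56) (kc xc29 yc52 zc36) (kc xc20 yc16 zc4) (kc xc15 yc44 zc43) (kc xc12 yc5 zc0) (kc xc29 yc52 zc37) (kc xc29 yc52 zc38) (kc xc12 yc5 zc2) (kc xc12 yc5 zc4) (kc xc25 yc18 zc44) (kc xc17 yc1 zc38) (kc xc17 yc1 zc39) (kc xc12 yc5 zc18) (kc xc26 yc55 zc57) (kc xc23 yc7 zc61) (kc xc12 yc5 zc8) (kc xc18 yc11 zc31)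 (kc xc28 yc4 zc58) (kc xc29 yc52 zc49) (kc xc21 yc14 zc41) (kc xc12 yc5 zc10) (kc xc26 yc16 zc19) (kc xc27 yc44 zc24) (kc xc29 yc52 zc52) (kc xc12 yc5 zc11) (kc xc29 yc52 zc55) (kc xc29 yc52 zc54) (kc xc12 yc5 zc13) (kc xc24 yc48 zc15) (kc xc27 yc47 zc47) (kc xc29 yc52 zc61) (kc xc13 yc42 zc37) (kc xc12 yc5 zc15) (kc xc27 yc49 zc15) (kc xc29 yc53 zc7) (kc xc26 yc29 zc10) (kc xc23 yc56 zc39) (kc xc15 yc8 zc50) (kc xc22 yc20 zc3) (kc xc15 yc8 zc52) (kc xc23 yc54 zc15) (kc xc29 yc53 zc11) (kc xc29 yc52 zc43) (kc xc29 yc53 zc13) (kc xc29 yc53 zc15) (kc xc25 yc5 zc12) (kc xc13 yc31 zc30) (kc xc12 yc5 zc22)) (@D3.rec (fun _ => Pt) (kc xc29 yc53 zc17) (kc xc22 yc20 zc61) (kc xc12 yc5 zc24) (kc xc26 yc19 zc26) (kc xc26 yc30 zc53) (kc xc24 yc48 zc10) (kc xc13 yc42 zc19) (kc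 xc12 yc5 zc25) (kc xc22 yc58 zc45) (kc xc17 yc36 zc16) (kc xc19 yc9 zc44) (kc xc17 yc1 zc17) (kc xc12 yc5 zc31) (kc xc29 yc53 zc29) (kc xc29 yc52 zc46) (kc xc17 yc18 zc31) (kc xc14 yc19 zc53) (kc xc12 yc5 zc35) (kc xc29 yc24 zc19) (kc xc29 yc52 zc45) (kc xc26 yc55 zc47) (kc xc20 yc18 zc5) (kc xc29 yc52 zc42) (kc xc20 yc48 zc21) (kc xc17 yc2 zc25) (kc xc26 yc52 zc22) (kc xc29 yc30 zc35) (kc xc14 yc47 zc55) (kc xc20 yc20 zc42) (kc xc12 yc5 zc49) (kc xc29 yc53 zc35) (kc xc12 yc5 zc44) (kc xc29 yc53 zc38) (kc xc12 yc5 zc46) (kc xc14 yc38 zc28) (kc xc20 yc54 zc6) (kc xc12 yc5 zc47) (kc xc28 yc43 zc19) (kc xc24 yc56 zc44) (kc xc12 yc5 zc54) (kc xc21 yc1 zc61) (kc xc23 yc31 zc22) (kc xc21 yc33 zc15) (kc xc15 yc52 zc39) (kc xc24 yc36 zc42) (kc xc26 yc28 zc51) (kc xc26 yc28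 zc52) (kc xc12 yc5 zc55) (kc xc29 yc53 zc45) (kc xc12 yc5 zc57) (kc xc29 yc53 zc48) (kc xc29 yc53 zc47) (kc xc12 yc5 zc58) (kc xc29 yc53 zc50) (kc xc26 yc30 zc37) (kc xc29 yc53 zc51) (kc xc26 yc30 zc40) (kc xc25 yc11 zc38) (kc xc24 yc56 zc31) (kc xc12 yc6 zc1) (kc xc28 yc7 zc22) (kc xc29 yc52 zc59)) (@D3.rec (fun _ => Pt) (kc xc29 yc52 zc60) (kc xc19 yc6 zc19) (kc xc12 yc6 zc3) (kc xc29 yc53 zc54) (kc xc29 yc53 zc3) (kc xc29 yc53 zc4) (kc xc26 yc31 zc39) (kc xc25 yc34 zc13) (kc xc24 yc8 zc1) (kc xc24 yc8 zc51) (kc xc29 yc25 zc21) (kc xc17 yc57 zc24) (kc xc15 yc7 zc48) (kc xc12 yc6 zc8) (kc xc26 yc21 zc29) (kc xc26 yc21 zc30) (kc xc16 yc26 zc11) (kc xc18 yc36 zc14) (kc xc16 yc26 zc12) (kc xc12 yc6 zc15) (kc xc12 yc7 zc27) (kc xc29 yc54 zc2) (kc xc12 yc6 zc19) (kc xc19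 yc12 zc51) (kc xc16 yc52 zc55) (kc xc12 yc23 zc51) (kc xc12 yc23 zc52) (kc xc23 yc21 zc9) (kc xc12 yc6 zc28) (kc xc21 yc15 zc18) (kc xc23 yc25 zc8) (kc xc12 yc6 zc30) (kc xc29 yc54 zc5) (kc xc27 yc33 zc8) (kc xc21 yc4 zc12) (kc xc27 yc49 zc12) (kc xc12 yc7 zc10) (kc xc12 yc6 zc35) (kc xc29 yc54 zc9) (kc xc22 yc51 zc53) (kc xc17 yc49 zc24) (kc xc27 yc25 zc7) (kc xc25 yc15 zc46) (kc xc29 yc54 zc15) (kc xc16 yc14 zc58) (kc xc15 yc14 zc7) (kc xc12 yc6 zc43) (kc xc27 yc50 zc19) (kc xc18 yc35 zc61) (kc xc26 yc39 zc39) (kc xc12 yc6 zc46) (kc xc28 yc8 zc59) (kc xc29 yc54 zc23) (kc xc28 yc22 zc44) (kc xc12 yc6 zc48) (kc xc28 yc9 zc30) (kc xc17 yc46 zc35) (kc xc29 yc54 zc26) (kc xc18 yc40 zc8) (kc xc12 yc6 zc53) (kc xc23 yc17 zc11) (kc xc29 yc54 zc27)) (@D3.rec (fun _ => Pt)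 (kc xc25 yc16 zc21) (kc xc25 yc0 zc33) (kc xc16 yc26 zc50) (kc xc21 yc2 zc52) (kc xc21 yc44 zc30) (kc xc28 yc3 zc4) (kc xc13 yc16 zc35) (kc xc12 yc6 zc60) (kc xc19 yc43 zc29) (kc xc12 yc31 zc53) (kc xc19 yc52 zc38) (kc xc28 yc14 zc49) (kc xc12 yc7 zc3) (kc xc18 yc50 zc14) (kc xc12 yc7 zc1) (kc xc29 yc54 zc29) (kc xc17 yc46 zc31) (kc xc12 yc7 zc6) (kc xc24 yc25 zc27) (kc xc12 yc7 zc7) (kc xc29 yc54 zc30) (kc xc28 yc19 zc47) (kc xc29 yc54 zc8) (kc xc27 yc34 zc24) (kc xc18 yc59 zc11) (kc xc18 yc59 zc12) (kc xc27 yc50 zc4) (kc xc29 yc54 zc17) (kc xc12 yc7 zc18) (kc xc29 yc54 zc36) (kc xc19 yc41 zc44) (kc xc17 yc15 zc34) (kc xc12 yc7 zc25) (kc xc28 yc15 zc4) (kc xc29 yc54 zc38) (kc xc12 yc7 zc24) (kc xc29 yc30 zc15) (kc xc13 yc47 zc15) (kc xc13 yc26 zc59) (kc xc23 yc4 zc13)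 (kc xc29 yc54 zc46) (kc xc12 yc7 zc31) (kc xc12 yc7 zc29) (kc xc29 yc54 zc48) (kc xc22 yc19 zc2) (kc xc29 yc54 zc51) (kc xc29 yc54 zc52) (kc xc28 yc35 zc49) (kc xc19 yc41 zc51) (kc xc12 yc7 zc36) (kc xc24 yc9 zc2) (kc xc26 yc21 zc57) (kc xc16 yc23 zc61) (kc xc12 yc7 zc38) (kc xc22 yc46 zc59) (kc xc20 yc30 zc6) (kc xc29 yc54 zc61) (kc xc22 yc26 zc53) (kc xc12 yc7 zc40) (kc xc19 yc20 zc46) (kc xc12 yc7 zc42) (kc xc29 yc55 zc3)) (@D3.rec (fun _ => Pt) (kc xc29 yc55 zc1) (kc xc29 yc55 zc5) (kc xc12 yc7 zc45) (kc xc12 yc7 zc44) (kc xc29 yc48 zc4) (kc xc29 yc7 zc41) (kc xc13 yc17 zc24) (kc xc12 yc7 zc46) (kc xc29 yc55 zc8) (kc xc23 yc55 zc18) (kc xc12 yc7 zc47) (kc xc29 yc55 zc10) (kc xc12 yc7 zc49) (kc xc12 yc7 zc53) (kc xc23 yc33 zc20) (kc xc26 yc22 zc49) (kc xc13 yc20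 zc16) (kc xc14 yc42 zc40) (kc xc13 yc10 zc9) (kc xc22 yc58 zc60) (kc xc23 yc36 zc30) (kc xc26 yc22 zc48) (kc xc26 yc22 zc46) (kc xc22 yc42 zc35) (kc xc22 yc45 zc19) (kc xc14 yc12 zc39) (kc xc13 yc56 zc14) (kc xc26 yc22 zc44) (kc xc19 yc56 zc46) (kc xc23 yc3 zc21) (kc xc23 yc38 zc25) (kc xc13 yc26 zc41) (kc xc23 yc38 zc24) (kc xc23 yc29 zc58) (kc xc23 yc29 zc59) (kc xc12 yc8 zc16) (kc xc29 yc55 zc22) (kc xc12 yc22 zc49) (kc xc13 yc19 zc33) (kc xc13 yc10 zc10) (kc xc16 yc34 zc7) (kc xc21 yc10 zc33) (kc xc12 yc8 zc24) (kc xc24 yc13 zc8) (kc xc24 yc12 zc14) (kc xc13 yc4 zc56) (kc xc13 yc18 zc42) (kc xc14 yc9 zc8) (kc xc14 yc0 zc30) (kc xc12 yc23 zc3) (kc xc13 yc47 zc23) (kc xc23 yc42 zc58) (kc xc13 yc17 zc25) (kc xc23 yc42 zc59) (kc xc22 yc44 zc27) (kc xc22 yc27 zc38) (kc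 xc22 yc47 zc27) (kc xc12 yc8 zc36) (kc xc29 yc55 zc32) (kc xc27 yc47 zc52) (kc xc12 yc8 zc39) (kc xc26 yc30 zc51)) (@D3.rec (fun _ => Pt) (kc xc29 yc55 zc31) (kc xc19 yc4 zc5) (kc xc19 yc12 zc55) (kc xc12 yc8 zc46) (kc xc28 yc31 zc59) (kc xc29 yc24 zc61) (kc xc28 yc8 zc60) (kc xc29 yc25 zc4) (kc xc16 yc53 zc8) (kc xc14 yc53 zc43) (kc xc26 yc56 zc17) (kc xc13 yc52 zc52) (kc xc26 yc21 zc17) (kc xc12 yc28 zc58) (kc xc29 yc6 zc34) (kc xc12 yc9 zc0) (kc xc20 yc11 zc25) (kc xc12 yc8 zc60) (kc xc21 yc12 zc29) (kc xc20 yc0 zc48) (kc xc20 yc6 zc27) (kc xc20 yc14 zc49) (kc xc12 yc58 zc2) (kc xc20 yc1 zc16) (kc xc12 yc9 zc13) (kc xc19 yc51 zc23) (kc xc22 yc32 zc7) (kc xc26 yc51 zc34) (kc xc25 yc23 zc52) (kc xc25 yc23 zc51) (kc xc12 yc9 zc12) (kc xc28 yc20 zc54) (kc xc20 yc10 zc58)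 (kc xc17 yc8 zc45) (kc xc12 yc9 zc17) (kc xc23 yc53 zc44) (kc xc29 yc30 zc10) (kc xc29 yc8 zc7) (kc xc26 yc26 zc30) (kc xc29 yc29 zc46) (kc xc28 yc13 zc13) (kc xc12 yc9 zc37) (kc xc22 yc53 zc15) (kc xc28 yc0 zc55) (kc xc16 yc13 zc47) (kc xc20 yc26 zc9) (kc xc18 yc43 zc36) (kc xc16 yc57 zc32) (kc xc12 yc9 zc59) (kc xc12 yc10 zc0) (kc xc28 yc15 zc52) (kc xc16 yc58 zc56) (kc xc29 yc55 zc47) (kc xc24 yc6 zc22) (kc xc17 yc1 zc56) (kc xc13 yc39 zc41) (kc xc23 yc24 zc37) (kc xc22 yc35 zc29) (kc xc26 yc45 zc36) (kc xc12 yc10 zc14) (kc xc29 yc55 zc51) (kc xc12 yc10 zc17)) (@D3.rec (fun _ => Pt) (kc xc12 yc10 zc16) (kc xc20 yc45 zc57) (kc xc29 yc27 zc60) (kc xc20 yc45 zc56) (kc xc29 yc55 zc55) (kc xc21 yc37 zc36) (kc xc12 yc49 zc28) (kc xc12 yc10 zc48) (kc xc20 yc41 zc44) (kc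 xc14 yc19 zc36) (kc xc15 yc5 zc9) (kc xc28 yc37 zc39) (kc xc12 yc32 zc0) (kc xc12 yc10 zc35) (kc xc18 yc50 zc32) (kc xc29 yc52 zc21) (kc xc18 yc47 zc46) (kc xc20 yc25 zc46) (kc xc20 yc13 zc59) (kc xc21 yc53 zc54) (kc xc13 yc0 zc35) (kc xc27 yc3 zc52) (kc xc22 yc9 zc56) (kc xc18 yc20 zc50) (kc xc29 yc51 zc44) (kc xc21 yc17 zc26) (kc xc20 yc34 zc13) (kc xc27 yc19 zc33) (kc xc21 yc5 zc52) (kc xc12 yc13 zc1) (kc xc26 yc38 zc35) (kc xc27 yc19 zc3) (kc xc27 yc18 zc52) (kc xc12 yc11 zc17) (kc xc29 yc56 zc3) (kc xc29 yc56 zc5) (kc xc21 yc5 zc57) (kc xc24 yc53 zc12) (kc xc26 yc35 zc11) (kc xc27 yc8 zc5) (kc xc13 yc22 zc50) (kc xc25 yc8 zc11) (kc xc12 yc11 zc21) (kc xc28 yc58 zc30) (kc xc12 yc11 zc23) (kc xc19 yc14 zc18) (kc xc12 yc11 zc24) (kc xc21 yc8 zc2) (kc xc12 yc11 zc25)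 (kc xc29 yc56 zc11) (kc xc12 yc11 zc27) (kc xc12 yc11 zc28) (kc xc22 yc1 zc54) (kc xc26 yc34 zc32) (kc xc12 yc28 zc7) (kc xc12 yc11 zc34) (kc xc12 yc15 zc38) (kc xc21 yc58 zc16) (kc xc26 yc34 zc2) (kc xc12 yc17 zc13) (kc xc29 yc56 zc14) (kc xc12 yc26 zc45)) (@D3.rec (fun _ => Pt) (kc xc29 yc56 zc13) (kc xc21 yc56 zc6) (kc xc29 yc56 zc12) (kc xc27 yc31 zc35) (kc xc28 yc19 zc9) (kc xc12 yc12 zc9) (kc xc19 yc17 zc25) (kc xc20 yc57 zc5) (kc xc25 yc10 zc10) (kc xc12 yc11 zc41) (kc xc29 yc56 zc27) (kc xc25 yc28 zc56) (kc xc25 yc28 zc57) (kc xc22 yc27 zc55) (kc xc23 yc39 zc50) (kc xc22 yc27 zc56) (kc xc19 yc46 zc20) (kc xc17 yc44 zc5) (kc xc17 yc44 zc6) (kc xc16 yc18 zc5) (kc xc24 yc40 zc16) (kc xc16 yc0 zc36) (kc xc29 yc56 zc40) (kc xc26 yc15 zc11) (kc xc21 yc37 zc11) (kc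 xc29 yc56 zc45) (kc xc21 yc16 zc25) (kc xc25 yc41 zc51) (kc xc21 yc34 zc17) (kc xc29 yc56 zc49) (kc xc21 yc8 zc30) (kc xc21 yc26 zc16) (kc xc29 yc56 zc51) (kc xc21 yc23 zc29) (kc xc29 yc52 zc19) (kc xc29 yc56 zc53) (kc xc29 yc49 zc35) (kc xc12 yc11 zc54) (kc xc29 yc56 zc58) (kc xc29 yc57 zc1) (kc xc17 yc10 zc29) (kc xc29 yc57 zc4) (kc xc29 yc57 zc5) (kc xc24 yc17 zc17) (kc xc27 yc7 zc57) (kc xc12 yc11 zc60) (kc xc12 yc12 zc1) (kc xc12 yc12 zc3) (kc xc21 yc58 zc41) (kc xc21 yc58 zc44) (kc xc16 yc17 zc53) (kc xc29 yc57 zc8) (kc xc21 yc46 zc45) (kc xc12 yc12 zc7) (kc xc29 yc57 zc11) (kc xc12 yc12 zc8) (kc xc21 yc19 zc44) (kc xc21 yc34 zc4) (kc xc21 yc34 zc34) (kc xc29 yc57 zc18) (kc xc12 yc12 zc15) (kc xc12 yc12 zc16)) (@D3.rec (fun _ => Pt) (kc xc25 yc33 zc29) (kc xc29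 yc57 zc19) (kc xc29 yc57 zc21) (kc xc12 yc12 zc18) (kc xc29 yc57 zc24) (kc xc21 yc43 zc37) (kc xc21 yc44 zc42) (kc xc29 yc57 zc25) (kc xc14 yc21 zc23) (kc xc12 yc12 zc20) (kc xc22 yc15 zc59) (kc xc12 yc59 zc6) (kc xc21 yc5 zc17) (kc xc12 yc21 zc22) (kc xc29 yc57 zc35) (kc xc29 yc56 zc31) (kc xc25 yc30 zc26) (kc xc29 yc57 zc40) (kc xc21 yc24 zc32) (kc xc20 yc21 zc60) (kc xc21 yc34 zc1) (kc xc21 yc39 zc59) (kc xc21 yc5 zc60) (kc xc26 yc5 zc22) (kc xc21 yc37 zc7) (kc xc25 yc42 zc53) (kc xc21 yc19 zc18) (kc xc16 yc54 zc34) (kc xc12 yc28 zc59) (kc xc29 yc57 zc49) (kc xc27 yc27 zc19) (kc xc21 yc33 zc39) (kc xc25 yc14 zc35) (kc xc12 yc27 zc15) (kc xc20 yc52 zc14) (kc xc12 yc12 zc49) (kc xc19 yc32 zc29) (kc xc21 yc6 zc60) (kc xc21 yc6 zc61) (kc xc12 yc45 zc17) (kc xc20 yc19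 zc58) (kc xc12 yc38 zc48) (kc xc12 yc38 zc49) (kc xc12 yc46 zc28) (kc xc20 yc15 zc58) (kc xc12 yc12 zc58) (kc xc15 yc37 zc49) (kc xc26 yc46 zc61) (kc xc12 yc45 zc40) (kc xc19 yc35 zc42) (kc xc22 yc2 zc13) (kc xc12 yc12 zc60) (kc xc18 yc43 zc58) (kc xc17 yc17 zc13) (kc xc28 yc25 zc9) (kc xc12 yc13 zc2) (kc xc21 yc22 zc52) (kc xc25 yc58 zc19) (kc xc17 yc44 zc14) (kc xc12 yc42 zc53) (kc xc21 yc8 zc13) (kc xc27 yc29 zc38)) (@D3.rec (fun _ => Pt) (kc xc12 yc13 zc35) (kc xc27 yc11 zc2) (kc xc29 yc58 zc0) (kc xc27 yc17 zc43) (kc xc21 yc27 zc11) (kc xc29 yc58 zc5) (kc xc15 yc35 zc23) (kc xc13 yc56 zc39) (kc xc24 yc44 zc6) (kc xc23 yc35 zc46) (kc xc25 yc39 zc12) (kc xc23 yc34 zc27) (kc xc21 yc19 zc26) (kc xc27 yc23 zc28) (kc xc27 yc1 zc38) (kc xc17 yc28 zc4) (kc xc29 yc58 zc13)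 (kc xc21 yc6 zc2) (kc xc21 yc18 zc26) (kc xc12 yc33 zc28) (kc xc29 yc58 zc19) (kc xc17 yc35 zc26) (kc xc29 yc58 zc22) (kc xc17 yc35 zc23) (kc xc13 yc25 zc39) (kc xc23 yc40 zc11) (kc xc21 yc19 zc12) (kc xc22 yc43 zc37) (kc xc12 yc13 zc30) (kc xc29 yc58 zc33) (kc xc29 yc58 zc35) (kc xc29 yc58 zc31) (kc xc21 yc22 zc28) (kc xc21 yc46 zc46) (kc xc24 yc42 zc0) (kc xc12 yc13 zc33) (kc xc24 yc43 zc21) (kc xc29 yc22 zc18) (kc xc21 yc42 zc45) (kc xc14 yc36 zc34) (kc xc12 yc36 zc11) (kc xc12 yc13 zc36) (kc xc21 yc42 zc46) (kc xc16 yc6 zc29) (kc xc21 yc17 zc56) (kc xc12 yc48 zc39) (kc xc29 yc58 zc39) (kc xc12 yc13 zc41) (kc xc29 yc58 zc41) (kc xc29 yc58 zc40) (kc xc29 yc58 zc43) (kc xc12 yc13 zc43) (kc xc22 yc23 zc13) (kc xc13 yc0 zc45) (kc xc19 yc14 zc49) (kc xc29 yc51 zc22) (kc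 xc21 yc8 zc46) (kc xc13 yc49 zc3) (kc xc13 yc13 zc46) (kc xc12 yc13 zc50) (kc xc29 yc50 zc58) (kc xc22 yc9 zc16)) (@D3.rec (fun _ => Pt) (kc xc29 yc58 zc46) (kc xc29 yc58 zc50) (kc xc13 yc26 zc24) (kc xc12 yc13 zc52) (kc xc21 yc42 zc17) (kc xc12 yc13 zc54) (kc xc18 yc17 zc21) (kc xc28 yc19 zc7) (kc xc21 yc36 zc27) (kc xc13 yc9 zc9) (kc xc29 yc58 zc52) (kc xc12 yc14 zc11) (kc xc26 yc55 zc15) (kc xc27 yc31 zc40) (kc xc21 yc35 zc47) (kc xc15 yc27 zc9) (kc xc24 yc43 zc48) (kc xc14 yc35 zc38) (kc xc29 yc58 zc53) (kc xc18 yc0 zc11) (kc xc12 yc14 zc21) (kc xc29 yc58 zc54) (kc xc12 yc14 zc22) (kc xc20 yc54 zc23) (kc xc12 yc49 zc61) (kc xc20 yc2 zc7) (kc xc20 yc22 zc60) (kc xc26 yc33 zc11) (kc xc12 yc32 zc37) (kc xc20 yc51 zc35) (kc xc22 yc37 zc22) (kc xc27 yc21 zc29) (kc xc27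 yc14 zc26) (kc xc17 yc18 zc47) (kc xc20 yc33 zc0) (kc xc15 yc17 zc12) (kc xc12 yc14 zc47) (kc xc18 yc38 zc11) (kc xc18 yc7 zc20) (kc xc23 yc30 zc48) (kc xc18 yc17 zc12) (kc xc29 yc58 zc56) (kc xc13 yc20 zc18) (kc xc25 yc51 zc50) (kc xc17 yc20 zc44) (kc xc26 yc39 zc48) (kc xc14 yc23 zc30) (kc xc26 yc38 zc4) (kc xc19 yc46 zc26) (kc xc29 yc58 zc57) (kc xc18 yc24 zc11) (kc xc20 yc51 zc47) (kc xc17 yc56 zc40) (kc xc29 yc58 zc58) (kc xc27 yc44 zc48) (kc xc16 yc37 zc5) (kc xc29 yc58 zc59) (kc xc12 yc15 zc35) (kc xc26 yc59 zc24) (kc xc12 yc15 zc37) (kc xc12 yc15 zc39) (kc xc29 yc58 zc61)) (@D3.rec (fun _ => Pt) (kc xc29 yc59 zc0) (kc xc21 yc42 zc47) (kc xc28 yc11 zc29) (kc xc28 yc56 zc51) (kc xc25 yc9 zc57) (kc xc12 yc15 zc52) (kc xc26 yc38 zc34) (kc xc12 yc21 zc23) (kc xc19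 yc45 zc48) (kc xc29 yc59 zc5) (kc xc21 yc5 zc8) (kc xc27 yc1 zc34) (kc xc12 yc59 zc54) (kc xc21 yc41 zc3) (kc xc13 yc0 zc33) (kc xc18 yc9 zc61) (kc xc29 yc18 zc11) (kc xc22 yc12 zc5) (kc xc12 yc16 zc21) (kc xc24 yc57 zc60) (kc xc25 yc45 zc33) (kc xc29 yc59 zc8) (kc xc29 yc59 zc9) (kc xc29 yc59 zc10) (kc xc12 yc16 zc20) (kc xc29 yc59 zc14) (kc xc28 yc52 zc54) (kc xc12 yc16 zc22) (kc xc29 yc49 zc19) (kc xc29 yc44 zc51) (kc xc12 yc16 zc23) (kc xc25 yc22 zc51) (kc xc12 yc41 zc47) (kc xc12 yc41 zc48) (kc xc18 yc1 zc7) (kc xc21 yc43 zc30) (kc xc12 yc16 zc25) (kc xc21 yc52 zc34) (kc xc29 yc59 zc25) (kc xc12 yc16 zc27) (kc xc25 yc51 zc1) (kc xc25 yc29 zc35) (kc xc12 yc43 zc19) (kc xc27 yc7 zc37) (kc xc29 yc59 zc20) (kc xc12 yc16 zc32) (kc xc16 yc5 zc21) (kc xc23 yc22 zc10)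 (kc xc29 yc59 zc19) (kc xc29 yc59 zc17) (kc xc29 yc59 zc15) (kc xc20 yc28 zc31) (kc xc12 yc16 zc40) (kc xc27 yc18 zc47) (kc xc12 yc16 zc42) (kc xc12 yc16 zc37) (kc xc29 yc59 zc35) (kc xc20 yc42 zc30) (kc xc12 yc29 zc48) (kc xc21 yc39 zc60) (kc xc21 yc40 zc1) (kc xc24 yc10 zc5)) (@D3.rec (fun _ => Pt) (kc xc12 yc16 zc47) (kc xc17 yc40 zc15) (kc xc24 yc10 zc26) (kc xc20 yc17 zc17) (kc xc20 yc34 zc53) (kc xc12 yc16 zc51) (kc xc14 yc20 zc56) (kc xc19 yc26 zc51) (kc xc21 yc38 zc47) (kc xc24 yc14 zc20) (kc xc12 yc16 zc53) (kc xc20 yc45 zc15) (kc xc21 yc45 zc24) (kc xc13 yc5 zc43) (kc xc20 yc48 zc47) (kc xc27 yc10 zc59) (kc xc29 yc28 zc10) (kc xc14 yc54 zc3) (kc xc17 yc31 zc17) (kc xc29 yc22 zc46) (kc xc27 yc19 zc53) (kc xc12 yc17 zc17) (kc xc29 yc59 zc46) (kc xc12 yc17 zc0)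 (kc xc24 yc10 zc48) (kc xc17 yc5 zc40) (kc xc28 yc1 zc10) (kc xc28 yc1 zc9) (kc xc21 yc19 zc32) (kc xc26 yc46 zc37) (kc xc26 yc13 zc8) (kc xc25 yc10 zc0) (kc xc12 yc17 zc11) (kc xc28 yc35 zc60) (kc xc25 yc55 zc20) (kc xc25 yc55 zc15) (kc xc29 yc56 zc21) (kc xc27 yc19 zc47) (kc xc21 yc46 zc41) (kc xc12 yc17 zc15) (kc xc19 yc28 zc15) (kc xc24 yc36 zc15) (kc xc12 yc17 zc16) (kc xc20 yc46 zc26) (kc xc24 yc39 zc22) (kc xc12 yc17 zc18) (kc xc22 yc43 zc45) (kc xc12 yc17 zc22) (kc xc15 yc46 zc38) (kc xc12 yc26 zc59) (kc xc17 yc9 zc59) (kc xc12 yc17 zc27) (kc xc21 yc18 zc56) (kc xc17 yc58 zc2) (kc xc27 yc19 zc30) (kc xc12 yc52 zc56) (kc xc21 yc40 zc0) (kc xc12 yc39 zc57) (kc xc27 yc19 zc51) (kc xc12 yc17 zc51) (kc xc15 yc37 zc60) (kc xc12 yc17 zc53)) (@D3.rec (fun _ => Pt) (kc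 xc12 yc17 zc38) (kc xc27 yc28 zc13) (kc xc12 yc17 zc54) (kc xc14 yc35 zc56) (kc xc21 yc58 zc56) (kc xc12 yc17 zc49) (kc xc24 yc37 zc44) (kc xc28 yc44 zc56) (kc xc12 yc17 zc50) (kc xc24 yc37 zc47) (kc xc22 yc11 zc11) (kc xc23 yc22 zc42) (kc xc27 yc24 zc37) (kc xc14 yc47 zc58) (kc xc14 yc47 zc59) (kc xc16 yc14 zc20) (kc xc12 yc18 zc0) (kc xc22 yc11 zc10) (kc xc27 yc29 zc18) (kc xc12 yc17 zc58) (kc xc24 yc35 zc37) (kc xc29 yc39 zc0) (kc xc23 yc13 zc16) (kc xc12 yc17 zc59) (kc xc22 yc10 zc5) (kc xc22 yc10 zc10) (kc xc12 yc18 zc3) (kc xc25 yc11 zc61) (kc xc12 yc19 zc35) (kc xc21 yc17 zc33) (kc xc12 yc18 zc1) (kc xc27 yc44 zc30) (kc xc29 yc59 zc60) (kc xc12 yc18 zc4) (kc xc12 yc18 zc5) (kc xc30 yc0 zc1) (kc xc12 yc18 zc6) (kc xc25 yc19 zc31) (kc xc25 yc38 zc12) (kc xc30 yc0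 zc3) (kc xc25 yc11 zc11) (kc xc12 yc18 zc8) (kc xc29 yc34 zc34) (kc xc25 yc26 zc34) (kc xc21 yc59 zc25) (kc xc12 yc18 zc11) (kc xc19 yc5 zc33) (kc xc12 yc18 zc12) (kc xc13 yc0 zc12) (kc xc21 yc59 zc26) (kc xc12 yc50 zc21) (kc xc21 yc3 zc49) (kc xc24 yc18 zc31) (kc xc12 yc18 zc17) (kc xc25 yc26 zc33) (kc xc12 yc18 zc16) (kc xc15 yc28 zc43) (kc xc21 yc34 zc33) (kc xc24 yc41 zc37) (kc xc25 yc47 zc24) (kc xc12 yc18 zc19) (kc xc12 yc18 zc20)) (@D3.rec (fun _ => Pt) (kc xc22 yc16 zc37) (kc xc12 yc18 zc21) (kc xc22 yc19 zc56) (kc xc13 yc10 zc42) (kc xc12 yc18 zc22) (kc xc25 yc44 zc45) (kc xc16 yc9 zc3) (kc xc12 yc18 zc28) (kc xc24 yc50 zc29) (kc xc12 yc18 zc24) (kc xc25 yc50 zc61) (kc xc30 yc0 zc13) (kc xc28 yc15 zc60) (kc xc30 yc0 zc14) (kc xc12 yc18 zc25) (kc xc30 yc0 zc16)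 (kc xc19 yc42 zc42) (kc xc15 yc4 zc36) (kc xc30 yc0 zc18) (kc xc28 yc27 zc40) (kc xc23 yc1 zc53) (kc xc30 yc0 zc21) (kc xc17 yc14 zc19) (kc xc16 yc15 zc21) (kc xc22 yc8 zc49) (kc xc23 yc22 zc25) (kc xc29 yc49 zc40) (kc xc14 yc6 zc8) (kc xc14 yc21 zc20) (kc xc30 yc0 zc30) (kc xc24 yc30 zc44) (kc xc27 yc1 zc40) (kc xc21 yc18 zc18) (kc xc22 yc9 zc5) (kc xc22 yc10 zc27) (kc xc23 yc26 zc38) (kc xc16 yc9 zc12) (kc xc30 yc0 zc35) (kc xc12 yc18 zc45) (kc xc14 yc55 zc13) (kc xc30 yc0 zc36) (kc xc12 yc18 zc47) (kc xc30 yc0 zc46) (kc xc30 yc0 zc47) (kc xc30 yc0 zc45) (kc xc21 yc27 zc56) (kc xc15 yc48 zc40) (kc xc17 yc16 zc29) (kc xc13 yc53 zc32) (kc xc21 yc24 zc58) (kc xc21 yc34 zc52) (kc xc21 yc34 zc50) (kc xc22 yc44 zc48) (kc xc23 yc36 zc22) (kc xc25 yc37 zc40) (kc xc14 yc46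 zc17) (kc xc21 yc31 zc32) (kc xc12 yc18 zc55) (kc xc21 yc24 zc49) (kc xc15 yc39 zc59) (kc xc15 yc39 zc60) (kc xc21 yc39 zc35)) (@D3.rec (fun _ => Pt) (kc xc22 yc15 zc50) (kc xc13 yc13 zc41) (kc xc26 yc15 zc21) (kc xc24 yc43 zc8) (kc xc27 yc4 zc27) (kc xc27 yc4 zc28) (kc xc30 yc0 zc52) (kc xc21 yc55 zc41) (kc xc14 yc44 zc42) (kc xc23 yc14 zc31) (kc xc13 yc26 zc26) (kc xc26 yc4 zc15) (kc xc21 yc27 zc41) (kc xc30 yc0 zc55) (kc xc13 yc2 zc46) (kc xc13 yc26 zc14) (kc xc17 yc19 zc28) (kc xc12 yc19 zc12) (kc xc22 yc28 zc1) (kc xc25 yc44 zc60) (kc xc23 yc2 zc41) (kc xc22 yc28 zc2) (kc xc23 yc2 zc40) (kc xc30 yc0 zc37) (kc xc21 yc55 zc50) (kc xc30 yc1 zc2) (kc xc12 yc19 zc15) (kc xc23 yc32 zc58) (kc xc30 yc1 zc4) (kc xc13 yc13 zc36) (kc xc21 yc55 zc43) (kc xc13 yc2 zc40) (kc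 xc22 yc17 zc55) (kc xc22 yc17 zc56) (kc xc30 yc1 zc8) (kc xc14 yc4 zc20) (kc xc12 yc19 zc40) (kc xc12 yc19 zc22) (kc xc26 yc14 zc38) (kc xc22 yc8 zc19) (kc xc25 yc7 zc6) (kc xc22 yc10 zc26) (kc xc15 yc33 zc28) (kc xc15 yc33 zc26) (kc xc21 yc26 zc49) (kc xc15 yc35 zc37) (kc xc14 yc9 zc21) (kc xc22 yc15 zc19) (kc xc14 yc9 zc22) (kc xc12 yc19 zc33) (kc xc23 yc36 zc61) (kc xc12 yc38 zc27) (kc xc27 yc45 zc15) (kc xc24 yc45 zc43) (kc xc12 yc19 zc36) (kc xc27 yc56 zc22) (kc xc18 yc37 zc11) (kc xc12 yc40 zc44) (kc xc12 yc19 zc39) (kc xc27 yc48 zc15) (kc xc12 yc19 zc46) (kc xc27 yc18 zc20)) (@D3.rec (fun _ => Pt) (kc xc25 yc33 zc14) (kc xc22 yc11 zc1) (kc xc22 yc28 zc16) (kc xc12 yc20 zc4) (kc xc22 yc45 zc51) (kc xc22 yc45 zc50) (kc xc22 yc28 zc10) (kc xc22 yc8 zc2) (kc xc27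 yc46 zc3) (kc xc12 yc20 zc8) (kc xc12 yc52 zc37) (kc xc18 yc56 zc50) (kc xc27 yc3 zc14) (kc xc21 yc32 zc34) (kc xc18 yc14 zc15) (kc xc21 yc39 zc16) (kc xc21 yc17 zc31) (kc xc30 yc1 zc3) (kc xc26 yc16 zc45) (kc xc30 yc1 zc20) (kc xc18 yc17 zc14) (kc xc27 yc31 zc3) (kc xc12 yc20 zc5) (kc xc26 yc14 zc43) (kc xc21 yc26 zc42) (kc xc12 yc20 zc6) (kc xc20 yc37 zc57) (kc xc24 yc19 zc59) (kc xc15 yc45 zc14) (kc xc22 yc9 zc29) (kc xc12 yc20 zc15) (kc xc22 yc10 zc51) (kc xc21 yc58 zc40) (kc xc21 yc58 zc37) (kc xc20 yc51 zc20) (kc xc21 yc34 zc44) (kc xc22 yc10 zc50) (kc xc27 yc32 zc17) (kc xc12 yc20 zc21) (kc xc24 yc42 zc29) (kc xc21 yc10 zc4) (kc xc12 yc29 zc49) (kc xc21 yc26 zc24) (kc xc12 yc20 zc32) (kc xc12 yc59 zc13) (kc xc17 yc10 zc25) (kc xc16 yc16 zc40) (kc xc21 yc5 zc28)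 (kc xc18 yc14 zc57) (kc xc21 yc25 zc44) (kc xc12 yc20 zc40) (kc xc28 yc16 zc19) (kc xc18 yc14 zc56) (kc xc22 yc8 zc58) (kc xc26 yc50 zc16) (kc xc29 yc0 zc17) (kc xc12 yc20 zc45) (kc xc17 yc37 zc18) (kc xc12 yc20 zc46) (kc xc15 yc43 zc32) (kc xc17 yc55 zc42) (kc xc30 yc1 zc26)) (@D3.rec (fun _ => Pt) (kc xc28 yc18 zc6) (kc xc30 yc1 zc27) (kc xc30 yc1 zc28) (kc xc21 yc6 zc5) (kc xc23 yc27 zc35) (kc xc17 yc14 zc48) (kc xc16 yc19 zc13) (kc xc16 yc19 zc12) (kc xc23 yc22 zc20) (kc xc22 yc11 zc43) (kc xc25 yc38 zc55) (kc xc21 yc19 zc4) (kc xc12 yc21 zc0) (kc xc30 yc1 zc31) (kc xc12 yc21 zc14) (kc xc12 yc21 zc3) (kc xc25 yc44 zc11) (kc xc21 yc34 zc53) (kc xc21 yc31 zc26) (kc xc22 yc16 zc16) (kc xc29 yc59 zc32) (kc xc12 yc21 zc6) (kc xc29 yc59 zc2) (kc xc29 yc59 zc3) (kc xc29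 yc4 zc48) (kc xc17 yc35 zc11) (kc xc22 yc8 zc60) (kc xc23 yc36 zc26) (kc xc27 yc18 zc29) (kc xc12 yc21 zc10) (kc xc25 yc44 zc49) (kc xc25 yc48 zc35) (kc xc27 yc18 zc30) (kc xc12 yc21 zc13) (kc xc18 yc17 zc40) (kc xc21 yc55 zc33) (kc xc12 yc21 zc15) (kc xc30 yc1 zc49) (kc xc28 yc57 zc39) (kc xc12 yc21 zc16) (kc xc25 yc54 zc55) (kc xc21 yc25 zc12) (kc xc17 yc37 zc39) (kc xc30 yc1 zc50) (kc xc26 yc1 zc4) (kc xc27 yc4 zc53) (kc xc24 yc58 zc6) (kc xc30 yc1 zc54) (kc xc12 yc21 zc21) (kc xc30 yc1 zc57) (kc xc29 yc50 zc41) (kc xc29 yc59 zc1) (kc xc15 yc46 zc58) (kc xc13 yc22 zc1) (kc xc12 yc21 zc25) (kc xc13 yc25 zc61) (kc xc21 yc24 zc45) (kc xc25 yc44 zc10) (kc xc12 yc21 zc44) (kc xc12 yc21 zc28) (kc xc25 yc37 zc6) (kc xc18 yc24 zc47)) (@D3.rec (fun _ => Pt) (kc xc27 yc38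 zc55) (kc xc21 yc2 zc31) (kc xc14 yc15 zc49) (kc xc30 yc2 zc7) (kc xc13 yc47 zc31) (kc xc27 yc5 zc2) (kc xc30 yc2 zc9) (kc xc28 yc27 zc39) (kc xc30 yc2 zc10) (kc xc30 yc2 zc12) (kc xc30 yc2 zc15) (kc xc12 yc21 zc33) (kc xc30 yc2 zc20) (kc xc24 yc41 zc6) (kc xc30 yc2 zc23) (kc xc12 yc21 zc36) (kc xc23 yc17 zc20) (kc xc23 yc1 zc55) (kc xc23 yc1 zc54) (kc xc29 yc52 zc17) (kc xc29 yc2 zc33) (kc xc12 yc21 zc41) (kc xc30 yc2 zc28) (kc xc30 yc2 zc27) (kc xc29 yc52 zc18) (kc xc12 yc21 zc43) (kc xc20 yc35 zc2) (kc xc21 yc37 zc32) (kc xc12 yc21 zc45) (kc xc26 yc1 zc50) (kc xc18 yc5 zc2) (kc xc12 yc21 zc46) (kc xc18 yc21 zc39) (kc xc12 yc21 zc52) (kc xc21 yc35 zc48) (kc xc12 yc21 zc53) (kc xc12 yc53 zc6) (kc xc12 yc21 zc54) (kc xc26 yc14 zc57) (kc xc16 yc33 zc3) (kc xc12 yc21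 zc56) (kc xc29 yc38 zc17) (kc xc17 yc12 zc49) (kc xc18 yc21 zc8) (kc xc21 yc44 zc7) (kc xc27 yc58 zc50) (kc xc12 yc21 zc61) (kc xc14 yc26 zc43) (kc xc12 yc22 zc3) (kc xc19 yc49 zc4) (kc xc26 yc22 zc5) (kc xc17 yc15 zc7) (kc xc17 yc15 zc23) (kc xc20 yc49 zc13) (kc xc12 yc22 zc10) (kc xc27 yc9 zc38) (kc xc14 yc6 zc51) (kc xc26 yc27 zc6) (kc xc26 yc27 zc7) (kc xc17 yc21 zc54) (kc xc17 yc21 zc55) (kc xc12 yc22 zc16)) (@D3.rec (fun _ => Pt) (kc xc20 yc20 zc5) (kc xc12 yc22 zc20) (kc xc12 yc46 zc8) (kc xc20 yc52 zc19) (kc xc19 yc43 zc59) (kc xc25 yc16 zc51) (kc xc17 yc9 zc5) (kc xc14 yc8 zc29) (kc xc30 yc2 zc39) (kc xc20 yc24 zc24) (kc xc12 yc22 zc26) (kc xc20 yc17 zc28) (kc xc12 yc22 zc30) (kc xc24 yc24 zc1) (kc xc16 yc31 zc42) (kc xc16 yc31 zc43) (kc xc21 yc38 zc22) (kc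 xc13 yc55 zc30) (kc xc15 yc29 zc43) (kc xc26 yc6 zc31) (kc xc19 yc18 zc33) (kc xc13 yc55 zc24) (kc xc12 yc22 zc38) (kc xc29 yc18 zc22) (kc xc30 yc2 zc50) (kc xc14 yc8 zc40) (kc xc28 yc12 zc29) (kc xc16 yc26 zc42) (kc xc13 yc55 zc29) (kc xc30 yc2 zc54) (kc xc12 yc22 zc42) (kc xc25 yc3 zc59) (kc xc21 yc35 zc20) (kc xc13 yc55 zc27) (kc xc12 yc22 zc46) (kc xc24 yc36 zc46) (kc xc20 yc47 zc31) (kc xc13 yc57 zc57) (kc xc17 yc15 zc22) (kc xc30 yc2 zc37) (kc xc13 yc57 zc55) (kc xc17 yc15 zc24) (kc xc13 yc57 zc59) (kc xc13 yc57 zc58) (kc xc16 yc25 zc17) (kc xc21 yc29 zc49) (kc xc12 yc22 zc55) (kc xc12 yc22 zc53) (kc xc28 yc43 zc54) (kc xc21 yc29 zc45) (kc xc14 yc8 zc28) (kc xc15 yc0 zc13) (kc xc20 yc25 zc42) (kc xc30 yc3 zc5) (kc xc12 yc22 zc61) (kc xc12 yc22 zc58) (kc xc30 yc3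 zc7) (kc xc30 yc3 zc8) (kc xc12 yc22 zc60) (kc xc30 yc3 zc11) (kc xc22 yc45 zc45) (kc xc20 yc46 zc34)) (@D3.rec (fun _ => Pt) (kc xc23 yc14 zc11) (kc xc12 yc23 zc8) (kc xc15 yc55 zc51) (kc xc30 yc3 zc15) (kc xc16 yc10 zc23) (kc xc12 yc23 zc7) (kc xc27 yc40 zc45) (kc xc16 yc0 zc10) (kc xc29 yc31 zc61) (kc xc16 yc48 zc42) (kc xc14 yc6 zc34) (kc xc14 yc26 zc54) (kc xc19 yc53 zc11) (kc xc18 yc22 zc45) (kc xc27 yc57 zc51) (kc xc27 yc0 zc57) (kc xc21 yc3 zc6) (kc xc24 yc52 zc49) (kc xc30 yc3 zc18) (kc xc20 yc26 zc51) (kc xc12 yc23 zc20) (kc xc20 yc5 zc8) (kc xc19 yc53 zc25) (kc xc27 yc19 zc32) (kc xc25 yc48 zc55) (kc xc29 yc25 zc37) (kc xc25 yc49 zc0) (kc xc25 yc7 zc41) (kc xc25 yc7 zc40) (kc xc12 yc23 zc29) (kc xc27 yc4 zc59) (kc xc25 yc27 zc27) (kc xc12 yc23 zc32) (kc xc20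 yc6 zc43) (kc xc20 yc27 zc52) (kc xc12 yc43 zc60) (kc xc28 yc49 zc47) (kc xc12 yc23 zc34) (kc xc22 yc4 zc9) (kc xc12 yc44 zc43) (kc xc25 yc15 zc24) (kc xc12 yc23 zc42) (kc xc20 yc18 zc61) (kc xc23 yc34 zc42) (kc xc13 yc58 zc22) (kc xc13 yc58 zc23) (kc xc13 yc21 zc49) (kc xc16 yc25 zc12) (kc xc27 yc44 zc49) (kc xc12 yc23 zc53) (kc xc26 yc22 zc2) (kc xc29 yc54 zc3) (kc xc27 yc40 zc49) (kc xc17 yc38 zc9) (kc xc14 yc35 zc50) (kc xc22 yc17 zc44) (kc xc17 yc16 zc43) (kc xc12 yc24 zc13) (kc xc12 yc24 zc17) (kc xc18 yc14 zc16) (kc xc16 yc15 zc40) (kc xc27 yc26 zc41)) (@D3.rec (fun _ => Pt) (kc xc24 yc40 zc53) (kc xc14 yc45 zc39) (kc xc30 yc3 zc27) (kc xc15 yc59 zc23) (kc xc12 yc24 zc19) (kc xc24 yc5 zc12) (kc xc12 yc24 zc20) (kc xc12 yc24 zc21) (kc xc26 yc10 zc59) (kc xc28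 yc47 zc4) (kc xc12 yc24 zc29) (kc xc25 yc53 zc50) (kc xc17 yc27 zc55) (kc xc15 yc38 zc48) (kc xc12 yc24 zc27) (kc xc16 yc14 zc28) (kc xc15 yc38 zc29) (kc xc12 yc24 zc28) (kc xc29 yc52 zc0) (kc xc26 yc10 zc27) (kc xc12 yc24 zc33) (kc xc27 yc3 zc47) (kc xc12 yc24 zc31) (kc xc30 yc1 zc23) (kc xc23 yc2 zc50) (kc xc12 yc24 zc36) (kc xc21 yc27 zc18) (kc xc12 yc24 zc35) (kc xc14 yc57 zc10) (kc xc22 yc8 zc48) (kc xc12 yc24 zc37) (kc xc12 yc24 zc38) (kc xc21 yc24 zc56) (kc xc30 yc3 zc36) (kc xc29 yc51 zc5) (kc xc17 yc10 zc24) (kc xc18 yc19 zc60) (kc xc21 yc50 zc0) (kc xc27 yc50 zc25) (kc xc22 yc8 zc47) (kc xc24 yc44 zc42) (kc xc23 yc23 zc58) (kc xc26 yc56 zc38) (kc xc19 yc51 zc6) (kc xc28 yc43 zc37) (kc xc12 yc24 zc52) (kc xc12 yc24 zc53) (kc xc12 yc24 zc54) (kc xc24 yc15 zc45)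 (kc xc22 yc8 zc10) (kc xc27 yc20 zc42) (kc xc28 yc49 zc5) (kc xc27 yc7 zc38) (kc xc21 yc39 zc13) (kc xc29 yc23 zc26) (kc xc27 yc20 zc45) (kc xc12 yc25 zc17) (kc xc12 yc25 zc2) (kc xc22 yc46 zc41) (kc xc17 yc7 zc28) (kc xc30 yc3 zc48) (kc xc12 yc25 zc7)) (@D3.rec (fun _ => Pt) (kc xc16 yc6 zc34) (kc xc16 yc7 zc17) (kc xc30 yc3 zc50) (kc xc21 yc7 zc36) (kc xc21 yc7 zc32) (kc xc12 yc58 zc39) (kc xc13 yc55 zc34) (kc xc12 yc30 zc21) (kc xc30 yc3 zc52) (kc xc30 yc3 zc53) (kc xc12 yc25 zc13) (kc xc23 yc50 zc24) (kc xc23 yc50 zc23) (kc xc12 yc25 zc14) (kc xc22 yc2 zc36) (kc xc12 yc25 zc15) (kc xc18 yc16 zc31) (kc xc25 yc52 zc25) (kc xc12 yc25 zc16) (kc xc21 yc37 zc17) (kc xc12 yc25 zc20) (kc xc28 yc37 zc38) (kc xc29 yc57 zc27) (kc xc24 yc39 zc43) (kc xc24 yc39 zc42) (kc xc22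 yc8 zc16) (kc xc21 yc45 zc30) (kc xc30 yc3 zc57) (kc xc30 yc3 zc58) (kc xc12 yc25 zc25) (kc xc14 yc21 zc28) (kc xc14 yc0 zc60) (kc xc12 yc25 zc29) (kc xc28 yc33 zc26) (kc xc21 yc26 zc13) (kc xc12 yc25 zc32) (kc xc12 yc25 zc34) (kc xc12 yc25 zc35) (kc xc20 yc51 zc12) (kc xc16 yc47 zc19) (kc xc16 yc48 zc59) (kc xc12 yc25 zc44) (kc xc22 yc23 zc25) (kc xc27 yc43 zc31) (kc xc18 yc16 zc46) (kc xc12 yc25 zc43) (kc xc27 yc5 zc16) (kc xc26 yc42 zc34) (kc xc12 yc25 zc52) (kc xc29 yc22 zc31) (kc xc12 yc25 zc57) (kc xc27 yc17 zc27) (kc xc12 yc25 zc58) (kc xc29 yc0 zc25) (kc xc15 yc37 zc2) (kc xc12 yc25 zc56) (kc xc22 yc8 zc8) (kc xc12 yc44 zc45) (kc xc13 yc53 zc27) (kc xc13 yc53 zc38) (kc xc22 yc2 zc56) (kc xc12 yc26 zc4)) (@D3.rec (fun _ => Pt) (kc xc20 yc36 zc35) (kc xc12 yc26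 zc5) (kc xc26 yc5 zc38) (kc xc30 yc4 zc5) (kc xc22 yc2 zc59) (kc xc12 yc26 zc7) (kc xc20 yc24 zc15) (kc xc25 yc31 zc48) (kc xc12 yc43 zc48) (kc xc30 yc4 zc8) (kc xc16 yc5 zc28) (kc xc24 yc44 zc41) (kc xc22 yc2 zc60) (kc xc12 yc52 zc27) (kc xc12 yc26 zc13) (kc xc21 yc11 zc42) (kc xc27 yc17 zc60) (kc xc12 yc52 zc28) (kc xc30 yc4 zc9) (kc xc12 yc26 zc16) (kc xc23 yc26 zc16) (kc xc14 yc50 zc17) (kc xc26 yc50 zc0) (kc xc26 yc58 zc25) (kc xc26 yc11 zc27) (kc xc12 yc26 zc18) (kc xc14 yc50 zc21) (kc xc21 yc10 zc2) (kc xc14 yc50 zc19) (kc xc18 yc23 zc38) (kc xc28 yc1 zc32) (kc xc20 yc40 zc6) (kc xc22 yc29 zc6) (kc xc12 yc26 zc22) (kc xc26 yc14 zc39) (kc xc26 yc14 zc40) (kc xc12 yc26 zc25) (kc xc16 yc36 zc11) (kc xc30 yc4 zc13) (kc xc21 yc18 zc31) (kc xc12 yc40 zc25) (kc xc29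 yc9 zc15) (kc xc22 yc10 zc14) (kc xc21 yc6 zc11) (kc xc12 yc48 zc30) (kc xc25 yc35 zc13) (kc xc22 yc9 zc42) (kc xc27 yc6 zc16) (kc xc27 yc29 zc40) (kc xc27 yc3 zc41) (kc xc25 yc53 zc45) (kc xc25 yc53 zc44) (kc xc17 yc10 zc17) (kc xc26 yc10 zc29) (kc xc13 yc0 zc7) (kc xc30 yc4 zc19) (kc xc13 yc0 zc4) (kc xc21 yc3 zc48) (kc xc27 yc42 zc20) (kc xc23 yc35 zc40) (kc xc23 yc35 zc41) (kc xc29 yc37 zc49)) (@D3.rec (fun _ => Pt) (kc xc25 yc59 zc2) (kc xc21 yc18 zc20) (kc xc30 yc4 zc23) (kc xc15 yc59 zc53) (kc xc21 yc17 zc57) (kc xc21 yc10 zc10) (kc xc23 yc42 zc47) (kc xc14 yc57 zc25) (kc xc22 yc43 zc48) (kc xc24 yc21 zc14) (kc xc17 yc44 zc18) (kc xc27 yc19 zc42) (kc xc30 yc4 zc25) (kc xc24 yc54 zc61) (kc xc16 yc17 zc43) (kc xc29 yc57 zc13) (kc xc29 yc56 zc37) (kc xc21 yc17 zc28)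 (kc xc30 yc4 zc30) (kc xc21 yc34 zc30) (kc xc19 yc59 zc40) (kc xc21 yc4 zc32) (kc xc23 yc22 zc33) (kc xc27 yc58 zc11) (kc xc21 yc34 zc26) (kc xc22 yc37 zc7) (kc xc21 yc34 zc24) (kc xc30 yc4 zc38) (kc xc14 yc54 zc43) (kc xc27 yc17 zc45) (kc xc21 yc34 zc19) (kc xc21 yc4 zc57) (kc xc30 yc4 zc44) (kc xc21 yc23 zc57) (kc xc21 yc17 zc58) (kc xc30 yc4 zc46) (kc xc22 yc44 zc49) (kc xc12 yc27 zc14) (kc xc22 yc44 zc55) (kc xc30 yc4 zc51) (kc xc28 yc42 zc46) (kc xc29 yc57 zc57) (kc xc14 yc54 zc41) (kc xc23 yc44 zc28) (kc xc21 yc26 zc35) (kc xc21 yc5 zc27) (kc xc12 yc27 zc25) (kc xc14 yc27 zc50) (kc xc12 yc27 zc22) (kc xc15 yc17 zc19) (kc xc21 yc24 zc51) (kc xc18 yc58 zc12) (kc xc21 yc24 zc50) (kc xc21 yc27 zc17) (kc xc30 yc1 zc47) (kc xc27 yc55 zc22) (kc xc24 yc48 zc6) (kc xc27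 yc50 zc13) (kc xc12 yc27 zc29) (kc xc12 yc27 zc31) (kc xc12 yc45 zc15) (kc xc12 yc27 zc42)) (@D3.rec (fun _ => Pt) (kc xc17 yc17 zc52) (kc xc25 yc18 zc53) (kc xc14 yc32 zc58) (kc xc12 yc32 zc15) (kc xc14 yc19 zc13) (kc xc12 yc40 zc42) (kc xc21 yc45 zc59) (kc xc14 yc31 zc42) (kc xc14 yc27 zc1) (kc xc30 yc4 zc60) (kc xc14 yc31 zc36) (kc xc12 yc28 zc6) (kc xc16 yc57 zc16) (kc xc18 yc50 zc45) (kc xc21 yc8 zc27) (kc xc29 yc17 zc5) (kc xc24 yc11 zc10) (kc xc12 yc28 zc24) (kc xc30 yc5 zc0) (kc xc26 yc46 zc52) (kc xc21 yc29 zc32) (kc xc30 yc5 zc1) (kc xc12 yc28 zc30) (kc xc19 yc58 zc38) (kc xc28 yc11 zc19) (kc xc12 yc51 zc57) (kc xc12 yc28 zc35) (kc xc30 yc5 zc5) (kc xc12 yc28 zc41) (kc xc22 yc52 zc3) (kc xc14 yc18 zc48) (kc xc14 yc24 zc10) (kc xc12 yc47 zc35) (kc xc14 yc20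 zc51) (kc xc21 yc35 zc37) (kc xc21 yc35 zc38) (kc xc21 yc9 zc30) (kc xc21 yc35 zc34) (kc xc21 yc35 zc35) (kc xc12 yc28 zc56) (kc xc30 yc5 zc10) (kc xc12 yc28 zc57) (kc xc17 yc31 zc0) (kc xc16 yc31 zc36) (kc xc20 yc8 zc47) (kc xc18 yc24 zc59) (kc xc18 yc37 zc57) (kc xc21 yc20 zc14) (kc xc21 yc28 zc34) (kc xc18 yc35 zc55) (kc xc20 yc24 zc47) (kc xc21 yc53 zc33) (kc xc27 yc2 zc0) (kc xc27 yc2 zc1) (kc xc18 yc26 zc16) (kc xc26 yc55 zc22) (kc xc26 yc37 zc21) (kc xc12 yc29 zc11) (kc xc12 yc29 zc15) (kc xc19 yc10 zc4) (kc xc21 yc38 zc46) (kc xc12 yc29 zc17)) (@D3.rec (fun _ => Pt) (kc xc19 yc37 zc43) (kc xc29 yc17 zc50) (kc xc13 yc52 zc21) (kc xc20 yc29 zc13) (kc xc12 yc50 zc19) (kc xc12 yc29 zc21) (kc xc25 yc14 zc44) (kc xc27 yc2 zc53) (kc xc27 yc10 zc60) (kc xc15 yc43 zc57)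 (kc xc12 yc29 zc44) (kc xc30 yc5 zc17) (kc xc12 yc29 zc31) (kc xc29 yc59 zc52) (kc xc19 yc27 zc55) (kc xc18 yc43 zc28) (kc xc27 yc20 zc32) (kc xc12 yc29 zc33) (kc xc28 yc27 zc42) (kc xc25 yc38 zc23) (kc xc12 yc29 zc34) (kc xc12 yc32 zc47) (kc xc12 yc29 zc36) (kc xc26 yc14 zc31) (kc xc26 yc15 zc52) (kc xc21 yc59 zc46) (kc xc25 yc10 zc1) (kc xc21 yc20 zc8) (kc xc21 yc54 zc11) (kc xc20 yc46 zc27) (kc xc14 yc21 zc43) (kc xc12 yc29 zc43) (kc xc12 yc29 zc47) (kc xc12 yc44 zc46) (kc xc12 yc32 zc18) (kc xc12 yc31 zc0) (kc xc12 yc29 zc58) (kc xc12 yc29 zc61) (kc xc12 yc30 zc0) (kc xc12 yc30 zc3) (kc xc20 yc32 zc57) (kc xc20 yc38 zc20) (kc xc29 yc7 zc55) (kc xc19 yc51 zc27) (kc xc16 yc47 zc60) (kc xc29 yc42 zc39) (kc xc26 yc13 zc14) (kc xc26 yc18 zc10) (kc xc17 yc50 zc31) (kc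 xc12 yc30 zc22) (kc xc12 yc44 zc9) (kc xc30 yc5 zc21) (kc xc19 yc58 zc6) (kc xc19 yc58 zc5) (kc xc29 yc15 zc22) (kc xc12 yc30 zc27) (kc xc24 yc1 zc27) (kc xc22 yc11 zc29) (kc xc12 yc30 zc33) (kc xc19 yc24 zc50) (kc xc16 yc13 zc2) (kc xc16 yc50 zc15)) (@D3.rec (fun _ => Pt) (kc xc24 yc32 zc43) (kc xc23 yc37 zc51) (kc xc15 yc58 zc45) (kc xc15 yc58 zc44) (kc xc21 yc5 zc0) (kc xc30 yc5 zc24) (kc xc24 yc43 zc39) (kc xc21 yc18 zc24) (kc xc19 yc1 zc46) (kc xc14 yc3 zc42) (kc xc16 yc1 zc30) (kc xc21 yc17 zc24) (kc xc24 yc55 zc37) (kc xc14 yc3 zc37) (kc xc23 yc32 zc34) (kc xc13 yc6 zc59) (kc xc12 yc30 zc51) (kc xc21 yc32 zc19) (kc xc23 yc35 zc21) (kc xc17 yc10 zc59) (kc xc21 yc38 zc26) (kc xc12 yc30 zc58) (kc xc29 yc19 zc9) (kc xc12 yc30 zc59) (kc xc20 yc19 zc17) (kc xc12 yc32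 zc27) (kc xc16 yc25 zc4) (kc xc21 yc50 zc45) (kc xc20 yc33 zc52) (kc xc21 yc50 zc6) (kc xc16 yc16 zc25) (kc xc16 yc50 zc51) (kc xc21 yc28 zc27) (kc xc18 yc0 zc55) (kc xc20 yc40 zc44) (kc xc12 yc31 zc29) (kc xc21 yc16 zc5) (kc xc20 yc30 zc7) (kc xc25 yc47 zc8) (kc xc23 yc58 zc2) (kc xc17 yc5 zc5) (kc xc18 yc37 zc51) (kc xc18 yc57 zc42) (kc xc28 yc1 zc42) (kc xc15 yc5 zc20) (kc xc16 yc55 zc12) (kc xc12 yc31 zc46) (kc xc26 yc50 zc34) (kc xc13 yc58 zc27) (kc xc12 yc31 zc48) (kc xc18 yc48 zc21) (kc xc18 yc49 zc46) (kc xc12 yc38 zc34) (kc xc16 yc55 zc36) (kc xc18 yc49 zc58) (kc xc26 yc32 zc60) (kc xc12 yc31 zc52) (kc xc26 yc24 zc60) (kc xc26 yc33 zc0) (kc xc12 yc31 zc56) (kc xc23 yc37 zc39) (kc xc23 yc43 zc31)) (@D3.rec (fun _ => Pt) (kc xc12 yc31 zc60) (kc xc19 yc10 zc52)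 (kc xc22 yc6 zc27) (kc xc26 yc52 zc4) (kc xc12 yc32 zc3) (kc xc21 yc9 zc34) (kc xc12 yc32 zc4) (kc xc16 yc24 zc41) (kc xc20 yc17 zc27) (kc xc17 yc29 zc49) (kc xc20 yc33 zc46) (kc xc30 yc5 zc36) (kc xc14 yc33 zc4) (kc xc23 yc26 zc1) (kc xc28 yc1 zc8) (kc xc20 yc24 zc59) (kc xc29 yc26 zc43) (kc xc18 yc25 zc24) (kc xc14 yc44 zc51) (kc xc21 yc54 zc35) (kc xc12 yc32 zc20) (kc xc12 yc32 zc21) (kc xc21 yc29 zc16) (kc xc17 yc30 zc22) (kc xc27 yc11 zc7) (kc xc28 yc13 zc60) (kc xc21 yc37 zc20) (kc xc28 yc9 zc18) (kc xc12 yc32 zc32) (kc xc19 yc20 zc6) (kc xc12 yc32 zc33) (kc xc30 yc5 zc38) (kc xc28 yc52 zc9) (kc xc12 yc32 zc34) (kc xc30 yc5 zc43) (kc xc17 yc20 zc36) (kc xc29 yc34 zc42) (kc xc17 yc11 zc9) (kc xc12 yc32 zc36) (kc xc30 yc5 zc55) (kc xc30 yc5 zc56) (kc xc30 yc5 zc53)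 (kc xc17 yc3 zc26) (kc xc13 yc1 zc61) (kc xc12 yc32 zc43) (kc xc30 yc5 zc58) (kc xc21 yc35 zc60) (kc xc21 yc22 zc8) (kc xc12 yc32 zc45) (kc xc12 yc35 zc37) (kc xc12 yc32 zc49) (kc xc23 yc34 zc61) (kc xc26 yc36 zc48) (kc xc12 yc32 zc58) (kc xc30 yc6 zc2) (kc xc22 yc47 zc53) (kc xc13 yc17 zc43) (kc xc28 yc0 zc59) (kc xc14 yc14 zc2) (kc xc13 yc0 zc31) (kc xc25 yc8 zc24) (kc xc18 yc36 zc15)) (@D3.rec (fun _ => Pt) (kc xc12 yc33 zc17) (kc xc27 yc20 zc41) (kc xc30 yc6 zc8) (kc xc12 yc33 zc29) (kc xc30 yc6 zc13) (kc xc21 yc48 zc59) (kc xc29 yc49 zc29) (kc xc20 yc44 zc44) (kc xc18 yc13 zc26) (kc xc18 yc13 zc30) (kc xc18 yc13 zc31) (kc xc13 yc6 zc27) (kc xc22 yc40 zc10) (kc xc21 yc31 zc53) (kc xc12 yc47 zc58) (kc xc18 yc5 zc50) (kc xc21 yc26 zc15) (kc xc24 yc41 zc47) (kc xc23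 yc36 zc9) (kc xc24 yc43 zc41) (kc xc16 yc15 zc12) (kc xc16 yc15 zc13) (kc xc23 yc36 zc35) (kc xc17 yc40 zc25) (kc xc17 yc40 zc26) (kc xc23 yc35 zc50) (kc xc14 yc52 zc17) (kc xc22 yc10 zc11) (kc xc12 yc48 zc22) (kc xc30 yc6 zc28) (kc xc12 yc48 zc24) (kc xc15 yc15 zc59) (kc xc30 yc6 zc30) (kc xc30 yc6 zc31) (kc xc27 yc27 zc5) (kc xc21 yc24 zc61) (kc xc24 yc40 zc12) (kc xc29 yc55 zc59) (kc xc12 yc33 zc27) (kc xc22 yc55 zc29) (kc xc30 yc6 zc38) (kc xc17 yc35 zc31) (kc xc22 yc48 zc22) (kc xc23 yc36 zc1) (kc xc23 yc9 zc54) (kc xc29 yc19 zc25) (kc xc22 yc56 zc7) (kc xc12 yc33 zc30) (kc xc30 yc6 zc46) (kc xc27 yc6 zc22) (kc xc30 yc6 zc49) (kc xc27 yc6 zc20) (kc xc29 yc39 zc25) (kc xc17 yc9 zc45) (kc xc12 yc33 zc36) (kc xc19 yc27 zc14) (kc xc22 yc16 zc12) (kc xc22 yc17 zc57)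 (kc xc29 yc13 zc3) (kc xc21 yc18 zc21) (kc xc21 yc21 zc59) (kc xc19 yc18 zc61)) (@D3.rec (fun _ => Pt) (kc xc21 yc22 zc56) (kc xc21 yc21 zc60) (kc xc21 yc59 zc8) (kc xc17 yc13 zc59) (kc xc30 yc6 zc54) (kc xc14 yc26 zc10) (kc xc12 yc33 zc57) (kc xc25 yc25 zc18) (kc xc29 yc14 zc56) (kc xc30 yc6 zc57) (kc xc12 yc33 zc59) (kc xc25 yc25 zc55) (kc xc14 yc1 zc47) (kc xc14 yc41 zc18) (kc xc16 yc43 zc26) (kc xc16 yc43 zc24) (kc xc12 yc34 zc2) (kc xc15 yc45 zc32) (kc xc12 yc38 zc56) (kc xc12 yc34 zc3) (kc xc19 yc40 zc33) (kc xc30 yc6 zc61) (kc xc17 yc32 zc39) (kc xc23 yc3 zc38) (kc xc30 yc7 zc1) (kc xc12 yc34 zc10) (kc xc14 yc41 zc48) (kc xc30 yc7 zc3) (kc xc24 yc38 zc45) (kc xc14 yc1 zc37) (kc xc12 yc34 zc15) (kc xc20 yc51 zc24) (kc xc12 yc34 zc18) (kc xc30 yc7 zc4) (kc xc14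 yc14 zc4) (kc xc21 yc57 zc27) (kc xc12 yc34 zc19) (kc xc25 yc20 zc3) (kc xc29 yc9 zc2) (kc xc14 yc11 zc32) (kc xc30 yc7 zc7) (kc xc29 yc2 zc36) (kc xc29 yc2 zc40) (kc xc12 yc34 zc21) (kc xc28 yc45 zc17) (kc xc28 yc43 zc35) (kc xc19 yc7 zc61) (kc xc12 yc36 zc15) (kc xc14 yc21 zc32) (kc xc14 yc21 zc31) (kc xc30 yc7 zc11) (kc xc30 yc7 zc13) (kc xc27 yc7 zc39) (kc xc13 yc21 zc15) (kc xc12 yc52 zc9) (kc xc12 yc46 zc60) (kc xc21 yc4 zc30) (kc xc12 yc34 zc33) (kc xc30 yc7 zc17) (kc xc30 yc7 zc18) (kc xc30 yc7 zc20) (kc xc12 yc34 zc36)) (@D3.rec (fun _ => Pt) (kc xc30 yc7 zc24) (kc xc22 yc31 zc44) (kc xc13 yc24 zc12) (kc xc21 yc21 zc13) (kc xc29 yc18 zc12) (kc xc14 yc23 zc31) (kc xc17 yc51 zc28) (kc xc24 yc18 zc26) (kc xc21 yc9 zc40) (kc xc20 yc12 zc58) (kc xc24 yc18 zc32)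 (kc xc14 yc14 zc32) (kc xc12 yc34 zc50) (kc xc14 yc5 zc1) (kc xc13 yc25 zc18) (kc xc30 yc7 zc29) (kc xc22 yc44 zc13) (kc xc24 yc40 zc22) (kc xc12 yc34 zc54) (kc xc18 yc20 zc1) (kc xc24 yc24 zc18) (kc xc14 yc9 zc37) (kc xc29 yc20 zc33) (kc xc23 yc37 zc19) (kc xc13 yc49 zc39) (kc xc28 yc10 zc42) (kc xc12 yc34 zc56) (kc xc12 yc36 zc16) (kc xc12 yc35 zc1) (kc xc24 yc46 zc43) (kc xc13 yc31 zc2) (kc xc13 yc20 zc61) (kc xc28 yc9 zc40) (kc xc15 yc6 zc0) (kc xc13 yc16 zc50) (kc xc12 yc35 zc12) (kc xc12 yc35 zc14) (kc xc12 yc35 zc15) (kc xc24 yc35 zc4) (kc xc12 yc35 zc18) (kc xc22 yc8 zc40) (kc xc22 yc10 zc59) (kc xc12 yc35 zc21) (kc xc18 yc17 zc11) (kc xc14 yc36 zc15) (kc xc12 yc35 zc22) (kc xc24 yc19 zc30) (kc xc12 yc40 zc60) (kc xc15 yc0 zc20) (kc xc12 yc45 zc27) (kc xc12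 yc45 zc46) (kc xc12 yc45 zc47) (kc xc12 yc35 zc26) (kc xc21 yc52 zc59) (kc xc18 yc3 zc27) (kc xc12 yc35 zc28) (kc xc17 yc26 zc41) (kc xc12 yc35 zc31) (kc xc14 yc20 zc52) (kc xc22 yc51 zc6) (kc xc22 yc7 zc16) (kc xc12 yc35 zc33)) (@D3.rec (fun _ => Pt) (kc xc23 yc22 zc56) (kc xc12 yc35 zc36) (kc xc12 yc38 zc16) (kc xc25 yc37 zc56) (kc xc28 yc50 zc15) (kc xc19 yc32 zc43) (kc xc12 yc35 zc45) (kc xc30 yc6 zc0) (kc xc18 yc5 zc7) (kc xc24 yc41 zc41) (kc xc12 yc35 zc49) (kc xc29 yc28 zc8) (kc xc14 yc12 zc10) (kc xc20 yc17 zc39) (kc xc14 yc54 zc44) (kc xc23 yc6 zc14) (kc xc21 yc7 zc13) (kc xc21 yc20 zc4) (kc xc27 yc17 zc0) (kc xc27 yc7 zc19) (kc xc22 yc1 zc57) (kc xc12 yc35 zc57) (kc xc28 yc25 zc30) (kc xc27 yc3 zc28) (kc xc19 yc35 zc54) (kc xc12 yc35 zc60) (kc xc16 yc14 zc52)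 (kc xc26 yc13 zc6) (kc xc23 yc54 zc0) (kc xc14 yc33 zc20) (kc xc20 yc46 zc44) (kc xc24 yc32 zc54) (kc xc23 yc42 zc22) (kc xc12 yc36 zc13) (kc xc12 yc36 zc14) (kc xc20 yc14 zc56) (kc xc17 yc13 zc2) (kc xc12 yc36 zc21) (kc xc30 yc5 zc11) (kc xc14 yc21 zc1) (kc xc21 yc50 zc23) (kc xc12 yc36 zc23) (kc xc14 yc26 zc52) (kc xc17 yc59 zc43) (kc xc12 yc36 zc32) (kc xc21 yc19 zc38) (kc xc21 yc19 zc42) (kc xc21 yc21 zc1) (kc xc21 yc46 zc58) (kc xc24 yc42 zc22) (kc xc14 yc36 zc36) (kc xc12 yc36 zc38) (kc xc12 yc36 zc41) (kc xc12 yc36 zc42) (kc xc27 yc23 zc5) (kc xc12 yc37 zc10) (kc xc12 yc37 zc11) (kc xc12 yc40 zc36) (kc xc12 yc36 zc45) (kc xc25 yc55 zc19) (kc xc26 yc2 zc38) (kc xc12 yc36 zc47)) (@D3.rec (fun _ => Pt) (kc xc25 yc57 zc22) (kc xc12 yc50 zc18) (kc xc16 yc1 zc2) (kc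 xc21 yc50 zc10) (kc xc21 yc50 zc9) (kc xc12 yc36 zc51) (kc xc17 yc36 zc24) (kc xc25 yc20 zc8) (kc xc24 yc51 zc54) (kc xc12 yc36 zc56) (kc xc15 yc20 zc2) (kc xc21 yc50 zc22) (kc xc12 yc36 zc58) (kc xc25 yc13 zc8) (kc xc30 yc7 zc49) (kc xc12 yc36 zc61) (kc xc15 yc17 zc61) (kc xc18 yc2 zc2) (kc xc12 yc37 zc24) (kc xc12 yc37 zc25) (kc xc30 yc7 zc47) (kc xc12 yc42 zc11) (kc xc12 yc37 zc3) (kc xc25 yc12 zc49) (kc xc27 yc9 zc9) (kc xc30 yc7 zc51) (kc xc12 yc58 zc18) (kc xc21 yc50 zc32) (kc xc18 yc35 zc7) (kc xc21 yc50 zc30) (kc xc21 yc21 zc35) (kc xc12 yc37 zc8) (kc xc30 yc7 zc61) (kc xc12 yc41 zc44) (kc xc26 yc1 zc49) (kc xc21 yc56 zc12) (kc xc12 yc37 zc14) (kc xc21 yc18 zc5) (kc xc25 yc12 zc57) (kc xc23 yc59 zc23) (kc xc26 yc49 zc15) (kc xc24 yc19 zc49) (kc xc19 yc17 zc53)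 (kc xc12 yc37 zc19) (kc xc25 yc50 zc0) (kc xc30 yc7 zc48) (kc xc12 yc37 zc22) (kc xc30 yc8 zc5) (kc xc19 yc17 zc19) (kc xc25 yc13 zc1) (kc xc30 yc8 zc2) (kc xc22 yc31 zc13) (kc xc21 yc46 zc5) (kc xc21 yc10 zc8) (kc xc12 yc37 zc32) (kc xc24 yc15 zc40) (kc xc26 yc1 zc53) (kc xc12 yc37 zc31) (kc xc30 yc8 zc11) (kc xc12 yc40 zc40) (kc xc20 yc51 zc23) (kc xc13 yc46 zc9)) (@D3.rec (fun _ => Pt) (kc xc14 yc14 zc5) (kc xc27 yc22 zc27) (kc xc18 yc0 zc14) (kc xc27 yc32 zc44) (kc xc17 yc44 zc60) (kc xc12 yc56 zc54) (kc xc16 yc45 zc55) (kc xc21 yc28 zc44) (kc xc12 yc37 zc43) (kc xc29 yc30 zc59) (kc xc27 yc23 zc16) (kc xc16 yc2 zc31) (kc xc20 yc52 zc20) (kc xc26 yc23 zc3) (kc xc24 yc36 zc37) (kc xc22 yc6 zc8) (kc xc18 yc56 zc60) (kc xc29 yc19 zc13) (kc xc12 yc37 zc55) (kc xc28 yc24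 zc39) (kc xc15 yc6 zc24) (kc xc12 yc37 zc54) (kc xc14 yc16 zc49) (kc xc18 yc45 zc47) (kc xc24 yc9 zc36) (kc xc12 yc37 zc59) (kc xc12 yc37 zc58) (kc xc28 yc12 zc39) (kc xc15 yc59 zc18) (kc xc14 yc16 zc52) (kc xc21 yc13 zc4) (kc xc15 yc0 zc21) (kc xc30 yc8 zc15) (kc xc23 yc10 zc42) (kc xc27 yc48 zc11) (kc xc12 yc38 zc4) (kc xc29 yc57 zc59) (kc xc23 yc47 zc2) (kc xc12 yc38 zc7) (kc xc29 yc24 zc55) (kc xc29 yc21 zc12) (kc xc12 yc38 zc11) (kc xc21 yc18 zc6) (kc xc28 yc24 zc36) (kc xc22 yc12 zc3) (kc xc28 yc24 zc37) (kc xc16 yc33 zc20) (kc xc16 yc33 zc13) (kc xc17 yc37 zc40) (kc xc13 yc27 zc43) (kc xc20 yc25 zc17) (kc xc12 yc38 zc19) (kc xc13 yc51 zc31) (kc xc20 yc45 zc19) (kc xc16 yc24 zc47) (kc xc16 yc24 zc51) (kc xc21 yc53 zc43) (kc xc13 yc19 zc16) (kc xc17 yc23 zc27)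 (kc xc22 yc36 zc58) (kc xc12 yc38 zc28) (kc xc16 yc54 zc14)) (@D3.rec (fun _ => Pt) (kc xc12 yc42 zc30) (kc xc22 yc33 zc29) (kc xc27 yc20 zc24) (kc xc25 yc23 zc39) (kc xc20 yc31 zc11) (kc xc24 yc53 zc44) (kc xc24 yc19 zc44) (kc xc18 yc35 zc58) (kc xc16 yc5 zc23) (kc xc29 yc23 zc23) (kc xc27 yc11 zc26) (kc xc27 yc10 zc42) (kc xc27 yc10 zc43) (kc xc12 yc50 zc45) (kc xc27 yc21 zc0) (kc xc22 yc1 zc52) (kc xc21 yc8 zc5) (kc xc20 yc4 zc3) (kc xc14 yc29 zc26) (kc xc14 yc54 zc61) (kc xc24 yc42 zc9) (kc xc12 yc40 zc29) (kc xc27 yc43 zc46) (kc xc12 yc40 zc31) (kc xc21 yc22 zc12) (kc xc12 yc39 zc3) (kc xc30 yc8 zc27) (kc xc24 yc39 zc10) (kc xc21 yc8 zc12) (kc xc14 yc4 zc45) (kc xc21 yc32 zc26) (kc xc12 yc39 zc16) (kc xc12 yc39 zc18) (kc xc12 yc39 zc19) (kc xc12 yc39 zc20) (kc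 xc14 yc32 zc36) (kc xc12 yc39 zc25) (kc xc12 yc39 zc27) (kc xc12 yc39 zc28) (kc xc18 yc50 zc44) (kc xc20 yc36 zc16) (kc xc12 yc39 zc30) (kc xc13 yc41 zc48) (kc xc14 yc29 zc57) (kc xc21 yc7 zc0) (kc xc22 yc52 zc5) (kc xc14 yc29 zc59) (kc xc12 yc39 zc39) (kc xc17 yc43 zc40) (kc xc25 yc17 zc17) (kc xc25 yc56 zc55) (kc xc19 yc57 zc22) (kc xc12 yc39 zc40) (kc xc15 yc39 zc49) (kc xc14 yc31 zc35) (kc xc14 yc14 zc25) (kc xc12 yc39 zc42) (kc xc25 yc43 zc48) (kc xc14 yc21 zc3) (kc xc21 yc35 zc6) (kc xc28 yc16 zc16) (kc xc12 yc39 zc44)) (@D3.rec (fun _ => Pt) (kc xc12 yc42 zc47) (kc xc15 yc17 zc22) (kc xc27 yc10 zc23) (kc xc12 yc40 zc33) (kc xc12 yc39 zc52) (kc xc21 yc43 zc52) (kc xc12 yc54 zc35) (kc xc12 yc39 zc54) (kc xc30 yc8 zc38) (kc xc12 yc40 zc32) (kc xc12 yc39 zc56) (kc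 xc30 yc8 zc41) (kc xc29 yc59 zc54) (kc xc12 yc40 zc26) (kc xc12 yc39 zc59) (kc xc12 yc39 zc60) (kc xc27 yc37 zc54) (kc xc12 yc40 zc24) (kc xc12 yc40 zc0) (kc xc15 yc35 zc18) (kc xc25 yc41 zc40) (kc xc12 yc40 zc22) (kc xc15 yc21 zc56) (kc xc15 yc21 zc57) (kc xc15 yc53 zc9) (kc xc15 yc53 zc8) (kc xc12 yc40 zc19) (kc xc25 yc41 zc23) (kc xc12 yc40 zc6) (kc xc21 yc58 zc12) (kc xc27 yc11 zc36) (kc xc21 yc8 zc33) (kc xc21 yc8 zc34) (kc xc12 yc40 zc7) (kc xc12 yc40 zc9) (kc xc25 yc41 zc38) (kc xc16 yc0 zc55) (kc xc16 yc1 zc5) (kc xc12 yc52 zc18) (kc xc12 yc40 zc17) (kc xc25 yc17 zc57) (kc xc21 yc22 zc38) (kc xc12 yc50 zc44) (kc xc27 yc11 zc22) (kc xc26 yc10 zc26) (kc xc21 yc17 zc52) (kc xc21 yc19 zc33) (kc xc27 yc6 zc38) (kc xc27 yc6 zc39) (kc xc25 yc28 zc8) (kc xc30 yc8 zc50)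 (kc xc26 yc15 zc17) (kc xc22 yc11 zc15) (kc xc22 yc11 zc12) (kc xc30 yc8 zc43) (kc xc27 yc30 zc59) (kc xc14 yc54 zc50) (kc xc20 yc15 zc34) (kc xc21 yc42 zc48) (kc xc20 yc15 zc35) (kc xc30 yc8 zc55) (kc xc25 yc4 zc4)) (@D3.rec (fun _ => Pt) (kc xc12 yc40 zc35) (kc xc30 yc8 zc57) (kc xc30 yc8 zc58) (kc xc24 yc58 zc4) (kc xc27 yc19 zc38) (kc xc12 yc40 zc55) (kc xc27 yc55 zc40) (kc xc20 yc45 zc34) (kc xc12 yc41 zc0) (kc xc13 yc20 zc38) (kc xc21 yc3 zc33) (kc xc29 yc39 zc11) (kc xc12 yc40 zc47) (kc xc29 yc36 zc41) (kc xc13 yc5 zc45) (kc xc22 yc0 zc28) (kc xc17 yc31 zc41) (kc xc24 yc27 zc34) (kc xc17 yc31 zc23) (kc xc20 yc46 zc32) (kc xc25 yc47 zc16) (kc xc22 yc22 zc11) (kc xc12 yc40 zc61) (kc xc22 yc21 zc61) (kc xc16 yc22 zc60) (kc xc27 yc43 zc4) (kc xc14 yc30 zc6) (kc xc17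 yc31 zc25) (kc xc30 yc9 zc6) (kc xc30 yc9 zc7) (kc xc30 yc9 zc8) (kc xc12 yc41 zc8) (kc xc12 yc41 zc10) (kc xc17 yc50 zc4) (kc xc29 yc53 zc33) (kc xc30 yc8 zc33) (kc xc20 yc37 zc60) (kc xc13 yc46 zc1) (kc xc20 yc53 zc17) (kc xc12 yc41 zc43) (kc xc29 yc35 zc15) (kc xc12 yc41 zc15) (kc xc29 yc1 zc21) (kc xc15 yc21 zc10) (kc xc12 yc41 zc17) (kc xc14 yc30 zc5) (kc xc14 yc16 zc61) (kc xc21 yc8 zc11) (kc xc18 yc26 zc19) (kc xc24 yc32 zc13) (kc xc18 yc26 zc12) (kc xc12 yc41 zc20) (kc xc30 yc9 zc16) (kc xc14 yc30 zc9) (kc xc26 yc22 zc35) (kc xc23 yc55 zc41) (kc xc12 yc41 zc22) (kc xc30 yc9 zc19) (kc xc24 yc33 zc57) (kc xc12 yc41 zc23) (kc xc30 yc9 zc21) (kc xc12 yc43 zc9)) (@D3.rec (fun _ => Pt) (kc xc12 yc43 zc10) (kc xc20 yc46 zc13) (kc xc30 yc9 zc23) (kc xc12 yc41 zc25)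 (kc xc25 yc12 zc50) (kc xc26 yc38 zc5) (kc xc30 yc9 zc26) (kc xc30 yc9 zc27) (kc xc12 yc41 zc27) (kc xc26 yc34 zc7) (kc xc20 yc55 zc55) (kc xc29 yc16 zc19) (kc xc21 yc1 zc41) (kc xc17 yc30 zc41) (kc xc17 yc30 zc40) (kc xc30 yc9 zc28) (kc xc12 yc42 zc8) (kc xc12 yc41 zc31) (kc xc25 yc8 zc22) (kc xc25 yc8 zc21) (kc xc26 yc4 zc50) (kc xc12 yc42 zc7) (kc xc25 yc50 zc12) (kc xc12 yc41 zc34) (kc xc18 yc24 zc57) (kc xc30 yc9 zc37) (kc xc12 yc42 zc3) (kc xc12 yc41 zc37) (kc xc27 yc44 zc17) (kc xc27 yc44 zc18) (kc xc24 yc39 zc38) (kc xc12 yc41 zc38) (kc xc23 yc1 zc7) (kc xc12 yc42 zc1) (kc xc12 yc41 zc40) (kc xc30 yc9 zc49) (kc xc30 yc9 zc53) (kc xc12 yc41 zc61) (kc xc12 yc41 zc58) (kc xc29 yc28 zc4) (kc xc28 yc41 zc56) (kc xc29 yc2 zc13) (kc xc14 yc6 zc25) (kc xc29 yc2 zc14)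 (kc xc12 yc41 zc57) (kc xc23 yc40 zc7) (kc xc29 yc52 zc29) (kc xc29 yc6 zc47) (kc xc28 yc48 zc30) (kc xc12 yc41 zc50) (kc xc29 yc59 zc11) (kc xc21 yc57 zc56) (kc xc25 yc8 zc20) (kc xc29 yc16 zc16) (kc xc29 yc16 zc18) (kc xc19 yc2 zc24) (kc xc25 yc8 zc39) (kc xc30 yc10 zc13) (kc xc26 yc0 zc2) (kc xc21 yc39 zc5) (kc xc30 yc10 zc3) (kc xc30 yc9 zc30)) (@D3.rec (fun _ => Pt) (kc xc30 yc9 zc31) (kc xc30 yc9 zc56) (kc xc30 yc10 zc22) (kc xc25 yc31 zc46) (kc xc30 yc10 zc26) (kc xc30 yc9 zc55) (kc xc27 yc47 zc17) (kc xc27 yc47 zc16) (kc xc17 yc38 zc36) (kc xc26 yc47 zc48) (kc xc30 yc9 zc48) (kc xc20 yc28 zc32) (kc xc20 yc15 zc7) (kc xc20 yc42 zc26) (kc xc24 yc17 zc47) (kc xc30 yc9 zc42) (kc xc16 yc9 zc27) (kc xc28 yc34 zc42) (kc xc30 yc10 zc35) (kc xc30 yc10 zc38) (kc xc30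 yc10 zc41) (kc xc12 yc42 zc6) (kc xc30 yc10 zc45) (kc xc19 yc55 zc20) (kc xc29 yc17 zc31) (kc xc29 yc5 zc45) (kc xc30 yc9 zc33) (kc xc30 yc10 zc44) (kc xc12 yc42 zc10) (kc xc27 yc17 zc55) (kc xc17 yc10 zc27) (kc xc25 yc30 zc34) (kc xc19 yc46 zc18) (kc xc28 yc0 zc5) (kc xc15 yc20 zc28) (kc xc23 yc47 zc1) (kc xc24 yc22 zc57) (kc xc12 yc42 zc20) (kc xc12 yc42 zc21) (kc xc12 yc42 zc22) (kc xc23 yc24 zc39) (kc xc30 yc11 zc0) (kc xc12 yc42 zc29) (kc xc27 yc23 zc26) (kc xc18 yc50 zc21) (kc xc19 yc53 zc24) (kc xc29 yc59 zc26) (kc xc12 yc42 zc33) (kc xc12 yc42 zc32) (kc xc17 yc14 zc0) (kc xc12 yc42 zc37) (kc xc12 yc42 zc36) (kc xc21 yc58 zc47) (kc xc12 yc42 zc39) (kc xc26 yc11 zc20) (kc xc22 yc3 zc17) (kc xc20 yc15 zc33) (kc xc21 yc58 zc59) (kc xc12 yc42 zc41) (kc xc12 yc42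 zc43) (kc xc14 yc26 zc51) (kc xc30 yc2 zc32)) (@D3.rec (fun _ => Pt) (kc xc21 yc31 zc37) (kc xc12 yc42 zc49) (kc xc12 yc42 zc50) (kc xc30 yc11 zc6) (kc xc30 yc11 zc8) (kc xc17 yc39 zc13) (kc xc21 yc37 zc29) (kc xc21 yc58 zc21) (kc xc27 yc48 zc21) (kc xc21 yc43 zc4) (kc xc21 yc43 zc3) (kc xc28 yc41 zc49) (kc xc21 yc8 zc48) (kc xc12 yc42 zc55) (kc xc22 yc21 zc43) (kc xc22 yc23 zc52) (kc xc19 yc59 zc7) (kc xc24 yc34 zc28) (kc xc29 yc16 zc52) (kc xc29 yc58 zc60) (kc xc19 yc7 zc44) (kc xc25 yc48 zc51) (kc xc21 yc43 zc11) (kc xc21 yc42 zc40) (kc xc28 yc57 zc5) (kc xc12 yc43 zc12) (kc xc12 yc43 zc13) (kc xc29 yc6 zc44) (kc xc30 yc11 zc17) (kc xc13 yc36 zc37) (kc xc21 yc43 zc29) (kc xc26 yc34 zc31) (kc xc21 yc43 zc27) (kc xc16 yc9 zc9) (kc xc14 yc4 zc26) (kc xc27 yc41 zc17)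 (kc xc14 yc5 zc27) (kc xc20 yc54 zc36) (kc xc29 yc59 zc28) (kc xc14 yc44 zc39) (kc xc12 yc43 zc21) (kc xc12 yc43 zc26) (kc xc14 yc35 zc61) (kc xc20 yc51 zc44) (kc xc17 yc5 zc9) (kc xc21 yc37 zc27) (kc xc16 yc7 zc22) (kc xc12 yc53 zc33) (kc xc29 yc25 zc60) (kc xc24 yc51 zc10) (kc xc24 yc51 zc47) (kc xc24 yc51 zc46) (kc xc12 yc43 zc41) (kc xc24 yc48 zc50) (kc xc29 yc48 zc39) (kc xc12 yc43 zc44) (kc xc29 yc17 zc4) (kc xc12 yc53 zc52) (kc xc16 yc45 zc56) (kc xc17 yc4 zc52) (kc xc28 yc45 zc23) (kc xc17 yc30 zc37)) (@D3.rec (fun _ => Pt) (kc xc12 yc43 zc50) (kc xc30 yc0 zc7) (kc xc17 yc24 zc35) (kc xc22 yc36 zc45) (kc xc22 yc36 zc49) (kc xc22 yc36 zc48) (kc xc22 yc40 zc17) (kc xc19 yc48 zc1) (kc xc29 yc21 zc41) (kc xc12 yc43 zc56) (kc xc27 yc9 zc24) (kc xc12 yc43 zc61) (kc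 xc30 yc3 zc28) (kc xc12 yc44 zc0) (kc xc18 yc46 zc10) (kc xc12 yc44 zc1) (kc xc16 yc24 zc19) (kc xc12 yc44 zc3) (kc xc14 yc49 zc61) (kc xc18 yc29 zc36) (kc xc23 yc36 zc28) (kc xc14 yc14 zc18) (kc xc26 yc2 zc30) (kc xc21 yc3 zc51) (kc xc29 yc25 zc61) (kc xc23 yc47 zc56) (kc xc26 yc25 zc0) (kc xc13 yc43 zc58) (kc xc23 yc3 zc59) (kc xc12 yc44 zc15) (kc xc16 yc28 zc46) (kc xc17 yc15 zc56) (kc xc22 yc40 zc20) (kc xc22 yc40 zc19) (kc xc16 yc48 zc35) (kc xc12 yc44 zc21) (kc xc27 yc9 zc30) (kc xc18 yc24 zc35) (kc xc12 yc44 zc23) (kc xc12 yc44 zc24) (kc xc28 yc17 zc2) (kc xc20 yc5 zc51) (kc xc12 yc45 zc48) (kc xc12 yc44 zc31) (kc xc20 yc21 zc43) (kc xc12 yc44 zc32) (kc xc29 yc28 zc53) (kc xc22 yc3 zc43) (kc xc27 yc54 zc28) (kc xc27 yc9 zc23) (kc xc12 yc44 zc36) (kc xc21 yc51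 zc55) (kc xc12 yc44 zc39) (kc xc18 yc48 zc38) (kc xc14 yc46 zc16) (kc xc21 yc51 zc51) (kc xc12 yc44 zc40) (kc xc16 yc38 zc61) (kc xc22 yc3 zc15) (kc xc19 yc20 zc55) (kc xc23 yc47 zc53) (kc xc30 yc0 zc49)) (@D3.rec (fun _ => Pt) (kc xc19 yc51 zc12) (kc xc22 yc2 zc51) (kc xc17 yc4 zc46) (kc xc17 yc7 zc35) (kc xc28 yc48 zc6) (kc xc29 yc29 zc40) (kc xc28 yc48 zc22) (kc xc17 yc19 zc48) (kc xc13 yc0 zc48) (kc xc20 yc12 zc12) (kc xc22 yc4 zc52) (kc xc12 yc54 zc29) (kc xc12 yc54 zc15) (kc xc12 yc44 zc60) (kc xc12 yc45 zc1) (kc xc12 yc45 zc2) (kc xc12 yc45 zc3) (kc xc12 yc45 zc4) (kc xc12 yc45 zc5) (kc xc14 yc35 zc19) (kc xc18 yc36 zc9) (kc xc27 yc42 zc52) (kc xc27 yc42 zc56) (kc xc23 yc6 zc44) (kc xc27 yc5 zc6) (kc xc20 yc49 zc14) (kc xc12 yc45 zc21) (kc xc14 yc44 zc16) (kc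 xc30 yc11 zc39) (kc xc14 yc41 zc3) (kc xc27 yc5 zc15) (kc xc29 yc39 zc53) (kc xc12 yc45 zc24) (kc xc30 yc11 zc44) (kc xc21 yc21 zc37) (kc xc14 yc40 zc41) (kc xc12 yc45 zc26) (kc xc19 yc12 zc53) (kc xc20 yc23 zc56) (kc xc12 yc45 zc28) (kc xc24 yc2 zc55) (kc xc30 yc11 zc50) (kc xc30 yc11 zc55) (kc xc12 yc45 zc29) (kc xc14 yc38 zc1) (kc xc14 yc13 zc44) (kc xc12 yc51 zc59) (kc xc14 yc59 zc16) (kc xc12 yc45 zc31) (kc xc30 yc11 zc61) (kc xc24 yc21 zc36) (kc xc24 yc21 zc25) (kc xc12 yc45 zc33) (kc xc29 yc40 zc14) (kc xc15 yc0 zc23) (kc xc12 yc45 zc36) (kc xc30 yc12 zc3) (kc xc30 yc11 zc59) (kc xc12 yc45 zc39) (kc xc21 yc41 zc53) (kc xc14 yc11 zc36) (kc xc26 yc29 zc59)) (@D3.rec (fun _ => Pt) (kc xc12 yc45 zc42) (kc xc22 yc32 zc14) (kc xc23 yc47 zc45) (kc xc19 yc12 zc58) (kc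 xc12 yc45 zc49) (kc xc14 yc38 zc10) (kc xc12 yc45 zc51) (kc xc19 yc8 zc0) (kc xc12 yc45 zc52) (kc xc28 yc43 zc60) (kc xc12 yc45 zc56) (kc xc19 yc4 zc7) (kc xc19 yc4 zc8) (kc xc12 yc45 zc55) (kc xc25 yc50 zc27) (kc xc12 yc45 zc57) (kc xc12 yc45 zc58) (kc xc28 yc44 zc41) (kc xc23 yc46 zc53) (kc xc22 yc37 zc6) (kc xc24 yc26 zc40) (kc xc17 yc26 zc2) (kc xc12 yc45 zc61) (kc xc28 yc34 zc28) (kc xc28 yc34 zc33) (kc xc28 yc35 zc33) (kc xc23 yc0 zc20) (kc xc16 yc3 zc18) (kc xc15 yc26 zc53) (kc xc22 yc3 zc49) (kc xc24 yc57 zc40) (kc xc12 yc46 zc10) (kc xc27 yc39 zc10) (kc xc21 yc35 zc51) (kc xc13 yc47 zc16) (kc xc17 yc53 zc24) (kc xc16 yc7 zc44) (kc xc30 yc12 zc15) (kc xc12 yc46 zc23) (kc xc30 yc12 zc16) (kc xc16 yc33 zc22) (kc xc12 yc46 zc25) (kc xc30 yc12 zc17) (kc xc21 yc44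 zc56) (kc xc22 yc5 zc52) (kc xc26 yc25 zc32) (kc xc29 yc51 zc42) (kc xc24 yc57 zc55) (kc xc29 yc29 zc39) (kc xc21 yc1 zc43) (kc xc12 yc46 zc36) (kc xc29 yc12 zc43) (kc xc16 yc57 zc19) (kc xc29 yc6 zc42) (kc xc21 yc16 zc19) (kc xc30 yc12 zc18) (kc xc17 yc23 zc2) (kc xc12 yc46 zc44) (kc xc20 yc15 zc30) (kc xc30 yc12 zc19) (kc xc27 yc20 zc25) (kc xc12 yc46 zc46)) (@D3.rec (fun _ => Pt) (kc xc30 yc12 zc20) (kc xc23 yc10 zc46) (kc xc12 yc46 zc47) (kc xc30 yc12 zc21) (kc xc30 yc3 zc60) (kc xc28 yc35 zc22) (kc xc25 yc48 zc40) (kc xc29 yc49 zc20) (kc xc12 yc46 zc49) (kc xc30 yc12 zc24) (kc xc14 yc28 zc56) (kc xc21 yc36 zc28) (kc xc29 yc37 zc11) (kc xc12 yc48 zc5) (kc xc12 yc46 zc53) (kc xc19 yc4 zc2) (kc xc19 yc12 zc50) (kc xc30 yc12 zc28) (kc xc12 yc48 zc4) (kc xc12 yc46 zc55)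 (kc xc14 yc39 zc8) (kc xc14 yc39 zc9) (kc xc12 yc46 zc56) (kc xc12 yc46 zc58) (kc xc19 yc17 zc42) (kc xc28 yc44 zc40) (kc xc22 yc25 zc22) (kc xc12 yc47 zc55) (kc xc12 yc47 zc4) (kc xc26 yc28 zc8) (kc xc26 yc28 zc15) (kc xc12 yc47 zc7) (kc xc20 yc34 zc37) (kc xc17 yc0 zc5) (kc xc18 yc50 zc26) (kc xc21 yc38 zc19) (kc xc20 yc52 zc9) (kc xc12 yc47 zc11) (kc xc17 yc53 zc3) (kc xc12 yc47 zc13) (kc xc16 yc28 zc14) (kc xc19 yc32 zc22) (kc xc17 yc44 zc47) (kc xc12 yc47 zc27) (kc xc27 yc45 zc17) (kc xc20 yc46 zc45) (kc xc12 yc47 zc26) (kc xc19 yc43 zc25) (kc xc27 yc22 zc11) (kc xc27 yc20 zc33) (kc xc28 yc10 zc27) (kc xc15 yc56 zc40) (kc xc12 yc47 zc36) (kc xc12 yc47 zc31) (kc xc29 yc25 zc31) (kc xc27 yc12 zc42) (kc xc26 yc18 zc1) (kc xc12 yc47 zc32) (kc xc16 yc15 zc45) (kc xc16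 yc15 zc46) (kc xc12 yc47 zc34) (kc xc22 yc38 zc51)) (@D3.rec (fun _ => Pt) (kc xc22 yc38 zc58) (kc xc24 yc25 zc41) (kc xc12 yc47 zc38) (kc xc26 yc19 zc13) (kc xc12 yc47 zc41) (kc xc12 yc47 zc42) (kc xc30 yc12 zc39) (kc xc23 yc5 zc38) (kc xc24 yc39 zc39) (kc xc12 yc47 zc49) (kc xc30 yc12 zc41) (kc xc19 yc2 zc34) (kc xc14 yc45 zc52) (kc xc30 yc12 zc43) (kc xc30 yc12 zc45) (kc xc14 yc39 zc11) (kc xc30 yc12 zc46) (kc xc25 yc44 zc4) (kc xc13 yc53 zc39) (kc xc30 yc12 zc47) (kc xc30 yc12 zc48) (kc xc30 yc12 zc49) (kc xc12 yc47 zc61) (kc xc16 yc59 zc27) (kc xc21 yc55 zc24) (kc xc12 yc48 zc3) (kc xc23 yc55 zc16) (kc xc24 yc38 zc32) (kc xc23 yc26 zc58) (kc xc14 yc0 zc54) (kc xc30 yc1 zc60) (kc xc30 yc1 zc56) (kc xc20 yc15 zc5) (kc xc21 yc27 zc35) (kc xc17 yc13 zc25) (kc xc17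 yc13 zc26) (kc xc30 yc12 zc57) (kc xc27 yc48 zc45) (kc xc22 yc14 zc50) (kc xc18 yc22 zc54) (kc xc13 yc15 zc46) (kc xc21 yc25 zc7) (kc xc12 yc48 zc13) (kc xc21 yc25 zc30) (kc xc24 yc44 zc1) (kc xc30 yc13 zc1) (kc xc12 yc48 zc14) (kc xc23 yc44 zc35) (kc xc23 yc44 zc15) (kc xc12 yc48 zc16) (kc xc21 yc25 zc24) (kc xc22 yc41 zc59) (kc xc22 yc41 zc60) (kc xc13 yc51 zc23) (kc xc13 yc16 zc22) (kc xc13 yc51 zc10) (kc xc12 yc48 zc20) (kc xc23 yc44 zc26) (kc xc30 yc8 zc45) (kc xc27 yc28 zc1) (kc xc12 yc48 zc21) (kc xc30 yc13 zc13)) (@D3.rec (fun _ => Pt) (kc xc30 yc13 zc14) (kc xc25 yc33 zc32) (kc xc29 yc52 zc16) (kc xc30 yc13 zc15) (kc xc12 yc48 zc23) (kc xc30 yc13 zc20) (kc xc21 yc17 zc1) (kc xc14 yc45 zc12) (kc xc14 yc45 zc13) (kc xc30 yc13 zc23) (kc xc14 yc44 zc55) (kc xc12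 yc48 zc26) (kc xc21 yc43 zc35) (kc xc12 yc48 zc28) (kc xc27 yc29 zc42) (kc xc12 yc48 zc29) (kc xc22 yc12 zc13) (kc xc23 yc25 zc27) (kc xc23 yc44 zc48) (kc xc14 yc45 zc2) (kc xc14 yc45 zc3) (kc xc14 yc21 zc29) (kc xc13 yc15 zc49) (kc xc12 yc48 zc33) (kc xc14 yc37 zc30) (kc xc16 yc10 zc48) (kc xc18 yc26 zc18) (kc xc12 yc48 zc38) (kc xc30 yc13 zc30) (kc xc17 yc52 zc42) (kc xc20 yc15 zc61) (kc xc23 yc44 zc34) (kc xc13 yc58 zc26) (kc xc12 yc48 zc40) (kc xc23 yc37 zc35) (kc xc13 yc0 zc25) (kc xc16 yc41 zc8) (kc xc12 yc48 zc42) (kc xc30 yc13 zc32) (kc xc12 yc48 zc43) (kc xc23 yc21 zc13) (kc xc12 yc48 zc44) (kc xc23 yc2 zc7) (kc xc23 yc2 zc42) (kc xc23 yc2 zc46) (kc xc12 yc48 zc51) (kc xc17 yc28 zc12) (kc xc12 yc48 zc46) (kc xc23 yc44 zc22) (kc xc30 yc13 zc48) (kc xc12 yc48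 zc47) (kc xc30 yc13 zc50) (kc xc13 yc51 zc21) (kc xc13 yc51 zc22) (kc xc27 yc1 zc51) (kc xc13 yc52 zc11) (kc xc23 yc44 zc49) (kc xc13 yc51 zc8) (kc xc13 yc51 zc9) (kc xc24 yc22 zc41) (kc xc13 yc51 zc59) (kc xc30 yc13 zc43)) (@D3.rec (fun _ => Pt) (kc xc14 yc9 zc53) (kc xc22 yc58 zc23) (kc xc12 yc48 zc55) (kc xc12 yc48 zc53) (kc xc22 yc57 zc61) (kc xc30 yc14 zc1) (kc xc12 yc48 zc54) (kc xc22 yc46 zc60) (kc xc24 yc59 zc55) (kc xc17 yc19 zc34) (kc xc17 yc22 zc29) (kc xc18 yc57 zc50) (kc xc12 yc50 zc30) (kc xc19 yc38 zc45) (kc xc29 yc28 zc14) (kc xc15 yc38 zc4) (kc xc15 yc38 zc3) (kc xc24 yc37 zc41) (kc xc30 yc12 zc37) (kc xc19 yc49 zc43) (kc xc12 yc49 zc7) (kc xc28 yc57 zc52) (kc xc12 yc49 zc10) (kc xc23 yc4 zc0) (kc xc20 yc45 zc7) (kc xc17 yc10 zc49) (kc xc27 yc0 zc7)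 (kc xc21 yc40 zc35) (kc xc30 yc7 zc40) (kc xc29 yc6 zc12) (kc xc12 yc49 zc15) (kc xc26 yc57 zc53) (kc xc13 yc6 zc42) (kc xc12 yc49 zc16) (kc xc19 yc59 zc10) (kc xc25 yc38 zc43) (kc xc27 yc1 zc2) (kc xc20 yc29 zc50) (kc xc24 yc4 zc6) (kc xc29 yc0 zc55) (kc xc14 yc4 zc28) (kc xc14 yc4 zc29) (kc xc28 yc31 zc27) (kc xc17 yc16 zc6) (kc xc16 yc23 zc57) (kc xc20 yc4 zc31) (kc xc29 yc19 zc35) (kc xc12 yc49 zc32) (kc xc26 yc52 zc20) (kc xc15 yc54 zc35) (kc xc20 yc6 zc23) (kc xc30 yc14 zc12) (kc xc12 yc49 zc38) (kc xc26 yc35 zc40) (kc xc12 yc49 zc39) (kc xc20 yc3 zc11) (kc xc21 yc48 zc51) (kc xc24 yc37 zc4) (kc xc12 yc49 zc42) (kc xc27 yc0 zc6) (kc xc20 yc58 zc20) (kc xc12 yc49 zc44)) (@D3.rec (fun _ => Pt) (kc xc25 yc44 zc56) (kc xc12 yc49 zc46) (kc xc16 yc47 zc15) (kc xc16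 yc40 zc4) (kc xc12 yc50 zc27) (kc xc12 yc50 zc26) (kc xc12 yc49 zc53) (kc xc29 yc41 zc12) (kc xc12 yc50 zc13) (kc xc24 yc34 zc21) (kc xc25 yc45 zc12) (kc xc27 yc19 zc57) (kc xc21 yc46 zc29) (kc xc12 yc50 zc3) (kc xc27 yc25 zc30) (kc xc12 yc49 zc59) (kc xc21 yc16 zc57) (kc xc25 yc27 zc58) (kc xc12 yc50 zc38) (kc xc25 yc27 zc57) (kc xc25 yc13 zc33) (kc xc21 yc50 zc7) (kc xc30 yc6 zc18) (kc xc28 yc49 zc19) (kc xc17 yc28 zc0) (kc xc25 yc33 zc13) (kc xc19 yc53 zc21) (kc xc23 yc6 zc27) (kc xc27 yc30 zc42) (kc xc15 yc40 zc0) (kc xc29 yc57 zc61) (kc xc30 yc7 zc43) (kc xc19 yc6 zc1) (kc xc15 yc46 zc36) (kc xc18 yc10 zc12) (kc xc12 yc50 zc53) (kc xc24 yc41 zc34) (kc xc21 yc26 zc33) (kc xc24 yc41 zc35) (kc xc27 yc29 zc24) (kc xc21 yc26 zc32) (kc xc21 yc17 zc48) (kc xc24 yc19 zc45)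 (kc xc24 yc18 zc0) (kc xc21 yc17 zc49) (kc xc26 yc48 zc13) (kc xc30 yc14 zc17) (kc xc21 yc49 zc52) (kc xc24 yc17 zc31) (kc xc26 yc3 zc47) (kc xc28 yc57 zc53) (kc xc17 yc37 zc10) (kc xc27 yc7 zc6) (kc xc29 yc17 zc25) (kc xc27 yc4 zc4) (kc xc26 yc5 zc49) (kc xc21 yc23 zc4) (kc xc12 yc50 zc41) (kc xc30 yc14 zc25) (kc xc21 yc49 zc57) (kc xc29 yc50 zc31) (kc xc27 yc4 zc6)) (@D3.rec (fun _ => Pt) (kc xc12 yc50 zc39) (kc xc24 yc51 zc44) (kc xc12 yc50 zc40) (kc xc30 yc14 zc28) (kc xc26 yc12 zc34) (kc xc12 yc50 zc42) (kc xc12 yc50 zc43) (kc xc26 yc1 zc51) (kc xc21 yc40 zc2) (kc xc24 yc32 zc16) (kc xc12 yc50 zc48) (kc xc24 yc20 zc6) (kc xc30 yc14 zc31) (kc xc30 yc14 zc32) (kc xc12 yc50 zc50) (kc xc20 yc13 zc10) (kc xc29 yc15 zc30) (kc xc29 yc40 zc50) (kc xc16 yc14 zc34) (kc xc27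 yc23 zc35) (kc xc12 yc50 zc54) (kc xc19 yc7 zc53) (kc xc27 yc4 zc19) (kc xc22 yc4 zc18) (kc xc12 yc58 zc38) (kc xc21 yc23 zc44) (kc xc21 yc23 zc49) (kc xc12 yc50 zc58) (kc xc12 yc50 zc59) (kc xc16 yc38 zc35) (kc xc19 yc4 zc38) (kc xc21 yc7 zc20) (kc xc17 yc28 zc9) (kc xc27 yc23 zc36) (kc xc12 yc50 zc60) (kc xc28 yc45 zc12) (kc xc30 yc14 zc39) (kc xc25 yc53 zc61) (kc xc21 yc4 zc46) (kc xc12 yc51 zc1) (kc xc14 yc36 zc21) (kc xc12 yc51 zc2) (kc xc26 yc23 zc21) (kc xc16 yc38 zc56) (kc xc30 yc14 zc42) (kc xc12 yc51 zc4) (kc xc21 yc36 zc25) (kc xc12 yc51 zc7) (kc xc19 yc7 zc10) (kc xc26 yc23 zc40) (kc xc26 yc11 zc32) (kc xc25 yc58 zc39) (kc xc27 yc57 zc15) (kc xc12 yc51 zc9) (kc xc27 yc57 zc6) (kc xc30 yc14 zc44) (kc xc28 yc15 zc10) (kc xc18 yc0 zc18) (kc xc29 yc39 zc49)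 (kc xc23 yc45 zc47) (kc xc29 yc39 zc50) (kc xc12 yc51 zc18))
def f_c_22 : D2 → D3 → Pt := @D2.rec (fun _ => D3 → Pt) (@D3.rec (fun _ => Pt) (kc xc30 yc14 zc49) (kc xc30 yc14 zc51) (kc xc12 yc51 zc20) (kc xc12 yc51 zc21) (kc xc30 yc14 zc53) (kc xc14 yc38 zc7) (kc xc12 yc51 zc22) (kc xc12 yc51 zc23) (kc xc30 yc14 zc57) (kc xc22 yc11 zc20) (kc xc13 yc11 zc9) (kc xc17 yc25 zc3) (kc xc12 yc52 zc36) (kc xc14 yc28 zc41) (kc xc30 yc14 zc59) (kc xc12 yc51 zc26) (kc xc25 yc51 zc18) (kc xc30 yc14 zc56) (kc xc27 yc26 zc34) (kc xc30 yc15 zc4) (kc xc27 yc20 zc9) (kc xc23 yc19 zc12) (kc xc27 yc10 zc28) (kc xc12 yc51 zc30) (kc xc12 yc51 zc32) (kc xc24 yc11 zc36) (kc xc12 yc51 zc35) (kc xc27 yc14 zc52) (kc xc21 yc47 zc15) (kc xc12 yc51 zc36) (kc xc23 yc57 zc35) (kc xc30 yc15 zc8) (kc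 xc27 yc59 zc39) (kc xc28 yc35 zc48) (kc xc12 yc51 zc37) (kc xc17 yc10 zc39) (kc xc17 yc10 zc42) (kc xc14 yc52 zc47) (kc xc29 yc55 zc54) (kc xc22 yc49 zc57) (kc xc24 yc26 zc26) (kc xc24 yc25 zc51) (kc xc12 yc51 zc41) (kc xc30 yc15 zc15) (kc xc12 yc51 zc43) (kc xc29 yc33 zc46) (kc xc30 yc15 zc22) (kc xc12 yc51 zc44) (kc xc12 yc51 zc45) (kc xc30 yc15 zc27) (kc xc13 yc7 zc30) (kc xc13 yc12 zc4) (kc xc27 yc18 zc61) (kc xc24 yc26 zc21) (kc xc12 yc51 zc47) (kc xc23 yc46 zc8) (kc xc13 yc12 zc44) (kc xc12 yc51 zc48) (kc xc24 yc30 zc19) (kc xc27 yc16 zc27) (kc xc27 yc16 zc30) (kc xc17 yc17 zc56)) (@D3.rec (fun _ => Pt) (kc xc17 yc11 zc47) (kc xc12 yc51 zc52) (kc xc27 yc14 zc46) (kc xc27 yc14 zc47) (kc xc30 yc15 zc39) (kc xc30 yc12 zc2) (kc xc12 yc52 zc32) (kc xc12 yc51 zc54)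 (kc xc30 yc15 zc45) (kc xc30 yc15 zc47) (kc xc30 yc15 zc44) (kc xc12 yc51 zc55) (kc xc27 yc11 zc15) (kc xc29 yc18 zc43) (kc xc17 yc17 zc55) (kc xc13 yc1 zc17) (kc xc12 yc52 zc25) (kc xc12 yc51 zc58) (kc xc14 yc38 zc8) (kc xc20 yc48 zc49) (kc xc30 yc11 zc58) (kc xc12 yc52 zc23) (kc xc12 yc51 zc61) (kc xc30 yc15 zc60) (kc xc30 yc16 zc1) (kc xc30 yc15 zc59) (kc xc22 yc25 zc5) (kc xc12 yc52 zc19) (kc xc27 yc12 zc22) (kc xc30 yc16 zc6) (kc xc12 yc52 zc15) (kc xc22 yc25 zc11) (kc xc30 yc16 zc14) (kc xc16 yc40 zc12) (kc xc29 yc26 zc29) (kc xc30 yc16 zc20) (kc xc29 yc26 zc30) (kc xc25 yc59 zc21) (kc xc12 yc52 zc5) (kc xc30 yc16 zc23) (kc xc30 yc16 zc26) (kc xc12 yc52 zc6) (kc xc17 yc7 zc4) (kc xc28 yc40 zc18) (kc xc12 yc52 zc8) (kc xc30 yc16 zc30) (kc xc30 yc16 zc32) (kc xc30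 yc16 zc29) (kc xc13 yc54 zc7) (kc xc13 yc53 zc19) (kc xc24 yc41 zc8) (kc xc23 yc55 zc39) (kc xc21 yc45 zc15) (kc xc27 yc16 zc34) (kc xc21 yc16 zc52) (kc xc22 yc11 zc28) (kc xc14 yc44 zc38) (kc xc21 yc42 zc20) (kc xc30 yc16 zc39) (kc xc30 yc15 zc37) (kc xc25 yc8 zc6) (kc xc28 yc58 zc29)) (@D3.rec (fun _ => Pt) (kc xc25 yc35 zc46) (kc xc14 yc55 zc24) (kc xc14 yc3 zc15) (kc xc24 yc42 zc54) (kc xc28 yc50 zc41) (kc xc28 yc57 zc60) (kc xc21 yc7 zc15) (kc xc30 yc16 zc45) (kc xc30 yc16 zc47) (kc xc25 yc43 zc28) (kc xc30 yc16 zc5) (kc xc30 yc16 zc4) (kc xc12 yc52 zc58) (kc xc21 yc18 zc50) (kc xc25 yc56 zc19) (kc xc30 yc16 zc49) (kc xc15 yc17 zc13) (kc xc29 yc37 zc25) (kc xc23 yc10 zc38) (kc xc12 yc52 zc30) (kc xc15 yc17 zc9) (kc xc30 yc16 zc54) (kc xc26 yc6 zc60) (kc xc29 yc33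 zc1) (kc xc29 yc45 zc49) (kc xc25 yc56 zc3) (kc xc30 yc15 zc1) (kc xc27 yc47 zc13) (kc xc29 yc48 zc37) (kc xc30 yc16 zc57) (kc xc27 yc17 zc24) (kc xc27 yc5 zc46) (kc xc12 yc52 zc39) (kc xc15 yc8 zc39) (kc xc12 yc52 zc40) (kc xc17 yc5 zc0) (kc xc21 yc32 zc14) (kc xc12 yc52 zc46) (kc xc17 yc4 zc55) (kc xc12 yc52 zc44) (kc xc17 yc5 zc23) (kc xc30 yc17 zc1) (kc xc12 yc52 zc45) (kc xc17 yc59 zc33) (kc xc25 yc6 zc2) (kc xc14 yc54 zc16) (kc xc25 yc23 zc56) (kc xc18 yc34 zc41) (kc xc22 yc43 zc59) (kc xc13 yc20 zc20) (kc xc14 yc49 zc53) (kc xc21 yc52 zc1) (kc xc12 yc52 zc53) (kc xc20 yc22 zc16) (kc xc23 yc38 zc3) (kc xc20 yc15 zc0) (kc xc21 yc32 zc60) (kc xc29 yc9 zc16) (kc xc12 yc52 zc59) (kc xc21 yc33 zc4) (kc xc21 yc33 zc12) (kc xc12 yc53 zc0)) (@D3.rec (fun _ => Pt) (kc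 xc23 yc2 zc27) (kc xc12 yc53 zc1) (kc xc25 yc40 zc4) (kc xc29 yc16 zc29) (kc xc13 yc42 zc47) (kc xc12 yc53 zc4) (kc xc26 yc6 zc7) (kc xc12 yc53 zc5) (kc xc17 yc45 zc42) (kc xc29 yc22 zc41) (kc xc29 yc16 zc32) (kc xc12 yc53 zc9) (kc xc27 yc3 zc12) (kc xc29 yc2 zc49) (kc xc14 yc36 zc22) (kc xc21 yc51 zc58) (kc xc12 yc53 zc29) (kc xc21 yc49 zc55) (kc xc12 yc53 zc36) (kc xc29 yc25 zc48) (kc xc18 yc24 zc41) (kc xc12 yc53 zc38) (kc xc16 yc48 zc49) (kc xc26 yc41 zc46) (kc xc12 yc53 zc41) (kc xc12 yc53 zc44) (kc xc12 yc53 zc45) (kc xc30 yc17 zc12) (kc xc30 yc17 zc13) (kc xc12 yc53 zc46) (kc xc20 yc24 zc36) (kc xc30 yc17 zc14) (kc xc30 yc17 zc9) (kc xc26 yc59 zc3) (kc xc12 yc53 zc48) (kc xc19 yc34 zc51) (kc xc12 yc53 zc53) (kc xc20 yc24 zc37) (kc xc30 yc17 zc11) (kc xc30 yc17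 zc0) (kc xc30 yc8 zc40) (kc xc12 yc53 zc56) (kc xc17 yc27 zc33) (kc xc21 yc51 zc47) (kc xc12 yc53 zc58) (kc xc26 yc46 zc13) (kc xc16 yc2 zc6) (kc xc17 yc20 zc33) (kc xc29 yc39 zc26) (kc xc21 yc53 zc29) (kc xc12 yc54 zc6) (kc xc25 yc27 zc20) (kc xc20 yc58 zc13) (kc xc12 yc54 zc10) (kc xc12 yc55 zc7) (kc xc20 yc58 zc12) (kc xc19 yc58 zc34) (kc xc18 yc27 zc48) (kc xc28 yc32 zc25) (kc xc24 yc15 zc6) (kc xc25 yc5 zc50) (kc xc27 yc10 zc50)) (@D3.rec (fun _ => Pt) (kc xc30 yc11 zc34) (kc xc28 yc8 zc4) (kc xc29 yc15 zc0) (kc xc16 yc39 zc11) (kc xc12 yc54 zc20) (kc xc12 yc54 zc17) (kc xc27 yc14 zc9) (kc xc16 yc3 zc13) (kc xc12 yc54 zc25) (kc xc21 yc30 zc38) (kc xc12 yc54 zc26) (kc xc26 yc26 zc46) (kc xc28 yc47 zc41) (kc xc29 yc47 zc1) (kc xc17 yc19 zc42) (kc xc28 yc15 zc43)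 (kc xc17 yc50 zc43) (kc xc17 yc26 zc7) (kc xc21 yc59 zc23) (kc xc26 yc9 zc17) (kc xc25 yc52 zc43) (kc xc12 yc54 zc43) (kc xc25 yc52 zc46) (kc xc25 yc52 zc47) (kc xc24 yc3 zc26) (kc xc12 yc54 zc44) (kc xc14 yc56 zc15) (kc xc20 yc59 zc45) (kc xc27 yc22 zc10) (kc xc12 yc54 zc47) (kc xc30 yc17 zc41) (kc xc12 yc54 zc50) (kc xc12 yc54 zc51) (kc xc30 yc2 zc2) (kc xc22 yc10 zc21) (kc xc22 yc7 zc35) (kc xc27 yc57 zc3) (kc xc29 yc42 zc27) (kc xc30 yc17 zc42) (kc xc12 yc54 zc55) (kc xc30 yc17 zc45) (kc xc27 yc40 zc47) (kc xc12 yc54 zc60) (kc xc12 yc54 zc57) (kc xc12 yc54 zc58) (kc xc12 yc54 zc59) (kc xc15 yc41 zc22) (kc xc20 yc0 zc40) (kc xc12 yc55 zc18) (kc xc30 yc7 zc0) (kc xc12 yc55 zc3) (kc xc18 yc46 zc32) (kc xc21 yc52 zc10) (kc xc25 yc31 zc39) (kc xc12 yc56 zc51) (kc xc16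 yc42 zc25) (kc xc14 yc2 zc7) (kc xc25 yc22 zc52) (kc xc12 yc55 zc9) (kc xc22 yc7 zc40) (kc xc12 yc55 zc11) (kc xc19 yc53 zc15)) (@D3.rec (fun _ => Pt) (kc xc22 yc45 zc4) (kc xc29 yc47 zc42) (kc xc20 yc12 zc28) (kc xc18 yc40 zc7) (kc xc15 yc42 zc2) (kc xc26 yc1 zc25) (kc xc12 yc55 zc15) (kc xc29 yc3 zc3) (kc xc25 yc52 zc57) (kc xc25 yc52 zc54) (kc xc29 yc21 zc9) (kc xc19 yc7 zc49) (kc xc14 yc8 zc1) (kc xc12 yc55 zc21) (kc xc12 yc55 zc27) (kc xc28 yc4 zc54) (kc xc19 yc43 zc10) (kc xc12 yc55 zc29) (kc xc12 yc55 zc30) (kc xc25 yc20 zc15) (kc xc17 yc23 zc21) (kc xc29 yc39 zc27) (kc xc29 yc46 zc59) (kc xc15 yc30 zc24) (kc xc30 yc17 zc59) (kc xc29 yc52 zc39) (kc xc12 yc55 zc40) (kc xc23 yc37 zc10) (kc xc17 yc36 zc8) (kc xc12 yc55 zc41) (kc xc30 yc18 zc4) (kc xc15 yc27 zc35)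 (kc xc24 yc32 zc11) (kc xc24 yc32 zc60) (kc xc23 yc43 zc20) (kc xc12 yc55 zc56) (kc xc30 yc18 zc6) (kc xc16 yc46 zc60) (kc xc23 yc56 zc46) (kc xc25 yc22 zc12) (kc xc27 yc12 zc2) (kc xc22 yc42 zc39) (kc xc12 yc55 zc59) (kc xc24 yc57 zc56) (kc xc12 yc55 zc60) (kc xc30 yc18 zc10) (kc xc29 yc48 zc61) (kc xc14 yc47 zc14) (kc xc14 yc4 zc14) (kc xc24 yc57 zc61) (kc xc27 yc24 zc11) (kc xc12 yc56 zc3) (kc xc21 yc53 zc44) (kc xc15 yc19 zc24) (kc xc26 yc0 zc4) (kc xc23 yc35 zc3) (kc xc12 yc56 zc4) (kc xc30 yc18 zc12) (kc xc14 yc8 zc12) (kc xc30 yc18 zc13) (kc xc14 yc47 zc15) (kc xc12 yc56 zc7)) (@D3.rec (fun _ => Pt) (kc xc14 yc8 zc16) (kc xc26 yc41 zc20) (kc xc29 yc34 zc35) (kc xc12 yc56 zc10) (kc xc25 yc17 zc29) (kc xc23 yc25 zc1) (kc xc29 yc44 zc12) (kc xc29 yc44 zc13) (kc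 xc21 yc44 zc15) (kc xc24 yc20 zc61) (kc xc19 yc27 zc16) (kc xc16 yc38 zc34) (kc xc27 yc24 zc15) (kc xc12 yc56 zc33) (kc xc12 yc56 zc32) (kc xc23 yc58 zc34) (kc xc23 yc58 zc33) (kc xc30 yc18 zc19) (kc xc12 yc56 zc38) (kc xc18 yc16 zc26) (kc xc30 yc18 zc21) (kc xc20 yc30 zc51) (kc xc28 yc44 zc58) (kc xc12 yc56 zc41) (kc xc24 yc5 zc1) (kc xc23 yc3 zc42) (kc xc29 yc2 zc60) (kc xc21 yc38 zc2) (kc xc16 yc48 zc3) (kc xc22 yc7 zc55) (kc xc12 yc56 zc50) (kc xc30 yc18 zc22) (kc xc12 yc56 zc55) (kc xc22 yc25 zc55) (kc xc22 yc54 zc29) (kc xc25 yc25 zc12) (kc xc22 yc20 zc54) (kc xc30 yc18 zc25) (kc xc25 yc6 zc55) (kc xc12 yc56 zc59) (kc xc12 yc57 zc0) (kc xc12 yc57 zc1) (kc xc22 yc48 zc10) (kc xc30 yc18 zc30) (kc xc18 yc12 zc2) (kc xc12 yc57 zc3) (kc xc12 yc57 zc4) (kc xc20 yc27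 zc34) (kc xc12 yc57 zc6) (kc xc14 yc27 zc59) (kc xc14 yc27 zc60) (kc xc30 yc18 zc36) (kc xc18 yc51 zc18) (kc xc17 yc3 zc22) (kc xc30 yc18 zc38) (kc xc30 yc18 zc39) (kc xc12 yc57 zc9) (kc xc14 yc26 zc20) (kc xc14 yc26 zc0) (kc xc27 yc21 zc39) (kc xc12 yc57 zc13) (kc xc25 yc6 zc12)) (@D3.rec (fun _ => Pt) (kc xc19 yc37 zc54) (kc xc12 yc57 zc14) (kc xc30 yc18 zc48) (kc xc17 yc11 zc61) (kc xc30 yc18 zc50) (kc xc17 yc20 zc35) (kc xc30 yc18 zc53) (kc xc14 yc26 zc3) (kc xc12 yc57 zc20) (kc xc30 yc18 zc56) (kc xc12 yc57 zc21) (kc xc30 yc18 zc60) (kc xc30 yc19 zc0) (kc xc30 yc19 zc2) (kc xc12 yc57 zc22) (kc xc30 yc19 zc7) (kc xc21 yc41 zc60) (kc xc23 yc48 zc53) (kc xc12 yc57 zc26) (kc xc30 yc19 zc9) (kc xc17 yc10 zc56) (kc xc30 yc18 zc40) (kc xc24 yc6 zc15) (kc xc12 yc57 zc33)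 (kc xc27 yc54 zc41) (kc xc27 yc55 zc3) (kc xc15 yc46 zc59) (kc xc15 yc46 zc49) (kc xc15 yc46 zc61) (kc xc30 yc19 zc17) (kc xc27 yc7 zc8) (kc xc12 yc57 zc38) (kc xc12 yc57 zc39) (kc xc12 yc57 zc40) (kc xc17 yc31 zc47) (kc xc22 yc4 zc35) (kc xc23 yc58 zc27) (kc xc29 yc47 zc43) (kc xc29 yc47 zc45) (kc xc29 yc20 zc21) (kc xc22 yc4 zc59) (kc xc25 yc52 zc41) (kc xc25 yc24 zc35) (kc xc12 yc57 zc51) (kc xc17 yc33 zc28) (kc xc17 yc32 zc25) (kc xc26 yc53 zc50) (kc xc26 yc53 zc51) (kc xc12 yc57 zc57) (kc xc20 yc41 zc38) (kc xc28 yc30 zc15) (kc xc12 yc57 zc59) (kc xc12 yc57 zc60) (kc xc29 yc55 zc58) (kc xc27 yc3 zc25) (kc xc22 yc6 zc29) (kc xc20 yc26 zc31) (kc xc26 yc32 zc15) (kc xc17 yc2 zc44) (kc xc20 yc19 zc9) (kc xc26 yc32 zc14) (kc xc12 yc58 zc7)) (@D3.rec (fun _ => Pt) (kc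 xc16 yc31 zc9) (kc xc20 yc49 zc6) (kc xc21 yc26 zc7) (kc xc12 yc58 zc10) (kc xc12 yc58 zc12) (kc xc20 yc4 zc19) (kc xc26 yc18 zc19) (kc xc19 yc37 zc11) (kc xc21 yc32 zc56) (kc xc30 yc19 zc29) (kc xc21 yc31 zc49) (kc xc12 yc58 zc16) (kc xc30 yc19 zc32) (kc xc17 yc40 zc58) (kc xc24 yc41 zc7) (kc xc12 yc58 zc20) (kc xc21 yc32 zc25) (kc xc12 yc58 zc23) (kc xc30 yc19 zc33) (kc xc21 yc25 zc39) (kc xc12 yc58 zc25) (kc xc27 yc1 zc36) (kc xc24 yc19 zc48) (kc xc12 yc58 zc32) (kc xc14 yc24 zc51) (kc xc12 yc58 zc30) (kc xc22 yc8 zc33) (kc xc12 yc58 zc31) (kc xc24 yc1 zc52) (kc xc27 yc27 zc48) (kc xc26 yc14 zc50) (kc xc12 yc58 zc42) (kc xc18 yc7 zc17) (kc xc22 yc8 zc26) (kc xc24 yc42 zc57) (kc xc12 yc58 zc44) (kc xc24 yc43 zc49) (kc xc18 yc6 zc7) (kc xc14 yc53 zc54) (kc xc12 yc58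 zc46) (kc xc21 yc41 zc40) (kc xc18 yc4 zc12) (kc xc18 yc4 zc11) (kc xc27 yc33 zc2) (kc xc29 yc51 zc18) (kc xc21 yc6 zc31) (kc xc21 yc6 zc32) (kc xc21 yc31 zc39) (kc xc21 yc31 zc29) (kc xc21 yc24 zc24) (kc xc23 yc50 zc18) (kc xc16 yc7 zc48) (kc xc22 yc35 zc20) (kc xc22 yc18 zc39) (kc xc22 yc18 zc40) (kc xc22 yc18 zc61) (kc xc13 yc37 zc50) (kc xc17 yc16 zc25) (kc xc21 yc26 zc53) (kc xc24 yc18 zc24) (kc xc21 yc27 zc26) (kc xc12 yc59 zc3)) (@D3.rec (fun _ => Pt) (kc xc28 yc25 zc7) (kc xc26 yc16 zc49) (kc xc24 yc18 zc23) (kc xc12 yc59 zc5) (kc xc30 yc19 zc44) (kc xc21 yc24 zc33) (kc xc29 yc57 zc30) (kc xc22 yc48 zc20) (kc xc29 yc57 zc32) (kc xc22 yc9 zc14) (kc xc30 yc19 zc47) (kc xc25 yc22 zc60) (kc xc25 yc22 zc59) (kc xc16 yc29 zc1) (kc xc22 yc9 zc9) (kc xc20 yc55 zc53)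 (kc xc21 yc19 zc61) (kc xc14 yc27 zc51) (kc xc30 yc19 zc51) (kc xc12 yc59 zc26) (kc xc19 yc40 zc60) (kc xc30 yc19 zc53) (kc xc12 yc59 zc15) (kc xc14 yc39 zc25) (kc xc28 yc42 zc61) (kc xc25 yc44 zc28) (kc xc30 yc19 zc56) (kc xc15 yc43 zc15) (kc xc13 yc0 zc18) (kc xc21 yc26 zc29) (kc xc14 yc31 zc59) (kc xc16 yc3 zc24) (kc xc12 yc59 zc23) (kc xc29 yc51 zc35) (kc xc14 yc31 zc58) (kc xc12 yc59 zc27) (kc xc23 yc23 zc38) (kc xc12 yc59 zc29) (kc xc22 yc21 zc53) (kc xc30 yc19 zc61) (kc xc29 yc56 zc2) (kc xc25 yc53 zc52) (kc xc21 yc33 zc46) (kc xc17 yc14 zc33) (kc xc12 yc59 zc44) (kc xc26 yc14 zc42) (kc xc24 yc7 zc10) (kc xc13 yc31 zc47) (kc xc30 yc20 zc4) (kc xc22 yc33 zc27) (kc xc12 yc59 zc39) (kc xc23 yc33 zc60) (kc xc23 yc34 zc1) (kc xc16 yc49 zc47) (kc xc25 yc59 zc15) (kc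 xc26 yc27 zc29) (kc xc21 yc16 zc22) (kc xc21 yc4 zc43) (kc xc15 yc40 zc13) (kc xc12 yc59 zc57) (kc xc28 yc15 zc54) (kc xc27 yc13 zc43)) (@D3.rec (fun _ => Pt) (kc xc16 yc54 zc33) (kc xc12 yc59 zc59) (kc xc26 yc50 zc57) (kc xc20 yc9 zc37) (kc xc17 yc14 zc15) (kc xc21 yc23 zc24) (kc xc24 yc36 zc13) (kc xc17 yc43 zc51) (kc xc17 yc43 zc50) (kc xc29 yc12 zc29) (kc xc21 yc23 zc25) (kc xc21 yc39 zc27) (kc xc19 yc55 zc36) (kc xc30 yc20 zc8) (kc xc21 yc33 zc42) (kc xc28 yc4 zc16) (kc xc14 yc7 zc21) (kc xc30 yc4 zc18) (kc xc30 yc20 zc11) (kc xc30 yc20 zc12) (kc xc13 yc0 zc8) (kc xc22 yc4 zc34) (kc xc26 yc10 zc25) (kc xc17 yc42 zc10) (kc xc17 yc29 zc25) (kc xc13 yc0 zc14) (kc xc21 yc25 zc41) (kc xc21 yc24 zc34) (kc xc29 yc56 zc56) (kc xc13 yc0 zc11) (kc xc28 yc57 zc44) (kc xc17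 yc52 zc38) (kc xc13 yc0 zc16) (kc xc13 yc0 zc20) (kc xc18 yc48 zc9) (kc xc13 yc0 zc19) (kc xc25 yc24 zc51) (kc xc13 yc0 zc21) (kc xc21 yc1 zc54) (kc xc29 yc56 zc57) (kc xc13 yc0 zc24) (kc xc29 yc54 zc20) (kc xc22 yc12 zc1) (kc xc23 yc7 zc16) (kc xc13 yc31 zc0) (kc xc23 yc6 zc22) (kc xc26 yc14 zc6) (kc xc27 yc27 zc57) (kc xc21 yc4 zc28) (kc xc27 yc7 zc44) (kc xc21 yc26 zc36) (kc xc21 yc26 zc31) (kc xc14 yc31 zc60) (kc xc13 yc0 zc39) (kc xc14 yc31 zc55) (kc xc13 yc32 zc32) (kc xc19 yc37 zc48) (kc xc17 yc14 zc30) (kc xc22 yc57 zc29) (kc xc21 yc41 zc41) (kc xc26 yc3 zc29) (kc xc23 yc52 zc11)) (@D3.rec (fun _ => Pt) (kc xc13 yc0 zc44) (kc xc21 yc26 zc1) (kc xc28 yc31 zc46) (kc xc13 yc0 zc47) (kc xc26 yc57 zc52) (kc xc14 yc5 zc2) (kc xc13 yc22 zc36) (kc xc13 yc15 zc57) (kc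 xc25 yc27 zc19) (kc xc20 yc23 zc37) (kc xc21 yc23 zc17) (kc xc21 yc23 zc10) (kc xc21 yc46 zc53) (kc xc30 yc8 zc53) (kc xc28 yc31 zc25) (kc xc21 yc46 zc52) (kc xc20 yc27 zc41) (kc xc20 yc27 zc43) (kc xc23 yc49 zc21) (kc xc30 yc20 zc24) (kc xc22 yc0 zc9) (kc xc13 yc1 zc27) (kc xc29 yc33 zc24) (kc xc30 yc20 zc25) (kc xc13 yc1 zc25) (kc xc26 yc42 zc2) (kc xc28 yc59 zc2) (kc xc27 yc21 zc57) (kc xc22 yc1 zc55) (kc xc21 yc36 zc57) (kc xc13 yc1 zc28) (kc xc25 yc30 zc0) (kc xc25 yc27 zc15) (kc xc17 yc25 zc33) (kc xc25 yc52 zc37) (kc xc21 yc7 zc26) (kc xc13 yc10 zc50) (kc xc13 yc1 zc52) (kc xc13 yc1 zc57) (kc xc14 yc49 zc49) (kc xc27 yc50 zc35) (kc xc22 yc38 zc33) (kc xc13 yc2 zc3) (kc xc21 yc27 zc9) (kc xc27 yc50 zc36) (kc xc30 yc2 zc25) (kc xc29 yc52 zc8) (kc xc13 yc16 zc0)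 (kc xc27 yc25 zc27) (kc xc21 yc5 zc25) (kc xc29 yc50 zc46) (kc xc25 yc43 zc31) (kc xc23 yc57 zc15) (kc xc13 yc2 zc13) (kc xc19 yc51 zc25) (kc xc13 yc2 zc14) (kc xc21 yc2 zc12) (kc xc20 yc33 zc33) (kc xc15 yc31 zc33) (kc xc23 yc57 zc9) (kc xc19 yc26 zc26) (kc xc17 yc24 zc9)) (@D3.rec (fun _ => Pt) (kc xc27 yc37 zc9) (kc xc22 yc10 zc42) (kc xc20 yc22 zc22) (kc xc21 yc44 zc44) (kc xc13 yc2 zc29) (kc xc21 yc21 zc17) (kc xc30 yc20 zc33) (kc xc22 yc15 zc2) (kc xc13 yc4 zc46) (kc xc13 yc39 zc16) (kc xc13 yc28 zc55) (kc xc24 yc34 zc27) (kc xc30 yc20 zc9) (kc xc21 yc56 zc16) (kc xc13 yc2 zc38) (kc xc23 yc44 zc30) (kc xc23 yc44 zc31) (kc xc30 yc1 zc6) (kc xc23 yc24 zc51) (kc xc30 yc20 zc36) (kc xc30 yc20 zc37) (kc xc30 yc20 zc38) (kc xc13 yc2 zc44) (kc xc30 yc20 zc41) (kc xc22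 yc15 zc51) (kc xc23 yc43 zc57) (kc xc30 yc0 zc59) (kc xc30 yc20 zc42) (kc xc13 yc2 zc49) (kc xc13 yc2 zc50) (kc xc14 yc16 zc2) (kc xc23 yc53 zc15) (kc xc27 yc6 zc52) (kc xc13 yc2 zc51) (kc xc30 yc20 zc49) (kc xc13 yc2 zc53) (kc xc23 yc3 zc45) (kc xc13 yc38 zc36) (kc xc30 yc20 zc53) (kc xc13 yc5 zc19) (kc xc29 yc30 zc20) (kc xc13 yc2 zc59) (kc xc29 yc36 zc52) (kc xc13 yc2 zc61) (kc xc13 yc3 zc2) (kc xc22 yc23 zc34) (kc xc18 yc12 zc10) (kc xc13 yc3 zc6) (kc xc22 yc23 zc26) (kc xc22 yc23 zc27) (kc xc13 yc3 zc9) (kc xc13 yc59 zc19) (kc xc13 yc3 zc11) (kc xc29 yc30 zc61) (kc xc13 yc3 zc12) (kc xc29 yc28 zc25) (kc xc23 yc11 zc44) (kc xc13 yc3 zc13) (kc xc26 yc46 zc19) (kc xc30 yc21 zc1) (kc xc30 yc21 zc11) (kc xc13 yc3 zc17)) (@D3.rec (fun _ => Pt) (kc xc30 yc21 zc12) (kc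 xc13 yc48 zc60) (kc xc30 yc21 zc14) (kc xc23 yc13 zc48) (kc xc13 yc3 zc19) (kc xc28 yc44 zc33) (kc xc30 yc21 zc16) (kc xc27 yc12 zc43) (kc xc28 yc16 zc29) (kc xc20 yc41 zc26) (kc xc20 yc41 zc25) (kc xc22 yc37 zc39) (kc xc19 yc49 zc51) (kc xc13 yc3 zc25) (kc xc30 yc21 zc23) (kc xc30 yc21 zc25) (kc xc13 yc38 zc52) (kc xc30 yc21 zc27) (kc xc30 yc21 zc30) (kc xc13 yc3 zc27) (kc xc30 yc21 zc36) (kc xc30 yc21 zc39) (kc xc30 yc21 zc40) (kc xc13 yc3 zc29) (kc xc29 yc36 zc35) (kc xc13 yc12 zc55) (kc xc13 yc12 zc53) (kc xc30 yc21 zc34) (kc xc13 yc3 zc31) (kc xc22 yc14 zc14) (kc xc29 yc36 zc51) (kc xc24 yc44 zc20) (kc xc30 yc21 zc49) (kc xc30 yc21 zc50) (kc xc28 yc53 zc2) (kc xc30 yc21 zc51) (kc xc13 yc3 zc34) (kc xc27 yc7 zc14) (kc xc29 yc35 zc19) (kc xc17 yc32 zc31) (kc xc30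 yc21 zc54) (kc xc13 yc3 zc38) (kc xc30 yc21 zc59) (kc xc13 yc12 zc48) (kc xc30 yc21 zc58) (kc xc13 yc3 zc40) (kc xc22 yc27 zc1) (kc xc22 yc27 zc0) (kc xc27 yc6 zc48) (kc xc13 yc3 zc41) (kc xc30 yc22 zc7) (kc xc30 yc22 zc11) (kc xc13 yc12 zc61) (kc xc30 yc22 zc16) (kc xc30 yc22 zc20) (kc xc30 yc22 zc25) (kc xc22 yc40 zc1) (kc xc30 yc11 zc52) (kc xc22 yc39 zc24) (kc xc13 yc7 zc39) (kc xc13 yc3 zc48) (kc xc14 yc36 zc53)) (@D3.rec (fun _ => Pt) (kc xc13 yc3 zc50) (kc xc30 yc22 zc31) (kc xc26 yc49 zc24) (kc xc30 yc22 zc33) (kc xc22 yc32 zc24) (kc xc27 yc13 zc30) (kc xc27 yc13 zc25) (kc xc13 yc3 zc53) (kc xc30 yc22 zc35) (kc xc22 yc39 zc34) (kc xc13 yc3 zc55) (kc xc30 yc22 zc39) (kc xc30 yc22 zc41) (kc xc13 yc3 zc56) (kc xc22 yc13 zc29) (kc xc26 yc52 zc14) (kc xc13 yc3 zc58)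 (kc xc14 yc56 zc52) (kc xc28 yc16 zc25) (kc xc19 yc36 zc25) (kc xc29 yc35 zc21) (kc xc22 yc14 zc21) (kc xc13 yc25 zc57) (kc xc24 yc12 zc6) (kc xc30 yc22 zc57) (kc xc13 yc4 zc5) (kc xc28 yc26 zc45) (kc xc17 yc2 zc17) (kc xc30 yc22 zc59) (kc xc20 yc39 zc53) (kc xc20 yc39 zc52) (kc xc23 yc1 zc31) (kc xc13 yc12 zc15) (kc xc30 yc23 zc3) (kc xc13 yc14 zc21) (kc xc22 yc42 zc43) (kc xc13 yc25 zc59) (kc xc22 yc26 zc38) (kc xc13 yc4 zc17) (kc xc13 yc14 zc16) (kc xc22 yc42 zc30) (kc xc13 yc4 zc19) (kc xc14 yc47 zc7) (kc xc13 yc4 zc21) (kc xc28 yc20 zc49) (kc xc27 yc28 zc39) (kc xc27 yc30 zc47) (kc xc26 yc16 zc5) (kc xc26 yc0 zc53) (kc xc28 yc42 zc51) (kc xc21 yc55 zc38) (kc xc13 yc4 zc25) (kc xc18 yc11 zc14) (kc xc15 yc11 zc52) (kc xc15 yc11 zc51) (kc xc18 yc36 zc59) (kc xc13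 yc4 zc27) (kc xc29 yc54 zc58) (kc xc23 yc6 zc0) (kc xc23 yc50 zc32) (kc xc27 yc50 zc11) (kc xc27 yc53 zc53)) (@D3.rec (fun _ => Pt) (kc xc13 yc4 zc31) (kc xc16 yc15 zc2) (kc xc22 yc12 zc7) (kc xc13 yc29 zc54) (kc xc14 yc41 zc23) (kc xc13 yc4 zc37) (kc xc26 yc13 zc18) (kc xc14 yc59 zc8) (kc xc18 yc7 zc24) (kc xc27 yc45 zc40) (kc xc22 yc15 zc40) (kc xc14 yc56 zc44) (kc xc23 yc36 zc41) (kc xc23 yc36 zc42) (kc xc17 yc40 zc5) (kc xc13 yc4 zc43) (kc xc30 yc23 zc18) (kc xc13 yc4 zc41) (kc xc13 yc4 zc42) (kc xc21 yc25 zc47) (kc xc16 yc15 zc9) (kc xc13 yc15 zc25) (kc xc14 yc53 zc23) (kc xc13 yc4 zc47) (kc xc13 yc37 zc59) (kc xc13 yc5 zc38) (kc xc14 yc13 zc25) (kc xc18 yc49 zc23) (kc xc13 yc18 zc5) (kc xc27 yc50 zc17) (kc xc27 yc53 zc55) (kc xc13 yc4 zc59) (kc xc14 yc9 zc38)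 (kc xc14 yc11 zc2) (kc xc30 yc23 zc21) (kc xc30 yc23 zc23) (kc xc22 yc15 zc37) (kc xc22 yc15 zc36) (kc xc22 yc18 zc28) (kc xc22 yc18 zc29) (kc xc22 yc15 zc10) (kc xc13 yc5 zc5) (kc xc30 yc23 zc28) (kc xc13 yc5 zc4) (kc xc25 yc56 zc0) (kc xc30 yc23 zc31) (kc xc13 yc5 zc6) (kc xc23 yc34 zc6) (kc xc13 yc5 zc7) (kc xc25 yc1 zc16) (kc xc21 yc25 zc0) (kc xc22 yc12 zc24) (kc xc23 yc18 zc47) (kc xc28 yc17 zc13) (kc xc14 yc11 zc61) (kc xc14 yc12 zc0) (kc xc24 yc5 zc16) (kc xc13 yc5 zc15) (kc xc30 yc23 zc36) (kc xc21 yc18 zc10) (kc xc13 yc5 zc16) (kc xc24 yc27 zc50)) (@D3.rec (fun _ => Pt) (kc xc30 yc23 zc38) (kc xc30 yc23 zc40) (kc xc30 yc23 zc42) (kc xc13 yc5 zc17) (kc xc13 yc5 zc18) (kc xc22 yc27 zc2) (kc xc30 yc23 zc43) (kc xc29 yc28 zc9) (kc xc13 yc5 zc23) (kc xc29 yc25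 zc22) (kc xc13 yc5 zc24) (kc xc13 yc16 zc32) (kc xc21 yc39 zc56) (kc xc20 yc20 zc4) (kc xc13 yc44 zc38) (kc xc22 yc59 zc12) (kc xc21 yc27 zc19) (kc xc23 yc11 zc61) (kc xc17 yc16 zc55) (kc xc13 yc5 zc31) (kc xc30 yc23 zc52) (kc xc25 yc26 zc7) (kc xc13 yc5 zc33) (kc xc30 yc23 zc54) (kc xc24 yc8 zc54) (kc xc29 yc50 zc47) (kc xc26 yc28 zc38) (kc xc19 yc21 zc28) (kc xc13 yc5 zc37) (kc xc15 yc38 zc8) (kc xc30 yc23 zc57) (kc xc13 yc5 zc40) (kc xc26 yc41 zc43) (kc xc13 yc45 zc7) (kc xc13 yc45 zc8) (kc xc13 yc6 zc6) (kc xc13 yc5 zc42) (kc xc21 yc24 zc0) (kc xc30 yc23 zc61) (kc xc13 yc5 zc46) (kc xc26 yc46 zc32) (kc xc13 yc5 zc47) (kc xc22 yc47 zc22) (kc xc30 yc24 zc1) (kc xc13 yc5 zc49) (kc xc13 yc28 zc1) (kc xc13 yc5 zc50) (kc xc29 yc9 zc10) (kc xc13 yc10 zc51) (kc xc13 yc10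 zc52) (kc xc28 yc20 zc36) (kc xc13 yc54 zc54) (kc xc13 yc5 zc52) (kc xc23 yc32 zc56) (kc xc13 yc5 zc53) (kc xc27 yc56 zc24) (kc xc23 yc57 zc6) (kc xc28 yc17 zc15) (kc xc13 yc5 zc54) (kc xc30 yc24 zc9) (kc xc23 yc29 zc11) (kc xc19 yc56 zc39)) (@D3.rec (fun _ => Pt) (kc xc24 yc8 zc40) (kc xc13 yc5 zc58) (kc xc26 yc29 zc41) (kc xc29 yc27 zc4) (kc xc26 yc27 zc24) (kc xc23 yc53 zc31) (kc xc13 yc5 zc60) (kc xc23 yc19 zc2) (kc xc23 yc19 zc3) (kc xc24 yc16 zc28) (kc xc28 yc12 zc43) (kc xc13 yc6 zc0) (kc xc29 yc1 zc23) (kc xc30 yc24 zc14) (kc xc13 yc6 zc2) (kc xc30 yc24 zc21) (kc xc16 yc27 zc5) (kc xc27 yc58 zc28) (kc xc23 yc53 zc43) (kc xc13 yc6 zc4) (kc xc16 yc26 zc47) (kc xc22 yc59 zc47) (kc xc29 yc0 zc27) (kc xc22 yc17 zc41) (kc xc30 yc24 zc28) (kc xc29 yc0 zc22) (kc xc28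 yc20 zc40) (kc xc30 yc24 zc30) (kc xc29 yc50 zc55) (kc xc13 yc49 zc48) (kc xc13 yc6 zc9) (kc xc26 yc27 zc47) (kc xc30 yc24 zc32) (kc xc13 yc6 zc10) (kc xc22 yc51 zc25) (kc xc30 yc24 zc36) (kc xc30 yc24 zc34) (kc xc13 yc6 zc13) (kc xc29 yc0 zc28) (kc xc29 yc9 zc6) (kc xc27 yc42 zc60) (kc xc22 yc17 zc23) (kc xc27 yc3 zc39) (kc xc29 yc13 zc56) (kc xc21 yc30 zc55) (kc xc30 yc24 zc41) (kc xc20 yc32 zc36) (kc xc18 yc23 zc16) (kc xc26 yc55 zc13) (kc xc13 yc6 zc26) (kc xc28 yc10 zc49) (kc xc28 yc10 zc50) (kc xc30 yc6 zc17) (kc xc13 yc52 zc5) (kc xc26 yc7 zc29) (kc xc21 yc25 zc32) (kc xc21 yc25 zc33) (kc xc21 yc39 zc57) (kc xc20 yc0 zc56) (kc xc19 yc32 zc26) (kc xc13 yc6 zc41) (kc xc29 yc45 zc52)) (@D3.rec (fun _ => Pt) (kc xc28 yc13 zc55) (kc xc13 yc6 zc44) (kc xc30 yc24 zc45)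 (kc xc30 yc8 zc37) (kc xc13 yc6 zc45) (kc xc24 yc48 zc23) (kc xc13 yc6 zc47) (kc xc30 yc24 zc47) (kc xc16 yc28 zc60) (kc xc13 yc6 zc49) (kc xc27 yc49 zc60) (kc xc28 yc22 zc47) (kc xc25 yc56 zc12) (kc xc13 yc7 zc9) (kc xc27 yc40 zc17) (kc xc15 yc4 zc2) (kc xc13 yc6 zc52) (kc xc30 yc24 zc55) (kc xc23 yc6 zc40) (kc xc13 yc6 zc53) (kc xc24 yc46 zc31) (kc xc13 yc6 zc54) (kc xc13 yc10 zc55) (kc xc13 yc10 zc56) (kc xc13 yc6 zc56) (kc xc27 yc32 zc0) (kc xc13 yc6 zc57) (kc xc29 yc55 zc39) (kc xc22 yc15 zc38) (kc xc22 yc15 zc39) (kc xc25 yc1 zc33) (kc xc13 yc6 zc60) (kc xc18 yc38 zc47) (kc xc26 yc19 zc33) (kc xc14 yc10 zc2) (kc xc27 yc58 zc33) (kc xc20 yc10 zc50) (kc xc30 yc25 zc0) (kc xc23 yc29 zc51) (kc xc22 yc8 zc53) (kc xc22 yc8 zc54) (kc xc24 yc47 zc49) (kc xc13 yc7 zc3)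 (kc xc27 yc40 zc12) (kc xc13 yc7 zc5) (kc xc24 yc44 zc14) (kc xc27 yc45 zc21) (kc xc24 yc40 zc23) (kc xc13 yc7 zc6) (kc xc24 yc40 zc27) (kc xc18 yc19 zc25) (kc xc13 yc7 zc8) (kc xc27 yc23 zc21) (kc xc17 yc44 zc44) (kc xc27 yc53 zc57) (kc xc27 yc55 zc16) (kc xc30 yc24 zc53) (kc xc13 yc7 zc10) (kc xc30 yc25 zc8) (kc xc30 yc25 zc13) (kc xc30 yc25 zc14) (kc xc22 yc8 zc55)) (@D3.rec (fun _ => Pt) (kc xc13 yc29 zc26) (kc xc20 yc46 zc4) (kc xc21 yc13 zc44) (kc xc28 yc46 zc15) (kc xc13 yc7 zc17) (kc xc13 yc7 zc16) (kc xc30 yc25 zc20) (kc xc27 yc21 zc40) (kc xc14 yc46 zc9) (kc xc20 yc56 zc53) (kc xc26 yc57 zc6) (kc xc26 yc55 zc53) (kc xc20 yc49 zc21) (kc xc13 yc7 zc21) (kc xc30 yc25 zc26) (kc xc16 yc37 zc40) (kc xc13 yc7 zc22) (kc xc27 yc17 zc8) (kc xc24 yc1 zc1) (kc xc30 yc25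 zc35) (kc xc13 yc7 zc38) (kc xc28 yc46 zc14) (kc xc13 yc7 zc24) (kc xc29 yc10 zc41) (kc xc16 yc37 zc33) (kc xc29 yc10 zc42) (kc xc26 yc41 zc28) (kc xc26 yc39 zc30) (kc xc29 yc45 zc40) (kc xc30 yc14 zc52) (kc xc29 yc34 zc20) (kc xc29 yc46 zc18) (kc xc13 yc7 zc33) (kc xc30 yc25 zc48) (kc xc30 yc25 zc47) (kc xc13 yc7 zc35) (kc xc28 yc54 zc28) (kc xc26 yc33 zc21) (kc xc22 yc42 zc32) (kc xc30 yc25 zc57) (kc xc28 yc18 zc27) (kc xc30 yc11 zc51) (kc xc22 yc25 zc7) (kc xc29 yc44 zc9) (kc xc19 yc32 zc5) (kc xc29 yc28 zc47) (kc xc29 yc40 zc24) (kc xc22 yc24 zc22) (kc xc24 yc34 zc46) (kc xc24 yc22 zc47) (kc xc13 yc7 zc49) (kc xc13 yc11 zc51) (kc xc19 yc56 zc36) (kc xc30 yc26 zc6) (kc xc24 yc10 zc4) (kc xc24 yc15 zc18) (kc xc21 yc24 zc2) (kc xc24 yc5 zc54) (kc xc30 yc26 zc10) (kc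 xc14 yc19 zc41) (kc xc27 yc51 zc52) (kc xc27 yc51 zc53)) (@D3.rec (fun _ => Pt) (kc xc14 yc31 zc25) (kc xc14 yc31 zc26) (kc xc25 yc49 zc5) (kc xc21 yc10 zc52) (kc xc27 yc53 zc3) (kc xc13 yc28 zc44) (kc xc30 yc26 zc17) (kc xc14 yc42 zc50) (kc xc19 yc56 zc58) (kc xc27 yc53 zc6) (kc xc20 yc6 zc34) (kc xc13 yc8 zc12) (kc xc18 yc34 zc24) (kc xc30 yc26 zc21) (kc xc13 yc8 zc13) (kc xc30 yc26 zc24) (kc xc13 yc8 zc38) (kc xc23 yc0 zc54) (kc xc13 yc8 zc15) (kc xc27 yc52 zc17) (kc xc18 yc57 zc15) (kc xc28 yc25 zc12) (kc xc25 yc55 zc49) (kc xc15 yc31 zc36) (kc xc25 yc25 zc6) (kc xc13 yc8 zc20) (kc xc19 yc49 zc48) (kc xc13 yc8 zc21) (kc xc19 yc39 zc10) (kc xc29 yc27 zc43) (kc xc13 yc8 zc23) (kc xc15 yc39 zc48) (kc xc13 yc8 zc24) (kc xc24 yc24 zc34) (kc xc30 yc26 zc32) (kc xc30 yc24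 zc2) (kc xc13 yc8 zc25) (kc xc30 yc26 zc36) (kc xc22 yc45 zc56) (kc xc22 yc58 zc17) (kc xc30 yc26 zc35) (kc xc19 yc46 zc37) (kc xc24 yc6 zc37) (kc xc13 yc8 zc31) (kc xc23 yc1 zc36) (kc xc27 yc43 zc19) (kc xc26 yc46 zc17) (kc xc13 yc8 zc32) (kc xc13 yc8 zc33) (kc xc30 yc26 zc43) (kc xc30 yc26 zc42) (kc xc22 yc48 zc15) (kc xc22 yc54 zc51) (kc xc26 yc24 zc43) (kc xc22 yc6 zc36) (kc xc13 yc8 zc37) (kc xc24 yc38 zc46) (kc xc24 yc38 zc47) (kc xc25 yc27 zc45) (kc xc30 yc26 zc20) (kc xc30 yc26 zc23) (kc xc21 yc11 zc1)) (@D3.rec (fun _ => Pt) (kc xc26 yc32 zc1) (kc xc13 yc8 zc40) (kc xc30 yc26 zc53) (kc xc30 yc26 zc54) (kc xc13 yc8 zc41) (kc xc29 yc7 zc50) (kc xc30 yc26 zc56) (kc xc26 yc58 zc31) (kc xc24 yc34 zc3) (kc xc27 yc3 zc42) (kc xc30 yc26 zc58) (kc xc24 yc32 zc49) (kc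 xc20 yc26 zc41) (kc xc23 yc57 zc21) (kc xc29 yc15 zc10) (kc xc13 yc8 zc55) (kc xc24 yc35 zc26) (kc xc24 yc35 zc27) (kc xc13 yc8 zc56) (kc xc25 yc33 zc11) (kc xc30 yc26 zc59) (kc xc23 yc41 zc7) (kc xc30 yc3 zc56) (kc xc13 yc9 zc42) (kc xc26 yc34 zc41) (kc xc13 yc9 zc0) (kc xc13 yc9 zc2) (kc xc28 yc18 zc57) (kc xc13 yc9 zc3) (kc xc28 yc51 zc30) (kc xc20 yc58 zc35) (kc xc13 yc9 zc4) (kc xc13 yc9 zc5) (kc xc30 yc27 zc3) (kc xc13 yc9 zc6) (kc xc22 yc45 zc10) (kc xc30 yc27 zc7) (kc xc19 yc31 zc14) (kc xc19 yc28 zc41) (kc xc13 yc9 zc28) (kc xc30 yc27 zc15) (kc xc13 yc9 zc8) (kc xc19 yc29 zc11) (kc xc21 yc50 zc14) (kc xc13 yc9 zc11) (kc xc20 yc14 zc41) (kc xc21 yc8 zc26) (kc xc27 yc37 zc30) (kc xc30 yc27 zc2) (kc xc20 yc46 zc30) (kc xc28 yc36 zc38) (kc xc23 yc13 zc2) (kc xc23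 yc13 zc3) (kc xc22 yc9 zc38) (kc xc19 yc55 zc49) (kc xc14 yc29 zc14) (kc xc24 yc10 zc9) (kc xc24 yc10 zc7) (kc xc24 yc38 zc15) (kc xc24 yc10 zc44) (kc xc24 yc9 zc47) (kc xc21 yc47 zc23)) (@D3.rec (fun _ => Pt) (kc xc27 yc43 zc40) (kc xc30 yc0 zc8) (kc xc29 yc21 zc58) (kc xc14 yc29 zc10) (kc xc18 yc0 zc28) (kc xc27 yc42 zc47) (kc xc13 yc9 zc30) (kc xc13 yc9 zc31) (kc xc30 yc27 zc26) (kc xc20 yc53 zc14) (kc xc20 yc53 zc15) (kc xc21 yc47 zc21) (kc xc26 yc34 zc47) (kc xc16 yc9 zc14) (kc xc14 yc16 zc26) (kc xc13 yc44 zc15) (kc xc24 yc33 zc29) (kc xc24 yc6 zc42) (kc xc22 yc33 zc23) (kc xc13 yc9 zc40) (kc xc24 yc27 zc56) (kc xc23 yc52 zc16) (kc xc23 yc58 zc48) (kc xc29 yc37 zc58) (kc xc30 yc27 zc31) (kc xc14 yc25 zc43) (kc xc30 yc27 zc32) (kc xc14 yc18 zc10) (kc xc13 yc10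 zc2) (kc xc26 yc27 zc51) (kc xc18 yc39 zc50) (kc xc23 yc55 zc25) (kc xc26 yc27 zc50) (kc xc13 yc10 zc1) (kc xc28 yc0 zc16) (kc xc14 yc27 zc30) (kc xc13 yc10 zc5) (kc xc13 yc10 zc4) (kc xc26 yc26 zc37) (kc xc25 yc57 zc35) (kc xc30 yc27 zc35) (kc xc14 yc43 zc10) (kc xc14 yc27 zc31) (kc xc13 yc10 zc8) (kc xc26 yc27 zc56) (kc xc24 yc6 zc4) (kc xc13 yc10 zc11) (kc xc30 yc24 zc11) (kc xc19 yc0 zc60) (kc xc13 yc10 zc15) (kc xc19 yc27 zc5) (kc xc28 yc55 zc2) (kc xc13 yc10 zc16) (kc xc29 yc4 zc16) (kc xc13 yc10 zc18) (kc xc30 yc27 zc40) (kc xc26 yc24 zc8) (kc xc27 yc21 zc27) (kc xc13 yc10 zc20) (kc xc25 yc43 zc14) (kc xc13 yc10 zc21) (kc xc14 yc19 zc18)) (@D3.rec (fun _ => Pt) (kc xc14 yc52 zc55) (kc xc30 yc27 zc44) (kc xc14 yc52 zc57) (kc xc13 yc10 zc27) (kc xc15 yc40 zc50)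 (kc xc15 yc34 zc37) (kc xc26 yc34 zc40) (kc xc13 yc10 zc29) (kc xc13 yc10 zc30) (kc xc13 yc10 zc36) (kc xc17 yc59 zc48) (kc xc24 yc28 zc42) (kc xc18 yc21 zc31) (kc xc21 yc19 zc52) (kc xc27 yc29 zc26) (kc xc13 yc10 zc43) (kc xc14 yc21 zc52) (kc xc17 yc59 zc47) (kc xc17 yc59 zc9) (kc xc18 yc0 zc26) (kc xc13 yc10 zc47) (kc xc30 yc27 zc55) (kc xc13 yc10 zc49) (kc xc15 yc8 zc2) (kc xc29 yc36 zc48) (kc xc21 yc32 zc42) (kc xc22 yc12 zc48) (kc xc22 yc12 zc49) (kc xc30 yc27 zc54) (kc xc23 yc35 zc12) (kc xc13 yc10 zc54) (kc xc26 yc16 zc0) (kc xc23 yc52 zc18) (kc xc14 yc15 zc17) (kc xc22 yc12 zc45) (kc xc16 yc56 zc57) (kc xc20 yc48 zc54) (kc xc20 yc41 zc14) (kc xc29 yc47 zc26) (kc xc13 yc11 zc5) (kc xc28 yc1 zc39) (kc xc30 yc28 zc0) (kc xc30 yc23 zc2) (kc xc30 yc28 zc3) (kc xc20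 yc49 zc5) (kc xc20 yc48 zc55) (kc xc28 yc54 zc46) (kc xc30 yc28 zc6) (kc xc30 yc28 zc7) (kc xc24 yc21 zc49) (kc xc20 yc17 zc6) (kc xc20 yc15 zc3) (kc xc21 yc50 zc15) (kc xc29 yc45 zc37) (kc xc30 yc28 zc10) (kc xc13 yc33 zc47) (kc xc22 yc50 zc36) (kc xc13 yc11 zc20) (kc xc29 yc33 zc53) (kc xc24 yc30 zc12) (kc xc18 yc49 zc26) (kc xc14 yc44 zc1)) (@D3.rec (fun _ => Pt) (kc xc13 yc11 zc35) (kc xc13 yc11 zc23) (kc xc30 yc28 zc20) (kc xc30 yc28 zc22) (kc xc30 yc28 zc25) (kc xc13 yc11 zc24) (kc xc22 yc57 zc59) (kc xc13 yc11 zc25) (kc xc30 yc28 zc26) (kc xc30 yc28 zc28) (kc xc13 yc11 zc26) (kc xc13 yc11 zc28) (kc xc14 yc40 zc33) (kc xc14 yc40 zc35) (kc xc13 yc11 zc30) (kc xc20 yc44 zc26) (kc xc30 yc28 zc35) (kc xc24 yc24 zc47) (kc xc13 yc12 zc51) (kc xc13 yc11 zc32) (kc xc30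 yc28 zc42) (kc xc30 yc28 zc45) (kc xc22 yc19 zc47) (kc xc30 yc28 zc47) (kc xc30 yc28 zc50) (kc xc30 yc28 zc16) (kc xc29 yc40 zc22) (kc xc13 yc12 zc46) (kc xc13 yc11 zc39) (kc xc30 yc28 zc55) (kc xc13 yc11 zc40) (kc xc30 yc28 zc57) (kc xc19 yc31 zc59) (kc xc13 yc11 zc42) (kc xc19 yc31 zc18) (kc xc13 yc11 zc43) (kc xc30 yc28 zc61) (kc xc14 yc43 zc59) (kc xc14 yc43 zc58) (kc xc13 yc11 zc49) (kc xc24 yc26 zc23) (kc xc13 yc11 zc45) (kc xc30 yc29 zc12) (kc xc18 yc52 zc56) (kc xc30 yc29 zc10) (kc xc23 yc2 zc21) (kc xc15 yc39 zc1) (kc xc15 yc39 zc2) (kc xc30 yc29 zc14) (kc xc30 yc29 zc17) (kc xc30 yc29 zc6) (kc xc27 yc1 zc11) (kc xc23 yc4 zc45) (kc xc26 yc24 zc36) (kc xc26 yc24 zc35) (kc xc13 yc11 zc55) (kc xc13 yc49 zc33) (kc xc29 yc46 zc32) (kc xc14 yc22 zc54) (kc xc14 yc22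 zc44) (kc xc13 yc11 zc61) (kc xc15 yc19 zc20)) (@D3.rec (fun _ => Pt) (kc xc13 yc11 zc58) (kc xc26 yc32 zc29) (kc xc30 yc29 zc27) (kc xc17 yc7 zc16) (kc xc29 yc46 zc26) (kc xc22 yc1 zc26) (kc xc20 yc48 zc46) (kc xc22 yc19 zc42) (kc xc24 yc25 zc12) (kc xc30 yc15 zc56) (kc xc30 yc15 zc57) (kc xc22 yc1 zc31) (kc xc30 yc29 zc29) (kc xc20 yc44 zc51) (kc xc20 yc44 zc56) (kc xc20 yc44 zc47) (kc xc20 yc49 zc2) (kc xc17 yc17 zc21) (kc xc30 yc14 zc60) (kc xc13 yc12 zc8) (kc xc30 yc29 zc37) (kc xc13 yc12 zc7) (kc xc21 yc54 zc26) (kc xc18 yc47 zc28) (kc xc30 yc14 zc61) (kc xc29 yc33 zc28) (kc xc26 yc52 zc27) (kc xc29 yc34 zc19) (kc xc30 yc29 zc34) (kc xc23 yc46 zc4) (kc xc23 yc46 zc3) (kc xc28 yc6 zc37) (kc xc13 yc12 zc10) (kc xc27 yc54 zc24) (kc xc29 yc47 zc13) (kc xc29 yc47 zc14)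 (kc xc30 yc29 zc46) (kc xc13 yc12 zc12) (kc xc26 yc52 zc21) (kc xc29 yc33 zc35) (kc xc28 yc54 zc17) (kc xc28 yc54 zc20) (kc xc29 yc38 zc56) (kc xc24 yc24 zc37) (kc xc26 yc51 zc37) (kc xc24 yc21 zc47) (kc xc13 yc12 zc16) (kc xc26 yc53 zc28) (kc xc23 yc45 zc45) (kc xc26 yc51 zc35) (kc xc30 yc29 zc59) (kc xc13 yc12 zc17) (kc xc28 yc55 zc50) (kc xc29 yc30 zc19) (kc xc27 yc8 zc21) (kc xc22 yc6 zc33) (kc xc13 yc12 zc19) (kc xc30 yc30 zc0) (kc xc24 yc24 zc33) (kc xc20 yc42 zc53) (kc xc20 yc48 zc59) (kc xc20 yc48 zc58)) (@D3.rec (fun _ => Pt) (kc xc26 yc17 zc58) (kc xc20 yc35 zc44) (kc xc13 yc12 zc23) (kc xc23 yc9 zc39) (kc xc20 yc48 zc7) (kc xc27 yc0 zc3) (kc xc23 yc9 zc37) (kc xc29 yc32 zc33) (kc xc13 yc35 zc25) (kc xc13 yc12 zc58) (kc xc30 yc30 zc8) (kc xc30 yc30 zc10) (kc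 xc14 yc40 zc55) (kc xc14 yc22 zc56) (kc xc24 yc9 zc58) (kc xc13 yc12 zc29) (kc xc30 yc30 zc12) (kc xc29 yc40 zc53) (kc xc13 yc12 zc31) (kc xc29 yc40 zc0) (kc xc29 yc39 zc61) (kc xc19 yc19 zc27) (kc xc30 yc30 zc16) (kc xc13 yc12 zc36) (kc xc29 yc32 zc55) (kc xc30 yc30 zc18) (kc xc19 yc4 zc45) (kc xc19 yc47 zc24) (kc xc29 yc47 zc16) (kc xc29 yc47 zc17) (kc xc24 yc1 zc47) (kc xc30 yc30 zc26) (kc xc13 yc12 zc41) (kc xc20 yc48 zc14) (kc xc13 yc12 zc42) (kc xc14 yc37 zc53) (kc xc30 yc28 zc34) (kc xc20 yc41 zc16) (kc xc22 yc14 zc37) (kc xc30 yc15 zc33) (kc xc29 yc40 zc10) (kc xc30 yc28 zc40) (kc xc29 yc38 zc8) (kc xc29 yc54 zc56) (kc xc30 yc30 zc28) (kc xc24 yc1 zc45) (kc xc29 yc35 zc42) (kc xc30 yc20 zc59) (kc xc30 yc30 zc36) (kc xc24 yc37 zc21) (kc xc14 yc55 zc19) (kc xc13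 yc22 zc21) (kc xc22 yc40 zc13) (kc xc21 yc13 zc57) (kc xc29 yc37 zc1) (kc xc29 yc39 zc29) (kc xc17 yc24 zc22) (kc xc14 yc23 zc22) (kc xc26 yc49 zc23) (kc xc14 yc38 zc60) (kc xc13 yc12 zc59) (kc xc30 yc30 zc41)) (@D3.rec (fun _ => Pt) (kc xc22 yc13 zc47) (kc xc22 yc13 zc46) (kc xc22 yc16 zc5) (kc xc13 yc13 zc12) (kc xc22 yc48 zc55) (kc xc22 yc49 zc1) (kc xc25 yc34 zc56) (kc xc14 yc54 zc54) (kc xc28 yc12 zc5) (kc xc15 yc41 zc34) (kc xc13 yc13 zc7) (kc xc14 yc55 zc37) (kc xc14 yc55 zc36) (kc xc14 yc29 zc35) (kc xc24 yc25 zc59) (kc xc13 yc13 zc27) (kc xc28 yc40 zc25) (kc xc29 yc45 zc54) (kc xc30 yc30 zc53) (kc xc20 yc39 zc27) (kc xc13 yc13 zc13) (kc xc26 yc2 zc52) (kc xc30 yc30 zc55) (kc xc13 yc13 zc14) (kc xc30 yc30 zc58) (kc xc24 yc24 zc38) (kc xc24 yc25 zc46) (kc xc13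 yc13 zc19) (kc xc13 yc13 zc16) (kc xc30 yc31 zc7) (kc xc30 yc31 zc9) (kc xc30 yc31 zc11) (kc xc30 yc31 zc3) (kc xc30 yc31 zc12) (kc xc13 yc13 zc18) (kc xc26 yc35 zc41) (kc xc30 yc15 zc36) (kc xc29 yc33 zc37) (kc xc21 yc14 zc55) (kc xc30 yc31 zc21) (kc xc13 yc28 zc4) (kc xc30 yc31 zc25) (kc xc20 yc44 zc34) (kc xc13 yc28 zc7) (kc xc13 yc28 zc6) (kc xc13 yc13 zc23) (kc xc30 yc31 zc15) (kc xc13 yc33 zc42) (kc xc13 yc13 zc25) (kc xc30 yc31 zc30) (kc xc30 yc31 zc32) (kc xc13 yc13 zc28) (kc xc23 yc54 zc7) (kc xc18 yc36 zc26) (kc xc25 yc29 zc60) (kc xc21 yc17 zc13) (kc xc21 yc17 zc15) (kc xc17 yc40 zc57) (kc xc13 yc27 zc22) (kc xc13 yc13 zc32) (kc xc23 yc16 zc57) (kc xc13 yc13 zc35)) (@D3.rec (fun _ => Pt) (kc xc30 yc31 zc36) (kc xc21 yc25 zc18) (kc xc21 yc25 zc21) (kc xc27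 yc4 zc48) (kc xc13 yc13 zc37) (kc xc13 yc13 zc38) (kc xc30 yc31 zc42) (kc xc13 yc13 zc40) (kc xc27 yc45 zc41) (kc xc15 yc13 zc55) (kc xc21 yc26 zc6) (kc xc13 yc53 zc40) (kc xc13 yc15 zc41) (kc xc15 yc22 zc48) (kc xc27 yc4 zc24) (kc xc27 yc4 zc23) (kc xc21 yc26 zc2) (kc xc13 yc49 zc25) (kc xc13 yc13 zc48) (kc xc22 yc30 zc41) (kc xc13 yc13 zc51) (kc xc13 yc13 zc50) (kc xc13 yc46 zc39) (kc xc13 yc46 zc38) (kc xc23 yc3 zc15) (kc xc24 yc58 zc57) (kc xc23 yc3 zc10) (kc xc23 yc17 zc54) (kc xc22 yc55 zc48) (kc xc23 yc45 zc0) (kc xc23 yc45 zc1) (kc xc13 yc13 zc55) (kc xc13 yc13 zc53) (kc xc30 yc31 zc49) (kc xc30 yc31 zc50) (kc xc22 yc49 zc33) (kc xc27 yc31 zc28) (kc xc13 yc52 zc54) (kc xc23 yc37 zc46) (kc xc13 yc13 zc60) (kc xc18 yc28 zc22) (kc xc30 yc31 zc51) (kc xc29 yc24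 zc31) (kc xc13 yc14 zc2) (kc xc13 yc18 zc19) (kc xc29 yc41 zc2) (kc xc27 yc9 zc8) (kc xc30 yc31 zc52) (kc xc13 yc14 zc6) (kc xc28 yc19 zc3) (kc xc18 yc57 zc14) (kc xc18 yc15 zc49) (kc xc27 yc53 zc58) (kc xc13 yc14 zc9) (kc xc18 yc13 zc18) (kc xc13 yc14 zc11) (kc xc19 yc10 zc40) (kc xc25 yc12 zc28) (kc xc18 yc16 zc5) (kc xc17 yc30 zc23) (kc xc14 yc43 zc5) (kc xc14 yc43 zc3)) (@D3.rec (fun _ => Pt) (kc xc14 yc55 zc3) (kc xc23 yc42 zc56) (kc xc13 yc34 zc44) (kc xc14 yc53 zc18) (kc xc14 yc50 zc58) (kc xc30 yc31 zc54) (kc xc21 yc33 zc32) (kc xc30 yc31 zc55) (kc xc14 yc32 zc12) (kc xc13 yc14 zc26) (kc xc24 yc56 zc28) (kc xc25 yc3 zc20) (kc xc13 yc14 zc27) (kc xc30 yc25 zc2) (kc xc13 yc14 zc30) (kc xc18 yc36 zc10) (kc xc18 yc36 zc25) (kc xc18 yc50 zc11) (kc xc13 yc29 zc61)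 (kc xc30 yc31 zc59) (kc xc13 yc15 zc10) (kc xc17 yc46 zc30) (kc xc13 yc14 zc34) (kc xc30 yc6 zc16) (kc xc13 yc14 zc35) (kc xc19 yc3 zc46) (kc xc28 yc36 zc43) (kc xc19 yc22 zc47) (kc xc15 yc21 zc37) (kc xc30 yc32 zc1) (kc xc13 yc14 zc37) (kc xc27 yc55 zc0) (kc xc28 yc24 zc60) (kc xc23 yc6 zc19) (kc xc16 yc20 zc25) (kc xc30 yc19 zc43) (kc xc22 yc36 zc14) (kc xc30 yc32 zc2) (kc xc18 yc35 zc60) (kc xc30 yc32 zc6) (kc xc30 yc32 zc8) (kc xc13 yc14 zc45) (kc xc23 yc18 zc38) (kc xc22 yc49 zc8) (kc xc30 yc32 zc9) (kc xc23 yc25 zc40) (kc xc14 yc6 zc43) (kc xc20 yc42 zc39) (kc xc23 yc48 zc48) (kc xc14 yc26 zc8) (kc xc30 yc15 zc9) (kc xc13 yc14 zc54) (kc xc29 yc35 zc41) (kc xc27 yc13 zc28) (kc xc13 yc14 zc57) (kc xc22 yc39 zc33) (kc xc13 yc14 zc59) (kc xc30 yc32 zc23) (kc xc27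 yc7 zc61) (kc xc24 yc40 zc38) (kc xc30 yc32 zc28) (kc xc13 yc15 zc1)) (@D3.rec (fun _ => Pt) (kc xc22 yc39 zc26) (kc xc13 yc15 zc2) (kc xc30 yc32 zc31) (kc xc14 yc56 zc47) (kc xc13 yc15 zc3) (kc xc13 yc35 zc34) (kc xc13 yc15 zc4) (kc xc29 yc51 zc39) (kc xc13 yc15 zc8) (kc xc30 yc32 zc36) (kc xc18 yc23 zc3) (kc xc23 yc21 zc16) (kc xc14 yc3 zc39) (kc xc13 yc46 zc44) (kc xc13 yc48 zc9) (kc xc23 yc37 zc54) (kc xc21 yc4 zc31) (kc xc13 yc15 zc14) (kc xc26 yc18 zc8) (kc xc13 yc15 zc20) (kc xc30 yc32 zc41) (kc xc28 yc27 zc1) (kc xc28 yc27 zc5) (kc xc13 yc15 zc23) (kc xc14 yc1 zc1) (kc xc13 yc55 zc9) (kc xc24 yc59 zc35) (kc xc14 yc45 zc29) (kc xc23 yc6 zc13) (kc xc14 yc9 zc6) (kc xc22 yc45 zc46) (kc xc13 yc51 zc49) (kc xc14 yc0 zc31) (kc xc14 yc9 zc9) (kc xc28 yc25 zc48) (kc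 xc13 yc15 zc37) (kc xc30 yc32 zc45) (kc xc13 yc23 zc59) (kc xc13 yc15 zc39) (kc xc13 yc15 zc40) (kc xc30 yc32 zc47) (kc xc22 yc28 zc19) (kc xc13 yc15 zc43) (kc xc30 yc32 zc50) (kc xc30 yc32 zc51) (kc xc30 yc32 zc49) (kc xc23 yc34 zc44) (kc xc18 yc59 zc59) (kc xc23 yc3 zc3) (kc xc23 yc3 zc4) (kc xc23 yc16 zc38) (kc xc25 yc2 zc43) (kc xc28 yc34 zc13) (kc xc28 yc13 zc17) (kc xc17 yc25 zc35) (kc xc18 yc23 zc4) (kc xc23 yc21 zc11) (kc xc21 yc6 zc26) (kc xc21 yc6 zc27) (kc xc13 yc15 zc51) (kc xc30 yc32 zc58) (kc xc30 yc32 zc59)) (@D3.rec (fun _ => Pt) (kc xc30 yc32 zc60) (kc xc29 yc42 zc11) (kc xc30 yc33 zc1) (kc xc13 yc15 zc54) (kc xc30 yc33 zc5) (kc xc13 yc45 zc35) (kc xc14 yc17 zc22) (kc xc18 yc7 zc7) (kc xc17 yc38 zc53) (kc xc26 yc6 zc25) (kc xc17 yc38 zc32) (kc xc13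 yc15 zc58) (kc xc27 yc17 zc57) (kc xc21 yc43 zc51) (kc xc13 yc15 zc60) (kc xc18 yc6 zc48) (kc xc27 yc6 zc3) (kc xc13 yc15 zc61) (kc xc13 yc16 zc1) (kc xc28 yc11 zc44) (kc xc22 yc42 zc11) (kc xc22 yc42 zc12) (kc xc22 yc41 zc61) (kc xc25 yc3 zc7) (kc xc24 yc31 zc12) (kc xc13 yc16 zc8) (kc xc26 yc0 zc54) (kc xc13 yc16 zc9) (kc xc13 yc16 zc10) (kc xc26 yc3 zc24) (kc xc18 yc42 zc36) (kc xc13 yc16 zc11) (kc xc25 yc39 zc13) (kc xc30 yc33 zc32) (kc xc13 yc16 zc19) (kc xc30 yc33 zc36) (kc xc13 yc16 zc14) (kc xc18 yc18 zc4) (kc xc28 yc0 zc30) (kc xc26 yc3 zc25) (kc xc29 yc18 zc18) (kc xc13 yc16 zc15) (kc xc29 yc18 zc19) (kc xc19 yc56 zc32) (kc xc21 yc41 zc1) (kc xc22 yc58 zc27) (kc xc23 yc15 zc45) (kc xc13 yc16 zc17) (kc xc20 yc32 zc18) (kc xc30 yc31 zc45) (kc xc23 yc32 zc10)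 (kc xc29 yc10 zc50) (kc xc16 yc11 zc29) (kc xc22 yc42 zc17) (kc xc22 yc42 zc18) (kc xc22 yc39 zc6) (kc xc13 yc16 zc23) (kc xc30 yc33 zc47) (kc xc30 yc33 zc50) (kc xc30 yc33 zc51) (kc xc30 yc13 zc9) (kc xc14 yc5 zc5)) (@D3.rec (fun _ => Pt) (kc xc23 yc54 zc58) (kc xc22 yc49 zc19) (kc xc13 yc16 zc26) (kc xc13 yc18 zc6) (kc xc23 yc6 zc43) (kc xc29 yc18 zc49) (kc xc23 yc47 zc46) (kc xc21 yc15 zc26) (kc xc17 yc18 zc6) (kc xc14 yc5 zc35) (kc xc16 yc51 zc59) (kc xc22 yc43 zc5) (kc xc16 yc23 zc7) (kc xc13 yc16 zc42) (kc xc21 yc53 zc1) (kc xc13 yc16 zc41) (kc xc30 yc5 zc35) (kc xc23 yc49 zc2) (kc xc13 yc16 zc46) (kc xc13 yc16 zc45) (kc xc20 yc0 zc43) (kc xc16 yc32 zc18) (kc xc14 yc40 zc15) (kc xc30 yc33 zc60) (kc xc22 yc14 zc4) (kc xc16 yc52 zc23) (kc xc16 yc52 zc25) (kc xc13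 yc16 zc55) (kc xc14 yc39 zc30) (kc xc14 yc39 zc31) (kc xc17 yc55 zc32) (kc xc13 yc16 zc58) (kc xc26 yc3 zc49) (kc xc27 yc5 zc20) (kc xc17 yc56 zc2) (kc xc13 yc16 zc59) (kc xc30 yc34 zc3) (kc xc22 yc56 zc56) (kc xc22 yc56 zc55) (kc xc13 yc16 zc61) (kc xc13 yc17 zc1) (kc xc30 yc3 zc23) (kc xc22 yc35 zc34) (kc xc13 yc17 zc4) (kc xc28 yc18 zc14) (kc xc28 yc18 zc13) (kc xc25 yc39 zc51) (kc xc14 yc12 zc44) (kc xc23 yc26 zc23) (kc xc23 yc27 zc25) (kc xc13 yc17 zc15) (kc xc13 yc55 zc61) (kc xc23 yc2 zc58) (kc xc30 yc11 zc40) (kc xc13 yc17 zc12) (kc xc22 yc38 zc12) (kc xc22 yc38 zc13) (kc xc14 yc41 zc5) (kc xc30 yc34 zc9) (kc xc13 yc49 zc34) (kc xc23 yc18 zc37) (kc xc29 yc48 zc5)) (@D3.rec (fun _ => Pt) (kc xc14 yc21 zc38) (kc xc28 yc2 zc43) (kc xc13 yc17 zc18) (kc xc22 yc38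 zc42) (kc xc13 yc19 zc11) (kc xc14 yc21 zc40) (kc xc27 yc32 zc32) (kc xc18 yc0 zc12) (kc xc13 yc47 zc17) (kc xc13 yc47 zc9) (kc xc30 yc21 zc57) (kc xc13 yc38 zc35) (kc xc30 yc34 zc21) (kc xc29 yc55 zc7) (kc xc28 yc55 zc17) (kc xc29 yc55 zc30) (kc xc30 yc34 zc24) (kc xc30 yc34 zc26) (kc xc13 yc17 zc26) (kc xc30 yc21 zc56) (kc xc30 yc34 zc27) (kc xc13 yc17 zc29) (kc xc30 yc21 zc19) (kc xc22 yc22 zc18) (kc xc26 yc26 zc3) (kc xc13 yc17 zc37) (kc xc29 yc28 zc42) (kc xc22 yc9 zc49) (kc xc24 yc15 zc21) (kc xc21 yc45 zc1) (kc xc29 yc56 zc25) (kc xc24 yc15 zc34) (kc xc14 yc21 zc8) (kc xc23 yc58 zc59) (kc xc30 yc34 zc40) (kc xc13 yc17 zc47) (kc xc28 yc23 zc7) (kc xc27 yc53 zc20) (kc xc27 yc41 zc29) (kc xc24 yc54 zc39) (kc xc23 yc11 zc34) (kc xc28 yc6 zc50) (kc xc23 yc11 zc36)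 (kc xc30 yc34 zc47) (kc xc13 yc17 zc58) (kc xc30 yc34 zc51) (kc xc23 yc26 zc53) (kc xc13 yc40 zc21) (kc xc13 yc40 zc22) (kc xc14 yc17 zc11) (kc xc30 yc34 zc53) (kc xc13 yc17 zc61) (kc xc30 yc34 zc55) (kc xc14 yc17 zc34) (kc xc30 yc34 zc56) (kc xc13 yc18 zc1) (kc xc29 yc19 zc49) (kc xc13 yc36 zc5) (kc xc13 yc36 zc6) (kc xc14 yc17 zc27) (kc xc23 yc20 zc40) (kc xc24 yc38 zc43)) (@D3.rec (fun _ => Pt) (kc xc28 yc27 zc7) (kc xc30 yc33 zc57) (kc xc23 yc32 zc31) (kc xc23 yc32 zc30) (kc xc13 yc18 zc7) (kc xc13 yc18 zc8) (kc xc23 yc3 zc8) (kc xc13 yc57 zc54) (kc xc13 yc57 zc21) (kc xc30 yc35 zc4) (kc xc14 yc28 zc23) (kc xc30 yc35 zc6) (kc xc13 yc18 zc13) (kc xc25 yc18 zc14) (kc xc13 yc18 zc16) (kc xc13 yc18 zc18) (kc xc14 yc25 zc32) (kc xc29 yc14 zc33) (kc xc13 yc18 zc22) (kc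 xc30 yc35 zc11) (kc xc13 yc18 zc24) (kc xc24 yc56 zc60) (kc xc14 yc53 zc32) (kc xc13 yc18 zc26) (kc xc28 yc26 zc22) (kc xc30 yc23 zc20) (kc xc18 yc23 zc53) (kc xc13 yc18 zc30) (kc xc30 yc35 zc14) (kc xc26 yc15 zc16) (kc xc13 yc18 zc31) (kc xc26 yc10 zc49) (kc xc13 yc18 zc33) (kc xc27 yc52 zc36) (kc xc19 yc15 zc31) (kc xc27 yc33 zc0) (kc xc24 yc18 zc27) (kc xc13 yc41 zc56) (kc xc29 yc51 zc50) (kc xc13 yc18 zc38) (kc xc30 yc35 zc19) (kc xc30 yc35 zc18) (kc xc13 yc18 zc41) (kc xc18 yc5 zc9) (kc xc18 yc5 zc3) (kc xc29 yc50 zc30) (kc xc27 yc33 zc53) (kc xc30 yc35 zc23) (kc xc13 yc49 zc29) (kc xc30 yc35 zc25) (kc xc29 yc20 zc34) (kc xc13 yc18 zc44) (kc xc30 yc35 zc27) (kc xc28 yc10 zc38) (kc xc23 yc19 zc49) (kc xc30 yc35 zc26) (kc xc13 yc18 zc47) (kc xc23 yc51 zc27) (kc xc27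 yc49 zc10) (kc xc30 yc35 zc34) (kc xc13 yc18 zc48) (kc xc30 yc35 zc38)) (@D3.rec (fun _ => Pt) (kc xc30 yc35 zc37) (kc xc13 yc18 zc50) (kc xc18 yc28 zc13) (kc xc18 yc28 zc6) (kc xc30 yc35 zc46) (kc xc30 yc35 zc42) (kc xc27 yc34 zc39) (kc xc13 yc18 zc51) (kc xc30 yc35 zc50) (kc xc30 yc35 zc49) (kc xc13 yc18 zc53) (kc xc14 yc56 zc49) (kc xc13 yc19 zc59) (kc xc30 yc27 zc58) (kc xc13 yc18 zc57) (kc xc30 yc25 zc11) (kc xc18 yc53 zc36) (kc xc13 yc18 zc60) (kc xc23 yc51 zc3) (kc xc23 yc51 zc4) (kc xc22 yc8 zc52) (kc xc17 yc18 zc45) (kc xc30 yc35 zc54) (kc xc13 yc19 zc3) (kc xc22 yc39 zc32) (kc xc14 yc39 zc42) (kc xc13 yc19 zc2) (kc xc24 yc2 zc11) (kc xc26 yc27 zc5) (kc xc21 yc15 zc57) (kc xc13 yc56 zc13) (kc xc30 yc36 zc2) (kc xc30 yc36 zc3) (kc xc13 yc19 zc9) (kc xc22 yc32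 zc42) (kc xc23 yc20 zc6) (kc xc13 yc23 zc31) (kc xc13 yc19 zc12) (kc xc30 yc29 zc55) (kc xc16 yc38 zc37) (kc xc17 yc34 zc54) (kc xc14 yc39 zc10) (kc xc18 yc31 zc29) (kc xc13 yc19 zc15) (kc xc30 yc36 zc7) (kc xc13 yc19 zc20) (kc xc13 yc19 zc19) (kc xc30 yc36 zc10) (kc xc30 yc31 zc13) (kc xc13 yc19 zc22) (kc xc30 yc36 zc12) (kc xc15 yc58 zc54) (kc xc13 yc19 zc23) (kc xc19 yc28 zc3) (kc xc30 yc36 zc17) (kc xc13 yc19 zc24) (kc xc30 yc36 zc19) (kc xc22 yc57 zc44) (kc xc16 yc22 zc40) (kc xc18 yc55 zc44) (kc xc13 yc19 zc26) (kc xc30 yc36 zc23)) (@D3.rec (fun _ => Pt) (kc xc13 yc19 zc28) (kc xc30 yc36 zc25) (kc xc22 yc59 zc61) (kc xc19 yc15 zc22) (kc xc27 yc13 zc29) (kc xc14 yc48 zc18) (kc xc26 yc49 zc26) (kc xc13 yc19 zc35) (kc xc29 yc19 zc40) (kc xc28 yc9 zc59) (kc xc24 yc29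 zc6) (kc xc23 yc4 zc11) (kc xc27 yc37 zc50) (kc xc27 yc37 zc49) (kc xc22 yc29 zc36) (kc xc13 yc19 zc48) (kc xc13 yc20 zc0) (kc xc23 yc49 zc52) (kc xc23 yc49 zc53) (kc xc29 yc7 zc34) (kc xc23 yc36 zc40) (kc xc13 yc19 zc58) (kc xc23 yc51 zc25) (kc xc18 yc28 zc11) (kc xc13 yc19 zc60) (kc xc18 yc15 zc23) (kc xc29 yc22 zc35) (kc xc19 yc2 zc5) (kc xc13 yc26 zc53) (kc xc16 yc30 zc31) (kc xc23 yc55 zc2) (kc xc13 yc20 zc6) (kc xc30 yc36 zc36) (kc xc29 yc55 zc15) (kc xc13 yc34 zc15) (kc xc30 yc36 zc40) (kc xc23 yc19 zc27) (kc xc30 yc36 zc42) (kc xc16 yc0 zc23) (kc xc13 yc20 zc8) (kc xc30 yc36 zc44) (kc xc27 yc13 zc38) (kc xc13 yc20 zc11) (kc xc23 yc50 zc3) (kc xc13 yc20 zc13) (kc xc21 yc51 zc3) (kc xc27 yc5 zc41) (kc xc13 yc27 zc36) (kc xc21 yc51 zc5) (kc xc21 yc51 zc4) (kc xc26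 yc5 zc59) (kc xc29 yc22 zc22) (kc xc13 yc53 zc34) (kc xc13 yc20 zc22) (kc xc27 yc8 zc9) (kc xc28 yc2 zc44) (kc xc23 yc47 zc54) (kc xc26 yc12 zc59) (kc xc21 yc44 zc59) (kc xc20 yc9 zc60) (kc xc20 yc9 zc58) (kc xc20 yc15 zc15)) (@D3.rec (fun _ => Pt) (kc xc23 yc26 zc17) (kc xc23 yc26 zc18) (kc xc20 yc39 zc60) (kc xc13 yc22 zc10) (kc xc27 yc22 zc9) (kc xc14 yc27 zc3) (kc xc21 yc53 zc19) (kc xc21 yc34 zc25) (kc xc23 yc42 zc13) (kc xc15 yc45 zc53) (kc xc19 yc26 zc56) (kc xc15 yc33 zc6) (kc xc27 yc45 zc7) (kc xc13 yc20 zc51) (kc xc20 yc54 zc45) (kc xc24 yc8 zc9) (kc xc13 yc54 zc6) (kc xc23 yc29 zc42) (kc xc23 yc29 zc0) (kc xc23 yc26 zc32) (kc xc26 yc22 zc45) (kc xc14 yc6 zc7) (kc xc21 yc20 zc30) (kc xc13 yc20 zc57) (kc xc30 yc36 zc56) (kc xc13 yc20 zc58) (kc xc24 yc5 zc23)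 (kc xc29 yc36 zc20) (kc xc13 yc20 zc60) (kc xc30 yc36 zc59) (kc xc13 yc21 zc0) (kc xc30 yc37 zc0) (kc xc30 yc37 zc1) (kc xc13 yc21 zc2) (kc xc20 yc41 zc10) (kc xc13 yc21 zc3) (kc xc23 yc52 zc45) (kc xc14 yc13 zc6) (kc xc14 yc13 zc7) (kc xc22 yc13 zc11) (kc xc22 yc46 zc43) (kc xc30 yc37 zc4) (kc xc15 yc8 zc28) (kc xc13 yc21 zc7) (kc xc13 yc24 zc30) (kc xc30 yc7 zc15) (kc xc14 yc10 zc36) (kc xc14 yc10 zc7) (kc xc30 yc37 zc6) (kc xc13 yc21 zc9) (kc xc30 yc37 zc10) (kc xc30 yc22 zc55) (kc xc13 yc21 zc11) (kc xc26 yc22 zc31) (kc xc22 yc42 zc26) (kc xc22 yc41 zc15) (kc xc13 yc21 zc26) (kc xc13 yc24 zc31) (kc xc26 yc1 zc17) (kc xc13 yc21 zc16) (kc xc24 yc24 zc15) (kc xc24 yc1 zc9)) (@D3.rec (fun _ => Pt) (kc xc13 yc21 zc19) (kc xc13 yc47 zc7) (kc xc29 yc55 zc29) (kc xc13 yc21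 zc21) (kc xc30 yc37 zc19) (kc xc30 yc2 zc44) (kc xc30 yc37 zc17) (kc xc20 yc4 zc49) (kc xc14 yc42 zc48) (kc xc27 yc5 zc42) (kc xc14 yc42 zc44) (kc xc13 yc32 zc9) (kc xc22 yc32 zc55) (kc xc22 yc32 zc56) (kc xc24 yc38 zc19) (kc xc13 yc21 zc31) (kc xc16 yc31 zc48) (kc xc13 yc21 zc28) (kc xc20 yc48 zc22) (kc xc13 yc21 zc29) (kc xc24 yc29 zc13) (kc xc29 yc38 zc10) (kc xc29 yc40 zc7) (kc xc13 yc21 zc30) (kc xc14 yc40 zc52) (kc xc19 yc32 zc21) (kc xc29 yc36 zc42) (kc xc13 yc21 zc35) (kc xc20 yc22 zc46) (kc xc15 yc53 zc1) (kc xc14 yc13 zc20) (kc xc13 yc21 zc38) (kc xc28 yc17 zc53) (kc xc22 yc11 zc41) (kc xc22 yc42 zc25) (kc xc22 yc40 zc27) (kc xc29 yc19 zc39) (kc xc15 yc52 zc59) (kc xc13 yc58 zc43) (kc xc27 yc44 zc4) (kc xc13 yc21 zc45) (kc xc16 yc52 zc31) (kc xc22 yc33 zc3)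 (kc xc13 yc51 zc56) (kc xc13 yc21 zc51) (kc xc13 yc21 zc48) (kc xc15 yc32 zc21) (kc xc15 yc31 zc20) (kc xc15 yc31 zc19) (kc xc25 yc24 zc46) (kc xc13 yc21 zc53) (kc xc21 yc54 zc61) (kc xc20 yc41 zc8) (kc xc20 yc41 zc5) (kc xc25 yc30 zc16) (kc xc13 yc21 zc55) (kc xc13 yc39 zc6) (kc xc26 yc19 zc35) (kc xc21 yc55 zc0) (kc xc18 yc48 zc1) (kc xc18 yc47 zc61) (kc xc13 yc21 zc61)) (@D3.rec (fun _ => Pt) (kc xc17 yc15 zc12) (kc xc13 yc21 zc58) (kc xc13 yc21 zc59) (kc xc20 yc54 zc57) (kc xc13 yc21 zc60) (kc xc30 yc37 zc37) (kc xc22 yc31 zc55) (kc xc20 yc32 zc15) (kc xc13 yc22 zc2) (kc xc15 yc56 zc13) (kc xc30 yc37 zc39) (kc xc20 yc6 zc61) (kc xc16 yc29 zc58) (kc xc14 yc41 zc35) (kc xc14 yc41 zc36) (kc xc14 yc21 zc13) (kc xc24 yc10 zc56) (kc xc24 yc47 zc35) (kc xc30 yc37 zc43)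 (kc xc24 yc10 zc17) (kc xc30 yc37 zc45) (kc xc24 yc10 zc15) (kc xc30 yc37 zc49) (kc xc13 yc22 zc15) (kc xc22 yc13 zc58) (kc xc22 yc41 zc42) (kc xc22 yc30 zc0) (kc xc24 yc23 zc26) (kc xc29 yc35 zc43) (kc xc13 yc22 zc19) (kc xc26 yc54 zc4) (kc xc13 yc29 zc52) (kc xc22 yc35 zc24) (kc xc22 yc29 zc55) (kc xc22 yc14 zc9) (kc xc30 yc37 zc29) (kc xc30 yc37 zc30) (kc xc13 yc22 zc22) (kc xc30 yc38 zc5) (kc xc29 yc29 zc31) (kc xc13 yc22 zc25) (kc xc30 yc38 zc12) (kc xc30 yc38 zc14) (kc xc30 yc38 zc11) (kc xc13 yc22 zc26) (kc xc22 yc59 zc24) (kc xc30 yc38 zc15) (kc xc13 yc22 zc28) (kc xc30 yc35 zc56) (kc xc30 yc38 zc17) (kc xc30 yc30 zc45) (kc xc13 yc22 zc29) (kc xc28 yc51 zc49) (kc xc29 yc28 zc59) (kc xc13 yc22 zc31) (kc xc28 yc47 zc30) (kc xc30 yc38 zc30) (kc xc28 yc17 zc31)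 (kc xc13 yc29 zc56) (kc xc28 yc36 zc7) (kc xc14 yc13 zc11) (kc xc30 yc38 zc37)) (@D3.rec (fun _ => Pt) (kc xc24 yc24 zc43) (kc xc22 yc13 zc56) (kc xc30 yc35 zc41) (kc xc13 yc29 zc48) (kc xc14 yc6 zc23) (kc xc27 yc8 zc57) (kc xc30 yc38 zc41) (kc xc30 yc38 zc42) (kc xc13 yc22 zc37) (kc xc30 yc38 zc44) (kc xc21 yc39 zc12) (kc xc30 yc38 zc43) (kc xc13 yc22 zc40) (kc xc22 yc26 zc52) (kc xc30 yc22 zc43) (kc xc20 yc39 zc55) (kc xc13 yc23 zc11) (kc xc21 yc51 zc6) (kc xc17 yc15 zc58) (kc xc21 yc51 zc33) (kc xc21 yc51 zc32) (kc xc13 yc22 zc46) (kc xc26 yc4 zc12) (kc xc20 yc13 zc5) (kc xc13 yc22 zc48) (kc xc14 yc40 zc14) (kc xc13 yc56 zc19) (kc xc22 yc38 zc35) (kc xc13 yc22 zc49) (kc xc29 yc23 zc55) (kc xc13 yc22 zc60) (kc xc30 yc30 zc19) (kc xc17 yc15 zc60) (kc xc13 yc22 zc56)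 (kc xc28 yc6 zc58) (kc xc29 yc48 zc51) (kc xc13 yc22 zc58) (kc xc30 yc37 zc15) (kc xc23 yc24 zc16) (kc xc30 yc34 zc1) (kc xc30 yc36 zc51) (kc xc19 yc52 zc32) (kc xc24 yc28 zc4) (kc xc30 yc38 zc59) (kc xc13 yc23 zc3) (kc xc25 yc42 zc32) (kc xc30 yc39 zc2) (kc xc26 yc50 zc20) (kc xc13 yc23 zc1) (kc xc30 yc39 zc4) (kc xc29 yc21 zc59) (kc xc24 yc25 zc10) (kc xc24 yc25 zc9) (kc xc13 yc23 zc2) (kc xc29 yc40 zc6) (kc xc13 yc23 zc4) (kc xc24 yc25 zc11) (kc xc30 yc15 zc25) (kc xc13 yc33 zc57) (kc xc14 yc41 zc2) (kc xc23 yc54 zc54) (kc xc23 yc20 zc35)) (@D3.rec (fun _ => Pt) (kc xc22 yc47 zc13) (kc xc19 yc31 zc3) (kc xc13 yc23 zc12) (kc xc25 yc26 zc54) (kc xc16 yc10 zc21) (kc xc16 yc10 zc22) (kc xc24 yc38 zc61) (kc xc14 yc39 zc52) (kc xc13 yc23 zc17) (kc xc23 yc27 zc19) (kc xc19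 yc34 zc37) (kc xc19 yc34 zc34) (kc xc30 yc36 zc39) (kc xc19 yc18 zc60) (kc xc13 yc23 zc39) (kc xc22 yc37 zc55) (kc xc14 yc29 zc47) (kc xc13 yc23 zc27) (kc xc19 yc51 zc56) (kc xc13 yc23 zc34) (kc xc21 yc9 zc1) (kc xc13 yc23 zc37) (kc xc13 yc23 zc38) (kc xc30 yc39 zc13) (kc xc13 yc23 zc40) (kc xc29 yc48 zc12) (kc xc23 yc59 zc26) (kc xc23 yc59 zc27) (kc xc14 yc39 zc58) (kc xc24 yc35 zc50) (kc xc22 yc56 zc14) (kc xc30 yc21 zc52) (kc xc27 yc6 zc61) (kc xc13 yc23 zc44) (kc xc30 yc39 zc22) (kc xc30 yc21 zc32) (kc xc13 yc23 zc45) (kc xc30 yc23 zc34) (kc xc13 yc23 zc46) (kc xc13 yc23 zc48) (kc xc23 yc52 zc40) (kc xc23 yc52 zc41) (kc xc22 yc39 zc25) (kc xc22 yc45 zc13) (kc xc19 yc56 zc43) (kc xc30 yc39 zc35) (kc xc24 yc40 zc36) (kc xc29 yc37 zc2) (kc xc13 yc23 zc51) (kc xc30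 yc39 zc40) (kc xc30 yc39 zc44) (kc xc28 yc36 zc4) (kc xc13 yc23 zc54) (kc xc30 yc39 zc48) (kc xc30 yc39 zc50) (kc xc24 yc39 zc1) (kc xc24 yc10 zc49) (kc xc23 yc3 zc16) (kc xc14 yc9 zc7) (kc xc21 yc55 zc51) (kc xc21 yc55 zc52) (kc xc22 yc31 zc22)) (@D3.rec (fun _ => Pt) (kc xc13 yc24 zc0) (kc xc14 yc0 zc43) (kc xc14 yc24 zc29) (kc xc29 yc29 zc23) (kc xc13 yc27 zc20) (kc xc23 yc17 zc59) (kc xc23 yc17 zc60) (kc xc14 yc55 zc2) (kc xc20 yc32 zc34) (kc xc13 yc24 zc6) (kc xc20 yc32 zc30) (kc xc22 yc31 zc20) (kc xc22 yc31 zc21) (kc xc21 yc6 zc48) (kc xc23 yc44 zc12) (kc xc13 yc24 zc8) (kc xc28 yc3 zc5) (kc xc22 yc31 zc53) (kc xc22 yc31 zc54) (kc xc28 yc12 zc25) (kc xc28 yc27 zc12) (kc xc22 yc58 zc36) (kc xc23 yc33 zc40) (kc xc30 yc39 zc60) (kc xc18 yc37 zc14) (kc xc22 yc38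 zc34) (kc xc22 yc37 zc54) (kc xc13 yc24 zc19) (kc xc30 yc12 zc32) (kc xc13 yc24 zc20) (kc xc22 yc14 zc40) (kc xc30 yc23 zc4) (kc xc22 yc19 zc38) (kc xc18 yc35 zc13) (kc xc16 yc21 zc7) (kc xc21 yc14 zc23) (kc xc29 yc17 zc24) (kc xc27 yc11 zc52) (kc xc30 yc40 zc0) (kc xc22 yc5 zc41) (kc xc17 yc56 zc7) (kc xc30 yc2 zc51) (kc xc25 yc51 zc55) (kc xc22 yc14 zc35) (kc xc13 yc24 zc33) (kc xc24 yc11 zc5) (kc xc26 yc23 zc37) (kc xc13 yc27 zc13) (kc xc13 yc24 zc35) (kc xc16 yc26 zc14) (kc xc14 yc7 zc22) (kc xc23 yc28 zc56) (kc xc13 yc24 zc38) (kc xc24 yc38 zc25) (kc xc23 yc26 zc42) (kc xc30 yc40 zc6) (kc xc13 yc24 zc39) (kc xc30 yc40 zc10) (kc xc30 yc40 zc13) (kc xc30 yc40 zc15) (kc xc13 yc24 zc40) (kc xc28 yc47 zc13)) (@D3.rec (fun _ => Pt) (kc xc30 yc40 zc19) (kc xc13 yc24 zc43)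 (kc xc14 yc55 zc21) (kc xc29 yc13 zc59) (kc xc26 yc48 zc31) (kc xc22 yc32 zc11) (kc xc29 yc12 zc3) (kc xc28 yc49 zc44) (kc xc28 yc49 zc45) (kc xc13 yc24 zc49) (kc xc30 yc40 zc26) (kc xc26 yc6 zc27) (kc xc13 yc24 zc51) (kc xc29 yc58 zc44) (kc xc23 yc42 zc0) (kc xc30 yc40 zc31) (kc xc30 yc10 zc0) (kc xc13 yc24 zc52) (kc xc30 yc40 zc36) (kc xc30 yc2 zc45) (kc xc13 yc24 zc53) (kc xc30 yc40 zc40) (kc xc13 yc56 zc41) (kc xc13 yc56 zc42) (kc xc13 yc24 zc55) (kc xc17 yc27 zc45) (kc xc29 yc56 zc33) (kc xc30 yc40 zc45) (kc xc22 yc43 zc29) (kc xc22 yc43 zc28) (kc xc25 yc23 zc18) (kc xc13 yc24 zc58) (kc xc30 yc40 zc51) (kc xc30 yc40 zc53) (kc xc30 yc4 zc47) (kc xc30 yc40 zc55) (kc xc13 yc24 zc59) (kc xc21 yc19 zc27) (kc xc13 yc25 zc7) (kc xc30 yc41 zc1) (kc xc14 yc55 zc18) (kc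 xc16 yc11 zc46) (kc xc20 yc28 zc40) (kc xc29 yc4 zc29) (kc xc29 yc5 zc40) (kc xc21 yc22 zc46) (kc xc29 yc5 zc47) (kc xc14 yc46 zc28) (kc xc21 yc34 zc8) (kc xc30 yc41 zc5) (kc xc27 yc58 zc9) (kc xc13 yc25 zc6) (kc xc24 yc38 zc31) (kc xc14 yc14 zc50) (kc xc23 yc20 zc29) (kc xc22 yc49 zc40) (kc xc23 yc20 zc30) (kc xc27 yc47 zc21) (kc xc24 yc27 zc13) (kc xc22 yc2 zc48) (kc xc14 yc2 zc23) (kc xc14 yc7 zc50)) (@D3.rec (fun _ => Pt) (kc xc17 yc54 zc44) (kc xc13 yc48 zc10) (kc xc23 yc22 zc14) (kc xc24 yc23 zc50) (kc xc23 yc42 zc1) (kc xc30 yc41 zc10) (kc xc13 yc25 zc20) (kc xc23 yc42 zc5) (kc xc26 yc47 zc14) (kc xc13 yc25 zc22) (kc xc29 yc58 zc23) (kc xc23 yc40 zc14) (kc xc29 yc10 zc30) (kc xc21 yc41 zc16) (kc xc13 yc25 zc23) (kc xc30 yc41 zc23) (kc xc30 yc41 zc25) (kc xc30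 yc41 zc27) (kc xc13 yc25 zc24) (kc xc30 yc41 zc32) (kc xc30 yc41 zc36) (kc xc30 yc41 zc30) (kc xc17 yc56 zc3) (kc xc17 yc56 zc12) (kc xc14 yc7 zc33) (kc xc30 yc7 zc36) (kc xc30 yc41 zc39) (kc xc21 yc14 zc54) (kc xc30 yc41 zc41) (kc xc30 yc40 zc3) (kc xc29 yc49 zc48) (kc xc30 yc41 zc43) (kc xc13 yc25 zc32) (kc xc29 yc55 zc25) (kc xc30 yc41 zc45) (kc xc13 yc25 zc34) (kc xc24 yc37 zc26) (kc xc23 yc29 zc25) (kc xc30 yc41 zc51) (kc xc13 yc25 zc45) (kc xc14 yc5 zc60) (kc xc13 yc25 zc36) (kc xc30 yc41 zc59) (kc xc29 yc17 zc34) (kc xc30 yc41 zc58) (kc xc28 yc49 zc31) (kc xc28 yc49 zc38) (kc xc15 yc30 zc0) (kc xc21 yc24 zc52) (kc xc21 yc34 zc36) (kc xc30 yc40 zc48) (kc xc13 yc25 zc40) (kc xc13 yc25 zc42) (kc xc30 yc42 zc7) (kc xc30 yc42 zc9) (kc xc21 yc34 zc38) (kc xc30 yc42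 zc12) (kc xc19 yc55 zc14) (kc xc14 yc51 zc56) (kc xc26 yc54 zc52) (kc xc27 yc42 zc32) (kc xc19 yc47 zc10)) (@D3.rec (fun _ => Pt) (kc xc19 yc59 zc57) (kc xc23 yc27 zc5) (kc xc30 yc42 zc15) (kc xc13 yc25 zc48) (kc xc22 yc5 zc0) (kc xc30 yc42 zc18) (kc xc29 yc10 zc6) (kc xc13 yc25 zc49) (kc xc29 yc34 zc56) (kc xc29 yc18 zc45) (kc xc22 yc21 zc35) (kc xc23 yc9 zc14) (kc xc13 yc51 zc50) (kc xc22 yc41 zc43) (kc xc13 yc38 zc17) (kc xc13 yc51 zc13) (kc xc30 yc12 zc52) (kc xc30 yc12 zc53) (kc xc19 yc20 zc35) (kc xc21 yc14 zc24) (kc xc26 yc19 zc8) (kc xc21 yc8 zc40) (kc xc21 yc8 zc39) (kc xc23 yc2 zc28) (kc xc13 yc49 zc10) (kc xc14 yc47 zc50) (kc xc23 yc16 zc28) (kc xc13 yc26 zc5) (kc xc30 yc42 zc25) (kc xc15 yc12 zc13) (kc xc15 yc12 zc8) (kc xc23 yc44 zc39) (kc xc13 yc28 zc54)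 (kc xc13 yc26 zc7) (kc xc14 yc21 zc27) (kc xc13 yc26 zc8) (kc xc13 yc26 zc9) (kc xc19 yc26 zc23) (kc xc18 yc36 zc41) (kc xc18 yc37 zc3) (kc xc18 yc29 zc23) (kc xc23 yc16 zc17) (kc xc19 yc14 zc50) (kc xc16 yc50 zc41) (kc xc13 yc26 zc13) (kc xc21 yc29 zc60) (kc xc22 yc30 zc30) (kc xc30 yc42 zc34) (kc xc13 yc26 zc18) (kc xc19 yc54 zc37) (kc xc21 yc26 zc5) (kc xc21 yc26 zc4) (kc xc23 yc44 zc36) (kc xc13 yc26 zc20) (kc xc30 yc13 zc38) (kc xc24 yc10 zc40) (kc xc22 yc20 zc38) (kc xc30 yc42 zc36) (kc xc30 yc42 zc37) (kc xc13 yc26 zc23) (kc xc30 yc0 zc60) (kc xc30 yc0 zc61)) (@D3.rec (fun _ => Pt) (kc xc29 yc58 zc51) (kc xc30 yc0 zc57) (kc xc30 yc0 zc58) (kc xc30 yc0 zc53) (kc xc18 yc42 zc42) (kc xc18 yc42 zc43) (kc xc30 yc1 zc61) (kc xc18 yc37 zc35) (kc xc18 yc29 zc8) (kc xc30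 yc42 zc47) (kc xc18 yc37 zc9) (kc xc18 yc37 zc30) (kc xc14 yc2 zc36) (kc xc15 yc10 zc18) (kc xc13 yc26 zc36) (kc xc13 yc38 zc43) (kc xc23 yc3 zc27) (kc xc13 yc26 zc47) (kc xc29 yc54 zc53) (kc xc29 yc8 zc40) (kc xc13 yc26 zc49) (kc xc24 yc28 zc7) (kc xc24 yc28 zc8) (kc xc13 yc26 zc51) (kc xc24 yc2 zc13) (kc xc30 yc42 zc50) (kc xc28 yc43 zc17) (kc xc26 yc27 zc10) (kc xc27 yc20 zc15) (kc xc15 yc59 zc55) (kc xc13 yc26 zc61) (kc xc20 yc0 zc25) (kc xc13 yc27 zc2) (kc xc30 yc42 zc51) (kc xc18 yc0 zc47) (kc xc13 yc50 zc34) (kc xc14 yc10 zc43) (kc xc13 yc27 zc7) (kc xc16 yc48 zc61) (kc xc20 yc13 zc58) (kc xc30 yc42 zc52) (kc xc21 yc31 zc58) (kc xc13 yc27 zc11) (kc xc22 yc37 zc40) (kc xc26 yc51 zc54) (kc xc29 yc27 zc0) (kc xc30 yc28 zc33) (kc xc29 yc53 zc34) (kc xc29 yc31 zc28)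 (kc xc24 yc24 zc49) (kc xc29 yc33 zc47) (kc xc13 yc27 zc16) (kc xc24 yc24 zc40) (kc xc24 yc25 zc3) (kc xc30 yc42 zc56) (kc xc13 yc27 zc17) (kc xc13 yc41 zc37) (kc xc13 yc27 zc18) (kc xc13 yc27 zc19) (kc xc21 yc13 zc54) (kc xc21 yc57 zc7) (kc xc13 yc53 zc43)) (@D3.rec (fun _ => Pt) (kc xc13 yc27 zc26) (kc xc15 yc31 zc58) (kc xc25 yc35 zc30) (kc xc26 yc56 zc25) (kc xc15 yc31 zc57) (kc xc29 yc43 zc1) (kc xc30 yc43 zc0) (kc xc26 yc31 zc42) (kc xc28 yc51 zc3) (kc xc23 yc13 zc37) (kc xc13 yc27 zc34) (kc xc13 yc27 zc39) (kc xc25 yc17 zc54) (kc xc22 yc41 zc0) (kc xc29 yc23 zc19) (kc xc20 yc17 zc30) (kc xc30 yc43 zc7) (kc xc26 yc42 zc35) (kc xc13 yc27 zc50) (kc xc13 yc29 zc60) (kc xc13 yc27 zc56) (kc xc23 yc2 zc26) (kc xc22 yc16 zc42) (kc xc13 yc27 zc59) (kc xc13 yc35 zc44)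 (kc xc14 yc18 zc18) (kc xc23 yc50 zc41) (kc xc21 yc14 zc56) (kc xc23 yc46 zc44) (kc xc20 yc52 zc40) (kc xc14 yc32 zc24) (kc xc29 yc40 zc19) (kc xc13 yc28 zc5) (kc xc30 yc24 zc6) (kc xc14 yc27 zc27) (kc xc29 yc38 zc33) (kc xc30 yc43 zc10) (kc xc28 yc3 zc42) (kc xc24 yc5 zc31) (kc xc29 yc28 zc0) (kc xc13 yc28 zc32) (kc xc29 yc41 zc9) (kc xc13 yc28 zc11) (kc xc25 yc12 zc58) (kc xc13 yc28 zc12) (kc xc30 yc43 zc13) (kc xc16 yc25 zc54) (kc xc13 yc28 zc14) (kc xc30 yc43 zc16) (kc xc15 yc53 zc21) (kc xc25 yc9 zc4) (kc xc13 yc28 zc17) (kc xc30 yc43 zc19) (kc xc21 yc38 zc55) (kc xc30 yc43 zc18) (kc xc22 yc49 zc13) (kc xc30 yc43 zc20) (kc xc30 yc43 zc21) (kc xc30 yc43 zc22) (kc xc13 yc28 zc20) (kc xc28 yc34 zc39) (kc xc28 yc34 zc40)) (@D3.rec (fun _ => Pt) (kc xc13 yc28 zc23)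 (kc xc23 yc27 zc39) (kc xc30 yc37 zc9) (kc xc15 yc15 zc57) (kc xc30 yc43 zc26) (kc xc28 yc23 zc58) (kc xc15 yc15 zc51) (kc xc20 yc33 zc61) (kc xc13 yc28 zc27) (kc xc18 yc43 zc22) (kc xc22 yc6 zc42) (kc xc13 yc28 zc29) (kc xc15 yc31 zc9) (kc xc25 yc25 zc45) (kc xc30 yc43 zc29) (kc xc22 yc20 zc51) (kc xc14 yc28 zc35) (kc xc30 yc43 zc31) (kc xc13 yc51 zc58) (kc xc13 yc28 zc34) (kc xc22 yc9 zc7) (kc xc29 yc50 zc54) (kc xc21 yc39 zc42) (kc xc30 yc43 zc38) (kc xc27 yc59 zc36) (kc xc27 yc21 zc22) (kc xc13 yc28 zc40) (kc xc22 yc53 zc33) (kc xc22 yc53 zc34) (kc xc29 yc38 zc22) (kc xc29 yc53 zc1) (kc xc29 yc53 zc2) (kc xc13 yc28 zc41) (kc xc30 yc43 zc45) (kc xc13 yc28 zc43) (kc xc22 yc53 zc58) (kc xc26 yc27 zc53) (kc xc27 yc16 zc38) (kc xc13 yc28 zc45) (kc xc30 yc43 zc51) (kc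 xc29 yc40 zc55) (kc xc13 yc28 zc47) (kc xc24 yc8 zc4) (kc xc24 yc8 zc5) (kc xc15 yc39 zc21) (kc xc13 yc34 zc36) (kc xc29 yc50 zc45) (kc xc29 yc50 zc61) (kc xc30 yc43 zc54) (kc xc13 yc28 zc51) (kc xc30 yc18 zc58) (kc xc14 yc35 zc40) (kc xc22 yc48 zc61) (kc xc13 yc46 zc23) (kc xc13 yc28 zc53) (kc xc22 yc27 zc4) (kc xc30 yc43 zc58) (kc xc14 yc51 zc50) (kc xc13 yc28 zc56) (kc xc30 yc43 zc61) (kc xc30 yc44 zc2) (kc xc22 yc48 zc52)) (@D3.rec (fun _ => Pt) (kc xc13 yc39 zc24) (kc xc22 yc27 zc5) (kc xc30 yc34 zc49) (kc xc13 yc46 zc17) (kc xc23 yc5 zc51) (kc xc13 yc28 zc61) (kc xc17 yc0 zc42) (kc xc13 yc34 zc35) (kc xc22 yc29 zc43) (kc xc30 yc27 zc37) (kc xc23 yc5 zc52) (kc xc13 yc29 zc3) (kc xc13 yc29 zc2) (kc xc22 yc47 zc55) (kc xc13 yc29 zc4) (kc xc20 yc8 zc55) (kc xc23 yc53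 zc36) (kc xc13 yc29 zc5) (kc xc22 yc53 zc14) (kc xc22 yc32 zc1) (kc xc23 yc55 zc15) (kc xc30 yc24 zc38) (kc xc13 yc29 zc7) (kc xc26 yc28 zc45) (kc xc20 yc38 zc50) (kc xc30 yc44 zc13) (kc xc19 yc34 zc46) (kc xc25 yc31 zc41) (kc xc23 yc54 zc22) (kc xc24 yc6 zc29) (kc xc25 yc43 zc12) (kc xc23 yc54 zc61) (kc xc13 yc32 zc39) (kc xc22 yc28 zc35) (kc xc30 yc31 zc53) (kc xc18 yc13 zc35) (kc xc13 yc29 zc15) (kc xc27 yc45 zc47) (kc xc13 yc29 zc17) (kc xc13 yc29 zc18) (kc xc22 yc43 zc55) (kc xc30 yc44 zc23) (kc xc30 yc44 zc24) (kc xc13 yc29 zc19) (kc xc14 yc5 zc18) (kc xc30 yc44 zc28) (kc xc13 yc30 zc54) (kc xc13 yc30 zc55) (kc xc13 yc29 zc43) (kc xc27 yc39 zc43) (kc xc13 yc29 zc21) (kc xc13 yc29 zc22) (kc xc24 yc21 zc52) (kc xc26 yc20 zc38) (kc xc19 yc21 zc19) (kc xc17 yc31 zc37)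 (kc xc29 yc41 zc1) (kc xc22 yc0 zc39) (kc xc18 yc55 zc3) (kc xc18 yc55 zc4) (kc xc13 yc29 zc28) (kc xc28 yc14 zc60)) (@D3.rec (fun _ => Pt) (kc xc24 yc14 zc37) (kc xc22 yc59 zc17) (kc xc30 yc44 zc40) (kc xc13 yc29 zc32) (kc xc30 yc44 zc42) (kc xc13 yc29 zc34) (kc xc24 yc18 zc10) (kc xc26 yc20 zc40) (kc xc29 yc41 zc3) (kc xc13 yc29 zc35) (kc xc28 yc38 zc28) (kc xc28 yc56 zc17) (kc xc13 yc29 zc37) (kc xc24 yc17 zc58) (kc xc20 yc45 zc23) (kc xc13 yc29 zc38) (kc xc30 yc44 zc48) (kc xc30 yc44 zc46) (kc xc13 yc29 zc40) (kc xc30 yc44 zc53) (kc xc28 yc15 zc28) (kc xc30 yc44 zc54) (kc xc13 yc29 zc50) (kc xc13 yc30 zc43) (kc xc30 yc44 zc58) (kc xc30 yc44 zc61) (kc xc27 yc52 zc15) (kc xc27 yc52 zc10) (kc xc13 yc29 zc45) (kc xc13 yc29 zc46) (kc xc30 yc11 zc60) (kc xc18 yc47 zc41)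 (kc xc15 yc50 zc57) (kc xc30 yc45 zc3) (kc xc30 yc44 zc55) (kc xc22 yc53 zc54) (kc xc22 yc23 zc56) (kc xc30 yc45 zc6) (kc xc27 yc13 zc42) (kc xc13 yc29 zc55) (kc xc30 yc45 zc8) (kc xc30 yc22 zc22) (kc xc30 yc38 zc16) (kc xc30 yc45 zc11) (kc xc23 yc4 zc51) (kc xc24 yc16 zc48) (kc xc25 yc11 zc32) (kc xc15 yc54 zc46) (kc xc30 yc31 zc58) (kc xc27 yc46 zc57) (kc xc13 yc30 zc0) (kc xc28 yc35 zc1) (kc xc13 yc30 zc1) (kc xc13 yc30 zc2) (kc xc16 yc34 zc45) (kc xc13 yc30 zc4) (kc xc30 yc45 zc21) (kc xc26 yc49 zc53) (kc xc28 yc10 zc37) (kc xc13 yc30 zc18) (kc xc30 yc45 zc31) (kc xc13 yc30 zc7)) (@D3.rec (fun _ => Pt) (kc xc19 yc44 zc6) (kc xc28 yc6 zc46) (kc xc18 yc32 zc7) (kc xc22 yc51 zc23) (kc xc13 yc30 zc13) (kc xc26 yc29 zc30) (kc xc21 yc41 zc59) (kc xc21 yc6 zc55) (kc xc20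 yc37 zc19) (kc xc13 yc30 zc22) (kc xc26 yc20 zc19) (kc xc26 yc20 zc20) (kc xc13 yc30 zc26) (kc xc28 yc26 zc17) (kc xc30 yc45 zc35) (kc xc26 yc20 zc23) (kc xc13 yc30 zc32) (kc xc28 yc44 zc13) (kc xc16 yc53 zc4) (kc xc20 yc11 zc13) (kc xc13 yc30 zc33) (kc xc24 yc47 zc52) (kc xc13 yc40 zc51) (kc xc22 yc51 zc3) (kc xc13 yc30 zc46) (kc xc22 yc17 zc34) (kc xc13 yc30 zc35) (kc xc30 yc45 zc40) (kc xc19 yc4 zc6) (kc xc28 yc43 zc61) (kc xc14 yc1 zc9) (kc xc26 yc49 zc42) (kc xc13 yc30 zc41) (kc xc30 yc45 zc44) (kc xc29 yc38 zc25) (kc xc24 yc18 zc6) (kc xc30 yc45 zc45) (kc xc24 yc21 zc42) (kc xc29 yc21 zc1) (kc xc24 yc18 zc15) (kc xc13 yc41 zc14) (kc xc27 yc58 zc22) (kc xc26 yc29 zc48) (kc xc30 yc45 zc38) (kc xc30 yc45 zc39) (kc xc13 yc30 zc48) (kc xc18 yc53 zc17) (kc xc13 yc30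 zc49) (kc xc13 yc30 zc51) (kc xc13 yc30 zc52) (kc xc20 yc11 zc12) (kc xc27 yc49 zc14) (kc xc30 yc44 zc33) (kc xc21 yc12 zc39) (kc xc17 yc54 zc46) (kc xc13 yc31 zc5) (kc xc30 yc45 zc59) (kc xc17 yc52 zc21) (kc xc26 yc13 zc17) (kc xc19 yc17 zc8) (kc xc30 yc45 zc60) (kc xc18 yc20 zc42)) (@D3.rec (fun _ => Pt) (kc xc28 yc6 zc45) (kc xc13 yc31 zc1) (kc xc26 yc29 zc52) (kc xc21 yc35 zc29) (kc xc18 yc20 zc57) (kc xc21 yc45 zc45) (kc xc27 yc53 zc26) (kc xc27 yc53 zc25) (kc xc28 yc5 zc39) (kc xc24 yc57 zc12) (kc xc24 yc57 zc13) (kc xc13 yc31 zc10) (kc xc13 yc49 zc56) (kc xc13 yc31 zc12) (kc xc30 yc46 zc4) (kc xc13 yc31 zc13) (kc xc30 yc46 zc6) (kc xc30 yc46 zc3) (kc xc26 yc23 zc52) (kc xc13 yc31 zc16) (kc xc15 yc27 zc0) (kc xc13 yc31 zc18) (kc xc27 yc3 zc5) (kc xc16 yc21 zc2)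 (kc xc14 yc59 zc34) (kc xc25 yc23 zc41) (kc xc20 yc42 zc35) (kc xc13 yc31 zc20) (kc xc15 yc32 zc30) (kc xc25 yc24 zc25) (kc xc25 yc46 zc21) (kc xc30 yc46 zc12) (kc xc13 yc31 zc21) (kc xc13 yc31 zc22) (kc xc30 yc46 zc15) (kc xc19 yc45 zc47) (kc xc13 yc31 zc24) (kc xc30 yc46 zc17) (kc xc25 yc33 zc20) (kc xc13 yc38 zc26) (kc xc26 yc55 zc43) (kc xc26 yc23 zc56) (kc xc13 yc31 zc26) (kc xc25 yc25 zc47) (kc xc25 yc36 zc4) (kc xc28 yc20 zc29) (kc xc16 yc29 zc7) (kc xc26 yc23 zc27) (kc xc13 yc31 zc28) (kc xc30 yc18 zc47) (kc xc17 yc11 zc59) (kc xc28 yc20 zc32) (kc xc16 yc34 zc36) (kc xc15 yc31 zc48) (kc xc16 yc34 zc35) (kc xc26 yc30 zc60) (kc xc29 yc53 zc16) (kc xc13 yc31 zc32) (kc xc22 yc58 zc3) (kc xc13 yc31 zc34) (kc xc13 yc45 zc19) (kc xc13 yc31 zc35)) (@D3.rec (fun _ =>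 Pt) (kc xc18 yc53 zc1) (kc xc30 yc46 zc29) (kc xc13 yc31 zc37) (kc xc19 yc51 zc38) (kc xc13 yc31 zc38) (kc xc26 yc49 zc8) (kc xc13 yc31 zc39) (kc xc29 yc30 zc33) (kc xc13 yc43 zc39) (kc xc22 yc56 zc39) (kc xc13 yc31 zc52) (kc xc30 yc46 zc44) (kc xc13 yc31 zc41) (kc xc29 yc30 zc30) (kc xc22 yc49 zc18) (kc xc21 yc15 zc42) (kc xc28 yc20 zc11) (kc xc13 yc31 zc42) (kc xc13 yc31 zc44) (kc xc13 yc31 zc45) (kc xc13 yc35 zc54) (kc xc15 yc35 zc21) (kc xc25 yc33 zc18) (kc xc23 yc8 zc17) (kc xc13 yc31 zc49) (kc xc14 yc28 zc17) (kc xc14 yc28 zc21) (kc xc30 yc46 zc50) (kc xc30 yc46 zc51) (kc xc27 yc59 zc0) (kc xc27 yc51 zc49) (kc xc27 yc58 zc60) (kc xc13 yc34 zc9) (kc xc22 yc48 zc27) (kc xc22 yc48 zc28) (kc xc23 yc10 zc30) (kc xc13 yc31 zc58) (kc xc14 yc11 zc12) (kc xc13 yc31 zc55)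 (kc xc30 yc46 zc57) (kc xc13 yc31 zc56) (kc xc30 yc46 zc60) (kc xc30 yc46 zc59) (kc xc30 yc47 zc1) (kc xc30 yc47 zc2) (kc xc13 yc31 zc57) (kc xc30 yc47 zc6) (kc xc23 yc14 zc35) (kc xc13 yc32 zc1) (kc xc17 yc56 zc11) (kc xc14 yc53 zc19) (kc xc13 yc40 zc38) (kc xc30 yc47 zc7) (kc xc29 yc50 zc2) (kc xc22 yc50 zc35) (kc xc30 yc47 zc8) (kc xc15 yc20 zc11) (kc xc13 yc34 zc7) (kc xc22 yc48 zc35) (kc xc16 yc24 zc38) (kc xc23 yc27 zc0) (kc xc13 yc32 zc16)) (@D3.rec (fun _ => Pt) (kc xc13 yc32 zc14) (kc xc25 yc12 zc24) (kc xc30 yc27 zc52) (kc xc13 yc32 zc15) (kc xc13 yc32 zc17) (kc xc14 yc26 zc33) (kc xc30 yc47 zc17) (kc xc13 yc43 zc30) (kc xc14 yc25 zc33) (kc xc13 yc32 zc23) (kc xc22 yc58 zc4) (kc xc13 yc32 zc20) (kc xc30 yc36 zc32) (kc xc29 yc30 zc26) (kc xc28 yc53 zc40) (kc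 xc20 yc34 zc0) (kc xc22 yc59 zc3) (kc xc22 yc59 zc16) (kc xc24 yc9 zc43) (kc xc24 yc9 zc44) (kc xc13 yc32 zc27) (kc xc17 yc11 zc20) (kc xc13 yc32 zc25) (kc xc24 yc58 zc35) (kc xc13 yc32 zc26) (kc xc24 yc58 zc42) (kc xc30 yc47 zc28) (kc xc13 yc32 zc28) (kc xc14 yc9 zc45) (kc xc22 yc6 zc34) (kc xc13 yc32 zc31) (kc xc19 yc54 zc22) (kc xc25 yc50 zc3) (kc xc15 yc34 zc36) (kc xc15 yc34 zc42) (kc xc13 yc34 zc5) (kc xc23 yc21 zc36) (kc xc23 yc21 zc37) (kc xc15 yc56 zc16) (kc xc13 yc32 zc37) (kc xc13 yc32 zc35) (kc xc30 yc37 zc38) (kc xc30 yc47 zc32) (kc xc30 yc47 zc34) (kc xc24 yc13 zc20) (kc xc30 yc47 zc36) (kc xc13 yc32 zc38) (kc xc30 yc47 zc39) (kc xc19 yc49 zc13) (kc xc30 yc44 zc19) (kc xc14 yc22 zc35) (kc xc22 yc20 zc52) (kc xc13 yc32 zc40) (kc xc28 yc29 zc15) (kc xc14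 yc28 zc34) (kc xc13 yc32 zc43) (kc xc13 yc32 zc44) (kc xc30 yc26 zc41) (kc xc13 yc32 zc45) (kc xc23 yc9 zc45) (kc xc30 yc47 zc43) (kc xc13 yc33 zc61)) (@D3.rec (fun _ => Pt) (kc xc29 yc41 zc60) (kc xc13 yc33 zc31) (kc xc14 yc27 zc36) (kc xc14 yc27 zc37) (kc xc14 yc28 zc10) (kc xc30 yc43 zc36) (kc xc30 yc43 zc37) (kc xc29 yc43 zc49) (kc xc30 yc23 zc48) (kc xc13 yc32 zc51) (kc xc30 yc47 zc54) (kc xc30 yc47 zc53) (kc xc30 yc47 zc56) (kc xc28 yc59 zc28) (kc xc14 yc26 zc24) (kc xc24 yc11 zc52) (kc xc18 yc52 zc51) (kc xc20 yc50 zc12) (kc xc20 yc18 zc3) (kc xc13 yc32 zc55) (kc xc18 yc52 zc47) (kc xc24 yc5 zc11) (kc xc15 yc25 zc37) (kc xc17 yc33 zc46) (kc xc17 yc8 zc30) (kc xc20 yc1 zc58) (kc xc13 yc33 zc1) (kc xc30 yc43 zc33) (kc xc30 yc43 zc34) (kc xc21 yc39 zc39) (kc xc19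 yc56 zc53) (kc xc26 yc42 zc8) (kc xc13 yc33 zc3) (kc xc30 yc48 zc0) (kc xc13 yc33 zc4) (kc xc28 yc4 zc34) (kc xc18 yc28 zc42) (kc xc13 yc33 zc6) (kc xc30 yc48 zc2) (kc xc13 yc33 zc7) (kc xc23 yc4 zc54) (kc xc23 yc4 zc55) (kc xc13 yc33 zc18) (kc xc25 yc54 zc42) (kc xc13 yc33 zc9) (kc xc30 yc48 zc8) (kc xc27 yc52 zc55) (kc xc18 yc28 zc37) (kc xc22 yc28 zc28) (kc xc13 yc33 zc11) (kc xc13 yc33 zc14) (kc xc28 yc57 zc48) (kc xc30 yc20 zc2) (kc xc25 yc29 zc27) (kc xc14 yc27 zc32) (kc xc13 yc33 zc17) (kc xc29 yc37 zc13) (kc xc30 yc48 zc11) (kc xc29 yc53 zc58) (kc xc26 yc31 zc40) (kc xc30 yc48 zc6) (kc xc23 yc7 zc45)) (@D3.rec (fun _ => Pt) (kc xc13 yc33 zc23) (kc xc29 yc29 zc35) (kc xc13 yc33 zc20) (kc xc30 yc48 zc20) (kc xc28 yc35 zc24) (kc xc13 yc33 zc21) (kc xc30 yc48 zc24)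 (kc xc21 yc39 zc46) (kc xc23 yc16 zc6) (kc xc23 yc16 zc60) (kc xc13 yc33 zc22) (kc xc30 yc48 zc29) (kc xc26 yc15 zc55) (kc xc23 yc20 zc21) (kc xc22 yc41 zc30) (kc xc24 yc38 zc33) (kc xc25 yc29 zc9) (kc xc13 yc33 zc30) (kc xc30 yc48 zc33) (kc xc30 yc48 zc35) (kc xc29 yc3 zc30) (kc xc30 yc48 zc37) (kc xc29 yc44 zc18) (kc xc27 yc0 zc22) (kc xc21 yc1 zc25) (kc xc13 yc33 zc34) (kc xc30 yc48 zc41) (kc xc23 yc7 zc22) (kc xc13 yc33 zc37) (kc xc30 yc3 zc42) (kc xc27 yc23 zc6) (kc xc28 yc58 zc1) (kc xc24 yc12 zc61) (kc xc13 yc33 zc59) (kc xc30 yc43 zc23) (kc xc23 yc8 zc20) (kc xc13 yc33 zc40) (kc xc30 yc48 zc48) (kc xc13 yc33 zc41) (kc xc22 yc53 zc9) (kc xc13 yc33 zc43) (kc xc30 yc48 zc53) (kc xc13 yc33 zc44) (kc xc20 yc30 zc23) (kc xc26 yc25 zc48) (kc xc13 yc33 zc50) (kc xc30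 yc48 zc60) (kc xc13 yc33 zc46) (kc xc20 yc34 zc40) (kc xc13 yc33 zc48) (kc xc23 yc29 zc10) (kc xc13 yc33 zc55) (kc xc13 yc33 zc52) (kc xc15 yc15 zc47) (kc xc13 yc33 zc53) (kc xc22 yc32 zc38) (kc xc22 yc32 zc37) (kc xc13 yc33 zc54) (kc xc23 yc27 zc21) (kc xc29 yc22 zc19) (kc xc13 yc33 zc60) (kc xc30 yc49 zc6)) (@D3.rec (fun _ => Pt) (kc xc24 yc23 zc9) (kc xc24 yc23 zc10) (kc xc30 yc19 zc54) (kc xc14 yc0 zc35) (kc xc23 yc13 zc24) (kc xc13 yc34 zc1) (kc xc30 yc49 zc8) (kc xc14 yc1 zc46) (kc xc30 yc49 zc9) (kc xc22 yc58 zc38) (kc xc30 yc49 zc10) (kc xc29 yc55 zc42) (kc xc13 yc34 zc4) (kc xc25 yc4 zc12) (kc xc25 yc24 zc53) (kc xc30 yc26 zc34) (kc xc13 yc34 zc6) (kc xc30 yc49 zc13) (kc xc29 yc3 zc26) (kc xc29 yc3 zc32) (kc xc30 yc47 zc14) (kc xc25 yc59 zc49) (kc xc30 yc19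 zc52) (kc xc28 yc19 zc18) (kc xc14 yc27 zc23) (kc xc14 yc27 zc24) (kc xc23 yc11 zc42) (kc xc13 yc34 zc12) (kc xc28 yc24 zc2) (kc xc22 yc10 zc58) (kc xc30 yc49 zc22) (kc xc13 yc34 zc13) (kc xc28 yc20 zc27) (kc xc30 yc49 zc23) (kc xc13 yc34 zc18) (kc xc23 yc2 zc36) (kc xc23 yc2 zc37) (kc xc28 yc46 zc39) (kc xc28 yc25 zc61) (kc xc13 yc34 zc25) (kc xc30 yc49 zc26) (kc xc13 yc34 zc26) (kc xc26 yc53 zc9) (kc xc13 yc34 zc27) (kc xc22 yc35 zc57) (kc xc13 yc34 zc28) (kc xc19 yc33 zc33) (kc xc13 yc34 zc29) (kc xc23 yc11 zc59) (kc xc28 yc25 zc59) (kc xc13 yc34 zc31) (kc xc24 yc48 zc27) (kc xc26 yc15 zc43) (kc xc14 yc17 zc0) (kc xc28 yc22 zc39) (kc xc26 yc12 zc4) (kc xc14 yc17 zc2) (kc xc14 yc39 zc5) (kc xc13 yc34 zc41) (kc xc22 yc24 zc6) (kc xc29 yc28 zc5) (kc xc21 yc57 zc4))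 (@D3.rec (fun _ => Pt) (kc xc23 yc52 zc22) (kc xc23 yc52 zc25) (kc xc14 yc19 zc39) (kc xc22 yc52 zc58) (kc xc22 yc54 zc10) (kc xc13 yc34 zc45) (kc xc30 yc49 zc49) (kc xc30 yc49 zc53) (kc xc29 yc41 zc20) (kc xc30 yc49 zc58) (kc xc23 yc4 zc38) (kc xc30 yc23 zc41) (kc xc30 yc38 zc19) (kc xc13 yc34 zc49) (kc xc30 yc50 zc3) (kc xc30 yc49 zc46) (kc xc14 yc41 zc19) (kc xc22 yc20 zc39) (kc xc14 yc21 zc26) (kc xc23 yc20 zc1) (kc xc13 yc34 zc55) (kc xc13 yc34 zc56) (kc xc23 yc20 zc0) (kc xc21 yc57 zc1) (kc xc13 yc34 zc59) (kc xc14 yc52 zc56) (kc xc29 yc40 zc23) (kc xc22 yc31 zc45) (kc xc15 yc50 zc35) (kc xc13 yc35 zc1) (kc xc27 yc14 zc21) (kc xc30 yc50 zc9) (kc xc13 yc35 zc2) (kc xc27 yc15 zc6) (kc xc14 yc0 zc55) (kc xc14 yc16 zc25) (kc xc22 yc42 zc21) (kc xc13 yc35 zc4) (kc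 xc22 yc57 zc9) (kc xc14 yc40 zc20) (kc xc14 yc26 zc31) (kc xc14 yc2 zc24) (kc xc24 yc30 zc26) (kc xc30 yc50 zc17) (kc xc13 yc35 zc6) (kc xc21 yc11 zc8) (kc xc30 yc22 zc29) (kc xc30 yc50 zc20) (kc xc22 yc59 zc23) (kc xc30 yc26 zc1) (kc xc30 yc42 zc55) (kc xc13 yc35 zc9) (kc xc30 yc11 zc46) (kc xc30 yc50 zc18) (kc xc14 yc16 zc37) (kc xc14 yc43 zc1) (kc xc13 yc35 zc14) (kc xc29 yc3 zc29) (kc xc14 yc10 zc47) (kc xc13 yc35 zc15) (kc xc21 yc14 zc19) (kc xc13 yc35 zc18)) (@D3.rec (fun _ => Pt) (kc xc13 yc35 zc17) (kc xc30 yc50 zc22) (kc xc13 yc35 zc19) (kc xc22 yc54 zc16) (kc xc14 yc21 zc16) (kc xc16 yc52 zc20) (kc xc14 yc53 zc1) (kc xc23 yc4 zc28) (kc xc13 yc35 zc21) (kc xc30 yc50 zc26) (kc xc30 yc50 zc27) (kc xc13 yc35 zc22) (kc xc22 yc16 zc15) (kc xc13 yc35 zc24) (kc xc24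 yc8 zc49) (kc xc30 yc50 zc32) (kc xc22 yc54 zc17) (kc xc22 yc50 zc1) (kc xc30 yc30 zc40) (kc xc13 yc35 zc27) (kc xc30 yc50 zc37) (kc xc14 yc25 zc39) (kc xc30 yc50 zc40) (kc xc22 yc58 zc48) (kc xc22 yc39 zc45) (kc xc30 yc50 zc0) (kc xc13 yc35 zc31) (kc xc30 yc50 zc45) (kc xc29 yc29 zc30) (kc xc30 yc33 zc3) (kc xc30 yc50 zc47) (kc xc13 yc35 zc36) (kc xc23 yc5 zc21) (kc xc15 yc58 zc55) (kc xc15 yc40 zc8) (kc xc13 yc35 zc42) (kc xc25 yc36 zc14) (kc xc15 yc4 zc50) (kc xc19 yc39 zc56) (kc xc19 yc39 zc60) (kc xc16 yc46 zc11) (kc xc25 yc24 zc29) (kc xc13 yc35 zc49) (kc xc23 yc5 zc49) (kc xc23 yc5 zc50) (kc xc13 yc36 zc3) (kc xc13 yc36 zc4) (kc xc22 yc17 zc21) (kc xc13 yc35 zc55) (kc xc13 yc35 zc56) (kc xc30 yc50 zc56) (kc xc13 yc35 zc53) (kc xc16 yc46 zc0) (kc xc30 yc50 zc57)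 (kc xc16 yc46 zc3) (kc xc26 yc24 zc18) (kc xc30 yc24 zc20) (kc xc26 yc25 zc41) (kc xc13 yc35 zc57) (kc xc13 yc35 zc59) (kc xc28 yc23 zc19) (kc xc22 yc36 zc2))
def f_c_23 : D2 → D3 → Pt := @D2.rec (fun _ => D3 → Pt) (@D3.rec (fun _ => Pt) (kc xc29 yc54 zc40) (kc xc30 yc34 zc57) (kc xc13 yc36 zc1) (kc xc30 yc46 zc28) (kc xc30 yc49 zc28) (kc xc13 yc36 zc2) (kc xc20 yc7 zc53) (kc xc17 yc1 zc1) (kc xc30 yc50 zc53) (kc xc25 yc32 zc54) (kc xc27 yc40 zc30) (kc xc24 yc27 zc10) (kc xc19 yc41 zc37) (kc xc30 yc34 zc42) (kc xc23 yc23 zc13) (kc xc13 yc36 zc7) (kc xc23 yc30 zc31) (kc xc28 yc14 zc9) (kc xc30 yc26 zc39) (kc xc13 yc36 zc9) (kc xc21 yc53 zc26) (kc xc30 yc51 zc7) (kc xc24 yc6 zc36) (kc xc28 yc42 zc44) (kc xc13 yc36 zc12) (kc xc15 yc40 zc43) (kc xc15 yc34 zc39) (kc xc13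 yc36 zc11) (kc xc27 yc3 zc2) (kc xc24 yc18 zc60) (kc xc23 yc54 zc21) (kc xc30 yc51 zc12) (kc xc19 yc34 zc48) (kc xc18 yc12 zc14) (kc xc28 yc19 zc26) (kc xc13 yc36 zc16) (kc xc13 yc36 zc15) (kc xc24 yc8 zc28) (kc xc30 yc38 zc22) (kc xc30 yc51 zc17) (kc xc30 yc51 zc15) (kc xc19 yc30 zc37) (kc xc25 yc34 zc33) (kc xc23 yc55 zc9) (kc xc15 yc46 zc53) (kc xc25 yc34 zc38) (kc xc23 yc54 zc16) (kc xc23 yc10 zc32) (kc xc19 yc49 zc52) (kc xc15 yc15 zc10) (kc xc16 yc43 zc16) (kc xc13 yc36 zc25) (kc xc30 yc51 zc22) (kc xc25 yc24 zc44) (kc xc22 yc20 zc17) (kc xc13 yc42 zc3) (kc xc14 yc52 zc5) (kc xc26 yc23 zc61) (kc xc19 yc39 zc40) (kc xc19 yc39 zc17) (kc xc19 yc39 zc22) (kc xc13 yc51 zc54)) (@D3.rec (fun _ => Pt) (kc xc24 yc5 zc7) (kc xc14 yc30 zc31) (kc xc14 yc51 zc15) (kc xc14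 yc29 zc5) (kc xc14 yc51 zc17) (kc xc30 yc51 zc25) (kc xc28 yc3 zc25) (kc xc21 yc48 zc32) (kc xc17 yc2 zc52) (kc xc30 yc27 zc46) (kc xc25 yc27 zc54) (kc xc13 yc36 zc43) (kc xc29 yc54 zc54) (kc xc30 yc51 zc28) (kc xc13 yc36 zc46) (kc xc26 yc40 zc1) (kc xc16 yc45 zc36) (kc xc13 yc36 zc51) (kc xc25 yc28 zc39) (kc xc13 yc39 zc61) (kc xc13 yc36 zc52) (kc xc30 yc51 zc33) (kc xc13 yc36 zc54) (kc xc28 yc35 zc61) (kc xc25 yc26 zc0) (kc xc13 yc43 zc59) (kc xc20 yc43 zc32) (kc xc20 yc41 zc31) (kc xc20 yc43 zc19) (kc xc28 yc15 zc38) (kc xc16 yc25 zc55) (kc xc22 yc14 zc31) (kc xc25 yc27 zc47) (kc xc15 yc40 zc4) (kc xc30 yc51 zc36) (kc xc14 yc50 zc51) (kc xc22 yc20 zc44) (kc xc20 yc41 zc13) (kc xc30 yc51 zc43) (kc xc16 yc19 zc38) (kc xc13 yc37 zc1) (kc xc16 yc19 zc53) (kc xc30 yc51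 zc45) (kc xc27 yc30 zc33) (kc xc13 yc43 zc57) (kc xc23 yc42 zc42) (kc xc23 yc5 zc39) (kc xc23 yc13 zc25) (kc xc13 yc37 zc10) (kc xc25 yc49 zc44) (kc xc29 yc41 zc50) (kc xc24 yc32 zc36) (kc xc30 yc51 zc47) (kc xc21 yc24 zc20) (kc xc21 yc28 zc18) (kc xc21 yc28 zc17) (kc xc13 yc37 zc16) (kc xc23 yc44 zc45) (kc xc23 yc44 zc46) (kc xc13 yc37 zc18) (kc xc30 yc42 zc31) (kc xc18 yc29 zc11)) (@D3.rec (fun _ => Pt) (kc xc18 yc29 zc12) (kc xc18 yc36 zc60) (kc xc25 yc16 zc26) (kc xc23 yc32 zc41) (kc xc28 yc3 zc45) (kc xc28 yc3 zc46) (kc xc13 yc37 zc28) (kc xc21 yc56 zc42) (kc xc13 yc37 zc26) (kc xc30 yc51 zc58) (kc xc27 yc26 zc13) (kc xc27 yc42 zc11) (kc xc13 yc37 zc27) (kc xc25 yc2 zc23) (kc xc17 yc44 zc7) (kc xc13 yc37 zc32) (kc xc25 yc14 zc30) (kc xc13 yc37 zc34) (kc xc13 yc39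 zc34) (kc xc13 yc39 zc33) (kc xc16 yc27 zc19) (kc xc22 yc24 zc45) (kc xc23 yc2 zc32) (kc xc13 yc37 zc57) (kc xc13 yc37 zc37) (kc xc26 yc30 zc49) (kc xc22 yc47 zc21) (kc xc22 yc3 zc0) (kc xc22 yc45 zc23) (kc xc16 yc8 zc48) (kc xc13 yc37 zc53) (kc xc13 yc37 zc43) (kc xc23 yc2 zc22) (kc xc19 yc23 zc4) (kc xc19 yc22 zc57) (kc xc30 yc52 zc12) (kc xc22 yc57 zc35) (kc xc22 yc57 zc36) (kc xc29 yc51 zc9) (kc xc23 yc2 zc57) (kc xc21 yc25 zc22) (kc xc21 yc25 zc20) (kc xc21 yc56 zc43) (kc xc13 yc37 zc49) (kc xc14 yc56 zc39) (kc xc27 yc23 zc17) (kc xc21 yc56 zc44) (kc xc23 yc24 zc40) (kc xc24 yc52 zc41) (kc xc16 yc3 zc6) (kc xc21 yc31 zc24) (kc xc13 yc37 zc54) (kc xc13 yc37 zc55) (kc xc16 yc4 zc36) (kc xc15 yc44 zc46) (kc xc30 yc12 zc58) (kc xc30 yc12 zc59) (kc xc23 yc2 zc39) (kc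 xc22 yc32 zc52) (kc xc29 yc18 zc46) (kc xc29 yc42 zc20) (kc xc30 yc52 zc23)) (@D3.rec (fun _ => Pt) (kc xc30 yc52 zc24) (kc xc23 yc17 zc15) (kc xc23 yc17 zc19) (kc xc22 yc30 zc48) (kc xc22 yc30 zc49) (kc xc29 yc57 zc33) (kc xc13 yc38 zc6) (kc xc13 yc38 zc4) (kc xc22 yc34 zc6) (kc xc19 yc58 zc50) (kc xc22 yc28 zc26) (kc xc13 yc38 zc5) (kc xc30 yc52 zc38) (kc xc28 yc13 zc18) (kc xc30 yc33 zc24) (kc xc22 yc28 zc24) (kc xc22 yc41 zc57) (kc xc25 yc3 zc29) (kc xc13 yc59 zc40) (kc xc16 yc24 zc13) (kc xc27 yc41 zc8) (kc xc21 yc14 zc29) (kc xc30 yc40 zc57) (kc xc23 yc42 zc61) (kc xc13 yc38 zc16) (kc xc28 yc43 zc58) (kc xc19 yc53 zc2) (kc xc22 yc46 zc16) (kc xc30 yc40 zc58) (kc xc13 yc38 zc20) (kc xc23 yc26 zc0) (kc xc17 yc13 zc6) (kc xc23 yc26 zc3) (kc xc13 yc47 zc22) (kc xc30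 yc52 zc49) (kc xc13 yc38 zc25) (kc xc20 yc9 zc51) (kc xc13 yc38 zc31) (kc xc21 yc40 zc23) (kc xc30 yc21 zc13) (kc xc28 yc44 zc16) (kc xc29 yc31 zc54) (kc xc22 yc6 zc25) (kc xc23 yc16 zc2) (kc xc26 yc28 zc2) (kc xc22 yc12 zc36) (kc xc18 yc23 zc30) (kc xc23 yc38 zc5) (kc xc19 yc39 zc58) (kc xc30 yc52 zc51) (kc xc13 yc38 zc47) (kc xc13 yc38 zc50) (kc xc13 yc38 zc51) (kc xc13 yc38 zc53) (kc xc19 yc52 zc55) (kc xc16 yc35 zc9) (kc xc13 yc39 zc7) (kc xc30 yc52 zc53) (kc xc13 yc38 zc55) (kc xc21 yc51 zc28) (kc xc13 yc38 zc56) (kc xc17 yc56 zc48)) (@D3.rec (fun _ => Pt) (kc xc21 yc57 zc23) (kc xc13 yc38 zc59) (kc xc23 yc48 zc31) (kc xc30 yc40 zc2) (kc xc13 yc38 zc60) (kc xc20 yc52 zc12) (kc xc26 yc56 zc1) (kc xc29 yc54 zc37) (kc xc20 yc20 zc0) (kc xc13 yc39 zc0) (kc xc30 yc52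 zc55) (kc xc22 yc36 zc11) (kc xc18 yc48 zc13) (kc xc21 yc13 zc39) (kc xc20 yc59 zc53) (kc xc15 yc50 zc59) (kc xc29 yc25 zc29) (kc xc17 yc34 zc2) (kc xc26 yc28 zc1) (kc xc29 yc40 zc59) (kc xc13 yc39 zc9) (kc xc16 yc55 zc6) (kc xc26 yc23 zc20) (kc xc13 yc39 zc13) (kc xc14 yc38 zc14) (kc xc13 yc39 zc19) (kc xc30 yc52 zc60) (kc xc30 yc36 zc38) (kc xc22 yc59 zc7) (kc xc29 yc55 zc38) (kc xc13 yc39 zc21) (kc xc28 yc50 zc9) (kc xc29 yc32 zc30) (kc xc14 yc26 zc34) (kc xc30 yc53 zc5) (kc xc30 yc53 zc9) (kc xc23 yc5 zc17) (kc xc30 yc53 zc11) (kc xc22 yc58 zc10) (kc xc30 yc24 zc54) (kc xc13 yc39 zc26) (kc xc27 yc59 zc40) (kc xc20 yc48 zc24) (kc xc29 yc40 zc18) (kc xc13 yc39 zc29) (kc xc22 yc24 zc52) (kc xc13 yc39 zc32) (kc xc13 yc39 zc31) (kc xc30 yc53 zc15) (kc xc30 yc45 zc13)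 (kc xc28 yc56 zc15) (kc xc22 yc50 zc44) (kc xc30 yc23 zc9) (kc xc13 yc39 zc54) (kc xc22 yc55 zc40) (kc xc22 yc55 zc41) (kc xc13 yc39 zc37) (kc xc30 yc53 zc21) (kc xc24 yc34 zc55) (kc xc29 yc52 zc58) (kc xc13 yc39 zc40) (kc xc27 yc15 zc49)) (@D3.rec (fun _ => Pt) (kc xc30 yc53 zc24) (kc xc15 yc4 zc52) (kc xc13 yc39 zc45) (kc xc25 yc58 zc27) (kc xc30 yc53 zc25) (kc xc13 yc39 zc46) (kc xc26 yc31 zc2) (kc xc13 yc39 zc48) (kc xc25 yc54 zc2) (kc xc25 yc54 zc4) (kc xc30 yc53 zc27) (kc xc20 yc30 zc24) (kc xc13 yc39 zc51) (kc xc25 yc59 zc35) (kc xc25 yc59 zc34) (kc xc30 yc48 zc23) (kc xc13 yc49 zc21) (kc xc23 yc4 zc36) (kc xc30 yc42 zc58) (kc xc29 yc42 zc12) (kc xc17 yc9 zc1) (kc xc22 yc59 zc32) (kc xc13 yc44 zc36) (kc xc13 yc39 zc57) (kc xc30 yc53 zc39) (kc xc30 yc53 zc41)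 (kc xc23 yc8 zc61) (kc xc23 yc56 zc21) (kc xc27 yc15 zc39) (kc xc13 yc40 zc1) (kc xc23 yc8 zc22) (kc xc23 yc8 zc23) (kc xc30 yc53 zc44) (kc xc17 yc43 zc15) (kc xc13 yc40 zc6) (kc xc23 yc8 zc47) (kc xc23 yc8 zc48) (kc xc30 yc53 zc46) (kc xc21 yc55 zc7) (kc xc23 yc1 zc46) (kc xc13 yc57 zc24) (kc xc13 yc40 zc9) (kc xc13 yc47 zc58) (kc xc13 yc40 zc10) (kc xc23 yc39 zc53) (kc xc13 yc40 zc14) (kc xc24 yc4 zc41) (kc xc24 yc4 zc42) (kc xc24 yc39 zc9) (kc xc22 yc59 zc43) (kc xc22 yc59 zc44) (kc xc22 yc49 zc4) (kc xc22 yc49 zc10) (kc xc13 yc40 zc20) (kc xc30 yc53 zc49) (kc xc30 yc53 zc51) (kc xc29 yc19 zc30) (kc xc25 yc36 zc28) (kc xc25 yc5 zc20) (kc xc30 yc53 zc53) (kc xc30 yc53 zc54) (kc xc14 yc16 zc43)) (@D3.rec (fun _ => Pt) (kc xc22 yc14 zc58) (kc xc15 yc4 zc54) (kc xc13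 yc40 zc30) (kc xc13 yc43 zc11) (kc xc13 yc43 zc14) (kc xc24 yc0 zc35) (kc xc29 yc55 zc26) (kc xc13 yc40 zc34) (kc xc26 yc13 zc36) (kc xc24 yc45 zc39) (kc xc13 yc40 zc37) (kc xc27 yc29 zc12) (kc xc25 yc3 zc21) (kc xc22 yc30 zc28) (kc xc21 yc42 zc15) (kc xc23 yc44 zc13) (kc xc13 yc40 zc43) (kc xc16 yc22 zc30) (kc xc16 yc22 zc25) (kc xc22 yc29 zc33) (kc xc23 yc16 zc0) (kc xc26 yc49 zc52) (kc xc22 yc10 zc45) (kc xc18 yc20 zc41) (kc xc30 yc3 zc38) (kc xc23 yc22 zc0) (kc xc13 yc41 zc47) (kc xc21 yc58 zc27) (kc xc19 yc21 zc47) (kc xc30 yc54 zc1) (kc xc13 yc41 zc1) (kc xc18 yc14 zc29) (kc xc27 yc33 zc10) (kc xc23 yc11 zc52) (kc xc24 yc40 zc29) (kc xc30 yc54 zc2) (kc xc13 yc41 zc6) (kc xc13 yc41 zc7) (kc xc27 yc10 zc29) (kc xc30 yc31 zc61) (kc xc22 yc18 zc18) (kc xc23 yc53 zc51)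 (kc xc13 yc41 zc9) (kc xc22 yc32 zc4) (kc xc21 yc52 zc23) (kc xc13 yc41 zc11) (kc xc25 yc30 zc53) (kc xc19 yc22 zc8) (kc xc14 yc34 zc61) (kc xc14 yc34 zc57) (kc xc29 yc38 zc24) (kc xc13 yc41 zc13) (kc xc30 yc54 zc6) (kc xc28 yc21 zc27) (kc xc30 yc7 zc31) (kc xc24 yc21 zc46) (kc xc13 yc41 zc57) (kc xc23 yc34 zc16) (kc xc13 yc41 zc59) (kc xc13 yc41 zc20) (kc xc30 yc5 zc26) (kc xc13 yc41 zc22)) (@D3.rec (fun _ => Pt) (kc xc23 yc53 zc14) (kc xc13 yc41 zc25) (kc xc20 yc25 zc29) (kc xc13 yc41 zc30) (kc xc26 yc16 zc34) (kc xc29 yc38 zc15) (kc xc30 yc54 zc11) (kc xc13 yc41 zc38) (kc xc30 yc45 zc49) (kc xc27 yc11 zc16) (kc xc20 yc11 zc17) (kc xc21 yc8 zc18) (kc xc24 yc46 zc4) (kc xc13 yc41 zc46) (kc xc27 yc20 zc10) (kc xc18 yc41 zc51) (kc xc22 yc10 zc43) (kc xc18 yc39 zc29)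 (kc xc21 yc7 zc49) (kc xc20 yc38 zc5) (kc xc24 yc53 zc41) (kc xc20 yc23 zc36) (kc xc22 yc56 zc27) (kc xc30 yc54 zc18) (kc xc20 yc45 zc14) (kc xc20 yc45 zc26) (kc xc17 yc23 zc6) (kc xc13 yc41 zc58) (kc xc30 yc24 zc60) (kc xc29 yc39 zc15) (kc xc30 yc14 zc23) (kc xc26 yc13 zc59) (kc xc24 yc17 zc21) (kc xc25 yc1 zc30) (kc xc14 yc40 zc40) (kc xc13 yc42 zc1) (kc xc27 yc50 zc45) (kc xc24 yc47 zc0) (kc xc25 yc24 zc27) (kc xc30 yc54 zc25) (kc xc13 yc42 zc4) (kc xc25 yc54 zc9) (kc xc13 yc42 zc5) (kc xc29 yc15 zc29) (kc xc13 yc42 zc7) (kc xc22 yc55 zc61) (kc xc27 yc10 zc12) (kc xc30 yc54 zc29) (kc xc30 yc46 zc55) (kc xc13 yc42 zc8) (kc xc16 yc34 zc12) (kc xc14 yc51 zc14) (kc xc13 yc42 zc10) (kc xc30 yc14 zc15) (kc xc30 yc54 zc31) (kc xc16 yc26 zc1) (kc xc29 yc28 zc15) (kc xc13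 yc42 zc12) (kc xc25 yc59 zc9) (kc xc25 yc58 zc41) (kc xc25 yc55 zc13) (kc xc21 yc10 zc28)) (@D3.rec (fun _ => Pt) (kc xc14 yc51 zc41) (kc xc13 yc42 zc14) (kc xc25 yc59 zc46) (kc xc25 yc58 zc15) (kc xc30 yc54 zc34) (kc xc13 yc42 zc17) (kc xc29 yc53 zc24) (kc xc16 yc34 zc6) (kc xc29 yc29 zc3) (kc xc29 yc29 zc4) (kc xc29 yc29 zc37) (kc xc13 yc42 zc23) (kc xc29 yc32 zc3) (kc xc13 yc42 zc25) (kc xc25 yc56 zc50) (kc xc25 yc56 zc53) (kc xc25 yc58 zc30) (kc xc22 yc53 zc23) (kc xc13 yc42 zc27) (kc xc30 yc54 zc47) (kc xc22 yc56 zc35) (kc xc13 yc44 zc30) (kc xc23 yc5 zc30) (kc xc23 yc5 zc31) (kc xc28 yc50 zc53) (kc xc13 yc42 zc34) (kc xc13 yc42 zc32) (kc xc24 yc23 zc41) (kc xc13 yc42 zc33) (kc xc23 yc59 zc36) (kc xc30 yc54 zc52) (kc xc13 yc42 zc35) (kc xc30 yc54 zc55) (kc xc24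 yc4 zc55) (kc xc19 yc26 zc9) (kc xc30 yc47 zc58) (kc xc29 yc41 zc54) (kc xc14 yc31 zc13) (kc xc13 yc42 zc39) (kc xc23 yc13 zc23) (kc xc13 yc42 zc40) (kc xc20 yc11 zc9) (kc xc13 yc42 zc43) (kc xc13 yc43 zc2) (kc xc30 yc48 zc3) (kc xc30 yc48 zc4) (kc xc26 yc29 zc7) (kc xc23 yc5 zc35) (kc xc23 yc5 zc36) (kc xc25 yc24 zc31) (kc xc13 yc42 zc48) (kc xc13 yc42 zc45) (kc xc25 yc54 zc8) (kc xc13 yc42 zc46) (kc xc30 yc12 zc33) (kc xc20 yc15 zc31) (kc xc26 yc23 zc2) (kc xc17 yc8 zc31) (kc xc20 yc7 zc40) (kc xc20 yc7 zc28) (kc xc30 yc48 zc46) (kc xc23 yc5 zc26)) (@D3.rec (fun _ => Pt) (kc xc13 yc44 zc24) (kc xc24 yc5 zc39) (kc xc24 yc5 zc40) (kc xc23 yc36 zc20) (kc xc13 yc42 zc59) (kc xc20 yc46 zc41) (kc xc28 yc15 zc20) (kc xc28 yc15 zc19) (kc xc25 yc58 zc10) (kc xc28 yc30 zc18)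 (kc xc13 yc42 zc58) (kc xc28 yc46 zc19) (kc xc26 yc30 zc52) (kc xc13 yc43 zc1) (kc xc22 yc45 zc11) (kc xc28 yc31 zc44) (kc xc27 yc53 zc24) (kc xc30 yc2 zc14) (kc xc28 yc32 zc0) (kc xc30 yc54 zc54) (kc xc27 yc52 zc30) (kc xc13 yc44 zc17) (kc xc23 yc18 zc29) (kc xc23 yc18 zc30) (kc xc13 yc43 zc8) (kc xc13 yc43 zc5) (kc xc30 yc55 zc12) (kc xc30 yc55 zc11) (kc xc18 yc53 zc30) (kc xc13 yc43 zc6) (kc xc30 yc55 zc15) (kc xc30 yc48 zc28) (kc xc30 yc55 zc16) (kc xc13 yc43 zc7) (kc xc30 yc55 zc17) (kc xc13 yc44 zc11) (kc xc20 yc44 zc2) (kc xc22 yc26 zc6) (kc xc26 yc24 zc38) (kc xc22 yc26 zc3) (kc xc17 yc32 zc51) (kc xc20 yc48 zc60) (kc xc14 yc34 zc46) (kc xc14 yc34 zc45) (kc xc13 yc43 zc18) (kc xc22 yc54 zc59) (kc xc14 yc24 zc61) (kc xc14 yc25 zc0) (kc xc14 yc30 zc24) (kc xc26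 yc23 zc50) (kc xc26 yc23 zc49) (kc xc30 yc55 zc22) (kc xc30 yc53 zc40) (kc xc13 yc43 zc23) (kc xc21 yc39 zc44) (kc xc30 yc10 zc8) (kc xc13 yc43 zc24) (kc xc21 yc4 zc59) (kc xc30 yc55 zc25) (kc xc30 yc55 zc26) (kc xc30 yc43 zc27) (kc xc20 yc33 zc16)) (@D3.rec (fun _ => Pt) (kc xc30 yc44 zc4) (kc xc23 yc54 zc45) (kc xc13 yc43 zc32) (kc xc28 yc17 zc18) (kc xc30 yc53 zc37) (kc xc25 yc49 zc28) (kc xc30 yc24 zc5) (kc xc25 yc9 zc2) (kc xc13 yc43 zc38) (kc xc28 yc20 zc41) (kc xc25 yc12 zc8) (kc xc30 yc43 zc24) (kc xc30 yc46 zc38) (kc xc30 yc46 zc36) (kc xc13 yc43 zc41) (kc xc25 yc43 zc50) (kc xc25 yc58 zc18) (kc xc25 yc55 zc14) (kc xc13 yc43 zc42) (kc xc28 yc51 zc46) (kc xc25 yc32 zc38) (kc xc13 yc43 zc44) (kc xc27 yc9 zc57) (kc xc25 yc55 zc18) (kc xc19 yc24 zc57) (kc xc19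 yc8 zc30) (kc xc13 yc43 zc49) (kc xc28 yc0 zc47) (kc xc13 yc43 zc47) (kc xc18 yc19 zc15) (kc xc22 yc53 zc35) (kc xc27 yc15 zc26) (kc xc23 yc0 zc47) (kc xc24 yc8 zc14) (kc xc13 yc43 zc56) (kc xc30 yc55 zc41) (kc xc28 yc51 zc56) (kc xc26 yc42 zc58) (kc xc22 yc2 zc18) (kc xc13 yc44 zc2) (kc xc20 yc18 zc60) (kc xc13 yc43 zc61) (kc xc21 yc44 zc33) (kc xc30 yc55 zc45) (kc xc28 yc35 zc31) (kc xc13 yc44 zc0) (kc xc21 yc54 zc1) (kc xc13 yc44 zc1) (kc xc20 yc17 zc43) (kc xc23 yc15 zc52) (kc xc14 yc28 zc22) (kc xc23 yc21 zc50) (kc xc30 yc23 zc5) (kc xc27 yc7 zc40) (kc xc25 yc24 zc26) (kc xc13 yc44 zc13) (kc xc23 yc38 zc15) (kc xc13 yc44 zc14) (kc xc13 yc44 zc16) (kc xc15 yc32 zc27) (kc xc15 yc32 zc28) (kc xc26 yc6 zc52)) (@D3.rec (fun _ => Pt) (kc xc30 yc55 zc48) (kc xc13 yc44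 zc19) (kc xc13 yc44 zc20) (kc xc14 yc51 zc52) (kc xc19 yc19 zc8) (kc xc14 yc48 zc16) (kc xc13 yc44 zc22) (kc xc25 yc49 zc3) (kc xc25 yc24 zc30) (kc xc30 yc55 zc4) (kc xc23 yc13 zc42) (kc xc17 yc5 zc59) (kc xc20 yc45 zc3) (kc xc14 yc51 zc16) (kc xc19 yc36 zc14) (kc xc27 yc36 zc50) (kc xc14 yc47 zc45) (kc xc17 yc8 zc61) (kc xc26 yc59 zc54) (kc xc14 yc25 zc7) (kc xc14 yc25 zc8) (kc xc30 yc55 zc55) (kc xc13 yc44 zc35) (kc xc30 yc55 zc57) (kc xc13 yc44 zc33) (kc xc24 yc27 zc8) (kc xc30 yc55 zc60) (kc xc30 yc56 zc1) (kc xc13 yc44 zc34) (kc xc28 yc53 zc59) (kc xc15 yc39 zc37) (kc xc30 yc33 zc56) (kc xc19 yc36 zc50) (kc xc30 yc56 zc5) (kc xc22 yc33 zc40) (kc xc27 yc51 zc30) (kc xc22 yc33 zc42) (kc xc13 yc44 zc59) (kc xc13 yc50 zc52) (kc xc13 yc44 zc51) (kc xc27 yc55 zc49) (kc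 xc13 yc44 zc55) (kc xc22 yc57 zc26) (kc xc13 yc44 zc56) (kc xc22 yc12 zc56) (kc xc14 yc16 zc31) (kc xc14 yc53 zc49) (kc xc13 yc44 zc58) (kc xc17 yc22 zc57) (kc xc29 yc30 zc54) (kc xc27 yc58 zc46) (kc xc23 yc24 zc53) (kc xc23 yc6 zc33) (kc xc13 yc44 zc61) (kc xc24 yc5 zc28) (kc xc14 yc35 zc42) (kc xc14 yc35 zc44) (kc xc13 yc45 zc5) (kc xc13 yc45 zc6) (kc xc22 yc57 zc48) (kc xc30 yc23 zc60) (kc xc22 yc16 zc17)) (@D3.rec (fun _ => Pt) (kc xc25 yc57 zc40) (kc xc13 yc45 zc11) (kc xc30 yc56 zc17) (kc xc13 yc45 zc13) (kc xc30 yc34 zc35) (kc xc30 yc33 zc0) (kc xc13 yc45 zc21) (kc xc30 yc21 zc3) (kc xc30 yc21 zc4) (kc xc25 yc49 zc2) (kc xc13 yc45 zc16) (kc xc17 yc51 zc18) (kc xc19 yc46 zc60) (kc xc13 yc45 zc17) (kc xc17 yc51 zc22) (kc xc23 yc54 zc30) (kc xc23 yc53 zc24) (kc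 xc20 yc7 zc56) (kc xc26 yc28 zc33) (kc xc26 yc28 zc32) (kc xc20 yc9 zc4) (kc xc30 yc56 zc24) (kc xc25 yc41 zc19) (kc xc23 yc53 zc58) (kc xc26 yc22 zc15) (kc xc27 yc15 zc7) (kc xc30 yc56 zc25) (kc xc13 yc45 zc26) (kc xc30 yc56 zc29) (kc xc30 yc56 zc27) (kc xc25 yc39 zc31) (kc xc13 yc45 zc29) (kc xc19 yc44 zc31) (kc xc13 yc45 zc28) (kc xc30 yc56 zc33) (kc xc28 yc23 zc45) (kc xc13 yc45 zc30) (kc xc25 yc11 zc27) (kc xc27 yc22 zc43) (kc xc14 yc37 zc35) (kc xc13 yc45 zc32) (kc xc27 yc46 zc14) (kc xc30 yc56 zc36) (kc xc28 yc53 zc35) (kc xc24 yc8 zc10) (kc xc14 yc48 zc32) (kc xc13 yc45 zc37) (kc xc23 yc19 zc17) (kc xc13 yc45 zc40) (kc xc20 yc2 zc46) (kc xc13 yc45 zc42) (kc xc26 yc51 zc33) (kc xc13 yc45 zc44) (kc xc19 yc51 zc21) (kc xc27 yc44 zc20) (kc xc13 yc45 zc46) (kc xc25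 yc16 zc37) (kc xc30 yc9 zc2) (kc xc27 yc0 zc23) (kc xc30 yc56 zc46) (kc xc13 yc45 zc50) (kc xc20 yc14 zc51)) (@D3.rec (fun _ => Pt) (kc xc14 yc48 zc20) (kc xc14 yc45 zc59) (kc xc22 yc21 zc51) (kc xc22 yc21 zc52) (kc xc16 yc14 zc19) (kc xc24 yc59 zc3) (kc xc17 yc6 zc10) (kc xc24 yc59 zc6) (kc xc29 yc44 zc19) (kc xc13 yc46 zc2) (kc xc26 yc34 zc51) (kc xc29 yc12 zc32) (kc xc28 yc1 zc17) (kc xc28 yc54 zc30) (kc xc13 yc46 zc8) (kc xc20 yc47 zc20) (kc xc21 yc23 zc22) (kc xc20 yc47 zc19) (kc xc27 yc12 zc40) (kc xc27 yc12 zc41) (kc xc13 yc46 zc10) (kc xc29 yc36 zc34) (kc xc24 yc5 zc24) (kc xc23 yc8 zc39) (kc xc22 yc57 zc4) (kc xc23 yc1 zc47) (kc xc13 yc46 zc15) (kc xc20 yc53 zc30) (kc xc17 yc51 zc57) (kc xc19 yc22 zc1) (kc xc13 yc46 zc19) (kc xc14 yc10 zc61) (kc xc14 yc11 zc1)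 (kc xc29 yc37 zc44) (kc xc30 yc57 zc0) (kc xc30 yc57 zc2) (kc xc30 yc57 zc5) (kc xc22 yc47 zc9) (kc xc14 yc56 zc26) (kc xc13 yc46 zc28) (kc xc23 yc25 zc48) (kc xc26 yc10 zc0) (kc xc23 yc11 zc10) (kc xc30 yc13 zc41) (kc xc13 yc46 zc33) (kc xc13 yc46 zc32) (kc xc23 yc25 zc44) (kc xc28 yc10 zc59) (kc xc22 yc13 zc3) (kc xc29 yc51 zc28) (kc xc13 yc46 zc37) (kc xc13 yc46 zc36) (kc xc26 yc0 zc55) (kc xc30 yc43 zc4) (kc xc29 yc12 zc14) (kc xc18 yc19 zc6) (kc xc13 yc54 zc50) (kc xc23 yc46 zc17) (kc xc13 yc46 zc55) (kc xc13 yc56 zc6) (kc xc15 yc13 zc2) (kc xc27 yc4 zc40)) (@D3.rec (fun _ => Pt) (kc xc30 yc2 zc8) (kc xc13 yc46 zc43) (kc xc23 yc17 zc33) (kc xc23 yc16 zc16) (kc xc30 yc2 zc16) (kc xc13 yc46 zc47) (kc xc30 yc57 zc13) (kc xc13 yc46 zc50) (kc xc23 yc17 zc22) (kc xc30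 yc57 zc17) (kc xc30 yc31 zc35) (kc xc21 yc30 zc0) (kc xc23 yc41 zc51) (kc xc13 yc46 zc53) (kc xc30 yc57 zc22) (kc xc30 yc57 zc24) (kc xc30 yc57 zc21) (kc xc24 yc28 zc29) (kc xc14 yc56 zc56) (kc xc26 yc9 zc35) (kc xc30 yc57 zc31) (kc xc30 yc57 zc10) (kc xc23 yc18 zc9) (kc xc13 yc46 zc57) (kc xc20 yc36 zc9) (kc xc20 yc32 zc33) (kc xc28 yc10 zc46) (kc xc13 yc46 zc60) (kc xc23 yc16 zc7) (kc xc23 yc15 zc13) (kc xc30 yc57 zc36) (kc xc21 yc25 zc9) (kc xc13 yc46 zc61) (kc xc23 yc45 zc22) (kc xc13 yc47 zc2) (kc xc22 yc53 zc47) (kc xc23 yc16 zc27) (kc xc30 yc57 zc43) (kc xc20 yc46 zc55) (kc xc29 yc14 zc39) (kc xc29 yc37 zc3) (kc xc13 yc47 zc8) (kc xc30 yc42 zc49) (kc xc29 yc22 zc47) (kc xc14 yc14 zc41) (kc xc29 yc37 zc5) (kc xc13 yc47 zc12) (kc xc13 yc47 zc11) (kc xc29 yc31 zc49)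 (kc xc14 yc17 zc21) (kc xc13 yc47 zc18) (kc xc30 yc37 zc14) (kc xc13 yc47 zc20) (kc xc19 yc16 zc60) (kc xc16 yc24 zc42) (kc xc13 yc47 zc29) (kc xc13 yc47 zc30) (kc xc13 yc47 zc32) (kc xc29 yc48 zc55) (kc xc25 yc2 zc34) (kc xc13 yc47 zc33) (kc xc30 yc57 zc48)) (@D3.rec (fun _ => Pt) (kc xc13 yc47 zc34) (kc xc14 yc59 zc25) (kc xc15 yc13 zc1) (kc xc25 yc16 zc6) (kc xc16 yc12 zc4) (kc xc13 yc47 zc36) (kc xc23 yc18 zc22) (kc xc30 yc57 zc56) (kc xc30 yc57 zc55) (kc xc14 yc59 zc55) (kc xc30 yc2 zc6) (kc xc13 yc47 zc38) (kc xc15 yc10 zc24) (kc xc23 yc14 zc29) (kc xc28 yc12 zc11) (kc xc13 yc47 zc40) (kc xc30 yc57 zc26) (kc xc30 yc57 zc25) (kc xc18 yc22 zc56) (kc xc30 yc2 zc4) (kc xc13 yc47 zc42) (kc xc30 yc57 zc52) (kc xc15 yc11 zc44) (kc xc30 yc46 zc13) (kc xc15 yc13 zc4) (kc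 xc23 yc18 zc50) (kc xc23 yc45 zc9) (kc xc24 yc59 zc40) (kc xc23 yc19 zc61) (kc xc23 yc20 zc4) (kc xc23 yc20 zc13) (kc xc23 yc20 zc14) (kc xc30 yc57 zc46) (kc xc25 yc1 zc51) (kc xc13 yc47 zc46) (kc xc30 yc33 zc18) (kc xc13 yc50 zc58) (kc xc13 yc47 zc48) (kc xc28 yc32 zc52) (kc xc13 yc47 zc50) (kc xc13 yc47 zc51) (kc xc30 yc58 zc25) (kc xc13 yc47 zc53) (kc xc23 yc21 zc45) (kc xc13 yc47 zc54) (kc xc22 yc31 zc46) (kc xc13 yc48 zc2) (kc xc28 yc39 zc10) (kc xc13 yc47 zc56) (kc xc27 yc1 zc19) (kc xc14 yc45 zc1) (kc xc30 yc58 zc30) (kc xc23 yc10 zc49) (kc xc30 yc25 zc12) (kc xc13 yc47 zc59) (kc xc23 yc33 zc28) (kc xc30 yc58 zc31) (kc xc13 yc47 zc61) (kc xc30 yc58 zc35) (kc xc30 yc58 zc36) (kc xc30 yc57 zc33) (kc xc30 yc58 zc40)) (@D3.rec (fun _ => Pt) (kc xc23 yc6 zc20) (kc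 xc13 yc48 zc56) (kc xc23 yc3 zc43) (kc xc30 yc57 zc32) (kc xc26 yc29 zc60) (kc xc30 yc58 zc28) (kc xc22 yc56 zc8) (kc xc23 yc14 zc28) (kc xc23 yc18 zc25) (kc xc13 yc48 zc6) (kc xc30 yc58 zc45) (kc xc13 yc48 zc4) (kc xc30 yc48 zc17) (kc xc13 yc48 zc5) (kc xc30 yc43 zc40) (kc xc30 yc58 zc47) (kc xc23 yc14 zc3) (kc xc22 yc45 zc41) (kc xc23 yc16 zc19) (kc xc23 yc16 zc18) (kc xc13 yc48 zc20) (kc xc13 yc48 zc16) (kc xc24 yc5 zc45) (kc xc13 yc48 zc18) (kc xc14 yc10 zc1) (kc xc23 yc31 zc31) (kc xc30 yc58 zc48) (kc xc23 yc14 zc36) (kc xc22 yc45 zc26) (kc xc13 yc48 zc25) (kc xc13 yc48 zc22) (kc xc23 yc34 zc7) (kc xc30 yc58 zc56) (kc xc23 yc52 zc35) (kc xc13 yc48 zc23) (kc xc18 yc57 zc16) (kc xc28 yc45 zc55) (kc xc24 yc31 zc47) (kc xc22 yc30 zc50) (kc xc24 yc44 zc24) (kc xc24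 yc44 zc25) (kc xc25 yc52 zc0) (kc xc13 yc48 zc36) (kc xc18 yc18 zc28) (kc xc13 yc48 zc33) (kc xc29 yc3 zc12) (kc xc13 yc48 zc34) (kc xc26 yc22 zc17) (kc xc30 yc59 zc2) (kc xc26 yc23 zc35) (kc xc25 yc51 zc60) (kc xc23 yc44 zc5) (kc xc13 yc48 zc40) (kc xc13 yc48 zc39) (kc xc26 yc8 zc43) (kc xc27 yc44 zc41) (kc xc30 yc59 zc5) (kc xc22 yc27 zc60) (kc xc30 yc59 zc4) (kc xc23 yc20 zc8) (kc xc22 yc56 zc9) (kc xc13 yc49 zc19)) (@D3.rec (fun _ => Pt) (kc xc13 yc48 zc44) (kc xc13 yc48 zc42) (kc xc30 yc59 zc8) (kc xc23 yc38 zc57) (kc xc13 yc48 zc43) (kc xc25 yc4 zc0) (kc xc30 yc59 zc12) (kc xc26 yc15 zc41) (kc xc13 yc48 zc45) (kc xc30 yc59 zc14) (kc xc26 yc9 zc25) (kc xc21 yc12 zc60) (kc xc27 yc57 zc43) (kc xc27 yc57 zc44) (kc xc13 yc48 zc47) (kc xc23 yc3 zc1) (kc xc30 yc59 zc21)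 (kc xc30 yc59 zc24) (kc xc13 yc48 zc49) (kc xc23 yc3 zc2) (kc xc21 yc28 zc16) (kc xc30 yc59 zc27) (kc xc23 yc14 zc8) (kc xc13 yc48 zc50) (kc xc30 yc59 zc33) (kc xc28 yc11 zc32) (kc xc23 yc45 zc13) (kc xc30 yc59 zc35) (kc xc30 yc59 zc36) (kc xc13 yc48 zc52) (kc xc14 yc0 zc40) (kc xc23 yc17 zc51) (kc xc23 yc17 zc52) (kc xc23 yc14 zc2) (kc xc30 yc32 zc53) (kc xc30 yc32 zc54) (kc xc27 yc57 zc61) (kc xc30 yc58 zc43) (kc xc13 yc48 zc57) (kc xc23 yc44 zc60) (kc xc30 yc57 zc14) (kc xc27 yc56 zc58) (kc xc16 yc6 zc38) (kc xc20 yc33 zc30) (kc xc20 yc31 zc7) (kc xc28 yc13 zc53) (kc xc28 yc13 zc52) (kc xc13 yc49 zc0) (kc xc30 yc32 zc5) (kc xc30 yc32 zc7) (kc xc13 yc49 zc2) (kc xc23 yc17 zc31) (kc xc23 yc17 zc32) (kc xc30 yc59 zc51) (kc xc22 yc28 zc27) (kc xc13 yc49 zc4) (kc xc25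 yc3 zc8) (kc xc29 yc9 zc45) (kc xc13 yc49 zc6) (kc xc22 yc42 zc5) (kc xc22 yc42 zc6) (kc xc13 yc49 zc17)) (@D3.rec (fun _ => Pt) (kc xc21 yc8 zc45) (kc xc13 yc49 zc8) (kc xc15 yc14 zc47) (kc xc15 yc14 zc51) (kc xc29 yc12 zc35) (kc xc25 yc3 zc31) (kc xc23 yc21 zc27) (kc xc13 yc49 zc12) (kc xc29 yc18 zc59) (kc xc23 yc14 zc22) (kc xc13 yc49 zc14) (kc xc13 yc49 zc35) (kc xc30 yc57 zc34) (kc xc30 yc59 zc56) (kc xc29 yc6 zc22) (kc xc13 yc49 zc16) (kc xc24 yc31 zc36) (kc xc30 yc59 zc61) (kc xc31 yc0 zc0) (kc xc31 yc0 zc1) (kc xc23 yc45 zc23) (kc xc28 yc3 zc58) (kc xc23 yc15 zc6) (kc xc13 yc49 zc22) (kc xc30 yc46 zc56) (kc xc23 yc16 zc8) (kc xc13 yc49 zc20) (kc xc30 yc43 zc17) (kc xc30 yc59 zc49) (kc xc23 yc9 zc22) (kc xc23 yc9 zc23) (kc xc25 yc59 zc29) (kc xc13 yc49 zc26)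 (kc xc30 yc57 zc19) (kc xc30 yc57 zc20) (kc xc13 yc49 zc28) (kc xc13 yc49 zc32) (kc xc22 yc32 zc60) (kc xc22 yc29 zc42) (kc xc28 yc10 zc45) (kc xc30 yc32 zc52) (kc xc23 yc37 zc26) (kc xc13 yc49 zc40) (kc xc23 yc25 zc22) (kc xc13 yc49 zc37) (kc xc23 yc23 zc49) (kc xc30 yc58 zc12) (kc xc22 yc15 zc52) (kc xc30 yc47 zc3) (kc xc30 yc47 zc4) (kc xc23 yc15 zc25) (kc xc13 yc49 zc47) (kc xc31 yc0 zc14) (kc xc28 yc22 zc18) (kc xc28 yc22 zc17) (kc xc23 yc31 zc25) (kc xc13 yc49 zc51) (kc xc19 yc2 zc3) (kc xc30 yc24 zc12) (kc xc31 yc0 zc18) (kc xc23 yc54 zc48) (kc xc13 yc49 zc54)) (@D3.rec (fun _ => Pt) (kc xc26 yc23 zc51) (kc xc17 yc57 zc15) (kc xc22 yc17 zc7) (kc xc22 yc17 zc8) (kc xc17 yc43 zc49) (kc xc13 yc50 zc0) (kc xc27 yc24 zc20) (kc xc13 yc49 zc59) (kc xc31 yc0 zc28) (kc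 xc30 yc53 zc16) (kc xc13 yc49 zc60) (kc xc31 yc0 zc30) (kc xc22 yc0 zc21) (kc xc13 yc49 zc61) (kc xc25 yc26 zc2) (kc xc30 yc57 zc45) (kc xc13 yc52 zc6) (kc xc23 yc12 zc47) (kc xc31 yc0 zc33) (kc xc14 yc34 zc37) (kc xc28 yc12 zc18) (kc xc14 yc52 zc7) (kc xc23 yc46 zc20) (kc xc13 yc50 zc11) (kc xc13 yc50 zc10) (kc xc14 yc0 zc21) (kc xc23 yc31 zc57) (kc xc22 yc36 zc36) (kc xc23 yc46 zc21) (kc xc13 yc50 zc15) (kc xc13 yc50 zc14) (kc xc30 yc13 zc25) (kc xc13 yc50 zc16) (kc xc23 yc31 zc3) (kc xc30 yc33 zc20) (kc xc26 yc7 zc22) (kc xc26 yc7 zc23) (kc xc14 yc6 zc30) (kc xc23 yc53 zc37) (kc xc13 yc50 zc20) (kc xc13 yc50 zc22) (kc xc13 yc50 zc27) (kc xc14 yc25 zc46) (kc xc26 yc49 zc16) (kc xc25 yc52 zc4) (kc xc19 yc33 zc42) (kc xc19 yc17 zc46) (kc xc14 yc10 zc33) (kc xc13 yc50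 zc38) (kc xc22 yc34 zc54) (kc xc13 yc50 zc45) (kc xc31 yc0 zc40) (kc xc13 yc50 zc46) (kc xc26 yc48 zc51) (kc xc25 yc2 zc51) (kc xc14 yc39 zc51) (kc xc26 yc9 zc33) (kc xc18 yc19 zc14) (kc xc30 yc57 zc12) (kc xc13 yc50 zc50) (kc xc25 yc46 zc25) (kc xc23 yc15 zc28)) (@D3.rec (fun _ => Pt) (kc xc22 yc58 zc22) (kc xc22 yc58 zc19) (kc xc13 yc56 zc15) (kc xc15 yc11 zc54) (kc xc23 yc15 zc29) (kc xc13 yc50 zc54) (kc xc22 yc35 zc35) (kc xc18 yc18 zc11) (kc xc23 yc16 zc59) (kc xc18 yc18 zc50) (kc xc26 yc8 zc24) (kc xc27 yc57 zc41) (kc xc28 yc12 zc10) (kc xc23 yc15 zc30) (kc xc23 yc15 zc31) (kc xc29 yc29 zc14) (kc xc28 yc12 zc19) (kc xc27 yc40 zc2) (kc xc28 yc28 zc9) (kc xc23 yc21 zc43) (kc xc13 yc51 zc6) (kc xc22 yc56 zc13) (kc xc13 yc51 zc7) (kc xc30 yc39 zc9) (kc xc23 yc33 zc12)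 (kc xc15 yc31 zc22) (kc xc25 yc25 zc51) (kc xc30 yc13 zc60) (kc xc28 yc3 zc9) (kc xc22 yc43 zc54) (kc xc22 yc43 zc56) (kc xc19 yc59 zc9) (kc xc13 yc51 zc14) (kc xc13 yc51 zc15) (kc xc26 yc4 zc39) (kc xc22 yc40 zc61) (kc xc21 yc6 zc58) (kc xc30 yc13 zc54) (kc xc29 yc51 zc20) (kc xc13 yc51 zc24) (kc xc22 yc33 zc60) (kc xc13 yc51 zc27) (kc xc15 yc26 zc23) (kc xc13 yc51 zc26) (kc xc23 yc31 zc23) (kc xc29 yc30 zc11) (kc xc27 yc58 zc53) (kc xc25 yc46 zc26) (kc xc14 yc44 zc52) (kc xc14 yc44 zc53) (kc xc13 yc51 zc32) (kc xc18 yc40 zc9) (kc xc13 yc51 zc29) (kc xc29 yc6 zc36) (kc xc13 yc51 zc30) (kc xc27 yc43 zc14) (kc xc19 yc55 zc54) (kc xc13 yc51 zc33) (kc xc26 yc14 zc56) (kc xc13 yc51 zc36) (kc xc13 yc51 zc35) (kc xc18 yc27 zc23)) (@D3.rec (fun _ => Pt) (kc xc16 yc17 zc46)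 (kc xc31 yc0 zc53) (kc xc13 yc51 zc38) (kc xc31 yc0 zc56) (kc xc23 yc27 zc54) (kc xc13 yc51 zc39) (kc xc13 yc54 zc60) (kc xc14 yc0 zc2) (kc xc14 yc5 zc10) (kc xc21 yc12 zc27) (kc xc30 yc11 zc11) (kc xc22 yc30 zc56) (kc xc31 yc0 zc58) (kc xc21 yc56 zc40) (kc xc31 yc0 zc59) (kc xc13 yc51 zc43) (kc xc22 yc30 zc11) (kc xc18 yc19 zc1) (kc xc13 yc51 zc45) (kc xc13 yc51 zc46) (kc xc31 yc0 zc4) (kc xc30 yc32 zc44) (kc xc13 yc51 zc52) (kc xc26 yc10 zc15) (kc xc30 yc42 zc46) (kc xc27 yc47 zc44) (kc xc27 yc47 zc56) (kc xc23 yc18 zc6) (kc xc13 yc51 zc55) (kc xc29 yc55 zc40) (kc xc30 yc6 zc42) (kc xc14 yc39 zc17) (kc xc18 yc40 zc48) (kc xc13 yc51 zc57) (kc xc24 yc7 zc34) (kc xc27 yc58 zc1) (kc xc22 yc54 zc36) (kc xc22 yc54 zc37) (kc xc25 yc25 zc46) (kc xc13 yc51 zc61) (kc xc24 yc31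 zc45) (kc xc13 yc52 zc0) (kc xc23 yc35 zc36) (kc xc23 yc20 zc19) (kc xc13 yc52 zc3) (kc xc23 yc15 zc43) (kc xc30 yc39 zc53) (kc xc31 yc1 zc15) (kc xc13 yc59 zc23) (kc xc23 yc35 zc35) (kc xc23 yc10 zc51) (kc xc13 yc52 zc7) (kc xc28 yc26 zc4) (kc xc18 yc15 zc51) (kc xc18 yc35 zc38) (kc xc13 yc52 zc13) (kc xc25 yc1 zc34) (kc xc28 yc2 zc23) (kc xc23 yc34 zc12) (kc xc23 yc34 zc13) (kc xc23 yc23 zc56) (kc xc20 yc45 zc40)) (@D3.rec (fun _ => Pt) (kc xc23 yc6 zc25) (kc xc13 yc52 zc19) (kc xc31 yc1 zc22) (kc xc13 yc52 zc16) (kc xc17 yc54 zc8) (kc xc13 yc52 zc17) (kc xc13 yc52 zc18) (kc xc23 yc34 zc26) (kc xc17 yc27 zc28) (kc xc29 yc0 zc26) (kc xc21 yc21 zc47) (kc xc26 yc0 zc7) (kc xc14 yc46 zc23) (kc xc14 yc46 zc21) (kc xc22 yc44 zc2) (kc xc27 yc25 zc55) (kc xc13 yc52 zc26)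 (kc xc15 yc56 zc58) (kc xc30 yc1 zc38) (kc xc27 yc17 zc51) (kc xc21 yc27 zc8) (kc xc24 yc57 zc2) (kc xc13 yc53 zc48) (kc xc31 yc1 zc26) (kc xc30 yc12 zc55) (kc xc21 yc24 zc25) (kc xc16 yc4 zc19) (kc xc13 yc53 zc47) (kc xc25 yc58 zc50) (kc xc25 yc58 zc49) (kc xc17 yc27 zc60) (kc xc31 yc1 zc29) (kc xc29 yc51 zc11) (kc xc21 yc34 zc22) (kc xc13 yc52 zc35) (kc xc25 yc41 zc56) (kc xc16 yc1 zc21) (kc xc13 yc52 zc36) (kc xc27 yc33 zc17) (kc xc27 yc50 zc9) (kc xc13 yc52 zc38) (kc xc28 yc25 zc42) (kc xc21 yc23 zc11) (kc xc16 yc26 zc40) (kc xc20 yc26 zc22) (kc xc24 yc32 zc37) (kc xc24 yc32 zc38) (kc xc15 yc6 zc53) (kc xc26 yc10 zc48) (kc xc24 yc54 zc14) (kc xc25 yc15 zc45) (kc xc31 yc1 zc32) (kc xc14 yc58 zc14) (kc xc13 yc52 zc53) (kc xc18 yc3 zc37) (kc xc23 yc41 zc58) (kc xc21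 yc42 zc0) (kc xc13 yc52 zc57) (kc xc27 yc27 zc16) (kc xc18 yc50 zc22) (kc xc13 yc52 zc58) (kc xc27 yc30 zc41)) (@D3.rec (fun _ => Pt) (kc xc27 yc26 zc50) (kc xc13 yc53 zc0) (kc xc27 yc12 zc17) (kc xc31 yc1 zc37) (kc xc18 yc48 zc6) (kc xc30 yc24 zc7) (kc xc13 yc59 zc16) (kc xc13 yc59 zc17) (kc xc13 yc53 zc3) (kc xc23 yc31 zc20) (kc xc20 yc5 zc46) (kc xc20 yc5 zc47) (kc xc20 yc7 zc11) (kc xc23 yc0 zc14) (kc xc25 yc32 zc50) (kc xc17 yc54 zc47) (kc xc28 yc57 zc40) (kc xc20 yc13 zc0) (kc xc20 yc14 zc16) (kc xc25 yc31 zc52) (kc xc24 yc41 zc43) (kc xc14 yc42 zc45) (kc xc30 yc20 zc22) (kc xc25 yc57 zc25) (kc xc13 yc53 zc15) (kc xc31 yc1 zc42) (kc xc23 yc56 zc60) (kc xc23 yc58 zc20) (kc xc17 yc58 zc47) (kc xc17 yc35 zc0) (kc xc31 yc1 zc45) (kc xc29 yc12 zc47) (kc xc30 yc16 zc34)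 (kc xc18 yc25 zc30) (kc xc18 yc25 zc27) (kc xc27 yc29 zc39) (kc xc24 yc41 zc18) (kc xc13 yc53 zc22) (kc xc22 yc9 zc36) (kc xc13 yc53 zc25) (kc xc25 yc45 zc52) (kc xc13 yc53 zc28) (kc xc20 yc42 zc23) (kc xc20 yc42 zc24) (kc xc17 yc58 zc48) (kc xc26 yc29 zc27) (kc xc24 yc21 zc61) (kc xc30 yc34 zc4) (kc xc30 yc5 zc31) (kc xc23 yc18 zc45) (kc xc14 yc3 zc31) (kc xc21 yc5 zc3) (kc xc29 yc14 zc34) (kc xc23 yc52 zc7) (kc xc23 yc52 zc8) (kc xc27 yc47 zc36) (kc xc23 yc21 zc60) (kc xc31 yc1 zc23) (kc xc21 yc31 zc41) (kc xc28 yc7 zc1) (kc xc18 yc32 zc2) (kc xc18 yc44 zc43)) (@D3.rec (fun _ => Pt) (kc xc18 yc58 zc35) (kc xc24 yc55 zc27) (kc xc30 yc53 zc2) (kc xc24 yc31 zc60) (kc xc20 yc49 zc23) (kc xc13 yc53 zc55) (kc xc31 yc1 zc49) (kc xc28 yc51 zc15) (kc xc24 yc1 zc10) (kc xc19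 yc32 zc1) (kc xc23 yc49 zc36) (kc xc19 yc35 zc4) (kc xc13 yc54 zc1) (kc xc20 yc32 zc37) (kc xc13 yc54 zc4) (kc xc24 yc8 zc6) (kc xc22 yc40 zc38) (kc xc31 yc1 zc53) (kc xc13 yc54 zc5) (kc xc19 yc35 zc5) (kc xc27 yc11 zc20) (kc xc13 yc54 zc9) (kc xc25 yc56 zc25) (kc xc24 yc43 zc6) (kc xc13 yc54 zc26) (kc xc13 yc54 zc14) (kc xc17 yc56 zc18) (kc xc20 yc13 zc21) (kc xc20 yc13 zc40) (kc xc13 yc58 zc31) (kc xc31 yc1 zc55) (kc xc20 yc50 zc21) (kc xc13 yc54 zc19) (kc xc25 yc55 zc25) (kc xc30 yc15 zc2) (kc xc31 yc1 zc60) (kc xc31 yc1 zc61) (kc xc21 yc15 zc56) (kc xc13 yc54 zc29) (kc xc21 yc49 zc40) (kc xc23 yc2 zc47) (kc xc28 yc2 zc40) (kc xc13 yc54 zc32) (kc xc31 yc2 zc5) (kc xc13 yc54 zc33) (kc xc23 yc33 zc7) (kc xc16 yc56 zc40) (kc xc29 yc48 zc54) (kc xc30 yc18 zc1) (kc xc13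 yc54 zc34) (kc xc26 yc9 zc38) (kc xc22 yc12 zc18) (kc xc31 yc2 zc9) (kc xc23 yc11 zc51) (kc xc30 yc42 zc30) (kc xc13 yc54 zc39) (kc xc13 yc54 zc38) (kc xc27 yc44 zc53) (kc xc30 yc42 zc29) (kc xc31 yc0 zc10) (kc xc13 yc54 zc41) (kc xc31 yc2 zc16)) (@D3.rec (fun _ => Pt) (kc xc13 yc54 zc42) (kc xc22 yc6 zc5) (kc xc26 yc8 zc22) (kc xc13 yc55 zc6) (kc xc30 yc51 zc50) (kc xc13 yc54 zc44) (kc xc25 yc39 zc21) (kc xc31 yc2 zc25) (kc xc21 yc12 zc30) (kc xc31 yc2 zc26) (kc xc13 yc54 zc47) (kc xc27 yc1 zc15) (kc xc17 yc56 zc15) (kc xc20 yc17 zc36) (kc xc18 yc24 zc54) (kc xc17 yc9 zc40) (kc xc15 yc30 zc41) (kc xc24 yc52 zc24) (kc xc13 yc54 zc51) (kc xc15 yc50 zc11) (kc xc23 yc35 zc11) (kc xc23 yc32 zc53) (kc xc23 yc18 zc43) (kc xc13 yc54 zc57) (kc xc13 yc54 zc59) (kc xc31 yc2 zc30)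 (kc xc19 yc50 zc4) (kc xc21 yc56 zc17) (kc xc26 yc0 zc17) (kc xc13 yc55 zc0) (kc xc26 yc18 zc27) (kc xc31 yc2 zc32) (kc xc28 yc11 zc0) (kc xc28 yc27 zc17) (kc xc13 yc55 zc1) (kc xc18 yc19 zc11) (kc xc13 yc55 zc3) (kc xc25 yc2 zc32) (kc xc29 yc22 zc11) (kc xc31 yc2 zc36) (kc xc22 yc29 zc45) (kc xc31 yc2 zc38) (kc xc28 yc12 zc27) (kc xc26 yc9 zc42) (kc xc23 yc13 zc46) (kc xc31 yc0 zc35) (kc xc23 yc32 zc1) (kc xc16 yc12 zc6) (kc xc23 yc13 zc40) (kc xc28 yc0 zc57) (kc xc13 yc55 zc12) (kc xc23 yc31 zc38) (kc xc23 yc31 zc39) (kc xc26 yc23 zc6) (kc xc13 yc55 zc14) (kc xc19 yc2 zc12) (kc xc23 yc31 zc49) (kc xc31 yc2 zc43) (kc xc13 yc55 zc15) (kc xc31 yc0 zc8) (kc xc31 yc2 zc48) (kc xc29 yc10 zc29)) (@D3.rec (fun _ => Pt) (kc xc23 yc3 zc30) (kc xc21 yc38 zc13) (kc xc31 yc2 zc53)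 (kc xc23 yc3 zc32) (kc xc31 yc2 zc57) (kc xc31 yc2 zc60) (kc xc13 yc55 zc22) (kc xc23 yc38 zc42) (kc xc30 yc2 zc58) (kc xc28 yc13 zc26) (kc xc31 yc3 zc2) (kc xc23 yc38 zc31) (kc xc30 yc2 zc52) (kc xc31 yc3 zc4) (kc xc26 yc6 zc41) (kc xc13 yc56 zc10) (kc xc21 yc33 zc20) (kc xc22 yc37 zc0) (kc xc22 yc37 zc1) (kc xc20 yc6 zc54) (kc xc16 yc51 zc50) (kc xc25 yc50 zc36) (kc xc14 yc50 zc8) (kc xc22 yc32 zc48) (kc xc25 yc50 zc41) (kc xc14 yc50 zc11) (kc xc14 yc50 zc43) (kc xc14 yc50 zc44) (kc xc13 yc55 zc41) (kc xc29 yc39 zc41) (kc xc31 yc3 zc13) (kc xc19 yc25 zc2) (kc xc22 yc37 zc19) (kc xc29 yc55 zc49) (kc xc13 yc55 zc47) (kc xc30 yc10 zc6) (kc xc20 yc12 zc9) (kc xc13 yc55 zc49) (kc xc21 yc24 zc35) (kc xc23 yc42 zc49) (kc xc31 yc3 zc15) (kc xc13 yc55 zc51) (kc xc22 yc42 zc54)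 (kc xc31 yc3 zc18) (kc xc13 yc55 zc52) (kc xc13 yc57 zc33) (kc xc13 yc57 zc34) (kc xc31 yc2 zc61) (kc xc17 yc59 zc25) (kc xc13 yc55 zc54) (kc xc13 yc55 zc55) (kc xc31 yc3 zc25) (kc xc31 yc3 zc27) (kc xc22 yc33 zc46) (kc xc20 yc2 zc17) (kc xc31 yc3 zc30) (kc xc13 yc55 zc57) (kc xc29 yc56 zc46) (kc xc21 yc55 zc28) (kc xc28 yc53 zc54) (kc xc13 yc55 zc60) (kc xc31 yc3 zc32)) (@D3.rec (fun _ => Pt) (kc xc22 yc53 zc60) (kc xc27 yc17 zc59) (kc xc31 yc3 zc35) (kc xc13 yc56 zc1) (kc xc31 yc3 zc38) (kc xc22 yc45 zc1) (kc xc14 yc6 zc15) (kc xc27 yc4 zc58) (kc xc13 yc56 zc4) (kc xc25 yc57 zc41) (kc xc14 yc55 zc12) (kc xc31 yc3 zc43) (kc xc13 yc56 zc7) (kc xc29 yc5 zc15) (kc xc15 yc45 zc61) (kc xc23 yc38 zc58) (kc xc23 yc29 zc7) (kc xc30 yc36 zc15) (kc xc28 yc10 zc44) (kc xc22 yc41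 zc9) (kc xc30 yc7 zc14) (kc xc22 yc56 zc58) (kc xc29 yc9 zc54) (kc xc23 yc30 zc25) (kc xc13 yc56 zc17) (kc xc22 yc32 zc49) (kc xc29 yc27 zc58) (kc xc13 yc56 zc23) (kc xc13 yc56 zc21) (kc xc31 yc3 zc50) (kc xc13 yc56 zc22) (kc xc23 yc30 zc24) (kc xc13 yc56 zc24) (kc xc31 yc3 zc53) (kc xc13 yc56 zc26) (kc xc21 yc27 zc4) (kc xc30 yc36 zc1) (kc xc29 yc55 zc11) (kc xc13 yc56 zc57) (kc xc22 yc48 zc1) (kc xc13 yc56 zc28) (kc xc31 yc3 zc58) (kc xc13 yc56 zc29) (kc xc31 yc3 zc59) (kc xc31 yc3 zc60) (kc xc20 yc3 zc10) (kc xc13 yc56 zc30) (kc xc19 yc45 zc27) (kc xc31 yc4 zc1) (kc xc20 yc49 zc8) (kc xc24 yc30 zc51) (kc xc13 yc56 zc33) (kc xc25 yc59 zc1) (kc xc17 yc55 zc0) (kc xc23 yc21 zc4) (kc xc30 yc4 zc34) (kc xc13 yc56 zc35) (kc xc30 yc51 zc41) (kc xc29 yc59 zc29) (kc xc13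 yc56 zc36) (kc xc27 yc1 zc46) (kc xc13 yc58 zc4)) (@D3.rec (fun _ => Pt) (kc xc13 yc58 zc5) (kc xc31 yc3 zc51) (kc xc18 yc1 zc52) (kc xc13 yc56 zc38) (kc xc30 yc1 zc35) (kc xc29 yc58 zc26) (kc xc30 yc40 zc44) (kc xc17 yc28 zc17) (kc xc29 yc49 zc38) (kc xc13 yc56 zc44) (kc xc29 yc56 zc55) (kc xc15 yc35 zc44) (kc xc13 yc56 zc45) (kc xc29 yc13 zc55) (kc xc28 yc49 zc42) (kc xc29 yc13 zc58) (kc xc29 yc13 zc57) (kc xc13 yc56 zc47) (kc xc31 yc4 zc18) (kc xc28 yc53 zc53) (kc xc23 yc46 zc33) (kc xc31 yc4 zc17) (kc xc13 yc56 zc50) (kc xc31 yc4 zc23) (kc xc25 yc49 zc21) (kc xc31 yc4 zc22) (kc xc13 yc56 zc51) (kc xc26 yc48 zc1) (kc xc13 yc56 zc53) (kc xc24 yc40 zc10) (kc xc24 yc40 zc11) (kc xc29 yc41 zc28) (kc xc23 yc29 zc20) (kc xc13 yc56 zc54) (kc xc31 yc4 zc34) (kc xc24 yc22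 zc9) (kc xc13 yc56 zc56) (kc xc24 yc17 zc48) (kc xc19 yc45 zc33) (kc xc13 yc56 zc59) (kc xc31 yc4 zc40) (kc xc31 yc4 zc43) (kc xc13 yc56 zc60) (kc xc31 yc4 zc47) (kc xc31 yc4 zc45) (kc xc13 yc57 zc0) (kc xc29 yc59 zc23) (kc xc31 yc4 zc54) (kc xc31 yc4 zc53) (kc xc28 yc9 zc9) (kc xc16 yc11 zc38) (kc xc13 yc57 zc3) (kc xc30 yc42 zc24) (kc xc30 yc35 zc36) (kc xc27 yc12 zc54) (kc xc29 yc46 zc42) (kc xc22 yc42 zc51) (kc xc26 yc4 zc14) (kc xc13 yc57 zc10) (kc xc13 yc57 zc14) (kc xc31 yc4 zc59) (kc xc26 yc55 zc19)) (@D3.rec (fun _ => Pt) (kc xc22 yc37 zc18) (kc xc13 yc57 zc15) (kc xc31 yc4 zc61) (kc xc25 yc19 zc0) (kc xc31 yc4 zc33) (kc xc31 yc4 zc36) (kc xc13 yc57 zc16) (kc xc23 yc27 zc16) (kc xc13 yc57 zc20) (kc xc29 yc13 zc53) (kc xc22 yc56 zc50) (kc xc22 yc16 zc60) (kc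 xc13 yc57 zc23) (kc xc31 yc5 zc3) (kc xc20 yc26 zc40) (kc xc13 yc57 zc25) (kc xc15 yc46 zc7) (kc xc31 yc3 zc47) (kc xc13 yc57 zc26) (kc xc14 yc5 zc46) (kc xc23 yc28 zc32) (kc xc31 yc5 zc6) (kc xc17 yc32 zc13) (kc xc26 yc14 zc48) (kc xc31 yc5 zc7) (kc xc22 yc44 zc37) (kc xc14 yc6 zc17) (kc xc14 yc6 zc18) (kc xc17 yc59 zc19) (kc xc13 yc57 zc36) (kc xc13 yc57 zc37) (kc xc30 yc34 zc58) (kc xc23 yc40 zc29) (kc xc23 yc40 zc28) (kc xc30 yc1 zc32) (kc xc26 yc6 zc44) (kc xc26 yc47 zc37) (kc xc27 yc57 zc29) (kc xc13 yc57 zc42) (kc xc18 yc23 zc6) (kc xc13 yc57 zc45) (kc xc14 yc5 zc15) (kc xc22 yc37 zc17) (kc xc29 yc11 zc38) (kc xc31 yc5 zc15) (kc xc16 yc35 zc8) (kc xc30 yc41 zc47) (kc xc30 yc41 zc46) (kc xc13 yc57 zc52) (kc xc23 yc41 zc60) (kc xc31 yc5 zc22) (kc xc22 yc18 zc38)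 (kc xc30 yc2 zc42) (kc xc30 yc2 zc60) (kc xc28 yc11 zc61) (kc xc31 yc3 zc46) (kc xc30 yc3 zc1) (kc xc26 yc6 zc35) (kc xc21 yc14 zc33) (kc xc21 yc14 zc34) (kc xc13 yc58 zc12) (kc xc14 yc5 zc11)) (@D3.rec (fun _ => Pt) (kc xc30 yc11 zc24) (kc xc20 yc4 zc27) (kc xc13 yc58 zc0) (kc xc31 yc5 zc30) (kc xc19 yc33 zc11) (kc xc13 yc58 zc2) (kc xc29 yc56 zc41) (kc xc31 yc4 zc8) (kc xc31 yc5 zc33) (kc xc25 yc30 zc12) (kc xc14 yc5 zc31) (kc xc14 yc5 zc32) (kc xc31 yc5 zc20) (kc xc13 yc58 zc7) (kc xc31 yc5 zc40) (kc xc13 yc58 zc8) (kc xc28 yc27 zc29) (kc xc27 yc42 zc31) (kc xc24 yc17 zc49) (kc xc30 yc10 zc20) (kc xc14 yc5 zc47) (kc xc29 yc49 zc37) (kc xc31 yc5 zc46) (kc xc31 yc5 zc49) (kc xc23 yc27 zc31) (kc xc23 yc27 zc23) (kc xc13 yc58 zc14) (kc xc31 yc4 zc37) (kc xc31 yc4 zc38)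 (kc xc25 yc50 zc38) (kc xc17 yc1 zc2) (kc xc23 yc0 zc16) (kc xc26 yc32 zc45) (kc xc13 yc58 zc24) (kc xc16 yc5 zc60) (kc xc15 yc24 zc5) (kc xc13 yc58 zc29) (kc xc24 yc32 zc41) (kc xc15 yc47 zc56) (kc xc25 yc49 zc59) (kc xc29 yc22 zc29) (kc xc17 yc59 zc38) (kc xc13 yc58 zc39) (kc xc19 yc27 zc23) (kc xc13 yc58 zc40) (kc xc13 yc58 zc56) (kc xc19 yc25 zc26) (kc xc15 yc50 zc9) (kc xc21 yc20 zc39) (kc xc15 yc50 zc21) (kc xc13 yc58 zc49) (kc xc16 yc10 zc32) (kc xc30 yc8 zc13) (kc xc30 yc9 zc1) (kc xc31 yc5 zc55) (kc xc27 yc29 zc20) (kc xc30 yc13 zc16) (kc xc13 yc58 zc52) (kc xc25 yc2 zc20) (kc xc13 yc58 zc53) (kc xc17 yc12 zc26) (kc xc13 yc58 zc55)) (@D3.rec (fun _ => Pt) (kc xc26 yc23 zc7) (kc xc27 yc57 zc13) (kc xc17 yc33 zc36) (kc xc23 yc19 zc33) (kc xc13 yc58 zc57) (kc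 xc27 yc44 zc50) (kc xc24 yc44 zc0) (kc xc16 yc24 zc60) (kc xc31 yc5 zc61) (kc xc13 yc59 zc0) (kc xc30 yc33 zc14) (kc xc24 yc42 zc26) (kc xc16 yc24 zc59) (kc xc20 yc20 zc48) (kc xc31 yc6 zc1) (kc xc31 yc0 zc37) (kc xc13 yc59 zc6) (kc xc15 yc50 zc12) (kc xc15 yc49 zc50) (kc xc15 yc50 zc17) (kc xc23 yc23 zc9) (kc xc14 yc2 zc10) (kc xc21 yc11 zc41) (kc xc23 yc20 zc44) (kc xc28 yc5 zc42) (kc xc23 yc18 zc55) (kc xc13 yc59 zc21) (kc xc29 yc20 zc36) (kc xc26 yc7 zc32) (kc xc13 yc59 zc24) (kc xc30 yc32 zc37) (kc xc23 yc16 zc25) (kc xc14 yc9 zc51) (kc xc18 yc31 zc37) (kc xc13 yc59 zc27) (kc xc13 yc59 zc28) (kc xc15 yc13 zc23) (kc xc15 yc13 zc16) (kc xc23 yc25 zc51) (kc xc23 yc25 zc52) (kc xc26 yc23 zc10) (kc xc13 yc59 zc37) (kc xc25 yc2 zc4) (kc xc13 yc59 zc39) (kc xc27 yc56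 zc57) (kc xc13 yc59 zc46) (kc xc13 yc59 zc45) (kc xc16 yc6 zc36) (kc xc19 yc56 zc18) (kc xc23 yc25 zc56) (kc xc28 yc2 zc16) (kc xc13 yc59 zc51) (kc xc13 yc59 zc48) (kc xc25 yc2 zc2) (kc xc13 yc59 zc49) (kc xc13 yc59 zc50) (kc xc13 yc59 zc53) (kc xc23 yc19 zc26) (kc xc14 yc9 zc40) (kc xc13 yc59 zc55) (kc xc31 yc6 zc12) (kc xc30 yc36 zc35)) (@D3.rec (fun _ => Pt) (kc xc31 yc6 zc14) (kc xc23 yc25 zc46) (kc xc30 yc14 zc2) (kc xc16 yc34 zc54) (kc xc18 yc20 zc9) (kc xc18 yc19 zc10) (kc xc28 yc28 zc15) (kc xc30 yc32 zc11) (kc xc26 yc17 zc6) (kc xc14 yc0 zc1) (kc xc22 yc31 zc50) (kc xc13 yc59 zc60) (kc xc27 yc18 zc9) (kc xc13 yc59 zc61) (kc xc27 yc18 zc8) (kc xc30 yc53 zc60) (kc xc14 yc0 zc0) (kc xc26 yc16 zc51) (kc xc23 yc32 zc59) (kc xc14 yc0 zc4) (kc xc31 yc6 zc18) (kc xc26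 yc10 zc16) (kc xc16 yc6 zc5) (kc xc26 yc0 zc19) (kc xc18 yc18 zc21) (kc xc18 yc18 zc24) (kc xc14 yc0 zc9) (kc xc25 yc2 zc45) (kc xc23 yc42 zc39) (kc xc18 yc39 zc46) (kc xc22 yc34 zc3) (kc xc22 yc34 zc2) (kc xc14 yc44 zc61) (kc xc18 yc23 zc55) (kc xc21 yc37 zc14) (kc xc23 yc33 zc29) (kc xc25 yc16 zc1) (kc xc20 yc32 zc24) (kc xc31 yc6 zc22) (kc xc14 yc0 zc12) (kc xc19 yc39 zc42) (kc xc23 yc2 zc3) (kc xc25 yc3 zc28) (kc xc31 yc0 zc7) (kc xc14 yc0 zc14) (kc xc17 yc38 zc12) (kc xc19 yc1 zc27) (kc xc14 yc0 zc15) (kc xc30 yc42 zc48) (kc xc27 yc57 zc17) (kc xc31 yc6 zc25) (kc xc14 yc0 zc17) (kc xc23 yc33 zc11) (kc xc23 yc25 zc21) (kc xc31 yc2 zc40) (kc xc23 yc52 zc33) (kc xc22 yc16 zc53) (kc xc15 yc50 zc25) (kc xc21 yc25 zc27) (kc xc23 yc32 zc18) (kc xc14 yc0 zc22) (kc xc25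 yc0 zc50)) (@D3.rec (fun _ => Pt) (kc xc31 yc0 zc36) (kc xc31 yc6 zc32) (kc xc31 yc6 zc34) (kc xc30 yc31 zc43) (kc xc31 yc4 zc55) (kc xc27 yc58 zc2) (kc xc14 yc0 zc26) (kc xc23 yc24 zc45) (kc xc30 yc33 zc43) (kc xc14 yc0 zc28) (kc xc20 yc33 zc26) (kc xc23 yc32 zc52) (kc xc23 yc20 zc24) (kc xc14 yc30 zc32) (kc xc31 yc1 zc10) (kc xc23 yc44 zc54) (kc xc14 yc0 zc36) (kc xc30 yc42 zc38) (kc xc14 yc0 zc37) (kc xc30 yc2 zc1) (kc xc21 yc14 zc14) (kc xc14 yc0 zc48) (kc xc31 yc6 zc40) (kc xc29 yc7 zc7) (kc xc19 yc49 zc9) (kc xc24 yc37 zc31) (kc xc15 yc47 zc33) (kc xc29 yc9 zc7) (kc xc23 yc15 zc55) (kc xc23 yc32 zc35) (kc xc27 yc10 zc7) (kc xc30 yc36 zc9) (kc xc30 yc36 zc8) (kc xc30 yc50 zc13) (kc xc29 yc32 zc26) (kc xc14 yc0 zc58) (kc xc31 yc0 zc15) (kc xc31 yc0 zc16) (kc xc28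 yc28 zc32) (kc xc19 yc0 zc13) (kc xc22 yc42 zc22) (kc xc29 yc29 zc57) (kc xc28 yc0 zc56) (kc xc30 yc5 zc28) (kc xc14 yc1 zc5) (kc xc24 yc31 zc32) (kc xc14 yc1 zc3) (kc xc31 yc6 zc50) (kc xc31 yc6 zc53) (kc xc14 yc1 zc4) (kc xc14 yc1 zc7) (kc xc15 yc13 zc39) (kc xc30 yc45 zc41) (kc xc27 yc38 zc35) (kc xc14 yc1 zc12) (kc xc15 yc11 zc13) (kc xc14 yc22 zc18) (kc xc26 yc12 zc48) (kc xc26 yc12 zc49) (kc xc30 yc39 zc58) (kc xc22 yc9 zc51) (kc xc26 yc14 zc45)) (@D3.rec (fun _ => Pt) (kc xc18 yc10 zc32) (kc xc22 yc9 zc52) (kc xc26 yc16 zc8) (kc xc21 yc5 zc39) (kc xc21 yc5 zc46) (kc xc30 yc37 zc40) (kc xc22 yc15 zc47) (kc xc23 yc16 zc31) (kc xc14 yc1 zc25) (kc xc27 yc58 zc26) (kc xc31 yc7 zc0) (kc xc25 yc15 zc56) (kc xc23 yc21 zc58) (kc xc23 yc21 zc59) (kc xc14 yc14 zc57) (kc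 xc14 yc14 zc58) (kc xc23 yc6 zc57) (kc xc14 yc1 zc32) (kc xc14 yc1 zc29) (kc xc30 yc11 zc56) (kc xc20 yc35 zc18) (kc xc14 yc1 zc30) (kc xc24 yc24 zc44) (kc xc24 yc9 zc55) (kc xc14 yc1 zc31) (kc xc31 yc7 zc2) (kc xc23 yc22 zc7) (kc xc21 yc19 zc11) (kc xc18 yc10 zc11) (kc xc14 yc14 zc15) (kc xc17 yc59 zc18) (kc xc29 yc24 zc41) (kc xc29 yc42 zc28) (kc xc17 yc21 zc49) (kc xc17 yc19 zc12) (kc xc25 yc55 zc27) (kc xc30 yc6 zc59) (kc xc14 yc41 zc34) (kc xc26 yc36 zc4) (kc xc14 yc1 zc51) (kc xc15 yc6 zc6) (kc xc25 yc28 zc49) (kc xc21 yc30 zc43) (kc xc14 yc1 zc53) (kc xc22 yc30 zc46) (kc xc16 yc23 zc46) (kc xc20 yc13 zc25) (kc xc16 yc25 zc13) (kc xc17 yc38 zc58) (kc xc17 yc38 zc59) (kc xc26 yc0 zc24) (kc xc26 yc0 zc25) (kc xc14 yc1 zc59) (kc xc27 yc28 zc47) (kc xc30 yc4 zc14)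 (kc xc14 yc1 zc61) (kc xc26 yc12 zc18) (kc xc14 yc2 zc2) (kc xc24 yc45 zc33) (kc xc14 yc2 zc3) (kc xc16 yc8 zc30) (kc xc21 yc38 zc51)) (@D3.rec (fun _ => Pt) (kc xc14 yc2 zc4) (kc xc30 yc3 zc31) (kc xc14 yc49 zc50) (kc xc22 yc5 zc55) (kc xc29 yc46 zc40) (kc xc29 yc46 zc38) (kc xc31 yc7 zc13) (kc xc20 yc51 zc14) (kc xc31 yc7 zc14) (kc xc31 yc7 zc15) (kc xc15 yc13 zc33) (kc xc23 yc25 zc20) (kc xc22 yc23 zc29) (kc xc18 yc29 zc18) (kc xc20 yc46 zc38) (kc xc30 yc4 zc21) (kc xc14 yc8 zc7) (kc xc14 yc8 zc45) (kc xc15 yc50 zc30) (kc xc20 yc18 zc16) (kc xc18 yc25 zc60) (kc xc21 yc37 zc18) (kc xc14 yc2 zc18) (kc xc29 yc24 zc45) (kc xc24 yc32 zc55) (kc xc26 yc44 zc50) (kc xc17 yc45 zc14) (kc xc26 yc47 zc17) (kc xc14 yc2 zc31) (kc xc16 yc20 zc4) (kc xc16 yc20 zc8) (kc xc27 yc45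 zc11) (kc xc14 yc38 zc23) (kc xc14 yc3 zc25) (kc xc14 yc2 zc35) (kc xc23 yc21 zc49) (kc xc23 yc21 zc42) (kc xc25 yc0 zc12) (kc xc25 yc1 zc57) (kc xc14 yc2 zc40) (kc xc21 yc33 zc59) (kc xc21 yc33 zc60) (kc xc24 yc45 zc11) (kc xc15 yc4 zc12) (kc xc31 yc7 zc21) (kc xc30 yc0 zc29) (kc xc21 yc19 zc9) (kc xc26 yc16 zc50) (kc xc27 yc4 zc55) (kc xc25 yc57 zc6) (kc xc21 yc39 zc25) (kc xc25 yc4 zc1) (kc xc14 yc2 zc48) (kc xc31 yc7 zc24) (kc xc14 yc2 zc49) (kc xc26 yc10 zc56) (kc xc18 yc11 zc11) (kc xc18 yc32 zc39) (kc xc30 yc3 zc39) (kc xc19 yc30 zc53) (kc xc20 yc46 zc37) (kc xc31 yc7 zc28)) (@D3.rec (fun _ => Pt) (kc xc28 yc2 zc41) (kc xc21 yc39 zc43) (kc xc24 yc28 zc6) (kc xc23 yc42 zc9) (kc xc17 yc15 zc59) (kc xc15 yc20 zc49) (kc xc25 yc29 zc23) (kc xc31 yc7 zc29) (kc xc14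 yc3 zc6) (kc xc21 yc39 zc18) (kc xc31 yc7 zc30) (kc xc14 yc3 zc10) (kc xc24 yc43 zc28) (kc xc30 yc6 zc19) (kc xc25 yc34 zc20) (kc xc14 yc3 zc12) (kc xc27 yc24 zc18) (kc xc14 yc3 zc14) (kc xc18 yc37 zc56) (kc xc20 yc13 zc12) (kc xc23 yc9 zc3) (kc xc30 yc16 zc41) (kc xc21 yc24 zc53) (kc xc15 yc48 zc22) (kc xc24 yc35 zc59) (kc xc14 yc3 zc18) (kc xc21 yc27 zc27) (kc xc18 yc37 zc46) (kc xc21 yc51 zc20) (kc xc24 yc42 zc30) (kc xc21 yc14 zc20) (kc xc14 yc3 zc26) (kc xc14 yc3 zc28) (kc xc20 yc47 zc25) (kc xc25 yc55 zc47) (kc xc21 yc39 zc22) (kc xc19 yc38 zc55) (kc xc17 yc44 zc30) (kc xc14 yc49 zc36) (kc xc14 yc3 zc33) (kc xc22 yc36 zc20) (kc xc22 yc15 zc12) (kc xc22 yc15 zc13) (kc xc24 yc55 zc48) (kc xc14 yc3 zc38) (kc xc27 yc32 zc3) (kc xc21 yc4 zc39) (kc xc18 yc16 zc32) (kc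 xc27 yc25 zc59) (kc xc14 yc44 zc58) (kc xc14 yc3 zc45) (kc xc29 yc20 zc27) (kc xc14 yc3 zc46) (kc xc28 yc15 zc27) (kc xc14 yc3 zc49) (kc xc19 yc0 zc14) (kc xc18 yc13 zc13) (kc xc18 yc13 zc14) (kc xc18 yc9 zc41) (kc xc31 yc7 zc45) (kc xc31 yc7 zc41) (kc xc21 yc25 zc50)) (@D3.rec (fun _ => Pt) (kc xc14 yc3 zc53) (kc xc18 yc59 zc4) (kc xc26 yc19 zc14) (kc xc27 yc29 zc1) (kc xc31 yc4 zc27) (kc xc31 yc5 zc10) (kc xc14 yc3 zc57) (kc xc25 yc46 zc34) (kc xc18 yc48 zc3) (kc xc31 yc0 zc42) (kc xc22 yc5 zc27) (kc xc31 yc0 zc41) (kc xc14 yc3 zc60) (kc xc30 yc42 zc43) (kc xc23 yc44 zc24) (kc xc14 yc4 zc2) (kc xc14 yc4 zc1) (kc xc31 yc7 zc55) (kc xc30 yc59 zc41) (kc xc21 yc41 zc23) (kc xc23 yc44 zc25) (kc xc14 yc4 zc6) (kc xc14 yc4 zc5) (kc xc24 yc59 zc20) (kc xc14 yc4 zc7) (kc xc31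 yc2 zc44) (kc xc23 yc18 zc41) (kc xc14 yc4 zc8) (kc xc30 yc18 zc14) (kc xc30 yc42 zc27) (kc xc30 yc42 zc28) (kc xc25 yc39 zc20) (kc xc17 yc2 zc42) (kc xc30 yc51 zc56) (kc xc28 yc1 zc13) (kc xc21 yc56 zc34) (kc xc18 yc35 zc0) (kc xc27 yc20 zc22) (kc xc14 yc4 zc16) (kc xc21 yc37 zc60) (kc xc20 yc17 zc37) (kc xc27 yc57 zc28) (kc xc25 yc3 zc58) (kc xc31 yc8 zc7) (kc xc25 yc46 zc37) (kc xc20 yc54 zc18) (kc xc22 yc28 zc38) (kc xc26 yc14 zc22) (kc xc30 yc3 zc29) (kc xc31 yc0 zc55) (kc xc30 yc11 zc23) (kc xc21 yc37 zc1) (kc xc14 yc46 zc20) (kc xc14 yc4 zc32) (kc xc22 yc30 zc15) (kc xc31 yc8 zc15) (kc xc31 yc8 zc16) (kc xc28 yc31 zc50) (kc xc31 yc8 zc19) (kc xc31 yc8 zc20) (kc xc14 yc4 zc37) (kc xc26 yc15 zc37)) (@D3.rec (fun _ => Pt) (kc xc17 yc55 zc47) (kc xc17 yc19 zc13)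 (kc xc24 yc20 zc18) (kc xc22 yc2 zc54) (kc xc20 yc27 zc46) (kc xc23 yc3 zc47) (kc xc17 yc11 zc44) (kc xc14 yc4 zc53) (kc xc19 yc20 zc16) (kc xc26 yc55 zc14) (kc xc14 yc11 zc8) (kc xc31 yc8 zc21) (kc xc31 yc8 zc22) (kc xc23 yc44 zc23) (kc xc26 yc47 zc23) (kc xc23 yc10 zc56) (kc xc31 yc8 zc23) (kc xc30 yc12 zc54) (kc xc31 yc8 zc24) (kc xc28 yc11 zc45) (kc xc14 yc5 zc6) (kc xc31 yc2 zc13) (kc xc23 yc41 zc57) (kc xc31 yc5 zc21) (kc xc21 yc14 zc32) (kc xc21 yc14 zc30) (kc xc16 yc25 zc7) (kc xc31 yc8 zc29) (kc xc14 yc5 zc17) (kc xc27 yc58 zc7) (kc xc31 yc8 zc36) (kc xc23 yc26 zc11) (kc xc14 yc5 zc20) (kc xc31 yc8 zc39) (kc xc14 yc5 zc22) (kc xc31 yc8 zc43) (kc xc31 yc2 zc2) (kc xc14 yc5 zc23) (kc xc19 yc55 zc18) (kc xc14 yc7 zc28) (kc xc14 yc7 zc29) (kc xc14 yc5 zc52) (kc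 xc23 yc26 zc7) (kc xc14 yc5 zc25) (kc xc30 yc52 zc50) (kc xc27 yc36 zc23) (kc xc29 yc18 zc25) (kc xc29 yc59 zc27) (kc xc29 yc16 zc39) (kc xc25 yc14 zc22) (kc xc29 yc4 zc8) (kc xc20 yc47 zc30) (kc xc24 yc28 zc11) (kc xc14 yc5 zc28) (kc xc31 yc9 zc3) (kc xc14 yc5 zc29) (kc xc31 yc6 zc17) (kc xc23 yc17 zc3) (kc xc23 yc27 zc15) (kc xc29 yc4 zc22) (kc xc14 yc7 zc8) (kc xc14 yc7 zc9)) (@D3.rec (fun _ => Pt) (kc xc23 yc40 zc51) (kc xc27 yc41 zc18) (kc xc14 yc5 zc34) (kc xc31 yc9 zc11) (kc xc31 yc9 zc12) (kc xc26 yc48 zc4) (kc xc31 yc9 zc14) (kc xc31 yc9 zc15) (kc xc28 yc24 zc44) (kc xc28 yc41 zc37) (kc xc14 yc5 zc40) (kc xc25 yc30 zc14) (kc xc25 yc29 zc61) (kc xc29 yc56 zc35) (kc xc23 yc59 zc28) (kc xc14 yc5 zc41) (kc xc23 yc41 zc6) (kc xc23 yc41 zc11) (kc xc14 yc5 zc44) (kc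 xc30 yc41 zc56) (kc xc25 yc14 zc52) (kc xc24 yc37 zc12) (kc xc31 yc9 zc22) (kc xc28 yc49 zc41) (kc xc25 yc39 zc15) (kc xc31 yc9 zc29) (kc xc31 yc9 zc30) (kc xc29 yc4 zc37) (kc xc14 yc5 zc48) (kc xc31 yc9 zc34) (kc xc29 yc36 zc22) (kc xc26 yc46 zc18) (kc xc20 yc49 zc46) (kc xc31 yc9 zc39) (kc xc14 yc7 zc13) (kc xc14 yc7 zc14) (kc xc31 yc9 zc45) (kc xc30 yc41 zc19) (kc xc23 yc41 zc22) (kc xc31 yc9 zc52) (kc xc31 yc8 zc56) (kc xc14 yc52 zc58) (kc xc14 yc5 zc55) (kc xc31 yc5 zc50) (kc xc31 yc5 zc51) (kc xc14 yc5 zc56) (kc xc31 yc10 zc1) (kc xc31 yc9 zc61) (kc xc14 yc5 zc58) (kc xc27 yc17 zc50) (kc xc21 yc17 zc14) (kc xc25 yc30 zc13) (kc xc30 yc41 zc55) (kc xc23 yc5 zc44) (kc xc24 yc16 zc29) (kc xc14 yc6 zc2) (kc xc29 yc51 zc15) (kc xc14 yc6 zc4) (kc xc14 yc6 zc5) (kc xc31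 yc10 zc8) (kc xc26 yc49 zc11) (kc xc29 yc57 zc48)) (@D3.rec (fun _ => Pt) (kc xc14 yc6 zc6) (kc xc29 yc51 zc16) (kc xc14 yc6 zc9) (kc xc31 yc10 zc10) (kc xc31 yc7 zc48) (kc xc30 yc41 zc42) (kc xc14 yc20 zc50) (kc xc21 yc48 zc45) (kc xc16 yc46 zc17) (kc xc31 yc10 zc15) (kc xc15 yc49 zc51) (kc xc21 yc19 zc25) (kc xc18 yc28 zc14) (kc xc31 yc10 zc16) (kc xc22 yc44 zc11) (kc xc31 yc10 zc18) (kc xc29 yc10 zc3) (kc xc14 yc6 zc20) (kc xc14 yc6 zc22) (kc xc31 yc10 zc21) (kc xc30 yc9 zc60) (kc xc14 yc12 zc59) (kc xc29 yc15 zc42) (kc xc29 yc15 zc33) (kc xc30 yc10 zc1) (kc xc17 yc55 zc57) (kc xc14 yc6 zc29) (kc xc30 yc1 zc29) (kc xc23 yc29 zc33) (kc xc23 yc29 zc32) (kc xc23 yc41 zc18) (kc xc14 yc6 zc31) (kc xc16 yc50 zc22) (kc xc18 yc40 zc27) (kc xc26 yc47 zc15) (kc xc23 yc51 zc36)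 (kc xc16 yc10 zc35) (kc xc14 yc6 zc35) (kc xc17 yc23 zc17) (kc xc28 yc26 zc11) (kc xc14 yc6 zc39) (kc xc16 yc10 zc52) (kc xc14 yc6 zc40) (kc xc31 yc10 zc32) (kc xc16 yc7 zc47) (kc xc29 yc15 zc41) (kc xc14 yc6 zc44) (kc xc29 yc15 zc40) (kc xc31 yc10 zc35) (kc xc31 yc10 zc37) (kc xc14 yc6 zc45) (kc xc23 yc39 zc0) (kc xc29 yc15 zc23) (kc xc14 yc12 zc45) (kc xc31 yc10 zc40) (kc xc20 yc44 zc21) (kc xc14 yc6 zc52) (kc xc31 yc10 zc41) (kc xc17 yc0 zc6) (kc xc31 yc3 zc57) (kc xc31 yc10 zc43) (kc xc14 yc6 zc53)) (@D3.rec (fun _ => Pt) (kc xc30 yc1 zc37) (kc xc29 yc35 zc50) (kc xc14 yc6 zc57) (kc xc31 yc3 zc31) (kc xc14 yc6 zc56) (kc xc31 yc10 zc49) (kc xc23 yc39 zc16) (kc xc22 yc21 zc21) (kc xc31 yc10 zc50) (kc xc14 yc6 zc61) (kc xc14 yc6 zc60) (kc xc23 yc39 zc17) (kc xc14 yc7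 zc0) (kc xc27 yc23 zc33) (kc xc30 yc41 zc12) (kc xc14 yc7 zc1) (kc xc23 yc45 zc34) (kc xc31 yc10 zc55) (kc xc23 yc40 zc30) (kc xc14 yc7 zc15) (kc xc23 yc56 zc34) (kc xc14 yc7 zc3) (kc xc23 yc39 zc38) (kc xc31 yc10 zc60) (kc xc26 yc46 zc56) (kc xc14 yc7 zc5) (kc xc14 yc7 zc6) (kc xc27 yc18 zc3) (kc xc31 yc10 zc61) (kc xc31 yc9 zc9) (kc xc27 yc48 zc23) (kc xc30 yc1 zc30) (kc xc16 yc47 zc30) (kc xc14 yc7 zc11) (kc xc31 yc11 zc4) (kc xc14 yc7 zc12) (kc xc31 yc11 zc7) (kc xc31 yc4 zc31) (kc xc25 yc57 zc53) (kc xc31 yc9 zc42) (kc xc19 yc45 zc35) (kc xc19 yc45 zc15) (kc xc25 yc30 zc50) (kc xc31 yc11 zc14) (kc xc30 yc1 zc36) (kc xc31 yc11 zc16) (kc xc29 yc5 zc19) (kc xc14 yc32 zc40) (kc xc14 yc7 zc18) (kc xc31 yc9 zc55) (kc xc31 yc9 zc56) (kc xc23 yc14 zc12) (kc xc14 yc7 zc24)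 (kc xc14 yc7 zc26) (kc xc31 yc11 zc21) (kc xc30 yc41 zc13) (kc xc31 yc8 zc51) (kc xc23 yc38 zc22) (kc xc23 yc22 zc55) (kc xc14 yc7 zc38) (kc xc23 yc29 zc49) (kc xc31 yc11 zc23)) (@D3.rec (fun _ => Pt) (kc xc22 yc43 zc14) (kc xc22 yc44 zc4) (kc xc14 yc7 zc36) (kc xc14 yc7 zc37) (kc xc31 yc11 zc25) (kc xc22 yc44 zc7) (kc xc25 yc45 zc40) (kc xc25 yc45 zc39) (kc xc31 yc11 zc26) (kc xc23 yc36 zc3) (kc xc14 yc7 zc43) (kc xc15 yc59 zc38) (kc xc31 yc11 zc27) (kc xc22 yc37 zc8) (kc xc14 yc7 zc44) (kc xc15 yc47 zc3) (kc xc31 yc11 zc28) (kc xc25 yc31 zc26) (kc xc25 yc31 zc25) (kc xc14 yc7 zc45) (kc xc29 yc0 zc16) (kc xc14 yc54 zc42) (kc xc21 yc42 zc32) (kc xc25 yc47 zc10) (kc xc20 yc50 zc6) (kc xc14 yc7 zc57) (kc xc17 yc13 zc24) (kc xc29 yc20 zc13) (kc xc16 yc34 zc50) (kc xc14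 yc8 zc4) (kc xc17 yc21 zc53) (kc xc28 yc18 zc54) (kc xc14 yc8 zc34) (kc xc18 yc50 zc35) (kc xc20 yc14 zc0) (kc xc18 yc29 zc6) (kc xc14 yc8 zc10) (kc xc14 yc8 zc11) (kc xc16 yc10 zc53) (kc xc23 yc32 zc28) (kc xc16 yc11 zc34) (kc xc14 yc8 zc13) (kc xc23 yc1 zc45) (kc xc20 yc17 zc38) (kc xc21 yc9 zc33) (kc xc30 yc51 zc52) (kc xc14 yc8 zc18) (kc xc21 yc34 zc6) (kc xc14 yc8 zc19) (kc xc23 yc26 zc39) (kc xc14 yc9 zc28) (kc xc25 yc46 zc36) (kc xc31 yc11 zc31) (kc xc15 yc12 zc15) (kc xc26 yc22 zc51) (kc xc16 yc12 zc14) (kc xc22 yc29 zc1) (kc xc16 yc12 zc11) (kc xc21 yc14 zc51) (kc xc21 yc14 zc53) (kc xc30 yc42 zc3) (kc xc23 yc3 zc23)) (@D3.rec (fun _ => Pt) (kc xc16 yc29 zc31) (kc xc17 yc2 zc43) (kc xc14 yc8 zc30) (kc xc14 yc8 zc33) (kc xc31 yc11 zc35) (kc xc14 yc8 zc35) (kc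 xc31 yc11 zc37) (kc xc14 yc8 zc37) (kc xc24 yc37 zc16) (kc xc26 yc18 zc42) (kc xc14 yc8 zc39) (kc xc15 yc13 zc54) (kc xc27 yc50 zc32) (kc xc16 yc25 zc42) (kc xc15 yc6 zc18) (kc xc14 yc59 zc40) (kc xc16 yc23 zc34) (kc xc14 yc8 zc43) (kc xc31 yc11 zc43) (kc xc30 yc1 zc12) (kc xc22 yc5 zc34) (kc xc31 yc11 zc42) (kc xc18 yc41 zc11) (kc xc31 yc11 zc45) (kc xc18 yc41 zc10) (kc xc27 yc44 zc31) (kc xc15 yc12 zc55) (kc xc15 yc13 zc50) (kc xc15 yc13 zc49) (kc xc16 yc35 zc57) (kc xc14 yc8 zc47) (kc xc21 yc37 zc61) (kc xc23 yc54 zc57) (kc xc14 yc8 zc50) (kc xc31 yc11 zc49) (kc xc14 yc8 zc51) (kc xc31 yc11 zc51) (kc xc31 yc11 zc52) (kc xc14 yc8 zc53) (kc xc31 yc11 zc54) (kc xc14 yc8 zc54) (kc xc26 yc3 zc33) (kc xc23 yc45 zc11) (kc xc14 yc8 zc60) (kc xc31 yc11 zc57) (kc xc14 yc8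 zc56) (kc xc18 yc3 zc8) (kc xc31 yc11 zc44) (kc xc23 yc53 zc23) (kc xc14 yc8 zc58) (kc xc30 yc33 zc59) (kc xc29 yc15 zc9) (kc xc14 yc8 zc59) (kc xc31 yc4 zc32) (kc xc29 yc10 zc11) (kc xc30 yc51 zc60) (kc xc28 yc36 zc49) (kc xc22 yc12 zc25) (kc xc19 yc47 zc48) (kc xc27 yc28 zc33) (kc xc14 yc9 zc3) (kc xc19 yc55 zc34)) (@D3.rec (fun _ => Pt) (kc xc14 yc9 zc0) (kc xc14 yc9 zc1) (kc xc25 yc3 zc60) (kc xc14 yc9 zc2) (kc xc27 yc37 zc24) (kc xc23 yc16 zc51) (kc xc26 yc7 zc48) (kc xc29 yc55 zc27) (kc xc28 yc12 zc37) (kc xc26 yc8 zc40) (kc xc16 yc12 zc20) (kc xc30 yc22 zc54) (kc xc22 yc42 zc14) (kc xc23 yc6 zc15) (kc xc16 yc20 zc28) (kc xc21 yc55 zc48) (kc xc21 yc8 zc41) (kc xc15 yc35 zc45) (kc xc14 yc9 zc16) (kc xc14 yc9 zc14) (kc xc14 yc9 zc15) (kc xc14 yc9 zc17) (kc xc21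 yc56 zc48) (kc xc23 yc38 zc13) (kc xc23 yc37 zc14) (kc xc23 yc37 zc20) (kc xc21 yc55 zc57) (kc xc17 yc55 zc54) (kc xc21 yc34 zc43) (kc xc29 yc58 zc47) (kc xc22 yc12 zc15) (kc xc22 yc12 zc16) (kc xc14 yc9 zc27) (kc xc18 yc29 zc53) (kc xc21 yc56 zc31) (kc xc21 yc55 zc47) (kc xc22 yc45 zc52) (kc xc30 yc48 zc32) (kc xc14 yc9 zc32) (kc xc22 yc45 zc31) (kc xc23 yc45 zc2) (kc xc28 yc26 zc7) (kc xc28 yc26 zc6) (kc xc29 yc30 zc7) (kc xc15 yc50 zc26) (kc xc23 yc1 zc57) (kc xc23 yc1 zc58) (kc xc15 yc50 zc31) (kc xc21 yc56 zc18) (kc xc21 yc56 zc56) (kc xc30 yc13 zc45) (kc xc29 yc12 zc20) (kc xc19 yc54 zc18) (kc xc19 yc54 zc19) (kc xc23 yc33 zc15) (kc xc28 yc27 zc14) (kc xc31 yc0 zc54) (kc xc18 yc29 zc16) (kc xc18 yc29 zc26) (kc xc28 yc3 zc30) (kc xc23 yc17 zc39) (kc xc14 yc9 zc55))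 (@D3.rec (fun _ => Pt) (kc xc22 yc28 zc29) (kc xc22 yc28 zc30) (kc xc23 yc44 zc40) (kc xc14 yc10 zc12) (kc xc14 yc9 zc60) (kc xc27 yc28 zc26) (kc xc14 yc9 zc58) (kc xc15 yc10 zc46) (kc xc14 yc10 zc0) (kc xc23 yc15 zc26) (kc xc30 yc58 zc50) (kc xc23 yc43 zc42) (kc xc14 yc10 zc3) (kc xc23 yc17 zc26) (kc xc14 yc10 zc4) (kc xc14 yc10 zc9) (kc xc14 yc10 zc6) (kc xc30 yc7 zc22) (kc xc30 yc7 zc23) (kc xc31 yc12 zc24) (kc xc24 yc27 zc20) (kc xc14 yc10 zc8) (kc xc23 yc14 zc33) (kc xc23 yc18 zc20) (kc xc30 yc58 zc42) (kc xc14 yc10 zc11) (kc xc18 yc26 zc48) (kc xc19 yc27 zc29) (kc xc19 yc9 zc41) (kc xc14 yc10 zc16) (kc xc24 yc11 zc31) (kc xc19 yc15 zc55) (kc xc14 yc10 zc19) (kc xc29 yc44 zc6) (kc xc23 yc41 zc16) (kc xc30 yc28 zc32) (kc xc14 yc10 zc23) (kc xc14 yc10 zc22) (kc xc28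 yc52 zc29) (kc xc29 yc55 zc48) (kc xc14 yc10 zc25) (kc xc17 yc2 zc0) (kc xc26 yc35 zc6) (kc xc14 yc10 zc26) (kc xc31 yc12 zc37) (kc xc22 yc25 zc48) (kc xc14 yc10 zc27) (kc xc21 yc59 zc59) (kc xc26 yc57 zc23) (kc xc26 yc57 zc22) (kc xc30 yc25 zc38) (kc xc14 yc10 zc29) (kc xc16 yc40 zc23) (kc xc19 yc47 zc23) (kc xc20 yc56 zc12) (kc xc20 yc56 zc13) (kc xc14 yc10 zc32) (kc xc29 yc44 zc40) (kc xc30 yc31 zc26) (kc xc20 yc24 zc18) (kc xc26 yc33 zc43) (kc xc26 yc33 zc38)) (@D3.rec (fun _ => Pt) (kc xc26 yc33 zc42) (kc xc14 yc28 zc48) (kc xc20 yc48 zc9) (kc xc22 yc25 zc30) (kc xc22 yc25 zc29) (kc xc14 yc10 zc40) (kc xc31 yc12 zc49) (kc xc20 yc44 zc45) (kc xc22 yc0 zc55) (kc xc14 yc10 zc42) (kc xc26 yc51 zc38) (kc xc24 yc21 zc21) (kc xc24 yc21 zc22) (kc xc20 yc48 zc45) (kc xc14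 yc33 zc51) (kc xc14 yc24 zc30) (kc xc14 yc32 zc21) (kc xc23 yc13 zc57) (kc xc18 yc40 zc12) (kc xc14 yc10 zc49) (kc xc23 yc19 zc22) (kc xc23 yc19 zc28) (kc xc30 yc58 zc32) (kc xc14 yc10 zc51) (kc xc20 yc30 zc55) (kc xc16 yc55 zc9) (kc xc31 yc12 zc56) (kc xc27 yc55 zc60) (kc xc18 yc57 zc1) (kc xc29 yc2 zc15) (kc xc23 yc48 zc58) (kc xc14 yc10 zc58) (kc xc30 yc31 zc14) (kc xc23 yc28 zc20) (kc xc25 yc24 zc59) (kc xc30 yc18 zc44) (kc xc31 yc0 zc12) (kc xc25 yc34 zc21) (kc xc25 yc34 zc23) (kc xc14 yc11 zc13) (kc xc14 yc11 zc6) (kc xc19 yc39 zc48) (kc xc14 yc11 zc7) (kc xc14 yc11 zc9) (kc xc22 yc47 zc28) (kc xc14 yc11 zc10) (kc xc24 yc57 zc7) (kc xc29 yc50 zc38) (kc xc31 yc13 zc0) (kc xc31 yc13 zc1) (kc xc28 yc16 zc4) (kc xc28 yc56 zc42) (kc xc14 yc11 zc18) (kc xc21 yc53 zc18)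 (kc xc14 yc11 zc19) (kc xc14 yc11 zc22) (kc xc18 yc40 zc36) (kc xc24 yc45 zc26) (kc xc14 yc11 zc23) (kc xc26 yc7 zc47) (kc xc24 yc59 zc56) (kc xc14 yc11 zc25)) (@D3.rec (fun _ => Pt) (kc xc20 yc22 zc3) (kc xc21 yc49 zc35) (kc xc21 yc44 zc37) (kc xc30 yc48 zc45) (kc xc14 yc11 zc40) (kc xc30 yc38 zc1) (kc xc30 yc8 zc20) (kc xc14 yc11 zc41) (kc xc14 yc25 zc28) (kc xc28 yc25 zc13) (kc xc31 yc13 zc7) (kc xc14 yc11 zc42) (kc xc14 yc11 zc43) (kc xc17 yc10 zc53) (kc xc17 yc10 zc52) (kc xc19 yc30 zc24) (kc xc17 yc17 zc27) (kc xc17 yc58 zc12) (kc xc17 yc52 zc10) (kc xc31 yc13 zc12) (kc xc29 yc30 zc32) (kc xc30 yc39 zc29) (kc xc14 yc12 zc3) (kc xc14 yc12 zc2) (kc xc28 yc43 zc10) (kc xc29 yc40 zc46) (kc xc16 yc50 zc59) (kc xc14 yc24 zc53) (kc xc14 yc12 zc7) (kc xc31 yc13 zc18)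 (kc xc14 yc12 zc14) (kc xc14 yc24 zc52) (kc xc31 yc13 zc20) (kc xc14 yc12 zc9) (kc xc25 yc51 zc6) (kc xc14 yc12 zc17) (kc xc18 yc24 zc56) (kc xc16 yc59 zc56) (kc xc16 yc52 zc11) (kc xc31 yc13 zc21) (kc xc14 yc12 zc24) (kc xc14 yc12 zc26) (kc xc31 yc13 zc24) (kc xc14 yc12 zc32) (kc xc30 yc53 zc18) (kc xc21 yc53 zc2) (kc xc22 yc32 zc6) (kc xc16 yc30 zc43) (kc xc14 yc12 zc37) (kc xc20 yc14 zc31) (kc xc20 yc56 zc34) (kc xc14 yc12 zc40) (kc xc29 yc22 zc9) (kc xc21 yc51 zc60) (kc xc22 yc36 zc56) (kc xc14 yc33 zc52) (kc xc21 yc51 zc25) (kc xc14 yc12 zc46) (kc xc30 yc9 zc11) (kc xc28 yc52 zc56) (kc xc14 yc12 zc48) (kc xc30 yc38 zc4)) (@D3.rec (fun _ => Pt) (kc xc17 yc18 zc15) (kc xc17 yc18 zc14) (kc xc14 yc12 zc56) (kc xc19 yc23 zc0) (kc xc26 yc53 zc47) (kc xc14 yc12 zc55)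 (kc xc28 yc18 zc56) (kc xc14 yc12 zc57) (kc xc16 yc58 zc17) (kc xc14 yc12 zc58) (kc xc19 yc11 zc53) (kc xc15 yc8 zc51) (kc xc14 yc12 zc60) (kc xc31 yc13 zc39) (kc xc14 yc12 zc61) (kc xc29 yc36 zc33) (kc xc31 yc13 zc42) (kc xc30 yc20 zc45) (kc xc14 yc13 zc12) (kc xc30 yc9 zc58) (kc xc14 yc13 zc1) (kc xc30 yc32 zc19) (kc xc24 yc57 zc24) (kc xc14 yc13 zc2) (kc xc28 yc43 zc18) (kc xc14 yc13 zc4) (kc xc31 yc13 zc46) (kc xc17 yc11 zc5) (kc xc24 yc24 zc45) (kc xc14 yc29 zc60) (kc xc31 yc13 zc33) (kc xc23 yc4 zc2) (kc xc14 yc13 zc9) (kc xc30 yc21 zc18) (kc xc14 yc13 zc10) (kc xc29 yc8 zc50) (kc xc30 yc54 zc23) (kc xc30 yc38 zc35) (kc xc28 yc53 zc28) (kc xc20 yc59 zc52) (kc xc29 yc3 zc15) (kc xc29 yc28 zc6) (kc xc14 yc13 zc14) (kc xc30 yc37 zc51) (kc xc30 yc37 zc52) (kc xc30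 yc36 zc34) (kc xc24 yc2 zc1) (kc xc24 yc6 zc9) (kc xc22 yc29 zc48) (kc xc29 yc35 zc38) (kc xc14 yc49 zc28) (kc xc24 yc6 zc61) (kc xc30 yc32 zc17) (kc xc22 yc7 zc17) (kc xc14 yc13 zc21) (kc xc31 yc13 zc53) (kc xc14 yc13 zc22) (kc xc30 yc5 zc46) (kc xc23 yc46 zc30) (kc xc27 yc2 zc25) (kc xc14 yc13 zc24) (kc xc14 yc13 zc33)) (@D3.rec (fun _ => Pt) (kc xc14 yc13 zc32) (kc xc31 yc13 zc60) (kc xc22 yc32 zc17) (kc xc31 yc12 zc32) (kc xc18 yc30 zc20) (kc xc31 yc13 zc61) (kc xc15 yc36 zc5) (kc xc14 yc13 zc35) (kc xc29 yc44 zc42) (kc xc31 yc14 zc1) (kc xc14 yc13 zc41) (kc xc26 yc35 zc31) (kc xc31 yc14 zc2) (kc xc31 yc14 zc3) (kc xc29 yc47 zc27) (kc xc30 yc11 zc57) (kc xc29 yc47 zc23) (kc xc14 yc13 zc46) (kc xc31 yc14 zc8) (kc xc14 yc13 zc48) (kc xc31 yc14 zc9) (kc xc22 yc11 zc18)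 (kc xc23 yc57 zc54) (kc xc14 yc13 zc54) (kc xc31 yc14 zc10) (kc xc29 yc14 zc26) (kc xc14 yc13 zc53) (kc xc29 yc13 zc23) (kc xc19 yc18 zc22) (kc xc14 yc13 zc55) (kc xc31 yc14 zc12) (kc xc28 yc46 zc46) (kc xc14 yc13 zc57) (kc xc31 yc14 zc14) (kc xc29 yc13 zc1) (kc xc31 yc14 zc15) (kc xc23 yc24 zc10) (kc xc27 yc32 zc40) (kc xc27 yc32 zc42) (kc xc27 yc52 zc23) (kc xc27 yc50 zc40) (kc xc27 yc54 zc4) (kc xc26 yc39 zc32) (kc xc27 yc55 zc39) (kc xc29 yc39 zc12) (kc xc17 yc31 zc4) (kc xc14 yc14 zc6) (kc xc27 yc20 zc23) (kc xc14 yc14 zc8) (kc xc31 yc14 zc19) (kc xc14 yc14 zc9) (kc xc21 yc7 zc53) (kc xc22 yc36 zc17) (kc xc22 yc36 zc18) (kc xc27 yc54 zc2) (kc xc14 yc14 zc11) (kc xc16 yc8 zc35) (kc xc18 yc3 zc28) (kc xc24 yc11 zc23) (kc xc26 yc10 zc60) (kc xc27 yc53 zc47) (kc xc30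 yc26 zc18)) (@D3.rec (fun _ => Pt) (kc xc28 yc7 zc9) (kc xc14 yc14 zc17) (kc xc18 yc9 zc26) (kc xc22 yc36 zc43) (kc xc14 yc14 zc19) (kc xc27 yc29 zc41) (kc xc14 yc14 zc22) (kc xc18 yc11 zc43) (kc xc25 yc17 zc20) (kc xc28 yc4 zc61) (kc xc28 yc4 zc60) (kc xc14 yc14 zc26) (kc xc26 yc15 zc61) (kc xc19 yc15 zc30) (kc xc31 yc14 zc28) (kc xc14 yc14 zc27) (kc xc28 yc7 zc34) (kc xc14 yc14 zc29) (kc xc22 yc8 zc50) (kc xc30 yc19 zc41) (kc xc17 yc30 zc53) (kc xc28 yc4 zc9) (kc xc17 yc30 zc58) (kc xc21 yc32 zc12) (kc xc21 yc32 zc11) (kc xc19 yc1 zc24) (kc xc14 yc14 zc34) (kc xc14 yc14 zc35) (kc xc28 yc25 zc38) (kc xc14 yc14 zc37) (kc xc14 yc14 zc38) (kc xc27 yc52 zc40) (kc xc22 yc14 zc59) (kc xc14 yc14 zc43) (kc xc19 yc1 zc22) (kc xc14 yc14 zc40) (kc xc28 yc7 zc35) (kc xc27 yc32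 zc26) (kc xc28 yc25 zc39) (kc xc24 yc12 zc54) (kc xc14 yc14 zc42) (kc xc22 yc47 zc26) (kc xc31 yc14 zc44) (kc xc27 yc52 zc24) (kc xc31 yc14 zc42) (kc xc31 yc7 zc39) (kc xc14 yc14 zc47) (kc xc16 yc8 zc34) (kc xc14 yc14 zc45) (kc xc21 yc5 zc32) (kc xc21 yc5 zc31) (kc xc14 yc14 zc48) (kc xc14 yc14 zc49) (kc xc31 yc14 zc49) (kc xc14 yc14 zc55) (kc xc29 yc12 zc10) (kc xc14 yc14 zc52) (kc xc31 yc14 zc60) (kc xc31 yc14 zc61) (kc xc31 yc14 zc59) (kc xc16 yc37 zc21) (kc xc28 yc25 zc43)) (@D3.rec (fun _ => Pt) (kc xc28 yc25 zc47) (kc xc28 yc9 zc28) (kc xc31 yc14 zc54) (kc xc22 yc35 zc18) (kc xc22 yc35 zc19) (kc xc30 yc35 zc35) (kc xc14 yc14 zc60) (kc xc30 yc22 zc28) (kc xc28 yc6 zc30) (kc xc24 yc47 zc32) (kc xc31 yc7 zc1) (kc xc31 yc1 zc50) (kc xc14 yc14 zc59) (kc xc30 yc28 zc49)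 (kc xc14 yc15 zc0) (kc xc31 yc15 zc3) (kc xc14 yc15 zc4) (kc xc14 yc15 zc3) (kc xc31 yc15 zc10) (kc xc31 yc15 zc13) (kc xc31 yc15 zc9) (kc xc18 yc58 zc29) (kc xc28 yc9 zc27) (kc xc31 yc15 zc6) (kc xc31 yc15 zc7) (kc xc22 yc36 zc22) (kc xc18 yc49 zc59) (kc xc22 yc34 zc57) (kc xc14 yc15 zc9) (kc xc24 yc46 zc11) (kc xc14 yc15 zc6) (kc xc31 yc15 zc16) (kc xc31 yc15 zc18) (kc xc31 yc15 zc19) (kc xc14 yc15 zc8) (kc xc31 yc13 zc15) (kc xc23 yc40 zc35) (kc xc23 yc51 zc57) (kc xc14 yc15 zc12) (kc xc19 yc0 zc12) (kc xc14 yc15 zc11) (kc xc31 yc15 zc27) (kc xc31 yc15 zc31) (kc xc29 yc20 zc28) (kc xc31 yc15 zc32) (kc xc31 yc15 zc24) (kc xc31 yc15 zc25) (kc xc19 yc15 zc35) (kc xc19 yc15 zc24) (kc xc16 yc9 zc7) (kc xc14 yc15 zc16) (kc xc26 yc11 zc9) (kc xc14 yc15 zc15) (kc xc28 yc17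 zc59) (kc xc24 yc15 zc31) (kc xc27 yc28 zc2) (kc xc15 yc12 zc14) (kc xc23 yc51 zc37) (kc xc18 yc33 zc16) (kc xc14 yc15 zc25) (kc xc28 yc28 zc0) (kc xc14 yc15 zc26)) (@D3.rec (fun _ => Pt) (kc xc27 yc45 zc57) (kc xc28 yc15 zc17) (kc xc24 yc13 zc60) (kc xc19 yc21 zc11) (kc xc19 yc21 zc27) (kc xc14 yc15 zc29) (kc xc14 yc15 zc30) (kc xc23 yc23 zc53) (kc xc23 yc23 zc54) (kc xc18 yc20 zc60) (kc xc14 yc15 zc33) (kc xc22 yc10 zc61) (kc xc30 yc7 zc38) (kc xc28 yc28 zc33) (kc xc14 yc15 zc34) (kc xc28 yc28 zc35) (kc xc22 yc22 zc21) (kc xc14 yc15 zc37) (kc xc22 yc23 zc32) (kc xc27 yc47 zc10) (kc xc16 yc18 zc16) (kc xc31 yc13 zc48) (kc xc22 yc58 zc0) (kc xc14 yc15 zc41) (kc xc24 yc31 zc14) (kc xc22 yc58 zc1) (kc xc14 yc15 zc45) (kc xc28 yc0 zc53) (kc xc14 yc15 zc47) (kc xc20 yc31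 zc45) (kc xc14 yc15 zc51) (kc xc28 yc14 zc53) (kc xc30 yc2 zc5) (kc xc23 yc32 zc55) (kc xc30 yc57 zc54) (kc xc23 yc16 zc33) (kc xc30 yc39 zc54) (kc xc26 yc7 zc40) (kc xc14 yc15 zc58) (kc xc31 yc15 zc43) (kc xc22 yc41 zc40) (kc xc22 yc41 zc41) (kc xc30 yc35 zc57) (kc xc30 yc35 zc58) (kc xc14 yc15 zc61) (kc xc22 yc37 zc36) (kc xc30 yc20 zc43) (kc xc14 yc16 zc3) (kc xc26 yc43 zc9) (kc xc14 yc16 zc4) (kc xc30 yc47 zc16) (kc xc29 yc55 zc0) (kc xc29 yc55 zc6) (kc xc28 yc26 zc40) (kc xc29 yc54 zc47) (kc xc14 yc16 zc6) (kc xc28 yc55 zc0) (kc xc15 yc58 zc46) (kc xc28 yc25 zc60) (kc xc20 yc45 zc59) (kc xc20 yc45 zc60) (kc xc14 yc16 zc11)) (@D3.rec (fun _ => Pt) (kc xc14 yc16 zc10) (kc xc23 yc57 zc29) (kc xc14 yc16 zc12) (kc xc14 yc26 zc12) (kc xc14 yc16 zc13) (kc xc24 yc18 zc41)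 (kc xc14 yc16 zc15) (kc xc28 yc35 zc21) (kc xc28 yc56 zc19) (kc xc14 yc16 zc17) (kc xc19 yc33 zc26) (kc xc28 yc56 zc27) (kc xc14 yc16 zc20) (kc xc14 yc16 zc19) (kc xc23 yc7 zc0) (kc xc22 yc12 zc31) (kc xc28 yc35 zc35) (kc xc14 yc16 zc21) (kc xc29 yc33 zc13) (kc xc14 yc16 zc22) (kc xc20 yc25 zc33) (kc xc14 yc16 zc24) (kc xc30 yc50 zc14) (kc xc23 yc43 zc48) (kc xc23 yc12 zc16) (kc xc24 yc6 zc53) (kc xc28 yc45 zc61) (kc xc28 yc25 zc54) (kc xc14 yc16 zc28) (kc xc28 yc53 zc37) (kc xc29 yc8 zc44) (kc xc22 yc17 zc5) (kc xc28 yc26 zc0) (kc xc14 yc16 zc30) (kc xc29 yc24 zc37) (kc xc28 yc52 zc17) (kc xc22 yc49 zc16) (kc xc23 yc19 zc38) (kc xc28 yc35 zc39) (kc xc30 yc46 zc47) (kc xc14 yc16 zc33) (kc xc30 yc46 zc32) (kc xc14 yc26 zc28) (kc xc22 yc17 zc18) (kc xc21 yc15 zc35) (kc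 xc19 yc33 zc34) (kc xc14 yc16 zc36) (kc xc25 yc16 zc53) (kc xc19 yc34 zc27) (kc xc28 yc27 zc2) (kc xc14 yc16 zc38) (kc xc23 yc6 zc41) (kc xc18 yc31 zc24) (kc xc18 yc37 zc20) (kc xc18 yc12 zc5) (kc xc14 yc16 zc41) (kc xc29 yc20 zc44) (kc xc14 yc16 zc42) (kc xc23 yc12 zc23) (kc xc24 yc18 zc50) (kc xc24 yc13 zc43) (kc xc27 yc15 zc34)) (@D3.rec (fun _ => Pt) (kc xc21 yc42 zc28) (kc xc14 yc16 zc51) (kc xc18 yc57 zc21) (kc xc31 yc16 zc16) (kc xc28 yc1 zc29) (kc xc18 yc37 zc13) (kc xc14 yc16 zc54) (kc xc22 yc27 zc52) (kc xc15 yc8 zc31) (kc xc28 yc21 zc49) (kc xc14 yc16 zc58) (kc xc30 yc36 zc58) (kc xc28 yc6 zc48) (kc xc14 yc16 zc60) (kc xc27 yc42 zc13) (kc xc21 yc10 zc54) (kc xc23 yc0 zc46) (kc xc30 yc51 zc6) (kc xc30 yc49 zc33) (kc xc14 yc17 zc1) (kc xc31 yc16 zc25) (kc xc23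 yc0 zc30) (kc xc22 yc49 zc28) (kc xc30 yc49 zc37) (kc xc14 yc17 zc3) (kc xc28 yc7 zc12) (kc xc31 yc16 zc34) (kc xc14 yc17 zc5) (kc xc31 yc16 zc37) (kc xc30 yc31 zc41) (kc xc23 yc12 zc15) (kc xc31 yc16 zc44) (kc xc14 yc17 zc7) (kc xc18 yc34 zc29) (kc xc18 yc34 zc31) (kc xc28 yc7 zc14) (kc xc19 yc7 zc21) (kc xc31 yc16 zc45) (kc xc27 yc42 zc30) (kc xc29 yc51 zc36) (kc xc14 yc17 zc13) (kc xc27 yc10 zc8) (kc xc14 yc17 zc14) (kc xc29 yc16 zc5) (kc xc14 yc17 zc16) (kc xc23 yc10 zc1) (kc xc14 yc17 zc17) (kc xc25 yc56 zc47) (kc xc23 yc18 zc60) (kc xc30 yc33 zc26) (kc xc14 yc17 zc19) (kc xc31 yc16 zc54) (kc xc31 yc16 zc55) (kc xc29 yc15 zc56) (kc xc22 yc40 zc60) (kc xc14 yc17 zc20) (kc xc14 yc17 zc23) (kc xc23 yc43 zc32) (kc xc22 yc32 zc0) (kc xc24 yc43 zc47) (kc xc28 yc56 zc38)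 (kc xc22 yc49 zc31)) (@D3.rec (fun _ => Pt) (kc xc14 yc17 zc28) (kc xc25 yc54 zc31) (kc xc22 yc36 zc30) (kc xc31 yc16 zc61) (kc xc14 yc17 zc30) (kc xc16 yc0 zc20) (kc xc16 yc0 zc21) (kc xc31 yc17 zc0) (kc xc15 yc39 zc19) (kc xc23 yc0 zc43) (kc xc15 yc39 zc15) (kc xc15 yc39 zc28) (kc xc15 yc39 zc27) (kc xc14 yc17 zc33) (kc xc31 yc17 zc3) (kc xc22 yc49 zc20) (kc xc21 yc55 zc26) (kc xc14 yc17 zc37) (kc xc21 yc14 zc9) (kc xc14 yc17 zc38) (kc xc14 yc17 zc40) (kc xc27 yc6 zc32) (kc xc14 yc17 zc47) (kc xc14 yc17 zc44) (kc xc25 yc42 zc11) (kc xc22 yc22 zc31) (kc xc14 yc17 zc45) (kc xc30 yc32 zc0) (kc xc31 yc17 zc5) (kc xc21 yc3 zc9) (kc xc31 yc13 zc19) (kc xc14 yc17 zc50) (kc xc30 yc56 zc30) (kc xc18 yc57 zc33) (kc xc24 yc14 zc24) (kc xc14 yc17 zc52) (kc xc29 yc46 zc31) (kc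 xc28 yc1 zc40) (kc xc14 yc17 zc53) (kc xc22 yc1 zc51) (kc xc30 yc11 zc42) (kc xc21 yc47 zc55) (kc xc29 yc47 zc29) (kc xc29 yc17 zc52) (kc xc14 yc17 zc58) (kc xc31 yc17 zc11) (kc xc14 yc17 zc60) (kc xc29 yc17 zc56) (kc xc30 yc53 zc36) (kc xc29 yc41 zc14) (kc xc24 yc11 zc45) (kc xc24 yc14 zc43) (kc xc14 yc18 zc0) (kc xc29 yc47 zc3) (kc xc29 yc41 zc29) (kc xc24 yc11 zc51) (kc xc14 yc18 zc2) (kc xc31 yc17 zc21) (kc xc30 yc28 zc41) (kc xc14 yc18 zc4) (kc xc24 yc4 zc3) (kc xc24 yc4 zc4)) (@D3.rec (fun _ => Pt) (kc xc30 yc19 zc36) (kc xc14 yc18 zc6) (kc xc16 yc1 zc11) (kc xc28 yc52 zc23) (kc xc14 yc18 zc8) (kc xc17 yc25 zc13) (kc xc14 yc18 zc30) (kc xc28 yc0 zc25) (kc xc16 yc59 zc59) (kc xc28 yc12 zc15) (kc xc15 yc25 zc4) (kc xc31 yc17 zc28) (kc xc14 yc18 zc11) (kc xc29 yc51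 zc1) (kc xc14 yc18 zc13) (kc xc14 yc36 zc46) (kc xc24 yc13 zc41) (kc xc14 yc19 zc15) (kc xc14 yc19 zc16) (kc xc14 yc18 zc17) (kc xc30 yc43 zc8) (kc xc23 yc5 zc27) (kc xc14 yc18 zc24) (kc xc24 yc39 zc2) (kc xc24 yc39 zc3) (kc xc25 yc12 zc6) (kc xc24 yc37 zc38) (kc xc20 yc43 zc60) (kc xc16 yc28 zc61) (kc xc21 yc5 zc29) (kc xc24 yc14 zc4) (kc xc27 yc21 zc8) (kc xc14 yc18 zc36) (kc xc14 yc18 zc40) (kc xc23 yc41 zc20) (kc xc14 yc18 zc41) (kc xc14 yc18 zc42) (kc xc31 yc17 zc37) (kc xc19 yc30 zc60) (kc xc21 yc10 zc50) (kc xc14 yc18 zc44) (kc xc29 yc3 zc27) (kc xc29 yc42 zc44) (kc xc14 yc18 zc47) (kc xc31 yc17 zc41) (kc xc15 yc31 zc7) (kc xc22 yc5 zc38) (kc xc28 yc57 zc14) (kc xc28 yc57 zc16) (kc xc29 yc16 zc53) (kc xc14 yc18 zc52) (kc xc25 yc49 zc23) (kc xc19 yc31 zc60) (kc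 xc25 yc31 zc31) (kc xc14 yc18 zc59) (kc xc14 yc18 zc60) (kc xc15 yc32 zc15) (kc xc31 yc17 zc43) (kc xc14 yc19 zc3) (kc xc31 yc17 zc1) (kc xc23 yc23 zc26) (kc xc31 yc17 zc44)) (@D3.rec (fun _ => Pt) (kc xc14 yc19 zc7) (kc xc14 yc19 zc6) (kc xc31 yc17 zc45) (kc xc14 yc19 zc8) (kc xc31 yc17 zc46) (kc xc14 yc19 zc9) (kc xc22 yc16 zc56) (kc xc30 yc12 zc0) (kc xc14 yc19 zc11) (kc xc22 yc11 zc59) (kc xc20 yc53 zc9) (kc xc14 yc19 zc12) (kc xc21 yc5 zc30) (kc xc24 yc7 zc11) (kc xc14 yc19 zc14) (kc xc22 yc11 zc52) (kc xc31 yc17 zc31) (kc xc24 yc8 zc29) (kc xc24 yc0 zc44) (kc xc31 yc17 zc51) (kc xc31 yc17 zc52) (kc xc22 yc21 zc13) (kc xc14 yc19 zc25) (kc xc19 yc13 zc27) (kc xc14 yc19 zc28) (kc xc24 yc11 zc30) (kc xc14 yc19 zc30) (kc xc19 yc12 zc18) (kc xc14 yc19 zc32) (kc xc23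 yc53 zc1) (kc xc19 yc30 zc57) (kc xc31 yc17 zc53) (kc xc31 yc17 zc60) (kc xc14 yc19 zc34) (kc xc30 yc39 zc15) (kc xc22 yc0 zc30) (kc xc24 yc6 zc14) (kc xc30 yc49 zc3) (kc xc30 yc49 zc4) (kc xc14 yc25 zc38) (kc xc14 yc26 zc37) (kc xc14 yc26 zc38) (kc xc24 yc6 zc44) (kc xc19 yc29 zc57) (kc xc31 yc12 zc27) (kc xc14 yc19 zc42) (kc xc24 yc13 zc55) (kc xc19 yc9 zc33) (kc xc14 yc19 zc47) (kc xc30 yc26 zc13) (kc xc19 yc30 zc55) (kc xc30 yc49 zc40) (kc xc14 yc19 zc49) (kc xc31 yc18 zc5) (kc xc23 yc49 zc22) (kc xc17 yc2 zc8) (kc xc17 yc2 zc7) (kc xc20 yc52 zc1) (kc xc14 yc19 zc57) (kc xc24 yc5 zc48) (kc xc24 yc1 zc25) (kc xc17 yc1 zc34)) (@D3.rec (fun _ => Pt) (kc xc14 yc20 zc2) (kc xc31 yc18 zc7) (kc xc21 yc37 zc39) (kc xc28 yc44 zc1) (kc xc28 yc14 zc58) (kc xc27 yc9 zc45) (kc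 xc14 yc20 zc9) (kc xc20 yc22 zc34) (kc xc18 yc23 zc31) (kc xc31 yc18 zc8) (kc xc28 yc44 zc14) (kc xc31 yc18 zc9) (kc xc15 yc44 zc17) (kc xc14 yc21 zc10) (kc xc31 yc18 zc11) (kc xc24 yc27 zc15) (kc xc14 yc49 zc35) (kc xc19 yc20 zc24) (kc xc19 yc20 zc23) (kc xc14 yc20 zc27) (kc xc23 yc23 zc27) (kc xc20 yc29 zc55) (kc xc14 yc55 zc8) (kc xc19 yc24 zc3) (kc xc14 yc43 zc0) (kc xc24 yc1 zc24) (kc xc14 yc20 zc37) (kc xc22 yc7 zc36) (kc xc19 yc9 zc58) (kc xc24 yc5 zc49) (kc xc14 yc20 zc40) (kc xc28 yc56 zc9) (kc xc28 yc48 zc7) (kc xc22 yc6 zc16) (kc xc22 yc6 zc15) (kc xc20 yc42 zc41) (kc xc15 yc5 zc8) (kc xc26 yc2 zc33) (kc xc26 yc2 zc31) (kc xc27 yc0 zc52) (kc xc14 yc20 zc48) (kc xc14 yc27 zc2) (kc xc24 yc10 zc52) (kc xc30 yc0 zc28) (kc xc31 yc9 zc19) (kc xc25 yc38 zc39) (kc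 xc31 yc18 zc16) (kc xc14 yc20 zc55) (kc xc22 yc22 zc22) (kc xc14 yc20 zc57) (kc xc14 yc40 zc18) (kc xc20 yc3 zc25) (kc xc29 yc40 zc37) (kc xc19 yc4 zc9) (kc xc14 yc20 zc60) (kc xc31 yc18 zc18) (kc xc31 yc18 zc19) (kc xc24 yc27 zc27) (kc xc14 yc21 zc0) (kc xc22 yc33 zc33) (kc xc25 yc52 zc12) (kc xc31 yc18 zc21)) (@D3.rec (fun _ => Pt) (kc xc14 yc21 zc5) (kc xc31 yc18 zc22) (kc xc30 yc20 zc7) (kc xc25 yc52 zc11) (kc xc25 yc39 zc27) (kc xc15 yc42 zc39) (kc xc30 yc12 zc8) (kc xc29 yc1 zc14) (kc xc30 yc34 zc39) (kc xc16 yc42 zc43) (kc xc30 yc12 zc10) (kc xc17 yc4 zc13) (kc xc17 yc2 zc18) (kc xc29 yc50 zc8) (kc xc28 yc51 zc28) (kc xc20 yc26 zc29) (kc xc30 yc12 zc7) (kc xc14 yc21 zc11) (kc xc14 yc36 zc18) (kc xc14 yc21 zc18) (kc xc19 yc19 zc51) (kc xc24 yc32 zc56) (kc xc18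 yc52 zc33) (kc xc21 yc43 zc39) (kc xc18 yc1 zc2) (kc xc17 yc59 zc20) (kc xc22 yc41 zc26) (kc xc22 yc41 zc27) (kc xc23 yc39 zc14) (kc xc14 yc21 zc36) (kc xc14 yc21 zc34) (kc xc24 yc9 zc56) (kc xc28 yc58 zc15) (kc xc14 yc21 zc35) (kc xc30 yc27 zc23) (kc xc14 yc21 zc37) (kc xc23 yc8 zc29) (kc xc30 yc34 zc14) (kc xc14 yc21 zc39) (kc xc31 yc18 zc33) (kc xc24 yc10 zc45) (kc xc30 yc34 zc16) (kc xc30 yc50 zc8) (kc xc30 yc50 zc16) (kc xc31 yc18 zc37) (kc xc15 yc28 zc4) (kc xc14 yc21 zc49) (kc xc26 yc54 zc36) (kc xc14 yc40 zc16) (kc xc14 yc40 zc17) (kc xc14 yc21 zc53) (kc xc14 yc21 zc54) (kc xc30 yc56 zc48) (kc xc14 yc21 zc55) (kc xc28 yc30 zc48) (kc xc14 yc22 zc0) (kc xc28 yc26 zc26) (kc xc28 yc45 zc50) (kc xc14 yc25 zc13) (kc xc14 yc21 zc58) (kc xc31 yc18 zc49) (kc xc30 yc56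 zc37))
def f_c_24 : D2 → D3 → Pt := @D2.rec (fun _ => D3 → Pt) (@D3.rec (fun _ => Pt) (kc xc30 yc56 zc38) (kc xc24 yc22 zc26) (kc xc24 yc16 zc17) (kc xc14 yc21 zc60) (kc xc31 yc18 zc56) (kc xc31 yc18 zc28) (kc xc24 yc20 zc25) (kc xc26 yc45 zc16) (kc xc31 yc18 zc45) (kc xc29 yc1 zc46) (kc xc15 yc2 zc61) (kc xc15 yc42 zc41) (kc xc25 yc12 zc15) (kc xc14 yc51 zc38) (kc xc14 yc22 zc8) (kc xc14 yc22 zc10) (kc xc14 yc22 zc11) (kc xc29 yc33 zc36) (kc xc14 yc34 zc6) (kc xc14 yc34 zc7) (kc xc14 yc22 zc14) (kc xc30 yc15 zc31) (kc xc31 yc19 zc8) (kc xc31 yc19 zc9) (kc xc16 yc39 zc20) (kc xc31 yc19 zc11) (kc xc15 yc18 zc25) (kc xc19 yc18 zc50) (kc xc19 yc18 zc51) (kc xc24 yc1 zc33) (kc xc14 yc22 zc20) (kc xc30 yc39 zc10) (kc xc14 yc22 zc22) (kc xc16 yc20 zc34) (kc xc15 yc59 zc59)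 (kc xc23 yc6 zc5) (kc xc25 yc56 zc48) (kc xc19 yc37 zc37) (kc xc14 yc22 zc31) (kc xc16 yc43 zc11) (kc xc27 yc21 zc53) (kc xc14 yc22 zc33) (kc xc26 yc24 zc42) (kc xc24 yc8 zc45) (kc xc23 yc57 zc18) (kc xc14 yc22 zc37) (kc xc25 yc55 zc59) (kc xc25 yc55 zc60) (kc xc24 yc8 zc47) (kc xc31 yc19 zc17) (kc xc14 yc22 zc39) (kc xc30 yc17 zc25) (kc xc14 yc22 zc41) (kc xc20 yc56 zc31) (kc xc19 yc54 zc56) (kc xc20 yc56 zc33) (kc xc29 yc45 zc34) (kc xc14 yc22 zc48) (kc xc26 yc41 zc16) (kc xc14 yc22 zc47) (kc xc31 yc19 zc25) (kc xc31 yc19 zc29)) (@D3.rec (fun _ => Pt) (kc xc26 yc35 zc15) (kc xc22 yc19 zc18) (kc xc14 yc22 zc51) (kc xc27 yc0 zc41) (kc xc14 yc22 zc52) (kc xc14 yc22 zc57) (kc xc20 yc39 zc41) (kc xc14 yc22 zc55) (kc xc30 yc25 zc34) (kc xc22 yc37 zc61) (kc xc23 yc24 zc8)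 (kc xc26 yc38 zc6) (kc xc31 yc19 zc37) (kc xc28 yc54 zc33) (kc xc28 yc54 zc32) (kc xc14 yc22 zc59) (kc xc31 yc12 zc46) (kc xc31 yc12 zc47) (kc xc14 yc22 zc61) (kc xc14 yc23 zc0) (kc xc26 yc37 zc54) (kc xc14 yc23 zc1) (kc xc15 yc28 zc2) (kc xc14 yc23 zc2) (kc xc23 yc58 zc25) (kc xc23 yc57 zc60) (kc xc14 yc23 zc4) (kc xc21 yc36 zc56) (kc xc26 yc54 zc13) (kc xc29 yc13 zc21) (kc xc29 yc13 zc22) (kc xc14 yc23 zc7) (kc xc31 yc19 zc46) (kc xc24 yc0 zc29) (kc xc28 yc18 zc31) (kc xc28 yc33 zc54) (kc xc14 yc23 zc13) (kc xc27 yc44 zc2) (kc xc27 yc44 zc3) (kc xc14 yc23 zc15) (kc xc15 yc35 zc0) (kc xc28 yc34 zc21) (kc xc30 yc56 zc43) (kc xc30 yc56 zc42) (kc xc19 yc52 zc17) (kc xc22 yc26 zc45) (kc xc24 yc6 zc10) (kc xc22 yc26 zc30) (kc xc26 yc42 zc11) (kc xc14 yc23 zc25) (kc xc31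 yc19 zc53) (kc xc14 yc23 zc26) (kc xc22 yc8 zc28) (kc xc31 yc19 zc56) (kc xc21 yc5 zc49) (kc xc31 yc19 zc58) (kc xc18 yc12 zc61) (kc xc31 yc19 zc60) (kc xc28 yc11 zc21) (kc xc31 yc19 zc61) (kc xc31 yc20 zc1) (kc xc14 yc23 zc32)) (@D3.rec (fun _ => Pt) (kc xc31 yc20 zc5) (kc xc23 yc48 zc46) (kc xc20 yc42 zc43) (kc xc14 yc23 zc35) (kc xc30 yc37 zc59) (kc xc14 yc23 zc37) (kc xc31 yc15 zc2) (kc xc30 yc22 zc34) (kc xc14 yc23 zc39) (kc xc24 yc19 zc53) (kc xc14 yc23 zc40) (kc xc22 yc35 zc27) (kc xc26 yc6 zc14) (kc xc22 yc46 zc24) (kc xc14 yc23 zc42) (kc xc31 yc20 zc12) (kc xc20 yc26 zc0) (kc xc14 yc46 zc30) (kc xc20 yc24 zc57) (kc xc30 yc17 zc24) (kc xc14 yc23 zc50) (kc xc31 yc20 zc13) (kc xc31 yc20 zc15) (kc xc31 yc20 zc17) (kc xc14 yc23 zc52) (kc xc31 yc20 zc20) (kc xc27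 yc31 zc34) (kc xc14 yc47 zc40) (kc xc19 yc38 zc25) (kc xc14 yc23 zc54) (kc xc31 yc20 zc23) (kc xc26 yc3 zc0) (kc xc14 yc23 zc56) (kc xc28 yc56 zc49) (kc xc14 yc23 zc57) (kc xc14 yc37 zc12) (kc xc31 yc20 zc18) (kc xc30 yc11 zc16) (kc xc14 yc23 zc59) (kc xc30 yc56 zc31) (kc xc28 yc51 zc20) (kc xc14 yc24 zc1) (kc xc31 yc20 zc31) (kc xc28 yc55 zc59) (kc xc14 yc24 zc4) (kc xc29 yc13 zc26) (kc xc29 yc13 zc25) (kc xc14 yc24 zc3) (kc xc31 yc20 zc38) (kc xc18 yc21 zc27) (kc xc26 yc42 zc17) (kc xc31 yc20 zc42) (kc xc28 yc55 zc60) (kc xc14 yc24 zc6) (kc xc25 yc6 zc7) (kc xc21 yc52 zc40) (kc xc20 yc35 zc45) (kc xc14 yc24 zc12) (kc xc31 yc20 zc36) (kc xc30 yc11 zc15) (kc xc14 yc24 zc9) (kc xc14 yc40 zc28)) (@D3.rec (fun _ => Pt) (kc xc30 yc55 zc3) (kc xc14 yc24 zc11) (kc xc30 yc11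 zc43) (kc xc29 yc44 zc31) (kc xc14 yc24 zc15) (kc xc29 yc47 zc30) (kc xc14 yc24 zc16) (kc xc31 yc20 zc49) (kc xc31 yc20 zc47) (kc xc14 yc24 zc18) (kc xc31 yc20 zc53) (kc xc29 yc1 zc22) (kc xc19 yc38 zc23) (kc xc20 yc23 zc14) (kc xc19 yc36 zc16) (kc xc14 yc30 zc14) (kc xc25 yc9 zc58) (kc xc24 yc20 zc33) (kc xc14 yc24 zc21) (kc xc28 yc34 zc61) (kc xc14 yc24 zc23) (kc xc14 yc24 zc24) (kc xc16 yc40 zc41) (kc xc14 yc24 zc25) (kc xc14 yc29 zc36) (kc xc14 yc24 zc26) (kc xc22 yc4 zc24) (kc xc14 yc24 zc33) (kc xc30 yc48 zc49) (kc xc14 yc24 zc28) (kc xc31 yc21 zc7) (kc xc16 yc39 zc44) (kc xc16 yc40 zc42) (kc xc14 yc24 zc32) (kc xc25 yc8 zc54) (kc xc14 yc48 zc46) (kc xc14 yc48 zc47) (kc xc25 yc44 zc58) (kc xc14 yc24 zc36) (kc xc14 yc24 zc35) (kc xc29 yc13 zc24) (kc xc14 yc24 zc38)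 (kc xc26 yc2 zc0) (kc xc14 yc24 zc40) (kc xc31 yc21 zc11) (kc xc14 yc52 zc37) (kc xc14 yc24 zc42) (kc xc31 yc21 zc15) (kc xc14 yc24 zc44) (kc xc31 yc21 zc17) (kc xc14 yc24 zc45) (kc xc15 yc56 zc7) (kc xc20 yc7 zc39) (kc xc20 yc30 zc35) (kc xc14 yc24 zc49) (kc xc31 yc21 zc27) (kc xc14 yc24 zc47) (kc xc24 yc51 zc41) (kc xc31 yc21 zc34) (kc xc31 yc21 zc36) (kc xc31 yc21 zc31) (kc xc14 yc24 zc48)) (@D3.rec (fun _ => Pt) (kc xc29 yc41 zc34) (kc xc31 yc21 zc24) (kc xc31 yc21 zc26) (kc xc23 yc55 zc60) (kc xc23 yc55 zc61) (kc xc14 yc24 zc54) (kc xc21 yc57 zc38) (kc xc17 yc25 zc47) (kc xc30 yc5 zc41) (kc xc30 yc23 zc33) (kc xc29 yc48 zc31) (kc xc14 yc24 zc56) (kc xc26 yc40 zc58) (kc xc19 yc28 zc46) (kc xc14 yc24 zc59) (kc xc28 yc35 zc0) (kc xc14 yc24 zc58) (kc xc27 yc8 zc12)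 (kc xc26 yc41 zc23) (kc xc26 yc40 zc57) (kc xc20 yc39 zc17) (kc xc31 yc21 zc47) (kc xc31 yc21 zc49) (kc xc19 yc15 zc26) (kc xc19 yc15 zc44) (kc xc25 yc9 zc7) (kc xc14 yc25 zc1) (kc xc28 yc41 zc33) (kc xc24 yc24 zc16) (kc xc14 yc25 zc2) (kc xc25 yc20 zc33) (kc xc19 yc29 zc22) (kc xc14 yc25 zc5) (kc xc31 yc22 zc3) (kc xc14 yc25 zc4) (kc xc20 yc56 zc16) (kc xc29 yc13 zc5) (kc xc25 yc20 zc32) (kc xc29 yc14 zc11) (kc xc31 yc21 zc61) (kc xc31 yc22 zc1) (kc xc23 yc5 zc46) (kc xc23 yc5 zc47) (kc xc30 yc10 zc28) (kc xc14 yc25 zc9) (kc xc24 yc22 zc12) (kc xc14 yc25 zc10) (kc xc19 yc7 zc50) (kc xc26 yc56 zc56) (kc xc28 yc48 zc38) (kc xc29 yc2 zc10) (kc xc14 yc25 zc17) (kc xc30 yc27 zc25) (kc xc19 yc20 zc0) (kc xc24 yc10 zc23) (kc xc23 yc8 zc33) (kc xc14 yc25 zc16) (kc xc29 yc3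 zc35) (kc xc30 yc16 zc36) (kc xc29 yc40 zc2) (kc xc29 yc40 zc1) (kc xc19 yc19 zc61)) (@D3.rec (fun _ => Pt) (kc xc14 yc53 zc13) (kc xc22 yc6 zc24) (kc xc14 yc25 zc21) (kc xc15 yc54 zc29) (kc xc14 yc25 zc19) (kc xc31 yc14 zc20) (kc xc14 yc25 zc20) (kc xc23 yc1 zc0) (kc xc24 yc9 zc29) (kc xc14 yc25 zc23) (kc xc24 yc33 zc50) (kc xc22 yc55 zc21) (kc xc21 yc31 zc5) (kc xc14 yc25 zc29) (kc xc31 yc18 zc20) (kc xc14 yc25 zc26) (kc xc22 yc15 zc56) (kc xc31 yc22 zc16) (kc xc31 yc22 zc17) (kc xc14 yc25 zc27) (kc xc29 yc35 zc8) (kc xc29 yc36 zc46) (kc xc31 yc22 zc20) (kc xc22 yc37 zc26) (kc xc23 yc13 zc22) (kc xc14 yc25 zc31) (kc xc20 yc33 zc40) (kc xc14 yc25 zc36) (kc xc23 yc11 zc54) (kc xc14 yc25 zc37) (kc xc26 yc28 zc42) (kc xc22 yc47 zc38) (kc xc30 yc50 zc39) (kc xc14 yc25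 zc40) (kc xc20 yc31 zc4) (kc xc14 yc25 zc45) (kc xc28 yc53 zc44) (kc xc26 yc56 zc30) (kc xc25 yc9 zc6) (kc xc23 yc9 zc1) (kc xc23 yc9 zc2) (kc xc30 yc50 zc29) (kc xc24 yc6 zc5) (kc xc30 yc49 zc54) (kc xc14 yc25 zc47) (kc xc23 yc16 zc22) (kc xc14 yc25 zc52) (kc xc19 yc23 zc50) (kc xc23 yc57 zc59) (kc xc23 yc58 zc29) (kc xc28 yc26 zc25) (kc xc14 yc25 zc54) (kc xc31 yc22 zc30) (kc xc14 yc25 zc55) (kc xc22 yc19 zc57) (kc xc14 yc25 zc57) (kc xc31 yc17 zc56) (kc xc14 yc30 zc61) (kc xc14 yc25 zc59) (kc xc31 yc22 zc33) (kc xc14 yc25 zc61) (kc xc31 yc22 zc34)) (@D3.rec (fun _ => Pt) (kc xc14 yc26 zc2) (kc xc29 yc27 zc57) (kc xc28 yc24 zc3) (kc xc14 yc31 zc17) (kc xc22 yc22 zc45) (kc xc24 yc5 zc42) (kc xc30 yc46 zc42) (kc xc24 yc6 zc8) (kc xc24 yc6 zc7) (kc xc23 yc48 zc47) (kc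 xc24 yc1 zc46) (kc xc31 yc15 zc51) (kc xc30 yc6 zc55) (kc xc18 yc57 zc36) (kc xc23 yc57 zc36) (kc xc22 yc7 zc22) (kc xc14 yc26 zc16) (kc xc29 yc41 zc6) (kc xc31 yc22 zc44) (kc xc31 yc22 zc45) (kc xc25 yc25 zc38) (kc xc30 yc18 zc42) (kc xc21 yc15 zc53) (kc xc30 yc6 zc56) (kc xc14 yc26 zc23) (kc xc30 yc31 zc27) (kc xc30 yc53 zc14) (kc xc31 yc15 zc56) (kc xc14 yc26 zc25) (kc xc22 yc49 zc29) (kc xc14 yc26 zc26) (kc xc31 yc22 zc52) (kc xc24 yc9 zc0) (kc xc24 yc12 zc45) (kc xc30 yc43 zc25) (kc xc19 yc34 zc24) (kc xc23 yc0 zc22) (kc xc22 yc20 zc42) (kc xc30 yc46 zc26) (kc xc29 yc7 zc56) (kc xc29 yc7 zc54) (kc xc19 yc24 zc1) (kc xc22 yc22 zc17) (kc xc30 yc44 zc1) (kc xc23 yc57 zc42) (kc xc30 yc43 zc28) (kc xc28 yc56 zc25) (kc xc31 yc22 zc58) (kc xc24 yc30 zc16) (kc xc31 yc22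 zc23) (kc xc20 yc37 zc17) (kc xc31 yc23 zc3) (kc xc30 yc50 zc38) (kc xc23 yc53 zc25) (kc xc27 yc42 zc7) (kc xc14 yc27 zc61) (kc xc30 yc49 zc59) (kc xc14 yc28 zc0) (kc xc30 yc22 zc5) (kc xc30 yc50 zc42) (kc xc14 yc26 zc40) (kc xc23 yc48 zc51)) (@D3.rec (fun _ => Pt) (kc xc30 yc46 zc43) (kc xc26 yc21 zc47) (kc xc26 yc26 zc22) (kc xc30 yc2 zc35) (kc xc17 yc3 zc24) (kc xc17 yc3 zc25) (kc xc27 yc42 zc19) (kc xc25 yc6 zc61) (kc xc25 yc7 zc21) (kc xc14 yc26 zc45) (kc xc22 yc9 zc46) (kc xc23 yc57 zc13) (kc xc14 yc26 zc47) (kc xc29 yc35 zc30) (kc xc14 yc26 zc48) (kc xc14 yc38 zc0) (kc xc28 yc12 zc21) (kc xc14 yc26 zc50) (kc xc29 yc51 zc0) (kc xc14 yc26 zc53) (kc xc31 yc23 zc15) (kc xc29 yc32 zc4) (kc xc21 yc5 zc50) (kc xc14 yc26 zc58) (kc xc14 yc26 zc57) (kc xc31 yc23 zc16)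 (kc xc16 yc31 zc18) (kc xc14 yc26 zc56) (kc xc30 yc43 zc41) (kc xc31 yc23 zc17) (kc xc18 yc38 zc2) (kc xc17 yc40 zc0) (kc xc14 yc26 zc59) (kc xc16 yc1 zc15) (kc xc23 yc21 zc34) (kc xc14 yc27 zc0) (kc xc16 yc9 zc58) (kc xc14 yc27 zc4) (kc xc18 yc59 zc42) (kc xc16 yc29 zc9) (kc xc14 yc27 zc6) (kc xc30 yc19 zc50) (kc xc31 yc23 zc23) (kc xc30 yc38 zc10) (kc xc31 yc23 zc21) (kc xc14 yc27 zc9) (kc xc31 yc23 zc24) (kc xc25 yc22 zc54) (kc xc14 yc31 zc44) (kc xc28 yc50 zc2) (kc xc25 yc22 zc53) (kc xc14 yc31 zc46) (kc xc14 yc35 zc28) (kc xc15 yc28 zc48) (kc xc14 yc35 zc25) (kc xc15 yc17 zc14) (kc xc14 yc27 zc13) (kc xc25 yc6 zc50) (kc xc16 yc30 zc8) (kc xc18 yc59 zc18) (kc xc28 yc24 zc22) (kc xc28 yc24 zc24)) (@D3.rec (fun _ => Pt) (kc xc20 yc29 zc30) (kc xc21 yc12 zc8) (kc xc14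 yc52 zc20) (kc xc27 yc2 zc2) (kc xc22 yc48 zc42) (kc xc22 yc48 zc43) (kc xc23 yc24 zc15) (kc xc14 yc27 zc25) (kc xc15 yc47 zc2) (kc xc22 yc37 zc15) (kc xc23 yc12 zc44) (kc xc19 yc35 zc16) (kc xc14 yc31 zc21) (kc xc28 yc2 zc27) (kc xc23 yc10 zc33) (kc xc16 yc31 zc10) (kc xc16 yc31 zc20) (kc xc28 yc27 zc8) (kc xc26 yc17 zc39) (kc xc14 yc42 zc37) (kc xc14 yc52 zc26) (kc xc29 yc47 zc56) (kc xc14 yc27 zc38) (kc xc30 yc35 zc61) (kc xc29 yc37 zc30) (kc xc14 yc28 zc31) (kc xc28 yc54 zc52) (kc xc29 yc15 zc26) (kc xc23 yc0 zc37) (kc xc23 yc57 zc17) (kc xc14 yc27 zc46) (kc xc25 yc43 zc32) (kc xc29 yc40 zc49) (kc xc14 yc27 zc44) (kc xc26 yc57 zc19) (kc xc30 yc55 zc37) (kc xc29 yc27 zc49) (kc xc28 yc38 zc60) (kc xc29 yc31 zc12) (kc xc31 yc6 zc47) (kc xc22 yc17 zc0) (kc xc14 yc27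 zc52) (kc xc28 yc57 zc9) (kc xc27 yc2 zc56) (kc xc14 yc28 zc14) (kc xc24 yc0 zc43) (kc xc24 yc34 zc61) (kc xc24 yc0 zc48) (kc xc14 yc28 zc11) (kc xc22 yc59 zc14) (kc xc31 yc23 zc38) (kc xc21 yc12 zc9) (kc xc28 yc23 zc51) (kc xc30 yc18 zc28) (kc xc22 yc16 zc24) (kc xc28 yc53 zc32) (kc xc16 yc28 zc52) (kc xc14 yc28 zc2) (kc xc28 yc34 zc12) (kc xc14 yc28 zc3) (kc xc31 yc23 zc40) (kc xc14 yc28 zc4)) (@D3.rec (fun _ => Pt) (kc xc24 yc6 zc32) (kc xc14 yc28 zc5) (kc xc21 yc13 zc50) (kc xc28 yc35 zc36) (kc xc28 yc35 zc44) (kc xc30 yc26 zc57) (kc xc14 yc28 zc7) (kc xc29 yc1 zc57) (kc xc19 yc9 zc57) (kc xc29 yc37 zc4) (kc xc31 yc23 zc44) (kc xc14 yc28 zc8) (kc xc29 yc16 zc14) (kc xc28 yc21 zc3) (kc xc14 yc28 zc9) (kc xc25 yc29 zc26) (kc xc15 yc38 zc7) (kc xc25 yc35 zc39) (kc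 xc14 yc28 zc12) (kc xc31 yc23 zc47) (kc xc30 yc48 zc10) (kc xc25 yc35 zc42) (kc xc25 yc35 zc41) (kc xc25 yc35 zc18) (kc xc25 yc32 zc51) (kc xc30 yc28 zc12) (kc xc30 yc51 zc35) (kc xc30 yc12 zc30) (kc xc25 yc50 zc4) (kc xc24 yc5 zc8) (kc xc14 yc28 zc26) (kc xc14 yc28 zc25) (kc xc31 yc21 zc42) (kc xc26 yc42 zc44) (kc xc28 yc29 zc2) (kc xc31 yc23 zc32) (kc xc21 yc44 zc24) (kc xc14 yc28 zc32) (kc xc30 yc36 zc4) (kc xc31 yc23 zc49) (kc xc14 yc28 zc33) (kc xc29 yc51 zc29) (kc xc19 yc37 zc28) (kc xc22 yc54 zc18) (kc xc22 yc54 zc19) (kc xc24 yc28 zc3) (kc xc31 yc12 zc26) (kc xc22 yc21 zc60) (kc xc25 yc36 zc39) (kc xc24 yc42 zc46) (kc xc24 yc42 zc45) (kc xc14 yc38 zc6) (kc xc14 yc28 zc44) (kc xc30 yc29 zc48) (kc xc14 yc28 zc46) (kc xc23 yc34 zc23) (kc xc23 yc59 zc31) (kc xc14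 yc41 zc0) (kc xc22 yc26 zc14) (kc xc29 yc33 zc27) (kc xc30 yc16 zc42) (kc xc14 yc28 zc50)) (@D3.rec (fun _ => Pt) (kc xc31 yc23 zc33) (kc xc31 yc23 zc56) (kc xc14 yc28 zc52) (kc xc14 yc38 zc49) (kc xc22 yc19 zc54) (kc xc21 yc21 zc61) (kc xc26 yc14 zc36) (kc xc22 yc21 zc57) (kc xc14 yc28 zc61) (kc xc22 yc21 zc56) (kc xc14 yc29 zc2) (kc xc14 yc29 zc1) (kc xc31 yc23 zc59) (kc xc16 yc52 zc4) (kc xc19 yc28 zc1) (kc xc22 yc39 zc21) (kc xc28 yc14 zc10) (kc xc22 yc39 zc19) (kc xc28 yc47 zc60) (kc xc28 yc47 zc34) (kc xc30 yc27 zc24) (kc xc20 yc30 zc28) (kc xc15 yc55 zc49) (kc xc24 yc4 zc54) (kc xc24 yc39 zc19) (kc xc17 yc13 zc52) (kc xc21 yc22 zc2) (kc xc29 yc13 zc27) (kc xc20 yc34 zc27) (kc xc29 yc52 zc5) (kc xc30 yc8 zc19) (kc xc14 yc44 zc8) (kc xc28 yc10 zc32) (kc xc24 yc50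 zc55) (kc xc16 yc0 zc58) (kc xc14 yc30 zc17) (kc xc14 yc29 zc28) (kc xc30 yc57 zc42) (kc xc14 yc29 zc34) (kc xc31 yc24 zc0) (kc xc22 yc45 zc55) (kc xc31 yc13 zc34) (kc xc24 yc42 zc34) (kc xc31 yc21 zc2) (kc xc22 yc21 zc59) (kc xc23 yc59 zc40) (kc xc14 yc29 zc41) (kc xc14 yc29 zc39) (kc xc21 yc22 zc24) (kc xc22 yc41 zc56) (kc xc28 yc31 zc30) (kc xc14 yc29 zc40) (kc xc23 yc58 zc42) (kc xc14 yc29 zc43) (kc xc29 yc13 zc30) (kc xc31 yc3 zc8) (kc xc22 yc39 zc16) (kc xc17 yc7 zc47) (kc xc30 yc20 zc57) (kc xc27 yc8 zc33) (kc xc27 yc8 zc32) (kc xc14 yc29 zc54)) (@D3.rec (fun _ => Pt) (kc xc31 yc24 zc12) (kc xc14 yc29 zc56) (kc xc31 yc24 zc13) (kc xc14 yc29 zc58) (kc xc31 yc24 zc11) (kc xc22 yc42 zc45) (kc xc14 yc30 zc0) (kc xc31 yc24 zc16) (kc xc14 yc53 zc9) (kc xc24 yc16 zc27)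 (kc xc21 yc35 zc16) (kc xc14 yc30 zc8) (kc xc31 yc23 zc50) (kc xc15 yc31 zc6) (kc xc14 yc30 zc13) (kc xc31 yc24 zc19) (kc xc25 yc11 zc53) (kc xc25 yc25 zc44) (kc xc31 yc24 zc21) (kc xc29 yc36 zc25) (kc xc15 yc55 zc3) (kc xc31 yc24 zc24) (kc xc30 yc9 zc18) (kc xc23 yc49 zc58) (kc xc15 yc16 zc47) (kc xc30 yc9 zc15) (kc xc30 yc9 zc13) (kc xc14 yc30 zc18) (kc xc19 yc46 zc19) (kc xc14 yc30 zc20) (kc xc23 yc57 zc25) (kc xc23 yc45 zc30) (kc xc30 yc27 zc50) (kc xc14 yc30 zc22) (kc xc26 yc51 zc25) (kc xc29 yc8 zc23) (kc xc22 yc0 zc25) (kc xc14 yc30 zc23) (kc xc30 yc16 zc33) (kc xc29 yc35 zc34) (kc xc19 yc59 zc19) (kc xc31 yc24 zc31) (kc xc14 yc30 zc25) (kc xc20 yc5 zc7) (kc xc31 yc24 zc38) (kc xc23 yc55 zc50) (kc xc26 yc36 zc7) (kc xc29 yc34 zc0) (kc xc14 yc30 zc27) (kc xc31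 yc24 zc43) (kc xc31 yc24 zc46) (kc xc23 yc55 zc55) (kc xc22 yc55 zc15) (kc xc24 yc21 zc11) (kc xc16 yc49 zc56) (kc xc15 yc59 zc8) (kc xc15 yc59 zc7) (kc xc28 yc44 zc53) (kc xc25 yc4 zc19) (kc xc25 yc4 zc9) (kc xc25 yc4 zc11) (kc xc14 yc30 zc36)) (@D3.rec (fun _ => Pt) (kc xc20 yc56 zc28) (kc xc20 yc23 zc57) (kc xc14 yc30 zc41) (kc xc29 yc26 zc21) (kc xc14 yc30 zc43) (kc xc31 yc24 zc53) (kc xc22 yc14 zc23) (kc xc20 yc56 zc24) (kc xc14 yc30 zc47) (kc xc14 yc30 zc48) (kc xc31 yc24 zc58) (kc xc14 yc30 zc49) (kc xc31 yc24 zc60) (kc xc14 yc30 zc50) (kc xc21 yc14 zc44) (kc xc14 yc30 zc51) (kc xc28 yc47 zc10) (kc xc29 yc24 zc25) (kc xc30 yc56 zc40) (kc xc14 yc30 zc53) (kc xc27 yc55 zc5) (kc xc20 yc3 zc46) (kc xc14 yc30 zc54) (kc xc14 yc30 zc56) (kc xc31 yc25 zc5) (kc xc14 yc30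 zc57) (kc xc29 yc49 zc27) (kc xc14 yc47 zc52) (kc xc31 yc25 zc3) (kc xc14 yc30 zc59) (kc xc31 yc13 zc36) (kc xc29 yc38 zc53) (kc xc20 yc17 zc34) (kc xc19 yc6 zc42) (kc xc14 yc31 zc0) (kc xc27 yc51 zc37) (kc xc18 yc2 zc10) (kc xc20 yc14 zc48) (kc xc14 yc31 zc4) (kc xc31 yc25 zc7) (kc xc14 yc31 zc5) (kc xc28 yc16 zc55) (kc xc14 yc31 zc49) (kc xc14 yc31 zc7) (kc xc27 yc55 zc4) (kc xc24 yc6 zc33) (kc xc14 yc31 zc8) (kc xc16 yc47 zc3) (kc xc18 yc31 zc34) (kc xc16 yc52 zc18) (kc xc31 yc17 zc33) (kc xc14 yc31 zc11) (kc xc31 yc25 zc16) (kc xc20 yc11 zc61) (kc xc23 yc50 zc39) (kc xc14 yc31 zc14) (kc xc29 yc53 zc6) (kc xc27 yc44 zc5) (kc xc14 yc31 zc16) (kc xc31 yc25 zc21) (kc xc31 yc25 zc20) (kc xc22 yc56 zc32)) (@D3.rec (fun _ => Pt) (kc xc31 yc22 zc38) (kc xc31 yc22 zc36)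 (kc xc31 yc17 zc36) (kc xc14 yc31 zc20) (kc xc18 yc34 zc27) (kc xc26 yc39 zc3) (kc xc28 yc31 zc56) (kc xc31 yc6 zc46) (kc xc21 yc14 zc43) (kc xc31 yc17 zc34) (kc xc14 yc31 zc24) (kc xc31 yc25 zc32) (kc xc31 yc25 zc33) (kc xc28 yc47 zc11) (kc xc19 yc9 zc24) (kc xc30 yc26 zc50) (kc xc28 yc49 zc26) (kc xc25 yc8 zc60) (kc xc19 yc22 zc58) (kc xc16 yc29 zc5) (kc xc22 yc54 zc44) (kc xc14 yc32 zc3) (kc xc26 yc49 zc19) (kc xc14 yc32 zc4) (kc xc30 yc51 zc34) (kc xc25 yc9 zc3) (kc xc14 yc31 zc28) (kc xc31 yc25 zc45) (kc xc28 yc54 zc5) (kc xc14 yc31 zc30) (kc xc28 yc5 zc0) (kc xc28 yc48 zc17) (kc xc14 yc31 zc32) (kc xc19 yc9 zc48) (kc xc17 yc24 zc11) (kc xc14 yc31 zc41) (kc xc30 yc19 zc57) (kc xc31 yc25 zc46) (kc xc31 yc22 zc19) (kc xc15 yc40 zc45) (kc xc28 yc50 zc3) (kc xc23 yc56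 zc16) (kc xc21 yc4 zc25) (kc xc23 yc53 zc60) (kc xc28 yc16 zc51) (kc xc31 yc25 zc12) (kc xc14 yc31 zc51) (kc xc31 yc25 zc50) (kc xc14 yc31 zc52) (kc xc24 yc24 zc26) (kc xc14 yc31 zc53) (kc xc28 yc39 zc1) (kc xc19 yc13 zc5) (kc xc14 yc31 zc54) (kc xc29 yc53 zc32) (kc xc23 yc57 zc46) (kc xc30 yc27 zc43) (kc xc14 yc31 zc57) (kc xc19 yc22 zc6) (kc xc19 yc22 zc10) (kc xc23 yc52 zc2) (kc xc18 yc29 zc35)) (@D3.rec (fun _ => Pt) (kc xc30 yc19 zc59) (kc xc27 yc23 zc18) (kc xc20 yc28 zc17) (kc xc20 yc37 zc2) (kc xc23 yc56 zc30) (kc xc31 yc25 zc39) (kc xc30 yc47 zc38) (kc xc14 yc32 zc1) (kc xc31 yc25 zc57) (kc xc29 yc53 zc20) (kc xc30 yc47 zc37) (kc xc14 yc32 zc2) (kc xc30 yc51 zc20) (kc xc31 yc25 zc59) (kc xc31 yc25 zc41) (kc xc19 yc28 zc34) (kc xc19 yc28 zc35) (kc xc28 yc50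 zc5) (kc xc28 yc57 zc4) (kc xc28 yc42 zc17) (kc xc21 yc22 zc9) (kc xc24 yc26 zc11) (kc xc14 yc32 zc11) (kc xc29 yc37 zc10) (kc xc23 yc55 zc34) (kc xc14 yc32 zc18) (kc xc31 yc26 zc0) (kc xc17 yc18 zc22) (kc xc31 yc26 zc2) (kc xc18 yc57 zc41) (kc xc29 yc45 zc8) (kc xc26 yc37 zc28) (kc xc14 yc32 zc17) (kc xc16 yc42 zc21) (kc xc27 yc14 zc51) (kc xc14 yc32 zc20) (kc xc31 yc26 zc5) (kc xc22 yc50 zc0) (kc xc27 yc0 zc25) (kc xc31 yc26 zc8) (kc xc14 yc32 zc25) (kc xc14 yc32 zc26) (kc xc31 yc26 zc12) (kc xc23 yc55 zc51) (kc xc14 yc32 zc33) (kc xc31 yc26 zc17) (kc xc16 yc37 zc3) (kc xc29 yc27 zc48) (kc xc14 yc32 zc32) (kc xc20 yc16 zc30) (kc xc20 yc14 zc35) (kc xc27 yc43 zc8) (kc xc30 yc53 zc35) (kc xc14 yc45 zc56) (kc xc14 yc32 zc35) (kc xc31 yc26 zc20) (kc xc14 yc32 zc37) (kc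 xc31 yc26 zc22) (kc xc20 yc40 zc51) (kc xc20 yc40 zc15) (kc xc17 yc58 zc54) (kc xc14 yc41 zc50)) (@D3.rec (fun _ => Pt) (kc xc14 yc32 zc39) (kc xc26 yc33 zc53) (kc xc28 yc44 zc42) (kc xc14 yc32 zc41) (kc xc15 yc21 zc14) (kc xc14 yc32 zc44) (kc xc22 yc3 zc59) (kc xc29 yc44 zc32) (kc xc14 yc32 zc46) (kc xc18 yc52 zc32) (kc xc25 yc36 zc25) (kc xc14 yc32 zc47) (kc xc31 yc26 zc31) (kc xc31 yc26 zc29) (kc xc14 yc32 zc49) (kc xc25 yc31 zc18) (kc xc28 yc57 zc54) (kc xc27 yc38 zc16) (kc xc22 yc19 zc55) (kc xc30 yc53 zc47) (kc xc29 yc41 zc8) (kc xc22 yc33 zc28) (kc xc27 yc32 zc34) (kc xc18 yc0 zc51) (kc xc27 yc32 zc36) (kc xc27 yc32 zc38) (kc xc27 yc32 zc52) (kc xc14 yc32 zc61) (kc xc28 yc44 zc2) (kc xc14 yc33 zc0) (kc xc14 yc33 zc1) (kc xc23 yc51 zc54) (kc xc14 yc33 zc3) (kc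 xc25 yc14 zc31) (kc xc22 yc33 zc31) (kc xc14 yc33 zc19) (kc xc31 yc26 zc39) (kc xc18 yc57 zc0) (kc xc18 yc57 zc23) (kc xc31 yc20 zc4) (kc xc21 yc43 zc55) (kc xc18 yc57 zc60) (kc xc14 yc33 zc24) (kc xc15 yc21 zc42) (kc xc14 yc33 zc26) (kc xc21 yc31 zc48) (kc xc31 yc26 zc45) (kc xc24 yc44 zc18) (kc xc31 yc26 zc44) (kc xc14 yc33 zc28) (kc xc14 yc33 zc30) (kc xc31 yc26 zc47) (kc xc14 yc33 zc33) (kc xc29 yc16 zc54) (kc xc17 yc52 zc41) (kc xc31 yc26 zc49) (kc xc14 yc33 zc34) (kc xc25 yc56 zc33) (kc xc14 yc33 zc35) (kc xc29 yc16 zc30) (kc xc29 yc16 zc31) (kc xc14 yc33 zc37)) (@D3.rec (fun _ => Pt) (kc xc28 yc58 zc24) (kc xc25 yc29 zc56) (kc xc17 yc32 zc48) (kc xc29 yc13 zc11) (kc xc17 yc32 zc47) (kc xc20 yc40 zc50) (kc xc19 yc54 zc0) (kc xc19 yc54 zc3) (kc xc14 yc37 zc41)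 (kc xc14 yc37 zc43) (kc xc20 yc17 zc57) (kc xc16 yc59 zc6) (kc xc14 yc33 zc43) (kc xc14 yc33 zc45) (kc xc14 yc33 zc46) (kc xc14 yc33 zc48) (kc xc31 yc26 zc57) (kc xc24 yc0 zc2) (kc xc14 yc33 zc59) (kc xc29 yc53 zc52) (kc xc14 yc33 zc50) (kc xc14 yc33 zc54) (kc xc27 yc17 zc16) (kc xc30 yc15 zc6) (kc xc29 yc48 zc41) (kc xc14 yc38 zc35) (kc xc14 yc33 zc56) (kc xc24 yc11 zc9) (kc xc22 yc17 zc9) (kc xc23 yc39 zc54) (kc xc25 yc11 zc24) (kc xc19 yc50 zc10) (kc xc15 yc21 zc27) (kc xc15 yc21 zc13) (kc xc14 yc33 zc61) (kc xc14 yc34 zc0) (kc xc20 yc50 zc17) (kc xc16 yc52 zc36) (kc xc27 yc43 zc13) (kc xc14 yc34 zc4) (kc xc29 yc33 zc39) (kc xc31 yc19 zc4) (kc xc14 yc34 zc10) (kc xc30 yc15 zc14) (kc xc31 yc27 zc8) (kc xc25 yc59 zc12) (kc xc14 yc34 zc13) (kc xc31 yc27 zc13) (kc xc22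 yc50 zc45) (kc xc14 yc34 zc17) (kc xc29 yc21 zc6) (kc xc14 yc34 zc15) (kc xc19 yc57 zc17) (kc xc31 yc27 zc17) (kc xc24 yc39 zc4) (kc xc29 yc34 zc36) (kc xc31 yc27 zc14) (kc xc31 yc10 zc14) (kc xc21 yc1 zc45) (kc xc14 yc47 zc31) (kc xc28 yc12 zc59) (kc xc28 yc12 zc58)) (@D3.rec (fun _ => Pt) (kc xc24 yc17 zc2) (kc xc14 yc34 zc22) (kc xc24 yc17 zc0) (kc xc14 yc34 zc21) (kc xc15 yc40 zc52) (kc xc25 yc15 zc12) (kc xc14 yc34 zc23) (kc xc29 yc45 zc38) (kc xc14 yc34 zc26) (kc xc30 yc15 zc24) (kc xc14 yc34 zc25) (kc xc26 yc35 zc28) (kc xc31 yc27 zc30) (kc xc28 yc27 zc57) (kc xc20 yc56 zc10) (kc xc28 yc44 zc22) (kc xc31 yc27 zc26) (kc xc21 yc17 zc43) (kc xc28 yc44 zc52) (kc xc30 yc22 zc53) (kc xc14 yc34 zc29) (kc xc23 yc7 zc32) (kc xc14 yc34 zc30) (kc xc30 yc30 zc48) (kc xc14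 yc48 zc40) (kc xc24 yc50 zc20) (kc xc27 yc38 zc18) (kc xc14 yc34 zc35) (kc xc31 yc27 zc40) (kc xc29 yc13 zc37) (kc xc14 yc53 zc21) (kc xc21 yc58 zc48) (kc xc28 yc37 zc45) (kc xc14 yc39 zc59) (kc xc24 yc54 zc19) (kc xc14 yc34 zc38) (kc xc31 yc27 zc43) (kc xc18 yc40 zc0) (kc xc24 yc54 zc18) (kc xc24 yc36 zc56) (kc xc14 yc34 zc39) (kc xc31 yc27 zc46) (kc xc26 yc47 zc10) (kc xc31 yc27 zc48) (kc xc31 yc27 zc49) (kc xc31 yc27 zc51) (kc xc14 yc34 zc41) (kc xc21 yc49 zc14) (kc xc23 yc28 zc37) (kc xc23 yc30 zc18) (kc xc26 yc42 zc37) (kc xc27 yc36 zc1) (kc xc26 yc24 zc39) (kc xc30 yc46 zc11) (kc xc30 yc55 zc18) (kc xc20 yc35 zc39) (kc xc24 yc25 zc57) (kc xc26 yc41 zc49) (kc xc22 yc50 zc13) (kc xc18 yc56 zc14) (kc xc14 yc34 zc48) (kc xc24 yc46 zc30)) (@D3.rec (fun _ => Pt) (kc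 xc21 yc58 zc43) (kc xc29 yc49 zc10) (kc xc25 yc12 zc59) (kc xc15 yc9 zc35) (kc xc14 yc34 zc55) (kc xc31 yc27 zc58) (kc xc22 yc51 zc35) (kc xc27 yc50 zc60) (kc xc18 yc19 zc48) (kc xc14 yc35 zc1) (kc xc22 yc50 zc6) (kc xc30 yc10 zc61) (kc xc30 yc18 zc49) (kc xc26 yc43 zc46) (kc xc28 yc20 zc51) (kc xc22 yc51 zc39) (kc xc27 yc20 zc35) (kc xc14 yc35 zc8) (kc xc29 yc7 zc30) (kc xc26 yc13 zc7) (kc xc20 yc46 zc51) (kc xc14 yc35 zc13) (kc xc20 yc34 zc9) (kc xc22 yc9 zc2) (kc xc22 yc8 zc59) (kc xc29 yc25 zc9) (kc xc21 yc41 zc7) (kc xc22 yc34 zc36) (kc xc24 yc55 zc35) (kc xc24 yc55 zc53) (kc xc26 yc19 zc54) (kc xc21 yc23 zc52) (kc xc21 yc41 zc10) (kc xc27 yc21 zc51) (kc xc27 yc21 zc45) (kc xc29 yc26 zc3) (kc xc14 yc35 zc23) (kc xc15 yc31 zc51) (kc xc28 yc57 zc6) (kc xc29 yc30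 zc46) (kc xc31 yc28 zc2) (kc xc23 yc53 zc5) (kc xc14 yc35 zc30) (kc xc29 yc37 zc27) (kc xc14 yc35 zc31) (kc xc25 yc50 zc53) (kc xc15 yc30 zc31) (kc xc17 yc12 zc7) (kc xc31 yc28 zc6) (kc xc14 yc35 zc34) (kc xc23 yc53 zc59) (kc xc31 yc12 zc61) (kc xc14 yc35 zc37) (kc xc18 yc55 zc51) (kc xc30 yc36 zc52) (kc xc31 yc28 zc9) (kc xc14 yc35 zc41) (kc xc14 yc35 zc43) (kc xc31 yc28 zc10) (kc xc30 yc56 zc9) (kc xc23 yc0 zc29) (kc xc15 yc5 zc13)) (@D3.rec (fun _ => Pt) (kc xc20 yc26 zc13) (kc xc14 yc35 zc51) (kc xc25 yc34 zc4) (kc xc31 yc28 zc11) (kc xc17 yc8 zc19) (kc xc31 yc28 zc13) (kc xc14 yc35 zc55) (kc xc31 yc28 zc14) (kc xc14 yc35 zc59) (kc xc19 yc57 zc48) (kc xc20 yc23 zc35) (kc xc18 yc48 zc44) (kc xc14 yc36 zc0) (kc xc14 yc36 zc1) (kc xc30 yc0 zc4) (kc xc20 yc37 zc56)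 (kc xc16 yc59 zc36) (kc xc14 yc36 zc17) (kc xc27 yc7 zc58) (kc xc14 yc36 zc3) (kc xc31 yc28 zc21) (kc xc14 yc36 zc4) (kc xc14 yc36 zc5) (kc xc19 yc15 zc0) (kc xc19 yc15 zc1) (kc xc14 yc37 zc36) (kc xc14 yc36 zc9) (kc xc25 yc15 zc21) (kc xc14 yc37 zc44) (kc xc14 yc36 zc11) (kc xc21 yc41 zc46) (kc xc14 yc37 zc37) (kc xc30 yc8 zc4) (kc xc14 yc37 zc34) (kc xc27 yc43 zc24) (kc xc31 yc28 zc35) (kc xc31 yc28 zc38) (kc xc28 yc45 zc16) (kc xc30 yc27 zc11) (kc xc31 yc28 zc20) (kc xc14 yc37 zc6) (kc xc14 yc36 zc49) (kc xc14 yc36 zc20) (kc xc30 yc37 zc3) (kc xc21 yc45 zc6) (kc xc21 yc58 zc42) (kc xc30 yc11 zc2) (kc xc30 yc5 zc61) (kc xc22 yc8 zc22) (kc xc21 yc43 zc41) (kc xc24 yc24 zc55) (kc xc18 yc0 zc58) (kc xc30 yc39 zc28) (kc xc24 yc2 zc9) (kc xc14 yc36 zc31) (kc xc14 yc36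 zc33) (kc xc31 yc28 zc45) (kc xc14 yc47 zc39) (kc xc14 yc36 zc35) (kc xc21 yc26 zc27) (kc xc18 yc8 zc6) (kc xc14 yc36 zc37)) (@D3.rec (fun _ => Pt) (kc xc31 yc28 zc48) (kc xc14 yc36 zc38) (kc xc15 yc6 zc32) (kc xc19 yc28 zc6) (kc xc15 yc20 zc46) (kc xc31 yc28 zc28) (kc xc21 yc59 zc11) (kc xc17 yc52 zc29) (kc xc24 yc37 zc40) (kc xc28 yc53 zc45) (kc xc31 yc28 zc44) (kc xc19 yc28 zc55) (kc xc24 yc27 zc51) (kc xc14 yc36 zc54) (kc xc14 yc36 zc51) (kc xc14 yc36 zc52) (kc xc14 yc36 zc55) (kc xc24 yc47 zc34) (kc xc23 yc38 zc2) (kc xc25 yc51 zc13) (kc xc15 yc5 zc40) (kc xc14 yc37 zc0) (kc xc31 yc28 zc51) (kc xc14 yc37 zc4) (kc xc31 yc28 zc42) (kc xc24 yc0 zc6) (kc xc31 yc28 zc53) (kc xc14 yc37 zc10) (kc xc14 yc37 zc8) (kc xc19 yc44 zc23) (kc xc25 yc24 zc23) (kc xc14 yc37 zc9)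 (kc xc31 yc21 zc40) (kc xc24 yc3 zc17) (kc xc19 yc38 zc24) (kc xc14 yc37 zc13) (kc xc27 yc51 zc4) (kc xc27 yc36 zc13) (kc xc20 yc48 zc52) (kc xc14 yc37 zc19) (kc xc27 yc25 zc5) (kc xc14 yc37 zc16) (kc xc14 yc37 zc15) (kc xc26 yc28 zc3) (kc xc28 yc41 zc28) (kc xc19 yc58 zc10) (kc xc25 yc33 zc3) (kc xc29 yc12 zc55) (kc xc31 yc28 zc55) (kc xc18 yc0 zc42) (kc xc29 yc48 zc46) (kc xc31 yc28 zc23) (kc xc28 yc50 zc24) (kc xc31 yc28 zc57) (kc xc30 yc49 zc36) (kc xc19 yc44 zc32) (kc xc14 yc37 zc25) (kc xc24 yc36 zc19) (kc xc14 yc37 zc23) (kc xc30 yc36 zc27) (kc xc14 yc37 zc24) (kc xc22 yc6 zc9)) (@D3.rec (fun _ => Pt) (kc xc26 yc36 zc33) (kc xc27 yc19 zc22) (kc xc16 yc42 zc39) (kc xc26 yc37 zc50) (kc xc26 yc34 zc61) (kc xc25 yc51 zc54) (kc xc31 yc28 zc32) (kc xc30 yc56 zc32)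 (kc xc28 yc37 zc16) (kc xc28 yc46 zc20) (kc xc30 yc11 zc3) (kc xc24 yc11 zc53) (kc xc14 yc37 zc39) (kc xc28 yc58 zc38) (kc xc21 yc34 zc9) (kc xc14 yc37 zc40) (kc xc24 yc58 zc14) (kc xc31 yc28 zc26) (kc xc14 yc37 zc46) (kc xc14 yc37 zc49) (kc xc19 yc30 zc33) (kc xc23 yc46 zc11) (kc xc23 yc46 zc12) (kc xc29 yc38 zc6) (kc xc14 yc37 zc54) (kc xc21 yc52 zc51) (kc xc14 yc40 zc31) (kc xc16 yc23 zc16) (kc xc14 yc37 zc56) (kc xc29 yc38 zc13) (kc xc29 yc40 zc16) (kc xc26 yc39 zc2) (kc xc29 yc26 zc13) (kc xc14 yc37 zc57) (kc xc19 yc13 zc41) (kc xc31 yc23 zc14) (kc xc21 yc52 zc50) (kc xc14 yc38 zc3) (kc xc30 yc22 zc27) (kc xc14 yc38 zc4) (kc xc31 yc29 zc21) (kc xc20 yc38 zc44) (kc xc22 yc51 zc37) (kc xc20 yc44 zc54) (kc xc30 yc11 zc54) (kc xc30 yc14 zc55) (kc xc23 yc6 zc55) (kc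 xc22 yc25 zc45) (kc xc28 yc55 zc49) (kc xc22 yc23 zc49) (kc xc28 yc26 zc15) (kc xc28 yc18 zc43) (kc xc22 yc49 zc52) (kc xc14 yc53 zc40) (kc xc14 yc38 zc17) (kc xc29 yc42 zc55) (kc xc14 yc46 zc45) (kc xc14 yc38 zc44) (kc xc14 yc38 zc45) (kc xc15 yc59 zc34) (kc xc14 yc38 zc21) (kc xc23 yc23 zc46)) (@D3.rec (fun _ => Pt) (kc xc30 yc37 zc7) (kc xc30 yc37 zc8) (kc xc28 yc55 zc31) (kc xc15 yc6 zc29) (kc xc26 yc29 zc24) (kc xc14 yc38 zc29) (kc xc14 yc42 zc39) (kc xc14 yc42 zc6) (kc xc14 yc42 zc7) (kc xc23 yc28 zc35) (kc xc14 yc38 zc34) (kc xc14 yc38 zc32) (kc xc24 yc4 zc45) (kc xc14 yc38 zc33) (kc xc19 yc44 zc57) (kc xc19 yc47 zc9) (kc xc26 yc56 zc11) (kc xc25 yc9 zc52) (kc xc14 yc42 zc15) (kc xc14 yc42 zc16) (kc xc15 yc39 zc22) (kc xc24 yc52 zc48) (kc xc24 yc52 zc9) (kc xc14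 yc38 zc38) (kc xc31 yc29 zc35) (kc xc31 yc24 zc47) (kc xc24 yc0 zc1) (kc xc14 yc38 zc40) (kc xc31 yc29 zc38) (kc xc27 yc19 zc45) (kc xc24 yc28 zc50) (kc xc14 yc38 zc42) (kc xc20 yc16 zc34) (kc xc14 yc38 zc43) (kc xc19 yc40 zc48) (kc xc17 yc51 zc58) (kc xc27 yc43 zc42) (kc xc17 yc51 zc49) (kc xc24 yc29 zc11) (kc xc14 yc38 zc52) (kc xc31 yc29 zc40) (kc xc21 yc56 zc59) (kc xc14 yc38 zc54) (kc xc27 yc5 zc22) (kc xc28 yc44 zc39) (kc xc26 yc39 zc11) (kc xc28 yc46 zc18) (kc xc22 yc19 zc49) (kc xc14 yc39 zc4) (kc xc31 yc29 zc47) (kc xc28 yc39 zc50) (kc xc31 yc29 zc43) (kc xc18 yc11 zc10) (kc xc27 yc38 zc26) (kc xc28 yc40 zc36) (kc xc15 yc24 zc15) (kc xc15 yc28 zc1) (kc xc21 yc49 zc36) (kc xc17 yc11 zc52) (kc xc29 yc35 zc55) (kc xc31 yc29 zc50) (kc xc14 yc39 zc12)) (@D3.rec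 (fun _ => Pt) (kc xc14 yc39 zc13) (kc xc14 yc39 zc15) (kc xc15 yc52 zc33) (kc xc14 yc39 zc16) (kc xc29 yc1 zc3) (kc xc14 yc39 zc21) (kc xc31 yc29 zc53) (kc xc25 yc15 zc19) (kc xc14 yc39 zc24) (kc xc22 yc57 zc0) (kc xc22 yc57 zc1) (kc xc14 yc39 zc27) (kc xc29 yc24 zc40) (kc xc25 yc14 zc9) (kc xc28 yc28 zc24) (kc xc31 yc29 zc58) (kc xc31 yc29 zc61) (kc xc14 yc39 zc33) (kc xc15 yc53 zc15) (kc xc14 yc39 zc34) (kc xc31 yc30 zc4) (kc xc14 yc39 zc35) (kc xc14 yc55 zc20) (kc xc29 yc0 zc21) (kc xc14 yc39 zc40) (kc xc20 yc25 zc24) (kc xc22 yc39 zc27) (kc xc19 yc52 zc22) (kc xc14 yc39 zc44) (kc xc31 yc30 zc8) (kc xc14 yc39 zc46) (kc xc14 yc39 zc48) (kc xc20 yc55 zc58) (kc xc27 yc21 zc12) (kc xc14 yc39 zc50) (kc xc16 yc41 zc57) (kc xc20 yc57 zc41) (kc xc26 yc8 zc25) (kc xc20 yc55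 zc57) (kc xc27 yc57 zc54) (kc xc16 yc12 zc8) (kc xc23 yc8 zc27) (kc xc14 yc39 zc54) (kc xc31 yc30 zc11) (kc xc30 yc38 zc50) (kc xc30 yc49 zc14) (kc xc14 yc39 zc56) (kc xc29 yc48 zc26) (kc xc31 yc25 zc47) (kc xc31 yc30 zc16) (kc xc22 yc44 zc3) (kc xc14 yc39 zc57) (kc xc29 yc58 zc10) (kc xc14 yc39 zc60) (kc xc20 yc59 zc3) (kc xc14 yc39 zc61) (kc xc31 yc19 zc42) (kc xc15 yc6 zc14) (kc xc30 yc3 zc6) (kc xc25 yc22 zc6) (kc xc27 yc33 zc20) (kc xc14 yc40 zc3)) (@D3.rec (fun _ => Pt) (kc xc14 yc40 zc1) (kc xc21 yc29 zc13) (kc xc20 yc59 zc4) (kc xc26 yc41 zc56) (kc xc14 yc40 zc4) (kc xc29 yc42 zc23) (kc xc31 yc30 zc23) (kc xc14 yc40 zc7) (kc xc14 yc40 zc6) (kc xc28 yc48 zc35) (kc xc26 yc41 zc55) (kc xc27 yc33 zc19) (kc xc14 yc40 zc12) (kc xc26 yc5 zc6) (kc xc20 yc11 zc39) (kc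 xc22 yc37 zc60) (kc xc24 yc4 zc28) (kc xc24 yc39 zc13) (kc xc21 yc41 zc20) (kc xc28 yc37 zc14) (kc xc30 yc11 zc48) (kc xc14 yc40 zc21) (kc xc29 yc40 zc17) (kc xc30 yc31 zc24) (kc xc14 yc40 zc23) (kc xc31 yc15 zc1) (kc xc24 yc13 zc49) (kc xc14 yc40 zc24) (kc xc31 yc12 zc48) (kc xc14 yc40 zc25) (kc xc31 yc30 zc27) (kc xc30 yc16 zc25) (kc xc30 yc39 zc7) (kc xc22 yc25 zc58) (kc xc22 yc20 zc33) (kc xc31 yc30 zc32) (kc xc31 yc30 zc33) (kc xc22 yc25 zc43) (kc xc22 yc27 zc25) (kc xc14 yc40 zc29) (kc xc22 yc46 zc52) (kc xc30 yc16 zc43) (kc xc24 yc29 zc55) (kc xc22 yc40 zc0) (kc xc23 yc34 zc22) (kc xc23 yc48 zc28) (kc xc24 yc25 zc55) (kc xc22 yc24 zc17) (kc xc28 yc54 zc29) (kc xc22 yc46 zc49) (kc xc20 yc48 zc26) (kc xc14 yc40 zc38) (kc xc28 yc28 zc50) (kc xc14 yc40 zc39) (kc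 xc28 yc38 zc43) (kc xc24 yc19 zc50) (kc xc30 yc54 zc24) (kc xc31 yc12 zc51) (kc xc26 yc39 zc1) (kc xc14 yc40 zc46) (kc xc14 yc40 zc45) (kc xc31 yc29 zc44)) (@D3.rec (fun _ => Pt) (kc xc31 yc29 zc45) (kc xc31 yc30 zc48) (kc xc31 yc30 zc45) (kc xc22 yc46 zc53) (kc xc31 yc30 zc51) (kc xc14 yc40 zc50) (kc xc14 yc40 zc48) (kc xc26 yc57 zc0) (kc xc14 yc40 zc49) (kc xc22 yc40 zc52) (kc xc22 yc40 zc51) (kc xc22 yc40 zc56) (kc xc22 yc25 zc8) (kc xc31 yc30 zc55) (kc xc19 yc35 zc17) (kc xc30 yc30 zc11) (kc xc31 yc30 zc57) (kc xc26 yc39 zc38) (kc xc26 yc39 zc45) (kc xc14 yc40 zc60) (kc xc31 yc30 zc58) (kc xc31 yc30 zc59) (kc xc29 yc45 zc33) (kc xc14 yc41 zc1) (kc xc20 yc23 zc20) (kc xc17 yc27 zc14) (kc xc20 yc48 zc10) (kc xc21 yc13 zc18) (kc xc30 yc11 zc41) (kc xc14 yc44 zc24)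 (kc xc26 yc9 zc15) (kc xc24 yc25 zc34) (kc xc31 yc31 zc0) (kc xc14 yc41 zc6) (kc xc24 yc25 zc31) (kc xc14 yc41 zc7) (kc xc16 yc57 zc33) (kc xc20 yc33 zc22) (kc xc19 yc33 zc45) (kc xc18 yc41 zc22) (kc xc16 yc32 zc55) (kc xc21 yc55 zc1) (kc xc19 yc31 zc61) (kc xc14 yc41 zc12) (kc xc31 yc31 zc9) (kc xc14 yc41 zc13) (kc xc22 yc27 zc26) (kc xc14 yc41 zc15) (kc xc31 yc31 zc14) (kc xc14 yc41 zc16) (kc xc30 yc15 zc42) (kc xc22 yc0 zc41) (kc xc31 yc18 zc60) (kc xc14 yc41 zc20) (kc xc31 yc18 zc2) (kc xc24 yc24 zc46) (kc xc14 yc41 zc22) (kc xc24 yc17 zc56) (kc xc28 yc44 zc59) (kc xc22 yc27 zc14) (kc xc14 yc41 zc25) (kc xc31 yc31 zc19)) (@D3.rec (fun _ => Pt) (kc xc31 yc31 zc18) (kc xc14 yc41 zc27) (kc xc30 yc23 zc46) (kc xc30 yc23 zc45) (kc xc14 yc41 zc29) (kc xc25 yc10 zc29)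 (kc xc14 yc41 zc30) (kc xc31 yc7 zc3) (kc xc25 yc14 zc7) (kc xc14 yc41 zc32) (kc xc19 yc57 zc15) (kc xc24 yc14 zc21) (kc xc20 yc11 zc14) (kc xc25 yc14 zc2) (kc xc24 yc37 zc30) (kc xc30 yc30 zc9) (kc xc30 yc8 zc24) (kc xc30 yc31 zc23) (kc xc28 yc20 zc24) (kc xc14 yc41 zc39) (kc xc31 yc31 zc35) (kc xc22 yc0 zc53) (kc xc31 yc18 zc40) (kc xc22 yc24 zc40) (kc xc14 yc41 zc42) (kc xc31 yc31 zc39) (kc xc22 yc0 zc40) (kc xc30 yc29 zc36) (kc xc31 yc31 zc42) (kc xc31 yc31 zc43) (kc xc29 yc44 zc8) (kc xc19 yc19 zc6) (kc xc19 yc47 zc20) (kc xc30 yc29 zc35) (kc xc14 yc41 zc49) (kc xc31 yc31 zc46) (kc xc31 yc31 zc48) (kc xc31 yc31 zc16) (kc xc31 yc26 zc24) (kc xc31 yc31 zc13) (kc xc21 yc53 zc20) (kc xc27 yc39 zc16) (kc xc19 yc18 zc32) (kc xc14 yc42 zc20) (kc xc29 yc33 zc22) (kc xc31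 yc31 zc8) (kc xc14 yc41 zc53) (kc xc31 yc31 zc54) (kc xc27 yc2 zc38) (kc xc14 yc41 zc58) (kc xc14 yc41 zc55) (kc xc30 yc29 zc25) (kc xc14 yc41 zc56) (kc xc17 yc24 zc44) (kc xc14 yc41 zc60) (kc xc14 yc42 zc36) (kc xc31 yc13 zc57) (kc xc14 yc42 zc1) (kc xc31 yc31 zc59) (kc xc19 yc17 zc21) (kc xc31 yc32 zc0) (kc xc14 yc42 zc3)) (@D3.rec (fun _ => Pt) (kc xc31 yc32 zc4) (kc xc17 yc36 zc11) (kc xc31 yc32 zc3) (kc xc24 yc36 zc41) (kc xc24 yc37 zc23) (kc xc31 yc9 zc49) (kc xc14 yc42 zc8) (kc xc28 yc48 zc50) (kc xc23 yc11 zc25) (kc xc30 yc49 zc7) (kc xc23 yc0 zc11) (kc xc28 yc34 zc8) (kc xc14 yc42 zc9) (kc xc22 yc43 zc58) (kc xc31 yc32 zc10) (kc xc23 yc58 zc15) (kc xc19 yc50 zc55) (kc xc14 yc42 zc13) (kc xc19 yc37 zc6) (kc xc14 yc42 zc12) (kc xc23 yc45 zc20) (kc xc31 yc32 zc16)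 (kc xc27 yc29 zc32) (kc xc31 yc32 zc15) (kc xc28 yc31 zc43) (kc xc28 yc31 zc39) (kc xc31 yc32 zc13) (kc xc23 yc58 zc57) (kc xc30 yc6 zc40) (kc xc14 yc42 zc17) (kc xc19 yc35 zc0) (kc xc17 yc21 zc6) (kc xc29 yc50 zc9) (kc xc31 yc28 zc50) (kc xc21 yc47 zc17) (kc xc14 yc42 zc18) (kc xc29 yc46 zc55) (kc xc14 yc42 zc19) (kc xc31 yc20 zc19) (kc xc16 yc48 zc10) (kc xc16 yc41 zc23) (kc xc16 yc48 zc1) (kc xc25 yc12 zc16) (kc xc14 yc42 zc23) (kc xc16 yc5 zc24) (kc xc31 yc32 zc26) (kc xc15 yc53 zc51) (kc xc14 yc42 zc26) (kc xc15 yc44 zc13) (kc xc16 yc5 zc22) (kc xc22 yc15 zc61) (kc xc24 yc20 zc12) (kc xc26 yc1 zc60) (kc xc26 yc1 zc61) (kc xc24 yc35 zc7) (kc xc30 yc49 zc12) (kc xc22 yc22 zc20) (kc xc15 yc44 zc48) (kc xc18 yc48 zc57) (kc xc20 yc24 zc40) (kc xc30 yc38 zc54) (kc xc30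 yc38 zc55)) (@D3.rec (fun _ => Pt) (kc xc29 yc43 zc50) (kc xc14 yc42 zc43) (kc xc20 yc5 zc50) (kc xc24 yc9 zc45) (kc xc22 yc40 zc42) (kc xc27 yc40 zc53) (kc xc23 yc36 zc2) (kc xc22 yc46 zc21) (kc xc22 yc46 zc22) (kc xc17 yc33 zc60) (kc xc14 yc42 zc53) (kc xc23 yc38 zc52) (kc xc14 yc42 zc54) (kc xc14 yc42 zc55) (kc xc19 yc1 zc21) (kc xc16 yc15 zc44) (kc xc28 yc44 zc12) (kc xc14 yc42 zc59) (kc xc24 yc40 zc39) (kc xc14 yc43 zc6) (kc xc28 yc20 zc22) (kc xc14 yc42 zc61) (kc xc27 yc58 zc10) (kc xc19 yc1 zc15) (kc xc14 yc43 zc2) (kc xc28 yc9 zc36) (kc xc14 yc43 zc4) (kc xc18 yc28 zc44) (kc xc31 yc32 zc40) (kc xc23 yc14 zc17) (kc xc18 yc13 zc57) (kc xc14 yc43 zc11) (kc xc19 yc29 zc51) (kc xc31 yc18 zc59) (kc xc28 yc26 zc18) (kc xc19 yc51 zc29) (kc xc26 yc38 zc30) (kc xc14 yc43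 zc17) (kc xc19 yc18 zc58) (kc xc19 yc17 zc33) (kc xc14 yc43 zc19) (kc xc17 yc21 zc9) (kc xc22 yc23 zc11) (kc xc26 yc56 zc40) (kc xc14 yc43 zc22) (kc xc28 yc48 zc39) (kc xc31 yc17 zc39) (kc xc25 yc11 zc28) (kc xc16 yc22 zc29) (kc xc26 yc2 zc27) (kc xc24 yc22 zc30) (kc xc14 yc43 zc36) (kc xc28 yc26 zc35) (kc xc31 yc32 zc37) (kc xc31 yc22 zc22) (kc xc28 yc26 zc20) (kc xc14 yc43 zc27) (kc xc29 yc18 zc37) (kc xc25 yc51 zc46) (kc xc14 yc43 zc28) (kc xc29 yc19 zc33) (kc xc20 yc7 zc50)) (@D3.rec (fun _ => Pt) (kc xc30 yc44 zc12) (kc xc14 yc43 zc29) (kc xc28 yc43 zc31) (kc xc14 yc43 zc31) (kc xc31 yc32 zc47) (kc xc28 yc44 zc7) (kc xc22 yc36 zc10) (kc xc14 yc43 zc50) (kc xc25 yc46 zc39) (kc xc14 yc43 zc33) (kc xc16 yc21 zc15) (kc xc24 yc22 zc38) (kc xc14 yc43 zc35) (kc xc22 yc38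 zc20) (kc xc25 yc51 zc61) (kc xc30 yc47 zc33) (kc xc28 yc43 zc47) (kc xc14 yc43 zc38) (kc xc31 yc32 zc51) (kc xc15 yc3 zc4) (kc xc31 yc32 zc52) (kc xc14 yc43 zc41) (kc xc16 yc12 zc38) (kc xc30 yc46 zc54) (kc xc15 yc18 zc26) (kc xc25 yc11 zc59) (kc xc31 yc32 zc54) (kc xc14 yc43 zc46) (kc xc31 yc32 zc56) (kc xc14 yc43 zc47) (kc xc31 yc32 zc58) (kc xc31 yc32 zc46) (kc xc31 yc32 zc59) (kc xc14 yc43 zc49) (kc xc16 yc33 zc9) (kc xc29 yc9 zc11) (kc xc16 yc56 zc61) (kc xc26 yc0 zc36) (kc xc15 yc43 zc45) (kc xc16 yc6 zc19) (kc xc30 yc29 zc3) (kc xc28 yc46 zc17) (kc xc14 yc44 zc6) (kc xc26 yc33 zc57) (kc xc14 yc43 zc61) (kc xc31 yc33 zc7) (kc xc31 yc33 zc9) (kc xc31 yc33 zc11) (kc xc31 yc33 zc6) (kc xc14 yc44 zc0) (kc xc29 yc34 zc10) (kc xc30 yc28 zc13) (kc xc14 yc44 zc3) (kc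 xc30 yc22 zc21) (kc xc30 yc22 zc26) (kc xc24 yc24 zc42) (kc xc31 yc33 zc17) (kc xc31 yc33 zc19) (kc xc31 yc33 zc3) (kc xc29 yc45 zc22) (kc xc14 yc44 zc11) (kc xc30 yc28 zc17)) (@D3.rec (fun _ => Pt) (kc xc31 yc33 zc22) (kc xc31 yc23 zc61) (kc xc27 yc16 zc21) (kc xc30 yc23 zc37) (kc xc27 yc16 zc20) (kc xc30 yc8 zc3) (kc xc30 yc38 zc29) (kc xc28 yc38 zc57) (kc xc20 yc48 zc27) (kc xc14 yc44 zc12) (kc xc14 yc44 zc13) (kc xc28 yc48 zc47) (kc xc22 yc23 zc59) (kc xc30 yc15 zc34) (kc xc14 yc44 zc15) (kc xc30 yc30 zc32) (kc xc24 yc6 zc48) (kc xc31 yc33 zc30) (kc xc25 yc18 zc50) (kc xc22 yc0 zc58) (kc xc20 yc48 zc8) (kc xc30 yc11 zc37) (kc xc31 yc22 zc53) (kc xc14 yc44 zc20) (kc xc31 yc33 zc38) (kc xc14 yc44 zc18) (kc xc22 yc58 zc42) (kc xc31 yc26 zc15) (kc xc14 yc44 zc19) (kc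 xc14 yc44 zc22) (kc xc17 yc55 zc28) (kc xc27 yc20 zc16) (kc xc18 yc0 zc46) (kc xc20 yc13 zc42) (kc xc15 yc6 zc33) (kc xc20 yc0 zc34) (kc xc28 yc53 zc15) (kc xc14 yc44 zc32) (kc xc26 yc48 zc23) (kc xc31 yc33 zc41) (kc xc29 yc13 zc48) (kc xc25 yc52 zc1) (kc xc16 yc3 zc22) (kc xc14 yc44 zc37) (kc xc21 yc24 zc30) (kc xc14 yc44 zc35) (kc xc17 yc36 zc18) (kc xc26 yc12 zc47) (kc xc14 yc44 zc36) (kc xc25 yc29 zc36) (kc xc31 yc33 zc44) (kc xc23 yc27 zc50) (kc xc26 yc4 zc16) (kc xc14 yc44 zc41) (kc xc27 yc45 zc29) (kc xc14 yc44 zc47) (kc xc31 yc33 zc45) (kc xc16 yc59 zc48) (kc xc27 yc23 zc40) (kc xc14 yc44 zc50) (kc xc16 yc13 zc17) (kc xc26 yc46 zc2)) (@D3.rec (fun _ => Pt) (kc xc31 yc33 zc46) (kc xc27 yc57 zc39) (kc xc20 yc27 zc58) (kc xc31 yc0 zc48) (kc xc18 yc2 zc15) (kc xc28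 yc14 zc2) (kc xc14 yc44 zc54) (kc xc14 yc47 zc6) (kc xc28 yc28 zc4) (kc xc14 yc44 zc60) (kc xc30 yc58 zc26) (kc xc30 yc35 zc10) (kc xc22 yc31 zc24) (kc xc25 yc18 zc15) (kc xc23 yc52 zc24) (kc xc20 yc33 zc8) (kc xc29 yc30 zc9) (kc xc31 yc33 zc49) (kc xc29 yc11 zc46) (kc xc31 yc33 zc51) (kc xc30 yc13 zc28) (kc xc14 yc45 zc8) (kc xc14 yc45 zc10) (kc xc20 yc13 zc44) (kc xc30 yc13 zc21) (kc xc18 yc18 zc27) (kc xc26 yc9 zc9) (kc xc28 yc43 zc44) (kc xc14 yc45 zc19) (kc xc30 yc59 zc59) (kc xc31 yc33 zc54) (kc xc31 yc12 zc21) (kc xc23 yc33 zc45) (kc xc14 yc45 zc27) (kc xc14 yc45 zc28) (kc xc15 yc13 zc44) (kc xc23 yc18 zc16) (kc xc31 yc34 zc0) (kc xc14 yc45 zc24) (kc xc14 yc45 zc22) (kc xc14 yc45 zc23) (kc xc31 yc34 zc4) (kc xc18 yc41 zc5) (kc xc14 yc45 zc25) (kc xc31 yc34 zc5)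 (kc xc23 yc21 zc40) (kc xc14 yc45 zc26) (kc xc23 yc16 zc37) (kc xc31 yc33 zc57) (kc xc31 yc33 zc59) (kc xc20 yc6 zc3) (kc xc24 yc47 zc1) (kc xc14 yc45 zc36) (kc xc29 yc44 zc11) (kc xc14 yc45 zc41) (kc xc16 yc11 zc10) (kc xc29 yc50 zc5) (kc xc14 yc45 zc44) (kc xc14 yc45 zc43) (kc xc29 yc45 zc46) (kc xc23 yc24 zc3) (kc xc14 yc45 zc45)) (@D3.rec (fun _ => Pt) (kc xc26 yc37 zc26) (kc xc14 yc45 zc46) (kc xc19 yc54 zc51) (kc xc14 yc45 zc58) (kc xc28 yc40 zc11) (kc xc14 yc45 zc50) (kc xc20 yc13 zc16) (kc xc30 yc12 zc42) (kc xc14 yc45 zc54) (kc xc30 yc18 zc16) (kc xc31 yc29 zc29) (kc xc22 yc5 zc32) (kc xc14 yc45 zc55) (kc xc21 yc47 zc49) (kc xc16 yc42 zc14) (kc xc29 yc58 zc36) (kc xc21 yc59 zc9) (kc xc14 yc46 zc2) (kc xc24 yc33 zc52) (kc xc20 yc17 zc9) (kc xc16 yc27 zc34) (kc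 xc14 yc46 zc7) (kc xc26 yc7 zc50) (kc xc17 yc41 zc46) (kc xc20 yc56 zc55) (kc xc14 yc46 zc13) (kc xc14 yc46 zc12) (kc xc25 yc20 zc35) (kc xc14 yc46 zc14) (kc xc15 yc1 zc20) (kc xc15 yc49 zc22) (kc xc14 yc46 zc19) (kc xc20 yc15 zc56) (kc xc20 yc15 zc55) (kc xc18 yc3 zc47) (kc xc17 yc41 zc47) (kc xc23 yc1 zc51) (kc xc23 yc22 zc45) (kc xc23 yc22 zc46) (kc xc14 yc46 zc29) (kc xc14 yc46 zc27) (kc xc23 yc30 zc37) (kc xc26 yc6 zc24) (kc xc21 yc37 zc0) (kc xc14 yc46 zc32) (kc xc15 yc44 zc20) (kc xc21 yc7 zc6) (kc xc14 yc46 zc40) (kc xc17 yc12 zc35) (kc xc22 yc21 zc11) (kc xc18 yc25 zc49) (kc xc14 yc46 zc42) (kc xc20 yc57 zc46) (kc xc25 yc17 zc27) (kc xc21 yc42 zc31) (kc xc23 yc35 zc24) (kc xc23 yc59 zc21) (kc xc14 yc46 zc47) (kc xc17 yc48 zc26) (kc xc17 yc48 zc27) (kc xc22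 yc5 zc33) (kc xc14 yc46 zc49)) (@D3.rec (fun _ => Pt) (kc xc31 yc13 zc2) (kc xc14 yc46 zc51) (kc xc14 yc46 zc52) (kc xc27 yc38 zc17) (kc xc18 yc18 zc31) (kc xc27 yc38 zc20) (kc xc14 yc46 zc54) (kc xc17 yc59 zc23) (kc xc30 yc26 zc7) (kc xc17 yc33 zc37) (kc xc24 yc37 zc0) (kc xc29 yc51 zc61) (kc xc24 yc37 zc1) (kc xc18 yc37 zc58) (kc xc14 yc46 zc59) (kc xc20 yc13 zc15) (kc xc14 yc46 zc61) (kc xc14 yc47 zc1) (kc xc28 yc51 zc29) (kc xc14 yc47 zc2) (kc xc14 yc47 zc3) (kc xc31 yc34 zc23) (kc xc14 yc47 zc4) (kc xc14 yc51 zc35) (kc xc31 yc21 zc10) (kc xc14 yc47 zc8) (kc xc28 yc54 zc21) (kc xc17 yc59 zc24) (kc xc18 yc0 zc52) (kc xc22 yc22 zc16) (kc xc25 yc19 zc26) (kc xc25 yc19 zc23) (kc xc20 yc57 zc49) (kc xc28 yc11 zc40) (kc xc26 yc22 zc40) (kc xc29 yc40 zc36) (kc xc14 yc47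 zc18) (kc xc29 yc48 zc36) (kc xc14 yc47 zc20) (kc xc20 yc50 zc14) (kc xc14 yc51 zc33) (kc xc14 yc51 zc32) (kc xc30 yc48 zc1) (kc xc14 yc47 zc23) (kc xc29 yc16 zc56) (kc xc29 yc48 zc40) (kc xc31 yc8 zc41) (kc xc18 yc52 zc46) (kc xc14 yc47 zc26) (kc xc19 yc26 zc15) (kc xc24 yc5 zc10) (kc xc29 yc43 zc0) (kc xc24 yc32 zc18) (kc xc17 yc23 zc33) (kc xc14 yc47 zc32) (kc xc14 yc47 zc29) (kc xc31 yc34 zc40) (kc xc21 yc47 zc58) (kc xc14 yc47 zc30) (kc xc31 yc27 zc35) (kc xc31 yc27 zc36) (kc xc31 yc27 zc20)) (@D3.rec (fun _ => Pt) (kc xc14 yc47 zc33) (kc xc25 yc11 zc9) (kc xc14 yc51 zc27) (kc xc22 yc21 zc8) (kc xc31 yc21 zc59) (kc xc14 yc47 zc35) (kc xc25 yc11 zc10) (kc xc18 yc18 zc25) (kc xc14 yc47 zc41) (kc xc16 yc41 zc56) (kc xc14 yc54 zc22) (kc xc14 yc54 zc21) (kc xc16 yc42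 zc13) (kc xc31 yc34 zc43) (kc xc25 yc31 zc19) (kc xc26 yc42 zc13) (kc xc26 yc15 zc5) (kc xc14 yc47 zc49) (kc xc18 yc0 zc44) (kc xc27 yc35 zc54) (kc xc20 yc43 zc47) (kc xc21 yc58 zc9) (kc xc27 yc25 zc32) (kc xc25 yc11 zc60) (kc xc29 yc59 zc59) (kc xc15 yc22 zc43) (kc xc20 yc57 zc17) (kc xc22 yc12 zc11) (kc xc21 yc50 zc17) (kc xc24 yc39 zc14) (kc xc26 yc9 zc18) (kc xc19 yc30 zc58) (kc xc14 yc48 zc19) (kc xc15 yc25 zc28) (kc xc29 yc40 zc60) (kc xc14 yc48 zc21) (kc xc28 yc33 zc36) (kc xc28 yc34 zc2) (kc xc14 yc48 zc23) (kc xc19 yc45 zc24) (kc xc19 yc45 zc23) (kc xc28 yc33 zc61) (kc xc19 yc31 zc15) (kc xc14 yc48 zc30) (kc xc14 yc48 zc36) (kc xc25 yc24 zc13) (kc xc22 yc19 zc48) (kc xc14 yc48 zc34) (kc xc14 yc48 zc41) (kc xc14 yc48 zc38) (kc xc29 yc4 zc21) (kc xc30 yc51 zc39)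 (kc xc30 yc51 zc40) (kc xc29 yc57 zc2) (kc xc20 yc17 zc10) (kc xc23 yc4 zc58) (kc xc19 yc41 zc1) (kc xc19 yc40 zc57) (kc xc30 yc7 zc39) (kc xc14 yc48 zc48) (kc xc29 yc6 zc37) (kc xc24 yc8 zc46)) (@D3.rec (fun _ => Pt) (kc xc14 yc48 zc50) (kc xc25 yc55 zc17) (kc xc25 yc55 zc16) (kc xc30 yc19 zc55) (kc xc21 yc41 zc38) (kc xc19 yc50 zc37) (kc xc14 yc48 zc55) (kc xc24 yc27 zc54) (kc xc14 yc48 zc59) (kc xc20 yc56 zc47) (kc xc31 yc34 zc29) (kc xc14 yc49 zc0) (kc xc14 yc48 zc61) (kc xc30 yc17 zc29) (kc xc14 yc49 zc1) (kc xc31 yc34 zc60) (kc xc14 yc49 zc2) (kc xc19 yc54 zc60) (kc xc14 yc49 zc20) (kc xc26 yc36 zc31) (kc xc14 yc49 zc4) (kc xc26 yc40 zc29) (kc xc17 yc2 zc28) (kc xc25 yc50 zc39) (kc xc14 yc49 zc11) (kc xc14 yc49 zc12) (kc xc22 yc21 zc16) (kc xc22 yc21 zc17) (kc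 xc31 yc34 zc55) (kc xc31 yc35 zc10) (kc xc14 yc49 zc14) (kc xc31 yc35 zc11) (kc xc31 yc35 zc12) (kc xc31 yc35 zc13) (kc xc25 yc48 zc45) (kc xc30 yc9 zc14) (kc xc26 yc4 zc57) (kc xc21 yc23 zc20) (kc xc29 yc43 zc9) (kc xc31 yc35 zc3) (kc xc14 yc49 zc22) (kc xc25 yc33 zc17) (kc xc25 yc33 zc16) (kc xc15 yc52 zc43) (kc xc15 yc52 zc42) (kc xc25 yc48 zc54) (kc xc14 yc49 zc26) (kc xc24 yc37 zc22) (kc xc31 yc35 zc17) (kc xc28 yc18 zc49) (kc xc22 yc41 zc29) (kc xc14 yc49 zc29) (kc xc14 yc49 zc32) (kc xc14 yc49 zc34) (kc xc27 yc17 zc31) (kc xc24 yc40 zc55) (kc xc14 yc49 zc37) (kc xc15 yc35 zc24) (kc xc14 yc49 zc38) (kc xc23 yc36 zc24) (kc xc14 yc49 zc42) (kc xc31 yc35 zc20)) (@D3.rec (fun _ => Pt) (kc xc14 yc49 zc40) (kc xc16 yc7 zc26) (kc xc28 yc58 zc8) (kc xc28 yc58 zc11) (kc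 xc29 yc0 zc15) (kc xc17 yc54 zc13) (kc xc14 yc49 zc48) (kc xc31 yc35 zc21) (kc xc14 yc53 zc59) (kc xc14 yc53 zc58) (kc xc14 yc49 zc52) (kc xc31 yc35 zc23) (kc xc14 yc49 zc54) (kc xc22 yc10 zc6) (kc xc31 yc14 zc31) (kc xc21 yc22 zc41) (kc xc18 yc25 zc33) (kc xc20 yc52 zc23) (kc xc21 yc9 zc13) (kc xc24 yc20 zc57) (kc xc14 yc50 zc4) (kc xc31 yc35 zc26) (kc xc24 yc53 zc22) (kc xc15 yc0 zc1) (kc xc29 yc37 zc24) (kc xc26 yc50 zc18) (kc xc31 yc35 zc28) (kc xc14 yc50 zc9) (kc xc20 yc38 zc60) (kc xc19 yc48 zc54) (kc xc14 yc50 zc10) (kc xc26 yc36 zc54) (kc xc16 yc49 zc24) (kc xc28 yc25 zc29) (kc xc29 yc37 zc31) (kc xc14 yc50 zc15) (kc xc14 yc50 zc16) (kc xc21 yc44 zc14) (kc xc14 yc50 zc22) (kc xc31 yc35 zc35) (kc xc14 yc50 zc23) (kc xc24 yc27 zc3) (kc xc21 yc11 zc44) (kc xc14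 yc50 zc32) (kc xc14 yc50 zc31) (kc xc27 yc5 zc23) (kc xc21 yc29 zc35) (kc xc16 yc29 zc15) (kc xc17 yc2 zc29) (kc xc19 yc37 zc40) (kc xc29 yc37 zc26) (kc xc16 yc5 zc3) (kc xc20 yc4 zc43) (kc xc14 yc50 zc41) (kc xc25 yc14 zc51) (kc xc31 yc35 zc32) (kc xc24 yc17 zc39) (kc xc25 yc14 zc18) (kc xc31 yc3 zc7) (kc xc28 yc42 zc11) (kc xc29 yc16 zc47) (kc xc31 yc3 zc9)) (@D3.rec (fun _ => Pt) (kc xc24 yc33 zc10) (kc xc24 yc33 zc12) (kc xc29 yc7 zc4) (kc xc14 yc50 zc46) (kc xc21 yc57 zc57) (kc xc14 yc50 zc48) (kc xc14 yc50 zc50) (kc xc31 yc35 zc48) (kc xc25 yc13 zc17) (kc xc30 yc41 zc57) (kc xc30 yc9 zc46) (kc xc31 yc34 zc47) (kc xc23 yc39 zc21) (kc xc24 yc51 zc58) (kc xc18 yc4 zc34) (kc xc20 yc57 zc61) (kc xc23 yc43 zc8) (kc xc14 yc50 zc56) (kc xc31 yc35 zc59) (kc xc29 yc6 zc49)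 (kc xc15 yc18 zc20) (kc xc22 yc26 zc49) (kc xc24 yc35 zc47) (kc xc24 yc27 zc4) (kc xc31 yc36 zc3) (kc xc14 yc51 zc4) (kc xc22 yc44 zc36) (kc xc30 yc9 zc20) (kc xc29 yc46 zc43) (kc xc14 yc51 zc5) (kc xc24 yc26 zc14) (kc xc23 yc33 zc25) (kc xc26 yc40 zc20) (kc xc14 yc51 zc10) (kc xc14 yc51 zc11) (kc xc31 yc36 zc6) (kc xc29 yc23 zc3) (kc xc29 yc32 zc9) (kc xc23 yc56 zc26) (kc xc29 yc9 zc41) (kc xc24 yc20 zc8) (kc xc21 yc57 zc17) (kc xc26 yc54 zc57) (kc xc14 yc51 zc24) (kc xc21 yc23 zc6) (kc xc26 yc44 zc51) (kc xc14 yc51 zc25) (kc xc21 yc23 zc9) (kc xc26 yc54 zc31) (kc xc20 yc1 zc44) (kc xc29 yc13 zc2) (kc xc25 yc37 zc33) (kc xc14 yc51 zc29) (kc xc28 yc30 zc37) (kc xc31 yc35 zc14) (kc xc15 yc38 zc5) (kc xc26 yc42 zc9) (kc xc27 yc11 zc30) (kc xc29 yc33 zc14) (kc xc25 yc10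 zc32) (kc xc25 yc9 zc26) (kc xc31 yc34 zc25)) (@D3.rec (fun _ => Pt) (kc xc14 yc51 zc37) (kc xc30 yc9 zc45) (kc xc30 yc9 zc44) (kc xc31 yc36 zc17) (kc xc29 yc53 zc27) (kc xc14 yc51 zc40) (kc xc27 yc21 zc33) (kc xc25 yc50 zc8) (kc xc26 yc23 zc53) (kc xc15 yc31 zc45) (kc xc14 yc51 zc45) (kc xc25 yc21 zc29) (kc xc15 yc12 zc16) (kc xc15 yc12 zc17) (kc xc25 yc7 zc9) (kc xc22 yc21 zc58) (kc xc14 yc51 zc49) (kc xc28 yc48 zc46) (kc xc29 yc23 zc8) (kc xc22 yc38 zc14) (kc xc15 yc55 zc48) (kc xc30 yc55 zc49) (kc xc20 yc59 zc11) (kc xc14 yc51 zc57) (kc xc14 yc51 zc54) (kc xc22 yc42 zc53) (kc xc31 yc36 zc29) (kc xc31 yc36 zc31) (kc xc14 yc51 zc55) (kc xc30 yc4 zc49) (kc xc30 yc4 zc48) (kc xc22 yc43 zc52) (kc xc21 yc55 zc27) (kc xc22 yc56 zc15) (kc xc14 yc52 zc0) (kc xc26 yc30 zc41)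 (kc xc29 yc6 zc57) (kc xc29 yc6 zc58) (kc xc29 yc35 zc29) (kc xc26 yc22 zc53) (kc xc25 yc25 zc60) (kc xc29 yc37 zc14) (kc xc14 yc52 zc6) (kc xc22 yc33 zc61) (kc xc17 yc4 zc11) (kc xc21 yc40 zc28) (kc xc22 yc20 zc56) (kc xc22 yc20 zc57) (kc xc20 yc37 zc6) (kc xc14 yc52 zc15) (kc xc18 yc7 zc18) (kc xc31 yc36 zc39) (kc xc31 yc36 zc40) (kc xc14 yc52 zc16) (kc xc18 yc7 zc25) (kc xc20 yc43 zc21) (kc xc14 yc52 zc18) (kc xc14 yc52 zc19) (kc xc19 yc44 zc29) (kc xc30 yc51 zc30) (kc xc27 yc42 zc43) (kc xc22 yc41 zc6)) (@D3.rec (fun _ => Pt) (kc xc28 yc33 zc59) (kc xc22 yc41 zc55) (kc xc23 yc56 zc23) (kc xc23 yc56 zc24) (kc xc24 yc16 zc54) (kc xc28 yc33 zc35) (kc xc25 yc12 zc45) (kc xc28 yc32 zc13) (kc xc14 yc52 zc29) (kc xc23 yc5 zc48) (kc xc21 yc45 zc27) (kc xc14 yc52 zc32) (kc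 xc17 yc51 zc20) (kc xc24 yc24 zc17) (kc xc24 yc34 zc29) (kc xc14 yc52 zc40) (kc xc29 yc26 zc57) (kc xc26 yc10 zc58) (kc xc26 yc10 zc32) (kc xc24 yc10 zc24) (kc xc27 yc23 zc24) (kc xc31 yc26 zc19) (kc xc21 yc22 zc44) (kc xc20 yc45 zc5) (kc xc17 yc59 zc45) (kc xc14 yc52 zc45) (kc xc27 yc13 zc12) (kc xc25 yc25 zc35) (kc xc14 yc52 zc50) (kc xc20 yc59 zc9) (kc xc14 yc52 zc52) (kc xc27 yc59 zc2) (kc xc16 yc48 zc22) (kc xc19 yc37 zc27) (kc xc17 yc57 zc36) (kc xc29 yc50 zc43) (kc xc30 yc27 zc45) (kc xc14 yc52 zc59) (kc xc21 yc48 zc30) (kc xc21 yc55 zc8) (kc xc14 yc53 zc0) (kc xc17 yc58 zc61) (kc xc21 yc32 zc24) (kc xc21 yc32 zc23) (kc xc14 yc53 zc7) (kc xc31 yc26 zc61) (kc xc31 yc36 zc49) (kc xc25 yc15 zc5) (kc xc25 yc15 zc9) (kc xc31 yc17 zc40) (kc xc27 yc41 zc16) (kc xc19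 yc17 zc10) (kc xc14 yc53 zc12) (kc xc28 yc57 zc56) (kc xc20 yc15 zc14) (kc xc18 yc0 zc37) (kc xc29 yc7 zc29) (kc xc14 yc53 zc16) (kc xc31 yc36 zc55) (kc xc31 yc36 zc57) (kc xc31 yc36 zc60) (kc xc15 yc59 zc48)) (@D3.rec (fun _ => Pt) (kc xc24 yc42 zc25) (kc xc31 yc36 zc61) (kc xc14 yc53 zc20) (kc xc31 yc37 zc1) (kc xc25 yc58 zc61) (kc xc29 yc57 zc0) (kc xc14 yc53 zc22) (kc xc30 yc9 zc61) (kc xc14 yc53 zc24) (kc xc14 yc53 zc29) (kc xc23 yc28 zc29) (kc xc23 yc28 zc30) (kc xc21 yc39 zc36) (kc xc17 yc28 zc8) (kc xc14 yc53 zc27) (kc xc31 yc37 zc8) (kc xc21 yc17 zc20) (kc xc31 yc37 zc10) (kc xc14 yc53 zc28) (kc xc28 yc3 zc44) (kc xc25 yc58 zc51) (kc xc28 yc26 zc24) (kc xc21 yc41 zc17) (kc xc22 yc18 zc47) (kc xc24 yc55 zc20) (kc xc14 yc53 zc35) (kc xc30 yc23 zc12) (kc xc22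 yc18 zc49) (kc xc27 yc34 zc51) (kc xc23 yc6 zc34) (kc xc27 yc55 zc59) (kc xc18 yc36 zc11) (kc xc18 yc49 zc15) (kc xc14 yc53 zc41) (kc xc18 yc59 zc8) (kc xc27 yc54 zc8) (kc xc22 yc41 zc46) (kc xc30 yc5 zc37) (kc xc22 yc29 zc59) (kc xc24 yc28 zc18) (kc xc24 yc44 zc22) (kc xc14 yc53 zc52) (kc xc31 yc15 zc20) (kc xc30 yc36 zc57) (kc xc30 yc1 zc15) (kc xc14 yc53 zc53) (kc xc18 yc3 zc52) (kc xc30 yc19 zc39) (kc xc14 yc53 zc55) (kc xc26 yc16 zc39) (kc xc14 yc53 zc57) (kc xc29 yc59 zc53) (kc xc26 yc12 zc54) (kc xc21 yc31 zc0) (kc xc17 yc53 zc57) (kc xc24 yc35 zc55) (kc xc14 yc54 zc0) (kc xc18 yc13 zc25) (kc xc14 yc53 zc61) (kc xc31 yc37 zc19) (kc xc31 yc37 zc20) (kc xc27 yc24 zc58)) (@D3.rec (fun _ => Pt) (kc xc26 yc18 zc9) (kc xc18 yc6 zc10) (kc xc25 yc15 zc27) (kc xc18 yc1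 zc35) (kc xc14 yc54 zc4) (kc xc14 yc54 zc2) (kc xc21 yc28 zc13) (kc xc22 yc8 zc14) (kc xc22 yc1 zc50) (kc xc21 yc10 zc0) (kc xc14 yc54 zc9) (kc xc29 yc18 zc3) (kc xc14 yc54 zc11) (kc xc28 yc57 zc37) (kc xc14 yc54 zc12) (kc xc17 yc27 zc30) (kc xc14 yc54 zc14) (kc xc14 yc54 zc15) (kc xc23 yc23 zc36) (kc xc14 yc54 zc19) (kc xc29 yc18 zc1) (kc xc27 yc11 zc23) (kc xc27 yc11 zc24) (kc xc28 yc56 zc56) (kc xc28 yc42 zc23) (kc xc14 yc55 zc29) (kc xc18 yc0 zc60) (kc xc14 yc54 zc23) (kc xc14 yc55 zc49) (kc xc25 yc2 zc31) (kc xc14 yc54 zc26) (kc xc17 yc42 zc33) (kc xc31 yc7 zc9) (kc xc14 yc54 zc27) (kc xc21 yc58 zc36) (kc xc21 yc58 zc38) (kc xc14 yc54 zc29) (kc xc21 yc23 zc58) (kc xc31 yc37 zc24) (kc xc25 yc41 zc48) (kc xc17 yc38 zc50) (kc xc21 yc42 zc9) (kc xc14 yc54 zc36) (kc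 xc23 yc23 zc20) (kc xc14 yc54 zc39) (kc xc24 yc50 zc7) (kc xc14 yc54 zc38) (kc xc21 yc39 zc17) (kc xc31 yc37 zc27) (kc xc30 yc47 zc50) (kc xc18 yc29 zc44) (kc xc14 yc56 zc4) (kc xc25 yc15 zc37) (kc xc14 yc54 zc47) (kc xc16 yc15 zc53) (kc xc17 yc39 zc32) (kc xc17 yc39 zc30) (kc xc25 yc15 zc34) (kc xc26 yc12 zc17) (kc xc16 yc9 zc42) (kc xc14 yc54 zc48) (kc xc27 yc43 zc26)) (@D3.rec (fun _ => Pt) (kc xc21 yc19 zc34) (kc xc14 yc54 zc49) (kc xc27 yc43 zc27) (kc xc14 yc56 zc11) (kc xc27 yc45 zc26) (kc xc18 yc6 zc14) (kc xc28 yc3 zc8) (kc xc31 yc37 zc36) (kc xc14 yc54 zc53) (kc xc21 yc45 zc20) (kc xc27 yc54 zc45) (kc xc31 yc37 zc37) (kc xc31 yc37 zc40) (kc xc14 yc54 zc57) (kc xc28 yc58 zc23) (kc xc31 yc37 zc44) (kc xc14 yc54 zc58) (kc xc21 yc6 zc10) (kc xc18 yc7 zc9) (kc xc27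 yc45 zc12) (kc xc24 yc45 zc24) (kc xc14 yc56 zc3) (kc xc21 yc42 zc49) (kc xc21 yc6 zc14) (kc xc14 yc55 zc0) (kc xc24 yc40 zc0) (kc xc23 yc31 zc11) (kc xc14 yc55 zc6) (kc xc31 yc37 zc45) (kc xc21 yc26 zc39) (kc xc23 yc36 zc29) (kc xc25 yc37 zc19) (kc xc31 yc3 zc42) (kc xc30 yc0 zc41) (kc xc24 yc10 zc42) (kc xc14 yc55 zc17) (kc xc30 yc42 zc21) (kc xc30 yc42 zc4) (kc xc30 yc42 zc5) (kc xc30 yc1 zc22) (kc xc27 yc58 zc0) (kc xc14 yc55 zc22) (kc xc19 yc57 zc20) (kc xc14 yc55 zc23) (kc xc21 yc5 zc18) (kc xc24 yc9 zc50) (kc xc24 yc9 zc49) (kc xc14 yc55 zc26) (kc xc29 yc23 zc12) (kc xc30 yc8 zc39) (kc xc14 yc55 zc50) (kc xc20 yc37 zc36) (kc xc14 yc55 zc30) (kc xc30 yc2 zc22) (kc xc22 yc2 zc3) (kc xc15 yc49 zc54) (kc xc17 yc29 zc26) (kc xc22 yc8 zc34) (kc xc20 yc51 zc26) (kc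 xc20 yc51 zc27) (kc xc18 yc5 zc22) (kc xc15 yc7 zc55)) (@D3.rec (fun _ => Pt) (kc xc15 yc45 zc35) (kc xc17 yc36 zc10) (kc xc14 yc55 zc39) (kc xc27 yc27 zc28) (kc xc14 yc55 zc42) (kc xc31 yc37 zc56) (kc xc23 yc24 zc23) (kc xc14 yc55 zc43) (kc xc21 yc25 zc3) (kc xc14 yc55 zc47) (kc xc17 yc54 zc41) (kc xc14 yc55 zc46) (kc xc26 yc18 zc6) (kc xc25 yc15 zc33) (kc xc31 yc37 zc57) (kc xc17 yc38 zc55) (kc xc17 yc36 zc41) (kc xc27 yc26 zc38) (kc xc30 yc5 zc14) (kc xc27 yc42 zc49) (kc xc14 yc55 zc51) (kc xc21 yc19 zc36) (kc xc15 yc13 zc35) (kc xc30 yc16 zc58) (kc xc30 yc16 zc59) (kc xc18 yc6 zc55) (kc xc14 yc55 zc60) (kc xc27 yc11 zc5) (kc xc23 yc36 zc12) (kc xc14 yc56 zc1) (kc xc25 yc20 zc23) (kc xc14 yc56 zc0) (kc xc30 yc6 zc53) (kc xc27 yc11 zc21) (kc xc14 yc56 zc6) (kc xc14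 yc56 zc8) (kc xc30 yc20 zc17) (kc xc18 yc6 zc57) (kc xc15 yc49 zc7) (kc xc21 yc37 zc6) (kc xc28 yc28 zc46) (kc xc21 yc39 zc19) (kc xc19 yc0 zc27) (kc xc18 yc50 zc23) (kc xc28 yc28 zc47) (kc xc31 yc38 zc1) (kc xc14 yc56 zc16) (kc xc23 yc54 zc59) (kc xc21 yc20 zc16) (kc xc22 yc8 zc36) (kc xc16 yc10 zc29) (kc xc31 yc38 zc5) (kc xc14 yc56 zc20) (kc xc25 yc28 zc6) (kc xc15 yc45 zc34) (kc xc16 yc18 zc46) (kc xc18 yc5 zc24) (kc xc17 yc53 zc4) (kc xc27 yc47 zc27) (kc xc27 yc57 zc49) (kc xc30 yc0 zc32) (kc xc27 yc57 zc48)) (@D3.rec (fun _ => Pt) (kc xc23 yc31 zc6) (kc xc21 yc55 zc44) (kc xc25 yc46 zc13) (kc xc14 yc56 zc32) (kc xc28 yc3 zc6) (kc xc28 yc3 zc7) (kc xc21 yc19 zc8) (kc xc27 yc31 zc6) (kc xc17 yc44 zc31) (kc xc18 yc4 zc2) (kc xc27 yc31 zc7) (kc xc30 yc23 zc27) (kc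 xc27 yc48 zc29) (kc xc19 yc22 zc56) (kc xc22 yc18 zc45) (kc xc14 yc56 zc53) (kc xc31 yc38 zc8) (kc xc14 yc56 zc51) (kc xc24 yc15 zc47) (kc xc26 yc12 zc45) (kc xc22 yc13 zc31) (kc xc30 yc20 zc60) (kc xc24 yc40 zc40) (kc xc14 yc56 zc55) (kc xc23 yc16 zc39) (kc xc23 yc16 zc40) (kc xc30 yc57 zc29) (kc xc27 yc25 zc2) (kc xc15 yc6 zc47) (kc xc14 yc56 zc60) (kc xc28 yc4 zc13) (kc xc19 yc14 zc54) (kc xc14 yc56 zc61) (kc xc28 yc4 zc14) (kc xc27 yc26 zc21) (kc xc17 yc41 zc33) (kc xc17 yc41 zc34) (kc xc27 yc26 zc19) (kc xc17 yc16 zc27) (kc xc17 yc17 zc49) (kc xc14 yc57 zc9) (kc xc21 yc33 zc11) (kc xc21 yc31 zc40) (kc xc15 yc43 zc2) (kc xc14 yc57 zc16) (kc xc19 yc16 zc52) (kc xc14 yc57 zc17) (kc xc14 yc57 zc18) (kc xc31 yc38 zc14) (kc xc25 yc53 zc29) (kc xc27 yc17 zc13) (kc xc27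 yc17 zc14) (kc xc31 yc0 zc23) (kc xc25 yc26 zc3) (kc xc26 yc18 zc14) (kc xc26 yc18 zc15) (kc xc14 yc57 zc21) (kc xc31 yc38 zc18) (kc xc20 yc54 zc47) (kc xc30 yc0 zc9) (kc xc14 yc57 zc27) (kc xc15 yc45 zc18)) (@D3.rec (fun _ => Pt) (kc xc26 yc14 zc20) (kc xc14 yc57 zc29) (kc xc14 yc57 zc31) (kc xc27 yc40 zc40) (kc xc29 yc23 zc2) (kc xc18 yc10 zc48) (kc xc15 yc39 zc54) (kc xc14 yc57 zc43) (kc xc18 yc10 zc46) (kc xc27 yc6 zc15) (kc xc27 yc6 zc14) (kc xc23 yc35 zc42) (kc xc26 yc1 zc7) (kc xc26 yc14 zc41) (kc xc14 yc57 zc49) (kc xc30 yc8 zc51) (kc xc17 yc39 zc4) (kc xc16 yc17 zc23) (kc xc17 yc43 zc61) (kc xc17 yc44 zc12) (kc xc27 yc25 zc3) (kc xc14 yc57 zc52) (kc xc14 yc57 zc53) (kc xc28 yc31 zc24) (kc xc24 yc42 zc20) (kc xc30 yc8 zc52) (kc xc23 yc46 zc57) (kc xc16 yc6 zc47)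 (kc xc24 yc58 zc16) (kc xc15 yc3 zc21) (kc xc24 yc53 zc47) (kc xc28 yc18 zc48) (kc xc16 yc21 zc58) (kc xc23 yc34 zc58) (kc xc28 yc4 zc41) (kc xc31 yc38 zc30) (kc xc31 yc38 zc31) (kc xc17 yc51 zc46) (kc xc31 yc38 zc32) (kc xc23 yc6 zc9) (kc xc18 yc9 zc12) (kc xc18 yc9 zc13) (kc xc14 yc58 zc3) (kc xc21 yc25 zc53) (kc xc14 yc58 zc5) (kc xc14 yc58 zc7) (kc xc26 yc0 zc16) (kc xc16 yc3 zc26) (kc xc16 yc15 zc25) (kc xc31 yc1 zc33) (kc xc14 yc58 zc23) (kc xc31 yc38 zc35) (kc xc26 yc13 zc28) (kc xc27 yc47 zc14) (kc xc31 yc38 zc38) (kc xc26 yc13 zc31) (kc xc14 yc58 zc26) (kc xc31 yc38 zc42) (kc xc30 yc46 zc14) (kc xc15 yc9 zc46) (kc xc18 yc4 zc51) (kc xc26 yc14 zc55)) (@D3.rec (fun _ => Pt) (kc xc14 yc58 zc34) (kc xc15 yc11 zc9) (kc xc18 yc27 zc24) (kc xc27 yc40 zc18) (kc xc23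 yc7 zc12) (kc xc15 yc7 zc18) (kc xc15 yc26 zc25) (kc xc15 yc4 zc20) (kc xc19 yc13 zc16) (kc xc20 yc21 zc5) (kc xc14 yc58 zc45) (kc xc23 yc51 zc29) (kc xc31 yc38 zc50) (kc xc14 yc58 zc48) (kc xc31 yc38 zc52) (kc xc14 yc59 zc11) (kc xc15 yc3 zc56) (kc xc16 yc44 zc59) (kc xc15 yc4 zc8) (kc xc29 yc18 zc41) (kc xc31 yc38 zc55) (kc xc14 yc58 zc57) (kc xc14 yc58 zc58) (kc xc14 yc58 zc55) (kc xc14 yc58 zc56) (kc xc28 yc30 zc59) (kc xc19 yc13 zc11) (kc xc14 yc58 zc59) (kc xc28 yc23 zc0) (kc xc14 yc58 zc61) (kc xc24 yc17 zc61) (kc xc22 yc18 zc20) (kc xc31 yc38 zc59) (kc xc27 yc39 zc38) (kc xc25 yc49 zc26) (kc xc29 yc3 zc37) (kc xc14 yc59 zc4) (kc xc19 yc0 zc11) (kc xc19 yc1 zc19) (kc xc28 yc41 zc40) (kc xc28 yc22 zc10) (kc xc27 yc45 zc59) (kc xc28 yc17 zc37) (kc xc21 yc41 zc29)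 (kc xc26 yc30 zc33) (kc xc27 yc33 zc1) (kc xc19 yc6 zc33) (kc xc26 yc13 zc42) (kc xc26 yc30 zc23) (kc xc14 yc59 zc14) (kc xc16 yc32 zc34) (kc xc19 yc22 zc26) (kc xc26 yc30 zc39) (kc xc14 yc59 zc19) (kc xc24 yc55 zc42) (kc xc26 yc30 zc36) (kc xc31 yc39 zc1) (kc xc29 yc52 zc51) (kc xc14 yc59 zc28) (kc xc17 yc8 zc28) (kc xc29 yc24 zc32) (kc xc19 yc49 zc56)) (@D3.rec (fun _ => Pt) (kc xc23 yc7 zc37) (kc xc24 yc31 zc51) (kc xc19 yc28 zc5) (kc xc14 yc59 zc39) (kc xc14 yc59 zc38) (kc xc27 yc14 zc29) (kc xc16 yc49 zc59) (kc xc14 yc59 zc41) (kc xc26 yc8 zc56) (kc xc28 yc56 zc20) (kc xc31 yc39 zc2) (kc xc29 yc9 zc35) (kc xc21 yc6 zc44) (kc xc30 yc57 zc61) (kc xc25 yc4 zc56) (kc xc14 yc59 zc54) (kc xc30 yc59 zc37) (kc xc31 yc39 zc3) (kc xc30 yc57 zc60) (kc xc20 yc30 zc38) (kc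 xc26 yc22 zc10) (kc xc28 yc44 zc8) (kc xc20 yc27 zc48) (kc xc31 yc39 zc5) (kc xc15 yc0 zc7) (kc xc15 yc26 zc10) (kc xc15 yc0 zc9) (kc xc15 yc0 zc10) (kc xc15 yc0 zc11) (kc xc31 yc39 zc8) (kc xc30 yc2 zc49) (kc xc30 yc29 zc61) (kc xc23 yc51 zc9) (kc xc15 yc0 zc14) (kc xc24 yc20 zc17) (kc xc22 yc39 zc17) (kc xc15 yc0 zc16) (kc xc15 yc0 zc19) (kc xc15 yc0 zc18) (kc xc31 yc16 zc8) (kc xc20 yc30 zc58) (kc xc20 yc27 zc56) (kc xc15 yc0 zc22) (kc xc20 yc27 zc57) (kc xc15 yc0 zc24) (kc xc27 yc46 zc8) (kc xc15 yc0 zc25) (kc xc15 yc6 zc25) (kc xc15 yc6 zc26) (kc xc22 yc18 zc41) (kc xc26 yc30 zc45) (kc xc15 yc0 zc32) (kc xc22 yc51 zc21) (kc xc28 yc13 zc50) (kc xc24 yc56 zc53) (kc xc26 yc30 zc44) (kc xc27 yc22 zc35) (kc xc18 yc47 zc60) (kc xc18 yc44 zc50) (kc xc27 yc22 zc24) (kc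 xc18 yc44 zc52) (kc xc19 yc2 zc60)) (@D3.rec (fun _ => Pt) (kc xc31 yc39 zc15) (kc xc26 yc20 zc55) (kc xc18 yc3 zc51) (kc xc31 yc39 zc18) (kc xc18 yc3 zc53) (kc xc19 yc2 zc52) (kc xc21 yc34 zc56) (kc xc16 yc13 zc43) (kc xc20 yc21 zc7) (kc xc17 yc47 zc51) (kc xc21 yc11 zc5) (kc xc19 yc0 zc15) (kc xc25 yc1 zc55) (kc xc24 yc57 zc17) (kc xc15 yc0 zc44) (kc xc21 yc10 zc42) (kc xc31 yc39 zc26) (kc xc19 yc3 zc17) (kc xc19 yc10 zc27) (kc xc19 yc10 zc28) (kc xc20 yc27 zc8) (kc xc15 yc14 zc45) (kc xc29 yc25 zc28) (kc xc22 yc18 zc5) (kc xc20 yc11 zc42) (kc xc25 yc23 zc60) (kc xc30 yc56 zc7) (kc xc22 yc57 zc51) (kc xc15 yc0 zc51) (kc xc31 yc39 zc32) (kc xc17 yc21 zc47) (kc xc17 yc26 zc55) (kc xc26 yc41 zc58) (kc xc15 yc34 zc60) (kc xc28 yc14 zc25) (kc xc15 yc34 zc61) (kc xc31 yc39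 zc38) (kc xc28 yc30 zc14) (kc xc17 yc50 zc12) (kc xc19 yc5 zc55) (kc xc15 yc18 zc28) (kc xc31 yc24 zc36) (kc xc25 yc12 zc18) (kc xc15 yc15 zc27) (kc xc28 yc22 zc0) (kc xc15 yc15 zc29) (kc xc18 yc39 zc59) (kc xc16 yc50 zc42) (kc xc15 yc19 zc54) (kc xc15 yc19 zc55) (kc xc21 yc50 zc53) (kc xc15 yc1 zc6) (kc xc28 yc19 zc14) (kc xc15 yc1 zc7) (kc xc30 yc7 zc9) (kc xc19 yc45 zc5) (kc xc15 yc1 zc8) (kc xc31 yc20 zc51) (kc xc26 yc58 zc36) (kc xc25 yc50 zc31) (kc xc31 yc39 zc51) (kc xc31 yc39 zc54)) (@D3.rec (fun _ => Pt) (kc xc15 yc1 zc10) (kc xc19 yc44 zc58) (kc xc17 yc48 zc44) (kc xc19 yc18 zc21) (kc xc25 yc11 zc58) (kc xc19 yc53 zc51) (kc xc20 yc5 zc23) (kc xc15 yc1 zc35) (kc xc15 yc1 zc37) (kc xc28 yc39 zc42) (kc xc15 yc59 zc10) (kc xc25 yc47 zc11) (kc xc25 yc47 zc12) (kc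 xc31 yc39 zc60) (kc xc25 yc37 zc15) (kc xc31 yc28 zc12) (kc xc17 yc49 zc44) (kc xc29 yc12 zc40) (kc xc17 yc49 zc5) (kc xc15 yc42 zc17) (kc xc15 yc41 zc51) (kc xc27 yc6 zc2) (kc xc15 yc1 zc26) (kc xc15 yc1 zc24) (kc xc15 yc1 zc25) (kc xc29 yc50 zc10) (kc xc19 yc30 zc7) (kc xc15 yc37 zc36) (kc xc18 yc33 zc56) (kc xc15 yc37 zc31) (kc xc15 yc44 zc55) (kc xc31 yc40 zc17) (kc xc15 yc18 zc31) (kc xc25 yc41 zc39) (kc xc16 yc50 zc18) (kc xc25 yc22 zc26) (kc xc16 yc50 zc20) (kc xc15 yc44 zc57) (kc xc31 yc17 zc6) (kc xc16 yc36 zc14) (kc xc28 yc38 zc46) (kc xc27 yc36 zc32) (kc xc31 yc39 zc57) (kc xc26 yc56 zc59) (kc xc26 yc56 zc58) (kc xc31 yc40 zc34) (kc xc19 yc13 zc45) (kc xc16 yc46 zc20) (kc xc16 yc4 zc44) (kc xc16 yc4 zc50) (kc xc31 yc21 zc21) (kc xc26 yc46 zc59) (kc xc26 yc54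 zc33) (kc xc16 yc37 zc12) (kc xc31 yc34 zc42) (kc xc31 yc40 zc37) (kc xc15 yc1 zc42) (kc xc31 yc40 zc38) (kc xc17 yc9 zc2) (kc xc20 yc53 zc41) (kc xc15 yc32 zc3) (kc xc20 yc53 zc39)) (@D3.rec (fun _ => Pt) (kc xc15 yc1 zc47) (kc xc31 yc40 zc40) (kc xc26 yc34 zc15) (kc xc15 yc1 zc54) (kc xc15 yc1 zc56) (kc xc28 yc59 zc43) (kc xc19 yc22 zc41) (kc xc24 yc41 zc45) (kc xc31 yc15 zc28) (kc xc26 yc41 zc59) (kc xc31 yc24 zc20) (kc xc25 yc47 zc51) (kc xc31 yc15 zc30) (kc xc29 yc2 zc25) (kc xc25 yc50 zc30) (kc xc27 yc21 zc46) (kc xc31 yc40 zc52) (kc xc19 yc38 zc21) (kc xc25 yc37 zc11) (kc xc25 yc37 zc12) (kc xc24 yc17 zc25) (kc xc28 yc31 zc34) (kc xc31 yc41 zc0) (kc xc29 yc4 zc0) (kc xc31 yc41 zc2) (kc xc31 yc41 zc4) (kc xc15 yc1 zc60) (kc xc31 yc24 zc32) (kc xc17 yc50 zc33)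 (kc xc21 yc24 zc8) (kc xc31 yc41 zc6) (kc xc15 yc52 zc6) (kc xc16 yc44 zc2) (kc xc16 yc44 zc4) (kc xc30 yc5 zc22) (kc xc16 yc36 zc22) (kc xc28 yc43 zc6) (kc xc27 yc36 zc52) (kc xc19 yc4 zc53) (kc xc28 yc43 zc13) (kc xc28 yc43 zc9) (kc xc16 yc53 zc57) (kc xc15 yc42 zc34) (kc xc16 yc6 zc23) (kc xc16 yc6 zc24) (kc xc19 yc41 zc6) (kc xc16 yc39 zc19) (kc xc15 yc2 zc15) (kc xc19 yc12 zc15) (kc xc15 yc2 zc17) (kc xc15 yc9 zc11) (kc xc27 yc12 zc10) (kc xc28 yc46 zc61) (kc xc28 yc46 zc53) (kc xc15 yc2 zc22) (kc xc24 yc10 zc33) (kc xc29 yc4 zc25) (kc xc29 yc4 zc9) (kc xc27 yc43 zc43) (kc xc19 yc46 zc14) (kc xc25 yc40 zc51) (kc xc25 yc40 zc52)) (@D3.rec (fun _ => Pt) (kc xc27 yc43 zc38) (kc xc27 yc56 zc49) (kc xc17 yc53 zc5) (kc xc19 yc44 zc16) (kc xc15 yc20 zc4) (kc xc16 yc46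 zc53) (kc xc28 yc11 zc20) (kc xc20 yc53 zc45) (kc xc20 yc53 zc38) (kc xc20 yc37 zc39) (kc xc21 yc50 zc49) (kc xc15 yc2 zc30) (kc xc17 yc51 zc32) (kc xc20 yc51 zc34) (kc xc15 yc2 zc33) (kc xc24 yc58 zc13) (kc xc25 yc55 zc1) (kc xc24 yc58 zc9) (kc xc31 yc41 zc21) (kc xc27 yc46 zc51) (kc xc26 yc44 zc30) (kc xc15 yc2 zc36) (kc xc25 yc44 zc3) (kc xc31 yc41 zc25) (kc xc18 yc39 zc57) (kc xc18 yc39 zc58) (kc xc19 yc2 zc48) (kc xc26 yc3 zc4) (kc xc15 yc15 zc26) (kc xc19 yc50 zc51) (kc xc26 yc39 zc14) (kc xc19 yc50 zc54) (kc xc26 yc39 zc13) (kc xc26 yc46 zc14) (kc xc26 yc33 zc19) (kc xc16 yc56 zc13) (kc xc27 yc11 zc51) (kc xc15 yc2 zc44) (kc xc27 yc37 zc20) (kc xc26 yc40 zc8) (kc xc26 yc40 zc9) (kc xc24 yc3 zc57) (kc xc26 yc33 zc22) (kc xc19 yc55 zc24) (kc xc21 yc59 zc1) (kc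 xc15 yc44 zc61) (kc xc21 yc50 zc51) (kc xc21 yc50 zc50) (kc xc20 yc51 zc30) (kc xc19 yc40 zc54) (kc xc26 yc42 zc42) (kc xc15 yc2 zc53) (kc xc29 yc50 zc20) (kc xc15 yc2 zc55) (kc xc21 yc43 zc8) (kc xc19 yc58 zc28) (kc xc15 yc3 zc1) (kc xc15 yc2 zc59) (kc xc24 yc37 zc13) (kc xc31 yc21 zc19) (kc xc19 yc4 zc58) (kc xc29 yc35 zc52)) (@D3.rec (fun _ => Pt) (kc xc28 yc31 zc31) (kc xc28 yc31 zc32) (kc xc29 yc41 zc25) (kc xc15 yc42 zc49) (kc xc30 yc42 zc40) (kc xc15 yc3 zc3) (kc xc26 yc37 zc46) (kc xc27 yc22 zc19) (kc xc26 yc6 zc45) (kc xc24 yc22 zc22) (kc xc20 yc54 zc34) (kc xc15 yc38 zc23) (kc xc20 yc4 zc51) (kc xc19 yc6 zc28) (kc xc20 yc58 zc55) (kc xc17 yc32 zc22) (kc xc20 yc58 zc54) (kc xc28 yc49 zc54) (kc xc19 yc5 zc29) (kc xc19 yc5 zc28) (kc xc15 yc3 zc12) (kc xc19 yc18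 zc28) (kc xc19 yc18 zc29) (kc xc18 yc6 zc27) (kc xc23 yc25 zc17) (kc xc19 yc41 zc9) (kc xc17 yc36 zc28) (kc xc18 yc40 zc28) (kc xc15 yc3 zc17) (kc xc25 yc4 zc24) (kc xc25 yc10 zc20) (kc xc25 yc10 zc18) (kc xc27 yc27 zc17) (kc xc15 yc3 zc24) (kc xc15 yc3 zc25) (kc xc25 yc18 zc61) (kc xc28 yc18 zc17) (kc xc16 yc36 zc21) (kc xc26 yc39 zc12) (kc xc28 yc32 zc42) (kc xc26 yc39 zc55) (kc xc23 yc2 zc48) (kc xc29 yc7 zc18) (kc xc15 yc3 zc30) (kc xc28 yc32 zc43) (kc xc15 yc3 zc33) (kc xc15 yc3 zc34) (kc xc18 yc3 zc2) (kc xc24 yc22 zc21) (kc xc21 yc30 zc17) (kc xc20 yc41 zc59) (kc xc29 yc8 zc60) (kc xc26 yc55 zc21) (kc xc26 yc3 zc40) (kc xc25 yc44 zc21) (kc xc20 yc8 zc16) (kc xc15 yc3 zc50) (kc xc26 yc50 zc51) (kc xc29 yc19 zc28) (kc xc28 yc29 zc39) (kc xc15 yc3 zc52) (kc xc28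 yc39 zc12)) (@D3.rec (fun _ => Pt) (kc xc29 yc18 zc57) (kc xc15 yc3 zc55) (kc xc28 yc48 zc4) (kc xc17 yc54 zc51) (kc xc26 yc21 zc23) (kc xc20 yc12 zc6) (kc xc15 yc4 zc0) (kc xc21 yc9 zc32) (kc xc20 yc10 zc15) (kc xc15 yc4 zc10) (kc xc15 yc4 zc11) (kc xc19 yc26 zc41) (kc xc21 yc16 zc37) (kc xc20 yc40 zc45) (kc xc26 yc50 zc52) (kc xc20 yc10 zc16) (kc xc15 yc4 zc27) (kc xc26 yc52 zc13) (kc xc20 yc10 zc24) (kc xc20 yc13 zc23) (kc xc15 yc4 zc35) (kc xc15 yc4 zc38) (kc xc24 yc36 zc22) (kc xc29 yc49 zc59) (kc xc15 yc4 zc48) (kc xc29 yc32 zc13) (kc xc16 yc52 zc40) (kc xc30 yc44 zc3) (kc xc17 yc8 zc33) (kc xc17 yc1 zc35) (kc xc30 yc49 zc38) (kc xc17 yc1 zc55) (kc xc19 yc27 zc21) (kc xc17 yc4 zc42) (kc xc30 yc32 zc14) (kc xc19 yc4 zc36) (kc xc26 yc46 zc54) (kc xc15 yc5 zc22)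 (kc xc15 yc5 zc30) (kc xc27 yc36 zc9) (kc xc15 yc5 zc34) (kc xc23 yc7 zc20) (kc xc20 yc38 zc28) (kc xc26 yc50 zc26) (kc xc21 yc45 zc5) (kc xc24 yc55 zc39) (kc xc26 yc20 zc46) (kc xc24 yc45 zc30) (kc xc15 yc5 zc55) (kc xc15 yc5 zc56) (kc xc20 yc20 zc60) (kc xc27 yc5 zc28) (kc xc31 yc11 zc13) (kc xc15 yc5 zc51) (kc xc15 yc5 zc52) (kc xc28 yc38 zc58) (kc xc15 yc5 zc50) (kc xc31 yc42 zc16) (kc xc27 yc55 zc26) (kc xc29 yc18 zc32) (kc xc16 yc18 zc17) (kc xc15 yc5 zc53)) (@D3.rec (fun _ => Pt) (kc xc31 yc42 zc21) (kc xc31 yc42 zc22) (kc xc15 yc5 zc54) (kc xc31 yc42 zc23) (kc xc24 yc57 zc19) (kc xc15 yc5 zc59) (kc xc17 yc46 zc44) (kc xc25 yc1 zc10) (kc xc31 yc39 zc19) (kc xc18 yc28 zc43) (kc xc31 yc42 zc25) (kc xc31 yc42 zc26) (kc xc15 yc6 zc9) (kc xc31 yc42 zc27) (kc xc23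 yc22 zc49) (kc xc18 yc41 zc4) (kc xc25 yc10 zc54) (kc xc27 yc5 zc27) (kc xc24 yc17 zc38) (kc xc24 yc17 zc34) (kc xc20 yc59 zc17) (kc xc20 yc13 zc26) (kc xc31 yc42 zc29) (kc xc30 yc45 zc58) (kc xc15 yc6 zc17) (kc xc15 yc6 zc19) (kc xc15 yc6 zc20) (kc xc29 yc25 zc14) (kc xc31 yc2 zc51) (kc xc27 yc26 zc23) (kc xc15 yc43 zc22) (kc xc31 yc42 zc34) (kc xc15 yc6 zc23) (kc xc30 yc24 zc57) (kc xc29 yc38 zc45) (kc xc31 yc42 zc36) (kc xc24 yc58 zc51) (kc xc18 yc6 zc34) (kc xc15 yc6 zc30) (kc xc22 yc33 zc39) (kc xc21 yc8 zc16) (kc xc31 yc28 zc46) (kc xc15 yc6 zc35) (kc xc19 yc54 zc31) (kc xc20 yc54 zc52) (kc xc20 yc39 zc28) (kc xc16 yc42 zc32) (kc xc15 yc6 zc43) (kc xc26 yc2 zc22) (kc xc29 yc25 zc11) (kc xc17 yc37 zc29) (kc xc16 yc17 zc56) (kc xc26 yc10 zc45) (kc xc15 yc6 zc52)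 (kc xc27 yc52 zc32) (kc xc15 yc6 zc50) (kc xc31 yc42 zc41) (kc xc17 yc43 zc56) (kc xc16 yc17 zc35) (kc xc26 yc2 zc20) (kc xc31 yc42 zc43) (kc xc21 yc34 zc13)) (@D3.rec (fun _ => Pt) (kc xc26 yc4 zc35) (kc xc15 yc6 zc56) (kc xc15 yc6 zc55) (kc xc31 yc42 zc45) (kc xc15 yc6 zc57) (kc xc31 yc42 zc47) (kc xc15 yc6 zc58) (kc xc31 yc42 zc50) (kc xc15 yc6 zc59) (kc xc31 yc42 zc52) (kc xc31 yc38 zc27) (kc xc16 yc22 zc52) (kc xc26 yc15 zc20) (kc xc15 yc6 zc61) (kc xc31 yc42 zc55) (kc xc31 yc42 zc56) (kc xc31 yc42 zc54) (kc xc31 yc42 zc58) (kc xc15 yc7 zc14) (kc xc31 yc42 zc60) (kc xc24 yc40 zc24) (kc xc15 yc7 zc5) (kc xc26 yc15 zc18) (kc xc15 yc7 zc6) (kc xc15 yc7 zc7) (kc xc16 yc21 zc28) (kc xc16 yc21 zc38) (kc xc23 yc24 zc1) (kc xc24 yc56 zc7) (kc xc15 yc7 zc9) (kc xc18 yc4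 zc52) (kc xc27 yc31 zc42) (kc xc15 yc7 zc11) (kc xc15 yc7 zc13) (kc xc30 yc45 zc42) (kc xc24 yc18 zc28) (kc xc15 yc7 zc15) (kc xc21 yc37 zc12) (kc xc25 yc2 zc15) (kc xc24 yc53 zc45) (kc xc24 yc56 zc10) (kc xc15 yc7 zc17) (kc xc24 yc46 zc54) (kc xc26 yc21 zc9) (kc xc20 yc45 zc46) (kc xc28 yc17 zc19) (kc xc16 yc21 zc24) (kc xc16 yc21 zc37) (kc xc23 yc36 zc43) (kc xc24 yc56 zc1) (kc xc15 yc7 zc20) (kc xc27 yc47 zc6) (kc xc31 yc26 zc51) (kc xc24 yc18 zc29) (kc xc24 yc55 zc60) (kc xc15 yc7 zc22) (kc xc15 yc14 zc20) (kc xc30 yc13 zc6) (kc xc30 yc25 zc3) (kc xc29 yc19 zc45) (kc xc24 yc55 zc54) (kc xc26 yc19 zc51)) (@D3.rec (fun _ => Pt) (kc xc15 yc14 zc11) (kc xc24 yc55 zc49) (kc xc26 yc19 zc49) (kc xc17 yc42 zc56) (kc xc15 yc7 zc36) (kc xc17 yc40 zc32) (kc xc15 yc7 zc37)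 (kc xc24 yc55 zc28) (kc xc15 yc7 zc26) (kc xc27 yc26 zc45) (kc xc24 yc55 zc40) (kc xc19 yc2 zc18) (kc xc15 yc7 zc31) (kc xc15 yc7 zc32) (kc xc15 yc7 zc29) (kc xc17 yc53 zc46) (kc xc26 yc20 zc47) (kc xc17 yc44 zc34) (kc xc29 yc25 zc20) (kc xc15 yc7 zc33) (kc xc15 yc11 zc37) (kc xc15 yc7 zc34) (kc xc27 yc45 zc13) (kc xc27 yc35 zc24) (kc xc15 yc7 zc35) (kc xc27 yc27 zc58) (kc xc31 yc43 zc3) (kc xc27 yc45 zc35) (kc xc22 yc29 zc10) (kc xc27 yc31 zc41) (kc xc15 yc7 zc38) (kc xc21 yc11 zc58) (kc xc26 yc21 zc11) (kc xc19 yc2 zc23) (kc xc15 yc12 zc11) (kc xc29 yc54 zc0) (kc xc28 yc25 zc3) (kc xc31 yc43 zc14) (kc xc16 yc18 zc39) (kc xc31 yc43 zc15) (kc xc31 yc43 zc16) (kc xc16 yc18 zc42) (kc xc26 yc31 zc50) (kc xc26 yc31 zc51) (kc xc21 yc11 zc38) (kc xc31 yc43 zc17) (kc xc15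 yc53 zc33) (kc xc25 yc2 zc33) (kc xc15 yc7 zc56) (kc xc16 yc29 zc23) (kc xc16 yc29 zc24) (kc xc15 yc7 zc60) (kc xc31 yc43 zc20) (kc xc24 yc47 zc54) (kc xc19 yc46 zc57) (kc xc26 yc29 zc54) (kc xc16 yc24 zc6) (kc xc17 yc15 zc3) (kc xc17 yc15 zc4) (kc xc27 yc5 zc14) (kc xc22 yc34 zc21) (kc xc27 yc31 zc19)) (@D3.rec (fun _ => Pt) (kc xc30 yc27 zc59) (kc xc15 yc8 zc12) (kc xc23 yc22 zc21) (kc xc16 yc47 zc26) (kc xc19 yc43 zc55) (kc xc26 yc29 zc55) (kc xc27 yc43 zc10) (kc xc23 yc46 zc46) (kc xc15 yc8 zc20) (kc xc15 yc8 zc21) (kc xc18 yc53 zc24) (kc xc15 yc8 zc22) (kc xc22 yc52 zc9) (kc xc22 yc52 zc10) (kc xc15 yc8 zc53) (kc xc26 yc24 zc17) (kc xc28 yc0 zc40) (kc xc24 yc48 zc13) (kc xc31 yc22 zc4) (kc xc24 yc54 zc4) (kc xc15 yc8 zc27) (kc xc15 yc8 zc29) (kc xc31 yc43 zc28)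 (kc xc26 yc25 zc20) (kc xc23 yc48 zc22) (kc xc15 yc8 zc32) (kc xc31 yc16 zc17) (kc xc25 yc51 zc53) (kc xc31 yc43 zc30) (kc xc31 yc43 zc31) (kc xc26 yc20 zc61) (kc xc29 yc32 zc50) (kc xc25 yc1 zc36) (kc xc18 yc27 zc12) (kc xc15 yc8 zc40) (kc xc31 yc43 zc33) (kc xc26 yc46 zc33) (kc xc15 yc8 zc42) (kc xc31 yc43 zc36) (kc xc26 yc45 zc54) (kc xc21 yc53 zc30) (kc xc31 yc43 zc35) (kc xc29 yc9 zc55) (kc xc15 yc8 zc49) (kc xc25 yc24 zc11) (kc xc26 yc31 zc13) (kc xc26 yc31 zc14) (kc xc28 yc31 zc45) (kc xc26 yc31 zc26) (kc xc26 yc31 zc27) (kc xc28 yc31 zc47) (kc xc26 yc49 zc20) (kc xc31 yc43 zc26) (kc xc31 yc43 zc37) (kc xc25 yc20 zc17) (kc xc21 yc53 zc47) (kc xc22 yc5 zc43) (kc xc21 yc0 zc48) (kc xc15 yc9 zc4) (kc xc28 yc31 zc15) (kc xc21 yc21 zc19) (kc xc22 yc5 zc49)) (@D3.rec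 (fun _ => Pt) (kc xc31 yc43 zc46) (kc xc15 yc9 zc5) (kc xc25 yc34 zc44) (kc xc20 yc53 zc35) (kc xc21 yc47 zc3) (kc xc30 yc13 zc22) (kc xc21 yc27 zc46) (kc xc15 yc9 zc7) (kc xc28 yc9 zc6) (kc xc24 yc51 zc17) (kc xc29 yc7 zc22) (kc xc31 yc43 zc48) (kc xc25 yc8 zc4) (kc xc24 yc51 zc15) (kc xc24 yc21 zc16) (kc xc15 yc9 zc14) (kc xc24 yc45 zc28) (kc xc15 yc9 zc16) (kc xc15 yc9 zc21) (kc xc24 yc58 zc33) (kc xc15 yc9 zc22) (kc xc16 yc40 zc6) (kc xc31 yc32 zc23) (kc xc31 yc43 zc53) (kc xc28 yc23 zc5) (kc xc16 yc40 zc13) (kc xc19 yc4 zc42) (kc xc17 yc57 zc10) (kc xc16 yc46 zc43) (kc xc26 yc24 zc12) (kc xc17 yc57 zc41) (kc xc15 yc54 zc20) (kc xc25 yc47 zc47) (kc xc24 yc58 zc19) (kc xc25 yc47 zc46) (kc xc22 yc54 zc23) (kc xc27 yc23 zc19) (kc xc26 yc5 zc53) (kc xc15 yc19 zc57)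 (kc xc25 yc11 zc19) (kc xc15 yc9 zc33) (kc xc31 yc43 zc56) (kc xc22 yc54 zc25) (kc xc27 yc12 zc13) (kc xc26 yc10 zc52) (kc xc15 yc9 zc37) (kc xc15 yc9 zc39) (kc xc18 yc19 zc41) (kc xc15 yc9 zc42) (kc xc15 yc9 zc43) (kc xc19 yc59 zc47) (kc xc24 yc54 zc36) (kc xc18 yc31 zc35) (kc xc18 yc20 zc13) (kc xc15 yc9 zc51) (kc xc28 yc1 zc57) (kc xc28 yc1 zc58) (kc xc22 yc28 zc25) (kc xc20 yc54 zc55) (kc xc15 yc9 zc55) (kc xc20 yc54 zc56) (kc xc15 yc9 zc56)) (@D3.rec (fun _ => Pt) (kc xc26 yc21 zc36) (kc xc15 yc9 zc57) (kc xc30 yc54 zc20) (kc xc23 yc13 zc5) (kc xc20 yc45 zc48) (kc xc16 yc14 zc29) (kc xc23 yc13 zc7) (kc xc27 yc24 zc61) (kc xc17 yc41 zc31) (kc xc15 yc10 zc3) (kc xc25 yc18 zc16) (kc xc25 yc18 zc26) (kc xc20 yc32 zc7) (kc xc17 yc9 zc16) (kc xc15 yc10 zc4) (kc xc28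 yc4 zc33) (kc xc28 yc31 zc60) (kc xc31 yc0 zc50) (kc xc15 yc10 zc5) (kc xc31 yc44 zc2) (kc xc23 yc37 zc23) (kc xc31 yc7 zc18) (kc xc18 yc28 zc40) (kc xc28 yc13 zc29) (kc xc26 yc15 zc42) (kc xc15 yc10 zc12) (kc xc25 yc11 zc46) (kc xc31 yc36 zc22) (kc xc15 yc10 zc13) (kc xc30 yc48 zc19) (kc xc31 yc44 zc5) (kc xc15 yc10 zc14) (kc xc31 yc44 zc8) (kc xc17 yc12 zc1) (kc xc18 yc21 zc9) (kc xc22 yc30 zc26) (kc xc31 yc2 zc27) (kc xc16 yc16 zc55) (kc xc27 yc30 zc57) (kc xc15 yc10 zc22) (kc xc23 yc15 zc27) (kc xc30 yc58 zc3) (kc xc15 yc10 zc26) (kc xc30 yc57 zc53) (kc xc30 yc48 zc16) (kc xc30 yc59 zc10) (kc xc15 yc10 zc27) (kc xc25 yc11 zc36) (kc xc31 yc5 zc59) (kc xc31 yc44 zc7) (kc xc28 yc23 zc22) (kc xc29 yc28 zc40) (kc xc16 yc11 zc48) (kc xc16 yc11 zc49) (kc xc26 yc3 zc32)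 (kc xc21 yc57 zc8) (kc xc23 yc46 zc60) (kc xc17 yc3 zc30) (kc xc15 yc10 zc43) (kc xc31 yc44 zc13) (kc xc31 yc44 zc12) (kc xc31 yc44 zc14))
def f_c_25 : D2 → D3 → Pt := @D2.rec (fun _ => D3 → Pt) (@D3.rec (fun _ => Pt) (kc xc15 yc10 zc47) (kc xc29 yc22 zc7) (kc xc18 yc10 zc49) (kc xc18 yc32 zc48) (kc xc15 yc10 zc52) (kc xc15 yc10 zc54) (kc xc25 yc3 zc12) (kc xc30 yc57 zc35) (kc xc15 yc10 zc56) (kc xc28 yc2 zc60) (kc xc27 yc55 zc24) (kc xc16 yc21 zc47) (kc xc23 yc35 zc37) (kc xc18 yc38 zc60) (kc xc27 yc46 zc27) (kc xc27 yc46 zc19) (kc xc26 yc12 zc50) (kc xc15 yc11 zc12) (kc xc28 yc15 zc21) (kc xc30 yc59 zc15) (kc xc31 yc44 zc18) (kc xc31 yc44 zc20) (kc xc15 yc11 zc16) (kc xc31 yc33 zc60) (kc xc31 yc32 zc50) (kc xc27 yc25 zc42) (kc xc15 yc13 zc47) (kc xc17 yc38 zc35) (kc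 xc15 yc11 zc19) (kc xc17 yc39 zc19) (kc xc31 yc38 zc13) (kc xc19 yc18 zc18) (kc xc17 yc46 zc22) (kc xc21 yc13 zc1) (kc xc16 yc23 zc47) (kc xc31 yc44 zc27) (kc xc25 yc3 zc50) (kc xc15 yc13 zc11) (kc xc18 yc34 zc28) (kc xc31 yc44 zc28) (kc xc18 yc49 zc25) (kc xc31 yc44 zc30) (kc xc28 yc3 zc38) (kc xc15 yc11 zc34) (kc xc29 yc15 zc52) (kc xc31 yc44 zc33) (kc xc25 yc30 zc52) (kc xc25 yc1 zc1) (kc xc28 yc16 zc15) (kc xc30 yc48 zc27) (kc xc23 yc32 zc61) (kc xc31 yc44 zc31) (kc xc15 yc11 zc57) (kc xc19 yc2 zc21) (kc xc18 yc27 zc51) (kc xc15 yc11 zc59) (kc xc16 yc23 zc48) (kc xc15 yc11 zc60) (kc xc27 yc33 zc5) (kc xc16 yc19 zc44) (kc xc28 yc27 zc34) (kc xc25 yc3 zc51)) (@D3.rec (fun _ => Pt) (kc xc25 yc1 zc54) (kc xc25 yc0 zc47) (kc xc27 yc47 zc39) (kc xc25 yc48 zc46) (kc xc15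 yc12 zc9) (kc xc15 yc12 zc10) (kc xc28 yc4 zc3) (kc xc27 yc20 zc34) (kc xc31 yc14 zc33) (kc xc30 yc23 zc26) (kc xc24 yc54 zc7) (kc xc31 yc38 zc39) (kc xc25 yc43 zc61) (kc xc27 yc45 zc43) (kc xc21 yc4 zc61) (kc xc30 yc23 zc25) (kc xc22 yc15 zc49) (kc xc31 yc36 zc23) (kc xc30 yc44 zc20) (kc xc15 yc12 zc21) (kc xc17 yc15 zc21) (kc xc26 yc28 zc22) (kc xc15 yc13 zc45) (kc xc15 yc13 zc46) (kc xc31 yc44 zc38) (kc xc15 yc12 zc41) (kc xc17 yc37 zc1) (kc xc15 yc12 zc28) (kc xc25 yc49 zc37) (kc xc15 yc12 zc32) (kc xc23 yc7 zc33) (kc xc26 yc18 zc40) (kc xc18 yc53 zc31) (kc xc22 yc18 zc30) (kc xc23 yc21 zc56) (kc xc18 yc53 zc38) (kc xc24 yc57 zc32) (kc xc19 yc17 zc1) (kc xc18 yc26 zc26) (kc xc15 yc12 zc42) (kc xc31 yc44 zc43) (kc xc31 yc44 zc44) (kc xc15 yc12 zc43) (kc xc27 yc33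 zc15) (kc xc29 yc54 zc14) (kc xc29 yc54 zc13) (kc xc27 yc25 zc39) (kc xc27 yc52 zc3) (kc xc15 yc12 zc46) (kc xc16 yc11 zc58) (kc xc16 yc11 zc57) (kc xc23 yc15 zc33) (kc xc31 yc44 zc46) (kc xc18 yc30 zc32) (kc xc25 yc1 zc0) (kc xc24 yc48 zc12) (kc xc28 yc2 zc15) (kc xc23 yc35 zc38) (kc xc26 yc45 zc59) (kc xc28 yc3 zc10) (kc xc15 yc13 zc3) (kc xc31 yc44 zc53)) (@D3.rec (fun _ => Pt) (kc xc30 yc57 zc27) (kc xc17 yc44 zc9) (kc xc23 yc31 zc53) (kc xc26 yc14 zc61) (kc xc23 yc31 zc42) (kc xc28 yc23 zc40) (kc xc25 yc3 zc61) (kc xc28 yc20 zc43) (kc xc29 yc28 zc30) (kc xc15 yc13 zc10) (kc xc27 yc12 zc36) (kc xc27 yc12 zc39) (kc xc15 yc13 zc13) (kc xc29 yc30 zc4) (kc xc31 yc5 zc57) (kc xc24 yc55 zc38) (kc xc26 yc31 zc19) (kc xc25 yc2 zc40) (kc xc15 yc13 zc19) (kc xc15 yc13 zc20)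 (kc xc23 yc30 zc58) (kc xc31 yc44 zc61) (kc xc26 yc8 zc32) (kc xc23 yc2 zc13) (kc xc26 yc8 zc46) (kc xc25 yc2 zc39) (kc xc15 yc13 zc25) (kc xc30 yc51 zc57) (kc xc26 yc8 zc48) (kc xc15 yc13 zc27) (kc xc15 yc29 zc40) (kc xc24 yc41 zc29) (kc xc23 yc25 zc37) (kc xc24 yc56 zc47) (kc xc23 yc14 zc59) (kc xc18 yc18 zc56) (kc xc15 yc13 zc31) (kc xc26 yc25 zc1) (kc xc18 yc37 zc42) (kc xc25 yc2 zc25) (kc xc25 yc2 zc17) (kc xc18 yc17 zc44) (kc xc15 yc13 zc41) (kc xc22 yc30 zc51) (kc xc30 yc32 zc12) (kc xc23 yc32 zc27) (kc xc29 yc51 zc27) (kc xc31 yc43 zc59) (kc xc15 yc13 zc42) (kc xc18 yc40 zc43) (kc xc18 yc40 zc42) (kc xc23 yc19 zc54) (kc xc31 yc33 zc53) (kc xc25 yc3 zc49) (kc xc15 yc13 zc52) (kc xc17 yc51 zc51) (kc xc31 yc45 zc6) (kc xc15 yc13 zc53) (kc xc18 yc33 zc42) (kc xc17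 yc46 zc21) (kc xc15 yc13 zc58) (kc xc18 yc58 zc28)) (@D3.rec (fun _ => Pt) (kc xc30 yc47 zc5) (kc xc31 yc45 zc7) (kc xc15 yc13 zc60) (kc xc30 yc59 zc11) (kc xc30 yc58 zc14) (kc xc15 yc14 zc0) (kc xc15 yc14 zc1) (kc xc22 yc31 zc23) (kc xc23 yc17 zc56) (kc xc16 yc17 zc4) (kc xc29 yc54 zc16) (kc xc30 yc24 zc51) (kc xc25 yc0 zc6) (kc xc18 yc9 zc51) (kc xc15 yc14 zc9) (kc xc15 yc14 zc13) (kc xc18 yc5 zc59) (kc xc27 yc45 zc36) (kc xc15 yc14 zc16) (kc xc15 yc14 zc17) (kc xc22 yc29 zc11) (kc xc23 yc6 zc12) (kc xc16 yc20 zc30) (kc xc15 yc14 zc18) (kc xc29 yc54 zc18) (kc xc26 yc33 zc2) (kc xc25 yc30 zc10) (kc xc27 yc40 zc13) (kc xc23 yc32 zc42) (kc xc23 yc3 zc17) (kc xc30 yc48 zc30) (kc xc23 yc18 zc5) (kc xc27 yc49 zc5) (kc xc27 yc49 zc4) (kc xc15 yc14 zc26) (kc xc15 yc14 zc27)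 (kc xc15 yc14 zc28) (kc xc31 yc45 zc9) (kc xc26 yc32 zc9) (kc xc26 yc15 zc36) (kc xc26 yc1 zc14) (kc xc15 yc14 zc33) (kc xc30 yc44 zc35) (kc xc18 yc48 zc28) (kc xc15 yc14 zc34) (kc xc31 yc45 zc11) (kc xc18 yc8 zc24) (kc xc18 yc8 zc25) (kc xc15 yc14 zc41) (kc xc25 yc2 zc53) (kc xc25 yc0 zc36) (kc xc25 yc0 zc61) (kc xc25 yc54 zc46) (kc xc15 yc14 zc48) (kc xc28 yc8 zc49) (kc xc25 yc54 zc39) (kc xc15 yc14 zc52) (kc xc28 yc32 zc5) (kc xc23 yc37 zc42) (kc xc21 yc29 zc31) (kc xc23 yc44 zc2) (kc xc25 yc2 zc6)) (@D3.rec (fun _ => Pt) (kc xc23 yc17 zc5) (kc xc23 yc35 zc51) (kc xc15 yc14 zc60) (kc xc15 yc14 zc61) (kc xc21 yc46 zc61) (kc xc26 yc0 zc20) (kc xc21 yc6 zc4) (kc xc31 yc45 zc23) (kc xc19 yc19 zc54) (kc xc24 yc11 zc59) (kc xc18 yc10 zc53) (kc xc24 yc11 zc60) (kc xc22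 yc57 zc13) (kc xc15 yc52 zc20) (kc xc16 yc38 zc14) (kc xc15 yc15 zc11) (kc xc19 yc15 zc41) (kc xc17 yc52 zc11) (kc xc15 yc15 zc12) (kc xc24 yc11 zc58) (kc xc15 yc15 zc14) (kc xc31 yc29 zc19) (kc xc15 yc48 zc18) (kc xc26 yc39 zc29) (kc xc24 yc52 zc29) (kc xc28 yc0 zc21) (kc xc16 yc39 zc48) (kc xc31 yc45 zc26) (kc xc17 yc50 zc57) (kc xc16 yc36 zc56) (kc xc15 yc15 zc22) (kc xc15 yc19 zc46) (kc xc16 yc36 zc57) (kc xc15 yc51 zc59) (kc xc15 yc15 zc25) (kc xc31 yc45 zc32) (kc xc27 yc29 zc33) (kc xc26 yc33 zc47) (kc xc29 yc20 zc39) (kc xc31 yc25 zc17) (kc xc31 yc39 zc44) (kc xc31 yc45 zc33) (kc xc29 yc20 zc30) (kc xc15 yc15 zc28) (kc xc26 yc31 zc36) (kc xc28 yc31 zc36) (kc xc28 yc31 zc35) (kc xc28 yc30 zc22) (kc xc28 yc45 zc11) (kc xc15 yc40 zc1) (kc xc15 yc40 zc2) (kc xc27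 yc0 zc29) (kc xc15 yc38 zc57) (kc xc15 yc15 zc31) (kc xc31 yc45 zc38) (kc xc16 yc1 zc50) (kc xc24 yc47 zc14) (kc xc31 yc45 zc39) (kc xc25 yc59 zc11) (kc xc25 yc55 zc41) (kc xc15 yc39 zc38) (kc xc15 yc39 zc39)) (@D3.rec (fun _ => Pt) (kc xc31 yc45 zc42) (kc xc15 yc38 zc12) (kc xc19 yc46 zc8) (kc xc19 yc46 zc9) (kc xc15 yc15 zc37) (kc xc15 yc20 zc56) (kc xc15 yc54 zc21) (kc xc15 yc54 zc19) (kc xc19 yc53 zc57) (kc xc19 yc10 zc49) (kc xc15 yc15 zc43) (kc xc15 yc15 zc42) (kc xc21 yc10 zc59) (kc xc15 yc21 zc11) (kc xc31 yc45 zc46) (kc xc29 yc6 zc46) (kc xc15 yc51 zc58) (kc xc18 yc44 zc4) (kc xc15 yc15 zc45) (kc xc19 yc40 zc58) (kc xc23 yc5 zc58) (kc xc19 yc10 zc50) (kc xc15 yc15 zc48) (kc xc15 yc21 zc25) (kc xc30 yc36 zc54) (kc xc29 yc7 zc11) (kc xc15 yc15 zc49) (kc xc31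 yc0 zc11) (kc xc28 yc0 zc4) (kc xc25 yc34 zc51) (kc xc25 yc34 zc55) (kc xc25 yc51 zc31) (kc xc31 yc45 zc51) (kc xc15 yc15 zc53) (kc xc31 yc45 zc54) (kc xc15 yc40 zc53) (kc xc19 yc3 zc11) (kc xc15 yc37 zc13) (kc xc25 yc53 zc31) (kc xc25 yc55 zc51) (kc xc15 yc40 zc46) (kc xc31 yc45 zc57) (kc xc15 yc35 zc53) (kc xc26 yc24 zc47) (kc xc31 yc38 zc36) (kc xc29 yc15 zc27) (kc xc27 yc42 zc44) (kc xc15 yc15 zc60) (kc xc27 yc3 zc8) (kc xc28 yc19 zc37) (kc xc22 yc3 zc60) (kc xc26 yc37 zc12) (kc xc19 yc5 zc30) (kc xc26 yc36 zc61) (kc xc17 yc43 zc21) (kc xc29 yc4 zc2) (kc xc29 yc4 zc3) (kc xc15 yc16 zc2) (kc xc19 yc28 zc22) (kc xc31 yc45 zc58) (kc xc15 yc16 zc4) (kc xc28 yc48 zc3)) (@D3.rec (fun _ => Pt) (kc xc28 yc47 zc32) (kc xc19 yc23 zc55) (kc xc22 yc2 zc44) (kc xc25 yc7 zc0)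 (kc xc16 yc11 zc15) (kc xc15 yc16 zc10) (kc xc26 yc11 zc13) (kc xc24 yc2 zc54) (kc xc15 yc16 zc11) (kc xc19 yc19 zc24) (kc xc17 yc41 zc39) (kc xc31 yc45 zc60) (kc xc22 yc6 zc61) (kc xc19 yc19 zc26) (kc xc16 yc29 zc0) (kc xc19 yc24 zc5) (kc xc15 yc52 zc41) (kc xc15 yc16 zc18) (kc xc26 yc28 zc31) (kc xc25 yc44 zc5) (kc xc20 yc55 zc2) (kc xc15 yc16 zc25) (kc xc27 yc21 zc28) (kc xc15 yc16 zc26) (kc xc31 yc46 zc2) (kc xc25 yc22 zc14) (kc xc31 yc46 zc3) (kc xc27 yc17 zc42) (kc xc25 yc48 zc36) (kc xc31 yc46 zc7) (kc xc31 yc46 zc8) (kc xc31 yc46 zc10) (kc xc15 yc16 zc31) (kc xc19 yc24 zc52) (kc xc28 yc3 zc39) (kc xc15 yc53 zc30) (kc xc15 yc16 zc36) (kc xc27 yc14 zc3) (kc xc29 yc44 zc3) (kc xc19 yc8 zc11) (kc xc31 yc46 zc19) (kc xc19 yc25 zc33) (kc xc27 yc47 zc53) (kc xc26 yc18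 zc16) (kc xc15 yc16 zc41) (kc xc27 yc52 zc31) (kc xc27 yc41 zc32) (kc xc31 yc46 zc24) (kc xc15 yc16 zc45) (kc xc15 yc16 zc48) (kc xc24 yc7 zc57) (kc xc15 yc16 zc49) (kc xc29 yc17 zc60) (kc xc28 yc36 zc60) (kc xc29 yc27 zc22) (kc xc22 yc6 zc38) (kc xc28 yc37 zc0) (kc xc19 yc26 zc12) (kc xc15 yc16 zc57) (kc xc31 yc37 zc32) (kc xc18 yc5 zc46) (kc xc24 yc7 zc7)) (@D3.rec (fun _ => Pt) (kc xc25 yc6 zc3) (kc xc15 yc34 zc27) (kc xc15 yc34 zc22) (kc xc31 yc46 zc33) (kc xc15 yc17 zc1) (kc xc15 yc28 zc60) (kc xc21 yc25 zc40) (kc xc27 yc24 zc13) (kc xc31 yc46 zc36) (kc xc24 yc38 zc14) (kc xc27 yc28 zc36) (kc xc31 yc44 zc35) (kc xc27 yc42 zc5) (kc xc15 yc59 zc43) (kc xc25 yc24 zc45) (kc xc27 yc24 zc14) (kc xc17 yc35 zc47) (kc xc26 yc2 zc16) (kc xc28 yc33 zc22) (kc xc17 yc35 zc48)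 (kc xc28 yc33 zc20) (kc xc24 yc7 zc8) (kc xc25 yc24 zc50) (kc xc30 yc17 zc8) (kc xc26 yc23 zc55) (kc xc15 yc17 zc15) (kc xc31 yc46 zc44) (kc xc20 yc50 zc25) (kc xc30 yc4 zc58) (kc xc31 yc46 zc45) (kc xc16 yc7 zc60) (kc xc16 yc7 zc61) (kc xc21 yc9 zc60) (kc xc30 yc55 zc19) (kc xc29 yc4 zc1) (kc xc26 yc17 zc5) (kc xc21 yc5 zc22) (kc xc21 yc5 zc23) (kc xc31 yc46 zc51) (kc xc21 yc1 zc56) (kc xc21 yc30 zc28) (kc xc21 yc30 zc27) (kc xc20 yc37 zc53) (kc xc15 yc53 zc6) (kc xc15 yc53 zc7) (kc xc15 yc17 zc31) (kc xc15 yc17 zc30) (kc xc27 yc5 zc49) (kc xc15 yc17 zc28) (kc xc31 yc46 zc53) (kc xc17 yc37 zc49) (kc xc15 yc17 zc29) (kc xc25 yc27 zc12) (kc xc19 yc12 zc44) (kc xc19 yc11 zc56) (kc xc19 yc3 zc26) (kc xc26 yc42 zc23) (kc xc26 yc41 zc40) (kc xc16 yc43 zc0) (kc xc16 yc43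 zc1) (kc xc29 yc46 zc37) (kc xc15 yc17 zc35)) (@D3.rec (fun _ => Pt) (kc xc31 yc46 zc54) (kc xc27 yc17 zc29) (kc xc15 yc18 zc2) (kc xc20 yc59 zc2) (kc xc24 yc58 zc12) (kc xc15 yc17 zc38) (kc xc22 yc1 zc60) (kc xc31 yc17 zc35) (kc xc18 yc1 zc45) (kc xc27 yc2 zc57) (kc xc15 yc18 zc5) (kc xc21 yc16 zc41) (kc xc15 yc24 zc16) (kc xc17 yc49 zc25) (kc xc25 yc31 zc9) (kc xc31 yc47 zc4) (kc xc26 yc5 zc35) (kc xc16 yc43 zc17) (kc xc15 yc17 zc43) (kc xc31 yc47 zc5) (kc xc21 yc48 zc52) (kc xc21 yc48 zc19) (kc xc21 yc48 zc18) (kc xc26 yc28 zc49) (kc xc21 yc38 zc60) (kc xc19 yc54 zc47) (kc xc31 yc47 zc13) (kc xc15 yc44 zc16) (kc xc29 yc20 zc51) (kc xc31 yc47 zc15) (kc xc15 yc17 zc49) (kc xc31 yc38 zc17) (kc xc15 yc17 zc53) (kc xc20 yc49 zc27) (kc xc25 yc8 zc45) (kc xc15 yc17 zc54)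 (kc xc19 yc36 zc18) (kc xc31 yc23 zc26) (kc xc31 yc47 zc21) (kc xc21 yc48 zc56) (kc xc19 yc55 zc19) (kc xc31 yc47 zc25) (kc xc31 yc47 zc27) (kc xc31 yc47 zc28) (kc xc15 yc17 zc58) (kc xc25 yc8 zc34) (kc xc25 yc14 zc15) (kc xc25 yc14 zc40) (kc xc25 yc31 zc58) (kc xc15 yc17 zc60) (kc xc31 yc46 zc55) (kc xc17 yc24 zc58) (kc xc30 yc29 zc39) (kc xc18 yc12 zc41) (kc xc24 yc3 zc34) (kc xc15 yc18 zc1) (kc xc29 yc45 zc11) (kc xc17 yc28 zc23) (kc xc15 yc18 zc3) (kc xc30 yc52 zc1) (kc xc24 yc13 zc17) (kc xc16 yc27 zc17)) (@D3.rec (fun _ => Pt) (kc xc31 yc47 zc38) (kc xc28 yc34 zc44) (kc xc23 yc10 zc7) (kc xc24 yc13 zc25) (kc xc22 yc47 zc50) (kc xc20 yc49 zc28) (kc xc24 yc5 zc38) (kc xc24 yc4 zc25) (kc xc21 yc4 zc23) (kc xc25 yc54 zc28) (kc xc19 yc13 zc60) (kc xc15 yc53 zc26) (kc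 xc26 yc9 zc58) (kc xc19 yc20 zc30) (kc xc15 yc18 zc32) (kc xc31 yc47 zc42) (kc xc25 yc49 zc11) (kc xc25 yc49 zc9) (kc xc26 yc38 zc42) (kc xc26 yc44 zc35) (kc xc15 yc18 zc35) (kc xc30 yc7 zc52) (kc xc19 yc38 zc27) (kc xc19 yc38 zc28) (kc xc28 yc31 zc18) (kc xc31 yc47 zc51) (kc xc24 yc37 zc60) (kc xc31 yc26 zc23) (kc xc31 yc26 zc52) (kc xc15 yc18 zc38) (kc xc27 yc29 zc31) (kc xc15 yc21 zc18) (kc xc25 yc14 zc46) (kc xc31 yc41 zc23) (kc xc15 yc18 zc44) (kc xc31 yc47 zc58) (kc xc28 yc58 zc56) (kc xc31 yc41 zc24) (kc xc15 yc18 zc47) (kc xc31 yc41 zc22) (kc xc17 yc25 zc51) (kc xc31 yc48 zc2) (kc xc15 yc18 zc48) (kc xc31 yc48 zc3) (kc xc28 yc59 zc20) (kc xc15 yc18 zc49) (kc xc27 yc37 zc32) (kc xc31 yc41 zc42) (kc xc15 yc23 zc6) (kc xc26 yc5 zc15) (kc xc19 yc38 zc26) (kc xc31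 yc37 zc33) (kc xc24 yc22 zc17) (kc xc15 yc18 zc54) (kc xc19 yc54 zc4) (kc xc15 yc38 zc6) (kc xc29 yc59 zc39) (kc xc21 yc21 zc4) (kc xc24 yc3 zc16) (kc xc15 yc18 zc58) (kc xc31 yc36 zc10) (kc xc19 yc38 zc37)) (@D3.rec (fun _ => Pt) (kc xc21 yc22 zc31) (kc xc21 yc36 zc26) (kc xc15 yc19 zc1) (kc xc29 yc0 zc18) (kc xc18 yc51 zc9) (kc xc16 yc45 zc24) (kc xc16 yc45 zc25) (kc xc26 yc8 zc9) (kc xc15 yc51 zc45) (kc xc15 yc19 zc9) (kc xc21 yc17 zc8) (kc xc29 yc5 zc36) (kc xc15 yc19 zc26) (kc xc15 yc19 zc12) (kc xc28 yc16 zc2) (kc xc15 yc19 zc29) (kc xc29 yc1 zc12) (kc xc17 yc52 zc14) (kc xc24 yc52 zc31) (kc xc16 yc44 zc56) (kc xc24 yc52 zc30) (kc xc25 yc46 zc56) (kc xc25 yc12 zc1) (kc xc25 yc11 zc48) (kc xc25 yc12 zc0) (kc xc31 yc46 zc57) (kc xc15 yc19 zc23) (kc xc17 yc51 zc44)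 (kc xc31 yc24 zc26) (kc xc24 yc26 zc5) (kc xc19 yc18 zc11) (kc xc27 yc37 zc39) (kc xc24 yc37 zc59) (kc xc15 yc19 zc31) (kc xc28 yc41 zc54) (kc xc19 yc42 zc5) (kc xc19 yc6 zc9) (kc xc19 yc42 zc6) (kc xc30 yc17 zc53) (kc xc15 yc19 zc35) (kc xc31 yc48 zc15) (kc xc19 yc57 zc49) (kc xc17 yc53 zc50) (kc xc15 yc20 zc38) (kc xc15 yc20 zc39) (kc xc15 yc19 zc40) (kc xc26 yc1 zc8) (kc xc26 yc1 zc9) (kc xc26 yc16 zc17) (kc xc15 yc19 zc45) (kc xc31 yc27 zc3) (kc xc31 yc45 zc29) (kc xc27 yc11 zc25) (kc xc15 yc19 zc47) (kc xc24 yc54 zc16) (kc xc31 yc46 zc12) (kc xc20 yc8 zc17) (kc xc20 yc8 zc18) (kc xc27 yc58 zc27) (kc xc19 yc1 zc2) (kc xc19 yc38 zc38) (kc xc26 yc37 zc8)) (@D3.rec (fun _ => Pt) (kc xc15 yc20 zc9) (kc xc29 yc12 zc41) (kc xc25 yc35 zc2) (kc xc15 yc19 zc60) (kc xc25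 yc15 zc3) (kc xc28 yc19 zc42) (kc xc31 yc35 zc39) (kc xc25 yc33 zc31) (kc xc15 yc20 zc12) (kc xc24 yc34 zc1) (kc xc24 yc34 zc6) (kc xc21 yc23 zc40) (kc xc25 yc40 zc54) (kc xc27 yc35 zc37) (kc xc27 yc36 zc35) (kc xc16 yc9 zc6) (kc xc26 yc5 zc40) (kc xc28 yc59 zc46) (kc xc15 yc21 zc33) (kc xc24 yc58 zc39) (kc xc25 yc12 zc61) (kc xc25 yc12 zc19) (kc xc31 yc47 zc46) (kc xc15 yc20 zc8) (kc xc24 yc16 zc30) (kc xc15 yc20 zc10) (kc xc31 yc48 zc31) (kc xc23 yc12 zc37) (kc xc24 yc28 zc47) (kc xc15 yc20 zc13) (kc xc25 yc48 zc2) (kc xc20 yc22 zc38) (kc xc22 yc50 zc46) (kc xc19 yc19 zc3) (kc xc31 yc48 zc38) (kc xc15 yc20 zc17) (kc xc24 yc59 zc47) (kc xc31 yc48 zc40) (kc xc21 yc11 zc57) (kc xc26 yc24 zc52) (kc xc19 yc46 zc17) (kc xc28 yc50 zc55) (kc xc20 yc32 zc4) (kc xc15 yc20 zc25)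 (kc xc31 yc48 zc42) (kc xc15 yc20 zc29) (kc xc24 yc59 zc26) (kc xc16 yc31 zc45) (kc xc25 yc10 zc23) (kc xc29 yc34 zc60) (kc xc28 yc30 zc23) (kc xc26 yc50 zc33) (kc xc27 yc12 zc58) (kc xc24 yc11 zc16) (kc xc29 yc9 zc57) (kc xc31 yc48 zc45) (kc xc28 yc31 zc26) (kc xc15 yc54 zc15) (kc xc24 yc49 zc4) (kc xc24 yc29 zc25) (kc xc24 yc34 zc23) (kc xc21 yc23 zc27)) (@D3.rec (fun _ => Pt) (kc xc25 yc10 zc24) (kc xc25 yc10 zc22) (kc xc30 yc14 zc34) (kc xc26 yc55 zc3) (kc xc31 yc47 zc14) (kc xc15 yc20 zc51) (kc xc23 yc56 zc25) (kc xc25 yc22 zc49) (kc xc23 yc10 zc10) (kc xc30 yc8 zc60) (kc xc15 yc20 zc57) (kc xc16 yc28 zc41) (kc xc15 yc20 zc59) (kc xc25 yc46 zc2) (kc xc19 yc30 zc11) (kc xc24 yc0 zc12) (kc xc24 yc27 zc42) (kc xc28 yc1 zc26) (kc xc24 yc48 zc42) (kc xc25 yc11 zc21)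 (kc xc20 yc49 zc52) (kc xc28 yc0 zc7) (kc xc15 yc21 zc6) (kc xc16 yc28 zc21) (kc xc22 yc54 zc1) (kc xc25 yc50 zc14) (kc xc25 yc50 zc15) (kc xc19 yc30 zc10) (kc xc22 yc28 zc57) (kc xc31 yc48 zc51) (kc xc15 yc21 zc12) (kc xc31 yc48 zc52) (kc xc27 yc30 zc5) (kc xc26 yc33 zc55) (kc xc15 yc21 zc20) (kc xc31 yc11 zc17) (kc xc15 yc21 zc19) (kc xc15 yc41 zc53) (kc xc28 yc36 zc44) (kc xc16 yc40 zc10) (kc xc16 yc40 zc11) (kc xc28 yc21 zc7) (kc xc26 yc33 zc56) (kc xc15 yc21 zc21) (kc xc20 yc52 zc59) (kc xc24 yc39 zc6) (kc xc20 yc54 zc27) (kc xc31 yc3 zc49) (kc xc15 yc21 zc29) (kc xc21 yc43 zc23) (kc xc21 yc48 zc4) (kc xc17 yc29 zc35) (kc xc15 yc52 zc13) (kc xc19 yc49 zc14) (kc xc15 yc52 zc11) (kc xc27 yc59 zc20) (kc xc15 yc21 zc32) (kc xc21 yc43 zc38) (kc xc22 yc47 zc43) (kc xc24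 yc18 zc2) (kc xc29 yc6 zc50) (kc xc25 yc11 zc20)) (@D3.rec (fun _ => Pt) (kc xc15 yc21 zc35) (kc xc21 yc43 zc49) (kc xc16 yc13 zc61) (kc xc31 yc49 zc2) (kc xc15 yc21 zc41) (kc xc25 yc42 zc5) (kc xc28 yc59 zc50) (kc xc15 yc21 zc40) (kc xc21 yc43 zc13) (kc xc29 yc51 zc8) (kc xc29 yc41 zc31) (kc xc15 yc21 zc43) (kc xc30 yc8 zc21) (kc xc15 yc21 zc44) (kc xc29 yc59 zc61) (kc xc29 yc6 zc3) (kc xc27 yc27 zc4) (kc xc24 yc37 zc8) (kc xc25 yc54 zc20) (kc xc15 yc21 zc46) (kc xc30 yc6 zc32) (kc xc15 yc21 zc48) (kc xc29 yc12 zc51) (kc xc16 yc17 zc17) (kc xc16 yc49 zc3) (kc xc27 yc11 zc3) (kc xc15 yc57 zc46) (kc xc15 yc21 zc51) (kc xc31 yc49 zc6) (kc xc15 yc21 zc53) (kc xc31 yc35 zc36) (kc xc15 yc21 zc54) (kc xc31 yc46 zc26) (kc xc21 yc58 zc20) (kc xc30 yc8 zc47) (kc xc26 yc16 zc53)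 (kc xc26 yc16 zc55) (kc xc15 yc54 zc59) (kc xc25 yc41 zc42) (kc xc28 yc18 zc50) (kc xc31 yc49 zc4) (kc xc29 yc16 zc22) (kc xc15 yc22 zc0) (kc xc15 yc22 zc6) (kc xc15 yc22 zc5) (kc xc15 yc22 zc4) (kc xc15 yc22 zc7) (kc xc28 yc51 zc17) (kc xc29 yc16 zc58) (kc xc15 yc22 zc10) (kc xc20 yc26 zc59) (kc xc15 yc22 zc11) (kc xc26 yc43 zc13) (kc xc19 yc16 zc19) (kc xc31 yc49 zc17) (kc xc31 yc49 zc20) (kc xc26 yc43 zc17) (kc xc26 yc34 zc42) (kc xc31 yc49 zc21) (kc xc31 yc40 zc4) (kc xc28 yc5 zc55) (kc xc15 yc22 zc16)) (@D3.rec (fun _ => Pt) (kc xc15 yc22 zc18) (kc xc15 yc22 zc21) (kc xc24 yc26 zc13) (kc xc15 yc22 zc22) (kc xc31 yc21 zc52) (kc xc28 yc29 zc49) (kc xc31 yc49 zc25) (kc xc24 yc26 zc8) (kc xc31 yc3 zc29) (kc xc24 yc23 zc13) (kc xc20 yc56 zc25) (kc xc31 yc42 zc9) (kc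 xc29 yc16 zc21) (kc xc15 yc22 zc26) (kc xc28 yc3 zc20) (kc xc25 yc8 zc46) (kc xc16 yc38 zc45) (kc xc16 yc49 zc23) (kc xc24 yc36 zc57) (kc xc26 yc43 zc43) (kc xc26 yc43 zc44) (kc xc16 yc49 zc30) (kc xc23 yc38 zc49) (kc xc21 yc0 zc9) (kc xc20 yc39 zc5) (kc xc17 yc59 zc6) (kc xc17 yc58 zc23) (kc xc29 yc32 zc10) (kc xc16 yc22 zc36) (kc xc28 yc29 zc61) (kc xc23 yc2 zc16) (kc xc24 yc15 zc33) (kc xc17 yc57 zc33) (kc xc15 yc47 zc31) (kc xc15 yc47 zc32) (kc xc21 yc18 zc32) (kc xc16 yc3 zc27) (kc xc28 yc13 zc23) (kc xc20 yc4 zc46) (kc xc20 yc4 zc24) (kc xc25 yc8 zc47) (kc xc16 yc12 zc21) (kc xc20 yc4 zc41) (kc xc16 yc44 zc42) (kc xc21 yc36 zc6) (kc xc15 yc22 zc54) (kc xc25 yc9 zc32) (kc xc25 yc37 zc30) (kc xc25 yc22 zc30) (kc xc19 yc52 zc60) (kc xc15 yc22 zc59) (kc xc24 yc36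 zc54) (kc xc23 yc39 zc20) (kc xc31 yc49 zc43) (kc xc25 yc50 zc26) (kc xc15 yc22 zc60) (kc xc31 yc49 zc45) (kc xc19 yc52 zc59) (kc xc15 yc23 zc0) (kc xc30 yc40 zc5) (kc xc31 yc49 zc48) (kc xc31 yc36 zc34)) (@D3.rec (fun _ => Pt) (kc xc28 yc41 zc10) (kc xc29 yc59 zc44) (kc xc28 yc41 zc48) (kc xc25 yc11 zc4) (kc xc15 yc23 zc2) (kc xc24 yc39 zc47) (kc xc15 yc44 zc29) (kc xc31 yc28 zc24) (kc xc15 yc23 zc3) (kc xc24 yc39 zc48) (kc xc19 yc16 zc20) (kc xc31 yc36 zc45) (kc xc24 yc17 zc5) (kc xc28 yc57 zc13) (kc xc16 yc49 zc57) (kc xc16 yc8 zc21) (kc xc16 yc8 zc22) (kc xc17 yc40 zc13) (kc xc15 yc23 zc8) (kc xc24 yc23 zc7) (kc xc16 yc54 zc22) (kc xc24 yc19 zc27) (kc xc28 yc30 zc29) (kc xc31 yc41 zc1) (kc xc21 yc30 zc40) (kc xc29 yc16 zc59) (kc xc15 yc23 zc13) (kc xc24 yc41 zc2)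 (kc xc20 yc27 zc19) (kc xc17 yc5 zc27) (kc xc15 yc23 zc17) (kc xc27 yc43 zc45) (kc xc28 yc28 zc59) (kc xc24 yc43 zc13) (kc xc24 yc41 zc57) (kc xc15 yc23 zc20) (kc xc26 yc1 zc2) (kc xc24 yc41 zc52) (kc xc18 yc5 zc30) (kc xc15 yc23 zc24) (kc xc31 yc49 zc60) (kc xc20 yc3 zc42) (kc xc16 yc9 zc8) (kc xc15 yc23 zc26) (kc xc27 yc26 zc44) (kc xc23 yc22 zc50) (kc xc21 yc12 zc42) (kc xc16 yc21 zc12) (kc xc16 yc21 zc13) (kc xc16 yc19 zc25) (kc xc15 yc23 zc34) (kc xc26 yc21 zc39) (kc xc15 yc23 zc33) (kc xc27 yc48 zc13) (kc xc27 yc47 zc35) (kc xc31 yc6 zc57) (kc xc23 yc34 zc11) (kc xc15 yc23 zc37) (kc xc15 yc23 zc36) (kc xc18 yc22 zc51) (kc xc15 yc26 zc59) (kc xc15 yc23 zc39)) (@D3.rec (fun _ => Pt) (kc xc29 yc29 zc45) (kc xc23 yc32 zc36) (kc xc15 yc26 zc58) (kc xc15 yc23 zc41)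 (kc xc18 yc23 zc45) (kc xc28 yc0 zc48) (kc xc23 yc15 zc3) (kc xc15 yc23 zc45) (kc xc28 yc20 zc5) (kc xc29 yc24 zc16) (kc xc15 yc26 zc49) (kc xc15 yc26 zc46) (kc xc15 yc26 zc38) (kc xc15 yc26 zc27) (kc xc15 yc26 zc43) (kc xc31 yc44 zc51) (kc xc20 yc33 zc23) (kc xc29 yc18 zc61) (kc xc18 yc29 zc49) (kc xc16 yc25 zc47) (kc xc30 yc42 zc44) (kc xc21 yc13 zc0) (kc xc31 yc45 zc1) (kc xc15 yc23 zc55) (kc xc31 yc12 zc17) (kc xc31 yc0 zc52) (kc xc23 yc2 zc2) (kc xc15 yc23 zc57) (kc xc31 yc50 zc1) (kc xc17 yc43 zc37) (kc xc31 yc50 zc2) (kc xc18 yc26 zc55) (kc xc27 yc38 zc38) (kc xc15 yc39 zc46) (kc xc15 yc33 zc48) (kc xc15 yc33 zc50) (kc xc27 yc24 zc54) (kc xc23 yc12 zc56) (kc xc27 yc51 zc8) (kc xc17 yc55 zc51) (kc xc17 yc55 zc46) (kc xc19 yc32 zc52) (kc xc15 yc56 zc9) (kc xc16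 yc37 zc2) (kc xc20 yc48 zc33) (kc xc16 yc37 zc0) (kc xc26 yc7 zc54) (kc xc25 yc20 zc16) (kc xc31 yc17 zc26) (kc xc15 yc24 zc24) (kc xc16 yc56 zc48) (kc xc21 yc29 zc5) (kc xc20 yc56 zc11) (kc xc23 yc53 zc47) (kc xc31 yc0 zc6) (kc xc26 yc32 zc22) (kc xc18 yc19 zc44) (kc xc18 yc17 zc41) (kc xc15 yc24 zc44) (kc xc15 yc24 zc42) (kc xc31 yc50 zc5) (kc xc18 yc46 zc34)) (@D3.rec (fun _ => Pt) (kc xc27 yc22 zc34) (kc xc18 yc46 zc29) (kc xc18 yc41 zc24) (kc xc25 yc19 zc61) (kc xc25 yc39 zc55) (kc xc26 yc7 zc57) (kc xc30 yc4 zc11) (kc xc31 yc7 zc11) (kc xc31 yc50 zc9) (kc xc18 yc41 zc32) (kc xc25 yc24 zc19) (kc xc19 yc6 zc48) (kc xc25 yc20 zc11) (kc xc15 yc25 zc1) (kc xc31 yc50 zc11) (kc xc17 yc23 zc29) (kc xc26 yc43 zc19) (kc xc21 yc45 zc49) (kc xc19 yc29 zc39) (kc xc29 yc38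 zc52) (kc xc23 yc50 zc8) (kc xc20 yc56 zc56) (kc xc27 yc22 zc22) (kc xc18 yc52 zc43) (kc xc15 yc32 zc53) (kc xc15 yc33 zc3) (kc xc25 yc19 zc46) (kc xc24 yc32 zc53) (kc xc29 yc44 zc10) (kc xc22 yc6 zc4) (kc xc15 yc25 zc14) (kc xc29 yc43 zc54) (kc xc29 yc43 zc24) (kc xc17 yc24 zc39) (kc xc29 yc44 zc14) (kc xc21 yc9 zc17) (kc xc18 yc19 zc53) (kc xc18 yc56 zc34) (kc xc19 yc46 zc29) (kc xc17 yc12 zc59) (kc xc25 yc21 zc5) (kc xc31 yc50 zc13) (kc xc28 yc36 zc53) (kc xc28 yc36 zc54) (kc xc15 yc25 zc34) (kc xc20 yc12 zc27) (kc xc15 yc55 zc28) (kc xc20 yc34 zc29) (kc xc31 yc50 zc14) (kc xc15 yc25 zc48) (kc xc15 yc25 zc49) (kc xc15 yc25 zc54) (kc xc15 yc25 zc52) (kc xc29 yc22 zc54) (kc xc22 yc47 zc12) (kc xc19 yc54 zc2) (kc xc16 yc42 zc31) (kc xc21 yc46 zc40) (kc xc15 yc25 zc59)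 (kc xc15 yc25 zc61) (kc xc25 yc34 zc26) (kc xc25 yc51 zc36)) (@D3.rec (fun _ => Pt) (kc xc31 yc50 zc18) (kc xc15 yc26 zc2) (kc xc28 yc28 zc57) (kc xc31 yc50 zc22) (kc xc30 yc34 zc29) (kc xc20 yc42 zc61) (kc xc28 yc1 zc31) (kc xc15 yc26 zc11) (kc xc17 yc57 zc50) (kc xc15 yc26 zc15) (kc xc20 yc35 zc56) (kc xc26 yc32 zc20) (kc xc20 yc36 zc11) (kc xc31 yc2 zc35) (kc xc22 yc34 zc13) (kc xc24 yc31 zc13) (kc xc24 yc59 zc10) (kc xc18 yc15 zc9) (kc xc21 yc2 zc56) (kc xc20 yc23 zc42) (kc xc17 yc7 zc7) (kc xc26 yc8 zc33) (kc xc15 yc26 zc34) (kc xc28 yc13 zc48) (kc xc18 yc23 zc40) (kc xc29 yc29 zc38) (kc xc24 yc59 zc11) (kc xc28 yc13 zc38) (kc xc30 yc27 zc33) (kc xc27 yc21 zc7) (kc xc30 yc46 zc27) (kc xc18 yc45 zc8) (kc xc15 yc26 zc40) (kc xc26 yc20 zc26) (kc xc27 yc59 zc38) (kc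 xc19 yc7 zc9) (kc xc20 yc32 zc52) (kc xc18 yc42 zc11) (kc xc15 yc26 zc57) (kc xc31 yc50 zc29) (kc xc19 yc7 zc14) (kc xc15 yc26 zc61) (kc xc30 yc45 zc36) (kc xc30 yc45 zc37) (kc xc21 yc10 zc23) (kc xc28 yc37 zc12) (kc xc15 yc27 zc2) (kc xc31 yc50 zc34) (kc xc15 yc27 zc6) (kc xc18 yc21 zc32) (kc xc24 yc30 zc18) (kc xc26 yc57 zc60) (kc xc26 yc24 zc61) (kc xc21 yc35 zc1) (kc xc25 yc48 zc61) (kc xc16 yc1 zc12) (kc xc15 yc57 zc11) (kc xc15 yc57 zc13) (kc xc17 yc43 zc32) (kc xc31 yc50 zc38) (kc xc28 yc1 zc25) (kc xc24 yc52 zc35)) (@D3.rec (fun _ => Pt) (kc xc23 yc29 zc3) (kc xc16 yc28 zc28) (kc xc20 yc7 zc4) (kc xc29 yc25 zc30) (kc xc29 yc47 zc46) (kc xc17 yc32 zc32) (kc xc18 yc52 zc25) (kc xc20 yc55 zc43) (kc xc31 yc18 zc14) (kc xc19 yc7 zc7) (kc xc27 yc23 zc45) (kc xc20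 yc55 zc42) (kc xc27 yc21 zc50) (kc xc19 yc25 zc57) (kc xc15 yc31 zc31) (kc xc15 yc31 zc32) (kc xc20 yc55 zc22) (kc xc15 yc56 zc5) (kc xc31 yc50 zc49) (kc xc15 yc27 zc34) (kc xc25 yc25 zc20) (kc xc16 yc13 zc5) (kc xc29 yc54 zc57) (kc xc24 yc33 zc31) (kc xc28 yc20 zc42) (kc xc15 yc27 zc36) (kc xc24 yc33 zc30) (kc xc25 yc52 zc34) (kc xc18 yc54 zc15) (kc xc15 yc27 zc38) (kc xc28 yc46 zc60) (kc xc21 yc23 zc37) (kc xc27 yc44 zc47) (kc xc27 yc44 zc46) (kc xc20 yc58 zc43) (kc xc19 yc40 zc28) (kc xc26 yc3 zc18) (kc xc30 yc19 zc21) (kc xc16 yc41 zc61) (kc xc16 yc39 zc0) (kc xc28 yc14 zc35) (kc xc29 yc20 zc19) (kc xc19 yc1 zc11) (kc xc29 yc38 zc57) (kc xc28 yc47 zc43) (kc xc18 yc54 zc16) (kc xc25 yc17 zc26) (kc xc18 yc54 zc14) (kc xc18 yc18 zc3) (kc xc18 yc18 zc5) (kc xc19 yc14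 zc19) (kc xc31 yc50 zc60) (kc xc15 yc28 zc0) (kc xc26 yc52 zc44) (kc xc30 yc3 zc19) (kc xc16 yc13 zc4) (kc xc31 yc28 zc22) (kc xc15 yc28 zc3) (kc xc29 yc10 zc53) (kc xc31 yc7 zc31) (kc xc28 yc58 zc52) (kc xc25 yc17 zc3)) (@D3.rec (fun _ => Pt) (kc xc16 yc11 zc13) (kc xc29 yc43 zc61) (kc xc16 yc37 zc56) (kc xc21 yc40 zc37) (kc xc20 yc58 zc31) (kc xc25 yc51 zc29) (kc xc18 yc18 zc45) (kc xc18 yc18 zc44) (kc xc21 yc43 zc7) (kc xc15 yc28 zc9) (kc xc27 yc38 zc9) (kc xc25 yc17 zc12) (kc xc25 yc21 zc50) (kc xc15 yc28 zc19) (kc xc16 yc14 zc14) (kc xc22 yc5 zc19) (kc xc25 yc16 zc47) (kc xc24 yc57 zc54) (kc xc15 yc28 zc17) (kc xc31 yc49 zc54) (kc xc29 yc47 zc47) (kc xc28 yc58 zc14) (kc xc15 yc29 zc56) (kc xc24 yc43 zc30) (kc xc31 yc10 zc47) (kc xc29 yc43 zc58) (kc xc29 yc43 zc59)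 (kc xc28 yc51 zc40) (kc xc20 yc58 zc25) (kc xc21 yc2 zc24) (kc xc31 yc51 zc16) (kc xc15 yc41 zc52) (kc xc24 yc4 zc37) (kc xc24 yc4 zc30) (kc xc15 yc28 zc24) (kc xc24 yc32 zc27) (kc xc26 yc0 zc13) (kc xc19 yc8 zc15) (kc xc30 yc39 zc61) (kc xc25 yc47 zc3) (kc xc15 yc56 zc29) (kc xc15 yc56 zc39) (kc xc28 yc50 zc16) (kc xc15 yc28 zc30) (kc xc20 yc37 zc49) (kc xc30 yc18 zc18) (kc xc15 yc28 zc31) (kc xc28 yc29 zc3) (kc xc26 yc8 zc13) (kc xc31 yc51 zc29) (kc xc31 yc28 zc41) (kc xc31 yc51 zc33) (kc xc28 yc29 zc10) (kc xc29 yc46 zc39) (kc xc19 yc14 zc21) (kc xc19 yc14 zc24) (kc xc19 yc14 zc25) (kc xc31 yc51 zc43) (kc xc20 yc57 zc56) (kc xc25 yc51 zc40) (kc xc30 yc21 zc24) (kc xc26 yc6 zc36)) (@D3.rec (fun _ => Pt) (kc xc27 yc9 zc29) (kc xc20 yc56 zc46) (kc xc31 yc51 zc50) (kc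 xc15 yc28 zc40) (kc xc31 yc51 zc53) (kc xc25 yc17 zc40) (kc xc31 yc20 zc9) (kc xc31 yc20 zc6) (kc xc19 yc26 zc8) (kc xc17 yc36 zc0) (kc xc27 yc21 zc52) (kc xc25 yc26 zc6) (kc xc29 yc23 zc45) (kc xc26 yc54 zc43) (kc xc25 yc26 zc9) (kc xc28 yc40 zc22) (kc xc26 yc37 zc61) (kc xc31 yc52 zc0) (kc xc20 yc57 zc38) (kc xc31 yc52 zc1) (kc xc19 yc11 zc10) (kc xc21 yc0 zc53) (kc xc31 yc52 zc3) (kc xc15 yc28 zc56) (kc xc27 yc36 zc59) (kc xc17 yc8 zc57) (kc xc26 yc53 zc41) (kc xc15 yc28 zc59) (kc xc19 yc38 zc41) (kc xc24 yc38 zc11) (kc xc25 yc43 zc60) (kc xc31 yc52 zc9) (kc xc31 yc35 zc60) (kc xc31 yc52 zc15) (kc xc26 yc13 zc49) (kc xc20 yc12 zc8) (kc xc18 yc22 zc14) (kc xc20 yc57 zc53) (kc xc20 yc57 zc54) (kc xc28 yc15 zc47) (kc xc20 yc57 zc14) (kc xc31 yc51 zc52) (kc xc15 yc29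 zc3) (kc xc31 yc52 zc27) (kc xc20 yc57 zc35) (kc xc20 yc57 zc36) (kc xc31 yc52 zc35) (kc xc19 yc14 zc5) (kc xc15 yc29 zc6) (kc xc28 yc36 zc55) (kc xc25 yc20 zc12) (kc xc15 yc30 zc10) (kc xc20 yc12 zc10) (kc xc25 yc52 zc60) (kc xc15 yc29 zc10) (kc xc31 yc52 zc39) (kc xc15 yc30 zc19) (kc xc31 yc52 zc44) (kc xc20 yc7 zc19) (kc xc28 yc33 zc24) (kc xc16 yc13 zc10) (kc xc20 yc49 zc61)) (@D3.rec (fun _ => Pt) (kc xc28 yc20 zc33) (kc xc30 yc17 zc51) (kc xc15 yc29 zc16) (kc xc31 yc1 zc47) (kc xc18 yc18 zc1) (kc xc15 yc29 zc17) (kc xc24 yc23 zc59) (kc xc15 yc29 zc25) (kc xc15 yc29 zc19) (kc xc31 yc48 zc16) (kc xc31 yc52 zc47) (kc xc28 yc20 zc34) (kc xc22 yc5 zc39) (kc xc26 yc34 zc13) (kc xc25 yc6 zc25) (kc xc20 yc58 zc28) (kc xc20 yc58 zc29) (kc xc30 yc0 zc17) (kc xc20 yc56 zc29)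 (kc xc20 yc58 zc22) (kc xc20 yc58 zc23) (kc xc31 yc22 zc5) (kc xc20 yc56 zc8) (kc xc15 yc40 zc54) (kc xc19 yc24 zc34) (kc xc25 yc31 zc50) (kc xc24 yc49 zc35) (kc xc26 yc9 zc48) (kc xc15 yc29 zc29) (kc xc15 yc29 zc27) (kc xc25 yc14 zc48) (kc xc31 yc52 zc57) (kc xc15 yc29 zc28) (kc xc19 yc14 zc33) (kc xc26 yc34 zc43) (kc xc20 yc55 zc46) (kc xc26 yc7 zc58) (kc xc26 yc7 zc59) (kc xc15 yc30 zc33) (kc xc16 yc42 zc38) (kc xc26 yc56 zc57) (kc xc16 yc42 zc37) (kc xc29 yc36 zc6) (kc xc20 yc5 zc0) (kc xc15 yc29 zc35) (kc xc15 yc29 zc34) (kc xc15 yc29 zc37) (kc xc29 yc26 zc0) (kc xc19 yc24 zc56) (kc xc25 yc12 zc7) (kc xc26 yc11 zc10) (kc xc21 yc21 zc31) (kc xc22 yc4 zc57) (kc xc24 yc7 zc50) (kc xc24 yc7 zc47) (kc xc19 yc31 zc24) (kc xc19 yc31 zc26) (kc xc19 yc24 zc16) (kc xc19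 yc24 zc15) (kc xc22 yc9 zc12) (kc xc22 yc9 zc11) (kc xc31 yc53 zc4)) (@D3.rec (fun _ => Pt) (kc xc25 yc48 zc38) (kc xc31 yc53 zc6) (kc xc31 yc53 zc8) (kc xc15 yc29 zc54) (kc xc17 yc34 zc35) (kc xc20 yc59 zc8) (kc xc18 yc7 zc32) (kc xc28 yc51 zc23) (kc xc18 yc7 zc41) (kc xc15 yc29 zc58) (kc xc29 yc57 zc53) (kc xc16 yc11 zc54) (kc xc31 yc50 zc47) (kc xc29 yc55 zc12) (kc xc25 yc51 zc42) (kc xc31 yc3 zc45) (kc xc16 yc12 zc29) (kc xc28 yc42 zc56) (kc xc22 yc43 zc30) (kc xc19 yc32 zc28) (kc xc19 yc46 zc0) (kc xc29 yc55 zc21) (kc xc15 yc30 zc4) (kc xc29 yc44 zc7) (kc xc29 yc44 zc5) (kc xc30 yc40 zc30) (kc xc15 yc30 zc7) (kc xc27 yc22 zc17) (kc xc15 yc30 zc13) (kc xc20 yc38 zc61) (kc xc26 yc50 zc55) (kc xc17 yc35 zc61) (kc xc19 yc26 zc44) (kc xc19 yc26 zc61) (kc xc19 yc27 zc0)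 (kc xc30 yc39 zc49) (kc xc15 yc30 zc21) (kc xc15 yc30 zc20) (kc xc18 yc24 zc45) (kc xc21 yc45 zc3) (kc xc25 yc24 zc57) (kc xc22 yc52 zc25) (kc xc31 yc29 zc17) (kc xc16 yc41 zc59) (kc xc19 yc47 zc39) (kc xc15 yc30 zc34) (kc xc20 yc39 zc56) (kc xc19 yc27 zc46) (kc xc20 yc34 zc7) (kc xc20 yc58 zc39) (kc xc15 yc30 zc47) (kc xc21 yc15 zc29) (kc xc21 yc15 zc28) (kc xc20 yc0 zc12) (kc xc18 yc3 zc26) (kc xc16 yc35 zc49) (kc xc22 yc2 zc46) (kc xc19 yc41 zc7) (kc xc18 yc45 zc5) (kc xc15 yc31 zc0) (kc xc24 yc48 zc25) (kc xc31 yc14 zc30)) (@D3.rec (fun _ => Pt) (kc xc28 yc22 zc48) (kc xc15 yc31 zc1) (kc xc18 yc11 zc17) (kc xc27 yc52 zc9) (kc xc18 yc31 zc2) (kc xc15 yc31 zc3) (kc xc19 yc36 zc48) (kc xc17 yc21 zc61) (kc xc30 yc33 zc46) (kc xc26 yc15 zc54) (kc xc27 yc22 zc3) (kc xc24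 yc57 zc44) (kc xc30 yc37 zc13) (kc xc24 yc34 zc45) (kc xc19 yc24 zc4) (kc xc19 yc24 zc6) (kc xc19 yc46 zc21) (kc xc25 yc47 zc40) (kc xc15 yc31 zc14) (kc xc25 yc17 zc10) (kc xc21 yc1 zc58) (kc xc15 yc31 zc18) (kc xc19 yc2 zc56) (kc xc24 yc20 zc30) (kc xc17 yc33 zc50) (kc xc22 yc52 zc29) (kc xc23 yc10 zc54) (kc xc23 yc7 zc38) (kc xc31 yc1 zc6) (kc xc22 yc59 zc41) (kc xc23 yc11 zc8) (kc xc23 yc8 zc49) (kc xc17 yc42 zc14) (kc xc15 yc56 zc17) (kc xc17 yc34 zc9) (kc xc22 yc7 zc42) (kc xc20 yc57 zc34) (kc xc31 yc50 zc41) (kc xc31 yc52 zc40) (kc xc31 yc52 zc20) (kc xc28 yc50 zc25) (kc xc26 yc48 zc10) (kc xc30 yc50 zc58) (kc xc19 yc8 zc50) (kc xc23 yc0 zc53) (kc xc25 yc7 zc14) (kc xc22 yc38 zc49) (kc xc25 yc48 zc57) (kc xc26 yc6 zc49) (kc xc15 yc31 zc44) (kc xc25 yc7 zc22) (kc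 xc22 yc10 zc36) (kc xc30 yc46 zc24) (kc xc22 yc57 zc14) (kc xc31 yc53 zc32) (kc xc25 yc51 zc8) (kc xc19 yc40 zc53) (kc xc25 yc23 zc40) (kc xc19 yc11 zc35) (kc xc23 yc46 zc34) (kc xc25 yc47 zc38) (kc xc15 yc52 zc2)) (@D3.rec (fun _ => Pt) (kc xc19 yc8 zc56) (kc xc15 yc31 zc53) (kc xc19 yc30 zc45) (kc xc17 yc11 zc58) (kc xc25 yc36 zc6) (kc xc15 yc40 zc36) (kc xc22 yc20 zc24) (kc xc27 yc21 zc23) (kc xc20 yc27 zc7) (kc xc15 yc40 zc3) (kc xc31 yc53 zc38) (kc xc15 yc31 zc59) (kc xc22 yc6 zc35) (kc xc17 yc11 zc38) (kc xc18 yc52 zc11) (kc xc17 yc21 zc19) (kc xc26 yc33 zc33) (kc xc15 yc31 zc61) (kc xc21 yc40 zc7) (kc xc26 yc59 zc11) (kc xc25 yc19 zc20) (kc xc15 yc32 zc5) (kc xc18 yc46 zc15) (kc xc31 yc53 zc39) (kc xc15 yc32 zc6) (kc xc28 yc15 zc2) (kc xc18 yc47 zc19) (kc xc15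 yc32 zc8) (kc xc29 yc19 zc55) (kc xc26 yc27 zc2) (kc xc17 yc15 zc18) (kc xc27 yc58 zc44) (kc xc27 yc5 zc38) (kc xc26 yc32 zc16) (kc xc18 yc15 zc53) (kc xc24 yc39 zc27) (kc xc17 yc25 zc44) (kc xc17 yc32 zc3) (kc xc24 yc6 zc20) (kc xc18 yc44 zc10) (kc xc31 yc53 zc43) (kc xc27 yc11 zc18) (kc xc27 yc23 zc42) (kc xc21 yc9 zc45) (kc xc24 yc11 zc17) (kc xc22 yc48 zc13) (kc xc23 yc21 zc38) (kc xc22 yc52 zc43) (kc xc31 yc30 zc56) (kc xc18 yc40 zc20) (kc xc19 yc15 zc38) (kc xc23 yc20 zc26) (kc xc17 yc10 zc46) (kc xc17 yc10 zc44) (kc xc19 yc14 zc0) (kc xc21 yc40 zc11) (kc xc19 yc57 zc1) (kc xc17 yc25 zc8) (kc xc26 yc9 zc55) (kc xc29 yc32 zc34) (kc xc24 yc38 zc40) (kc xc19 yc8 zc55)) (@D3.rec (fun _ => Pt) (kc xc23 yc1 zc24) (kc xc28 yc34 zc31) (kc xc23 yc19 zc14) (kc xc24 yc44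 zc53) (kc xc19 yc9 zc0) (kc xc15 yc55 zc15) (kc xc25 yc21 zc11) (kc xc22 yc16 zc21) (kc xc31 yc39 zc52) (kc xc25 yc21 zc14) (kc xc17 yc42 zc15) (kc xc28 yc15 zc36) (kc xc17 yc34 zc3) (kc xc20 yc57 zc27) (kc xc20 yc56 zc49) (kc xc20 yc56 zc50) (kc xc15 yc32 zc58) (kc xc31 yc53 zc47) (kc xc15 yc32 zc57) (kc xc28 yc15 zc35) (kc xc31 yc34 zc38) (kc xc20 yc20 zc41) (kc xc15 yc32 zc60) (kc xc31 yc53 zc50) (kc xc15 yc32 zc61) (kc xc31 yc53 zc53) (kc xc15 yc33 zc0) (kc xc30 yc18 zc31) (kc xc31 yc53 zc58) (kc xc15 yc33 zc8) (kc xc28 yc14 zc57) (kc xc15 yc33 zc2) (kc xc29 yc24 zc21) (kc xc21 yc23 zc54) (kc xc21 yc23 zc43) (kc xc31 yc40 zc61) (kc xc28 yc29 zc17) (kc xc27 yc43 zc12) (kc xc18 yc54 zc6) (kc xc18 yc54 zc7) (kc xc29 yc6 zc41) (kc xc28 yc5 zc15) (kc xc18 yc11 zc38)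 (kc xc29 yc27 zc42) (kc xc31 yc25 zc1) (kc xc18 yc52 zc55) (kc xc29 yc45 zc61) (kc xc15 yc33 zc12) (kc xc27 yc43 zc58) (kc xc20 yc11 zc48) (kc xc29 yc3 zc53) (kc xc15 yc33 zc14) (kc xc15 yc48 zc41) (kc xc17 yc48 zc58) (kc xc22 yc41 zc3) (kc xc19 yc53 zc44) (kc xc25 yc55 zc43) (kc xc25 yc55 zc9) (kc xc19 yc16 zc45) (kc xc17 yc29 zc29) (kc xc27 yc55 zc28) (kc xc27 yc49 zc38)) (@D3.rec (fun _ => Pt) (kc xc15 yc33 zc27) (kc xc28 yc9 zc15) (kc xc31 yc46 zc4) (kc xc28 yc19 zc43) (kc xc15 yc42 zc50) (kc xc25 yc57 zc46) (kc xc25 yc57 zc45) (kc xc15 yc33 zc32) (kc xc31 yc54 zc7) (kc xc29 yc5 zc11) (kc xc15 yc33 zc36) (kc xc31 yc28 zc0) (kc xc25 yc7 zc52) (kc xc27 yc25 zc53) (kc xc26 yc3 zc46) (kc xc22 yc11 zc32) (kc xc15 yc57 zc57) (kc xc15 yc33 zc39) (kc xc25 yc55 zc57) (kc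 xc22 yc11 zc8) (kc xc22 yc3 zc51) (kc xc28 yc57 zc61) (kc xc15 yc33 zc42) (kc xc29 yc45 zc27) (kc xc25 yc53 zc33) (kc xc26 yc36 zc56) (kc xc20 yc54 zc43) (kc xc21 yc30 zc31) (kc xc17 yc51 zc6) (kc xc27 yc49 zc32) (kc xc30 yc34 zc36) (kc xc31 yc19 zc39) (kc xc28 yc19 zc24) (kc xc15 yc45 zc0) (kc xc31 yc47 zc49) (kc xc25 yc35 zc3) (kc xc25 yc35 zc4) (kc xc15 yc33 zc54) (kc xc31 yc54 zc12) (kc xc31 yc54 zc13) (kc xc17 yc40 zc22) (kc xc15 yc33 zc61) (kc xc29 yc23 zc51) (kc xc21 yc4 zc27) (kc xc21 yc4 zc26) (kc xc22 yc20 zc58) (kc xc17 yc40 zc28) (kc xc23 yc1 zc32) (kc xc19 yc57 zc38) (kc xc26 yc2 zc36) (kc xc15 yc34 zc7) (kc xc15 yc38 zc31) (kc xc15 yc34 zc8) (kc xc27 yc47 zc12) (kc xc23 yc1 zc10) (kc xc25 yc47 zc15) (kc xc15 yc34 zc11) (kc xc21 yc58 zc19) (kc xc21 yc58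 zc17) (kc xc28 yc19 zc23) (kc xc19 yc38 zc18) (kc xc15 yc34 zc14)) (@D3.rec (fun _ => Pt) (kc xc15 yc37 zc40) (kc xc15 yc34 zc16) (kc xc25 yc59 zc22) (kc xc19 yc47 zc58) (kc xc15 yc34 zc17) (kc xc30 yc34 zc59) (kc xc24 yc43 zc53) (kc xc30 yc4 zc42) (kc xc21 yc46 zc49) (kc xc29 yc43 zc52) (kc xc19 yc17 zc16) (kc xc17 yc57 zc27) (kc xc29 yc57 zc60) (kc xc19 yc48 zc35) (kc xc16 yc6 zc8) (kc xc30 yc17 zc48) (kc xc25 yc41 zc6) (kc xc16 yc6 zc9) (kc xc25 yc41 zc4) (kc xc31 yc42 zc18) (kc xc15 yc34 zc26) (kc xc16 yc27 zc44) (kc xc15 yc38 zc30) (kc xc18 yc12 zc21) (kc xc17 yc13 zc31) (kc xc31 yc54 zc21) (kc xc15 yc34 zc31) (kc xc15 yc34 zc32) (kc xc29 yc50 zc23) (kc xc26 yc50 zc35) (kc xc15 yc34 zc33) (kc xc16 yc19 zc43) (kc xc18 yc12 zc22) (kc xc15 yc34 zc34) (kc xc17 yc57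 zc40) (kc xc31 yc46 zc39) (kc xc31 yc46 zc38) (kc xc31 yc42 zc17) (kc xc17 yc57 zc8) (kc xc23 yc1 zc18) (kc xc27 yc12 zc34) (kc xc29 yc5 zc26) (kc xc19 yc35 zc29) (kc xc19 yc8 zc29) (kc xc27 yc10 zc10) (kc xc26 yc16 zc60) (kc xc26 yc5 zc16) (kc xc16 yc14 zc57) (kc xc15 yc34 zc44) (kc xc23 yc34 zc41) (kc xc15 yc34 zc45) (kc xc17 yc37 zc57) (kc xc27 yc28 zc18) (kc xc26 yc11 zc26) (kc xc15 yc34 zc47) (kc xc31 yc54 zc29) (kc xc21 yc17 zc11) (kc xc21 yc17 zc12) (kc xc26 yc11 zc29) (kc xc26 yc11 zc30) (kc xc27 yc24 zc51) (kc xc20 yc56 zc32)) (@D3.rec (fun _ => Pt) (kc xc21 yc0 zc27) (kc xc15 yc34 zc58) (kc xc31 yc54 zc32) (kc xc31 yc54 zc31) (kc xc31 yc31 zc56) (kc xc15 yc34 zc59) (kc xc31 yc54 zc33) (kc xc31 yc29 zc28) (kc xc28 yc22 zc36) (kc xc22 yc56 zc16) (kc xc19 yc28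 zc40) (kc xc16 yc4 zc31) (kc xc15 yc35 zc5) (kc xc31 yc1 zc56) (kc xc15 yc35 zc6) (kc xc20 yc3 zc58) (kc xc25 yc44 zc40) (kc xc25 yc45 zc27) (kc xc17 yc45 zc28) (kc xc15 yc35 zc17) (kc xc25 yc53 zc21) (kc xc20 yc18 zc24) (kc xc30 yc3 zc26) (kc xc23 yc36 zc6) (kc xc26 yc31 zc61) (kc xc29 yc22 zc34) (kc xc24 yc9 zc15) (kc xc22 yc55 zc53) (kc xc26 yc50 zc39) (kc xc26 yc12 zc60) (kc xc26 yc51 zc18) (kc xc29 yc15 zc1) (kc xc26 yc1 zc44) (kc xc29 yc6 zc40) (kc xc15 yc35 zc26) (kc xc21 yc21 zc41) (kc xc24 yc30 zc49) (kc xc20 yc4 zc12) (kc xc15 yc51 zc37) (kc xc17 yc54 zc0) (kc xc29 yc56 zc34) (kc xc17 yc53 zc61) (kc xc17 yc39 zc6) (kc xc15 yc35 zc31) (kc xc16 yc1 zc28) (kc xc26 yc16 zc58) (kc xc26 yc14 zc10) (kc xc27 yc48 zc19) (kc xc25 yc53 zc20) (kc xc15 yc58 zc34) (kc xc15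 yc35 zc32) (kc xc31 yc49 zc9) (kc xc16 yc1 zc24) (kc xc15 yc35 zc35) (kc xc15 yc35 zc34) (kc xc31 yc38 zc15) (kc xc24 yc16 zc1) (kc xc27 yc39 zc36) (kc xc15 yc35 zc36) (kc xc25 yc48 zc47) (kc xc22 yc27 zc54) (kc xc23 yc39 zc12)) (@D3.rec (fun _ => Pt) (kc xc22 yc11 zc31) (kc xc31 yc54 zc50) (kc xc15 yc35 zc39) (kc xc31 yc54 zc51) (kc xc27 yc44 zc11) (kc xc15 yc35 zc41) (kc xc29 yc17 zc41) (kc xc31 yc36 zc27) (kc xc30 yc42 zc6) (kc xc29 yc37 zc17) (kc xc25 yc3 zc26) (kc xc30 yc4 zc57) (kc xc23 yc30 zc9) (kc xc23 yc39 zc51) (kc xc23 yc39 zc11) (kc xc18 yc55 zc26) (kc xc22 yc38 zc54) (kc xc27 yc5 zc1) (kc xc19 yc8 zc19) (kc xc25 yc30 zc38) (kc xc19 yc46 zc23) (kc xc15 yc35 zc52) (kc xc27 yc30 zc14) (kc xc18 yc57 zc13) (kc xc31 yc54 zc61) (kc xc15 yc35 zc55) (kc xc21 yc18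 zc16) (kc xc31 yc7 zc36) (kc xc15 yc35 zc56) (kc xc31 yc55 zc1) (kc xc31 yc55 zc0) (kc xc15 yc35 zc57) (kc xc31 yc24 zc44) (kc xc30 yc17 zc19) (kc xc21 yc49 zc31) (kc xc15 yc35 zc59) (kc xc31 yc3 zc28) (kc xc15 yc35 zc60) (kc xc25 yc30 zc19) (kc xc19 yc46 zc2) (kc xc15 yc46 zc17) (kc xc30 yc10 zc53) (kc xc18 yc47 zc36) (kc xc15 yc36 zc0) (kc xc30 yc9 zc32) (kc xc16 yc19 zc15) (kc xc29 yc57 zc6) (kc xc31 yc55 zc11) (kc xc31 yc55 zc9) (kc xc15 yc36 zc6) (kc xc23 yc41 zc42) (kc xc27 yc34 zc18) (kc xc25 yc0 zc46) (kc xc23 yc6 zc46) (kc xc28 yc46 zc48) (kc xc28 yc17 zc47) (kc xc15 yc36 zc13) (kc xc18 yc49 zc16) (kc xc30 yc15 zc51) (kc xc27 yc47 zc8) (kc xc27 yc47 zc7) (kc xc25 yc52 zc51)) (@D3.rec (fun _ => Pt) (kc xc31 yc55 zc14) (kc xc19 yc10 zc60) (kc xc29 yc18 zc6) (kc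 xc15 yc36 zc30) (kc xc15 yc36 zc31) (kc xc30 yc8 zc44) (kc xc27 yc11 zc35) (kc xc29 yc43 zc8) (kc xc15 yc37 zc10) (kc xc25 yc8 zc14) (kc xc30 yc36 zc50) (kc xc27 yc6 zc1) (kc xc27 yc6 zc0) (kc xc15 yc36 zc37) (kc xc19 yc51 zc50) (kc xc15 yc36 zc45) (kc xc15 yc36 zc46) (kc xc28 yc42 zc8) (kc xc24 yc15 zc15) (kc xc24 yc34 zc14) (kc xc19 yc38 zc15) (kc xc19 yc38 zc16) (kc xc15 yc36 zc47) (kc xc28 yc59 zc42) (kc xc15 yc45 zc8) (kc xc23 yc42 zc18) (kc xc23 yc42 zc17) (kc xc16 yc3 zc3) (kc xc25 yc39 zc41) (kc xc16 yc3 zc54) (kc xc15 yc36 zc55) (kc xc23 yc56 zc53) (kc xc15 yc36 zc58) (kc xc15 yc36 zc57) (kc xc15 yc36 zc61) (kc xc31 yc55 zc18) (kc xc27 yc4 zc0) (kc xc16 yc5 zc29) (kc xc15 yc37 zc1) (kc xc22 yc4 zc53) (kc xc16 yc48 zc51) (kc xc22 yc49 zc27) (kc xc18 yc14 zc21)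 (kc xc27 yc51 zc54) (kc xc31 yc54 zc19) (kc xc15 yc37 zc6) (kc xc21 yc49 zc3) (kc xc17 yc5 zc30) (kc xc21 yc33 zc7) (kc xc26 yc58 zc54) (kc xc25 yc22 zc25) (kc xc29 yc43 zc57) (kc xc23 yc23 zc19) (kc xc31 yc23 zc57) (kc xc25 yc40 zc56) (kc xc31 yc55 zc23) (kc xc31 yc55 zc24) (kc xc15 yc37 zc15) (kc xc25 yc8 zc48) (kc xc29 yc27 zc56) (kc xc15 yc37 zc18) (kc xc28 yc45 zc18)) (@D3.rec (fun _ => Pt) (kc xc15 yc37 zc19) (kc xc25 yc56 zc22) (kc xc15 yc37 zc20) (kc xc26 yc38 zc20) (kc xc19 yc36 zc2) (kc xc26 yc11 zc16) (kc xc19 yc29 zc4) (kc xc15 yc37 zc22) (kc xc29 yc45 zc3) (kc xc26 yc1 zc31) (kc xc31 yc55 zc30) (kc xc31 yc55 zc31) (kc xc31 yc55 zc32) (kc xc15 yc37 zc24) (kc xc29 yc49 zc18) (kc xc30 yc54 zc57) (kc xc15 yc37 zc26) (kc xc26 yc57 zc29) (kc xc31 yc55 zc28) (kc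 xc19 yc36 zc41) (kc xc29 yc45 zc29) (kc xc19 yc31 zc56) (kc xc31 yc55 zc27) (kc xc15 yc52 zc30) (kc xc31 yc55 zc38) (kc xc31 yc55 zc41) (kc xc31 yc40 zc10) (kc xc31 yc55 zc44) (kc xc31 yc40 zc14) (kc xc28 yc52 zc41) (kc xc15 yc37 zc32) (kc xc31 yc55 zc47) (kc xc28 yc49 zc0) (kc xc15 yc37 zc34) (kc xc16 yc30 zc7) (kc xc16 yc29 zc36) (kc xc20 yc1 zc37) (kc xc25 yc55 zc5) (kc xc23 yc10 zc20) (kc xc15 yc37 zc39) (kc xc27 yc24 zc23) (kc xc31 yc7 zc7) (kc xc17 yc37 zc52) (kc xc17 yc40 zc44) (kc xc31 yc54 zc40) (kc xc27 yc27 zc2) (kc xc27 yc1 zc41) (kc xc31 yc36 zc7) (kc xc15 yc37 zc46) (kc xc15 yc37 zc47) (kc xc23 yc23 zc14) (kc xc24 yc9 zc24) (kc xc29 yc57 zc58) (kc xc15 yc37 zc51) (kc xc23 yc0 zc9) (kc xc17 yc44 zc19) (kc xc15 yc37 zc52) (kc xc30 yc50 zc23) (kc xc21 yc8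 zc44) (kc xc17 yc37 zc54) (kc xc15 yc37 zc57) (kc xc17 yc36 zc37)) (@D3.rec (fun _ => Pt) (kc xc15 yc37 zc59) (kc xc28 yc54 zc59) (kc xc17 yc43 zc52) (kc xc24 yc20 zc46) (kc xc27 yc3 zc60) (kc xc16 yc27 zc8) (kc xc25 yc58 zc48) (kc xc31 yc55 zc57) (kc xc30 yc49 zc19) (kc xc15 yc38 zc2) (kc xc29 yc7 zc13) (kc xc22 yc21 zc19) (kc xc29 yc16 zc45) (kc xc21 yc58 zc25) (kc xc21 yc26 zc0) (kc xc30 yc14 zc6) (kc xc24 yc35 zc42) (kc xc24 yc35 zc41) (kc xc22 yc53 zc22) (kc xc26 yc51 zc1) (kc xc22 yc52 zc38) (kc xc28 yc59 zc30) (kc xc25 yc59 zc52) (kc xc26 yc45 zc9) (kc xc28 yc59 zc31) (kc xc31 yc55 zc58) (kc xc29 yc13 zc29) (kc xc15 yc38 zc11) (kc xc31 yc55 zc61) (kc xc21 yc18 zc0) (kc xc15 yc38 zc14) (kc xc25 yc11 zc7) (kc xc21 yc56 zc1) (kc xc25 yc40 zc55) (kc xc19 yc23 zc24)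 (kc xc25 yc41 zc46) (kc xc15 yc38 zc16) (kc xc28 yc57 zc28) (kc xc29 yc43 zc42) (kc xc15 yc38 zc18) (kc xc31 yc56 zc3) (kc xc17 yc50 zc13) (kc xc15 yc38 zc19) (kc xc27 yc30 zc11) (kc xc15 yc39 zc42) (kc xc15 yc39 zc43) (kc xc19 yc35 zc35) (kc xc15 yc38 zc21) (kc xc31 yc41 zc54) (kc xc15 yc38 zc25) (kc xc18 yc52 zc36) (kc xc20 yc3 zc34) (kc xc28 yc59 zc40) (kc xc15 yc38 zc28) (kc xc20 yc42 zc8) (kc xc26 yc10 zc47) (kc xc15 yc38 zc54) (kc xc16 yc9 zc33) (kc xc15 yc46 zc3) (kc xc15 yc38 zc36) (kc xc18 yc31 zc39) (kc xc15 yc39 zc11)) (@D3.rec (fun _ => Pt) (kc xc31 yc56 zc6) (kc xc16 yc5 zc54) (kc xc17 yc55 zc45) (kc xc17 yc27 zc25) (kc xc24 yc19 zc2) (kc xc21 yc0 zc47) (kc xc27 yc53 zc16) (kc xc15 yc38 zc49) (kc xc28 yc36 zc15) (kc xc15 yc38 zc50) (kc xc31 yc54 zc20) (kc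 xc28 yc57 zc45) (kc xc15 yc38 zc52) (kc xc21 yc12 zc7) (kc xc30 yc45 zc32) (kc xc17 yc30 zc39) (kc xc28 yc37 zc29) (kc xc26 yc45 zc24) (kc xc21 yc5 zc35) (kc xc31 yc56 zc10) (kc xc23 yc36 zc14) (kc xc23 yc46 zc37) (kc xc15 yc39 zc5) (kc xc23 yc46 zc38) (kc xc31 yc56 zc11) (kc xc27 yc3 zc6) (kc xc25 yc17 zc60) (kc xc20 yc29 zc45) (kc xc18 yc9 zc54) (kc xc18 yc9 zc53) (kc xc17 yc42 zc47) (kc xc25 yc54 zc24) (kc xc17 yc40 zc18) (kc xc23 yc0 zc42) (kc xc15 yc39 zc16) (kc xc30 yc7 zc12) (kc xc15 yc39 zc17) (kc xc19 yc48 zc55) (kc xc23 yc0 zc45) (kc xc31 yc17 zc2) (kc xc28 yc41 zc0) (kc xc28 yc41 zc14) (kc xc29 yc51 zc7) (kc xc20 yc11 zc38) (kc xc24 yc58 zc2) (kc xc30 yc6 zc39) (kc xc15 yc39 zc33) (kc xc15 yc59 zc50) (kc xc20 yc18 zc54) (kc xc31 yc26 zc34) (kc xc27 yc30 zc53)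 (kc xc25 yc5 zc29) (kc xc28 yc41 zc9) (kc xc15 yc45 zc15) (kc xc15 yc39 zc31) (kc xc25 yc5 zc30) (kc xc22 yc27 zc6) (kc xc31 yc24 zc37) (kc xc15 yc39 zc32) (kc xc29 yc41 zc10) (kc xc19 yc46 zc24) (kc xc31 yc45 zc41)) (@D3.rec (fun _ => Pt) (kc xc28 yc11 zc5) (kc xc15 yc39 zc40) (kc xc25 yc11 zc2) (kc xc25 yc27 zc35) (kc xc25 yc27 zc36) (kc xc15 yc39 zc45) (kc xc27 yc49 zc34) (kc xc17 yc52 zc20) (kc xc26 yc23 zc16) (kc xc27 yc39 zc33) (kc xc15 yc39 zc52) (kc xc18 yc4 zc1) (kc xc15 yc39 zc53) (kc xc21 yc33 zc45) (kc xc30 yc4 zc12) (kc xc27 yc49 zc36) (kc xc15 yc39 zc55) (kc xc19 yc10 zc19) (kc xc24 yc9 zc23) (kc xc15 yc39 zc56) (kc xc25 yc43 zc16) (kc xc15 yc39 zc58) (kc xc28 yc9 zc60) (kc xc31 yc37 zc4) (kc xc30 yc0 zc51) (kc xc31 yc37 zc5) (kc xc31 yc37 zc6) (kc xc31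 yc37 zc7) (kc xc15 yc39 zc61) (kc xc26 yc45 zc11) (kc xc22 yc47 zc2) (kc xc21 yc4 zc21) (kc xc15 yc40 zc9) (kc xc16 yc1 zc26) (kc xc17 yc42 zc49) (kc xc15 yc40 zc11) (kc xc28 yc21 zc5) (kc xc17 yc28 zc53) (kc xc26 yc32 zc0) (kc xc24 yc9 zc17) (kc xc17 yc29 zc32) (kc xc24 yc9 zc22) (kc xc24 yc9 zc21) (kc xc30 yc10 zc7) (kc xc17 yc14 zc1) (kc xc15 yc40 zc17) (kc xc22 yc2 zc0) (kc xc15 yc47 zc10) (kc xc15 yc40 zc19) (kc xc28 yc21 zc4) (kc xc26 yc41 zc30) (kc xc15 yc40 zc21) (kc xc29 yc23 zc54) (kc xc16 yc1 zc27) (kc xc17 yc42 zc52) (kc xc31 yc54 zc14) (kc xc15 yc40 zc25) (kc xc29 yc43 zc2) (kc xc29 yc43 zc7) (kc xc15 yc47 zc9) (kc xc15 yc40 zc27) (kc xc31 yc56 zc26)) (@D3.rec (fun _ => Pt) (kc xc25 yc53 zc55) (kc xc15 yc40 zc28) (kc xc16 yc7 zc6) (kc xc30 yc47 zc20) (kc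 xc22 yc52 zc44) (kc xc26 yc25 zc38) (kc xc25 yc25 zc4) (kc xc25 yc53 zc58) (kc xc25 yc58 zc37) (kc xc15 yc47 zc6) (kc xc16 yc44 zc33) (kc xc31 yc56 zc30) (kc xc26 yc25 zc58) (kc xc15 yc40 zc58) (kc xc22 yc59 zc36) (kc xc30 yc51 zc10) (kc xc27 yc16 zc55) (kc xc31 yc17 zc29) (kc xc31 yc3 zc39) (kc xc26 yc20 zc28) (kc xc25 yc57 zc58) (kc xc19 yc45 zc58) (kc xc15 yc40 zc48) (kc xc29 yc5 zc27) (kc xc19 yc2 zc58) (kc xc24 yc15 zc10) (kc xc27 yc12 zc57) (kc xc15 yc40 zc56) (kc xc23 yc5 zc57) (kc xc17 yc32 zc5) (kc xc15 yc40 zc57) (kc xc27 yc59 zc11) (kc xc25 yc59 zc43) (kc xc19 yc25 zc0) (kc xc26 yc42 zc57) (kc xc27 yc0 zc28) (kc xc27 yc1 zc10) (kc xc15 yc41 zc7) (kc xc16 yc14 zc10) (kc xc24 yc9 zc48) (kc xc19 yc38 zc44) (kc xc15 yc41 zc10) (kc xc15 yc41 zc9) (kc xc16 yc14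 zc11) (kc xc16 yc9 zc45) (kc xc27 yc29 zc11) (kc xc15 yc41 zc12) (kc xc31 yc56 zc39) (kc xc31 yc55 zc25) (kc xc18 yc16 zc56) (kc xc29 yc44 zc33) (kc xc28 yc27 zc58) (kc xc20 yc56 zc20) (kc xc15 yc48 zc49) (kc xc15 yc41 zc21) (kc xc16 yc7 zc50) (kc xc15 yc41 zc20) (kc xc29 yc25 zc47) (kc xc20 yc56 zc18) (kc xc20 yc37 zc31) (kc xc20 yc55 zc6) (kc xc15 yc48 zc32)) (@D3.rec (fun _ => Pt) (kc xc31 yc56 zc40) (kc xc17 yc44 zc58) (kc xc31 yc56 zc41) (kc xc26 yc8 zc28) (kc xc26 yc8 zc27) (kc xc15 yc41 zc31) (kc xc21 yc27 zc60) (kc xc15 yc41 zc33) (kc xc19 yc38 zc51) (kc xc29 yc41 zc53) (kc xc15 yc41 zc37) (kc xc24 yc50 zc18) (kc xc24 yc50 zc19) (kc xc31 yc56 zc47) (kc xc16 yc7 zc56) (kc xc24 yc49 zc14) (kc xc31 yc56 zc49) (kc xc31 yc56 zc51) (kc xc15 yc41 zc42) (kc xc24 yc42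 zc31) (kc xc25 yc42 zc52) (kc xc15 yc41 zc46) (kc xc19 yc53 zc52) (kc xc26 yc39 zc57) (kc xc19 yc53 zc53) (kc xc15 yc42 zc45) (kc xc29 yc0 zc57) (kc xc29 yc8 zc2) (kc xc17 yc50 zc10) (kc xc31 yc48 zc57) (kc xc25 yc14 zc47) (kc xc17 yc43 zc11) (kc xc29 yc0 zc4) (kc xc24 yc37 zc51) (kc xc31 yc57 zc1) (kc xc17 yc43 zc14) (kc xc20 yc54 zc14) (kc xc15 yc41 zc57) (kc xc31 yc50 zc16) (kc xc31 yc40 zc39) (kc xc21 yc24 zc54) (kc xc26 yc5 zc55) (kc xc31 yc48 zc46) (kc xc26 yc5 zc57) (kc xc31 yc40 zc24) (kc xc31 yc40 zc25) (kc xc16 yc47 zc49) (kc xc19 yc58 zc12) (kc xc17 yc41 zc45) (kc xc25 yc54 zc61) (kc xc29 yc0 zc51) (kc xc15 yc42 zc7) (kc xc19 yc40 zc47) (kc xc15 yc42 zc11) (kc xc15 yc42 zc10) (kc xc15 yc42 zc12) (kc xc21 yc42 zc3) (kc xc15 yc54 zc0) (kc xc19 yc37 zc0) (kc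 xc26 yc47 zc33) (kc xc27 yc24 zc52) (kc xc31 yc57 zc5)) (@D3.rec (fun _ => Pt) (kc xc31 yc57 zc6) (kc xc31 yc57 zc7) (kc xc15 yc42 zc19) (kc xc28 yc34 zc0) (kc xc15 yc42 zc21) (kc xc30 yc19 zc45) (kc xc15 yc42 zc22) (kc xc30 yc20 zc14) (kc xc28 yc57 zc42) (kc xc20 yc54 zc21) (kc xc30 yc14 zc27) (kc xc31 yc50 zc56) (kc xc21 yc23 zc38) (kc xc19 yc58 zc9) (kc xc19 yc42 zc52) (kc xc28 yc51 zc31) (kc xc16 yc45 zc21) (kc xc15 yc42 zc27) (kc xc29 yc18 zc5) (kc xc16 yc8 zc31) (kc xc16 yc48 zc8) (kc xc31 yc34 zc16) (kc xc16 yc39 zc46) (kc xc21 yc36 zc19) (kc xc16 yc41 zc39) (kc xc20 yc15 zc59) (kc xc26 yc37 zc3) (kc xc19 yc43 zc2) (kc xc16 yc41 zc44) (kc xc31 yc37 zc43) (kc xc31 yc40 zc1) (kc xc31 yc40 zc2) (kc xc31 yc46 zc9) (kc xc31 yc41 zc14) (kc xc30 yc1 zc33) (kc xc15 yc42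 zc35) (kc xc27 yc25 zc34) (kc xc17 yc36 zc26) (kc xc16 yc42 zc11) (kc xc23 yc58 zc45) (kc xc31 yc14 zc13) (kc xc18 yc3 zc10) (kc xc26 yc40 zc2) (kc xc21 yc57 zc35) (kc xc15 yc42 zc46) (kc xc31 yc57 zc23) (kc xc31 yc39 zc55) (kc xc29 yc47 zc36) (kc xc15 yc42 zc47) (kc xc31 yc9 zc13) (kc xc31 yc20 zc48) (kc xc31 yc57 zc28) (kc xc31 yc56 zc50) (kc xc15 yc42 zc48) (kc xc31 yc57 zc30) (kc xc21 yc27 zc10) (kc xc27 yc23 zc30) (kc xc15 yc42 zc52) (kc xc27 yc59 zc26) (kc xc15 yc42 zc53) (kc xc31 yc57 zc35) (kc xc20 yc34 zc56)) (@D3.rec (fun _ => Pt) (kc xc15 yc42 zc56) (kc xc15 yc42 zc55) (kc xc31 yc57 zc38) (kc xc31 yc57 zc39) (kc xc30 yc1 zc40) (kc xc15 yc42 zc57) (kc xc31 yc56 zc46) (kc xc31 yc57 zc47) (kc xc15 yc42 zc58) (kc xc31 yc8 zc60) (kc xc15 yc46 zc9) (kc xc15 yc46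 zc12) (kc xc21 yc19 zc10) (kc xc22 yc31 zc32) (kc xc15 yc42 zc60) (kc xc23 yc39 zc24) (kc xc15 yc43 zc1) (kc xc31 yc10 zc27) (kc xc27 yc45 zc31) (kc xc15 yc43 zc3) (kc xc23 yc37 zc31) (kc xc23 yc25 zc6) (kc xc15 yc46 zc48) (kc xc15 yc43 zc10) (kc xc31 yc57 zc52) (kc xc18 yc39 zc35) (kc xc15 yc49 zc21) (kc xc23 yc59 zc4) (kc xc15 yc43 zc14) (kc xc31 yc57 zc56) (kc xc15 yc43 zc16) (kc xc23 yc12 zc30) (kc xc29 yc57 zc29) (kc xc15 yc43 zc19) (kc xc26 yc8 zc60) (kc xc27 yc30 zc2) (kc xc18 yc40 zc40) (kc xc15 yc43 zc25) (kc xc15 yc43 zc26) (kc xc15 yc43 zc27) (kc xc31 yc33 zc42) (kc xc25 yc31 zc28) (kc xc15 yc43 zc28) (kc xc20 yc7 zc1) (kc xc31 yc37 zc53) (kc xc15 yc43 zc30) (kc xc26 yc12 zc27) (kc xc25 yc44 zc37) (kc xc25 yc44 zc38) (kc xc15 yc43 zc37) (kc xc26 yc12 zc21)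 (kc xc22 yc32 zc46) (kc xc15 yc43 zc42) (kc xc17 yc12 zc36) (kc xc16 yc11 zc36) (kc xc25 yc17 zc4) (kc xc31 yc3 zc48) (kc xc15 yc43 zc47) (kc xc31 yc57 zc60) (kc xc15 yc43 zc48) (kc xc31 yc58 zc0) (kc xc30 yc20 zc16)) (@D3.rec (fun _ => Pt) (kc xc31 yc58 zc1) (kc xc15 yc43 zc49) (kc xc31 yc58 zc4) (kc xc31 yc37 zc52) (kc xc22 yc3 zc2) (kc xc31 yc4 zc2) (kc xc15 yc43 zc52) (kc xc31 yc5 zc43) (kc xc25 yc42 zc38) (kc xc15 yc43 zc53) (kc xc20 yc2 zc28) (kc xc30 yc20 zc15) (kc xc27 yc33 zc28) (kc xc15 yc43 zc54) (kc xc17 yc42 zc36) (kc xc31 yc30 zc21) (kc xc28 yc42 zc48) (kc xc28 yc42 zc49) (kc xc19 yc11 zc34) (kc xc18 yc16 zc61) (kc xc15 yc43 zc58) (kc xc28 yc56 zc41) (kc xc31 yc53 zc33) (kc xc15 yc43 zc60) (kc xc15 yc44 zc1) (kc xc19 yc36 zc37) (kc xc31 yc58 zc7) (kc xc20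 yc2 zc29) (kc xc31 yc40 zc8) (kc xc31 yc58 zc5) (kc xc19 yc39 zc29) (kc xc15 yc44 zc19) (kc xc16 yc32 zc6) (kc xc15 yc44 zc21) (kc xc15 yc44 zc5) (kc xc16 yc45 zc2) (kc xc19 yc33 zc20) (kc xc15 yc44 zc12) (kc xc15 yc44 zc15) (kc xc31 yc35 zc25) (kc xc29 yc0 zc30) (kc xc28 yc55 zc9) (kc xc15 yc44 zc18) (kc xc19 yc58 zc0) (kc xc19 yc57 zc61) (kc xc19 yc21 zc33) (kc xc15 yc44 zc24) (kc xc19 yc21 zc34) (kc xc15 yc57 zc35) (kc xc30 yc17 zc54) (kc xc26 yc44 zc22) (kc xc24 yc50 zc60) (kc xc24 yc50 zc61) (kc xc30 yc14 zc26) (kc xc25 yc11 zc12) (kc xc25 yc33 zc33) (kc xc25 yc31 zc54) (kc xc15 yc44 zc34) (kc xc25 yc50 zc7) (kc xc16 yc16 zc28) (kc xc25 yc51 zc12) (kc xc17 yc45 zc0)) (@D3.rec (fun _ => Pt) (kc xc25 yc51 zc9) (kc xc16 yc13 zc33) (kc xc15 yc44 zc38) (kc xc30 yc13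 zc10) (kc xc25 yc28 zc18) (kc xc16 yc51 zc8) (kc xc25 yc28 zc16) (kc xc28 yc57 zc35) (kc xc27 yc46 zc58) (kc xc19 yc57 zc18) (kc xc26 yc7 zc36) (kc xc26 yc8 zc54) (kc xc30 yc2 zc0) (kc xc15 yc44 zc42) (kc xc16 yc48 zc7) (kc xc17 yc39 zc47) (kc xc31 yc58 zc18) (kc xc16 yc13 zc32) (kc xc20 yc14 zc34) (kc xc23 yc12 zc22) (kc xc25 yc45 zc3) (kc xc16 yc4 zc60) (kc xc15 yc44 zc52) (kc xc21 yc46 zc27) (kc xc29 yc47 zc61) (kc xc15 yc44 zc54) (kc xc19 yc33 zc14) (kc xc26 yc6 zc20) (kc xc26 yc6 zc21) (kc xc31 yc58 zc21) (kc xc29 yc11 zc18) (kc xc20 yc58 zc46) (kc xc31 yc20 zc37) (kc xc19 yc40 zc5) (kc xc15 yc44 zc58) (kc xc16 yc0 zc1) (kc xc26 yc40 zc19) (kc xc15 yc44 zc59) (kc xc21 yc46 zc35) (kc xc24 yc49 zc33) (kc xc21 yc46 zc20) (kc xc15 yc44 zc60) (kc xc25 yc13 zc38) (kc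 xc29 yc57 zc9) (kc xc17 yc28 zc3) (kc xc28 yc30 zc49) (kc xc25 yc33 zc35) (kc xc17 yc29 zc38) (kc xc24 yc41 zc39) (kc xc15 yc45 zc7) (kc xc15 yc45 zc6) (kc xc21 yc17 zc27) (kc xc27 yc38 zc53) (kc xc15 yc45 zc9) (kc xc16 yc2 zc52) (kc xc19 yc16 zc44) (kc xc23 yc22 zc35) (kc xc29 yc6 zc60) (kc xc25 yc49 zc8) (kc xc27 yc26 zc54) (kc xc31 yc55 zc50) (kc xc27 yc24 zc53)) (@D3.rec (fun _ => Pt) (kc xc15 yc45 zc19) (kc xc27 yc23 zc48) (kc xc30 yc10 zc43) (kc xc20 yc5 zc6) (kc xc28 yc42 zc7) (kc xc25 yc13 zc5) (kc xc31 yc58 zc31) (kc xc15 yc45 zc27) (kc xc15 yc45 zc29) (kc xc20 yc46 zc5) (kc xc15 yc45 zc30) (kc xc23 yc55 zc24) (kc xc27 yc27 zc53) (kc xc27 yc1 zc28) (kc xc29 yc22 zc60) (kc xc17 yc42 zc1) (kc xc17 yc42 zc37) (kc xc15 yc45 zc39) (kc xc28 yc10 zc56) (kc xc30 yc42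 zc16) (kc xc15 yc45 zc42) (kc xc30 yc0 zc0) (kc xc15 yc45 zc43) (kc xc29 yc57 zc14) (kc xc15 yc45 zc45) (kc xc17 yc13 zc27) (kc xc25 yc44 zc23) (kc xc17 yc33 zc24) (kc xc19 yc26 zc28) (kc xc15 yc45 zc49) (kc xc31 yc58 zc38) (kc xc15 yc45 zc57) (kc xc22 yc40 zc45) (kc xc27 yc40 zc60) (kc xc19 yc36 zc34) (kc xc15 yc46 zc0) (kc xc31 yc58 zc39) (kc xc15 yc45 zc59) (kc xc25 yc40 zc8) (kc xc31 yc57 zc51) (kc xc26 yc1 zc46) (kc xc31 yc4 zc35) (kc xc30 yc40 zc4) (kc xc17 yc28 zc2) (kc xc25 yc57 zc48) (kc xc17 yc13 zc28) (kc xc27 yc20 zc0) (kc xc29 yc57 zc15) (kc xc15 yc46 zc4) (kc xc31 yc58 zc45) (kc xc31 yc58 zc47) (kc xc15 yc46 zc5) (kc xc25 yc37 zc20) (kc xc21 yc18 zc25) (kc xc18 yc58 zc53) (kc xc16 yc17 zc45) (kc xc31 yc9 zc27) (kc xc30 yc42 zc14) (kc xc29 yc47 zc55) (kc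 xc18 yc40 zc18) (kc xc29 yc23 zc16) (kc xc31 yc58 zc50)) (@D3.rec (fun _ => Pt) (kc xc19 yc45 zc42) (kc xc26 yc3 zc12) (kc xc15 yc46 zc21) (kc xc17 yc40 zc50) (kc xc16 yc5 zc17) (kc xc16 yc5 zc18) (kc xc15 yc46 zc27) (kc xc28 yc11 zc4) (kc xc16 yc1 zc54) (kc xc17 yc51 zc19) (kc xc15 yc46 zc30) (kc xc27 yc56 zc18) (kc xc22 yc49 zc30) (kc xc28 yc21 zc23) (kc xc22 yc22 zc59) (kc xc27 yc37 zc25) (kc xc25 yc35 zc20) (kc xc19 yc30 zc28) (kc xc15 yc46 zc40) (kc xc27 yc1 zc61) (kc xc15 yc46 zc41) (kc xc15 yc46 zc43) (kc xc15 yc46 zc44) (kc xc28 yc22 zc23) (kc xc19 yc19 zc23) (kc xc28 yc11 zc3) (kc xc31 yc58 zc52) (kc xc15 yc46 zc45) (kc xc22 yc2 zc9) (kc xc28 yc42 zc55) (kc xc18 yc2 zc6) (kc xc22 yc11 zc51) (kc xc24 yc8 zc31) (kc xc16 yc1 zc53) (kc xc15 yc46 zc56) (kc xc31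 yc58 zc55) (kc xc28 yc21 zc46) (kc xc16 yc2 zc5) (kc xc27 yc55 zc11) (kc xc17 yc27 zc6) (kc xc17 yc40 zc43) (kc xc25 yc47 zc37) (kc xc25 yc47 zc36) (kc xc18 yc4 zc23) (kc xc16 yc5 zc14) (kc xc20 yc54 zc53) (kc xc31 yc58 zc56) (kc xc28 yc43 zc0) (kc xc21 yc45 zc57) (kc xc16 yc8 zc40) (kc xc23 yc10 zc15) (kc xc16 yc0 zc44) (kc xc16 yc17 zc50) (kc xc19 yc39 zc32) (kc xc16 yc25 zc60) (kc xc20 yc35 zc13) (kc xc19 yc19 zc45) (kc xc15 yc51 zc5) (kc xc15 yc47 zc12) (kc xc17 yc25 zc50) (kc xc25 yc21 zc30) (kc xc25 yc1 zc12)) (@D3.rec (fun _ => Pt) (kc xc20 yc55 zc52) (kc xc29 yc6 zc28) (kc xc20 yc55 zc51) (kc xc24 yc51 zc22) (kc xc21 yc55 zc17) (kc xc25 yc6 zc19) (kc xc30 yc57 zc11) (kc xc31 yc59 zc0) (kc xc31 yc59 zc1) (kc xc15 yc47 zc25) (kc xc21 yc27 zc57) (kc xc21 yc27 zc16)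 (kc xc15 yc47 zc27) (kc xc31 yc59 zc2) (kc xc16 yc11 zc52) (kc xc16 yc11 zc53) (kc xc31 yc5 zc24) (kc xc19 yc16 zc33) (kc xc19 yc31 zc58) (kc xc20 yc58 zc47) (kc xc19 yc42 zc40) (kc xc24 yc52 zc54) (kc xc19 yc42 zc32) (kc xc25 yc42 zc26) (kc xc19 yc58 zc1) (kc xc16 yc2 zc30) (kc xc20 yc56 zc45) (kc xc18 yc25 zc38) (kc xc22 yc9 zc25) (kc xc25 yc46 zc11) (kc xc31 yc59 zc7) (kc xc15 yc47 zc50) (kc xc16 yc42 zc8) (kc xc16 yc42 zc9) (kc xc16 yc38 zc59) (kc xc15 yc47 zc53) (kc xc20 yc15 zc50) (kc xc25 yc39 zc47) (kc xc25 yc39 zc48) (kc xc17 yc7 zc10) (kc xc25 yc29 zc16) (kc xc31 yc59 zc9) (kc xc29 yc3 zc60) (kc xc30 yc0 zc10) (kc xc15 yc48 zc2) (kc xc21 yc24 zc5) (kc xc17 yc5 zc3) (kc xc15 yc48 zc6) (kc xc15 yc48 zc5) (kc xc21 yc27 zc30) (kc xc26 yc5 zc54) (kc xc26 yc34 zc35)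 (kc xc26 yc34 zc36) (kc xc16 yc59 zc55) (kc xc26 yc38 zc7) (kc xc15 yc59 zc25) (kc xc21 yc58 zc0) (kc xc15 yc48 zc15) (kc xc24 yc3 zc37) (kc xc27 yc20 zc53) (kc xc21 yc25 zc19) (kc xc15 yc48 zc16)) (@D3.rec (fun _ => Pt) (kc xc29 yc49 zc12) (kc xc15 yc48 zc20) (kc xc15 yc58 zc18) (kc xc25 yc41 zc20) (kc xc27 yc56 zc47) (kc xc19 yc32 zc58) (kc xc15 yc48 zc30) (kc xc26 yc50 zc11) (kc xc27 yc43 zc48) (kc xc26 yc10 zc35) (kc xc26 yc10 zc36) (kc xc15 yc48 zc38) (kc xc21 yc58 zc10) (kc xc15 yc48 zc36) (kc xc18 yc25 zc37) (kc xc28 yc1 zc30) (kc xc18 yc20 zc5) (kc xc18 yc20 zc3) (kc xc15 yc48 zc47) (kc xc18 yc45 zc50) (kc xc31 yc49 zc61) (kc xc15 yc48 zc55) (kc xc30 yc23 zc16) (kc xc27 yc27 zc10) (kc xc27 yc27 zc11) (kc xc27 yc27 zc50) (kc xc17 yc13 zc45) (kc xc25 yc29 zc17)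 (kc xc15 yc49 zc1) (kc xc26 yc2 zc47) (kc xc16 yc7 zc0) (kc xc31 yc37 zc25) (kc xc17 yc54 zc33) (kc xc21 yc21 zc20) (kc xc29 yc34 zc57) (kc xc15 yc49 zc15) (kc xc15 yc49 zc16) (kc xc15 yc56 zc53) (kc xc30 yc24 zc43) (kc xc23 yc42 zc7) (kc xc23 yc42 zc6) (kc xc20 yc11 zc24) (kc xc17 yc56 zc31) (kc xc27 yc13 zc47) (kc xc15 yc49 zc26) (kc xc15 yc49 zc29) (kc xc19 yc38 zc40) (kc xc15 yc49 zc36) (kc xc15 yc49 zc38) (kc xc20 yc36 zc22) (kc xc27 yc20 zc54) (kc xc29 yc51 zc45) (kc xc23 yc23 zc40) (kc xc15 yc49 zc43) (kc xc29 yc31 zc52) (kc xc16 yc4 zc35) (kc xc17 yc0 zc8) (kc xc16 yc59 zc33) (kc xc15 yc49 zc57) (kc xc27 yc31 zc0) (kc xc31 yc59 zc15) (kc xc31 yc59 zc16)) (@D3.rec (fun _ => Pt) (kc xc15 yc49 zc58) (kc xc27 yc55 zc25) (kc xc25 yc12 zc13) (kc xc25 yc48 zc11) (kc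 xc31 yc59 zc18) (kc xc31 yc59 zc19) (kc xc15 yc50 zc0) (kc xc27 yc54 zc61) (kc xc17 yc52 zc28) (kc xc27 yc29 zc49) (kc xc16 yc18 zc6) (kc xc25 yc44 zc29) (kc xc29 yc20 zc61) (kc xc24 yc44 zc2) (kc xc15 yc50 zc8) (kc xc31 yc59 zc20) (kc xc16 yc13 zc14) (kc xc28 yc12 zc24) (kc xc16 yc13 zc15) (kc xc19 yc48 zc27) (kc xc16 yc10 zc30) (kc xc22 yc52 zc30) (kc xc16 yc59 zc53) (kc xc15 yc50 zc14) (kc xc31 yc2 zc39) (kc xc23 yc19 zc60) (kc xc23 yc20 zc47) (kc xc27 yc24 zc24) (kc xc26 yc8 zc47) (kc xc16 yc10 zc46) (kc xc17 yc9 zc32) (kc xc17 yc9 zc26) (kc xc20 yc13 zc33) (kc xc26 yc8 zc61) (kc xc23 yc37 zc7) (kc xc15 yc50 zc24) (kc xc23 yc42 zc51) (kc xc23 yc37 zc44) (kc xc15 yc50 zc33) (kc xc24 yc29 zc8) (kc xc31 yc6 zc23) (kc xc30 yc50 zc7) (kc xc16 yc16 zc60) (kc xc31 yc59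 zc31) (kc xc31 yc59 zc32) (kc xc18 yc30 zc10) (kc xc17 yc21 zc32) (kc xc18 yc51 zc53) (kc xc27 yc49 zc56) (kc xc18 yc33 zc10) (kc xc18 yc58 zc31) (kc xc18 yc47 zc31) (kc xc18 yc29 zc32) (kc xc16 yc22 zc45) (kc xc19 yc41 zc5) (kc xc17 yc52 zc59) (kc xc25 yc10 zc21) (kc xc30 yc47 zc26) (kc xc30 yc44 zc15) (kc xc19 yc27 zc13) (kc xc27 yc14 zc14) (kc xc27 yc14 zc13)) (@D3.rec (fun _ => Pt) (kc xc16 yc2 zc15) (kc xc19 yc31 zc19) (kc xc25 yc57 zc26) (kc xc25 yc20 zc39) (kc xc15 yc51 zc12) (kc xc31 yc59 zc34) (kc xc15 yc51 zc13) (kc xc15 yc51 zc15) (kc xc21 yc37 zc38) (kc xc31 yc7 zc33) (kc xc23 yc42 zc23) (kc xc24 yc49 zc11) (kc xc24 yc49 zc12) (kc xc15 yc51 zc23) (kc xc28 yc41 zc25) (kc xc25 yc27 zc55) (kc xc21 yc47 zc20) (kc xc30 yc14 zc24) (kc xc17 yc36 zc36) (kc xc16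 yc22 zc19) (kc xc26 yc38 zc15) (kc xc18 yc22 zc3) (kc xc27 yc58 zc30) (kc xc15 yc51 zc34) (kc xc21 yc23 zc59) (kc xc31 yc53 zc46) (kc xc17 yc52 zc22) (kc xc16 yc40 zc20) (kc xc18 yc19 zc54) (kc xc26 yc33 zc35) (kc xc26 yc20 zc9) (kc xc28 yc12 zc50) (kc xc29 yc32 zc57) (kc xc31 yc31 zc36) (kc xc31 yc49 zc19) (kc xc26 yc33 zc39) (kc xc25 yc43 zc42) (kc xc25 yc43 zc41) (kc xc25 yc24 zc60) (kc xc26 yc20 zc35) (kc xc25 yc24 zc17) (kc xc28 yc14 zc23) (kc xc31 yc45 zc31) (kc xc19 yc44 zc25) (kc xc31 yc36 zc59) (kc xc19 yc44 zc33) (kc xc24 yc58 zc34) (kc xc24 yc58 zc32) (kc xc19 yc50 zc31) (kc xc18 yc44 zc13) (kc xc28 yc51 zc45) (kc xc24 yc50 zc11) (kc xc18 yc44 zc14) (kc xc15 yc52 zc9) (kc xc15 yc52 zc8) (kc xc30 yc54 zc15) (kc xc31 yc52 zc46) (kc xc29 yc6 zc59) (kc xc17 yc48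 zc37) (kc xc19 yc35 zc53) (kc xc20 yc24 zc61) (kc xc15 yc52 zc12)) (@D3.rec (fun _ => Pt) (kc xc31 yc25 zc15) (kc xc15 yc54 zc40) (kc xc25 yc11 zc30) (kc xc29 yc7 zc1) (kc xc27 yc52 zc16) (kc xc15 yc52 zc14) (kc xc27 yc55 zc10) (kc xc15 yc52 zc15) (kc xc15 yc52 zc16) (kc xc28 yc32 zc40) (kc xc15 yc52 zc21) (kc xc25 yc46 zc3) (kc xc15 yc52 zc18) (kc xc27 yc52 zc0) (kc xc27 yc51 zc61) (kc xc29 yc20 zc46) (kc xc31 yc59 zc53) (kc xc17 yc24 zc57) (kc xc15 yc52 zc25) (kc xc28 yc48 zc11) (kc xc15 yc52 zc23) (kc xc19 yc25 zc30) (kc xc27 yc15 zc14) (kc xc29 yc50 zc60) (kc xc15 yc52 zc24) (kc xc28 yc14 zc0) (kc xc28 yc14 zc1) (kc xc19 yc53 zc33) (kc xc15 yc52 zc28) (kc xc15 yc52 zc32) (kc xc16 yc6 zc1) (kc xc31 yc29 zc52) (kc xc28 yc27 zc38) (kc xc30 yc1 zc11) (kc xc27 yc26 zc1)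 (kc xc21 yc27 zc31) (kc xc25 yc6 zc28) (kc xc17 yc57 zc30) (kc xc25 yc23 zc0) (kc xc20 yc59 zc19) (kc xc21 yc54 zc6) (kc xc26 yc22 zc50) (kc xc19 yc11 zc16) (kc xc19 yc9 zc35) (kc xc18 yc6 zc60) (kc xc24 yc35 zc34) (kc xc25 yc1 zc3) (kc xc25 yc29 zc59) (kc xc32 yc0 zc1) (kc xc21 yc0 zc26) (kc xc26 yc30 zc32) (kc xc21 yc50 zc21) (kc xc26 yc31 zc25) (kc xc15 yc52 zc50) (kc xc24 yc35 zc45) (kc xc21 yc30 zc24) (kc xc25 yc51 zc57) (kc xc25 yc24 zc47) (kc xc29 yc32 zc40) (kc xc15 yc52 zc58) (kc xc21 yc9 zc23) (kc xc25 yc18 zc54)) (@D3.rec (fun _ => Pt) (kc xc21 yc30 zc26) (kc xc31 yc59 zc35) (kc xc23 yc12 zc9) (kc xc23 yc11 zc7) (kc xc15 yc53 zc29) (kc xc22 yc20 zc2) (kc xc30 yc11 zc36) (kc xc19 yc23 zc36) (kc xc25 yc41 zc58) (kc xc25 yc9 zc17) (kc xc20 yc2 zc12) (kc xc25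 yc9 zc16) (kc xc15 yc53 zc12) (kc xc29 yc9 zc46) (kc xc29 yc47 zc52) (kc xc31 yc37 zc50) (kc xc19 yc3 zc33) (kc xc28 yc45 zc26) (kc xc15 yc53 zc13) (kc xc31 yc30 zc2) (kc xc19 yc50 zc1) (kc xc23 yc28 zc24) (kc xc31 yc18 zc30) (kc xc23 yc56 zc51) (kc xc17 yc29 zc43) (kc xc16 yc29 zc3) (kc xc24 yc46 zc34) (kc xc29 yc1 zc5) (kc xc23 yc10 zc5) (kc xc19 yc13 zc61) (kc xc16 yc12 zc30) (kc xc20 yc57 zc48) (kc xc29 yc56 zc19) (kc xc19 yc49 zc15) (kc xc16 yc41 zc13) (kc xc26 yc44 zc25) (kc xc27 yc44 zc34) (kc xc25 yc1 zc28) (kc xc15 yc53 zc37) (kc xc16 yc45 zc46) (kc xc16 yc45 zc44) (kc xc15 yc53 zc43) (kc xc15 yc53 zc46) (kc xc19 yc25 zc3) (kc xc23 yc1 zc49) (kc xc31 yc9 zc26) (kc xc20 yc14 zc57) (kc xc19 yc6 zc5) (kc xc19 yc6 zc4) (kc xc15 yc53 zc57) (kc xc27 yc39 zc12) (kc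 xc32 yc0 zc13) (kc xc15 yc53 zc59) (kc xc19 yc54 zc33) (kc xc28 yc41 zc39) (kc xc15 yc53 zc60) (kc xc19 yc23 zc33) (kc xc19 yc40 zc9) (kc xc20 yc11 zc6) (kc xc23 yc30 zc39) (kc xc26 yc3 zc1) (kc xc31 yc23 zc51)) (@D3.rec (fun _ => Pt) (kc xc21 yc43 zc44) (kc xc29 yc42 zc35) (kc xc15 yc54 zc9) (kc xc22 yc54 zc32) (kc xc24 yc9 zc28) (kc xc16 yc27 zc45) (kc xc27 yc42 zc0) (kc xc25 yc40 zc58) (kc xc24 yc38 zc7) (kc xc28 yc36 zc14) (kc xc15 yc54 zc17) (kc xc27 yc35 zc48) (kc xc21 yc48 zc22) (kc xc19 yc40 zc32) (kc xc25 yc12 zc25) (kc xc25 yc12 zc26) (kc xc32 yc0 zc23) (kc xc31 yc22 zc13) (kc xc28 yc50 zc46) (kc xc32 yc0 zc25) (kc xc26 yc21 zc31) (kc xc15 yc54 zc22) (kc xc28 yc5 zc48) (kc xc28 yc52 zc51) (kc xc18 yc13 zc1) (kc xc15 yc54 zc30) (kc xc25 yc14 zc54) (kc xc21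 yc53 zc14) (kc xc26 yc17 zc22) (kc xc15 yc54 zc26) (kc xc24 yc50 zc14) (kc xc24 yc48 zc59) (kc xc28 yc55 zc6) (kc xc15 yc54 zc28) (kc xc27 yc35 zc45) (kc xc32 yc0 zc30) (kc xc23 yc26 zc21) (kc xc19 yc40 zc4) (kc xc23 yc30 zc29) (kc xc24 yc35 zc23) (kc xc27 yc42 zc39) (kc xc23 yc26 zc24) (kc xc15 yc54 zc36) (kc xc32 yc0 zc31) (kc xc31 yc48 zc58) (kc xc19 yc49 zc47) (kc xc28 yc19 zc32) (kc xc15 yc54 zc42) (kc xc15 yc54 zc39) (kc xc32 yc0 zc34) (kc xc28 yc23 zc28) (kc xc32 yc0 zc35) (kc xc15 yc54 zc41) (kc xc24 yc18 zc45) (kc xc19 yc22 zc15) (kc xc30 yc34 zc37) (kc xc28 yc25 zc33) (kc xc21 yc8 zc1) (kc xc20 yc10 zc52) (kc xc26 yc31 zc38) (kc xc19 yc51 zc49) (kc xc21 yc24 zc10)) (@D3.rec (fun _ => Pt) (kc xc19 yc20 zc56) (kc xc21 yc21 zc40) (kc xc15 yc54 zc49) (kc xc26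 yc59 zc15) (kc xc31 yc32 zc28) (kc xc15 yc54 zc50) (kc xc23 yc47 zc34) (kc xc31 yc18 zc57) (kc xc25 yc24 zc55) (kc xc25 yc41 zc0) (kc xc28 yc42 zc2) (kc xc31 yc18 zc23) (kc xc25 yc40 zc60) (kc xc24 yc20 zc19) (kc xc17 yc35 zc59) (kc xc26 yc2 zc53) (kc xc15 yc54 zc57) (kc xc27 yc23 zc4) (kc xc22 yc0 zc16) (kc xc20 yc57 zc58) (kc xc15 yc55 zc2) (kc xc31 yc24 zc27) (kc xc20 yc58 zc34) (kc xc30 yc33 zc44) (kc xc15 yc55 zc5) (kc xc21 yc2 zc0) (kc xc15 yc55 zc10) (kc xc19 yc46 zc11) (kc xc18 yc44 zc38) (kc xc25 yc20 zc5) (kc xc15 yc55 zc14) (kc xc25 yc5 zc31) (kc xc15 yc55 zc17) (kc xc17 yc25 zc7) (kc xc17 yc25 zc11) (kc xc31 yc46 zc56) (kc xc25 yc17 zc61) (kc xc32 yc0 zc50) (kc xc19 yc8 zc13) (kc xc15 yc55 zc22) (kc xc25 yc20 zc59) (kc xc32 yc0 zc53) (kc xc25 yc23 zc14)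 (kc xc30 yc15 zc38) (kc xc21 yc9 zc36) (kc xc27 yc22 zc30) (kc xc24 yc28 zc58) (kc xc18 yc48 zc12) (kc xc15 yc55 zc33) (kc xc29 yc49 zc2) (kc xc21 yc20 zc43) (kc xc18 yc47 zc54) (kc xc18 yc46 zc55) (kc xc24 yc57 zc27) (kc xc24 yc21 zc5) (kc xc22 yc42 zc42) (kc xc26 yc6 zc51) (kc xc25 yc48 zc56) (kc xc28 yc48 zc40) (kc xc32 yc0 zc54) (kc xc23 yc16 zc50) (kc xc24 yc29 zc14)) (@D3.rec (fun _ => Pt) (kc xc23 yc16 zc41) (kc xc24 yc30 zc41) (kc xc31 yc39 zc4) (kc xc15 yc55 zc53) (kc xc23 yc19 zc44) (kc xc26 yc0 zc37) (kc xc15 yc55 zc54) (kc xc26 yc25 zc19) (kc xc30 yc11 zc33) (kc xc15 yc55 zc61) (kc xc15 yc55 zc56) (kc xc23 yc59 zc3) (kc xc23 yc58 zc60) (kc xc27 yc43 zc17) (kc xc19 yc36 zc51) (kc xc16 yc32 zc51) (kc xc16 yc32 zc40) (kc xc26 yc48 zc54) (kc xc16 yc38 zc6) (kc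 xc16 yc42 zc28) (kc xc32 yc0 zc55) (kc xc18 yc27 zc60) (kc xc29 yc1 zc19) (kc xc29 yc1 zc18) (kc xc15 yc56 zc3) (kc xc21 yc32 zc17) (kc xc17 yc33 zc48) (kc xc15 yc56 zc6) (kc xc31 yc20 zc39) (kc xc31 yc43 zc45) (kc xc17 yc33 zc49) (kc xc17 yc34 zc40) (kc xc17 yc34 zc41) (kc xc20 yc58 zc44) (kc xc25 yc19 zc27) (kc xc15 yc56 zc11) (kc xc29 yc26 zc44) (kc xc22 yc11 zc34) (kc xc26 yc0 zc39) (kc xc30 yc8 zc48) (kc xc15 yc56 zc15) (kc xc22 yc7 zc41) (kc xc31 yc28 zc54) (kc xc22 yc4 zc20) (kc xc20 yc57 zc29) (kc xc26 yc5 zc60) (kc xc22 yc4 zc22) (kc xc22 yc4 zc23) (kc xc29 yc34 zc14) (kc xc20 yc57 zc33) (kc xc32 yc1 zc0) (kc xc25 yc30 zc61) (kc xc15 yc56 zc25) (kc xc15 yc56 zc27) (kc xc22 yc5 zc9) (kc xc31 yc32 zc45) (kc xc15 yc56 zc28) (kc xc22 yc5 zc8) (kc xc30 yc9 zc12)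 (kc xc31 yc51 zc20) (kc xc25 yc21 zc53) (kc xc19 yc8 zc51)) (@D3.rec (fun _ => Pt) (kc xc15 yc56 zc31) (kc xc32 yc1 zc3) (kc xc19 yc27 zc7) (kc xc15 yc56 zc34) (kc xc15 yc56 zc35) (kc xc15 yc56 zc33) (kc xc26 yc55 zc12) (kc xc29 yc13 zc35) (kc xc32 yc1 zc9) (kc xc32 yc1 zc7) (kc xc27 yc0 zc49) (kc xc31 yc51 zc1) (kc xc29 yc2 zc41) (kc xc31 yc39 zc39) (kc xc20 yc21 zc53) (kc xc19 yc44 zc54) (kc xc29 yc34 zc55) (kc xc15 yc56 zc42) (kc xc31 yc33 zc13) (kc xc15 yc56 zc44) (kc xc25 yc29 zc48) (kc xc25 yc29 zc20) (kc xc26 yc1 zc22) (kc xc28 yc24 zc58) (kc xc32 yc1 zc11) (kc xc32 yc1 zc13) (kc xc15 yc56 zc52) (kc xc27 yc6 zc23) (kc xc28 yc30 zc57) (kc xc24 yc44 zc49) (kc xc18 yc51 zc19) (kc xc25 yc5 zc38) (kc xc27 yc20 zc8) (kc xc25 yc27 zc24) (kc xc16 yc5 zc15) (kc xc29 yc44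 zc22) (kc xc19 yc5 zc42) (kc xc20 yc37 zc33) (kc xc30 yc50 zc54) (kc xc15 yc57 zc12) (kc xc17 yc45 zc6) (kc xc31 yc56 zc21) (kc xc15 yc57 zc21) (kc xc29 yc48 zc35) (kc xc21 yc33 zc51) (kc xc21 yc33 zc50) (kc xc30 yc4 zc40) (kc xc17 yc44 zc8) (kc xc18 yc47 zc30) (kc xc15 yc57 zc40) (kc xc21 yc31 zc11) (kc xc15 yc57 zc26) (kc xc22 yc9 zc41) (kc xc16 yc0 zc8) (kc xc15 yc57 zc29) (kc xc25 yc36 zc0) (kc xc27 yc46 zc28) (kc xc15 yc57 zc30) (kc xc25 yc36 zc7) (kc xc17 yc39 zc7) (kc xc31 yc35 zc46) (kc xc21 yc59 zc37)) (@D3.rec (fun _ => Pt) (kc xc27 yc31 zc44) (kc xc15 yc57 zc34) (kc xc23 yc5 zc8) (kc xc29 yc23 zc0) (kc xc23 yc5 zc9) (kc xc30 yc30 zc49) (kc xc26 yc23 zc46) (kc xc21 yc5 zc55) (kc xc23 yc8 zc52) (kc xc23 yc7 zc41) (kc xc15 yc57 zc37) (kc xc30 yc47 zc60) (kc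 xc29 yc51 zc24) (kc xc29 yc51 zc21) (kc xc31 yc9 zc28) (kc xc21 yc5 zc56) (kc xc17 yc12 zc40) (kc xc19 yc41 zc2) (kc xc17 yc35 zc37) (kc xc29 yc18 zc33) (kc xc25 yc13 zc18) (kc xc29 yc6 zc33) (kc xc20 yc10 zc9) (kc xc26 yc2 zc15) (kc xc25 yc34 zc31) (kc xc32 yc1 zc32) (kc xc15 yc57 zc45) (kc xc32 yc1 zc34) (kc xc25 yc9 zc9) (kc xc27 yc42 zc6) (kc xc16 yc0 zc7) (kc xc23 yc55 zc1) (kc xc15 yc57 zc51) (kc xc15 yc57 zc50) (kc xc32 yc1 zc38) (kc xc32 yc1 zc40) (kc xc15 yc57 zc52) (kc xc20 yc21 zc46) (kc xc15 yc57 zc53) (kc xc25 yc3 zc55) (kc xc29 yc32 zc0) (kc xc15 yc57 zc54) (kc xc22 yc55 zc43) (kc xc32 yc0 zc0) (kc xc31 yc59 zc61) (kc xc26 yc19 zc0) (kc xc25 yc3 zc52) (kc xc18 yc11 zc50) (kc xc29 yc37 zc19) (kc xc21 yc0 zc35) (kc xc21 yc5 zc36) (kc xc28 yc50 zc26) (kc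 xc30 yc32 zc56) (kc xc15 yc58 zc2) (kc xc31 yc49 zc8) (kc xc21 yc27 zc40) (kc xc15 yc58 zc3) (kc xc32 yc1 zc48) (kc xc15 yc58 zc5) (kc xc19 yc30 zc23) (kc xc17 yc44 zc54) (kc xc25 yc37 zc49)) (@D3.rec (fun _ => Pt) (kc xc17 yc5 zc39) (kc xc24 yc51 zc16) (kc xc20 yc4 zc4) (kc xc28 yc37 zc8) (kc xc17 yc42 zc55) (kc xc25 yc32 zc37) (kc xc19 yc30 zc3) (kc xc31 yc55 zc26) (kc xc15 yc58 zc16) (kc xc25 yc26 zc57) (kc xc15 yc58 zc17) (kc xc16 yc34 zc0) (kc xc31 yc7 zc34) (kc xc23 yc7 zc60) (kc xc23 yc10 zc17) (kc xc21 yc22 zc35) (kc xc24 yc35 zc2) (kc xc24 yc35 zc1) (kc xc23 yc10 zc23) (kc xc21 yc42 zc59) (kc xc21 yc22 zc34) (kc xc19 yc30 zc20) (kc xc19 yc30 zc21) (kc xc19 yc29 zc38) (kc xc32 yc1 zc53) (kc xc23 yc24 zc33) (kc xc29 yc25 zc24) (kc xc23 yc34 zc35) (kc xc32 yc1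 zc54) (kc xc15 yc58 zc26) (kc xc32 yc1 zc55) (kc xc28 yc45 zc21) (kc xc19 yc30 zc0) (kc xc19 yc30 zc1) (kc xc29 yc46 zc34) (kc xc17 yc26 zc19) (kc xc32 yc1 zc49) (kc xc15 yc58 zc29) (kc xc17 yc40 zc42) (kc xc27 yc24 zc46) (kc xc15 yc58 zc33) (kc xc25 yc4 zc59) (kc xc29 yc59 zc58) (kc xc25 yc26 zc56) (kc xc32 yc1 zc33) (kc xc31 yc54 zc41) (kc xc17 yc32 zc45) (kc xc23 yc36 zc34) (kc xc18 yc8 zc5) (kc xc22 yc20 zc22) (kc xc26 yc12 zc40) (kc xc25 yc5 zc39) (kc xc32 yc1 zc58) (kc xc15 yc58 zc41) (kc xc32 yc1 zc60) (kc xc26 yc13 zc55) (kc xc26 yc13 zc58) (kc xc25 yc27 zc18) (kc xc27 yc26 zc0) (kc xc24 yc0 zc46) (kc xc24 yc0 zc47) (kc xc18 yc53 zc37)) (@D3.rec (fun _ => Pt) (kc xc22 yc15 zc44) (kc xc26 yc22 zc28) (kc xc26 yc23 zc44) (kc xc22 yc2 zc25) (kc xc20 yc33 zc60) (kc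 xc15 yc58 zc50) (kc xc16 yc2 zc4) (kc xc19 yc28 zc14) (kc xc27 yc24 zc32) (kc xc17 yc11 zc36) (kc xc17 yc38 zc1) (kc xc19 yc27 zc59) (kc xc22 yc18 zc12) (kc xc31 yc6 zc29) (kc xc28 yc2 zc51) (kc xc31 yc6 zc28) (kc xc28 yc2 zc50) (kc xc15 yc59 zc1) (kc xc15 yc59 zc3) (kc xc22 yc2 zc14) (kc xc16 yc59 zc49) (kc xc16 yc39 zc56) (kc xc25 yc32 zc1) (kc xc28 yc51 zc37) (kc xc31 yc24 zc48) (kc xc23 yc24 zc22) (kc xc26 yc23 zc25) (kc xc28 yc42 zc45) (kc xc15 yc59 zc12) (kc xc26 yc56 zc52) (kc xc15 yc59 zc15) (kc xc31 yc32 zc7) (kc xc27 yc43 zc39) (kc xc24 yc15 zc57) (kc xc15 yc59 zc17) (kc xc32 yc2 zc9) (kc xc25 yc59 zc31) (kc xc15 yc59 zc19) (kc xc32 yc2 zc10) (kc xc15 yc59 zc20) (kc xc32 yc2 zc12) (kc xc32 yc1 zc36) (kc xc32 yc1 zc18) (kc xc15 yc59 zc22) (kc xc32 yc2 zc15)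 (kc xc32 yc2 zc16) (kc xc15 yc59 zc24) (kc xc23 yc54 zc47) (kc xc24 yc0 zc36) (kc xc31 yc49 zc7) (kc xc23 yc8 zc14) (kc xc27 yc3 zc51) (kc xc30 yc8 zc49) (kc xc23 yc8 zc15) (kc xc21 yc8 zc20) (kc xc21 yc45 zc50) (kc xc15 yc59 zc37) (kc xc30 yc36 zc43) (kc xc15 yc59 zc45) (kc xc26 yc15 zc10) (kc xc26 yc14 zc24) (kc xc30 yc4 zc24)) (@D3.rec (fun _ => Pt) (kc xc26 yc14 zc1) (kc xc32 yc2 zc20) (kc xc31 yc9 zc57) (kc xc29 yc23 zc48) (kc xc29 yc41 zc33) (kc xc15 yc59 zc51) (kc xc23 yc35 zc49) (kc xc15 yc59 zc52) (kc xc26 yc16 zc59) (kc xc17 yc16 zc10) (kc xc26 yc14 zc0) (kc xc19 yc41 zc59) (kc xc17 yc26 zc44) (kc xc29 yc19 zc53) (kc xc15 yc59 zc57) (kc xc31 yc16 zc27) (kc xc19 yc41 zc52) (kc xc19 yc41 zc53) (kc xc31 yc47 zc61) (kc xc26 yc42 zc60) (kc xc16 yc26 zc28) (kc xc21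 yc6 zc59) (kc xc21 yc43 zc0) (kc xc26 yc48 zc14) (kc xc31 yc7 zc32) (kc xc23 yc23 zc23) (kc xc25 yc47 zc2) (kc xc16 yc13 zc52) (kc xc16 yc35 zc26) (kc xc16 yc5 zc25) (kc xc16 yc5 zc26) (kc xc20 yc39 zc61) (kc xc26 yc46 zc4) (kc xc26 yc3 zc6) (kc xc16 yc0 zc19) (kc xc22 yc22 zc39) (kc xc25 yc58 zc28) (kc xc28 yc35 zc27) (kc xc26 yc56 zc6) (kc xc32 yc2 zc28) (kc xc23 yc12 zc0) (kc xc23 yc27 zc9) (kc xc16 yc0 zc24) (kc xc30 yc48 zc26) (kc xc27 yc10 zc11) (kc xc25 yc27 zc6) (kc xc25 yc27 zc5) (kc xc31 yc57 zc10) (kc xc25 yc42 zc44) (kc xc16 yc0 zc31) (kc xc21 yc8 zc17) (kc xc17 yc29 zc40) (kc xc16 yc0 zc34) (kc xc23 yc41 zc38) (kc xc28 yc17 zc48) (kc xc16 yc0 zc37) (kc xc32 yc2 zc35) (kc xc16 yc0 zc40) (kc xc25 yc36 zc20) (kc xc18 yc38 zc56) (kc xc18 yc31 zc47) (kc xc18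 yc31 zc46)) (@D3.rec (fun _ => Pt) (kc xc32 yc2 zc39) (kc xc32 yc2 zc41) (kc xc28 yc25 zc37) (kc xc29 yc31 zc56) (kc xc27 yc34 zc58) (kc xc28 yc44 zc44) (kc xc17 yc44 zc1) (kc xc27 yc7 zc50) (kc xc19 yc28 zc4) (kc xc16 yc0 zc49) (kc xc23 yc9 zc8) (kc xc32 yc2 zc44) (kc xc16 yc0 zc50) (kc xc29 yc39 zc9) (kc xc19 yc42 zc12) (kc xc23 yc8 zc3) (kc xc26 yc43 zc39) (kc xc16 yc0 zc54) (kc xc23 yc10 zc16) (kc xc21 yc18 zc57) (kc xc28 yc46 zc27) (kc xc26 yc3 zc43) (kc xc32 yc2 zc45) (kc xc32 yc2 zc46) (kc xc16 yc0 zc60) (kc xc29 yc25 zc32) (kc xc16 yc0 zc61) (kc xc23 yc5 zc3) (kc xc25 yc57 zc36) (kc xc16 yc1 zc1) (kc xc23 yc8 zc16) (kc xc29 yc58 zc17) (kc xc16 yc1 zc9) (kc xc26 yc31 zc24) (kc xc17 yc25 zc18) (kc xc17 yc20 zc30) (kc xc19 yc41 zc61) (kc xc25 yc36 zc8) (kc xc16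 yc6 zc61) (kc xc21 yc59 zc51) (kc xc31 yc54 zc39) (kc xc23 yc7 zc59) (kc xc27 yc31 zc53) (kc xc16 yc1 zc18) (kc xc16 yc1 zc17) (kc xc32 yc2 zc49) (kc xc26 yc15 zc0) (kc xc31 yc54 zc8) (kc xc25 yc33 zc6) (kc xc23 yc22 zc29) (kc xc23 yc22 zc28) (kc xc24 yc40 zc20) (kc xc29 yc50 zc28) (kc xc17 yc40 zc56) (kc xc17 yc27 zc59) (kc xc17 yc27 zc58) (kc xc16 yc1 zc32) (kc xc30 yc50 zc55) (kc xc27 yc25 zc28) (kc xc29 yc48 zc32) (kc xc28 yc44 zc48) (kc xc24 yc40 zc4)) (@D3.rec (fun _ => Pt) (kc xc29 yc50 zc35) (kc xc23 yc27 zc52) (kc xc21 yc34 zc0) (kc xc32 yc2 zc58) (kc xc31 yc9 zc59) (kc xc16 yc1 zc31) (kc xc32 yc2 zc60) (kc xc28 yc5 zc47) (kc xc16 yc1 zc40) (kc xc23 yc7 zc58) (kc xc28 yc23 zc60) (kc xc25 yc4 zc58) (kc xc24 yc16 zc45) (kc xc16 yc26 zc25) (kc xc16 yc1 zc48) (kc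 xc22 yc9 zc54) (kc xc20 yc35 zc5) (kc xc16 yc26 zc59) (kc xc16 yc1 zc52) (kc xc31 yc18 zc3) (kc xc19 yc30 zc56) (kc xc22 yc1 zc37) (kc xc25 yc28 zc2) (kc xc19 yc34 zc30) (kc xc30 yc53 zc57) (kc xc28 yc55 zc33) (kc xc26 yc26 zc55) (kc xc16 yc2 zc2) (kc xc16 yc1 zc56) (kc xc23 yc18 zc31) (kc xc26 yc3 zc42) (kc xc25 yc56 zc36) (kc xc19 yc42 zc14) (kc xc16 yc1 zc58) (kc xc23 yc5 zc14) (kc xc23 yc5 zc13) (kc xc18 yc48 zc15) (kc xc29 yc52 zc47) (kc xc28 yc14 zc12) (kc xc16 yc2 zc0) (kc xc19 yc26 zc53) (kc xc26 yc20 zc13) (kc xc16 yc2 zc1) (kc xc25 yc36 zc32) (kc xc20 yc40 zc13) (kc xc28 yc21 zc45) (kc xc23 yc8 zc2) (kc xc16 yc26 zc38) (kc xc16 yc2 zc8) (kc xc22 yc57 zc21) (kc xc17 yc6 zc52) (kc xc16 yc2 zc11) (kc xc25 yc33 zc22) (kc xc29 yc44 zc34) (kc xc16 yc2 zc10) (kc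 xc31 yc21 zc4) (kc xc21 yc0 zc32) (kc xc19 yc46 zc40) (kc xc29 yc45 zc57) (kc xc28 yc12 zc56) (kc xc31 yc54 zc47) (kc xc30 yc16 zc55))
def f_c_26 : D2 → D3 → Pt := @D2.rec (fun _ => D3 → Pt) (@D3.rec (fun _ => Pt) (kc xc27 yc14 zc49) (kc xc16 yc2 zc19) (kc xc21 yc48 zc58) (kc xc26 yc16 zc35) (kc xc22 yc5 zc54) (kc xc16 yc2 zc23) (kc xc16 yc2 zc24) (kc xc23 yc22 zc11) (kc xc31 yc52 zc55) (kc xc16 yc38 zc53) (kc xc28 yc15 zc42) (kc xc28 yc30 zc58) (kc xc30 yc20 zc13) (kc xc25 yc20 zc36) (kc xc31 yc58 zc17) (kc xc16 yc2 zc40) (kc xc24 yc45 zc46) (kc xc23 yc25 zc28) (kc xc16 yc7 zc49) (kc xc23 yc32 zc23) (kc xc25 yc4 zc5) (kc xc26 yc7 zc26) (kc xc17 yc44 zc57) (kc xc16 yc2 zc55) (kc xc23 yc34 zc50) (kc xc23 yc34 zc51) (kc xc16 yc2 zc58) (kc xc19 yc38 zc53) (kc xc16 yc3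 zc1) (kc xc31 yc1 zc58) (kc xc16 yc3 zc2) (kc xc30 yc19 zc48) (kc xc17 yc37 zc33) (kc xc19 yc49 zc57) (kc xc17 yc16 zc13) (kc xc16 yc20 zc3) (kc xc24 yc29 zc37) (kc xc25 yc52 zc5) (kc xc29 yc19 zc36) (kc xc25 yc52 zc38) (kc xc29 yc30 zc56) (kc xc19 yc42 zc37) (kc xc30 yc1 zc48) (kc xc21 yc5 zc45) (kc xc30 yc2 zc30) (kc xc16 yc3 zc23) (kc xc18 yc56 zc38) (kc xc26 yc55 zc5) (kc xc16 yc3 zc25) (kc xc28 yc13 zc21) (kc xc29 yc11 zc14) (kc xc16 yc3 zc28) (kc xc28 yc24 zc38) (kc xc22 yc14 zc48) (kc xc22 yc31 zc26) (kc xc23 yc13 zc52) (kc xc32 yc3 zc11) (kc xc16 yc3 zc32) (kc xc18 yc39 zc4) (kc xc16 yc3 zc36) (kc xc26 yc3 zc54) (kc xc31 yc2 zc8)) (@D3.rec (fun _ => Pt) (kc xc18 yc27 zc9) (kc xc16 yc7 zc33) (kc xc25 yc15 zc36) (kc xc27 yc25 zc40) (kc xc21 yc27 zc44) (kc xc16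 yc3 zc58) (kc xc19 yc44 zc43) (kc xc24 yc45 zc12) (kc xc25 yc10 zc46) (kc xc25 yc10 zc47) (kc xc31 yc44 zc34) (kc xc27 yc28 zc35) (kc xc18 yc18 zc47) (kc xc16 yc4 zc3) (kc xc25 yc3 zc40) (kc xc26 yc44 zc23) (kc xc26 yc44 zc24) (kc xc22 yc37 zc58) (kc xc27 yc24 zc60) (kc xc27 yc26 zc32) (kc xc17 yc36 zc30) (kc xc31 yc57 zc43) (kc xc25 yc53 zc22) (kc xc19 yc38 zc52) (kc xc16 yc7 zc27) (kc xc22 yc5 zc5) (kc xc16 yc4 zc13) (kc xc32 yc3 zc13) (kc xc31 yc41 zc12) (kc xc29 yc4 zc49) (kc xc26 yc6 zc22) (kc xc25 yc32 zc9) (kc xc28 yc38 zc17) (kc xc31 yc57 zc19) (kc xc31 yc57 zc20) (kc xc16 yc4 zc18) (kc xc26 yc5 zc12) (kc xc26 yc5 zc13) (kc xc19 yc38 zc43) (kc xc29 yc28 zc11) (kc xc17 yc42 zc19) (kc xc16 yc51 zc3) (kc xc16 yc4 zc29) (kc xc16 yc4 zc30) (kc xc25 yc29 zc32) (kc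 xc30 yc16 zc46) (kc xc25 yc42 zc40) (kc xc16 yc4 zc34) (kc xc26 yc38 zc11) (kc xc21 yc43 zc34) (kc xc21 yc28 zc29) (kc xc21 yc59 zc7) (kc xc28 yc54 zc10) (kc xc21 yc43 zc56) (kc xc16 yc4 zc39) (kc xc16 yc4 zc43) (kc xc16 yc58 zc25) (kc xc16 yc41 zc11) (kc xc19 yc6 zc13) (kc xc19 yc52 zc11) (kc xc24 yc27 zc52) (kc xc24 yc27 zc53)) (@D3.rec (fun _ => Pt) (kc xc24 yc3 zc42) (kc xc32 yc3 zc27) (kc xc16 yc4 zc52) (kc xc31 yc40 zc36) (kc xc16 yc4 zc54) (kc xc16 yc4 zc55) (kc xc16 yc48 zc43) (kc xc19 yc32 zc12) (kc xc16 yc5 zc0) (kc xc17 yc29 zc5) (kc xc17 yc40 zc34) (kc xc17 yc45 zc4) (kc xc19 yc39 zc1) (kc xc16 yc5 zc10) (kc xc16 yc5 zc12) (kc xc25 yc54 zc23) (kc xc25 yc7 zc17) (kc xc18 yc5 zc45) (kc xc29 yc54 zc1) (kc xc21 yc9 zc61) (kc xc24 yc54 zc59) (kc xc19 yc22 zc49)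 (kc xc24 yc54 zc48) (kc xc16 yc17 zc31) (kc xc32 yc3 zc30) (kc xc31 yc32 zc34) (kc xc26 yc51 zc57) (kc xc24 yc28 zc49) (kc xc30 yc34 zc12) (kc xc17 yc11 zc27) (kc xc21 yc51 zc22) (kc xc23 yc58 zc38) (kc xc28 yc9 zc53) (kc xc23 yc58 zc37) (kc xc19 yc46 zc33) (kc xc27 yc23 zc31) (kc xc25 yc27 zc49) (kc xc20 yc34 zc25) (kc xc21 yc42 zc60) (kc xc16 yc5 zc32) (kc xc20 yc39 zc23) (kc xc16 yc5 zc33) (kc xc29 yc47 zc11) (kc xc16 yc5 zc35) (kc xc30 yc14 zc9) (kc xc16 yc5 zc38) (kc xc28 yc13 zc15) (kc xc25 yc45 zc29) (kc xc32 yc3 zc33) (kc xc16 yc5 zc46) (kc xc28 yc41 zc23) (kc xc16 yc5 zc45) (kc xc22 yc27 zc21) (kc xc25 yc51 zc15) (kc xc16 yc43 zc31) (kc xc18 yc48 zc47) (kc xc17 yc14 zc23) (kc xc30 yc59 zc29) (kc xc20 yc26 zc14) (kc xc16 yc5 zc56) (kc xc31 yc47 zc47) (kc xc29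 yc25 zc42)) (@D3.rec (fun _ => Pt) (kc xc24 yc2 zc31) (kc xc25 yc49 zc60) (kc xc27 yc24 zc0) (kc xc31 yc6 zc19) (kc xc24 yc51 zc27) (kc xc17 yc42 zc26) (kc xc25 yc57 zc33) (kc xc30 yc20 zc0) (kc xc31 yc41 zc58) (kc xc20 yc16 zc3) (kc xc19 yc56 zc22) (kc xc17 yc42 zc25) (kc xc25 yc43 zc1) (kc xc32 yc3 zc38) (kc xc16 yc6 zc21) (kc xc26 yc51 zc23) (kc xc26 yc52 zc32) (kc xc26 yc50 zc17) (kc xc25 yc19 zc36) (kc xc18 yc18 zc2) (kc xc16 yc6 zc26) (kc xc20 yc32 zc46) (kc xc31 yc40 zc21) (kc xc20 yc32 zc47) (kc xc22 yc31 zc29) (kc xc22 yc31 zc39) (kc xc16 yc6 zc25) (kc xc32 yc3 zc42) (kc xc31 yc37 zc29) (kc xc22 yc10 zc60) (kc xc30 yc13 zc18) (kc xc16 yc6 zc30) (kc xc24 yc59 zc54) (kc xc23 yc43 zc41) (kc xc16 yc6 zc31) (kc xc18 yc38 zc57) (kc xc17 yc2 zc58) (kc xc31 yc6 zc21)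 (kc xc30 yc59 zc0) (kc xc20 yc46 zc22) (kc xc24 yc52 zc53) (kc xc17 yc39 zc11) (kc xc25 yc59 zc30) (kc xc25 yc58 zc21) (kc xc27 yc10 zc5) (kc xc30 yc18 zc9) (kc xc25 yc27 zc14) (kc xc21 yc58 zc49) (kc xc26 yc13 zc54) (kc xc22 yc32 zc32) (kc xc16 yc7 zc4) (kc xc30 yc2 zc17) (kc xc32 yc3 zc47) (kc xc16 yc7 zc8) (kc xc26 yc0 zc60) (kc xc20 yc54 zc50) (kc xc20 yc24 zc32) (kc xc16 yc18 zc55) (kc xc16 yc14 zc17) (kc xc16 yc7 zc18) (kc xc16 yc7 zc19) (kc xc27 yc29 zc45)) (@D3.rec (fun _ => Pt) (kc xc26 yc4 zc10) (kc xc16 yc7 zc32) (kc xc16 yc7 zc35) (kc xc20 yc21 zc44) (kc xc17 yc24 zc38) (kc xc16 yc7 zc37) (kc xc16 yc7 zc38) (kc xc30 yc3 zc30) (kc xc16 yc7 zc39) (kc xc30 yc4 zc59) (kc xc26 yc4 zc0) (kc xc16 yc7 zc41) (kc xc22 yc40 zc22) (kc xc16 yc7 zc43) (kc xc23 yc28 zc57)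 (kc xc21 yc25 zc11) (kc xc24 yc30 zc52) (kc xc16 yc7 zc51) (kc xc26 yc16 zc10) (kc xc16 yc7 zc52) (kc xc32 yc3 zc48) (kc xc17 yc42 zc38) (kc xc17 yc42 zc41) (kc xc27 yc32 zc9) (kc xc19 yc18 zc57) (kc xc27 yc34 zc50) (kc xc18 yc38 zc58) (kc xc27 yc50 zc5) (kc xc16 yc7 zc59) (kc xc27 yc50 zc6) (kc xc18 yc53 zc40) (kc xc27 yc50 zc3) (kc xc17 yc40 zc11) (kc xc27 yc25 zc36) (kc xc32 yc3 zc55) (kc xc24 yc55 zc0) (kc xc32 yc3 zc56) (kc xc32 yc3 zc57) (kc xc16 yc8 zc4) (kc xc23 yc20 zc34) (kc xc19 yc54 zc14) (kc xc20 yc2 zc58) (kc xc20 yc3 zc6) (kc xc19 yc54 zc12) (kc xc29 yc34 zc50) (kc xc16 yc8 zc12) (kc xc20 yc56 zc21) (kc xc27 yc7 zc56) (kc xc32 yc4 zc4) (kc xc16 yc8 zc13) (kc xc21 yc48 zc20) (kc xc28 yc58 zc3) (kc xc16 yc8 zc15) (kc xc26 yc36 zc57) (kc xc32 yc4 zc7) (kc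 xc16 yc36 zc59) (kc xc26 yc37 zc2) (kc xc24 yc35 zc36) (kc xc16 yc8 zc17) (kc xc32 yc4 zc9) (kc xc16 yc36 zc55) (kc xc16 yc8 zc18)) (@D3.rec (fun _ => Pt) (kc xc32 yc4 zc10) (kc xc32 yc4 zc12) (kc xc32 yc4 zc13) (kc xc16 yc8 zc19) (kc xc26 yc37 zc15) (kc xc31 yc48 zc25) (kc xc24 yc24 zc13) (kc xc28 yc36 zc47) (kc xc26 yc46 zc9) (kc xc17 yc39 zc26) (kc xc16 yc8 zc24) (kc xc19 yc14 zc52) (kc xc26 yc1 zc36) (kc xc26 yc1 zc37) (kc xc16 yc8 zc28) (kc xc25 yc9 zc49) (kc xc25 yc28 zc46) (kc xc26 yc13 zc1) (kc xc30 yc3 zc32) (kc xc31 yc16 zc0) (kc xc30 yc36 zc31) (kc xc30 yc35 zc12) (kc xc21 yc18 zc23) (kc xc16 yc8 zc38) (kc xc28 yc25 zc55) (kc xc16 yc8 zc37) (kc xc16 yc42 zc30) (kc xc28 yc30 zc20) (kc xc32 yc4 zc14) (kc xc16 yc8 zc42) (kc xc26 yc35 zc55) (kc xc16 yc8 zc44)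 (kc xc28 yc58 zc20) (kc xc26 yc34 zc6) (kc xc30 yc34 zc11) (kc xc25 yc8 zc16) (kc xc16 yc8 zc46) (kc xc20 yc12 zc50) (kc xc21 yc33 zc2) (kc xc19 yc32 zc47) (kc xc25 yc11 zc16) (kc xc19 yc31 zc52) (kc xc19 yc31 zc53) (kc xc26 yc35 zc5) (kc xc19 yc38 zc10) (kc xc16 yc8 zc58) (kc xc31 yc49 zc0) (kc xc20 yc57 zc52) (kc xc29 yc17 zc6) (kc xc21 yc58 zc55) (kc xc31 yc29 zc11) (kc xc27 yc29 zc29) (kc xc27 yc26 zc39) (kc xc24 yc58 zc37) (kc xc25 yc44 zc50) (kc xc25 yc37 zc41) (kc xc27 yc4 zc5) (kc xc25 yc37 zc43) (kc xc20 yc44 zc11) (kc xc22 yc36 zc50) (kc xc25 yc52 zc45) (kc xc16 yc9 zc20)) (@D3.rec (fun _ => Pt) (kc xc30 yc38 zc61) (kc xc16 yc9 zc23) (kc xc16 yc9 zc24) (kc xc20 yc46 zc43) (kc xc16 yc9 zc25) (kc xc28 yc17 zc4) (kc xc31 yc50 zc10) (kc xc22 yc3 zc6) (kc xc29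 yc45 zc43) (kc xc16 yc9 zc28) (kc xc19 yc11 zc28) (kc xc32 yc4 zc17) (kc xc16 yc9 zc31) (kc xc19 yc36 zc40) (kc xc24 yc2 zc12) (kc xc20 yc2 zc35) (kc xc27 yc13 zc37) (kc xc29 yc39 zc35) (kc xc16 yc9 zc36) (kc xc31 yc32 zc29) (kc xc25 yc41 zc27) (kc xc25 yc41 zc28) (kc xc26 yc1 zc30) (kc xc21 yc0 zc19) (kc xc24 yc32 zc42) (kc xc22 yc31 zc9) (kc xc29 yc59 zc31) (kc xc22 yc43 zc11) (kc xc16 yc9 zc44) (kc xc29 yc41 zc51) (kc xc16 yc9 zc47) (kc xc21 yc29 zc19) (kc xc20 yc56 zc9) (kc xc16 yc9 zc51) (kc xc19 yc25 zc38) (kc xc23 yc29 zc57) (kc xc25 yc20 zc61) (kc xc30 yc10 zc18) (kc xc16 yc13 zc3) (kc xc16 yc9 zc54) (kc xc20 yc56 zc52) (kc xc23 yc26 zc14) (kc xc16 yc9 zc56) (kc xc21 yc0 zc22) (kc xc23 yc29 zc35) (kc xc24 yc52 zc8) (kc xc31 yc4 zc19) (kc xc16 yc10 zc0) (kc xc26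 yc7 zc14) (kc xc25 yc24 zc48) (kc xc30 yc58 zc10) (kc xc25 yc51 zc56) (kc xc23 yc10 zc61) (kc xc26 yc25 zc16) (kc xc16 yc10 zc7) (kc xc16 yc10 zc8) (kc xc31 yc5 zc60) (kc xc16 yc10 zc6) (kc xc19 yc54 zc36) (kc xc26 yc7 zc11) (kc xc22 yc2 zc22) (kc xc30 yc41 zc37)) (@D3.rec (fun _ => Pt) (kc xc31 yc22 zc12) (kc xc26 yc25 zc17) (kc xc16 yc10 zc10) (kc xc16 yc10 zc11) (kc xc30 yc57 zc59) (kc xc27 yc44 zc60) (kc xc30 yc4 zc22) (kc xc27 yc44 zc57) (kc xc26 yc48 zc9) (kc xc26 yc25 zc13) (kc xc16 yc10 zc15) (kc xc26 yc6 zc59) (kc xc26 yc31 zc21) (kc xc31 yc44 zc55) (kc xc26 yc6 zc48) (kc xc28 yc12 zc23) (kc xc31 yc26 zc55) (kc xc16 yc12 zc51) (kc xc17 yc35 zc54) (kc xc20 yc33 zc11) (kc xc16 yc10 zc27) (kc xc30 yc42 zc45) (kc xc23 yc19 zc35) (kc xc23 yc19 zc36) (kc xc31 yc59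 zc23) (kc xc30 yc44 zc37) (kc xc26 yc0 zc21) (kc xc19 yc47 zc30) (kc xc31 yc44 zc10) (kc xc22 yc17 zc54) (kc xc16 yc10 zc40) (kc xc31 yc12 zc8) (kc xc23 yc31 zc28) (kc xc26 yc9 zc30) (kc xc16 yc10 zc54) (kc xc16 yc10 zc55) (kc xc25 yc41 zc10) (kc xc29 yc6 zc11) (kc xc29 yc6 zc10) (kc xc21 yc6 zc22) (kc xc23 yc52 zc37) (kc xc29 yc52 zc12) (kc xc28 yc11 zc47) (kc xc26 yc10 zc9) (kc xc30 yc51 zc54) (kc xc16 yc27 zc60) (kc xc16 yc10 zc61) (kc xc23 yc46 zc59) (kc xc23 yc44 zc6) (kc xc26 yc9 zc39) (kc xc24 yc32 zc22) (kc xc19 yc3 zc2) (kc xc16 yc11 zc9) (kc xc31 yc29 zc31) (kc xc25 yc16 zc46) (kc xc17 yc6 zc46) (kc xc17 yc33 zc11) (kc xc25 yc17 zc5) (kc xc25 yc22 zc36) (kc xc25 yc22 zc37) (kc xc29 yc8 zc58) (kc xc16 yc11 zc14)) (@D3.rec (fun _ => Pt) (kc xc26 yc39 zc53) (kc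 xc29 yc15 zc24) (kc xc31 yc8 zc31) (kc xc28 yc11 zc60) (kc xc16 yc11 zc19) (kc xc32 yc4 zc50) (kc xc30 yc42 zc1) (kc xc16 yc11 zc24) (kc xc29 yc11 zc36) (kc xc25 yc10 zc7) (kc xc30 yc33 zc40) (kc xc20 yc58 zc0) (kc xc16 yc12 zc52) (kc xc25 yc20 zc48) (kc xc16 yc12 zc53) (kc xc30 yc17 zc60) (kc xc30 yc33 zc41) (kc xc29 yc45 zc47) (kc xc32 yc4 zc55) (kc xc29 yc46 zc46) (kc xc31 yc58 zc37) (kc xc16 yc11 zc35) (kc xc23 yc25 zc2) (kc xc16 yc11 zc37) (kc xc23 yc20 zc10) (kc xc24 yc23 zc37) (kc xc31 yc11 zc38) (kc xc25 yc37 zc4) (kc xc25 yc37 zc3) (kc xc16 yc42 zc33) (kc xc16 yc42 zc34) (kc xc19 yc14 zc17) (kc xc25 yc2 zc22) (kc xc25 yc18 zc21) (kc xc26 yc25 zc18) (kc xc32 yc4 zc49) (kc xc31 yc8 zc27) (kc xc32 yc4 zc61) (kc xc30 yc2 zc48) (kc xc31 yc2 zc21) (kc xc23 yc44 zc9)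 (kc xc29 yc10 zc0) (kc xc21 yc6 zc40) (kc xc23 yc16 zc54) (kc xc30 yc35 zc0) (kc xc16 yc11 zc56) (kc xc25 yc2 zc24) (kc xc25 yc46 zc28) (kc xc25 yc2 zc28) (kc xc30 yc57 zc50) (kc xc30 yc57 zc51) (kc xc16 yc12 zc1) (kc xc30 yc14 zc5) (kc xc30 yc7 zc26) (kc xc25 yc41 zc11) (kc xc30 yc57 zc47) (kc xc24 yc47 zc8) (kc xc29 yc29 zc17) (kc xc26 yc48 zc8) (kc xc28 yc3 zc29) (kc xc25 yc39 zc34) (kc xc25 yc46 zc33)) (@D3.rec (fun _ => Pt) (kc xc27 yc57 zc19) (kc xc26 yc9 zc37) (kc xc27 yc44 zc39) (kc xc28 yc3 zc47) (kc xc27 yc44 zc42) (kc xc28 yc41 zc16) (kc xc18 yc52 zc45) (kc xc18 yc52 zc50) (kc xc16 yc39 zc21) (kc xc24 yc31 zc26) (kc xc29 yc1 zc24) (kc xc16 yc12 zc28) (kc xc31 yc18 zc53) (kc xc16 yc12 zc32) (kc xc30 yc59 zc7) (kc xc24 yc25 zc30) (kc xc31 yc57 zc59) (kc xc22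 yc4 zc19) (kc xc24 yc34 zc30) (kc xc16 yc26 zc8) (kc xc16 yc12 zc36) (kc xc16 yc12 zc37) (kc xc30 yc58 zc11) (kc xc16 yc12 zc35) (kc xc31 yc33 zc55) (kc xc23 yc17 zc10) (kc xc32 yc5 zc11) (kc xc19 yc3 zc7) (kc xc16 yc12 zc40) (kc xc16 yc12 zc41) (kc xc26 yc7 zc33) (kc xc16 yc12 zc42) (kc xc30 yc58 zc15) (kc xc23 yc19 zc56) (kc xc16 yc12 zc43) (kc xc23 yc14 zc19) (kc xc32 yc4 zc41) (kc xc26 yc9 zc1) (kc xc23 yc24 zc50) (kc xc26 yc7 zc49) (kc xc18 yc29 zc5) (kc xc26 yc9 zc56) (kc xc23 yc25 zc43) (kc xc28 yc20 zc46) (kc xc20 yc3 zc52) (kc xc16 yc12 zc49) (kc xc31 yc36 zc30) (kc xc16 yc13 zc18) (kc xc25 yc22 zc27) (kc xc27 yc44 zc45) (kc xc20 yc56 zc4) (kc xc30 yc18 zc7) (kc xc29 yc10 zc47) (kc xc32 yc3 zc41) (kc xc31 yc50 zc51) (kc xc25 yc25 zc58) (kc xc26 yc9 zc41) (kc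 xc28 yc20 zc37) (kc xc25 yc9 zc12) (kc xc16 yc13 zc9) (kc xc30 yc33 zc27) (kc xc16 yc13 zc8)) (@D3.rec (fun _ => Pt) (kc xc23 yc13 zc41) (kc xc31 yc6 zc31) (kc xc32 yc5 zc17) (kc xc29 yc56 zc60) (kc xc32 yc3 zc26) (kc xc16 yc13 zc12) (kc xc16 yc13 zc13) (kc xc26 yc48 zc53) (kc xc26 yc20 zc6) (kc xc26 yc7 zc43) (kc xc28 yc33 zc27) (kc xc17 yc9 zc10) (kc xc17 yc9 zc13) (kc xc27 yc12 zc8) (kc xc31 yc41 zc16) (kc xc23 yc21 zc23) (kc xc23 yc32 zc21) (kc xc19 yc44 zc61) (kc xc19 yc45 zc0) (kc xc16 yc13 zc22) (kc xc16 yc13 zc23) (kc xc16 yc13 zc26) (kc xc26 yc22 zc33) (kc xc16 yc30 zc37) (kc xc16 yc30 zc39) (kc xc22 yc10 zc22) (kc xc21 yc46 zc44) (kc xc21 yc31 zc19) (kc xc16 yc13 zc34) (kc xc21 yc33 zc53) (kc xc16 yc13 zc35) (kc xc32 yc5 zc25) (kc xc24 yc39 zc18) (kc xc30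 yc27 zc18) (kc xc16 yc13 zc40) (kc xc25 yc45 zc9) (kc xc25 yc45 zc10) (kc xc16 yc42 zc10) (kc xc19 yc42 zc11) (kc xc16 yc14 zc27) (kc xc16 yc13 zc51) (kc xc16 yc13 zc53) (kc xc16 yc40 zc61) (kc xc16 yc54 zc42) (kc xc16 yc40 zc17) (kc xc24 yc54 zc52) (kc xc19 yc49 zc21) (kc xc25 yc33 zc55) (kc xc23 yc22 zc48) (kc xc22 yc34 zc31) (kc xc16 yc14 zc0) (kc xc16 yc14 zc1) (kc xc24 yc58 zc44) (kc xc27 yc8 zc6) (kc xc32 yc5 zc27) (kc xc16 yc14 zc26) (kc xc23 yc35 zc55) (kc xc16 yc14 zc2) (kc xc24 yc39 zc17) (kc xc21 yc31 zc8) (kc xc23 yc49 zc59) (kc xc16 yc14 zc5)) (@D3.rec (fun _ => Pt) (kc xc16 yc18 zc9) (kc xc30 yc47 zc27) (kc xc31 yc45 zc20) (kc xc16 yc14 zc6) (kc xc16 yc14 zc7) (kc xc31 yc54 zc11) (kc xc29 yc39 zc3) (kc xc16 yc14 zc8) (kc xc17 yc29 zc45) (kc xc23 yc51 zc51)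 (kc xc25 yc22 zc50) (kc xc16 yc45 zc57) (kc xc16 yc45 zc51) (kc xc25 yc6 zc6) (kc xc16 yc14 zc13) (kc xc31 yc7 zc12) (kc xc25 yc32 zc5) (kc xc17 yc37 zc11) (kc xc16 yc14 zc18) (kc xc21 yc7 zc3) (kc xc21 yc49 zc54) (kc xc30 yc56 zc49) (kc xc27 yc27 zc52) (kc xc27 yc28 zc25) (kc xc32 yc5 zc32) (kc xc16 yc14 zc21) (kc xc25 yc28 zc53) (kc xc21 yc33 zc24) (kc xc20 yc17 zc53) (kc xc25 yc28 zc58) (kc xc25 yc28 zc59) (kc xc27 yc24 zc43) (kc xc21 yc59 zc50) (kc xc20 yc23 zc19) (kc xc31 yc44 zc0) (kc xc30 yc23 zc17) (kc xc17 yc42 zc59) (kc xc28 yc4 zc12) (kc xc27 yc3 zc55) (kc xc32 yc5 zc35) (kc xc32 yc5 zc36) (kc xc31 yc33 zc61) (kc xc16 yc14 zc35) (kc xc32 yc5 zc37) (kc xc27 yc28 zc16) (kc xc16 yc14 zc38) (kc xc32 yc5 zc38) (kc xc19 yc15 zc28) (kc xc32 yc5 zc41) (kc xc30 yc59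 zc60) (kc xc16 yc14 zc40) (kc xc32 yc5 zc46) (kc xc16 yc14 zc41) (kc xc32 yc5 zc51) (kc xc27 yc28 zc29) (kc xc16 yc14 zc42) (kc xc31 yc59 zc14) (kc xc27 yc28 zc48) (kc xc16 yc14 zc45) (kc xc29 yc14 zc41) (kc xc16 yc14 zc44) (kc xc32 yc5 zc50)) (@D3.rec (fun _ => Pt) (kc xc32 yc5 zc58) (kc xc32 yc5 zc57) (kc xc32 yc5 zc54) (kc xc21 yc7 zc31) (kc xc22 yc57 zc55) (kc xc17 yc37 zc7) (kc xc17 yc37 zc8) (kc xc32 yc5 zc61) (kc xc16 yc14 zc50) (kc xc27 yc28 zc38) (kc xc28 yc0 zc6) (kc xc27 yc26 zc4) (kc xc27 yc28 zc46) (kc xc18 yc27 zc38) (kc xc16 yc14 zc51) (kc xc26 yc12 zc31) (kc xc17 yc30 zc52) (kc xc24 yc41 zc58) (kc xc23 yc34 zc56) (kc xc16 yc14 zc54) (kc xc16 yc14 zc55) (kc xc25 yc39 zc50) (kc xc16 yc14 zc56) (kc xc17 yc38 zc46) (kc xc27 yc50 zc8) (kc xc26 yc19 zc6) (kc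 xc16 yc20 zc48) (kc xc25 yc39 zc46) (kc xc19 yc16 zc51) (kc xc20 yc11 zc7) (kc xc19 yc16 zc39) (kc xc26 yc12 zc15) (kc xc19 yc16 zc43) (kc xc16 yc15 zc3) (kc xc21 yc59 zc4) (kc xc30 yc5 zc23) (kc xc16 yc15 zc4) (kc xc19 yc19 zc41) (kc xc21 yc4 zc60) (kc xc28 yc2 zc24) (kc xc25 yc55 zc50) (kc xc26 yc16 zc18) (kc xc16 yc15 zc8) (kc xc28 yc22 zc11) (kc xc16 yc15 zc11) (kc xc24 yc44 zc19) (kc xc19 yc22 zc52) (kc xc24 yc30 zc47) (kc xc23 yc33 zc57) (kc xc23 yc33 zc58) (kc xc25 yc0 zc16) (kc xc27 yc53 zc36) (kc xc17 yc54 zc36) (kc xc16 yc19 zc18) (kc xc24 yc40 zc52) (kc xc18 yc39 zc5) (kc xc16 yc15 zc23) (kc xc27 yc34 zc32) (kc xc28 yc15 zc26) (kc xc22 yc36 zc57) (kc xc25 yc29 zc29) (kc xc31 yc38 zc21)) (@D3.rec (fun _ => Pt) (kc xc19 yc37 zc18) (kc xc26 yc5 zc17) (kc xc16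 yc15 zc34) (kc xc16 yc15 zc33) (kc xc28 yc10 zc60) (kc xc29 yc4 zc34) (kc xc21 yc42 zc27) (kc xc24 yc18 zc19) (kc xc21 yc22 zc30) (kc xc16 yc15 zc37) (kc xc16 yc15 zc39) (kc xc30 yc53 zc58) (kc xc21 yc7 zc5) (kc xc32 yc6 zc4) (kc xc21 yc36 zc46) (kc xc26 yc16 zc12) (kc xc16 yc15 zc41) (kc xc22 yc51 zc58) (kc xc22 yc15 zc6) (kc xc16 yc15 zc42) (kc xc19 yc2 zc17) (kc xc27 yc40 zc4) (kc xc27 yc2 zc33) (kc xc28 yc3 zc12) (kc xc30 yc53 zc59) (kc xc27 yc29 zc57) (kc xc16 yc15 zc47) (kc xc26 yc21 zc1) (kc xc24 yc45 zc52) (kc xc30 yc1 zc21) (kc xc27 yc47 zc48) (kc xc24 yc45 zc55) (kc xc32 yc6 zc5) (kc xc16 yc15 zc51) (kc xc32 yc6 zc8) (kc xc18 yc8 zc34) (kc xc23 yc6 zc8) (kc xc16 yc15 zc54) (kc xc27 yc33 zc4) (kc xc16 yc15 zc57) (kc xc16 yc20 zc9) (kc xc16 yc20 zc10) (kc xc24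 yc46 zc47) (kc xc20 yc3 zc5) (kc xc16 yc15 zc59) (kc xc32 yc6 zc11) (kc xc31 yc59 zc17) (kc xc16 yc15 zc61) (kc xc32 yc6 zc12) (kc xc25 yc21 zc34) (kc xc30 yc44 zc36) (kc xc16 yc16 zc3) (kc xc31 yc42 zc6) (kc xc20 yc54 zc37) (kc xc26 yc3 zc48) (kc xc25 yc55 zc55) (kc xc16 yc16 zc6) (kc xc16 yc16 zc7) (kc xc25 yc55 zc56) (kc xc23 yc7 zc31) (kc xc17 yc21 zc41) (kc xc17 yc21 zc40)) (@D3.rec (fun _ => Pt) (kc xc25 yc57 zc10) (kc xc25 yc57 zc0) (kc xc27 yc12 zc31) (kc xc27 yc59 zc9) (kc xc31 yc27 zc34) (kc xc16 yc16 zc13) (kc xc22 yc10 zc46) (kc xc16 yc16 zc14) (kc xc27 yc11 zc8) (kc xc16 yc16 zc15) (kc xc25 yc29 zc46) (kc xc32 yc6 zc19) (kc xc28 yc27 zc44) (kc xc17 yc54 zc45) (kc xc28 yc5 zc27) (kc xc30 yc12 zc38) (kc xc16 yc16 zc19) (kc xc27 yc45 zc51) (kc xc27 yc45 zc52)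 (kc xc16 yc50 zc48) (kc xc24 yc45 zc0) (kc xc28 yc40 zc51) (kc xc23 yc37 zc47) (kc xc16 yc17 zc24) (kc xc25 yc56 zc60) (kc xc16 yc50 zc43) (kc xc16 yc16 zc27) (kc xc31 yc7 zc23) (kc xc30 yc32 zc40) (kc xc27 yc48 zc36) (kc xc16 yc16 zc31) (kc xc21 yc36 zc23) (kc xc17 yc43 zc25) (kc xc20 yc51 zc43) (kc xc27 yc45 zc53) (kc xc27 yc28 zc9) (kc xc24 yc10 zc6) (kc xc16 yc16 zc38) (kc xc21 yc25 zc38) (kc xc21 yc33 zc34) (kc xc21 yc33 zc35) (kc xc24 yc45 zc13) (kc xc22 yc9 zc45) (kc xc21 yc26 zc23) (kc xc26 yc15 zc9) (kc xc23 yc33 zc61) (kc xc16 yc16 zc48) (kc xc28 yc26 zc14) (kc xc23 yc29 zc23) (kc xc26 yc18 zc41) (kc xc22 yc8 zc30) (kc xc18 yc36 zc33) (kc xc32 yc6 zc21) (kc xc16 yc16 zc52) (kc xc18 yc11 zc47) (kc xc24 yc45 zc61) (kc xc23 yc20 zc58) (kc xc21 yc28 zc38) (kc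 xc26 yc31 zc57) (kc xc31 yc44 zc4) (kc xc18 yc6 zc6) (kc xc25 yc2 zc3)) (@D3.rec (fun _ => Pt) (kc xc25 yc58 zc46) (kc xc16 yc17 zc9) (kc xc31 yc42 zc19) (kc xc17 yc50 zc7) (kc xc16 yc17 zc11) (kc xc24 yc34 zc16) (kc xc16 yc17 zc12) (kc xc32 yc6 zc23) (kc xc27 yc38 zc59) (kc xc26 yc14 zc44) (kc xc25 yc56 zc59) (kc xc21 yc17 zc23) (kc xc16 yc17 zc18) (kc xc27 yc17 zc26) (kc xc27 yc26 zc52) (kc xc16 yc21 zc33) (kc xc22 yc34 zc29) (kc xc21 yc46 zc51) (kc xc24 yc55 zc22) (kc xc16 yc17 zc28) (kc xc24 yc55 zc12) (kc xc21 yc25 zc2) (kc xc16 yc17 zc30) (kc xc32 yc6 zc28) (kc xc31 yc37 zc35) (kc xc16 yc17 zc34) (kc xc16 yc17 zc33) (kc xc26 yc22 zc36) (kc xc31 yc42 zc44) (kc xc31 yc49 zc36) (kc xc26 yc49 zc50) (kc xc16 yc17 zc39) (kc xc26 yc31 zc15) (kc xc27 yc30 zc61) (kc xc16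 yc17 zc40) (kc xc32 yc6 zc34) (kc xc25 yc3 zc39) (kc xc23 yc37 zc61) (kc xc26 yc56 zc10) (kc xc31 yc44 zc42) (kc xc28 yc7 zc20) (kc xc23 yc17 zc7) (kc xc24 yc59 zc24) (kc xc22 yc57 zc52) (kc xc27 yc11 zc4) (kc xc17 yc43 zc41) (kc xc16 yc17 zc54) (kc xc27 yc48 zc24) (kc xc21 yc1 zc44) (kc xc16 yc17 zc57) (kc xc16 yc18 zc0) (kc xc17 yc22 zc0) (kc xc21 yc36 zc24) (kc xc19 yc5 zc19) (kc xc25 yc24 zc9) (kc xc22 yc56 zc12) (kc xc16 yc18 zc10) (kc xc32 yc6 zc41) (kc xc28 yc54 zc3) (kc xc19 yc3 zc43) (kc xc19 yc3 zc42) (kc xc23 yc50 zc12)) (@D3.rec (fun _ => Pt) (kc xc22 yc23 zc31) (kc xc28 yc6 zc61) (kc xc16 yc18 zc18) (kc xc19 yc15 zc12) (kc xc16 yc18 zc22) (kc xc22 yc14 zc47) (kc xc32 yc6 zc42) (kc xc28 yc21 zc1) (kc xc23 yc34 zc2) (kc xc16 yc18 zc26) (kc xc26 yc4 zc18)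 (kc xc27 yc48 zc28) (kc xc26 yc13 zc15) (kc xc16 yc18 zc28) (kc xc18 yc15 zc22) (kc xc27 yc48 zc10) (kc xc16 yc18 zc30) (kc xc25 yc10 zc48) (kc xc26 yc12 zc41) (kc xc21 yc10 zc35) (kc xc16 yc18 zc32) (kc xc32 yc6 zc45) (kc xc32 yc6 zc6) (kc xc16 yc18 zc35) (kc xc32 yc6 zc48) (kc xc18 yc17 zc15) (kc xc17 yc51 zc42) (kc xc16 yc18 zc37) (kc xc32 yc6 zc49) (kc xc27 yc27 zc15) (kc xc16 yc18 zc38) (kc xc31 yc42 zc7) (kc xc16 yc18 zc40) (kc xc16 yc18 zc41) (kc xc23 yc7 zc4) (kc xc26 yc0 zc3) (kc xc31 yc45 zc10) (kc xc27 yc32 zc49) (kc xc27 yc53 zc37) (kc xc24 yc40 zc49) (kc xc28 yc7 zc19) (kc xc17 yc41 zc37) (kc xc17 yc41 zc36) (kc xc17 yc39 zc0) (kc xc18 yc7 zc61) (kc xc21 yc26 zc18) (kc xc16 yc18 zc59) (kc xc27 yc48 zc20) (kc xc16 yc19 zc11) (kc xc22 yc9 zc1) (kc xc23 yc35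 zc47) (kc xc23 yc32 zc17) (kc xc16 yc19 zc1) (kc xc25 yc13 zc35) (kc xc28 yc57 zc46) (kc xc25 yc13 zc36) (kc xc16 yc19 zc6) (kc xc30 yc8 zc42) (kc xc25 yc29 zc45) (kc xc25 yc57 zc8) (kc xc25 yc28 zc45) (kc xc17 yc37 zc50)) (@D3.rec (fun _ => Pt) (kc xc16 yc19 zc7) (kc xc31 yc42 zc38) (kc xc31 yc42 zc61) (kc xc28 yc59 zc1) (kc xc29 yc0 zc36) (kc xc25 yc7 zc35) (kc xc23 yc32 zc8) (kc xc31 yc55 zc10) (kc xc31 yc43 zc21) (kc xc31 yc43 zc2) (kc xc17 yc55 zc22) (kc xc27 yc25 zc25) (kc xc20 yc45 zc18) (kc xc19 yc18 zc30) (kc xc20 yc45 zc45) (kc xc27 yc3 zc21) (kc xc18 yc5 zc23) (kc xc18 yc5 zc25) (kc xc27 yc22 zc29) (kc xc16 yc19 zc27) (kc xc27 yc9 zc37) (kc xc16 yc19 zc28) (kc xc25 yc50 zc28) (kc xc16 yc52 zc16) (kc xc16 yc19 zc30) (kc xc32 yc6 zc60) (kc xc31 yc19 zc14) (kc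 xc28 yc27 zc25) (kc xc28 yc46 zc9) (kc xc16 yc52 zc15) (kc xc20 yc7 zc5) (kc xc16 yc51 zc61) (kc xc16 yc51 zc54) (kc xc26 yc19 zc1) (kc xc16 yc51 zc57) (kc xc19 yc0 zc24) (kc xc16 yc19 zc39) (kc xc31 yc16 zc3) (kc xc32 yc7 zc2) (kc xc24 yc8 zc18) (kc xc27 yc9 zc25) (kc xc17 yc6 zc61) (kc xc27 yc34 zc23) (kc xc31 yc59 zc60) (kc xc32 yc7 zc3) (kc xc16 yc19 zc45) (kc xc29 yc54 zc22) (kc xc32 yc7 zc4) (kc xc16 yc19 zc48) (kc xc16 yc19 zc47) (kc xc31 yc37 zc11) (kc xc30 yc25 zc4) (kc xc19 yc8 zc61) (kc xc16 yc19 zc49) (kc xc16 yc19 zc50) (kc xc16 yc22 zc35) (kc xc32 yc7 zc12) (kc xc16 yc19 zc52) (kc xc22 yc26 zc0) (kc xc30 yc48 zc58) (kc xc27 yc13 zc4) (kc xc21 yc2 zc27)) (@D3.rec (fun _ => Pt) (kc xc16 yc19 zc59) (kc xc21 yc54 zc56) (kc xc16 yc20 zc1) (kc xc32 yc7 zc15)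 (kc xc16 yc20 zc2) (kc xc27 yc52 zc25) (kc xc24 yc43 zc12) (kc xc19 yc16 zc36) (kc xc22 yc30 zc18) (kc xc24 yc41 zc0) (kc xc21 yc36 zc47) (kc xc16 yc20 zc5) (kc xc32 yc6 zc9) (kc xc32 yc7 zc18) (kc xc24 yc44 zc54) (kc xc24 yc44 zc55) (kc xc25 yc6 zc43) (kc xc16 yc20 zc12) (kc xc28 yc5 zc3) (kc xc22 yc8 zc6) (kc xc16 yc20 zc14) (kc xc18 yc32 zc37) (kc xc19 yc36 zc20) (kc xc16 yc46 zc26) (kc xc27 yc48 zc25) (kc xc16 yc20 zc26) (kc xc16 yc20 zc29) (kc xc23 yc25 zc30) (kc xc31 yc2 zc56) (kc xc19 yc20 zc48) (kc xc28 yc6 zc52) (kc xc18 yc11 zc55) (kc xc28 yc21 zc57) (kc xc16 yc20 zc39) (kc xc28 yc7 zc0) (kc xc28 yc5 zc31) (kc xc26 yc49 zc46) (kc xc17 yc54 zc37) (kc xc20 yc20 zc53) (kc xc31 yc43 zc10) (kc xc25 yc1 zc31) (kc xc26 yc14 zc49) (kc xc23 yc43 zc9) (kc xc18 yc27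 zc27) (kc xc27 yc45 zc1) (kc xc16 yc20 zc49) (kc xc31 yc1 zc18) (kc xc16 yc20 zc51) (kc xc32 yc7 zc22) (kc xc16 yc20 zc53) (kc xc32 yc7 zc23) (kc xc18 yc31 zc7) (kc xc16 yc20 zc56) (kc xc18 yc27 zc26) (kc xc32 yc7 zc25) (kc xc27 yc28 zc59) (kc xc16 yc20 zc57) (kc xc32 yc7 zc27) (kc xc16 yc20 zc59) (kc xc29 yc20 zc5) (kc xc29 yc20 zc6) (kc xc32 yc1 zc46)) (@D3.rec (fun _ => Pt) (kc xc25 yc54 zc45) (kc xc26 yc17 zc33) (kc xc20 yc10 zc2) (kc xc16 yc21 zc1) (kc xc27 yc54 zc49) (kc xc30 yc44 zc22) (kc xc26 yc12 zc25) (kc xc16 yc21 zc8) (kc xc22 yc45 zc20) (kc xc27 yc46 zc41) (kc xc16 yc21 zc9) (kc xc30 yc44 zc25) (kc xc29 yc39 zc16) (kc xc21 yc55 zc3) (kc xc23 yc37 zc2) (kc xc27 yc40 zc39) (kc xc17 yc41 zc30) (kc xc27 yc40 zc43) (kc xc29 yc38 zc46) (kc xc28 yc4 zc31) (kc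 xc17 yc41 zc27) (kc xc32 yc7 zc31) (kc xc18 yc27 zc29) (kc xc27 yc51 zc58) (kc xc18 yc21 zc48) (kc xc18 yc21 zc47) (kc xc21 yc11 zc3) (kc xc16 yc21 zc21) (kc xc19 yc50 zc61) (kc xc31 yc21 zc8) (kc xc18 yc54 zc3) (kc xc17 yc43 zc43) (kc xc16 yc21 zc26) (kc xc22 yc18 zc33) (kc xc26 yc23 zc32) (kc xc22 yc38 zc57) (kc xc16 yc24 zc25) (kc xc19 yc10 zc37) (kc xc29 yc38 zc47) (kc xc16 yc21 zc34) (kc xc16 yc21 zc36) (kc xc31 yc6 zc54) (kc xc27 yc28 zc58) (kc xc26 yc50 zc32) (kc xc20 yc9 zc34) (kc xc17 yc41 zc35) (kc xc20 yc10 zc12) (kc xc20 yc10 zc11) (kc xc16 yc21 zc45) (kc xc24 yc56 zc2) (kc xc16 yc30 zc56) (kc xc24 yc55 zc61) (kc xc27 yc28 zc17) (kc xc16 yc21 zc57) (kc xc24 yc18 zc30) (kc xc28 yc34 zc36) (kc xc28 yc36 zc2) (kc xc28 yc36 zc1) (kc xc16 yc21 zc59) (kc xc29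 yc20 zc25) (kc xc16 yc22 zc1) (kc xc20 yc10 zc4)) (@D3.rec (fun _ => Pt) (kc xc16 yc22 zc0) (kc xc27 yc39 zc61) (kc xc18 yc14 zc55) (kc xc31 yc1 zc14) (kc xc31 yc6 zc48) (kc xc16 yc22 zc3) (kc xc26 yc10 zc8) (kc xc26 yc36 zc38) (kc xc18 yc49 zc20) (kc xc25 yc47 zc30) (kc xc16 yc22 zc53) (kc xc28 yc0 zc17) (kc xc28 yc8 zc53) (kc xc25 yc59 zc41) (kc xc29 yc32 zc8) (kc xc28 yc35 zc52) (kc xc16 yc23 zc31) (kc xc17 yc2 zc20) (kc xc28 yc23 zc1) (kc xc22 yc51 zc10) (kc xc22 yc51 zc11) (kc xc29 yc7 zc52) (kc xc30 yc24 zc35) (kc xc22 yc51 zc15) (kc xc31 yc22 zc28) (kc xc31 yc22 zc29) (kc xc25 yc18 zc33) (kc xc20 yc8 zc51) (kc xc25 yc36 zc19) (kc xc31 yc53 zc25) (kc xc16 yc22 zc32) (kc xc29 yc12 zc34) (kc xc16 yc22 zc33) (kc xc29 yc9 zc60) (kc xc17 yc57 zc5) (kc xc25 yc47 zc39)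 (kc xc32 yc7 zc44) (kc xc16 yc22 zc38) (kc xc22 yc49 zc53) (kc xc17 yc33 zc51) (kc xc22 yc50 zc7) (kc xc16 yc22 zc46) (kc xc30 yc19 zc42) (kc xc28 yc0 zc51) (kc xc27 yc39 zc9) (kc xc31 yc42 zc20) (kc xc24 yc53 zc46) (kc xc24 yc56 zc16) (kc xc32 yc7 zc34) (kc xc19 yc1 zc31) (kc xc27 yc52 zc20) (kc xc32 yc7 zc46) (kc xc16 yc22 zc56) (kc xc30 yc3 zc9) (kc xc16 yc22 zc57) (kc xc24 yc48 zc1) (kc xc31 yc45 zc18) (kc xc16 yc22 zc58) (kc xc27 yc55 zc15) (kc xc31 yc45 zc2) (kc xc16 yc22 zc61) (kc xc24 yc57 zc30)) (@D3.rec (fun _ => Pt) (kc xc16 yc23 zc0) (kc xc26 yc13 zc27) (kc xc16 yc23 zc1) (kc xc28 yc5 zc28) (kc xc16 yc33 zc7) (kc xc16 yc33 zc26) (kc xc28 yc4 zc42) (kc xc26 yc30 zc46) (kc xc19 yc2 zc16) (kc xc24 yc55 zc43) (kc xc16 yc23 zc10) (kc xc24 yc56 zc32) (kc xc16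 yc23 zc15) (kc xc16 yc23 zc19) (kc xc16 yc23 zc18) (kc xc16 yc23 zc23) (kc xc20 yc8 zc28) (kc xc21 yc15 zc12) (kc xc32 yc7 zc54) (kc xc28 yc4 zc59) (kc xc16 yc23 zc25) (kc xc32 yc7 zc56) (kc xc16 yc23 zc27) (kc xc24 yc53 zc4) (kc xc16 yc23 zc28) (kc xc32 yc7 zc58) (kc xc31 yc54 zc18) (kc xc16 yc23 zc29) (kc xc32 yc6 zc25) (kc xc21 yc12 zc14) (kc xc21 yc12 zc15) (kc xc25 yc50 zc20) (kc xc31 yc32 zc57) (kc xc32 yc8 zc3) (kc xc28 yc36 zc36) (kc xc28 yc55 zc37) (kc xc24 yc59 zc0) (kc xc18 yc26 zc46) (kc xc16 yc23 zc43) (kc xc25 yc15 zc51) (kc xc27 yc37 zc60) (kc xc30 yc2 zc55) (kc xc16 yc23 zc42) (kc xc28 yc4 zc30) (kc xc31 yc32 zc55) (kc xc32 yc6 zc37) (kc xc30 yc3 zc3) (kc xc24 yc7 zc1) (kc xc27 yc43 zc11) (kc xc29 yc20 zc4) (kc xc26 yc42 zc32) (kc xc17 yc53 zc16) (kc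 xc31 yc50 zc50) (kc xc28 yc55 zc8) (kc xc28 yc55 zc18) (kc xc16 yc24 zc0) (kc xc30 yc34 zc28) (kc xc21 yc13 zc51) (kc xc31 yc8 zc30) (kc xc16 yc24 zc9) (kc xc27 yc40 zc41) (kc xc20 yc19 zc30)) (@D3.rec (fun _ => Pt) (kc xc16 yc24 zc20) (kc xc31 yc0 zc43) (kc xc21 yc30 zc50) (kc xc16 yc24 zc26) (kc xc29 yc38 zc26) (kc xc21 yc28 zc50) (kc xc16 yc31 zc33) (kc xc16 yc31 zc40) (kc xc32 yc8 zc7) (kc xc19 yc17 zc54) (kc xc24 yc47 zc20) (kc xc16 yc30 zc51) (kc xc19 yc33 zc16) (kc xc30 yc47 zc49) (kc xc29 yc7 zc44) (kc xc23 yc12 zc24) (kc xc28 yc37 zc30) (kc xc23 yc16 zc47) (kc xc28 yc38 zc54) (kc xc19 yc8 zc1) (kc xc16 yc24 zc43) (kc xc32 yc8 zc14) (kc xc16 yc24 zc45) (kc xc26 yc48 zc49) (kc xc26 yc56 zc16) (kc xc31 yc6 zc44) (kc xc16 yc24 zc48) (kc xc28 yc45 zc38) (kc xc25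 yc56 zc1) (kc xc19 yc17 zc55) (kc xc31 yc6 zc43) (kc xc22 yc37 zc53) (kc xc26 yc52 zc35) (kc xc26 yc10 zc22) (kc xc32 yc8 zc16) (kc xc21 yc47 zc54) (kc xc26 yc15 zc27) (kc xc27 yc40 zc26) (kc xc17 yc15 zc14) (kc xc17 yc15 zc15) (kc xc24 yc33 zc34) (kc xc19 yc49 zc24) (kc xc16 yc25 zc6) (kc xc27 yc40 zc38) (kc xc21 yc14 zc27) (kc xc22 yc37 zc20) (kc xc21 yc14 zc22) (kc xc16 yc31 zc55) (kc xc21 yc14 zc21) (kc xc21 yc14 zc15) (kc xc25 yc48 zc41) (kc xc23 yc42 zc54) (kc xc16 yc25 zc19) (kc xc24 yc38 zc39) (kc xc26 yc48 zc61) (kc xc20 yc0 zc52) (kc xc16 yc25 zc26) (kc xc20 yc36 zc13) (kc xc17 yc8 zc9) (kc xc27 yc0 zc55) (kc xc16 yc25 zc32) (kc xc32 yc8 zc18)) (@D3.rec (fun _ => Pt) (kc xc19 yc47 zc36) (kc xc19 yc47 zc35) (kc xc23 yc8 zc56) (kc xc21 yc44 zc13) (kc xc20 yc52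 zc33) (kc xc17 yc8 zc8) (kc xc23 yc25 zc53) (kc xc23 yc31 zc0) (kc xc16 yc25 zc40) (kc xc16 yc33 zc30) (kc xc23 yc31 zc40) (kc xc30 yc3 zc14) (kc xc27 yc26 zc20) (kc xc16 yc25 zc50) (kc xc32 yc8 zc19) (kc xc16 yc25 zc52) (kc xc25 yc35 zc8) (kc xc20 yc36 zc50) (kc xc28 yc49 zc27) (kc xc20 yc12 zc29) (kc xc23 yc4 zc22) (kc xc21 yc59 zc42) (kc xc16 yc25 zc61) (kc xc18 yc43 zc61) (kc xc16 yc26 zc0) (kc xc25 yc56 zc26) (kc xc30 yc54 zc32) (kc xc22 yc52 zc47) (kc xc16 yc26 zc4) (kc xc16 yc26 zc5) (kc xc16 yc26 zc10) (kc xc16 yc26 zc9) (kc xc26 yc19 zc34) (kc xc26 yc33 zc3) (kc xc18 yc18 zc23) (kc xc23 yc16 zc49) (kc xc19 yc17 zc9) (kc xc22 yc42 zc46) (kc xc28 yc41 zc29) (kc xc30 yc12 zc44) (kc xc21 yc59 zc49) (kc xc16 yc26 zc17) (kc xc16 yc26 zc21) (kc xc16 yc26 zc22) (kc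 xc25 yc56 zc2) (kc xc32 yc1 zc47) (kc xc25 yc54 zc6) (kc xc16 yc26 zc29) (kc xc16 yc26 zc31) (kc xc23 yc9 zc50) (kc xc23 yc9 zc49) (kc xc23 yc19 zc0) (kc xc22 yc52 zc18) (kc xc24 yc38 zc8) (kc xc16 yc26 zc36) (kc xc25 yc7 zc24) (kc xc22 yc52 zc41) (kc xc32 yc8 zc23) (kc xc31 yc59 zc48) (kc xc32 yc6 zc35) (kc xc16 yc26 zc41) (kc xc23 yc0 zc57)) (@D3.rec (fun _ => Pt) (kc xc16 yc26 zc44) (kc xc31 yc25 zc44) (kc xc17 yc7 zc39) (kc xc19 yc9 zc3) (kc xc16 yc26 zc51) (kc xc30 yc55 zc8) (kc xc32 yc8 zc27) (kc xc16 yc26 zc53) (kc xc22 yc22 zc56) (kc xc31 yc48 zc43) (kc xc16 yc26 zc54) (kc xc28 yc19 zc33) (kc xc24 yc58 zc29) (kc xc16 yc28 zc54) (kc xc16 yc27 zc0) (kc xc32 yc8 zc2) (kc xc16 yc27 zc6) (kc xc24 yc57 zc15) (kc xc22 yc59 zc55) (kc xc30 yc21 zc6) (kc xc28 yc24 zc56)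 (kc xc32 yc8 zc29) (kc xc28 yc18 zc7) (kc xc27 yc53 zc14) (kc xc16 yc27 zc9) (kc xc16 yc27 zc13) (kc xc16 yc27 zc12) (kc xc32 yc8 zc35) (kc xc32 yc8 zc32) (kc xc31 yc19 zc16) (kc xc32 yc8 zc37) (kc xc16 yc27 zc16) (kc xc32 yc8 zc38) (kc xc31 yc54 zc53) (kc xc16 yc27 zc20) (kc xc22 yc24 zc54) (kc xc22 yc24 zc53) (kc xc19 yc57 zc2) (kc xc23 yc9 zc38) (kc xc24 yc17 zc52) (kc xc28 yc53 zc6) (kc xc30 yc21 zc22) (kc xc24 yc0 zc42) (kc xc22 yc20 zc53) (kc xc21 yc4 zc24) (kc xc17 yc57 zc14) (kc xc16 yc29 zc10) (kc xc25 yc5 zc43) (kc xc18 yc42 zc2) (kc xc29 yc31 zc45) (kc xc26 yc49 zc5) (kc xc18 yc18 zc42) (kc xc25 yc11 zc39) (kc xc26 yc49 zc37) (kc xc16 yc53 zc15) (kc xc32 yc8 zc39) (kc xc21 yc5 zc33) (kc xc29 yc1 zc56) (kc xc16 yc27 zc46) (kc xc31 yc2 zc28) (kc xc21 yc37 zc57)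 (kc xc25 yc18 zc52)) (@D3.rec (fun _ => Pt) (kc xc21 yc51 zc26) (kc xc25 yc2 zc37) (kc xc16 yc27 zc50) (kc xc30 yc3 zc2) (kc xc26 yc48 zc40) (kc xc27 yc9 zc43) (kc xc20 yc7 zc20) (kc xc26 yc48 zc39) (kc xc16 yc27 zc55) (kc xc16 yc27 zc57) (kc xc16 yc27 zc59) (kc xc32 yc8 zc43) (kc xc31 yc12 zc4) (kc xc26 yc7 zc9) (kc xc16 yc28 zc3) (kc xc18 yc56 zc42) (kc xc26 yc6 zc53) (kc xc26 yc7 zc1) (kc xc26 yc8 zc34) (kc xc25 yc52 zc7) (kc xc24 yc57 zc23) (kc xc16 yc28 zc10) (kc xc32 yc8 zc46) (kc xc32 yc2 zc0) (kc xc20 yc6 zc58) (kc xc32 yc8 zc45) (kc xc20 yc10 zc7) (kc xc16 yc28 zc18) (kc xc16 yc28 zc20) (kc xc17 yc2 zc39) (kc xc16 yc53 zc33) (kc xc18 yc40 zc3) (kc xc21 yc53 zc45) (kc xc21 yc1 zc42) (kc xc16 yc28 zc26) (kc xc31 yc58 zc57) (kc xc16 yc28 zc33) (kc xc29 yc6 zc35)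 (kc xc25 yc36 zc5) (kc xc16 yc28 zc37) (kc xc16 yc28 zc38) (kc xc22 yc59 zc57) (kc xc28 yc22 zc26) (kc xc26 yc41 zc31) (kc xc27 yc22 zc53) (kc xc19 yc29 zc28) (kc xc19 yc29 zc27) (kc xc16 yc28 zc45) (kc xc22 yc56 zc44) (kc xc18 yc43 zc41) (kc xc20 yc1 zc8) (kc xc26 yc56 zc2) (kc xc29 yc4 zc39) (kc xc19 yc40 zc59) (kc xc28 yc34 zc59) (kc xc28 yc29 zc4) (kc xc29 yc24 zc6) (kc xc28 yc57 zc20) (kc xc25 yc36 zc12) (kc xc31 yc15 zc26) (kc xc28 yc47 zc19) (kc xc26 yc53 zc10)) (@D3.rec (fun _ => Pt) (kc xc31 yc16 zc2) (kc xc20 yc37 zc16) (kc xc28 yc47 zc18) (kc xc22 yc33 zc24) (kc xc32 yc8 zc49) (kc xc32 yc8 zc50) (kc xc30 yc19 zc49) (kc xc32 yc8 zc51) (kc xc16 yc29 zc2) (kc xc31 yc25 zc29) (kc xc31 yc39 zc14) (kc xc17 yc57 zc39) (kc xc32 yc8 zc53) (kc xc31 yc23 zc35) (kc xc16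 yc46 zc23) (kc xc29 yc32 zc16) (kc xc29 yc32 zc17) (kc xc16 yc29 zc14) (kc xc28 yc56 zc0) (kc xc26 yc56 zc18) (kc xc16 yc55 zc60) (kc xc26 yc43 zc60) (kc xc24 yc7 zc2) (kc xc29 yc6 zc21) (kc xc29 yc6 zc20) (kc xc17 yc22 zc28) (kc xc26 yc48 zc44) (kc xc27 yc5 zc33) (kc xc16 yc29 zc38) (kc xc28 yc0 zc27) (kc xc21 yc15 zc38) (kc xc16 yc29 zc40) (kc xc18 yc25 zc12) (kc xc31 yc0 zc51) (kc xc19 yc9 zc36) (kc xc18 yc24 zc30) (kc xc21 yc2 zc55) (kc xc22 yc22 zc38) (kc xc20 yc36 zc17) (kc xc32 yc1 zc14) (kc xc20 yc36 zc41) (kc xc20 yc36 zc42) (kc xc16 yc29 zc51) (kc xc28 yc35 zc26) (kc xc16 yc30 zc12) (kc xc17 yc7 zc13) (kc xc22 yc4 zc11) (kc xc26 yc52 zc12) (kc xc27 yc1 zc1) (kc xc19 yc56 zc19) (kc xc27 yc22 zc54) (kc xc16 yc30 zc3) (kc xc16 yc30 zc5) (kc xc20 yc52 zc25) (kc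 xc26 yc57 zc43) (kc xc25 yc59 zc26) (kc xc32 yc8 zc58) (kc xc28 yc14 zc30) (kc xc29 yc20 zc1) (kc xc30 yc53 zc55) (kc xc20 yc53 zc25) (kc xc26 yc31 zc52)) (@D3.rec (fun _ => Pt) (kc xc20 yc53 zc26) (kc xc17 yc3 zc29) (kc xc25 yc25 zc29) (kc xc27 yc50 zc12) (kc xc27 yc5 zc56) (kc xc22 yc35 zc28) (kc xc21 yc28 zc57) (kc xc21 yc28 zc58) (kc xc29 yc24 zc43) (kc xc26 yc45 zc55) (kc xc22 yc46 zc27) (kc xc20 yc7 zc49) (kc xc16 yc52 zc48) (kc xc28 yc55 zc10) (kc xc32 yc8 zc60) (kc xc26 yc29 zc53) (kc xc16 yc30 zc54) (kc xc29 yc6 zc7) (kc xc16 yc30 zc59) (kc xc31 yc14 zc55) (kc xc30 yc45 zc28) (kc xc31 yc43 zc34) (kc xc16 yc31 zc0) (kc xc16 yc31 zc1) (kc xc22 yc17 zc4) (kc xc32 yc9 zc1) (kc xc16 yc31 zc4) (kc xc32 yc9 zc3) (kc xc26 yc53 zc5) (kc xc22 yc9 zc55) (kc xc16 yc31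 zc8) (kc xc28 yc46 zc35) (kc xc18 yc44 zc22) (kc xc16 yc31 zc11) (kc xc28 yc35 zc37) (kc xc20 yc36 zc53) (kc xc16 yc33 zc51) (kc xc28 yc55 zc22) (kc xc16 yc31 zc13) (kc xc20 yc40 zc53) (kc xc32 yc9 zc10) (kc xc17 yc7 zc14) (kc xc16 yc31 zc15) (kc xc28 yc32 zc28) (kc xc19 yc8 zc3) (kc xc27 yc24 zc16) (kc xc16 yc31 zc16) (kc xc22 yc17 zc31) (kc xc30 yc38 zc20) (kc xc17 yc7 zc9) (kc xc22 yc22 zc32) (kc xc22 yc22 zc29) (kc xc30 yc8 zc29) (kc xc22 yc48 zc36) (kc xc17 yc7 zc6) (kc xc27 yc9 zc35) (kc xc22 yc22 zc44) (kc xc29 yc54 zc41) (kc xc32 yc9 zc14) (kc xc32 yc9 zc15) (kc xc16 yc34 zc23) (kc xc32 yc9 zc17)) (@D3.rec (fun _ => Pt) (kc xc20 yc38 zc59) (kc xc23 yc4 zc18) (kc xc23 yc3 zc44) (kc xc24 yc20 zc43) (kc xc31 yc32 zc61) (kc xc32 yc8 zc10) (kc xc31 yc58 zc13) (kc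 xc32 yc9 zc19) (kc xc21 yc54 zc29) (kc xc26 yc50 zc21) (kc xc19 yc7 zc56) (kc xc27 yc12 zc18) (kc xc16 yc31 zc35) (kc xc19 yc8 zc2) (kc xc16 yc31 zc38) (kc xc21 yc54 zc30) (kc xc28 yc47 zc49) (kc xc28 yc1 zc37) (kc xc30 yc2 zc43) (kc xc32 yc5 zc23) (kc xc17 yc53 zc6) (kc xc31 yc13 zc25) (kc xc25 yc1 zc21) (kc xc17 yc55 zc20) (kc xc19 yc16 zc54) (kc xc28 yc12 zc35) (kc xc28 yc34 zc4) (kc xc27 yc40 zc32) (kc xc28 yc35 zc30) (kc xc28 yc23 zc3) (kc xc16 yc31 zc61) (kc xc25 yc6 zc18) (kc xc23 yc12 zc19) (kc xc23 yc12 zc18) (kc xc16 yc32 zc1) (kc xc26 yc45 zc12) (kc xc31 yc10 zc25) (kc xc16 yc32 zc4) (kc xc22 yc16 zc26) (kc xc16 yc32 zc5) (kc xc17 yc56 zc10) (kc xc20 yc6 zc48) (kc xc24 yc5 zc30) (kc xc26 yc56 zc42) (kc xc16 yc32 zc33) (kc xc22 yc49 zc23) (kc xc16 yc32 zc9)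 (kc xc29 yc16 zc28) (kc xc32 yc0 zc4) (kc xc25 yc8 zc23) (kc xc16 yc32 zc13) (kc xc21 yc11 zc45) (kc xc21 yc11 zc46) (kc xc16 yc32 zc15) (kc xc27 yc51 zc60) (kc xc28 yc8 zc61) (kc xc32 yc9 zc27) (kc xc30 yc55 zc23) (kc xc27 yc8 zc16) (kc xc32 yc9 zc29) (kc xc16 yc32 zc22) (kc xc16 yc32 zc21)) (@D3.rec (fun _ => Pt) (kc xc30 yc54 zc37) (kc xc26 yc49 zc6) (kc xc26 yc49 zc7) (kc xc28 yc15 zc8) (kc xc26 yc30 zc26) (kc xc16 yc32 zc24) (kc xc32 yc8 zc33) (kc xc23 yc8 zc46) (kc xc16 yc32 zc28) (kc xc26 yc31 zc11) (kc xc21 yc10 zc49) (kc xc16 yc32 zc30) (kc xc26 yc31 zc12) (kc xc30 yc43 zc47) (kc xc27 yc9 zc0) (kc xc32 yc9 zc36) (kc xc32 yc9 zc38) (kc xc32 yc9 zc24) (kc xc30 yc44 zc49) (kc xc28 yc50 zc0) (kc xc16 yc32 zc36) (kc xc27 yc39 zc22) (kc xc28 yc15 zc25) (kc xc18 yc45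 zc15) (kc xc24 yc22 zc4) (kc xc16 yc32 zc53) (kc xc28 yc21 zc12) (kc xc23 yc23 zc45) (kc xc16 yc53 zc5) (kc xc28 yc27 zc32) (kc xc22 yc51 zc5) (kc xc16 yc32 zc48) (kc xc16 yc52 zc60) (kc xc27 yc39 zc23) (kc xc16 yc32 zc50) (kc xc20 yc10 zc26) (kc xc31 yc56 zc28) (kc xc30 yc47 zc31) (kc xc31 yc54 zc35) (kc xc16 yc32 zc54) (kc xc30 yc12 zc23) (kc xc22 yc17 zc2) (kc xc16 yc32 zc56) (kc xc32 yc9 zc41) (kc xc16 yc32 zc58) (kc xc32 yc9 zc44) (kc xc32 yc9 zc43) (kc xc16 yc32 zc61) (kc xc22 yc51 zc42) (kc xc16 yc33 zc1) (kc xc32 yc9 zc46) (kc xc31 yc42 zc8) (kc xc22 yc52 zc2) (kc xc26 yc27 zc15) (kc xc24 yc56 zc55) (kc xc24 yc57 zc5) (kc xc16 yc33 zc12) (kc xc32 yc9 zc48) (kc xc16 yc33 zc16) (kc xc21 yc52 zc61) (kc xc23 yc16 zc4) (kc xc31 yc32 zc49)) (@D3.rec (fun _ => Pt)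 (kc xc32 yc5 zc55) (kc xc16 yc33 zc19) (kc xc32 yc9 zc50) (kc xc18 yc44 zc30) (kc xc16 yc33 zc21) (kc xc19 yc23 zc3) (kc xc19 yc23 zc6) (kc xc16 yc33 zc24) (kc xc32 yc9 zc52) (kc xc18 yc32 zc5) (kc xc32 yc7 zc51) (kc xc29 yc9 zc61) (kc xc16 yc33 zc28) (kc xc19 yc7 zc27) (kc xc28 yc38 zc30) (kc xc16 yc33 zc34) (kc xc32 yc7 zc1) (kc xc16 yc33 zc33) (kc xc29 yc30 zc16) (kc xc16 yc33 zc35) (kc xc27 yc47 zc49) (kc xc16 yc33 zc36) (kc xc16 yc33 zc38) (kc xc24 yc46 zc48) (kc xc29 yc25 zc17) (kc xc32 yc9 zc58) (kc xc26 yc29 zc4) (kc xc31 yc53 zc31) (kc xc32 yc3 zc2) (kc xc16 yc33 zc40) (kc xc16 yc33 zc43) (kc xc19 yc45 zc39) (kc xc25 yc48 zc50) (kc xc24 yc46 zc44) (kc xc16 yc33 zc48) (kc xc29 yc14 zc38) (kc xc24 yc46 zc55) (kc xc21 yc11 zc54) (kc xc32 yc10 zc0) (kc xc24 yc46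 zc52) (kc xc21 yc11 zc56) (kc xc24 yc38 zc35) (kc xc19 yc7 zc26) (kc xc32 yc10 zc5) (kc xc24 yc47 zc55) (kc xc24 yc47 zc50) (kc xc26 yc21 zc7) (kc xc26 yc56 zc27) (kc xc19 yc8 zc36) (kc xc23 yc2 zc25) (kc xc17 yc57 zc32) (kc xc21 yc14 zc61) (kc xc23 yc9 zc12) (kc xc21 yc11 zc4) (kc xc17 yc46 zc57) (kc xc16 yc33 zc60) (kc xc28 yc45 zc52) (kc xc16 yc33 zc58) (kc xc18 yc28 zc39) (kc xc16 yc34 zc1) (kc xc22 yc52 zc55) (kc xc31 yc58 zc58)) (@D3.rec (fun _ => Pt) (kc xc28 yc13 zc61) (kc xc32 yc1 zc43) (kc xc23 yc5 zc6) (kc xc18 yc2 zc37) (kc xc17 yc57 zc9) (kc xc16 yc34 zc5) (kc xc16 yc34 zc3) (kc xc27 yc47 zc50) (kc xc16 yc34 zc4) (kc xc30 yc48 zc18) (kc xc30 yc43 zc42) (kc xc26 yc29 zc9) (kc xc26 yc29 zc12) (kc xc24 yc57 zc45) (kc xc24 yc57 zc46) (kc xc26 yc15 zc32) (kc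 xc16 yc34 zc11) (kc xc20 yc33 zc39) (kc xc16 yc34 zc9) (kc xc25 yc2 zc16) (kc xc16 yc34 zc10) (kc xc26 yc7 zc12) (kc xc32 yc10 zc13) (kc xc26 yc42 zc10) (kc xc25 yc58 zc33) (kc xc25 yc48 zc52) (kc xc24 yc57 zc48) (kc xc24 yc57 zc49) (kc xc20 yc21 zc33) (kc xc16 yc34 zc16) (kc xc16 yc34 zc14) (kc xc32 yc10 zc16) (kc xc32 yc6 zc30) (kc xc16 yc34 zc15) (kc xc30 yc45 zc23) (kc xc29 yc34 zc46) (kc xc25 yc4 zc44) (kc xc16 yc34 zc19) (kc xc25 yc50 zc59) (kc xc21 yc12 zc6) (kc xc22 yc55 zc59) (kc xc16 yc34 zc21) (kc xc22 yc47 zc7) (kc xc16 yc34 zc22) (kc xc29 yc21 zc22) (kc xc32 yc10 zc18) (kc xc31 yc16 zc24) (kc xc31 yc16 zc21) (kc xc16 yc34 zc24) (kc xc29 yc21 zc33) (kc xc24 yc56 zc42) (kc xc24 yc56 zc43) (kc xc26 yc26 zc61) (kc xc16 yc58 zc10) (kc xc16 yc34 zc32) (kc xc27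 yc3 zc18) (kc xc16 yc34 zc30) (kc xc26 yc14 zc58) (kc xc29 yc25 zc0) (kc xc16 yc34 zc31) (kc xc27 yc53 zc11) (kc xc25 yc29 zc24)) (@D3.rec (fun _ => Pt) (kc xc25 yc35 zc38) (kc xc22 yc21 zc0) (kc xc30 yc46 zc23) (kc xc16 yc34 zc39) (kc xc16 yc34 zc38) (kc xc31 yc7 zc42) (kc xc29 yc48 zc0) (kc xc18 yc44 zc41) (kc xc27 yc45 zc0) (kc xc25 yc3 zc38) (kc xc18 yc34 zc32) (kc xc18 yc54 zc18) (kc xc28 yc15 zc1) (kc xc27 yc39 zc55) (kc xc22 yc7 zc60) (kc xc22 yc7 zc57) (kc xc25 yc25 zc33) (kc xc16 yc52 zc56) (kc xc18 yc58 zc37) (kc xc28 yc27 zc3) (kc xc25 yc18 zc11) (kc xc18 yc45 zc51) (kc xc25 yc16 zc55) (kc xc18 yc51 zc48) (kc xc20 yc8 zc3) (kc xc16 yc34 zc59) (kc xc28 yc2 zc29) (kc xc16 yc35 zc3) (kc xc18 yc34 zc30) (kc xc22 yc25 zc1) (kc xc16 yc35 zc11) (kc xc16 yc35 zc13)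 (kc xc29 yc13 zc54) (kc xc19 yc0 zc20) (kc xc27 yc35 zc7) (kc xc27 yc33 zc9) (kc xc16 yc35 zc21) (kc xc30 yc44 zc41) (kc xc31 yc32 zc38) (kc xc27 yc35 zc9) (kc xc28 yc27 zc10) (kc xc17 yc26 zc58) (kc xc16 yc35 zc25) (kc xc27 yc50 zc7) (kc xc31 yc1 zc17) (kc xc23 yc30 zc32) (kc xc31 yc42 zc35) (kc xc16 yc35 zc27) (kc xc29 yc20 zc60) (kc xc32 yc10 zc29) (kc xc16 yc53 zc6) (kc xc19 yc21 zc1) (kc xc29 yc14 zc30) (kc xc28 yc47 zc42) (kc xc16 yc35 zc46) (kc xc16 yc35 zc50) (kc xc19 yc47 zc60) (kc xc19 yc59 zc1) (kc xc16 yc35 zc52) (kc xc18 yc49 zc57) (kc xc21 yc37 zc55) (kc xc19 yc49 zc0)) (@D3.rec (fun _ => Pt) (kc xc21 yc37 zc58) (kc xc16 yc35 zc61) (kc xc25 yc3 zc25) (kc xc26 yc23 zc33) (kc xc20 yc19 zc57) (kc xc16 yc43 zc57) (kc xc31 yc1 zc7) (kc xc16 yc36 zc10) (kc xc16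 yc36 zc13) (kc xc18 yc46 zc22) (kc xc31 yc40 zc26) (kc xc21 yc20 zc27) (kc xc19 yc14 zc51) (kc xc28 yc49 zc13) (kc xc28 yc48 zc31) (kc xc19 yc40 zc38) (kc xc19 yc4 zc21) (kc xc26 yc33 zc49) (kc xc31 yc41 zc10) (kc xc24 yc51 zc34) (kc xc32 yc10 zc33) (kc xc22 yc19 zc37) (kc xc24 yc51 zc42) (kc xc17 yc4 zc28) (kc xc16 yc55 zc47) (kc xc19 yc44 zc40) (kc xc32 yc0 zc46) (kc xc27 yc3 zc54) (kc xc31 yc19 zc10) (kc xc32 yc10 zc35) (kc xc31 yc20 zc61) (kc xc16 yc36 zc35) (kc xc16 yc36 zc37) (kc xc25 yc25 zc16) (kc xc29 yc1 zc2) (kc xc25 yc47 zc29) (kc xc31 yc20 zc14) (kc xc31 yc20 zc22) (kc xc23 yc45 zc61) (kc xc25 yc47 zc35) (kc xc17 yc6 zc23) (kc xc17 yc4 zc47) (kc xc23 yc46 zc0) (kc xc23 yc45 zc60) (kc xc19 yc5 zc2) (kc xc19 yc38 zc31) (kc xc18 yc46 zc20) (kc xc25 yc4 zc37)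 (kc xc26 yc44 zc15) (kc xc26 yc33 zc17) (kc xc16 yc36 zc49) (kc xc16 yc36 zc48) (kc xc18 yc46 zc30) (kc xc24 yc15 zc1) (kc xc26 yc44 zc29) (kc xc25 yc12 zc33) (kc xc25 yc12 zc42) (kc xc24 yc29 zc43) (kc xc27 yc2 zc40) (kc xc31 yc45 zc28) (kc xc28 yc56 zc53) (kc xc27 yc11 zc27)) (@D3.rec (fun _ => Pt) (kc xc32 yc3 zc8) (kc xc31 yc24 zc25) (kc xc21 yc16 zc58) (kc xc28 yc47 zc36) (kc xc16 yc36 zc61) (kc xc20 yc48 zc31) (kc xc26 yc5 zc33) (kc xc21 yc48 zc9) (kc xc32 yc10 zc54) (kc xc20 yc14 zc32) (kc xc17 yc52 zc33) (kc xc29 yc12 zc56) (kc xc29 yc2 zc37) (kc xc25 yc22 zc13) (kc xc16 yc37 zc6) (kc xc24 yc50 zc2) (kc xc16 yc37 zc7) (kc xc30 yc16 zc7) (kc xc28 yc50 zc42) (kc xc29 yc3 zc18) (kc xc16 yc37 zc58) (kc xc20 yc39 zc29) (kc xc20 yc39 zc30) (kc xc32 yc3 zc24) (kc xc16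 yc37 zc11) (kc xc16 yc37 zc13) (kc xc19 yc28 zc19) (kc xc16 yc37 zc14) (kc xc31 yc27 zc5) (kc xc16 yc45 zc49) (kc xc19 yc11 zc25) (kc xc21 yc50 zc31) (kc xc21 yc16 zc53) (kc xc32 yc11 zc11) (kc xc19 yc11 zc27) (kc xc25 yc44 zc51) (kc xc25 yc44 zc52) (kc xc31 yc15 zc0) (kc xc19 yc56 zc50) (kc xc19 yc29 zc0) (kc xc22 yc23 zc6) (kc xc22 yc21 zc24) (kc xc25 yc13 zc57) (kc xc25 yc22 zc34) (kc xc16 yc50 zc5) (kc xc16 yc43 zc32) (kc xc16 yc37 zc28) (kc xc22 yc22 zc12) (kc xc19 yc33 zc58) (kc xc19 yc33 zc59) (kc xc30 yc28 zc56) (kc xc23 yc13 zc10) (kc xc30 yc25 zc39) (kc xc26 yc58 zc44) (kc xc19 yc3 zc25) (kc xc16 yc37 zc34) (kc xc26 yc40 zc34) (kc xc28 yc50 zc32) (kc xc26 yc47 zc21) (kc xc16 yc37 zc37) (kc xc31 yc48 zc29) (kc xc24 yc21 zc4)) (@D3.rec (fun _ => Pt) (kc xc26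 yc40 zc32) (kc xc30 yc25 zc29) (kc xc26 yc47 zc27) (kc xc20 yc53 zc21) (kc xc30 yc25 zc28) (kc xc26 yc5 zc43) (kc xc23 yc45 zc42) (kc xc27 yc10 zc52) (kc xc26 yc41 zc3) (kc xc17 yc18 zc27) (kc xc28 yc58 zc16) (kc xc21 yc16 zc38) (kc xc16 yc37 zc45) (kc xc32 yc11 zc32) (kc xc19 yc29 zc6) (kc xc24 yc1 zc0) (kc xc19 yc44 zc17) (kc xc19 yc43 zc48) (kc xc28 yc54 zc12) (kc xc27 yc35 zc30) (kc xc26 yc50 zc59) (kc xc16 yc37 zc52) (kc xc19 yc43 zc47) (kc xc32 yc10 zc58) (kc xc32 yc11 zc42) (kc xc31 yc51 zc3) (kc xc19 yc3 zc24) (kc xc18 yc51 zc0) (kc xc24 yc17 zc11) (kc xc26 yc50 zc38) (kc xc16 yc37 zc55) (kc xc23 yc49 zc11) (kc xc29 yc15 zc5) (kc xc29 yc15 zc6) (kc xc28 yc35 zc3) (kc xc29 yc14 zc18) (kc xc26 yc40 zc54) (kc xc26 yc44 zc39) (kc xc16 yc37 zc60) (kc xc16 yc44 zc55)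 (kc xc21 yc57 zc53) (kc xc22 yc27 zc35) (kc xc27 yc36 zc40) (kc xc16 yc38 zc0) (kc xc32 yc11 zc51) (kc xc27 yc16 zc14) (kc xc16 yc38 zc1) (kc xc32 yc11 zc54) (kc xc32 yc11 zc53) (kc xc26 yc56 zc60) (kc xc32 yc11 zc57) (kc xc16 yc38 zc2) (kc xc28 yc35 zc7) (kc xc18 yc48 zc54) (kc xc16 yc42 zc15) (kc xc26 yc5 zc30) (kc xc16 yc38 zc8) (kc xc32 yc12 zc1) (kc xc31 yc27 zc31) (kc xc16 yc38 zc9) (kc xc32 yc12 zc5) (kc xc26 yc59 zc36)) (@D3.rec (fun _ => Pt) (kc xc32 yc12 zc9) (kc xc29 yc46 zc10) (kc xc16 yc38 zc10) (kc xc32 yc12 zc13) (kc xc23 yc34 zc38) (kc xc28 yc40 zc29) (kc xc16 yc38 zc13) (kc xc24 yc11 zc46) (kc xc29 yc9 zc28) (kc xc32 yc12 zc18) (kc xc26 yc46 zc40) (kc xc16 yc38 zc15) (kc xc32 yc12 zc14) (kc xc29 yc12 zc27) (kc xc29 yc46 zc11) (kc xc16 yc38 zc17) (kc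 xc31 yc47 zc3) (kc xc32 yc12 zc23) (kc xc16 yc38 zc18) (kc xc29 yc46 zc1) (kc xc19 yc13 zc57) (kc xc19 yc13 zc59) (kc xc32 yc11 zc60) (kc xc19 yc8 zc43) (kc xc16 yc38 zc20) (kc xc32 yc12 zc32) (kc xc32 yc12 zc35) (kc xc31 yc26 zc38) (kc xc29 yc34 zc25) (kc xc32 yc12 zc38) (kc xc16 yc38 zc24) (kc xc24 yc35 zc19) (kc xc19 yc56 zc49) (kc xc24 yc21 zc0) (kc xc19 yc13 zc56) (kc xc19 yc13 zc39) (kc xc16 yc38 zc27) (kc xc27 yc24 zc4) (kc xc26 yc20 zc7) (kc xc18 yc2 zc31) (kc xc18 yc2 zc30) (kc xc20 yc53 zc47) (kc xc30 yc51 zc16) (kc xc20 yc53 zc46) (kc xc16 yc38 zc30) (kc xc32 yc12 zc46) (kc xc19 yc25 zc14) (kc xc19 yc25 zc15) (kc xc21 yc38 zc52) (kc xc30 yc36 zc5) (kc xc26 yc43 zc5) (kc xc28 yc15 zc46) (kc xc16 yc38 zc42) (kc xc32 yc12 zc49) (kc xc24 yc36 zc31) (kc xc16 yc38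 zc44) (kc xc25 yc27 zc25) (kc xc26 yc4 zc53) (kc xc19 yc25 zc29) (kc xc30 yc14 zc13) (kc xc16 yc38 zc46) (kc xc25 yc5 zc53)) (@D3.rec (fun _ => Pt) (kc xc20 yc3 zc20) (kc xc31 yc20 zc24) (kc xc26 yc4 zc56) (kc xc25 yc38 zc26) (kc xc16 yc38 zc49) (kc xc20 yc59 zc1) (kc xc31 yc43 zc50) (kc xc31 yc43 zc51) (kc xc25 yc10 zc61) (kc xc19 yc53 zc39) (kc xc19 yc53 zc40) (kc xc19 yc34 zc59) (kc xc25 yc5 zc51) (kc xc27 yc6 zc36) (kc xc16 yc38 zc52) (kc xc26 yc5 zc4) (kc xc28 yc54 zc2) (kc xc29 yc17 zc7) (kc xc19 yc45 zc55) (kc xc16 yc38 zc54) (kc xc31 yc20 zc25) (kc xc21 yc35 zc56) (kc xc20 yc40 zc1) (kc xc32 yc12 zc55) (kc xc16 yc38 zc57) (kc xc29 yc0 zc45) (kc xc24 yc32 zc0) (kc xc26 yc48 zc18) (kc xc24 yc14 zc31) (kc xc29 yc0 zc47) (kc xc27 yc6 zc33) (kc xc16 yc39 zc4) (kc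 xc20 yc3 zc21) (kc xc16 yc39 zc6) (kc xc21 yc2 zc60) (kc xc32 yc3 zc22) (kc xc19 yc28 zc20) (kc xc19 yc25 zc16) (kc xc18 yc51 zc3) (kc xc28 yc27 zc60) (kc xc16 yc39 zc34) (kc xc32 yc3 zc61) (kc xc32 yc10 zc36) (kc xc16 yc39 zc39) (kc xc18 yc9 zc0) (kc xc16 yc39 zc18) (kc xc24 yc52 zc6) (kc xc26 yc41 zc19) (kc xc26 yc41 zc18) (kc xc29 yc47 zc37) (kc xc24 yc21 zc3) (kc xc28 yc56 zc39) (kc xc26 yc39 zc42) (kc xc26 yc39 zc40) (kc xc24 yc1 zc20) (kc xc16 yc39 zc30) (kc xc31 yc40 zc50) (kc xc29 yc11 zc16) (kc xc26 yc39 zc25) (kc xc27 yc11 zc39) (kc xc16 yc39 zc37) (kc xc25 yc21 zc16)) (@D3.rec (fun _ => Pt) (kc xc16 yc39 zc38) (kc xc32 yc13 zc8) (kc xc31 yc19 zc20) (kc xc28 yc43 zc16) (kc xc21 yc20 zc47) (kc xc21 yc48 zc5) (kc xc24 yc1 zc11) (kc xc25 yc44 zc54) (kc xc26 yc40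 zc53) (kc xc26 yc39 zc26) (kc xc31 yc20 zc60) (kc xc26 yc1 zc48) (kc xc19 yc29 zc49) (kc xc32 yc2 zc2) (kc xc19 yc34 zc1) (kc xc25 yc47 zc20) (kc xc26 yc39 zc22) (kc xc19 yc1 zc3) (kc xc16 yc39 zc54) (kc xc31 yc20 zc21) (kc xc25 yc32 zc3) (kc xc32 yc2 zc3) (kc xc19 yc43 zc45) (kc xc16 yc46 zc24) (kc xc19 yc57 zc56) (kc xc16 yc46 zc25) (kc xc16 yc39 zc59) (kc xc32 yc13 zc25) (kc xc27 yc31 zc59) (kc xc29 yc1 zc4) (kc xc24 yc28 zc36) (kc xc26 yc39 zc21) (kc xc16 yc40 zc2) (kc xc32 yc13 zc27) (kc xc21 yc21 zc6) (kc xc21 yc16 zc30) (kc xc16 yc40 zc5) (kc xc19 yc49 zc44) (kc xc31 yc48 zc54) (kc xc30 yc16 zc16) (kc xc26 yc44 zc36) (kc xc16 yc40 zc7) (kc xc25 yc9 zc18) (kc xc16 yc40 zc9) (kc xc19 yc45 zc53) (kc xc30 yc16 zc17) (kc xc31 yc26 zc1) (kc xc32 yc13 zc34) (kc xc31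 yc48 zc60) (kc xc29 yc33 zc51) (kc xc29 yc37 zc21) (kc xc32 yc13 zc36) (kc xc32 yc13 zc37) (kc xc30 yc16 zc12) (kc xc16 yc54 zc39) (kc xc17 yc6 zc14) (kc xc16 yc55 zc33) (kc xc17 yc4 zc19) (kc xc26 yc59 zc46) (kc xc26 yc59 zc49) (kc xc16 yc40 zc16) (kc xc16 yc55 zc43)) (@D3.rec (fun _ => Pt) (kc xc30 yc28 zc11) (kc xc24 yc24 zc58) (kc xc24 yc21 zc31) (kc xc24 yc13 zc5) (kc xc19 yc13 zc33) (kc xc19 yc3 zc51) (kc xc29 yc26 zc5) (kc xc29 yc25 zc38) (kc xc19 yc22 zc32) (kc xc16 yc47 zc10) (kc xc17 yc45 zc2) (kc xc24 yc22 zc45) (kc xc24 yc52 zc38) (kc xc24 yc51 zc32) (kc xc24 yc51 zc30) (kc xc19 yc1 zc1) (kc xc16 yc40 zc32) (kc xc30 yc56 zc54) (kc xc16 yc40 zc33) (kc xc26 yc50 zc61) (kc xc19 yc0 zc59) (kc xc26 yc38 zc31) (kc xc26 yc38 zc16) (kc xc18 yc27 zc18) (kc xc28 yc0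 zc14) (kc xc26 yc37 zc58) (kc xc26 yc38 zc9) (kc xc31 yc52 zc32) (kc xc30 yc48 zc44) (kc xc25 yc4 zc23) (kc xc22 yc19 zc27) (kc xc16 yc40 zc48) (kc xc23 yc49 zc42) (kc xc16 yc49 zc51) (kc xc16 yc40 zc49) (kc xc32 yc13 zc54) (kc xc16 yc40 zc51) (kc xc26 yc59 zc22) (kc xc24 yc25 zc17) (kc xc21 yc12 zc49) (kc xc26 yc37 zc53) (kc xc27 yc50 zc18) (kc xc26 yc37 zc52) (kc xc16 yc40 zc57) (kc xc16 yc40 zc59) (kc xc24 yc25 zc18) (kc xc31 yc43 zc52) (kc xc30 yc30 zc24) (kc xc21 yc20 zc45) (kc xc29 yc14 zc52) (kc xc20 yc54 zc10) (kc xc26 yc59 zc52) (kc xc26 yc59 zc50) (kc xc26 yc8 zc0) (kc xc17 yc14 zc3) (kc xc24 yc52 zc40) (kc xc32 yc12 zc58) (kc xc25 yc37 zc23) (kc xc18 yc3 zc9) (kc xc19 yc47 zc31) (kc xc28 yc54 zc56) (kc xc18 yc48 zc52)) (@D3.rec (fun _ => Pt) (kc xc16 yc41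 zc26) (kc xc23 yc1 zc15) (kc xc25 yc38 zc42) (kc xc19 yc57 zc55) (kc xc16 yc41 zc29) (kc xc32 yc13 zc60) (kc xc26 yc52 zc45) (kc xc16 yc41 zc31) (kc xc24 yc51 zc39) (kc xc24 yc51 zc40) (kc xc32 yc14 zc4) (kc xc30 yc19 zc27) (kc xc20 yc38 zc21) (kc xc19 yc22 zc31) (kc xc16 yc41 zc37) (kc xc26 yc47 zc25) (kc xc19 yc32 zc11) (kc xc29 yc41 zc52) (kc xc16 yc41 zc42) (kc xc25 yc41 zc36) (kc xc24 yc37 zc32) (kc xc29 yc11 zc17) (kc xc31 yc29 zc3) (kc xc31 yc29 zc2) (kc xc32 yc14 zc11) (kc xc26 yc47 zc24) (kc xc16 yc41 zc45) (kc xc16 yc41 zc47) (kc xc29 yc26 zc46) (kc xc24 yc35 zc21) (kc xc32 yc14 zc13) (kc xc16 yc41 zc48) (kc xc26 yc35 zc0) (kc xc16 yc41 zc49) (kc xc26 yc34 zc56) (kc xc29 yc59 zc51) (kc xc16 yc41 zc54) (kc xc27 yc9 zc20) (kc xc27 yc9 zc3) (kc xc31 yc6 zc20)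 (kc xc16 yc41 zc58) (kc xc30 yc14 zc11) (kc xc31 yc51 zc35) (kc xc27 yc37 zc40) (kc xc32 yc14 zc17) (kc xc32 yc14 zc18) (kc xc17 yc59 zc17) (kc xc32 yc12 zc11) (kc xc28 yc40 zc17) (kc xc16 yc42 zc3) (kc xc31 yc31 zc12) (kc xc16 yc42 zc5) (kc xc28 yc37 zc60) (kc xc26 yc38 zc8) (kc xc26 yc35 zc36) (kc xc32 yc14 zc23) (kc xc16 yc42 zc7) (kc xc24 yc4 zc19) (kc xc24 yc4 zc12) (kc xc28 yc42 zc4) (kc xc26 yc58 zc47) (kc xc20 yc20 zc44)) (@D3.rec (fun _ => Pt) (kc xc26 yc51 zc13) (kc xc29 yc10 zc22) (kc xc16 yc42 zc12) (kc xc26 yc35 zc8) (kc xc31 yc41 zc39) (kc xc32 yc14 zc25) (kc xc29 yc2 zc39) (kc xc31 yc19 zc30) (kc xc32 yc3 zc21) (kc xc16 yc42 zc23) (kc xc31 yc50 zc59) (kc xc17 yc4 zc25) (kc xc16 yc42 zc27) (kc xc32 yc14 zc30) (kc xc30 yc56 zc52) (kc xc16 yc42 zc29) (kc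 xc24 yc0 zc58) (kc xc31 yc57 zc24) (kc xc26 yc37 zc48) (kc xc26 yc37 zc47) (kc xc22 yc6 zc1) (kc xc20 yc55 zc47) (kc xc16 yc42 zc36) (kc xc24 yc4 zc18) (kc xc31 yc52 zc59) (kc xc19 yc56 zc54) (kc xc31 yc58 zc23) (kc xc31 yc29 zc0) (kc xc22 yc19 zc26) (kc xc31 yc40 zc51) (kc xc25 yc35 zc50) (kc xc26 yc25 zc43) (kc xc20 yc2 zc60) (kc xc30 yc54 zc61) (kc xc30 yc55 zc1) (kc xc20 yc3 zc2) (kc xc31 yc40 zc6) (kc xc18 yc52 zc58) (kc xc19 yc11 zc30) (kc xc19 yc29 zc5) (kc xc25 yc7 zc57) (kc xc16 yc42 zc54) (kc xc20 yc25 zc55) (kc xc22 yc16 zc32) (kc xc17 yc4 zc57) (kc xc16 yc42 zc57) (kc xc22 yc3 zc23) (kc xc19 yc58 zc24) (kc xc16 yc42 zc60) (kc xc24 yc17 zc57) (kc xc16 yc42 zc61) (kc xc29 yc31 zc32) (kc xc17 yc49 zc13) (kc xc29 yc11 zc11) (kc xc26 yc47 zc8) (kc xc24 yc24 zc10)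 (kc xc24 yc24 zc3) (kc xc31 yc39 zc61) (kc xc24 yc48 zc32) (kc xc24 yc50 zc9) (kc xc16 yc43 zc43) (kc xc20 yc12 zc35)) (@D3.rec (fun _ => Pt) (kc xc17 yc43 zc8) (kc xc20 yc4 zc23) (kc xc22 yc11 zc25) (kc xc28 yc16 zc53) (kc xc16 yc43 zc13) (kc xc21 yc9 zc54) (kc xc31 yc24 zc41) (kc xc20 yc39 zc16) (kc xc22 yc55 zc31) (kc xc24 yc37 zc56) (kc xc26 yc31 zc23) (kc xc24 yc1 zc48) (kc xc18 yc47 zc34) (kc xc24 yc34 zc15) (kc xc30 yc6 zc60) (kc xc18 yc52 zc59) (kc xc29 yc9 zc30) (kc xc24 yc2 zc50) (kc xc16 yc43 zc33) (kc xc16 yc43 zc34) (kc xc19 yc58 zc56) (kc xc19 yc58 zc57) (kc xc26 yc48 zc5) (kc xc25 yc7 zc56) (kc xc28 yc59 zc10) (kc xc17 yc56 zc59) (kc xc26 yc48 zc2) (kc xc27 yc38 zc2) (kc xc26 yc46 zc46) (kc xc20 yc9 zc47) (kc xc17 yc53 zc60) (kc xc16 yc43 zc45) (kc xc26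 yc21 zc50) (kc xc16 yc43 zc49) (kc xc21 yc32 zc47) (kc xc22 yc47 zc17) (kc xc16 yc43 zc59) (kc xc24 yc17 zc50) (kc xc28 yc39 zc41) (kc xc16 yc43 zc61) (kc xc16 yc44 zc0) (kc xc28 yc9 zc7) (kc xc24 yc51 zc50) (kc xc31 yc41 zc7) (kc xc24 yc9 zc33) (kc xc32 yc14 zc44) (kc xc31 yc52 zc49) (kc xc29 yc17 zc53) (kc xc20 yc56 zc3) (kc xc16 yc44 zc6) (kc xc30 yc24 zc16) (kc xc19 yc55 zc52) (kc xc16 yc44 zc10) (kc xc32 yc14 zc48) (kc xc32 yc14 zc51) (kc xc32 yc14 zc52) (kc xc32 yc14 zc53) (kc xc25 yc36 zc34) (kc xc23 yc10 zc37) (kc xc32 yc14 zc54) (kc xc25 yc57 zc19) (kc xc29 yc3 zc22)) (@D3.rec (fun _ => Pt) (kc xc32 yc14 zc59) (kc xc28 yc53 zc1) (kc xc16 yc44 zc14) (kc xc16 yc50 zc24) (kc xc16 yc44 zc15) (kc xc26 yc36 zc50) (kc xc19 yc12 zc20) (kc xc30 yc39 zc19) (kc xc30 yc39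 zc14) (kc xc23 yc52 zc48) (kc xc27 yc2 zc27) (kc xc16 yc44 zc19) (kc xc19 yc29 zc12) (kc xc25 yc13 zc52) (kc xc29 yc16 zc41) (kc xc29 yc16 zc42) (kc xc32 yc10 zc44) (kc xc25 yc13 zc56) (kc xc16 yc44 zc24) (kc xc25 yc17 zc16) (kc xc16 yc44 zc28) (kc xc32 yc15 zc11) (kc xc16 yc50 zc23) (kc xc19 yc58 zc49) (kc xc19 yc58 zc51) (kc xc28 yc22 zc51) (kc xc19 yc58 zc46) (kc xc16 yc44 zc31) (kc xc16 yc46 zc38) (kc xc29 yc24 zc20) (kc xc16 yc44 zc34) (kc xc18 yc55 zc41) (kc xc16 yc46 zc56) (kc xc16 yc46 zc58) (kc xc19 yc34 zc15) (kc xc16 yc44 zc36) (kc xc21 yc8 zc28) (kc xc19 yc15 zc56) (kc xc19 yc15 zc58) (kc xc25 yc58 zc16) (kc xc20 yc4 zc26) (kc xc28 yc23 zc57) (kc xc28 yc23 zc56) (kc xc25 yc14 zc19) (kc xc25 yc14 zc20) (kc xc29 yc1 zc42) (kc xc24 yc18 zc13) (kc xc30 yc39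 zc30) (kc xc16 yc44 zc51) (kc xc19 yc31 zc42) (kc xc19 yc31 zc48) (kc xc19 yc31 zc49) (kc xc26 yc50 zc3) (kc xc28 yc54 zc57) (kc xc31 yc48 zc7) (kc xc20 yc9 zc10) (kc xc31 yc38 zc57) (kc xc16 yc44 zc61) (kc xc19 yc39 zc47) (kc xc19 yc30 zc51) (kc xc26 yc26 zc21) (kc xc19 yc57 zc29)) (@D3.rec (fun _ => Pt) (kc xc28 yc55 zc39) (kc xc16 yc45 zc7) (kc xc30 yc46 zc31) (kc xc19 yc47 zc43) (kc xc16 yc46 zc35) (kc xc19 yc47 zc26) (kc xc16 yc45 zc10) (kc xc31 yc16 zc4) (kc xc26 yc52 zc53) (kc xc17 yc28 zc37) (kc xc31 yc31 zc44) (kc xc16 yc45 zc14) (kc xc20 yc54 zc51) (kc xc16 yc45 zc18) (kc xc19 yc52 zc1) (kc xc26 yc33 zc48) (kc xc29 yc9 zc31) (kc xc17 yc50 zc39) (kc xc31 yc39 zc48) (kc xc28 yc31 zc28) (kc xc31 yc39 zc47) (kc xc20 yc5 zc15) (kc xc25 yc40 zc50) (kc xc26 yc1 zc15)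 (kc xc26 yc1 zc16) (kc xc25 yc49 zc35) (kc xc27 yc59 zc5) (kc xc20 yc57 zc10) (kc xc16 yc45 zc40) (kc xc26 yc33 zc54) (kc xc24 yc51 zc20) (kc xc16 yc45 zc43) (kc xc29 yc9 zc36) (kc xc31 yc36 zc11) (kc xc16 yc45 zc45) (kc xc25 yc9 zc19) (kc xc26 yc38 zc40) (kc xc32 yc11 zc5) (kc xc32 yc0 zc21) (kc xc26 yc35 zc37) (kc xc32 yc4 zc6) (kc xc16 yc45 zc54) (kc xc20 yc53 zc32) (kc xc26 yc59 zc12) (kc xc27 yc2 zc37) (kc xc19 yc47 zc40) (kc xc17 yc8 zc50) (kc xc19 yc43 zc5) (kc xc16 yc46 zc5) (kc xc20 yc14 zc59) (kc xc23 yc35 zc25) (kc xc24 yc37 zc45) (kc xc29 yc3 zc6) (kc xc16 yc46 zc22) (kc xc19 yc57 zc53) (kc xc30 yc15 zc12) (kc xc17 yc53 zc8) (kc xc30 yc47 zc9) (kc xc17 yc52 zc58) (kc xc19 yc47 zc32) (kc xc19 yc47 zc34) (kc xc16 yc46 zc32)) (@D3.rec (fun _ => Pt) (kc xc19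 yc30 zc48) (kc xc19 yc43 zc6) (kc xc29 yc34 zc44) (kc xc29 yc42 zc36) (kc xc19 yc26 zc36) (kc xc20 yc20 zc9) (kc xc27 yc49 zc54) (kc xc17 yc25 zc14) (kc xc16 yc46 zc42) (kc xc25 yc33 zc23) (kc xc16 yc46 zc44) (kc xc25 yc35 zc29) (kc xc26 yc28 zc35) (kc xc27 yc15 zc58) (kc xc30 yc26 zc55) (kc xc31 yc3 zc6) (kc xc24 yc0 zc7) (kc xc30 yc49 zc15) (kc xc29 yc4 zc41) (kc xc29 yc3 zc57) (kc xc16 yc46 zc51) (kc xc28 yc9 zc3) (kc xc19 yc58 zc21) (kc xc16 yc46 zc54) (kc xc25 yc34 zc17) (kc xc27 yc52 zc19) (kc xc29 yc7 zc48) (kc xc32 yc15 zc17) (kc xc20 yc53 zc10) (kc xc17 yc20 zc61) (kc xc19 yc46 zc46) (kc xc19 yc41 zc42) (kc xc16 yc47 zc34) (kc xc19 yc48 zc38) (kc xc19 yc48 zc36) (kc xc29 yc6 zc56) (kc xc21 yc15 zc58) (kc xc16 yc47 zc6) (kc xc26 yc46 zc21) (kc xc31 yc22 zc35)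 (kc xc16 yc47 zc9) (kc xc19 yc45 zc8) (kc xc20 yc4 zc8) (kc xc17 yc48 zc35) (kc xc16 yc47 zc21) (kc xc16 yc47 zc28) (kc xc31 yc47 zc54) (kc xc26 yc57 zc35) (kc xc16 yc47 zc32) (kc xc32 yc6 zc3) (kc xc16 yc47 zc35) (kc xc16 yc47 zc36) (kc xc16 yc47 zc37) (kc xc19 yc41 zc29) (kc xc24 yc57 zc39) (kc xc26 yc27 zc9) (kc xc19 yc34 zc26) (kc xc16 yc47 zc43) (kc xc16 yc47 zc45) (kc xc25 yc1 zc58) (kc xc29 yc6 zc14) (kc xc31 yc41 zc53)) (@D3.rec (fun _ => Pt) (kc xc16 yc47 zc48) (kc xc30 yc58 zc0) (kc xc24 yc30 zc61) (kc xc29 yc5 zc39) (kc xc25 yc57 zc32) (kc xc16 yc54 zc6) (kc xc19 yc39 zc21) (kc xc19 yc33 zc53) (kc xc29 yc46 zc41) (kc xc26 yc5 zc8) (kc xc31 yc57 zc14) (kc xc16 yc48 zc12) (kc xc19 yc34 zc8) (kc xc22 yc3 zc45) (kc xc24 yc51 zc33) (kc xc18 yc48 zc56) (kc xc16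 yc48 zc29) (kc xc22 yc20 zc46) (kc xc23 yc39 zc31) (kc xc22 yc12 zc58) (kc xc16 yc48 zc30) (kc xc26 yc45 zc38) (kc xc28 yc29 zc58) (kc xc19 yc13 zc15) (kc xc19 yc13 zc17) (kc xc20 yc8 zc41) (kc xc20 yc23 zc61) (kc xc20 yc35 zc21) (kc xc16 yc48 zc36) (kc xc16 yc48 zc37) (kc xc17 yc59 zc26) (kc xc17 yc59 zc28) (kc xc22 yc16 zc40) (kc xc24 yc57 zc36) (kc xc21 yc7 zc19) (kc xc27 yc41 zc25) (kc xc20 yc24 zc16) (kc xc21 yc22 zc29) (kc xc18 yc12 zc57) (kc xc17 yc13 zc35) (kc xc26 yc36 zc10) (kc xc32 yc12 zc51) (kc xc16 yc49 zc8) (kc xc29 yc23 zc39) (kc xc16 yc49 zc13) (kc xc27 yc7 zc24) (kc xc26 yc42 zc28) (kc xc19 yc37 zc15) (kc xc19 yc54 zc11) (kc xc31 yc35 zc5) (kc xc29 yc13 zc38) (kc xc16 yc49 zc28) (kc xc21 yc35 zc19) (kc xc29 yc13 zc40) (kc xc24 yc53 zc36) (kc xc19 yc33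 zc23) (kc xc23 yc41 zc24) (kc xc16 yc49 zc32) (kc xc16 yc49 zc33) (kc xc24 yc49 zc51) (kc xc20 yc36 zc24) (kc xc21 yc18 zc47)) (@D3.rec (fun _ => Pt) (kc xc29 yc39 zc10) (kc xc20 yc10 zc8) (kc xc20 yc10 zc10) (kc xc16 yc49 zc48) (kc xc26 yc47 zc40) (kc xc16 yc49 zc53) (kc xc20 yc58 zc51) (kc xc20 yc58 zc52) (kc xc26 yc41 zc54) (kc xc32 yc15 zc59) (kc xc24 yc17 zc42) (kc xc32 yc4 zc35) (kc xc31 yc8 zc46) (kc xc26 yc47 zc60) (kc xc22 yc44 zc8) (kc xc23 yc40 zc34) (kc xc16 yc50 zc0) (kc xc23 yc35 zc27) (kc xc16 yc50 zc4) (kc xc20 yc35 zc36) (kc xc31 yc6 zc35) (kc xc26 yc34 zc58) (kc xc16 yc50 zc7) (kc xc23 yc38 zc14) (kc xc26 yc40 zc25) (kc xc26 yc40 zc15) (kc xc32 yc16 zc8) (kc xc26 yc35 zc2) (kc xc19 yc55 zc10) (kc xc19 yc55 zc11) (kc xc31 yc37 zc47) (kc xc26 yc47 zc47)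 (kc xc19 yc57 zc28) (kc xc25 yc37 zc59) (kc xc30 yc33 zc9) (kc xc16 yc50 zc12) (kc xc20 yc2 zc42) (kc xc23 yc29 zc36) (kc xc16 yc50 zc16) (kc xc16 yc50 zc17) (kc xc26 yc47 zc4) (kc xc31 yc40 zc19) (kc xc31 yc27 zc38) (kc xc32 yc16 zc12) (kc xc26 yc47 zc57) (kc xc26 yc47 zc58) (kc xc31 yc10 zc29) (kc xc26 yc47 zc31) (kc xc21 yc49 zc9) (kc xc31 yc8 zc49) (kc xc19 yc54 zc52) (kc xc29 yc14 zc42) (kc xc19 yc28 zc52) (kc xc16 yc50 zc26) (kc xc32 yc15 zc13) (kc xc30 yc37 zc23) (kc xc19 yc28 zc58) (kc xc26 yc47 zc44) (kc xc26 yc47 zc45) (kc xc32 yc16 zc18) (kc xc26 yc47 zc13) (kc xc16 yc50 zc29)) (@D3.rec (fun _ => Pt) (kc xc28 yc29 zc38) (kc xc23 yc28 zc27) (kc xc26 yc42 zc26) (kc xc16 yc51 zc1) (kc xc23 yc39 zc5) (kc xc26 yc42 zc22) (kc xc19 yc15 zc25) (kc xc29 yc0 zc43)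 (kc xc26 yc8 zc58) (kc xc26 yc7 zc8) (kc xc25 yc24 zc41) (kc xc30 yc42 zc33) (kc xc28 yc57 zc43) (kc xc21 yc58 zc45) (kc xc25 yc57 zc23) (kc xc16 yc50 zc45) (kc xc28 yc40 zc52) (kc xc18 yc8 zc19) (kc xc26 yc37 zc27) (kc xc18 yc8 zc9) (kc xc17 yc18 zc38) (kc xc19 yc32 zc49) (kc xc19 yc30 zc36) (kc xc24 yc30 zc38) (kc xc19 yc30 zc38) (kc xc19 yc39 zc6) (kc xc19 yc39 zc7) (kc xc31 yc45 zc44) (kc xc27 yc26 zc9) (kc xc20 yc20 zc33) (kc xc29 yc12 zc1) (kc xc22 yc43 zc4) (kc xc16 yc51 zc2) (kc xc31 yc31 zc45) (kc xc16 yc51 zc7) (kc xc16 yc51 zc11) (kc xc29 yc23 zc38) (kc xc31 yc48 zc49) (kc xc28 yc56 zc46) (kc xc26 yc25 zc7) (kc xc26 yc25 zc4) (kc xc16 yc55 zc35) (kc xc20 yc18 zc17) (kc xc26 yc50 zc53) (kc xc26 yc26 zc26) (kc xc20 yc5 zc55) (kc xc32 yc16 zc24) (kc xc29 yc14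 zc55) (kc xc16 yc51 zc30) (kc xc26 yc22 zc23) (kc xc19 yc52 zc56) (kc xc23 yc19 zc53) (kc xc19 yc47 zc50) (kc xc26 yc10 zc7) (kc xc25 yc52 zc17) (kc xc19 yc48 zc12) (kc xc16 yc51 zc47) (kc xc26 yc50 zc29) (kc xc16 yc51 zc48) (kc xc16 yc51 zc53) (kc xc28 yc7 zc41) (kc xc26 yc22 zc54)) (@D3.rec (fun _ => Pt) (kc xc29 yc6 zc0) (kc xc31 yc58 zc34) (kc xc30 yc33 zc58) (kc xc32 yc7 zc0) (kc xc20 yc16 zc36) (kc xc26 yc24 zc50) (kc xc26 yc29 zc1) (kc xc26 yc29 zc2) (kc xc22 yc53 zc5) (kc xc20 yc11 zc11) (kc xc16 yc52 zc5) (kc xc23 yc39 zc60) (kc xc17 yc30 zc2) (kc xc28 yc51 zc14) (kc xc16 yc52 zc12) (kc xc21 yc43 zc40) (kc xc23 yc19 zc43) (kc xc19 yc28 zc0) (kc xc32 yc6 zc58) (kc xc24 yc13 zc22) (kc xc24 yc57 zc51) (kc xc30 yc50 zc25) (kc xc31 yc24 zc59) (kc xc22 yc26 zc58)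 (kc xc22 yc14 zc2) (kc xc20 yc27 zc24) (kc xc22 yc36 zc6) (kc xc20 yc6 zc33) (kc xc20 yc6 zc52) (kc xc30 yc32 zc20) (kc xc30 yc33 zc61) (kc xc17 yc29 zc59) (kc xc16 yc52 zc35) (kc xc16 yc52 zc34) (kc xc29 yc21 zc8) (kc xc29 yc50 zc21) (kc xc16 yc52 zc44) (kc xc26 yc24 zc53) (kc xc20 yc30 zc19) (kc xc19 yc25 zc51) (kc xc16 yc52 zc46) (kc xc16 yc52 zc47) (kc xc22 yc51 zc31) (kc xc28 yc15 zc7) (kc xc26 yc56 zc7) (kc xc20 yc10 zc28) (kc xc26 yc18 zc36) (kc xc28 yc25 zc56) (kc xc28 yc26 zc61) (kc xc27 yc31 zc45) (kc xc26 yc15 zc30) (kc xc17 yc43 zc45) (kc xc23 yc6 zc21) (kc xc22 yc50 zc57) (kc xc17 yc55 zc5) (kc xc20 yc18 zc31) (kc xc26 yc52 zc2) (kc xc20 yc28 zc50) (kc xc30 yc44 zc5) (kc xc20 yc25 zc8) (kc xc16 yc53 zc27) (kc xc18 yc49 zc61)) (@D3.rec (fun _ => Pt) (kc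 xc21 yc33 zc22) (kc xc20 yc12 zc31) (kc xc17 yc56 zc16) (kc xc26 yc43 zc52) (kc xc30 yc30 zc33) (kc xc16 yc53 zc40) (kc xc16 yc53 zc38) (kc xc18 yc39 zc18) (kc xc16 yc53 zc43) (kc xc20 yc52 zc34) (kc xc16 yc53 zc56) (kc xc25 yc45 zc7) (kc xc16 yc53 zc58) (kc xc16 yc53 zc45) (kc xc20 yc0 zc44) (kc xc20 yc0 zc46) (kc xc21 yc26 zc54) (kc xc26 yc3 zc17) (kc xc24 yc36 zc25) (kc xc16 yc54 zc2) (kc xc22 yc40 zc47) (kc xc26 yc28 zc9) (kc xc16 yc54 zc5) (kc xc32 yc16 zc39) (kc xc17 yc23 zc45) (kc xc29 yc6 zc45) (kc xc24 yc53 zc43) (kc xc16 yc54 zc13) (kc xc29 yc55 zc56) (kc xc26 yc48 zc57) (kc xc16 yc56 zc27) (kc xc16 yc54 zc16) (kc xc26 yc19 zc43) (kc xc25 yc11 zc51) (kc xc21 yc37 zc47) (kc xc25 yc28 zc29) (kc xc16 yc54 zc24) (kc xc30 yc37 zc31) (kc xc26 yc35 zc29) (kc xc25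 yc29 zc28) (kc xc30 yc1 zc43) (kc xc31 yc45 zc27) (kc xc20 yc5 zc49) (kc xc32 yc15 zc35) (kc xc20 yc14 zc26) (kc xc31 yc33 zc2) (kc xc20 yc14 zc33) (kc xc16 yc54 zc38) (kc xc17 yc6 zc13) (kc xc26 yc51 zc42) (kc xc29 yc32 zc58) (kc xc24 yc52 zc57) (kc xc24 yc53 zc14) (kc xc26 yc48 zc43) (kc xc32 yc16 zc44) (kc xc25 yc23 zc30) (kc xc31 yc30 zc43) (kc xc22 yc10 zc2) (kc xc26 yc52 zc33) (kc xc26 yc35 zc20) (kc xc16 yc54 zc54) (kc xc26 yc39 zc19)) (@D3.rec (fun _ => Pt) (kc xc17 yc3 zc37) (kc xc25 yc33 zc19) (kc xc27 yc40 zc48) (kc xc28 yc57 zc34) (kc xc16 yc54 zc58) (kc xc31 yc57 zc9) (kc xc20 yc15 zc16) (kc xc30 yc49 zc20) (kc xc16 yc55 zc0) (kc xc27 yc0 zc45) (kc xc29 yc22 zc40) (kc xc29 yc22 zc39) (kc xc16 yc55 zc3) (kc xc26 yc41 zc0) (kc xc16 yc55 zc8) (kc xc28 yc53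 zc33) (kc xc29 yc6 zc32) (kc xc16 yc55 zc11) (kc xc25 yc29 zc30) (kc xc20 yc1 zc10) (kc xc18 yc41 zc58) (kc xc16 yc55 zc14) (kc xc32 yc15 zc22) (kc xc26 yc3 zc15) (kc xc16 yc55 zc16) (kc xc24 yc11 zc34) (kc xc19 yc21 zc59) (kc xc20 yc28 zc0) (kc xc17 yc18 zc9) (kc xc30 yc28 zc21) (kc xc16 yc56 zc39) (kc xc16 yc55 zc19) (kc xc16 yc55 zc20) (kc xc23 yc12 zc51) (kc xc21 yc15 zc27) (kc xc22 yc25 zc49) (kc xc16 yc57 zc14) (kc xc22 yc25 zc44) (kc xc23 yc46 zc10) (kc xc30 yc28 zc36) (kc xc16 yc55 zc24) (kc xc32 yc16 zc53) (kc xc26 yc50 zc49) (kc xc17 yc6 zc11) (kc xc16 yc55 zc30) (kc xc28 yc39 zc8) (kc xc16 yc55 zc31) (kc xc17 yc6 zc8) (kc xc28 yc39 zc54) (kc xc17 yc6 zc37) (kc xc17 yc6 zc49) (kc xc28 yc30 zc4) (kc xc29 yc45 zc2) (kc xc30 yc30 zc34) (kc xc22 yc46 zc44) (kc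 xc32 yc16 zc55) (kc xc31 yc14 zc21) (kc xc26 yc2 zc26) (kc xc32 yc16 zc57) (kc xc32 yc16 zc58) (kc xc32 yc16 zc59) (kc xc16 yc55 zc37)) (@D3.rec (fun _ => Pt) (kc xc16 yc55 zc42) (kc xc18 yc21 zc22) (kc xc26 yc49 zc56) (kc xc31 yc30 zc44) (kc xc21 yc38 zc3) (kc xc30 yc9 zc38) (kc xc27 yc11 zc53) (kc xc29 yc25 zc57) (kc xc32 yc10 zc46) (kc xc31 yc31 zc38) (kc xc16 yc55 zc45) (kc xc26 yc54 zc3) (kc xc26 yc26 zc47) (kc xc24 yc53 zc17) (kc xc22 yc14 zc15) (kc xc16 yc55 zc52) (kc xc16 yc55 zc51) (kc xc32 yc17 zc1) (kc xc16 yc55 zc55) (kc xc19 yc25 zc48) (kc xc21 yc57 zc48) (kc xc22 yc25 zc38) (kc xc21 yc11 zc25) (kc xc20 yc28 zc54) (kc xc18 yc1 zc47) (kc xc18 yc1 zc46) (kc xc29 yc32 zc14) (kc xc22 yc25 zc26) (kc xc17 yc0 zc39) (kc xc17 yc0 zc38) (kc xc17 yc1 zc7) (kc xc27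 yc39 zc60) (kc xc26 yc3 zc16) (kc xc26 yc50 zc58) (kc xc29 yc14 zc48) (kc xc26 yc22 zc32) (kc xc20 yc35 zc57) (kc xc28 yc28 zc54) (kc xc16 yc56 zc10) (kc xc32 yc17 zc14) (kc xc32 yc17 zc15) (kc xc31 yc41 zc36) (kc xc27 yc53 zc21) (kc xc27 yc40 zc28) (kc xc25 yc19 zc53) (kc xc26 yc40 zc6) (kc xc16 yc56 zc16) (kc xc17 yc59 zc16) (kc xc16 yc56 zc19) (kc xc16 yc56 zc18) (kc xc32 yc17 zc17) (kc xc29 yc30 zc28) (kc xc27 yc41 zc20) (kc xc26 yc44 zc8) (kc xc16 yc56 zc34) (kc xc28 yc52 zc14) (kc xc32 yc2 zc61) (kc xc16 yc56 zc36) (kc xc16 yc56 zc38) (kc xc16 yc56 zc43) (kc xc18 yc43 zc26) (kc xc16 yc56 zc53)) (@D3.rec (fun _ => Pt) (kc xc31 yc24 zc10) (kc xc16 yc56 zc47) (kc xc29 yc24 zc33) (kc xc27 yc5 zc43) (kc xc20 yc19 zc43) (kc xc26 yc27 zc28) (kc xc16 yc56 zc56) (kc xc19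 yc52 zc35) (kc xc16 yc57 zc0) (kc xc22 yc57 zc42) (kc xc26 yc25 zc61) (kc xc16 yc57 zc4) (kc xc16 yc57 zc12) (kc xc28 yc50 zc8) (kc xc16 yc57 zc8) (kc xc28 yc11 zc42) (kc xc18 yc47 zc40) (kc xc17 yc20 zc54) (kc xc17 yc30 zc13) (kc xc17 yc1 zc25) (kc xc16 yc57 zc54) (kc xc31 yc13 zc37) (kc xc30 yc9 zc25) (kc xc31 yc52 zc61) (kc xc20 yc51 zc50) (kc xc18 yc1 zc59) (kc xc20 yc26 zc39) (kc xc20 yc26 zc32) (kc xc22 yc25 zc47) (kc xc28 yc37 zc50) (kc xc16 yc58 zc0) (kc xc32 yc17 zc24) (kc xc17 yc1 zc33) (kc xc20 yc41 zc39) (kc xc17 yc9 zc3) (kc xc32 yc17 zc25) (kc xc16 yc58 zc5) (kc xc17 yc1 zc52) (kc xc20 yc52 zc51) (kc xc17 yc49 zc54) (kc xc17 yc48 zc7) (kc xc25 yc21 zc26) (kc xc26 yc54 zc29) (kc xc27 yc56 zc0) (kc xc16 yc58 zc13) (kc xc31 yc21 zc32) (kc xc16 yc58 zc15)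 (kc xc23 yc48 zc4) (kc xc28 yc45 zc3) (kc xc16 yc58 zc18) (kc xc22 yc7 zc46) (kc xc22 yc7 zc47) (kc xc17 yc17 zc39) (kc xc32 yc17 zc26) (kc xc16 yc58 zc20) (kc xc32 yc17 zc35) (kc xc20 yc38 zc16) (kc xc32 yc17 zc36) (kc xc32 yc17 zc37) (kc xc16 yc58 zc22) (kc xc32 yc17 zc39) (kc xc26 yc56 zc37)) (@D3.rec (fun _ => Pt) (kc xc17 yc32 zc24) (kc xc19 yc50 zc12) (kc xc29 yc8 zc30) (kc xc26 yc52 zc11) (kc xc22 yc39 zc30) (kc xc26 yc58 zc21) (kc xc16 yc58 zc28) (kc xc28 yc0 zc44) (kc xc18 yc10 zc27) (kc xc16 yc58 zc31) (kc xc31 yc28 zc39) (kc xc32 yc17 zc34) (kc xc16 yc58 zc34) (kc xc24 yc1 zc28) (kc xc31 yc18 zc6) (kc xc20 yc42 zc0) (kc xc28 yc37 zc48) (kc xc28 yc31 zc10) (kc xc32 yc17 zc32) (kc xc16 yc58 zc39) (kc xc26 yc56 zc47) (kc xc32 yc17 zc23) (kc xc16 yc58 zc41) (kc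 xc20 yc29 zc51) (kc xc30 yc27 zc13) (kc xc29 yc42 zc54) (kc xc26 yc54 zc41) (kc xc32 yc17 zc50) (kc xc20 yc58 zc42) (kc xc26 yc53 zc42) (kc xc20 yc55 zc45) (kc xc24 yc37 zc48) (kc xc30 yc27 zc10) (kc xc24 yc49 zc52) (kc xc29 yc27 zc27) (kc xc17 yc22 zc50) (kc xc23 yc59 zc47) (kc xc31 yc39 zc58) (kc xc29 yc55 zc45) (kc xc29 yc43 zc32) (kc xc31 yc34 zc24) (kc xc26 yc54 zc26) (kc xc31 yc51 zc60) (kc xc25 yc21 zc13) (kc xc31 yc52 zc31) (kc xc31 yc52 zc29) (kc xc29 yc43 zc33) (kc xc20 yc42 zc17) (kc xc17 yc5 zc50) (kc xc16 yc59 zc1) (kc xc26 yc58 zc33) (kc xc16 yc59 zc2) (kc xc22 yc44 zc59) (kc xc20 yc43 zc35) (kc xc16 yc59 zc10) (kc xc20 yc43 zc43) (kc xc16 yc59 zc13) (kc xc24 yc37 zc42) (kc xc16 yc59 zc15) (kc xc28 yc34 zc10) (kc xc20 yc26 zc30) (kc xc17 yc7 zc8)) (@D3.rec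 (fun _ => Pt) (kc xc20 yc28 zc51) (kc xc17 yc56 zc23) (kc xc29 yc41 zc13) (kc xc25 yc12 zc3) (kc xc16 yc59 zc22) (kc xc26 yc0 zc47) (kc xc20 yc22 zc50) (kc xc16 yc59 zc35) (kc xc16 yc59 zc46) (kc xc18 yc17 zc10) (kc xc30 yc8 zc30) (kc xc30 yc43 zc5) (kc xc25 yc53 zc6) (kc xc22 yc17 zc48) (kc xc23 yc38 zc9) (kc xc21 yc20 zc12) (kc xc17 yc48 zc23) (kc xc18 yc17 zc4) (kc xc18 yc45 zc46) (kc xc23 yc28 zc61) (kc xc30 yc1 zc59) (kc xc24 yc52 zc52) (kc xc21 yc35 zc55) (kc xc29 yc55 zc57) (kc xc17 yc0 zc16) (kc xc18 yc50 zc47) (kc xc20 yc31 zc30) (kc xc21 yc9 zc7) (kc xc17 yc0 zc24) (kc xc29 yc28 zc61) (kc xc29 yc29 zc29) (kc xc30 yc44 zc10) (kc xc26 yc55 zc36) (kc xc29 yc29 zc6) (kc xc17 yc0 zc27) (kc xc20 yc7 zc31) (kc xc26 yc55 zc32) (kc xc19 yc24 zc0) (kc xc17 yc0 zc41)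 (kc xc29 yc2 zc57) (kc xc20 yc18 zc56) (kc xc32 yc15 zc24) (kc xc26 yc56 zc3) (kc xc22 yc52 zc40) (kc xc17 yc2 zc5) (kc xc17 yc0 zc44) (kc xc17 yc28 zc27) (kc xc21 yc11 zc20) (kc xc17 yc0 zc48) (kc xc32 yc18 zc10) (kc xc20 yc1 zc47) (kc xc31 yc42 zc4) (kc xc29 yc55 zc43) (kc xc22 yc19 zc11) (kc xc31 yc34 zc58) (kc xc31 yc20 zc59) (kc xc17 yc6 zc53) (kc xc21 yc10 zc27) (kc xc17 yc0 zc53) (kc xc17 yc1 zc20) (kc xc17 yc0 zc55) (kc xc32 yc18 zc15)) (@D3.rec (fun _ => Pt) (kc xc30 yc46 zc34) (kc xc23 yc4 zc6) (kc xc26 yc25 zc51) (kc xc26 yc55 zc42) (kc xc17 yc0 zc59) (kc xc26 yc58 zc8) (kc xc25 yc57 zc38) (kc xc26 yc49 zc44) (kc xc32 yc16 zc46) (kc xc32 yc8 zc21) (kc xc26 yc15 zc38) (kc xc24 yc22 zc16) (kc xc29 yc20 zc16) (kc xc27 yc9 zc40) (kc xc17 yc1 zc6) (kc xc20 yc33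 zc15) (kc xc26 yc22 zc24) (kc xc21 yc15 zc10) (kc xc26 yc26 zc19) (kc xc17 yc2 zc2) (kc xc17 yc2 zc1) (kc xc17 yc1 zc12) (kc xc32 yc18 zc16) (kc xc28 yc17 zc9) (kc xc29 yc31 zc14) (kc xc22 yc47 zc3) (kc xc30 yc24 zc37) (kc xc26 yc30 zc47) (kc xc17 yc1 zc59) (kc xc17 yc1 zc57) (kc xc24 yc5 zc37) (kc xc17 yc1 zc53) (kc xc32 yc18 zc25) (kc xc17 yc1 zc49) (kc xc17 yc1 zc45) (kc xc30 yc53 zc52) (kc xc31 yc28 zc7) (kc xc26 yc53 zc61) (kc xc21 yc31 zc42) (kc xc20 yc31 zc10) (kc xc24 yc28 zc43) (kc xc17 yc1 zc41) (kc xc26 yc28 zc43) (kc xc28 yc35 zc23) (kc xc17 yc6 zc60) (kc xc27 yc39 zc21) (kc xc17 yc1 zc43) (kc xc26 yc54 zc20) (kc xc31 yc41 zc11) (kc xc29 yc27 zc15) (kc xc28 yc40 zc26) (kc xc32 yc8 zc56) (kc xc25 yc56 zc29) (kc xc17 yc1 zc47) (kc xc28 yc35 zc29) (kc xc31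 yc19 zc38) (kc xc24 yc4 zc48) (kc xc25 yc22 zc40) (kc xc24 yc49 zc44) (kc xc24 yc49 zc43) (kc xc26 yc35 zc49) (kc xc29 yc0 zc56)) (@D3.rec (fun _ => Pt) (kc xc24 yc25 zc7) (kc xc29 yc40 zc13) (kc xc32 yc18 zc24) (kc xc20 yc28 zc16) (kc xc28 yc39 zc37) (kc xc31 yc17 zc54) (kc xc22 yc19 zc10) (kc xc31 yc36 zc5) (kc xc20 yc43 zc45) (kc xc32 yc18 zc35) (kc xc20 yc3 zc53) (kc xc30 yc28 zc43) (kc xc17 yc28 zc45) (kc xc19 yc10 zc41) (kc xc19 yc10 zc42) (kc xc20 yc25 zc31) (kc xc30 yc8 zc16) (kc xc31 yc42 zc5) (kc xc31 yc23 zc42) (kc xc24 yc8 zc34) (kc xc20 yc38 zc46) (kc xc17 yc2 zc4) (kc xc23 yc45 zc49) (kc xc23 yc45 zc48) (kc xc27 yc5 zc9) (kc xc20 yc54 zc17) (kc xc17 yc2 zc9) (kc xc29 yc25 zc40) (kc xc28 yc13 zc59) (kc xc25 yc32 zc17) (kc xc20 yc40 zc12) (kc xc32 yc18 zc40)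 (kc xc30 yc29 zc23) (kc xc32 yc18 zc43) (kc xc32 yc18 zc44) (kc xc26 yc45 zc47) (kc xc17 yc2 zc30) (kc xc20 yc35 zc42) (kc xc31 yc34 zc1) (kc xc17 yc2 zc37) (kc xc17 yc2 zc59) (kc xc29 yc6 zc6) (kc xc21 yc3 zc19) (kc xc26 yc26 zc54) (kc xc18 yc20 zc2) (kc xc18 yc20 zc4) (kc xc20 yc32 zc44) (kc xc20 yc32 zc42) (kc xc17 yc3 zc27) (kc xc30 yc18 zc46) (kc xc18 yc57 zc49) (kc xc20 yc40 zc37) (kc xc22 yc11 zc4) (kc xc21 yc57 zc31) (kc xc17 yc3 zc6) (kc xc29 yc47 zc32) (kc xc31 yc5 zc54) (kc xc18 yc56 zc19) (kc xc28 yc13 zc57) (kc xc18 yc25 zc55) (kc xc25 yc18 zc51) (kc xc18 yc48 zc31)) (@D3.rec (fun _ => Pt) (kc xc29 yc26 zc19) (kc xc28 yc28 zc22) (kc xc17 yc3 zc43) (kc xc31 yc59 zc44) (kc xc28 yc52 zc49) (kc xc31 yc50 zc33) (kc xc30 yc38 zc52) (kc xc28 yc51 zc39) (kc xc26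 yc56 zc5) (kc xc18 yc2 zc12) (kc xc20 yc20 zc10) (kc xc17 yc3 zc45) (kc xc28 yc36 zc29) (kc xc28 yc58 zc60) (kc xc32 yc16 zc29) (kc xc17 yc3 zc47) (kc xc28 yc47 zc17) (kc xc28 yc31 zc8) (kc xc17 yc4 zc9) (kc xc17 yc3 zc55) (kc xc17 yc22 zc14) (kc xc26 yc54 zc5) (kc xc17 yc3 zc57) (kc xc30 yc38 zc49) (kc xc20 yc43 zc15) (kc xc21 yc33 zc23) (kc xc17 yc56 zc0) (kc xc20 yc38 zc39) (kc xc17 yc4 zc2) (kc xc17 yc4 zc5) (kc xc20 yc39 zc21) (kc xc22 yc21 zc7) (kc xc29 yc27 zc14) (kc xc26 yc54 zc50) (kc xc30 yc19 zc24) (kc xc19 yc42 zc45) (kc xc24 yc48 zc58) (kc xc17 yc4 zc16) (kc xc31 yc52 zc51) (kc xc20 yc58 zc41) (kc xc32 yc10 zc32) (kc xc18 yc1 zc24) (kc xc29 yc44 zc58) (kc xc17 yc4 zc22) (kc xc26 yc34 zc53) (kc xc20 yc52 zc7) (kc xc28 yc40 zc44) (kc xc26 yc40 zc60) (kc xc17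 yc4 zc31) (kc xc32 yc13 zc39) (kc xc17 yc4 zc36) (kc xc32 yc13 zc40) (kc xc32 yc18 zc26) (kc xc20 yc58 zc15) (kc xc25 yc31 zc49) (kc xc17 yc4 zc49) (kc xc32 yc18 zc49) (kc xc17 yc4 zc51) (kc xc17 yc4 zc54) (kc xc30 yc1 zc42) (kc xc30 yc4 zc7) (kc xc19 yc36 zc36)) (@D3.rec (fun _ => Pt) (kc xc20 yc56 zc44) (kc xc30 yc11 zc30) (kc xc30 yc11 zc29) (kc xc22 yc3 zc33) (kc xc20 yc22 zc2) (kc xc20 yc51 zc15) (kc xc19 yc38 zc33) (kc xc20 yc33 zc35) (kc xc29 yc0 zc7) (kc xc30 yc4 zc61) (kc xc20 yc3 zc47) (kc xc25 yc25 zc19) (kc xc26 yc44 zc43) (kc xc17 yc5 zc32) (kc xc17 yc9 zc35) (kc xc25 yc51 zc3) (kc xc20 yc24 zc12) (kc xc30 yc4 zc10) (kc xc29 yc13 zc9) (kc xc20 yc33 zc5) (kc xc30 yc55 zc53) (kc xc17 yc5 zc55) (kc xc26 yc39 zc37) (kc xc17 yc5 zc56) (kc xc21 yc20 zc58) (kc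 xc29 yc2 zc45) (kc xc17 yc5 zc58) (kc xc29 yc49 zc0) (kc xc28 yc51 zc61) (kc xc17 yc24 zc55) (kc xc31 yc51 zc10) (kc xc17 yc6 zc1) (kc xc17 yc6 zc2) (kc xc20 yc53 zc57) (kc xc30 yc55 zc52) (kc xc17 yc6 zc4) (kc xc26 yc35 zc61) (kc xc18 yc24 zc58) (kc xc31 yc51 zc6) (kc xc28 yc39 zc46) (kc xc32 yc11 zc21) (kc xc30 yc12 zc29) (kc xc29 yc37 zc12) (kc xc17 yc6 zc25) (kc xc17 yc6 zc26) (kc xc17 yc6 zc28) (kc xc26 yc38 zc58) (kc xc17 yc6 zc32) (kc xc17 yc8 zc21) (kc xc26 yc38 zc59) (kc xc26 yc39 zc52) (kc xc27 yc43 zc36) (kc xc26 yc39 zc51) (kc xc30 yc9 zc29) (kc xc23 yc11 zc18) (kc xc17 yc6 zc44) (kc xc19 yc31 zc32) (kc xc31 yc55 zc22) (kc xc19 yc22 zc28) (kc xc27 yc12 zc53) (kc xc32 yc13 zc46) (kc xc31 yc25 zc18))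
def f_c_27 : D2 → D3 → Pt := @D2.rec (fun _ => D3 → Pt) (@D3.rec (fun _ => Pt) (kc xc32 yc18 zc53) (kc xc32 yc18 zc54) (kc xc27 yc23 zc49) (kc xc22 yc26 zc5) (kc xc17 yc27 zc18) (kc xc20 yc37 zc24) (kc xc21 yc57 zc59) (kc xc21 yc57 zc26) (kc xc17 yc6 zc57) (kc xc17 yc6 zc56) (kc xc20 yc36 zc55) (kc xc32 yc18 zc56) (kc xc32 yc18 zc57) (kc xc28 yc24 zc18) (kc xc29 yc9 zc23) (kc xc29 yc37 zc56) (kc xc27 yc43 zc53) (kc xc27 yc43 zc54) (kc xc32 yc14 zc19) (kc xc17 yc7 zc3) (kc xc17 yc7 zc1) (kc xc17 yc7 zc2) (kc xc22 yc56 zc23) (kc xc23 yc12 zc58) (kc xc32 yc19 zc4) (kc xc24 yc14 zc38) (kc xc30 yc42 zc54) (kc xc32 yc19 zc9) (kc xc25 yc36 zc35) (kc xc25 yc4 zc51) (kc xc30 yc15 zc21) (kc xc32 yc18 zc23) (kc xc29 yc42 zc14) (kc xc32 yc8 zc57) (kc xc31 yc30 zc28) (kc xc17 yc7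 zc12) (kc xc30 yc28 zc1) (kc xc32 yc18 zc29) (kc xc31 yc58 zc54) (kc xc32 yc9 zc12) (kc xc32 yc19 zc15) (kc xc24 yc1 zc3) (kc xc30 yc17 zc34) (kc xc30 yc29 zc22) (kc xc17 yc7 zc26) (kc xc26 yc51 zc9) (kc xc17 yc7 zc29) (kc xc17 yc7 zc32) (kc xc19 yc18 zc5) (kc xc25 yc53 zc10) (kc xc20 yc28 zc30) (kc xc17 yc7 zc42) (kc xc23 yc58 zc39) (kc xc17 yc8 zc3) (kc xc20 yc52 zc22) (kc xc26 yc22 zc59) (kc xc17 yc8 zc11) (kc xc21 yc30 zc15) (kc xc28 yc59 zc61) (kc xc17 yc8 zc14) (kc xc18 yc14 zc5) (kc xc29 yc24 zc38)) (@D3.rec (fun _ => Pt) (kc xc29 yc24 zc39) (kc xc26 yc26 zc48) (kc xc21 yc57 zc36) (kc xc17 yc8 zc40) (kc xc19 yc27 zc57) (kc xc18 yc11 zc46) (kc xc31 yc14 zc24) (kc xc17 yc8 zc56) (kc xc19 yc59 zc22) (kc xc28 yc55 zc5) (kc xc25 yc36 zc36) (kc xc22 yc24 zc51) (kc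 xc29 yc44 zc45) (kc xc31 yc52 zc54) (kc xc31 yc7 zc6) (kc xc23 yc25 zc11) (kc xc31 yc6 zc5) (kc xc30 yc33 zc21) (kc xc17 yc9 zc17) (kc xc23 yc15 zc49) (kc xc17 yc9 zc19) (kc xc21 yc6 zc21) (kc xc30 yc2 zc3) (kc xc17 yc9 zc22) (kc xc17 yc9 zc23) (kc xc17 yc9 zc28) (kc xc18 yc18 zc19) (kc xc17 yc9 zc30) (kc xc25 yc42 zc13) (kc xc17 yc9 zc50) (kc xc17 yc14 zc4) (kc xc18 yc50 zc33) (kc xc17 yc51 zc31) (kc xc17 yc10 zc7) (kc xc21 yc21 zc11) (kc xc32 yc19 zc21) (kc xc22 yc8 zc21) (kc xc27 yc1 zc55) (kc xc21 yc19 zc14) (kc xc17 yc10 zc15) (kc xc21 yc24 zc31) (kc xc25 yc32 zc46) (kc xc17 yc10 zc16) (kc xc27 yc56 zc11) (kc xc30 yc12 zc61) (kc xc21 yc6 zc1) (kc xc23 yc27 zc60) (kc xc17 yc10 zc18) (kc xc32 yc19 zc23) (kc xc29 yc11 zc48) (kc xc28 yc13 zc20) (kc xc21 yc56 zc54)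 (kc xc30 yc33 zc12) (kc xc30 yc10 zc57) (kc xc32 yc9 zc32) (kc xc27 yc1 zc37) (kc xc32 yc19 zc24) (kc xc31 yc16 zc14) (kc xc32 yc1 zc30) (kc xc17 yc10 zc33) (kc xc31 yc16 zc13) (kc xc25 yc43 zc19)) (@D3.rec (fun _ => Pt) (kc xc21 yc35 zc52) (kc xc21 yc35 zc53) (kc xc24 yc8 zc3) (kc xc21 yc3 zc11) (kc xc19 yc53 zc19) (kc xc18 yc31 zc22) (kc xc17 yc26 zc17) (kc xc30 yc20 zc3) (kc xc20 yc9 zc26) (kc xc19 yc48 zc52) (kc xc27 yc13 zc40) (kc xc27 yc13 zc41) (kc xc17 yc10 zc50) (kc xc31 yc13 zc11) (kc xc30 yc19 zc12) (kc xc30 yc38 zc45) (kc xc32 yc19 zc31) (kc xc30 yc19 zc11) (kc xc29 yc43 zc34) (kc xc17 yc11 zc0) (kc xc31 yc35 zc24) (kc xc32 yc19 zc33) (kc xc32 yc19 zc25) (kc xc32 yc19 zc26) (kc xc17 yc11 zc7) (kc xc23 yc48 zc59) (kc xc31 yc20 zc3) (kc xc26 yc43 zc10) (kc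 xc31 yc31 zc4) (kc xc17 yc11 zc12) (kc xc17 yc11 zc14) (kc xc17 yc11 zc21) (kc xc31 yc43 zc12) (kc xc26 yc13 zc22) (kc xc28 yc28 zc30) (kc xc20 yc40 zc54) (kc xc17 yc11 zc24) (kc xc26 yc44 zc44) (kc xc24 yc26 zc48) (kc xc17 yc11 zc30) (kc xc26 yc33 zc58) (kc xc19 yc36 zc52) (kc xc17 yc11 zc32) (kc xc19 yc28 zc8) (kc xc28 yc23 zc59) (kc xc18 yc32 zc26) (kc xc20 yc53 zc20) (kc xc18 yc34 zc52) (kc xc18 yc34 zc48) (kc xc27 yc52 zc52) (kc xc28 yc55 zc54) (kc xc28 yc55 zc61) (kc xc32 yc19 zc38) (kc xc21 yc36 zc7) (kc xc27 yc51 zc44) (kc xc17 yc11 zc46) (kc xc24 yc8 zc43) (kc xc25 yc8 zc9) (kc xc17 yc11 zc49) (kc xc28 yc8 zc29) (kc xc28 yc8 zc7) (kc xc17 yc11 zc56)) (@D3.rec (fun _ => Pt) (kc xc32 yc19 zc41) (kc xc30 yc26 zc48) (kc xc23 yc0 zc28) (kc xc29 yc53 zc19) (kc xc30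 yc43 zc14) (kc xc22 yc52 zc22) (kc xc25 yc34 zc25) (kc xc31 yc53 zc35) (kc xc25 yc5 zc48) (kc xc32 yc19 zc45) (kc xc17 yc53 zc53) (kc xc17 yc12 zc2) (kc xc22 yc3 zc12) (kc xc19 yc34 zc11) (kc xc21 yc26 zc12) (kc xc29 yc4 zc42) (kc xc30 yc47 zc0) (kc xc17 yc12 zc17) (kc xc26 yc31 zc55) (kc xc27 yc43 zc30) (kc xc29 yc18 zc14) (kc xc26 yc17 zc15) (kc xc18 yc41 zc0) (kc xc30 yc13 zc27) (kc xc19 yc46 zc58) (kc xc22 yc7 zc54) (kc xc29 yc31 zc39) (kc xc28 yc5 zc45) (kc xc21 yc42 zc23) (kc xc17 yc58 zc18) (kc xc18 yc19 zc4) (kc xc28 yc0 zc29) (kc xc29 yc22 zc32) (kc xc28 yc28 zc14) (kc xc30 yc2 zc34) (kc xc17 yc12 zc50) (kc xc27 yc5 zc4) (kc xc27 yc57 zc56) (kc xc28 yc55 zc58) (kc xc22 yc17 zc42) (kc xc30 yc19 zc60) (kc xc21 yc33 zc49) (kc xc22 yc21 zc9) (kc xc17 yc19 zc52)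 (kc xc21 yc5 zc7) (kc xc17 yc13 zc21) (kc xc30 yc14 zc22) (kc xc21 yc31 zc21) (kc xc28 yc36 zc11) (kc xc21 yc6 zc7) (kc xc17 yc13 zc30) (kc xc25 yc56 zc51) (kc xc21 yc16 zc21) (kc xc17 yc29 zc14) (kc xc26 yc33 zc27) (kc xc26 yc11 zc38) (kc xc17 yc13 zc36) (kc xc19 yc16 zc37) (kc xc29 yc27 zc46) (kc xc17 yc13 zc46) (kc xc25 yc33 zc4) (kc xc17 yc16 zc32)) (@D3.rec (fun _ => Pt) (kc xc25 yc31 zc36) (kc xc17 yc13 zc44) (kc xc27 yc21 zc18) (kc xc30 yc15 zc7) (kc xc21 yc58 zc54) (kc xc26 yc5 zc56) (kc xc21 yc58 zc61) (kc xc17 yc13 zc55) (kc xc32 yc0 zc44) (kc xc17 yc13 zc53) (kc xc28 yc1 zc11) (kc xc17 yc13 zc54) (kc xc27 yc19 zc59) (kc xc17 yc13 zc58) (kc xc17 yc13 zc60) (kc xc27 yc19 zc60) (kc xc17 yc29 zc13) (kc xc27 yc17 zc23) (kc xc20 yc14 zc29) (kc xc21 yc59 zc22) (kc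 xc31 yc56 zc24) (kc xc30 yc17 zc27) (kc xc17 yc14 zc5) (kc xc22 yc28 zc15) (kc xc22 yc28 zc14) (kc xc32 yc19 zc47) (kc xc31 yc34 zc17) (kc xc21 yc25 zc4) (kc xc21 yc25 zc5) (kc xc32 yc19 zc50) (kc xc21 yc5 zc19) (kc xc30 yc51 zc49) (kc xc17 yc14 zc27) (kc xc17 yc14 zc17) (kc xc27 yc40 zc58) (kc xc28 yc1 zc41) (kc xc30 yc52 zc33) (kc xc30 yc14 zc3) (kc xc30 yc52 zc41) (kc xc30 yc0 zc24) (kc xc23 yc13 zc61) (kc xc17 yc14 zc20) (kc xc29 yc50 zc49) (kc xc32 yc19 zc54) (kc xc30 yc58 zc13) (kc xc18 yc47 zc11) (kc xc27 yc50 zc21) (kc xc17 yc14 zc38) (kc xc22 yc28 zc3) (kc xc17 yc14 zc37) (kc xc17 yc58 zc42) (kc xc31 yc1 zc54) (kc xc29 yc51 zc33) (kc xc21 yc27 zc45) (kc xc30 yc19 zc28) (kc xc23 yc35 zc48) (kc xc17 yc14 zc56) (kc xc17 yc14 zc46) (kc xc23 yc27 zc7) (kc xc21 yc30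 zc30) (kc xc20 yc59 zc42) (kc xc29 yc3 zc39)) (@D3.rec (fun _ => Pt) (kc xc32 yc19 zc55) (kc xc25 yc30 zc17) (kc xc21 yc28 zc5) (kc xc17 yc14 zc51) (kc xc27 yc3 zc36) (kc xc20 yc30 zc3) (kc xc21 yc52 zc24) (kc xc17 yc15 zc2) (kc xc17 yc15 zc0) (kc xc26 yc57 zc24) (kc xc20 yc7 zc52) (kc xc27 yc10 zc33) (kc xc20 yc33 zc51) (kc xc29 yc31 zc51) (kc xc24 yc56 zc59) (kc xc21 yc52 zc30) (kc xc21 yc32 zc46) (kc xc17 yc15 zc13) (kc xc29 yc24 zc35) (kc xc31 yc42 zc28) (kc xc22 yc32 zc33) (kc xc31 yc12 zc0) (kc xc24 yc22 zc43) (kc xc24 yc36 zc45) (kc xc28 yc42 zc52) (kc xc32 yc19 zc57) (kc xc32 yc19 zc58) (kc xc24 yc54 zc17) (kc xc24 yc53 zc51) (kc xc17 yc15 zc28) (kc xc19 yc37 zc58) (kc xc29 yc52 zc20) (kc xc30 yc55 zc39) (kc xc26 yc26 zc27) (kc xc17 yc15 zc35) (kc xc29 yc30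 zc6) (kc xc18 yc51 zc47) (kc xc29 yc39 zc19) (kc xc25 yc25 zc32) (kc xc17 yc15 zc40) (kc xc28 yc43 zc32) (kc xc22 yc36 zc46) (kc xc22 yc38 zc9) (kc xc26 yc53 zc3) (kc xc29 yc26 zc61) (kc xc29 yc51 zc49) (kc xc22 yc2 zc31) (kc xc17 yc16 zc9) (kc xc29 yc23 zc35) (kc xc25 yc7 zc47) (kc xc17 yc16 zc7) (kc xc17 yc16 zc8) (kc xc17 yc16 zc11) (kc xc17 yc16 zc14) (kc xc30 yc8 zc10) (kc xc17 yc16 zc17) (kc xc26 yc27 zc4) (kc xc28 yc41 zc19) (kc xc31 yc48 zc4) (kc xc17 yc16 zc20) (kc xc17 yc16 zc21) (kc xc17 yc16 zc22)) (@D3.rec (fun _ => Pt) (kc xc25 yc31 zc12) (kc xc25 yc31 zc11) (kc xc24 yc49 zc21) (kc xc22 yc31 zc16) (kc xc21 yc6 zc34) (kc xc31 yc1 zc48) (kc xc17 yc16 zc31) (kc xc28 yc7 zc11) (kc xc18 yc34 zc43) (kc xc18 yc34 zc42) (kc xc18 yc23 zc17) (kc xc19 yc21 zc4) (kc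 xc18 yc7 zc40) (kc xc30 yc1 zc13) (kc xc24 yc45 zc10) (kc xc24 yc45 zc9) (kc xc21 yc33 zc47) (kc xc17 yc59 zc5) (kc xc18 yc51 zc23) (kc xc27 yc13 zc22) (kc xc21 yc39 zc51) (kc xc32 yc20 zc2) (kc xc21 yc39 zc49) (kc xc25 yc53 zc27) (kc xc17 yc16 zc60) (kc xc17 yc26 zc12) (kc xc32 yc20 zc6) (kc xc32 yc20 zc8) (kc xc27 yc59 zc59) (kc xc31 yc24 zc9) (kc xc17 yc17 zc4) (kc xc17 yc17 zc29) (kc xc23 yc55 zc21) (kc xc26 yc37 zc30) (kc xc30 yc17 zc37) (kc xc20 yc34 zc18) (kc xc26 yc37 zc13) (kc xc32 yc20 zc11) (kc xc21 yc46 zc47) (kc xc21 yc46 zc48) (kc xc17 yc29 zc31) (kc xc18 yc57 zc19) (kc xc17 yc17 zc20) (kc xc27 yc7 zc9) (kc xc17 yc17 zc22) (kc xc32 yc20 zc14) (kc xc17 yc17 zc23) (kc xc32 yc20 zc16) (kc xc22 yc13 zc48) (kc xc28 yc16 zc30) (kc xc17 yc24 zc31) (kc xc17 yc17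 zc25) (kc xc22 yc12 zc32) (kc xc32 yc20 zc22) (kc xc32 yc20 zc23) (kc xc17 yc18 zc61) (kc xc28 yc16 zc31) (kc xc17 yc17 zc31) (kc xc32 yc20 zc24) (kc xc17 yc17 zc32) (kc xc28 yc16 zc46) (kc xc22 yc41 zc32)) (@D3.rec (fun _ => Pt) (kc xc17 yc17 zc34) (kc xc17 yc17 zc36) (kc xc32 yc20 zc25) (kc xc32 yc20 zc27) (kc xc30 yc19 zc13) (kc xc28 yc51 zc58) (kc xc21 yc58 zc52) (kc xc32 yc20 zc34) (kc xc22 yc7 zc30) (kc xc27 yc6 zc43) (kc xc30 yc39 zc25) (kc xc30 yc38 zc46) (kc xc27 yc59 zc1) (kc xc17 yc17 zc40) (kc xc22 yc13 zc37) (kc xc17 yc17 zc42) (kc xc27 yc8 zc60) (kc xc27 yc8 zc59) (kc xc32 yc20 zc42) (kc xc21 yc42 zc19) (kc xc31 yc52 zc41) (kc xc32 yc20 zc43) (kc xc17 yc17 zc44) (kc xc32 yc20 zc47) (kc xc26 yc46 zc45) (kc xc32 yc20 zc46) (kc xc17 yc17 zc47) (kc xc32 yc20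 zc54) (kc xc17 yc17 zc53) (kc xc32 yc20 zc55) (kc xc32 yc14 zc34) (kc xc32 yc20 zc56) (kc xc17 yc17 zc54) (kc xc30 yc15 zc49) (kc xc17 yc20 zc46) (kc xc32 yc20 zc59) (kc xc17 yc27 zc10) (kc xc21 yc21 zc43) (kc xc21 yc31 zc52) (kc xc21 yc40 zc52) (kc xc23 yc10 zc53) (kc xc29 yc33 zc19) (kc xc17 yc18 zc0) (kc xc32 yc10 zc41) (kc xc22 yc10 zc49) (kc xc17 yc18 zc1) (kc xc32 yc21 zc2) (kc xc29 yc52 zc1) (kc xc17 yc18 zc2) (kc xc30 yc52 zc28) (kc xc25 yc58 zc7) (kc xc32 yc21 zc6) (kc xc32 yc21 zc8) (kc xc32 yc5 zc14) (kc xc17 yc18 zc4) (kc xc28 yc40 zc60) (kc xc26 yc4 zc47) (kc xc21 yc17 zc44) (kc xc24 yc19 zc18) (kc xc28 yc17 zc56) (kc xc28 yc18 zc60) (kc xc22 yc29 zc58)) (@D3.rec (fun _ => Pt) (kc xc19 yc33 zc60) (kc xc28 yc43 zc25) (kc xc28 yc43 zc26) (kc xc17 yc18 zc16)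 (kc xc18 yc56 zc25) (kc xc21 yc16 zc39) (kc xc26 yc10 zc53) (kc xc29 yc0 zc49) (kc xc17 yc18 zc23) (kc xc22 yc36 zc54) (kc xc29 yc56 zc9) (kc xc17 yc26 zc28) (kc xc24 yc4 zc17) (kc xc29 yc37 zc48) (kc xc17 yc18 zc32) (kc xc32 yc21 zc13) (kc xc26 yc28 zc58) (kc xc32 yc21 zc14) (kc xc31 yc38 zc49) (kc xc17 yc18 zc34) (kc xc30 yc19 zc8) (kc xc22 yc25 zc54) (kc xc17 yc18 zc37) (kc xc29 yc7 zc31) (kc xc27 yc59 zc56) (kc xc17 yc18 zc40) (kc xc32 yc21 zc18) (kc xc31 yc13 zc10) (kc xc17 yc18 zc42) (kc xc19 yc52 zc27) (kc xc17 yc18 zc43) (kc xc32 yc21 zc21) (kc xc24 yc10 zc60) (kc xc24 yc10 zc59) (kc xc32 yc21 zc23) (kc xc29 yc39 zc39) (kc xc27 yc14 zc1) (kc xc27 yc14 zc2) (kc xc17 yc18 zc46) (kc xc32 yc21 zc24) (kc xc19 yc51 zc15) (kc xc17 yc18 zc50) (kc xc27 yc14 zc25) (kc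 xc27 yc15 zc8) (kc xc32 yc21 zc25) (kc xc32 yc21 zc26) (kc xc17 yc18 zc53) (kc xc32 yc20 zc26) (kc xc17 yc18 zc55) (kc xc29 yc5 zc35) (kc xc31 yc37 zc16) (kc xc17 yc18 zc57) (kc xc32 yc14 zc61) (kc xc17 yc18 zc58) (kc xc17 yc24 zc28) (kc xc17 yc24 zc29) (kc xc27 yc59 zc7) (kc xc22 yc40 zc5) (kc xc17 yc18 zc60) (kc xc27 yc7 zc17) (kc xc27 yc7 zc16) (kc xc30 yc5 zc8)) (@D3.rec (fun _ => Pt) (kc xc26 yc29 zc14) (kc xc20 yc20 zc13) (kc xc30 yc9 zc24) (kc xc26 yc40 zc38) (kc xc28 yc20 zc50) (kc xc32 yc21 zc30) (kc xc31 yc27 zc60) (kc xc18 yc8 zc46) (kc xc22 yc28 zc46) (kc xc21 yc43 zc24) (kc xc17 yc34 zc57) (kc xc18 yc53 zc19) (kc xc30 yc15 zc13) (kc xc17 yc19 zc36) (kc xc17 yc19 zc37) (kc xc30 yc45 zc17) (kc xc32 yc21 zc31) (kc xc30 yc45 zc19) (kc xc28 yc5 zc1) (kc xc17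 yc19 zc43) (kc xc26 yc40 zc37) (kc xc18 yc58 zc16) (kc xc28 yc5 zc4) (kc xc21 yc51 zc49) (kc xc21 yc51 zc10) (kc xc26 yc17 zc40) (kc xc27 yc54 zc19) (kc xc17 yc19 zc53) (kc xc21 yc2 zc51) (kc xc25 yc21 zc0) (kc xc21 yc51 zc36) (kc xc17 yc19 zc58) (kc xc28 yc27 zc20) (kc xc19 yc59 zc48) (kc xc19 yc0 zc6) (kc xc26 yc27 zc55) (kc xc17 yc19 zc60) (kc xc26 yc17 zc20) (kc xc21 yc28 zc55) (kc xc17 yc20 zc1) (kc xc26 yc56 zc13) (kc xc20 yc8 zc44) (kc xc17 yc20 zc4) (kc xc26 yc25 zc5) (kc xc32 yc21 zc34) (kc xc23 yc58 zc5) (kc xc17 yc20 zc6) (kc xc30 yc24 zc18) (kc xc17 yc20 zc7) (kc xc31 yc17 zc25) (kc xc17 yc20 zc29) (kc xc20 yc36 zc7) (kc xc27 yc17 zc9) (kc xc17 yc20 zc11) (kc xc32 yc8 zc11) (kc xc17 yc20 zc13) (kc xc17 yc20 zc14) (kc xc23 yc10 zc22) (kc xc17 yc20 zc16) (kc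 xc28 yc22 zc24) (kc xc17 yc20 zc18) (kc xc32 yc21 zc37)) (@D3.rec (fun _ => Pt) (kc xc31 yc16 zc18) (kc xc28 yc13 zc14) (kc xc17 yc20 zc22) (kc xc30 yc18 zc51) (kc xc27 yc30 zc8) (kc xc26 yc3 zc44) (kc xc17 yc20 zc23) (kc xc23 yc33 zc30) (kc xc23 yc54 zc41) (kc xc17 yc20 zc27) (kc xc25 yc28 zc44) (kc xc25 yc57 zc44) (kc xc23 yc7 zc46) (kc xc31 yc0 zc3) (kc xc18 yc23 zc22) (kc xc18 yc41 zc37) (kc xc29 yc54 zc42) (kc xc30 yc20 zc56) (kc xc27 yc15 zc13) (kc xc30 yc5 zc47) (kc xc17 yc40 zc9) (kc xc18 yc5 zc10) (kc xc17 yc21 zc42) (kc xc21 yc46 zc2) (kc xc29 yc2 zc51) (kc xc17 yc20 zc45) (kc xc31 yc29 zc18) (kc xc31 yc33 zc14) (kc xc22 yc0 zc22) (kc xc23 yc6 zc38) (kc xc28 yc25 zc4) (kc xc17 yc20 zc51) (kc xc20 yc34 zc23) (kc xc27 yc5 zc11) (kc xc17 yc20 zc55) (kc xc29 yc40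 zc12) (kc xc17 yc20 zc58) (kc xc19 yc53 zc26) (kc xc29 yc42 zc43) (kc xc20 yc20 zc57) (kc xc20 yc31 zc50) (kc xc17 yc29 zc1) (kc xc21 yc45 zc11) (kc xc21 yc45 zc12) (kc xc31 yc32 zc21) (kc xc19 yc27 zc58) (kc xc19 yc55 zc50) (kc xc17 yc21 zc11) (kc xc17 yc21 zc12) (kc xc20 yc47 zc4) (kc xc22 yc3 zc61) (kc xc17 yc21 zc15) (kc xc26 yc35 zc7) (kc xc19 yc45 zc36) (kc xc17 yc21 zc24) (kc xc19 yc41 zc18) (kc xc17 yc21 zc28) (kc xc17 yc21 zc29) (kc xc32 yc13 zc26) (kc xc21 yc22 zc15) (kc xc21 yc36 zc8) (kc xc17 yc29 zc23)) (@D3.rec (fun _ => Pt) (kc xc31 yc56 zc25) (kc xc21 yc8 zc22) (kc xc21 yc19 zc1) (kc xc25 yc13 zc25) (kc xc26 yc15 zc44) (kc xc24 yc43 zc27) (kc xc30 yc5 zc15) (kc xc21 yc38 zc24) (kc xc26 yc14 zc8) (kc xc30 yc14 zc19) (kc xc17 yc21 zc48) (kc xc20 yc16 zc12)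 (kc xc32 yc21 zc45) (kc xc20 yc49 zc19) (kc xc20 yc35 zc22) (kc xc22 yc1 zc12) (kc xc23 yc7 zc9) (kc xc17 yc22 zc12) (kc xc25 yc25 zc41) (kc xc27 yc46 zc10) (kc xc23 yc24 zc20) (kc xc24 yc43 zc33) (kc xc21 yc46 zc43) (kc xc24 yc41 zc21) (kc xc24 yc41 zc22) (kc xc25 yc10 zc52) (kc xc21 yc45 zc10) (kc xc26 yc33 zc61) (kc xc30 yc17 zc4) (kc xc30 yc16 zc40) (kc xc24 yc37 zc57) (kc xc17 yc34 zc53) (kc xc17 yc22 zc13) (kc xc31 yc59 zc6) (kc xc30 yc12 zc36) (kc xc25 yc31 zc6) (kc xc21 yc46 zc30) (kc xc28 yc50 zc50) (kc xc30 yc55 zc61) (kc xc26 yc37 zc59) (kc xc32 yc21 zc47) (kc xc29 yc34 zc18) (kc xc32 yc21 zc48) (kc xc17 yc22 zc24) (kc xc32 yc19 zc5) (kc xc17 yc22 zc27) (kc xc29 yc26 zc40) (kc xc31 yc20 zc34) (kc xc17 yc22 zc30) (kc xc31 yc20 zc35) (kc xc17 yc22 zc31) (kc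 xc24 yc51 zc36) (kc xc22 yc42 zc37) (kc xc26 yc52 zc6) (kc xc29 yc20 zc20) (kc xc17 yc22 zc40) (kc xc18 yc21 zc29) (kc xc28 yc44 zc15) (kc xc20 yc46 zc15) (kc xc17 yc22 zc44) (kc xc19 yc58 zc11) (kc xc17 yc22 zc43)) (@D3.rec (fun _ => Pt) (kc xc31 yc21 zc30) (kc xc28 yc38 zc41) (kc xc22 yc5 zc40) (kc xc17 yc22 zc47) (kc xc28 yc45 zc8) (kc xc17 yc22 zc49) (kc xc21 yc3 zc20) (kc xc20 yc27 zc18) (kc xc26 yc10 zc13) (kc xc17 yc22 zc52) (kc xc24 yc50 zc51) (kc xc19 yc12 zc42) (kc xc20 yc11 zc37) (kc xc24 yc58 zc43) (kc xc21 yc1 zc57) (kc xc17 yc22 zc61) (kc xc30 yc26 zc52) (kc xc23 yc23 zc2) (kc xc26 yc28 zc11) (kc xc28 yc25 zc14) (kc xc32 yc21 zc56) (kc xc17 yc23 zc9) (kc xc22 yc1 zc28) (kc xc17 yc23 zc11) (kc xc28 yc7 zc13) (kc xc18 yc41 zc15) (kc xc17 yc23 zc20) (kc xc17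 yc23 zc22) (kc xc17 yc23 zc25) (kc xc30 yc8 zc17) (kc xc17 yc23 zc30) (kc xc26 yc14 zc2) (kc xc17 yc23 zc32) (kc xc31 yc27 zc19) (kc xc25 yc28 zc40) (kc xc17 yc23 zc34) (kc xc25 yc2 zc10) (kc xc17 yc32 zc58) (kc xc17 yc23 zc37) (kc xc25 yc2 zc11) (kc xc23 yc13 zc18) (kc xc23 yc13 zc19) (kc xc21 yc54 zc55) (kc xc22 yc13 zc7) (kc xc28 yc52 zc4) (kc xc17 yc23 zc41) (kc xc30 yc52 zc57) (kc xc17 yc24 zc42) (kc xc17 yc23 zc46) (kc xc27 yc22 zc16) (kc xc17 yc23 zc47) (kc xc17 yc23 zc49) (kc xc28 yc57 zc11) (kc xc26 yc59 zc59) (kc xc23 yc28 zc54) (kc xc31 yc54 zc52) (kc xc17 yc23 zc51) (kc xc25 yc36 zc26) (kc xc25 yc11 zc52) (kc xc32 yc22 zc1) (kc xc17 yc23 zc55) (kc xc30 yc49 zc16)) (@D3.rec (fun _ => Pt) (kc xc20 yc15 zc43) (kc xc17 yc25 zc15) (kc xc30 yc40 zc38) (kc xc17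 yc23 zc59) (kc xc26 yc17 zc60) (kc xc28 yc50 zc4) (kc xc32 yc21 zc16) (kc xc17 yc32 zc54) (kc xc17 yc24 zc5) (kc xc20 yc40 zc5) (kc xc19 yc37 zc21) (kc xc17 yc24 zc6) (kc xc24 yc39 zc26) (kc xc21 yc5 zc1) (kc xc32 yc22 zc6) (kc xc32 yc22 zc7) (kc xc17 yc26 zc14) (kc xc30 yc6 zc50) (kc xc17 yc26 zc16) (kc xc17 yc32 zc33) (kc xc17 yc32 zc9) (kc xc17 yc24 zc15) (kc xc27 yc6 zc19) (kc xc17 yc31 zc56) (kc xc17 yc24 zc17) (kc xc22 yc14 zc6) (kc xc29 yc25 zc23) (kc xc17 yc24 zc23) (kc xc22 yc29 zc53) (kc xc22 yc36 zc4) (kc xc22 yc14 zc5) (kc xc30 yc5 zc4) (kc xc32 yc20 zc20) (kc xc17 yc24 zc25) (kc xc17 yc24 zc26) (kc xc30 yc19 zc3) (kc xc19 yc44 zc51) (kc xc26 yc6 zc16) (kc xc22 yc36 zc41) (kc xc32 yc20 zc30) (kc xc27 yc2 zc10) (kc xc27 yc2 zc11) (kc xc22 yc50 zc38) (kc xc22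 yc9 zc61) (kc xc29 yc3 zc56) (kc xc21 yc9 zc35) (kc xc28 yc49 zc7) (kc xc25 yc45 zc43) (kc xc29 yc43 zc23) (kc xc17 yc24 zc40) (kc xc31 yc30 zc60) (kc xc31 yc33 zc1) (kc xc17 yc24 zc41) (kc xc29 yc33 zc61) (kc xc17 yc24 zc43) (kc xc29 yc45 zc55) (kc xc17 yc24 zc45) (kc xc17 yc24 zc46) (kc xc17 yc24 zc47) (kc xc32 yc22 zc13) (kc xc32 yc11 zc14) (kc xc17 yc24 zc48)) (@D3.rec (fun _ => Pt) (kc xc32 yc22 zc15) (kc xc27 yc8 zc36) (kc xc27 yc8 zc37) (kc xc25 yc6 zc37) (kc xc17 yc24 zc50) (kc xc20 yc20 zc19) (kc xc17 yc24 zc53) (kc xc17 yc24 zc52) (kc xc28 yc34 zc60) (kc xc22 yc4 zc6) (kc xc17 yc24 zc56) (kc xc32 yc22 zc20) (kc xc28 yc27 zc52) (kc xc25 yc46 zc61) (kc xc25 yc46 zc60) (kc xc30 yc17 zc6) (kc xc30 yc15 zc0) (kc xc17 yc24 zc60) (kc xc19 yc14 zc14) (kc xc17 yc25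 zc0) (kc xc30 yc36 zc14) (kc xc22 yc58 zc30) (kc xc17 yc25 zc2) (kc xc31 yc16 zc48) (kc xc30 yc16 zc56) (kc xc27 yc8 zc42) (kc xc21 yc20 zc32) (kc xc32 yc8 zc12) (kc xc17 yc25 zc9) (kc xc24 yc47 zc5) (kc xc32 yc2 zc5) (kc xc32 yc4 zc5) (kc xc30 yc47 zc15) (kc xc32 yc22 zc2) (kc xc32 yc22 zc3) (kc xc17 yc25 zc16) (kc xc31 yc48 zc55) (kc xc32 yc22 zc29) (kc xc17 yc25 zc19) (kc xc17 yc25 zc21) (kc xc20 yc57 zc9) (kc xc17 yc25 zc23) (kc xc28 yc54 zc31) (kc xc17 yc25 zc24) (kc xc17 yc25 zc25) (kc xc32 yc22 zc30) (kc xc22 yc1 zc2) (kc xc22 yc1 zc3) (kc xc20 yc47 zc55) (kc xc26 yc0 zc0) (kc xc17 yc25 zc27) (kc xc24 yc14 zc34) (kc xc22 yc0 zc27) (kc xc17 yc25 zc31) (kc xc28 yc26 zc54) (kc xc28 yc26 zc53) (kc xc27 yc54 zc51) (kc xc18 yc56 zc12) (kc xc30 yc46 zc7) (kc xc30 yc32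 zc39) (kc xc27 yc54 zc36) (kc xc28 yc22 zc25)) (@D3.rec (fun _ => Pt) (kc xc17 yc25 zc42) (kc xc31 yc15 zc60) (kc xc27 yc21 zc24) (kc xc27 yc16 zc39) (kc xc17 yc25 zc48) (kc xc17 yc25 zc46) (kc xc22 yc58 zc33) (kc xc23 yc12 zc25) (kc xc27 yc8 zc43) (kc xc31 yc15 zc59) (kc xc18 yc53 zc60) (kc xc28 yc20 zc20) (kc xc30 yc33 zc7) (kc xc27 yc10 zc18) (kc xc25 yc48 zc22) (kc xc32 yc22 zc38) (kc xc17 yc25 zc53) (kc xc30 yc5 zc57) (kc xc32 yc8 zc8) (kc xc30 yc5 zc49) (kc xc17 yc25 zc52) (kc xc32 yc22 zc43) (kc xc17 yc25 zc56) (kc xc32 yc8 zc59) (kc xc32 yc22 zc46) (kc xc18 yc57 zc37) (kc xc23 yc10 zc31) (kc xc17 yc26 zc0) (kc xc27 yc20 zc61) (kc xc27 yc16 zc36) (kc xc17 yc26 zc3) (kc xc18 yc53 zc53) (kc xc18 yc53 zc56) (kc xc30 yc56 zc3) (kc xc23 yc53 zc61) (kc xc19 yc3 zc12)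 (kc xc19 yc24 zc36) (kc xc17 yc26 zc8) (kc xc19 yc1 zc7) (kc xc23 yc5 zc28) (kc xc19 yc1 zc8) (kc xc20 yc55 zc30) (kc xc20 yc55 zc25) (kc xc31 yc39 zc31) (kc xc32 yc22 zc50) (kc xc29 yc28 zc38) (kc xc30 yc46 zc58) (kc xc32 yc22 zc51) (kc xc19 yc26 zc2) (kc xc23 yc4 zc61) (kc xc17 yc26 zc13) (kc xc32 yc22 zc52) (kc xc19 yc25 zc60) (kc xc29 yc37 zc41) (kc xc20 yc50 zc40) (kc xc17 yc26 zc15) (kc xc29 yc17 zc44) (kc xc29 yc28 zc36) (kc xc26 yc45 zc13) (kc xc31 yc53 zc23) (kc xc32 yc22 zc53) (kc xc32 yc22 zc54)) (@D3.rec (fun _ => Pt) (kc xc30 yc15 zc41) (kc xc17 yc26 zc20) (kc xc20 yc48 zc32) (kc xc32 yc22 zc58) (kc xc30 yc15 zc23) (kc xc17 yc26 zc22) (kc xc29 yc34 zc16) (kc xc32 yc23 zc1) (kc xc32 yc23 zc2) (kc xc32 yc22 zc61) (kc xc17 yc27 zc37) (kc xc17 yc26 zc27) (kc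 xc28 yc40 zc10) (kc xc20 yc35 zc40) (kc xc26 yc35 zc45) (kc xc17 yc26 zc30) (kc xc32 yc23 zc5) (kc xc32 yc23 zc3) (kc xc17 yc27 zc31) (kc xc17 yc26 zc32) (kc xc24 yc30 zc4) (kc xc24 yc30 zc2) (kc xc17 yc27 zc29) (kc xc17 yc26 zc35) (kc xc32 yc15 zc34) (kc xc32 yc19 zc11) (kc xc17 yc27 zc27) (kc xc22 yc0 zc59) (kc xc32 yc23 zc7) (kc xc17 yc27 zc24) (kc xc22 yc0 zc60) (kc xc32 yc23 zc10) (kc xc32 yc23 zc11) (kc xc20 yc48 zc30) (kc xc22 yc1 zc53) (kc xc19 yc26 zc0) (kc xc27 yc15 zc29) (kc xc17 yc26 zc47) (kc xc22 yc48 zc37) (kc xc27 yc15 zc3) (kc xc32 yc23 zc12) (kc xc17 yc26 zc52) (kc xc27 yc55 zc6) (kc xc30 yc38 zc34) (kc xc17 yc27 zc1) (kc xc17 yc26 zc60) (kc xc32 yc23 zc16) (kc xc32 yc23 zc18) (kc xc30 yc38 zc33) (kc xc27 yc55 zc13) (kc xc17 yc27 zc0) (kc xc32 yc15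 zc27) (kc xc17 yc27 zc3) (kc xc32 yc23 zc22) (kc xc32 yc2 zc18) (kc xc25 yc36 zc16) (kc xc17 yc27 zc4) (kc xc32 yc20 zc39) (kc xc17 yc27 zc5) (kc xc30 yc5 zc48) (kc xc20 yc46 zc6) (kc xc30 yc5 zc59)) (@D3.rec (fun _ => Pt) (kc xc21 yc42 zc18) (kc xc21 yc6 zc53) (kc xc17 yc34 zc51) (kc xc32 yc21 zc1) (kc xc29 yc23 zc60) (kc xc17 yc27 zc19) (kc xc17 yc30 zc14) (kc xc29 yc40 zc5) (kc xc22 yc19 zc17) (kc xc27 yc9 zc52) (kc xc17 yc27 zc17) (kc xc32 yc23 zc27) (kc xc32 yc23 zc28) (kc xc24 yc44 zc50) (kc xc24 yc44 zc51) (kc xc31 yc54 zc43) (kc xc24 yc16 zc22) (kc xc17 yc27 zc23) (kc xc27 yc56 zc10) (kc xc18 yc7 zc48) (kc xc29 yc50 zc14) (kc xc32 yc3 zc58) (kc xc30 yc55 zc47) (kc xc27 yc4 zc17) (kc xc22 yc2 zc30) (kc xc29 yc16 zc26) (kc xc26 yc15 zc13) (kc xc21 yc32 zc51) (kc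 xc30 yc3 zc55) (kc xc25 yc8 zc1) (kc xc31 yc1 zc43) (kc xc24 yc35 zc54) (kc xc17 yc27 zc32) (kc xc28 yc27 zc35) (kc xc31 yc47 zc52) (kc xc17 yc27 zc35) (kc xc32 yc23 zc30) (kc xc28 yc40 zc40) (kc xc17 yc27 zc39) (kc xc32 yc14 zc1) (kc xc21 yc1 zc53) (kc xc32 yc23 zc33) (kc xc25 yc6 zc27) (kc xc21 yc19 zc3) (kc xc17 yc27 zc42) (kc xc21 yc34 zc29) (kc xc18 yc16 zc28) (kc xc30 yc13 zc0) (kc xc17 yc27 zc43) (kc xc29 yc51 zc12) (kc xc23 yc39 zc49) (kc xc23 yc22 zc19) (kc xc17 yc27 zc47) (kc xc32 yc23 zc36) (kc xc32 yc23 zc38) (kc xc21 yc49 zc29) (kc xc30 yc13 zc58) (kc xc22 yc31 zc12) (kc xc17 yc27 zc50) (kc xc23 yc27 zc1) (kc xc21 yc33 zc16) (kc xc17 yc27 zc53)) (@D3.rec (fun _ => Pt) (kc xc29 yc51 zc41) (kc xc17 yc27 zc56) (kc xc32 yc23 zc42) (kc xc23 yc41 zc27) (kc xc30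 yc6 zc36) (kc xc30 yc40 zc41) (kc xc31 yc44 zc60) (kc xc30 yc14 zc20) (kc xc23 yc32 zc14) (kc xc23 yc32 zc12) (kc xc17 yc27 zc61) (kc xc29 yc51 zc14) (kc xc17 yc39 zc12) (kc xc18 yc16 zc7) (kc xc30 yc0 zc34) (kc xc29 yc58 zc2) (kc xc29 yc58 zc21) (kc xc31 yc58 zc35) (kc xc17 yc28 zc5) (kc xc32 yc23 zc47) (kc xc21 yc25 zc61) (kc xc29 yc51 zc13) (kc xc17 yc28 zc11) (kc xc32 yc23 zc48) (kc xc30 yc13 zc44) (kc xc17 yc28 zc13) (kc xc29 yc49 zc33) (kc xc17 yc28 zc14) (kc xc31 yc10 zc38) (kc xc21 yc27 zc28) (kc xc21 yc27 zc32) (kc xc17 yc28 zc21) (kc xc17 yc28 zc16) (kc xc31 yc58 zc49) (kc xc31 yc58 zc8) (kc xc29 yc58 zc4) (kc xc17 yc28 zc19) (kc xc19 yc44 zc49) (kc xc19 yc44 zc47) (kc xc32 yc23 zc53) (kc xc32 yc23 zc55) (kc xc32 yc23 zc52) (kc xc30 yc10 zc50) (kc xc29 yc4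 zc57) (kc xc29 yc4 zc56) (kc xc32 yc11 zc9) (kc xc17 yc28 zc25) (kc xc21 yc21 zc53) (kc xc20 yc38 zc37) (kc xc17 yc28 zc24) (kc xc17 yc28 zc28) (kc xc32 yc11 zc24) (kc xc21 yc16 zc32) (kc xc17 yc28 zc30) (kc xc32 yc18 zc58) (kc xc29 yc59 zc55) (kc xc17 yc28 zc32) (kc xc17 yc28 zc34) (kc xc29 yc44 zc53) (kc xc17 yc28 zc35) (kc xc32 yc11 zc44) (kc xc22 yc0 zc52)) (@D3.rec (fun _ => Pt) (kc xc19 yc41 zc17) (kc xc17 yc28 zc39) (kc xc29 yc8 zc26) (kc xc21 yc16 zc31) (kc xc32 yc23 zc61) (kc xc17 yc29 zc18) (kc xc17 yc28 zc41) (kc xc30 yc16 zc9) (kc xc28 yc40 zc16) (kc xc17 yc28 zc42) (kc xc17 yc29 zc17) (kc xc17 yc28 zc44) (kc xc28 yc52 zc27) (kc xc28 yc52 zc13) (kc xc31 yc21 zc44) (kc xc17 yc29 zc12) (kc xc17 yc28 zc47) (kc xc30 yc16 zc15) (kc xc32 yc24 zc4) (kc xc17 yc29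 zc10) (kc xc17 yc28 zc61) (kc xc17 yc29 zc8) (kc xc24 yc21 zc1) (kc xc17 yc29 zc6) (kc xc31 yc35 zc9) (kc xc19 yc53 zc47) (kc xc17 yc28 zc57) (kc xc30 yc15 zc58) (kc xc32 yc13 zc12) (kc xc32 yc18 zc59) (kc xc21 yc22 zc54) (kc xc19 yc16 zc41) (kc xc21 yc30 zc23) (kc xc21 yc16 zc27) (kc xc17 yc29 zc2) (kc xc32 yc24 zc8) (kc xc17 yc29 zc4) (kc xc31 yc31 zc51) (kc xc21 yc47 zc4) (kc xc31 yc29 zc34) (kc xc29 yc41 zc11) (kc xc31 yc47 zc32) (kc xc21 yc34 zc11) (kc xc29 yc44 zc1) (kc xc32 yc24 zc5) (kc xc24 yc22 zc29) (kc xc32 yc24 zc3) (kc xc21 yc22 zc37) (kc xc29 yc23 zc27) (kc xc17 yc29 zc16) (kc xc17 yc52 zc36) (kc xc21 yc22 zc58) (kc xc17 yc29 zc24) (kc xc21 yc22 zc20) (kc xc17 yc29 zc27) (kc xc17 yc29 zc28) (kc xc21 yc4 zc58) (kc xc21 yc58 zc11) (kc xc17 yc29 zc33) (kc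 xc27 yc4 zc12) (kc xc27 yc4 zc15) (kc xc17 yc29 zc36)) (@D3.rec (fun _ => Pt) (kc xc25 yc42 zc46) (kc xc31 yc49 zc10) (kc xc17 yc29 zc41) (kc xc31 yc34 zc52) (kc xc17 yc29 zc42) (kc xc31 yc34 zc20) (kc xc30 yc7 zc41) (kc xc17 yc30 zc36) (kc xc25 yc53 zc32) (kc xc22 yc0 zc20) (kc xc23 yc7 zc14) (kc xc17 yc29 zc57) (kc xc29 yc38 zc35) (kc xc17 yc29 zc60) (kc xc17 yc30 zc1) (kc xc22 yc46 zc28) (kc xc24 yc30 zc31) (kc xc17 yc30 zc33) (kc xc17 yc30 zc6) (kc xc20 yc10 zc23) (kc xc20 yc14 zc13) (kc xc18 yc39 zc47) (kc xc23 yc37 zc37) (kc xc23 yc49 zc47) (kc xc21 yc45 zc2) (kc xc21 yc53 zc60) (kc xc32 yc23 zc26) (kc xc21 yc0 zc25) (kc xc27 yc35 zc38) (kc xc28 yc3 zc61) (kc xc18 yc14 zc17) (kc xc27 yc28 zc12) (kc xc21 yc36 zc16) (kc xc21 yc54 zc49) (kc xc25 yc1 zc7) (kc xc24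 yc18 zc16) (kc xc20 yc49 zc18) (kc xc28 yc6 zc35) (kc xc27 yc43 zc22) (kc xc29 yc31 zc19) (kc xc17 yc30 zc38) (kc xc21 yc39 zc1) (kc xc21 yc31 zc50) (kc xc17 yc30 zc46) (kc xc32 yc24 zc12) (kc xc21 yc31 zc55) (kc xc17 yc30 zc47) (kc xc17 yc30 zc48) (kc xc17 yc30 zc50) (kc xc32 yc24 zc13) (kc xc31 yc20 zc16) (kc xc20 yc52 zc17) (kc xc31 yc14 zc32) (kc xc25 yc44 zc59) (kc xc25 yc45 zc50) (kc xc17 yc30 zc57) (kc xc20 yc30 zc47) (kc xc17 yc30 zc59) (kc xc32 yc24 zc14) (kc xc29 yc39 zc52) (kc xc17 yc31 zc13) (kc xc27 yc15 zc28)) (@D3.rec (fun _ => Pt) (kc xc21 yc45 zc14) (kc xc21 yc8 zc24) (kc xc18 yc0 zc23) (kc xc29 yc38 zc19) (kc xc17 yc33 zc16) (kc xc30 yc9 zc5) (kc xc27 yc57 zc21) (kc xc25 yc18 zc29) (kc xc23 yc56 zc31) (kc xc29 yc25 zc56) (kc xc17 yc31 zc30) (kc xc20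 yc24 zc42) (kc xc24 yc23 zc33) (kc xc20 yc27 zc5) (kc xc32 yc10 zc6) (kc xc27 yc40 zc19) (kc xc32 yc21 zc57) (kc xc28 yc14 zc18) (kc xc27 yc4 zc2) (kc xc30 yc6 zc51) (kc xc17 yc31 zc58) (kc xc17 yc32 zc1) (kc xc22 yc48 zc25) (kc xc25 yc25 zc7) (kc xc27 yc15 zc2) (kc xc31 yc53 zc42) (kc xc19 yc39 zc11) (kc xc22 yc22 zc57) (kc xc25 yc6 zc22) (kc xc21 yc20 zc31) (kc xc29 yc49 zc30) (kc xc29 yc37 zc22) (kc xc17 yc55 zc36) (kc xc24 yc38 zc6) (kc xc17 yc32 zc14) (kc xc17 yc32 zc11) (kc xc17 yc32 zc12) (kc xc17 yc32 zc27) (kc xc19 yc38 zc17) (kc xc22 yc6 zc59) (kc xc22 yc19 zc7) (kc xc17 yc32 zc29) (kc xc28 yc59 zc4) (kc xc28 yc59 zc3) (kc xc19 yc49 zc45) (kc xc24 yc18 zc34) (kc xc24 yc50 zc15) (kc xc29 yc0 zc46) (kc xc17 yc58 zc35) (kc xc17 yc32 zc43) (kc xc25 yc19 zc12)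 (kc xc24 yc18 zc33) (kc xc25 yc21 zc10) (kc xc24 yc0 zc40) (kc xc31 yc45 zc15) (kc xc17 yc32 zc57) (kc xc32 yc21 zc59) (kc xc22 yc11 zc27) (kc xc17 yc33 zc1) (kc xc19 yc7 zc2) (kc xc17 yc33 zc17) (kc xc28 yc7 zc54)) (@D3.rec (fun _ => Pt) (kc xc17 yc33 zc8) (kc xc17 yc33 zc9) (kc xc31 yc53 zc44) (kc xc25 yc24 zc10) (kc xc17 yc33 zc22) (kc xc18 yc8 zc14) (kc xc17 yc33 zc25) (kc xc17 yc33 zc26) (kc xc18 yc25 zc35) (kc xc22 yc37 zc4) (kc xc22 yc4 zc28) (kc xc21 yc54 zc48) (kc xc17 yc33 zc30) (kc xc30 yc19 zc38) (kc xc17 yc33 zc34) (kc xc18 yc1 zc6) (kc xc27 yc12 zc49) (kc xc25 yc23 zc27) (kc xc17 yc33 zc44) (kc xc24 yc52 zc7) (kc xc20 yc46 zc9) (kc xc30 yc28 zc31) (kc xc25 yc17 zc22) (kc xc19 yc2 zc55) (kc xc24 yc47 zc59) (kc xc17 yc33 zc54) (kc xc17 yc33 zc55) (kc xc21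 yc44 zc1) (kc xc28 yc16 zc61) (kc xc26 yc17 zc18) (kc xc25 yc51 zc45) (kc xc28 yc16 zc49) (kc xc17 yc33 zc59) (kc xc29 yc21 zc55) (kc xc25 yc17 zc0) (kc xc24 yc47 zc56) (kc xc31 yc36 zc48) (kc xc31 yc24 zc18) (kc xc18 yc12 zc9) (kc xc17 yc34 zc8) (kc xc18 yc14 zc38) (kc xc17 yc34 zc10) (kc xc17 yc34 zc11) (kc xc23 yc12 zc38) (kc xc17 yc34 zc16) (kc xc31 yc48 zc59) (kc xc17 yc34 zc21) (kc xc17 yc34 zc24) (kc xc17 yc34 zc27) (kc xc28 yc13 zc5) (kc xc19 yc32 zc37) (kc xc20 yc12 zc18) (kc xc18 yc51 zc2) (kc xc26 yc25 zc44) (kc xc26 yc26 zc50) (kc xc17 yc34 zc34) (kc xc27 yc55 zc58) (kc xc20 yc46 zc12) (kc xc27 yc39 zc18) (kc xc20 yc4 zc34) (kc xc29 yc7 zc40) (kc xc28 yc42 zc34)) (@D3.rec (fun _ => Pt) (kc xc17 yc34 zc49) (kc xc29 yc12 zc50) (kc xc17 yc34 zc50) (kc xc32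 yc24 zc22) (kc xc25 yc51 zc17) (kc xc21 yc42 zc54) (kc xc22 yc56 zc30) (kc xc17 yc34 zc61) (kc xc29 yc50 zc32) (kc xc31 yc1 zc44) (kc xc32 yc24 zc25) (kc xc17 yc35 zc3) (kc xc17 yc35 zc4) (kc xc29 yc12 zc53) (kc xc32 yc24 zc26) (kc xc17 yc35 zc7) (kc xc21 yc44 zc10) (kc xc23 yc2 zc45) (kc xc24 yc14 zc1) (kc xc24 yc58 zc36) (kc xc17 yc35 zc16) (kc xc22 yc18 zc52) (kc xc19 yc5 zc21) (kc xc17 yc35 zc22) (kc xc24 yc39 zc20) (kc xc32 yc24 zc29) (kc xc21 yc49 zc43) (kc xc32 yc24 zc30) (kc xc21 yc19 zc13) (kc xc29 yc58 zc20) (kc xc25 yc38 zc56) (kc xc26 yc2 zc35) (kc xc32 yc2 zc29) (kc xc23 yc41 zc13) (kc xc17 yc35 zc27) (kc xc21 yc59 zc19) (kc xc21 yc59 zc33) (kc xc17 yc35 zc29) (kc xc18 yc52 zc15) (kc xc17 yc35 zc34) (kc xc24 yc30 zc58) (kc xc31 yc26 zc28) (kc xc25 yc25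 zc42) (kc xc32 yc3 zc39) (kc xc29 yc44 zc46) (kc xc25 yc19 zc10) (kc xc19 yc58 zc22) (kc xc29 yc36 zc55) (kc xc25 yc42 zc1) (kc xc27 yc0 zc2) (kc xc31 yc46 zc41) (kc xc28 yc34 zc29) (kc xc30 yc46 zc18) (kc xc30 yc46 zc45) (kc xc29 yc32 zc20) (kc xc17 yc35 zc50) (kc xc30 yc24 zc19) (kc xc28 yc5 zc49) (kc xc28 yc4 zc39) (kc xc19 yc5 zc31) (kc xc17 yc35 zc53) (kc xc30 yc39 zc11)) (@D3.rec (fun _ => Pt) (kc xc26 yc3 zc2) (kc xc29 yc9 zc49) (kc xc31 yc46 zc13) (kc xc17 yc35 zc57) (kc xc26 yc36 zc37) (kc xc31 yc53 zc14) (kc xc32 yc24 zc42) (kc xc17 yc36 zc2) (kc xc31 yc57 zc12) (kc xc29 yc6 zc29) (kc xc19 yc9 zc37) (kc xc22 yc5 zc50) (kc xc30 yc18 zc2) (kc xc25 yc7 zc7) (kc xc25 yc7 zc15) (kc xc22 yc6 zc12) (kc xc26 yc27 zc45) (kc xc17 yc36 zc12) (kc xc23 yc36 zc16) (kc xc28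 yc33 zc48) (kc xc23 yc19 zc6) (kc xc31 yc31 zc60) (kc xc29 yc53 zc28) (kc xc25 yc32 zc40) (kc xc25 yc46 zc27) (kc xc28 yc34 zc23) (kc xc29 yc28 zc19) (kc xc30 yc1 zc58) (kc xc29 yc57 zc36) (kc xc17 yc36 zc17) (kc xc30 yc7 zc46) (kc xc17 yc36 zc19) (kc xc25 yc56 zc8) (kc xc30 yc8 zc35) (kc xc17 yc36 zc21) (kc xc32 yc24 zc47) (kc xc30 yc1 zc51) (kc xc21 yc23 zc12) (kc xc27 yc46 zc17) (kc xc17 yc41 zc21) (kc xc17 yc36 zc29) (kc xc17 yc38 zc48) (kc xc17 yc38 zc2) (kc xc26 yc11 zc31) (kc xc17 yc36 zc34) (kc xc31 yc27 zc41) (kc xc25 yc55 zc39) (kc xc27 yc29 zc53) (kc xc27 yc42 zc35) (kc xc31 yc55 zc55) (kc xc17 yc38 zc5) (kc xc25 yc28 zc60) (kc xc25 yc37 zc60) (kc xc25 yc41 zc61) (kc xc25 yc16 zc36) (kc xc27 yc44 zc51) (kc xc28 yc31 zc11) (kc xc18 yc30 zc3) (kc xc24 yc40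 zc61) (kc xc17 yc39 zc53) (kc xc26 yc1 zc18) (kc xc24 yc59 zc7)) (@D3.rec (fun _ => Pt) (kc xc30 yc4 zc26) (kc xc17 yc36 zc49) (kc xc24 yc44 zc27) (kc xc24 yc45 zc20) (kc xc32 yc24 zc54) (kc xc24 yc20 zc40) (kc xc27 yc29 zc17) (kc xc21 yc12 zc41) (kc xc17 yc36 zc58) (kc xc17 yc36 zc59) (kc xc27 yc27 zc49) (kc xc27 yc25 zc51) (kc xc17 yc39 zc36) (kc xc18 yc27 zc45) (kc xc17 yc37 zc0) (kc xc32 yc24 zc56) (kc xc17 yc37 zc2) (kc xc32 yc5 zc43) (kc xc17 yc37 zc3) (kc xc27 yc28 zc51) (kc xc17 yc37 zc4) (kc xc17 yc38 zc43) (kc xc31 yc43 zc11) (kc xc29 yc53 zc14) (kc xc27 yc28 zc34) (kc xc26 yc17 zc11) (kc xc17 yc37 zc55) (kc xc22 yc11 zc48) (kc xc25 yc58 zc58) (kc xc21 yc6 zc37) (kc xc21 yc58 zc14) (kc xc17 yc37 zc17) (kc xc24 yc34 zc22) (kc xc17 yc37 zc21) (kc xc25 yc38 zc36)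 (kc xc17 yc37 zc22) (kc xc26 yc4 zc33) (kc xc17 yc37 zc24) (kc xc27 yc25 zc49) (kc xc25 yc1 zc46) (kc xc26 yc1 zc3) (kc xc17 yc37 zc32) (kc xc25 yc0 zc25) (kc xc19 yc16 zc38) (kc xc31 yc37 zc18) (kc xc28 yc41 zc20) (kc xc19 yc16 zc40) (kc xc17 yc37 zc42) (kc xc32 yc24 zc60) (kc xc27 yc25 zc38) (kc xc27 yc52 zc33) (kc xc27 yc25 zc11) (kc xc17 yc37 zc45) (kc xc25 yc27 zc13) (kc xc30 yc20 zc30) (kc xc23 yc22 zc15) (kc xc17 yc37 zc53) (kc xc29 yc59 zc56) (kc xc28 yc57 zc55) (kc xc23 yc36 zc48) (kc xc30 yc3 zc44) (kc xc27 yc46 zc16)) (@D3.rec (fun _ => Pt) (kc xc25 yc55 zc58) (kc xc25 yc48 zc34) (kc xc32 yc25 zc1) (kc xc29 yc50 zc57) (kc xc26 yc12 zc11) (kc xc27 yc26 zc8) (kc xc32 yc1 zc19) (kc xc17 yc37 zc59) (kc xc27 yc26 zc5) (kc xc26 yc48 zc28) (kc xc27 yc28 zc22) (kc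 xc17 yc37 zc60) (kc xc17 yc37 zc61) (kc xc23 yc2 zc10) (kc xc31 yc11 zc10) (kc xc17 yc38 zc0) (kc xc30 yc31 zc40) (kc xc17 yc41 zc19) (kc xc32 yc6 zc52) (kc xc24 yc44 zc37) (kc xc26 yc23 zc12) (kc xc24 yc44 zc34) (kc xc32 yc25 zc3) (kc xc24 yc54 zc29) (kc xc28 yc41 zc17) (kc xc30 yc57 zc41) (kc xc27 yc34 zc16) (kc xc27 yc45 zc37) (kc xc27 yc45 zc24) (kc xc17 yc38 zc22) (kc xc31 yc54 zc28) (kc xc17 yc38 zc26) (kc xc26 yc1 zc19) (kc xc17 yc38 zc28) (kc xc22 yc0 zc18) (kc xc30 yc8 zc56) (kc xc17 yc38 zc29) (kc xc30 yc8 zc36) (kc xc24 yc43 zc17) (kc xc26 yc5 zc52) (kc xc17 yc40 zc46) (kc xc21 yc30 zc61) (kc xc17 yc38 zc38) (kc xc27 yc28 zc30) (kc xc25 yc15 zc44) (kc xc24 yc56 zc9) (kc xc17 yc41 zc20) (kc xc17 yc41 zc3) (kc xc32 yc25 zc2) (kc xc27 yc28 zc31) (kc xc23 yc23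 zc0) (kc xc27 yc48 zc34) (kc xc26 yc15 zc14) (kc xc32 yc24 zc50) (kc xc25 yc41 zc59) (kc xc17 yc38 zc52) (kc xc27 yc30 zc24) (kc xc28 yc1 zc48) (kc xc19 yc54 zc46) (kc xc31 yc44 zc37) (kc xc30 yc4 zc27) (kc xc31 yc58 zc51)) (@D3.rec (fun _ => Pt) (kc xc31 yc44 zc36) (kc xc17 yc44 zc22) (kc xc25 yc32 zc45) (kc xc32 yc3 zc44) (kc xc25 yc13 zc16) (kc xc21 yc39 zc34) (kc xc30 yc11 zc7) (kc xc31 yc44 zc25) (kc xc17 yc39 zc15) (kc xc18 yc27 zc28) (kc xc25 yc45 zc23) (kc xc25 yc45 zc24) (kc xc32 yc25 zc6) (kc xc17 yc39 zc17) (kc xc32 yc24 zc59) (kc xc26 yc16 zc29) (kc xc23 yc22 zc58) (kc xc24 yc52 zc32) (kc xc17 yc39 zc22) (kc xc21 yc18 zc30) (kc xc17 yc39 zc24) (kc xc29 yc22 zc44) (kc xc30 yc14 zc29) (kc xc30 yc11 zc9) (kc xc17 yc39 zc28) (kc xc27 yc30 zc23) (kc xc29 yc17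 zc20) (kc xc17 yc39 zc39) (kc xc24 yc43 zc3) (kc xc27 yc28 zc3) (kc xc17 yc39 zc51) (kc xc27 yc55 zc17) (kc xc31 yc42 zc57) (kc xc32 yc24 zc53) (kc xc28 yc41 zc22) (kc xc20 yc47 zc14) (kc xc17 yc39 zc61) (kc xc32 yc9 zc49) (kc xc28 yc15 zc12) (kc xc17 yc40 zc3) (kc xc32 yc24 zc57) (kc xc17 yc40 zc4) (kc xc17 yc42 zc48) (kc xc17 yc42 zc53) (kc xc31 yc34 zc3) (kc xc17 yc40 zc6) (kc xc27 yc29 zc55) (kc xc17 yc40 zc8) (kc xc22 yc8 zc29) (kc xc27 yc25 zc10) (kc xc25 yc45 zc25) (kc xc18 yc27 zc41) (kc xc26 yc11 zc22) (kc xc25 yc42 zc12) (kc xc27 yc47 zc55) (kc xc17 yc40 zc19) (kc xc27 yc28 zc43) (kc xc22 yc10 zc47) (kc xc24 yc56 zc25) (kc xc29 yc50 zc44) (kc xc31 yc44 zc39) (kc xc17 yc40 zc23)) (@D3.rec (fun _ => Pt) (kc xc17 yc42 zc50) (kc xc21 yc55 zc59) (kc xc23 yc51 zc55)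 (kc xc27 yc27 zc29) (kc xc18 yc3 zc40) (kc xc28 yc2 zc33) (kc xc20 yc54 zc54) (kc xc17 yc40 zc36) (kc xc28 yc2 zc34) (kc xc26 yc14 zc35) (kc xc17 yc40 zc39) (kc xc31 yc12 zc2) (kc xc27 yc20 zc31) (kc xc21 yc23 zc1) (kc xc31 yc12 zc1) (kc xc17 yc40 zc41) (kc xc26 yc11 zc44) (kc xc26 yc19 zc52) (kc xc25 yc28 zc52) (kc xc17 yc45 zc32) (kc xc17 yc45 zc29) (kc xc17 yc42 zc44) (kc xc27 yc26 zc10) (kc xc17 yc40 zc53) (kc xc28 yc2 zc35) (kc xc26 yc11 zc23) (kc xc23 yc45 zc5) (kc xc32 yc25 zc14) (kc xc17 yc42 zc61) (kc xc26 yc11 zc54) (kc xc27 yc26 zc43) (kc xc27 yc26 zc49) (kc xc31 yc42 zc46) (kc xc23 yc43 zc59) (kc xc27 yc25 zc24) (kc xc26 yc1 zc11) (kc xc25 yc7 zc10) (kc xc17 yc41 zc8) (kc xc26 yc12 zc9) (kc xc22 yc14 zc45) (kc xc17 yc41 zc10) (kc xc27 yc38 zc48) (kc xc28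 yc36 zc52) (kc xc27 yc27 zc56) (kc xc31 yc43 zc60) (kc xc31 yc44 zc50) (kc xc26 yc12 zc12) (kc xc23 yc34 zc53) (kc xc26 yc11 zc57) (kc xc17 yc41 zc18) (kc xc27 yc49 zc9) (kc xc27 yc25 zc19) (kc xc32 yc10 zc22) (kc xc30 yc1 zc1) (kc xc32 yc10 zc21) (kc xc32 yc10 zc8) (kc xc32 yc10 zc7) (kc xc32 yc5 zc30) (kc xc26 yc19 zc42) (kc xc26 yc18 zc55) (kc xc31 yc22 zc21) (kc xc27 yc29 zc2)) (@D3.rec (fun _ => Pt) (kc xc17 yc41 zc28) (kc xc23 yc37 zc3) (kc xc27 yc28 zc61) (kc xc32 yc6 zc26) (kc xc27 yc53 zc10) (kc xc32 yc24 zc52) (kc xc32 yc7 zc61) (kc xc31 yc38 zc11) (kc xc32 yc7 zc59) (kc xc32 yc8 zc1) (kc xc32 yc8 zc0) (kc xc25 yc36 zc45) (kc xc23 yc6 zc11) (kc xc18 yc58 zc27) (kc xc17 yc41 zc51) (kc xc19 yc34 zc50) (kc xc17 yc41 zc53) (kc xc27 yc25 zc6) (kc xc21 yc23 zc18)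 (kc xc17 yc41 zc60) (kc xc23 yc30 zc55) (kc xc28 yc57 zc2) (kc xc17 yc42 zc0) (kc xc19 yc36 zc35) (kc xc21 yc58 zc39) (kc xc17 yc42 zc3) (kc xc22 yc23 zc14) (kc xc17 yc42 zc6) (kc xc30 yc26 zc9) (kc xc26 yc5 zc51) (kc xc20 yc5 zc9) (kc xc25 yc9 zc30) (kc xc24 yc27 zc22) (kc xc25 yc4 zc36) (kc xc19 yc34 zc53) (kc xc17 yc42 zc24) (kc xc18 yc43 zc59) (kc xc21 yc6 zc6) (kc xc21 yc18 zc61) (kc xc23 yc23 zc35) (kc xc21 yc33 zc48) (kc xc23 yc50 zc5) (kc xc21 yc56 zc14) (kc xc18 yc38 zc49) (kc xc17 yc42 zc34) (kc xc26 yc3 zc61) (kc xc18 yc20 zc52) (kc xc27 yc54 zc37) (kc xc31 yc58 zc32) (kc xc25 yc46 zc9) (kc xc18 yc13 zc17) (kc xc27 yc55 zc12) (kc xc17 yc42 zc42) (kc xc27 yc24 zc47) (kc xc31 yc35 zc47) (kc xc27 yc27 zc46) (kc xc31 yc12 zc20) (kc xc26 yc13 zc25) (kc xc17 yc42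 zc57) (kc xc32 yc25 zc19) (kc xc32 yc25 zc18) (kc xc31 yc55 zc49)) (@D3.rec (fun _ => Pt) (kc xc31 yc55 zc48) (kc xc18 yc4 zc60) (kc xc25 yc39 zc35) (kc xc28 yc0 zc1) (kc xc19 yc38 zc30) (kc xc25 yc12 zc32) (kc xc31 yc21 zc9) (kc xc17 yc43 zc7) (kc xc27 yc10 zc4) (kc xc32 yc25 zc21) (kc xc31 yc37 zc28) (kc xc25 yc33 zc43) (kc xc17 yc43 zc10) (kc xc31 yc52 zc50) (kc xc25 yc30 zc22) (kc xc31 yc51 zc8) (kc xc20 yc49 zc29) (kc xc17 yc43 zc12) (kc xc28 yc22 zc27) (kc xc17 yc43 zc13) (kc xc27 yc53 zc2) (kc xc31 yc53 zc19) (kc xc17 yc43 zc19) (kc xc27 yc27 zc25) (kc xc27 yc26 zc56) (kc xc31 yc11 zc24) (kc xc31 yc50 zc37) (kc xc17 yc43 zc33) (kc xc20 yc47 zc18) (kc xc17 yc43 zc39) (kc xc20 yc47 zc39) (kc xc31 yc0 zc17) (kc xc29 yc23 zc29) (kc xc23 yc1 zc43) (kc xc28 yc12 zc42)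 (kc xc31 yc55 zc56) (kc xc31 yc0 zc24) (kc xc30 yc20 zc6) (kc xc29 yc56 zc18) (kc xc29 yc21 zc48) (kc xc27 yc45 zc10) (kc xc23 yc22 zc61) (kc xc21 yc58 zc28) (kc xc17 yc43 zc58) (kc xc32 yc2 zc55) (kc xc27 yc39 zc57) (kc xc17 yc43 zc60) (kc xc22 yc14 zc46) (kc xc31 yc37 zc17) (kc xc17 yc44 zc0) (kc xc30 yc51 zc53) (kc xc30 yc4 zc28) (kc xc29 yc56 zc38) (kc xc25 yc34 zc50) (kc xc21 yc6 zc17) (kc xc30 yc52 zc0) (kc xc29 yc49 zc61) (kc xc24 yc59 zc38) (kc xc30 yc7 zc44) (kc xc21 yc46 zc55) (kc xc17 yc44 zc15) (kc xc26 yc15 zc33)) (@D3.rec (fun _ => Pt) (kc xc25 yc45 zc59) (kc xc17 yc44 zc17) (kc xc29 yc39 zc17) (kc xc21 yc26 zc21) (kc xc19 yc44 zc11) (kc xc18 yc10 zc20) (kc xc24 yc44 zc7) (kc xc24 yc44 zc10) (kc xc18 yc35 zc14) (kc xc18 yc35 zc12) (kc xc27 yc37 zc27) (kc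 xc17 yc44 zc29) (kc xc27 yc50 zc38) (kc xc28 yc3 zc1) (kc xc31 yc15 zc42) (kc xc28 yc21 zc19) (kc xc17 yc44 zc36) (kc xc19 yc2 zc13) (kc xc28 yc28 zc6) (kc xc24 yc56 zc61) (kc xc32 yc6 zc46) (kc xc17 yc44 zc40) (kc xc32 yc25 zc29) (kc xc31 yc43 zc9) (kc xc17 yc44 zc42) (kc xc31 yc44 zc24) (kc xc18 yc19 zc23) (kc xc17 yc44 zc45) (kc xc22 yc28 zc36) (kc xc27 yc34 zc48) (kc xc17 yc44 zc51) (kc xc31 yc42 zc39) (kc xc17 yc44 zc52) (kc xc31 yc37 zc58) (kc xc24 yc2 zc26) (kc xc21 yc17 zc3) (kc xc17 yc45 zc9) (kc xc17 yc45 zc11) (kc xc17 yc45 zc12) (kc xc17 yc45 zc13) (kc xc21 yc20 zc13) (kc xc24 yc56 zc29) (kc xc24 yc55 zc31) (kc xc28 yc21 zc11) (kc xc25 yc54 zc0) (kc xc26 yc49 zc49) (kc xc17 yc45 zc23) (kc xc17 yc45 zc24) (kc xc18 yc26 zc28) (kc xc17 yc45 zc26) (kc xc27 yc46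 zc4) (kc xc21 yc7 zc7) (kc xc27 yc48 zc27) (kc xc25 yc58 zc42) (kc xc28 yc14 zc39) (kc xc17 yc45 zc31) (kc xc27 yc44 zc61) (kc xc20 yc4 zc15) (kc xc32 yc25 zc12) (kc xc26 yc38 zc28) (kc xc17 yc45 zc40) (kc xc17 yc45 zc41)) (@D3.rec (fun _ => Pt) (kc xc22 yc18 zc25) (kc xc18 yc58 zc50) (kc xc17 yc45 zc48) (kc xc23 yc36 zc45) (kc xc17 yc45 zc51) (kc xc32 yc25 zc33) (kc xc17 yc45 zc52) (kc xc20 yc21 zc23) (kc xc28 yc20 zc6) (kc xc26 yc4 zc23) (kc xc18 yc51 zc42) (kc xc17 yc45 zc54) (kc xc18 yc56 zc21) (kc xc19 yc0 zc22) (kc xc18 yc39 zc3) (kc xc18 yc5 zc11) (kc xc18 yc58 zc23) (kc xc21 yc26 zc37) (kc xc18 yc36 zc32) (kc xc17 yc45 zc61) (kc xc31 yc44 zc32) (kc xc17 yc46 zc0) (kc xc28 yc20 zc48) (kc xc28 yc8 zc8) (kc xc18 yc51 zc31) (kc xc17 yc46 zc2) (kc xc23 yc50 zc37)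 (kc xc32 yc25 zc48) (kc xc32 yc25 zc51) (kc xc28 yc16 zc32) (kc xc18 yc31 zc33) (kc xc18 yc59 zc58) (kc xc22 yc33 zc6) (kc xc18 yc49 zc36) (kc xc24 yc15 zc22) (kc xc18 yc6 zc11) (kc xc24 yc15 zc24) (kc xc18 yc58 zc25) (kc xc24 yc15 zc25) (kc xc17 yc46 zc7) (kc xc23 yc49 zc37) (kc xc18 yc46 zc56) (kc xc23 yc49 zc38) (kc xc18 yc49 zc18) (kc xc21 yc44 zc3) (kc xc17 yc46 zc12) (kc xc18 yc14 zc19) (kc xc17 yc46 zc13) (kc xc32 yc25 zc58) (kc xc26 yc16 zc37) (kc xc18 yc14 zc18) (kc xc32 yc25 zc61) (kc xc24 yc15 zc26) (kc xc18 yc11 zc22) (kc xc18 yc11 zc21) (kc xc17 yc46 zc16) (kc xc32 yc26 zc0) (kc xc27 yc53 zc61) (kc xc18 yc49 zc33) (kc xc18 yc49 zc34) (kc xc18 yc54 zc50) (kc xc19 yc1 zc50)) (@D3.rec (fun _ => Pt) (kc xc22 yc34 zc35) (kc xc24 yc46 zc45) (kc xc22 yc8 zc43)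 (kc xc27 yc48 zc55) (kc xc26 yc13 zc38) (kc xc25 yc0 zc58) (kc xc17 yc46 zc25) (kc xc32 yc26 zc6) (kc xc21 yc12 zc33) (kc xc26 yc32 zc35) (kc xc23 yc6 zc32) (kc xc30 yc1 zc16) (kc xc20 yc21 zc13) (kc xc17 yc46 zc32) (kc xc28 yc6 zc14) (kc xc25 yc1 zc43) (kc xc20 yc21 zc37) (kc xc23 yc22 zc38) (kc xc20 yc21 zc12) (kc xc24 yc24 zc11) (kc xc24 yc23 zc60) (kc xc17 yc46 zc39) (kc xc32 yc26 zc13) (kc xc18 yc21 zc59) (kc xc29 yc51 zc59) (kc xc19 yc0 zc7) (kc xc18 yc58 zc44) (kc xc18 yc58 zc45) (kc xc25 yc40 zc12) (kc xc18 yc49 zc11) (kc xc30 yc40 zc32) (kc xc18 yc8 zc39) (kc xc31 yc5 zc52) (kc xc32 yc26 zc22) (kc xc32 yc26 zc23) (kc xc17 yc46 zc48) (kc xc27 yc35 zc19) (kc xc31 yc11 zc22) (kc xc17 yc46 zc51) (kc xc17 yc46 zc50) (kc xc19 yc5 zc4) (kc xc19 yc43 zc3) (kc xc18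 yc5 zc53) (kc xc17 yc46 zc58) (kc xc32 yc26 zc28) (kc xc20 yc6 zc31) (kc xc17 yc46 zc61) (kc xc29 yc25 zc13) (kc xc17 yc47 zc0) (kc xc27 yc54 zc9) (kc xc18 yc51 zc59) (kc xc27 yc51 zc45) (kc xc17 yc47 zc2) (kc xc22 yc34 zc46) (kc xc29 yc20 zc42) (kc xc29 yc20 zc41) (kc xc18 yc49 zc43) (kc xc31 yc15 zc35) (kc xc18 yc38 zc55) (kc xc18 yc22 zc6) (kc xc19 yc4 zc51) (kc xc19 yc4 zc55)) (@D3.rec (fun _ => Pt) (kc xc19 yc4 zc54) (kc xc17 yc47 zc6) (kc xc28 yc7 zc49) (kc xc17 yc47 zc9) (kc xc17 yc47 zc10) (kc xc32 yc26 zc34) (kc xc29 yc7 zc38) (kc xc17 yc47 zc12) (kc xc29 yc7 zc37) (kc xc27 yc34 zc22) (kc xc27 yc34 zc19) (kc xc19 yc1 zc37) (kc xc27 yc54 zc59) (kc xc18 yc56 zc13) (kc xc27 yc55 zc34) (kc xc18 yc49 zc42) (kc xc27 yc26 zc26) (kc xc27 yc55 zc36) (kc xc25 yc30 zc51)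 (kc xc27 yc34 zc10) (kc xc17 yc47 zc20) (kc xc18 yc56 zc36) (kc xc27 yc34 zc9) (kc xc26 yc17 zc42) (kc xc21 yc13 zc23) (kc xc18 yc8 zc44) (kc xc18 yc5 zc55) (kc xc18 yc28 zc61) (kc xc19 yc1 zc23) (kc xc18 yc59 zc60) (kc xc18 yc33 zc58) (kc xc17 yc47 zc29) (kc xc26 yc12 zc57) (kc xc17 yc47 zc30) (kc xc18 yc33 zc57) (kc xc28 yc46 zc4) (kc xc18 yc30 zc37) (kc xc18 yc30 zc36) (kc xc17 yc47 zc32) (kc xc22 yc35 zc6) (kc xc18 yc56 zc10) (kc xc18 yc56 zc11) (kc xc29 yc20 zc43) (kc xc18 yc59 zc39) (kc xc17 yc47 zc35) (kc xc28 yc16 zc9) (kc xc18 yc48 zc20) (kc xc18 yc6 zc46) (kc xc27 yc31 zc29) (kc xc17 yc47 zc42) (kc xc26 yc4 zc25) (kc xc24 yc40 zc28) (kc xc31 yc39 zc27) (kc xc30 yc35 zc39) (kc xc19 yc23 zc2) (kc xc18 yc16 zc47) (kc xc27 yc42 zc14) (kc xc27 yc59 zc45) (kc xc25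 yc58 zc4) (kc xc19 yc5 zc25) (kc xc18 yc16 zc9) (kc xc31 yc15 zc29)) (@D3.rec (fun _ => Pt) (kc xc19 yc5 zc17) (kc xc32 yc26 zc47) (kc xc27 yc54 zc33) (kc xc28 yc31 zc55) (kc xc18 yc38 zc52) (kc xc18 yc38 zc53) (kc xc19 yc0 zc19) (kc xc26 yc32 zc34) (kc xc20 yc27 zc23) (kc xc26 yc32 zc39) (kc xc20 yc10 zc42) (kc xc31 yc58 zc6) (kc xc18 yc30 zc11) (kc xc31 yc11 zc19) (kc xc18 yc56 zc5) (kc xc30 yc41 zc53) (kc xc32 yc26 zc54) (kc xc32 yc26 zc57) (kc xc17 yc47 zc60) (kc xc27 yc33 zc36) (kc xc31 yc8 zc47) (kc xc17 yc48 zc1) (kc xc17 yc48 zc0) (kc xc19 yc14 zc27) (kc xc24 yc56 zc23) (kc xc27 yc39 zc31) (kc xc19 yc57 zc47) (kc xc19 yc5 zc24) (kc xc17 yc48 zc8) (kc xc32 yc12 zc8) (kc xc26 yc35 zc19) (kc xc32 yc27 zc2) (kc xc17 yc48 zc11) (kc xc18 yc2 zc45) (kc xc19 yc44 zc46)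 (kc xc27 yc38 zc41) (kc xc27 yc41 zc6) (kc xc25 yc11 zc13) (kc xc27 yc20 zc28) (kc xc31 yc34 zc18) (kc xc27 yc46 zc15) (kc xc17 yc48 zc29) (kc xc19 yc41 zc23) (kc xc17 yc48 zc33) (kc xc19 yc50 zc23) (kc xc25 yc50 zc34) (kc xc17 yc48 zc36) (kc xc17 yc51 zc7) (kc xc25 yc50 zc11) (kc xc17 yc48 zc39) (kc xc29 yc2 zc38) (kc xc32 yc18 zc48) (kc xc17 yc48 zc43) (kc xc17 yc48 zc45) (kc xc24 yc34 zc19) (kc xc27 yc42 zc48) (kc xc17 yc49 zc31) (kc xc30 yc31 zc6) (kc xc17 yc48 zc52) (kc xc17 yc48 zc56) (kc xc30 yc15 zc3) (kc xc28 yc51 zc36)) (@D3.rec (fun _ => Pt) (kc xc28 yc56 zc60) (kc xc24 yc17 zc51) (kc xc30 yc26 zc2) (kc xc17 yc48 zc60) (kc xc20 yc57 zc16) (kc xc17 yc49 zc1) (kc xc17 yc49 zc2) (kc xc28 yc55 zc7) (kc xc17 yc49 zc4) (kc xc24 yc53 zc39) (kc xc32 yc27 zc9) (kc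 xc31 yc41 zc60) (kc xc28 yc55 zc16) (kc xc24 yc20 zc37) (kc xc17 yc49 zc12) (kc xc32 yc6 zc57) (kc xc32 yc6 zc56) (kc xc19 yc36 zc32) (kc xc28 yc7 zc56) (kc xc28 yc6 zc49) (kc xc27 yc49 zc52) (kc xc32 yc27 zc10) (kc xc31 yc48 zc14) (kc xc23 yc38 zc45) (kc xc19 yc11 zc45) (kc xc20 yc24 zc52) (kc xc19 yc18 zc1) (kc xc17 yc49 zc18) (kc xc19 yc4 zc3) (kc xc27 yc53 zc23) (kc xc18 yc53 zc21) (kc xc30 yc52 zc56) (kc xc24 yc49 zc41) (kc xc17 yc49 zc26) (kc xc19 yc18 zc6) (kc xc25 yc11 zc14) (kc xc17 yc49 zc29) (kc xc18 yc42 zc57) (kc xc31 yc47 zc1) (kc xc17 yc49 zc30) (kc xc26 yc35 zc42) (kc xc29 yc27 zc53) (kc xc17 yc49 zc33) (kc xc28 yc8 zc30) (kc xc18 yc35 zc39) (kc xc18 yc35 zc1) (kc xc28 yc37 zc59) (kc xc17 yc49 zc35) (kc xc27 yc42 zc36) (kc xc17 yc49 zc38) (kc xc23 yc11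 zc15) (kc xc17 yc49 zc40) (kc xc24 yc50 zc37) (kc xc17 yc49 zc47) (kc xc17 yc49 zc49) (kc xc17 yc49 zc51) (kc xc32 yc27 zc13) (kc xc17 yc49 zc52) (kc xc20 yc49 zc40) (kc xc25 yc21 zc24) (kc xc17 yc49 zc56) (kc xc20 yc30 zc33)) (@D3.rec (fun _ => Pt) (kc xc19 yc10 zc45) (kc xc32 yc18 zc11) (kc xc28 yc43 zc15) (kc xc19 yc9 zc15) (kc xc31 yc52 zc34) (kc xc19 yc9 zc23) (kc xc17 yc49 zc60) (kc xc31 yc40 zc33) (kc xc29 yc14 zc24) (kc xc22 yc12 zc0) (kc xc18 yc42 zc8) (kc xc19 yc14 zc1) (kc xc19 yc14 zc2) (kc xc29 yc44 zc17) (kc xc28 yc36 zc40) (kc xc19 yc3 zc22) (kc xc17 yc50 zc9) (kc xc31 yc42 zc1) (kc xc31 yc56 zc56) (kc xc29 yc2 zc20) (kc xc24 yc51 zc38) (kc xc32 yc27 zc22) (kc xc31 yc40 zc42) (kc xc19 yc16 zc14) (kc xc23 yc44 zc4) (kc xc25 yc43 zc15) (kc xc17 yc50 zc17)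 (kc xc27 yc31 zc10) (kc xc17 yc50 zc21) (kc xc27 yc57 zc9) (kc xc22 yc21 zc47) (kc xc20 yc3 zc28) (kc xc25 yc9 zc46) (kc xc29 yc25 zc39) (kc xc17 yc50 zc38) (kc xc27 yc50 zc61) (kc xc31 yc13 zc3) (kc xc29 yc6 zc19) (kc xc27 yc51 zc0) (kc xc25 yc10 zc31) (kc xc26 yc40 zc43) (kc xc17 yc50 zc44) (kc xc28 yc21 zc53) (kc xc17 yc50 zc46) (kc xc28 yc43 zc33) (kc xc18 yc32 zc30) (kc xc17 yc50 zc52) (kc xc19 yc20 zc4) (kc xc19 yc20 zc5) (kc xc22 yc36 zc13) (kc xc22 yc36 zc12) (kc xc29 yc43 zc13) (kc xc20 yc50 zc28) (kc xc17 yc50 zc58) (kc xc21 yc46 zc16) (kc xc17 yc51 zc0) (kc xc29 yc20 zc32) (kc xc31 yc14 zc16) (kc xc17 yc52 zc55) (kc xc28 yc26 zc48) (kc xc26 yc21 zc40) (kc xc29 yc13 zc0)) (@D3.rec (fun _ => Pt) (kc xc30 yc45 zc12) (kc xc28 yc42 zc57) (kc xc26 yc42 zc27) (kc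 xc17 yc51 zc21) (kc xc19 yc46 zc27) (kc xc18 yc39 zc42) (kc xc18 yc13 zc0) (kc xc17 yc52 zc7) (kc xc17 yc52 zc8) (kc xc25 yc20 zc10) (kc xc28 yc32 zc20) (kc xc17 yc51 zc35) (kc xc19 yc56 zc35) (kc xc19 yc24 zc12) (kc xc19 yc24 zc11) (kc xc29 yc41 zc18) (kc xc24 yc15 zc17) (kc xc24 yc33 zc3) (kc xc24 yc17 zc26) (kc xc17 yc51 zc39) (kc xc24 yc33 zc5) (kc xc30 yc17 zc52) (kc xc17 yc51 zc43) (kc xc28 yc10 zc7) (kc xc18 yc29 zc48) (kc xc17 yc51 zc48) (kc xc24 yc22 zc53) (kc xc31 yc59 zc28) (kc xc17 yc51 zc53) (kc xc18 yc21 zc56) (kc xc17 yc51 zc54) (kc xc32 yc27 zc26) (kc xc18 yc33 zc52) (kc xc31 yc11 zc47) (kc xc28 yc2 zc21) (kc xc23 yc33 zc53) (kc xc19 yc20 zc39) (kc xc17 yc51 zc60) (kc xc25 yc16 zc32) (kc xc27 yc49 zc45) (kc xc17 yc52 zc1) (kc xc27 yc35 zc35) (kc xc32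 yc27 zc27) (kc xc17 yc52 zc16) (kc xc29 yc54 zc21) (kc xc17 yc52 zc17) (kc xc17 yc52 zc18) (kc xc18 yc35 zc43) (kc xc27 yc28 zc41) (kc xc20 yc8 zc25) (kc xc17 yc52 zc27) (kc xc18 yc29 zc42) (kc xc18 yc25 zc40) (kc xc25 yc41 zc52) (kc xc18 yc17 zc51) (kc xc21 yc28 zc0) (kc xc30 yc11 zc28) (kc xc28 yc30 zc45) (kc xc32 yc24 zc38) (kc xc26 yc15 zc8) (kc xc17 yc52 zc52) (kc xc17 yc52 zc54)) (@D3.rec (fun _ => Pt) (kc xc31 yc58 zc14) (kc xc29 yc25 zc3) (kc xc32 yc27 zc12) (kc xc18 yc3 zc0) (kc xc17 yc53 zc0) (kc xc17 yc53 zc1) (kc xc18 yc40 zc39) (kc xc17 yc53 zc2) (kc xc18 yc23 zc0) (kc xc26 yc20 zc44) (kc xc21 yc53 zc32) (kc xc31 yc41 zc20) (kc xc25 yc49 zc50) (kc xc29 yc3 zc40) (kc xc17 yc57 zc3) (kc xc20 yc3 zc50) (kc xc24 yc26 zc41) (kc xc19 yc52 zc28) (kc xc27 yc22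 zc58) (kc xc19 yc47 zc57) (kc xc17 yc53 zc39) (kc xc26 yc56 zc45) (kc xc26 yc29 zc21) (kc xc26 yc29 zc33) (kc xc17 yc53 zc55) (kc xc17 yc53 zc56) (kc xc30 yc0 zc19) (kc xc29 yc27 zc44) (kc xc31 yc54 zc38) (kc xc17 yc54 zc1) (kc xc18 yc13 zc60) (kc xc27 yc35 zc25) (kc xc31 yc42 zc49) (kc xc25 yc35 zc9) (kc xc18 yc35 zc11) (kc xc28 yc3 zc50) (kc xc25 yc29 zc57) (kc xc17 yc54 zc7) (kc xc24 yc46 zc33) (kc xc32 yc25 zc26) (kc xc32 yc25 zc27) (kc xc17 yc54 zc11) (kc xc32 yc27 zc31) (kc xc22 yc49 zc49) (kc xc17 yc54 zc14) (kc xc32 yc26 zc8) (kc xc17 yc54 zc15) (kc xc32 yc6 zc33) (kc xc17 yc54 zc16) (kc xc28 yc43 zc23) (kc xc20 yc2 zc41) (kc xc17 yc54 zc18) (kc xc18 yc15 zc19) (kc xc17 yc54 zc20) (kc xc31 yc14 zc39) (kc xc26 yc32 zc13) (kc xc28 yc4 zc19) (kc xc27 yc30 zc45)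 (kc xc17 yc54 zc29) (kc xc17 yc54 zc30) (kc xc26 yc52 zc31) (kc xc26 yc20 zc1)) (@D3.rec (fun _ => Pt) (kc xc17 yc54 zc26) (kc xc17 yc54 zc24) (kc xc23 yc20 zc17) (kc xc17 yc54 zc25) (kc xc26 yc13 zc21) (kc xc17 yc54 zc27) (kc xc32 yc27 zc39) (kc xc17 yc54 zc28) (kc xc31 yc39 zc20) (kc xc31 yc15 zc23) (kc xc28 yc32 zc1) (kc xc31 yc39 zc21) (kc xc22 yc18 zc43) (kc xc25 yc3 zc27) (kc xc17 yc54 zc32) (kc xc17 yc54 zc34) (kc xc27 yc53 zc54) (kc xc22 yc18 zc14) (kc xc24 yc46 zc3) (kc xc27 yc21 zc15) (kc xc27 yc46 zc21) (kc xc17 yc54 zc43) (kc xc30 yc39 zc34) (kc xc32 yc25 zc30) (kc xc27 yc48 zc57) (kc xc17 yc54 zc48) (kc xc26 yc22 zc37) (kc xc29 yc8 zc45) (kc xc26 yc52 zc43) (kc xc20 yc44 zc20) (kc xc23 yc0 zc10) (kc xc20 yc11 zc40) (kc xc26 yc28 zc27) (kc xc29 yc1 zc51)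 (kc xc20 yc7 zc29) (kc xc17 yc55 zc7) (kc xc32 yc8 zc25) (kc xc17 yc55 zc10) (kc xc26 yc22 zc43) (kc xc26 yc19 zc15) (kc xc24 yc45 zc3) (kc xc26 yc21 zc60) (kc xc27 yc44 zc52) (kc xc26 yc19 zc17) (kc xc17 yc55 zc27) (kc xc21 yc30 zc6) (kc xc17 yc55 zc30) (kc xc22 yc4 zc41) (kc xc26 yc51 zc2) (kc xc21 yc30 zc52) (kc xc19 yc52 zc30) (kc xc17 yc56 zc34) (kc xc32 yc27 zc41) (kc xc24 yc28 zc5) (kc xc27 yc54 zc50) (kc xc27 yc53 zc44) (kc xc32 yc27 zc44) (kc xc17 yc55 zc49) (kc xc27 yc4 zc34) (kc xc29 yc22 zc59) (kc xc25 yc42 zc33) (kc xc30 yc41 zc0)) (@D3.rec (fun _ => Pt) (kc xc32 yc27 zc48) (kc xc20 yc34 zc12) (kc xc32 yc4 zc38) (kc xc30 yc31 zc46) (kc xc17 yc56 zc4) (kc xc20 yc17 zc3) (kc xc27 yc35 zc36) (kc xc20 yc32 zc58) (kc xc23 yc3 zc20) (kc xc31 yc37 zc0) (kc xc30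 yc37 zc18) (kc xc30 yc37 zc21) (kc xc20 yc26 zc24) (kc xc17 yc56 zc52) (kc xc31 yc35 zc38) (kc xc29 yc22 zc15) (kc xc24 yc39 zc50) (kc xc21 yc50 zc35) (kc xc23 yc39 zc1) (kc xc17 yc56 zc55) (kc xc26 yc52 zc52) (kc xc19 yc52 zc53) (kc xc27 yc56 zc1) (kc xc17 yc56 zc32) (kc xc28 yc9 zc11) (kc xc26 yc46 zc35) (kc xc17 yc56 zc38) (kc xc32 yc6 zc20) (kc xc28 yc9 zc35) (kc xc22 yc33 zc38) (kc xc31 yc1 zc40) (kc xc32 yc0 zc2) (kc xc25 yc6 zc46) (kc xc32 yc24 zc44) (kc xc17 yc56 zc53) (kc xc17 yc56 zc56) (kc xc30 yc53 zc13) (kc xc31 yc34 zc54) (kc xc17 yc56 zc58) (kc xc32 yc27 zc53) (kc xc28 yc34 zc38) (kc xc29 yc20 zc50) (kc xc29 yc20 zc49) (kc xc17 yc57 zc2) (kc xc32 yc27 zc55) (kc xc17 yc57 zc7) (kc xc28 yc23 zc24) (kc xc30 yc27 zc42) (kc xc21 yc4 zc16) (kc xc17 yc57 zc16)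 (kc xc18 yc54 zc29) (kc xc17 yc57 zc17) (kc xc30 yc50 zc59) (kc xc20 yc29 zc24) (kc xc17 yc57 zc20) (kc xc29 yc36 zc39) (kc xc17 yc57 zc19) (kc xc30 yc3 zc59) (kc xc29 yc38 zc21) (kc xc28 yc38 zc18) (kc xc30 yc46 zc41) (kc xc31 yc50 zc30)) (@D3.rec (fun _ => Pt) (kc xc25 yc50 zc6) (kc xc29 yc28 zc41) (kc xc32 yc27 zc57) (kc xc17 yc57 zc31) (kc xc28 yc36 zc30) (kc xc25 yc7 zc12) (kc xc25 yc54 zc29) (kc xc24 yc6 zc54) (kc xc29 yc41 zc58) (kc xc20 yc40 zc56) (kc xc29 yc12 zc17) (kc xc23 yc2 zc11) (kc xc19 yc24 zc43) (kc xc23 yc54 zc14) (kc xc27 yc34 zc56) (kc xc18 yc45 zc49) (kc xc18 yc23 zc10) (kc xc18 yc21 zc18) (kc xc18 yc21 zc19) (kc xc24 yc7 zc6) (kc xc21 yc33 zc58) (kc xc28 yc19 zc10) (kc xc30 yc48 zc7) (kc xc31 yc49 zc33) (kc xc17 yc58 zc24) (kc xc28 yc50 zc13)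 (kc xc17 yc58 zc34) (kc xc28 yc42 zc13) (kc xc20 yc38 zc26) (kc xc17 yc58 zc45) (kc xc23 yc54 zc38) (kc xc23 yc30 zc17) (kc xc22 yc44 zc60) (kc xc20 yc28 zc12) (kc xc29 yc49 zc52) (kc xc27 yc24 zc48) (kc xc27 yc36 zc48) (kc xc20 yc28 zc21) (kc xc32 yc27 zc61) (kc xc25 yc50 zc40) (kc xc19 yc39 zc51) (kc xc30 yc46 zc48) (kc xc28 yc42 zc29) (kc xc24 yc38 zc60) (kc xc25 yc5 zc46) (kc xc29 yc37 zc46) (kc xc29 yc37 zc47) (kc xc22 yc22 zc5) (kc xc27 yc35 zc55) (kc xc24 yc43 zc19) (kc xc32 yc14 zc9) (kc xc20 yc51 zc11) (kc xc21 yc52 zc21) (kc xc20 yc12 zc15) (kc xc18 yc46 zc52) (kc xc20 yc53 zc58) (kc xc21 yc52 zc22) (kc xc20 yc51 zc25) (kc xc29 yc5 zc42) (kc xc19 yc52 zc18) (kc xc22 yc17 zc40) (kc xc17 yc59 zc51)) (@D3.rec (fun _ => Pt) (kc xc30 yc21 zc5) (kc xc17 yc59 zc54)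 (kc xc30 yc27 zc53) (kc xc29 yc42 zc26) (kc xc21 yc47 zc25) (kc xc18 yc0 zc19) (kc xc20 yc47 zc8) (kc xc18 yc45 zc28) (kc xc24 yc14 zc51) (kc xc19 yc58 zc16) (kc xc24 yc57 zc6) (kc xc26 yc21 zc48) (kc xc25 yc26 zc37) (kc xc24 yc16 zc38) (kc xc23 yc20 zc55) (kc xc32 yc15 zc39) (kc xc18 yc0 zc40) (kc xc25 yc52 zc13) (kc xc30 yc17 zc49) (kc xc22 yc20 zc45) (kc xc29 yc22 zc50) (kc xc29 yc59 zc12) (kc xc27 yc20 zc38) (kc xc18 yc0 zc48) (kc xc24 yc19 zc34) (kc xc30 yc8 zc1) (kc xc24 yc41 zc61) (kc xc24 yc42 zc2) (kc xc30 yc8 zc25) (kc xc20 yc40 zc29) (kc xc27 yc3 zc19) (kc xc21 yc32 zc43) (kc xc29 yc59 zc22) (kc xc31 yc4 zc7) (kc xc18 yc7 zc43) (kc xc27 yc46 zc13) (kc xc26 yc59 zc51) (kc xc18 yc33 zc47) (kc xc24 yc51 zc0) (kc xc25 yc56 zc32) (kc xc22 yc22 zc0) (kc xc18 yc1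 zc25) (kc xc24 yc22 zc36) (kc xc24 yc50 zc58) (kc xc18 yc1 zc27) (kc xc25 yc15 zc31) (kc xc21 yc45 zc22) (kc xc29 yc17 zc10) (kc xc25 yc45 zc8) (kc xc20 yc9 zc56) (kc xc32 yc3 zc59) (kc xc29 yc31 zc30) (kc xc31 yc26 zc9) (kc xc27 yc0 zc16) (kc xc27 yc0 zc17) (kc xc32 yc13 zc51) (kc xc29 yc44 zc28) (kc xc20 yc57 zc8) (kc xc25 yc26 zc48) (kc xc32 yc17 zc5) (kc xc20 yc50 zc20) (kc xc18 yc25 zc53)) (@D3.rec (fun _ => Pt) (kc xc18 yc14 zc14) (kc xc18 yc1 zc50) (kc xc24 yc1 zc37) (kc xc24 yc1 zc38) (kc xc22 yc38 zc39) (kc xc24 yc12 zc57) (kc xc19 yc15 zc46) (kc xc20 yc7 zc3) (kc xc31 yc51 zc55) (kc xc31 yc48 zc24) (kc xc20 yc50 zc4) (kc xc25 yc30 zc4) (kc xc20 yc20 zc20) (kc xc18 yc2 zc14) (kc xc18 yc2 zc17) (kc xc29 yc15 zc21) (kc xc20 yc53 zc51) (kc xc21 yc48 zc28) (kc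 xc21 yc48 zc29) (kc xc18 yc2 zc29) (kc xc23 yc12 zc54) (kc xc18 yc2 zc33) (kc xc29 yc21 zc28) (kc xc21 yc4 zc22) (kc xc21 yc10 zc36) (kc xc18 yc2 zc38) (kc xc32 yc10 zc11) (kc xc32 yc28 zc9) (kc xc18 yc2 zc42) (kc xc19 yc18 zc31) (kc xc21 yc23 zc31) (kc xc23 yc43 zc25) (kc xc30 yc1 zc0) (kc xc18 yc2 zc47) (kc xc25 yc49 zc36) (kc xc19 yc28 zc2) (kc xc18 yc2 zc57) (kc xc19 yc45 zc60) (kc xc18 yc2 zc58) (kc xc26 yc9 zc2) (kc xc18 yc29 zc25) (kc xc23 yc16 zc55) (kc xc26 yc9 zc4) (kc xc18 yc2 zc61) (kc xc20 yc24 zc41) (kc xc26 yc9 zc49) (kc xc25 yc19 zc33) (kc xc25 yc19 zc32) (kc xc21 yc20 zc54) (kc xc21 yc30 zc48) (kc xc23 yc31 zc5) (kc xc27 yc24 zc55) (kc xc27 yc40 zc42) (kc xc23 yc24 zc57) (kc xc21 yc8 zc59) (kc xc28 yc3 zc54) (kc xc29 yc50 zc25) (kc xc26 yc7 zc7) (kc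 xc31 yc44 zc52) (kc xc27 yc57 zc47) (kc xc26 yc7 zc5) (kc xc27 yc31 zc56)) (@D3.rec (fun _ => Pt) (kc xc26 yc32 zc8) (kc xc26 yc18 zc44) (kc xc30 yc2 zc33) (kc xc31 yc6 zc2) (kc xc18 yc3 zc23) (kc xc28 yc21 zc9) (kc xc28 yc21 zc8) (kc xc22 yc37 zc12) (kc xc29 yc22 zc43) (kc xc18 yc3 zc32) (kc xc27 yc30 zc40) (kc xc23 yc35 zc31) (kc xc24 yc42 zc19) (kc xc24 yc56 zc22) (kc xc18 yc3 zc41) (kc xc21 yc25 zc52) (kc xc18 yc3 zc42) (kc xc21 yc54 zc44) (kc xc18 yc46 zc46) (kc xc28 yc1 zc28) (kc xc18 yc3 zc44) (kc xc22 yc18 zc46) (kc xc31 yc26 zc43) (kc xc18 yc46 zc51) (kc xc27 yc26 zc28) (kc xc29 yc49 zc53) (kc xc24 yc42 zc4) (kc xc18 yc5 zc48) (kc xc18 yc3 zc49) (kc xc24 yc30 zc54) (kc xc18 yc3 zc50) (kc xc25 yc39 zc18) (kc xc31 yc39 zc17) (kc xc28 yc6 zc8) (kc xc31 yc39 zc22)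 (kc xc24 yc56 zc27) (kc xc25 yc3 zc17) (kc xc27 yc26 zc27) (kc xc18 yc3 zc60) (kc xc18 yc8 zc8) (kc xc22 yc15 zc9) (kc xc22 yc28 zc8) (kc xc31 yc56 zc18) (kc xc25 yc1 zc13) (kc xc18 yc4 zc4) (kc xc18 yc4 zc5) (kc xc31 yc38 zc7) (kc xc22 yc49 zc37) (kc xc18 yc4 zc8) (kc xc31 yc37 zc21) (kc xc18 yc4 zc9) (kc xc26 yc14 zc17) (kc xc26 yc14 zc18) (kc xc26 yc14 zc34) (kc xc29 yc54 zc34) (kc xc28 yc13 zc36) (kc xc18 yc4 zc14) (kc xc23 yc52 zc0) (kc xc18 yc53 zc45) (kc xc24 yc46 zc41) (kc xc18 yc4 zc20) (kc xc18 yc4 zc26)) (@D3.rec (fun _ => Pt) (kc xc18 yc4 zc27) (kc xc18 yc4 zc31) (kc xc18 yc4 zc32) (kc xc21 yc26 zc8) (kc xc27 yc31 zc50) (kc xc32 yc28 zc21) (kc xc32 yc25 zc39) (kc xc18 yc4 zc39) (kc xc24 yc47 zc45) (kc xc32 yc28 zc22) (kc xc27 yc11 zc19) (kc xc32 yc28 zc23)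 (kc xc18 yc21 zc40) (kc xc27 yc43 zc35) (kc xc23 yc12 zc41) (kc xc27 yc35 zc40) (kc xc27 yc25 zc61) (kc xc27 yc24 zc38) (kc xc18 yc4 zc50) (kc xc25 yc0 zc15) (kc xc32 yc7 zc26) (kc xc27 yc40 zc20) (kc xc18 yc4 zc54) (kc xc20 yc31 zc34) (kc xc18 yc4 zc59) (kc xc30 yc23 zc13) (kc xc19 yc18 zc49) (kc xc25 yc0 zc14) (kc xc25 yc53 zc56) (kc xc18 yc24 zc18) (kc xc31 yc35 zc44) (kc xc18 yc39 zc28) (kc xc27 yc59 zc33) (kc xc18 yc11 zc12) (kc xc18 yc11 zc13) (kc xc19 yc8 zc40) (kc xc18 yc5 zc20) (kc xc18 yc32 zc25) (kc xc30 yc30 zc50) (kc xc28 yc25 zc41) (kc xc32 yc6 zc44) (kc xc26 yc19 zc9) (kc xc18 yc5 zc26) (kc xc27 yc48 zc31) (kc xc18 yc5 zc27) (kc xc30 yc12 zc60) (kc xc27 yc48 zc17) (kc xc18 yc5 zc28) (kc xc28 yc42 zc54) (kc xc29 yc17 zc28) (kc xc28 yc5 zc29) (kc xc24 yc51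 zc19) (kc xc32 yc8 zc20) (kc xc32 yc28 zc26) (kc xc28 yc32 zc29) (kc xc18 yc5 zc42) (kc xc18 yc5 zc43) (kc xc22 yc50 zc49) (kc xc25 yc41 zc8) (kc xc31 yc37 zc31) (kc xc29 yc12 zc45) (kc xc31 yc46 zc27)) (@D3.rec (fun _ => Pt) (kc xc18 yc5 zc47) (kc xc28 yc3 zc3) (kc xc27 yc49 zc58) (kc xc18 yc5 zc52) (kc xc32 yc28 zc29) (kc xc32 yc10 zc12) (kc xc24 yc55 zc51) (kc xc25 yc30 zc60) (kc xc25 yc30 zc59) (kc xc18 yc5 zc58) (kc xc23 yc52 zc19) (kc xc18 yc28 zc3) (kc xc25 yc27 zc53) (kc xc22 yc2 zc27) (kc xc24 yc45 zc53) (kc xc19 yc2 zc2) (kc xc21 yc49 zc7) (kc xc21 yc49 zc6) (kc xc30 yc44 zc34) (kc xc30 yc31 zc60) (kc xc31 yc42 zc53) (kc xc22 yc43 zc57) (kc xc18 yc7 zc6) (kc xc18 yc6 zc17) (kc xc19 yc6 zc34) (kc xc18 yc34 zc51) (kc xc18 yc6 zc25) (kc xc24 yc43 zc58) (kc xc30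 yc13 zc59) (kc xc18 yc6 zc29) (kc xc28 yc25 zc46) (kc xc28 yc7 zc40) (kc xc31 yc14 zc43) (kc xc19 yc2 zc11) (kc xc27 yc51 zc10) (kc xc25 yc15 zc54) (kc xc23 yc23 zc55) (kc xc18 yc55 zc11) (kc xc19 yc0 zc39) (kc xc25 yc1 zc2) (kc xc18 yc55 zc9) (kc xc18 yc6 zc45) (kc xc18 yc6 zc44) (kc xc32 yc26 zc3) (kc xc23 yc21 zc25) (kc xc18 yc6 zc51) (kc xc18 yc6 zc50) (kc xc21 yc10 zc43) (kc xc26 yc13 zc30) (kc xc26 yc30 zc20) (kc xc26 yc31 zc7) (kc xc18 yc6 zc53) (kc xc21 yc14 zc59) (kc xc25 yc6 zc42) (kc xc18 yc6 zc59) (kc xc27 yc27 zc54) (kc xc23 yc21 zc26) (kc xc32 yc6 zc0) (kc xc27 yc48 zc6) (kc xc32 yc19 zc48) (kc xc18 yc7 zc13) (kc xc18 yc7 zc16)) (@D3.rec (fun _ => Pt) (kc xc27 yc48 zc7) (kc xc21 yc7 zc8) (kc xc32 yc4 zc45) (kc xc18 yc7 zc23) (kc xc32 yc6 zc1) (kc xc30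 yc6 zc21) (kc xc27 yc47 zc58) (kc xc27 yc48 zc0) (kc xc28 yc9 zc39) (kc xc18 yc7 zc42) (kc xc26 yc16 zc15) (kc xc21 yc44 zc34) (kc xc31 yc0 zc32) (kc xc25 yc15 zc53) (kc xc18 yc7 zc50) (kc xc21 yc25 zc59) (kc xc28 yc49 zc46) (kc xc27 yc46 zc46) (kc xc18 yc7 zc56) (kc xc25 yc29 zc47) (kc xc26 yc16 zc47) (kc xc21 yc50 zc8) (kc xc18 yc7 zc60) (kc xc23 yc41 zc30) (kc xc26 yc15 zc47) (kc xc26 yc18 zc24) (kc xc28 yc19 zc12) (kc xc27 yc31 zc52) (kc xc26 yc16 zc11) (kc xc24 yc44 zc12) (kc xc27 yc56 zc2) (kc xc27 yc46 zc43) (kc xc27 yc56 zc3) (kc xc18 yc8 zc16) (kc xc27 yc26 zc51) (kc xc18 yc18 zc7) (kc xc26 yc14 zc29) (kc xc18 yc8 zc21) (kc xc31 yc0 zc57) (kc xc18 yc8 zc22) (kc xc27 yc50 zc20) (kc xc28 yc31 zc48) (kc xc32 yc26 zc5) (kc xc18 yc8 zc26) (kc xc18 yc8 zc28) (kc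 xc21 yc55 zc37) (kc xc32 yc28 zc37) (kc xc31 yc44 zc9) (kc xc18 yc8 zc30) (kc xc29 yc29 zc54) (kc xc32 yc28 zc38) (kc xc18 yc8 zc33) (kc xc28 yc25 zc49) (kc xc32 yc28 zc39) (kc xc28 yc7 zc2) (kc xc27 yc33 zc3) (kc xc18 yc8 zc38) (kc xc27 yc40 zc24) (kc xc32 yc12 zc61) (kc xc30 yc45 zc56) (kc xc32 yc7 zc47) (kc xc18 yc8 zc40)) (@D3.rec (fun _ => Pt) (kc xc29 yc54 zc32) (kc xc18 yc8 zc43) (kc xc18 yc12 zc44) (kc xc27 yc55 zc35) (kc xc25 yc3 zc33) (kc xc25 yc3 zc32) (kc xc31 yc7 zc10) (kc xc31 yc19 zc12) (kc xc18 yc8 zc49) (kc xc27 yc28 zc50) (kc xc22 yc34 zc58) (kc xc20 yc21 zc4) (kc xc21 yc12 zc35) (kc xc29 yc53 zc5) (kc xc22 yc51 zc51) (kc xc21 yc10 zc47) (kc xc28 yc12 zc52) (kc xc28 yc20 zc52) (kc xc18 yc56 zc4) (kc xc31 yc16 zc33) (kc xc30 yc34 zc45) (kc xc29 yc20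 zc17) (kc xc28 yc5 zc5) (kc xc30 yc50 zc10) (kc xc18 yc10 zc16) (kc xc28 yc21 zc54) (kc xc18 yc9 zc5) (kc xc28 yc21 zc58) (kc xc32 yc28 zc48) (kc xc31 yc59 zc45) (kc xc18 yc51 zc5) (kc xc28 yc19 zc58) (kc xc25 yc27 zc29) (kc xc18 yc46 zc19) (kc xc25 yc35 zc6) (kc xc31 yc55 zc15) (kc xc25 yc35 zc15) (kc xc18 yc35 zc23) (kc xc25 yc26 zc61) (kc xc31 yc44 zc15) (kc xc31 yc38 zc33) (kc xc18 yc9 zc15) (kc xc20 yc21 zc38) (kc xc31 yc25 zc61) (kc xc18 yc9 zc19) (kc xc27 yc38 zc39) (kc xc18 yc53 zc57) (kc xc18 yc9 zc24) (kc xc18 yc9 zc23) (kc xc32 yc28 zc53) (kc xc18 yc10 zc45) (kc xc32 yc28 zc56) (kc xc27 yc36 zc20) (kc xc20 yc29 zc47) (kc xc26 yc45 zc6) (kc xc18 yc22 zc20) (kc xc25 yc46 zc48) (kc xc29 yc52 zc25) (kc xc27 yc47 zc2) (kc xc18 yc9 zc33) (kc xc22 yc18 zc10) (kc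 xc30 yc35 zc40)) (@D3.rec (fun _ => Pt) (kc xc28 yc4 zc51) (kc xc31 yc37 zc12) (kc xc28 yc44 zc10) (kc xc26 yc4 zc31) (kc xc21 yc13 zc26) (kc xc26 yc4 zc27) (kc xc26 yc4 zc29) (kc xc26 yc32 zc43) (kc xc26 yc12 zc24) (kc xc23 yc22 zc39) (kc xc28 yc11 zc13) (kc xc22 yc14 zc60) (kc xc26 yc27 zc3) (kc xc21 yc34 zc57) (kc xc32 yc27 zc45) (kc xc20 yc21 zc14) (kc xc18 yc36 zc7) (kc xc22 yc15 zc29) (kc xc26 yc39 zc41) (kc xc21 yc12 zc47) (kc xc27 yc48 zc40) (kc xc27 yc4 zc46) (kc xc30 yc7 zc30) (kc xc20 yc10 zc55) (kc xc31 yc56 zc13) (kc xc21 yc31 zc38) (kc xc18 yc58 zc30) (kc xc32 yc29 zc8) (kc xc18 yc19 zc40) (kc xc20 yc46 zc48) (kc xc27 yc50 zc50) (kc xc27 yc50 zc49) (kc xc23 yc43 zc12) (kc xc18 yc10 zc5) (kc xc18 yc10 zc8) (kc xc22 yc11 zc40) (kc xc22 yc11 zc44) (kc xc18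 yc10 zc10) (kc xc27 yc31 zc12) (kc xc18 yc10 zc15) (kc xc23 yc49 zc40) (kc xc18 yc10 zc21) (kc xc18 yc10 zc26) (kc xc28 yc6 zc25) (kc xc18 yc55 zc33) (kc xc23 yc7 zc36) (kc xc18 yc55 zc34) (kc xc18 yc10 zc35) (kc xc18 yc11 zc36) (kc xc27 yc50 zc31) (kc xc27 yc50 zc30) (kc xc18 yc10 zc38) (kc xc30 yc46 zc53) (kc xc28 yc11 zc8) (kc xc21 yc7 zc46) (kc xc21 yc7 zc47) (kc xc27 yc59 zc16) (kc xc27 yc59 zc17) (kc xc28 yc19 zc20) (kc xc30 yc38 zc53) (kc xc24 yc18 zc7) (kc xc27 yc37 zc35)) (@D3.rec (fun _ => Pt) (kc xc27 yc37 zc38) (kc xc30 yc49 zc21) (kc xc18 yc10 zc54) (kc xc19 yc35 zc14) (kc xc24 yc20 zc36) (kc xc28 yc11 zc12) (kc xc18 yc38 zc48) (kc xc18 yc10 zc58) (kc xc25 yc16 zc38) (kc xc18 yc35 zc28) (kc xc27 yc47 zc34) (kc xc18 yc10 zc60) (kc xc31 yc43 zc32) (kc xc32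 yc25 zc25) (kc xc18 yc35 zc27) (kc xc18 yc11 zc0) (kc xc18 yc11 zc1) (kc xc18 yc11 zc5) (kc xc18 yc11 zc6) (kc xc31 yc25 zc38) (kc xc19 yc10 zc21) (kc xc18 yc11 zc9) (kc xc32 yc24 zc11) (kc xc28 yc3 zc22) (kc xc20 yc21 zc47) (kc xc28 yc23 zc9) (kc xc18 yc55 zc16) (kc xc28 yc22 zc3) (kc xc28 yc22 zc5) (kc xc28 yc23 zc15) (kc xc23 yc11 zc35) (kc xc28 yc30 zc60) (kc xc28 yc18 zc8) (kc xc29 yc10 zc54) (kc xc19 yc3 zc18) (kc xc19 yc3 zc19) (kc xc31 yc56 zc48) (kc xc24 yc12 zc35) (kc xc18 yc11 zc20) (kc xc30 yc26 zc28) (kc xc29 yc24 zc53) (kc xc32 yc29 zc20) (kc xc28 yc23 zc35) (kc xc32 yc7 zc53) (kc xc27 yc2 zc54) (kc xc27 yc33 zc51) (kc xc32 yc29 zc23) (kc xc32 yc29 zc25) (kc xc18 yc11 zc24) (kc xc22 yc53 zc30) (kc xc20 yc21 zc22) (kc xc31 yc56 zc29) (kc xc22 yc19 zc60)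 (kc xc22 yc19 zc61) (kc xc25 yc31 zc43) (kc xc31 yc54 zc24) (kc xc30 yc1 zc46) (kc xc18 yc19 zc30) (kc xc26 yc19 zc23) (kc xc18 yc59 zc35) (kc xc26 yc28 zc54) (kc xc25 yc48 zc14)) (@D3.rec (fun _ => Pt) (kc xc25 yc48 zc13) (kc xc27 yc59 zc52) (kc xc28 yc32 zc35) (kc xc25 yc1 zc47) (kc xc19 yc4 zc52) (kc xc19 yc5 zc15) (kc xc18 yc26 zc53) (kc xc18 yc11 zc35) (kc xc28 yc36 zc28) (kc xc25 yc24 zc3) (kc xc22 yc50 zc27) (kc xc28 yc53 zc38) (kc xc28 yc45 zc29) (kc xc28 yc45 zc1) (kc xc28 yc8 zc11) (kc xc22 yc50 zc26) (kc xc25 yc48 zc4) (kc xc22 yc20 zc19) (kc xc19 yc20 zc11) (kc xc26 yc45 zc25) (kc xc26 yc20 zc50) (kc xc20 yc46 zc46) (kc xc28 yc7 zc17) (kc xc23 yc49 zc39) (kc xc23 yc50 zc43) (kc xc26 yc18 zc5) (kc xc18 yc11 zc48) (kc xc32 yc5 zc59) (kc xc28 yc2 zc0) (kc xc32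 yc29 zc44) (kc xc23 yc9 zc20) (kc xc25 yc6 zc45) (kc xc24 yc54 zc54) (kc xc27 yc25 zc50) (kc xc28 yc32 zc33) (kc xc28 yc32 zc34) (kc xc22 yc34 zc33) (kc xc28 yc38 zc21) (kc xc28 yc38 zc45) (kc xc28 yc5 zc9) (kc xc23 yc50 zc31) (kc xc20 yc10 zc57) (kc xc27 yc58 zc16) (kc xc29 yc31 zc59) (kc xc20 yc11 zc16) (kc xc28 yc10 zc3) (kc xc27 yc58 zc20) (kc xc19 yc20 zc52) (kc xc28 yc37 zc20) (kc xc19 yc15 zc48) (kc xc20 yc10 zc5) (kc xc18 yc12 zc47) (kc xc27 yc2 zc49) (kc xc32 yc24 zc19) (kc xc18 yc55 zc15) (kc xc22 yc55 zc46) (kc xc18 yc15 zc7) (kc xc18 yc12 zc12) (kc xc32 yc29 zc52) (kc xc32 yc29 zc54) (kc xc19 yc8 zc38) (kc xc29 yc21 zc39)) (@D3.rec (fun _ => Pt) (kc xc30 yc23 zc59) (kc xc31 yc17 zc24) (kc xc27 yc30 zc20) (kc xc22 yc20 zc4) (kc xc28 yc36 zc5) (kc xc30 yc51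 zc23) (kc xc22 yc20 zc9) (kc xc18 yc12 zc18) (kc xc31 yc25 zc52) (kc xc32 yc5 zc60) (kc xc27 yc29 zc4) (kc xc26 yc31 zc60) (kc xc18 yc12 zc23) (kc xc32 yc29 zc58) (kc xc26 yc24 zc23) (kc xc30 yc54 zc60) (kc xc25 yc34 zc6) (kc xc18 yc26 zc52) (kc xc28 yc25 zc22) (kc xc20 yc10 zc60) (kc xc22 yc33 zc37) (kc xc26 yc52 zc42) (kc xc28 yc46 zc23) (kc xc27 yc36 zc29) (kc xc23 yc9 zc16) (kc xc22 yc52 zc7) (kc xc22 yc52 zc6) (kc xc18 yc12 zc48) (kc xc29 yc19 zc52) (kc xc19 yc34 zc47) (kc xc18 yc12 zc55) (kc xc18 yc43 zc37) (kc xc29 yc3 zc33) (kc xc18 yc12 zc59) (kc xc32 yc30 zc2) (kc xc20 yc3 zc48) (kc xc26 yc12 zc51) (kc xc26 yc16 zc38) (kc xc18 yc28 zc26) (kc xc31 yc8 zc38) (kc xc32 yc26 zc24) (kc xc18 yc13 zc7) (kc xc18 yc54 zc42) (kc xc18 yc13 zc49) (kc xc27 yc40 zc55) (kc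 xc29 yc52 zc22) (kc xc18 yc15 zc26) (kc xc23 yc49 zc60) (kc xc31 yc7 zc43) (kc xc18 yc13 zc16) (kc xc28 yc19 zc17) (kc xc29 yc49 zc28) (kc xc20 yc20 zc54) (kc xc22 yc14 zc61) (kc xc27 yc40 zc16) (kc xc22 yc15 zc30) (kc xc31 yc14 zc25) (kc xc22 yc18 zc54) (kc xc22 yc28 zc52) (kc xc19 yc13 zc6) (kc xc18 yc47 zc24) (kc xc27 yc32 zc57)) (@D3.rec (fun _ => Pt) (kc xc18 yc13 zc33) (kc xc18 yc13 zc34) (kc xc23 yc49 zc54) (kc xc18 yc49 zc39) (kc xc23 yc49 zc41) (kc xc18 yc35 zc37) (kc xc18 yc13 zc41) (kc xc28 yc17 zc54) (kc xc24 yc40 zc35) (kc xc27 yc33 zc49) (kc xc19 yc42 zc23) (kc xc18 yc13 zc42) (kc xc21 yc7 zc48) (kc xc18 yc38 zc7) (kc xc21 yc7 zc45) (kc xc29 yc26 zc38) (kc xc18 yc13 zc51) (kc xc18 yc36 zc3) (kc xc18 yc13 zc52) (kc xc27 yc9 zc26) (kc xc18 yc13 zc53) (kc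 xc18 yc36 zc2) (kc xc28 yc24 zc23) (kc xc18 yc13 zc59) (kc xc22 yc25 zc33) (kc xc18 yc30 zc18) (kc xc30 yc45 zc22) (kc xc18 yc14 zc1) (kc xc21 yc51 zc48) (kc xc19 yc0 zc57) (kc xc18 yc14 zc11) (kc xc20 yc47 zc52) (kc xc20 yc47 zc49) (kc xc27 yc35 zc2) (kc xc28 yc23 zc8) (kc xc32 yc25 zc57) (kc xc27 yc14 zc60) (kc xc27 yc29 zc47) (kc xc32 yc8 zc28) (kc xc32 yc30 zc13) (kc xc28 yc29 zc11) (kc xc22 yc7 zc24) (kc xc18 yc34 zc59) (kc xc20 yc27 zc16) (kc xc29 yc52 zc24) (kc xc24 yc42 zc10) (kc xc18 yc14 zc32) (kc xc18 yc45 zc10) (kc xc18 yc59 zc45) (kc xc26 yc19 zc4) (kc xc27 yc40 zc54) (kc xc27 yc14 zc56) (kc xc32 yc24 zc20) (kc xc20 yc11 zc29) (kc xc18 yc14 zc39) (kc xc30 yc24 zc13) (kc xc18 yc14 zc41) (kc xc31 yc23 zc28) (kc xc31 yc23 zc27) (kc xc27 yc34 zc12) (kc xc32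 yc30 zc17) (kc xc25 yc46 zc7)) (@D3.rec (fun _ => Pt) (kc xc22 yc29 zc31) (kc xc18 yc31 zc48) (kc xc18 yc31 zc45) (kc xc22 yc7 zc25) (kc xc24 yc12 zc44) (kc xc24 yc12 zc20) (kc xc27 yc16 zc42) (kc xc28 yc19 zc2) (kc xc28 yc33 zc41) (kc xc19 yc20 zc14) (kc xc25 yc48 zc6) (kc xc25 yc43 zc38) (kc xc27 yc29 zc51) (kc xc27 yc16 zc49) (kc xc18 yc50 zc60) (kc xc26 yc20 zc58) (kc xc22 yc18 zc55) (kc xc27 yc27 zc31) (kc xc28 yc12 zc36) (kc xc29 yc15 zc28) (kc xc19 yc18 zc55) (kc xc18 yc47 zc26) (kc xc21 yc34 zc55) (kc xc29 yc54 zc24) (kc xc25 yc0 zc10) (kc xc25 yc46 zc1) (kc xc24 yc53 zc58) (kc xc18 yc34 zc53) (kc xc25 yc26 zc60) (kc xc29 yc26 zc1) (kc xc18 yc36 zc40) (kc xc18 yc37 zc18) (kc xc32 yc27 zc52) (kc xc18 yc37 zc27) (kc xc27 yc34 zc14) (kc xc27 yc49 zc3) (kc xc27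 yc34 zc17) (kc xc28 yc23 zc34) (kc xc29 yc19 zc56) (kc xc23 yc49 zc43) (kc xc21 yc47 zc6) (kc xc18 yc56 zc44) (kc xc28 yc22 zc52) (kc xc18 yc15 zc47) (kc xc30 yc36 zc22) (kc xc30 yc32 zc10) (kc xc18 yc39 zc19) (kc xc18 yc15 zc56) (kc xc30 yc56 zc14) (kc xc23 yc11 zc40) (kc xc30 yc24 zc15) (kc xc19 yc55 zc56) (kc xc30 yc52 zc32) (kc xc18 yc15 zc58) (kc xc18 yc42 zc31) (kc xc30 yc24 zc31) (kc xc18 yc16 zc2) (kc xc18 yc16 zc3) (kc xc27 yc22 zc56) (kc xc24 yc40 zc30) (kc xc23 yc46 zc27) (kc xc18 yc48 zc27)) (@D3.rec (fun _ => Pt) (kc xc26 yc53 zc43) (kc xc27 yc41 zc22) (kc xc27 yc48 zc30) (kc xc27 yc48 zc32) (kc xc18 yc48 zc29) (kc xc18 yc16 zc35) (kc xc29 yc48 zc48) (kc xc31 yc6 zc10) (kc xc18 yc16 zc55) (kc xc18 yc16 zc53) (kc xc27 yc17 zc18) (kc xc27 yc1 zc43) (kc xc29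 yc55 zc33) (kc xc28 yc58 zc26) (kc xc27 yc58 zc56) (kc xc28 yc27 zc16) (kc xc18 yc16 zc58) (kc xc19 yc22 zc29) (kc xc25 yc43 zc11) (kc xc18 yc17 zc16) (kc xc18 yc26 zc11) (kc xc28 yc10 zc26) (kc xc21 yc25 zc55) (kc xc18 yc17 zc23) (kc xc22 yc16 zc55) (kc xc18 yc17 zc26) (kc xc18 yc17 zc25) (kc xc18 yc17 zc27) (kc xc31 yc2 zc59) (kc xc32 yc30 zc29) (kc xc30 yc41 zc24) (kc xc18 yc17 zc35) (kc xc32 yc30 zc32) (kc xc19 yc6 zc24) (kc xc18 yc17 zc37) (kc xc32 yc26 zc58) (kc xc32 yc30 zc23) (kc xc31 yc53 zc24) (kc xc19 yc31 zc34) (kc xc18 yc17 zc43) (kc xc20 yc59 zc21) (kc xc27 yc57 zc2) (kc xc18 yc17 zc52) (kc xc18 yc17 zc53) (kc xc18 yc17 zc55) (kc xc18 yc40 zc34) (kc xc18 yc40 zc35) (kc xc25 yc45 zc4) (kc xc32 yc3 zc40) (kc xc24 yc51 zc1) (kc xc30 yc0 zc2) (kc xc30 yc1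 zc9) (kc xc18 yc18 zc58) (kc xc20 yc59 zc37) (kc xc18 yc18 zc8) (kc xc31 yc35 zc7) (kc xc18 yc18 zc9) (kc xc23 yc31 zc44) (kc xc23 yc17 zc41) (kc xc18 yc19 zc0) (kc xc18 yc18 zc53) (kc xc29 yc44 zc37)) (@D3.rec (fun _ => Pt) (kc xc29 yc47 zc20) (kc xc18 yc18 zc17) (kc xc27 yc56 zc41) (kc xc22 yc4 zc36) (kc xc18 yc18 zc57) (kc xc18 yc18 zc49) (kc xc21 yc59 zc54) (kc xc20 yc59 zc36) (kc xc30 yc59 zc34) (kc xc27 yc37 zc29) (kc xc18 yc18 zc26) (kc xc30 yc58 zc61) (kc xc30 yc55 zc13) (kc xc23 yc31 zc1) (kc xc18 yc18 zc30) (kc xc21 yc59 zc52) (kc xc31 yc6 zc0) (kc xc23 yc32 zc49) (kc xc30 yc13 zc40) (kc xc26 yc9 zc0) (kc xc28 yc44 zc25) (kc xc27 yc21 zc6) (kc xc28 yc44 zc26) (kc xc31 yc29 zc7) (kc xc31 yc51 zc4) (kc xc29 yc9 zc51) (kc xc30 yc55 zc7) (kc xc18 yc18 zc48) (kc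 xc23 yc37 zc41) (kc xc23 yc29 zc37) (kc xc18 yc18 zc51) (kc xc28 yc32 zc6) (kc xc30 yc13 zc33) (kc xc18 yc18 zc52) (kc xc30 yc13 zc34) (kc xc20 yc33 zc13) (kc xc18 yc18 zc55) (kc xc28 yc0 zc52) (kc xc28 yc13 zc47) (kc xc24 yc31 zc1) (kc xc31 yc7 zc5) (kc xc23 yc20 zc11) (kc xc18 yc18 zc60) (kc xc23 yc17 zc12) (kc xc23 yc17 zc13) (kc xc31 yc1 zc1) (kc xc32 yc3 zc49) (kc xc27 yc44 zc59) (kc xc24 yc43 zc61) (kc xc24 yc43 zc59) (kc xc18 yc21 zc15) (kc xc21 yc30 zc14) (kc xc18 yc21 zc14) (kc xc18 yc22 zc48) (kc xc24 yc23 zc39) (kc xc18 yc19 zc16) (kc xc27 yc3 zc37) (kc xc19 yc5 zc45) (kc xc18 yc19 zc12) (kc xc18 yc40 zc46) (kc xc30 yc33 zc54) (kc xc23 yc17 zc36)) (@D3.rec (fun _ => Pt) (kc xc24 yc42 zc40) (kc xc23 yc21 zc35) (kc xc23 yc33 zc5) (kc xc31 yc5 zc28) (kc xc30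 yc33 zc16) (kc xc32 yc4 zc36) (kc xc32 yc30 zc47) (kc xc23 yc38 zc29) (kc xc18 yc19 zc19) (kc xc22 yc43 zc50) (kc xc24 yc28 zc22) (kc xc21 yc34 zc23) (kc xc30 yc58 zc55) (kc xc29 yc57 zc43) (kc xc18 yc19 zc26) (kc xc31 yc44 zc57) (kc xc27 yc52 zc42) (kc xc32 yc30 zc1) (kc xc30 yc45 zc25) (kc xc32 yc30 zc48) (kc xc27 yc52 zc46) (kc xc32 yc30 zc49) (kc xc22 yc51 zc41) (kc xc30 yc48 zc56) (kc xc18 yc19 zc35) (kc xc18 yc19 zc39) (kc xc23 yc34 zc9) (kc xc25 yc10 zc58) (kc xc22 yc17 zc17) (kc xc29 yc31 zc58) (kc xc25 yc47 zc22) (kc xc18 yc19 zc46) (kc xc18 yc19 zc47) (kc xc22 yc18 zc35) (kc xc18 yc19 zc49) (kc xc18 yc19 zc50) (kc xc32 yc1 zc45) (kc xc32 yc1 zc44) (kc xc32 yc2 zc42) (kc xc19 yc37 zc14) (kc xc18 yc33 zc48) (kc xc18 yc19 zc59) (kc xc29 yc11 zc49) (kc xc29 yc11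 zc40) (kc xc25 yc25 zc31) (kc xc18 yc20 zc0) (kc xc23 yc11 zc50) (kc xc30 yc59 zc47) (kc xc28 yc27 zc41) (kc xc18 yc20 zc6) (kc xc21 yc28 zc45) (kc xc18 yc20 zc7) (kc xc29 yc51 zc40) (kc xc23 yc20 zc46) (kc xc18 yc20 zc11) (kc xc19 yc0 zc0) (kc xc27 yc56 zc14) (kc xc18 yc31 zc0) (kc xc28 yc2 zc1) (kc xc28 yc6 zc42) (kc xc22 yc53 zc31) (kc xc18 yc20 zc17)) (@D3.rec (fun _ => Pt) (kc xc22 yc53 zc29) (kc xc27 yc7 zc12) (kc xc24 yc39 zc31) (kc xc28 yc54 zc6) (kc xc32 yc30 zc51) (kc xc26 yc44 zc26) (kc xc28 yc12 zc45) (kc xc27 yc8 zc56) (kc xc18 yc20 zc21) (kc xc26 yc14 zc3) (kc xc28 yc0 zc24) (kc xc25 yc36 zc31) (kc xc18 yc20 zc28) (kc xc18 yc20 zc32) (kc xc18 yc20 zc33) (kc xc19 yc20 zc8) (kc xc27 yc50 zc56) (kc xc27 yc50 zc57) (kc xc28 yc7 zc29) (kc xc19 yc10 zc25) (kc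 xc25 yc12 zc55) (kc xc19 yc44 zc13) (kc xc18 yc20 zc48) (kc xc18 yc20 zc49) (kc xc28 yc44 zc11) (kc xc18 yc20 zc54) (kc xc25 yc38 zc58) (kc xc28 yc44 zc9) (kc xc28 yc13 zc19) (kc xc18 yc20 zc56) (kc xc31 yc50 zc3) (kc xc18 yc20 zc61) (kc xc18 yc20 zc59) (kc xc27 yc46 zc32) (kc xc18 yc21 zc2) (kc xc29 yc14 zc59) (kc xc22 yc48 zc24) (kc xc32 yc30 zc53) (kc xc25 yc18 zc34) (kc xc22 yc0 zc32) (kc xc23 yc4 zc41) (kc xc28 yc20 zc12) (kc xc18 yc21 zc17) (kc xc29 yc28 zc27) (kc xc30 yc24 zc24) (kc xc27 yc34 zc57) (kc xc30 yc44 zc8) (kc xc29 yc35 zc40) (kc xc21 yc0 zc11) (kc xc28 yc1 zc38) (kc xc31 yc14 zc29) (kc xc18 yc21 zc20) (kc xc27 yc52 zc1) (kc xc18 yc21 zc24) (kc xc18 yc48 zc24) (kc xc18 yc21 zc26) (kc xc27 yc8 zc24) (kc xc18 yc21 zc35) (kc xc18 yc21 zc34) (kc xc27 yc6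 zc28) (kc xc30 yc5 zc25) (kc xc18 yc21 zc45))
def f_c_28 : D2 → D3 → Pt := @D2.rec (fun _ => D3 → Pt) (@D3.rec (fun _ => Pt) (kc xc29 yc7 zc14) (kc xc27 yc30 zc3) (kc xc32 yc7 zc32) (kc xc28 yc20 zc7) (kc xc25 yc5 zc28) (kc xc21 yc49 zc33) (kc xc26 yc12 zc10) (kc xc25 yc12 zc21) (kc xc28 yc14 zc32) (kc xc31 yc36 zc38) (kc xc18 yc21 zc60) (kc xc32 yc30 zc56) (kc xc29 yc7 zc61) (kc xc28 yc21 zc56) (kc xc26 yc39 zc24) (kc xc31 yc46 zc40) (kc xc22 yc22 zc34) (kc xc26 yc20 zc11) (kc xc18 yc22 zc5) (kc xc18 yc22 zc7) (kc xc28 yc35 zc55) (kc xc25 yc4 zc25) (kc xc20 yc1 zc29) (kc xc31 yc51 zc36) (kc xc27 yc59 zc10) (kc xc23 yc56 zc7) (kc xc31 yc6 zc6) (kc xc26 yc26 zc29) (kc xc28 yc13 zc45) (kc xc27 yc3 zc31) (kc xc22 yc31 zc38) (kc xc18 yc22 zc55) (kc xc31 yc38 zc60) (kc xc18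 yc22 zc53) (kc xc28 yc6 zc15) (kc xc18 yc22 zc59) (kc xc18 yc22 zc58) (kc xc30 yc18 zc15) (kc xc18 yc22 zc60) (kc xc18 yc40 zc41) (kc xc24 yc57 zc16) (kc xc28 yc20 zc17) (kc xc19 yc1 zc40) (kc xc29 yc39 zc22) (kc xc26 yc54 zc7) (kc xc28 yc17 zc57) (kc xc18 yc23 zc18) (kc xc23 yc10 zc27) (kc xc25 yc16 zc5) (kc xc18 yc23 zc43) (kc xc29 yc29 zc58) (kc xc26 yc20 zc43) (kc xc27 yc57 zc37) (kc xc23 yc52 zc27) (kc xc30 yc13 zc7) (kc xc21 yc15 zc43) (kc xc23 yc33 zc42) (kc xc23 yc25 zc49) (kc xc19 yc51 zc3) (kc xc21 yc38 zc57) (kc xc18 yc24 zc12) (kc xc29 yc26 zc37)) (@D3.rec (fun _ => Pt) (kc xc31 yc7 zc26) (kc xc18 yc24 zc22) (kc xc28 yc9 zc10) (kc xc32 yc27 zc46) (kc xc18 yc24 zc27) (kc xc29 yc29 zc22) (kc xc18 yc49 zc41) (kc xc28 yc26 zc56) (kc xc21 yc38 zc14) (kc xc21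 yc22 zc27) (kc xc21 yc22 zc26) (kc xc27 yc4 zc10) (kc xc18 yc25 zc0) (kc xc23 yc37 zc34) (kc xc18 yc39 zc40) (kc xc21 yc8 zc9) (kc xc21 yc7 zc4) (kc xc23 yc13 zc12) (kc xc29 yc30 zc29) (kc xc18 yc25 zc11) (kc xc18 yc25 zc10) (kc xc29 yc28 zc23) (kc xc32 yc30 zc60) (kc xc28 yc57 zc32) (kc xc18 yc25 zc17) (kc xc25 yc18 zc60) (kc xc25 yc12 zc17) (kc xc18 yc25 zc26) (kc xc27 yc45 zc19) (kc xc23 yc54 zc4) (kc xc25 yc45 zc15) (kc xc25 yc18 zc6) (kc xc21 yc33 zc30) (kc xc28 yc55 zc1) (kc xc18 yc25 zc48) (kc xc28 yc10 zc19) (kc xc18 yc25 zc58) (kc xc26 yc28 zc17) (kc xc27 yc59 zc49) (kc xc22 yc23 zc40) (kc xc23 yc55 zc37) (kc xc27 yc4 zc35) (kc xc21 yc37 zc43) (kc xc18 yc45 zc55) (kc xc18 yc26 zc25) (kc xc31 yc44 zc41) (kc xc18 yc26 zc29) (kc xc32 yc28 zc36) (kc xc27 yc26 zc57)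 (kc xc30 yc2 zc29) (kc xc21 yc8 zc10) (kc xc19 yc4 zc31) (kc xc31 yc45 zc3) (kc xc28 yc12 zc41) (kc xc31 yc42 zc37) (kc xc32 yc27 zc40) (kc xc28 yc12 zc44) (kc xc24 yc58 zc55) (kc xc24 yc58 zc56) (kc xc18 yc42 zc44) (kc xc32 yc29 zc4) (kc xc28 yc44 zc55)) (@D3.rec (fun _ => Pt) (kc xc27 yc52 zc28) (kc xc27 yc58 zc58) (kc xc28 yc19 zc55) (kc xc18 yc26 zc60) (kc xc31 yc12 zc23) (kc xc18 yc27 zc1) (kc xc18 yc27 zc2) (kc xc28 yc4 zc11) (kc xc18 yc27 zc3) (kc xc32 yc31 zc1) (kc xc31 yc12 zc18) (kc xc18 yc27 zc4) (kc xc32 yc6 zc38) (kc xc18 yc28 zc10) (kc xc31 yc2 zc7) (kc xc25 yc1 zc56) (kc xc23 yc31 zc50) (kc xc32 yc31 zc7) (kc xc31 yc14 zc53) (kc xc18 yc27 zc10) (kc xc32 yc30 zc36) (kc xc27 yc38 zc34) (kc xc28 yc25 zc45) (kc xc23 yc21 zc57) (kc xc26 yc12 zc39) (kc xc18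 yc32 zc45) (kc xc18 yc32 zc46) (kc xc24 yc8 zc13) (kc xc28 yc27 zc56) (kc xc26 yc32 zc26) (kc xc32 yc25 zc5) (kc xc19 yc11 zc3) (kc xc19 yc59 zc6) (kc xc27 yc28 zc5) (kc xc27 yc28 zc8) (kc xc27 yc28 zc24) (kc xc18 yc32 zc6) (kc xc18 yc47 zc6) (kc xc18 yc27 zc50) (kc xc18 yc28 zc12) (kc xc23 yc24 zc41) (kc xc23 yc36 zc0) (kc xc18 yc27 zc53) (kc xc22 yc33 zc1) (kc xc22 yc36 zc55) (kc xc19 yc20 zc41) (kc xc30 yc5 zc52) (kc xc29 yc48 zc22) (kc xc18 yc27 zc56) (kc xc32 yc15 zc6) (kc xc25 yc56 zc16) (kc xc25 yc56 zc14) (kc xc18 yc28 zc2) (kc xc18 yc28 zc5) (kc xc30 yc59 zc17) (kc xc18 yc48 zc2) (kc xc18 yc28 zc7) (kc xc18 yc28 zc8) (kc xc30 yc58 zc7) (kc xc31 yc45 zc8) (kc xc25 yc0 zc9) (kc xc31 yc7 zc52)) (@D3.rec (fun _ => Pt) (kc xc30 yc59 zc13) (kc xc27 yc31 zc13) (kc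 xc19 yc3 zc45) (kc xc27 yc47 zc1) (kc xc21 yc13 zc5) (kc xc22 yc42 zc16) (kc xc24 yc44 zc4) (kc xc24 yc44 zc5) (kc xc24 yc42 zc6) (kc xc23 yc20 zc28) (kc xc25 yc1 zc59) (kc xc18 yc28 zc20) (kc xc26 yc13 zc23) (kc xc32 yc31 zc17) (kc xc32 yc31 zc18) (kc xc18 yc28 zc23) (kc xc18 yc28 zc24) (kc xc18 yc28 zc25) (kc xc18 yc29 zc0) (kc xc32 yc31 zc9) (kc xc25 yc14 zc14) (kc xc18 yc28 zc28) (kc xc27 yc51 zc23) (kc xc32 yc31 zc20) (kc xc18 yc28 zc30) (kc xc23 yc1 zc6) (kc xc18 yc49 zc52) (kc xc18 yc28 zc33) (kc xc32 yc29 zc37) (kc xc26 yc8 zc59) (kc xc23 yc44 zc59) (kc xc29 yc39 zc36) (kc xc18 yc35 zc42) (kc xc18 yc28 zc55) (kc xc18 yc28 zc56) (kc xc18 yc28 zc59) (kc xc18 yc28 zc60) (kc xc28 yc46 zc47) (kc xc25 yc0 zc42) (kc xc25 yc6 zc34) (kc xc18 yc35 zc50) (kc xc30 yc53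 zc20) (kc xc22 yc47 zc37) (kc xc20 yc47 zc56) (kc xc24 yc40 zc19) (kc xc23 yc2 zc4) (kc xc23 yc2 zc5) (kc xc26 yc9 zc3) (kc xc30 yc44 zc21) (kc xc30 yc54 zc7) (kc xc27 yc39 zc35) (kc xc18 yc29 zc30) (kc xc18 yc37 zc59) (kc xc30 yc42 zc41) (kc xc27 yc44 zc55) (kc xc30 yc13 zc4) (kc xc18 yc46 zc43) (kc xc32 yc31 zc2) (kc xc23 yc18 zc21) (kc xc18 yc29 zc34) (kc xc32 yc6 zc39) (kc xc27 yc20 zc29)) (@D3.rec (fun _ => Pt) (kc xc18 yc29 zc39) (kc xc30 yc13 zc5) (kc xc21 yc2 zc15) (kc xc25 yc1 zc6) (kc xc18 yc29 zc46) (kc xc32 yc31 zc26) (kc xc32 yc25 zc10) (kc xc30 yc1 zc19) (kc xc18 yc29 zc54) (kc xc23 yc50 zc21) (kc xc18 yc29 zc61) (kc xc28 yc2 zc7) (kc xc26 yc11 zc37) (kc xc24 yc44 zc30) (kc xc24 yc44 zc33) (kc xc31 yc7 zc8) (kc xc22 yc10 zc15) (kc xc31 yc1 zc34) (kc xc18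 yc30 zc8) (kc xc27 yc39 zc56) (kc xc30 yc44 zc26) (kc xc18 yc30 zc12) (kc xc20 yc47 zc29) (kc xc18 yc30 zc15) (kc xc28 yc25 zc40) (kc xc18 yc30 zc17) (kc xc30 yc49 zc31) (kc xc32 yc28 zc40) (kc xc18 yc30 zc22) (kc xc18 yc30 zc26) (kc xc26 yc21 zc43) (kc xc26 yc19 zc19) (kc xc19 yc0 zc4) (kc xc24 yc59 zc15) (kc xc22 yc55 zc35) (kc xc31 yc44 zc48) (kc xc19 yc2 zc27) (kc xc29 yc5 zc2) (kc xc32 yc31 zc34) (kc xc27 yc23 zc58) (kc xc18 yc30 zc35) (kc xc24 yc45 zc34) (kc xc26 yc21 zc6) (kc xc28 yc30 zc55) (kc xc30 yc15 zc11) (kc xc30 yc48 zc13) (kc xc28 yc23 zc20) (kc xc18 yc30 zc39) (kc xc32 yc31 zc39) (kc xc19 yc10 zc11) (kc xc19 yc10 zc12) (kc xc27 yc50 zc0) (kc xc19 yc7 zc29) (kc xc29 yc44 zc52) (kc xc22 yc5 zc15) (kc xc28 yc47 zc37) (kc xc19 yc23 zc51) (kc xc19 yc1 zc45)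 (kc xc21 yc10 zc31) (kc xc26 yc21 zc19) (kc xc23 yc50 zc10) (kc xc23 yc50 zc9)) (@D3.rec (fun _ => Pt) (kc xc24 yc13 zc30) (kc xc27 yc9 zc18) (kc xc18 yc49 zc10) (kc xc26 yc18 zc18) (kc xc27 yc9 zc22) (kc xc27 yc49 zc22) (kc xc30 yc8 zc12) (kc xc29 yc38 zc28) (kc xc32 yc31 zc37) (kc xc27 yc52 zc39) (kc xc18 yc31 zc1) (kc xc18 yc40 zc32) (kc xc18 yc30 zc61) (kc xc30 yc24 zc49) (kc xc29 yc2 zc30) (kc xc25 yc26 zc41) (kc xc28 yc32 zc24) (kc xc28 yc33 zc42) (kc xc18 yc54 zc5) (kc xc18 yc31 zc6) (kc xc30 yc53 zc23) (kc xc32 yc7 zc24) (kc xc32 yc7 zc17) (kc xc18 yc31 zc8) (kc xc31 yc46 zc25) (kc xc30 yc35 zc31) (kc xc28 yc12 zc4) (kc xc26 yc14 zc14) (kc xc26 yc21 zc3) (kc xc27 yc46 zc50) (kc xc18 yc53 zc10) (kc xc26 yc18 zc35) (kc xc28 yc45 zc40) (kc xc29 yc19 zc46) (kc xc32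 yc27 zc29) (kc xc28 yc15 zc15) (kc xc18 yc44 zc39) (kc xc18 yc31 zc19) (kc xc18 yc32 zc22) (kc xc22 yc52 zc8) (kc xc18 yc32 zc28) (kc xc29 yc26 zc4) (kc xc23 yc31 zc24) (kc xc28 yc23 zc14) (kc xc18 yc31 zc26) (kc xc27 yc3 zc27) (kc xc18 yc31 zc27) (kc xc25 yc59 zc7) (kc xc25 yc50 zc22) (kc xc27 yc23 zc57) (kc xc31 yc10 zc2) (kc xc19 yc3 zc20) (kc xc30 yc36 zc6) (kc xc28 yc31 zc51) (kc xc30 yc50 zc4) (kc xc25 yc13 zc60) (kc xc18 yc31 zc31) (kc xc29 yc25 zc12) (kc xc29 yc2 zc4) (kc xc30 yc26 zc19) (kc xc18 yc31 zc32) (kc xc19 yc30 zc12)) (@D3.rec (fun _ => Pt) (kc xc32 yc26 zc14) (kc xc32 yc26 zc1) (kc xc30 yc35 zc32) (kc xc31 yc1 zc30) (kc xc30 yc35 zc22) (kc xc18 yc31 zc36) (kc xc18 yc31 zc38) (kc xc32 yc31 zc60) (kc xc27 yc45 zc33) (kc xc18 yc31 zc40) (kc xc18 yc31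 zc41) (kc xc32 yc7 zc28) (kc xc18 yc35 zc31) (kc xc18 yc35 zc34) (kc xc27 yc33 zc14) (kc xc28 yc0 zc34) (kc xc28 yc26 zc8) (kc xc31 yc14 zc46) (kc xc30 yc24 zc48) (kc xc32 yc2 zc37) (kc xc31 yc14 zc37) (kc xc32 yc2 zc38) (kc xc31 yc7 zc51) (kc xc18 yc58 zc18) (kc xc32 yc30 zc31) (kc xc27 yc50 zc43) (kc xc18 yc32 zc3) (kc xc20 yc47 zc26) (kc xc19 yc22 zc23) (kc xc18 yc31 zc56) (kc xc23 yc51 zc8) (kc xc19 yc26 zc50) (kc xc19 yc26 zc48) (kc xc29 yc39 zc37) (kc xc29 yc38 zc41) (kc xc27 yc20 zc37) (kc xc18 yc32 zc4) (kc xc22 yc25 zc31) (kc xc28 yc7 zc59) (kc xc21 yc3 zc32) (kc xc20 yc17 zc5) (kc xc31 yc12 zc59) (kc xc27 yc58 zc59) (kc xc18 yc32 zc12) (kc xc18 yc32 zc15) (kc xc22 yc52 zc0) (kc xc22 yc51 zc1) (kc xc18 yc40 zc31) (kc xc23 yc54 zc12) (kc xc27 yc36 zc19) (kc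 xc22 yc33 zc41) (kc xc18 yc41 zc6) (kc xc26 yc18 zc30) (kc xc20 yc27 zc14) (kc xc28 yc12 zc55) (kc xc28 yc11 zc6) (kc xc28 yc11 zc7) (kc xc18 yc32 zc23) (kc xc22 yc40 zc34) (kc xc32 yc25 zc15) (kc xc32 yc17 zc12) (kc xc26 yc16 zc1)) (@D3.rec (fun _ => Pt) (kc xc26 yc18 zc34) (kc xc23 yc23 zc59) (kc xc27 yc48 zc54) (kc xc30 yc3 zc40) (kc xc18 yc32 zc43) (kc xc18 yc32 zc44) (kc xc32 yc31 zc8) (kc xc30 yc20 zc26) (kc xc20 yc45 zc37) (kc xc23 yc50 zc0) (kc xc31 yc23 zc43) (kc xc27 yc6 zc7) (kc xc23 yc54 zc25) (kc xc27 yc12 zc24) (kc xc23 yc54 zc35) (kc xc32 yc28 zc50) (kc xc20 yc12 zc3) (kc xc27 yc52 zc22) (kc xc32 yc32 zc4) (kc xc26 yc16 zc40) (kc xc26 yc15 zc40) (kc xc31 yc14 zc45) (kc xc21 yc11 zc60) (kc xc18 yc32 zc60) (kc xc18 yc32 zc61) (kc xc28 yc36 zc33) (kc xc20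 yc21 zc2) (kc xc18 yc33 zc44) (kc xc32 yc7 zc41) (kc xc27 yc59 zc18) (kc xc28 yc16 zc8) (kc xc18 yc55 zc13) (kc xc28 yc17 zc36) (kc xc28 yc30 zc52) (kc xc23 yc50 zc16) (kc xc23 yc50 zc36) (kc xc28 yc17 zc14) (kc xc28 yc21 zc43) (kc xc28 yc30 zc21) (kc xc18 yc33 zc12) (kc xc27 yc47 zc31) (kc xc26 yc48 zc60) (kc xc18 yc49 zc22) (kc xc31 yc8 zc17) (kc xc19 yc20 zc9) (kc xc19 yc6 zc29) (kc xc19 yc20 zc28) (kc xc29 yc24 zc52) (kc xc19 yc20 zc31) (kc xc27 yc34 zc2) (kc xc18 yc33 zc24) (kc xc31 yc55 zc13) (kc xc28 yc15 zc59) (kc xc19 yc20 zc27) (kc xc27 yc21 zc61) (kc xc20 yc18 zc44) (kc xc27 yc36 zc18) (kc xc18 yc33 zc37) (kc xc29 yc51 zc58) (kc xc28 yc6 zc38) (kc xc32 yc32 zc9) (kc xc18 yc33 zc45)) (@D3.rec (fun _ => Pt) (kc xc31 yc1 zc38) (kc xc30 yc35 zc48) (kc xc19 yc42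 zc29) (kc xc18 yc33 zc51) (kc xc22 yc4 zc1) (kc xc18 yc33 zc55) (kc xc32 yc26 zc40) (kc xc27 yc2 zc60) (kc xc27 yc32 zc23) (kc xc18 yc33 zc60) (kc xc28 yc9 zc32) (kc xc27 yc52 zc14) (kc xc19 yc9 zc25) (kc xc31 yc16 zc31) (kc xc31 yc16 zc32) (kc xc18 yc54 zc35) (kc xc28 yc14 zc31) (kc xc18 yc34 zc6) (kc xc31 yc54 zc1) (kc xc18 yc34 zc8) (kc xc32 yc7 zc49) (kc xc32 yc26 zc59) (kc xc18 yc34 zc11) (kc xc18 yc44 zc48) (kc xc18 yc47 zc16) (kc xc18 yc34 zc14) (kc xc18 yc34 zc50) (kc xc31 yc2 zc6) (kc xc18 yc59 zc33) (kc xc27 yc2 zc59) (kc xc27 yc36 zc43) (kc xc31 yc23 zc31) (kc xc18 yc34 zc56) (kc xc18 yc34 zc19) (kc xc30 yc18 zc32) (kc xc31 yc23 zc30) (kc xc31 yc23 zc2) (kc xc28 yc22 zc46) (kc xc18 yc34 zc20) (kc xc18 yc34 zc21) (kc xc32 yc7 zc5) (kc xc32 yc7 zc8) (kc xc18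 yc34 zc22) (kc xc32 yc32 zc16) (kc xc29 yc21 zc20) (kc xc18 yc34 zc25) (kc xc29 yc21 zc19) (kc xc19 yc22 zc59) (kc xc18 yc34 zc26) (kc xc25 yc3 zc54) (kc xc31 yc16 zc11) (kc xc29 yc20 zc12) (kc xc31 yc48 zc37) (kc xc26 yc20 zc12) (kc xc28 yc23 zc26) (kc xc31 yc23 zc39) (kc xc18 yc34 zc33) (kc xc18 yc34 zc36) (kc xc28 yc14 zc45) (kc xc21 yc12 zc51) (kc xc21 yc15 zc6) (kc xc26 yc28 zc55)) (@D3.rec (fun _ => Pt) (kc xc18 yc34 zc39) (kc xc32 yc22 zc33) (kc xc31 yc32 zc17) (kc xc26 yc45 zc21) (kc xc19 yc23 zc8) (kc xc18 yc34 zc44) (kc xc24 yc58 zc8) (kc xc26 yc42 zc41) (kc xc28 yc9 zc38) (kc xc23 yc28 zc49) (kc xc28 yc1 zc2) (kc xc27 yc41 zc24) (kc xc31 yc8 zc5) (kc xc18 yc34 zc54) (kc xc28 yc9 zc20) (kc xc25 yc27 zc1) (kc xc18 yc34 zc58) (kc xc31 yc25 zc49) (kc xc21 yc38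 zc27) (kc xc18 yc35 zc10) (kc xc28 yc9 zc14) (kc xc20 yc46 zc10) (kc xc18 yc35 zc15) (kc xc18 yc56 zc30) (kc xc31 yc10 zc59) (kc xc29 yc19 zc47) (kc xc28 yc26 zc52) (kc xc23 yc51 zc22) (kc xc23 yc51 zc1) (kc xc32 yc29 zc13) (kc xc21 yc12 zc55) (kc xc31 yc8 zc14) (kc xc28 yc8 zc10) (kc xc32 yc32 zc22) (kc xc32 yc26 zc33) (kc xc27 yc41 zc28) (kc xc24 yc28 zc25) (kc xc31 yc43 zc13) (kc xc28 yc9 zc8) (kc xc27 yc48 zc8) (kc xc21 yc41 zc32) (kc xc18 yc35 zc56) (kc xc30 yc55 zc5) (kc xc29 yc22 zc55) (kc xc29 yc22 zc57) (kc xc18 yc36 zc1) (kc xc31 yc34 zc50) (kc xc31 yc34 zc49) (kc xc30 yc9 zc34) (kc xc18 yc36 zc4) (kc xc32 yc21 zc38) (kc xc18 yc36 zc6) (kc xc32 yc32 zc23) (kc xc26 yc2 zc32) (kc xc29 yc22 zc58) (kc xc31 yc43 zc44) (kc xc18 yc55 zc21) (kc xc19 yc15 zc47) (kc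 xc18 yc36 zc31) (kc xc22 yc36 zc9) (kc xc25 yc35 zc22) (kc xc18 yc36 zc36)) (@D3.rec (fun _ => Pt) (kc xc18 yc36 zc37) (kc xc19 yc13 zc10) (kc xc18 yc36 zc49) (kc xc27 yc52 zc45) (kc xc18 yc36 zc55) (kc xc18 yc36 zc57) (kc xc18 yc37 zc1) (kc xc27 yc38 zc23) (kc xc30 yc8 zc54) (kc xc21 yc9 zc14) (kc xc30 yc19 zc16) (kc xc18 yc37 zc29) (kc xc31 yc16 zc10) (kc xc18 yc37 zc28) (kc xc18 yc37 zc31) (kc xc30 yc1 zc24) (kc xc29 yc0 zc19) (kc xc21 yc2 zc35) (kc xc29 yc3 zc58) (kc xc28 yc1 zc35) (kc xc18 yc37 zc52) (kc xc18 yc37 zc53) (kc xc29 yc24 zc44) (kc xc30 yc5 zc12) (kc xc30 yc5 zc20) (kc xc18 yc38 zc4) (kc xc27 yc56 zc21) (kc xc21 yc54 zc50) (kc xc32 yc27 zc35) (kc xc18 yc38 zc10) (kc xc28 yc25 zc17) (kc xc29 yc23 zc22) (kc xc24 yc10 zc32) (kc xc29 yc26 zc49) (kc xc30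 yc40 zc11) (kc xc18 yc38 zc33) (kc xc32 yc32 zc30) (kc xc22 yc50 zc58) (kc xc22 yc34 zc53) (kc xc19 yc2 zc6) (kc xc30 yc57 zc16) (kc xc18 yc39 zc24) (kc xc21 yc41 zc25) (kc xc30 yc57 zc15) (kc xc23 yc27 zc18) (kc xc23 yc18 zc39) (kc xc23 yc14 zc26) (kc xc18 yc38 zc50) (kc xc30 yc58 zc6) (kc xc22 yc17 zc50) (kc xc22 yc17 zc51) (kc xc19 yc56 zc16) (kc xc32 yc3 zc50) (kc xc18 yc38 zc59) (kc xc18 yc38 zc61) (kc xc30 yc58 zc51) (kc xc25 yc42 zc18) (kc xc18 yc39 zc1) (kc xc30 yc2 zc11) (kc xc23 yc13 zc47) (kc xc26 yc13 zc4) (kc xc31 yc7 zc44)) (@D3.rec (fun _ => Pt) (kc xc23 yc25 zc32) (kc xc18 yc39 zc6) (kc xc19 yc29 zc30) (kc xc25 yc43 zc25) (kc xc25 yc43 zc7) (kc xc25 yc35 zc0) (kc xc28 yc6 zc55) (kc xc28 yc6 zc56) (kc xc27 yc50 zc53) (kc xc19 yc42 zc28) (kc xc18 yc39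 zc21) (kc xc18 yc39 zc22) (kc xc27 yc51 zc5) (kc xc27 yc50 zc10) (kc xc19 yc18 zc53) (kc xc18 yc39 zc30) (kc xc31 yc58 zc60) (kc xc32 yc32 zc37) (kc xc18 yc39 zc33) (kc xc21 yc35 zc24) (kc xc24 yc51 zc6) (kc xc24 yc1 zc58) (kc xc18 yc39 zc53) (kc xc18 yc39 zc54) (kc xc29 yc12 zc42) (kc xc19 yc23 zc39) (kc xc31 yc56 zc37) (kc xc18 yc40 zc1) (kc xc28 yc58 zc6) (kc xc21 yc21 zc2) (kc xc19 yc23 zc38) (kc xc18 yc40 zc5) (kc xc23 yc17 zc25) (kc xc32 yc32 zc38) (kc xc18 yc40 zc6) (kc xc30 yc57 zc7) (kc xc30 yc14 zc43) (kc xc28 yc21 zc21) (kc xc32 yc5 zc12) (kc xc18 yc40 zc10) (kc xc24 yc33 zc33) (kc xc29 yc23 zc17) (kc xc26 yc53 zc15) (kc xc28 yc53 zc17) (kc xc22 yc31 zc19) (kc xc23 yc38 zc19) (kc xc31 yc53 zc12) (kc xc26 yc7 zc42) (kc xc31 yc8 zc33) (kc xc30 yc52 zc44) (kc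 xc30 yc0 zc26) (kc xc29 yc0 zc23) (kc xc31 yc53 zc45) (kc xc31 yc2 zc58) (kc xc18 yc40 zc21) (kc xc19 yc54 zc34) (kc xc18 yc40 zc22) (kc xc31 yc59 zc5) (kc xc32 yc32 zc43) (kc xc18 yc40 zc23) (kc xc26 yc8 zc3) (kc xc23 yc29 zc54)) (@D3.rec (fun _ => Pt) (kc xc18 yc40 zc25) (kc xc32 yc32 zc45) (kc xc30 yc44 zc32) (kc xc30 yc44 zc30) (kc xc28 yc5 zc26) (kc xc22 yc27 zc8) (kc xc30 yc24 zc61) (kc xc31 yc14 zc41) (kc xc32 yc29 zc1) (kc xc32 yc9 zc54) (kc xc23 yc20 zc12) (kc xc23 yc15 zc14) (kc xc31 yc0 zc47) (kc xc30 yc3 zc22) (kc xc31 yc45 zc4) (kc xc23 yc56 zc9) (kc xc28 yc24 zc59) (kc xc18 yc40 zc47) (kc xc23 yc19 zc20) (kc xc23 yc20 zc16) (kc xc18 yc40 zc50) (kc xc24 yc7 zc16) (kc xc31 yc48 zc47) (kc xc26 yc7 zc15) (kc xc25 yc46 zc17) (kc xc22 yc42 zc19) (kc xc31 yc6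 zc38) (kc xc23 yc25 zc42) (kc xc29 yc9 zc52) (kc xc21 yc29 zc26) (kc xc18 yc41 zc1) (kc xc31 yc2 zc50) (kc xc30 yc33 zc22) (kc xc30 yc59 zc32) (kc xc18 yc41 zc2) (kc xc26 yc28 zc25) (kc xc27 yc55 zc18) (kc xc23 yc44 zc8) (kc xc29 yc20 zc45) (kc xc21 yc44 zc27) (kc xc31 yc6 zc60) (kc xc28 yc1 zc53) (kc xc27 yc30 zc34) (kc xc22 yc17 zc10) (kc xc28 yc1 zc56) (kc xc27 yc59 zc6) (kc xc18 yc41 zc20) (kc xc28 yc15 zc18) (kc xc31 yc31 zc5) (kc xc19 yc51 zc42) (kc xc25 yc47 zc31) (kc xc31 yc38 zc16) (kc xc27 yc49 zc16) (kc xc18 yc41 zc27) (kc xc28 yc58 zc55) (kc xc28 yc6 zc54) (kc xc25 yc59 zc59) (kc xc31 yc37 zc59) (kc xc24 yc16 zc61) (kc xc24 yc16 zc60) (kc xc18 yc52 zc34) (kc xc19 yc57 zc16)) (@D3.rec (fun _ => Pt) (kc xc18 yc45 zc38) (kc xc18 yc41 zc48) (kc xc28 yc38 zc31)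 (kc xc31 yc47 zc7) (kc xc18 yc41 zc57) (kc xc27 yc22 zc49) (kc xc18 yc51 zc56) (kc xc18 yc42 zc6) (kc xc28 yc26 zc39) (kc xc20 yc29 zc27) (kc xc29 yc31 zc44) (kc xc28 yc55 zc34) (kc xc31 yc14 zc11) (kc xc21 yc15 zc40) (kc xc27 yc10 zc1) (kc xc26 yc2 zc46) (kc xc21 yc6 zc39) (kc xc22 yc30 zc53) (kc xc23 yc3 zc13) (kc xc27 yc59 zc28) (kc xc27 yc1 zc50) (kc xc26 yc0 zc49) (kc xc29 yc57 zc50) (kc xc25 yc14 zc37) (kc xc29 yc57 zc52) (kc xc29 yc57 zc54) (kc xc23 yc26 zc9) (kc xc18 yc42 zc34) (kc xc30 yc40 zc46) (kc xc24 yc59 zc23) (kc xc30 yc33 zc29) (kc xc32 yc6 zc29) (kc xc18 yc42 zc39) (kc xc18 yc42 zc40) (kc xc30 yc59 zc58) (kc xc31 yc58 zc48) (kc xc27 yc45 zc55) (kc xc30 yc42 zc42) (kc xc25 yc18 zc27) (kc xc32 yc32 zc51) (kc xc18 yc52 zc2) (kc xc18 yc42 zc50) (kc xc28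 yc28 zc20) (kc xc28 yc28 zc19) (kc xc18 yc59 zc13) (kc xc28 yc0 zc28) (kc xc18 yc42 zc59) (kc xc27 yc57 zc38) (kc xc25 yc18 zc23) (kc xc18 yc43 zc0) (kc xc24 yc47 zc53) (kc xc28 yc45 zc54) (kc xc23 yc17 zc46) (kc xc23 yc17 zc45) (kc xc18 yc43 zc11) (kc xc22 yc18 zc0) (kc xc30 yc20 zc55) (kc xc26 yc57 zc58) (kc xc18 yc43 zc35) (kc xc26 yc57 zc28) (kc xc21 yc38 zc25) (kc xc26 yc31 zc0)) (@D3.rec (fun _ => Pt) (kc xc25 yc48 zc25) (kc xc25 yc48 zc26) (kc xc24 yc31 zc5) (kc xc18 yc44 zc3) (kc xc30 yc53 zc28) (kc xc28 yc50 zc36) (kc xc20 yc0 zc61) (kc xc18 yc44 zc7) (kc xc18 yc44 zc6) (kc xc23 yc0 zc17) (kc xc24 yc10 zc16) (kc xc18 yc44 zc8) (kc xc25 yc59 zc38) (kc xc18 yc44 zc12) (kc xc20 yc0 zc59) (kc xc28 yc56 zc24) (kc xc32 yc32 zc53) (kc xc29 yc21 zc14) (kc xc27 yc21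 zc17) (kc xc30 yc27 zc5) (kc xc29 yc17 zc47) (kc xc31 yc59 zc46) (kc xc29 yc1 zc55) (kc xc25 yc47 zc41) (kc xc18 yc44 zc23) (kc xc24 yc48 zc34) (kc xc32 yc7 zc20) (kc xc32 yc3 zc23) (kc xc18 yc44 zc26) (kc xc18 yc44 zc25) (kc xc26 yc26 zc57) (kc xc28 yc8 zc16) (kc xc28 yc0 zc8) (kc xc31 yc54 zc0) (kc xc20 yc56 zc17) (kc xc25 yc19 zc40) (kc xc20 yc8 zc23) (kc xc29 yc22 zc10) (kc xc29 yc21 zc45) (kc xc27 yc31 zc54) (kc xc31 yc42 zc11) (kc xc31 yc15 zc8) (kc xc32 yc30 zc9) (kc xc32 yc29 zc49) (kc xc32 yc32 zc59) (kc xc28 yc8 zc58) (kc xc28 yc17 zc32) (kc xc18 yc44 zc55) (kc xc32 yc15 zc0) (kc xc21 yc13 zc11) (kc xc18 yc59 zc50) (kc xc20 yc25 zc16) (kc xc20 yc28 zc25) (kc xc23 yc52 zc31) (kc xc18 yc59 zc57) (kc xc18 yc45 zc2) (kc xc19 yc21 zc44) (kc xc25 yc26 zc30) (kc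 xc23 yc58 zc4) (kc xc18 yc56 zc28) (kc xc22 yc49 zc61) (kc xc18 yc45 zc9)) (@D3.rec (fun _ => Pt) (kc xc19 yc22 zc11) (kc xc26 yc32 zc12) (kc xc25 yc25 zc25) (kc xc31 yc15 zc22) (kc xc21 yc13 zc33) (kc xc31 yc15 zc37) (kc xc18 yc45 zc14) (kc xc26 yc49 zc43) (kc xc26 yc29 zc3) (kc xc30 yc25 zc37) (kc xc21 yc59 zc56) (kc xc18 yc45 zc22) (kc xc27 yc27 zc38) (kc xc18 yc45 zc30) (kc xc18 yc45 zc33) (kc xc28 yc5 zc35) (kc xc18 yc45 zc34) (kc xc23 yc52 zc1) (kc xc28 yc12 zc47) (kc xc23 yc9 zc7) (kc xc23 yc9 zc6) (kc xc25 yc0 zc18) (kc xc18 yc53 zc26) (kc xc18 yc45 zc45) (kc xc32 yc5 zc28) (kc xc26 yc29 zc22) (kc xc26 yc12 zc58) (kc xc23 yc36 zc53) (kc xc22 yc50 zc20) (kc xc28 yc21 zc28) (kc xc18 yc45 zc54) (kc xc32 yc13 zc55) (kc xc30 yc59 zc54) (kc xc31 yc17 zc38) (kc xc18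 yc46 zc14) (kc xc25 yc26 zc19) (kc xc25 yc26 zc11) (kc xc18 yc45 zc57) (kc xc23 yc1 zc29) (kc xc19 yc20 zc29) (kc xc19 yc20 zc50) (kc xc18 yc45 zc60) (kc xc26 yc0 zc10) (kc xc22 yc4 zc15) (kc xc29 yc3 zc21) (kc xc32 yc13 zc17) (kc xc26 yc36 zc51) (kc xc25 yc21 zc39) (kc xc29 yc48 zc20) (kc xc29 yc48 zc21) (kc xc18 yc46 zc4) (kc xc18 yc59 zc2) (kc xc21 yc15 zc50) (kc xc28 yc20 zc45) (kc xc22 yc9 zc60) (kc xc18 yc46 zc18) (kc xc32 yc33 zc6) (kc xc32 yc10 zc30) (kc xc19 yc14 zc22) (kc xc28 yc7 zc52) (kc xc21 yc24 zc12) (kc xc31 yc50 zc6)) (@D3.rec (fun _ => Pt) (kc xc19 yc18 zc10) (kc xc28 yc41 zc30) (kc xc25 yc10 zc14) (kc xc31 yc31 zc40) (kc xc23 yc46 zc50) (kc xc28 yc32 zc12) (kc xc18 yc46 zc35) (kc xc30 yc44 zc43) (kc xc28 yc7 zc30) (kc xc27 yc34 zc45) (kc xc32 yc28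 zc57) (kc xc28 yc28 zc41) (kc xc32 yc33 zc10) (kc xc28 yc24 zc14) (kc xc18 yc46 zc40) (kc xc25 yc0 zc48) (kc xc21 yc45 zc60) (kc xc18 yc54 zc25) (kc xc18 yc46 zc44) (kc xc21 yc26 zc51) (kc xc30 yc56 zc55) (kc xc18 yc46 zc48) (kc xc29 yc22 zc38) (kc xc29 yc33 zc0) (kc xc31 yc14 zc18) (kc xc22 yc14 zc18) (kc xc30 yc30 zc46) (kc xc32 yc27 zc7) (kc xc18 yc46 zc50) (kc xc22 yc13 zc8) (kc xc27 yc6 zc49) (kc xc27 yc6 zc56) (kc xc27 yc32 zc29) (kc xc28 yc36 zc6) (kc xc18 yc46 zc57) (kc xc18 yc46 zc58) (kc xc28 yc36 zc8) (kc xc18 yc46 zc60) (kc xc32 yc33 zc14) (kc xc18 yc46 zc61) (kc xc32 yc23 zc24) (kc xc18 yc47 zc56) (kc xc18 yc47 zc57) (kc xc28 yc52 zc6) (kc xc19 yc29 zc44) (kc xc18 yc47 zc1) (kc xc27 yc6 zc60) (kc xc18 yc47 zc3) (kc xc18 yc47 zc4) (kc xc27 yc22 zc31) (kc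 xc18 yc47 zc18) (kc xc24 yc13 zc44) (kc xc18 yc47 zc8) (kc xc26 yc42 zc3) (kc xc30 yc35 zc17) (kc xc24 yc12 zc41) (kc xc19 yc9 zc4) (kc xc18 yc58 zc36) (kc xc31 yc53 zc40) (kc xc32 yc25 zc59) (kc xc32 yc11 zc26) (kc xc27 yc22 zc28)) (@D3.rec (fun _ => Pt) (kc xc32 yc25 zc54) (kc xc32 yc30 zc25) (kc xc21 yc51 zc40) (kc xc30 yc46 zc1) (kc xc26 yc6 zc5) (kc xc28 yc27 zc0) (kc xc18 yc47 zc23) (kc xc30 yc44 zc7) (kc xc32 yc9 zc13) (kc xc26 yc56 zc23) (kc xc18 yc47 zc25) (kc xc20 yc37 zc5) (kc xc20 yc21 zc34) (kc xc22 yc15 zc53) (kc xc28 yc7 zc36) (kc xc22 yc16 zc57) (kc xc18 yc47 zc33) (kc xc29 yc34 zc52) (kc xc23 yc10 zc3) (kc xc24 yc55 zc45) (kc xc32 yc9 zc55) (kc xc18 yc47 zc48) (kc xc29 yc8 zc39) (kc xc29 yc8 zc47) (kc xc18 yc47 zc50) (kc xc32 yc9 zc56) (kc xc28 yc17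 zc33) (kc xc29 yc46 zc60) (kc xc32 yc33 zc18) (kc xc29 yc13 zc45) (kc xc32 yc33 zc15) (kc xc22 yc39 zc57) (kc xc28 yc14 zc46) (kc xc28 yc17 zc26) (kc xc19 yc30 zc26) (kc xc18 yc47 zc59) (kc xc28 yc7 zc32) (kc xc24 yc46 zc42) (kc xc30 yc29 zc31) (kc xc20 yc46 zc39) (kc xc30 yc58 zc46) (kc xc18 yc48 zc8) (kc xc32 yc26 zc44) (kc xc30 yc6 zc43) (kc xc30 yc37 zc32) (kc xc19 yc38 zc58) (kc xc31 yc13 zc59) (kc xc25 yc30 zc55) (kc xc25 yc57 zc54) (kc xc18 yc48 zc17) (kc xc20 yc38 zc47) (kc xc29 yc27 zc38) (kc xc32 yc25 zc50) (kc xc22 yc38 zc32) (kc xc27 yc54 zc7) (kc xc29 yc36 zc54) (kc xc27 yc7 zc59) (kc xc28 yc0 zc45) (kc xc29 yc35 zc18) (kc xc23 yc51 zc53) (kc xc20 yc1 zc35) (kc xc18 yc48 zc32)) (@D3.rec (fun _ => Pt) (kc xc19 yc18 zc9) (kc xc18 yc48 zc34) (kc xc29 yc20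 zc18) (kc xc29 yc3 zc5) (kc xc18 yc48 zc43) (kc xc31 yc54 zc17) (kc xc21 yc27 zc0) (kc xc26 yc24 zc22) (kc xc27 yc51 zc32) (kc xc20 yc38 zc38) (kc xc20 yc38 zc32) (kc xc20 yc38 zc23) (kc xc18 yc48 zc45) (kc xc22 yc32 zc45) (kc xc22 yc32 zc44) (kc xc32 yc31 zc3) (kc xc20 yc30 zc13) (kc xc24 yc52 zc36) (kc xc31 yc51 zc0) (kc xc18 yc48 zc58) (kc xc28 yc48 zc18) (kc xc18 yc48 zc59) (kc xc28 yc55 zc48) (kc xc18 yc48 zc61) (kc xc18 yc49 zc2) (kc xc32 yc33 zc31) (kc xc18 yc49 zc3) (kc xc22 yc19 zc40) (kc xc18 yc49 zc4) (kc xc28 yc18 zc35) (kc xc28 yc18 zc40) (kc xc24 yc1 zc34) (kc xc18 yc52 zc14) (kc xc32 yc33 zc35) (kc xc18 yc49 zc7) (kc xc28 yc18 zc29) (kc xc32 yc14 zc10) (kc xc18 yc49 zc12) (kc xc28 yc40 zc15) (kc xc32 yc31 zc42) (kc xc28 yc18 zc30) (kc xc18 yc49 zc14)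 (kc xc19 yc12 zc56) (kc xc24 yc21 zc51) (kc xc18 yc49 zc19) (kc xc18 yc49 zc21) (kc xc19 yc19 zc4) (kc xc32 yc33 zc37) (kc xc24 yc45 zc31) (kc xc24 yc35 zc49) (kc xc25 yc13 zc39) (kc xc30 yc59 zc42) (kc xc31 yc8 zc9) (kc xc29 yc32 zc59) (kc xc23 yc42 zc31) (kc xc19 yc1 zc34) (kc xc23 yc48 zc6) (kc xc22 yc21 zc27) (kc xc30 yc34 zc41) (kc xc18 yc50 zc3) (kc xc27 yc7 zc60) (kc xc18 yc50 zc13)) (@D3.rec (fun _ => Pt) (kc xc29 yc54 zc28) (kc xc18 yc50 zc17) (kc xc27 yc55 zc7) (kc xc22 yc28 zc49) (kc xc18 yc50 zc19) (kc xc21 yc5 zc44) (kc xc32 yc31 zc53) (kc xc21 yc20 zc7) (kc xc20 yc10 zc33) (kc xc21 yc17 zc4) (kc xc27 yc42 zc21) (kc xc20 yc55 zc50) (kc xc27 yc48 zc26) (kc xc20 yc38 zc43) (kc xc24 yc48 zc52) (kc xc18 yc50 zc57) (kc xc31 yc48 zc9) (kc xc27 yc53 zc50) (kc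 xc22 yc57 zc23) (kc xc32 yc28 zc46) (kc xc27 yc50 zc58) (kc xc31 yc40 zc23) (kc xc31 yc10 zc46) (kc xc25 yc27 zc59) (kc xc25 yc27 zc32) (kc xc18 yc51 zc8) (kc xc23 yc0 zc34) (kc xc19 yc20 zc54) (kc xc29 yc11 zc60) (kc xc18 yc51 zc14) (kc xc18 yc51 zc15) (kc xc18 yc51 zc16) (kc xc25 yc50 zc46) (kc xc26 yc24 zc11) (kc xc20 yc50 zc39) (kc xc19 yc37 zc53) (kc xc21 yc9 zc56) (kc xc25 yc5 zc49) (kc xc32 yc33 zc41) (kc xc18 yc51 zc21) (kc xc31 yc1 zc16) (kc xc19 yc37 zc57) (kc xc25 yc11 zc5) (kc xc25 yc27 zc3) (kc xc18 yc51 zc24) (kc xc28 yc34 zc7) (kc xc29 yc44 zc27) (kc xc21 yc13 zc21) (kc xc32 yc25 zc46) (kc xc30 yc55 zc14) (kc xc29 yc42 zc8) (kc xc29 yc42 zc15) (kc xc18 yc51 zc34) (kc xc18 yc51 zc35) (kc xc19 yc51 zc2) (kc xc28 yc2 zc2) (kc xc30 yc53 zc19) (kc xc18 yc51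 zc38) (kc xc27 yc49 zc31) (kc xc32 yc25 zc37) (kc xc30 yc48 zc14) (kc xc18 yc51 zc45)) (@D3.rec (fun _ => Pt) (kc xc28 yc32 zc38) (kc xc19 yc27 zc27) (kc xc31 yc25 zc13) (kc xc31 yc39 zc33) (kc xc18 yc51 zc50) (kc xc25 yc16 zc8) (kc xc27 yc32 zc8) (kc xc28 yc0 zc3) (kc xc19 yc0 zc52) (kc xc18 yc51 zc57) (kc xc18 yc51 zc58) (kc xc22 yc53 zc16) (kc xc27 yc59 zc41) (kc xc30 yc54 zc49) (kc xc18 yc52 zc0) (kc xc18 yc51 zc61) (kc xc32 yc32 zc52) (kc xc28 yc0 zc41) (kc xc18 yc52 zc1) (kc xc29 yc24 zc8) (kc xc27 yc15 zc11) (kc xc18 yc52 zc3) (kc xc24 yc28 zc20) (kc xc32 yc33 zc47) (kc xc24 yc26 zc18) (kc xc32 yc3 zc4) (kc xc18 yc52 zc8) (kc xc22 yc57 zc32) (kc xc32 yc33 zc34) (kc xc22 yc52 zc45) (kc xc20 yc8 zc50) (kc xc20 yc36 zc36) (kc xc22 yc52 zc51) (kc xc25 yc22 zc0) (kc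 xc25 yc22 zc11) (kc xc19 yc26 zc59) (kc xc22 yc16 zc50) (kc xc26 yc9 zc57) (kc xc32 yc31 zc47) (kc xc31 yc34 zc39) (kc xc22 yc17 zc26) (kc xc23 yc10 zc9) (kc xc25 yc19 zc24) (kc xc25 yc2 zc7) (kc xc30 yc43 zc46) (kc xc28 yc15 zc53) (kc xc26 yc9 zc43) (kc xc18 yc52 zc57) (kc xc27 yc32 zc22) (kc xc22 yc14 zc44) (kc xc27 yc9 zc4) (kc xc24 yc18 zc14) (kc xc27 yc49 zc17) (kc xc18 yc53 zc9) (kc xc21 yc15 zc31) (kc xc32 yc31 zc45) (kc xc28 yc32 zc14) (kc xc18 yc53 zc12) (kc xc29 yc53 zc61) (kc xc28 yc49 zc23) (kc xc28 yc49 zc24) (kc xc28 yc54 zc7)) (@D3.rec (fun _ => Pt) (kc xc28 yc24 zc61) (kc xc26 yc16 zc7) (kc xc30 yc45 zc50) (kc xc24 yc9 zc13) (kc xc25 yc35 zc49) (kc xc25 yc35 zc36) (kc xc31 yc46 zc60) (kc xc25 yc12 zc41) (kc xc27 yc45 zc6) (kc xc27 yc45 zc5) (kc xc18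 yc53 zc25) (kc xc27 yc31 zc43) (kc xc26 yc29 zc26) (kc xc29 yc29 zc48) (kc xc18 yc53 zc28) (kc xc31 yc43 zc7) (kc xc18 yc53 zc32) (kc xc29 yc23 zc58) (kc xc18 yc53 zc33) (kc xc27 yc31 zc15) (kc xc30 yc23 zc8) (kc xc28 yc11 zc37) (kc xc30 yc44 zc17) (kc xc25 yc43 zc13) (kc xc31 yc14 zc38) (kc xc31 yc7 zc38) (kc xc28 yc26 zc10) (kc xc23 yc6 zc53) (kc xc28 yc15 zc29) (kc xc18 yc53 zc44) (kc xc28 yc30 zc54) (kc xc30 yc45 zc46) (kc xc18 yc53 zc59) (kc xc29 yc7 zc35) (kc xc29 yc7 zc36) (kc xc29 yc52 zc27) (kc xc18 yc53 zc54) (kc xc32 yc1 zc52) (kc xc30 yc54 zc44) (kc xc32 yc27 zc33) (kc xc32 yc33 zc60) (kc xc18 yc53 zc58) (kc xc31 yc49 zc18) (kc xc28 yc7 zc37) (kc xc32 yc29 zc11) (kc xc25 yc59 zc45) (kc xc25 yc43 zc36) (kc xc28 yc23 zc33) (kc xc29 yc25 zc26) (kc xc23 yc54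 zc9) (kc xc18 yc54 zc1) (kc xc32 yc22 zc21) (kc xc29 yc16 zc43) (kc xc27 yc37 zc42) (kc xc27 yc49 zc25) (kc xc30 yc18 zc45) (kc xc28 yc0 zc13) (kc xc26 yc18 zc32) (kc xc27 yc49 zc27) (kc xc20 yc16 zc59) (kc xc31 yc50 zc53) (kc xc31 yc50 zc54)) (@D3.rec (fun _ => Pt) (kc xc24 yc48 zc44) (kc xc19 yc7 zc3) (kc xc18 yc54 zc17) (kc xc27 yc51 zc27) (kc xc30 yc44 zc39) (kc xc27 yc51 zc28) (kc xc32 yc29 zc46) (kc xc28 yc27 zc21) (kc xc32 yc34 zc2) (kc xc18 yc54 zc21) (kc xc24 yc46 zc40) (kc xc26 yc12 zc43) (kc xc31 yc6 zc39) (kc xc18 yc54 zc27) (kc xc18 yc54 zc28) (kc xc32 yc27 zc56) (kc xc30 yc55 zc27) (kc xc23 yc18 zc54) (kc xc23 yc18 zc53) (kc xc32 yc10 zc25) (kc xc18 yc54 zc31) (kc xc32 yc34 zc3) (kc xc28 yc48 zc24) (kc xc25 yc43 zc23) (kc xc27 yc9 zc59) (kc xc27 yc14 zc61)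 (kc xc26 yc25 zc42) (kc xc27 yc30 zc18) (kc xc32 yc33 zc19) (kc xc28 yc48 zc19) (kc xc28 yc24 zc34) (kc xc32 yc26 zc41) (kc xc30 yc15 zc55) (kc xc18 yc54 zc43) (kc xc28 yc22 zc60) (kc xc18 yc54 zc44) (kc xc25 yc29 zc8) (kc xc18 yc54 zc45) (kc xc30 yc56 zc4) (kc xc22 yc57 zc54) (kc xc31 yc39 zc28) (kc xc18 yc54 zc47) (kc xc20 yc21 zc49) (kc xc18 yc54 zc48) (kc xc21 yc12 zc53) (kc xc18 yc54 zc49) (kc xc28 yc8 zc37) (kc xc22 yc18 zc11) (kc xc25 yc24 zc0) (kc xc18 yc54 zc55) (kc xc31 yc25 zc23) (kc xc26 yc43 zc25) (kc xc27 yc55 zc42) (kc xc18 yc54 zc59) (kc xc18 yc54 zc60) (kc xc18 yc55 zc0) (kc xc28 yc56 zc4) (kc xc18 yc55 zc1) (kc xc30 yc43 zc49) (kc xc28 yc24 zc53) (kc xc28 yc22 zc34) (kc xc30 yc17 zc55)) (@D3.rec (fun _ => Pt) (kc xc24 yc46 zc28) (kc xc26 yc20 zc18)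 (kc xc18 yc55 zc5) (kc xc26 yc28 zc29) (kc xc28 yc54 zc0) (kc xc24 yc58 zc24) (kc xc32 yc33 zc43) (kc xc22 yc33 zc36) (kc xc27 yc54 zc34) (kc xc27 yc51 zc25) (kc xc32 yc28 zc33) (kc xc32 yc34 zc15) (kc xc18 yc55 zc12) (kc xc30 yc26 zc46) (kc xc28 yc5 zc43) (kc xc27 yc51 zc29) (kc xc32 yc29 zc24) (kc xc18 yc55 zc18) (kc xc19 yc12 zc9) (kc xc22 yc59 zc60) (kc xc28 yc4 zc46) (kc xc18 yc55 zc20) (kc xc24 yc59 zc50) (kc xc18 yc57 zc46) (kc xc27 yc41 zc46) (kc xc18 yc55 zc23) (kc xc28 yc8 zc54) (kc xc18 yc55 zc24) (kc xc25 yc50 zc50) (kc xc30 yc43 zc15) (kc xc31 yc53 zc21) (kc xc18 yc55 zc27) (kc xc32 yc30 zc15) (kc xc28 yc21 zc47) (kc xc27 yc55 zc37) (kc xc27 yc51 zc42) (kc xc18 yc57 zc44) (kc xc18 yc55 zc29) (kc xc30 yc56 zc19) (kc xc18 yc55 zc30) (kc xc25 yc2 zc5) (kc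 xc18 yc57 zc43) (kc xc18 yc55 zc32) (kc xc31 yc56 zc36) (kc xc18 yc57 zc32) (kc xc23 yc12 zc35) (kc xc18 yc56 zc59) (kc xc18 yc57 zc26) (kc xc18 yc55 zc39) (kc xc18 yc55 zc37) (kc xc28 yc57 zc36) (kc xc24 yc8 zc52) (kc xc29 yc31 zc22) (kc xc29 yc31 zc20) (kc xc28 yc24 zc48) (kc xc20 yc31 zc48) (kc xc26 yc43 zc42) (kc xc26 yc43 zc41) (kc xc22 yc48 zc5) (kc xc27 yc2 zc44) (kc xc25 yc59 zc10) (kc xc18 yc55 zc48)) (@D3.rec (fun _ => Pt) (kc xc32 yc23 zc19) (kc xc18 yc55 zc50) (kc xc22 yc57 zc28) (kc xc24 yc6 zc2) (kc xc32 yc19 zc10) (kc xc31 yc46 zc58) (kc xc31 yc46 zc59) (kc xc18 yc55 zc55) (kc xc31 yc17 zc61) (kc xc30 yc29 zc0) (kc xc18 yc55 zc57) (kc xc32 yc34 zc26) (kc xc18 yc55 zc59) (kc xc18 yc55 zc61) (kc xc28 yc16 zc13) (kc xc29 yc31 zc21) (kc xc32 yc33 zc28) (kc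 xc18 yc56 zc2) (kc xc27 yc0 zc13) (kc xc29 yc34 zc8) (kc xc18 yc56 zc6) (kc xc32 yc28 zc42) (kc xc24 yc7 zc60) (kc xc27 yc54 zc22) (kc xc24 yc7 zc61) (kc xc28 yc29 zc7) (kc xc18 yc56 zc15) (kc xc19 yc10 zc8) (kc xc18 yc56 zc16) (kc xc32 yc29 zc30) (kc xc18 yc56 zc17) (kc xc28 yc26 zc47) (kc xc18 yc56 zc22) (kc xc32 yc19 zc46) (kc xc28 yc22 zc30) (kc xc29 yc21 zc54) (kc xc21 yc44 zc43) (kc xc21 yc44 zc45) (kc xc26 yc0 zc52) (kc xc21 yc44 zc19) (kc xc18 yc56 zc37) (kc xc18 yc58 zc58) (kc xc18 yc58 zc56) (kc xc32 yc32 zc24) (kc xc23 yc39 zc8) (kc xc18 yc56 zc40) (kc xc31 yc5 zc56) (kc xc18 yc56 zc45) (kc xc28 yc23 zc54) (kc xc18 yc56 zc52) (kc xc29 yc42 zc19) (kc xc18 yc56 zc53) (kc xc31 yc54 zc16) (kc xc28 yc22 zc59) (kc xc18 yc56 zc55) (kc xc18 yc56 zc56) (kc xc26 yc24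 zc20) (kc xc32 yc34 zc31) (kc xc25 yc53 zc23) (kc xc28 yc12 zc16) (kc xc22 yc29 zc32) (kc xc28 yc21 zc0)) (@D3.rec (fun _ => Pt) (kc xc29 yc11 zc47) (kc xc18 yc57 zc10) (kc xc28 yc58 zc0) (kc xc24 yc56 zc36) (kc xc27 yc10 zc30) (kc xc32 yc34 zc33) (kc xc18 yc57 zc22) (kc xc22 yc9 zc0) (kc xc19 yc7 zc58) (kc xc21 yc18 zc54) (kc xc29 yc15 zc61) (kc xc32 yc34 zc17) (kc xc22 yc20 zc21) (kc xc23 yc47 zc9) (kc xc27 yc12 zc19) (kc xc31 yc13 zc17) (kc xc32 yc1 zc57) (kc xc28 yc10 zc30) (kc xc18 yc57 zc39) (kc xc31 yc14 zc17) (kc xc18 yc57 zc40) (kc xc29 yc6 zc53) (kc xc27 yc53 zc18) (kc xc32 yc22 zc47) (kc xc31 yc50 zc17) (kc xc29 yc43 zc5) (kc xc32 yc20 zc58) (kc xc31 yc59 zc52) (kc xc18 yc57 zc48) (kc xc24 yc36 zc33) (kc xc21 yc42 zc22) (kc xc29 yc56 zc24) (kc xc18 yc57 zc54)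 (kc xc25 yc50 zc56) (kc xc18 yc58 zc8) (kc xc30 yc44 zc50) (kc xc18 yc58 zc9) (kc xc25 yc58 zc2) (kc xc23 yc50 zc28) (kc xc23 yc50 zc38) (kc xc28 yc4 zc24) (kc xc27 yc46 zc39) (kc xc23 yc22 zc41) (kc xc23 yc50 zc61) (kc xc32 yc28 zc30) (kc xc28 yc2 zc22) (kc xc27 yc47 zc30) (kc xc23 yc51 zc0) (kc xc22 yc30 zc34) (kc xc27 yc48 zc52) (kc xc31 yc45 zc12) (kc xc32 yc28 zc31) (kc xc30 yc35 zc52) (kc xc18 yc58 zc33) (kc xc23 yc53 zc27) (kc xc26 yc5 zc24) (kc xc26 yc49 zc47) (kc xc20 yc32 zc39) (kc xc18 yc58 zc39) (kc xc22 yc57 zc49) (kc xc23 yc52 zc58) (kc xc22 yc57 zc38)) (@D3.rec (fun _ => Pt) (kc xc23 yc53 zc32) (kc xc19 yc1 zc20) (kc xc29 yc14 zc31) (kc xc30 yc32 zc55) (kc xc23 yc21 zc52) (kc xc20 yc32 zc40) (kc xc23 yc44 zc42) (kc xc23 yc44 zc41) (kc xc28 yc6 zc16) (kc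 xc29 yc8 zc0) (kc xc28 yc21 zc26) (kc xc23 yc40 zc39) (kc xc18 yc58 zc51) (kc xc31 yc6 zc7) (kc xc26 yc14 zc47) (kc xc24 yc21 zc50) (kc xc19 yc17 zc29) (kc xc22 yc51 zc13) (kc xc24 yc28 zc34) (kc xc19 yc19 zc53) (kc xc24 yc28 zc55) (kc xc19 yc17 zc32) (kc xc22 yc34 zc24) (kc xc20 yc33 zc47) (kc xc24 yc40 zc21) (kc xc24 yc5 zc50) (kc xc23 yc59 zc56) (kc xc29 yc54 zc33) (kc xc32 yc30 zc59) (kc xc28 yc59 zc11) (kc xc20 yc45 zc20) (kc xc28 yc59 zc16) (kc xc18 yc59 zc19) (kc xc30 yc26 zc49) (kc xc18 yc59 zc40) (kc xc24 yc28 zc52) (kc xc19 yc7 zc36) (kc xc30 yc24 zc33) (kc xc18 yc59 zc23) (kc xc28 yc13 zc8) (kc xc23 yc52 zc53) (kc xc18 yc59 zc26) (kc xc32 yc11 zc43) (kc xc29 yc45 zc39) (kc xc29 yc44 zc0) (kc xc22 yc14 zc26) (kc xc18 yc59 zc29) (kc xc28 yc24 zc31) (kc xc27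 yc37 zc59) (kc xc29 yc47 zc54) (kc xc18 yc59 zc36) (kc xc31 yc48 zc19) (kc xc28 yc9 zc26) (kc xc27 yc14 zc55) (kc xc27 yc14 zc54) (kc xc18 yc59 zc38) (kc xc28 yc1 zc7) (kc xc31 yc23 zc34) (kc xc19 yc7 zc31) (kc xc19 yc49 zc2) (kc xc18 yc59 zc48) (kc xc26 yc49 zc48)) (@D3.rec (fun _ => Pt) (kc xc28 yc17 zc5) (kc xc22 yc30 zc21) (kc xc23 yc53 zc49) (kc xc26 yc32 zc19) (kc xc18 yc59 zc55) (kc xc22 yc30 zc22) (kc xc29 yc14 zc60) (kc xc22 yc34 zc0) (kc xc24 yc8 zc17) (kc xc28 yc32 zc31) (kc xc26 yc32 zc40) (kc xc20 yc7 zc23) (kc xc22 yc42 zc20) (kc xc29 yc18 zc56) (kc xc23 yc44 zc55) (kc xc28 yc31 zc49) (kc xc27 yc56 zc15) (kc xc23 yc25 zc33) (kc xc32 yc30 zc55) (kc xc19 yc0 zc23) (kc xc27 yc9 zc32) (kc xc28 yc22 zc7) (kc xc29 yc11 zc8) (kc xc31 yc29 zc26) (kc xc31 yc3 zc5)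 (kc xc26 yc17 zc27) (kc xc32 yc3 zc9) (kc xc30 yc52 zc18) (kc xc31 yc5 zc41) (kc xc23 yc30 zc16) (kc xc19 yc0 zc30) (kc xc19 yc5 zc10) (kc xc26 yc29 zc29) (kc xc19 yc0 zc35) (kc xc25 yc0 zc60) (kc xc27 yc17 zc33) (kc xc32 yc28 zc32) (kc xc19 yc0 zc41) (kc xc25 yc48 zc32) (kc xc21 yc28 zc7) (kc xc21 yc24 zc19) (kc xc27 yc58 zc48) (kc xc21 yc36 zc18) (kc xc29 yc54 zc19) (kc xc26 yc14 zc12) (kc xc31 yc7 zc46) (kc xc19 yc0 zc49) (kc xc19 yc0 zc51) (kc xc32 yc33 zc44) (kc xc19 yc0 zc55) (kc xc20 yc8 zc36) (kc xc32 yc30 zc10) (kc xc27 yc14 zc12) (kc xc32 yc7 zc14) (kc xc30 yc23 zc29) (kc xc21 yc9 zc51) (kc xc28 yc2 zc28) (kc xc24 yc17 zc13) (kc xc25 yc36 zc51) (kc xc29 yc2 zc47) (kc xc26 yc37 zc39) (kc xc19 yc1 zc14)) (@D3.rec (fun _ => Pt) (kc xc23 yc51 zc60) (kc xc30 yc59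 zc55) (kc xc19 yc43 zc28) (kc xc19 yc1 zc17) (kc xc24 yc31 zc8) (kc xc21 yc2 zc43) (kc xc27 yc31 zc18) (kc xc21 yc2 zc44) (kc xc29 yc18 zc17) (kc xc23 yc20 zc18) (kc xc29 yc55 zc41) (kc xc32 yc34 zc58) (kc xc30 yc13 zc29) (kc xc19 yc1 zc32) (kc xc27 yc3 zc33) (kc xc23 yc32 zc6) (kc xc20 yc28 zc49) (kc xc20 yc31 zc21) (kc xc29 yc24 zc3) (kc xc28 yc13 zc43) (kc xc28 yc13 zc42) (kc xc19 yc1 zc38) (kc xc26 yc58 zc1) (kc xc20 yc36 zc40) (kc xc24 yc23 zc14) (kc xc19 yc1 zc42) (kc xc32 yc29 zc0) (kc xc19 yc1 zc47) (kc xc32 yc34 zc20) (kc xc31 yc38 zc37) (kc xc27 yc2 zc34) (kc xc28 yc34 zc35) (kc xc23 yc33 zc38) (kc xc23 yc52 zc13) (kc xc31 yc7 zc58) (kc xc23 yc52 zc15) (kc xc19 yc2 zc10) (kc xc31 yc2 zc45) (kc xc19 yc2 zc19) (kc xc28 yc46 zc0) (kc xc30 yc16 zc60) (kc xc28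 yc16 zc11) (kc xc30 yc16 zc61) (kc xc20 yc10 zc49) (kc xc30 yc4 zc3) (kc xc30 yc2 zc31) (kc xc24 yc43 zc40) (kc xc24 yc43 zc44) (kc xc31 yc11 zc6) (kc xc19 yc2 zc29) (kc xc24 yc24 zc52) (kc xc19 yc2 zc35) (kc xc19 yc2 zc36) (kc xc19 yc2 zc39) (kc xc26 yc52 zc37) (kc xc19 yc25 zc31) (kc xc31 yc56 zc33) (kc xc25 yc18 zc2) (kc xc32 yc35 zc6) (kc xc25 yc15 zc32) (kc xc19 yc2 zc44) (kc xc28 yc59 zc25)) (@D3.rec (fun _ => Pt) (kc xc19 yc2 zc47) (kc xc29 yc28 zc24) (kc xc24 yc9 zc34) (kc xc25 yc20 zc47) (kc xc26 yc25 zc55) (kc xc32 yc35 zc9) (kc xc19 yc2 zc50) (kc xc28 yc24 zc25) (kc xc32 yc35 zc10) (kc xc32 yc28 zc52) (kc xc25 yc20 zc52) (kc xc27 yc54 zc40) (kc xc32 yc8 zc26) (kc xc31 yc39 zc23) (kc xc19 yc2 zc53) (kc xc22 yc54 zc53) (kc xc20 yc50 zc15) (kc xc25 yc26 zc36)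 (kc xc20 yc53 zc52) (kc xc20 yc50 zc16) (kc xc32 yc35 zc15) (kc xc29 yc53 zc9) (kc xc19 yc2 zc61) (kc xc21 yc0 zc44) (kc xc21 yc0 zc45) (kc xc19 yc3 zc5) (kc xc19 yc3 zc6) (kc xc31 yc21 zc0) (kc xc19 yc3 zc9) (kc xc31 yc34 zc9) (kc xc30 yc54 zc51) (kc xc19 yc3 zc16) (kc xc32 yc33 zc25) (kc xc32 yc8 zc36) (kc xc19 yc37 zc10) (kc xc29 yc21 zc37) (kc xc19 yc3 zc21) (kc xc29 yc11 zc10) (kc xc26 yc48 zc0) (kc xc24 yc52 zc59) (kc xc29 yc19 zc34) (kc xc19 yc29 zc53) (kc xc28 yc55 zc46) (kc xc29 yc1 zc29) (kc xc19 yc29 zc61) (kc xc19 yc3 zc31) (kc xc31 yc36 zc4) (kc xc28 yc56 zc59) (kc xc29 yc16 zc25) (kc xc25 yc14 zc5) (kc xc32 yc0 zc9) (kc xc32 yc5 zc18) (kc xc19 yc3 zc37) (kc xc19 yc3 zc41) (kc xc32 yc28 zc25) (kc xc32 yc35 zc24) (kc xc29 yc19 zc4) (kc xc29 yc32 zc60) (kc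 xc26 yc46 zc22) (kc xc19 yc3 zc49) (kc xc19 yc13 zc29) (kc xc25 yc14 zc29)) (@D3.rec (fun _ => Pt) (kc xc32 yc35 zc26) (kc xc19 yc3 zc53) (kc xc19 yc13 zc37) (kc xc19 yc3 zc54) (kc xc26 yc51 zc51) (kc xc32 yc35 zc29) (kc xc19 yc3 zc55) (kc xc19 yc8 zc44) (kc xc19 yc8 zc47) (kc xc31 yc24 zc56) (kc xc19 yc14 zc10) (kc xc19 yc3 zc57) (kc xc31 yc24 zc52) (kc xc19 yc3 zc58) (kc xc24 yc48 zc37) (kc xc22 yc7 zc50) (kc xc30 yc39 zc37) (kc xc31 yc18 zc17) (kc xc23 yc9 zc9) (kc xc29 yc17 zc54) (kc xc26 yc5 zc27) (kc xc28 yc7 zc38) (kc xc25 yc4 zc47) (kc xc25 yc11 zc50) (kc xc28 yc47 zc0) (kc xc28 yc47 zc1) (kc xc19 yc4 zc12) (kc xc29 yc12 zc39) (kc xc32 yc33 zc49) (kc xc25 yc15 zc22) (kc xc19 yc4 zc15) (kc xc32 yc14 zc33) (kc xc19 yc4 zc17) (kc xc32 yc35 zc34) (kc xc19 yc4 zc18)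 (kc xc28 yc47 zc57) (kc xc19 yc19 zc12) (kc xc24 yc37 zc53) (kc xc19 yc4 zc20) (kc xc31 yc49 zc11) (kc xc19 yc41 zc16) (kc xc29 yc2 zc52) (kc xc29 yc39 zc24) (kc xc19 yc4 zc29) (kc xc32 yc35 zc37) (kc xc27 yc38 zc57) (kc xc31 yc30 zc1) (kc xc29 yc17 zc22) (kc xc23 yc59 zc54) (kc xc25 yc41 zc45) (kc xc19 yc4 zc49) (kc xc32 yc29 zc40) (kc xc28 yc7 zc33) (kc xc32 yc25 zc49) (kc xc28 yc21 zc30) (kc xc28 yc4 zc43) (kc xc29 yc36 zc3) (kc xc25 yc53 zc28) (kc xc26 yc0 zc11) (kc xc24 yc46 zc25) (kc xc27 yc51 zc31) (kc xc32 yc28 zc59)) (@D3.rec (fun _ => Pt) (kc xc32 yc35 zc42) (kc xc19 yc47 zc22) (kc xc19 yc5 zc18) (kc xc31 yc59 zc10) (kc xc29 yc12 zc38) (kc xc19 yc5 zc23) (kc xc31 yc45 zc35) (kc xc32 yc26 zc38) (kc xc26 yc58 zc17) (kc xc19 yc5 zc27) (kc xc26 yc54 zc17) (kc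 xc27 yc24 zc56) (kc xc31 yc38 zc26) (kc xc31 yc38 zc23) (kc xc19 yc5 zc41) (kc xc24 yc57 zc59) (kc xc19 yc5 zc44) (kc xc20 yc14 zc25) (kc xc25 yc9 zc24) (kc xc30 yc4 zc50) (kc xc19 yc5 zc57) (kc xc29 yc13 zc43) (kc xc29 yc13 zc18) (kc xc19 yc5 zc60) (kc xc24 yc45 zc23) (kc xc22 yc11 zc14) (kc xc25 yc11 zc56) (kc xc21 yc57 zc42) (kc xc26 yc44 zc19) (kc xc19 yc6 zc7) (kc xc24 yc10 zc50) (kc xc24 yc52 zc0) (kc xc24 yc52 zc1) (kc xc31 yc57 zc44) (kc xc24 yc50 zc21) (kc xc25 yc4 zc46) (kc xc25 yc4 zc45) (kc xc31 yc48 zc10) (kc xc29 yc4 zc24) (kc xc24 yc27 zc25) (kc xc20 yc1 zc56) (kc xc19 yc6 zc12) (kc xc19 yc6 zc11) (kc xc24 yc27 zc24) (kc xc23 yc9 zc15) (kc xc24 yc57 zc47) (kc xc22 yc11 zc2) (kc xc24 yc57 zc50) (kc xc27 yc48 zc41) (kc xc28 yc27 zc15) (kc xc23 yc37 zc57)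 (kc xc28 yc5 zc53) (kc xc32 yc26 zc15) (kc xc19 yc10 zc14) (kc xc19 yc6 zc22) (kc xc27 yc35 zc3) (kc xc24 yc13 zc6) (kc xc19 yc9 zc27) (kc xc19 yc6 zc26) (kc xc21 yc15 zc4) (kc xc24 yc59 zc16) (kc xc19 yc6 zc32)) (@D3.rec (fun _ => Pt) (kc xc23 yc9 zc18) (kc xc27 yc40 zc10) (kc xc29 yc28 zc33) (kc xc19 yc6 zc37) (kc xc19 yc6 zc36) (kc xc25 yc3 zc57) (kc xc27 yc57 zc31) (kc xc31 yc38 zc61) (kc xc19 yc6 zc39) (kc xc19 yc6 zc40) (kc xc32 yc29 zc61) (kc xc32 yc29 zc15) (kc xc28 yc16 zc5) (kc xc24 yc39 zc7) (kc xc28 yc20 zc56) (kc xc29 yc26 zc42) (kc xc20 yc47 zc11) (kc xc19 yc6 zc45) (kc xc29 yc7 zc45) (kc xc19 yc6 zc46) (kc xc27 yc38 zc10) (kc xc20 yc59 zc40) (kc xc19 yc6 zc49) (kc xc19 yc6 zc50) (kc xc28 yc5 zc16) (kc xc22 yc3 zc58) (kc xc19 yc6 zc59) (kc xc30 yc53 zc43)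 (kc xc26 yc27 zc43) (kc xc27 yc46 zc54) (kc xc19 yc6 zc61) (kc xc28 yc27 zc9) (kc xc29 yc42 zc6) (kc xc27 yc52 zc34) (kc xc27 yc52 zc35) (kc xc27 yc52 zc2) (kc xc31 yc41 zc27) (kc xc28 yc51 zc47) (kc xc28 yc20 zc0) (kc xc19 yc7 zc5) (kc xc25 yc48 zc9) (kc xc20 yc32 zc49) (kc xc24 yc52 zc39) (kc xc24 yc52 zc44) (kc xc31 yc50 zc28) (kc xc19 yc7 zc11) (kc xc19 yc7 zc15) (kc xc19 yc7 zc17) (kc xc31 yc59 zc24) (kc xc19 yc7 zc18) (kc xc30 yc44 zc6) (kc xc19 yc7 zc19) (kc xc23 yc15 zc38) (kc xc19 yc10 zc16) (kc xc19 yc10 zc17) (kc xc19 yc7 zc25) (kc xc32 yc35 zc50) (kc xc32 yc35 zc52) (kc xc30 yc22 zc58) (kc xc31 yc59 zc47) (kc xc32 yc35 zc40) (kc xc32 yc35 zc55)) (@D3.rec (fun _ => Pt) (kc xc19 yc7 zc28) (kc xc29 yc48 zc13) (kc xc32 yc35 zc60) (kc xc30 yc57 zc3) (kc xc19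 yc7 zc32) (kc xc32 yc36 zc0) (kc xc19 yc7 zc33) (kc xc32 yc36 zc2) (kc xc19 yc18 zc19) (kc xc30 yc22 zc36) (kc xc30 yc30 zc37) (kc xc19 yc25 zc10) (kc xc31 yc22 zc56) (kc xc32 yc34 zc49) (kc xc19 yc7 zc37) (kc xc29 yc35 zc9) (kc xc29 yc45 zc41) (kc xc19 yc7 zc43) (kc xc19 yc7 zc45) (kc xc31 yc36 zc19) (kc xc25 yc7 zc20) (kc xc20 yc36 zc45) (kc xc25 yc7 zc18) (kc xc30 yc17 zc56) (kc xc25 yc21 zc59) (kc xc19 yc7 zc54) (kc xc21 yc32 zc33) (kc xc26 yc10 zc10) (kc xc32 yc35 zc13) (kc xc19 yc7 zc60) (kc xc31 yc32 zc44) (kc xc32 yc33 zc54) (kc xc28 yc45 zc19) (kc xc32 yc36 zc4) (kc xc32 yc8 zc15) (kc xc24 yc39 zc5) (kc xc24 yc34 zc36) (kc xc31 yc59 zc25) (kc xc32 yc19 zc59) (kc xc19 yc8 zc5) (kc xc32 yc32 zc17) (kc xc27 yc55 zc8) (kc xc28 yc5 zc17) (kc xc29 yc52 zc53) (kc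 xc19 yc8 zc7) (kc xc31 yc23 zc37) (kc xc32 yc9 zc57) (kc xc31 yc32 zc2) (kc xc27 yc24 zc19) (kc xc32 yc22 zc26) (kc xc19 yc8 zc12) (kc xc30 yc56 zc41) (kc xc31 yc50 zc35) (kc xc31 yc22 zc46) (kc xc24 yc1 zc35) (kc xc19 yc8 zc14) (kc xc31 yc48 zc34) (kc xc28 yc53 zc25) (kc xc19 yc8 zc16) (kc xc24 yc39 zc0) (kc xc19 yc9 zc5) (kc xc24 yc34 zc41)) (@D3.rec (fun _ => Pt) (kc xc25 yc38 zc3) (kc xc19 yc8 zc18) (kc xc24 yc34 zc37) (kc xc19 yc25 zc55) (kc xc26 yc28 zc26) (kc xc19 yc25 zc56) (kc xc19 yc8 zc22) (kc xc28 yc19 zc45) (kc xc24 yc27 zc11) (kc xc19 yc8 zc27) (kc xc26 yc54 zc59) (kc xc30 yc39 zc12) (kc xc24 yc8 zc58) (kc xc22 yc30 zc52) (kc xc29 yc23 zc50) (kc xc19 yc8 zc32) (kc xc19 yc8 zc34) (kc xc32 yc36 zc6) (kc xc32 yc36 zc7) (kc xc19 yc8 zc37) (kc xc32 yc12 zc45)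 (kc xc24 yc1 zc41) (kc xc31 yc36 zc20) (kc xc27 yc24 zc25) (kc xc28 yc39 zc28) (kc xc29 yc33 zc11) (kc xc31 yc30 zc0) (kc xc29 yc31 zc33) (kc xc21 yc53 zc23) (kc xc27 yc23 zc51) (kc xc29 yc44 zc25) (kc xc25 yc26 zc1) (kc xc29 yc0 zc41) (kc xc21 yc53 zc24) (kc xc19 yc8 zc60) (kc xc28 yc28 zc31) (kc xc26 yc19 zc55) (kc xc30 yc55 zc32) (kc xc27 yc41 zc40) (kc xc22 yc47 zc60) (kc xc22 yc47 zc61) (kc xc19 yc12 zc12) (kc xc21 yc49 zc17) (kc xc19 yc9 zc7) (kc xc25 yc9 zc1) (kc xc19 yc9 zc9) (kc xc30 yc24 zc23) (kc xc19 yc9 zc10) (kc xc30 yc53 zc42) (kc xc29 yc0 zc6) (kc xc19 yc9 zc13) (kc xc19 yc9 zc12) (kc xc29 yc15 zc12) (kc xc29 yc34 zc2) (kc xc32 yc27 zc16) (kc xc32 yc0 zc19) (kc xc19 yc9 zc16) (kc xc20 yc37 zc27) (kc xc19 yc9 zc17) (kc xc26 yc25 zc54) (kc xc27 yc14 zc8)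 (kc xc24 yc3 zc19)) (@D3.rec (fun _ => Pt) (kc xc24 yc4 zc15) (kc xc22 yc50 zc51) (kc xc19 yc9 zc20) (kc xc26 yc35 zc34) (kc xc29 yc35 zc32) (kc xc31 yc36 zc21) (kc xc19 yc9 zc21) (kc xc26 yc35 zc52) (kc xc32 yc36 zc14) (kc xc19 yc14 zc4) (kc xc19 yc9 zc22) (kc xc29 yc34 zc1) (kc xc32 yc13 zc49) (kc xc32 yc36 zc8) (kc xc32 yc36 zc9) (kc xc19 yc9 zc26) (kc xc32 yc36 zc20) (kc xc32 yc36 zc15) (kc xc19 yc34 zc40) (kc xc19 yc9 zc29) (kc xc32 yc36 zc23) (kc xc23 yc53 zc7) (kc xc21 yc54 zc5) (kc xc26 yc56 zc43) (kc xc22 yc56 zc4) (kc xc20 yc37 zc26) (kc xc26 yc26 zc43) (kc xc25 yc57 zc37) (kc xc19 yc9 zc40) (kc xc26 yc56 zc54) (kc xc26 yc28 zc28) (kc xc23 yc10 zc44) (kc xc29 yc35 zc7) (kc xc21 yc53 zc25) (kc xc19 yc9 zc47) (kc xc23 yc53 zc16) (kc xc24 yc9 zc3) (kc xc26 yc27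 zc34) (kc xc29 yc29 zc27) (kc xc23 yc53 zc38) (kc xc31 yc15 zc38) (kc xc30 yc24 zc3) (kc xc19 yc9 zc52) (kc xc19 yc9 zc54) (kc xc24 yc9 zc4) (kc xc29 yc29 zc26) (kc xc19 yc9 zc55) (kc xc31 yc32 zc42) (kc xc22 yc0 zc33) (kc xc21 yc13 zc47) (kc xc30 yc50 zc34) (kc xc29 yc54 zc59) (kc xc26 yc20 zc15) (kc xc19 yc9 zc59) (kc xc19 yc53 zc35) (kc xc28 yc0 zc20) (kc xc19 yc10 zc2) (kc xc19 yc10 zc3) (kc xc28 yc43 zc4) (kc xc29 yc18 zc7) (kc xc21 yc22 zc33) (kc xc23 yc1 zc23)) (@D3.rec (fun _ => Pt) (kc xc28 yc49 zc56) (kc xc26 yc19 zc57) (kc xc26 yc19 zc56) (kc xc19 yc23 zc18) (kc xc22 yc41 zc51) (kc xc27 yc53 zc4) (kc xc28 yc16 zc33) (kc xc22 yc39 zc59) (kc xc28 yc16 zc36) (kc xc19 yc10 zc13) (kc xc32 yc26 zc43) (kc xc27 yc3 zc48) (kc xc20 yc11 zc60) (kc xc31 yc57 zc33) (kc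 xc25 yc50 zc9) (kc xc25 yc34 zc8) (kc xc31 yc57 zc34) (kc xc30 yc43 zc53) (kc xc30 yc52 zc19) (kc xc30 yc52 zc20) (kc xc19 yc10 zc18) (kc xc28 yc57 zc51) (kc xc31 yc56 zc19) (kc xc29 yc58 zc42) (kc xc19 yc10 zc22) (kc xc30 yc24 zc22) (kc xc32 yc22 zc44) (kc xc19 yc10 zc23) (kc xc27 yc52 zc8) (kc xc26 yc58 zc12) (kc xc27 yc42 zc4) (kc xc30 yc3 zc35) (kc xc19 yc10 zc26) (kc xc28 yc7 zc25) (kc xc29 yc21 zc36) (kc xc31 yc39 zc29) (kc xc26 yc21 zc34) (kc xc19 yc10 zc31) (kc xc22 yc21 zc50) (kc xc19 yc10 zc32) (kc xc27 yc37 zc14) (kc xc19 yc10 zc36) (kc xc32 yc36 zc33) (kc xc22 yc29 zc26) (kc xc25 yc12 zc38) (kc xc19 yc59 zc26) (kc xc19 yc10 zc55) (kc xc26 yc5 zc7) (kc xc31 yc47 zc31) (kc xc23 yc43 zc56) (kc xc19 yc11 zc1) (kc xc19 yc11 zc0) (kc xc27 yc28 zc42) (kc xc25 yc17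 zc42) (kc xc25 yc17 zc43) (kc xc25 yc21 zc49) (kc xc19 yc11 zc6) (kc xc21 yc2 zc9) (kc xc19 yc11 zc8) (kc xc31 yc36 zc14) (kc xc25 yc6 zc53) (kc xc30 yc19 zc6)) (@D3.rec (fun _ => Pt) (kc xc25 yc6 zc56) (kc xc19 yc11 zc12) (kc xc32 yc17 zc55) (kc xc29 yc21 zc10) (kc xc29 yc21 zc40) (kc xc19 yc23 zc48) (kc xc19 yc11 zc15) (kc xc31 yc35 zc15) (kc xc25 yc55 zc3) (kc xc29 yc44 zc15) (kc xc29 yc44 zc16) (kc xc28 yc40 zc21) (kc xc25 yc18 zc45) (kc xc19 yc11 zc21) (kc xc24 yc24 zc19) (kc xc19 yc11 zc24) (kc xc24 yc21 zc8) (kc xc19 yc11 zc26) (kc xc32 yc4 zc28) (kc xc31 yc40 zc27) (kc xc27 yc52 zc48) (kc xc19 yc11 zc29) (kc xc30 yc15 zc5) (kc xc31 yc54 zc44) (kc xc19 yc11 zc31) (kc xc32 yc36 zc46) (kc xc19 yc11 zc32) (kc xc29 yc37 zc28) (kc xc19 yc12 zc10) (kc xc25 yc34 zc16)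 (kc xc26 yc22 zc16) (kc xc19 yc11 zc37) (kc xc29 yc48 zc9) (kc xc19 yc52 zc8) (kc xc19 yc11 zc41) (kc xc29 yc42 zc46) (kc xc29 yc12 zc44) (kc xc29 yc8 zc41) (kc xc21 yc32 zc21) (kc xc21 yc16 zc11) (kc xc19 yc51 zc53) (kc xc19 yc11 zc44) (kc xc32 yc29 zc34) (kc xc20 yc43 zc6) (kc xc28 yc57 zc59) (kc xc24 yc17 zc32) (kc xc19 yc11 zc50) (kc xc29 yc7 zc12) (kc xc26 yc54 zc16) (kc xc19 yc11 zc51) (kc xc26 yc53 zc29) (kc xc19 yc11 zc52) (kc xc29 yc36 zc43) (kc xc19 yc11 zc54) (kc xc19 yc12 zc31) (kc xc19 yc12 zc32) (kc xc31 yc32 zc33) (kc xc19 yc11 zc59) (kc xc19 yc11 zc58) (kc xc27 yc36 zc46) (kc xc26 yc40 zc52) (kc xc19 yc11 zc60)) (@D3.rec (fun _ => Pt) (kc xc19 yc12 zc1) (kc xc19 yc12 zc0) (kc xc32 yc36 zc54) (kc xc32 yc36 zc55) (kc xc29 yc15 zc57) (kc xc19 yc12 zc3)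 (kc xc19 yc20 zc53) (kc xc32 yc11 zc6) (kc xc19 yc12 zc5) (kc xc32 yc36 zc57) (kc xc19 yc12 zc6) (kc xc29 yc16 zc1) (kc xc29 yc15 zc60) (kc xc19 yc12 zc7) (kc xc32 yc2 zc7) (kc xc30 yc46 zc9) (kc xc31 yc36 zc1) (kc xc26 yc1 zc32) (kc xc27 yc41 zc59) (kc xc19 yc12 zc14) (kc xc29 yc18 zc48) (kc xc27 yc52 zc37) (kc xc31 yc41 zc15) (kc xc19 yc12 zc19) (kc xc32 yc9 zc31) (kc xc32 yc36 zc61) (kc xc30 yc23 zc58) (kc xc19 yc12 zc23) (kc xc22 yc50 zc10) (kc xc29 yc19 zc21) (kc xc26 yc30 zc14) (kc xc28 yc13 zc2) (kc xc19 yc12 zc24) (kc xc32 yc37 zc5) (kc xc29 yc35 zc57) (kc xc19 yc12 zc25) (kc xc32 yc37 zc8) (kc xc32 yc37 zc9) (kc xc30 yc37 zc61) (kc xc19 yc12 zc26) (kc xc30 yc35 zc53) (kc xc27 yc12 zc1) (kc xc19 yc12 zc29) (kc xc24 yc24 zc54) (kc xc31 yc10 zc34) (kc xc27 yc52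 zc38) (kc xc24 yc49 zc40) (kc xc19 yc12 zc40) (kc xc19 yc12 zc38) (kc xc32 yc37 zc13) (kc xc28 yc55 zc21) (kc xc32 yc37 zc14) (kc xc29 yc5 zc52) (kc xc19 yc12 zc39) (kc xc26 yc22 zc18) (kc xc31 yc0 zc39) (kc xc19 yc12 zc47) (kc xc24 yc30 zc7) (kc xc24 yc53 zc55) (kc xc29 yc32 zc11) (kc xc24 yc8 zc37) (kc xc19 yc12 zc59)) (@D3.rec (fun _ => Pt) (kc xc20 yc57 zc37) (kc xc24 yc13 zc51) (kc xc19 yc12 zc61) (kc xc20 yc35 zc38) (kc xc19 yc13 zc0) (kc xc19 yc13 zc2) (kc xc20 yc39 zc32) (kc xc19 yc13 zc3) (kc xc26 yc51 zc45) (kc xc19 yc13 zc9) (kc xc23 yc15 zc47) (kc xc20 yc38 zc45) (kc xc24 yc52 zc61) (kc xc19 yc33 zc39) (kc xc32 yc15 zc50) (kc xc20 yc39 zc19) (kc xc19 yc13 zc18) (kc xc20 yc38 zc12) (kc xc31 yc33 zc28) (kc xc19 yc13 zc19) (kc xc19 yc13 zc21) (kc xc29 yc47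 zc5) (kc xc19 yc13 zc22) (kc xc32 yc37 zc20) (kc xc31 yc29 zc46) (kc xc29 yc31 zc38) (kc xc19 yc13 zc24) (kc xc19 yc13 zc25) (kc xc28 yc34 zc24) (kc xc32 yc37 zc22) (kc xc19 yc14 zc7) (kc xc31 yc17 zc57) (kc xc28 yc44 zc19) (kc xc28 yc44 zc17) (kc xc19 yc13 zc30) (kc xc30 yc16 zc22) (kc xc30 yc15 zc48) (kc xc26 yc57 zc4) (kc xc19 yc14 zc6) (kc xc32 yc37 zc26) (kc xc19 yc13 zc34) (kc xc26 yc42 zc38) (kc xc24 yc49 zc9) (kc xc32 yc37 zc29) (kc xc19 yc13 zc36) (kc xc29 yc47 zc19) (kc xc26 yc59 zc39) (kc xc31 yc17 zc59) (kc xc32 yc37 zc34) (kc xc30 yc26 zc3) (kc xc24 yc22 zc50) (kc xc30 yc30 zc22) (kc xc20 yc24 zc20) (kc xc31 yc54 zc2) (kc xc26 yc51 zc48) (kc xc19 yc13 zc52) (kc xc29 yc46 zc15) (kc xc19 yc13 zc44) (kc xc32 yc37 zc38) (kc xc32 yc37 zc19) (kc xc32 yc17 zc27)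 (kc xc31 yc56 zc60)) (@D3.rec (fun _ => Pt) (kc xc31 yc40 zc31) (kc xc29 yc34 zc5) (kc xc19 yc13 zc46) (kc xc32 yc37 zc41) (kc xc19 yc13 zc47) (kc xc32 yc11 zc56) (kc xc19 yc13 zc48) (kc xc19 yc13 zc49) (kc xc32 yc37 zc45) (kc xc30 yc15 zc32) (kc xc27 yc16 zc12) (kc xc24 yc32 zc4) (kc xc32 yc18 zc9) (kc xc19 yc13 zc55) (kc xc30 yc30 zc6) (kc xc28 yc18 zc38) (kc xc27 yc19 zc8) (kc xc26 yc40 zc48) (kc xc22 yc1 zc43) (kc xc30 yc54 zc56) (kc xc31 yc47 zc40) (kc xc28 yc37 zc11) (kc xc25 yc21 zc15) (kc xc31 yc41 zc46) (kc xc29 yc56 zc8) (kc xc22 yc27 zc16) (kc xc26 yc56 zc50) (kc xc32 yc37 zc53) (kc xc32 yc36 zc10) (kc xc26 yc36 zc5) (kc xc32 yc37 zc46) (kc xc31 yc19 zc22) (kc xc19 yc14 zc9) (kc xc32 yc37 zc56) (kc xc29 yc47 zc6) (kc xc32 yc11 zc18) (kc xc24 yc22 zc54) (kc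 xc19 yc34 zc60) (kc xc19 yc16 zc5) (kc xc31 yc41 zc29) (kc xc27 yc17 zc37) (kc xc29 yc44 zc20) (kc xc30 yc56 zc57) (kc xc19 yc14 zc26) (kc xc26 yc58 zc46) (kc xc29 yc46 zc13) (kc xc31 yc51 zc39) (kc xc32 yc33 zc61) (kc xc32 yc12 zc27) (kc xc29 yc43 zc37) (kc xc29 yc22 zc25) (kc xc26 yc14 zc21) (kc xc26 yc48 zc16) (kc xc19 yc14 zc30) (kc xc19 yc14 zc32) (kc xc30 yc59 zc45) (kc xc29 yc52 zc15) (kc xc19 yc14 zc36) (kc xc19 yc14 zc35) (kc xc30 yc59 zc28) (kc xc27 yc7 zc55) (kc xc19 yc14 zc37)) (@D3.rec (fun _ => Pt) (kc xc25 yc34 zc40) (kc xc19 yc14 zc39) (kc xc32 yc28 zc16) (kc xc19 yc14 zc40) (kc xc30 yc59 zc1) (kc xc19 yc18 zc41) (kc xc19 yc18 zc43) (kc xc32 yc35 zc23) (kc xc19 yc14 zc42) (kc xc25 yc34 zc52) (kc xc25 yc15 zc0) (kc xc19 yc14 zc43) (kc xc19 yc14 zc44)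 (kc xc29 yc50 zc37) (kc xc25 yc34 zc41) (kc xc19 yc56 zc31) (kc xc26 yc9 zc5) (kc xc27 yc26 zc24) (kc xc19 yc56 zc33) (kc xc27 yc5 zc57) (kc xc27 yc25 zc45) (kc xc19 yc14 zc53) (kc xc27 yc27 zc34) (kc xc26 yc2 zc50) (kc xc19 yc14 zc56) (kc xc25 yc47 zc14) (kc xc19 yc14 zc59) (kc xc19 yc14 zc61) (kc xc24 yc20 zc44) (kc xc26 yc23 zc38) (kc xc28 yc16 zc1) (kc xc28 yc58 zc32) (kc xc32 yc5 zc56) (kc xc24 yc4 zc27) (kc xc19 yc15 zc14) (kc xc19 yc15 zc16) (kc xc19 yc15 zc18) (kc xc23 yc39 zc9) (kc xc32 yc28 zc13) (kc xc25 yc49 zc54) (kc xc24 yc46 zc39) (kc xc32 yc38 zc8) (kc xc32 yc38 zc5) (kc xc32 yc38 zc4) (kc xc19 yc15 zc32) (kc xc32 yc5 zc49) (kc xc19 yc15 zc34) (kc xc31 yc20 zc52) (kc xc25 yc15 zc2) (kc xc21 yc50 zc11) (kc xc21 yc3 zc52) (kc xc19 yc15 zc42) (kc xc19 yc16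 zc16) (kc xc30 yc16 zc44) (kc xc25 yc10 zc34) (kc xc19 yc15 zc50) (kc xc21 yc48 zc40) (kc xc19 yc15 zc51) (kc xc19 yc15 zc52) (kc xc19 yc22 zc43) (kc xc28 yc59 zc59) (kc xc32 yc27 zc8)) (@D3.rec (fun _ => Pt) (kc xc19 yc15 zc54) (kc xc31 yc49 zc12) (kc xc25 yc51 zc10) (kc xc19 yc16 zc3) (kc xc26 yc40 zc59) (kc xc29 yc46 zc23) (kc xc19 yc24 zc28) (kc xc25 yc42 zc4) (kc xc25 yc31 zc17) (kc xc19 yc16 zc35) (kc xc19 yc16 zc10) (kc xc24 yc36 zc59) (kc xc29 yc49 zc26) (kc xc27 yc42 zc27) (kc xc29 yc33 zc38) (kc xc19 yc16 zc11) (kc xc19 yc16 zc13) (kc xc24 yc14 zc19) (kc xc19 yc16 zc31) (kc xc28 yc47 zc55) (kc xc19 yc16 zc30) (kc xc20 yc49 zc30) (kc xc31 yc21 zc57) (kc xc24 yc41 zc24) (kc xc31 yc21 zc56) (kc xc29 yc16 zc44) (kc xc29 yc16 zc40) (kc xc31 yc20 zc54) (kc xc28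 yc57 zc12) (kc xc27 yc42 zc42) (kc xc19 yc16 zc21) (kc xc31 yc47 zc8) (kc xc19 yc40 zc34) (kc xc19 yc16 zc23) (kc xc27 yc22 zc61) (kc xc19 yc16 zc25) (kc xc31 yc51 zc22) (kc xc19 yc16 zc26) (kc xc30 yc9 zc57) (kc xc19 yc16 zc29) (kc xc30 yc13 zc11) (kc xc32 yc7 zc16) (kc xc29 yc39 zc38) (kc xc28 yc56 zc55) (kc xc23 yc0 zc23) (kc xc25 yc56 zc27) (kc xc21 yc34 zc40) (kc xc32 yc38 zc13) (kc xc25 yc40 zc16) (kc xc25 yc40 zc17) (kc xc19 yc16 zc50) (kc xc22 yc14 zc49) (kc xc27 yc5 zc24) (kc xc31 yc7 zc22) (kc xc27 yc46 zc48) (kc xc25 yc43 zc29) (kc xc25 yc23 zc17) (kc xc27 yc38 zc1) (kc xc19 yc17 zc6) (kc xc19 yc19 zc59) (kc xc31 yc18 zc47) (kc xc22 yc9 zc24)) (@D3.rec (fun _ => Pt) (kc xc25 yc43 zc47) (kc xc29 yc56 zc26) (kc xc19 yc17 zc26) (kc xc31 yc20 zc45) (kc xc28 yc35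 zc58) (kc xc28 yc52 zc20) (kc xc24 yc50 zc36) (kc xc32 yc17 zc43) (kc xc29 yc2 zc44) (kc xc24 yc50 zc40) (kc xc23 yc47 zc24) (kc xc31 yc42 zc0) (kc xc19 yc17 zc43) (kc xc24 yc50 zc39) (kc xc19 yc17 zc47) (kc xc27 yc37 zc2) (kc xc26 yc38 zc3) (kc xc22 yc46 zc26) (kc xc23 yc48 zc24) (kc xc21 yc11 zc37) (kc xc31 yc36 zc52) (kc xc19 yc41 zc56) (kc xc19 yc17 zc59) (kc xc27 yc39 zc49) (kc xc31 yc51 zc25) (kc xc27 yc8 zc1) (kc xc27 yc8 zc2) (kc xc20 yc35 zc15) (kc xc19 yc18 zc0) (kc xc29 yc36 zc53) (kc xc19 yc18 zc2) (kc xc24 yc29 zc2) (kc xc27 yc5 zc40) (kc xc27 yc37 zc44) (kc xc20 yc0 zc2) (kc xc21 yc40 zc45) (kc xc19 yc44 zc9) (kc xc21 yc31 zc44) (kc xc29 yc8 zc13) (kc xc30 yc17 zc2) (kc xc31 yc39 zc56) (kc xc19 yc18 zc23) (kc xc32 yc38 zc20) (kc xc19 yc18 zc24) (kc xc24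 yc31 zc27) (kc xc19 yc18 zc25) (kc xc30 yc59 zc43) (kc xc24 yc29 zc16) (kc xc19 yc48 zc13) (kc xc32 yc24 zc61) (kc xc19 yc18 zc27) (kc xc30 yc58 zc16) (kc xc32 yc38 zc22) (kc xc32 yc4 zc58) (kc xc21 yc29 zc48) (kc xc30 yc13 zc26) (kc xc31 yc19 zc5) (kc xc31 yc31 zc52) (kc xc23 yc3 zc25) (kc xc32 yc38 zc3) (kc xc21 yc53 zc9) (kc xc22 yc51 zc29)) (@D3.rec (fun _ => Pt) (kc xc32 yc28 zc10) (kc xc23 yc58 zc3) (kc xc24 yc15 zc28) (kc xc32 yc38 zc9) (kc xc31 yc23 zc54) (kc xc32 yc5 zc53) (kc xc19 yc18 zc52) (kc xc24 yc29 zc5) (kc xc24 yc47 zc21) (kc xc27 yc59 zc27) (kc xc27 yc50 zc2) (kc xc27 yc59 zc24) (kc xc24 yc28 zc16) (kc xc22 yc51 zc17) (kc xc23 yc58 zc10) (kc xc27 yc11 zc57) (kc xc23 yc3 zc40) (kc xc28 yc39 zc33) (kc xc19 yc40 zc25) (kc xc28 yc39 zc32) (kc xc32 yc0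 zc48) (kc xc29 yc36 zc23) (kc xc24 yc17 zc15) (kc xc29 yc45 zc19) (kc xc20 yc24 zc43) (kc xc27 yc57 zc20) (kc xc27 yc57 zc22) (kc xc28 yc59 zc24) (kc xc29 yc49 zc14) (kc xc30 yc56 zc47) (kc xc19 yc19 zc22) (kc xc32 yc18 zc41) (kc xc29 yc56 zc23) (kc xc22 yc13 zc5) (kc xc32 yc38 zc29) (kc xc32 yc23 zc6) (kc xc19 yc19 zc25) (kc xc29 yc45 zc53) (kc xc30 yc26 zc5) (kc xc24 yc22 zc44) (kc xc21 yc54 zc25) (kc xc21 yc53 zc17) (kc xc24 yc15 zc2) (kc xc31 yc25 zc11) (kc xc25 yc58 zc5) (kc xc19 yc19 zc37) (kc xc32 yc19 zc60) (kc xc19 yc19 zc39) (kc xc25 yc58 zc60) (kc xc19 yc19 zc48) (kc xc30 yc21 zc48) (kc xc19 yc19 zc52) (kc xc24 yc17 zc18) (kc xc24 yc11 zc57) (kc xc31 yc45 zc24) (kc xc28 yc1 zc61) (kc xc21 yc23 zc7) (kc xc20 yc20 zc45) (kc xc22 yc6 zc22) (kc xc24 yc25 zc58)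 (kc xc31 yc17 zc22) (kc xc19 yc20 zc2)) (@D3.rec (fun _ => Pt) (kc xc28 yc57 zc58) (kc xc27 yc52 zc13) (kc xc29 yc35 zc22) (kc xc26 yc53 zc48) (kc xc20 yc35 zc19) (kc xc19 yc51 zc13) (kc xc19 yc20 zc12) (kc xc19 yc52 zc42) (kc xc27 yc12 zc4) (kc xc30 yc5 zc30) (kc xc19 yc20 zc15) (kc xc25 yc4 zc48) (kc xc21 yc59 zc35) (kc xc28 yc54 zc1) (kc xc31 yc19 zc1) (kc xc31 yc40 zc41) (kc xc24 yc19 zc37) (kc xc21 yc40 zc44) (kc xc25 yc31 zc61) (kc xc28 yc33 zc32) (kc xc31 yc21 zc39) (kc xc25 yc55 zc31) (kc xc19 yc20 zc25) (kc xc21 yc50 zc60) (kc xc32 yc32 zc7) (kc xc32 yc28 zc20) (kc xc25 yc49 zc17) (kc xc32 yc9 zc39) (kc xc31 yc47 zc41) (kc xc27 yc52 zc12) (kc xc30 yc38 zc7) (kc xc32 yc25 zc52) (kc xc31 yc31 zc58) (kc xc19 yc20 zc36) (kc xc32 yc27 zc32) (kc xc19 yc20 zc38) (kc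 xc32 yc38 zc37) (kc xc20 yc38 zc1) (kc xc26 yc22 zc27) (kc xc19 yc20 zc47) (kc xc28 yc5 zc32) (kc xc20 yc12 zc48) (kc xc19 yc21 zc7) (kc xc20 yc12 zc49) (kc xc19 yc20 zc61) (kc xc20 yc52 zc4) (kc xc30 yc36 zc33) (kc xc19 yc51 zc61) (kc xc19 yc52 zc0) (kc xc32 yc28 zc47) (kc xc23 yc59 zc57) (kc xc19 yc52 zc12) (kc xc26 yc30 zc56) (kc xc29 yc14 zc53) (kc xc28 yc13 zc51) (kc xc23 yc16 zc36) (kc xc19 yc21 zc30) (kc xc19 yc21 zc31) (kc xc29 yc24 zc58) (kc xc29 yc20 zc29) (kc xc30 yc12 zc5) (kc xc23 yc53 zc26)) (@D3.rec (fun _ => Pt) (kc xc28 yc28 zc39) (kc xc19 yc21 zc41) (kc xc19 yc21 zc38) (kc xc31 yc39 zc12) (kc xc27 yc34 zc35) (kc xc29 yc33 zc52) (kc xc32 yc30 zc5) (kc xc28 yc46 zc55) (kc xc28 yc46 zc54) (kc xc26 yc17 zc28) (kc xc31 yc41 zc35) (kc xc19 yc51 zc18) (kc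 xc19 yc51 zc20) (kc xc19 yc52 zc10) (kc xc22 yc19 zc21) (kc xc22 yc19 zc3) (kc xc19 yc21 zc46) (kc xc24 yc29 zc41) (kc xc24 yc22 zc46) (kc xc23 yc9 zc11) (kc xc24 yc21 zc9) (kc xc20 yc18 zc49) (kc xc19 yc52 zc9) (kc xc27 yc53 zc22) (kc xc29 yc24 zc59) (kc xc19 yc21 zc52) (kc xc30 yc17 zc26) (kc xc25 yc58 zc20) (kc xc19 yc51 zc51) (kc xc19 yc21 zc61) (kc xc19 yc22 zc0) (kc xc28 yc53 zc29) (kc xc32 yc26 zc2) (kc xc32 yc27 zc38) (kc xc19 yc22 zc4) (kc xc26 yc27 zc31) (kc xc30 yc26 zc22) (kc xc31 yc25 zc55) (kc xc31 yc50 zc27) (kc xc22 yc57 zc37) (kc xc29 yc14 zc40) (kc xc31 yc25 zc56) (kc xc19 yc22 zc12) (kc xc19 yc22 zc13) (kc xc32 yc0 zc37) (kc xc29 yc8 zc10) (kc xc23 yc49 zc31) (kc xc28 yc3 zc37) (kc xc25 yc30 zc54) (kc xc19 yc22 zc34) (kc xc32 yc21 zc44) (kc xc31 yc38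 zc24) (kc xc19 yc22 zc36) (kc xc24 yc50 zc53) (kc xc28 yc46 zc8) (kc xc28 yc46 zc7) (kc xc19 yc45 zc16) (kc xc19 yc22 zc42) (kc xc19 yc22 zc40) (kc xc32 yc12 zc59) (kc xc25 yc19 zc30) (kc xc24 yc50 zc52)) (@D3.rec (fun _ => Pt) (kc xc28 yc30 zc24) (kc xc28 yc30 zc25) (kc xc19 yc22 zc46) (kc xc32 yc38 zc47) (kc xc21 yc31 zc9) (kc xc19 yc22 zc50) (kc xc32 yc31 zc55) (kc xc19 yc22 zc53) (kc xc19 yc22 zc55) (kc xc29 yc35 zc23) (kc xc24 yc12 zc16) (kc xc24 yc13 zc13) (kc xc32 yc38 zc48) (kc xc22 yc42 zc61) (kc xc19 yc22 zc61) (kc xc31 yc13 zc32) (kc xc19 yc23 zc1) (kc xc26 yc58 zc16) (kc xc26 yc26 zc2) (kc xc26 yc25 zc60) (kc xc30 yc52 zc10) (kc xc32 yc30 zc26) (kc xc19 yc23 zc10) (kc xc20 yc50 zc58) (kc xc19 yc23 zc15) (kc xc19 yc23 zc20) (kc xc31 yc41 zc9) (kc xc31 yc56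 zc2) (kc xc19 yc23 zc28) (kc xc19 yc23 zc31) (kc xc22 yc39 zc55) (kc xc19 yc23 zc29) (kc xc25 yc6 zc0) (kc xc30 yc47 zc30) (kc xc24 yc10 zc19) (kc xc31 yc28 zc52) (kc xc26 yc34 zc3) (kc xc28 yc4 zc55) (kc xc19 yc58 zc25) (kc xc29 yc13 zc20) (kc xc19 yc23 zc49) (kc xc22 yc4 zc12) (kc xc26 yc32 zc53) (kc xc25 yc19 zc44) (kc xc19 yc23 zc53) (kc xc32 yc38 zc11) (kc xc19 yc23 zc54) (kc xc29 yc16 zc15) (kc xc28 yc56 zc21) (kc xc26 yc28 zc16) (kc xc19 yc25 zc45) (kc xc20 yc30 zc27) (kc xc19 yc24 zc2) (kc xc30 yc53 zc61) (kc xc32 yc38 zc12) (kc xc28 yc42 zc19) (kc xc30 yc56 zc34) (kc xc28 yc30 zc35) (kc xc19 yc44 zc45) (kc xc19 yc24 zc9) (kc xc24 yc10 zc18) (kc xc19 yc58 zc23)) (@D3.rec (fun _ => Pt) (kc xc29 yc45 zc7) (kc xc32 yc27 zc24) (kc xc29 yc9 zc20) (kc xc25 yc5 zc61)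 (kc xc24 yc53 zc2) (kc xc20 yc35 zc27) (kc xc21 yc52 zc4) (kc xc23 yc58 zc32) (kc xc28 yc53 zc36) (kc xc29 yc33 zc5) (kc xc29 yc33 zc4) (kc xc25 yc48 zc19) (kc xc19 yc24 zc29) (kc xc29 yc35 zc28) (kc xc30 yc37 zc47) (kc xc19 yc24 zc30) (kc xc29 yc15 zc35) (kc xc24 yc13 zc31) (kc xc28 yc18 zc20) (kc xc28 yc22 zc29) (kc xc31 yc52 zc56) (kc xc19 yc24 zc39) (kc xc21 yc52 zc6) (kc xc19 yc24 zc40) (kc xc28 yc22 zc22) (kc xc19 yc24 zc45) (kc xc19 yc24 zc46) (kc xc29 yc13 zc36) (kc xc29 yc45 zc28) (kc xc29 yc17 zc30) (kc xc21 yc48 zc48) (kc xc26 yc33 zc14) (kc xc20 yc55 zc61) (kc xc21 yc3 zc35) (kc xc21 yc2 zc19) (kc xc24 yc24 zc9) (kc xc19 yc27 zc35) (kc xc19 yc25 zc12) (kc xc24 yc4 zc49) (kc xc24 yc28 zc45) (kc xc25 yc51 zc58) (kc xc30 yc40 zc1) (kc xc21 yc0 zc8) (kc xc20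 yc25 zc15) (kc xc20 yc14 zc37) (kc xc31 yc29 zc15) (kc xc24 yc38 zc17) (kc xc24 yc30 zc11) (kc xc19 yc25 zc25) (kc xc20 yc8 zc52) (kc xc24 yc27 zc7) (kc xc32 yc35 zc3) (kc xc31 yc33 zc8) (kc xc19 yc25 zc32) (kc xc30 yc29 zc9) (kc xc32 yc28 zc4) (kc xc31 yc46 zc20) (kc xc32 yc38 zc57) (kc xc19 yc25 zc34) (kc xc32 yc38 zc59) (kc xc19 yc25 zc35) (kc xc30 yc29 zc24)) (@D3.rec (fun _ => Pt) (kc xc25 yc32 zc32) (kc xc31 yc14 zc6) (kc xc19 yc25 zc37) (kc xc30 yc34 zc10) (kc xc19 yc25 zc39) (kc xc21 yc31 zc51) (kc xc19 yc25 zc43) (kc xc27 yc13 zc46) (kc xc19 yc25 zc42) (kc xc31 yc21 zc20) (kc xc32 yc39 zc4) (kc xc29 yc7 zc3) (kc xc31 yc39 zc10) (kc xc26 yc33 zc13) (kc xc29 yc49 zc7) (kc xc31 yc39 zc9) (kc xc19 yc25 zc50) (kc xc32 yc39 zc9) (kc xc31 yc28 zc37) (kc xc21 yc58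 zc23) (kc xc19 yc25 zc61) (kc xc19 yc26 zc3) (kc xc19 yc26 zc5) (kc xc28 yc20 zc59) (kc xc28 yc20 zc60) (kc xc28 yc50 zc56) (kc xc24 yc13 zc16) (kc xc26 yc23 zc18) (kc xc30 yc9 zc52) (kc xc32 yc34 zc42) (kc xc19 yc26 zc20) (kc xc22 yc44 zc45) (kc xc19 yc26 zc25) (kc xc31 yc56 zc53) (kc xc31 yc41 zc61) (kc xc19 yc26 zc29) (kc xc30 yc20 zc35) (kc xc19 yc26 zc30) (kc xc22 yc44 zc46) (kc xc19 yc26 zc33) (kc xc29 yc23 zc34) (kc xc23 yc39 zc23) (kc xc23 yc28 zc14) (kc xc31 yc30 zc61) (kc xc22 yc43 zc7) (kc xc22 yc43 zc8) (kc xc27 yc48 zc16) (kc xc21 yc30 zc36) (kc xc20 yc9 zc13) (kc xc20 yc9 zc9) (kc xc19 yc27 zc9) (kc xc32 yc33 zc50) (kc xc20 yc5 zc26) (kc xc32 yc21 zc33) (kc xc24 yc52 zc17) (kc xc30 yc27 zc38) (kc xc28 yc36 zc0) (kc xc32 yc33 zc53) (kc xc32 yc1 zc4) (kc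 xc19 yc27 zc8) (kc xc32 yc36 zc11) (kc xc31 yc51 zc24)) (@D3.rec (fun _ => Pt) (kc xc26 yc29 zc19) (kc xc29 yc15 zc14) (kc xc24 yc7 zc49) (kc xc24 yc13 zc40) (kc xc27 yc13 zc5) (kc xc24 yc14 zc17) (kc xc20 yc29 zc7) (kc xc30 yc55 zc46) (kc xc26 yc53 zc13) (kc xc23 yc4 zc31) (kc xc31 yc24 zc29) (kc xc29 yc53 zc41) (kc xc30 yc26 zc15) (kc xc27 yc42 zc25) (kc xc19 yc27 zc32) (kc xc21 yc42 zc4) (kc xc25 yc20 zc42) (kc xc19 yc27 zc50) (kc xc19 yc27 zc52) (kc xc29 yc11 zc45) (kc xc30 yc36 zc21) (kc xc30 yc20 zc5) (kc xc32 yc3 zc3) (kc xc30 yc26 zc31) (kc xc24 yc20 zc52) (kc xc25 yc24 zc40) (kc xc25 yc54 zc51) (kc xc19 yc28 zc16) (kc xc19 yc41 zc20) (kc xc19 yc41 zc21) (kc xc19 yc28 zc23) (kc xc32 yc13 zc11) (kc xc26 yc34 zc57) (kc xc19 yc44 zc5) (kc xc28 yc54 zc9) (kc xc28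 yc54 zc8) (kc xc28 yc14 zc5) (kc xc19 yc28 zc29) (kc xc19 yc28 zc28) (kc xc30 yc46 zc8) (kc xc31 yc37 zc54) (kc xc22 yc2 zc4) (kc xc26 yc34 zc18) (kc xc19 yc28 zc30) (kc xc21 yc4 zc13) (kc xc31 yc51 zc13) (kc xc25 yc50 zc18) (kc xc19 yc28 zc33) (kc xc19 yc28 zc32) (kc xc30 yc47 zc11) (kc xc27 yc11 zc37) (kc xc30 yc23 zc35) (kc xc30 yc19 zc37) (kc xc23 yc8 zc24) (kc xc21 yc4 zc17) (kc xc25 yc11 zc41) (kc xc28 yc49 zc25) (kc xc19 yc28 zc51) (kc xc32 yc39 zc25) (kc xc29 yc10 zc1) (kc xc29 yc13 zc50) (kc xc31 yc29 zc12)) (@D3.rec (fun _ => Pt) (kc xc29 yc1 zc9) (kc xc20 yc6 zc1) (kc xc19 yc28 zc54) (kc xc22 yc47 zc8) (kc xc19 yc28 zc56) (kc xc19 yc28 zc57) (kc xc32 yc39 zc26) (kc xc19 yc28 zc59) (kc xc19 yc28 zc60) (kc xc29 yc33 zc59) (kc xc32 yc13 zc20) (kc xc19 yc29 zc1)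 (kc xc19 yc29 zc2) (kc xc19 yc30 zc4) (kc xc26 yc49 zc13) (kc xc23 yc24 zc7) (kc xc32 yc11 zc34) (kc xc25 yc13 zc47) (kc xc32 yc37 zc17) (kc xc19 yc29 zc10) (kc xc24 yc2 zc40) (kc xc19 yc29 zc26) (kc xc29 yc7 zc26) (kc xc25 yc23 zc7) (kc xc32 yc39 zc20) (kc xc32 yc39 zc21) (kc xc32 yc10 zc39) (kc xc19 yc29 zc34) (kc xc23 yc59 zc14) (kc xc24 yc33 zc18) (kc xc22 yc21 zc29) (kc xc25 yc38 zc15) (kc xc20 yc12 zc2) (kc xc32 yc14 zc42) (kc xc19 yc29 zc18) (kc xc32 yc35 zc46) (kc xc27 yc35 zc61) (kc xc25 yc56 zc23) (kc xc19 yc29 zc24) (kc xc26 yc58 zc7) (kc xc25 yc20 zc27) (kc xc30 yc30 zc25) (kc xc32 yc39 zc32) (kc xc20 yc29 zc29) (kc xc31 yc56 zc20) (kc xc25 yc47 zc50) (kc xc23 yc10 zc19) (kc xc28 yc32 zc37) (kc xc19 yc29 zc31) (kc xc22 yc39 zc52) (kc xc19 yc29 zc32) (kc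 xc32 yc37 zc33) (kc xc32 yc17 zc41) (kc xc29 yc35 zc47) (kc xc19 yc29 zc33) (kc xc30 yc30 zc23) (kc xc23 yc10 zc36) (kc xc32 yc39 zc42) (kc xc27 yc7 zc5) (kc xc19 yc29 zc37) (kc xc32 yc39 zc45) (kc xc26 yc59 zc28)) (@D3.rec (fun _ => Pt) (kc xc19 yc29 zc40) (kc xc32 yc39 zc46) (kc xc32 yc39 zc47) (kc xc19 yc29 zc41) (kc xc27 yc12 zc44) (kc xc19 yc29 zc42) (kc xc28 yc16 zc43) (kc xc30 yc5 zc6) (kc xc32 yc33 zc16) (kc xc21 yc38 zc32) (kc xc19 yc29 zc46) (kc xc19 yc29 zc52) (kc xc30 yc26 zc11) (kc xc27 yc19 zc13) (kc xc26 yc52 zc55) (kc xc32 yc39 zc48) (kc xc29 yc8 zc24) (kc xc23 yc53 zc35) (kc xc19 yc29 zc54) (kc xc19 yc29 zc55) (kc xc28 yc43 zc5) (kc xc20 yc29 zc42) (kc xc29 yc53 zc40) (kc xc23 yc56 zc3) (kc xc31 yc18 zc24) (kc xc19 yc29 zc58) (kc xc30 yc25 zc22) (kc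 xc27 yc19 zc12) (kc xc32 yc13 zc19) (kc xc23 yc45 zc38) (kc xc30 yc30 zc14) (kc xc29 yc40 zc4) (kc xc19 yc29 zc60) (kc xc30 yc16 zc0) (kc xc20 yc43 zc49) (kc xc32 yc1 zc56) (kc xc31 yc22 zc43) (kc xc32 yc19 zc16) (kc xc32 yc39 zc27) (kc xc19 yc30 zc2) (kc xc32 yc39 zc54) (kc xc25 yc32 zc29) (kc xc30 yc14 zc58) (kc xc19 yc36 zc4) (kc xc19 yc30 zc6) (kc xc19 yc30 zc9) (kc xc31 yc10 zc56) (kc xc30 yc37 zc57) (kc xc29 yc15 zc34) (kc xc26 yc58 zc4) (kc xc19 yc30 zc14) (kc xc25 yc50 zc23) (kc xc32 yc36 zc41) (kc xc19 yc30 zc16) (kc xc21 yc21 zc26) (kc xc19 yc30 zc17) (kc xc23 yc47 zc59) (kc xc19 yc30 zc18) (kc xc30 yc38 zc40) (kc xc32 yc33 zc55) (kc xc32 yc22 zc42) (kc xc19 yc30 zc22)) (@D3.rec (fun _ => Pt) (kc xc32 yc20 zc29) (kc xc26 yc43 zc1) (kc xc22 yc13 zc34) (kc xc32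 yc33 zc20) (kc xc29 yc0 zc34) (kc xc20 yc14 zc44) (kc xc26 yc24 zc40) (kc xc29 yc22 zc12) (kc xc29 yc22 zc27) (kc xc19 yc30 zc31) (kc xc32 yc18 zc17) (kc xc30 yc53 zc3) (kc xc32 yc19 zc44) (kc xc32 yc18 zc32) (kc xc19 yc33 zc47) (kc xc24 yc30 zc36) (kc xc30 yc36 zc16) (kc xc28 yc11 zc43) (kc xc30 yc24 zc17) (kc xc30 yc51 zc18) (kc xc19 yc55 zc57) (kc xc30 yc37 zc50) (kc xc29 yc49 zc57) (kc xc19 yc34 zc29) (kc xc19 yc30 zc40) (kc xc28 yc33 zc57) (kc xc32 yc40 zc4) (kc xc31 yc32 zc8) (kc xc23 yc48 zc38) (kc xc28 yc46 zc31) (kc xc19 yc30 zc42) (kc xc32 yc40 zc8) (kc xc24 yc8 zc55) (kc xc26 yc51 zc15) (kc xc19 yc30 zc46) (kc xc23 yc12 zc43) (kc xc28 yc48 zc8) (kc xc23 yc53 zc29) (kc xc27 yc52 zc11) (kc xc19 yc34 zc22) (kc xc22 yc54 zc14) (kc xc19 yc34 zc9) (kc xc19 yc33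 zc43) (kc xc32 yc15 zc25) (kc xc24 yc5 zc36) (kc xc24 yc20 zc9) (kc xc31 yc31 zc17) (kc xc30 yc55 zc50) (kc xc19 yc31 zc1) (kc xc19 yc53 zc49) (kc xc32 yc17 zc53) (kc xc19 yc31 zc16) (kc xc19 yc31 zc9) (kc xc23 yc28 zc19) (kc xc23 yc26 zc59) (kc xc31 yc28 zc19) (kc xc29 yc43 zc36) (kc xc19 yc31 zc20) (kc xc19 yc31 zc22) (kc xc23 yc11 zc29) (kc xc19 yc31 zc23) (kc xc31 yc36 zc44)) (@D3.rec (fun _ => Pt) (kc xc28 yc23 zc4) (kc xc28 yc45 zc13) (kc xc26 yc37 zc16) (kc xc26 yc15 zc58) (kc xc19 yc31 zc35) (kc xc24 yc13 zc28) (kc xc27 yc59 zc3) (kc xc28 yc20 zc61) (kc xc28 yc50 zc35) (kc xc28 yc50 zc34) (kc xc26 yc1 zc52) (kc xc19 yc31 zc40) (kc xc26 yc35 zc18) (kc xc19 yc31 zc44) (kc xc31 yc35 zc51) (kc xc19 yc33 zc12) (kc xc31 yc35 zc27) (kc xc22 yc25 zc40) (kc xc19 yc31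 zc47) (kc xc31 yc56 zc42) (kc xc22 yc25 zc41) (kc xc24 yc33 zc26) (kc xc32 yc16 zc3) (kc xc31 yc33 zc15) (kc xc32 yc5 zc19) (kc xc32 yc40 zc16) (kc xc32 yc40 zc18) (kc xc30 yc29 zc30) (kc xc22 yc19 zc36) (kc xc24 yc24 zc48) (kc xc23 yc13 zc13) (kc xc27 yc14 zc42) (kc xc24 yc1 zc14) (kc xc24 yc1 zc13) (kc xc19 yc31 zc54) (kc xc32 yc16 zc28) (kc xc32 yc40 zc24) (kc xc29 yc22 zc26) (kc xc31 yc55 zc34) (kc xc19 yc31 zc57) (kc xc32 yc40 zc25) (kc xc30 yc16 zc31) (kc xc31 yc17 zc42) (kc xc29 yc50 zc3) (kc xc31 yc31 zc7) (kc xc31 yc31 zc6) (kc xc22 yc23 zc46) (kc xc19 yc32 zc4) (kc xc32 yc19 zc61) (kc xc32 yc14 zc31) (kc xc29 yc14 zc25) (kc xc30 yc25 zc61) (kc xc24 yc8 zc26) (kc xc32 yc13 zc53) (kc xc31 yc29 zc5) (kc xc19 yc32 zc14) (kc xc26 yc39 zc60) (kc xc26 yc43 zc53)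 (kc xc30 yc26 zc0) (kc xc25 yc33 zc1) (kc xc30 yc4 zc2) (kc xc29 yc35 zc56)) (@D3.rec (fun _ => Pt) (kc xc23 yc52 zc56) (kc xc28 yc1 zc33) (kc xc22 yc22 zc51) (kc xc20 yc4 zc33) (kc xc29 yc3 zc17) (kc xc27 yc1 zc9) (kc xc25 yc50 zc32) (kc xc27 yc36 zc7) (kc xc26 yc21 zc53) (kc xc25 yc40 zc41) (kc xc26 yc27 zc13) (kc xc32 yc40 zc35) (kc xc19 yc32 zc57) (kc xc19 yc32 zc55) (kc xc19 yc32 zc56) (kc xc19 yc33 zc1) (kc xc27 yc36 zc12) (kc xc22 yc33 zc14) (kc xc26 yc21 zc54) (kc xc31 yc39 zc7) (kc xc32 yc40 zc41) (kc xc28 yc38 zc50) (kc xc26 yc27 zc37) (kc xc32 yc40 zc46) (kc xc19 yc33 zc4) (kc xc32 yc40 zc49) (kc xc19 yc50 zc26) (kc xc30 yc51 zc55) (kc xc20 yc4 zc40) (kc xc32 yc40 zc13) (kc xc32 yc40 zc55) (kc xc24 yc22 zc2) (kc xc32 yc18 zc45) (kc xc25 yc59 zc25) (kc xc28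 yc13 zc11) (kc xc19 yc33 zc28) (kc xc19 yc33 zc31) (kc xc26 yc21 zc35) (kc xc32 yc13 zc48) (kc xc26 yc44 zc0) (kc xc32 yc10 zc19) (kc xc19 yc33 zc36) (kc xc31 yc15 zc58) (kc xc30 yc15 zc10) (kc xc32 yc37 zc18) (kc xc32 yc18 zc18) (kc xc28 yc29 zc42) (kc xc31 yc33 zc16) (kc xc28 yc18 zc22) (kc xc24 yc21 zc48) (kc xc22 yc25 zc52) (kc xc31 yc38 zc58) (kc xc19 yc33 zc54) (kc xc20 yc38 zc41) (kc xc27 yc2 zc50) (kc xc29 yc33 zc6) (kc xc32 yc12 zc21) (kc xc19 yc33 zc61) (kc xc27 yc3 zc38) (kc xc24 yc2 zc43) (kc xc24 yc2 zc52) (kc xc27 yc2 zc51)) (@D3.rec (fun _ => Pt) (kc xc26 yc26 zc18) (kc xc31 yc51 zc40) (kc xc29 yc19 zc31) (kc xc19 yc34 zc3) (kc xc28 yc22 zc56) (kc xc31 yc22 zc54) (kc xc32 yc21 zc20) (kc xc32 yc9 zc22) (kc xc32 yc38 zc24) (kc xc23 yc58 zc31) (kc xc32 yc40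 zc60) (kc xc30 yc45 zc4) (kc xc31 yc27 zc61) (kc xc19 yc34 zc6) (kc xc31 yc21 zc41) (kc xc23 yc4 zc50) (kc xc31 yc22 zc32) (kc xc22 yc50 zc11) (kc xc19 yc34 zc13) (kc xc23 yc53 zc8) (kc xc24 yc47 zc9) (kc xc28 yc47 zc48) (kc xc19 yc43 zc39) (kc xc32 yc3 zc5) (kc xc28 yc14 zc15) (kc xc24 yc6 zc46) (kc xc19 yc34 zc32) (kc xc23 yc53 zc11) (kc xc20 yc39 zc44) (kc xc30 yc48 zc47) (kc xc32 yc36 zc22) (kc xc30 yc55 zc35) (kc xc19 yc34 zc41) (kc xc32 yc41 zc5) (kc xc32 yc41 zc8) (kc xc19 yc34 zc42) (kc xc29 yc33 zc7) (kc xc20 yc39 zc38) (kc xc23 yc54 zc60) (kc xc26 yc37 zc51) (kc xc30 yc3 zc21) (kc xc25 yc40 zc21) (kc xc23 yc46 zc51) (kc xc29 yc13 zc10) (kc xc32 yc15 zc52) (kc xc19 yc34 zc54) (kc xc26 yc48 zc38) (kc xc19 yc45 zc2) (kc xc19 yc45 zc3) (kc xc24 yc2 zc33) (kc xc32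 yc21 zc46) (kc xc21 yc21 zc3) (kc xc19 yc35 zc1) (kc xc26 yc33 zc60) (kc xc29 yc58 zc6) (kc xc28 yc42 zc43) (kc xc24 yc41 zc23) (kc xc29 yc49 zc13) (kc xc19 yc35 zc8) (kc xc28 yc29 zc47) (kc xc27 yc36 zc0) (kc xc19 yc44 zc24)) (@D3.rec (fun _ => Pt) (kc xc19 yc35 zc13) (kc xc30 yc44 zc16) (kc xc27 yc29 zc21) (kc xc31 yc38 zc53) (kc xc24 yc14 zc18) (kc xc21 yc50 zc24) (kc xc24 yc18 zc38) (kc xc19 yc35 zc22) (kc xc31 yc32 zc35) (kc xc24 yc8 zc42) (kc xc31 yc26 zc26) (kc xc27 yc12 zc52) (kc xc28 yc42 zc28) (kc xc25 yc15 zc13) (kc xc23 yc56 zc47) (kc xc20 yc5 zc3) (kc xc23 yc56 zc48) (kc xc20 yc3 zc27) (kc xc29 yc5 zc24) (kc xc19 yc35 zc25) (kc xc26 yc25 zc57) (kc xc29 yc44 zc50) (kc xc29 yc44 zc47) (kc xc19 yc35 zc28) (kc xc19 yc35 zc30) (kc xc32 yc41 zc19) (kc xc19 yc35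 zc31) (kc xc32 yc41 zc20) (kc xc25 yc33 zc37) (kc xc19 yc46 zc25) (kc xc29 yc17 zc12) (kc xc19 yc35 zc33) (kc xc28 yc1 zc23) (kc xc20 yc27 zc20) (kc xc26 yc51 zc3) (kc xc25 yc41 zc7) (kc xc28 yc23 zc50) (kc xc24 yc41 zc13) (kc xc19 yc37 zc49) (kc xc21 yc27 zc38) (kc xc23 yc23 zc16) (kc xc29 yc21 zc53) (kc xc25 yc38 zc8) (kc xc26 yc48 zc12) (kc xc22 yc10 zc30) (kc xc25 yc34 zc11) (kc xc26 yc16 zc54) (kc xc29 yc51 zc53) (kc xc22 yc55 zc51) (kc xc19 yc35 zc58) (kc xc19 yc35 zc57) (kc xc28 yc36 zc21) (kc xc21 yc57 zc21) (kc xc21 yc58 zc50) (kc xc24 yc15 zc16) (kc xc27 yc25 zc58) (kc xc24 yc39 zc53) (kc xc19 yc35 zc61) (kc xc28 yc45 zc0) (kc xc28 yc37 zc44) (kc xc22 yc2 zc5) (kc xc25 yc27 zc21)) (@D3.rec (fun _ => Pt) (kc xc28 yc25 zc2) (kc xc22 yc56 zc31) (kc xc19 yc36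 zc6) (kc xc26 yc4 zc51) (kc xc19 yc36 zc17) (kc xc19 yc36 zc19) (kc xc28 yc11 zc28) (kc xc19 yc36 zc22) (kc xc24 yc36 zc2) (kc xc30 yc53 zc48) (kc xc19 yc36 zc23) (kc xc24 yc36 zc3) (kc xc29 yc35 zc27) (kc xc31 yc36 zc53) (kc xc25 yc20 zc21) (kc xc23 yc59 zc32) (kc xc26 yc35 zc10) (kc xc20 yc23 zc2) (kc xc29 yc30 zc53) (kc xc19 yc36 zc31) (kc xc26 yc5 zc32) (kc xc20 yc51 zc9) (kc xc32 yc27 zc54) (kc xc24 yc42 zc14) (kc xc24 yc16 zc0) (kc xc29 yc35 zc6) (kc xc27 yc56 zc13) (kc xc32 yc38 zc35) (kc xc31 yc40 zc44) (kc xc22 yc1 zc61) (kc xc21 yc16 zc43) (kc xc19 yc36 zc45) (kc xc28 yc41 zc31) (kc xc19 yc36 zc49) (kc xc32 yc41 zc21) (kc xc19 yc36 zc56) (kc xc31 yc24 zc33) (kc xc32 yc41 zc22) (kc xc24 yc21 zc13) (kc xc29 yc9 zc59) (kc xc31 yc38 zc19) (kc xc19 yc36 zc61) (kc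 xc19 yc54 zc7) (kc xc31 yc40 zc0) (kc xc19 yc37 zc2) (kc xc32 yc30 zc18) (kc xc31 yc28 zc15) (kc xc31 yc45 zc34) (kc xc32 yc29 zc56) (kc xc19 yc37 zc5) (kc xc32 yc29 zc18) (kc xc30 yc19 zc22) (kc xc25 yc19 zc60) (kc xc30 yc27 zc39) (kc xc20 yc2 zc57) (kc xc28 yc12 zc54) (kc xc25 yc9 zc36) (kc xc20 yc2 zc61) (kc xc20 yc3 zc0) (kc xc31 yc35 zc31) (kc xc26 yc58 zc13) (kc xc19 yc40 zc1)) (@D3.rec (fun _ => Pt) (kc xc30 yc4 zc1) (kc xc26 yc17 zc3) (kc xc22 yc11 zc26) (kc xc27 yc21 zc43) (kc xc27 yc21 zc42) (kc xc20 yc4 zc55) (kc xc19 yc40 zc12) (kc xc19 yc40 zc11) (kc xc19 yc50 zc11) (kc xc19 yc37 zc25) (kc xc26 yc42 zc24) (kc xc28 yc26 zc29) (kc xc19 yc39 zc61) (kc xc29 yc20 zc57) (kc xc19 yc37 zc35) (kc xc32 yc35 zc47) (kc xc28 yc26 zc31) (kc xc19 yc37 zc36) (kc xc19 yc37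 zc38) (kc xc20 yc3 zc33) (kc xc25 yc9 zc44) (kc xc19 yc37 zc41) (kc xc20 yc4 zc52) (kc xc19 yc50 zc8) (kc xc28 yc44 zc27) (kc xc28 yc28 zc61) (kc xc19 yc37 zc56) (kc xc29 yc59 zc4) (kc xc22 yc55 zc13) (kc xc19 yc37 zc61) (kc xc25 yc33 zc21) (kc xc25 yc33 zc24) (kc xc19 yc38 zc1) (kc xc19 yc38 zc2) (kc xc32 yc22 zc18) (kc xc31 yc47 zc30) (kc xc32 yc0 zc20) (kc xc19 yc38 zc4) (kc xc31 yc43 zc55) (kc xc19 yc38 zc5) (kc xc25 yc33 zc52) (kc xc19 yc38 zc8) (kc xc25 yc31 zc23) (kc xc24 yc50 zc5) (kc xc32 yc12 zc0) (kc xc19 yc38 zc46) (kc xc25 yc11 zc17) (kc xc19 yc38 zc14) (kc xc31 yc48 zc23) (kc xc19 yc45 zc46) (kc xc25 yc13 zc6) (kc xc29 yc6 zc5) (kc xc30 yc7 zc53) (kc xc19 yc38 zc20) (kc xc31 yc52 zc48) (kc xc31 yc40 zc47) (kc xc31 yc28 zc29) (kc xc19 yc38 zc22) (kc xc31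 yc52 zc6) (kc xc28 yc41 zc60) (kc xc31 yc28 zc25) (kc xc27 yc0 zc58))
def f_c_29 : D2 → D3 → Pt := @D2.rec (fun _ => D3 → Pt) (@D3.rec (fun _ => Pt) (kc xc20 yc23 zc4) (kc xc20 yc23 zc6) (kc xc20 yc23 zc7) (kc xc19 yc38 zc36) (kc xc25 yc37 zc32) (kc xc20 yc42 zc9) (kc xc28 yc34 zc49) (kc xc26 yc59 zc8) (kc xc30 yc9 zc0) (kc xc30 yc8 zc61) (kc xc29 yc17 zc26) (kc xc30 yc13 zc24) (kc xc32 yc11 zc41) (kc xc19 yc38 zc49) (kc xc19 yc38 zc50) (kc xc24 yc36 zc4) (kc xc23 yc42 zc20) (kc xc21 yc26 zc55) (kc xc25 yc10 zc3) (kc xc28 yc10 zc16) (kc xc30 yc26 zc27) (kc xc24 yc23 zc23) (kc xc22 yc17 zc25) (kc xc28 yc11 zc51) (kc xc31 yc46 zc28) (kc xc21 yc32 zc53) (kc xc23 yc22 zc9) (kc xc22 yc17 zc22) (kc xc22 yc17 zc38) (kc xc19 yc39 zc33) (kc xc25 yc40 zc40) (kc xc20 yc18 zc48)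 (kc xc19 yc39 zc31) (kc xc19 yc39 zc39) (kc xc28 yc53 zc4) (kc xc30 yc3 zc46) (kc xc26 yc17 zc4) (kc xc19 yc39 zc45) (kc xc29 yc20 zc15) (kc xc30 yc21 zc9) (kc xc30 yc50 zc51) (kc xc28 yc34 zc32) (kc xc20 yc25 zc60) (kc xc26 yc48 zc7) (kc xc19 yc40 zc41) (kc xc26 yc37 zc25) (kc xc27 yc21 zc47) (kc xc26 yc37 zc29) (kc xc19 yc40 zc15) (kc xc27 yc8 zc7) (kc xc20 yc26 zc53) (kc xc25 yc37 zc50) (kc xc19 yc40 zc19) (kc xc19 yc40 zc21) (kc xc20 yc4 zc53) (kc xc21 yc57 zc39) (kc xc26 yc56 zc61) (kc xc25 yc37 zc26) (kc xc19 yc40 zc35) (kc xc19 yc40 zc36) (kc xc19 yc40 zc39) (kc xc29 yc43 zc47)) (@D3.rec (fun _ => Pt) (kc xc31 yc36 zc8) (kc xc30 yc8 zc26) (kc xc26 yc33 zc34) (kc xc24 yc23 zc4) (kc xc26 yc38 zc29) (kc xc25 yc49 zc27) (kc xc31 yc39 zc53) (kc xc19 yc40 zc61) (kc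 xc31 yc41 zc57) (kc xc28 yc51 zc0) (kc xc19 yc41 zc12) (kc xc19 yc51 zc30) (kc xc25 yc10 zc16) (kc xc19 yc41 zc14) (kc xc23 yc59 zc7) (kc xc32 yc23 zc60) (kc xc30 yc17 zc30) (kc xc31 yc29 zc55) (kc xc25 yc52 zc23) (kc xc25 yc52 zc22) (kc xc20 yc16 zc27) (kc xc21 yc47 zc42) (kc xc24 yc3 zc11) (kc xc22 yc17 zc12) (kc xc26 yc9 zc10) (kc xc19 yc48 zc49) (kc xc19 yc49 zc50) (kc xc19 yc43 zc36) (kc xc19 yc41 zc36) (kc xc28 yc29 zc43) (kc xc32 yc41 zc41) (kc xc32 yc32 zc35) (kc xc29 yc21 zc32) (kc xc30 yc51 zc5) (kc xc19 yc43 zc33) (kc xc19 yc41 zc39) (kc xc32 yc15 zc44) (kc xc31 yc28 zc3) (kc xc32 yc34 zc12) (kc xc31 yc15 zc57) (kc xc32 yc41 zc42) (kc xc19 yc43 zc26) (kc xc26 yc43 zc45) (kc xc19 yc43 zc18) (kc xc20 yc38 zc51) (kc xc30 yc33 zc39) (kc xc24 yc0 zc9) (kc xc31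 yc29 zc39) (kc xc19 yc41 zc45) (kc xc31 yc28 zc56) (kc xc32 yc38 zc43) (kc xc27 yc40 zc33) (kc xc20 yc0 zc14) (kc xc19 yc41 zc49) (kc xc29 yc54 zc45) (kc xc28 yc14 zc22) (kc xc26 yc24 zc57) (kc xc24 yc9 zc7) (kc xc29 yc54 zc44) (kc xc32 yc41 zc43) (kc xc32 yc22 zc11) (kc xc19 yc41 zc54)) (@D3.rec (fun _ => Pt) (kc xc31 yc13 zc52) (kc xc32 yc29 zc28) (kc xc19 yc41 zc58) (kc xc32 yc41 zc44) (kc xc28 yc5 zc58) (kc xc32 yc41 zc45) (kc xc32 yc41 zc46) (kc xc32 yc41 zc47) (kc xc19 yc41 zc60) (kc xc32 yc41 zc49) (kc xc24 yc4 zc50) (kc xc19 yc42 zc4) (kc xc31 yc48 zc11) (kc xc21 yc48 zc41) (kc xc21 yc48 zc43) (kc xc23 yc46 zc29) (kc xc29 yc12 zc30) (kc xc19 yc42 zc7) (kc xc30 yc27 zc4) (kc xc19 yc42 zc24) (kc xc27 yc37 zc19) (kc xc31 yc21 zc60) (kc xc19 yc42 zc27) (kc xc19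 yc42 zc20) (kc xc19 yc42 zc21) (kc xc24 yc50 zc13) (kc xc31 yc21 zc29) (kc xc30 yc22 zc13) (kc xc31 yc41 zc40) (kc xc19 yc42 zc25) (kc xc28 yc5 zc14) (kc xc30 yc23 zc24) (kc xc19 yc49 zc19) (kc xc21 yc28 zc20) (kc xc20 yc37 zc41) (kc xc19 yc42 zc38) (kc xc21 yc40 zc41) (kc xc26 yc34 zc12) (kc xc27 yc35 zc50) (kc xc26 yc41 zc6) (kc xc21 yc40 zc42) (kc xc25 yc53 zc12) (kc xc29 yc44 zc57) (kc xc20 yc53 zc7) (kc xc28 yc43 zc8) (kc xc26 yc59 zc25) (kc xc29 yc46 zc4) (kc xc28 yc27 zc59) (kc xc19 yc42 zc51) (kc xc22 yc3 zc13) (kc xc29 yc5 zc60) (kc xc27 yc10 zc24) (kc xc28 yc30 zc41) (kc xc20 yc47 zc1) (kc xc20 yc30 zc30) (kc xc20 yc47 zc3) (kc xc29 yc7 zc57) (kc xc26 yc55 zc39) (kc xc29 yc14 zc45) (kc xc29 yc27 zc7) (kc xc22 yc6 zc26) (kc xc19 yc43 zc14)) (@D3.rec (fun _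 => Pt) (kc xc20 yc6 zc0) (kc xc31 yc25 zc22) (kc xc19 yc43 zc20) (kc xc22 yc5 zc7) (kc xc30 yc53 zc17) (kc xc28 yc18 zc3) (kc xc26 yc44 zc52) (kc xc31 yc54 zc15) (kc xc30 yc53 zc1) (kc xc31 yc31 zc1) (kc xc29 yc13 zc60) (kc xc29 yc27 zc6) (kc xc23 yc16 zc45) (kc xc32 yc11 zc36) (kc xc20 yc30 zc31) (kc xc23 yc48 zc40) (kc xc32 yc13 zc23) (kc xc28 yc55 zc4) (kc xc26 yc34 zc19) (kc xc20 yc36 zc59) (kc xc19 yc44 zc4) (kc xc28 yc15 zc44) (kc xc26 yc42 zc61) (kc xc32 yc41 zc55) (kc xc19 yc44 zc10) (kc xc30 yc14 zc18) (kc xc22 yc57 zc18) (kc xc23 yc56 zc41) (kc xc29 yc10 zc18) (kc xc22 yc58 zc57) (kc xc22 yc56 zc20) (kc xc30 yc10 zc33) (kc xc22 yc57 zc19) (kc xc27 yc53 zc32) (kc xc31 yc28 zc61) (kc xc24 yc4 zc57) (kc xc30 yc7 zc58) (kc xc24 yc46 zc35) (kc xc19 yc44 zc36) (kc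 xc27 yc4 zc61) (kc xc27 yc39 zc13) (kc xc32 yc41 zc58) (kc xc19 yc44 zc39) (kc xc19 yc44 zc41) (kc xc30 yc3 zc10) (kc xc19 yc44 zc42) (kc xc20 yc59 zc22) (kc xc20 yc59 zc20) (kc xc31 yc4 zc6) (kc xc32 yc15 zc47) (kc xc31 yc10 zc23) (kc xc30 yc47 zc10) (kc xc30 yc10 zc58) (kc xc25 yc26 zc50) (kc xc19 yc44 zc52) (kc xc31 yc47 zc53) (kc xc27 yc13 zc44) (kc xc26 yc45 zc19) (kc xc28 yc10 zc18) (kc xc31 yc27 zc54) (kc xc25 yc44 zc42) (kc xc31 yc34 zc32)) (@D3.rec (fun _ => Pt) (kc xc24 yc50 zc23) (kc xc25 yc7 zc34) (kc xc25 yc5 zc55) (kc xc25 yc5 zc56) (kc xc32 yc28 zc54) (kc xc31 yc39 zc49) (kc xc32 yc38 zc16) (kc xc31 yc11 zc1) (kc xc23 yc38 zc50) (kc xc24 yc50 zc57) (kc xc30 yc10 zc29) (kc xc32 yc7 zc60) (kc xc19 yc45 zc18) (kc xc30 yc55 zc30) (kc xc19 yc47 zc0) (kc xc19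 yc45 zc20) (kc xc22 yc22 zc53) (kc xc20 yc36 zc27) (kc xc32 yc9 zc61) (kc xc31 yc4 zc12) (kc xc31 yc4 zc11) (kc xc24 yc34 zc50) (kc xc23 yc38 zc59) (kc xc19 yc45 zc25) (kc xc28 yc31 zc38) (kc xc24 yc50 zc56) (kc xc19 yc45 zc26) (kc xc32 yc42 zc9) (kc xc31 yc52 zc60) (kc xc22 yc43 zc43) (kc xc19 yc45 zc29) (kc xc31 yc4 zc60) (kc xc19 yc45 zc30) (kc xc31 yc4 zc4) (kc xc26 yc13 zc5) (kc xc31 yc10 zc58) (kc xc31 yc5 zc1) (kc xc23 yc39 zc27) (kc xc31 yc11 zc11) (kc xc26 yc25 zc52) (kc xc30 yc24 zc26) (kc xc26 yc45 zc18) (kc xc27 yc3 zc15) (kc xc29 yc13 zc32) (kc xc19 yc45 zc43) (kc xc32 yc42 zc15) (kc xc32 yc42 zc16) (kc xc19 yc45 zc49) (kc xc21 yc27 zc24) (kc xc26 yc1 zc29) (kc xc29 yc35 zc61) (kc xc19 yc45 zc51) (kc xc32 yc13 zc30) (kc xc19 yc45 zc52) (kc xc29 yc15 zc45)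 (kc xc32 yc12 zc52) (kc xc27 yc18 zc44) (kc xc27 yc18 zc43) (kc xc19 yc45 zc54) (kc xc32 yc10 zc48) (kc xc32 yc10 zc47) (kc xc31 yc27 zc53)) (@D3.rec (fun _ => Pt) (kc xc32 yc42 zc21) (kc xc32 yc26 zc7) (kc xc28 yc4 zc37) (kc xc19 yc45 zc61) (kc xc32 yc42 zc22) (kc xc32 yc25 zc28) (kc xc19 yc46 zc3) (kc xc31 yc42 zc15) (kc xc19 yc46 zc5) (kc xc32 yc42 zc25) (kc xc32 yc42 zc24) (kc xc25 yc27 zc9) (kc xc31 yc3 zc14) (kc xc31 yc45 zc43) (kc xc32 yc16 zc20) (kc xc23 yc27 zc13) (kc xc19 yc46 zc13) (kc xc31 yc11 zc12) (kc xc19 yc46 zc15) (kc xc23 yc41 zc46) (kc xc19 yc46 zc16) (kc xc32 yc42 zc29) (kc xc32 yc27 zc42) (kc xc30 yc38 zc57) (kc xc28 yc57 zc18) (kc xc32 yc42 zc30) (kc xc25 yc28 zc41) (kc xc25 yc36 zc23) (kc xc31 yc10 zc6) (kc xc29 yc9 zc14) (kc xc29 yc6 zc38) (kc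 xc29 yc12 zc6) (kc xc21 yc2 zc20) (kc xc19 yc46 zc28) (kc xc32 yc42 zc34) (kc xc27 yc8 zc49) (kc xc25 yc10 zc11) (kc xc19 yc53 zc56) (kc xc20 yc46 zc20) (kc xc26 yc46 zc3) (kc xc22 yc43 zc44) (kc xc32 yc31 zc24) (kc xc27 yc42 zc58) (kc xc20 yc38 zc31) (kc xc32 yc26 zc12) (kc xc21 yc49 zc25) (kc xc29 yc59 zc33) (kc xc22 yc43 zc46) (kc xc30 yc4 zc0) (kc xc30 yc18 zc41) (kc xc32 yc24 zc36) (kc xc19 yc47 zc19) (kc xc28 yc38 zc52) (kc xc19 yc47 zc21) (kc xc31 yc23 zc52) (kc xc32 yc4 zc44) (kc xc19 yc55 zc0) (kc xc19 yc47 zc38) (kc xc31 yc40 zc58) (kc xc29 yc43 zc45) (kc xc29 yc2 zc50) (kc xc19 yc47 zc41)) (@D3.rec (fun _ => Pt) (kc xc26 yc49 zc0) (kc xc29 yc39 zc8) (kc xc32 yc15 zc26) (kc xc25 yc13 zc15) (kc xc19 yc47 zc46) (kc xc28 yc59 zc51) (kc xc26 yc57 zc41) (kc xc26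 yc27 zc17) (kc xc20 yc24 zc0) (kc xc20 yc20 zc18) (kc xc26 yc7 zc38) (kc xc26 yc7 zc37) (kc xc21 yc57 zc29) (kc xc19 yc48 zc3) (kc xc26 yc45 zc60) (kc xc32 yc5 zc39) (kc xc31 yc41 zc52) (kc xc31 yc41 zc51) (kc xc19 yc48 zc8) (kc xc27 yc37 zc37) (kc xc26 yc26 zc24) (kc xc26 yc26 zc23) (kc xc23 yc18 zc14) (kc xc31 yc4 zc30) (kc xc19 yc59 zc43) (kc xc19 yc48 zc24) (kc xc19 yc48 zc25) (kc xc31 yc46 zc35) (kc xc25 yc44 zc1) (kc xc27 yc24 zc9) (kc xc20 yc53 zc28) (kc xc31 yc4 zc14) (kc xc26 yc51 zc16) (kc xc25 yc54 zc21) (kc xc21 yc15 zc14) (kc xc26 yc25 zc37) (kc xc23 yc20 zc53) (kc xc24 yc34 zc60) (kc xc29 yc5 zc30) (kc xc19 yc48 zc53) (kc xc25 yc29 zc33) (kc xc25 yc26 zc40) (kc xc21 yc53 zc53) (kc xc19 yc49 zc6) (kc xc21 yc50 zc27) (kc xc26 yc50 zc25) (kc xc25 yc5 zc15)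 (kc xc21 yc48 zc47) (kc xc29 yc9 zc42) (kc xc24 yc37 zc19) (kc xc25 yc12 zc60) (kc xc31 yc41 zc47) (kc xc19 yc49 zc26) (kc xc28 yc25 zc21) (kc xc32 yc3 zc35) (kc xc19 yc49 zc33) (kc xc26 yc45 zc35) (kc xc24 yc38 zc36) (kc xc24 yc38 zc37) (kc xc25 yc47 zc57) (kc xc25 yc41 zc57) (kc xc32 yc3 zc37)) (@D3.rec (fun _ => Pt) (kc xc31 yc19 zc15) (kc xc25 yc48 zc3) (kc xc31 yc59 zc39) (kc xc28 yc49 zc11) (kc xc24 yc37 zc2) (kc xc32 yc0 zc36) (kc xc19 yc49 zc60) (kc xc23 yc33 zc23) (kc xc30 yc24 zc59) (kc xc19 yc50 zc7) (kc xc20 yc28 zc9) (kc xc25 yc5 zc25) (kc xc28 yc37 zc47) (kc xc25 yc33 zc10) (kc xc28 yc0 zc0) (kc xc29 yc18 zc15) (kc xc20 yc32 zc12) (kc xc19 yc50 zc25) (kc xc24 yc52 zc42) (kc xc20 yc54 zc35) (kc xc19 yc50 zc34) (kc xc19 yc50 zc36) (kc xc24 yc58 zc10) (kc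 xc29 yc41 zc46) (kc xc19 yc50 zc40) (kc xc19 yc50 zc41) (kc xc28 yc51 zc22) (kc xc19 yc50 zc46) (kc xc19 yc50 zc52) (kc xc24 yc39 zc56) (kc xc24 yc18 zc18) (kc xc27 yc8 zc23) (kc xc32 yc20 zc0) (kc xc30 yc17 zc58) (kc xc22 yc36 zc19) (kc xc28 yc21 zc33) (kc xc28 yc21 zc34) (kc xc27 yc34 zc8) (kc xc27 yc34 zc6) (kc xc19 yc51 zc8) (kc xc27 yc22 zc60) (kc xc21 yc14 zc5) (kc xc20 yc1 zc22) (kc xc20 yc29 zc4) (kc xc26 yc22 zc14) (kc xc28 yc32 zc18) (kc xc29 yc39 zc21) (kc xc20 yc30 zc57) (kc xc26 yc45 zc26) (kc xc19 yc51 zc28) (kc xc22 yc21 zc5) (kc xc30 yc43 zc52) (kc xc26 yc20 zc21) (kc xc31 yc22 zc49) (kc xc24 yc6 zc40) (kc xc21 yc36 zc42) (kc xc24 yc6 zc39) (kc xc29 yc2 zc56) (kc xc30 yc47 zc25) (kc xc19 yc51 zc41) (kc xc30 yc54 zc19) (kc xc28 yc0 zc12)) (@D3.rec (fun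 _ => Pt) (kc xc28 yc26 zc9) (kc xc32 yc0 zc39) (kc xc25 yc37 zc27) (kc xc30 yc27 zc28) (kc xc30 yc27 zc27) (kc xc32 yc15 zc5) (kc xc31 yc19 zc50) (kc xc21 yc15 zc37) (kc xc30 yc3 zc41) (kc xc32 yc14 zc41) (kc xc28 yc46 zc45) (kc xc32 yc18 zc27) (kc xc30 yc34 zc15) (kc xc28 yc43 zc38) (kc xc31 yc30 zc7) (kc xc20 yc47 zc6) (kc xc29 yc29 zc49) (kc xc19 yc52 zc2) (kc xc31 yc24 zc49) (kc xc30 yc29 zc32) (kc xc20 yc30 zc56) (kc xc31 yc49 zc56) (kc xc32 yc15 zc29) (kc xc24 yc11 zc35) (kc xc28 yc52 zc16) (kc xc31 yc55 zc37) (kc xc27 yc19 zc2) (kc xc32 yc42 zc43) (kc xc20 yc29 zc23) (kc xc19 yc52 zc14) (kc xc26 yc54 zc2) (kc xc19 yc52 zc15) (kc xc32 yc14 zc43) (kc xc29 yc36 zc44) (kc xc32 yc42 zc46) (kc xc19 yc52 zc16) (kc xc32 yc15 zc4) (kc xc20 yc32 zc10) (kc xc29 yc29 zc1)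 (kc xc28 yc17 zc22) (kc xc22 yc46 zc19) (kc xc28 yc37 zc37) (kc xc19 yc52 zc19) (kc xc30 yc22 zc42) (kc xc23 yc53 zc30) (kc xc27 yc40 zc27) (kc xc29 yc29 zc56) (kc xc28 yc17 zc23) (kc xc19 yc52 zc24) (kc xc19 yc52 zc25) (kc xc23 yc48 zc35) (kc xc20 yc25 zc10) (kc xc29 yc8 zc61) (kc xc19 yc52 zc33) (kc xc32 yc42 zc50) (kc xc29 yc27 zc55) (kc xc19 yc52 zc36) (kc xc19 yc52 zc37) (kc xc26 yc7 zc60) (kc xc19 yc52 zc41) (kc xc24 yc52 zc51) (kc xc29 yc8 zc52)) (@D3.rec (fun _ => Pt) (kc xc19 yc52 zc47) (kc xc19 yc52 zc50) (kc xc21 yc40 zc38) (kc xc29 yc35 zc4) (kc xc20 yc24 zc28) (kc xc20 yc9 zc17) (kc xc22 yc17 zc39) (kc xc23 yc33 zc27) (kc xc19 yc53 zc1) (kc xc29 yc27 zc2) (kc xc22 yc16 zc47) (kc xc24 yc29 zc35) (kc xc19 yc53 zc13) (kc xc19 yc53 zc16) (kc xc29 yc5 zc29)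 (kc xc21 yc33 zc41) (kc xc22 yc2 zc57) (kc xc31 yc19 zc51) (kc xc32 yc31 zc11) (kc xc19 yc53 zc28) (kc xc28 yc48 zc2) (kc xc29 yc52 zc33) (kc xc19 yc53 zc30) (kc xc27 yc0 zc14) (kc xc32 yc21 zc29) (kc xc19 yc53 zc31) (kc xc20 yc45 zc61) (kc xc19 yc56 zc56) (kc xc26 yc36 zc8) (kc xc31 yc21 zc55) (kc xc26 yc42 zc16) (kc xc26 yc44 zc16) (kc xc19 yc53 zc42) (kc xc29 yc9 zc40) (kc xc19 yc53 zc54) (kc xc24 yc47 zc11) (kc xc26 yc44 zc32) (kc xc19 yc53 zc60) (kc xc29 yc17 zc1) (kc xc31 yc48 zc8) (kc xc29 yc9 zc33) (kc xc24 yc37 zc39) (kc xc29 yc6 zc48) (kc xc19 yc54 zc5) (kc xc29 yc41 zc57) (kc xc23 yc17 zc57) (kc xc25 yc49 zc13) (kc xc19 yc55 zc23) (kc xc32 yc4 zc0) (kc xc27 yc24 zc1) (kc xc19 yc55 zc33) (kc xc27 yc57 zc25) (kc xc28 yc12 zc28) (kc xc31 yc12 zc12) (kc xc23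 yc27 zc22) (kc xc24 yc57 zc42) (kc xc32 yc0 zc16) (kc xc25 yc11 zc54) (kc xc31 yc8 zc42) (kc xc28 yc58 zc39) (kc xc26 yc20 zc33) (kc xc26 yc30 zc11)) (@D3.rec (fun _ => Pt) (kc xc26 yc8 zc41) (kc xc28 yc50 zc59) (kc xc19 yc54 zc32) (kc xc23 yc40 zc16) (kc xc29 yc17 zc40) (kc xc32 yc4 zc30) (kc xc22 yc45 zc6) (kc xc32 yc42 zc57) (kc xc30 yc52 zc45) (kc xc31 yc1 zc3) (kc xc32 yc16 zc15) (kc xc23 yc43 zc54) (kc xc32 yc16 zc16) (kc xc29 yc11 zc55) (kc xc29 yc11 zc54) (kc xc19 yc54 zc38) (kc xc31 yc37 zc46) (kc xc30 yc39 zc21) (kc xc29 yc3 zc28) (kc xc19 yc54 zc41) (kc xc32 yc42 zc60) (kc xc20 yc16 zc50) (kc xc26 yc41 zc1) (kc xc31 yc27 zc57) (kc xc19 yc54 zc43) (kc xc19 yc56 zc1) (kc xc30 yc55 zc54) (kc xc19 yc54 zc44) (kc xc19 yc55 zc44) (kc xc23 yc25 zc61) (kc xc22 yc44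 zc12) (kc xc19 yc54 zc48) (kc xc32 yc42 zc55) (kc xc19 yc55 zc15) (kc xc21 yc8 zc36) (kc xc19 yc55 zc1) (kc xc31 yc18 zc36) (kc xc29 yc26 zc45) (kc xc32 yc34 zc0) (kc xc19 yc55 zc9) (kc xc19 yc58 zc15) (kc xc22 yc19 zc23) (kc xc22 yc19 zc25) (kc xc29 yc51 zc37) (kc xc29 yc47 zc24) (kc xc32 yc32 zc33) (kc xc32 yc43 zc1) (kc xc26 yc9 zc52) (kc xc31 yc7 zc53) (kc xc19 yc55 zc5) (kc xc22 yc31 zc51) (kc xc32 yc43 zc7) (kc xc31 yc6 zc33) (kc xc25 yc19 zc58) (kc xc27 yc51 zc33) (kc xc19 yc55 zc7) (kc xc32 yc26 zc42) (kc xc32 yc29 zc5) (kc xc32 yc43 zc10) (kc xc19 yc55 zc8) (kc xc32 yc27 zc0) (kc xc29 yc11 zc33)) (@D3.rec (fun _ => Pt) (kc xc30 yc58 zc37) (kc xc29 yc11 zc32) (kc xc31 yc37 zc48) (kc xc31 yc5 zc13) (kc xc19 yc55 zc12) (kc xc31 yc8 zc26) (kc xc30 yc42 zc13) (kc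 xc19 yc56 zc2) (kc xc28 yc27 zc22) (kc xc30 yc10 zc48) (kc xc28 yc29 zc37) (kc xc26 yc41 zc53) (kc xc32 yc6 zc18) (kc xc19 yc55 zc28) (kc xc26 yc0 zc50) (kc xc31 yc9 zc5) (kc xc26 yc37 zc57) (kc xc26 yc40 zc21) (kc xc25 yc41 zc30) (kc xc32 yc36 zc51) (kc xc19 yc55 zc39) (kc xc21 yc8 zc56) (kc xc21 yc8 zc57) (kc xc29 yc57 zc12) (kc xc29 yc52 zc34) (kc xc19 yc55 zc37) (kc xc32 yc42 zc33) (kc xc32 yc0 zc10) (kc xc32 yc42 zc31) (kc xc19 yc55 zc38) (kc xc30 yc8 zc8) (kc xc32 yc16 zc1) (kc xc29 yc11 zc1) (kc xc29 yc10 zc61) (kc xc19 yc55 zc42) (kc xc32 yc43 zc16) (kc xc26 yc8 zc8) (kc xc19 yc55 zc46) (kc xc23 yc29 zc43) (kc xc19 yc55 zc51) (kc xc27 yc58 zc43) (kc xc32 yc23 zc37) (kc xc31 yc2 zc41) (kc xc19 yc55 zc53) (kc xc30 yc43 zc30) (kc xc28 yc50 zc19) (kc xc24 yc31 zc18)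 (kc xc28 yc25 zc0) (kc xc27 yc1 zc49) (kc xc27 yc58 zc42) (kc xc32 yc30 zc40) (kc xc32 yc23 zc54) (kc xc32 yc42 zc27) (kc xc19 yc55 zc58) (kc xc29 yc10 zc14) (kc xc29 yc10 zc13) (kc xc31 yc8 zc45) (kc xc31 yc8 zc44) (kc xc19 yc55 zc61) (kc xc30 yc41 zc44) (kc xc28 yc19 zc28) (kc xc30 yc11 zc20)) (@D3.rec (fun _ => Pt) (kc xc32 yc15 zc61) (kc xc26 yc48 zc30) (kc xc19 yc56 zc7) (kc xc22 yc43 zc6) (kc xc31 yc34 zc34) (kc xc30 yc50 zc48) (kc xc29 yc5 zc31) (kc xc32 yc41 zc12) (kc xc19 yc56 zc12) (kc xc31 yc5 zc44) (kc xc23 yc50 zc55) (kc xc30 yc20 zc39) (kc xc29 yc32 zc38) (kc xc19 yc56 zc20) (kc xc23 yc13 zc54) (kc xc29 yc12 zc18) (kc xc29 yc12 zc19) (kc xc27 yc42 zc10) (kc xc29 yc12 zc15) (kc xc29 yc12 zc16) (kc xc23 yc44 zc51) (kc xc31 yc2 zc55) (kc xc30 yc33 zc38) (kc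 xc31 yc38 zc6) (kc xc32 yc28 zc14) (kc xc20 yc1 zc53) (kc xc19 yc56 zc52) (kc xc26 yc36 zc13) (kc xc20 yc58 zc49) (kc xc22 yc10 zc9) (kc xc29 yc2 zc16) (kc xc32 yc24 zc39) (kc xc23 yc13 zc11) (kc xc29 yc50 zc26) (kc xc26 yc20 zc31) (kc xc23 yc18 zc4) (kc xc19 yc57 zc5) (kc xc19 yc57 zc6) (kc xc28 yc31 zc4) (kc xc28 yc30 zc27) (kc xc24 yc49 zc17) (kc xc25 yc11 zc1) (kc xc28 yc11 zc24) (kc xc21 yc53 zc51) (kc xc28 yc37 zc36) (kc xc27 yc46 zc60) (kc xc29 yc12 zc49) (kc xc23 yc23 zc31) (kc xc29 yc12 zc52) (kc xc29 yc12 zc46) (kc xc27 yc23 zc1) (kc xc25 yc13 zc22) (kc xc29 yc12 zc48) (kc xc27 yc23 zc13) (kc xc29 yc38 zc32) (kc xc24 yc20 zc47) (kc xc26 yc34 zc11) (kc xc19 yc57 zc40) (kc xc29 yc17 zc43) (kc xc32 yc43 zc20) (kc xc19 yc57 zc45) (kc xc19 yc57 zc46)) (@D3.rec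 (fun _ => Pt) (kc xc27 yc37 zc61) (kc xc23 yc49 zc34) (kc xc24 yc37 zc50) (kc xc21 yc39 zc58) (kc xc20 yc2 zc21) (kc xc24 yc4 zc36) (kc xc32 yc43 zc21) (kc xc30 yc27 zc16) (kc xc32 yc13 zc24) (kc xc26 yc59 zc18) (kc xc28 yc56 zc43) (kc xc24 yc16 zc3) (kc xc19 yc57 zc59) (kc xc31 yc58 zc15) (kc xc30 yc14 zc37) (kc xc19 yc58 zc33) (kc xc19 yc58 zc4) (kc xc20 yc54 zc29) (kc xc28 yc31 zc22) (kc xc30 yc14 zc30) (kc xc28 yc47 zc39) (kc xc24 yc1 zc29) (kc xc24 yc1 zc30) (kc xc23 yc49 zc27) (kc xc24 yc3 zc40) (kc xc24 yc2 zc46) (kc xc24 yc2 zc45) (kc xc24 yc10 zc27) (kc xc32 yc42 zc32) (kc xc25 yc33 zc26) (kc xc24 yc10 zc54) (kc xc19 yc58 zc14) (kc xc29 yc4 zc43) (kc xc19 yc58 zc18) (kc xc19 yc58 zc19) (kc xc25 yc53 zc7) (kc xc28 yc48 zc27) (kc xc24 yc17 zc29) (kc xc26 yc46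 zc50) (kc xc19 yc58 zc32) (kc xc26 yc46 zc53) (kc xc29 yc14 zc3) (kc xc29 yc30 zc51) (kc xc28 yc31 zc21) (kc xc19 yc58 zc41) (kc xc28 yc17 zc29) (kc xc19 yc58 zc43) (kc xc32 yc43 zc25) (kc xc24 yc30 zc40) (kc xc32 yc15 zc12) (kc xc28 yc50 zc60) (kc xc32 yc8 zc17) (kc xc32 yc15 zc14) (kc xc23 yc29 zc9) (kc xc26 yc32 zc32) (kc xc23 yc28 zc13) (kc xc22 yc17 zc43) (kc xc23 yc28 zc16) (kc xc23 yc28 zc15) (kc xc22 yc43 zc3) (kc xc29 yc3 zc10) (kc xc20 yc24 zc29)) (@D3.rec (fun _ => Pt) (kc xc19 yc59 zc4) (kc xc32 yc2 zc27) (kc xc30 yc20 zc20) (kc xc29 yc13 zc41) (kc xc31 yc9 zc20) (kc xc31 yc4 zc28) (kc xc31 yc4 zc29) (kc xc19 yc59 zc12) (kc xc31 yc9 zc51) (kc xc30 yc5 zc13) (kc xc29 yc23 zc37) (kc xc24 yc4 zc38) (kc xc32 yc43 zc29) (kc xc19 yc59 zc20) (kc xc32 yc43 zc30)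 (kc xc19 yc59 zc34) (kc xc29 yc31 zc25) (kc xc29 yc31 zc26) (kc xc26 yc35 zc35) (kc xc29 yc35 zc37) (kc xc19 yc59 zc25) (kc xc32 yc17 zc46) (kc xc32 yc43 zc32) (kc xc32 yc36 zc35) (kc xc27 yc37 zc8) (kc xc28 yc54 zc50) (kc xc23 yc49 zc25) (kc xc20 yc5 zc22) (kc xc29 yc15 zc11) (kc xc29 yc57 zc51) (kc xc26 yc32 zc52) (kc xc28 yc26 zc2) (kc xc32 yc28 zc17) (kc xc22 yc34 zc17) (kc xc23 yc23 zc52) (kc xc19 yc59 zc46) (kc xc32 yc29 zc57) (kc xc20 yc6 zc14) (kc xc26 yc30 zc35) (kc xc23 yc14 zc39) (kc xc28 yc46 zc40) (kc xc26 yc11 zc59) (kc xc26 yc47 zc51) (kc xc20 yc18 zc50) (kc xc29 yc29 zc60) (kc xc29 yc2 zc58) (kc xc29 yc48 zc10) (kc xc29 yc14 zc61) (kc xc26 yc52 zc34) (kc xc32 yc24 zc51) (kc xc20 yc1 zc5) (kc xc32 yc34 zc59) (kc xc26 yc39 zc49) (kc xc28 yc45 zc53) (kc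 xc20 yc6 zc24) (kc xc26 yc48 zc47) (kc xc21 yc40 zc8) (kc xc20 yc1 zc19) (kc xc29 yc32 zc1) (kc xc27 yc59 zc35) (kc xc28 yc27 zc6) (kc xc29 yc14 zc47)) (@D3.rec (fun _ => Pt) (kc xc22 yc4 zc2) (kc xc25 yc29 zc31) (kc xc32 yc9 zc30) (kc xc20 yc17 zc55) (kc xc20 yc17 zc54) (kc xc26 yc35 zc32) (kc xc26 yc35 zc33) (kc xc20 yc39 zc31) (kc xc32 yc17 zc29) (kc xc23 yc43 zc51) (kc xc22 yc21 zc14) (kc xc29 yc14 zc28) (kc xc28 yc34 zc52) (kc xc32 yc16 zc49) (kc xc28 yc50 zc1) (kc xc32 yc35 zc54) (kc xc20 yc1 zc49) (kc xc32 yc17 zc52) (kc xc32 yc17 zc51) (kc xc31 yc21 zc14) (kc xc31 yc34 zc21) (kc xc27 yc44 zc15) (kc xc21 yc36 zc54) (kc xc23 yc40 zc52) (kc xc26 yc8 zc1) (kc xc30 yc45 zc14) (kc xc24 yc8 zc27) (kc xc25 yc5 zc45) (kc xc27 yc55 zc19) (kc xc23 yc7 zc43) (kc xc21 yc59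 zc16) (kc xc32 yc14 zc50) (kc xc32 yc15 zc20) (kc xc23 yc40 zc23) (kc xc28 yc52 zc48) (kc xc28 yc48 zc16) (kc xc20 yc2 zc15) (kc xc30 yc26 zc61) (kc xc20 yc2 zc16) (kc xc32 yc35 zc35) (kc xc23 yc40 zc47) (kc xc23 yc40 zc45) (kc xc23 yc40 zc22) (kc xc20 yc2 zc20) (kc xc20 yc2 zc22) (kc xc29 yc4 zc54) (kc xc20 yc2 zc24) (kc xc32 yc43 zc46) (kc xc20 yc2 zc25) (kc xc20 yc2 zc52) (kc xc20 yc2 zc53) (kc xc31 yc3 zc1) (kc xc25 yc0 zc44) (kc xc20 yc2 zc27) (kc xc32 yc43 zc48) (kc xc32 yc43 zc49) (kc xc23 yc54 zc53) (kc xc28 yc38 zc4) (kc xc30 yc6 zc3) (kc xc20 yc2 zc31) (kc xc28 yc38 zc12) (kc xc28 yc25 zc10)) (@D3.rec (fun _ => Pt) (kc xc20 yc2 zc32) (kc xc28 yc38 zc11) (kc xc31 yc0 zc19) (kc xc31 yc0 zc26) (kc xc20 yc2 zc33) (kc xc23 yc54 zc43) (kc xc20 yc2 zc36) (kc xc20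 yc2 zc38) (kc xc20 yc2 zc39) (kc xc20 yc3 zc3) (kc xc32 yc35 zc11) (kc xc32 yc27 zc34) (kc xc29 yc34 zc47) (kc xc20 yc2 zc43) (kc xc24 yc9 zc12) (kc xc28 yc47 zc47) (kc xc21 yc48 zc53) (kc xc29 yc44 zc49) (kc xc21 yc48 zc54) (kc xc21 yc48 zc11) (kc xc32 yc43 zc47) (kc xc25 yc14 zc12) (kc xc25 yc13 zc41) (kc xc20 yc2 zc55) (kc xc32 yc43 zc52) (kc xc28 yc29 zc48) (kc xc27 yc17 zc25) (kc xc32 yc41 zc25) (kc xc26 yc28 zc47) (kc xc22 yc3 zc3) (kc xc24 yc15 zc59) (kc xc24 yc15 zc60) (kc xc22 yc3 zc10) (kc xc31 yc45 zc16) (kc xc32 yc6 zc10) (kc xc32 yc3 zc60) (kc xc32 yc4 zc1) (kc xc32 yc4 zc2) (kc xc29 yc45 zc9) (kc xc23 yc38 zc48) (kc xc28 yc42 zc26) (kc xc26 yc43 zc14) (kc xc26 yc43 zc15) (kc xc28 yc21 zc52) (kc xc28 yc42 zc25) (kc xc25 yc33 zc12) (kc xc20 yc3 zc16) (kc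 xc24 yc36 zc60) (kc xc20 yc9 zc19) (kc xc20 yc4 zc58) (kc xc32 yc4 zc8) (kc xc21 yc0 zc39) (kc xc21 yc50 zc18) (kc xc23 yc56 zc49) (kc xc24 yc15 zc53) (kc xc20 yc3 zc29) (kc xc24 yc33 zc44) (kc xc20 yc3 zc30) (kc xc25 yc13 zc48) (kc xc25 yc15 zc25) (kc xc32 yc41 zc17) (kc xc20 yc3 zc37)) (@D3.rec (fun _ => Pt) (kc xc32 yc3 zc12) (kc xc29 yc9 zc38) (kc xc20 yc4 zc5) (kc xc20 yc3 zc59) (kc xc21 yc50 zc56) (kc xc21 yc35 zc15) (kc xc26 yc5 zc48) (kc xc26 yc37 zc17) (kc xc20 yc3 zc49) (kc xc32 yc4 zc34) (kc xc27 yc43 zc47) (kc xc30 yc3 zc20) (kc xc28 yc57 zc30) (kc xc31 yc41 zc56) (kc xc20 yc3 zc55) (kc xc31 yc19 zc40) (kc xc31 yc47 zc50) (kc xc20 yc3 zc57) (kc xc32 yc42 zc53) (kc xc32 yc5 zc16) (kc xc27 yc27 zc26) (kc xc20 yc27 zc1) (kc xc28 yc30 zc47) (kc xc29 yc56 zc17)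 (kc xc22 yc42 zc36) (kc xc21 yc58 zc53) (kc xc29 yc0 zc10) (kc xc20 yc4 zc10) (kc xc27 yc46 zc49) (kc xc20 yc4 zc13) (kc xc28 yc48 zc29) (kc xc21 yc49 zc24) (kc xc30 yc19 zc30) (kc xc31 yc9 zc23) (kc xc22 yc44 zc43) (kc xc30 yc9 zc35) (kc xc30 yc55 zc40) (kc xc20 yc4 zc45) (kc xc20 yc4 zc37) (kc xc31 yc28 zc49) (kc xc29 yc10 zc4) (kc xc25 yc30 zc6) (kc xc30 yc40 zc52) (kc xc29 yc12 zc58) (kc xc27 yc15 zc56) (kc xc31 yc35 zc41) (kc xc29 yc37 zc9) (kc xc28 yc14 zc20) (kc xc29 yc44 zc54) (kc xc31 yc45 zc45) (kc xc21 yc36 zc1) (kc xc20 yc40 zc39) (kc xc23 yc55 zc43) (kc xc26 yc42 zc47) (kc xc28 yc30 zc19) (kc xc31 yc58 zc30) (kc xc23 yc55 zc47) (kc xc21 yc4 zc0) (kc xc31 yc21 zc38) (kc xc20 yc5 zc11) (kc xc25 yc6 zc52) (kc xc20 yc5 zc14)) (@D3.rec (fun _ => Pt) (kc xc20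 yc5 zc17) (kc xc24 yc41 zc20) (kc xc29 yc23 zc47) (kc xc24 yc41 zc11) (kc xc30 yc6 zc20) (kc xc25 yc38 zc18) (kc xc25 yc31 zc2) (kc xc28 yc35 zc59) (kc xc29 yc18 zc27) (kc xc20 yc21 zc54) (kc xc20 yc5 zc35) (kc xc21 yc21 zc16) (kc xc21 yc41 zc4) (kc xc21 yc9 zc16) (kc xc27 yc3 zc20) (kc xc29 yc7 zc15) (kc xc20 yc6 zc18) (kc xc28 yc28 zc8) (kc xc22 yc31 zc40) (kc xc22 yc31 zc42) (kc xc30 yc11 zc32) (kc xc20 yc6 zc37) (kc xc21 yc29 zc23) (kc xc20 yc6 zc42) (kc xc20 yc7 zc0) (kc xc23 yc38 zc46) (kc xc20 yc9 zc16) (kc xc29 yc18 zc8) (kc xc32 yc26 zc37) (kc xc32 yc25 zc53) (kc xc29 yc18 zc31) (kc xc29 yc18 zc30) (kc xc24 yc53 zc59) (kc xc25 yc54 zc19) (kc xc20 yc7 zc9) (kc xc20 yc7 zc7) (kc xc20 yc7 zc8) (kc xc24 yc28 zc57) (kc xc20 yc36 zc56) (kc xc29 yc19 zc5) (kc xc30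 yc47 zc51) (kc xc24 yc46 zc19) (kc xc20 yc7 zc36) (kc xc22 yc1 zc13) (kc xc31 yc17 zc10) (kc xc22 yc45 zc9) (kc xc23 yc2 zc59) (kc xc20 yc7 zc42) (kc xc28 yc38 zc20) (kc xc22 yc32 zc5) (kc xc20 yc7 zc48) (kc xc32 yc43 zc61) (kc xc30 yc51 zc2) (kc xc30 yc51 zc3) (kc xc29 yc30 zc50) (kc xc30 yc56 zc22) (kc xc28 yc27 zc13) (kc xc24 yc53 zc0) (kc xc20 yc8 zc45) (kc xc23 yc18 zc8) (kc xc20 yc8 zc29) (kc xc25 yc16 zc17)) (@D3.rec (fun _ => Pt) (kc xc20 yc15 zc46) (kc xc20 yc40 zc52) (kc xc31 yc48 zc20) (kc xc20 yc8 zc20) (kc xc28 yc29 zc56) (kc xc29 yc18 zc39) (kc xc20 yc18 zc32) (kc xc32 yc33 zc12) (kc xc20 yc8 zc37) (kc xc21 yc37 zc22) (kc xc20 yc8 zc40) (kc xc32 yc15 zc51) (kc xc20 yc8 zc43) (kc xc21 yc44 zc17) (kc xc20 yc18 zc34) (kc xc20 yc18 zc14) (kc xc20 yc52 zc48)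 (kc xc32 yc7 zc40) (kc xc29 yc29 zc52) (kc xc31 yc38 zc51) (kc xc20 yc30 zc17) (kc xc28 yc38 zc29) (kc xc32 yc44 zc0) (kc xc20 yc8 zc57) (kc xc29 yc29 zc36) (kc xc21 yc39 zc45) (kc xc20 yc8 zc58) (kc xc30 yc54 zc39) (kc xc24 yc52 zc58) (kc xc20 yc9 zc2) (kc xc23 yc5 zc56) (kc xc28 yc56 zc2) (kc xc20 yc10 zc44) (kc xc24 yc28 zc60) (kc xc28 yc29 zc40) (kc xc21 yc57 zc46) (kc xc26 yc0 zc38) (kc xc20 yc9 zc28) (kc xc32 yc12 zc7) (kc xc22 yc38 zc36) (kc xc22 yc36 zc8) (kc xc20 yc9 zc36) (kc xc20 yc9 zc45) (kc xc20 yc9 zc46) (kc xc20 yc9 zc59) (kc xc24 yc55 zc59) (kc xc28 yc5 zc33) (kc xc28 yc9 zc25) (kc xc32 yc7 zc29) (kc xc22 yc33 zc56) (kc xc32 yc7 zc37) (kc xc31 yc58 zc33) (kc xc27 yc53 zc28) (kc xc25 yc57 zc13) (kc xc32 yc1 zc29) (kc xc25 yc25 zc28) (kc xc27 yc55 zc38)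 (kc xc20 yc36 zc32) (kc xc31 yc58 zc16) (kc xc29 yc53 zc59) (kc xc20 yc10 zc14) (kc xc32 yc29 zc53)) (@D3.rec (fun _ => Pt) (kc xc32 yc26 zc30) (kc xc26 yc26 zc58) (kc xc32 yc1 zc37) (kc xc20 yc14 zc39) (kc xc26 yc21 zc49) (kc xc26 yc18 zc59) (kc xc26 yc18 zc60) (kc xc20 yc10 zc47) (kc xc20 yc10 zc48) (kc xc20 yc10 zc20) (kc xc31 yc38 zc28) (kc xc20 yc10 zc21) (kc xc28 yc8 zc51) (kc xc23 yc42 zc27) (kc xc29 yc43 zc55) (kc xc29 yc0 zc38) (kc xc26 yc56 zc12) (kc xc27 yc49 zc21) (kc xc28 yc18 zc2) (kc xc25 yc19 zc41) (kc xc27 yc11 zc54) (kc xc22 yc7 zc39) (kc xc20 yc10 zc36) (kc xc30 yc25 zc7) (kc xc20 yc11 zc30) (kc xc26 yc19 zc59) (kc xc20 yc21 zc41) (kc xc23 yc36 zc51) (kc xc23 yc51 zc43) (kc xc28 yc45 zc59) (kc xc25 yc4 zc42) (kc xc20 yc11 zc58) (kc xc27 yc37 zc56)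 (kc xc21 yc41 zc22) (kc xc22 yc34 zc50) (kc xc20 yc11 zc56) (kc xc23 yc31 zc27) (kc xc20 yc10 zc56) (kc xc30 yc24 zc46) (kc xc25 yc4 zc38) (kc xc20 yc11 zc49) (kc xc27 yc33 zc55) (kc xc27 yc33 zc54) (kc xc27 yc34 zc42) (kc xc23 yc53 zc56) (kc xc28 yc12 zc38) (kc xc25 yc48 zc15) (kc xc20 yc11 zc31) (kc xc29 yc27 zc12) (kc xc27 yc41 zc42) (kc xc27 yc41 zc41) (kc xc25 yc8 zc28) (kc xc31 yc43 zc25) (kc xc31 yc43 zc24) (kc xc31 yc23 zc29) (kc xc32 yc16 zc27) (kc xc30 yc44 zc29) (kc xc28 yc59 zc13) (kc xc30 yc45 zc54) (kc xc31 yc31 zc29) (kc xc26 yc32 zc48) (kc xc25 yc46 zc12)) (@D3.rec (fun _ => Pt) (kc xc31 yc31 zc26) (kc xc22 yc51 zc38) (kc xc31 yc31 zc32) (kc xc32 yc29 zc9) (kc xc30 yc54 zc14) (kc xc30 yc54 zc12) (kc xc24 yc16 zc50) (kc xc20 yc11 zc19) (kc xc26 yc49 zc34)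 (kc xc22 yc5 zc10) (kc xc28 yc37 zc3) (kc xc29 yc55 zc35) (kc xc21 yc44 zc40) (kc xc30 yc53 zc33) (kc xc28 yc14 zc17) (kc xc20 yc11 zc27) (kc xc29 yc42 zc61) (kc xc32 yc41 zc9) (kc xc32 yc30 zc16) (kc xc28 yc8 zc46) (kc xc28 yc8 zc44) (kc xc32 yc41 zc10) (kc xc26 yc31 zc44) (kc xc31 yc21 zc6) (kc xc32 yc14 zc20) (kc xc20 yc11 zc34) (kc xc32 yc11 zc29) (kc xc32 yc27 zc11) (kc xc27 yc44 zc22) (kc xc31 yc25 zc26) (kc xc29 yc46 zc14) (kc xc20 yc11 zc50) (kc xc29 yc1 zc32) (kc xc26 yc31 zc49) (kc xc30 yc55 zc44) (kc xc31 yc55 zc17) (kc xc28 yc36 zc34) (kc xc28 yc29 zc35) (kc xc30 yc49 zc11) (kc xc27 yc52 zc61) (kc xc28 yc37 zc4) (kc xc21 yc51 zc8) (kc xc31 yc52 zc17) (kc xc20 yc12 zc14) (kc xc20 yc12 zc16) (kc xc28 yc14 zc38) (kc xc20 yc12 zc30) (kc xc30 yc3 zc54) (kc xc27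 yc30 zc39) (kc xc20 yc38 zc56) (kc xc20 yc12 zc44) (kc xc20 yc12 zc57) (kc xc20 yc22 zc20) (kc xc28 yc57 zc41) (kc xc28 yc24 zc35) (kc xc27 yc22 zc33) (kc xc20 yc13 zc3) (kc xc20 yc13 zc9) (kc xc22 yc22 zc2) (kc xc22 yc40 zc50) (kc xc30 yc59 zc46) (kc xc20 yc13 zc43)) (@D3.rec (fun _ => Pt) (kc xc20 yc13 zc28) (kc xc32 yc3 zc7) (kc xc20 yc13 zc47) (kc xc20 yc23 zc29) (kc xc20 yc24 zc25) (kc xc30 yc18 zc0) (kc xc20 yc13 zc37) (kc xc25 yc0 zc1) (kc xc20 yc13 zc46) (kc xc23 yc47 zc52) (kc xc28 yc14 zc37) (kc xc23 yc25 zc38) (kc xc28 yc53 zc7) (kc xc29 yc29 zc12) (kc xc20 yc14 zc12) (kc xc27 yc41 zc15) (kc xc29 yc43 zc14) (kc xc31 yc49 zc57) (kc xc21 yc19 zc37) (kc xc22 yc56 zc59) (kc xc20 yc36 zc8) (kc xc20 yc14 zc30) (kc xc22 yc36 zc51) (kc xc29 yc38 zc39) (kc xc29 yc38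 zc37) (kc xc28 yc40 zc50) (kc xc28 yc54 zc37) (kc xc28 yc53 zc8) (kc xc20 yc15 zc26) (kc xc23 yc30 zc40) (kc xc21 yc0 zc41) (kc xc21 yc32 zc49) (kc xc27 yc3 zc32) (kc xc30 yc21 zc35) (kc xc25 yc29 zc25) (kc xc22 yc36 zc26) (kc xc20 yc15 zc6) (kc xc29 yc35 zc5) (kc xc28 yc16 zc22) (kc xc26 yc51 zc11) (kc xc26 yc51 zc10) (kc xc22 yc3 zc9) (kc xc29 yc26 zc58) (kc xc27 yc45 zc8) (kc xc27 yc27 zc21) (kc xc29 yc57 zc7) (kc xc21 yc22 zc19) (kc xc23 yc14 zc43) (kc xc31 yc34 zc14) (kc xc31 yc0 zc22) (kc xc27 yc43 zc20) (kc xc30 yc43 zc9) (kc xc31 yc26 zc54) (kc xc20 yc51 zc36) (kc xc25 yc17 zc53) (kc xc28 yc9 zc43) (kc xc20 yc16 zc1) (kc xc28 yc9 zc44) (kc xc28 yc9 zc54) (kc xc27 yc40 zc59) (kc xc25 yc42 zc14) (kc xc21 yc0 zc28)) (@D3.rec (fun _ => Pt) (kc xc25 yc54 zc3) (kc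 xc20 yc16 zc24) (kc xc24 yc45 zc4) (kc xc24 yc37 zc36) (kc xc32 yc4 zc11) (kc xc31 yc34 zc44) (kc xc31 yc54 zc25) (kc xc20 yc38 zc29) (kc xc24 yc38 zc18) (kc xc20 yc16 zc42) (kc xc32 yc42 zc56) (kc xc20 yc16 zc53) (kc xc24 yc42 zc48) (kc xc20 yc49 zc11) (kc xc32 yc17 zc18) (kc xc20 yc44 zc36) (kc xc25 yc42 zc60) (kc xc28 yc11 zc41) (kc xc30 yc5 zc9) (kc xc22 yc47 zc14) (kc xc20 yc17 zc7) (kc xc20 yc17 zc12) (kc xc28 yc10 zc31) (kc xc21 yc45 zc9) (kc xc20 yc17 zc29) (kc xc31 yc18 zc43) (kc xc21 yc31 zc54) (kc xc27 yc19 zc48) (kc xc20 yc17 zc44) (kc xc27 yc30 zc32) (kc xc30 yc53 zc45) (kc xc30 yc3 zc45) (kc xc20 yc17 zc48) (kc xc31 yc41 zc18) (kc xc28 yc49 zc40) (kc xc27 yc5 zc48) (kc xc31 yc24 zc34) (kc xc29 yc14 zc10) (kc xc26 yc48 zc36) (kc xc26 yc46 zc43) (kc xc20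 yc17 zc58) (kc xc29 yc28 zc18) (kc xc29 yc43 zc44) (kc xc31 yc21 zc22) (kc xc31 yc21 zc23) (kc xc25 yc21 zc12) (kc xc32 yc33 zc52) (kc xc29 yc18 zc2) (kc xc25 yc57 zc3) (kc xc29 yc40 zc57) (kc xc28 yc34 zc14) (kc xc25 yc27 zc42) (kc xc30 yc50 zc49) (kc xc20 yc18 zc9) (kc xc25 yc35 zc52) (kc xc22 yc40 zc29) (kc xc20 yc34 zc4) (kc xc20 yc18 zc12) (kc xc28 yc21 zc17) (kc xc29 yc42 zc40) (kc xc27 yc17 zc4) (kc xc30 yc52 zc61)) (@D3.rec (fun _ => Pt) (kc xc20 yc18 zc19) (kc xc30 yc20 zc1) (kc xc32 yc16 zc42) (kc xc28 yc28 zc18) (kc xc20 yc28 zc42) (kc xc29 yc29 zc7) (kc xc26 yc25 zc56) (kc xc29 yc30 zc49) (kc xc28 yc20 zc19) (kc xc29 yc29 zc24) (kc xc29 yc30 zc8) (kc xc30 yc46 zc19) (kc xc20 yc32 zc9) (kc xc20 yc18 zc33) (kc xc30 yc58 zc60) (kc xc20 yc18 zc40) (kc xc25 yc16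 zc9) (kc xc29 yc29 zc53) (kc xc31 yc57 zc8) (kc xc21 yc11 zc18) (kc xc26 yc43 zc29) (kc xc25 yc26 zc32) (kc xc20 yc19 zc4) (kc xc31 yc16 zc40) (kc xc29 yc34 zc30) (kc xc24 yc12 zc17) (kc xc30 yc57 zc4) (kc xc20 yc19 zc20) (kc xc20 yc19 zc23) (kc xc20 yc19 zc33) (kc xc32 yc27 zc4) (kc xc22 yc28 zc42) (kc xc24 yc46 zc60) (kc xc26 yc53 zc2) (kc xc32 yc21 zc41) (kc xc27 yc5 zc18) (kc xc32 yc15 zc42) (kc xc23 yc53 zc34) (kc xc27 yc0 zc61) (kc xc27 yc1 zc0) (kc xc24 yc23 zc12) (kc xc23 yc34 zc31) (kc xc20 yc20 zc15) (kc xc26 yc27 zc8) (kc xc28 yc10 zc22) (kc xc23 yc35 zc23) (kc xc20 yc41 zc50) (kc xc31 yc38 zc56) (kc xc20 yc20 zc38) (kc xc20 yc20 zc40) (kc xc32 yc34 zc36) (kc xc20 yc21 zc3) (kc xc28 yc7 zc47) (kc xc27 yc51 zc40) (kc xc20 yc21 zc24) (kc xc21 yc44 zc39) (kc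 xc20 yc21 zc1) (kc xc32 yc10 zc15) (kc xc28 yc45 zc58) (kc xc28 yc46 zc24) (kc xc31 yc38 zc47) (kc xc21 yc15 zc5)) (@D3.rec (fun _ => Pt) (kc xc26 yc31 zc58) (kc xc20 yc21 zc9) (kc xc20 yc21 zc8) (kc xc27 yc39 zc1) (kc xc21 yc15 zc7) (kc xc20 yc21 zc19) (kc xc20 yc21 zc17) (kc xc20 yc21 zc18) (kc xc31 yc42 zc31) (kc xc24 yc18 zc25) (kc xc32 yc25 zc36) (kc xc24 yc54 zc49) (kc xc28 yc5 zc57) (kc xc27 yc33 zc47) (kc xc24 yc54 zc27) (kc xc20 yc21 zc29) (kc xc20 yc21 zc30) (kc xc26 yc30 zc24) (kc xc31 yc13 zc4) (kc xc20 yc21 zc36) (kc xc24 yc56 zc18) (kc xc21 yc12 zc10) (kc xc22 yc16 zc9) (kc xc27 yc13 zc26) (kc xc25 yc55 zc26) (kc xc31 yc57 zc58) (kc xc28 yc21 zc48) (kc xc31 yc53 zc59) (kc xc24 yc48 zc22) (kc xc23 yc4 zc16) (kc xc25 yc19 zc3) (kc xc21 yc54 zc54) (kc xc25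 yc58 zc25) (kc xc20 yc21 zc57) (kc xc32 yc44 zc19) (kc xc21 yc3 zc61) (kc xc20 yc38 zc4) (kc xc21 yc30 zc25) (kc xc26 yc39 zc7) (kc xc27 yc37 zc33) (kc xc26 yc57 zc27) (kc xc31 yc48 zc35) (kc xc26 yc2 zc61) (kc xc21 yc3 zc53) (kc xc29 yc37 zc20) (kc xc20 yc23 zc13) (kc xc20 yc39 zc59) (kc xc25 yc36 zc57) (kc xc22 yc3 zc19) (kc xc20 yc23 zc10) (kc xc32 yc4 zc46) (kc xc20 yc23 zc21) (kc xc32 yc13 zc45) (kc xc20 yc23 zc22) (kc xc32 yc44 zc30) (kc xc20 yc23 zc23) (kc xc27 yc21 zc9) (kc xc26 yc52 zc7) (kc xc20 yc24 zc45) (kc xc20 yc23 zc25) (kc xc21 yc50 zc48) (kc xc21 yc51 zc24)) (@D3.rec (fun _ => Pt) (kc xc25 yc22 zc47) (kc xc27 yc55 zc29) (kc xc30 yc14 zc16) (kc xc24 yc18 zc35) (kc xc28 yc5 zc41) (kc xc26 yc39 zc6) (kc xc32 yc44 zc31) (kc xc32 yc21 zc50) (kc xc20 yc23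 zc43) (kc xc20 yc23 zc44) (kc xc32 yc10 zc40) (kc xc20 yc23 zc45) (kc xc31 yc30 zc47) (kc xc24 yc21 zc32) (kc xc30 yc15 zc30) (kc xc29 yc40 zc9) (kc xc20 yc23 zc49) (kc xc32 yc44 zc33) (kc xc20 yc23 zc50) (kc xc26 yc58 zc0) (kc xc32 yc44 zc34) (kc xc24 yc12 zc3) (kc xc29 yc39 zc59) (kc xc30 yc11 zc49) (kc xc31 yc29 zc23) (kc xc20 yc24 zc33) (kc xc31 yc24 zc50) (kc xc31 yc33 zc5) (kc xc32 yc44 zc37) (kc xc22 yc1 zc34) (kc xc22 yc1 zc36) (kc xc20 yc24 zc22) (kc xc20 yc24 zc13) (kc xc20 yc24 zc4) (kc xc20 yc24 zc5) (kc xc20 yc24 zc7) (kc xc29 yc38 zc50) (kc xc28 yc0 zc61) (kc xc27 yc54 zc15) (kc xc21 yc9 zc50) (kc xc27 yc11 zc46) (kc xc31 yc12 zc41) (kc xc28 yc32 zc15) (kc xc21 yc38 zc16) (kc xc25 yc52 zc36) (kc xc29 yc10 zc37) (kc xc26 yc40 zc28) (kc xc32 yc30 zc37) (kc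 xc32 yc32 zc14) (kc xc28 yc10 zc33) (kc xc32 yc30 zc7) (kc xc20 yc24 zc55) (kc xc32 yc27 zc47) (kc xc29 yc57 zc46) (kc xc31 yc9 zc2) (kc xc20 yc24 zc58) (kc xc20 yc24 zc60) (kc xc24 yc39 zc16) (kc xc29 yc22 zc42) (kc xc20 yc25 zc4) (kc xc31 yc18 zc15) (kc xc27 yc5 zc44)) (@D3.rec (fun _ => Pt) (kc xc22 yc46 zc45) (kc xc32 yc17 zc38) (kc xc29 yc9 zc9) (kc xc31 yc24 zc8) (kc xc22 yc17 zc3) (kc xc30 yc38 zc21) (kc xc29 yc3 zc11) (kc xc29 yc2 zc59) (kc xc29 yc42 zc32) (kc xc32 yc28 zc61) (kc xc30 yc3 zc4) (kc xc20 yc25 zc51) (kc xc29 yc20 zc48) (kc xc32 yc19 zc49) (kc xc26 yc58 zc32) (kc xc26 yc56 zc49) (kc xc31 yc21 zc28) (kc xc29 yc36 zc17) (kc xc32 yc44 zc44) (kc xc29 yc41 zc38) (kc xc31 yc35 zc56) (kc xc31 yc35 zc57) (kc xc25 yc6 zc54) (kc xc32 yc44 zc46) (kc xc30 yc26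 zc60) (kc xc29 yc27 zc30) (kc xc30 yc27 zc14) (kc xc26 yc54 zc34) (kc xc20 yc26 zc42) (kc xc32 yc11 zc1) (kc xc29 yc27 zc25) (kc xc20 yc26 zc45) (kc xc32 yc17 zc47) (kc xc32 yc44 zc49) (kc xc20 yc26 zc55) (kc xc32 yc44 zc50) (kc xc20 yc26 zc58) (kc xc20 yc26 zc60) (kc xc28 yc17 zc51) (kc xc31 yc15 zc52) (kc xc20 yc27 zc13) (kc xc32 yc8 zc42) (kc xc25 yc26 zc43) (kc xc22 yc20 zc29) (kc xc27 yc39 zc27) (kc xc29 yc34 zc43) (kc xc27 yc3 zc58) (kc xc20 yc28 zc2) (kc xc24 yc14 zc47) (kc xc24 yc8 zc36) (kc xc20 yc28 zc14) (kc xc20 yc28 zc19) (kc xc20 yc28 zc22) (kc xc27 yc36 zc41) (kc xc29 yc40 zc32) (kc xc29 yc8 zc55) (kc xc25 yc31 zc59) (kc xc24 yc6 zc1) (kc xc23 yc27 zc26) (kc xc20 yc52 zc37) (kc xc21 yc16 zc2) (kc xc30 yc41 zc4)) (@D3.rec (fun _ => Pt) (kc xc22 yc47 zc39)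 (kc xc20 yc30 zc25) (kc xc20 yc30 zc26) (kc xc20 yc30 zc20) (kc xc21 yc48 zc39) (kc xc22 yc57 zc60) (kc xc23 yc48 zc41) (kc xc31 yc50 zc43) (kc xc21 yc42 zc11) (kc xc22 yc16 zc7) (kc xc21 yc22 zc16) (kc xc26 yc1 zc39) (kc xc21 yc0 zc15) (kc xc20 yc42 zc38) (kc xc21 yc57 zc14) (kc xc23 yc7 zc56) (kc xc20 yc49 zc49) (kc xc20 yc49 zc51) (kc xc29 yc23 zc41) (kc xc27 yc24 zc26) (kc xc20 yc29 zc21) (kc xc32 yc38 zc56) (kc xc30 yc46 zc30) (kc xc28 yc1 zc21) (kc xc28 yc29 zc1) (kc xc22 yc12 zc55) (kc xc20 yc29 zc28) (kc xc27 yc59 zc43) (kc xc20 yc29 zc32) (kc xc31 yc23 zc18) (kc xc25 yc2 zc8) (kc xc20 yc29 zc36) (kc xc20 yc29 zc34) (kc xc28 yc32 zc2) (kc xc20 yc29 zc35) (kc xc29 yc49 zc16) (kc xc27 yc15 zc57) (kc xc20 yc29 zc37) (kc xc27 yc15 zc45) (kc xc32 yc31 zc22) (kc xc24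 yc59 zc51) (kc xc27 yc42 zc1) (kc xc22 yc33 zc26) (kc xc20 yc29 zc44) (kc xc32 yc44 zc56) (kc xc29 yc49 zc17) (kc xc31 yc9 zc21) (kc xc22 yc19 zc45) (kc xc20 yc29 zc58) (kc xc20 yc31 zc54) (kc xc20 yc33 zc14) (kc xc20 yc50 zc48) (kc xc32 yc44 zc57) (kc xc21 yc51 zc46) (kc xc32 yc36 zc60) (kc xc20 yc31 zc22) (kc xc32 yc44 zc58) (kc xc20 yc30 zc9) (kc xc29 yc36 zc29) (kc xc22 yc39 zc53) (kc xc20 yc30 zc12) (kc xc26 yc55 zc29)) (@D3.rec (fun _ => Pt) (kc xc20 yc30 zc15) (kc xc29 yc8 zc38) (kc xc29 yc29 zc5) (kc xc23 yc8 zc8) (kc xc23 yc8 zc9) (kc xc29 yc29 zc2) (kc xc26 yc55 zc33) (kc xc29 yc24 zc5) (kc xc29 yc59 zc48) (kc xc32 yc35 zc56) (kc xc20 yc30 zc34) (kc xc20 yc30 zc43) (kc xc29 yc22 zc13) (kc xc20 yc31 zc1) (kc xc23 yc20 zc15) (kc xc21 yc9 zc29) (kc xc32 yc4 zc16)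 (kc xc26 yc8 zc57) (kc xc30 yc57 zc28) (kc xc32 yc44 zc60) (kc xc20 yc31 zc8) (kc xc31 yc23 zc0) (kc xc28 yc1 zc5) (kc xc22 yc42 zc3) (kc xc29 yc24 zc9) (kc xc30 yc8 zc18) (kc xc28 yc35 zc45) (kc xc28 yc35 zc38) (kc xc30 yc38 zc27) (kc xc26 yc55 zc30) (kc xc22 yc59 zc28) (kc xc22 yc39 zc39) (kc xc20 yc31 zc19) (kc xc32 yc37 zc0) (kc xc30 yc44 zc57) (kc xc22 yc56 zc1) (kc xc29 yc19 zc24) (kc xc23 yc8 zc10) (kc xc25 yc18 zc25) (kc xc21 yc53 zc48) (kc xc21 yc52 zc5) (kc xc20 yc31 zc39) (kc xc20 yc33 zc7) (kc xc20 yc31 zc42) (kc xc20 yc31 zc43) (kc xc25 yc16 zc0) (kc xc21 yc15 zc39) (kc xc29 yc30 zc12) (kc xc28 yc21 zc13) (kc xc29 yc8 zc16) (kc xc20 yc32 zc2) (kc xc20 yc32 zc8) (kc xc29 yc19 zc18) (kc xc29 yc24 zc17) (kc xc27 yc48 zc49) (kc xc20 yc32 zc3) (kc xc29 yc8 zc46)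 (kc xc23 yc33 zc41) (kc xc28 yc0 zc50) (kc xc20 yc32 zc16) (kc xc29 yc14 zc44) (kc xc20 yc32 zc20)) (@D3.rec (fun _ => Pt) (kc xc20 yc32 zc22) (kc xc21 yc6 zc43) (kc xc30 yc39 zc57) (kc xc31 yc2 zc34) (kc xc25 yc2 zc13) (kc xc20 yc32 zc29) (kc xc27 yc5 zc35) (kc xc23 yc44 zc43) (kc xc29 yc24 zc10) (kc xc24 yc31 zc16) (kc xc21 yc15 zc36) (kc xc23 yc20 zc45) (kc xc29 yc29 zc47) (kc xc29 yc42 zc42) (kc xc20 yc33 zc12) (kc xc21 yc13 zc36) (kc xc26 yc30 zc18) (kc xc31 yc22 zc37) (kc xc31 yc15 zc50) (kc xc22 yc25 zc53) (kc xc22 yc12 zc40) (kc xc20 yc33 zc19) (kc xc32 yc45 zc1) (kc xc30 yc25 zc17) (kc xc30 yc44 zc38) (kc xc20 yc33 zc25) (kc xc22 yc54 zc13) (kc xc30 yc20 zc31) (kc xc26 yc52 zc51) (kc xc28 yc1 zc18) (kc xc22 yc53 zc13) (kc xc30 yc54 zc13) (kc xc23 yc47 zc20)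 (kc xc22 yc53 zc7) (kc xc29 yc55 zc34) (kc xc21 yc11 zc26) (kc xc29 yc50 zc7) (kc xc20 yc33 zc54) (kc xc30 yc54 zc41) (kc xc20 yc34 zc17) (kc xc29 yc38 zc0) (kc xc29 yc51 zc46) (kc xc20 yc33 zc57) (kc xc29 yc41 zc19) (kc xc20 yc33 zc58) (kc xc32 yc44 zc14) (kc xc24 yc18 zc39) (kc xc20 yc34 zc1) (kc xc30 yc18 zc54) (kc xc29 yc24 zc7) (kc xc29 yc18 zc54) (kc xc29 yc13 zc42) (kc xc20 yc34 zc15) (kc xc28 yc58 zc18) (kc xc23 yc11 zc49) (kc xc32 yc2 zc22) (kc xc26 yc0 zc40) (kc xc20 yc35 zc50) (kc xc20 yc34 zc36) (kc xc21 yc44 zc9) (kc xc20 yc52 zc28) (kc xc22 yc12 zc53)) (@D3.rec (fun _ => Pt) (kc xc32 yc45 zc3) (kc xc20 yc35 zc55) (kc xc20 yc34 zc54) (kc xc20 yc34 zc58) (kc xc20 yc34 zc59) (kc xc20 yc34 zc60) (kc xc20 yc35 zc1) (kc xc20 yc35 zc3) (kc xc20 yc58 zc5) (kc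 xc20 yc35 zc41) (kc xc20 yc35 zc37) (kc xc20 yc35 zc9) (kc xc24 yc8 zc38) (kc xc20 yc35 zc35) (kc xc26 yc56 zc24) (kc xc20 yc35 zc33) (kc xc20 yc35 zc32) (kc xc32 yc12 zc40) (kc xc20 yc39 zc43) (kc xc27 yc20 zc39) (kc xc28 yc23 zc53) (kc xc28 yc24 zc15) (kc xc28 yc23 zc52) (kc xc32 yc45 zc4) (kc xc29 yc39 zc55) (kc xc29 yc14 zc16) (kc xc29 yc14 zc17) (kc xc31 yc30 zc39) (kc xc22 yc46 zc48) (kc xc31 yc34 zc11) (kc xc27 yc43 zc51) (kc xc31 yc33 zc10) (kc xc26 yc41 zc51) (kc xc28 yc34 zc27) (kc xc29 yc34 zc24) (kc xc31 yc34 zc7) (kc xc32 yc18 zc46) (kc xc31 yc14 zc5) (kc xc28 yc39 zc25) (kc xc27 yc3 zc26) (kc xc31 yc51 zc5) (kc xc20 yc35 zc49) (kc xc20 yc35 zc53) (kc xc20 yc35 zc54) (kc xc28 yc13 zc10) (kc xc26 yc24 zc49) (kc xc20 yc36 zc14) (kc xc20 yc36 zc29) (kc xc32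 yc40 zc32) (kc xc23 yc14 zc48) (kc xc20 yc36 zc33) (kc xc27 yc5 zc13) (kc xc25 yc45 zc54) (kc xc20 yc36 zc21) (kc xc23 yc3 zc41) (kc xc20 yc36 zc26) (kc xc25 yc58 zc3) (kc xc32 yc9 zc4) (kc xc27 yc58 zc29) (kc xc27 yc52 zc43) (kc xc20 yc36 zc34) (kc xc21 yc30 zc8)) (@D3.rec (fun _ => Pt) (kc xc25 yc54 zc40) (kc xc29 yc14 zc58) (kc xc20 yc36 zc43) (kc xc23 yc8 zc12) (kc xc24 yc7 zc21) (kc xc20 yc39 zc11) (kc xc31 yc43 zc22) (kc xc20 yc39 zc12) (kc xc26 yc20 zc14) (kc xc24 yc37 zc37) (kc xc25 yc14 zc27) (kc xc28 yc38 zc59) (kc xc30 yc47 zc12) (kc xc24 yc53 zc25) (kc xc26 yc52 zc26) (kc xc20 yc39 zc37) (kc xc26 yc26 zc15) (kc xc26 yc26 zc16) (kc xc32 yc40 zc37) (kc xc20 yc36 zc54) (kc xc27 yc23 zc54) (kc xc31 yc21 zc3) (kc xc20 yc39 zc35) (kc xc20 yc36 zc61) (kc xc30 yc52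 zc6) (kc xc20 yc39 zc33) (kc xc23 yc33 zc34) (kc xc32 yc35 zc18) (kc xc20 yc39 zc26) (kc xc20 yc39 zc25) (kc xc23 yc4 zc32) (kc xc31 yc33 zc27) (kc xc20 yc48 zc6) (kc xc22 yc26 zc7) (kc xc25 yc25 zc59) (kc xc29 yc43 zc16) (kc xc29 yc43 zc10) (kc xc32 yc33 zc48) (kc xc29 yc12 zc12) (kc xc20 yc37 zc52) (kc xc25 yc48 zc58) (kc xc20 yc37 zc42) (kc xc20 yc37 zc44) (kc xc32 yc45 zc18) (kc xc20 yc37 zc54) (kc xc31 yc37 zc55) (kc xc20 yc37 zc46) (kc xc31 yc41 zc19) (kc xc20 yc37 zc51) (kc xc32 yc9 zc47) (kc xc24 yc57 zc31) (kc xc20 yc37 zc59) (kc xc30 yc5 zc2) (kc xc20 yc38 zc11) (kc xc32 yc32 zc2) (kc xc22 yc26 zc24) (kc xc20 yc38 zc19) (kc xc25 yc47 zc32) (kc xc26 yc50 zc50) (kc xc28 yc18 zc53) (kc xc28 yc29 zc57) (kc xc20 yc38 zc25)) (@D3.rec (fun _ => Pt) (kc xc28 yc16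 zc23) (kc xc22 yc2 zc23) (kc xc32 yc45 zc22) (kc xc30 yc25 zc55) (kc xc28 yc48 zc10) (kc xc28 yc48 zc9) (kc xc28 yc55 zc55) (kc xc28 yc56 zc36) (kc xc30 yc29 zc38) (kc xc32 yc33 zc27) (kc xc31 yc30 zc26) (kc xc28 yc34 zc25) (kc xc30 yc31 zc22) (kc xc23 yc53 zc18) (kc xc24 yc37 zc58) (kc xc20 yc38 zc54) (kc xc32 yc39 zc55) (kc xc32 yc45 zc27) (kc xc32 yc45 zc29) (kc xc27 yc7 zc41) (kc xc32 yc45 zc30) (kc xc20 yc38 zc57) (kc xc24 yc26 zc44) (kc xc21 yc0 zc21) (kc xc22 yc11 zc22) (kc xc30 yc25 zc59) (kc xc32 yc45 zc33) (kc xc24 yc9 zc59) (kc xc22 yc25 zc25) (kc xc31 yc35 zc30) (kc xc31 yc34 zc15) (kc xc32 yc45 zc34) (kc xc31 yc31 zc3) (kc xc32 yc45 zc37) (kc xc20 yc39 zc0) (kc xc22 yc25 zc39) (kc xc24 yc0 zc17) (kc xc22 yc27 zc37) (kc xc28 yc42 zc14) (kc xc24 yc16 zc40)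 (kc xc30 yc29 zc20) (kc xc31 yc19 zc31) (kc xc20 yc39 zc9) (kc xc20 yc44 zc16) (kc xc32 yc44 zc10) (kc xc30 yc14 zc45) (kc xc22 yc0 zc45) (kc xc22 yc46 zc50) (kc xc32 yc45 zc42) (kc xc31 yc27 zc28) (kc xc20 yc39 zc18) (kc xc26 yc38 zc49) (kc xc28 yc46 zc5) (kc xc22 yc23 zc58) (kc xc31 yc34 zc12) (kc xc29 yc33 zc56) (kc xc29 yc33 zc55) (kc xc20 yc39 zc22) (kc xc30 yc30 zc54) (kc xc28 yc51 zc9) (kc xc20 yc44 zc18) (kc xc27 yc13 zc53)) (@D3.rec (fun _ => Pt) (kc xc24 yc11 zc47) (kc xc28 yc35 zc11) (kc xc28 yc34 zc53) (kc xc32 yc11 zc3) (kc xc32 yc18 zc31) (kc xc28 yc40 zc1) (kc xc32 yc11 zc59) (kc xc31 yc30 zc35) (kc xc28 yc24 zc19) (kc xc29 yc39 zc56) (kc xc24 yc29 zc50) (kc xc31 yc34 zc10) (kc xc20 yc39 zc34) (kc xc32 yc45 zc51) (kc xc25 yc52 zc48) (kc xc31 yc19 zc34)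 (kc xc27 yc16 zc6) (kc xc20 yc39 zc36) (kc xc27 yc11 zc41) (kc xc22 yc25 zc27) (kc xc22 yc19 zc30) (kc xc31 yc55 zc45) (kc xc32 yc45 zc15) (kc xc32 yc41 zc4) (kc xc29 yc31 zc34) (kc xc26 yc36 zc28) (kc xc32 yc19 zc17) (kc xc20 yc39 zc42) (kc xc20 yc39 zc40) (kc xc30 yc7 zc6) (kc xc29 yc24 zc24) (kc xc32 yc19 zc14) (kc xc30 yc42 zc59) (kc xc29 yc43 zc40) (kc xc21 yc23 zc42) (kc xc22 yc6 zc2) (kc xc24 yc16 zc55) (kc xc20 yc43 zc12) (kc xc20 yc39 zc50) (kc xc20 yc42 zc57) (kc xc30 yc23 zc0) (kc xc20 yc42 zc58) (kc xc21 yc38 zc36) (kc xc29 yc27 zc45) (kc xc26 yc45 zc2) (kc xc30 yc51 zc46) (kc xc26 yc31 zc35) (kc xc29 yc16 zc12) (kc xc20 yc40 zc10) (kc xc20 yc40 zc11) (kc xc26 yc4 zc44) (kc xc31 yc59 zc57) (kc xc28 yc17 zc17) (kc xc32 yc18 zc7) (kc xc29 yc37 zc42) (kc xc25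 yc53 zc16) (kc xc22 yc45 zc8) (kc xc25 yc45 zc34) (kc xc29 yc57 zc10) (kc xc20 yc40 zc36) (kc xc25 yc11 zc49) (kc xc29 yc49 zc31)) (@D3.rec (fun _ => Pt) (kc xc31 yc47 zc39) (kc xc31 yc37 zc13) (kc xc31 yc50 zc61) (kc xc20 yc40 zc47) (kc xc29 yc9 zc3) (kc xc29 yc22 zc37) (kc xc28 yc58 zc25) (kc xc28 yc35 zc32) (kc xc24 yc5 zc20) (kc xc28 yc33 zc15) (kc xc31 yc13 zc9) (kc xc20 yc47 zc54) (kc xc29 yc36 zc37) (kc xc21 yc9 zc37) (kc xc30 yc30 zc38) (kc xc21 yc47 zc40) (kc xc29 yc36 zc61) (kc xc20 yc41 zc20) (kc xc28 yc17 zc58) (kc xc22 yc13 zc38) (kc xc20 yc41 zc22) (kc xc22 yc14 zc20) (kc xc28 yc45 zc2) (kc xc28 yc47 zc9) (kc xc20 yc46 zc24) (kc xc30 yc37 zc2) (kc xc20 yc53 zc1) (kc xc28 yc58 zc12) (kc xc28 yc48 zc13) (kc xc24 yc38 zc38) (kc xc24 yc7 zc13) (kc xc20 yc49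 zc43) (kc xc28 yc35 zc4) (kc xc20 yc41 zc41) (kc xc24 yc11 zc39) (kc xc20 yc49 zc41) (kc xc32 yc45 zc58) (kc xc29 yc14 zc19) (kc xc23 yc48 zc49) (kc xc30 yc49 zc45) (kc xc27 yc59 zc47) (kc xc22 yc29 zc52) (kc xc22 yc26 zc46) (kc xc22 yc39 zc28) (kc xc20 yc41 zc49) (kc xc32 yc17 zc30) (kc xc20 yc41 zc52) (kc xc28 yc51 zc53) (kc xc20 yc41 zc53) (kc xc20 yc41 zc55) (kc xc23 yc41 zc1) (kc xc20 yc41 zc56) (kc xc24 yc51 zc61) (kc xc20 yc41 zc58) (kc xc30 yc22 zc45) (kc xc24 yc22 zc59) (kc xc28 yc54 zc61) (kc xc28 yc38 zc34) (kc xc31 yc45 zc56) (kc xc29 yc50 zc48) (kc xc20 yc43 zc25) (kc xc29 yc4 zc50)) (@D3.rec (fun _ => Pt) (kc xc20 yc43 zc27) (kc xc32 yc42 zc40) (kc xc20 yc42 zc4) (kc xc28 yc30 zc56) (kc xc20 yc42 zc6) (kc xc20 yc42 zc7) (kc xc25 yc22 zc42) (kc xc32 yc45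 zc61) (kc xc32 yc46 zc0) (kc xc32 yc46 zc3) (kc xc32 yc46 zc5) (kc xc32 yc46 zc7) (kc xc20 yc42 zc11) (kc xc32 yc46 zc11) (kc xc32 yc46 zc10) (kc xc20 yc43 zc57) (kc xc31 yc40 zc32) (kc xc29 yc27 zc17) (kc xc20 yc42 zc15) (kc xc32 yc11 zc0) (kc xc22 yc37 zc27) (kc xc20 yc42 zc22) (kc xc23 yc39 zc30) (kc xc28 yc44 zc21) (kc xc20 yc43 zc50) (kc xc24 yc11 zc19) (kc xc32 yc1 zc61) (kc xc31 yc35 zc40) (kc xc20 yc42 zc42) (kc xc29 yc28 zc58) (kc xc20 yc42 zc44) (kc xc32 yc46 zc18) (kc xc20 yc43 zc11) (kc xc23 yc48 zc15) (kc xc23 yc13 zc21) (kc xc22 yc13 zc24) (kc xc20 yc42 zc48) (kc xc29 yc35 zc12) (kc xc20 yc42 zc51) (kc xc27 yc41 zc55) (kc xc30 yc22 zc46) (kc xc21 yc47 zc13) (kc xc22 yc38 zc26) (kc xc28 yc37 zc52) (kc xc29 yc8 zc33) (kc xc20 yc42 zc55) (kc xc24 yc5 zc21)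 (kc xc30 yc50 zc50) (kc xc22 yc23 zc24) (kc xc20 yc43 zc29) (kc xc20 yc42 zc60) (kc xc22 yc13 zc30) (kc xc22 yc12 zc42) (kc xc28 yc43 zc29) (kc xc28 yc17 zc55) (kc xc27 yc23 zc47) (kc xc20 yc43 zc5) (kc xc30 yc38 zc38) (kc xc31 yc31 zc25) (kc xc32 yc17 zc33) (kc xc32 yc36 zc52) (kc xc29 yc35 zc16)) (@D3.rec (fun _ => Pt) (kc xc31 yc53 zc16) (kc xc22 yc26 zc54) (kc xc22 yc41 zc47) (kc xc23 yc14 zc40) (kc xc24 yc9 zc9) (kc xc23 yc14 zc45) (kc xc20 yc43 zc14) (kc xc32 yc46 zc23) (kc xc32 yc40 zc31) (kc xc29 yc17 zc46) (kc xc24 yc14 zc23) (kc xc21 yc54 zc12) (kc xc26 yc59 zc42) (kc xc22 yc55 zc56) (kc xc24 yc38 zc41) (kc xc20 yc43 zc31) (kc xc30 yc30 zc5) (kc xc25 yc30 zc9) (kc xc20 yc50 zc38) (kc xc25 yc54 zc48) (kc xc29 yc25 zc44) (kc xc26 yc38 zc50) (kc xc27 yc21 zc31)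 (kc xc20 yc43 zc38) (kc xc24 yc36 zc24) (kc xc22 yc2 zc17) (kc xc24 yc36 zc50) (kc xc24 yc18 zc43) (kc xc28 yc37 zc27) (kc xc20 yc43 zc46) (kc xc24 yc8 zc24) (kc xc24 yc36 zc34) (kc xc20 yc43 zc51) (kc xc32 yc46 zc24) (kc xc20 yc43 zc53) (kc xc20 yc44 zc0) (kc xc32 yc46 zc26) (kc xc20 yc43 zc56) (kc xc32 yc34 zc32) (kc xc20 yc43 zc58) (kc xc32 yc6 zc16) (kc xc27 yc15 zc53) (kc xc29 yc34 zc54) (kc xc30 yc49 zc55) (kc xc23 yc13 zc33) (kc xc20 yc44 zc1) (kc xc27 yc42 zc45) (kc xc27 yc42 zc46) (kc xc27 yc8 zc13) (kc xc21 yc33 zc61) (kc xc32 yc46 zc27) (kc xc20 yc44 zc9) (kc xc32 yc46 zc28) (kc xc32 yc45 zc41) (kc xc32 yc45 zc40) (kc xc20 yc44 zc10) (kc xc27 yc0 zc15) (kc xc20 yc44 zc12) (kc xc22 yc22 zc23) (kc xc20 yc44 zc14) (kc xc20 yc44 zc15) (kc xc31 yc17 zc9)) (@D3.rec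 (fun _ => Pt) (kc xc29 yc30 zc40) (kc xc20 yc44 zc35) (kc xc29 yc44 zc44) (kc xc20 yc44 zc19) (kc xc30 yc52 zc2) (kc xc20 yc44 zc22) (kc xc24 yc21 zc23) (kc xc20 yc44 zc24) (kc xc22 yc26 zc42) (kc xc20 yc44 zc27) (kc xc22 yc38 zc21) (kc xc20 yc44 zc29) (kc xc20 yc44 zc30) (kc xc24 yc21 zc29) (kc xc30 yc28 zc44) (kc xc23 yc7 zc5) (kc xc30 yc15 zc53) (kc xc21 yc28 zc41) (kc xc20 yc44 zc58) (kc xc27 yc21 zc3) (kc xc32 yc27 zc59) (kc xc27 yc41 zc58) (kc xc22 yc48 zc29) (kc xc20 yc45 zc11) (kc xc23 yc6 zc50) (kc xc22 yc51 zc34) (kc xc26 yc22 zc4) (kc xc21 yc8 zc0) (kc xc28 yc5 zc7) (kc xc21 yc7 zc61) (kc xc31 yc45 zc49) (kc xc32 yc8 zc47) (kc xc29 yc12 zc54) (kc xc22 yc47 zc35) (kc xc20 yc45 zc30) (kc xc27 yc20 zc12) (kc xc30 yc7 zc37) (kc xc29 yc22 zc24) (kc xc31 yc36 zc37)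 (kc xc29 yc22 zc23) (kc xc32 yc30 zc11) (kc xc28 yc6 zc34) (kc xc20 yc45 zc42) (kc xc20 yc46 zc47) (kc xc20 yc45 zc54) (kc xc24 yc54 zc34) (kc xc26 yc19 zc18) (kc xc26 yc19 zc38) (kc xc31 yc15 zc39) (kc xc32 yc25 zc31) (kc xc29 yc26 zc36) (kc xc30 yc24 zc58) (kc xc25 yc17 zc19) (kc xc24 yc12 zc31) (kc xc20 yc47 zc0) (kc xc20 yc46 zc7) (kc xc22 yc25 zc42) (kc xc25 yc19 zc43) (kc xc29 yc41 zc0) (kc xc20 yc46 zc17) (kc xc31 yc51 zc21) (kc xc20 yc46 zc19)) (@D3.rec (fun _ => Pt) (kc xc21 yc23 zc21) (kc xc31 yc49 zc51) (kc xc30 yc9 zc4) (kc xc26 yc11 zc6) (kc xc30 yc2 zc24) (kc xc20 yc46 zc25) (kc xc30 yc3 zc13) (kc xc31 yc7 zc17) (kc xc29 yc6 zc1) (kc xc25 yc58 zc13) (kc xc26 yc47 zc0) (kc xc21 yc47 zc11) (kc xc23 yc49 zc44) (kc xc30 yc12 zc35) (kc xc32 yc29 zc41) (kc xc23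 yc7 zc29) (kc xc26 yc19 zc12) (kc xc27 yc31 zc2) (kc xc20 yc46 zc54) (kc xc27 yc5 zc37) (kc xc20 yc46 zc60) (kc xc29 yc7 zc46) (kc xc28 yc0 zc43) (kc xc30 yc28 zc38) (kc xc28 yc30 zc42) (kc xc21 yc39 zc52) (kc xc22 yc3 zc48) (kc xc22 yc5 zc21) (kc xc30 yc22 zc40) (kc xc22 yc26 zc55) (kc xc20 yc47 zc15) (kc xc29 yc45 zc45) (kc xc20 yc47 zc17) (kc xc31 yc43 zc18) (kc xc30 yc54 zc26) (kc xc26 yc6 zc17) (kc xc28 yc3 zc31) (kc xc28 yc6 zc33) (kc xc28 yc42 zc42) (kc xc27 yc8 zc35) (kc xc30 yc4 zc56) (kc xc23 yc26 zc29) (kc xc30 yc16 zc3) (kc xc20 yc47 zc38) (kc xc29 yc39 zc45) (kc xc29 yc39 zc44) (kc xc30 yc52 zc3) (kc xc31 yc48 zc61) (kc xc20 yc47 zc40) (kc xc21 yc59 zc58) (kc xc21 yc59 zc60) (kc xc20 yc47 zc47) (kc xc27 yc20 zc59) (kc xc21 yc52 zc31) (kc xc20 yc47 zc53)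 (kc xc29 yc31 zc24) (kc xc29 yc34 zc9) (kc xc20 yc47 zc58) (kc xc20 yc48 zc0) (kc xc29 yc26 zc22) (kc xc32 yc40 zc23) (kc xc22 yc26 zc20)) (@D3.rec (fun _ => Pt) (kc xc22 yc26 zc19) (kc xc24 yc4 zc60) (kc xc24 yc4 zc59) (kc xc31 yc33 zc33) (kc xc28 yc52 zc31) (kc xc27 yc17 zc7) (kc xc22 yc40 zc54) (kc xc22 yc38 zc22) (kc xc20 yc48 zc17) (kc xc29 yc26 zc15) (kc xc22 yc26 zc40) (kc xc32 yc45 zc54) (kc xc27 yc10 zc35) (kc xc26 yc57 zc1) (kc xc21 yc52 zc53) (kc xc30 yc39 zc1) (kc xc24 yc21 zc30) (kc xc24 yc24 zc22) (kc xc23 yc4 zc43) (kc xc22 yc47 zc31) (kc xc32 yc44 zc54) (kc xc30 yc25 zc19) (kc xc22 yc24 zc26) (kc xc22 yc58 zc26) (kc xc22 yc19 zc46) (kc xc29 yc46 zc28) (kc xc32 yc46 zc45) (kc xc32 yc13 zc32) (kc xc20 yc48 zc28) (kc xc32 yc46 zc48) (kc xc32 yc46 zc39)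 (kc xc20 yc48 zc29) (kc xc29 yc27 zc54) (kc xc32 yc40 zc30) (kc xc32 yc12 zc29) (kc xc20 yc48 zc35) (kc xc24 yc33 zc35) (kc xc23 yc58 zc52) (kc xc20 yc48 zc42) (kc xc31 yc26 zc16) (kc xc32 yc46 zc50) (kc xc20 yc48 zc44) (kc xc30 yc29 zc28) (kc xc30 yc5 zc19) (kc xc20 yc48 zc48) (kc xc29 yc45 zc25) (kc xc23 yc47 zc25) (kc xc20 yc48 zc56) (kc xc20 yc48 zc51) (kc xc24 yc8 zc32) (kc xc21 yc59 zc17) (kc xc20 yc48 zc53) (kc xc30 yc14 zc48) (kc xc22 yc26 zc17) (kc xc30 yc51 zc29) (kc xc22 yc48 zc40) (kc xc29 yc46 zc36) (kc xc29 yc23 zc49) (kc xc30 yc30 zc4) (kc xc23 yc4 zc19) (kc xc24 yc34 zc34) (kc xc20 yc49 zc10)) (@D3.rec (fun _ => Pt) (kc xc29 yc38 zc58) (kc xc22 yc49 zc56) (kc xc22 yc28 zc45) (kc xc22 yc50 zc8) (kc xc20 yc49 zc20) (kc xc32 yc46 zc54) (kc xc24 yc6 zc17)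 (kc xc20 yc49 zc22) (kc xc24 yc15 zc20) (kc xc22 yc47 zc41) (kc xc25 yc34 zc59) (kc xc27 yc19 zc40) (kc xc21 yc58 zc7) (kc xc26 yc55 zc2) (kc xc23 yc55 zc49) (kc xc20 yc49 zc39) (kc xc32 yc46 zc56) (kc xc30 yc56 zc6) (kc xc27 yc38 zc15) (kc xc29 yc30 zc43) (kc xc22 yc58 zc8) (kc xc20 yc49 zc42) (kc xc31 yc40 zc59) (kc xc30 yc19 zc23) (kc xc31 yc8 zc54) (kc xc24 yc52 zc2) (kc xc30 yc6 zc35) (kc xc30 yc6 zc34) (kc xc23 yc28 zc31) (kc xc23 yc55 zc54) (kc xc32 yc44 zc53) (kc xc25 yc13 zc10) (kc xc31 yc20 zc29) (kc xc25 yc57 zc4) (kc xc24 yc4 zc0) (kc xc20 yc50 zc1) (kc xc31 yc52 zc37) (kc xc20 yc50 zc3) (kc xc29 yc27 zc19) (kc xc20 yc50 zc0) (kc xc31 yc52 zc42) (kc xc31 yc39 zc45) (kc xc32 yc46 zc59) (kc xc32 yc46 zc60) (kc xc20 yc50 zc2) (kc xc32 yc34 zc34) (kc xc29 yc7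 zc23) (kc xc31 yc38 zc40) (kc xc30 yc41 zc50) (kc xc31 yc11 zc18) (kc xc23 yc1 zc50) (kc xc26 yc6 zc29) (kc xc26 yc40 zc17) (kc xc25 yc37 zc9) (kc xc23 yc8 zc36) (kc xc30 yc47 zc57) (kc xc20 yc50 zc13) (kc xc29 yc9 zc44) (kc xc27 yc42 zc8) (kc xc31 yc23 zc36) (kc xc22 yc55 zc0) (kc xc20 yc50 zc19)) (@D3.rec (fun _ => Pt) (kc xc32 yc28 zc5) (kc xc32 yc28 zc6) (kc xc32 yc34 zc37) (kc xc20 yc50 zc23) (kc xc20 yc50 zc27) (kc xc31 yc32 zc5) (kc xc28 yc32 zc32) (kc xc20 yc50 zc29) (kc xc28 yc19 zc50) (kc xc20 yc50 zc30) (kc xc20 yc50 zc31) (kc xc22 yc31 zc1) (kc xc23 yc5 zc19) (kc xc20 yc50 zc36) (kc xc27 yc0 zc32) (kc xc28 yc19 zc51) (kc xc30 yc45 zc52) (kc xc20 yc50 zc34) (kc xc30 yc23 zc55) (kc xc28 yc24 zc50) (kc xc23 yc2 zc60) (kc xc30 yc18 zc20) (kc xc20 yc51 zc6) (kc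 xc24 yc24 zc5) (kc xc20 yc51 zc7) (kc xc20 yc51 zc17) (kc xc27 yc43 zc3) (kc xc22 yc4 zc37) (kc xc23 yc34 zc32) (kc xc20 yc51 zc42) (kc xc20 yc52 zc8) (kc xc32 yc47 zc3) (kc xc29 yc27 zc8) (kc xc20 yc52 zc16) (kc xc30 yc36 zc55) (kc xc25 yc50 zc1) (kc xc26 yc45 zc3) (kc xc31 yc26 zc4) (kc xc20 yc52 zc41) (kc xc21 yc36 zc45) (kc xc29 yc23 zc59) (kc xc20 yc52 zc50) (kc xc29 yc30 zc13) (kc xc27 yc10 zc38) (kc xc23 yc56 zc42) (kc xc32 yc18 zc4) (kc xc28 yc37 zc35) (kc xc20 yc53 zc5) (kc xc32 yc33 zc45) (kc xc32 yc40 zc7) (kc xc30 yc30 zc35) (kc xc20 yc53 zc16) (kc xc20 yc53 zc18) (kc xc32 yc23 zc4) (kc xc26 yc54 zc25) (kc xc24 yc21 zc55) (kc xc20 yc53 zc34) (kc xc30 yc52 zc52) (kc xc30 yc11 zc47) (kc xc20 yc53 zc49) (kc xc30 yc6 zc52) (kc xc29 yc21 zc16)) (@D3.rec (fun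 _ => Pt) (kc xc24 yc33 zc51) (kc xc22 yc47 zc5) (kc xc25 yc35 zc57) (kc xc30 yc22 zc50) (kc xc32 yc18 zc30) (kc xc28 yc25 zc25) (kc xc20 yc53 zc53) (kc xc25 yc35 zc58) (kc xc25 yc31 zc7) (kc xc24 yc35 zc38) (kc xc29 yc32 zc36) (kc xc20 yc53 zc59) (kc xc32 yc33 zc56) (kc xc27 yc37 zc51) (kc xc29 yc22 zc16) (kc xc20 yc54 zc0) (kc xc29 yc32 zc35) (kc xc20 yc54 zc2) (kc xc30 yc29 zc19) (kc xc29 yc53 zc42) (kc xc32 yc47 zc2) (kc xc32 yc45 zc13) (kc xc20 yc54 zc7) (kc xc27 yc13 zc48) (kc xc25 yc17 zc32) (kc xc32 yc47 zc7) (kc xc30 yc11 zc14) (kc xc20 yc54 zc9) (kc xc29 yc47 zc31) (kc xc20 yc54 zc11) (kc xc30 yc27 zc12) (kc xc32 yc43 zc43) (kc xc26 yc54 zc39) (kc xc26 yc54 zc46) (kc xc27 yc2 zc18) (kc xc32 yc3 zc34) (kc xc28 yc53 zc56) (kc xc28 yc40 zc49) (kc xc20 yc55 zc44)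 (kc xc32 yc10 zc56) (kc xc29 yc34 zc33) (kc xc29 yc46 zc49) (kc xc25 yc33 zc38) (kc xc20 yc54 zc30) (kc xc29 yc23 zc42) (kc xc29 yc5 zc59) (kc xc20 yc54 zc33) (kc xc29 yc0 zc61) (kc xc31 yc43 zc42) (kc xc22 yc55 zc7) (kc xc24 yc28 zc0) (kc xc30 yc54 zc36) (kc xc25 yc28 zc9) (kc xc20 yc54 zc48) (kc xc25 yc17 zc31) (kc xc29 yc20 zc14) (kc xc21 yc4 zc4) (kc xc25 yc31 zc51) (kc xc25 yc20 zc25) (kc xc25 yc20 zc26) (kc xc31 yc46 zc0) (kc xc25 yc20 zc1)) (@D3.rec (fun _ => Pt) (kc xc28 yc26 zc44) (kc xc27 yc19 zc43) (kc xc32 yc2 zc1) (kc xc25 yc6 zc38) (kc xc30 yc25 zc23) (kc xc25 yc23 zc24) (kc xc23 yc45 zc33) (kc xc25 yc23 zc23) (kc xc24 yc26 zc30) (kc xc22 yc19 zc43) (kc xc25 yc17 zc28) (kc xc24 yc31 zc53) (kc xc22 yc6 zc6) (kc xc22 yc6 zc7) (kc xc25 yc17 zc34) (kc xc28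 yc37 zc9) (kc xc28 yc37 zc10) (kc xc27 yc37 zc13) (kc xc22 yc56 zc22) (kc xc23 yc13 zc8) (kc xc28 yc40 zc41) (kc xc31 yc50 zc46) (kc xc25 yc53 zc35) (kc xc21 yc0 zc13) (kc xc31 yc27 zc6) (kc xc28 yc34 zc30) (kc xc20 yc55 zc29) (kc xc28 yc19 zc46) (kc xc27 yc43 zc56) (kc xc20 yc55 zc34) (kc xc20 yc55 zc35) (kc xc24 yc3 zc3) (kc xc24 yc15 zc7) (kc xc25 yc36 zc50) (kc xc25 yc59 zc53) (kc xc20 yc55 zc39) (kc xc31 yc24 zc23) (kc xc27 yc56 zc61) (kc xc31 yc45 zc61) (kc xc31 yc40 zc49) (kc xc23 yc45 zc57) (kc xc31 yc50 zc40) (kc xc23 yc49 zc8) (kc xc31 yc50 zc39) (kc xc29 yc38 zc2) (kc xc27 yc1 zc12) (kc xc27 yc23 zc44) (kc xc28 yc57 zc22) (kc xc31 yc31 zc27) (kc xc29 yc16 zc17) (kc xc28 yc57 zc21) (kc xc21 yc21 zc29) (kc xc28 yc4 zc53) (kc xc27 yc18 zc58) (kc xc29 yc17 zc48)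 (kc xc31 yc24 zc22) (kc xc20 yc58 zc36) (kc xc29 yc2 zc42) (kc xc26 yc58 zc42) (kc xc20 yc56 zc5) (kc xc31 yc29 zc22) (kc xc20 yc56 zc6)) (@D3.rec (fun _ => Pt) (kc xc30 yc29 zc40) (kc xc32 yc47 zc19) (kc xc26 yc51 zc52) (kc xc25 yc32 zc8) (kc xc31 yc11 zc15) (kc xc32 yc43 zc3) (kc xc31 yc12 zc40) (kc xc28 yc48 zc0) (kc xc24 yc14 zc30) (kc xc29 yc16 zc38) (kc xc31 yc24 zc51) (kc xc25 yc8 zc56) (kc xc32 yc14 zc56) (kc xc20 yc56 zc22) (kc xc32 yc47 zc25) (kc xc32 yc22 zc22) (kc xc31 yc27 zc27) (kc xc32 yc42 zc20) (kc xc31 yc27 zc9) (kc xc28 yc44 zc23) (kc xc31 yc27 zc23) (kc xc20 yc56 zc26) (kc xc24 yc29 zc59) (kc xc32 yc40 zc52) (kc xc20 yc56 zc27) (kc xc29 yc40 zc45) (kc xc30 yc14 zc47) (kc xc25 yc27 zc23) (kc xc28 yc48 zc28) (kc xc25 yc32 zc20) (kc xc31 yc19 zc19)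 (kc xc31 yc19 zc21) (kc xc31 yc12 zc39) (kc xc24 yc25 zc22) (kc xc24 yc0 zc56) (kc xc21 yc0 zc12) (kc xc31 yc31 zc10) (kc xc22 yc23 zc53) (kc xc24 yc17 zc7) (kc xc28 yc26 zc43) (kc xc22 yc19 zc28) (kc xc28 yc33 zc16) (kc xc32 yc16 zc35) (kc xc26 yc6 zc8) (kc xc20 yc56 zc42) (kc xc29 yc39 zc31) (kc xc24 yc31 zc59) (kc xc26 yc8 zc17) (kc xc30 yc25 zc24) (kc xc22 yc2 zc24) (kc xc20 yc56 zc57) (kc xc32 yc39 zc6) (kc xc22 yc17 zc61) (kc xc28 yc44 zc37) (kc xc22 yc27 zc17) (kc xc27 yc13 zc55) (kc xc32 yc22 zc23) (kc xc25 yc59 zc58) (kc xc30 yc14 zc50) (kc xc29 yc56 zc29) (kc xc30 yc16 zc24) (kc xc25 yc26 zc46)) (@D3.rec (fun _ => Pt) (kc xc20 yc57 zc11) (kc xc26 yc36 zc19) (kc xc20 yc57 zc12) (kc xc32 yc47 zc37) (kc xc29 yc2 zc46) (kc xc32 yc47 zc39) (kc xc32 yc12 zc2) (kc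 xc20 yc57 zc13) (kc xc32 yc40 zc22) (kc xc20 yc57 zc15) (kc xc26 yc36 zc1) (kc xc26 yc36 zc14) (kc xc20 yc57 zc18) (kc xc28 yc40 zc45) (kc xc29 yc21 zc30) (kc xc28 yc39 zc56) (kc xc20 yc57 zc21) (kc xc32 yc10 zc53) (kc xc22 yc19 zc31) (kc xc31 yc55 zc35) (kc xc20 yc57 zc24) (kc xc29 yc46 zc48) (kc xc20 yc57 zc26) (kc xc28 yc42 zc5) (kc xc30 yc17 zc32) (kc xc30 yc17 zc33) (kc xc22 yc25 zc4) (kc xc20 yc57 zc30) (kc xc29 yc40 zc25) (kc xc32 yc47 zc48) (kc xc20 yc57 zc31) (kc xc23 yc55 zc36) (kc xc22 yc24 zc57) (kc xc20 yc57 zc32) (kc xc25 yc55 zc34) (kc xc31 yc52 zc30) (kc xc29 yc40 zc56) (kc xc25 yc7 zc60) (kc xc23 yc35 zc5) (kc xc25 yc20 zc53) (kc xc23 yc35 zc4) (kc xc26 yc46 zc8) (kc xc23 yc28 zc55) (kc xc24 yc37 zc28) (kc xc31 yc32 zc22) (kc xc32 yc47 zc50) (kc xc26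 yc8 zc19) (kc xc20 yc57 zc51) (kc xc29 yc46 zc21) (kc xc29 yc43 zc41) (kc xc32 yc39 zc56) (kc xc32 yc47 zc40) (kc xc20 yc57 zc55) (kc xc32 yc47 zc52) (kc xc32 yc44 zc8) (kc xc24 yc27 zc36) (kc xc31 yc34 zc57) (kc xc31 yc29 zc24) (kc xc31 yc34 zc8) (kc xc22 yc5 zc22) (kc xc28 yc17 zc27) (kc xc30 yc48 zc52)) (@D3.rec (fun _ => Pt) (kc xc20 yc58 zc4) (kc xc22 yc4 zc13) (kc xc20 yc58 zc10) (kc xc23 yc55 zc53) (kc xc32 yc47 zc57) (kc xc28 yc39 zc21) (kc xc28 yc40 zc34) (kc xc30 yc17 zc17) (kc xc30 yc17 zc15) (kc xc32 yc12 zc56) (kc xc20 yc58 zc19) (kc xc26 yc2 zc42) (kc xc31 yc24 zc40) (kc xc22 yc25 zc34) (kc xc22 yc25 zc35) (kc xc31 yc40 zc46) (kc xc22 yc26 zc28) (kc xc22 yc26 zc29) (kc xc20 yc58 zc24) (kc xc28 yc39 zc45) (kc xc27 yc57 zc0) (kc xc31 yc18 zc35) (kc xc31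 yc18 zc34) (kc xc23 yc49 zc16) (kc xc29 yc10 zc44) (kc xc31 yc52 zc52) (kc xc22 yc23 zc38) (kc xc23 yc49 zc14) (kc xc31 yc18 zc13) (kc xc23 yc55 zc42) (kc xc24 yc3 zc5) (kc xc29 yc43 zc28) (kc xc26 yc57 zc55) (kc xc32 yc18 zc28) (kc xc32 yc0 zc57) (kc xc31 yc40 zc20) (kc xc25 yc38 zc47) (kc xc26 yc37 zc49) (kc xc31 yc21 zc43) (kc xc31 yc41 zc55) (kc xc20 yc58 zc56) (kc xc21 yc1 zc46) (kc xc22 yc5 zc1) (kc xc22 yc7 zc37) (kc xc31 yc30 zc6) (kc xc22 yc7 zc38) (kc xc25 yc19 zc4) (kc xc25 yc20 zc20) (kc xc20 yc59 zc28) (kc xc29 yc58 zc55) (kc xc31 yc35 zc16) (kc xc31 yc49 zc49) (kc xc25 yc49 zc14) (kc xc31 yc36 zc28) (kc xc28 yc26 zc49) (kc xc25 yc42 zc58) (kc xc24 yc8 zc21) (kc xc31 yc1 zc52) (kc xc31 yc13 zc16) (kc xc29 yc49 zc58) (kc xc31 yc4 zc9) (kc xc25 yc41 zc24))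 (@D3.rec (fun _ => Pt) (kc xc26 yc32 zc6) (kc xc20 yc59 zc33) (kc xc32 yc15 zc58) (kc xc20 yc59 zc39) (kc xc21 yc14 zc4) (kc xc22 yc32 zc61) (kc xc32 yc34 zc50) (kc xc20 yc59 zc43) (kc xc30 yc17 zc39) (kc xc28 yc37 zc32) (kc xc29 yc14 zc46) (kc xc20 yc59 zc56) (kc xc22 yc41 zc25) (kc xc28 yc33 zc1) (kc xc31 yc15 zc47) (kc xc20 yc59 zc58) (kc xc32 yc48 zc2) (kc xc20 yc59 zc59) (kc xc30 yc38 zc39) (kc xc20 yc59 zc60) (kc xc28 yc15 zc48) (kc xc28 yc15 zc49) (kc xc28 yc2 zc47) (kc xc21 yc0 zc0) (kc xc32 yc48 zc3) (kc xc31 yc23 zc60) (kc xc24 yc23 zc47) (kc xc31 yc23 zc22) (kc xc21 yc0 zc2) (kc xc32 yc20 zc37) (kc xc31 yc49 zc32) (kc xc24 yc4 zc10) (kc xc25 yc58 zc59) (kc xc21 yc0 zc18) (kc xc32 yc22 zc10) (kc xc25 yc53 zc43) (kc xc24 yc33 zc37) (kc xc22 yc2 zc28) (kc xc32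 yc18 zc50) (kc xc21 yc50 zc54) (kc xc24 yc33 zc45) (kc xc24 yc16 zc24) (kc xc32 yc9 zc2) (kc xc21 yc0 zc42) (kc xc31 yc18 zc42) (kc xc31 yc43 zc40) (kc xc24 yc20 zc50) (kc xc32 yc0 zc59) (kc xc27 yc56 zc6) (kc xc21 yc1 zc5) (kc xc21 yc1 zc7) (kc xc22 yc40 zc35) (kc xc30 yc58 zc19) (kc xc21 yc1 zc9) (kc xc23 yc24 zc47) (kc xc23 yc14 zc58) (kc xc21 yc1 zc11) (kc xc31 yc59 zc22) (kc xc21 yc1 zc13) (kc xc21 yc1 zc14) (kc xc21 yc1 zc16) (kc xc22 yc5 zc46)) (@D3.rec (fun _ => Pt) (kc xc26 yc59 zc27) (kc xc32 yc45 zc8) (kc xc25 yc51 zc49) (kc xc30 yc48 zc55) (kc xc21 yc1 zc26) (kc xc21 yc1 zc28) (kc xc31 yc59 zc41) (kc xc28 yc49 zc14) (kc xc30 yc48 zc39) (kc xc21 yc1 zc35) (kc xc24 yc18 zc1) (kc xc30 yc11 zc13) (kc xc25 yc45 zc0) (kc xc28 yc56 zc57) (kc xc28 yc44 zc28) (kc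 xc21 yc1 zc52) (kc xc29 yc28 zc35) (kc xc29 yc28 zc45) (kc xc25 yc32 zc14) (kc xc21 yc21 zc28) (kc xc21 yc54 zc7) (kc xc31 yc26 zc35) (kc xc31 yc27 zc45) (kc xc31 yc21 zc58) (kc xc32 yc43 zc39) (kc xc29 yc53 zc43) (kc xc28 yc42 zc12) (kc xc24 yc12 zc26) (kc xc27 yc53 zc51) (kc xc21 yc39 zc6) (kc xc27 yc21 zc30) (kc xc29 yc34 zc61) (kc xc21 yc8 zc53) (kc xc27 yc18 zc26) (kc xc29 yc52 zc35) (kc xc21 yc17 zc36) (kc xc21 yc8 zc51) (kc xc23 yc30 zc21) (kc xc23 yc28 zc8) (kc xc32 yc33 zc7) (kc xc21 yc24 zc26) (kc xc29 yc58 zc9) (kc xc21 yc2 zc22) (kc xc31 yc8 zc32) (kc xc32 yc27 zc25) (kc xc31 yc51 zc15) (kc xc32 yc48 zc13) (kc xc21 yc2 zc25) (kc xc22 yc44 zc30) (kc xc21 yc2 zc26) (kc xc31 yc49 zc38) (kc xc31 yc36 zc41) (kc xc27 yc42 zc34) (kc xc27 yc45 zc25) (kc xc21 yc2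 zc29) (kc xc32 yc42 zc61) (kc xc30 yc2 zc18) (kc xc28 yc53 zc22) (kc xc29 yc47 zc59) (kc xc24 yc53 zc23) (kc xc30 yc34 zc61) (kc xc27 yc30 zc56)) (@D3.rec (fun _ => Pt) (kc xc21 yc2 zc50) (kc xc30 yc6 zc58) (kc xc22 yc53 zc53) (kc xc28 yc54 zc43) (kc xc30 yc15 zc29) (kc xc24 yc31 zc56) (kc xc21 yc3 zc5) (kc xc29 yc30 zc36) (kc xc23 yc59 zc13) (kc xc24 yc27 zc32) (kc xc24 yc49 zc25) (kc xc30 yc32 zc27) (kc xc30 yc9 zc10) (kc xc21 yc3 zc37) (kc xc27 yc17 zc20) (kc xc21 yc3 zc46) (kc xc31 yc54 zc45) (kc xc21 yc3 zc58) (kc xc31 yc28 zc16) (kc xc32 yc17 zc56) (kc xc24 yc51 zc52) (kc xc26 yc49 zc35) (kc xc21 yc4 zc15) (kc xc25 yc28 zc28) (kc xc32 yc48 zc17) (kc xc27 yc44 zc56) (kc xc29 yc12 zc33) (kc xc21 yc4 zc29) (kc xc25 yc58 zc52) (kc xc31 yc37 zc22) (kc xc22 yc34 zc45)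 (kc xc21 yc58 zc60) (kc xc27 yc23 zc8) (kc xc32 yc23 zc49) (kc xc21 yc4 zc49) (kc xc25 yc59 zc0) (kc xc21 yc4 zc56) (kc xc28 yc41 zc13) (kc xc23 yc46 zc47) (kc xc30 yc43 zc43) (kc xc30 yc33 zc48) (kc xc21 yc27 zc50) (kc xc30 yc0 zc33) (kc xc24 yc39 zc35) (kc xc27 yc27 zc59) (kc xc22 yc48 zc46) (kc xc22 yc11 zc50) (kc xc22 yc16 zc25) (kc xc29 yc35 zc59) (kc xc27 yc4 zc42) (kc xc21 yc5 zc14) (kc xc31 yc1 zc57) (kc xc21 yc5 zc20) (kc xc32 yc21 zc5) (kc xc22 yc48 zc21) (kc xc22 yc17 zc28) (kc xc29 yc51 zc34) (kc xc27 yc26 zc3) (kc xc21 yc19 zc60) (kc xc30 yc20 zc29) (kc xc25 yc48 zc23) (kc xc22 yc48 zc47)) (@D3.rec (fun _ => Pt) (kc xc24 yc7 zc18) (kc xc23 yc56 zc13) (kc xc30 yc37 zc22) (kc xc32 yc48 zc19) (kc xc31 yc6 zc59) (kc xc21 yc31 zc34) (kc xc32 yc23 zc41) (kc xc25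 yc34 zc42) (kc xc25 yc13 zc9) (kc xc23 yc2 zc38) (kc xc29 yc57 zc42) (kc xc23 yc22 zc32) (kc xc27 yc17 zc49) (kc xc27 yc18 zc21) (kc xc27 yc18 zc11) (kc xc23 yc39 zc56) (kc xc23 yc40 zc1) (kc xc29 yc58 zc16) (kc xc22 yc8 zc44) (kc xc21 yc6 zc3) (kc xc23 yc20 zc38) (kc xc25 yc54 zc13) (kc xc21 yc19 zc55) (kc xc30 yc4 zc15) (kc xc25 yc54 zc12) (kc xc21 yc6 zc16) (kc xc32 yc6 zc40) (kc xc25 yc2 zc46) (kc xc23 yc13 zc49) (kc xc24 yc9 zc41) (kc xc21 yc6 zc29) (kc xc21 yc6 zc30) (kc xc21 yc6 zc33) (kc xc27 yc4 zc52) (kc xc29 yc50 zc56) (kc xc22 yc9 zc33) (kc xc23 yc54 zc39) (kc xc29 yc10 zc43) (kc xc21 yc6 zc41) (kc xc22 yc30 zc7) (kc xc27 yc58 zc52) (kc xc27 yc18 zc0) (kc xc21 yc53 zc46) (kc xc31 yc43 zc8) (kc xc21 yc16 zc24) (kc xc25 yc45 zc51) (kc xc29 yc30 zc41) (kc xc32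 yc1 zc16) (kc xc29 yc59 zc57) (kc xc27 yc5 zc45) (kc xc22 yc34 zc38) (kc xc21 yc7 zc14) (kc xc30 yc11 zc5) (kc xc28 yc57 zc47) (kc xc21 yc7 zc17) (kc xc32 yc29 zc6) (kc xc21 yc7 zc43) (kc xc21 yc7 zc44) (kc xc28 yc7 zc58) (kc xc27 yc33 zc24) (kc xc21 yc7 zc59) (kc xc24 yc33 zc11)) (@D3.rec (fun _ => Pt) (kc xc21 yc31 zc18) (kc xc27 yc7 zc47) (kc xc30 yc27 zc17) (kc xc30 yc59 zc30) (kc xc32 yc43 zc24) (kc xc24 yc10 zc29) (kc xc32 yc14 zc28) (kc xc32 yc14 zc29) (kc xc22 yc11 zc46) (kc xc31 yc45 zc21) (kc xc21 yc8 zc43) (kc xc31 yc38 zc34) (kc xc26 yc7 zc41) (kc xc30 yc18 zc11) (kc xc21 yc8 zc55) (kc xc28 yc40 zc56) (kc xc21 yc56 zc2) (kc xc21 yc28 zc19) (kc xc21 yc28 zc24) (kc xc21 yc17 zc34) (kc xc27 yc5 zc31) (kc xc21 yc16 zc15) (kc xc27 yc53 zc45) (kc xc21 yc9 zc18)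 (kc xc27 yc54 zc44) (kc xc27 yc49 zc57) (kc xc21 yc9 zc42) (kc xc28 yc21 zc35) (kc xc21 yc9 zc55) (kc xc21 yc48 zc46) (kc xc21 yc9 zc58) (kc xc32 yc47 zc13) (kc xc32 yc48 zc29) (kc xc29 yc9 zc21) (kc xc29 yc11 zc24) (kc xc29 yc49 zc34) (kc xc21 yc10 zc15) (kc xc21 yc10 zc19) (kc xc21 yc10 zc20) (kc xc22 yc5 zc25) (kc xc30 yc43 zc12) (kc xc30 yc50 zc41) (kc xc21 yc11 zc22) (kc xc21 yc10 zc56) (kc xc32 yc11 zc52) (kc xc21 yc11 zc19) (kc xc21 yc11 zc14) (kc xc25 yc59 zc37) (kc xc31 yc7 zc4) (kc xc21 yc10 zc32) (kc xc32 yc31 zc40) (kc xc24 yc46 zc57) (kc xc21 yc10 zc37) (kc xc28 yc33 zc43) (kc xc21 yc10 zc40) (kc xc21 yc10 zc39) (kc xc32 yc48 zc32) (kc xc31 yc34 zc33) (kc xc23 yc4 zc59) (kc xc21 yc11 zc61) (kc xc21 yc12 zc0) (kc xc21 yc10 zc44)) (@D3.rec (fun _ => Pt) (kc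 xc31 yc16 zc58) (kc xc22 yc48 zc30) (kc xc22 yc48 zc31) (kc xc21 yc12 zc4) (kc xc21 yc12 zc5) (kc xc27 yc49 zc13) (kc xc24 yc12 zc56) (kc xc21 yc10 zc48) (kc xc30 yc49 zc30) (kc xc28 yc29 zc21) (kc xc31 yc34 zc13) (kc xc21 yc10 zc55) (kc xc32 yc2 zc26) (kc xc21 yc10 zc57) (kc xc27 yc25 zc23) (kc xc21 yc10 zc58) (kc xc22 yc52 zc56) (kc xc21 yc11 zc0) (kc xc30 yc46 zc20) (kc xc27 yc3 zc3) (kc xc24 yc14 zc9) (kc xc30 yc6 zc29) (kc xc30 yc26 zc29) (kc xc32 yc7 zc55) (kc xc23 yc8 zc6) (kc xc30 yc36 zc24) (kc xc31 yc35 zc53) (kc xc24 yc38 zc4) (kc xc27 yc24 zc22) (kc xc21 yc11 zc13) (kc xc32 yc11 zc33) (kc xc32 yc11 zc4) (kc xc24 yc13 zc54) (kc xc21 yc47 zc34) (kc xc22 yc46 zc47) (kc xc21 yc11 zc30) (kc xc30 yc42 zc60) (kc xc32 yc39 zc61) (kc xc21 yc11 zc32) (kc xc32 yc18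 zc38) (kc xc28 yc52 zc22) (kc xc28 yc50 zc11) (kc xc29 yc43 zc19) (kc xc29 yc49 zc25) (kc xc32 yc48 zc37) (kc xc21 yc11 zc48) (kc xc32 yc9 zc26) (kc xc21 yc11 zc51) (kc xc21 yc11 zc50) (kc xc32 yc48 zc38) (kc xc21 yc11 zc53) (kc xc21 yc11 zc55) (kc xc24 yc16 zc19) (kc xc32 yc48 zc33) (kc xc21 yc12 zc3) (kc xc32 yc7 zc50) (kc xc31 yc36 zc50) (kc xc30 yc45 zc57) (kc xc22 yc55 zc58) (kc xc29 yc19 zc59) (kc xc32 yc16 zc26) (kc xc28 yc20 zc58)) (@D3.rec (fun _ => Pt) (kc xc24 yc56 zc35) (kc xc26 yc2 zc18) (kc xc21 yc12 zc21) (kc xc21 yc30 zc51) (kc xc31 yc12 zc9) (kc xc21 yc12 zc32) (kc xc32 yc9 zc20) (kc xc32 yc28 zc41) (kc xc21 yc13 zc22) (kc xc21 yc12 zc38) (kc xc32 yc6 zc13) (kc xc32 yc24 zc55) (kc xc32 yc3 zc54) (kc xc25 yc1 zc45) (kc xc25 yc1 zc44) (kc xc21 yc12 zc43)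 (kc xc25 yc3 zc10) (kc xc21 yc13 zc27) (kc xc25 yc3 zc24) (kc xc28 yc27 zc43) (kc xc22 yc10 zc41) (kc xc27 yc38 zc44) (kc xc26 yc17 zc46) (kc xc21 yc12 zc52) (kc xc27 yc55 zc23) (kc xc30 yc35 zc51) (kc xc21 yc12 zc57) (kc xc21 yc12 zc61) (kc xc28 yc19 zc0) (kc xc21 yc13 zc15) (kc xc21 yc13 zc20) (kc xc32 yc33 zc42) (kc xc27 yc49 zc0) (kc xc28 yc26 zc27) (kc xc27 yc45 zc54) (kc xc31 yc16 zc7) (kc xc21 yc13 zc29) (kc xc23 yc4 zc7) (kc xc21 yc13 zc34) (kc xc32 yc34 zc53) (kc xc23 yc0 zc0) (kc xc26 yc27 zc57) (kc xc27 yc10 zc16) (kc xc30 yc49 zc47) (kc xc29 yc1 zc58) (kc xc29 yc1 zc54) (kc xc21 yc13 zc40) (kc xc23 yc52 zc54) (kc xc21 yc13 zc43) (kc xc32 yc34 zc47) (kc xc32 yc48 zc42) (kc xc21 yc13 zc45) (kc xc21 yc13 zc46) (kc xc22 yc46 zc18) (kc xc23 yc1 zc12) (kc xc32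 yc8 zc13) (kc xc22 yc26 zc43) (kc xc25 yc19 zc22) (kc xc22 yc14 zc57) (kc xc28 yc35 zc51) (kc xc32 yc21 zc40) (kc xc21 yc13 zc56)) (@D3.rec (fun _ => Pt) (kc xc23 yc52 zc51) (kc xc21 yc14 zc0) (kc xc31 yc8 zc50) (kc xc21 yc13 zc61) (kc xc30 yc13 zc61) (kc xc21 yc14 zc1) (kc xc23 yc52 zc52) (kc xc22 yc33 zc13) (kc xc21 yc14 zc8) (kc xc32 yc46 zc22) (kc xc21 yc14 zc11) (kc xc23 yc27 zc37) (kc xc25 yc23 zc13) (kc xc30 yc2 zc47) (kc xc30 yc40 zc59) (kc xc22 yc36 zc33) (kc xc30 yc43 zc48) (kc xc32 yc48 zc45) (kc xc30 yc12 zc51) (kc xc31 yc8 zc28) (kc xc31 yc2 zc1) (kc xc25 yc23 zc21) (kc xc21 yc14 zc36) (kc xc31 yc5 zc18) (kc xc31 yc5 zc19) (kc xc22 yc44 zc33) (kc xc23 yc6 zc6) (kc xc23 yc44 zc7) (kc xc31 yc8 zc48) (kc xc22 yc38 zc2) (kc xc22 yc33 zc15) (kc xc21 yc15 zc0)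 (kc xc21 yc14 zc58) (kc xc27 yc56 zc12) (kc xc29 yc30 zc34) (kc xc29 yc21 zc11) (kc xc30 yc45 zc48) (kc xc30 yc49 zc29) (kc xc23 yc4 zc29) (kc xc22 yc18 zc27) (kc xc23 yc21 zc29) (kc xc28 yc28 zc10) (kc xc22 yc57 zc11) (kc xc26 yc55 zc52) (kc xc31 yc40 zc30) (kc xc26 yc54 zc38) (kc xc32 yc11 zc47) (kc xc21 yc15 zc52) (kc xc23 yc45 zc39) (kc xc23 yc26 zc33) (kc xc31 yc1 zc25) (kc xc21 yc15 zc60) (kc xc32 yc16 zc52) (kc xc31 yc31 zc2) (kc xc22 yc0 zc38) (kc xc21 yc16 zc4) (kc xc26 yc50 zc28) (kc xc26 yc55 zc23) (kc xc22 yc7 zc53) (kc xc21 yc39 zc37) (kc xc30 yc3 zc51) (kc xc30 yc13 zc8)) (@D3.rec (fun _ => Pt) (kc xc31 yc3 zc55) (kc xc31 yc51 zc48) (kc xc22 yc9 zc40) (kc xc21 yc16 zc34) (kc xc32 yc48 zc47) (kc xc21 yc16 zc35) (kc xc32 yc48 zc49) (kc xc30 yc5 zc34) (kc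 xc28 yc40 zc24) (kc xc27 yc8 zc10) (kc xc32 yc11 zc7) (kc xc21 yc16 zc49) (kc xc21 yc17 zc2) (kc xc21 yc17 zc0) (kc xc21 yc16 zc60) (kc xc30 yc16 zc38) (kc xc32 yc12 zc3) (kc xc29 yc17 zc23) (kc xc27 yc30 zc38) (kc xc25 yc49 zc32) (kc xc29 yc59 zc50) (kc xc21 yc22 zc36) (kc xc30 yc7 zc55) (kc xc28 yc44 zc32) (kc xc28 yc25 zc31) (kc xc22 yc33 zc30) (kc xc28 yc43 zc1) (kc xc21 yc17 zc10) (kc xc31 yc48 zc5) (kc xc29 yc45 zc59) (kc xc32 yc11 zc8) (kc xc21 yc18 zc15) (kc xc32 yc48 zc27) (kc xc22 yc43 zc26) (kc xc25 yc29 zc40) (kc xc23 yc39 zc13) (kc xc30 yc41 zc3) (kc xc21 yc34 zc16) (kc xc27 yc30 zc52) (kc xc30 yc42 zc23) (kc xc21 yc17 zc22) (kc xc23 yc30 zc6) (kc xc31 yc9 zc32) (kc xc31 yc2 zc31) (kc xc31 yc2 zc33) (kc xc21 yc17 zc25) (kc xc23 yc26 zc57) (kc xc29 yc57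 zc38) (kc xc30 yc4 zc45) (kc xc21 yc17 zc29) (kc xc30 yc4 zc39) (kc xc21 yc17 zc32) (kc xc31 yc36 zc35) (kc xc21 yc17 zc35) (kc xc31 yc5 zc29) (kc xc23 yc28 zc10) (kc xc22 yc10 zc28) (kc xc22 yc10 zc39) (kc xc21 yc17 zc38) (kc xc30 yc40 zc35) (kc xc26 yc10 zc3) (kc xc31 yc58 zc19)) (@D3.rec (fun _ => Pt) (kc xc24 yc40 zc5) (kc xc21 yc17 zc39) (kc xc24 yc34 zc53) (kc xc29 yc57 zc39) (kc xc21 yc17 zc41) (kc xc21 yc17 zc42) (kc xc25 yc30 zc46) (kc xc29 yc22 zc45) (kc xc21 yc17 zc51) (kc xc25 yc41 zc43) (kc xc29 yc34 zc58) (kc xc21 yc17 zc54) (kc xc29 yc11 zc23) (kc xc21 yc34 zc15) (kc xc25 yc42 zc23) (kc xc25 yc42 zc47) (kc xc31 yc10 zc36) (kc xc31 yc10 zc53) (kc xc21 yc17 zc59) (kc xc21 yc18 zc1) (kc xc32 yc28 zc8) (kc xc21 yc18 zc2) (kc xc31 yc57 zc31) (kc xc31 yc58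 zc24) (kc xc21 yc18 zc4) (kc xc21 yc18 zc7) (kc xc31 yc52 zc53) (kc xc21 yc32 zc22) (kc xc31 yc59 zc37) (kc xc25 yc39 zc32) (kc xc22 yc9 zc6) (kc xc32 yc48 zc59) (kc xc22 yc9 zc8) (kc xc23 yc3 zc5) (kc xc30 yc2 zc19) (kc xc21 yc18 zc14) (kc xc27 yc24 zc28) (kc xc31 yc54 zc30) (kc xc29 yc56 zc47) (kc xc29 yc57 zc3) (kc xc21 yc18 zc17) (kc xc29 yc58 zc7) (kc xc29 yc51 zc10) (kc xc27 yc58 zc13) (kc xc31 yc3 zc3) (kc xc30 yc0 zc22) (kc xc29 yc26 zc53) (kc xc30 yc4 zc35) (kc xc23 yc39 zc61) (kc xc21 yc18 zc29) (kc xc28 yc13 zc22) (kc xc29 yc14 zc29) (kc xc28 yc13 zc24) (kc xc25 yc23 zc10) (kc xc28 yc13 zc25) (kc xc32 yc48 zc22) (kc xc32 yc48 zc23) (kc xc21 yc34 zc41) (kc xc25 yc32 zc52) (kc xc21 yc44 zc36) (kc xc25 yc28 zc12) (kc xc21 yc58 zc30)) (@D3.rec (fun _ => Pt) (kc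 xc21 yc19 zc2) (kc xc32 yc23 zc35) (kc xc27 yc18 zc15) (kc xc32 yc24 zc32) (kc xc27 yc18 zc35) (kc xc21 yc19 zc5) (kc xc28 yc56 zc54) (kc xc29 yc57 zc41) (kc xc32 yc30 zc45) (kc xc29 yc49 zc41) (kc xc24 yc23 zc52) (kc xc29 yc58 zc27) (kc xc32 yc48 zc56) (kc xc21 yc19 zc16) (kc xc30 yc4 zc32) (kc xc30 yc4 zc33) (kc xc29 yc51 zc17) (kc xc25 yc58 zc31) (kc xc32 yc8 zc22) (kc xc21 yc19 zc20) (kc xc27 yc23 zc29) (kc xc27 yc18 zc16) (kc xc21 yc19 zc22) (kc xc22 yc44 zc10) (kc xc31 yc36 zc0) (kc xc32 yc49 zc7) (kc xc23 yc28 zc5) (kc xc29 yc58 zc11) (kc xc30 yc40 zc56) (kc xc32 yc3 zc18) (kc xc32 yc32 zc44) (kc xc21 yc19 zc31) (kc xc31 yc4 zc58) (kc xc21 yc19 zc29) (kc xc30 yc52 zc14) (kc xc21 yc19 zc30) (kc xc24 yc32 zc15) (kc xc32 yc19 zc51) (kc xc31 yc10 zc28) (kc xc21 yc19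 zc46) (kc xc21 yc19 zc49) (kc xc21 yc19 zc48) (kc xc28 yc36 zc23) (kc xc21 yc19 zc50) (kc xc22 yc43 zc13) (kc xc32 yc49 zc13) (kc xc21 yc20 zc0) (kc xc23 yc44 zc29) (kc xc30 yc13 zc3) (kc xc31 yc9 zc31) (kc xc21 yc20 zc1) (kc xc22 yc46 zc0) (kc xc21 yc20 zc10) (kc xc21 yc20 zc18) (kc xc21 yc20 zc21) (kc xc29 yc47 zc49) (kc xc21 yc20 zc41) (kc xc21 yc20 zc49) (kc xc21 yc20 zc53) (kc xc21 yc20 zc56) (kc xc21 yc50 zc19) (kc xc21 yc20 zc61)) (@D3.rec (fun _ => Pt) (kc xc21 yc21 zc0) (kc xc21 yc27 zc51) (kc xc21 yc27 zc22) (kc xc21 yc27 zc23) (kc xc28 yc59 zc27) (kc xc21 yc21 zc9) (kc xc31 yc43 zc39) (kc xc32 yc3 zc6) (kc xc21 yc21 zc21) (kc xc21 yc21 zc22) (kc xc21 yc21 zc23) (kc xc21 yc48 zc50) (kc xc27 yc43 zc21) (kc xc30 yc54 zc0) (kc xc21 yc21 zc25) (kc xc21 yc21 zc50)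 (kc xc31 yc47 zc56) (kc xc21 yc21 zc49) (kc xc30 yc12 zc26) (kc xc21 yc21 zc48) (kc xc21 yc21 zc44) (kc xc31 yc4 zc24) (kc xc27 yc43 zc32) (kc xc23 yc28 zc46) (kc xc30 yc7 zc60) (kc xc21 yc21 zc38) (kc xc21 yc49 zc46) (kc xc23 yc38 zc47) (kc xc21 yc50 zc38) (kc xc23 yc27 zc58) (kc xc32 yc1 zc26) (kc xc26 yc6 zc26) (kc xc21 yc27 zc20) (kc xc29 yc5 zc46) (kc xc31 yc54 zc56) (kc xc21 yc21 zc56) (kc xc32 yc23 zc56) (kc xc31 yc49 zc3) (kc xc31 yc54 zc57) (kc xc25 yc9 zc56) (kc xc31 yc17 zc23) (kc xc30 yc11 zc10) (kc xc31 yc58 zc25) (kc xc32 yc38 zc39) (kc xc25 yc15 zc1) (kc xc31 yc20 zc55) (kc xc21 yc22 zc22) (kc xc30 yc11 zc19) (kc xc29 yc29 zc8) (kc xc30 yc27 zc22) (kc xc29 yc56 zc20) (kc xc26 yc40 zc35) (kc xc21 yc36 zc13) (kc xc24 yc40 zc51) (kc xc21 yc46 zc12) (kc xc27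 yc18 zc55) (kc xc27 yc25 zc57) (kc xc29 yc51 zc48) (kc xc25 yc55 zc42) (kc xc24 yc34 zc24) (kc xc21 yc23 zc32) (kc xc25 yc13 zc14))
def f_c_30 : D2 → D3 → Pt := @D2.rec (fun _ => D3 → Pt) (@D3.rec (fun _ => Pt) (kc xc25 yc42 zc21) (kc xc21 yc23 zc35) (kc xc27 yc56 zc50) (kc xc21 yc23 zc39) (kc xc24 yc19 zc14) (kc xc31 yc57 zc11) (kc xc30 yc14 zc36) (kc xc21 yc51 zc1) (kc xc22 yc22 zc1) (kc xc24 yc44 zc59) (kc xc25 yc44 zc43) (kc xc31 yc41 zc5) (kc xc30 yc17 zc21) (kc xc21 yc24 zc11) (kc xc21 yc24 zc13) (kc xc31 yc50 zc36) (kc xc21 yc24 zc15) (kc xc25 yc22 zc17) (kc xc21 yc24 zc18) (kc xc27 yc39 zc26) (kc xc31 yc6 zc27) (kc xc21 yc24 zc21) (kc xc29 yc57 zc45) (kc xc32 yc48 zc20) (kc xc27 yc4 zc39) (kc xc32 yc4 zc47) (kc xc28 yc11 zc50) (kc xc31 yc34 zc35) (kc xc23 yc58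 zc43) (kc xc23 yc35 zc45) (kc xc21 yc24 zc29) (kc xc30 yc47 zc47) (kc xc24 yc43 zc60) (kc xc29 yc50 zc42) (kc xc27 yc18 zc14) (kc xc21 yc24 zc37) (kc xc21 yc24 zc40) (kc xc21 yc25 zc23) (kc xc31 yc59 zc4) (kc xc31 yc59 zc3) (kc xc31 yc2 zc22) (kc xc24 yc42 zc33) (kc xc30 yc52 zc15) (kc xc30 yc52 zc16) (kc xc30 yc58 zc57) (kc xc21 yc24 zc44) (kc xc21 yc24 zc42) (kc xc21 yc24 zc43) (kc xc31 yc43 zc49) (kc xc21 yc51 zc61) (kc xc32 yc29 zc19) (kc xc25 yc35 zc24) (kc xc21 yc25 zc6) (kc xc22 yc46 zc3) (kc xc32 yc32 zc25) (kc xc21 yc25 zc13) (kc xc32 yc49 zc24) (kc xc22 yc46 zc1) (kc xc22 yc46 zc2) (kc xc22 yc12 zc26) (kc xc22 yc45 zc60) (kc xc22 yc45 zc61)) (@D3.rec (fun _ => Pt) (kc xc27 yc44 zc32) (kc xc27 yc28 zc53) (kc xc21 yc25 zc25) (kc xc21 yc26 zc17) (kc xc21 yc25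 zc28) (kc xc31 yc12 zc22) (kc xc22 yc12 zc17) (kc xc32 yc31 zc4) (kc xc21 yc25 zc34) (kc xc27 yc56 zc51) (kc xc30 yc8 zc34) (kc xc25 yc48 zc33) (kc xc23 yc43 zc19) (kc xc27 yc6 zc13) (kc xc30 yc42 zc35) (kc xc24 yc40 zc44) (kc xc27 yc33 zc11) (kc xc31 yc27 zc32) (kc xc30 yc6 zc23) (kc xc28 yc4 zc7) (kc xc21 yc26 zc19) (kc xc26 yc13 zc29) (kc xc24 yc42 zc39) (kc xc21 yc31 zc23) (kc xc28 yc10 zc15) (kc xc30 yc17 zc3) (kc xc21 yc26 zc61) (kc xc21 yc27 zc1) (kc xc21 yc27 zc2) (kc xc23 yc40 zc27) (kc xc23 yc41 zc31) (kc xc21 yc27 zc13) (kc xc23 yc29 zc34) (kc xc25 yc38 zc34) (kc xc30 yc10 zc9) (kc xc23 yc28 zc4) (kc xc23 yc41 zc44) (kc xc23 yc41 zc0) (kc xc23 yc22 zc18) (kc xc31 yc7 zc35) (kc xc25 yc39 zc4) (kc xc32 yc16 zc21) (kc xc26 yc58 zc59) (kc xc26 yc50 zc40) (kc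 xc32 yc49 zc26) (kc xc31 yc3 zc11) (kc xc27 yc51 zc56) (kc xc21 yc34 zc54) (kc xc26 yc0 zc42) (kc xc21 yc27 zc37) (kc xc21 yc27 zc43) (kc xc27 yc24 zc36) (kc xc32 yc24 zc43) (kc xc32 yc19 zc53) (kc xc21 yc27 zc47) (kc xc30 yc59 zc22) (kc xc21 yc55 zc31) (kc xc21 yc27 zc49) (kc xc27 yc24 zc27) (kc xc26 yc55 zc20) (kc xc21 yc55 zc30) (kc xc22 yc46 zc6)) (@D3.rec (fun _ => Pt) (kc xc25 yc41 zc12) (kc xc23 yc33 zc19) (kc xc22 yc4 zc33) (kc xc27 yc1 zc22) (kc xc23 yc15 zc19) (kc xc23 yc52 zc32) (kc xc23 yc15 zc10) (kc xc21 yc28 zc3) (kc xc23 yc14 zc0) (kc xc21 yc28 zc6) (kc xc21 yc28 zc8) (kc xc28 yc10 zc58) (kc xc21 yc28 zc9) (kc xc32 yc49 zc31) (kc xc23 yc9 zc17) (kc xc21 yc28 zc10) (kc xc23 yc14 zc4) (kc xc26 yc3 zc51) (kc xc29 yc49 zc56) (kc xc29 yc57 zc34) (kc xc21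 yc28 zc12) (kc xc30 yc58 zc24) (kc xc24 yc42 zc53) (kc xc21 yc28 zc14) (kc xc29 yc39 zc4) (kc xc22 yc11 zc45) (kc xc31 yc6 zc37) (kc xc21 yc28 zc23) (kc xc21 yc28 zc22) (kc xc28 yc1 zc49) (kc xc26 yc0 zc44) (kc xc28 yc28 zc45) (kc xc21 yc49 zc61) (kc xc27 yc45 zc2) (kc xc27 yc3 zc34) (kc xc24 yc7 zc3) (kc xc30 yc52 zc58) (kc xc21 yc29 zc39) (kc xc31 yc32 zc6) (kc xc21 yc29 zc8) (kc xc31 yc2 zc29) (kc xc30 yc57 zc49) (kc xc23 yc29 zc52) (kc xc26 yc28 zc18) (kc xc22 yc38 zc5) (kc xc22 yc43 zc19) (kc xc32 yc32 zc13) (kc xc29 yc55 zc13) (kc xc26 yc8 zc38) (kc xc24 yc47 zc30) (kc xc21 yc29 zc24) (kc xc22 yc42 zc41) (kc xc23 yc26 zc12) (kc xc32 yc24 zc49) (kc xc21 yc29 zc29) (kc xc26 yc21 zc41) (kc xc32 yc30 zc8) (kc xc31 yc36 zc24) (kc xc23 yc26 zc8) (kc xc32 yc49 zc27)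 (kc xc23 yc29 zc53) (kc xc30 yc4 zc37)) (@D3.rec (fun _ => Pt) (kc xc32 yc49 zc33) (kc xc23 yc29 zc56) (kc xc26 yc25 zc3) (kc xc26 yc21 zc46) (kc xc29 yc27 zc10) (kc xc21 yc29 zc53) (kc xc24 yc23 zc58) (kc xc21 yc29 zc56) (kc xc21 yc29 zc57) (kc xc26 yc20 zc53) (kc xc29 yc3 zc44) (kc xc21 yc29 zc59) (kc xc30 yc57 zc18) (kc xc29 yc39 zc6) (kc xc26 yc23 zc11) (kc xc21 yc30 zc3) (kc xc30 yc27 zc34) (kc xc32 yc2 zc6) (kc xc21 yc30 zc18) (kc xc25 yc19 zc54) (kc xc29 yc17 zc11) (kc xc28 yc56 zc40) (kc xc28 yc12 zc13) (kc xc22 yc32 zc41) (kc xc31 yc25 zc19) (kc xc30 yc5 zc18) (kc xc25 yc29 zc22) (kc xc21 yc31 zc2) (kc xc21 yc51 zc12) (kc xc23 yc37 zc48) (kc xc26 yc4 zc7) (kc xc23 yc35 zc1) (kc xc26 yc5 zc18) (kc xc32 yc31 zc54) (kc xc31 yc25 zc37) (kc xc28 yc36 zc31) (kc xc21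 yc31 zc33) (kc xc32 yc30 zc34) (kc xc23 yc6 zc24) (kc xc23 yc35 zc58) (kc xc28 yc7 zc3) (kc xc29 yc8 zc8) (kc xc22 yc56 zc29) (kc xc31 yc36 zc51) (kc xc27 yc25 zc60) (kc xc29 yc23 zc31) (kc xc29 yc0 zc35) (kc xc32 yc14 zc39) (kc xc21 yc31 zc60) (kc xc32 yc49 zc41) (kc xc21 yc32 zc2) (kc xc29 yc55 zc60) (kc xc21 yc32 zc8) (kc xc21 yc32 zc9) (kc xc29 yc21 zc47) (kc xc27 yc17 zc28) (kc xc22 yc21 zc22) (kc xc21 yc32 zc27) (kc xc21 yc32 zc28) (kc xc27 yc41 zc57) (kc xc21 yc54 zc4) (kc xc32 yc38 zc42)) (@D3.rec (fun _ => Pt) (kc xc29 yc5 zc48) (kc xc28 yc59 zc0) (kc xc28 yc54 zc60) (kc xc28 yc28 zc44) (kc xc32 yc26 zc49) (kc xc21 yc33 zc3) (kc xc32 yc49 zc42) (kc xc26 yc58 zc60) (kc xc21 yc33 zc9) (kc xc21 yc33 zc18) (kc xc26 yc59 zc17) (kc xc25 yc17 zc6) (kc xc25 yc35 zc14)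 (kc xc21 yc33 zc38) (kc xc23 yc34 zc54) (kc xc29 yc51 zc23) (kc xc30 yc19 zc35) (kc xc31 yc27 zc0) (kc xc22 yc10 zc17) (kc xc21 yc33 zc55) (kc xc31 yc12 zc7) (kc xc23 yc35 zc15) (kc xc26 yc7 zc6) (kc xc21 yc34 zc2) (kc xc25 yc56 zc61) (kc xc21 yc34 zc12) (kc xc27 yc25 zc0) (kc xc27 yc26 zc60) (kc xc27 yc30 zc51) (kc xc32 yc24 zc33) (kc xc21 yc34 zc18) (kc xc31 yc5 zc35) (kc xc29 yc58 zc14) (kc xc29 yc58 zc15) (kc xc23 yc27 zc55) (kc xc29 yc57 zc47) (kc xc30 yc4 zc41) (kc xc30 yc2 zc61) (kc xc21 yc34 zc27) (kc xc29 yc56 zc50) (kc xc25 yc53 zc46) (kc xc30 yc4 zc36) (kc xc25 yc28 zc7) (kc xc30 yc55 zc29) (kc xc21 yc34 zc32) (kc xc29 yc56 zc48) (kc xc21 yc34 zc35) (kc xc22 yc43 zc34) (kc xc24 yc38 zc30) (kc xc24 yc38 zc29) (kc xc28 yc31 zc19) (kc xc21 yc34 zc39) (kc xc32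 yc48 zc8) (kc xc32 yc49 zc50) (kc xc32 yc38 zc15) (kc xc32 yc49 zc51) (kc xc29 yc39 zc40) (kc xc25 yc30 zc11) (kc xc25 yc7 zc28) (kc xc26 yc4 zc9) (kc xc21 yc35 zc9) (kc xc26 yc59 zc9)) (@D3.rec (fun _ => Pt) (kc xc21 yc35 zc18) (kc xc21 yc35 zc21) (kc xc29 yc32 zc52) (kc xc31 yc2 zc52) (kc xc27 yc13 zc31) (kc xc21 yc35 zc27) (kc xc28 yc52 zc7) (kc xc32 yc49 zc55) (kc xc27 yc8 zc61) (kc xc29 yc23 zc18) (kc xc21 yc35 zc40) (kc xc21 yc42 zc38) (kc xc28 yc10 zc23) (kc xc29 yc14 zc9) (kc xc24 yc43 zc18) (kc xc27 yc11 zc6) (kc xc31 yc46 zc37) (kc xc21 yc36 zc11) (kc xc30 yc3 zc25) (kc xc29 yc40 zc43) (kc xc28 yc10 zc24) (kc xc21 yc36 zc51) (kc xc24 yc50 zc34) (kc xc26 yc12 zc35) (kc xc21 yc37 zc5) (kc xc27 yc59 zc60) (kc xc23 yc6 zc60) (kc xc31 yc2 zc37) (kc xc23 yc33 zc43)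 (kc xc30 yc8 zc46) (kc xc28 yc45 zc9) (kc xc23 yc23 zc48) (kc xc32 yc5 zc15) (kc xc31 yc11 zc39) (kc xc29 yc56 zc7) (kc xc22 yc32 zc16) (kc xc21 yc38 zc11) (kc xc24 yc40 zc37) (kc xc21 yc38 zc31) (kc xc32 yc20 zc40) (kc xc32 yc49 zc57) (kc xc24 yc4 zc8) (kc xc30 yc19 zc1) (kc xc21 yc38 zc34) (kc xc30 yc19 zc4) (kc xc32 yc50 zc1) (kc xc23 yc48 zc57) (kc xc27 yc10 zc19) (kc xc27 yc16 zc59) (kc xc27 yc15 zc19) (kc xc32 yc50 zc4) (kc xc30 yc38 zc47) (kc xc28 yc2 zc46) (kc xc21 yc38 zc41) (kc xc32 yc31 zc58) (kc xc21 yc38 zc39) (kc xc21 yc38 zc40) (kc xc27 yc15 zc17) (kc xc21 yc38 zc45) (kc xc27 yc16 zc61) (kc xc30 yc19 zc14) (kc xc24 yc19 zc47)) (@D3.rec (fun _ => Pt) (kc xc21 yc42 zc7) (kc xc31 yc17 zc48) (kc xc21 yc38 zc54) (kc xc29 yc15 zc58) (kc xc31 yc37 zc61) (kc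 xc31 yc37 zc60) (kc xc30 yc6 zc15) (kc xc31 yc47 zc17) (kc xc21 yc39 zc2) (kc xc30 yc53 zc38) (kc xc30 yc55 zc24) (kc xc32 yc50 zc7) (kc xc32 yc50 zc8) (kc xc21 yc39 zc4) (kc xc30 yc10 zc2) (kc xc30 yc6 zc6) (kc xc22 yc29 zc23) (kc xc22 yc17 zc52) (kc xc21 yc58 zc22) (kc xc23 yc36 zc13) (kc xc29 yc18 zc4) (kc xc27 yc48 zc5) (kc xc32 yc6 zc17) (kc xc30 yc1 zc18) (kc xc31 yc20 zc56) (kc xc32 yc0 zc43) (kc xc30 yc8 zc59) (kc xc31 yc25 zc30) (kc xc21 yc39 zc29) (kc xc29 yc53 zc21) (kc xc21 yc39 zc32) (kc xc21 yc39 zc33) (kc xc25 yc13 zc20) (kc xc31 yc9 zc41) (kc xc29 yc41 zc27) (kc xc29 yc41 zc26) (kc xc27 yc18 zc4) (kc xc30 yc55 zc2) (kc xc21 yc39 zc40) (kc xc25 yc34 zc45) (kc xc24 yc27 zc28) (kc xc32 yc8 zc40) (kc xc23 yc21 zc30) (kc xc28 yc17 zc43) (kc xc31 yc53 zc27)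 (kc xc32 yc33 zc1) (kc xc21 yc39 zc48) (kc xc31 yc56 zc9) (kc xc32 yc1 zc15) (kc xc21 yc39 zc50) (kc xc27 yc13 zc17) (kc xc27 yc21 zc19) (kc xc29 yc42 zc60) (kc xc24 yc43 zc32) (kc xc21 yc40 zc4) (kc xc24 yc6 zc12) (kc xc24 yc6 zc23) (kc xc21 yc40 zc9) (kc xc29 yc50 zc1) (kc xc23 yc34 zc36) (kc xc26 yc42 zc14) (kc xc21 yc40 zc21)) (@D3.rec (fun _ => Pt) (kc xc22 yc4 zc49) (kc xc21 yc40 zc24) (kc xc32 yc50 zc15) (kc xc21 yc40 zc27) (kc xc21 yc40 zc33) (kc xc30 yc26 zc8) (kc xc29 yc34 zc29) (kc xc21 yc40 zc40) (kc xc31 yc36 zc47) (kc xc24 yc48 zc54) (kc xc32 yc38 zc34) (kc xc21 yc40 zc50) (kc xc25 yc34 zc35) (kc xc21 yc40 zc51) (kc xc23 yc27 zc20) (kc xc22 yc37 zc45) (kc xc31 yc10 zc26) (kc xc21 yc40 zc58) (kc xc21 yc40 zc59) (kc xc30 yc58 zc59) (kc xc21 yc40 zc60) (kc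 xc30 yc58 zc2) (kc xc23 yc45 zc17) (kc xc23 yc45 zc18) (kc xc21 yc41 zc0) (kc xc30 yc59 zc40) (kc xc26 yc8 zc53) (kc xc30 yc49 zc1) (kc xc30 yc31 zc34) (kc xc21 yc41 zc15) (kc xc27 yc50 zc22) (kc xc23 yc6 zc54) (kc xc30 yc23 zc7) (kc xc32 yc50 zc21) (kc xc30 yc8 zc32) (kc xc32 yc50 zc23) (kc xc22 yc44 zc25) (kc xc29 yc38 zc36) (kc xc23 yc52 zc12) (kc xc24 yc34 zc58) (kc xc21 yc57 zc28) (kc xc27 yc20 zc6) (kc xc30 yc14 zc21) (kc xc21 yc58 zc31) (kc xc27 yc30 zc58) (kc xc30 yc17 zc50) (kc xc27 yc24 zc30) (kc xc21 yc43 zc20) (kc xc21 yc43 zc45) (kc xc21 yc43 zc14) (kc xc31 yc55 zc21) (kc xc21 yc43 zc25) (kc xc25 yc9 zc21) (kc xc28 yc59 zc52) (kc xc30 yc11 zc12) (kc xc29 yc56 zc22) (kc xc32 yc49 zc46) (kc xc30 yc56 zc35) (kc xc29 yc3 zc36) (kc xc30 yc11 zc21) (kc xc29 yc59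 zc24) (kc xc21 yc43 zc32)) (@D3.rec (fun _ => Pt) (kc xc31 yc55 zc4) (kc xc27 yc43 zc25) (kc xc21 yc43 zc50) (kc xc24 yc30 zc5) (kc xc24 yc19 zc32) (kc xc21 yc43 zc47) (kc xc31 yc26 zc40) (kc xc31 yc32 zc27) (kc xc29 yc11 zc30) (kc xc30 yc33 zc13) (kc xc27 yc5 zc54) (kc xc21 yc43 zc58) (kc xc28 yc5 zc6) (kc xc23 yc30 zc52) (kc xc31 yc50 zc44) (kc xc21 yc44 zc32) (kc xc26 yc57 zc16) (kc xc27 yc12 zc29) (kc xc29 yc29 zc25) (kc xc24 yc10 zc30) (kc xc23 yc47 zc6) (kc xc25 yc13 zc12) (kc xc32 yc21 zc43) (kc xc32 yc13 zc2) (kc xc24 yc26 zc16) (kc xc27 yc43 zc28) (kc xc29 yc1 zc1) (kc xc21 yc45 zc26) (kc xc31 yc18 zc44) (kc xc26 yc27 zc52) (kc xc26 yc55 zc10) (kc xc32 yc43 zc0) (kc xc30 yc7 zc34) (kc xc21 yc47 zc35) (kc xc30 yc1 zc10) (kc xc27 yc24 zc33) (kc xc27 yc26 zc37)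 (kc xc22 yc18 zc3) (kc xc21 yc46 zc8) (kc xc24 yc42 zc49) (kc xc22 yc3 zc40) (kc xc21 yc46 zc11) (kc xc26 yc16 zc57) (kc xc21 yc46 zc54) (kc xc25 yc31 zc5) (kc xc21 yc55 zc58) (kc xc30 yc5 zc29) (kc xc25 yc13 zc34) (kc xc25 yc52 zc39) (kc xc25 yc56 zc52) (kc xc21 yc46 zc50) (kc xc24 yc45 zc15) (kc xc24 yc45 zc25) (kc xc22 yc11 zc13) (kc xc28 yc10 zc8) (kc xc21 yc46 zc60) (kc xc27 yc26 zc35) (kc xc21 yc47 zc1) (kc xc21 yc47 zc2) (kc xc30 yc6 zc26) (kc xc25 yc12 zc9) (kc xc29 yc0 zc9)) (@D3.rec (fun _ => Pt) (kc xc29 yc0 zc8) (kc xc23 yc30 zc53) (kc xc23 yc12 zc57) (kc xc31 yc41 zc41) (kc xc29 yc39 zc2) (kc xc27 yc21 zc5) (kc xc21 yc47 zc28) (kc xc21 yc47 zc29) (kc xc21 yc47 zc30) (kc xc32 yc42 zc41) (kc xc29 yc50 zc12) (kc xc23 yc47 zc58) (kc xc25 yc52 zc58) (kc xc24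 yc11 zc26) (kc xc24 yc35 zc35) (kc xc24 yc11 zc25) (kc xc21 yc47 zc52) (kc xc32 yc13 zc57) (kc xc24 yc11 zc22) (kc xc21 yc47 zc57) (kc xc24 yc37 zc27) (kc xc21 yc47 zc60) (kc xc32 yc50 zc29) (kc xc21 yc48 zc2) (kc xc27 yc9 zc2) (kc xc26 yc53 zc22) (kc xc21 yc48 zc6) (kc xc21 yc48 zc7) (kc xc21 yc48 zc15) (kc xc26 yc59 zc53) (kc xc21 yc48 zc61) (kc xc21 yc49 zc0) (kc xc25 yc30 zc44) (kc xc21 yc49 zc26) (kc xc28 yc9 zc48) (kc xc29 yc17 zc35) (kc xc31 yc47 zc9) (kc xc21 yc48 zc25) (kc xc26 yc52 zc5) (kc xc32 yc50 zc33) (kc xc32 yc50 zc32) (kc xc31 yc27 zc55) (kc xc21 yc49 zc15) (kc xc30 yc49 zc18) (kc xc24 yc38 zc2) (kc xc24 yc38 zc1) (kc xc24 yc37 zc10) (kc xc30 yc51 zc27) (kc xc21 yc49 zc10) (kc xc21 yc48 zc35) (kc xc31 yc8 zc12) (kc xc31 yc8 zc11) (kc xc28 yc49 zc28)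 (kc xc21 yc48 zc36) (kc xc30 yc37 zc5) (kc xc21 yc49 zc5) (kc xc21 yc49 zc1) (kc xc28 yc42 zc38) (kc xc23 yc48 zc19) (kc xc32 yc33 zc38) (kc xc23 yc40 zc20) (kc xc24 yc40 zc7)) (@D3.rec (fun _ => Pt) (kc xc22 yc43 zc16) (kc xc23 yc40 zc24) (kc xc30 yc6 zc14) (kc xc21 yc48 zc60) (kc xc32 yc33 zc21) (kc xc32 yc49 zc15) (kc xc23 yc26 zc35) (kc xc25 yc35 zc43) (kc xc23 yc9 zc55) (kc xc30 yc1 zc34) (kc xc31 yc4 zc21) (kc xc31 yc10 zc48) (kc xc31 yc46 zc16) (kc xc21 yc48 zc57) (kc xc31 yc10 zc13) (kc xc31 yc4 zc39) (kc xc31 yc55 zc7) (kc xc31 yc55 zc6) (kc xc26 yc6 zc37) (kc xc32 yc48 zc46) (kc xc23 yc30 zc19) (kc xc30 yc55 zc56) (kc xc21 yc49 zc2) (kc xc32 yc50 zc36) (kc xc30 yc41 zc14) (kc xc30 yc41 zc15) (kc xc21 yc49 zc4) (kc xc30 yc35 zc55) (kc xc24 yc4 zc43) (kc xc29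 yc4 zc10) (kc xc31 yc27 zc56) (kc xc32 yc41 zc59) (kc xc32 yc42 zc28) (kc xc29 yc3 zc31) (kc xc31 yc38 zc4) (kc xc21 yc49 zc18) (kc xc31 yc13 zc23) (kc xc31 yc8 zc61) (kc xc21 yc49 zc19) (kc xc32 yc42 zc8) (kc xc31 yc42 zc24) (kc xc21 yc49 zc20) (kc xc32 yc48 zc61) (kc xc25 yc42 zc2) (kc xc21 yc49 zc27) (kc xc21 yc49 zc22) (kc xc30 yc33 zc4) (kc xc31 yc16 zc47) (kc xc29 yc11 zc9) (kc xc31 yc47 zc23) (kc xc27 yc18 zc42) (kc xc31 yc11 zc36) (kc xc32 yc2 zc32) (kc xc25 yc30 zc41) (kc xc31 yc54 zc27) (kc xc30 yc33 zc10) (kc xc30 yc33 zc11) (kc xc27 yc1 zc53) (kc xc29 yc3 zc52) (kc xc30 yc11 zc25) (kc xc30 yc11 zc26) (kc xc24 yc18 zc11)) (@D3.rec (fun _ => Pt) (kc xc21 yc49 zc41) (kc xc31 yc13 zc47) (kc xc24 yc19 zc46) (kc xc24 yc21 zc10) (kc xc31 yc26 zc3) (kc xc29 yc51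 zc52) (kc xc21 yc50 zc3) (kc xc27 yc27 zc6) (kc xc21 yc50 zc4) (kc xc27 yc27 zc23) (kc xc29 yc59 zc41) (kc xc23 yc21 zc10) (kc xc30 yc7 zc54) (kc xc29 yc49 zc11) (kc xc29 yc43 zc26) (kc xc24 yc2 zc59) (kc xc24 yc2 zc37) (kc xc21 yc50 zc28) (kc xc31 yc9 zc25) (kc xc29 yc59 zc47) (kc xc29 yc11 zc61) (kc xc30 yc7 zc59) (kc xc32 yc10 zc27) (kc xc23 yc37 zc50) (kc xc23 yc30 zc0) (kc xc30 yc10 zc59) (kc xc30 yc10 zc60) (kc xc31 yc39 zc46) (kc xc27 yc38 zc56) (kc xc26 yc59 zc2) (kc xc26 yc59 zc1) (kc xc30 yc36 zc49) (kc xc29 yc18 zc20) (kc xc25 yc52 zc8) (kc xc22 yc4 zc0) (kc xc32 yc47 zc5) (kc xc25 yc49 zc6) (kc xc24 yc30 zc21) (kc xc32 yc47 zc26) (kc xc21 yc52 zc28) (kc xc22 yc32 zc53) (kc xc24 yc25 zc28) (kc xc23 yc55 zc40) (kc xc24 yc3 zc2) (kc xc21 yc52 zc33) (kc xc30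 yc15 zc52) (kc xc22 yc58 zc52) (kc xc29 yc42 zc58) (kc xc24 yc24 zc20) (kc xc29 yc26 zc23) (kc xc21 yc52 zc41) (kc xc22 yc19 zc41) (kc xc22 yc13 zc57) (kc xc32 yc50 zc39) (kc xc24 yc21 zc44) (kc xc21 yc52 zc42) (kc xc23 yc34 zc19) (kc xc23 yc49 zc15) (kc xc22 yc1 zc20) (kc xc21 yc52 zc57) (kc xc22 yc50 zc30) (kc xc21 yc52 zc49)) (@D3.rec (fun _ => Pt) (kc xc23 yc57 zc7) (kc xc32 yc39 zc50) (kc xc22 yc1 zc5) (kc xc21 yc52 zc56) (kc xc31 yc28 zc27) (kc xc28 yc45 zc60) (kc xc32 yc38 zc23) (kc xc23 yc59 zc16) (kc xc23 yc59 zc6) (kc xc32 yc0 zc38) (kc xc23 yc59 zc10) (kc xc32 yc24 zc17) (kc xc32 yc24 zc15) (kc xc31 yc47 zc59) (kc xc32 yc5 zc45) (kc xc21 yc53 zc37) (kc xc21 yc53 zc39) (kc xc21 yc53 zc42) (kc xc21 yc53 zc55) (kc xc21 yc53 zc59) (kc xc21 yc54 zc0) (kc xc21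 yc54 zc3) (kc xc31 yc53 zc26) (kc xc26 yc29 zc40) (kc xc21 yc54 zc9) (kc xc31 yc48 zc27) (kc xc29 yc59 zc18) (kc xc30 yc39 zc32) (kc xc21 yc54 zc17) (kc xc26 yc59 zc41) (kc xc24 yc9 zc27) (kc xc32 yc46 zc33) (kc xc22 yc42 zc28) (kc xc23 yc8 zc54) (kc xc32 yc15 zc54) (kc xc29 yc39 zc13) (kc xc27 yc11 zc34) (kc xc21 yc57 zc18) (kc xc26 yc14 zc15) (kc xc21 yc55 zc6) (kc xc30 yc36 zc60) (kc xc21 yc55 zc10) (kc xc24 yc32 zc7) (kc xc21 yc55 zc13) (kc xc26 yc23 zc39) (kc xc21 yc55 zc14) (kc xc21 yc55 zc16) (kc xc21 yc55 zc19) (kc xc21 yc55 zc20) (kc xc21 yc55 zc21) (kc xc30 yc41 zc9) (kc xc29 yc55 zc18) (kc xc22 yc45 zc16) (kc xc22 yc45 zc17) (kc xc23 yc38 zc17) (kc xc23 yc22 zc24) (kc xc31 yc57 zc57) (kc xc21 yc55 zc36) (kc xc23 yc2 zc55) (kc xc23 yc2 zc56) (kc xc27 yc46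 zc45) (kc xc27 yc1 zc44)) (@D3.rec (fun _ => Pt) (kc xc27 yc17 zc47) (kc xc21 yc55 zc45) (kc xc31 yc1 zc0) (kc xc29 yc58 zc48) (kc xc28 yc3 zc55) (kc xc28 yc4 zc1) (kc xc24 yc55 zc57) (kc xc28 yc0 zc54) (kc xc29 yc55 zc61) (kc xc22 yc31 zc60) (kc xc25 yc41 zc3) (kc xc28 yc42 zc40) (kc xc31 yc56 zc8) (kc xc21 yc55 zc61) (kc xc21 yc56 zc0) (kc xc21 yc56 zc3) (kc xc23 yc30 zc56) (kc xc30 yc13 zc39) (kc xc26 yc3 zc30) (kc xc32 yc50 zc46) (kc xc21 yc56 zc5) (kc xc24 yc31 zc24) (kc xc24 yc58 zc5) (kc xc21 yc56 zc9) (kc xc29 yc0 zc11) (kc xc23 yc19 zc31) (kc xc28 yc43 zc55) (kc xc27 yc3 zc23) (kc xc24 yc31 zc20) (kc xc28 yc28 zc12) (kc xc21 yc56 zc28) (kc xc30 yc58 zc33) (kc xc21 yc56 zc38) (kc xc27 yc57 zc32) (kc xc27 yc57 zc34) (kc xc30 yc17 zc40) (kc xc30 yc17 zc47) (kc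 xc32 yc50 zc49) (kc xc22 yc45 zc54) (kc xc30 yc13 zc17) (kc xc27 yc57 zc18) (kc xc23 yc13 zc43) (kc xc31 yc12 zc55) (kc xc21 yc56 zc61) (kc xc27 yc18 zc24) (kc xc23 yc44 zc50) (kc xc30 yc32 zc43) (kc xc31 yc2 zc23) (kc xc21 yc56 zc49) (kc xc32 yc50 zc53) (kc xc21 yc56 zc51) (kc xc31 yc2 zc19) (kc xc30 yc58 zc23) (kc xc32 yc21 zc4) (kc xc23 yc20 zc37) (kc xc32 yc21 zc3) (kc xc31 yc54 zc36) (kc xc31 yc54 zc58) (kc xc27 yc17 zc56) (kc xc27 yc47 zc28) (kc xc23 yc20 zc27) (kc xc29 yc55 zc4)) (@D3.rec (fun _ => Pt) (kc xc30 yc43 zc60) (kc xc21 yc57 zc5) (kc xc23 yc32 zc2) (kc xc27 yc4 zc37) (kc xc30 yc33 zc52) (kc xc26 yc8 zc52) (kc xc25 yc33 zc15) (kc xc31 yc27 zc42) (kc xc31 yc57 zc26) (kc xc26 yc2 zc44) (kc xc31 yc36 zc46) (kc xc26 yc40 zc41) (kc xc21 yc57 zc51) (kc xc26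 yc36 zc59) (kc xc31 yc35 zc6) (kc xc23 yc7 zc53) (kc xc29 yc26 zc2) (kc xc21 yc58 zc46) (kc xc29 yc3 zc25) (kc xc27 yc11 zc9) (kc xc27 yc18 zc7) (kc xc30 yc7 zc42) (kc xc27 yc3 zc46) (kc xc23 yc7 zc30) (kc xc25 yc47 zc17) (kc xc21 yc58 zc58) (kc xc25 yc40 zc53) (kc xc25 yc38 zc10) (kc xc21 yc59 zc3) (kc xc27 yc27 zc22) (kc xc29 yc13 zc19) (kc xc21 yc59 zc12) (kc xc21 yc59 zc13) (kc xc31 yc54 zc9) (kc xc25 yc12 zc2) (kc xc31 yc41 zc44) (kc xc30 yc0 zc6) (kc xc29 yc13 zc14) (kc xc31 yc41 zc45) (kc xc21 yc59 zc36) (kc xc32 yc49 zc23) (kc xc31 yc48 zc26) (kc xc21 yc59 zc44) (kc xc28 yc11 zc36) (kc xc21 yc59 zc55) (kc xc29 yc33 zc45) (kc xc31 yc23 zc41) (kc xc29 yc45 zc26) (kc xc29 yc40 zc52) (kc xc22 yc0 zc0) (kc xc29 yc45 zc58) (kc xc22 yc0 zc1) (kc xc22 yc19 zc29) (kc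 xc22 yc0 zc4) (kc xc32 yc22 zc55) (kc xc24 yc21 zc45) (kc xc22 yc0 zc17) (kc xc22 yc0 zc8) (kc xc28 yc52 zc42) (kc xc22 yc0 zc14) (kc xc22 yc25 zc18) (kc xc22 yc25 zc24)) (@D3.rec (fun _ => Pt) (kc xc27 yc14 zc16) (kc xc22 yc2 zc26) (kc xc23 yc24 zc34) (kc xc27 yc35 zc60) (kc xc22 yc0 zc19) (kc xc28 yc37 zc22) (kc xc24 yc16 zc23) (kc xc27 yc4 zc3) (kc xc22 yc0 zc31) (kc xc22 yc29 zc50) (kc xc28 yc55 zc43) (kc xc28 yc4 zc44) (kc xc26 yc44 zc55) (kc xc27 yc9 zc12) (kc xc24 yc16 zc43) (kc xc22 yc0 zc43) (kc xc30 yc28 zc14) (kc xc30 yc28 zc15) (kc xc32 yc37 zc16) (kc xc31 yc19 zc49) (kc xc32 yc23 zc9) (kc xc27 yc0 zc30) (kc xc22 yc0 zc46) (kc xc27 yc16 zc4) (kc xc24 yc17 zc9) (kc xc22 yc40 zc57) (kc xc31 yc19 zc48) (kc xc22 yc0 zc49) (kc xc31 yc19 zc45) (kc xc29 yc50 zc4)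 (kc xc29 yc26 zc14) (kc xc24 yc0 zc21) (kc xc28 yc40 zc9) (kc xc22 yc26 zc39) (kc xc24 yc30 zc13) (kc xc31 yc33 zc32) (kc xc22 yc27 zc36) (kc xc22 yc1 zc59) (kc xc25 yc51 zc43) (kc xc22 yc1 zc4) (kc xc31 yc31 zc34) (kc xc27 yc16 zc0) (kc xc24 yc25 zc50) (kc xc32 yc12 zc15) (kc xc22 yc1 zc10) (kc xc22 yc1 zc8) (kc xc31 yc18 zc4) (kc xc22 yc1 zc9) (kc xc28 yc39 zc36) (kc xc27 yc7 zc33) (kc xc32 yc50 zc61) (kc xc25 yc30 zc58) (kc xc30 yc11 zc45) (kc xc29 yc38 zc16) (kc xc30 yc29 zc43) (kc xc28 yc22 zc32) (kc xc22 yc25 zc9) (kc xc22 yc25 zc10) (kc xc27 yc19 zc27) (kc xc22 yc1 zc25) (kc xc22 yc1 zc23) (kc xc32 yc41 zc51)) (@D3.rec (fun _ => Pt) (kc xc28 yc52 zc33) (kc xc22 yc1 zc24) (kc xc32 yc39 zc18) (kc xc29 yc39 zc42) (kc xc22 yc2 zc11) (kc xc22 yc2 zc10) (kc xc22 yc1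 zc29) (kc xc26 yc34 zc17) (kc xc32 yc46 zc51) (kc xc27 yc19 zc7) (kc xc30 yc25 zc51) (kc xc32 yc44 zc36) (kc xc26 yc38 zc53) (kc xc30 yc25 zc52) (kc xc22 yc1 zc32) (kc xc27 yc19 zc17) (kc xc26 yc38 zc39) (kc xc26 yc38 zc45) (kc xc32 yc34 zc5) (kc xc31 yc19 zc0) (kc xc22 yc1 zc35) (kc xc32 yc35 zc32) (kc xc28 yc39 zc35) (kc xc22 yc1 zc39) (kc xc29 yc45 zc60) (kc xc24 yc24 zc31) (kc xc22 yc1 zc40) (kc xc32 yc12 zc25) (kc xc32 yc12 zc26) (kc xc22 yc1 zc47) (kc xc22 yc1 zc45) (kc xc28 yc54 zc41) (kc xc22 yc1 zc46) (kc xc24 yc11 zc38) (kc xc23 yc23 zc32) (kc xc31 yc23 zc53) (kc xc24 yc4 zc58) (kc xc32 yc12 zc53) (kc xc29 yc56 zc15) (kc xc22 yc1 zc58) (kc xc27 yc11 zc29) (kc xc23 yc36 zc21) (kc xc24 yc9 zc60) (kc xc24 yc24 zc41) (kc xc28 yc41 zc53) (kc xc22 yc2 zc7) (kc xc26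 yc1 zc45) (kc xc22 yc2 zc8) (kc xc31 yc51 zc9) (kc xc22 yc2 zc15) (kc xc32 yc25 zc22) (kc xc30 yc55 zc43) (kc xc32 yc2 zc17) (kc xc31 yc53 zc30) (kc xc22 yc2 zc21) (kc xc25 yc59 zc61) (kc xc27 yc14 zc24) (kc xc22 yc2 zc29) (kc xc24 yc43 zc23) (kc xc24 yc43 zc24) (kc xc28 yc28 zc40) (kc xc28 yc28 zc42)) (@D3.rec (fun _ => Pt) (kc xc22 yc3 zc39) (kc xc22 yc2 zc41) (kc xc28 yc43 zc39) (kc xc30 yc1 zc25) (kc xc27 yc11 zc28) (kc xc31 yc37 zc42) (kc xc27 yc14 zc15) (kc xc30 yc55 zc20) (kc xc25 yc7 zc23) (kc xc22 yc3 zc32) (kc xc32 yc17 zc16) (kc xc22 yc3 zc38) (kc xc22 yc3 zc27) (kc xc22 yc3 zc28) (kc xc22 yc3 zc31) (kc xc29 yc47 zc8) (kc xc32 yc45 zc53) (kc xc29 yc47 zc7) (kc xc32 yc37 zc57) (kc xc25 yc30 zc33) (kc xc31 yc27 zc24) (kc xc30 yc0 zc12) (kc xc31 yc22 zc26) (kc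 xc32 yc40 zc0) (kc xc24 yc2 zc19) (kc xc24 yc0 zc51) (kc xc28 yc46 zc26) (kc xc27 yc4 zc21) (kc xc31 yc53 zc10) (kc xc24 yc35 zc13) (kc xc29 yc1 zc16) (kc xc31 yc28 zc31) (kc xc29 yc46 zc24) (kc xc29 yc46 zc25) (kc xc27 yc0 zc42) (kc xc32 yc18 zc36) (kc xc32 yc51 zc7) (kc xc27 yc6 zc34) (kc xc30 yc59 zc31) (kc xc29 yc48 zc8) (kc xc30 yc13 zc35) (kc xc22 yc4 zc30) (kc xc22 yc4 zc38) (kc xc30 yc42 zc32) (kc xc30 yc33 zc28) (kc xc22 yc4 zc40) (kc xc31 yc0 zc60) (kc xc30 yc13 zc36) (kc xc25 yc28 zc15) (kc xc27 yc43 zc18) (kc xc30 yc7 zc45) (kc xc25 yc22 zc1) (kc xc27 yc38 zc21) (kc xc25 yc10 zc38) (kc xc25 yc40 zc49) (kc xc28 yc22 zc61) (kc xc28 yc33 zc23) (kc xc30 yc29 zc58) (kc xc29 yc7 zc33) (kc xc22 yc5 zc24) (kc xc26 yc8 zc15) (kc xc32 yc28 zc12)) (@D3.rec (fun _ =>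 Pt) (kc xc29 yc22 zc5) (kc xc23 yc24 zc48) (kc xc27 yc24 zc12) (kc xc30 yc18 zc8) (kc xc22 yc5 zc30) (kc xc31 yc43 zc43) (kc xc22 yc5 zc36) (kc xc26 yc9 zc51) (kc xc30 yc18 zc3) (kc xc26 yc3 zc45) (kc xc22 yc5 zc45) (kc xc29 yc52 zc13) (kc xc22 yc5 zc57) (kc xc22 yc5 zc59) (kc xc23 yc37 zc28) (kc xc28 yc0 zc37) (kc xc24 yc32 zc9) (kc xc30 yc36 zc48) (kc xc25 yc20 zc45) (kc xc22 yc6 zc17) (kc xc29 yc42 zc21) (kc xc22 yc6 zc20) (kc xc22 yc6 zc31) (kc xc32 yc51 zc9) (kc xc32 yc49 zc61) (kc xc22 yc6 zc37) (kc xc32 yc51 zc11) (kc xc30 yc18 zc57) (kc xc24 yc8 zc53) (kc xc32 yc51 zc13) (kc xc22 yc6 zc43) (kc xc25 yc26 zc27) (kc xc28 yc8 zc34) (kc xc31 yc43 zc27) (kc xc30 yc22 zc12) (kc xc31 yc13 zc28) (kc xc22 yc6 zc51) (kc xc32 yc33 zc13) (kc xc22 yc6 zc54) (kc xc22 yc6 zc55)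 (kc xc22 yc7 zc21) (kc xc29 yc5 zc49) (kc xc24 yc6 zc21) (kc xc32 yc42 zc48) (kc xc23 yc46 zc35) (kc xc28 yc21 zc55) (kc xc26 yc57 zc49) (kc xc22 yc52 zc49) (kc xc22 yc7 zc2) (kc xc24 yc18 zc12) (kc xc22 yc7 zc4) (kc xc27 yc10 zc3) (kc xc31 yc52 zc8) (kc xc22 yc7 zc6) (kc xc29 yc30 zc48) (kc xc32 yc51 zc18) (kc xc22 yc7 zc9) (kc xc30 yc18 zc27) (kc xc22 yc48 zc50) (kc xc31 yc56 zc58) (kc xc22 yc7 zc11) (kc xc32 yc51 zc21)) (@D3.rec (fun _ => Pt) (kc xc22 yc7 zc12) (kc xc30 yc5 zc42) (kc xc22 yc7 zc13) (kc xc27 yc13 zc35) (kc xc30 yc5 zc44) (kc xc31 yc31 zc20) (kc xc28 yc36 zc61) (kc xc22 yc7 zc15) (kc xc27 yc8 zc20) (kc xc22 yc7 zc19) (kc xc31 yc48 zc1) (kc xc27 yc2 zc17) (kc xc27 yc2 zc14) (kc xc27 yc7 zc4) (kc xc30 yc5 zc60) (kc xc31 yc39 zc30) (kc xc28 yc10 zc10)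 (kc xc22 yc7 zc29) (kc xc32 yc51 zc31) (kc xc32 yc20 zc36) (kc xc31 yc27 zc29) (kc xc25 yc19 zc37) (kc xc28 yc58 zc51) (kc xc29 yc41 zc23) (kc xc26 yc58 zc34) (kc xc32 yc0 zc60) (kc xc30 yc32 zc13) (kc xc26 yc40 zc11) (kc xc27 yc4 zc54) (kc xc22 yc8 zc9) (kc xc29 yc17 zc32) (kc xc30 yc58 zc49) (kc xc22 yc8 zc12) (kc xc22 yc8 zc18) (kc xc31 yc51 zc18) (kc xc30 yc4 zc16) (kc xc23 yc56 zc0) (kc xc28 yc50 zc52) (kc xc27 yc22 zc13) (kc xc24 yc40 zc47) (kc xc30 yc22 zc48) (kc xc23 yc50 zc19) (kc xc26 yc20 zc42) (kc xc22 yc29 zc35) (kc xc22 yc9 zc4) (kc xc25 yc38 zc5) (kc xc30 yc43 zc35) (kc xc22 yc9 zc10) (kc xc26 yc0 zc31) (kc xc26 yc26 zc6) (kc xc24 yc7 zc41) (kc xc22 yc9 zc18) (kc xc22 yc57 zc22) (kc xc22 yc9 zc21) (kc xc22 yc57 zc2) (kc xc24 yc35 zc3) (kc xc22 yc9 zc26)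 (kc xc24 yc13 zc36) (kc xc32 yc44 zc6) (kc xc24 yc14 zc0) (kc xc27 yc3 zc40) (kc xc22 yc9 zc39)) (@D3.rec (fun _ => Pt) (kc xc26 yc3 zc7) (kc xc29 yc24 zc1) (kc xc22 yc55 zc52) (kc xc27 yc2 zc7) (kc xc22 yc9 zc48) (kc xc28 yc50 zc21) (kc xc27 yc30 zc37) (kc xc23 yc59 zc2) (kc xc22 yc10 zc13) (kc xc22 yc12 zc12) (kc xc31 yc38 zc25) (kc xc22 yc10 zc18) (kc xc22 yc10 zc19) (kc xc26 yc0 zc12) (kc xc25 yc38 zc7) (kc xc25 yc40 zc11) (kc xc25 yc39 zc61) (kc xc24 yc43 zc36) (kc xc31 yc45 zc19) (kc xc32 yc51 zc32) (kc xc29 yc14 zc2) (kc xc32 yc31 zc50) (kc xc23 yc23 zc22) (kc xc32 yc45 zc36) (kc xc22 yc11 zc19) (kc xc22 yc11 zc23) (kc xc28 yc7 zc7) (kc xc32 yc4 zc42) (kc xc30 yc42 zc22) (kc xc29 yc50 zc59) (kc xc27 yc25 zc54) (kc xc29 yc30 zc27) (kc xc31 yc7 zc37) (kc xc22 yc12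 zc6) (kc xc31 yc7 zc59) (kc xc28 yc49 zc36) (kc xc22 yc12 zc19) (kc xc22 yc12 zc20) (kc xc22 yc12 zc21) (kc xc29 yc12 zc11) (kc xc32 yc7 zc35) (kc xc22 yc12 zc23) (kc xc22 yc12 zc27) (kc xc23 yc52 zc46) (kc xc31 yc15 zc55) (kc xc23 yc48 zc17) (kc xc31 yc22 zc47) (kc xc30 yc34 zc23) (kc xc31 yc12 zc31) (kc xc22 yc12 zc34) (kc xc32 yc45 zc0) (kc xc32 yc43 zc58) (kc xc32 yc47 zc28) (kc xc22 yc12 zc38) (kc xc31 yc13 zc38) (kc xc28 yc13 zc56) (kc xc27 yc10 zc17) (kc xc24 yc10 zc58) (kc xc31 yc13 zc35) (kc xc22 yc26 zc47) (kc xc24 yc44 zc21) (kc xc30 yc35 zc8)) (@D3.rec (fun _ => Pt) (kc xc30 yc33 zc55) (kc xc22 yc12 zc59) (kc xc32 yc27 zc43) (kc xc23 yc12 zc7) (kc xc23 yc12 zc8) (kc xc27 yc43 zc0) (kc xc26 yc24 zc19) (kc xc30 yc56 zc13) (kc xc30 yc56 zc12) (kc xc29 yc0 zc39)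 (kc xc32 yc51 zc37) (kc xc22 yc12 zc60) (kc xc22 yc13 zc0) (kc xc23 yc3 zc39) (kc xc22 yc13 zc2) (kc xc32 yc51 zc40) (kc xc22 yc13 zc6) (kc xc32 yc40 zc27) (kc xc23 yc48 zc33) (kc xc22 yc33 zc22) (kc xc30 yc32 zc26) (kc xc32 yc15 zc40) (kc xc26 yc24 zc41) (kc xc22 yc13 zc14) (kc xc25 yc20 zc60) (kc xc22 yc13 zc15) (kc xc32 yc4 zc24) (kc xc22 yc13 zc17) (kc xc32 yc51 zc44) (kc xc30 yc39 zc38) (kc xc22 yc13 zc18) (kc xc32 yc4 zc19) (kc xc22 yc41 zc35) (kc xc30 yc22 zc56) (kc xc22 yc13 zc27) (kc xc29 yc22 zc33) (kc xc22 yc13 zc20) (kc xc31 yc41 zc13) (kc xc32 yc4 zc25) (kc xc22 yc13 zc21) (kc xc22 yc13 zc22) (kc xc32 yc35 zc58) (kc xc30 yc22 zc52) (kc xc32 yc42 zc49) (kc xc32 yc51 zc49) (kc xc32 yc51 zc50) (kc xc32 yc51 zc46) (kc xc32 yc51 zc47) (kc xc28 yc44 zc50) (kc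 xc22 yc13 zc32) (kc xc22 yc13 zc33) (kc xc22 yc13 zc35) (kc xc22 yc41 zc31) (kc xc30 yc25 zc18) (kc xc22 yc13 zc40) (kc xc32 yc51 zc53) (kc xc22 yc33 zc19) (kc xc22 yc33 zc10) (kc xc22 yc13 zc44) (kc xc22 yc13 zc42) (kc xc32 yc51 zc60) (kc xc32 yc51 zc61)) (@D3.rec (fun _ => Pt) (kc xc32 yc51 zc57) (kc xc32 yc37 zc6) (kc xc32 yc52 zc0) (kc xc32 yc52 zc1) (kc xc32 yc51 zc56) (kc xc24 yc6 zc58) (kc xc32 yc20 zc19) (kc xc22 yc13 zc50) (kc xc32 yc20 zc38) (kc xc32 yc16 zc37) (kc xc32 yc16 zc43) (kc xc22 yc13 zc51) (kc xc30 yc18 zc34) (kc xc29 yc2 zc27) (kc xc31 yc24 zc1) (kc xc31 yc21 zc35) (kc xc22 yc13 zc53) (kc xc30 yc37 zc55) (kc xc30 yc49 zc61) (kc xc31 yc23 zc13) (kc xc22 yc13 zc54) (kc xc24 yc29 zc53) (kc xc22 yc50 zc41) (kc xc31 yc15 zc15) (kc xc32 yc1 zc6) (kc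 xc22 yc13 zc55) (kc xc24 yc29 zc54) (kc xc24 yc21 zc38) (kc xc23 yc51 zc7) (kc xc22 yc58 zc46) (kc xc30 yc37 zc53) (kc xc22 yc14 zc1) (kc xc32 yc16 zc33) (kc xc22 yc14 zc3) (kc xc24 yc2 zc7) (kc xc22 yc14 zc8) (kc xc28 yc33 zc9) (kc xc30 yc32 zc25) (kc xc30 yc37 zc60) (kc xc22 yc14 zc11) (kc xc29 yc39 zc28) (kc xc22 yc14 zc12) (kc xc29 yc8 zc43) (kc xc22 yc40 zc14) (kc xc30 yc36 zc30) (kc xc29 yc35 zc54) (kc xc29 yc36 zc40) (kc xc32 yc17 zc0) (kc xc30 yc19 zc40) (kc xc30 yc36 zc61) (kc xc29 yc43 zc3) (kc xc32 yc40 zc61) (kc xc30 yc21 zc42) (kc xc24 yc17 zc19) (kc xc23 yc44 zc11) (kc xc22 yc37 zc51) (kc xc30 yc21 zc33) (kc xc22 yc14 zc24) (kc xc28 yc32 zc58) (kc xc22 yc14 zc28) (kc xc32 yc39 zc37) (kc xc32 yc51 zc35)) (@D3.rec (fun _ => Pt) (kc xc29 yc34 zc40) (kc xc30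 yc34 zc7) (kc xc22 yc23 zc42) (kc xc22 yc14 zc33) (kc xc22 yc42 zc31) (kc xc23 yc10 zc52) (kc xc32 yc17 zc21) (kc xc30 yc7 zc32) (kc xc28 yc21 zc20) (kc xc23 yc4 zc52) (kc xc32 yc29 zc2) (kc xc31 yc32 zc41) (kc xc24 yc40 zc26) (kc xc27 yc46 zc25) (kc xc30 yc51 zc48) (kc xc31 yc7 zc25) (kc xc25 yc45 zc22) (kc xc26 yc11 zc35) (kc xc22 yc15 zc16) (kc xc32 yc6 zc51) (kc xc22 yc34 zc25) (kc xc22 yc15 zc34) (kc xc32 yc31 zc44) (kc xc22 yc15 zc35) (kc xc29 yc2 zc31) (kc xc25 yc1 zc15) (kc xc25 yc1 zc9) (kc xc24 yc44 zc11) (kc xc22 yc15 zc42) (kc xc28 yc27 zc54) (kc xc32 yc34 zc46) (kc xc22 yc15 zc45) (kc xc32 yc46 zc17) (kc xc24 yc4 zc9) (kc xc22 yc41 zc37) (kc xc28 yc50 zc51) (kc xc22 yc15 zc58) (kc xc24 yc30 zc3) (kc xc22 yc16 zc0) (kc xc31 yc32 zc31) (kc xc22 yc16 zc1)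 (kc xc22 yc58 zc11) (kc xc22 yc16 zc2) (kc xc22 yc16 zc6) (kc xc31 yc22 zc15) (kc xc24 yc26 zc3) (kc xc24 yc26 zc2) (kc xc32 yc44 zc27) (kc xc22 yc55 zc8) (kc xc30 yc50 zc28) (kc xc30 yc51 zc0) (kc xc31 yc13 zc26) (kc xc22 yc16 zc20) (kc xc30 yc46 zc10) (kc xc22 yc16 zc23) (kc xc29 yc42 zc18) (kc xc31 yc48 zc32) (kc xc22 yc16 zc30) (kc xc28 yc38 zc26) (kc xc27 yc53 zc0) (kc xc23 yc11 zc60) (kc xc22 yc16 zc38)) (@D3.rec (fun _ => Pt) (kc xc32 yc52 zc16) (kc xc22 yc16 zc43) (kc xc22 yc20 zc35) (kc xc28 yc35 zc41) (kc xc30 yc43 zc44) (kc xc23 yc10 zc6) (kc xc22 yc47 zc33) (kc xc23 yc23 zc5) (kc xc31 yc17 zc49) (kc xc22 yc16 zc59) (kc xc30 yc56 zc26) (kc xc22 yc22 zc47) (kc xc23 yc18 zc58) (kc xc27 yc54 zc55) (kc xc22 yc17 zc13) (kc xc27 yc55 zc50) (kc xc26 yc42 zc50) (kc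 xc28 yc53 zc18) (kc xc27 yc9 zc47) (kc xc27 yc23 zc56) (kc xc22 yc59 zc56) (kc xc22 yc17 zc15) (kc xc28 yc36 zc25) (kc xc28 yc34 zc46) (kc xc27 yc59 zc44) (kc xc32 yc29 zc27) (kc xc29 yc4 zc40) (kc xc32 yc1 zc22) (kc xc22 yc17 zc24) (kc xc30 yc51 zc24) (kc xc22 yc17 zc27) (kc xc27 yc55 zc55) (kc xc22 yc17 zc32) (kc xc28 yc26 zc37) (kc xc22 yc17 zc36) (kc xc26 yc20 zc22) (kc xc22 yc17 zc35) (kc xc26 yc56 zc26) (kc xc22 yc49 zc21) (kc xc32 yc3 zc19) (kc xc32 yc3 zc20) (kc xc22 yc17 zc45) (kc xc32 yc52 zc18) (kc xc25 yc45 zc38) (kc xc32 yc37 zc55) (kc xc22 yc18 zc2) (kc xc29 yc20 zc38) (kc xc22 yc18 zc7) (kc xc28 yc6 zc18) (kc xc28 yc5 zc13) (kc xc32 yc30 zc20) (kc xc25 yc3 zc11) (kc xc31 yc13 zc5) (kc xc22 yc18 zc56) (kc xc23 yc4 zc39) (kc xc22 yc18 zc17) (kc xc32 yc25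 zc16) (kc xc24 yc54 zc33) (kc xc29 yc38 zc51) (kc xc29 yc7 zc8) (kc xc23 yc7 zc28) (kc xc28 yc12 zc6)) (@D3.rec (fun _ => Pt) (kc xc22 yc18 zc37) (kc xc31 yc33 zc48) (kc xc22 yc29 zc13) (kc xc24 yc55 zc58) (kc xc26 yc17 zc51) (kc xc32 yc5 zc29) (kc xc30 yc31 zc57) (kc xc29 yc20 zc23) (kc xc22 yc18 zc58) (kc xc31 yc12 zc38) (kc xc31 yc12 zc36) (kc xc22 yc35 zc15) (kc xc23 yc15 zc53) (kc xc22 yc18 zc59) (kc xc22 yc18 zc60) (kc xc30 yc35 zc9) (kc xc31 yc12 zc50) (kc xc29 yc30 zc23) (kc xc30 yc21 zc53) (kc xc29 yc40 zc21) (kc xc22 yc19 zc6) (kc xc30 yc39 zc42) (kc xc28 yc52 zc26) (kc xc29 yc44 zc4) (kc xc29 yc45 zc48) (kc xc30 yc25 zc36) (kc xc22 yc19 zc14) (kc xc30 yc25 zc56) (kc xc26 yc35 zc4) (kc xc26 yc35 zc1) (kc xc30 yc25 zc32) (kc xc31 yc19 zc33) (kc xc30 yc25 zc30)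 (kc xc31 yc19 zc32) (kc xc24 yc1 zc8) (kc xc22 yc19 zc19) (kc xc30 yc25 zc25) (kc xc28 yc15 zc9) (kc xc23 yc45 zc50) (kc xc26 yc34 zc52) (kc xc32 yc14 zc35) (kc xc32 yc13 zc10) (kc xc32 yc42 zc52) (kc xc32 yc47 zc27) (kc xc32 yc17 zc9) (kc xc32 yc45 zc9) (kc xc32 yc47 zc46) (kc xc22 yc19 zc34) (kc xc22 yc19 zc33) (kc xc32 yc38 zc61) (kc xc32 yc50 zc56) (kc xc30 yc16 zc10) (kc xc30 yc16 zc13) (kc xc32 yc14 zc2) (kc xc32 yc14 zc3) (kc xc29 yc33 zc3) (kc xc30 yc25 zc27) (kc xc22 yc19 zc39) (kc xc30 yc35 zc47) (kc xc29 yc33 zc25) (kc xc32 yc17 zc2) (kc xc28 yc54 zc51)) (@D3.rec (fun _ => Pt) (kc xc28 yc54 zc58) (kc xc22 yc58 zc49) (kc xc27 yc36 zc2) (kc xc28 yc39 zc49) (kc xc32 yc47 zc17) (kc xc28 yc44 zc38) (kc xc22 yc19 zc53) (kc xc24 yc33 zc8) (kc xc30 yc7 zc5) (kc xc27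 yc29 zc28) (kc xc22 yc19 zc58) (kc xc28 yc52 zc12) (kc xc32 yc29 zc29) (kc xc23 yc57 zc49) (kc xc32 yc18 zc6) (kc xc28 yc50 zc12) (kc xc30 yc43 zc50) (kc xc22 yc20 zc6) (kc xc23 yc49 zc61) (kc xc28 yc5 zc59) (kc xc22 yc20 zc59) (kc xc22 yc20 zc13) (kc xc28 yc46 zc36) (kc xc22 yc20 zc60) (kc xc22 yc20 zc15) (kc xc30 yc56 zc16) (kc xc30 yc50 zc11) (kc xc29 yc0 zc20) (kc xc27 yc51 zc39) (kc xc29 yc53 zc22) (kc xc32 yc26 zc9) (kc xc28 yc50 zc23) (kc xc22 yc20 zc34) (kc xc31 yc30 zc13) (kc xc22 yc57 zc15) (kc xc22 yc20 zc40) (kc xc22 yc20 zc37) (kc xc30 yc49 zc27) (kc xc32 yc42 zc39) (kc xc23 yc0 zc18) (kc xc31 yc29 zc48) (kc xc22 yc54 zc57) (kc xc22 yc20 zc50) (kc xc22 yc20 zc49) (kc xc31 yc22 zc57) (kc xc30 yc43 zc59) (kc xc28 yc23 zc13) (kc xc30 yc43 zc56) (kc xc27 yc3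 zc1) (kc xc28 yc26 zc33) (kc xc24 yc13 zc15) (kc xc32 yc52 zc24) (kc xc27 yc12 zc16) (kc xc22 yc21 zc2) (kc xc22 yc21 zc3) (kc xc26 yc45 zc14) (kc xc22 yc21 zc6) (kc xc24 yc9 zc5) (kc xc22 yc21 zc10) (kc xc22 yc21 zc20) (kc xc29 yc27 zc24) (kc xc29 yc15 zc37)) (@D3.rec (fun _ => Pt) (kc xc30 yc28 zc19) (kc xc31 yc34 zc27) (kc xc22 yc21 zc48) (kc xc22 yc21 zc33) (kc xc29 yc2 zc18) (kc xc28 yc14 zc19) (kc xc31 yc11 zc59) (kc xc22 yc21 zc36) (kc xc32 yc49 zc17) (kc xc32 yc41 zc50) (kc xc26 yc54 zc32) (kc xc24 yc19 zc38) (kc xc29 yc43 zc30) (kc xc26 yc54 zc24) (kc xc29 yc27 zc26) (kc xc22 yc21 zc40) (kc xc29 yc13 zc7) (kc xc29 yc52 zc2) (kc xc26 yc10 zc33) (kc xc31 yc23 zc58) (kc xc31 yc18 zc25) (kc xc31 yc24 zc3) (kc xc29 yc59 zc49) (kc xc23 yc59 zc34) (kc xc24 yc10 zc20)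 (kc xc24 yc4 zc52) (kc xc22 yc22 zc8) (kc xc29 yc8 zc4) (kc xc29 yc8 zc3) (kc xc31 yc18 zc48) (kc xc32 yc11 zc13) (kc xc22 yc22 zc24) (kc xc22 yc22 zc26) (kc xc25 yc18 zc28) (kc xc30 yc3 zc16) (kc xc22 yc22 zc40) (kc xc32 yc7 zc38) (kc xc22 yc49 zc9) (kc xc28 yc49 zc55) (kc xc28 yc58 zc53) (kc xc22 yc22 zc55) (kc xc32 yc32 zc27) (kc xc27 yc41 zc47) (kc xc24 yc13 zc56) (kc xc22 yc23 zc1) (kc xc24 yc39 zc36) (kc xc23 yc1 zc9) (kc xc32 yc11 zc15) (kc xc31 yc19 zc7) (kc xc32 yc41 zc14) (kc xc24 yc11 zc32) (kc xc31 yc18 zc1) (kc xc22 yc54 zc2) (kc xc27 yc43 zc2) (kc xc22 yc23 zc28) (kc xc22 yc23 zc21) (kc xc30 yc52 zc7) (kc xc32 yc28 zc27) (kc xc22 yc35 zc13) (kc xc24 yc57 zc0) (kc xc32 yc47 zc55) (kc xc32 yc50 zc41)) (@D3.rec (fun _ => Pt) (kc xc22 yc23 zc41) (kc xc27 yc0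 zc36) (kc xc32 yc10 zc43) (kc xc22 yc23 zc43) (kc xc32 yc17 zc4) (kc xc30 yc28 zc53) (kc xc22 yc23 zc47) (kc xc22 yc23 zc48) (kc xc31 yc40 zc11) (kc xc32 yc52 zc30) (kc xc22 yc23 zc54) (kc xc26 yc39 zc0) (kc xc24 yc9 zc25) (kc xc24 yc29 zc51) (kc xc30 yc15 zc16) (kc xc30 yc15 zc17) (kc xc22 yc24 zc25) (kc xc24 yc29 zc61) (kc xc30 yc31 zc17) (kc xc30 yc27 zc0) (kc xc22 yc24 zc2) (kc xc26 yc51 zc29) (kc xc22 yc24 zc3) (kc xc32 yc40 zc44) (kc xc32 yc52 zc37) (kc xc22 yc24 zc4) (kc xc22 yc24 zc8) (kc xc30 yc49 zc44) (kc xc22 yc24 zc9) (kc xc31 yc50 zc48) (kc xc30 yc34 zc20) (kc xc27 yc22 zc21) (kc xc23 yc45 zc35) (kc xc22 yc46 zc46) (kc xc22 yc26 zc36) (kc xc22 yc24 zc16) (kc xc26 yc51 zc39) (kc xc31 yc22 zc11) (kc xc29 yc39 zc23) (kc xc30 yc56 zc44) (kc xc22 yc26 zc41)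 (kc xc23 yc55 zc58) (kc xc22 yc24 zc20) (kc xc26 yc57 zc11) (kc xc29 yc38 zc14) (kc xc22 yc24 zc21) (kc xc30 yc31 zc2) (kc xc22 yc24 zc23) (kc xc32 yc20 zc10) (kc xc23 yc51 zc13) (kc xc22 yc24 zc24) (kc xc32 yc20 zc9) (kc xc32 yc37 zc43) (kc xc30 yc28 zc5) (kc xc31 yc19 zc6) (kc xc22 yc24 zc29) (kc xc26 yc34 zc50) (kc xc22 yc24 zc31) (kc xc31 yc19 zc3) (kc xc31 yc20 zc40) (kc xc31 yc19 zc2) (kc xc22 yc24 zc36)) (@D3.rec (fun _ => Pt) (kc xc28 yc24 zc9) (kc xc31 yc18 zc61) (kc xc30 yc30 zc17) (kc xc24 yc29 zc40) (kc xc31 yc12 zc53) (kc xc31 yc19 zc26) (kc xc22 yc24 zc50) (kc xc32 yc16 zc60) (kc xc31 yc24 zc57) (kc xc28 yc48 zc54) (kc xc22 yc24 zc44) (kc xc32 yc47 zc33) (kc xc22 yc24 zc42) (kc xc30 yc52 zc4) (kc xc22 yc24 zc48) (kc xc32 yc52 zc50) (kc xc32 yc16 zc48)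 (kc xc22 yc24 zc49) (kc xc31 yc51 zc51) (kc xc29 yc43 zc18) (kc xc29 yc33 zc40) (kc xc32 yc41 zc11) (kc xc27 yc0 zc43) (kc xc26 yc57 zc32) (kc xc28 yc48 zc61) (kc xc24 yc26 zc51) (kc xc32 yc13 zc35) (kc xc22 yc25 zc2) (kc xc29 yc40 zc42) (kc xc22 yc25 zc12) (kc xc28 yc54 zc27) (kc xc28 yc17 zc38) (kc xc29 yc8 zc19) (kc xc32 yc46 zc41) (kc xc22 yc25 zc28) (kc xc24 yc26 zc33) (kc xc24 yc26 zc27) (kc xc22 yc25 zc20) (kc xc29 yc33 zc8) (kc xc25 yc8 zc52) (kc xc29 yc45 zc0) (kc xc30 yc29 zc56) (kc xc32 yc14 zc8) (kc xc30 yc15 zc54) (kc xc30 yc31 zc28) (kc xc32 yc39 zc49) (kc xc22 yc25 zc36) (kc xc32 yc45 zc10) (kc xc24 yc9 zc53) (kc xc31 yc21 zc1) (kc xc32 yc40 zc12) (kc xc32 yc39 zc0) (kc xc32 yc39 zc1) (kc xc32 yc40 zc15) (kc xc30 yc53 zc4) (kc xc22 yc35 zc38) (kc xc30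 yc29 zc41) (kc xc32 yc21 zc17) (kc xc30 yc17 zc57) (kc xc22 yc25 zc50) (kc xc32 yc13 zc14) (kc xc24 yc47 zc31)) (@D3.rec (fun _ => Pt) (kc xc22 yc25 zc57) (kc xc32 yc18 zc19) (kc xc32 yc40 zc56) (kc xc31 yc26 zc13) (kc xc29 yc40 zc58) (kc xc29 yc37 zc16) (kc xc28 yc40 zc14) (kc xc31 yc47 zc36) (kc xc22 yc26 zc10) (kc xc24 yc26 zc15) (kc xc22 yc26 zc11) (kc xc24 yc25 zc15) (kc xc22 yc26 zc16) (kc xc31 yc17 zc32) (kc xc28 yc52 zc30) (kc xc32 yc46 zc37) (kc xc22 yc26 zc22) (kc xc30 yc29 zc2) (kc xc22 yc26 zc25) (kc xc22 yc40 zc31) (kc xc32 yc52 zc23) (kc xc32 yc47 zc21) (kc xc28 yc39 zc51) (kc xc28 yc51 zc55) (kc xc26 yc39 zc47) (kc xc28 yc51 zc41) (kc xc22 yc26 zc31) (kc xc32 yc52 zc53) (kc xc22 yc26 zc44) (kc xc32 yc45 zc50) (kc xc30 yc54 zc10) (kc xc32 yc52 zc54) (kc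 xc24 yc30 zc15) (kc xc26 yc50 zc4) (kc xc26 yc51 zc53) (kc xc29 yc42 zc50) (kc xc22 yc26 zc48) (kc xc28 yc33 zc10) (kc xc29 yc35 zc14) (kc xc31 yc3 zc24) (kc xc22 yc59 zc18) (kc xc22 yc26 zc61) (kc xc32 yc16 zc31) (kc xc32 yc16 zc32) (kc xc32 yc52 zc58) (kc xc22 yc39 zc50) (kc xc28 yc16 zc26) (kc xc31 yc23 zc10) (kc xc24 yc17 zc23) (kc xc25 yc54 zc5) (kc xc27 yc46 zc38) (kc xc32 yc47 zc31) (kc xc32 yc45 zc39) (kc xc22 yc27 zc18) (kc xc29 yc33 zc58) (kc xc22 yc27 zc22) (kc xc30 yc48 zc40) (kc xc31 yc19 zc18) (kc xc22 yc27 zc24) (kc xc32 yc47 zc60) (kc xc32 yc43 zc2) (kc xc31 yc30 zc34)) (@D3.rec (fun _ => Pt) (kc xc30 yc45 zc16) (kc xc31 yc31 zc11) (kc xc30 yc28 zc46) (kc xc22 yc27 zc32) (kc xc32 yc44 zc13) (kc xc32 yc19 zc36) (kc xc27 yc35 zc57) (kc xc22 yc27 zc29)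 (kc xc32 yc52 zc35) (kc xc22 yc27 zc30) (kc xc32 yc50 zc58) (kc xc22 yc27 zc31) (kc xc22 yc27 zc33) (kc xc22 yc35 zc48) (kc xc23 yc46 zc32) (kc xc22 yc27 zc46) (kc xc31 yc5 zc11) (kc xc30 yc28 zc18) (kc xc31 yc24 zc15) (kc xc30 yc50 zc35) (kc xc32 yc13 zc13) (kc xc22 yc27 zc39) (kc xc29 yc33 zc12) (kc xc24 yc26 zc17) (kc xc24 yc24 zc23) (kc xc22 yc27 zc41) (kc xc23 yc45 zc58) (kc xc24 yc6 zc25) (kc xc30 yc29 zc44) (kc xc32 yc51 zc34) (kc xc22 yc27 zc49) (kc xc30 yc38 zc24) (kc xc22 yc27 zc50) (kc xc32 yc31 zc57) (kc xc30 yc7 zc28) (kc xc23 yc14 zc10) (kc xc22 yc28 zc0) (kc xc30 yc58 zc34) (kc xc30 yc58 zc38) (kc xc30 yc52 zc39) (kc xc27 yc26 zc16) (kc xc23 yc54 zc29) (kc xc22 yc28 zc6) (kc xc23 yc33 zc3) (kc xc31 yc16 zc57) (kc xc22 yc31 zc49) (kc xc27 yc41 zc3) (kc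 xc32 yc53 zc5) (kc xc32 yc22 zc4) (kc xc22 yc28 zc33) (kc xc22 yc28 zc34) (kc xc22 yc28 zc41) (kc xc22 yc28 zc47) (kc xc22 yc49 zc34) (kc xc22 yc29 zc5) (kc xc22 yc29 zc7) (kc xc30 yc45 zc2) (kc xc30 yc25 zc6) (kc xc22 yc50 zc48) (kc xc22 yc29 zc19) (kc xc27 yc47 zc19) (kc xc23 yc6 zc39)) (@D3.rec (fun _ => Pt) (kc xc23 yc55 zc27) (kc xc22 yc29 zc29) (kc xc22 yc29 zc37) (kc xc32 yc44 zc59) (kc xc30 yc55 zc36) (kc xc23 yc17 zc48) (kc xc22 yc29 zc39) (kc xc23 yc17 zc49) (kc xc22 yc29 zc40) (kc xc22 yc29 zc44) (kc xc27 yc55 zc45) (kc xc23 yc32 zc7) (kc xc25 yc2 zc44) (kc xc30 yc19 zc26) (kc xc24 yc53 zc34) (kc xc31 yc13 zc29) (kc xc30 yc49 zc41) (kc xc23 yc48 zc52) (kc xc32 yc45 zc59) (kc xc23 yc48 zc21) (kc xc26 yc49 zc29) (kc xc32 yc18 zc13) (kc xc30 yc37 zc42) (kc xc22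 yc29 zc57) (kc xc31 yc13 zc41) (kc xc30 yc22 zc37) (kc xc30 yc21 zc20) (kc xc29 yc50 zc11) (kc xc22 yc29 zc60) (kc xc32 yc15 zc1) (kc xc32 yc31 zc59) (kc xc22 yc30 zc2) (kc xc30 yc38 zc9) (kc xc30 yc37 zc56) (kc xc31 yc12 zc15) (kc xc32 yc24 zc34) (kc xc22 yc30 zc9) (kc xc23 yc31 zc30) (kc xc31 yc12 zc14) (kc xc27 yc14 zc59) (kc xc26 yc14 zc28) (kc xc22 yc30 zc20) (kc xc31 yc0 zc34) (kc xc30 yc13 zc46) (kc xc23 yc21 zc21) (kc xc22 yc30 zc36) (kc xc31 yc2 zc12) (kc xc22 yc30 zc40) (kc xc32 yc5 zc0) (kc xc22 yc30 zc45) (kc xc22 yc30 zc43) (kc xc22 yc30 zc44) (kc xc23 yc18 zc40) (kc xc23 yc17 zc34) (kc xc23 yc17 zc35) (kc xc28 yc26 zc3) (kc xc25 yc54 zc52) (kc xc31 yc47 zc11) (kc xc22 yc30 zc60) (kc xc22 yc30 zc61) (kc xc22 yc31 zc0) (kc xc31 yc46 zc22)) (@D3.rec (fun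 _ => Pt) (kc xc23 yc12 zc5) (kc xc22 yc31 zc2) (kc xc30 yc55 zc28) (kc xc22 yc59 zc29) (kc xc30 yc10 zc46) (kc xc22 yc31 zc4) (kc xc32 yc1 zc12) (kc xc27 yc15 zc12) (kc xc31 yc49 zc13) (kc xc26 yc47 zc34) (kc xc30 yc10 zc55) (kc xc30 yc10 zc56) (kc xc27 yc1 zc52) (kc xc30 yc8 zc9) (kc xc23 yc31 zc10) (kc xc32 yc8 zc44) (kc xc27 yc58 zc4) (kc xc31 yc54 zc59) (kc xc23 yc15 zc35) (kc xc31 yc54 zc60) (kc xc23 yc19 zc34) (kc xc27 yc1 zc17) (kc xc28 yc12 zc32) (kc xc30 yc36 zc45) (kc xc23 yc3 zc14) (kc xc32 yc34 zc11) (kc xc23 yc54 zc49) (kc xc26 yc9 zc60) (kc xc30 yc17 zc44) (kc xc28 yc13 zc30) (kc xc31 yc0 zc20) (kc xc30 yc52 zc22) (kc xc22 yc31 zc33) (kc xc31 yc9 zc47) (kc xc32 yc53 zc15) (kc xc32 yc53 zc8) (kc xc22 yc31 zc35) (kc xc31 yc49 zc27) (kc xc29 yc12 zc22) (kc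 xc29 yc1 zc45) (kc xc26 yc8 zc10) (kc xc26 yc8 zc16) (kc xc32 yc53 zc16) (kc xc23 yc33 zc8) (kc xc25 yc51 zc23) (kc xc30 yc36 zc53) (kc xc25 yc24 zc8) (kc xc22 yc31 zc57) (kc xc29 yc50 zc40) (kc xc30 yc34 zc60) (kc xc22 yc31 zc58) (kc xc22 yc31 zc59) (kc xc30 yc14 zc4) (kc xc30 yc59 zc50) (kc xc27 yc57 zc60) (kc xc30 yc21 zc0) (kc xc23 yc11 zc31) (kc xc22 yc34 zc1) (kc xc26 yc49 zc2) (kc xc23 yc43 zc50) (kc xc22 yc32 zc23) (kc xc26 yc49 zc30)) (@D3.rec (fun _ => Pt) (kc xc31 yc9 zc18) (kc xc22 yc40 zc39) (kc xc30 yc49 zc2) (kc xc22 yc32 zc36) (kc xc23 yc23 zc47) (kc xc31 yc44 zc22) (kc xc30 yc56 zc28) (kc xc30 yc23 zc1) (kc xc31 yc24 zc2) (kc xc22 yc32 zc58) (kc xc28 yc49 zc3) (kc xc26 yc5 zc34) (kc xc26 yc2 zc28) (kc xc30 yc37 zc28) (kc xc23 yc59 zc37) (kc xc29 yc8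 zc12) (kc xc23 yc59 zc41) (kc xc32 yc40 zc38) (kc xc32 yc40 zc33) (kc xc32 yc52 zc40) (kc xc30 yc28 zc30) (kc xc22 yc33 zc12) (kc xc31 yc51 zc46) (kc xc30 yc20 zc47) (kc xc22 yc33 zc16) (kc xc32 yc53 zc20) (kc xc22 yc33 zc17) (kc xc22 yc33 zc20) (kc xc26 yc21 zc56) (kc xc25 yc18 zc4) (kc xc32 yc53 zc24) (kc xc32 yc39 zc12) (kc xc31 yc40 zc28) (kc xc31 yc51 zc32) (kc xc31 yc37 zc15) (kc xc23 yc12 zc4) (kc xc25 yc27 zc30) (kc xc25 yc50 zc55) (kc xc31 yc26 zc50) (kc xc23 yc59 zc8) (kc xc22 yc33 zc34) (kc xc28 yc18 zc58) (kc xc23 yc0 zc13) (kc xc30 yc50 zc61) (kc xc30 yc45 zc9) (kc xc27 yc49 zc20) (kc xc30 yc56 zc10) (kc xc22 yc33 zc43) (kc xc30 yc36 zc11) (kc xc22 yc49 zc2) (kc xc31 yc11 zc50) (kc xc22 yc33 zc45) (kc xc32 yc27 zc37) (kc xc22 yc33 zc50) (kc xc31 yc58 zc44)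 (kc xc22 yc33 zc52) (kc xc22 yc33 zc54) (kc xc23 yc0 zc1) (kc xc23 yc29 zc31) (kc xc25 yc28 zc5) (kc xc30 yc33 zc49) (kc xc29 yc49 zc60)) (@D3.rec (fun _ => Pt) (kc xc26 yc8 zc44) (kc xc31 yc0 zc5) (kc xc30 yc57 zc38) (kc xc30 yc52 zc21) (kc xc22 yc34 zc9) (kc xc32 yc39 zc52) (kc xc22 yc34 zc11) (kc xc31 yc15 zc40) (kc xc30 yc20 zc61) (kc xc30 yc25 zc15) (kc xc24 yc31 zc11) (kc xc22 yc34 zc19) (kc xc26 yc5 zc21) (kc xc31 yc39 zc6) (kc xc22 yc34 zc28) (kc xc32 yc7 zc19) (kc xc32 yc25 zc56) (kc xc28 yc16 zc54) (kc xc22 yc34 zc41) (kc xc22 yc34 zc40) (kc xc32 yc3 zc53) (kc xc32 yc53 zc29) (kc xc28 yc6 zc4) (kc xc22 yc34 zc47) (kc xc32 yc53 zc30) (kc xc22 yc34 zc49) (kc xc22 yc34 zc55) (kc xc22 yc34 zc52) (kc xc32 yc53 zc33) (kc xc32 yc29 zc10) (kc xc32 yc34 zc45) (kc xc28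 yc5 zc25) (kc xc28 yc6 zc2) (kc xc32 yc29 zc12) (kc xc22 yc34 zc59) (kc xc23 yc51 zc5) (kc xc23 yc28 zc53) (kc xc22 yc35 zc0) (kc xc22 yc34 zc61) (kc xc27 yc34 zc53) (kc xc27 yc49 zc61) (kc xc22 yc40 zc2) (kc xc22 yc35 zc5) (kc xc32 yc48 zc5) (kc xc32 yc53 zc34) (kc xc31 yc30 zc36) (kc xc22 yc35 zc4) (kc xc30 yc25 zc58) (kc xc28 yc8 zc1) (kc xc22 yc35 zc9) (kc xc22 yc35 zc8) (kc xc29 yc54 zc25) (kc xc28 yc25 zc52) (kc xc28 yc38 zc40) (kc xc22 yc35 zc22) (kc xc30 yc10 zc27) (kc xc22 yc39 zc48) (kc xc23 yc52 zc42) (kc xc23 yc52 zc43) (kc xc32 yc49 zc19) (kc xc31 yc27 zc50) (kc xc24 yc8 zc23)) (@D3.rec (fun _ => Pt) (kc xc30 yc49 zc0) (kc xc23 yc27 zc36) (kc xc22 yc35 zc31) (kc xc22 yc35 zc32) (kc xc24 yc9 zc38) (kc xc26 yc36 zc49) (kc xc28 yc5 zc52) (kc xc22 yc35 zc44)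 (kc xc23 yc33 zc32) (kc xc23 yc33 zc31) (kc xc22 yc35 zc47) (kc xc30 yc34 zc48) (kc xc22 yc35 zc50) (kc xc32 yc8 zc6) (kc xc27 yc14 zc20) (kc xc23 yc27 zc17) (kc xc28 yc53 zc16) (kc xc22 yc35 zc54) (kc xc32 yc53 zc37) (kc xc22 yc35 zc56) (kc xc32 yc53 zc38) (kc xc28 yc50 zc20) (kc xc27 yc55 zc44) (kc xc22 yc35 zc61) (kc xc29 yc53 zc25) (kc xc22 yc36 zc1) (kc xc30 yc49 zc32) (kc xc24 yc20 zc59) (kc xc30 yc38 zc32) (kc xc32 yc16 zc34) (kc xc30 yc22 zc44) (kc xc26 yc5 zc20) (kc xc22 yc54 zc12) (kc xc28 yc45 zc46) (kc xc23 yc48 zc45) (kc xc23 yc31 zc61) (kc xc22 yc36 zc32) (kc xc32 yc2 zc13) (kc xc23 yc4 zc27) (kc xc22 yc41 zc12) (kc xc22 yc36 zc35) (kc xc32 yc23 zc21) (kc xc22 yc36 zc37) (kc xc25 yc56 zc57) (kc xc22 yc36 zc40) (kc xc30 yc33 zc23) (kc xc32 yc22 zc48) (kc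 xc32 yc1 zc51) (kc xc30 yc18 zc17) (kc xc30 yc11 zc31) (kc xc25 yc31 zc10) (kc xc22 yc40 zc40) (kc xc24 yc18 zc54) (kc xc30 yc33 zc45) (kc xc25 yc5 zc24) (kc xc29 yc42 zc34) (kc xc22 yc37 zc24) (kc xc24 yc40 zc43) (kc xc23 yc54 zc11) (kc xc22 yc37 zc29) (kc xc30 yc12 zc40) (kc xc30 yc22 zc49)) (@D3.rec (fun _ => Pt) (kc xc22 yc37 zc31) (kc xc22 yc37 zc32) (kc xc29 yc35 zc25) (kc xc24 yc19 zc43) (kc xc22 yc37 zc41) (kc xc30 yc9 zc54) (kc xc22 yc37 zc48) (kc xc24 yc22 zc0) (kc xc24 yc22 zc1) (kc xc22 yc48 zc2) (kc xc22 yc37 zc50) (kc xc31 yc55 zc8) (kc xc31 yc56 zc27) (kc xc25 yc24 zc12) (kc xc23 yc14 zc51) (kc xc22 yc40 zc37) (kc xc31 yc5 zc48) (kc xc22 yc38 zc6) (kc xc27 yc41 zc10) (kc xc22 yc38 zc4) (kc xc31 yc48 zc41) (kc xc27 yc41 zc11) (kc xc29 yc51 zc2) (kc xc26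 yc47 zc55) (kc xc31 yc36 zc26) (kc xc32 yc30 zc12) (kc xc32 yc22 zc34) (kc xc32 yc46 zc31) (kc xc30 yc34 zc13) (kc xc22 yc39 zc35) (kc xc22 yc39 zc36) (kc xc26 yc50 zc37) (kc xc28 yc17 zc44) (kc xc31 yc3 zc44) (kc xc30 yc59 zc9) (kc xc31 yc33 zc56) (kc xc32 yc31 zc5) (kc xc22 yc39 zc5) (kc xc22 yc54 zc41) (kc xc22 yc39 zc10) (kc xc23 yc34 zc5) (kc xc32 yc31 zc56) (kc xc30 yc32 zc22) (kc xc22 yc39 zc18) (kc xc32 yc53 zc44) (kc xc22 yc39 zc20) (kc xc31 yc13 zc14) (kc xc28 yc48 zc14) (kc xc32 yc53 zc45) (kc xc22 yc39 zc22) (kc xc28 yc53 zc21) (kc xc23 yc48 zc43) (kc xc23 yc48 zc44) (kc xc30 yc22 zc30) (kc xc31 yc30 zc37) (kc xc30 yc22 zc17) (kc xc30 yc32 zc33) (kc xc28 yc52 zc47) (kc xc31 yc13 zc45) (kc xc24 yc2 zc4) (kc xc30 yc22 zc38) (kc xc28 yc38 zc38)) (@D3.rec (fun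 _ => Pt) (kc xc31 yc13 zc13) (kc xc23 yc47 zc5) (kc xc31 yc51 zc31) (kc xc32 yc21 zc15) (kc xc23 yc47 zc61) (kc xc22 yc39 zc38) (kc xc32 yc33 zc24) (kc xc28 yc45 zc30) (kc xc32 yc18 zc14) (kc xc30 yc32 zc32) (kc xc24 yc7 zc43) (kc xc22 yc39 zc43) (kc xc22 yc39 zc41) (kc xc32 yc49 zc59) (kc xc22 yc39 zc42) (kc xc22 yc39 zc46) (kc xc22 yc50 zc42) (kc xc22 yc39 zc49) (kc xc32 yc17 zc31) (kc xc22 yc58 zc12) (kc xc26 yc27 zc48) (kc xc29 yc27 zc5) (kc xc23 yc0 zc38) (kc xc31 yc21 zc37) (kc xc30 yc31 zc31) (kc xc32 yc39 zc36) (kc xc32 yc9 zc28) (kc xc29 yc29 zc28) (kc xc32 yc39 zc38) (kc xc24 yc30 zc6) (kc xc22 yc39 zc56) (kc xc32 yc38 zc53) (kc xc30 yc36 zc28) (kc xc27 yc16 zc48) (kc xc27 yc16 zc43) (kc xc23 yc48 zc37) (kc xc31 yc23 zc12) (kc xc22 yc39 zc61) (kc xc29 yc36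 zc57) (kc xc29 yc48 zc18) (kc xc28 yc52 zc58) (kc xc22 yc40 zc6) (kc xc22 yc40 zc7) (kc xc22 yc40 zc11) (kc xc22 yc40 zc9) (kc xc27 yc2 zc15) (kc xc27 yc7 zc11) (kc xc30 yc5 zc51) (kc xc32 yc51 zc30) (kc xc26 yc58 zc23) (kc xc24 yc23 zc44) (kc xc32 yc34 zc48) (kc xc26 yc58 zc6) (kc xc27 yc50 zc59) (kc xc24 yc27 zc60) (kc xc24 yc27 zc61) (kc xc32 yc41 zc16) (kc xc29 yc5 zc23) (kc xc31 yc36 zc25) (kc xc22 yc40 zc43) (kc xc32 yc5 zc8) (kc xc26 yc6 zc0)) (@D3.rec (fun _ => Pt) (kc xc32 yc12 zc12) (kc xc29 yc40 zc15) (kc xc22 yc40 zc46) (kc xc32 yc52 zc26) (kc xc22 yc40 zc49) (kc xc32 yc36 zc29) (kc xc31 yc55 zc29) (kc xc24 yc24 zc32) (kc xc32 yc51 zc1) (kc xc23 yc20 zc23) (kc xc24 yc0 zc31) (kc xc27 yc23 zc61) (kc xc28 yc34 zc11) (kc xc22 yc41 zc23) (kc xc26 yc43 zc8) (kc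 xc23 yc57 zc34) (kc xc30 yc48 zc50) (kc xc31 yc59 zc38) (kc xc32 yc37 zc3) (kc xc26 yc43 zc7) (kc xc32 yc0 zc11) (kc xc29 yc10 zc17) (kc xc22 yc41 zc34) (kc xc32 yc39 zc43) (kc xc32 yc21 zc27) (kc xc27 yc7 zc10) (kc xc31 yc52 zc23) (kc xc32 yc38 zc36) (kc xc24 yc19 zc52) (kc xc23 yc47 zc21) (kc xc26 yc43 zc47) (kc xc32 yc4 zc26) (kc xc30 yc12 zc27) (kc xc31 yc15 zc44) (kc xc27 yc40 zc22) (kc xc22 yc41 zc45) (kc xc31 yc29 zc27) (kc xc28 yc30 zc16) (kc xc30 yc21 zc29) (kc xc30 yc57 zc44) (kc xc22 yc41 zc49) (kc xc32 yc51 zc33) (kc xc30 yc25 zc21) (kc xc32 yc52 zc6) (kc xc22 yc41 zc50) (kc xc32 yc16 zc56) (kc xc32 yc33 zc40) (kc xc32 yc36 zc31) (kc xc22 yc41 zc53) (kc xc25 yc23 zc35) (kc xc22 yc41 zc54) (kc xc31 yc36 zc42) (kc xc32 yc10 zc26) (kc xc23 yc21 zc46) (kc xc23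 yc52 zc36) (kc xc30 yc59 zc53) (kc xc31 yc44 zc3) (kc xc29 yc30 zc2) (kc xc23 yc33 zc59) (kc xc32 yc5 zc13) (kc xc22 yc42 zc23) (kc xc25 yc20 zc38)) (@D3.rec (fun _ => Pt) (kc xc22 yc42 zc38) (kc xc28 yc48 zc41) (kc xc23 yc4 zc3) (kc xc22 yc44 zc29) (kc xc25 yc42 zc42) (kc xc25 yc14 zc59) (kc xc22 yc42 zc55) (kc xc31 yc9 zc43) (kc xc32 yc44 zc52) (kc xc31 yc5 zc9) (kc xc22 yc42 zc57) (kc xc28 yc10 zc34) (kc xc31 yc3 zc37) (kc xc22 yc42 zc58) (kc xc32 yc53 zc61) (kc xc22 yc42 zc59) (kc xc32 yc54 zc3) (kc xc31 yc8 zc35) (kc xc31 yc8 zc34) (kc xc22 yc43 zc0) (kc xc31 yc4 zc46) (kc xc32 yc26 zc16) (kc xc32 yc38 zc52) (kc xc31 yc57 zc45) (kc xc31 yc57 zc42) (kc xc31 yc3 zc23) (kc xc22 yc43 zc10) (kc xc31 yc57 zc22) (kc xc31 yc57 zc21) (kc xc31 yc3 zc22) (kc xc25 yc23 zc25)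 (kc xc22 yc43 zc15) (kc xc27 yc33 zc30) (kc xc32 yc54 zc7) (kc xc32 yc54 zc8) (kc xc29 yc56 zc59) (kc xc22 yc43 zc18) (kc xc30 yc51 zc44) (kc xc27 yc13 zc2) (kc xc31 yc54 zc26) (kc xc22 yc43 zc21) (kc xc27 yc18 zc5) (kc xc32 yc6 zc53) (kc xc32 yc38 zc14) (kc xc23 yc28 zc6) (kc xc22 yc43 zc27) (kc xc28 yc13 zc28) (kc xc32 yc48 zc52) (kc xc22 yc44 zc50) (kc xc31 yc54 zc48) (kc xc32 yc26 zc21) (kc xc22 yc43 zc32) (kc xc29 yc17 zc42) (kc xc22 yc43 zc33) (kc xc30 yc42 zc19) (kc xc22 yc43 zc35) (kc xc29 yc58 zc28) (kc xc23 yc3 zc22) (kc xc23 yc3 zc28) (kc xc29 yc55 zc14) (kc xc31 yc5 zc25) (kc xc31 yc8 zc59)) (@D3.rec (fun _ => Pt) (kc xc27 yc40 zc61) (kc xc22 yc43 zc39) (kc xc31 yc5 zc4) (kc xc29 yc56 zc36) (kc xc29 yc27 zc61) (kc xc22 yc43 zc49) (kc xc31 yc2 zc49) (kc xc32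 yc30 zc43) (kc xc32 yc27 zc60) (kc xc30 yc12 zc50) (kc xc22 yc44 zc5) (kc xc32 yc54 zc13) (kc xc23 yc41 zc14) (kc xc23 yc41 zc55) (kc xc30 yc10 zc24) (kc xc30 yc10 zc25) (kc xc30 yc41 zc49) (kc xc31 yc47 zc19) (kc xc32 yc36 zc58) (kc xc23 yc39 zc37) (kc xc32 yc42 zc3) (kc xc31 yc9 zc33) (kc xc31 yc11 zc5) (kc xc22 yc44 zc15) (kc xc27 yc56 zc30) (kc xc22 yc44 zc16) (kc xc32 yc54 zc16) (kc xc22 yc44 zc17) (kc xc32 yc30 zc6) (kc xc31 yc3 zc0) (kc xc22 yc44 zc21) (kc xc31 yc10 zc0) (kc xc22 yc44 zc19) (kc xc32 yc54 zc20) (kc xc32 yc28 zc58) (kc xc32 yc26 zc46) (kc xc22 yc44 zc20) (kc xc26 yc6 zc61) (kc xc31 yc57 zc29) (kc xc22 yc44 zc26) (kc xc32 yc39 zc11) (kc xc22 yc44 zc28) (kc xc23 yc40 zc5) (kc xc22 yc44 zc31) (kc xc29 yc11 zc59) (kc xc22 yc44 zc34) (kc xc23 yc29 zc47)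 (kc xc23 yc29 zc46) (kc xc32 yc54 zc21) (kc xc30 yc41 zc16) (kc xc29 yc41 zc48) (kc xc22 yc44 zc38) (kc xc31 yc54 zc54) (kc xc27 yc35 zc15) (kc xc31 yc54 zc55) (kc xc23 yc39 zc52) (kc xc23 yc39 zc19) (kc xc24 yc37 zc9) (kc xc22 yc44 zc44) (kc xc22 yc44 zc42) (kc xc30 yc42 zc0) (kc xc31 yc2 zc15)) (@D3.rec (fun _ => Pt) (kc xc30 yc41 zc60) (kc xc26 yc8 zc6) (kc xc32 yc54 zc22) (kc xc23 yc42 zc60) (kc xc24 yc42 zc37) (kc xc24 yc42 zc38) (kc xc25 yc30 zc8) (kc xc22 yc44 zc53) (kc xc32 yc26 zc56) (kc xc22 yc44 zc54) (kc xc32 yc44 zc15) (kc xc31 yc4 zc3) (kc xc22 yc44 zc56) (kc xc29 yc11 zc6) (kc xc25 yc42 zc57) (kc xc22 yc45 zc2) (kc xc25 yc42 zc19) (kc xc32 yc49 zc18) (kc xc22 yc45 zc5) (kc xc30 yc40 zc54) (kc xc32 yc54 zc23) (kc xc24 yc42 zc36) (kc xc30 yc20 zc28) (kc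 xc29 yc56 zc39) (kc xc23 yc28 zc52) (kc xc22 yc45 zc28) (kc xc31 yc44 zc47) (kc xc23 yc37 zc29) (kc xc23 yc37 zc30) (kc xc23 yc24 zc58) (kc xc23 yc24 zc54) (kc xc23 yc1 zc60) (kc xc30 yc17 zc43) (kc xc26 yc48 zc11) (kc xc22 yc45 zc47) (kc xc30 yc1 zc14) (kc xc22 yc45 zc57) (kc xc22 yc45 zc58) (kc xc23 yc33 zc17) (kc xc31 yc16 zc30) (kc xc24 yc52 zc4) (kc xc28 yc3 zc53) (kc xc28 yc13 zc37) (kc xc23 yc37 zc13) (kc xc25 yc16 zc20) (kc xc26 yc7 zc21) (kc xc23 yc21 zc24) (kc xc22 yc46 zc9) (kc xc23 yc32 zc48) (kc xc23 yc14 zc42) (kc xc22 yc46 zc25) (kc xc22 yc46 zc33) (kc xc22 yc46 zc40) (kc xc32 yc18 zc60) (kc xc27 yc0 zc26) (kc xc22 yc58 zc50) (kc xc22 yc46 zc54) (kc xc32 yc13 zc52) (kc xc23 yc5 zc18) (kc xc29 yc34 zc32) (kc xc29 yc53 zc36) (kc xc32 yc45 zc12)) (@D3.rec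 (fun _ => Pt) (kc xc22 yc47 zc6) (kc xc31 yc29 zc20) (kc xc31 yc25 zc0) (kc xc32 yc39 zc28) (kc xc23 yc13 zc53) (kc xc26 yc55 zc11) (kc xc30 yc56 zc18) (kc xc22 yc47 zc16) (kc xc23 yc56 zc20) (kc xc29 yc22 zc51) (kc xc22 yc47 zc36) (kc xc32 yc22 zc19) (kc xc29 yc52 zc40) (kc xc22 yc47 zc45) (kc xc27 yc3 zc4) (kc xc28 yc23 zc29) (kc xc22 yc47 zc48) (kc xc23 yc18 zc27) (kc xc22 yc47 zc54) (kc xc22 yc47 zc52) (kc xc22 yc47 zc56) (kc xc22 yc47 zc57) (kc xc22 yc47 zc58) (kc xc22 yc56 zc34) (kc xc23 yc10 zc11) (kc xc24 yc6 zc34) (kc xc22 yc48 zc4) (kc xc23 yc9 zc60) (kc xc24 yc6 zc45) (kc xc22 yc48 zc14) (kc xc29 yc11 zc44) (kc xc22 yc48 zc17) (kc xc31 yc39 zc13) (kc xc22 yc55 zc27) (kc xc22 yc55 zc28) (kc xc30 yc19 zc46) (kc xc22 yc55 zc5) (kc xc22 yc55 zc6) (kc xc22 yc48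 zc23) (kc xc31 yc16 zc1) (kc xc23 yc16 zc14) (kc xc24 yc7 zc28) (kc xc26 yc31 zc10) (kc xc29 yc50 zc39) (kc xc30 yc24 zc4) (kc xc22 yc48 zc33) (kc xc28 yc20 zc44) (kc xc26 yc29 zc13) (kc xc29 yc55 zc16) (kc xc28 yc22 zc58) (kc xc30 yc26 zc16) (kc xc22 yc48 zc39) (kc xc29 yc7 zc51) (kc xc28 yc36 zc17) (kc xc22 yc48 zc48) (kc xc31 yc35 zc43) (kc xc30 yc26 zc47) (kc xc32 yc52 zc10) (kc xc22 yc48 zc56) (kc xc30 yc26 zc45) (kc xc30 yc14 zc0) (kc xc22 yc48 zc59)) (@D3.rec (fun _ => Pt) (kc xc31 yc17 zc47) (kc xc24 yc6 zc43) (kc xc22 yc48 zc60) (kc xc24 yc53 zc27) (kc xc23 yc10 zc0) (kc xc26 yc49 zc58) (kc xc28 yc32 zc50) (kc xc28 yc17 zc7) (kc xc27 yc59 zc46) (kc xc30 yc54 zc50) (kc xc26 yc55 zc31) (kc xc32 yc3 zc1) (kc xc24 yc29 zc0) (kc xc22 yc49 zc25) (kc xc32 yc9 zc40)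 (kc xc25 yc46 zc58) (kc xc28 yc57 zc1) (kc xc28 yc21 zc22) (kc xc31 yc30 zc25) (kc xc22 yc54 zc49) (kc xc25 yc1 zc18) (kc xc28 yc3 zc48) (kc xc26 yc19 zc5) (kc xc22 yc49 zc41) (kc xc22 yc49 zc42) (kc xc26 yc19 zc11) (kc xc28 yc4 zc20) (kc xc31 yc35 zc22) (kc xc22 yc49 zc45) (kc xc29 yc20 zc56) (kc xc28 yc12 zc3) (kc xc32 yc8 zc61) (kc xc28 yc12 zc2) (kc xc22 yc51 zc52) (kc xc27 yc47 zc18) (kc xc25 yc3 zc42) (kc xc26 yc13 zc50) (kc xc26 yc7 zc25) (kc xc29 yc30 zc24) (kc xc28 yc22 zc4) (kc xc22 yc50 zc2) (kc xc26 yc32 zc37) (kc xc22 yc50 zc4) (kc xc28 yc16 zc7) (kc xc32 yc36 zc59) (kc xc30 yc47 zc48) (kc xc22 yc50 zc17) (kc xc31 yc27 zc12) (kc xc22 yc50 zc16) (kc xc26 yc29 zc18) (kc xc28 yc25 zc35) (kc xc32 yc38 zc17) (kc xc32 yc54 zc30) (kc xc22 yc50 zc19) (kc xc22 yc50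 zc21) (kc xc22 yc50 zc34) (kc xc32 yc29 zc42) (kc xc29 yc29 zc34) (kc xc22 yc50 zc24) (kc xc31 yc37 zc14) (kc xc32 yc29 zc47) (kc xc22 yc50 zc25)) (@D3.rec (fun _ => Pt) (kc xc32 yc53 zc46) (kc xc32 yc54 zc32) (kc xc30 yc31 zc56) (kc xc22 yc50 zc33) (kc xc28 yc56 zc11) (kc xc31 yc13 zc6) (kc xc22 yc50 zc37) (kc xc32 yc51 zc58) (kc xc22 yc50 zc40) (kc xc30 yc34 zc44) (kc xc31 yc23 zc9) (kc xc22 yc50 zc43) (kc xc27 yc38 zc0) (kc xc23 yc4 zc49) (kc xc29 yc15 zc25) (kc xc30 yc47 zc21) (kc xc30 yc31 zc0) (kc xc27 yc9 zc15) (kc xc31 yc23 zc46) (kc xc27 yc9 zc17) (kc xc31 yc26 zc30) (kc xc22 yc50 zc56) (kc xc27 yc54 zc26) (kc xc26 yc31 zc34) (kc xc32 yc41 zc26) (kc xc27 yc58 zc18) (kc xc32 yc29 zc38) (kc xc32 yc28 zc28) (kc xc26 yc27 zc20) (kc xc31 yc10 zc45) (kc xc31 yc48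 zc36) (kc xc22 yc50 zc60) (kc xc25 yc34 zc14) (kc xc31 yc22 zc27) (kc xc30 yc49 zc42) (kc xc22 yc51 zc14) (kc xc25 yc18 zc42) (kc xc25 yc18 zc43) (kc xc22 yc51 zc43) (kc xc22 yc51 zc44) (kc xc22 yc51 zc27) (kc xc23 yc33 zc52) (kc xc24 yc55 zc34) (kc xc30 yc46 zc0) (kc xc22 yc51 zc33) (kc xc22 yc51 zc36) (kc xc28 yc21 zc31) (kc xc32 yc28 zc51) (kc xc29 yc55 zc36) (kc xc23 yc7 zc8) (kc xc28 yc21 zc2) (kc xc30 yc54 zc8) (kc xc29 yc42 zc16) (kc xc32 yc10 zc2) (kc xc29 yc20 zc58) (kc xc31 yc42 zc30) (kc xc27 yc48 zc59) (kc xc29 yc53 zc57) (kc xc24 yc54 zc23) (kc xc22 yc51 zc56) (kc xc22 yc51 zc60) (kc xc31 yc47 zc12)) (@D3.rec (fun _ => Pt) (kc xc30 yc45 zc43) (kc xc28 yc17 zc3) (kc xc31 yc43 zc23) (kc xc22 yc52 zc17) (kc xc22 yc52 zc14) (kc xc31 yc34 zc51) (kc xc22 yc52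 zc16) (kc xc27 yc14 zc58) (kc xc28 yc50 zc39) (kc xc28 yc38 zc15) (kc xc30 yc23 zc53) (kc xc24 yc17 zc53) (kc xc22 yc52 zc31) (kc xc23 yc15 zc23) (kc xc24 yc45 zc58) (kc xc22 yc52 zc34) (kc xc30 yc54 zc30) (kc xc22 yc52 zc37) (kc xc27 yc23 zc52) (kc xc29 yc24 zc11) (kc xc29 yc53 zc18) (kc xc30 yc53 zc56) (kc xc32 yc51 zc17) (kc xc26 yc32 zc2) (kc xc25 yc24 zc52) (kc xc30 yc54 zc53) (kc xc24 yc6 zc38) (kc xc25 yc18 zc30) (kc xc23 yc0 zc3) (kc xc22 yc53 zc1) (kc xc29 yc28 zc22) (kc xc26 yc44 zc2) (kc xc23 yc53 zc41) (kc xc30 yc50 zc43) (kc xc26 yc56 zc0) (kc xc31 yc15 zc48) (kc xc23 yc10 zc13) (kc xc31 yc22 zc60) (kc xc23 yc10 zc12) (kc xc30 yc48 zc51) (kc xc31 yc22 zc61) (kc xc27 yc41 zc60) (kc xc24 yc6 zc6) (kc xc24 yc7 zc0) (kc xc22 yc53 zc11) (kc xc27 yc23 zc53) (kc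 xc30 yc49 zc25) (kc xc23 yc53 zc39) (kc xc27 yc42 zc41) (kc xc30 yc54 zc43) (kc xc22 yc53 zc27) (kc xc22 yc53 zc28) (kc xc31 yc28 zc4) (kc xc27 yc50 zc52) (kc xc24 yc29 zc23) (kc xc23 yc7 zc48) (kc xc23 yc18 zc24) (kc xc22 yc53 zc39) (kc xc27 yc15 zc46) (kc xc22 yc53 zc42) (kc xc22 yc53 zc41) (kc xc32 yc1 zc24)) (@D3.rec (fun _ => Pt) (kc xc27 yc3 zc16) (kc xc22 yc53 zc43) (kc xc22 yc53 zc44) (kc xc23 yc18 zc48) (kc xc23 yc18 zc49) (kc xc25 yc3 zc0) (kc xc22 yc53 zc46) (kc xc22 yc53 zc52) (kc xc22 yc53 zc55) (kc xc26 yc44 zc57) (kc xc29 yc3 zc51) (kc xc28 yc50 zc49) (kc xc29 yc32 zc12) (kc xc31 yc3 zc34) (kc xc22 yc57 zc20) (kc xc27 yc14 zc32) (kc xc23 yc52 zc50) (kc xc22 yc54 zc6) (kc xc32 yc15 zc16) (kc xc30 yc53 zc50) (kc xc25 yc36 zc3) (kc xc30 yc45 zc15) (kc xc30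 yc50 zc1) (kc xc31 yc22 zc51) (kc xc30 yc49 zc5) (kc xc29 yc7 zc58) (kc xc25 yc46 zc57) (kc xc26 yc11 zc1) (kc xc22 yc54 zc26) (kc xc32 yc0 zc17) (kc xc28 yc47 zc33) (kc xc26 yc29 zc37) (kc xc22 yc54 zc42) (kc xc24 yc29 zc15) (kc xc22 yc54 zc43) (kc xc31 yc16 zc35) (kc xc22 yc54 zc45) (kc xc24 yc14 zc10) (kc xc24 yc14 zc6) (kc xc22 yc54 zc47) (kc xc32 yc29 zc21) (kc xc31 yc45 zc53) (kc xc31 yc0 zc21) (kc xc22 yc54 zc60) (kc xc31 yc35 zc61) (kc xc31 yc5 zc2) (kc xc32 yc38 zc51) (kc xc30 yc0 zc31) (kc xc30 yc44 zc45) (kc xc26 yc22 zc13) (kc xc24 yc41 zc49) (kc xc29 yc18 zc40) (kc xc31 yc18 zc46) (kc xc22 yc55 zc11) (kc xc22 yc55 zc10) (kc xc32 yc1 zc50) (kc xc22 yc55 zc12) (kc xc29 yc41 zc55) (kc xc23 yc8 zc35) (kc xc32 yc9 zc59) (kc xc25 yc54 zc11) (kc xc32 yc53 zc40))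 (@D3.rec (fun _ => Pt) (kc xc22 yc55 zc33) (kc xc24 yc33 zc42) (kc xc22 yc55 zc38) (kc xc23 yc8 zc44) (kc xc23 yc8 zc45) (kc xc30 yc57 zc1) (kc xc22 yc55 zc60) (kc xc27 yc42 zc22) (kc xc22 yc55 zc45) (kc xc31 yc53 zc29) (kc xc24 yc9 zc20) (kc xc22 yc55 zc57) (kc xc31 yc39 zc35) (kc xc28 yc4 zc45) (kc xc28 yc19 zc60) (kc xc32 yc10 zc1) (kc xc24 yc59 zc44) (kc xc23 yc16 zc12) (kc xc26 yc31 zc9) (kc xc24 yc59 zc29) (kc xc22 yc56 zc3) (kc xc32 yc24 zc45) (kc xc32 yc33 zc22) (kc xc23 yc5 zc15) (kc xc22 yc56 zc6) (kc xc31 yc48 zc50) (kc xc25 yc57 zc43) (kc xc25 yc0 zc49) (kc xc23 yc9 zc31) (kc xc22 yc56 zc11) (kc xc25 yc3 zc30) (kc xc31 yc6 zc24) (kc xc23 yc44 zc37) (kc xc22 yc56 zc18) (kc xc32 yc40 zc1) (kc xc22 yc56 zc19) (kc xc32 yc40 zc2) (kc xc22 yc56 zc21) (kc xc32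 yc40 zc20) (kc xc29 yc49 zc8) (kc xc30 yc30 zc56) (kc xc22 yc56 zc26) (kc xc32 yc19 zc6) (kc xc32 yc19 zc7) (kc xc26 yc39 zc28) (kc xc23 yc47 zc3) (kc xc23 yc8 zc60) (kc xc28 yc56 zc29) (kc xc22 yc56 zc37) (kc xc24 yc3 zc28) (kc xc30 yc39 zc16) (kc xc30 yc46 zc39) (kc xc29 yc46 zc61) (kc xc22 yc56 zc41) (kc xc31 yc21 zc50) (kc xc29 yc49 zc3) (kc xc27 yc58 zc23) (kc xc32 yc19 zc0) (kc xc26 yc17 zc59) (kc xc32 yc19 zc3) (kc xc22 yc56 zc46) (kc xc32 yc27 zc5)) (@D3.rec (fun _ => Pt) (kc xc30 yc36 zc0) (kc xc30 yc7 zc27) (kc xc30 yc34 zc2) (kc xc23 yc57 zc37) (kc xc23 yc57 zc38) (kc xc30 yc47 zc24) (kc xc22 yc56 zc61) (kc xc24 yc27 zc9) (kc xc22 yc57 zc6) (kc xc22 yc57 zc8) (kc xc22 yc57 zc10) (kc xc29 yc21 zc38) (kc xc24 yc27 zc55) (kc xc22 yc57 zc17) (kc xc24 yc23 zc45)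 (kc xc26 yc45 zc17) (kc xc27 yc12 zc61) (kc xc31 yc13 zc8) (kc xc30 yc9 zc43) (kc xc25 yc33 zc8) (kc xc26 yc51 zc7) (kc xc27 yc51 zc1) (kc xc22 yc57 zc30) (kc xc22 yc57 zc33) (kc xc31 yc0 zc9) (kc xc30 yc46 zc46) (kc xc22 yc57 zc40) (kc xc30 yc26 zc37) (kc xc23 yc0 zc4) (kc xc29 yc55 zc37) (kc xc29 yc53 zc8) (kc xc28 yc4 zc26) (kc xc30 yc36 zc26) (kc xc23 yc54 zc18) (kc xc32 yc22 zc49) (kc xc32 yc24 zc46) (kc xc24 yc20 zc54) (kc xc23 yc54 zc23) (kc xc24 yc53 zc30) (kc xc31 yc15 zc41) (kc xc23 yc57 zc51) (kc xc30 yc32 zc16) (kc xc30 yc45 zc34) (kc xc32 yc54 zc27) (kc xc30 yc28 zc27) (kc xc29 yc35 zc39) (kc xc22 yc58 zc15) (kc xc29 yc54 zc43) (kc xc32 yc30 zc27) (kc xc22 yc58 zc6) (kc xc32 yc33 zc39) (kc xc32 yc49 zc60) (kc xc32 yc49 zc58) (kc xc22 yc58 zc7) (kc xc24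 yc5 zc43) (kc xc29 yc37 zc43) (kc xc32 yc46 zc15) (kc xc32 yc1 zc41) (kc xc22 yc58 zc9) (kc xc24 yc6 zc56) (kc xc32 yc54 zc52) (kc xc30 yc22 zc18)) (@D3.rec (fun _ => Pt) (kc xc22 yc59 zc25) (kc xc30 yc47 zc22) (kc xc31 yc30 zc52) (kc xc22 yc58 zc14) (kc xc28 yc5 zc54) (kc xc31 yc2 zc46) (kc xc31 yc3 zc36) (kc xc25 yc46 zc41) (kc xc23 yc59 zc42) (kc xc22 yc58 zc31) (kc xc27 yc49 zc23) (kc xc30 yc26 zc26) (kc xc32 yc22 zc24) (kc xc23 yc33 zc33) (kc xc23 yc53 zc22) (kc xc31 yc12 zc54) (kc xc23 yc59 zc43) (kc xc22 yc58 zc43) (kc xc22 yc58 zc53) (kc xc31 yc25 zc51) (kc xc22 yc58 zc47) (kc xc32 yc34 zc8) (kc xc22 yc59 zc1) (kc xc25 yc32 zc57) (kc xc32 yc8 zc31) (kc xc26 yc49 zc21) (kc xc22 yc59 zc9) (kc xc22 yc59 zc10) (kc xc30 yc23 zc49) (kc xc24 yc5 zc41) (kc xc32 yc52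 zc5) (kc xc32 yc46 zc20) (kc xc22 yc59 zc15) (kc xc32 yc54 zc55) (kc xc28 yc35 zc50) (kc xc30 yc31 zc19) (kc xc32 yc54 zc45) (kc xc22 yc59 zc20) (kc xc24 yc6 zc52) (kc xc24 yc5 zc32) (kc xc22 yc59 zc22) (kc xc29 yc52 zc41) (kc xc24 yc6 zc59) (kc xc30 yc46 zc33) (kc xc31 yc33 zc37) (kc xc22 yc59 zc27) (kc xc30 yc53 zc32) (kc xc22 yc59 zc30) (kc xc29 yc12 zc5) (kc xc29 yc23 zc52) (kc xc29 yc36 zc47) (kc xc29 yc0 zc40) (kc xc31 yc13 zc22) (kc xc23 yc0 zc8) (kc xc25 yc53 zc38) (kc xc25 yc58 zc57) (kc xc22 yc59 zc50) (kc xc22 yc59 zc53) (kc xc25 yc24 zc42) (kc xc27 yc41 zc52) (kc xc30 yc53 zc12) (kc xc30 yc34 zc43)) (@D3.rec (fun _ => Pt) (kc xc30 yc23 zc50) (kc xc32 yc31 zc31) (kc xc29 yc18 zc52) (kc xc29 yc18 zc53) (kc xc31 yc55 zc53) (kc xc29 yc1 zc33) (kc xc23 yc54 zc17)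 (kc xc23 yc0 zc21) (kc xc32 yc2 zc11) (kc xc30 yc51 zc32) (kc xc25 yc36 zc15) (kc xc30 yc57 zc6) (kc xc23 yc0 zc31) (kc xc31 yc49 zc22) (kc xc32 yc37 zc49) (kc xc23 yc0 zc40) (kc xc26 yc36 zc42) (kc xc23 yc0 zc39) (kc xc28 yc53 zc19) (kc xc31 yc56 zc14) (kc xc24 yc14 zc12) (kc xc32 yc54 zc46) (kc xc23 yc0 zc52) (kc xc27 yc53 zc5) (kc xc30 yc24 zc29) (kc xc23 yc1 zc5) (kc xc30 yc51 zc37) (kc xc30 yc9 zc47) (kc xc23 yc1 zc13) (kc xc29 yc40 zc54) (kc xc24 yc38 zc59) (kc xc31 yc5 zc32) (kc xc30 yc51 zc9) (kc xc23 yc1 zc21) (kc xc24 yc13 zc24) (kc xc24 yc9 zc26) (kc xc23 yc1 zc34) (kc xc30 yc51 zc26) (kc xc32 yc9 zc33) (kc xc24 yc34 zc51) (kc xc24 yc34 zc52) (kc xc23 yc27 zc57) (kc xc31 yc9 zc8) (kc xc23 yc1 zc38) (kc xc30 yc40 zc37) (kc xc23 yc1 zc42) (kc xc29 yc34 zc45)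 (kc xc23 yc1 zc52) (kc xc30 yc23 zc14) (kc xc27 yc4 zc31) (kc xc23 yc25 zc4) (kc xc31 yc45 zc0) (kc xc23 yc42 zc45) (kc xc27 yc30 zc50) (kc xc26 yc7 zc44) (kc xc28 yc55 zc27) (kc xc23 yc37 zc33) (kc xc25 yc2 zc27) (kc xc23 yc2 zc9) (kc xc31 yc44 zc56) (kc xc23 yc43 zc55) (kc xc30 yc59 zc3)) (@D3.rec (fun _ => Pt) (kc xc27 yc30 zc55) (kc xc25 yc8 zc59) (kc xc29 yc38 zc4) (kc xc29 yc39 zc46) (kc xc30 yc29 zc13) (kc xc31 yc11 zc8) (kc xc29 yc32 zc24) (kc xc30 yc27 zc56) (kc xc32 yc36 zc32) (kc xc32 yc52 zc59) (kc xc28 yc47 zc20) (kc xc32 yc29 zc17) (kc xc23 yc2 zc35) (kc xc31 yc9 zc4) (kc xc29 yc58 zc34) (kc xc30 yc0 zc42) (kc xc30 yc0 zc43) (kc xc32 yc48 zc21) (kc xc28 yc27 zc27) (kc xc28 yc36 zc18) (kc xc28 yc36 zc19) (kc xc30 yc35 zc3) (kc xc30 yc33 zc31) (kc xc23 yc2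 zc61) (kc xc23 yc3 zc0) (kc xc30 yc59 zc20) (kc xc30 yc58 zc44) (kc xc30 yc58 zc41) (kc xc27 yc7 zc49) (kc xc30 yc58 zc18) (kc xc31 yc37 zc51) (kc xc31 yc37 zc2) (kc xc27 yc55 zc52) (kc xc27 yc4 zc36) (kc xc32 yc48 zc60) (kc xc32 yc54 zc11) (kc xc31 yc6 zc26) (kc xc31 yc34 zc6) (kc xc23 yc3 zc12) (kc xc30 yc31 zc39) (kc xc32 yc5 zc1) (kc xc27 yc4 zc38) (kc xc32 yc50 zc18) (kc xc32 yc32 zc10) (kc xc28 yc11 zc49) (kc xc29 yc10 zc8) (kc xc31 yc8 zc53) (kc xc31 yc8 zc58) (kc xc31 yc8 zc57) (kc xc23 yc3 zc34) (kc xc23 yc38 zc44) (kc xc23 yc3 zc49) (kc xc29 yc42 zc57) (kc xc23 yc3 zc57) (kc xc32 yc11 zc37) (kc xc23 yc4 zc10) (kc xc27 yc36 zc31) (kc xc27 yc12 zc46) (kc xc30 yc2 zc36) (kc xc32 yc54 zc61) (kc xc23 yc4 zc26) (kc xc29 yc23 zc61)) (@D3.rec (fun _ => Pt) (kc xc32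 yc18 zc20) (kc xc29 yc3 zc8) (kc xc23 yc24 zc2) (kc xc28 yc53 zc11) (kc xc30 yc29 zc54) (kc xc23 yc4 zc34) (kc xc32 yc47 zc54) (kc xc32 yc9 zc11) (kc xc31 yc30 zc29) (kc xc23 yc4 zc35) (kc xc32 yc11 zc20) (kc xc23 yc4 zc37) (kc xc30 yc50 zc60) (kc xc27 yc41 zc36) (kc xc24 yc6 zc26) (kc xc23 yc4 zc48) (kc xc23 yc19 zc9) (kc xc29 yc3 zc4) (kc xc23 yc47 zc44) (kc xc28 yc19 zc56) (kc xc28 yc3 zc41) (kc xc23 yc4 zc57) (kc xc30 yc54 zc58) (kc xc28 yc5 zc20) (kc xc23 yc5 zc0) (kc xc23 yc5 zc4) (kc xc31 yc59 zc49) (kc xc23 yc5 zc10) (kc xc28 yc14 zc4) (kc xc32 yc1 zc21) (kc xc30 yc58 zc20) (kc xc31 yc44 zc11) (kc xc30 yc50 zc46) (kc xc29 yc21 zc13) (kc xc31 yc16 zc19) (kc xc24 yc14 zc52) (kc xc23 yc55 zc48) (kc xc23 yc10 zc4) (kc xc30 yc6 zc9) (kc xc23 yc5 zc24) (kc xc23 yc9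 zc52) (kc xc23 yc5 zc25) (kc xc28 yc34 zc48) (kc xc28 yc32 zc27) (kc xc23 yc5 zc32) (kc xc29 yc23 zc30) (kc xc23 yc5 zc37) (kc xc24 yc15 zc19) (kc xc28 yc58 zc9) (kc xc23 yc5 zc54) (kc xc30 yc47 zc19) (kc xc23 yc5 zc55) (kc xc26 yc56 zc35) (kc xc23 yc5 zc59) (kc xc23 yc5 zc60) (kc xc26 yc26 zc59) (kc xc30 yc46 zc21) (kc xc25 yc59 zc24) (kc xc26 yc13 zc11) (kc xc26 yc13 zc24) (kc xc23 yc32 zc15) (kc xc28 yc47 zc53)) (@D3.rec (fun _ => Pt) (kc xc29 yc59 zc13) (kc xc23 yc6 zc29) (kc xc23 yc6 zc35) (kc xc32 yc30 zc0) (kc xc31 yc53 zc60) (kc xc32 yc19 zc37) (kc xc23 yc6 zc52) (kc xc28 yc3 zc49) (kc xc30 yc45 zc51) (kc xc31 yc22 zc55) (kc xc30 yc30 zc30) (kc xc23 yc7 zc6) (kc xc29 yc21 zc5) (kc xc29 yc30 zc31) (kc xc29 yc21 zc4) (kc xc25 yc47 zc55) (kc xc32 yc31 zc0) (kc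 xc32 yc23 zc25) (kc xc23 yc7 zc23) (kc xc29 yc7 zc60) (kc xc24 yc59 zc2) (kc xc32 yc29 zc35) (kc xc31 yc26 zc37) (kc xc23 yc48 zc36) (kc xc24 yc24 zc56) (kc xc23 yc7 zc39) (kc xc29 yc39 zc34) (kc xc32 yc34 zc10) (kc xc32 yc2 zc19) (kc xc23 yc7 zc47) (kc xc30 yc46 zc16) (kc xc23 yc7 zc54) (kc xc26 yc23 zc26) (kc xc30 yc55 zc42) (kc xc23 yc8 zc4) (kc xc32 yc2 zc43) (kc xc29 yc43 zc51) (kc xc26 yc29 zc0) (kc xc31 yc50 zc24) (kc xc29 yc19 zc27) (kc xc32 yc34 zc43) (kc xc29 yc30 zc38) (kc xc32 yc8 zc24) (kc xc30 yc46 zc49) (kc xc28 yc21 zc38) (kc xc31 yc22 zc50) (kc xc32 yc55 zc4) (kc xc23 yc8 zc19) (kc xc31 yc16 zc26) (kc xc28 yc20 zc13) (kc xc30 yc44 zc9) (kc xc28 yc29 zc30) (kc xc23 yc8 zc30) (kc xc30 yc46 zc25) (kc xc23 yc9 zc19) (kc xc23 yc8 zc32) (kc xc28 yc40 zc19)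 (kc xc25 yc32 zc15) (kc xc30 yc53 zc22) (kc xc31 yc38 zc43) (kc xc27 yc53 zc15) (kc xc26 yc41 zc33)) (@D3.rec (fun _ => Pt) (kc xc32 yc28 zc2) (kc xc26 yc41 zc34) (kc xc30 yc6 zc37) (kc xc24 yc3 zc0) (kc xc23 yc11 zc9) (kc xc28 yc9 zc42) (kc xc31 yc7 zc47) (kc xc27 yc57 zc26) (kc xc26 yc24 zc5) (kc xc32 yc55 zc5) (kc xc31 yc45 zc17) (kc xc23 yc9 zc27) (kc xc23 yc9 zc26) (kc xc27 yc57 zc12) (kc xc28 yc19 zc49) (kc xc23 yc9 zc30) (kc xc23 yc9 zc32) (kc xc23 yc9 zc34) (kc xc24 yc17 zc54) (kc xc25 yc7 zc33) (kc xc30 yc17 zc7) (kc xc32 yc49 zc6) (kc xc23 yc9 zc51) (kc xc26 yc28 zc57) (kc xc30 yc6 zc10) (kc xc23 yc9 zc58) (kc xc23 yc9 zc59) (kc xc28 yc22 zc16) (kc xc30 yc33 zc2) (kc xc30 yc4 zc43) (kc xc29 yc4 zc13) (kc xc31 yc12 zc60) (kc xc28 yc34 zc37) (kc xc32 yc33 zc59)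 (kc xc31 yc58 zc59) (kc xc28 yc56 zc31) (kc xc30 yc32 zc4) (kc xc24 yc8 zc35) (kc xc31 yc32 zc9) (kc xc27 yc5 zc32) (kc xc29 yc17 zc36) (kc xc23 yc10 zc35) (kc xc30 yc54 zc33) (kc xc30 yc16 zc51) (kc xc29 yc21 zc34) (kc xc23 yc10 zc43) (kc xc28 yc50 zc7) (kc xc27 yc17 zc22) (kc xc23 yc11 zc0) (kc xc24 yc38 zc21) (kc xc28 yc53 zc47) (kc xc32 yc42 zc37) (kc xc26 yc59 zc34) (kc xc26 yc59 zc20) (kc xc29 yc10 zc26) (kc xc23 yc11 zc21) (kc xc30 yc10 zc21) (kc xc23 yc11 zc23) (kc xc32 yc36 zc28) (kc xc31 yc29 zc32) (kc xc23 yc11 zc26) (kc xc27 yc11 zc38)) (@D3.rec (fun _ => Pt) (kc xc31 yc54 zc34) (kc xc23 yc11 zc27) (kc xc31 yc29 zc30) (kc xc27 yc15 zc33) (kc xc28 yc22 zc38) (kc xc23 yc11 zc33) (kc xc29 yc41 zc17) (kc xc24 yc48 zc26) (kc xc32 yc9 zc37) (kc xc24 yc18 zc59)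 (kc xc30 yc34 zc46) (kc xc31 yc33 zc52) (kc xc30 yc21 zc8) (kc xc30 yc21 zc7) (kc xc27 yc55 zc48) (kc xc30 yc59 zc19) (kc xc30 yc26 zc25) (kc xc23 yc12 zc2) (kc xc30 yc43 zc6) (kc xc28 yc23 zc38) (kc xc32 yc0 zc5) (kc xc32 yc9 zc21) (kc xc29 yc18 zc55) (kc xc31 yc16 zc5) (kc xc23 yc12 zc21) (kc xc23 yc12 zc26) (kc xc30 yc24 zc10) (kc xc23 yc12 zc29) (kc xc30 yc34 zc6) (kc xc23 yc12 zc28) (kc xc23 yc55 zc32) (kc xc24 yc2 zc39) (kc xc24 yc21 zc7) (kc xc23 yc12 zc34) (kc xc28 yc47 zc56) (kc xc30 yc7 zc57) (kc xc23 yc12 zc42) (kc xc23 yc59 zc61) (kc xc24 yc0 zc0) (kc xc31 yc0 zc31) (kc xc24 yc12 zc18) (kc xc28 yc33 zc51) (kc xc24 yc1 zc43) (kc xc24 yc1 zc42) (kc xc30 yc28 zc39) (kc xc32 yc19 zc2) (kc xc23 yc12 zc59) (kc xc28 yc44 zc29) (kc xc23 yc59 zc52) (kc xc26 yc11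 zc21) (kc xc31 yc23 zc48) (kc xc32 yc13 zc15) (kc xc26 yc41 zc14) (kc xc31 yc52 zc58) (kc xc26 yc39 zc17) (kc xc28 yc16 zc20) (kc xc31 yc24 zc17) (kc xc28 yc40 zc42) (kc xc31 yc43 zc19) (kc xc32 yc52 zc61) (kc xc32 yc55 zc9) (kc xc32 yc54 zc28)) (@D3.rec (fun _ => Pt) (kc xc23 yc13 zc34) (kc xc30 yc48 zc5) (kc xc23 yc13 zc35) (kc xc28 yc33 zc3) (kc xc29 yc24 zc26) (kc xc23 yc13 zc36) (kc xc30 yc51 zc11) (kc xc28 yc11 zc35) (kc xc32 yc50 zc17) (kc xc32 yc50 zc19) (kc xc23 yc14 zc21) (kc xc25 yc44 zc6) (kc xc23 yc19 zc58) (kc xc23 yc14 zc6) (kc xc23 yc17 zc40) (kc xc28 yc10 zc43) (kc xc28 yc10 zc40) (kc xc23 yc14 zc9) (kc xc30 yc3 zc12) (kc xc23 yc18 zc33) (kc xc23 yc18 zc34) (kc xc23 yc14 zc16) (kc xc23 yc14 zc14) (kc xc31 yc43 zc29) (kc xc23 yc14 zc15) (kc xc23 yc15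 zc17) (kc xc23 yc15 zc16) (kc xc25 yc2 zc0) (kc xc29 yc29 zc18) (kc xc24 yc44 zc26) (kc xc30 yc57 zc57) (kc xc23 yc14 zc20) (kc xc23 yc16 zc3) (kc xc23 yc15 zc60) (kc xc23 yc18 zc12) (kc xc25 yc0 zc7) (kc xc23 yc14 zc30) (kc xc32 yc2 zc30) (kc xc30 yc35 zc2) (kc xc32 yc31 zc15) (kc xc32 yc31 zc14) (kc xc27 yc26 zc25) (kc xc24 yc10 zc37) (kc xc23 yc14 zc37) (kc xc30 yc39 zc39) (kc xc23 yc19 zc15) (kc xc23 yc15 zc32) (kc xc26 yc8 zc55) (kc xc23 yc14 zc61) (kc xc30 yc2 zc41) (kc xc26 yc8 zc49) (kc xc26 yc8 zc50) (kc xc23 yc15 zc21) (kc xc24 yc59 zc43) (kc xc23 yc52 zc34) (kc xc23 yc15 zc8) (kc xc23 yc15 zc7) (kc xc30 yc57 zc30) (kc xc32 yc5 zc4) (kc xc26 yc7 zc4) (kc xc24 yc47 zc18) (kc xc24 yc47 zc13)) (@D3.rec (fun _ => Pt) (kc xc26 yc46 zc1) (kc xc32 yc5 zc33) (kc xc30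 yc7 zc21) (kc xc24 yc59 zc41) (kc xc31 yc0 zc44) (kc xc32 yc32 zc46) (kc xc28 yc10 zc48) (kc xc28 yc2 zc58) (kc xc31 yc6 zc51) (kc xc31 yc2 zc47) (kc xc26 yc6 zc50) (kc xc26 yc9 zc22) (kc xc23 yc18 zc46) (kc xc27 yc4 zc44) (kc xc25 yc3 zc4) (kc xc26 yc9 zc32) (kc xc28 yc43 zc51) (kc xc31 yc0 zc46) (kc xc30 yc52 zc29) (kc xc29 yc48 zc52) (kc xc30 yc53 zc30) (kc xc31 yc2 zc14) (kc xc32 yc49 zc21) (kc xc30 yc13 zc52) (kc xc30 yc2 zc21) (kc xc23 yc15 zc41) (kc xc24 yc31 zc10) (kc xc32 yc55 zc11) (kc xc23 yc16 zc5) (kc xc31 yc38 zc48) (kc xc23 yc15 zc51) (kc xc23 yc15 zc56) (kc xc23 yc46 zc22) (kc xc30 yc13 zc31) (kc xc30 yc31 zc37) (kc xc23 yc15 zc58) (kc xc23 yc15 zc59) (kc xc29 yc11 zc0) (kc xc30 yc31 zc38) (kc xc31 yc49 zc35) (kc xc23 yc15 zc61) (kc xc30 yc52 zc27) (kc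 xc23 yc45 zc24) (kc xc23 yc17 zc37) (kc xc30 yc52 zc26) (kc xc23 yc16 zc10) (kc xc28 yc17 zc40) (kc xc23 yc16 zc15) (kc xc23 yc16 zc26) (kc xc30 yc19 zc31) (kc xc23 yc45 zc10) (kc xc28 yc10 zc55) (kc xc30 yc59 zc38) (kc xc30 yc59 zc39) (kc xc32 yc5 zc3) (kc xc27 yc58 zc12) (kc xc23 yc16 zc32) (kc xc30 yc0 zc44) (kc xc32 yc19 zc52) (kc xc30 yc7 zc19) (kc xc29 yc24 zc14) (kc xc27 yc57 zc11)) (@D3.rec (fun _ => Pt) (kc xc26 yc3 zc38) (kc xc28 yc41 zc4) (kc xc23 yc16 zc48) (kc xc30 yc51 zc61) (kc xc23 yc16 zc58) (kc xc23 yc16 zc56) (kc xc30 yc59 zc25) (kc xc26 yc9 zc14) (kc xc23 yc17 zc2) (kc xc30 yc37 zc34) (kc xc24 yc59 zc45) (kc xc25 yc3 zc3) (kc xc23 yc17 zc6) (kc xc28 yc3 zc0) (kc xc23 yc17 zc9) (kc xc25 yc0 zc19) (kc xc31 yc32 zc36) (kc xc28 yc2 zc54) (kc xc31 yc6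 zc49) (kc xc30 yc56 zc15) (kc xc30 yc52 zc25) (kc xc23 yc17 zc16) (kc xc30 yc1 zc55) (kc xc31 yc7 zc61) (kc xc23 yc17 zc17) (kc xc30 yc59 zc6) (kc xc32 yc48 zc28) (kc xc23 yc17 zc21) (kc xc28 yc40 zc59) (kc xc26 yc2 zc57) (kc xc29 yc52 zc3) (kc xc30 yc17 zc38) (kc xc28 yc12 zc33) (kc xc23 yc17 zc24) (kc xc27 yc57 zc8) (kc xc23 yc17 zc27) (kc xc23 yc17 zc28) (kc xc24 yc47 zc16) (kc xc30 yc58 zc52) (kc xc30 yc58 zc53) (kc xc30 yc7 zc25) (kc xc23 yc37 zc18) (kc xc28 yc18 zc51) (kc xc28 yc43 zc46) (kc xc30 yc59 zc52) (kc xc28 yc40 zc55) (kc xc29 yc21 zc60) (kc xc27 yc58 zc47) (kc xc31 yc7 zc56) (kc xc23 yc18 zc28) (kc xc30 yc33 zc53) (kc xc23 yc17 zc53) (kc xc30 yc59 zc44) (kc xc30 yc39 zc55) (kc xc28 yc15 zc32) (kc xc28 yc28 zc1) (kc xc23 yc18 zc13) (kc xc32 yc4 zc37)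 (kc xc28 yc13 zc34) (kc xc24 yc31 zc29) (kc xc26 yc11 zc49) (kc xc23 yc18 zc17))
def f_c_31 : D2 → D3 → Pt := @D2.rec (fun _ => D3 → Pt) (@D3.rec (fun _ => Pt) (kc xc23 yc18 zc18) (kc xc23 yc18 zc19) (kc xc32 yc31 zc27) (kc xc27 yc10 zc13) (kc xc23 yc21 zc20) (kc xc30 yc35 zc1) (kc xc25 yc16 zc54) (kc xc23 yc32 zc43) (kc xc23 yc25 zc59) (kc xc30 yc49 zc24) (kc xc23 yc24 zc59) (kc xc25 yc5 zc27) (kc xc23 yc46 zc36) (kc xc31 yc11 zc56) (kc xc23 yc18 zc52) (kc xc23 yc33 zc36) (kc xc23 yc33 zc37) (kc xc27 yc30 zc31) (kc xc23 yc18 zc59) (kc xc29 yc16 zc2) (kc xc30 yc33 zc30) (kc xc30 yc47 zc42) (kc xc29 yc22 zc49) (kc xc24 yc44 zc52) (kc xc27 yc30 zc36) (kc xc31 yc49 zc46) (kc xc29 yc16 zc3) (kc xc32 yc1 zc20) (kc xc23 yc19 zc8) (kc xc31 yc46 zc43) (kc xc23 yc19 zc11) (kc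 xc30 yc56 zc39) (kc xc27 yc48 zc12) (kc xc23 yc19 zc18) (kc xc30 yc32 zc42) (kc xc23 yc25 zc45) (kc xc23 yc33 zc0) (kc xc23 yc31 zc15) (kc xc32 yc8 zc41) (kc xc28 yc38 zc55) (kc xc23 yc19 zc51) (kc xc23 yc37 zc11) (kc xc23 yc37 zc9) (kc xc26 yc22 zc1) (kc xc30 yc58 zc4) (kc xc31 yc2 zc18) (kc xc30 yc58 zc17) (kc xc28 yc12 zc12) (kc xc24 yc31 zc3) (kc xc31 yc33 zc47) (kc xc24 yc59 zc17) (kc xc26 yc26 zc33) (kc xc25 yc16 zc25) (kc xc23 yc21 zc1) (kc xc23 yc44 zc56) (kc xc23 yc37 zc49) (kc xc23 yc21 zc3) (kc xc27 yc48 zc38) (kc xc23 yc21 zc12) (kc xc23 yc21 zc14) (kc xc30 yc17 zc46) (kc xc32 yc55 zc17)) (@D3.rec (fun _ => Pt) (kc xc30 yc13 zc2) (kc xc27 yc57 zc45) (kc xc32 yc38 zc6) (kc xc29 yc10 zc9) (kc xc31 yc39 zc16) (kc xc31 yc50 zc23) (kc xc25 yc24 zc28) (kc xc26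 yc33 zc6) (kc xc32 yc43 zc19) (kc xc31 yc16 zc52) (kc xc23 yc33 zc14) (kc xc31 yc16 zc51) (kc xc31 yc16 zc50) (kc xc31 yc16 zc49) (kc xc26 yc20 zc3) (kc xc23 yc21 zc47) (kc xc28 yc19 zc40) (kc xc26 yc32 zc44) (kc xc26 yc18 zc46) (kc xc31 yc39 zc11) (kc xc31 yc44 zc29) (kc xc32 yc49 zc52) (kc xc23 yc22 zc2) (kc xc23 yc23 zc57) (kc xc32 yc16 zc47) (kc xc29 yc55 zc50) (kc xc23 yc22 zc23) (kc xc32 yc3 zc10) (kc xc31 yc44 zc58) (kc xc23 yc22 zc31) (kc xc28 yc6 zc3) (kc xc31 yc14 zc48) (kc xc23 yc22 zc51) (kc xc24 yc45 zc49) (kc xc28 yc4 zc17) (kc xc31 yc38 zc20) (kc xc32 yc54 zc29) (kc xc23 yc23 zc3) (kc xc28 yc8 zc0) (kc xc31 yc50 zc8) (kc xc27 yc41 zc30) (kc xc31 yc37 zc26) (kc xc23 yc23 zc25) (kc xc27 yc17 zc30) (kc xc27 yc23 zc9) (kc xc23 yc23 zc30) (kc xc31 yc43 zc41)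 (kc xc25 yc22 zc3) (kc xc27 yc6 zc5) (kc xc23 yc24 zc6) (kc xc23 yc51 zc11) (kc xc31 yc18 zc38) (kc xc29 yc47 zc57) (kc xc23 yc24 zc17) (kc xc27 yc4 zc51) (kc xc23 yc24 zc30) (kc xc25 yc29 zc13) (kc xc29 yc50 zc51) (kc xc26 yc0 zc29) (kc xc31 yc7 zc49) (kc xc23 yc24 zc35) (kc xc23 yc24 zc36)) (@D3.rec (fun _ => Pt) (kc xc32 yc30 zc24) (kc xc29 yc55 zc20) (kc xc23 yc38 zc36) (kc xc31 yc27 zc52) (kc xc32 yc3 zc51) (kc xc23 yc24 zc43) (kc xc28 yc8 zc27) (kc xc28 yc2 zc14) (kc xc26 yc0 zc61) (kc xc23 yc24 zc52) (kc xc31 yc2 zc24) (kc xc32 yc50 zc20) (kc xc30 yc32 zc46) (kc xc23 yc38 zc21) (kc xc30 yc58 zc21) (kc xc30 yc41 zc61) (kc xc23 yc24 zc61) (kc xc31 yc6 zc52) (kc xc31 yc0 zc45) (kc xc30 yc13 zc51) (kc xc31 yc12 zc11) (kc xc26 yc8 zc39) (kc xc30 yc0 zc40) (kc xc30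 yc13 zc47) (kc xc31 yc2 zc10) (kc xc23 yc25 zc7) (kc xc23 yc25 zc9) (kc xc24 yc59 zc36) (kc xc26 yc24 zc59) (kc xc30 yc2 zc40) (kc xc23 yc25 zc25) (kc xc29 yc56 zc43) (kc xc23 yc25 zc31) (kc xc29 yc56 zc44) (kc xc29 yc30 zc3) (kc xc25 yc18 zc13) (kc xc23 yc25 zc39) (kc xc30 yc5 zc27) (kc xc23 yc25 zc41) (kc xc25 yc46 zc24) (kc xc23 yc32 zc54) (kc xc29 yc11 zc42) (kc xc31 yc6 zc8) (kc xc23 yc25 zc57) (kc xc23 yc37 zc25) (kc xc28 yc28 zc37) (kc xc30 yc50 zc5) (kc xc30 yc58 zc9) (kc xc23 yc25 zc60) (kc xc30 yc41 zc6) (kc xc28 yc12 zc31) (kc xc24 yc54 zc28) (kc xc30 yc5 zc3) (kc xc23 yc26 zc2) (kc xc32 yc16 zc11) (kc xc29 yc12 zc21) (kc xc26 yc18 zc28) (kc xc23 yc26 zc4) (kc xc28 yc11 zc53) (kc xc27 yc56 zc28) (kc xc23 yc26 zc5) (kc xc23 yc26 zc47)) (@D3.rec (fun _ => Pt)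 (kc xc30 yc41 zc29) (kc xc29 yc15 zc51) (kc xc23 yc26 zc10) (kc xc29 yc57 zc44) (kc xc23 yc26 zc13) (kc xc28 yc27 zc24) (kc xc26 yc45 zc15) (kc xc24 yc36 zc58) (kc xc24 yc10 zc55) (kc xc24 yc36 zc61) (kc xc32 yc55 zc22) (kc xc30 yc1 zc45) (kc xc32 yc50 zc37) (kc xc23 yc26 zc30) (kc xc29 yc5 zc12) (kc xc23 yc26 zc40) (kc xc32 yc55 zc24) (kc xc32 yc55 zc23) (kc xc23 yc26 zc43) (kc xc32 yc26 zc45) (kc xc31 yc9 zc10) (kc xc31 yc9 zc58) (kc xc30 yc40 zc29) (kc xc30 yc40 zc25) (kc xc30 yc30 zc39) (kc xc23 yc26 zc51) (kc xc32 yc42 zc4) (kc xc23 yc26 zc52) (kc xc25 yc30 zc36) (kc xc25 yc14 zc8) (kc xc23 yc26 zc55) (kc xc23 yc41 zc3) (kc xc23 yc26 zc61) (kc xc31 yc5 zc39) (kc xc30 yc47 zc13) (kc xc23 yc27 zc2) (kc xc30 yc50 zc6) (kc xc30 yc40 zc12) (kc xc23 yc27 zc4) (kc xc25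 yc36 zc18) (kc xc31 yc27 zc18) (kc xc32 yc35 zc49) (kc xc24 yc42 zc32) (kc xc23 yc27 zc11) (kc xc30 yc37 zc33) (kc xc25 yc23 zc15) (kc xc23 yc29 zc55) (kc xc23 yc29 zc17) (kc xc25 yc39 zc56) (kc xc25 yc12 zc47) (kc xc23 yc27 zc29) (kc xc23 yc28 zc1) (kc xc31 yc5 zc38) (kc xc23 yc27 zc33) (kc xc32 yc1 zc23) (kc xc29 yc56 zc0) (kc xc32 yc32 zc34) (kc xc23 yc40 zc59) (kc xc23 yc27 zc41) (kc xc23 yc27 zc43) (kc xc23 yc27 zc44) (kc xc32 yc55 zc28)) (@D3.rec (fun _ => Pt) (kc xc32 yc3 zc14) (kc xc23 yc27 zc48) (kc xc25 yc40 zc5) (kc xc30 yc42 zc11) (kc xc29 yc4 zc33) (kc xc32 yc3 zc16) (kc xc29 yc3 zc48) (kc xc27 yc43 zc33) (kc xc23 yc30 zc7) (kc xc29 yc47 zc60) (kc xc32 yc30 zc41) (kc xc29 yc4 zc20) (kc xc29 yc4 zc19) (kc xc31 yc58 zc2) (kc xc29 yc6 zc31) (kc xc31 yc56 zc44)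 (kc xc32 yc43 zc27) (kc xc23 yc28 zc21) (kc xc23 yc28 zc18) (kc xc26 yc6 zc46) (kc xc32 yc55 zc31) (kc xc30 yc10 zc10) (kc xc23 yc28 zc25) (kc xc23 yc28 zc23) (kc xc29 yc59 zc21) (kc xc32 yc55 zc32) (kc xc31 yc5 zc23) (kc xc23 yc37 zc4) (kc xc29 yc14 zc5) (kc xc29 yc14 zc6) (kc xc29 yc6 zc23) (kc xc23 yc41 zc37) (kc xc23 yc43 zc53) (kc xc23 yc29 zc4) (kc xc23 yc28 zc34) (kc xc25 yc42 zc41) (kc xc23 yc29 zc5) (kc xc23 yc30 zc27) (kc xc23 yc30 zc28) (kc xc30 yc10 zc15) (kc xc23 yc28 zc40) (kc xc32 yc2 zc53) (kc xc32 yc48 zc12) (kc xc23 yc28 zc41) (kc xc31 yc35 zc42) (kc xc23 yc28 zc44) (kc xc30 yc40 zc20) (kc xc23 yc28 zc43) (kc xc32 yc54 zc2) (kc xc32 yc32 zc5) (kc xc32 yc29 zc16) (kc xc31 yc42 zc12) (kc xc31 yc42 zc10) (kc xc23 yc28 zc48) (kc xc23 yc28 zc47) (kc xc23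 yc33 zc4) (kc xc32 yc53 zc27) (kc xc31 yc9 zc0) (kc xc29 yc58 zc32) (kc xc23 yc28 zc60) (kc xc29 yc4 zc31) (kc xc23 yc29 zc2)) (@D3.rec (fun _ => Pt) (kc xc31 yc7 zc60) (kc xc29 yc4 zc36) (kc xc30 yc47 zc45) (kc xc23 yc29 zc13) (kc xc30 yc41 zc2) (kc xc31 yc10 zc19) (kc xc23 yc29 zc21) (kc xc23 yc29 zc24) (kc xc32 yc26 zc52) (kc xc30 yc40 zc9) (kc xc23 yc37 zc5) (kc xc30 yc31 zc16) (kc xc31 yc16 zc36) (kc xc29 yc11 zc3) (kc xc32 yc54 zc9) (kc xc23 yc29 zc44) (kc xc32 yc16 zc19) (kc xc31 yc30 zc24) (kc xc29 yc55 zc23) (kc xc29 yc55 zc24) (kc xc23 yc30 zc12) (kc xc23 yc38 zc23) (kc xc23 yc29 zc50) (kc xc31 yc4 zc26) (kc xc25 yc44 zc16) (kc xc30 yc40 zc60) (kc xc32 yc1 zc27) (kc xc32 yc49 zc47) (kc xc27 yc58 zc3) (kc xc29 yc56 zc54) (kc xc23 yc30 zc3) (kc xc32 yc55 zc35)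 (kc xc30 yc51 zc31) (kc xc23 yc30 zc8) (kc xc31 yc54 zc49) (kc xc30 yc4 zc31) (kc xc31 yc8 zc52) (kc xc32 yc55 zc36) (kc xc31 yc3 zc52) (kc xc31 yc3 zc33) (kc xc23 yc30 zc14) (kc xc28 yc27 zc28) (kc xc32 yc16 zc22) (kc xc25 yc40 zc7) (kc xc29 yc12 zc9) (kc xc31 yc10 zc57) (kc xc23 yc30 zc22) (kc xc32 yc47 zc10) (kc xc30 yc37 zc16) (kc xc23 yc30 zc23) (kc xc23 yc39 zc43) (kc xc23 yc39 zc44) (kc xc27 yc33 zc32) (kc xc31 yc47 zc24) (kc xc26 yc57 zc56) (kc xc23 yc30 zc54) (kc xc28 yc24 zc46) (kc xc25 yc2 zc14) (kc xc31 yc8 zc6) (kc xc24 yc59 zc48) (kc xc26 yc6 zc56) (kc xc23 yc31 zc8)) (@D3.rec (fun _ => Pt) (kc xc27 yc57 zc16) (kc xc23 yc31 zc14) (kc xc27 yc45 zc3) (kc xc31 yc12 zc13) (kc xc31 yc12 zc16) (kc xc27 yc1 zc16) (kc xc28 yc0 zc26) (kc xc28 yc26 zc13) (kc xc31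 yc2 zc42) (kc xc32 yc9 zc53) (kc xc27 yc56 zc7) (kc xc32 yc50 zc35) (kc xc23 yc31 zc60) (kc xc32 yc6 zc54) (kc xc23 yc32 zc0) (kc xc32 yc55 zc37) (kc xc32 yc2 zc54) (kc xc23 yc38 zc56) (kc xc23 yc32 zc20) (kc xc26 yc3 zc3) (kc xc26 yc40 zc39) (kc xc26 yc3 zc37) (kc xc23 yc32 zc38) (kc xc25 yc46 zc40) (kc xc30 yc48 zc31) (kc xc23 yc32 zc50) (kc xc30 yc52 zc36) (kc xc30 yc0 zc20) (kc xc25 yc56 zc15) (kc xc25 yc56 zc13) (kc xc31 yc11 zc40) (kc xc26 yc10 zc1) (kc xc23 yc33 zc1) (kc xc29 yc10 zc52) (kc xc23 yc33 zc2) (kc xc26 yc47 zc20) (kc xc31 yc13 zc27) (kc xc30 yc2 zc26) (kc xc28 yc12 zc26) (kc xc28 yc22 zc12) (kc xc23 yc33 zc22) (kc xc32 yc2 zc52) (kc xc31 yc33 zc40) (kc xc26 yc22 zc30) (kc xc26 yc22 zc25) (kc xc32 yc40 zc9) (kc xc24 yc13 zc7) (kc xc24 yc8 zc39) (kc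 xc26 yc20 zc4) (kc xc30 yc59 zc18) (kc xc23 yc33 zc47) (kc xc30 yc58 zc8) (kc xc31 yc2 zc17) (kc xc23 yc33 zc48) (kc xc26 yc19 zc41) (kc xc32 yc55 zc38) (kc xc31 yc14 zc52) (kc xc25 yc15 zc55) (kc xc32 yc52 zc25) (kc xc29 yc51 zc4) (kc xc28 yc12 zc40) (kc xc32 yc28 zc49)) (@D3.rec (fun _ => Pt) (kc xc23 yc34 zc10) (kc xc23 yc51 zc10) (kc xc23 yc34 zc25) (kc xc24 yc26 zc7) (kc xc29 yc52 zc48) (kc xc27 yc57 zc40) (kc xc27 yc1 zc14) (kc xc25 yc32 zc41) (kc xc28 yc4 zc15) (kc xc24 yc41 zc32) (kc xc27 yc49 zc6) (kc xc25 yc17 zc7) (kc xc26 yc11 zc15) (kc xc23 yc35 zc6) (kc xc23 yc35 zc8) (kc xc23 yc35 zc9) (kc xc32 yc55 zc13) (kc xc29 yc39 zc7) (kc xc24 yc59 zc21) (kc xc32 yc28 zc1) (kc xc32 yc28 zc0) (kc xc23 yc35 zc44) (kc xc28 yc42 zc53) (kc xc26 yc14 zc27) (kc xc23 yc35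 zc53) (kc xc30 yc23 zc15) (kc xc28 yc1 zc0) (kc xc32 yc31 zc25) (kc xc23 yc35 zc61) (kc xc23 yc36 zc7) (kc xc23 yc36 zc10) (kc xc25 yc19 zc59) (kc xc25 yc57 zc24) (kc xc25 yc47 zc9) (kc xc25 yc55 zc12) (kc xc30 yc1 zc39) (kc xc25 yc30 zc27) (kc xc30 yc20 zc32) (kc xc28 yc21 zc25) (kc xc23 yc50 zc45) (kc xc31 yc8 zc18) (kc xc23 yc36 zc60) (kc xc26 yc32 zc5) (kc xc27 yc53 zc48) (kc xc28 yc10 zc61) (kc xc23 yc36 zc59) (kc xc28 yc27 zc45) (kc xc30 yc55 zc6) (kc xc23 yc40 zc4) (kc xc31 yc1 zc59) (kc xc32 yc27 zc49) (kc xc28 yc6 zc22) (kc xc28 yc2 zc61) (kc xc29 yc10 zc48) (kc xc31 yc8 zc3) (kc xc23 yc37 zc17) (kc xc30 yc59 zc48) (kc xc31 yc8 zc2) (kc xc28 yc28 zc34) (kc xc30 yc20 zc34) (kc xc31 yc5 zc0) (kc xc30 yc59 zc23)) (@D3.rec (fun _ => Pt) (kc xc31 yc8 zc1) (kc xc31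 yc8 zc0) (kc xc31 yc7 zc57) (kc xc31 yc7 zc54) (kc xc31 yc59 zc13) (kc xc28 yc9 zc12) (kc xc31 yc5 zc58) (kc xc23 yc37 zc43) (kc xc31 yc59 zc30) (kc xc28 yc18 zc52) (kc xc31 yc42 zc33) (kc xc30 yc9 zc51) (kc xc30 yc9 zc50) (kc xc32 yc41 zc30) (kc xc28 yc9 zc31) (kc xc23 yc37 zc55) (kc xc23 yc37 zc56) (kc xc28 yc7 zc43) (kc xc31 yc7 zc40) (kc xc23 yc37 zc58) (kc xc23 yc37 zc59) (kc xc23 yc38 zc11) (kc xc23 yc38 zc12) (kc xc23 yc38 zc16) (kc xc23 yc38 zc18) (kc xc32 yc53 zc26) (kc xc29 yc11 zc5) (kc xc26 yc8 zc36) (kc xc29 yc55 zc19) (kc xc23 yc38 zc27) (kc xc26 yc21 zc58) (kc xc26 yc8 zc2) (kc xc29 yc49 zc43) (kc xc28 yc11 zc48) (kc xc30 yc40 zc18) (kc xc30 yc40 zc17) (kc xc23 yc38 zc30) (kc xc32 yc55 zc43) (kc xc27 yc53 zc39) (kc xc23 yc38 zc33) (kc xc32 yc5 zc20) (kc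 xc24 yc33 zc46) (kc xc29 yc9 zc58) (kc xc23 yc38 zc35) (kc xc29 yc11 zc57) (kc xc29 yc11 zc56) (kc xc26 yc47 zc12) (kc xc27 yc35 zc20) (kc xc29 yc55 zc28) (kc xc26 yc47 zc49) (kc xc29 yc55 zc2) (kc xc23 yc41 zc56) (kc xc31 yc5 zc36) (kc xc30 yc52 zc46) (kc xc29 yc41 zc24) (kc xc32 yc42 zc11) (kc xc23 yc39 zc40) (kc xc30 yc52 zc48) (kc xc30 yc52 zc47) (kc xc30 yc40 zc61) (kc xc25 yc39 zc9) (kc xc30 yc10 zc37)) (@D3.rec (fun _ => Pt) (kc xc31 yc4 zc57) (kc xc32 yc42 zc10) (kc xc29 yc26 zc54) (kc xc23 yc38 zc54) (kc xc30 yc52 zc13) (kc xc29 yc11 zc15) (kc xc32 yc15 zc48) (kc xc31 yc34 zc46) (kc xc30 yc51 zc42) (kc xc23 yc41 zc29) (kc xc31 yc3 zc20) (kc xc23 yc39 zc3) (kc xc23 yc39 zc4) (kc xc25 yc38 zc49) (kc xc23 yc39 zc6) (kc xc23 yc39 zc7) (kc xc32 yc50 zc50) (kc xc32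 yc34 zc30) (kc xc30 yc34 zc0) (kc xc23 yc58 zc44) (kc xc29 yc14 zc4) (kc xc29 yc28 zc46) (kc xc23 yc39 zc22) (kc xc29 yc17 zc33) (kc xc31 yc23 zc25) (kc xc30 yc11 zc18) (kc xc25 yc49 zc45) (kc xc25 yc42 zc56) (kc xc25 yc54 zc14) (kc xc23 yc39 zc25) (kc xc23 yc39 zc26) (kc xc29 yc58 zc49) (kc xc29 yc56 zc42) (kc xc30 yc41 zc21) (kc xc23 yc39 zc29) (kc xc32 yc0 zc12) (kc xc31 yc42 zc14) (kc xc31 yc42 zc13) (kc xc32 yc26 zc11) (kc xc23 yc39 zc33) (kc xc32 yc55 zc48) (kc xc30 yc6 zc33) (kc xc23 yc41 zc39) (kc xc30 yc40 zc7) (kc xc31 yc54 zc6) (kc xc23 yc39 zc36) (kc xc31 yc40 zc60) (kc xc30 yc33 zc33) (kc xc32 yc48 zc15) (kc xc24 yc27 zc5) (kc xc31 yc39 zc41) (kc xc29 yc14 zc8) (kc xc23 yc39 zc39) (kc xc32 yc13 zc5) (kc xc31 yc10 zc33) (kc xc23 yc41 zc49) (kc xc23 yc41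 zc50) (kc xc25 yc57 zc2) (kc xc31 yc3 zc21) (kc xc25 yc59 zc4) (kc xc31 yc10 zc54) (kc xc23 yc39 zc47)) (@D3.rec (fun _ => Pt) (kc xc30 yc41 zc31) (kc xc23 yc39 zc46) (kc xc28 yc5 zc50) (kc xc32 yc31 zc33) (kc xc32 yc55 zc51) (kc xc31 yc49 zc52) (kc xc29 yc5 zc28) (kc xc31 yc26 zc48) (kc xc23 yc39 zc59) (kc xc32 yc39 zc10) (kc xc23 yc40 zc3) (kc xc32 yc2 zc59) (kc xc32 yc48 zc14) (kc xc30 yc10 zc14) (kc xc24 yc16 zc57) (kc xc23 yc40 zc9) (kc xc23 yc40 zc13) (kc xc31 yc10 zc44) (kc xc23 yc40 zc15) (kc xc31 yc5 zc5) (kc xc32 yc16 zc2) (kc xc23 yc40 zc19) (kc xc32 yc46 zc58) (kc xc29 yc3 zc50) (kc xc31 yc49 zc23) (kc xc26 yc28 zc36) (kc xc30 yc7 zc16) (kc xc25 yc39 zc17) (kc xc29 yc58 zc38) (kc xc26 yc47 zc46) (kc xc31 yc16 zc42) (kc xc32 yc54 zc57) (kc xc23 yc40 zc43)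 (kc xc31 yc9 zc54) (kc xc28 yc38 zc44) (kc xc23 yc40 zc48) (kc xc29 yc57 zc16) (kc xc23 yc40 zc49) (kc xc27 yc18 zc28) (kc xc31 yc53 zc56) (kc xc23 yc40 zc54) (kc xc23 yc40 zc57) (kc xc32 yc49 zc14) (kc xc23 yc40 zc60) (kc xc31 yc10 zc17) (kc xc30 yc45 zc29) (kc xc28 yc19 zc22) (kc xc25 yc20 zc24) (kc xc30 yc10 zc11) (kc xc23 yc41 zc5) (kc xc23 yc41 zc8) (kc xc31 yc13 zc44) (kc xc32 yc49 zc9) (kc xc29 yc57 zc17) (kc xc31 yc9 zc60) (kc xc23 yc41 zc17) (kc xc28 yc52 zc46) (kc xc31 yc5 zc45) (kc xc29 yc4 zc35) (kc xc28 yc9 zc24) (kc xc23 yc41 zc23) (kc xc23 yc41 zc28)) (@D3.rec (fun _ => Pt) (kc xc32 yc55 zc53) (kc xc29 yc4 zc7) (kc xc32 yc41 zc60) (kc xc31 yc55 zc60) (kc xc23 yc41 zc34) (kc xc30 yc41 zc22) (kc xc28 yc28 zc48) (kc xc23 yc41 zc36) (kc xc30 yc52 zc5) (kc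 xc32 yc49 zc32) (kc xc27 yc26 zc14) (kc xc29 yc4 zc38) (kc xc29 yc5 zc17) (kc xc24 yc53 zc52) (kc xc23 yc41 zc43) (kc xc29 yc45 zc4) (kc xc23 yc41 zc45) (kc xc25 yc12 zc35) (kc xc29 yc41 zc49) (kc xc27 yc35 zc13) (kc xc32 yc43 zc45) (kc xc23 yc41 zc54) (kc xc27 yc33 zc37) (kc xc23 yc41 zc61) (kc xc27 yc30 zc25) (kc xc23 yc42 zc4) (kc xc23 yc42 zc8) (kc xc23 yc42 zc12) (kc xc23 yc42 zc16) (kc xc32 yc44 zc28) (kc xc32 yc15 zc18) (kc xc23 yc42 zc52) (kc xc32 yc53 zc42) (kc xc32 yc50 zc11) (kc xc32 yc55 zc55) (kc xc23 yc43 zc4) (kc xc30 yc10 zc51) (kc xc23 yc43 zc6) (kc xc26 yc8 zc26) (kc xc30 yc5 zc33) (kc xc31 yc6 zc30) (kc xc31 yc50 zc0) (kc xc23 yc43 zc21) (kc xc23 yc43 zc18) (kc xc23 yc43 zc47) (kc xc23 yc43 zc23) (kc xc32 yc38 zc19) (kc xc27 yc38 zc33) (kc xc31 yc16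 zc43) (kc xc23 yc43 zc34) (kc xc30 yc34 zc50) (kc xc23 yc43 zc36) (kc xc23 yc43 zc37) (kc xc31 yc16 zc41) (kc xc23 yc43 zc39) (kc xc31 yc16 zc39) (kc xc31 yc0 zc13) (kc xc23 yc43 zc44) (kc xc32 yc55 zc18) (kc xc30 yc27 zc6) (kc xc31 yc38 zc12) (kc xc31 yc44 zc1)) (@D3.rec (fun _ => Pt) (kc xc27 yc5 zc21) (kc xc27 yc28 zc14) (kc xc27 yc28 zc11) (kc xc31 yc57 zc55) (kc xc26 yc25 zc12) (kc xc32 yc55 zc60) (kc xc31 yc44 zc19) (kc xc30 yc4 zc20) (kc xc26 yc7 zc31) (kc xc29 yc54 zc4) (kc xc32 yc28 zc19) (kc xc31 yc2 zc20) (kc xc29 yc9 zc53) (kc xc31 yc6 zc3) (kc xc30 yc32 zc38) (kc xc30 yc32 zc34) (kc xc31 yc6 zc4) (kc xc25 yc16 zc24) (kc xc28 yc2 zc10) (kc xc32 yc25 zc13) (kc xc27 yc29 zc56) (kc xc24 yc31 zc31) (kc xc30 yc1 zc5) (kc xc28 yc2 zc4) (kc xc23 yc45 zc19) (kc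 xc32 yc31 zc6) (kc xc24 yc9 zc46) (kc xc23 yc57 zc44) (kc xc31 yc22 zc9) (kc xc32 yc11 zc49) (kc xc32 yc46 zc32) (kc xc30 yc20 zc48) (kc xc23 yc49 zc3) (kc xc32 yc21 zc42) (kc xc32 yc11 zc30) (kc xc32 yc11 zc27) (kc xc30 yc25 zc10) (kc xc23 yc45 zc44) (kc xc30 yc25 zc9) (kc xc29 yc45 zc32) (kc xc29 yc45 zc6) (kc xc29 yc26 zc41) (kc xc32 yc10 zc38) (kc xc32 yc44 zc35) (kc xc32 yc38 zc27) (kc xc32 yc10 zc45) (kc xc24 yc1 zc16) (kc xc24 yc1 zc17) (kc xc24 yc24 zc28) (kc xc23 yc46 zc6) (kc xc30 yc25 zc16) (kc xc24 yc24 zc57) (kc xc32 yc51 zc8) (kc xc30 yc29 zc4) (kc xc30 yc50 zc15) (kc xc30 yc13 zc42) (kc xc23 yc46 zc26) (kc xc31 yc13 zc30) (kc xc31 yc13 zc58) (kc xc28 yc6 zc41) (kc xc30 yc55 zc31) (kc xc24 yc18 zc51)) (@D3.rec (fun _ => Pt) (kc xc23 yc46 zc48) (kc xc23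 yc46 zc49) (kc xc24 yc33 zc0) (kc xc27 yc37 zc36) (kc xc29 yc25 zc18) (kc xc30 yc24 zc52) (kc xc30 yc45 zc5) (kc xc23 yc47 zc10) (kc xc30 yc49 zc17) (kc xc29 yc35 zc10) (kc xc27 yc8 zc27) (kc xc27 yc2 zc13) (kc xc23 yc47 zc19) (kc xc30 yc38 zc0) (kc xc30 yc37 zc46) (kc xc23 yc51 zc35) (kc xc29 yc47 zc58) (kc xc28 yc25 zc15) (kc xc23 yc47 zc29) (kc xc23 yc55 zc30) (kc xc23 yc47 zc32) (kc xc23 yc47 zc39) (kc xc30 yc50 zc52) (kc xc30 yc10 zc36) (kc xc23 yc47 zc42) (kc xc26 yc28 zc21) (kc xc30 yc23 zc51) (kc xc31 yc6 zc36) (kc xc30 yc18 zc35) (kc xc30 yc32 zc15) (kc xc31 yc12 zc57) (kc xc31 yc51 zc41) (kc xc28 yc47 zc15) (kc xc23 yc48 zc30) (kc xc24 yc10 zc41) (kc xc30 yc20 zc58) (kc xc24 yc12 zc30) (kc xc26 yc53 zc21) (kc xc30 yc20 zc54) (kc xc23 yc48 zc13) (kc xc31 yc23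 zc6) (kc xc30 yc32 zc24) (kc xc23 yc48 zc16) (kc xc31 yc23 zc4) (kc xc31 yc10 zc51) (kc xc30 yc37 zc58) (kc xc23 yc48 zc26) (kc xc30 yc11 zc1) (kc xc23 yc52 zc21) (kc xc32 yc51 zc55) (kc xc32 yc14 zc47) (kc xc32 yc53 zc7) (kc xc29 yc2 zc0) (kc xc23 yc48 zc55) (kc xc32 yc20 zc15) (kc xc32 yc52 zc2) (kc xc32 yc51 zc52) (kc xc24 yc26 zc56) (kc xc31 yc12 zc58) (kc xc28 yc17 zc46) (kc xc23 yc49 zc1) (kc xc23 yc49 zc5)) (@D3.rec (fun _ => Pt) (kc xc32 yc20 zc57) (kc xc23 yc49 zc9) (kc xc23 yc49 zc12) (kc xc23 yc49 zc13) (kc xc32 yc17 zc8) (kc xc29 yc31 zc37) (kc xc28 yc49 zc1) (kc xc32 yc40 zc14) (kc xc23 yc49 zc18) (kc xc23 yc49 zc20) (kc xc23 yc49 zc24) (kc xc28 yc13 zc12) (kc xc23 yc49 zc30) (kc xc25 yc38 zc40) (kc xc23 yc49 zc33) (kc xc23 yc49 zc35) (kc xc27 yc37 zc57)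 (kc xc28 yc25 zc19) (kc xc28 yc16 zc24) (kc xc23 yc49 zc49) (kc xc24 yc5 zc5) (kc xc26 yc51 zc56) (kc xc31 yc27 zc59) (kc xc32 yc15 zc37) (kc xc27 yc1 zc6) (kc xc27 yc53 zc56) (kc xc32 yc31 zc41) (kc xc32 yc56 zc9) (kc xc23 yc50 zc14) (kc xc27 yc59 zc50) (kc xc25 yc23 zc61) (kc xc24 yc36 zc14) (kc xc27 yc20 zc52) (kc xc25 yc1 zc8) (kc xc31 yc56 zc22) (kc xc32 yc7 zc33) (kc xc32 yc25 zc43) (kc xc28 yc6 zc20) (kc xc28 yc21 zc24) (kc xc27 yc39 zc54) (kc xc31 yc43 zc58) (kc xc28 yc12 zc7) (kc xc23 yc50 zc44) (kc xc27 yc47 zc32) (kc xc23 yc50 zc42) (kc xc28 yc7 zc21) (kc xc28 yc6 zc17) (kc xc32 yc25 zc38) (kc xc31 yc1 zc31) (kc xc23 yc50 zc53) (kc xc32 yc55 zc40) (kc xc32 yc6 zc36) (kc xc31 yc6 zc56) (kc xc28 yc2 zc18) (kc xc23 yc51 zc2) (kc xc26 yc27 zc19) (kc xc32 yc44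 zc20) (kc xc32 yc21 zc32) (kc xc31 yc37 zc38) (kc xc23 yc50 zc59) (kc xc23 yc50 zc57) (kc xc23 yc50 zc58)) (@D3.rec (fun _ => Pt) (kc xc26 yc34 zc37) (kc xc24 yc24 zc25) (kc xc24 yc2 zc6) (kc xc23 yc51 zc15) (kc xc32 yc51 zc45) (kc xc31 yc45 zc13) (kc xc23 yc51 zc23) (kc xc23 yc51 zc24) (kc xc28 yc14 zc41) (kc xc23 yc51 zc20) (kc xc23 yc51 zc18) (kc xc32 yc56 zc12) (kc xc31 yc51 zc30) (kc xc23 yc51 zc19) (kc xc32 yc56 zc14) (kc xc30 yc22 zc23) (kc xc23 yc51 zc31) (kc xc32 yc48 zc4) (kc xc23 yc51 zc32) (kc xc23 yc51 zc33) (kc xc24 yc40 zc42) (kc xc32 yc56 zc13) (kc xc28 yc15 zc3) (kc xc27 yc40 zc9) (kc xc23 yc51 zc45) (kc xc23 yc51 zc46) (kc xc26 yc25 zc59) (kc xc23 yc51 zc41) (kc xc24 yc50 zc8) (kc xc27 yc34 zc61) (kc xc24 yc50 zc12) (kc xc23 yc51 zc42) (kc xc23 yc51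 zc44) (kc xc32 yc6 zc24) (kc xc32 yc29 zc43) (kc xc27 yc33 zc57) (kc xc32 yc53 zc28) (kc xc28 yc15 zc5) (kc xc28 yc35 zc40) (kc xc29 yc38 zc48) (kc xc30 yc35 zc7) (kc xc30 yc49 zc39) (kc xc27 yc31 zc14) (kc xc23 yc52 zc39) (kc xc30 yc39 zc33) (kc xc32 yc42 zc44) (kc xc32 yc42 zc45) (kc xc29 yc48 zc14) (kc xc30 yc46 zc35) (kc xc31 yc22 zc39) (kc xc29 yc30 zc18) (kc xc24 yc6 zc11) (kc xc29 yc27 zc39) (kc xc32 yc3 zc0) (kc xc32 yc15 zc28) (kc xc30 yc20 zc44) (kc xc24 yc6 zc27) (kc xc29 yc1 zc39) (kc xc28 yc55 zc42) (kc xc27 yc15 zc9) (kc xc27 yc15 zc1) (kc xc32 yc51 zc42)) (@D3.rec (fun _ => Pt) (kc xc26 yc5 zc19) (kc xc30 yc43 zc39) (kc xc26 yc26 zc0) (kc xc26 yc17 zc37) (kc xc26 yc44 zc7) (kc xc30 yc56 zc23) (kc xc31 yc30 zc40) (kc xc29 yc54 zc35) (kc xc24 yc47 zc39)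 (kc xc32 yc7 zc21) (kc xc28 yc10 zc12) (kc xc28 yc8 zc50) (kc xc32 yc56 zc17) (kc xc27 yc1 zc60) (kc xc27 yc1 zc57) (kc xc32 yc56 zc18) (kc xc23 yc54 zc3) (kc xc24 yc57 zc26) (kc xc27 yc10 zc0) (kc xc30 yc53 zc34) (kc xc31 yc40 zc16) (kc xc26 yc31 zc47) (kc xc32 yc29 zc50) (kc xc31 yc25 zc42) (kc xc26 yc31 zc46) (kc xc23 yc54 zc20) (kc xc30 yc54 zc48) (kc xc25 yc57 zc15) (kc xc32 yc55 zc3) (kc xc31 yc46 zc23) (kc xc30 yc42 zc39) (kc xc28 yc8 zc13) (kc xc28 yc8 zc14) (kc xc27 yc49 zc19) (kc xc23 yc54 zc26) (kc xc30 yc47 zc35) (kc xc31 yc5 zc12) (kc xc23 yc54 zc28) (kc xc31 yc24 zc61) (kc xc31 yc11 zc55) (kc xc29 yc24 zc23) (kc xc31 yc11 zc53) (kc xc31 yc10 zc30) (kc xc31 yc11 zc48) (kc xc23 yc54 zc31) (kc xc23 yc54 zc37) (kc xc32 yc39 zc3) (kc xc30 yc10 zc47) (kc xc27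 yc14 zc23) (kc xc31 yc1 zc13) (kc xc31 yc1 zc12) (kc xc31 yc1 zc11) (kc xc31 yc1 zc9) (kc xc32 yc53 zc14) (kc xc23 yc54 zc51) (kc xc23 yc54 zc52) (kc xc32 yc1 zc35) (kc xc30 yc31 zc44) (kc xc29 yc53 zc0) (kc xc31 yc57 zc37) (kc xc32 yc48 zc57) (kc xc23 yc55 zc3)) (@D3.rec (fun _ => Pt) (kc xc23 yc55 zc7) (kc xc23 yc56 zc59) (kc xc25 yc34 zc39) (kc xc23 yc55 zc14) (kc xc32 yc1 zc2) (kc xc23 yc55 zc28) (kc xc24 yc49 zc38) (kc xc32 yc49 zc38) (kc xc32 yc14 zc14) (kc xc29 yc37 zc61) (kc xc29 yc18 zc44) (kc xc23 yc55 zc45) (kc xc32 yc3 zc25) (kc xc31 yc41 zc50) (kc xc31 yc32 zc14) (kc xc31 yc56 zc17) (kc xc31 yc39 zc40) (kc xc31 yc26 zc14) (kc xc32 yc36 zc12) (kc xc31 yc19 zc44) (kc xc31 yc50 zc58) (kc xc23 yc55 zc57) (kc xc28 yc44 zc60) (kc xc29 yc59 zc40) (kc xc27 yc53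 zc1) (kc xc27 yc9 zc49) (kc xc25 yc16 zc48) (kc xc32 yc22 zc45) (kc xc23 yc56 zc11) (kc xc25 yc36 zc17) (kc xc31 yc25 zc48) (kc xc23 yc57 zc16) (kc xc30 yc30 zc13) (kc xc24 yc12 zc50) (kc xc24 yc13 zc9) (kc xc25 yc8 zc7) (kc xc24 yc13 zc2) (kc xc23 yc56 zc37) (kc xc28 yc15 zc33) (kc xc24 yc28 zc46) (kc xc24 yc39 zc49) (kc xc23 yc56 zc44) (kc xc28 yc54 zc42) (kc xc23 yc56 zc57) (kc xc23 yc56 zc61) (kc xc23 yc57 zc2) (kc xc23 yc57 zc4) (kc xc30 yc44 zc0) (kc xc30 yc6 zc1) (kc xc30 yc24 zc8) (kc xc31 yc23 zc19) (kc xc23 yc57 zc19) (kc xc23 yc57 zc20) (kc xc23 yc57 zc31) (kc xc26 yc57 zc5) (kc xc31 yc41 zc37) (kc xc24 yc5 zc56) (kc xc28 yc39 zc31) (kc xc32 yc11 zc46) (kc xc28 yc39 zc47) (kc xc23 yc57 zc32) (kc xc28 yc24 zc8)) (@D3.rec (fun _ => Pt) (kc xc31 yc22 zc10) (kc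 xc30 yc27 zc51) (kc xc24 yc25 zc54) (kc xc25 yc59 zc19) (kc xc30 yc15 zc46) (kc xc23 yc57 zc53) (kc xc26 yc54 zc14) (kc xc23 yc58 zc1) (kc xc23 yc58 zc9) (kc xc23 yc58 zc11) (kc xc32 yc40 zc34) (kc xc23 yc58 zc14) (kc xc31 yc37 zc23) (kc xc29 yc47 zc28) (kc xc25 yc19 zc8) (kc xc29 yc26 zc60) (kc xc23 yc58 zc46) (kc xc28 yc30 zc17) (kc xc23 yc58 zc55) (kc xc23 yc58 zc56) (kc xc24 yc5 zc14) (kc xc23 yc58 zc61) (kc xc23 yc59 zc1) (kc xc25 yc51 zc11) (kc xc28 yc52 zc24) (kc xc30 yc27 zc20) (kc xc31 yc22 zc8) (kc xc32 yc39 zc33) (kc xc24 yc0 zc5) (kc xc32 yc42 zc6) (kc xc25 yc49 zc22) (kc xc32 yc38 zc55) (kc xc32 yc14 zc46) (kc xc23 yc59 zc39) (kc xc29 yc47 zc22) (kc xc29 yc47 zc21) (kc xc29 yc10 zc36) (kc xc23 yc59 zc44) (kc xc31 yc1 zc51) (kc xc32 yc46 zc43) (kc xc24 yc26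 zc22) (kc xc32 yc0 zc51) (kc xc29 yc48 zc44) (kc xc29 yc23 zc25) (kc xc30 yc8 zc28) (kc xc24 yc0 zc8) (kc xc30 yc47 zc52) (kc xc28 yc42 zc60) (kc xc30 yc27 zc29) (kc xc23 yc59 zc60) (kc xc31 yc51 zc26) (kc xc32 yc43 zc41) (kc xc32 yc38 zc1) (kc xc26 yc9 zc12) (kc xc31 yc26 zc60) (kc xc31 yc46 zc34) (kc xc24 yc0 zc4) (kc xc25 yc51 zc7) (kc xc32 yc41 zc33) (kc xc24 yc28 zc33) (kc xc24 yc25 zc52) (kc xc30 yc29 zc1)) (@D3.rec (fun _ => Pt) (kc xc30 yc16 zc19) (kc xc28 yc45 zc14) (kc xc30 yc28 zc60) (kc xc30 yc28 zc58) (kc xc24 yc16 zc41) (kc xc28 yc43 zc56) (kc xc30 yc28 zc54) (kc xc30 yc27 zc48) (kc xc24 yc0 zc22) (kc xc24 yc0 zc23) (kc xc26 yc33 zc28) (kc xc24 yc0 zc25) (kc xc27 yc49 zc7) (kc xc32 yc11 zc45) (kc xc26 yc17 zc26) (kc xc29 yc7 zc0) (kc xc26 yc24 zc29) (kc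 xc24 yc0 zc49) (kc xc30 yc30 zc57) (kc xc29 yc45 zc30) (kc xc26 yc38 zc2) (kc xc29 yc45 zc31) (kc xc28 yc40 zc31) (kc xc32 yc14 zc12) (kc xc32 yc33 zc8) (kc xc24 yc0 zc60) (kc xc30 yc29 zc5) (kc xc31 yc52 zc38) (kc xc32 yc19 zc12) (kc xc24 yc0 zc61) (kc xc26 yc41 zc7) (kc xc29 yc33 zc41) (kc xc30 yc25 zc33) (kc xc30 yc25 zc31) (kc xc29 yc34 zc15) (kc xc32 yc18 zc42) (kc xc32 yc19 zc13) (kc xc24 yc1 zc12) (kc xc26 yc56 zc55) (kc xc25 yc27 zc31) (kc xc29 yc17 zc15) (kc xc31 yc35 zc19) (kc xc24 yc23 zc56) (kc xc31 yc40 zc22) (kc xc31 yc17 zc19) (kc xc30 yc15 zc28) (kc xc24 yc1 zc32) (kc xc31 yc27 zc11) (kc xc30 yc15 zc26) (kc xc30 yc15 zc19) (kc xc29 yc8 zc6) (kc xc29 yc9 zc17) (kc xc31 yc22 zc42) (kc xc24 yc1 zc50) (kc xc32 yc50 zc12) (kc xc32 yc50 zc13) (kc xc24 yc1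 zc53) (kc xc32 yc47 zc29) (kc xc24 yc1 zc55) (kc xc32 yc56 zc33) (kc xc24 yc1 zc57) (kc xc24 yc1 zc59)) (@D3.rec (fun _ => Pt) (kc xc32 yc56 zc34) (kc xc24 yc1 zc60) (kc xc32 yc56 zc36) (kc xc27 yc2 zc26) (kc xc24 yc15 zc39) (kc xc24 yc2 zc0) (kc xc25 yc21 zc7) (kc xc31 yc28 zc43) (kc xc32 yc33 zc0) (kc xc25 yc21 zc6) (kc xc31 yc40 zc9) (kc xc31 yc40 zc7) (kc xc24 yc2 zc15) (kc xc24 yc2 zc21) (kc xc26 yc33 zc36) (kc xc24 yc2 zc22) (kc xc27 yc20 zc50) (kc xc24 yc2 zc23) (kc xc24 yc2 zc36) (kc xc24 yc27 zc38) (kc xc24 yc2 zc25) (kc xc26 yc38 zc19) (kc xc26 yc33 zc37) (kc xc24 yc2 zc30) (kc xc26 yc37 zc1) (kc xc26 yc37 zc20) (kc xc32 yc14 zc24) (kc xc32 yc41 zc28) (kc xc31 yc27 zc7) (kc xc29 yc41 zc32) (kc xc31 yc28 zc58) (kc xc24 yc2 zc42) (kc xc32 yc1 zc5) (kc xc32 yc50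 zc57) (kc xc27 yc11 zc47) (kc xc27 yc11 zc49) (kc xc24 yc2 zc58) (kc xc25 yc41 zc32) (kc xc24 yc2 zc48) (kc xc25 yc52 zc28) (kc xc30 yc28 zc59) (kc xc31 yc51 zc17) (kc xc24 yc2 zc51) (kc xc31 yc41 zc30) (kc xc32 yc47 zc8) (kc xc28 yc43 zc3) (kc xc31 yc50 zc55) (kc xc24 yc3 zc8) (kc xc25 yc38 zc50) (kc xc24 yc3 zc7) (kc xc31 yc50 zc52) (kc xc24 yc48 zc57) (kc xc28 yc41 zc47) (kc xc24 yc3 zc10) (kc xc28 yc42 zc27) (kc xc29 yc59 zc45) (kc xc30 yc6 zc24) (kc xc32 yc16 zc23) (kc xc32 yc35 zc43) (kc xc26 yc55 zc55) (kc xc26 yc38 zc10) (kc xc26 yc33 zc30)) (@D3.rec (fun _ => Pt) (kc xc28 yc29 zc27) (kc xc30 yc29 zc49) (kc xc24 yc10 zc43) (kc xc29 yc32 zc21) (kc xc25 yc59 zc55) (kc xc32 yc39 zc29) (kc xc29 yc21 zc23) (kc xc24 yc3 zc30) (kc xc26 yc19 zc29) (kc xc27 yc30 zc6)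 (kc xc24 yc33 zc24) (kc xc24 yc3 zc44) (kc xc31 yc41 zc33) (kc xc31 yc51 zc11) (kc xc29 yc15 zc19) (kc xc24 yc3 zc47) (kc xc31 yc34 zc41) (kc xc24 yc3 zc49) (kc xc31 yc36 zc13) (kc xc24 yc51 zc59) (kc xc28 yc49 zc9) (kc xc24 yc49 zc50) (kc xc29 yc23 zc43) (kc xc29 yc23 zc44) (kc xc24 yc4 zc1) (kc xc32 yc46 zc13) (kc xc24 yc4 zc2) (kc xc24 yc3 zc55) (kc xc29 yc27 zc16) (kc xc29 yc2 zc26) (kc xc27 yc12 zc0) (kc xc24 yc3 zc60) (kc xc26 yc53 zc45) (kc xc31 yc41 zc8) (kc xc24 yc3 zc58) (kc xc30 yc22 zc15) (kc xc24 yc3 zc59) (kc xc30 yc38 zc23) (kc xc29 yc17 zc58) (kc xc28 yc45 zc20) (kc xc24 yc20 zc32) (kc xc28 yc56 zc14) (kc xc24 yc9 zc32) (kc xc29 yc47 zc38) (kc xc27 yc19 zc14) (kc xc32 yc14 zc22) (kc xc31 yc45 zc25) (kc xc24 yc4 zc21) (kc xc32 yc36 zc19) (kc xc24 yc4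 zc22) (kc xc30 yc48 zc54) (kc xc31 yc40 zc53) (kc xc25 yc14 zc4) (kc xc32 yc11 zc31) (kc xc32 yc13 zc18) (kc xc29 yc9 zc29) (kc xc28 yc42 zc24) (kc xc28 yc42 zc22) (kc xc29 yc49 zc23) (kc xc24 yc34 zc4) (kc xc29 yc2 zc21) (kc xc24 yc4 zc39)) (@D3.rec (fun _ => Pt) (kc xc32 yc44 zc48) (kc xc24 yc4 zc40) (kc xc31 yc34 zc22) (kc xc24 yc4 zc33) (kc xc24 yc57 zc18) (kc xc25 yc22 zc21) (kc xc32 yc53 zc12) (kc xc32 yc53 zc59) (kc xc31 yc18 zc26) (kc xc31 yc12 zc28) (kc xc31 yc18 zc0) (kc xc30 yc28 zc37) (kc xc26 yc7 zc0) (kc xc25 yc50 zc17) (kc xc31 yc34 zc37) (kc xc30 yc23 zc44) (kc xc24 yc5 zc17) (kc xc24 yc5 zc18) (kc xc32 yc41 zc18) (kc xc24 yc13 zc38) (kc xc24 yc5 zc22) (kc xc27 yc28 zc60) (kc xc24 yc28 zc54) (kc xc24 yc6 zc49) (kc xc32 yc56 zc42) (kc xc32 yc40 zc10)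 (kc xc30 yc17 zc22) (kc xc30 yc45 zc33) (kc xc26 yc20 zc24) (kc xc26 yc20 zc25) (kc xc24 yc5 zc52) (kc xc32 yc16 zc51) (kc xc28 yc56 zc16) (kc xc24 yc5 zc59) (kc xc24 yc5 zc61) (kc xc26 yc45 zc39) (kc xc24 yc13 zc1) (kc xc29 yc30 zc17) (kc xc24 yc13 zc0) (kc xc31 yc15 zc49) (kc xc32 yc56 zc45) (kc xc31 yc31 zc24) (kc xc31 yc19 zc52) (kc xc28 yc52 zc36) (kc xc24 yc6 zc18) (kc xc24 yc6 zc19) (kc xc28 yc33 zc53) (kc xc30 yc20 zc46) (kc xc31 yc32 zc43) (kc xc29 yc7 zc53) (kc xc30 yc54 zc45) (kc xc30 yc47 zc23) (kc xc24 yc6 zc31) (kc xc24 yc30 zc22) (kc xc28 yc56 zc5) (kc xc30 yc54 zc9) (kc xc28 yc33 zc12) (kc xc30 yc26 zc44) (kc xc24 yc6 zc47) (kc xc31 yc23 zc1) (kc xc30 yc46 zc37) (kc xc30 yc46 zc40)) (@D3.rec (fun _ => Pt) (kc xc29 yc29 zc21) (kc xc31 yc22 zc59) (kc xc28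 yc8 zc36) (kc xc24 yc6 zc51) (kc xc31 yc13 zc43) (kc xc31 yc23 zc11) (kc xc31 yc13 zc40) (kc xc32 yc56 zc44) (kc xc32 yc53 zc6) (kc xc30 yc45 zc10) (kc xc30 yc30 zc47) (kc xc31 yc23 zc5) (kc xc30 yc38 zc36) (kc xc30 yc22 zc19) (kc xc24 yc21 zc35) (kc xc24 yc7 zc20) (kc xc24 yc7 zc25) (kc xc24 yc7 zc29) (kc xc29 yc28 zc29) (kc xc31 yc17 zc50) (kc xc31 yc30 zc12) (kc xc24 yc7 zc44) (kc xc29 yc48 zc27) (kc xc24 yc7 zc42) (kc xc24 yc7 zc46) (kc xc31 yc9 zc24) (kc xc25 yc8 zc37) (kc xc27 yc54 zc58) (kc xc27 yc54 zc57) (kc xc29 yc20 zc54) (kc xc28 yc8 zc35) (kc xc28 yc8 zc31) (kc xc24 yc9 zc35) (kc xc24 yc10 zc0) (kc xc28 yc26 zc57) (kc xc26 yc26 zc13) (kc xc29 yc41 zc59) (kc xc28 yc33 zc45) (kc xc24 yc8 zc50) (kc xc28 yc8 zc55) (kc xc24 yc8 zc60) (kc xc30 yc14 zc46) (kc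 xc26 yc57 zc18) (kc xc28 yc7 zc10) (kc xc24 yc9 zc10) (kc xc31 yc25 zc2) (kc xc30 yc45 zc18) (kc xc24 yc9 zc19) (kc xc30 yc56 zc50) (kc xc24 yc9 zc39) (kc xc24 yc11 zc12) (kc xc25 yc49 zc61) (kc xc29 yc5 zc54) (kc xc30 yc16 zc35) (kc xc28 yc44 zc4) (kc xc32 yc56 zc47) (kc xc24 yc10 zc1) (kc xc25 yc31 zc53) (kc xc30 yc27 zc19) (kc xc24 yc10 zc12) (kc xc29 yc48 zc25) (kc xc24 yc30 zc1)) (@D3.rec (fun _ => Pt) (kc xc24 yc10 zc39) (kc xc30 yc22 zc14) (kc xc30 yc34 zc8) (kc xc30 yc27 zc21) (kc xc32 yc48 zc0) (kc xc31 yc36 zc36) (kc xc32 yc40 zc5) (kc xc32 yc21 zc22) (kc xc29 yc27 zc3) (kc xc27 yc6 zc29) (kc xc26 yc53 zc0) (kc xc24 yc11 zc4) (kc xc24 yc11 zc0) (kc xc24 yc11 zc2) (kc xc32 yc48 zc35) (kc xc30 yc31 zc18) (kc xc24 yc11 zc7) (kc xc30 yc56 zc56) (kc xc27 yc22 zc37)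 (kc xc24 yc11 zc15) (kc xc24 yc50 zc10) (kc xc24 yc11 zc18) (kc xc29 yc44 zc55) (kc xc29 yc44 zc36) (kc xc24 yc11 zc21) (kc xc26 yc34 zc1) (kc xc25 yc10 zc28) (kc xc25 yc51 zc21) (kc xc32 yc35 zc39) (kc xc28 yc50 zc10) (kc xc32 yc16 zc50) (kc xc24 yc11 zc41) (kc xc24 yc50 zc27) (kc xc28 yc58 zc36) (kc xc29 yc23 zc36) (kc xc32 yc17 zc61) (kc xc24 yc48 zc41) (kc xc25 yc34 zc57) (kc xc24 yc11 zc44) (kc xc32 yc24 zc9) (kc xc29 yc47 zc12) (kc xc26 yc42 zc6) (kc xc32 yc45 zc31) (kc xc24 yc11 zc49) (kc xc25 yc30 zc32) (kc xc31 yc27 zc25) (kc xc24 yc11 zc50) (kc xc24 yc22 zc25) (kc xc25 yc56 zc24) (kc xc29 yc8 zc18) (kc xc29 yc26 zc26) (kc xc29 yc45 zc10) (kc xc28 yc30 zc12) (kc xc24 yc12 zc5) (kc xc32 yc38 zc32) (kc xc32 yc13 zc44) (kc xc28 yc30 zc9) (kc xc30 yc29 zc8) (kc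 xc24 yc12 zc10) (kc xc26 yc49 zc22) (kc xc24 yc12 zc12) (kc xc31 yc16 zc38)) (@D3.rec (fun _ => Pt) (kc xc30 yc43 zc2) (kc xc25 yc26 zc44) (kc xc31 yc23 zc45) (kc xc24 yc12 zc28) (kc xc32 yc12 zc43) (kc xc24 yc12 zc24) (kc xc31 yc40 zc3) (kc xc24 yc12 zc39) (kc xc32 yc28 zc43) (kc xc32 yc30 zc21) (kc xc32 yc17 zc13) (kc xc28 yc44 zc43) (kc xc24 yc13 zc45) (kc xc28 yc20 zc2) (kc xc32 yc44 zc26) (kc xc25 yc48 zc0) (kc xc24 yc12 zc52) (kc xc25 yc4 zc39) (kc xc26 yc59 zc61) (kc xc30 yc3 zc24) (kc xc24 yc12 zc60) (kc xc24 yc12 zc59) (kc xc29 yc3 zc1) (kc xc28 yc22 zc50) (kc xc32 yc55 zc1) (kc xc32 yc18 zc21) (kc xc29 yc21 zc29) (kc xc32 yc45 zc24) (kc xc32 yc13 zc47) (kc xc26 yc26 zc9) (kc xc30 yc6 zc27) (kc xc31 yc57 zc32) (kc xc24 yc13 zc11) (kc xc24 yc13 zc12) (kc xc31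 yc55 zc20) (kc xc32 yc30 zc52) (kc xc31 yc47 zc37) (kc xc30 yc3 zc34) (kc xc27 yc51 zc19) (kc xc24 yc14 zc5) (kc xc32 yc16 zc30) (kc xc24 yc14 zc14) (kc xc31 yc16 zc23) (kc xc32 yc36 zc47) (kc xc26 yc24 zc1) (kc xc24 yc13 zc27) (kc xc24 yc13 zc37) (kc xc24 yc23 zc48) (kc xc31 yc17 zc30) (kc xc28 yc9 zc17) (kc xc24 yc13 zc47) (kc xc30 yc50 zc19) (kc xc27 yc53 zc8) (kc xc31 yc33 zc34) (kc xc32 yc8 zc48) (kc xc28 yc46 zc37) (kc xc28 yc46 zc41) (kc xc24 yc14 zc8) (kc xc32 yc38 zc50) (kc xc24 yc14 zc13) (kc xc31 yc31 zc33) (kc xc27 yc49 zc43)) (@D3.rec (fun _ => Pt) (kc xc24 yc14 zc26) (kc xc26 yc38 zc46) (kc xc24 yc14 zc28) (kc xc30 yc11 zc4) (kc xc29 yc42 zc37) (kc xc24 yc14 zc36) (kc xc32 yc38 zc41) (kc xc31 yc51 zc42) (kc xc24 yc14 zc39) (kc xc27 yc43 zc52) (kc xc32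 yc54 zc26) (kc xc32 yc54 zc44) (kc xc24 yc14 zc42) (kc xc30 yc30 zc3) (kc xc31 yc17 zc17) (kc xc24 yc30 zc27) (kc xc29 yc40 zc39) (kc xc24 yc14 zc45) (kc xc31 yc29 zc16) (kc xc24 yc39 zc21) (kc xc24 yc14 zc55) (kc xc31 yc56 zc38) (kc xc24 yc14 zc57) (kc xc25 yc9 zc27) (kc xc24 yc26 zc38) (kc xc32 yc45 zc32) (kc xc28 yc57 zc10) (kc xc32 yc50 zc16) (kc xc27 yc23 zc41) (kc xc24 yc15 zc13) (kc xc30 yc45 zc20) (kc xc24 yc15 zc12) (kc xc31 yc49 zc24) (kc xc31 yc47 zc18) (kc xc25 yc34 zc49) (kc xc29 yc49 zc21) (kc xc31 yc46 zc15) (kc xc30 yc54 zc22) (kc xc26 yc36 zc27) (kc xc24 yc15 zc36) (kc xc30 yc8 zc6) (kc xc32 yc4 zc29) (kc xc32 yc50 zc34) (kc xc27 yc45 zc22) (kc xc24 yc15 zc48) (kc xc24 yc15 zc46) (kc xc32 yc44 zc17) (kc xc24 yc15 zc51) (kc xc31 yc10 zc7) (kc xc24 yc15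 zc55) (kc xc30 yc34 zc38) (kc xc24 yc55 zc52) (kc xc25 yc9 zc28) (kc xc32 yc27 zc3) (kc xc29 yc22 zc52) (kc xc26 yc7 zc16) (kc xc32 yc32 zc6) (kc xc24 yc16 zc16) (kc xc32 yc56 zc49) (kc xc32 yc44 zc29) (kc xc31 yc18 zc54) (kc xc24 yc39 zc45)) (@D3.rec (fun _ => Pt) (kc xc30 yc4 zc17) (kc xc31 yc36 zc54) (kc xc32 yc48 zc44) (kc xc25 yc10 zc50) (kc xc31 yc43 zc47) (kc xc26 yc34 zc28) (kc xc29 yc44 zc24) (kc xc31 yc20 zc28) (kc xc24 yc16 zc44) (kc xc29 yc45 zc18) (kc xc32 yc12 zc4) (kc xc31 yc19 zc47) (kc xc30 yc44 zc47) (kc xc24 yc16 zc47) (kc xc24 yc16 zc56) (kc xc31 yc32 zc39) (kc xc31 yc31 zc30) (kc xc24 yc16 zc53) (kc xc31 yc3 zc40) (kc xc27 yc12 zc33) (kc xc24 yc33 zc61) (kc xc31 yc31 zc31) (kc xc32 yc45 zc28) (kc xc29 yc45 zc20) (kc xc30 yc17 zc20) (kc xc31 yc24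 zc45) (kc xc24 yc17 zc16) (kc xc29 yc45 zc16) (kc xc29 yc33 zc49) (kc xc30 yc19 zc20) (kc xc24 yc17 zc12) (kc xc26 yc35 zc58) (kc xc30 yc1 zc17) (kc xc31 yc38 zc22) (kc xc26 yc14 zc4) (kc xc24 yc33 zc59) (kc xc24 yc33 zc60) (kc xc32 yc47 zc15) (kc xc26 yc47 zc42) (kc xc32 yc49 zc49) (kc xc24 yc17 zc28) (kc xc27 yc24 zc45) (kc xc30 yc14 zc7) (kc xc24 yc17 zc36) (kc xc32 yc53 zc60) (kc xc29 yc49 zc22) (kc xc24 yc17 zc41) (kc xc32 yc51 zc38) (kc xc24 yc17 zc43) (kc xc24 yc17 zc44) (kc xc30 yc35 zc60) (kc xc24 yc17 zc45) (kc xc31 yc2 zc3) (kc xc29 yc4 zc61) (kc xc29 yc3 zc59) (kc xc30 yc9 zc41) (kc xc30 yc10 zc30) (kc xc29 yc10 zc23) (kc xc24 yc18 zc5) (kc xc31 yc14 zc22) (kc xc27 yc9 zc6) (kc xc28 yc56 zc12)) (@D3.rec (fun _ => Pt) (kc xc25 yc27 zc11) (kc xc31 yc36 zc43)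 (kc xc24 yc18 zc40) (kc xc29 yc1 zc37) (kc xc30 yc46 zc52) (kc xc31 yc54 zc37) (kc xc24 yc18 zc48) (kc xc26 yc56 zc36) (kc xc32 yc54 zc47) (kc xc24 yc18 zc55) (kc xc24 yc18 zc58) (kc xc24 yc19 zc3) (kc xc24 yc49 zc15) (kc xc24 yc19 zc5) (kc xc24 yc19 zc7) (kc xc28 yc58 zc46) (kc xc29 yc50 zc18) (kc xc31 yc49 zc55) (kc xc31 yc32 zc11) (kc xc28 yc53 zc55) (kc xc24 yc19 zc39) (kc xc24 yc19 zc20) (kc xc25 yc19 zc56) (kc xc24 yc20 zc51) (kc xc25 yc15 zc7) (kc xc28 yc59 zc60) (kc xc24 yc21 zc17) (kc xc30 yc12 zc4) (kc xc24 yc20 zc5) (kc xc28 yc59 zc56) (kc xc32 yc0 zc42) (kc xc30 yc17 zc31) (kc xc24 yc21 zc6) (kc xc32 yc38 zc33) (kc xc31 yc51 zc23) (kc xc24 yc19 zc35) (kc xc32 yc21 zc52) (kc xc28 yc49 zc18) (kc xc24 yc19 zc36) (kc xc26 yc54 zc10) (kc xc32 yc43 zc59) (kc xc25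 yc20 zc50) (kc xc24 yc20 zc24) (kc xc31 yc20 zc7) (kc xc24 yc20 zc10) (kc xc24 yc19 zc56) (kc xc24 yc54 zc41) (kc xc32 yc30 zc61) (kc xc24 yc20 zc0) (kc xc29 yc17 zc39) (kc xc24 yc27 zc33) (kc xc24 yc20 zc22) (kc xc28 yc47 zc35) (kc xc24 yc20 zc26) (kc xc25 yc52 zc42) (kc xc24 yc20 zc48) (kc xc29 yc1 zc49) (kc xc24 yc20 zc53) (kc xc31 yc20 zc30) (kc xc32 yc21 zc7) (kc xc31 yc54 zc42) (kc xc29 yc3 zc34)) (@D3.rec (fun _ => Pt) (kc xc26 yc41 zc27) (kc xc32 yc13 zc4) (kc xc26 yc40 zc23) (kc xc26 yc40 zc22) (kc xc32 yc57 zc9) (kc xc28 yc54 zc54) (kc xc32 yc54 zc35) (kc xc27 yc57 zc23) (kc xc31 yc39 zc42) (kc xc32 yc0 zc15) (kc xc32 yc32 zc42) (kc xc26 yc5 zc50) (kc xc28 yc50 zc61) (kc xc32 yc57 zc8) (kc xc32 yc44 zc32) (kc xc28 yc48 zc45) (kc xc31 yc26 zc18) (kc xc25 yc23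 zc42) (kc xc27 yc10 zc26) (kc xc25 yc4 zc21) (kc xc30 yc43 zc1) (kc xc24 yc21 zc40) (kc xc29 yc44 zc60) (kc xc29 yc26 zc24) (kc xc29 yc46 zc57) (kc xc32 yc47 zc51) (kc xc28 yc27 zc23) (kc xc30 yc39 zc36) (kc xc25 yc29 zc7) (kc xc24 yc32 zc10) (kc xc30 yc56 zc2) (kc xc26 yc7 zc53) (kc xc30 yc55 zc59) (kc xc32 yc13 zc3) (kc xc27 yc19 zc39) (kc xc24 yc22 zc24) (kc xc32 yc42 zc17) (kc xc32 yc51 zc48) (kc xc24 yc22 zc28) (kc xc29 yc1 zc47) (kc xc24 yc22 zc40) (kc xc31 yc30 zc46) (kc xc32 yc38 zc31) (kc xc24 yc22 zc51) (kc xc24 yc24 zc61) (kc xc24 yc25 zc0) (kc xc28 yc39 zc24) (kc xc24 yc22 zc49) (kc xc30 yc26 zc40) (kc xc32 yc10 zc42) (kc xc24 yc22 zc60) (kc xc31 yc35 zc45) (kc xc25 yc48 zc31) (kc xc24 yc23 zc6) (kc xc32 yc0 zc18) (kc xc29 yc1 zc17) (kc xc32 yc17 zc45) (kc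 xc32 yc34 zc60) (kc xc24 yc23 zc15) (kc xc32 yc39 zc22) (kc xc31 yc40 zc15) (kc xc24 yc23 zc16)) (@D3.rec (fun _ => Pt) (kc xc28 yc34 zc26) (kc xc28 yc30 zc46) (kc xc25 yc49 zc19) (kc xc32 yc57 zc11) (kc xc24 yc23 zc20) (kc xc32 yc17 zc42) (kc xc29 yc47 zc44) (kc xc29 yc8 zc14) (kc xc24 yc23 zc29) (kc xc32 yc38 zc26) (kc xc32 yc14 zc49) (kc xc24 yc23 zc43) (kc xc31 yc23 zc20) (kc xc30 yc26 zc33) (kc xc32 yc36 zc27) (kc xc32 yc28 zc3) (kc xc24 yc23 zc49) (kc xc31 yc56 zc32) (kc xc31 yc56 zc34) (kc xc32 yc21 zc9) (kc xc32 yc49 zc4) (kc xc25 yc40 zc15) (kc xc32 yc26 zc4) (kc xc24 yc24 zc6) (kc xc31 yc5 zc17) (kc xc30 yc44 zc18) (kc xc29 yc33 zc10) (kc xc24 yc24 zc30) (kc xc27 yc0 zc34) (kc xc30 yc53 zc8) (kc xc32 yc37 zc25) (kc xc32 yc40 zc57) (kc xc24 yc24 zc35) (kc xc24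 yc24 zc36) (kc xc30 yc30 zc61) (kc xc29 yc34 zc7) (kc xc30 yc35 zc45) (kc xc30 yc37 zc54) (kc xc32 yc52 zc19) (kc xc29 yc31 zc27) (kc xc31 yc16 zc6) (kc xc32 yc36 zc53) (kc xc32 yc37 zc11) (kc xc26 yc50 zc56) (kc xc26 yc52 zc3) (kc xc24 yc25 zc2) (kc xc31 yc29 zc41) (kc xc29 yc26 zc12) (kc xc24 yc25 zc1) (kc xc32 yc56 zc43) (kc xc32 yc15 zc49) (kc xc24 yc25 zc4) (kc xc30 yc50 zc2) (kc xc32 yc52 zc34) (kc xc32 yc17 zc19) (kc xc24 yc25 zc13) (kc xc25 yc25 zc48) (kc xc24 yc25 zc16) (kc xc24 yc25 zc20) (kc xc24 yc25 zc21) (kc xc27 yc13 zc50) (kc xc28 yc49 zc43)) (@D3.rec (fun _ => Pt) (kc xc24 yc25 zc32) (kc xc29 yc3 zc9) (kc xc29 yc55 zc53) (kc xc29 yc33 zc32) (kc xc27 yc2 zc28) (kc xc28 yc12 zc48) (kc xc28 yc54 zc45) (kc xc28 yc54 zc44) (kc xc24 yc26 zc45) (kc xc24 yc25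 zc44) (kc xc29 yc45 zc36) (kc xc30 yc31 zc1) (kc xc26 yc40 zc50) (kc xc24 yc26 zc39) (kc xc24 yc25 zc48) (kc xc31 yc33 zc39) (kc xc24 yc26 zc37) (kc xc28 yc53 zc46) (kc xc24 yc26 zc0) (kc xc24 yc25 zc61) (kc xc30 yc19 zc5) (kc xc32 yc57 zc16) (kc xc32 yc31 zc12) (kc xc32 yc57 zc15) (kc xc31 yc22 zc41) (kc xc29 yc36 zc58) (kc xc29 yc21 zc0) (kc xc29 yc44 zc48) (kc xc32 yc0 zc8) (kc xc29 yc20 zc59) (kc xc31 yc27 zc16) (kc xc31 yc27 zc21) (kc xc29 yc21 zc2) (kc xc31 yc25 zc60) (kc xc30 yc15 zc40) (kc xc24 yc26 zc20) (kc xc25 yc47 zc33) (kc xc32 yc53 zc10) (kc xc26 yc52 zc9) (kc xc24 yc26 zc25) (kc xc28 yc16 zc3) (kc xc32 yc52 zc51) (kc xc24 yc26 zc28) (kc xc24 yc26 zc29) (kc xc26 yc44 zc10) (kc xc26 yc48 zc33) (kc xc24 yc26 zc35) (kc xc31 yc41 zc34) (kc xc24 yc26 zc36)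 (kc xc32 yc50 zc55) (kc xc32 yc57 zc18) (kc xc27 yc19 zc37) (kc xc28 yc43 zc57) (kc xc32 yc9 zc18) (kc xc24 yc26 zc47) (kc xc32 yc53 zc53) (kc xc25 yc29 zc4) (kc xc32 yc22 zc35) (kc xc28 yc45 zc32) (kc xc24 yc26 zc58) (kc xc27 yc24 zc21) (kc xc31 yc46 zc42)) (@D3.rec (fun _ => Pt) (kc xc24 yc26 zc60) (kc xc32 yc26 zc29) (kc xc28 yc33 zc47) (kc xc24 yc27 zc2) (kc xc24 yc27 zc0) (kc xc29 yc42 zc5) (kc xc30 yc2 zc38) (kc xc25 yc56 zc31) (kc xc28 yc53 zc27) (kc xc30 yc55 zc38) (kc xc24 yc27 zc14) (kc xc31 yc28 zc18) (kc xc32 yc41 zc34) (kc xc24 yc27 zc26) (kc xc31 yc17 zc14) (kc xc24 yc27 zc23) (kc xc24 yc27 zc21) (kc xc28 yc9 zc2) (kc xc31 yc55 zc16) (kc xc31 yc40 zc56) (kc xc32 yc45 zc19) (kc xc27 yc10 zc44) (kc xc29 yc46 zc44) (kc xc24 yc58 zc22) (kc xc32 yc51 zc4) (kc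 xc31 yc48 zc48) (kc xc24 yc27 zc45) (kc xc30 yc8 zc7) (kc xc25 yc51 zc4) (kc xc26 yc6 zc19) (kc xc31 yc35 zc54) (kc xc30 yc23 zc39) (kc xc32 yc11 zc48) (kc xc28 yc37 zc56) (kc xc26 yc2 zc25) (kc xc28 yc57 zc8) (kc xc30 yc59 zc16) (kc xc24 yc28 zc53) (kc xc26 yc32 zc38) (kc xc31 yc27 zc15) (kc xc24 yc28 zc28) (kc xc30 yc23 zc11) (kc xc28 yc35 zc47) (kc xc31 yc22 zc48) (kc xc28 yc33 zc30) (kc xc25 yc52 zc55) (kc xc24 yc29 zc31) (kc xc24 yc29 zc4) (kc xc32 yc30 zc22) (kc xc26 yc29 zc61) (kc xc25 yc0 zc24) (kc xc24 yc29 zc18) (kc xc24 yc29 zc20) (kc xc32 yc57 zc22) (kc xc24 yc29 zc26) (kc xc26 yc21 zc44) (kc xc24 yc29 zc28) (kc xc26 yc21 zc32) (kc xc24 yc29 zc30) (kc xc24 yc29 zc32) (kc xc32 yc56 zc28) (kc xc26 yc28 zc4)) (@D3.rec (fun _ => Pt) (kc xc32 yc15 zc36) (kc xc27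 yc13 zc51) (kc xc26 yc50 zc45) (kc xc24 yc29 zc58) (kc xc31 yc46 zc61) (kc xc29 yc26 zc27) (kc xc24 yc29 zc48) (kc xc24 yc29 zc45) (kc xc28 yc48 zc52) (kc xc24 yc29 zc46) (kc xc29 yc31 zc31) (kc xc24 yc29 zc47) (kc xc32 yc51 zc12) (kc xc25 yc53 zc18) (kc xc27 yc10 zc27) (kc xc28 yc54 zc23) (kc xc28 yc55 zc47) (kc xc24 yc29 zc56) (kc xc32 yc11 zc61) (kc xc24 yc29 zc57) (kc xc32 yc12 zc31) (kc xc31 yc52 zc25) (kc xc24 yc30 zc0) (kc xc32 yc52 zc11) (kc xc32 yc52 zc38) (kc xc32 yc50 zc27) (kc xc31 yc33 zc31) (kc xc29 yc32 zc31) (kc xc28 yc39 zc18) (kc xc32 yc46 zc49) (kc xc24 yc30 zc17) (kc xc31 yc33 zc26) (kc xc30 yc15 zc35) (kc xc29 yc40 zc3) (kc xc31 yc25 zc53) (kc xc32 yc34 zc7) (kc xc32 yc34 zc6) (kc xc30 yc50 zc44) (kc xc24 yc30 zc24) (kc xc31 yc31 zc15) (kc xc31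 yc6 zc42) (kc xc24 yc30 zc39) (kc xc25 yc39 zc40) (kc xc32 yc33 zc26) (kc xc24 yc30 zc50) (kc xc24 yc30 zc56) (kc xc24 yc31 zc0) (kc xc31 yc0 zc49) (kc xc30 yc25 zc1) (kc xc24 yc31 zc17) (kc xc32 yc43 zc51) (kc xc24 yc31 zc19) (kc xc30 yc56 zc11) (kc xc25 yc2 zc52) (kc xc24 yc31 zc30) (kc xc26 yc9 zc24) (kc xc30 yc37 zc35) (kc xc24 yc31 zc48) (kc xc32 yc5 zc47) (kc xc24 yc31 zc49) (kc xc25 yc0 zc23) (kc xc26 yc11 zc41)) (@D3.rec (fun _ => Pt) (kc xc24 yc31 zc37) (kc xc26 yc57 zc38) (kc xc32 yc5 zc40) (kc xc27 yc27 zc44) (kc xc24 yc31 zc41) (kc xc24 yc31 zc44) (kc xc30 yc52 zc37) (kc xc29 yc31 zc35) (kc xc29 yc46 zc58) (kc xc28 yc29 zc29) (kc xc29 yc34 zc11) (kc xc29 yc31 zc29) (kc xc29 yc33 zc54) (kc xc29 yc53 zc10) (kc xc29 yc22 zc48) (kc xc29 yc33 zc30) (kc xc25 yc38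 zc21) (kc xc27 yc4 zc26) (kc xc27 yc35 zc39) (kc xc32 yc49 zc35) (kc xc27 yc20 zc5) (kc xc29 yc15 zc20) (kc xc31 yc22 zc2) (kc xc24 yc33 zc21) (kc xc26 yc54 zc40) (kc xc24 yc37 zc61) (kc xc32 yc46 zc6) (kc xc30 yc27 zc1) (kc xc31 yc51 zc61) (kc xc24 yc35 zc10) (kc xc32 yc13 zc59) (kc xc32 yc57 zc28) (kc xc29 yc3 zc61) (kc xc29 yc52 zc57) (kc xc29 yc12 zc4) (kc xc30 yc0 zc27) (kc xc32 yc15 zc60) (kc xc31 yc22 zc14) (kc xc25 yc26 zc20) (kc xc28 yc20 zc39) (kc xc24 yc33 zc56) (kc xc31 yc21 zc16) (kc xc24 yc49 zc54) (kc xc24 yc34 zc13) (kc xc29 yc23 zc5) (kc xc31 yc46 zc47) (kc xc31 yc9 zc7) (kc xc24 yc37 zc11) (kc xc32 yc2 zc57) (kc xc28 yc9 zc47) (kc xc28 yc9 zc46) (kc xc30 yc46 zc5) (kc xc27 yc20 zc3) (kc xc31 yc38 zc44) (kc xc27 yc41 zc37) (kc xc24 yc35 zc28) (kc xc31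 yc35 zc4) (kc xc29 yc46 zc56) (kc xc26 yc55 zc54) (kc xc31 yc34 zc61) (kc xc24 yc35 zc15) (kc xc31 yc34 zc59)) (@D3.rec (fun _ => Pt) (kc xc31 yc45 zc37) (kc xc31 yc45 zc36) (kc xc31 yc54 zc3) (kc xc24 yc35 zc39) (kc xc31 yc34 zc56) (kc xc26 yc46 zc49) (kc xc30 yc14 zc14) (kc xc27 yc56 zc55) (kc xc32 yc18 zc51) (kc xc27 yc19 zc24) (kc xc24 yc35 zc29) (kc xc24 yc35 zc31) (kc xc24 yc35 zc32) (kc xc24 yc35 zc33) (kc xc24 yc37 zc54) (kc xc28 yc37 zc7) (kc xc29 yc47 zc50) (kc xc24 yc35 zc48) (kc xc31 yc52 zc11) (kc xc31 yc19 zc41) (kc xc24 yc35 zc61) (kc xc24 yc36 zc7) (kc xc30 yc44 zc27) (kc xc24 yc36 zc11) (kc xc27 yc2 zc20) (kc xc25 yc40 zc39) (kc xc24 yc36 zc21) (kc xc28 yc54 zc16) (kc xc24 yc36 zc26) (kc xc32 yc57 zc30) (kc xc29 yc33 zc29) (kc xc28 yc58 zc59) (kc xc24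 yc36 zc55) (kc xc32 yc24 zc37) (kc xc32 yc6 zc15) (kc xc24 yc36 zc39) (kc xc25 yc13 zc30) (kc xc32 yc25 zc9) (kc xc27 yc41 zc14) (kc xc25 yc11 zc6) (kc xc29 yc36 zc27) (kc xc29 yc17 zc45) (kc xc31 yc4 zc44) (kc xc30 yc43 zc55) (kc xc27 yc46 zc30) (kc xc31 yc29 zc51) (kc xc25 yc53 zc60) (kc xc27 yc29 zc54) (kc xc24 yc37 zc7) (kc xc32 yc13 zc0) (kc xc32 yc15 zc45) (kc xc28 yc54 zc14) (kc xc32 yc12 zc42) (kc xc29 yc53 zc26) (kc xc31 yc32 zc30) (kc xc32 yc55 zc45) (kc xc29 yc27 zc20) (kc xc29 yc27 zc21) (kc xc31 yc41 zc26) (kc xc24 yc37 zc18) (kc xc25 yc21 zc32) (kc xc30 yc47 zc44)) (@D3.rec (fun _ => Pt) (kc xc29 yc58 zc24) (kc xc28 yc38 zc16) (kc xc31 yc56 zc23) (kc xc24 yc37 zc24) (kc xc28 yc29 zc46) (kc xc26 yc57 zc7) (kc xc24 yc37 zc35) (kc xc25 yc32 zc47) (kc xc29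 yc1 zc0) (kc xc32 yc15 zc55) (kc xc25 yc9 zc60) (kc xc26 yc44 zc33) (kc xc31 yc50 zc15) (kc xc31 yc21 zc18) (kc xc28 yc36 zc59) (kc xc31 yc47 zc48) (kc xc31 yc36 zc18) (kc xc24 yc38 zc3) (kc xc31 yc36 zc16) (kc xc28 yc33 zc19) (kc xc28 yc34 zc22) (kc xc28 yc35 zc5) (kc xc24 yc59 zc27) (kc xc25 yc1 zc17) (kc xc30 yc2 zc57) (kc xc30 yc38 zc58) (kc xc30 yc37 zc24) (kc xc25 yc30 zc7) (kc xc29 yc47 zc53) (kc xc24 yc38 zc26) (kc xc26 yc9 zc46) (kc xc24 yc38 zc27) (kc xc31 yc48 zc22) (kc xc32 yc55 zc7) (kc xc25 yc14 zc61) (kc xc29 yc56 zc52) (kc xc31 yc24 zc5) (kc xc29 yc38 zc38) (kc xc28 yc0 zc9) (kc xc24 yc38 zc51) (kc xc24 yc38 zc52) (kc xc29 yc49 zc51) (kc xc30 yc39 zc51) (kc xc31 yc28 zc1) (kc xc28 yc53 zc61) (kc xc25 yc15 zc11) (kc xc30 yc14 zc10) (kc xc30 yc7 zc8) (kc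 xc27 yc22 zc36) (kc xc24 yc39 zc46) (kc xc29 yc53 zc56) (kc xc30 yc3 zc43) (kc xc28 yc43 zc20) (kc xc28 yc58 zc13) (kc xc31 yc27 zc1) (kc xc24 yc39 zc58) (kc xc32 yc15 zc32) (kc xc24 yc39 zc59) (kc xc32 yc43 zc55) (kc xc25 yc47 zc44) (kc xc24 yc39 zc60) (kc xc24 yc40 zc1)) (@D3.rec (fun _ => Pt) (kc xc27 yc41 zc9) (kc xc24 yc40 zc3) (kc xc30 yc52 zc31) (kc xc32 yc48 zc6) (kc xc25 yc35 zc23) (kc xc25 yc35 zc25) (kc xc25 yc35 zc26) (kc xc25 yc35 zc27) (kc xc24 yc40 zc15) (kc xc32 yc42 zc58) (kc xc24 yc40 zc17) (kc xc26 yc17 zc50) (kc xc27 yc50 zc1) (kc xc29 yc35 zc1) (kc xc30 yc44 zc59) (kc xc30 yc34 zc34) (kc xc27 yc8 zc50) (kc xc27 yc30 zc48) (kc xc27 yc25 zc44) (kc xc24 yc40 zc59) (kc xc24 yc40 zc60) (kc xc27 yc45 zc49) (kc xc29 yc50 zc29) (kc xc31 yc18 zc12) (kc xc24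 yc41 zc38) (kc xc25 yc45 zc31) (kc xc31 yc1 zc41) (kc xc24 yc41 zc48) (kc xc27 yc30 zc10) (kc xc26 yc3 zc28) (kc xc32 yc57 zc32) (kc xc27 yc46 zc59) (kc xc25 yc6 zc59) (kc xc25 yc9 zc51) (kc xc32 yc40 zc11) (kc xc26 yc15 zc24) (kc xc24 yc42 zc7) (kc xc24 yc42 zc11) (kc xc31 yc14 zc58) (kc xc32 yc49 zc5) (kc xc24 yc42 zc12) (kc xc32 yc57 zc33) (kc xc30 yc17 zc5) (kc xc25 yc38 zc29) (kc xc24 yc42 zc15) (kc xc24 yc42 zc28) (kc xc29 yc10 zc16) (kc xc26 yc47 zc30) (kc xc29 yc11 zc2) (kc xc32 yc48 zc53) (kc xc25 yc49 zc15) (kc xc30 yc52 zc30) (kc xc25 yc40 zc3) (kc xc25 yc39 zc44) (kc xc28 yc50 zc40) (kc xc29 yc32 zc45) (kc xc24 yc43 zc5) (kc xc24 yc43 zc14) (kc xc27 yc31 zc33) (kc xc28 yc12 zc57) (kc xc30 yc6 zc5) (kc xc30 yc6 zc4)) (@D3.rec (fun _ => Pt) (kc xc32 yc32 zc20)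 (kc xc24 yc43 zc45) (kc xc32 yc32 zc32) (kc xc31 yc57 zc15) (kc xc30 yc10 zc34) (kc xc24 yc43 zc51) (kc xc29 yc12 zc23) (kc xc27 yc45 zc46) (kc xc24 yc44 zc16) (kc xc32 yc57 zc35) (kc xc32 yc56 zc26) (kc xc27 yc29 zc7) (kc xc31 yc11 zc60) (kc xc25 yc0 zc30) (kc xc24 yc44 zc48) (kc xc25 yc29 zc55) (kc xc28 yc12 zc51) (kc xc25 yc8 zc31) (kc xc24 yc44 zc57) (kc xc28 yc58 zc40) (kc xc31 yc1 zc35) (kc xc26 yc12 zc61) (kc xc31 yc27 zc33) (kc xc28 yc31 zc13) (kc xc28 yc46 zc51) (kc xc30 yc20 zc10) (kc xc28 yc31 zc12) (kc xc24 yc55 zc10) (kc xc29 yc20 zc10) (kc xc31 yc42 zc40) (kc xc24 yc45 zc35) (kc xc24 yc45 zc36) (kc xc24 yc45 zc38) (kc xc27 yc49 zc40) (kc xc29 yc52 zc11) (kc xc24 yc45 zc51) (kc xc25 yc5 zc44) (kc xc28 yc28 zc29) (kc xc24 yc45 zc54) (kc xc25 yc1 zc11) (kc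 xc29 yc41 zc47) (kc xc32 yc26 zc53) (kc xc24 yc45 zc57) (kc xc30 yc54 zc59) (kc xc31 yc34 zc53) (kc xc32 yc44 zc4) (kc xc31 yc44 zc40) (kc xc29 yc24 zc60) (kc xc30 yc58 zc29) (kc xc27 yc8 zc18) (kc xc24 yc46 zc12) (kc xc29 yc19 zc19) (kc xc24 yc46 zc14) (kc xc28 yc57 zc3) (kc xc32 yc43 zc60) (kc xc24 yc46 zc20) (kc xc29 yc24 zc47) (kc xc26 yc43 zc56) (kc xc28 yc55 zc51) (kc xc24 yc46 zc32) (kc xc28 yc0 zc32) (kc xc28 yc32 zc7)) (@D3.rec (fun _ => Pt) (kc xc32 yc28 zc24) (kc xc24 yc46 zc56) (kc xc24 yc47 zc10) (kc xc24 yc47 zc17) (kc xc25 yc52 zc2) (kc xc24 yc47 zc23) (kc xc30 yc35 zc13) (kc xc28 yc55 zc19) (kc xc24 yc47 zc29) (kc xc28 yc49 zc15) (kc xc28 yc49 zc12) (kc xc31 yc1 zc19) (kc xc28 yc46 zc3) (kc xc30 yc43 zc32) (kc xc26 yc26 zc10) (kc xc24 yc48 zc0) (kc xc31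 yc1 zc4) (kc xc27 yc45 zc32) (kc xc24 yc48 zc3) (kc xc24 yc54 zc8) (kc xc27 yc40 zc8) (kc xc27 yc40 zc11) (kc xc27 yc45 zc34) (kc xc28 yc29 zc13) (kc xc32 yc19 zc43) (kc xc31 yc53 zc28) (kc xc24 yc48 zc16) (kc xc27 yc34 zc52) (kc xc28 yc22 zc40) (kc xc28 yc36 zc35) (kc xc30 yc19 zc15) (kc xc27 yc15 zc43) (kc xc24 yc48 zc29) (kc xc28 yc20 zc3) (kc xc31 yc50 zc26) (kc xc30 yc48 zc12) (kc xc32 yc14 zc37) (kc xc32 yc17 zc44) (kc xc24 yc48 zc36) (kc xc25 yc53 zc13) (kc xc31 yc17 zc16) (kc xc31 yc9 zc50) (kc xc31 yc29 zc8) (kc xc32 yc43 zc23) (kc xc25 yc4 zc40) (kc xc29 yc41 zc41) (kc xc30 yc11 zc27) (kc xc26 yc44 zc20) (kc xc26 yc44 zc18) (kc xc29 yc4 zc5) (kc xc32 yc30 zc58) (kc xc24 yc48 zc60) (kc xc25 yc26 zc8) (kc xc29 yc1 zc6) (kc xc24 yc48 zc61) (kc xc25 yc38 zc46)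 (kc xc28 yc43 zc40) (kc xc24 yc49 zc42) (kc xc26 yc54 zc37) (kc xc32 yc45 zc5) (kc xc24 yc49 zc13) (kc xc26 yc41 zc57)) (@D3.rec (fun _ => Pt) (kc xc28 yc58 zc43) (kc xc25 yc38 zc30) (kc xc25 yc38 zc31) (kc xc31 yc25 zc6) (kc xc25 yc13 zc59) (kc xc32 yc19 zc35) (kc xc26 yc41 zc36) (kc xc31 yc20 zc11) (kc xc25 yc40 zc28) (kc xc31 yc20 zc10) (kc xc25 yc32 zc26) (kc xc30 yc28 zc8) (kc xc32 yc38 zc46) (kc xc32 yc52 zc55) (kc xc25 yc32 zc28) (kc xc31 yc29 zc60) (kc xc31 yc16 zc20) (kc xc24 yc49 zc31) (kc xc31 yc52 zc26) (kc xc26 yc47 zc41) (kc xc29 yc47 zc35) (kc xc26 yc3 zc22) (kc xc31 yc19 zc43) (kc xc28 yc19 zc21) (kc xc25 yc37 zc44) (kc xc25 yc37 zc45) (kc xc26 yc33 zc10) (kc xc28 yc37 zc19) (kc xc30 yc34 zc32) (kc xc32 yc37 zc12) (kc xc29 yc55 zc44) (kc xc28 yc40 zc0)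 (kc xc29 yc36 zc16) (kc xc27 yc37 zc7) (kc xc24 yc49 zc45) (kc xc31 yc52 zc2) (kc xc26 yc2 zc3) (kc xc24 yc49 zc55) (kc xc24 yc49 zc57) (kc xc25 yc37 zc39) (kc xc24 yc50 zc1) (kc xc28 yc45 zc15) (kc xc27 yc37 zc22) (kc xc32 yc39 zc60) (kc xc28 yc58 zc28) (kc xc32 yc14 zc38) (kc xc29 yc47 zc15) (kc xc28 yc59 zc55) (kc xc31 yc41 zc48) (kc xc29 yc44 zc39) (kc xc26 yc37 zc56) (kc xc26 yc41 zc29) (kc xc24 yc50 zc16) (kc xc31 yc21 zc51) (kc xc32 yc10 zc57) (kc xc32 yc42 zc0) (kc xc31 yc32 zc19) (kc xc32 yc15 zc30) (kc xc29 yc5 zc58) (kc xc29 yc41 zc22) (kc xc31 yc9 zc46) (kc xc25 yc26 zc35)) (@D3.rec (fun _ => Pt) (kc xc24 yc50 zc22) (kc xc25 yc15 zc23) (kc xc24 yc50 zc24) (kc xc32 yc24 zc21) (kc xc24 yc50 zc25) (kc xc30 yc0 zc11) (kc xc24 yc50 zc30) (kc xc26 yc42 zc43) (kc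 xc31 yc21 zc33) (kc xc28 yc47 zc26) (kc xc26 yc33 zc18) (kc xc26 yc56 zc48) (kc xc26 yc1 zc28) (kc xc30 yc21 zc37) (kc xc25 yc38 zc33) (kc xc28 yc38 zc22) (kc xc26 yc10 zc14) (kc xc31 yc49 zc41) (kc xc29 yc23 zc33) (kc xc29 yc32 zc47) (kc xc27 yc39 zc11) (kc xc24 yc51 zc18) (kc xc25 yc9 zc39) (kc xc25 yc9 zc33) (kc xc25 yc9 zc37) (kc xc24 yc51 zc23) (kc xc31 yc35 zc58) (kc xc28 yc32 zc36) (kc xc32 yc13 zc50) (kc xc28 yc40 zc39) (kc xc31 yc20 zc43) (kc xc31 yc58 zc29) (kc xc32 yc13 zc61) (kc xc31 yc21 zc12) (kc xc31 yc31 zc47) (kc xc28 yc46 zc10) (kc xc26 yc52 zc41) (kc xc31 yc17 zc55) (kc xc31 yc58 zc28) (kc xc26 yc41 zc4) (kc xc29 yc2 zc28) (kc xc30 yc9 zc3) (kc xc25 yc9 zc47) (kc xc32 yc5 zc26) (kc xc30 yc14 zc35) (kc xc30 yc14 zc38) (kc xc28 yc40 zc23) (kc xc29 yc6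 zc51) (kc xc31 yc40 zc48) (kc xc32 yc51 zc23) (kc xc31 yc17 zc13) (kc xc29 yc6 zc17) (kc xc29 yc6 zc16) (kc xc26 yc45 zc61) (kc xc25 yc33 zc48) (kc xc29 yc47 zc39) (kc xc29 yc17 zc13) (kc xc29 yc1 zc8) (kc xc26 yc3 zc8) (kc xc31 yc48 zc6) (kc xc27 yc36 zc11) (kc xc28 yc49 zc34)) (@D3.rec (fun _ => Pt) (kc xc28 yc43 zc11) (kc xc27 yc37 zc17) (kc xc32 yc6 zc27) (kc xc32 yc7 zc57) (kc xc26 yc55 zc51) (kc xc26 yc57 zc17) (kc xc26 yc13 zc52) (kc xc26 yc16 zc31) (kc xc26 yc29 zc51) (kc xc25 yc14 zc11) (kc xc31 yc4 zc52) (kc xc28 yc14 zc40) (kc xc31 yc4 zc51) (kc xc31 yc9 zc37) (kc xc31 yc9 zc36) (kc xc29 yc5 zc7) (kc xc24 yc53 zc57) (kc xc25 yc28 zc37) (kc xc25 yc28 zc19) (kc xc26 yc15 zc2) (kc xc26 yc20 zc45) (kc xc24 yc54 zc0) (kc xc24 yc54 zc1) (kc xc24 yc54 zc3) (kc xc30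 yc10 zc40) (kc xc24 yc54 zc10) (kc xc24 yc54 zc11) (kc xc24 yc54 zc13) (kc xc27 yc5 zc19) (kc xc24 yc54 zc22) (kc xc30 yc45 zc55) (kc xc29 yc25 zc8) (kc xc32 yc50 zc22) (kc xc31 yc8 zc10) (kc xc24 yc54 zc31) (kc xc26 yc32 zc46) (kc xc24 yc54 zc35) (kc xc28 yc1 zc54) (kc xc26 yc17 zc1) (kc xc27 yc31 zc31) (kc xc31 yc38 zc29) (kc xc24 yc54 zc56) (kc xc32 yc10 zc23) (kc xc24 yc54 zc60) (kc xc26 yc15 zc28) (kc xc24 yc55 zc3) (kc xc27 yc28 zc32) (kc xc24 yc55 zc5) (kc xc32 yc44 zc3) (kc xc27 yc39 zc32) (kc xc24 yc55 zc7) (kc xc32 yc30 zc19) (kc xc24 yc55 zc9) (kc xc27 yc47 zc20) (kc xc24 yc55 zc16) (kc xc24 yc55 zc14) (kc xc24 yc55 zc15) (kc xc27 yc27 zc32) (kc xc24 yc55 zc17) (kc xc31 yc43 zc4) (kc xc24 yc55 zc19) (kc xc26 yc17 zc2)) (@D3.rec (fun _ => Pt) (kc xc31 yc43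 zc5) (kc xc31 yc43 zc6) (kc xc26 yc17 zc9) (kc xc24 yc56 zc26) (kc xc31 yc42 zc59) (kc xc31 yc43 zc0) (kc xc31 yc43 zc1) (kc xc28 yc21 zc15) (kc xc29 yc51 zc43) (kc xc27 yc31 zc23) (kc xc26 yc18 zc39) (kc xc27 yc25 zc22) (kc xc27 yc2 zc32) (kc xc28 yc9 zc37) (kc xc24 yc56 zc37) (kc xc24 yc56 zc39) (kc xc24 yc56 zc40) (kc xc24 yc56 zc45) (kc xc29 yc39 zc33) (kc xc30 yc56 zc58) (kc xc24 yc56 zc52) (kc xc26 yc17 zc8) (kc xc29 yc32 zc6) (kc xc30 yc46 zc2) (kc xc29 yc20 zc53) (kc xc29 yc20 zc52) (kc xc24 yc57 zc52) (kc xc30 yc18 zc33) (kc xc24 yc57 zc22) (kc xc30 yc57 zc23) (kc xc24 yc57 zc28) (kc xc24 yc57 zc29) (kc xc27 yc51 zc12) (kc xc24 yc57 zc35) (kc xc26 yc27 zc21) (kc xc24 yc57 zc41) (kc xc24 yc57 zc38) (kc xc24 yc57 zc53) (kc xc31 yc47 zc55) (kc xc29 yc59 zc6) (kc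 xc29 yc48 zc45) (kc xc31 yc1 zc46) (kc xc29 yc43 zc48) (kc xc30 yc18 zc5) (kc xc28 yc9 zc55) (kc xc25 yc52 zc29) (kc xc24 yc58 zc0) (kc xc31 yc27 zc4) (kc xc24 yc58 zc11) (kc xc30 yc0 zc48) (kc xc26 yc37 zc6) (kc xc26 yc37 zc7) (kc xc26 yc39 zc46) (kc xc24 yc58 zc23) (kc xc32 yc9 zc25) (kc xc28 yc59 zc38) (kc xc24 yc58 zc41) (kc xc32 yc21 zc55) (kc xc31 yc14 zc40) (kc xc25 yc2 zc47) (kc xc27 yc28 zc44) (kc xc32 yc8 zc4)) (@D3.rec (fun _ => Pt) (kc xc26 yc11 zc34) (kc xc31 yc11 zc61) (kc xc24 yc59 zc19) (kc xc30 yc39 zc56) (kc xc26 yc14 zc59) (kc xc24 yc59 zc30) (kc xc31 yc59 zc59) (kc xc24 yc59 zc49) (kc xc24 yc59 zc32) (kc xc27 yc48 zc47) (kc xc26 yc7 zc28) (kc xc30 yc53 zc31) (kc xc24 yc59 zc60) (kc xc24 yc59 zc59) (kc xc24 yc59 zc61) (kc xc27 yc49 zc39) (kc xc32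 yc6 zc2) (kc xc32 yc55 zc16) (kc xc25 yc0 zc20) (kc xc31 yc12 zc6) (kc xc25 yc0 zc21) (kc xc32 yc31 zc13) (kc xc30 yc34 zc5) (kc xc32 yc57 zc23) (kc xc27 yc31 zc25) (kc xc27 yc27 zc7) (kc xc32 yc25 zc7) (kc xc25 yc0 zc35) (kc xc25 yc0 zc39) (kc xc31 yc1 zc20) (kc xc25 yc0 zc41) (kc xc25 yc0 zc51) (kc xc27 yc32 zc20) (kc xc25 yc0 zc45) (kc xc26 yc1 zc10) (kc xc25 yc7 zc11) (kc xc27 yc27 zc0) (kc xc27 yc26 zc59) (kc xc25 yc1 zc24) (kc xc27 yc27 zc60) (kc xc31 yc38 zc46) (kc xc28 yc1 zc45) (kc xc26 yc15 zc39) (kc xc25 yc1 zc40) (kc xc25 yc1 zc41) (kc xc32 yc26 zc10) (kc xc25 yc1 zc52) (kc xc30 yc42 zc26) (kc xc28 yc4 zc35) (kc xc31 yc44 zc59) (kc xc27 yc28 zc45) (kc xc25 yc16 zc15) (kc xc27 yc44 zc58) (kc xc25 yc1 zc61) (kc xc32 yc6 zc22) (kc xc26 yc7 zc13) (kc xc30 yc51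 zc59) (kc xc27 yc58 zc15) (kc xc31 yc1 zc28) (kc xc31 yc44 zc49) (kc xc27 yc18 zc6) (kc xc25 yc2 zc21)) (@D3.rec (fun _ => Pt) (kc xc30 yc51 zc51) (kc xc25 yc16 zc22) (kc xc26 yc20 zc59) (kc xc28 yc1 zc52) (kc xc28 yc12 zc14) (kc xc32 yc5 zc34) (kc xc25 yc2 zc56) (kc xc25 yc3 zc1) (kc xc28 yc2 zc59) (kc xc25 yc3 zc37) (kc xc26 yc16 zc36) (kc xc25 yc3 zc45) (kc xc28 yc25 zc50) (kc xc31 yc15 zc5) (kc xc32 yc44 zc55) (kc xc27 yc21 zc54) (kc xc29 yc16 zc33) (kc xc30 yc55 zc10) (kc xc26 yc20 zc56) (kc xc30 yc20 zc18) (kc xc26 yc11 zc2) (kc xc29 yc52 zc9) (kc xc32 yc21 zc11) (kc xc25 yc4 zc7) (kc xc28 yc44 zc54) (kc xc31 yc21 zc46) (kc xc25 yc4 zc27) (kc xc26 yc50 zc41) (kc xc26 yc33 zc59) (kc xc25 yc10 zc51) (kc xc32 yc41 zc13) (kc xc25 yc47 zc42) (kc xc25 yc4 zc35) (kc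 xc25 yc4 zc41) (kc xc28 yc58 zc47) (kc xc28 yc31 zc6) (kc xc31 yc35 zc1) (kc xc31 yc35 zc0) (kc xc25 yc4 zc54) (kc xc25 yc4 zc57) (kc xc32 yc2 zc51) (kc xc25 yc34 zc61) (kc xc25 yc5 zc0) (kc xc29 yc5 zc13) (kc xc26 yc48 zc27) (kc xc29 yc17 zc49) (kc xc25 yc5 zc14) (kc xc32 yc48 zc10) (kc xc32 yc49 zc45) (kc xc29 yc38 zc30) (kc xc31 yc56 zc15) (kc xc25 yc5 zc32) (kc xc32 yc25 zc32) (kc xc30 yc47 zc41) (kc xc25 yc5 zc34) (kc xc31 yc53 zc52) (kc xc29 yc35 zc58) (kc xc25 yc5 zc41) (kc xc25 yc5 zc59) (kc xc31 yc46 zc29) (kc xc25 yc6 zc11) (kc xc29 yc44 zc38)) (@D3.rec (fun _ => Pt) (kc xc29 yc43 zc60) (kc xc32 yc0 zc24) (kc xc25 yc6 zc24) (kc xc25 yc6 zc26) (kc xc25 yc27 zc2) (kc xc32 yc31 zc32) (kc xc32 yc56 zc53) (kc xc25 yc6 zc29) (kc xc25 yc6 zc30) (kc xc25 yc38 zc32)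 (kc xc25 yc6 zc31) (kc xc32 yc57 zc34) (kc xc25 yc10 zc55) (kc xc27 yc24 zc2) (kc xc32 yc23 zc34) (kc xc31 yc26 zc36) (kc xc30 yc10 zc12) (kc xc32 yc31 zc23) (kc xc32 yc36 zc24) (kc xc25 yc6 zc40) (kc xc28 yc48 zc56) (kc xc32 yc34 zc41) (kc xc30 yc32 zc61) (kc xc31 yc16 zc29) (kc xc25 yc6 zc47) (kc xc28 yc5 zc24) (kc xc25 yc13 zc32) (kc xc27 yc46 zc61) (kc xc29 yc0 zc24) (kc xc31 yc45 zc59) (kc xc32 yc2 zc47) (kc xc32 yc2 zc48) (kc xc31 yc59 zc50) (kc xc25 yc7 zc3) (kc xc31 yc18 zc55) (kc xc29 yc6 zc27) (kc xc25 yc7 zc8) (kc xc30 yc5 zc16) (kc xc25 yc28 zc36) (kc xc25 yc28 zc35) (kc xc28 yc0 zc15) (kc xc27 yc23 zc50) (kc xc31 yc31 zc61) (kc xc31 yc0 zc29) (kc xc25 yc7 zc26) (kc xc25 yc7 zc29) (kc xc32 yc23 zc40) (kc xc31 yc34 zc45) (kc xc32 yc57 zc61) (kc xc32 yc8 zc34)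 (kc xc32 yc53 zc0) (kc xc25 yc7 zc38) (kc xc32 yc58 zc0) (kc xc25 yc7 zc49) (kc xc25 yc8 zc0) (kc xc25 yc8 zc50) (kc xc25 yc51 zc35) (kc xc25 yc10 zc25) (kc xc28 yc24 zc5) (kc xc28 yc24 zc6) (kc xc28 yc21 zc6) (kc xc31 yc33 zc4)) (@D3.rec (fun _ => Pt) (kc xc32 yc19 zc8) (kc xc27 yc36 zc38) (kc xc32 yc14 zc21) (kc xc26 yc36 zc16) (kc xc25 yc8 zc15) (kc xc25 yc8 zc19) (kc xc32 yc57 zc14) (kc xc28 yc13 zc3) (kc xc28 yc42 zc31) (kc xc30 yc9 zc36) (kc xc31 yc48 zc0) (kc xc30 yc32 zc57) (kc xc30 yc45 zc61) (kc xc25 yc8 zc26) (kc xc25 yc12 zc4) (kc xc25 yc8 zc29) (kc xc32 yc56 zc54) (kc xc30 yc6 zc7) (kc xc31 yc26 zc33) (kc xc30 yc41 zc17) (kc xc31 yc47 zc34) (kc xc25 yc8 zc38) (kc xc32 yc49 zc8) (kc xc30 yc10 zc49) (kc xc31 yc5 zc53) (kc xc25 yc8 zc41) (kc xc32 yc26 zc19)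 (kc xc25 yc8 zc42) (kc xc25 yc8 zc43) (kc xc32 yc9 zc51) (kc xc28 yc59 zc35) (kc xc28 yc36 zc48) (kc xc27 yc19 zc41) (kc xc31 yc55 zc3) (kc xc31 yc47 zc20) (kc xc32 yc47 zc20) (kc xc30 yc30 zc7) (kc xc31 yc25 zc36) (kc xc25 yc9 zc0) (kc xc29 yc35 zc0) (kc xc28 yc40 zc20) (kc xc28 yc45 zc28) (kc xc25 yc9 zc15) (kc xc32 yc56 zc6) (kc xc32 yc0 zc7) (kc xc31 yc56 zc0) (kc xc25 yc11 zc22) (kc xc26 yc2 zc60) (kc xc31 yc36 zc15) (kc xc25 yc27 zc34) (kc xc29 yc17 zc16) (kc xc25 yc9 zc25) (kc xc27 yc17 zc34) (kc xc29 yc3 zc55) (kc xc26 yc45 zc46) (kc xc31 yc43 zc38) (kc xc29 yc59 zc16) (kc xc31 yc49 zc39) (kc xc25 yc9 zc35) (kc xc30 yc12 zc13) (kc xc32 yc0 zc6) (kc xc25 yc57 zc18)) (@D3.rec (fun _ => Pt) (kc xc31 yc47 zc10) (kc xc30 yc19 zc10) (kc xc25 yc9 zc41) (kc xc25 yc9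 zc43) (kc xc27 yc5 zc58) (kc xc29 yc56 zc28) (kc xc31 yc41 zc59) (kc xc26 yc43 zc54) (kc xc29 yc9 zc39) (kc xc28 yc19 zc16) (kc xc28 yc31 zc37) (kc xc29 yc2 zc12) (kc xc31 yc58 zc27) (kc xc31 yc50 zc4) (kc xc27 yc36 zc22) (kc xc25 yc10 zc40) (kc xc25 yc22 zc9) (kc xc32 yc6 zc43) (kc xc32 yc58 zc6) (kc xc28 yc26 zc51) (kc xc29 yc19 zc2) (kc xc31 yc54 zc10) (kc xc31 yc36 zc32) (kc xc28 yc59 zc48) (kc xc27 yc44 zc9) (kc xc26 yc5 zc5) (kc xc30 yc14 zc41) (kc xc30 yc12 zc25) (kc xc32 yc45 zc21) (kc xc26 yc34 zc60) (kc xc31 yc49 zc40) (kc xc25 yc11 zc26) (kc xc30 yc23 zc56) (kc xc32 yc42 zc14) (kc xc28 yc33 zc56) (kc xc29 yc25 zc41) (kc xc30 yc45 zc30) (kc xc28 yc8 zc52) (kc xc25 yc11 zc34) (kc xc31 yc50 zc31) (kc xc25 yc11 zc37) (kc xc30 yc37 zc20) (kc xc25 yc11 zc44) (kc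 xc26 yc24 zc9) (kc xc31 yc57 zc3) (kc xc25 yc11 zc55) (kc xc25 yc37 zc42) (kc xc28 yc12 zc22) (kc xc31 yc32 zc25) (kc xc26 yc48 zc37) (kc xc30 yc48 zc25) (kc xc25 yc12 zc29) (kc xc25 yc12 zc31) (kc xc32 yc0 zc22) (kc xc26 yc38 zc38) (kc xc27 yc14 zc36) (kc xc32 yc47 zc38) (kc xc25 yc37 zc29) (kc xc25 yc50 zc44) (kc xc27 yc22 zc45) (kc xc26 yc38 zc48) (kc xc29 yc39 zc47)) (@D3.rec (fun _ => Pt) (kc xc26 yc5 zc46) (kc xc31 yc50 zc32) (kc xc25 yc13 zc3) (kc xc29 yc59 zc37) (kc xc25 yc13 zc40) (kc xc32 yc20 zc1) (kc xc25 yc13 zc28) (kc xc25 yc56 zc49) (kc xc25 yc54 zc54) (kc xc25 yc29 zc51) (kc xc27 yc20 zc1) (kc xc28 yc30 zc39) (kc xc28 yc42 zc1) (kc xc30 yc33 zc8) (kc xc32 yc15 zc8) (kc xc32 yc14 zc36) (kc xc32 yc34 zc35) (kc xc25 yc13 zc54) (kc xc28 yc21 zc42) (kc xc25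 yc47 zc34) (kc xc25 yc13 zc55) (kc xc25 yc13 zc58) (kc xc30 yc51 zc13) (kc xc31 yc10 zc24) (kc xc31 yc26 zc32) (kc xc25 yc14 zc6) (kc xc32 yc3 zc15) (kc xc30 yc33 zc37) (kc xc32 yc49 zc37) (kc xc32 yc4 zc56) (kc xc32 yc31 zc19) (kc xc32 yc15 zc19) (kc xc29 yc48 zc30) (kc xc27 yc42 zc23) (kc xc32 yc56 zc10) (kc xc30 yc58 zc39) (kc xc26 yc15 zc29) (kc xc32 yc49 zc44) (kc xc29 yc49 zc50) (kc xc31 yc47 zc57) (kc xc31 yc48 zc30) (kc xc31 yc41 zc17) (kc xc32 yc42 zc12) (kc xc25 yc14 zc53) (kc xc32 yc0 zc26) (kc xc25 yc14 zc56) (kc xc31 yc0 zc25) (kc xc32 yc43 zc50) (kc xc25 yc14 zc60) (kc xc29 yc47 zc51) (kc xc32 yc0 zc27) (kc xc29 yc39 zc1) (kc xc31 yc10 zc5) (kc xc32 yc0 zc28) (kc xc25 yc20 zc19) (kc xc31 yc28 zc17) (kc xc29 yc8 zc21) (kc xc29 yc22 zc17) (kc xc32 yc21 zc53)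 (kc xc32 yc35 zc5) (kc xc25 yc15 zc40) (kc xc25 yc45 zc20)) (@D3.rec (fun _ => Pt) (kc xc31 yc11 zc41) (kc xc25 yc16 zc28) (kc xc25 yc16 zc30) (kc xc27 yc59 zc30) (kc xc31 yc48 zc13) (kc xc25 yc16 zc60) (kc xc28 yc15 zc61) (kc xc32 yc0 zc40) (kc xc31 yc1 zc39) (kc xc25 yc17 zc8) (kc xc26 yc6 zc6) (kc xc25 yc17 zc14) (kc xc31 yc51 zc37) (kc xc25 yc17 zc41) (kc xc25 yc17 zc48) (kc xc31 yc36 zc12) (kc xc25 yc37 zc38) (kc xc28 yc25 zc24) (kc xc25 yc18 zc0) (kc xc31 yc56 zc12) (kc xc32 yc35 zc4) (kc xc32 yc57 zc20) (kc xc25 yc18 zc3) (kc xc31 yc1 zc5) (kc xc30 yc54 zc38) (kc xc32 yc18 zc8) (kc xc31 yc39 zc34) (kc xc28 yc46 zc38) (kc xc28 yc32 zc44) (kc xc25 yc18 zc39) (kc xc27 yc41 zc61) (kc xc31 yc48 zc39) (kc xc31 yc49 zc1) (kc xc26 yc58 zc5) (kc xc25 yc18 zc47) (kc xc28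 yc33 zc52) (kc xc30 yc0 zc15) (kc xc27 yc30 zc26) (kc xc25 yc18 zc59) (kc xc29 yc44 zc43) (kc xc29 yc44 zc41) (kc xc25 yc24 zc37) (kc xc32 yc24 zc23) (kc xc29 yc28 zc7) (kc xc30 yc8 zc14) (kc xc32 yc53 zc56) (kc xc29 yc44 zc21) (kc xc25 yc23 zc12) (kc xc30 yc28 zc29) (kc xc25 yc19 zc18) (kc xc26 yc21 zc52) (kc xc26 yc9 zc54) (kc xc31 yc20 zc50) (kc xc28 yc21 zc60) (kc xc28 yc21 zc61) (kc xc31 yc20 zc46) (kc xc25 yc38 zc11) (kc xc32 yc10 zc31) (kc xc31 yc17 zc20) (kc xc26 yc41 zc10) (kc xc25 yc19 zc51) (kc xc29 yc35 zc2)) (@D3.rec (fun _ => Pt) (kc xc28 yc18 zc18) (kc xc25 yc53 zc11) (kc xc32 yc41 zc24) (kc xc26 yc35 zc25) (kc xc27 yc57 zc24) (kc xc29 yc31 zc40) (kc xc26 yc59 zc38) (kc xc31 yc52 zc45) (kc xc27 yc30 zc15) (kc xc30 yc16 zc48) (kc xc26 yc59 zc30) (kc xc31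 yc21 zc13) (kc xc31 yc59 zc11) (kc xc28 yc50 zc45) (kc xc32 yc58 zc11) (kc xc29 yc49 zc45) (kc xc25 yc20 zc30) (kc xc31 yc20 zc41) (kc xc30 yc19 zc34) (kc xc31 yc59 zc33) (kc xc25 yc52 zc59) (kc xc29 yc38 zc60) (kc xc28 yc42 zc36) (kc xc31 yc28 zc34) (kc xc28 yc49 zc61) (kc xc28 yc43 zc24) (kc xc31 yc18 zc50) (kc xc32 yc4 zc31) (kc xc32 yc35 zc19) (kc xc25 yc20 zc49) (kc xc31 yc15 zc12) (kc xc30 yc38 zc2) (kc xc30 yc34 zc33) (kc xc25 yc20 zc51) (kc xc32 yc32 zc58) (kc xc26 yc40 zc42) (kc xc28 yc0 zc23) (kc xc31 yc50 zc12) (kc xc32 yc51 zc41) (kc xc28 yc40 zc46) (kc xc28 yc56 zc1) (kc xc31 yc13 zc31) (kc xc31 yc26 zc7) (kc xc25 yc20 zc57) (kc xc32 yc58 zc16) (kc xc32 yc4 zc18) (kc xc30 yc34 zc22) (kc xc32 yc4 zc32) (kc xc29 yc56 zc1) (kc xc32 yc38 zc44) (kc xc25 yc21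 zc2) (kc xc30 yc29 zc18) (kc xc25 yc21 zc41) (kc xc25 yc21 zc4) (kc xc32 yc54 zc34) (kc xc27 yc44 zc8) (kc xc32 yc43 zc36) (kc xc32 yc46 zc14) (kc xc32 yc18 zc2) (kc xc32 yc13 zc9) (kc xc26 yc54 zc42) (kc xc31 yc34 zc28)) (@D3.rec (fun _ => Pt) (kc xc25 yc21 zc17) (kc xc25 yc21 zc19) (kc xc31 yc40 zc35) (kc xc25 yc21 zc22) (kc xc32 yc17 zc60) (kc xc32 yc27 zc15) (kc xc28 yc59 zc58) (kc xc32 yc23 zc23) (kc xc30 yc18 zc52) (kc xc25 yc21 zc31) (kc xc32 yc20 zc53) (kc xc31 yc35 zc18) (kc xc32 yc58 zc22) (kc xc32 yc32 zc61) (kc xc32 yc20 zc35) (kc xc25 yc21 zc33) (kc xc32 yc51 zc28) (kc xc29 yc21 zc42) (kc xc32 yc47 zc47) (kc xc32 yc56 zc35) (kc xc25 yc24 zc39) (kc xc32 yc56 zc0) (kc xc32 yc58 zc15) (kc xc30 yc39 zc26) (kc xc32 yc14 zc58) (kc xc31 yc33 zc21) (kc xc31 yc40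 zc18) (kc xc25 yc21 zc43) (kc xc32 yc58 zc26) (kc xc26 yc54 zc45) (kc xc29 yc46 zc35) (kc xc26 yc54 zc44) (kc xc26 yc39 zc27) (kc xc32 yc44 zc47) (kc xc27 yc37 zc4) (kc xc25 yc21 zc46) (kc xc32 yc17 zc54) (kc xc29 yc41 zc36) (kc xc31 yc19 zc27) (kc xc25 yc21 zc55) (kc xc25 yc24 zc38) (kc xc27 yc7 zc20) (kc xc29 yc41 zc40) (kc xc32 yc9 zc5) (kc xc25 yc21 zc57) (kc xc31 yc51 zc7) (kc xc25 yc47 zc56) (kc xc25 yc22 zc10) (kc xc28 yc59 zc54) (kc xc26 yc42 zc46) (kc xc27 yc30 zc13) (kc xc26 yc58 zc38) (kc xc29 yc47 zc25) (kc xc29 yc57 zc26) (kc xc27 yc1 zc13) (kc xc26 yc0 zc8) (kc xc28 yc48 zc20) (kc xc25 yc22 zc31) (kc xc30 yc56 zc53) (kc xc26 yc41 zc24) (kc xc29 yc4 zc28) (kc xc26 yc53 zc23)) (@D3.rec (fun _ => Pt) (kc xc32 yc52 zc17) (kc xc32 yc57 zc54) (kc xc32 yc10 zc10)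 (kc xc32 yc54 zc38) (kc xc25 yc22 zc61) (kc xc32 yc58 zc28) (kc xc25 yc23 zc1) (kc xc32 yc53 zc18) (kc xc25 yc23 zc2) (kc xc32 yc53 zc58) (kc xc30 yc17 zc28) (kc xc32 yc34 zc61) (kc xc28 yc11 zc46) (kc xc32 yc35 zc22) (kc xc27 yc24 zc5) (kc xc32 yc39 zc41) (kc xc29 yc37 zc0) (kc xc32 yc9 zc7) (kc xc32 yc40 zc48) (kc xc27 yc30 zc21) (kc xc32 yc29 zc33) (kc xc28 yc23 zc30) (kc xc32 yc6 zc14) (kc xc27 yc15 zc59) (kc xc27 yc56 zc37) (kc xc26 yc20 zc29) (kc xc30 yc12 zc22) (kc xc30 yc6 zc44) (kc xc31 yc39 zc25) (kc xc30 yc48 zc9) (kc xc30 yc16 zc53) (kc xc26 yc30 zc27) (kc xc25 yc24 zc54) (kc xc25 yc40 zc22) (kc xc32 yc29 zc60) (kc xc27 yc3 zc7) (kc xc32 yc34 zc22) (kc xc32 yc34 zc23) (kc xc25 yc25 zc10) (kc xc25 yc25 zc23) (kc xc28 yc16 zc58) (kc xc32 yc17 zc20) (kc xc27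 yc21 zc25) (kc xc25 yc25 zc40) (kc xc27 yc22 zc2) (kc xc28 yc11 zc52) (kc xc25 yc47 zc25) (kc xc25 yc26 zc17) (kc xc32 yc20 zc3) (kc xc32 yc25 zc42) (kc xc25 yc26 zc23) (kc xc32 yc25 zc40) (kc xc31 yc45 zc55) (kc xc25 yc26 zc25) (kc xc32 yc28 zc55) (kc xc32 yc28 zc44) (kc xc31 yc10 zc39) (kc xc32 yc36 zc44) (kc xc25 yc26 zc28) (kc xc29 yc25 zc27) (kc xc30 yc54 zc4) (kc xc32 yc16 zc40)) (@D3.rec (fun _ => Pt) (kc xc28 yc14 zc33) (kc xc28 yc8 zc18) (kc xc28 yc39 zc53) (kc xc31 yc35 zc2) (kc xc32 yc0 zc3) (kc xc32 yc29 zc59) (kc xc31 yc9 zc44) (kc xc25 yc27 zc8) (kc xc25 yc58 zc47) (kc xc30 yc14 zc33) (kc xc31 yc48 zc21) (kc xc26 yc11 zc5) (kc xc25 yc27 zc38) (kc xc25 yc27 zc39) (kc xc25 yc35 zc55) (kc xc29 yc3 zc7) (kc xc28 yc24 zc52) (kc xc28 yc18 zc5) (kc xc26 yc21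 zc26) (kc xc25 yc31 zc44) (kc xc25 yc34 zc10) (kc xc25 yc28 zc25) (kc xc32 yc58 zc32) (kc xc32 yc7 zc48) (kc xc27 yc51 zc55) (kc xc29 yc23 zc6) (kc xc30 yc40 zc39) (kc xc30 yc10 zc54) (kc xc27 yc26 zc30) (kc xc25 yc28 zc55) (kc xc29 yc57 zc37) (kc xc25 yc29 zc3) (kc xc25 yc29 zc2) (kc xc25 yc29 zc6) (kc xc30 yc56 zc0) (kc xc26 yc29 zc38) (kc xc30 yc13 zc56) (kc xc31 yc28 zc5) (kc xc27 yc39 zc28) (kc xc25 yc58 zc40) (kc xc25 yc32 zc44) (kc xc25 yc55 zc45) (kc xc31 yc28 zc60) (kc xc27 yc17 zc15) (kc xc28 yc37 zc23) (kc xc29 yc50 zc16) (kc xc32 yc15 zc56) (kc xc25 yc59 zc60) (kc xc30 yc40 zc49) (kc xc31 yc5 zc34) (kc xc25 yc30 zc1) (kc xc25 yc30 zc3) (kc xc27 yc12 zc55) (kc xc26 yc24 zc33) (kc xc30 yc41 zc52) (kc xc30 yc41 zc54) (kc xc29 yc59 zc34) (kc xc29 yc59 zc38)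 (kc xc30 yc13 zc57) (kc xc30 yc33 zc17) (kc xc30 yc33 zc19) (kc xc25 yc30 zc24)) (@D3.rec (fun _ => Pt) (kc xc25 yc30 zc30) (kc xc25 yc30 zc29) (kc xc31 yc57 zc17) (kc xc31 yc47 zc33) (kc xc30 yc8 zc0) (kc xc32 yc58 zc34) (kc xc30 yc10 zc17) (kc xc30 yc10 zc16) (kc xc30 yc37 zc11) (kc xc25 yc30 zc48) (kc xc26 yc17 zc7) (kc xc25 yc30 zc47) (kc xc32 yc25 zc47) (kc xc28 yc7 zc51) (kc xc25 yc31 zc0) (kc xc27 yc49 zc35) (kc xc31 yc32 zc18) (kc xc29 yc21 zc35) (kc xc25 yc31 zc35) (kc xc31 yc55 zc54) (kc xc31 yc25 zc34) (kc xc30 yc7 zc50) (kc xc26 yc59 zc57) (kc xc25 yc31 zc55) (kc xc25 yc31 zc56) (kc xc25 yc36 zc48) (kc xc25 yc55 zc7) (kc xc25 yc32 zc22) (kc xc25 yc32 zc18) (kc xc30 yc39 zc6) (kc xc25 yc32 zc10) (kc xc25 yc32 zc11) (kc xc25 yc32 zc12) (kc xc32 yc55 zc6) (kc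 xc28 yc54 zc38) (kc xc29 yc46 zc19) (kc xc32 yc57 zc41) (kc xc29 yc8 zc25) (kc xc25 yc32 zc24) (kc xc32 yc11 zc55) (kc xc32 yc57 zc52) (kc xc25 yc32 zc25) (kc xc32 yc33 zc29) (kc xc32 yc33 zc32) (kc xc25 yc32 zc27) (kc xc29 yc34 zc21) (kc xc32 yc12 zc39) (kc xc25 yc32 zc31) (kc xc27 yc30 zc0) (kc xc27 yc29 zc61) (kc xc25 yc41 zc60) (kc xc32 yc19 zc22) (kc xc32 yc3 zc28) (kc xc30 yc51 zc4) (kc xc31 yc55 zc19) (kc xc27 yc24 zc49) (kc xc27 yc30 zc35) (kc xc25 yc33 zc7) (kc xc25 yc33 zc25) (kc xc32 yc0 zc47) (kc xc31 yc11 zc3) (kc xc25 yc33 zc28)) (@D3.rec (fun _ => Pt) (kc xc31 yc47 zc45) (kc xc31 yc57 zc50) (kc xc28 yc47 zc27) (kc xc25 yc33 zc40) (kc xc31 yc56 zc57) (kc xc32 yc47 zc18) (kc xc25 yc34 zc0) (kc xc32 yc58 zc35) (kc xc30 yc13 zc12) (kc xc30 yc6 zc47) (kc xc25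 yc34 zc19) (kc xc25 yc34 zc24) (kc xc31 yc50 zc19) (kc xc27 yc50 zc24) (kc xc30 yc51 zc19) (kc xc31 yc45 zc50) (kc xc31 yc56 zc52) (kc xc31 yc17 zc15) (kc xc27 yc45 zc42) (kc xc28 yc36 zc22) (kc xc28 yc51 zc44) (kc xc25 yc53 zc41) (kc xc31 yc14 zc34) (kc xc31 yc36 zc2) (kc xc27 yc4 zc20) (kc xc27 yc11 zc0) (kc xc25 yc35 zc61) (kc xc30 yc37 zc12) (kc xc26 yc29 zc36) (kc xc27 yc51 zc51) (kc xc25 yc36 zc11) (kc xc32 yc55 zc27) (kc xc31 yc30 zc17) (kc xc28 yc28 zc56) (kc xc31 yc30 zc18) (kc xc32 yc6 zc7) (kc xc28 yc23 zc43) (kc xc28 yc11 zc26) (kc xc31 yc26 zc21) (kc xc25 yc36 zc47) (kc xc25 yc37 zc0) (kc xc25 yc37 zc2) (kc xc28 yc54 zc19) (kc xc31 yc58 zc41) (kc xc31 yc4 zc15) (kc xc32 yc26 zc60) (kc xc25 yc39 zc6) (kc xc25 yc37 zc13) (kc xc27 yc51 zc36) (kc xc25 yc37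 zc16) (kc xc25 yc38 zc52) (kc xc25 yc37 zc17) (kc xc31 yc56 zc16) (kc xc28 yc49 zc33) (kc xc32 yc13 zc58) (kc xc31 yc57 zc27) (kc xc27 yc37 zc18) (kc xc31 yc56 zc4) (kc xc30 yc18 zc59) (kc xc32 yc58 zc36) (kc xc28 yc39 zc61) (kc xc32 yc58 zc37)) (@D3.rec (fun _ => Pt) (kc xc32 yc58 zc38) (kc xc25 yc37 zc34) (kc xc32 yc58 zc39) (kc xc31 yc48 zc44) (kc xc32 yc16 zc0) (kc xc25 yc37 zc61) (kc xc25 yc38 zc0) (kc xc25 yc38 zc1) (kc xc29 yc24 zc18) (kc xc26 yc51 zc5) (kc xc25 yc57 zc47) (kc xc30 yc0 zc5) (kc xc27 yc24 zc8) (kc xc32 yc41 zc29) (kc xc26 yc46 zc10) (kc xc31 yc38 zc3) (kc xc32 yc53 zc32) (kc xc31 yc55 zc2) (kc xc32 yc27 zc28) (kc xc26 yc1 zc33) (kc xc26 yc1 zc34) (kc xc30 yc40 zc28) (kc xc30 yc40 zc27) (kc xc25 yc38 zc45) (kc xc26 yc41 zc17) (kc xc32 yc32 zc3)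 (kc xc30 yc14 zc8) (kc xc31 yc56 zc55) (kc xc25 yc38 zc51) (kc xc30 yc41 zc38) (kc xc25 yc38 zc54) (kc xc29 yc57 zc22) (kc xc31 yc25 zc31) (kc xc28 yc36 zc13) (kc xc28 yc36 zc16) (kc xc25 yc38 zc60) (kc xc32 yc50 zc9) (kc xc31 yc16 zc59) (kc xc25 yc39 zc2) (kc xc25 yc39 zc3) (kc xc32 yc49 zc2) (kc xc32 yc49 zc25) (kc xc30 yc40 zc24) (kc xc26 yc1 zc21) (kc xc28 yc31 zc33) (kc xc30 yc40 zc23) (kc xc32 yc31 zc35) (kc xc25 yc39 zc7) (kc xc32 yc26 zc48) (kc xc32 yc32 zc18) (kc xc31 yc56 zc1) (kc xc25 yc42 zc39) (kc xc25 yc39 zc24) (kc xc31 yc59 zc29) (kc xc32 yc31 zc29) (kc xc31 yc12 zc3) (kc xc25 yc39 zc29) (kc xc30 yc12 zc56) (kc xc29 yc25 zc25) (kc xc26 yc9 zc16) (kc xc25 yc39 zc58) (kc xc32 yc41 zc61)) (@D3.rec (fun _ => Pt) (kc xc25 yc39 zc60) (kc xc25 yc40 zc0) (kc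 xc31 yc4 zc13) (kc xc32 yc32 zc19) (kc xc25 yc40 zc2) (kc xc25 yc40 zc29) (kc xc27 yc35 zc11) (kc xc25 yc40 zc26) (kc xc27 yc18 zc34) (kc xc32 yc42 zc7) (kc xc32 yc23 zc29) (kc xc32 yc40 zc42) (kc xc32 yc11 zc38) (kc xc26 yc28 zc6) (kc xc27 yc39 zc0) (kc xc29 yc13 zc13) (kc xc29 yc19 zc58) (kc xc26 yc0 zc14) (kc xc25 yc41 zc16) (kc xc29 yc56 zc61) (kc xc32 yc23 zc46) (kc xc25 yc41 zc29) (kc xc32 yc55 zc30) (kc xc26 yc41 zc26) (kc xc29 yc57 zc23) (kc xc29 yc59 zc42) (kc xc31 yc59 zc58) (kc xc31 yc48 zc12) (kc xc31 yc41 zc38) (kc xc31 yc41 zc31) (kc xc29 yc17 zc55) (kc xc25 yc42 zc6) (kc xc27 yc29 zc48) (kc xc29 yc19 zc51) (kc xc26 yc49 zc1) (kc xc27 yc18 zc17) (kc xc32 yc31 zc52) (kc xc26 yc8 zc20) (kc xc25 yc42 zc30) (kc xc25 yc42 zc36) (kc xc32 yc29 zc7) (kc xc31 yc56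 zc43) (kc xc32 yc31 zc51) (kc xc32 yc48 zc55) (kc xc30 yc34 zc54) (kc xc25 yc42 zc49) (kc xc32 yc38 zc49) (kc xc25 yc42 zc50) (kc xc28 yc13 zc35) (kc xc27 yc18 zc33) (kc xc25 yc42 zc61) (kc xc27 yc26 zc61) (kc xc25 yc43 zc26) (kc xc32 yc24 zc6) (kc xc27 yc0 zc38) (kc xc25 yc43 zc35) (kc xc25 yc43 zc46) (kc xc26 yc25 zc35) (kc xc26 yc30 zc61) (kc xc30 yc55 zc34) (kc xc28 yc11 zc16) (kc xc32 yc24 zc35)) (@D3.rec (fun _ => Pt) (kc xc25 yc44 zc7) (kc xc25 yc44 zc8) (kc xc25 yc44 zc13) (kc xc30 yc0 zc39) (kc xc30 yc0 zc38) (kc xc28 yc11 zc57) (kc xc27 yc11 zc33) (kc xc25 yc44 zc30) (kc xc32 yc15 zc46) (kc xc25 yc44 zc41) (kc xc28 yc31 zc3) (kc xc31 yc51 zc12) (kc xc32 yc30 zc30) (kc xc31 yc8 zc4) (kc xc26 yc11 zc56) (kc xc25 yc45 zc60) (kc xc25 yc45 zc61) (kc xc26 yc13 zc46)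 (kc xc25 yc46 zc4) (kc xc25 yc46 zc5) (kc xc25 yc46 zc15) (kc xc32 yc3 zc29) (kc xc29 yc48 zc57) (kc xc26 yc7 zc24) (kc xc28 yc32 zc48) (kc xc28 yc33 zc37) (kc xc32 yc3 zc43) (kc xc32 yc4 zc57) (kc xc27 yc38 zc27) (kc xc31 yc57 zc53) (kc xc31 yc8 zc8) (kc xc25 yc46 zc43) (kc xc25 yc46 zc44) (kc xc31 yc51 zc19) (kc xc25 yc47 zc5) (kc xc25 yc49 zc1) (kc xc32 yc22 zc37) (kc xc29 yc57 zc28) (kc xc30 yc39 zc17) (kc xc29 yc7 zc2) (kc xc32 yc2 zc23) (kc xc29 yc49 zc6) (kc xc31 yc59 zc55) (kc xc32 yc25 zc17) (kc xc26 yc58 zc3) (kc xc27 yc49 zc29) (kc xc28 yc14 zc21) (kc xc28 yc32 zc59) (kc xc26 yc23 zc58) (kc xc30 yc53 zc26) (kc xc31 yc46 zc32) (kc xc32 yc29 zc32) (kc xc28 yc25 zc27) (kc xc25 yc48 zc16) (kc xc32 yc36 zc5) (kc xc31 yc59 zc42) (kc xc32 yc10 zc28) (kc xc29 yc34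 zc51) (kc xc31 yc58 zc26) (kc xc31 yc44 zc6) (kc xc26 yc17 zc43) (kc xc25 yc54 zc44))
def f_c_32 : D2 → D3 → Pt := @D2.rec (fun _ => D3 → Pt) (@D3.rec (fun _ => Pt) (kc xc25 yc54 zc43) (kc xc25 yc48 zc48) (kc xc27 yc41 zc31) (kc xc31 yc54 zc4) (kc xc26 yc28 zc48) (kc xc30 yc56 zc20) (kc xc31 yc47 zc60) (kc xc31 yc47 zc44) (kc xc31 yc31 zc28) (kc xc28 yc29 zc50) (kc xc29 yc11 zc27) (kc xc30 yc39 zc20) (kc xc31 yc9 zc35) (kc xc25 yc49 zc51) (kc xc32 yc15 zc53) (kc xc31 yc29 zc9) (kc xc29 yc9 zc56) (kc xc30 yc47 zc29) (kc xc31 yc29 zc54) (kc xc28 yc34 zc55) (kc xc28 yc59 zc36) (kc xc26 yc44 zc38) (kc xc31 yc48 zc53) (kc xc25 yc50 zc16) (kc xc31 yc46 zc1) (kc xc25 yc50 zc19) (kc xc31 yc49 zc44) (kc xc31 yc49 zc50) (kc xc31 yc49 zc53) (kc xc32 yc56 zc48) (kc xc25 yc50 zc35)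 (kc xc25 yc50 zc43) (kc xc32 yc37 zc28) (kc xc32 yc36 zc48) (kc xc25 yc50 zc49) (kc xc25 yc50 zc51) (kc xc29 yc7 zc5) (kc xc28 yc46 zc44) (kc xc30 yc12 zc9) (kc xc29 yc8 zc1) (kc xc31 yc50 zc7) (kc xc32 yc12 zc44) (kc xc31 yc28 zc30) (kc xc30 yc6 zc25) (kc xc27 yc4 zc8) (kc xc32 yc22 zc32) (kc xc26 yc33 zc26) (kc xc31 yc55 zc59) (kc xc28 yc44 zc20) (kc xc32 yc15 zc38) (kc xc25 yc51 zc37) (kc xc31 yc18 zc41) (kc xc32 yc52 zc47) (kc xc25 yc51 zc41) (kc xc25 yc51 zc59) (kc xc25 yc52 zc20) (kc xc32 yc37 zc51) (kc xc29 yc47 zc34) (kc xc32 yc13 zc22) (kc xc29 yc48 zc47) (kc xc30 yc19 zc25) (kc xc32 yc45 zc52)) (@D3.rec (fun _ => Pt) (kc xc25 yc52 zc50) (kc xc32 yc41 zc6) (kc xc31 yc17 zc4) (kc xc25 yc53 zc1) (kc xc28 yc49 zc58) (kc xc31 yc20 zc32) (kc xc30 yc22 zc24) (kc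 xc25 yc53 zc9) (kc xc32 yc52 zc33) (kc xc25 yc53 zc8) (kc xc32 yc1 zc31) (kc xc25 yc53 zc24) (kc xc30 yc33 zc6) (kc xc25 yc53 zc25) (kc xc26 yc26 zc39) (kc xc30 yc6 zc48) (kc xc29 yc51 zc47) (kc xc32 yc49 zc48) (kc xc25 yc56 zc42) (kc xc27 yc26 zc6) (kc xc31 yc0 zc27) (kc xc30 yc53 zc29) (kc xc30 yc24 zc27) (kc xc31 yc3 zc54) (kc xc30 yc46 zc61) (kc xc32 yc48 zc11) (kc xc29 yc59 zc30) (kc xc31 yc5 zc26) (kc xc32 yc31 zc48) (kc xc29 yc19 zc54) (kc xc27 yc1 zc58) (kc xc32 yc1 zc10) (kc xc25 yc54 zc25) (kc xc25 yc55 zc44) (kc xc25 yc54 zc27) (kc xc31 yc16 zc56) (kc xc25 yc56 zc41) (kc xc29 yc20 zc2) (kc xc25 yc54 zc34) (kc xc32 yc58 zc45) (kc xc25 yc54 zc35) (kc xc30 yc49 zc57) (kc xc32 yc34 zc16) (kc xc26 yc31 zc1) (kc xc27 yc58 zc37) (kc xc27 yc58 zc36) (kc xc26 yc18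 zc61) (kc xc26 yc23 zc45) (kc xc25 yc54 zc57) (kc xc25 yc55 zc36) (kc xc30 yc47 zc55) (kc xc30 yc36 zc47) (kc xc28 yc21 zc37) (kc xc25 yc55 zc24) (kc xc25 yc55 zc28) (kc xc25 yc55 zc30) (kc xc28 yc52 zc35) (kc xc28 yc25 zc16) (kc xc25 yc55 zc52) (kc xc32 yc32 zc26) (kc xc25 yc55 zc54) (kc xc29 yc36 zc26)) (@D3.rec (fun _ => Pt) (kc xc26 yc25 zc23) (kc xc29 yc44 zc2) (kc xc26 yc38 zc13) (kc xc26 yc38 zc21) (kc xc32 yc39 zc35) (kc xc27 yc14 zc30) (kc xc30 yc3 zc17) (kc xc28 yc38 zc14) (kc xc32 yc57 zc19) (kc xc25 yc56 zc35) (kc xc25 yc56 zc38) (kc xc30 yc51 zc8) (kc xc25 yc56 zc40) (kc xc30 yc36 zc37) (kc xc32 yc40 zc47) (kc xc25 yc56 zc44) (kc xc25 yc56 zc45) (kc xc30 yc16 zc52) (kc xc27 yc16 zc54) (kc xc30 yc54 zc28) (kc xc25 yc57 zc1) (kc xc32 yc34 zc40) (kc xc29 yc30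 zc55) (kc xc31 yc59 zc40) (kc xc32 yc34 zc39) (kc xc32 yc33 zc57) (kc xc29 yc53 zc12) (kc xc29 yc14 zc1) (kc xc25 yc57 zc39) (kc xc27 yc23 zc32) (kc xc30 yc57 zc37) (kc xc32 yc48 zc18) (kc xc30 yc10 zc52) (kc xc32 yc23 zc51) (kc xc32 yc58 zc46) (kc xc25 yc57 zc56) (kc xc32 yc58 zc47) (kc xc28 yc6 zc19) (kc xc28 yc6 zc21) (kc xc25 yc58 zc0) (kc xc32 yc44 zc25) (kc xc25 yc58 zc1) (kc xc27 yc58 zc38) (kc xc30 yc54 zc35) (kc xc25 yc58 zc11) (kc xc25 yc58 zc22) (kc xc25 yc58 zc23) (kc xc31 yc46 zc30) (kc xc31 yc46 zc31) (kc xc25 yc58 zc45) (kc xc32 yc24 zc58) (kc xc31 yc45 zc40) (kc xc31 yc6 zc41) (kc xc31 yc4 zc41) (kc xc31 yc6 zc16) (kc xc27 yc30 zc44) (kc xc32 yc54 zc14) (kc xc31 yc34 zc48) (kc xc25 yc59 zc3) (kc xc31 yc10 zc11) (kc xc25 yc59 zc6) (kc xc26 yc52 zc56))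 (@D3.rec (fun _ => Pt) (kc xc31 yc15 zc53) (kc xc30 yc44 zc11) (kc xc26 yc30 zc28) (kc xc28 yc50 zc22) (kc xc28 yc20 zc25) (kc xc28 yc56 zc23) (kc xc29 yc59 zc7) (kc xc29 yc22 zc1) (kc xc26 yc34 zc0) (kc xc28 yc27 zc26) (kc xc31 yc1 zc27) (kc xc26 yc0 zc56) (kc xc29 yc17 zc0) (kc xc26 yc1 zc27) (kc xc31 yc4 zc0) (kc xc31 yc49 zc26) (kc xc31 yc4 zc5) (kc xc32 yc42 zc19) (kc xc29 yc58 zc29) (kc xc30 yc24 zc39) (kc xc30 yc24 zc40) (kc xc26 yc41 zc8) (kc xc26 yc37 zc35) (kc xc28 yc14 zc27) (kc xc26 yc34 zc23) (kc xc31 yc17 zc12) (kc xc26 yc10 zc4) (kc xc26 yc2 zc1) (kc xc31 yc55 zc52) (kc xc31 yc59 zc21) (kc xc26 yc2 zc24) (kc xc32 yc12 zc54) (kc xc32 yc14 zc32) (kc xc26 yc2 zc48) (kc xc29 yc43 zc35) (kc xc29 yc6 zc54) (kc xc32 yc41 zc37) (kc xc29 yc6 zc61) (kc xc26 yc3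 zc13) (kc xc27 yc23 zc43) (kc xc27 yc56 zc48) (kc xc26 yc9 zc53) (kc xc26 yc3 zc27) (kc xc31 yc59 zc26) (kc xc27 yc27 zc3) (kc xc32 yc41 zc31) (kc xc32 yc18 zc47) (kc xc26 yc3 zc52) (kc xc26 yc4 zc20) (kc xc27 yc57 zc46) (kc xc28 yc10 zc52) (kc xc31 yc2 zc4) (kc xc32 yc32 zc29) (kc xc30 yc35 zc20) (kc xc29 yc54 zc12) (kc xc26 yc4 zc34) (kc xc26 yc4 zc36) (kc xc26 yc4 zc37) (kc xc27 yc17 zc21) (kc xc27 yc43 zc50) (kc xc29 yc16 zc35) (kc xc26 yc37 zc41)) (@D3.rec (fun _ => Pt) (kc xc29 yc9 zc48) (kc xc29 yc16 zc36) (kc xc29 yc16 zc37) (kc xc32 yc13 zc42) (kc xc26 yc4 zc48) (kc xc27 yc14 zc31) (kc xc26 yc44 zc40) (kc xc26 yc4 zc54) (kc xc29 yc16 zc50) (kc xc26 yc4 zc59) (kc xc26 yc5 zc0) (kc xc29 yc23 zc4) (kc xc26 yc5 zc1) (kc xc26 yc5 zc2) (kc xc26 yc5 zc28) (kc xc32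 yc16 zc38) (kc xc29 yc29 zc16) (kc xc26 yc6 zc11) (kc xc31 yc51 zc45) (kc xc30 yc21 zc31) (kc xc32 yc45 zc16) (kc xc32 yc21 zc28) (kc xc32 yc9 zc9) (kc xc32 yc32 zc56) (kc xc30 yc21 zc26) (kc xc30 yc21 zc38) (kc xc30 yc39 zc31) (kc xc32 yc35 zc21) (kc xc28 yc37 zc18) (kc xc31 yc26 zc41) (kc xc29 yc10 zc5) (kc xc31 yc51 zc27) (kc xc31 yc51 zc47) (kc xc32 yc34 zc55) (kc xc29 yc17 zc9) (kc xc26 yc47 zc11) (kc xc27 yc58 zc5) (kc xc30 yc59 zc57) (kc xc27 yc41 zc2) (kc xc32 yc16 zc17) (kc xc32 yc32 zc41) (kc xc26 yc9 zc36) (kc xc30 yc20 zc27) (kc xc32 yc43 zc18) (kc xc29 yc5 zc55) (kc xc27 yc48 zc2) (kc xc29 yc25 zc50) (kc xc30 yc0 zc25) (kc xc32 yc56 zc46) (kc xc26 yc8 zc35) (kc xc26 yc8 zc5) (kc xc32 yc30 zc38) (kc xc32 yc54 zc17) (kc xc32 yc32 zc28) (kc xc32 yc58 zc49)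 (kc xc26 yc8 zc18) (kc xc31 yc49 zc29) (kc xc31 yc59 zc27) (kc xc28 yc43 zc53) (kc xc32 yc6 zc31) (kc xc32 yc35 zc1) (kc xc26 yc8 zc37)) (@D3.rec (fun _ => Pt) (kc xc30 yc32 zc48) (kc xc30 yc52 zc40) (kc xc32 yc54 zc58) (kc xc30 yc58 zc54) (kc xc30 yc57 zc58) (kc xc32 yc16 zc13) (kc xc32 yc28 zc15) (kc xc32 yc55 zc15) (kc xc30 yc38 zc60) (kc xc32 yc32 zc12) (kc xc32 yc53 zc17) (kc xc26 yc9 zc26) (kc xc28 yc11 zc38) (kc xc30 yc39 zc59) (kc xc27 yc7 zc53) (kc xc30 yc5 zc32) (kc xc29 yc17 zc19) (kc xc26 yc10 zc2) (kc xc28 yc29 zc51) (kc xc28 yc54 zc24) (kc xc31 yc8 zc40) (kc xc32 yc53 zc25) (kc xc32 yc48 zc54) (kc xc26 yc28 zc19) (kc xc32 yc25 zc8) (kc xc26 yc10 zc31) (kc xc31 yc41 zc43) (kc xc26 yc10 zc54) (kc xc28 yc15 zc24) (kc xc30 yc25 zc5) (kc xc27 yc28 zc57) (kc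 xc32 yc5 zc48) (kc xc26 yc11 zc24) (kc xc30 yc58 zc1) (kc xc31 yc45 zc5) (kc xc26 yc11 zc39) (kc xc26 yc11 zc40) (kc xc26 yc11 zc43) (kc xc26 yc11 zc46) (kc xc29 yc6 zc15) (kc xc31 yc34 zc2) (kc xc26 yc11 zc48) (kc xc32 yc38 zc10) (kc xc27 yc25 zc17) (kc xc32 yc24 zc48) (kc xc30 yc12 zc14) (kc xc26 yc11 zc51) (kc xc31 yc33 zc58) (kc xc32 yc5 zc31) (kc xc28 yc41 zc45) (kc xc26 yc11 zc61) (kc xc26 yc11 zc53) (kc xc32 yc24 zc28) (kc xc28 yc44 zc5) (kc xc26 yc12 zc2) (kc xc26 yc30 zc0) (kc xc28 yc41 zc32) (kc xc26 yc12 zc1) (kc xc26 yc12 zc0) (kc xc27 yc52 zc27) (kc xc27 yc53 zc9) (kc xc26 yc12 zc7)) (@D3.rec (fun _ => Pt) (kc xc27 yc47 zc57) (kc xc27 yc48 zc4) (kc xc31 yc44 zc16) (kc xc26 yc45 zc49) (kc xc26 yc13 zc13) (kc xc26 yc13 zc32) (kc xc26 yc16 zc22) (kc xc31 yc56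 zc35) (kc xc26 yc13 zc34) (kc xc26 yc18 zc12) (kc xc29 yc16 zc34) (kc xc26 yc13 zc45) (kc xc26 yc13 zc48) (kc xc29 yc54 zc10) (kc xc31 yc53 zc22) (kc xc31 yc35 zc34) (kc xc29 yc37 zc40) (kc xc30 yc6 zc22) (kc xc29 yc11 zc12) (kc xc26 yc14 zc11) (kc xc27 yc41 zc27) (kc xc26 yc14 zc52) (kc xc31 yc44 zc54) (kc xc26 yc15 zc7) (kc xc31 yc15 zc33) (kc xc26 yc21 zc28) (kc xc27 yc29 zc3) (kc xc31 yc42 zc2) (kc xc26 yc15 zc23) (kc xc28 yc13 zc31) (kc xc26 yc31 zc32) (kc xc32 yc4 zc59) (kc xc32 yc57 zc57) (kc xc27 yc39 zc47) (kc xc26 yc15 zc35) (kc xc26 yc23 zc59) (kc xc31 yc14 zc51) (kc xc26 yc21 zc45) (kc xc28 yc2 zc12) (kc xc28 yc3 zc60) (kc xc29 yc51 zc26) (kc xc26 yc15 zc57) (kc xc26 yc16 zc6) (kc xc31 yc48 zc17) (kc xc27 yc46 zc40) (kc xc26 yc16 zc21) (kc xc27 yc31 zc20)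 (kc xc32 yc57 zc36) (kc xc26 yc16 zc24) (kc xc26 yc16 zc28) (kc xc32 yc55 zc59) (kc xc30 yc23 zc19) (kc xc27 yc26 zc18) (kc xc30 yc40 zc42) (kc xc31 yc6 zc13) (kc xc32 yc58 zc52) (kc xc27 yc36 zc16) (kc xc27 yc36 zc15) (kc xc26 yc49 zc18) (kc xc32 yc27 zc23) (kc xc26 yc17 zc25) (kc xc32 yc26 zc36)) (@D3.rec (fun _ => Pt) (kc xc26 yc49 zc3) (kc xc26 yc30 zc16) (kc xc26 yc17 zc38) (kc xc26 yc17 zc44) (kc xc26 yc17 zc47) (kc xc28 yc8 zc40) (kc xc32 yc26 zc39) (kc xc32 yc57 zc7) (kc xc28 yc8 zc41) (kc xc32 yc44 zc40) (kc xc32 yc54 zc15) (kc xc32 yc31 zc21) (kc xc26 yc17 zc56) (kc xc32 yc27 zc30) (kc xc28 yc27 zc53) (kc xc26 yc18 zc3) (kc xc28 yc42 zc41) (kc xc28 yc5 zc22) (kc xc26 yc18 zc13) (kc xc30 yc35 zc15) (kc xc28 yc14 zc26) (kc xc31 yc16 zc9) (kc xc26 yc18 zc48)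 (kc xc26 yc18 zc50) (kc xc28 yc5 zc21) (kc xc26 yc18 zc54) (kc xc27 yc46 zc20) (kc xc26 yc18 zc57) (kc xc28 yc6 zc11) (kc xc29 yc19 zc48) (kc xc32 yc9 zc45) (kc xc26 yc19 zc21) (kc xc28 yc0 zc2) (kc xc31 yc14 zc35) (kc xc26 yc20 zc48) (kc xc30 yc20 zc40) (kc xc32 yc34 zc13) (kc xc29 yc19 zc50) (kc xc30 yc27 zc36) (kc xc32 yc36 zc17) (kc xc29 yc19 zc17) (kc xc28 yc7 zc28) (kc xc32 yc58 zc50) (kc xc32 yc28 zc35) (kc xc26 yc20 zc36) (kc xc32 yc10 zc24) (kc xc26 yc20 zc51) (kc xc27 yc48 zc60) (kc xc31 yc54 zc23) (kc xc28 yc8 zc20) (kc xc29 yc53 zc55) (kc xc26 yc30 zc10) (kc xc32 yc29 zc39) (kc xc27 yc51 zc43) (kc xc26 yc21 zc18) (kc xc29 yc53 zc23) (kc xc26 yc21 zc21) (kc xc31 yc42 zc3) (kc xc26 yc21 zc25) (kc xc27 yc29 zc8) (kc xc29 yc4 zc11) (kc xc27 yc29 zc6)) (@D3.rec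 (fun _ => Pt) (kc xc27 yc29 zc10) (kc xc27 yc29 zc9) (kc xc26 yc24 zc15) (kc xc26 yc21 zc33) (kc xc31 yc43 zc61) (kc xc32 yc24 zc24) (kc xc30 yc36 zc13) (kc xc26 yc22 zc8) (kc xc27 yc15 zc18) (kc xc32 yc44 zc16) (kc xc26 yc28 zc5) (kc xc27 yc9 zc54) (kc xc27 yc14 zc27) (kc xc29 yc54 zc55) (kc xc26 yc22 zc21) (kc xc28 yc33 zc34) (kc xc26 yc22 zc34) (kc xc29 yc13 zc51) (kc xc26 yc22 zc61) (kc xc26 yc23 zc14) (kc xc27 yc46 zc52) (kc xc26 yc56 zc9) (kc xc29 yc58 zc18) (kc xc26 yc23 zc57) (kc xc30 yc54 zc42) (kc xc27 yc40 zc36) (kc xc28 yc29 zc12) (kc xc26 yc24 zc6) (kc xc27 yc54 zc38) (kc xc26 yc24 zc21) (kc xc32 yc51 zc14) (kc xc30 yc50 zc24) (kc xc26 yc24 zc28) (kc xc26 yc29 zc6) (kc xc31 yc46 zc49) (kc xc26 yc24 zc27) (kc xc28 yc29 zc33) (kc xc26 yc24 zc30) (kc xc26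 yc24 zc32) (kc xc26 yc24 zc55) (kc xc30 yc6 zc41) (kc xc31 yc0 zc38) (kc xc29 yc27 zc41) (kc xc26 yc25 zc11) (kc xc30 yc33 zc15) (kc xc26 yc25 zc25) (kc xc26 yc25 zc22) (kc xc29 yc38 zc31) (kc xc31 yc25 zc54) (kc xc26 yc26 zc4) (kc xc26 yc26 zc5) (kc xc26 yc26 zc7) (kc xc32 yc23 zc32) (kc xc26 yc26 zc12) (kc xc32 yc39 zc7) (kc xc32 yc41 zc1) (kc xc26 yc56 zc51) (kc xc27 yc0 zc33) (kc xc26 yc26 zc56) (kc xc27 yc15 zc23) (kc xc26 yc27 zc14) (kc xc30 yc44 zc31)) (@D3.rec (fun _ => Pt) (kc xc32 yc39 zc8) (kc xc26 yc27 zc25) (kc xc29 yc48 zc42) (kc xc26 yc27 zc27) (kc xc29 yc31 zc57) (kc xc31 yc52 zc43) (kc xc32 yc39 zc14) (kc xc31 yc53 zc17) (kc xc32 yc33 zc23) (kc xc32 yc4 zc22) (kc xc26 yc27 zc40) (kc xc30 yc53 zc7) (kc xc27 yc0 zc39) (kc xc28 yc17 zc8) (kc xc26 yc27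 zc58) (kc xc26 yc27 zc59) (kc xc32 yc36 zc18) (kc xc26 yc27 zc61) (kc xc31 yc31 zc53) (kc xc26 yc28 zc7) (kc xc29 yc54 zc6) (kc xc30 yc56 zc21) (kc xc28 yc56 zc7) (kc xc32 yc48 zc40) (kc xc26 yc29 zc17) (kc xc31 yc43 zc54) (kc xc29 yc53 zc46) (kc xc26 yc28 zc56) (kc xc30 yc38 zc26) (kc xc26 yc28 zc59) (kc xc29 yc15 zc2) (kc xc28 yc38 zc24) (kc xc27 yc1 zc54) (kc xc30 yc51 zc38) (kc xc32 yc34 zc4) (kc xc32 yc35 zc12) (kc xc26 yc29 zc15) (kc xc30 yc56 zc8) (kc xc26 yc29 zc16) (kc xc28 yc45 zc27) (kc xc30 yc44 zc14) (kc xc26 yc29 zc43) (kc xc32 yc41 zc27) (kc xc26 yc29 zc46) (kc xc26 yc29 zc45) (kc xc32 yc7 zc30) (kc xc26 yc29 zc50) (kc xc29 yc32 zc49) (kc xc26 yc29 zc57) (kc xc27 yc27 zc37) (kc xc26 yc30 zc2) (kc xc31 yc47 zc29) (kc xc26 yc30 zc8) (kc xc31 yc6 zc9) (kc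 xc28 yc12 zc9) (kc xc28 yc17 zc20) (kc xc28 yc17 zc25) (kc xc28 yc33 zc46) (kc xc26 yc30 zc25) (kc xc30 yc47 zc59) (kc xc32 yc32 zc15) (kc xc29 yc4 zc18)) (@D3.rec (fun _ => Pt) (kc xc26 yc30 zc38) (kc xc30 yc48 zc15) (kc xc30 yc45 zc53) (kc xc32 yc28 zc60) (kc xc32 yc54 zc19) (kc xc26 yc30 zc43) (kc xc27 yc21 zc14) (kc xc27 yc28 zc56) (kc xc27 yc28 zc55) (kc xc32 yc19 zc40) (kc xc31 yc53 zc2) (kc xc27 yc44 zc26) (kc xc27 yc47 zc5) (kc xc26 yc31 zc22) (kc xc32 yc35 zc8) (kc xc29 yc24 zc57) (kc xc26 yc31 zc31) (kc xc32 yc49 zc34) (kc xc26 yc31 zc45) (kc xc28 yc55 zc40) (kc xc32 yc47 zc53) (kc xc27 yc28 zc54) (kc xc27 yc28 zc52) (kc xc31 yc42 zc42) (kc xc32 yc7 zc45) (kc xc28 yc22 zc19) (kc xc30 yc39 zc52) (kc xc30 yc11 zc22) (kc xc31 yc59 zc56) (kc xc26 yc32 zc49) (kc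 xc28 yc15 zc57) (kc xc31 yc50 zc57) (kc xc26 yc58 zc40) (kc xc26 yc33 zc20) (kc xc32 yc52 zc52) (kc xc26 yc33 zc29) (kc xc26 yc37 zc42) (kc xc32 yc54 zc41) (kc xc31 yc12 zc42) (kc xc28 yc51 zc26) (kc xc29 yc26 zc10) (kc xc27 yc7 zc43) (kc xc31 yc29 zc49) (kc xc30 yc28 zc2) (kc xc26 yc43 zc16) (kc xc31 yc12 zc45) (kc xc26 yc52 zc8) (kc xc29 yc4 zc60) (kc xc29 yc4 zc59) (kc xc32 yc36 zc36) (kc xc32 yc33 zc33) (kc xc32 yc45 zc46) (kc xc32 yc34 zc28) (kc xc29 yc46 zc17) (kc xc26 yc34 zc8) (kc xc32 yc12 zc22) (kc xc29 yc43 zc39) (kc xc31 yc40 zc54) (kc xc26 yc35 zc23) (kc xc32 yc53 zc54) (kc xc32 yc14 zc6) (kc xc32 yc39 zc19)) (@D3.rec (fun _ => Pt) (kc xc29 yc36 zc19) (kc xc29 yc27 zc29) (kc xc32 yc27 zc18) (kc xc29 yc34 zc3) (kc xc29 yc53 zc31) (kc xc26 yc44 zc37) (kc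 xc28 yc38 zc7) (kc xc29 yc56 zc10) (kc xc29 yc56 zc30) (kc xc27 yc18 zc45) (kc xc32 yc57 zc10) (kc xc26 yc34 zc33) (kc xc32 yc57 zc13) (kc xc30 yc27 zc30) (kc xc27 yc13 zc60) (kc xc30 yc27 zc47) (kc xc32 yc52 zc43) (kc xc32 yc33 zc11) (kc xc28 yc40 zc35) (kc xc32 yc58 zc54) (kc xc30 yc53 zc10) (kc xc26 yc59 zc40) (kc xc32 yc16 zc4) (kc xc32 yc42 zc36) (kc xc27 yc18 zc51) (kc xc32 yc39 zc17) (kc xc28 yc16 zc60) (kc xc31 yc12 zc35) (kc xc32 yc44 zc2) (kc xc29 yc21 zc26) (kc xc31 yc12 zc34) (kc xc31 yc21 zc53) (kc xc26 yc35 zc13) (kc xc29 yc53 zc30) (kc xc28 yc51 zc16) (kc xc32 yc38 zc40) (kc xc29 yc3 zc13) (kc xc30 yc52 zc54) (kc xc31 yc58 zc12) (kc xc32 yc47 zc45) (kc xc32 yc40 zc21) (kc xc29 yc0 zc12) (kc xc26 yc35 zc24) (kc xc28 yc26 zc42) (kc xc27 yc18 zc60) (kc xc31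 yc19 zc13) (kc xc31 yc17 zc58) (kc xc29 yc55 zc46) (kc xc31 yc32 zc32) (kc xc31 yc12 zc29) (kc xc32 yc57 zc25) (kc xc26 yc35 zc44) (kc xc29 yc52 zc44) (kc xc26 yc35 zc48) (kc xc26 yc35 zc47) (kc xc31 yc55 zc39) (kc xc28 yc40 zc5) (kc xc26 yc35 zc50) (kc xc32 yc33 zc9) (kc xc29 yc34 zc6) (kc xc26 yc36 zc22) (kc xc31 yc33 zc18)) (@D3.rec (fun _ => Pt) (kc xc28 yc59 zc44) (kc xc26 yc35 zc57) (kc xc29 yc46 zc6) (kc xc29 yc56 zc16) (kc xc31 yc27 zc10) (kc xc26 yc35 zc60) (kc xc32 yc17 zc6) (kc xc29 yc19 zc38) (kc xc27 yc35 zc29) (kc xc26 yc36 zc0) (kc xc32 yc57 zc2) (kc xc26 yc40 zc47) (kc xc30 yc39 zc0) (kc xc26 yc36 zc3) (kc xc26 yc36 zc12) (kc xc30 yc15 zc43) (kc xc32 yc37 zc47) (kc xc32 yc13 zc38) (kc xc26 yc36 zc9) (kc xc32 yc58 zc56) (kc xc32 yc45 zc26) (kc xc28 yc55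 zc56) (kc xc32 yc10 zc55) (kc xc26 yc36 zc17) (kc xc32 yc57 zc17) (kc xc30 yc16 zc27) (kc xc30 yc16 zc28) (kc xc28 yc40 zc48) (kc xc32 yc33 zc36) (kc xc29 yc40 zc34) (kc xc32 yc18 zc34) (kc xc31 yc33 zc20) (kc xc26 yc36 zc25) (kc xc32 yc58 zc55) (kc xc32 yc50 zc59) (kc xc26 yc36 zc26) (kc xc32 yc58 zc57) (kc xc32 yc12 zc41) (kc xc26 yc36 zc29) (kc xc31 yc55 zc46) (kc xc29 yc31 zc17) (kc xc32 yc12 zc37) (kc xc31 yc35 zc52) (kc xc31 yc25 zc4) (kc xc32 yc0 zc41) (kc xc28 yc34 zc20) (kc xc26 yc36 zc45) (kc xc32 yc15 zc2) (kc xc32 yc44 zc38) (kc xc26 yc36 zc53) (kc xc32 yc47 zc56) (kc xc26 yc46 zc41) (kc xc29 yc4 zc55) (kc xc30 yc16 zc37) (kc xc32 yc3 zc31) (kc xc26 yc37 zc23) (kc xc29 yc47 zc9) (kc xc32 yc25 zc24) (kc xc26 yc39 zc56) (kc xc28 yc46 zc59) (kc xc32 yc14 zc26)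 (kc xc27 yc48 zc58)) (@D3.rec (fun _ => Pt) (kc xc31 yc35 zc49) (kc xc32 yc41 zc38) (kc xc30 yc8 zc23) (kc xc31 yc29 zc33) (kc xc31 yc29 zc1) (kc xc31 yc9 zc53) (kc xc32 yc34 zc38) (kc xc32 yc37 zc58) (kc xc26 yc38 zc1) (kc xc31 yc51 zc59) (kc xc30 yc25 zc41) (kc xc28 yc50 zc31) (kc xc27 yc19 zc28) (kc xc30 yc31 zc20) (kc xc30 yc29 zc60) (kc xc30 yc56 zc51) (kc xc32 yc57 zc12) (kc xc28 yc15 zc45) (kc xc31 yc21 zc54) (kc xc28 yc52 zc28) (kc xc28 yc51 zc10) (kc xc32 yc14 zc57) (kc xc32 yc0 zc58) (kc xc29 yc3 zc16) (kc xc29 yc13 zc8) (kc xc26 yc38 zc27) (kc xc27 yc10 zc58) (kc xc26 yc38 zc33) (kc xc32 yc45 zc45) (kc xc32 yc45 zc43) (kc xc29 yc4 zc52) (kc xc32 yc46 zc30) (kc xc29 yc40 zc27) (kc xc32 yc45 zc38) (kc xc26 yc38 zc47) (kc xc30 yc29 zc26) (kc xc26 yc38 zc51)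 (kc xc26 yc38 zc52) (kc xc32 yc12 zc17) (kc xc26 yc58 zc49) (kc xc26 yc58 zc51) (kc xc32 yc18 zc52) (kc xc32 yc4 zc3) (kc xc32 yc50 zc30) (kc xc31 yc24 zc55) (kc xc29 yc25 zc52) (kc xc26 yc59 zc60) (kc xc31 yc25 zc28) (kc xc28 yc55 zc38) (kc xc28 yc35 zc12) (kc xc31 yc41 zc28) (kc xc27 yc43 zc55) (kc xc30 yc42 zc57) (kc xc28 yc54 zc53) (kc xc26 yc39 zc35) (kc xc28 yc15 zc31) (kc xc32 yc22 zc17) (kc xc30 yc9 zc17) (kc xc31 yc56 zc54) (kc xc31 yc34 zc30) (kc xc26 yc40 zc5) (kc xc31 yc41 zc32)) (@D3.rec (fun _ => Pt) (kc xc32 yc14 zc45) (kc xc27 yc17 zc39) (kc xc30 yc25 zc53) (kc xc30 yc25 zc54) (kc xc26 yc40 zc10) (kc xc32 yc54 zc10) (kc xc32 yc10 zc60) (kc xc32 yc40 zc53) (kc xc30 yc29 zc42) (kc xc27 yc42 zc50) (kc xc28 yc18 zc36) (kc xc26 yc40 zc24) (kc xc31 yc19 zc23)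 (kc xc26 yc40 zc30) (kc xc31 yc17 zc8) (kc xc32 yc56 zc38) (kc xc32 yc47 zc6) (kc xc26 yc40 zc44) (kc xc26 yc40 zc45) (kc xc27 yc0 zc18) (kc xc29 yc21 zc24) (kc xc31 yc47 zc2) (kc xc31 yc21 zc45) (kc xc26 yc40 zc55) (kc xc31 yc20 zc26) (kc xc26 yc41 zc5) (kc xc32 yc12 zc60) (kc xc32 yc41 zc52) (kc xc29 yc52 zc6) (kc xc29 yc52 zc7) (kc xc26 yc41 zc13) (kc xc28 yc54 zc49) (kc xc32 yc3 zc32) (kc xc28 yc30 zc31) (kc xc27 yc7 zc30) (kc xc30 yc25 zc40) (kc xc31 yc49 zc15) (kc xc31 yc39 zc36) (kc xc31 yc40 zc45) (kc xc30 yc3 zc47) (kc xc32 yc23 zc0) (kc xc29 yc8 zc9) (kc xc28 yc51 zc33) (kc xc29 yc8 zc32) (kc xc26 yc42 zc45) (kc xc32 yc14 zc0) (kc xc31 yc18 zc32) (kc xc31 yc13 zc50) (kc xc26 yc42 zc53) (kc xc31 yc30 zc10) (kc xc29 yc15 zc31) (kc xc26 yc42 zc54) (kc xc26 yc42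 zc55) (kc xc26 yc42 zc56) (kc xc26 yc42 zc59) (kc xc32 yc22 zc12) (kc xc29 yc45 zc12) (kc xc32 yc13 zc21) (kc xc31 yc52 zc24) (kc xc26 yc43 zc0) (kc xc32 yc58 zc10) (kc xc27 yc8 zc52)) (@D3.rec (fun _ => Pt) (kc xc28 yc14 zc48) (kc xc30 yc32 zc29) (kc xc32 yc12 zc47) (kc xc32 yc35 zc57) (kc xc29 yc8 zc36) (kc xc29 yc8 zc5) (kc xc28 yc2 zc49) (kc xc32 yc56 zc57) (kc xc31 yc49 zc14) (kc xc32 yc57 zc40) (kc xc32 yc56 zc52) (kc xc26 yc43 zc21) (kc xc29 yc13 zc49) (kc xc26 yc47 zc54) (kc xc29 yc13 zc52) (kc xc32 yc29 zc36) (kc xc30 yc47 zc18) (kc xc26 yc45 zc27) (kc xc31 yc11 zc30) (kc xc31 yc49 zc31) (kc xc29 yc15 zc32) (kc xc32 yc52 zc20) (kc xc26 yc51 zc22) (kc xc32 yc34 zc52) (kc xc26 yc55 zc41) (kc xc28 yc53 zc43) (kc xc29 yc6 zc2) (kc xc27 yc16 zc51) (kc xc31 yc15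 zc54) (kc xc29 yc8 zc22) (kc xc31 yc40 zc57) (kc xc32 yc49 zc36) (kc xc31 yc36 zc56) (kc xc32 yc18 zc5) (kc xc27 yc16 zc24) (kc xc26 yc50 zc43) (kc xc31 yc33 zc0) (kc xc31 yc14 zc23) (kc xc32 yc0 zc49) (kc xc27 yc43 zc15) (kc xc30 yc21 zc21) (kc xc32 yc47 zc1) (kc xc29 yc24 zc36) (kc xc32 yc22 zc27) (kc xc29 yc1 zc36) (kc xc31 yc35 zc50) (kc xc31 yc59 zc8) (kc xc29 yc3 zc49) (kc xc31 yc9 zc6) (kc xc31 yc30 zc50) (kc xc28 yc39 zc14) (kc xc29 yc19 zc11) (kc xc28 yc56 zc44) (kc xc32 yc0 zc14) (kc xc30 yc12 zc34) (kc xc31 yc36 zc9) (kc xc31 yc54 zc46) (kc xc32 yc49 zc20) (kc xc29 yc48 zc2) (kc xc26 yc47 zc9) (kc xc31 yc34 zc36) (kc xc29 yc12 zc0)) (@D3.rec (fun _ => Pt) (kc xc31 yc57 zc4) (kc xc29 yc11 zc31) (kc xc31 yc10 zc20) (kc xc28 yc54 zc22) (kc xc32 yc11 zc22) (kc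 xc32 yc51 zc39) (kc xc32 yc58 zc61) (kc xc32 yc55 zc20) (kc xc26 yc47 zc26) (kc xc32 yc54 zc59) (kc xc32 yc16 zc14) (kc xc31 yc2 zc54) (kc xc26 yc47 zc43) (kc xc32 yc5 zc5) (kc xc32 yc16 zc10) (kc xc29 yc10 zc10) (kc xc29 yc10 zc12) (kc xc32 yc4 zc39) (kc xc26 yc47 zc59) (kc xc31 yc5 zc16) (kc xc29 yc5 zc14) (kc xc30 yc1 zc41) (kc xc31 yc5 zc42) (kc xc31 yc20 zc57) (kc xc26 yc48 zc46) (kc xc32 yc25 zc35) (kc xc29 yc53 zc60) (kc xc29 yc20 zc55) (kc xc28 yc54 zc35) (kc xc26 yc58 zc14) (kc xc31 yc25 zc40) (kc xc30 yc30 zc42) (kc xc30 yc30 zc43) (kc xc30 yc22 zc32) (kc xc30 yc36 zc29) (kc xc29 yc45 zc42) (kc xc32 yc55 zc61) (kc xc30 yc22 zc9) (kc xc32 yc4 zc15) (kc xc26 yc50 zc23) (kc xc31 yc53 zc61) (kc xc32 yc52 zc3) (kc xc29 yc24 zc2) (kc xc30 yc22 zc10) (kc xc26 yc50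 zc54) (kc xc32 yc56 zc15) (kc xc26 yc56 zc8) (kc xc31 yc1 zc24) (kc xc30 yc29 zc16) (kc xc29 yc15 zc13) (kc xc31 yc24 zc30) (kc xc31 yc22 zc31) (kc xc29 yc55 zc52) (kc xc26 yc51 zc41) (kc xc32 yc52 zc56) (kc xc26 yc51 zc55) (kc xc30 yc39 zc45) (kc xc26 yc51 zc58) (kc xc26 yc51 zc59) (kc xc26 yc51 zc60) (kc xc30 yc29 zc7) (kc xc32 yc37 zc50)) (@D3.rec (fun _ => Pt) (kc xc30 yc22 zc47) (kc xc26 yc52 zc17) (kc xc30 yc25 zc60) (kc xc32 yc22 zc59) (kc xc30 yc28 zc4) (kc xc27 yc43 zc59) (kc xc32 yc12 zc6) (kc xc32 yc45 zc14) (kc xc31 yc14 zc4) (kc xc30 yc25 zc44) (kc xc32 yc29 zc45) (kc xc32 yc29 zc48) (kc xc28 yc6 zc60) (kc xc31 yc25 zc10) (kc xc26 yc52 zc39) (kc xc26 yc52 zc40) (kc xc30 yc17 zc10) (kc xc26 yc52 zc50) (kc xc29 yc23 zc14) (kc xc31 yc30 zc54) (kc xc31 yc53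 zc41) (kc xc30 yc23 zc6) (kc xc32 yc51 zc24) (kc xc26 yc54 zc21) (kc xc26 yc53 zc31) (kc xc26 yc53 zc35) (kc xc26 yc53 zc53) (kc xc28 yc39 zc60) (kc xc32 yc36 zc43) (kc xc29 yc15 zc8) (kc xc29 yc35 zc45) (kc xc30 yc38 zc18) (kc xc26 yc54 zc18) (kc xc29 yc36 zc59) (kc xc26 yc54 zc11) (kc xc26 yc53 zc55) (kc xc26 yc53 zc57) (kc xc26 yc53 zc58) (kc xc29 yc27 zc1) (kc xc26 yc53 zc60) (kc xc32 yc46 zc21) (kc xc28 yc51 zc52) (kc xc31 yc30 zc5) (kc xc28 yc43 zc7) (kc xc31 yc39 zc37) (kc xc31 yc29 zc56) (kc xc29 yc14 zc21) (kc xc29 yc27 zc32) (kc xc32 yc54 zc48) (kc xc32 yc17 zc58) (kc xc26 yc54 zc27) (kc xc29 yc15 zc18) (kc xc29 yc15 zc17) (kc xc28 yc53 zc50) (kc xc31 yc52 zc36) (kc xc28 yc37 zc2) (kc xc29 yc50 zc19) (kc xc32 yc18 zc0) (kc xc32 yc17 zc49) (kc xc32 yc27 zc19)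 (kc xc31 yc52 zc4) (kc xc31 yc24 zc35)) (@D3.rec (fun _ => Pt) (kc xc32 yc17 zc57) (kc xc32 yc54 zc54) (kc xc31 yc51 zc58) (kc xc32 yc57 zc48) (kc xc29 yc42 zc45) (kc xc32 yc15 zc33) (kc xc30 yc26 zc14) (kc xc29 yc34 zc53) (kc xc31 yc50 zc25) (kc xc28 yc40 zc12) (kc xc26 yc55 zc49) (kc xc27 yc37 zc1) (kc xc32 yc37 zc21) (kc xc30 yc32 zc21) (kc xc30 yc38 zc8) (kc xc26 yc55 zc61) (kc xc26 yc56 zc22) (kc xc28 yc53 zc10) (kc xc28 yc55 zc45) (kc xc30 yc30 zc1) (kc xc30 yc53 zc0) (kc xc31 yc25 zc25) (kc xc32 yc45 zc35) (kc xc27 yc0 zc31) (kc xc26 yc57 zc2) (kc xc26 yc56 zc32) (kc xc26 yc58 zc52) (kc xc29 yc8 zc11) (kc xc29 yc47 zc33) (kc xc27 yc0 zc37) (kc xc29 yc43 zc4) (kc xc29 yc34 zc4) (kc xc28 yc53 zc13) (kc xc32 yc37 zc27) (kc xc32 yc12 zc30) (kc xc26 yc57 zc9) (kc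 xc30 yc17 zc35) (kc xc32 yc19 zc56) (kc xc29 yc53 zc39) (kc xc32 yc59 zc7) (kc xc26 yc57 zc31) (kc xc28 yc44 zc31) (kc xc31 yc19 zc35) (kc xc26 yc57 zc33) (kc xc26 yc57 zc34) (kc xc28 yc55 zc32) (kc xc29 yc31 zc36) (kc xc32 yc3 zc46) (kc xc27 yc35 zc51) (kc xc26 yc58 zc56) (kc xc29 yc48 zc38) (kc xc31 yc35 zc8) (kc xc32 yc13 zc41) (kc xc27 yc0 zc0) (kc xc27 yc0 zc1) (kc xc32 yc52 zc21) (kc xc27 yc0 zc11) (kc xc27 yc0 zc12) (kc xc27 yc18 zc54) (kc xc27 yc19 zc29) (kc xc30 yc42 zc53) (kc xc32 yc52 zc42)) (@D3.rec (fun _ => Pt) (kc xc30 yc48 zc57) (kc xc32 yc30 zc54) (kc xc30 yc56 zc45) (kc xc30 yc48 zc59) (kc xc27 yc0 zc24) (kc xc27 yc11 zc44) (kc xc30 yc48 zc42) (kc xc30 yc48 zc43) (kc xc31 yc47 zc0) (kc xc27 yc0 zc27) (kc xc28 yc24 zc4) (kc xc27 yc16 zc25) (kc xc31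 yc19 zc28) (kc xc31 yc19 zc36) (kc xc29 yc34 zc31) (kc xc27 yc0 zc40) (kc xc28 yc52 zc37) (kc xc29 yc34 zc26) (kc xc32 yc35 zc25) (kc xc32 yc34 zc21) (kc xc32 yc55 zc0) (kc xc27 yc1 zc35) (kc xc31 yc55 zc51) (kc xc27 yc1 zc48) (kc xc27 yc1 zc56) (kc xc27 yc2 zc22) (kc xc27 yc2 zc23) (kc xc32 yc47 zc61) (kc xc32 yc50 zc5) (kc xc32 yc20 zc13) (kc xc32 yc24 zc7) (kc xc27 yc2 zc16) (kc xc32 yc57 zc42) (kc xc27 yc2 zc21) (kc xc32 yc51 zc10) (kc xc31 yc40 zc5) (kc xc30 yc31 zc5) (kc xc30 yc54 zc5) (kc xc27 yc2 zc52) (kc xc32 yc30 zc50) (kc xc32 yc10 zc9) (kc xc27 yc3 zc0) (kc xc32 yc59 zc8) (kc xc31 yc39 zc24) (kc xc28 yc53 zc12) (kc xc27 yc3 zc9) (kc xc28 yc24 zc33) (kc xc27 yc4 zc25) (kc xc27 yc47 zc59) (kc xc29 yc27 zc13) (kc xc27 yc4 zc29) (kc xc29 yc58 zc37) (kc xc30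 yc58 zc58) (kc xc30 yc1 zc53) (kc xc27 yc4 zc43) (kc xc27 yc5 zc0) (kc xc32 yc18 zc37) (kc xc27 yc5 zc25) (kc xc27 yc5 zc26) (kc xc28 yc33 zc38) (kc xc28 yc44 zc46) (kc xc28 yc54 zc48)) (@D3.rec (fun _ => Pt) (kc xc29 yc7 zc32) (kc xc31 yc49 zc5) (kc xc27 yc6 zc21) (kc xc31 yc53 zc48) (kc xc32 yc22 zc8) (kc xc32 yc22 zc9) (kc xc27 yc6 zc26) (kc xc32 yc35 zc51) (kc xc27 yc6 zc27) (kc xc30 yc28 zc51) (kc xc30 yc28 zc48) (kc xc27 yc6 zc37) (kc xc32 yc20 zc41) (kc xc32 yc19 zc29) (kc xc27 yc6 zc45) (kc xc31 yc13 zc54) (kc xc27 yc6 zc47) (kc xc32 yc51 zc22) (kc xc32 yc52 zc31) (kc xc30 yc22 zc6) (kc xc27 yc13 zc32) (kc xc32 yc41 zc40) (kc xc27 yc6 zc53) (kc xc27 yc6 zc54) (kc xc27 yc6 zc58) (kc xc27 yc7 zc2) (kc xc27 yc8 zc47) (kc xc27 yc7 zc3) (kc xc32 yc34 zc57) (kc xc28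 yc53 zc0) (kc xc27 yc13 zc39) (kc xc32 yc57 zc38) (kc xc32 yc41 zc36) (kc xc32 yc58 zc30) (kc xc27 yc7 zc7) (kc xc31 yc52 zc14) (kc xc30 yc19 zc19) (kc xc29 yc48 zc29) (kc xc30 yc22 zc8) (kc xc27 yc16 zc57) (kc xc30 yc5 zc39) (kc xc32 yc20 zc12) (kc xc27 yc7 zc18) (kc xc27 yc7 zc21) (kc xc32 yc59 zc6) (kc xc32 yc24 zc27) (kc xc27 yc7 zc25) (kc xc27 yc7 zc23) (kc xc32 yc57 zc39) (kc xc32 yc57 zc47) (kc xc32 yc59 zc13) (kc xc32 yc58 zc21) (kc xc32 yc59 zc12) (kc xc31 yc52 zc10) (kc xc27 yc7 zc27) (kc xc27 yc7 zc29) (kc xc27 yc7 zc31) (kc xc31 yc14 zc0) (kc xc28 yc25 zc26) (kc xc27 yc7 zc35) (kc xc32 yc40 zc28) (kc xc32 yc47 zc42)) (@D3.rec (fun _ => Pt) (kc xc32 yc39 zc30) (kc xc27 yc17 zc3) (kc xc27 yc7 zc46) (kc xc30 yc13 zc55) (kc xc30 yc13 zc53) (kc xc29 yc50 zc53)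 (kc xc27 yc7 zc51) (kc xc31 yc28 zc59) (kc xc27 yc7 zc52) (kc xc31 yc30 zc19) (kc xc32 yc48 zc24) (kc xc31 yc45 zc22) (kc xc32 yc38 zc18) (kc xc27 yc8 zc15) (kc xc27 yc8 zc17) (kc xc30 yc38 zc3) (kc xc27 yc13 zc6) (kc xc30 yc29 zc57) (kc xc27 yc8 zc26) (kc xc32 yc41 zc39) (kc xc28 yc56 zc6) (kc xc27 yc8 zc31) (kc xc31 yc24 zc7) (kc xc27 yc8 zc34) (kc xc27 yc8 zc39) (kc xc27 yc8 zc44) (kc xc27 yc8 zc45) (kc xc30 yc39 zc24) (kc xc32 yc4 zc21) (kc xc29 yc9 zc24) (kc xc27 yc9 zc5) (kc xc27 yc9 zc16) (kc xc31 yc14 zc57) (kc xc28 yc49 zc53) (kc xc27 yc9 zc44) (kc xc32 yc36 zc30) (kc xc32 yc22 zc31) (kc xc27 yc9 zc61) (kc xc28 yc9 zc50) (kc xc32 yc58 zc8) (kc xc29 yc54 zc60) (kc xc29 yc24 zc34) (kc xc31 yc12 zc33) (kc xc30 yc8 zc22) (kc xc28 yc46 zc50) (kc xc27 yc11 zc12)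 (kc xc28 yc56 zc50) (kc xc27 yc11 zc40) (kc xc27 yc11 zc42) (kc xc32 yc52 zc48) (kc xc29 yc26 zc7) (kc xc32 yc47 zc9) (kc xc31 yc28 zc36) (kc xc31 yc49 zc58) (kc xc32 yc32 zc8) (kc xc31 yc43 zc57) (kc xc27 yc12 zc20) (kc xc27 yc21 zc16) (kc xc32 yc31 zc16) (kc xc27 yc21 zc56) (kc xc32 yc52 zc14) (kc xc32 yc24 zc18)) (@D3.rec (fun _ => Pt) (kc xc32 yc48 zc43) (kc xc27 yc12 zc59) (kc xc27 yc14 zc33) (kc xc27 yc14 zc34) (kc xc30 yc31 zc48) (kc xc32 yc48 zc41) (kc xc27 yc13 zc14) (kc xc27 yc13 zc15) (kc xc32 yc20 zc4) (kc xc32 yc20 zc5) (kc xc29 yc48 zc34) (kc xc29 yc1 zc60) (kc xc32 yc14 zc55) (kc xc27 yc13 zc59) (kc xc32 yc37 zc52) (kc xc27 yc14 zc0) (kc xc32 yc57 zc29) (kc xc32 yc13 zc56) (kc xc28 yc59 zc34) (kc xc30 yc43 zc11) (kc xc27 yc14 zc11) (kc xc28 yc21 zc51)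 (kc xc29 yc45 zc15) (kc xc29 yc45 zc56) (kc xc30 yc50 zc12) (kc xc32 yc53 zc39) (kc xc28 yc33 zc49) (kc xc32 yc15 zc43) (kc xc32 yc42 zc38) (kc xc27 yc14 zc37) (kc xc27 yc14 zc45) (kc xc32 yc21 zc36) (kc xc32 yc0 zc45) (kc xc28 yc9 zc1) (kc xc30 yc37 zc26) (kc xc31 yc31 zc57) (kc xc32 yc33 zc46) (kc xc31 yc59 zc36) (kc xc27 yc15 zc15) (kc xc32 yc58 zc12) (kc xc32 yc40 zc51) (kc xc32 yc50 zc3) (kc xc28 yc52 zc60) (kc xc27 yc15 zc21) (kc xc28 yc36 zc26) (kc xc31 yc17 zc27) (kc xc27 yc15 zc24) (kc xc28 yc25 zc23) (kc xc30 yc36 zc46) (kc xc30 yc49 zc34) (kc xc27 yc15 zc44) (kc xc27 yc15 zc47) (kc xc27 yc15 zc51) (kc xc27 yc15 zc60) (kc xc27 yc15 zc61) (kc xc30 yc14 zc54) (kc xc32 yc56 zc50) (kc xc32 yc51 zc6) (kc xc27 yc16 zc3) (kc xc32 yc17 zc3) (kc xc32 yc39 zc2) (kc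 xc27 yc16 zc9)) (@D3.rec (fun _ => Pt) (kc xc32 yc14 zc40) (kc xc27 yc16 zc7) (kc xc27 yc16 zc8) (kc xc27 yc16 zc17) (kc xc29 yc42 zc53) (kc xc27 yc16 zc16) (kc xc28 yc44 zc35) (kc xc27 yc16 zc28) (kc xc32 yc57 zc4) (kc xc30 yc15 zc20) (kc xc27 yc16 zc31) (kc xc27 yc16 zc32) (kc xc27 yc16 zc40) (kc xc32 yc30 zc14) (kc xc32 yc44 zc51) (kc xc32 yc35 zc48) (kc xc27 yc16 zc46) (kc xc32 yc45 zc57) (kc xc27 yc16 zc47) (kc xc28 yc24 zc0) (kc xc32 yc49 zc54) (kc xc30 yc36 zc41) (kc xc27 yc16 zc53) (kc xc31 yc52 zc7) (kc xc28 yc16 zc40) (kc xc30 yc54 zc17) (kc xc27 yc20 zc26) (kc xc27 yc17 zc11) (kc xc27 yc17 zc12) (kc xc31 yc58 zc10) (kc xc27 yc17 zc36) (kc xc32 yc52 zc32) (kc xc32 yc8 zc52) (kc xc27 yc17 zc41) (kc xc31 yc46 zc14) (kc xc29 yc58 zc1) (kc xc27 yc17 zc53) (kc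 xc29 yc11 zc41) (kc xc27 yc17 zc54) (kc xc32 yc48 zc25) (kc xc31 yc46 zc46) (kc xc29 yc51 zc6) (kc xc27 yc18 zc2) (kc xc32 yc58 zc53) (kc xc32 yc43 zc17) (kc xc32 yc32 zc47) (kc xc31 yc58 zc20) (kc xc27 yc18 zc19) (kc xc27 yc18 zc23) (kc xc29 yc50 zc33) (kc xc32 yc49 zc29) (kc xc32 yc2 zc33) (kc xc27 yc18 zc41) (kc xc27 yc18 zc39) (kc xc29 yc11 zc51) (kc xc27 yc18 zc40) (kc xc29 yc59 zc36) (kc xc32 yc50 zc31) (kc xc32 yc24 zc0) (kc xc32 yc37 zc15) (kc xc29 yc1 zc15) (kc xc27 yc19 zc4)) (@D3.rec (fun _ => Pt) (kc xc32 yc23 zc58) (kc xc32 yc35 zc33) (kc xc32 yc39 zc16) (kc xc27 yc19 zc46) (kc xc27 yc19 zc18) (kc xc27 yc19 zc44) (kc xc31 yc58 zc53) (kc xc32 yc19 zc30) (kc xc27 yc19 zc35) (kc xc31 yc24 zc39) (kc xc32 yc58 zc41) (kc xc27 yc51 zc22) (kc xc27 yc20 zc44) (kc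 xc27 yc20 zc49) (kc xc27 yc20 zc58) (kc xc30 yc12 zc12) (kc xc32 yc44 zc24) (kc xc30 yc12 zc11) (kc xc32 yc21 zc61) (kc xc27 yc52 zc53) (kc xc27 yc54 zc52) (kc xc31 yc41 zc3) (kc xc27 yc23 zc3) (kc xc31 yc50 zc42) (kc xc32 yc8 zc5) (kc xc27 yc23 zc10) (kc xc27 yc23 zc14) (kc xc32 yc20 zc45) (kc xc32 yc5 zc52) (kc xc27 yc23 zc25) (kc xc27 yc23 zc27) (kc xc32 yc54 zc6) (kc xc29 yc58 zc3) (kc xc30 yc4 zc29) (kc xc30 yc32 zc35) (kc xc31 yc58 zc61) (kc xc29 yc5 zc50) (kc xc31 yc35 zc33) (kc xc27 yc38 zc58) (kc xc29 yc12 zc31) (kc xc32 yc27 zc50) (kc xc32 yc28 zc7) (kc xc27 yc24 zc6) (kc xc30 yc1 zc52) (kc xc27 yc41 zc33) (kc xc30 yc48 zc21) (kc xc30 yc49 zc35) (kc xc27 yc24 zc35) (kc xc32 yc5 zc44) (kc xc30 yc2 zc53) (kc xc27 yc26 zc53) (kc xc29 yc14 zc49) (kc xc27 yc29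 zc5) (kc xc27 yc27 zc33) (kc xc27 yc25 zc4) (kc xc29 yc54 zc11) (kc xc27 yc25 zc15) (kc xc27 yc27 zc40) (kc xc32 yc2 zc50) (kc xc27 yc27 zc14) (kc xc27 yc25 zc48) (kc xc28 yc43 zc49)) (@D3.rec (fun _ => Pt) (kc xc32 yc27 zc36) (kc xc27 yc26 zc2) (kc xc27 yc26 zc48) (kc xc27 yc26 zc22) (kc xc32 yc55 zc12) (kc xc28 yc2 zc30) (kc xc27 yc27 zc12) (kc xc31 yc44 zc26) (kc xc32 yc5 zc24) (kc xc31 yc35 zc37) (kc xc28 yc4 zc6) (kc xc32 yc28 zc11) (kc xc27 yc31 zc58) (kc xc31 yc12 zc19) (kc xc27 yc28 zc27) (kc xc28 yc6 zc59) (kc xc30 yc24 zc56) (kc xc31 yc59 zc43) (kc xc27 yc29 zc60) (kc xc27 yc29 zc59) (kc xc32 yc51 zc29) (kc xc27 yc30 zc9) (kc xc30 yc16 zc50) (kc xc32 yc59 zc14) (kc xc32 yc12 zc57) (kc xc27 yc51 zc13) (kc xc27 yc39 zc39) (kc xc27 yc39 zc40) (kc xc29 yc5 zc5)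 (kc xc27 yc31 zc22) (kc xc27 yc40 zc23) (kc xc29 yc38 zc49) (kc xc31 yc45 zc52) (kc xc27 yc32 zc5) (kc xc32 yc31 zc36) (kc xc32 yc16 zc25) (kc xc29 yc25 zc10) (kc xc28 yc19 zc59) (kc xc31 yc14 zc47) (kc xc27 yc46 zc6) (kc xc31 yc53 zc51) (kc xc32 yc26 zc35) (kc xc31 yc53 zc49) (kc xc31 yc14 zc36) (kc xc32 yc30 zc28) (kc xc32 yc35 zc45) (kc xc28 yc19 zc48) (kc xc31 yc55 zc12) (kc xc27 yc32 zc27) (kc xc28 yc30 zc53) (kc xc28 yc17 zc52) (kc xc27 yc32 zc28) (kc xc28 yc45 zc31) (kc xc29 yc18 zc29) (kc xc28 yc17 zc0) (kc xc32 yc26 zc32) (kc xc30 yc35 zc16) (kc xc27 yc54 zc35) (kc xc27 yc32 zc48) (kc xc28 yc16 zc59) (kc xc32 yc55 zc42) (kc xc27 yc32 zc51)) (@D3.rec (fun _ => Pt) (kc xc27 yc32 zc56) (kc xc28 yc6 zc1) (kc xc28 yc46 zc32) (kc xc27 yc47 zc43) (kc xc31 yc30 zc22)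 (kc xc27 yc48 zc42) (kc xc27 yc33 zc7) (kc xc29 yc5 zc1) (kc xc27 yc39 zc45) (kc xc30 yc26 zc30) (kc xc31 yc44 zc45) (kc xc31 yc9 zc38) (kc xc29 yc5 zc44) (kc xc27 yc33 zc22) (kc xc28 yc6 zc0) (kc xc28 yc31 zc52) (kc xc30 yc40 zc21) (kc xc32 yc49 zc11) (kc xc32 yc49 zc12) (kc xc31 yc47 zc26) (kc xc32 yc55 zc26) (kc xc30 yc40 zc50) (kc xc27 yc33 zc33) (kc xc27 yc33 zc34) (kc xc27 yc53 zc40) (kc xc32 yc26 zc61) (kc xc32 yc43 zc8) (kc xc32 yc27 zc1) (kc xc27 yc33 zc44) (kc xc31 yc32 zc1) (kc xc29 yc20 zc0) (kc xc32 yc29 zc22) (kc xc32 yc25 zc55) (kc xc28 yc9 zc34) (kc xc27 yc34 zc5) (kc xc32 yc25 zc41) (kc xc32 yc6 zc61) (kc xc29 yc18 zc28) (kc xc28 yc31 zc7) (kc xc32 yc7 zc6) (kc xc28 yc8 zc6) (kc xc28 yc22 zc31) (kc xc29 yc10 zc56) (kc xc28 yc36 zc10) (kc xc28 yc17 zc42)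 (kc xc31 yc3 zc19) (kc xc30 yc41 zc35) (kc xc27 yc35 zc1) (kc xc31 yc57 zc48) (kc xc30 yc4 zc4) (kc xc32 yc55 zc50) (kc xc32 yc50 zc43) (kc xc31 yc5 zc8) (kc xc31 yc38 zc41) (kc xc27 yc35 zc16) (kc xc32 yc54 zc0) (kc xc30 yc42 zc8) (kc xc27 yc35 zc17) (kc xc27 yc56 zc35) (kc xc28 yc8 zc21) (kc xc31 yc56 zc45) (kc xc32 yc26 zc25)) (@D3.rec (fun _ => Pt) (kc xc29 yc10 zc60) (kc xc32 yc26 zc27) (kc xc27 yc35 zc31) (kc xc31 yc26 zc53) (kc xc29 yc24 zc30) (kc xc30 yc48 zc61) (kc xc32 yc39 zc34) (kc xc28 yc16 zc27) (kc xc28 yc41 zc61) (kc xc27 yc36 zc10) (kc xc27 yc36 zc21) (kc xc29 yc21 zc27) (kc xc27 yc39 zc2) (kc xc27 yc36 zc56) (kc xc32 yc43 zc34) (kc xc31 yc52 zc5) (kc xc28 yc34 zc54) (kc xc32 yc27 zc20) (kc xc32 yc11 zc2) (kc xc32 yc17 zc59) (kc xc32 yc27 zc17) (kc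 xc32 yc43 zc37) (kc xc27 yc37 zc21) (kc xc32 yc6 zc59) (kc xc28 yc48 zc1) (kc xc29 yc49 zc44) (kc xc27 yc38 zc31) (kc xc27 yc38 zc42) (kc xc31 yc57 zc18) (kc xc28 yc5 zc34) (kc xc32 yc7 zc13) (kc xc27 yc39 zc42) (kc xc28 yc45 zc34) (kc xc28 yc21 zc39) (kc xc29 yc16 zc11) (kc xc28 yc10 zc28) (kc xc32 yc25 zc0) (kc xc30 yc34 zc52) (kc xc28 yc46 zc33) (kc xc27 yc40 zc6) (kc xc28 yc1 zc55) (kc xc27 yc40 zc52) (kc xc29 yc5 zc22) (kc xc30 yc21 zc2) (kc xc27 yc40 zc56) (kc xc27 yc50 zc14) (kc xc28 yc1 zc3) (kc xc29 yc26 zc52) (kc xc27 yc41 zc0) (kc xc31 yc7 zc50) (kc xc32 yc24 zc40) (kc xc32 yc54 zc12) (kc xc27 yc55 zc32) (kc xc27 yc41 zc39) (kc xc28 yc58 zc22) (kc xc27 yc41 zc44) (kc xc28 yc22 zc15) (kc xc27 yc42 zc2) (kc xc32 yc54 zc39) (kc xc29 yc38 zc20) (kc xc30 yc41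 zc8) (kc xc27 yc42 zc38)) (@D3.rec (fun _ => Pt) (kc xc31 yc7 zc20) (kc xc31 yc7 zc19) (kc xc30 yc55 zc0) (kc xc31 yc30 zc15) (kc xc28 yc48 zc55) (kc xc29 yc42 zc0) (kc xc29 yc42 zc1) (kc xc32 yc24 zc41) (kc xc29 yc57 zc20) (kc xc27 yc44 zc27) (kc xc28 yc44 zc0) (kc xc32 yc25 zc11) (kc xc30 yc17 zc61) (kc xc28 yc41 zc38) (kc xc29 yc12 zc24) (kc xc32 yc5 zc6) (kc xc28 yc41 zc2) (kc xc29 yc14 zc32) (kc xc32 yc42 zc54) (kc xc31 yc12 zc10) (kc xc28 yc45 zc25) (kc xc27 yc46 zc5) (kc xc27 yc46 zc9) (kc xc27 yc46 zc11) (kc xc31 yc39 zc0) (kc xc28 yc29 zc54) (kc xc27 yc46 zc53) (kc xc30 yc27 zc57) (kc xc30 yc45 zc27) (kc xc27 yc47 zc4) (kc xc28 yc25 zc44) (kc xc28 yc25 zc51) (kc xc28 yc27 zc36) (kc xc28 yc23 zc10) (kc xc32 yc34 zc51) (kc xc32 yc7 zc43) (kc xc28 yc1 zc47) (kc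 xc27 yc48 zc46) (kc xc27 yc48 zc50) (kc xc27 yc48 zc53) (kc xc28 yc4 zc27) (kc xc29 yc54 zc7) (kc xc28 yc24 zc21) (kc xc31 yc25 zc8) (kc xc31 yc53 zc55) (kc xc32 yc46 zc34) (kc xc28 yc19 zc19) (kc xc28 yc45 zc49) (kc xc27 yc49 zc28) (kc xc31 yc6 zc61) (kc xc28 yc7 zc15) (kc xc30 yc45 zc47) (kc xc28 yc29 zc9) (kc xc27 yc49 zc49) (kc xc29 yc4 zc4) (kc xc31 yc53 zc54) (kc xc27 yc49 zc51) (kc xc28 yc16 zc10) (kc xc30 yc41 zc34) (kc xc28 yc30 zc61) (kc xc32 yc10 zc3) (kc xc29 yc27 zc9)) (@D3.rec (fun _ => Pt) (kc xc28 yc28 zc26) (kc xc28 yc12 zc8) (kc xc30 yc23 zc10) (kc xc32 yc49 zc28) (kc xc28 yc1 zc60) (kc xc29 yc10 zc57) (kc xc29 yc51 zc55) (kc xc31 yc58 zc40) (kc xc27 yc50 zc27) (kc xc29 yc21 zc3) (kc xc30 yc35 zc29) (kc xc28 yc21 zc44) (kc xc30 yc35 zc33) (kc xc28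 yc9 zc29) (kc xc32 yc30 zc39) (kc xc28 yc32 zc11) (kc xc31 yc4 zc50) (kc xc30 yc52 zc11) (kc xc28 yc58 zc50) (kc xc30 yc0 zc50) (kc xc27 yc51 zc41) (kc xc30 yc47 zc40) (kc xc32 yc26 zc31) (kc xc27 yc51 zc46) (kc xc28 yc23 zc16) (kc xc27 yc51 zc47) (kc xc32 yc41 zc23) (kc xc30 yc24 zc25) (kc xc29 yc2 zc1) (kc xc30 yc26 zc12) (kc xc28 yc24 zc29) (kc xc32 yc55 zc52) (kc xc31 yc59 zc51) (kc xc31 yc53 zc20) (kc xc28 yc37 zc42) (kc xc30 yc54 zc21) (kc xc32 yc15 zc15) (kc xc28 yc3 zc28) (kc xc30 yc45 zc26) (kc xc32 yc7 zc52) (kc xc28 yc30 zc51) (kc xc29 yc39 zc14) (kc xc30 yc44 zc56) (kc xc31 yc15 zc34) (kc xc27 yc52 zc29) (kc xc32 yc17 zc10) (kc xc28 yc22 zc6) (kc xc30 yc44 zc60) (kc xc32 yc17 zc11) (kc xc28 yc14 zc43) (kc xc31 yc16 zc22) (kc xc32 yc47 zc34) (kc xc27 yc52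 zc58) (kc xc29 yc19 zc61) (kc xc27 yc52 zc59) (kc xc32 yc36 zc45) (kc xc28 yc58 zc48) (kc xc29 yc14 zc36) (kc xc27 yc53 zc13) (kc xc31 yc54 zc5) (kc xc31 yc53 zc34) (kc xc28 yc32 zc10)) (@D3.rec (fun _ => Pt) (kc xc30 yc54 zc3) (kc xc27 yc58 zc17) (kc xc27 yc53 zc34) (kc xc32 yc55 zc44) (kc xc32 yc55 zc33) (kc xc28 yc46 zc6) (kc xc30 yc41 zc28) (kc xc29 yc26 zc50) (kc xc30 yc2 zc56) (kc xc28 yc14 zc42) (kc xc28 yc27 zc51) (kc xc29 yc38 zc40) (kc xc30 yc37 zc25) (kc xc27 yc54 zc39) (kc xc32 yc23 zc13) (kc xc28 yc23 zc32) (kc xc29 yc21 zc18) (kc xc27 yc54 zc60) (kc xc28 yc58 zc45) (kc xc31 yc42 zc51) (kc xc30 yc24 zc50) (kc xc31 yc25 zc9) (kc xc31 yc32 zc48) (kc xc27 yc56 zc36) (kc xc31 yc2 zc0) (kc xc28 yc17 zc1) (kc xc28 yc47 zc21) (kc xc30 yc49 zc48) (kc xc32 yc25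 zc44) (kc xc27 yc56 zc29) (kc xc31 yc59 zc12) (kc xc28 yc6 zc24) (kc xc27 yc56 zc32) (kc xc32 yc50 zc47) (kc xc30 yc3 zc37) (kc xc32 yc43 zc4) (kc xc28 yc2 zc20) (kc xc29 yc26 zc47) (kc xc32 yc4 zc51) (kc xc32 yc29 zc14) (kc xc29 yc11 zc50) (kc xc31 yc4 zc10) (kc xc32 yc53 zc13) (kc xc30 yc41 zc7) (kc xc32 yc53 zc36) (kc xc29 yc58 zc8) (kc xc32 yc52 zc60) (kc xc27 yc58 zc6) (kc xc27 yc58 zc19) (kc xc27 yc58 zc21) (kc xc32 yc19 zc39) (kc xc27 yc59 zc4) (kc xc31 yc25 zc35) (kc xc27 yc59 zc37) (kc xc32 yc19 zc1) (kc xc28 yc27 zc18) (kc xc28 yc0 zc11) (kc xc32 yc36 zc26) (kc xc31 yc39 zc50) (kc xc28 yc26 zc28) (kc xc28 yc1 zc22) (kc xc31 yc28 zc47)) (@D3.rec (fun _ => Pt) (kc xc30 yc54 zc16) (kc xc28 yc2 zc9) (kc xc28 yc3 zc57) (kc xc28 yc18 zc15) (kc xc30 yc1 zc7) (kc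 xc30 yc37 zc36) (kc xc31 yc12 zc25) (kc xc28 yc2 zc17) (kc xc28 yc7 zc6) (kc xc28 yc3 zc19) (kc xc32 yc50 zc38) (kc xc29 yc9 zc18) (kc xc31 yc31 zc22) (kc xc31 yc44 zc21) (kc xc30 yc57 zc40) (kc xc30 yc57 zc39) (kc xc32 yc21 zc58) (kc xc28 yc3 zc13) (kc xc28 yc3 zc14) (kc xc31 yc49 zc30) (kc xc28 yc3 zc23) (kc xc32 yc7 zc11) (kc xc29 yc28 zc39) (kc xc31 yc46 zc17) (kc xc29 yc5 zc41) (kc xc31 yc7 zc27) (kc xc28 yc4 zc5) (kc xc31 yc0 zc2) (kc xc32 yc59 zc19) (kc xc31 yc57 zc54) (kc xc32 yc35 zc41) (kc xc30 yc51 zc1) (kc xc31 yc46 zc5) (kc xc31 yc10 zc3) (kc xc28 yc4 zc38) (kc xc31 yc57 zc46) (kc xc32 yc25 zc34) (kc xc28 yc5 zc8) (kc xc32 yc42 zc13) (kc xc28 yc4 zc48) (kc xc29 yc52 zc50) (kc xc31 yc14 zc26) (kc xc28 yc18 zc39) (kc xc32 yc50 zc28) (kc xc30 yc23 zc22) (kc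 xc28 yc20 zc55) (kc xc32 yc59 zc15) (kc xc28 yc20 zc38) (kc xc32 yc1 zc28) (kc xc32 yc57 zc60) (kc xc30 yc20 zc21) (kc xc31 yc58 zc42) (kc xc31 yc58 zc36) (kc xc28 yc19 zc6) (kc xc30 yc3 zc33) (kc xc28 yc47 zc6) (kc xc30 yc37 zc41) (kc xc30 yc31 zc33) (kc xc30 yc5 zc54) (kc xc30 yc32 zc30) (kc xc28 yc6 zc7) (kc xc32 yc32 zc21)) (@D3.rec (fun _ => Pt) (kc xc32 yc54 zc31) (kc xc32 yc53 zc31) (kc xc29 yc32 zc54) (kc xc31 yc57 zc25) (kc xc28 yc7 zc18) (kc xc31 yc4 zc49) (kc xc31 yc26 zc56) (kc xc28 yc45 zc24) (kc xc32 yc21 zc54) (kc xc28 yc7 zc60) (kc xc30 yc52 zc43) (kc xc32 yc32 zc40) (kc xc32 yc5 zc9) (kc xc30 yc2 zc46) (kc xc29 yc26 zc48) (kc xc32 yc9 zc60) (kc xc28 yc8 zc43) (kc xc28 yc33 zc40) (kc xc31 yc57 zc49) (kc xc31 yc58 zc3) (kc xc31 yc38 zc0) (kc xc32 yc31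 zc61) (kc xc28 yc9 zc33) (kc xc28 yc9 zc52) (kc xc28 yc24 zc43) (kc xc30 yc0 zc54) (kc xc32 yc1 zc59) (kc xc30 yc27 zc41) (kc xc32 yc4 zc53) (kc xc32 yc3 zc52) (kc xc28 yc10 zc36) (kc xc32 yc55 zc25) (kc xc31 yc38 zc2) (kc xc29 yc10 zc45) (kc xc31 yc3 zc56) (kc xc29 yc1 zc31) (kc xc32 yc48 zc31) (kc xc28 yc11 zc17) (kc xc28 yc11 zc33) (kc xc32 yc35 zc0) (kc xc32 yc32 zc11) (kc xc32 yc4 zc40) (kc xc31 yc29 zc10) (kc xc28 yc11 zc58) (kc xc29 yc58 zc30) (kc xc28 yc12 zc1) (kc xc30 yc58 zc5) (kc xc32 yc23 zc45) (kc xc32 yc54 zc24) (kc xc32 yc35 zc2) (kc xc32 yc55 zc14) (kc xc28 yc13 zc39) (kc xc28 yc20 zc16) (kc xc28 yc14 zc16) (kc xc32 yc38 zc45) (kc xc32 yc38 zc28) (kc xc32 yc4 zc23) (kc xc32 yc56 zc32) (kc xc31 yc51 zc34) (kc xc28 yc14 zc44) (kc xc32 yc58 zc31) (kc xc31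 yc52 zc13)) (@D3.rec (fun _ => Pt) (kc xc31 yc20 zc8) (kc xc30 yc6 zc45) (kc xc32 yc47 zc35) (kc xc32 yc47 zc36) (kc xc32 yc57 zc46) (kc xc32 yc39 zc57) (kc xc28 yc15 zc56) (kc xc29 yc49 zc39) (kc xc31 yc19 zc24) (kc xc32 yc11 zc58) (kc xc28 yc16 zc12) (kc xc32 yc11 zc17) (kc xc29 yc19 zc7) (kc xc30 yc18 zc37) (kc xc28 yc16 zc38) (kc xc28 yc17 zc30) (kc xc28 yc52 zc8) (kc xc32 yc39 zc40) (kc xc28 yc17 zc28) (kc xc28 yc22 zc28) (kc xc28 yc53 zc3) (kc xc30 yc10 zc4) (kc xc30 yc48 zc22) (kc xc32 yc9 zc8) (kc xc30 yc38 zc6) (kc xc28 yc29 zc32) (kc xc31 yc33 zc43) (kc xc29 yc33 zc9) (kc xc28 yc24 zc16) (kc xc31 yc55 zc42) (kc xc32 yc55 zc39) (kc xc28 yc18 zc25) (kc xc31 yc55 zc43) (kc xc32 yc10 zc50) (kc xc28 yc20 zc28) (kc xc28 yc18 zc33) (kc xc32 yc12 zc28) (kc xc28 yc18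 zc47) (kc xc30 yc9 zc59) (kc xc30 yc49 zc50) (kc xc30 yc39 zc46) (kc xc28 yc19 zc38) (kc xc29 yc54 zc31) (kc xc28 yc23 zc6) (kc xc28 yc27 zc48) (kc xc29 yc42 zc48) (kc xc32 yc22 zc36) (kc xc28 yc20 zc23) (kc xc29 yc32 zc37) (kc xc28 yc30 zc28) (kc xc28 yc49 zc51) (kc xc32 yc56 zc1) (kc xc29 yc23 zc46) (kc xc28 yc49 zc57) (kc xc28 yc33 zc31) (kc xc28 yc52 zc59) (kc xc29 yc43 zc12) (kc xc32 yc2 zc25) (kc xc32 yc59 zc22) (kc xc30 yc55 zc33) (kc xc28 yc21 zc40) (kc xc28 yc40 zc47)) (@D3.rec (fun _ => Pt) (kc xc29 yc10 zc38) (kc xc32 yc39 zc31) (kc xc28 yc22 zc8) (kc xc28 yc22 zc21) (kc xc32 yc9 zc34) (kc xc30 yc16 zc18) (kc xc31 yc33 zc36) (kc xc31 yc33 zc35) (kc xc30 yc50 zc21) (kc xc32 yc51 zc27) (kc xc30 yc54 zc27) (kc xc30 yc33 zc25) (kc xc29 yc1 zc38) (kc xc32 yc7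 zc36) (kc xc32 yc56 zc25) (kc xc28 yc23 zc11) (kc xc32 yc1 zc42) (kc xc28 yc25 zc11) (kc xc32 yc37 zc30) (kc xc32 yc52 zc27) (kc xc28 yc28 zc28) (kc xc32 yc19 zc19) (kc xc31 yc53 zc36) (kc xc31 yc53 zc37) (kc xc32 yc37 zc48) (kc xc32 yc56 zc24) (kc xc28 yc24 zc11) (kc xc32 yc41 zc2) (kc xc32 yc10 zc52) (kc xc32 yc59 zc9) (kc xc31 yc9 zc17) (kc xc28 yc24 zc57) (kc xc29 yc37 zc38) (kc xc28 yc25 zc5) (kc xc29 yc41 zc45) (kc xc31 yc49 zc16) (kc xc29 yc24 zc50) (kc xc29 yc42 zc2) (kc xc32 yc13 zc6) (kc xc32 yc2 zc24) (kc xc32 yc2 zc21) (kc xc31 yc46 zc21) (kc xc28 yc49 zc29) (kc xc30 yc54 zc40) (kc xc32 yc36 zc56) (kc xc30 yc35 zc30) (kc xc30 yc23 zc30) (kc xc29 yc54 zc49) (kc xc30 yc38 zc51) (kc xc28 yc33 zc13) (kc xc29 yc48 zc6) (kc xc32 yc28 zc34) (kc xc32 yc15 zc23)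 (kc xc29 yc54 zc39) (kc xc32 yc43 zc11) (kc xc32 yc4 zc33) (kc xc32 yc50 zc45) (kc xc32 yc20 zc28) (kc xc28 yc28 zc11) (kc xc29 yc14 zc51) (kc xc31 yc29 zc57) (kc xc31 yc53 zc11)) (@D3.rec (fun _ => Pt) (kc xc32 yc32 zc39) (kc xc32 yc4 zc60) (kc xc32 yc32 zc49) (kc xc28 yc48 zc51) (kc xc31 yc50 zc20) (kc xc31 yc49 zc59) (kc xc28 yc28 zc58) (kc xc32 yc44 zc1) (kc xc32 yc10 zc14) (kc xc28 yc29 zc5) (kc xc28 yc29 zc8) (kc xc29 yc16 zc10) (kc xc32 yc9 zc35) (kc xc28 yc33 zc28) (kc xc32 yc58 zc58) (kc xc28 yc29 zc20) (kc xc32 yc37 zc44) (kc xc32 yc48 zc36) (kc xc29 yc32 zc27) (kc xc31 yc51 zc28) (kc xc32 yc57 zc31) (kc xc32 yc4 zc27) (kc xc31 yc53 zc13) (kc xc28 yc41 zc7) (kc xc28 yc29 zc55) (kc xc32 yc19 zc18) (kc xc28 yc30 zc0) (kc xc32 yc59 zc24) (kc xc32 yc59 zc26) (kc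 xc28 yc30 zc5) (kc xc32 yc52 zc44) (kc xc32 yc45 zc7) (kc xc30 yc16 zc21) (kc xc32 yc24 zc1) (kc xc28 yc30 zc33) (kc xc29 yc15 zc39) (kc xc32 yc43 zc54) (kc xc28 yc30 zc44) (kc xc32 yc48 zc50) (kc xc31 yc24 zc28) (kc xc28 yc32 zc60) (kc xc32 yc31 zc30) (kc xc28 yc31 zc0) (kc xc31 yc20 zc58) (kc xc32 yc45 zc20) (kc xc32 yc25 zc45) (kc xc28 yc51 zc35) (kc xc28 yc59 zc15) (kc xc32 yc23 zc15) (kc xc31 yc3 zc41) (kc xc28 yc32 zc56) (kc xc32 yc20 zc7) (kc xc28 yc32 zc57) (kc xc32 yc52 zc8) (kc xc29 yc15 zc15) (kc xc28 yc32 zc61) (kc xc29 yc29 zc9) (kc xc32 yc15 zc3) (kc xc30 yc21 zc41) (kc xc32 yc53 zc47) (kc xc28 yc33 zc2) (kc xc32 yc57 zc50)) (@D3.rec (fun _ => Pt) (kc xc28 yc33 zc5) (kc xc32 yc40 zc36) (kc xc28 yc33 zc7) (kc xc32 yc43 zc40) (kc xc28 yc33 zc33) (kc xc31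 yc59 zc54) (kc xc28 yc34 zc17) (kc xc28 yc34 zc18) (kc xc28 yc35 zc13) (kc xc28 yc35 zc14) (kc xc28 yc40 zc28) (kc xc28 yc49 zc60) (kc xc31 yc17 zc18) (kc xc32 yc45 zc6) (kc xc28 yc35 zc8) (kc xc28 yc35 zc17) (kc xc32 yc37 zc37) (kc xc32 yc7 zc39) (kc xc32 yc9 zc16) (kc xc31 yc21 zc48) (kc xc28 yc35 zc16) (kc xc32 yc45 zc47) (kc xc28 yc56 zc30) (kc xc28 yc35 zc20) (kc xc31 yc46 zc18) (kc xc32 yc46 zc61) (kc xc32 yc30 zc57) (kc xc31 yc30 zc14) (kc xc30 yc55 zc58) (kc xc30 yc39 zc5) (kc xc32 yc21 zc35) (kc xc30 yc39 zc47) (kc xc30 yc52 zc8) (kc xc28 yc36 zc42) (kc xc32 yc59 zc21) (kc xc29 yc14 zc23) (kc xc32 yc10 zc49) (kc xc32 yc46 zc9) (kc xc32 yc51 zc19) (kc xc32 yc51 zc20) (kc xc32 yc44 zc42) (kc xc28 yc52 zc52) (kc xc32 yc47 zc14) (kc xc32 yc17 zc28) (kc xc31 yc53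 zc57) (kc xc32 yc29 zc55) (kc xc28 yc37 zc25) (kc xc31 yc25 zc43) (kc xc32 yc0 zc33) (kc xc32 yc56 zc59) (kc xc32 yc57 zc44) (kc xc29 yc11 zc19) (kc xc29 yc36 zc60) (kc xc31 yc30 zc41) (kc xc28 yc38 zc2) (kc xc28 yc38 zc3) (kc xc32 yc34 zc44) (kc xc28 yc38 zc9) (kc xc30 yc41 zc18) (kc xc30 yc44 zc44) (kc xc29 yc28 zc54) (kc xc28 yc38 zc25)) (@D3.rec (fun _ => Pt) (kc xc29 yc29 zc33) (kc xc32 yc42 zc42) (kc xc32 yc42 zc47) (kc xc30 yc39 zc18) (kc xc32 yc53 zc51) (kc xc28 yc38 zc33) (kc xc30 yc22 zc1) (kc xc32 yc53 zc52) (kc xc28 yc38 zc36) (kc xc28 yc38 zc37) (kc xc32 yc40 zc6) (kc xc31 yc30 zc42) (kc xc31 yc40 zc29) (kc xc28 yc38 zc49) (kc xc28 yc38 zc51) (kc xc32 yc23 zc59) (kc xc30 yc15 zc18) (kc xc28 yc51 zc18) (kc xc28 yc55 zc44) (kc xc28 yc39 zc59) (kc xc28 yc39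 zc23) (kc xc32 yc18 zc12) (kc xc28 yc39 zc29) (kc xc32 yc56 zc51) (kc xc32 yc59 zc32) (kc xc31 yc30 zc30) (kc xc28 yc39 zc39) (kc xc32 yc18 zc33) (kc xc32 yc0 zc32) (kc xc28 yc39 zc43) (kc xc32 yc34 zc18) (kc xc32 yc45 zc56) (kc xc32 yc59 zc33) (kc xc28 yc51 zc51) (kc xc28 yc39 zc48) (kc xc32 yc44 zc23) (kc xc32 yc44 zc7) (kc xc32 yc36 zc16) (kc xc28 yc39 zc58) (kc xc32 yc45 zc49) (kc xc32 yc45 zc48) (kc xc28 yc40 zc3) (kc xc32 yc47 zc49) (kc xc30 yc28 zc52) (kc xc32 yc35 zc16) (kc xc28 yc40 zc8) (kc xc28 yc40 zc30) (kc xc32 yc12 zc16) (kc xc32 yc34 zc24) (kc xc30 yc51 zc14) (kc xc32 yc16 zc61) (kc xc32 yc0 zc56) (kc xc32 yc22 zc14) (kc xc28 yc40 zc27) (kc xc32 yc44 zc22) (kc xc30 yc24 zc44) (kc xc28 yc40 zc33) (kc xc30 yc17 zc18) (kc xc32 yc13 zc7) (kc xc32 yc56 zc3)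 (kc xc32 yc41 zc54) (kc xc32 yc53 zc2)) (@D3.rec (fun _ => Pt) (kc xc32 yc46 zc36) (kc xc31 yc18 zc52) (kc xc32 yc58 zc59) (kc xc28 yc43 zc59) (kc xc28 yc41 zc43) (kc xc28 yc41 zc42) (kc xc31 yc1 zc2) (kc xc32 yc49 zc22) (kc xc28 yc41 zc41) (kc xc28 yc44 zc3) (kc xc32 yc5 zc42) (kc xc28 yc47 zc45) (kc xc28 yc47 zc54) (kc xc28 yc42 zc47) (kc xc30 yc40 zc43) (kc xc30 yc4 zc54) (kc xc29 yc4 zc6) (kc xc30 yc44 zc51) (kc xc32 yc21 zc12) (kc xc31 yc11 zc46) (kc xc28 yc43 zc42) (kc xc32 yc55 zc57) (kc xc28 yc43 zc52) (kc xc30 yc12 zc6) (kc xc28 yc56 zc8) (kc xc32 yc46 zc29) (kc xc31 yc30 zc9) (kc xc31 yc12 zc44) (kc xc32 yc32 zc55) (kc xc28 yc44 zc34) (kc xc32 yc47 zc32) (kc xc31 yc29 zc42) (kc xc31 yc24 zc54) (kc xc31 yc28 zc33) (kc xc30 yc7 zc10) (kc xc28 yc58 zc27) (kc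 xc30 yc39 zc27) (kc xc28 yc45 zc36) (kc xc32 yc58 zc29) (kc xc29 yc59 zc43) (kc xc32 yc11 zc35) (kc xc31 yc26 zc6) (kc xc30 yc3 zc61) (kc xc29 yc1 zc50) (kc xc31 yc51 zc49) (kc xc32 yc32 zc54) (kc xc31 yc40 zc12) (kc xc28 yc47 zc3) (kc xc28 yc47 zc12) (kc xc31 yc58 zc46) (kc xc31 yc25 zc58) (kc xc30 yc47 zc46) (kc xc30 yc40 zc22) (kc xc30 yc38 zc31) (kc xc32 yc41 zc15) (kc xc31 yc18 zc31) (kc xc29 yc28 zc21) (kc xc28 yc48 zc57) (kc xc32 yc56 zc61) (kc xc28 yc48 zc59) (kc xc32 yc57 zc0) (kc xc30 yc25 zc49)) (@D3.rec (fun _ => Pt) (kc xc30 yc29 zc51) (kc xc30 yc29 zc52) (kc xc32 yc22 zc60) (kc xc31 yc16 zc46) (kc xc28 yc49 zc10) (kc xc32 yc53 zc1) (kc xc29 yc45 zc51) (kc xc32 yc8 zc54) (kc xc32 yc9 zc0) (kc xc28 yc49 zc17) (kc xc31 yc10 zc9) (kc xc30 yc41 zc40) (kc xc30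 yc34 zc31) (kc xc32 yc44 zc18) (kc xc32 yc9 zc6) (kc xc32 yc48 zc26) (kc xc32 yc24 zc2) (kc xc32 yc11 zc25) (kc xc30 yc16 zc2) (kc xc32 yc10 zc61) (kc xc28 yc51 zc24) (kc xc28 yc51 zc25) (kc xc31 yc29 zc59) (kc xc32 yc39 zc39) (kc xc32 yc52 zc12) (kc xc28 yc50 zc58) (kc xc28 yc51 zc6) (kc xc28 yc52 zc38) (kc xc30 yc43 zc3) (kc xc31 yc21 zc5) (kc xc32 yc21 zc0) (kc xc32 yc34 zc1) (kc xc28 yc51 zc42) (kc xc31 yc18 zc27) (kc xc32 yc27 zc6) (kc xc32 yc2 zc4) (kc xc30 yc38 zc25) (kc xc30 yc22 zc60) (kc xc30 yc38 zc28) (kc xc32 yc39 zc23) (kc xc32 yc33 zc17) (kc xc31 yc53 zc15) (kc xc28 yc51 zc57) (kc xc30 yc39 zc23) (kc xc32 yc58 zc2) (kc xc28 yc51 zc60) (kc xc28 yc52 zc1) (kc xc28 yc52 zc2) (kc xc28 yc52 zc15) (kc xc30 yc29 zc45) (kc xc30 yc12 zc1) (kc xc32 yc46 zc47) (kc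 xc30 yc35 zc5) (kc xc32 yc59 zc0) (kc xc28 yc52 zc40) (kc xc29 yc33 zc16) (kc xc29 yc46 zc50) (kc xc32 yc33 zc5) (kc xc32 yc48 zc1) (kc xc32 yc57 zc51) (kc xc31 yc40 zc43) (kc xc29 yc53 zc37)) (@D3.rec (fun _ => Pt) (kc xc30 yc17 zc23) (kc xc30 yc48 zc34) (kc xc30 yc48 zc36) (kc xc32 yc52 zc15) (kc xc28 yc53 zc26) (kc xc31 yc24 zc6) (kc xc32 yc37 zc10) (kc xc29 yc42 zc49) (kc xc28 yc53 zc31) (kc xc31 yc6 zc45) (kc xc31 yc22 zc25) (kc xc31 yc37 zc34) (kc xc30 yc29 zc50) (kc xc28 yc55 zc29) (kc xc31 yc14 zc7) (kc xc30 yc29 zc53) (kc xc28 yc54 zc25) (kc xc32 yc50 zc40) (kc xc28 yc54 zc26) (kc xc32 yc53 zc43) (kc xc30 yc48 zc38) (kc xc32 yc11 zc40) (kc xc29 yc46 zc8) (kc xc29 yc39 zc60) (kc xc28 yc54 zc36) (kc xc28 yc54 zc40) (kc xc32 yc46 zc38) (kc xc30 yc21 zc17) (kc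 xc32 yc20 zc60) (kc xc32 yc52 zc22) (kc xc29 yc40 zc33) (kc xc29 yc37 zc8) (kc xc29 yc31 zc48) (kc xc30 yc34 zc18) (kc xc31 yc18 zc10) (kc xc28 yc55 zc11) (kc xc32 yc36 zc1) (kc xc29 yc32 zc18) (kc xc30 yc34 zc17) (kc xc32 yc52 zc29) (kc xc32 yc56 zc16) (kc xc28 yc55 zc20) (kc xc31 yc58 zc11) (kc xc32 yc53 zc48) (kc xc30 yc28 zc23) (kc xc32 yc56 zc29) (kc xc28 yc55 zc23) (kc xc32 yc2 zc14) (kc xc31 yc53 zc18) (kc xc28 yc55 zc25) (kc xc32 yc57 zc21) (kc xc32 yc22 zc40) (kc xc29 yc45 zc23) (kc xc32 yc14 zc7) (kc xc32 yc54 zc43) (kc xc28 yc55 zc30) (kc xc30 yc30 zc2) (kc xc31 yc30 zc31) (kc xc32 yc41 zc53) (kc xc32 yc46 zc19) (kc xc28 yc56 zc10) (kc xc30 yc22 zc51)) (@D3.rec (fun _ => Pt) (kc xc32 yc58 zc13) (kc xc32 yc8 zc55) (kc xc32 yc34 zc27) (kc xc32 yc46 zc52) (kc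 xc29 yc34 zc23) (kc xc28 yc56 zc33) (kc xc32 yc1 zc1) (kc xc32 yc51 zc3) (kc xc28 yc56 zc34) (kc xc29 yc21 zc17) (kc xc29 yc21 zc21) (kc xc30 yc29 zc21) (kc xc29 yc12 zc7) (kc xc31 yc45 zc30) (kc xc30 yc27 zc49) (kc xc32 yc38 zc54) (kc xc30 yc38 zc56) (kc xc29 yc16 zc60) (kc xc31 yc22 zc18) (kc xc28 yc57 zc25) (kc xc28 yc57 zc27) (kc xc28 yc58 zc34) (kc xc28 yc58 zc37) (kc xc32 yc29 zc26) (kc xc31 yc51 zc2) (kc xc29 yc16 zc27) (kc xc30 yc45 zc24) (kc xc32 yc9 zc42) (kc xc31 yc20 zc27) (kc xc31 yc57 zc13) (kc xc31 yc8 zc13) (kc xc32 yc3 zc45) (kc xc32 yc50 zc2) (kc xc31 yc18 zc58) (kc xc31 yc32 zc12) (kc xc32 yc59 zc36) (kc xc32 yc20 zc32) (kc xc32 yc3 zc36) (kc xc32 yc13 zc1) (kc xc32 yc21 zc19) (kc xc32 yc20 zc21) (kc xc29 yc1 zc30) (kc xc29 yc1 zc40) (kc xc29 yc1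 zc59) (kc xc29 yc2 zc3) (kc xc29 yc2 zc5) (kc xc29 yc2 zc6) (kc xc29 yc2 zc7) (kc xc32 yc59 zc37) (kc xc29 yc2 zc9) (kc xc30 yc27 zc9) (kc xc30 yc15 zc61) (kc xc32 yc14 zc27) (kc xc32 yc40 zc58) (kc xc32 yc37 zc60) (kc xc29 yc3 zc23) (kc xc32 yc42 zc59) (kc xc32 yc54 zc60) (kc xc29 yc3 zc41) (kc xc30 yc10 zc31) (kc xc31 yc11 zc2) (kc xc31 yc57 zc61)) (@D3.rec (fun _ => Pt) (kc xc31 yc40 zc55) (kc xc32 yc57 zc5) (kc xc32 yc55 zc29) (kc xc30 yc41 zc20) (kc xc31 yc3 zc26) (kc xc32 yc43 zc15) (kc xc31 yc18 zc29) (kc xc31 yc58 zc9) (kc xc30 yc10 zc39) (kc xc29 yc4 zc27) (kc xc31 yc9 zc1) (kc xc31 yc8 zc55) (kc xc31 yc49 zc42) (kc xc32 yc31 zc38) (kc xc31 yc48 zc33) (kc xc29 yc4 zc45) (kc xc29 yc4 zc46) (kc xc31 yc29 zc36) (kc xc32 yc45 zc60) (kc xc32 yc3 zc17) (kc xc29 yc45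 zc17) (kc xc29 yc5 zc0) (kc xc29 yc5 zc4) (kc xc32 yc57 zc55) (kc xc29 yc5 zc10) (kc xc29 yc5 zc9) (kc xc32 yc59 zc39) (kc xc29 yc11 zc52) (kc xc30 yc10 zc32) (kc xc29 yc5 zc21) (kc xc29 yc5 zc25) (kc xc29 yc11 zc28) (kc xc29 yc13 zc28) (kc xc29 yc11 zc26) (kc xc29 yc5 zc34) (kc xc32 yc49 zc16) (kc xc32 yc11 zc23) (kc xc30 yc55 zc51) (kc xc32 yc22 zc28) (kc xc30 yc26 zc38) (kc xc29 yc36 zc1) (kc xc30 yc9 zc9) (kc xc32 yc37 zc1) (kc xc29 yc8 zc27) (kc xc31 yc15 zc45) (kc xc31 yc15 zc46) (kc xc29 yc8 zc34) (kc xc32 yc37 zc2) (kc xc30 yc18 zc43) (kc xc30 yc21 zc43) (kc xc29 yc8 zc54) (kc xc32 yc48 zc30) (kc xc30 yc25 zc42) (kc xc29 yc17 zc18) (kc xc32 yc28 zc18) (kc xc29 yc10 zc32) (kc xc29 yc23 zc10) (kc xc29 yc10 zc7) (kc xc31 yc37 zc9) (kc xc32 yc41 zc56) (kc xc29 yc10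 zc20) (kc xc29 yc49 zc55)) (@D3.rec (fun _ => Pt) (kc xc30 yc8 zc31) (kc xc29 yc10 zc46) (kc xc30 yc30 zc60) (kc xc29 yc45 zc5) (kc xc32 yc30 zc35) (kc xc32 yc57 zc6) (kc xc32 yc50 zc10) (kc xc29 yc10 zc51) (kc xc32 yc26 zc26) (kc xc32 yc56 zc11) (kc xc29 yc10 zc58) (kc xc32 yc34 zc54) (kc xc32 yc50 zc26) (kc xc32 yc54 zc42) (kc xc32 yc53 zc19) (kc xc32 yc42 zc5) (kc xc29 yc11 zc35) (kc xc32 yc23 zc44) (kc xc32 yc4 zc43) (kc xc31 yc1 zc8) (kc xc29 yc12 zc59) (kc xc29 yc13 zc6) (kc xc32 yc52 zc28) (kc xc31 yc39 zc43) (kc xc29 yc52 zc4) (kc xc29 yc13 zc47) (kc xc32 yc58 zc51) (kc xc31 yc4 zc16) (kc xc32 yc59 zc17) (kc xc29 yc14 zc12) (kc xc29 yc14 zc14) (kc xc32 yc59 zc40) (kc xc29 yc14 zc22) (kc xc32 yc59 zc42) (kc xc32 yc27 zc14) (kc xc32 yc46 zc55) (kc xc31 yc51 zc56)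 (kc xc32 yc27 zc21) (kc xc32 yc55 zc10) (kc xc29 yc49 zc24) (kc xc32 yc36 zc3) (kc xc31 yc18 zc51) (kc xc32 yc53 zc23) (kc xc29 yc43 zc31) (kc xc32 yc56 zc39) (kc xc31 yc11 zc20) (kc xc29 yc15 zc47) (kc xc29 yc16 zc20) (kc xc29 yc15 zc54) (kc xc29 yc15 zc55) (kc xc31 yc49 zc47) (kc xc31 yc33 zc50) (kc xc29 yc16 zc24) (kc xc32 yc55 zc58) (kc xc32 yc35 zc36) (kc xc31 yc36 zc58) (kc xc32 yc49 zc10) (kc xc32 yc50 zc6) (kc xc30 yc20 zc51) (kc xc31 yc28 zc40) (kc xc31 yc38 zc54) (kc xc29 yc18 zc51)) (@D3.rec (fun _ => Pt) (kc xc29 yc19 zc22) (kc xc32 yc35 zc7) (kc xc32 yc11 zc28) (kc xc31 yc42 zc48) (kc xc31 yc38 zc45) (kc xc32 yc55 zc2) (kc xc30 yc19 zc58) (kc xc32 yc37 zc36) (kc xc29 yc46 zc54) (kc xc32 yc56 zc30) (kc xc29 yc33 zc44) (kc xc32 yc57 zc26) (kc xc32 yc59 zc29)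 (kc xc30 yc31 zc4) (kc xc29 yc30 zc45) (kc xc30 yc42 zc10) (kc xc32 yc8 zc9) (kc xc31 yc26 zc46) (kc xc32 yc39 zc13) (kc xc29 yc25 zc34) (kc xc31 yc14 zc56) (kc xc32 yc47 zc12) (kc xc32 yc37 zc54) (kc xc32 yc37 zc35) (kc xc32 yc24 zc16) (kc xc32 yc2 zc40) (kc xc31 yc25 zc14) (kc xc30 yc23 zc47) (kc xc31 yc11 zc29) (kc xc31 yc26 zc59) (kc xc29 yc25 zc54) (kc xc29 yc26 zc6) (kc xc31 yc29 zc14) (kc xc29 yc26 zc17) (kc xc29 yc26 zc20) (kc xc31 yc12 zc43) (kc xc30 yc16 zc11) (kc xc29 yc26 zc28) (kc xc32 yc12 zc48) (kc xc32 yc59 zc20) (kc xc32 yc7 zc9) (kc xc32 yc49 zc1) (kc xc32 yc36 zc40) (kc xc32 yc46 zc16) (kc xc29 yc27 zc18) (kc xc32 yc51 zc26) (kc xc29 yc27 zc23) (kc xc31 yc52 zc33) (kc xc31 yc22 zc0) (kc xc29 yc27 zc33) (kc xc29 yc27 zc35) (kc xc32 yc23 zc14) (kc xc30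 yc40 zc8) (kc xc29 yc41 zc30) (kc xc29 yc40 zc20) (kc xc31 yc45 zc14) (kc xc29 yc28 zc44) (kc xc29 yc28 zc52) (kc xc29 yc28 zc56) (kc xc30 yc32 zc3) (kc xc29 yc29 zc19) (kc xc32 yc47 zc4)) (@D3.rec (fun _ => Pt) (kc xc30 yc20 zc50) (kc xc29 yc30 zc22) (kc xc32 yc59 zc3) (kc xc29 yc31 zc0) (kc xc29 yc31 zc23) (kc xc31 yc39 zc59) (kc xc32 yc36 zc13) (kc xc32 yc35 zc31) (kc xc29 yc49 zc1) (kc xc30 yc25 zc45) (kc xc30 yc29 zc47) (kc xc32 yc54 zc53) (kc xc30 yc42 zc61) (kc xc29 yc43 zc21) (kc xc32 yc17 zc7) (kc xc29 yc34 zc22) (kc xc32 yc4 zc20) (kc xc32 yc52 zc41) (kc xc29 yc32 zc43) (kc xc31 yc32 zc20) (kc xc32 yc35 zc44) (kc xc31 yc48 zc28) (kc xc29 yc33 zc2) (kc xc32 yc59 zc30) (kc xc31 yc25 zc27) (kc xc32 yc48 zc34) (kc xc32 yc12 zc20) (kc xc29 yc33 zc17) (kc xc31 yc27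 zc22) (kc xc29 yc33 zc18) (kc xc29 yc33 zc20) (kc xc31 yc24 zc42) (kc xc31 yc26 zc25) (kc xc29 yc33 zc26) (kc xc29 yc33 zc31) (kc xc32 yc18 zc22) (kc xc30 yc20 zc23) (kc xc29 yc33 zc33) (kc xc32 yc13 zc33) (kc xc30 yc30 zc52) (kc xc29 yc37 zc54) (kc xc29 yc37 zc53) (kc xc29 yc33 zc48) (kc xc32 yc13 zc29) (kc xc32 yc45 zc55) (kc xc32 yc13 zc28) (kc xc32 yc10 zc51) (kc xc32 yc36 zc21) (kc xc32 yc37 zc40) (kc xc32 yc37 zc39) (kc xc30 yc30 zc29) (kc xc29 yc34 zc13) (kc xc32 yc0 zc61) (kc xc30 yc17 zc16) (kc xc29 yc40 zc11) (kc xc32 yc45 zc44) (kc xc32 yc37 zc31) (kc xc32 yc23 zc17) (kc xc29 yc35 zc36) (kc xc30 yc32 zc18) (kc xc32 yc42 zc18) (kc xc29 yc36 zc7)) (@D3.rec (fun _ => Pt) (kc xc29 yc36 zc8) (kc xc32 yc50 zc0) (kc xc32 yc59 zc48) (kc xc29 yc36 zc9) (kc xc32 yc59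 zc47) (kc xc29 yc36 zc10) (kc xc31 yc34 zc26) (kc xc29 yc36 zc11) (kc xc32 yc59 zc50) (kc xc32 yc36 zc37) (kc xc29 yc36 zc14) (kc xc29 yc36 zc13) (kc xc32 yc59 zc46) (kc xc31 yc21 zc25) (kc xc31 yc51 zc57) (kc xc30 yc49 zc56) (kc xc32 yc44 zc43) (kc xc30 yc23 zc32) (kc xc29 yc36 zc31) (kc xc32 yc40 zc59) (kc xc30 yc50 zc31) (kc xc32 yc17 zc40) (kc xc29 yc55 zc9) (kc xc29 yc37 zc7) (kc xc29 yc37 zc33) (kc xc32 yc59 zc1) (kc xc29 yc37 zc36) (kc xc29 yc37 zc50) (kc xc29 yc37 zc52) (kc xc32 yc38 zc25) (kc xc32 yc13 zc31) (kc xc30 yc37 zc27) (kc xc31 yc12 zc30) (kc xc30 yc12 zc31) (kc xc32 yc28 zc45) (kc xc32 yc47 zc30) (kc xc32 yc38 zc0) (kc xc30 yc30 zc15) (kc xc32 yc40 zc26) (kc xc29 yc40 zc30) (kc xc32 yc52 zc46) (kc xc30 yc29 zc33) (kc xc32 yc46 zc46) (kc xc31 yc18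 zc39) (kc xc32 yc52 zc45) (kc xc29 yc40 zc26) (kc xc32 yc46 zc42) (kc xc32 yc39 zc51) (kc xc29 yc40 zc29) (kc xc31 yc33 zc29) (kc xc29 yc40 zc40) (kc xc30 yc16 zc8) (kc xc32 yc41 zc3) (kc xc32 yc47 zc43) (kc xc29 yc41 zc5) (kc xc32 yc43 zc35) (kc xc29 yc41 zc16) (kc xc32 yc53 zc57) (kc xc31 yc10 zc22) (kc xc29 yc41 zc42) (kc xc29 yc41 zc43) (kc xc32 yc36 zc25)) (@D3.rec (fun _ => Pt) (kc xc32 yc58 zc24) (kc xc32 yc15 zc41) (kc xc29 yc43 zc20) (kc xc29 yc42 zc31) (kc xc32 yc44 zc61) (kc xc30 yc11 zc35) (kc xc32 yc14 zc16) (kc xc29 yc43 zc25) (kc xc31 yc20 zc44) (kc xc32 yc21 zc51) (kc xc31 yc5 zc47) (kc xc32 yc48 zc48) (kc xc32 yc44 zc21) (kc xc29 yc52 zc31) (kc xc32 yc36 zc42) (kc xc31 yc27 zc37) (kc xc32 yc47 zc22) (kc xc30 yc26 zc4) (kc xc31 yc56 zc5) (kc xc29 yc45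 zc1) (kc xc31 yc47 zc35) (kc xc30 yc30 zc21) (kc xc32 yc47 zc16) (kc xc32 yc55 zc54) (kc xc32 yc56 zc58) (kc xc29 yc45 zc14) (kc xc30 yc11 zc38) (kc xc30 yc25 zc43) (kc xc30 yc20 zc52) (kc xc31 yc19 zc57) (kc xc32 yc46 zc35) (kc xc30 yc30 zc51) (kc xc32 yc38 zc30) (kc xc30 yc29 zc11) (kc xc32 yc29 zc51) (kc xc32 yc33 zc2) (kc xc32 yc33 zc3) (kc xc29 yc46 zc3) (kc xc31 yc48 zc56) (kc xc29 yc46 zc5) (kc xc29 yc46 zc51) (kc xc32 yc59 zc45) (kc xc32 yc20 zc61) (kc xc32 yc46 zc53) (kc xc32 yc54 zc25) (kc xc32 yc11 zc39) (kc xc30 yc25 zc46) (kc xc31 yc52 zc18) (kc xc29 yc46 zc29) (kc xc32 yc37 zc42) (kc xc29 yc46 zc45) (kc xc31 yc29 zc25) (kc xc29 yc46 zc53) (kc xc32 yc10 zc20) (kc xc30 yc53 zc6) (kc xc30 yc27 zc60) (kc xc32 yc12 zc50) (kc xc29 yc47 zc4) (kc xc32 yc51 zc0)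 (kc xc32 yc48 zc51) (kc xc30 yc30 zc59) (kc xc32 yc19 zc27)) (@D3.rec (fun _ => Pt) (kc xc31 yc24 zc4) (kc xc32 yc39 zc58) (kc xc29 yc48 zc16) (kc xc29 yc48 zc24) (kc xc31 yc15 zc17) (kc xc30 yc35 zc43) (kc xc31 yc37 zc3) (kc xc32 yc54 zc33) (kc xc30 yc4 zc52) (kc xc32 yc57 zc1) (kc xc31 yc45 zc47) (kc xc32 yc1 zc25) (kc xc31 yc4 zc42) (kc xc29 yc49 zc46) (kc xc31 yc10 zc12) (kc xc31 yc9 zc48) (kc xc32 yc55 zc21) (kc xc29 yc50 zc24) (kc xc32 yc2 zc31) (kc xc29 yc51 zc3) (kc xc30 yc0 zc23) (kc xc30 yc52 zc17) (kc xc29 yc57 zc55) (kc xc29 yc57 zc56) (kc xc32 yc21 zc10) (kc xc32 yc23 zc39) (kc xc32 yc39 zc15) (kc xc29 yc56 zc32) (kc xc30 yc59 zc26) (kc xc29 yc52 zc32) (kc xc32 yc42 zc51) (kc xc32 yc32 zc36) (kc xc29 yc52 zc56) (kc xc29 yc53 zc53) (kc xc32 yc45 zc25) (kc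 xc31 yc24 zc14) (kc xc32 yc35 zc17) (kc xc29 yc53 zc44) (kc xc29 yc53 zc49) (kc xc32 yc49 zc30) (kc xc32 yc9 zc23) (kc xc32 yc22 zc5) (kc xc29 yc54 zc50) (kc xc32 yc22 zc0) (kc xc31 yc27 zc2) (kc xc29 yc55 zc17) (kc xc30 yc10 zc19) (kc xc29 yc56 zc4) (kc xc32 yc47 zc11) (kc xc29 yc56 zc6) (kc xc32 yc35 zc38) (kc xc32 yc47 zc59) (kc xc30 yc40 zc47) (kc xc31 yc37 zc49) (kc xc32 yc5 zc22) (kc xc31 yc58 zc43) (kc xc29 yc58 zc12) (kc xc31 yc16 zc60) (kc xc32 yc54 zc37) (kc xc29 yc57 zc31) (kc xc30 yc52 zc34) (kc xc30 yc10 zc42)) (@D3.rec (fun _ => Pt) (kc xc32 yc49 zc3) (kc xc32 yc44 zc41) (kc xc31 yc57 zc40) (kc xc32 yc49 zc0) (kc xc31 yc30 zc20) (kc xc31 yc37 zc39) (kc xc30 yc55 zc21) (kc xc29 yc58 zc25) (kc xc31 yc47 zc22) (kc xc31 yc10 zc52) (kc xc32 yc43 zc56) (kc xc32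 yc26 zc17) (kc xc32 yc26 zc18) (kc xc29 yc58 zc45) (kc xc31 yc10 zc42) (kc xc30 yc10 zc5) (kc xc32 yc42 zc35) (kc xc30 yc27 zc8) (kc xc30 yc42 zc17) (kc xc30 yc35 zc59) (kc xc32 yc15 zc57) (kc xc30 yc58 zc22) (kc xc32 yc38 zc7) (kc xc30 yc14 zc40) (kc xc30 yc0 zc56) (kc xc31 yc57 zc41) (kc xc30 yc1 zc44) (kc xc30 yc2 zc59) (kc xc32 yc29 zc3) (kc xc32 yc23 zc50) (kc xc32 yc48 zc39) (kc xc30 yc2 zc13) (kc xc31 yc11 zc9) (kc xc30 yc3 zc0) (kc xc32 yc10 zc17) (kc xc31 yc34 zc19) (kc xc32 yc15 zc31) (kc xc31 yc49 zc28) (kc xc31 yc17 zc7) (kc xc32 yc56 zc56) (kc xc32 yc56 zc20) (kc xc30 yc3 zc49) (kc xc30 yc4 zc6) (kc xc32 yc59 zc16) (kc xc31 yc49 zc37) (kc xc31 yc45 zc48) (kc xc30 yc7 zc56) (kc xc31 yc5 zc27) (kc xc32 yc1 zc17) (kc xc31 yc27 zc39) (kc xc30 yc4 zc53) (kc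 xc30 yc4 zc55) (kc xc31 yc1 zc21) (kc xc32 yc50 zc52) (kc xc32 yc23 zc20) (kc xc30 yc5 zc7) (kc xc32 yc59 zc11) (kc xc30 yc5 zc40) (kc xc30 yc49 zc52) (kc xc30 yc38 zc13) (kc xc30 yc49 zc51) (kc xc30 yc18 zc24)) (@D3.rec (fun _ => Pt) (kc xc32 yc46 zc1) (kc xc30 yc5 zc45) (kc xc32 yc41 zc32) (kc xc32 yc22 zc41) (kc xc30 yc5 zc50) (kc xc32 yc19 zc28) (kc xc32 yc43 zc57) (kc xc30 yc6 zc11) (kc xc30 yc6 zc12) (kc xc31 yc57 zc36) (kc xc32 yc43 zc6) (kc xc31 yc11 zc33) (kc xc31 yc19 zc54) (kc xc31 yc19 zc55) (kc xc32 yc51 zc43) (kc xc30 yc7 zc2) (kc xc31 yc26 zc27) (kc xc30 yc57 zc8) (kc xc30 yc52 zc42) (kc xc30 yc57 zc9) (kc xc31 yc2 zc11) (kc xc30 yc7 zc33) (kc xc31 yc42 zc32) (kc xc30 yc7 zc35) (kc xc32 yc59 zc53) (kc xc32 yc53 zc41) (kc xc32 yc43 zc12) (kc xc31 yc33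 zc25) (kc xc32 yc31 zc43) (kc xc30 yc9 zc22) (kc xc32 yc13 zc43) (kc xc32 yc23 zc57) (kc xc30 yc9 zc40) (kc xc30 yc9 zc39) (kc xc31 yc26 zc42) (kc xc31 yc6 zc11) (kc xc30 yc10 zc23) (kc xc31 yc3 zc12) (kc xc32 yc31 zc10) (kc xc30 yc11 zc53) (kc xc32 yc40 zc17) (kc xc30 yc27 zc61) (kc xc32 yc57 zc43) (kc xc32 yc26 zc51) (kc xc32 yc56 zc23) (kc xc32 yc34 zc56) (kc xc30 yc13 zc19) (kc xc32 yc30 zc33) (kc xc32 yc59 zc23) (kc xc30 yc13 zc37) (kc xc31 yc9 zc16) (kc xc32 yc54 zc18) (kc xc32 yc49 zc53) (kc xc30 yc13 zc49) (kc xc32 yc53 zc11) (kc xc31 yc31 zc49) (kc xc30 yc25 zc50) (kc xc31 yc20 zc33) (kc xc30 yc31 zc10) (kc xc32 yc12 zc34) (kc xc32 yc56 zc27) (kc xc30 yc15 zc50)) (@D3.rec (fun _ => Pt) (kc xc32 yc47 zc58) (kc xc30 yc39 zc8) (kc xc32 yc59 zc27) (kc xc32 yc41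 zc7) (kc xc31 yc32 zc24) (kc xc32 yc54 zc40) (kc xc32 yc22 zc57) (kc xc30 yc17 zc36) (kc xc31 yc12 zc52) (kc xc30 yc18 zc23) (kc xc32 yc19 zc34) (kc xc30 yc18 zc26) (kc xc31 yc33 zc12) (kc xc30 yc18 zc29) (kc xc32 yc8 zc30) (kc xc32 yc52 zc57) (kc xc32 yc54 zc56) (kc xc30 yc46 zc22) (kc xc30 yc18 zc55) (kc xc32 yc36 zc38) (kc xc32 yc36 zc39) (kc xc30 yc18 zc61) (kc xc32 yc20 zc17) (kc xc31 yc41 zc49) (kc xc32 yc17 zc22) (kc xc32 yc59 zc57) (kc xc32 yc44 zc45) (kc xc32 yc34 zc9) (kc xc31 yc52 zc16) (kc xc32 yc25 zc20) (kc xc30 yc38 zc48) (kc xc30 yc19 zc18) (kc xc30 yc20 zc19) (kc xc30 yc39 zc41) (kc xc30 yc31 zc29) (kc xc30 yc22 zc61) (kc xc32 yc55 zc19) (kc xc30 yc21 zc10) (kc xc31 yc27 zc47) (kc xc32 yc16 zc5) (kc xc30 yc21 zc15) (kc xc31 yc51 zc38) (kc xc31 yc15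 zc61) (kc xc32 yc50 zc14) (kc xc30 yc21 zc28) (kc xc31 yc15 zc4) (kc xc30 yc21 zc46) (kc xc30 yc21 zc47) (kc xc31 yc29 zc37) (kc xc30 yc21 zc44) (kc xc30 yc21 zc45) (kc xc32 yc58 zc4) (kc xc31 yc13 zc56) (kc xc30 yc21 zc55) (kc xc32 yc59 zc59) (kc xc31 yc13 zc49) (kc xc30 yc22 zc4) (kc xc30 yc22 zc0) (kc xc30 yc45 zc7) (kc xc32 yc54 zc51) (kc xc30 yc21 zc60) (kc xc30 yc21 zc61)) (@D3.rec (fun _ => Pt) (kc xc30 yc22 zc2) (kc xc30 yc22 zc3) (kc xc31 yc13 zc55) (kc xc32 yc16 zc41) (kc xc32 yc52 zc39) (kc xc30 yc50 zc30) (kc xc30 yc39 zc43) (kc xc32 yc58 zc43) (kc xc32 yc35 zc53) (kc xc32 yc58 zc42) (kc xc30 yc43 zc57) (kc xc31 yc33 zc23) (kc xc32 yc39 zc24) (kc xc32 yc53 zc22) (kc xc32 yc21 zc60) (kc xc32 yc40 zc3) (kc xc30 yc24 zc0) (kc xc31 yc53 zc0) (kc xc30 yc24 zc42)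 (kc xc31 yc30 zc38) (kc xc32 yc15 zc21) (kc xc32 yc18 zc55) (kc xc32 yc40 zc29) (kc xc30 yc30 zc20) (kc xc30 yc26 zc51) (kc xc31 yc6 zc58) (kc xc30 yc39 zc3) (kc xc32 yc34 zc19) (kc xc32 yc43 zc22) (kc xc32 yc40 zc39) (kc xc30 yc28 zc9) (kc xc32 yc20 zc18) (kc xc32 yc23 zc31) (kc xc32 yc1 zc8) (kc xc31 yc30 zc53) (kc xc30 yc31 zc8) (kc xc32 yc53 zc3) (kc xc30 yc28 zc24) (kc xc31 yc33 zc24) (kc xc32 yc52 zc4) (kc xc30 yc34 zc19) (kc xc32 yc45 zc17) (kc xc32 yc18 zc61) (kc xc32 yc11 zc16) (kc xc32 yc35 zc30) (kc xc32 yc46 zc44) (kc xc32 yc46 zc40) (kc xc32 yc0 zc52) (kc xc32 yc21 zc49) (kc xc32 yc58 zc60) (kc xc30 yc29 zc15) (kc xc31 yc31 zc41) (kc xc32 yc10 zc34) (kc xc30 yc30 zc27) (kc xc30 yc30 zc31) (kc xc31 yc40 zc13) (kc xc32 yc16 zc54) (kc xc32 yc51 zc15) (kc xc30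 yc30 zc44) (kc xc30 yc52 zc9) (kc xc32 yc30 zc46) (kc xc30 yc56 zc59)) (@D3.rec (fun _ => Pt) (kc xc31 yc46 zc50) (kc xc32 yc39 zc5) (kc xc32 yc37 zc61) (kc xc32 yc52 zc36) (kc xc32 yc55 zc56) (kc xc30 yc31 zc47) (kc xc31 yc23 zc8) (kc xc31 yc13 zc51) (kc xc30 yc33 zc35) (kc xc32 yc59 zc4) (kc xc31 yc31 zc37) (kc xc32 yc50 zc54) (kc xc31 yc22 zc6) (kc xc32 yc30 zc42) (kc xc31 yc16 zc53) (kc xc30 yc33 zc34) (kc xc30 yc33 zc42) (kc xc32 yc5 zc10) (kc xc31 yc53 zc7) (kc xc32 yc43 zc14) (kc xc30 yc34 zc25) (kc xc32 yc59 zc43) (kc xc32 yc52 zc13) (kc xc32 yc43 zc42) (kc xc30 yc34 zc30) (kc xc32 yc5 zc21) (kc xc31 yc8 zc25) (kc xc31 yc4 zc56) (kc xc31 yc15 zc36) (kc xc30 yc35 zc21) (kc xc30 yc35 zc24) (kc xc32 yc32 zc1) (kc xc31 yc57 zc16) (kc xc30 yc35 zc28) (kc xc30 yc35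 zc44) (kc xc32 yc56 zc40) (kc xc32 yc30 zc44) (kc xc30 yc36 zc18) (kc xc30 yc36 zc20) (kc xc32 yc22 zc25) (kc xc30 yc47 zc61) (kc xc32 yc50 zc25) (kc xc31 yc11 zc32) (kc xc32 yc40 zc19) (kc xc30 yc37 zc44) (kc xc30 yc37 zc48) (kc xc30 yc45 zc0) (kc xc32 yc35 zc59) (kc xc32 yc40 zc43) (kc xc32 yc58 zc9) (kc xc32 yc59 zc44) (kc xc32 yc37 zc4) (kc xc32 yc37 zc7) (kc xc31 yc31 zc55) (kc xc32 yc10 zc59) (kc xc32 yc58 zc25) (kc xc31 yc50 zc45) (kc xc32 yc46 zc57) (kc xc31 yc53 zc9) (kc xc31 yc22 zc7) (kc xc31 yc27 zc44) (kc xc30 yc40 zc14)) (@D3.rec (fun _ => Pt) (kc xc32 yc26 zc55) (kc xc32 yc57 zc53) (kc xc31 yc4 zc48) (kc xc30 yc40 zc16) (kc xc32 yc56 zc2) (kc xc32 yc55 zc41) (kc xc32 yc24 zc31) (kc xc30 yc40 zc33) (kc xc30 yc40 zc34) (kc xc31 yc5 zc14) (kc xc32 yc14 zc5)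 (kc xc30 yc52 zc35) (kc xc32 yc27 zc51) (kc xc30 yc41 zc11) (kc xc32 yc2 zc56) (kc xc32 yc7 zc10) (kc xc30 yc41 zc26) (kc xc32 yc4 zc52) (kc xc32 yc50 zc51) (kc xc32 yc10 zc4) (kc xc30 yc41 zc33) (kc xc30 yc41 zc48) (kc xc30 yc42 zc2) (kc xc30 yc42 zc20) (kc xc32 yc32 zc48) (kc xc32 yc47 zc44) (kc xc31 yc26 zc10) (kc xc30 yc49 zc43) (kc xc30 yc56 zc61) (kc xc31 yc1 zc36) (kc xc30 yc44 zc52) (kc xc32 yc32 zc0) (kc xc30 yc45 zc1) (kc xc32 yc48 zc7) (kc xc31 yc51 zc54) (kc xc31 yc29 zc6) (kc xc32 yc58 zc17) (kc xc32 yc48 zc58) (kc xc31 yc53 zc3) (kc xc32 yc27 zc58) (kc xc32 yc51 zc5) (kc xc32 yc10 zc37) (kc xc32 yc43 zc13) (kc xc32 yc40 zc54) (kc xc31 yc26 zc11) (kc xc30 yc50 zc36) (kc xc30 yc51 zc21) (kc xc31 yc28 zc8) (kc xc32 yc17 zc48) (kc xc32 yc57 zc45) (kc xc32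 yc59 zc5) (kc xc32 yc51 zc59) (kc xc30 yc49 zc60) (kc xc32 yc45 zc11) (kc xc32 yc18 zc1) (kc xc30 yc50 zc33) (kc xc32 yc51 zc16) (kc xc31 yc10 zc31) (kc xc32 yc5 zc2) (kc xc32 yc16 zc9) (kc xc32 yc41 zc57) (kc xc30 yc52 zc59)) (@D3.rec (fun _ => Pt) (kc xc32 yc19 zc20) (kc xc31 yc25 zc24) (kc xc32 yc44 zc5) (kc xc31 yc16 zc28) (kc xc30 yc54 zc46) (kc xc30 yc55 zc9) (kc xc31 yc55 zc33) (kc xc31 yc36 zc33) (kc xc32 yc57 zc37) (kc xc30 yc56 zc60) (kc xc32 yc43 zc38) (kc xc30 yc58 zc27) (kc xc32 yc25 zc4) (kc xc31 yc7 zc16) (kc xc32 yc32 zc50) (kc xc32 yc5 zc7) (kc xc31 yc44 zc17) (kc xc31 yc0 zc61) (kc xc31 yc11 zc58) (kc xc32 yc51 zc36) (kc xc32 yc16 zc7) (kc xc32 yc48 zc16) (kc xc31 yc3 zc10) (kc xc31 yc3 zc17) (kc xc31 yc3 zc16) (kc xc32 yc32 zc31) (kc xc32 yc26 zc20)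 (kc xc31 yc56 zc31) (kc xc31 yc3 zc61) (kc xc32 yc42 zc2) (kc xc31 yc58 zc22) (kc xc31 yc4 zc20) (kc xc31 yc4 zc25) (kc xc32 yc30 zc4) (kc xc32 yc55 zc46) (kc xc31 yc5 zc31) (kc xc31 yc5 zc37) (kc xc31 yc6 zc15) (kc xc31 yc6 zc55) (kc xc32 yc33 zc30) (kc xc31 yc14 zc50) (kc xc32 yc54 zc5) (kc xc32 yc25 zc60) (kc xc31 yc8 zc37) (kc xc32 yc30 zc3) (kc xc31 yc35 zc55) (kc xc32 yc55 zc34) (kc xc32 yc56 zc22) (kc xc31 yc9 zc40) (kc xc32 yc59 zc31) (kc xc32 yc26 zc50) (kc xc31 yc10 zc4) (kc xc32 yc29 zc31) (kc xc31 yc11 zc0) (kc xc32 yc47 zc23) (kc xc31 yc11 zc34) (kc xc32 yc53 zc4) (kc xc32 yc38 zc21) (kc xc32 yc43 zc53) (kc xc32 yc6 zc50) (kc xc31 yc12 zc5) (kc xc32 yc16 zc36)) (@D3.rec (fun _ => Pt) (kc xc31 yc52 zc21) (kc xc32 yc33 zc51) (kc xc32 yc54 zc4) (kc xc32 yc37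 zc59) (kc xc32 yc58 zc7) (kc xc32 yc58 zc20) (kc xc31 yc47 zc43) (kc xc32 yc58 zc5) (kc xc32 yc59 zc58) (kc xc31 yc14 zc27) (kc xc31 yc49 zc34) (kc xc32 yc43 zc9) (kc xc31 yc15 zc11) (kc xc31 yc15 zc21) (kc xc31 yc15 zc14) (kc xc32 yc16 zc45) (kc xc32 yc40 zc40) (kc xc31 yc16 zc12) (kc xc31 yc16 zc15) (kc xc32 yc57 zc59) (kc xc32 yc49 zc40) (kc xc32 yc58 zc33) (kc xc32 yc55 zc47) (kc xc32 yc50 zc44) (kc xc32 yc34 zc25) (kc xc32 yc34 zc14) (kc xc31 yc38 zc10) (kc xc32 yc50 zc60) (kc xc31 yc32 zc60) (kc xc32 yc40 zc45) (kc xc32 yc44 zc9) (kc xc32 yc58 zc1) (kc xc32 yc32 zc57) (kc xc31 yc19 zc59) (kc xc31 yc20 zc0) (kc xc31 yc52 zc19) (kc xc31 yc20 zc2) (kc xc32 yc58 zc48) (kc xc32 yc14 zc15) (kc xc32 yc43 zc44) (kc xc32 yc53 zc35) (kc xc32 yc59 zc18) (kc xc31 yc22 zc24)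 (kc xc31 yc30 zc49) (kc xc31 yc23 zc7) (kc xc31 yc22 zc40) (kc xc32 yc4 zc48) (kc xc31 yc23 zc55) (kc xc32 yc0 zc29) (kc xc31 yc26 zc58) (kc xc32 yc22 zc56) (kc xc32 yc37 zc23) (kc xc32 yc15 zc10) (kc xc31 yc46 zc6) (kc xc31 yc47 zc16) (kc xc32 yc58 zc27) (kc xc32 yc49 zc39) (kc xc32 yc15 zc7) (kc xc32 yc47 zc24) (kc xc32 yc36 zc49) (kc xc32 yc57 zc49) (kc xc32 yc38 zc58)) (@D3.rec (fun _ => Pt) (kc xc32 yc38 zc60) (kc xc32 yc48 zc9) (kc xc32 yc12 zc10) (kc xc32 yc58 zc40) (kc xc32 yc23 zc8) (kc xc32 yc42 zc1) (kc xc32 yc43 zc5) (kc xc32 yc7 zc7) (kc xc31 yc29 zc13) (kc xc31 yc29 zc4) (kc xc32 yc11 zc10) (kc xc31 yc30 zc3) (kc xc32 yc13 zc16) (kc xc32 yc11 zc12) (kc xc31 yc47 zc6) (kc xc31 yc31 zc23) (kc xc31 yc31 zc21) (kc xc32 yc12 zc24) (kc xc31 yc31 zc50) (kc xc32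 yc2 zc8) (kc xc31 yc50 zc21) (kc xc32 yc40 zc50) (kc xc31 yc32 zc53) (kc xc31 yc44 zc23) (kc xc32 yc57 zc27) (kc xc32 yc11 zc50) (kc xc32 yc44 zc11) (kc xc32 yc57 zc24) (kc xc31 yc34 zc31) (kc xc32 yc22 zc16) (kc xc31 yc35 zc29) (kc xc32 yc35 zc20) (kc xc31 yc37 zc30) (kc xc31 yc37 zc41) (kc xc31 yc46 zc11) (kc xc31 yc38 zc9) (kc xc32 yc6 zc47) (kc xc32 yc55 zc8) (kc xc32 yc20 zc31) (kc xc32 yc20 zc48) (kc xc32 yc15 zc9) (kc xc31 yc55 zc36) (kc xc32 yc19 zc32) (kc xc32 yc50 zc42) (kc xc32 yc36 zc50) (kc xc32 yc54 zc49) (kc xc32 yc33 zc4) (kc xc32 yc20 zc49) (kc xc32 yc18 zc3) (kc xc32 yc56 zc60) (kc xc32 yc35 zc61) (kc xc32 yc39 zc59) (kc xc31 yc55 zc40) (kc xc32 yc54 zc1) (kc xc31 yc53 zc1) (kc xc32 yc42 zc23) (kc xc32 yc59 zc2) (kc xc32 yc6 zc32) (kc xc32 yc58 zc44)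 (kc xc32 yc56 zc19) (kc xc32 yc31 zc49) (kc xc31 yc46 zc48)) (@D3.rec (fun _ => Pt) (kc xc31 yc46 zc52) (kc xc32 yc56 zc31) (kc xc32 yc39 zc44) (kc xc32 yc59 zc35) (kc xc32 yc51 zc51) (kc xc32 yc56 zc7) (kc xc31 yc48 zc18) (kc xc32 yc56 zc4) (kc xc32 yc21 zc39) (kc xc32 yc53 zc49) (kc xc32 yc14 zc60) (kc xc31 yc51 zc14) (kc xc32 yc22 zc39) (kc xc32 yc41 zc0) (kc xc32 yc59 zc54) (kc xc31 yc52 zc22) (kc xc31 yc51 zc44) (kc xc32 yc54 zc36) (kc xc32 yc59 zc56) (kc xc32 yc59 zc10) (kc xc32 yc56 zc5) (kc xc32 yc20 zc51) (kc xc31 yc52 zc12) (kc xc32 yc59 zc55) (kc xc32 yc47 zc0) (kc xc32 yc53 zc55) (kc xc31 yc52 zc28) (kc xc32 yc56 zc55) (kc xc31 yc53 zc5) (kc xc32 yc38 zc38) (kc xc32 yc20 zc33) (kc xc32 yc32 zc60) (kc xc31 yc54 zc22) (kc xc32 yc56 zc21) (kc xc31 yc55 zc5)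 (kc xc31 yc56 zc7) (kc xc31 yc56 zc59) (kc xc31 yc56 zc61) (kc xc31 yc57 zc0) (kc xc31 yc57 zc2) (kc xc32 yc57 zc3) (kc xc32 yc24 zc10) (kc xc32 yc52 zc9) (kc xc32 yc52 zc7) (kc xc32 yc57 zc58) (kc xc32 yc1 zc39) (kc xc32 yc2 zc34) (kc xc32 yc2 zc36) (kc xc32 yc56 zc37) (kc xc32 yc4 zc54) (kc xc32 yc7 zc42) (kc xc32 yc43 zc26) (kc xc32 yc6 zc55) (kc xc32 yc23 zc43) (kc xc32 yc11 zc19) (kc xc32 yc12 zc33) (kc xc32 yc12 zc19) (kc xc32 yc12 zc36) (kc xc32 yc35 zc14) (kc xc32 yc38 zc2) (kc xc32 yc52 zc49) (kc xc32 yc16 zc6)) (@D3.rec (fun _ => Pt) (kc xc32 yc39 zc53) (kc xc32 yc46 zc25) (kc xc32 yc57 zc56) (kc xc32 yc45 zc2) (kc xc32 yc53 zc9) (kc xc32 yc54 zc50) (kc xc32 yc20 zc44) (kc xc32 yc18 zc39) (kc xc32 yc19 zc42) (kc xc32 yc34 zc29) (kc xc32 yc58 zc19) (kc xc32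 yc49 zc56) (kc xc32 yc20 zc52) (kc xc32 yc20 zc50) (kc xc32 yc25 zc23) (kc xc32 yc31 zc46) (kc xc32 yc49 zc43) (kc xc32 yc43 zc28) (kc xc32 yc56 zc41) (kc xc32 yc31 zc28) (kc xc32 yc44 zc39) (kc xc32 yc36 zc34) (kc xc32 yc33 zc58) (kc xc32 yc50 zc48) (kc xc32 yc35 zc27) (kc xc32 yc59 zc34) (kc xc32 yc35 zc28) (kc xc32 yc51 zc2) (kc xc32 yc59 zc38) (kc xc32 yc44 zc12) (kc xc32 yc45 zc23) (kc xc32 yc55 zc49) (kc xc32 yc37 zc24) (kc xc32 yc37 zc32) (kc xc32 yc59 zc25) (kc xc32 yc58 zc3) (kc xc32 yc41 zc35) (kc xc32 yc41 zc48) (kc xc32 yc59 zc28) (kc xc32 yc42 zc26) (kc xc32 yc43 zc31) (kc xc32 yc59 zc61) (kc xc32 yc43 zc33) (kc xc32 yc53 zc21) (kc xc32 yc53 zc50) (kc xc32 yc47 zc41) (kc xc32 yc46 zc12) (kc xc32 yc46 zc4) (kc xc32 yc46 zc2) (kc xc32 yc59 zc60) (kc xc32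 yc46 zc8) (kc xc32 yc59 zc52) (kc xc32 yc59 zc51) (kc xc32 yc50 zc24) (kc xc32 yc58 zc14) (kc xc32 yc58 zc23) (kc xc32 yc58 zc18) (kc xc32 yc51 zc25) (kc xc32 yc56 zc8) (kc xc32 yc51 zc54) (kc xc32 yc59 zc49) (kc xc32 yc59 zc41))
def f_c : Pt → Pt := @Pt.rec (fun _ => Pt) (@D1.rec (fun _ => D2 → D3 → Pt) f_c_0 f_c_1 f_c_2 f_c_3 f_c_4 f_c_5 f_c_6 f_c_7 f_c_8 f_c_9 f_c_10 f_c_11 f_c_12 f_c_13 f_c_14 f_c_15 f_c_16 f_c_17 f_c_18 f_c_19 f_c_20 f_c_21 f_c_22 f_c_23 f_c_24 f_c_25 f_c_26 f_c_27 f_c_28 f_c_29 f_c_30 f_c_31 f_c_32)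
def fi_c : Pt → Pt := f_c

theorem inv_chk_c : chkInv allPts beqPt f_c fi_c = true := by decide +kernel

end

end Cfsg.Agent.Helper28.S1692
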