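import Cfsg.Agent.Lib.Helper28.S1692.Defs

set_option autoImplicit false
set_option maxRecDepth 100000
set_option linter.all false

namespace Cfsg.Agent.Helper28.S1692

open Cfsg.Agent.Helper28
open Cfsg.Spor.ON (Gen)

noncomputable section

abbrev kd := Pt.mk
abbrev xd0 := D1.c0
abbrev xd1 := D1.c1
abbrev xd2 := D1.c2
abbrev xd3 := D1.c3
abbrev xd4 := D1.c4
abbrev xd5 := D1.c5
abbrev xd6 := D1.c6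
abbrev xd7 := D1.c7
abbrev xd8 := D1.c8
abbrev xd9 := D1.c9
abbrev xd10 := D1.c10
abbrev xd11 := D1.c11
abbrev xd12 := D1.c12
abbrev xd13 := D1.c13
abbrev xd14 := D1.c14
abbrev xd15 := D1.c15
abbrev xd16 := D1.c16
abbrev xd17 := D1.c17
abbrev xd18 := D1.c18
abbrev xd19 := D1.c19
abbrev xd20 := D1.c20
abbrev xd21 := D1.c21
abbrev xd22 := D1.c22
abbrev xd23 := D1.c23
abbrev xd24 := D1.c24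
abbrev xd25 := D1.c25
abbrev xd26 := D1.c26
abbrev xd27 := D1.c27
abbrev xd28 := D1.c28
abbrev xd29 := D1.c29
abbrev xd30 := D1.c30
abbrev xd31 := D1.c31
abbrev xd32 := D1.c32
abbrev yd0 := D2.c0
abbrev yd1 := D2.c1
abbrev yd2 := D2.c2
abbrev yd3 := D2.c3
abbrev yd4 := D2.c4
abbrev yd5 := D2.c5
abbrev yd6 := D2.c6
abbrev yd7 := D2.c7
abbrev yd8 := D2.c8
abbrev yd9 := D2.c9
abbrev yd10 := D2.c10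
abbrev yd11 := D2.c11
abbrev yd12 := D2.c12
abbrev yd13 := D2.c13
abbrev yd14 := D2.c14
abbrev yd15 := D2.c15
abbrev yd16 := D2.c16
abbrev yd17 := D2.c17
abbrev yd18 := D2.c18
abbrev yd19 := D2.c19
abbrev yd20 := D2.c20
abbrev yd21 := D2.c21
abbrev yd22 := D2.c22
abbrev yd23 := D2.c23
abbrev yd24 := D2.c24
abbrev yd25 := D2.c25
abbrev yd26 := D2.c26
abbrev yd27 := D2.c27
abbrev yd28 := D2.c28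
abbrev yd29 := D2.c29
abbrev yd30 := D2.c30
abbrev yd31 := D2.c31
abbrev yd32 := D2.c32
abbrev yd33 := D2.c33
abbrev yd34 := D2.c34
abbrev yd35 := D2.c35
abbrev yd36 := D2.c36
abbrev yd37 := D2.c37
abbrev yd38 := D2.c38
abbrev yd39 := D2.c39
abbrev yd40 := D2.c40
abbrev yd41 := D2.c41
abbrev yd42 := D2.c42
abbrev yd43 := D2.c43
abbrev yd44 := D2.c44
abbrev yd45 := D2.c45
abbrev yd46 := D2.c46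
abbrev yd47 := D2.c47
abbrev yd48 := D2.c48
abbrev yd49 := D2.c49
abbrev yd50 := D2.c50
abbrev yd51 := D2.c51
abbrev yd52 := D2.c52
abbrev yd53 := D2.c53
abbrev yd54 := D2.c54
abbrev yd55 := D2.c55
abbrev yd56 := D2.c56
abbrev yd57 := D2.c57
abbrev yd58 := D2.c58
abbrev yd59 := D2.c59
abbrev zd0 := D3.c0
abbrev zd1 := D3.c1
abbrev zd2 := D3.c2
abbrev zd3 := D3.c3
abbrev zd4 := D3.c4
abbrev zd5 := D3.c5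
abbrev zd6 := D3.c6
abbrev zd7 := D3.c7
abbrev zd8 := D3.c8
abbrev zd9 := D3.c9
abbrev zd10 := D3.c10
abbrev zd11 := D3.c11
abbrev zd12 := D3.c12
abbrev zd13 := D3.c13
abbrev zd14 := D3.c14
abbrev zd15 := D3.c15
abbrev zd16 := D3.c16
abbrev zd17 := D3.c17
abbrev zd18 := D3.c18
abbrev zd19 := D3.c19
abbrev zd20 := D3.c20
abbrev zd21 := D3.c21
abbrev zd22 := D3.c22
abbrev zd23 := D3.c23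
abbrev zd24 := D3.c24
abbrev zd25 := D3.c25
abbrev zd26 := D3.c26
abbrev zd27 := D3.c27
abbrev zd28 := D3.c28
abbrev zd29 := D3.c29
abbrev zd30 := D3.c30
abbrev zd31 := D3.c31
abbrev zd32 := D3.c32
abbrev zd33 := D3.c33
abbrev zd34 := D3.c34
abbrev zd35 := D3.c35
abbrev zd36 := D3.c36
abbrev zd37 := D3.c37
abbrev zd38 := D3.c38
abbrev zd39 := D3.c39
abbrev zd40 := D3.c40
abbrev zd41 := D3.c41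
abbrev zd42 := D3.c42
abbrev zd43 := D3.c43
abbrev zd44 := D3.c44
abbrev zd45 := D3.c45
abbrev zd46 := D3.c46
abbrev zd47 := D3.c47
abbrev zd48 := D3.c48
abbrev zd49 := D3.c49
abbrev zd50 := D3.c50
abbrev zd51 := D3.c51
abbrev zd52 := D3.c52
abbrev zd53 := D3.c53
abbrev zd54 := D3.c54
abbrev zd55 := D3.c55
abbrev zd56 := D3.c56
abbrev zd57 := D3.c57
abbrev zd58 := D3.c58
abbrev zd59 := D3.c59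
abbrev zd60 := D3.c60
abbrev zd61 := D3.c61
def f_d_0 : D2 → D3 → Pt := @D2.rec (fun _ => D3 → Pt) (@D3.rec (fun _ => Pt) (kd xd0 yd0 zd0) (kd xd0 yd0 zd4) (kd xd0 yd0 zd10) (kd xd0 yd0 zd14) (kd xd0 yd0 zd1) (kd xd0 yd0 zd20) (kd xd0 yd0 zd6) (kd xd0 yd0 zd7) (kd xd0 yd0 zd25) (kd xd0 yd0 zd30) (kd xd0 yd0 zd2) (kd xd0 yd0 zd38) (kd xd0 yd0 zd12) (kd xd0 yd0 zd43) (kd xd0 yd0 zd3) (kd xd0 yd0 zd49) (kd xd0 yd0 zd16) (kd xd0 yd0 zd53) (kd xd0 yd0 zd55) (kd xd0 yd0 zd56) (kd xd0 yd0 zd5) (kd xd0 yd0 zd60) (kd xd0 yd1 zd1) (kd xd0 yd1 zd3) (kd xd0 yd1 zd5) (kd xd0 yd0 zd8) (kd xd0 yd1 zd11) (kd xd0 yd1 zd13) (kd xd0 yd1 zd15) (kd xd0 yd1 zd16) (kd xd0 yd0 zd9) (kd xd0 yd1 zd24) (kd xd0 yd0 zd32) (kd xd0 yd0 zd33) (kd xd0 yd1 zd33) (kd xd0 yd1 zd36) (kd xd0 yd1 zd39) (kd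 xd0 yd1 zd41) (kd xd0 yd0 zd11) (kd xd0 yd1 zd45) (kd xd0 yd0 zd40) (kd xd0 yd0 zd41) (kd xd0 yd1 zd46) (kd xd0 yd0 zd13) (kd xd0 yd1 zd53) (kd xd0 yd0 zd45) (kd xd0 yd1 zd57) (kd xd0 yd1 zd60) (kd xd0 yd1 zd61) (kd xd0 yd0 zd15) (kd xd0 yd2 zd3) (kd xd0 yd0 zd57) (kd xd0 yd0 zd58) (kd xd0 yd0 zd17) (kd xd0 yd2 zd5) (kd xd0 yd0 zd18) (kd xd0 yd0 zd19) (kd xd0 yd0 zd51) (kd xd0 yd0 zd52) (kd xd0 yd2 zd16) (kd xd0 yd0 zd21) (kd xd0 yd2 zd20)) (@D3.rec (fun _ => Pt) (kd xd0 yd2 zd25) (kd xd0 yd0 zd22) (kd xd0 yd2 zd31) (kd xd0 yd0 zd23) (kd xd0 yd2 zd34) (kd xd0 yd0 zd24) (kd xd0 yd2 zd40) (kd xd0 yd2 zd43) (kd xd0 yd2 zd46) (kd xd0 yd2 zd49) (kd xd0 yd2 zd51) (kd xd0 yd0 zd26) (kd xd0 yd2 zd55) (kd xd0 yd0 zd27) (kd xd0 yd2 zd59) (kd xd0 yd0 zd28) (kd xd0 yd0 zd29) (kd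 xd0 yd3 zd4) (kd xd0 yd1 zd30) (kd xd0 yd1 zd31) (kd xd0 yd3 zd14) (kd xd0 yd3 zd18) (kd xd0 yd3 zd20) (kd xd0 yd3 zd23) (kd xd0 yd0 zd31) (kd xd0 yd3 zd27) (kd xd0 yd3 zd0) (kd xd0 yd1 zd42) (kd xd0 yd3 zd1) (kd xd0 yd2 zd52) (kd xd0 yd1 zd18) (kd xd0 yd1 zd19) (kd xd0 yd2 zd27) (kd xd0 yd0 zd34) (kd xd0 yd3 zd40) (kd xd0 yd2 zd53) (kd xd0 yd0 zd35) (kd xd0 yd3 zd44) (kd xd0 yd3 zd47) (kd xd0 yd0 zd36) (kd xd0 yd3 zd52) (kd xd0 yd0 zd37) (kd xd0 yd1 zd27) (kd xd0 yd2 zd45) (kd xd0 yd3 zd61) (kd xd0 yd0 zd39) (kd xd0 yd0 zd42) (kd xd0 yd4 zd3) (kd xd0 yd1 zd48) (kd xd0 yd1 zd49) (kd xd0 yd4 zd8) (kd xd0 yd4 zd10) (kd xd0 yd4 zd11) (kd xd0 yd0 zd44) (kd xd0 yd4 zd15) (kd xd0 yd2 zd0) (kd xd0 yd2 zd1) (kd xd0 yd0 zd46) (kd xd0 yd4 zd18) (kd xd0 yd4 zd19) (kd xd0 yd0 zd47)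 (kd xd0 yd0 zd48)) (@D3.rec (fun _ => Pt) (kd xd0 yd1 zd55) (kd xd0 yd1 zd56) (kd xd0 yd4 zd27) (kd xd0 yd0 zd50) (kd xd0 yd4 zd31) (kd xd0 yd0 zd54) (kd xd0 yd4 zd36) (kd xd0 yd2 zd9) (kd xd0 yd4 zd42) (kd xd0 yd2 zd7) (kd xd0 yd4 zd46) (kd xd0 yd4 zd48) (kd xd0 yd2 zd12) (kd xd0 yd4 zd52) (kd xd0 yd4 zd54) (kd xd0 yd4 zd59) (kd xd0 yd0 zd59) (kd xd0 yd5 zd3) (kd xd0 yd2 zd18) (kd xd0 yd5 zd5) (kd xd0 yd0 zd61) (kd xd0 yd5 zd9) (kd xd0 yd5 zd10) (kd xd0 yd5 zd12) (kd xd0 yd5 zd14) (kd xd0 yd1 zd0) (kd xd0 yd3 zd28) (kd xd0 yd1 zd32) (kd xd0 yd2 zd32) (kd xd0 yd2 zd29) (kd xd0 yd5 zd29) (kd xd0 yd1 zd2) (kd xd0 yd2 zd28) (kd xd0 yd2 zd33) (kd xd0 yd1 zd4) (kd xd0 yd5 zd44) (kd xd0 yd3 zd37) (kd xd0 yd5 zd50) (kd xd0 yd5 zd53) (kd xd0 yd5 zd54) (kd xd0 yd1 zd6) (kd xd0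 yd5 zd58) (kd xd0 yd5 zd30) (kd xd0 yd1 zd7) (kd xd0 yd6 zd2) (kd xd0 yd1 zd43) (kd xd0 yd1 zd8) (kd xd0 yd3 zd48) (kd xd0 yd6 zd6) (kd xd0 yd1 zd9) (kd xd0 yd6 zd10) (kd xd0 yd1 zd10) (kd xd0 yd1 zd29) (kd xd0 yd1 zd35) (kd xd0 yd6 zd19) (kd xd0 yd1 zd12) (kd xd0 yd2 zd60) (kd xd0 yd2 zd57) (kd xd0 yd6 zd27) (kd xd0 yd1 zd14) (kd xd0 yd2 zd56) (kd xd0 yd2 zd61)) (@D3.rec (fun _ => Pt) (kd xd0 yd1 zd26) (kd xd0 yd1 zd28) (kd xd0 yd5 zd20) (kd xd0 yd6 zd43) (kd xd0 yd1 zd17) (kd xd0 yd6 zd48) (kd xd0 yd3 zd9) (kd xd0 yd6 zd53) (kd xd0 yd3 zd34) (kd xd0 yd3 zd6) (kd xd0 yd6 zd60) (kd xd0 yd3 zd12) (kd xd0 yd3 zd11) (kd xd0 yd7 zd7) (kd xd0 yd1 zd20) (kd xd0 yd7 zd12) (kd xd0 yd7 zd15) (kd xd0 yd7 zd19) (kd xd0 yd1 zd21) (kd xd0 yd7 zd24) (kd xd0 yd1 zd22) (kd xd0 yd7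 zd29) (kd xd0 yd7 zd30) (kd xd0 yd1 zd23) (kd xd0 yd3 zd33) (kd xd0 yd6 zd1) (kd xd0 yd7 zd40) (kd xd0 yd1 zd25) (kd xd0 yd2 zd26) (kd xd0 yd6 zd36) (kd xd0 yd6 zd45) (kd xd0 yd5 zd38) (kd xd0 yd7 zd51) (kd xd0 yd3 zd24) (kd xd0 yd3 zd8) (kd xd0 yd5 zd55) (kd xd0 yd7 zd54) (kd xd0 yd2 zd36) (kd xd0 yd7 zd59) (kd xd0 yd5 zd56) (kd xd0 yd1 zd34) (kd xd0 yd8 zd0) (kd xd0 yd8 zd2) (kd xd0 yd8 zd6) (kd xd0 yd1 zd37) (kd xd0 yd8 zd10) (kd xd0 yd8 zd13) (kd xd0 yd1 zd38) (kd xd0 yd2 zd47) (kd xd0 yd8 zd22) (kd xd0 yd6 zd12) (kd xd0 yd8 zd27) (kd xd0 yd1 zd40) (kd xd0 yd8 zd31) (kd xd0 yd6 zd8) (kd xd0 yd8 zd36) (kd xd0 yd8 zd38) (kd xd0 yd3 zd57) (kd xd0 yd8 zd43) (kd xd0 yd8 zd46) (kd xd0 yd8 zd51) (kd xd0 yd1 zd44)) (@D3.rec (fun _ => Pt) (kd xd0 yd8 zd57) (kd xd0 yd4 zd1)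 (kd xd0 yd8 zd59) (kd xd0 yd1 zd47) (kd xd0 yd9 zd0) (kd xd0 yd4 zd12) (kd xd0 yd4 zd24) (kd xd0 yd8 zd45) (kd xd0 yd1 zd50) (kd xd0 yd9 zd1) (kd xd0 yd1 zd51) (kd xd0 yd1 zd52) (kd xd0 yd4 zd5) (kd xd0 yd4 zd16) (kd xd0 yd9 zd9) (kd xd0 yd1 zd54) (kd xd0 yd4 zd13) (kd xd0 yd9 zd13) (kd xd0 yd1 zd58) (kd xd0 yd1 zd59) (kd xd0 yd4 zd61) (kd xd0 yd4 zd23) (kd xd0 yd5 zd0) (kd xd0 yd4 zd21) (kd xd0 yd4 zd6) (kd xd0 yd4 zd25) (kd xd0 yd9 zd28) (kd xd0 yd2 zd2) (kd xd0 yd5 zd1) (kd xd0 yd4 zd29) (kd xd0 yd9 zd35) (kd xd0 yd2 zd4) (kd xd0 yd9 zd39) (kd xd0 yd4 zd33) (kd xd0 yd9 zd37) (kd xd0 yd9 zd46) (kd xd0 yd2 zd6) (kd xd0 yd9 zd51) (kd xd0 yd4 zd39) (kd xd0 yd4 zd38) (kd xd0 yd4 zd44) (kd xd0 yd9 zd59) (kd xd0 yd2 zd8) (kd xd0 yd10 zd0) (kd xd0 yd4 zd40) (kd xd0 yd10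 zd5) (kd xd0 yd2 zd10) (kd xd0 yd10 zd10) (kd xd0 yd2 zd11) (kd xd0 yd10 zd14) (kd xd0 yd4 zd50) (kd xd0 yd10 zd18) (kd xd0 yd2 zd13) (kd xd0 yd10 zd24) (kd xd0 yd2 zd14) (kd xd0 yd10 zd13) (kd xd0 yd10 zd31) (kd xd0 yd10 zd35) (kd xd0 yd10 zd37) (kd xd0 yd2 zd15) (kd xd0 yd10 zd42) (kd xd0 yd4 zd20)) (@D3.rec (fun _ => Pt) (kd xd0 yd4 zd22) (kd xd0 yd4 zd28) (kd xd0 yd9 zd38) (kd xd0 yd2 zd17) (kd xd0 yd10 zd55) (kd xd0 yd2 zd19) (kd xd0 yd10 zd59) (kd xd0 yd5 zd22) (kd xd0 yd11 zd2) (kd xd0 yd2 zd21) (kd xd0 yd2 zd22) (kd xd0 yd11 zd7) (kd xd0 yd2 zd23) (kd xd0 yd11 zd11) (kd xd0 yd2 zd24) (kd xd0 yd7 zd44) (kd xd0 yd7 zd45) (kd xd0 yd11 zd21) (kd xd0 yd5 zd18) (kd xd0 yd5 zd60) (kd xd0 yd3 zd2) (kd xd0 yd11 zd31) (kd xd0 yd5 zd7) (kd xd0 yd11 zd37) (kd xd0 yd5 zd33)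 (kd xd0 yd11 zd45) (kd xd0 yd11 zd49) (kd xd0 yd11 zd52) (kd xd0 yd5 zd28) (kd xd0 yd2 zd30) (kd xd0 yd2 zd42) (kd xd0 yd11 zd58) (kd xd0 yd5 zd32) (kd xd0 yd5 zd24) (kd xd0 yd12 zd6) (kd xd0 yd12 zd9) (kd xd0 yd12 zd13) (kd xd0 yd5 zd37) (kd xd0 yd3 zd31) (kd xd0 yd5 zd59) (kd xd0 yd12 zd22) (kd xd0 yd12 zd26) (kd xd0 yd12 zd28) (kd xd0 yd12 zd29) (kd xd0 yd2 zd35) (kd xd0 yd12 zd33) (kd xd0 yd7 zd55) (kd xd0 yd12 zd40) (kd xd0 yd12 zd44) (kd xd0 yd12 zd47) (kd xd0 yd2 zd37) (kd xd0 yd12 zd52) (kd xd0 yd12 zd53) (kd xd0 yd2 zd38) (kd xd0 yd2 zd39) (kd xd0 yd3 zd35) (kd xd0 yd3 zd39) (kd xd0 yd13 zd3) (kd xd0 yd2 zd41) (kd xd0 yd5 zd39) (kd xd0 yd5 zd19) (kd xd0 yd13 zd9)) (@D3.rec (fun _ => Pt) (kd xd0 yd13 zd13) (kd xd0 yd3 zd25) (kd xd0 yd2 zd44) (kd xd0 yd7 zd25)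 (kd xd0 yd6 zd46) (kd xd0 yd13 zd18) (kd xd0 yd2 zd48) (kd xd0 yd13 zd26) (kd xd0 yd3 zd54) (kd xd0 yd13 zd30) (kd xd0 yd2 zd50) (kd xd0 yd13 zd34) (kd xd0 yd3 zd50) (kd xd0 yd13 zd38) (kd xd0 yd13 zd40) (kd xd0 yd6 zd15) (kd xd0 yd13 zd43) (kd xd0 yd13 zd44) (kd xd0 yd13 zd49) (kd xd0 yd2 zd54) (kd xd0 yd13 zd55) (kd xd0 yd6 zd21) (kd xd0 yd6 zd31) (kd xd0 yd13 zd60) (kd xd0 yd14 zd1) (kd xd0 yd14 zd3) (kd xd0 yd6 zd26) (kd xd0 yd2 zd58) (kd xd0 yd14 zd6) (kd xd0 yd7 zd52) (kd xd0 yd6 zd30) (kd xd0 yd6 zd22) (kd xd0 yd14 zd12) (kd xd0 yd14 zd14) (kd xd0 yd14 zd16) (kd xd0 yd6 zd35) (kd xd0 yd3 zd29) (kd xd0 yd14 zd21) (kd xd0 yd14 zd25) (kd xd0 yd11 zd27) (kd xd0 yd14 zd31) (kd xd0 yd14 zd34) (kd xd0 yd14 zd37) (kd xd0 yd3 zd3) (kd xd0 yd14 zd42) (kd xd0 yd3 zd30)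 (kd xd0 yd6 zd4) (kd xd0 yd14 zd47) (kd xd0 yd3 zd5) (kd xd0 yd6 zd56) (kd xd0 yd14 zd56) (kd xd0 yd14 zd60) (kd xd0 yd15 zd0) (kd xd0 yd3 zd7) (kd xd0 yd15 zd5) (kd xd0 yd15 zd8) (kd xd0 yd6 zd49) (kd xd0 yd15 zd13) (kd xd0 yd15 zd16) (kd xd0 yd15 zd19) (kd xd0 yd3 zd10) (kd xd0 yd15 zd24)) (@D3.rec (fun _ => Pt) (kd xd0 yd7 zd2) (kd xd0 yd15 zd29) (kd xd0 yd7 zd0) (kd xd0 yd15 zd35) (kd xd0 yd12 zd34) (kd xd0 yd12 zd35) (kd xd0 yd15 zd42) (kd xd0 yd3 zd13) (kd xd0 yd15 zd50) (kd xd0 yd15 zd54) (kd xd0 yd15 zd57) (kd xd0 yd15 zd60) (kd xd0 yd3 zd15) (kd xd0 yd16 zd3) (kd xd0 yd16 zd5) (kd xd0 yd3 zd16) (kd xd0 yd16 zd12) (kd xd0 yd16 zd15) (kd xd0 yd16 zd18) (kd xd0 yd3 zd17) (kd xd0 yd16 zd22) (kd xd0 yd16 zd24) (kd xd0 yd16 zd28) (kd xd0 yd16 zd33) (kd xd0 yd3 zd19)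 (kd xd0 yd6 zd3) (kd xd0 yd16 zd42) (kd xd0 yd12 zd57) (kd xd0 yd16 zd47) (kd xd0 yd3 zd21) (kd xd0 yd3 zd22) (kd xd0 yd16 zd53) (kd xd0 yd12 zd55) (kd xd0 yd16 zd58) (kd xd0 yd13 zd15) (kd xd0 yd17 zd0) (kd xd0 yd7 zd36) (kd xd0 yd17 zd6) (kd xd0 yd17 zd9) (kd xd0 yd17 zd14) (kd xd0 yd3 zd26) (kd xd0 yd13 zd53) (kd xd0 yd7 zd42) (kd xd0 yd13 zd20) (kd xd0 yd5 zd15) (kd xd0 yd5 zd16) (kd xd0 yd11 zd5) (kd xd0 yd14 zd43) (kd xd0 yd13 zd19) (kd xd0 yd12 zd30) (kd xd0 yd8 zd14) (kd xd0 yd3 zd32) (kd xd0 yd6 zd29) (kd xd0 yd12 zd58) (kd xd0 yd3 zd36) (kd xd0 yd5 zd46) (kd xd0 yd17 zd36) (kd xd0 yd17 zd39) (kd xd0 yd17 zd43) (kd xd0 yd3 zd38) (kd xd0 yd17 zd48) (kd xd0 yd17 zd50)) (@D3.rec (fun _ => Pt) (kd xd0 yd3 zd41) (kd xd0 yd17 zd55) (kd xd0 yd3 zd42) (kd xd0 yd8 zd53)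 (kd xd0 yd8 zd54) (kd xd0 yd18 zd2) (kd xd0 yd3 zd43) (kd xd0 yd18 zd6) (kd xd0 yd8 zd8) (kd xd0 yd18 zd8) (kd xd0 yd3 zd45) (kd xd0 yd18 zd11) (kd xd0 yd18 zd12) (kd xd0 yd3 zd46) (kd xd0 yd7 zd50) (kd xd0 yd17 zd16) (kd xd0 yd13 zd32) (kd xd0 yd18 zd26) (kd xd0 yd8 zd18) (kd xd0 yd18 zd29) (kd xd0 yd18 zd32) (kd xd0 yd18 zd36) (kd xd0 yd3 zd49) (kd xd0 yd18 zd42) (kd xd0 yd13 zd28) (kd xd0 yd9 zd53) (kd xd0 yd13 zd36) (kd xd0 yd3 zd51) (kd xd0 yd17 zd17) (kd xd0 yd13 zd22) (kd xd0 yd18 zd57) (kd xd0 yd3 zd53) (kd xd0 yd19 zd0) (kd xd0 yd13 zd29) (kd xd0 yd18 zd38) (kd xd0 yd19 zd6) (kd xd0 yd3 zd55) (kd xd0 yd19 zd13) (kd xd0 yd3 zd56) (kd xd0 yd19 zd14) (kd xd0 yd8 zd40) (kd xd0 yd8 zd41) (kd xd0 yd19 zd22) (kd xd0 yd3 zd58) (kd xd0 yd19 zd27) (kd xd0 yd4 zd7) (kd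 xd0 yd3 zd59) (kd xd0 yd19 zd31) (kd xd0 yd19 zd36) (kd xd0 yd19 zd40) (kd xd0 yd19 zd42) (kd xd0 yd3 zd60) (kd xd0 yd19 zd47) (kd xd0 yd8 zd3) (kd xd0 yd8 zd4) (kd xd0 yd13 zd4) (kd xd0 yd18 zd5) (kd xd0 yd4 zd0) (kd xd0 yd19 zd61) (kd xd0 yd4 zd2) (kd xd0 yd9 zd2) (kd xd0 yd20 zd1)) (@D3.rec (fun _ => Pt) (kd xd0 yd4 zd4) (kd xd0 yd4 zd9) (kd xd0 yd8 zd60) (kd xd0 yd13 zd51) (kd xd0 yd16 zd51) (kd xd0 yd13 zd52) (kd xd0 yd9 zd15) (kd xd0 yd9 zd7) (kd xd0 yd20 zd17) (kd xd0 yd4 zd14) (kd xd0 yd20 zd21) (kd xd0 yd9 zd11) (kd xd0 yd20 zd26) (kd xd0 yd4 zd17) (kd xd0 yd9 zd14) (kd xd0 yd9 zd6) (kd xd0 yd10 zd44) (kd xd0 yd20 zd35) (kd xd0 yd9 zd19) (kd xd0 yd9 zd18) (kd xd0 yd9 zd23) (kd xd0 yd10 zd46) (kd xd0 yd20 zd41) (kd xd0 yd9 zd20) (kd xd0 yd9 zd24) (kd xd0 yd20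 zd46) (kd xd0 yd20 zd50) (kd xd0 yd20 zd52) (kd xd0 yd4 zd26) (kd xd0 yd10 zd48) (kd xd0 yd20 zd27) (kd xd0 yd20 zd61) (kd xd0 yd10 zd38) (kd xd0 yd10 zd39) (kd xd0 yd21 zd9) (kd xd0 yd4 zd30) (kd xd0 yd21 zd14) (kd xd0 yd4 zd34) (kd xd0 yd5 zd2) (kd xd0 yd4 zd32) (kd xd0 yd21 zd22) (kd xd0 yd21 zd16) (kd xd0 yd21 zd28) (kd xd0 yd21 zd31) (kd xd0 yd21 zd35) (kd xd0 yd21 zd36) (kd xd0 yd4 zd35) (kd xd0 yd21 zd44) (kd xd0 yd21 zd48) (kd xd0 yd10 zd26) (kd xd0 yd21 zd52) (kd xd0 yd4 zd37) (kd xd0 yd21 zd54) (kd xd0 yd8 zd25) (kd xd0 yd10 zd12) (kd xd0 yd21 zd58) (kd xd0 yd21 zd61) (kd xd0 yd22 zd2) (kd xd0 yd22 zd4) (kd xd0 yd4 zd41) (kd xd0 yd22 zd11) (kd xd0 yd22 zd15)) (@D3.rec (fun _ => Pt) (kd xd0 yd4 zd43) (kd xd0 yd22 zd18) (kd xd0 yd21 zd38) (kd xd0 yd21 zd39)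 (kd xd0 yd22 zd24) (kd xd0 yd4 zd45) (kd xd0 yd10 zd6) (kd xd0 yd22 zd6) (kd xd0 yd22 zd7) (kd xd0 yd22 zd33) (kd xd0 yd4 zd47) (kd xd0 yd22 zd39) (kd xd0 yd9 zd54) (kd xd0 yd4 zd55) (kd xd0 yd4 zd49) (kd xd0 yd22 zd43) (kd xd0 yd22 zd47) (kd xd0 yd22 zd48) (kd xd0 yd4 zd51) (kd xd0 yd10 zd19) (kd xd0 yd22 zd57) (kd xd0 yd22 zd60) (kd xd0 yd23 zd1) (kd xd0 yd23 zd5) (kd xd0 yd4 zd53) (kd xd0 yd22 zd41) (kd xd0 yd9 zd49) (kd xd0 yd23 zd13) (kd xd0 yd21 zd11) (kd xd0 yd23 zd20) (kd xd0 yd23 zd25) (kd xd0 yd4 zd56) (kd xd0 yd21 zd10) (kd xd0 yd23 zd31) (kd xd0 yd23 zd34) (kd xd0 yd4 zd57) (kd xd0 yd22 zd38) (kd xd0 yd4 zd58) (kd xd0 yd9 zd32) (kd xd0 yd9 zd33) (kd xd0 yd23 zd52) (kd xd0 yd21 zd13) (kd xd0 yd4 zd60) (kd xd0 yd23 zd61) (kd xd0 yd9 zd16) (kd xd0 yd22 zd13)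 (kd xd0 yd9 zd21) (kd xd0 yd24 zd10) (kd xd0 yd9 zd29) (kd xd0 yd24 zd18) (kd xd0 yd24 zd22) (kd xd0 yd24 zd23) (kd xd0 yd21 zd20) (kd xd0 yd24 zd28) (kd xd0 yd22 zd40) (kd xd0 yd5 zd4) (kd xd0 yd24 zd32) (kd xd0 yd24 zd35) (kd xd0 yd24 zd37) (kd xd0 yd5 zd6) (kd xd0 yd11 zd33) (kd xd0 yd24 zd44)) (@D3.rec (fun _ => Pt) (kd xd0 yd24 zd46) (kd xd0 yd24 zd49) (kd xd0 yd5 zd8) (kd xd0 yd24 zd54) (kd xd0 yd24 zd56) (kd xd0 yd7 zd46) (kd xd0 yd24 zd59) (kd xd0 yd5 zd11) (kd xd0 yd13 zd58) (kd xd0 yd25 zd3) (kd xd0 yd25 zd5) (kd xd0 yd5 zd13) (kd xd0 yd25 zd8) (kd xd0 yd25 zd10) (kd xd0 yd11 zd14) (kd xd0 yd25 zd17) (kd xd0 yd14 zd52) (kd xd0 yd25 zd22) (kd xd0 yd15 zd40) (kd xd0 yd25 zd25) (kd xd0 yd11 zd39) (kd xd0 yd5 zd17) (kd xd0 yd25 zd31) (kd xd0 yd25 zd34) (kd xd0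 yd25 zd37) (kd xd0 yd11 zd25) (kd xd0 yd25 zd41) (kd xd0 yd6 zd39) (kd xd0 yd25 zd47) (kd xd0 yd25 zd50) (kd xd0 yd25 zd52) (kd xd0 yd5 zd21) (kd xd0 yd25 zd57) (kd xd0 yd10 zd60) (kd xd0 yd26 zd2) (kd xd0 yd26 zd4) (kd xd0 yd26 zd6) (kd xd0 yd5 zd23) (kd xd0 yd26 zd11) (kd xd0 yd11 zd20) (kd xd0 yd15 zd31) (kd xd0 yd12 zd2) (kd xd0 yd26 zd20) (kd xd0 yd26 zd23) (kd xd0 yd26 zd26) (kd xd0 yd5 zd25) (kd xd0 yd26 zd31) (kd xd0 yd26 zd33) (kd xd0 yd26 zd36) (kd xd0 yd5 zd26) (kd xd0 yd26 zd42) (kd xd0 yd26 zd45) (kd xd0 yd5 zd27) (kd xd0 yd26 zd49) (kd xd0 yd13 zd57) (kd xd0 yd11 zd55) (kd xd0 yd26 zd54) (kd xd0 yd26 zd59) (kd xd0 yd5 zd31) (kd xd0 yd27 zd1) (kd xd0 yd27 zd3) (kd xd0 yd11 zd61)) (@D3.rec (fun _ => Pt) (kd xd0 yd15 zd25) (kd xd0 yd15 zd26) (kd xd0 yd11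 zd41) (kd xd0 yd27 zd11) (kd xd0 yd27 zd14) (kd xd0 yd27 zd17) (kd xd0 yd5 zd34) (kd xd0 yd27 zd22) (kd xd0 yd27 zd24) (kd xd0 yd5 zd35) (kd xd0 yd27 zd30) (kd xd0 yd27 zd33) (kd xd0 yd27 zd36) (kd xd0 yd5 zd36) (kd xd0 yd27 zd40) (kd xd0 yd14 zd50) (kd xd0 yd27 zd44) (kd xd0 yd14 zd51) (kd xd0 yd27 zd49) (kd xd0 yd27 zd51) (kd xd0 yd27 zd54) (kd xd0 yd27 zd58) (kd xd0 yd5 zd40) (kd xd0 yd28 zd1) (kd xd0 yd28 zd4) (kd xd0 yd28 zd7) (kd xd0 yd5 zd41) (kd xd0 yd28 zd12) (kd xd0 yd5 zd42) (kd xd0 yd5 zd43) (kd xd0 yd7 zd49) (kd xd0 yd28 zd19) (kd xd0 yd28 zd24) (kd xd0 yd5 zd45) (kd xd0 yd7 zd4) (kd xd0 yd7 zd5) (kd xd0 yd17 zd32) (kd xd0 yd28 zd33) (kd xd0 yd28 zd36) (kd xd0 yd28 zd39) (kd xd0 yd5 zd47) (kd xd0 yd28 zd44) (kd xd0 yd28 zd45) (kd xd0 yd28 zd47) (kd xd0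 yd5 zd48) (kd xd0 yd17 zd46) (kd xd0 yd28 zd56) (kd xd0 yd5 zd49) (kd xd0 yd28 zd59) (kd xd0 yd29 zd0) (kd xd0 yd17 zd40) (kd xd0 yd29 zd7) (kd xd0 yd5 zd51) (kd xd0 yd5 zd52) (kd xd0 yd29 zd13) (kd xd0 yd7 zd32) (kd xd0 yd29 zd19) (kd xd0 yd7 zd27) (kd xd0 yd7 zd53) (kd xd0 yd29 zd26) (kd xd0 yd29 zd28) (kd xd0 yd12 zd61)) (@D3.rec (fun _ => Pt) (kd xd0 yd29 zd34) (kd xd0 yd29 zd37) (kd xd0 yd29 zd42) (kd xd0 yd5 zd57) (kd xd0 yd8 zd55) (kd xd0 yd13 zd5) (kd xd0 yd24 zd38) (kd xd0 yd18 zd46) (kd xd0 yd14 zd44) (kd xd0 yd5 zd61) (kd xd0 yd16 zd36) (kd xd0 yd29 zd52) (kd xd0 yd29 zd53) (kd xd0 yd6 zd0) (kd xd0 yd29 zd56) (kd xd0 yd7 zd34) (kd xd0 yd29 zd58) (kd xd0 yd30 zd0) (kd xd0 yd6 zd5) (kd xd0 yd7 zd48) (kd xd0 yd7 zd43) (kd xd0 yd29 zd44) (kd xd0 yd8 zd29) (kd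 xd0 yd19 zd8) (kd xd0 yd19 zd7) (kd xd0 yd30 zd13) (kd xd0 yd6 zd7) (kd xd0 yd30 zd18) (kd xd0 yd8 zd24) (kd xd0 yd8 zd33) (kd xd0 yd6 zd9) (kd xd0 yd29 zd45) (kd xd0 yd8 zd16) (kd xd0 yd30 zd33) (kd xd0 yd6 zd11) (kd xd0 yd30 zd36) (kd xd0 yd8 zd26) (kd xd0 yd30 zd41) (kd xd0 yd6 zd13) (kd xd0 yd30 zd46) (kd xd0 yd6 zd14) (kd xd0 yd30 zd49) (kd xd0 yd30 zd53) (kd xd0 yd6 zd16) (kd xd0 yd6 zd17) (kd xd0 yd30 zd56) (kd xd0 yd30 zd61) (kd xd0 yd31 zd3) (kd xd0 yd31 zd5) (kd xd0 yd6 zd18) (kd xd0 yd31 zd10) (kd xd0 yd9 zd3) (kd xd0 yd9 zd5) (kd xd0 yd7 zd41) (kd xd0 yd30 zd2) (kd xd0 yd6 zd20) (kd xd0 yd31 zd23) (kd xd0 yd11 zd54) (kd xd0 yd11 zd8) (kd xd0 yd31 zd29) (kd xd0 yd6 zd23) (kd xd0 yd31 zd34)) (@D3.rec (fun _ => Pt) (kd xd0 yd31 zd36) (kd xd0 yd6 zd24) (kd xd0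 yd15 zd22) (kd xd0 yd6 zd25) (kd xd0 yd28 zd49) (kd xd0 yd31 zd43) (kd xd0 yd6 zd28) (kd xd0 yd31 zd45) (kd xd0 yd31 zd47) (kd xd0 yd31 zd49) (kd xd0 yd14 zd10) (kd xd0 yd31 zd51) (kd xd0 yd6 zd32) (kd xd0 yd31 zd56) (kd xd0 yd6 zd33) (kd xd0 yd15 zd3) (kd xd0 yd6 zd34) (kd xd0 yd16 zd7) (kd xd0 yd32 zd2) (kd xd0 yd32 zd4) (kd xd0 yd32 zd5) (kd xd0 yd6 zd37) (kd xd0 yd32 zd8) (kd xd0 yd32 zd9) (kd xd0 yd32 zd10) (kd xd0 yd6 zd38) (kd xd0 yd32 zd13) (kd xd0 yd24 zd40) (kd xd0 yd24 zd41) (kd xd0 yd25 zd45) (kd xd0 yd32 zd22) (kd xd0 yd6 zd40) (kd xd0 yd32 zd27) (kd xd0 yd32 zd28) (kd xd0 yd6 zd41) (kd xd0 yd25 zd55) (kd xd0 yd32 zd35) (kd xd0 yd6 zd42) (kd xd0 yd26 zd38) (kd xd0 yd26 zd48) (kd xd0 yd25 zd51) (kd xd0 yd32 zd43) (kd xd0 yd6 zd44) (kd xd0 yd7 zd47) (kd xd0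 yd13 zd8) (kd xd0 yd14 zd45) (kd xd0 yd32 zd54) (kd xd0 yd6 zd47) (kd xd0 yd32 zd57) (kd xd0 yd14 zd49) (kd xd0 yd12 zd15) (kd xd0 yd12 zd17) (kd xd0 yd11 zd16) (kd xd0 yd33 zd6) (kd xd0 yd33 zd9) (kd xd0 yd33 zd11) (kd xd0 yd6 zd50) (kd xd0 yd33 zd16) (kd xd0 yd33 zd18) (kd xd0 yd33 zd20) (kd xd0 yd6 zd51) (kd xd0 yd33 zd25)) (@D3.rec (fun _ => Pt) (kd xd0 yd6 zd52) (kd xd0 yd33 zd28) (kd xd0 yd31 zd40) (kd xd0 yd14 zd15) (kd xd0 yd33 zd37) (kd xd0 yd6 zd54) (kd xd0 yd33 zd39) (kd xd0 yd33 zd41) (kd xd0 yd6 zd55) (kd xd0 yd33 zd46) (kd xd0 yd33 zd49) (kd xd0 yd33 zd52) (kd xd0 yd33 zd54) (kd xd0 yd6 zd57) (kd xd0 yd33 zd59) (kd xd0 yd33 zd61) (kd xd0 yd6 zd58) (kd xd0 yd34 zd4) (kd xd0 yd34 zd7) (kd xd0 yd6 zd59) (kd xd0 yd34 zd10) (kd xd0 yd31 zd59) (kd xd0 yd14 zd2)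 (kd xd0 yd34 zd19) (kd xd0 yd6 zd61) (kd xd0 yd12 zd0) (kd xd0 yd12 zd1) (kd xd0 yd15 zd32) (kd xd0 yd34 zd29) (kd xd0 yd7 zd1) (kd xd0 yd34 zd34) (kd xd0 yd11 zd40) (kd xd0 yd15 zd27) (kd xd0 yd32 zd61) (kd xd0 yd34 zd44) (kd xd0 yd7 zd3) (kd xd0 yd34 zd49) (kd xd0 yd28 zd27) (kd xd0 yd15 zd46) (kd xd0 yd34 zd53) (kd xd0 yd11 zd18) (kd xd0 yd34 zd57) (kd xd0 yd7 zd6) (kd xd0 yd35 zd0) (kd xd0 yd17 zd30) (kd xd0 yd17 zd31) (kd xd0 yd15 zd38) (kd xd0 yd35 zd8) (kd xd0 yd35 zd12) (kd xd0 yd35 zd16) (kd xd0 yd7 zd8) (kd xd0 yd35 zd21) (kd xd0 yd35 zd23) (kd xd0 yd35 zd26) (kd xd0 yd7 zd9) (kd xd0 yd35 zd31) (kd xd0 yd35 zd34) (kd xd0 yd7 zd10) (kd xd0 yd35 zd29) (kd xd0 yd35 zd45) (kd xd0 yd7 zd11) (kd xd0 yd35 zd49)) (@D3.rec (fun _ => Pt) (kd xd0 yd35 zd53) (kd xd0 yd35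 zd24) (kd xd0 yd35 zd61) (kd xd0 yd7 zd13) (kd xd0 yd36 zd4) (kd xd0 yd7 zd14) (kd xd0 yd36 zd11) (kd xd0 yd14 zd17) (kd xd0 yd31 zd42) (kd xd0 yd36 zd19) (kd xd0 yd36 zd23) (kd xd0 yd33 zd33) (kd xd0 yd7 zd16) (kd xd0 yd17 zd45) (kd xd0 yd36 zd25) (kd xd0 yd7 zd17) (kd xd0 yd36 zd30) (kd xd0 yd36 zd32) (kd xd0 yd7 zd18) (kd xd0 yd36 zd36) (kd xd0 yd36 zd39) (kd xd0 yd28 zd54) (kd xd0 yd7 zd20) (kd xd0 yd36 zd42) (kd xd0 yd7 zd21) (kd xd0 yd36 zd47) (kd xd0 yd36 zd50) (kd xd0 yd36 zd53) (kd xd0 yd7 zd22) (kd xd0 yd36 zd57) (kd xd0 yd36 zd60) (kd xd0 yd37 zd1) (kd xd0 yd37 zd6) (kd xd0 yd7 zd23) (kd xd0 yd37 zd12) (kd xd0 yd16 zd35) (kd xd0 yd13 zd10) (kd xd0 yd18 zd4) (kd xd0 yd16 zd38) (kd xd0 yd37 zd21) (kd xd0 yd37 zd24) (kd xd0 yd37 zd28) (kd xd0 yd7 zd26) (kd xd0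 yd37 zd33) (kd xd0 yd37 zd37) (kd xd0 yd37 zd39) (kd xd0 yd29 zd23) (kd xd0 yd7 zd28) (kd xd0 yd17 zd27) (kd xd0 yd17 zd28) (kd xd0 yd29 zd11) (kd xd0 yd9 zd4) (kd xd0 yd37 zd49) (kd xd0 yd7 zd31) (kd xd0 yd36 zd56) (kd xd0 yd33 zd31) (kd xd0 yd29 zd17) (kd xd0 yd37 zd57) (kd xd0 yd7 zd33) (kd xd0 yd38 zd0) (kd xd0 yd16 zd60) (kd xd0 yd38 zd8)) (@D3.rec (fun _ => Pt) (kd xd0 yd7 zd35) (kd xd0 yd38 zd13) (kd xd0 yd36 zd22) (kd xd0 yd36 zd21) (kd xd0 yd17 zd4) (kd xd0 yd38 zd22) (kd xd0 yd7 zd37) (kd xd0 yd38 zd25) (kd xd0 yd38 zd31) (kd xd0 yd7 zd38) (kd xd0 yd38 zd34) (kd xd0 yd38 zd40) (kd xd0 yd38 zd45) (kd xd0 yd38 zd47) (kd xd0 yd7 zd39) (kd xd0 yd31 zd16) (kd xd0 yd8 zd15) (kd xd0 yd8 zd28) (kd xd0 yd37 zd11) (kd xd0 yd39 zd0) (kd xd0 yd39 zd2) (kd xd0 yd39 zd3)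 (kd xd0 yd30 zd21) (kd xd0 yd18 zd14) (kd xd0 yd24 zd61) (kd xd0 yd30 zd22) (kd xd0 yd18 zd17) (kd xd0 yd16 zd48) (kd xd0 yd16 zd49) (kd xd0 yd37 zd58) (kd xd0 yd15 zd44) (kd xd0 yd15 zd45) (kd xd0 yd12 zd36) (kd xd0 yd39 zd11) (kd xd0 yd39 zd14) (kd xd0 yd39 zd17) (kd xd0 yd7 zd56) (kd xd0 yd39 zd22) (kd xd0 yd39 zd24) (kd xd0 yd7 zd57) (kd xd0 yd12 zd50) (kd xd0 yd39 zd28) (kd xd0 yd39 zd31) (kd xd0 yd7 zd58) (kd xd0 yd33 zd21) (kd xd0 yd16 zd13) (kd xd0 yd12 zd45) (kd xd0 yd39 zd41) (kd xd0 yd7 zd60) (kd xd0 yd39 zd47) (kd xd0 yd7 zd61) (kd xd0 yd30 zd1) (kd xd0 yd17 zd52) (kd xd0 yd18 zd13) (kd xd0 yd25 zd6) (kd xd0 yd8 zd1) (kd xd0 yd17 zd56) (kd xd0 yd19 zd49) (kd xd0 yd40 zd0) (kd xd0 yd19 zd51) (kd xd0 yd40 zd6) (kd xd0 yd19 zd43)) (@D3.rec (fun _ => Pt) (kd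 xd0 yd19 zd44) (kd xd0 yd40 zd16) (kd xd0 yd8 zd5) (kd xd0 yd40 zd21) (kd xd0 yd16 zd37) (kd xd0 yd8 zd56) (kd xd0 yd8 zd7) (kd xd0 yd40 zd29) (kd xd0 yd8 zd9) (kd xd0 yd20 zd19) (kd xd0 yd18 zd10) (kd xd0 yd8 zd11) (kd xd0 yd8 zd12) (kd xd0 yd17 zd53) (kd xd0 yd17 zd23) (kd xd0 yd40 zd46) (kd xd0 yd30 zd24) (kd xd0 yd17 zd26) (kd xd0 yd37 zd59) (kd xd0 yd18 zd19) (kd xd0 yd38 zd53) (kd xd0 yd40 zd61) (kd xd0 yd41 zd3) (kd xd0 yd41 zd6) (kd xd0 yd30 zd29) (kd xd0 yd41 zd11) (kd xd0 yd8 zd17) (kd xd0 yd41 zd14) (kd xd0 yd41 zd18) (kd xd0 yd8 zd19) (kd xd0 yd41 zd21) (kd xd0 yd41 zd25) (kd xd0 yd8 zd20) (kd xd0 yd41 zd29) (kd xd0 yd41 zd33) (kd xd0 yd41 zd34) (kd xd0 yd8 zd21) (kd xd0 yd41 zd42) (kd xd0 yd8 zd34) (kd xd0 yd41 zd48) (kd xd0 yd41 zd51) (kd xd0 yd41 zd53)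 (kd xd0 yd8 zd23) (kd xd0 yd41 zd56) (kd xd0 yd41 zd59) (kd xd0 yd41 zd61) (kd xd0 yd13 zd7) (kd xd0 yd42 zd2) (kd xd0 yd28 zd14) (kd xd0 yd38 zd55) (kd xd0 yd42 zd10) (kd xd0 yd42 zd13) (kd xd0 yd42 zd16) (kd xd0 yd30 zd8) (kd xd0 yd42 zd20) (kd xd0 yd42 zd23) (kd xd0 yd42 zd25) (kd xd0 yd8 zd30) (kd xd0 yd42 zd33) (kd xd0 yd42 zd37) (kd xd0 yd42 zd40) (kd xd0 yd42 zd42)) (@D3.rec (fun _ => Pt) (kd xd0 yd8 zd32) (kd xd0 yd42 zd44) (kd xd0 yd41 zd44) (kd xd0 yd41 zd36) (kd xd0 yd41 zd37) (kd xd0 yd42 zd53) (kd xd0 yd8 zd35) (kd xd0 yd13 zd24) (kd xd0 yd13 zd23) (kd xd0 yd19 zd9) (kd xd0 yd42 zd27) (kd xd0 yd42 zd28) (kd xd0 yd30 zd48) (kd xd0 yd8 zd37) (kd xd0 yd8 zd39) (kd xd0 yd43 zd8) (kd xd0 yd43 zd9) (kd xd0 yd43 zd13) (kd xd0 yd43 zd15) (kd xd0 yd43 zd17) (kd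 xd0 yd43 zd20) (kd xd0 yd43 zd21) (kd xd0 yd8 zd42) (kd xd0 yd19 zd23) (kd xd0 yd43 zd30) (kd xd0 yd43 zd32) (kd xd0 yd43 zd34) (kd xd0 yd8 zd44) (kd xd0 yd31 zd4) (kd xd0 yd19 zd29) (kd xd0 yd31 zd1) (kd xd0 yd8 zd47) (kd xd0 yd43 zd45) (kd xd0 yd40 zd18) (kd xd0 yd43 zd50) (kd xd0 yd43 zd54) (kd xd0 yd8 zd48) (kd xd0 yd40 zd17) (kd xd0 yd43 zd61) (kd xd0 yd44 zd1) (kd xd0 yd8 zd49) (kd xd0 yd44 zd6) (kd xd0 yd8 zd50) (kd xd0 yd17 zd61) (kd xd0 yd18 zd0) (kd xd0 yd44 zd20) (kd xd0 yd40 zd20) (kd xd0 yd8 zd52) (kd xd0 yd44 zd29) (kd xd0 yd17 zd57) (kd xd0 yd44 zd35) (kd xd0 yd17 zd59) (kd xd0 yd44 zd42) (kd xd0 yd29 zd43) (kd xd0 yd44 zd50) (kd xd0 yd44 zd54) (kd xd0 yd44 zd58) (kd xd0 yd40 zd27) (kd xd0 yd45 zd1) (kd xd0 yd45 zd3) (kd xd0 yd45 zd5) (kd xd0 yd8 zd58))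 (@D3.rec (fun _ => Pt) (kd xd0 yd45 zd11) (kd xd0 yd8 zd61) (kd xd0 yd20 zd2) (kd xd0 yd20 zd3) (kd xd0 yd20 zd4) (kd xd0 yd31 zd12) (kd xd0 yd45 zd17) (kd xd0 yd20 zd29) (kd xd0 yd20 zd28) (kd xd0 yd37 zd46) (kd xd0 yd31 zd14) (kd xd0 yd20 zd30) (kd xd0 yd20 zd12) (kd xd0 yd20 zd13) (kd xd0 yd45 zd22) (kd xd0 yd45 zd24) (kd xd0 yd45 zd26) (kd xd0 yd9 zd8) (kd xd0 yd45 zd31) (kd xd0 yd18 zd9) (kd xd0 yd41 zd26) (kd xd0 yd9 zd10) (kd xd0 yd41 zd54) (kd xd0 yd20 zd53) (kd xd0 yd20 zd54) (kd xd0 yd45 zd45) (kd xd0 yd9 zd12) (kd xd0 yd9 zd30) (kd xd0 yd20 zd8) (kd xd0 yd20 zd7) (kd xd0 yd20 zd11) (kd xd0 yd23 zd7) (kd xd0 yd23 zd8) (kd xd0 yd24 zd0) (kd xd0 yd45 zd59) (kd xd0 yd9 zd17) (kd xd0 yd24 zd30) (kd xd0 yd22 zd49) (kd xd0 yd22 zd50) (kd xd0 yd24 zd6) (kd xd0 yd46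 zd5) (kd xd0 yd9 zd22) (kd xd0 yd24 zd14) (kd xd0 yd45 zd47) (kd xd0 yd46 zd9) (kd xd0 yd46 zd12) (kd xd0 yd9 zd25) (kd xd0 yd45 zd46) (kd xd0 yd46 zd20) (kd xd0 yd46 zd22) (kd xd0 yd9 zd26) (kd xd0 yd23 zd12) (kd xd0 yd9 zd27) (kd xd0 yd20 zd23) (kd xd0 yd20 zd24) (kd xd0 yd46 zd37) (kd xd0 yd45 zd49) (kd xd0 yd46 zd44) (kd xd0 yd46 zd46) (kd xd0 yd46 zd47) (kd xd0 yd45 zd52) (kd xd0 yd9 zd31)) (@D3.rec (fun _ => Pt) (kd xd0 yd46 zd51) (kd xd0 yd23 zd39) (kd xd0 yd23 zd43) (kd xd0 yd47 zd2) (kd xd0 yd47 zd6) (kd xd0 yd23 zd40) (kd xd0 yd23 zd46) (kd xd0 yd47 zd11) (kd xd0 yd47 zd13) (kd xd0 yd9 zd34) (kd xd0 yd10 zd32) (kd xd0 yd10 zd28) (kd xd0 yd47 zd25) (kd xd0 yd10 zd41) (kd xd0 yd9 zd36) (kd xd0 yd47 zd33) (kd xd0 yd9 zd41) (kd xd0 yd24 zd25) (kd xd0 yd47 zd41)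 (kd xd0 yd47 zd45) (kd xd0 yd10 zd52) (kd xd0 yd24 zd17) (kd xd0 yd9 zd40) (kd xd0 yd24 zd12) (kd xd0 yd24 zd13) (kd xd0 yd47 zd34) (kd xd0 yd42 zd60) (kd xd0 yd47 zd55) (kd xd0 yd9 zd42) (kd xd0 yd47 zd58) (kd xd0 yd47 zd61) (kd xd0 yd9 zd43) (kd xd0 yd48 zd4) (kd xd0 yd48 zd7) (kd xd0 yd48 zd8) (kd xd0 yd9 zd44) (kd xd0 yd9 zd45) (kd xd0 yd48 zd15) (kd xd0 yd10 zd2) (kd xd0 yd10 zd3) (kd xd0 yd48 zd25) (kd xd0 yd48 zd29) (kd xd0 yd47 zd18) (kd xd0 yd48 zd35) (kd xd0 yd9 zd47) (kd xd0 yd48 zd38) (kd xd0 yd48 zd40) (kd xd0 yd48 zd42) (kd xd0 yd9 zd48) (kd xd0 yd24 zd9) (kd xd0 yd23 zd10) (kd xd0 yd48 zd49) (kd xd0 yd9 zd50) (kd xd0 yd22 zd27) (kd xd0 yd9 zd52) (kd xd0 yd48 zd54) (kd xd0 yd22 zd36) (kd xd0 yd48 zd57) (kd xd0 yd9 zd55) (kd xd0 yd48 zd60) (kd xd0 yd49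 zd0) (kd xd0 yd9 zd56)) (@D3.rec (fun _ => Pt) (kd xd0 yd49 zd5) (kd xd0 yd49 zd7) (kd xd0 yd9 zd57) (kd xd0 yd49 zd11) (kd xd0 yd9 zd58) (kd xd0 yd49 zd14) (kd xd0 yd10 zd7) (kd xd0 yd10 zd8) (kd xd0 yd49 zd23) (kd xd0 yd49 zd27) (kd xd0 yd48 zd36) (kd xd0 yd9 zd60) (kd xd0 yd49 zd33) (kd xd0 yd10 zd45) (kd xd0 yd24 zd5) (kd xd0 yd9 zd61) (kd xd0 yd49 zd39) (kd xd0 yd48 zd51) (kd xd0 yd10 zd1) (kd xd0 yd48 zd17) (kd xd0 yd49 zd44) (kd xd0 yd49 zd46) (kd xd0 yd48 zd20) (kd xd0 yd49 zd48) (kd xd0 yd10 zd4) (kd xd0 yd49 zd53) (kd xd0 yd22 zd26) (kd xd0 yd21 zd53) (kd xd0 yd22 zd28) (kd xd0 yd49 zd15) (kd xd0 yd49 zd61) (kd xd0 yd49 zd18) (kd xd0 yd50 zd0) (kd xd0 yd10 zd9) (kd xd0 yd23 zd38) (kd xd0 yd50 zd5) (kd xd0 yd21 zd56) (kd xd0 yd23 zd29) (kd xd0 yd10 zd36) (kd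 xd0 yd10 zd11) (kd xd0 yd10 zd54) (kd xd0 yd10 zd25) (kd xd0 yd50 zd16) (kd xd0 yd10 zd15) (kd xd0 yd50 zd20) (kd xd0 yd50 zd22) (kd xd0 yd50 zd23) (kd xd0 yd10 zd16) (kd xd0 yd10 zd17) (kd xd0 yd20 zd37) (kd xd0 yd20 zd38) (kd xd0 yd50 zd35) (kd xd0 yd22 zd52) (kd xd0 yd50 zd41) (kd xd0 yd45 zd61) (kd xd0 yd22 zd55) (kd xd0 yd50 zd47) (kd xd0 yd10 zd20) (kd xd0 yd50 zd51) (kd xd0 yd50 zd53) (kd xd0 yd10 zd21) (kd xd0 yd50 zd58)) (@D3.rec (fun _ => Pt) (kd xd0 yd50 zd59) (kd xd0 yd10 zd22) (kd xd0 yd46 zd26) (kd xd0 yd51 zd2) (kd xd0 yd51 zd4) (kd xd0 yd10 zd23) (kd xd0 yd51 zd12) (kd xd0 yd20 zd31) (kd xd0 yd20 zd32) (kd xd0 yd51 zd20) (kd xd0 yd21 zd50) (kd xd0 yd46 zd16) (kd xd0 yd20 zd51) (kd xd0 yd10 zd27) (kd xd0 yd51 zd30) (kd xd0 yd47 zd19) (kd xd0 yd51 zd31)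 (kd xd0 yd51 zd32) (kd xd0 yd51 zd33) (kd xd0 yd51 zd35) (kd xd0 yd10 zd29) (kd xd0 yd47 zd16) (kd xd0 yd51 zd40) (kd xd0 yd51 zd42) (kd xd0 yd51 zd43) (kd xd0 yd10 zd30) (kd xd0 yd51 zd49) (kd xd0 yd51 zd54) (kd xd0 yd23 zd28) (kd xd0 yd22 zd37) (kd xd0 yd51 zd58) (kd xd0 yd10 zd33) (kd xd0 yd50 zd11) (kd xd0 yd52 zd0) (kd xd0 yd10 zd34) (kd xd0 yd52 zd6) (kd xd0 yd52 zd8) (kd xd0 yd48 zd13) (kd xd0 yd22 zd34) (kd xd0 yd21 zd1) (kd xd0 yd21 zd5) (kd xd0 yd52 zd20) (kd xd0 yd47 zd15) (kd xd0 yd21 zd2) (kd xd0 yd52 zd31) (kd xd0 yd49 zd25) (kd xd0 yd21 zd6) (kd xd0 yd52 zd40) (kd xd0 yd52 zd43) (kd xd0 yd52 zd47) (kd xd0 yd52 zd51) (kd xd0 yd52 zd55) (kd xd0 yd10 zd40) (kd xd0 yd53 zd2) (kd xd0 yd52 zd61) (kd xd0 yd53 zd7) (kd xd0 yd53 zd11) (kd xd0 yd47 zd30) (kd xd0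 yd53 zd16) (kd xd0 yd50 zd7) (kd xd0 yd50 zd8) (kd xd0 yd10 zd43)) (@D3.rec (fun _ => Pt) (kd xd0 yd20 zd33) (kd xd0 yd53 zd27) (kd xd0 yd49 zd34) (kd xd0 yd53 zd33) (kd xd0 yd53 zd34) (kd xd0 yd22 zd14) (kd xd0 yd20 zd39) (kd xd0 yd53 zd40) (kd xd0 yd53 zd44) (kd xd0 yd21 zd49) (kd xd0 yd10 zd47) (kd xd0 yd53 zd50) (kd xd0 yd21 zd23) (kd xd0 yd21 zd24) (kd xd0 yd20 zd42) (kd xd0 yd53 zd59) (kd xd0 yd47 zd47) (kd xd0 yd21 zd21) (kd xd0 yd10 zd49) (kd xd0 yd54 zd3) (kd xd0 yd54 zd7) (kd xd0 yd47 zd38) (kd xd0 yd10 zd50) (kd xd0 yd10 zd51) (kd xd0 yd54 zd8) (kd xd0 yd21 zd17) (kd xd0 yd46 zd50) (kd xd0 yd54 zd0) (kd xd0 yd10 zd53) (kd xd0 yd50 zd13) (kd xd0 yd20 zd36) (kd xd0 yd46 zd49) (kd xd0 yd10 zd56) (kd xd0 yd54 zd23) (kd xd0 yd54 zd26) (kd xd0 yd10 zd57) (kd xd0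 yd54 zd30) (kd xd0 yd10 zd58) (kd xd0 yd13 zd6) (kd xd0 yd54 zd36) (kd xd0 yd14 zd27) (kd xd0 yd14 zd28) (kd xd0 yd25 zd60) (kd xd0 yd54 zd43) (kd xd0 yd10 zd61) (kd xd0 yd54 zd48) (kd xd0 yd11 zd0) (kd xd0 yd26 zd9) (kd xd0 yd54 zd52) (kd xd0 yd11 zd1) (kd xd0 yd27 zd26) (kd xd0 yd27 zd39) (kd xd0 yd26 zd5) (kd xd0 yd54 zd59) (kd xd0 yd11 zd3) (kd xd0 yd55 zd2) (kd xd0 yd11 zd4) (kd xd0 yd55 zd5) (kd xd0 yd55 zd7) (kd xd0 yd11 zd6) (kd xd0 yd55 zd11) (kd xd0 yd17 zd24)) (@D3.rec (fun _ => Pt) (kd xd0 yd55 zd13) (kd xd0 yd55 zd14) (kd xd0 yd55 zd16) (kd xd0 yd11 zd9) (kd xd0 yd55 zd20) (kd xd0 yd11 zd10) (kd xd0 yd17 zd54) (kd xd0 yd55 zd25) (kd xd0 yd11 zd12) (kd xd0 yd27 zd56) (kd xd0 yd11 zd13) (kd xd0 yd55 zd30) (kd xd0 yd55 zd32) (kd xd0 yd55 zd34) (kd xd0 yd25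 zd14) (kd xd0 yd55 zd37) (kd xd0 yd55 zd40) (kd xd0 yd11 zd15) (kd xd0 yd55 zd45) (kd xd0 yd55 zd48) (kd xd0 yd55 zd51) (kd xd0 yd55 zd54) (kd xd0 yd11 zd17) (kd xd0 yd55 zd59) (kd xd0 yd55 zd60) (kd xd0 yd11 zd19) (kd xd0 yd56 zd1) (kd xd0 yd56 zd4) (kd xd0 yd56 zd8) (kd xd0 yd56 zd11) (kd xd0 yd56 zd14) (kd xd0 yd11 zd22) (kd xd0 yd56 zd19) (kd xd0 yd56 zd20) (kd xd0 yd11 zd23) (kd xd0 yd56 zd26) (kd xd0 yd56 zd29) (kd xd0 yd11 zd24) (kd xd0 yd56 zd33) (kd xd0 yd56 zd35) (kd xd0 yd56 zd37) (kd xd0 yd11 zd26) (kd xd0 yd56 zd42) (kd xd0 yd25 zd58) (kd xd0 yd25 zd59) (kd xd0 yd14 zd29) (kd xd0 yd56 zd50) (kd xd0 yd11 zd28) (kd xd0 yd56 zd55) (kd xd0 yd56 zd56) (kd xd0 yd11 zd29) (kd xd0 yd14 zd40) (kd xd0 yd11 zd30) (kd xd0 yd57 zd1) (kd xd0 yd54 zd51) (kd xd0 yd14 zd35)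 (kd xd0 yd57 zd7) (kd xd0 yd11 zd32) (kd xd0 yd25 zd43) (kd xd0 yd25 zd44) (kd xd0 yd24 zd42) (kd xd0 yd57 zd16)) (@D3.rec (fun _ => Pt) (kd xd0 yd57 zd19) (kd xd0 yd57 zd21) (kd xd0 yd11 zd34) (kd xd0 yd57 zd25) (kd xd0 yd11 zd35) (kd xd0 yd24 zd52) (kd xd0 yd11 zd36) (kd xd0 yd57 zd31) (kd xd0 yd32 zd33) (kd xd0 yd24 zd47) (kd xd0 yd57 zd34) (kd xd0 yd11 zd38) (kd xd0 yd26 zd56) (kd xd0 yd57 zd40) (kd xd0 yd34 zd35) (kd xd0 yd26 zd57) (kd xd0 yd57 zd45) (kd xd0 yd57 zd49) (kd xd0 yd57 zd53) (kd xd0 yd57 zd57) (kd xd0 yd11 zd42) (kd xd0 yd58 zd0) (kd xd0 yd58 zd4) (kd xd0 yd11 zd43) (kd xd0 yd34 zd47) (kd xd0 yd58 zd13) (kd xd0 yd11 zd44) (kd xd0 yd58 zd17) (kd xd0 yd31 zd38) (kd xd0 yd31 zd41) (kd xd0 yd58 zd28) (kd xd0 yd11 zd46) (kd xd0 yd26 zd32) (kd xd0 yd11 zd47)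 (kd xd0 yd58 zd36) (kd xd0 yd58 zd40) (kd xd0 yd11 zd48) (kd xd0 yd33 zd14) (kd xd0 yd14 zd38) (kd xd0 yd31 zd53) (kd xd0 yd56 zd59) (kd xd0 yd58 zd51) (kd xd0 yd11 zd50) (kd xd0 yd32 zd7) (kd xd0 yd58 zd54) (kd xd0 yd11 zd51) (kd xd0 yd36 zd6) (kd xd0 yd31 zd54) (kd xd0 yd14 zd39) (kd xd0 yd11 zd53) (kd xd0 yd32 zd30) (kd xd0 yd31 zd24) (kd xd0 yd59 zd1) (kd xd0 yd59 zd2) (kd xd0 yd11 zd56) (kd xd0 yd59 zd5) (kd xd0 yd26 zd12) (kd xd0 yd26 zd15) (kd xd0 yd59 zd6) (kd xd0 yd11 zd57) (kd xd0 yd59 zd14) (kd xd0 yd59 zd17)) (@D3.rec (fun _ => Pt) (kd xd0 yd59 zd19) (kd xd0 yd11 zd59) (kd xd0 yd59 zd24) (kd xd0 yd11 zd60) (kd xd0 yd36 zd13) (kd xd0 yd59 zd29) (kd xd0 yd34 zd23) (kd xd0 yd59 zd34) (kd xd0 yd59 zd38) (kd xd0 yd59 zd40) (kd xd0 yd59 zd44) (kd xd0 yd12 zd3)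 (kd xd0 yd59 zd49) (kd xd0 yd59 zd52) (kd xd0 yd12 zd4) (kd xd0 yd34 zd32) (kd xd1 yd0 zd0) (kd xd0 yd12 zd5) (kd xd0 yd35 zd36) (kd xd0 yd31 zd57) (kd xd0 yd31 zd60) (kd xd0 yd58 zd29) (kd xd0 yd12 zd7) (kd xd1 yd0 zd18) (kd xd0 yd12 zd8) (kd xd0 yd33 zd57) (kd xd0 yd24 zd50) (kd xd0 yd31 zd31) (kd xd0 yd57 zd27) (kd xd1 yd0 zd29) (kd xd0 yd12 zd10) (kd xd0 yd32 zd12) (kd xd1 yd0 zd30) (kd xd0 yd12 zd11) (kd xd1 yd0 zd34) (kd xd1 yd0 zd38) (kd xd0 yd12 zd12) (kd xd1 yd0 zd42) (kd xd0 yd31 zd32) (kd xd0 yd24 zd51) (kd xd0 yd12 zd14) (kd xd0 yd42 zd17) (kd xd1 yd0 zd47) (kd xd1 yd0 zd50) (kd xd0 yd12 zd16) (kd xd1 yd0 zd53) (kd xd0 yd33 zd1) (kd xd1 yd0 zd56) (kd xd1 yd0 zd59) (kd xd0 yd12 zd18) (kd xd1 yd1 zd0) (kd xd0 yd12 zd19) (kd xd1 yd1 zd2) (kd xd0 yd35 zd4) (kd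 xd0 yd12 zd20) (kd xd1 yd1 zd6) (kd xd0 yd25 zd9) (kd xd0 yd39 zd5) (kd xd0 yd12 zd21) (kd xd1 yd1 zd12) (kd xd1 yd1 zd15) (kd xd1 yd1 zd17)) (@D3.rec (fun _ => Pt) (kd xd1 yd1 zd20) (kd xd0 yd12 zd23) (kd xd1 yd1 zd25) (kd xd1 yd1 zd27) (kd xd0 yd12 zd24) (kd xd0 yd56 zd40) (kd xd1 yd1 zd35) (kd xd0 yd12 zd25) (kd xd0 yd58 zd31) (kd xd0 yd59 zd26) (kd xd0 yd56 zd36) (kd xd1 yd1 zd45) (kd xd0 yd12 zd27) (kd xd1 yd1 zd51) (kd xd0 yd18 zd48) (kd xd1 yd1 zd56) (kd xd0 yd54 zd32) (kd xd1 yd1 zd61) (kd xd1 yd2 zd1) (kd xd0 yd12 zd31) (kd xd0 yd28 zd20) (kd xd1 yd2 zd6) (kd xd1 yd2 zd9) (kd xd1 yd2 zd14) (kd xd0 yd12 zd32) (kd xd1 yd2 zd19) (kd xd0 yd28 zd26) (kd xd0 yd15 zd37) (kd xd1 yd2 zd25) (kd xd1 yd2 zd28) (kd xd1 yd2 zd31) (kd xd1 yd2 zd34) (kd xd1 yd2 zd36) (kd xd0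 yd12 zd37) (kd xd1 yd2 zd41) (kd xd1 yd2 zd42) (kd xd0 yd12 zd38) (kd xd0 yd39 zd20) (kd xd1 yd2 zd50) (kd xd0 yd12 zd39) (kd xd0 yd59 zd54) (kd xd1 yd0 zd4) (kd xd0 yd39 zd15) (kd xd1 yd3 zd1) (kd xd0 yd12 zd41) (kd xd0 yd12 zd42) (kd xd0 yd39 zd35) (kd xd0 yd12 zd43) (kd xd0 yd56 zd53) (kd xd0 yd14 zd4) (kd xd0 yd31 zd61) (kd xd1 yd3 zd16) (kd xd0 yd39 zd37) (kd xd0 yd34 zd15) (kd xd0 yd16 zd21) (kd xd1 yd3 zd21) (kd xd0 yd12 zd46) (kd xd0 yd58 zd42) (kd xd1 yd3 zd26) (kd xd0 yd12 zd48) (kd xd1 yd3 zd28) (kd xd1 yd3 zd30)) (@D3.rec (fun _ => Pt) (kd xd0 yd12 zd49) (kd xd0 yd39 zd52) (kd xd1 yd3 zd35) (kd xd0 yd39 zd27) (kd xd1 yd3 zd40) (kd xd1 yd3 zd43) (kd xd1 yd3 zd48) (kd xd0 yd12 zd51) (kd xd1 yd3 zd54) (kd xd0 yd29 zd9) (kd xd1 yd3 zd56) (kd xd0 yd16 zd50) (kd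 xd1 yd3 zd60) (kd xd0 yd12 zd54) (kd xd1 yd4 zd1) (kd xd1 yd4 zd3) (kd xd1 yd4 zd5) (kd xd0 yd16 zd56) (kd xd1 yd4 zd10) (kd xd0 yd12 zd56) (kd xd1 yd4 zd12) (kd xd1 yd3 zd37) (kd xd0 yd34 zd12) (kd xd0 yd16 zd46) (kd xd0 yd36 zd51) (kd xd1 yd4 zd18) (kd xd0 yd12 zd59) (kd xd1 yd4 zd23) (kd xd0 yd12 zd60) (kd xd1 yd4 zd28) (kd xd1 yd3 zd19) (kd xd1 yd3 zd18) (kd xd0 yd29 zd32) (kd xd1 yd4 zd35) (kd xd0 yd13 zd0) (kd xd1 yd4 zd38) (kd xd1 yd4 zd44) (kd xd0 yd13 zd1) (kd xd1 yd4 zd47) (kd xd1 yd4 zd53) (kd xd1 yd4 zd58) (kd xd1 yd4 zd60) (kd xd0 yd13 zd2) (kd xd0 yd19 zd53) (kd xd0 yd13 zd21) (kd xd0 yd13 zd31) (kd xd1 yd3 zd53) (kd xd1 yd5 zd13) (kd xd1 yd5 zd16) (kd xd1 yd5 zd18) (kd xd1 yd5 zd21) (kd xd0 yd33 zd45) (kd xd0 yd13 zd11) (kd xd0 yd13 zd12) (kd xd0 yd34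 zd0) (kd xd1 yd5 zd24) (kd xd0 yd13 zd14) (kd xd1 yd5 zd28) (kd xd0 yd13 zd16) (kd xd0 yd31 zd6) (kd xd0 yd31 zd7) (kd xd1 yd5 zd35)) (@D3.rec (fun _ => Pt) (kd xd0 yd13 zd17) (kd xd0 yd17 zd51) (kd xd0 yd13 zd54) (kd xd0 yd30 zd3) (kd xd1 yd5 zd4) (kd xd1 yd5 zd51) (kd xd1 yd5 zd53) (kd xd1 yd5 zd56) (kd xd0 yd18 zd53) (kd xd0 yd42 zd58) (kd xd0 yd43 zd6) (kd xd0 yd43 zd7) (kd xd1 yd6 zd1) (kd xd0 yd13 zd25) (kd xd1 yd6 zd9) (kd xd1 yd6 zd13) (kd xd1 yd6 zd15) (kd xd1 yd6 zd17) (kd xd0 yd13 zd27) (kd xd1 yd6 zd19) (kd xd1 yd6 zd21) (kd xd0 yd17 zd22) (kd xd0 yd17 zd25) (kd xd1 yd6 zd24) (kd xd0 yd18 zd16) (kd xd1 yd5 zd6) (kd xd1 yd6 zd33) (kd xd1 yd6 zd35) (kd xd1 yd6 zd36) (kd xd0 yd18 zd24) (kd xd0 yd42 zd54) (kd xd0 yd42 zd55) (kd xd1 yd6 zd42) (kd xd0 yd13 zd33)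 (kd xd1 yd6 zd49) (kd xd1 yd6 zd53) (kd xd0 yd13 zd35) (kd xd1 yd6 zd56) (kd xd1 yd6 zd3) (kd xd1 yd6 zd4) (kd xd1 yd6 zd59) (kd xd0 yd13 zd37) (kd xd0 yd30 zd42) (kd xd1 yd6 zd44) (kd xd1 yd6 zd45) (kd xd1 yd7 zd6) (kd xd0 yd13 zd39) (kd xd1 yd7 zd7) (kd xd0 yd19 zd12) (kd xd0 yd13 zd41) (kd xd1 yd7 zd12) (kd xd1 yd7 zd15) (kd xd1 yd7 zd16) (kd xd0 yd13 zd42) (kd xd0 yd30 zd54) (kd xd0 yd43 zd60) (kd xd0 yd13 zd45) (kd xd1 yd7 zd27) (kd xd1 yd5 zd37) (kd xd1 yd7 zd31) (kd xd1 yd7 zd33) (kd xd0 yd13 zd46)) (@D3.rec (fun _ => Pt) (kd xd1 yd5 zd36) (kd xd0 yd19 zd30) (kd xd1 yd7 zd38) (kd xd0 yd13 zd47) (kd xd0 yd19 zd28) (kd xd0 yd13 zd48) (kd xd0 yd29 zd59) (kd xd0 yd29 zd60) (kd xd1 yd7 zd55) (kd xd1 yd5 zd39) (kd xd0 yd13 zd50) (kd xd1 yd8 zd2) (kd xd0 yd20 zd5) (kd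 xd1 yd8 zd8) (kd xd0 yd20 zd10) (kd xd1 yd8 zd15) (kd xd0 yd17 zd15) (kd xd1 yd8 zd23) (kd xd1 yd8 zd27) (kd xd0 yd44 zd55) (kd xd1 yd5 zd44) (kd xd1 yd8 zd34) (kd xd1 yd8 zd35) (kd xd0 yd13 zd56) (kd xd0 yd26 zd51) (kd xd1 yd8 zd41) (kd xd1 yd8 zd45) (kd xd1 yd8 zd49) (kd xd1 yd8 zd53) (kd xd0 yd13 zd59) (kd xd1 yd8 zd58) (kd xd0 yd27 zd27) (kd xd0 yd27 zd38) (kd xd1 yd9 zd2) (kd xd0 yd13 zd61) (kd xd1 yd9 zd5) (kd xd0 yd14 zd0) (kd xd0 yd34 zd13) (kd xd0 yd26 zd28) (kd xd0 yd33 zd22) (kd xd0 yd15 zd2) (kd xd0 yd26 zd29) (kd xd0 yd16 zd8) (kd xd0 yd14 zd5) (kd xd1 yd3 zd57) (kd xd0 yd14 zd7) (kd xd1 yd9 zd14) (kd xd0 yd14 zd8) (kd xd0 yd33 zd44) (kd xd0 yd14 zd9) (kd xd0 yd36 zd27) (kd xd0 yd14 zd11) (kd xd1 yd9 zd21) (kd xd0 yd26 zd39) (kd xd0 yd26 zd47) (kd xd1 yd9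 zd3) (kd xd0 yd14 zd13) (kd xd0 yd27 zd19) (kd xd0 yd34 zd1) (kd xd0 yd15 zd21) (kd xd0 yd27 zd20) (kd xd0 yd28 zd50)) (@D3.rec (fun _ => Pt) (kd xd1 yd9 zd30) (kd xd1 yd9 zd31) (kd xd0 yd14 zd18) (kd xd1 yd9 zd35) (kd xd0 yd14 zd19) (kd xd0 yd14 zd20) (kd xd0 yd56 zd58) (kd xd0 yd26 zd43) (kd xd0 yd14 zd22) (kd xd0 yd14 zd23) (kd xd0 yd14 zd24) (kd xd0 yd57 zd26) (kd xd0 yd27 zd31) (kd xd0 yd14 zd26) (kd xd0 yd32 zd17) (kd xd0 yd59 zd8) (kd xd1 yd9 zd43) (kd xd0 yd32 zd14) (kd xd1 yd9 zd47) (kd xd1 yd9 zd51) (kd xd1 yd9 zd55) (kd xd1 yd9 zd59) (kd xd0 yd14 zd30) (kd xd1 yd10 zd2) (kd xd0 yd58 zd58) (kd xd0 yd39 zd25) (kd xd1 yd10 zd8) (kd xd0 yd14 zd32) (kd xd0 yd14 zd33) (kd xd0 yd55 zd43) (kd xd0 yd26 zd50) (kd xd0 yd37 zd8) (kd xd0 yd57 zd5) (kd xd0 yd26 zd8) (kd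 xd1 yd10 zd21) (kd xd0 yd14 zd36) (kd xd0 yd58 zd48) (kd xd0 yd37 zd9) (kd xd0 yd56 zd32) (kd xd0 yd40 zd55) (kd xd0 yd56 zd57) (kd xd0 yd56 zd61) (kd xd1 yd10 zd36) (kd xd0 yd14 zd41) (kd xd1 yd10 zd40) (kd xd0 yd32 zd45) (kd xd1 yd10 zd42) (kd xd0 yd32 zd47) (kd xd1 yd10 zd20) (kd xd0 yd41 zd4) (kd xd0 yd32 zd50) (kd xd1 yd10 zd50) (kd xd1 yd10 zd55) (kd xd1 yd10 zd57) (kd xd0 yd14 zd46) (kd xd1 yd11 zd0) (kd xd1 yd10 zd39) (kd xd0 yd14 zd48) (kd xd1 yd11 zd6) (kd xd1 yd11 zd8) (kd xd1 yd11 zd10) (kd xd0 yd15 zd33)) (@D3.rec (fun _ => Pt) (kd xd1 yd11 zd13) (kd xd0 yd27 zd46) (kd xd1 yd11 zd15) (kd xd1 yd11 zd18) (kd xd1 yd11 zd22) (kd xd1 yd11 zd26) (kd xd0 yd14 zd53) (kd xd1 yd11 zd31) (kd xd1 yd11 zd32) (kd xd0 yd14 zd54) (kd xd1 yd11 zd39) (kd xd0 yd14 zd55) (kd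 xd1 yd11 zd43) (kd xd1 yd0 zd24) (kd xd0 yd26 zd37) (kd xd1 yd11 zd53) (kd xd0 yd14 zd57) (kd xd1 yd11 zd57) (kd xd0 yd14 zd58) (kd xd1 yd11 zd61) (kd xd0 yd14 zd59) (kd xd0 yd17 zd44) (kd xd0 yd31 zd39) (kd xd1 yd12 zd10) (kd xd1 yd12 zd11) (kd xd0 yd14 zd61) (kd xd1 yd12 zd15) (kd xd1 yd12 zd17) (kd xd0 yd15 zd1) (kd xd1 yd9 zd9) (kd xd1 yd12 zd22) (kd xd0 yd16 zd55) (kd xd1 yd12 zd25) (kd xd0 yd16 zd11) (kd xd1 yd12 zd28) (kd xd1 yd12 zd31) (kd xd1 yd12 zd36) (kd xd0 yd15 zd4) (kd xd1 yd12 zd42) (kd xd0 yd15 zd6) (kd xd1 yd12 zd44) (kd xd0 yd15 zd7) (kd xd1 yd12 zd45) (kd xd1 yd9 zd16) (kd xd0 yd31 zd48) (kd xd0 yd29 zd51) (kd xd0 yd15 zd9) (kd xd1 yd12 zd49) (kd xd1 yd12 zd52) (kd xd0 yd15 zd10) (kd xd1 yd12 zd57) (kd xd1 yd12 zd61) (kd xd0 yd15 zd11) (kd xd1 yd13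 zd4) (kd xd0 yd15 zd12) (kd xd1 yd13 zd8) (kd xd0 yd58 zd47) (kd xd0 yd27 zd25) (kd xd1 yd13 zd18) (kd xd0 yd15 zd14) (kd xd1 yd13 zd21) (kd xd0 yd15 zd15)) (@D3.rec (fun _ => Pt) (kd xd0 yd29 zd54) (kd xd0 yd31 zd58) (kd xd1 yd13 zd31) (kd xd1 yd13 zd33) (kd xd0 yd15 zd17) (kd xd1 yd13 zd38) (kd xd1 yd13 zd39) (kd xd0 yd15 zd18) (kd xd1 yd13 zd43) (kd xd1 yd13 zd45) (kd xd0 yd15 zd20) (kd xd1 yd13 zd48) (kd xd0 yd29 zd22) (kd xd0 yd31 zd37) (kd xd1 yd13 zd53) (kd xd0 yd28 zd53) (kd xd1 yd13 zd56) (kd xd1 yd13 zd59) (kd xd1 yd14 zd0) (kd xd0 yd15 zd23) (kd xd1 yd14 zd5) (kd xd0 yd34 zd39) (kd xd1 yd14 zd7) (kd xd0 yd27 zd6) (kd xd0 yd34 zd40) (kd xd1 yd14 zd10) (kd xd1 yd14 zd13) (kd xd1 yd14 zd17) (kd xd1 yd14 zd21) (kd xd0 yd15 zd28) (kd xd1 yd14 zd26) (kd xd0 yd58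 zd10) (kd xd0 yd27 zd15) (kd xd1 yd14 zd32) (kd xd0 yd15 zd30) (kd xd0 yd26 zd14) (kd xd1 yd14 zd36) (kd xd0 yd57 zd37) (kd xd1 yd14 zd40) (kd xd0 yd34 zd21) (kd xd0 yd34 zd24) (kd xd1 yd14 zd46) (kd xd1 yd14 zd48) (kd xd1 yd14 zd51) (kd xd0 yd15 zd34) (kd xd1 yd14 zd56) (kd xd0 yd59 zd59) (kd xd0 yd26 zd24) (kd xd1 yd15 zd0) (kd xd0 yd15 zd36) (kd xd1 yd15 zd5) (kd xd1 yd15 zd8) (kd xd1 yd15 zd10) (kd xd0 yd15 zd39) (kd xd1 yd15 zd14) (kd xd1 yd15 zd15) (kd xd1 yd15 zd17) (kd xd0 yd15 zd41) (kd xd1 yd15 zd21) (kd xd1 yd15 zd23) (kd xd1 yd15 zd26) (kd xd1 yd15 zd29)) (@D3.rec (fun _ => Pt) (kd xd0 yd15 zd43) (kd xd1 yd15 zd34) (kd xd1 yd15 zd35) (kd xd1 yd15 zd36) (kd xd0 yd27 zd53) (kd xd1 yd15 zd39) (kd xd1 yd15 zd42) (kd xd1 yd15 zd44) (kd xd0 yd15 zd47) (kd xd1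 yd15 zd49) (kd xd1 yd15 zd51) (kd xd1 yd15 zd55) (kd xd0 yd15 zd48) (kd xd1 yd16 zd0) (kd xd1 yd16 zd4) (kd xd1 yd16 zd6) (kd xd0 yd15 zd49) (kd xd1 yd16 zd10) (kd xd1 yd16 zd14) (kd xd1 yd16 zd18) (kd xd1 yd16 zd23) (kd xd0 yd15 zd51) (kd xd1 yd16 zd26) (kd xd0 yd15 zd52) (kd xd0 yd16 zd1) (kd xd1 yd16 zd31) (kd xd0 yd15 zd53) (kd xd1 yd13 zd22) (kd xd1 yd2 zd48) (kd xd0 yd15 zd58) (kd xd1 yd16 zd44) (kd xd0 yd15 zd55) (kd xd1 yd16 zd48) (kd xd1 yd16 zd49) (kd xd0 yd15 zd56) (kd xd1 yd16 zd38) (kd xd0 yd27 zd18) (kd xd0 yd58 zd18) (kd xd1 yd17 zd4) (kd xd1 yd16 zd40) (kd xd1 yd17 zd9) (kd xd0 yd39 zd19) (kd xd1 yd17 zd10) (kd xd1 yd17 zd12) (kd xd1 yd17 zd15) (kd xd0 yd15 zd59) (kd xd1 yd17 zd23) (kd xd1 yd17 zd26) (kd xd1 yd17 zd30) (kd xd0 yd15 zd61) (kd xd0 yd59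 zd55) (kd xd1 yd17 zd35) (kd xd1 yd17 zd39) (kd xd0 yd16 zd0) (kd xd1 yd17 zd43) (kd xd1 yd16 zd27) (kd xd1 yd17 zd49) (kd xd1 yd16 zd30) (kd xd1 yd17 zd55) (kd xd1 yd17 zd58) (kd xd1 yd18 zd1) (kd xd0 yd16 zd2)) (@D3.rec (fun _ => Pt) (kd xd1 yd3 zd52) (kd xd0 yd36 zd1) (kd xd1 yd18 zd11) (kd xd1 yd18 zd12) (kd xd0 yd16 zd4) (kd xd1 yd18 zd20) (kd xd0 yd26 zd46) (kd xd1 yd0 zd43) (kd xd1 yd18 zd3) (kd xd1 yd18 zd32) (kd xd1 yd18 zd35) (kd xd0 yd16 zd6) (kd xd0 yd56 zd52) (kd xd0 yd27 zd4) (kd xd1 yd18 zd38) (kd xd1 yd18 zd40) (kd xd1 yd18 zd42) (kd xd1 yd18 zd44) (kd xd1 yd18 zd48) (kd xd0 yd16 zd9) (kd xd1 yd18 zd53) (kd xd0 yd17 zd3) (kd xd0 yd17 zd2) (kd xd0 yd16 zd10) (kd xd1 yd18 zd60) (kd xd0 yd16 zd14) (kd xd1 yd9 zd17) (kd xd0 yd31 zd50) (kd xd1 yd3 zd27) (kd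 xd1 yd3 zd7) (kd xd0 yd16 zd16) (kd xd1 yd19 zd4) (kd xd0 yd16 zd17) (kd xd1 yd19 zd11) (kd xd1 yd18 zd4) (kd xd1 yd19 zd17) (kd xd0 yd16 zd19) (kd xd0 yd58 zd43) (kd xd1 yd19 zd22) (kd xd0 yd16 zd20) (kd xd1 yd19 zd24) (kd xd1 yd19 zd28) (kd xd0 yd16 zd23) (kd xd1 yd19 zd34) (kd xd0 yd54 zd45) (kd xd1 yd3 zd32) (kd xd1 yd3 zd31) (kd xd0 yd16 zd25) (kd xd0 yd39 zd51) (kd xd1 yd3 zd4) (kd xd0 yd16 zd26) (kd xd0 yd29 zd24) (kd xd1 yd19 zd41) (kd xd0 yd16 zd27) (kd xd1 yd19 zd45) (kd xd0 yd54 zd46) (kd xd0 yd16 zd54) (kd xd0 yd16 zd29) (kd xd0 yd37 zd61) (kd xd1 yd19 zd52) (kd xd0 yd16 zd30) (kd xd1 yd19 zd57)) (@D3.rec (fun _ => Pt) (kd xd1 yd20 zd1) (kd xd0 yd16 zd31) (kd xd1 yd20 zd4) (kd xd1 yd20 zd10) (kd xd1 yd20 zd14) (kd xd1 yd20 zd16) (kd xd0 yd16 zd32) (kd xd1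 yd20 zd21) (kd xd0 yd32 zd31) (kd xd0 yd32 zd37) (kd xd1 yd3 zd2) (kd xd0 yd17 zd18) (kd xd0 yd16 zd34) (kd xd1 yd20 zd33) (kd xd1 yd20 zd35) (kd xd0 yd37 zd15) (kd xd0 yd40 zd23) (kd xd1 yd20 zd46) (kd xd1 yd3 zd33) (kd xd0 yd37 zd19) (kd xd1 yd20 zd51) (kd xd0 yd16 zd39) (kd xd1 yd20 zd54) (kd xd1 yd20 zd59) (kd xd0 yd16 zd40) (kd xd1 yd21 zd1) (kd xd1 yd21 zd4) (kd xd1 yd21 zd6) (kd xd0 yd16 zd41) (kd xd1 yd21 zd13) (kd xd1 yd21 zd16) (kd xd1 yd21 zd19) (kd xd1 yd21 zd21) (kd xd0 yd16 zd43) (kd xd1 yd21 zd26) (kd xd1 yd21 zd28) (kd xd1 yd21 zd30) (kd xd0 yd16 zd44) (kd xd1 yd21 zd33) (kd xd0 yd16 zd45) (kd xd1 yd18 zd58) (kd xd1 yd3 zd58) (kd xd0 yd37 zd42) (kd xd1 yd19 zd40) (kd xd1 yd12 zd46) (kd xd0 yd37 zd45) (kd xd0 yd20 zd9) (kd xd1 yd21 zd39) (kd xd1 yd21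 zd41) (kd xd0 yd16 zd52) (kd xd1 yd21 zd45) (kd xd1 yd21 zd50) (kd xd1 yd12 zd20) (kd xd1 yd21 zd52) (kd xd1 yd21 zd8) (kd xd1 yd21 zd9) (kd xd1 yd21 zd58) (kd xd0 yd16 zd57) (kd xd0 yd17 zd29) (kd xd0 yd18 zd18) (kd xd1 yd12 zd41) (kd xd0 yd36 zd58)) (@D3.rec (fun _ => Pt) (kd xd0 yd16 zd59) (kd xd1 yd22 zd8) (kd xd1 yd22 zd10) (kd xd1 yd22 zd12) (kd xd0 yd38 zd4) (kd xd1 yd21 zd42) (kd xd1 yd21 zd43) (kd xd1 yd22 zd15) (kd xd0 yd16 zd61) (kd xd1 yd22 zd20) (kd xd1 yd22 zd23) (kd xd1 yd22 zd26) (kd xd1 yd22 zd28) (kd xd0 yd17 zd1) (kd xd1 yd22 zd31) (kd xd1 yd22 zd33) (kd xd1 yd18 zd55) (kd xd1 yd22 zd36) (kd xd1 yd22 zd39) (kd xd1 yd22 zd43) (kd xd1 yd22 zd45) (kd xd1 yd22 zd49) (kd xd0 yd17 zd5) (kd xd1 yd22 zd56) (kd xd1 yd22 zd60) (kd xd0 yd17 zd7) (kd xd1 yd23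 zd0) (kd xd1 yd23 zd2) (kd xd1 yd23 zd5) (kd xd1 yd23 zd8) (kd xd1 yd23 zd12) (kd xd0 yd17 zd8) (kd xd1 yd23 zd19) (kd xd1 yd23 zd23) (kd xd0 yd17 zd10) (kd xd1 yd23 zd26) (kd xd1 yd8 zd19) (kd xd1 yd23 zd29) (kd xd1 yd23 zd32) (kd xd1 yd23 zd37) (kd xd0 yd17 zd11) (kd xd1 yd23 zd45) (kd xd1 yd23 zd43) (kd xd1 yd23 zd50) (kd xd1 yd23 zd52) (kd xd0 yd17 zd12) (kd xd1 yd23 zd57) (kd xd0 yd17 zd13) (kd xd0 yd39 zd44) (kd xd0 yd39 zd45) (kd xd1 yd24 zd7) (kd xd1 yd20 zd20) (kd xd1 yd24 zd14) (kd xd0 yd18 zd20) (kd xd1 yd24 zd20) (kd xd0 yd18 zd49) (kd xd1 yd24 zd27) (kd xd1 yd24 zd31) (kd xd1 yd24 zd35) (kd xd1 yd20 zd31) (kd xd1 yd24 zd38) (kd xd1 yd24 zd39)) (@D3.rec (fun _ => Pt) (kd xd0 yd17 zd19) (kd xd1 yd24 zd44) (kd xd0 yd17 zd20) (kd xd0 yd17 zd21) (kd xd1 yd22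 zd1) (kd xd0 yd27 zd57) (kd xd1 yd24 zd52) (kd xd1 yd24 zd53) (kd xd1 yd24 zd56) (kd xd1 yd24 zd60) (kd xd1 yd25 zd2) (kd xd0 yd17 zd33) (kd xd1 yd25 zd7) (kd xd1 yd25 zd8) (kd xd0 yd17 zd34) (kd xd0 yd28 zd42) (kd xd1 yd25 zd13) (kd xd0 yd17 zd35) (kd xd1 yd12 zd0) (kd xd0 yd35 zd41) (kd xd0 yd28 zd37) (kd xd1 yd25 zd26) (kd xd0 yd17 zd37) (kd xd1 yd25 zd29) (kd xd0 yd17 zd38) (kd xd0 yd32 zd25) (kd xd1 yd25 zd34) (kd xd0 yd29 zd3) (kd xd0 yd17 zd41) (kd xd1 yd12 zd4) (kd xd1 yd25 zd35) (kd xd0 yd17 zd42) (kd xd1 yd11 zd33) (kd xd1 yd25 zd39) (kd xd1 yd25 zd41) (kd xd0 yd28 zd46) (kd xd1 yd25 zd43) (kd xd0 yd28 zd52) (kd xd1 yd25 zd46) (kd xd1 yd25 zd48) (kd xd1 yd25 zd53) (kd xd0 yd17 zd47) (kd xd1 yd25 zd59) (kd xd0 yd39 zd43) (kd xd0 yd38 zd48) (kd xd0 yd38 zd49)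 (kd xd1 yd23 zd40) (kd xd0 yd17 zd49) (kd xd1 yd5 zd40) (kd xd1 yd25 zd58) (kd xd1 yd26 zd16) (kd xd0 yd36 zd48) (kd xd0 yd29 zd1) (kd xd1 yd26 zd18) (kd xd0 yd39 zd54) (kd xd1 yd26 zd22) (kd xd1 yd5 zd54) (kd xd0 yd39 zd57) (kd xd0 yd51 zd6) (kd xd0 yd51 zd7) (kd xd0 yd44 zd30) (kd xd1 yd26 zd29)) (@D3.rec (fun _ => Pt) (kd xd0 yd17 zd58) (kd xd1 yd8 zd36) (kd xd1 yd7 zd17) (kd xd1 yd7 zd18) (kd xd0 yd44 zd37) (kd xd1 yd26 zd37) (kd xd0 yd17 zd60) (kd xd1 yd26 zd39) (kd xd0 yd44 zd7) (kd xd0 yd44 zd11) (kd xd0 yd52 zd46) (kd xd1 yd26 zd49) (kd xd0 yd44 zd8) (kd xd0 yd44 zd14) (kd xd0 yd52 zd50) (kd xd1 yd26 zd55) (kd xd0 yd18 zd1) (kd xd0 yd19 zd37) (kd xd0 yd19 zd33) (kd xd1 yd27 zd4) (kd xd0 yd19 zd46) (kd xd0 yd18 zd3) (kd xd1 yd27 zd12) (kd xd0 yd37 zd16) (kd xd1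 yd27 zd17) (kd xd1 yd27 zd21) (kd xd1 yd27 zd25) (kd xd0 yd19 zd57) (kd xd1 yd27 zd30) (kd xd0 yd18 zd7) (kd xd1 yd2 zd17) (kd xd0 yd40 zd31) (kd xd0 yd45 zd33) (kd xd1 yd27 zd40) (kd xd1 yd27 zd42) (kd xd1 yd27 zd44) (kd xd0 yd40 zd36) (kd xd1 yd27 zd47) (kd xd0 yd40 zd38) (kd xd1 yd27 zd52) (kd xd0 yd55 zd22) (kd xd1 yd27 zd58) (kd xd0 yd40 zd42) (kd xd1 yd28 zd2) (kd xd1 yd28 zd4) (kd xd1 yd28 zd9) (kd xd0 yd18 zd15) (kd xd1 yd28 zd14) (kd xd1 yd9 zd13) (kd xd1 yd28 zd19) (kd xd1 yd6 zd28) (kd xd0 yd40 zd51) (kd xd1 yd22 zd3) (kd xd1 yd28 zd28) (kd xd1 yd28 zd30) (kd xd0 yd32 zd39) (kd xd0 yd40 zd56) (kd xd1 yd28 zd33) (kd xd1 yd28 zd37) (kd xd1 yd24 zd15) (kd xd1 yd28 zd42) (kd xd0 yd18 zd21)) (@D3.rec (fun _ => Pt) (kd xd1 yd28 zd47) (kd xd1 yd28 zd49) (kd xd1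 yd28 zd52) (kd xd0 yd18 zd22) (kd xd0 yd32 zd49) (kd xd1 yd28 zd56) (kd xd0 yd18 zd23) (kd xd1 yd28 zd58) (kd xd1 yd7 zd43) (kd xd1 yd7 zd42) (kd xd1 yd29 zd1) (kd xd0 yd18 zd25) (kd xd1 yd29 zd6) (kd xd1 yd29 zd9) (kd xd0 yd18 zd27) (kd xd1 yd29 zd13) (kd xd1 yd29 zd16) (kd xd1 yd29 zd18) (kd xd0 yd18 zd28) (kd xd1 yd29 zd25) (kd xd1 yd29 zd28) (kd xd0 yd18 zd30) (kd xd0 yd45 zd27) (kd xd0 yd45 zd28) (kd xd1 yd29 zd34) (kd xd0 yd18 zd31) (kd xd0 yd20 zd20) (kd xd1 yd29 zd41) (kd xd0 yd43 zd41) (kd xd0 yd18 zd33) (kd xd1 yd29 zd48) (kd xd1 yd29 zd50) (kd xd0 yd43 zd42) (kd xd0 yd18 zd34) (kd xd0 yd18 zd35) (kd xd1 yd29 zd57) (kd xd0 yd19 zd3) (kd xd0 yd19 zd4) (kd xd1 yd30 zd5) (kd xd1 yd30 zd9) (kd xd1 yd30 zd13) (kd xd1 yd30 zd16) (kd xd0 yd18 zd37) (kd xd1 yd30 zd19)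 (kd xd0 yd19 zd2) (kd xd1 yd30 zd23) (kd xd1 yd30 zd27) (kd xd1 yd30 zd31) (kd xd0 yd18 zd39) (kd xd1 yd30 zd36) (kd xd1 yd30 zd39) (kd xd0 yd18 zd40) (kd xd1 yd30 zd44) (kd xd0 yd18 zd41) (kd xd0 yd20 zd22) (kd xd1 yd30 zd51) (kd xd0 yd18 zd43) (kd xd0 yd45 zd6) (kd xd1 yd30 zd57) (kd xd0 yd18 zd44) (kd xd1 yd31 zd0) (kd xd0 yd18 zd45)) (@D3.rec (fun _ => Pt) (kd xd1 yd31 zd3) (kd xd1 yd31 zd7) (kd xd0 yd18 zd47) (kd xd1 yd31 zd11) (kd xd1 yd31 zd14) (kd xd1 yd1 zd54) (kd xd1 yd31 zd16) (kd xd1 yd31 zd19) (kd xd1 yd24 zd22) (kd xd1 yd5 zd0) (kd xd0 yd18 zd50) (kd xd1 yd31 zd24) (kd xd1 yd22 zd17) (kd xd0 yd18 zd51) (kd xd1 yd31 zd29) (kd xd1 yd22 zd16) (kd xd0 yd18 zd52) (kd xd0 yd27 zd41) (kd xd1 yd31 zd32) (kd xd1 yd31 zd35) (kd xd0 yd18 zd54) (kd xd0 yd51 zd46)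 (kd xd1 yd31 zd38) (kd xd0 yd18 zd55) (kd xd1 yd31 zd41) (kd xd0 yd18 zd56) (kd xd1 yd31 zd42) (kd xd0 yd19 zd10) (kd xd0 yd19 zd11) (kd xd1 yd31 zd50) (kd xd1 yd31 zd51) (kd xd1 yd31 zd54) (kd xd1 yd31 zd57) (kd xd0 yd18 zd58) (kd xd1 yd31 zd60) (kd xd1 yd32 zd1) (kd xd1 yd32 zd4) (kd xd0 yd18 zd59) (kd xd1 yd32 zd9) (kd xd1 yd32 zd12) (kd xd0 yd18 zd60) (kd xd1 yd32 zd17) (kd xd0 yd18 zd61) (kd xd1 yd30 zd52) (kd xd0 yd19 zd1) (kd xd1 yd32 zd22) (kd xd1 yd32 zd24) (kd xd1 yd30 zd20) (kd xd1 yd29 zd59) (kd xd1 yd32 zd27) (kd xd1 yd32 zd29) (kd xd1 yd30 zd0) (kd xd1 yd32 zd31) (kd xd0 yd19 zd5) (kd xd0 yd30 zd30) (kd xd0 yd30 zd31) (kd xd1 yd32 zd42) (kd xd0 yd42 zd57) (kd xd0 yd30 zd9) (kd xd0 yd45 zd12) (kd xd0 yd21 zd26) (kd xd1 yd32 zd14)) (@D3.rec (fun _ => Pt)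 (kd xd1 yd32 zd59) (kd xd1 yd33 zd1) (kd xd0 yd43 zd2) (kd xd1 yd33 zd4) (kd xd1 yd31 zd46) (kd xd1 yd33 zd5) (kd xd0 yd30 zd10) (kd xd0 yd30 zd11) (kd xd0 yd19 zd15) (kd xd0 yd19 zd16) (kd xd0 yd51 zd26) (kd xd0 yd52 zd4) (kd xd1 yd33 zd17) (kd xd0 yd19 zd17) (kd xd0 yd43 zd39) (kd xd0 yd19 zd18) (kd xd1 yd33 zd19) (kd xd0 yd19 zd19) (kd xd1 yd33 zd24) (kd xd1 yd33 zd25) (kd xd0 yd19 zd20) (kd xd0 yd19 zd21) (kd xd0 yd45 zd18) (kd xd0 yd45 zd19) (kd xd1 yd33 zd38) (kd xd0 yd43 zd25) (kd xd1 yd33 zd44) (kd xd1 yd33 zd47) (kd xd0 yd43 zd28) (kd xd1 yd33 zd49) (kd xd0 yd19 zd24) (kd xd1 yd33 zd52) (kd xd0 yd19 zd25) (kd xd1 yd33 zd57) (kd xd0 yd19 zd26) (kd xd1 yd7 zd37) (kd xd0 yd45 zd13) (kd xd0 yd45 zd14) (kd xd1 yd34 zd4) (kd xd0 yd43 zd14) (kd xd1 yd7 zd41) (kd xd0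 yd41 zd28) (kd xd0 yd41 zd32) (kd xd1 yd7 zd29) (kd xd0 yd44 zd0) (kd xd0 yd19 zd32) (kd xd1 yd34 zd15) (kd xd1 yd26 zd60) (kd xd1 yd34 zd16) (kd xd1 yd34 zd17) (kd xd0 yd19 zd34) (kd xd1 yd26 zd58) (kd xd1 yd34 zd21) (kd xd1 yd34 zd23) (kd xd0 yd19 zd35) (kd xd1 yd34 zd27) (kd xd1 yd34 zd32) (kd xd0 yd43 zd57) (kd xd1 yd34 zd20) (kd xd1 yd34 zd35) (kd xd0 yd30 zd55) (kd xd0 yd19 zd38)) (@D3.rec (fun _ => Pt) (kd xd0 yd43 zd44) (kd xd0 yd19 zd39) (kd xd0 yd50 zd12) (kd xd1 yd34 zd42) (kd xd1 yd32 zd21) (kd xd1 yd34 zd7) (kd xd0 yd19 zd41) (kd xd0 yd40 zd8) (kd xd0 yd40 zd12) (kd xd1 yd34 zd53) (kd xd1 yd26 zd57) (kd xd0 yd40 zd9) (kd xd1 yd35 zd2) (kd xd1 yd35 zd6) (kd xd0 yd40 zd13) (kd xd1 yd35 zd12) (kd xd1 yd35 zd16) (kd xd1 yd35 zd19) (kd xd1 yd35 zd22) (kd xd1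 yd35 zd27) (kd xd0 yd19 zd45) (kd xd1 yd35 zd36) (kd xd1 yd35 zd33) (kd xd1 yd35 zd41) (kd xd1 yd35 zd44) (kd xd1 yd27 zd9) (kd xd1 yd35 zd49) (kd xd1 yd35 zd52) (kd xd1 yd35 zd55) (kd xd0 yd19 zd48) (kd xd0 yd39 zd60) (kd xd1 yd36 zd0) (kd xd1 yd36 zd4) (kd xd1 yd36 zd7) (kd xd1 yd36 zd9) (kd xd0 yd19 zd50) (kd xd1 yd36 zd14) (kd xd0 yd40 zd4) (kd xd1 yd36 zd19) (kd xd1 yd36 zd22) (kd xd1 yd36 zd24) (kd xd1 yd36 zd26) (kd xd0 yd19 zd52) (kd xd1 yd36 zd31) (kd xd1 yd20 zd40) (kd xd1 yd20 zd41) (kd xd1 yd4 zd49) (kd xd1 yd36 zd40) (kd xd1 yd36 zd43) (kd xd1 yd36 zd46) (kd xd0 yd19 zd54) (kd xd1 yd36 zd51) (kd xd1 yd36 zd55) (kd xd1 yd36 zd59) (kd xd0 yd19 zd55) (kd xd0 yd31 zd19) (kd xd1 yd37 zd7) (kd xd1 yd37 zd10) (kd xd0 yd19 zd56) (kd xd1 yd37 zd14) (kd xd1 yd37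 zd15) (kd xd1 yd37 zd17)) (@D3.rec (fun _ => Pt) (kd xd1 yd37 zd19) (kd xd0 yd19 zd58) (kd xd1 yd37 zd23) (kd xd0 yd19 zd59) (kd xd1 yd37 zd25) (kd xd0 yd19 zd60) (kd xd0 yd41 zd57) (kd xd1 yd29 zd11) (kd xd1 yd29 zd20) (kd xd0 yd52 zd3) (kd xd1 yd37 zd33) (kd xd0 yd20 zd0) (kd xd0 yd42 zd59) (kd xd0 yd43 zd36) (kd xd0 yd43 zd37) (kd xd1 yd8 zd3) (kd xd1 yd37 zd44) (kd xd0 yd20 zd6) (kd xd0 yd43 zd22) (kd xd0 yd43 zd23) (kd xd1 yd8 zd10) (kd xd1 yd37 zd48) (kd xd0 yd20 zd14) (kd xd1 yd37 zd52) (kd xd0 yd20 zd15) (kd xd1 yd37 zd56) (kd xd0 yd20 zd16) (kd xd0 yd41 zd22) (kd xd0 yd41 zd23) (kd xd1 yd38 zd8) (kd xd1 yd29 zd36) (kd xd0 yd20 zd18) (kd xd1 yd30 zd47) (kd xd0 yd40 zd32) (kd xd1 yd38 zd21) (kd xd1 yd38 zd23) (kd xd1 yd38 zd26) (kd xd1 yd29 zd39) (kd xd1 yd30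 zd49) (kd xd0 yd46 zd29) (kd xd1 yd38 zd33) (kd xd1 yd38 zd35) (kd xd0 yd46 zd32) (kd xd1 yd38 zd37) (kd xd1 yd38 zd39) (kd xd0 yd20 zd25) (kd xd0 yd20 zd47) (kd xd0 yd20 zd43) (kd xd1 yd38 zd48) (kd xd0 yd20 zd56) (kd xd1 yd38 zd54) (kd xd1 yd38 zd57) (kd xd0 yd20 zd60) (kd xd1 yd38 zd58) (kd xd1 yd38 zd60) (kd xd0 yd51 zd15) (kd xd1 yd39 zd0) (kd xd1 yd38 zd43) (kd xd1 yd39 zd6) (kd xd0 yd20 zd34) (kd xd0 yd54 zd17) (kd xd0 yd22 zd54)) (@D3.rec (fun _ => Pt) (kd xd1 yd39 zd11) (kd xd0 yd50 zd30) (kd xd1 yd33 zd6) (kd xd1 yd39 zd14) (kd xd1 yd39 zd15) (kd xd0 yd20 zd40) (kd xd1 yd39 zd18) (kd xd1 yd38 zd44) (kd xd1 yd39 zd19) (kd xd0 yd20 zd44) (kd xd1 yd39 zd22) (kd xd1 yd7 zd26) (kd xd0 yd20 zd45) (kd xd0 yd51 zd9) (kd xd1 yd39 zd29) (kd xd0 yd46 zd15) (kd xd0 yd23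 zd11) (kd xd1 yd39 zd33) (kd xd1 yd39 zd34) (kd xd1 yd37 zd55) (kd xd0 yd20 zd48) (kd xd0 yd51 zd25) (kd xd0 yd20 zd49) (kd xd0 yd50 zd60) (kd xd1 yd39 zd44) (kd xd0 yd51 zd27) (kd xd0 yd23 zd2) (kd xd1 yd39 zd48) (kd xd1 yd38 zd41) (kd xd0 yd45 zd39) (kd xd1 yd39 zd57) (kd xd0 yd53 zd42) (kd xd0 yd45 zd42) (kd xd1 yd40 zd3) (kd xd1 yd40 zd6) (kd xd1 yd40 zd9) (kd xd1 yd40 zd12) (kd xd0 yd20 zd55) (kd xd1 yd40 zd20) (kd xd1 yd40 zd24) (kd xd1 yd40 zd28) (kd xd1 yd38 zd52) (kd xd0 yd51 zd22) (kd xd0 yd51 zd23) (kd xd0 yd20 zd57) (kd xd1 yd40 zd38) (kd xd0 yd20 zd58) (kd xd0 yd20 zd59) (kd xd1 yd40 zd39) (kd xd0 yd24 zd31) (kd xd0 yd24 zd26) (kd xd0 yd21 zd0) (kd xd1 yd40 zd47) (kd xd0 yd52 zd11) (kd xd1 yd37 zd61) (kd xd1 yd40 zd50) (kd xd1 yd40 zd51) (kd xd0 yd52 zd25)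 (kd xd1 yd37 zd57) (kd xd1 yd40 zd57) (kd xd0 yd52 zd14) (kd xd1 yd40 zd59)) (@D3.rec (fun _ => Pt) (kd xd1 yd33 zd9) (kd xd1 yd40 zd61) (kd xd0 yd21 zd3) (kd xd1 yd41 zd6) (kd xd1 yd41 zd3) (kd xd0 yd50 zd2) (kd xd0 yd21 zd4) (kd xd1 yd41 zd9) (kd xd0 yd52 zd36) (kd xd1 yd41 zd11) (kd xd1 yd37 zd58) (kd xd0 yd21 zd7) (kd xd1 yd41 zd13) (kd xd0 yd21 zd8) (kd xd1 yd41 zd16) (kd xd0 yd23 zd42) (kd xd0 yd23 zd21) (kd xd1 yd41 zd27) (kd xd0 yd21 zd42) (kd xd0 yd23 zd15) (kd xd1 yd41 zd33) (kd xd0 yd47 zd21) (kd xd1 yd41 zd38) (kd xd1 yd41 zd41) (kd xd1 yd41 zd45) (kd xd0 yd21 zd12) (kd xd1 yd41 zd52) (kd xd1 yd41 zd49) (kd xd1 yd41 zd57) (kd xd1 yd41 zd61) (kd xd0 yd23 zd57) (kd xd0 yd54 zd1) (kd xd1 yd42 zd6) (kd xd0 yd21 zd15) (kd xd0 yd21 zd25) (kd xd0 yd54 zd14) (kd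 xd1 yd42 zd13) (kd xd0 yd50 zd44) (kd xd0 yd24 zd21) (kd xd1 yd42 zd18) (kd xd1 yd42 zd21) (kd xd0 yd21 zd18) (kd xd0 yd48 zd43) (kd xd1 yd42 zd27) (kd xd0 yd49 zd59) (kd xd0 yd21 zd19) (kd xd1 yd42 zd30) (kd xd0 yd24 zd16) (kd xd1 yd42 zd31) (kd xd0 yd53 zd53) (kd xd1 yd7 zd46) (kd xd1 yd42 zd34) (kd xd1 yd32 zd51) (kd xd1 yd42 zd35) (kd xd1 yd42 zd37) (kd xd0 yd21 zd27) (kd xd1 yd42 zd40) (kd xd1 yd39 zd36) (kd xd0 yd21 zd29) (kd xd1 yd42 zd45) (kd xd0 yd51 zd36) (kd xd0 yd21 zd30)) (@D3.rec (fun _ => Pt) (kd xd1 yd42 zd49) (kd xd1 yd42 zd52) (kd xd1 yd42 zd55) (kd xd0 yd52 zd10) (kd xd0 yd21 zd32) (kd xd1 yd34 zd24) (kd xd0 yd51 zd45) (kd xd0 yd21 zd33) (kd xd0 yd21 zd34) (kd xd1 yd43 zd0) (kd xd0 yd48 zd22) (kd xd1 yd43 zd5) (kd xd1 yd43 zd9) (kd xd0 yd23 zd37)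 (kd xd0 yd49 zd31) (kd xd0 yd21 zd37) (kd xd1 yd42 zd57) (kd xd0 yd22 zd19) (kd xd1 yd43 zd18) (kd xd1 yd43 zd21) (kd xd0 yd22 zd22) (kd xd1 yd43 zd26) (kd xd0 yd48 zd10) (kd xd1 yd43 zd29) (kd xd1 yd43 zd32) (kd xd0 yd21 zd40) (kd xd1 yd43 zd40) (kd xd1 yd43 zd44) (kd xd1 yd43 zd48) (kd xd0 yd21 zd41) (kd xd0 yd53 zd46) (kd xd1 yd41 zd23) (kd xd1 yd43 zd57) (kd xd1 yd43 zd61) (kd xd1 yd44 zd0) (kd xd0 yd21 zd43) (kd xd0 yd22 zd10) (kd xd1 yd44 zd8) (kd xd0 yd21 zd45) (kd xd1 yd44 zd12) (kd xd0 yd21 zd46) (kd xd1 yd44 zd17) (kd xd0 yd21 zd47) (kd xd0 yd47 zd42) (kd xd1 yd42 zd38) (kd xd0 yd51 zd0) (kd xd1 yd44 zd22) (kd xd1 yd40 zd33) (kd xd1 yd44 zd24) (kd xd0 yd21 zd51) (kd xd0 yd49 zd58) (kd xd0 yd22 zd17) (kd xd0 yd49 zd41) (kd xd1 yd44 zd30) (kd xd0 yd21 zd55)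 (kd xd0 yd53 zd21) (kd xd1 yd44 zd35) (kd xd0 yd21 zd57) (kd xd1 yd39 zd61) (kd xd1 yd44 zd37) (kd xd0 yd21 zd59) (kd xd1 yd44 zd39)) (@D3.rec (fun _ => Pt) (kd xd0 yd21 zd60) (kd xd1 yd44 zd44) (kd xd0 yd49 zd17) (kd xd1 yd44 zd48) (kd xd1 yd39 zd20) (kd xd0 yd22 zd0) (kd xd1 yd44 zd52) (kd xd0 yd22 zd1) (kd xd1 yd44 zd54) (kd xd1 yd44 zd56) (kd xd0 yd53 zd15) (kd xd0 yd22 zd3) (kd xd1 yd43 zd36) (kd xd1 yd45 zd3) (kd xd0 yd22 zd5) (kd xd0 yd22 zd29) (kd xd1 yd45 zd10) (kd xd0 yd49 zd2) (kd xd0 yd22 zd31) (kd xd1 yd45 zd14) (kd xd1 yd44 zd4) (kd xd1 yd45 zd19) (kd xd1 yd45 zd22) (kd xd0 yd22 zd8) (kd xd1 yd45 zd29) (kd xd0 yd23 zd45) (kd xd1 yd45 zd35) (kd xd0 yd22 zd9) (kd xd1 yd45 zd40) (kd xd1 yd44 zd2) (kd xd1 yd45 zd41) (kd xd0 yd48 zd14) (kd xd1 yd45 zd47) (kd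 xd0 yd22 zd12) (kd xd0 yd24 zd2) (kd xd0 yd53 zd31) (kd xd1 yd45 zd55) (kd xd0 yd49 zd38) (kd xd0 yd49 zd37) (kd xd0 yd22 zd16) (kd xd1 yd44 zd29) (kd xd0 yd48 zd52) (kd xd1 yd45 zd59) (kd xd1 yd45 zd60) (kd xd0 yd22 zd20) (kd xd1 yd46 zd1) (kd xd0 yd22 zd21) (kd xd1 yd46 zd3) (kd xd0 yd22 zd23) (kd xd1 yd46 zd6) (kd xd0 yd49 zd50) (kd xd1 yd45 zd24) (kd xd1 yd45 zd25) (kd xd0 yd22 zd25) (kd xd1 yd46 zd19) (kd xd1 yd46 zd23) (kd xd1 yd46 zd27) (kd xd0 yd49 zd57) (kd xd0 yd48 zd50) (kd xd0 yd47 zd44) (kd xd1 yd41 zd29) (kd xd0 yd22 zd30)) (@D3.rec (fun _ => Pt) (kd xd0 yd22 zd32) (kd xd1 yd46 zd15) (kd xd0 yd47 zd5) (kd xd1 yd43 zd34) (kd xd1 yd43 zd35) (kd xd0 yd22 zd35) (kd xd1 yd46 zd45) (kd xd0 yd23 zd59) (kd xd0 yd23 zd60) (kd xd0 yd51 zd39) (kd xd1 yd34 zd28) (kd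 xd0 yd23 zd32) (kd xd0 yd44 zd2) (kd xd0 yd24 zd29) (kd xd0 yd54 zd18) (kd xd1 yd46 zd55) (kd xd0 yd22 zd42) (kd xd1 yd46 zd61) (kd xd1 yd47 zd2) (kd xd1 yd47 zd5) (kd xd0 yd22 zd44) (kd xd1 yd47 zd8) (kd xd0 yd22 zd45) (kd xd0 yd22 zd46) (kd xd1 yd47 zd13) (kd xd0 yd51 zd17) (kd xd1 yd47 zd16) (kd xd0 yd50 zd27) (kd xd1 yd47 zd23) (kd xd0 yd50 zd49) (kd xd0 yd46 zd1) (kd xd1 yd47 zd28) (kd xd0 yd53 zd58) (kd xd1 yd47 zd33) (kd xd1 yd47 zd36) (kd xd0 yd22 zd51) (kd xd1 yd47 zd44) (kd xd1 yd47 zd48) (kd xd1 yd47 zd52) (kd xd0 yd50 zd39) (kd xd1 yd47 zd55) (kd xd0 yd22 zd53) (kd xd0 yd53 zd49) (kd xd1 yd39 zd8) (kd xd0 yd47 zd37) (kd xd1 yd47 zd59) (kd xd1 yd47 zd60) (kd xd0 yd22 zd56) (kd xd1 yd48 zd7) (kd xd0 yd50 zd29) (kd xd1 yd41 zd21) (kd xd0 yd22 zd58) (kd xd1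 yd48 zd13) (kd xd0 yd22 zd59) (kd xd1 yd48 zd17) (kd xd1 yd48 zd19) (kd xd1 yd48 zd22) (kd xd1 yd39 zd46) (kd xd0 yd22 zd61) (kd xd0 yd23 zd0) (kd xd0 yd46 zd23) (kd xd1 yd48 zd29)) (@D3.rec (fun _ => Pt) (kd xd0 yd48 zd45) (kd xd1 yd48 zd31) (kd xd0 yd23 zd3) (kd xd1 yd48 zd34) (kd xd0 yd23 zd4) (kd xd1 yd48 zd38) (kd xd0 yd39 zd58) (kd xd0 yd39 zd59) (kd xd1 yd48 zd47) (kd xd0 yd46 zd13) (kd xd1 yd39 zd42) (kd xd1 yd39 zd41) (kd xd0 yd23 zd6) (kd xd1 yd48 zd53) (kd xd1 yd48 zd56) (kd xd0 yd45 zd55) (kd xd1 yd48 zd60) (kd xd0 yd50 zd25) (kd xd1 yd49 zd1) (kd xd1 yd49 zd4) (kd xd0 yd23 zd9) (kd xd1 yd49 zd12) (kd xd0 yd46 zd42) (kd xd0 yd46 zd43) (kd xd1 yd33 zd15) (kd xd0 yd46 zd21) (kd xd0 yd43 zd10) (kd xd0 yd46 zd25) (kd xd1 yd35 zd31) (kd xd1 yd49 zd23) (kd xd0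 yd23 zd14) (kd xd0 yd23 zd16) (kd xd0 yd23 zd17) (kd xd0 yd23 zd18) (kd xd1 yd49 zd29) (kd xd0 yd23 zd19) (kd xd0 yd47 zd60) (kd xd1 yd49 zd34) (kd xd0 yd51 zd38) (kd xd0 yd50 zd9) (kd xd0 yd23 zd22) (kd xd1 yd49 zd41) (kd xd0 yd23 zd23) (kd xd0 yd23 zd24) (kd xd1 yd49 zd47) (kd xd0 yd48 zd6) (kd xd0 yd42 zd21) (kd xd1 yd35 zd29) (kd xd0 yd51 zd48) (kd xd0 yd23 zd26) (kd xd1 yd32 zd23) (kd xd1 yd49 zd58) (kd xd1 yd49 zd61) (kd xd1 yd36 zd18) (kd xd0 yd23 zd27) (kd xd1 yd50 zd9) (kd xd1 yd50 zd12) (kd xd0 yd51 zd57) (kd xd0 yd23 zd30) (kd xd1 yd34 zd40) (kd xd1 yd50 zd16) (kd xd1 yd43 zd11)) (@D3.rec (fun _ => Pt) (kd xd0 yd23 zd33) (kd xd1 yd47 zd61) (kd xd1 yd35 zd30) (kd xd0 yd45 zd9) (kd xd0 yd43 zd11) (kd xd1 yd33 zd16) (kd xd0 yd23 zd35) (kd xd1 yd50 zd27) (kd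 xd0 yd23 zd36) (kd xd1 yd50 zd32) (kd xd0 yd48 zd3) (kd xd0 yd46 zd53) (kd xd1 yd50 zd38) (kd xd1 yd45 zd1) (kd xd0 yd46 zd60) (kd xd1 yd50 zd43) (kd xd1 yd46 zd48) (kd xd1 yd50 zd46) (kd xd1 yd50 zd49) (kd xd1 yd50 zd54) (kd xd0 yd23 zd41) (kd xd1 yd50 zd59) (kd xd1 yd51 zd1) (kd xd0 yd53 zd8) (kd xd1 yd41 zd20) (kd xd0 yd46 zd57) (kd xd1 yd51 zd7) (kd xd1 yd45 zd31) (kd xd1 yd50 zd4) (kd xd1 yd50 zd5) (kd xd1 yd51 zd18) (kd xd0 yd23 zd44) (kd xd1 yd51 zd25) (kd xd1 yd51 zd28) (kd xd1 yd51 zd31) (kd xd1 yd45 zd2) (kd xd0 yd47 zd8) (kd xd1 yd51 zd35) (kd xd1 yd51 zd39) (kd xd1 yd51 zd44) (kd xd0 yd23 zd47) (kd xd1 yd51 zd49) (kd xd1 yd43 zd10) (kd xd0 yd23 zd48) (kd xd1 yd51 zd56) (kd xd1 yd51 zd61) (kd xd0 yd40 zd10) (kd xd0 yd23 zd49) (kd xd1 yd52 zd4) (kd xd1 yd52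 zd10) (kd xd0 yd40 zd14) (kd xd0 yd23 zd50) (kd xd1 yd52 zd14) (kd xd1 yd52 zd17) (kd xd1 yd52 zd19) (kd xd0 yd23 zd51) (kd xd1 yd52 zd26) (kd xd1 yd34 zd25) (kd xd1 yd34 zd38) (kd xd1 yd34 zd13) (kd xd1 yd52 zd36) (kd xd0 yd23 zd54)) (@D3.rec (fun _ => Pt) (kd xd1 yd52 zd41) (kd xd1 yd52 zd45) (kd xd0 yd23 zd53) (kd xd1 yd52 zd50) (kd xd1 yd52 zd54) (kd xd1 yd52 zd58) (kd xd1 yd53 zd0) (kd xd0 yd23 zd55) (kd xd0 yd52 zd23) (kd xd1 yd53 zd9) (kd xd1 yd53 zd12) (kd xd0 yd23 zd56) (kd xd1 yd53 zd15) (kd xd1 yd53 zd16) (kd xd1 yd42 zd56) (kd xd0 yd49 zd10) (kd xd0 yd23 zd58) (kd xd1 yd46 zd46) (kd xd1 yd53 zd25) (kd xd1 yd46 zd49) (kd xd1 yd53 zd26) (kd xd0 yd48 zd55) (kd xd1 yd53 zd33) (kd xd1 yd53 zd35) (kd xd1 yd45 zd51) (kd xd1 yd47 zd38) (kd xd1 yd47 zd39) (kd xd0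 yd24 zd1) (kd xd1 yd53 zd48) (kd xd1 yd53 zd52) (kd xd1 yd53 zd56) (kd xd0 yd49 zd35) (kd xd1 yd53 zd59) (kd xd0 yd24 zd3) (kd xd0 yd24 zd4) (kd xd1 yd38 zd55) (kd xd1 yd53 zd61) (kd xd1 yd54 zd3) (kd xd1 yd49 zd6) (kd xd1 yd49 zd7) (kd xd0 yd24 zd7) (kd xd1 yd54 zd13) (kd xd0 yd46 zd31) (kd xd1 yd44 zd14) (kd xd0 yd24 zd8) (kd xd1 yd54 zd23) (kd xd0 yd48 zd30) (kd xd1 yd42 zd22) (kd xd1 yd44 zd13) (kd xd0 yd50 zd42) (kd xd0 yd24 zd11) (kd xd1 yd54 zd27) (kd xd1 yd49 zd15) (kd xd0 yd47 zd49) (kd xd1 yd54 zd31) (kd xd1 yd54 zd1) (kd xd1 yd54 zd34) (kd xd1 yd48 zd57) (kd xd0 yd50 zd32) (kd xd0 yd24 zd15) (kd xd1 yd54 zd43) (kd xd1 yd42 zd1)) (@D3.rec (fun _ => Pt) (kd xd0 yd24 zd27) (kd xd0 yd47 zd31) (kd xd1 yd46 zd33) (kd xd0 yd24 zd19) (kd xd1 yd42 zd15) (kd xd1 yd54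 zd49) (kd xd1 yd54 zd53) (kd xd0 yd24 zd20) (kd xd0 yd24 zd24) (kd xd1 yd42 zd11) (kd xd1 yd42 zd24) (kd xd1 yd54 zd50) (kd xd1 yd55 zd2) (kd xd1 yd40 zd44) (kd xd0 yd47 zd35) (kd xd1 yd42 zd23) (kd xd1 yd55 zd5) (kd xd0 yd45 zd60) (kd xd0 yd50 zd14) (kd xd1 yd40 zd43) (kd xd1 yd55 zd10) (kd xd1 yd55 zd13) (kd xd1 yd55 zd15) (kd xd0 yd24 zd33) (kd xd1 yd55 zd20) (kd xd1 yd55 zd22) (kd xd0 yd24 zd34) (kd xd0 yd59 zd3) (kd xd1 yd0 zd33) (kd xd1 yd55 zd32) (kd xd0 yd24 zd36) (kd xd1 yd55 zd35) (kd xd0 yd28 zd16) (kd xd1 yd55 zd38) (kd xd1 yd55 zd40) (kd xd1 yd55 zd45) (kd xd0 yd24 zd39) (kd xd0 yd58 zd61) (kd xd1 yd55 zd48) (kd xd1 yd55 zd49) (kd xd1 yd55 zd52) (kd xd1 yd55 zd56) (kd xd1 yd55 zd59) (kd xd0 yd24 zd43) (kd xd1 yd56 zd2) (kd xd0 yd36 zd44) (kd xd0 yd36 zd55)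 (kd xd1 yd56 zd7) (kd xd0 yd24 zd45) (kd xd1 yd3 zd50) (kd xd0 yd57 zd32) (kd xd0 yd25 zd54) (kd xd0 yd24 zd48) (kd xd1 yd0 zd25) (kd xd1 yd3 zd51) (kd xd1 yd5 zd46) (kd xd0 yd55 zd52) (kd xd0 yd57 zd29) (kd xd1 yd56 zd17) (kd xd0 yd24 zd53) (kd xd1 yd56 zd21) (kd xd1 yd56 zd24)) (@D3.rec (fun _ => Pt) (kd xd1 yd56 zd28) (kd xd1 yd56 zd30) (kd xd0 yd24 zd55) (kd xd1 yd56 zd20) (kd xd1 yd56 zd38) (kd xd0 yd24 zd57) (kd xd1 yd56 zd40) (kd xd0 yd24 zd58) (kd xd0 yd55 zd57) (kd xd1 yd56 zd44) (kd xd1 yd56 zd47) (kd xd0 yd24 zd60) (kd xd1 yd56 zd52) (kd xd0 yd25 zd0) (kd xd0 yd25 zd1) (kd xd1 yd56 zd57) (kd xd0 yd25 zd2) (kd xd0 yd56 zd22) (kd xd0 yd55 zd38) (kd xd1 yd56 zd61) (kd xd0 yd25 zd4) (kd xd1 yd2 zd16) (kd xd0 yd40 zd40) (kd xd0 yd55 zd23) (kd xd1 yd57 zd11) (kd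 xd0 yd25 zd7) (kd xd1 yd57 zd13) (kd xd0 yd55 zd27) (kd xd1 yd57 zd17) (kd xd1 yd57 zd19) (kd xd0 yd25 zd11) (kd xd1 yd57 zd24) (kd xd0 yd25 zd12) (kd xd1 yd9 zd34) (kd xd0 yd25 zd13) (kd xd1 yd10 zd11) (kd xd1 yd57 zd29) (kd xd0 yd25 zd15) (kd xd0 yd55 zd18) (kd xd1 yd57 zd35) (kd xd0 yd25 zd16) (kd xd1 yd57 zd38) (kd xd1 yd56 zd43) (kd xd0 yd32 zd29) (kd xd1 yd57 zd45) (kd xd0 yd25 zd18) (kd xd1 yd57 zd48) (kd xd1 yd57 zd49) (kd xd0 yd25 zd19) (kd xd1 yd57 zd54) (kd xd1 yd57 zd55) (kd xd0 yd25 zd20) (kd xd0 yd54 zd56) (kd xd1 yd57 zd61) (kd xd0 yd25 zd21) (kd xd1 yd58 zd2) (kd xd1 yd10 zd17) (kd xd0 yd55 zd8) (kd xd1 yd58 zd9) (kd xd0 yd25 zd23) (kd xd0 yd25 zd24) (kd xd1 yd58 zd15)) (@D3.rec (fun _ => Pt) (kd xd1 yd58 zd17) (kd xd0 yd25 zd26) (kd xd1 yd58 zd22) (kd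 xd1 yd58 zd24) (kd xd0 yd25 zd27) (kd xd1 yd58 zd28) (kd xd1 yd58 zd29) (kd xd1 yd58 zd32) (kd xd0 yd25 zd28) (kd xd1 yd58 zd37) (kd xd1 yd58 zd38) (kd xd0 yd25 zd29) (kd xd1 yd58 zd45) (kd xd1 yd58 zd49) (kd xd0 yd25 zd30) (kd xd1 yd58 zd54) (kd xd0 yd58 zd32) (kd xd0 yd59 zd25) (kd xd1 yd59 zd3) (kd xd0 yd25 zd32) (kd xd0 yd25 zd33) (kd xd1 yd59 zd11) (kd xd0 yd55 zd17) (kd xd1 yd10 zd3) (kd xd1 yd57 zd32) (kd xd1 yd59 zd16) (kd xd0 yd25 zd35) (kd xd1 yd9 zd33) (kd xd1 yd59 zd18) (kd xd0 yd25 zd36) (kd xd1 yd59 zd23) (kd xd1 yd59 zd26) (kd xd0 yd32 zd38) (kd xd0 yd25 zd38) (kd xd1 yd10 zd12) (kd xd0 yd25 zd39) (kd xd0 yd28 zd10) (kd xd0 yd25 zd40) (kd xd1 yd11 zd58) (kd xd1 yd55 zd26) (kd xd0 yd28 zd5) (kd xd1 yd59 zd34) (kd xd0 yd25 zd42) (kd xd0 yd57 zd9) (kd xd0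 yd59 zd31) (kd xd1 yd59 zd38) (kd xd1 yd59 zd39) (kd xd1 yd59 zd42) (kd xd1 yd59 zd46) (kd xd1 yd59 zd49) (kd xd0 yd25 zd46) (kd xd1 yd59 zd54) (kd xd0 yd36 zd12) (kd xd0 yd28 zd48) (kd xd1 yd59 zd59) (kd xd0 yd25 zd48) (kd xd0 yd25 zd49) (kd xd0 yd32 zd40) (kd xd0 yd32 zd6) (kd xd0 yd26 zd40) (kd xd2 yd0 zd4) (kd xd0 yd32 zd41)) (@D3.rec (fun _ => Pt) (kd xd2 yd0 zd7) (kd xd0 yd25 zd53) (kd xd1 yd1 zd33) (kd xd2 yd0 zd9) (kd xd2 yd0 zd11) (kd xd0 yd32 zd32) (kd xd2 yd0 zd16) (kd xd0 yd25 zd56) (kd xd2 yd0 zd20) (kd xd0 yd56 zd43) (kd xd1 yd8 zd38) (kd xd2 yd0 zd23) (kd xd2 yd0 zd24) (kd xd2 yd0 zd27) (kd xd2 yd0 zd31) (kd xd2 yd0 zd35) (kd xd0 yd25 zd61) (kd xd2 yd0 zd40) (kd xd2 yd0 zd41) (kd xd0 yd26 zd0) (kd xd2 yd0 zd45) (kd xd0 yd26 zd1) (kd xd1 yd13 zd0) (kd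 xd1 yd3 zd11) (kd xd2 yd0 zd52) (kd xd0 yd26 zd3) (kd xd0 yd32 zd11) (kd xd0 yd27 zd28) (kd xd1 yd25 zd55) (kd xd0 yd54 zd57) (kd xd1 yd25 zd56) (kd xd0 yd26 zd7) (kd xd0 yd54 zd50) (kd xd2 yd0 zd61) (kd xd0 yd26 zd10) (kd xd2 yd1 zd4) (kd xd0 yd57 zd36) (kd xd0 yd34 zd37) (kd xd2 yd1 zd8) (kd xd2 yd1 zd10) (kd xd0 yd26 zd13) (kd xd2 yd1 zd14) (kd xd2 yd1 zd16) (kd xd2 yd1 zd19) (kd xd2 yd1 zd21) (kd xd0 yd26 zd16) (kd xd2 yd1 zd25) (kd xd2 yd1 zd28) (kd xd2 yd1 zd30) (kd xd0 yd26 zd17) (kd xd2 yd1 zd35) (kd xd2 yd1 zd36) (kd xd2 yd1 zd39) (kd xd0 yd26 zd18) (kd xd2 yd1 zd46) (kd xd2 yd1 zd51) (kd xd2 yd1 zd54) (kd xd0 yd26 zd19) (kd xd2 yd1 zd58) (kd xd2 yd2 zd0) (kd xd2 yd2 zd4) (kd xd2 yd2 zd9)) (@D3.rec (fun _ => Pt) (kd xd0 yd26 zd21) (kd xd2 yd2 zd12) (kd xd2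 yd2 zd13) (kd xd2 yd2 zd16) (kd xd0 yd26 zd22) (kd xd1 yd14 zd59) (kd xd1 yd0 zd26) (kd xd0 yd58 zd23) (kd xd1 yd14 zd60) (kd xd1 yd12 zd1) (kd xd0 yd34 zd31) (kd xd2 yd2 zd34) (kd xd2 yd2 zd35) (kd xd0 yd26 zd25) (kd xd2 yd2 zd40) (kd xd0 yd58 zd20) (kd xd2 yd2 zd45) (kd xd0 yd26 zd27) (kd xd0 yd35 zd37) (kd xd1 yd9 zd10) (kd xd0 yd58 zd15) (kd xd2 yd2 zd55) (kd xd1 yd9 zd11) (kd xd0 yd58 zd7) (kd xd1 yd13 zd25) (kd xd0 yd58 zd56) (kd xd0 yd58 zd44) (kd xd2 yd3 zd8) (kd xd0 yd26 zd30) (kd xd0 yd27 zd21) (kd xd0 yd58 zd30) (kd xd0 yd28 zd8) (kd xd0 yd56 zd16) (kd xd1 yd59 zd28) (kd xd1 yd13 zd36) (kd xd1 yd13 zd35) (kd xd0 yd26 zd34) (kd xd1 yd0 zd51) (kd xd2 yd3 zd20) (kd xd2 yd3 zd21) (kd xd0 yd26 zd35) (kd xd1 yd11 zd47) (kd xd0 yd28 zd57) (kd xd0 yd36 zd37) (kd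 xd0 yd58 zd26) (kd xd1 yd11 zd49) (kd xd1 yd13 zd1) (kd xd0 yd33 zd56) (kd xd0 yd32 zd36) (kd xd1 yd0 zd20) (kd xd1 yd9 zd22) (kd xd0 yd26 zd41) (kd xd2 yd3 zd45) (kd xd2 yd3 zd46) (kd xd0 yd26 zd44) (kd xd1 yd18 zd22) (kd xd0 yd58 zd25) (kd xd1 yd18 zd24) (kd xd0 yd32 zd24) (kd xd1 yd3 zd8) (kd xd1 yd9 zd24) (kd xd0 yd54 zd37)) (@D3.rec (fun _ => Pt) (kd xd2 yd4 zd1) (kd xd0 yd26 zd52) (kd xd0 yd26 zd53) (kd xd0 yd54 zd27) (kd xd2 yd4 zd6) (kd xd0 yd26 zd55) (kd xd0 yd26 zd58) (kd xd2 yd4 zd10) (kd xd0 yd32 zd15) (kd xd2 yd4 zd14) (kd xd2 yd4 zd17) (kd xd2 yd4 zd19) (kd xd2 yd4 zd22) (kd xd2 yd4 zd26) (kd xd0 yd26 zd60) (kd xd2 yd4 zd31) (kd xd2 yd4 zd32) (kd xd0 yd26 zd61) (kd xd2 yd4 zd35) (kd xd0 yd27 zd0) (kd xd2 yd4 zd38) (kd xd1 yd57 zd25) (kd xd1 yd19 zd46)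 (kd xd2 yd4 zd46) (kd xd0 yd27 zd2) (kd xd0 yd56 zd17) (kd xd0 yd28 zd9) (kd xd1 yd1 zd29) (kd xd2 yd4 zd50) (kd xd0 yd27 zd5) (kd xd2 yd4 zd54) (kd xd0 yd56 zd44) (kd xd2 yd4 zd56) (kd xd2 yd4 zd58) (kd xd0 yd27 zd7) (kd xd2 yd5 zd0) (kd xd2 yd5 zd2) (kd xd2 yd5 zd4) (kd xd0 yd27 zd8) (kd xd2 yd5 zd9) (kd xd0 yd27 zd9) (kd xd2 yd5 zd15) (kd xd2 yd5 zd18) (kd xd2 yd5 zd20) (kd xd0 yd27 zd10) (kd xd1 yd17 zd18) (kd xd1 yd17 zd21) (kd xd1 yd17 zd22) (kd xd2 yd5 zd34) (kd xd0 yd27 zd12) (kd xd2 yd5 zd38) (kd xd2 yd5 zd39) (kd xd0 yd27 zd13) (kd xd1 yd14 zd29) (kd xd0 yd28 zd40) (kd xd0 yd35 zd50) (kd xd1 yd0 zd10) (kd xd1 yd14 zd30) (kd xd1 yd13 zd23) (kd xd0 yd34 zd46) (kd xd2 yd5 zd58) (kd xd2 yd5 zd59))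
def f_d_1 : D2 → D3 → Pt := @D2.rec (fun _ => D3 → Pt) (@D3.rec (fun _ => Pt) (kd xd0 yd27 zd16) (kd xd1 yd16 zd58) (kd xd1 yd0 zd7) (kd xd1 yd16 zd60) (kd xd0 yd28 zd41) (kd xd1 yd2 zd44) (kd xd1 yd9 zd28) (kd xd1 yd0 zd2) (kd xd1 yd17 zd29) (kd xd1 yd9 zd29) (kd xd0 yd59 zd56) (kd xd1 yd12 zd3) (kd xd1 yd0 zd40) (kd xd1 yd0 zd21) (kd xd2 yd3 zd9) (kd xd1 yd0 zd15) (kd xd2 yd6 zd36) (kd xd2 yd6 zd37) (kd xd0 yd27 zd23) (kd xd1 yd13 zd12) (kd xd0 yd58 zd49) (kd xd1 yd0 zd13) (kd xd1 yd13 zd14) (kd xd1 yd11 zd34) (kd xd0 yd33 zd13) (kd xd0 yd54 zd53) (kd xd0 yd58 zd6) (kd xd1 yd8 zd59) (kd xd2 yd0 zd42) (kd xd0 yd27 zd29) (kd xd0 yd27 zd32) (kd xd2 yd7 zd2) (kd xd1 yd57 zd22) (kd xd0 yd54 zd28) (kd xd0 yd27 zd34) (kd xd1 yd10 zd23) (kd xd2 yd7 zd6) (kd xd2 yd7 zd7) (kd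 xd0 yd27 zd35) (kd xd2 yd7 zd15) (kd xd1 yd0 zd12) (kd xd2 yd7 zd20) (kd xd0 yd27 zd37) (kd xd0 yd36 zd7) (kd xd1 yd8 zd61) (kd xd1 yd19 zd30) (kd xd2 yd7 zd26) (kd xd0 yd27 zd42) (kd xd2 yd7 zd29) (kd xd2 yd7 zd30) (kd xd0 yd27 zd43) (kd xd0 yd58 zd37) (kd xd2 yd7 zd35) (kd xd0 yd27 zd45) (kd xd2 yd7 zd37) (kd xd2 yd7 zd39) (kd xd0 yd27 zd47) (kd xd2 yd7 zd42) (kd xd2 yd7 zd43) (kd xd0 yd27 zd48) (kd xd2 yd0 zd0) (kd xd2 yd7 zd49)) (@D3.rec (fun _ => Pt) (kd xd0 yd27 zd50) (kd xd2 yd7 zd51) (kd xd0 yd27 zd52) (kd xd2 yd7 zd55) (kd xd2 yd7 zd56) (kd xd2 yd7 zd58) (kd xd0 yd27 zd55) (kd xd2 yd7 zd61) (kd xd2 yd8 zd0) (kd xd2 yd8 zd2) (kd xd2 yd8 zd3) (kd xd2 yd8 zd5) (kd xd0 yd27 zd59) (kd xd2 yd8 zd9) (kd xd2 yd8 zd10) (kd xd0 yd27 zd60) (kd xd2 yd8 zd14) (kd xd0 yd27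 zd61) (kd xd1 yd58 zd13) (kd xd2 yd8 zd20) (kd xd0 yd28 zd0) (kd xd1 yd58 zd40) (kd xd1 yd58 zd53) (kd xd1 yd57 zd30) (kd xd2 yd8 zd32) (kd xd0 yd28 zd2) (kd xd2 yd8 zd35) (kd xd0 yd28 zd3) (kd xd1 yd57 zd52) (kd xd0 yd59 zd27) (kd xd2 yd8 zd43) (kd xd1 yd59 zd32) (kd xd1 yd13 zd51) (kd xd0 yd57 zd2) (kd xd2 yd8 zd46) (kd xd0 yd28 zd6) (kd xd1 yd19 zd6) (kd xd2 yd8 zd51) (kd xd2 yd8 zd53) (kd xd1 yd28 zd22) (kd xd2 yd8 zd59) (kd xd1 yd59 zd30) (kd xd2 yd9 zd1) (kd xd2 yd9 zd4) (kd xd2 yd9 zd9) (kd xd0 yd28 zd11) (kd xd2 yd9 zd15) (kd xd1 yd1 zd47) (kd xd2 yd9 zd18) (kd xd2 yd9 zd21) (kd xd2 yd9 zd25) (kd xd0 yd28 zd13) (kd xd2 yd9 zd30) (kd xd2 yd9 zd32) (kd xd0 yd42 zd5) (kd xd2 yd9 zd37) (kd xd0 yd28 zd15) (kd xd2 yd9 zd41) (kd xd2 yd8 zd61) (kd xd1 yd28 zd48) (kd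 xd2 yd9 zd47) (kd xd0 yd28 zd17)) (@D3.rec (fun _ => Pt) (kd xd2 yd9 zd52) (kd xd0 yd28 zd18) (kd xd2 yd9 zd57) (kd xd2 yd8 zd45) (kd xd1 yd28 zd50) (kd xd1 yd2 zd5) (kd xd0 yd28 zd21) (kd xd2 yd10 zd0) (kd xd2 yd10 zd5) (kd xd0 yd28 zd22) (kd xd2 yd10 zd8) (kd xd2 yd10 zd14) (kd xd2 yd10 zd19) (kd xd2 yd10 zd21) (kd xd0 yd28 zd23) (kd xd2 yd10 zd26) (kd xd0 yd55 zd21) (kd xd0 yd40 zd30) (kd xd2 yd9 zd14) (kd xd0 yd28 zd25) (kd xd2 yd10 zd38) (kd xd2 yd10 zd40) (kd xd2 yd10 zd42) (kd xd2 yd10 zd46) (kd xd2 yd10 zd48) (kd xd0 yd28 zd28) (kd xd2 yd10 zd52) (kd xd2 yd10 zd53) (kd xd0 yd28 zd29) (kd xd2 yd10 zd57) (kd xd2 yd10 zd58) (kd xd0 yd28 zd30) (kd xd2 yd11 zd0) (kd xd2 yd11 zd1) (kd xd0 yd28 zd31) (kd xd2 yd11 zd8) (kd xd0 yd28 zd32) (kd xd2 yd6 zd0) (kd xd2 yd6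 zd3) (kd xd2 yd6 zd4) (kd xd2 yd11 zd21) (kd xd0 yd28 zd34) (kd xd0 yd28 zd35) (kd xd1 yd25 zd20) (kd xd1 yd0 zd5) (kd xd2 yd11 zd34) (kd xd1 yd25 zd22) (kd xd1 yd16 zd28) (kd xd0 yd35 zd28) (kd xd2 yd11 zd39) (kd xd0 yd28 zd38) (kd xd2 yd5 zd48) (kd xd2 yd11 zd44) (kd xd2 yd5 zd50) (kd xd2 yd5 zd24) (kd xd2 yd11 zd51) (kd xd2 yd11 zd55) (kd xd1 yd25 zd9) (kd xd2 yd11 zd61) (kd xd1 yd25 zd11) (kd xd2 yd12 zd5) (kd xd2 yd12 zd8)) (@D3.rec (fun _ => Pt) (kd xd2 yd12 zd13) (kd xd0 yd28 zd43) (kd xd0 yd37 zd10) (kd xd1 yd3 zd3) (kd xd0 yd36 zd49) (kd xd1 yd25 zd42) (kd xd1 yd12 zd47) (kd xd0 yd36 zd29) (kd xd0 yd58 zd59) (kd xd2 yd12 zd15) (kd xd1 yd59 zd57) (kd xd0 yd57 zd23) (kd xd1 yd19 zd55) (kd xd1 yd19 zd54) (kd xd1 yd19 zd29) (kd xd2 yd12 zd31) (kd xd0 yd28 zd51)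 (kd xd2 yd12 zd34) (kd xd0 yd29 zd31) (kd xd0 yd29 zd30) (kd xd2 yd12 zd37) (kd xd0 yd28 zd55) (kd xd2 yd3 zd30) (kd xd2 yd12 zd16) (kd xd2 yd3 zd32) (kd xd2 yd12 zd52) (kd xd0 yd28 zd58) (kd xd0 yd36 zd28) (kd xd0 yd28 zd60) (kd xd2 yd12 zd56) (kd xd0 yd28 zd61) (kd xd0 yd36 zd46) (kd xd0 yd36 zd45) (kd xd0 yd37 zd18) (kd xd2 yd13 zd1) (kd xd0 yd29 zd2) (kd xd2 yd13 zd4) (kd xd0 yd29 zd21) (kd xd1 yd5 zd19) (kd xd2 yd13 zd10) (kd xd0 yd29 zd4) (kd xd2 yd13 zd13) (kd xd2 yd13 zd19) (kd xd0 yd29 zd5) (kd xd2 yd13 zd22) (kd xd2 yd13 zd27) (kd xd2 yd13 zd30) (kd xd2 yd13 zd32) (kd xd0 yd29 zd6) (kd xd2 yd13 zd37) (kd xd0 yd54 zd49) (kd xd0 yd54 zd54) (kd xd0 yd36 zd0) (kd xd0 yd29 zd46) (kd xd0 yd29 zd8) (kd xd2 yd13 zd49) (kd xd0 yd29 zd10) (kd xd0 yd31 zd44) (kd xd0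 yd37 zd41) (kd xd2 yd13 zd51) (kd xd0 yd29 zd12) (kd xd2 yd13 zd56)) (@D3.rec (fun _ => Pt) (kd xd2 yd13 zd57) (kd xd0 yd29 zd14) (kd xd2 yd14 zd1) (kd xd0 yd29 zd15) (kd xd2 yd14 zd4) (kd xd0 yd29 zd16) (kd xd1 yd24 zd45) (kd xd1 yd21 zd59) (kd xd1 yd21 zd60) (kd xd2 yd14 zd11) (kd xd0 yd29 zd18) (kd xd2 yd14 zd16) (kd xd0 yd29 zd20) (kd xd2 yd14 zd19) (kd xd2 yd14 zd21) (kd xd2 yd13 zd52) (kd xd2 yd13 zd53) (kd xd2 yd14 zd24) (kd xd0 yd29 zd25) (kd xd1 yd14 zd4) (kd xd2 yd14 zd12) (kd xd2 yd14 zd13) (kd xd2 yd14 zd30) (kd xd0 yd29 zd27) (kd xd2 yd14 zd35) (kd xd2 yd14 zd37) (kd xd2 yd14 zd40) (kd xd2 yd14 zd42) (kd xd0 yd29 zd29) (kd xd2 yd14 zd44) (kd xd2 yd14 zd46) (kd xd2 yd14 zd48) (kd xd2 yd14 zd50) (kd xd2 yd14 zd52) (kd xd2 yd14 zd53) (kd xd0 yd29 zd33) (kd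 xd2 yd14 zd59) (kd xd2 yd15 zd1) (kd xd0 yd29 zd35) (kd xd2 yd15 zd4) (kd xd2 yd15 zd6) (kd xd2 yd15 zd9) (kd xd2 yd15 zd12) (kd xd2 yd15 zd16) (kd xd0 yd29 zd36) (kd xd2 yd15 zd22) (kd xd2 yd15 zd26) (kd xd0 yd29 zd38) (kd xd2 yd15 zd29) (kd xd0 yd44 zd46) (kd xd2 yd15 zd32) (kd xd2 yd15 zd36) (kd xd2 yd15 zd42) (kd xd0 yd29 zd39) (kd xd2 yd15 zd50) (kd xd2 yd15 zd48) (kd xd2 yd15 zd54) (kd xd2 yd15 zd56) (kd xd0 yd29 zd40) (kd xd2 yd15 zd61) (kd xd0 yd29 zd41) (kd xd1 yd5 zd26)) (@D3.rec (fun _ => Pt) (kd xd0 yd42 zd9) (kd xd2 yd16 zd10) (kd xd2 yd13 zd36) (kd xd2 yd16 zd16) (kd xd0 yd30 zd4) (kd xd2 yd16 zd22) (kd xd0 yd30 zd25) (kd xd2 yd16 zd29) (kd xd2 yd16 zd32) (kd xd2 yd16 zd35) (kd xd2 yd13 zd47) (kd xd2 yd16 zd36) (kd xd2 yd16 zd38) (kd xd0 yd29 zd47) (kd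 xd2 yd16 zd42) (kd xd2 yd16 zd43) (kd xd0 yd29 zd48) (kd xd2 yd16 zd45) (kd xd0 yd29 zd49) (kd xd1 yd3 zd38) (kd xd2 yd16 zd50) (kd xd0 yd29 zd50) (kd xd2 yd1 zd1) (kd xd2 yd16 zd56) (kd xd0 yd29 zd55) (kd xd2 yd16 zd60) (kd xd1 yd4 zd61) (kd xd2 yd15 zd45) (kd xd0 yd29 zd57) (kd xd2 yd16 zd59) (kd xd2 yd17 zd8) (kd xd2 yd17 zd10) (kd xd1 yd7 zd49) (kd xd2 yd17 zd12) (kd xd2 yd17 zd14) (kd xd0 yd29 zd61) (kd xd0 yd31 zd0) (kd xd0 yd30 zd58) (kd xd2 yd17 zd23) (kd xd0 yd31 zd9) (kd xd0 yd39 zd48) (kd xd2 yd17 zd32) (kd xd2 yd17 zd36) (kd xd2 yd17 zd40) (kd xd0 yd31 zd20) (kd xd1 yd10 zd29) (kd xd0 yd54 zd55) (kd xd1 yd23 zd14) (kd xd1 yd23 zd15) (kd xd2 yd16 zd17) (kd xd2 yd17 zd49) (kd xd0 yd30 zd5) (kd xd2 yd17 zd54) (kd xd0 yd30 zd6) (kd xd0 yd39 zd56) (kd xd2 yd17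 zd56) (kd xd0 yd30 zd7) (kd xd2 yd17 zd58) (kd xd1 yd37 zd34) (kd xd1 yd37 zd35) (kd xd1 yd32 zd45) (kd xd1 yd34 zd36)) (@D3.rec (fun _ => Pt) (kd xd1 yd33 zd30) (kd xd0 yd30 zd12) (kd xd2 yd18 zd1) (kd xd0 yd30 zd38) (kd xd0 yd30 zd39) (kd xd2 yd18 zd8) (kd xd2 yd18 zd12) (kd xd2 yd18 zd15) (kd xd2 yd18 zd17) (kd xd0 yd30 zd14) (kd xd2 yd18 zd19) (kd xd2 yd18 zd21) (kd xd2 yd18 zd23) (kd xd0 yd30 zd15) (kd xd2 yd18 zd27) (kd xd0 yd30 zd16) (kd xd2 yd18 zd31) (kd xd0 yd30 zd17) (kd xd2 yd18 zd35) (kd xd0 yd30 zd19) (kd xd2 yd18 zd39) (kd xd0 yd30 zd20) (kd xd1 yd6 zd22) (kd xd2 yd18 zd46) (kd xd0 yd30 zd23) (kd xd2 yd18 zd49) (kd xd2 yd18 zd51) (kd xd2 yd18 zd52) (kd xd0 yd40 zd50) (kd xd1 yd22 zd51) (kd xd1 yd22 zd52) (kd xd2 yd16 zd24) (kd xd2 yd18 zd60) (kd xd0 yd30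 zd26) (kd xd2 yd19 zd3) (kd xd0 yd30 zd27) (kd xd0 yd30 zd28) (kd xd1 yd32 zd34) (kd xd1 yd7 zd25) (kd xd1 yd32 zd37) (kd xd1 yd7 zd24) (kd xd2 yd19 zd6) (kd xd0 yd30 zd32) (kd xd2 yd19 zd9) (kd xd0 yd30 zd43) (kd xd0 yd30 zd44) (kd xd2 yd19 zd18) (kd xd2 yd19 zd21) (kd xd1 yd30 zd17) (kd xd0 yd30 zd34) (kd xd2 yd3 zd37) (kd xd2 yd19 zd28) (kd xd2 yd19 zd30) (kd xd0 yd30 zd35) (kd xd2 yd19 zd35) (kd xd1 yd37 zd31) (kd xd0 yd30 zd37) (kd xd2 yd19 zd37) (kd xd2 yd19 zd39) (kd xd0 yd30 zd40) (kd xd2 yd19 zd40) (kd xd1 yd6 zd61)) (@D3.rec (fun _ => Pt) (kd xd2 yd19 zd42) (kd xd1 yd30 zd28) (kd xd2 yd19 zd10) (kd xd2 yd19 zd46) (kd xd2 yd19 zd13) (kd xd2 yd19 zd47) (kd xd0 yd30 zd45) (kd xd0 yd30 zd47) (kd xd2 yd19 zd51) (kd xd1 yd7 zd10) (kd xd1 yd7 zd9) (kd xd2 yd19 zd53)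 (kd xd0 yd30 zd50) (kd xd2 yd19 zd57) (kd xd2 yd19 zd58) (kd xd0 yd30 zd51) (kd xd0 yd30 zd52) (kd xd0 yd40 zd2) (kd xd0 yd40 zd3) (kd xd2 yd20 zd7) (kd xd1 yd7 zd20) (kd xd1 yd37 zd13) (kd xd1 yd36 zd8) (kd xd1 yd7 zd23) (kd xd1 yd6 zd40) (kd xd1 yd6 zd38) (kd xd0 yd46 zd11) (kd xd0 yd30 zd57) (kd xd2 yd20 zd19) (kd xd0 yd43 zd43) (kd xd2 yd20 zd20) (kd xd0 yd30 zd59) (kd xd2 yd20 zd23) (kd xd0 yd30 zd60) (kd xd2 yd20 zd28) (kd xd2 yd20 zd33) (kd xd1 yd7 zd36) (kd xd0 yd43 zd35) (kd xd0 yd31 zd2) (kd xd1 yd49 zd48) (kd xd2 yd20 zd38) (kd xd0 yd43 zd40) (kd xd0 yd41 zd9) (kd xd0 yd41 zd8) (kd xd2 yd20 zd47) (kd xd2 yd17 zd16) (kd xd0 yd47 zd50) (kd xd2 yd20 zd56) (kd xd2 yd20 zd60) (kd xd1 yd5 zd32) (kd xd2 yd21 zd3) (kd xd2 yd21 zd6) (kd xd2 yd21 zd9) (kd xd2 yd21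 zd12) (kd xd2 yd21 zd17) (kd xd0 yd31 zd8) (kd xd2 yd21 zd26) (kd xd2 yd21 zd23) (kd xd1 yd37 zd5) (kd xd1 yd8 zd25) (kd xd2 yd17 zd27) (kd xd2 yd21 zd36)) (@D3.rec (fun _ => Pt) (kd xd2 yd21 zd38) (kd xd2 yd21 zd41) (kd xd0 yd31 zd11) (kd xd0 yd45 zd15) (kd xd2 yd21 zd48) (kd xd2 yd21 zd52) (kd xd2 yd21 zd55) (kd xd2 yd21 zd56) (kd xd0 yd31 zd13) (kd xd2 yd21 zd61) (kd xd0 yd45 zd20) (kd xd2 yd22 zd2) (kd xd2 yd22 zd6) (kd xd2 yd22 zd8) (kd xd2 yd22 zd10) (kd xd0 yd31 zd15) (kd xd2 yd22 zd14) (kd xd1 yd26 zd4) (kd xd1 yd26 zd0) (kd xd0 yd38 zd36) (kd xd2 yd22 zd24) (kd xd2 yd22 zd27) (kd xd2 yd22 zd30) (kd xd0 yd31 zd17) (kd xd2 yd22 zd35) (kd xd1 yd7 zd59) (kd xd2 yd22 zd40) (kd xd0 yd31 zd18) (kd xd1 yd36 zd56) (kd xd2 yd22 zd47) (kd xd1 yd37 zd2) (kd xd2 yd22 zd49)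 (kd xd2 yd22 zd50) (kd xd2 yd22 zd53) (kd xd0 yd31 zd21) (kd xd0 yd31 zd22) (kd xd0 yd40 zd1) (kd xd1 yd27 zd31) (kd xd0 yd57 zd10) (kd xd2 yd23 zd4) (kd xd2 yd23 zd6) (kd xd0 yd31 zd25) (kd xd2 yd23 zd10) (kd xd2 yd23 zd12) (kd xd2 yd23 zd14) (kd xd0 yd31 zd26) (kd xd2 yd23 zd19) (kd xd2 yd23 zd20) (kd xd2 yd23 zd22) (kd xd0 yd31 zd27) (kd xd2 yd23 zd27) (kd xd2 yd23 zd30) (kd xd2 yd23 zd32) (kd xd0 yd31 zd28) (kd xd2 yd12 zd39) (kd xd2 yd12 zd42) (kd xd2 yd12 zd43) (kd xd2 yd23 zd46) (kd xd0 yd31 zd30) (kd xd1 yd0 zd27) (kd xd2 yd12 zd47) (kd xd1 yd0 zd44)) (@D3.rec (fun _ => Pt) (kd xd1 yd13 zd3) (kd xd2 yd24 zd2) (kd xd0 yd31 zd33) (kd xd0 yd31 zd55) (kd xd1 yd9 zd4) (kd xd0 yd31 zd35) (kd xd2 yd7 zd53) (kd xd1 yd57 zd21) (kd xd1 yd11 zd59) (kd xd0 yd33 zd29) (kd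 xd0 yd58 zd19) (kd xd0 yd58 zd22) (kd xd1 yd18 zd61) (kd xd0 yd40 zd48) (kd xd0 yd31 zd46) (kd xd1 yd12 zd43) (kd xd0 yd33 zd43) (kd xd0 yd36 zd26) (kd xd1 yd19 zd9) (kd xd1 yd19 zd10) (kd xd2 yd24 zd24) (kd xd0 yd31 zd52) (kd xd0 yd58 zd50) (kd xd1 yd19 zd16) (kd xd0 yd58 zd60) (kd xd1 yd11 zd36) (kd xd2 yd24 zd3) (kd xd1 yd9 zd27) (kd xd1 yd0 zd6) (kd xd1 yd0 zd9) (kd xd0 yd32 zd0) (kd xd0 yd32 zd1) (kd xd1 yd57 zd31) (kd xd0 yd56 zd27) (kd xd0 yd55 zd33) (kd xd0 yd32 zd3) (kd xd1 yd14 zd1) (kd xd1 yd14 zd2) (kd xd1 yd12 zd38) (kd xd1 yd12 zd39) (kd xd2 yd24 zd53) (kd xd2 yd24 zd56) (kd xd2 yd24 zd58) (kd xd0 yd32 zd16) (kd xd2 yd24 zd61) (kd xd2 yd25 zd1) (kd xd2 yd25 zd3) (kd xd0 yd32 zd18) (kd xd2 yd25 zd7) (kd xd2 yd25 zd8) (kd xd2 yd25 zd10) (kd xd0 yd32 zd19)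 (kd xd2 yd25 zd14) (kd xd2 yd25 zd15) (kd xd2 yd25 zd18) (kd xd0 yd32 zd20) (kd xd2 yd25 zd23) (kd xd2 yd25 zd26) (kd xd2 yd25 zd28) (kd xd0 yd32 zd21) (kd xd2 yd3 zd49) (kd xd2 yd3 zd52)) (@D3.rec (fun _ => Pt) (kd xd2 yd3 zd53) (kd xd2 yd25 zd41) (kd xd0 yd32 zd23) (kd xd0 yd56 zd23) (kd xd2 yd25 zd47) (kd xd1 yd25 zd30) (kd xd1 yd25 zd32) (kd xd2 yd25 zd58) (kd xd0 yd32 zd26) (kd xd1 yd56 zd19) (kd xd1 yd10 zd10) (kd xd0 yd55 zd35) (kd xd0 yd56 zd34) (kd xd2 yd9 zd11) (kd xd1 yd57 zd41) (kd xd1 yd57 zd57) (kd xd1 yd57 zd58) (kd xd0 yd55 zd56) (kd xd1 yd20 zd23) (kd xd2 yd26 zd12) (kd xd0 yd32 zd48) (kd xd0 yd32 zd34) (kd xd1 yd59 zd6) (kd xd1 yd0 zd35) (kd xd2 yd26 zd18) (kd xd1 yd20 zd25) (kd xd1 yd27 zd61) (kd xd1 yd28 zd54) (kd xd1 yd26 zd23) (kd xd1 yd5 zd45)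 (kd xd2 yd26 zd24) (kd xd2 yd0 zd2) (kd xd1 yd11 zd11) (kd xd2 yd26 zd31) (kd xd2 yd26 zd35) (kd xd2 yd26 zd37) (kd xd0 yd32 zd42) (kd xd2 yd26 zd42) (kd xd1 yd17 zd37) (kd xd0 yd32 zd56) (kd xd0 yd32 zd44) (kd xd2 yd26 zd50) (kd xd0 yd32 zd46) (kd xd2 yd26 zd54) (kd xd2 yd26 zd57) (kd xd1 yd10 zd45) (kd xd2 yd26 zd58) (kd xd2 yd26 zd61) (kd xd2 yd27 zd2) (kd xd2 yd27 zd6) (kd xd0 yd32 zd51) (kd xd2 yd27 zd14) (kd xd2 yd27 zd12) (kd xd2 yd27 zd20) (kd xd2 yd27 zd22) (kd xd0 yd32 zd52) (kd xd2 yd27 zd27) (kd xd0 yd32 zd53) (kd xd1 yd24 zd48) (kd xd1 yd24 zd49) (kd xd2 yd27 zd41) (kd xd2 yd26 zd41)) (@D3.rec (fun _ => Pt) (kd xd0 yd32 zd55) (kd xd2 yd27 zd49) (kd xd2 yd27 zd51) (kd xd2 yd27 zd54) (kd xd2 yd26 zd48) (kd xd2 yd27 zd55) (kd xd0 yd32 zd58) (kd xd2 yd27 zd59)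 (kd xd0 yd32 zd59) (kd xd2 yd28 zd0) (kd xd0 yd32 zd60) (kd xd1 yd10 zd32) (kd xd2 yd28 zd3) (kd xd0 yd33 zd0) (kd xd2 yd28 zd5) (kd xd0 yd33 zd2) (kd xd2 yd28 zd7) (kd xd2 yd28 zd8) (kd xd0 yd33 zd3) (kd xd2 yd28 zd11) (kd xd2 yd28 zd13) (kd xd2 yd28 zd15) (kd xd0 yd33 zd4) (kd xd2 yd23 zd17) (kd xd2 yd28 zd21) (kd xd2 yd28 zd23) (kd xd0 yd33 zd5) (kd xd2 yd28 zd27) (kd xd2 yd23 zd28) (kd xd2 yd23 zd13) (kd xd2 yd28 zd37) (kd xd0 yd33 zd7) (kd xd0 yd33 zd8) (kd xd0 yd39 zd32) (kd xd1 yd0 zd23) (kd xd2 yd28 zd52) (kd xd1 yd9 zd25) (kd xd2 yd28 zd57) (kd xd2 yd28 zd58) (kd xd0 yd33 zd10) (kd xd2 yd29 zd4) (kd xd2 yd29 zd6) (kd xd2 yd29 zd9) (kd xd0 yd33 zd12) (kd xd2 yd6 zd45) (kd xd2 yd29 zd15) (kd xd2 yd12 zd22) (kd xd0 yd58 zd41) (kd xd2 yd29 zd24) (kd xd0 yd58 zd45)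 (kd xd2 yd29 zd30) (kd xd2 yd29 zd33) (kd xd2 yd29 zd38) (kd xd0 yd33 zd15) (kd xd1 yd14 zd3) (kd xd1 yd11 zd55) (kd xd2 yd29 zd45) (kd xd0 yd33 zd17) (kd xd0 yd56 zd38) (kd xd1 yd9 zd8) (kd xd2 yd29 zd56) (kd xd0 yd33 zd19)) (@D3.rec (fun _ => Pt) (kd xd0 yd39 zd18) (kd xd0 yd58 zd9) (kd xd2 yd29 zd40) (kd xd1 yd0 zd11) (kd xd0 yd39 zd29) (kd xd2 yd30 zd9) (kd xd2 yd30 zd11) (kd xd2 yd30 zd12) (kd xd2 yd30 zd15) (kd xd2 yd30 zd18) (kd xd0 yd33 zd23) (kd xd0 yd33 zd24) (kd xd2 yd30 zd24) (kd xd2 yd29 zd41) (kd xd2 yd30 zd28) (kd xd0 yd33 zd26) (kd xd2 yd30 zd34) (kd xd0 yd33 zd27) (kd xd2 yd30 zd37) (kd xd2 yd30 zd39) (kd xd0 yd37 zd52) (kd xd2 yd30 zd41) (kd xd0 yd33 zd30) (kd xd2 yd17 zd52) (kd xd2 yd30 zd48) (kd xd0 yd33 zd32) (kd xd2 yd30 zd51) (kd xd2 yd30 zd52)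 (kd xd0 yd33 zd34) (kd xd2 yd13 zd60) (kd xd2 yd30 zd60) (kd xd0 yd33 zd35) (kd xd2 yd31 zd1) (kd xd2 yd31 zd5) (kd xd2 yd31 zd10) (kd xd2 yd31 zd11) (kd xd0 yd33 zd36) (kd xd2 yd31 zd16) (kd xd1 yd9 zd38) (kd xd1 yd9 zd39) (kd xd1 yd13 zd19) (kd xd0 yd37 zd60) (kd xd0 yd33 zd38) (kd xd1 yd9 zd15) (kd xd0 yd33 zd40) (kd xd0 yd33 zd42) (kd xd0 yd37 zd44) (kd xd1 yd3 zd6) (kd xd2 yd31 zd27) (kd xd0 yd33 zd47) (kd xd1 yd56 zd55) (kd xd2 yd31 zd33) (kd xd0 yd33 zd48) (kd xd2 yd31 zd37) (kd xd2 yd8 zd39) (kd xd1 yd55 zd23) (kd xd2 yd31 zd47) (kd xd0 yd33 zd50) (kd xd2 yd31 zd51) (kd xd2 yd31 zd52) (kd xd2 yd31 zd53) (kd xd0 yd33 zd51)) (@D3.rec (fun _ => Pt) (kd xd0 yd57 zd22) (kd xd0 yd58 zd46) (kd xd2 yd32 zd1) (kd xd1 yd9 zd0) (kd xd0 yd33 zd53) (kd xd2 yd32 zd10) (kd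 xd2 yd32 zd12) (kd xd2 yd32 zd15) (kd xd0 yd33 zd55) (kd xd2 yd3 zd29) (kd xd2 yd32 zd22) (kd xd1 yd18 zd27) (kd xd1 yd0 zd19) (kd xd2 yd32 zd30) (kd xd1 yd0 zd22) (kd xd2 yd32 zd36) (kd xd2 yd32 zd39) (kd xd2 yd32 zd44) (kd xd0 yd33 zd58) (kd xd1 yd12 zd40) (kd xd1 yd13 zd20) (kd xd0 yd33 zd60) (kd xd0 yd35 zd27) (kd xd0 yd59 zd58) (kd xd2 yd32 zd46) (kd xd0 yd58 zd24) (kd xd2 yd30 zd55) (kd xd2 yd30 zd54) (kd xd2 yd30 zd44) (kd xd2 yd30 zd43) (kd xd2 yd33 zd7) (kd xd0 yd34 zd2) (kd xd2 yd33 zd9) (kd xd0 yd34 zd3) (kd xd2 yd33 zd15) (kd xd0 yd58 zd35) (kd xd0 yd58 zd34) (kd xd2 yd33 zd22) (kd xd0 yd34 zd5) (kd xd0 yd34 zd6) (kd xd2 yd33 zd28) (kd xd2 yd32 zd47) (kd xd2 yd33 zd32) (kd xd0 yd34 zd8) (kd xd2 yd33 zd36) (kd xd0 yd34 zd9) (kd xd2 yd33 zd38) (kd xd2 yd33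 zd39) (kd xd0 yd34 zd11) (kd xd1 yd28 zd45) (kd xd2 yd33 zd44) (kd xd1 yd1 zd32) (kd xd2 yd33 zd47) (kd xd0 yd34 zd14) (kd xd2 yd33 zd50) (kd xd2 yd33 zd55) (kd xd0 yd34 zd16) (kd xd1 yd21 zd24) (kd xd2 yd33 zd60) (kd xd0 yd34 zd17) (kd xd2 yd34 zd1) (kd xd2 yd34 zd3)) (@D3.rec (fun _ => Pt) (kd xd0 yd34 zd18) (kd xd1 yd9 zd36) (kd xd1 yd9 zd37) (kd xd1 yd11 zd54) (kd xd1 yd4 zd19) (kd xd0 yd34 zd20) (kd xd2 yd34 zd16) (kd xd0 yd34 zd22) (kd xd2 yd34 zd18) (kd xd2 yd34 zd19) (kd xd0 yd34 zd25) (kd xd2 yd34 zd22) (kd xd2 yd34 zd23) (kd xd0 yd34 zd26) (kd xd2 yd34 zd26) (kd xd2 yd34 zd27) (kd xd2 yd34 zd30) (kd xd0 yd34 zd27) (kd xd2 yd1 zd33) (kd xd2 yd34 zd35) (kd xd2 yd34 zd38) (kd xd0 yd34 zd28) (kd xd2 yd34 zd42) (kd xd2 yd1 zd47) (kd xd2 yd1 zd29) (kd xd2 yd34 zd52)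 (kd xd0 yd34 zd30) (kd xd2 yd2 zd24) (kd xd2 yd11 zd32) (kd xd0 yd59 zd53) (kd xd0 yd59 zd57) (kd xd2 yd35 zd6) (kd xd0 yd34 zd33) (kd xd2 yd15 zd3) (kd xd1 yd14 zd34) (kd xd2 yd35 zd11) (kd xd0 yd34 zd36) (kd xd2 yd35 zd13) (kd xd2 yd35 zd15) (kd xd2 yd35 zd16) (kd xd0 yd34 zd38) (kd xd2 yd35 zd19) (kd xd2 yd35 zd20) (kd xd2 yd35 zd21) (kd xd2 yd35 zd22) (kd xd2 yd35 zd25) (kd xd0 yd34 zd41) (kd xd2 yd35 zd30) (kd xd0 yd34 zd42) (kd xd2 yd5 zd7) (kd xd2 yd35 zd34) (kd xd0 yd34 zd43) (kd xd2 yd35 zd38) (kd xd2 yd5 zd16) (kd xd2 yd5 zd3) (kd xd2 yd35 zd47) (kd xd0 yd34 zd45) (kd xd2 yd5 zd47) (kd xd1 yd17 zd0) (kd xd0 yd58 zd5) (kd xd0 yd58 zd8) (kd xd2 yd36 zd1)) (@D3.rec (fun _ => Pt) (kd xd0 yd34 zd48) (kd xd1 yd22 zd61) (kd xd1 yd15 zd2) (kd xd2 yd36 zd6) (kd xd2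 yd36 zd8) (kd xd0 yd34 zd50) (kd xd2 yd36 zd13) (kd xd2 yd36 zd14) (kd xd0 yd34 zd51) (kd xd2 yd36 zd18) (kd xd0 yd34 zd52) (kd xd2 yd2 zd57) (kd xd2 yd36 zd22) (kd xd2 yd36 zd27) (kd xd0 yd34 zd54) (kd xd0 yd34 zd55) (kd xd2 yd36 zd33) (kd xd0 yd34 zd56) (kd xd2 yd36 zd37) (kd xd2 yd5 zd40) (kd xd2 yd36 zd44) (kd xd0 yd34 zd58) (kd xd2 yd36 zd47) (kd xd0 yd34 zd59) (kd xd2 yd36 zd50) (kd xd2 yd36 zd51) (kd xd0 yd34 zd60) (kd xd1 yd25 zd5) (kd xd2 yd36 zd56) (kd xd0 yd34 zd61) (kd xd2 yd5 zd41) (kd xd2 yd37 zd0) (kd xd1 yd24 zd61) (kd xd2 yd37 zd8) (kd xd0 yd35 zd1) (kd xd0 yd35 zd2) (kd xd0 yd35 zd3) (kd xd2 yd37 zd13) (kd xd2 yd37 zd14) (kd xd0 yd35 zd5) (kd xd2 yd37 zd18) (kd xd2 yd37 zd19) (kd xd0 yd35 zd6) (kd xd2 yd10 zd60) (kd xd0 yd35 zd7) (kd xd2 yd33 zd25)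 (kd xd2 yd11 zd9) (kd xd1 yd58 zd39) (kd xd2 yd37 zd35) (kd xd0 yd35 zd9) (kd xd2 yd37 zd38) (kd xd0 yd35 zd10) (kd xd2 yd37 zd44) (kd xd2 yd37 zd46) (kd xd2 yd37 zd47) (kd xd0 yd35 zd11) (kd xd2 yd37 zd54) (kd xd2 yd2 zd36) (kd xd2 yd2 zd41) (kd xd2 yd38 zd1) (kd xd2 yd38 zd5) (kd xd2 yd38 zd7)) (@D3.rec (fun _ => Pt) (kd xd0 yd35 zd13) (kd xd1 yd25 zd4) (kd xd2 yd38 zd9) (kd xd2 yd38 zd10) (kd xd0 yd35 zd14) (kd xd2 yd38 zd17) (kd xd0 yd35 zd15) (kd xd2 yd38 zd22) (kd xd2 yd38 zd25) (kd xd2 yd38 zd29) (kd xd0 yd35 zd17) (kd xd2 yd5 zd42) (kd xd2 yd38 zd34) (kd xd2 yd38 zd39) (kd xd0 yd35 zd18) (kd xd2 yd38 zd46) (kd xd1 yd58 zd30) (kd xd2 yd38 zd52) (kd xd0 yd35 zd19) (kd xd2 yd38 zd57) (kd xd2 yd38 zd61) (kd xd2 yd39 zd3) (kd xd2 yd39 zd8) (kd xd0 yd35 zd20) (kd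 xd2 yd39 zd14) (kd xd1 yd16 zd25) (kd xd0 yd35 zd22) (kd xd0 yd35 zd55) (kd xd1 yd2 zd47) (kd xd2 yd39 zd25) (kd xd0 yd35 zd57) (kd xd0 yd35 zd25) (kd xd2 yd32 zd55) (kd xd2 yd39 zd34) (kd xd2 yd32 zd56) (kd xd2 yd11 zd30) (kd xd2 yd39 zd41) (kd xd2 yd5 zd52) (kd xd0 yd35 zd35) (kd xd2 yd39 zd49) (kd xd0 yd35 zd39) (kd xd2 yd39 zd54) (kd xd2 yd39 zd57) (kd xd2 yd39 zd61) (kd xd0 yd35 zd30) (kd xd1 yd25 zd57) (kd xd1 yd16 zd46) (kd xd2 yd40 zd4) (kd xd0 yd35 zd32) (kd xd0 yd35 zd33) (kd xd2 yd1 zd23) (kd xd2 yd1 zd31) (kd xd2 yd1 zd59) (kd xd2 yd40 zd19) (kd xd2 yd39 zd47) (kd xd2 yd40 zd25) (kd xd2 yd40 zd28) (kd xd1 yd25 zd17) (kd xd1 yd0 zd1) (kd xd2 yd40 zd33) (kd xd1 yd0 zd3) (kd xd2 yd40 zd39)) (@D3.rec (fun _ => Pt) (kd xd1 yd14 zd58) (kd xd2 yd40 zd42) (kd xd2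 yd40 zd45) (kd xd2 yd40 zd50) (kd xd0 yd35 zd38) (kd xd1 yd28 zd53) (kd xd1 yd17 zd7) (kd xd1 yd17 zd6) (kd xd2 yd39 zd52) (kd xd0 yd35 zd40) (kd xd0 yd35 zd42) (kd xd2 yd40 zd57) (kd xd0 yd35 zd43) (kd xd2 yd5 zd10) (kd xd2 yd41 zd2) (kd xd0 yd35 zd44) (kd xd2 yd41 zd9) (kd xd2 yd41 zd12) (kd xd0 yd59 zd45) (kd xd2 yd41 zd19) (kd xd2 yd41 zd23) (kd xd0 yd59 zd46) (kd xd0 yd59 zd47) (kd xd0 yd35 zd46) (kd xd2 yd5 zd11) (kd xd2 yd41 zd30) (kd xd0 yd35 zd47) (kd xd2 yd41 zd35) (kd xd2 yd2 zd56) (kd xd1 yd0 zd8) (kd xd0 yd35 zd48) (kd xd2 yd41 zd44) (kd xd2 yd5 zd49) (kd xd2 yd41 zd47) (kd xd2 yd41 zd51) (kd xd0 yd35 zd51) (kd xd2 yd41 zd56) (kd xd1 yd10 zd38) (kd xd2 yd42 zd1) (kd xd0 yd35 zd52) (kd xd2 yd42 zd8) (kd xd2 yd42 zd12) (kd xd2 yd42 zd14) (kd xd0 yd35 zd54)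 (kd xd2 yd33 zd31) (kd xd2 yd4 zd51) (kd xd2 yd42 zd22) (kd xd2 yd39 zd21) (kd xd2 yd42 zd30) (kd xd0 yd35 zd56) (kd xd1 yd32 zd58) (kd xd2 yd12 zd1) (kd xd2 yd12 zd2) (kd xd2 yd39 zd29) (kd xd2 yd42 zd44) (kd xd0 yd35 zd58) (kd xd2 yd42 zd49) (kd xd2 yd42 zd55) (kd xd0 yd35 zd59) (kd xd1 yd23 zd21) (kd xd2 yd43 zd1) (kd xd2 yd43 zd6)) (@D3.rec (fun _ => Pt) (kd xd2 yd43 zd8) (kd xd0 yd35 zd60) (kd xd2 yd13 zd43) (kd xd0 yd36 zd8) (kd xd0 yd36 zd34) (kd xd2 yd40 zd2) (kd xd2 yd43 zd22) (kd xd2 yd43 zd25) (kd xd2 yd43 zd29) (kd xd2 yd43 zd31) (kd xd2 yd43 zd32) (kd xd0 yd36 zd2) (kd xd0 yd36 zd3) (kd xd2 yd23 zd8) (kd xd2 yd23 zd15) (kd xd2 yd23 zd36) (kd xd2 yd43 zd48) (kd xd2 yd43 zd52) (kd xd2 yd43 zd56) (kd xd2 yd43 zd59) (kd xd0 yd36 zd5) (kd xd1 yd59 zd55) (kd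 xd0 yd58 zd55) (kd xd2 yd42 zd4) (kd xd0 yd58 zd57) (kd xd2 yd7 zd16) (kd xd2 yd42 zd3) (kd xd1 yd13 zd11) (kd xd2 yd43 zd14) (kd xd1 yd18 zd56) (kd xd1 yd18 zd31) (kd xd1 yd18 zd30) (kd xd0 yd36 zd9) (kd xd2 yd44 zd24) (kd xd2 yd44 zd27) (kd xd0 yd36 zd10) (kd xd2 yd44 zd29) (kd xd2 yd44 zd33) (kd xd0 yd36 zd14) (kd xd2 yd44 zd38) (kd xd0 yd36 zd15) (kd xd2 yd44 zd43) (kd xd0 yd36 zd16) (kd xd2 yd44 zd49) (kd xd0 yd36 zd17) (kd xd2 yd44 zd53) (kd xd2 yd44 zd57) (kd xd2 yd44 zd58) (kd xd0 yd36 zd18) (kd xd2 yd45 zd4) (kd xd2 yd42 zd6) (kd xd1 yd22 zd30) (kd xd1 yd22 zd29) (kd xd0 yd36 zd20) (kd xd2 yd45 zd13) (kd xd0 yd38 zd16) (kd xd1 yd18 zd29) (kd xd1 yd23 zd25) (kd xd0 yd37 zd40) (kd xd2 yd45 zd18) (kd xd0 yd36 zd24) (kd xd1 yd9 zd12)) (@D3.rec (fun _ => Pt) (kd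 xd1 yd19 zd0) (kd xd1 yd57 zd28) (kd xd1 yd19 zd2) (kd xd2 yd45 zd21) (kd xd0 yd36 zd31) (kd xd1 yd59 zd14) (kd xd1 yd1 zd36) (kd xd2 yd4 zd41) (kd xd2 yd45 zd35) (kd xd1 yd9 zd18) (kd xd1 yd9 zd19) (kd xd0 yd36 zd33) (kd xd2 yd3 zd33) (kd xd2 yd43 zd15) (kd xd2 yd45 zd44) (kd xd2 yd23 zd54) (kd xd1 yd9 zd23) (kd xd0 yd36 zd35) (kd xd2 yd45 zd54) (kd xd2 yd3 zd31) (kd xd2 yd45 zd57) (kd xd2 yd45 zd58) (kd xd0 yd36 zd38) (kd xd2 yd46 zd3) (kd xd0 yd36 zd40) (kd xd2 yd44 zd60) (kd xd2 yd44 zd61) (kd xd2 yd46 zd9) (kd xd0 yd36 zd41) (kd xd1 yd3 zd14) (kd xd1 yd0 zd45) (kd xd2 yd46 zd20) (kd xd2 yd45 zd60) (kd xd2 yd45 zd59) (kd xd0 yd36 zd43) (kd xd2 yd46 zd26) (kd xd1 yd56 zd3) (kd xd2 yd8 zd56) (kd xd2 yd46 zd30) (kd xd2 yd46 zd32) (kd xd0 yd37 zd43) (kd xd0 yd36 zd52)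 (kd xd2 yd46 zd35) (kd xd2 yd46 zd38) (kd xd2 yd13 zd59) (kd xd0 yd36 zd54) (kd xd0 yd59 zd22) (kd xd2 yd17 zd51) (kd xd2 yd46 zd44) (kd xd2 yd46 zd48) (kd xd2 yd46 zd50) (kd xd2 yd46 zd53) (kd xd0 yd36 zd59) (kd xd2 yd46 zd60) (kd xd1 yd3 zd13) (kd xd1 yd3 zd12) (kd xd2 yd47 zd6) (kd xd0 yd36 zd61) (kd xd2 yd47 zd10) (kd xd2 yd47 zd12) (kd xd2 yd47 zd15) (kd xd2 yd47 zd17)) (@D3.rec (fun _ => Pt) (kd xd2 yd47 zd21) (kd xd0 yd37 zd0) (kd xd2 yd47 zd28) (kd xd2 yd47 zd31) (kd xd0 yd37 zd2) (kd xd2 yd47 zd34) (kd xd2 yd47 zd35) (kd xd2 yd47 zd38) (kd xd2 yd47 zd39) (kd xd2 yd47 zd43) (kd xd0 yd37 zd3) (kd xd2 yd47 zd48) (kd xd2 yd47 zd52) (kd xd2 yd47 zd54) (kd xd0 yd37 zd4) (kd xd2 yd47 zd59) (kd xd0 yd37 zd5) (kd xd2 yd44 zd35) (kd xd2 yd44 zd36) (kd xd2 yd48 zd12)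 (kd xd0 yd38 zd51) (kd xd0 yd37 zd7) (kd xd2 yd48 zd20) (kd xd1 yd10 zd18) (kd xd2 yd48 zd26) (kd xd1 yd10 zd25) (kd xd2 yd48 zd32) (kd xd2 yd12 zd14) (kd xd2 yd48 zd40) (kd xd2 yd48 zd44) (kd xd2 yd48 zd48) (kd xd0 yd38 zd59) (kd xd2 yd48 zd53) (kd xd0 yd37 zd13) (kd xd2 yd48 zd58) (kd xd0 yd37 zd14) (kd xd2 yd49 zd1) (kd xd2 yd8 zd57) (kd xd1 yd55 zd28) (kd xd1 yd20 zd39) (kd xd0 yd44 zd44) (kd xd0 yd44 zd45) (kd xd1 yd27 zd13) (kd xd2 yd49 zd9) (kd xd2 yd49 zd11) (kd xd2 yd49 zd13) (kd xd0 yd37 zd17) (kd xd2 yd49 zd16) (kd xd2 yd27 zd30) (kd xd2 yd27 zd29) (kd xd2 yd49 zd22) (kd xd0 yd37 zd20) (kd xd2 yd49 zd28) (kd xd2 yd49 zd29) (kd xd0 yd37 zd22) (kd xd1 yd56 zd31) (kd xd1 yd56 zd32) (kd xd2 yd49 zd38) (kd xd2 yd49 zd41) (kd xd0 yd37 zd23) (kd xd2 yd0 zd19) (kd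 xd2 yd49 zd51)) (@D3.rec (fun _ => Pt) (kd xd2 yd49 zd55) (kd xd0 yd37 zd25) (kd xd2 yd49 zd60) (kd xd2 yd50 zd0) (kd xd0 yd37 zd26) (kd xd2 yd50 zd4) (kd xd0 yd37 zd27) (kd xd2 yd50 zd8) (kd xd0 yd37 zd54) (kd xd0 yd37 zd55) (kd xd2 yd50 zd16) (kd xd2 yd50 zd20) (kd xd2 yd50 zd24) (kd xd0 yd37 zd29) (kd xd2 yd50 zd28) (kd xd2 yd50 zd30) (kd xd0 yd37 zd30) (kd xd2 yd50 zd34) (kd xd2 yd50 zd37) (kd xd0 yd37 zd31) (kd xd2 yd50 zd42) (kd xd0 yd37 zd32) (kd xd2 yd50 zd45) (kd xd1 yd31 zd27) (kd xd1 yd13 zd57) (kd xd2 yd13 zd54) (kd xd0 yd37 zd34) (kd xd2 yd50 zd57) (kd xd0 yd37 zd35) (kd xd2 yd50 zd59) (kd xd0 yd37 zd36) (kd xd2 yd19 zd0) (kd xd2 yd51 zd1) (kd xd0 yd37 zd38) (kd xd2 yd51 zd5) (kd xd2 yd19 zd1) (kd xd1 yd27 zd55) (kd xd2 yd24 zd46) (kd xd2 yd51 zd8) (kd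 xd0 yd37 zd47) (kd xd2 yd51 zd12) (kd xd0 yd37 zd48) (kd xd0 yd38 zd5) (kd xd0 yd38 zd6) (kd xd2 yd50 zd54) (kd xd0 yd37 zd50) (kd xd2 yd51 zd26) (kd xd2 yd51 zd29) (kd xd2 yd51 zd24) (kd xd2 yd51 zd31) (kd xd0 yd37 zd51) (kd xd2 yd51 zd37) (kd xd0 yd37 zd53) (kd xd2 yd50 zd9) (kd xd2 yd51 zd43) (kd xd2 yd51 zd45) (kd xd2 yd50 zd11) (kd xd2 yd51 zd47) (kd xd0 yd37 zd56) (kd xd1 yd4 zd7) (kd xd1 yd4 zd8) (kd xd2 yd51 zd58)) (@D3.rec (fun _ => Pt) (kd xd2 yd31 zd15) (kd xd0 yd39 zd4) (kd xd2 yd1 zd3) (kd xd0 yd40 zd52) (kd xd2 yd52 zd8) (kd xd2 yd52 zd11) (kd xd2 yd52 zd14) (kd xd2 yd31 zd25) (kd xd0 yd38 zd1) (kd xd2 yd52 zd17) (kd xd0 yd38 zd2) (kd xd1 yd28 zd17) (kd xd0 yd38 zd3) (kd xd2 yd51 zd15) (kd xd2 yd51 zd18) (kd xd0 yd38 zd7) (kd xd0 yd42 zd15) (kd xd0 yd42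 zd12) (kd xd2 yd52 zd28) (kd xd2 yd52 zd32) (kd xd0 yd38 zd9) (kd xd2 yd12 zd0) (kd xd2 yd42 zd35) (kd xd0 yd38 zd10) (kd xd2 yd52 zd43) (kd xd2 yd52 zd47) (kd xd0 yd38 zd11) (kd xd2 yd52 zd48) (kd xd0 yd38 zd12) (kd xd1 yd18 zd52) (kd xd1 yd18 zd51) (kd xd0 yd38 zd14) (kd xd2 yd52 zd56) (kd xd0 yd38 zd15) (kd xd2 yd52 zd60) (kd xd2 yd52 zd61) (kd xd0 yd38 zd17) (kd xd2 yd53 zd2) (kd xd2 yd53 zd5) (kd xd0 yd38 zd18) (kd xd2 yd53 zd10) (kd xd2 yd53 zd12) (kd xd2 yd53 zd13) (kd xd0 yd38 zd19) (kd xd2 yd53 zd17) (kd xd0 yd38 zd20) (kd xd2 yd53 zd22) (kd xd2 yd53 zd25) (kd xd2 yd53 zd28) (kd xd0 yd38 zd21) (kd xd2 yd53 zd35) (kd xd1 yd6 zd29) (kd xd1 yd6 zd30) (kd xd2 yd53 zd44) (kd xd2 yd53 zd47) (kd xd2 yd53 zd51) (kd xd0 yd38 zd23) (kd xd2 yd53 zd55) (kd xd2 yd53 zd57)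 (kd xd2 yd53 zd60) (kd xd0 yd38 zd24) (kd xd1 yd15 zd1)) (@D3.rec (fun _ => Pt) (kd xd0 yd38 zd26) (kd xd2 yd54 zd6) (kd xd0 yd38 zd27) (kd xd2 yd54 zd9) (kd xd2 yd54 zd10) (kd xd0 yd38 zd28) (kd xd2 yd54 zd14) (kd xd2 yd54 zd15) (kd xd0 yd38 zd29) (kd xd2 yd54 zd19) (kd xd2 yd54 zd22) (kd xd2 yd54 zd24) (kd xd0 yd38 zd30) (kd xd2 yd54 zd32) (kd xd1 yd5 zd47) (kd xd1 yd5 zd48) (kd xd2 yd54 zd41) (kd xd2 yd54 zd45) (kd xd2 yd54 zd48) (kd xd0 yd38 zd32) (kd xd2 yd54 zd52) (kd xd1 yd17 zd59) (kd xd2 yd54 zd56) (kd xd0 yd38 zd33) (kd xd2 yd54 zd60) (kd xd1 yd18 zd57) (kd xd0 yd38 zd35) (kd xd2 yd55 zd1) (kd xd2 yd55 zd2) (kd xd0 yd38 zd37) (kd xd2 yd55 zd6) (kd xd2 yd55 zd7) (kd xd0 yd38 zd38) (kd xd2 yd55 zd12) (kd xd2 yd55 zd14) (kd xd2 yd55 zd16) (kd xd2 yd55 zd17) (kd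 xd0 yd38 zd39) (kd xd2 yd55 zd24) (kd xd2 yd55 zd22) (kd xd0 yd39 zd46) (kd xd2 yd55 zd31) (kd xd2 yd55 zd35) (kd xd0 yd38 zd42) (kd xd2 yd55 zd38) (kd xd0 yd38 zd41) (kd xd2 yd55 zd41) (kd xd2 yd55 zd42) (kd xd2 yd55 zd43) (kd xd2 yd55 zd44) (kd xd0 yd38 zd43) (kd xd2 yd55 zd49) (kd xd0 yd38 zd44) (kd xd2 yd55 zd53) (kd xd2 yd55 zd55) (kd xd2 yd55 zd58) (kd xd2 yd55 zd60) (kd xd0 yd38 zd46) (kd xd2 yd56 zd1) (kd xd2 yd56 zd3) (kd xd2 yd48 zd2) (kd xd1 yd26 zd1)) (@D3.rec (fun _ => Pt) (kd xd2 yd56 zd14) (kd xd2 yd56 zd18) (kd xd1 yd26 zd5) (kd xd2 yd56 zd24) (kd xd2 yd56 zd28) (kd xd2 yd56 zd32) (kd xd2 yd56 zd36) (kd xd0 yd38 zd50) (kd xd2 yd56 zd44) (kd xd2 yd56 zd48) (kd xd2 yd56 zd52) (kd xd2 yd48 zd17) (kd xd2 yd56 zd54) (kd xd2 yd56 zd55) (kd xd0 yd38 zd52) (kd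 xd0 yd40 zd59) (kd xd2 yd57 zd1) (kd xd2 yd57 zd4) (kd xd2 yd57 zd7) (kd xd2 yd57 zd8) (kd xd0 yd38 zd54) (kd xd2 yd57 zd11) (kd xd0 yd42 zd8) (kd xd2 yd57 zd16) (kd xd2 yd16 zd7) (kd xd2 yd57 zd21) (kd xd2 yd57 zd24) (kd xd0 yd38 zd56) (kd xd2 yd57 zd29) (kd xd2 yd57 zd32) (kd xd2 yd57 zd34) (kd xd0 yd38 zd57) (kd xd2 yd57 zd40) (kd xd2 yd57 zd44) (kd xd2 yd57 zd46) (kd xd0 yd38 zd58) (kd xd2 yd57 zd49) (kd xd2 yd57 zd51) (kd xd0 yd38 zd60) (kd xd0 yd38 zd61) (kd xd2 yd27 zd60) (kd xd2 yd28 zd2) (kd xd2 yd58 zd5) (kd xd2 yd58 zd6) (kd xd0 yd39 zd1) (kd xd1 yd4 zd6) (kd xd2 yd58 zd13) (kd xd2 yd58 zd14) (kd xd1 yd10 zd58) (kd xd1 yd10 zd59) (kd xd2 yd27 zd9) (kd xd2 yd58 zd20) (kd xd0 yd39 zd6) (kd xd0 yd39 zd7) (kd xd2 yd58 zd23) (kd xd2 yd58 zd24) (kd xd0 yd39 zd8)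 (kd xd2 yd58 zd27) (kd xd2 yd58 zd28) (kd xd2 yd58 zd29) (kd xd0 yd39 zd9) (kd xd1 yd15 zd32)) (@D3.rec (fun _ => Pt) (kd xd2 yd58 zd33) (kd xd2 yd58 zd35) (kd xd0 yd39 zd10) (kd xd2 yd30 zd21) (kd xd1 yd16 zd1) (kd xd1 yd15 zd27) (kd xd2 yd58 zd48) (kd xd0 yd39 zd12) (kd xd0 yd39 zd13) (kd xd1 yd2 zd57) (kd xd2 yd58 zd55) (kd xd1 yd2 zd59) (kd xd2 yd58 zd59) (kd xd0 yd39 zd16) (kd xd2 yd29 zd61) (kd xd2 yd59 zd3) (kd xd2 yd30 zd1) (kd xd1 yd16 zd57) (kd xd2 yd59 zd10) (kd xd2 yd2 zd26) (kd xd1 yd2 zd43) (kd xd2 yd59 zd18) (kd xd1 yd2 zd46) (kd xd2 yd59 zd23) (kd xd2 yd59 zd26) (kd xd2 yd59 zd30) (kd xd0 yd39 zd21) (kd xd2 yd16 zd58) (kd xd1 yd25 zd28) (kd xd0 yd39 zd23) (kd xd1 yd10 zd5) (kd xd2 yd59 zd32) (kd xd1 yd10 zd6) (kd xd2 yd45 zd19) (kd xd0 yd39 zd26) (kd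 xd0 yd39 zd30) (kd xd2 yd28 zd44) (kd xd2 yd59 zd33) (kd xd2 yd28 zd46) (kd xd0 yd39 zd33) (kd xd2 yd59 zd54) (kd xd0 yd39 zd34) (kd xd1 yd3 zd5) (kd xd0 yd39 zd36) (kd xd2 yd59 zd56) (kd xd2 yd59 zd60) (kd xd0 yd39 zd38) (kd xd3 yd0 zd1) (kd xd0 yd39 zd39) (kd xd3 yd0 zd4) (kd xd3 yd0 zd7) (kd xd3 yd0 zd11) (kd xd3 yd0 zd13) (kd xd0 yd39 zd40) (kd xd3 yd0 zd17) (kd xd0 yd57 zd28) (kd xd0 yd57 zd30) (kd xd1 yd16 zd45) (kd xd0 yd39 zd49) (kd xd0 yd39 zd42) (kd xd2 yd47 zd8) (kd xd2 yd17 zd28)) (@D3.rec (fun _ => Pt) (kd xd1 yd8 zd18) (kd xd1 yd23 zd61) (kd xd2 yd56 zd8) (kd xd3 yd0 zd34) (kd xd1 yd8 zd17) (kd xd1 yd24 zd2) (kd xd2 yd22 zd15) (kd xd3 yd0 zd35) (kd xd3 yd0 zd38) (kd xd3 yd0 zd16) (kd xd3 yd0 zd45) (kd xd3 yd0 zd47) (kd xd3 yd0 zd50) (kd xd3 yd0 zd27) (kd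 xd3 yd0 zd53) (kd xd3 yd0 zd56) (kd xd0 yd39 zd50) (kd xd3 yd0 zd58) (kd xd0 yd39 zd53) (kd xd3 yd0 zd60) (kd xd3 yd1 zd0) (kd xd1 yd26 zd21) (kd xd0 yd39 zd55) (kd xd1 yd10 zd28) (kd xd3 yd1 zd2) (kd xd1 yd48 zd41) (kd xd3 yd1 zd4) (kd xd3 yd1 zd7) (kd xd3 yd1 zd9) (kd xd0 yd39 zd61) (kd xd2 yd22 zd59) (kd xd1 yd37 zd26) (kd xd3 yd1 zd12) (kd xd2 yd20 zd3) (kd xd3 yd1 zd14) (kd xd3 yd1 zd15) (kd xd3 yd1 zd17) (kd xd0 yd40 zd5) (kd xd2 yd22 zd60) (kd xd0 yd40 zd7) (kd xd3 yd1 zd24) (kd xd1 yd34 zd44) (kd xd3 yd1 zd26) (kd xd2 yd20 zd15) (kd xd1 yd34 zd58) (kd xd3 yd1 zd30) (kd xd1 yd34 zd47) (kd xd3 yd1 zd33) (kd xd3 yd1 zd35) (kd xd0 yd40 zd11) (kd xd3 yd1 zd37) (kd xd1 yd35 zd8) (kd xd2 yd21 zd0) (kd xd3 yd1 zd40) (kd xd1 yd49 zd13) (kd xd0 yd40 zd15) (kd xd3 yd1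 zd43) (kd xd0 yd44 zd10) (kd xd0 yd43 zd51) (kd xd3 yd1 zd50) (kd xd0 yd43 zd47) (kd xd3 yd1 zd55)) (@D3.rec (fun _ => Pt) (kd xd1 yd27 zd0) (kd xd3 yd1 zd60) (kd xd3 yd2 zd1) (kd xd3 yd2 zd6) (kd xd0 yd40 zd19) (kd xd3 yd2 zd12) (kd xd3 yd2 zd9) (kd xd3 yd2 zd15) (kd xd3 yd2 zd20) (kd xd0 yd44 zd25) (kd xd3 yd2 zd25) (kd xd3 yd2 zd27) (kd xd0 yd40 zd22) (kd xd1 yd20 zd42) (kd xd3 yd2 zd32) (kd xd3 yd2 zd35) (kd xd3 yd2 zd37) (kd xd0 yd40 zd24) (kd xd3 yd2 zd42) (kd xd3 yd2 zd46) (kd xd3 yd2 zd49) (kd xd0 yd40 zd25) (kd xd2 yd22 zd55) (kd xd2 yd17 zd26) (kd xd3 yd2 zd61) (kd xd0 yd40 zd26) (kd xd3 yd3 zd3) (kd xd3 yd3 zd5) (kd xd3 yd3 zd7) (kd xd3 yd3 zd9) (kd xd0 yd40 zd28) (kd xd1 yd8 zd37) (kd xd2 yd10 zd30) (kd xd3 yd3 zd20) (kd xd2 yd33 zd18) (kd xd1 yd27 zd35)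 (kd xd2 yd49 zd42) (kd xd2 yd49 zd43) (kd xd1 yd38 zd19) (kd xd3 yd3 zd30) (kd xd0 yd40 zd33) (kd xd3 yd3 zd33) (kd xd0 yd40 zd34) (kd xd3 yd3 zd34) (kd xd0 yd40 zd35) (kd xd1 yd31 zd26) (kd xd3 yd3 zd37) (kd xd0 yd40 zd37) (kd xd3 yd3 zd39) (kd xd3 yd3 zd41) (kd xd1 yd27 zd50) (kd xd3 yd3 zd45) (kd xd0 yd40 zd39) (kd xd1 yd46 zd40) (kd xd2 yd24 zd16) (kd xd1 yd21 zd36) (kd xd1 yd57 zd5) (kd xd3 yd3 zd49) (kd xd0 yd40 zd41) (kd xd3 yd3 zd51) (kd xd3 yd3 zd54) (kd xd1 yd10 zd26)) (@D3.rec (fun _ => Pt) (kd xd1 yd28 zd0) (kd xd3 yd3 zd60) (kd xd0 yd40 zd43) (kd xd3 yd4 zd2) (kd xd0 yd40 zd44) (kd xd3 yd4 zd5) (kd xd3 yd4 zd8) (kd xd3 yd4 zd10) (kd xd3 yd4 zd12) (kd xd0 yd40 zd45) (kd xd3 yd4 zd18) (kd xd3 yd4 zd22) (kd xd3 yd4 zd24) (kd xd3 yd4 zd27) (kd xd0 yd40 zd47)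 (kd xd3 yd4 zd32) (kd xd3 yd4 zd33) (kd xd1 yd22 zd11) (kd xd3 yd4 zd36) (kd xd0 yd40 zd49) (kd xd3 yd4 zd38) (kd xd3 yd4 zd40) (kd xd1 yd1 zd39) (kd xd1 yd28 zd23) (kd xd1 yd38 zd17) (kd xd1 yd38 zd18) (kd xd2 yd52 zd5) (kd xd3 yd4 zd49) (kd xd0 yd40 zd53) (kd xd2 yd46 zd24) (kd xd0 yd40 zd54) (kd xd3 yd4 zd52) (kd xd3 yd4 zd57) (kd xd0 yd40 zd57) (kd xd3 yd5 zd0) (kd xd3 yd5 zd3) (kd xd3 yd5 zd5) (kd xd0 yd40 zd58) (kd xd3 yd5 zd10) (kd xd3 yd5 zd14) (kd xd3 yd5 zd18) (kd xd3 yd5 zd21) (kd xd0 yd40 zd60) (kd xd3 yd5 zd26) (kd xd2 yd13 zd6) (kd xd1 yd13 zd49) (kd xd3 yd5 zd33) (kd xd0 yd41 zd0) (kd xd1 yd1 zd59) (kd xd0 yd41 zd1) (kd xd1 yd2 zd4) (kd xd3 yd5 zd40) (kd xd0 yd41 zd2) (kd xd1 yd17 zd5) (kd xd1 yd10 zd27) (kd xd3 yd5 zd44) (kd xd0 yd41 zd5) (kd xd2 yd52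 zd35) (kd xd0 yd41 zd7) (kd xd3 yd5 zd48) (kd xd2 yd20 zd39) (kd xd3 yd5 zd50)) (@D3.rec (fun _ => Pt) (kd xd3 yd5 zd52) (kd xd0 yd41 zd10) (kd xd3 yd5 zd55) (kd xd3 yd5 zd56) (kd xd3 yd5 zd60) (kd xd3 yd6 zd1) (kd xd0 yd41 zd12) (kd xd3 yd6 zd5) (kd xd3 yd6 zd7) (kd xd0 yd41 zd13) (kd xd3 yd6 zd12) (kd xd0 yd45 zd7) (kd xd3 yd6 zd14) (kd xd0 yd41 zd15) (kd xd3 yd6 zd18) (kd xd1 yd46 zd57) (kd xd0 yd41 zd16) (kd xd3 yd6 zd22) (kd xd0 yd41 zd17) (kd xd3 yd6 zd25) (kd xd0 yd45 zd8) (kd xd3 yd6 zd28) (kd xd3 yd6 zd32) (kd xd3 yd6 zd35) (kd xd3 yd6 zd36) (kd xd0 yd41 zd19) (kd xd3 yd6 zd40) (kd xd3 yd6 zd43) (kd xd0 yd41 zd20) (kd xd3 yd6 zd47) (kd xd1 yd30 zd48) (kd xd3 yd6 zd49) (kd xd1 yd38 zd2) (kd xd3 yd6 zd51) (kd xd0 yd41 zd24) (kd xd3 yd6 zd54) (kd xd0 yd45 zd30)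 (kd xd3 yd6 zd60) (kd xd3 yd6 zd41) (kd xd0 yd45 zd37) (kd xd1 yd49 zd44) (kd xd0 yd41 zd27) (kd xd3 yd7 zd2) (kd xd1 yd34 zd10) (kd xd3 yd7 zd5) (kd xd1 yd35 zd21) (kd xd3 yd7 zd9) (kd xd2 yd6 zd49) (kd xd0 yd41 zd30) (kd xd2 yd20 zd25) (kd xd0 yd41 zd31) (kd xd3 yd7 zd13) (kd xd1 yd30 zd2) (kd xd3 yd7 zd18) (kd xd3 yd7 zd22) (kd xd2 yd19 zd26) (kd xd2 yd19 zd25) (kd xd0 yd41 zd35) (kd xd2 yd6 zd29) (kd xd0 yd42 zd48) (kd xd1 yd50 zd21) (kd xd3 yd7 zd30)) (@D3.rec (fun _ => Pt) (kd xd0 yd42 zd51) (kd xd3 yd7 zd35) (kd xd1 yd29 zd52) (kd xd3 yd7 zd40) (kd xd3 yd7 zd43) (kd xd0 yd41 zd38) (kd xd3 yd7 zd50) (kd xd3 yd7 zd54) (kd xd3 yd7 zd58) (kd xd0 yd41 zd39) (kd xd2 yd6 zd27) (kd xd3 yd8 zd0) (kd xd1 yd44 zd32) (kd xd0 yd41 zd40) (kd xd3 yd8 zd5) (kd xd3 yd8 zd7) (kd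 xd0 yd41 zd41) (kd xd1 yd6 zd48) (kd xd2 yd28 zd56) (kd xd0 yd41 zd43) (kd xd0 yd42 zd47) (kd xd3 yd8 zd15) (kd xd3 yd8 zd18) (kd xd0 yd41 zd45) (kd xd3 yd8 zd23) (kd xd3 yd8 zd27) (kd xd3 yd8 zd30) (kd xd0 yd41 zd46) (kd xd1 yd7 zd1) (kd xd3 yd8 zd40) (kd xd3 yd8 zd43) (kd xd0 yd41 zd47) (kd xd3 yd8 zd47) (kd xd3 yd8 zd50) (kd xd1 yd33 zd8) (kd xd3 yd8 zd56) (kd xd0 yd41 zd49) (kd xd3 yd6 zd37) (kd xd3 yd8 zd59) (kd xd0 yd41 zd50) (kd xd2 yd18 zd28) (kd xd1 yd33 zd14) (kd xd3 yd9 zd4) (kd xd3 yd9 zd5) (kd xd0 yd41 zd52) (kd xd2 yd18 zd32) (kd xd1 yd30 zd46) (kd xd0 yd45 zd32) (kd xd1 yd29 zd30) (kd xd0 yd45 zd38) (kd xd3 yd9 zd25) (kd xd0 yd41 zd55) (kd xd0 yd42 zd43) (kd xd2 yd3 zd36) (kd xd1 yd37 zd28) (kd xd3 yd6 zd2) (kd xd3 yd9 zd33) (kd xd0 yd41 zd58) (kd xd1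 yd44 zd31) (kd xd1 yd33 zd18) (kd xd1 yd35 zd56) (kd xd3 yd9 zd41)) (@D3.rec (fun _ => Pt) (kd xd0 yd41 zd60) (kd xd2 yd18 zd40) (kd xd1 yd31 zd2) (kd xd0 yd42 zd0) (kd xd3 yd9 zd52) (kd xd3 yd9 zd55) (kd xd3 yd9 zd57) (kd xd0 yd42 zd1) (kd xd3 yd9 zd61) (kd xd3 yd10 zd2) (kd xd3 yd10 zd4) (kd xd0 yd42 zd3) (kd xd3 yd10 zd7) (kd xd3 yd10 zd8) (kd xd0 yd42 zd4) (kd xd3 yd10 zd12) (kd xd0 yd42 zd6) (kd xd2 yd55 zd19) (kd xd3 yd10 zd15) (kd xd0 yd42 zd7) (kd xd3 yd10 zd19) (kd xd2 yd14 zd2) (kd xd2 yd14 zd6) (kd xd3 yd5 zd34) (kd xd0 yd42 zd11) (kd xd2 yd52 zd23) (kd xd1 yd27 zd45) (kd xd1 yd21 zd23) (kd xd3 yd10 zd27) (kd xd0 yd42 zd14) (kd xd2 yd52 zd20) (kd xd1 yd46 zd56) (kd xd0 yd42 zd18) (kd xd3 yd10 zd31) (kd xd1 yd39 zd24) (kd xd0 yd42 zd19) (kd xd1 yd31 zd45)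 (kd xd3 yd10 zd35) (kd xd0 yd42 zd22) (kd xd3 yd10 zd37) (kd xd2 yd18 zd25) (kd xd0 yd42 zd24) (kd xd0 yd42 zd26) (kd xd3 yd9 zd3) (kd xd2 yd34 zd12) (kd xd1 yd31 zd36) (kd xd0 yd43 zd4) (kd xd2 yd34 zd13) (kd xd2 yd54 zd0) (kd xd2 yd54 zd1) (kd xd0 yd42 zd29) (kd xd0 yd42 zd30) (kd xd3 yd10 zd54) (kd xd3 yd10 zd57) (kd xd0 yd42 zd31) (kd xd3 yd10 zd60) (kd xd3 yd10 zd61) (kd xd0 yd42 zd32) (kd xd2 yd18 zd0) (kd xd2 yd32 zd31) (kd xd0 yd42 zd34) (kd xd3 yd11 zd9)) (@D3.rec (fun _ => Pt) (kd xd3 yd11 zd11) (kd xd0 yd42 zd35) (kd xd3 yd11 zd18) (kd xd3 yd11 zd21) (kd xd0 yd42 zd36) (kd xd3 yd11 zd24) (kd xd3 yd11 zd27) (kd xd1 yd32 zd60) (kd xd3 yd11 zd35) (kd xd0 yd42 zd38) (kd xd3 yd9 zd6) (kd xd3 yd11 zd39) (kd xd0 yd42 zd39) (kd xd1 yd32 zd18) (kd xd0 yd42 zd61) (kd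 xd3 yd8 zd60) (kd xd3 yd11 zd49) (kd xd0 yd42 zd41) (kd xd1 yd32 zd13) (kd xd3 yd9 zd26) (kd xd2 yd18 zd36) (kd xd0 yd44 zd4) (kd xd0 yd42 zd45) (kd xd0 yd51 zd50) (kd xd0 yd42 zd46) (kd xd3 yd11 zd61) (kd xd3 yd12 zd0) (kd xd0 yd42 zd49) (kd xd3 yd12 zd2) (kd xd0 yd42 zd50) (kd xd3 yd7 zd31) (kd xd0 yd42 zd52) (kd xd2 yd54 zd2) (kd xd1 yd32 zd33) (kd xd1 yd6 zd37) (kd xd3 yd12 zd9) (kd xd2 yd19 zd12) (kd xd1 yd6 zd39) (kd xd3 yd12 zd18) (kd xd3 yd12 zd22) (kd xd3 yd12 zd25) (kd xd3 yd12 zd28) (kd xd0 yd42 zd56) (kd xd2 yd35 zd9) (kd xd3 yd12 zd33) (kd xd1 yd5 zd60) (kd xd3 yd12 zd37) (kd xd1 yd37 zd37) (kd xd3 yd12 zd42) (kd xd3 yd12 zd44) (kd xd1 yd37 zd40) (kd xd0 yd47 zd52) (kd xd3 yd12 zd48) (kd xd3 yd11 zd43) (kd xd3 yd12 zd53) (kd xd3 yd12 zd55) (kd xd3 yd11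 zd48) (kd xd3 yd12 zd59) (kd xd1 yd17 zd50) (kd xd0 yd43 zd0) (kd xd1 yd32 zd7) (kd xd3 yd13 zd10)) (@D3.rec (fun _ => Pt) (kd xd3 yd13 zd13) (kd xd0 yd43 zd1) (kd xd3 yd13 zd16) (kd xd3 yd1 zd51) (kd xd0 yd43 zd3) (kd xd0 yd43 zd5) (kd xd0 yd46 zd2) (kd xd3 yd13 zd22) (kd xd1 yd30 zd34) (kd xd0 yd47 zd0) (kd xd3 yd13 zd27) (kd xd2 yd18 zd5) (kd xd1 yd33 zd13) (kd xd1 yd33 zd12) (kd xd1 yd30 zd41) (kd xd0 yd51 zd24) (kd xd0 yd52 zd5) (kd xd0 yd43 zd12) (kd xd1 yd30 zd59) (kd xd0 yd43 zd16) (kd xd3 yd13 zd32) (kd xd3 yd13 zd36) (kd xd3 yd13 zd39) (kd xd3 yd13 zd41) (kd xd0 yd43 zd18) (kd xd0 yd43 zd19) (kd xd3 yd13 zd46) (kd xd1 yd48 zd43) (kd xd1 yd49 zd8) (kd xd1 yd33 zd29) (kd xd1 yd6 zd0) (kd xd3 yd13 zd56) (kd xd1 yd48 zd33) (kd xd1 yd37 zd46) (kd xd3 yd13 zd61)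 (kd xd3 yd14 zd2) (kd xd3 yd14 zd5) (kd xd3 yd14 zd8) (kd xd0 yd43 zd24) (kd xd3 yd14 zd15) (kd xd3 yd14 zd19) (kd xd3 yd14 zd22) (kd xd1 yd33 zd42) (kd xd3 yd14 zd25) (kd xd0 yd43 zd26) (kd xd1 yd36 zd29) (kd xd3 yd14 zd31) (kd xd0 yd43 zd27) (kd xd3 yd14 zd34) (kd xd0 yd43 zd29) (kd xd1 yd49 zd33) (kd xd2 yd20 zd2) (kd xd0 yd43 zd31) (kd xd3 yd14 zd41) (kd xd3 yd14 zd43) (kd xd3 yd14 zd45) (kd xd3 yd14 zd46) (kd xd0 yd43 zd33) (kd xd3 yd14 zd50) (kd xd1 yd40 zd11) (kd xd3 yd14 zd55) (kd xd1 yd37 zd41)) (@D3.rec (fun _ => Pt) (kd xd3 yd14 zd60) (kd xd2 yd19 zd60) (kd xd1 yd51 zd17) (kd xd1 yd50 zd42) (kd xd0 yd43 zd38) (kd xd2 yd20 zd36) (kd xd3 yd9 zd35) (kd xd0 yd44 zd5) (kd xd2 yd19 zd52) (kd xd3 yd1 zd19) (kd xd1 yd29 zd43) (kd xd1 yd36 zd12) (kd xd1 yd36 zd61)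 (kd xd0 yd52 zd59) (kd xd3 yd15 zd11) (kd xd0 yd43 zd46) (kd xd0 yd43 zd48) (kd xd0 yd43 zd49) (kd xd3 yd15 zd17) (kd xd1 yd34 zd19) (kd xd0 yd43 zd58) (kd xd0 yd43 zd52) (kd xd3 yd15 zd20) (kd xd0 yd43 zd53) (kd xd0 yd48 zd5) (kd xd0 yd52 zd57) (kd xd1 yd34 zd26) (kd xd0 yd43 zd55) (kd xd0 yd50 zd10) (kd xd3 yd15 zd28) (kd xd3 yd15 zd31) (kd xd2 yd57 zd15) (kd xd0 yd43 zd56) (kd xd3 yd15 zd41) (kd xd3 yd15 zd43) (kd xd0 yd43 zd59) (kd xd1 yd5 zd61) (kd xd3 yd15 zd47) (kd xd0 yd52 zd58) (kd xd1 yd39 zd2) (kd xd0 yd51 zd59) (kd xd3 yd15 zd53) (kd xd0 yd44 zd3) (kd xd3 yd15 zd56) (kd xd1 yd26 zd41) (kd xd3 yd15 zd60) (kd xd3 yd16 zd1) (kd xd1 yd26 zd46) (kd xd3 yd16 zd5) (kd xd3 yd16 zd7) (kd xd3 yd12 zd8) (kd xd3 yd16 zd11) (kd xd3 yd16 zd16) (kd xd0 yd44 zd9) (kd xd3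 yd16 zd21) (kd xd3 yd16 zd25) (kd xd1 yd35 zd39) (kd xd3 yd1 zd47) (kd xd1 yd26 zd44) (kd xd3 yd16 zd32) (kd xd3 yd16 zd36) (kd xd3 yd15 zd36)) (@D3.rec (fun _ => Pt) (kd xd3 yd15 zd37) (kd xd3 yd16 zd44) (kd xd0 yd44 zd12) (kd xd3 yd16 zd51) (kd xd3 yd16 zd54) (kd xd3 yd16 zd57) (kd xd0 yd44 zd13) (kd xd3 yd16 zd61) (kd xd1 yd26 zd51) (kd xd3 yd17 zd3) (kd xd3 yd17 zd6) (kd xd3 yd17 zd11) (kd xd0 yd44 zd15) (kd xd3 yd17 zd16) (kd xd3 yd17 zd19) (kd xd3 yd17 zd21) (kd xd0 yd44 zd16) (kd xd3 yd17 zd26) (kd xd3 yd17 zd31) (kd xd0 yd44 zd17) (kd xd3 yd17 zd34) (kd xd1 yd29 zd45) (kd xd0 yd44 zd18) (kd xd3 yd17 zd39) (kd xd3 yd17 zd43) (kd xd3 yd17 zd46) (kd xd3 yd17 zd48) (kd xd0 yd44 zd19) (kd xd3 yd17 zd56) (kd xd0 yd51 zd47) (kd xd0 yd52 zd2) (kd xd0 yd51 zd28) (kd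 xd3 yd18 zd3) (kd xd0 yd44 zd22) (kd xd3 yd18 zd8) (kd xd3 yd18 zd12) (kd xd0 yd44 zd21) (kd xd3 yd18 zd17) (kd xd3 yd18 zd21) (kd xd1 yd34 zd56) (kd xd3 yd18 zd25) (kd xd0 yd44 zd23) (kd xd3 yd18 zd33) (kd xd3 yd18 zd36) (kd xd0 yd44 zd24) (kd xd3 yd18 zd40) (kd xd3 yd18 zd41) (kd xd3 yd18 zd43) (kd xd3 yd18 zd45) (kd xd0 yd44 zd26) (kd xd3 yd18 zd49) (kd xd1 yd50 zd18) (kd xd0 yd44 zd27) (kd xd2 yd5 zd54) (kd xd1 yd50 zd19) (kd xd0 yd44 zd28) (kd xd1 yd30 zd60) (kd xd3 yd18 zd56) (kd xd1 yd54 zd9) (kd xd3 yd18 zd61) (kd xd3 yd14 zd10) (kd xd3 yd14 zd11)) (@D3.rec (fun _ => Pt) (kd xd0 yd44 zd31) (kd xd3 yd19 zd10) (kd xd3 yd19 zd14) (kd xd3 yd19 zd18) (kd xd0 yd44 zd32) (kd xd3 yd19 zd22) (kd xd3 yd19 zd24) (kd xd0 yd44 zd33) (kd xd1 yd7 zd22) (kd xd0 yd44 zd34) (kd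 xd3 yd19 zd32) (kd xd3 yd19 zd35) (kd xd1 yd34 zd11) (kd xd3 yd19 zd39) (kd xd0 yd44 zd36) (kd xd3 yd19 zd43) (kd xd3 yd19 zd45) (kd xd3 yd15 zd3) (kd xd0 yd51 zd53) (kd xd0 yd44 zd38) (kd xd3 yd19 zd53) (kd xd3 yd19 zd56) (kd xd0 yd44 zd39) (kd xd3 yd19 zd60) (kd xd0 yd44 zd40) (kd xd3 yd20 zd3) (kd xd0 yd44 zd41) (kd xd3 yd2 zd51) (kd xd3 yd20 zd5) (kd xd1 yd33 zd45) (kd xd3 yd20 zd12) (kd xd0 yd44 zd43) (kd xd2 yd18 zd58) (kd xd3 yd20 zd20) (kd xd2 yd57 zd13) (kd xd3 yd20 zd25) (kd xd3 yd20 zd28) (kd xd2 yd59 zd28) (kd xd3 yd20 zd35) (kd xd3 yd20 zd39) (kd xd0 yd44 zd47) (kd xd2 yd59 zd27) (kd xd3 yd20 zd45) (kd xd0 yd44 zd48) (kd xd3 yd20 zd51) (kd xd3 yd20 zd56) (kd xd0 yd44 zd49) (kd xd2 yd42 zd36) (kd xd3 yd21 zd2) (kd xd3 yd0 zd48) (kd xd3 yd21 zd10) (kd xd0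 yd44 zd51) (kd xd3 yd2 zd43) (kd xd3 yd21 zd15) (kd xd2 yd33 zd61) (kd xd0 yd44 zd52) (kd xd1 yd8 zd28) (kd xd3 yd21 zd24) (kd xd2 yd29 zd11) (kd xd0 yd44 zd53) (kd xd3 yd21 zd32) (kd xd1 yd34 zd12)) (@D3.rec (fun _ => Pt) (kd xd3 yd21 zd35) (kd xd3 yd21 zd37) (kd xd1 yd8 zd30) (kd xd2 yd20 zd16) (kd xd3 yd2 zd56) (kd xd1 yd7 zd58) (kd xd3 yd21 zd44) (kd xd0 yd44 zd56) (kd xd2 yd21 zd33) (kd xd3 yd21 zd50) (kd xd0 yd44 zd57) (kd xd3 yd21 zd54) (kd xd3 yd21 zd57) (kd xd1 yd7 zd21) (kd xd0 yd44 zd59) (kd xd0 yd44 zd60) (kd xd3 yd21 zd60) (kd xd0 yd44 zd61) (kd xd3 yd6 zd10) (kd xd0 yd45 zd0) (kd xd3 yd2 zd55) (kd xd2 yd17 zd37) (kd xd3 yd22 zd12) (kd xd0 yd45 zd2) (kd xd1 yd37 zd29) (kd xd0 yd45 zd4) (kd xd1 yd26 zd31) (kd xd1 yd37 zd30) (kd xd1 yd30 zd54) (kd xd1 yd37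 zd24) (kd xd1 yd37 zd27) (kd xd1 yd6 zd55) (kd xd3 yd6 zd13) (kd xd0 yd45 zd10) (kd xd1 yd5 zd58) (kd xd1 yd5 zd59) (kd xd3 yd22 zd40) (kd xd1 yd32 zd47) (kd xd1 yd38 zd25) (kd xd1 yd38 zd24) (kd xd1 yd32 zd50) (kd xd1 yd33 zd61) (kd xd3 yd22 zd46) (kd xd3 yd22 zd17) (kd xd0 yd45 zd16) (kd xd2 yd22 zd57) (kd xd1 yd33 zd33) (kd xd3 yd22 zd51) (kd xd0 yd45 zd21) (kd xd3 yd9 zd14) (kd xd3 yd10 zd48) (kd xd1 yd37 zd51) (kd xd0 yd45 zd23) (kd xd2 yd20 zd29) (kd xd3 yd22 zd60) (kd xd0 yd46 zd19) (kd xd0 yd45 zd25) (kd xd0 yd46 zd58) (kd xd0 yd47 zd10) (kd xd1 yd52 zd22) (kd xd3 yd6 zd53) (kd xd0 yd46 zd54)) (@D3.rec (fun _ => Pt) (kd xd3 yd23 zd14) (kd xd3 yd23 zd17) (kd xd1 yd29 zd32) (kd xd3 yd23 zd23) (kd xd3 yd23 zd26) (kd xd3 yd23 zd29) (kd xd3 yd23 zd32) (kd xd3 yd23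 zd37) (kd xd0 yd45 zd29) (kd xd3 yd23 zd44) (kd xd3 yd23 zd42) (kd xd3 yd23 zd49) (kd xd3 yd23 zd53) (kd xd3 yd6 zd58) (kd xd3 yd9 zd16) (kd xd3 yd23 zd58) (kd xd3 yd23 zd59) (kd xd1 yd28 zd24) (kd xd1 yd28 zd25) (kd xd1 yd27 zd38) (kd xd3 yd24 zd6) (kd xd0 yd45 zd34) (kd xd3 yd7 zd37) (kd xd0 yd45 zd35) (kd xd1 yd37 zd39) (kd xd1 yd37 zd38) (kd xd0 yd45 zd36) (kd xd3 yd13 zd1) (kd xd3 yd9 zd21) (kd xd3 yd24 zd15) (kd xd3 yd24 zd17) (kd xd1 yd48 zd49) (kd xd3 yd24 zd18) (kd xd0 yd45 zd40) (kd xd3 yd24 zd21) (kd xd0 yd45 zd41) (kd xd3 yd24 zd23) (kd xd0 yd45 zd43) (kd xd3 yd24 zd25) (kd xd0 yd45 zd44) (kd xd3 yd24 zd28) (kd xd0 yd46 zd28) (kd xd3 yd24 zd35) (kd xd0 yd45 zd57) (kd xd0 yd46 zd7) (kd xd3 yd24 zd39) (kd xd1 yd38 zd46) (kd xd1 yd52 zd21) (kd xd0 yd45 zd48)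 (kd xd3 yd24 zd47) (kd xd3 yd24 zd51) (kd xd3 yd24 zd55) (kd xd0 yd46 zd41) (kd xd3 yd24 zd58) (kd xd0 yd45 zd50) (kd xd0 yd53 zd35) (kd xd3 yd24 zd61) (kd xd0 yd45 zd51) (kd xd0 yd45 zd53) (kd xd3 yd25 zd1) (kd xd0 yd45 zd54) (kd xd1 yd39 zd16)) (@D3.rec (fun _ => Pt) (kd xd0 yd45 zd56) (kd xd1 yd48 zd25) (kd xd1 yd34 zd39) (kd xd3 yd25 zd6) (kd xd3 yd25 zd8) (kd xd3 yd11 zd1) (kd xd0 yd45 zd58) (kd xd3 yd25 zd13) (kd xd0 yd50 zd43) (kd xd1 yd48 zd0) (kd xd1 yd48 zd1) (kd xd0 yd46 zd0) (kd xd1 yd48 zd10) (kd xd3 yd25 zd16) (kd xd0 yd46 zd3) (kd xd0 yd46 zd4) (kd xd1 yd38 zd61) (kd xd3 yd25 zd22) (kd xd0 yd46 zd6) (kd xd0 yd46 zd8) (kd xd0 yd49 zd4) (kd xd1 yd39 zd21) (kd xd0 yd46 zd10) (kd xd3 yd25 zd30) (kd xd1 yd31 zd34) (kd xd3 yd23 zd39) (kd xd3 yd25 zd35) (kd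 xd3 yd25 zd37) (kd xd3 yd25 zd42) (kd xd0 yd46 zd14) (kd xd3 yd25 zd49) (kd xd3 yd25 zd52) (kd xd1 yd39 zd32) (kd xd0 yd46 zd17) (kd xd0 yd46 zd18) (kd xd1 yd46 zd52) (kd xd0 yd47 zd57) (kd xd3 yd25 zd58) (kd xd1 yd40 zd55) (kd xd1 yd48 zd9) (kd xd3 yd23 zd40) (kd xd0 yd51 zd11) (kd xd0 yd51 zd10) (kd xd3 yd26 zd4) (kd xd0 yd46 zd24) (kd xd3 yd26 zd9) (kd xd0 yd50 zd57) (kd xd3 yd26 zd12) (kd xd0 yd46 zd27) (kd xd3 yd26 zd15) (kd xd3 yd26 zd19) (kd xd1 yd40 zd25) (kd xd3 yd24 zd32) (kd xd1 yd54 zd15) (kd xd3 yd25 zd44) (kd xd3 yd25 zd45) (kd xd2 yd51 zd57) (kd xd0 yd46 zd30) (kd xd3 yd26 zd35) (kd xd3 yd26 zd38) (kd xd1 yd54 zd2) (kd xd0 yd48 zd58)) (@D3.rec (fun _ => Pt) (kd xd3 yd26 zd41) (kd xd3 yd26 zd45) (kd xd3 yd26 zd49) (kd xd0 yd46 zd33) (kd xd3 yd26 zd54)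 (kd xd1 yd53 zd39) (kd xd0 yd46 zd34) (kd xd3 yd26 zd60) (kd xd3 yd27 zd3) (kd xd0 yd46 zd35) (kd xd3 yd27 zd7) (kd xd1 yd33 zd59) (kd xd0 yd46 zd36) (kd xd3 yd27 zd14) (kd xd1 yd41 zd43) (kd xd1 yd41 zd22) (kd xd3 yd22 zd52) (kd xd3 yd27 zd21) (kd xd3 yd27 zd23) (kd xd3 yd27 zd26) (kd xd0 yd46 zd38) (kd xd3 yd27 zd31) (kd xd3 yd27 zd33) (kd xd3 yd27 zd37) (kd xd0 yd46 zd39) (kd xd1 yd39 zd51) (kd xd3 yd27 zd45) (kd xd3 yd27 zd48) (kd xd0 yd46 zd40) (kd xd1 yd44 zd27) (kd xd3 yd27 zd51) (kd xd1 yd49 zd16) (kd xd3 yd27 zd52) (kd xd0 yd48 zd47) (kd xd3 yd27 zd58) (kd xd1 yd44 zd47) (kd xd3 yd27 zd61) (kd xd3 yd28 zd2) (kd xd0 yd46 zd45) (kd xd0 yd46 zd48) (kd xd1 yd43 zd3) (kd xd3 yd28 zd0) (kd xd3 yd28 zd11) (kd xd0 yd54 zd19) (kd xd0 yd54 zd13) (kd xd1 yd52 zd2) (kd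 xd1 yd45 zd16) (kd xd0 yd46 zd52) (kd xd3 yd28 zd21) (kd xd3 yd28 zd22) (kd xd0 yd46 zd55) (kd xd0 yd46 zd56) (kd xd3 yd28 zd25) (kd xd3 yd23 zd0) (kd xd3 yd11 zd41) (kd xd1 yd39 zd38) (kd xd3 yd28 zd28) (kd xd0 yd46 zd59) (kd xd3 yd28 zd31) (kd xd0 yd46 zd61) (kd xd3 yd28 zd33) (kd xd0 yd47 zd1)) (@D3.rec (fun _ => Pt) (kd xd3 yd28 zd37) (kd xd3 yd23 zd19) (kd xd3 yd28 zd41) (kd xd0 yd47 zd4) (kd xd3 yd28 zd44) (kd xd3 yd28 zd45) (kd xd0 yd47 zd3) (kd xd3 yd28 zd46) (kd xd3 yd28 zd50) (kd xd0 yd47 zd7) (kd xd3 yd28 zd52) (kd xd0 yd47 zd9) (kd xd3 yd28 zd56) (kd xd0 yd47 zd12) (kd xd3 yd28 zd61) (kd xd3 yd29 zd3) (kd xd0 yd47 zd14) (kd xd3 yd29 zd8) (kd xd3 yd29 zd12) (kd xd3 yd29 zd16) (kd xd0 yd52 zd24) (kd xd0 yd50 zd50) (kd xd1 yd40 zd15) (kd xd0 yd48 zd31) (kd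 xd1 yd51 zd20) (kd xd1 yd51 zd21) (kd xd2 yd21 zd47) (kd xd0 yd47 zd17) (kd xd3 yd29 zd29) (kd xd0 yd49 zd60) (kd xd3 yd29 zd32) (kd xd1 yd41 zd31) (kd xd3 yd29 zd40) (kd xd0 yd47 zd20) (kd xd3 yd29 zd45) (kd xd1 yd51 zd29) (kd xd1 yd41 zd36) (kd xd3 yd29 zd53) (kd xd0 yd47 zd22) (kd xd3 yd29 zd56) (kd xd3 yd29 zd60) (kd xd0 yd47 zd23) (kd xd3 yd30 zd1) (kd xd1 yd40 zd14) (kd xd3 yd27 zd5) (kd xd0 yd47 zd24) (kd xd3 yd30 zd10) (kd xd3 yd1 zd22) (kd xd3 yd30 zd16) (kd xd0 yd47 zd27) (kd xd3 yd30 zd21) (kd xd3 yd30 zd25) (kd xd0 yd47 zd26) (kd xd3 yd30 zd30) (kd xd3 yd30 zd34) (kd xd3 yd30 zd38) (kd xd3 yd30 zd42) (kd xd0 yd47 zd28) (kd xd3 yd30 zd48) (kd xd3 yd30 zd53) (kd xd3 yd30 zd56) (kd xd0 yd47 zd29)) (@D3.rec (fun _ => Pt) (kd xd3 yd30 zd59) (kd xd0 yd53 zd61)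 (kd xd3 yd31 zd0) (kd xd1 yd46 zd28) (kd xd3 yd25 zd61) (kd xd3 yd31 zd4) (kd xd0 yd47 zd32) (kd xd3 yd31 zd9) (kd xd1 yd48 zd21) (kd xd3 yd31 zd15) (kd xd1 yd47 zd53) (kd xd0 yd54 zd9) (kd xd3 yd30 zd47) (kd xd0 yd47 zd36) (kd xd1 yd47 zd58) (kd xd0 yd54 zd4) (kd xd3 yd31 zd24) (kd xd3 yd31 zd28) (kd xd0 yd47 zd39) (kd xd1 yd44 zd18) (kd xd3 yd31 zd35) (kd xd0 yd47 zd40) (kd xd0 yd53 zd47) (kd xd0 yd54 zd15) (kd xd0 yd54 zd10) (kd xd3 yd31 zd39) (kd xd3 yd31 zd43) (kd xd0 yd47 zd43) (kd xd3 yd31 zd49) (kd xd1 yd46 zd32) (kd xd0 yd47 zd46) (kd xd0 yd47 zd48) (kd xd3 yd31 zd50) (kd xd3 yd31 zd51) (kd xd0 yd47 zd51) (kd xd0 yd47 zd53) (kd xd3 yd31 zd54) (kd xd0 yd47 zd54) (kd xd0 yd48 zd44) (kd xd3 yd31 zd59) (kd xd0 yd47 zd56) (kd xd3 yd32 zd0) (kd xd3 yd32 zd2) (kd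 xd3 yd32 zd5) (kd xd3 yd32 zd7) (kd xd0 yd47 zd59) (kd xd3 yd32 zd9) (kd xd3 yd32 zd11) (kd xd3 yd15 zd49) (kd xd0 yd48 zd0) (kd xd3 yd32 zd15) (kd xd1 yd55 zd36) (kd xd0 yd48 zd1) (kd xd3 yd32 zd23) (kd xd3 yd32 zd26) (kd xd0 yd48 zd2) (kd xd0 yd53 zd14) (kd xd0 yd48 zd16) (kd xd3 yd32 zd33) (kd xd1 yd43 zd24) (kd xd1 yd46 zd4) (kd xd3 yd32 zd37)) (@D3.rec (fun _ => Pt) (kd xd0 yd48 zd9) (kd xd3 yd32 zd41) (kd xd3 yd32 zd27) (kd xd1 yd40 zd40) (kd xd3 yd32 zd46) (kd xd0 yd48 zd11) (kd xd3 yd32 zd51) (kd xd3 yd31 zd3) (kd xd3 yd30 zd46) (kd xd0 yd48 zd12) (kd xd0 yd52 zd42) (kd xd0 yd51 zd61) (kd xd1 yd45 zd42) (kd xd3 yd28 zd53) (kd xd3 yd32 zd60) (kd xd3 yd33 zd1) (kd xd3 yd32 zd20) (kd xd3 yd33 zd5) (kd xd0 yd48 zd18) (kd xd3 yd33 zd11) (kd xd3 yd28 zd19) (kd xd0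 yd48 zd19) (kd xd1 yd53 zd19) (kd xd3 yd29 zd25) (kd xd1 yd42 zd59) (kd xd3 yd33 zd21) (kd xd0 yd48 zd21) (kd xd3 yd33 zd25) (kd xd3 yd33 zd30) (kd xd0 yd48 zd23) (kd xd3 yd33 zd33) (kd xd3 yd33 zd37) (kd xd0 yd48 zd24) (kd xd3 yd33 zd40) (kd xd0 yd50 zd3) (kd xd0 yd50 zd4) (kd xd0 yd49 zd12) (kd xd3 yd33 zd47) (kd xd3 yd33 zd51) (kd xd3 yd33 zd55) (kd xd0 yd48 zd26) (kd xd3 yd33 zd60) (kd xd3 yd34 zd2) (kd xd3 yd34 zd6) (kd xd0 yd48 zd27) (kd xd1 yd46 zd9) (kd xd3 yd34 zd11) (kd xd3 yd34 zd14) (kd xd0 yd48 zd28) (kd xd3 yd29 zd13) (kd xd3 yd34 zd20) (kd xd3 yd34 zd22) (kd xd3 yd27 zd53) (kd xd3 yd29 zd17) (kd xd3 yd22 zd14) (kd xd3 yd32 zd13) (kd xd3 yd25 zd55) (kd xd0 yd48 zd32) (kd xd3 yd31 zd56) (kd xd3 yd34 zd23) (kd xd3 yd34 zd24) (kd xd0 yd48 zd33)) (@D3.rec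 (fun _ => Pt) (kd xd0 yd48 zd34) (kd xd3 yd34 zd29) (kd xd0 yd49 zd29) (kd xd3 yd34 zd33) (kd xd0 yd49 zd20) (kd xd3 yd34 zd38) (kd xd3 yd34 zd41) (kd xd3 yd34 zd46) (kd xd0 yd48 zd37) (kd xd3 yd34 zd51) (kd xd1 yd45 zd49) (kd xd3 yd34 zd53) (kd xd0 yd48 zd39) (kd xd0 yd53 zd48) (kd xd0 yd53 zd43) (kd xd3 yd34 zd60) (kd xd3 yd35 zd1) (kd xd0 yd48 zd41) (kd xd1 yd42 zd19) (kd xd3 yd35 zd6) (kd xd3 yd35 zd7) (kd xd3 yd11 zd40) (kd xd0 yd48 zd46) (kd xd3 yd35 zd10) (kd xd0 yd48 zd48) (kd xd3 yd35 zd14) (kd xd3 yd27 zd41) (kd xd1 yd40 zd29) (kd xd1 yd46 zd30) (kd xd0 yd49 zd40) (kd xd0 yd48 zd53) (kd xd1 yd30 zd58) (kd xd1 yd30 zd12) (kd xd1 yd53 zd27) (kd xd3 yd35 zd26) (kd xd0 yd48 zd56) (kd xd3 yd35 zd30) (kd xd0 yd48 zd59) (kd xd1 yd45 zd6) (kd xd0 yd48 zd61) (kd xd3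 yd35 zd36) (kd xd1 yd46 zd34) (kd xd3 yd33 zd7) (kd xd3 yd5 zd36) (kd xd0 yd49 zd1) (kd xd3 yd35 zd50) (kd xd3 yd35 zd53) (kd xd1 yd40 zd35) (kd xd0 yd49 zd3) (kd xd3 yd35 zd56) (kd xd1 yd53 zd20) (kd xd3 yd34 zd25) (kd xd0 yd49 zd6) (kd xd3 yd36 zd1) (kd xd0 yd49 zd8) (kd xd3 yd36 zd5) (kd xd0 yd49 zd9) (kd xd3 yd36 zd10) (kd xd3 yd29 zd48) (kd xd1 yd49 zd22) (kd xd3 yd36 zd16) (kd xd3 yd33 zd43)) (@D3.rec (fun _ => Pt) (kd xd3 yd36 zd21) (kd xd0 yd52 zd13) (kd xd0 yd52 zd35) (kd xd0 yd49 zd13) (kd xd3 yd36 zd28) (kd xd3 yd36 zd30) (kd xd1 yd44 zd38) (kd xd3 yd35 zd45) (kd xd3 yd35 zd46) (kd xd2 yd8 zd60) (kd xd0 yd49 zd16) (kd xd3 yd36 zd41) (kd xd3 yd34 zd31) (kd xd3 yd36 zd46) (kd xd0 yd49 zd19) (kd xd3 yd36 zd51) (kd xd1 yd40 zd46) (kd xd3 yd34 zd36) (kd xd3 yd36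 zd57) (kd xd0 yd49 zd21) (kd xd3 yd36 zd60) (kd xd2 yd9 zd5) (kd xd0 yd49 zd22) (kd xd3 yd37 zd1) (kd xd0 yd49 zd51) (kd xd0 yd49 zd52) (kd xd3 yd37 zd6) (kd xd3 yd37 zd9) (kd xd3 yd37 zd11) (kd xd0 yd49 zd24) (kd xd3 yd37 zd16) (kd xd0 yd52 zd27) (kd xd3 yd37 zd20) (kd xd3 yd37 zd23) (kd xd3 yd37 zd26) (kd xd0 yd49 zd26) (kd xd3 yd37 zd29) (kd xd3 yd37 zd32) (kd xd3 yd37 zd35) (kd xd3 yd37 zd40) (kd xd0 yd49 zd28) (kd xd0 yd49 zd30) (kd xd1 yd43 zd12) (kd xd3 yd37 zd46) (kd xd3 yd37 zd48) (kd xd3 yd37 zd51) (kd xd3 yd37 zd53) (kd xd0 yd49 zd32) (kd xd3 yd37 zd56) (kd xd1 yd44 zd10) (kd xd3 yd31 zd48) (kd xd0 yd53 zd24) (kd xd3 yd37 zd61) (kd xd3 yd38 zd0) (kd xd3 yd38 zd2) (kd xd0 yd49 zd36) (kd xd1 yd45 zd57) (kd xd1 yd45 zd56) (kd xd3 yd29 zd19) (kd xd0 yd49 zd42)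 (kd xd0 yd49 zd43) (kd xd3 yd28 zd29)) (@D3.rec (fun _ => Pt) (kd xd3 yd38 zd7) (kd xd0 yd49 zd45) (kd xd3 yd38 zd10) (kd xd0 yd49 zd47) (kd xd1 yd42 zd60) (kd xd3 yd38 zd13) (kd xd0 yd49 zd49) (kd xd3 yd38 zd18) (kd xd1 yd55 zd8) (kd xd1 yd43 zd45) (kd xd1 yd46 zd10) (kd xd3 yd4 zd13) (kd xd3 yd38 zd27) (kd xd3 yd3 zd47) (kd xd3 yd38 zd30) (kd xd0 yd50 zd1) (kd xd3 yd38 zd36) (kd xd3 yd38 zd39) (kd xd3 yd38 zd42) (kd xd0 yd49 zd54) (kd xd3 yd38 zd47) (kd xd3 yd38 zd51) (kd xd3 yd38 zd55) (kd xd0 yd49 zd55) (kd xd3 yd36 zd26) (kd xd3 yd38 zd58) (kd xd3 yd38 zd61) (kd xd0 yd49 zd56) (kd xd1 yd42 zd3) (kd xd1 yd46 zd29) (kd xd1 yd44 zd28) (kd xd3 yd39 zd8) (kd xd1 yd42 zd29) (kd xd0 yd54 zd2) (kd xd1 yd44 zd41) (kd xd3 yd37 zd42) (kd xd3 yd38 zd32) (kd xd3 yd39 zd19)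 (kd xd3 yd33 zd41) (kd xd3 yd39 zd24) (kd xd1 yd27 zd53) (kd xd3 yd39 zd29) (kd xd3 yd39 zd33) (kd xd3 yd39 zd36) (kd xd3 yd39 zd39) (kd xd0 yd50 zd6) (kd xd0 yd53 zd17) (kd xd3 yd39 zd46) (kd xd0 yd52 zd16) (kd xd0 yd53 zd19) (kd xd3 yd39 zd50) (kd xd1 yd53 zd29) (kd xd1 yd39 zd35) (kd xd3 yd39 zd52) (kd xd1 yd55 zd7) (kd xd0 yd50 zd15) (kd xd1 yd31 zd31) (kd xd1 yd29 zd15) (kd xd3 yd39 zd58) (kd xd3 yd39 zd59) (kd xd3 yd39 zd60) (kd xd0 yd50 zd17)) (@D3.rec (fun _ => Pt) (kd xd3 yd40 zd3) (kd xd3 yd40 zd8) (kd xd0 yd50 zd18) (kd xd3 yd40 zd14) (kd xd3 yd31 zd12) (kd xd0 yd50 zd19) (kd xd1 yd54 zd38) (kd xd3 yd40 zd23) (kd xd0 yd50 zd21) (kd xd3 yd40 zd25) (kd xd1 yd48 zd58) (kd xd3 yd10 zd30) (kd xd3 yd40 zd31) (kd xd0 yd50 zd24) (kd xd3 yd40 zd35) (kd xd3 yd40 zd37)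 (kd xd0 yd50 zd26) (kd xd3 yd40 zd41) (kd xd3 yd28 zd13) (kd xd1 yd53 zd53) (kd xd1 yd47 zd20) (kd xd3 yd40 zd10) (kd xd3 yd40 zd49) (kd xd0 yd50 zd28) (kd xd3 yd40 zd56) (kd xd2 yd55 zd32) (kd xd1 yd54 zd39) (kd xd3 yd41 zd2) (kd xd0 yd50 zd31) (kd xd3 yd41 zd7) (kd xd3 yd39 zd6) (kd xd1 yd54 zd33) (kd xd3 yd41 zd13) (kd xd0 yd50 zd33) (kd xd3 yd41 zd16) (kd xd3 yd41 zd20) (kd xd0 yd50 zd34) (kd xd3 yd41 zd23) (kd xd0 yd53 zd25) (kd xd0 yd53 zd26) (kd xd1 yd48 zd27) (kd xd3 yd41 zd33) (kd xd3 yd41 zd36) (kd xd3 yd41 zd39) (kd xd0 yd50 zd36) (kd xd3 yd41 zd44) (kd xd3 yd41 zd45) (kd xd3 yd41 zd49) (kd xd0 yd50 zd37) (kd xd3 yd41 zd52) (kd xd3 yd41 zd54) (kd xd3 yd41 zd57) (kd xd0 yd50 zd38) (kd xd1 yd42 zd10) (kd xd3 yd41 zd60) (kd xd0 yd50 zd40) (kd xd1 yd54 zd25)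 (kd xd3 yd42 zd1) (kd xd1 yd42 zd14) (kd xd0 yd50 zd45) (kd xd0 yd50 zd46) (kd xd0 yd52 zd1)) (@D3.rec (fun _ => Pt) (kd xd1 yd39 zd9) (kd xd1 yd39 zd10) (kd xd3 yd42 zd6) (kd xd3 yd25 zd15) (kd xd3 yd40 zd51) (kd xd3 yd40 zd52) (kd xd3 yd42 zd16) (kd xd0 yd50 zd48) (kd xd3 yd42 zd24) (kd xd1 yd39 zd39) (kd xd1 yd39 zd12) (kd xd3 yd42 zd27) (kd xd3 yd25 zd60) (kd xd0 yd50 zd52) (kd xd3 yd42 zd20) (kd xd3 yd42 zd31) (kd xd3 yd42 zd32) (kd xd0 yd50 zd54) (kd xd3 yd42 zd38) (kd xd0 yd50 zd55) (kd xd3 yd42 zd43) (kd xd1 yd42 zd8) (kd xd0 yd50 zd56) (kd xd3 yd35 zd5) (kd xd3 yd42 zd47) (kd xd1 yd39 zd1) (kd xd3 yd42 zd52) (kd xd1 yd47 zd40) (kd xd3 yd42 zd55) (kd xd0 yd50 zd61) (kd xd3 yd42 zd58) (kd xd0 yd51 zd1) (kd xd3 yd42 zd61) (kd xd1 yd33 zd32) (kd xd0 yd51 zd3) (kd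 xd3 yd43 zd2) (kd xd3 yd43 zd4) (kd xd3 yd43 zd6) (kd xd0 yd51 zd5) (kd xd3 yd43 zd11) (kd xd3 yd43 zd14) (kd xd1 yd26 zd25) (kd xd3 yd43 zd17) (kd xd1 yd33 zd27) (kd xd3 yd19 zd5) (kd xd3 yd19 zd6) (kd xd2 yd46 zd2) (kd xd0 yd51 zd8) (kd xd3 yd43 zd28) (kd xd1 yd38 zd31) (kd xd3 yd42 zd18) (kd xd3 yd42 zd19) (kd xd3 yd43 zd36) (kd xd0 yd51 zd13) (kd xd3 yd43 zd41) (kd xd3 yd43 zd44) (kd xd0 yd51 zd14) (kd xd0 yd53 zd57) (kd xd1 yd47 zd10) (kd xd3 yd43 zd48) (kd xd0 yd51 zd16) (kd xd3 yd43 zd53)) (@D3.rec (fun _ => Pt) (kd xd3 yd43 zd57) (kd xd0 yd51 zd18) (kd xd3 yd43 zd60) (kd xd3 yd10 zd6) (kd xd0 yd51 zd19) (kd xd3 yd44 zd5) (kd xd0 yd53 zd38) (kd xd0 yd53 zd39) (kd xd1 yd33 zd28) (kd xd3 yd44 zd14) (kd xd3 yd44 zd17) (kd xd3 yd44 zd20) (kd xd0 yd51 zd21) (kd xd1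 yd26 zd54) (kd xd3 yd44 zd28) (kd xd0 yd53 zd52) (kd xd1 yd40 zd31) (kd xd3 yd44 zd32) (kd xd1 yd54 zd58) (kd xd3 yd35 zd9) (kd xd3 yd17 zd61) (kd xd3 yd44 zd38) (kd xd1 yd44 zd59) (kd xd0 yd51 zd29) (kd xd3 yd33 zd14) (kd xd3 yd44 zd43) (kd xd1 yd49 zd26) (kd xd3 yd28 zd24) (kd xd1 yd49 zd28) (kd xd0 yd51 zd34) (kd xd3 yd44 zd50) (kd xd1 yd49 zd31) (kd xd3 yd33 zd0) (kd xd1 yd33 zd50) (kd xd0 yd51 zd37) (kd xd3 yd44 zd60) (kd xd3 yd44 zd61) (kd xd3 yd45 zd2) (kd xd1 yd49 zd38) (kd xd3 yd45 zd5) (kd xd3 yd45 zd7) (kd xd0 yd51 zd41) (kd xd3 yd45 zd10) (kd xd3 yd13 zd25) (kd xd1 yd29 zd40) (kd xd3 yd45 zd14) (kd xd1 yd49 zd46) (kd xd0 yd51 zd44) (kd xd1 yd7 zd39) (kd xd3 yd16 zd47) (kd xd3 yd38 zd11) (kd xd3 yd16 zd46) (kd xd3 yd45 zd27) (kd xd3 yd17 zd58) (kd xd3 yd45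 zd33) (kd xd3 yd45 zd36) (kd xd1 yd49 zd56) (kd xd3 yd45 zd41) (kd xd0 yd51 zd51) (kd xd3 yd45 zd44) (kd xd3 yd45 zd47) (kd xd0 yd51 zd52)) (@D3.rec (fun _ => Pt) (kd xd3 yd45 zd50) (kd xd2 yd19 zd61) (kd xd2 yd21 zd46) (kd xd3 yd45 zd57) (kd xd0 yd52 zd28) (kd xd0 yd52 zd29) (kd xd3 yd46 zd3) (kd xd3 yd46 zd6) (kd xd3 yd46 zd9) (kd xd0 yd51 zd55) (kd xd3 yd46 zd14) (kd xd3 yd46 zd16) (kd xd0 yd51 zd56) (kd xd1 yd51 zd54) (kd xd3 yd1 zd32) (kd xd3 yd46 zd22) (kd xd0 yd51 zd60) (kd xd3 yd46 zd25) (kd xd1 yd35 zd51) (kd xd1 yd35 zd54) (kd xd3 yd44 zd58) (kd xd1 yd29 zd60) (kd xd3 yd46 zd31) (kd xd3 yd9 zd0) (kd xd3 yd46 zd33) (kd xd3 yd46 zd35) (kd xd3 yd19 zd46) (kd xd0 yd52 zd7) (kd xd3 yd46 zd44) (kd xd3 yd46 zd47) (kd xd3 yd46 zd50) (kd xd3 yd46 zd53) (kd xd0 yd52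 zd9) (kd xd3 yd37 zd54) (kd xd1 yd53 zd2) (kd xd3 yd36 zd23) (kd xd3 yd29 zd26) (kd xd3 yd47 zd1) (kd xd0 yd52 zd12) (kd xd3 yd47 zd5) (kd xd3 yd47 zd7) (kd xd3 yd39 zd44) (kd xd1 yd34 zd3) (kd xd0 yd52 zd15) (kd xd3 yd47 zd14) (kd xd2 yd51 zd51) (kd xd0 yd52 zd17) (kd xd3 yd47 zd20) (kd xd3 yd47 zd25) (kd xd0 yd52 zd18) (kd xd3 yd47 zd28) (kd xd3 yd47 zd31) (kd xd3 yd47 zd35) (kd xd3 yd47 zd37) (kd xd0 yd52 zd19) (kd xd3 yd47 zd45) (kd xd3 yd47 zd49) (kd xd3 yd47 zd52) (kd xd3 yd47 zd56) (kd xd0 yd52 zd21) (kd xd3 yd47 zd61) (kd xd3 yd48 zd0)) (@D3.rec (fun _ => Pt) (kd xd3 yd48 zd3) (kd xd0 yd52 zd22) (kd xd1 yd52 zd59) (kd xd3 yd48 zd7) (kd xd1 yd53 zd5) (kd xd3 yd26 zd43) (kd xd2 yd20 zd1) (kd xd0 yd52 zd26) (kd xd3 yd48 zd15) (kd xd3 yd48 zd16) (kd xd3 yd48 zd18)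 (kd xd3 yd26 zd44) (kd xd3 yd45 zd59) (kd xd3 yd48 zd24) (kd xd3 yd45 zd61) (kd xd3 yd48 zd29) (kd xd2 yd21 zd44) (kd xd1 yd34 zd2) (kd xd0 yd52 zd30) (kd xd3 yd48 zd36) (kd xd1 yd41 zd24) (kd xd1 yd41 zd25) (kd xd3 yd48 zd44) (kd xd3 yd48 zd47) (kd xd3 yd48 zd50) (kd xd0 yd52 zd32) (kd xd3 yd48 zd55) (kd xd3 yd48 zd57) (kd xd0 yd52 zd33) (kd xd1 yd41 zd35) (kd xd3 yd48 zd60) (kd xd0 yd52 zd34) (kd xd3 yd24 zd59) (kd xd3 yd49 zd2) (kd xd3 yd49 zd7) (kd xd0 yd52 zd37) (kd xd3 yd49 zd10) (kd xd1 yd52 zd1) (kd xd3 yd26 zd23) (kd xd0 yd52 zd38) (kd xd3 yd49 zd16) (kd xd3 yd46 zd38) (kd xd3 yd46 zd39) (kd xd3 yd49 zd20) (kd xd0 yd52 zd39) (kd xd3 yd49 zd28) (kd xd3 yd49 zd32) (kd xd3 yd49 zd36) (kd xd3 yd49 zd38) (kd xd0 yd52 zd41) (kd xd3 yd49 zd43) (kd xd3 yd49 zd45) (kd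 xd3 yd30 zd44) (kd xd3 yd34 zd57) (kd xd1 yd50 zd13) (kd xd3 yd49 zd53) (kd xd0 yd52 zd44) (kd xd3 yd49 zd56) (kd xd3 yd49 zd60) (kd xd3 yd50 zd0) (kd xd3 yd50 zd2) (kd xd0 yd52 zd45)) (@D3.rec (fun _ => Pt) (kd xd3 yd50 zd9) (kd xd1 yd51 zd37) (kd xd1 yd40 zd45) (kd xd3 yd50 zd17) (kd xd0 yd52 zd48) (kd xd3 yd50 zd21) (kd xd2 yd56 zd21) (kd xd3 yd50 zd25) (kd xd2 yd51 zd54) (kd xd3 yd50 zd30) (kd xd0 yd52 zd49) (kd xd3 yd50 zd37) (kd xd3 yd44 zd25) (kd xd3 yd50 zd41) (kd xd0 yd52 zd52) (kd xd3 yd50 zd46) (kd xd3 yd50 zd49) (kd xd0 yd52 zd53) (kd xd3 yd50 zd52) (kd xd0 yd52 zd54) (kd xd3 yd50 zd56) (kd xd1 yd38 zd47) (kd xd1 yd37 zd59) (kd xd3 yd51 zd3) (kd xd3 yd51 zd6) (kd xd3 yd51 zd9) (kd xd0 yd52 zd56) (kd xd3 yd51 zd13) (kd xd3 yd15 zd23) (kd xd3 yd51 zd19) (kd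 xd3 yd15 zd48) (kd xd3 yd51 zd25) (kd xd3 yd15 zd7) (kd xd3 yd51 zd33) (kd xd3 yd51 zd37) (kd xd3 yd51 zd41) (kd xd0 yd52 zd60) (kd xd3 yd51 zd46) (kd xd3 yd51 zd50) (kd xd3 yd51 zd54) (kd xd3 yd51 zd58) (kd xd0 yd53 zd0) (kd xd3 yd52 zd2) (kd xd2 yd38 zd53) (kd xd3 yd27 zd34) (kd xd0 yd53 zd1) (kd xd3 yd52 zd9) (kd xd3 yd52 zd13) (kd xd3 yd52 zd17) (kd xd3 yd52 zd22) (kd xd0 yd53 zd3) (kd xd3 yd52 zd25) (kd xd3 yd52 zd27) (kd xd3 yd52 zd30) (kd xd0 yd53 zd4) (kd xd3 yd30 zd35) (kd xd3 yd52 zd34) (kd xd3 yd52 zd37) (kd xd0 yd53 zd5) (kd xd1 yd51 zd2) (kd xd3 yd52 zd46) (kd xd3 yd52 zd49)) (@D3.rec (fun _ => Pt) (kd xd0 yd53 zd6) (kd xd3 yd52 zd56) (kd xd1 yd50 zd34) (kd xd3 yd31 zd36) (kd xd3 yd53 zd0) (kd xd1 yd51 zd4) (kd xd3 yd30 zd50) (kd xd3 yd53 zd2) (kd xd3 yd53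 zd5) (kd xd0 yd53 zd9) (kd xd3 yd53 zd12) (kd xd3 yd53 zd15) (kd xd0 yd53 zd10) (kd xd3 yd53 zd20) (kd xd3 yd53 zd23) (kd xd0 yd53 zd12) (kd xd0 yd53 zd13) (kd xd3 yd32 zd6) (kd xd3 yd53 zd27) (kd xd1 yd43 zd22) (kd xd1 yd44 zd50) (kd xd3 yd53 zd30) (kd xd3 yd30 zd49) (kd xd3 yd53 zd34) (kd xd3 yd53 zd35) (kd xd0 yd53 zd18) (kd xd0 yd53 zd20) (kd xd1 yd44 zd33) (kd xd3 yd53 zd42) (kd xd1 yd46 zd51) (kd xd3 yd53 zd45) (kd xd3 yd53 zd47) (kd xd3 yd53 zd51) (kd xd0 yd53 zd22) (kd xd2 yd50 zd26) (kd xd0 yd53 zd23) (kd xd3 yd53 zd58) (kd xd3 yd31 zd19) (kd xd3 yd54 zd0) (kd xd1 yd40 zd5) (kd xd3 yd41 zd25) (kd xd3 yd54 zd6) (kd xd3 yd41 zd27) (kd xd3 yd54 zd12) (kd xd2 yd22 zd0) (kd xd3 yd54 zd17) (kd xd3 yd54 zd20) (kd xd3 yd54 zd23) (kd xd0 yd53 zd28) (kd xd3 yd54 zd28)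 (kd xd3 yd54 zd29) (kd xd3 yd54 zd32) (kd xd0 yd53 zd29) (kd xd1 yd47 zd19) (kd xd3 yd54 zd37) (kd xd3 yd54 zd40) (kd xd0 yd53 zd30) (kd xd3 yd39 zd11) (kd xd3 yd54 zd45) (kd xd0 yd53 zd32) (kd xd3 yd54 zd48) (kd xd0 yd53 zd36)) (@D3.rec (fun _ => Pt) (kd xd3 yd54 zd52) (kd xd0 yd53 zd55) (kd xd1 yd39 zd60) (kd xd0 yd53 zd37) (kd xd3 yd54 zd57) (kd xd3 yd44 zd6) (kd xd3 yd55 zd0) (kd xd3 yd44 zd8) (kd xd3 yd55 zd5) (kd xd1 yd35 zd58) (kd xd3 yd55 zd11) (kd xd3 yd55 zd14) (kd xd3 yd55 zd16) (kd xd0 yd53 zd41) (kd xd3 yd55 zd21) (kd xd1 yd39 zd53) (kd xd3 yd55 zd24) (kd xd3 yd33 zd61) (kd xd3 yd55 zd26) (kd xd3 yd31 zd46) (kd xd3 yd34 zd54) (kd xd3 yd34 zd55) (kd xd3 yd55 zd35) (kd xd0 yd53 zd45) (kd xd3 yd55 zd37) (kd xd1 yd47 zd56) (kd xd3 yd55 zd39) (kd xd0 yd53 zd51)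 (kd xd3 yd55 zd45) (kd xd3 yd47 zd8) (kd xd3 yd55 zd46) (kd xd0 yd53 zd54) (kd xd3 yd55 zd51) (kd xd1 yd47 zd31) (kd xd0 yd53 zd56) (kd xd3 yd40 zd17) (kd xd3 yd36 zd2) (kd xd3 yd55 zd57) (kd xd1 yd47 zd6) (kd xd1 yd47 zd26) (kd xd3 yd55 zd60) (kd xd3 yd39 zd10) (kd xd3 yd56 zd2) (kd xd0 yd53 zd60) (kd xd3 yd56 zd4) (kd xd3 yd56 zd5) (kd xd3 yd39 zd2) (kd xd3 yd56 zd8) (kd xd3 yd56 zd10) (kd xd0 yd54 zd5) (kd xd0 yd54 zd11) (kd xd3 yd56 zd15) (kd xd3 yd56 zd16) (kd xd0 yd54 zd6) (kd xd3 yd56 zd23) (kd xd3 yd31 zd45) (kd xd3 yd56 zd26) (kd xd3 yd31 zd30) (kd xd1 yd49 zd18) (kd xd3 yd56 zd30) (kd xd3 yd56 zd32) (kd xd3 yd28 zd14)) (@D3.rec (fun _ => Pt) (kd xd3 yd56 zd35) (kd xd3 yd56 zd36) (kd xd0 yd54 zd12) (kd xd3 yd56 zd43) (kd xd3 yd31 zd34) (kd xd0 yd54 zd16) (kd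 xd3 yd56 zd48) (kd xd1 yd46 zd54) (kd xd1 yd46 zd8) (kd xd3 yd28 zd9) (kd xd0 yd54 zd20) (kd xd3 yd56 zd55) (kd xd3 yd56 zd56) (kd xd0 yd54 zd21) (kd xd1 yd58 zd20) (kd xd0 yd54 zd22) (kd xd2 yd6 zd60) (kd xd2 yd7 zd1) (kd xd1 yd57 zd56) (kd xd3 yd57 zd8) (kd xd0 yd54 zd24) (kd xd3 yd57 zd12) (kd xd0 yd54 zd25) (kd xd1 yd12 zd55) (kd xd3 yd57 zd18) (kd xd2 yd4 zd4) (kd xd0 yd56 zd39) (kd xd3 yd57 zd21) (kd xd1 yd20 zd38) (kd xd3 yd57 zd24) (kd xd3 yd57 zd26) (kd xd3 yd57 zd30) (kd xd0 yd54 zd29) (kd xd3 yd57 zd36) (kd xd3 yd57 zd39) (kd xd0 yd54 zd31) (kd xd1 yd42 zd51) (kd xd3 yd57 zd44) (kd xd0 yd54 zd33) (kd xd3 yd57 zd48) (kd xd0 yd54 zd34) (kd xd3 yd57 zd50) (kd xd3 yd57 zd52) (kd xd3 yd57 zd55) (kd xd3 yd57 zd57) (kd xd0 yd54 zd35) (kd xd3 yd57 zd35) (kd xd3 yd58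 zd3) (kd xd0 yd54 zd38) (kd xd0 yd54 zd39) (kd xd3 yd58 zd6) (kd xd3 yd58 zd7) (kd xd0 yd54 zd40) (kd xd3 yd58 zd11) (kd xd3 yd58 zd12) (kd xd3 yd58 zd14) (kd xd0 yd54 zd41) (kd xd3 yd58 zd19) (kd xd3 yd58 zd20) (kd xd0 yd54 zd42) (kd xd2 yd7 zd10) (kd xd2 yd7 zd13)) (@D3.rec (fun _ => Pt) (kd xd2 yd7 zd14) (kd xd3 yd58 zd33) (kd xd0 yd54 zd44) (kd xd1 yd19 zd36) (kd xd2 yd28 zd48) (kd xd2 yd0 zd44) (kd xd3 yd58 zd47) (kd xd0 yd54 zd47) (kd xd1 yd56 zd8) (kd xd2 yd13 zd39) (kd xd2 yd52 zd58) (kd xd3 yd57 zd33) (kd xd2 yd13 zd41) (kd xd1 yd57 zd60) (kd xd3 yd58 zd60) (kd xd3 yd59 zd3) (kd xd3 yd59 zd5) (kd xd0 yd54 zd58) (kd xd3 yd59 zd10) (kd xd1 yd10 zd9) (kd xd0 yd55 zd3) (kd xd0 yd54 zd60) (kd xd3 yd59 zd17) (kd xd3 yd59 zd22) (kd xd0 yd54 zd61) (kd xd3 yd59 zd26)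 (kd xd3 yd59 zd29) (kd xd3 yd59 zd32) (kd xd0 yd55 zd0) (kd xd3 yd59 zd37) (kd xd0 yd55 zd1) (kd xd1 yd20 zd55) (kd xd1 yd20 zd56) (kd xd3 yd59 zd48) (kd xd3 yd59 zd9) (kd xd3 yd59 zd54) (kd xd3 yd59 zd57) (kd xd3 yd59 zd15) (kd xd0 yd55 zd4) (kd xd1 yd57 zd27) (kd xd0 yd55 zd6) (kd xd3 yd57 zd32) (kd xd1 yd58 zd5) (kd xd0 yd55 zd42) (kd xd0 yd55 zd9) (kd xd2 yd18 zd42) (kd xd4 yd0 zd1) (kd xd0 yd55 zd10) (kd xd4 yd0 zd5) (kd xd4 yd0 zd6) (kd xd4 yd0 zd8) (kd xd3 yd10 zd5) (kd xd0 yd55 zd12) (kd xd4 yd0 zd4) (kd xd1 yd59 zd22) (kd xd1 yd12 zd50) (kd xd4 yd0 zd19) (kd xd0 yd55 zd15) (kd xd2 yd9 zd12) (kd xd1 yd57 zd34) (kd xd4 yd0 zd28) (kd xd0 yd55 zd19)) (@D3.rec (fun _ => Pt) (kd xd4 yd0 zd32) (kd xd1 yd57 zd1) (kd xd2 yd10 zd28) (kd xd4 yd0 zd38) (kd xd4 yd0 zd23)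 (kd xd1 yd27 zd56) (kd xd2 yd26 zd6) (kd xd1 yd57 zd7) (kd xd4 yd0 zd42) (kd xd4 yd0 zd46) (kd xd4 yd0 zd48) (kd xd0 yd55 zd24) (kd xd4 yd0 zd52) (kd xd0 yd55 zd26) (kd xd4 yd0 zd31) (kd xd4 yd0 zd58) (kd xd3 yd3 zd55) (kd xd0 yd55 zd28) (kd xd4 yd0 zd61) (kd xd0 yd55 zd29) (kd xd4 yd1 zd3) (kd xd1 yd9 zd7) (kd xd1 yd0 zd32) (kd xd1 yd59 zd4) (kd xd0 yd55 zd31) (kd xd0 yd59 zd21) (kd xd2 yd29 zd51) (kd xd1 yd56 zd39) (kd xd1 yd19 zd1) (kd xd0 yd55 zd36) (kd xd1 yd1 zd23) (kd xd1 yd9 zd32) (kd xd0 yd56 zd24) (kd xd4 yd1 zd17) (kd xd1 yd56 zd59) (kd xd0 yd55 zd39) (kd xd2 yd29 zd46) (kd xd4 yd1 zd22) (kd xd0 yd55 zd41) (kd xd4 yd1 zd24) (kd xd4 yd1 zd26) (kd xd1 yd10 zd14) (kd xd4 yd1 zd29) (kd xd4 yd1 zd31) (kd xd4 yd1 zd33) (kd xd0 yd55 zd44) (kd xd4 yd1 zd38) (kd xd4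 yd1 zd39) (kd xd0 yd55 zd46) (kd xd0 yd55 zd47) (kd xd4 yd1 zd45) (kd xd3 yd57 zd16) (kd xd1 yd1 zd28) (kd xd4 yd1 zd55) (kd xd0 yd55 zd49) (kd xd0 yd55 zd50) (kd xd1 yd55 zd18) (kd xd1 yd10 zd15) (kd xd1 yd10 zd16) (kd xd4 yd2 zd3) (kd xd1 yd56 zd13) (kd xd0 yd55 zd53)) (@D3.rec (fun _ => Pt) (kd xd2 yd33 zd12) (kd xd4 yd2 zd7) (kd xd0 yd55 zd55) (kd xd4 yd2 zd8) (kd xd4 yd2 zd10) (kd xd1 yd56 zd42) (kd xd4 yd2 zd13) (kd xd4 yd2 zd14) (kd xd4 yd2 zd19) (kd xd0 yd55 zd58) (kd xd4 yd2 zd25) (kd xd1 yd58 zd11) (kd xd3 yd56 zd61) (kd xd1 yd1 zd18) (kd xd4 yd2 zd30) (kd xd0 yd55 zd61) (kd xd4 yd2 zd33) (kd xd0 yd56 zd0) (kd xd4 yd2 zd36) (kd xd2 yd8 zd19) (kd xd1 yd55 zd14) (kd xd4 yd2 zd40) (kd xd0 yd56 zd2) (kd xd4 yd2 zd43) (kd xd0 yd56 zd3) (kd xd2 yd4 zd60) (kd xd4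 yd2 zd49) (kd xd4 yd2 zd54) (kd xd0 yd56 zd5) (kd xd0 yd56 zd6) (kd xd1 yd16 zd16) (kd xd4 yd3 zd1) (kd xd0 yd56 zd7) (kd xd4 yd3 zd6) (kd xd4 yd3 zd9) (kd xd2 yd37 zd48) (kd xd4 yd3 zd16) (kd xd0 yd56 zd9) (kd xd0 yd56 zd10) (kd xd1 yd15 zd47) (kd xd1 yd1 zd21) (kd xd2 yd6 zd54) (kd xd1 yd58 zd60) (kd xd4 yd3 zd32) (kd xd2 yd33 zd11) (kd xd0 yd56 zd12) (kd xd2 yd7 zd52) (kd xd4 yd3 zd35) (kd xd4 yd3 zd36) (kd xd0 yd56 zd13) (kd xd4 yd3 zd44) (kd xd1 yd58 zd57) (kd xd4 yd3 zd50) (kd xd1 yd1 zd22) (kd xd0 yd56 zd15) (kd xd2 yd8 zd15) (kd xd2 yd3 zd14) (kd xd1 yd58 zd51) (kd xd4 yd3 zd59) (kd xd2 yd4 zd49) (kd xd1 yd58 zd42) (kd xd2 yd29 zd49)) (@D3.rec (fun _ => Pt) (kd xd1 yd59 zd20) (kd xd1 yd59 zd8) (kd xd4 yd4 zd14) (kd xd0 yd56 zd18) (kd xd1 yd57 zd23) (kd xd1 yd59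 zd5) (kd xd1 yd10 zd22) (kd xd2 yd3 zd13) (kd xd1 yd59 zd1) (kd xd4 yd4 zd29) (kd xd4 yd4 zd32) (kd xd0 yd56 zd21) (kd xd2 yd0 zd49) (kd xd2 yd6 zd59) (kd xd1 yd19 zd5) (kd xd2 yd31 zd30) (kd xd0 yd56 zd25) (kd xd4 yd4 zd35) (kd xd0 yd56 zd28) (kd xd2 yd23 zd24) (kd xd1 yd59 zd0) (kd xd4 yd4 zd43) (kd xd1 yd56 zd54) (kd xd0 yd56 zd30) (kd xd2 yd26 zd13) (kd xd2 yd25 zd49) (kd xd0 yd56 zd31) (kd xd4 yd4 zd49) (kd xd0 yd58 zd33) (kd xd4 yd2 zd21) (kd xd1 yd1 zd41) (kd xd4 yd2 zd22) (kd xd1 yd1 zd31) (kd xd4 yd4 zd55) (kd xd0 yd56 zd41) (kd xd4 yd4 zd59) (kd xd4 yd4 zd60) (kd xd4 yd4 zd61) (kd xd0 yd56 zd45) (kd xd0 yd56 zd46) (kd xd4 yd5 zd2) (kd xd4 yd5 zd3) (kd xd0 yd56 zd47) (kd xd4 yd5 zd6) (kd xd4 yd5 zd7) (kd xd4 yd5 zd9) (kd xd0 yd56 zd48) (kd xd3 yd58 zd9) (kd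 xd4 yd5 zd14) (kd xd0 yd56 zd49) (kd xd2 yd28 zd61) (kd xd2 yd29 zd2) (kd xd2 yd29 zd3) (kd xd4 yd5 zd25) (kd xd0 yd56 zd51) (kd xd1 yd18 zd21) (kd xd2 yd6 zd47) (kd xd1 yd3 zd10) (kd xd3 yd2 zd52) (kd xd0 yd56 zd54) (kd xd2 yd1 zd2) (kd xd1 yd59 zd61))
def f_d_2 : D2 → D3 → Pt := @D2.rec (fun _ => D3 → Pt) (@D3.rec (fun _ => Pt) (kd xd1 yd0 zd60) (kd xd4 yd1 zd34) (kd xd1 yd10 zd31) (kd xd4 yd5 zd36) (kd xd0 yd56 zd60) (kd xd2 yd51 zd33) (kd xd4 yd5 zd41) (kd xd0 yd57 zd0) (kd xd4 yd5 zd43) (kd xd0 yd57 zd3) (kd xd4 yd5 zd44) (kd xd0 yd57 zd4) (kd xd2 yd52 zd57) (kd xd4 yd5 zd51) (kd xd4 yd5 zd56) (kd xd4 yd5 zd58) (kd xd0 yd57 zd6) (kd xd4 yd6 zd1) (kd xd2 yd0 zd53) (kd xd1 yd20 zd60) (kd xd0 yd57 zd8) (kd xd4 yd6 zd8) (kd xd4 yd6 zd9) (kd xd0 yd57 zd11) (kd xd0 yd57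 zd12) (kd xd4 yd6 zd12) (kd xd4 yd6 zd13) (kd xd0 yd57 zd13) (kd xd4 yd6 zd16) (kd xd4 yd6 zd17) (kd xd4 yd6 zd20) (kd xd0 yd57 zd14) (kd xd2 yd25 zd12) (kd xd4 yd6 zd26) (kd xd4 yd6 zd28) (kd xd0 yd57 zd15) (kd xd2 yd32 zd7) (kd xd2 yd25 zd24) (kd xd2 yd25 zd9) (kd xd4 yd6 zd41) (kd xd0 yd57 zd17) (kd xd0 yd57 zd18) (kd xd1 yd0 zd28) (kd xd2 yd40 zd1) (kd xd1 yd56 zd5) (kd xd0 yd57 zd20) (kd xd2 yd31 zd58) (kd xd2 yd34 zd4) (kd xd2 yd31 zd60) (kd xd1 yd59 zd12) (kd xd2 yd3 zd35) (kd xd4 yd7 zd0) (kd xd0 yd57 zd24) (kd xd2 yd0 zd18) (kd xd2 yd0 zd54) (kd xd3 yd0 zd19) (kd xd4 yd7 zd5) (kd xd3 yd0 zd21) (kd xd3 yd42 zd7) (kd xd4 yd7 zd13) (kd xd4 yd7 zd15) (kd xd0 yd57 zd33)) (@D3.rec (fun _ => Pt) (kd xd4 yd7 zd20) (kd xd1 yd5 zd22) (kd xd1 yd59 zd60) (kd xd1 yd22 zd2)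 (kd xd0 yd57 zd35) (kd xd4 yd7 zd29) (kd xd4 yd7 zd30) (kd xd4 yd7 zd32) (kd xd0 yd57 zd38) (kd xd4 yd7 zd36) (kd xd0 yd57 zd39) (kd xd2 yd11 zd57) (kd xd2 yd40 zd10) (kd xd4 yd7 zd44) (kd xd0 yd57 zd41) (kd xd4 yd7 zd47) (kd xd0 yd57 zd42) (kd xd4 yd7 zd52) (kd xd4 yd7 zd53) (kd xd0 yd57 zd43) (kd xd4 yd7 zd57) (kd xd0 yd57 zd44) (kd xd2 yd34 zd32) (kd xd1 yd16 zd50) (kd xd4 yd8 zd5) (kd xd0 yd57 zd46) (kd xd4 yd8 zd8) (kd xd4 yd8 zd10) (kd xd0 yd57 zd47) (kd xd1 yd14 zd24) (kd xd0 yd57 zd48) (kd xd1 yd16 zd51) (kd xd2 yd40 zd29) (kd xd1 yd14 zd18) (kd xd4 yd8 zd25) (kd xd0 yd57 zd50) (kd xd0 yd57 zd51) (kd xd2 yd36 zd31) (kd xd4 yd8 zd31) (kd xd0 yd57 zd52) (kd xd4 yd5 zd20) (kd xd2 yd5 zd21) (kd xd2 yd6 zd55) (kd xd4 yd8 zd45) (kd xd4 yd8 zd49) (kd xd2 yd30 zd2)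 (kd xd0 yd57 zd54) (kd xd1 yd14 zd23) (kd xd4 yd8 zd52) (kd xd4 yd8 zd53) (kd xd4 yd8 zd55) (kd xd0 yd57 zd55) (kd xd4 yd3 zd39) (kd xd4 yd9 zd0) (kd xd0 yd57 zd56) (kd xd4 yd9 zd5) (kd xd4 yd9 zd8) (kd xd4 yd9 zd12) (kd xd0 yd57 zd58) (kd xd1 yd16 zd52) (kd xd4 yd9 zd16) (kd xd4 yd9 zd21)) (@D3.rec (fun _ => Pt) (kd xd0 yd57 zd59) (kd xd4 yd9 zd27) (kd xd4 yd3 zd43) (kd xd4 yd9 zd33) (kd xd0 yd57 zd60) (kd xd4 yd9 zd38) (kd xd4 yd9 zd42) (kd xd4 yd9 zd45) (kd xd4 yd9 zd50) (kd xd0 yd57 zd61) (kd xd4 yd9 zd56) (kd xd2 yd2 zd11) (kd xd0 yd58 zd1) (kd xd0 yd58 zd2) (kd xd2 yd10 zd55) (kd xd4 yd10 zd4) (kd xd0 yd58 zd3) (kd xd4 yd10 zd9) (kd xd2 yd10 zd59) (kd xd2 yd11 zd12) (kd xd4 yd10 zd18) (kd xd2 yd35 zd56) (kd xd2 yd29 zd57) (kd xd2 yd29 zd58) (kd xd1 yd14 zd27)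 (kd xd2 yd5 zd51) (kd xd1 yd25 zd19) (kd xd2 yd3 zd34) (kd xd2 yd2 zd60) (kd xd3 yd10 zd55) (kd xd2 yd30 zd7) (kd xd2 yd30 zd6) (kd xd2 yd35 zd59) (kd xd4 yd10 zd36) (kd xd0 yd58 zd11) (kd xd0 yd58 zd12) (kd xd1 yd15 zd57) (kd xd2 yd24 zd42) (kd xd4 yd10 zd47) (kd xd4 yd10 zd50) (kd xd0 yd58 zd14) (kd xd1 yd15 zd58) (kd xd2 yd2 zd51) (kd xd3 yd17 zd7) (kd xd2 yd39 zd45) (kd xd0 yd58 zd16) (kd xd4 yd10 zd61) (kd xd2 yd42 zd47) (kd xd2 yd24 zd13) (kd xd4 yd11 zd6) (kd xd4 yd11 zd10) (kd xd2 yd2 zd42) (kd xd4 yd11 zd18) (kd xd4 yd11 zd21) (kd xd2 yd43 zd30) (kd xd0 yd58 zd21) (kd xd1 yd17 zd28) (kd xd1 yd15 zd11) (kd xd4 yd11 zd29) (kd xd2 yd32 zd54) (kd xd2 yd2 zd28) (kd xd4 yd11 zd38)) (@D3.rec (fun _ => Pt) (kd xd2 yd35 zd57) (kd xd2 yd35 zd58) (kd xd2 yd33 zd0) (kd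 xd2 yd3 zd55) (kd xd3 yd7 zd23) (kd xd4 yd11 zd50) (kd xd4 yd11 zd55) (kd xd4 yd11 zd57) (kd xd0 yd58 zd27) (kd xd1 yd0 zd14) (kd xd2 yd3 zd11) (kd xd2 yd3 zd10) (kd xd4 yd12 zd5) (kd xd1 yd59 zd7) (kd xd1 yd58 zd56) (kd xd4 yd1 zd11) (kd xd2 yd59 zd45) (kd xd4 yd12 zd9) (kd xd4 yd12 zd10) (kd xd4 yd12 zd11) (kd xd0 yd58 zd38) (kd xd0 yd58 zd39) (kd xd2 yd29 zd20) (kd xd2 yd7 zd22) (kd xd2 yd7 zd23) (kd xd4 yd12 zd27) (kd xd2 yd29 zd22) (kd xd2 yd31 zd54) (kd xd2 yd31 zd55) (kd xd1 yd13 zd9) (kd xd1 yd3 zd22) (kd xd1 yd19 zd19) (kd xd1 yd3 zd24) (kd xd1 yd19 zd12) (kd xd2 yd2 zd27) (kd xd2 yd0 zd50) (kd xd1 yd30 zd53) (kd xd1 yd6 zd50) (kd xd2 yd32 zd4) (kd xd2 yd32 zd3) (kd xd2 yd29 zd28) (kd xd2 yd6 zd46) (kd xd2 yd7 zd9) (kd xd2 yd24 zd27) (kd xd4 yd12 zd55) (kd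 xd0 yd58 zd52) (kd xd0 yd58 zd53) (kd xd2 yd25 zd20) (kd xd2 yd6 zd56) (kd xd1 yd9 zd60) (kd xd4 yd13 zd9) (kd xd2 yd44 zd1) (kd xd1 yd9 zd61) (kd xd1 yd10 zd0) (kd xd2 yd12 zd21) (kd xd2 yd3 zd3) (kd xd3 yd24 zd14) (kd xd4 yd5 zd31) (kd xd2 yd44 zd6) (kd xd2 yd6 zd39) (kd xd2 yd6 zd40) (kd xd2 yd24 zd33)) (@D3.rec (fun _ => Pt) (kd xd4 yd13 zd24) (kd xd0 yd59 zd0) (kd xd2 yd4 zd47) (kd xd4 yd1 zd35) (kd xd1 yd55 zd25) (kd xd4 yd13 zd31) (kd xd0 yd59 zd4) (kd xd4 yd13 zd35) (kd xd4 yd13 zd36) (kd xd4 yd13 zd37) (kd xd0 yd59 zd7) (kd xd4 yd13 zd41) (kd xd4 yd13 zd42) (kd xd4 yd13 zd44) (kd xd0 yd59 zd9) (kd xd4 yd13 zd48) (kd xd4 yd13 zd49) (kd xd0 yd59 zd10) (kd xd4 yd13 zd53) (kd xd0 yd59 zd11) (kd xd4 yd13 zd57) (kd xd4 yd13 zd58) (kd xd0 yd59 zd12) (kd xd4 yd6 zd35)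 (kd xd4 yd14 zd2) (kd xd4 yd14 zd4) (kd xd0 yd59 zd13) (kd xd2 yd41 zd4) (kd xd2 yd41 zd7) (kd xd2 yd41 zd8) (kd xd4 yd14 zd16) (kd xd0 yd59 zd15) (kd xd0 yd59 zd16) (kd xd2 yd43 zd38) (kd xd4 yd14 zd24) (kd xd0 yd59 zd18) (kd xd2 yd4 zd43) (kd xd4 yd14 zd31) (kd xd0 yd59 zd20) (kd xd2 yd7 zd27) (kd xd2 yd46 zd28) (kd xd1 yd19 zd7) (kd xd4 yd14 zd40) (kd xd2 yd4 zd36) (kd xd4 yd6 zd45) (kd xd4 yd14 zd49) (kd xd0 yd59 zd23) (kd xd2 yd4 zd2) (kd xd2 yd4 zd48) (kd xd1 yd58 zd59) (kd xd0 yd59 zd28) (kd xd1 yd17 zd45) (kd xd4 yd2 zd47) (kd xd4 yd15 zd0) (kd xd0 yd59 zd30) (kd xd4 yd15 zd3) (kd xd0 yd59 zd32) (kd xd4 yd15 zd6) (kd xd0 yd59 zd33) (kd xd2 yd35 zd31) (kd xd1 yd58 zd25) (kd xd4 yd15 zd16)) (@D3.rec (fun _ => Pt) (kd xd0 yd59 zd35) (kd xd4 yd15 zd19) (kd xd0 yd59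 zd36) (kd xd1 yd14 zd54) (kd xd0 yd59 zd37) (kd xd2 yd11 zd24) (kd xd2 yd40 zd61) (kd xd1 yd14 zd49) (kd xd4 yd15 zd34) (kd xd0 yd59 zd39) (kd xd1 yd17 zd13) (kd xd1 yd17 zd24) (kd xd4 yd15 zd44) (kd xd4 yd15 zd48) (kd xd2 yd32 zd57) (kd xd0 yd59 zd41) (kd xd1 yd14 zd53) (kd xd4 yd15 zd51) (kd xd0 yd59 zd42) (kd xd2 yd37 zd39) (kd xd0 yd59 zd43) (kd xd2 yd1 zd41) (kd xd4 yd15 zd60) (kd xd2 yd41 zd15) (kd xd1 yd2 zd54) (kd xd2 yd11 zd25) (kd xd4 yd16 zd6) (kd xd4 yd16 zd10) (kd xd2 yd36 zd7) (kd xd4 yd16 zd15) (kd xd4 yd16 zd19) (kd xd4 yd16 zd23) (kd xd4 yd16 zd27) (kd xd4 yd16 zd32) (kd xd0 yd59 zd48) (kd xd4 yd16 zd37) (kd xd2 yd5 zd36) (kd xd4 yd16 zd41) (kd xd0 yd59 zd50) (kd xd0 yd59 zd51) (kd xd1 yd15 zd19) (kd xd1 yd15 zd30) (kd xd1 yd16 zd11) (kd xd4 yd16 zd54)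 (kd xd2 yd34 zd61) (kd xd2 yd32 zd51) (kd xd2 yd32 zd52) (kd xd1 yd14 zd57) (kd xd1 yd2 zd51) (kd xd1 yd17 zd32) (kd xd1 yd2 zd53) (kd xd2 yd2 zd25) (kd xd1 yd16 zd37) (kd xd2 yd6 zd21) (kd xd1 yd35 zd53) (kd xd2 yd32 zd61) (kd xd2 yd32 zd60) (kd xd2 yd35 zd2) (kd xd0 yd59 zd60) (kd xd0 yd59 zd61) (kd xd2 yd11 zd3) (kd xd2 yd24 zd12)) (@D3.rec (fun _ => Pt) (kd xd1 yd2 zd37) (kd xd4 yd17 zd25) (kd xd2 yd40 zd31) (kd xd1 yd2 zd38) (kd xd1 yd2 zd39) (kd xd2 yd11 zd4) (kd xd2 yd6 zd13) (kd xd4 yd17 zd34) (kd xd2 yd59 zd14) (kd xd2 yd40 zd37) (kd xd2 yd24 zd43) (kd xd4 yd17 zd42) (kd xd2 yd41 zd39) (kd xd2 yd6 zd6) (kd xd4 yd17 zd53) (kd xd4 yd17 zd56) (kd xd4 yd17 zd58) (kd xd2 yd11 zd46) (kd xd2 yd10 zd49) (kd xd4 yd18 zd3) (kd xd2 yd29 zd60) (kd xd2 yd5 zd53) (kd xd3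 yd9 zd40) (kd xd2 yd35 zd0) (kd xd2 yd35 zd1) (kd xd2 yd30 zd8) (kd xd2 yd7 zd17) (kd xd1 yd30 zd10) (kd xd2 yd6 zd48) (kd xd1 yd29 zd58) (kd xd4 yd18 zd25) (kd xd4 yd18 zd29) (kd xd4 yd11 zd46) (kd xd4 yd18 zd33) (kd xd4 yd18 zd35) (kd xd4 yd18 zd36) (kd xd1 yd0 zd16) (kd xd1 yd0 zd17) (kd xd2 yd25 zd5) (kd xd2 yd3 zd59) (kd xd2 yd3 zd60) (kd xd4 yd18 zd50) (kd xd2 yd32 zd28) (kd xd2 yd28 zd40) (kd xd2 yd28 zd41) (kd xd1 yd11 zd44) (kd xd2 yd3 zd41) (kd xd1 yd59 zd56) (kd xd2 yd6 zd28) (kd xd1 yd29 zd47) (kd xd2 yd28 zd55) (kd xd2 yd28 zd54) (kd xd2 yd32 zd34) (kd xd2 yd28 zd18) (kd xd1 yd58 zd41) (kd xd2 yd1 zd42) (kd xd2 yd3 zd48) (kd xd2 yd23 zd49) (kd xd4 yd6 zd23) (kd xd1 yd59 zd13) (kd xd1 yd55 zd16) (kd xd4 yd1 zd5)) (@D3.rec (fun _ => Pt) (kd xd4 yd19 zd15)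 (kd xd1 yd55 zd17) (kd xd1 yd0 zd31) (kd xd3 yd56 zd58) (kd xd4 yd19 zd20) (kd xd4 yd19 zd21) (kd xd1 yd0 zd36) (kd xd1 yd0 zd37) (kd xd3 yd58 zd16) (kd xd2 yd3 zd42) (kd xd1 yd55 zd60) (kd xd4 yd19 zd36) (kd xd4 yd19 zd39) (kd xd1 yd55 zd61) (kd xd1 yd56 zd0) (kd xd1 yd0 zd39) (kd xd1 yd18 zd25) (kd xd2 yd6 zd26) (kd xd2 yd19 zd22) (kd xd4 yd6 zd58) (kd xd1 yd0 zd41) (kd xd4 yd19 zd48) (kd xd2 yd3 zd23) (kd xd2 yd3 zd24) (kd xd2 yd23 zd55) (kd xd2 yd46 zd16) (kd xd1 yd0 zd46) (kd xd2 yd4 zd39) (kd xd4 yd19 zd61) (kd xd1 yd0 zd48) (kd xd1 yd0 zd49) (kd xd4 yd20 zd5) (kd xd4 yd20 zd6) (kd xd4 yd20 zd8) (kd xd4 yd20 zd13) (kd xd1 yd0 zd52) (kd xd4 yd20 zd18) (kd xd1 yd0 zd54) (kd xd4 yd20 zd22) (kd xd1 yd0 zd55) (kd xd2 yd31 zd29) (kd xd4 yd20 zd27) (kd xd1 yd0 zd57)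 (kd xd1 yd0 zd58) (kd xd4 yd1 zd58) (kd xd4 yd20 zd32) (kd xd4 yd20 zd33) (kd xd4 yd20 zd36) (kd xd4 yd20 zd39) (kd xd1 yd0 zd61) (kd xd4 yd20 zd45) (kd xd1 yd1 zd1) (kd xd1 yd58 zd46) (kd xd1 yd9 zd6) (kd xd4 yd20 zd50) (kd xd1 yd1 zd3) (kd xd1 yd1 zd4) (kd xd4 yd20 zd54) (kd xd1 yd1 zd5) (kd xd2 yd24 zd10) (kd xd4 yd20 zd59) (kd xd1 yd1 zd7)) (@D3.rec (fun _ => Pt) (kd xd1 yd1 zd8) (kd xd4 yd21 zd1) (kd xd1 yd1 zd9) (kd xd1 yd1 zd10) (kd xd4 yd21 zd4) (kd xd1 yd1 zd11) (kd xd4 yd21 zd9) (kd xd4 yd3 zd42) (kd xd4 yd21 zd15) (kd xd1 yd1 zd13) (kd xd1 yd1 zd14) (kd xd4 yd21 zd21) (kd xd2 yd28 zd16) (kd xd4 yd21 zd26) (kd xd1 yd1 zd16) (kd xd1 yd58 zd55) (kd xd4 yd21 zd33) (kd xd4 yd2 zd28) (kd xd4 yd1 zd59) (kd xd1 yd58 zd19) (kd xd1 yd1 zd19) (kd xd2 yd37 zd49) (kd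 xd4 yd21 zd42) (kd xd4 yd3 zd25) (kd xd4 yd21 zd48) (kd xd4 yd21 zd52) (kd xd2 yd36 zd15) (kd xd4 yd21 zd57) (kd xd4 yd1 zd13) (kd xd4 yd22 zd1) (kd xd4 yd22 zd4) (kd xd4 yd22 zd9) (kd xd1 yd1 zd24) (kd xd3 yd57 zd34) (kd xd2 yd8 zd34) (kd xd1 yd1 zd26) (kd xd4 yd1 zd49) (kd xd4 yd22 zd11) (kd xd4 yd1 zd51) (kd xd1 yd12 zd54) (kd xd4 yd22 zd27) (kd xd4 yd22 zd28) (kd xd4 yd22 zd32) (kd xd1 yd1 zd30) (kd xd4 yd22 zd37) (kd xd1 yd2 zd3) (kd xd1 yd1 zd34) (kd xd2 yd45 zd26) (kd xd4 yd22 zd12) (kd xd2 yd45 zd28) (kd xd4 yd22 zd49) (kd xd1 yd1 zd37) (kd xd4 yd22 zd54) (kd xd1 yd1 zd38) (kd xd4 yd22 zd60) (kd xd3 yd5 zd37) (kd xd1 yd19 zd37) (kd xd1 yd20 zd37) (kd xd4 yd23 zd4) (kd xd1 yd1 zd40) (kd xd1 yd45 zd9) (kd xd1 yd1 zd58)) (@D3.rec (fun _ => Pt) (kd xd2 yd10 zd43)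 (kd xd1 yd1 zd42) (kd xd4 yd23 zd10) (kd xd4 yd23 zd14) (kd xd1 yd1 zd43) (kd xd1 yd45 zd21) (kd xd4 yd23 zd20) (kd xd4 yd23 zd25) (kd xd4 yd23 zd27) (kd xd1 yd1 zd44) (kd xd4 yd23 zd32) (kd xd1 yd10 zd13) (kd xd1 yd56 zd58) (kd xd3 yd57 zd9) (kd xd1 yd2 zd18) (kd xd1 yd1 zd46) (kd xd4 yd23 zd44) (kd xd4 yd23 zd48) (kd xd1 yd1 zd48) (kd xd4 yd23 zd51) (kd xd4 yd23 zd52) (kd xd1 yd1 zd49) (kd xd2 yd54 zd26) (kd xd2 yd54 zd27) (kd xd4 yd23 zd58) (kd xd1 yd1 zd50) (kd xd3 yd36 zd4) (kd xd4 yd24 zd6) (kd xd3 yd36 zd36) (kd xd3 yd36 zd35) (kd xd1 yd1 zd52) (kd xd3 yd35 zd43) (kd xd1 yd1 zd53) (kd xd2 yd58 zd9) (kd xd4 yd24 zd12) (kd xd4 yd24 zd15) (kd xd4 yd24 zd17) (kd xd1 yd1 zd55) (kd xd4 yd24 zd23) (kd xd4 yd24 zd26) (kd xd4 yd24 zd28) (kd xd1 yd1 zd57) (kd xd4 yd24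 zd31) (kd xd4 yd24 zd32) (kd xd4 yd23 zd59) (kd xd4 yd23 zd60) (kd xd4 yd24 zd35) (kd xd1 yd1 zd60) (kd xd4 yd20 zd17) (kd xd4 yd24 zd19) (kd xd4 yd24 zd20) (kd xd4 yd24 zd44) (kd xd1 yd2 zd0) (kd xd4 yd24 zd52) (kd xd4 yd24 zd56) (kd xd4 yd24 zd58) (kd xd4 yd24 zd60) (kd xd1 yd2 zd2) (kd xd4 yd25 zd2) (kd xd4 yd25 zd4) (kd xd4 yd25 zd6) (kd xd4 yd25 zd9)) (@D3.rec (fun _ => Pt) (kd xd1 yd2 zd7) (kd xd4 yd25 zd12) (kd xd4 yd25 zd15) (kd xd4 yd25 zd18) (kd xd4 yd25 zd20) (kd xd1 yd2 zd8) (kd xd4 yd25 zd28) (kd xd4 yd25 zd32) (kd xd1 yd2 zd10) (kd xd4 yd25 zd37) (kd xd4 yd25 zd38) (kd xd4 yd25 zd41) (kd xd4 yd25 zd44) (kd xd4 yd25 zd48) (kd xd1 yd2 zd11) (kd xd4 yd25 zd56) (kd xd4 yd25 zd54) (kd xd4 yd25 zd59) (kd xd4 yd25 zd61) (kd xd1 yd2 zd12) (kd xd4 yd26 zd4) (kd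 xd1 yd2 zd13) (kd xd2 yd16 zd47) (kd xd2 yd16 zd48) (kd xd4 yd26 zd19) (kd xd4 yd23 zd31) (kd xd1 yd2 zd15) (kd xd4 yd26 zd27) (kd xd1 yd57 zd2) (kd xd4 yd26 zd33) (kd xd1 yd27 zd32) (kd xd4 yd26 zd41) (kd xd4 yd26 zd45) (kd xd4 yd26 zd49) (kd xd4 yd23 zd42) (kd xd4 yd26 zd54) (kd xd4 yd26 zd55) (kd xd4 yd26 zd57) (kd xd1 yd2 zd20) (kd xd4 yd27 zd1) (kd xd1 yd2 zd21) (kd xd4 yd27 zd5) (kd xd1 yd2 zd22) (kd xd2 yd9 zd0) (kd xd4 yd27 zd7) (kd xd4 yd27 zd8) (kd xd1 yd2 zd23) (kd xd4 yd27 zd11) (kd xd1 yd2 zd24) (kd xd2 yd6 zd18) (kd xd4 yd10 zd3) (kd xd4 yd27 zd19) (kd xd1 yd2 zd26) (kd xd1 yd2 zd27) (kd xd2 yd37 zd21) (kd xd2 yd2 zd14) (kd xd4 yd27 zd29) (kd xd1 yd2 zd29) (kd xd1 yd2 zd30) (kd xd2 yd2 zd18) (kd xd1 yd15 zd43) (kd xd4 yd27 zd39)) (@D3.rec (fun _ => Pt)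 (kd xd1 yd2 zd32) (kd xd1 yd2 zd33) (kd xd4 yd7 zd50) (kd xd2 yd5 zd60) (kd xd2 yd6 zd5) (kd xd4 yd27 zd53) (kd xd4 yd27 zd57) (kd xd2 yd37 zd22) (kd xd1 yd2 zd35) (kd xd1 yd15 zd46) (kd xd4 yd27 zd61) (kd xd4 yd17 zd21) (kd xd2 yd2 zd19) (kd xd4 yd17 zd29) (kd xd4 yd28 zd9) (kd xd4 yd28 zd13) (kd xd4 yd28 zd16) (kd xd4 yd28 zd20) (kd xd4 yd28 zd24) (kd xd4 yd28 zd28) (kd xd4 yd28 zd33) (kd xd1 yd2 zd40) (kd xd4 yd28 zd39) (kd xd2 yd11 zd23) (kd xd2 yd5 zd5) (kd xd2 yd5 zd25) (kd xd4 yd28 zd50) (kd xd2 yd59 zd16) (kd xd2 yd39 zd18) (kd xd2 yd39 zd19) (kd xd1 yd16 zd35) (kd xd2 yd42 zd46) (kd xd1 yd14 zd28) (kd xd4 yd28 zd60) (kd xd1 yd2 zd45) (kd xd2 yd11 zd36) (kd xd2 yd11 zd35) (kd xd2 yd59 zd21) (kd xd4 yd29 zd1) (kd xd1 yd2 zd49) (kd xd2 yd41 zd53) (kd xd4 yd29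 zd10) (kd xd4 yd17 zd0) (kd xd4 yd29 zd18) (kd xd1 yd2 zd52) (kd xd4 yd29 zd21) (kd xd2 yd6 zd17) (kd xd4 yd17 zd4) (kd xd4 yd29 zd27) (kd xd4 yd29 zd31) (kd xd4 yd29 zd36) (kd xd1 yd2 zd55) (kd xd4 yd29 zd41) (kd xd4 yd29 zd44) (kd xd4 yd29 zd46) (kd xd1 yd2 zd56) (kd xd2 yd30 zd27) (kd xd2 yd1 zd11) (kd xd4 yd29 zd51) (kd xd2 yd58 zd52) (kd xd4 yd29 zd59) (kd xd1 yd2 zd58)) (@D3.rec (fun _ => Pt) (kd xd1 yd22 zd21) (kd xd1 yd17 zd51) (kd xd1 yd17 zd52) (kd xd2 yd58 zd58) (kd xd4 yd30 zd7) (kd xd1 yd2 zd60) (kd xd4 yd30 zd10) (kd xd4 yd30 zd16) (kd xd1 yd2 zd61) (kd xd2 yd15 zd24) (kd xd4 yd30 zd23) (kd xd4 yd30 zd28) (kd xd4 yd30 zd30) (kd xd1 yd3 zd0) (kd xd1 yd20 zd27) (kd xd1 yd3 zd9) (kd xd1 yd3 zd23) (kd xd2 yd59 zd34) (kd xd4 yd30 zd44) (kd xd4 yd30 zd47) (kd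 xd4 yd30 zd51) (kd xd2 yd3 zd54) (kd xd1 yd11 zd46) (kd xd4 yd30 zd36) (kd xd2 yd12 zd35) (kd xd2 yd12 zd26) (kd xd2 yd12 zd25) (kd xd2 yd53 zd0) (kd xd2 yd47 zd2) (kd xd2 yd47 zd0) (kd xd2 yd46 zd14) (kd xd1 yd3 zd15) (kd xd4 yd29 zd39) (kd xd2 yd14 zd43) (kd xd1 yd3 zd17) (kd xd2 yd12 zd24) (kd xd2 yd15 zd28) (kd xd1 yd3 zd20) (kd xd2 yd46 zd27) (kd xd1 yd8 zd54) (kd xd4 yd31 zd26) (kd xd4 yd12 zd36) (kd xd1 yd8 zd55) (kd xd1 yd8 zd56) (kd xd4 yd30 zd37) (kd xd4 yd31 zd35) (kd xd2 yd24 zd32) (kd xd1 yd8 zd60) (kd xd4 yd12 zd41) (kd xd2 yd46 zd10) (kd xd2 yd46 zd11) (kd xd4 yd31 zd43) (kd xd1 yd3 zd25) (kd xd2 yd51 zd20) (kd xd4 yd31 zd6) (kd xd4 yd31 zd7) (kd xd1 yd3 zd29) (kd xd4 yd31 zd50) (kd xd4 yd31 zd54) (kd xd4 yd31 zd55) (kd xd4 yd31 zd44) (kd xd4 yd31 zd45))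 (@D3.rec (fun _ => Pt) (kd xd4 yd31 zd59) (kd xd1 yd3 zd34) (kd xd4 yd32 zd2) (kd xd4 yd32 zd5) (kd xd1 yd3 zd36) (kd xd2 yd50 zd38) (kd xd1 yd28 zd44) (kd xd4 yd32 zd9) (kd xd4 yd32 zd11) (kd xd4 yd32 zd12) (kd xd1 yd3 zd39) (kd xd4 yd32 zd16) (kd xd4 yd32 zd19) (kd xd1 yd3 zd41) (kd xd2 yd49 zd14) (kd xd4 yd32 zd23) (kd xd4 yd32 zd26) (kd xd4 yd32 zd29) (kd xd4 yd32 zd33) (kd xd1 yd3 zd42) (kd xd4 yd32 zd41) (kd xd4 yd32 zd45) (kd xd1 yd3 zd44) (kd xd2 yd50 zd60) (kd xd4 yd32 zd48) (kd xd4 yd32 zd51) (kd xd4 yd32 zd56) (kd xd1 yd3 zd45) (kd xd4 yd32 zd60) (kd xd4 yd33 zd0) (kd xd1 yd3 zd46) (kd xd4 yd33 zd5) (kd xd1 yd3 zd47) (kd xd4 yd31 zd2) (kd xd3 yd0 zd55) (kd xd4 yd33 zd18) (kd xd1 yd5 zd2) (kd xd1 yd3 zd49) (kd xd4 yd33 zd25) (kd xd1 yd56 zd9) (kd xd2 yd42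 zd11) (kd xd1 yd56 zd12) (kd xd2 yd59 zd61) (kd xd1 yd18 zd2) (kd xd4 yd33 zd42) (kd xd4 yd33 zd46) (kd xd4 yd33 zd50) (kd xd1 yd5 zd10) (kd xd4 yd33 zd55) (kd xd1 yd3 zd55) (kd xd2 yd52 zd16) (kd xd1 yd3 zd59) (kd xd1 yd4 zd15) (kd xd1 yd4 zd16) (kd xd1 yd21 zd25) (kd xd4 yd34 zd3) (kd xd1 yd3 zd61) (kd xd1 yd4 zd0) (kd xd4 yd34 zd7) (kd xd1 yd19 zd44) (kd xd1 yd12 zd29) (kd xd4 yd33 zd56)) (@D3.rec (fun _ => Pt) (kd xd4 yd34 zd14) (kd xd1 yd4 zd2) (kd xd1 yd31 zd21) (kd xd4 yd34 zd16) (kd xd1 yd4 zd4) (kd xd2 yd57 zd52) (kd xd1 yd31 zd22) (kd xd2 yd51 zd50) (kd xd4 yd34 zd21) (kd xd2 yd31 zd13) (kd xd2 yd51 zd53) (kd xd1 yd4 zd9) (kd xd1 yd4 zd20) (kd xd1 yd4 zd21) (kd xd3 yd26 zd27) (kd xd4 yd34 zd26) (kd xd1 yd4 zd11) (kd xd4 yd34 zd39) (kd xd4 yd34 zd5) (kd xd1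 yd4 zd13) (kd xd2 yd55 zd8) (kd xd1 yd4 zd14) (kd xd4 yd33 zd58) (kd xd4 yd33 zd59) (kd xd1 yd4 zd17) (kd xd2 yd34 zd5) (kd xd2 yd34 zd14) (kd xd4 yd34 zd27) (kd xd4 yd34 zd29) (kd xd4 yd34 zd48) (kd xd1 yd4 zd22) (kd xd4 yd34 zd51) (kd xd3 yd25 zd39) (kd xd4 yd34 zd56) (kd xd4 yd34 zd59) (kd xd1 yd4 zd24) (kd xd4 yd35 zd1) (kd xd1 yd4 zd25) (kd xd4 yd35 zd3) (kd xd4 yd35 zd6) (kd xd1 yd4 zd26) (kd xd4 yd35 zd7) (kd xd1 yd4 zd27) (kd xd2 yd12 zd33) (kd xd1 yd4 zd29) (kd xd4 yd35 zd12) (kd xd1 yd4 zd30) (kd xd4 yd35 zd13) (kd xd1 yd4 zd31) (kd xd4 yd35 zd15) (kd xd1 yd4 zd32) (kd xd4 yd35 zd18) (kd xd1 yd4 zd33) (kd xd1 yd4 zd34) (kd xd4 yd35 zd24) (kd xd4 yd35 zd27) (kd xd4 yd35 zd31) (kd xd4 yd35 zd34) (kd xd4 yd35 zd36) (kd xd1 yd4 zd36) (kd xd4 yd35 zd40) (kd xd3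 yd10 zd50)) (@D3.rec (fun _ => Pt) (kd xd3 yd10 zd49) (kd xd1 yd4 zd37) (kd xd4 yd35 zd45) (kd xd1 yd14 zd33) (kd xd1 yd4 zd39) (kd xd4 yd35 zd48) (kd xd1 yd4 zd40) (kd xd4 yd35 zd52) (kd xd4 yd35 zd54) (kd xd1 yd4 zd41) (kd xd4 yd35 zd59) (kd xd4 yd35 zd60) (kd xd1 yd4 zd42) (kd xd4 yd36 zd3) (kd xd4 yd36 zd5) (kd xd4 yd36 zd7) (kd xd1 yd4 zd43) (kd xd4 yd36 zd12) (kd xd4 yd36 zd16) (kd xd4 yd36 zd20) (kd xd4 yd36 zd22) (kd xd4 yd36 zd24) (kd xd1 yd4 zd45) (kd xd4 yd36 zd28) (kd xd2 yd12 zd9) (kd xd2 yd42 zd58) (kd xd1 yd4 zd46) (kd xd4 yd36 zd34) (kd xd2 yd12 zd36) (kd xd1 yd4 zd48) (kd xd4 yd36 zd37) (kd xd4 yd36 zd38) (kd xd1 yd4 zd50) (kd xd4 yd36 zd41) (kd xd4 yd36 zd42) (kd xd4 yd36 zd44) (kd xd1 yd4 zd51) (kd xd4 yd36 zd50) (kd xd4 yd36 zd49) (kd xd4 yd36 zd51)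 (kd xd4 yd36 zd53) (kd xd4 yd36 zd55) (kd xd1 yd4 zd52) (kd xd4 yd37 zd3) (kd xd4 yd37 zd0) (kd xd1 yd5 zd27) (kd xd4 yd37 zd11) (kd xd4 yd37 zd15) (kd xd1 yd4 zd55) (kd xd4 yd37 zd18) (kd xd1 yd4 zd54) (kd xd4 yd37 zd21) (kd xd4 yd37 zd22) (kd xd2 yd51 zd32) (kd xd1 yd4 zd56) (kd xd4 yd37 zd25) (kd xd1 yd4 zd57) (kd xd4 yd37 zd29) (kd xd4 yd37 zd31) (kd xd4 yd37 zd34) (kd xd4 yd37 zd36) (kd xd1 yd4 zd59)) (@D3.rec (fun _ => Pt) (kd xd4 yd37 zd39) (kd xd4 yd37 zd41) (kd xd4 yd33 zd9) (kd xd2 yd16 zd61) (kd xd3 yd12 zd27) (kd xd4 yd37 zd53) (kd xd4 yd37 zd56) (kd xd1 yd24 zd24) (kd xd4 yd38 zd1) (kd xd4 yd38 zd5) (kd xd1 yd5 zd1) (kd xd4 yd38 zd13) (kd xd4 yd38 zd17) (kd xd4 yd38 zd21) (kd xd4 yd33 zd23) (kd xd4 yd38 zd24) (kd xd1 yd5 zd3) (kd xd1 yd5 zd49) (kd xd4 yd38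 zd32) (kd xd4 yd38 zd36) (kd xd4 yd38 zd39) (kd xd4 yd38 zd40) (kd xd1 yd5 zd5) (kd xd4 yd38 zd42) (kd xd1 yd6 zd31) (kd xd4 yd38 zd47) (kd xd4 yd38 zd51) (kd xd4 yd38 zd53) (kd xd4 yd38 zd55) (kd xd1 yd5 zd7) (kd xd4 yd38 zd60) (kd xd4 yd39 zd2) (kd xd1 yd5 zd8) (kd xd3 yd0 zd26) (kd xd4 yd39 zd10) (kd xd1 yd5 zd9) (kd xd1 yd5 zd11) (kd xd4 yd39 zd17) (kd xd1 yd5 zd12) (kd xd2 yd30 zd13) (kd xd3 yd0 zd54) (kd xd2 yd48 zd54) (kd xd1 yd5 zd14) (kd xd1 yd5 zd15) (kd xd2 yd27 zd56) (kd xd1 yd5 zd17) (kd xd2 yd27 zd57) (kd xd2 yd10 zd22) (kd xd2 yd10 zd23) (kd xd4 yd25 zd51) (kd xd1 yd5 zd20) (kd xd4 yd13 zd34) (kd xd4 yd7 zd21) (kd xd4 yd39 zd44) (kd xd4 yd39 zd47) (kd xd4 yd35 zd38) (kd xd1 yd5 zd23) (kd xd4 yd35 zd37) (kd xd1 yd25 zd27) (kd xd1 yd5 zd29) (kd xd1 yd5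 zd25) (kd xd2 yd16 zd3)) (@D3.rec (fun _ => Pt) (kd xd4 yd39 zd56) (kd xd4 yd39 zd57) (kd xd4 yd39 zd60) (kd xd4 yd39 zd50) (kd xd4 yd40 zd4) (kd xd4 yd40 zd7) (kd xd4 yd39 zd54) (kd xd3 yd12 zd14) (kd xd1 yd5 zd30) (kd xd4 yd40 zd12) (kd xd1 yd5 zd31) (kd xd3 yd9 zd38) (kd xd1 yd5 zd33) (kd xd4 yd40 zd15) (kd xd1 yd5 zd34) (kd xd4 yd40 zd18) (kd xd1 yd7 zd45) (kd xd4 yd40 zd25) (kd xd4 yd40 zd27) (kd xd2 yd17 zd19) (kd xd4 yd40 zd31) (kd xd4 yd40 zd33) (kd xd4 yd40 zd37) (kd xd1 yd5 zd38) (kd xd4 yd40 zd43) (kd xd4 yd40 zd47) (kd xd1 yd27 zd23) (kd xd1 yd7 zd60) (kd xd1 yd25 zd61) (kd xd4 yd40 zd53) (kd xd4 yd40 zd56) (kd xd4 yd40 zd58) (kd xd1 yd5 zd41) (kd xd4 yd41 zd0) (kd xd4 yd40 zd20) (kd xd4 yd41 zd5) (kd xd1 yd5 zd42) (kd xd1 yd37 zd21) (kd xd4 yd7 zd18) (kd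 xd4 yd41 zd14) (kd xd1 yd5 zd43) (kd xd4 yd41 zd16) (kd xd2 yd26 zd23) (kd xd4 yd41 zd20) (kd xd2 yd54 zd36) (kd xd4 yd41 zd21) (kd xd4 yd41 zd23) (kd xd4 yd41 zd24) (kd xd4 yd41 zd26) (kd xd1 yd5 zd50) (kd xd4 yd41 zd31) (kd xd1 yd19 zd47) (kd xd1 yd12 zd23) (kd xd4 yd41 zd36) (kd xd1 yd5 zd52) (kd xd3 yd33 zd35) (kd xd1 yd5 zd55) (kd xd4 yd27 zd2) (kd xd1 yd5 zd57) (kd xd3 yd11 zd50) (kd xd4 yd41 zd41) (kd xd3 yd11 zd46)) (@D3.rec (fun _ => Pt) (kd xd1 yd31 zd58) (kd xd1 yd6 zd2) (kd xd3 yd10 zd58) (kd xd2 yd31 zd24) (kd xd2 yd31 zd23) (kd xd1 yd33 zd11) (kd xd4 yd35 zd44) (kd xd3 yd46 zd28) (kd xd1 yd6 zd5) (kd xd3 yd0 zd25) (kd xd4 yd41 zd52) (kd xd4 yd41 zd53) (kd xd1 yd6 zd6) (kd xd3 yd11 zd47) (kd xd4 yd12 zd49) (kd xd1 yd6 zd7) (kd xd4 yd12 zd51) (kd xd1 yd6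 zd8) (kd xd2 yd32 zd2) (kd xd1 yd6 zd10) (kd xd4 yd42 zd1) (kd xd1 yd6 zd11) (kd xd4 yd42 zd8) (kd xd1 yd6 zd12) (kd xd3 yd13 zd24) (kd xd1 yd31 zd40) (kd xd4 yd42 zd14) (kd xd1 yd6 zd14) (kd xd1 yd30 zd40) (kd xd3 yd11 zd51) (kd xd4 yd42 zd17) (kd xd1 yd6 zd16) (kd xd1 yd30 zd45) (kd xd2 yd18 zd33) (kd xd4 yd12 zd28) (kd xd1 yd6 zd18) (kd xd1 yd32 zd20) (kd xd2 yd21 zd42) (kd xd4 yd42 zd27) (kd xd1 yd6 zd20) (kd xd1 yd31 zd1) (kd xd2 yd18 zd41) (kd xd1 yd56 zd45) (kd xd2 yd53 zd29) (kd xd2 yd53 zd30) (kd xd4 yd42 zd36) (kd xd1 yd6 zd23) (kd xd4 yd26 zd35) (kd xd4 yd42 zd41) (kd xd1 yd6 zd25) (kd xd4 yd42 zd45) (kd xd1 yd6 zd26) (kd xd1 yd6 zd27) (kd xd4 yd42 zd48) (kd xd4 yd42 zd50) (kd xd2 yd53 zd39) (kd xd4 yd42 zd52) (kd xd4 yd42 zd55) (kd xd1 yd36 zd32) (kd xd4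 yd42 zd57) (kd xd1 yd6 zd32) (kd xd4 yd37 zd46)) (@D3.rec (fun _ => Pt) (kd xd1 yd21 zd31) (kd xd1 yd21 zd35) (kd xd4 yd41 zd37) (kd xd1 yd6 zd34) (kd xd4 yd43 zd0) (kd xd4 yd43 zd1) (kd xd1 yd6 zd41) (kd xd4 yd41 zd48) (kd xd4 yd13 zd19) (kd xd1 yd6 zd43) (kd xd1 yd7 zd2) (kd xd3 yd2 zd0) (kd xd1 yd32 zd36) (kd xd1 yd7 zd4) (kd xd3 yd46 zd29) (kd xd3 yd8 zd10) (kd xd4 yd43 zd11) (kd xd4 yd37 zd10) (kd xd1 yd6 zd46) (kd xd4 yd43 zd16) (kd xd4 yd43 zd20) (kd xd1 yd6 zd47) (kd xd2 yd7 zd18) (kd xd3 yd8 zd9) (kd xd4 yd43 zd21) (kd xd1 yd29 zd56) (kd xd1 yd29 zd55) (kd xd4 yd43 zd26) (kd xd1 yd6 zd51) (kd xd4 yd43 zd31) (kd xd1 yd6 zd52) (kd xd3 yd10 zd34) (kd xd3 yd13 zd6) (kd xd2 yd19 zd43) (kd xd4 yd43 zd38) (kd xd1 yd6 zd54) (kd xd3 yd22 zd30) (kd xd1 yd6 zd57) (kd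 xd4 yd18 zd11) (kd xd1 yd6 zd58) (kd xd1 yd6 zd60) (kd xd4 yd43 zd47) (kd xd1 yd7 zd0) (kd xd2 yd19 zd33) (kd xd3 yd8 zd28) (kd xd3 yd8 zd35) (kd xd1 yd7 zd3) (kd xd1 yd7 zd5) (kd xd4 yd43 zd45) (kd xd3 yd7 zd45) (kd xd3 yd7 zd46) (kd xd1 yd7 zd8) (kd xd1 yd34 zd8) (kd xd1 yd7 zd11) (kd xd4 yd43 zd59) (kd xd3 yd29 zd18) (kd xd4 yd44 zd0) (kd xd1 yd7 zd13) (kd xd1 yd7 zd14) (kd xd3 yd44 zd56) (kd xd1 yd34 zd1) (kd xd1 yd50 zd1)) (@D3.rec (fun _ => Pt) (kd xd2 yd20 zd0) (kd xd1 yd51 zd6) (kd xd1 yd33 zd51) (kd xd1 yd26 zd33) (kd xd3 yd27 zd11) (kd xd4 yd44 zd13) (kd xd3 yd19 zd49) (kd xd1 yd7 zd19) (kd xd4 yd44 zd19) (kd xd3 yd19 zd25) (kd xd3 yd21 zd47) (kd xd3 yd18 zd39) (kd xd2 yd22 zd12) (kd xd3 yd19 zd28) (kd xd2 yd21 zd59) (kd xd1 yd26 zd43) (kd xd1 yd37 zd3) (kd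 xd2 yd21 zd21) (kd xd4 yd44 zd30) (kd xd1 yd7 zd28) (kd xd1 yd7 zd30) (kd xd3 yd50 zd60) (kd xd2 yd20 zd22) (kd xd1 yd7 zd32) (kd xd4 yd44 zd36) (kd xd1 yd29 zd49) (kd xd2 yd21 zd19) (kd xd2 yd20 zd27) (kd xd1 yd7 zd34) (kd xd1 yd37 zd53) (kd xd4 yd44 zd41) (kd xd4 yd44 zd44) (kd xd4 yd44 zd49) (kd xd1 yd7 zd35) (kd xd4 yd44 zd54) (kd xd2 yd21 zd20) (kd xd1 yd34 zd5) (kd xd4 yd44 zd59) (kd xd1 yd7 zd40) (kd xd1 yd28 zd60) (kd xd4 yd45 zd1) (kd xd4 yd45 zd4) (kd xd4 yd45 zd7) (kd xd4 yd45 zd9) (kd xd4 yd45 zd11) (kd xd4 yd45 zd14) (kd xd4 yd45 zd19) (kd xd1 yd7 zd44) (kd xd4 yd45 zd24) (kd xd2 yd21 zd31) (kd xd4 yd40 zd22) (kd xd3 yd55 zd41) (kd xd4 yd45 zd32) (kd xd4 yd44 zd51) (kd xd4 yd44 zd52) (kd xd4 yd45 zd41) (kd xd1 yd7 zd47) (kd xd4 yd45 zd48) (kd xd4 yd45 zd51)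 (kd xd4 yd45 zd54) (kd xd1 yd7 zd48) (kd xd4 yd45 zd58)) (@D3.rec (fun _ => Pt) (kd xd1 yd26 zd52) (kd xd4 yd45 zd60) (kd xd4 yd46 zd2) (kd xd1 yd7 zd50) (kd xd4 yd46 zd7) (kd xd4 yd46 zd10) (kd xd1 yd7 zd51) (kd xd4 yd46 zd14) (kd xd4 yd46 zd19) (kd xd1 yd7 zd52) (kd xd4 yd46 zd22) (kd xd4 yd46 zd28) (kd xd1 yd7 zd53) (kd xd4 yd46 zd31) (kd xd4 yd46 zd35) (kd xd4 yd46 zd38) (kd xd4 yd46 zd40) (kd xd1 yd7 zd54) (kd xd4 yd46 zd48) (kd xd2 yd20 zd26) (kd xd2 yd20 zd35) (kd xd2 yd20 zd17) (kd xd4 yd46 zd58) (kd xd1 yd7 zd57) (kd xd4 yd47 zd1) (kd xd4 yd47 zd5) (kd xd1 yd7 zd56) (kd xd4 yd47 zd10) (kd xd4 yd47 zd14) (kd xd2 yd22 zd43) (kd xd4 yd47 zd18) (kd xd2 yd20 zd49) (kd xd4 yd47 zd21) (kd xd1 yd37 zd8) (kd xd4 yd47 zd23) (kd xd4 yd47 zd26) (kd xd1 yd7 zd61) (kd xd4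 yd47 zd31) (kd xd1 yd8 zd0) (kd xd3 yd35 zd24) (kd xd4 yd47 zd33) (kd xd1 yd8 zd1) (kd xd2 yd18 zd37) (kd xd4 yd47 zd42) (kd xd1 yd51 zd16) (kd xd4 yd47 zd46) (kd xd1 yd50 zd2) (kd xd1 yd41 zd26) (kd xd1 yd8 zd4) (kd xd4 yd47 zd52) (kd xd4 yd47 zd55) (kd xd4 yd47 zd58) (kd xd1 yd8 zd5) (kd xd4 yd48 zd0) (kd xd4 yd48 zd2) (kd xd1 yd8 zd6) (kd xd1 yd8 zd7) (kd xd4 yd48 zd7) (kd xd3 yd3 zd2) (kd xd2 yd20 zd14) (kd xd4 yd48 zd10) (kd xd1 yd8 zd9)) (@D3.rec (fun _ => Pt) (kd xd1 yd53 zd44) (kd xd4 yd48 zd15) (kd xd1 yd8 zd11) (kd xd4 yd48 zd19) (kd xd4 yd48 zd22) (kd xd4 yd48 zd24) (kd xd1 yd8 zd12) (kd xd4 yd48 zd28) (kd xd1 yd8 zd13) (kd xd4 yd48 zd33) (kd xd1 yd8 zd14) (kd xd3 yd14 zd29) (kd xd2 yd20 zd12) (kd xd4 yd48 zd39) (kd xd1 yd8 zd16) (kd xd1 yd26 zd6) (kd xd4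 yd48 zd46) (kd xd4 yd48 zd42) (kd xd2 yd49 zd53) (kd xd4 yd48 zd54) (kd xd4 yd48 zd57) (kd xd4 yd48 zd61) (kd xd4 yd49 zd3) (kd xd4 yd49 zd7) (kd xd1 yd8 zd20) (kd xd4 yd49 zd12) (kd xd4 yd49 zd16) (kd xd1 yd8 zd21) (kd xd3 yd2 zd40) (kd xd4 yd49 zd24) (kd xd1 yd8 zd22) (kd xd4 yd30 zd0) (kd xd4 yd49 zd31) (kd xd4 yd40 zd5) (kd xd4 yd49 zd39) (kd xd1 yd8 zd24) (kd xd4 yd41 zd1) (kd xd4 yd49 zd45) (kd xd4 yd49 zd47) (kd xd4 yd49 zd50) (kd xd1 yd8 zd26) (kd xd4 yd49 zd56) (kd xd3 yd43 zd20) (kd xd2 yd21 zd29) (kd xd2 yd59 zd43) (kd xd3 yd21 zd21) (kd xd2 yd39 zd23) (kd xd1 yd8 zd29) (kd xd2 yd42 zd33) (kd xd1 yd8 zd31) (kd xd1 yd8 zd32) (kd xd3 yd3 zd12) (kd xd4 yd50 zd8) (kd xd1 yd8 zd33) (kd xd4 yd41 zd10) (kd xd1 yd27 zd22) (kd xd4 yd50 zd18) (kd xd1 yd37 zd45) (kd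 xd2 yd22 zd61) (kd xd1 yd26 zd30) (kd xd1 yd26 zd38) (kd xd2 yd22 zd58)) (@D3.rec (fun _ => Pt) (kd xd3 yd3 zd14) (kd xd4 yd50 zd30) (kd xd4 yd50 zd31) (kd xd4 yd50 zd33) (kd xd1 yd8 zd39) (kd xd4 yd50 zd37) (kd xd1 yd8 zd40) (kd xd2 yd28 zd17) (kd xd1 yd18 zd13) (kd xd4 yd50 zd44) (kd xd1 yd8 zd42) (kd xd4 yd50 zd47) (kd xd1 yd8 zd43) (kd xd1 yd11 zd29) (kd xd1 yd8 zd44) (kd xd1 yd18 zd14) (kd xd2 yd43 zd60) (kd xd1 yd11 zd23) (kd xd4 yd50 zd59) (kd xd1 yd8 zd46) (kd xd1 yd8 zd47) (kd xd4 yd7 zd34) (kd xd1 yd8 zd48) (kd xd4 yd2 zd34) (kd xd1 yd59 zd19) (kd xd4 yd51 zd13) (kd xd4 yd51 zd16) (kd xd1 yd8 zd50) (kd xd1 yd11 zd28) (kd xd4 yd51 zd19) (kd xd1 yd8 zd51) (kd xd4 yd31 zd20) (kd xd1 yd8 zd52) (kd xd2 yd38 zd13) (kd xd4 yd51 zd27) (kd xd4 yd31 zd22) (kd xd1 yd18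 zd15) (kd xd4 yd9 zd4) (kd xd4 yd51 zd34) (kd xd4 yd4 zd42) (kd xd4 yd19 zd43) (kd xd4 yd51 zd43) (kd xd4 yd51 zd47) (kd xd4 yd51 zd50) (kd xd4 yd51 zd53) (kd xd4 yd51 zd58) (kd xd1 yd8 zd57) (kd xd4 yd52 zd2) (kd xd2 yd23 zd48) (kd xd2 yd6 zd57) (kd xd4 yd52 zd10) (kd xd4 yd31 zd39) (kd xd4 yd52 zd16) (kd xd4 yd52 zd17) (kd xd1 yd19 zd15) (kd xd2 yd7 zd24) (kd xd4 yd52 zd22) (kd xd2 yd31 zd57) (kd xd2 yd32 zd32) (kd xd2 yd32 zd33) (kd xd2 yd32 zd5) (kd xd4 yd52 zd33)) (@D3.rec (fun _ => Pt) (kd xd3 yd56 zd46) (kd xd4 yd52 zd37) (kd xd1 yd9 zd1) (kd xd1 yd9 zd26) (kd xd2 yd24 zd5) (kd xd2 yd24 zd4) (kd xd4 yd52 zd44) (kd xd4 yd1 zd7) (kd xd4 yd20 zd48) (kd xd2 yd29 zd47) (kd xd2 yd7 zd59) (kd xd4 yd1 zd4) (kd xd2 yd5 zd61) (kd xd2 yd2 zd48) (kd xd2 yd26 zd21) (kd xd3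 yd10 zd25) (kd xd1 yd27 zd54) (kd xd2 yd45 zd37) (kd xd4 yd52 zd57) (kd xd2 yd45 zd38) (kd xd4 yd1 zd42) (kd xd4 yd53 zd4) (kd xd4 yd53 zd7) (kd xd4 yd53 zd12) (kd xd1 yd9 zd20) (kd xd4 yd0 zd30) (kd xd2 yd24 zd26) (kd xd2 yd3 zd43) (kd xd4 yd53 zd20) (kd xd2 yd45 zd49) (kd xd4 yd53 zd26) (kd xd4 yd53 zd27) (kd xd2 yd12 zd46) (kd xd2 yd3 zd61) (kd xd4 yd53 zd32) (kd xd2 yd28 zd43) (kd xd2 yd29 zd26) (kd xd2 yd29 zd27) (kd xd4 yd53 zd39) (kd xd4 yd53 zd43) (kd xd4 yd52 zd29) (kd xd4 yd53 zd45) (kd xd2 yd2 zd37) (kd xd2 yd6 zd10) (kd xd4 yd20 zd41) (kd xd4 yd20 zd42) (kd xd1 yd21 zd37) (kd xd2 yd34 zd6) (kd xd2 yd34 zd8) (kd xd2 yd31 zd17) (kd xd2 yd31 zd19) (kd xd4 yd53 zd56) (kd xd4 yd53 zd57) (kd xd1 yd9 zd40) (kd xd4 yd53 zd61) (kd xd4 yd54 zd0) (kd xd1 yd9 zd41)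 (kd xd4 yd54 zd4) (kd xd1 yd9 zd42) (kd xd4 yd18 zd41) (kd xd4 yd54 zd12) (kd xd1 yd9 zd44)) (@D3.rec (fun _ => Pt) (kd xd4 yd54 zd15) (kd xd1 yd9 zd45) (kd xd4 yd54 zd19) (kd xd1 yd9 zd46) (kd xd4 yd6 zd22) (kd xd2 yd6 zd38) (kd xd4 yd54 zd27) (kd xd1 yd9 zd48) (kd xd1 yd9 zd49) (kd xd2 yd0 zd38) (kd xd1 yd9 zd50) (kd xd4 yd12 zd60) (kd xd2 yd0 zd32) (kd xd4 yd54 zd40) (kd xd1 yd9 zd52) (kd xd1 yd9 zd53) (kd xd4 yd50 zd35) (kd xd4 yd54 zd48) (kd xd1 yd9 zd54) (kd xd4 yd54 zd52) (kd xd2 yd3 zd47) (kd xd4 yd54 zd59) (kd xd4 yd55 zd0) (kd xd1 yd9 zd56) (kd xd2 yd0 zd37) (kd xd4 yd55 zd3) (kd xd1 yd9 zd57) (kd xd4 yd13 zd3) (kd xd1 yd9 zd58) (kd xd4 yd12 zd18) (kd xd4 yd55 zd12) (kd xd4 yd13 zd5) (kd xd4 yd13 zd13) (kd xd4 yd55 zd19) (kd xd4 yd55 zd23) (kd xd2 yd35 zd23)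 (kd xd4 yd55 zd28) (kd xd4 yd55 zd32) (kd xd4 yd55 zd35) (kd xd4 yd55 zd38) (kd xd4 yd55 zd43) (kd xd1 yd10 zd1) (kd xd4 yd55 zd49) (kd xd2 yd25 zd43) (kd xd4 yd55 zd55) (kd xd4 yd55 zd58) (kd xd4 yd55 zd59) (kd xd1 yd10 zd4) (kd xd2 yd29 zd8) (kd xd1 yd59 zd25) (kd xd4 yd56 zd3) (kd xd2 yd59 zd37) (kd xd3 yd58 zd41) (kd xd3 yd58 zd42) (kd xd2 yd59 zd42) (kd xd4 yd56 zd14) (kd xd4 yd56 zd19) (kd xd4 yd56 zd21) (kd xd1 yd10 zd7) (kd xd3 yd59 zd11) (kd xd4 yd5 zd33) (kd xd4 yd56 zd27)) (@D3.rec (fun _ => Pt) (kd xd4 yd56 zd29) (kd xd4 yd56 zd32) (kd xd4 yd22 zd57) (kd xd4 yd22 zd56) (kd xd4 yd23 zd34) (kd xd4 yd56 zd37) (kd xd1 yd57 zd6) (kd xd4 yd1 zd40) (kd xd4 yd32 zd35) (kd xd4 yd32 zd36) (kd xd2 yd48 zd21) (kd xd4 yd56 zd44) (kd xd1 yd10 zd19) (kd xd1 yd59 zd24)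 (kd xd4 yd56 zd47) (kd xd4 yd4 zd21) (kd xd4 yd23 zd8) (kd xd4 yd56 zd54) (kd xd1 yd10 zd24) (kd xd4 yd32 zd13) (kd xd2 yd48 zd28) (kd xd2 yd24 zd14) (kd xd3 yd1 zd1) (kd xd2 yd17 zd42) (kd xd1 yd10 zd30) (kd xd3 yd36 zd37) (kd xd2 yd28 zd1) (kd xd4 yd57 zd1) (kd xd4 yd57 zd3) (kd xd4 yd57 zd5) (kd xd4 yd57 zd8) (kd xd1 yd10 zd33) (kd xd4 yd57 zd13) (kd xd4 yd57 zd18) (kd xd4 yd57 zd20) (kd xd1 yd10 zd34) (kd xd4 yd57 zd25) (kd xd1 yd10 zd35) (kd xd4 yd31 zd3) (kd xd4 yd31 zd4) (kd xd4 yd57 zd36) (kd xd1 yd10 zd61) (kd xd1 yd10 zd37) (kd xd4 yd57 zd45) (kd xd2 yd41 zd58) (kd xd4 yd57 zd50) (kd xd4 yd57 zd53) (kd xd4 yd41 zd6) (kd xd1 yd11 zd4) (kd xd4 yd57 zd60) (kd xd1 yd10 zd41) (kd xd4 yd58 zd2) (kd xd4 yd58 zd5) (kd xd4 yd58 zd6) (kd xd1 yd10 zd43) (kd xd4 yd58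 zd10) (kd xd4 yd58 zd11) (kd xd1 yd10 zd44) (kd xd1 yd10 zd46) (kd xd4 yd58 zd15) (kd xd4 yd58 zd16) (kd xd1 yd10 zd47)) (@D3.rec (fun _ => Pt) (kd xd4 yd58 zd20) (kd xd4 yd58 zd21) (kd xd1 yd10 zd48) (kd xd4 yd58 zd26) (kd xd4 yd58 zd28) (kd xd4 yd58 zd29) (kd xd1 yd10 zd49) (kd xd4 yd7 zd16) (kd xd4 yd58 zd32) (kd xd1 yd24 zd50) (kd xd4 yd58 zd40) (kd xd4 yd58 zd44) (kd xd1 yd10 zd52) (kd xd4 yd58 zd47) (kd xd1 yd10 zd51) (kd xd4 yd58 zd50) (kd xd4 yd58 zd51) (kd xd4 yd58 zd52) (kd xd4 yd58 zd53) (kd xd4 yd58 zd54) (kd xd1 yd10 zd53) (kd xd4 yd58 zd59) (kd xd1 yd10 zd54) (kd xd4 yd58 zd61) (kd xd4 yd59 zd1) (kd xd4 yd59 zd4) (kd xd4 yd59 zd6) (kd xd1 yd10 zd56) (kd xd4 yd59 zd9) (kd xd1 yd20 zd49) (kd xd1 yd20 zd48) (kd xd4 yd46 zd44) (kd xd4 yd57 zd29) (kd xd2 yd58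 zd15) (kd xd4 yd59 zd25) (kd xd4 yd59 zd28) (kd xd2 yd58 zd18) (kd xd4 yd59 zd34) (kd xd4 yd59 zd37) (kd xd4 yd59 zd40) (kd xd4 yd59 zd43) (kd xd1 yd10 zd60) (kd xd4 yd59 zd51) (kd xd4 yd59 zd48) (kd xd4 yd59 zd56) (kd xd4 yd59 zd60) (kd xd4 yd57 zd41) (kd xd5 yd0 zd2) (kd xd5 yd0 zd4) (kd xd1 yd11 zd1) (kd xd5 yd0 zd11) (kd xd1 yd11 zd2) (kd xd4 yd6 zd5) (kd xd5 yd0 zd19) (kd xd1 yd11 zd3) (kd xd1 yd11 zd5) (kd xd2 yd16 zd44) (kd xd2 yd16 zd46) (kd xd5 yd0 zd28) (kd xd1 yd11 zd7) (kd xd1 yd24 zd40) (kd xd5 yd0 zd32)) (@D3.rec (fun _ => Pt) (kd xd1 yd11 zd9) (kd xd2 yd26 zd26) (kd xd1 yd24 zd41) (kd xd1 yd11 zd12) (kd xd5 yd0 zd40) (kd xd1 yd11 zd14) (kd xd5 yd0 zd44) (kd xd1 yd11 zd16) (kd xd1 yd11 zd17) (kd xd4 yd19 zd4) (kd xd5 yd0 zd54) (kd xd1 yd11 zd19) (kd xd5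 yd0 zd57) (kd xd1 yd11 zd20) (kd xd4 yd16 zd26) (kd xd1 yd11 zd21) (kd xd2 yd8 zd12) (kd xd2 yd23 zd7) (kd xd2 yd6 zd53) (kd xd5 yd1 zd10) (kd xd4 yd50 zd57) (kd xd1 yd11 zd24) (kd xd5 yd1 zd20) (kd xd1 yd11 zd25) (kd xd5 yd1 zd23) (kd xd5 yd1 zd25) (kd xd5 yd1 zd28) (kd xd1 yd11 zd27) (kd xd4 yd51 zd3) (kd xd5 yd1 zd35) (kd xd4 yd31 zd19) (kd xd4 yd50 zd48) (kd xd5 yd1 zd42) (kd xd4 yd50 zd50) (kd xd5 yd1 zd48) (kd xd5 yd1 zd51) (kd xd5 yd1 zd56) (kd xd1 yd11 zd30) (kd xd5 yd2 zd0) (kd xd2 yd28 zd39) (kd xd2 yd6 zd43) (kd xd2 yd6 zd44) (kd xd5 yd2 zd12) (kd xd2 yd24 zd35) (kd xd1 yd25 zd36) (kd xd5 yd2 zd20) (kd xd1 yd25 zd38) (kd xd5 yd2 zd26) (kd xd1 yd56 zd4) (kd xd5 yd2 zd29) (kd xd5 yd2 zd32) (kd xd5 yd2 zd36) (kd xd1 yd11 zd35) (kd xd4 yd41 zd43) (kd xd2 yd6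 zd51) (kd xd2 yd6 zd50) (kd xd1 yd30 zd18) (kd xd1 yd11 zd37) (kd xd1 yd11 zd38) (kd xd4 yd5 zd11) (kd xd4 yd12 zd16) (kd xd1 yd59 zd50)) (@D3.rec (fun _ => Pt) (kd xd5 yd2 zd58) (kd xd5 yd2 zd61) (kd xd1 yd59 zd51) (kd xd1 yd59 zd52) (kd xd1 yd11 zd40) (kd xd5 yd3 zd7) (kd xd1 yd11 zd41) (kd xd5 yd3 zd11) (kd xd2 yd25 zd48) (kd xd1 yd11 zd42) (kd xd4 yd31 zd38) (kd xd1 yd36 zd58) (kd xd5 yd3 zd19) (kd xd4 yd30 zd54) (kd xd5 yd3 zd27) (kd xd1 yd11 zd45) (kd xd5 yd3 zd34) (kd xd5 yd3 zd38) (kd xd5 yd3 zd40) (kd xd2 yd59 zd50) (kd xd2 yd3 zd22) (kd xd5 yd3 zd46) (kd xd2 yd3 zd26) (kd xd5 yd3 zd54) (kd xd1 yd11 zd48) (kd xd3 yd10 zd40) (kd xd2 yd24 zd36) (kd xd2 yd24 zd37) (kd xd2 yd3 zd40) (kd xd5 yd4 zd5) (kd xd1 yd11 zd50) (kd xd5 yd4 zd10) (kd xd5 yd4 zd16) (kd xd1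 yd11 zd51) (kd xd5 yd4 zd19) (kd xd5 yd4 zd25) (kd xd5 yd4 zd30) (kd xd5 yd4 zd32) (kd xd1 yd11 zd52) (kd xd2 yd34 zd10) (kd xd1 yd12 zd2) (kd xd1 yd12 zd13) (kd xd2 yd32 zd48) (kd xd5 yd4 zd45) (kd xd5 yd4 zd48) (kd xd1 yd11 zd56) (kd xd1 yd57 zd36) (kd xd2 yd24 zd9) (kd xd5 yd4 zd61) (kd xd1 yd58 zd61) (kd xd5 yd5 zd4) (kd xd1 yd57 zd26) (kd xd5 yd5 zd6) (kd xd5 yd5 zd8) (kd xd5 yd5 zd10) (kd xd5 yd5 zd14) (kd xd1 yd11 zd60) (kd xd2 yd2 zd22) (kd xd2 yd2 zd23) (kd xd5 yd5 zd25) (kd xd2 yd6 zd20) (kd xd1 yd25 zd14)) (@D3.rec (fun _ => Pt) (kd xd5 yd3 zd30) (kd xd1 yd25 zd16) (kd xd2 yd1 zd45) (kd xd5 yd3 zd29) (kd xd3 yd2 zd11) (kd xd5 yd5 zd44) (kd xd2 yd2 zd31) (kd xd2 yd2 zd30) (kd xd2 yd6 zd25) (kd xd1 yd12 zd5) (kd xd5 yd5 zd52) (kd xd1 yd12 zd6) (kd xd1 yd12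 zd7) (kd xd2 yd16 zd39) (kd xd5 yd5 zd55) (kd xd1 yd12 zd8) (kd xd5 yd5 zd58) (kd xd4 yd37 zd19) (kd xd1 yd12 zd9) (kd xd2 yd44 zd34) (kd xd2 yd38 zd43) (kd xd1 yd25 zd3) (kd xd5 yd6 zd11) (kd xd5 yd6 zd14) (kd xd1 yd12 zd12) (kd xd5 yd4 zd39) (kd xd4 yd56 zd18) (kd xd2 yd11 zd56) (kd xd1 yd12 zd14) (kd xd4 yd29 zd23) (kd xd5 yd6 zd28) (kd xd3 yd13 zd47) (kd xd3 yd21 zd13) (kd xd5 yd6 zd32) (kd xd1 yd12 zd16) (kd xd2 yd51 zd35) (kd xd5 yd6 zd39) (kd xd1 yd12 zd18) (kd xd5 yd6 zd42) (kd xd1 yd12 zd19) (kd xd3 yd4 zd30) (kd xd1 yd12 zd21) (kd xd4 yd41 zd28) (kd xd1 yd13 zd29) (kd xd1 yd13 zd28) (kd xd4 yd41 zd34) (kd xd5 yd6 zd33) (kd xd5 yd6 zd58) (kd xd1 yd12 zd24) (kd xd5 yd6 zd59) (kd xd5 yd7 zd0) (kd xd1 yd12 zd26) (kd xd1 yd12 zd27) (kd xd4 yd34 zd10) (kd xd1 yd13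 zd27) (kd xd1 yd13 zd26) (kd xd2 yd57 zd37) (kd xd5 yd7 zd14) (kd xd5 yd7 zd16) (kd xd5 yd7 zd19) (kd xd1 yd12 zd30) (kd xd5 yd7 zd25)) (@D3.rec (fun _ => Pt) (kd xd5 yd7 zd28) (kd xd1 yd12 zd32) (kd xd5 yd7 zd30) (kd xd5 yd7 zd33) (kd xd5 yd7 zd37) (kd xd1 yd12 zd33) (kd xd5 yd7 zd43) (kd xd5 yd7 zd42) (kd xd5 yd7 zd45) (kd xd5 yd7 zd46) (kd xd1 yd12 zd34) (kd xd1 yd12 zd35) (kd xd2 yd44 zd54) (kd xd2 yd14 zd9) (kd xd5 yd7 zd61) (kd xd1 yd22 zd0) (kd xd1 yd12 zd37) (kd xd2 yd24 zd49) (kd xd2 yd44 zd44) (kd xd2 yd24 zd50) (kd xd2 yd51 zd10) (kd xd2 yd32 zd45) (kd xd3 yd1 zd52) (kd xd2 yd18 zd4) (kd xd2 yd18 zd3) (kd xd1 yd22 zd7) (kd xd4 yd35 zd10) (kd xd1 yd12 zd48) (kd xd4 yd0 zd16) (kd xd2 yd7 zd40) (kd xd1 yd59 zd15) (kd xd5 yd8 zd38) (kd xd4 yd0 zd17) (kd xd1 yd12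 zd51) (kd xd5 yd8 zd47) (kd xd5 yd8 zd49) (kd xd5 yd8 zd53) (kd xd1 yd12 zd53) (kd xd4 yd22 zd21) (kd xd5 yd8 zd59) (kd xd2 yd45 zd25) (kd xd3 yd57 zd13) (kd xd5 yd9 zd4) (kd xd3 yd57 zd15) (kd xd5 yd9 zd10) (kd xd5 yd9 zd13) (kd xd5 yd9 zd18) (kd xd1 yd12 zd56) (kd xd4 yd2 zd23) (kd xd2 yd31 zd49) (kd xd5 yd9 zd26) (kd xd1 yd12 zd58) (kd xd1 yd12 zd59) (kd xd1 yd12 zd60) (kd xd2 yd3 zd27) (kd xd2 yd3 zd28) (kd xd5 yd9 zd41) (kd xd2 yd23 zd57) (kd xd2 yd0 zd46) (kd xd5 yd4 zd8) (kd xd2 yd0 zd48) (kd xd5 yd4 zd7)) (@D3.rec (fun _ => Pt) (kd xd5 yd9 zd57) (kd xd1 yd13 zd2) (kd xd2 yd18 zd18) (kd xd2 yd3 zd39) (kd xd2 yd3 zd38) (kd xd2 yd23 zd60) (kd xd4 yd13 zd15) (kd xd2 yd0 zd36) (kd xd5 yd10 zd10) (kd xd5 yd10 zd13) (kd xd1 yd13 zd5) (kd xd5 yd10 zd19) (kd xd1 yd13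 zd6) (kd xd4 yd55 zd41) (kd xd3 yd58 zd40) (kd xd1 yd13 zd7) (kd xd2 yd45 zd48) (kd xd3 yd21 zd25) (kd xd4 yd12 zd17) (kd xd5 yd10 zd32) (kd xd2 yd44 zd9) (kd xd5 yd10 zd40) (kd xd1 yd13 zd10) (kd xd5 yd10 zd45) (kd xd5 yd10 zd49) (kd xd4 yd56 zd30) (kd xd2 yd44 zd13) (kd xd5 yd10 zd54) (kd xd2 yd6 zd42) (kd xd5 yd11 zd0) (kd xd1 yd13 zd13) (kd xd1 yd31 zd59) (kd xd2 yd23 zd58) (kd xd2 yd23 zd59) (kd xd2 yd6 zd52) (kd xd5 yd11 zd14) (kd xd1 yd13 zd15) (kd xd5 yd11 zd17) (kd xd5 yd11 zd23) (kd xd1 yd13 zd16) (kd xd5 yd11 zd26) (kd xd5 yd11 zd32) (kd xd5 yd11 zd37) (kd xd5 yd11 zd39) (kd xd1 yd13 zd17) (kd xd2 yd31 zd21) (kd xd1 yd13 zd24) (kd xd1 yd13 zd41) (kd xd2 yd29 zd42) (kd xd5 yd11 zd53) (kd xd5 yd11 zd56) (kd xd2 yd5 zd45) (kd xd2 yd5 zd46) (kd xd5 yd12 zd4)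 (kd xd2 yd2 zd59) (kd xd1 yd16 zd32) (kd xd1 yd16 zd34) (kd xd2 yd5 zd14) (kd xd5 yd11 zd45) (kd xd5 yd12 zd20) (kd xd2 yd5 zd56) (kd xd2 yd5 zd55)) (@D3.rec (fun _ => Pt) (kd xd2 yd3 zd2) (kd xd5 yd7 zd8) (kd xd5 yd6 zd53) (kd xd5 yd6 zd51) (kd xd4 yd49 zd57) (kd xd3 yd43 zd0) (kd xd2 yd55 zd39) (kd xd1 yd13 zd30) (kd xd2 yd47 zd3) (kd xd1 yd13 zd32) (kd xd5 yd12 zd38) (kd xd1 yd58 zd44) (kd xd1 yd58 zd0) (kd xd5 yd12 zd45) (kd xd5 yd12 zd49) (kd xd1 yd13 zd34) (kd xd5 yd12 zd52) (kd xd5 yd12 zd54) (kd xd1 yd27 zd34) (kd xd5 yd6 zd44) (kd xd5 yd6 zd45) (kd xd5 yd12 zd60) (kd xd1 yd13 zd37) (kd xd5 yd13 zd2) (kd xd4 yd10 zd2) (kd xd1 yd15 zd45) (kd xd5 yd13 zd10) (kd xd5 yd13 zd13) (kd xd1 yd13 zd40) (kd xd5 yd11 zd47) (kd xd5 yd13 zd20) (kd xd1 yd17 zd44) (kd xd1 yd13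 zd42) (kd xd2 yd41 zd38) (kd xd5 yd7 zd2) (kd xd5 yd6 zd48) (kd xd1 yd13 zd44) (kd xd4 yd34 zd41) (kd xd1 yd13 zd46) (kd xd1 yd13 zd47) (kd xd3 yd5 zd29) (kd xd3 yd5 zd30) (kd xd5 yd12 zd61) (kd xd5 yd13 zd40) (kd xd1 yd13 zd50) (kd xd5 yd13 zd44) (kd xd5 yd13 zd45) (kd xd1 yd13 zd52) (kd xd5 yd13 zd48) (kd xd5 yd13 zd50) (kd xd1 yd13 zd54) (kd xd5 yd13 zd54) (kd xd5 yd13 zd57) (kd xd5 yd13 zd59) (kd xd5 yd13 zd61) (kd xd1 yd13 zd55) (kd xd2 yd50 zd49) (kd xd2 yd50 zd51) (kd xd5 yd14 zd11) (kd xd5 yd14 zd12) (kd xd1 yd13 zd58) (kd xd1 yd36 zd54)) (@D3.rec (fun _ => Pt) (kd xd5 yd14 zd20) (kd xd1 yd13 zd60) (kd xd5 yd14 zd25) (kd xd1 yd13 zd61) (kd xd2 yd0 zd47) (kd xd2 yd14 zd25) (kd xd2 yd24 zd47) (kd xd2 yd46 zd17) (kd xd2 yd24 zd48) (kd xd2 yd52 zd25) (kd xd2 yd29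 zd39) (kd xd3 yd12 zd7) (kd xd1 yd31 zd44) (kd xd1 yd31 zd47) (kd xd2 yd14 zd26) (kd xd2 yd52 zd53) (kd xd1 yd14 zd6) (kd xd5 yd14 zd56) (kd xd1 yd14 zd8) (kd xd1 yd14 zd9) (kd xd5 yd14 zd61) (kd xd5 yd15 zd0) (kd xd1 yd14 zd11) (kd xd1 yd14 zd12) (kd xd4 yd7 zd60) (kd xd5 yd15 zd8) (kd xd1 yd14 zd14) (kd xd1 yd14 zd15) (kd xd3 yd56 zd53) (kd xd5 yd15 zd15) (kd xd1 yd14 zd16) (kd xd3 yd58 zd27) (kd xd2 yd1 zd22) (kd xd5 yd15 zd26) (kd xd4 yd8 zd21) (kd xd1 yd14 zd19) (kd xd5 yd12 zd35) (kd xd5 yd15 zd33) (kd xd1 yd14 zd20) (kd xd5 yd15 zd36) (kd xd5 yd15 zd38) (kd xd5 yd15 zd41) (kd xd1 yd14 zd22) (kd xd4 yd3 zd5) (kd xd5 yd15 zd47) (kd xd4 yd29 zd6) (kd xd4 yd8 zd9) (kd xd5 yd15 zd55) (kd xd4 yd8 zd14) (kd xd5 yd15 zd61) (kd xd5 yd16 zd2) (kd xd5 yd16 zd7) (kd xd1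 yd14 zd25) (kd xd5 yd16 zd13) (kd xd2 yd34 zd54) (kd xd5 yd16 zd18) (kd xd4 yd27 zd49) (kd xd5 yd16 zd24) (kd xd2 yd43 zd26) (kd xd2 yd59 zd5) (kd xd5 yd16 zd27) (kd xd2 yd5 zd44)) (@D3.rec (fun _ => Pt) (kd xd2 yd6 zd23) (kd xd2 yd6 zd24) (kd xd2 yd5 zd57) (kd xd5 yd16 zd38) (kd xd5 yd16 zd43) (kd xd5 yd16 zd45) (kd xd1 yd14 zd31) (kd xd4 yd35 zd46) (kd xd2 yd36 zd3) (kd xd1 yd32 zd43) (kd xd5 yd16 zd54) (kd xd1 yd14 zd35) (kd xd5 yd16 zd59) (kd xd1 yd14 zd37) (kd xd5 yd17 zd0) (kd xd1 yd14 zd38) (kd xd1 yd14 zd39) (kd xd4 yd15 zd9) (kd xd5 yd17 zd8) (kd xd1 yd14 zd41) (kd xd1 yd14 zd42) (kd xd1 yd14 zd43) (kd xd1 yd14 zd44) (kd xd2 yd25 zd35) (kd xd5 yd17 zd17) (kd xd1 yd14 zd45) (kd xd5 yd17 zd21) (kd xd4 yd14 zd1) (kd xd4 yd13 zd50) (kd xd5 yd17 zd26) (kd xd1 yd14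 zd47) (kd xd2 yd4 zd59) (kd xd5 yd17 zd34) (kd xd4 yd15 zd30) (kd xd1 yd14 zd50) (kd xd5 yd17 zd41) (kd xd5 yd17 zd43) (kd xd5 yd17 zd46) (kd xd1 yd14 zd52) (kd xd5 yd17 zd51) (kd xd2 yd41 zd13) (kd xd4 yd15 zd20) (kd xd5 yd17 zd58) (kd xd4 yd15 zd23) (kd xd5 yd18 zd2) (kd xd5 yd18 zd5) (kd xd5 yd18 zd10) (kd xd1 yd14 zd55) (kd xd5 yd18 zd16) (kd xd2 yd35 zd49) (kd xd5 yd18 zd21) (kd xd2 yd37 zd59) (kd xd5 yd18 zd27) (kd xd4 yd30 zd48) (kd xd2 yd39 zd36) (kd xd5 yd18 zd31) (kd xd2 yd2 zd21) (kd xd2 yd3 zd0) (kd xd2 yd3 zd1) (kd xd2 yd2 zd32) (kd xd5 yd18 zd42) (kd xd5 yd18 zd47)) (@D3.rec (fun _ => Pt) (kd xd5 yd18 zd49) (kd xd1 yd14 zd61) (kd xd2 yd54 zd3) (kd xd2 yd35 zd8) (kd xd3 yd12 zd4) (kd xd5 yd18 zd59) (kd xd1 yd15 zd3) (kd xd2 yd5 zd28) (kd xd1 yd15 zd4) (kd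 xd5 yd12 zd40) (kd xd5 yd19 zd3) (kd xd3 yd56 zd57) (kd xd5 yd19 zd6) (kd xd1 yd15 zd6) (kd xd1 yd15 zd7) (kd xd2 yd8 zd26) (kd xd5 yd19 zd10) (kd xd5 yd19 zd13) (kd xd1 yd15 zd9) (kd xd5 yd19 zd16) (kd xd4 yd11 zd25) (kd xd5 yd19 zd22) (kd xd1 yd15 zd12) (kd xd5 yd19 zd26) (kd xd5 yd19 zd29) (kd xd5 yd19 zd32) (kd xd2 yd36 zd28) (kd xd1 yd15 zd13) (kd xd2 yd36 zd26) (kd xd2 yd36 zd29) (kd xd4 yd51 zd7) (kd xd2 yd1 zd37) (kd xd5 yd19 zd46) (kd xd1 yd15 zd16) (kd xd5 yd19 zd49) (kd xd5 yd19 zd52) (kd xd2 yd58 zd25) (kd xd1 yd15 zd18) (kd xd5 yd19 zd55) (kd xd5 yd19 zd57) (kd xd4 yd16 zd45) (kd xd5 yd20 zd1) (kd xd5 yd20 zd4) (kd xd5 yd20 zd9) (kd xd1 yd15 zd20) (kd xd5 yd19 zd36) (kd xd2 yd36 zd46) (kd xd1 yd15 zd22) (kd xd4 yd3 zd23) (kd xd5 yd20 zd22) (kd xd1 yd15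 zd24) (kd xd1 yd15 zd25) (kd xd2 yd58 zd42) (kd xd2 yd38 zd41) (kd xd5 yd20 zd31) (kd xd2 yd58 zd44) (kd xd1 yd15 zd28) (kd xd4 yd21 zd38) (kd xd5 yd20 zd38) (kd xd4 yd16 zd47) (kd xd4 yd3 zd0) (kd xd5 yd20 zd45)) (@D3.rec (fun _ => Pt) (kd xd1 yd15 zd31) (kd xd5 yd12 zd0) (kd xd2 yd38 zd54) (kd xd5 yd20 zd51) (kd xd2 yd58 zd32) (kd xd5 yd20 zd56) (kd xd5 yd20 zd60) (kd xd5 yd21 zd3) (kd xd1 yd15 zd33) (kd xd4 yd55 zd47) (kd xd2 yd37 zd10) (kd xd5 yd21 zd14) (kd xd5 yd21 zd17) (kd xd1 yd15 zd37) (kd xd1 yd15 zd38) (kd xd4 yd9 zd29) (kd xd4 yd21 zd10) (kd xd5 yd21 zd24) (kd xd1 yd15 zd40) (kd xd1 yd15 zd41) (kd xd4 yd3 zd61) (kd xd2 yd10 zd54) (kd xd2 yd11 zd7) (kd xd5 yd21 zd34) (kd xd4 yd27 zd35) (kd xd5 yd21 zd40) (kd xd5 yd13 zd6) (kd xd4 yd27 zd45) (kd xd5 yd21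 zd49) (kd xd4 yd17 zd19) (kd xd5 yd21 zd55) (kd xd4 yd3 zd21) (kd xd5 yd21 zd61) (kd xd5 yd22 zd2) (kd xd5 yd22 zd7) (kd xd1 yd15 zd48) (kd xd5 yd22 zd13) (kd xd2 yd37 zd37) (kd xd1 yd15 zd50) (kd xd2 yd5 zd19) (kd xd4 yd4 zd34) (kd xd5 yd22 zd20) (kd xd5 yd22 zd24) (kd xd5 yd4 zd55) (kd xd1 yd15 zd52) (kd xd2 yd58 zd39) (kd xd1 yd15 zd53) (kd xd1 yd15 zd54) (kd xd1 yd58 zd35) (kd xd2 yd8 zd21) (kd xd4 yd15 zd56) (kd xd4 yd55 zd45) (kd xd5 yd22 zd40) (kd xd5 yd22 zd43) (kd xd1 yd15 zd56) (kd xd4 yd15 zd4) (kd xd5 yd22 zd46) (kd xd4 yd10 zd40) (kd xd5 yd22 zd52) (kd xd2 yd35 zd51) (kd xd5 yd22 zd55) (kd xd5 yd22 zd59)) (@D3.rec (fun _ => Pt) (kd xd5 yd23 zd2) (kd xd1 yd15 zd59) (kd xd5 yd23 zd9) (kd xd5 yd23 zd12) (kd xd2 yd40 zd52) (kd xd1 yd15 zd60) (kd xd5 yd23 zd18)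 (kd xd1 yd15 zd61) (kd xd5 yd23 zd22) (kd xd1 yd16 zd2) (kd xd1 yd16 zd3) (kd xd4 yd51 zd4) (kd xd4 yd21 zd22) (kd xd2 yd23 zd33) (kd xd5 yd23 zd28) (kd xd5 yd23 zd31) (kd xd3 yd56 zd52) (kd xd1 yd16 zd5) (kd xd4 yd16 zd48) (kd xd4 yd55 zd46) (kd xd5 yd23 zd37) (kd xd4 yd15 zd26) (kd xd1 yd16 zd7) (kd xd4 yd10 zd41) (kd xd5 yd23 zd43) (kd xd1 yd16 zd8) (kd xd5 yd23 zd48) (kd xd4 yd11 zd11) (kd xd4 yd11 zd2) (kd xd1 yd16 zd9) (kd xd5 yd23 zd56) (kd xd5 yd23 zd60) (kd xd2 yd38 zd42) (kd xd5 yd24 zd1) (kd xd1 yd16 zd12) (kd xd5 yd24 zd5) (kd xd5 yd23 zd4) (kd xd5 yd23 zd5) (kd xd5 yd24 zd13) (kd xd1 yd16 zd13) (kd xd5 yd24 zd20) (kd xd2 yd36 zd53) (kd xd2 yd38 zd32) (kd xd2 yd30 zd20) (kd xd5 yd24 zd24) (kd xd5 yd24 zd26) (kd xd1 yd16 zd15) (kd xd5 yd13 zd12) (kd xd4 yd1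 zd0) (kd xd5 yd24 zd31) (kd xd4 yd2 zd60) (kd xd5 yd24 zd39) (kd xd1 yd16 zd17) (kd xd1 yd52 zd43) (kd xd2 yd37 zd2) (kd xd4 yd28 zd18) (kd xd4 yd28 zd19) (kd xd1 yd16 zd19) (kd xd5 yd24 zd50) (kd xd5 yd24 zd55) (kd xd4 yd13 zd14) (kd xd1 yd16 zd20)) (@D3.rec (fun _ => Pt) (kd xd4 yd33 zd2) (kd xd5 yd25 zd5) (kd xd4 yd5 zd8) (kd xd1 yd16 zd21) (kd xd5 yd25 zd9) (kd xd5 yd25 zd15) (kd xd5 yd25 zd20) (kd xd5 yd25 zd22) (kd xd1 yd16 zd22) (kd xd5 yd25 zd27) (kd xd4 yd54 zd50) (kd xd4 yd55 zd9) (kd xd4 yd54 zd41) (kd xd5 yd22 zd12) (kd xd1 yd16 zd24) (kd xd5 yd25 zd41) (kd xd5 yd25 zd44) (kd xd5 yd25 zd48) (kd xd2 yd11 zd28) (kd xd2 yd11 zd29) (kd xd5 yd25 zd56) (kd xd1 yd17 zd47) (kd xd5 yd6 zd40) (kd xd2 yd22 zd46) (kd xd5 yd26 zd3) (kd xd1 yd16 zd29) (kd xd2 yd51 zd27)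 (kd xd2 yd39 zd28) (kd xd2 yd39 zd27) (kd xd1 yd17 zd53) (kd xd2 yd40 zd9) (kd xd5 yd26 zd10) (kd xd5 yd12 zd10) (kd xd5 yd26 zd17) (kd xd1 yd16 zd33) (kd xd5 yd26 zd20) (kd xd2 yd35 zd54) (kd xd5 yd12 zd13) (kd xd5 yd26 zd25) (kd xd4 yd15 zd40) (kd xd5 yd26 zd33) (kd xd1 yd16 zd36) (kd xd5 yd26 zd37) (kd xd5 yd26 zd40) (kd xd4 yd12 zd6) (kd xd2 yd2 zd44) (kd xd5 yd26 zd44) (kd xd1 yd16 zd54) (kd xd5 yd26 zd52) (kd xd1 yd16 zd39) (kd xd2 yd59 zd19) (kd xd2 yd59 zd20) (kd xd1 yd17 zd8) (kd xd3 yd20 zd42) (kd xd1 yd16 zd41) (kd xd5 yd26 zd59) (kd xd5 yd27 zd2) (kd xd1 yd16 zd42) (kd xd5 yd27 zd7) (kd xd5 yd27 zd12) (kd xd5 yd27 zd14) (kd xd1 yd16 zd43)) (@D3.rec (fun _ => Pt) (kd xd3 yd0 zd23) (kd xd2 yd0 zd43) (kd xd1 yd18 zd5) (kd xd5 yd27 zd24) (kd xd1 yd16 zd47) (kd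 xd5 yd27 zd27) (kd xd2 yd40 zd6) (kd xd5 yd27 zd31) (kd xd4 yd8 zd1) (kd xd2 yd39 zd30) (kd xd2 yd1 zd12) (kd xd5 yd27 zd38) (kd xd4 yd8 zd16) (kd xd4 yd8 zd61) (kd xd5 yd27 zd46) (kd xd5 yd15 zd5) (kd xd5 yd27 zd51) (kd xd5 yd27 zd54) (kd xd5 yd27 zd59) (kd xd1 yd16 zd53) (kd xd5 yd28 zd2) (kd xd5 yd28 zd6) (kd xd5 yd28 zd9) (kd xd5 yd26 zd48) (kd xd5 yd0 zd58) (kd xd1 yd16 zd55) (kd xd5 yd4 zd50) (kd xd5 yd0 zd59) (kd xd1 yd16 zd56) (kd xd2 yd1 zd32) (kd xd5 yd28 zd21) (kd xd2 yd6 zd2) (kd xd5 yd28 zd29) (kd xd1 yd16 zd59) (kd xd5 yd28 zd34) (kd xd4 yd11 zd22) (kd xd4 yd11 zd40) (kd xd2 yd6 zd9) (kd xd5 yd28 zd42) (kd xd1 yd16 zd61) (kd xd5 yd28 zd46) (kd xd5 yd28 zd51) (kd xd1 yd17 zd1) (kd xd5 yd28 zd54) (kd xd5 yd28 zd60) (kd xd1 yd17 zd2) (kd xd5 yd29 zd1) (kd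 xd5 yd29 zd4) (kd xd5 yd29 zd8) (kd xd5 yd29 zd10) (kd xd1 yd17 zd3) (kd xd3 yd5 zd41) (kd xd2 yd38 zd4) (kd xd5 yd26 zd5) (kd xd3 yd20 zd37) (kd xd4 yd9 zd54) (kd xd2 yd40 zd56) (kd xd1 yd17 zd11) (kd xd4 yd13 zd60) (kd xd5 yd29 zd26) (kd xd4 yd15 zd38) (kd xd2 yd5 zd6)) (@D3.rec (fun _ => Pt) (kd xd4 yd15 zd21) (kd xd5 yd29 zd30) (kd xd1 yd17 zd14) (kd xd4 yd13 zd22) (kd xd2 yd4 zd27) (kd xd4 yd9 zd53) (kd xd5 yd29 zd42) (kd xd2 yd4 zd28) (kd xd2 yd4 zd29) (kd xd1 yd17 zd16) (kd xd2 yd45 zd23) (kd xd5 yd29 zd46) (kd xd1 yd17 zd17) (kd xd2 yd35 zd40) (kd xd5 yd29 zd49) (kd xd2 yd5 zd23) (kd xd5 yd29 zd55) (kd xd5 yd29 zd58) (kd xd5 yd30 zd1) (kd xd1 yd17 zd19) (kd xd5 yd30 zd8) (kd xd4 yd9 zd28) (kd xd4 yd8 zd19) (kd xd1 yd17 zd20) (kd xd5 yd30 zd17) (kd xd2 yd58 zd61)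 (kd xd5 yd30 zd20) (kd xd5 yd30 zd23) (kd xd5 yd30 zd27) (kd xd5 yd30 zd29) (kd xd1 yd17 zd25) (kd xd5 yd30 zd37) (kd xd5 yd28 zd57) (kd xd5 yd30 zd41) (kd xd5 yd30 zd44) (kd xd1 yd17 zd27) (kd xd5 yd30 zd46) (kd xd5 yd30 zd48) (kd xd2 yd33 zd33) (kd xd2 yd6 zd12) (kd xd5 yd30 zd52) (kd xd5 yd26 zd42) (kd xd4 yd30 zd1) (kd xd3 yd7 zd21) (kd xd1 yd17 zd31) (kd xd4 yd17 zd1) (kd xd5 yd30 zd61) (kd xd1 yd17 zd33) (kd xd5 yd17 zd45) (kd xd4 yd16 zd35) (kd xd5 yd31 zd9) (kd xd1 yd17 zd34) (kd xd5 yd31 zd16) (kd xd2 yd11 zd40) (kd xd5 yd31 zd20) (kd xd5 yd31 zd24) (kd xd1 yd17 zd36) (kd xd5 yd13 zd22) (kd xd2 yd26 zd44) (kd xd5 yd31 zd32) (kd xd5 yd29 zd12) (kd xd5 yd29 zd13)) (@D3.rec (fun _ => Pt) (kd xd5 yd31 zd38) (kd xd1 yd17 zd38) (kd xd5 yd31 zd46) (kd xd1 yd18 zd26)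 (kd xd1 yd18 zd23) (kd xd2 yd46 zd36) (kd xd1 yd18 zd50) (kd xd4 yd31 zd12) (kd xd1 yd17 zd40) (kd xd5 yd31 zd60) (kd xd5 yd32 zd0) (kd xd2 yd13 zd40) (kd xd1 yd17 zd41) (kd xd2 yd48 zd27) (kd xd1 yd17 zd42) (kd xd5 yd12 zd11) (kd xd5 yd32 zd7) (kd xd5 yd32 zd9) (kd xd4 yd14 zd56) (kd xd5 yd30 zd3) (kd xd5 yd30 zd4) (kd xd5 yd32 zd20) (kd xd1 yd17 zd46) (kd xd5 yd32 zd27) (kd xd4 yd29 zd53) (kd xd4 yd29 zd54) (kd xd5 yd25 zd60) (kd xd5 yd30 zd31) (kd xd5 yd30 zd32) (kd xd5 yd32 zd39) (kd xd1 yd17 zd48) (kd xd3 yd12 zd61) (kd xd3 yd13 zd0) (kd xd2 yd22 zd48) (kd xd3 yd21 zd55) (kd xd1 yd22 zd22) (kd xd1 yd36 zd47) (kd xd4 yd17 zd3) (kd xd4 yd30 zd2) (kd xd4 yd49 zd28) (kd xd5 yd32 zd57) (kd xd5 yd32 zd60) (kd xd5 yd33 zd0) (kd xd5 yd33 zd4) (kd xd1 yd17 zd54) (kd xd5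 yd33 zd12) (kd xd2 yd11 zd31) (kd xd2 yd2 zd47) (kd xd4 yd32 zd43) (kd xd1 yd17 zd56) (kd xd5 yd33 zd24) (kd xd5 yd33 zd27) (kd xd5 yd33 zd30) (kd xd5 yd33 zd33) (kd xd4 yd14 zd27) (kd xd1 yd17 zd57) (kd xd2 yd54 zd53) (kd xd2 yd54 zd54) (kd xd2 yd15 zd25) (kd xd4 yd33 zd38) (kd xd5 yd33 zd48) (kd xd5 yd33 zd53)) (@D3.rec (fun _ => Pt) (kd xd5 yd33 zd59) (kd xd1 yd17 zd60) (kd xd5 yd34 zd5) (kd xd5 yd34 zd3) (kd xd5 yd34 zd11) (kd xd5 yd34 zd14) (kd xd1 yd17 zd61) (kd xd5 yd34 zd19) (kd xd1 yd18 zd0) (kd xd5 yd28 zd39) (kd xd5 yd28 zd40) (kd xd5 yd34 zd29) (kd xd5 yd27 zd18) (kd xd5 yd34 zd36) (kd xd1 yd18 zd28) (kd xd1 yd19 zd13) (kd xd5 yd34 zd44) (kd xd5 yd34 zd46) (kd xd5 yd34 zd49) (kd xd5 yd27 zd23) (kd xd5 yd34 zd52) (kd xd5 yd34 zd55) (kd xd1 yd18 zd6) (kd xd5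 yd34 zd61) (kd xd5 yd8 zd27) (kd xd1 yd18 zd7) (kd xd2 yd34 zd58) (kd xd5 yd35 zd6) (kd xd5 yd8 zd26) (kd xd1 yd18 zd8) (kd xd2 yd2 zd54) (kd xd1 yd18 zd9) (kd xd1 yd18 zd10) (kd xd5 yd35 zd15) (kd xd2 yd43 zd34) (kd xd5 yd35 zd19) (kd xd4 yd50 zd40) (kd xd4 yd6 zd49) (kd xd2 yd4 zd33) (kd xd4 yd14 zd5) (kd xd5 yd35 zd26) (kd xd4 yd50 zd52) (kd xd4 yd19 zd51) (kd xd5 yd35 zd34) (kd xd5 yd0 zd50) (kd xd5 yd35 zd39) (kd xd5 yd35 zd42) (kd xd5 yd35 zd47) (kd xd1 yd18 zd16) (kd xd5 yd35 zd55) (kd xd4 yd14 zd30) (kd xd4 yd14 zd29) (kd xd1 yd18 zd17) (kd xd5 yd36 zd4) (kd xd5 yd36 zd5) (kd xd4 yd2 zd57) (kd xd1 yd18 zd18) (kd xd5 yd36 zd8) (kd xd4 yd2 zd58) (kd xd1 yd18 zd19) (kd xd2 yd23 zd16) (kd xd5 yd36 zd11)) (@D3.rec (fun _ => Pt) (kd xd5 yd36 zd13) (kd xd2 yd3 zd51)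 (kd xd5 yd31 zd50) (kd xd5 yd36 zd24) (kd xd4 yd52 zd18) (kd xd4 yd52 zd27) (kd xd2 yd3 zd58) (kd xd4 yd19 zd26) (kd xd5 yd36 zd32) (kd xd2 yd32 zd20) (kd xd5 yd31 zd48) (kd xd5 yd36 zd42) (kd xd5 yd9 zd52) (kd xd2 yd32 zd26) (kd xd5 yd36 zd47) (kd xd5 yd36 zd51) (kd xd5 yd34 zd37) (kd xd2 yd45 zd15) (kd xd2 yd44 zd20) (kd xd4 yd6 zd47) (kd xd2 yd44 zd18) (kd xd5 yd36 zd60) (kd xd4 yd5 zd32) (kd xd2 yd45 zd12) (kd xd1 yd18 zd33) (kd xd4 yd5 zd4) (kd xd5 yd37 zd3) (kd xd1 yd18 zd34) (kd xd5 yd37 zd8) (kd xd1 yd18 zd36) (kd xd4 yd33 zd7) (kd xd4 yd33 zd6) (kd xd5 yd37 zd13) (kd xd1 yd18 zd37) (kd xd2 yd30 zd19) (kd xd1 yd20 zd17) (kd xd1 yd20 zd18) (kd xd2 yd47 zd45) (kd xd1 yd18 zd39) (kd xd4 yd34 zd42) (kd xd4 yd57 zd27) (kd xd4 yd57 zd26) (kd xd5 yd37 zd30) (kd xd1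 yd18 zd41) (kd xd2 yd31 zd18) (kd xd3 yd59 zd6) (kd xd3 yd59 zd7) (kd xd5 yd37 zd40) (kd xd5 yd37 zd43) (kd xd1 yd18 zd43) (kd xd2 yd52 zd22) (kd xd5 yd37 zd52) (kd xd5 yd37 zd56) (kd xd1 yd18 zd45) (kd xd2 yd31 zd12) (kd xd5 yd38 zd0) (kd xd5 yd38 zd1) (kd xd1 yd18 zd46) (kd xd1 yd18 zd47) (kd xd5 yd0 zd25) (kd xd1 yd19 zd25) (kd xd1 yd19 zd26)) (@D3.rec (fun _ => Pt) (kd xd5 yd38 zd16) (kd xd5 yd31 zd55) (kd xd5 yd38 zd23) (kd xd5 yd38 zd26) (kd xd1 yd18 zd49) (kd xd5 yd38 zd28) (kd xd5 yd38 zd30) (kd xd5 yd38 zd32) (kd xd4 yd29 zd40) (kd xd2 yd52 zd52) (kd xd2 yd52 zd50) (kd xd2 yd52 zd34) (kd xd2 yd44 zd23) (kd xd1 yd18 zd54) (kd xd5 yd38 zd42) (kd xd2 yd44 zd17) (kd xd2 yd54 zd61) (kd xd2 yd57 zd53) (kd xd1 yd18 zd59) (kd xd1 yd25 zd33) (kd xd5 yd38 zd40) (kd xd1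 yd19 zd3) (kd xd2 yd45 zd22) (kd xd2 yd41 zd10) (kd xd4 yd4 zd23) (kd xd2 yd31 zd40) (kd xd2 yd8 zd47) (kd xd4 yd4 zd20) (kd xd2 yd8 zd49) (kd xd4 yd3 zd26) (kd xd4 yd3 zd24) (kd xd4 yd14 zd36) (kd xd5 yd39 zd10) (kd xd4 yd51 zd38) (kd xd4 yd50 zd55) (kd xd1 yd19 zd8) (kd xd5 yd39 zd20) (kd xd2 yd24 zd17) (kd xd2 yd24 zd19) (kd xd5 yd39 zd22) (kd xd5 yd39 zd25) (kd xd5 yd39 zd29) (kd xd5 yd34 zd39) (kd xd5 yd39 zd34) (kd xd1 yd19 zd14) (kd xd5 yd39 zd38) (kd xd4 yd52 zd14) (kd xd5 yd39 zd44) (kd xd2 yd32 zd16) (kd xd2 yd24 zd29) (kd xd5 yd39 zd47) (kd xd5 yd39 zd50) (kd xd4 yd56 zd8) (kd xd5 yd39 zd54) (kd xd1 yd19 zd18) (kd xd4 yd12 zd37) (kd xd5 yd39 zd58) (kd xd1 yd19 zd20) (kd xd1 yd19 zd21) (kd xd1 yd19 zd33) (kd xd1 yd19 zd32) (kd xd5 yd40 zd9)) (@D3.rec (fun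 _ => Pt) (kd xd5 yd7 zd7) (kd xd2 yd52 zd18) (kd xd1 yd48 zd46) (kd xd1 yd19 zd23) (kd xd2 yd51 zd19) (kd xd5 yd38 zd8) (kd xd5 yd40 zd18) (kd xd5 yd38 zd11) (kd xd5 yd40 zd20) (kd xd1 yd19 zd27) (kd xd2 yd12 zd49) (kd xd2 yd12 zd50) (kd xd5 yd40 zd31) (kd xd5 yd40 zd22) (kd xd2 yd12 zd30) (kd xd2 yd51 zd14) (kd xd2 yd7 zd25) (kd xd2 yd34 zd7) (kd xd5 yd40 zd46) (kd xd5 yd40 zd48) (kd xd1 yd19 zd31) (kd xd5 yd40 zd53) (kd xd5 yd40 zd4) (kd xd5 yd40 zd1) (kd xd1 yd28 zd29) (kd xd4 yd31 zd8) (kd xd1 yd19 zd35) (kd xd2 yd12 zd38) (kd xd2 yd4 zd40) (kd xd5 yd40 zd60) (kd xd1 yd19 zd38) (kd xd5 yd41 zd0) (kd xd1 yd19 zd39) (kd xd5 yd39 zd61) (kd xd5 yd41 zd5) (kd xd1 yd19 zd42) (kd xd2 yd42 zd5) (kd xd5 yd41 zd11) (kd xd1 yd19 zd43) (kd xd5 yd41 zd14) (kd xd4 yd34 zd8) (kd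 xd4 yd41 zd32) (kd xd5 yd41 zd18) (kd xd5 yd41 zd21) (kd xd1 yd19 zd48) (kd xd5 yd41 zd25) (kd xd5 yd41 zd27) (kd xd5 yd41 zd28) (kd xd1 yd19 zd49) (kd xd5 yd41 zd32) (kd xd1 yd19 zd50) (kd xd5 yd41 zd36) (kd xd5 yd41 zd39) (kd xd1 yd19 zd51) (kd xd5 yd41 zd45) (kd xd3 yd58 zd53) (kd xd3 yd58 zd54) (kd xd5 yd41 zd54) (kd xd5 yd41 zd58) (kd xd5 yd41 zd61) (kd xd1 yd19 zd53) (kd xd5 yd42 zd1)) (@D3.rec (fun _ => Pt) (kd xd2 yd12 zd29) (kd xd2 yd51 zd39) (kd xd2 yd12 zd28) (kd xd2 yd33 zd8) (kd xd5 yd42 zd13) (kd xd5 yd42 zd15) (kd xd1 yd19 zd56) (kd xd5 yd42 zd20) (kd xd1 yd25 zd60) (kd xd5 yd42 zd24) (kd xd1 yd19 zd58) (kd xd5 yd42 zd27) (kd xd1 yd19 zd59) (kd xd5 yd42 zd30) (kd xd5 yd42 zd31) (kd xd1 yd19 zd60) (kd xd5 yd42 zd34) (kd xd1 yd19 zd61) (kd xd5 yd42 zd37)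 (kd xd5 yd42 zd40) (kd xd5 yd42 zd41) (kd xd1 yd20 zd0) (kd xd3 yd33 zd20) (kd xd2 yd49 zd10) (kd xd2 yd49 zd7) (kd xd5 yd42 zd55) (kd xd5 yd42 zd59) (kd xd4 yd41 zd29) (kd xd1 yd20 zd2) (kd xd4 yd30 zd9) (kd xd5 yd33 zd20) (kd xd1 yd20 zd3) (kd xd5 yd43 zd6) (kd xd5 yd43 zd8) (kd xd1 yd20 zd5) (kd xd1 yd20 zd6) (kd xd5 yd43 zd12) (kd xd5 yd43 zd13) (kd xd1 yd20 zd7) (kd xd1 yd20 zd8) (kd xd5 yd43 zd18) (kd xd5 yd43 zd20) (kd xd5 yd43 zd21) (kd xd1 yd20 zd9) (kd xd5 yd43 zd25) (kd xd2 yd44 zd37) (kd xd5 yd43 zd31) (kd xd5 yd43 zd17) (kd xd1 yd20 zd11) (kd xd5 yd43 zd37) (kd xd5 yd43 zd38) (kd xd5 yd43 zd39) (kd xd1 yd20 zd12) (kd xd5 yd43 zd44) (kd xd1 yd20 zd13) (kd xd5 yd43 zd47) (kd xd5 yd43 zd49) (kd xd5 yd43 zd52) (kd xd5 yd43 zd54) (kd xd1 yd20 zd15) (kd xd5 yd43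 zd57) (kd xd4 yd31 zd0)) (@D3.rec (fun _ => Pt) (kd xd3 yd0 zd8) (kd xd5 yd44 zd5) (kd xd1 yd23 zd60) (kd xd3 yd0 zd43) (kd xd5 yd44 zd16) (kd xd5 yd44 zd20) (kd xd5 yd37 zd20) (kd xd5 yd44 zd24) (kd xd5 yd44 zd27) (kd xd5 yd44 zd31) (kd xd5 yd44 zd35) (kd xd5 yd44 zd40) (kd xd1 yd20 zd19) (kd xd5 yd44 zd49) (kd xd5 yd44 zd46) (kd xd5 yd44 zd54) (kd xd5 yd44 zd58) (kd xd1 yd24 zd11) (kd xd5 yd45 zd1) (kd xd5 yd45 zd3) (kd xd1 yd20 zd22) (kd xd2 yd26 zd10) (kd xd5 yd45 zd11) (kd xd5 yd45 zd15) (kd xd5 yd45 zd18) (kd xd5 yd45 zd20) (kd xd1 yd20 zd24) (kd xd2 yd42 zd13) (kd xd2 yd26 zd20) (kd xd5 yd45 zd26) (kd xd5 yd45 zd30) (kd xd5 yd45 zd33) (kd xd1 yd20 zd26) (kd xd3 yd10 zd21) (kd xd5 yd28 zd26) (kd xd5 yd28 zd27) (kd xd4 yd30 zd19) (kd xd5 yd45 zd41) (kd xd5 yd45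 zd44) (kd xd5 yd45 zd47) (kd xd1 yd20 zd28) (kd xd5 yd6 zd55) (kd xd5 yd45 zd52) (kd xd5 yd45 zd56) (kd xd1 yd20 zd29) (kd xd5 yd45 zd61) (kd xd5 yd46 zd4) (kd xd5 yd8 zd24) (kd xd1 yd20 zd30) (kd xd5 yd46 zd8) (kd xd4 yd49 zd41) (kd xd5 yd46 zd12) (kd xd5 yd46 zd16) (kd xd1 yd20 zd32) (kd xd2 yd16 zd41) (kd xd4 yd26 zd7) (kd xd4 yd26 zd6) (kd xd5 yd46 zd24) (kd xd1 yd20 zd34) (kd xd5 yd46 zd30) (kd xd5 yd46 zd34) (kd xd5 yd46 zd36)) (@D3.rec (fun _ => Pt) (kd xd5 yd46 zd39) (kd xd1 yd20 zd36) (kd xd5 yd46 zd43) (kd xd5 yd46 zd44) (kd xd5 yd46 zd46) (kd xd5 yd46 zd47) (kd xd5 yd46 zd48) (kd xd2 yd47 zd24) (kd xd4 yd33 zd26) (kd xd1 yd20 zd43) (kd xd2 yd47 zd23) (kd xd1 yd20 zd44) (kd xd5 yd46 zd53) (kd xd1 yd20 zd45) (kd xd2 yd13 zd14) (kd xd5 yd40 zd57) (kd xd1 yd20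 zd47) (kd xd4 yd38 zd4) (kd xd4 yd46 zd34) (kd xd4 yd59 zd10) (kd xd3 yd59 zd41) (kd xd5 yd46 zd61) (kd xd1 yd20 zd50) (kd xd5 yd47 zd2) (kd xd5 yd47 zd3) (kd xd5 yd47 zd7) (kd xd5 yd44 zd30) (kd xd5 yd44 zd34) (kd xd1 yd20 zd52) (kd xd1 yd20 zd53) (kd xd5 yd47 zd13) (kd xd5 yd40 zd55) (kd xd5 yd47 zd15) (kd xd5 yd47 zd17) (kd xd3 yd59 zd44) (kd xd5 yd47 zd18) (kd xd4 yd59 zd30) (kd xd5 yd47 zd19) (kd xd1 yd20 zd57) (kd xd3 yd57 zd58) (kd xd3 yd57 zd59) (kd xd1 yd20 zd58) (kd xd1 yd27 zd36) (kd xd1 yd27 zd37) (kd xd5 yd47 zd32) (kd xd4 yd6 zd0) (kd xd5 yd47 zd38) (kd xd5 yd47 zd40) (kd xd4 yd6 zd6) (kd xd5 yd47 zd42) (kd xd5 yd47 zd44) (kd xd1 yd20 zd61) (kd xd2 yd56 zd20) (kd xd2 yd22 zd18) (kd xd4 yd36 zd46) (kd xd1 yd21 zd0) (kd xd5 yd38 zd3) (kd xd4 yd38 zd0) (kd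 xd5 yd47 zd52) (kd xd4 yd36 zd58) (kd xd1 yd21 zd2) (kd xd5 yd47 zd59)) (@D3.rec (fun _ => Pt) (kd xd1 yd21 zd3) (kd xd5 yd48 zd0) (kd xd3 yd47 zd17) (kd xd5 yd48 zd3) (kd xd1 yd21 zd5) (kd xd3 yd26 zd28) (kd xd5 yd48 zd10) (kd xd5 yd48 zd13) (kd xd1 yd21 zd7) (kd xd1 yd21 zd53) (kd xd4 yd6 zd60) (kd xd1 yd21 zd56) (kd xd3 yd29 zd59) (kd xd5 yd38 zd13) (kd xd3 yd25 zd41) (kd xd3 yd24 zd34) (kd xd1 yd21 zd10) (kd xd5 yd48 zd24) (kd xd5 yd48 zd28) (kd xd5 yd48 zd32) (kd xd1 yd21 zd11) (kd xd5 yd48 zd37) (kd xd5 yd48 zd40) (kd xd5 yd48 zd41) (kd xd1 yd21 zd12) (kd xd4 yd32 zd1) (kd xd1 yd53 zd34) (kd xd5 yd48 zd50) (kd xd1 yd21 zd14) (kd xd5 yd48 zd56) (kd xd1 yd21 zd15) (kd xd5 yd48 zd59) (kd xd5 yd48 zd61) (kd xd2 yd52 zd38) (kd xd1 yd21 zd17) (kd xd5 yd49 zd2) (kd xd5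 yd49 zd3) (kd xd1 yd21 zd18) (kd xd2 yd13 zd5) (kd xd5 yd49 zd9) (kd xd5 yd49 zd10) (kd xd3 yd36 zd54) (kd xd1 yd21 zd20) (kd xd5 yd49 zd19) (kd xd5 yd28 zd56) (kd xd1 yd21 zd22) (kd xd3 yd10 zd26) (kd xd2 yd52 zd21) (kd xd5 yd38 zd48) (kd xd2 yd33 zd56) (kd xd2 yd52 zd24) (kd xd2 yd33 zd57) (kd xd2 yd52 zd26) (kd xd2 yd52 zd27) (kd xd1 yd21 zd44) (kd xd4 yd33 zd57) (kd xd5 yd49 zd39) (kd xd1 yd21 zd27) (kd xd5 yd49 zd41) (kd xd1 yd21 zd29) (kd xd2 yd13 zd23) (kd xd5 yd49 zd47)) (@D3.rec (fun _ => Pt) (kd xd5 yd49 zd48) (kd xd1 yd21 zd32) (kd xd5 yd49 zd53) (kd xd4 yd33 zd61) (kd xd5 yd49 zd57) (kd xd1 yd21 zd34) (kd xd4 yd0 zd24) (kd xd5 yd49 zd59) (kd xd1 yd21 zd38) (kd xd2 yd57 zd38) (kd xd2 yd31 zd20) (kd xd5 yd50 zd3) (kd xd1 yd21 zd40) (kd xd3 yd5 zd31) (kd xd2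 yd46 zd15) (kd xd1 yd22 zd13) (kd xd3 yd5 zd46) (kd xd5 yd40 zd3) (kd xd1 yd22 zd14) (kd xd2 yd46 zd4) (kd xd2 yd12 zd53) (kd xd5 yd50 zd18) (kd xd5 yd50 zd22) (kd xd2 yd52 zd12) (kd xd1 yd21 zd48) (kd xd5 yd50 zd30) (kd xd1 yd21 zd46) (kd xd2 yd39 zd26) (kd xd5 yd50 zd35) (kd xd1 yd21 zd47) (kd xd5 yd50 zd39) (kd xd1 yd21 zd49) (kd xd2 yd15 zd53) (kd xd2 yd0 zd5) (kd xd4 yd34 zd12) (kd xd2 yd30 zd35) (kd xd5 yd50 zd48) (kd xd1 yd21 zd51) (kd xd4 yd34 zd11) (kd xd2 yd47 zd1) (kd xd5 yd48 zd14) (kd xd5 yd50 zd59) (kd xd3 yd20 zd15) (kd xd1 yd21 zd54) (kd xd5 yd50 zd61) (kd xd1 yd21 zd55) (kd xd5 yd51 zd1) (kd xd1 yd21 zd57) (kd xd3 yd25 zd40) (kd xd5 yd7 zd51) (kd xd2 yd14 zd7) (kd xd1 yd50 zd45) (kd xd5 yd7 zd57) (kd xd2 yd14 zd10) (kd xd1 yd52 zd8) (kd xd5 yd40 zd25)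 (kd xd3 yd50 zd27) (kd xd1 yd39 zd56) (kd xd1 yd21 zd61) (kd xd5 yd51 zd27) (kd xd5 yd51 zd31) (kd xd5 yd8 zd4)) (@D3.rec (fun _ => Pt) (kd xd5 yd51 zd34) (kd xd4 yd7 zd19) (kd xd5 yd51 zd39) (kd xd5 yd51 zd40) (kd xd4 yd7 zd27) (kd xd1 yd28 zd26) (kd xd3 yd59 zd25) (kd xd5 yd51 zd47) (kd xd1 yd22 zd4) (kd xd5 yd51 zd50) (kd xd5 yd51 zd51) (kd xd1 yd22 zd5) (kd xd2 yd51 zd23) (kd xd3 yd23 zd35) (kd xd1 yd22 zd6) (kd xd3 yd21 zd27) (kd xd2 yd13 zd50) (kd xd1 yd22 zd9) (kd xd2 yd46 zd1) (kd xd4 yd39 zd33) (kd xd1 yd31 zd30) (kd xd2 yd50 zd47) (kd xd2 yd44 zd50) (kd xd1 yd31 zd25) (kd xd2 yd50 zd50) (kd xd2 yd34 zd9) (kd xd2 yd50 zd52) (kd xd2 yd50 zd53) (kd xd1 yd22 zd18) (kd xd5 yd52 zd21) (kd xd5 yd52 zd25) (kd xd5 yd52 zd29) (kd xd1 yd22 zd19) (kd xd5 yd52 zd34) (kd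 xd2 yd45 zd11) (kd xd1 yd28 zd57) (kd xd2 yd58 zd2) (kd xd4 yd29 zd60) (kd xd2 yd50 zd33) (kd xd5 yd32 zd47) (kd xd5 yd52 zd50) (kd xd4 yd43 zd49) (kd xd3 yd8 zd31) (kd xd1 yd22 zd24) (kd xd5 yd52 zd56) (kd xd5 yd52 zd57) (kd xd5 yd52 zd58) (kd xd1 yd22 zd25) (kd xd1 yd22 zd27) (kd xd5 yd40 zd6) (kd xd2 yd45 zd10) (kd xd5 yd52 zd37) (kd xd2 yd45 zd9) (kd xd2 yd34 zd15) (kd xd5 yd53 zd8) (kd xd5 yd53 zd9) (kd xd1 yd22 zd32) (kd xd2 yd0 zd12) (kd xd1 yd56 zd10) (kd xd5 yd53 zd15) (kd xd1 yd22 zd34) (kd xd1 yd22 zd35)) (@D3.rec (fun _ => Pt) (kd xd2 yd12 zd27) (kd xd5 yd40 zd61) (kd xd1 yd22 zd37) (kd xd5 yd53 zd26) (kd xd5 yd53 zd27) (kd xd1 yd22 zd38) (kd xd5 yd53 zd33) (kd xd3 yd26 zd0) (kd xd5 yd53 zd36) (kd xd5 yd53 zd38) (kd xd1 yd22 zd40) (kd xd5 yd53 zd41) (kd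 xd1 yd22 zd41) (kd xd1 yd22 zd42) (kd xd5 yd53 zd47) (kd xd5 yd41 zd30) (kd xd5 yd53 zd49) (kd xd1 yd22 zd44) (kd xd5 yd53 zd54) (kd xd5 yd53 zd56) (kd xd5 yd53 zd58) (kd xd5 yd53 zd60) (kd xd1 yd22 zd46) (kd xd5 yd54 zd2) (kd xd5 yd54 zd3) (kd xd1 yd22 zd47) (kd xd5 yd54 zd6) (kd xd4 yd42 zd43) (kd xd1 yd22 zd48) (kd xd2 yd18 zd43) (kd xd2 yd18 zd44) (kd xd5 yd54 zd14) (kd xd5 yd54 zd18) (kd xd5 yd54 zd21) (kd xd5 yd54 zd23) (kd xd1 yd22 zd50) (kd xd5 yd54 zd26) (kd xd4 yd45 zd28) (kd xd5 yd54 zd30) (kd xd2 yd18 zd55) (kd xd5 yd54 zd35) (kd xd5 yd54 zd38) (kd xd5 yd54 zd41) (kd xd5 yd54 zd44) (kd xd1 yd22 zd53) (kd xd5 yd54 zd49) (kd xd5 yd54 zd51) (kd xd1 yd22 zd54) (kd xd5 yd54 zd56) (kd xd5 yd54 zd58) (kd xd5 yd54 zd60) (kd xd1 yd22 zd55) (kd xd4 yd56 zd40) (kd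 xd3 yd5 zd4) (kd xd5 yd55 zd8) (kd xd1 yd22 zd57) (kd xd5 yd55 zd12) (kd xd1 yd22 zd58) (kd xd2 yd57 zd27) (kd xd3 yd23 zd3) (kd xd1 yd22 zd59) (kd xd3 yd20 zd47)) (@D3.rec (fun _ => Pt) (kd xd1 yd31 zd48) (kd xd1 yd31 zd49) (kd xd1 yd32 zd32) (kd xd2 yd36 zd2) (kd xd4 yd36 zd36) (kd xd5 yd55 zd29) (kd xd1 yd23 zd1) (kd xd5 yd55 zd36) (kd xd5 yd42 zd29) (kd xd1 yd23 zd3) (kd xd1 yd23 zd4) (kd xd5 yd55 zd41) (kd xd5 yd55 zd43) (kd xd5 yd55 zd45) (kd xd1 yd23 zd6) (kd xd1 yd23 zd7) (kd xd5 yd55 zd50) (kd xd5 yd55 zd52) (kd xd5 yd55 zd56) (kd xd1 yd23 zd9) (kd xd5 yd55 zd61) (kd xd5 yd56 zd0) (kd xd1 yd23 zd10) (kd xd5 yd56 zd3) (kd xd1 yd23 zd11) (kd xd5 yd56 zd6) (kd xd2 yd9 zd22) (kd xd2 yd9 zd23) (kd xd5 yd56 zd15) (kd xd5 yd56 zd19) (kd xd5 yd56 zd22) (kd xd5 yd56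 zd24) (kd xd1 yd23 zd13) (kd xd5 yd56 zd28) (kd xd4 yd38 zd3) (kd xd5 yd42 zd3) (kd xd2 yd17 zd44) (kd xd5 yd56 zd36) (kd xd5 yd56 zd39) (kd xd3 yd16 zd43) (kd xd3 yd16 zd4) (kd xd1 yd23 zd16) (kd xd5 yd16 zd50) (kd xd5 yd56 zd51) (kd xd5 yd56 zd55) (kd xd1 yd23 zd17) (kd xd5 yd56 zd60) (kd xd5 yd57 zd0) (kd xd1 yd23 zd18) (kd xd5 yd57 zd4) (kd xd5 yd57 zd8) (kd xd5 yd57 zd11) (kd xd1 yd23 zd20) (kd xd2 yd42 zd56) (kd xd2 yd42 zd57) (kd xd5 yd57 zd21) (kd xd1 yd23 zd22) (kd xd2 yd57 zd35) (kd xd3 yd14 zd27) (kd xd3 yd14 zd33) (kd xd1 yd23 zd24) (kd xd2 yd45 zd16)) (@D3.rec (fun _ => Pt) (kd xd4 yd35 zd47) (kd xd1 yd23 zd27) (kd xd1 yd23 zd28) (kd xd5 yd57 zd32) (kd xd5 yd57 zd35) (kd xd3 yd25 zd31) (kd xd1 yd23 zd30) (kd xd1 yd23 zd31) (kd xd2 yd14 zd20) (kd xd5 yd57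 zd39) (kd xd5 yd57 zd43) (kd xd5 yd57 zd45) (kd xd1 yd23 zd33) (kd xd5 yd57 zd48) (kd xd1 yd23 zd34) (kd xd5 yd57 zd50) (kd xd1 yd23 zd35) (kd xd1 yd23 zd36) (kd xd5 yd57 zd54) (kd xd1 yd31 zd17) (kd xd4 yd59 zd45) (kd xd5 yd57 zd61) (kd xd1 yd23 zd39) (kd xd5 yd58 zd2) (kd xd1 yd23 zd38) (kd xd3 yd0 zd14) (kd xd5 yd58 zd5) (kd xd5 yd58 zd9) (kd xd5 yd58 zd12) (kd xd5 yd58 zd14) (kd xd5 yd58 zd19) (kd xd1 yd23 zd41) (kd xd1 yd47 zd25) (kd xd5 yd58 zd25) (kd xd3 yd23 zd1) (kd xd1 yd23 zd42) (kd xd3 yd13 zd58) (kd xd5 yd58 zd28) (kd xd1 yd23 zd44) (kd xd2 yd33 zd6) (kd xd3 yd13 zd44) (kd xd1 yd23 zd46) (kd xd1 yd23 zd47) (kd xd1 yd23 zd48) (kd xd1 yd23 zd49) (kd xd5 yd58 zd38) (kd xd5 yd58 zd40) (kd xd5 yd58 zd44) (kd xd5 yd58 zd46) (kd xd1 yd23 zd51) (kd xd5 yd58 zd50)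 (kd xd4 yd59 zd46) (kd xd5 yd58 zd55) (kd xd1 yd23 zd53) (kd xd5 yd58 zd60) (kd xd1 yd23 zd54) (kd xd5 yd59 zd3) (kd xd5 yd59 zd6) (kd xd1 yd23 zd55) (kd xd5 yd59 zd10) (kd xd1 yd23 zd56) (kd xd5 yd59 zd14)) (@D3.rec (fun _ => Pt) (kd xd5 yd59 zd18) (kd xd1 yd23 zd58) (kd xd5 yd59 zd21) (kd xd1 yd23 zd59) (kd xd5 yd59 zd25) (kd xd5 yd59 zd29) (kd xd5 yd59 zd33) (kd xd5 yd44 zd9) (kd xd1 yd26 zd2) (kd xd5 yd59 zd37) (kd xd5 yd59 zd41) (kd xd5 yd58 zd22) (kd xd5 yd58 zd23) (kd xd5 yd59 zd49) (kd xd1 yd24 zd0) (kd xd5 yd59 zd55) (kd xd5 yd59 zd57) (kd xd5 yd59 zd59) (kd xd1 yd24 zd1) (kd xd6 yd0 zd0) (kd xd2 yd49 zd52) (kd xd1 yd52 zd6) (kd xd6 yd0 zd2) (kd xd6 yd0 zd10) (kd xd1 yd24 zd3) (kd xd6 yd0 zd15) (kd xd6 yd0 zd18) (kd xd6 yd0 zd21) (kd xd1 yd24 zd4) (kd xd6 yd0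 zd26) (kd xd6 yd0 zd31) (kd xd2 yd58 zd16) (kd xd1 yd24 zd5) (kd xd6 yd0 zd35) (kd xd6 yd0 zd41) (kd xd2 yd58 zd19) (kd xd1 yd24 zd6) (kd xd6 yd0 zd44) (kd xd3 yd30 zd7) (kd xd4 yd40 zd35) (kd xd4 yd58 zd13) (kd xd6 yd0 zd51) (kd xd6 yd0 zd54) (kd xd6 yd0 zd57) (kd xd1 yd24 zd8) (kd xd6 yd0 zd61) (kd xd6 yd1 zd3) (kd xd6 yd1 zd7) (kd xd1 yd24 zd9) (kd xd6 yd1 zd14) (kd xd6 yd1 zd19) (kd xd6 yd1 zd22) (kd xd1 yd24 zd10) (kd xd3 yd25 zd29) (kd xd1 yd24 zd12) (kd xd1 yd24 zd13) (kd xd5 yd12 zd28) (kd xd5 yd49 zd52) (kd xd6 yd1 zd39) (kd xd6 yd1 zd41) (kd xd6 yd1 zd44) (kd xd5 yd54 zd46)) (@D3.rec (fun _ => Pt) (kd xd5 yd54 zd47) (kd xd1 yd24 zd16) (kd xd6 yd1 zd54) (kd xd6 yd1 zd57) (kd xd1 yd24 zd17) (kd xd6 yd1 zd61) (kd xd6 yd2 zd1) (kd xd1 yd24 zd18) (kd xd1 yd24 zd19)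 (kd xd6 yd2 zd7) (kd xd6 yd2 zd9) (kd xd1 yd24 zd21) (kd xd6 yd2 zd12) (kd xd1 yd36 zd34) (kd xd5 yd56 zd44) (kd xd1 yd34 zd31) (kd xd1 yd24 zd23) (kd xd6 yd2 zd25) (kd xd6 yd2 zd28) (kd xd6 yd2 zd31) (kd xd4 yd37 zd60) (kd xd1 yd24 zd25) (kd xd2 yd59 zd39) (kd xd6 yd2 zd36) (kd xd1 yd24 zd26) (kd xd6 yd2 zd40) (kd xd6 yd2 zd41) (kd xd2 yd53 zd58) (kd xd6 yd2 zd47) (kd xd1 yd24 zd28) (kd xd5 yd45 zd49) (kd xd6 yd2 zd51) (kd xd1 yd24 zd29) (kd xd6 yd2 zd59) (kd xd1 yd24 zd30) (kd xd2 yd54 zd57) (kd xd6 yd3 zd3) (kd xd2 yd30 zd56) (kd xd2 yd51 zd9) (kd xd6 yd3 zd7) (kd xd1 yd24 zd32) (kd xd5 yd46 zd1) (kd xd6 yd3 zd10) (kd xd6 yd3 zd12) (kd xd1 yd24 zd33) (kd xd6 yd3 zd19) (kd xd1 yd24 zd34) (kd xd5 yd14 zd9) (kd xd6 yd3 zd23) (kd xd1 yd24 zd36) (kd xd6 yd3 zd24) (kd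 xd1 yd24 zd37) (kd xd2 yd14 zd5) (kd xd2 yd45 zd17) (kd xd2 yd58 zd0) (kd xd4 yd5 zd42) (kd xd2 yd57 zd59) (kd xd4 yd37 zd24) (kd xd5 yd0 zd31) (kd xd2 yd57 zd56) (kd xd5 yd6 zd54) (kd xd5 yd0 zd34)) (@D3.rec (fun _ => Pt) (kd xd2 yd57 zd54) (kd xd5 yd46 zd51) (kd xd2 yd52 zd36) (kd xd2 yd58 zd7) (kd xd6 yd4 zd0) (kd xd1 yd24 zd42) (kd xd1 yd24 zd43) (kd xd2 yd58 zd3) (kd xd4 yd7 zd22) (kd xd2 yd9 zd33) (kd xd4 yd39 zd13) (kd xd4 yd39 zd29) (kd xd6 yd4 zd11) (kd xd1 yd24 zd46) (kd xd1 yd24 zd47) (kd xd2 yd27 zd33) (kd xd2 yd56 zd31) (kd xd6 yd4 zd15) (kd xd2 yd27 zd36) (kd xd2 yd56 zd35) (kd xd1 yd24 zd51) (kd xd6 yd4 zd19) (kd xd6 yd4 zd22) (kd xd1 yd24 zd54) (kd xd1 yd24 zd55) (kd xd2 yd36 zd36) (kd xd6 yd4 zd31) (kd xd1 yd24 zd57) (kd xd1 yd24 zd58) (kd xd1 yd24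 zd59) (kd xd4 yd0 zd59) (kd xd6 yd4 zd40) (kd xd2 yd37 zd4) (kd xd1 yd25 zd0) (kd xd5 yd6 zd5) (kd xd1 yd25 zd1) (kd xd5 yd11 zd58) (kd xd6 yd4 zd51) (kd xd5 yd6 zd7) (kd xd2 yd37 zd45) (kd xd5 yd23 zd21) (kd xd4 yd10 zd43) (kd xd2 yd36 zd52) (kd xd6 yd5 zd4) (kd xd2 yd36 zd55) (kd xd6 yd5 zd10) (kd xd6 yd5 zd13) (kd xd6 yd5 zd18) (kd xd1 yd25 zd6) (kd xd6 yd5 zd24) (kd xd2 yd58 zd50) (kd xd6 yd5 zd31) (kd xd2 yd11 zd59) (kd xd4 yd49 zd61) (kd xd6 yd5 zd40) (kd xd1 yd25 zd10) (kd xd2 yd58 zd57) (kd xd2 yd58 zd56) (kd xd2 yd12 zd3) (kd xd1 yd25 zd12) (kd xd6 yd5 zd44) (kd xd2 yd41 zd25)) (@D3.rec (fun _ => Pt) (kd xd6 yd5 zd49) (kd xd5 yd5 zd31) (kd xd5 yd54 zd36) (kd xd1 yd25 zd15) (kd xd6 yd5 zd57) (kd xd2 yd34 zd59) (kd xd5 yd5 zd36) (kd xd6 yd5 zd61) (kd xd4 yd8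 zd41) (kd xd6 yd6 zd7) (kd xd1 yd25 zd18) (kd xd6 yd6 zd12) (kd xd6 yd6 zd14) (kd xd4 yd18 zd34) (kd xd2 yd6 zd8) (kd xd6 yd6 zd19) (kd xd2 yd11 zd27) (kd xd6 yd6 zd27) (kd xd1 yd25 zd21) (kd xd2 yd39 zd50) (kd xd2 yd39 zd51) (kd xd2 yd11 zd37) (kd xd6 yd6 zd34) (kd xd1 yd25 zd23) (kd xd6 yd6 zd37) (kd xd4 yd35 zd17) (kd xd1 yd25 zd24) (kd xd1 yd36 zd41) (kd xd1 yd36 zd37) (kd xd6 yd6 zd45) (kd xd1 yd25 zd25) (kd xd4 yd39 zd51) (kd xd1 yd25 zd31) (kd xd1 yd25 zd37) (kd xd2 yd12 zd17) (kd xd6 yd6 zd56) (kd xd6 yd6 zd60) (kd xd2 yd25 zd51) (kd xd5 yd4 zd35) (kd xd2 yd57 zd22) (kd xd2 yd59 zd41) (kd xd2 yd59 zd40) (kd xd2 yd25 zd54) (kd xd2 yd22 zd44) (kd xd4 yd34 zd43) (kd xd2 yd3 zd16) (kd xd6 yd7 zd13) (kd xd5 yd2 zd18) (kd xd6 yd6 zd51) (kd xd6 yd7 zd20) (kd xd2 yd29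 zd19) (kd xd5 yd2 zd24) (kd xd4 yd39 zd31) (kd xd5 yd7 zd49) (kd xd1 yd25 zd40) (kd xd6 yd7 zd29) (kd xd1 yd25 zd44) (kd xd6 yd7 zd31) (kd xd6 yd7 zd33) (kd xd6 yd7 zd35) (kd xd1 yd25 zd45) (kd xd2 yd13 zd42))
def f_d_3 : D2 → D3 → Pt := @D2.rec (fun _ => D3 → Pt) (@D3.rec (fun _ => Pt) (kd xd6 yd7 zd41) (kd xd1 yd25 zd47) (kd xd6 yd7 zd45) (kd xd6 yd7 zd48) (kd xd1 yd25 zd49) (kd xd5 yd57 zd46) (kd xd6 yd7 zd50) (kd xd1 yd25 zd50) (kd xd2 yd48 zd0) (kd xd6 yd7 zd52) (kd xd6 yd7 zd54) (kd xd1 yd25 zd51) (kd xd6 yd7 zd58) (kd xd1 yd25 zd52) (kd xd2 yd55 zd25) (kd xd6 yd8 zd4) (kd xd1 yd26 zd9) (kd xd1 yd25 zd54) (kd xd5 yd42 zd21) (kd xd2 yd0 zd55) (kd xd6 yd8 zd13) (kd xd2 yd0 zd57) (kd xd4 yd39 zd15) (kd xd2 yd40 zd0) (kd xd6 yd8 zd24) (kd xd2 yd18 zd9) (kd xd2 yd16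 zd33) (kd xd1 yd26 zd13) (kd xd5 yd42 zd22) (kd xd5 yd42 zd50) (kd xd6 yd8 zd32) (kd xd6 yd8 zd33) (kd xd4 yd48 zd50) (kd xd5 yd43 zd55) (kd xd1 yd26 zd3) (kd xd1 yd26 zd7) (kd xd4 yd46 zd42) (kd xd4 yd46 zd43) (kd xd1 yd26 zd8) (kd xd6 yd8 zd41) (kd xd6 yd8 zd45) (kd xd6 yd8 zd49) (kd xd6 yd8 zd9) (kd xd2 yd48 zd3) (kd xd6 yd8 zd52) (kd xd1 yd26 zd10) (kd xd6 yd8 zd55) (kd xd1 yd26 zd11) (kd xd1 yd36 zd49) (kd xd6 yd8 zd59) (kd xd1 yd26 zd12) (kd xd6 yd2 zd2) (kd xd6 yd9 zd1) (kd xd1 yd26 zd14) (kd xd2 yd16 zd40) (kd xd2 yd13 zd34) (kd xd1 yd26 zd15) (kd xd5 yd46 zd59) (kd xd1 yd26 zd17) (kd xd6 yd9 zd13) (kd xd1 yd26 zd19) (kd xd6 yd9 zd17)) (@D3.rec (fun _ => Pt) (kd xd1 yd26 zd20) (kd xd2 yd26 zd22) (kd xd1 yd26 zd24) (kd xd3 yd22 zd13) (kd xd1 yd26 zd26) (kd xd3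 yd43 zd8) (kd xd4 yd10 zd31) (kd xd1 yd26 zd27) (kd xd6 yd9 zd22) (kd xd1 yd26 zd28) (kd xd6 yd9 zd27) (kd xd3 yd22 zd20) (kd xd1 yd26 zd32) (kd xd6 yd9 zd32) (kd xd1 yd26 zd34) (kd xd1 yd26 zd35) (kd xd6 yd9 zd35) (kd xd1 yd26 zd36) (kd xd3 yd8 zd6) (kd xd1 yd34 zd9) (kd xd6 yd9 zd44) (kd xd4 yd50 zd23) (kd xd1 yd41 zd47) (kd xd6 yd9 zd52) (kd xd1 yd26 zd40) (kd xd4 yd18 zd12) (kd xd1 yd26 zd42) (kd xd6 yd9 zd56) (kd xd6 yd9 zd39) (kd xd6 yd9 zd57) (kd xd1 yd26 zd45) (kd xd6 yd9 zd60) (kd xd1 yd50 zd14) (kd xd1 yd26 zd47) (kd xd3 yd35 zd60) (kd xd1 yd26 zd48) (kd xd6 yd10 zd2) (kd xd1 yd26 zd50) (kd xd4 yd10 zd33) (kd xd3 yd35 zd23) (kd xd1 yd26 zd53) (kd xd6 yd10 zd7) (kd xd6 yd10 zd11) (kd xd1 yd26 zd56) (kd xd5 yd11 zd20) (kd xd6 yd10 zd18) (kd xd6 yd10 zd20) (kd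 xd1 yd34 zd57) (kd xd6 yd10 zd24) (kd xd4 yd38 zd31) (kd xd1 yd26 zd59) (kd xd1 yd33 zd3) (kd xd2 yd31 zd22) (kd xd3 yd1 zd53) (kd xd6 yd10 zd32) (kd xd1 yd26 zd61) (kd xd6 yd10 zd35) (kd xd3 yd16 zd55) (kd xd3 yd1 zd58) (kd xd6 yd10 zd43) (kd xd1 yd27 zd1) (kd xd6 yd10 zd46)) (@D3.rec (fun _ => Pt) (kd xd2 yd19 zd11) (kd xd1 yd27 zd2) (kd xd6 yd10 zd49) (kd xd4 yd38 zd7) (kd xd4 yd38 zd8) (kd xd6 yd10 zd55) (kd xd1 yd27 zd3) (kd xd6 yd10 zd61) (kd xd6 yd11 zd3) (kd xd1 yd27 zd6) (kd xd5 yd13 zd18) (kd xd2 yd30 zd4) (kd xd1 yd27 zd5) (kd xd5 yd11 zd19) (kd xd6 yd11 zd15) (kd xd1 yd27 zd7) (kd xd6 yd11 zd20) (kd xd6 yd11 zd23) (kd xd6 yd11 zd26) (kd xd6 yd11 zd30) (kd xd1 yd27 zd8) (kd xd6 yd11 zd34) (kd xd6 yd11 zd36) (kd xd6 yd11 zd38) (kd xd6 yd11 zd41) (kd xd1 yd27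 zd10) (kd xd6 yd11 zd44) (kd xd1 yd27 zd11) (kd xd6 yd11 zd49) (kd xd5 yd42 zd52) (kd xd6 yd11 zd53) (kd xd6 yd11 zd57) (kd xd1 yd27 zd14) (kd xd6 yd12 zd0) (kd xd6 yd12 zd2) (kd xd1 yd27 zd15) (kd xd6 yd12 zd5) (kd xd1 yd27 zd16) (kd xd6 yd2 zd33) (kd xd3 yd20 zd52) (kd xd2 yd22 zd28) (kd xd4 yd49 zd40) (kd xd1 yd27 zd18) (kd xd1 yd36 zd52) (kd xd4 yd40 zd45) (kd xd6 yd7 zd60) (kd xd1 yd27 zd19) (kd xd4 yd50 zd13) (kd xd6 yd12 zd28) (kd xd1 yd27 zd20) (kd xd3 yd59 zd14) (kd xd1 yd36 zd27) (kd xd1 yd59 zd58) (kd xd4 yd48 zd30) (kd xd3 yd22 zd0) (kd xd1 yd37 zd20) (kd xd1 yd37 zd4) (kd xd4 yd40 zd21) (kd xd6 yd12 zd37) (kd xd6 yd12 zd39) (kd xd6 yd12 zd40) (kd xd1 yd27 zd24)) (@D3.rec (fun _ => Pt) (kd xd5 yd50 zd32) (kd xd5 yd0 zd22) (kd xd2 yd21 zd58) (kd xd1 yd27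 zd26) (kd xd4 yd48 zd3) (kd xd1 yd27 zd27) (kd xd6 yd12 zd47) (kd xd1 yd27 zd28) (kd xd6 yd12 zd50) (kd xd1 yd27 zd29) (kd xd4 yd48 zd29) (kd xd3 yd19 zd31) (kd xd2 yd22 zd51) (kd xd6 yd13 zd0) (kd xd2 yd23 zd0) (kd xd5 yd47 zd23) (kd xd4 yd26 zd37) (kd xd6 yd13 zd4) (kd xd6 yd13 zd6) (kd xd6 yd13 zd7) (kd xd1 yd27 zd33) (kd xd6 yd13 zd11) (kd xd6 yd13 zd13) (kd xd6 yd13 zd14) (kd xd5 yd29 zd15) (kd xd5 yd47 zd28) (kd xd6 yd13 zd16) (kd xd6 yd13 zd18) (kd xd6 yd13 zd21) (kd xd6 yd13 zd24) (kd xd1 yd27 zd39) (kd xd6 yd13 zd28) (kd xd4 yd57 zd61) (kd xd1 yd27 zd41) (kd xd1 yd27 zd43) (kd xd6 yd13 zd31) (kd xd4 yd24 zd29) (kd xd1 yd27 zd46) (kd xd6 yd13 zd36) (kd xd1 yd27 zd48) (kd xd6 yd13 zd41) (kd xd1 yd27 zd49) (kd xd4 yd25 zd22) (kd xd4 yd25 zd23) (kd xd6 yd13 zd48)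 (kd xd1 yd27 zd51) (kd xd3 yd39 zd28) (kd xd1 yd46 zd13) (kd xd5 yd0 zd29) (kd xd1 yd27 zd57) (kd xd6 yd13 zd59) (kd xd1 yd27 zd59) (kd xd6 yd14 zd2) (kd xd6 yd14 zd4) (kd xd1 yd27 zd60) (kd xd1 yd57 zd16) (kd xd6 yd14 zd7) (kd xd4 yd0 zd49) (kd xd4 yd0 zd50) (kd xd5 yd43 zd56) (kd xd1 yd28 zd1) (kd xd4 yd2 zd24)) (@D3.rec (fun _ => Pt) (kd xd4 yd26 zd36) (kd xd6 yd14 zd15) (kd xd1 yd28 zd3) (kd xd6 yd14 zd20) (kd xd6 yd14 zd24) (kd xd1 yd28 zd5) (kd xd6 yd14 zd28) (kd xd4 yd58 zd56) (kd xd1 yd28 zd6) (kd xd6 yd14 zd31) (kd xd1 yd28 zd7) (kd xd6 yd14 zd36) (kd xd1 yd28 zd8) (kd xd1 yd46 zd11) (kd xd6 yd14 zd40) (kd xd6 yd14 zd44) (kd xd3 yd33 zd27) (kd xd3 yd33 zd26) (kd xd1 yd28 zd10) (kd xd3 yd39 zd22) (kd xd6 yd14 zd50) (kd xd6 yd14 zd53) (kd xd1 yd28 zd11) (kd xd6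 yd14 zd58) (kd xd1 yd28 zd12) (kd xd4 yd25 zd35) (kd xd6 yd14 zd61) (kd xd1 yd28 zd13) (kd xd6 yd15 zd2) (kd xd3 yd10 zd9) (kd xd2 yd30 zd40) (kd xd6 yd15 zd6) (kd xd1 yd28 zd15) (kd xd1 yd28 zd16) (kd xd4 yd58 zd8) (kd xd6 yd15 zd9) (kd xd1 yd28 zd18) (kd xd6 yd15 zd12) (kd xd1 yd28 zd20) (kd xd6 yd15 zd15) (kd xd1 yd28 zd21) (kd xd6 yd15 zd16) (kd xd6 yd15 zd17) (kd xd3 yd24 zd0) (kd xd6 yd15 zd19) (kd xd6 yd15 zd21) (kd xd6 yd15 zd24) (kd xd6 yd15 zd27) (kd xd6 yd15 zd31) (kd xd1 yd28 zd27) (kd xd5 yd40 zd54) (kd xd5 yd39 zd59) (kd xd1 yd28 zd31) (kd xd6 yd15 zd37) (kd xd5 yd53 zd29) (kd xd5 yd53 zd30) (kd xd6 yd15 zd38) (kd xd1 yd28 zd32) (kd xd6 yd15 zd43) (kd xd3 yd23 zd31) (kd xd6 yd15 zd49) (kd xd4 yd33 zd10)) (@D3.rec (fun _ => Pt) (kd xd1 yd28 zd34) (kd xd6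 yd15 zd54) (kd xd6 yd15 zd55) (kd xd1 yd28 zd35) (kd xd2 yd53 zd53) (kd xd1 yd28 zd36) (kd xd6 yd16 zd1) (kd xd6 yd16 zd3) (kd xd6 yd16 zd6) (kd xd6 yd16 zd8) (kd xd1 yd28 zd38) (kd xd6 yd16 zd12) (kd xd6 yd16 zd13) (kd xd6 yd16 zd16) (kd xd1 yd28 zd39) (kd xd6 yd16 zd20) (kd xd6 yd16 zd21) (kd xd3 yd49 zd6) (kd xd1 yd28 zd40) (kd xd6 yd16 zd26) (kd xd3 yd36 zd31) (kd xd1 yd28 zd41) (kd xd6 yd16 zd31) (kd xd4 yd32 zd39) (kd xd4 yd32 zd40) (kd xd6 yd16 zd41) (kd xd1 yd28 zd43) (kd xd4 yd32 zd7) (kd xd5 yd13 zd33) (kd xd2 yd33 zd40) (kd xd2 yd33 zd41) (kd xd2 yd51 zd13) (kd xd6 yd16 zd54) (kd xd1 yd28 zd46) (kd xd1 yd31 zd23) (kd xd4 yd42 zd61) (kd xd1 yd44 zd43) (kd xd2 yd8 zd55) (kd xd6 yd16 zd61) (kd xd6 yd17 zd0) (kd xd1 yd28 zd51) (kd xd2 yd40 zd51) (kd xd6 yd17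 zd7) (kd xd6 yd17 zd8) (kd xd1 yd28 zd55) (kd xd5 yd52 zd38) (kd xd2 yd51 zd16) (kd xd5 yd36 zd19) (kd xd1 yd28 zd59) (kd xd6 yd17 zd16) (kd xd1 yd28 zd61) (kd xd6 yd17 zd18) (kd xd1 yd29 zd0) (kd xd4 yd40 zd39) (kd xd4 yd47 zd60) (kd xd1 yd29 zd2) (kd xd1 yd29 zd3) (kd xd6 yd17 zd28) (kd xd6 yd17 zd32) (kd xd6 yd17 zd34) (kd xd1 yd29 zd4) (kd xd4 yd47 zd59)) (@D3.rec (fun _ => Pt) (kd xd6 yd17 zd37) (kd xd1 yd29 zd5) (kd xd1 yd30 zd55) (kd xd6 yd17 zd45) (kd xd6 yd17 zd47) (kd xd1 yd29 zd7) (kd xd6 yd17 zd50) (kd xd1 yd29 zd8) (kd xd3 yd19 zd61) (kd xd4 yd44 zd61) (kd xd1 yd37 zd18) (kd xd6 yd17 zd59) (kd xd1 yd29 zd10) (kd xd1 yd37 zd32) (kd xd1 yd29 zd12) (kd xd6 yd18 zd2) (kd xd6 yd18 zd4) (kd xd6 yd18 zd6) (kd xd1 yd29 zd14) (kd xd3 yd42 zd33) (kd xd6 yd18 zd9)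 (kd xd6 yd18 zd11) (kd xd1 yd29 zd17) (kd xd6 yd18 zd14) (kd xd6 yd18 zd18) (kd xd1 yd29 zd19) (kd xd6 yd18 zd22) (kd xd6 yd18 zd24) (kd xd1 yd29 zd21) (kd xd6 yd18 zd29) (kd xd6 yd18 zd33) (kd xd6 yd18 zd36) (kd xd1 yd29 zd22) (kd xd6 yd18 zd40) (kd xd4 yd10 zd30) (kd xd1 yd29 zd23) (kd xd1 yd29 zd24) (kd xd1 yd30 zd37) (kd xd6 yd18 zd48) (kd xd3 yd8 zd32) (kd xd1 yd29 zd26) (kd xd1 yd29 zd38) (kd xd5 yd30 zd56) (kd xd1 yd29 zd27) (kd xd3 yd11 zd12) (kd xd3 yd24 zd16) (kd xd6 yd18 zd54) (kd xd1 yd29 zd29) (kd xd3 yd9 zd17) (kd xd1 yd29 zd31) (kd xd6 yd18 zd60) (kd xd1 yd29 zd33) (kd xd3 yd30 zd6) (kd xd1 yd37 zd60) (kd xd1 yd29 zd35) (kd xd3 yd59 zd18) (kd xd6 yd19 zd2) (kd xd6 yd19 zd5) (kd xd1 yd38 zd13) (kd xd3 yd12 zd11) (kd xd1 yd29 zd37) (kd xd3 yd8 zd21)) (@D3.rec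 (fun _ => Pt) (kd xd6 yd19 zd11) (kd xd6 yd19 zd13) (kd xd1 yd29 zd42) (kd xd6 yd19 zd16) (kd xd3 yd9 zd39) (kd xd1 yd29 zd44) (kd xd5 yd14 zd47) (kd xd6 yd19 zd21) (kd xd5 yd30 zd57) (kd xd1 yd29 zd46) (kd xd4 yd17 zd57) (kd xd3 yd7 zd33) (kd xd3 yd17 zd29) (kd xd1 yd29 zd51) (kd xd6 yd19 zd31) (kd xd3 yd12 zd12) (kd xd3 yd7 zd38) (kd xd6 yd19 zd36) (kd xd1 yd29 zd53) (kd xd6 yd19 zd41) (kd xd6 yd19 zd45) (kd xd2 yd41 zd43) (kd xd1 yd29 zd54) (kd xd2 yd3 zd4) (kd xd4 yd43 zd24) (kd xd4 yd43 zd22) (kd xd3 yd35 zd25) (kd xd6 yd19 zd49) (kd xd3 yd17 zd36) (kd xd6 yd19 zd53) (kd xd1 yd29 zd61) (kd xd1 yd32 zd30) (kd xd6 yd19 zd58) (kd xd3 yd7 zd11) (kd xd3 yd45 zd31) (kd xd1 yd30 zd1) (kd xd6 yd20 zd3) (kd xd1 yd38 zd22) (kd xd3 yd7 zd16) (kd xd6 yd20 zd11) (kd xd1 yd30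 zd3) (kd xd6 yd20 zd14) (kd xd4 yd37 zd13) (kd xd1 yd30 zd4) (kd xd6 yd20 zd19) (kd xd2 yd19 zd49) (kd xd2 yd19 zd50) (kd xd6 yd20 zd26) (kd xd5 yd39 zd37) (kd xd6 yd20 zd32) (kd xd1 yd30 zd6) (kd xd6 yd20 zd35) (kd xd6 yd20 zd39) (kd xd6 yd20 zd42) (kd xd1 yd30 zd7) (kd xd3 yd12 zd5) (kd xd6 yd20 zd47) (kd xd6 yd20 zd49) (kd xd1 yd30 zd8) (kd xd3 yd12 zd23) (kd xd6 yd19 zd14) (kd xd6 yd20 zd52)) (@D3.rec (fun _ => Pt) (kd xd1 yd30 zd11) (kd xd6 yd19 zd17) (kd xd3 yd35 zd20) (kd xd4 yd18 zd30) (kd xd6 yd20 zd54) (kd xd1 yd30 zd14) (kd xd3 yd1 zd18) (kd xd1 yd30 zd15) (kd xd3 yd8 zd8) (kd xd2 yd19 zd23) (kd xd2 yd19 zd15) (kd xd5 yd2 zd16) (kd xd6 yd21 zd5) (kd xd6 yd21 zd6) (kd xd6 yd18 zd25) (kd xd1 yd30 zd21) (kd xd6 yd21 zd10) (kd xd6 yd21 zd13) (kd xd1 yd30 zd22)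 (kd xd6 yd21 zd17) (kd xd4 yd43 zd52) (kd xd3 yd6 zd61) (kd xd6 yd21 zd20) (kd xd1 yd30 zd24) (kd xd6 yd21 zd23) (kd xd6 yd21 zd25) (kd xd6 yd21 zd28) (kd xd1 yd30 zd25) (kd xd2 yd19 zd44) (kd xd6 yd21 zd38) (kd xd1 yd30 zd26) (kd xd2 yd52 zd42) (kd xd3 yd6 zd39) (kd xd3 yd10 zd38) (kd xd6 yd21 zd47) (kd xd2 yd19 zd45) (kd xd3 yd13 zd2) (kd xd6 yd21 zd50) (kd xd6 yd21 zd52) (kd xd6 yd21 zd56) (kd xd1 yd30 zd29) (kd xd6 yd22 zd0) (kd xd6 yd16 zd4) (kd xd1 yd30 zd30) (kd xd6 yd22 zd6) (kd xd6 yd22 zd8) (kd xd4 yd13 zd17) (kd xd1 yd30 zd32) (kd xd3 yd45 zd28) (kd xd6 yd22 zd14) (kd xd1 yd30 zd33) (kd xd3 yd13 zd20) (kd xd6 yd22 zd18) (kd xd6 yd22 zd20) (kd xd6 yd22 zd22) (kd xd6 yd22 zd26) (kd xd1 yd30 zd35) (kd xd6 yd22 zd31) (kd xd4 yd11 zd37) (kd xd1 yd30 zd38) (kd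 xd1 yd32 zd15) (kd xd6 yd22 zd38)) (@D3.rec (fun _ => Pt) (kd xd1 yd50 zd23) (kd xd4 yd42 zd16) (kd xd5 yd2 zd43) (kd xd1 yd31 zd43) (kd xd1 yd30 zd42) (kd xd1 yd30 zd43) (kd xd1 yd32 zd10) (kd xd6 yd22 zd54) (kd xd3 yd9 zd8) (kd xd4 yd42 zd20) (kd xd6 yd23 zd3) (kd xd6 yd23 zd6) (kd xd6 yd21 zd18) (kd xd3 yd9 zd13) (kd xd1 yd37 zd49) (kd xd6 yd23 zd13) (kd xd1 yd38 zd14) (kd xd3 yd6 zd48) (kd xd6 yd23 zd22) (kd xd3 yd13 zd15) (kd xd3 yd12 zd43) (kd xd1 yd38 zd28) (kd xd6 yd23 zd29) (kd xd6 yd23 zd34) (kd xd6 yd23 zd36) (kd xd1 yd30 zd50) (kd xd1 yd32 zd19) (kd xd6 yd22 zd30) (kd xd6 yd23 zd46) (kd xd4 yd11 zd42) (kd xd4 yd11 zd43) (kd xd3 yd14 zd47) (kd xd6 yd23 zd52) (kd xd1 yd30 zd56) (kd xd6 yd23 zd57) (kd xd1 yd34 zd6) (kd xd3 yd35 zd21) (kd xd5 yd2 zd39) (kd xd2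 yd17 zd11) (kd xd3 yd7 zd4) (kd xd2 yd6 zd22) (kd xd1 yd30 zd61) (kd xd6 yd24 zd7) (kd xd3 yd9 zd43) (kd xd4 yd42 zd30) (kd xd3 yd24 zd12) (kd xd6 yd24 zd18) (kd xd4 yd50 zd12) (kd xd3 yd9 zd48) (kd xd4 yd4 zd58) (kd xd6 yd24 zd24) (kd xd5 yd51 zd7) (kd xd1 yd31 zd4) (kd xd6 yd24 zd29) (kd xd6 yd24 zd31) (kd xd1 yd31 zd5) (kd xd6 yd24 zd35) (kd xd1 yd31 zd6) (kd xd6 yd24 zd39) (kd xd6 yd24 zd43) (kd xd6 yd24 zd45) (kd xd1 yd31 zd8)) (@D3.rec (fun _ => Pt) (kd xd6 yd24 zd48) (kd xd6 yd24 zd51) (kd xd1 yd31 zd9) (kd xd6 yd24 zd55) (kd xd1 yd31 zd10) (kd xd1 yd56 zd51) (kd xd1 yd49 zd3) (kd xd1 yd31 zd12) (kd xd1 yd31 zd13) (kd xd3 yd4 zd29) (kd xd5 yd55 zd31) (kd xd4 yd26 zd13) (kd xd1 yd31 zd15) (kd xd3 yd17 zd45) (kd xd5 yd13 zd29) (kd xd1 yd31 zd18) (kd xd6 yd25 zd14)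 (kd xd6 yd25 zd16) (kd xd6 yd25 zd19) (kd xd1 yd31 zd20) (kd xd5 yd41 zd1) (kd xd2 yd48 zd33) (kd xd6 yd16 zd55) (kd xd4 yd41 zd38) (kd xd4 yd58 zd31) (kd xd2 yd24 zd15) (kd xd2 yd50 zd46) (kd xd1 yd31 zd28) (kd xd3 yd39 zd27) (kd xd6 yd25 zd36) (kd xd1 yd47 zd11) (kd xd1 yd31 zd33) (kd xd4 yd11 zd39) (kd xd3 yd13 zd18) (kd xd2 yd19 zd31) (kd xd1 yd31 zd37) (kd xd4 yd11 zd16) (kd xd1 yd31 zd39) (kd xd3 yd8 zd33) (kd xd5 yd3 zd60) (kd xd2 yd29 zd25) (kd xd5 yd51 zd54) (kd xd5 yd51 zd53) (kd xd4 yd36 zd47) (kd xd6 yd25 zd53) (kd xd5 yd14 zd49) (kd xd5 yd55 zd20) (kd xd6 yd12 zd3) (kd xd1 yd37 zd50) (kd xd2 yd15 zd0) (kd xd2 yd14 zd61) (kd xd4 yd39 zd12) (kd xd3 yd13 zd17) (kd xd5 yd11 zd2) (kd xd1 yd31 zd52) (kd xd2 yd2 zd29) (kd xd6 yd26 zd11) (kd xd1 yd31 zd53) (kd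 xd2 yd18 zd2) (kd xd5 yd11 zd6) (kd xd1 yd31 zd55) (kd xd1 yd31 zd56)) (@D3.rec (fun _ => Pt) (kd xd5 yd11 zd9) (kd xd1 yd39 zd5) (kd xd5 yd2 zd44) (kd xd5 yd2 zd40) (kd xd5 yd11 zd1) (kd xd5 yd11 zd5) (kd xd4 yd18 zd21) (kd xd6 yd26 zd27) (kd xd6 yd26 zd29) (kd xd1 yd31 zd61) (kd xd6 yd26 zd35) (kd xd1 yd32 zd0) (kd xd3 yd6 zd44) (kd xd4 yd43 zd50) (kd xd6 yd26 zd42) (kd xd6 yd26 zd44) (kd xd6 yd26 zd46) (kd xd6 yd26 zd49) (kd xd1 yd32 zd2) (kd xd6 yd26 zd54) (kd xd6 yd26 zd57) (kd xd1 yd32 zd3) (kd xd6 yd26 zd61) (kd xd6 yd27 zd1) (kd xd1 yd32 zd5) (kd xd6 yd27 zd5) (kd xd5 yd42 zd19) (kd xd1 yd32 zd6) (kd xd4 yd12 zd47) (kd xd3 yd12 zd60) (kd xd6 yd27 zd13) (kd xd3 yd13 zd4) (kd xd5 yd40 zd52) (kd xd6 yd27 zd18) (kd xd6 yd27 zd23) (kd xd1 yd32 zd8) (kd xd6 yd27 zd27)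 (kd xd4 yd18 zd17) (kd xd6 yd27 zd28) (kd xd1 yd32 zd11) (kd xd1 yd44 zd21) (kd xd1 yd40 zd54) (kd xd6 yd27 zd39) (kd xd1 yd32 zd53) (kd xd3 yd11 zd53) (kd xd6 yd27 zd48) (kd xd2 yd17 zd61) (kd xd2 yd18 zd13) (kd xd1 yd32 zd56) (kd xd1 yd32 zd16) (kd xd2 yd17 zd59) (kd xd2 yd18 zd29) (kd xd6 yd27 zd58) (kd xd3 yd11 zd44) (kd xd4 yd43 zd40) (kd xd4 yd43 zd41) (kd xd6 yd23 zd25) (kd xd4 yd13 zd16) (kd xd6 yd28 zd8) (kd xd3 yd11 zd59) (kd xd6 yd20 zd53) (kd xd1 yd32 zd25)) (@D3.rec (fun _ => Pt) (kd xd1 yd32 zd26) (kd xd6 yd9 zd58) (kd xd1 yd32 zd28) (kd xd5 yd55 zd23) (kd xd2 yd36 zd4) (kd xd3 yd7 zd55) (kd xd4 yd43 zd5) (kd xd2 yd34 zd11) (kd xd1 yd34 zd50) (kd xd1 yd32 zd35) (kd xd6 yd23 zd1) (kd xd3 yd6 zd59) (kd xd3 yd7 zd15) (kd xd3 yd24 zd10) (kd xd2 yd17 zd7) (kd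 xd4 yd45 zd43) (kd xd6 yd28 zd36) (kd xd6 yd28 zd40) (kd xd1 yd32 zd38) (kd xd6 yd28 zd45) (kd xd5 yd39 zd52) (kd xd5 yd39 zd49) (kd xd1 yd32 zd39) (kd xd3 yd7 zd59) (kd xd6 yd28 zd54) (kd xd1 yd32 zd40) (kd xd6 yd28 zd57) (kd xd2 yd16 zd4) (kd xd1 yd32 zd41) (kd xd6 yd29 zd1) (kd xd6 yd29 zd4) (kd xd6 yd29 zd8) (kd xd6 yd29 zd11) (kd xd1 yd32 zd44) (kd xd4 yd17 zd36) (kd xd6 yd18 zd26) (kd xd3 yd22 zd35) (kd xd1 yd32 zd46) (kd xd6 yd29 zd26) (kd xd6 yd11 zd7) (kd xd6 yd11 zd9) (kd xd3 yd22 zd44) (kd xd1 yd32 zd48) (kd xd3 yd9 zd20) (kd xd1 yd32 zd49) (kd xd4 yd42 zd2) (kd xd3 yd24 zd43) (kd xd6 yd27 zd30) (kd xd1 yd32 zd52) (kd xd6 yd29 zd42) (kd xd6 yd29 zd45) (kd xd6 yd29 zd48) (kd xd6 yd27 zd43) (kd xd1 yd32 zd54) (kd xd4 yd42 zd3) (kd xd1 yd32 zd55) (kd xd4 yd43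 zd27) (kd xd6 yd29 zd52) (kd xd6 yd29 zd55) (kd xd1 yd32 zd57) (kd xd3 yd11 zd29) (kd xd2 yd42 zd31)) (@D3.rec (fun _ => Pt) (kd xd2 yd42 zd32) (kd xd1 yd38 zd27) (kd xd3 yd8 zd36) (kd xd4 yd35 zd2) (kd xd3 yd11 zd31) (kd xd4 yd43 zd28) (kd xd2 yd19 zd32) (kd xd3 yd13 zd7) (kd xd6 yd30 zd8) (kd xd6 yd30 zd11) (kd xd1 yd32 zd61) (kd xd6 yd30 zd18) (kd xd6 yd30 zd22) (kd xd1 yd33 zd0) (kd xd5 yd0 zd13) (kd xd3 yd9 zd19) (kd xd1 yd33 zd2) (kd xd3 yd10 zd52) (kd xd3 yd10 zd33) (kd xd6 yd26 zd16) (kd xd3 yd8 zd51) (kd xd3 yd20 zd16) (kd xd1 yd33 zd7) (kd xd4 yd34 zd37) (kd xd2 yd18 zd24) (kd xd1 yd49 zd43) (kd xd6 yd30 zd39) (kd xd1 yd33 zd10) (kd xd4 yd49 zd51) (kd xd4 yd47 zd36) (kd xd6 yd12 zd55) (kd xd6 yd30 zd43) (kd xd1 yd33 zd20) (kd xd6 yd30 zd46) (kd xd6 yd30 zd48)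 (kd xd4 yd37 zd26) (kd xd1 yd33 zd21) (kd xd6 yd30 zd55) (kd xd6 yd30 zd58) (kd xd1 yd33 zd22) (kd xd6 yd30 zd61) (kd xd1 yd33 zd23) (kd xd6 yd31 zd4) (kd xd6 yd31 zd6) (kd xd2 yd55 zd40) (kd xd5 yd44 zd1) (kd xd1 yd33 zd26) (kd xd2 yd30 zd31) (kd xd3 yd44 zd10) (kd xd6 yd31 zd14) (kd xd6 yd31 zd16) (kd xd3 yd19 zd15) (kd xd3 yd42 zd59) (kd xd6 yd30 zd52) (kd xd6 yd30 zd53) (kd xd6 yd31 zd23) (kd xd1 yd33 zd31) (kd xd6 yd7 zd56) (kd xd2 yd55 zd36) (kd xd3 yd19 zd20) (kd xd6 yd1 zd12) (kd xd1 yd33 zd34)) (@D3.rec (fun _ => Pt) (kd xd6 yd1 zd4) (kd xd6 yd31 zd41) (kd xd1 yd33 zd35) (kd xd6 yd31 zd44) (kd xd6 yd31 zd48) (kd xd1 yd33 zd36) (kd xd6 yd31 zd51) (kd xd6 yd31 zd55) (kd xd1 yd33 zd37) (kd xd6 yd31 zd58) (kd xd1 yd35 zd60) (kd xd1 yd35 zd61) (kd xd6 yd32 zd3)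 (kd xd6 yd32 zd6) (kd xd6 yd32 zd8) (kd xd1 yd33 zd39) (kd xd6 yd32 zd13) (kd xd6 yd32 zd14) (kd xd6 yd32 zd17) (kd xd1 yd33 zd40) (kd xd6 yd32 zd22) (kd xd6 yd32 zd25) (kd xd1 yd33 zd41) (kd xd6 yd32 zd28) (kd xd6 yd32 zd30) (kd xd1 yd33 zd43) (kd xd3 yd20 zd7) (kd xd2 yd54 zd58) (kd xd3 yd20 zd8) (kd xd2 yd22 zd11) (kd xd6 yd32 zd36) (kd xd1 yd33 zd46) (kd xd6 yd32 zd39) (kd xd2 yd54 zd59) (kd xd1 yd33 zd48) (kd xd6 yd9 zd31) (kd xd3 yd48 zd11) (kd xd3 yd48 zd12) (kd xd6 yd32 zd47) (kd xd6 yd32 zd49) (kd xd6 yd32 zd51) (kd xd1 yd33 zd53) (kd xd6 yd32 zd55) (kd xd1 yd33 zd54) (kd xd6 yd32 zd58) (kd xd1 yd33 zd55) (kd xd1 yd33 zd56) (kd xd3 yd9 zd31) (kd xd6 yd33 zd6) (kd xd6 yd33 zd9) (kd xd1 yd33 zd58) (kd xd3 yd44 zd54) (kd xd3 yd44 zd55) (kd xd6 yd33 zd14) (kd xd6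 yd33 zd17) (kd xd1 yd33 zd60) (kd xd3 yd19 zd34) (kd xd6 yd33 zd20) (kd xd3 yd18 zd26) (kd xd3 yd27 zd1) (kd xd1 yd34 zd0) (kd xd6 yd33 zd28)) (@D3.rec (fun _ => Pt) (kd xd3 yd47 zd0) (kd xd6 yd33 zd30) (kd xd6 yd33 zd32) (kd xd1 yd36 zd17) (kd xd4 yd44 zd60) (kd xd6 yd33 zd37) (kd xd3 yd16 zd59) (kd xd1 yd52 zd32) (kd xd6 yd33 zd42) (kd xd4 yd17 zd33) (kd xd6 yd33 zd47) (kd xd1 yd34 zd14) (kd xd6 yd33 zd50) (kd xd6 yd33 zd52) (kd xd6 yd33 zd53) (kd xd4 yd44 zd27) (kd xd5 yd56 zd1) (kd xd1 yd34 zd18) (kd xd6 yd33 zd60) (kd xd6 yd33 zd61) (kd xd1 yd34 zd22) (kd xd3 yd15 zd21) (kd xd3 yd25 zd24) (kd xd1 yd52 zd28) (kd xd6 yd34 zd9) (kd xd6 yd34 zd10) (kd xd3 yd15 zd26) (kd xd6 yd34 zd14) (kd xd1 yd34 zd29) (kd xd6 yd34 zd17) (kd xd6 yd28 zd50) (kd xd1 yd34 zd30) (kd xd6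 yd34 zd21) (kd xd4 yd35 zd21) (kd xd4 yd38 zd30) (kd xd6 yd34 zd28) (kd xd1 yd34 zd61) (kd xd1 yd35 zd0) (kd xd6 yd34 zd34) (kd xd6 yd34 zd36) (kd xd6 yd34 zd39) (kd xd1 yd34 zd33) (kd xd6 yd34 zd45) (kd xd1 yd34 zd34) (kd xd3 yd17 zd24) (kd xd4 yd17 zd51) (kd xd6 yd34 zd53) (kd xd1 yd34 zd37) (kd xd1 yd52 zd30) (kd xd1 yd42 zd48) (kd xd6 yd34 zd57) (kd xd6 yd34 zd59) (kd xd6 yd2 zd17) (kd xd1 yd34 zd41) (kd xd6 yd35 zd6) (kd xd6 yd35 zd9) (kd xd1 yd34 zd43) (kd xd6 yd28 zd22) (kd xd4 yd11 zd19) (kd xd6 yd35 zd15) (kd xd1 yd34 zd45) (kd xd6 yd35 zd20)) (@D3.rec (fun _ => Pt) (kd xd6 yd35 zd23) (kd xd1 yd34 zd46) (kd xd4 yd11 zd15) (kd xd6 yd29 zd22) (kd xd2 yd54 zd40) (kd xd1 yd34 zd48) (kd xd6 yd35 zd30) (kd xd1 yd34 zd49) (kd xd6 yd35 zd34) (kd xd6 yd35 zd35) (kd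 xd6 yd28 zd39) (kd xd1 yd34 zd51) (kd xd6 yd35 zd41) (kd xd6 yd35 zd44) (kd xd6 yd35 zd48) (kd xd6 yd35 zd50) (kd xd1 yd34 zd52) (kd xd6 yd35 zd57) (kd xd6 yd35 zd61) (kd xd6 yd36 zd1) (kd xd6 yd36 zd3) (kd xd1 yd34 zd54) (kd xd6 yd36 zd8) (kd xd3 yd18 zd31) (kd xd6 yd36 zd11) (kd xd1 yd34 zd55) (kd xd6 yd36 zd14) (kd xd3 yd18 zd29) (kd xd6 yd29 zd21) (kd xd6 yd36 zd19) (kd xd6 yd21 zd8) (kd xd6 yd24 zd27) (kd xd1 yd34 zd59) (kd xd6 yd36 zd28) (kd xd6 yd36 zd31) (kd xd6 yd36 zd33) (kd xd1 yd34 zd60) (kd xd6 yd36 zd36) (kd xd6 yd34 zd29) (kd xd6 yd36 zd40) (kd xd6 yd20 zd7) (kd xd6 yd36 zd43) (kd xd4 yd38 zd28) (kd xd2 yd54 zd39) (kd xd1 yd35 zd1) (kd xd6 yd36 zd50) (kd xd1 yd49 zd51) (kd xd1 yd49 zd49) (kd xd6 yd36 zd58) (kd xd6 yd36 zd61) (kd xd6 yd37 zd2) (kd xd1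 yd35 zd3) (kd xd6 yd37 zd6) (kd xd6 yd37 zd8) (kd xd1 yd35 zd4) (kd xd3 yd1 zd57) (kd xd6 yd37 zd13) (kd xd1 yd35 zd5) (kd xd6 yd37 zd16) (kd xd3 yd15 zd6) (kd xd6 yd37 zd21) (kd xd1 yd35 zd7)) (@D3.rec (fun _ => Pt) (kd xd6 yd28 zd23) (kd xd4 yd17 zd35) (kd xd6 yd37 zd28) (kd xd1 yd35 zd9) (kd xd6 yd37 zd32) (kd xd6 yd37 zd34) (kd xd1 yd35 zd10) (kd xd2 yd2 zd43) (kd xd6 yd35 zd0) (kd xd6 yd35 zd1) (kd xd6 yd37 zd38) (kd xd1 yd35 zd11) (kd xd6 yd37 zd45) (kd xd6 yd37 zd49) (kd xd6 yd37 zd52) (kd xd6 yd37 zd53) (kd xd1 yd35 zd13) (kd xd6 yd37 zd58) (kd xd6 yd37 zd59) (kd xd1 yd35 zd14) (kd xd6 yd38 zd2) (kd xd1 yd35 zd15) (kd xd6 yd11 zd16) (kd xd6 yd38 zd6) (kd xd3 yd15 zd44) (kd xd6 yd38 zd11) (kd xd1 yd35 zd17) (kd xd6 yd38 zd15) (kd xd6 yd38 zd19) (kd xd3 yd7 zd12)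 (kd xd3 yd47 zd22) (kd xd1 yd35 zd18) (kd xd6 yd38 zd27) (kd xd6 yd38 zd31) (kd xd1 yd35 zd20) (kd xd6 yd38 zd36) (kd xd3 yd7 zd28) (kd xd6 yd38 zd41) (kd xd6 yd38 zd45) (kd xd1 yd35 zd23) (kd xd6 yd38 zd50) (kd xd6 yd38 zd53) (kd xd4 yd34 zd23) (kd xd1 yd35 zd24) (kd xd6 yd38 zd60) (kd xd3 yd10 zd13) (kd xd1 yd35 zd25) (kd xd6 yd39 zd4) (kd xd1 yd35 zd26) (kd xd6 yd39 zd9) (kd xd4 yd39 zd58) (kd xd4 yd39 zd59) (kd xd4 yd26 zd8) (kd xd6 yd39 zd20) (kd xd6 yd39 zd24) (kd xd6 yd39 zd28) (kd xd1 yd35 zd28) (kd xd6 yd39 zd33) (kd xd1 yd49 zd53) (kd xd6 yd39 zd38) (kd xd6 yd39 zd42) (kd xd1 yd49 zd20)) (@D3.rec (fun _ => Pt) (kd xd6 yd39 zd49) (kd xd6 yd39 zd52) (kd xd6 yd39 zd54) (kd xd1 yd35 zd32) (kd xd6 yd39 zd59) (kd xd6 yd40 zd1) (kd xd6 yd40 zd5) (kd xd6 yd40 zd7)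 (kd xd1 yd35 zd34) (kd xd5 yd4 zd3) (kd xd6 yd40 zd15) (kd xd6 yd40 zd17) (kd xd1 yd35 zd35) (kd xd6 yd40 zd21) (kd xd6 yd29 zd29) (kd xd6 yd29 zd32) (kd xd6 yd40 zd32) (kd xd1 yd35 zd37) (kd xd6 yd40 zd35) (kd xd6 yd40 zd37) (kd xd6 yd40 zd39) (kd xd1 yd35 zd38) (kd xd6 yd40 zd44) (kd xd6 yd40 zd46) (kd xd6 yd40 zd49) (kd xd1 yd35 zd40) (kd xd3 yd14 zd58) (kd xd6 yd40 zd55) (kd xd5 yd16 zd41) (kd xd3 yd16 zd27) (kd xd6 yd11 zd25) (kd xd3 yd16 zd23) (kd xd6 yd23 zd4) (kd xd1 yd35 zd42) (kd xd6 yd40 zd59) (kd xd6 yd41 zd4) (kd xd1 yd35 zd43) (kd xd6 yd41 zd9) (kd xd6 yd41 zd12) (kd xd2 yd20 zd11) (kd xd1 yd35 zd45) (kd xd1 yd35 zd46) (kd xd6 yd41 zd15) (kd xd1 yd35 zd47) (kd xd6 yd41 zd19) (kd xd1 yd35 zd48) (kd xd6 yd11 zd24) (kd xd6 yd10 zd19) (kd xd6 yd41 zd28) (kd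 xd1 yd35 zd50) (kd xd6 yd41 zd34) (kd xd6 yd41 zd35) (kd xd6 yd41 zd36) (kd xd6 yd41 zd38) (kd xd6 yd41 zd41) (kd xd6 yd41 zd46) (kd xd1 yd35 zd57) (kd xd3 yd55 zd7) (kd xd6 yd41 zd56) (kd xd6 yd41 zd59) (kd xd5 yd39 zd53) (kd xd1 yd35 zd59)) (@D3.rec (fun _ => Pt) (kd xd4 yd52 zd34) (kd xd6 yd31 zd60) (kd xd6 yd42 zd6) (kd xd6 yd32 zd0) (kd xd4 yd7 zd7) (kd xd1 yd48 zd44) (kd xd1 yd48 zd45) (kd xd6 yd42 zd16) (kd xd6 yd42 zd20) (kd xd6 yd42 zd23) (kd xd1 yd36 zd1) (kd xd6 yd42 zd26) (kd xd5 yd39 zd55) (kd xd5 yd33 zd31) (kd xd1 yd36 zd2) (kd xd3 yd13 zd51) (kd xd6 yd42 zd35) (kd xd6 yd42 zd37) (kd xd1 yd36 zd3) (kd xd6 yd42 zd40) (kd xd3 yd13 zd59) (kd xd6 yd42 zd46) (kd xd1 yd36 zd5) (kd xd6 yd42 zd48) (kd xd1 yd36 zd6) (kd xd2 yd20 zd9) (kd xd4 yd41 zd17) (kd xd6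 yd22 zd27) (kd xd2 yd20 zd13) (kd xd6 yd22 zd28) (kd xd6 yd42 zd55) (kd xd3 yd3 zd11) (kd xd1 yd36 zd10) (kd xd4 yd48 zd37) (kd xd3 yd14 zd56) (kd xd1 yd36 zd11) (kd xd6 yd42 zd59) (kd xd6 yd42 zd61) (kd xd6 yd43 zd3) (kd xd1 yd36 zd13) (kd xd6 yd43 zd8) (kd xd4 yd48 zd41) (kd xd6 yd43 zd12) (kd xd1 yd36 zd15) (kd xd6 yd43 zd16) (kd xd1 yd36 zd16) (kd xd1 yd50 zd26) (kd xd6 yd43 zd22) (kd xd6 yd43 zd23) (kd xd2 yd20 zd6) (kd xd6 yd43 zd27) (kd xd6 yd43 zd30) (kd xd6 yd43 zd32) (kd xd1 yd36 zd20) (kd xd6 yd43 zd36) (kd xd6 yd43 zd38) (kd xd1 yd36 zd21) (kd xd6 yd43 zd42) (kd xd6 yd43 zd45) (kd xd6 yd43 zd49) (kd xd1 yd36 zd23) (kd xd3 yd6 zd8)) (@D3.rec (fun _ => Pt) (kd xd4 yd41 zd8) (kd xd6 yd27 zd25) (kd xd5 yd17 zd52) (kd xd1 yd36 zd25) (kd xd6 yd27 zd26) (kd xd1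 yd36 zd28) (kd xd4 yd50 zd21) (kd xd3 yd14 zd26) (kd xd3 yd14 zd28) (kd xd6 yd43 zd60) (kd xd6 yd44 zd1) (kd xd6 yd44 zd6) (kd xd1 yd36 zd30) (kd xd6 yd44 zd11) (kd xd3 yd22 zd29) (kd xd2 yd51 zd42) (kd xd3 yd13 zd21) (kd xd4 yd38 zd44) (kd xd6 yd20 zd15) (kd xd6 yd20 zd16) (kd xd1 yd36 zd33) (kd xd6 yd44 zd28) (kd xd6 yd44 zd30) (kd xd6 yd2 zd16) (kd xd6 yd44 zd32) (kd xd1 yd36 zd35) (kd xd6 yd44 zd38) (kd xd6 yd44 zd40) (kd xd1 yd36 zd36) (kd xd6 yd44 zd44) (kd xd5 yd6 zd27) (kd xd6 yd44 zd49) (kd xd6 yd6 zd41) (kd xd6 yd44 zd53) (kd xd6 yd44 zd55) (kd xd1 yd36 zd38) (kd xd6 yd44 zd60) (kd xd2 yd40 zd54) (kd xd6 yd45 zd2) (kd xd1 yd36 zd39) (kd xd6 yd45 zd6) (kd xd6 yd45 zd11) (kd xd2 yd39 zd53) (kd xd6 yd45 zd14) (kd xd6 yd24 zd15) (kd xd1 yd36 zd42) (kd xd6 yd45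 zd23) (kd xd2 yd53 zd61) (kd xd6 yd45 zd29) (kd xd6 yd12 zd12) (kd xd6 yd45 zd36) (kd xd1 yd36 zd44) (kd xd3 yd2 zd39) (kd xd6 yd45 zd40) (kd xd6 yd45 zd42) (kd xd6 yd45 zd44) (kd xd1 yd36 zd45) (kd xd5 yd32 zd51) (kd xd6 yd12 zd9) (kd xd5 yd32 zd52) (kd xd4 yd36 zd33) (kd xd4 yd30 zd3)) (@D3.rec (fun _ => Pt) (kd xd6 yd45 zd55) (kd xd6 yd12 zd6) (kd xd1 yd36 zd48) (kd xd5 yd49 zd56) (kd xd6 yd8 zd56) (kd xd6 yd12 zd4) (kd xd6 yd2 zd45) (kd xd6 yd12 zd42) (kd xd6 yd12 zd31) (kd xd6 yd46 zd11) (kd xd1 yd36 zd50) (kd xd4 yd40 zd61) (kd xd4 yd33 zd52) (kd xd2 yd30 zd32) (kd xd5 yd14 zd13) (kd xd1 yd36 zd53) (kd xd4 yd7 zd10) (kd xd5 yd14 zd17) (kd xd3 yd25 zd32) (kd xd5 yd58 zd33) (kd xd6 yd46 zd22) (kd xd2 yd22 zd45) (kd xd6 yd12 zd23) (kd xd6 yd46 zd29) (kd xd1 yd36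 zd57) (kd xd2 yd32 zd17) (kd xd5 yd37 zd48) (kd xd2 yd52 zd15) (kd xd6 yd27 zd2) (kd xd6 yd12 zd15) (kd xd6 yd46 zd43) (kd xd6 yd12 zd30) (kd xd1 yd36 zd60) (kd xd6 yd46 zd48) (kd xd6 yd46 zd50) (kd xd1 yd37 zd0) (kd xd5 yd40 zd38) (kd xd1 yd37 zd1) (kd xd4 yd29 zd61) (kd xd6 yd46 zd57) (kd xd6 yd46 zd59) (kd xd4 yd45 zd27) (kd xd6 yd47 zd1) (kd xd6 yd47 zd4) (kd xd1 yd37 zd6) (kd xd6 yd47 zd12) (kd xd6 yd47 zd15) (kd xd2 yd20 zd10) (kd xd4 yd6 zd59) (kd xd6 yd5 zd36) (kd xd1 yd37 zd9) (kd xd6 yd47 zd26) (kd xd6 yd12 zd14) (kd xd6 yd47 zd30) (kd xd1 yd37 zd11) (kd xd2 yd42 zd34) (kd xd6 yd47 zd35) (kd xd1 yd37 zd12) (kd xd5 yd45 zd48) (kd xd6 yd47 zd38) (kd xd1 yd37 zd16) (kd xd6 yd17 zd54)) (@D3.rec (fun _ => Pt) (kd xd3 yd2 zd54) (kd xd6 yd40 zd16) (kd xd6 yd17 zd56)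 (kd xd5 yd4 zd18) (kd xd6 yd12 zd27) (kd xd6 yd10 zd47) (kd xd4 yd42 zd33) (kd xd4 yd41 zd3) (kd xd6 yd47 zd53) (kd xd6 yd47 zd55) (kd xd6 yd47 zd58) (kd xd6 yd48 zd0) (kd xd1 yd37 zd22) (kd xd3 yd1 zd3) (kd xd1 yd43 zd54) (kd xd6 yd48 zd9) (kd xd3 yd22 zd25) (kd xd1 yd37 zd43) (kd xd6 yd48 zd18) (kd xd3 yd22 zd24) (kd xd3 yd1 zd11) (kd xd6 yd43 zd7) (kd xd4 yd48 zd35) (kd xd6 yd48 zd30) (kd xd3 yd22 zd19) (kd xd3 yd22 zd16) (kd xd6 yd48 zd39) (kd xd6 yd48 zd42) (kd xd6 yd48 zd46) (kd xd3 yd20 zd14) (kd xd2 yd19 zd36) (kd xd6 yd48 zd50) (kd xd6 yd48 zd54) (kd xd6 yd48 zd58) (kd xd6 yd18 zd1) (kd xd3 yd12 zd36) (kd xd6 yd49 zd0) (kd xd6 yd27 zd52) (kd xd6 yd49 zd3) (kd xd6 yd18 zd44) (kd xd1 yd37 zd36) (kd xd6 yd49 zd5) (kd xd6 yd26 zd53) (kd xd3 yd23 zd47) (kd xd3 yd12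 zd41) (kd xd3 yd24 zd11) (kd xd1 yd37 zd42) (kd xd6 yd41 zd29) (kd xd6 yd49 zd11) (kd xd4 yd50 zd19) (kd xd6 yd42 zd43) (kd xd1 yd37 zd47) (kd xd1 yd40 zd16) (kd xd6 yd23 zd9) (kd xd5 yd55 zd16) (kd xd6 yd49 zd21) (kd xd6 yd49 zd23) (kd xd3 yd22 zd57) (kd xd6 yd49 zd26) (kd xd6 yd25 zd58) (kd xd1 yd37 zd54) (kd xd6 yd49 zd30)) (@D3.rec (fun _ => Pt) (kd xd1 yd40 zd53) (kd xd2 yd55 zd34) (kd xd6 yd27 zd35) (kd xd2 yd53 zd59) (kd xd6 yd49 zd35) (kd xd3 yd55 zd48) (kd xd3 yd50 zd61) (kd xd6 yd8 zd2) (kd xd3 yd40 zd27) (kd xd3 yd23 zd50) (kd xd6 yd19 zd1) (kd xd6 yd49 zd44) (kd xd5 yd59 zd34) (kd xd6 yd1 zd25) (kd xd1 yd38 zd0) (kd xd6 yd49 zd52) (kd xd6 yd49 zd55) (kd xd1 yd38 zd1) (kd xd6 yd49 zd58) (kd xd1 yd41 zd1) (kd xd3 yd27 zd9) (kd xd6 yd50 zd0) (kd xd6 yd50 zd4)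 (kd xd1 yd38 zd3) (kd xd6 yd50 zd8) (kd xd6 yd50 zd10) (kd xd1 yd38 zd4) (kd xd6 yd50 zd13) (kd xd5 yd50 zd38) (kd xd1 yd38 zd5) (kd xd5 yd50 zd36) (kd xd3 yd4 zd59) (kd xd1 yd38 zd6) (kd xd6 yd50 zd22) (kd xd6 yd30 zd32) (kd xd2 yd52 zd13) (kd xd6 yd50 zd26) (kd xd1 yd38 zd7) (kd xd6 yd50 zd33) (kd xd1 yd39 zd25) (kd xd1 yd39 zd40) (kd xd6 yd50 zd39) (kd xd1 yd38 zd10) (kd xd6 yd50 zd42) (kd xd1 yd38 zd9) (kd xd4 yd58 zd49) (kd xd6 yd50 zd44) (kd xd3 yd22 zd43) (kd xd6 yd50 zd45) (kd xd1 yd38 zd11) (kd xd3 yd23 zd9) (kd xd4 yd47 zd0) (kd xd5 yd7 zd5) (kd xd1 yd38 zd12) (kd xd6 yd30 zd14) (kd xd6 yd23 zd17) (kd xd6 yd50 zd53) (kd xd6 yd50 zd56) (kd xd1 yd38 zd15) (kd xd1 yd38 zd16) (kd xd6 yd50 zd60) (kd xd4 yd59 zd32)) (@D3.rec (fun _ => Pt) (kd xd3 yd4 zd43) (kd xd6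 yd51 zd2) (kd xd6 yd51 zd4) (kd xd6 yd51 zd5) (kd xd6 yd51 zd8) (kd xd6 yd51 zd12) (kd xd1 yd38 zd20) (kd xd4 yd41 zd7) (kd xd4 yd7 zd23) (kd xd6 yd51 zd18) (kd xd3 yd12 zd13) (kd xd3 yd22 zd45) (kd xd3 yd9 zd45) (kd xd4 yd40 zd60) (kd xd2 yd3 zd56) (kd xd1 yd38 zd29) (kd xd3 yd6 zd45) (kd xd1 yd38 zd30) (kd xd1 yd38 zd32) (kd xd6 yd12 zd53) (kd xd6 yd9 zd21) (kd xd1 yd38 zd34) (kd xd6 yd51 zd26) (kd xd1 yd38 zd36) (kd xd6 yd51 zd28) (kd xd1 yd38 zd38) (kd xd6 yd51 zd31) (kd xd6 yd51 zd32) (kd xd1 yd38 zd40) (kd xd6 yd51 zd36) (kd xd3 yd54 zd43) (kd xd3 yd31 zd16) (kd xd1 yd39 zd52) (kd xd3 yd26 zd31) (kd xd2 yd50 zd15) (kd xd1 yd38 zd42) (kd xd6 yd51 zd45) (kd xd3 yd24 zd37) (kd xd6 yd51 zd46) (kd xd1 yd38 zd45) (kd xd6 yd51 zd50) (kd xd3 yd50 zd58) (kd xd6 yd51 zd54)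 (kd xd3 yd12 zd46) (kd xd6 yd51 zd57) (kd xd6 yd51 zd59) (kd xd6 yd52 zd0) (kd xd1 yd38 zd49) (kd xd6 yd52 zd5) (kd xd6 yd52 zd6) (kd xd6 yd52 zd10) (kd xd1 yd38 zd50) (kd xd3 yd54 zd1) (kd xd6 yd52 zd14) (kd xd6 yd52 zd17) (kd xd1 yd38 zd51) (kd xd3 yd35 zd3) (kd xd6 yd52 zd20) (kd xd1 yd38 zd53) (kd xd1 yd51 zd32) (kd xd6 yd52 zd24) (kd xd1 yd38 zd56)) (@D3.rec (fun _ => Pt) (kd xd6 yd22 zd15) (kd xd1 yd38 zd59) (kd xd6 yd52 zd28) (kd xd6 yd26 zd18) (kd xd6 yd52 zd30) (kd xd3 yd42 zd34) (kd xd1 yd39 zd3) (kd xd6 yd52 zd32) (kd xd1 yd39 zd4) (kd xd6 yd52 zd34) (kd xd6 yd52 zd36) (kd xd6 yd52 zd38) (kd xd6 yd52 zd40) (kd xd1 yd39 zd7) (kd xd3 yd40 zd0) (kd xd1 yd48 zd3) (kd xd1 yd39 zd13) (kd xd6 yd52 zd48) (kd xd6 yd52 zd50) (kd xd6 yd52 zd52) (kd xd6 yd52 zd54) (kd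 xd6 yd52 zd56) (kd xd1 yd39 zd17) (kd xd6 yd52 zd60) (kd xd3 yd15 zd22) (kd xd3 yd39 zd15) (kd xd3 yd56 zd50) (kd xd6 yd53 zd2) (kd xd3 yd25 zd28) (kd xd2 yd56 zd53) (kd xd1 yd39 zd23) (kd xd2 yd55 zd5) (kd xd3 yd21 zd18) (kd xd6 yd50 zd34) (kd xd6 yd53 zd7) (kd xd1 yd39 zd26) (kd xd6 yd53 zd10) (kd xd1 yd39 zd27) (kd xd6 yd53 zd11) (kd xd2 yd14 zd32) (kd xd2 yd51 zd48) (kd xd2 yd50 zd14) (kd xd1 yd39 zd28) (kd xd6 yd53 zd20) (kd xd1 yd39 zd54) (kd xd1 yd39 zd55) (kd xd6 yd53 zd26) (kd xd6 yd53 zd29) (kd xd6 yd53 zd31) (kd xd1 yd39 zd30) (kd xd6 yd53 zd36) (kd xd6 yd53 zd38) (kd xd1 yd39 zd31) (kd xd3 yd26 zd58) (kd xd3 yd35 zd31) (kd xd1 yd43 zd56) (kd xd6 yd53 zd42) (kd xd6 yd53 zd47) (kd xd1 yd39 zd37) (kd xd6 yd53 zd51) (kd xd1 yd48 zd12) (kd xd1 yd42 zd4)) (@D3.rec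 (fun _ => Pt) (kd xd2 yd53 zd7) (kd xd6 yd48 zd4) (kd xd6 yd53 zd57) (kd xd6 yd53 zd59) (kd xd1 yd39 zd43) (kd xd6 yd54 zd3) (kd xd6 yd54 zd5) (kd xd6 yd54 zd8) (kd xd6 yd54 zd11) (kd xd1 yd39 zd45) (kd xd6 yd54 zd17) (kd xd3 yd27 zd39) (kd xd1 yd39 zd47) (kd xd6 yd54 zd22) (kd xd6 yd54 zd25) (kd xd1 yd39 zd49) (kd xd6 yd54 zd29) (kd xd6 yd54 zd30) (kd xd6 yd54 zd33) (kd xd1 yd39 zd50) (kd xd6 yd54 zd35) (kd xd6 yd54 zd36) (kd xd6 yd54 zd38) (kd xd1 yd51 zd38) (kd xd6 yd53 zd22) (kd xd6 yd54 zd43) (kd xd6 yd54 zd44) (kd xd2 yd14 zd14) (kd xd2 yd50 zd5) (kd xd4 yd34 zd52) (kd xd6 yd54 zd51) (kd xd3 yd24 zd33) (kd xd6 yd54 zd55) (kd xd6 yd54 zd58) (kd xd6 yd54 zd60) (kd xd1 yd39 zd58) (kd xd6 yd55 zd3) (kd xd6 yd55 zd5) (kd xd1 yd39 zd59) (kd xd6 yd55 zd8) (kd xd6 yd55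 zd13) (kd xd1 yd40 zd0) (kd xd6 yd55 zd16) (kd xd1 yd51 zd5) (kd xd1 yd51 zd11) (kd xd1 yd40 zd1) (kd xd6 yd55 zd21) (kd xd6 yd53 zd61) (kd xd5 yd51 zd20) (kd xd1 yd40 zd2) (kd xd6 yd55 zd27) (kd xd6 yd55 zd31) (kd xd6 yd55 zd34) (kd xd6 yd55 zd36) (kd xd1 yd40 zd4) (kd xd6 yd55 zd41) (kd xd6 yd55 zd43) (kd xd6 yd52 zd12) (kd xd3 yd25 zd53) (kd xd6 yd55 zd50) (kd xd1 yd40 zd7) (kd xd6 yd32 zd54)) (@D3.rec (fun _ => Pt) (kd xd6 yd32 zd53) (kd xd3 yd14 zd59) (kd xd4 yd24 zd1) (kd xd1 yd40 zd8) (kd xd6 yd56 zd3) (kd xd1 yd41 zd44) (kd xd6 yd56 zd8) (kd xd1 yd40 zd10) (kd xd6 yd56 zd12) (kd xd3 yd23 zd20) (kd xd3 yd28 zd34) (kd xd2 yd20 zd4) (kd xd6 yd56 zd19) (kd xd6 yd56 zd23) (kd xd1 yd40 zd13) (kd xd6 yd56 zd28) (kd xd3 yd30 zd3) (kd xd6 yd56 zd33) (kd xd6 yd56 zd35)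 (kd xd6 yd49 zd16) (kd xd6 yd56 zd42) (kd xd1 yd40 zd17) (kd xd6 yd56 zd49) (kd xd1 yd40 zd18) (kd xd6 yd56 zd55) (kd xd6 yd56 zd59) (kd xd1 yd40 zd19) (kd xd6 yd57 zd1) (kd xd6 yd57 zd4) (kd xd6 yd57 zd8) (kd xd6 yd57 zd13) (kd xd1 yd40 zd21) (kd xd3 yd32 zd34) (kd xd1 yd40 zd22) (kd xd1 yd52 zd44) (kd xd6 yd57 zd21) (kd xd6 yd57 zd24) (kd xd1 yd40 zd23) (kd xd6 yd57 zd30) (kd xd3 yd26 zd11) (kd xd6 yd57 zd35) (kd xd1 yd44 zd26) (kd xd3 yd35 zd34) (kd xd6 yd57 zd37) (kd xd6 yd57 zd40) (kd xd1 yd40 zd26) (kd xd3 yd35 zd17) (kd xd6 yd57 zd48) (kd xd1 yd40 zd27) (kd xd6 yd57 zd53) (kd xd6 yd57 zd55) (kd xd1 yd40 zd30) (kd xd1 yd40 zd32) (kd xd1 yd43 zd52) (kd xd6 yd57 zd60) (kd xd6 yd58 zd0) (kd xd6 yd58 zd2) (kd xd6 yd58 zd5) (kd xd1 yd40 zd34) (kd xd6 yd58 zd9) (kd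 xd6 yd58 zd11) (kd xd1 yd40 zd36)) (@D3.rec (fun _ => Pt) (kd xd1 yd40 zd41) (kd xd6 yd58 zd15) (kd xd1 yd40 zd37) (kd xd6 yd58 zd21) (kd xd3 yd31 zd6) (kd xd6 yd58 zd24) (kd xd6 yd52 zd22) (kd xd6 yd58 zd27) (kd xd6 yd58 zd29) (kd xd1 yd55 zd9) (kd xd6 yd58 zd32) (kd xd1 yd40 zd42) (kd xd6 yd58 zd39) (kd xd1 yd47 zd18) (kd xd1 yd54 zd61) (kd xd3 yd50 zd13) (kd xd6 yd58 zd46) (kd xd3 yd39 zd3) (kd xd3 yd38 zd23) (kd xd1 yd43 zd20) (kd xd6 yd41 zd49) (kd xd1 yd40 zd48) (kd xd1 yd40 zd49) (kd xd6 yd58 zd53) (kd xd1 yd49 zd27) (kd xd1 yd40 zd52) (kd xd6 yd52 zd46) (kd xd6 yd27 zd33) (kd xd1 yd40 zd56) (kd xd1 yd45 zd61) (kd xd3 yd44 zd23) (kd xd1 yd40 zd58) (kd xd6 yd58 zd59) (kd xd1 yd40 zd60) (kd xd3 yd27 zd10) (kd xd6 yd59 zd2) (kd xd6 yd59 zd4) (kd xd1 yd41 zd0) (kd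 xd4 yd11 zd56) (kd xd6 yd59 zd5) (kd xd6 yd59 zd6) (kd xd1 yd41 zd2) (kd xd6 yd59 zd8) (kd xd3 yd53 zd37) (kd xd1 yd41 zd4) (kd xd1 yd41 zd5) (kd xd1 yd41 zd7) (kd xd6 yd59 zd11) (kd xd6 yd59 zd13) (kd xd6 yd59 zd18) (kd xd1 yd41 zd8) (kd xd6 yd59 zd22) (kd xd1 yd41 zd10) (kd xd1 yd43 zd13) (kd xd6 yd59 zd24) (kd xd6 yd59 zd25) (kd xd1 yd41 zd12) (kd xd6 yd59 zd29) (kd xd6 yd59 zd31) (kd xd6 yd59 zd20) (kd xd6 yd59 zd37) (kd xd1 yd41 zd14)) (@D3.rec (fun _ => Pt) (kd xd6 yd39 zd44) (kd xd6 yd39 zd45) (kd xd6 yd56 zd5) (kd xd1 yd41 zd15) (kd xd6 yd59 zd53) (kd xd6 yd59 zd57) (kd xd6 yd59 zd60) (kd xd7 yd0 zd1) (kd xd1 yd41 zd17) (kd xd7 yd0 zd4) (kd xd7 yd0 zd5) (kd xd7 yd0 zd9) (kd xd1 yd41 zd18) (kd xd1 yd43 zd49) (kd xd7 yd0 zd12) (kd xd7 yd0 zd13) (kd xd1 yd41 zd19)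 (kd xd1 yd43 zd53) (kd xd2 yd19 zd55) (kd xd1 yd45 zd58) (kd xd3 yd48 zd38) (kd xd7 yd0 zd20) (kd xd3 yd48 zd40) (kd xd7 yd0 zd23) (kd xd7 yd0 zd26) (kd xd1 yd43 zd23) (kd xd1 yd50 zd36) (kd xd7 yd0 zd33) (kd xd7 yd0 zd35) (kd xd1 yd41 zd28) (kd xd3 yd29 zd30) (kd xd7 yd0 zd43) (kd xd1 yd41 zd30) (kd xd7 yd0 zd46) (kd xd3 yd53 zd10) (kd xd3 yd53 zd11) (kd xd3 yd29 zd36) (kd xd3 yd49 zd22) (kd xd3 yd49 zd23) (kd xd4 yd47 zd47) (kd xd1 yd41 zd32) (kd xd7 yd0 zd56) (kd xd7 yd0 zd60) (kd xd7 yd1 zd1) (kd xd7 yd1 zd4) (kd xd1 yd41 zd34) (kd xd7 yd1 zd9) (kd xd7 yd1 zd11) (kd xd1 yd44 zd58) (kd xd3 yd45 zd13) (kd xd3 yd50 zd4) (kd xd7 yd1 zd18) (kd xd7 yd1 zd20) (kd xd1 yd41 zd37) (kd xd7 yd1 zd26) (kd xd7 yd1 zd29) (kd xd1 yd41 zd39) (kd xd3 yd50 zd32) (kd xd3 yd50 zd33)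 (kd xd2 yd50 zd12) (kd xd1 yd41 zd40) (kd xd7 yd1 zd39)) (@D3.rec (fun _ => Pt) (kd xd7 yd1 zd43) (kd xd1 yd41 zd42) (kd xd7 yd1 zd48) (kd xd3 yd27 zd16) (kd xd7 yd1 zd52) (kd xd7 yd1 zd55) (kd xd3 yd6 zd52) (kd xd2 yd56 zd38) (kd xd7 yd1 zd59) (kd xd7 yd2 zd0) (kd xd1 yd41 zd46) (kd xd7 yd2 zd5) (kd xd6 yd9 zd48) (kd xd6 yd10 zd39) (kd xd7 yd2 zd11) (kd xd7 yd2 zd15) (kd xd1 yd41 zd48) (kd xd7 yd2 zd20) (kd xd7 yd2 zd24) (kd xd7 yd2 zd28) (kd xd7 yd2 zd31) (kd xd1 yd41 zd50) (kd xd7 yd2 zd38) (kd xd7 yd2 zd43) (kd xd7 yd2 zd45) (kd xd1 yd41 zd51) (kd xd7 yd2 zd48) (kd xd3 yd52 zd3) (kd xd3 yd47 zd53) (kd xd7 yd2 zd58) (kd xd1 yd41 zd53) (kd xd7 yd2 zd61) (kd xd7 yd3 zd1) (kd xd7 yd3 zd4) (kd xd1 yd41 zd54) (kd xd1 yd52 zd55) (kd xd7 yd3 zd9) (kd xd7 yd3 zd12) (kd xd1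 yd41 zd55) (kd xd7 yd3 zd18) (kd xd7 yd3 zd21) (kd xd7 yd3 zd22) (kd xd1 yd41 zd56) (kd xd7 yd3 zd29) (kd xd1 yd51 zd52) (kd xd7 yd3 zd34) (kd xd1 yd43 zd8) (kd xd1 yd42 zd12) (kd xd1 yd41 zd58) (kd xd1 yd53 zd22) (kd xd1 yd53 zd6) (kd xd7 yd3 zd37) (kd xd7 yd3 zd40) (kd xd1 yd41 zd59) (kd xd7 yd3 zd46) (kd xd7 yd3 zd49) (kd xd1 yd41 zd60) (kd xd7 yd3 zd54) (kd xd7 yd3 zd56) (kd xd1 yd42 zd0) (kd xd7 yd3 zd58) (kd xd7 yd3 zd60)) (@D3.rec (fun _ => Pt) (kd xd1 yd42 zd2) (kd xd3 yd38 zd59) (kd xd7 yd4 zd1) (kd xd1 yd43 zd7) (kd xd1 yd42 zd5) (kd xd7 yd4 zd5) (kd xd3 yd28 zd4) (kd xd3 yd39 zd41) (kd xd3 yd39 zd42) (kd xd1 yd42 zd7) (kd xd3 yd31 zd33) (kd xd3 yd31 zd32) (kd xd1 yd47 zd4) (kd xd7 yd4 zd14) (kd xd7 yd4 zd17) (kd xd1 yd42 zd9) (kd xd3 yd24 zd31) (kd xd3 yd41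 zd55) (kd xd7 yd4 zd21) (kd xd1 yd53 zd37) (kd xd7 yd4 zd23) (kd xd7 yd4 zd24) (kd xd7 yd4 zd26) (kd xd7 yd4 zd28) (kd xd1 yd42 zd16) (kd xd3 yd34 zd61) (kd xd7 yd4 zd33) (kd xd7 yd4 zd34) (kd xd1 yd42 zd17) (kd xd7 yd4 zd41) (kd xd1 yd54 zd57) (kd xd7 yd4 zd45) (kd xd3 yd31 zd11) (kd xd3 yd31 zd10) (kd xd1 yd55 zd4) (kd xd1 yd42 zd20) (kd xd1 yd53 zd3) (kd xd7 yd4 zd52) (kd xd7 yd4 zd54) (kd xd1 yd42 zd25) (kd xd3 yd54 zd34) (kd xd7 yd4 zd58) (kd xd7 yd4 zd59) (kd xd1 yd42 zd26) (kd xd7 yd5 zd4) (kd xd1 yd54 zd55) (kd xd1 yd54 zd19) (kd xd7 yd5 zd9) (kd xd1 yd45 zd50) (kd xd1 yd42 zd28) (kd xd1 yd42 zd32) (kd xd1 yd42 zd33) (kd xd7 yd5 zd15) (kd xd7 yd5 zd17) (kd xd1 yd42 zd36) (kd xd7 yd5 zd19) (kd xd1 yd43 zd58) (kd xd7 yd5 zd21) (kd xd3 yd44 zd22) (kd xd1 yd42 zd39)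 (kd xd3 yd49 zd11) (kd xd3 yd37 zd43)) (@D3.rec (fun _ => Pt) (kd xd1 yd42 zd41) (kd xd3 yd38 zd4) (kd xd1 yd42 zd42) (kd xd7 yd4 zd47) (kd xd3 yd45 zd3) (kd xd1 yd42 zd43) (kd xd1 yd53 zd17) (kd xd1 yd42 zd44) (kd xd7 yd5 zd31) (kd xd1 yd42 zd46) (kd xd7 yd5 zd32) (kd xd1 yd42 zd47) (kd xd3 yd36 zd42) (kd xd1 yd43 zd55) (kd xd5 yd42 zd46) (kd xd1 yd42 zd50) (kd xd7 yd5 zd35) (kd xd4 yd23 zd6) (kd xd4 yd20 zd9) (kd xd3 yd57 zd40) (kd xd1 yd43 zd16) (kd xd7 yd5 zd44) (kd xd7 yd5 zd46) (kd xd1 yd42 zd53) (kd xd7 yd5 zd51) (kd xd7 yd5 zd53) (kd xd1 yd42 zd54) (kd xd1 yd43 zd2) (kd xd7 yd5 zd57) (kd xd3 yd34 zd49) (kd xd7 yd0 zd37) (kd xd7 yd0 zd38) (kd xd7 yd6 zd2) (kd xd1 yd42 zd58) (kd xd3 yd27 zd32) (kd xd5 yd42 zd47) (kd xd4 yd24 zd3) (kd xd1 yd42 zd61) (kd xd7 yd6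 zd7) (kd xd7 yd6 zd9) (kd xd7 yd6 zd11) (kd xd1 yd43 zd1) (kd xd7 yd6 zd16) (kd xd7 yd6 zd18) (kd xd3 yd34 zd8) (kd xd7 yd6 zd22) (kd xd1 yd43 zd4) (kd xd7 yd6 zd28) (kd xd7 yd6 zd32) (kd xd7 yd6 zd35) (kd xd7 yd6 zd37) (kd xd1 yd43 zd6) (kd xd7 yd6 zd42) (kd xd7 yd6 zd45) (kd xd7 yd3 zd16) (kd xd7 yd6 zd47) (kd xd7 yd6 zd49) (kd xd7 yd6 zd51) (kd xd7 yd6 zd53) (kd xd7 yd6 zd58) (kd xd1 yd43 zd14) (kd xd3 yd40 zd61)) (@D3.rec (fun _ => Pt) (kd xd1 yd49 zd32) (kd xd1 yd43 zd15) (kd xd3 yd53 zd25) (kd xd7 yd7 zd0) (kd xd4 yd57 zd0) (kd xd1 yd43 zd17) (kd xd7 yd7 zd4) (kd xd1 yd44 zd42) (kd xd7 yd7 zd10) (kd xd7 yd7 zd13) (kd xd7 yd7 zd16) (kd xd1 yd43 zd19) (kd xd7 yd7 zd20) (kd xd7 yd7 zd22) (kd xd1 yd49 zd24) (kd xd3 yd49 zd49) (kd xd7 yd7 zd27) (kd xd7 yd0 zd27) (kd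 xd7 yd7 zd32) (kd xd4 yd24 zd2) (kd xd2 yd47 zd22) (kd xd1 yd43 zd25) (kd xd7 yd7 zd37) (kd xd7 yd7 zd40) (kd xd7 yd7 zd42) (kd xd1 yd43 zd27) (kd xd3 yd4 zd17) (kd xd3 yd4 zd16) (kd xd4 yd32 zd34) (kd xd6 yd43 zd19) (kd xd1 yd43 zd28) (kd xd7 yd7 zd55) (kd xd7 yd7 zd59) (kd xd1 yd43 zd30) (kd xd7 yd8 zd1) (kd xd2 yd17 zd55) (kd xd6 yd25 zd29) (kd xd1 yd43 zd31) (kd xd7 yd8 zd6) (kd xd7 yd8 zd9) (kd xd1 yd43 zd33) (kd xd1 yd46 zd38) (kd xd7 yd8 zd14) (kd xd1 yd44 zd61) (kd xd7 yd8 zd19) (kd xd7 yd8 zd23) (kd xd7 yd8 zd26) (kd xd1 yd43 zd37) (kd xd7 yd8 zd30) (kd xd7 yd8 zd34) (kd xd7 yd8 zd37) (kd xd1 yd43 zd38) (kd xd7 yd8 zd43) (kd xd7 yd8 zd47) (kd xd7 yd8 zd49) (kd xd1 yd43 zd39) (kd xd7 yd8 zd53) (kd xd7 yd8 zd57) (kd xd7 yd8 zd61) (kd xd7 yd9 zd4) (kd xd1 yd43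 zd41) (kd xd1 yd54 zd17)) (@D3.rec (fun _ => Pt) (kd xd7 yd9 zd7) (kd xd7 yd9 zd10) (kd xd1 yd43 zd42) (kd xd3 yd38 zd21) (kd xd7 yd9 zd15) (kd xd7 yd9 zd18) (kd xd1 yd43 zd43) (kd xd7 yd9 zd25) (kd xd3 yd32 zd44) (kd xd7 yd9 zd29) (kd xd7 yd9 zd31) (kd xd1 yd43 zd46) (kd xd7 yd0 zd6) (kd xd7 yd9 zd38) (kd xd1 yd43 zd47) (kd xd7 yd9 zd42) (kd xd7 yd9 zd45) (kd xd3 yd37 zd36) (kd xd7 yd9 zd47) (kd xd7 yd9 zd49) (kd xd1 yd43 zd50) (kd xd7 yd9 zd53) (kd xd1 yd43 zd51) (kd xd1 yd43 zd59) (kd xd1 yd43 zd60) (kd xd1 yd44 zd51) (kd xd7 yd9 zd60) (kd xd3 yd34 zd48) (kd xd7 yd10 zd3) (kd xd1 yd44 zd1) (kd xd6 yd59 zd39) (kd xd1 yd45 zd12) (kd xd7 yd10 zd12) (kd xd1 yd44 zd3) (kd xd7 yd10 zd16) (kd xd3 yd35 zd54) (kd xd1 yd45 zd17) (kd xd7 yd10 zd23) (kd xd1 yd44 zd5) (kd xd7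 yd10 zd26) (kd xd7 yd10 zd30) (kd xd1 yd44 zd6) (kd xd7 yd10 zd33) (kd xd7 yd10 zd37) (kd xd7 yd10 zd40) (kd xd7 yd10 zd41) (kd xd1 yd44 zd7) (kd xd7 yd10 zd45) (kd xd3 yd34 zd27) (kd xd3 yd32 zd29) (kd xd7 yd9 zd57) (kd xd1 yd44 zd9) (kd xd7 yd2 zd34) (kd xd1 yd44 zd11) (kd xd1 yd54 zd20) (kd xd1 yd54 zd21) (kd xd7 yd11 zd0) (kd xd1 yd51 zd53) (kd xd7 yd11 zd3) (kd xd7 yd11 zd5) (kd xd1 yd44 zd15) (kd xd3 yd31 zd25)) (@D3.rec (fun _ => Pt) (kd xd7 yd11 zd9) (kd xd1 yd44 zd16) (kd xd7 yd11 zd16) (kd xd3 yd24 zd56) (kd xd7 yd11 zd19) (kd xd1 yd48 zd23) (kd xd1 yd44 zd19) (kd xd1 yd44 zd20) (kd xd7 yd11 zd23) (kd xd1 yd49 zd19) (kd xd1 yd44 zd23) (kd xd7 yd11 zd25) (kd xd7 yd5 zd23) (kd xd7 yd5 zd24) (kd xd1 yd44 zd25) (kd xd6 yd57 zd18) (kd xd7 yd11 zd34) (kd xd3 yd27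 zd46) (kd xd7 yd11 zd37) (kd xd7 yd11 zd39) (kd xd3 yd8 zd2) (kd xd3 yd9 zd36) (kd xd5 yd5 zd47) (kd xd3 yd1 zd39) (kd xd2 yd21 zd39) (kd xd3 yd7 zd26) (kd xd1 yd44 zd34) (kd xd7 yd11 zd48) (kd xd7 yd4 zd9) (kd xd7 yd4 zd10) (kd xd1 yd44 zd36) (kd xd3 yd25 zd54) (kd xd7 yd11 zd54) (kd xd7 yd11 zd56) (kd xd3 yd27 zd42) (kd xd3 yd49 zd35) (kd xd1 yd44 zd40) (kd xd7 yd11 zd58) (kd xd3 yd39 zd13) (kd xd7 yd7 zd6) (kd xd7 yd11 zd60) (kd xd4 yd20 zd34) (kd xd4 yd56 zd61) (kd xd2 yd9 zd31) (kd xd7 yd12 zd5) (kd xd1 yd45 zd7) (kd xd1 yd45 zd8) (kd xd7 yd12 zd11) (kd xd7 yd12 zd13) (kd xd7 yd12 zd16) (kd xd1 yd44 zd45) (kd xd7 yd12 zd20) (kd xd7 yd12 zd22) (kd xd1 yd44 zd46) (kd xd3 yd34 zd35) (kd xd3 yd46 zd26) (kd xd1 yd44 zd49) (kd xd7 yd12 zd25) (kd xd7 yd0 zd48) (kd xd3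 yd39 zd14) (kd xd3 yd1 zd34) (kd xd7 yd12 zd28)) (@D3.rec (fun _ => Pt) (kd xd6 yd53 zd3) (kd xd1 yd44 zd53) (kd xd1 yd54 zd36) (kd xd7 yd7 zd35) (kd xd2 yd9 zd26) (kd xd1 yd44 zd55) (kd xd7 yd12 zd33) (kd xd7 yd12 zd35) (kd xd7 yd12 zd37) (kd xd7 yd12 zd40) (kd xd1 yd44 zd57) (kd xd7 yd12 zd45) (kd xd7 yd12 zd47) (kd xd3 yd46 zd55) (kd xd3 yd46 zd56) (kd xd7 yd12 zd53) (kd xd1 yd44 zd60) (kd xd7 yd12 zd56) (kd xd7 yd12 zd60) (kd xd7 yd13 zd1) (kd xd7 yd13 zd3) (kd xd1 yd45 zd0) (kd xd7 yd13 zd7) (kd xd1 yd50 zd35) (kd xd7 yd13 zd10) (kd xd7 yd13 zd12) (kd xd1 yd46 zd24) (kd xd7 yd13 zd16) (kd xd1 yd45 zd4) (kd xd7 yd13 zd20) (kd xd1 yd45 zd5) (kd xd3 yd5 zd20) (kd xd7 yd13 zd26) (kd xd7 yd12 zd8) (kd xd7 yd13 zd28) (kd xd2 yd9 zd29) (kd xd2 yd9 zd28) (kd xd2 yd26 zd25)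 (kd xd4 yd23 zd5) (kd xd7 yd13 zd36) (kd xd7 yd13 zd38) (kd xd1 yd45 zd11) (kd xd3 yd32 zd12) (kd xd7 yd10 zd8) (kd xd5 yd48 zd39) (kd xd4 yd33 zd1) (kd xd1 yd45 zd13) (kd xd7 yd13 zd47) (kd xd7 yd13 zd50) (kd xd7 yd13 zd52) (kd xd7 yd13 zd55) (kd xd1 yd45 zd15) (kd xd7 yd13 zd59) (kd xd7 yd13 zd61) (kd xd2 yd50 zd41) (kd xd6 yd14 zd39) (kd xd7 yd14 zd5) (kd xd1 yd45 zd18) (kd xd7 yd14 zd11) (kd xd7 yd14 zd14) (kd xd1 yd45 zd20) (kd xd3 yd57 zd27)) (@D3.rec (fun _ => Pt) (kd xd4 yd23 zd15) (kd xd1 yd45 zd23) (kd xd7 yd14 zd26) (kd xd7 yd14 zd28) (kd xd7 yd14 zd31) (kd xd7 yd14 zd34) (kd xd1 yd45 zd26) (kd xd7 yd14 zd38) (kd xd7 yd14 zd41) (kd xd1 yd45 zd27) (kd xd7 yd14 zd49) (kd xd1 yd45 zd28) (kd xd7 yd14 zd53) (kd xd7 yd14 zd56) (kd xd7 yd14 zd60) (kd xd7 yd15 zd3)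 (kd xd1 yd45 zd30) (kd xd7 yd15 zd7) (kd xd7 yd15 zd9) (kd xd7 yd15 zd12) (kd xd1 yd45 zd32) (kd xd7 yd5 zd10) (kd xd7 yd8 zd36) (kd xd1 yd45 zd33) (kd xd7 yd15 zd17) (kd xd7 yd15 zd20) (kd xd1 yd45 zd34) (kd xd7 yd15 zd25) (kd xd7 yd15 zd27) (kd xd1 yd45 zd36) (kd xd7 yd15 zd29) (kd xd7 yd15 zd32) (kd xd1 yd45 zd37) (kd xd6 yd53 zd1) (kd xd7 yd15 zd37) (kd xd1 yd45 zd38) (kd xd3 yd34 zd17) (kd xd7 yd15 zd41) (kd xd7 yd15 zd43) (kd xd7 yd15 zd47) (kd xd1 yd45 zd39) (kd xd7 yd15 zd51) (kd xd1 yd46 zd35) (kd xd3 yd31 zd61) (kd xd6 yd52 zd41) (kd xd7 yd15 zd56) (kd xd1 yd45 zd43) (kd xd7 yd16 zd0) (kd xd1 yd45 zd44) (kd xd7 yd16 zd3) (kd xd7 yd16 zd7) (kd xd1 yd45 zd45) (kd xd7 yd16 zd9) (kd xd1 yd45 zd46) (kd xd1 yd50 zd33) (kd xd7 yd15 zd50) (kd xd1 yd45 zd48) (kd xd7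 yd16 zd18) (kd xd7 yd16 zd20) (kd xd7 yd16 zd22) (kd xd7 yd16 zd24) (kd xd1 yd45 zd52)) (@D3.rec (fun _ => Pt) (kd xd1 yd45 zd53) (kd xd7 yd16 zd33) (kd xd1 yd45 zd54) (kd xd7 yd16 zd36) (kd xd3 yd32 zd1) (kd xd6 yd58 zd56) (kd xd6 yd53 zd0) (kd xd1 yd46 zd0) (kd xd7 yd13 zd43) (kd xd7 yd16 zd42) (kd xd1 yd46 zd2) (kd xd1 yd49 zd50) (kd xd7 yd8 zd15) (kd xd1 yd46 zd5) (kd xd7 yd16 zd50) (kd xd7 yd16 zd52) (kd xd7 yd16 zd55) (kd xd7 yd16 zd57) (kd xd1 yd46 zd7) (kd xd7 yd16 zd61) (kd xd7 yd17 zd1) (kd xd3 yd34 zd3) (kd xd7 yd17 zd4) (kd xd3 yd28 zd18) (kd xd5 yd14 zd0) (kd xd5 yd54 zd22) (kd xd6 yd14 zd38) (kd xd1 yd46 zd12) (kd xd7 yd17 zd16) (kd xd7 yd17 zd19) (kd xd1 yd46 zd14) (kd xd7 yd17 zd23) (kd xd1 yd46 zd36) (kd xd7 yd17 zd26) (kd xd7 yd17 zd29) (kd xd7 yd17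 zd31) (kd xd1 yd46 zd16) (kd xd7 yd17 zd35) (kd xd7 yd17 zd38) (kd xd1 yd46 zd17) (kd xd7 yd13 zd5) (kd xd7 yd17 zd46) (kd xd1 yd46 zd18) (kd xd7 yd17 zd51) (kd xd6 yd58 zd37) (kd xd6 yd58 zd38) (kd xd7 yd18 zd0) (kd xd1 yd46 zd20) (kd xd3 yd38 zd48) (kd xd6 yd57 zd45) (kd xd7 yd18 zd5) (kd xd1 yd46 zd21) (kd xd6 yd55 zd19) (kd xd7 yd18 zd7) (kd xd7 yd18 zd10) (kd xd1 yd46 zd22) (kd xd7 yd18 zd17) (kd xd7 yd18 zd20) (kd xd1 yd46 zd25) (kd xd3 yd31 zd1) (kd xd7 yd18 zd23) (kd xd1 yd46 zd26)) (@D3.rec (fun _ => Pt) (kd xd7 yd18 zd28) (kd xd7 yd18 zd31) (kd xd1 yd54 zd46) (kd xd3 yd28 zd17) (kd xd7 yd18 zd33) (kd xd7 yd18 zd35) (kd xd1 yd47 zd30) (kd xd7 yd10 zd42) (kd xd1 yd46 zd31) (kd xd7 yd18 zd42) (kd xd1 yd54 zd41) (kd xd1 yd53 zd57) (kd xd7 yd18 zd46) (kd xd3 yd35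 zd38) (kd xd3 yd35 zd59) (kd xd3 yd25 zd25) (kd xd3 yd55 zd54) (kd xd7 yd6 zd24) (kd xd7 yd18 zd52) (kd xd1 yd46 zd37) (kd xd5 yd41 zd16) (kd xd7 yd14 zd7) (kd xd3 yd4 zd19) (kd xd7 yd18 zd60) (kd xd1 yd46 zd39) (kd xd7 yd19 zd3) (kd xd4 yd23 zd7) (kd xd3 yd10 zd28) (kd xd3 yd3 zd46) (kd xd1 yd46 zd41) (kd xd7 yd19 zd12) (kd xd7 yd19 zd14) (kd xd7 yd19 zd16) (kd xd1 yd46 zd42) (kd xd7 yd19 zd21) (kd xd7 yd19 zd24) (kd xd1 yd46 zd43) (kd xd7 yd6 zd40) (kd xd7 yd19 zd29) (kd xd1 yd46 zd44) (kd xd6 yd58 zd34) (kd xd3 yd31 zd7) (kd xd3 yd31 zd8) (kd xd6 yd24 zd3) (kd xd1 yd50 zd41) (kd xd7 yd19 zd45) (kd xd1 yd46 zd47) (kd xd7 yd19 zd49) (kd xd3 yd53 zd40) (kd xd7 yd19 zd52) (kd xd1 yd46 zd50) (kd xd7 yd19 zd56) (kd xd1 yd46 zd53) (kd xd7 yd19 zd60) (kd xd6 yd53 zd49) (kd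 xd6 yd31 zd26) (kd xd6 yd31 zd25) (kd xd6 yd27 zd41) (kd xd1 yd46 zd58) (kd xd1 yd46 zd59) (kd xd1 yd46 zd60) (kd xd3 yd40 zd1)) (@D3.rec (fun _ => Pt) (kd xd3 yd25 zd14) (kd xd3 yd39 zd61) (kd xd7 yd20 zd14) (kd xd1 yd47 zd0) (kd xd7 yd20 zd16) (kd xd4 yd0 zd9) (kd xd7 yd20 zd20) (kd xd7 yd20 zd22) (kd xd1 yd47 zd1) (kd xd7 yd20 zd27) (kd xd1 yd47 zd21) (kd xd7 yd20 zd33) (kd xd7 yd20 zd36) (kd xd7 yd20 zd39) (kd xd1 yd47 zd3) (kd xd7 yd20 zd43) (kd xd7 yd20 zd45) (kd xd1 yd54 zd35) (kd xd6 yd55 zd46) (kd xd7 yd20 zd50) (kd xd6 yd54 zd14) (kd xd6 yd54 zd13) (kd xd7 yd20 zd56) (kd xd1 yd47 zd7) (kd xd7 yd21 zd2) (kd xd1 yd47 zd9) (kd xd7 yd21 zd4) (kd xd3 yd23 zd8) (kd xd6 yd25 zd37) (kd xd7 yd21 zd6) (kd xd7 yd21 zd8) (kd xd1 yd47 zd12) (kd xd7 yd21 zd13) (kd xd7 yd21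 zd16) (kd xd7 yd21 zd18) (kd xd1 yd47 zd14) (kd xd7 yd21 zd24) (kd xd1 yd47 zd15) (kd xd7 yd21 zd30) (kd xd7 yd21 zd34) (kd xd7 yd21 zd37) (kd xd1 yd47 zd17) (kd xd7 yd21 zd41) (kd xd7 yd21 zd44) (kd xd7 yd21 zd45) (kd xd7 yd20 zd29) (kd xd7 yd21 zd47) (kd xd6 yd13 zd55) (kd xd6 yd24 zd56) (kd xd1 yd47 zd22) (kd xd7 yd21 zd54) (kd xd1 yd48 zd4) (kd xd1 yd48 zd5) (kd xd7 yd21 zd61) (kd xd7 yd22 zd2) (kd xd7 yd22 zd5) (kd xd1 yd47 zd24) (kd xd5 yd58 zd20) (kd xd5 yd58 zd24) (kd xd7 yd22 zd12) (kd xd7 yd17 zd2) (kd xd3 yd32 zd61)) (@D3.rec (fun _ => Pt) (kd xd7 yd21 zd10) (kd xd7 yd22 zd15) (kd xd1 yd47 zd27) (kd xd7 yd22 zd21) (kd xd7 yd22 zd25) (kd xd7 yd22 zd28) (kd xd7 yd22 zd31) (kd xd1 yd47 zd29) (kd xd7 yd22 zd36) (kd xd7 yd22 zd38) (kd xd7 yd22 zd40) (kd xd7 yd22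 zd44) (kd xd7 yd22 zd46) (kd xd1 yd47 zd32) (kd xd7 yd22 zd54) (kd xd7 yd22 zd57) (kd xd1 yd47 zd34) (kd xd6 yd25 zd34) (kd xd7 yd23 zd1) (kd xd7 yd23 zd3) (kd xd1 yd47 zd35) (kd xd7 yd23 zd10) (kd xd7 yd23 zd14) (kd xd1 yd47 zd37) (kd xd7 yd23 zd18) (kd xd1 yd53 zd40) (kd xd7 yd23 zd23) (kd xd1 yd53 zd42) (kd xd7 yd23 zd28) (kd xd3 yd42 zd53) (kd xd6 yd50 zd36) (kd xd7 yd23 zd39) (kd xd7 yd23 zd43) (kd xd1 yd47 zd41) (kd xd7 yd23 zd48) (kd xd7 yd23 zd51) (kd xd1 yd47 zd42) (kd xd7 yd23 zd56) (kd xd7 yd23 zd59) (kd xd1 yd47 zd43) (kd xd7 yd24 zd1) (kd xd3 yd56 zd41) (kd xd3 yd56 zd42) (kd xd7 yd24 zd11) (kd xd1 yd47 zd45) (kd xd1 yd47 zd46) (kd xd3 yd49 zd14) (kd xd7 yd24 zd15) (kd xd7 yd24 zd18) (kd xd1 yd47 zd47) (kd xd7 yd24 zd25) (kd xd7 yd24 zd28) (kd xd1 yd47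 zd49) (kd xd7 yd24 zd31) (kd xd1 yd47 zd50) (kd xd3 yd31 zd17) (kd xd7 yd24 zd35) (kd xd1 yd47 zd51) (kd xd7 yd24 zd40) (kd xd7 yd24 zd42) (kd xd1 yd47 zd54) (kd xd7 yd24 zd49)) (@D3.rec (fun _ => Pt) (kd xd7 yd1 zd45) (kd xd1 yd47 zd57) (kd xd7 yd24 zd54) (kd xd7 yd20 zd10) (kd xd7 yd24 zd55) (kd xd7 yd24 zd59) (kd xd1 yd48 zd2) (kd xd2 yd0 zd58) (kd xd6 yd52 zd45) (kd xd7 yd21 zd55) (kd xd7 yd25 zd3) (kd xd7 yd21 zd57) (kd xd7 yd25 zd5) (kd xd6 yd13 zd32) (kd xd6 yd24 zd58) (kd xd7 yd25 zd10) (kd xd1 yd48 zd6) (kd xd7 yd25 zd17) (kd xd1 yd48 zd50) (kd xd1 yd48 zd51) (kd xd1 yd48 zd14) (kd xd7 yd25 zd25) (kd xd7 yd25 zd28) (kd xd7 yd25 zd30) (kd xd1 yd48 zd8) (kd xd6 yd53 zd52) (kd xd6 yd53 zd43) (kd xd1 yd48 zd11) (kd xd7 yd6 zd60) (kd xd7 yd25 zd38) (kd xd7 yd25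 zd21) (kd xd1 yd48 zd15) (kd xd1 yd48 zd16) (kd xd3 yd6 zd19) (kd xd3 yd25 zd5) (kd xd7 yd25 zd48) (kd xd7 yd22 zd17) (kd xd7 yd25 zd50) (kd xd1 yd48 zd18) (kd xd7 yd25 zd56) (kd xd7 yd25 zd60) (kd xd7 yd26 zd0) (kd xd7 yd26 zd3) (kd xd1 yd48 zd20) (kd xd7 yd26 zd6) (kd xd7 yd26 zd8) (kd xd7 yd26 zd12) (kd xd1 yd48 zd24) (kd xd7 yd26 zd16) (kd xd7 yd26 zd18) (kd xd7 yd26 zd20) (kd xd7 yd26 zd24) (kd xd1 yd48 zd26) (kd xd3 yd41 zd29) (kd xd5 yd48 zd48) (kd xd1 yd48 zd28) (kd xd7 yd26 zd37) (kd xd7 yd26 zd40) (kd xd1 yd48 zd30) (kd xd3 yd13 zd52) (kd xd7 yd26 zd44) (kd xd1 yd48 zd32)) (@D3.rec (fun _ => Pt) (kd xd2 yd33 zd5) (kd xd7 yd26 zd46) (kd xd1 yd48 zd35) (kd xd7 yd26 zd50) (kd xd1 yd48 zd36) (kd xd7 yd26 zd53) (kd xd1 yd48 zd37) (kd xd7 yd26 zd56) (kd xd3 yd1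 zd5) (kd xd7 yd26 zd58) (kd xd4 yd26 zd17) (kd xd1 yd48 zd39) (kd xd7 yd27 zd2) (kd xd7 yd27 zd5) (kd xd1 yd48 zd40) (kd xd7 yd27 zd7) (kd xd7 yd27 zd11) (kd xd1 yd48 zd42) (kd xd7 yd27 zd15) (kd xd5 yd58 zd32) (kd xd2 yd22 zd42) (kd xd6 yd42 zd11) (kd xd4 yd59 zd57) (kd xd6 yd42 zd12) (kd xd7 yd27 zd27) (kd xd4 yd31 zd46) (kd xd7 yd27 zd29) (kd xd7 yd27 zd32) (kd xd1 yd48 zd48) (kd xd6 yd42 zd0) (kd xd7 yd25 zd18) (kd xd7 yd27 zd39) (kd xd7 yd27 zd40) (kd xd7 yd25 zd12) (kd xd7 yd25 zd13) (kd xd7 yd27 zd44) (kd xd1 yd48 zd52) (kd xd7 yd27 zd49) (kd xd7 yd27 zd53) (kd xd7 yd27 zd56) (kd xd7 yd27 zd59) (kd xd1 yd48 zd54) (kd xd7 yd28 zd2) (kd xd7 yd28 zd4) (kd xd1 yd48 zd55) (kd xd7 yd28 zd8) (kd xd7 yd25 zd52) (kd xd7 yd28 zd10) (kd xd1 yd48 zd59) (kd xd7 yd28 zd14)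 (kd xd7 yd28 zd17) (kd xd7 yd28 zd19) (kd xd7 yd28 zd22) (kd xd1 yd48 zd61) (kd xd7 yd28 zd28) (kd xd7 yd28 zd31) (kd xd7 yd28 zd33) (kd xd1 yd49 zd0) (kd xd7 yd28 zd41) (kd xd7 yd28 zd45) (kd xd1 yd49 zd2) (kd xd7 yd28 zd50)) (@D3.rec (fun _ => Pt) (kd xd6 yd25 zd1) (kd xd5 yd50 zd51) (kd xd4 yd24 zd30) (kd xd7 yd28 zd57) (kd xd7 yd28 zd60) (kd xd1 yd49 zd5) (kd xd1 yd54 zd5) (kd xd7 yd29 zd7) (kd xd1 yd54 zd7) (kd xd7 yd29 zd11) (kd xd3 yd13 zd48) (kd xd7 yd29 zd17) (kd xd7 yd29 zd21) (kd xd7 yd29 zd25) (kd xd1 yd49 zd9) (kd xd7 yd29 zd30) (kd xd7 yd29 zd33) (kd xd1 yd49 zd10) (kd xd7 yd29 zd37) (kd xd7 yd29 zd40) (kd xd1 yd49 zd11) (kd xd3 yd56 zd38) (kd xd3 yd31 zd58) (kd xd3 yd28 zd30) (kd xd6 yd22 zd47) (kd xd1 yd52 zd12) (kd xd7 yd29 zd54) (kd xd7 yd29 zd57)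 (kd xd1 yd49 zd14) (kd xd7 yd30 zd2) (kd xd3 yd52 zd39) (kd xd7 yd30 zd5) (kd xd1 yd49 zd17) (kd xd7 yd30 zd10) (kd xd7 yd30 zd13) (kd xd7 yd30 zd16) (kd xd7 yd30 zd20) (kd xd7 yd30 zd23) (kd xd1 yd49 zd21) (kd xd7 yd30 zd26) (kd xd7 yd30 zd28) (kd xd7 yd19 zd0) (kd xd7 yd30 zd33) (kd xd1 yd49 zd25) (kd xd3 yd52 zd35) (kd xd6 yd58 zd55) (kd xd7 yd30 zd35) (kd xd3 yd44 zd47) (kd xd3 yd44 zd48) (kd xd7 yd30 zd39) (kd xd1 yd49 zd30) (kd xd7 yd30 zd41) (kd xd7 yd30 zd42) (kd xd6 yd30 zd42) (kd xd3 yd14 zd51) (kd xd3 yd14 zd52) (kd xd2 yd19 zd59) (kd xd7 yd30 zd49) (kd xd1 yd50 zd20) (kd xd7 yd30 zd52) (kd xd1 yd49 zd35) (kd xd1 yd49 zd36)) (@D3.rec (fun _ => Pt) (kd xd3 yd55 zd30) (kd xd7 yd8 zd38) (kd xd1 yd49 zd37) (kd xd3 yd32 zd4) (kd xd7 yd30 zd58) (kd xd1 yd49 zd39)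 (kd xd7 yd30 zd61) (kd xd1 yd49 zd40) (kd xd7 yd31 zd2) (kd xd7 yd31 zd6) (kd xd1 yd49 zd42) (kd xd7 yd31 zd9) (kd xd7 yd31 zd11) (kd xd3 yd29 zd49) (kd xd1 yd49 zd45) (kd xd7 yd31 zd16) (kd xd7 yd31 zd18) (kd xd3 yd45 zd17) (kd xd6 yd36 zd54) (kd xd7 yd31 zd24) (kd xd6 yd29 zd18) (kd xd6 yd29 zd19) (kd xd6 yd26 zd47) (kd xd6 yd36 zd52) (kd xd7 yd31 zd31) (kd xd6 yd21 zd30) (kd xd6 yd21 zd31) (kd xd1 yd49 zd52) (kd xd3 yd8 zd48) (kd xd6 yd19 zd27) (kd xd6 yd11 zd5) (kd xd3 yd7 zd34) (kd xd7 yd31 zd44) (kd xd1 yd49 zd54) (kd xd7 yd31 zd49) (kd xd7 yd31 zd51) (kd xd1 yd49 zd55) (kd xd6 yd59 zd27) (kd xd7 yd31 zd55) (kd xd7 yd31 zd57) (kd xd7 yd31 zd59) (kd xd1 yd49 zd57) (kd xd7 yd32 zd5) (kd xd7 yd32 zd7) (kd xd1 yd49 zd59) (kd xd5 yd48 zd18) (kd xd6 yd55 zd24) (kd xd1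 yd49 zd60) (kd xd7 yd32 zd17) (kd xd7 yd32 zd21) (kd xd1 yd50 zd0) (kd xd7 yd32 zd25) (kd xd4 yd44 zd5) (kd xd7 yd32 zd30) (kd xd7 yd32 zd34) (kd xd7 yd32 zd37) (kd xd7 yd32 zd40) (kd xd1 yd50 zd3) (kd xd5 yd18 zd6) (kd xd1 yd51 zd12) (kd xd7 yd32 zd48) (kd xd1 yd51 zd14)) (@D3.rec (fun _ => Pt) (kd xd7 yd32 zd55) (kd xd7 yd32 zd59) (kd xd7 yd33 zd1) (kd xd1 yd50 zd6) (kd xd7 yd33 zd6) (kd xd7 yd33 zd9) (kd xd1 yd50 zd7) (kd xd3 yd49 zd41) (kd xd7 yd33 zd16) (kd xd1 yd50 zd8) (kd xd7 yd33 zd20) (kd xd7 yd33 zd23) (kd xd7 yd33 zd27) (kd xd7 yd33 zd32) (kd xd1 yd50 zd10) (kd xd7 yd33 zd35) (kd xd1 yd50 zd11) (kd xd3 yd50 zd44) (kd xd7 yd33 zd41) (kd xd5 yd49 zd8) (kd xd5 yd47 zd16) (kd xd5 yd54 zd52) (kd xd1 yd50 zd15) (kd xd7 yd33 zd50) (kd xd7 yd33 zd51) (kd xd1 yd50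 zd17) (kd xd3 yd35 zd55) (kd xd3 yd53 zd8) (kd xd2 yd18 zd7) (kd xd2 yd19 zd14) (kd xd7 yd33 zd56) (kd xd1 yd50 zd22) (kd xd7 yd33 zd57) (kd xd1 yd50 zd24) (kd xd7 yd34 zd0) (kd xd1 yd50 zd25) (kd xd7 yd34 zd2) (kd xd7 yd34 zd3) (kd xd1 yd51 zd41) (kd xd1 yd51 zd42) (kd xd6 yd16 zd34) (kd xd7 yd34 zd11) (kd xd7 yd34 zd14) (kd xd7 yd34 zd16) (kd xd1 yd50 zd28) (kd xd7 yd34 zd23) (kd xd7 yd34 zd27) (kd xd1 yd50 zd29) (kd xd7 yd34 zd31) (kd xd7 yd34 zd33) (kd xd1 yd50 zd30) (kd xd3 yd48 zd53) (kd xd7 yd34 zd38) (kd xd1 yd50 zd31) (kd xd3 yd52 zd51) (kd xd3 yd36 zd13) (kd xd3 yd36 zd14) (kd xd7 yd16 zd12) (kd xd3 yd51 zd60) (kd xd7 yd0 zd29) (kd xd7 yd34 zd49) (kd xd6 yd43 zd20)) (@D3.rec (fun _ => Pt) (kd xd3 yd15 zd0) (kd xd1 yd50 zd37) (kd xd7 yd34 zd56) (kd xd7 yd34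 zd59) (kd xd7 yd35 zd0) (kd xd1 yd50 zd39) (kd xd7 yd35 zd5) (kd xd1 yd50 zd40) (kd xd1 yd54 zd29) (kd xd7 yd5 zd27) (kd xd7 yd35 zd9) (kd xd7 yd35 zd12) (kd xd7 yd35 zd15) (kd xd7 yd35 zd17) (kd xd1 yd50 zd44) (kd xd4 yd48 zd51) (kd xd6 yd0 zd1) (kd xd2 yd50 zd2) (kd xd7 yd35 zd27) (kd xd7 yd35 zd31) (kd xd1 yd50 zd47) (kd xd7 yd15 zd48) (kd xd3 yd17 zd30) (kd xd7 yd1 zd22) (kd xd5 yd51 zd16) (kd xd1 yd50 zd48) (kd xd7 yd35 zd44) (kd xd7 yd35 zd47) (kd xd1 yd50 zd50) (kd xd7 yd35 zd53) (kd xd6 yd33 zd7) (kd xd1 yd50 zd51) (kd xd7 yd35 zd57) (kd xd7 yd35 zd60) (kd xd6 yd33 zd8) (kd xd1 yd50 zd52) (kd xd7 yd36 zd2) (kd xd1 yd50 zd53) (kd xd7 yd36 zd8) (kd xd6 yd58 zd41) (kd xd6 yd58 zd42) (kd xd7 yd36 zd18) (kd xd7 yd36 zd22) (kd xd7 yd36 zd26) (kd xd5 yd34 zd15) (kd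 xd1 yd50 zd55) (kd xd7 yd36 zd34) (kd xd7 yd36 zd37) (kd xd7 yd36 zd41) (kd xd1 yd50 zd56) (kd xd7 yd36 zd46) (kd xd5 yd24 zd43) (kd xd1 yd50 zd57) (kd xd3 yd30 zd28) (kd xd7 yd36 zd55) (kd xd3 yd51 zd59) (kd xd1 yd50 zd58) (kd xd7 yd24 zd43) (kd xd7 yd34 zd47) (kd xd7 yd3 zd2) (kd xd7 yd2 zd59) (kd xd1 yd50 zd60)) (@D3.rec (fun _ => Pt) (kd xd1 yd50 zd61) (kd xd7 yd37 zd8) (kd xd7 yd37 zd11) (kd xd1 yd51 zd0) (kd xd7 yd32 zd9) (kd xd3 yd52 zd42) (kd xd7 yd37 zd19) (kd xd1 yd51 zd3) (kd xd7 yd37 zd23) (kd xd7 yd5 zd28) (kd xd6 yd55 zd7) (kd xd3 yd14 zd36) (kd xd3 yd14 zd37) (kd xd7 yd37 zd28) (kd xd7 yd37 zd31) (kd xd1 yd51 zd8) (kd xd1 yd51 zd9) (kd xd7 yd37 zd37) (kd xd1 yd51 zd10) (kd xd7 yd37 zd40) (kd xd7 yd37 zd42) (kd xd7 yd37 zd44) (kd xd7 yd32 zd45) (kd xd7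 yd37 zd49) (kd xd1 yd51 zd13) (kd xd7 yd37 zd53) (kd xd7 yd37 zd54) (kd xd7 yd32 zd50) (kd xd7 yd37 zd59) (kd xd1 yd51 zd15) (kd xd4 yd47 zd43) (kd xd7 yd38 zd1) (kd xd5 yd28 zd3) (kd xd7 yd38 zd5) (kd xd7 yd38 zd9) (kd xd7 yd38 zd13) (kd xd1 yd51 zd19) (kd xd5 yd27 zd32) (kd xd3 yd29 zd20) (kd xd7 yd38 zd20) (kd xd3 yd29 zd22) (kd xd7 yd38 zd24) (kd xd7 yd38 zd28) (kd xd7 yd38 zd32) (kd xd1 yd51 zd22) (kd xd7 yd38 zd37) (kd xd7 yd38 zd40) (kd xd1 yd51 zd23) (kd xd7 yd1 zd7) (kd xd7 yd38 zd48) (kd xd1 yd51 zd24) (kd xd7 yd38 zd52) (kd xd7 yd15 zd30) (kd xd3 yd46 zd51) (kd xd7 yd15 zd22) (kd xd1 yd51 zd26) (kd xd7 yd38 zd61) (kd xd1 yd51 zd27) (kd xd7 yd1 zd46) (kd xd7 yd14 zd42) (kd xd1 yd51 zd30) (kd xd7 yd39 zd8)) (@D3.rec (fun _ => Pt) (kd xd7 yd14 zd43) (kd xd3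 yd50 zd12) (kd xd1 yd51 zd33) (kd xd7 yd39 zd10) (kd xd7 yd33 zd46) (kd xd7 yd33 zd47) (kd xd3 yd5 zd17) (kd xd1 yd51 zd34) (kd xd7 yd39 zd17) (kd xd7 yd39 zd18) (kd xd1 yd51 zd36) (kd xd3 yd31 zd60) (kd xd7 yd3 zd43) (kd xd7 yd39 zd22) (kd xd3 yd41 zd46) (kd xd7 yd35 zd2) (kd xd1 yd51 zd40) (kd xd7 yd34 zd4) (kd xd7 yd39 zd25) (kd xd7 yd39 zd27) (kd xd1 yd51 zd43) (kd xd7 yd39 zd32) (kd xd3 yd29 zd37) (kd xd3 yd29 zd38) (kd xd7 yd39 zd39) (kd xd7 yd39 zd43) (kd xd7 yd39 zd46) (kd xd7 yd39 zd47) (kd xd1 yd51 zd45) (kd xd7 yd39 zd52) (kd xd7 yd39 zd55) (kd xd7 yd39 zd59) (kd xd1 yd51 zd46) (kd xd7 yd40 zd2) (kd xd7 yd40 zd4) (kd xd3 yd35 zd35) (kd xd1 yd51 zd47) (kd xd7 yd40 zd9) (kd xd1 yd51 zd48) (kd xd7 yd3 zd24) (kd xd7 yd40 zd15) (kd xd3 yd46 zd7) (kd xd7 yd9 zd1)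 (kd xd1 yd51 zd50) (kd xd7 yd40 zd25) (kd xd1 yd51 zd51) (kd xd7 yd2 zd33) (kd xd7 yd40 zd28) (kd xd7 yd40 zd30) (kd xd3 yd33 zd15) (kd xd7 yd40 zd33) (kd xd7 yd40 zd35) (kd xd7 yd40 zd40) (kd xd1 yd51 zd55) (kd xd7 yd40 zd43) (kd xd7 yd40 zd46) (kd xd1 yd51 zd57) (kd xd7 yd40 zd50) (kd xd7 yd40 zd52) (kd xd7 yd40 zd54) (kd xd1 yd51 zd58) (kd xd7 yd40 zd57)) (@D3.rec (fun _ => Pt) (kd xd1 yd51 zd59) (kd xd7 yd41 zd0) (kd xd1 yd51 zd60) (kd xd7 yd41 zd6) (kd xd3 yd29 zd50) (kd xd6 yd36 zd53) (kd xd7 yd41 zd14) (kd xd7 yd41 zd18) (kd xd7 yd41 zd22) (kd xd1 yd52 zd0) (kd xd7 yd41 zd27) (kd xd7 yd12 zd29) (kd xd3 yd49 zd1) (kd xd3 yd28 zd15) (kd xd7 yd41 zd32) (kd xd7 yd41 zd35) (kd xd7 yd41 zd38) (kd xd1 yd52 zd3) (kd xd7 yd41 zd43) (kd xd7 yd13 zd17) (kd xd7 yd14 zd51)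 (kd xd1 yd52 zd5) (kd xd6 yd0 zd3) (kd xd7 yd41 zd52) (kd xd7 yd41 zd54) (kd xd1 yd52 zd7) (kd xd7 yd41 zd58) (kd xd2 yd51 zd56) (kd xd7 yd42 zd1) (kd xd4 yd34 zd25) (kd xd1 yd52 zd9) (kd xd7 yd42 zd6) (kd xd3 yd29 zd57) (kd xd3 yd29 zd58) (kd xd7 yd42 zd12) (kd xd7 yd42 zd15) (kd xd7 yd42 zd17) (kd xd1 yd52 zd11) (kd xd7 yd42 zd22) (kd xd7 yd42 zd23) (kd xd7 yd42 zd26) (kd xd1 yd52 zd13) (kd xd7 yd42 zd31) (kd xd7 yd11 zd1) (kd xd3 yd46 zd17) (kd xd7 yd8 zd56) (kd xd1 yd52 zd15) (kd xd7 yd42 zd40) (kd xd4 yd44 zd10) (kd xd1 yd52 zd16) (kd xd7 yd42 zd47) (kd xd7 yd42 zd49) (kd xd1 yd52 zd18) (kd xd7 yd42 zd55) (kd xd7 yd42 zd58) (kd xd7 yd42 zd60) (kd xd1 yd52 zd20) (kd xd7 yd43 zd2) (kd xd3 yd24 zd41) (kd xd7 yd43 zd6) (kd xd2 yd20 zd21) (kd xd3 yd23 zd6)) (@D3.rec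 (fun _ => Pt) (kd xd7 yd43 zd15) (kd xd7 yd43 zd19) (kd xd7 yd43 zd23) (kd xd1 yd52 zd23) (kd xd7 yd43 zd27) (kd xd7 yd43 zd30) (kd xd1 yd52 zd24) (kd xd7 yd43 zd36) (kd xd7 yd43 zd39) (kd xd1 yd52 zd25) (kd xd7 yd18 zd41) (kd xd7 yd3 zd13) (kd xd7 yd43 zd51) (kd xd1 yd52 zd27) (kd xd6 yd34 zd7) (kd xd7 yd43 zd57) (kd xd7 yd43 zd61) (kd xd7 yd44 zd2) (kd xd7 yd44 zd4) (kd xd1 yd52 zd29) (kd xd7 yd44 zd8) (kd xd6 yd34 zd55) (kd xd7 yd44 zd12) (kd xd7 yd44 zd14) (kd xd7 yd44 zd16) (kd xd1 yd52 zd31) (kd xd7 yd44 zd20) (kd xd6 yd10 zd8) (kd xd6 yd10 zd9) (kd xd4 yd37 zd40) (kd xd7 yd44 zd29) (kd xd7 yd44 zd31) (kd xd7 yd44 zd34) (kd xd1 yd52 zd33) (kd xd7 yd44 zd38) (kd xd7 yd44 zd42) (kd xd7 yd44 zd46) (kd xd1 yd52 zd34) (kd xd7 yd44 zd53) (kd xd5 yd25 zd47) (kd xd7 yd44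 zd59) (kd xd1 yd52 zd35) (kd xd7 yd45 zd2) (kd xd7 yd45 zd6) (kd xd7 yd45 zd10) (kd xd7 yd45 zd15) (kd xd1 yd52 zd37) (kd xd7 yd45 zd18) (kd xd7 yd45 zd21) (kd xd7 yd45 zd25) (kd xd1 yd52 zd38) (kd xd7 yd45 zd31) (kd xd7 yd45 zd32) (kd xd7 yd45 zd34) (kd xd1 yd52 zd39) (kd xd7 yd45 zd42) (kd xd6 yd34 zd4) (kd xd7 yd45 zd44) (kd xd1 yd52 zd40) (kd xd3 yd47 zd55) (kd xd3 yd46 zd58) (kd xd7 yd4 zd50)) (@D3.rec (fun _ => Pt) (kd xd7 yd2 zd53) (kd xd7 yd45 zd57) (kd xd1 yd52 zd42) (kd xd3 yd30 zd27) (kd xd7 yd45 zd60) (kd xd5 yd20 zd52) (kd xd7 yd46 zd2) (kd xd5 yd24 zd40) (kd xd7 yd2 zd50) (kd xd1 yd52 zd46) (kd xd7 yd24 zd44) (kd xd7 yd46 zd8) (kd xd7 yd2 zd46) (kd xd1 yd52 zd47) (kd xd7 yd46 zd16) (kd xd7 yd46 zd20) (kd xd7 yd2 zd35) (kd xd1 yd52 zd48) (kd xd7 yd46 zd26)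 (kd xd7 yd3 zd51) (kd xd7 yd3 zd26) (kd xd7 yd46 zd35) (kd xd1 yd52 zd49) (kd xd7 yd0 zd3) (kd xd7 yd46 zd41) (kd xd1 yd52 zd51) (kd xd7 yd46 zd43) (kd xd1 yd52 zd52) (kd xd7 yd46 zd49) (kd xd7 yd46 zd50) (kd xd1 yd52 zd53) (kd xd7 yd2 zd39) (kd xd6 yd59 zd61) (kd xd7 yd47 zd0) (kd xd1 yd52 zd56) (kd xd3 yd44 zd44) (kd xd7 yd47 zd3) (kd xd1 yd52 zd57) (kd xd6 yd52 zd3) (kd xd3 yd44 zd30) (kd xd7 yd47 zd6) (kd xd7 yd47 zd8) (kd xd3 yd48 zd5) (kd xd7 yd3 zd14) (kd xd7 yd0 zd15) (kd xd7 yd47 zd12) (kd xd1 yd52 zd60) (kd xd7 yd47 zd17) (kd xd7 yd47 zd18) (kd xd1 yd52 zd61) (kd xd7 yd47 zd26) (kd xd3 yd46 zd54) (kd xd7 yd47 zd32) (kd xd7 yd2 zd56) (kd xd7 yd47 zd38) (kd xd7 yd3 zd25) (kd xd1 yd53 zd1) (kd xd7 yd47 zd44) (kd xd7 yd47 zd45) (kd xd7 yd47 zd47) (kd xd7 yd47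 zd49) (kd xd7 yd47 zd53)) (@D3.rec (fun _ => Pt) (kd xd1 yd53 zd4) (kd xd7 yd33 zd11) (kd xd1 yd53 zd7) (kd xd7 yd47 zd56) (kd xd7 yd47 zd59) (kd xd1 yd53 zd8) (kd xd7 yd18 zd12) (kd xd7 yd48 zd3) (kd xd3 yd46 zd27) (kd xd7 yd6 zd14) (kd xd3 yd29 zd34) (kd xd3 yd29 zd35) (kd xd1 yd53 zd10) (kd xd7 yd48 zd5) (kd xd7 yd48 zd6) (kd xd1 yd53 zd11) (kd xd7 yd48 zd13) (kd xd7 yd2 zd55) (kd xd7 yd48 zd19) (kd xd7 yd1 zd6) (kd xd1 yd53 zd13) (kd xd7 yd48 zd22) (kd xd7 yd48 zd26) (kd xd1 yd53 zd14) (kd xd7 yd19 zd1) (kd xd3 yd33 zd2) (kd xd7 yd48 zd28) (kd xd1 yd53 zd18) (kd xd7 yd48 zd34) (kd xd7 yd48 zd35) (kd xd1 yd53 zd21) (kd xd7 yd3 zd19) (kd xd7 yd48 zd40) (kd xd7 yd48 zd42) (kd xd1 yd53 zd23) (kd xd1 yd53 zd24) (kd xd6 yd41 zd47) (kd xd3 yd28 zd43) (kd xd6 yd41 zd48)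 (kd xd7 yd11 zd46) (kd xd3 yd39 zd48) (kd xd7 yd48 zd58) (kd xd1 yd53 zd28) (kd xd7 yd48 zd61) (kd xd7 yd49 zd3) (kd xd1 yd53 zd30) (kd xd7 yd49 zd8) (kd xd1 yd53 zd31) (kd xd7 yd49 zd11) (kd xd7 yd16 zd59) (kd xd7 yd49 zd13) (kd xd1 yd53 zd32) (kd xd6 yd9 zd54) (kd xd7 yd48 zd44) (kd xd7 yd21 zd26) (kd xd7 yd49 zd25) (kd xd7 yd49 zd29) (kd xd7 yd49 zd31) (kd xd1 yd53 zd36) (kd xd7 yd49 zd35) (kd xd7 yd49 zd37) (kd xd7 yd49 zd38)) (@D3.rec (fun _ => Pt) (kd xd1 yd53 zd38) (kd xd3 yd24 zd52) (kd xd7 yd28 zd35) (kd xd7 yd28 zd36) (kd xd7 yd23 zd19) (kd xd7 yd49 zd47) (kd xd1 yd53 zd41) (kd xd7 yd49 zd51) (kd xd6 yd24 zd60) (kd xd6 yd24 zd61) (kd xd7 yd23 zd24) (kd xd7 yd49 zd57) (kd xd1 yd53 zd43) (kd xd4 yd48 zd12) (kd xd7 yd50 zd2) (kd xd7 yd50 zd6) (kd xd7 yd50 zd9)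 (kd xd1 yd53 zd45) (kd xd7 yd50 zd13) (kd xd7 yd50 zd16) (kd xd1 yd53 zd46) (kd xd7 yd21 zd39) (kd xd7 yd50 zd23) (kd xd1 yd53 zd47) (kd xd7 yd50 zd27) (kd xd7 yd5 zd2) (kd xd7 yd5 zd3) (kd xd7 yd50 zd37) (kd xd1 yd53 zd49) (kd xd1 yd53 zd50) (kd xd7 yd50 zd41) (kd xd7 yd50 zd44) (kd xd1 yd53 zd51) (kd xd7 yd50 zd51) (kd xd3 yd31 zd40) (kd xd7 yd50 zd56) (kd xd7 yd50 zd58) (kd xd1 yd53 zd54) (kd xd7 yd11 zd55) (kd xd7 yd51 zd0) (kd xd1 yd53 zd55) (kd xd7 yd51 zd5) (kd xd7 yd51 zd8) (kd xd3 yd24 zd30) (kd xd3 yd55 zd32) (kd xd1 yd53 zd58) (kd xd7 yd51 zd12) (kd xd7 yd26 zd33) (kd xd1 yd53 zd60) (kd xd7 yd51 zd18) (kd xd7 yd51 zd22) (kd xd7 yd51 zd25) (kd xd1 yd54 zd0) (kd xd7 yd51 zd28) (kd xd7 yd51 zd29) (kd xd7 yd51 zd30) (kd xd7 yd37 zd34) (kd xd1 yd54 zd4) (kd xd7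 yd22 zd48) (kd xd7 yd22 zd49) (kd xd7 yd29 zd2) (kd xd7 yd51 zd40)) (@D3.rec (fun _ => Pt) (kd xd1 yd54 zd6) (kd xd7 yd23 zd5) (kd xd7 yd23 zd6) (kd xd7 yd29 zd9) (kd xd7 yd51 zd49) (kd xd1 yd54 zd8) (kd xd7 yd51 zd54) (kd xd3 yd18 zd57) (kd xd7 yd51 zd61) (kd xd7 yd52 zd3) (kd xd7 yd52 zd7) (kd xd1 yd54 zd10) (kd xd7 yd52 zd12) (kd xd5 yd55 zd46) (kd xd1 yd54 zd11) (kd xd7 yd52 zd20) (kd xd1 yd54 zd12) (kd xd7 yd4 zd61) (kd xd7 yd10 zd60) (kd xd7 yd10 zd61) (kd xd7 yd52 zd31) (kd xd1 yd54 zd14) (kd xd7 yd52 zd35) (kd xd7 yd52 zd38) (kd xd1 yd54 zd16) (kd xd7 yd52 zd43) (kd xd1 yd54 zd18) (kd xd7 yd52 zd48) (kd xd7 yd9 zd33) (kd xd7 yd52 zd51) (kd xd3 yd45 zd0) (kd xd7 yd52 zd54) (kd xd3 yd54 zd44) (kd xd7 yd10 zd54) (kd xd7 yd10 zd55) (kd xd1 yd54 zd22) (kd xd7 yd37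 zd33) (kd xd1 yd54 zd24) (kd xd7 yd8 zd40) (kd xd1 yd54 zd26) (kd xd7 yd53 zd5) (kd xd2 yd20 zd51) (kd xd7 yd53 zd9) (kd xd7 yd53 zd12) (kd xd7 yd53 zd13) (kd xd1 yd54 zd28) (kd xd1 yd54 zd30) (kd xd7 yd53 zd18) (kd xd3 yd23 zd5) (kd xd7 yd53 zd21) (kd xd7 yd53 zd23) (kd xd1 yd54 zd32) (kd xd7 yd53 zd27) (kd xd7 yd28 zd47) (kd xd3 yd39 zd16) (kd xd7 yd53 zd30) (kd xd7 yd53 zd32) (kd xd1 yd54 zd37) (kd xd7 yd53 zd38) (kd xd7 yd53 zd39) (kd xd1 yd54 zd40) (kd xd7 yd18 zd43)) (@D3.rec (fun _ => Pt) (kd xd7 yd53 zd43) (kd xd7 yd53 zd45) (kd xd1 yd54 zd42) (kd xd7 yd28 zd48) (kd xd1 yd54 zd44) (kd xd1 yd54 zd45) (kd xd7 yd53 zd55) (kd xd7 yd53 zd59) (kd xd1 yd54 zd47) (kd xd7 yd54 zd1) (kd xd1 yd54 zd48) (kd xd7 yd29 zd0) (kd xd7 yd22 zd59) (kd xd7 yd54 zd7) (kd xd7 yd4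 zd32) (kd xd1 yd54 zd51) (kd xd1 yd54 zd52) (kd xd7 yd5 zd7) (kd xd7 yd5 zd8) (kd xd7 yd54 zd23) (kd xd7 yd54 zd26) (kd xd7 yd4 zd35) (kd xd7 yd4 zd36) (kd xd1 yd54 zd54) (kd xd7 yd54 zd31) (kd xd7 yd4 zd60) (kd xd1 yd54 zd56) (kd xd7 yd54 zd38) (kd xd7 yd54 zd40) (kd xd7 yd54 zd43) (kd xd1 yd54 zd59) (kd xd7 yd54 zd47) (kd xd1 yd54 zd60) (kd xd7 yd23 zd53) (kd xd7 yd54 zd53) (kd xd1 yd55 zd0) (kd xd1 yd55 zd1) (kd xd7 yd4 zd44) (kd xd3 yd44 zd21) (kd xd7 yd55 zd4) (kd xd7 yd55 zd8) (kd xd3 yd41 zd41) (kd xd3 yd41 zd42) (kd xd1 yd55 zd3) (kd xd7 yd55 zd13) (kd xd7 yd55 zd15) (kd xd2 yd24 zd0) (kd xd7 yd19 zd57) (kd xd1 yd55 zd6) (kd xd7 yd55 zd22) (kd xd3 yd25 zd26) (kd xd7 yd55 zd24) (kd xd2 yd38 zd16) (kd xd2 yd34 zd28) (kd xd7 yd55 zd28) (kd xd1 yd55 zd11) (kd xd1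 yd55 zd12) (kd xd2 yd36 zd11) (kd xd2 yd7 zd3) (kd xd4 yd53 zd13) (kd xd4 yd2 zd38) (kd xd1 yd58 zd12)) (@D3.rec (fun _ => Pt) (kd xd4 yd53 zd14) (kd xd4 yd19 zd10) (kd xd4 yd19 zd17) (kd xd5 yd4 zd57) (kd xd4 yd1 zd61) (kd xd4 yd56 zd59) (kd xd7 yd55 zd54) (kd xd7 yd55 zd59) (kd xd1 yd55 zd19) (kd xd2 yd9 zd13) (kd xd3 yd57 zd10) (kd xd7 yd56 zd3) (kd xd1 yd55 zd21) (kd xd2 yd31 zd41) (kd xd4 yd56 zd55) (kd xd2 yd31 zd43) (kd xd1 yd57 zd51) (kd xd7 yd56 zd15) (kd xd1 yd55 zd24) (kd xd7 yd56 zd17) (kd xd7 yd56 zd18) (kd xd1 yd55 zd27) (kd xd6 yd14 zd0) (kd xd7 yd56 zd20) (kd xd1 yd55 zd29) (kd xd5 yd46 zd41) (kd xd1 yd55 zd30) (kd xd3 yd36 zd61) (kd xd7 yd56 zd23) (kd xd7 yd56 zd24) (kd xd1 yd55 zd31) (kd xd7 yd56 zd29) (kd xd1 yd56 zd41) (kd xd1 yd56 zd11) (kd xd2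 yd8 zd33) (kd xd1 yd55 zd46) (kd xd1 yd55 zd33) (kd xd4 yd24 zd46) (kd xd4 yd24 zd47) (kd xd1 yd55 zd34) (kd xd3 yd32 zd19) (kd xd7 yd56 zd42) (kd xd7 yd56 zd43) (kd xd7 yd56 zd50) (kd xd1 yd55 zd37) (kd xd4 yd20 zd44) (kd xd6 yd13 zd49) (kd xd6 yd13 zd50) (kd xd1 yd55 zd39) (kd xd7 yd57 zd2) (kd xd1 yd55 zd41) (kd xd5 yd50 zd49) (kd xd1 yd55 zd42) (kd xd7 yd57 zd6) (kd xd7 yd57 zd8) (kd xd1 yd55 zd43) (kd xd7 yd57 zd12) (kd xd1 yd55 zd44) (kd xd2 yd49 zd39) (kd xd2 yd49 zd40) (kd xd7 yd57 zd20) (kd xd7 yd56 zd28)) (@D3.rec (fun _ => Pt) (kd xd7 yd57 zd26) (kd xd7 yd57 zd29) (kd xd7 yd56 zd38) (kd xd1 yd55 zd47) (kd xd7 yd57 zd34) (kd xd7 yd57 zd36) (kd xd1 yd55 zd50) (kd xd1 yd55 zd51) (kd xd4 yd12 zd34) (kd xd1 yd59 zd47) (kd xd7 yd57 zd46) (kd xd1 yd55 zd53) (kd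 xd1 yd55 zd54) (kd xd4 yd20 zd20) (kd xd1 yd55 zd55) (kd xd4 yd53 zd59) (kd xd2 yd7 zd8) (kd xd7 yd57 zd59) (kd xd7 yd58 zd0) (kd xd1 yd55 zd57) (kd xd1 yd55 zd58) (kd xd4 yd19 zd30) (kd xd7 yd58 zd6) (kd xd4 yd19 zd32) (kd xd4 yd19 zd41) (kd xd7 yd58 zd13) (kd xd5 yd2 zd52) (kd xd2 yd34 zd31) (kd xd7 yd58 zd20) (kd xd7 yd58 zd24) (kd xd7 yd58 zd27) (kd xd7 yd58 zd30) (kd xd7 yd58 zd35) (kd xd1 yd56 zd1) (kd xd7 yd58 zd40) (kd xd3 yd58 zd35) (kd xd7 yd58 zd44) (kd xd5 yd1 zd6) (kd xd7 yd58 zd50) (kd xd5 yd11 zd57) (kd xd2 yd32 zd14) (kd xd2 yd25 zd52) (kd xd2 yd25 zd53) (kd xd4 yd6 zd48) (kd xd7 yd58 zd56) (kd xd7 yd58 zd60) (kd xd7 yd59 zd0) (kd xd1 yd56 zd6) (kd xd4 yd7 zd2) (kd xd5 yd36 zd59) (kd xd5 yd36 zd27) (kd xd4 yd38 zd26) (kd xd7 yd56 zd32) (kd xd2 yd46 zd55)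 (kd xd2 yd46 zd56) (kd xd4 yd33 zd32) (kd xd7 yd59 zd8) (kd xd5 yd37 zd45) (kd xd5 yd47 zd11) (kd xd7 yd59 zd15) (kd xd1 yd56 zd14) (kd xd7 yd59 zd19)) (@D3.rec (fun _ => Pt) (kd xd5 yd37 zd44) (kd xd7 yd59 zd22) (kd xd7 yd59 zd25) (kd xd1 yd56 zd15) (kd xd5 yd49 zd14) (kd xd1 yd56 zd16) (kd xd2 yd44 zd45) (kd xd2 yd44 zd46) (kd xd7 yd59 zd39) (kd xd1 yd56 zd34) (kd xd1 yd56 zd18) (kd xd2 yd25 zd59) (kd xd5 yd14 zd8) (kd xd6 yd30 zd24) (kd xd3 yd2 zd50) (kd xd1 yd56 zd37) (kd xd6 yd13 zd30) (kd xd1 yd56 zd22) (kd xd3 yd6 zd55) (kd xd7 yd59 zd53) (kd xd7 yd59 zd55) (kd xd6 yd15 zd39) (kd xd1 yd56 zd23) (kd xd7 yd59 zd61) (kd xd8 yd0 zd2) (kd xd2 yd52 zd6) (kd xd1 yd56 zd25) (kd xd5 yd47 zd45) (kd xd6 yd25 zd3) (kd xd1 yd56 zd26) (kd xd8 yd0 zd8) (kd xd5 yd49 zd6) (kd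 xd1 yd56 zd27) (kd xd8 yd0 zd12) (kd xd8 yd0 zd15) (kd xd8 yd0 zd17) (kd xd8 yd0 zd18) (kd xd1 yd56 zd29) (kd xd5 yd29 zd16) (kd xd6 yd25 zd50) (kd xd7 yd59 zd32) (kd xd2 yd49 zd20) (kd xd5 yd54 zd43) (kd xd8 yd0 zd29) (kd xd2 yd49 zd34) (kd xd8 yd0 zd34) (kd xd8 yd0 zd36) (kd xd5 yd51 zd59) (kd xd1 yd56 zd33) (kd xd8 yd0 zd42) (kd xd8 yd0 zd46) (kd xd8 yd0 zd50) (kd xd7 yd59 zd44) (kd xd8 yd0 zd54) (kd xd1 yd56 zd35) (kd xd4 yd7 zd26) (kd xd8 yd0 zd58) (kd xd1 yd56 zd36) (kd xd4 yd20 zd15) (kd xd7 yd56 zd30) (kd xd8 yd1 zd2) (kd xd8 yd1 zd3))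
def f_d_4 : D2 → D3 → Pt := @D2.rec (fun _ => D3 → Pt) (@D3.rec (fun _ => Pt) (kd xd8 yd1 zd4) (kd xd1 yd56 zd46) (kd xd8 yd1 zd7) (kd xd4 yd0 zd20) (kd xd1 yd56 zd53) (kd xd1 yd56 zd48) (kd xd1 yd56 zd49) (kd xd8 yd1 zd15) (kd xd1 yd56 zd50) (kd xd3 yd40 zd5) (kd xd8 yd1 zd6) (kd xd8 yd1 zd22) (kd xd8 yd1 zd25) (kd xd8 yd1 zd12) (kd xd4 yd4 zd45) (kd xd4 yd31 zd29) (kd xd2 yd31 zd28) (kd xd2 yd31 zd32) (kd xd8 yd1 zd37) (kd xd1 yd56 zd56) (kd xd4 yd0 zd3) (kd xd4 yd0 zd21) (kd xd4 yd23 zd36) (kd xd1 yd57 zd4) (kd xd2 yd51 zd6) (kd xd8 yd1 zd47) (kd xd8 yd1 zd50) (kd xd8 yd1 zd52) (kd xd1 yd56 zd60) (kd xd8 yd1 zd57) (kd xd2 yd24 zd25) (kd xd1 yd57 zd14) (kd xd1 yd57 zd0) (kd xd8 yd2 zd3) (kd xd7 yd56 zd59) (kd xd7 yd56 zd60) (kd xd4 yd26 zd28) (kd xd8 yd2 zd7) (kd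 xd1 yd57 zd3) (kd xd8 yd2 zd9) (kd xd6 yd14 zd10) (kd xd8 yd2 zd12) (kd xd1 yd57 zd8) (kd xd8 yd2 zd16) (kd xd6 yd15 zd40) (kd xd5 yd49 zd50) (kd xd1 yd57 zd9) (kd xd8 yd2 zd20) (kd xd1 yd57 zd10) (kd xd3 yd3 zd57) (kd xd3 yd3 zd58) (kd xd8 yd1 zd56) (kd xd1 yd57 zd12) (kd xd8 yd2 zd31) (kd xd8 yd2 zd32) (kd xd8 yd2 zd35) (kd xd8 yd2 zd38) (kd xd8 yd2 zd1) (kd xd1 yd57 zd15) (kd xd2 yd58 zd30) (kd xd8 yd2 zd45) (kd xd1 yd57 zd18)) (@D3.rec (fun _ => Pt) (kd xd2 yd38 zd48) (kd xd5 yd22 zd31) (kd xd8 yd2 zd50) (kd xd1 yd57 zd20) (kd xd2 yd24 zd11) (kd xd2 yd6 zd61) (kd xd8 yd2 zd58) (kd xd2 yd24 zd7) (kd xd4 yd20 zd3) (kd xd4 yd4 zd15) (kd xd4 yd1 zd10) (kd xd2 yd3 zd15) (kd xd5 yd9 zd20) (kd xd2 yd8 zd28) (kd xd8 yd3 zd14) (kd xd8 yd3 zd15) (kd xd8 yd3 zd16) (kd xd1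 yd57 zd33) (kd xd6 yd25 zd32) (kd xd5 yd9 zd21) (kd xd5 yd4 zd54) (kd xd8 yd3 zd23) (kd xd1 yd57 zd37) (kd xd8 yd3 zd27) (kd xd1 yd57 zd39) (kd xd8 yd3 zd30) (kd xd1 yd57 zd40) (kd xd8 yd3 zd33) (kd xd8 yd3 zd34) (kd xd1 yd57 zd42) (kd xd8 yd3 zd40) (kd xd1 yd57 zd43) (kd xd8 yd3 zd43) (kd xd1 yd57 zd44) (kd xd2 yd0 zd1) (kd xd2 yd4 zd3) (kd xd4 yd1 zd56) (kd xd4 yd23 zd53) (kd xd1 yd57 zd46) (kd xd1 yd57 zd47) (kd xd2 yd26 zd7) (kd xd8 yd3 zd61) (kd xd2 yd24 zd20) (kd xd8 yd4 zd4) (kd xd8 yd4 zd7) (kd xd1 yd57 zd50) (kd xd7 yd56 zd7) (kd xd8 yd4 zd11) (kd xd4 yd4 zd24) (kd xd2 yd8 zd36) (kd xd8 yd4 zd17) (kd xd2 yd8 zd38) (kd xd8 yd4 zd22) (kd xd8 yd4 zd25) (kd xd8 yd4 zd30) (kd xd1 yd57 zd53) (kd xd4 yd1 zd36) (kd xd4 yd1 zd57) (kd xd2 yd7 zd44) (kd xd2 yd8 zd18)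 (kd xd8 yd4 zd32) (kd xd3 yd57 zd4)) (@D3.rec (fun _ => Pt) (kd xd8 yd3 zd36) (kd xd8 yd3 zd35) (kd xd8 yd3 zd28) (kd xd1 yd57 zd59) (kd xd8 yd4 zd33) (kd xd5 yd12 zd42) (kd xd8 yd4 zd49) (kd xd1 yd58 zd1) (kd xd1 yd58 zd3) (kd xd7 yd19 zd19) (kd xd1 yd58 zd4) (kd xd5 yd53 zd16) (kd xd8 yd4 zd56) (kd xd1 yd58 zd6) (kd xd1 yd58 zd7) (kd xd8 yd4 zd59) (kd xd8 yd5 zd1) (kd xd8 yd5 zd6) (kd xd8 yd5 zd8) (kd xd1 yd58 zd8) (kd xd8 yd5 zd13) (kd xd1 yd59 zd29) (kd xd1 yd59 zd31) (kd xd2 yd31 zd48) (kd xd3 yd3 zd61) (kd xd1 yd58 zd10) (kd xd8 yd5 zd25) (kd xd4 yd19 zd9) (kd xd2 yd8 zd17) (kd xd8 yd5 zd35) (kd xd1 yd58 zd14) (kd xd4 yd13 zd33) (kd xd4 yd2 zd32) (kd xd1 yd58 zd16) (kd xd2 yd23 zd23) (kd xd8 yd5 zd45) (kd xd1 yd58 zd18) (kd xd4 yd3 zd27) (kd xd3 yd56 zd60) (kd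 xd8 yd5 zd57) (kd xd1 yd58 zd21) (kd xd4 yd4 zd57) (kd xd4 yd2 zd42) (kd xd1 yd58 zd23) (kd xd4 yd13 zd46) (kd xd8 yd6 zd5) (kd xd4 yd15 zd12) (kd xd2 yd4 zd52) (kd xd8 yd6 zd9) (kd xd1 yd58 zd26) (kd xd5 yd15 zd40) (kd xd8 yd6 zd15) (kd xd8 yd6 zd18) (kd xd8 yd6 zd23) (kd xd1 yd58 zd27) (kd xd8 yd6 zd29) (kd xd4 yd2 zd56) (kd xd2 yd43 zd55) (kd xd2 yd43 zd58) (kd xd8 yd6 zd35) (kd xd2 yd38 zd50) (kd xd4 yd29 zd4)) (@D3.rec (fun _ => Pt) (kd xd2 yd36 zd60) (kd xd1 yd58 zd31) (kd xd5 yd18 zd60) (kd xd8 yd6 zd43) (kd xd8 yd6 zd46) (kd xd2 yd34 zd43) (kd xd1 yd58 zd33) (kd xd5 yd15 zd11) (kd xd8 yd6 zd50) (kd xd1 yd58 zd34) (kd xd4 yd21 zd45) (kd xd8 yd6 zd56) (kd xd5 yd22 zd29) (kd xd8 yd6 zd61) (kd xd8 yd7 zd2) (kd xd8 yd7 zd7) (kd xd1 yd58 zd36) (kd xd8 yd7 zd12) (kd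 xd4 yd3 zd18) (kd xd4 yd17 zd16) (kd xd8 yd7 zd17) (kd xd2 yd37 zd31) (kd xd5 yd9 zd31) (kd xd2 yd36 zd48) (kd xd2 yd45 zd30) (kd xd2 yd8 zd23) (kd xd2 yd45 zd29) (kd xd4 yd2 zd37) (kd xd4 yd4 zd2) (kd xd8 yd7 zd34) (kd xd8 yd7 zd37) (kd xd5 yd28 zd4) (kd xd1 yd58 zd43) (kd xd8 yd7 zd43) (kd xd5 yd6 zd46) (kd xd1 yd58 zd47) (kd xd1 yd58 zd48) (kd xd4 yd8 zd58) (kd xd4 yd52 zd51) (kd xd2 yd1 zd52) (kd xd8 yd7 zd50) (kd xd8 yd7 zd54) (kd xd2 yd8 zd7) (kd xd2 yd2 zd2) (kd xd1 yd58 zd50) (kd xd4 yd8 zd57) (kd xd4 yd3 zd55) (kd xd8 yd7 zd60) (kd xd8 yd8 zd1) (kd xd7 yd55 zd25) (kd xd1 yd58 zd52) (kd xd8 yd8 zd7) (kd xd8 yd8 zd9) (kd xd8 yd8 zd12) (kd xd5 yd5 zd21) (kd xd4 yd3 zd46) (kd xd8 yd8 zd22) (kd xd8 yd8 zd26) (kd xd8 yd8 zd28) (kd xd1 yd58 zd58) (kd xd8 yd8 zd32)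 (kd xd2 yd37 zd20)) (@D3.rec (fun _ => Pt) (kd xd8 yd8 zd35) (kd xd5 yd4 zd52) (kd xd4 yd3 zd28) (kd xd8 yd8 zd46) (kd xd8 yd8 zd49) (kd xd8 yd8 zd53) (kd xd5 yd5 zd3) (kd xd4 yd4 zd39) (kd xd8 yd8 zd58) (kd xd4 yd4 zd25) (kd xd8 yd9 zd3) (kd xd8 yd9 zd9) (kd xd8 yd9 zd14) (kd xd8 yd9 zd16) (kd xd1 yd59 zd2) (kd xd4 yd1 zd9) (kd xd8 yd7 zd11) (kd xd8 yd9 zd27) (kd xd8 yd9 zd29) (kd xd8 yd9 zd33) (kd xd2 yd45 zd27) (kd xd2 yd26 zd15) (kd xd4 yd12 zd7) (kd xd2 yd45 zd24) (kd xd4 yd1 zd48) (kd xd4 yd4 zd9) (kd xd8 yd9 zd49) (kd xd5 yd35 zd22) (kd xd5 yd35 zd21) (kd xd1 yd59 zd9) (kd xd5 yd53 zd22) (kd xd8 yd9 zd59) (kd xd1 yd59 zd10) (kd xd8 yd9 zd60) (kd xd2 yd37 zd40) (kd xd1 yd59 zd17) (kd xd5 yd35 zd51) (kd xd4 yd51 zd9) (kd xd4 yd18 zd59) (kd xd4 yd4 zd7) (kd xd8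 yd10 zd9) (kd xd8 yd10 zd13) (kd xd2 yd23 zd39) (kd xd1 yd59 zd21) (kd xd8 yd10 zd20) (kd xd4 yd0 zd14) (kd xd8 yd10 zd22) (kd xd4 yd19 zd55) (kd xd8 yd10 zd27) (kd xd1 yd59 zd27) (kd xd8 yd5 zd15) (kd xd8 yd5 zd17) (kd xd8 yd10 zd33) (kd xd8 yd10 zd34) (kd xd8 yd10 zd35) (kd xd1 yd59 zd33) (kd xd8 yd10 zd39) (kd xd4 yd2 zd41) (kd xd3 yd9 zd49) (kd xd1 yd59 zd35) (kd xd1 yd59 zd36) (kd xd1 yd59 zd37)) (@D3.rec (fun _ => Pt) (kd xd8 yd10 zd49) (kd xd8 yd10 zd51) (kd xd1 yd59 zd40) (kd xd1 yd59 zd41) (kd xd2 yd44 zd25) (kd xd8 yd10 zd59) (kd xd1 yd59 zd43) (kd xd1 yd59 zd44) (kd xd2 yd39 zd2) (kd xd1 yd59 zd45) (kd xd4 yd51 zd39) (kd xd2 yd28 zd59) (kd xd8 yd11 zd12) (kd xd7 yd57 zd44) (kd xd1 yd59 zd48) (kd xd8 yd11 zd20) (kd xd5 yd2 zd54) (kd xd5 yd3 zd1) (kd xd8 yd11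 zd27) (kd xd4 yd19 zd29) (kd xd2 yd1 zd40) (kd xd8 yd11 zd34) (kd xd7 yd57 zd38) (kd xd8 yd11 zd40) (kd xd8 yd11 zd43) (kd xd1 yd59 zd53) (kd xd8 yd11 zd49) (kd xd4 yd5 zd27) (kd xd4 yd18 zd61) (kd xd8 yd11 zd57) (kd xd4 yd53 zd46) (kd xd2 yd3 zd57) (kd xd2 yd44 zd22) (kd xd2 yd25 zd60) (kd xd8 yd12 zd0) (kd xd8 yd3 zd46) (kd xd2 yd0 zd3) (kd xd5 yd50 zd44) (kd xd6 yd7 zd36) (kd xd6 yd7 zd37) (kd xd6 yd16 zd10) (kd xd2 yd0 zd6) (kd xd2 yd57 zd55) (kd xd2 yd0 zd8) (kd xd2 yd0 zd10) (kd xd5 yd53 zd13) (kd xd5 yd53 zd14) (kd xd8 yd12 zd15) (kd xd8 yd12 zd17) (kd xd5 yd14 zd15) (kd xd8 yd12 zd21) (kd xd2 yd0 zd13) (kd xd7 yd59 zd30) (kd xd8 yd12 zd25) (kd xd8 yd12 zd27) (kd xd8 yd12 zd29) (kd xd2 yd0 zd14) (kd xd8 yd12 zd33) (kd xd2 yd0 zd15) (kd xd4 yd58 zd17) (kd xd5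 yd7 zd24) (kd xd8 yd12 zd44)) (@D3.rec (fun _ => Pt) (kd xd2 yd49 zd45) (kd xd2 yd0 zd17) (kd xd4 yd7 zd1) (kd xd8 yd12 zd52) (kd xd6 yd22 zd5) (kd xd2 yd27 zd52) (kd xd2 yd49 zd48) (kd xd5 yd40 zd56) (kd xd2 yd0 zd21) (kd xd2 yd0 zd22) (kd xd8 yd12 zd60) (kd xd8 yd13 zd0) (kd xd2 yd0 zd25) (kd xd2 yd0 zd26) (kd xd4 yd13 zd23) (kd xd8 yd13 zd7) (kd xd2 yd0 zd28) (kd xd2 yd0 zd29) (kd xd4 yd28 zd27) (kd xd8 yd13 zd13) (kd xd2 yd0 zd30) (kd xd5 yd20 zd59) (kd xd2 yd25 zd4) (kd xd2 yd6 zd58) (kd xd8 yd13 zd23) (kd xd4 yd54 zd37) (kd xd2 yd0 zd33) (kd xd5 yd8 zd28) (kd xd2 yd0 zd34) (kd xd5 yd8 zd44) (kd xd8 yd13 zd34) (kd xd5 yd10 zd6) (kd xd4 yd54 zd47) (kd xd8 yd13 zd39) (kd xd4 yd13 zd2) (kd xd2 yd4 zd23) (kd xd8 yd13 zd46) (kd xd4 yd54 zd31) (kd xd8 yd13 zd51) (kd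 xd8 yd13 zd53) (kd xd8 yd13 zd58) (kd xd2 yd0 zd39) (kd xd8 yd14 zd2) (kd xd4 yd6 zd43) (kd xd8 yd14 zd7) (kd xd2 yd4 zd44) (kd xd5 yd27 zd20) (kd xd2 yd44 zd19) (kd xd3 yd58 zd43) (kd xd2 yd43 zd37) (kd xd8 yd14 zd14) (kd xd5 yd9 zd47) (kd xd5 yd14 zd27) (kd xd6 yd7 zd46) (kd xd8 yd14 zd20) (kd xd4 yd12 zd43) (kd xd8 yd14 zd26) (kd xd4 yd52 zd45) (kd xd2 yd7 zd19) (kd xd3 yd21 zd48) (kd xd2 yd50 zd10) (kd xd8 yd14 zd35)) (@D3.rec (fun _ => Pt) (kd xd2 yd0 zd51) (kd xd4 yd6 zd2) (kd xd3 yd58 zd48) (kd xd8 yd14 zd44) (kd xd8 yd12 zd11) (kd xd2 yd0 zd56) (kd xd8 yd14 zd46) (kd xd3 yd19 zd4) (kd xd7 yd24 zd60) (kd xd5 yd7 zd3) (kd xd3 yd21 zd16) (kd xd5 yd7 zd20) (kd xd5 yd7 zd4) (kd xd2 yd0 zd59) (kd xd5 yd53 zd1) (kd xd2 yd0 zd60) (kd xd2 yd27 zd7) (kd xd5 yd13 zd52)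 (kd xd2 yd17 zd38) (kd xd2 yd52 zd1) (kd xd2 yd1 zd0) (kd xd2 yd16 zd52) (kd xd2 yd58 zd8) (kd xd3 yd24 zd8) (kd xd8 yd14 zd57) (kd xd5 yd0 zd16) (kd xd3 yd59 zd55) (kd xd2 yd52 zd4) (kd xd5 yd39 zd60) (kd xd2 yd1 zd5) (kd xd2 yd1 zd6) (kd xd5 yd14 zd58) (kd xd2 yd1 zd7) (kd xd5 yd28 zd11) (kd xd2 yd23 zd21) (kd xd8 yd15 zd9) (kd xd2 yd1 zd9) (kd xd8 yd15 zd12) (kd xd4 yd29 zd49) (kd xd8 yd15 zd18) (kd xd4 yd16 zd1) (kd xd8 yd15 zd23) (kd xd8 yd15 zd26) (kd xd8 yd15 zd31) (kd xd2 yd1 zd13) (kd xd8 yd15 zd37) (kd xd4 yd7 zd46) (kd xd2 yd1 zd15) (kd xd5 yd5 zd17) (kd xd4 yd10 zd10) (kd xd2 yd11 zd2) (kd xd8 yd15 zd45) (kd xd2 yd1 zd17) (kd xd2 yd1 zd18) (kd xd5 yd15 zd16) (kd xd4 yd13 zd59) (kd xd8 yd15 zd53) (kd xd2 yd1 zd20) (kd xd8 yd15 zd57) (kd xd5 yd15 zd22) (kd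 xd2 yd34 zd24) (kd xd5 yd5 zd37)) (@D3.rec (fun _ => Pt) (kd xd8 yd16 zd0) (kd xd2 yd40 zd8) (kd xd8 yd16 zd6) (kd xd8 yd16 zd9) (kd xd8 yd16 zd14) (kd xd2 yd1 zd24) (kd xd8 yd16 zd20) (kd xd4 yd8 zd7) (kd xd2 yd1 zd26) (kd xd2 yd34 zd46) (kd xd2 yd1 zd27) (kd xd4 yd13 zd55) (kd xd4 yd9 zd23) (kd xd8 yd16 zd28) (kd xd2 yd34 zd48) (kd xd8 yd16 zd33) (kd xd2 yd40 zd12) (kd xd5 yd28 zd15) (kd xd8 yd16 zd39) (kd xd2 yd41 zd22) (kd xd8 yd16 zd44) (kd xd2 yd34 zd34) (kd xd8 yd16 zd49) (kd xd8 yd16 zd52) (kd xd8 yd16 zd57) (kd xd2 yd1 zd34) (kd xd8 yd6 zd27) (kd xd4 yd8 zd27) (kd xd5 yd15 zd14) (kd xd8 yd17 zd3) (kd xd5 yd19 zd44) (kd xd2 yd1 zd38) (kd xd4 yd55 zd4) (kd xd5 yd15 zd20) (kd xd8 yd6 zd25) (kd xd8 yd11 zd32) (kd xd5 yd15 zd17) (kd xd4 yd13 zd54) (kd xd8 yd17 zd18)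 (kd xd4 yd15 zd58) (kd xd8 yd17 zd24) (kd xd2 yd59 zd8) (kd xd8 yd17 zd27) (kd xd8 yd17 zd30) (kd xd8 yd17 zd35) (kd xd2 yd1 zd43) (kd xd8 yd17 zd42) (kd xd8 yd17 zd45) (kd xd5 yd5 zd46) (kd xd2 yd1 zd44) (kd xd8 yd17 zd50) (kd xd8 yd17 zd53) (kd xd2 yd1 zd48) (kd xd2 yd1 zd49) (kd xd4 yd10 zd5) (kd xd2 yd1 zd50) (kd xd4 yd18 zd42) (kd xd4 yd3 zd45) (kd xd4 yd3 zd37) (kd xd8 yd18 zd0) (kd xd8 yd7 zd48) (kd xd2 yd40 zd13)) (@D3.rec (fun _ => Pt) (kd xd2 yd1 zd53) (kd xd7 yd56 zd5) (kd xd8 yd6 zd26) (kd xd8 yd18 zd11) (kd xd2 yd23 zd37) (kd xd2 yd1 zd55) (kd xd4 yd51 zd0) (kd xd8 yd18 zd17) (kd xd2 yd1 zd56) (kd xd8 yd18 zd22) (kd xd5 yd26 zd29) (kd xd4 yd14 zd58) (kd xd2 yd1 zd57) (kd xd8 yd18 zd29) (kd xd8 yd18 zd31) (kd xd8 yd18 zd33) (kd xd2 yd1 zd60) (kd xd4 yd19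 zd14) (kd xd8 yd17 zd37) (kd xd8 yd17 zd38) (kd xd8 yd18 zd43) (kd xd2 yd1 zd61) (kd xd8 yd18 zd50) (kd xd4 yd8 zd12) (kd xd5 yd0 zd35) (kd xd8 yd18 zd54) (kd xd5 yd35 zd7) (kd xd2 yd2 zd1) (kd xd2 yd41 zd21) (kd xd2 yd37 zd15) (kd xd8 yd18 zd60) (kd xd8 yd19 zd2) (kd xd8 yd19 zd7) (kd xd2 yd2 zd3) (kd xd8 yd19 zd12) (kd xd5 yd0 zd36) (kd xd5 yd17 zd60) (kd xd5 yd17 zd61) (kd xd2 yd2 zd5) (kd xd8 yd19 zd19) (kd xd8 yd19 zd24) (kd xd4 yd55 zd8) (kd xd2 yd2 zd6) (kd xd8 yd19 zd30) (kd xd8 yd19 zd35) (kd xd2 yd2 zd7) (kd xd8 yd19 zd38) (kd xd8 yd19 zd43) (kd xd8 yd19 zd46) (kd xd8 yd19 zd47) (kd xd2 yd2 zd8) (kd xd8 yd19 zd52) (kd xd8 yd6 zd1) (kd xd2 yd41 zd5) (kd xd2 yd40 zd55) (kd xd4 yd16 zd36) (kd xd2 yd2 zd10) (kd xd8 yd20 zd4) (kd xd8 yd20 zd6) (kd xd8 yd20 zd10)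 (kd xd7 yd58 zd38) (kd xd4 yd9 zd61)) (@D3.rec (fun _ => Pt) (kd xd8 yd20 zd16) (kd xd4 yd27 zd25) (kd xd2 yd33 zd24) (kd xd2 yd10 zd50) (kd xd2 yd2 zd15) (kd xd4 yd8 zd54) (kd xd7 yd58 zd36) (kd xd8 yd20 zd28) (kd xd5 yd4 zd49) (kd xd2 yd2 zd17) (kd xd4 yd7 zd49) (kd xd8 yd20 zd31) (kd xd4 yd27 zd33) (kd xd8 yd20 zd36) (kd xd5 yd20 zd18) (kd xd8 yd20 zd41) (kd xd8 yd20 zd44) (kd xd8 yd20 zd49) (kd xd2 yd2 zd20) (kd xd8 yd20 zd56) (kd xd5 yd19 zd19) (kd xd5 yd19 zd18) (kd xd5 yd18 zd35) (kd xd4 yd17 zd5) (kd xd6 yd29 zd15) (kd xd4 yd12 zd44) (kd xd8 yd21 zd6) (kd xd4 yd17 zd7) (kd xd4 yd17 zd8) (kd xd4 yd11 zd36) (kd xd3 yd6 zd34) (kd xd3 yd1 zd6) (kd xd4 yd41 zd42) (kd xd3 yd1 zd38) (kd xd5 yd5 zd48) (kd xd4 yd17 zd11) (kd xd2 yd2 zd33) (kd xd8 yd21 zd13) (kd xd4 yd10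 zd38) (kd xd8 yd21 zd16) (kd xd2 yd37 zd57) (kd xd2 yd38 zd23) (kd xd7 yd23 zd21) (kd xd2 yd58 zd41) (kd xd8 yd21 zd19) (kd xd8 yd21 zd22) (kd xd8 yd21 zd27) (kd xd2 yd2 zd38) (kd xd8 yd21 zd33) (kd xd5 yd21 zd53) (kd xd2 yd2 zd39) (kd xd8 yd21 zd39) (kd xd5 yd24 zd60) (kd xd4 yd17 zd30) (kd xd4 yd17 zd31) (kd xd4 yd11 zd14) (kd xd8 yd21 zd44) (kd xd6 yd28 zd16) (kd xd4 yd17 zd59) (kd xd4 yd18 zd13) (kd xd8 yd21 zd50) (kd xd2 yd2 zd46)) (@D3.rec (fun _ => Pt) (kd xd5 yd33 zd16) (kd xd8 yd21 zd56) (kd xd2 yd38 zd28) (kd xd8 yd20 zd51) (kd xd8 yd20 zd52) (kd xd8 yd22 zd5) (kd xd2 yd2 zd49) (kd xd8 yd22 zd12) (kd xd8 yd22 zd16) (kd xd5 yd25 zd49) (kd xd2 yd2 zd50) (kd xd2 yd38 zd27) (kd xd4 yd11 zd34) (kd xd4 yd11 zd35) (kd xd4 yd10 zd55) (kd xd3 yd16 zd2) (kd xd3 yd10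 zd36) (kd xd6 yd34 zd49) (kd xd2 yd2 zd52) (kd xd3 yd15 zd58) (kd xd8 yd22 zd27) (kd xd2 yd2 zd53) (kd xd2 yd40 zd35) (kd xd8 yd22 zd30) (kd xd8 yd22 zd32) (kd xd2 yd36 zd20) (kd xd8 yd21 zd28) (kd xd8 yd21 zd29) (kd xd8 yd22 zd42) (kd xd2 yd2 zd58) (kd xd8 yd22 zd49) (kd xd5 yd18 zd33) (kd xd5 yd18 zd34) (kd xd5 yd12 zd8) (kd xd4 yd11 zd12) (kd xd4 yd11 zd13) (kd xd4 yd10 zd29) (kd xd3 yd8 zd58) (kd xd2 yd2 zd61) (kd xd3 yd10 zd32) (kd xd2 yd40 zd36) (kd xd5 yd18 zd37) (kd xd3 yd9 zd29) (kd xd3 yd9 zd30) (kd xd4 yd13 zd18) (kd xd8 yd23 zd5) (kd xd2 yd6 zd32) (kd xd8 yd23 zd9) (kd xd8 yd23 zd14) (kd xd8 yd23 zd18) (kd xd2 yd3 zd5) (kd xd6 yd20 zd36) (kd xd8 yd23 zd24) (kd xd7 yd4 zd3) (kd xd8 yd23 zd30) (kd xd2 yd3 zd6) (kd xd3 yd28 zd38) (kd xd2 yd3 zd7) (kd xd8 yd21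 zd0) (kd xd8 yd21 zd1) (kd xd8 yd23 zd41) (kd xd4 yd12 zd0)) (@D3.rec (fun _ => Pt) (kd xd4 yd11 zd61) (kd xd6 yd20 zd58) (kd xd8 yd23 zd47) (kd xd8 yd23 zd49) (kd xd8 yd23 zd52) (kd xd2 yd3 zd12) (kd xd2 yd39 zd44) (kd xd4 yd4 zd22) (kd xd5 yd17 zd14) (kd xd2 yd3 zd17) (kd xd2 yd3 zd18) (kd xd2 yd3 zd19) (kd xd8 yd24 zd0) (kd xd4 yd12 zd13) (kd xd8 yd24 zd4) (kd xd5 yd3 zd43) (kd xd2 yd28 zd60) (kd xd2 yd32 zd18) (kd xd2 yd25 zd29) (kd xd8 yd24 zd11) (kd xd7 yd57 zd40) (kd xd4 yd19 zd50) (kd xd8 yd24 zd19) (kd xd8 yd10 zd56) (kd xd8 yd24 zd24) (kd xd8 yd24 zd27) (kd xd8 yd24 zd31) (kd xd2 yd3 zd25) (kd xd2 yd18 zd34) (kd xd8 yd24 zd40) (kd xd8 yd24 zd43) (kd xd5 yd3 zd50) (kd xd8 yd24 zd45) (kd xd5 yd9 zd35) (kd xd3 yd58 zd8) (kd xd8 yd24 zd47) (kd xd2 yd12 zd41) (kd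 xd2 yd45 zd55) (kd xd8 yd22 zd25) (kd xd8 yd11 zd58) (kd xd7 yd58 zd52) (kd xd2 yd12 zd48) (kd xd8 yd10 zd28) (kd xd4 yd6 zd55) (kd xd4 yd10 zd25) (kd xd8 yd24 zd61) (kd xd4 yd19 zd0) (kd xd3 yd11 zd28) (kd xd5 yd8 zd41) (kd xd2 yd18 zd14) (kd xd5 yd9 zd61) (kd xd2 yd18 zd16) (kd xd4 yd19 zd3) (kd xd4 yd19 zd27) (kd xd4 yd54 zd43) (kd xd2 yd3 zd44) (kd xd8 yd25 zd8) (kd xd4 yd12 zd57) (kd xd8 yd25 zd11) (kd xd4 yd54 zd55) (kd xd2 yd25 zd11) (kd xd4 yd30 zd52)) (@D3.rec (fun _ => Pt) (kd xd4 yd19 zd6) (kd xd8 yd25 zd16) (kd xd4 yd6 zd34) (kd xd2 yd25 zd27) (kd xd8 yd25 zd20) (kd xd2 yd25 zd31) (kd xd8 yd25 zd25) (kd xd8 yd25 zd28) (kd xd8 yd25 zd33) (kd xd2 yd3 zd50) (kd xd8 yd25 zd38) (kd xd8 yd11 zd31) (kd xd5 yd36 zd17) (kd xd2 yd25 zd32) (kd xd2 yd38 zd60) (kd xd2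 yd32 zd6) (kd xd3 yd11 zd57) (kd xd3 yd8 zd46) (kd xd4 yd11 zd44) (kd xd2 yd19 zd8) (kd xd8 yd11 zd55) (kd xd6 yd32 zd15) (kd xd2 yd41 zd3) (kd xd4 yd6 zd14) (kd xd2 yd4 zd0) (kd xd8 yd25 zd47) (kd xd4 yd14 zd50) (kd xd8 yd3 zd48) (kd xd8 yd25 zd54) (kd xd8 yd25 zd56) (kd xd8 yd25 zd58) (kd xd2 yd4 zd5) (kd xd8 yd26 zd1) (kd xd4 yd2 zd31) (kd xd2 yd16 zd51) (kd xd2 yd4 zd7) (kd xd2 yd4 zd8) (kd xd2 yd4 zd9) (kd xd5 yd17 zd12) (kd xd8 yd6 zd3) (kd xd8 yd26 zd13) (kd xd2 yd4 zd11) (kd xd2 yd4 zd12) (kd xd8 yd26 zd15) (kd xd2 yd4 zd13) (kd xd5 yd17 zd13) (kd xd4 yd2 zd44) (kd xd8 yd26 zd20) (kd xd2 yd4 zd15) (kd xd2 yd4 zd16) (kd xd2 yd35 zd28) (kd xd5 yd29 zd23) (kd xd8 yd26 zd25) (kd xd2 yd4 zd18) (kd xd4 yd8 zd37) (kd xd4 yd8 zd11) (kd xd8 yd26 zd30) (kd xd2 yd4 zd20)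 (kd xd2 yd4 zd21) (kd xd4 yd7 zd55) (kd xd2 yd40 zd58) (kd xd8 yd26 zd36)) (@D3.rec (fun _ => Pt) (kd xd8 yd13 zd44) (kd xd2 yd35 zd27) (kd xd2 yd4 zd24) (kd xd5 yd29 zd35) (kd xd2 yd4 zd25) (kd xd2 yd43 zd39) (kd xd8 yd26 zd45) (kd xd5 yd29 zd37) (kd xd4 yd22 zd17) (kd xd8 yd26 zd50) (kd xd8 yd26 zd54) (kd xd4 yd50 zd32) (kd xd8 yd26 zd58) (kd xd8 yd27 zd0) (kd xd8 yd27 zd3) (kd xd8 yd27 zd8) (kd xd2 yd4 zd30) (kd xd8 yd27 zd13) (kd xd4 yd14 zd18) (kd xd8 yd27 zd18) (kd xd4 yd56 zd1) (kd xd8 yd27 zd24) (kd xd4 yd22 zd44) (kd xd8 yd27 zd32) (kd xd2 yd4 zd34) (kd xd8 yd7 zd10) (kd xd4 yd14 zd26) (kd xd2 yd42 zd54) (kd xd8 yd27 zd41) (kd xd2 yd43 zd51) (kd xd2 yd43 zd50) (kd xd2 yd4 zd37) (kd xd8 yd27 zd48) (kd xd8 yd27 zd50) (kd xd8 yd27 zd52) (kd xd5 yd8 zd52) (kd xd2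 yd45 zd31) (kd xd8 yd28 zd1) (kd xd8 yd28 zd4) (kd xd8 yd28 zd5) (kd xd2 yd4 zd42) (kd xd8 yd28 zd9) (kd xd8 yd28 zd12) (kd xd4 yd56 zd5) (kd xd4 yd56 zd6) (kd xd8 yd14 zd10) (kd xd8 yd28 zd20) (kd xd8 yd28 zd25) (kd xd8 yd28 zd27) (kd xd2 yd4 zd45) (kd xd4 yd13 zd26) (kd xd8 yd27 zd34) (kd xd8 yd28 zd35) (kd xd8 yd28 zd36) (kd xd8 yd28 zd38) (kd xd8 yd28 zd41) (kd xd2 yd42 zd18) (kd xd8 yd28 zd47) (kd xd4 yd9 zd11) (kd xd8 yd28 zd53) (kd xd8 yd28 zd56) (kd xd8 yd28 zd61)) (@D3.rec (fun _ => Pt) (kd xd2 yd4 zd53) (kd xd8 yd29 zd4) (kd xd4 yd15 zd2) (kd xd2 yd4 zd55) (kd xd2 yd37 zd55) (kd xd8 yd29 zd9) (kd xd2 yd4 zd57) (kd xd8 yd29 zd12) (kd xd5 yd17 zd30) (kd xd2 yd35 zd17) (kd xd5 yd12 zd14) (kd xd8 yd29 zd15) (kd xd4 yd2 zd46) (kd xd8 yd29 zd20) (kd xd8 yd29 zd23)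 (kd xd8 yd29 zd28) (kd xd2 yd4 zd61) (kd xd5 yd16 zd11) (kd xd4 yd15 zd18) (kd xd2 yd5 zd1) (kd xd2 yd35 zd41) (kd xd2 yd41 zd0) (kd xd8 yd29 zd37) (kd xd2 yd35 zd43) (kd xd8 yd29 zd42) (kd xd4 yd28 zd44) (kd xd2 yd38 zd21) (kd xd8 yd29 zd49) (kd xd4 yd29 zd13) (kd xd8 yd29 zd54) (kd xd2 yd35 zd33) (kd xd8 yd29 zd59) (kd xd8 yd30 zd0) (kd xd8 yd30 zd5) (kd xd2 yd5 zd8) (kd xd8 yd27 zd11) (kd xd4 yd15 zd36) (kd xd8 yd30 zd12) (kd xd2 yd40 zd60) (kd xd8 yd30 zd18) (kd xd2 yd39 zd39) (kd xd8 yd30 zd21) (kd xd8 yd30 zd24) (kd xd8 yd30 zd29) (kd xd2 yd5 zd12) (kd xd8 yd30 zd36) (kd xd8 yd19 zd17) (kd xd5 yd12 zd22) (kd xd2 yd5 zd13) (kd xd8 yd30 zd43) (kd xd8 yd30 zd45) (kd xd2 yd5 zd17) (kd xd4 yd54 zd49) (kd xd4 yd53 zd47) (kd xd8 yd30 zd49) (kd xd5 yd22 zd16) (kd xd2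 yd37 zd50) (kd xd8 yd27 zd10) (kd xd4 yd8 zd39) (kd xd8 yd30 zd61) (kd xd2 yd5 zd22) (kd xd8 yd31 zd4)) (@D3.rec (fun _ => Pt) (kd xd6 yd6 zd3) (kd xd4 yd7 zd40) (kd xd5 yd29 zd52) (kd xd8 yd30 zd31) (kd xd8 yd30 zd32) (kd xd8 yd31 zd15) (kd xd2 yd5 zd26) (kd xd8 yd31 zd22) (kd xd8 yd31 zd25) (kd xd8 yd31 zd27) (kd xd2 yd5 zd27) (kd xd4 yd29 zd12) (kd xd8 yd31 zd31) (kd xd5 yd19 zd0) (kd xd8 yd31 zd39) (kd xd2 yd5 zd29) (kd xd8 yd31 zd44) (kd xd5 yd15 zd57) (kd xd5 yd15 zd58) (kd xd2 yd5 zd30) (kd xd8 yd31 zd50) (kd xd8 yd31 zd55) (kd xd5 yd29 zd44) (kd xd2 yd5 zd31) (kd xd8 yd31 zd61) (kd xd8 yd32 zd5) (kd xd2 yd28 zd14) (kd xd2 yd5 zd32) (kd xd8 yd32 zd9) (kd xd8 yd31 zd60) (kd xd8 yd32 zd14) (kd xd8 yd32 zd15) (kd xd2 yd5 zd33) (kd xd8 yd26 zd32) (kd xd8 yd26 zd42)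 (kd xd2 yd41 zd49) (kd xd4 yd9 zd55) (kd xd2 yd5 zd35) (kd xd8 yd32 zd32) (kd xd8 yd32 zd34) (kd xd8 yd32 zd38) (kd xd2 yd5 zd37) (kd xd8 yd32 zd42) (kd xd4 yd16 zd43) (kd xd8 yd25 zd35) (kd xd2 yd36 zd40) (kd xd8 yd32 zd52) (kd xd2 yd36 zd59) (kd xd2 yd38 zd18) (kd xd8 yd32 zd59) (kd xd6 yd4 zd27) (kd xd8 yd22 zd43) (kd xd8 yd22 zd44) (kd xd8 yd33 zd8) (kd xd2 yd5 zd43) (kd xd8 yd33 zd14) (kd xd8 yd33 zd17) (kd xd8 yd33 zd20) (kd xd5 yd16 zd31) (kd xd5 yd1 zd0) (kd xd5 yd6 zd3) (kd xd8 yd19 zd28)) (@D3.rec (fun _ => Pt) (kd xd2 yd11 zd42) (kd xd2 yd41 zd45) (kd xd6 yd6 zd15) (kd xd2 yd42 zd37) (kd xd2 yd11 zd47) (kd xd4 yd10 zd23) (kd xd8 yd33 zd29) (kd xd4 yd10 zd27) (kd xd4 yd10 zd28) (kd xd4 yd18 zd10) (kd xd5 yd12 zd23) (kd xd4 yd10 zd35) (kd xd8 yd33 zd36) (kd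 xd4 yd17 zd13) (kd xd8 yd33 zd39) (kd xd4 yd27 zd47) (kd xd4 yd3 zd19) (kd xd4 yd52 zd52) (kd xd8 yd33 zd44) (kd xd2 yd37 zd29) (kd xd8 yd33 zd47) (kd xd2 yd11 zd11) (kd xd8 yd22 zd7) (kd xd8 yd22 zd8) (kd xd8 yd33 zd58) (kd xd2 yd6 zd1) (kd xd8 yd34 zd3) (kd xd6 yd5 zd1) (kd xd5 yd28 zd25) (kd xd2 yd11 zd13) (kd xd4 yd10 zd53) (kd xd4 yd10 zd54) (kd xd4 yd17 zd49) (kd xd3 yd15 zd9) (kd xd2 yd6 zd7) (kd xd3 yd17 zd1) (kd xd3 yd12 zd34) (kd xd8 yd34 zd13) (kd xd4 yd28 zd2) (kd xd8 yd33 zd9) (kd xd8 yd33 zd10) (kd xd8 yd34 zd24) (kd xd2 yd6 zd11) (kd xd8 yd34 zd30) (kd xd8 yd34 zd34) (kd xd8 yd34 zd38) (kd xd4 yd28 zd1) (kd xd4 yd18 zd8) (kd xd4 yd18 zd9) (kd xd4 yd17 zd32) (kd xd6 yd33 zd45) (kd xd3 yd15 zd45) (kd xd6 yd25 zd43) (kd xd2 yd6 zd14) (kd xd6 yd25 zd38) (kd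 xd8 yd34 zd47) (kd xd2 yd6 zd15) (kd xd3 yd7 zd10) (kd xd2 yd6 zd16) (kd xd4 yd10 zd58) (kd xd8 yd34 zd52) (kd xd4 yd27 zd13)) (@D3.rec (fun _ => Pt) (kd xd8 yd33 zd60) (kd xd8 yd33 zd61) (kd xd8 yd35 zd0) (kd xd2 yd6 zd19) (kd xd8 yd35 zd5) (kd xd5 yd16 zd29) (kd xd5 yd16 zd30) (kd xd5 yd5 zd29) (kd xd4 yd17 zd47) (kd xd4 yd17 zd48) (kd xd4 yd17 zd9) (kd xd2 yd19 zd38) (kd xd3 yd1 zd25) (kd xd4 yd10 zd59) (kd xd5 yd16 zd33) (kd xd4 yd18 zd19) (kd xd4 yd18 zd20) (kd xd3 yd11 zd37) (kd xd8 yd35 zd22) (kd xd4 yd18 zd15) (kd xd4 yd18 zd16) (kd xd3 yd11 zd6) (kd xd8 yd35 zd31) (kd xd8 yd35 zd35) (kd xd8 yd31 zd19) (kd xd2 yd6 zd30) (kd xd8 yd35 zd41) (kd xd6 yd18 zd42) (kd xd8 yd35 zd46) (kd xd2 yd6 zd31) (kd xd3 yd8 zd3) (kd xd8 yd35 zd50) (kd xd8 yd23 zd54) (kd xd2 yd6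 zd33) (kd xd2 yd59 zd13) (kd xd2 yd6 zd34) (kd xd2 yd6 zd35) (kd xd8 yd35 zd57) (kd xd4 yd18 zd38) (kd xd8 yd21 zd30) (kd xd4 yd54 zd23) (kd xd2 yd24 zd59) (kd xd4 yd8 zd56) (kd xd8 yd36 zd5) (kd xd4 yd54 zd33) (kd xd8 yd36 zd10) (kd xd8 yd13 zd5) (kd xd8 yd36 zd15) (kd xd5 yd44 zd15) (kd xd8 yd36 zd19) (kd xd2 yd6 zd41) (kd xd8 yd36 zd25) (kd xd8 yd36 zd28) (kd xd8 yd36 zd31) (kd xd5 yd10 zd58) (kd xd5 yd1 zd16) (kd xd8 yd3 zd56) (kd xd5 yd2 zd6) (kd xd5 yd2 zd50) (kd xd4 yd4 zd38) (kd xd8 yd36 zd34) (kd xd4 yd5 zd28)) (@D3.rec (fun _ => Pt) (kd xd4 yd12 zd46) (kd xd5 yd1 zd13) (kd xd5 yd2 zd42) (kd xd4 yd12 zd52) (kd xd2 yd28 zd9) (kd xd5 yd0 zd45) (kd xd4 yd13 zd0) (kd xd4 yd22 zd39) (kd xd8 yd13 zd1) (kd xd4 yd2 zd27) (kd xd3 yd57 zd1) (kd xd8 yd2 zd54) (kd xd8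 yd36 zd51) (kd xd8 yd36 zd54) (kd xd4 yd9 zd17) (kd xd2 yd7 zd0) (kd xd8 yd36 zd59) (kd xd3 yd57 zd2) (kd xd8 yd36 zd61) (kd xd8 yd37 zd0) (kd xd2 yd7 zd4) (kd xd2 yd7 zd5) (kd xd8 yd37 zd5) (kd xd4 yd19 zd23) (kd xd8 yd37 zd8) (kd xd7 yd57 zd55) (kd xd2 yd44 zd7) (kd xd4 yd12 zd53) (kd xd8 yd37 zd12) (kd xd4 yd5 zd19) (kd xd3 yd58 zd21) (kd xd8 yd37 zd16) (kd xd3 yd58 zd23) (kd xd8 yd37 zd21) (kd xd8 yd37 zd24) (kd xd8 yd37 zd26) (kd xd2 yd7 zd11) (kd xd8 yd37 zd29) (kd xd8 yd13 zd43) (kd xd2 yd7 zd12) (kd xd8 yd37 zd35) (kd xd3 yd58 zd24) (kd xd8 yd31 zd57) (kd xd2 yd23 zd40) (kd xd8 yd37 zd36) (kd xd8 yd14 zd24) (kd xd4 yd53 zd28) (kd xd4 yd53 zd35) (kd xd2 yd7 zd21) (kd xd8 yd17 zd9) (kd xd4 yd12 zd21) (kd xd2 yd43 zd42) (kd xd7 yd59 zd29) (kd xd5 yd40 zd41) (kd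 xd8 yd3 zd44) (kd xd4 yd4 zd47) (kd xd8 yd9 zd61) (kd xd4 yd51 zd29) (kd xd5 yd13 zd42) (kd xd8 yd37 zd55) (kd xd8 yd37 zd59) (kd xd2 yd7 zd28)) (@D3.rec (fun _ => Pt) (kd xd4 yd20 zd43) (kd xd4 yd20 zd1) (kd xd5 yd13 zd0) (kd xd4 yd1 zd8) (kd xd8 yd38 zd7) (kd xd2 yd7 zd31) (kd xd2 yd7 zd32) (kd xd8 yd38 zd10) (kd xd2 yd7 zd33) (kd xd3 yd32 zd18) (kd xd8 yd38 zd14) (kd xd8 yd38 zd16) (kd xd8 yd38 zd17) (kd xd2 yd7 zd34) (kd xd8 yd38 zd22) (kd xd3 yd59 zd58) (kd xd4 yd20 zd28) (kd xd2 yd9 zd48) (kd xd2 yd7 zd36) (kd xd4 yd54 zd53) (kd xd3 yd58 zd13) (kd xd8 yd38 zd34) (kd xd2 yd7 zd38) (kd xd8 yd38 zd37) (kd xd5 yd8 zd33) (kd xd8 yd23 zd57) (kd xd8 yd38 zd44) (kd xd2 yd7 zd41) (kd xd4 yd20 zd16) (kd xd4 yd20 zd29) (kd xd5 yd5 zd15) (kd xd8 yd4 zd36) (kd xd2 yd7 zd45)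 (kd xd2 yd7 zd46) (kd xd3 yd35 zd41) (kd xd8 yd38 zd56) (kd xd2 yd7 zd47) (kd xd8 yd38 zd58) (kd xd8 yd38 zd59) (kd xd2 yd7 zd48) (kd xd8 yd39 zd2) (kd xd2 yd24 zd44) (kd xd2 yd24 zd45) (kd xd4 yd20 zd0) (kd xd3 yd57 zd45) (kd xd2 yd7 zd50) (kd xd5 yd35 zd50) (kd xd7 yd55 zd32) (kd xd2 yd24 zd8) (kd xd8 yd39 zd21) (kd xd2 yd7 zd54) (kd xd7 yd57 zd4) (kd xd4 yd20 zd52) (kd xd8 yd39 zd27) (kd xd2 yd7 zd57) (kd xd4 yd21 zd20) (kd xd8 yd39 zd32) (kd xd4 yd21 zd30) (kd xd8 yd39 zd39) (kd xd2 yd7 zd60) (kd xd4 yd25 zd11) (kd xd4 yd20 zd61)) (@D3.rec (fun _ => Pt) (kd xd8 yd39 zd46) (kd xd2 yd8 zd1) (kd xd8 yd24 zd33) (kd xd8 yd25 zd34) (kd xd2 yd8 zd4) (kd xd5 yd17 zd23) (kd xd8 yd39 zd54) (kd xd8 yd39 zd57) (kd xd5 yd15 zd30) (kd xd2 yd8 zd6) (kd xd2 yd37 zd16) (kd xd8 yd39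 zd60) (kd xd5 yd23 zd36) (kd xd8 yd40 zd3) (kd xd8 yd40 zd8) (kd xd2 yd8 zd8) (kd xd8 yd24 zd32) (kd xd4 yd21 zd17) (kd xd8 yd40 zd15) (kd xd8 yd40 zd18) (kd xd4 yd20 zd55) (kd xd2 yd8 zd11) (kd xd2 yd38 zd12) (kd xd8 yd40 zd21) (kd xd5 yd1 zd2) (kd xd8 yd40 zd28) (kd xd2 yd8 zd13) (kd xd8 yd40 zd30) (kd xd4 yd21 zd28) (kd xd8 yd37 zd1) (kd xd4 yd20 zd57) (kd xd8 yd40 zd36) (kd xd8 yd40 zd41) (kd xd2 yd8 zd16) (kd xd8 yd40 zd45) (kd xd8 yd40 zd48) (kd xd8 yd40 zd50) (kd xd8 yd5 zd31) (kd xd2 yd36 zd57) (kd xd8 yd40 zd54) (kd xd5 yd22 zd33) (kd xd8 yd40 zd60) (kd xd2 yd8 zd22) (kd xd8 yd41 zd2) (kd xd8 yd41 zd5) (kd xd4 yd3 zd10) (kd xd8 yd7 zd25) (kd xd8 yd41 zd11) (kd xd2 yd8 zd24) (kd xd8 yd41 zd16) (kd xd8 yd41 zd19) (kd xd8 yd41 zd21) (kd xd2 yd8 zd25) (kd xd8 yd41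 zd25) (kd xd8 yd41 zd27) (kd xd5 yd19 zd9) (kd xd8 yd41 zd33) (kd xd2 yd8 zd27) (kd xd8 yd41 zd38) (kd xd8 yd41 zd41) (kd xd8 yd41 zd44) (kd xd8 yd3 zd13)) (@D3.rec (fun _ => Pt) (kd xd8 yd41 zd48) (kd xd2 yd8 zd29) (kd xd8 yd41 zd51) (kd xd8 yd41 zd57) (kd xd2 yd8 zd30) (kd xd8 yd41 zd60) (kd xd8 yd42 zd4) (kd xd8 yd42 zd9) (kd xd8 yd42 zd11) (kd xd2 yd8 zd31) (kd xd7 yd56 zd34) (kd xd2 yd8 zd37) (kd xd2 yd8 zd48) (kd xd8 yd40 zd31) (kd xd8 yd42 zd26) (kd xd8 yd42 zd28) (kd xd8 yd42 zd31) (kd xd4 yd14 zd8) (kd xd8 yd16 zd59) (kd xd8 yd4 zd15) (kd xd5 yd8 zd29) (kd xd2 yd31 zd38) (kd xd8 yd42 zd17) (kd xd8 yd42 zd43) (kd xd8 yd42 zd46) (kd xd8 yd4 zd20) (kd xd8 yd42 zd49) (kd xd2 yd8 zd40) (kd xd2 yd8 zd41) (kd xd5 yd42 zd42) (kd xd5 yd42 zd43) (kd xd8 yd42 zd54) (kd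 xd2 yd8 zd42) (kd xd8 yd43 zd0) (kd xd8 yd43 zd3) (kd xd4 yd25 zd0) (kd xd4 yd24 zd61) (kd xd2 yd8 zd44) (kd xd4 yd25 zd34) (kd xd4 yd19 zd7) (kd xd8 yd43 zd11) (kd xd5 yd38 zd57) (kd xd8 yd42 zd19) (kd xd8 yd43 zd19) (kd xd4 yd14 zd22) (kd xd5 yd38 zd61) (kd xd8 yd43 zd22) (kd xd8 yd43 zd24) (kd xd8 yd43 zd26) (kd xd2 yd8 zd50) (kd xd8 yd4 zd57) (kd xd8 yd42 zd56) (kd xd8 yd42 zd57) (kd xd8 yd43 zd35) (kd xd2 yd8 zd52) (kd xd8 yd43 zd41) (kd xd2 yd26 zd3) (kd xd2 yd26 zd2) (kd xd8 yd43 zd47) (kd xd8 yd43 zd49) (kd xd2 yd8 zd54) (kd xd6 yd13 zd61)) (@D3.rec (fun _ => Pt) (kd xd8 yd43 zd51) (kd xd8 yd43 zd52) (kd xd8 yd43 zd27) (kd xd8 yd43 zd28) (kd xd2 yd8 zd58) (kd xd3 yd36 zd38) (kd xd3 yd32 zd17) (kd xd3 yd39 zd26) (kd xd2 yd26 zd16) (kd xd8 yd44 zd2) (kd xd2 yd9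 zd2) (kd xd5 yd46 zd40) (kd xd8 yd44 zd5) (kd xd8 yd44 zd7) (kd xd2 yd9 zd3) (kd xd3 yd37 zd0) (kd xd8 yd44 zd15) (kd xd5 yd24 zd28) (kd xd8 yd44 zd18) (kd xd8 yd44 zd20) (kd xd2 yd9 zd6) (kd xd8 yd44 zd23) (kd xd8 yd44 zd22) (kd xd8 yd44 zd25) (kd xd8 yd44 zd27) (kd xd2 yd9 zd7) (kd xd7 yd41 zd53) (kd xd2 yd9 zd8) (kd xd8 yd42 zd47) (kd xd8 yd42 zd48) (kd xd8 yd44 zd44) (kd xd2 yd10 zd25) (kd xd2 yd9 zd10) (kd xd8 yd44 zd51) (kd xd2 yd26 zd4) (kd xd8 yd44 zd57) (kd xd4 yd0 zd22) (kd xd8 yd3 zd29) (kd xd7 yd55 zd60) (kd xd8 yd45 zd9) (kd xd8 yd45 zd13) (kd xd8 yd45 zd17) (kd xd2 yd10 zd34) (kd xd8 yd45 zd22) (kd xd2 yd9 zd16) (kd xd5 yd49 zd22) (kd xd8 yd2 zd22) (kd xd8 yd45 zd26) (kd xd2 yd9 zd17) (kd xd8 yd45 zd28) (kd xd8 yd45 zd31) (kd xd2 yd9 zd19) (kd xd2 yd9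 zd20) (kd xd4 yd1 zd37) (kd xd5 yd56 zd7) (kd xd5 yd13 zd11) (kd xd5 yd56 zd9) (kd xd8 yd45 zd39) (kd xd2 yd9 zd24) (kd xd2 yd9 zd44) (kd xd2 yd9 zd45) (kd xd8 yd45 zd48)) (@D3.rec (fun _ => Pt) (kd xd7 yd12 zd31) (kd xd3 yd27 zd2) (kd xd3 yd33 zd19) (kd xd3 yd32 zd36) (kd xd8 yd45 zd55) (kd xd8 yd45 zd58) (kd xd2 yd9 zd27) (kd xd8 yd46 zd0) (kd xd7 yd13 zd30) (kd xd8 yd46 zd1) (kd xd4 yd42 zd44) (kd xd8 yd46 zd2) (kd xd2 yd9 zd34) (kd xd8 yd46 zd6) (kd xd4 yd36 zd59) (kd xd2 yd9 zd35) (kd xd8 yd46 zd10) (kd xd2 yd9 zd36) (kd xd8 yd46 zd13) (kd xd2 yd9 zd49) (kd xd2 yd9 zd50) (kd xd5 yd59 zd46) (kd xd8 yd46 zd23) (kd xd2 yd9 zd38) (kd xd8 yd46 zd28) (kd xd8 yd46 zd31) (kd xd2 yd9 zd39) (kd xd8 yd46 zd35) (kd xd2 yd9 zd40) (kd xd3 yd3 zd36) (kd xd3 yd44 zd2) (kd xd2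 yd9 zd42) (kd xd2 yd9 zd43) (kd xd8 yd45 zd41) (kd xd8 yd46 zd41) (kd xd2 yd9 zd46) (kd xd8 yd46 zd44) (kd xd8 yd38 zd21) (kd xd8 yd46 zd50) (kd xd8 yd46 zd53) (kd xd8 yd38 zd29) (kd xd8 yd46 zd25) (kd xd8 yd46 zd16) (kd xd8 yd46 zd56) (kd xd2 yd9 zd51) (kd xd8 yd46 zd60) (kd xd3 yd57 zd37) (kd xd3 yd57 zd38) (kd xd5 yd58 zd16) (kd xd8 yd47 zd8) (kd xd8 yd47 zd10) (kd xd8 yd47 zd11) (kd xd2 yd9 zd53) (kd xd8 yd47 zd15) (kd xd8 yd47 zd17) (kd xd8 yd47 zd20) (kd xd2 yd9 zd54) (kd xd8 yd47 zd25) (kd xd2 yd9 zd55) (kd xd8 yd47 zd28) (kd xd2 yd9 zd56) (kd xd4 yd22 zd36)) (@D3.rec (fun _ => Pt) (kd xd4 yd22 zd35) (kd xd8 yd47 zd40) (kd xd2 yd9 zd58) (kd xd8 yd47 zd44) (kd xd2 yd9 zd59) (kd xd8 yd47 zd47) (kd xd2 yd9 zd60) (kd xd8 yd47 zd51) (kd xd8 yd47 zd54) (kd xd2 yd9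 zd61) (kd xd8 yd47 zd59) (kd xd4 yd20 zd60) (kd xd2 yd10 zd1) (kd xd8 yd48 zd0) (kd xd8 yd48 zd1) (kd xd2 yd10 zd2) (kd xd8 yd48 zd4) (kd xd8 yd48 zd6) (kd xd2 yd10 zd3) (kd xd8 yd48 zd9) (kd xd2 yd10 zd4) (kd xd7 yd8 zd27) (kd xd3 yd3 zd42) (kd xd3 yd3 zd43) (kd xd8 yd48 zd20) (kd xd8 yd48 zd24) (kd xd8 yd48 zd26) (kd xd8 yd48 zd29) (kd xd2 yd10 zd6) (kd xd7 yd8 zd28) (kd xd8 yd48 zd32) (kd xd8 yd48 zd34) (kd xd2 yd10 zd7) (kd xd8 yd48 zd39) (kd xd4 yd22 zd38) (kd xd3 yd4 zd25) (kd xd8 yd48 zd47) (kd xd2 yd10 zd9) (kd xd2 yd10 zd10) (kd xd8 yd48 zd52) (kd xd6 yd25 zd4) (kd xd2 yd10 zd11) (kd xd8 yd48 zd56) (kd xd8 yd48 zd57) (kd xd2 yd10 zd12) (kd xd8 yd48 zd61) (kd xd6 yd44 zd21) (kd xd5 yd49 zd60) (kd xd2 yd10 zd13) (kd xd8 yd49 zd3) (kd xd5 yd47 zd55) (kd xd2 yd16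 zd49) (kd xd5 yd50 zd15) (kd xd8 yd49 zd10) (kd xd2 yd10 zd16) (kd xd8 yd49 zd12) (kd xd2 yd10 zd15) (kd xd8 yd49 zd15) (kd xd8 yd49 zd16) (kd xd2 yd10 zd17) (kd xd8 yd49 zd19) (kd xd2 yd10 zd18)) (@D3.rec (fun _ => Pt) (kd xd8 yd49 zd22) (kd xd8 yd49 zd25) (kd xd8 yd49 zd28) (kd xd8 yd49 zd30) (kd xd2 yd10 zd20) (kd xd8 yd49 zd33) (kd xd2 yd48 zd56) (kd xd2 yd48 zd55) (kd xd3 yd17 zd52) (kd xd8 yd44 zd34) (kd xd4 yd39 zd34) (kd xd5 yd50 zd53) (kd xd8 yd49 zd49) (kd xd3 yd10 zd11) (kd xd8 yd49 zd55) (kd xd8 yd49 zd53) (kd xd6 yd31 zd22) (kd xd3 yd43 zd10) (kd xd8 yd50 zd3) (kd xd2 yd10 zd24) (kd xd8 yd50 zd7) (kd xd7 yd26 zd42) (kd xd8 yd50 zd11) (kd xd8 yd50 zd14) (kd xd8 yd44 zd48) (kd xd8 yd50 zd18) (kd xd8 yd50 zd20) (kd xd2 yd10 zd27) (kd xd4 yd0 zd36) (kd xd8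 yd50 zd29) (kd xd8 yd50 zd33) (kd xd8 yd50 zd35) (kd xd8 yd50 zd38) (kd xd2 yd10 zd29) (kd xd8 yd50 zd43) (kd xd2 yd18 zd47) (kd xd3 yd4 zd0) (kd xd3 yd3 zd16) (kd xd8 yd50 zd49) (kd xd8 yd50 zd52) (kd xd8 yd50 zd55) (kd xd2 yd10 zd31) (kd xd8 yd50 zd60) (kd xd8 yd51 zd2) (kd xd8 yd51 zd5) (kd xd2 yd10 zd32) (kd xd8 yd10 zd43) (kd xd8 yd51 zd16) (kd xd8 yd51 zd19) (kd xd2 yd10 zd33) (kd xd8 yd51 zd24) (kd xd8 yd51 zd26) (kd xd8 yd51 zd28) (kd xd8 yd51 zd31) (kd xd2 yd10 zd35) (kd xd2 yd10 zd36) (kd xd8 yd51 zd40) (kd xd2 yd10 zd37) (kd xd5 yd50 zd50) (kd xd5 yd0 zd30) (kd xd6 yd14 zd5) (kd xd8 yd51 zd51)) (@D3.rec (fun _ => Pt) (kd xd8 yd51 zd52) (kd xd2 yd10 zd39) (kd xd2 yd17 zd57) (kd xd6 yd13 zd38) (kd xd8 yd51 zd57) (kd xd2 yd10 zd41) (kd xd6 yd13 zd39) (kd xd2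 yd10 zd44) (kd xd2 yd10 zd45) (kd xd8 yd15 zd41) (kd xd8 yd52 zd3) (kd xd2 yd10 zd47) (kd xd8 yd52 zd6) (kd xd4 yd17 zd61) (kd xd8 yd52 zd10) (kd xd6 yd4 zd54) (kd xd8 yd52 zd16) (kd xd8 yd52 zd19) (kd xd8 yd52 zd24) (kd xd2 yd10 zd51) (kd xd8 yd11 zd47) (kd xd4 yd27 zd21) (kd xd6 yd24 zd34) (kd xd5 yd21 zd29) (kd xd8 yd52 zd33) (kd xd4 yd10 zd1) (kd xd8 yd52 zd39) (kd xd8 yd52 zd42) (kd xd8 yd52 zd47) (kd xd2 yd10 zd56) (kd xd8 yd52 zd53) (kd xd4 yd27 zd31) (kd xd8 yd24 zd34) (kd xd4 yd10 zd12) (kd xd8 yd52 zd59) (kd xd2 yd37 zd24) (kd xd8 yd53 zd2) (kd xd8 yd53 zd5) (kd xd8 yd53 zd10) (kd xd2 yd10 zd61) (kd xd8 yd40 zd10) (kd xd4 yd27 zd41) (kd xd8 yd34 zd0) (kd xd8 yd15 zd43) (kd xd5 yd12 zd34) (kd xd2 yd37 zd27) (kd xd8 yd53 zd22) (kd xd4 yd17 zd15) (kd xd8 yd53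 zd28) (kd xd2 yd34 zd56) (kd xd8 yd53 zd31) (kd xd8 yd53 zd34) (kd xd8 yd53 zd39) (kd xd2 yd11 zd5) (kd xd8 yd53 zd46) (kd xd5 yd20 zd33) (kd xd4 yd28 zd61) (kd xd2 yd11 zd6) (kd xd8 yd53 zd53) (kd xd8 yd53 zd56) (kd xd8 yd53 zd60) (kd xd2 yd11 zd10)) (@D3.rec (fun _ => Pt) (kd xd8 yd54 zd3) (kd xd4 yd17 zd46) (kd xd4 yd17 zd38) (kd xd8 yd33 zd50) (kd xd8 yd35 zd1) (kd xd8 yd54 zd12) (kd xd8 yd53 zd41) (kd xd8 yd53 zd42) (kd xd8 yd54 zd20) (kd xd2 yd11 zd14) (kd xd8 yd54 zd27) (kd xd8 yd54 zd30) (kd xd8 yd54 zd32) (kd xd2 yd11 zd15) (kd xd5 yd6 zd13) (kd xd8 yd54 zd38) (kd xd2 yd11 zd16) (kd xd8 yd54 zd43) (kd xd2 yd38 zd55) (kd xd2 yd38 zd56) (kd xd2 yd11 zd17) (kd xd7 yd46 zd19) (kd xd8 yd53 zd3) (kd xd4 yd51 zd23) (kd xd2 yd11 zd18) (kd xd8 yd54 zd51) (kd xd8 yd54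 zd61) (kd xd4 yd6 zd18) (kd xd2 yd11 zd19) (kd xd8 yd55 zd3) (kd xd8 yd55 zd9) (kd xd8 yd55 zd14) (kd xd8 yd55 zd16) (kd xd2 yd11 zd20) (kd xd8 yd55 zd21) (kd xd8 yd39 zd51) (kd xd8 yd17 zd57) (kd xd4 yd52 zd21) (kd xd6 yd5 zd23) (kd xd2 yd11 zd22) (kd xd8 yd55 zd35) (kd xd8 yd55 zd38) (kd xd8 yd55 zd41) (kd xd8 yd55 zd43) (kd xd4 yd15 zd25) (kd xd8 yd55 zd48) (kd xd5 yd17 zd5) (kd xd5 yd32 zd22) (kd xd5 yd32 zd23) (kd xd8 yd55 zd57) (kd xd2 yd11 zd26) (kd xd8 yd56 zd1) (kd xd5 yd27 zd34) (kd xd5 yd27 zd33) (kd xd6 yd6 zd23) (kd xd5 yd33 zd14) (kd xd8 yd56 zd10) (kd xd5 yd32 zd41) (kd xd5 yd32 zd42) (kd xd8 yd56 zd17) (kd xd2 yd11 zd33) (kd xd4 yd27 zd56)) (@D3.rec (fun _ => Pt) (kd xd5 yd35 zd3) (kd xd2 yd11 zd38) (kd xd8 yd56 zd24) (kd xd4 yd29 zd3) (kd xd4 yd2 zd61)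 (kd xd8 yd56 zd27) (kd xd2 yd34 zd45) (kd xd5 yd31 zd11) (kd xd5 yd31 zd12) (kd xd8 yd56 zd36) (kd xd2 yd11 zd41) (kd xd6 yd33 zd31) (kd xd4 yd16 zd11) (kd xd4 yd15 zd28) (kd xd8 yd31 zd7) (kd xd5 yd31 zd40) (kd xd5 yd31 zd41) (kd xd8 yd56 zd49) (kd xd2 yd11 zd43) (kd xd8 yd56 zd57) (kd xd5 yd36 zd18) (kd xd2 yd11 zd45) (kd xd8 yd56 zd59) (kd xd2 yd30 zd29) (kd xd8 yd55 zd58) (kd xd8 yd55 zd59) (kd xd8 yd57 zd5) (kd xd2 yd11 zd48) (kd xd8 yd57 zd10) (kd xd8 yd57 zd13) (kd xd8 yd57 zd16) (kd xd2 yd11 zd49) (kd xd5 yd6 zd22) (kd xd8 yd56 zd18) (kd xd8 yd56 zd19) (kd xd8 yd57 zd24) (kd xd2 yd11 zd50) (kd xd8 yd57 zd30) (kd xd4 yd32 zd3) (kd xd2 yd12 zd32) (kd xd2 yd45 zd8) (kd xd2 yd11 zd52) (kd xd8 yd57 zd37) (kd xd8 yd57 zd39) (kd xd2 yd11 zd53) (kd xd4 yd33 zd31) (kd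 xd2 yd11 zd54) (kd xd5 yd5 zd34) (kd xd5 yd28 zd59) (kd xd4 yd7 zd38) (kd xd8 yd57 zd51) (kd xd2 yd11 zd58) (kd xd8 yd57 zd56) (kd xd2 yd42 zd24) (kd xd2 yd42 zd25) (kd xd6 yd5 zd35) (kd xd8 yd56 zd51) (kd xd8 yd56 zd52) (kd xd8 yd58 zd4) (kd xd2 yd11 zd60) (kd xd2 yd52 zd37) (kd xd3 yd21 zd38)) (@D3.rec (fun _ => Pt) (kd xd2 yd22 zd31) (kd xd2 yd41 zd42) (kd xd2 yd42 zd38) (kd xd3 yd20 zd61) (kd xd8 yd58 zd16) (kd xd8 yd58 zd20) (kd xd8 yd58 zd21) (kd xd2 yd12 zd4) (kd xd8 yd58 zd26) (kd xd2 yd47 zd29) (kd xd2 yd12 zd6) (kd xd8 yd58 zd34) (kd xd8 yd58 zd37) (kd xd8 yd58 zd39) (kd xd8 yd58 zd42) (kd xd8 yd58 zd46) (kd xd2 yd12 zd7) (kd xd4 yd36 zd29) (kd xd4 yd36 zd30) (kd xd2 yd48 zd36) (kd xd8 yd58 zd55) (kd xd8 yd58 zd58) (kd xd8 yd58 zd61) (kd xd2 yd12 zd10) (kd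 xd8 yd59 zd6) (kd xd8 yd59 zd4) (kd xd8 yd59 zd11) (kd xd8 yd59 zd14) (kd xd2 yd12 zd11) (kd xd5 yd55 zd54) (kd xd2 yd12 zd12) (kd xd8 yd56 zd6) (kd xd8 yd56 zd7) (kd xd8 yd59 zd27) (kd xd6 yd6 zd49) (kd xd8 yd59 zd32) (kd xd2 yd12 zd23) (kd xd2 yd12 zd44) (kd xd8 yd59 zd35) (kd xd6 yd25 zd27) (kd xd6 yd25 zd28) (kd xd6 yd6 zd55) (kd xd5 yd55 zd28) (kd xd5 yd55 zd27) (kd xd2 yd12 zd18) (kd xd8 yd59 zd48) (kd xd5 yd14 zd53) (kd xd2 yd12 zd19) (kd xd2 yd35 zd53) (kd xd8 yd59 zd54) (kd xd5 yd14 zd52) (kd xd2 yd12 zd20) (kd xd4 yd12 zd61) (kd xd8 yd57 zd44) (kd xd2 yd29 zd13) (kd xd5 yd33 zd38) (kd xd5 yd33 zd39) (kd xd8 yd59 zd33) (kd xd4 yd31 zd14) (kd xd4 yd30 zd60) (kd xd4 yd30 zd59) (kd xd6 yd7 zd9)) (@D3.rec (fun _ => Pt) (kd xd2 yd47 zd61) (kd xd5 yd42 zd7) (kd xd2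 yd13 zd33) (kd xd2 yd26 zd38) (kd xd2 yd26 zd39) (kd xd4 yd57 zd10) (kd xd2 yd12 zd54) (kd xd2 yd12 zd55) (kd xd2 yd46 zd25) (kd xd6 yd4 zd13) (kd xd9 yd0 zd22) (kd xd9 yd0 zd25) (kd xd2 yd42 zd7) (kd xd4 yd35 zd9) (kd xd4 yd30 zd58) (kd xd4 yd36 zd35) (kd xd9 yd0 zd30) (kd xd4 yd31 zd17) (kd xd9 yd0 zd33) (kd xd2 yd28 zd30) (kd xd2 yd23 zd31) (kd xd9 yd0 zd37) (kd xd2 yd23 zd35) (kd xd9 yd0 zd42) (kd xd9 yd0 zd45) (kd xd9 yd0 zd50) (kd xd2 yd12 zd40) (kd xd9 yd0 zd55) (kd xd4 yd52 zd58) (kd xd4 yd0 zd15) (kd xd8 yd24 zd51) (kd xd5 yd33 zd6) (kd xd5 yd33 zd7) (kd xd8 yd59 zd24) (kd xd9 yd1 zd8) (kd xd2 yd12 zd45) (kd xd9 yd1 zd12) (kd xd4 yd53 zd24) (kd xd2 yd29 zd10) (kd xd2 yd23 zd51) (kd xd5 yd40 zd23) (kd xd5 yd40 zd26) (kd xd9 yd1 zd21) (kd xd2 yd12 zd51) (kd xd2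 yd12 zd60) (kd xd2 yd12 zd61) (kd xd3 yd43 zd25) (kd xd9 yd0 zd10) (kd xd9 yd0 zd13) (kd xd6 yd9 zd9) (kd xd2 yd12 zd57) (kd xd9 yd1 zd34) (kd xd9 yd1 zd36) (kd xd9 yd1 zd32) (kd xd2 yd12 zd58) (kd xd2 yd12 zd59) (kd xd9 yd1 zd22) (kd xd9 yd1 zd25) (kd xd9 yd1 zd40) (kd xd2 yd13 zd0) (kd xd5 yd48 zd42) (kd xd9 yd1 zd45)) (@D3.rec (fun _ => Pt) (kd xd9 yd1 zd49) (kd xd2 yd50 zd25) (kd xd2 yd13 zd2) (kd xd4 yd29 zd38) (kd xd5 yd31 zd54) (kd xd2 yd13 zd3) (kd xd9 yd1 zd56) (kd xd3 yd5 zd27) (kd xd9 yd1 zd57) (kd xd2 yd13 zd7) (kd xd9 yd1 zd60) (kd xd2 yd13 zd8) (kd xd2 yd13 zd9) (kd xd2 yd26 zd19) (kd xd9 yd2 zd7) (kd xd9 yd2 zd11) (kd xd2 yd13 zd11) (kd xd9 yd2 zd15) (kd xd9 yd2 zd17) (kd xd2 yd13 zd12) (kd xd9 yd2 zd21) (kd xd6 yd9 zd3) (kd xd9 yd2 zd23) (kd xd2 yd13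 zd15) (kd xd9 yd2 zd26) (kd xd9 yd2 zd27) (kd xd2 yd13 zd16) (kd xd9 yd2 zd30) (kd xd9 yd2 zd31) (kd xd2 yd13 zd17) (kd xd6 yd16 zd24) (kd xd9 yd2 zd34) (kd xd9 yd2 zd35) (kd xd2 yd13 zd18) (kd xd3 yd33 zd28) (kd xd2 yd26 zd8) (kd xd2 yd26 zd9) (kd xd9 yd2 zd44) (kd xd9 yd2 zd48) (kd xd3 yd5 zd23) (kd xd3 yd5 zd24) (kd xd2 yd13 zd20) (kd xd5 yd49 zd44) (kd xd2 yd42 zd48) (kd xd8 yd58 zd30) (kd xd2 yd13 zd21) (kd xd9 yd2 zd56) (kd xd4 yd37 zd23) (kd xd2 yd13 zd24) (kd xd9 yd2 zd60) (kd xd9 yd2 zd61) (kd xd2 yd13 zd25) (kd xd6 yd15 zd52) (kd xd9 yd3 zd2) (kd xd9 yd3 zd3) (kd xd9 yd3 zd4) (kd xd2 yd13 zd26) (kd xd9 yd3 zd7) (kd xd9 yd3 zd11) (kd xd9 yd2 zd2) (kd xd2 yd13 zd28) (kd xd5 yd49 zd42)) (@D3.rec (fun _ => Pt) (kd xd2 yd13 zd29) (kd xd3 yd36 zd45) (kd xd2 yd39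 zd0) (kd xd9 yd3 zd22) (kd xd9 yd3 zd24) (kd xd2 yd13 zd31) (kd xd2 yd44 zd31) (kd xd2 yd44 zd30) (kd xd5 yd24 zd18) (kd xd2 yd16 zd2) (kd xd3 yd4 zd61) (kd xd9 yd3 zd43) (kd xd5 yd33 zd10) (kd xd9 yd3 zd49) (kd xd6 yd25 zd25) (kd xd9 yd3 zd55) (kd xd9 yd3 zd59) (kd xd9 yd4 zd2) (kd xd2 yd13 zd35) (kd xd9 yd4 zd8) (kd xd5 yd24 zd19) (kd xd9 yd4 zd13) (kd xd9 yd4 zd17) (kd xd2 yd16 zd14) (kd xd9 yd4 zd22) (kd xd2 yd13 zd38) (kd xd2 yd49 zd8) (kd xd9 yd4 zd29) (kd xd5 yd32 zd1) (kd xd9 yd4 zd35) (kd xd9 yd4 zd37) (kd xd4 yd29 zd45) (kd xd3 yd58 zd55) (kd xd9 yd4 zd43) (kd xd6 yd7 zd39) (kd xd5 yd50 zd0) (kd xd8 yd21 zd52) (kd xd8 yd21 zd53) (kd xd2 yd42 zd59) (kd xd9 yd4 zd54) (kd xd9 yd4 zd57) (kd xd5 yd55 zd22) (kd xd2 yd13 zd44) (kd xd5 yd13 zd35) (kd xd9 yd5 zd1)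 (kd xd9 yd5 zd3) (kd xd2 yd13 zd45) (kd xd6 yd11 zd55) (kd xd9 yd5 zd10) (kd xd5 yd14 zd50) (kd xd2 yd13 zd46) (kd xd9 yd5 zd14) (kd xd3 yd21 zd12) (kd xd9 yd5 zd16) (kd xd9 yd5 zd19) (kd xd2 yd13 zd48) (kd xd2 yd13 zd61) (kd xd2 yd50 zd55) (kd xd2 yd14 zd22) (kd xd2 yd14 zd23) (kd xd9 yd0 zd15) (kd xd2 yd51 zd3)) (@D3.rec (fun _ => Pt) (kd xd9 yd5 zd31) (kd xd4 yd56 zd24) (kd xd4 yd56 zd25) (kd xd2 yd13 zd55) (kd xd9 yd5 zd39) (kd xd2 yd14 zd18) (kd xd5 yd52 zd47) (kd xd2 yd13 zd58) (kd xd2 yd46 zd40) (kd xd5 yd14 zd26) (kd xd2 yd30 zd53) (kd xd2 yd51 zd38) (kd xd2 yd51 zd34) (kd xd9 yd5 zd23) (kd xd2 yd14 zd0) (kd xd5 yd43 zd0) (kd xd2 yd14 zd3) (kd xd5 yd55 zd59) (kd xd6 yd3 zd29) (kd xd8 yd0 zd30) (kd xd5 yd7 zd55) (kd xd2 yd14 zd8) (kd xd9 yd5 zd48) (kd xd3 yd17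 zd42) (kd xd4 yd58 zd22) (kd xd3 yd50 zd29) (kd xd2 yd14 zd15) (kd xd2 yd14 zd27) (kd xd9 yd1 zd24) (kd xd2 yd14 zd28) (kd xd8 yd14 zd32) (kd xd6 yd51 zd41) (kd xd9 yd5 zd58) (kd xd9 yd5 zd61) (kd xd5 yd51 zd28) (kd xd9 yd5 zd52) (kd xd5 yd51 zd57) (kd xd3 yd13 zd23) (kd xd6 yd4 zd7) (kd xd2 yd14 zd17) (kd xd7 yd51 zd57) (kd xd2 yd33 zd37) (kd xd2 yd44 zd39) (kd xd2 yd59 zd44) (kd xd6 yd50 zd16) (kd xd6 yd49 zd36) (kd xd5 yd14 zd30) (kd xd9 yd6 zd13) (kd xd2 yd14 zd29) (kd xd5 yd51 zd23) (kd xd9 yd6 zd19) (kd xd2 yd14 zd31) (kd xd3 yd26 zd29) (kd xd9 yd6 zd25) (kd xd9 yd6 zd29) (kd xd9 yd6 zd33) (kd xd2 yd14 zd33) (kd xd9 yd6 zd38) (kd xd9 yd6 zd39) (kd xd2 yd14 zd34) (kd xd5 yd38 zd7) (kd xd5 yd38 zd6)) (@D3.rec (fun _ => Pt) (kd xd9 yd6 zd49) (kd xd2 yd14 zd36) (kd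 xd3 yd13 zd3) (kd xd2 yd14 zd38) (kd xd9 yd6 zd54) (kd xd9 yd6 zd55) (kd xd2 yd14 zd39) (kd xd2 yd14 zd41) (kd xd9 yd0 zd12) (kd xd4 yd31 zd13) (kd xd2 yd31 zd26) (kd xd9 yd7 zd2) (kd xd2 yd14 zd45) (kd xd2 yd14 zd47) (kd xd9 yd1 zd38) (kd xd2 yd14 zd49) (kd xd6 yd10 zd53) (kd xd2 yd59 zd25) (kd xd2 yd14 zd51) (kd xd9 yd7 zd13) (kd xd9 yd2 zd0) (kd xd3 yd15 zd33) (kd xd9 yd7 zd18) (kd xd9 yd7 zd20) (kd xd2 yd14 zd54) (kd xd9 yd7 zd23) (kd xd6 yd2 zd20) (kd xd2 yd14 zd55) (kd xd9 yd7 zd29) (kd xd9 yd7 zd30) (kd xd9 yd7 zd31) (kd xd2 yd14 zd56) (kd xd9 yd7 zd36) (kd xd9 yd7 zd37) (kd xd2 yd14 zd57) (kd xd9 yd7 zd39) (kd xd2 yd14 zd58) (kd xd2 yd16 zd57) (kd xd2 yd16 zd55) (kd xd9 yd7 zd49) (kd xd2 yd14 zd60) (kd xd4 yd38 zd58) (kd xd6 yd25 zd61) (kd xd4 yd49 zd17) (kd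 xd2 yd18 zd6) (kd xd2 yd15 zd2) (kd xd2 yd35 zd7) (kd xd2 yd55 zd0) (kd xd2 yd15 zd5) (kd xd4 yd44 zd32) (kd xd9 yd2 zd25) (kd xd5 yd50 zd42) (kd xd2 yd15 zd7) (kd xd5 yd27 zd13) (kd xd2 yd15 zd8) (kd xd9 yd8 zd4) (kd xd6 yd53 zd56) (kd xd5 yd27 zd10) (kd xd9 yd8 zd7) (kd xd2 yd15 zd10) (kd xd2 yd15 zd11) (kd xd9 yd8 zd12)) (@D3.rec (fun _ => Pt) (kd xd9 yd8 zd14) (kd xd9 yd8 zd17) (kd xd9 yd8 zd19) (kd xd2 yd15 zd13) (kd xd9 yd8 zd22) (kd xd2 yd15 zd14) (kd xd8 yd2 zd8) (kd xd2 yd15 zd15) (kd xd4 yd44 zd46) (kd xd9 yd8 zd30) (kd xd9 yd8 zd32) (kd xd9 yd8 zd33) (kd xd2 yd15 zd17) (kd xd9 yd8 zd37) (kd xd6 yd1 zd49) (kd xd6 yd0 zd40) (kd xd2 yd15 zd18) (kd xd9 yd8 zd43) (kd xd5 yd34 zd7) (kd xd5 yd34 zd20) (kd xd2 yd15 zd19) (kd xd9 yd8 zd52) (kd xd2 yd15 zd20) (kd xd9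 yd8 zd55) (kd xd2 yd15 zd21) (kd xd6 yd16 zd27) (kd xd6 yd16 zd14) (kd xd9 yd9 zd2) (kd xd2 yd15 zd23) (kd xd4 yd30 zd17) (kd xd4 yd30 zd18) (kd xd5 yd33 zd44) (kd xd4 yd39 zd4) (kd xd3 yd20 zd60) (kd xd2 yd15 zd27) (kd xd4 yd31 zd15) (kd xd2 yd54 zd4) (kd xd2 yd15 zd30) (kd xd2 yd15 zd31) (kd xd9 yd9 zd21) (kd xd7 yd30 zd36) (kd xd2 yd15 zd33) (kd xd2 yd15 zd34) (kd xd9 yd9 zd25) (kd xd2 yd15 zd35) (kd xd9 yd9 zd28) (kd xd2 yd49 zd54) (kd xd3 yd10 zd43) (kd xd8 yd0 zd0) (kd xd2 yd15 zd38) (kd xd2 yd15 zd37) (kd xd2 yd15 zd39) (kd xd9 yd9 zd34) (kd xd2 yd15 zd40) (kd xd9 yd9 zd37) (kd xd2 yd15 zd41) (kd xd9 yd9 zd42) (kd xd9 yd9 zd41) (kd xd2 yd49 zd59) (kd xd4 yd24 zd14) (kd xd7 yd26 zd43) (kd xd9 yd9 zd48)) (@D3.rec (fun _ => Pt) (kd xd2 yd15 zd44) (kd xd9 yd9 zd51)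 (kd xd9 yd9 zd52) (kd xd2 yd15 zd43) (kd xd9 yd9 zd55) (kd xd9 yd9 zd56) (kd xd6 yd38 zd56) (kd xd9 yd7 zd45) (kd xd6 yd44 zd23) (kd xd6 yd44 zd24) (kd xd2 yd19 zd17) (kd xd2 yd15 zd46) (kd xd9 yd10 zd8) (kd xd3 yd7 zd42) (kd xd6 yd49 zd32) (kd xd2 yd15 zd47) (kd xd7 yd30 zd37) (kd xd9 yd10 zd12) (kd xd2 yd15 zd49) (kd xd2 yd30 zd17) (kd xd9 yd10 zd18) (kd xd2 yd15 zd51) (kd xd2 yd15 zd52) (kd xd4 yd32 zd47) (kd xd2 yd57 zd57) (kd xd2 yd15 zd55) (kd xd3 yd13 zd35) (kd xd9 yd10 zd31) (kd xd9 yd10 zd33) (kd xd2 yd15 zd57) (kd xd9 yd10 zd37) (kd xd2 yd15 zd58) (kd xd9 yd10 zd42) (kd xd9 yd10 zd45) (kd xd2 yd15 zd59) (kd xd9 yd10 zd49) (kd xd2 yd15 zd60) (kd xd4 yd41 zd27) (kd xd7 yd25 zd2) (kd xd2 yd16 zd0) (kd xd3 yd51 zd29) (kd xd2 yd16 zd1) (kd xd9 yd10 zd61) (kd xd9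 yd11 zd3) (kd xd9 yd11 zd7) (kd xd9 yd3 zd37) (kd xd2 yd18 zd61) (kd xd9 yd11 zd12) (kd xd9 yd10 zd3) (kd xd9 yd10 zd4) (kd xd9 yd11 zd19) (kd xd9 yd11 zd22) (kd xd9 yd11 zd24) (kd xd2 yd16 zd5) (kd xd9 yd11 zd27) (kd xd6 yd28 zd52) (kd xd2 yd16 zd6) (kd xd9 yd11 zd32) (kd xd9 yd11 zd35) (kd xd9 yd11 zd37) (kd xd2 yd57 zd20) (kd xd9 yd11 zd42)) (@D3.rec (fun _ => Pt) (kd xd2 yd49 zd57) (kd xd2 yd16 zd8) (kd xd9 yd11 zd45) (kd xd2 yd54 zd34) (kd xd2 yd49 zd17) (kd xd2 yd16 zd9) (kd xd9 yd11 zd53) (kd xd3 yd2 zd3) (kd xd3 yd2 zd4) (kd xd8 yd48 zd50) (kd xd9 yd11 zd60) (kd xd9 yd12 zd2) (kd xd9 yd12 zd6) (kd xd2 yd16 zd11) (kd xd9 yd12 zd11) (kd xd9 yd12 zd15) (kd xd9 yd12 zd19) (kd xd2 yd16 zd12) (kd xd9 yd12 zd26) (kd xd9 yd12 zd29) (kd xd9 yd12 zd32) (kd xd2 yd16 zd13)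 (kd xd6 yd54 zd0) (kd xd9 yd12 zd37) (kd xd2 yd16 zd15) (kd xd5 yd5 zd59) (kd xd3 yd58 zd51) (kd xd9 yd12 zd46) (kd xd3 yd16 zd42) (kd xd9 yd12 zd51) (kd xd3 yd15 zd34) (kd xd3 yd1 zd49) (kd xd2 yd16 zd18) (kd xd9 yd12 zd60) (kd xd5 yd34 zd45) (kd xd9 yd13 zd2) (kd xd2 yd16 zd19) (kd xd9 yd13 zd6) (kd xd9 yd13 zd7) (kd xd2 yd16 zd20) (kd xd2 yd16 zd21) (kd xd5 yd57 zd19) (kd xd2 yd16 zd23) (kd xd9 yd13 zd15) (kd xd3 yd20 zd17) (kd xd9 yd8 zd41) (kd xd8 yd0 zd1) (kd xd2 yd16 zd25) (kd xd6 yd8 zd26) (kd xd9 yd13 zd27) (kd xd9 yd13 zd31) (kd xd2 yd16 zd26) (kd xd9 yd13 zd33) (kd xd2 yd16 zd27) (kd xd9 yd13 zd36) (kd xd2 yd16 zd28) (kd xd9 yd13 zd38) (kd xd5 yd55 zd15) (kd xd4 yd35 zd41) (kd xd6 yd3 zd34) (kd xd2 yd16 zd30) (kd xd9 yd4 zd60)) (@D3.rec (fun _ => Pt) (kd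 xd9 yd13 zd47) (kd xd9 yd13 zd50) (kd xd2 yd16 zd31) (kd xd6 yd8 zd28) (kd xd4 yd36 zd32) (kd xd5 yd45 zd58) (kd xd9 yd13 zd61) (kd xd4 yd39 zd53) (kd xd9 yd5 zd7) (kd xd9 yd14 zd1) (kd xd2 yd16 zd34) (kd xd5 yd7 zd11) (kd xd3 yd10 zd51) (kd xd2 yd58 zd10) (kd xd4 yd39 zd24) (kd xd3 yd0 zd22) (kd xd9 yd14 zd10) (kd xd2 yd16 zd37) (kd xd4 yd39 zd21) (kd xd5 yd50 zd43) (kd xd4 yd39 zd48) (kd xd4 yd39 zd18) (kd xd5 yd5 zd54) (kd xd6 yd9 zd2) (kd xd4 yd39 zd14) (kd xd6 yd9 zd4) (kd xd4 yd39 zd32) (kd xd4 yd39 zd30) (kd xd5 yd46 zd21) (kd xd2 yd58 zd11) (kd xd4 yd39 zd27) (kd xd2 yd59 zd52) (kd xd4 yd39 zd26) (kd xd2 yd52 zd19) (kd xd4 yd26 zd10) (kd xd7 yd18 zd47) (kd xd7 yd26 zd59) (kd xd8 yd26 zd0) (kd xd9 yd14 zd53) (kd xd9 yd14 zd56) (kd xd8 yd26 zd6) (kd xd9 yd7 zd21)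 (kd xd5 yd54 zd53) (kd xd9 yd14 zd60) (kd xd2 yd16 zd53) (kd xd9 yd15 zd2) (kd xd9 yd15 zd3) (kd xd2 yd16 zd54) (kd xd4 yd39 zd20) (kd xd9 yd15 zd9) (kd xd2 yd17 zd3) (kd xd2 yd59 zd31) (kd xd9 yd15 zd16) (kd xd4 yd39 zd7) (kd xd2 yd17 zd6) (kd xd5 yd46 zd60) (kd xd2 yd17 zd0) (kd xd2 yd17 zd1) (kd xd3 yd17 zd50) (kd xd3 yd17 zd51) (kd xd2 yd17 zd2) (kd xd9 yd15 zd29)) (@D3.rec (fun _ => Pt) (kd xd9 yd15 zd33) (kd xd9 yd15 zd35) (kd xd9 yd15 zd13) (kd xd9 yd15 zd38) (kd xd2 yd17 zd4) (kd xd2 yd22 zd33) (kd xd9 yd15 zd41) (kd xd2 yd17 zd5) (kd xd9 yd13 zd8) (kd xd8 yd35 zd48) (kd xd8 yd35 zd42) (kd xd9 yd15 zd46) (kd xd2 yd17 zd9) (kd xd9 yd15 zd50) (kd xd9 yd15 zd52) (kd xd2 yd17 zd13) (kd xd9 yd15 zd58) (kd xd9 yd16 zd0) (kd xd2 yd17 zd15) (kd xd9 yd16 zd5) (kd xd2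 yd17 zd34) (kd xd3 yd2 zd57) (kd xd2 yd20 zd50) (kd xd4 yd45 zd44) (kd xd5 yd53 zd44) (kd xd2 yd17 zd17) (kd xd9 yd16 zd17) (kd xd2 yd17 zd18) (kd xd9 yd16 zd19) (kd xd4 yd45 zd52) (kd xd9 yd16 zd24) (kd xd2 yd17 zd20) (kd xd8 yd46 zd14) (kd xd2 yd17 zd21) (kd xd9 yd16 zd30) (kd xd2 yd56 zd39) (kd xd6 yd0 zd33) (kd xd2 yd17 zd22) (kd xd9 yd16 zd38) (kd xd3 yd5 zd53) (kd xd9 yd16 zd44) (kd xd9 yd16 zd47) (kd xd9 yd16 zd50) (kd xd2 yd17 zd24) (kd xd9 yd16 zd55) (kd xd3 yd2 zd44) (kd xd9 yd16 zd58) (kd xd2 yd17 zd25) (kd xd9 yd17 zd0) (kd xd9 yd17 zd3) (kd xd9 yd17 zd6) (kd xd7 yd23 zd38) (kd xd7 yd23 zd42) (kd xd2 yd17 zd29) (kd xd9 yd17 zd17) (kd xd9 yd17 zd19) (kd xd2 yd17 zd30) (kd xd9 yd17 zd22) (kd xd2 yd17 zd31) (kd xd9 yd13 zd34) (kd xd3 yd24 zd13) (kd xd3 yd21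 zd11)) (@D3.rec (fun _ => Pt) (kd xd2 yd17 zd33) (kd xd2 yd22 zd36) (kd xd9 yd17 zd34) (kd xd3 yd22 zd7) (kd xd9 yd17 zd37) (kd xd2 yd17 zd35) (kd xd2 yd26 zd47) (kd xd3 yd24 zd7) (kd xd3 yd20 zd0) (kd xd4 yd50 zd4) (kd xd2 yd22 zd54) (kd xd9 yd17 zd42) (kd xd9 yd17 zd43) (kd xd4 yd57 zd54) (kd xd2 yd17 zd39) (kd xd6 yd21 zd40) (kd xd2 yd17 zd41) (kd xd3 yd19 zd26) (kd xd8 yd49 zd51) (kd xd8 yd49 zd34) (kd xd2 yd17 zd43) (kd xd2 yd17 zd45) (kd xd9 yd17 zd46) (kd xd2 yd17 zd46) (kd xd2 yd17 zd47) (kd xd7 yd14 zd2) (kd xd2 yd17 zd48) (kd xd4 yd37 zd37) (kd xd2 yd30 zd42) (kd xd2 yd47 zd27) (kd xd7 yd32 zd1) (kd xd2 yd17 zd50) (kd xd2 yd46 zd41) (kd xd5 yd6 zd41) (kd xd2 yd30 zd45) (kd xd6 yd31 zd9) (kd xd2 yd17 zd53) (kd xd2 yd19 zd2) (kd xd3 yd10 zd23) (kd xd8 yd51 zd36)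 (kd xd9 yd18 zd7) (kd xd2 yd17 zd60) (kd xd4 yd10 zd32) (kd xd2 yd28 zd53) (kd xd6 yd30 zd34) (kd xd5 yd8 zd23) (kd xd5 yd8 zd21) (kd xd7 yd30 zd38) (kd xd2 yd19 zd7) (kd xd6 yd8 zd27) (kd xd9 yd18 zd15) (kd xd9 yd18 zd17) (kd xd2 yd18 zd10) (kd xd2 yd18 zd11) (kd xd5 yd9 zd59) (kd xd5 yd10 zd0) (kd xd5 yd10 zd1) (kd xd4 yd41 zd57) (kd xd5 yd11 zd3) (kd xd5 yd11 zd4) (kd xd5 yd9 zd58) (kd xd5 yd9 zd60)) (@D3.rec (fun _ => Pt) (kd xd5 yd51 zd37) (kd xd2 yd18 zd20) (kd xd3 yd12 zd45) (kd xd3 yd12 zd54) (kd xd6 yd43 zd5) (kd xd7 yd31 zd34) (kd xd9 yd18 zd35) (kd xd9 yd18 zd36) (kd xd2 yd18 zd22) (kd xd6 yd3 zd32) (kd xd6 yd30 zd31) (kd xd9 yd18 zd43) (kd xd9 yd18 zd45) (kd xd8 yd24 zd35) (kd xd2 yd18 zd26) (kd xd9 yd18 zd51) (kd xd3 yd9 zd1) (kd xd2 yd18 zd30) (kd xd9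 yd18 zd58) (kd xd4 yd42 zd19) (kd xd3 yd9 zd9) (kd xd6 yd20 zd2) (kd xd9 yd19 zd4) (kd xd6 yd23 zd24) (kd xd6 yd23 zd31) (kd xd6 yd23 zd26) (kd xd8 yd24 zd5) (kd xd2 yd18 zd38) (kd xd9 yd19 zd16) (kd xd4 yd42 zd29) (kd xd3 yd9 zd44) (kd xd6 yd51 zd19) (kd xd9 yd19 zd23) (kd xd3 yd22 zd6) (kd xd4 yd42 zd34) (kd xd9 yd19 zd25) (kd xd2 yd18 zd45) (kd xd4 yd45 zd38) (kd xd8 yd50 zd44) (kd xd9 yd19 zd33) (kd xd9 yd19 zd36) (kd xd2 yd18 zd48) (kd xd9 yd19 zd40) (kd xd2 yd53 zd27) (kd xd4 yd24 zd10) (kd xd2 yd18 zd50) (kd xd9 yd7 zd59) (kd xd8 yd2 zd25) (kd xd2 yd18 zd53) (kd xd9 yd19 zd45) (kd xd2 yd18 zd54) (kd xd9 yd19 zd46) (kd xd2 yd18 zd56) (kd xd9 yd19 zd48) (kd xd9 yd3 zd28) (kd xd2 yd18 zd57) (kd xd5 yd41 zd49) (kd xd2 yd18 zd59) (kd xd5 yd54 zd0) (kd xd9 yd1 zd39)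 (kd xd9 yd18 zd2) (kd xd3 yd5 zd35)) (@D3.rec (fun _ => Pt) (kd xd2 yd19 zd4) (kd xd2 yd19 zd5) (kd xd9 yd18 zd13) (kd xd9 yd19 zd56) (kd xd6 yd20 zd51) (kd xd3 yd12 zd6) (kd xd6 yd47 zd48) (kd xd6 yd20 zd60) (kd xd6 yd10 zd41) (kd xd9 yd19 zd57) (kd xd7 yd31 zd21) (kd xd2 yd19 zd16) (kd xd6 yd47 zd56) (kd xd9 yd19 zd60) (kd xd9 yd20 zd0) (kd xd9 yd20 zd3) (kd xd2 yd19 zd19) (kd xd9 yd20 zd6) (kd xd9 yd20 zd7) (kd xd9 yd20 zd8) (kd xd2 yd19 zd20) (kd xd2 yd19 zd24) (kd xd3 yd7 zd25) (kd xd4 yd43 zd23) (kd xd3 yd7 zd24) (kd xd9 yd20 zd10) (kd xd2 yd19 zd27) (kd xd3 yd12 zd56) (kd xd3 yd13 zd5) (kd xd6 yd44 zd8) (kd xd9 yd20 zd17) (kd xd2 yd19 zd29) (kd xd6 yd44 zd9) (kd xd6 yd30 zd1) (kd xd4 yd43 zd48) (kd xd9 yd1 zd29) (kd xd9 yd20 zd24) (kd xd9 yd20 zd28) (kd xd2 yd19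 zd34) (kd xd9 yd20 zd31) (kd xd3 yd11 zd54) (kd xd3 yd11 zd55) (kd xd6 yd48 zd47) (kd xd8 yd35 zd15) (kd xd5 yd4 zd1) (kd xd2 yd19 zd48) (kd xd9 yd9 zd13) (kd xd2 yd19 zd41) (kd xd4 yd43 zd34) (kd xd2 yd52 zd41) (kd xd3 yd11 zd13) (kd xd6 yd21 zd33) (kd xd3 yd8 zd20) (kd xd6 yd2 zd60) (kd xd6 yd20 zd21) (kd xd6 yd20 zd34) (kd xd6 yd23 zd5) (kd xd5 yd18 zd57) (kd xd9 yd20 zd48) (kd xd2 yd19 zd54) (kd xd9 yd20 zd50) (kd xd9 yd20 zd52)) (@D3.rec (fun _ => Pt) (kd xd2 yd19 zd56) (kd xd9 yd20 zd57) (kd xd9 yd20 zd59) (kd xd7 yd1 zd50) (kd xd9 yd21 zd0) (kd xd3 yd45 zd52) (kd xd9 yd21 zd4) (kd xd9 yd21 zd7) (kd xd9 yd21 zd9) (kd xd6 yd35 zd24) (kd xd3 yd50 zd48) (kd xd9 yd21 zd14) (kd xd9 yd21 zd16) (kd xd2 yd20 zd5) (kd xd4 yd45 zd56) (kd xd9 yd21 zd18) (kd xd9 yd21 zd21)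 (kd xd9 yd21 zd24) (kd xd9 yd21 zd26) (kd xd2 yd20 zd8) (kd xd9 yd21 zd31) (kd xd6 yd42 zd51) (kd xd9 yd21 zd34) (kd xd4 yd46 zd12) (kd xd9 yd21 zd36) (kd xd4 yd48 zd36) (kd xd9 yd21 zd40) (kd xd3 yd15 zd15) (kd xd4 yd46 zd54) (kd xd9 yd21 zd46) (kd xd2 yd20 zd18) (kd xd9 yd21 zd50) (kd xd4 yd35 zd49) (kd xd9 yd21 zd54) (kd xd9 yd16 zd12) (kd xd9 yd21 zd56) (kd xd2 yd20 zd24) (kd xd6 yd19 zd56) (kd xd4 yd46 zd50) (kd xd9 yd22 zd2) (kd xd9 yd22 zd3) (kd xd2 yd20 zd30) (kd xd6 yd47 zd7) (kd xd9 yd22 zd6) (kd xd2 yd20 zd31) (kd xd9 yd22 zd9) (kd xd4 yd36 zd8) (kd xd5 yd53 zd51) (kd xd5 yd53 zd31) (kd xd2 yd20 zd32) (kd xd9 yd22 zd18) (kd xd2 yd20 zd53) (kd xd2 yd20 zd54) (kd xd9 yd22 zd25) (kd xd2 yd20 zd34) (kd xd4 yd46 zd52) (kd xd9 yd22 zd32) (kd xd9 yd22 zd34) (kd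 xd9 yd22 zd36) (kd xd2 yd20 zd37) (kd xd3 yd15 zd4) (kd xd3 yd6 zd9)) (@D3.rec (fun _ => Pt) (kd xd9 yd22 zd46) (kd xd2 yd20 zd40) (kd xd8 yd56 zd40) (kd xd9 yd22 zd52) (kd xd2 yd20 zd41) (kd xd6 yd12 zd56) (kd xd6 yd15 zd59) (kd xd2 yd20 zd42) (kd xd9 yd22 zd58) (kd xd2 yd20 zd43) (kd xd8 yd46 zd4) (kd xd2 yd20 zd44) (kd xd8 yd31 zd29) (kd xd9 yd23 zd8) (kd xd2 yd20 zd45) (kd xd9 yd23 zd11) (kd xd9 yd23 zd13) (kd xd9 yd23 zd17) (kd xd9 yd23 zd19) (kd xd2 yd20 zd46) (kd xd9 yd23 zd26) (kd xd9 yd23 zd29) (kd xd9 yd23 zd32) (kd xd9 yd23 zd33) (kd xd2 yd20 zd48) (kd xd9 yd23 zd38) (kd xd9 yd23 zd40) (kd xd3 yd21 zd41) (kd xd2 yd53 zd37) (kd xd9 yd23 zd45) (kd xd9 yd23 zd46) (kd xd8 yd24 zd53) (kd xd2 yd20 zd52) (kd xd4 yd53 zd40) (kd xd9 yd22 zd19) (kd xd9 yd23 zd52) (kd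 xd9 yd22 zd21) (kd xd9 yd23 zd55) (kd xd4 yd42 zd37) (kd xd6 yd14 zd37) (kd xd6 yd15 zd41) (kd xd2 yd20 zd55) (kd xd9 yd24 zd2) (kd xd3 yd12 zd15) (kd xd4 yd40 zd23) (kd xd6 yd5 zd46) (kd xd9 yd24 zd9) (kd xd9 yd24 zd12) (kd xd2 yd20 zd57) (kd xd8 yd56 zd39) (kd xd9 yd24 zd15) (kd xd2 yd20 zd58) (kd xd4 yd40 zd29) (kd xd9 yd24 zd18) (kd xd2 yd20 zd59) (kd xd9 yd24 zd21) (kd xd4 yd44 zd14) (kd xd9 yd24 zd26) (kd xd2 yd20 zd61) (kd xd9 yd24 zd31) (kd xd2 yd21 zd1) (kd xd9 yd22 zd37)) (@D3.rec (fun _ => Pt) (kd xd9 yd22 zd38) (kd xd9 yd24 zd37) (kd xd2 yd21 zd2) (kd xd9 yd24 zd43) (kd xd5 yd12 zd9) (kd xd9 yd24 zd46) (kd xd9 yd24 zd47) (kd xd2 yd21 zd4) (kd xd9 yd24 zd50) (kd xd9 yd24 zd52) (kd xd2 yd21 zd5) (kd xd6 yd32 zd34) (kd xd4 yd44 zd23) (kd xd9 yd24 zd61) (kd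 xd2 yd21 zd7) (kd xd9 yd25 zd4) (kd xd9 yd25 zd8) (kd xd9 yd25 zd11) (kd xd9 yd25 zd14) (kd xd2 yd21 zd8) (kd xd9 yd25 zd21) (kd xd5 yd25 zd52) (kd xd2 yd21 zd10) (kd xd9 yd25 zd24) (kd xd9 yd25 zd27) (kd xd9 yd25 zd30) (kd xd8 yd46 zd7) (kd xd8 yd48 zd19) (kd xd2 yd21 zd11) (kd xd9 yd25 zd38) (kd xd9 yd25 zd39) (kd xd2 yd21 zd13) (kd xd9 yd25 zd44) (kd xd9 yd25 zd47) (kd xd2 yd49 zd18) (kd xd2 yd21 zd14) (kd xd9 yd25 zd52) (kd xd5 yd54 zd9) (kd xd2 yd21 zd15) (kd xd9 yd25 zd59) (kd xd2 yd21 zd16) (kd xd9 yd26 zd1) (kd xd3 yd0 zd36) (kd xd3 yd0 zd37) (kd xd2 yd27 zd31) (kd xd9 yd26 zd11) (kd xd9 yd26 zd14) (kd xd9 yd26 zd17) (kd xd2 yd21 zd18) (kd xd9 yd26 zd22) (kd xd4 yd44 zd38) (kd xd9 yd26 zd28) (kd xd4 yd44 zd55) (kd xd7 yd30 zd45) (kd xd4 yd44 zd28) (kd xd9 yd26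 zd39) (kd xd9 yd26 zd43) (kd xd9 yd26 zd47) (kd xd2 yd21 zd22) (kd xd9 yd26 zd51) (kd xd9 yd26 zd55) (kd xd9 yd26 zd57)) (@D3.rec (fun _ => Pt) (kd xd3 yd23 zd51) (kd xd2 yd21 zd24) (kd xd9 yd27 zd1) (kd xd9 yd27 zd5) (kd xd6 yd32 zd42) (kd xd2 yd21 zd25) (kd xd9 yd27 zd10) (kd xd9 yd21 zd5) (kd xd9 yd21 zd6) (kd xd9 yd27 zd21) (kd xd2 yd21 zd27) (kd xd9 yd27 zd24) (kd xd9 yd27 zd26) (kd xd9 yd27 zd28) (kd xd2 yd21 zd28) (kd xd9 yd27 zd33) (kd xd9 yd27 zd35) (kd xd9 yd27 zd38) (kd xd2 yd21 zd30) (kd xd9 yd27 zd40) (kd xd9 yd27 zd43) (kd xd2 yd21 zd32) (kd xd9 yd27 zd48) (kd xd2 yd21 zd34) (kd xd9 yd27 zd51) (kd xd9 yd27 zd53) (kd xd2 yd21 zd35) (kd xd9 yd27 zd57) (kd xd9 yd17 zd1) (kd xd9 yd16 zd8) (kd xd9 yd28 zd3) (kd xd2 yd21 zd37) (kd xd9 yd28 zd7) (kd xd2 yd21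 zd40) (kd xd9 yd28 zd9) (kd xd4 yd47 zd38) (kd xd3 yd13 zd29) (kd xd9 yd28 zd13) (kd xd4 yd47 zd35) (kd xd9 yd28 zd16) (kd xd9 yd28 zd19) (kd xd9 yd28 zd23) (kd xd2 yd21 zd43) (kd xd3 yd48 zd30) (kd xd9 yd28 zd31) (kd xd9 yd24 zd57) (kd xd2 yd21 zd45) (kd xd3 yd29 zd39) (kd xd9 yd28 zd34) (kd xd9 yd28 zd35) (kd xd9 yd28 zd37) (kd xd9 yd28 zd39) (kd xd2 yd21 zd49) (kd xd9 yd28 zd43) (kd xd9 yd28 zd44) (kd xd2 yd21 zd50) (kd xd8 yd34 zd10) (kd xd9 yd28 zd48) (kd xd2 yd21 zd51) (kd xd3 yd5 zd61) (kd xd3 yd5 zd54) (kd xd9 yd28 zd55)) (@D3.rec (fun _ => Pt) (kd xd2 yd21 zd53) (kd xd9 yd28 zd56) (kd xd2 yd21 zd54) (kd xd3 yd3 zd4) (kd xd9 yd18 zd50) (kd xd6 yd4 zd5) (kd xd9 yd29 zd0) (kd xd2 yd21 zd57) (kd xd6 yd11 zd33) (kd xd9 yd29 zd6) (kd xd2 yd21 zd60) (kd xd9 yd29 zd9)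 (kd xd3 yd54 zd13) (kd xd9 yd29 zd12) (kd xd6 yd42 zd41) (kd xd2 yd22 zd1) (kd xd9 yd29 zd18) (kd xd9 yd29 zd20) (kd xd9 yd29 zd21) (kd xd2 yd22 zd3) (kd xd9 yd29 zd25) (kd xd6 yd1 zd24) (kd xd2 yd22 zd4) (kd xd9 yd29 zd30) (kd xd2 yd22 zd5) (kd xd6 yd32 zd23) (kd xd6 yd31 zd17) (kd xd9 yd29 zd37) (kd xd2 yd22 zd7) (kd xd3 yd3 zd10) (kd xd3 yd2 zd53) (kd xd9 yd20 zd29) (kd xd9 yd29 zd40) (kd xd2 yd22 zd9) (kd xd9 yd20 zd30) (kd xd3 yd22 zd22) (kd xd4 yd44 zd25) (kd xd3 yd19 zd33) (kd xd9 yd29 zd50) (kd xd2 yd22 zd13) (kd xd9 yd29 zd52) (kd xd3 yd19 zd41) (kd xd2 yd22 zd17) (kd xd9 yd29 zd57) (kd xd9 yd29 zd59) (kd xd8 yd47 zd4) (kd xd2 yd22 zd16) (kd xd9 yd30 zd5) (kd xd9 yd30 zd7) (kd xd9 yd29 zd55) (kd xd3 yd0 zd32) (kd xd3 yd47 zd15) (kd xd9 yd30 zd14) (kd xd9 yd30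 zd16) (kd xd2 yd22 zd19) (kd xd9 yd30 zd20) (kd xd9 yd30 zd21) (kd xd2 yd22 zd20) (kd xd9 yd30 zd24) (kd xd9 yd30 zd27) (kd xd9 yd30 zd31) (kd xd2 yd22 zd21)) (@D3.rec (fun _ => Pt) (kd xd9 yd30 zd36) (kd xd6 yd7 zd3) (kd xd9 yd30 zd43) (kd xd2 yd22 zd22) (kd xd9 yd30 zd48) (kd xd9 yd30 zd53) (kd xd9 yd30 zd56) (kd xd2 yd22 zd23) (kd xd9 yd30 zd60) (kd xd9 yd31 zd1) (kd xd9 yd31 zd4) (kd xd9 yd31 zd8) (kd xd2 yd22 zd25) (kd xd9 yd31 zd12) (kd xd9 yd31 zd14) (kd xd6 yd12 zd11) (kd xd2 yd22 zd26) (kd xd4 yd35 zd43) (kd xd5 yd55 zd19) (kd xd6 yd45 zd38) (kd xd6 yd12 zd13) (kd xd5 yd26 zd55) (kd xd6 yd7 zd17) (kd xd9 yd31 zd33) (kd xd2 yd22 zd29) (kd xd8 yd58 zd10) (kd xd9 yd17 zd26) (kd xd8 yd58 zd11) (kd xd2 yd42 zd39) (kd xd9 yd17 zd18) (kd xd9 yd17 zd24) (kd xd2 yd22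 zd32) (kd xd5 yd34 zd42) (kd xd9 yd15 zd39) (kd xd9 yd17 zd20) (kd xd5 yd50 zd25) (kd xd9 yd17 zd44) (kd xd9 yd17 zd39) (kd xd9 yd31 zd57) (kd xd2 yd22 zd34) (kd xd3 yd2 zd41) (kd xd2 yd48 zd50) (kd xd9 yd31 zd61) (kd xd9 yd32 zd1) (kd xd9 yd32 zd4) (kd xd2 yd22 zd37) (kd xd9 yd32 zd11) (kd xd2 yd22 zd38) (kd xd8 yd14 zd28) (kd xd5 yd10 zd27) (kd xd2 yd22 zd39) (kd xd3 yd13 zd28) (kd xd5 yd52 zd0) (kd xd6 yd46 zd46) (kd xd6 yd47 zd36) (kd xd9 yd32 zd28) (kd xd2 yd22 zd41) (kd xd2 yd33 zd4) (kd xd4 yd58 zd33) (kd xd6 yd32 zd19) (kd xd5 yd49 zd23) (kd xd2 yd58 zd53)) (@D3.rec (fun _ => Pt) (kd xd5 yd32 zd48) (kd xd9 yd17 zd28) (kd xd5 yd32 zd49) (kd xd9 yd4 zd59) (kd xd4 yd41 zd9) (kd xd9 yd32 zd39) (kd xd6 yd12 zd58) (kd xd5 yd26 zd18) (kd xd2 yd22 zd52) (kd xd5 yd11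 zd25) (kd xd6 yd17 zd35) (kd xd6 yd20 zd1) (kd xd3 yd9 zd47) (kd xd3 yd2 zd47) (kd xd9 yd32 zd50) (kd xd6 yd20 zd18) (kd xd9 yd32 zd53) (kd xd9 yd32 zd57) (kd xd2 yd22 zd56) (kd xd3 yd22 zd49) (kd xd9 yd29 zd8) (kd xd3 yd20 zd6) (kd xd9 yd33 zd2) (kd xd3 yd1 zd21) (kd xd6 yd44 zd10) (kd xd9 yd33 zd7) (kd xd6 yd48 zd43) (kd xd6 yd24 zd12) (kd xd6 yd24 zd13) (kd xd6 yd13 zd3) (kd xd2 yd23 zd1) (kd xd2 yd23 zd2) (kd xd4 yd14 zd11) (kd xd2 yd23 zd3) (kd xd5 yd1 zd19) (kd xd2 yd25 zd16) (kd xd9 yd33 zd21) (kd xd2 yd23 zd5) (kd xd8 yd7 zd9) (kd xd5 yd1 zd4) (kd xd2 yd43 zd36) (kd xd9 yd33 zd29) (kd xd9 yd33 zd32) (kd xd9 yd33 zd37) (kd xd2 yd23 zd9) (kd xd9 yd33 zd42) (kd xd4 yd50 zd46) (kd xd2 yd23 zd11) (kd xd2 yd28 zd31) (kd xd9 yd33 zd46) (kd xd2 yd28 zd33) (kd xd9 yd33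 zd49) (kd xd2 yd43 zd41) (kd xd5 yd36 zd9) (kd xd9 yd33 zd53) (kd xd2 yd45 zd34) (kd xd9 yd33 zd56) (kd xd2 yd28 zd20) (kd xd9 yd34 zd1) (kd xd2 yd23 zd18) (kd xd4 yd52 zd0) (kd xd4 yd50 zd61)) (@D3.rec (fun _ => Pt) (kd xd4 yd9 zd6) (kd xd8 yd30 zd7) (kd xd8 yd15 zd7) (kd xd2 yd28 zd28) (kd xd2 yd38 zd11) (kd xd4 yd51 zd60) (kd xd8 yd5 zd43) (kd xd2 yd36 zd30) (kd xd9 yd34 zd16) (kd xd4 yd4 zd37) (kd xd9 yd34 zd22) (kd xd9 yd34 zd25) (kd xd9 yd34 zd30) (kd xd2 yd23 zd25) (kd xd9 yd34 zd36) (kd xd8 yd4 zd1) (kd xd2 yd23 zd26) (kd xd9 yd34 zd41) (kd xd9 yd34 zd43) (kd xd2 yd23 zd29) (kd xd8 yd11 zd6) (kd xd9 yd34 zd47) (kd xd9 yd0 zd35) (kd xd4 yd28 zd23) (kd xd4 yd51 zd61) (kd xd5 yd23 zd26) (kd xd9 yd34 zd58) (kd xd2 yd23 zd34) (kd xd9 yd35 zd1) (kd xd4 yd19 zd57)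 (kd xd9 yd0 zd40) (kd xd8 yd10 zd15) (kd xd9 yd34 zd32) (kd xd9 yd35 zd11) (kd xd2 yd23 zd38) (kd xd9 yd35 zd18) (kd xd9 yd35 zd21) (kd xd8 yd28 zd39) (kd xd2 yd45 zd33) (kd xd4 yd5 zd10) (kd xd9 yd35 zd26) (kd xd9 yd35 zd30) (kd xd9 yd35 zd35) (kd xd2 yd23 zd41) (kd xd9 yd35 zd40) (kd xd5 yd9 zd6) (kd xd5 yd9 zd7) (kd xd2 yd23 zd42) (kd xd9 yd35 zd45) (kd xd9 yd35 zd49) (kd xd2 yd23 zd43) (kd xd9 yd35 zd53) (kd xd9 yd35 zd58) (kd xd2 yd23 zd44) (kd xd9 yd35 zd61) (kd xd9 yd36 zd3) (kd xd9 yd36 zd7) (kd xd9 yd36 zd8) (kd xd2 yd23 zd45) (kd xd9 yd36 zd13) (kd xd4 yd51 zd5) (kd xd4 yd51 zd24)) (@D3.rec (fun _ => Pt) (kd xd4 yd50 zd60) (kd xd4 yd53 zd15) (kd xd2 yd23 zd47) (kd xd9 yd36 zd25) (kd xd9 yd36 zd28) (kd xd9 yd36 zd32) (kd xd8 yd22 zd45) (kd xd7 yd58 zd8) (kd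 xd8 yd36 zd20) (kd xd8 yd36 zd21) (kd xd2 yd23 zd50) (kd xd9 yd36 zd45) (kd xd9 yd36 zd48) (kd xd9 yd36 zd52) (kd xd2 yd45 zd46) (kd xd9 yd36 zd54) (kd xd2 yd23 zd52) (kd xd2 yd23 zd53) (kd xd2 yd44 zd4) (kd xd9 yd36 zd57) (kd xd5 yd9 zd30) (kd xd4 yd28 zd37) (kd xd2 yd23 zd56) (kd xd9 yd37 zd4) (kd xd5 yd10 zd56) (kd xd5 yd10 zd57) (kd xd5 yd9 zd45) (kd xd2 yd44 zd5) (kd xd5 yd11 zd8) (kd xd2 yd24 zd40) (kd xd7 yd55 zd18) (kd xd9 yd27 zd56) (kd xd9 yd37 zd15) (kd xd2 yd23 zd61) (kd xd3 yd19 zd0) (kd xd7 yd26 zd14) (kd xd9 yd37 zd20) (kd xd2 yd24 zd1) (kd xd6 yd57 zd58) (kd xd6 yd47 zd42) (kd xd8 yd1 zd59) (kd xd4 yd52 zd42) (kd xd4 yd52 zd41) (kd xd9 yd37 zd30) (kd xd2 yd24 zd6) (kd xd4 yd6 zd57) (kd xd8 yd2 zd60) (kd xd9 yd37 zd36) (kd xd9 yd37 zd38) (kd xd9 yd37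 zd40) (kd xd8 yd39 zd17) (kd xd4 yd3 zd38) (kd xd4 yd17 zd17) (kd xd6 yd25 zd33) (kd xd9 yd37 zd44) (kd xd9 yd37 zd47) (kd xd9 yd37 zd49) (kd xd2 yd24 zd18) (kd xd4 yd31 zd28) (kd xd4 yd54 zd1) (kd xd9 yd37 zd53) (kd xd8 yd3 zd58)) (@D3.rec (fun _ => Pt) (kd xd5 yd1 zd44) (kd xd5 yd1 zd45) (kd xd8 yd4 zd2) (kd xd9 yd38 zd3) (kd xd2 yd24 zd21) (kd xd9 yd38 zd6) (kd xd9 yd38 zd11) (kd xd2 yd24 zd22) (kd xd9 yd38 zd14) (kd xd9 yd38 zd17) (kd xd9 yd38 zd20) (kd xd9 yd38 zd21) (kd xd2 yd24 zd23) (kd xd3 yd56 zd59) (kd xd3 yd57 zd0) (kd xd4 yd52 zd1) (kd xd9 yd38 zd35) (kd xd9 yd38 zd37) (kd xd9 yd38 zd40) (kd xd4 yd55 zd14) (kd xd2 yd24 zd28) (kd xd9 yd38 zd47) (kd xd9 yd38 zd51) (kd xd9 yd38 zd54) (kd xd4 yd31 zd37) (kd xd9 yd38 zd57) (kd xd2 yd24 zd30) (kd xd2 yd24 zd31)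 (kd xd4 yd19 zd46) (kd xd8 yd34 zd26) (kd xd4 yd54 zd6) (kd xd5 yd43 zd30) (kd xd2 yd24 zd34) (kd xd5 yd3 zd48) (kd xd5 yd3 zd49) (kd xd4 yd19 zd47) (kd xd5 yd4 zd0) (kd xd9 yd39 zd5) (kd xd9 yd39 zd9) (kd xd2 yd24 zd38) (kd xd4 yd45 zd33) (kd xd6 yd24 zd2) (kd xd9 yd39 zd13) (kd xd2 yd24 zd39) (kd xd9 yd39 zd16) (kd xd2 yd24 zd41) (kd xd4 yd5 zd30) (kd xd4 yd15 zd53) (kd xd5 yd7 zd21) (kd xd5 yd14 zd31) (kd xd5 yd14 zd37) (kd xd5 yd14 zd14) (kd xd4 yd58 zd48) (kd xd5 yd14 zd1) (kd xd5 yd14 zd2) (kd xd5 yd8 zd11) (kd xd2 yd24 zd51) (kd xd2 yd24 zd52) (kd xd5 yd37 zd2) (kd xd3 yd58 zd15) (kd xd9 yd39 zd27) (kd xd2 yd24 zd54)) (@D3.rec (fun _ => Pt) (kd xd2 yd24 zd55) (kd xd4 yd52 zd59) (kd xd8 yd36 zd33) (kd xd9 yd39 zd33) (kd xd2 yd24 zd57) (kd xd9 yd39 zd36) (kd xd4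 yd53 zd30) (kd xd9 yd39 zd40) (kd xd8 yd11 zd22) (kd xd9 yd39 zd46) (kd xd9 yd39 zd49) (kd xd9 yd39 zd54) (kd xd2 yd24 zd60) (kd xd9 yd39 zd60) (kd xd4 yd54 zd14) (kd xd2 yd25 zd0) (kd xd8 yd13 zd14) (kd xd7 yd56 zd4) (kd xd9 yd40 zd5) (kd xd2 yd25 zd2) (kd xd9 yd40 zd8) (kd xd8 yd13 zd18) (kd xd9 yd40 zd13) (kd xd4 yd18 zd40) (kd xd9 yd40 zd19) (kd xd9 yd40 zd22) (kd xd9 yd40 zd27) (kd xd2 yd25 zd6) (kd xd9 yd40 zd33) (kd xd4 yd54 zd29) (kd xd9 yd40 zd37) (kd xd4 yd6 zd37) (kd xd9 yd40 zd40) (kd xd4 yd18 zd44) (kd xd9 yd40 zd43) (kd xd5 yd2 zd8) (kd xd9 yd40 zd47) (kd xd4 yd6 zd25) (kd xd9 yd40 zd52) (kd xd9 yd40 zd57) (kd xd2 yd25 zd13) (kd xd2 yd39 zd12) (kd xd4 yd54 zd42) (kd xd4 yd12 zd54) (kd xd8 yd53 zd12) (kd xd9 yd33 zd19) (kd xd8 yd13 zd10) (kd xd4 yd6 zd32)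 (kd xd2 yd25 zd17) (kd xd4 yd15 zd52) (kd xd2 yd39 zd10) (kd xd9 yd41 zd11) (kd xd2 yd25 zd19) (kd xd4 yd20 zd19) (kd xd9 yd41 zd14) (kd xd4 yd12 zd59) (kd xd9 yd41 zd20) (kd xd9 yd41 zd23) (kd xd9 yd41 zd28) (kd xd2 yd25 zd21) (kd xd9 yd41 zd34) (kd xd5 yd36 zd56)) (@D3.rec (fun _ => Pt) (kd xd2 yd25 zd22) (kd xd9 yd41 zd39) (kd xd9 yd41 zd41) (kd xd2 yd25 zd25) (kd xd4 yd8 zd32) (kd xd5 yd29 zd24) (kd xd9 yd41 zd45) (kd xd8 yd25 zd18) (kd xd4 yd9 zd41) (kd xd2 yd39 zd11) (kd xd8 yd24 zd9) (kd xd9 yd41 zd56) (kd xd2 yd25 zd30) (kd xd9 yd41 zd61) (kd xd4 yd53 zd19) (kd xd8 yd25 zd23) (kd xd9 yd42 zd4) (kd xd9 yd41 zd30) (kd xd9 yd42 zd11) (kd xd2 yd25 zd33) (kd xd8 yd18 zd59) (kd xd9 yd42 zd19) (kd xd9 yd42 zd21) (kd xd2 yd25 zd34) (kd xd5 yd2 zd60) (kd xd9 yd42 zd25)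 (kd xd5 yd17 zd16) (kd xd9 yd42 zd33) (kd xd2 yd25 zd36) (kd xd9 yd42 zd38) (kd xd7 yd58 zd22) (kd xd7 yd58 zd23) (kd xd2 yd25 zd37) (kd xd9 yd42 zd45) (kd xd9 yd42 zd50) (kd xd2 yd25 zd38) (kd xd9 yd42 zd54) (kd xd9 yd42 zd59) (kd xd2 yd25 zd39) (kd xd9 yd43 zd0) (kd xd5 yd3 zd12) (kd xd2 yd32 zd13) (kd xd9 yd43 zd7) (kd xd2 yd25 zd40) (kd xd9 yd43 zd10) (kd xd2 yd37 zd51) (kd xd2 yd38 zd19) (kd xd2 yd37 zd9) (kd xd8 yd11 zd48) (kd xd2 yd25 zd42) (kd xd6 yd22 zd21) (kd xd9 yd43 zd24) (kd xd9 yd43 zd28) (kd xd9 yd43 zd31) (kd xd8 yd44 zd43) (kd xd2 yd25 zd44) (kd xd5 yd1 zd27) (kd xd9 yd43 zd36) (kd xd2 yd25 zd45) (kd xd2 yd25 zd46) (kd xd5 yd2 zd22) (kd xd9 yd43 zd40)) (@D3.rec (fun _ => Pt) (kd xd9 yd43 zd41) (kd xd4 yd14 zd20) (kd xd9 yd0 zd52) (kd xd2 yd25 zd50)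 (kd xd9 yd43 zd51) (kd xd4 yd14 zd43) (kd xd4 yd14 zd44) (kd xd6 yd7 zd2) (kd xd2 yd45 zd52) (kd xd7 yd58 zd53) (kd xd5 yd30 zd39) (kd xd9 yd44 zd0) (kd xd9 yd44 zd3) (kd xd5 yd13 zd21) (kd xd2 yd25 zd55) (kd xd9 yd44 zd11) (kd xd9 yd44 zd10) (kd xd9 yd44 zd16) (kd xd2 yd30 zd26) (kd xd2 yd25 zd56) (kd xd5 yd52 zd3) (kd xd2 yd25 zd57) (kd xd5 yd52 zd46) (kd xd5 yd50 zd16) (kd xd4 yd34 zd1) (kd xd4 yd34 zd2) (kd xd8 yd11 zd61) (kd xd2 yd25 zd61) (kd xd9 yd44 zd29) (kd xd2 yd26 zd0) (kd xd2 yd32 zd25) (kd xd9 yd44 zd32) (kd xd2 yd26 zd1) (kd xd8 yd43 zd42) (kd xd9 yd2 zd36) (kd xd8 yd44 zd52) (kd xd9 yd44 zd37) (kd xd2 yd26 zd5) (kd xd4 yd58 zd7) (kd xd9 yd44 zd42) (kd xd2 yd53 zd52) (kd xd9 yd44 zd44) (kd xd9 yd44 zd45) (kd xd9 yd8 zd20) (kd xd2 yd26 zd11) (kd xd5 yd37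 zd9) (kd xd9 yd44 zd52) (kd xd2 yd26 zd14) (kd xd9 yd44 zd56) (kd xd8 yd27 zd28) (kd xd8 yd9 zd39) (kd xd8 yd43 zd36) (kd xd8 yd43 zd37) (kd xd9 yd44 zd58) (kd xd2 yd26 zd17) (kd xd3 yd57 zd14) (kd xd8 yd3 zd37) (kd xd5 yd43 zd22) (kd xd9 yd45 zd4) (kd xd3 yd57 zd5) (kd xd7 yd13 zd32) (kd xd3 yd35 zd42)) (@D3.rec (fun _ => Pt) (kd xd3 yd33 zd4) (kd xd2 yd26 zd27) (kd xd9 yd45 zd12) (kd xd2 yd26 zd28) (kd xd9 yd45 zd14) (kd xd2 yd26 zd29) (kd xd9 yd45 zd18) (kd xd9 yd45 zd19) (kd xd2 yd26 zd30) (kd xd5 yd47 zd10) (kd xd4 yd31 zd5) (kd xd9 yd45 zd27) (kd xd9 yd45 zd21) (kd xd2 yd26 zd32) (kd xd5 yd49 zd4) (kd xd9 yd45 zd31) (kd xd9 yd45 zd32) (kd xd9 yd45 zd33) (kd xd2 yd26 zd33) (kd xd5 yd49 zd13) (kd xd2 yd26 zd34) (kd xd5 yd49 zd5) (kd xd9 yd45 zd41) (kd xd9 yd45 zd44)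 (kd xd9 yd5 zd44) (kd xd2 yd26 zd36) (kd xd2 yd44 zd41) (kd xd2 yd44 zd40) (kd xd9 yd45 zd47) (kd xd2 yd27 zd32) (kd xd9 yd0 zd8) (kd xd9 yd45 zd54) (kd xd8 yd57 zd28) (kd xd6 yd15 zd23) (kd xd9 yd45 zd58) (kd xd9 yd46 zd0) (kd xd2 yd26 zd40) (kd xd9 yd46 zd7) (kd xd9 yd46 zd5) (kd xd9 yd46 zd12) (kd xd9 yd46 zd15) (kd xd2 yd27 zd46) (kd xd9 yd46 zd20) (kd xd9 yd46 zd21) (kd xd9 yd46 zd22) (kd xd2 yd26 zd43) (kd xd5 yd28 zd47) (kd xd5 yd28 zd48) (kd xd5 yd31 zd29) (kd xd9 yd46 zd33) (kd xd2 yd26 zd45) (kd xd5 yd14 zd7) (kd xd9 yd46 zd38) (kd xd2 yd26 zd46) (kd xd4 yd41 zd13) (kd xd9 yd17 zd38) (kd xd9 yd17 zd40) (kd xd9 yd32 zd12) (kd xd9 yd46 zd46) (kd xd9 yd46 zd49) (kd xd2 yd26 zd49) (kd xd3 yd3 zd32)) (@D3.rec (fun _ => Pt) (kd xd9 yd46 zd56) (kd xd9 yd46 zd59)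 (kd xd2 yd26 zd51) (kd xd9 yd47 zd2) (kd xd9 yd47 zd4) (kd xd2 yd26 zd52) (kd xd2 yd26 zd53) (kd xd4 yd56 zd38) (kd xd3 yd4 zd34) (kd xd8 yd47 zd41) (kd xd2 yd26 zd55) (kd xd2 yd26 zd56) (kd xd6 yd9 zd15) (kd xd2 yd56 zd40) (kd xd9 yd47 zd20) (kd xd2 yd26 zd59) (kd xd2 yd26 zd60) (kd xd4 yd5 zd59) (kd xd9 yd26 zd3) (kd xd9 yd47 zd22) (kd xd2 yd27 zd0) (kd xd2 yd27 zd1) (kd xd4 yd34 zd24) (kd xd9 yd47 zd28) (kd xd9 yd47 zd30) (kd xd9 yd47 zd32) (kd xd2 yd27 zd3) (kd xd9 yd47 zd36) (kd xd2 yd27 zd4) (kd xd2 yd27 zd5) (kd xd8 yd14 zd51) (kd xd3 yd10 zd24) (kd xd2 yd27 zd8) (kd xd4 yd49 zd58) (kd xd8 yd14 zd50) (kd xd9 yd16 zd34) (kd xd7 yd27 zd4) (kd xd9 yd47 zd46) (kd xd9 yd47 zd48) (kd xd5 yd55 zd39) (kd xd2 yd27 zd10) (kd xd9 yd7 zd12) (kd xd9 yd26 zd5) (kd xd6 yd50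 zd23) (kd xd2 yd27 zd11) (kd xd9 yd47 zd61) (kd xd9 yd48 zd0) (kd xd2 yd27 zd13) (kd xd4 yd53 zd52) (kd xd3 yd23 zd45) (kd xd2 yd27 zd15) (kd xd2 yd27 zd16) (kd xd2 yd27 zd17) (kd xd2 yd27 zd18) (kd xd2 yd27 zd19) (kd xd9 yd48 zd11) (kd xd3 yd4 zd7) (kd xd6 yd53 zd54) (kd xd9 yd48 zd17) (kd xd2 yd27 zd21) (kd xd9 yd48 zd23) (kd xd2 yd27 zd23)) (@D3.rec (fun _ => Pt) (kd xd9 yd48 zd28) (kd xd2 yd27 zd24) (kd xd9 yd48 zd32) (kd xd9 yd48 zd35) (kd xd2 yd27 zd25) (kd xd9 yd48 zd39) (kd xd2 yd27 zd26) (kd xd5 yd38 zd35) (kd xd9 yd48 zd46) (kd xd2 yd27 zd28) (kd xd2 yd49 zd19) (kd xd9 yd25 zd49) (kd xd9 yd48 zd52) (kd xd9 yd25 zd57) (kd xd9 yd25 zd48) (kd xd9 yd30 zd18) (kd xd9 yd26 zd7) (kd xd9 yd48 zd59) (kd xd6 yd31 zd57) (kd xd9 yd49 zd2) (kd xd9 yd45 zd51) (kd xd9 yd49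 zd5) (kd xd9 yd47 zd52) (kd xd9 yd47 zd53) (kd xd6 yd25 zd12) (kd xd2 yd27 zd34) (kd xd9 yd49 zd18) (kd xd9 yd49 zd21) (kd xd2 yd27 zd35) (kd xd9 yd49 zd24) (kd xd2 yd49 zd36) (kd xd6 yd50 zd18) (kd xd3 yd23 zd61) (kd xd9 yd49 zd31) (kd xd2 yd27 zd37) (kd xd9 yd49 zd36) (kd xd7 yd53 zd6) (kd xd2 yd27 zd38) (kd xd9 yd49 zd40) (kd xd9 yd49 zd44) (kd xd2 yd27 zd39) (kd xd9 yd49 zd47) (kd xd8 yd48 zd15) (kd xd2 yd27 zd40) (kd xd9 yd49 zd54) (kd xd2 yd55 zd20) (kd xd2 yd55 zd51) (kd xd9 yd50 zd0) (kd xd2 yd27 zd43) (kd xd9 yd50 zd4) (kd xd9 yd50 zd7) (kd xd2 yd27 zd42) (kd xd9 yd50 zd11) (kd xd9 yd50 zd14) (kd xd9 yd50 zd16) (kd xd9 yd50 zd20) (kd xd2 yd27 zd44) (kd xd3 yd43 zd22) (kd xd9 yd50 zd28) (kd xd9 yd50 zd29) (kd xd2 yd27 zd45) (kd xd9 yd50 zd31))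
def f_d_5 : D2 → D3 → Pt := @D2.rec (fun _ => D3 → Pt) (@D3.rec (fun _ => Pt) (kd xd9 yd50 zd33) (kd xd9 yd50 zd36) (kd xd2 yd27 zd47) (kd xd9 yd50 zd41) (kd xd2 yd27 zd48) (kd xd6 yd17 zd12) (kd xd6 yd17 zd13) (kd xd9 yd50 zd51) (kd xd9 yd46 zd36) (kd xd9 yd50 zd52) (kd xd5 yd26 zd21) (kd xd2 yd27 zd50) (kd xd5 yd8 zd15) (kd xd3 yd13 zd14) (kd xd5 yd52 zd51) (kd xd9 yd50 zd54) (kd xd4 yd7 zd25) (kd xd9 yd46 zd40) (kd xd9 yd50 zd61) (kd xd2 yd27 zd53) (kd xd5 yd13 zd36) (kd xd9 yd24 zd32) (kd xd3 yd3 zd1) (kd xd9 yd51 zd7) (kd xd5 yd5 zd51) (kd xd2 yd44 zd59) (kd xd6 yd9 zd10) (kd xd9 yd51 zd18) (kd xd2 yd27 zd58) (kd xd3 yd3 zd48) (kd xd4 yd26 zd59) (kd xd2 yd57 zd58) (kd xd2 yd27 zd61) (kd xd8 yd2 zd41) (kd xd2 yd57 zd61) (kd xd4 yd9 zd24) (kd xd4 yd9 zd35) (kd xd9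 yd51 zd30) (kd xd9 yd51 zd33) (kd xd9 yd51 zd38) (kd xd2 yd28 zd4) (kd xd9 yd51 zd43) (kd xd9 yd51 zd44) (kd xd9 yd51 zd49) (kd xd2 yd28 zd6) (kd xd4 yd19 zd5) (kd xd9 yd51 zd55) (kd xd9 yd51 zd57) (kd xd5 yd36 zd7) (kd xd9 yd51 zd60) (kd xd2 yd43 zd44) (kd xd9 yd52 zd3) (kd xd9 yd52 zd6) (kd xd9 yd52 zd11) (kd xd2 yd28 zd10) (kd xd5 yd1 zd60) (kd xd5 yd0 zd56) (kd xd2 yd28 zd12) (kd xd2 yd40 zd24) (kd xd2 yd40 zd27) (kd xd9 yd52 zd22) (kd xd8 yd32 zd7)) (@D3.rec (fun _ => Pt) (kd xd4 yd16 zd59) (kd xd5 yd1 zd58) (kd xd4 yd21 zd24) (kd xd9 yd52 zd31) (kd xd4 yd50 zd39) (kd xd9 yd52 zd37) (kd xd3 yd58 zd37) (kd xd9 yd52 zd40) (kd xd9 yd52 zd43) (kd xd9 yd52 zd48) (kd xd2 yd28 zd19) (kd xd9 yd52 zd53) (kd xd7 yd56 zd10) (kd xd4 yd19 zd1) (kd xd9 yd33 zd59) (kd xd7 yd57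 zd53) (kd xd4 yd18 zd55) (kd xd8 yd52 zd50) (kd xd9 yd52 zd61) (kd xd4 yd50 zd34) (kd xd2 yd28 zd22) (kd xd5 yd1 zd59) (kd xd9 yd53 zd3) (kd xd2 yd28 zd24) (kd xd9 yd53 zd7) (kd xd2 yd28 zd25) (kd xd8 yd36 zd60) (kd xd4 yd55 zd56) (kd xd2 yd28 zd26) (kd xd8 yd10 zd14) (kd xd9 yd53 zd17) (kd xd9 yd53 zd19) (kd xd8 yd17 zd11) (kd xd9 yd52 zd50) (kd xd9 yd53 zd28) (kd xd2 yd28 zd29) (kd xd9 yd53 zd35) (kd xd9 yd53 zd38) (kd xd9 yd53 zd40) (kd xd6 yd7 zd15) (kd xd9 yd33 zd43) (kd xd9 yd53 zd48) (kd xd2 yd28 zd32) (kd xd9 yd53 zd53) (kd xd4 yd53 zd0) (kd xd4 yd53 zd1) (kd xd8 yd36 zd38) (kd xd9 yd54 zd0) (kd xd2 yd28 zd34) (kd xd9 yd54 zd5) (kd xd9 yd54 zd10) (kd xd2 yd28 zd35) (kd xd9 yd54 zd13) (kd xd9 yd54 zd19) (kd xd9 yd54 zd24) (kd xd9 yd54 zd26) (kd xd2 yd28 zd36)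 (kd xd9 yd54 zd31) (kd xd5 yd1 zd1) (kd xd5 yd1 zd21) (kd xd5 yd0 zd55) (kd xd5 yd9 zd22)) (@D3.rec (fun _ => Pt) (kd xd2 yd28 zd38) (kd xd9 yd54 zd45) (kd xd9 yd54 zd48) (kd xd9 yd54 zd50) (kd xd9 yd54 zd52) (kd xd5 yd36 zd34) (kd xd4 yd18 zd57) (kd xd9 yd54 zd59) (kd xd4 yd54 zd35) (kd xd9 yd55 zd2) (kd xd9 yd55 zd5) (kd xd9 yd55 zd10) (kd xd2 yd28 zd42) (kd xd9 yd55 zd15) (kd xd8 yd24 zd7) (kd xd8 yd24 zd6) (kd xd3 yd8 zd11) (kd xd9 yd55 zd23) (kd xd2 yd59 zd47) (kd xd9 yd55 zd30) (kd xd2 yd28 zd45) (kd xd9 yd55 zd35) (kd xd4 yd55 zd60) (kd xd5 yd37 zd0) (kd xd2 yd59 zd51) (kd xd9 yd55 zd43) (kd xd2 yd28 zd47) (kd xd9 yd55 zd45) (kd xd9 yd55 zd50) (kd xd2 yd28 zd49) (kd xd9 yd55 zd53) (kd xd9 yd55 zd59) (kd xd2 yd28 zd50) (kd xd9 yd56 zd1) (kd xd9 yd56 zd5) (kd xd6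 yd11 zd56) (kd xd2 yd28 zd51) (kd xd9 yd18 zd9) (kd xd6 yd12 zd59) (kd xd3 yd9 zd37) (kd xd3 yd11 zd3) (kd xd6 yd26 zd12) (kd xd4 yd19 zd2) (kd xd3 yd9 zd2) (kd xd3 yd11 zd2) (kd xd5 yd10 zd2) (kd xd9 yd56 zd24) (kd xd5 yd2 zd47) (kd xd9 yd56 zd27) (kd xd8 yd11 zd8) (kd xd4 yd18 zd58) (kd xd9 yd56 zd30) (kd xd3 yd58 zd26) (kd xd9 yd56 zd33) (kd xd4 yd5 zd16) (kd xd9 yd56 zd38) (kd xd9 yd56 zd41) (kd xd9 yd56 zd46) (kd xd2 yd29 zd0) (kd xd9 yd56 zd50) (kd xd4 yd55 zd24) (kd xd2 yd29 zd1)) (@D3.rec (fun _ => Pt) (kd xd9 yd1 zd16) (kd xd4 yd5 zd17) (kd xd8 yd15 zd5) (kd xd9 yd56 zd57) (kd xd9 yd56 zd60) (kd xd9 yd57 zd2) (kd xd9 yd57 zd4) (kd xd2 yd29 zd5) (kd xd9 yd57 zd11) (kd xd9 yd57 zd15) (kd xd9 yd57 zd18) (kd xd2 yd29 zd7) (kd xd4 yd55 zd40) (kd xd9 yd57 zd20) (kd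 xd5 yd10 zd51) (kd xd5 yd11 zd7) (kd xd8 yd57 zd34) (kd xd5 yd20 zd11) (kd xd9 yd57 zd27) (kd xd2 yd29 zd12) (kd xd9 yd57 zd33) (kd xd9 yd57 zd37) (kd xd9 yd57 zd41) (kd xd6 yd7 zd22) (kd xd9 yd56 zd8) (kd xd9 yd56 zd9) (kd xd9 yd57 zd48) (kd xd2 yd29 zd14) (kd xd9 yd57 zd54) (kd xd2 yd30 zd3) (kd xd2 yd30 zd0) (kd xd9 yd57 zd60) (kd xd9 yd58 zd0) (kd xd9 yd58 zd1) (kd xd2 yd29 zd16) (kd xd9 yd58 zd4) (kd xd9 yd58 zd6) (kd xd9 yd58 zd8) (kd xd2 yd29 zd17) (kd xd9 yd58 zd11) (kd xd2 yd29 zd18) (kd xd5 yd10 zd24) (kd xd9 yd58 zd14) (kd xd4 yd12 zd15) (kd xd5 yd22 zd11) (kd xd9 yd58 zd23) (kd xd2 yd29 zd21) (kd xd9 yd58 zd30) (kd xd4 yd53 zd33) (kd xd4 yd53 zd34) (kd xd4 yd12 zd31) (kd xd9 yd57 zd6) (kd xd9 yd57 zd7) (kd xd9 yd58 zd42) (kd xd2 yd29 zd23) (kd xd6 yd25 zd47)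 (kd xd6 yd3 zd20) (kd xd9 yd18 zd8) (kd xd6 yd28 zd10) (kd xd6 yd22 zd44) (kd xd3 yd10 zd39) (kd xd5 yd10 zd25)) (@D3.rec (fun _ => Pt) (kd xd4 yd53 zd36) (kd xd4 yd43 zd44) (kd xd6 yd10 zd15) (kd xd3 yd18 zd9) (kd xd6 yd40 zd10) (kd xd2 yd29 zd29) (kd xd9 yd59 zd2) (kd xd2 yd31 zd61) (kd xd2 yd31 zd59) (kd xd9 yd59 zd10) (kd xd2 yd29 zd31) (kd xd9 yd59 zd14) (kd xd9 yd59 zd17) (kd xd7 yd31 zd38) (kd xd9 yd27 zd4) (kd xd9 yd59 zd25) (kd xd2 yd29 zd32) (kd xd9 yd59 zd32) (kd xd3 yd22 zd3) (kd xd2 yd29 zd34) (kd xd6 yd22 zd43) (kd xd5 yd14 zd45) (kd xd9 yd59 zd37) (kd xd9 yd59 zd42) (kd xd9 yd59 zd48) (kd xd2 yd29 zd35) (kd xd9 yd59 zd55) (kd xd9 yd59 zd53) (kd xd9 yd59 zd61) (kd xd10 yd0 zd2) (kd xd2 yd29 zd36) (kd xd10 yd0 zd6) (kd xd2 yd29 zd37) (kd xd9 yd55 zd40)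 (kd xd9 yd55 zd41) (kd xd2 yd59 zd38) (kd xd5 yd11 zd43) (kd xd10 yd0 zd22) (kd xd6 yd17 zd53) (kd xd2 yd30 zd25) (kd xd9 yd44 zd19) (kd xd10 yd0 zd31) (kd xd10 yd0 zd34) (kd xd5 yd11 zd51) (kd xd6 yd29 zd14) (kd xd2 yd29 zd43) (kd xd10 yd0 zd38) (kd xd6 yd20 zd30) (kd xd2 yd29 zd44) (kd xd4 yd10 zd8) (kd xd2 yd40 zd26) (kd xd8 yd11 zd45) (kd xd4 yd4 zd1) (kd xd10 yd0 zd50) (kd xd4 yd1 zd20) (kd xd2 yd37 zd43) (kd xd10 yd0 zd57) (kd xd3 yd57 zd3) (kd xd10 yd0 zd60) (kd xd10 yd1 zd1) (kd xd10 yd1 zd5) (kd xd2 yd29 zd48)) (@D3.rec (fun _ => Pt) (kd xd10 yd1 zd10) (kd xd8 yd6 zd38) (kd xd8 yd6 zd37) (kd xd4 yd4 zd6) (kd xd2 yd29 zd50) (kd xd10 yd1 zd18) (kd xd2 yd29 zd52) (kd xd10 yd1 zd20) (kd xd2 yd29 zd53) (kd xd10 yd1 zd25) (kd xd2 yd29 zd54) (kd xd10 yd1 zd28) (kd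 xd10 yd1 zd30) (kd xd8 yd49 zd13) (kd xd2 yd29 zd55) (kd xd4 yd20 zd30) (kd xd5 yd37 zd10) (kd xd4 yd7 zd48) (kd xd10 yd1 zd40) (kd xd5 yd20 zd16) (kd xd10 yd1 zd46) (kd xd4 yd3 zd54) (kd xd10 yd1 zd49) (kd xd10 yd1 zd52) (kd xd6 yd40 zd24) (kd xd2 yd29 zd59) (kd xd10 yd2 zd0) (kd xd8 yd32 zd48) (kd xd8 yd32 zd47) (kd xd4 yd18 zd7) (kd xd10 yd2 zd7) (kd xd2 yd59 zd1) (kd xd9 yd57 zd58) (kd xd9 yd50 zd57) (kd xd4 yd29 zd47) (kd xd5 yd26 zd53) (kd xd2 yd59 zd6) (kd xd4 yd7 zd61) (kd xd9 yd24 zd44) (kd xd9 yd57 zd56) (kd xd6 yd33 zd54) (kd xd6 yd38 zd3) (kd xd6 yd10 zd14) (kd xd10 yd2 zd33) (kd xd2 yd30 zd5) (kd xd6 yd26 zd13) (kd xd4 yd8 zd48) (kd xd3 yd35 zd22) (kd xd4 yd10 zd34) (kd xd6 yd20 zd57) (kd xd5 yd12 zd24) (kd xd5 yd0 zd24) (kd xd2 yd30 zd10) (kd xd5 yd40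 zd0) (kd xd4 yd39 zd22) (kd xd2 yd30 zd14) (kd xd5 yd46 zd55) (kd xd10 yd2 zd51) (kd xd2 yd30 zd16) (kd xd4 yd38 zd25) (kd xd10 yd2 zd56) (kd xd5 yd37 zd15)) (@D3.rec (fun _ => Pt) (kd xd10 yd3 zd1) (kd xd5 yd46 zd13) (kd xd5 yd37 zd17) (kd xd4 yd16 zd60) (kd xd10 yd3 zd6) (kd xd2 yd58 zd34) (kd xd10 yd3 zd9) (kd xd2 yd58 zd38) (kd xd10 yd3 zd14) (kd xd10 yd3 zd16) (kd xd10 yd3 zd21) (kd xd2 yd30 zd22) (kd xd10 yd3 zd25) (kd xd4 yd28 zd14) (kd xd2 yd30 zd23) (kd xd8 yd54 zd6) (kd xd10 yd3 zd34) (kd xd10 yd3 zd37) (kd xd10 yd3 zd41) (kd xd6 yd11 zd6) (kd xd9 yd44 zd18) (kd xd9 yd43 zd61) (kd xd4 yd29 zd32) (kd xd5 yd36 zd12) (kd xd5 yd18 zd28) (kd xd5 yd18 zd36) (kd xd5 yd33 zd21) (kd xd3 yd20 zd30) (kd xd2 yd30 zd30) (kd xd5 yd43 zd61) (kd xd6 yd46 zd15) (kd xd5 yd45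 zd5) (kd xd2 yd30 zd33) (kd xd2 yd30 zd46) (kd xd6 yd29 zd31) (kd xd5 yd50 zd41) (kd xd10 yd3 zd59) (kd xd10 yd4 zd0) (kd xd5 yd50 zd47) (kd xd2 yd30 zd36) (kd xd2 yd39 zd22) (kd xd4 yd41 zd33) (kd xd2 yd30 zd38) (kd xd6 yd15 zd4) (kd xd2 yd33 zd19) (kd xd2 yd33 zd20) (kd xd4 yd3 zd34) (kd xd6 yd15 zd5) (kd xd2 yd33 zd35) (kd xd10 yd4 zd22) (kd xd9 yd17 zd52) (kd xd2 yd33 zd3) (kd xd6 yd9 zd7) (kd xd2 yd33 zd2) (kd xd2 yd57 zd60) (kd xd2 yd48 zd41) (kd xd8 yd0 zd59) (kd xd10 yd3 zd55) (kd xd2 yd30 zd47) (kd xd2 yd30 zd49) (kd xd5 yd52 zd8) (kd xd9 yd15 zd18)) (@D3.rec (fun _ => Pt) (kd xd2 yd30 zd50) (kd xd10 yd4 zd43) (kd xd2 yd33 zd34) (kd xd4 yd7 zd9) (kd xd4 yd7 zd12) (kd xd3 yd23 zd52) (kd xd6 yd3 zd6) (kd xd2 yd46 zd0) (kd xd2 yd33 zd1) (kd xd6 yd4 zd12) (kd xd5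 yd45 zd54) (kd xd4 yd39 zd11) (kd xd10 yd4 zd61) (kd xd10 yd5 zd0) (kd xd2 yd30 zd57) (kd xd10 yd5 zd3) (kd xd2 yd30 zd58) (kd xd6 yd46 zd16) (kd xd10 yd5 zd5) (kd xd2 yd30 zd59) (kd xd4 yd7 zd11) (kd xd4 yd53 zd48) (kd xd10 yd5 zd12) (kd xd10 yd5 zd13) (kd xd4 yd5 zd60) (kd xd2 yd30 zd61) (kd xd5 yd50 zd54) (kd xd8 yd14 zd58) (kd xd2 yd31 zd0) (kd xd10 yd5 zd20) (kd xd2 yd31 zd2) (kd xd10 yd5 zd23) (kd xd10 yd5 zd25) (kd xd2 yd31 zd3) (kd xd10 yd5 zd29) (kd xd10 yd5 zd28) (kd xd6 yd7 zd61) (kd xd2 yd31 zd4) (kd xd6 yd16 zd33) (kd xd10 yd5 zd33) (kd xd10 yd5 zd36) (kd xd10 yd5 zd40) (kd xd2 yd31 zd7) (kd xd2 yd31 zd6) (kd xd10 yd5 zd44) (kd xd2 yd31 zd8) (kd xd2 yd31 zd9) (kd xd6 yd28 zd2) (kd xd10 yd5 zd42) (kd xd2 yd59 zd53) (kd xd10 yd5 zd58) (kd xd2 yd51 zd49) (kd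 xd5 yd37 zd53) (kd xd10 yd6 zd7) (kd xd5 yd37 zd59) (kd xd4 yd34 zd20) (kd xd10 yd6 zd14) (kd xd2 yd51 zd52) (kd xd10 yd6 zd20) (kd xd10 yd6 zd23) (kd xd10 yd6 zd28) (kd xd2 yd31 zd14)) (@D3.rec (fun _ => Pt) (kd xd10 yd6 zd36) (kd xd10 yd6 zd33) (kd xd9 yd24 zd28) (kd xd9 yd24 zd29) (kd xd2 yd51 zd61) (kd xd9 yd6 zd51) (kd xd6 yd31 zd29) (kd xd5 yd37 zd32) (kd xd10 yd6 zd49) (kd xd10 yd6 zd51) (kd xd5 yd37 zd35) (kd xd4 yd53 zd55) (kd xd10 yd6 zd56) (kd xd5 yd49 zd61) (kd xd10 yd6 zd61) (kd xd5 yd0 zd12) (kd xd5 yd50 zd2) (kd xd9 yd55 zd27) (kd xd9 yd55 zd28) (kd xd5 yd11 zd28) (kd xd6 yd10 zd27) (kd xd4 yd41 zd46) (kd xd5 yd40 zd12) (kd xd4 yd41 zd45) (kd xd2 yd48 zd47) (kd xd9 yd6 zd53) (kd xd2 yd43 zd28) (kd xd2 yd43 zd24) (kd xd4 yd6 zd27) (kd xd4 yd22 zd20) (kd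 xd10 yd7 zd22) (kd xd8 yd1 zd31) (kd xd10 yd7 zd28) (kd xd4 yd20 zd24) (kd xd10 yd7 zd34) (kd xd10 yd7 zd36) (kd xd10 yd7 zd39) (kd xd10 yd7 zd44) (kd xd2 yd31 zd31) (kd xd10 yd7 zd49) (kd xd8 yd36 zd39) (kd xd4 yd12 zd48) (kd xd8 yd1 zd33) (kd xd5 yd28 zd16) (kd xd4 yd6 zd29) (kd xd5 yd19 zd34) (kd xd10 yd7 zd57) (kd xd2 yd31 zd34) (kd xd10 yd7 zd61) (kd xd2 yd31 zd35) (kd xd10 yd8 zd4) (kd xd7 yd58 zd48) (kd xd4 yd14 zd35) (kd xd2 yd31 zd36) (kd xd10 yd8 zd12) (kd xd10 yd4 zd15) (kd xd10 yd8 zd15) (kd xd5 yd38 zd53) (kd xd10 yd8 zd23) (kd xd2 yd31 zd39) (kd xd10 yd8 zd30) (kd xd10 yd8 zd33)) (@D3.rec (fun _ => Pt) (kd xd9 yd44 zd30) (kd xd5 yd38 zd56) (kd xd7 yd56 zd6) (kd xd10 yd8 zd42) (kd xd2 yd31 zd42) (kd xd8 yd40 zd47) (kd xd4 yd51 zd45) (kd xd4 yd51 zd46) (kd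 xd7 yd56 zd11) (kd xd8 yd10 zd41) (kd xd2 yd31 zd44) (kd xd10 yd8 zd55) (kd xd10 yd8 zd60) (kd xd2 yd31 zd45) (kd xd8 yd36 zd37) (kd xd10 yd9 zd6) (kd xd10 yd9 zd11) (kd xd10 yd9 zd13) (kd xd2 yd31 zd46) (kd xd8 yd5 zd19) (kd xd4 yd1 zd12) (kd xd4 yd1 zd19) (kd xd5 yd1 zd61) (kd xd10 yd9 zd28) (kd xd10 yd9 zd31) (kd xd10 yd9 zd34) (kd xd2 yd31 zd50) (kd xd10 yd9 zd38) (kd xd5 yd9 zd28) (kd xd10 yd9 zd41) (kd xd4 yd52 zd20) (kd xd4 yd3 zd22) (kd xd10 yd9 zd47) (kd xd10 yd9 zd49) (kd xd8 yd10 zd54) (kd xd4 yd12 zd33) (kd xd10 yd9 zd57) (kd xd7 yd57 zd42) (kd xd9 yd58 zd25) (kd xd9 yd58 zd26) (kd xd10 yd10 zd4) (kd xd2 yd31 zd56) (kd xd10 yd10 zd11) (kd xd8 yd36 zd1) (kd xd8 yd36 zd0) (kd xd4 yd52 zd26) (kd xd9 yd54 zd3) (kd xd4 yd6 zd51) (kd xd9 yd59 zd6) (kd xd9 yd59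 zd11) (kd xd7 yd58 zd51) (kd xd8 yd11 zd59) (kd xd2 yd44 zd12) (kd xd9 yd59 zd4) (kd xd9 yd58 zd44) (kd xd9 yd58 zd45) (kd xd10 yd10 zd39) (kd xd2 yd32 zd0) (kd xd4 yd41 zd60) (kd xd4 yd41 zd54) (kd xd4 yd41 zd61) (kd xd4 yd12 zd50)) (@D3.rec (fun _ => Pt) (kd xd4 yd41 zd55) (kd xd4 yd41 zd56) (kd xd5 yd2 zd45) (kd xd5 yd28 zd14) (kd xd10 yd10 zd53) (kd xd10 yd10 zd55) (kd xd4 yd6 zd31) (kd xd9 yd57 zd29) (kd xd9 yd55 zd4) (kd xd10 yd11 zd3) (kd xd2 yd32 zd8) (kd xd10 yd11 zd7) (kd xd7 yd58 zd17) (kd xd2 yd32 zd9) (kd xd5 yd39 zd42) (kd xd10 yd11 zd14) (kd xd9 yd57 zd50) (kd xd9 yd57 zd51) (kd xd10 yd11 zd21) (kd xd2 yd32 zd11) (kd xd9 yd43 zd5) (kd xd9 yd43 zd6) (kd xd8 yd58 zd57) (kd xd10 yd11 zd29) (kd xd5 yd3 zd41) (kd xd5 yd3 zd61) (kd xd5 yd31 zd58) (kd xd4 yd49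 zd49) (kd xd10 yd11 zd33) (kd xd5 yd36 zd29) (kd xd10 yd10 zd6) (kd xd10 yd11 zd43) (kd xd2 yd32 zd19) (kd xd10 yd11 zd48) (kd xd10 yd11 zd52) (kd xd10 yd11 zd55) (kd xd5 yd36 zd36) (kd xd7 yd31 zd23) (kd xd10 yd10 zd41) (kd xd10 yd11 zd61) (kd xd2 yd32 zd21) (kd xd10 yd12 zd3) (kd xd10 yd12 zd5) (kd xd10 yd12 zd7) (kd xd9 yd46 zd37) (kd xd2 yd32 zd23) (kd xd10 yd12 zd11) (kd xd10 yd12 zd13) (kd xd10 yd12 zd15) (kd xd2 yd32 zd24) (kd xd10 yd12 zd18) (kd xd5 yd3 zd14) (kd xd5 yd19 zd39) (kd xd10 yd12 zd24) (kd xd2 yd32 zd27) (kd xd10 yd12 zd29) (kd xd4 yd52 zd24) (kd xd4 yd52 zd25) (kd xd4 yd18 zd54) (kd xd10 yd11 zd23) (kd xd9 yd10 zd1) (kd xd10 yd12 zd40)) (@D3.rec (fun _ => Pt) (kd xd2 yd32 zd29) (kd xd3 yd11 zd4) (kd xd3 yd10 zd53) (kd xd4 yd41 zd58) (kd xd4 yd41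 zd59) (kd xd3 yd11 zd5) (kd xd3 yd10 zd59) (kd xd5 yd3 zd15) (kd xd4 yd52 zd28) (kd xd3 yd11 zd0) (kd xd10 yd12 zd53) (kd xd10 yd12 zd57) (kd xd6 yd40 zd6) (kd xd10 yd13 zd0) (kd xd2 yd32 zd35) (kd xd10 yd13 zd5) (kd xd10 yd13 zd7) (kd xd2 yd32 zd37) (kd xd10 yd13 zd9) (kd xd3 yd2 zd13) (kd xd3 yd1 zd44) (kd xd6 yd40 zd12) (kd xd10 yd13 zd19) (kd xd2 yd32 zd38) (kd xd10 yd13 zd23) (kd xd4 yd50 zd9) (kd xd2 yd32 zd40) (kd xd6 yd24 zd1) (kd xd5 yd8 zd19) (kd xd10 yd13 zd29) (kd xd10 yd13 zd34) (kd xd10 yd13 zd40) (kd xd2 yd32 zd41) (kd xd10 yd13 zd48) (kd xd10 yd13 zd46) (kd xd10 yd13 zd54) (kd xd10 yd13 zd57) (kd xd2 yd32 zd42) (kd xd10 yd14 zd0) (kd xd2 yd32 zd43) (kd xd10 yd10 zd30) (kd xd10 yd10 zd31) (kd xd10 yd14 zd12) (kd xd5 yd4 zd36) (kd xd10 yd14 zd18) (kd xd2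 yd32 zd58) (kd xd6 yd12 zd54) (kd xd2 yd33 zd29) (kd xd10 yd14 zd28) (kd xd10 yd14 zd31) (kd xd10 yd14 zd34) (kd xd5 yd4 zd43) (kd xd6 yd20 zd43) (kd xd2 yd32 zd49) (kd xd10 yd14 zd38) (kd xd10 yd14 zd41) (kd xd2 yd32 zd50) (kd xd3 yd58 zd39) (kd xd2 yd58 zd36) (kd xd10 yd14 zd43) (kd xd6 yd4 zd25) (kd xd10 yd14 zd49)) (@D3.rec (fun _ => Pt) (kd xd2 yd37 zd1) (kd xd10 yd14 zd51) (kd xd8 yd43 zd39) (kd xd10 yd14 zd56) (kd xd2 yd32 zd53) (kd xd10 yd14 zd61) (kd xd8 yd20 zd19) (kd xd8 yd20 zd18) (kd xd4 yd11 zd33) (kd xd4 yd46 zd4) (kd xd2 yd39 zd32) (kd xd2 yd42 zd15) (kd xd6 yd6 zd28) (kd xd2 yd39 zd37) (kd xd4 yd15 zd10) (kd xd10 yd15 zd9) (kd xd9 yd59 zd27) (kd xd9 yd59 zd28) (kd xd10 yd14 zd19) (kd xd10 yd15 zd19) (kd xd2 yd32 zd59) (kd xd6 yd25 zd45) (kd xd4 yd15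 zd47) (kd xd4 yd17 zd10) (kd xd5 yd5 zd50) (kd xd5 yd53 zd61) (kd xd10 yd4 zd30) (kd xd10 yd15 zd23) (kd xd2 yd56 zd56) (kd xd7 yd26 zd45) (kd xd5 yd42 zd9) (kd xd10 yd15 zd29) (kd xd9 yd5 zd17) (kd xd5 yd42 zd11) (kd xd4 yd27 zd44) (kd xd2 yd34 zd36) (kd xd10 yd15 zd36) (kd xd10 yd15 zd39) (kd xd2 yd33 zd10) (kd xd10 yd4 zd13) (kd xd2 yd36 zd9) (kd xd10 yd4 zd11) (kd xd4 yd2 zd5) (kd xd10 yd4 zd16) (kd xd10 yd15 zd53) (kd xd2 yd33 zd13) (kd xd10 yd15 zd57) (kd xd10 yd15 zd60) (kd xd5 yd19 zd43) (kd xd2 yd33 zd14) (kd xd10 yd16 zd3) (kd xd10 yd8 zd26) (kd xd2 yd33 zd16) (kd xd10 yd16 zd7) (kd xd2 yd33 zd17) (kd xd8 yd2 zd40) (kd xd7 yd17 zd33) (kd xd6 yd13 zd8) (kd xd10 yd4 zd7) (kd xd10 yd4 zd8) (kd xd2 yd33 zd21) (kd xd2 yd33 zd42)) (@D3.rec (fun _ => Pt) (kd xd4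 yd20 zd2) (kd xd8 yd46 zd38) (kd xd2 yd33 zd23) (kd xd8 yd7 zd20) (kd xd10 yd16 zd26) (kd xd10 yd16 zd28) (kd xd2 yd37 zd26) (kd xd10 yd16 zd33) (kd xd10 yd16 zd36) (kd xd10 yd16 zd41) (kd xd2 yd33 zd26) (kd xd4 yd23 zd55) (kd xd2 yd38 zd47) (kd xd2 yd33 zd27) (kd xd5 yd23 zd51) (kd xd10 yd16 zd51) (kd xd6 yd40 zd54) (kd xd6 yd40 zd53) (kd xd3 yd2 zd10) (kd xd10 yd16 zd60) (kd xd2 yd33 zd30) (kd xd4 yd56 zd13) (kd xd2 yd41 zd57) (kd xd5 yd16 zd25) (kd xd5 yd16 zd32) (kd xd8 yd58 zd31) (kd xd6 yd44 zd52) (kd xd10 yd17 zd9) (kd xd10 yd17 zd12) (kd xd3 yd10 zd14) (kd xd10 yd17 zd17) (kd xd10 yd17 zd20) (kd xd6 yd8 zd23) (kd xd3 yd5 zd28) (kd xd6 yd16 zd49) (kd xd4 yd33 zd43) (kd xd5 yd0 zd20) (kd xd10 yd16 zd17) (kd xd10 yd16 zd14) (kd xd10 yd17 zd29) (kd xd2 yd33 zd43)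 (kd xd10 yd17 zd32) (kd xd4 yd19 zd58) (kd xd10 yd17 zd37) (kd xd2 yd33 zd45) (kd xd2 yd33 zd46) (kd xd10 yd17 zd42) (kd xd10 yd17 zd46) (kd xd2 yd33 zd48) (kd xd5 yd50 zd7) (kd xd2 yd33 zd49) (kd xd10 yd17 zd53) (kd xd4 yd7 zd17) (kd xd10 yd17 zd54) (kd xd2 yd33 zd51) (kd xd10 yd17 zd56) (kd xd10 yd17 zd57) (kd xd2 yd33 zd52) (kd xd10 yd17 zd58) (kd xd2 yd33 zd53) (kd xd5 yd49 zd27) (kd xd2 yd33 zd54)) (@D3.rec (fun _ => Pt) (kd xd3 yd38 zd24) (kd xd4 yd53 zd53) (kd xd4 yd53 zd54) (kd xd10 yd18 zd6) (kd xd5 yd49 zd29) (kd xd6 yd17 zd2) (kd xd6 yd17 zd3) (kd xd4 yd57 zd51) (kd xd3 yd59 zd12) (kd xd2 yd57 zd47) (kd xd8 yd12 zd35) (kd xd2 yd33 zd58) (kd xd2 yd33 zd59) (kd xd3 yd21 zd14) (kd xd4 yd53 zd51) (kd xd4 yd5 zd49) (kd xd6 yd49 zd42) (kd xd3 yd21 zd17) (kd xd5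 yd52 zd16) (kd xd8 yd12 zd54) (kd xd2 yd34 zd0) (kd xd6 yd46 zd21) (kd xd8 yd12 zd34) (kd xd9 yd32 zd30) (kd xd10 yd18 zd24) (kd xd2 yd34 zd2) (kd xd4 yd34 zd9) (kd xd4 yd6 zd52) (kd xd10 yd18 zd33) (kd xd9 yd8 zd5) (kd xd4 yd34 zd46) (kd xd4 yd53 zd49) (kd xd10 yd18 zd36) (kd xd5 yd40 zd43) (kd xd10 yd18 zd42) (kd xd9 yd46 zd47) (kd xd5 yd40 zd45) (kd xd4 yd53 zd50) (kd xd7 yd27 zd13) (kd xd5 yd52 zd11) (kd xd9 yd50 zd58) (kd xd9 yd50 zd53) (kd xd5 yd52 zd14) (kd xd10 yd10 zd22) (kd xd10 yd10 zd23) (kd xd5 yd4 zd21) (kd xd6 yd28 zd20) (kd xd3 yd7 zd6) (kd xd10 yd19 zd0) (kd xd3 yd10 zd45) (kd xd4 yd33 zd49) (kd xd5 yd52 zd54) (kd xd4 yd30 zd50) (kd xd4 yd30 zd46) (kd xd10 yd19 zd11) (kd xd10 yd19 zd15) (kd xd2 yd34 zd17) (kd xd10 yd19 zd18) (kd xd4 yd7 zd31) (kd xd10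 yd19 zd20) (kd xd10 yd19 zd25) (kd xd2 yd34 zd20)) (@D3.rec (fun _ => Pt) (kd xd2 yd34 zd21) (kd xd10 yd19 zd31) (kd xd10 yd19 zd33) (kd xd5 yd28 zd13) (kd xd10 yd19 zd36) (kd xd2 yd40 zd15) (kd xd10 yd19 zd41) (kd xd10 yd19 zd46) (kd xd2 yd34 zd25) (kd xd8 yd29 zd3) (kd xd5 yd15 zd10) (kd xd4 yd3 zd7) (kd xd9 yd52 zd13) (kd xd7 yd55 zd26) (kd xd4 yd8 zd28) (kd xd2 yd34 zd29) (kd xd4 yd7 zd54) (kd xd4 yd8 zd36) (kd xd8 yd29 zd1) (kd xd7 yd58 zd18) (kd xd4 yd8 zd33) (kd xd9 yd22 zd56) (kd xd4 yd7 zd59) (kd xd9 yd23 zd10) (kd xd9 yd25 zd40) (kd xd10 yd20 zd11) (kd xd2 yd34 zd33) (kd xd6 yd52 zd37) (kd xd8 yd29 zd39) (kd xd8 yd16 zd47) (kd xd4 yd21 zd8) (kd xd10 yd20 zd19) (kd xd10 yd15 zd33) (kd xd2 yd34 zd37) (kd xd8 yd29 zd2) (kd xd10 yd20 zd27) (kd xd2 yd34 zd39) (kd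 xd10 yd20 zd33) (kd xd2 yd34 zd40) (kd xd10 yd20 zd38) (kd xd4 yd2 zd50) (kd xd2 yd34 zd41) (kd xd10 yd20 zd43) (kd xd10 yd20 zd45) (kd xd8 yd38 zd51) (kd xd10 yd20 zd12) (kd xd10 yd20 zd53) (kd xd2 yd34 zd44) (kd xd10 yd20 zd59) (kd xd10 yd21 zd0) (kd xd5 yd35 zd0) (kd xd6 yd5 zd51) (kd xd10 yd21 zd4) (kd xd8 yd16 zd23) (kd xd10 yd21 zd12) (kd xd2 yd34 zd47) (kd xd10 yd21 zd17) (kd xd4 yd16 zd17) (kd xd4 yd16 zd18) (kd xd8 yd16 zd31) (kd xd10 yd21 zd25) (kd xd2 yd34 zd49)) (@D3.rec (fun _ => Pt) (kd xd10 yd21 zd29) (kd xd10 yd21 zd34) (kd xd2 yd34 zd50) (kd xd10 yd21 zd37) (kd xd10 yd21 zd41) (kd xd10 yd21 zd45) (kd xd10 yd21 zd47) (kd xd2 yd34 zd51) (kd xd10 yd21 zd51) (kd xd8 yd26 zd9) (kd xd6 yd5 zd42) (kd xd4 yd15 zd17) (kd xd5 yd18 zd15) (kd xd2 yd34 zd53) (kd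 xd10 yd22 zd2) (kd xd10 yd22 zd4) (kd xd10 yd22 zd8) (kd xd10 yd1 zd58) (kd xd2 yd34 zd55) (kd xd6 yd56 zd48) (kd xd10 yd22 zd17) (kd xd10 yd22 zd19) (kd xd6 yd4 zd53) (kd xd10 yd22 zd22) (kd xd2 yd34 zd57) (kd xd5 yd13 zd23) (kd xd9 yd39 zd58) (kd xd2 yd34 zd60) (kd xd10 yd22 zd29) (kd xd4 yd18 zd5) (kd xd4 yd18 zd6) (kd xd4 yd16 zd58) (kd xd5 yd13 zd24) (kd xd4 yd18 zd14) (kd xd9 yd7 zd58) (kd xd6 yd40 zd43) (kd xd10 yd22 zd39) (kd xd10 yd22 zd44) (kd xd2 yd35 zd3) (kd xd10 yd22 zd50) (kd xd10 yd22 zd48) (kd xd3 yd18 zd28) (kd xd10 yd22 zd58) (kd xd2 yd35 zd4) (kd xd10 yd23 zd0) (kd xd2 yd35 zd5) (kd xd10 yd2 zd22) (kd xd9 yd42 zd61) (kd xd10 yd23 zd10) (kd xd5 yd18 zd53) (kd xd2 yd54 zd42) (kd xd10 yd23 zd16) (kd xd10 yd23 zd18) (kd xd10 yd23 zd21) (kd xd2 yd35 zd10)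 (kd xd10 yd23 zd23) (kd xd10 yd23 zd24) (kd xd10 yd23 zd27) (kd xd10 yd23 zd32) (kd xd2 yd35 zd12) (kd xd8 yd23 zd55) (kd xd10 yd23 zd38)) (@D3.rec (fun _ => Pt) (kd xd2 yd35 zd14) (kd xd10 yd23 zd41) (kd xd10 yd23 zd43) (kd xd5 yd25 zd51) (kd xd10 yd23 zd46) (kd xd4 yd28 zd46) (kd xd10 yd23 zd50) (kd xd10 yd23 zd55) (kd xd2 yd35 zd18) (kd xd10 yd23 zd60) (kd xd5 yd17 zd10) (kd xd10 yd24 zd1) (kd xd4 yd13 zd38) (kd xd4 yd13 zd45) (kd xd4 yd12 zd8) (kd xd8 yd15 zd33) (kd xd4 yd55 zd26) (kd xd2 yd35 zd24) (kd xd9 yd39 zd20) (kd xd8 yd15 zd34) (kd xd9 yd25 zd43) (kd xd2 yd35 zd26) (kd xd5 yd29 zd34) (kd xd4 yd21 zd5) (kd xd8 yd26 zd22) (kd xd10 yd24 zd25) (kd xd2 yd35 zd29) (kd xd10 yd23 zd58) (kd xd5 yd17 zd28) (kd xd10 yd24 zd32) (kd xd4 yd15 zd8) (kd xd10 yd24 zd38)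 (kd xd10 yd24 zd41) (kd xd10 yd24 zd46) (kd xd2 yd35 zd32) (kd xd10 yd24 zd51) (kd xd8 yd16 zd30) (kd xd8 yd29 zd57) (kd xd5 yd24 zd22) (kd xd9 yd40 zd30) (kd xd10 yd24 zd58) (kd xd2 yd35 zd35) (kd xd10 yd25 zd1) (kd xd2 yd35 zd36) (kd xd10 yd25 zd6) (kd xd2 yd41 zd48) (kd xd2 yd35 zd37) (kd xd10 yd25 zd11) (kd xd9 yd25 zd23) (kd xd8 yd16 zd18) (kd xd10 yd25 zd18) (kd xd2 yd35 zd39) (kd xd3 yd20 zd2) (kd xd10 yd25 zd25) (kd xd8 yd59 zd49) (kd xd5 yd26 zd12) (kd xd8 yd29 zd34) (kd xd10 yd25 zd34) (kd xd2 yd35 zd42) (kd xd10 yd25 zd39) (kd xd4 yd9 zd36) (kd xd4 yd9 zd37)) (@D3.rec (fun _ => Pt) (kd xd8 yd29 zd40) (kd xd10 yd25 zd47) (kd xd2 yd35 zd44) (kd xd9 yd22 zd57) (kd xd7 yd15 zd57) (kd xd2 yd35 zd45) (kd xd3 yd45 zd58) (kd xd10 yd25 zd55) (kd xd10 yd25 zd59) (kd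 xd10 yd25 zd61) (kd xd2 yd35 zd46) (kd xd10 yd26 zd4) (kd xd8 yd15 zd1) (kd xd8 yd15 zd3) (kd xd6 yd5 zd59) (kd xd5 yd16 zd12) (kd xd2 yd35 zd48) (kd xd10 yd26 zd18) (kd xd10 yd26 zd20) (kd xd10 yd26 zd24) (kd xd9 yd40 zd31) (kd xd2 yd35 zd50) (kd xd10 yd26 zd30) (kd xd10 yd26 zd34) (kd xd10 yd26 zd36) (kd xd5 yd21 zd42) (kd xd10 yd26 zd38) (kd xd2 yd35 zd52) (kd xd5 yd6 zd24) (kd xd10 yd16 zd42) (kd xd10 yd16 zd43) (kd xd2 yd35 zd55) (kd xd10 yd26 zd47) (kd xd4 yd11 zd31) (kd xd4 yd11 zd32) (kd xd4 yd10 zd22) (kd xd5 yd6 zd25) (kd xd4 yd11 zd41) (kd xd5 yd55 zd26) (kd xd10 yd26 zd55) (kd xd9 yd50 zd12) (kd xd10 yd27 zd0) (kd xd2 yd35 zd60) (kd xd10 yd27 zd8) (kd xd10 yd27 zd6) (kd xd10 yd27 zd14) (kd xd10 yd27 zd17) (kd xd2 yd35 zd61) (kd xd10 yd27 zd22) (kd xd2 yd36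 zd0) (kd xd9 yd55 zd55) (kd xd9 yd55 zd56) (kd xd10 yd27 zd34) (kd xd5 yd16 zd49) (kd xd5 yd56 zd48) (kd xd10 yd27 zd42) (kd xd10 yd27 zd45) (kd xd4 yd43 zd57) (kd xd10 yd27 zd48) (kd xd2 yd36 zd5) (kd xd4 yd3 zd2) (kd xd9 yd39 zd56)) (@D3.rec (fun _ => Pt) (kd xd4 yd16 zd13) (kd xd9 yd39 zd57) (kd xd10 yd15 zd43) (kd xd2 yd36 zd10) (kd xd5 yd22 zd35) (kd xd7 yd55 zd31) (kd xd2 yd36 zd12) (kd xd5 yd19 zd7) (kd xd9 yd40 zd29) (kd xd4 yd21 zd55) (kd xd2 yd36 zd16) (kd xd5 yd22 zd17) (kd xd10 yd28 zd11) (kd xd2 yd36 zd17) (kd xd5 yd19 zd14) (kd xd10 yd28 zd17) (kd xd2 yd36 zd19) (kd xd10 yd28 zd22) (kd xd4 yd10 zd21) (kd xd4 yd10 zd20) (kd xd8 yd22 zd35) (kd xd10 yd28 zd30) (kd xd2 yd36 zd21) (kd xd10 yd28 zd35) (kd xd10 yd28 zd38) (kd xd5 yd25 zd45) (kd xd2 yd36 zd23)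 (kd xd10 yd28 zd43) (kd xd10 yd28 zd47) (kd xd2 yd36 zd24) (kd xd10 yd28 zd50) (kd xd10 yd28 zd55) (kd xd2 yd36 zd25) (kd xd10 yd28 zd58) (kd xd5 yd8 zd45) (kd xd9 yd39 zd29) (kd xd2 yd36 zd45) (kd xd8 yd3 zd57) (kd xd9 yd40 zd1) (kd xd5 yd10 zd52) (kd xd8 yd52 zd27) (kd xd10 yd29 zd11) (kd xd10 yd29 zd13) (kd xd5 yd12 zd48) (kd xd4 yd8 zd30) (kd xd10 yd29 zd23) (kd xd2 yd36 zd32) (kd xd5 yd19 zd47) (kd xd10 yd29 zd28) (kd xd2 yd36 zd34) (kd xd10 yd29 zd32) (kd xd8 yd8 zd15) (kd xd2 yd36 zd35) (kd xd10 yd29 zd38) (kd xd10 yd29 zd40) (kd xd2 yd36 zd38) (kd xd10 yd29 zd45) (kd xd2 yd36 zd39) (kd xd10 yd29 zd50) (kd xd8 yd34 zd54) (kd xd8 yd34 zd35) (kd xd8 yd32 zd49)) (@D3.rec (fun _ => Pt) (kd xd10 yd29 zd58) (kd xd2 yd36 zd41) (kd xd10 yd29 zd61) (kd xd10 yd30 zd3)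 (kd xd2 yd36 zd42) (kd xd10 yd30 zd6) (kd xd10 yd30 zd11) (kd xd10 yd30 zd16) (kd xd5 yd20 zd10) (kd xd2 yd36 zd43) (kd xd5 yd20 zd8) (kd xd5 yd3 zd17) (kd xd8 yd52 zd52) (kd xd10 yd30 zd26) (kd xd10 yd30 zd28) (kd xd10 yd10 zd7) (kd xd5 yd5 zd19) (kd xd10 yd30 zd33) (kd xd4 yd10 zd14) (kd xd10 yd30 zd38) (kd xd10 yd30 zd41) (kd xd10 yd30 zd46) (kd xd2 yd36 zd49) (kd xd10 yd30 zd51) (kd xd5 yd20 zd24) (kd xd9 yd51 zd39) (kd xd6 yd5 zd2) (kd xd5 yd24 zd59) (kd xd5 yd24 zd16) (kd xd5 yd24 zd15) (kd xd10 yd31 zd2) (kd xd2 yd36 zd54) (kd xd10 yd31 zd7) (kd xd4 yd27 zd55) (kd xd6 yd5 zd8) (kd xd9 yd40 zd59) (kd xd8 yd40 zd52) (kd xd10 yd31 zd17) (kd xd2 yd36 zd58) (kd xd10 yd31 zd22) (kd xd8 yd21 zd60) (kd xd8 yd32 zd56) (kd xd8 yd4 zd47) (kd xd10 yd31 zd3) (kd xd10 yd31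 zd34) (kd xd2 yd36 zd61) (kd xd10 yd31 zd38) (kd xd10 yd29 zd14) (kd xd8 yd52 zd30) (kd xd6 yd4 zd35) (kd xd10 yd31 zd47) (kd xd2 yd37 zd3) (kd xd3 yd52 zd5) (kd xd8 yd52 zd61) (kd xd6 yd4 zd44) (kd xd10 yd31 zd58) (kd xd2 yd37 zd5) (kd xd9 yd3 zd13) (kd xd10 yd32 zd1) (kd xd4 yd6 zd21) (kd xd2 yd37 zd6) (kd xd7 yd28 zd7)) (@D3.rec (fun _ => Pt) (kd xd10 yd32 zd8) (kd xd10 yd32 zd12) (kd xd10 yd32 zd13) (kd xd2 yd37 zd7) (kd xd9 yd43 zd15) (kd xd7 yd57 zd49) (kd xd8 yd18 zd5) (kd xd10 yd30 zd50) (kd xd10 yd32 zd25) (kd xd10 yd32 zd27) (kd xd10 yd32 zd30) (kd xd10 yd32 zd33) (kd xd10 yd32 zd36) (kd xd10 yd32 zd41) (kd xd2 yd37 zd11) (kd xd10 yd32 zd45) (kd xd10 yd32 zd50) (kd xd2 yd37 zd12) (kd xd10 yd32 zd55) (kd xd10 yd32 zd57) (kd xd8 yd18 zd58) (kd xd10 yd32 zd61)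 (kd xd8 yd7 zd47) (kd xd10 yd33 zd6) (kd xd2 yd37 zd17) (kd xd5 yd21 zd25) (kd xd10 yd16 zd44) (kd xd8 yd8 zd33) (kd xd10 yd33 zd14) (kd xd4 yd27 zd23) (kd xd10 yd33 zd19) (kd xd10 yd33 zd21) (kd xd10 yd33 zd24) (kd xd10 yd33 zd27) (kd xd2 yd37 zd23) (kd xd10 yd33 zd31) (kd xd5 yd24 zd48) (kd xd5 yd24 zd47) (kd xd8 yd53 zd0) (kd xd10 yd33 zd35) (kd xd2 yd37 zd25) (kd xd10 yd33 zd38) (kd xd5 yd18 zd25) (kd xd10 yd16 zd31) (kd xd10 yd26 zd43) (kd xd8 yd30 zd52) (kd xd10 yd33 zd28) (kd xd10 yd33 zd29) (kd xd10 yd33 zd51) (kd xd2 yd37 zd28) (kd xd10 yd33 zd58) (kd xd10 yd33 zd61) (kd xd8 yd23 zd50) (kd xd4 yd10 zd49) (kd xd10 yd34 zd5) (kd xd2 yd37 zd30) (kd xd10 yd34 zd10) (kd xd6 yd5 zd6) (kd xd6 yd5 zd7) (kd xd8 yd7 zd19) (kd xd10 yd34 zd18) (kd xd2 yd37 zd32)) (@D3.rec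 (fun _ => Pt) (kd xd10 yd34 zd22) (kd xd10 yd34 zd27) (kd xd2 yd37 zd33) (kd xd10 yd34 zd30) (kd xd10 yd34 zd36) (kd xd10 yd34 zd40) (kd xd10 yd34 zd41) (kd xd2 yd37 zd34) (kd xd10 yd34 zd46) (kd xd9 yd33 zd14) (kd xd9 yd33 zd16) (kd xd5 yd3 zd44) (kd xd2 yd39 zd13) (kd xd2 yd37 zd36) (kd xd10 yd34 zd58) (kd xd5 yd22 zd15) (kd xd4 yd15 zd55) (kd xd5 yd19 zd11) (kd xd9 yd42 zd52) (kd xd10 yd35 zd6) (kd xd2 yd37 zd41) (kd xd10 yd35 zd10) (kd xd5 yd28 zd7) (kd xd8 yd20 zd27) (kd xd2 yd37 zd42) (kd xd10 yd35 zd15) (kd xd10 yd35 zd16) (kd xd5 yd22 zd27) (kd xd9 yd51 zd50) (kd xd4 yd3 zd12) (kd xd6 yd4 zd45) (kd xd4 yd1 zd1) (kd xd9 yd42 zd13) (kd xd4 yd21 zd40) (kd xd9 yd42 zd12) (kd xd5 yd19 zd4) (kd xd9 yd43 zd11) (kd xd10 yd35 zd35) (kd xd8 yd53 zd19) (kd xd8 yd53 zd18)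 (kd xd2 yd37 zd52) (kd xd10 yd35 zd43) (kd xd8 yd11 zd0) (kd xd2 yd37 zd53) (kd xd10 yd35 zd46) (kd xd8 yd57 zd18) (kd xd2 yd37 zd56) (kd xd10 yd35 zd53) (kd xd8 yd22 zd19) (kd xd8 yd22 zd52) (kd xd8 yd20 zd38) (kd xd10 yd35 zd61) (kd xd2 yd37 zd58) (kd xd10 yd36 zd4) (kd xd10 yd36 zd8) (kd xd2 yd37 zd60) (kd xd10 yd36 zd11) (kd xd10 yd36 zd16) (kd xd8 yd11 zd3) (kd xd2 yd37 zd61) (kd xd10 yd36 zd20) (kd xd10 yd36 zd23)) (@D3.rec (fun _ => Pt) (kd xd10 yd36 zd27) (kd xd10 yd36 zd29) (kd xd2 yd38 zd0) (kd xd10 yd36 zd36) (kd xd2 yd38 zd36) (kd xd2 yd38 zd37) (kd xd10 yd36 zd44) (kd xd10 yd36 zd47) (kd xd10 yd36 zd50) (kd xd2 yd38 zd2) (kd xd10 yd36 zd55) (kd xd10 yd36 zd58) (kd xd2 yd38 zd3) (kd xd10 yd36 zd61) (kd xd10 yd33 zd34) (kd xd8 yd53 zd51) (kd xd6 yd6 zd29)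 (kd xd10 yd37 zd7) (kd xd2 yd38 zd6) (kd xd10 yd37 zd9) (kd xd10 yd37 zd11) (kd xd2 yd58 zd40) (kd xd2 yd38 zd8) (kd xd5 yd23 zd23) (kd xd9 yd51 zd40) (kd xd9 yd34 zd10) (kd xd4 yd51 zd25) (kd xd10 yd37 zd26) (kd xd2 yd38 zd14) (kd xd10 yd37 zd30) (kd xd7 yd55 zd47) (kd xd2 yd38 zd15) (kd xd10 yd37 zd34) (kd xd9 yd43 zd13) (kd xd10 yd37 zd39) (kd xd10 yd37 zd42) (kd xd4 yd21 zd12) (kd xd2 yd38 zd20) (kd xd10 yd37 zd47) (kd xd8 yd1 zd27) (kd xd10 yd37 zd50) (kd xd10 yd37 zd53) (kd xd10 yd37 zd55) (kd xd2 yd38 zd24) (kd xd10 yd38 zd1) (kd xd10 yd38 zd5) (kd xd10 yd38 zd9) (kd xd10 yd38 zd12) (kd xd2 yd38 zd26) (kd xd10 yd38 zd16) (kd xd10 yd38 zd19) (kd xd5 yd13 zd14) (kd xd10 yd38 zd22) (kd xd10 yd34 zd1) (kd xd10 yd31 zd54) (kd xd10 yd38 zd28) (kd xd2 yd38 zd30) (kd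 xd10 yd38 zd31) (kd xd10 yd38 zd34) (kd xd10 yd38 zd39) (kd xd2 yd38 zd31) (kd xd10 yd24 zd54)) (@D3.rec (fun _ => Pt) (kd xd10 yd38 zd46) (kd xd2 yd38 zd33) (kd xd10 yd38 zd51) (kd xd10 yd38 zd53) (kd xd10 yd38 zd55) (kd xd2 yd38 zd35) (kd xd10 yd16 zd45) (kd xd10 yd36 zd38) (kd xd10 yd39 zd0) (kd xd10 yd36 zd40) (kd xd10 yd36 zd31) (kd xd10 yd36 zd32) (kd xd10 yd39 zd9) (kd xd2 yd38 zd38) (kd xd10 yd39 zd17) (kd xd5 yd20 zd29) (kd xd5 yd20 zd28) (kd xd10 yd39 zd25) (kd xd4 yd33 zd8) (kd xd4 yd33 zd20) (kd xd2 yd38 zd40) (kd xd10 yd39 zd32) (kd xd5 yd17 zd38) (kd xd9 yd3 zd41) (kd xd2 yd38 zd44) (kd xd9 yd3 zd40) (kd xd2 yd38 zd45) (kd xd10 yd15 zd8) (kd xd4 yd23 zd17) (kd xd8 yd2 zd47) (kd xd10 yd39 zd43) (kd xd2 yd38 zd49) (kd xd10 yd39 zd47) (kd xd8 yd3 zd0) (kd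 xd8 yd3 zd1) (kd xd8 yd6 zd39) (kd xd10 yd37 zd57) (kd xd10 yd37 zd58) (kd xd10 yd39 zd55) (kd xd2 yd38 zd51) (kd xd3 yd52 zd7) (kd xd10 yd40 zd2) (kd xd10 yd40 zd5) (kd xd3 yd47 zd51) (kd xd10 yd40 zd7) (kd xd8 yd32 zd55) (kd xd10 yd40 zd10) (kd xd5 yd21 zd37) (kd xd5 yd21 zd36) (kd xd10 yd40 zd17) (kd xd2 yd38 zd58) (kd xd10 yd40 zd21) (kd xd10 yd40 zd25) (kd xd10 yd40 zd27) (kd xd10 yd40 zd31) (kd xd2 yd38 zd59) (kd xd9 yd3 zd19) (kd xd5 yd28 zd17) (kd xd9 yd3 zd6) (kd xd5 yd20 zd27) (kd xd4 yd10 zd52) (kd xd9 yd3 zd20)) (@D3.rec (fun _ => Pt) (kd xd9 yd2 zd13) (kd xd10 yd40 zd47) (kd xd10 yd40 zd50) (kd xd10 yd40 zd53) (kd xd10 yd40 zd56) (kd xd2 yd39 zd1) (kd xd7 yd37 zd58) (kd xd8 yd11 zd2) (kd xd10 yd41 zd7) (kd xd2 yd39 zd4) (kd xd7 yd53 zd31) (kd xd10 yd41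 zd9) (kd xd10 yd41 zd12) (kd xd10 yd41 zd16) (kd xd10 yd41 zd21) (kd xd2 yd39 zd5) (kd xd10 yd41 zd29) (kd xd10 yd41 zd27) (kd xd10 yd41 zd34) (kd xd10 yd41 zd36) (kd xd2 yd39 zd6) (kd xd10 yd41 zd41) (kd xd2 yd39 zd7) (kd xd10 yd35 zd58) (kd xd10 yd35 zd59) (kd xd10 yd41 zd55) (kd xd10 yd34 zd45) (kd xd2 yd39 zd9) (kd xd10 yd42 zd2) (kd xd9 yd41 zd8) (kd xd10 yd42 zd7) (kd xd9 yd41 zd49) (kd xd10 yd42 zd13) (kd xd9 yd40 zd58) (kd xd10 yd42 zd18) (kd xd10 yd42 zd21) (kd xd10 yd42 zd25) (kd xd10 yd34 zd56) (kd xd10 yd42 zd29) (kd xd10 yd42 zd32) (kd xd10 yd42 zd36) (kd xd2 yd39 zd15) (kd xd10 yd42 zd42) (kd xd10 yd42 zd45) (kd xd2 yd39 zd16) (kd xd5 yd19 zd25) (kd xd10 yd42 zd50) (kd xd3 yd51 zd39) (kd xd2 yd39 zd17) (kd xd4 yd11 zd9) (kd xd10 yd42 zd55) (kd xd5 yd17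 zd3) (kd xd4 yd46 zd21) (kd xd9 yd24 zd7) (kd xd9 yd22 zd48) (kd xd10 yd43 zd2) (kd xd2 yd39 zd20) (kd xd10 yd43 zd7) (kd xd8 yd15 zd15) (kd xd8 yd15 zd14) (kd xd2 yd42 zd26) (kd xd10 yd4 zd3)) (@D3.rec (fun _ => Pt) (kd xd10 yd43 zd18) (kd xd10 yd43 zd22) (kd xd10 yd43 zd23) (kd xd2 yd39 zd24) (kd xd5 yd50 zd31) (kd xd2 yd40 zd53) (kd xd10 yd43 zd30) (kd xd10 yd43 zd32) (kd xd10 yd43 zd35) (kd xd10 yd43 zd38) (kd xd2 yd39 zd31) (kd xd10 yd43 zd41) (kd xd5 yd17 zd55) (kd xd10 yd15 zd7) (kd xd10 yd43 zd46) (kd xd6 yd51 zd6) (kd xd6 yd50 zd21) (kd xd2 yd39 zd33) (kd xd4 yd50 zd7) (kd xd10 yd43 zd54) (kd xd2 yd39 zd35) (kd xd5 yd0 zd10) (kd xd10 yd43 zd56) (kd xd10 yd43 zd4) (kd xd10 yd43 zd61) (kd xd2 yd39 zd38) (kd xd10 yd44 zd5) (kd xd10 yd44 zd8) (kd xd8 yd20 zd11)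 (kd xd4 yd9 zd10) (kd xd10 yd43 zd25) (kd xd10 yd43 zd26) (kd xd10 yd44 zd16) (kd xd2 yd39 zd40) (kd xd10 yd44 zd21) (kd xd9 yd32 zd29) (kd xd10 yd44 zd23) (kd xd2 yd39 zd42) (kd xd10 yd44 zd27) (kd xd6 yd12 zd10) (kd xd2 yd39 zd43) (kd xd10 yd44 zd30) (kd xd2 yd41 zd41) (kd xd10 yd44 zd35) (kd xd2 yd39 zd46) (kd xd10 yd44 zd41) (kd xd6 yd6 zd21) (kd xd6 yd6 zd22) (kd xd2 yd40 zd23) (kd xd10 yd43 zd50) (kd xd10 yd43 zd51) (kd xd9 yd47 zd37) (kd xd2 yd39 zd48) (kd xd5 yd5 zd35) (kd xd10 yd44 zd50) (kd xd4 yd49 zd21) (kd xd10 yd44 zd56) (kd xd10 yd44 zd60) (kd xd10 yd44 zd61) (kd xd2 yd39 zd55) (kd xd10 yd18 zd29) (kd xd10 yd18 zd30)) (@D3.rec (fun _ => Pt) (kd xd5 yd55 zd38) (kd xd10 yd45 zd8) (kd xd2 yd39 zd56) (kd xd6 yd8 zd21) (kd xd6 yd44 zd51) (kd xd10 yd45 zd16)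 (kd xd10 yd45 zd22) (kd xd2 yd39 zd58) (kd xd10 yd45 zd28) (kd xd6 yd44 zd14) (kd xd4 yd35 zd57) (kd xd10 yd45 zd32) (kd xd2 yd39 zd59) (kd xd4 yd35 zd53) (kd xd2 yd39 zd60) (kd xd10 yd43 zd13) (kd xd10 yd43 zd14) (kd xd10 yd45 zd41) (kd xd2 yd43 zd12) (kd xd10 yd45 zd48) (kd xd4 yd6 zd46) (kd xd9 yd18 zd6) (kd xd9 yd18 zd5) (kd xd2 yd43 zd19) (kd xd2 yd40 zd3) (kd xd5 yd27 zd25) (kd xd10 yd45 zd58) (kd xd2 yd40 zd5) (kd xd10 yd46 zd1) (kd xd10 yd46 zd3) (kd xd10 yd46 zd8) (kd xd2 yd40 zd7) (kd xd3 yd48 zd37) (kd xd4 yd28 zd53) (kd xd4 yd28 zd52) (kd xd8 yd16 zd4) (kd xd10 yd19 zd26) (kd xd10 yd46 zd20) (kd xd2 yd40 zd11) (kd xd10 yd46 zd25) (kd xd10 yd46 zd28) (kd xd8 yd19 zd15) (kd xd8 yd16 zd36) (kd xd10 yd46 zd32) (kd xd8 yd52 zd1) (kd xd10 yd46 zd39) (kd xd2 yd40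 zd14) (kd xd10 yd46 zd43) (kd xd10 yd24 zd36) (kd xd10 yd19 zd39) (kd xd10 yd46 zd49) (kd xd2 yd40 zd16) (kd xd10 yd46 zd52) (kd xd10 yd46 zd57) (kd xd2 yd40 zd17) (kd xd10 yd46 zd60) (kd xd10 yd47 zd2) (kd xd10 yd47 zd5) (kd xd10 yd47 zd7) (kd xd2 yd40 zd18) (kd xd10 yd47 zd14) (kd xd10 yd47 zd17)) (@D3.rec (fun _ => Pt) (kd xd10 yd47 zd20) (kd xd10 yd47 zd22) (kd xd2 yd40 zd20) (kd xd3 yd48 zd32) (kd xd4 yd3 zd31) (kd xd10 yd47 zd27) (kd xd2 yd40 zd21) (kd xd5 yd22 zd22) (kd xd10 yd47 zd33) (kd xd2 yd40 zd22) (kd xd10 yd43 zd12) (kd xd4 yd7 zd33) (kd xd10 yd47 zd37) (kd xd5 yd15 zd3) (kd xd5 yd10 zd3) (kd xd4 yd8 zd17) (kd xd5 yd8 zd43) (kd xd5 yd24 zd57) (kd xd10 yd47 zd41) (kd xd8 yd53 zd13) (kd xd10 yd47 zd47) (kd xd2 yd40 zd30) (kd xd10 yd47 zd52) (kd xd10 yd47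 zd56) (kd xd10 yd47 zd59) (kd xd4 yd17 zd28) (kd xd2 yd48 zd34) (kd xd2 yd48 zd35) (kd xd10 yd48 zd1) (kd xd2 yd40 zd32) (kd xd9 yd4 zd21) (kd xd10 yd48 zd10) (kd xd10 yd48 zd13) (kd xd10 yd48 zd15) (kd xd2 yd40 zd34) (kd xd10 yd48 zd16) (kd xd8 yd18 zd56) (kd xd10 yd48 zd19) (kd xd10 yd48 zd21) (kd xd2 yd43 zd9) (kd xd2 yd43 zd10) (kd xd5 yd34 zd0) (kd xd2 yd40 zd38) (kd xd10 yd48 zd32) (kd xd10 yd48 zd33) (kd xd8 yd12 zd14) (kd xd2 yd40 zd40) (kd xd4 yd57 zd46) (kd xd4 yd57 zd47) (kd xd10 yd48 zd44) (kd xd10 yd48 zd48) (kd xd2 yd40 zd41) (kd xd10 yd48 zd54) (kd xd10 yd48 zd57) (kd xd2 yd40 zd43) (kd xd10 yd48 zd59) (kd xd2 yd50 zd44) (kd xd2 yd41 zd32) (kd xd9 yd44 zd8) (kd xd4 yd29 zd48) (kd xd2 yd40 zd44) (kd xd10 yd49 zd7)) (@D3.rec (fun _ => Pt) (kd xd10 yd49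 zd8) (kd xd2 yd40 zd46) (kd xd10 yd49 zd14) (kd xd10 yd49 zd19) (kd xd2 yd40 zd47) (kd xd10 yd49 zd24) (kd xd10 yd49 zd29) (kd xd10 yd49 zd32) (kd xd2 yd40 zd48) (kd xd10 yd49 zd37) (kd xd2 yd40 zd49) (kd xd6 yd17 zd1) (kd xd2 yd41 zd60) (kd xd2 yd41 zd61) (kd xd10 yd49 zd48) (kd xd3 yd3 zd24) (kd xd3 yd59 zd38) (kd xd10 yd49 zd54) (kd xd8 yd19 zd58) (kd xd10 yd49 zd61) (kd xd10 yd50 zd1) (kd xd8 yd16 zd60) (kd xd8 yd26 zd34) (kd xd4 yd13 zd51) (kd xd4 yd55 zd5) (kd xd10 yd50 zd10) (kd xd2 yd40 zd59) (kd xd10 yd50 zd14) (kd xd8 yd16 zd42) (kd xd8 yd30 zd16) (kd xd2 yd41 zd1) (kd xd10 yd50 zd19) (kd xd5 yd29 zd32) (kd xd8 yd18 zd45) (kd xd5 yd17 zd22) (kd xd4 yd14 zd3) (kd xd8 yd18 zd46) (kd xd4 yd14 zd7) (kd xd8 yd19 zd56) (kd xd10 yd50 zd34) (kd xd10 yd50 zd37) (kd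 xd10 yd50 zd39) (kd xd2 yd41 zd6) (kd xd10 yd50 zd42) (kd xd4 yd16 zd22) (kd xd10 yd50 zd46) (kd xd2 yd41 zd11) (kd xd6 yd32 zd60) (kd xd10 yd50 zd53) (kd xd2 yd41 zd14) (kd xd8 yd17 zd31) (kd xd10 yd50 zd59) (kd xd4 yd16 zd2) (kd xd10 yd51 zd1) (kd xd8 yd18 zd52) (kd xd2 yd41 zd16) (kd xd10 yd51 zd4) (kd xd10 yd51 zd8) (kd xd2 yd41 zd17) (kd xd8 yd31 zd8) (kd xd10 yd51 zd13) (kd xd10 yd51 zd16)) (@D3.rec (fun _ => Pt) (kd xd10 yd51 zd18) (kd xd2 yd41 zd18) (kd xd10 yd51 zd26) (kd xd2 yd42 zd19) (kd xd2 yd42 zd20) (kd xd10 yd51 zd34) (kd xd10 yd51 zd38) (kd xd10 yd51 zd41) (kd xd2 yd41 zd20) (kd xd10 yd51 zd45) (kd xd10 yd51 zd48) (kd xd10 yd3 zd46) (kd xd8 yd16 zd37) (kd xd10 yd51 zd51) (kd xd10 yd51 zd53) (kd xd10 yd51 zd56) (kd xd10 yd51 zd60) (kd xd2 yd41 zd24)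 (kd xd8 yd30 zd8) (kd xd10 yd52 zd5) (kd xd2 yd41 zd26) (kd xd10 yd52 zd9) (kd xd10 yd52 zd14) (kd xd2 yd41 zd27) (kd xd10 yd52 zd18) (kd xd10 yd52 zd22) (kd xd10 yd52 zd25) (kd xd2 yd41 zd28) (kd xd10 yd52 zd30) (kd xd2 yd41 zd29) (kd xd10 yd52 zd35) (kd xd2 yd42 zd27) (kd xd2 yd42 zd28) (kd xd10 yd52 zd44) (kd xd10 yd49 zd0) (kd xd10 yd52 zd49) (kd xd10 yd52 zd53) (kd xd2 yd41 zd31) (kd xd10 yd52 zd57) (kd xd4 yd56 zd10) (kd xd10 yd44 zd24) (kd xd2 yd41 zd33) (kd xd5 yd31 zd59) (kd xd10 yd53 zd2) (kd xd2 yd41 zd34) (kd xd6 yd19 zd44) (kd xd2 yd41 zd36) (kd xd10 yd53 zd7) (kd xd2 yd41 zd37) (kd xd5 yd33 zd22) (kd xd10 yd53 zd14) (kd xd10 yd53 zd17) (kd xd2 yd41 zd40) (kd xd6 yd25 zd42) (kd xd8 yd54 zd46) (kd xd6 yd25 zd41) (kd xd3 yd6 zd42) (kd xd3 yd7 zd8) (kd xd6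 yd19 zd46) (kd xd8 yd33 zd26) (kd xd10 yd53 zd28) (kd xd2 yd41 zd46)) (@D3.rec (fun _ => Pt) (kd xd10 yd53 zd33) (kd xd10 yd53 zd36) (kd xd10 yd22 zd5) (kd xd10 yd17 zd2) (kd xd8 yd32 zd24) (kd xd10 yd53 zd43) (kd xd10 yd47 zd9) (kd xd10 yd47 zd10) (kd xd10 yd53 zd48) (kd xd2 yd41 zd50) (kd xd10 yd53 zd56) (kd xd4 yd29 zd7) (kd xd4 yd29 zd8) (kd xd10 yd54 zd2) (kd xd10 yd54 zd5) (kd xd10 yd54 zd8) (kd xd2 yd41 zd52) (kd xd10 yd54 zd11) (kd xd10 yd54 zd13) (kd xd10 yd54 zd16) (kd xd2 yd41 zd54) (kd xd8 yd16 zd3) (kd xd10 yd54 zd21) (kd xd10 yd54 zd24) (kd xd2 yd41 zd55) (kd xd10 yd24 zd34) (kd xd10 yd54 zd29) (kd xd10 yd54 zd31) (kd xd10 yd54 zd34) (kd xd4 yd57 zd48) (kd xd10 yd54 zd39) (kd xd10 yd54 zd43) (kd xd2 yd41 zd59) (kd xd10 yd49 zd40) (kd xd10 yd54 zd51) (kd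 xd10 yd54 zd54) (kd xd10 yd49 zd43) (kd xd10 yd54 zd58) (kd xd2 yd42 zd0) (kd xd10 yd55 zd1) (kd xd4 yd29 zd15) (kd xd4 yd29 zd16) (kd xd10 yd55 zd11) (kd xd5 yd41 zd7) (kd xd7 yd59 zd35) (kd xd7 yd59 zd38) (kd xd2 yd42 zd2) (kd xd5 yd40 zd42) (kd xd2 yd44 zd10) (kd xd5 yd52 zd20) (kd xd2 yd44 zd2) (kd xd10 yd55 zd26) (kd xd9 yd46 zd50) (kd xd10 yd55 zd29) (kd xd4 yd32 zd4) (kd xd2 yd45 zd1) (kd xd9 yd0 zd21) (kd xd5 yd50 zd14) (kd xd5 yd10 zd26) (kd xd5 yd30 zd42) (kd xd2 yd42 zd9) (kd xd10 yd55 zd39)) (@D3.rec (fun _ => Pt) (kd xd2 yd42 zd10) (kd xd4 yd33 zd28) (kd xd10 yd55 zd42) (kd xd5 yd45 zd16) (kd xd5 yd50 zd12) (kd xd10 yd55 zd47) (kd xd10 yd55 zd51) (kd xd2 yd42 zd16) (kd xd10 yd55 zd58) (kd xd2 yd42 zd17) (kd xd10 yd56 zd1) (kd xd8 yd57 zd45) (kd xd8 yd57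 zd46) (kd xd8 yd28 zd45) (kd xd10 yd51 zd28) (kd xd10 yd51 zd30) (kd xd10 yd56 zd12) (kd xd10 yd51 zd20) (kd xd10 yd51 zd21) (kd xd10 yd56 zd16) (kd xd2 yd42 zd21) (kd xd10 yd56 zd24) (kd xd4 yd28 zd47) (kd xd4 yd28 zd48) (kd xd10 yd56 zd31) (kd xd10 yd56 zd35) (kd xd10 yd56 zd39) (kd xd2 yd42 zd23) (kd xd10 yd56 zd44) (kd xd10 yd56 zd47) (kd xd8 yd30 zd15) (kd xd8 yd8 zd38) (kd xd10 yd56 zd50) (kd xd10 yd56 zd52) (kd xd10 yd52 zd37) (kd xd10 yd56 zd58) (kd xd10 yd52 zd40) (kd xd10 yd56 zd60) (kd xd10 yd57 zd1) (kd xd2 yd42 zd29) (kd xd6 yd30 zd3) (kd xd4 yd28 zd57) (kd xd4 yd28 zd58) (kd xd10 yd57 zd13) (kd xd6 yd30 zd4) (kd xd10 yd57 zd18) (kd xd10 yd57 zd22) (kd xd2 yd52 zd39) (kd xd4 yd50 zd0) (kd xd4 yd50 zd2) (kd xd6 yd47 zd27) (kd xd3 yd20 zd57) (kd xd3 yd20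 zd59) (kd xd10 yd57 zd31) (kd xd9 yd31 zd38) (kd xd10 yd57 zd33) (kd xd10 yd57 zd38) (kd xd2 yd42 zd40) (kd xd10 yd57 zd43) (kd xd10 yd57 zd45) (kd xd2 yd42 zd41) (kd xd10 yd57 zd49)) (@D3.rec (fun _ => Pt) (kd xd2 yd42 zd42) (kd xd10 yd57 zd54) (kd xd10 yd57 zd57) (kd xd10 yd57 zd60) (kd xd2 yd42 zd43) (kd xd10 yd58 zd5) (kd xd4 yd31 zd31) (kd xd4 yd31 zd32) (kd xd10 yd58 zd14) (kd xd9 yd2 zd52) (kd xd4 yd33 zd12) (kd xd10 yd58 zd22) (kd xd2 yd42 zd45) (kd xd10 yd58 zd27) (kd xd4 yd28 zd55) (kd xd5 yd52 zd28) (kd xd4 yd11 zd0) (kd xd10 yd58 zd35) (kd xd5 yd46 zd17) (kd xd10 yd58 zd38) (kd xd2 yd47 zd30) (kd xd5 yd6 zd26) (kd xd5 yd30 zd49) (kd xd10 yd58 zd44) (kd xd2 yd42 zd50) (kd xd10 yd58 zd46) (kd xd10 yd58 zd50) (kd xd2 yd42 zd51) (kd xd10 yd58 zd56) (kd xd10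 yd58 zd59) (kd xd2 yd42 zd52) (kd xd3 yd19 zd13) (kd xd8 yd27 zd38) (kd xd2 yd42 zd53) (kd xd5 yd57 zd15) (kd xd8 yd27 zd57) (kd xd8 yd27 zd58) (kd xd10 yd59 zd10) (kd xd4 yd30 zd55) (kd xd4 yd30 zd56) (kd xd10 yd59 zd20) (kd xd5 yd57 zd17) (kd xd9 yd30 zd32) (kd xd9 yd30 zd61) (kd xd4 yd36 zd31) (kd xd10 yd59 zd28) (kd xd10 yd59 zd30) (kd xd10 yd59 zd33) (kd xd2 yd42 zd60) (kd xd10 yd59 zd37) (kd xd10 yd59 zd39) (kd xd10 yd59 zd40) (kd xd10 yd59 zd43) (kd xd2 yd42 zd61) (kd xd10 yd59 zd51) (kd xd10 yd59 zd48) (kd xd10 yd59 zd55) (kd xd10 yd59 zd57) (kd xd10 yd59 zd60) (kd xd2 yd43 zd0) (kd xd11 yd0 zd8) (kd xd11 yd0 zd5)) (@D3.rec (fun _ => Pt) (kd xd5 yd28 zd41) (kd xd11 yd0 zd16) (kd xd9 yd2 zd46) (kd xd2 yd43 zd3) (kd xd5 yd45 zd8) (kd xd2 yd43 zd2) (kd xd11 yd0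 zd24) (kd xd4 yd36 zd18) (kd xd11 yd0 zd25) (kd xd11 yd0 zd27) (kd xd11 yd0 zd30) (kd xd2 yd43 zd4) (kd xd11 yd0 zd36) (kd xd11 yd0 zd38) (kd xd2 yd43 zd5) (kd xd3 yd47 zd44) (kd xd11 yd0 zd46) (kd xd11 yd0 zd49) (kd xd11 yd0 zd51) (kd xd2 yd43 zd7) (kd xd4 yd36 zd19) (kd xd11 yd0 zd53) (kd xd10 yd45 zd36) (kd xd10 yd48 zd22) (kd xd11 yd1 zd0) (kd xd10 yd48 zd24) (kd xd11 yd1 zd3) (kd xd11 yd1 zd6) (kd xd11 yd1 zd8) (kd xd2 yd43 zd11) (kd xd11 yd1 zd15) (kd xd11 yd1 zd19) (kd xd6 yd1 zd55) (kd xd10 yd45 zd45) (kd xd11 yd1 zd25) (kd xd11 yd1 zd29) (kd xd2 yd43 zd13) (kd xd2 yd44 zd16) (kd xd11 yd1 zd37) (kd xd2 yd45 zd42) (kd xd11 yd1 zd41) (kd xd11 yd1 zd44) (kd xd4 yd49 zd32) (kd xd6 yd45 zd61) (kd xd2 yd43 zd16) (kd xd4 yd38 zd34) (kd xd2 yd43 zd17) (kd xd11 yd1 zd54)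 (kd xd5 yd59 zd40) (kd xd2 yd43 zd18) (kd xd11 yd2 zd0) (kd xd11 yd2 zd2) (kd xd2 yd43 zd20) (kd xd11 yd2 zd5) (kd xd11 yd2 zd7) (kd xd2 yd43 zd21) (kd xd11 yd2 zd10) (kd xd9 yd9 zd16) (kd xd9 yd9 zd17) (kd xd11 yd2 zd13) (kd xd11 yd2 zd15) (kd xd2 yd43 zd23)) (@D3.rec (fun _ => Pt) (kd xd5 yd15 zd50) (kd xd10 yd7 zd17) (kd xd11 yd2 zd20) (kd xd4 yd29 zd0) (kd xd9 yd44 zd26) (kd xd11 yd2 zd24) (kd xd2 yd43 zd27) (kd xd4 yd9 zd26) (kd xd10 yd7 zd15) (kd xd11 yd2 zd29) (kd xd9 yd44 zd27) (kd xd5 yd35 zd11) (kd xd5 yd35 zd49) (kd xd5 yd35 zd13) (kd xd8 yd39 zd6) (kd xd2 yd43 zd33) (kd xd11 yd2 zd41) (kd xd11 yd2 zd43) (kd xd11 yd2 zd48) (kd xd2 yd43 zd35) (kd xd11 yd2 zd51) (kd xd4 yd4 zd28) (kd xd4 yd4 zd27) (kd xd9 yd33 zd27) (kd xd8 yd26 zd43) (kd xd11 yd3 zd0) (kd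 xd2 yd43 zd40) (kd xd11 yd3 zd5) (kd xd11 yd3 zd8) (kd xd9 yd35 zd42) (kd xd8 yd37 zd37) (kd xd8 yd54 zd22) (kd xd9 yd39 zd24) (kd xd11 yd3 zd18) (kd xd2 yd43 zd43) (kd xd11 yd3 zd22) (kd xd10 yd7 zd32) (kd xd9 yd52 zd1) (kd xd11 yd3 zd29) (kd xd2 yd43 zd45) (kd xd11 yd3 zd32) (kd xd11 yd3 zd37) (kd xd2 yd43 zd46) (kd xd11 yd3 zd40) (kd xd11 yd3 zd42) (kd xd11 yd3 zd45) (kd xd11 yd3 zd47) (kd xd2 yd43 zd47) (kd xd11 yd3 zd52) (kd xd5 yd35 zd12) (kd xd4 yd20 zd46) (kd xd4 yd4 zd36) (kd xd11 yd3 zd61) (kd xd7 yd49 zd53) (kd xd11 yd4 zd4) (kd xd2 yd43 zd49) (kd xd11 yd4 zd9) (kd xd8 yd26 zd39) (kd xd7 yd25 zd7) (kd xd8 yd27 zd21) (kd xd8 yd27 zd43) (kd xd11 yd4 zd17)) (@D3.rec (fun _ => Pt) (kd xd11 yd4 zd20) (kd xd8 yd9 zd56) (kd xd8 yd9 zd57) (kd xd11 yd4 zd28) (kd xd2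 yd43 zd53) (kd xd2 yd43 zd54) (kd xd11 yd4 zd32) (kd xd5 yd0 zd48) (kd xd2 yd43 zd57) (kd xd4 yd50 zd53) (kd xd11 yd4 zd36) (kd xd2 yd43 zd61) (kd xd5 yd6 zd23) (kd xd2 yd44 zd0) (kd xd11 yd4 zd44) (kd xd11 yd4 zd48) (kd xd11 yd4 zd52) (kd xd4 yd13 zd12) (kd xd4 yd29 zd20) (kd xd3 yd5 zd47) (kd xd8 yd57 zd36) (kd xd7 yd59 zd52) (kd xd11 yd4 zd58) (kd xd11 yd4 zd60) (kd xd2 yd44 zd3) (kd xd9 yd46 zd45) (kd xd9 yd35 zd23) (kd xd3 yd58 zd50) (kd xd11 yd5 zd1) (kd xd5 yd10 zd29) (kd xd7 yd58 zd37) (kd xd11 yd5 zd10) (kd xd2 yd44 zd8) (kd xd11 yd5 zd15) (kd xd5 yd2 zd5) (kd xd10 yd10 zd58) (kd xd5 yd10 zd36) (kd xd5 yd48 zd44) (kd xd7 yd59 zd1) (kd xd10 yd55 zd21) (kd xd11 yd5 zd28) (kd xd5 yd38 zd49) (kd xd2 yd44 zd11) (kd xd11 yd5 zd33) (kd xd10 yd8 zd7) (kd xd11 yd5 zd36)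 (kd xd11 yd5 zd41) (kd xd2 yd44 zd14) (kd xd11 yd5 zd46) (kd xd11 yd5 zd48) (kd xd11 yd5 zd51) (kd xd2 yd44 zd15) (kd xd11 yd5 zd56) (kd xd6 yd3 zd55) (kd xd8 yd13 zd26) (kd xd8 yd11 zd38) (kd xd4 yd54 zd61) (kd xd11 yd6 zd1) (kd xd11 yd6 zd5) (kd xd3 yd58 zd49) (kd xd2 yd44 zd21) (kd xd8 yd11 zd36)) (@D3.rec (fun _ => Pt) (kd xd5 yd2 zd23) (kd xd5 yd38 zd39) (kd xd4 yd53 zd58) (kd xd2 yd44 zd26) (kd xd11 yd6 zd8) (kd xd8 yd44 zd32) (kd xd8 yd44 zd31) (kd xd10 yd39 zd37) (kd xd2 yd44 zd28) (kd xd4 yd56 zd45) (kd xd5 yd5 zd16) (kd xd11 yd6 zd17) (kd xd11 yd6 zd18) (kd xd2 yd44 zd32) (kd xd11 yd6 zd20) (kd xd5 yd5 zd61) (kd xd6 yd26 zd4) (kd xd5 yd6 zd2) (kd xd5 yd44 zd10) (kd xd9 yd7 zd5) (kd xd2 yd48 zd6) (kd xd11 yd6 zd28) (kd xd5 yd57 zd37) (kd xd11 yd6 zd34) (kd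 xd10 yd3 zd53) (kd xd9 yd6 zd11) (kd xd9 yd3 zd58) (kd xd11 yd6 zd36) (kd xd7 yd59 zd33) (kd xd9 yd6 zd57) (kd xd2 yd44 zd42) (kd xd11 yd6 zd39) (kd xd5 yd8 zd7) (kd xd11 yd6 zd43) (kd xd10 yd5 zd17) (kd xd5 yd8 zd10) (kd xd11 yd6 zd44) (kd xd9 yd6 zd59) (kd xd7 yd59 zd36) (kd xd11 yd6 zd46) (kd xd2 yd44 zd47) (kd xd7 yd56 zd25) (kd xd7 yd56 zd26) (kd xd2 yd44 zd48) (kd xd3 yd59 zd0) (kd xd3 yd58 zd57) (kd xd5 yd52 zd6) (kd xd6 yd46 zd53) (kd xd3 yd21 zd26) (kd xd5 yd52 zd10) (kd xd11 yd7 zd1) (kd xd11 yd7 zd3) (kd xd2 yd44 zd51) (kd xd5 yd7 zd52) (kd xd5 yd44 zd22) (kd xd5 yd43 zd58) (kd xd2 yd44 zd52) (kd xd10 yd6 zd19) (kd xd11 yd7 zd12) (kd xd5 yd7 zd54) (kd xd9 yd3 zd54) (kd xd11 yd7 zd17)) (@D3.rec (fun _ => Pt) (kd xd2 yd44 zd55) (kd xd2 yd44 zd56) (kd xd11 yd7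 zd21) (kd xd2 yd49 zd56) (kd xd11 yd7 zd25) (kd xd9 yd51 zd12) (kd xd4 yd34 zd61) (kd xd4 yd34 zd60) (kd xd2 yd46 zd5) (kd xd11 yd7 zd35) (kd xd9 yd6 zd41) (kd xd2 yd46 zd7) (kd xd11 yd7 zd42) (kd xd2 yd50 zd13) (kd xd11 yd7 zd45) (kd xd11 yd7 zd47) (kd xd2 yd45 zd0) (kd xd11 yd7 zd53) (kd xd11 yd7 zd56) (kd xd11 yd7 zd60) (kd xd8 yd57 zd32) (kd xd11 yd8 zd2) (kd xd11 yd8 zd3) (kd xd2 yd45 zd2) (kd xd11 yd8 zd8) (kd xd9 yd8 zd58) (kd xd2 yd45 zd3) (kd xd11 yd8 zd13) (kd xd2 yd45 zd5) (kd xd11 yd8 zd16) (kd xd2 yd45 zd6) (kd xd9 yd1 zd31) (kd xd2 yd45 zd7) (kd xd11 yd8 zd18) (kd xd9 yd6 zd56) (kd xd4 yd59 zd7) (kd xd5 yd53 zd4) (kd xd11 yd8 zd22) (kd xd5 yd52 zd35) (kd xd5 yd37 zd1) (kd xd2 yd45 zd20) (kd xd11 yd8 zd24) (kd xd2 yd45 zd14) (kd xd9 yd7 zd3) (kd xd5 yd57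 zd26) (kd xd6 yd1 zd26) (kd xd11 yd8 zd29) (kd xd11 yd8 zd15) (kd xd2 yd50 zd48) (kd xd5 yd36 zd41) (kd xd8 yd57 zd33) (kd xd5 yd38 zd51) (kd xd11 yd8 zd37) (kd xd5 yd8 zd57) (kd xd8 yd9 zd41) (kd xd11 yd8 zd45) (kd xd5 yd9 zd1) (kd xd4 yd22 zd41) (kd xd8 yd9 zd35) (kd xd11 yd8 zd54) (kd xd11 yd8 zd57) (kd xd4 yd22 zd45)) (@D3.rec (fun _ => Pt) (kd xd8 yd7 zd26) (kd xd11 yd9 zd0) (kd xd8 yd7 zd21) (kd xd11 yd9 zd6) (kd xd8 yd10 zd5) (kd xd8 yd10 zd6) (kd xd8 yd27 zd59) (kd xd10 yd52 zd48) (kd xd11 yd9 zd18) (kd xd11 yd9 zd21) (kd xd2 yd45 zd32) (kd xd11 yd9 zd25) (kd xd9 yd35 zd5) (kd xd11 yd9 zd29) (kd xd8 yd28 zd7) (kd xd9 yd33 zd51) (kd xd11 yd9 zd32) (kd xd11 yd9 zd34) (kd xd11 yd9 zd37) (kd xd11 yd9 zd41) (kd xd2 yd45 zd36) (kd xd11 yd9 zd46) (kd xd2 yd45 zd39)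 (kd xd11 yd9 zd48) (kd xd11 yd9 zd53) (kd xd2 yd45 zd40) (kd xd11 yd9 zd58) (kd xd11 yd10 zd1) (kd xd11 yd10 zd3) (kd xd2 yd45 zd41) (kd xd11 yd10 zd8) (kd xd11 yd10 zd12) (kd xd11 yd10 zd16) (kd xd11 yd10 zd20) (kd xd2 yd45 zd43) (kd xd11 yd10 zd22) (kd xd10 yd44 zd31) (kd xd3 yd7 zd48) (kd xd2 yd45 zd45) (kd xd8 yd24 zd15) (kd xd9 yd36 zd38) (kd xd11 yd10 zd32) (kd xd5 yd10 zd14) (kd xd11 yd10 zd37) (kd xd2 yd45 zd47) (kd xd8 yd57 zd35) (kd xd11 yd10 zd42) (kd xd2 yd45 zd50) (kd xd11 yd10 zd44) (kd xd3 yd12 zd21) (kd xd2 yd45 zd51) (kd xd9 yd42 zd41) (kd xd3 yd12 zd20) (kd xd3 yd18 zd60) (kd xd2 yd45 zd53) (kd xd3 yd19 zd12) (kd xd8 yd24 zd52) (kd xd11 yd10 zd48) (kd xd2 yd45 zd56) (kd xd3 yd4 zd51) (kd xd4 yd7 zd28) (kd xd2 yd46 zd33)) (@D3.rec (fun _ => Pt) (kd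 xd5 yd5 zd53) (kd xd2 yd46 zd23) (kd xd9 yd0 zd14) (kd xd2 yd51 zd17) (kd xd2 yd46 zd22) (kd xd9 yd0 zd11) (kd xd2 yd52 zd49) (kd xd9 yd0 zd17) (kd xd9 yd0 zd16) (kd xd2 yd45 zd61) (kd xd11 yd11 zd8) (kd xd10 yd19 zd1) (kd xd5 yd8 zd22) (kd xd5 yd50 zd13) (kd xd5 yd52 zd1) (kd xd9 yd1 zd55) (kd xd6 yd46 zd34) (kd xd11 yd7 zd31) (kd xd2 yd46 zd6) (kd xd11 yd11 zd18) (kd xd2 yd46 zd8) (kd xd11 yd11 zd21) (kd xd2 yd46 zd13) (kd xd4 yd31 zd40) (kd xd11 yd11 zd29) (kd xd2 yd51 zd55) (kd xd4 yd31 zd41) (kd xd11 yd11 zd36) (kd xd10 yd5 zd54) (kd xd11 yd11 zd41) (kd xd11 yd11 zd44) (kd xd2 yd46 zd12) (kd xd11 yd11 zd48) (kd xd11 yd11 zd50) (kd xd11 yd7 zd57) (kd xd11 yd11 zd24) (kd xd11 yd11 zd55) (kd xd5 yd50 zd5) (kd xd3 yd21 zd36) (kd xd6 yd46 zd32) (kd xd5 yd50 zd9) (kd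 xd4 yd19 zd53) (kd xd5 yd31 zd47) (kd xd5 yd14 zd33) (kd xd10 yd18 zd21) (kd xd5 yd14 zd36) (kd xd2 yd46 zd18) (kd xd11 yd12 zd9) (kd xd2 yd46 zd19) (kd xd11 yd12 zd11) (kd xd9 yd46 zd44) (kd xd9 yd0 zd23) (kd xd3 yd11 zd32) (kd xd2 yd46 zd21) (kd xd3 yd4 zd50) (kd xd2 yd49 zd31) (kd xd4 yd6 zd7) (kd xd2 yd49 zd15) (kd xd8 yd59 zd34) (kd xd5 yd49 zd7) (kd xd2 yd46 zd29) (kd xd2 yd53 zd1)) (@D3.rec (fun _ => Pt) (kd xd2 yd46 zd31) (kd xd3 yd10 zd20) (kd xd11 yd12 zd38) (kd xd9 yd44 zd9) (kd xd10 yd48 zd56) (kd xd2 yd46 zd34) (kd xd11 yd12 zd42) (kd xd5 yd31 zd43) (kd xd11 yd12 zd45) (kd xd11 yd12 zd47) (kd xd11 yd12 zd49) (kd xd2 yd46 zd37) (kd xd11 yd11 zd16) (kd xd5 yd52 zd18) (kd xd2 yd46 zd39) (kd xd9 yd5 zd41) (kd xd3 yd39 zd20) (kd xd6 yd8 zd34) (kd xd2 yd46 zd42)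 (kd xd11 yd12 zd53) (kd xd11 yd12 zd54) (kd xd2 yd46 zd43) (kd xd11 yd12 zd58) (kd xd11 yd12 zd60) (kd xd11 yd13 zd1) (kd xd2 yd46 zd45) (kd xd11 yd13 zd4) (kd xd2 yd46 zd46) (kd xd2 yd46 zd47) (kd xd11 yd13 zd10) (kd xd2 yd53 zd15) (kd xd11 yd13 zd12) (kd xd2 yd46 zd49) (kd xd11 yd13 zd16) (kd xd9 yd3 zd1) (kd xd11 yd13 zd21) (kd xd2 yd46 zd51) (kd xd11 yd13 zd25) (kd xd11 yd13 zd26) (kd xd2 yd46 zd52) (kd xd6 yd14 zd16) (kd xd6 yd14 zd21) (kd xd11 yd13 zd36) (kd xd11 yd13 zd39) (kd xd11 yd13 zd41) (kd xd2 yd46 zd54) (kd xd11 yd6 zd50) (kd xd11 yd13 zd45) (kd xd9 yd9 zd29) (kd xd4 yd42 zd56) (kd xd11 yd13 zd52) (kd xd11 yd13 zd55) (kd xd11 yd13 zd58) (kd xd11 yd13 zd61) (kd xd2 yd46 zd57) (kd xd11 yd14 zd7) (kd xd11 yd14 zd9) (kd xd11 yd14 zd12) (kd xd2 yd46 zd58)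 (kd xd11 yd14 zd16) (kd xd11 yd14 zd17) (kd xd2 yd46 zd59)) (@D3.rec (fun _ => Pt) (kd xd11 yd14 zd21) (kd xd2 yd46 zd61) (kd xd10 yd38 zd10) (kd xd2 yd54 zd35) (kd xd11 yd14 zd27) (kd xd10 yd4 zd42) (kd xd5 yd50 zd56) (kd xd4 yd31 zd1) (kd xd11 yd14 zd31) (kd xd5 yd12 zd30) (kd xd10 yd17 zd50) (kd xd5 yd12 zd33) (kd xd11 yd14 zd38) (kd xd2 yd47 zd4) (kd xd11 yd14 zd44) (kd xd2 yd47 zd5) (kd xd11 yd14 zd47) (kd xd9 yd5 zd13) (kd xd9 yd4 zd36) (kd xd3 yd11 zd26) (kd xd2 yd47 zd7) (kd xd3 yd0 zd18) (kd xd3 yd0 zd28) (kd xd11 yd14 zd61) (kd xd2 yd47 zd9) (kd xd6 yd9 zd6) (kd xd5 yd49 zd45) (kd xd2 yd47 zd11) (kd xd11 yd15 zd10) (kd xd2 yd54 zd8) (kd xd2 yd47 zd13) (kd xd2 yd47 zd14) (kd xd11 yd15 zd16) (kd xd9 yd10 zd51) (kd xd2 yd47 zd16) (kd xd11 yd15 zd21) (kd xd11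 yd15 zd25) (kd xd2 yd47 zd18) (kd xd11 yd15 zd28) (kd xd11 yd15 zd29) (kd xd2 yd47 zd19) (kd xd2 yd47 zd20) (kd xd4 yd22 zd29) (kd xd4 yd22 zd30) (kd xd11 yd15 zd42) (kd xd7 yd7 zd34) (kd xd3 yd32 zd14) (kd xd3 yd32 zd35) (kd xd11 yd15 zd51) (kd xd9 yd7 zd43) (kd xd3 yd0 zd29) (kd xd11 yd15 zd56) (kd xd3 yd2 zd29) (kd xd11 yd15 zd60) (kd xd11 yd16 zd1) (kd xd2 yd47 zd25) (kd xd11 yd16 zd8) (kd xd8 yd59 zd3) (kd xd11 yd16 zd13) (kd xd2 yd47 zd26) (kd xd11 yd16 zd17) (kd xd7 yd17 zd8)) (@D3.rec (fun _ => Pt) (kd xd4 yd34 zd15) (kd xd7 yd32 zd46) (kd xd8 yd58 zd24) (kd xd10 yd58 zd18) (kd xd9 yd2 zd55) (kd xd9 yd2 zd54) (kd xd2 yd47 zd32) (kd xd7 yd27 zd9) (kd xd2 yd47 zd33) (kd xd5 yd46 zd57) (kd xd9 yd46 zd3) (kd xd11 yd16 zd36) (kd xd2 yd47 zd36) (kd xd2 yd47 zd37)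 (kd xd11 yd16 zd42) (kd xd5 yd43 zd24) (kd xd6 yd4 zd18) (kd xd2 yd47 zd47) (kd xd2 yd47 zd40) (kd xd11 yd16 zd46) (kd xd2 yd47 zd41) (kd xd2 yd47 zd42) (kd xd4 yd56 zd57) (kd xd9 yd46 zd2) (kd xd5 yd43 zd15) (kd xd2 yd47 zd44) (kd xd11 yd16 zd56) (kd xd5 yd57 zd56) (kd xd11 yd17 zd0) (kd xd11 yd17 zd3) (kd xd4 yd53 zd31) (kd xd2 yd47 zd46) (kd xd11 yd17 zd11) (kd xd9 yd36 zd41) (kd xd11 yd17 zd15) (kd xd7 yd50 zd5) (kd xd11 yd17 zd16) (kd xd2 yd47 zd49) (kd xd2 yd47 zd50) (kd xd2 yd47 zd51) (kd xd11 yd17 zd19) (kd xd11 yd17 zd21) (kd xd11 yd17 zd25) (kd xd11 yd17 zd27) (kd xd2 yd47 zd53) (kd xd8 yd32 zd41) (kd xd11 yd17 zd32) (kd xd2 yd47 zd55) (kd xd11 yd17 zd37) (kd xd2 yd47 zd56) (kd xd11 yd17 zd42) (kd xd11 yd17 zd45) (kd xd2 yd47 zd57) (kd xd11 yd17 zd49) (kd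 xd2 yd47 zd58) (kd xd3 yd0 zd33) (kd xd3 yd3 zd59) (kd xd2 yd47 zd60) (kd xd5 yd37 zd55) (kd xd11 yd17 zd57) (kd xd11 yd17 zd60) (kd xd5 yd6 zd29)) (@D3.rec (fun _ => Pt) (kd xd8 yd25 zd27) (kd xd3 yd13 zd45) (kd xd11 yd18 zd2) (kd xd11 yd18 zd5) (kd xd11 yd18 zd10) (kd xd2 yd48 zd1) (kd xd11 yd18 zd17) (kd xd11 yd18 zd21) (kd xd9 yd17 zd10) (kd xd2 yd56 zd7) (kd xd5 yd37 zd18) (kd xd8 yd32 zd51) (kd xd11 yd18 zd29) (kd xd11 yd17 zd6) (kd xd11 yd17 zd7) (kd xd4 yd18 zd48) (kd xd2 yd48 zd4) (kd xd11 yd18 zd39) (kd xd11 yd18 zd42) (kd xd11 yd18 zd45) (kd xd2 yd48 zd5) (kd xd11 yd18 zd49) (kd xd5 yd37 zd54) (kd xd11 yd18 zd53) (kd xd2 yd48 zd7) (kd xd6 yd35 zd4) (kd xd7 yd27 zd8) (kd xd2 yd48 zd8) (kd xd7 yd26 zd49) (kd xd11 yd19 zd3) (kd xd2 yd49 zd26) (kd xd2 yd48 zd9)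 (kd xd11 yd19 zd7) (kd xd8 yd36 zd36) (kd xd2 yd49 zd27) (kd xd2 yd48 zd10) (kd xd11 yd19 zd15) (kd xd11 yd19 zd19) (kd xd8 yd36 zd4) (kd xd11 yd19 zd22) (kd xd2 yd48 zd11) (kd xd11 yd19 zd29) (kd xd9 yd45 zd20) (kd xd9 yd45 zd38) (kd xd7 yd23 zd22) (kd xd11 yd19 zd37) (kd xd2 yd48 zd14) (kd xd11 yd19 zd41) (kd xd11 yd19 zd45) (kd xd2 yd48 zd13) (kd xd11 yd19 zd50) (kd xd11 yd19 zd54) (kd xd11 yd19 zd58) (kd xd11 yd20 zd0) (kd xd2 yd48 zd15) (kd xd11 yd20 zd6) (kd xd11 yd20 zd11) (kd xd11 yd20 zd14) (kd xd2 yd48 zd16) (kd xd11 yd20 zd18) (kd xd9 yd31 zd10) (kd xd11 yd20 zd22)) (@D3.rec (fun _ => Pt) (kd xd11 yd20 zd26) (kd xd2 yd48 zd18) (kd xd11 yd20 zd31) (kd xd2 yd48 zd19) (kd xd6 yd8 zd51) (kd xd5 yd6 zd31) (kd xd11 yd20 zd41) (kd xd11 yd20 zd43) (kd xd5 yd34 zd4)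 (kd xd11 yd14 zd1) (kd xd11 yd14 zd2) (kd xd2 yd48 zd22) (kd xd11 yd20 zd57) (kd xd11 yd20 zd61) (kd xd11 yd21 zd3) (kd xd2 yd48 zd23) (kd xd5 yd32 zd3) (kd xd11 yd21 zd7) (kd xd2 yd48 zd24) (kd xd9 yd2 zd20) (kd xd2 yd48 zd25) (kd xd11 yd21 zd9) (kd xd11 yd21 zd12) (kd xd9 yd25 zd13) (kd xd11 yd16 zd3) (kd xd11 yd16 zd4) (kd xd2 yd48 zd29) (kd xd9 yd16 zd22) (kd xd11 yd21 zd28) (kd xd6 yd49 zd28) (kd xd2 yd48 zd30) (kd xd6 yd25 zd23) (kd xd11 yd21 zd33) (kd xd2 yd48 zd31) (kd xd11 yd21 zd35) (kd xd11 yd21 zd38) (kd xd10 yd47 zd61) (kd xd11 yd21 zd41) (kd xd11 yd21 zd43) (kd xd11 yd21 zd46) (kd xd11 yd21 zd49) (kd xd2 yd48 zd37) (kd xd10 yd4 zd35) (kd xd6 yd49 zd22) (kd xd2 yd48 zd38) (kd xd11 yd21 zd57) (kd xd11 yd21 zd61) (kd xd2 yd48 zd39) (kd xd3 yd21 zd58) (kd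 xd2 yd57 zd30) (kd xd11 yd22 zd3) (kd xd11 yd22 zd6) (kd xd2 yd48 zd42) (kd xd10 yd6 zd53) (kd xd5 yd7 zd10) (kd xd11 yd22 zd15) (kd xd2 yd48 zd43) (kd xd11 yd22 zd18) (kd xd4 yd39 zd5) (kd xd9 yd13 zd35) (kd xd11 yd1 zd61) (kd xd2 yd48 zd45)) (@D3.rec (fun _ => Pt) (kd xd9 yd6 zd10) (kd xd2 yd57 zd41) (kd xd11 yd22 zd23) (kd xd11 yd22 zd27) (kd xd2 yd48 zd46) (kd xd11 yd22 zd33) (kd xd10 yd7 zd13) (kd xd9 yd2 zd19) (kd xd2 yd48 zd49) (kd xd11 yd22 zd37) (kd xd11 yd22 zd39) (kd xd9 yd5 zd25) (kd xd2 yd48 zd51) (kd xd5 yd6 zd1) (kd xd9 yd1 zd4) (kd xd9 yd5 zd26) (kd xd2 yd48 zd52) (kd xd5 yd33 zd18) (kd xd10 yd58 zd41) (kd xd11 yd14 zd28) (kd xd6 yd46 zd13) (kd xd4 yd39 zd28) (kd xd6 yd16 zd48) (kd xd11 yd23 zd1) (kd xd2 yd48 zd57) (kd xd11 yd13 zd29) (kd xd6 yd31 zd21)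 (kd xd11 yd23 zd7) (kd xd11 yd15 zd5) (kd xd8 yd44 zd38) (kd xd2 yd48 zd59) (kd xd11 yd23 zd13) (kd xd11 yd23 zd15) (kd xd11 yd23 zd18) (kd xd2 yd48 zd60) (kd xd11 yd23 zd23) (kd xd2 yd48 zd61) (kd xd6 yd13 zd9) (kd xd11 yd23 zd27) (kd xd2 yd49 zd0) (kd xd4 yd23 zd11) (kd xd3 yd57 zd25) (kd xd11 yd23 zd38) (kd xd2 yd49 zd2) (kd xd2 yd49 zd3) (kd xd11 yd23 zd43) (kd xd2 yd49 zd4) (kd xd2 yd49 zd5) (kd xd2 yd49 zd6) (kd xd9 yd4 zd23) (kd xd11 yd23 zd51) (kd xd2 yd58 zd1) (kd xd11 yd23 zd54) (kd xd2 yd49 zd12) (kd xd5 yd46 zd56) (kd xd5 yd5 zd56) (kd xd5 yd46 zd54) (kd xd5 yd43 zd9) (kd xd11 yd12 zd26) (kd xd3 yd0 zd57) (kd xd4 yd39 zd55) (kd xd2 yd49 zd21)) (@D3.rec (fun _ => Pt) (kd xd6 yd8 zd37) (kd xd11 yd24 zd16) (kd xd2 yd49 zd23) (kd xd2 yd49 zd24) (kd xd11 yd24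 zd21) (kd xd11 yd24 zd25) (kd xd11 yd24 zd29) (kd xd2 yd49 zd25) (kd xd11 yd24 zd33) (kd xd9 yd46 zd23) (kd xd4 yd57 zd9) (kd xd3 yd58 zd58) (kd xd6 yd46 zd30) (kd xd2 yd49 zd30) (kd xd11 yd12 zd22) (kd xd2 yd49 zd32) (kd xd3 yd46 zd20) (kd xd2 yd49 zd33) (kd xd2 yd49 zd35) (kd xd2 yd49 zd37) (kd xd5 yd51 zd58) (kd xd8 yd12 zd37) (kd xd7 yd57 zd16) (kd xd3 yd3 zd15) (kd xd11 yd24 zd49) (kd xd8 yd10 zd38) (kd xd6 yd1 zd48) (kd xd10 yd43 zd27) (kd xd3 yd3 zd25) (kd xd11 yd24 zd56) (kd xd5 yd51 zd42) (kd xd6 yd50 zd28) (kd xd2 yd49 zd44) (kd xd11 yd24 zd60) (kd xd11 yd25 zd1) (kd xd11 yd25 zd5) (kd xd8 yd12 zd49) (kd xd11 yd25 zd8) (kd xd2 yd49 zd46) (kd xd10 yd4 zd60) (kd xd2 yd49 zd47) (kd xd5 yd48 zd51) (kd xd2 yd49 zd49) (kd xd11 yd25 zd12) (kd xd2 yd49 zd50) (kd xd3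 yd59 zd27) (kd xd11 yd7 zd18) (kd xd11 yd25 zd18) (kd xd11 yd7 zd19) (kd xd11 yd25 zd22) (kd xd11 yd7 zd23) (kd xd11 yd25 zd24) (kd xd2 yd49 zd58) (kd xd11 yd25 zd26) (kd xd8 yd38 zd19) (kd xd4 yd25 zd50) (kd xd11 yd25 zd30) (kd xd10 yd5 zd9) (kd xd6 yd46 zd17) (kd xd2 yd49 zd61) (kd xd11 yd25 zd35) (kd xd10 yd5 zd30)) (@D3.rec (fun _ => Pt) (kd xd2 yd50 zd1) (kd xd11 yd25 zd39) (kd xd11 yd25 zd42) (kd xd2 yd50 zd3) (kd xd11 yd25 zd45) (kd xd11 yd25 zd48) (kd xd6 yd54 zd46) (kd xd11 yd25 zd51) (kd xd11 yd25 zd54) (kd xd11 yd25 zd56) (kd xd2 yd50 zd6) (kd xd11 yd25 zd59) (kd xd11 yd25 zd60) (kd xd2 yd50 zd7) (kd xd2 yd51 zd40) (kd xd8 yd14 zd33) (kd xd11 yd7 zd40) (kd xd11 yd26 zd4) (kd xd3 yd45 zd45) (kd xd11 yd26 zd7) (kd xd11 yd26 zd8) (kd xd11 yd26 zd9) (kd xd11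 yd26 zd11) (kd xd11 yd26 zd13) (kd xd2 yd50 zd17) (kd xd11 yd26 zd17) (kd xd11 yd26 zd21) (kd xd11 yd26 zd23) (kd xd2 yd50 zd18) (kd xd10 yd5 zd61) (kd xd11 yd26 zd29) (kd xd11 yd26 zd32) (kd xd2 yd50 zd19) (kd xd11 yd26 zd36) (kd xd11 yd26 zd39) (kd xd11 yd26 zd43) (kd xd11 yd26 zd46) (kd xd2 yd50 zd21) (kd xd11 yd26 zd48) (kd xd3 yd36 zd44) (kd xd2 yd50 zd22) (kd xd2 yd50 zd23) (kd xd4 yd31 zd60) (kd xd7 yd49 zd21) (kd xd5 yd36 zd37) (kd xd9 yd1 zd51) (kd xd7 yd26 zd31) (kd xd10 yd5 zd22) (kd xd3 yd42 zd54) (kd xd11 yd27 zd3) (kd xd2 yd50 zd27) (kd xd5 yd47 zd41) (kd xd6 yd30 zd5) (kd xd11 yd27 zd9) (kd xd11 yd27 zd10) (kd xd11 yd27 zd12) (kd xd2 yd50 zd29) (kd xd11 yd27 zd18) (kd xd11 yd27 zd19) (kd xd2 yd50 zd31) (kd xd11 yd27 zd22) (kd xd2 yd50 zd32)) (@D3.rec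 (fun _ => Pt) (kd xd5 yd52 zd45) (kd xd9 yd5 zd27) (kd xd2 yd50 zd35) (kd xd2 yd50 zd36) (kd xd4 yd57 zd14) (kd xd4 yd57 zd21) (kd xd3 yd59 zd31) (kd xd5 yd40 zd59) (kd xd3 yd46 zd19) (kd xd2 yd50 zd39) (kd xd2 yd50 zd40) (kd xd11 yd27 zd33) (kd xd9 yd8 zd35) (kd xd4 yd57 zd19) (kd xd3 yd59 zd4) (kd xd11 yd27 zd38) (kd xd10 yd48 zd60) (kd xd6 yd13 zd25) (kd xd6 yd13 zd26) (kd xd2 yd50 zd43) (kd xd5 yd52 zd39) (kd xd6 yd25 zd31) (kd xd4 yd23 zd45) (kd xd4 yd49 zd60) (kd xd5 yd52 zd7) (kd xd11 yd27 zd47) (kd xd11 yd8 zd35) (kd xd5 yd13 zd60) (kd xd9 yd25 zd6) (kd xd5 yd14 zd4) (kd xd5 yd52 zd12) (kd xd10 yd7 zd14) (kd xd10 yd6 zd50) (kd xd5 yd52 zd15) (kd xd5 yd52 zd17) (kd xd11 yd27 zd57) (kd xd8 yd11 zd60) (kd xd5 yd52 zd26) (kd xd7 yd16 zd44) (kd xd2 yd50 zd56) (kd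 xd11 yd8 zd25) (kd xd2 yd50 zd58) (kd xd4 yd32 zd61) (kd xd11 yd28 zd8) (kd xd4 yd32 zd42) (kd xd5 yd42 zd26) (kd xd11 yd28 zd12) (kd xd2 yd50 zd61) (kd xd2 yd51 zd0) (kd xd5 yd57 zd6) (kd xd4 yd0 zd45) (kd xd11 yd28 zd18) (kd xd2 yd56 zd57) (kd xd2 yd51 zd2) (kd xd6 yd39 zd14) (kd xd9 yd31 zd46) (kd xd3 yd21 zd3) (kd xd2 yd51 zd4) (kd xd5 yd52 zd41) (kd xd2 yd51 zd7) (kd xd4 yd25 zd47) (kd xd5 yd8 zd13)) (@D3.rec (fun _ => Pt) (kd xd4 yd33 zd35) (kd xd6 yd2 zd56) (kd xd5 yd8 zd16) (kd xd2 yd51 zd11) (kd xd5 yd59 zd51) (kd xd5 yd40 zd37) (kd xd6 yd16 zd50) (kd xd5 yd13 zd49) (kd xd7 yd59 zd48) (kd xd5 yd40 zd40) (kd xd11 yd10 zd57) (kd xd6 yd17 zd14) (kd xd5 yd32 zd4) (kd xd5 yd40 zd13) (kd xd5 yd31 zd57) (kd xd4 yd25 zd52) (kd xd4 yd56 zd23) (kd xd9 yd51 zd5) (kd xd2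 yd51 zd21) (kd xd6 yd4 zd6) (kd xd11 yd28 zd47) (kd xd6 yd46 zd6) (kd xd2 yd51 zd22) (kd xd9 yd14 zd45) (kd xd5 yd51 zd52) (kd xd4 yd49 zd35) (kd xd5 yd51 zd55) (kd xd9 yd49 zd28) (kd xd11 yd28 zd53) (kd xd11 yd28 zd56) (kd xd2 yd51 zd25) (kd xd5 yd26 zd4) (kd xd3 yd3 zd0) (kd xd6 yd30 zd36) (kd xd11 yd29 zd0) (kd xd2 yd51 zd28) (kd xd3 yd23 zd30) (kd xd9 yd14 zd9) (kd xd3 yd23 zd28) (kd xd2 yd51 zd30) (kd xd9 yd49 zd14) (kd xd5 yd6 zd35) (kd xd4 yd35 zd51) (kd xd4 yd39 zd19) (kd xd4 yd5 zd37) (kd xd9 yd5 zd45) (kd xd10 yd4 zd36) (kd xd5 yd6 zd38) (kd xd2 yd51 zd36) (kd xd3 yd57 zd51) (kd xd4 yd26 zd58) (kd xd3 yd44 zd1) (kd xd8 yd42 zd50) (kd xd4 yd26 zd11) (kd xd5 yd7 zd26) (kd xd9 yd5 zd6) (kd xd5 yd42 zd6) (kd xd11 yd29 zd24) (kd xd11 yd29 zd25) (kd xd2 yd51 zd41)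 (kd xd10 yd45 zd18) (kd xd2 yd51 zd44)) (@D3.rec (fun _ => Pt) (kd xd11 yd29 zd35) (kd xd2 yd51 zd46) (kd xd11 yd11 zd19) (kd xd6 yd53 zd14) (kd xd11 yd29 zd38) (kd xd11 yd29 zd41) (kd xd10 yd6 zd0) (kd xd3 yd9 zd51) (kd xd10 yd6 zd13) (kd xd6 yd34 zd54) (kd xd11 yd29 zd49) (kd xd11 yd29 zd52) (kd xd11 yd29 zd54) (kd xd10 yd6 zd17) (kd xd6 yd28 zd59) (kd xd11 yd11 zd26) (kd xd3 yd47 zd24) (kd xd11 yd30 zd1) (kd xd11 yd30 zd4) (kd xd11 yd11 zd32) (kd xd3 yd26 zd48) (kd xd11 yd30 zd7) (kd xd11 yd30 zd9) (kd xd4 yd34 zd49) (kd xd9 yd22 zd40) (kd xd6 yd49 zd37) (kd xd9 yd3 zd60) (kd xd2 yd51 zd59) (kd xd4 yd34 zd34) (kd xd11 yd30 zd26) (kd xd11 yd30 zd28) (kd xd2 yd51 zd60) (kd xd6 yd47 zd21) (kd xd9 yd26 zd6) (kd xd2 yd52 zd0) (kd xd11 yd30 zd35) (kd xd6 yd21 zd51) (kd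 xd4 yd42 zd0) (kd xd6 yd17 zd49) (kd xd2 yd52 zd2) (kd xd2 yd52 zd3) (kd xd6 yd26 zd36) (kd xd5 yd47 zd30) (kd xd11 yd30 zd43) (kd xd6 yd25 zd51) (kd xd11 yd30 zd45) (kd xd11 yd30 zd48) (kd xd2 yd52 zd7) (kd xd11 yd30 zd53) (kd xd6 yd45 zd56) (kd xd2 yd52 zd9) (kd xd2 yd52 zd10) (kd xd5 yd50 zd24) (kd xd3 yd10 zd42) (kd xd3 yd10 zd41) (kd xd5 yd50 zd26) (kd xd6 yd21 zd41) (kd xd4 yd34 zd36) (kd xd5 yd47 zd20) (kd xd3 yd59 zd47) (kd xd6 yd46 zd35) (kd xd6 yd46 zd37)) (@D3.rec (fun _ => Pt) (kd xd4 yd49 zd52) (kd xd5 yd40 zd14) (kd xd11 yd31 zd5) (kd xd4 yd56 zd20) (kd xd10 yd57 zd24) (kd xd9 yd14 zd46) (kd xd5 yd37 zd46) (kd xd5 yd49 zd24) (kd xd5 yd6 zd60) (kd xd11 yd31 zd13) (kd xd5 yd37 zd49) (kd xd5 yd14 zd39) (kd xd5 yd49 zd30) (kd xd10 yd18 zd13) (kd xd5 yd14 zd42)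 (kd xd5 yd49 zd33) (kd xd5 yd14 zd18) (kd xd5 yd49 zd34) (kd xd5 yd41 zd13) (kd xd9 yd5 zd43) (kd xd5 yd31 zd49) (kd xd2 yd52 zd29) (kd xd11 yd22 zd42) (kd xd10 yd41 zd37) (kd xd6 yd16 zd46) (kd xd2 yd52 zd30) (kd xd5 yd49 zd37) (kd xd11 yd31 zd25) (kd xd5 yd33 zd15) (kd xd2 yd52 zd31) (kd xd11 yd31 zd29) (kd xd9 yd32 zd34) (kd xd9 yd6 zd4) (kd xd9 yd57 zd14) (kd xd2 yd52 zd33) (kd xd5 yd38 zd38) (kd xd6 yd3 zd30) (kd xd2 yd52 zd51) (kd xd3 yd5 zd45) (kd xd5 yd49 zd20) (kd xd9 yd14 zd7) (kd xd5 yd49 zd58) (kd xd11 yd31 zd47) (kd xd8 yd58 zd5) (kd xd11 yd27 zd50) (kd xd5 yd49 zd0) (kd xd4 yd56 zd22) (kd xd4 yd34 zd6) (kd xd11 yd31 zd56) (kd xd11 yd31 zd58) (kd xd2 yd52 zd40) (kd xd5 yd0 zd14) (kd xd9 yd20 zd40) (kd xd6 yd21 zd39) (kd xd5 yd14 zd51) (kd xd11 yd32 zd1)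 (kd xd2 yd52 zd44) (kd xd2 yd52 zd45) (kd xd2 yd52 zd46) (kd xd6 yd17 zd5) (kd xd6 yd17 zd6) (kd xd11 yd32 zd13)) (@D3.rec (fun _ => Pt) (kd xd9 yd0 zd9) (kd xd4 yd7 zd14) (kd xd11 yd32 zd14) (kd xd11 yd10 zd60) (kd xd5 yd38 zd36) (kd xd7 yd34 zd51) (kd xd11 yd31 zd40) (kd xd11 yd32 zd22) (kd xd2 yd52 zd54) (kd xd2 yd52 zd55) (kd xd6 yd7 zd53) (kd xd6 yd7 zd59) (kd xd11 yd32 zd30) (kd xd4 yd5 zd45) (kd xd4 yd5 zd46) (kd xd2 yd52 zd59) (kd xd4 yd2 zd11) (kd xd9 yd47 zd12) (kd xd11 yd12 zd34) (kd xd9 yd0 zd7) (kd xd11 yd32 zd48) (kd xd9 yd1 zd59) (kd xd4 yd4 zd30) (kd xd11 yd32 zd52) (kd xd9 yd17 zd27) (kd xd11 yd32 zd55) (kd xd2 yd53 zd3) (kd xd2 yd53 zd4) (kd xd11 yd32 zd58) (kd xd3 yd4 zd54) (kd xd3 yd4 zd55) (kd xd4 yd44 zd48) (kd xd11 yd33 zd5) (kd xd2 yd53 zd6)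 (kd xd6 yd50 zd19) (kd xd7 yd23 zd33) (kd xd2 yd53 zd8) (kd xd11 yd33 zd13) (kd xd2 yd53 zd9) (kd xd9 yd51 zd22) (kd xd11 yd33 zd18) (kd xd2 yd53 zd11) (kd xd11 yd33 zd22) (kd xd11 yd13 zd6) (kd xd4 yd40 zd24) (kd xd11 yd13 zd8) (kd xd6 yd7 zd10) (kd xd2 yd53 zd14) (kd xd9 yd44 zd23) (kd xd2 yd53 zd16) (kd xd11 yd33 zd33) (kd xd4 yd44 zd47) (kd xd11 yd33 zd38) (kd xd11 yd33 zd40) (kd xd2 yd53 zd18) (kd xd8 yd10 zd36) (kd xd2 yd53 zd19) (kd xd11 yd33 zd42) (kd xd2 yd53 zd20) (kd xd11 yd33 zd45) (kd xd2 yd53 zd21) (kd xd5 yd12 zd25)) (@D3.rec (fun _ => Pt) (kd xd4 yd42 zd58) (kd xd11 yd33 zd52) (kd xd2 yd53 zd23) (kd xd2 yd53 zd24) (kd xd9 yd16 zd31) (kd xd11 yd33 zd59) (kd xd2 yd53 zd26) (kd xd6 yd59 zd50) (kd xd11 yd13 zd28) (kd xd4 yd46 zd37) (kd xd11 yd34 zd9) (kd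 xd6 yd0 zd39) (kd xd11 yd6 zd52) (kd xd9 yd22 zd54) (kd xd2 yd53 zd31) (kd xd11 yd34 zd19) (kd xd11 yd34 zd23) (kd xd11 yd34 zd27) (kd xd2 yd53 zd32) (kd xd11 yd34 zd32) (kd xd11 yd34 zd33) (kd xd2 yd53 zd33) (kd xd3 yd38 zd25) (kd xd2 yd53 zd34) (kd xd8 yd10 zd31) (kd xd11 yd34 zd45) (kd xd2 yd53 zd36) (kd xd6 yd53 zd55) (kd xd6 yd22 zd2) (kd xd11 yd34 zd49) (kd xd2 yd53 zd38) (kd xd11 yd34 zd52) (kd xd9 yd9 zd24) (kd xd9 yd2 zd42) (kd xd11 yd34 zd53) (kd xd2 yd53 zd40) (kd xd2 yd59 zd2) (kd xd11 yd34 zd57) (kd xd2 yd53 zd41) (kd xd11 yd34 zd60) (kd xd11 yd35 zd0) (kd xd2 yd53 zd42) (kd xd6 yd44 zd17) (kd xd3 yd59 zd42) (kd xd2 yd53 zd43) (kd xd6 yd45 zd47) (kd xd2 yd56 zd61) (kd xd2 yd57 zd0) (kd xd9 yd8 zd10) (kd xd2 yd53 zd45) (kd xd11 yd35 zd10) (kd xd2 yd53 zd46)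 (kd xd3 yd46 zd21) (kd xd4 yd39 zd42) (kd xd11 yd35 zd15) (kd xd11 yd35 zd18) (kd xd2 yd53 zd48) (kd xd11 yd35 zd21) (kd xd2 yd53 zd49) (kd xd11 yd35 zd22) (kd xd2 yd53 zd50) (kd xd11 yd35 zd25)) (@D3.rec (fun _ => Pt) (kd xd6 yd51 zd7) (kd xd6 yd7 zd27) (kd xd11 yd35 zd33) (kd xd9 yd2 zd40) (kd xd11 yd35 zd37) (kd xd6 yd15 zd58) (kd xd11 yd35 zd41) (kd xd11 yd35 zd46) (kd xd2 yd53 zd54) (kd xd11 yd35 zd51) (kd xd9 yd9 zd4) (kd xd11 yd35 zd55) (kd xd2 yd53 zd56) (kd xd6 yd2 zd15) (kd xd6 yd2 zd43) (kd xd4 yd38 zd57) (kd xd3 yd22 zd54) (kd xd6 yd45 zd25) (kd xd6 yd45 zd27) (kd xd4 yd49 zd18) (kd xd3 yd10 zd46) (kd xd11 yd36 zd1) (kd xd4 yd33 zd41) (kd xd3 yd12 zd3) (kd xd10 yd2 zd12) (kd xd10 yd2 zd13) (kd xd5 yd18 zd38) (kd xd4 yd30 zd43) (kd xd4 yd30 zd42) (kd xd2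 yd54 zd5) (kd xd8 yd25 zd59) (kd xd3 yd10 zd10) (kd xd11 yd36 zd21) (kd xd10 yd29 zd7) (kd xd6 yd39 zd0) (kd xd6 yd38 zd13) (kd xd2 yd54 zd7) (kd xd11 yd36 zd30) (kd xd5 yd27 zd0) (kd xd4 yd58 zd39) (kd xd11 yd36 zd34) (kd xd2 yd54 zd11) (kd xd9 yd47 zd56) (kd xd2 yd54 zd12) (kd xd11 yd36 zd42) (kd xd2 yd54 zd13) (kd xd3 yd55 zd13) (kd xd9 yd7 zd25) (kd xd11 yd36 zd48) (kd xd11 yd36 zd51) (kd xd2 yd54 zd16) (kd xd11 yd36 zd6) (kd xd2 yd54 zd17) (kd xd10 yd22 zd35) (kd xd4 yd30 zd29) (kd xd11 yd36 zd61) (kd xd2 yd54 zd18) (kd xd11 yd37 zd3) (kd xd7 yd59 zd6) (kd xd4 yd34 zd17) (kd xd11 yd37 zd9) (kd xd2 yd54 zd20)) (@D3.rec (fun _ => Pt) (kd xd2 yd54 zd21) (kd xd3 yd15 zd16) (kd xd11 yd15 zd31) (kd xd2 yd54 zd23) (kd xd11 yd37 zd20) (kd xd11 yd37 zd24) (kd xd2 yd54 zd25)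 (kd xd4 yd23 zd54) (kd xd6 yd35 zd26) (kd xd4 yd23 zd56) (kd xd6 yd36 zd24) (kd xd11 yd37 zd38) (kd xd9 yd49 zd11) (kd xd9 yd11 zd49) (kd xd11 yd37 zd43) (kd xd2 yd54 zd28) (kd xd11 yd37 zd48) (kd xd11 yd37 zd52) (kd xd11 yd37 zd55) (kd xd2 yd54 zd29) (kd xd11 yd37 zd60) (kd xd11 yd37 zd61) (kd xd2 yd54 zd30) (kd xd11 yd38 zd3) (kd xd2 yd54 zd31) (kd xd11 yd38 zd8) (kd xd11 yd8 zd1) (kd xd11 yd38 zd16) (kd xd2 yd54 zd33) (kd xd11 yd36 zd28) (kd xd7 yd31 zd36) (kd xd11 yd38 zd21) (kd xd11 yd38 zd24) (kd xd11 yd14 zd25) (kd xd6 yd31 zd37) (kd xd9 yd11 zd41) (kd xd2 yd54 zd37) (kd xd11 yd38 zd33) (kd xd11 yd38 zd36) (kd xd2 yd54 zd38) (kd xd11 yd38 zd40) (kd xd6 yd35 zd14) (kd xd11 yd38 zd42) (kd xd11 yd38 zd44) (kd xd2 yd57 zd14) (kd xd8 yd46 zd42) (kd xd11 yd38 zd48)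 (kd xd11 yd38 zd52) (kd xd5 yd18 zd54) (kd xd11 yd38 zd54) (kd xd11 yd38 zd57) (kd xd2 yd54 zd43) (kd xd11 yd39 zd0) (kd xd11 yd39 zd2) (kd xd11 yd39 zd5) (kd xd2 yd54 zd44) (kd xd6 yd3 zd14) (kd xd9 yd31 zd36) (kd xd9 yd31 zd37) (kd xd11 yd39 zd15) (kd xd2 yd54 zd46) (kd xd11 yd39 zd18)) (@D3.rec (fun _ => Pt) (kd xd2 yd54 zd47) (kd xd11 yd39 zd22) (kd xd9 yd2 zd59) (kd xd11 yd39 zd29) (kd xd2 yd54 zd49) (kd xd9 yd1 zd9) (kd xd5 yd49 zd49) (kd xd11 yd39 zd33) (kd xd2 yd54 zd50) (kd xd11 yd39 zd37) (kd xd11 yd39 zd40) (kd xd2 yd54 zd51) (kd xd11 yd39 zd45) (kd xd9 yd7 zd51) (kd xd11 yd39 zd49) (kd xd5 yd33 zd34) (kd xd11 yd39 zd52) (kd xd5 yd33 zd41) (kd xd9 yd13 zd9) (kd xd4 yd38 zd41) (kd xd11 yd39 zd58) (kd xd2 yd54 zd55) (kd xd6 yd3 zd0) (kd xd6 yd32 zd35) (kd xd6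 yd32 zd40) (kd xd9 yd7 zd55) (kd xd5 yd38 zd44) (kd xd11 yd40 zd4) (kd xd8 yd59 zd44) (kd xd8 yd59 zd45) (kd xd11 yd40 zd8) (kd xd6 yd28 zd53) (kd xd2 yd55 zd3) (kd xd5 yd59 zd52) (kd xd11 yd27 zd31) (kd xd2 yd55 zd4) (kd xd11 yd12 zd35) (kd xd5 yd37 zd22) (kd xd8 yd48 zd2) (kd xd2 yd55 zd9) (kd xd11 yd40 zd19) (kd xd11 yd40 zd20) (kd xd11 yd40 zd21) (kd xd2 yd55 zd10) (kd xd6 yd31 zd30) (kd xd2 yd55 zd11) (kd xd3 yd0 zd5) (kd xd6 yd46 zd20) (kd xd2 yd55 zd13) (kd xd11 yd40 zd27) (kd xd2 yd55 zd15) (kd xd11 yd40 zd29) (kd xd11 yd16 zd47) (kd xd11 yd40 zd32) (kd xd2 yd55 zd18) (kd xd9 yd49 zd13) (kd xd5 yd43 zd27) (kd xd9 yd49 zd56) (kd xd11 yd40 zd40) (kd xd11 yd40 zd41) (kd xd11 yd40 zd42) (kd xd2 yd55 zd21)) (@D3.rec (fun _ => Pt) (kd xd11 yd40 zd45) (kd xd6 yd1 zd30)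 (kd xd2 yd55 zd23) (kd xd6 yd46 zd24) (kd xd11 yd40 zd49) (kd xd2 yd55 zd26) (kd xd11 yd40 zd54) (kd xd11 yd40 zd57) (kd xd11 yd40 zd59) (kd xd2 yd55 zd27) (kd xd11 yd40 zd61) (kd xd11 yd41 zd1) (kd xd2 yd55 zd28) (kd xd11 yd41 zd4) (kd xd2 yd55 zd29) (kd xd11 yd41 zd7) (kd xd4 yd24 zd48) (kd xd11 yd41 zd14) (kd xd11 yd41 zd16) (kd xd2 yd55 zd30) (kd xd3 yd40 zd57) (kd xd11 yd41 zd19) (kd xd2 yd56 zd11) (kd xd2 yd56 zd12) (kd xd3 yd40 zd58) (kd xd2 yd55 zd33) (kd xd11 yd41 zd28) (kd xd6 yd0 zd24) (kd xd2 yd55 zd37) (kd xd11 yd17 zd51) (kd xd6 yd52 zd44) (kd xd11 yd14 zd30) (kd xd3 yd43 zd19) (kd xd3 yd21 zd19) (kd xd11 yd32 zd24) (kd xd11 yd41 zd36) (kd xd11 yd17 zd17) (kd xd11 yd41 zd40) (kd xd2 yd55 zd45) (kd xd11 yd41 zd45) (kd xd2 yd55 zd46) (kd xd11 yd41 zd50)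 (kd xd11 yd41 zd53) (kd xd11 yd41 zd55) (kd xd2 yd55 zd47) (kd xd11 yd41 zd60) (kd xd2 yd55 zd48) (kd xd11 yd7 zd30) (kd xd6 yd16 zd22) (kd xd11 yd42 zd2) (kd xd2 yd55 zd50) (kd xd9 yd49 zd58) (kd xd11 yd42 zd9) (kd xd8 yd59 zd12) (kd xd11 yd42 zd13) (kd xd2 yd55 zd52) (kd xd11 yd42 zd18) (kd xd10 yd15 zd24) (kd xd11 yd42 zd22) (kd xd11 yd24 zd41) (kd xd2 yd55 zd54) (kd xd11 yd42 zd26)) (@D3.rec (fun _ => Pt) (kd xd11 yd42 zd29) (kd xd11 yd42 zd32) (kd xd11 yd42 zd35) (kd xd2 yd55 zd56) (kd xd11 yd42 zd40) (kd xd11 yd42 zd42) (kd xd2 yd55 zd57) (kd xd6 yd1 zd9) (kd xd9 yd30 zd8) (kd xd11 yd42 zd49) (kd xd2 yd55 zd59) (kd xd11 yd42 zd53) (kd xd11 yd15 zd12) (kd xd11 yd42 zd59) (kd xd2 yd55 zd61) (kd xd11 yd43 zd0) (kd xd11 yd43 zd3) (kd xd11 yd43 zd6) (kd xd2 yd56 zd0)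 (kd xd11 yd43 zd12) (kd xd10 yd3 zd56) (kd xd2 yd56 zd2) (kd xd11 yd43 zd19) (kd xd11 yd43 zd23) (kd xd11 yd43 zd26) (kd xd2 yd56 zd4) (kd xd11 yd43 zd30) (kd xd11 yd43 zd32) (kd xd11 yd43 zd35) (kd xd2 yd56 zd5) (kd xd6 yd8 zd8) (kd xd11 yd43 zd39) (kd xd11 yd43 zd42) (kd xd2 yd56 zd6) (kd xd3 yd23 zd12) (kd xd11 yd28 zd13) (kd xd11 yd43 zd47) (kd xd2 yd56 zd9) (kd xd11 yd43 zd51) (kd xd11 yd43 zd53) (kd xd5 yd34 zd48) (kd xd2 yd56 zd10) (kd xd11 yd43 zd58) (kd xd11 yd41 zd21) (kd xd11 yd43 zd61) (kd xd11 yd44 zd0) (kd xd4 yd24 zd21) (kd xd11 yd41 zd17) (kd xd8 yd47 zd3) (kd xd2 yd56 zd13) (kd xd11 yd44 zd9) (kd xd5 yd50 zd4) (kd xd5 yd57 zd33) (kd xd11 yd44 zd15) (kd xd11 yd44 zd18) (kd xd2 yd56 zd15) (kd xd11 yd44 zd22) (kd xd2 yd56 zd16) (kd xd10 yd25 zd19) (kd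 xd2 yd56 zd17) (kd xd11 yd44 zd28) (kd xd11 yd44 zd30))
def f_d_6 : D2 → D3 → Pt := @D2.rec (fun _ => D3 → Pt) (@D3.rec (fun _ => Pt) (kd xd2 yd56 zd19) (kd xd3 yd47 zd16) (kd xd2 yd56 zd22) (kd xd3 yd50 zd22) (kd xd11 yd44 zd38) (kd xd11 yd44 zd40) (kd xd11 yd44 zd42) (kd xd11 yd44 zd33) (kd xd11 yd35 zd20) (kd xd11 yd44 zd45) (kd xd2 yd56 zd23) (kd xd11 yd44 zd49) (kd xd11 yd44 zd53) (kd xd11 yd44 zd57) (kd xd11 yd44 zd60) (kd xd2 yd56 zd25) (kd xd11 yd45 zd2) (kd xd11 yd45 zd3) (kd xd2 yd56 zd26) (kd xd6 yd7 zd6) (kd xd11 yd45 zd8) (kd xd2 yd56 zd27) (kd xd11 yd45 zd10) (kd xd11 yd45 zd11) (kd xd5 yd58 zd27) (kd xd11 yd45 zd16) (kd xd2 yd56 zd29) (kd xd7 yd2 zd17) (kd xd7 yd2 zd18) (kd xd11 yd45 zd21) (kd xd6 yd35 zd37) (kd xd2 yd56 zd30) (kd xd11 yd27 zd26) (kd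 xd4 yd40 zd36) (kd xd10 yd20 zd8) (kd xd2 yd56 zd33) (kd xd11 yd45 zd34) (kd xd11 yd33 zd55) (kd xd11 yd33 zd56) (kd xd5 yd54 zd11) (kd xd4 yd36 zd15) (kd xd2 yd56 zd34) (kd xd11 yd45 zd43) (kd xd11 yd45 zd47) (kd xd2 yd56 zd37) (kd xd11 yd45 zd51) (kd xd11 yd45 zd54) (kd xd9 yd47 zd18) (kd xd11 yd46 zd0) (kd xd11 yd46 zd4) (kd xd11 yd46 zd7) (kd xd2 yd56 zd41) (kd xd11 yd46 zd12) (kd xd11 yd46 zd15) (kd xd2 yd56 zd42) (kd xd11 yd46 zd22) (kd xd11 yd46 zd23) (kd xd2 yd56 zd43) (kd xd11 yd46 zd27) (kd xd11 yd46 zd31) (kd xd11 yd46 zd36) (kd xd2 yd56 zd45)) (@D3.rec (fun _ => Pt) (kd xd11 yd19 zd55) (kd xd7 yd27 zd0) (kd xd11 yd46 zd40) (kd xd2 yd56 zd46) (kd xd3 yd14 zd0) (kd xd11 yd46 zd47) (kd xd11 yd46 zd50) (kd xd2 yd56 zd47) (kd xd11 yd46 zd57) (kd xd5 yd59 zd7)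 (kd xd11 yd46 zd61) (kd xd11 yd47 zd3) (kd xd3 yd13 zd60) (kd xd11 yd47 zd5) (kd xd2 yd56 zd49) (kd xd6 yd8 zd7) (kd xd11 yd20 zd8) (kd xd11 yd47 zd8) (kd xd11 yd47 zd12) (kd xd2 yd56 zd50) (kd xd6 yd20 zd10) (kd xd11 yd47 zd21) (kd xd2 yd56 zd51) (kd xd11 yd47 zd24) (kd xd4 yd48 zd21) (kd xd3 yd23 zd13) (kd xd5 yd38 zd45) (kd xd11 yd47 zd28) (kd xd11 yd40 zd26) (kd xd11 yd47 zd34) (kd xd5 yd58 zd1) (kd xd11 yd47 zd40) (kd xd6 yd50 zd7) (kd xd11 yd28 zd19) (kd xd11 yd47 zd47) (kd xd11 yd18 zd26) (kd xd11 yd47 zd53) (kd xd11 yd47 zd56) (kd xd11 yd47 zd61) (kd xd2 yd56 zd58) (kd xd11 yd48 zd3) (kd xd2 yd56 zd59) (kd xd11 yd48 zd5) (kd xd11 yd48 zd7) (kd xd2 yd56 zd60) (kd xd11 yd0 zd48) (kd xd11 yd35 zd6) (kd xd11 yd48 zd10) (kd xd5 yd47 zd26) (kd xd4 yd36 zd14) (kd xd9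 yd19 zd26) (kd xd9 yd14 zd5) (kd xd11 yd48 zd18) (kd xd11 yd48 zd20) (kd xd2 yd57 zd2) (kd xd5 yd34 zd32) (kd xd11 yd48 zd25) (kd xd2 yd57 zd3) (kd xd11 yd48 zd28) (kd xd11 yd48 zd31) (kd xd11 yd48 zd34) (kd xd2 yd57 zd5)) (@D3.rec (fun _ => Pt) (kd xd11 yd48 zd37) (kd xd2 yd57 zd6) (kd xd3 yd0 zd51) (kd xd9 yd9 zd9) (kd xd6 yd12 zd32) (kd xd11 yd12 zd5) (kd xd11 yd48 zd44) (kd xd2 yd57 zd9) (kd xd11 yd48 zd47) (kd xd2 yd57 zd10) (kd xd9 yd13 zd44) (kd xd11 yd48 zd48) (kd xd2 yd57 zd12) (kd xd11 yd48 zd52) (kd xd11 yd48 zd54) (kd xd5 yd55 zd13) (kd xd3 yd20 zd23) (kd xd3 yd15 zd52) (kd xd11 yd37 zd21) (kd xd11 yd48 zd59) (kd xd4 yd35 zd26) (kd xd8 yd45 zd40) (kd xd9 yd42 zd40) (kd xd10 yd31 zd12) (kd xd10 yd37 zd40) (kd xd2 yd57 zd17) (kd xd11 yd49 zd13) (kd xd9 yd40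 zd41) (kd xd2 yd57 zd18) (kd xd11 yd37 zd1) (kd xd9 yd42 zd0) (kd xd2 yd57 zd19) (kd xd11 yd49 zd21) (kd xd3 yd2 zd38) (kd xd6 yd25 zd44) (kd xd9 yd38 zd53) (kd xd2 yd57 zd23) (kd xd11 yd49 zd28) (kd xd6 yd4 zd8) (kd xd11 yd49 zd30) (kd xd2 yd57 zd25) (kd xd2 yd57 zd26) (kd xd9 yd14 zd17) (kd xd5 yd55 zd14) (kd xd9 yd31 zd52) (kd xd3 yd21 zd6) (kd xd11 yd49 zd38) (kd xd2 yd57 zd28) (kd xd6 yd3 zd33) (kd xd9 yd13 zd13) (kd xd11 yd49 zd42) (kd xd2 yd57 zd31) (kd xd11 yd49 zd43) (kd xd11 yd49 zd44) (kd xd11 yd49 zd47) (kd xd11 yd49 zd50) (kd xd5 yd50 zd1) (kd xd8 yd0 zd35) (kd xd11 yd28 zd51) (kd xd2 yd57 zd33) (kd xd4 yd43 zd53) (kd xd9 yd32 zd58)) (@D3.rec (fun _ => Pt) (kd xd5 yd57 zd22) (kd xd11 yd36 zd3) (kd xd10 yd3 zd2) (kd xd2 yd57 zd36) (kd xd10 yd19 zd5) (kd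 xd10 yd18 zd43) (kd xd5 yd7 zd6) (kd xd2 yd57 zd39) (kd xd11 yd50 zd2) (kd xd11 yd50 zd3) (kd xd2 yd57 zd42) (kd xd11 yd50 zd7) (kd xd2 yd57 zd43) (kd xd11 yd50 zd13) (kd xd5 yd56 zd56) (kd xd11 yd50 zd19) (kd xd11 yd50 zd21) (kd xd9 yd7 zd33) (kd xd9 yd7 zd34) (kd xd2 yd57 zd45) (kd xd5 yd3 zd56) (kd xd10 yd18 zd10) (kd xd10 yd18 zd28) (kd xd2 yd57 zd48) (kd xd2 yd57 zd50) (kd xd6 yd16 zd17) (kd xd6 yd16 zd32) (kd xd11 yd50 zd37) (kd xd8 yd12 zd7) (kd xd4 yd34 zd18) (kd xd5 yd52 zd36) (kd xd6 yd3 zd50) (kd xd4 yd42 zd9) (kd xd6 yd2 zd48) (kd xd4 yd38 zd59) (kd xd6 yd22 zd4) (kd xd6 yd3 zd43) (kd xd10 yd0 zd29) (kd xd11 yd49 zd32) (kd xd9 yd13 zd39) (kd xd9 yd10 zd26) (kd xd7 yd34 zd55) (kd xd10 yd4 zd32) (kd xd6 yd3 zd36) (kd xd11 yd51 zd0) (kd xd11 yd51 zd4) (kd xd11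 yd2 zd9) (kd xd10 yd4 zd34) (kd xd11 yd51 zd9) (kd xd9 yd3 zd27) (kd xd6 yd3 zd31) (kd xd6 yd48 zd26) (kd xd11 yd51 zd16) (kd xd11 yd51 zd18) (kd xd11 yd23 zd53) (kd xd5 yd36 zd53) (kd xd11 yd51 zd24) (kd xd6 yd4 zd4) (kd xd8 yd24 zd29) (kd xd11 yd51 zd31) (kd xd11 yd51 zd34) (kd xd11 yd51 zd36)) (@D3.rec (fun _ => Pt) (kd xd2 yd58 zd4) (kd xd9 yd31 zd59) (kd xd11 yd51 zd44) (kd xd8 yd14 zd54) (kd xd6 yd3 zd57) (kd xd4 yd48 zd5) (kd xd5 yd50 zd19) (kd xd4 yd34 zd38) (kd xd6 yd2 zd38) (kd xd8 yd51 zd37) (kd xd9 yd14 zd40) (kd xd2 yd58 zd12) (kd xd5 yd7 zd9) (kd xd4 yd31 zd9) (kd xd11 yd51 zd59) (kd xd2 yd58 zd17) (kd xd11 yd51 zd61) (kd xd11 yd52 zd2) (kd xd5 yd43 zd16) (kd xd2 yd58 zd21) (kd xd10 yd38 zd40) (kd xd11 yd52 zd9) (kd xd2 yd58 zd22) (kd xd11 yd52 zd15) (kd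 xd11 yd52 zd16) (kd xd5 yd11 zd60) (kd xd10 yd37 zd15) (kd xd4 yd16 zd50) (kd xd11 yd52 zd25) (kd xd11 yd52 zd28) (kd xd11 yd52 zd33) (kd xd2 yd58 zd26) (kd xd8 yd14 zd0) (kd xd6 yd4 zd33) (kd xd11 yd52 zd40) (kd xd5 yd20 zd49) (kd xd8 yd13 zd60) (kd xd8 yd2 zd43) (kd xd10 yd37 zd16) (kd xd10 yd37 zd17) (kd xd2 yd58 zd31) (kd xd11 yd52 zd57) (kd xd8 yd54 zd48) (kd xd6 yd5 zd41) (kd xd5 yd20 zd54) (kd xd5 yd22 zd30) (kd xd9 yd33 zd40) (kd xd10 yd3 zd7) (kd xd8 yd13 zd61) (kd xd10 yd14 zd42) (kd xd11 yd53 zd3) (kd xd2 yd58 zd37) (kd xd11 yd53 zd7) (kd xd5 yd16 zd22) (kd xd4 yd27 zd15) (kd xd10 yd3 zd12) (kd xd10 yd37 zd18) (kd xd8 yd18 zd3) (kd xd11 yd52 zd52) (kd xd11 yd52 zd53) (kd xd11 yd53 zd20) (kd xd11 yd53 zd23)) (@D3.rec (fun _ => Pt) (kd xd8 yd35 zd51) (kd xd4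 yd17 zd27) (kd xd5 yd20 zd26) (kd xd11 yd53 zd32) (kd xd2 yd58 zd43) (kd xd11 yd53 zd37) (kd xd5 yd21 zd57) (kd xd5 yd21 zd58) (kd xd5 yd20 zd34) (kd xd6 yd5 zd16) (kd xd2 yd58 zd45) (kd xd11 yd53 zd48) (kd xd11 yd53 zd54) (kd xd2 yd58 zd46) (kd xd11 yd53 zd57) (kd xd11 yd54 zd1) (kd xd6 yd5 zd9) (kd xd11 yd54 zd6) (kd xd2 yd58 zd47) (kd xd11 yd54 zd11) (kd xd8 yd13 zd15) (kd xd8 yd13 zd31) (kd xd8 yd13 zd8) (kd xd4 yd28 zd38) (kd xd2 yd58 zd49) (kd xd11 yd54 zd25) (kd xd10 yd47 zd57) (kd xd11 yd54 zd30) (kd xd10 yd44 zd36) (kd xd10 yd44 zd37) (kd xd11 yd54 zd37) (kd xd2 yd58 zd51) (kd xd11 yd54 zd41) (kd xd8 yd28 zd44) (kd xd8 yd28 zd43) (kd xd4 yd29 zd55) (kd xd3 yd21 zd49) (kd xd9 yd26 zd13) (kd xd9 yd26 zd16) (kd xd11 yd54 zd51) (kd xd2 yd58 zd54) (kd xd6 yd4 zd43)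 (kd xd5 yd16 zd10) (kd xd11 yd54 zd58) (kd xd2 yd58 zd60) (kd xd9 yd23 zd3) (kd xd4 yd45 zd45) (kd xd10 yd44 zd1) (kd xd11 yd55 zd3) (kd xd2 yd59 zd0) (kd xd11 yd55 zd9) (kd xd5 yd15 zd51) (kd xd10 yd2 zd11) (kd xd9 yd50 zd35) (kd xd10 yd44 zd18) (kd xd6 yd15 zd47) (kd xd11 yd34 zd54) (kd xd2 yd59 zd4) (kd xd11 yd55 zd19) (kd xd5 yd18 zd14) (kd xd11 yd55 zd23) (kd xd2 yd59 zd7)) (@D3.rec (fun _ => Pt) (kd xd11 yd55 zd28) (kd xd11 yd55 zd32) (kd xd8 yd32 zd39) (kd xd4 yd16 zd0) (kd xd11 yd54 zd52) (kd xd11 yd54 zd53) (kd xd11 yd55 zd40) (kd xd2 yd59 zd9) (kd xd11 yd55 zd44) (kd xd11 yd55 zd45) (kd xd6 yd46 zd55) (kd xd11 yd55 zd48) (kd xd2 yd59 zd11) (kd xd11 yd55 zd51) (kd xd2 yd59 zd12) (kd xd4 yd17 zd2) (kd xd11 yd55 zd5) (kd xd11 yd55 zd6) (kd xd11 yd55 zd58) (kd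 xd2 yd59 zd15) (kd xd11 yd55 zd60) (kd xd5 yd26 zd46) (kd xd5 yd26 zd47) (kd xd4 yd28 zd54) (kd xd11 yd34 zd55) (kd xd11 yd34 zd56) (kd xd11 yd33 zd54) (kd xd2 yd59 zd17) (kd xd5 yd12 zd12) (kd xd5 yd23 zd16) (kd xd10 yd0 zd15) (kd xd10 yd0 zd16) (kd xd9 yd30 zd37) (kd xd11 yd56 zd15) (kd xd2 yd59 zd22) (kd xd11 yd56 zd17) (kd xd11 yd12 zd36) (kd xd2 yd59 zd24) (kd xd11 yd56 zd20) (kd xd11 yd56 zd23) (kd xd9 yd15 zd15) (kd xd3 yd20 zd32) (kd xd11 yd56 zd29) (kd xd9 yd4 zd19) (kd xd11 yd56 zd32) (kd xd2 yd59 zd29) (kd xd6 yd44 zd57) (kd xd6 yd44 zd56) (kd xd11 yd56 zd39) (kd xd4 yd30 zd34) (kd xd11 yd49 zd36) (kd xd2 yd59 zd48) (kd xd11 yd56 zd45) (kd xd6 yd16 zd59) (kd xd6 yd16 zd58) (kd xd4 yd30 zd41) (kd xd2 yd59 zd35) (kd xd11 yd4 zd37) (kd xd11 yd4 zd38) (kd xd11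 yd56 zd54) (kd xd2 yd59 zd36) (kd xd11 yd56 zd59)) (@D3.rec (fun _ => Pt) (kd xd8 yd37 zd46) (kd xd8 yd37 zd45) (kd xd4 yd56 zd7) (kd xd4 yd49 zd1) (kd xd10 yd45 zd9) (kd xd10 yd0 zd8) (kd xd6 yd0 zd19) (kd xd6 yd7 zd8) (kd xd6 yd7 zd7) (kd xd4 yd30 zd61) (kd xd5 yd53 zd46) (kd xd9 yd6 zd12) (kd xd11 yd57 zd16) (kd xd2 yd59 zd46) (kd xd11 yd57 zd20) (kd xd5 yd1 zd39) (kd xd9 yd53 zd12) (kd xd4 yd49 zd22) (kd xd9 yd7 zd32) (kd xd11 yd57 zd26) (kd xd2 yd59 zd49) (kd xd6 yd7 zd47) (kd xd5 yd3 zd23) (kd xd11 yd57 zd32) (kd xd11 yd57 zd33) (kd xd9 yd14 zd41) (kd xd9 yd47 zd33) (kd xd5 yd55 zd1) (kd xd11 yd57 zd35) (kd xd2 yd59 zd55) (kd xd11 yd57 zd36) (kd xd2 yd59 zd57) (kd xd10 yd5 zd6) (kd xd2 yd59 zd58) (kd xd11 yd57 zd39) (kd xd2 yd59 zd59) (kd xd4 yd5 zd38) (kd xd4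 yd5 zd39) (kd xd11 yd57 zd44) (kd xd4 yd33 zd34) (kd xd9 yd9 zd53) (kd xd3 yd0 zd0) (kd xd11 yd57 zd48) (kd xd11 yd57 zd50) (kd xd11 yd57 zd53) (kd xd3 yd0 zd2) (kd xd4 yd6 zd53) (kd xd6 yd7 zd21) (kd xd3 yd0 zd3) (kd xd8 yd57 zd42) (kd xd3 yd0 zd6) (kd xd7 yd27 zd16) (kd xd3 yd0 zd9) (kd xd5 yd53 zd10) (kd xd3 yd0 zd10) (kd xd11 yd29 zd30) (kd xd3 yd13 zd57) (kd xd11 yd58 zd1) (kd xd3 yd0 zd12) (kd xd5 yd53 zd11) (kd xd3 yd2 zd45) (kd xd5 yd7 zd36)) (@D3.rec (fun _ => Pt) (kd xd6 yd46 zd19) (kd xd11 yd20 zd33) (kd xd3 yd23 zd7) (kd xd11 yd58 zd11) (kd xd3 yd0 zd15) (kd xd11 yd58 zd14) (kd xd7 yd27 zd17) (kd xd6 yd1 zd15) (kd xd5 yd59 zd30) (kd xd3 yd0 zd42) (kd xd11 yd14 zd55) (kd xd11 yd50 zd22) (kd xd11 yd58 zd21) (kd xd3 yd0 zd20) (kd xd11 yd56 zd44) (kd xd11 yd58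 zd23) (kd xd9 yd10 zd56) (kd xd9 yd31 zd50) (kd xd9 yd31 zd51) (kd xd10 yd17 zd7) (kd xd10 yd17 zd8) (kd xd5 yd27 zd3) (kd xd11 yd58 zd33) (kd xd5 yd13 zd32) (kd xd3 yd0 zd24) (kd xd10 yd17 zd27) (kd xd4 yd38 zd48) (kd xd4 yd41 zd49) (kd xd4 yd39 zd3) (kd xd9 yd17 zd30) (kd xd11 yd58 zd38) (kd xd11 yd58 zd39) (kd xd3 yd0 zd30) (kd xd3 yd0 zd31) (kd xd5 yd41 zd17) (kd xd11 yd58 zd41) (kd xd9 yd8 zd23) (kd xd5 yd47 zd0) (kd xd11 yd58 zd48) (kd xd11 yd58 zd51) (kd xd11 yd58 zd53) (kd xd3 yd0 zd39) (kd xd11 yd58 zd57) (kd xd6 yd42 zd34) (kd xd11 yd58 zd60) (kd xd3 yd0 zd40) (kd xd9 yd30 zd34) (kd xd11 yd58 zd61) (kd xd11 yd59 zd2) (kd xd3 yd0 zd41) (kd xd11 yd44 zd23) (kd xd5 yd45 zd4) (kd xd3 yd0 zd44) (kd xd11 yd59 zd7) (kd xd11 yd49 zd22) (kd xd3 yd0 zd46) (kd xd3 yd21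 zd4) (kd xd6 yd30 zd35) (kd xd11 yd59 zd8) (kd xd3 yd0 zd49) (kd xd11 yd48 zd40) (kd xd11 yd30 zd61)) (@D3.rec (fun _ => Pt) (kd xd11 yd48 zd41) (kd xd3 yd0 zd52) (kd xd4 yd39 zd23) (kd xd4 yd32 zd21) (kd xd4 yd39 zd25) (kd xd11 yd59 zd16) (kd xd5 yd42 zd25) (kd xd5 yd6 zd52) (kd xd11 yd24 zd7) (kd xd4 yd31 zd49) (kd xd5 yd0 zd26) (kd xd11 yd59 zd29) (kd xd11 yd59 zd32) (kd xd3 yd0 zd59) (kd xd11 yd59 zd37) (kd xd4 yd58 zd12) (kd xd8 yd48 zd48) (kd xd3 yd0 zd61) (kd xd11 yd59 zd41) (kd xd7 yd55 zd20) (kd xd10 yd8 zd61) (kd xd3 yd24 zd20) (kd xd3 yd1 zd8) (kd xd11 yd59 zd47) (kd xd6 yd9 zd24) (kd xd7 yd26 zd25) (kd xd11 yd59 zd55) (kd xd3 yd1 zd10) (kd xd6 yd48 zd35) (kd xd6 yd48 zd36) (kd xd6 yd48 zd24) (kd xd3 yd14 zd35) (kd xd3 yd1 zd13) (kd xd12 yd0 zd7) (kd xd12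 yd0 zd9) (kd xd3 yd1 zd16) (kd xd12 yd0 zd11) (kd xd12 yd0 zd14) (kd xd6 yd9 zd38) (kd xd3 yd1 zd28) (kd xd12 yd0 zd19) (kd xd12 yd0 zd21) (kd xd12 yd0 zd23) (kd xd12 yd0 zd27) (kd xd3 yd1 zd20) (kd xd6 yd48 zd10) (kd xd6 yd48 zd11) (kd xd9 yd33 zd5) (kd xd3 yd30 zd12) (kd xd12 yd0 zd40) (kd xd10 yd53 zd21) (kd xd12 yd0 zd42) (kd xd3 yd1 zd23) (kd xd6 yd36 zd34) (kd xd3 yd53 zd52) (kd xd7 yd19 zd34) (kd xd3 yd1 zd27) (kd xd3 yd1 zd29) (kd xd3 yd12 zd1) (kd xd12 yd0 zd48) (kd xd3 yd1 zd31) (kd xd7 yd11 zd52)) (@D3.rec (fun _ => Pt) (kd xd12 yd0 zd51) (kd xd12 yd0 zd55) (kd xd3 yd1 zd36) (kd xd7 yd19 zd37) (kd xd12 yd0 zd58) (kd xd12 yd0 zd57) (kd xd12 yd1 zd4) (kd xd3 yd1 zd41) (kd xd3 yd51 zd27) (kd xd3 yd51 zd28) (kd xd12 yd1 zd14) (kd xd3 yd1 zd42) (kd xd10 yd13 zd12)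 (kd xd10 yd13 zd14) (kd xd5 yd5 zd42) (kd xd5 yd4 zd2) (kd xd6 yd25 zd39) (kd xd12 yd1 zd23) (kd xd3 yd1 zd45) (kd xd3 yd18 zd47) (kd xd3 yd1 zd46) (kd xd12 yd1 zd27) (kd xd9 yd28 zd57) (kd xd8 yd45 zd42) (kd xd3 yd1 zd48) (kd xd12 yd1 zd31) (kd xd6 yd10 zd26) (kd xd5 yd8 zd20) (kd xd6 yd41 zd1) (kd xd6 yd37 zd40) (kd xd6 yd37 zd41) (kd xd9 yd12 zd53) (kd xd3 yd1 zd54) (kd xd12 yd1 zd41) (kd xd12 yd1 zd43) (kd xd3 yd1 zd56) (kd xd12 yd1 zd48) (kd xd12 yd1 zd50) (kd xd6 yd37 zd12) (kd xd3 yd30 zd13) (kd xd6 yd28 zd38) (kd xd4 yd43 zd8) (kd xd6 yd34 zd5) (kd xd3 yd1 zd59) (kd xd11 yd37 zd10) (kd xd12 yd1 zd60) (kd xd3 yd1 zd61) (kd xd3 yd22 zd5) (kd xd12 yd2 zd5) (kd xd3 yd2 zd2) (kd xd9 yd32 zd49) (kd xd9 yd11 zd55) (kd xd12 yd2 zd9) (kd xd4 yd35 zd16) (kd xd12 yd2 zd12)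 (kd xd3 yd2 zd5) (kd xd12 yd2 zd15) (kd xd8 yd49 zd5) (kd xd12 yd2 zd20) (kd xd12 yd2 zd22) (kd xd12 yd2 zd25) (kd xd3 yd2 zd7)) (@D3.rec (fun _ => Pt) (kd xd10 yd13 zd10) (kd xd12 yd2 zd28) (kd xd12 yd2 zd30) (kd xd3 yd2 zd8) (kd xd10 yd12 zd54) (kd xd3 yd45 zd30) (kd xd5 yd6 zd19) (kd xd3 yd12 zd39) (kd xd12 yd2 zd38) (kd xd3 yd12 zd40) (kd xd12 yd2 zd41) (kd xd11 yd23 zd17) (kd xd12 yd2 zd43) (kd xd12 yd2 zd45) (kd xd12 yd2 zd47) (kd xd3 yd2 zd14) (kd xd3 yd17 zd22) (kd xd12 yd2 zd51) (kd xd9 yd29 zd41) (kd xd10 yd22 zd53) (kd xd3 yd2 zd16) (kd xd9 yd42 zd60) (kd xd6 yd41 zd16) (kd xd3 yd2 zd17) (kd xd3 yd18 zd46) (kd xd3 yd18 zd30) (kd xd3 yd2 zd18) (kd xd12 yd2 zd58) (kd xd8 yd24 zd55) (kd xd12 yd2 zd60) (kd xd3 yd2 zd19) (kd xd12 yd3 zd3) (kd xd12 yd3 zd6) (kd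 xd4 yd48 zd8) (kd xd3 yd2 zd21) (kd xd9 yd28 zd58) (kd xd3 yd2 zd22) (kd xd12 yd3 zd9) (kd xd3 yd2 zd23) (kd xd8 yd24 zd54) (kd xd12 yd3 zd13) (kd xd3 yd2 zd24) (kd xd9 yd29 zd42) (kd xd12 yd3 zd20) (kd xd3 yd2 zd26) (kd xd12 yd3 zd22) (kd xd7 yd19 zd40) (kd xd7 yd19 zd39) (kd xd12 yd3 zd29) (kd xd3 yd2 zd28) (kd xd12 yd3 zd31) (kd xd12 yd3 zd32) (kd xd11 yd15 zd58) (kd xd3 yd2 zd30) (kd xd9 yd3 zd36) (kd xd4 yd33 zd47) (kd xd5 yd2 zd35) (kd xd3 yd2 zd31) (kd xd11 yd49 zd26) (kd xd6 yd44 zd61) (kd xd6 yd44 zd46) (kd xd12 yd3 zd45)) (@D3.rec (fun _ => Pt) (kd xd3 yd2 zd33) (kd xd12 yd3 zd47) (kd xd3 yd2 zd34) (kd xd3 yd10 zd47) (kd xd3 yd21 zd5) (kd xd3 yd2 zd36) (kd xd3 yd21 zd1) (kd xd11 yd49 zd23) (kd xd6 yd45 zd24) (kd xd3 yd20 zd58) (kd xd5 yd26 zd39) (kd xd4 yd49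 zd15) (kd xd3 yd20 zd49) (kd xd4 yd49 zd20) (kd xd3 yd21 zd52) (kd xd3 yd21 zd29) (kd xd9 yd31 zd58) (kd xd9 yd15 zd19) (kd xd10 yd4 zd48) (kd xd7 yd26 zd54) (kd xd10 yd18 zd18) (kd xd10 yd19 zd9) (kd xd12 yd4 zd18) (kd xd3 yd21 zd22) (kd xd9 yd29 zd27) (kd xd6 yd42 zd33) (kd xd6 yd47 zd40) (kd xd3 yd22 zd4) (kd xd3 yd2 zd48) (kd xd7 yd59 zd49) (kd xd3 yd21 zd31) (kd xd3 yd21 zd8) (kd xd6 yd2 zd4) (kd xd12 yd4 zd28) (kd xd12 yd4 zd30) (kd xd12 yd4 zd31) (kd xd12 yd4 zd32) (kd xd3 yd2 zd58) (kd xd12 yd4 zd35) (kd xd3 yd2 zd59) (kd xd3 yd2 zd60) (kd xd10 yd42 zd40) (kd xd3 yd21 zd7) (kd xd11 yd28 zd61) (kd xd8 yd14 zd27) (kd xd12 yd4 zd41) (kd xd11 yd58 zd36) (kd xd3 yd3 zd6) (kd xd12 yd4 zd45) (kd xd12 yd4 zd46) (kd xd3 yd3 zd8) (kd xd9 yd21 zd47) (kd xd6 yd28 zd24)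 (kd xd3 yd24 zd19) (kd xd5 yd11 zd46) (kd xd3 yd13 zd30) (kd xd4 yd45 zd5) (kd xd10 yd0 zd25) (kd xd4 yd50 zd6) (kd xd5 yd2 zd38) (kd xd10 yd10 zd47) (kd xd12 yd4 zd57)) (@D3.rec (fun _ => Pt) (kd xd3 yd3 zd13) (kd xd6 yd23 zd59) (kd xd6 yd23 zd60) (kd xd4 yd50 zd29) (kd xd3 yd3 zd17) (kd xd7 yd14 zd36) (kd xd3 yd3 zd18) (kd xd3 yd3 zd19) (kd xd5 yd12 zd57) (kd xd5 yd46 zd37) (kd xd8 yd45 zd23) (kd xd3 yd3 zd21) (kd xd12 yd5 zd22) (kd xd3 yd3 zd22) (kd xd3 yd3 zd23) (kd xd12 yd5 zd25) (kd xd3 yd3 zd26) (kd xd11 yd27 zd42) (kd xd3 yd3 zd27) (kd xd12 yd5 zd30) (kd xd12 yd5 zd31) (kd xd3 yd3 zd28) (kd xd12 yd5 zd34) (kd xd12 yd5 zd35) (kd xd3 yd3 zd29) (kd xd5 yd49 zd17) (kd xd5 yd49 zd18) (kd xd12 yd5 zd44) (kd xd3 yd3 zd31) (kd xd9 yd46 zd54) (kd xd3 yd59 zd16) (kd xd3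 yd3 zd35) (kd xd3 yd42 zd13) (kd xd8 yd47 zd27) (kd xd12 yd5 zd55) (kd xd12 yd5 zd58) (kd xd3 yd3 zd38) (kd xd12 yd6 zd1) (kd xd4 yd27 zd3) (kd xd4 yd27 zd6) (kd xd12 yd6 zd6) (kd xd3 yd3 zd40) (kd xd8 yd48 zd14) (kd xd12 yd6 zd9) (kd xd12 yd6 zd11) (kd xd8 yd48 zd16) (kd xd12 yd6 zd14) (kd xd12 yd6 zd15) (kd xd3 yd3 zd44) (kd xd3 yd57 zd46) (kd xd3 yd57 zd47) (kd xd9 yd25 zd32) (kd xd12 yd6 zd21) (kd xd12 yd6 zd23) (kd xd7 yd19 zd9) (kd xd3 yd40 zd47) (kd xd8 yd42 zd51) (kd xd9 yd39 zd26) (kd xd12 yd6 zd31) (kd xd3 yd3 zd50) (kd xd12 yd6 zd35) (kd xd4 yd22 zd61)) (@D3.rec (fun _ => Pt) (kd xd3 yd57 zd22) (kd xd12 yd6 zd41) (kd xd3 yd3 zd52) (kd xd12 yd6 zd44) (kd xd3 yd3 zd53) (kd xd4 yd26 zd60) (kd xd6 yd14 zd26) (kd xd3 yd3 zd56) (kd xd8 yd49 zd43) (kd xd7 yd18 zd48)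 (kd xd4 yd0 zd40) (kd xd8 yd5 zd12) (kd xd12 yd6 zd54) (kd xd12 yd6 zd57) (kd xd8 yd5 zd23) (kd xd3 yd4 zd1) (kd xd5 yd41 zd40) (kd xd11 yd28 zd28) (kd xd12 yd7 zd2) (kd xd11 yd13 zd22) (kd xd3 yd4 zd3) (kd xd5 yd41 zd41) (kd xd12 yd7 zd5) (kd xd12 yd7 zd7) (kd xd3 yd4 zd4) (kd xd12 yd7 zd12) (kd xd6 yd14 zd6) (kd xd11 yd23 zd39) (kd xd3 yd4 zd6) (kd xd12 yd7 zd16) (kd xd12 yd7 zd18) (kd xd3 yd4 zd9) (kd xd12 yd7 zd21) (kd xd9 yd25 zd55) (kd xd12 yd7 zd24) (kd xd10 yd17 zd61) (kd xd3 yd4 zd11) (kd xd4 yd45 zd39) (kd xd3 yd38 zd26) (kd xd3 yd36 zd55) (kd xd3 yd4 zd14) (kd xd12 yd7 zd36) (kd xd12 yd7 zd40) (kd xd12 yd7 zd44) (kd xd3 yd4 zd15) (kd xd12 yd7 zd48) (kd xd7 yd7 zd49) (kd xd12 yd7 zd49) (kd xd8 yd48 zd42) (kd xd12 yd7 zd53) (kd xd3 yd4 zd20) (kd xd12 yd7 zd59)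 (kd xd12 yd8 zd2) (kd xd3 yd4 zd21) (kd xd12 yd8 zd6) (kd xd12 yd8 zd9) (kd xd8 yd48 zd33) (kd xd12 yd8 zd16) (kd xd3 yd4 zd23) (kd xd8 yd48 zd43) (kd xd12 yd8 zd19) (kd xd3 yd4 zd26)) (@D3.rec (fun _ => Pt) (kd xd12 yd8 zd22) (kd xd12 yd8 zd24) (kd xd3 yd4 zd28) (kd xd12 yd8 zd27) (kd xd5 yd6 zd43) (kd xd5 yd6 zd47) (kd xd3 yd4 zd31) (kd xd9 yd19 zd43) (kd xd9 yd47 zd11) (kd xd3 yd4 zd35) (kd xd12 yd8 zd36) (kd xd12 yd8 zd39) (kd xd3 yd4 zd37) (kd xd9 yd51 zd23) (kd xd12 yd8 zd44) (kd xd3 yd4 zd39) (kd xd3 yd4 zd41) (kd xd3 yd4 zd42) (kd xd12 yd8 zd50) (kd xd3 yd4 zd44) (kd xd7 yd0 zd40) (kd xd3 yd4 zd45) (kd xd12 yd8 zd51) (kd xd4 yd57 zd33) (kd xd3 yd4 zd46) (kd xd9 yd45 zd35) (kd xd12 yd8 zd52) (kd xd3 yd4 zd47) (kd xd12 yd5 zd28) (kd xd12 yd8 zd56) (kd xd12 yd8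 zd57) (kd xd3 yd4 zd48) (kd xd7 yd59 zd11) (kd xd11 yd20 zd52) (kd xd11 yd10 zd51) (kd xd12 yd9 zd3) (kd xd11 yd12 zd51) (kd xd3 yd4 zd53) (kd xd3 yd4 zd56) (kd xd3 yd59 zd21) (kd xd4 yd0 zd44) (kd xd4 yd45 zd40) (kd xd12 yd9 zd12) (kd xd3 yd4 zd58) (kd xd12 yd9 zd17) (kd xd9 yd21 zd51) (kd xd9 yd21 zd52) (kd xd6 yd5 zd55) (kd xd12 yd9 zd19) (kd xd3 yd4 zd60) (kd xd12 yd9 zd23) (kd xd9 yd8 zd8) (kd xd4 yd32 zd52) (kd xd10 yd59 zd31) (kd xd3 yd5 zd1) (kd xd3 yd5 zd2) (kd xd12 yd9 zd29) (kd xd12 yd9 zd30) (kd xd5 yd55 zd5) (kd xd4 yd45 zd6) (kd xd12 yd9 zd37) (kd xd12 yd9 zd39)) (@D3.rec (fun _ => Pt) (kd xd12 yd9 zd40) (kd xd3 yd5 zd6) (kd xd12 yd9 zd42) (kd xd3 yd5 zd7) (kd xd3 yd8 zd42) (kd xd12 yd9 zd47) (kd xd3 yd5 zd8) (kd xd11 yd49 zd54) (kd xd3 yd5 zd9) (kd xd9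 yd8 zd53) (kd xd4 yd5 zd40) (kd xd12 yd9 zd52) (kd xd3 yd5 zd11) (kd xd3 yd5 zd12) (kd xd4 yd36 zd26) (kd xd7 yd13 zd24) (kd xd3 yd5 zd13) (kd xd6 yd3 zd25) (kd xd8 yd12 zd5) (kd xd7 yd39 zd35) (kd xd3 yd5 zd15) (kd xd3 yd5 zd16) (kd xd5 yd58 zd48) (kd xd12 yd9 zd59) (kd xd4 yd32 zd30) (kd xd7 yd34 zd52) (kd xd3 yd5 zd19) (kd xd4 yd36 zd25) (kd xd12 yd10 zd3) (kd xd7 yd39 zd29) (kd xd12 yd10 zd7) (kd xd3 yd5 zd22) (kd xd6 yd3 zd26) (kd xd5 yd7 zd38) (kd xd3 yd46 zd40) (kd xd12 yd10 zd13) (kd xd9 yd21 zd55) (kd xd11 yd33 zd44) (kd xd12 yd10 zd18) (kd xd12 yd10 zd21) (kd xd7 yd42 zd8) (kd xd3 yd5 zd25) (kd xd7 yd39 zd37) (kd xd9 yd11 zd9) (kd xd9 yd49 zd42) (kd xd9 yd7 zd38) (kd xd5 yd52 zd24) (kd xd10 yd17 zd23) (kd xd5 yd46 zd22) (kd xd5 yd13 zd34) (kd xd5 yd50 zd6)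 (kd xd12 yd10 zd41) (kd xd12 yd10 zd44) (kd xd12 yd10 zd45) (kd xd3 yd5 zd32) (kd xd3 yd10 zd22) (kd xd11 yd14 zd40) (kd xd11 yd49 zd40) (kd xd6 yd6 zd54) (kd xd6 yd6 zd53) (kd xd7 yd0 zd41) (kd xd3 yd5 zd38)) (@D3.rec (fun _ => Pt) (kd xd3 yd5 zd39) (kd xd5 yd29 zd11) (kd xd5 yd14 zd5) (kd xd5 yd14 zd6) (kd xd12 yd10 zd28) (kd xd5 yd52 zd59) (kd xd5 yd52 zd60) (kd xd3 yd5 zd42) (kd xd3 yd5 zd43) (kd xd9 yd48 zd24) (kd xd6 yd25 zd30) (kd xd11 yd4 zd54) (kd xd5 yd0 zd5) (kd xd5 yd0 zd6) (kd xd5 yd50 zd11) (kd xd9 yd28 zd4) (kd xd3 yd5 zd49) (kd xd12 yd11 zd5) (kd xd3 yd5 zd51) (kd xd12 yd11 zd8) (kd xd9 yd16 zd40) (kd xd12 yd11 zd14) (kd xd12 yd11 zd17) (kd xd6 yd43 zd40) (kd xd9 yd28 zd26) (kd xd12 yd11 zd21) (kd xd12 yd11 zd23) (kd xd12 yd11 zd25) (kd xd3 yd5 zd57)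 (kd xd12 yd11 zd30) (kd xd6 yd42 zd30) (kd xd12 yd11 zd34) (kd xd3 yd5 zd58) (kd xd10 yd32 zd16) (kd xd3 yd5 zd59) (kd xd4 yd50 zd10) (kd xd12 yd11 zd41) (kd xd3 yd6 zd0) (kd xd12 yd11 zd43) (kd xd6 yd17 zd41) (kd xd12 yd11 zd46) (kd xd6 yd17 zd39) (kd xd12 yd11 zd48) (kd xd12 yd11 zd50) (kd xd12 yd11 zd54) (kd xd3 yd6 zd3) (kd xd12 yd11 zd58) (kd xd3 yd6 zd4) (kd xd12 yd11 zd61) (kd xd5 yd51 zd38) (kd xd3 yd6 zd6) (kd xd6 yd43 zd52) (kd xd6 yd19 zd29) (kd xd5 yd4 zd38) (kd xd3 yd21 zd61) (kd xd10 yd14 zd24) (kd xd3 yd22 zd2) (kd xd9 yd56 zd15) (kd xd6 yd36 zd48) (kd xd3 yd6 zd11) (kd xd12 yd12 zd12) (kd xd7 yd11 zd41)) (@D3.rec (fun _ => Pt) (kd xd7 yd11 zd42) (kd xd3 yd22 zd34) (kd xd3 yd6 zd15) (kd xd12 yd2 zd0) (kd xd3 yd6 zd16) (kd xd12 yd12 zd20) (kd xd3 yd6 zd17)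 (kd xd12 yd12 zd24) (kd xd12 yd12 zd27) (kd xd3 yd6 zd20) (kd xd10 yd0 zd33) (kd xd3 yd6 zd21) (kd xd12 yd12 zd33) (kd xd12 yd12 zd36) (kd xd3 yd6 zd23) (kd xd6 yd37 zd4) (kd xd12 yd12 zd39) (kd xd12 yd12 zd41) (kd xd3 yd6 zd24) (kd xd6 yd59 zd7) (kd xd12 yd12 zd43) (kd xd8 yd50 zd28) (kd xd3 yd6 zd26) (kd xd12 yd12 zd49) (kd xd3 yd6 zd27) (kd xd3 yd8 zd14) (kd xd3 yd12 zd35) (kd xd12 yd12 zd57) (kd xd12 yd12 zd60) (kd xd3 yd6 zd29) (kd xd6 yd37 zd3) (kd xd10 yd53 zd23) (kd xd12 yd13 zd2) (kd xd3 yd6 zd30) (kd xd6 yd21 zd57) (kd xd12 yd4 zd51) (kd xd3 yd6 zd31) (kd xd6 yd26 zd51) (kd xd6 yd49 zd45) (kd xd12 yd13 zd11) (kd xd3 yd6 zd33) (kd xd12 yd13 zd13) (kd xd4 yd18 zd27) (kd xd12 yd13 zd18) (kd xd3 yd22 zd39) (kd xd12 yd13 zd21) (kd xd12 yd13 zd22) (kd xd12 yd13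 zd26) (kd xd3 yd6 zd38) (kd xd12 yd12 zd11) (kd xd6 yd47 zd29) (kd xd6 yd19 zd54) (kd xd6 yd20 zd23) (kd xd12 yd13 zd36) (kd xd3 yd6 zd46) (kd xd12 yd13 zd38) (kd xd9 yd18 zd52) (kd xd9 yd18 zd53) (kd xd6 yd23 zd20) (kd xd12 yd13 zd46) (kd xd3 yd6 zd50) (kd xd12 yd13 zd51)) (@D3.rec (fun _ => Pt) (kd xd7 yd1 zd57) (kd xd3 yd23 zd10) (kd xd3 yd6 zd56) (kd xd12 yd13 zd54) (kd xd9 yd21 zd58) (kd xd3 yd6 zd57) (kd xd6 yd21 zd58) (kd xd12 yd13 zd55) (kd xd6 yd19 zd55) (kd xd12 yd13 zd57) (kd xd12 yd13 zd58) (kd xd3 yd7 zd0) (kd xd8 yd34 zd49) (kd xd3 yd7 zd1) (kd xd3 yd7 zd60) (kd xd12 yd13 zd61) (kd xd3 yd7 zd3) (kd xd3 yd8 zd1) (kd xd10 yd18 zd61) (kd xd10 yd53 zd4) (kd xd9 yd31 zd40) (kd xd3 yd7 zd7) (kd xd12 yd14 zd6) (kd xd10 yd52 zd59) (kd xd6 yd28 zd17) (kd xd6 yd28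 zd18) (kd xd6 yd19 zd60) (kd xd3 yd45 zd29) (kd xd12 yd14 zd11) (kd xd6 yd17 zd52) (kd xd12 yd14 zd14) (kd xd3 yd7 zd14) (kd xd6 yd23 zd2) (kd xd12 yd14 zd17) (kd xd11 yd36 zd4) (kd xd11 yd36 zd5) (kd xd3 yd7 zd17) (kd xd12 yd14 zd22) (kd xd12 yd14 zd24) (kd xd9 yd1 zd11) (kd xd11 yd10 zd26) (kd xd3 yd7 zd19) (kd xd11 yd10 zd40) (kd xd12 yd14 zd29) (kd xd5 yd30 zd45) (kd xd3 yd7 zd20) (kd xd5 yd30 zd58) (kd xd11 yd31 zd42) (kd xd8 yd35 zd40) (kd xd3 yd7 zd27) (kd xd6 yd38 zd37) (kd xd12 yd14 zd4) (kd xd12 yd14 zd35) (kd xd3 yd7 zd29) (kd xd6 yd18 zd51) (kd xd6 yd19 zd8) (kd xd4 yd44 zd37) (kd xd12 yd14 zd39) (kd xd3 yd7 zd32) (kd xd12 yd14 zd42) (kd xd6 yd19 zd26) (kd xd6 yd35 zd38)) (@D3.rec (fun _ => Pt) (kd xd12 yd14 zd47) (kd xd4 yd50 zd11) (kd xd4 yd42 zd21) (kd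 xd3 yd7 zd36) (kd xd12 yd14 zd53) (kd xd9 yd19 zd22) (kd xd6 yd29 zd13) (kd xd3 yd16 zd40) (kd xd7 yd30 zd57) (kd xd7 yd31 zd20) (kd xd6 yd1 zd20) (kd xd3 yd7 zd39) (kd xd12 yd15 zd2) (kd xd12 yd15 zd5) (kd xd3 yd7 zd41) (kd xd3 yd20 zd18) (kd xd3 yd20 zd19) (kd xd12 yd15 zd10) (kd xd4 yd50 zd15) (kd xd3 yd7 zd44) (kd xd12 yd15 zd16) (kd xd4 yd43 zd54) (kd xd12 yd15 zd19) (kd xd6 yd18 zd52) (kd xd11 yd31 zd36) (kd xd11 yd31 zd37) (kd xd3 yd7 zd47) (kd xd12 yd15 zd26) (kd xd11 yd10 zd25) (kd xd8 yd24 zd56) (kd xd5 yd4 zd47) (kd xd12 yd15 zd34) (kd xd3 yd7 zd49) (kd xd6 yd29 zd2) (kd xd4 yd43 zd55) (kd xd3 yd7 zd51) (kd xd4 yd11 zd51) (kd xd12 yd15 zd38) (kd xd12 yd15 zd39) (kd xd3 yd7 zd52) (kd xd6 yd28 zd14) (kd xd12 yd14 zd5) (kd xd3 yd7 zd53) (kd xd5 yd11 zd52) (kd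 xd8 yd23 zd38) (kd xd12 yd15 zd45) (kd xd12 yd15 zd47) (kd xd3 yd7 zd56) (kd xd12 yd15 zd52) (kd xd3 yd7 zd57) (kd xd6 yd28 zd37) (kd xd4 yd43 zd4) (kd xd3 yd7 zd61) (kd xd3 yd11 zd60) (kd xd3 yd8 zd4) (kd xd12 yd15 zd58) (kd xd6 yd20 zd56) (kd xd5 yd5 zd49) (kd xd4 yd12 zd1) (kd xd12 yd16 zd1) (kd xd4 yd43 zd7) (kd xd6 yd28 zd49)) (@D3.rec (fun _ => Pt) (kd xd6 yd28 zd29) (kd xd9 yd57 zd38) (kd xd9 yd58 zd16) (kd xd9 yd39 zd38) (kd xd11 yd43 zd15) (kd xd3 yd8 zd12) (kd xd3 yd8 zd13) (kd xd12 yd12 zd51) (kd xd3 yd16 zd30) (kd xd12 yd16 zd20) (kd xd3 yd8 zd16) (kd xd12 yd16 zd25) (kd xd12 yd16 zd27) (kd xd3 yd8 zd17) (kd xd9 yd20 zd41) (kd xd9 yd20 zd42) (kd xd12 yd16 zd37) (kd xd3 yd8 zd19) (kd xd3 yd9 zd12) (kd xd12 yd16 zd41) (kd xd3 yd8 zd22) (kd xd10 yd13 zd25)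 (kd xd12 yd16 zd44) (kd xd3 yd8 zd24) (kd xd12 yd16 zd47) (kd xd3 yd8 zd25) (kd xd12 yd16 zd50) (kd xd12 yd16 zd51) (kd xd3 yd8 zd26) (kd xd6 yd34 zd41) (kd xd3 yd45 zd25) (kd xd3 yd45 zd26) (kd xd12 yd17 zd0) (kd xd4 yd43 zd51) (kd xd6 yd29 zd57) (kd xd6 yd29 zd58) (kd xd12 yd17 zd4) (kd xd12 yd17 zd5) (kd xd3 yd8 zd29) (kd xd5 yd52 zd53) (kd xd4 yd41 zd15) (kd xd5 yd51 zd56) (kd xd12 yd17 zd10) (kd xd12 yd15 zd36) (kd xd12 yd17 zd12) (kd xd12 yd17 zd14) (kd xd12 yd17 zd18) (kd xd3 yd8 zd34) (kd xd12 yd2 zd2) (kd xd12 yd17 zd22) (kd xd3 yd8 zd37) (kd xd5 yd51 zd36) (kd xd3 yd8 zd38) (kd xd12 yd17 zd27) (kd xd12 yd17 zd29) (kd xd11 yd28 zd25) (kd xd3 yd8 zd39) (kd xd6 yd18 zd34) (kd xd6 yd19 zd6) (kd xd12 yd17 zd38) (kd xd8 yd25 zd43) (kd xd6 yd27 zd42)) (@D3.rec (fun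 _ => Pt) (kd xd3 yd8 zd41) (kd xd12 yd17 zd45) (kd xd5 yd54 zd28) (kd xd12 yd9 zd43) (kd xd6 yd3 zd35) (kd xd4 yd6 zd4) (kd xd3 yd8 zd44) (kd xd12 yd17 zd52) (kd xd3 yd8 zd45) (kd xd9 yd14 zd29) (kd xd10 yd0 zd24) (kd xd6 yd58 zd60) (kd xd12 yd17 zd57) (kd xd12 yd17 zd59) (kd xd3 yd8 zd49) (kd xd3 yd25 zd0) (kd xd12 yd18 zd0) (kd xd12 yd18 zd4) (kd xd3 yd8 zd52) (kd xd12 yd18 zd8) (kd xd3 yd8 zd53) (kd xd4 yd55 zd50) (kd xd3 yd8 zd54) (kd xd12 yd18 zd16) (kd xd12 yd18 zd19) (kd xd12 yd18 zd20) (kd xd3 yd8 zd55) (kd xd3 yd19 zd27) (kd xd3 yd19 zd29) (kd xd9 yd13 zd43) (kd xd3 yd9 zd27) (kd xd3 yd8 zd57) (kd xd12 yd18 zd33) (kd xd12 yd18 zd35) (kd xd6 yd27 zd54) (kd xd12 yd18 zd39) (kd xd12 yd18 zd41) (kd xd12 yd18 zd45) (kd xd3 yd8 zd61) (kd xd6 yd27 zd44) (kd xd6 yd27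 zd45) (kd xd9 yd18 zd54) (kd xd9 yd56 zd20) (kd xd5 yd4 zd20) (kd xd5 yd3 zd59) (kd xd12 yd18 zd60) (kd xd6 yd50 zd59) (kd xd3 yd44 zd24) (kd xd6 yd22 zd48) (kd xd12 yd19 zd5) (kd xd6 yd27 zd32) (kd xd12 yd19 zd8) (kd xd12 yd19 zd10) (kd xd12 yd19 zd15) (kd xd3 yd9 zd7) (kd xd12 yd19 zd22) (kd xd12 yd19 zd25) (kd xd12 yd19 zd27) (kd xd6 yd22 zd58) (kd xd6 yd27 zd59) (kd xd6 yd27 zd60) (kd xd9 yd19 zd2)) (@D3.rec (fun _ => Pt) (kd xd12 yd19 zd37) (kd xd3 yd12 zd10) (kd xd6 yd19 zd32) (kd xd3 yd9 zd10) (kd xd3 yd18 zd32) (kd xd4 yd43 zd56) (kd xd3 yd9 zd11) (kd xd6 yd28 zd58) (kd xd7 yd5 zd25) (kd xd3 yd22 zd53) (kd xd12 yd19 zd17) (kd xd12 yd19 zd18) (kd xd12 yd19 zd53) (kd xd3 yd9 zd15) (kd xd12 yd19 zd58) (kd xd6 yd30 zd16) (kd xd6 yd30 zd17) (kd xd3 yd23 zd55) (kd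 xd9 yd19 zd0) (kd xd9 yd19 zd1) (kd xd6 yd18 zd58) (kd xd12 yd20 zd7) (kd xd3 yd9 zd18) (kd xd9 yd46 zd35) (kd xd4 yd42 zd23) (kd xd3 yd11 zd56) (kd xd4 yd42 zd25) (kd xd12 yd20 zd14) (kd xd12 yd20 zd18) (kd xd3 yd9 zd22) (kd xd6 yd44 zd26) (kd xd4 yd42 zd24) (kd xd12 yd20 zd28) (kd xd10 yd26 zd49) (kd xd3 yd9 zd23) (kd xd12 yd20 zd34) (kd xd3 yd9 zd24) (kd xd8 yd24 zd36) (kd xd8 yd24 zd37) (kd xd10 yd12 zd45) (kd xd12 yd18 zd24) (kd xd9 yd14 zd36) (kd xd10 yd55 zd32) (kd xd12 yd18 zd30) (kd xd12 yd4 zd9) (kd xd12 yd20 zd52) (kd xd3 yd9 zd28) (kd xd8 yd22 zd59) (kd xd12 yd4 zd3) (kd xd8 yd23 zd0) (kd xd12 yd20 zd56) (kd xd8 yd35 zd27) (kd xd3 yd9 zd32) (kd xd12 yd20 zd58) (kd xd9 yd28 zd24) (kd xd9 yd28 zd25) (kd xd12 yd21 zd3) (kd xd3 yd9 zd34) (kd xd12 yd21 zd7) (kd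 xd6 yd13 zd1) (kd xd6 yd13 zd2) (kd xd7 yd11 zd43)) (@D3.rec (fun _ => Pt) (kd xd9 yd56 zd16) (kd xd5 yd11 zd27) (kd xd4 yd53 zd41) (kd xd3 yd39 zd43) (kd xd6 yd24 zd4) (kd xd6 yd59 zd40) (kd xd12 yd21 zd28) (kd xd3 yd9 zd42) (kd xd12 yd21 zd33) (kd xd12 yd21 zd36) (kd xd8 yd35 zd52) (kd xd6 yd24 zd11) (kd xd4 yd50 zd27) (kd xd4 yd50 zd28) (kd xd9 yd19 zd20) (kd xd3 yd20 zd44) (kd xd6 yd49 zd7) (kd xd9 yd37 zd27) (kd xd3 yd9 zd46) (kd xd9 yd32 zd44) (kd xd6 yd28 zd27) (kd xd12 yd21 zd54) (kd xd12 yd21 zd56) (kd xd8 yd10 zd44) (kd xd3 yd9 zd50) (kd xd8 yd38 zd61) (kd xd9 yd47 zd34) (kd xd3 yd16 zd31) (kd xd12 yd21 zd61) (kd xd3 yd9 zd53) (kd xd12 yd22 zd1) (kd xd3 yd9 zd54) (kd xd12 yd22 zd4) (kd xd11 yd48 zd60) (kd xd4 yd27 zd22) (kd xd3 yd9 zd56) (kd xd12 yd22 zd5)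 (kd xd9 yd12 zd56) (kd xd11 yd23 zd46) (kd xd3 yd9 zd58) (kd xd12 yd22 zd14) (kd xd12 yd22 zd18) (kd xd11 yd7 zd43) (kd xd3 yd9 zd59) (kd xd12 yd22 zd24) (kd xd3 yd9 zd60) (kd xd12 yd22 zd26) (kd xd12 yd22 zd29) (kd xd3 yd10 zd0) (kd xd8 yd47 zd23) (kd xd12 yd22 zd37) (kd xd3 yd10 zd1) (kd xd12 yd22 zd42) (kd xd12 yd22 zd45) (kd xd12 yd22 zd49) (kd xd3 yd10 zd3) (kd xd3 yd40 zd48) (kd xd8 yd39 zd4) (kd xd3 yd42 zd14) (kd xd12 yd22 zd60) (kd xd3 yd54 zd8) (kd xd3 yd54 zd9)) (@D3.rec (fun _ => Pt) (kd xd7 yd12 zd2) (kd xd3 yd44 zd0) (kd xd8 yd38 zd53) (kd xd3 yd59 zd28) (kd xd4 yd25 zd40) (kd xd11 yd49 zd0) (kd xd10 yd16 zd16) (kd xd12 yd2 zd10) (kd xd12 yd1 zd52) (kd xd12 yd23 zd20) (kd xd12 yd23 zd23) (kd xd10 yd17 zd15) (kd xd4 yd59 zd24) (kd xd9 yd39 zd22) (kd xd3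 yd10 zd16) (kd xd6 yd38 zd52) (kd xd3 yd10 zd17) (kd xd12 yd23 zd29) (kd xd9 yd4 zd14) (kd xd3 yd10 zd18) (kd xd12 yd23 zd34) (kd xd12 yd23 zd36) (kd xd12 yd23 zd37) (kd xd5 yd45 zd31) (kd xd12 yd23 zd41) (kd xd4 yd33 zd14) (kd xd12 yd10 zd38) (kd xd4 yd30 zd39) (kd xd4 yd30 zd40) (kd xd3 yd33 zd36) (kd xd6 yd17 zd10) (kd xd5 yd49 zd21) (kd xd4 yd1 zd18) (kd xd4 yd52 zd53) (kd xd3 yd41 zd17) (kd xd8 yd43 zd61) (kd xd3 yd10 zd29) (kd xd3 yd40 zd28) (kd xd4 yd17 zd54) (kd xd6 yd10 zd16) (kd xd6 yd30 zd27) (kd xd5 yd30 zd55) (kd xd5 yd30 zd53) (kd xd4 yd17 zd52) (kd xd6 yd2 zd34) (kd xd5 yd12 zd21) (kd xd9 yd58 zd53) (kd xd5 yd3 zd55) (kd xd11 yd30 zd21) (kd xd6 yd50 zd14) (kd xd3 yd59 zd39) (kd xd5 yd51 zd44) (kd xd12 yd24 zd3) (kd xd3 yd10 zd44) (kd xd11 yd30 zd55) (kd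 xd11 yd30 zd56) (kd xd10 yd19 zd3) (kd xd11 yd26 zd5) (kd xd3 yd22 zd59) (kd xd12 yd24 zd9) (kd xd12 yd3 zd34) (kd xd4 yd35 zd42)) (@D3.rec (fun _ => Pt) (kd xd9 yd31 zd22) (kd xd9 yd13 zd41) (kd xd9 yd4 zd38) (kd xd11 yd21 zd10) (kd xd5 yd37 zd16) (kd xd6 yd30 zd19) (kd xd12 yd2 zd1) (kd xd12 yd15 zd12) (kd xd12 yd15 zd13) (kd xd10 yd12 zd42) (kd xd7 yd20 zd59) (kd xd3 yd10 zd56) (kd xd5 yd2 zd41) (kd xd5 yd5 zd45) (kd xd10 yd12 zd47) (kd xd12 yd1 zd6) (kd xd3 yd13 zd19) (kd xd10 yd12 zd50) (kd xd3 yd25 zd3) (kd xd11 yd59 zd57) (kd xd9 yd56 zd21) (kd xd9 yd56 zd17) (kd xd12 yd24 zd42) (kd xd12 yd24 zd46) (kd xd10 yd12 zd41) (kd xd12 yd24 zd47) (kd xd12 yd24 zd48) (kd xd3 yd11 zd7) (kd xd12 yd24 zd52) (kd xd3 yd11 zd8) (kd xd9 yd20 zd38) (kd xd9 yd20 zd39) (kd xd12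 yd24 zd61) (kd xd12 yd25 zd2) (kd xd12 yd25 zd3) (kd xd3 yd11 zd10) (kd xd5 yd51 zd41) (kd xd12 yd25 zd10) (kd xd12 yd25 zd12) (kd xd11 yd12 zd16) (kd xd11 yd12 zd13) (kd xd12 yd25 zd18) (kd xd3 yd11 zd14) (kd xd12 yd25 zd20) (kd xd3 yd11 zd15) (kd xd12 yd25 zd23) (kd xd3 yd11 zd16) (kd xd3 yd45 zd22) (kd xd12 yd25 zd25) (kd xd3 yd11 zd17) (kd xd12 yd2 zd36) (kd xd6 yd18 zd37) (kd xd12 yd25 zd34) (kd xd3 yd22 zd42) (kd xd3 yd11 zd19) (kd xd10 yd57 zd15) (kd xd12 yd25 zd35) (kd xd3 yd11 zd20) (kd xd12 yd25 zd43) (kd xd11 yd14 zd39) (kd xd12 yd25 zd45) (kd xd3 yd11 zd22)) (@D3.rec (fun _ => Pt) (kd xd12 yd25 zd48) (kd xd3 yd11 zd23) (kd xd3 yd21 zd28) (kd xd12 yd25 zd51) (kd xd12 yd25 zd54) (kd xd3 yd11 zd25) (kd xd8 yd25 zd1) (kd xd11 yd14 zd53) (kd xd11 yd15 zd1) (kd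 xd6 yd29 zd53) (kd xd7 yd25 zd57) (kd xd6 yd29 zd60) (kd xd12 yd26 zd1) (kd xd3 yd11 zd30) (kd xd10 yd0 zd23) (kd xd11 yd12 zd19) (kd xd9 yd0 zd18) (kd xd11 yd48 zd46) (kd xd3 yd11 zd33) (kd xd9 yd56 zd13) (kd xd12 yd26 zd15) (kd xd12 yd26 zd19) (kd xd12 yd26 zd21) (kd xd3 yd11 zd34) (kd xd12 yd26 zd25) (kd xd3 yd20 zd1) (kd xd3 yd20 zd4) (kd xd3 yd11 zd36) (kd xd3 yd11 zd38) (kd xd6 yd58 zd6) (kd xd3 yd12 zd47) (kd xd7 yd29 zd48) (kd xd6 yd22 zd50) (kd xd3 yd28 zd27) (kd xd7 yd29 zd45) (kd xd3 yd23 zd2) (kd xd7 yd29 zd51) (kd xd7 yd29 zd50) (kd xd12 yd26 zd42) (kd xd3 yd11 zd42) (kd xd12 yd26 zd45) (kd xd3 yd39 zd57) (kd xd6 yd21 zd61) (kd xd3 yd12 zd52) (kd xd6 yd22 zd39) (kd xd6 yd22 zd40) (kd xd6 yd27 zd61) (kd xd12 yd26 zd58) (kd xd3 yd11 zd45) (kd xd12 yd26 zd60)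 (kd xd12 yd13 zd29) (kd xd12 yd27 zd1) (kd xd3 yd22 zd37) (kd xd12 yd27 zd3) (kd xd6 yd22 zd34) (kd xd12 yd27 zd7) (kd xd12 yd27 zd10) (kd xd12 yd27 zd14) (kd xd3 yd11 zd52) (kd xd6 yd22 zd59) (kd xd6 yd22 zd60) (kd xd6 yd27 zd46)) (@D3.rec (fun _ => Pt) (kd xd9 yd20 zd32) (kd xd12 yd27 zd26) (kd xd5 yd7 zd47) (kd xd9 yd20 zd34) (kd xd12 yd27 zd32) (kd xd8 yd25 zd42) (kd xd11 yd51 zd14) (kd xd12 yd27 zd36) (kd xd3 yd11 zd58) (kd xd10 yd51 zd3) (kd xd5 yd3 zd58) (kd xd12 yd27 zd41) (kd xd12 yd27 zd44) (kd xd10 yd0 zd40) (kd xd6 yd20 zd40) (kd xd10 yd27 zd49) (kd xd4 yd10 zd57) (kd xd6 yd19 zd24) (kd xd6 yd19 zd25) (kd xd6 yd47 zd0) (kd xd5 yd14 zd46) (kd xd12 yd19 zd39) (kd xd3 yd15 zd57) (kd xd3 yd17 zd0) (kd xd6 yd12 zd52) (kd xd12 yd14 zd51) (kd xd12 yd14 zd52) (kd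 xd6 yd24 zd20) (kd xd12 yd15 zd14) (kd xd6 yd21 zd0) (kd xd12 yd15 zd15) (kd xd8 yd23 zd25) (kd xd9 yd24 zd4) (kd xd9 yd28 zd41) (kd xd12 yd15 zd40) (kd xd12 yd15 zd41) (kd xd3 yd12 zd16) (kd xd6 yd20 zd50) (kd xd6 yd10 zd40) (kd xd3 yd16 zd10) (kd xd3 yd12 zd17) (kd xd12 yd28 zd6) (kd xd12 yd28 zd9) (kd xd12 yd15 zd44) (kd xd6 yd45 zd53) (kd xd3 yd12 zd19) (kd xd12 yd28 zd14) (kd xd11 yd10 zd24) (kd xd9 yd32 zd35) (kd xd6 yd20 zd61) (kd xd3 yd15 zd30) (kd xd7 yd31 zd22) (kd xd4 yd37 zd55) (kd xd5 yd57 zd31) (kd xd3 yd12 zd24) (kd xd12 yd28 zd20) (kd xd6 yd29 zd51) (kd xd3 yd12 zd26) (kd xd6 yd23 zd7) (kd xd5 yd51 zd14) (kd xd9 yd9 zd20) (kd xd12 yd28 zd24)) (@D3.rec (fun _ => Pt) (kd xd11 yd51 zd5) (kd xd3 yd12 zd29) (kd xd6 yd20 zd33) (kd xd12 yd28 zd30) (kd xd3 yd12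 zd30) (kd xd11 yd56 zd18) (kd xd12 yd28 zd33) (kd xd12 yd28 zd35) (kd xd3 yd12 zd31) (kd xd8 yd34 zd11) (kd xd12 yd28 zd42) (kd xd3 yd12 zd32) (kd xd10 yd44 zd25) (kd xd6 yd20 zd6) (kd xd5 yd4 zd44) (kd xd4 yd10 zd24) (kd xd12 yd12 zd53) (kd xd12 yd28 zd51) (kd xd3 yd45 zd20) (kd xd3 yd45 zd21) (kd xd6 yd48 zd60) (kd xd3 yd16 zd28) (kd xd3 yd16 zd3) (kd xd12 yd28 zd58) (kd xd12 yd28 zd61) (kd xd12 yd29 zd2) (kd xd3 yd12 zd38) (kd xd12 yd29 zd4) (kd xd12 yd0 zd3) (kd xd3 yd18 zd14) (kd xd12 yd16 zd12) (kd xd5 yd6 zd34) (kd xd3 yd18 zd15) (kd xd9 yd18 zd38) (kd xd6 yd51 zd55) (kd xd12 yd29 zd11) (kd xd12 yd17 zd35) (kd xd12 yd16 zd57) (kd xd12 yd26 zd33) (kd xd12 yd29 zd14) (kd xd12 yd29 zd15) (kd xd12 yd29 zd17) (kd xd3 yd12 zd49) (kd xd12 yd29 zd21) (kd xd8 yd59 zd40)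 (kd xd3 yd12 zd50) (kd xd12 yd15 zd48) (kd xd10 yd59 zd1) (kd xd3 yd12 zd51) (kd xd7 yd20 zd3) (kd xd12 yd4 zd58) (kd xd6 yd28 zd56) (kd xd3 yd12 zd57) (kd xd6 yd27 zd9) (kd xd12 yd29 zd31) (kd xd3 yd12 zd58) (kd xd12 yd29 zd38) (kd xd6 yd21 zd34) (kd xd6 yd21 zd35) (kd xd12 yd1 zd46) (kd xd6 yd27 zd11) (kd xd9 yd20 zd11)) (@D3.rec (fun _ => Pt) (kd xd9 yd20 zd12) (kd xd4 yd43 zd33) (kd xd12 yd29 zd43) (kd xd5 yd32 zd40) (kd xd5 yd32 zd44) (kd xd5 yd48 zd52) (kd xd9 yd6 zd52) (kd xd11 yd21 zd53) (kd xd3 yd13 zd8) (kd xd12 yd29 zd52) (kd xd11 yd50 zd26) (kd xd3 yd13 zd9) (kd xd9 yd29 zd23) (kd xd6 yd50 zd46) (kd xd3 yd23 zd54) (kd xd12 yd29 zd61) (kd xd6 yd23 zd15) (kd xd6 yd23 zd16) (kd xd3 yd13 zd11) (kd xd6 yd26 zd5) (kd xd10 yd43 zd28) (kd xd12 yd30 zd3) (kd xd3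 yd13 zd12) (kd xd9 yd50 zd59) (kd xd3 yd59 zd13) (kd xd8 yd0 zd56) (kd xd12 yd14 zd49) (kd xd6 yd25 zd40) (kd xd8 yd34 zd44) (kd xd9 yd18 zd28) (kd xd9 yd18 zd29) (kd xd4 yd42 zd10) (kd xd3 yd23 zd34) (kd xd9 yd6 zd5) (kd xd4 yd41 zd44) (kd xd6 yd8 zd57) (kd xd5 yd50 zd33) (kd xd10 yd19 zd2) (kd xd8 yd0 zd37) (kd xd3 yd13 zd26) (kd xd9 yd32 zd18) (kd xd9 yd32 zd19) (kd xd3 yd44 zd53) (kd xd3 yd13 zd31) (kd xd7 yd25 zd34) (kd xd12 yd30 zd21) (kd xd3 yd13 zd33) (kd xd12 yd30 zd22) (kd xd3 yd13 zd34) (kd xd11 yd43 zd14) (kd xd9 yd9 zd47) (kd xd12 yd30 zd27) (kd xd3 yd13 zd53) (kd xd3 yd13 zd54) (kd xd11 yd47 zd51) (kd xd3 yd13 zd37) (kd xd11 yd20 zd37) (kd xd12 yd30 zd33) (kd xd3 yd13 zd38) (kd xd12 yd4 zd15) (kd xd12 yd30 zd37) (kd xd3 yd13 zd40)) (@D3.rec (fun _ => Pt)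 (kd xd7 yd19 zd58) (kd xd12 yd30 zd41) (kd xd12 yd30 zd43) (kd xd12 yd30 zd46) (kd xd3 yd13 zd42) (kd xd12 yd30 zd50) (kd xd3 yd13 zd43) (kd xd10 yd18 zd47) (kd xd12 yd30 zd51) (kd xd4 yd41 zd35) (kd xd7 yd49 zd60) (kd xd7 yd49 zd61) (kd xd12 yd30 zd60) (kd xd10 yd52 zd17) (kd xd3 yd13 zd49) (kd xd12 yd31 zd3) (kd xd3 yd13 zd50) (kd xd4 yd48 zd26) (kd xd12 yd31 zd4) (kd xd11 yd23 zd59) (kd xd11 yd21 zd14) (kd xd5 yd46 zd26) (kd xd4 yd26 zd16) (kd xd3 yd13 zd55) (kd xd11 yd57 zd60) (kd xd3 yd39 zd56) (kd xd3 yd39 zd55) (kd xd11 yd57 zd61) (kd xd10 yd18 zd45) (kd xd5 yd8 zd6) (kd xd5 yd57 zd44) (kd xd12 yd31 zd16) (kd xd11 yd10 zd47) (kd xd6 yd41 zd61) (kd xd11 yd16 zd30) (kd xd9 yd4 zd45) (kd xd9 yd18 zd0) (kd xd5 yd56 zd34) (kd xd11 yd29 zd8) (kd xd11 yd46 zd45) (kd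 xd9 yd47 zd44) (kd xd3 yd14 zd1) (kd xd9 yd27 zd58) (kd xd12 yd31 zd23) (kd xd3 yd14 zd3) (kd xd12 yd31 zd26) (kd xd9 yd24 zd40) (kd xd12 yd31 zd30) (kd xd3 yd14 zd4) (kd xd12 yd31 zd37) (kd xd12 yd31 zd38) (kd xd3 yd14 zd6) (kd xd12 yd22 zd2) (kd xd12 yd9 zd27) (kd xd8 yd50 zd45) (kd xd3 yd14 zd7) (kd xd12 yd31 zd41) (kd xd4 yd59 zd18) (kd xd3 yd14 zd9) (kd xd12 yd24 zd5) (kd xd3 yd19 zd1) (kd xd12 yd31 zd48)) (@D3.rec (fun _ => Pt) (kd xd3 yd19 zd3) (kd xd12 yd31 zd51) (kd xd12 yd31 zd55) (kd xd3 yd14 zd12) (kd xd12 yd31 zd59) (kd xd12 yd32 zd0) (kd xd3 yd14 zd13) (kd xd12 yd32 zd4) (kd xd3 yd14 zd14) (kd xd8 yd56 zd16) (kd xd9 yd32 zd32) (kd xd9 yd20 zd37) (kd xd12 yd32 zd12) (kd xd3 yd14 zd16) (kd xd3 yd14 zd17) (kd xd4 yd13 zd21) (kd xd12 yd32 zd16) (kd xd3 yd14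 zd18) (kd xd12 yd32 zd21) (kd xd4 yd49 zd59) (kd xd12 yd32 zd23) (kd xd12 yd12 zd1) (kd xd3 yd14 zd20) (kd xd4 yd48 zd25) (kd xd11 yd9 zd56) (kd xd3 yd14 zd21) (kd xd11 yd9 zd49) (kd xd12 yd32 zd29) (kd xd3 yd14 zd23) (kd xd12 yd32 zd32) (kd xd3 yd14 zd24) (kd xd12 yd32 zd39) (kd xd12 yd32 zd43) (kd xd9 yd20 zd53) (kd xd4 yd46 zd11) (kd xd5 yd57 zd23) (kd xd3 yd14 zd30) (kd xd12 yd32 zd50) (kd xd7 yd31 zd47) (kd xd3 yd14 zd32) (kd xd5 yd57 zd24) (kd xd12 yd32 zd54) (kd xd4 yd47 zd4) (kd xd12 yd0 zd4) (kd xd7 yd35 zd51) (kd xd12 yd11 zd27) (kd xd12 yd32 zd58) (kd xd3 yd14 zd38) (kd xd12 yd33 zd0) (kd xd3 yd14 zd39) (kd xd12 yd33 zd3) (kd xd3 yd14 zd40) (kd xd12 yd33 zd6) (kd xd3 yd27 zd0) (kd xd3 yd26 zd61) (kd xd3 yd14 zd42) (kd xd12 yd33 zd11) (kd xd10 yd25 zd40) (kd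 xd3 yd14 zd44) (kd xd9 yd16 zd61) (kd xd5 yd29 zd47) (kd xd12 yd0 zd29)) (@D3.rec (fun _ => Pt) (kd xd6 yd33 zd2) (kd xd12 yd33 zd20) (kd xd6 yd33 zd0) (kd xd12 yd33 zd23) (kd xd12 yd33 zd26) (kd xd12 yd33 zd30) (kd xd3 yd14 zd48) (kd xd3 yd47 zd30) (kd xd3 yd47 zd34) (kd xd3 yd14 zd49) (kd xd9 yd16 zd13) (kd xd7 yd30 zd43) (kd xd12 yd33 zd44) (kd xd12 yd33 zd46) (kd xd3 yd14 zd53) (kd xd9 yd41 zd46) (kd xd12 yd33 zd49) (kd xd3 yd14 zd54) (kd xd10 yd50 zd26) (kd xd11 yd16 zd19) (kd xd3 yd14 zd57) (kd xd6 yd40 zd8) (kd xd7 yd1 zd49) (kd xd7 yd1 zd33) (kd xd12 yd33 zd59) (kd xd12 yd34 zd0) (kd xd9 yd23 zd35) (kd xd9 yd23 zd36) (kd xd3 yd14 zd61) (kd xd11 yd32 zd19) (kd xd3 yd15 zd1) (kd xd4 yd29 zd11) (kd xd3 yd15 zd2) (kd xd12 yd34 zd6) (kd xd12 yd34 zd9) (kd xd12 yd34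 zd11) (kd xd9 yd22 zd42) (kd xd3 yd15 zd5) (kd xd6 yd38 zd34) (kd xd7 yd2 zd6) (kd xd7 yd2 zd7) (kd xd12 yd34 zd21) (kd xd3 yd15 zd8) (kd xd12 yd34 zd24) (kd xd12 yd34 zd26) (kd xd4 yd17 zd50) (kd xd12 yd34 zd27) (kd xd3 yd15 zd10) (kd xd12 yd1 zd26) (kd xd12 yd34 zd31) (kd xd3 yd15 zd12) (kd xd12 yd34 zd36) (kd xd3 yd15 zd13) (kd xd3 yd15 zd14) (kd xd5 yd5 zd40) (kd xd11 yd37 zd30) (kd xd11 yd37 zd31) (kd xd8 yd45 zd44) (kd xd6 yd47 zd60) (kd xd12 yd34 zd46) (kd xd3 yd15 zd18) (kd xd3 yd15 zd19)) (@D3.rec (fun _ => Pt) (kd xd7 yd16 zd37) (kd xd7 yd9 zd8) (kd xd6 yd34 zd2) (kd xd7 yd12 zd26) (kd xd3 yd51 zd56) (kd xd6 yd10 zd42) (kd xd7 yd31 zd13) (kd xd3 yd51 zd14) (kd xd12 yd34 zd56) (kd xd3 yd15 zd24) (kd xd3 yd15 zd25) (kd xd7 yd15 zd34) (kd xd12 yd34 zd59) (kd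 xd12 yd28 zd16) (kd xd3 yd15 zd27) (kd xd12 yd35 zd3) (kd xd12 yd35 zd5) (kd xd3 yd15 zd29) (kd xd9 yd20 zd44) (kd xd9 yd10 zd0) (kd xd7 yd40 zd58) (kd xd3 yd15 zd32) (kd xd12 yd35 zd10) (kd xd9 yd7 zd15) (kd xd12 yd35 zd12) (kd xd6 yd47 zd59) (kd xd12 yd24 zd18) (kd xd12 yd35 zd17) (kd xd3 yd15 zd35) (kd xd3 yd16 zd38) (kd xd12 yd35 zd22) (kd xd12 yd35 zd26) (kd xd12 yd35 zd28) (kd xd12 yd35 zd31) (kd xd3 yd15 zd38) (kd xd12 yd35 zd36) (kd xd3 yd15 zd39) (kd xd6 yd37 zd56) (kd xd8 yd25 zd37) (kd xd3 yd15 zd40) (kd xd12 yd35 zd46) (kd xd6 yd21 zd29) (kd xd12 yd29 zd27) (kd xd12 yd35 zd54) (kd xd12 yd35 zd57) (kd xd3 yd15 zd42) (kd xd6 yd38 zd48) (kd xd7 yd31 zd46) (kd xd6 yd35 zd32) (kd xd4 yd11 zd17) (kd xd6 yd35 zd46) (kd xd12 yd36 zd3) (kd xd12 yd36 zd1) (kd xd3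 yd15 zd46) (kd xd5 yd51 zd9) (kd xd3 yd51 zd21) (kd xd6 yd57 zd19) (kd xd3 yd15 zd50) (kd xd7 yd31 zd28) (kd xd3 yd15 zd51) (kd xd10 yd12 zd37) (kd xd11 yd37 zd19)) (@D3.rec (fun _ => Pt) (kd xd3 yd17 zd8) (kd xd3 yd17 zd9) (kd xd11 yd48 zd57) (kd xd11 yd17 zd9) (kd xd5 yd44 zd25) (kd xd12 yd36 zd17) (kd xd3 yd15 zd54) (kd xd12 yd36 zd21) (kd xd12 yd36 zd23) (kd xd3 yd15 zd55) (kd xd12 yd36 zd26) (kd xd12 yd27 zd54) (kd xd10 yd53 zd18) (kd xd11 yd48 zd56) (kd xd5 yd56 zd41) (kd xd3 yd15 zd59) (kd xd12 yd36 zd36) (kd xd12 yd36 zd38) (kd xd12 yd36 zd41) (kd xd12 yd36 zd42) (kd xd3 yd15 zd61) (kd xd12 yd36 zd45) (kd xd12 yd36 zd47) (kd xd3 yd16 zd0) (kd xd4 yd44 zd9) (kd xd12 yd36 zd51) (kd xd5 yd56 zd8) (kd xd12 yd36 zd56) (kd xd12 yd36 zd58) (kd xd12 yd36 zd61) (kd xd3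 yd16 zd6) (kd xd12 yd37 zd3) (kd xd6 yd34 zd48) (kd xd12 yd37 zd8) (kd xd3 yd16 zd8) (kd xd3 yd16 zd9) (kd xd12 yd11 zd60) (kd xd6 yd0 zd30) (kd xd6 yd19 zd61) (kd xd12 yd37 zd19) (kd xd12 yd37 zd22) (kd xd3 yd16 zd12) (kd xd10 yd5 zd59) (kd xd12 yd37 zd28) (kd xd3 yd16 zd13) (kd xd12 yd37 zd31) (kd xd6 yd34 zd50) (kd xd12 yd37 zd36) (kd xd3 yd16 zd14) (kd xd12 yd37 zd40) (kd xd3 yd16 zd15) (kd xd12 yd37 zd45) (kd xd12 yd0 zd36) (kd xd12 yd0 zd37) (kd xd12 yd37 zd50) (kd xd12 yd37 zd54) (kd xd12 yd37 zd58) (kd xd3 yd16 zd17) (kd xd12 yd37 zd61) (kd xd12 yd38 zd0) (kd xd12 yd38 zd2) (kd xd3 yd16 zd18)) (@D3.rec (fun _ => Pt) (kd xd12 yd38 zd7) (kd xd3 yd16 zd19) (kd xd12 yd38 zd13) (kd xd3 yd16 zd20) (kd xd12 yd38 zd16) (kd xd12 yd28 zd53) (kd xd12 yd2 zd46) (kd xd10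 yd13 zd11) (kd xd3 yd16 zd22) (kd xd12 yd38 zd25) (kd xd12 yd38 zd28) (kd xd3 yd16 zd24) (kd xd10 yd22 zd54) (kd xd12 yd38 zd34) (kd xd3 yd16 zd26) (kd xd12 yd29 zd34) (kd xd11 yd18 zd56) (kd xd12 yd38 zd41) (kd xd9 yd29 zd46) (kd xd3 yd16 zd29) (kd xd11 yd45 zd58) (kd xd10 yd10 zd33) (kd xd11 yd37 zd13) (kd xd11 yd37 zd14) (kd xd5 yd56 zd10) (kd xd10 yd27 zd37) (kd xd12 yd38 zd50) (kd xd12 yd38 zd53) (kd xd3 yd16 zd33) (kd xd12 yd38 zd56) (kd xd12 yd38 zd58) (kd xd3 yd16 zd34) (kd xd12 yd38 zd60) (kd xd3 yd16 zd35) (kd xd6 yd9 zd53) (kd xd12 yd39 zd3) (kd xd3 yd16 zd37) (kd xd12 yd39 zd6) (kd xd12 yd39 zd8) (kd xd12 yd14 zd57) (kd xd3 yd16 zd39) (kd xd9 yd19 zd58) (kd xd12 yd39 zd13) (kd xd3 yd16 zd41) (kd xd9 yd12 zd47) (kd xd12 yd39 zd17) (kd xd12 yd39 zd20) (kd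 xd12 yd39 zd22) (kd xd6 yd17 zd58) (kd xd12 yd39 zd27) (kd xd3 yd16 zd45) (kd xd12 yd39 zd30) (kd xd3 yd45 zd23) (kd xd3 yd50 zd5) (kd xd3 yd45 zd18) (kd xd12 yd39 zd37) (kd xd12 yd39 zd40) (kd xd12 yd39 zd42) (kd xd3 yd16 zd48) (kd xd12 yd39 zd46) (kd xd12 yd39 zd48) (kd xd3 yd16 zd49)) (@D3.rec (fun _ => Pt) (kd xd12 yd39 zd54) (kd xd12 yd13 zd3) (kd xd3 yd16 zd50) (kd xd6 yd18 zd30) (kd xd6 yd18 zd15) (kd xd12 yd40 zd4) (kd xd3 yd16 zd52) (kd xd12 yd40 zd7) (kd xd3 yd16 zd53) (kd xd12 yd0 zd2) (kd xd9 yd21 zd11) (kd xd12 yd40 zd14) (kd xd6 yd10 zd38) (kd xd3 yd16 zd56) (kd xd12 yd40 zd19) (kd xd12 yd40 zd21) (kd xd3 yd16 zd58) (kd xd12 yd40 zd22) (kd xd12 yd40 zd24) (kd xd12 yd40 zd26) (kd xd12 yd40 zd30) (kd xd3 yd16 zd60) (kd xd12 yd40 zd36) (kd xd9 yd11 zd39)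 (kd xd12 yd40 zd39) (kd xd12 yd1 zd11) (kd xd12 yd36 zd4) (kd xd12 yd37 zd33) (kd xd3 yd17 zd2) (kd xd12 yd40 zd47) (kd xd12 yd40 zd49) (kd xd12 yd40 zd50) (kd xd3 yd17 zd4) (kd xd12 yd40 zd51) (kd xd3 yd17 zd5) (kd xd12 yd36 zd9) (kd xd12 yd40 zd54) (kd xd12 yd40 zd56) (kd xd3 yd17 zd10) (kd xd12 yd40 zd61) (kd xd6 yd10 zd29) (kd xd6 yd10 zd30) (kd xd12 yd41 zd4) (kd xd12 yd41 zd8) (kd xd12 yd41 zd10) (kd xd3 yd17 zd12) (kd xd12 yd41 zd15) (kd xd12 yd41 zd17) (kd xd12 yd41 zd20) (kd xd3 yd17 zd13) (kd xd12 yd41 zd25) (kd xd12 yd41 zd27) (kd xd3 yd17 zd14) (kd xd3 yd17 zd15) (kd xd12 yd2 zd54) (kd xd12 yd41 zd36) (kd xd6 yd34 zd37) (kd xd12 yd41 zd44) (kd xd3 yd17 zd17) (kd xd3 yd17 zd18) (kd xd9 yd21 zd38) (kd xd9 yd21 zd39)) (@D3.rec (fun _ => Pt) (kd xd12 yd41 zd54)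 (kd xd9 yd41 zd24) (kd xd3 yd17 zd20) (kd xd5 yd5 zd41) (kd xd12 yd41 zd57) (kd xd12 yd41 zd58) (kd xd3 yd17 zd23) (kd xd12 yd41 zd61) (kd xd12 yd42 zd1) (kd xd12 yd42 zd3) (kd xd12 yd42 zd6) (kd xd3 yd17 zd25) (kd xd12 yd42 zd11) (kd xd5 yd55 zd35) (kd xd7 yd22 zd10) (kd xd3 yd17 zd27) (kd xd12 yd42 zd16) (kd xd12 yd42 zd18) (kd xd7 yd22 zd9) (kd xd3 yd17 zd28) (kd xd12 yd42 zd20) (kd xd12 yd12 zd3) (kd xd12 yd42 zd24) (kd xd12 yd42 zd25) (kd xd12 yd42 zd28) (kd xd12 yd42 zd32) (kd xd12 yd42 zd36) (kd xd3 yd17 zd32) (kd xd12 yd42 zd41) (kd xd12 yd42 zd43) (kd xd12 yd42 zd46) (kd xd3 yd17 zd33) (kd xd12 yd42 zd49) (kd xd12 yd13 zd0) (kd xd6 yd33 zd38) (kd xd12 yd42 zd53) (kd xd3 yd17 zd35) (kd xd6 yd19 zd50) (kd xd12 yd42 zd59) (kd xd12 yd43 zd0) (kd xd12 yd43 zd2)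 (kd xd3 yd17 zd37) (kd xd12 yd43 zd4) (kd xd12 yd43 zd5) (kd xd12 yd43 zd7) (kd xd3 yd17 zd38) (kd xd12 yd43 zd12) (kd xd12 yd41 zd59) (kd xd6 yd34 zd46) (kd xd12 yd43 zd19) (kd xd3 yd17 zd40) (kd xd12 yd40 zd37) (kd xd6 yd25 zd15) (kd xd3 yd17 zd41) (kd xd12 yd43 zd28) (kd xd8 yd0 zd32) (kd xd4 yd37 zd6) (kd xd8 yd49 zd35) (kd xd12 yd43 zd33) (kd xd9 yd38 zd50) (kd xd3 yd17 zd44) (kd xd12 yd43 zd38)) (@D3.rec (fun _ => Pt) (kd xd5 yd55 zd34) (kd xd12 yd43 zd41) (kd xd12 yd43 zd44) (kd xd12 yd43 zd46) (kd xd3 yd17 zd47) (kd xd12 yd43 zd50) (kd xd12 yd43 zd53) (kd xd12 yd43 zd56) (kd xd12 yd43 zd60) (kd xd3 yd17 zd49) (kd xd12 yd44 zd3) (kd xd9 yd15 zd23) (kd xd8 yd48 zd54) (kd xd12 yd44 zd8) (kd xd5 yd49 zd54) (kd xd12 yd44 zd11) (kd xd8 yd49 zd39) (kd xd12 yd44 zd15)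 (kd xd12 yd44 zd18) (kd xd12 yd44 zd21) (kd xd3 yd17 zd53) (kd xd12 yd44 zd26) (kd xd12 yd44 zd28) (kd xd11 yd55 zd13) (kd xd3 yd17 zd54) (kd xd9 yd59 zd35) (kd xd12 yd44 zd38) (kd xd12 yd44 zd40) (kd xd3 yd17 zd55) (kd xd12 yd44 zd45) (kd xd12 yd44 zd49) (kd xd12 yd44 zd53) (kd xd12 yd44 zd58) (kd xd3 yd17 zd57) (kd xd12 yd10 zd10) (kd xd12 yd45 zd2) (kd xd12 yd45 zd4) (kd xd12 yd45 zd5) (kd xd3 yd17 zd59) (kd xd12 yd45 zd10) (kd xd12 yd45 zd11) (kd xd12 yd45 zd14) (kd xd3 yd17 zd60) (kd xd12 yd45 zd17) (kd xd3 yd29 zd0) (kd xd3 yd29 zd1) (kd xd12 yd45 zd22) (kd xd12 yd45 zd24) (kd xd12 yd45 zd26) (kd xd3 yd18 zd0) (kd xd12 yd45 zd31) (kd xd12 yd45 zd33) (kd xd3 yd18 zd1) (kd xd12 yd45 zd36) (kd xd3 yd18 zd2) (kd xd12 yd45 zd39) (kd xd12 yd45 zd42) (kd xd12 yd28 zd43)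 (kd xd12 yd45 zd49) (kd xd3 yd18 zd4) (kd xd12 yd45 zd52) (kd xd12 yd45 zd55)) (@D3.rec (fun _ => Pt) (kd xd12 yd45 zd57) (kd xd3 yd18 zd5) (kd xd12 yd45 zd61) (kd xd12 yd46 zd1) (kd xd12 yd46 zd3) (kd xd3 yd18 zd6) (kd xd5 yd11 zd12) (kd xd3 yd18 zd7) (kd xd6 yd33 zd21) (kd xd12 yd46 zd12) (kd xd5 yd4 zd4) (kd xd9 yd58 zd59) (kd xd5 yd11 zd21) (kd xd12 yd46 zd18) (kd xd12 yd46 zd19) (kd xd3 yd18 zd10) (kd xd3 yd22 zd1) (kd xd3 yd18 zd11) (kd xd10 yd13 zd15) (kd xd12 yd46 zd25) (kd xd12 yd2 zd7) (kd xd3 yd18 zd13) (kd xd9 yd32 zd42) (kd xd12 yd29 zd5) (kd xd5 yd5 zd24) (kd xd12 yd46 zd36) (kd xd10 yd14 zd35) (kd xd10 yd16 zd40) (kd xd12 yd46 zd40) (kd xd12 yd3 zd0) (kd xd12 yd2 zd55) (kd xd12 yd46 zd44) (kd xd3 yd18 zd16) (kd xd10 yd13 zd13) (kd xd12 yd46 zd48) (kd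 xd3 yd18 zd18) (kd xd12 yd46 zd49) (kd xd3 yd18 zd19) (kd xd11 yd50 zd49) (kd xd3 yd18 zd20) (kd xd12 yd2 zd39) (kd xd10 yd14 zd25) (kd xd12 yd46 zd60) (kd xd5 yd16 zd35) (kd xd3 yd18 zd22) (kd xd12 yd47 zd2) (kd xd3 yd18 zd23) (kd xd12 yd47 zd6) (kd xd12 yd47 zd7) (kd xd3 yd18 zd24) (kd xd12 yd28 zd52) (kd xd12 yd2 zd42) (kd xd6 yd58 zd18) (kd xd5 yd13 zd17) (kd xd5 yd13 zd16) (kd xd3 yd18 zd27) (kd xd9 yd56 zd58) (kd xd12 yd35 zd37) (kd xd9 yd18 zd22) (kd xd3 yd18 zd34) (kd xd12 yd21 zd50) (kd xd12 yd19 zd38)) (@D3.rec (fun _ => Pt) (kd xd9 yd56 zd22) (kd xd6 yd10 zd28) (kd xd12 yd47 zd25) (kd xd12 yd47 zd26) (kd xd3 yd18 zd35) (kd xd12 yd47 zd34) (kd xd10 yd22 zd55) (kd xd12 yd47 zd38) (kd xd12 yd1 zd45) (kd xd3 yd18 zd37) (kd xd12 yd29 zd33) (kd xd10 yd9 zd5) (kd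 xd3 yd18 zd38) (kd xd12 yd47 zd45) (kd xd12 yd47 zd46) (kd xd3 yd18 zd42) (kd xd6 yd11 zd22) (kd xd12 yd47 zd52) (kd xd12 yd47 zd53) (kd xd3 yd18 zd44) (kd xd12 yd47 zd55) (kd xd7 yd25 zd29) (kd xd12 yd21 zd21) (kd xd12 yd1 zd21) (kd xd7 yd25 zd55) (kd xd12 yd47 zd59) (kd xd12 yd48 zd0) (kd xd12 yd48 zd3) (kd xd3 yd18 zd48) (kd xd3 yd22 zd47) (kd xd12 yd13 zd28) (kd xd7 yd33 zd52) (kd xd12 yd48 zd12) (kd xd12 yd48 zd16) (kd xd3 yd18 zd50) (kd xd3 yd18 zd51) (kd xd3 yd18 zd52) (kd xd12 yd48 zd23) (kd xd3 yd18 zd53) (kd xd12 yd48 zd26) (kd xd12 yd48 zd31) (kd xd3 yd18 zd54) (kd xd12 yd48 zd33) (kd xd12 yd48 zd37) (kd xd12 yd48 zd40) (kd xd12 yd48 zd42) (kd xd3 yd18 zd55) (kd xd3 yd53 zd36) (kd xd3 yd53 zd38) (kd xd3 yd28 zd20) (kd xd12 yd48 zd7) (kd xd7 yd29 zd12) (kd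 xd7 yd29 zd13) (kd xd12 yd48 zd60) (kd xd10 yd54 zd48) (kd xd12 yd49 zd0) (kd xd3 yd18 zd58) (kd xd12 yd29 zd19) (kd xd8 yd58 zd17) (kd xd3 yd18 zd59) (kd xd10 yd45 zd4) (kd xd6 yd31 zd33)) (@D3.rec (fun _ => Pt) (kd xd3 yd43 zd29) (kd xd12 yd49 zd7) (kd xd12 yd49 zd9) (kd xd12 yd49 zd12) (kd xd12 yd31 zd44) (kd xd12 yd49 zd17) (kd xd3 yd19 zd2) (kd xd12 yd49 zd21) (kd xd12 yd49 zd24) (kd xd12 yd49 zd27) (kd xd7 yd57 zd10) (kd xd3 yd43 zd21) (kd xd3 yd43 zd23) (kd xd12 yd49 zd31) (kd xd12 yd49 zd34) (kd xd12 yd49 zd37) (kd xd3 yd19 zd7) (kd xd12 yd49 zd41) (kd xd12 yd49 zd44) (kd xd12 yd49 zd46) (kd xd3 yd19 zd8) (kd xd12 yd31 zd0) (kd xd10 yd44 zd13) (kd xd3 yd19 zd9) (kd xd12 yd29 zd12) (kd xd12 yd49 zd57) (kd xd3 yd19 zd11) (kd xd11 yd40 zd5) (kd xd10 yd58 zd57)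 (kd xd10 yd59 zd0) (kd xd6 yd17 zd30) (kd xd7 yd27 zd34) (kd xd12 yd50 zd3) (kd xd6 yd12 zd25) (kd xd6 yd8 zd43) (kd xd3 yd19 zd16) (kd xd12 yd50 zd8) (kd xd3 yd19 zd17) (kd xd12 yd50 zd11) (kd xd12 yd50 zd13) (kd xd3 yd19 zd19) (kd xd4 yd48 zd14) (kd xd12 yd50 zd17) (kd xd3 yd22 zd50) (kd xd12 yd50 zd19) (kd xd12 yd50 zd24) (kd xd3 yd19 zd21) (kd xd12 yd50 zd30) (kd xd3 yd19 zd23) (kd xd12 yd50 zd33) (kd xd8 yd31 zd21) (kd xd4 yd44 zd21) (kd xd12 yd17 zd60) (kd xd12 yd18 zd25) (kd xd12 yd18 zd27) (kd xd3 yd19 zd30) (kd xd9 yd56 zd14) (kd xd12 yd50 zd46) (kd xd12 yd50 zd50) (kd xd3 yd19 zd36) (kd xd12 yd50 zd52) (kd xd3 yd19 zd37)) (@D3.rec (fun _ => Pt) (kd xd12 yd50 zd57) (kd xd12 yd51 zd0) (kd xd12 yd51 zd2) (kd xd3 yd19 zd38) (kd xd12 yd51 zd7) (kd xd4 yd42 zd4)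 (kd xd9 yd6 zd9) (kd xd3 yd22 zd21) (kd xd3 yd19 zd40) (kd xd11 yd19 zd9) (kd xd6 yd59 zd43) (kd xd6 yd59 zd46) (kd xd3 yd19 zd42) (kd xd12 yd51 zd18) (kd xd12 yd51 zd20) (kd xd12 yd51 zd21) (kd xd3 yd19 zd44) (kd xd12 yd51 zd26) (kd xd12 yd51 zd30) (kd xd3 yd33 zd29) (kd xd3 yd46 zd61) (kd xd12 yd51 zd37) (kd xd3 yd19 zd47) (kd xd3 yd19 zd48) (kd xd10 yd47 zd18) (kd xd12 yd51 zd41) (kd xd12 yd51 zd43) (kd xd3 yd19 zd50) (kd xd12 yd51 zd47) (kd xd12 yd51 zd48) (kd xd3 yd19 zd51) (kd xd12 yd15 zd55) (kd xd3 yd19 zd52) (kd xd12 yd51 zd57) (kd xd12 yd28 zd36) (kd xd12 yd52 zd3) (kd xd3 yd19 zd54) (kd xd12 yd52 zd6) (kd xd3 yd19 zd55) (kd xd12 yd52 zd10) (kd xd6 yd17 zd23) (kd xd12 yd52 zd15) (kd xd3 yd19 zd57) (kd xd9 yd24 zd55) (kd xd12 yd52 zd19) (kd xd3 yd19 zd58) (kd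 xd12 yd52 zd23) (kd xd12 yd52 zd25) (kd xd12 yd52 zd30) (kd xd3 yd19 zd59) (kd xd12 yd52 zd36) (kd xd6 yd48 zd34) (kd xd6 yd17 zd51) (kd xd11 yd14 zd52) (kd xd11 yd14 zd51) (kd xd12 yd26 zd26) (kd xd12 yd52 zd43) (kd xd12 yd26 zd27) (kd xd12 yd52 zd48) (kd xd12 yd52 zd51) (kd xd3 yd20 zd9) (kd xd11 yd18 zd1)) (@D3.rec (fun _ => Pt) (kd xd12 yd52 zd55) (kd xd3 yd20 zd10) (kd xd10 yd14 zd22) (kd xd12 yd52 zd61) (kd xd12 yd53 zd3) (kd xd12 yd53 zd4) (kd xd3 yd20 zd11) (kd xd12 yd53 zd9) (kd xd4 yd43 zd29) (kd xd4 yd43 zd32) (kd xd4 yd50 zd24) (kd xd3 yd20 zd13) (kd xd12 yd51 zd12) (kd xd11 yd48 zd11) (kd xd5 yd27 zd9) (kd xd9 yd13 zd30) (kd xd12 yd53 zd14) (kd xd5 yd54 zd42) (kd xd9 yd13 zd19) (kd xd12 yd15 zd8) (kd xd12 yd53 zd18) (kd xd4 yd25 zd46) (kd xd12 yd53 zd20)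 (kd xd4 yd37 zd8) (kd xd4 yd37 zd9) (kd xd12 yd19 zd41) (kd xd6 yd23 zd30) (kd xd9 yd38 zd46) (kd xd3 yd20 zd21) (kd xd11 yd10 zd46) (kd xd3 yd20 zd22) (kd xd9 yd10 zd47) (kd xd3 yd20 zd24) (kd xd12 yd53 zd36) (kd xd8 yd49 zd38) (kd xd12 yd53 zd38) (kd xd12 yd53 zd41) (kd xd12 yd53 zd44) (kd xd3 yd20 zd26) (kd xd12 yd53 zd48) (kd xd3 yd20 zd27) (kd xd12 yd3 zd33) (kd xd12 yd53 zd52) (kd xd12 yd53 zd56) (kd xd3 yd20 zd29) (kd xd12 yd53 zd58) (kd xd6 yd11 zd60) (kd xd10 yd43 zd15) (kd xd12 yd53 zd60) (kd xd3 yd20 zd31) (kd xd8 yd58 zd50) (kd xd5 yd27 zd4) (kd xd5 yd13 zd26) (kd xd3 yd20 zd33) (kd xd12 yd54 zd5) (kd xd3 yd20 zd34) (kd xd6 yd6 zd47) (kd xd6 yd6 zd46) (kd xd12 yd54 zd15) (kd xd12 yd54 zd19) (kd xd3 yd20 zd36) (kd xd6 yd11 zd59)) (@D3.rec (fun _ => Pt) (kd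 xd10 yd53 zd19) (kd xd12 yd54 zd22) (kd xd3 yd20 zd38) (kd xd12 yd54 zd27) (kd xd12 yd54 zd29) (kd xd9 yd9 zd12) (kd xd3 yd20 zd40) (kd xd8 yd58 zd51) (kd xd12 yd54 zd32) (kd xd12 yd54 zd34) (kd xd12 yd54 zd39) (kd xd3 yd20 zd41) (kd xd12 yd54 zd44) (kd xd12 yd21 zd44) (kd xd3 yd20 zd43) (kd xd12 yd23 zd32) (kd xd12 yd54 zd50) (kd xd9 yd19 zd21) (kd xd10 yd45 zd49) (kd xd12 yd54 zd55) (kd xd12 yd54 zd59) (kd xd12 yd3 zd48) (kd xd12 yd3 zd49) (kd xd3 yd20 zd46) (kd xd6 yd12 zd8) (kd xd5 yd55 zd17) (kd xd12 yd55 zd5) (kd xd5 yd55 zd18) (kd xd12 yd55 zd8) (kd xd3 yd20 zd48) (kd xd11 yd27 zd20) (kd xd12 yd4 zd25) (kd xd12 yd4 zd2) (kd xd8 yd35 zd24) (kd xd11 yd59 zd15) (kd xd11 yd59 zd14) (kd xd3 yd20 zd50) (kd xd12 yd55 zd17) (kd xd4 yd49 zd19) (kd xd12 yd55 zd19) (kd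 xd3 yd20 zd53) (kd xd12 yd9 zd21) (kd xd3 yd20 zd54) (kd xd10 yd57 zd28) (kd xd3 yd20 zd55) (kd xd8 yd58 zd13) (kd xd12 yd55 zd26) (kd xd5 yd54 zd45) (kd xd11 yd44 zd47) (kd xd10 yd57 zd29) (kd xd9 yd8 zd49) (kd xd9 yd8 zd50) (kd xd12 yd3 zd61) (kd xd6 yd28 zd44) (kd xd12 yd55 zd40) (kd xd3 yd21 zd0) (kd xd5 yd51 zd49) (kd xd12 yd3 zd57) (kd xd9 yd58 zd12) (kd xd10 yd55 zd34) (kd xd10 yd55 zd36) (kd xd5 yd34 zd43)) (@D3.rec (fun _ => Pt) (kd xd11 yd34 zd50) (kd xd12 yd55 zd50) (kd xd11 yd49 zd34) (kd xd12 yd3 zd54) (kd xd8 yd12 zd8) (kd xd8 yd12 zd9) (kd xd5 yd50 zd21) (kd xd12 yd4 zd26) (kd xd12 yd56 zd4) (kd xd12 yd56 zd8) (kd xd12 yd56 zd10) (kd xd3 yd21 zd9) (kd xd9 yd17 zd29) (kd xd5 yd46 zd20) (kd xd11 yd24 zd8) (kd xd5 yd6 zd30) (kd xd5 yd7 zd17) (kd xd5 yd47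 zd58) (kd xd9 yd47 zd23) (kd xd6 yd8 zd0) (kd xd5 yd57 zd47) (kd xd5 yd14 zd21) (kd xd3 yd21 zd20) (kd xd11 yd27 zd46) (kd xd5 yd58 zd3) (kd xd11 yd54 zd49) (kd xd12 yd56 zd23) (kd xd10 yd34 zd35) (kd xd9 yd48 zd5) (kd xd3 yd21 zd23) (kd xd5 yd47 zd12) (kd xd7 yd59 zd50) (kd xd5 yd40 zd39) (kd xd12 yd4 zd23) (kd xd5 yd40 zd16) (kd xd5 yd51 zd60) (kd xd12 yd3 zd52) (kd xd5 yd51 zd61) (kd xd12 yd25 zd49) (kd xd12 yd3 zd53) (kd xd8 yd35 zd29) (kd xd11 yd59 zd27) (kd xd11 yd59 zd26) (kd xd3 yd21 zd30) (kd xd10 yd55 zd35) (kd xd12 yd4 zd24) (kd xd4 yd49 zd53) (kd xd12 yd30 zd29) (kd xd3 yd21 zd33) (kd xd12 yd56 zd50) (kd xd3 yd21 zd34) (kd xd9 yd1 zd28) (kd xd9 yd46 zd39) (kd xd5 yd37 zd47) (kd xd8 yd58 zd9) (kd xd6 yd6 zd10) (kd xd12 yd56 zd55) (kd xd3 yd21 zd39) (kd xd11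 yd35 zd47) (kd xd3 yd21 zd40) (kd xd12 yd56 zd59) (kd xd12 yd56 zd60)) (@D3.rec (fun _ => Pt) (kd xd6 yd28 zd19) (kd xd3 yd21 zd42) (kd xd12 yd57 zd0) (kd xd12 yd57 zd1) (kd xd3 yd21 zd43) (kd xd12 yd57 zd9) (kd xd12 yd57 zd12) (kd xd4 yd44 zd42) (kd xd12 yd57 zd18) (kd xd12 yd57 zd22) (kd xd9 yd21 zd28) (kd xd9 yd21 zd29) (kd xd3 yd21 zd45) (kd xd12 yd57 zd29) (kd xd12 yd57 zd33) (kd xd3 yd21 zd46) (kd xd12 yd57 zd37) (kd xd8 yd14 zd29) (kd xd12 yd57 zd38) (kd xd12 yd57 zd40) (kd xd8 yd12 zd51) (kd xd5 yd51 zd32) (kd xd12 yd57 zd49) (kd xd12 yd57 zd51) (kd xd9 yd6 zd35) (kd xd9 yd6 zd36) (kd xd3 yd21 zd51) (kd xd5 yd32 zd50) (kd xd12 yd4 zd7) (kd xd6 yd18 zd50) (kd xd3 yd21 zd53) (kd xd11 yd10 zd45) (kd xd12 yd58 zd2) (kd xd12 yd58 zd5) (kd xd11 yd11 zd31) (kd xd3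 yd21 zd56) (kd xd4 yd49 zd54) (kd xd11 yd22 zd0) (kd xd3 yd21 zd59) (kd xd9 yd50 zd24) (kd xd6 yd12 zd26) (kd xd12 yd58 zd16) (kd xd4 yd52 zd39) (kd xd12 yd14 zd48) (kd xd12 yd46 zd20) (kd xd9 yd59 zd29) (kd xd12 yd58 zd23) (kd xd9 yd19 zd24) (kd xd4 yd43 zd6) (kd xd9 yd32 zd47) (kd xd9 yd32 zd46) (kd xd12 yd58 zd29) (kd xd12 yd58 zd33) (kd xd3 yd22 zd8) (kd xd12 yd58 zd36) (kd xd3 yd22 zd9) (kd xd4 yd43 zd12) (kd xd12 yd58 zd40) (kd xd3 yd22 zd10) (kd xd6 yd34 zd25) (kd xd6 yd33 zd58) (kd xd12 yd58 zd46)) (@D3.rec (fun _ => Pt) (kd xd3 yd22 zd11) (kd xd6 yd51 zd22) (kd xd12 yd58 zd49) (kd xd6 yd48 zd3) (kd xd3 yd26 zd1) (kd xd12 yd58 zd52) (kd xd6 yd54 zd15) (kd xd12 yd58 zd56) (kd xd12 yd58 zd60) (kd xd3 yd22 zd15) (kd xd6 yd9 zd45) (kd xd6 yd9 zd46) (kd xd6 yd48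 zd37) (kd xd12 yd59 zd7) (kd xd6 yd48 zd14) (kd xd12 yd59 zd10) (kd xd12 yd59 zd11) (kd xd12 yd59 zd15) (kd xd3 yd22 zd18) (kd xd8 yd32 zd16) (kd xd9 yd24 zd20) (kd xd8 yd33 zd31) (kd xd9 yd32 zd59) (kd xd9 yd32 zd60) (kd xd6 yd9 zd30) (kd xd12 yd51 zd6) (kd xd6 yd3 zd51) (kd xd12 yd59 zd30) (kd xd10 yd56 zd28) (kd xd12 yd59 zd35) (kd xd3 yd22 zd23) (kd xd12 yd59 zd39) (kd xd6 yd48 zd44) (kd xd8 yd22 zd23) (kd xd6 yd43 zd51) (kd xd6 yd9 zd28) (kd xd6 yd9 zd29) (kd xd6 yd48 zd12) (kd xd12 yd59 zd46) (kd xd3 yd22 zd26) (kd xd12 yd59 zd48) (kd xd12 yd56 zd45) (kd xd3 yd22 zd27) (kd xd4 yd50 zd26) (kd xd6 yd48 zd32) (kd xd12 yd59 zd52) (kd xd3 yd22 zd28) (kd xd4 yd43 zd42) (kd xd10 yd10 zd46) (kd xd12 yd59 zd59) (kd xd3 yd22 zd31) (kd xd13 yd0 zd0) (kd xd13 yd0 zd3) (kd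 xd13 yd0 zd8) (kd xd3 yd22 zd32) (kd xd13 yd0 zd13) (kd xd13 yd0 zd18) (kd xd13 yd0 zd21) (kd xd3 yd22 zd33) (kd xd13 yd0 zd26) (kd xd6 yd29 zd20) (kd xd11 yd37 zd29)) (@D3.rec (fun _ => Pt) (kd xd3 yd22 zd36) (kd xd12 yd2 zd44) (kd xd11 yd11 zd14) (kd xd3 yd22 zd38) (kd xd13 yd0 zd32) (kd xd3 yd22 zd41) (kd xd6 yd50 zd47) (kd xd6 yd24 zd16) (kd xd12 yd59 zd37) (kd xd12 yd0 zd28) (kd xd13 yd0 zd39) (kd xd3 yd22 zd48) (kd xd9 yd33 zd3) (kd xd9 yd33 zd4) (kd xd9 yd32 zd61) (kd xd13 yd0 zd46) (kd xd3 yd27 zd19) (kd xd12 yd30 zd0) (kd xd12 yd19 zd47) (kd xd11 yd34 zd61) (kd xd11 yd42 zd51) (kd xd3 yd22 zd55) (kd xd5 yd45 zd43) (kd xd3 yd22 zd56) (kd xd6 yd50 zd11) (kd xd13 yd0 zd53) (kd xd3 yd22 zd58) (kd xd9 yd7 zd52) (kd xd5 yd45 zd29) (kd xd13 yd0 zd55) (kd xd3 yd22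 zd61) (kd xd8 yd23 zd26) (kd xd4 yd37 zd14) (kd xd11 yd45 zd13) (kd xd12 yd55 zd3) (kd xd3 yd23 zd4) (kd xd4 yd34 zd45) (kd xd5 yd51 zd25) (kd xd12 yd27 zd40) (kd xd7 yd43 zd11) (kd xd11 yd58 zd7) (kd xd7 yd21 zd5) (kd xd5 yd14 zd16) (kd xd9 yd48 zd1) (kd xd3 yd23 zd11) (kd xd6 yd18 zd38) (kd xd11 yd43 zd40) (kd xd11 yd14 zd33) (kd xd11 yd47 zd18) (kd xd9 yd13 zd40) (kd xd11 yd38 zd26) (kd xd11 yd38 zd25) (kd xd3 yd23 zd15) (kd xd11 yd46 zd44) (kd xd9 yd47 zd43) (kd xd3 yd23 zd16) (kd xd6 yd52 zd26) (kd xd13 yd1 zd14) (kd xd3 yd23 zd18) (kd xd7 yd48 zd46) (kd xd6 yd56 zd13) (kd xd13 yd1 zd17)) (@D3.rec (fun _ => Pt) (kd xd3 yd23 zd21) (kd xd8 yd23 zd23) (kd xd9 yd12 zd36) (kd xd9 yd11 zd8) (kd xd3 yd23 zd22) (kd xd12 yd54 zd10) (kd xd9 yd30 zd44) (kd xd6 yd1 zd32) (kd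 xd3 yd23 zd24) (kd xd13 yd1 zd25) (kd xd3 yd23 zd25) (kd xd6 yd49 zd24) (kd xd13 yd1 zd28) (kd xd3 yd23 zd27) (kd xd6 yd25 zd49) (kd xd13 yd1 zd31) (kd xd4 yd34 zd44) (kd xd12 yd30 zd15) (kd xd4 yd59 zd31) (kd xd5 yd53 zd34) (kd xd11 yd55 zd16) (kd xd5 yd26 zd16) (kd xd3 yd23 zd33) (kd xd4 yd58 zd43) (kd xd13 yd1 zd38) (kd xd12 yd56 zd32) (kd xd3 yd23 zd36) (kd xd13 yd1 zd40) (kd xd5 yd47 zd31) (kd xd7 yd57 zd13) (kd xd8 yd12 zd47) (kd xd9 yd27 zd32) (kd xd13 yd1 zd43) (kd xd3 yd23 zd38) (kd xd3 yd25 zd33) (kd xd11 yd22 zd41) (kd xd3 yd41 zd30) (kd xd13 yd1 zd51) (kd xd13 yd1 zd37) (kd xd3 yd23 zd41) (kd xd10 yd18 zd49) (kd xd12 yd56 zd25) (kd xd3 yd23 zd43) (kd xd12 yd29 zd56) (kd xd3 yd23 zd46) (kd xd3 yd23 zd48) (kd xd6 yd30 zd13) (kd xd6 yd49 zd6) (kd xd9 yd16 zd52)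 (kd xd12 yd28 zd37) (kd xd9 yd58 zd46) (kd xd12 yd32 zd18) (kd xd11 yd18 zd46) (kd xd3 yd23 zd56) (kd xd12 yd26 zd32) (kd xd13 yd2 zd3) (kd xd3 yd23 zd57) (kd xd7 yd29 zd42) (kd xd7 yd29 zd35) (kd xd6 yd22 zd46) (kd xd3 yd23 zd60) (kd xd9 yd13 zd24)) (@D3.rec (fun _ => Pt) (kd xd13 yd2 zd9) (kd xd11 yd40 zd31) (kd xd3 yd24 zd1) (kd xd10 yd48 zd30) (kd xd3 yd24 zd2) (kd xd3 yd24 zd3) (kd xd5 yd26 zd15) (kd xd5 yd55 zd0) (kd xd3 yd24 zd4) (kd xd13 yd2 zd14) (kd xd13 yd2 zd15) (kd xd13 yd2 zd18) (kd xd3 yd24 zd5) (kd xd12 yd30 zd6) (kd xd11 yd31 zd1) (kd xd11 yd31 zd2) (kd xd9 yd6 zd7) (kd xd13 yd2 zd29) (kd xd3 yd24 zd9) (kd xd4 yd42 zd31) (kd xd12 yd19 zd42) (kd xd13 yd2 zd32) (kd xd6 yd48 zd1) (kd xd7 yd29 zd59) (kd xd7 yd29 zd60) (kd xd13 yd2 zd38) (kd xd3 yd24 zd22)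 (kd xd7 yd20 zd57) (kd xd3 yd24 zd24) (kd xd13 yd2 zd39) (kd xd13 yd2 zd44) (kd xd3 yd24 zd26) (kd xd3 yd24 zd27) (kd xd13 yd2 zd51) (kd xd13 yd2 zd53) (kd xd13 yd2 zd55) (kd xd3 yd24 zd29) (kd xd13 yd2 zd57) (kd xd13 yd2 zd59) (kd xd13 yd2 zd60) (kd xd13 yd2 zd61) (kd xd4 yd34 zd31) (kd xd13 yd3 zd2) (kd xd13 yd3 zd3) (kd xd7 yd20 zd58) (kd xd3 yd24 zd36) (kd xd3 yd24 zd38) (kd xd13 yd3 zd6) (kd xd13 yd3 zd9) (kd xd13 yd3 zd11) (kd xd3 yd24 zd40) (kd xd6 yd55 zd59) (kd xd6 yd55 zd60) (kd xd13 yd3 zd19) (kd xd3 yd24 zd42) (kd xd6 yd29 zd34) (kd xd13 yd3 zd21) (kd xd3 yd24 zd44) (kd xd13 yd3 zd27) (kd xd3 yd24 zd45) (kd xd7 yd43 zd0) (kd xd13 yd3 zd34)) (@D3.rec (fun _ => Pt) (kd xd3 yd24 zd46) (kd xd7 yd11 zd11) (kd xd6 yd56 zd56) (kd xd3 yd52 zd38) (kd xd13 yd3 zd46)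 (kd xd3 yd24 zd48) (kd xd3 yd24 zd49) (kd xd7 yd8 zd50) (kd xd13 yd3 zd50) (kd xd13 yd3 zd53) (kd xd3 yd24 zd50) (kd xd13 yd3 zd60) (kd xd3 yd26 zd57) (kd xd13 yd4 zd2) (kd xd3 yd24 zd53) (kd xd7 yd9 zd11) (kd xd13 yd4 zd5) (kd xd3 yd24 zd54) (kd xd13 yd4 zd10) (kd xd13 yd4 zd12) (kd xd3 yd24 zd57) (kd xd7 yd7 zd61) (kd xd3 yd28 zd6) (kd xd7 yd8 zd11) (kd xd3 yd24 zd60) (kd xd7 yd14 zd17) (kd xd6 yd49 zd56) (kd xd10 yd32 zd3) (kd xd3 yd25 zd2) (kd xd13 yd4 zd22) (kd xd3 yd25 zd4) (kd xd11 yd59 zd56) (kd xd3 yd25 zd7) (kd xd13 yd4 zd25) (kd xd3 yd25 zd9) (kd xd13 yd4 zd31) (kd xd3 yd25 zd10) (kd xd5 yd15 zd27) (kd xd3 yd25 zd11) (kd xd13 yd4 zd37) (kd xd3 yd25 zd12) (kd xd3 yd37 zd44) (kd xd7 yd25 zd46) (kd xd7 yd16 zd28) (kd xd5 yd58 zd30) (kd xd3 yd42 zd8) (kd xd3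 yd28 zd26) (kd xd13 yd4 zd47) (kd xd3 yd25 zd17) (kd xd13 yd4 zd51) (kd xd3 yd25 zd18) (kd xd10 yd25 zd60) (kd xd3 yd25 zd19) (kd xd13 yd4 zd59) (kd xd3 yd25 zd20) (kd xd13 yd5 zd1) (kd xd3 yd25 zd21) (kd xd7 yd26 zd13) (kd xd7 yd52 zd60) (kd xd13 yd5 zd9) (kd xd3 yd25 zd23) (kd xd7 yd30 zd56)) (@D3.rec (fun _ => Pt) (kd xd3 yd38 zd6) (kd xd3 yd37 zd33) (kd xd3 yd25 zd27) (kd xd3 yd36 zd0) (kd xd13 yd5 zd11) (kd xd12 yd37 zd15) (kd xd12 yd37 zd13) (kd xd3 yd25 zd34) (kd xd13 yd5 zd17) (kd xd13 yd5 zd18) (kd xd3 yd25 zd36) (kd xd3 yd25 zd38) (kd xd13 yd5 zd23) (kd xd13 yd5 zd24) (kd xd5 yd51 zd3) (kd xd13 yd5 zd27) (kd xd13 yd5 zd31) (kd xd13 yd5 zd33) (kd xd13 yd5 zd34) (kd xd13 yd5 zd37) (kd xd3 yd25 zd43) (kd xd13 yd5 zd42) (kd xd3 yd26 zd24) (kd xd13 yd5 zd44) (kd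 xd13 yd5 zd46) (kd xd13 yd5 zd47) (kd xd3 yd25 zd46) (kd xd13 yd5 zd52) (kd xd13 yd5 zd54) (kd xd3 yd25 zd47) (kd xd6 yd55 zd39) (kd xd3 yd25 zd48) (kd xd13 yd5 zd61) (kd xd7 yd11 zd31) (kd xd7 yd11 zd32) (kd xd13 yd6 zd7) (kd xd3 yd25 zd50) (kd xd13 yd6 zd10) (kd xd3 yd25 zd51) (kd xd6 yd56 zd26) (kd xd13 yd6 zd16) (kd xd7 yd3 zd17) (kd xd3 yd25 zd56) (kd xd3 yd42 zd26) (kd xd13 yd6 zd17) (kd xd13 yd6 zd19) (kd xd13 yd6 zd21) (kd xd3 yd25 zd57) (kd xd13 yd6 zd28) (kd xd3 yd39 zd54) (kd xd13 yd6 zd30) (kd xd3 yd25 zd59) (kd xd3 yd42 zd25) (kd xd6 yd57 zd43) (kd xd4 yd58 zd57) (kd xd5 yd54 zd27) (kd xd4 yd35 zd56) (kd xd3 yd26 zd2) (kd xd13 yd6 zd38) (kd xd3 yd26 zd3) (kd xd13 yd6 zd41) (kd xd3 yd26 zd47)) (@D3.rec (fun _ => Pt) (kd xd4 yd38 zd22) (kd xd13 yd6 zd45)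 (kd xd13 yd6 zd47) (kd xd3 yd26 zd5) (kd xd13 yd6 zd52) (kd xd3 yd26 zd6) (kd xd13 yd6 zd56) (kd xd13 yd6 zd57) (kd xd3 yd26 zd7) (kd xd6 yd55 zd1) (kd xd13 yd7 zd0) (kd xd3 yd26 zd8) (kd xd6 yd57 zd26) (kd xd3 yd40 zd21) (kd xd3 yd40 zd20) (kd xd6 yd48 zd6) (kd xd13 yd7 zd10) (kd xd3 yd26 zd10) (kd xd6 yd56 zd51) (kd xd13 yd7 zd13) (kd xd13 yd7 zd16) (kd xd13 yd7 zd20) (kd xd3 yd26 zd13) (kd xd13 yd7 zd24) (kd xd13 yd7 zd27) (kd xd3 yd26 zd14) (kd xd7 yd3 zd15) (kd xd7 yd1 zd60) (kd xd13 yd3 zd47) (kd xd3 yd26 zd16) (kd xd3 yd26 zd17) (kd xd13 yd7 zd40) (kd xd13 yd7 zd43) (kd xd3 yd26 zd18) (kd xd13 yd5 zd19) (kd xd3 yd26 zd20) (kd xd3 yd26 zd21) (kd xd13 yd7 zd50) (kd xd3 yd26 zd22) (kd xd7 yd11 zd59) (kd xd7 yd31 zd40) (kd xd7 yd31 zd37) (kd xd13 yd7 zd56) (kd xd3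 yd26 zd25) (kd xd3 yd26 zd26) (kd xd13 yd7 zd60) (kd xd5 yd48 zd6) (kd xd13 yd8 zd0) (kd xd13 yd8 zd3) (kd xd13 yd8 zd6) (kd xd13 yd8 zd10) (kd xd3 yd26 zd30) (kd xd13 yd8 zd15) (kd xd13 yd8 zd17) (kd xd13 yd8 zd19) (kd xd3 yd26 zd32) (kd xd13 yd8 zd23) (kd xd13 yd8 zd25) (kd xd3 yd26 zd33) (kd xd13 yd3 zd13) (kd xd3 yd26 zd34) (kd xd13 yd8 zd32)) (@D3.rec (fun _ => Pt) (kd xd7 yd52 zd49) (kd xd6 yd54 zd9) (kd xd7 yd52 zd45) (kd xd3 yd26 zd36) (kd xd13 yd8 zd41) (kd xd3 yd26 zd37) (kd xd7 yd52 zd15) (kd xd3 yd48 zd10) (kd xd3 yd26 zd39) (kd xd13 yd8 zd46) (kd xd11 yd26 zd52) (kd xd13 yd6 zd23) (kd xd13 yd8 zd49) (kd xd3 yd26 zd40) (kd xd13 yd8 zd55) (kd xd13 yd8 zd56) (kd xd3 yd26 zd42) (kd xd13 yd4 zd3) (kd xd7 yd37 zd36) (kd xd3 yd38 zd52) (kd xd7 yd53 zd25) (kd xd3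 yd26 zd46) (kd xd13 yd8 zd61) (kd xd13 yd9 zd0) (kd xd3 yd45 zd46) (kd xd13 yd9 zd4) (kd xd13 yd9 zd5) (kd xd3 yd26 zd50) (kd xd13 yd9 zd8) (kd xd13 yd9 zd9) (kd xd13 yd9 zd11) (kd xd3 yd26 zd51) (kd xd13 yd9 zd14) (kd xd9 yd14 zd26) (kd xd3 yd26 zd52) (kd xd13 yd9 zd18) (kd xd3 yd26 zd53) (kd xd13 yd3 zd55) (kd xd13 yd9 zd21) (kd xd6 yd53 zd30) (kd xd7 yd50 zd34) (kd xd3 yd26 zd55) (kd xd13 yd9 zd31) (kd xd3 yd26 zd56) (kd xd13 yd3 zd29) (kd xd13 yd9 zd35) (kd xd3 yd40 zd18) (kd xd13 yd9 zd38) (kd xd11 yd51 zd8) (kd xd13 yd9 zd43) (kd xd3 yd26 zd59) (kd xd13 yd9 zd46) (kd xd8 yd44 zd26) (kd xd13 yd9 zd48) (kd xd12 yd33 zd7) (kd xd8 yd44 zd24) (kd xd13 yd9 zd51) (kd xd13 yd9 zd53) (kd xd13 yd9 zd55) (kd xd6 yd51 zd51) (kd xd6 yd51 zd52) (kd xd13 yd9 zd59)) (@D3.rec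 (fun _ => Pt) (kd xd13 yd10 zd1) (kd xd13 yd10 zd4) (kd xd13 yd10 zd8) (kd xd3 yd27 zd4) (kd xd13 yd10 zd13) (kd xd3 yd29 zd2) (kd xd13 yd10 zd16) (kd xd13 yd10 zd18) (kd xd3 yd27 zd6) (kd xd13 yd10 zd20) (kd xd7 yd51 zd33) (kd xd7 yd52 zd22) (kd xd3 yd27 zd8) (kd xd6 yd49 zd60) (kd xd13 yd10 zd29) (kd xd13 yd10 zd30) (kd xd13 yd10 zd32) (kd xd11 yd56 zd2) (kd xd11 yd56 zd0) (kd xd3 yd27 zd12) (kd xd8 yd26 zd37) (kd xd13 yd10 zd36) (kd xd13 yd10 zd39) (kd xd3 yd27 zd13) (kd xd11 yd45 zd49) (kd xd7 yd5 zd12) (kd xd6 yd53 zd39) (kd xd7 yd50 zd29) (kd xd3 yd27 zd15) (kd xd11 yd26 zd55) (kd xd13 yd10 zd47) (kd xd13 yd10 zd48) (kd xd13 yd10 zd49) (kd xd3 yd27 zd17) (kd xd13 yd10 zd54) (kd xd3 yd27 zd18) (kd xd10 yd6 zd39) (kd xd12 yd13 zd52) (kd xd8 yd0 zd20) (kd xd13 yd10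 zd61) (kd xd13 yd11 zd0) (kd xd13 yd11 zd1) (kd xd3 yd27 zd20) (kd xd13 yd11 zd7) (kd xd13 yd11 zd10) (kd xd13 yd11 zd14) (kd xd13 yd11 zd16) (kd xd13 yd11 zd17) (kd xd5 yd16 zd19) (kd xd3 yd27 zd22) (kd xd13 yd11 zd26) (kd xd6 yd54 zd18) (kd xd7 yd16 zd34) (kd xd13 yd3 zd42) (kd xd13 yd11 zd38) (kd xd3 yd27 zd24) (kd xd6 yd52 zd2) (kd xd13 yd11 zd39) (kd xd13 yd11 zd40) (kd xd3 yd27 zd25) (kd xd13 yd11 zd48) (kd xd13 yd3 zd39)) (@D3.rec (fun _ => Pt) (kd xd13 yd11 zd52) (kd xd3 yd27 zd27) (kd xd13 yd11 zd57) (kd xd13 yd3 zd36) (kd xd3 yd27 zd28) (kd xd13 yd12 zd2) (kd xd13 yd12 zd6) (kd xd13 yd3 zd30) (kd xd3 yd27 zd29) (kd xd13 yd12 zd10) (kd xd13 yd4 zd7) (kd xd13 yd3 zd57) (kd xd13 yd12 zd19) (kd xd3 yd27 zd30) (kd xd13 yd2 zd56) (kd xd7 yd43 zd53) (kd xd12 yd36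 zd6) (kd xd7 yd0 zd2) (kd xd3 yd35 zd15) (kd xd6 yd34 zd56) (kd xd13 yd12 zd29) (kd xd3 yd27 zd35) (kd xd13 yd12 zd33) (kd xd13 yd12 zd34) (kd xd3 yd27 zd36) (kd xd13 yd12 zd41) (kd xd6 yd54 zd12) (kd xd13 yd12 zd45) (kd xd13 yd3 zd44) (kd xd13 yd3 zd56) (kd xd3 yd27 zd38) (kd xd13 yd12 zd51) (kd xd13 yd12 zd53) (kd xd13 yd12 zd55) (kd xd13 yd12 zd59) (kd xd3 yd27 zd40) (kd xd13 yd5 zd56) (kd xd3 yd27 zd43) (kd xd7 yd9 zd13) (kd xd13 yd13 zd2) (kd xd3 yd27 zd44) (kd xd7 yd24 zd20) (kd xd13 yd13 zd8) (kd xd6 yd53 zd53) (kd xd7 yd28 zd25) (kd xd3 yd38 zd49) (kd xd13 yd13 zd10) (kd xd13 yd13 zd11) (kd xd3 yd27 zd47) (kd xd13 yd13 zd18) (kd xd13 yd3 zd43) (kd xd13 yd13 zd23) (kd xd13 yd3 zd12) (kd xd3 yd27 zd49) (kd xd13 yd13 zd28) (kd xd3 yd27 zd50) (kd xd7 yd30 zd7) (kd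 xd7 yd29 zd61) (kd xd4 yd52 zd38) (kd xd13 yd13 zd35) (kd xd3 yd27 zd54) (kd xd13 yd13 zd40)) (@D3.rec (fun _ => Pt) (kd xd3 yd27 zd55) (kd xd13 yd13 zd45) (kd xd3 yd27 zd56) (kd xd7 yd21 zd38) (kd xd13 yd13 zd48) (kd xd3 yd27 zd57) (kd xd6 yd27 zd29) (kd xd7 yd53 zd47) (kd xd8 yd43 zd59) (kd xd3 yd27 zd59) (kd xd13 yd13 zd61) (kd xd3 yd27 zd60) (kd xd7 yd19 zd10) (kd xd7 yd17 zd14) (kd xd13 yd14 zd5) (kd xd3 yd28 zd1) (kd xd7 yd11 zd50) (kd xd7 yd19 zd32) (kd xd6 yd40 zd52) (kd xd12 yd38 zd29) (kd xd13 yd4 zd13) (kd xd3 yd28 zd3) (kd xd13 yd14 zd16) (kd xd13 yd4 zd17) (kd xd3 yd28 zd5) (kd xd13 yd14 zd21) (kd xd13 yd14 zd24) (kd xd3 yd28 zd7) (kd xd13 yd14 zd27) (kd xd3 yd28 zd8) (kd xd7 yd17 zd40) (kd xd13 yd14 zd34) (kd xd3 yd28 zd10) (kd xd13 yd4 zd16) (kd xd3 yd39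 zd40) (kd xd12 yd47 zd16) (kd xd13 yd14 zd45) (kd xd3 yd38 zd44) (kd xd3 yd38 zd45) (kd xd3 yd28 zd12) (kd xd13 yd14 zd51) (kd xd3 yd47 zd39) (kd xd3 yd47 zd40) (kd xd13 yd14 zd54) (kd xd13 yd14 zd57) (kd xd13 yd14 zd59) (kd xd3 yd28 zd16) (kd xd13 yd14 zd61) (kd xd13 yd15 zd1) (kd xd13 yd15 zd2) (kd xd12 yd48 zd51) (kd xd6 yd59 zd38) (kd xd13 yd15 zd8) (kd xd3 yd28 zd23) (kd xd7 yd22 zd13) (kd xd3 yd44 zd45) (kd xd3 yd38 zd5) (kd xd7 yd29 zd47) (kd xd9 yd18 zd37) (kd xd3 yd28 zd32) (kd xd6 yd22 zd11) (kd xd12 yd1 zd5)) (@D3.rec (fun _ => Pt) (kd xd13 yd15 zd14) (kd xd10 yd53 zd24) (kd xd3 yd28 zd35) (kd xd8 yd23 zd10) (kd xd3 yd28 zd36) (kd xd3 yd28 zd39) (kd xd3 yd28 zd40) (kd xd6 yd18 zd19) (kd xd3 yd28 zd42) (kd xd6 yd59 zd9) (kd xd13 yd15 zd23) (kd xd3 yd28 zd47)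 (kd xd13 yd15 zd27) (kd xd3 yd28 zd48) (kd xd7 yd12 zd42) (kd xd13 yd15 zd34) (kd xd13 yd15 zd39) (kd xd13 yd15 zd40) (kd xd3 yd28 zd49) (kd xd13 yd15 zd44) (kd xd3 yd28 zd59) (kd xd7 yd15 zd16) (kd xd3 yd28 zd51) (kd xd13 yd15 zd54) (kd xd3 yd28 zd54) (kd xd3 yd28 zd55) (kd xd9 yd20 zd43) (kd xd3 yd45 zd37) (kd xd13 yd15 zd58) (kd xd3 yd28 zd57) (kd xd13 yd16 zd1) (kd xd3 yd28 zd58) (kd xd13 yd15 zd45) (kd xd13 yd16 zd5) (kd xd13 yd16 zd8) (kd xd13 yd16 zd9) (kd xd13 yd16 zd10) (kd xd3 yd28 zd60) (kd xd6 yd58 zd51) (kd xd3 yd34 zd30) (kd xd6 yd24 zd5) (kd xd7 yd40 zd42) (kd xd12 yd45 zd18) (kd xd6 yd43 zd10) (kd xd13 yd16 zd26) (kd xd11 yd44 zd34) (kd xd6 yd43 zd11) (kd xd13 yd16 zd30) (kd xd13 yd16 zd33) (kd xd13 yd16 zd35) (kd xd5 yd54 zd7) (kd xd13 yd16 zd41) (kd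 xd13 yd16 zd45) (kd xd3 yd29 zd4) (kd xd13 yd16 zd49) (kd xd7 yd25 zd53) (kd xd11 yd45 zd22) (kd xd3 yd29 zd5) (kd xd13 yd16 zd52) (kd xd13 yd16 zd55) (kd xd3 yd29 zd6) (kd xd3 yd52 zd32))
def f_d_7 : D2 → D3 → Pt := @D2.rec (fun _ => D3 → Pt) (@D3.rec (fun _ => Pt) (kd xd13 yd16 zd61) (kd xd3 yd29 zd7) (kd xd6 yd57 zd17) (kd xd3 yd52 zd23) (kd xd3 yd29 zd9) (kd xd3 yd29 zd10) (kd xd3 yd34 zd12) (kd xd7 yd47 zd41) (kd xd11 yd48 zd23) (kd xd3 yd29 zd11) (kd xd13 yd17 zd14) (kd xd13 yd17 zd16) (kd xd3 yd29 zd14) (kd xd3 yd29 zd15) (kd xd13 yd17 zd20) (kd xd3 yd52 zd44) (kd xd12 yd51 zd14) (kd xd13 yd17 zd22) (kd xd7 yd38 zd15) (kd xd13 yd17 zd26) (kd xd3 yd29 zd21) (kd xd13 yd17 zd29) (kd xd13 yd17 zd32) (kd xd3 yd29 zd23) (kd xd13 yd17 zd34) (kd xd13 yd17 zd37) (kd xd3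 yd29 zd24) (kd xd3 yd33 zd17) (kd xd13 yd17 zd44) (kd xd3 yd46 zd59) (kd xd13 yd17 zd47) (kd xd13 yd17 zd49) (kd xd13 yd17 zd52) (kd xd3 yd29 zd27) (kd xd13 yd17 zd58) (kd xd3 yd29 zd28) (kd xd7 yd37 zd12) (kd xd3 yd32 zd30) (kd xd3 yd32 zd31) (kd xd7 yd0 zd39) (kd xd6 yd15 zd20) (kd xd6 yd16 zd60) (kd xd9 yd2 zd50) (kd xd3 yd29 zd31) (kd xd13 yd18 zd7) (kd xd13 yd18 zd8) (kd xd3 yd29 zd33) (kd xd7 yd39 zd9) (kd xd3 yd35 zd58) (kd xd7 yd39 zd34) (kd xd13 yd18 zd11) (kd xd13 yd18 zd13) (kd xd13 yd18 zd16) (kd xd13 yd18 zd19) (kd xd13 yd18 zd22) (kd xd13 yd18 zd24) (kd xd3 yd29 zd41) (kd xd13 yd18 zd29) (kd xd13 yd18 zd31) (kd xd13 yd18 zd33) (kd xd3 yd29 zd42) (kd xd13 yd18 zd37)) (@D3.rec (fun _ => Pt) (kd xd13 yd18 zd38) (kd xd3 yd29 zd43) (kd xd7 yd35 zd19) (kd xd13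 yd18 zd44) (kd xd3 yd29 zd44) (kd xd7 yd48 zd30) (kd xd3 yd53 zd19) (kd xd3 yd48 zd48) (kd xd7 yd33 zd33) (kd xd3 yd29 zd46) (kd xd13 yd18 zd57) (kd xd3 yd29 zd47) (kd xd7 yd46 zd45) (kd xd13 yd18 zd61) (kd xd13 yd19 zd2) (kd xd7 yd41 zd8) (kd xd13 yd19 zd5) (kd xd13 yd19 zd7) (kd xd3 yd29 zd51) (kd xd13 yd19 zd9) (kd xd3 yd29 zd52) (kd xd13 yd19 zd12) (kd xd3 yd47 zd23) (kd xd13 yd19 zd15) (kd xd13 yd19 zd19) (kd xd13 yd19 zd22) (kd xd3 yd29 zd54) (kd xd13 yd19 zd26) (kd xd13 yd19 zd28) (kd xd3 yd29 zd55) (kd xd13 yd19 zd32) (kd xd7 yd42 zd7) (kd xd11 yd14 zd37) (kd xd6 yd33 zd23) (kd xd13 yd19 zd35) (kd xd13 yd19 zd39) (kd xd13 yd19 zd41) (kd xd13 yd19 zd43) (kd xd13 yd19 zd45) (kd xd3 yd29 zd61) (kd xd13 yd19 zd50) (kd xd13 yd19 zd51) (kd xd13 yd19 zd54) (kd xd3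 yd30 zd0) (kd xd13 yd19 zd58) (kd xd3 yd42 zd0) (kd xd3 yd48 zd58) (kd xd13 yd20 zd1) (kd xd3 yd30 zd2) (kd xd6 yd33 zd22) (kd xd4 yd44 zd3) (kd xd13 yd20 zd8) (kd xd3 yd30 zd4) (kd xd13 yd20 zd11) (kd xd13 yd20 zd13) (kd xd3 yd30 zd5) (kd xd13 yd20 zd15) (kd xd6 yd19 zd0) (kd xd13 yd20 zd18) (kd xd3 yd30 zd8) (kd xd6 yd54 zd27) (kd xd13 yd20 zd25)) (@D3.rec (fun _ => Pt) (kd xd3 yd30 zd9) (kd xd7 yd16 zd30) (kd xd7 yd11 zd14) (kd xd7 yd11 zd15) (kd xd13 yd20 zd36) (kd xd3 yd30 zd11) (kd xd6 yd33 zd39) (kd xd6 yd33 zd40) (kd xd9 yd9 zd57) (kd xd9 yd25 zd36) (kd xd7 yd43 zd55) (kd xd3 yd30 zd14) (kd xd7 yd36 zd44) (kd xd12 yd31 zd45) (kd xd7 yd43 zd56) (kd xd3 yd30 zd15) (kd xd13 yd20 zd50) (kd xd6 yd0 zd27) (kd xd6 yd0 zd28) (kd xd7 yd51 zd35) (kd xd3 yd30 zd17) (kd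 xd13 yd20 zd58) (kd xd13 yd20 zd60) (kd xd13 yd21 zd0) (kd xd3 yd30 zd18) (kd xd13 yd21 zd6) (kd xd13 yd21 zd7) (kd xd13 yd21 zd9) (kd xd3 yd30 zd19) (kd xd13 yd21 zd17) (kd xd7 yd37 zd39) (kd xd3 yd30 zd20) (kd xd7 yd37 zd38) (kd xd3 yd49 zd46) (kd xd3 yd34 zd52) (kd xd3 yd52 zd16) (kd xd13 yd21 zd30) (kd xd7 yd46 zd46) (kd xd3 yd30 zd22) (kd xd3 yd52 zd31) (kd xd13 yd21 zd33) (kd xd13 yd21 zd35) (kd xd13 yd21 zd38) (kd xd3 yd30 zd23) (kd xd13 yd21 zd45) (kd xd3 yd30 zd24) (kd xd3 yd52 zd12) (kd xd13 yd21 zd50) (kd xd3 yd30 zd26) (kd xd7 yd45 zd43) (kd xd3 yd52 zd8) (kd xd13 yd21 zd60) (kd xd7 yd36 zd49) (kd xd3 yd52 zd0) (kd xd7 yd36 zd52) (kd xd3 yd53 zd17) (kd xd3 yd52 zd53) (kd xd13 yd22 zd9) (kd xd3 yd30 zd29) (kd xd3 yd47 zd60) (kd xd13 yd22 zd15) (kd xd3 yd30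 zd31)) (@D3.rec (fun _ => Pt) (kd xd13 yd22 zd17) (kd xd3 yd30 zd32) (kd xd3 yd47 zd59) (kd xd13 yd22 zd22) (kd xd3 yd30 zd33) (kd xd7 yd53 zd0) (kd xd7 yd6 zd54) (kd xd7 yd10 zd34) (kd xd13 yd22 zd35) (kd xd3 yd30 zd36) (kd xd13 yd7 zd51) (kd xd13 yd22 zd37) (kd xd3 yd30 zd37) (kd xd3 yd51 zd11) (kd xd3 yd52 zd43) (kd xd6 yd54 zd26) (kd xd3 yd32 zd54) (kd xd6 yd53 zd41) (kd xd3 yd30 zd39) (kd xd3 yd53 zd31) (kd xd13 yd22 zd46) (kd xd3 yd30 zd40) (kd xd3 yd30 zd41) (kd xd12 yd51 zd45) (kd xd3 yd49 zd39) (kd xd3 yd52 zd55) (kd xd3 yd52 zd20) (kd xd13 yd23 zd2) (kd xd7 yd48 zd31) (kd xd3 yd30 zd43) (kd xd13 yd23 zd7) (kd xd7 yd36 zd50) (kd xd7 yd37 zd13) (kd xd13 yd23 zd12) (kd xd3 yd30 zd45) (kd xd13 yd23 zd15) (kd xd13 yd23 zd17) (kd xd3 yd30 zd51) (kd xd12 yd34 zd58)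 (kd xd11 yd20 zd50) (kd xd3 yd30 zd52) (kd xd7 yd9 zd20) (kd xd7 yd12 zd27) (kd xd3 yd49 zd12) (kd xd7 yd7 zd45) (kd xd7 yd9 zd52) (kd xd3 yd30 zd54) (kd xd13 yd23 zd23) (kd xd11 yd48 zd26) (kd xd3 yd30 zd55) (kd xd11 yd32 zd4) (kd xd3 yd52 zd19) (kd xd13 yd23 zd33) (kd xd7 yd35 zd1) (kd xd3 yd30 zd57) (kd xd13 yd23 zd40) (kd xd3 yd30 zd58) (kd xd7 yd39 zd20) (kd xd3 yd30 zd60) (kd xd13 yd23 zd44) (kd xd3 yd30 zd61) (kd xd13 yd23 zd50)) (@D3.rec (fun _ => Pt) (kd xd13 yd23 zd51) (kd xd3 yd31 zd2) (kd xd13 yd23 zd55) (kd xd4 yd11 zd53) (kd xd13 yd23 zd59) (kd xd3 yd31 zd5) (kd xd7 yd48 zd0) (kd xd7 yd19 zd33) (kd xd7 yd19 zd36) (kd xd3 yd35 zd28) (kd xd3 yd35 zd29) (kd xd7 yd53 zd54) (kd xd13 yd24 zd13) (kd xd13 yd24 zd14) (kd xd3 yd31 zd13) (kd xd11 yd41 zd24) (kd xd13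 yd24 zd17) (kd xd3 yd31 zd14) (kd xd13 yd24 zd22) (kd xd13 yd24 zd24) (kd xd13 yd24 zd25) (kd xd3 yd31 zd18) (kd xd13 yd24 zd29) (kd xd3 yd31 zd20) (kd xd3 yd31 zd21) (kd xd13 yd24 zd36) (kd xd3 yd31 zd22) (kd xd13 yd24 zd40) (kd xd3 yd31 zd23) (kd xd7 yd51 zd52) (kd xd7 yd51 zd41) (kd xd13 yd24 zd49) (kd xd3 yd56 zd14) (kd xd3 yd31 zd26) (kd xd3 yd31 zd27) (kd xd3 yd56 zd21) (kd xd3 yd56 zd22) (kd xd13 yd25 zd3) (kd xd12 yd18 zd49) (kd xd7 yd54 zd10) (kd xd7 yd54 zd11) (kd xd3 yd31 zd29) (kd xd7 yd51 zd51) (kd xd13 yd25 zd11) (kd xd3 yd56 zd37) (kd xd3 yd31 zd31) (kd xd13 yd25 zd16) (kd xd3 yd32 zd3) (kd xd12 yd25 zd33) (kd xd7 yd43 zd33) (kd xd3 yd51 zd61) (kd xd13 yd25 zd20) (kd xd3 yd31 zd37) (kd xd13 yd25 zd24) (kd xd3 yd31 zd38) (kd xd7 yd50 zd18) (kd xd7 yd49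 zd58) (kd xd13 yd25 zd32) (kd xd3 yd31 zd41) (kd xd3 yd31 zd42) (kd xd3 yd56 zd25) (kd xd3 yd55 zd17)) (@D3.rec (fun _ => Pt) (kd xd13 yd25 zd46) (kd xd13 yd25 zd50) (kd xd3 yd54 zd25) (kd xd3 yd54 zd26) (kd xd3 yd31 zd44) (kd xd13 yd13 zd5) (kd xd13 yd13 zd4) (kd xd3 yd56 zd17) (kd xd3 yd56 zd18) (kd xd3 yd31 zd47) (kd xd3 yd37 zd21) (kd xd13 yd26 zd1) (kd xd6 yd56 zd25) (kd xd13 yd2 zd45) (kd xd13 yd26 zd5) (kd xd3 yd31 zd52) (kd xd13 yd26 zd9) (kd xd3 yd31 zd53) (kd xd13 yd26 zd13) (kd xd3 yd31 zd55) (kd xd13 yd26 zd18) (kd xd3 yd31 zd57) (kd xd7 yd29 zd44) (kd xd3 yd35 zd12) (kd xd3 yd35 zd13) (kd xd6 yd23 zd8) (kd xd7 yd54 zd58) (kd xd3 yd47 zd9) (kd xd3 yd48 zd9) (kd xd12 yd30 zd20) (kd xd10 yd20 zd15) (kd xd3 yd32 zd8) (kd xd3 yd32 zd10) (kd xd13 yd26 zd36) (kd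 xd13 yd26 zd37) (kd xd3 yd32 zd16) (kd xd13 yd26 zd38) (kd xd8 yd38 zd11) (kd xd8 yd38 zd12) (kd xd13 yd26 zd40) (kd xd9 yd46 zd57) (kd xd7 yd56 zd47) (kd xd13 yd26 zd45) (kd xd13 yd26 zd49) (kd xd3 yd32 zd21) (kd xd13 yd26 zd54) (kd xd3 yd32 zd22) (kd xd13 yd26 zd58) (kd xd7 yd10 zd6) (kd xd7 yd13 zd53) (kd xd13 yd27 zd5) (kd xd3 yd32 zd24) (kd xd13 yd27 zd8) (kd xd3 yd32 zd25) (kd xd7 yd8 zd12) (kd xd13 yd27 zd13) (kd xd13 yd23 zd5) (kd xd3 yd32 zd28) (kd xd7 yd10 zd48) (kd xd13 yd17 zd61) (kd xd13 yd18 zd1) (kd xd13 yd17 zd39)) (@D3.rec (fun _ => Pt) (kd xd13 yd17 zd40) (kd xd13 yd27 zd27) (kd xd3 yd32 zd32) (kd xd13 yd27 zd16) (kd xd13 yd27 zd34) (kd xd11 yd23 zd47) (kd xd13 yd27 zd35) (kd xd3 yd32 zd38) (kd xd13 yd27 zd37) (kd xd3 yd32 zd39) (kd xd13 yd27 zd39)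 (kd xd3 yd32 zd40) (kd xd7 yd7 zd18) (kd xd7 yd15 zd24) (kd xd3 yd53 zd9) (kd xd13 yd13 zd59) (kd xd3 yd32 zd42) (kd xd13 yd27 zd47) (kd xd3 yd32 zd43) (kd xd7 yd8 zd39) (kd xd13 yd27 zd51) (kd xd8 yd1 zd51) (kd xd3 yd32 zd45) (kd xd13 yd27 zd56) (kd xd3 yd39 zd17) (kd xd13 yd27 zd59) (kd xd13 yd28 zd1) (kd xd13 yd28 zd4) (kd xd3 yd32 zd47) (kd xd13 yd28 zd9) (kd xd11 yd32 zd36) (kd xd13 yd28 zd11) (kd xd3 yd32 zd48) (kd xd13 yd28 zd14) (kd xd13 yd28 zd15) (kd xd3 yd32 zd49) (kd xd13 yd28 zd20) (kd xd3 yd32 zd50) (kd xd13 yd24 zd30) (kd xd7 yd53 zd3) (kd xd3 yd39 zd37) (kd xd7 yd53 zd1) (kd xd3 yd32 zd52) (kd xd13 yd28 zd35) (kd xd13 yd28 zd38) (kd xd3 yd32 zd53) (kd xd13 yd28 zd41) (kd xd3 yd32 zd55) (kd xd13 yd28 zd45) (kd xd3 yd32 zd56) (kd xd13 yd28 zd51) (kd xd3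 yd32 zd57) (kd xd13 yd28 zd56) (kd xd3 yd32 zd58) (kd xd7 yd3 zd6) (kd xd13 yd28 zd61) (kd xd13 yd29 zd2) (kd xd13 yd29 zd4) (kd xd3 yd32 zd59) (kd xd13 yd28 zd47) (kd xd3 yd42 zd28) (kd xd7 yd52 zd52)) (@D3.rec (fun _ => Pt) (kd xd3 yd33 zd3) (kd xd12 yd6 zd36) (kd xd13 yd29 zd15) (kd xd13 yd29 zd17) (kd xd3 yd33 zd6) (kd xd13 yd29 zd21) (kd xd3 yd35 zd39) (kd xd13 yd29 zd22) (kd xd13 yd29 zd23) (kd xd13 yd29 zd24) (kd xd3 yd33 zd8) (kd xd12 yd6 zd37) (kd xd13 yd29 zd28) (kd xd3 yd33 zd9) (kd xd7 yd12 zd43) (kd xd13 yd29 zd32) (kd xd3 yd33 zd10) (kd xd7 yd40 zd36) (kd xd7 yd6 zd12) (kd xd13 yd22 zd33) (kd xd3 yd33 zd12) (kd xd13 yd29 zd46) (kd xd3 yd33 zd13) (kd xd7 yd17 zd21) (kd xd13 yd29 zd50) (kd xd13 yd29 zd52) (kd xd13 yd29 zd55) (kd xd3 yd33 zd16) (kd xd7 yd31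 zd61) (kd xd7 yd32 zd0) (kd xd13 yd17 zd42) (kd xd13 yd30 zd0) (kd xd3 yd33 zd18) (kd xd13 yd30 zd1) (kd xd5 yd42 zd45) (kd xd3 yd36 zd3) (kd xd13 yd30 zd2) (kd xd3 yd33 zd22) (kd xd13 yd30 zd6) (kd xd13 yd30 zd7) (kd xd3 yd33 zd23) (kd xd13 yd30 zd9) (kd xd3 yd33 zd24) (kd xd7 yd12 zd18) (kd xd7 yd19 zd55) (kd xd7 yd3 zd44) (kd xd12 yd47 zd15) (kd xd11 yd41 zd43) (kd xd13 yd30 zd20) (kd xd6 yd14 zd46) (kd xd13 yd30 zd22) (kd xd9 yd2 zd38) (kd xd13 yd30 zd26) (kd xd13 yd30 zd28) (kd xd13 yd30 zd31) (kd xd3 yd33 zd31) (kd xd13 yd30 zd35) (kd xd13 yd30 zd37) (kd xd13 yd30 zd38) (kd xd3 yd33 zd32) (kd xd7 yd40 zd31) (kd xd6 yd52 zd21)) (@D3.rec (fun _ => Pt) (kd xd13 yd22 zd30) (kd xd3 yd33 zd34) (kd xd13 yd30 zd49) (kd xd11 yd23 zd31) (kd xd13 yd30 zd51) (kd xd13 yd30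 zd52) (kd xd3 yd33 zd38) (kd xd13 yd30 zd57) (kd xd13 yd30 zd59) (kd xd3 yd33 zd39) (kd xd11 yd23 zd32) (kd xd6 yd52 zd23) (kd xd7 yd5 zd54) (kd xd12 yd46 zd16) (kd xd3 yd33 zd42) (kd xd3 yd38 zd12) (kd xd13 yd31 zd10) (kd xd12 yd5 zd11) (kd xd13 yd31 zd12) (kd xd3 yd33 zd44) (kd xd13 yd31 zd15) (kd xd13 yd31 zd16) (kd xd13 yd31 zd18) (kd xd3 yd33 zd45) (kd xd13 yd31 zd21) (kd xd13 yd31 zd22) (kd xd3 yd33 zd46) (kd xd4 yd25 zd21) (kd xd4 yd25 zd29) (kd xd11 yd41 zd35) (kd xd3 yd33 zd48) (kd xd13 yd31 zd34) (kd xd13 yd31 zd35) (kd xd13 yd31 zd37) (kd xd3 yd33 zd49) (kd xd13 yd31 zd44) (kd xd3 yd37 zd22) (kd xd3 yd33 zd50) (kd xd3 yd45 zd1) (kd xd7 yd6 zd19) (kd xd3 yd55 zd38) (kd xd13 yd31 zd53) (kd xd13 yd31 zd57) (kd xd3 yd33 zd52) (kd xd13 yd31 zd60) (kd xd13 yd32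 zd0) (kd xd13 yd32 zd2) (kd xd3 yd33 zd53) (kd xd13 yd32 zd9) (kd xd3 yd33 zd54) (kd xd6 yd52 zd7) (kd xd13 yd32 zd12) (kd xd13 yd21 zd13) (kd xd3 yd33 zd56) (kd xd13 yd24 zd31) (kd xd13 yd32 zd19) (kd xd3 yd50 zd45) (kd xd3 yd33 zd57) (kd xd13 yd14 zd36) (kd xd13 yd32 zd30) (kd xd13 yd32 zd33) (kd xd3 yd33 zd58)) (@D3.rec (fun _ => Pt) (kd xd13 yd24 zd9) (kd xd3 yd49 zd42) (kd xd13 yd32 zd41) (kd xd13 yd32 zd45) (kd xd3 yd33 zd59) (kd xd13 yd28 zd46) (kd xd7 yd15 zd5) (kd xd3 yd34 zd0) (kd xd6 yd34 zd1) (kd xd13 yd32 zd55) (kd xd3 yd34 zd1) (kd xd6 yd52 zd15) (kd xd7 yd19 zd42) (kd xd6 yd57 zd38) (kd xd13 yd32 zd61) (kd xd3 yd34 zd4) (kd xd13 yd33 zd3) (kd xd13 yd33 zd4) (kd xd3 yd34 zd5) (kd xd13 yd33 zd11) (kd xd7 yd3 zd41) (kd xd7 yd19 zd48) (kd xd13 yd32 zd47)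 (kd xd13 yd33 zd22) (kd xd7 yd18 zd13) (kd xd3 yd34 zd7) (kd xd7 yd35 zd49) (kd xd7 yd35 zd18) (kd xd13 yd33 zd30) (kd xd3 yd34 zd9) (kd xd13 yd33 zd34) (kd xd3 yd34 zd10) (kd xd13 yd23 zd45) (kd xd3 yd55 zd28) (kd xd13 yd33 zd39) (kd xd7 yd15 zd35) (kd xd13 yd33 zd40) (kd xd13 yd33 zd41) (kd xd3 yd34 zd13) (kd xd13 yd33 zd48) (kd xd13 yd32 zd48) (kd xd13 yd33 zd54) (kd xd3 yd34 zd15) (kd xd13 yd33 zd57) (kd xd13 yd33 zd60) (kd xd3 yd34 zd16) (kd xd13 yd4 zd4) (kd xd3 yd34 zd18) (kd xd10 yd46 zd9) (kd xd3 yd34 zd19) (kd xd13 yd29 zd11) (kd xd13 yd34 zd4) (kd xd7 yd3 zd45) (kd xd3 yd34 zd21) (kd xd7 yd24 zd47) (kd xd7 yd24 zd48) (kd xd13 yd28 zd33) (kd xd3 yd34 zd50) (kd xd7 yd9 zd58) (kd xd13 yd34 zd18) (kd xd3 yd34 zd26) (kd xd7 yd10 zd46)) (@D3.rec (fun _ => Pt) (kd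 xd13 yd34 zd25) (kd xd13 yd34 zd26) (kd xd13 yd34 zd27) (kd xd3 yd34 zd28) (kd xd10 yd25 zd52) (kd xd13 yd16 zd17) (kd xd7 yd5 zd48) (kd xd7 yd18 zd21) (kd xd3 yd36 zd43) (kd xd13 yd34 zd28) (kd xd13 yd34 zd29) (kd xd13 yd34 zd40) (kd xd3 yd34 zd32) (kd xd13 yd34 zd45) (kd xd13 yd34 zd49) (kd xd13 yd23 zd46) (kd xd3 yd34 zd34) (kd xd7 yd32 zd23) (kd xd13 yd22 zd19) (kd xd13 yd19 zd23) (kd xd13 yd19 zd24) (kd xd13 yd34 zd59) (kd xd13 yd35 zd0) (kd xd3 yd34 zd37) (kd xd13 yd35 zd6) (kd xd13 yd35 zd9) (kd xd3 yd34 zd39) (kd xd13 yd35 zd14) (kd xd13 yd35 zd17) (kd xd13 yd35 zd19) (kd xd3 yd34 zd40) (kd xd13 yd35 zd27) (kd xd13 yd35 zd31) (kd xd3 yd34 zd42) (kd xd7 yd3 zd7) (kd xd13 yd35 zd36) (kd xd7 yd30 zd55) (kd xd3 yd34 zd43) (kd xd7 yd18 zd38) (kd xd13 yd35 zd42) (kd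 xd3 yd34 zd44) (kd xd3 yd34 zd45) (kd xd3 yd39 zd7) (kd xd13 yd6 zd12) (kd xd7 yd10 zd57) (kd xd3 yd34 zd47) (kd xd7 yd9 zd61) (kd xd13 yd20 zd3) (kd xd7 yd5 zd58) (kd xd13 yd36 zd7) (kd xd13 yd36 zd11) (kd xd13 yd36 zd15) (kd xd13 yd34 zd14) (kd xd13 yd21 zd23) (kd xd3 yd55 zd33) (kd xd3 yd55 zd34) (kd xd13 yd36 zd28) (kd xd7 yd10 zd44) (kd xd13 yd36 zd32) (kd xd13 yd36 zd34) (kd xd3 yd55 zd18) (kd xd3 yd55 zd19)) (@D3.rec (fun _ => Pt) (kd xd3 yd34 zd56) (kd xd3 yd50 zd43) (kd xd13 yd36 zd40) (kd xd3 yd34 zd58) (kd xd13 yd36 zd43) (kd xd3 yd34 zd59) (kd xd13 yd20 zd20) (kd xd13 yd36 zd48) (kd xd13 yd36 zd49) (kd xd3 yd35 zd0) (kd xd7 yd51 zd31) (kd xd6 yd52 zd1) (kd xd13 yd36 zd61) (kd xd13 yd37 zd2) (kd xd7 yd2 zd2) (kd xd7 yd2 zd3) (kd xd3 yd35 zd2) (kd xd13 yd8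 zd58) (kd xd7 yd51 zd26) (kd xd3 yd35 zd4) (kd xd13 yd5 zd21) (kd xd7 yd11 zd28) (kd xd13 yd37 zd16) (kd xd3 yd35 zd8) (kd xd13 yd37 zd18) (kd xd3 yd35 zd11) (kd xd13 yd26 zd23) (kd xd13 yd26 zd25) (kd xd7 yd11 zd21) (kd xd7 yd24 zd13) (kd xd7 yd45 zd45) (kd xd6 yd53 zd33) (kd xd6 yd53 zd34) (kd xd13 yd37 zd32) (kd xd3 yd35 zd16) (kd xd13 yd37 zd36) (kd xd13 yd37 zd37) (kd xd3 yd35 zd18) (kd xd13 yd37 zd43) (kd xd3 yd35 zd19) (kd xd13 yd37 zd46) (kd xd6 yd17 zd61) (kd xd6 yd18 zd0) (kd xd6 yd23 zd61) (kd xd10 yd2 zd36) (kd xd9 yd28 zd11) (kd xd3 yd53 zd39) (kd xd13 yd37 zd57) (kd xd3 yd35 zd27) (kd xd13 yd24 zd6) (kd xd6 yd58 zd16) (kd xd13 yd24 zd8) (kd xd6 yd9 zd61) (kd xd7 yd18 zd2) (kd xd3 yd35 zd32) (kd xd3 yd54 zd38) (kd xd3 yd35 zd33) (kd xd13 yd22 zd42) (kd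 xd3 yd35 zd37) (kd xd6 yd54 zd39) (kd xd3 yd35 zd40) (kd xd8 yd38 zd54)) (@D3.rec (fun _ => Pt) (kd xd9 yd45 zd10) (kd xd13 yd38 zd10) (kd xd6 yd25 zd0) (kd xd13 yd38 zd16) (kd xd13 yd38 zd20) (kd xd3 yd35 zd44) (kd xd13 yd38 zd25) (kd xd13 yd38 zd26) (kd xd3 yd36 zd33) (kd xd8 yd47 zd13) (kd xd9 yd9 zd38) (kd xd3 yd35 zd47) (kd xd13 yd38 zd33) (kd xd3 yd35 zd48) (kd xd7 yd13 zd57) (kd xd11 yd37 zd53) (kd xd3 yd35 zd49) (kd xd7 yd37 zd6) (kd xd7 yd7 zd43) (kd xd13 yd14 zd25) (kd xd3 yd35 zd51) (kd xd13 yd38 zd44) (kd xd3 yd35 zd52) (kd xd7 yd14 zd24) (kd xd7 yd14 zd16) (kd xd3 yd35 zd57) (kd xd6 yd34 zd3) (kd xd7 yd3 zd42) (kd xd3 yd35 zd61) (kd xd3 yd50 zd11) (kd xd13 yd38 zd50) (kd xd4 yd24 zd0) (kd xd13 yd38 zd51) (kd xd3 yd36 zd6) (kd xd13 yd38 zd55) (kd xd3 yd36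 zd7) (kd xd13 yd38 zd56) (kd xd3 yd36 zd8) (kd xd7 yd13 zd41) (kd xd13 yd39 zd0) (kd xd3 yd36 zd9) (kd xd7 yd15 zd13) (kd xd6 yd59 zd14) (kd xd7 yd7 zd14) (kd xd7 yd48 zd32) (kd xd3 yd36 zd11) (kd xd13 yd39 zd10) (kd xd3 yd36 zd12) (kd xd7 yd34 zd41) (kd xd7 yd34 zd43) (kd xd7 yd34 zd18) (kd xd7 yd34 zd19) (kd xd13 yd39 zd19) (kd xd3 yd36 zd15) (kd xd7 yd48 zd37) (kd xd13 yd27 zd54) (kd xd3 yd36 zd17) (kd xd13 yd39 zd26) (kd xd13 yd39 zd29) (kd xd13 yd39 zd31) (kd xd3 yd36 zd18) (kd xd13 yd39 zd36)) (@D3.rec (fun _ => Pt) (kd xd13 yd39 zd37) (kd xd3 yd36 zd19) (kd xd13 yd39 zd43) (kd xd3 yd36 zd20) (kd xd7 yd39 zd4) (kd xd3 yd38 zd40) (kd xd13 yd39 zd55) (kd xd3 yd36 zd22) (kd xd13 yd39 zd58) (kd xd13 yd39 zd61) (kd xd3 yd36 zd24) (kd xd13 yd40 zd4) (kd xd3 yd36 zd25)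 (kd xd7 yd38 zd42) (kd xd7 yd39 zd1) (kd xd13 yd40 zd11) (kd xd3 yd36 zd27) (kd xd3 yd50 zd19) (kd xd13 yd36 zd1) (kd xd13 yd36 zd2) (kd xd3 yd36 zd29) (kd xd13 yd40 zd14) (kd xd7 yd59 zd26) (kd xd9 yd45 zd34) (kd xd6 yd16 zd15) (kd xd13 yd40 zd29) (kd xd3 yd36 zd32) (kd xd13 yd40 zd30) (kd xd3 yd36 zd34) (kd xd13 yd40 zd34) (kd xd4 yd24 zd8) (kd xd8 yd47 zd36) (kd xd4 yd56 zd60) (kd xd13 yd40 zd37) (kd xd13 yd40 zd41) (kd xd13 yd40 zd45) (kd xd3 yd36 zd39) (kd xd10 yd22 zd14) (kd xd3 yd36 zd40) (kd xd13 yd40 zd50) (kd xd13 yd17 zd7) (kd xd7 yd12 zd38) (kd xd13 yd27 zd45) (kd xd3 yd38 zd8) (kd xd11 yd38 zd12) (kd xd9 yd3 zd18) (kd xd8 yd52 zd11) (kd xd3 yd36 zd47) (kd xd10 yd14 zd52) (kd xd13 yd40 zd61) (kd xd3 yd36 zd48) (kd xd13 yd41 zd1) (kd xd3 yd36 zd49) (kd xd7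 yd5 zd49) (kd xd13 yd41 zd9) (kd xd3 yd36 zd50) (kd xd7 yd18 zd27) (kd xd7 yd12 zd14) (kd xd13 yd41 zd18) (kd xd3 yd36 zd52) (kd xd13 yd41 zd20) (kd xd3 yd36 zd53)) (@D3.rec (fun _ => Pt) (kd xd13 yd41 zd23) (kd xd13 yd41 zd25) (kd xd4 yd41 zd25) (kd xd13 yd41 zd27) (kd xd13 yd41 zd29) (kd xd3 yd36 zd56) (kd xd13 yd41 zd30) (kd xd3 yd39 zd21) (kd xd11 yd28 zd3) (kd xd13 yd41 zd33) (kd xd13 yd41 zd36) (kd xd3 yd36 zd58) (kd xd13 yd41 zd41) (kd xd13 yd41 zd42) (kd xd3 yd36 zd59) (kd xd13 yd41 zd45) (kd xd7 yd12 zd24) (kd xd6 yd52 zd25) (kd xd13 yd41 zd50) (kd xd7 yd56 zd22) (kd xd13 yd41 zd54) (kd xd13 yd41 zd56) (kd xd8 yd44 zd14) (kd xd7 yd17 zd50) (kd xd7 yd12 zd23) (kd xd13 yd41 zd61) (kd xd3 yd37 zd2) (kd xd13 yd42 zd2) (kd xd3 yd37 zd3) (kd xd11 yd33 zd61) (kd xd13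 yd42 zd3) (kd xd3 yd37 zd4) (kd xd13 yd42 zd8) (kd xd12 yd6 zd3) (kd xd3 yd37 zd5) (kd xd7 yd57 zd9) (kd xd6 yd13 zd5) (kd xd11 yd47 zd27) (kd xd3 yd37 zd7) (kd xd13 yd42 zd19) (kd xd13 yd42 zd20) (kd xd3 yd37 zd8) (kd xd3 yd48 zd59) (kd xd3 yd49 zd0) (kd xd13 yd42 zd30) (kd xd7 yd49 zd4) (kd xd13 yd42 zd35) (kd xd13 yd42 zd37) (kd xd13 yd42 zd38) (kd xd3 yd37 zd10) (kd xd13 yd42 zd42) (kd xd3 yd50 zd20) (kd xd13 yd42 zd47) (kd xd3 yd37 zd12) (kd xd13 yd42 zd51) (kd xd13 yd42 zd54) (kd xd3 yd37 zd13) (kd xd13 yd42 zd58) (kd xd13 yd43 zd0) (kd xd13 yd43 zd3) (kd xd3 yd37 zd14) (kd xd13 yd43 zd7)) (@D3.rec (fun _ => Pt) (kd xd13 yd43 zd10) (kd xd13 yd43 zd13) (kd xd13 yd43 zd18) (kd xd3 yd37 zd15) (kd xd13 yd40 zd13) (kd xd7 yd9 zd6) (kd xd8 yd27 zd47) (kd xd3 yd37 zd17)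 (kd xd13 yd43 zd30) (kd xd3 yd37 zd18) (kd xd13 yd43 zd33) (kd xd13 yd43 zd34) (kd xd3 yd37 zd19) (kd xd7 yd12 zd41) (kd xd7 yd18 zd16) (kd xd13 yd43 zd20) (kd xd6 yd59 zd21) (kd xd3 yd37 zd24) (kd xd13 yd43 zd50) (kd xd13 yd43 zd51) (kd xd3 yd37 zd25) (kd xd13 yd43 zd58) (kd xd3 yd48 zd54) (kd xd13 yd44 zd1) (kd xd7 yd6 zd13) (kd xd3 yd37 zd27) (kd xd10 yd47 zd8) (kd xd3 yd37 zd28) (kd xd7 yd47 zd61) (kd xd3 yd37 zd30) (kd xd3 yd48 zd52) (kd xd8 yd29 zd16) (kd xd3 yd37 zd31) (kd xd13 yd40 zd31) (kd xd6 yd34 zd11) (kd xd7 yd9 zd35) (kd xd11 yd50 zd52) (kd xd3 yd37 zd34) (kd xd7 yd37 zd51) (kd xd13 yd40 zd32) (kd xd13 yd44 zd16) (kd xd3 yd37 zd37) (kd xd13 yd44 zd22) (kd xd3 yd37 zd38) (kd xd7 yd30 zd24) (kd xd7 yd16 zd25) (kd xd7 yd16 zd26) (kd xd3 yd37 zd39) (kd xd3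 yd47 zd21) (kd xd13 yd39 zd56) (kd xd3 yd37 zd55) (kd xd3 yd37 zd41) (kd xd8 yd30 zd42) (kd xd13 yd27 zd28) (kd xd13 yd27 zd29) (kd xd13 yd44 zd39) (kd xd3 yd37 zd45) (kd xd5 yd18 zd4) (kd xd13 yd35 zd1) (kd xd13 yd35 zd2) (kd xd13 yd44 zd51) (kd xd13 yd44 zd54)) (@D3.rec (fun _ => Pt) (kd xd3 yd37 zd47) (kd xd13 yd44 zd61) (kd xd13 yd45 zd2) (kd xd3 yd37 zd49) (kd xd13 yd35 zd21) (kd xd13 yd35 zd22) (kd xd13 yd45 zd6) (kd xd3 yd37 zd50) (kd xd13 yd45 zd11) (kd xd3 yd37 zd52) (kd xd13 yd35 zd45) (kd xd13 yd44 zd28) (kd xd3 yd46 zd57) (kd xd7 yd45 zd48) (kd xd13 yd45 zd28) (kd xd13 yd45 zd32) (kd xd13 yd44 zd35) (kd xd13 yd45 zd37) (kd xd3 yd37 zd57) (kd xd13 yd45 zd40) (kd xd3 yd37 zd58) (kd xd13 yd45 zd44) (kd xd3 yd37 zd59) (kd xd13 yd45 zd50) (kd xd3 yd37 zd60) (kd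 xd7 yd15 zd45) (kd xd7 yd15 zd46) (kd xd13 yd45 zd59) (kd xd6 yd52 zd43) (kd xd13 yd6 zd14) (kd xd7 yd2 zd1) (kd xd7 yd49 zd34) (kd xd13 yd46 zd10) (kd xd3 yd38 zd1) (kd xd6 yd56 zd52) (kd xd7 yd49 zd33) (kd xd3 yd38 zd3) (kd xd6 yd34 zd0) (kd xd13 yd24 zd15) (kd xd13 yd44 zd40) (kd xd13 yd44 zd41) (kd xd13 yd46 zd19) (kd xd3 yd38 zd9) (kd xd13 yd29 zd56) (kd xd5 yd49 zd38) (kd xd8 yd45 zd25) (kd xd13 yd46 zd26) (kd xd13 yd46 zd28) (kd xd13 yd46 zd32) (kd xd13 yd46 zd36) (kd xd3 yd38 zd14) (kd xd13 yd46 zd41) (kd xd3 yd38 zd15) (kd xd13 yd46 zd43) (kd xd13 yd46 zd44) (kd xd3 yd38 zd16) (kd xd13 yd46 zd47) (kd xd3 yd38 zd17) (kd xd7 yd53 zd48) (kd xd3 yd53 zd49) (kd xd7 yd18 zd1) (kd xd3 yd38 zd19)) (@D3.rec (fun _ => Pt) (kd xd13 yd46 zd57) (kd xd3 yd38 zd20) (kd xd3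 yd40 zd60) (kd xd13 yd46 zd61) (kd xd3 yd38 zd22) (kd xd13 yd41 zd3) (kd xd13 yd47 zd3) (kd xd10 yd18 zd1) (kd xd5 yd42 zd61) (kd xd7 yd36 zd13) (kd xd11 yd34 zd36) (kd xd13 yd47 zd7) (kd xd13 yd47 zd11) (kd xd12 yd7 zd31) (kd xd6 yd58 zd13) (kd xd10 yd15 zd12) (kd xd3 yd38 zd28) (kd xd13 yd47 zd18) (kd xd13 yd47 zd20) (kd xd3 yd38 zd29) (kd xd13 yd47 zd23) (kd xd7 yd7 zd23) (kd xd7 yd46 zd47) (kd xd3 yd38 zd31) (kd xd13 yd47 zd29) (kd xd13 yd47 zd30) (kd xd3 yd38 zd33) (kd xd13 yd47 zd31) (kd xd13 yd47 zd32) (kd xd3 yd38 zd34) (kd xd13 yd28 zd12) (kd xd3 yd38 zd35) (kd xd10 yd1 zd24) (kd xd5 yd12 zd56) (kd xd13 yd47 zd46) (kd xd3 yd38 zd37) (kd xd13 yd47 zd50) (kd xd13 yd47 zd51) (kd xd3 yd38 zd38) (kd xd13 yd39 zd49) (kd xd6 yd58 zd30) (kd xd7 yd17 zd57) (kd xd13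 yd39 zd51) (kd xd13 yd48 zd7) (kd xd13 yd48 zd9) (kd xd13 yd48 zd12) (kd xd3 yd38 zd41) (kd xd13 yd48 zd18) (kd xd7 yd17 zd54) (kd xd13 yd48 zd24) (kd xd7 yd14 zd23) (kd xd3 yd38 zd43) (kd xd7 yd53 zd49) (kd xd13 yd14 zd47) (kd xd7 yd17 zd48) (kd xd13 yd48 zd35) (kd xd13 yd14 zd48) (kd xd7 yd17 zd41) (kd xd13 yd28 zd17) (kd xd7 yd18 zd25) (kd xd7 yd18 zd14) (kd xd13 yd48 zd52)) (@D3.rec (fun _ => Pt) (kd xd3 yd38 zd46) (kd xd7 yd16 zd60) (kd xd7 yd11 zd53) (kd xd13 yd8 zd45) (kd xd11 yd2 zd49) (kd xd3 yd38 zd50) (kd xd13 yd49 zd0) (kd xd3 yd38 zd53) (kd xd13 yd49 zd3) (kd xd13 yd49 zd4) (kd xd3 yd38 zd54) (kd xd13 yd49 zd11) (kd xd3 yd53 zd6) (kd xd7 yd9 zd24) (kd xd7 yd17 zd60) (kd xd13 yd49 zd21) (kd xd7 yd15 zd14) (kd xd3 yd38 zd56) (kd xd13 yd46 zd58) (kd xd13 yd49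 zd26) (kd xd3 yd38 zd57) (kd xd7 yd10 zd7) (kd xd13 yd49 zd28) (kd xd3 yd38 zd60) (kd xd10 yd22 zd12) (kd xd7 yd17 zd59) (kd xd13 yd49 zd39) (kd xd7 yd13 zd56) (kd xd3 yd39 zd0) (kd xd13 yd41 zd4) (kd xd13 yd49 zd45) (kd xd3 yd39 zd1) (kd xd13 yd49 zd47) (kd xd3 yd39 zd4) (kd xd13 yd45 zd21) (kd xd3 yd39 zd5) (kd xd7 yd43 zd32) (kd xd13 yd35 zd47) (kd xd7 yd10 zd38) (kd xd13 yd6 zd5) (kd xd13 yd49 zd61) (kd xd3 yd51 zd10) (kd xd3 yd39 zd9) (kd xd3 yd55 zd61) (kd xd13 yd50 zd4) (kd xd13 yd50 zd6) (kd xd3 yd39 zd12) (kd xd4 yd39 zd35) (kd xd6 yd14 zd9) (kd xd8 yd49 zd44) (kd xd13 yd50 zd10) (kd xd13 yd50 zd14) (kd xd3 yd39 zd18) (kd xd11 yd44 zd35) (kd xd13 yd50 zd20) (kd xd8 yd44 zd30) (kd xd13 yd50 zd22) (kd xd7 yd57 zd15) (kd xd11 yd22 zd1) (kd xd11 yd13 zd11) (kd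 xd3 yd39 zd23) (kd xd13 yd50 zd31)) (@D3.rec (fun _ => Pt) (kd xd3 yd44 zd41) (kd xd3 yd53 zd24) (kd xd13 yd50 zd36) (kd xd3 yd39 zd25) (kd xd8 yd43 zd60) (kd xd10 yd16 zd24) (kd xd8 yd38 zd9) (kd xd13 yd50 zd41) (kd xd11 yd59 zd30) (kd xd6 yd13 zd54) (kd xd6 yd58 zd12) (kd xd10 yd3 zd42) (kd xd3 yd39 zd30) (kd xd13 yd50 zd45) (kd xd3 yd39 zd31) (kd xd13 yd31 zd13) (kd xd3 yd39 zd32) (kd xd12 yd23 zd46) (kd xd8 yd3 zd26) (kd xd4 yd2 zd9) (kd xd13 yd50 zd58) (kd xd3 yd39 zd34) (kd xd13 yd50 zd61) (kd xd13 yd51 zd0) (kd xd3 yd39 zd35) (kd xd13 yd28 zd27) (kd xd13 yd28 zd29) (kd xd13 yd51 zd11) (kd xd13 yd51 zd12) (kd xd3 yd39 zd38) (kd xd13 yd14 zd37) (kd xd13 yd14 zd38) (kd xd6 yd58 zd17) (kd xd7 yd4 zd7) (kd xd6 yd9 zd55) (kd xd13 yd51 zd31) (kd xd7 yd4 zd8) (kd xd6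 yd10 zd3) (kd xd13 yd39 zd40) (kd xd6 yd11 zd47) (kd xd6 yd11 zd46) (kd xd12 yd21 zd19) (kd xd7 yd9 zd12) (kd xd13 yd51 zd48) (kd xd13 yd51 zd49) (kd xd3 yd39 zd45) (kd xd13 yd51 zd55) (kd xd13 yd51 zd58) (kd xd7 yd9 zd21) (kd xd3 yd39 zd47) (kd xd13 yd51 zd61) (kd xd13 yd52 zd0) (kd xd3 yd39 zd49) (kd xd13 yd52 zd7) (kd xd13 yd52 zd10) (kd xd7 yd7 zd44) (kd xd3 yd39 zd51) (kd xd3 yd56 zd47) (kd xd6 yd31 zd0) (kd xd13 yd52 zd18) (kd xd3 yd39 zd53) (kd xd11 yd59 zd19)) (@D3.rec (fun _ => Pt) (kd xd12 yd10 zd36) (kd xd12 yd31 zd9) (kd xd13 yd52 zd21) (kd xd6 yd29 zd49) (kd xd12 yd13 zd53) (kd xd13 yd52 zd26) (kd xd13 yd52 zd28) (kd xd13 yd52 zd30) (kd xd7 yd20 zd12) (kd xd13 yd7 zd4) (kd xd3 yd42 zd3) (kd xd13 yd7 zd7) (kd xd7 yd20 zd8) (kd xd13 yd52 zd38) (kd xd3 yd40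 zd2) (kd xd13 yd52 zd41) (kd xd3 yd40 zd4) (kd xd13 yd52 zd43) (kd xd11 yd4 zd13) (kd xd11 yd26 zd57) (kd xd3 yd40 zd6) (kd xd11 yd2 zd53) (kd xd3 yd40 zd7) (kd xd13 yd52 zd47) (kd xd13 yd52 zd51) (kd xd13 yd52 zd53) (kd xd13 yd52 zd56) (kd xd3 yd40 zd9) (kd xd13 yd52 zd60) (kd xd3 yd40 zd45) (kd xd13 yd53 zd3) (kd xd13 yd53 zd6) (kd xd13 yd53 zd9) (kd xd3 yd40 zd11) (kd xd13 yd53 zd12) (kd xd13 yd53 zd15) (kd xd3 yd40 zd12) (kd xd7 yd22 zd34) (kd xd13 yd53 zd19) (kd xd3 yd40 zd13) (kd xd13 yd9 zd39) (kd xd7 yd28 zd20) (kd xd13 yd20 zd34) (kd xd3 yd40 zd15) (kd xd13 yd53 zd28) (kd xd3 yd40 zd16) (kd xd7 yd23 zd16) (kd xd13 yd53 zd32) (kd xd13 yd53 zd34) (kd xd13 yd53 zd37) (kd xd3 yd40 zd19) (kd xd13 yd7 zd6) (kd xd13 yd7 zd3) (kd xd13 yd53 zd42) (kd xd13 yd53 zd44)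 (kd xd10 yd41 zd8) (kd xd3 yd40 zd22) (kd xd6 yd51 zd27) (kd xd6 yd51 zd44) (kd xd6 yd26 zd10) (kd xd13 yd53 zd38) (kd xd12 yd1 zd55)) (@D3.rec (fun _ => Pt) (kd xd12 yd1 zd53) (kd xd12 yd51 zd33) (kd xd3 yd40 zd24) (kd xd13 yd53 zd57) (kd xd3 yd40 zd26) (kd xd6 yd49 zd41) (kd xd3 yd40 zd29) (kd xd13 yd53 zd60) (kd xd3 yd40 zd30) (kd xd13 yd54 zd1) (kd xd3 yd41 zd0) (kd xd13 yd54 zd5) (kd xd13 yd54 zd7) (kd xd3 yd40 zd32) (kd xd13 yd54 zd13) (kd xd8 yd34 zd12) (kd xd3 yd40 zd33) (kd xd13 yd54 zd19) (kd xd3 yd40 zd34) (kd xd7 yd22 zd7) (kd xd7 yd30 zd9) (kd xd7 yd27 zd57) (kd xd13 yd24 zd37) (kd xd10 yd5 zd43) (kd xd3 yd40 zd36) (kd xd13 yd54 zd29) (kd xd3 yd53 zd54) (kd xd13 yd54 zd34) (kd xd13 yd54 zd38) (kd xd12 yd48 zd46) (kd xd3 yd40 zd38) (kd xd13 yd54 zd44) (kd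 xd13 yd54 zd47) (kd xd13 yd54 zd50) (kd xd3 yd40 zd39) (kd xd13 yd54 zd54) (kd xd13 yd54 zd57) (kd xd3 yd40 zd40) (kd xd6 yd58 zd3) (kd xd3 yd54 zd21) (kd xd7 yd24 zd12) (kd xd3 yd40 zd42) (kd xd13 yd55 zd8) (kd xd13 yd55 zd9) (kd xd3 yd40 zd43) (kd xd3 yd40 zd44) (kd xd13 yd55 zd15) (kd xd3 yd40 zd46) (kd xd13 yd55 zd17) (kd xd11 yd17 zd28) (kd xd13 yd55 zd19) (kd xd13 yd55 zd22) (kd xd13 yd55 zd24) (kd xd13 yd55 zd27) (kd xd3 yd40 zd50) (kd xd3 yd42 zd9) (kd xd13 yd55 zd37) (kd xd3 yd42 zd11) (kd xd13 yd55 zd41) (kd xd13 yd55 zd45) (kd xd13 yd55 zd49) (kd xd3 yd40 zd53)) (@D3.rec (fun _ => Pt) (kd xd13 yd55 zd54) (kd xd13 yd55 zd57) (kd xd3 yd40 zd54) (kd xd7 yd26 zd5) (kd xd13 yd56 zd1) (kd xd3 yd40 zd55) (kd xd7 yd54 zd36) (kd xd7 yd21 zd19) (kd xd7 yd54 zd44) (kd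 xd6 yd38 zd18) (kd xd6 yd38 zd14) (kd xd11 yd41 zd18) (kd xd3 yd40 zd59) (kd xd6 yd58 zd54) (kd xd13 yd56 zd15) (kd xd3 yd41 zd1) (kd xd13 yd56 zd17) (kd xd3 yd42 zd36) (kd xd9 yd25 zd45) (kd xd13 yd56 zd22) (kd xd13 yd56 zd24) (kd xd3 yd41 zd3) (kd xd13 yd56 zd28) (kd xd13 yd56 zd30) (kd xd13 yd56 zd33) (kd xd3 yd41 zd4) (kd xd13 yd56 zd38) (kd xd13 yd56 zd39) (kd xd3 yd41 zd5) (kd xd7 yd25 zd32) (kd xd13 yd56 zd47) (kd xd3 yd41 zd6) (kd xd7 yd52 zd39) (kd xd7 yd51 zd4) (kd xd7 yd20 zd37) (kd xd7 yd53 zd36) (kd xd3 yd41 zd8) (kd xd13 yd56 zd60) (kd xd3 yd41 zd9) (kd xd12 yd32 zd55) (kd xd3 yd41 zd10) (kd xd13 yd57 zd3) (kd xd11 yd45 zd23) (kd xd7 yd36 zd10) (kd xd3 yd41 zd11) (kd xd13 yd57 zd7) (kd xd3 yd41 zd12) (kd xd13 yd57 zd10) (kd xd3 yd54 zd58) (kd xd3 yd54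 zd59) (kd xd12 yd53 zd42) (kd xd13 yd57 zd16) (kd xd13 yd57 zd19) (kd xd13 yd57 zd23) (kd xd3 yd41 zd14) (kd xd13 yd57 zd29) (kd xd13 yd57 zd31) (kd xd3 yd41 zd15) (kd xd13 yd57 zd36) (kd xd3 yd56 zd12) (kd xd7 yd54 zd54) (kd xd12 yd23 zd49)) (@D3.rec (fun _ => Pt) (kd xd13 yd57 zd42) (kd xd3 yd41 zd18) (kd xd13 yd57 zd44) (kd xd3 yd41 zd19) (kd xd13 yd57 zd45) (kd xd3 yd55 zd1) (kd xd3 yd55 zd2) (kd xd13 yd57 zd52) (kd xd13 yd57 zd55) (kd xd13 yd57 zd57) (kd xd3 yd41 zd21) (kd xd13 yd57 zd61) (kd xd13 yd58 zd0) (kd xd13 yd58 zd2) (kd xd3 yd41 zd22) (kd xd13 yd58 zd7) (kd xd7 yd20 zd46) (kd xd7 yd43 zd34) (kd xd3 yd41 zd24) (kd xd3 yd54 zd4) (kd xd13 yd58 zd18) (kd xd4 yd10 zd42) (kd xd5 yd44 zd44) (kd xd3 yd41 zd26) (kd xd3 yd54 zd10) (kd xd13 yd58 zd24) (kd xd13 yd58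 zd26) (kd xd13 yd58 zd29) (kd xd3 yd41 zd28) (kd xd13 yd58 zd34) (kd xd7 yd36 zd14) (kd xd7 yd36 zd11) (kd xd7 yd26 zd29) (kd xd5 yd53 zd35) (kd xd11 yd30 zd44) (kd xd13 yd58 zd44) (kd xd13 yd1 zd49) (kd xd13 yd58 zd48) (kd xd4 yd40 zd51) (kd xd3 yd41 zd31) (kd xd13 yd58 zd57) (kd xd13 yd59 zd0) (kd xd4 yd40 zd52) (kd xd3 yd41 zd32) (kd xd13 yd59 zd6) (kd xd13 yd59 zd10) (kd xd13 yd59 zd14) (kd xd13 yd59 zd19) (kd xd3 yd41 zd34) (kd xd13 yd59 zd23) (kd xd11 yd3 zd49) (kd xd3 yd41 zd35) (kd xd9 yd10 zd52) (kd xd3 yd56 zd33) (kd xd7 yd24 zd6) (kd xd11 yd2 zd47) (kd xd3 yd41 zd37) (kd xd13 yd59 zd39) (kd xd11 yd4 zd0) (kd xd3 yd41 zd38) (kd xd13 yd59 zd45) (kd xd7 yd24 zd3)) (@D3.rec (fun _ => Pt) (kd xd13 yd59 zd50) (kd xd3 yd41 zd40) (kd xd7 yd55 zd10) (kd xd7 yd23 zd61)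 (kd xd14 yd0 zd0) (kd xd7 yd55 zd11) (kd xd7 yd23 zd54) (kd xd13 yd32 zd57) (kd xd7 yd24 zd37) (kd xd7 yd24 zd22) (kd xd14 yd0 zd17) (kd xd3 yd41 zd43) (kd xd7 yd21 zd40) (kd xd7 yd11 zd29) (kd xd14 yd0 zd26) (kd xd3 yd41 zd47) (kd xd13 yd15 zd42) (kd xd14 yd0 zd29) (kd xd3 yd41 zd48) (kd xd14 yd0 zd36) (kd xd6 yd57 zd41) (kd xd7 yd50 zd50) (kd xd7 yd24 zd9) (kd xd14 yd0 zd47) (kd xd7 yd52 zd40) (kd xd3 yd41 zd50) (kd xd13 yd55 zd10) (kd xd14 yd0 zd52) (kd xd3 yd41 zd51) (kd xd13 yd8 zd27) (kd xd14 yd0 zd55) (kd xd3 yd41 zd53) (kd xd7 yd53 zd34) (kd xd7 yd25 zd35) (kd xd14 yd0 zd59) (kd xd3 yd41 zd56) (kd xd9 yd20 zd13) (kd xd7 yd24 zd8) (kd xd12 yd24 zd30) (kd xd7 yd26 zd4) (kd xd3 yd41 zd58) (kd xd14 yd1 zd7) (kd xd3 yd41 zd59) (kd xd3 yd47 zd57) (kd xd3 yd52 zd10)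 (kd xd13 yd18 zd55) (kd xd14 yd1 zd19) (kd xd7 yd9 zd54) (kd xd7 yd9 zd55) (kd xd3 yd41 zd61) (kd xd7 yd24 zd51) (kd xd7 yd24 zd50) (kd xd7 yd33 zd29) (kd xd14 yd1 zd31) (kd xd3 yd42 zd2) (kd xd3 yd42 zd4) (kd xd12 yd31 zd32) (kd xd9 yd22 zd39) (kd xd14 yd1 zd38) (kd xd3 yd42 zd5) (kd xd4 yd7 zd8) (kd xd14 yd1 zd41)) (@D3.rec (fun _ => Pt) (kd xd14 yd1 zd43) (kd xd13 yd55 zd32) (kd xd4 yd37 zd38) (kd xd3 yd42 zd10) (kd xd14 yd1 zd48) (kd xd3 yd42 zd12) (kd xd14 yd0 zd49) (kd xd5 yd35 zd58) (kd xd12 yd22 zd56) (kd xd14 yd1 zd51) (kd xd3 yd42 zd15) (kd xd14 yd1 zd53) (kd xd3 yd43 zd33) (kd xd3 yd43 zd34) (kd xd14 yd1 zd59) (kd xd14 yd1 zd61) (kd xd14 yd2 zd2) (kd xd3 yd42 zd17) (kd xd3 yd43 zd30) (kd xd14 yd2 zd10) (kd xd14 yd2 zd14) (kd xd3 yd42 zd30) (kd xd8 yd57 zd29)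 (kd xd8 yd22 zd31) (kd xd14 yd2 zd19) (kd xd3 yd42 zd21) (kd xd14 yd2 zd23) (kd xd14 yd2 zd26) (kd xd3 yd42 zd22) (kd xd6 yd41 zd21) (kd xd3 yd42 zd23) (kd xd13 yd25 zd55) (kd xd7 yd22 zd29) (kd xd13 yd25 zd21) (kd xd6 yd30 zd44) (kd xd7 yd24 zd33) (kd xd7 yd27 zd61) (kd xd14 yd2 zd38) (kd xd3 yd42 zd29) (kd xd11 yd37 zd18) (kd xd11 yd33 zd19) (kd xd9 yd9 zd26) (kd xd12 yd30 zd47) (kd xd12 yd30 zd48) (kd xd7 yd25 zd45) (kd xd7 yd25 zd44) (kd xd6 yd52 zd42) (kd xd14 yd2 zd51) (kd xd3 yd42 zd35) (kd xd14 yd2 zd54) (kd xd3 yd42 zd37) (kd xd12 yd47 zd51) (kd xd3 yd43 zd46) (kd xd6 yd59 zd55) (kd xd8 yd33 zd6) (kd xd6 yd41 zd24) (kd xd3 yd42 zd39) (kd xd6 yd27 zd10) (kd xd14 yd2 zd61) (kd xd14 yd3 zd2) (kd xd3 yd42 zd40) (kd xd14 yd3 zd6)) (@D3.rec (fun _ => Pt) (kd xd3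 yd42 zd41) (kd xd7 yd28 zd0) (kd xd14 yd3 zd12) (kd xd3 yd42 zd42) (kd xd7 yd24 zd39) (kd xd7 yd22 zd3) (kd xd3 yd42 zd44) (kd xd12 yd48 zd1) (kd xd3 yd42 zd45) (kd xd13 yd24 zd20) (kd xd13 yd24 zd19) (kd xd14 yd3 zd26) (kd xd3 yd42 zd46) (kd xd6 yd52 zd57) (kd xd4 yd52 zd35) (kd xd14 yd3 zd33) (kd xd3 yd42 zd48) (kd xd13 yd18 zd27) (kd xd3 yd42 zd49) (kd xd14 yd3 zd41) (kd xd3 yd42 zd50) (kd xd14 yd3 zd45) (kd xd13 yd18 zd48) (kd xd14 yd3 zd46) (kd xd3 yd42 zd51) (kd xd6 yd9 zd25) (kd xd14 yd3 zd28) (kd xd7 yd51 zd55) (kd xd7 yd51 zd56) (kd xd7 yd23 zd32) (kd xd11 yd27 zd1) (kd xd5 yd48 zd46) (kd xd14 yd3 zd57) (kd xd3 yd54 zd47) (kd xd14 yd3 zd60) (kd xd14 yd4 zd1) (kd xd14 yd4 zd5) (kd xd3 yd42 zd56) (kd xd14 yd4 zd12) (kd xd14 yd4 zd16) (kd xd3 yd42 zd57) (kd xd14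 yd4 zd20) (kd xd4 yd26 zd21) (kd xd4 yd36 zd60) (kd xd3 yd42 zd60) (kd xd5 yd12 zd29) (kd xd3 yd43 zd1) (kd xd14 yd4 zd24) (kd xd9 yd18 zd1) (kd xd5 yd44 zd28) (kd xd3 yd43 zd3) (kd xd14 yd4 zd26) (kd xd14 yd4 zd27) (kd xd3 yd43 zd5) (kd xd6 yd12 zd19) (kd xd14 yd4 zd32) (kd xd3 yd43 zd7) (kd xd14 yd4 zd37) (kd xd3 yd43 zd9) (kd xd4 yd39 zd36) (kd xd11 yd23 zd2) (kd xd14 yd4 zd41)) (@D3.rec (fun _ => Pt) (kd xd6 yd1 zd1) (kd xd11 yd38 zd27) (kd xd3 yd43 zd12) (kd xd14 yd4 zd44) (kd xd4 yd58 zd36) (kd xd3 yd43 zd13) (kd xd14 yd4 zd45) (kd xd3 yd43 zd15) (kd xd5 yd44 zd26) (kd xd5 yd43 zd7) (kd xd8 yd49 zd60) (kd xd3 yd43 zd16) (kd xd9 yd29 zd29) (kd xd5 yd14 zd38) (kd xd9 yd48 zd3) (kd xd3 yd43 zd18) (kd xd6 yd7 zd51) (kd xd6 yd8 zd6) (kd xd14 yd1 zd39) (kd xd14 yd1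 zd40) (kd xd12 yd49 zd28) (kd xd9 yd50 zd17) (kd xd9 yd50 zd25) (kd xd11 yd37 zd32) (kd xd11 yd11 zd10) (kd xd7 yd57 zd17) (kd xd13 yd1 zd54) (kd xd3 yd43 zd24) (kd xd10 yd4 zd45) (kd xd3 yd43 zd26) (kd xd11 yd28 zd33) (kd xd11 yd28 zd34) (kd xd3 yd43 zd27) (kd xd12 yd56 zd52) (kd xd6 yd42 zd31) (kd xd11 yd26 zd58) (kd xd13 yd8 zd51) (kd xd14 yd2 zd6) (kd xd14 yd5 zd6) (kd xd3 yd43 zd31) (kd xd3 yd43 zd32) (kd xd14 yd5 zd8) (kd xd14 yd1 zd55) (kd xd14 yd5 zd10) (kd xd3 yd43 zd35) (kd xd14 yd5 zd11) (kd xd14 yd5 zd15) (kd xd14 yd5 zd17) (kd xd14 yd5 zd20) (kd xd3 yd43 zd37) (kd xd14 yd5 zd25) (kd xd14 yd5 zd27) (kd xd14 yd5 zd29) (kd xd3 yd43 zd38) (kd xd14 yd5 zd34) (kd xd14 yd5 zd37) (kd xd3 yd43 zd39) (kd xd7 yd21 zd21) (kd xd14 yd5 zd41) (kd xd3 yd43 zd40) (kd xd14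 yd5 zd45) (kd xd7 yd25 zd36)) (@D3.rec (fun _ => Pt) (kd xd7 yd26 zd1) (kd xd14 yd5 zd53) (kd xd3 yd43 zd42) (kd xd14 yd5 zd56) (kd xd3 yd43 zd43) (kd xd14 yd5 zd60) (kd xd14 yd5 zd61) (kd xd5 yd20 zd61) (kd xd3 yd43 zd45) (kd xd14 yd6 zd2) (kd xd3 yd43 zd47) (kd xd14 yd6 zd4) (kd xd14 yd6 zd6) (kd xd14 yd6 zd8) (kd xd3 yd43 zd49) (kd xd14 yd6 zd12) (kd xd14 yd6 zd15) (kd xd3 yd43 zd50) (kd xd14 yd6 zd20) (kd xd3 yd43 zd51) (kd xd7 yd20 zd41) (kd xd14 yd6 zd25) (kd xd3 yd43 zd52) (kd xd7 yd50 zd46) (kd xd7 yd52 zd47) (kd xd6 yd57 zd44) (kd xd7 yd53 zd60) (kd xd13 yd1 zd15) (kd xd3 yd43 zd54) (kd xd14 yd6 zd35) (kd xd14 yd6 zd36) (kd xd3 yd43 zd55) (kd xd14 yd6 zd40) (kd xd3 yd43 zd56) (kd xd14 yd6 zd45) (kd xd3 yd54 zd2) (kd xd3 yd54 zd3) (kd xd14 yd6 zd49) (kd xd14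 yd6 zd53) (kd xd14 yd6 zd56) (kd xd14 yd6 zd60) (kd xd3 yd43 zd58) (kd xd14 yd7 zd3) (kd xd14 yd7 zd5) (kd xd14 yd7 zd6) (kd xd3 yd43 zd59) (kd xd14 yd7 zd11) (kd xd3 yd55 zd53) (kd xd3 yd56 zd3) (kd xd14 yd7 zd16) (kd xd3 yd43 zd61) (kd xd12 yd23 zd4) (kd xd14 yd7 zd20) (kd xd14 yd7 zd21) (kd xd14 yd7 zd22) (kd xd14 yd7 zd24) (kd xd14 yd7 zd26) (kd xd3 yd44 zd3) (kd xd13 yd25 zd47) (kd xd14 yd7 zd33) (kd xd3 yd44 zd4) (kd xd14 yd7 zd36)) (@D3.rec (fun _ => Pt) (kd xd3 yd56 zd11) (kd xd7 yd54 zd8) (kd xd3 yd54 zd60) (kd xd9 yd10 zd7) (kd xd14 yd7 zd45) (kd xd14 yd7 zd47) (kd xd11 yd19 zd34) (kd xd3 yd44 zd7) (kd xd14 yd7 zd53) (kd xd3 yd55 zd3) (kd xd14 yd7 zd57) (kd xd3 yd44 zd9) (kd xd6 yd41 zd51) (kd xd6 yd41 zd52) (kd xd14 yd8 zd1) (kd xd14 yd8 zd4) (kd xd14 yd8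 zd6) (kd xd3 yd44 zd11) (kd xd14 yd8 zd10) (kd xd14 yd8 zd13) (kd xd10 yd59 zd14) (kd xd3 yd44 zd12) (kd xd14 yd8 zd23) (kd xd14 yd8 zd27) (kd xd14 yd8 zd30) (kd xd3 yd44 zd13) (kd xd14 yd8 zd35) (kd xd11 yd17 zd29) (kd xd14 yd8 zd42) (kd xd14 yd8 zd47) (kd xd3 yd44 zd15) (kd xd14 yd8 zd50) (kd xd14 yd8 zd51) (kd xd3 yd44 zd16) (kd xd14 yd8 zd59) (kd xd6 yd50 zd58) (kd xd14 yd9 zd2) (kd xd3 yd44 zd18) (kd xd14 yd9 zd5) (kd xd14 yd9 zd6) (kd xd3 yd44 zd19) (kd xd7 yd55 zd0) (kd xd6 yd50 zd57) (kd xd7 yd55 zd2) (kd xd7 yd5 zd22) (kd xd6 yd27 zd34) (kd xd13 yd25 zd39) (kd xd6 yd58 zd57) (kd xd6 yd27 zd31) (kd xd8 yd27 zd49) (kd xd6 yd27 zd37) (kd xd6 yd27 zd36) (kd xd12 yd19 zd0) (kd xd14 yd9 zd40) (kd xd3 yd44 zd26) (kd xd14 yd9 zd43) (kd xd14 yd9 zd44) (kd xd3 yd44 zd27)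 (kd xd10 yd35 zd20) (kd xd6 yd51 zd23) (kd xd6 yd51 zd24) (kd xd6 yd57 zd57)) (@D3.rec (fun _ => Pt) (kd xd10 yd35 zd19) (kd xd7 yd50 zd47) (kd xd3 yd44 zd29) (kd xd14 yd10 zd0) (kd xd14 yd10 zd1) (kd xd3 yd44 zd31) (kd xd14 yd10 zd8) (kd xd6 yd57 zd56) (kd xd12 yd0 zd53) (kd xd7 yd21 zd20) (kd xd3 yd44 zd33) (kd xd12 yd33 zd40) (kd xd9 yd21 zd1) (kd xd3 yd44 zd34) (kd xd14 yd10 zd16) (kd xd9 yd21 zd2) (kd xd3 yd44 zd35) (kd xd14 yd10 zd19) (kd xd14 yd10 zd22) (kd xd14 yd10 zd25) (kd xd3 yd44 zd36) (kd xd14 yd10 zd29) (kd xd14 yd10 zd32) (kd xd3 yd44 zd37) (kd xd7 yd15 zd44) (kd xd13 yd27 zd4) (kd xd3 yd44 zd39) (kd xd14 yd10 zd42) (kd xd3 yd44 zd40) (kd xd13 yd50 zd32) (kd xd13 yd46 zd39) (kd xd13 yd46 zd38) (kd xd14 yd10 zd49) (kd xd3 yd44 zd42) (kd xd13 yd50 zd33)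 (kd xd3 yd44 zd46) (kd xd4 yd36 zd40) (kd xd4 yd37 zd16) (kd xd4 yd41 zd47) (kd xd3 yd44 zd49) (kd xd11 yd21 zd59) (kd xd3 yd44 zd51) (kd xd3 yd44 zd52) (kd xd6 yd33 zd11) (kd xd14 yd10 zd58) (kd xd4 yd46 zd53) (kd xd14 yd10 zd59) (kd xd14 yd10 zd61) (kd xd14 yd11 zd1) (kd xd3 yd44 zd57) (kd xd14 yd11 zd6) (kd xd14 yd11 zd7) (kd xd3 yd44 zd59) (kd xd14 yd11 zd12) (kd xd13 yd45 zd12) (kd xd7 yd10 zd36) (kd xd6 yd52 zd61) (kd xd6 yd20 zd8) (kd xd3 yd45 zd4) (kd xd14 yd11 zd18) (kd xd14 yd11 zd19) (kd xd3 yd45 zd6)) (@D3.rec (fun _ => Pt) (kd xd14 yd0 zd60) (kd xd14 yd11 zd25) (kd xd3 yd45 zd8) (kd xd12 yd27 zd39) (kd xd12 yd34 zd61) (kd xd14 yd11 zd28) (kd xd3 yd45 zd9) (kd xd14 yd11 zd35) (kd xd14 yd11 zd36) (kd xd3 yd45 zd11) (kd xd12 yd15 zd49) (kd xd3 yd45 zd12) (kd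 xd14 yd11 zd38) (kd xd6 yd34 zd6) (kd xd14 yd11 zd42) (kd xd14 yd11 zd43) (kd xd3 yd45 zd15) (kd xd12 yd57 zd26) (kd xd3 yd45 zd16) (kd xd14 yd11 zd47) (kd xd6 yd20 zd9) (kd xd4 yd43 zd10) (kd xd6 yd28 zd51) (kd xd5 yd10 zd37) (kd xd3 yd45 zd19) (kd xd9 yd58 zd37) (kd xd14 yd11 zd30) (kd xd12 yd39 zd31) (kd xd6 yd34 zd58) (kd xd9 yd49 zd52) (kd xd12 yd16 zd53) (kd xd3 yd45 zd24) (kd xd12 yd38 zd54) (kd xd12 yd16 zd11) (kd xd4 yd42 zd5) (kd xd14 yd11 zd56) (kd xd5 yd56 zd30) (kd xd6 yd54 zd41) (kd xd5 yd4 zd13) (kd xd9 yd15 zd26) (kd xd6 yd54 zd40) (kd xd9 yd32 zd45) (kd xd14 yd12 zd2) (kd xd14 yd12 zd6) (kd xd3 yd45 zd32) (kd xd12 yd58 zd32) (kd xd6 yd34 zd47) (kd xd6 yd32 zd38) (kd xd14 yd12 zd15) (kd xd3 yd45 zd34) (kd xd8 yd37 zd22) (kd xd3 yd45 zd35) (kd xd12 yd37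 zd1) (kd xd7 yd48 zd49) (kd xd9 yd28 zd29) (kd xd3 yd45 zd38) (kd xd14 yd12 zd24) (kd xd3 yd45 zd39) (kd xd14 yd12 zd27) (kd xd3 yd45 zd40) (kd xd14 yd12 zd28) (kd xd7 yd7 zd28)) (@D3.rec (fun _ => Pt) (kd xd7 yd7 zd29) (kd xd4 yd41 zd30) (kd xd14 yd12 zd33) (kd xd14 yd12 zd36) (kd xd14 yd12 zd38) (kd xd3 yd45 zd42) (kd xd12 yd10 zd1) (kd xd3 yd45 zd43) (kd xd13 yd56 zd18) (kd xd3 yd48 zd4) (kd xd7 yd46 zd10) (kd xd14 yd12 zd46) (kd xd14 yd12 zd48) (kd xd14 yd12 zd52) (kd xd14 yd12 zd55) (kd xd14 yd12 zd57) (kd xd14 yd12 zd58) (kd xd3 yd45 zd48) (kd xd14 yd13 zd1) (kd xd14 yd13 zd2) (kd xd14 yd13 zd4) (kd xd3 yd45 zd49) (kd xd14 yd13 zd9) (kd xd7 yd10 zd17) (kd xd13 yd29 zd30) (kd xd3 yd45 zd51) (kd xd9 yd28 zd28) (kd xd9 yd6 zd15) (kd xd14 yd13 zd19) (kd xd14 yd13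 zd21) (kd xd3 yd45 zd53) (kd xd14 yd13 zd24) (kd xd10 yd20 zd16) (kd xd10 yd2 zd37) (kd xd3 yd45 zd54) (kd xd10 yd23 zd51) (kd xd10 yd41 zd6) (kd xd3 yd45 zd55) (kd xd14 yd13 zd29) (kd xd14 yd13 zd32) (kd xd3 yd45 zd56) (kd xd14 yd13 zd35) (kd xd13 yd46 zd18) (kd xd13 yd46 zd16) (kd xd9 yd34 zd9) (kd xd3 yd48 zd22) (kd xd5 yd43 zd1) (kd xd14 yd13 zd42) (kd xd3 yd45 zd60) (kd xd14 yd13 zd46) (kd xd3 yd48 zd27) (kd xd9 yd47 zd26) (kd xd14 yd13 zd53) (kd xd14 yd13 zd55) (kd xd14 yd13 zd57) (kd xd3 yd46 zd0) (kd xd14 yd14 zd0) (kd xd14 yd14 zd3) (kd xd14 yd14 zd6) (kd xd3 yd46 zd1) (kd xd14 yd14 zd12) (kd xd14 yd14 zd17)) (@D3.rec (fun _ => Pt) (kd xd14 yd14 zd19) (kd xd3 yd46 zd2) (kd xd13 yd52 zd61) (kd xd14 yd14 zd25) (kd xd7 yd39 zd56) (kd xd14 yd14 zd32) (kd xd3 yd46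 zd4) (kd xd14 yd14 zd34) (kd xd14 yd14 zd35) (kd xd3 yd46 zd5) (kd xd7 yd40 zd17) (kd xd3 yd53 zd1) (kd xd7 yd33 zd26) (kd xd7 yd40 zd19) (kd xd14 yd14 zd48) (kd xd14 yd14 zd49) (kd xd3 yd46 zd8) (kd xd13 yd13 zd14) (kd xd7 yd33 zd22) (kd xd14 yd14 zd59) (kd xd3 yd46 zd10) (kd xd14 yd15 zd2) (kd xd7 yd33 zd18) (kd xd3 yd46 zd11) (kd xd14 yd15 zd8) (kd xd13 yd4 zd45) (kd xd7 yd33 zd12) (kd xd3 yd46 zd12) (kd xd14 yd15 zd15) (kd xd7 yd24 zd52) (kd xd7 yd33 zd37) (kd xd14 yd15 zd20) (kd xd3 yd46 zd13) (kd xd7 yd1 zd8) (kd xd14 yd15 zd24) (kd xd3 yd46 zd15) (kd xd7 yd42 zd33) (kd xd7 yd33 zd30) (kd xd7 yd42 zd34) (kd xd7 yd52 zd61) (kd xd14 yd15 zd37) (kd xd3 yd46 zd18) (kd xd11 yd41 zd44) (kd xd11 yd33 zd0) (kd xd11 yd24 zd40) (kd xd11 yd35 zd12) (kd xd3 yd49 zd4) (kd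 xd3 yd49 zd5) (kd xd14 yd15 zd41) (kd xd14 yd15 zd44) (kd xd3 yd46 zd23) (kd xd3 yd46 zd24) (kd xd6 yd41 zd31) (kd xd14 yd15 zd52) (kd xd11 yd19 zd12) (kd xd11 yd59 zd18) (kd xd3 yd46 zd30) (kd xd3 yd46 zd32) (kd xd14 yd15 zd61) (kd xd12 yd9 zd58) (kd xd14 yd16 zd2) (kd xd14 yd16 zd3)) (@D3.rec (fun _ => Pt) (kd xd3 yd46 zd34) (kd xd14 yd16 zd6) (kd xd3 yd46 zd36) (kd xd3 yd46 zd37) (kd xd3 yd49 zd17) (kd xd11 yd27 zd37) (kd xd14 yd16 zd10) (kd xd9 yd2 zd51) (kd xd14 yd16 zd13) (kd xd14 yd16 zd17) (kd xd14 yd16 zd19) (kd xd3 yd46 zd41) (kd xd14 yd16 zd24) (kd xd14 yd16 zd25) (kd xd3 yd46 zd42) (kd xd11 yd32 zd18) (kd xd3 yd46 zd43) (kd xd7 yd48 zd9) (kd xd7 yd12 zd50) (kd xd7 yd12 zd51) (kd xd14 yd16 zd38) (kd xd14 yd16 zd41) (kd xd14 yd16 zd42) (kd xd3 yd46 zd45) (kd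 xd14 yd16 zd46) (kd xd14 yd16 zd51) (kd xd14 yd16 zd54) (kd xd3 yd46 zd46) (kd xd14 yd16 zd58) (kd xd14 yd16 zd61) (kd xd7 yd38 zd29) (kd xd3 yd46 zd48) (kd xd14 yd17 zd3) (kd xd3 yd46 zd49) (kd xd7 yd38 zd56) (kd xd7 yd38 zd58) (kd xd14 yd17 zd13) (kd xd14 yd17 zd14) (kd xd3 yd46 zd52) (kd xd7 yd47 zd27) (kd xd7 yd47 zd29) (kd xd7 yd12 zd48) (kd xd11 yd15 zd15) (kd xd7 yd12 zd49) (kd xd14 yd17 zd33) (kd xd13 yd29 zd5) (kd xd7 yd45 zd46) (kd xd3 yd47 zd58) (kd xd14 yd17 zd40) (kd xd3 yd46 zd60) (kd xd14 yd17 zd42) (kd xd5 yd53 zd5) (kd xd6 yd16 zd25) (kd xd14 yd17 zd46) (kd xd11 yd32 zd12) (kd xd6 yd3 zd41) (kd xd3 yd47 zd2) (kd xd14 yd17 zd50) (kd xd14 yd17 zd53) (kd xd3 yd47 zd3) (kd xd14 yd17 zd57) (kd xd14 yd17 zd58)) (@D3.rec (fun _ => Pt) (kd xd3 yd47 zd4) (kd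 xd7 yd3 zd53) (kd xd3 yd49 zd15) (kd xd13 yd40 zd5) (kd xd14 yd18 zd2) (kd xd3 yd47 zd6) (kd xd13 yd39 zd38) (kd xd14 yd18 zd6) (kd xd14 yd18 zd8) (kd xd3 yd47 zd10) (kd xd14 yd18 zd11) (kd xd14 yd18 zd13) (kd xd3 yd47 zd11) (kd xd14 yd18 zd17) (kd xd14 yd18 zd20) (kd xd3 yd47 zd12) (kd xd14 yd18 zd22) (kd xd3 yd47 zd13) (kd xd7 yd9 zd27) (kd xd7 yd1 zd2) (kd xd13 yd28 zd30) (kd xd9 yd30 zd10) (kd xd14 yd18 zd32) (kd xd14 yd18 zd33) (kd xd14 yd18 zd36) (kd xd14 yd18 zd39) (kd xd14 yd18 zd40) (kd xd3 yd47 zd18) (kd xd13 yd44 zd29) (kd xd14 yd18 zd44) (kd xd14 yd18 zd47) (kd xd3 yd47 zd19) (kd xd14 yd18 zd52) (kd xd13 yd39 zd44) (kd xd14 yd18 zd54) (kd xd14 yd18 zd56) (kd xd12 yd24 zd12) (kd xd13 yd54 zd30) (kd xd14 yd18 zd59) (kd xd14 yd18 zd60) (kd xd12 yd39 zd33) (kd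 xd14 yd19 zd0) (kd xd14 yd19 zd3) (kd xd14 yd19 zd6) (kd xd3 yd47 zd26) (kd xd14 yd19 zd12) (kd xd14 yd19 zd14) (kd xd3 yd47 zd27) (kd xd14 yd19 zd17) (kd xd7 yd9 zd26) (kd xd13 yd28 zd25) (kd xd6 yd32 zd44) (kd xd12 yd33 zd41) (kd xd3 yd47 zd29) (kd xd14 yd19 zd25) (kd xd14 yd19 zd28) (kd xd14 yd19 zd30) (kd xd3 yd47 zd32) (kd xd14 yd19 zd34) (kd xd11 yd44 zd36) (kd xd3 yd47 zd33) (kd xd14 yd19 zd39)) (@D3.rec (fun _ => Pt) (kd xd14 yd19 zd42) (kd xd14 yd19 zd45) (kd xd3 yd47 zd36) (kd xd14 yd19 zd49) (kd xd14 yd19 zd50) (kd xd14 yd19 zd53) (kd xd11 yd0 zd44) (kd xd11 yd0 zd10) (kd xd3 yd47 zd38) (kd xd14 yd20 zd0) (kd xd7 yd22 zd43) (kd xd7 yd23 zd31) (kd xd14 yd20 zd6) (kd xd7 yd17 zd9) (kd xd7 yd23 zd30) (kd xd14 yd20 zd9) (kd xd13 yd58 zd36) (kd xd11 yd23 zd56)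 (kd xd3 yd47 zd41) (kd xd14 yd20 zd14) (kd xd11 yd1 zd24) (kd xd11 yd1 zd28) (kd xd3 yd47 zd42) (kd xd14 yd20 zd24) (kd xd14 yd20 zd27) (kd xd10 yd41 zd42) (kd xd3 yd47 zd43) (kd xd14 yd20 zd31) (kd xd11 yd0 zd39) (kd xd10 yd41 zd31) (kd xd11 yd0 zd41) (kd xd14 yd17 zd37) (kd xd14 yd17 zd38) (kd xd9 yd48 zd14) (kd xd3 yd47 zd46) (kd xd10 yd32 zd26) (kd xd10 yd37 zd38) (kd xd3 yd47 zd47) (kd xd13 yd21 zd3) (kd xd14 yd20 zd55) (kd xd14 yd20 zd57) (kd xd3 yd47 zd48) (kd xd14 yd21 zd0) (kd xd14 yd21 zd3) (kd xd7 yd2 zd12) (kd xd14 yd21 zd11) (kd xd3 yd47 zd50) (kd xd14 yd21 zd14) (kd xd10 yd31 zd52) (kd xd7 yd2 zd52) (kd xd7 yd3 zd31) (kd xd7 yd45 zd59) (kd xd7 yd2 zd54) (kd xd14 yd21 zd23) (kd xd10 yd31 zd48) (kd xd3 yd47 zd54) (kd xd14 yd1 zd9) (kd xd13 yd17 zd3) (kd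 xd14 yd17 zd39) (kd xd13 yd17 zd0) (kd xd13 yd34 zd9) (kd xd13 yd22 zd18)) (@D3.rec (fun _ => Pt) (kd xd13 yd16 zd57) (kd xd13 yd22 zd21) (kd xd13 yd17 zd17) (kd xd13 yd17 zd11) (kd xd13 yd22 zd10) (kd xd14 yd10 zd40) (kd xd7 yd12 zd17) (kd xd14 yd21 zd49) (kd xd3 yd48 zd1) (kd xd14 yd21 zd52) (kd xd14 yd21 zd53) (kd xd3 yd48 zd2) (kd xd7 yd0 zd36) (kd xd7 yd3 zd32) (kd xd7 yd47 zd42) (kd xd7 yd48 zd27) (kd xd11 yd48 zd30) (kd xd14 yd22 zd7) (kd xd14 yd22 zd8) (kd xd3 yd48 zd6) (kd xd14 yd22 zd13) (kd xd13 yd17 zd5) (kd xd14 yd22 zd18) (kd xd3 yd48 zd8) (kd xd14 yd22 zd20) (kd xd14 yd22 zd22) (kd xd14 yd22 zd24) (kd xd14 yd22 zd25) (kd xd3 yd48 zd13) (kd xd9 yd26 zd19) (kd xd9 yd26 zd20) (kd xd3 yd48 zd14) (kd xd14 yd22 zd33) (kd xd3 yd55 zd36) (kd xd3 yd54 zd56) (kd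 xd11 yd42 zd52) (kd xd6 yd55 zd18) (kd xd3 yd48 zd17) (kd xd7 yd2 zd32) (kd xd7 yd2 zd30) (kd xd3 yd48 zd19) (kd xd13 yd23 zd43) (kd xd3 yd48 zd20) (kd xd14 yd22 zd39) (kd xd3 yd48 zd21) (kd xd14 yd22 zd41) (kd xd14 yd22 zd44) (kd xd14 yd22 zd47) (kd xd14 yd22 zd50) (kd xd3 yd48 zd23) (kd xd14 yd22 zd54) (kd xd7 yd15 zd38) (kd xd13 yd27 zd1) (kd xd3 yd48 zd25) (kd xd3 yd48 zd26) (kd xd14 yd22 zd60) (kd xd14 yd22 zd61) (kd xd14 yd23 zd0) (kd xd5 yd25 zd6) (kd xd3 yd48 zd28) (kd xd13 yd22 zd47) (kd xd9 yd5 zd49)) (@D3.rec (fun _ => Pt) (kd xd14 yd23 zd6) (kd xd3 yd48 zd31) (kd xd10 yd54 zd6) (kd xd14 yd23 zd10) (kd xd14 yd23 zd13) (kd xd3 yd48 zd33) (kd xd8 yd30 zd55) (kd xd14 yd23 zd15) (kd xd14 yd23 zd16) (kd xd3 yd48 zd34) (kd xd10 yd25 zd41) (kd xd14 yd23 zd21) (kd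 xd14 yd23 zd23) (kd xd3 yd48 zd35) (kd xd14 yd23 zd26) (kd xd7 yd0 zd18) (kd xd9 yd17 zd58) (kd xd14 yd23 zd32) (kd xd14 yd23 zd35) (kd xd14 yd23 zd37) (kd xd3 yd48 zd39) (kd xd14 yd23 zd42) (kd xd14 yd23 zd43) (kd xd14 yd23 zd46) (kd xd3 yd48 zd41) (kd xd7 yd41 zd2) (kd xd14 yd23 zd52) (kd xd14 yd23 zd54) (kd xd3 yd48 zd42) (kd xd7 yd34 zd30) (kd xd14 yd24 zd3) (kd xd14 yd24 zd6) (kd xd3 yd48 zd43) (kd xd14 yd24 zd11) (kd xd14 yd14 zd13) (kd xd13 yd18 zd32) (kd xd14 yd24 zd21) (kd xd3 yd48 zd45) (kd xd14 yd24 zd23) (kd xd14 yd24 zd24) (kd xd3 yd48 zd46) (kd xd13 yd18 zd51) (kd xd7 yd13 zd13) (kd xd13 yd43 zd43) (kd xd13 yd18 zd53) (kd xd14 yd24 zd38) (kd xd14 yd24 zd40) (kd xd14 yd24 zd42) (kd xd3 yd48 zd49) (kd xd14 yd24 zd48) (kd xd13 yd43 zd40) (kd xd14 yd24 zd53)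 (kd xd3 yd48 zd51) (kd xd13 yd44 zd7) (kd xd13 yd40 zd33) (kd xd14 yd21 zd61) (kd xd7 yd34 zd34) (kd xd13 yd43 zd31) (kd xd7 yd34 zd35) (kd xd13 yd43 zd59) (kd xd13 yd40 zd0) (kd xd3 yd48 zd56)) (@D3.rec (fun _ => Pt) (kd xd13 yd19 zd60) (kd xd7 yd13 zd14) (kd xd13 yd42 zd26) (kd xd13 yd19 zd61) (kd xd7 yd13 zd4) (kd xd13 yd42 zd23) (kd xd13 yd42 zd24) (kd xd14 yd25 zd28) (kd xd3 yd48 zd61) (kd xd7 yd0 zd47) (kd xd3 yd49 zd3) (kd xd14 yd25 zd31) (kd xd14 yd25 zd32) (kd xd14 yd25 zd33) (kd xd14 yd25 zd35) (kd xd14 yd25 zd36) (kd xd14 yd25 zd37) (kd xd3 yd49 zd8) (kd xd3 yd49 zd9) (kd xd8 yd47 zd12) (kd xd7 yd3 zd57) (kd xd7 yd41 zd46) (kd xd3 yd49 zd13) (kd xd14 yd18 zd0) (kd xd14 yd25 zd51) (kd xd3 yd49 zd18) (kd xd14 yd25 zd54) (kd xd3 yd49 zd19) (kd xd14 yd25 zd57)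 (kd xd6 yd16 zd29) (kd xd14 yd25 zd61) (kd xd14 yd26 zd2) (kd xd3 yd49 zd21) (kd xd10 yd47 zd12) (kd xd7 yd0 zd49) (kd xd6 yd16 zd19) (kd xd12 yd10 zd51) (kd xd6 yd16 zd42) (kd xd14 yd26 zd8) (kd xd3 yd49 zd24) (kd xd14 yd26 zd12) (kd xd14 yd16 zd23) (kd xd14 yd26 zd18) (kd xd3 yd49 zd25) (kd xd14 yd26 zd23) (kd xd14 yd26 zd25) (kd xd3 yd49 zd26) (kd xd3 yd49 zd27) (kd xd13 yd23 zd25) (kd xd14 yd26 zd33) (kd xd13 yd6 zd58) (kd xd14 yd26 zd40) (kd xd3 yd49 zd29) (kd xd14 yd26 zd43) (kd xd14 yd26 zd45) (kd xd3 yd49 zd30) (kd xd7 yd33 zd4) (kd xd14 yd26 zd56) (kd xd14 yd26 zd59) (kd xd3 yd49 zd31) (kd xd14 yd27 zd2) (kd xd14 yd16 zd47)) (@D3.rec (fun _ => Pt) (kd xd13 yd17 zd50) (kd xd14 yd27 zd13) (kd xd3 yd49 zd33) (kd xd14 yd27 zd16) (kd xd3 yd49 zd34) (kd xd13 yd33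 zd0) (kd xd13 yd18 zd2) (kd xd14 yd27 zd27) (kd xd14 yd27 zd28) (kd xd3 yd49 zd37) (kd xd13 yd22 zd56) (kd xd13 yd29 zd12) (kd xd13 yd22 zd58) (kd xd14 yd27 zd40) (kd xd13 yd31 zd51) (kd xd3 yd49 zd40) (kd xd14 yd27 zd45) (kd xd7 yd33 zd10) (kd xd13 yd31 zd50) (kd xd7 yd33 zd13) (kd xd14 yd27 zd54) (kd xd14 yd27 zd57) (kd xd13 yd32 zd38) (kd xd13 yd28 zd31) (kd xd10 yd46 zd7) (kd xd3 yd49 zd44) (kd xd13 yd21 zd19) (kd xd13 yd21 zd21) (kd xd3 yd49 zd47) (kd xd14 yd28 zd12) (kd xd3 yd49 zd48) (kd xd7 yd7 zd60) (kd xd13 yd43 zd54) (kd xd3 yd49 zd50) (kd xd11 yd32 zd6) (kd xd3 yd49 zd51) (kd xd7 yd7 zd17) (kd xd14 yd28 zd25) (kd xd13 yd43 zd42) (kd xd14 yd28 zd28) (kd xd3 yd49 zd52) (kd xd14 yd28 zd31) (kd xd6 yd59 zd41) (kd xd3 yd49 zd54) (kd xd12 yd23 zd0) (kd xd13 yd20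 zd56) (kd xd3 yd49 zd55) (kd xd14 yd28 zd41) (kd xd14 yd28 zd44) (kd xd14 yd28 zd46) (kd xd3 yd49 zd57) (kd xd14 yd28 zd50) (kd xd3 yd49 zd58) (kd xd14 yd28 zd52) (kd xd3 yd49 zd59) (kd xd12 yd47 zd50) (kd xd14 yd28 zd56) (kd xd3 yd49 zd61) (kd xd6 yd34 zd20) (kd xd14 yd28 zd58) (kd xd14 yd28 zd61) (kd xd14 yd29 zd1)) (@D3.rec (fun _ => Pt) (kd xd3 yd50 zd1) (kd xd14 yd29 zd5) (kd xd7 yd38 zd25) (kd xd14 yd29 zd10) (kd xd14 yd29 zd12) (kd xd14 yd29 zd13) (kd xd3 yd50 zd3) (kd xd14 yd29 zd16) (kd xd7 yd1 zd15) (kd xd8 yd46 zd17) (kd xd11 yd45 zd18) (kd xd11 yd45 zd20) (kd xd14 yd29 zd19) (kd xd14 yd29 zd21) (kd xd3 yd50 zd6) (kd xd14 yd29 zd26) (kd xd10 yd54 zd17) (kd xd14 yd29 zd28) (kd xd3 yd50 zd7) (kd xd14 yd29 zd32) (kd xd14 yd29 zd34) (kd xd14 yd29 zd36) (kd xd3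 yd50 zd8) (kd xd14 yd29 zd40) (kd xd13 yd44 zd13) (kd xd13 yd44 zd14) (kd xd14 yd29 zd47) (kd xd3 yd50 zd10) (kd xd14 yd29 zd50) (kd xd14 yd29 zd54) (kd xd14 yd29 zd56) (kd xd14 yd29 zd58) (kd xd3 yd50 zd14) (kd xd14 yd30 zd0) (kd xd14 yd30 zd1) (kd xd3 yd50 zd15) (kd xd7 yd44 zd19) (kd xd14 yd30 zd6) (kd xd3 yd50 zd16) (kd xd11 yd46 zd25) (kd xd14 yd20 zd61) (kd xd13 yd19 zd52) (kd xd14 yd30 zd18) (kd xd3 yd50 zd18) (kd xd13 yd40 zd12) (kd xd14 yd21 zd18) (kd xd7 yd39 zd21) (kd xd13 yd42 zd53) (kd xd13 yd42 zd43) (kd xd13 yd39 zd39) (kd xd13 yd34 zd5) (kd xd14 yd30 zd36) (kd xd3 yd50 zd23) (kd xd4 yd23 zd26) (kd xd3 yd50 zd24) (kd xd14 yd30 zd40) (kd xd14 yd30 zd41) (kd xd14 yd30 zd43) (kd xd3 yd50 zd26) (kd xd14 yd30 zd46) (kd xd14 yd30 zd47) (kd xd14 yd30 zd48))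 (@D3.rec (fun _ => Pt) (kd xd14 yd30 zd49) (kd xd3 yd50 zd28) (kd xd14 yd30 zd53) (kd xd10 yd33 zd33) (kd xd14 yd30 zd54) (kd xd14 yd30 zd56) (kd xd3 yd50 zd31) (kd xd7 yd1 zd31) (kd xd6 yd16 zd40) (kd xd14 yd30 zd59) (kd xd14 yd31 zd0) (kd xd14 yd31 zd2) (kd xd3 yd50 zd34) (kd xd14 yd31 zd7) (kd xd14 yd31 zd8) (kd xd3 yd50 zd35) (kd xd14 yd31 zd13) (kd xd3 yd50 zd36) (kd xd13 yd21 zd40) (kd xd14 yd31 zd19) (kd xd14 yd31 zd23) (kd xd14 yd31 zd28) (kd xd3 yd50 zd38) (kd xd3 yd50 zd39) (kd xd7 yd44 zd6) (kd xd14 yd31 zd38) (kd xd3 yd50 zd40) (kd xd7 yd44 zd48) (kd xd14 yd31 zd43) (kd xd13 yd19 zd27) (kd xd8 yd15 zd30) (kd xd3 yd50 zd42) (kd xd14 yd31 zd54) (kd xd7 yd33 zd36) (kd xd7 yd33 zd38) (kd xd13 yd33 zd16) (kd xd13 yd33 zd13) (kd xd13 yd32 zd23) (kd xd13 yd28 zd28)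 (kd xd13 yd44 zd30) (kd xd3 yd50 zd47) (kd xd14 yd32 zd11) (kd xd14 yd32 zd13) (kd xd11 yd16 zd20) (kd xd14 yd32 zd17) (kd xd14 yd32 zd20) (kd xd14 yd32 zd23) (kd xd3 yd50 zd50) (kd xd14 yd32 zd28) (kd xd3 yd50 zd51) (kd xd14 yd32 zd30) (kd xd7 yd50 zd52) (kd xd14 yd32 zd34) (kd xd14 yd32 zd35) (kd xd14 yd32 zd37) (kd xd3 yd50 zd53) (kd xd11 yd58 zd55) (kd xd14 yd32 zd39) (kd xd3 yd50 zd54) (kd xd14 yd32 zd41) (kd xd3 yd50 zd55) (kd xd7 yd52 zd58)) (@D3.rec (fun _ => Pt) (kd xd6 yd51 zd60) (kd xd14 yd5 zd51) (kd xd3 yd50 zd57) (kd xd9 yd17 zd56) (kd xd14 yd32 zd59) (kd xd14 yd32 zd61) (kd xd3 yd50 zd59) (kd xd14 yd33 zd3) (kd xd14 yd33 zd4) (kd xd12 yd29 zd7) (kd xd12 yd29 zd8) (kd xd6 yd49 zd39) (kd xd14 yd33 zd10) (kd xd14 yd33 zd12) (kd xd11 yd30 zd57) (kd xd3 yd51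 zd0) (kd xd14 yd33 zd15) (kd xd14 yd33 zd19) (kd xd14 yd33 zd22) (kd xd3 yd51 zd1) (kd xd14 yd33 zd28) (kd xd14 yd33 zd30) (kd xd14 yd33 zd31) (kd xd3 yd51 zd2) (kd xd14 yd33 zd34) (kd xd11 yd40 zd55) (kd xd14 yd33 zd41) (kd xd3 yd51 zd4) (kd xd14 yd33 zd45) (kd xd14 yd33 zd46) (kd xd3 yd51 zd5) (kd xd14 yd33 zd52) (kd xd7 yd18 zd36) (kd xd7 yd4 zd49) (kd xd7 yd23 zd17) (kd xd14 yd34 zd1) (kd xd3 yd51 zd7) (kd xd14 yd34 zd4) (kd xd14 yd34 zd5) (kd xd3 yd51 zd8) (kd xd14 yd7 zd17) (kd xd13 yd26 zd35) (kd xd13 yd50 zd1) (kd xd14 yd34 zd18) (kd xd13 yd36 zd54) (kd xd13 yd22 zd38) (kd xd14 yd34 zd27) (kd xd13 yd22 zd40) (kd xd14 yd34 zd33) (kd xd14 yd34 zd36) (kd xd14 yd34 zd41) (kd xd3 yd51 zd12) (kd xd14 yd5 zd50) (kd xd6 yd57 zd15) (kd xd14 yd34 zd48) (kd xd7 yd2 zd10)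 (kd xd7 yd2 zd14) (kd xd3 yd51 zd15) (kd xd14 yd34 zd55) (kd xd14 yd34 zd57) (kd xd14 yd34 zd61) (kd xd3 yd51 zd16)) (@D3.rec (fun _ => Pt) (kd xd14 yd35 zd3) (kd xd14 yd35 zd5) (kd xd3 yd51 zd17) (kd xd14 yd18 zd50) (kd xd3 yd51 zd18) (kd xd14 yd35 zd14) (kd xd7 yd42 zd24) (kd xd14 yd35 zd19) (kd xd3 yd51 zd20) (kd xd14 yd35 zd23) (kd xd14 yd35 zd25) (kd xd14 yd35 zd28) (kd xd3 yd51 zd22) (kd xd14 yd35 zd33) (kd xd3 yd51 zd23) (kd xd14 yd19 zd16) (kd xd3 yd51 zd24) (kd xd14 yd35 zd41) (kd xd13 yd20 zd49) (kd xd7 yd41 zd36) (kd xd3 yd51 zd26) (kd xd12 yd1 zd8) (kd xd14 yd35 zd46) (kd xd14 yd35 zd48) (kd xd14 yd35 zd49) (kd xd14 yd35 zd51) (kd xd14 yd35 zd55) (kd xd14 yd35 zd59) (kd xd14 yd36 zd0) (kd xd3 yd51 zd30) (kd xd14 yd36 zd3) (kd xd3 yd51 zd31) (kd xd10 yd14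 zd36) (kd xd14 yd36 zd9) (kd xd3 yd51 zd32) (kd xd12 yd28 zd7) (kd xd12 yd28 zd2) (kd xd14 yd36 zd18) (kd xd3 yd51 zd34) (kd xd14 yd36 zd21) (kd xd10 yd42 zd44) (kd xd14 yd36 zd24) (kd xd3 yd51 zd35) (kd xd14 yd36 zd31) (kd xd14 yd36 zd33) (kd xd14 yd36 zd35) (kd xd3 yd51 zd36) (kd xd14 yd36 zd41) (kd xd7 yd42 zd27) (kd xd13 yd20 zd44) (kd xd14 yd36 zd49) (kd xd14 yd36 zd53) (kd xd14 yd36 zd55) (kd xd3 yd51 zd38) (kd xd13 yd21 zd2) (kd xd14 yd36 zd57) (kd xd10 yd32 zd29) (kd xd11 yd29 zd39) (kd xd14 yd37 zd0) (kd xd3 yd51 zd40) (kd xd14 yd37 zd4) (kd xd14 yd37 zd6)) (@D3.rec (fun _ => Pt) (kd xd14 yd37 zd9) (kd xd14 yd18 zd49) (kd xd3 yd51 zd42) (kd xd14 yd37 zd12) (kd xd14 yd37 zd15) (kd xd14 yd37 zd20) (kd xd3 yd51 zd43) (kd xd13 yd45 zd24) (kd xd11 yd30 zd19) (kd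 xd14 yd37 zd27) (kd xd3 yd51 zd44) (kd xd9 yd3 zd57) (kd xd14 yd37 zd34) (kd xd14 yd37 zd37) (kd xd14 yd37 zd42) (kd xd3 yd51 zd45) (kd xd14 yd37 zd47) (kd xd14 yd37 zd49) (kd xd3 yd51 zd47) (kd xd14 yd37 zd51) (kd xd14 yd37 zd52) (kd xd3 yd51 zd48) (kd xd13 yd16 zd51) (kd xd14 yd37 zd57) (kd xd14 yd37 zd58) (kd xd3 yd51 zd49) (kd xd14 yd38 zd0) (kd xd14 yd30 zd9) (kd xd14 yd29 zd57) (kd xd14 yd38 zd10) (kd xd12 yd40 zd15) (kd xd3 yd51 zd51) (kd xd3 yd51 zd52) (kd xd14 yd38 zd12) (kd xd3 yd51 zd53) (kd xd13 yd56 zd7) (kd xd13 yd44 zd47) (kd xd14 yd38 zd18) (kd xd12 yd29 zd37) (kd xd14 yd38 zd21) (kd xd13 yd21 zd11) (kd xd13 yd21 zd12) (kd xd3 yd51 zd55) (kd xd7 yd2 zd49) (kd xd3 yd51 zd57) (kd xd7 yd11 zd30) (kd xd7 yd34 zd46) (kd xd14 yd38 zd30) (kd xd7 yd16 zd13)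 (kd xd14 yd38 zd36) (kd xd13 yd44 zd36) (kd xd13 yd22 zd57) (kd xd13 yd22 zd59) (kd xd9 yd45 zd28) (kd xd8 yd22 zd3) (kd xd14 yd38 zd49) (kd xd14 yd38 zd51) (kd xd3 yd52 zd1) (kd xd14 yd38 zd56) (kd xd7 yd36 zd51) (kd xd3 yd52 zd4) (kd xd14 yd38 zd59)) (@D3.rec (fun _ => Pt) (kd xd10 yd31 zd49) (kd xd14 yd39 zd0) (kd xd3 yd52 zd6) (kd xd13 yd19 zd47) (kd xd13 yd19 zd48) (kd xd10 yd39 zd61) (kd xd14 yd1 zd10) (kd xd14 yd39 zd7) (kd xd3 yd52 zd11) (kd xd14 yd39 zd10) (kd xd7 yd32 zd10) (kd xd13 yd21 zd56) (kd xd13 yd21 zd46) (kd xd14 yd39 zd17) (kd xd14 yd39 zd21) (kd xd14 yd39 zd23) (kd xd3 yd52 zd14) (kd xd14 yd39 zd27) (kd xd14 yd39 zd28) (kd xd4 yd28 zd21) (kd xd3 yd52 zd15) (kd xd14 yd39 zd33) (kd xd13 yd21 zd26) (kd xd14 yd39 zd36) (kd xd14 yd39 zd39) (kd xd14 yd39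 zd42) (kd xd3 yd52 zd18) (kd xd14 yd39 zd46) (kd xd13 yd23 zd29) (kd xd14 yd39 zd51) (kd xd13 yd22 zd60) (kd xd14 yd39 zd57) (kd xd14 yd40 zd1) (kd xd14 yd40 zd6) (kd xd14 yd40 zd8) (kd xd3 yd52 zd21) (kd xd12 yd23 zd1) (kd xd14 yd37 zd46) (kd xd14 yd28 zd36) (kd xd14 yd40 zd20) (kd xd14 yd40 zd23) (kd xd3 yd52 zd24) (kd xd13 yd27 zd3) (kd xd3 yd52 zd26) (kd xd14 yd40 zd32) (kd xd7 yd1 zd12) (kd xd7 yd2 zd37) (kd xd7 yd17 zd22) (kd xd14 yd40 zd40) (kd xd3 yd52 zd28) (kd xd3 yd52 zd29) (kd xd13 yd50 zd37) (kd xd13 yd28 zd52) (kd xd13 yd21 zd18) (kd xd13 yd21 zd14) (kd xd14 yd25 zd16) (kd xd13 yd16 zd56) (kd xd14 yd40 zd58) (kd xd13 yd16 zd58) (kd xd13 yd33 zd56) (kd xd14 yd41 zd4) (kd xd14 yd41 zd9)) (@D3.rec (fun _ => Pt) (kd xd3 yd52 zd33) (kd xd14 yd41 zd12) (kd xd14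 yd41 zd13) (kd xd3 yd52 zd36) (kd xd13 yd3 zd41) (kd xd13 yd3 zd61) (kd xd3 yd52 zd40) (kd xd14 yd41 zd25) (kd xd3 yd52 zd41) (kd xd14 yd41 zd28) (kd xd14 yd41 zd29) (kd xd14 yd41 zd30) (kd xd3 yd52 zd45) (kd xd13 yd17 zd33) (kd xd14 yd22 zd59) (kd xd10 yd33 zd32) (kd xd14 yd41 zd39) (kd xd3 yd52 zd47) (kd xd3 yd52 zd48) (kd xd14 yd41 zd43) (kd xd13 yd44 zd37) (kd xd14 yd41 zd48) (kd xd14 yd41 zd53) (kd xd14 yd41 zd57) (kd xd13 yd22 zd49) (kd xd13 yd22 zd50) (kd xd3 yd52 zd50) (kd xd7 yd34 zd39) (kd xd13 yd21 zd24) (kd xd7 yd34 zd40) (kd xd14 yd42 zd11) (kd xd13 yd21 zd25) (kd xd3 yd52 zd52) (kd xd14 yd17 zd61) (kd xd11 yd26 zd45) (kd xd8 yd35 zd11) (kd xd14 yd42 zd25) (kd xd14 yd42 zd28) (kd xd3 yd52 zd54) (kd xd14 yd42 zd33) (kd xd11 yd15 zd17) (kd xd7 yd0 zd7) (kd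 xd7 yd37 zd14) (kd xd14 yd42 zd38) (kd xd3 yd52 zd57) (kd xd3 yd52 zd58) (kd xd14 yd42 zd43) (kd xd3 yd52 zd59) (kd xd14 yd42 zd47) (kd xd3 yd52 zd60) (kd xd14 yd42 zd49) (kd xd14 yd42 zd51) (kd xd9 yd22 zd41) (kd xd3 yd52 zd61) (kd xd10 yd7 zd23) (kd xd10 yd7 zd21) (kd xd3 yd53 zd3) (kd xd14 yd42 zd55) (kd xd14 yd42 zd56) (kd xd3 yd53 zd4) (kd xd13 yd49 zd12) (kd xd7 yd15 zd28)) (@D3.rec (fun _ => Pt) (kd xd7 yd4 zd6) (kd xd12 yd46 zd17) (kd xd13 yd49 zd14) (kd xd3 yd53 zd7) (kd xd11 yd49 zd49) (kd xd3 yd53 zd13) (kd xd3 yd53 zd14) (kd xd14 yd43 zd17) (kd xd14 yd43 zd19) (kd xd7 yd34 zd17) (kd xd14 yd43 zd26) (kd xd14 yd43 zd29) (kd xd13 yd18 zd26) (kd xd3 yd53 zd16) (kd xd14 yd43 zd33) (kd xd13 yd22 zd4) (kd xd14 yd43 zd38) (kd xd14 yd43 zd41) (kd xd14 yd14 zd26)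 (kd xd3 yd53 zd18) (kd xd14 yd43 zd49) (kd xd14 yd1 zd13) (kd xd3 yd53 zd21) (kd xd14 yd43 zd54) (kd xd14 yd43 zd55) (kd xd11 yd0 zd47) (kd xd3 yd53 zd22) (kd xd7 yd37 zd15) (kd xd3 yd53 zd26) (kd xd14 yd44 zd0) (kd xd7 yd1 zd5) (kd xd7 yd3 zd28) (kd xd7 yd12 zd44) (kd xd14 yd44 zd10) (kd xd3 yd53 zd28) (kd xd3 yd53 zd29) (kd xd13 yd27 zd6) (kd xd7 yd12 zd54) (kd xd13 yd24 zd53) (kd xd14 yd44 zd23) (kd xd3 yd53 zd32) (kd xd14 yd44 zd27) (kd xd3 yd53 zd33) (kd xd14 yd10 zd39) (kd xd3 yd53 zd53) (kd xd12 yd33 zd31) (kd xd6 yd49 zd59) (kd xd12 yd48 zd47) (kd xd14 yd44 zd39) (kd xd7 yd31 zd53) (kd xd12 yd48 zd49) (kd xd14 yd44 zd43) (kd xd8 yd25 zd0) (kd xd12 yd18 zd37) (kd xd12 yd13 zd9) (kd xd13 yd52 zd2) (kd xd13 yd52 zd3) (kd xd14 yd44 zd47) (kd xd3 yd53 zd41) (kd xd14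 yd44 zd51) (kd xd14 yd44 zd54) (kd xd3 yd53 zd43)) (@D3.rec (fun _ => Pt) (kd xd13 yd51 zd2) (kd xd13 yd51 zd3) (kd xd14 yd44 zd60) (kd xd3 yd53 zd44) (kd xd7 yd14 zd45) (kd xd13 yd51 zd14) (kd xd13 yd51 zd15) (kd xd14 yd45 zd8) (kd xd3 yd53 zd46) (kd xd9 yd14 zd57) (kd xd9 yd14 zd55) (kd xd3 yd53 zd48) (kd xd13 yd46 zd51) (kd xd3 yd53 zd50) (kd xd14 yd45 zd18) (kd xd13 yd14 zd19) (kd xd12 yd0 zd44) (kd xd11 yd3 zd35) (kd xd14 yd45 zd33) (kd xd14 yd45 zd36) (kd xd14 yd44 zd32) (kd xd5 yd48 zd43) (kd xd14 yd45 zd39) (kd xd14 yd45 zd41) (kd xd14 yd45 zd43) (kd xd3 yd53 zd55) (kd xd14 yd45 zd48) (kd xd14 yd45 zd49) (kd xd14 yd45 zd50) (kd xd3 yd53 zd56) (kd xd14 yd45 zd52) (kd xd3 yd53 zd57) (kd xd13 yd24 zd52) (kd xd7 yd16 zd35) (kd xd7 yd16 zd31) (kd xd3 yd53 zd59) (kd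 xd14 yd45 zd60) (kd xd3 yd53 zd60) (kd xd3 yd53 zd61) (kd xd13 yd56 zd41) (kd xd14 yd46 zd4) (kd xd13 yd0 zd52) (kd xd14 yd46 zd6) (kd xd14 yd46 zd7) (kd xd8 yd32 zd60) (kd xd14 yd46 zd12) (kd xd14 yd46 zd14) (kd xd3 yd54 zd5) (kd xd8 yd34 zd6) (kd xd13 yd9 zd36) (kd xd13 yd20 zd32) (kd xd3 yd54 zd7) (kd xd14 yd40 zd13) (kd xd5 yd35 zd53) (kd xd14 yd46 zd20) (kd xd14 yd46 zd21) (kd xd14 yd46 zd23) (kd xd3 yd54 zd11) (kd xd7 yd4 zd56) (kd xd13 yd24 zd50) (kd xd6 yd31 zd10) (kd xd6 yd31 zd11)) (@D3.rec (fun _ => Pt) (kd xd14 yd46 zd32) (kd xd14 yd46 zd34) (kd xd3 yd54 zd14) (kd xd14 yd46 zd38) (kd xd14 yd46 zd42) (kd xd5 yd43 zd35) (kd xd3 yd54 zd15) (kd xd14 yd4 zd19) (kd xd14 yd46 zd49) (kd xd3 yd54 zd16) (kd xd13 yd58 zd58) (kd xd13 yd54 zd48) (kd xd14 yd46 zd59) (kd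 xd3 yd54 zd18) (kd xd14 yd47 zd1) (kd xd14 yd47 zd2) (kd xd3 yd54 zd19) (kd xd13 yd55 zd1) (kd xd7 yd4 zd55) (kd xd11 yd50 zd57) (kd xd13 yd55 zd3) (kd xd14 yd47 zd17) (kd xd14 yd47 zd18) (kd xd3 yd54 zd22) (kd xd14 yd47 zd26) (kd xd11 yd50 zd58) (kd xd14 yd47 zd31) (kd xd3 yd54 zd24) (kd xd13 yd25 zd52) (kd xd6 yd56 zd27) (kd xd7 yd54 zd61) (kd xd13 yd25 zd53) (kd xd13 yd45 zd51) (kd xd13 yd26 zd26) (kd xd6 yd55 zd40) (kd xd13 yd45 zd41) (kd xd14 yd47 zd55) (kd xd3 yd54 zd27) (kd xd13 yd45 zd45) (kd xd7 yd52 zd33) (kd xd9 yd10 zd55) (kd xd3 yd54 zd30) (kd xd11 yd2 zd54) (kd xd8 yd7 zd42) (kd xd3 yd54 zd31) (kd xd14 yd48 zd7) (kd xd7 yd28 zd23) (kd xd7 yd30 zd1) (kd xd13 yd45 zd58) (kd xd14 yd48 zd13) (kd xd7 yd24 zd21) (kd xd3 yd54 zd33) (kd xd7 yd42 zd51) (kd xd7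 yd53 zd14) (kd xd7 yd53 zd15) (kd xd14 yd48 zd19) (kd xd3 yd54 zd35) (kd xd14 yd48 zd21) (kd xd3 yd54 zd36) (kd xd14 yd48 zd25) (kd xd14 yd48 zd26) (kd xd14 yd48 zd27)) (@D3.rec (fun _ => Pt) (kd xd3 yd54 zd39) (kd xd14 yd48 zd34) (kd xd13 yd45 zd57) (kd xd14 yd48 zd40) (kd xd7 yd22 zd33) (kd xd3 yd54 zd41) (kd xd13 yd56 zd42) (kd xd14 yd24 zd44) (kd xd3 yd54 zd42) (kd xd13 yd53 zd58) (kd xd14 yd48 zd44) (kd xd13 yd4 zd38) (kd xd3 yd54 zd46) (kd xd11 yd25 zd61) (kd xd14 yd48 zd52) (kd xd14 yd48 zd55) (kd xd14 yd48 zd59) (kd xd14 yd48 zd61) (kd xd3 yd54 zd49) (kd xd14 yd49 zd4) (kd xd14 yd49 zd7) (kd xd14 yd49 zd10) (kd xd3 yd54 zd50) (kd xd14 yd49 zd14) (kd xd9 yd10 zd50) (kd xd3 yd54 zd51) (kd xd7 yd11 zd18) (kd xd14 yd22 zd34) (kd xd3 yd54 zd53) (kd xd3 yd54 zd54)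 (kd xd3 yd54 zd55) (kd xd7 yd11 zd10) (kd xd14 yd19 zd47) (kd xd6 yd56 zd10) (kd xd11 yd4 zd1) (kd xd7 yd2 zd19) (kd xd11 yd3 zd50) (kd xd14 yd49 zd32) (kd xd14 yd49 zd34) (kd xd12 yd47 zd58) (kd xd3 yd54 zd61) (kd xd7 yd4 zd30) (kd xd13 yd25 zd33) (kd xd13 yd57 zd47) (kd xd10 yd47 zd25) (kd xd14 yd49 zd44) (kd xd14 yd49 zd46) (kd xd12 yd47 zd61) (kd xd14 yd49 zd48) (kd xd3 yd55 zd4) (kd xd14 yd49 zd52) (kd xd7 yd4 zd42) (kd xd7 yd4 zd29) (kd xd14 yd34 zd3) (kd xd3 yd55 zd6) (kd xd7 yd26 zd27) (kd xd7 yd26 zd28) (kd xd4 yd34 zd40) (kd xd14 yd50 zd4) (kd xd14 yd50 zd7) (kd xd14 yd50 zd10) (kd xd3 yd55 zd8)) (@D3.rec (fun _ => Pt) (kd xd14 yd50 zd15) (kd xd14 yd50 zd18) (kd xd11 yd42 zd56) (kd xd3 yd55 zd9) (kd xd13 yd54 zd52) (kd xd14 yd50 zd30) (kd xd11 yd42 zd55) (kd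 xd3 yd55 zd10) (kd xd14 yd50 zd37) (kd xd14 yd8 zd24) (kd xd14 yd4 zd13) (kd xd14 yd50 zd46) (kd xd3 yd55 zd12) (kd xd11 yd3 zd51) (kd xd9 yd7 zd4) (kd xd6 yd55 zd6) (kd xd13 yd36 zd50) (kd xd13 yd13 zd41) (kd xd11 yd2 zd50) (kd xd11 yd32 zd47) (kd xd3 yd55 zd15) (kd xd13 yd25 zd40) (kd xd6 yd56 zd11) (kd xd13 yd25 zd42) (kd xd13 yd36 zd35) (kd xd13 yd36 zd24) (kd xd14 yd51 zd12) (kd xd13 yd36 zd21) (kd xd13 yd36 zd27) (kd xd13 yd36 zd26) (kd xd14 yd51 zd20) (kd xd3 yd55 zd20) (kd xd14 yd22 zd36) (kd xd7 yd50 zd39) (kd xd14 yd51 zd27) (kd xd3 yd55 zd22) (kd xd14 yd51 zd30) (kd xd14 yd51 zd31) (kd xd3 yd55 zd23) (kd xd7 yd22 zd32) (kd xd7 yd24 zd24) (kd xd13 yd36 zd41) (kd xd13 yd2 zd40) (kd xd3 yd55 zd25) (kd xd14 yd51 zd51) (kd xd6 yd55 zd2) (kd xd14 yd51 zd56) (kd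 xd7 yd28 zd24) (kd xd3 yd55 zd27) (kd xd6 yd55 zd0) (kd xd14 yd52 zd0) (kd xd3 yd55 zd29) (kd xd7 yd6 zd61) (kd xd14 yd52 zd3) (kd xd3 yd55 zd31) (kd xd13 yd7 zd57) (kd xd13 yd36 zd20) (kd xd13 yd36 zd23) (kd xd7 yd42 zd61) (kd xd14 yd49 zd21) (kd xd6 yd52 zd58) (kd xd7 yd33 zd39)) (@D3.rec (fun _ => Pt) (kd xd7 yd3 zd5) (kd xd7 yd6 zd41) (kd xd14 yd42 zd39) (kd xd7 yd6 zd39) (kd xd14 yd52 zd29) (kd xd3 yd55 zd40) (kd xd4 yd59 zd36) (kd xd14 yd52 zd32) (kd xd14 yd52 zd34) (kd xd3 yd55 zd42) (kd xd11 yd45 zd0) (kd xd14 yd52 zd38) (kd xd3 yd55 zd43) (kd xd3 yd55 zd44) (kd xd7 yd50 zd53) (kd xd7 yd50 zd54) (kd xd14 yd45 zd57) (kd xd14 yd52 zd45) (kd xd3 yd55 zd47) (kd xd14 yd52 zd47) (kd xd14 yd52 zd50) (kd xd3 yd55 zd49) (kd xd14 yd52 zd52) (kd xd3 yd55 zd50) (kd xd13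 yd4 zd9) (kd xd6 yd55 zd20) (kd xd14 yd49 zd25) (kd xd3 yd55 zd52) (kd xd14 yd7 zd12) (kd xd14 yd52 zd60) (kd xd3 yd55 zd55) (kd xd5 yd25 zd10) (kd xd3 yd55 zd56) (kd xd14 yd53 zd4) (kd xd7 yd24 zd32) (kd xd13 yd3 zd59) (kd xd7 yd22 zd35) (kd xd14 yd53 zd14) (kd xd3 yd55 zd58) (kd xd3 yd55 zd59) (kd xd14 yd5 zd54) (kd xd13 yd4 zd48) (kd xd14 yd53 zd20) (kd xd3 yd56 zd0) (kd xd14 yd53 zd24) (kd xd3 yd56 zd1) (kd xd14 yd32 zd53) (kd xd6 yd58 zd7) (kd xd7 yd16 zd58) (kd xd7 yd17 zd52) (kd xd13 yd14 zd60) (kd xd13 yd50 zd34) (kd xd13 yd38 zd48) (kd xd14 yd53 zd47) (kd xd7 yd4 zd11) (kd xd3 yd56 zd6) (kd xd14 yd53 zd53) (kd xd14 yd53 zd55) (kd xd14 yd53 zd57) (kd xd3 yd56 zd7) (kd xd7 yd28 zd26) (kd xd13 yd53 zd27)) (@D3.rec (fun _ => Pt) (kd xd14 yd54 zd6) (kd xd3 yd56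 zd9) (kd xd14 yd7 zd37) (kd xd13 yd57 zd37) (kd xd14 yd54 zd11) (kd xd14 yd54 zd12) (kd xd14 yd54 zd14) (kd xd3 yd56 zd13) (kd xd7 yd29 zd1) (kd xd14 yd46 zd19) (kd xd7 yd4 zd39) (kd xd7 yd4 zd40) (kd xd13 yd20 zd14) (kd xd14 yd7 zd14) (kd xd13 yd25 zd58) (kd xd13 yd25 zd41) (kd xd13 yd26 zd24) (kd xd13 yd25 zd59) (kd xd13 yd25 zd38) (kd xd14 yd45 zd56) (kd xd13 yd25 zd44) (kd xd13 yd25 zd43) (kd xd14 yd54 zd57) (kd xd3 yd56 zd19) (kd xd13 yd25 zd0) (kd xd13 yd25 zd1) (kd xd3 yd56 zd20) (kd xd7 yd54 zd34) (kd xd13 yd24 zd56) (kd xd13 yd24 zd59) (kd xd14 yd55 zd6) (kd xd3 yd56 zd24) (kd xd13 yd25 zd37) (kd xd12 yd26 zd29) (kd xd7 yd54 zd27) (kd xd13 yd13 zd50) (kd xd7 yd22 zd6) (kd xd14 yd55 zd17) (kd xd3 yd56 zd27) (kd xd14 yd55 zd20) (kd xd3 yd56 zd28) (kd xd14 yd55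 zd22) (kd xd14 yd55 zd23) (kd xd3 yd56 zd29) (kd xd7 yd22 zd8) (kd xd14 yd3 zd21) (kd xd14 yd55 zd33) (kd xd3 yd56 zd31) (kd xd13 yd59 zd29) (kd xd13 yd59 zd31) (kd xd14 yd55 zd39) (kd xd14 yd55 zd41) (kd xd14 yd55 zd42) (kd xd3 yd56 zd34) (kd xd7 yd22 zd60) (kd xd14 yd49 zd58) (kd xd13 yd24 zd44) (kd xd14 yd55 zd55) (kd xd7 yd5 zd26) (kd xd13 yd25 zd12) (kd xd13 yd24 zd60) (kd xd7 yd50 zd30)) (@D3.rec (fun _ => Pt) (kd xd7 yd29 zd41) (kd xd13 yd24 zd57) (kd xd7 yd29 zd43) (kd xd14 yd56 zd16) (kd xd3 yd56 zd39) (kd xd14 yd56 zd19) (kd xd14 yd56 zd22) (kd xd14 yd56 zd26) (kd xd3 yd56 zd40) (kd xd14 yd56 zd31) (kd xd7 yd24 zd2) (kd xd7 yd24 zd5) (kd xd13 yd59 zd30) (kd xd3 yd56 zd44) (kd xd14 yd15 zd32) (kd xd3 yd56 zd45) (kd xd14 yd56 zd44) (kd xd8 yd21 zd4) (kd xd4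 yd52 zd30) (kd xd13 yd52 zd13) (kd xd6 yd9 zd19) (kd xd14 yd56 zd52) (kd xd3 yd56 zd49) (kd xd14 yd56 zd55) (kd xd3 yd56 zd51) (kd xd4 yd3 zd49) (kd xd5 yd15 zd13) (kd xd14 yd57 zd1) (kd xd3 yd56 zd54) (kd xd7 yd55 zd29) (kd xd14 yd57 zd4) (kd xd5 yd19 zd5) (kd xd4 yd20 zd47) (kd xd9 yd38 zd26) (kd xd10 yd10 zd48) (kd xd10 yd19 zd54) (kd xd10 yd19 zd53) (kd xd8 yd5 zd53) (kd xd9 yd38 zd28) (kd xd14 yd57 zd21) (kd xd8 yd6 zd54) (kd xd8 yd2 zd48) (kd xd8 yd36 zd46) (kd xd14 yd57 zd23) (kd xd10 yd0 zd55) (kd xd14 yd57 zd27) (kd xd10 yd42 zd51) (kd xd5 yd23 zd30) (kd xd10 yd29 zd17) (kd xd10 yd29 zd18) (kd xd8 yd4 zd41) (kd xd9 yd45 zd5) (kd xd14 yd57 zd38) (kd xd14 yd57 zd43) (kd xd3 yd57 zd6) (kd xd14 yd57 zd46) (kd xd9 yd53 zd9) (kd xd8 yd8 zd31) (kd xd14 yd57 zd57)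 (kd xd3 yd57 zd7) (kd xd4 yd23 zd38) (kd xd14 yd57 zd2)) (@D3.rec (fun _ => Pt) (kd xd14 yd58 zd3) (kd xd14 yd58 zd5) (kd xd14 yd58 zd7) (kd xd3 yd57 zd11) (kd xd4 yd54 zd17) (kd xd4 yd9 zd1) (kd xd5 yd9 zd2) (kd xd4 yd1 zd46) (kd xd9 yd44 zd61) (kd xd14 yd58 zd18) (kd xd5 yd1 zd12) (kd xd5 yd9 zd8) (kd xd8 yd43 zd54) (kd xd8 yd43 zd55) (kd xd14 yd58 zd21) (kd xd3 yd57 zd17) (kd xd14 yd58 zd26) (kd xd3 yd57 zd19) (kd xd3 yd57 zd20) (kd xd12 yd6 zd38) (kd xd3 yd57 zd23) (kd xd11 yd23 zd34) (kd xd7 yd14 zd19) (kd xd3 yd57 zd28) (kd xd3 yd57 zd29) (kd xd5 yd37 zd41) (kd xd5 yd37 zd42) (kd xd14 yd58 zd52) (kd xd3 yd57 zd61) (kd xd3 yd57 zd31) (kd xd3 yd59 zd59) (kd xd14 yd59 zd1) (kd xd3 yd58 zd52) (kd xd8 yd4 zd51) (kd xd4 yd22 zd10) (kd xd14 yd59 zd14) (kd xd14 yd59 zd18)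 (kd xd11 yd23 zd16) (kd xd3 yd58 zd2) (kd xd12 yd5 zd19) (kd xd13 yd41 zd0) (kd xd14 yd59 zd25) (kd xd3 yd57 zd41) (kd xd3 yd57 zd42) (kd xd9 yd23 zd56) (kd xd14 yd59 zd29) (kd xd14 yd59 zd32) (kd xd7 yd5 zd41) (kd xd13 yd38 zd29) (kd xd14 yd59 zd34) (kd xd3 yd57 zd43) (kd xd9 yd22 zd11) (kd xd8 yd39 zd1) (kd xd14 yd59 zd40) (kd xd14 yd59 zd41) (kd xd8 yd39 zd9) (kd xd13 yd31 zd6) (kd xd13 yd42 zd5) (kd xd11 yd27 zd25) (kd xd4 yd0 zd34) (kd xd4 yd0 zd35) (kd xd13 yd47 zd38)) (@D3.rec (fun _ => Pt) (kd xd14 yd59 zd48) (kd xd14 yd59 zd50) (kd xd3 yd57 zd49) (kd xd14 yd59 zd54) (kd xd4 yd20 zd51) (kd xd14 yd59 zd56) (kd xd3 yd57 zd53) (kd xd11 yd29 zd13) (kd xd3 yd57 zd54) (kd xd7 yd14 zd35) (kd xd6 yd42 zd10) (kd xd14 yd59 zd61) (kd xd3 yd57 zd56) (kd xd6 yd50 zd29) (kd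 xd14 yd58 zd43) (kd xd7 yd18 zd57) (kd xd5 yd47 zd22) (kd xd7 yd27 zd25) (kd xd9 yd19 zd27) (kd xd11 yd28 zd29) (kd xd3 yd57 zd60) (kd xd15 yd0 zd11) (kd xd15 yd0 zd14) (kd xd15 yd0 zd18) (kd xd14 yd58 zd57) (kd xd15 yd0 zd22) (kd xd3 yd58 zd0) (kd xd8 yd26 zd5) (kd xd15 yd0 zd31) (kd xd3 yd58 zd1) (kd xd15 yd0 zd34) (kd xd15 yd0 zd36) (kd xd15 yd0 zd39) (kd xd15 yd0 zd44) (kd xd3 yd58 zd4) (kd xd15 yd0 zd51) (kd xd3 yd58 zd5) (kd xd15 yd0 zd55) (kd xd4 yd5 zd22) (kd xd15 yd0 zd58) (kd xd4 yd12 zd20) (kd xd15 yd0 zd61) (kd xd5 yd9 zd37) (kd xd15 yd1 zd3) (kd xd4 yd5 zd13) (kd xd15 yd1 zd10) (kd xd3 yd58 zd10) (kd xd10 yd32 zd52) (kd xd7 yd57 zd48) (kd xd5 yd21 zd5) (kd xd8 yd38 zd32) (kd xd10 yd32 zd51) (kd xd9 yd39 zd25) (kd xd5 yd1 zd15) (kd xd15 yd1 zd22) (kd xd4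 yd19 zd25) (kd xd15 yd1 zd28) (kd xd15 yd1 zd31) (kd xd15 yd1 zd36) (kd xd3 yd58 zd17) (kd xd15 yd1 zd42) (kd xd9 yd0 zd4)) (@D3.rec (fun _ => Pt) (kd xd3 yd58 zd18) (kd xd15 yd1 zd47) (kd xd15 yd1 zd48) (kd xd10 yd23 zd34) (kd xd8 yd37 zd14) (kd xd15 yd1 zd55) (kd xd3 yd58 zd22) (kd xd15 yd1 zd60) (kd xd4 yd52 zd7) (kd xd8 yd37 zd19) (kd xd9 yd52 zd60) (kd xd15 yd1 zd38) (kd xd15 yd2 zd7) (kd xd3 yd58 zd25) (kd xd10 yd40 zd54) (kd xd15 yd2 zd15) (kd xd10 yd14 zd39) (kd xd5 yd10 zd12) (kd xd5 yd15 zd19) (kd xd15 yd2 zd22) (kd xd3 yd58 zd28) (kd xd15 yd2 zd27) (kd xd4 yd55 zd30) (kd xd4 yd55 zd31) (kd xd3 yd58 zd29) (kd xd11 yd57 zd9) (kd xd15 yd2 zd36) (kd xd3 yd58 zd30) (kd xd15 yd2 zd39) (kd xd15 yd2 zd44) (kd xd3 yd58 zd31) (kd xd15 yd2 zd47) (kd xd15 yd2 zd50) (kd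 xd15 yd2 zd53) (kd xd15 yd2 zd55) (kd xd3 yd58 zd32) (kd xd4 yd10 zd6) (kd xd5 yd36 zd30) (kd xd4 yd9 zd60) (kd xd8 yd14 zd1) (kd xd3 yd58 zd34) (kd xd15 yd3 zd9) (kd xd11 yd6 zd3) (kd xd11 yd6 zd4) (kd xd3 yd58 zd36) (kd xd15 yd3 zd17) (kd xd15 yd3 zd21) (kd xd10 yd9 zd35) (kd xd5 yd8 zd51) (kd xd15 yd3 zd25) (kd xd3 yd58 zd38) (kd xd5 yd9 zd50) (kd xd4 yd12 zd40) (kd xd4 yd56 zd9) (kd xd15 yd3 zd27) (kd xd15 yd3 zd30) (kd xd3 yd58 zd44) (kd xd15 yd3 zd34) (kd xd15 yd3 zd35) (kd xd15 yd3 zd38) (kd xd3 yd58 zd45) (kd xd9 yd6 zd17)) (@D3.rec (fun _ => Pt) (kd xd3 yd58 zd46) (kd xd5 yd36 zd38) (kd xd15 yd3 zd44) (kd xd8 yd14 zd39) (kd xd8 yd14 zd43) (kd xd11 yd4 zd19) (kd xd5 yd55 zd58) (kd xd15 yd3 zd48) (kd xd3 yd58 zd56) (kd xd11 yd6 zd55) (kd xd12 yd9 zd15) (kd xd6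 yd15 zd32) (kd xd15 yd3 zd51) (kd xd15 yd3 zd52) (kd xd15 yd3 zd53) (kd xd3 yd58 zd59) (kd xd12 yd9 zd14) (kd xd15 yd3 zd56) (kd xd15 yd3 zd58) (kd xd3 yd58 zd61) (kd xd11 yd7 zd5) (kd xd11 yd23 zd11) (kd xd3 yd59 zd1) (kd xd11 yd26 zd49) (kd xd15 yd4 zd0) (kd xd3 yd59 zd2) (kd xd7 yd13 zd22) (kd xd15 yd4 zd3) (kd xd11 yd27 zd36) (kd xd4 yd19 zd52) (kd xd4 yd5 zd52) (kd xd15 yd4 zd8) (kd xd3 yd59 zd40) (kd xd5 yd37 zd28) (kd xd9 yd14 zd27) (kd xd5 yd31 zd44) (kd xd5 yd37 zd38) (kd xd15 yd4 zd17) (kd xd5 yd31 zd45) (kd xd3 yd59 zd8) (kd xd9 yd12 zd14) (kd xd15 yd4 zd20) (kd xd12 yd30 zd8) (kd xd12 yd30 zd9) (kd xd3 yd59 zd52) (kd xd12 yd5 zd46) (kd xd10 yd18 zd14) (kd xd12 yd30 zd11) (kd xd5 yd50 zd8) (kd xd6 yd12 zd29) (kd xd6 yd46 zd31) (kd xd15 yd4 zd36) (kd xd5 yd36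 zd21) (kd xd3 yd59 zd19) (kd xd15 yd4 zd38) (kd xd3 yd59 zd20) (kd xd15 yd4 zd40) (kd xd11 yd28 zd42) (kd xd15 yd4 zd41) (kd xd15 yd4 zd42) (kd xd15 yd4 zd43) (kd xd3 yd59 zd23))
def f_d_8 : D2 → D3 → Pt := @D2.rec (fun _ => D3 → Pt) (@D3.rec (fun _ => Pt) (kd xd4 yd36 zd48) (kd xd4 yd38 zd46) (kd xd3 yd59 zd24) (kd xd9 yd4 zd44) (kd xd15 yd4 zd45) (kd xd11 yd28 zd14) (kd xd15 yd4 zd47) (kd xd15 yd4 zd48) (kd xd3 yd59 zd30) (kd xd10 yd49 zd50) (kd xd15 yd4 zd50) (kd xd15 yd4 zd51) (kd xd3 yd59 zd33) (kd xd15 yd4 zd54) (kd xd15 yd4 zd55) (kd xd3 yd59 zd34) (kd xd11 yd1 zd20) (kd xd3 yd59 zd35) (kd xd3 yd59 zd36) (kd xd15 yd4 zd60) (kd xd6 yd56 zd38) (kd xd15 yd5 zd0) (kd xd14 yd49 zd60) (kd xd15 yd5 zd5) (kd xd15 yd4 zd12) (kd xd12 yd10 zd60) (kd xd12 yd49 zd23) (kd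 xd12 yd49 zd26) (kd xd15 yd5 zd8) (kd xd3 yd59 zd43) (kd xd4 yd34 zd19) (kd xd9 yd11 zd47) (kd xd6 yd38 zd55) (kd xd9 yd22 zd31) (kd xd3 yd59 zd45) (kd xd6 yd2 zd57) (kd xd3 yd59 zd46) (kd xd6 yd30 zd38) (kd xd15 yd5 zd17) (kd xd8 yd50 zd2) (kd xd15 yd4 zd9) (kd xd15 yd4 zd23) (kd xd3 yd59 zd49) (kd xd14 yd50 zd1) (kd xd15 yd5 zd22) (kd xd15 yd5 zd25) (kd xd3 yd59 zd50) (kd xd12 yd30 zd57) (kd xd15 yd5 zd30) (kd xd15 yd5 zd31) (kd xd3 yd59 zd51) (kd xd15 yd4 zd33) (kd xd8 yd49 zd56) (kd xd15 yd5 zd36) (kd xd3 yd59 zd53) (kd xd8 yd14 zd59) (kd xd6 yd30 zd25) (kd xd15 yd5 zd41) (kd xd3 yd59 zd56) (kd xd5 yd6 zd56) (kd xd8 yd38 zd23) (kd xd8 yd44 zd9)) (@D3.rec (fun _ => Pt) (kd xd8 yd44 zd10) (kd xd14 yd58 zd59) (kd xd3 yd59 zd60) (kd xd3 yd59 zd61) (kd xd4 yd0 zd0) (kd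 xd15 yd5 zd45) (kd xd4 yd0 zd10) (kd xd4 yd0 zd2) (kd xd8 yd1 zd38) (kd xd15 yd5 zd57) (kd xd15 yd5 zd60) (kd xd15 yd6 zd1) (kd xd4 yd0 zd13) (kd xd12 yd6 zd8) (kd xd8 yd3 zd47) (kd xd4 yd0 zd7) (kd xd8 yd51 zd59) (kd xd15 yd6 zd14) (kd xd15 yd6 zd17) (kd xd15 yd6 zd20) (kd xd15 yd5 zd51) (kd xd15 yd6 zd23) (kd xd4 yd0 zd11) (kd xd8 yd5 zd22) (kd xd15 yd6 zd32) (kd xd4 yd0 zd12) (kd xd15 yd6 zd37) (kd xd5 yd23 zd39) (kd xd9 yd0 zd59) (kd xd15 yd6 zd43) (kd xd8 yd10 zd3) (kd xd5 yd8 zd31) (kd xd9 yd34 zd39) (kd xd5 yd8 zd42) (kd xd15 yd6 zd50) (kd xd15 yd6 zd55) (kd xd15 yd6 zd57) (kd xd4 yd0 zd18) (kd xd8 yd1 zd8) (kd xd9 yd34 zd3) (kd xd15 yd7 zd3) (kd xd10 yd39 zd13) (kd xd13 yd30 zd39) (kd xd8 yd44 zd59) (kd xd15 yd7 zd5) (kd xd15 yd7 zd6) (kd xd15 yd7 zd7) (kd xd4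 yd0 zd25) (kd xd15 yd7 zd10) (kd xd15 yd7 zd11) (kd xd4 yd0 zd26) (kd xd7 yd6 zd21) (kd xd4 yd0 zd27) (kd xd9 yd44 zd33) (kd xd9 yd44 zd34) (kd xd15 yd7 zd26) (kd xd4 yd0 zd51) (kd xd4 yd0 zd29) (kd xd15 yd7 zd33) (kd xd4 yd52 zd40) (kd xd15 yd7 zd38) (kd xd15 yd7 zd41)) (@D3.rec (fun _ => Pt) (kd xd12 yd6 zd29) (kd xd4 yd0 zd57) (kd xd15 yd7 zd48) (kd xd4 yd0 zd33) (kd xd15 yd7 zd49) (kd xd11 yd27 zd27) (kd xd13 yd30 zd61) (kd xd4 yd0 zd37) (kd xd4 yd36 zd6) (kd xd4 yd0 zd39) (kd xd8 yd5 zd9) (kd xd11 yd24 zd11) (kd xd4 yd0 zd41) (kd xd15 yd7 zd55) (kd xd15 yd7 zd56) (kd xd15 yd7 zd57) (kd xd4 yd0 zd43) (kd xd8 yd5 zd10) (kd xd15 yd7 zd60) (kd xd15 yd8 zd0) (kd xd4 yd0 zd47) (kd xd15 yd8 zd2) (kd xd4 yd23 zd46) (kd xd15 yd7 zd17) (kd xd13 yd50 zd7) (kd xd4 yd42 zd47)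 (kd xd11 yd27 zd45) (kd xd15 yd8 zd12) (kd xd15 yd8 zd16) (kd xd15 yd7 zd31) (kd xd15 yd8 zd20) (kd xd4 yd0 zd53) (kd xd4 yd0 zd54) (kd xd15 yd8 zd27) (kd xd15 yd8 zd31) (kd xd4 yd0 zd55) (kd xd8 yd3 zd53) (kd xd15 yd8 zd42) (kd xd4 yd0 zd56) (kd xd15 yd8 zd47) (kd xd5 yd12 zd55) (kd xd5 yd0 zd33) (kd xd12 yd6 zd7) (kd xd6 yd4 zd37) (kd xd15 yd8 zd59) (kd xd4 yd0 zd60) (kd xd9 yd33 zd39) (kd xd5 yd24 zd29) (kd xd7 yd55 zd41) (kd xd15 yd9 zd7) (kd xd4 yd1 zd2) (kd xd9 yd33 zd41) (kd xd8 yd2 zd52) (kd xd10 yd20 zd17) (kd xd4 yd19 zd11) (kd xd15 yd9 zd14) (kd xd15 yd9 zd16) (kd xd15 yd9 zd17) (kd xd4 yd1 zd6) (kd xd15 yd9 zd20) (kd xd4 yd52 zd46) (kd xd15 yd9 zd27)) (@D3.rec (fun _ => Pt) (kd xd5 yd24 zd33) (kd xd5 yd24 zd34) (kd xd8 yd38 zd6) (kd xd11 yd9 zd2) (kd xd11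 yd9 zd3) (kd xd8 yd9 zd5) (kd xd15 yd9 zd37) (kd xd15 yd9 zd39) (kd xd10 yd8 zd25) (kd xd10 yd9 zd19) (kd xd15 yd9 zd46) (kd xd8 yd17 zd6) (kd xd8 yd17 zd5) (kd xd4 yd21 zd61) (kd xd4 yd1 zd14) (kd xd4 yd1 zd15) (kd xd4 yd1 zd16) (kd xd12 yd23 zd47) (kd xd10 yd9 zd21) (kd xd15 yd9 zd60) (kd xd10 yd31 zd28) (kd xd8 yd39 zd30) (kd xd10 yd0 zd54) (kd xd4 yd1 zd21) (kd xd8 yd51 zd39) (kd xd13 yd50 zd46) (kd xd7 yd19 zd18) (kd xd4 yd1 zd23) (kd xd4 yd2 zd2) (kd xd4 yd23 zd37) (kd xd4 yd1 zd25) (kd xd12 yd5 zd3) (kd xd15 yd10 zd14) (kd xd4 yd1 zd27) (kd xd4 yd1 zd28) (kd xd4 yd2 zd1) (kd xd4 yd2 zd0) (kd xd4 yd56 zd56) (kd xd15 yd10 zd22) (kd xd15 yd10 zd23) (kd xd4 yd1 zd30) (kd xd15 yd10 zd27) (kd xd15 yd10 zd30) (kd xd4 yd1 zd32) (kd xd4 yd19 zd54) (kd xd8 yd45 zd34) (kd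 xd4 yd5 zd35) (kd xd8 yd1 zd14) (kd xd4 yd13 zd27) (kd xd12 yd5 zd24) (kd xd8 yd4 zd31) (kd xd15 yd10 zd52) (kd xd12 yd22 zd41) (kd xd8 yd2 zd36) (kd xd8 yd45 zd37) (kd xd12 yd6 zd43) (kd xd4 yd18 zd56) (kd xd5 yd19 zd37) (kd xd4 yd52 zd61) (kd xd10 yd8 zd54) (kd xd15 yd11 zd8) (kd xd4 yd1 zd41)) (@D3.rec (fun _ => Pt) (kd xd15 yd11 zd9) (kd xd4 yd51 zd15) (kd xd4 yd53 zd2) (kd xd15 yd11 zd16) (kd xd4 yd1 zd43) (kd xd15 yd11 zd19) (kd xd8 yd27 zd56) (kd xd4 yd1 zd44) (kd xd9 yd0 zd58) (kd xd8 yd9 zd40) (kd xd15 yd11 zd29) (kd xd4 yd1 zd47) (kd xd15 yd11 zd34) (kd xd8 yd28 zd37) (kd xd8 yd9 zd44) (kd xd4 yd22 zd19) (kd xd15 yd11 zd44) (kd xd4 yd1 zd50) (kd xd14 yd57 zd14) (kd xd9 yd33 zd58) (kd xd4 yd22 zd25) (kd xd15 yd11 zd54) (kd xd4 yd1 zd52) (kd xd15 yd11 zd57)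 (kd xd15 yd12 zd0) (kd xd4 yd1 zd53) (kd xd8 yd42 zd45) (kd xd15 yd12 zd8) (kd xd15 yd12 zd13) (kd xd15 yd12 zd15) (kd xd4 yd1 zd54) (kd xd8 yd3 zd50) (kd xd4 yd1 zd60) (kd xd4 yd2 zd4) (kd xd9 yd52 zd15) (kd xd15 yd12 zd28) (kd xd4 yd20 zd31) (kd xd15 yd12 zd21) (kd xd15 yd12 zd36) (kd xd8 yd33 zd18) (kd xd9 yd34 zd13) (kd xd7 yd55 zd50) (kd xd14 yd56 zd30) (kd xd11 yd29 zd12) (kd xd15 yd12 zd23) (kd xd15 yd12 zd46) (kd xd15 yd12 zd48) (kd xd5 yd20 zd42) (kd xd10 yd15 zd48) (kd xd4 yd2 zd6) (kd xd12 yd5 zd8) (kd xd7 yd56 zd33) (kd xd15 yd12 zd50) (kd xd11 yd32 zd38) (kd xd15 yd13 zd1) (kd xd15 yd13 zd2) (kd xd4 yd2 zd12) (kd xd4 yd22 zd50) (kd xd15 yd13 zd10) (kd xd4 yd2 zd15) (kd xd15 yd13 zd13) (kd xd15 yd13 zd14)) (@D3.rec (fun _ => Pt) (kd xd15 yd13 zd16) (kd xd4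 yd2 zd16) (kd xd15 yd7 zd15) (kd xd15 yd13 zd20) (kd xd15 yd13 zd22) (kd xd15 yd13 zd23) (kd xd4 yd2 zd17) (kd xd15 yd8 zd21) (kd xd4 yd2 zd18) (kd xd8 yd2 zd10) (kd xd8 yd2 zd17) (kd xd15 yd13 zd35) (kd xd6 yd14 zd11) (kd xd4 yd2 zd20) (kd xd15 yd13 zd42) (kd xd4 yd4 zd50) (kd xd12 yd5 zd50) (kd xd4 yd4 zd51) (kd xd8 yd51 zd54) (kd xd5 yd9 zd19) (kd xd15 yd13 zd58) (kd xd15 yd8 zd38) (kd xd8 yd1 zd23) (kd xd6 yd14 zd14) (kd xd15 yd14 zd7) (kd xd4 yd2 zd26) (kd xd15 yd14 zd9) (kd xd8 yd9 zd30) (kd xd8 yd36 zd43) (kd xd14 yd56 zd58) (kd xd12 yd20 zd17) (kd xd4 yd21 zd37) (kd xd14 yd8 zd20) (kd xd14 yd8 zd32) (kd xd15 yd14 zd21) (kd xd4 yd2 zd29) (kd xd8 yd26 zd2) (kd xd10 yd29 zd24) (kd xd15 yd14 zd26) (kd xd15 yd14 zd27) (kd xd15 yd14 zd28) (kd xd9 yd52 zd14) (kd xd8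 yd6 zd32) (kd xd4 yd51 zd6) (kd xd15 yd14 zd36) (kd xd4 yd2 zd35) (kd xd15 yd14 zd38) (kd xd8 yd5 zd47) (kd xd15 yd14 zd41) (kd xd15 yd9 zd38) (kd xd8 yd6 zd45) (kd xd8 yd40 zd23) (kd xd8 yd22 zd53) (kd xd7 yd55 zd37) (kd xd15 yd14 zd47) (kd xd15 yd14 zd51) (kd xd15 yd14 zd53) (kd xd4 yd2 zd39) (kd xd8 yd10 zd40) (kd xd15 yd14 zd39) (kd xd10 yd8 zd53) (kd xd15 yd14 zd60)) (@D3.rec (fun _ => Pt) (kd xd15 yd14 zd61) (kd xd4 yd9 zd52) (kd xd8 yd26 zd18) (kd xd4 yd13 zd39) (kd xd15 yd15 zd8) (kd xd4 yd2 zd45) (kd xd15 yd15 zd10) (kd xd8 yd29 zd18) (kd xd15 yd15 zd14) (kd xd4 yd2 zd48) (kd xd15 yd15 zd19) (kd xd15 yd15 zd22) (kd xd10 yd26 zd21) (kd xd10 yd3 zd47) (kd xd15 yd15 zd28) (kd xd4 yd2 zd51) (kd xd15 yd15 zd31) (kd xd15 yd15 zd35) (kd xd4 yd2 zd52) (kd xd15 yd15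 zd37) (kd xd15 yd15 zd42) (kd xd15 yd15 zd47) (kd xd13 yd32 zd24) (kd xd4 yd2 zd53) (kd xd15 yd15 zd51) (kd xd4 yd8 zd34) (kd xd4 yd9 zd2) (kd xd4 yd8 zd26) (kd xd8 yd15 zd36) (kd xd4 yd2 zd55) (kd xd15 yd16 zd2) (kd xd15 yd16 zd4) (kd xd8 yd5 zd42) (kd xd15 yd16 zd9) (kd xd15 yd16 zd13) (kd xd4 yd2 zd59) (kd xd15 yd16 zd18) (kd xd5 yd5 zd2) (kd xd5 yd5 zd1) (kd xd5 yd24 zd35) (kd xd15 yd16 zd22) (kd xd10 yd27 zd50) (kd xd15 yd16 zd28) (kd xd4 yd3 zd3) (kd xd15 yd16 zd31) (kd xd8 yd5 zd50) (kd xd4 yd3 zd4) (kd xd15 yd12 zd49) (kd xd9 yd53 zd31) (kd xd8 yd30 zd10) (kd xd4 yd3 zd8) (kd xd15 yd16 zd41) (kd xd15 yd16 zd45) (kd xd14 yd58 zd8) (kd xd7 yd55 zd40) (kd xd15 yd16 zd51) (kd xd4 yd3 zd11) (kd xd15 yd16 zd54) (kd xd8 yd39 zd15) (kd xd8 yd39 zd16) (kd xd10 yd35 zd21)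 (kd xd4 yd3 zd13)) (@D3.rec (fun _ => Pt) (kd xd15 yd17 zd1) (kd xd15 yd17 zd5) (kd xd4 yd3 zd14) (kd xd15 yd17 zd7) (kd xd15 yd17 zd12) (kd xd15 yd17 zd17) (kd xd15 yd17 zd19) (kd xd4 yd3 zd15) (kd xd12 yd39 zd45) (kd xd4 yd50 zd38) (kd xd4 yd14 zd25) (kd xd4 yd4 zd16) (kd xd4 yd3 zd17) (kd xd15 yd17 zd31) (kd xd8 yd54 zd55) (kd xd8 yd54 zd23) (kd xd15 yd17 zd38) (kd xd4 yd3 zd20) (kd xd15 yd17 zd43) (kd xd5 yd21 zd59) (kd xd5 yd13 zd3) (kd xd5 yd39 zd2) (kd xd15 yd17 zd49) (kd xd15 yd17 zd52) (kd xd14 yd57 zd31) (kd xd4 yd21 zd46) (kd xd5 yd39 zd0) (kd xd15 yd17 zd58) (kd xd9 yd37 zd32) (kd xd9 yd37 zd33) (kd xd8 yd8 zd42) (kd xd15 yd18 zd4) (kd xd15 yd18 zd7) (kd xd15 yd18 zd9) (kd xd4 yd3 zd29) (kd xd15 yd18 zd13) (kd xd15 yd18 zd15) (kd xd4 yd3 zd30) (kd xd15 yd18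 zd18) (kd xd15 yd16 zd20) (kd xd11 yd53 zd26) (kd xd11 yd53 zd27) (kd xd7 yd50 zd43) (kd xd4 yd3 zd33) (kd xd10 yd4 zd17) (kd xd8 yd7 zd45) (kd xd8 yd17 zd60) (kd xd5 yd21 zd22) (kd xd4 yd8 zd60) (kd xd15 yd18 zd35) (kd xd4 yd3 zd40) (kd xd15 yd18 zd38) (kd xd14 yd57 zd25) (kd xd8 yd29 zd46) (kd xd4 yd3 zd41) (kd xd15 yd18 zd42) (kd xd8 yd36 zd47) (kd xd8 yd36 zd48) (kd xd8 yd8 zd18) (kd xd10 yd50 zd13) (kd xd4 yd3 zd47) (kd xd10 yd51 zd40)) (@D3.rec (fun _ => Pt) (kd xd15 yd18 zd54) (kd xd4 yd3 zd48) (kd xd8 yd8 zd30) (kd xd15 yd18 zd58) (kd xd15 yd16 zd47) (kd xd15 yd9 zd29) (kd xd15 yd19 zd1) (kd xd4 yd3 zd51) (kd xd15 yd19 zd6) (kd xd4 yd3 zd52) (kd xd15 yd17 zd40) (kd xd15 yd19 zd12) (kd xd4 yd3 zd53) (kd xd15 yd19 zd17) (kd xd10 yd30 zd29) (kd xd5 yd19 zd51) (kd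 xd8 yd8 zd40) (kd xd8 yd8 zd41) (kd xd8 yd7 zd58) (kd xd15 yd19 zd28) (kd xd15 yd19 zd31) (kd xd15 yd19 zd33) (kd xd4 yd3 zd56) (kd xd15 yd19 zd38) (kd xd15 yd19 zd40) (kd xd15 yd19 zd42) (kd xd4 yd3 zd57) (kd xd15 yd19 zd47) (kd xd4 yd3 zd58) (kd xd15 yd16 zd33) (kd xd8 yd8 zd2) (kd xd7 yd55 zd57) (kd xd4 yd3 zd60) (kd xd5 yd21 zd27) (kd xd15 yd19 zd60) (kd xd4 yd4 zd0) (kd xd15 yd20 zd2) (kd xd15 yd8 zd54) (kd xd5 yd32 zd31) (kd xd10 yd0 zd48) (kd xd8 yd8 zd16) (kd xd8 yd8 zd17) (kd xd8 yd7 zd30) (kd xd15 yd20 zd11) (kd xd15 yd20 zd14) (kd xd15 yd20 zd17) (kd xd4 yd4 zd3) (kd xd15 yd20 zd20) (kd xd15 yd20 zd22) (kd xd4 yd4 zd4) (kd xd8 yd36 zd57) (kd xd15 yd19 zd55) (kd xd15 yd20 zd29) (kd xd4 yd4 zd5) (kd xd8 yd8 zd60) (kd xd8 yd8 zd61) (kd xd8 yd10 zd7) (kd xd15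 yd20 zd36) (kd xd4 yd4 zd8) (kd xd15 yd20 zd41) (kd xd8 yd8 zd54) (kd xd8 yd8 zd55)) (@D3.rec (fun _ => Pt) (kd xd8 yd9 zd47) (kd xd13 yd59 zd15) (kd xd15 yd20 zd51) (kd xd4 yd4 zd10) (kd xd15 yd20 zd55) (kd xd8 yd3 zd5) (kd xd11 yd8 zd59) (kd xd15 yd21 zd0) (kd xd15 yd21 zd6) (kd xd4 yd4 zd11) (kd xd15 yd21 zd12) (kd xd11 yd8 zd58) (kd xd15 yd21 zd18) (kd xd15 yd21 zd21) (kd xd4 yd4 zd12) (kd xd15 yd21 zd26) (kd xd4 yd4 zd13) (kd xd15 yd17 zd53) (kd xd15 yd17 zd54) (kd xd15 yd21 zd37) (kd xd15 yd17 zd22) (kd xd15 yd21 zd44) (kd xd15 yd21 zd46) (kd xd15 yd21 zd48) (kd xd15 yd17 zd30) (kd xd15 yd21 zd51) (kd xd15 yd21 zd54) (kd xd4 yd4 zd17) (kd xd15 yd21 zd60) (kd xd4 yd4 zd18) (kd xd8 yd5 zd27) (kd xd15 yd22 zd4) (kd xd15 yd22 zd7) (kd xd4 yd4 zd19) (kd xd8 yd18 zd36)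 (kd xd5 yd38 zd58) (kd xd15 yd22 zd16) (kd xd15 yd22 zd18) (kd xd9 yd37 zd59) (kd xd4 yd56 zd50) (kd xd8 yd4 zd9) (kd xd5 yd38 zd54) (kd xd15 yd22 zd26) (kd xd9 yd52 zd35) (kd xd8 yd4 zd14) (kd xd8 yd27 zd36) (kd xd8 yd27 zd37) (kd xd8 yd9 zd0) (kd xd15 yd22 zd34) (kd xd4 yd4 zd26) (kd xd13 yd43 zd37) (kd xd8 yd17 zd15) (kd xd15 yd22 zd38) (kd xd9 yd41 zd3) (kd xd15 yd22 zd41) (kd xd11 yd57 zd3) (kd xd5 yd36 zd1) (kd xd5 yd36 zd2) (kd xd13 yd43 zd25) (kd xd4 yd4 zd31) (kd xd4 yd4 zd33) (kd xd4 yd19 zd56)) (@D3.rec (fun _ => Pt) (kd xd15 yd9 zd52) (kd xd11 yd3 zd57) (kd xd15 yd22 zd54) (kd xd8 yd1 zd30) (kd xd9 yd34 zd20) (kd xd5 yd39 zd4) (kd xd5 yd39 zd5) (kd xd8 yd8 zd56) (kd xd15 yd23 zd4) (kd xd4 yd4 zd40) (kd xd15 yd23 zd8) (kd xd15 yd23 zd10) (kd xd15 yd23 zd13)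 (kd xd4 yd4 zd41) (kd xd5 yd1 zd29) (kd xd4 yd51 zd31) (kd xd15 yd23 zd17) (kd xd15 yd23 zd20) (kd xd8 yd28 zd14) (kd xd15 yd23 zd24) (kd xd4 yd4 zd44) (kd xd15 yd23 zd29) (kd xd4 yd4 zd46) (kd xd9 yd43 zd43) (kd xd9 yd43 zd44) (kd xd8 yd37 zd47) (kd xd15 yd7 zd14) (kd xd4 yd4 zd48) (kd xd4 yd12 zd42) (kd xd8 yd38 zd24) (kd xd15 yd10 zd24) (kd xd5 yd54 zd24) (kd xd11 yd34 zd34) (kd xd4 yd4 zd52) (kd xd4 yd4 zd53) (kd xd4 yd4 zd54) (kd xd5 yd53 zd55) (kd xd15 yd23 zd48) (kd xd5 yd47 zd25) (kd xd4 yd4 zd56) (kd xd8 yd5 zd58) (kd xd5 yd9 zd9) (kd xd15 yd0 zd29) (kd xd4 yd26 zd46) (kd xd6 yd24 zd23) (kd xd12 yd7 zd15) (kd xd15 yd24 zd0) (kd xd15 yd24 zd3) (kd xd15 yd24 zd8) (kd xd4 yd5 zd0) (kd xd15 yd24 zd15) (kd xd4 yd5 zd1) (kd xd12 yd23 zd24) (kd xd15 yd24 zd18) (kd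 xd5 yd9 zd34) (kd xd15 yd24 zd21) (kd xd4 yd12 zd23) (kd xd15 yd24 zd25) (kd xd15 yd24 zd26) (kd xd4 yd5 zd5) (kd xd8 yd52 zd51) (kd xd8 yd10 zd61)) (@D3.rec (fun _ => Pt) (kd xd5 yd22 zd42) (kd xd11 yd52 zd35) (kd xd5 yd25 zd7) (kd xd5 yd22 zd58) (kd xd8 yd52 zd49) (kd xd9 yd35 zd24) (kd xd4 yd51 zd20) (kd xd15 yd24 zd40) (kd xd5 yd2 zd49) (kd xd15 yd24 zd46) (kd xd15 yd24 zd49) (kd xd15 yd24 zd52) (kd xd4 yd5 zd12) (kd xd9 yd12 zd4) (kd xd9 yd42 zd43) (kd xd15 yd1 zd6) (kd xd8 yd15 zd50) (kd xd8 yd29 zd31) (kd xd9 yd52 zd18) (kd xd15 yd25 zd0) (kd xd4 yd5 zd15) (kd xd15 yd25 zd4) (kd xd4 yd54 zd8) (kd xd9 yd56 zd36) (kd xd8 yd37 zd10) (kd xd15 yd24 zd53) (kd xd15 yd25 zd14) (kd xd4 yd5 zd18) (kd xd15 yd25 zd21) (kd xd15 yd25 zd24) (kd xd9 yd39 zd17) (kd xd4 yd13 zd11)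 (kd xd4 yd8 zd35) (kd xd15 yd25 zd30) (kd xd4 yd5 zd21) (kd xd15 yd25 zd34) (kd xd5 yd36 zd61) (kd xd8 yd13 zd48) (kd xd5 yd36 zd55) (kd xd11 yd17 zd40) (kd xd4 yd5 zd23) (kd xd15 yd25 zd41) (kd xd12 yd46 zd6) (kd xd4 yd5 zd24) (kd xd15 yd25 zd48) (kd xd5 yd4 zd51) (kd xd8 yd15 zd39) (kd xd4 yd27 zd20) (kd xd4 yd55 zd48) (kd xd4 yd5 zd26) (kd xd9 yd18 zd42) (kd xd11 yd4 zd49) (kd xd15 yd25 zd61) (kd xd15 yd26 zd2) (kd xd9 yd38 zd41) (kd xd4 yd13 zd20) (kd xd15 yd26 zd6) (kd xd4 yd5 zd29) (kd xd4 yd12 zd39) (kd xd5 yd9 zd51) (kd xd5 yd49 zd36) (kd xd4 yd56 zd26)) (@D3.rec (fun _ => Pt) (kd xd4 yd5 zd34) (kd xd11 yd57 zd45) (kd xd15 yd26 zd9) (kd xd11 yd1 zd52) (kd xd10 yd18 zd32) (kd xd6 yd16 zd18) (kd xd15 yd26 zd10) (kd xd6 yd3 zd28) (kd xd6 yd46 zd4) (kd xd6 yd46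 zd5) (kd xd15 yd26 zd15) (kd xd4 yd7 zd4) (kd xd11 yd22 zd10) (kd xd11 yd32 zd32) (kd xd5 yd28 zd45) (kd xd4 yd5 zd47) (kd xd15 yd26 zd18) (kd xd4 yd5 zd48) (kd xd15 yd26 zd19) (kd xd15 yd26 zd20) (kd xd15 yd26 zd21) (kd xd4 yd5 zd50) (kd xd15 yd26 zd25) (kd xd15 yd26 zd24) (kd xd15 yd26 zd27) (kd xd4 yd5 zd53) (kd xd10 yd18 zd16) (kd xd4 yd5 zd54) (kd xd15 yd26 zd32) (kd xd4 yd5 zd55) (kd xd15 yd26 zd36) (kd xd15 yd26 zd38) (kd xd15 yd26 zd40) (kd xd4 yd5 zd57) (kd xd5 yd14 zd22) (kd xd5 yd14 zd10) (kd xd15 yd26 zd43) (kd xd5 yd47 zd21) (kd xd15 yd26 zd46) (kd xd8 yd49 zd4) (kd xd15 yd26 zd49) (kd xd15 yd26 zd52) (kd xd15 yd26 zd54) (kd xd15 yd26 zd57) (kd xd4 yd5 zd61) (kd xd15 yd27 zd2) (kd xd15 yd27 zd0) (kd xd6 yd50 zd30) (kd xd12 yd17 zd47) (kd xd5 yd47 zd36)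 (kd xd11 yd12 zd21) (kd xd6 yd47 zd20) (kd xd4 yd6 zd3) (kd xd12 yd17 zd48) (kd xd5 yd14 zd19) (kd xd11 yd12 zd25) (kd xd15 yd27 zd12) (kd xd15 yd27 zd13) (kd xd15 yd27 zd15) (kd xd15 yd27 zd19) (kd xd4 yd6 zd10) (kd xd15 yd27 zd24)) (@D3.rec (fun _ => Pt) (kd xd4 yd6 zd11) (kd xd4 yd19 zd8) (kd xd15 yd27 zd27) (kd xd15 yd27 zd29) (kd xd15 yd27 zd31) (kd xd4 yd18 zd46) (kd xd15 yd27 zd38) (kd xd4 yd6 zd15) (kd xd6 yd5 zd22) (kd xd8 yd13 zd9) (kd xd4 yd54 zd46) (kd xd10 yd30 zd48) (kd xd8 yd55 zd1) (kd xd4 yd6 zd19) (kd xd4 yd54 zd16) (kd xd6 yd5 zd20) (kd xd10 yd32 zd2) (kd xd15 yd27 zd53) (kd xd4 yd54 zd21) (kd xd15 yd27 zd55) (kd xd15 yd27 zd57) (kd xd15 yd27 zd60) (kd xd15 yd28 zd3) (kd xd4 yd6 zd24) (kd xd15 yd28 zd9) (kd xd11 yd57 zd10) (kd xd5 yd36 zd54) (kd xd9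 yd40 zd50) (kd xd8 yd23 zd56) (kd xd8 yd16 zd17) (kd xd10 yd7 zd19) (kd xd6 yd5 zd21) (kd xd10 yd7 zd54) (kd xd15 yd28 zd20) (kd xd4 yd6 zd30) (kd xd15 yd28 zd24) (kd xd8 yd25 zd13) (kd xd15 yd28 zd5) (kd xd15 yd28 zd33) (kd xd4 yd6 zd33) (kd xd15 yd28 zd40) (kd xd15 yd28 zd43) (kd xd9 yd37 zd31) (kd xd4 yd19 zd38) (kd xd4 yd14 zd0) (kd xd15 yd28 zd51) (kd xd4 yd6 zd36) (kd xd15 yd28 zd56) (kd xd8 yd11 zd37) (kd xd9 yd0 zd3) (kd xd15 yd28 zd61) (kd xd4 yd6 zd38) (kd xd15 yd29 zd3) (kd xd4 yd6 zd39) (kd xd15 yd29 zd6) (kd xd15 yd29 zd10) (kd xd15 yd29 zd14) (kd xd15 yd29 zd15) (kd xd4 yd6 zd40) (kd xd15 yd29 zd20) (kd xd6 yd4 zd36) (kd xd6 yd4 zd48)) (@D3.rec (fun _ => Pt) (kd xd6 yd4 zd32) (kd xd7 yd58 zd39) (kd xd4 yd6 zd42) (kd xd15 yd29 zd32) (kd xd15 yd29 zd34)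 (kd xd15 yd29 zd37) (kd xd15 yd29 zd40) (kd xd4 yd6 zd44) (kd xd15 yd29 zd43) (kd xd8 yd27 zd20) (kd xd4 yd14 zd45) (kd xd15 yd16 zd60) (kd xd15 yd16 zd61) (kd xd15 yd29 zd51) (kd xd4 yd6 zd50) (kd xd15 yd29 zd54) (kd xd9 yd30 zd29) (kd xd9 yd30 zd38) (kd xd10 yd18 zd31) (kd xd11 yd57 zd56) (kd xd4 yd6 zd54) (kd xd15 yd30 zd0) (kd xd15 yd30 zd4) (kd xd9 yd36 zd33) (kd xd4 yd19 zd45) (kd xd15 yd30 zd9) (kd xd4 yd6 zd56) (kd xd6 yd12 zd44) (kd xd4 yd49 zd48) (kd xd6 yd47 zd17) (kd xd15 yd27 zd30) (kd xd15 yd30 zd20) (kd xd4 yd34 zd30) (kd xd5 yd48 zd15) (kd xd15 yd28 zd50) (kd xd4 yd6 zd61) (kd xd9 yd32 zd15) (kd xd9 yd32 zd14) (kd xd15 yd30 zd31) (kd xd7 yd59 zd3) (kd xd15 yd30 zd35) (kd xd9 yd5 zd37) (kd xd9 yd5 zd36) (kd xd7 yd59 zd4) (kd xd4 yd7 zd3) (kd xd15 yd30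 zd40) (kd xd4 yd7 zd6) (kd xd15 yd30 zd41) (kd xd10 yd4 zd44) (kd xd9 yd46 zd24) (kd xd4 yd58 zd34) (kd xd4 yd58 zd30) (kd xd11 yd10 zd50) (kd xd10 yd6 zd31) (kd xd6 yd4 zd3) (kd xd9 yd44 zd22) (kd xd9 yd44 zd21) (kd xd4 yd7 zd24) (kd xd5 yd7 zd27) (kd xd8 yd0 zd55) (kd xd11 yd10 zd54) (kd xd15 yd30 zd46)) (@D3.rec (fun _ => Pt) (kd xd15 yd30 zd48) (kd xd5 yd18 zd12) (kd xd10 yd19 zd19) (kd xd5 yd18 zd13) (kd xd11 yd4 zd30) (kd xd5 yd3 zd2) (kd xd10 yd24 zd13) (kd xd4 yd51 zd2) (kd xd15 yd31 zd3) (kd xd4 yd7 zd35) (kd xd8 yd15 zd10) (kd xd15 yd31 zd9) (kd xd4 yd7 zd37) (kd xd15 yd31 zd14) (kd xd5 yd25 zd59) (kd xd5 yd25 zd58) (kd xd8 yd57 zd47) (kd xd15 yd31 zd22) (kd xd4 yd7 zd39) (kd xd15 yd31 zd26) (kd xd8 yd20 zd7) (kd xd8 yd29 zd44) (kd xd14 yd35 zd32) (kd xd4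 yd7 zd41) (kd xd8 yd31 zd5) (kd xd15 yd31 zd36) (kd xd4 yd7 zd42) (kd xd14 yd18 zd9) (kd xd14 yd26 zd49) (kd xd14 yd26 zd61) (kd xd7 yd42 zd30) (kd xd4 yd7 zd43) (kd xd15 yd31 zd49) (kd xd5 yd17 zd15) (kd xd5 yd17 zd19) (kd xd8 yd15 zd54) (kd xd8 yd6 zd28) (kd xd4 yd7 zd45) (kd xd15 yd31 zd61) (kd xd8 yd11 zd46) (kd xd10 yd1 zd38) (kd xd4 yd27 zd9) (kd xd8 yd17 zd59) (kd xd4 yd27 zd43) (kd xd15 yd32 zd8) (kd xd4 yd7 zd51) (kd xd8 yd15 zd46) (kd xd10 yd23 zd57) (kd xd10 yd19 zd57) (kd xd8 yd26 zd8) (kd xd8 yd11 zd16) (kd xd8 yd26 zd33) (kd xd15 yd32 zd15) (kd xd4 yd7 zd56) (kd xd8 yd15 zd35) (kd xd8 yd15 zd55) (kd xd15 yd32 zd23) (kd xd4 yd7 zd58) (kd xd9 yd25 zd0) (kd xd10 yd23 zd48) (kd xd10 yd20 zd4) (kd xd15 yd32 zd30)) (@D3.rec (fun _ => Pt) (kd xd4 yd8 zd0) (kd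 xd13 yd43 zd12) (kd xd8 yd29 zd17) (kd xd5 yd31 zd21) (kd xd5 yd27 zd35) (kd xd15 yd32 zd41) (kd xd4 yd8 zd2) (kd xd15 yd32 zd44) (kd xd15 yd32 zd49) (kd xd4 yd8 zd3) (kd xd15 yd32 zd51) (kd xd15 yd32 zd57) (kd xd15 yd32 zd60) (kd xd14 yd31 zd49) (kd xd4 yd8 zd4) (kd xd15 yd33 zd2) (kd xd9 yd52 zd17) (kd xd8 yd13 zd29) (kd xd5 yd17 zd49) (kd xd10 yd23 zd35) (kd xd4 yd8 zd6) (kd xd15 yd33 zd14) (kd xd15 yd24 zd9) (kd xd5 yd15 zd53) (kd xd10 yd23 zd33) (kd xd8 yd26 zd28) (kd xd8 yd19 zd27) (kd xd15 yd33 zd27) (kd xd4 yd8 zd13) (kd xd15 yd33 zd32) (kd xd5 yd17 zd36) (kd xd5 yd15 zd59) (kd xd15 yd33 zd39) (kd xd4 yd8 zd15) (kd xd15 yd33 zd42) (kd xd8 yd28 zd51) (kd xd5 yd27 zd42) (kd xd5 yd30 zd12) (kd xd15 yd33 zd49) (kd xd4 yd8 zd18) (kd xd15 yd33 zd54) (kd xd10 yd50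 zd2) (kd xd5 yd29 zd28) (kd xd15 yd33 zd61) (kd xd4 yd8 zd20) (kd xd15 yd34 zd4) (kd xd8 yd30 zd41) (kd xd5 yd15 zd29) (kd xd15 yd34 zd11) (kd xd4 yd8 zd22) (kd xd15 yd34 zd14) (kd xd13 yd34 zd11) (kd xd4 yd8 zd23) (kd xd15 yd34 zd20) (kd xd15 yd34 zd25) (kd xd15 yd34 zd30) (kd xd15 yd34 zd32) (kd xd4 yd8 zd24) (kd xd15 yd15 zd57) (kd xd4 yd22 zd18) (kd xd5 yd29 zd21) (kd xd8 yd30 zd9)) (@D3.rec (fun _ => Pt) (kd xd9 yd33 zd31) (kd xd9 yd35 zd51) (kd xd15 yd34 zd47) (kd xd4 yd8 zd29) (kd xd15 yd34 zd51) (kd xd8 yd3 zd12) (kd xd8 yd3 zd11) (kd xd10 yd29 zd19) (kd xd8 yd17 zd8) (kd xd4 yd19 zd49) (kd xd9 yd41 zd42) (kd xd5 yd1 zd32) (kd xd15 yd15 zd53) (kd xd15 yd35 zd0) (kd xd15 yd35 zd3) (kd xd8 yd9 zd51) (kd xd15 yd25 zd27) (kd xd15 yd35 zd8) (kd xd4 yd8 zd38) (kd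 xd9 yd24 zd24) (kd xd10 yd44 zd11) (kd xd8 yd57 zd59) (kd xd8 yd30 zd57) (kd xd15 yd35 zd17) (kd xd4 yd8 zd40) (kd xd8 yd55 zd51) (kd xd15 yd35 zd21) (kd xd4 yd8 zd42) (kd xd9 yd21 zd17) (kd xd15 yd35 zd26) (kd xd4 yd8 zd43) (kd xd5 yd29 zd50) (kd xd15 yd35 zd30) (kd xd15 yd35 zd34) (kd xd15 yd35 zd36) (kd xd4 yd8 zd44) (kd xd15 yd35 zd44) (kd xd4 yd9 zd18) (kd xd4 yd9 zd19) (kd xd15 yd35 zd52) (kd xd15 yd35 zd55) (kd xd15 yd35 zd57) (kd xd4 yd8 zd46) (kd xd15 yd36 zd0) (kd xd15 yd36 zd3) (kd xd4 yd8 zd47) (kd xd15 yd36 zd6) (kd xd8 yd30 zd40) (kd xd8 yd29 zd56) (kd xd15 yd36 zd13) (kd xd4 yd8 zd50) (kd xd15 yd36 zd16) (kd xd11 yd45 zd29) (kd xd4 yd8 zd51) (kd xd8 yd17 zd54) (kd xd15 yd24 zd10) (kd xd8 yd20 zd24) (kd xd4 yd28 zd36) (kd xd8 yd36 zd3) (kd xd8 yd15 zd42)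 (kd xd8 yd7 zd46) (kd xd15 yd36 zd33)) (@D3.rec (fun _ => Pt) (kd xd4 yd8 zd59) (kd xd15 yd36 zd37) (kd xd15 yd36 zd39) (kd xd6 yd4 zd57) (kd xd15 yd18 zd31) (kd xd5 yd21 zd6) (kd xd14 yd58 zd10) (kd xd15 yd15 zd55) (kd xd15 yd36 zd47) (kd xd9 yd37 zd45) (kd xd8 yd19 zd26) (kd xd4 yd9 zd3) (kd xd15 yd36 zd53) (kd xd8 yd31 zd18) (kd xd15 yd36 zd57) (kd xd15 yd36 zd61) (kd xd15 yd37 zd1) (kd xd4 yd9 zd7) (kd xd15 yd37 zd9) (kd xd15 yd37 zd12) (kd xd15 yd37 zd15) (kd xd15 yd37 zd18) (kd xd4 yd9 zd9) (kd xd15 yd37 zd22) (kd xd15 yd37 zd24) (kd xd15 yd37 zd26) (kd xd8 yd31 zd28) (kd xd15 yd34 zd7) (kd xd15 yd37 zd32) (kd xd4 yd9 zd13) (kd xd15 yd37 zd37) (kd xd4 yd9 zd14) (kd xd15 yd37 zd42) (kd xd4 yd9 zd15) (kd xd15 yd37 zd46) (kd xd15 yd37 zd47) (kd xd8 yd9 zd34) (kd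 xd15 yd35 zd46) (kd xd15 yd17 zd15) (kd xd15 yd35 zd48) (kd xd15 yd35 zd38) (kd xd15 yd35 zd39) (kd xd15 yd37 zd59) (kd xd4 yd9 zd20) (kd xd15 yd38 zd5) (kd xd5 yd29 zd33) (kd xd5 yd29 zd36) (kd xd15 yd38 zd11) (kd xd15 yd38 zd14) (kd xd15 yd38 zd16) (kd xd4 yd9 zd22) (kd xd15 yd38 zd21) (kd xd5 yd29 zd54) (kd xd15 yd38 zd23) (kd xd4 yd9 zd25) (kd xd15 yd38 zd25) (kd xd5 yd28 zd36) (kd xd15 yd38 zd28) (kd xd5 yd21 zd20) (kd xd4 yd55 zd20) (kd xd4 yd9 zd30) (kd xd15 yd38 zd36)) (@D3.rec (fun _ => Pt) (kd xd10 yd25 zd28) (kd xd10 yd25 zd29) (kd xd4 yd9 zd31) (kd xd15 yd38 zd41) (kd xd15 yd37 zd3) (kd xd15 yd37 zd4) (kd xd15 yd38 zd47) (kd xd4 yd9 zd32) (kd xd13 yd35 zd23) (kd xd15 yd33 zd11) (kd xd15 yd38 zd60) (kd xd15 yd39 zd0) (kd xd4 yd9 zd34) (kd xd13 yd46 zd20)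 (kd xd15 yd39 zd3) (kd xd5 yd27 zd41) (kd xd15 yd39 zd7) (kd xd4 yd15 zd46) (kd xd13 yd4 zd35) (kd xd4 yd9 zd39) (kd xd15 yd39 zd15) (kd xd15 yd39 zd19) (kd xd15 yd39 zd21) (kd xd15 yd39 zd25) (kd xd4 yd9 zd40) (kd xd15 yd39 zd32) (kd xd8 yd18 zd10) (kd xd8 yd16 zd26) (kd xd4 yd16 zd61) (kd xd15 yd39 zd40) (kd xd4 yd9 zd43) (kd xd15 yd39 zd45) (kd xd15 yd39 zd48) (kd xd15 yd39 zd51) (kd xd15 yd39 zd53) (kd xd4 yd9 zd44) (kd xd15 yd39 zd61) (kd xd15 yd40 zd3) (kd xd4 yd9 zd46) (kd xd15 yd40 zd8) (kd xd15 yd40 zd9) (kd xd15 yd40 zd11) (kd xd15 yd40 zd15) (kd xd4 yd9 zd47) (kd xd15 yd40 zd21) (kd xd15 yd40 zd25) (kd xd4 yd9 zd48) (kd xd4 yd9 zd49) (kd xd9 yd28 zd10) (kd xd15 yd35 zd16) (kd xd12 yd57 zd35) (kd xd8 yd32 zd19) (kd xd4 yd9 zd51) (kd xd15 yd16 zd50) (kd xd15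 yd15 zd1) (kd xd15 yd40 zd48) (kd xd5 yd29 zd38) (kd xd15 yd40 zd54) (kd xd5 yd29 zd18) (kd xd15 yd40 zd60) (kd xd15 yd41 zd0) (kd xd15 yd41 zd3)) (@D3.rec (fun _ => Pt) (kd xd8 yd32 zd28) (kd xd15 yd41 zd6) (kd xd15 yd41 zd9) (kd xd15 yd41 zd12) (kd xd4 yd9 zd57) (kd xd15 yd41 zd15) (kd xd4 yd9 zd58) (kd xd8 yd15 zd20) (kd xd15 yd41 zd20) (kd xd15 yd41 zd23) (kd xd4 yd9 zd59) (kd xd5 yd26 zd28) (kd xd15 yd3 zd1) (kd xd15 yd41 zd31) (kd xd15 yd41 zd33) (kd xd15 yd41 zd37) (kd xd4 yd10 zd0) (kd xd15 yd41 zd42) (kd xd5 yd12 zd7) (kd xd5 yd12 zd6) (kd xd8 yd52 zd37) (kd xd15 yd41 zd48) (kd xd8 yd20 zd22) (kd xd15 yd2 zd9) (kd xd8 yd17 zd56) (kd xd15 yd2 zd59) (kd xd15 yd41 zd57) (kd xd5 yd22 zd23) (kd xd4 yd10 zd7) (kd xd15 yd41 zd61) (kd xd15 yd42 zd2) (kd xd4 yd10 zd11)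 (kd xd15 yd42 zd7) (kd xd15 yd42 zd10) (kd xd8 yd52 zd57) (kd xd15 yd42 zd15) (kd xd4 yd10 zd13) (kd xd15 yd42 zd19) (kd xd5 yd22 zd50) (kd xd10 yd30 zd36) (kd xd15 yd42 zd24) (kd xd4 yd10 zd15) (kd xd15 yd42 zd27) (kd xd15 yd42 zd32) (kd xd4 yd10 zd16) (kd xd15 yd42 zd35) (kd xd14 yd37 zd28) (kd xd15 yd42 zd39) (kd xd14 yd42 zd24) (kd xd4 yd10 zd17) (kd xd12 yd13 zd27) (kd xd4 yd11 zd3) (kd xd4 yd11 zd4) (kd xd15 yd42 zd48) (kd xd15 yd42 zd52) (kd xd15 yd42 zd55) (kd xd4 yd10 zd19) (kd xd15 yd42 zd60) (kd xd10 yd27 zd54) (kd xd15 yd43 zd1) (kd xd15 yd43 zd3) (kd xd8 yd33 zd21)) (@D3.rec (fun _ => Pt) (kd xd4 yd11 zd58) (kd xd4 yd11 zd59) (kd xd8 yd23 zd21) (kd xd12 yd28 zd41) (kd xd7 yd55 zd17) (kd xd15 yd43 zd10) (kd xd4 yd10 zd26) (kd xd15 yd43 zd14) (kd xd15 yd43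 zd16) (kd xd8 yd21 zd9) (kd xd15 yd43 zd18) (kd xd8 yd21 zd11) (kd xd15 yd43 zd22) (kd xd4 yd10 zd37) (kd xd15 yd43 zd25) (kd xd13 yd55 zd46) (kd xd4 yd10 zd39) (kd xd15 yd43 zd26) (kd xd15 yd43 zd30) (kd xd4 yd10 zd44) (kd xd14 yd1 zd44) (kd xd9 yd46 zd27) (kd xd4 yd10 zd45) (kd xd15 yd43 zd37) (kd xd14 yd2 zd56) (kd xd9 yd45 zd53) (kd xd15 yd43 zd40) (kd xd4 yd10 zd46) (kd xd4 yd11 zd26) (kd xd4 yd11 zd27) (kd xd4 yd18 zd39) (kd xd15 yd43 zd49) (kd xd15 yd43 zd52) (kd xd4 yd10 zd48) (kd xd10 yd33 zd44) (kd xd15 yd43 zd58) (kd xd15 yd43 zd60) (kd xd15 yd44 zd1) (kd xd15 yd44 zd5) (kd xd4 yd10 zd51) (kd xd10 yd40 zd42) (kd xd14 yd28 zd53) (kd xd8 yd34 zd8) (kd xd15 yd44 zd13) (kd xd4 yd10 zd56) (kd xd12 yd27 zd48) (kd xd8 yd31 zd47) (kd xd12 yd4 zd1) (kd xd11 yd14 zd50)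 (kd xd15 yd44 zd20) (kd xd4 yd10 zd60) (kd xd10 yd45 zd0) (kd xd4 yd33 zd36) (kd xd4 yd33 zd37) (kd xd10 yd58 zd30) (kd xd15 yd44 zd29) (kd xd4 yd11 zd1) (kd xd15 yd44 zd34) (kd xd10 yd40 zd9) (kd xd10 yd32 zd31) (kd xd5 yd20 zd40) (kd xd15 yd42 zd42)) (@D3.rec (fun _ => Pt) (kd xd15 yd44 zd42) (kd xd15 yd42 zd44) (kd xd15 yd42 zd40) (kd xd7 yd45 zd54) (kd xd15 yd44 zd48) (kd xd4 yd11 zd5) (kd xd15 yd44 zd53) (kd xd4 yd17 zd22) (kd xd4 yd17 zd23) (kd xd15 yd44 zd60) (kd xd15 yd45 zd2) (kd xd15 yd45 zd6) (kd xd4 yd11 zd7) (kd xd15 yd45 zd11) (kd xd15 yd45 zd12) (kd xd15 yd45 zd15) (kd xd4 yd11 zd8) (kd xd8 yd52 zd36) (kd xd15 yd45 zd19) (kd xd5 yd22 zd48) (kd xd15 yd45 zd23) (kd xd14 yd42 zd22) (kd xd8 yd34 zd41) (kd xd6 yd48 zd33) (kd xd14 yd22 zd1) (kd xd4 yd12 zd38)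 (kd xd12 yd15 zd50) (kd xd4 yd11 zd20) (kd xd11 yd10 zd39) (kd xd15 yd45 zd32) (kd xd4 yd11 zd23) (kd xd7 yd25 zd23) (kd xd4 yd11 zd24) (kd xd15 yd45 zd39) (kd xd8 yd52 zd35) (kd xd5 yd19 zd20) (kd xd15 yd43 zd42) (kd xd15 yd3 zd32) (kd xd15 yd45 zd49) (kd xd14 yd38 zd55) (kd xd15 yd43 zd41) (kd xd13 yd54 zd11) (kd xd4 yd11 zd28) (kd xd4 yd16 zd51) (kd xd4 yd16 zd52) (kd xd4 yd52 zd6) (kd xd15 yd45 zd61) (kd xd15 yd42 zd57) (kd xd15 yd42 zd58) (kd xd4 yd11 zd30) (kd xd15 yd46 zd7) (kd xd15 yd46 zd9) (kd xd5 yd22 zd49) (kd xd8 yd5 zd52) (kd xd15 yd46 zd12) (kd xd13 yd22 zd6) (kd xd15 yd46 zd15) (kd xd8 yd35 zd14) (kd xd15 yd46 zd17) (kd xd6 yd23 zd47) (kd xd12 yd51 zd11) (kd xd8 yd35 zd19)) (@D3.rec (fun _ => Pt) (kd xd6 yd23 zd49) (kd xd9 yd31 zd25) (kd xd11 yd51 zd15)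 (kd xd12 yd56 zd39) (kd xd9 yd32 zd22) (kd xd4 yd11 zd45) (kd xd8 yd23 zd34) (kd xd12 yd16 zd29) (kd xd15 yd46 zd27) (kd xd4 yd11 zd47) (kd xd6 yd59 zd3) (kd xd14 yd2 zd46) (kd xd12 yd17 zd40) (kd xd15 yd46 zd30) (kd xd4 yd11 zd48) (kd xd15 yd46 zd32) (kd xd15 yd46 zd34) (kd xd15 yd46 zd37) (kd xd4 yd11 zd49) (kd xd15 yd46 zd45) (kd xd15 yd46 zd44) (kd xd8 yd21 zd2) (kd xd15 yd46 zd49) (kd xd6 yd50 zd1) (kd xd4 yd11 zd52) (kd xd6 yd28 zd31) (kd xd6 yd49 zd31) (kd xd12 yd27 zd5) (kd xd15 yd46 zd52) (kd xd15 yd46 zd53) (kd xd4 yd11 zd54) (kd xd15 yd46 zd57) (kd xd15 yd46 zd59) (kd xd15 yd46 zd61) (kd xd8 yd23 zd6) (kd xd15 yd47 zd2) (kd xd12 yd13 zd16) (kd xd15 yd47 zd4) (kd xd6 yd20 zd44) (kd xd15 yd47 zd6) (kd xd15 yd47 zd8) (kd xd4 yd11 zd60) (kd xd15 yd47 zd15) (kd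 xd12 yd15 zd60) (kd xd12 yd15 zd61) (kd xd15 yd47 zd19) (kd xd15 yd47 zd22) (kd xd4 yd12 zd2) (kd xd15 yd47 zd25) (kd xd4 yd12 zd3) (kd xd5 yd21 zd52) (kd xd12 yd3 zd16) (kd xd4 yd12 zd4) (kd xd12 yd3 zd11) (kd xd4 yd18 zd32) (kd xd5 yd16 zd60) (kd xd8 yd13 zd28) (kd xd4 yd20 zd25) (kd xd15 yd9 zd53) (kd xd8 yd23 zd59) (kd xd8 yd23 zd60) (kd xd15 yd47 zd39)) (@D3.rec (fun _ => Pt) (kd xd4 yd12 zd12) (kd xd15 yd47 zd44) (kd xd15 yd47 zd46) (kd xd15 yd47 zd50) (kd xd4 yd12 zd14) (kd xd4 yd42 zd26) (kd xd5 yd2 zd15) (kd xd5 yd2 zd14) (kd xd9 yd58 zd17) (kd xd4 yd55 zd10) (kd xd15 yd47 zd59) (kd xd4 yd12 zd19) (kd xd15 yd48 zd2) (kd xd15 yd48 zd5) (kd xd15 yd2 zd30) (kd xd5 yd39 zd39) (kd xd8 yd31 zd17) (kd xd8 yd26 zd27) (kd xd15 yd48 zd9) (kd xd4 yd12 zd22) (kd xd15 yd48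 zd12) (kd xd9 yd41 zd18) (kd xd15 yd24 zd24) (kd xd15 yd48 zd18) (kd xd4 yd12 zd24) (kd xd15 yd48 zd20) (kd xd15 yd48 zd25) (kd xd4 yd12 zd25) (kd xd14 yd12 zd19) (kd xd6 yd3 zd58) (kd xd15 yd48 zd29) (kd xd4 yd12 zd26) (kd xd4 yd21 zd16) (kd xd4 yd21 zd2) (kd xd4 yd27 zd32) (kd xd4 yd42 zd13) (kd xd6 yd23 zd37) (kd xd6 yd23 zd38) (kd xd15 yd48 zd42) (kd xd15 yd48 zd45) (kd xd4 yd12 zd29) (kd xd10 yd7 zd24) (kd xd12 yd59 zd0) (kd xd4 yd12 zd30) (kd xd8 yd36 zd32) (kd xd4 yd12 zd32) (kd xd15 yd48 zd55) (kd xd4 yd12 zd35) (kd xd15 yd48 zd60) (kd xd15 yd49 zd1) (kd xd15 yd49 zd4) (kd xd4 yd31 zd30) (kd xd5 yd39 zd56) (kd xd4 yd45 zd31) (kd xd6 yd11 zd39) (kd xd6 yd11 zd28) (kd xd6 yd20 zd29) (kd xd15 yd25 zd26) (kd xd15 yd23 zd34) (kd xd15 yd49 zd7) (kd xd12 yd4 zd14)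 (kd xd4 yd12 zd45)) (@D3.rec (fun _ => Pt) (kd xd7 yd48 zd52) (kd xd6 yd27 zd6) (kd xd10 yd9 zd0) (kd xd10 yd9 zd1) (kd xd8 yd36 zd41) (kd xd8 yd25 zd5) (kd xd8 yd25 zd6) (kd xd15 yd49 zd11) (kd xd4 yd12 zd56) (kd xd15 yd49 zd14) (kd xd12 yd54 zd25) (kd xd4 yd12 zd58) (kd xd12 yd54 zd23) (kd xd8 yd13 zd36) (kd xd15 yd27 zd20) (kd xd8 yd59 zd26) (kd xd4 yd13 zd1) (kd xd15 yd49 zd26) (kd xd4 yd55 zd7) (kd xd12 yd34 zd12) (kd xd4 yd13 zd4) (kd xd11 yd35 zd56) (kd xd15 yd49 zd35) (kd xd4 yd55 zd15) (kd xd15 yd49 zd38) (kd xd4 yd13 zd6) (kd xd15 yd49 zd41) (kd xd5 yd44 zd0) (kd xd4 yd13 zd7) (kd xd15 yd49 zd43) (kd xd11 yd59 zd25) (kd xd12 yd59 zd61) (kd xd15 yd49 zd47) (kd xd4 yd13 zd8) (kd xd4 yd21 zd3) (kd xd4 yd16 zd44) (kd xd12 yd39 zd12) (kd xd6 yd34 zd38) (kd xd4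 yd13 zd10) (kd xd9 yd58 zd47) (kd xd15 yd25 zd8) (kd xd15 yd49 zd55) (kd xd6 yd28 zd5) (kd xd6 yd21 zd60) (kd xd11 yd19 zd10) (kd xd15 yd49 zd58) (kd xd15 yd50 zd0) (kd xd4 yd13 zd25) (kd xd15 yd22 zd10) (kd xd15 yd22 zd11) (kd xd8 yd28 zd16) (kd xd15 yd13 zd3) (kd xd11 yd34 zd39) (kd xd15 yd50 zd6) (kd xd4 yd13 zd28) (kd xd15 yd50 zd9) (kd xd4 yd13 zd29) (kd xd11 yd32 zd34) (kd xd4 yd13 zd30) (kd xd5 yd55 zd30) (kd xd10 yd17 zd28) (kd xd15 yd50 zd21)) (@D3.rec (fun _ => Pt) (kd xd4 yd39 zd37) (kd xd4 yd13 zd32) (kd xd8 yd5 zd36) (kd xd10 yd8 zd52) (kd xd8 yd51 zd12) (kd xd7 yd57 zd27) (kd xd4 yd39 zd40) (kd xd11 yd23 zd40) (kd xd8 yd15 zd49) (kd xd5 yd16 zd9) (kd xd10 yd24 zd2) (kd xd9 yd41 zd43) (kd xd15 yd50 zd49) (kd xd4 yd13 zd40) (kd xd8 yd26 zd14) (kd xd4 yd13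 zd43) (kd xd10 yd19 zd48) (kd xd10 yd24 zd3) (kd xd8 yd6 zd2) (kd xd15 yd50 zd59) (kd xd4 yd13 zd47) (kd xd8 yd26 zd21) (kd xd5 yd17 zd24) (kd xd10 yd7 zd20) (kd xd15 yd51 zd5) (kd xd4 yd13 zd52) (kd xd8 yd26 zd26) (kd xd8 yd24 zd17) (kd xd8 yd16 zd25) (kd xd15 yd51 zd15) (kd xd4 yd13 zd56) (kd xd8 yd26 zd31) (kd xd4 yd16 zd33) (kd xd8 yd15 zd51) (kd xd5 yd29 zd22) (kd xd13 yd36 zd51) (kd xd4 yd13 zd61) (kd xd6 yd56 zd20) (kd xd15 yd33 zd21) (kd xd5 yd35 zd57) (kd xd15 yd28 zd47) (kd xd10 yd50 zd24) (kd xd4 yd16 zd34) (kd xd5 yd35 zd24) (kd xd15 yd51 zd32) (kd xd4 yd14 zd6) (kd xd9 yd21 zd15) (kd xd8 yd31 zd58) (kd xd10 yd50 zd29) (kd xd15 yd51 zd37) (kd xd4 yd14 zd9) (kd xd15 yd51 zd39) (kd xd15 yd51 zd40) (kd xd15 yd51 zd41) (kd xd4 yd14 zd10) (kd xd15 yd30 zd55)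 (kd xd9 yd33 zd15) (kd xd15 yd51 zd47) (kd xd4 yd14 zd12) (kd xd15 yd51 zd50) (kd xd9 yd43 zd53) (kd xd15 yd51 zd55)) (@D3.rec (fun _ => Pt) (kd xd4 yd14 zd13) (kd xd15 yd51 zd57) (kd xd15 yd51 zd61) (kd xd4 yd14 zd14) (kd xd15 yd52 zd2) (kd xd15 yd52 zd8) (kd xd15 yd52 zd12) (kd xd15 yd52 zd14) (kd xd4 yd14 zd15) (kd xd15 yd52 zd19) (kd xd4 yd15 zd57) (kd xd4 yd15 zd35) (kd xd15 yd51 zd16) (kd xd4 yd14 zd17) (kd xd10 yd38 zd21) (kd xd15 yd52 zd28) (kd xd15 yd52 zd30) (kd xd15 yd52 zd35) (kd xd4 yd14 zd19) (kd xd15 yd52 zd39) (kd xd8 yd14 zd9) (kd xd5 yd35 zd59) (kd xd9 yd43 zd45) (kd xd15 yd52 zd45) (kd xd4 yd14 zd21) (kd xd15 yd52 zd50) (kd xd15 yd52 zd52) (kd xd9 yd36 zd29) (kd xd4 yd56 zd49) (kd xd15 yd52 zd57) (kd xd15 yd53 zd0) (kd xd15 yd53 zd2) (kd xd4 yd14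 zd23) (kd xd15 yd17 zd26) (kd xd4 yd14 zd51) (kd xd15 yd53 zd9) (kd xd8 yd9 zd45) (kd xd8 yd9 zd46) (kd xd5 yd33 zd32) (kd xd15 yd53 zd17) (kd xd15 yd53 zd19) (kd xd4 yd14 zd28) (kd xd15 yd53 zd24) (kd xd5 yd35 zd60) (kd xd15 yd52 zd41) (kd xd9 yd33 zd25) (kd xd9 yd33 zd26) (kd xd7 yd15 zd6) (kd xd4 yd14 zd32) (kd xd7 yd29 zd49) (kd xd4 yd14 zd33) (kd xd15 yd53 zd33) (kd xd4 yd14 zd34) (kd xd15 yd53 zd37) (kd xd15 yd53 zd40) (kd xd9 yd54 zd49) (kd xd8 yd4 zd6) (kd xd5 yd33 zd35) (kd xd5 yd33 zd36) (kd xd5 yd39 zd6) (kd xd15 yd53 zd52) (kd xd15 yd53 zd55)) (@D3.rec (fun _ => Pt) (kd xd15 yd53 zd57) (kd xd4 yd14 zd37) (kd xd15 yd54 zd0) (kd xd8 yd44 zd46) (kd xd4 yd14 zd38) (kd xd4 yd14 zd39) (kd xd10 yd10 zd20) (kd xd5 yd39 zd14) (kd xd15 yd54 zd3) (kd xd4 yd14 zd41)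 (kd xd15 yd54 zd6) (kd xd15 yd54 zd9) (kd xd4 yd14 zd42) (kd xd15 yd54 zd13) (kd xd8 yd10 zd18) (kd xd9 yd43 zd56) (kd xd8 yd25 zd50) (kd xd15 yd22 zd22) (kd xd15 yd54 zd18) (kd xd15 yd54 zd22) (kd xd4 yd14 zd46) (kd xd15 yd54 zd28) (kd xd15 yd22 zd21) (kd xd15 yd54 zd34) (kd xd15 yd54 zd36) (kd xd4 yd14 zd47) (kd xd15 yd54 zd41) (kd xd4 yd14 zd48) (kd xd11 yd8 zd39) (kd xd11 yd8 zd40) (kd xd12 yd39 zd29) (kd xd15 yd54 zd54) (kd xd15 yd38 zd22) (kd xd15 yd54 zd57) (kd xd15 yd53 zd8) (kd xd4 yd14 zd52) (kd xd4 yd14 zd53) (kd xd8 yd4 zd13) (kd xd4 yd14 zd54) (kd xd4 yd51 zd37) (kd xd15 yd55 zd5) (kd xd4 yd14 zd55) (kd xd15 yd55 zd10) (kd xd6 yd5 zd34) (kd xd6 yd5 zd33) (kd xd5 yd32 zd13) (kd xd15 yd55 zd17) (kd xd4 yd14 zd57) (kd xd15 yd55 zd22) (kd xd15 yd39 zd5) (kd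 xd8 yd32 zd35) (kd xd8 yd16 zd35) (kd xd15 yd55 zd30) (kd xd4 yd14 zd59) (kd xd15 yd55 zd33) (kd xd15 yd55 zd38) (kd xd4 yd14 zd60) (kd xd15 yd55 zd41) (kd xd15 yd55 zd47) (kd xd15 yd55 zd51) (kd xd15 yd55 zd52) (kd xd4 yd14 zd61)) (@D3.rec (fun _ => Pt) (kd xd15 yd55 zd56) (kd xd5 yd15 zd18) (kd xd5 yd15 zd34) (kd xd5 yd15 zd9) (kd xd4 yd15 zd1) (kd xd15 yd56 zd3) (kd xd10 yd46 zd29) (kd xd8 yd30 zd47) (kd xd15 yd56 zd9) (kd xd4 yd15 zd5) (kd xd8 yd29 zd10) (kd xd15 yd56 zd13) (kd xd4 yd15 zd7) (kd xd15 yd56 zd15) (kd xd13 yd17 zd18) (kd xd4 yd15 zd11) (kd xd7 yd15 zd31) (kd xd8 yd16 zd2) (kd xd8 yd6 zd7) (kd xd15 yd56 zd22) (kd xd4 yd15 zd13) (kd xd15 yd56 zd25) (kd xd11 yd45 zd45) (kd xd4 yd15 zd14) (kd xd13 yd20 zd26) (kd xd15 yd56 zd33) (kd xd15 yd56 zd37) (kd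 xd11 yd16 zd7) (kd xd4 yd15 zd15) (kd xd10 yd21 zd56) (kd xd10 yd19 zd28) (kd xd8 yd11 zd17) (kd xd10 yd19 zd27) (kd xd15 yd56 zd44) (kd xd5 yd17 zd56) (kd xd8 yd31 zd59) (kd xd15 yd56 zd52) (kd xd4 yd15 zd22) (kd xd13 yd17 zd41) (kd xd5 yd15 zd28) (kd xd5 yd18 zd0) (kd xd15 yd56 zd61) (kd xd4 yd15 zd24) (kd xd15 yd32 zd45) (kd xd8 yd15 zd21) (kd xd8 yd55 zd46) (kd xd8 yd7 zd53) (kd xd10 yd19 zd16) (kd xd15 yd57 zd12) (kd xd4 yd15 zd27) (kd xd12 yd33 zd51) (kd xd15 yd56 zd4) (kd xd8 yd30 zd56) (kd xd15 yd57 zd21) (kd xd4 yd15 zd29) (kd xd15 yd57 zd26) (kd xd8 yd17 zd48) (kd xd5 yd17 zd37) (kd xd15 yd57 zd32) (kd xd4 yd15 zd31) (kd xd9 yd24 zd27) (kd xd15 yd57 zd37)) (@D3.rec (fun _ => Pt) (kd xd4 yd15 zd32) (kd xd15 yd57 zd40) (kd xd15 yd57 zd45) (kd xd15 yd57 zd50)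 (kd xd15 yd57 zd52) (kd xd4 yd15 zd33) (kd xd15 yd52 zd21) (kd xd4 yd51 zd1) (kd xd5 yd30 zd18) (kd xd8 yd16 zd61) (kd xd8 yd6 zd49) (kd xd15 yd58 zd5) (kd xd4 yd15 zd37) (kd xd15 yd39 zd42) (kd xd11 yd55 zd35) (kd xd5 yd32 zd30) (kd xd5 yd29 zd29) (kd xd15 yd58 zd13) (kd xd4 yd15 zd39) (kd xd15 yd58 zd16) (kd xd15 yd58 zd20) (kd xd4 yd15 zd41) (kd xd15 yd38 zd18) (kd xd15 yd58 zd26) (kd xd4 yd15 zd42) (kd xd15 yd58 zd29) (kd xd15 yd58 zd32) (kd xd15 yd58 zd36) (kd xd15 yd58 zd38) (kd xd4 yd15 zd43) (kd xd15 yd58 zd46) (kd xd4 yd16 zd3) (kd xd4 yd16 zd4) (kd xd12 yd51 zd38) (kd xd15 yd39 zd2) (kd xd15 yd39 zd1) (kd xd4 yd15 zd45) (kd xd15 yd32 zd43) (kd xd15 yd40 zd6) (kd xd15 yd40 zd5) (kd xd8 yd17 zd47) (kd xd8 yd16 zd46) (kd xd7 yd15 zd52) (kd xd4 yd15 zd49) (kd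 xd13 yd35 zd49) (kd xd4 yd15 zd50) (kd xd9 yd41 zd7) (kd xd8 yd29 zd7) (kd xd15 yd59 zd3) (kd xd4 yd15 zd54) (kd xd15 yd59 zd6) (kd xd15 yd32 zd2) (kd xd5 yd21 zd45) (kd xd10 yd35 zd0) (kd xd15 yd52 zd20) (kd xd7 yd38 zd6) (kd xd8 yd29 zd52) (kd xd8 yd17 zd22) (kd xd15 yd59 zd12) (kd xd15 yd59 zd15) (kd xd15 yd59 zd17) (kd xd4 yd15 zd59)) (@D3.rec (fun _ => Pt) (kd xd15 yd59 zd24) (kd xd15 yd32 zd52) (kd xd10 yd50 zd57) (kd xd8 yd55 zd44) (kd xd4 yd15 zd61) (kd xd8 yd15 zd24) (kd xd15 yd59 zd30) (kd xd4 yd29 zd14) (kd xd5 yd29 zd59) (kd xd15 yd58 zd48) (kd xd15 yd59 zd37) (kd xd15 yd58 zd50) (kd xd15 yd58 zd40) (kd xd15 yd58 zd41) (kd xd15 yd59 zd45) (kd xd4 yd16 zd5) (kd xd15 yd59 zd53) (kd xd8 yd24 zd16) (kd xd8 yd18 zd13) (kd xd4 yd18 zd24) (kd xd16 yd0 zd0) (kd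 xd6 yd42 zd50) (kd xd4 yd16 zd7) (kd xd9 yd28 zd17) (kd xd16 yd0 zd4) (kd xd4 yd16 zd8) (kd xd12 yd52 zd26) (kd xd4 yd16 zd9) (kd xd8 yd18 zd26) (kd xd4 yd45 zd12) (kd xd16 yd0 zd10) (kd xd4 yd16 zd12) (kd xd16 yd0 zd13) (kd xd10 yd21 zd6) (kd xd10 yd21 zd7) (kd xd10 yd27 zd55) (kd xd15 yd59 zd19) (kd xd15 yd59 zd20) (kd xd16 yd0 zd19) (kd xd4 yd16 zd14) (kd xd16 yd0 zd24) (kd xd16 yd0 zd27) (kd xd16 yd0 zd31) (kd xd16 yd0 zd34) (kd xd4 yd16 zd16) (kd xd16 yd0 zd36) (kd xd16 yd0 zd37) (kd xd8 yd21 zd46) (kd xd16 yd0 zd40) (kd xd16 yd0 zd44) (kd xd4 yd16 zd20) (kd xd16 yd0 zd48) (kd xd16 yd0 zd52) (kd xd16 yd0 zd54) (kd xd16 yd0 zd58) (kd xd4 yd16 zd21) (kd xd16 yd1 zd4) (kd xd4 yd19 zd42) (kd xd8 yd26 zd47) (kd xd8 yd29 zd35) (kd xd4 yd16 zd29) (kd xd4 yd16 zd24)) (@D3.rec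 (fun _ => Pt) (kd xd9 yd22 zd53) (kd xd16 yd1 zd14) (kd xd16 yd1 zd17) (kd xd16 yd1 zd20) (kd xd16 yd1 zd24) (kd xd4 yd16 zd25) (kd xd16 yd1 zd31) (kd xd5 yd0 zd61) (kd xd16 yd0 zd35) (kd xd4 yd16 zd28) (kd xd16 yd1 zd39) (kd xd16 yd1 zd1) (kd xd9 yd25 zd1) (kd xd16 yd1 zd46) (kd xd4 yd16 zd30) (kd xd4 yd16 zd31) (kd xd6 yd48 zd19) (kd xd15 yd58 zd12) (kd xd15 yd40 zd29) (kd xd8 yd19 zd51) (kd xd15 yd51 zd17) (kd xd12 yd32 zd59) (kd xd15 yd51 zd28) (kd xd10 yd44 zd42) (kd xd5 yd31 zd4) (kd xd16 yd2 zd6) (kd xd16 yd2 zd10) (kd xd16 yd2 zd14) (kd xd8 yd20 zd0) (kd xd16 yd2 zd18) (kd xd15 yd16 zd11) (kd xd15 yd16 zd10) (kd xd4 yd16 zd38) (kd xd16 yd2 zd26) (kd xd4 yd16 zd39) (kd xd8 yd28 zd50) (kd xd16 yd2 zd29) (kd xd16 yd2 zd32) (kd xd4 yd16 zd40) (kd xd6 yd6 zd2) (kd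 xd8 yd32 zd40) (kd xd5 yd43 zd45) (kd xd4 yd16 zd42) (kd xd16 yd2 zd40) (kd xd15 yd42 zd11) (kd xd15 yd49 zd48) (kd xd16 yd2 zd44) (kd xd5 yd5 zd28) (kd xd5 yd5 zd27) (kd xd5 yd19 zd61) (kd xd11 yd52 zd10) (kd xd5 yd44 zd11) (kd xd4 yd16 zd46) (kd xd16 yd2 zd52) (kd xd16 yd2 zd55) (kd xd5 yd24 zd45) (kd xd5 yd20 zd41) (kd xd9 yd35 zd13) (kd xd14 yd7 zd54) (kd xd4 yd16 zd49) (kd xd7 yd49 zd44) (kd xd8 yd53 zd26)) (@D3.rec (fun _ => Pt) (kd xd11 yd52 zd23) (kd xd15 yd45 zd56) (kd xd15 yd45 zd8) (kd xd11 yd26 zd53) (kd xd13 yd8 zd47) (kd xd15 yd45 zd53) (kd xd7 yd25 zd54) (kd xd16 yd3 zd11) (kd xd4 yd16 zd53) (kd xd4 yd17 zd39) (kd xd4 yd17 zd40) (kd xd16 yd3 zd20) (kd xd16 yd3 zd23) (kd xd16 yd3 zd25) (kd xd4 yd16 zd55) (kd xd15 yd38 zd39) (kd xd16 yd3 zd32) (kd xd4 yd16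 zd56) (kd xd8 yd4 zd39) (kd xd16 yd3 zd37) (kd xd4 yd16 zd57) (kd xd8 yd20 zd61) (kd xd15 yd39 zd37) (kd xd12 yd13 zd60) (kd xd15 yd55 zd26) (kd xd16 yd0 zd5) (kd xd5 yd30 zd59) (kd xd11 yd53 zd25) (kd xd16 yd3 zd48) (kd xd4 yd17 zd6) (kd xd16 yd3 zd52) (kd xd6 yd48 zd21) (kd xd16 yd3 zd55) (kd xd12 yd1 zd25) (kd xd16 yd3 zd58) (kd xd16 yd4 zd0) (kd xd4 yd17 zd12) (kd xd16 yd4 zd3) (kd xd16 yd4 zd5) (kd xd4 yd17 zd14) (kd xd16 yd4 zd7) (kd xd10 yd32 zd42) (kd xd10 yd32 zd43) (kd xd16 yd4 zd13) (kd xd4 yd17 zd18) (kd xd16 yd4 zd17) (kd xd16 yd4 zd21) (kd xd4 yd17 zd20) (kd xd16 yd4 zd26) (kd xd16 yd4 zd29) (kd xd4 yd28 zd3) (kd xd15 yd44 zd54) (kd xd16 yd4 zd34) (kd xd15 yd44 zd56) (kd xd16 yd4 zd39) (kd xd15 yd44 zd49) (kd xd15 yd44 zd50) (kd xd14 yd38 zd46) (kd xd4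 yd17 zd24) (kd xd14 yd1 zd0) (kd xd4 yd18 zd0) (kd xd4 yd18 zd1)) (@D3.rec (fun _ => Pt) (kd xd4 yd27 zd42) (kd xd16 yd4 zd51) (kd xd13 yd13 zd0) (kd xd4 yd17 zd26) (kd xd16 yd4 zd57) (kd xd11 yd53 zd14) (kd xd7 yd49 zd48) (kd xd16 yd4 zd60) (kd xd8 yd21 zd42) (kd xd14 yd37 zd38) (kd xd4 yd47 zd56) (kd xd6 yd29 zd9) (kd xd7 yd21 zd15) (kd xd4 yd17 zd37) (kd xd16 yd5 zd7) (kd xd16 yd5 zd10) (kd xd11 yd54 zd28) (kd xd8 yd52 zd56) (kd xd16 yd3 zd14) (kd xd16 yd5 zd16) (kd xd16 yd3 zd16) (kd xd16 yd3 zd12) (kd xd9 yd45 zd26) (kd xd14 yd2 zd18) (kd xd4 yd17 zd41) (kd xd16 yd5 zd23) (kd xd4 yd53 zd29) (kd xd16 yd5 zd27) (kd xd16 yd5 zd30) (kd xd16 yd5 zd33) (kd xd4 yd17 zd43) (kd xd16 yd5 zd37) (kd xd16 yd5 zd38) (kd xd16 yd5 zd41) (kd xd4 yd17 zd44) (kd xd5 yd19 zd60) (kd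 xd15 yd9 zd40) (kd xd16 yd5 zd47) (kd xd4 yd17 zd45) (kd xd8 yd53 zd24) (kd xd16 yd5 zd52) (kd xd8 yd22 zd22) (kd xd8 yd35 zd12) (kd xd14 yd42 zd32) (kd xd6 yd30 zd28) (kd xd10 yd53 zd11) (kd xd16 yd5 zd56) (kd xd4 yd17 zd55) (kd xd10 yd52 zd61) (kd xd6 yd19 zd12) (kd xd10 yd52 zd60) (kd xd16 yd6 zd1) (kd xd4 yd17 zd60) (kd xd16 yd6 zd5) (kd xd5 yd19 zd59) (kd xd8 yd52 zd8) (kd xd16 yd4 zd43) (kd xd16 yd4 zd45) (kd xd16 yd6 zd15) (kd xd14 yd21 zd19) (kd xd14 yd38 zd47) (kd xd16 yd6 zd19)) (@D3.rec (fun _ => Pt) (kd xd4 yd18 zd2) (kd xd4 yd28 zd4) (kd xd16 yd6 zd25) (kd xd16 yd3 zd27) (kd xd16 yd3 zd28) (kd xd4 yd18 zd4) (kd xd13 yd51 zd27) (kd xd10 yd22 zd31) (kd xd16 yd6 zd36) (kd xd8 yd53 zd25) (kd xd16 yd6 zd38) (kd xd7 yd47 zd35) (kd xd8 yd34 zd42) (kd xd16 yd6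 zd41) (kd xd8 yd22 zd57) (kd xd4 yd43 zd43) (kd xd16 yd6 zd43) (kd xd8 yd35 zd23) (kd xd16 yd6 zd45) (kd xd8 yd22 zd61) (kd xd8 yd35 zd25) (kd xd12 yd55 zd16) (kd xd4 yd18 zd18) (kd xd8 yd35 zd17) (kd xd6 yd45 zd33) (kd xd8 yd35 zd20) (kd xd16 yd6 zd51) (kd xd6 yd23 zd51) (kd xd9 yd43 zd4) (kd xd6 yd46 zd40) (kd xd12 yd18 zd29) (kd xd4 yd18 zd22) (kd xd12 yd18 zd61) (kd xd13 yd2 zd1) (kd xd16 yd6 zd55) (kd xd4 yd18 zd23) (kd xd16 yd6 zd57) (kd xd16 yd6 zd59) (kd xd15 yd59 zd50) (kd xd15 yd31 zd54) (kd xd6 yd19 zd48) (kd xd4 yd18 zd26) (kd xd4 yd40 zd10) (kd xd13 yd37 zd56) (kd xd16 yd7 zd3) (kd xd16 yd7 zd4) (kd xd4 yd18 zd28) (kd xd16 yd7 zd6) (kd xd4 yd40 zd9) (kd xd16 yd7 zd8) (kd xd4 yd18 zd31) (kd xd6 yd5 zd0) (kd xd6 yd24 zd10) (kd xd12 yd23 zd55) (kd xd8 yd35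 zd54) (kd xd8 yd35 zd55) (kd xd16 yd7 zd12) (kd xd4 yd18 zd37) (kd xd12 yd43 zd32) (kd xd15 yd48 zd6) (kd xd15 yd43 zd45) (kd xd16 yd7 zd19)) (@D3.rec (fun _ => Pt) (kd xd5 yd9 zd44) (kd xd5 yd9 zd43) (kd xd9 yd40 zd17) (kd xd8 yd17 zd58) (kd xd5 yd44 zd38) (kd xd4 yd18 zd43) (kd xd11 yd49 zd20) (kd xd16 yd7 zd31) (kd xd9 yd1 zd13) (kd xd16 yd7 zd35) (kd xd4 yd18 zd45) (kd xd16 yd7 zd37) (kd xd15 yd1 zd26) (kd xd15 yd27 zd34) (kd xd11 yd18 zd52) (kd xd4 yd18 zd47) (kd xd16 yd7 zd42) (kd xd16 yd7 zd43) (kd xd12 yd20 zd53) (kd xd4 yd18 zd49) (kd xd4 yd52 zd8) (kd xd4 yd52 zd9) (kd xd10 yd12 zd4) (kd xd9 yd56 zd11) (kd xd9 yd56 zd12) (kd xd4 yd18 zd51) (kd xd15 yd11 zd3) (kd xd16 yd7 zd57) (kd xd4 yd18 zd52) (kd xd9 yd52 zd24) (kd xd16 yd8 zd0) (kd xd4 yd18 zd53) (kd xd8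 yd24 zd44) (kd xd4 yd54 zd2) (kd xd4 yd18 zd60) (kd xd16 yd8 zd4) (kd xd5 yd44 zd33) (kd xd5 yd9 zd14) (kd xd5 yd1 zd46) (kd xd5 yd8 zd40) (kd xd16 yd8 zd7) (kd xd8 yd25 zd4) (kd xd15 yd10 zd1) (kd xd8 yd5 zd28) (kd xd16 yd5 zd45) (kd xd8 yd41 zd42) (kd xd7 yd55 zd42) (kd xd8 yd7 zd56) (kd xd8 yd7 zd57) (kd xd15 yd9 zd12) (kd xd16 yd8 zd19) (kd xd4 yd19 zd12) (kd xd16 yd8 zd24) (kd xd8 yd40 zd1) (kd xd4 yd19 zd13) (kd xd15 yd9 zd19) (kd xd16 yd8 zd26) (kd xd8 yd8 zd50) (kd xd16 yd8 zd28) (kd xd4 yd19 zd16) (kd xd5 yd1 zd26) (kd xd4 yd19 zd18)) (@D3.rec (fun _ => Pt) (kd xd4 yd19 zd19) (kd xd4 yd21 zd29) (kd xd8 yd38 zd8) (kd xd8 yd37 zd3) (kd xd16 yd8 zd42) (kd xd4 yd19 zd22) (kd xd12 yd42 zd45) (kd xd16 yd8 zd44) (kd xd4 yd19 zd24) (kd xd16 yd8 zd46) (kd xd8 yd11 zd24)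 (kd xd16 yd8 zd51) (kd xd4 yd19 zd28) (kd xd16 yd8 zd55) (kd xd7 yd58 zd4) (kd xd16 yd8 zd60) (kd xd4 yd19 zd31) (kd xd16 yd9 zd3) (kd xd16 yd9 zd6) (kd xd7 yd58 zd9) (kd xd16 yd9 zd9) (kd xd4 yd19 zd33) (kd xd7 yd31 zd50) (kd xd16 yd9 zd14) (kd xd4 yd19 zd34) (kd xd12 yd18 zd22) (kd xd4 yd19 zd35) (kd xd16 yd9 zd20) (kd xd16 yd9 zd23) (kd xd4 yd19 zd37) (kd xd15 yd28 zd27) (kd xd16 yd9 zd28) (kd xd16 yd9 zd31) (kd xd16 yd9 zd33) (kd xd16 yd9 zd36) (kd xd4 yd19 zd40) (kd xd4 yd19 zd44) (kd xd5 yd35 zd30) (kd xd8 yd37 zd52) (kd xd16 yd9 zd42) (kd xd9 yd37 zd50) (kd xd15 yd4 zd6) (kd xd15 yd7 zd18) (kd xd15 yd10 zd32) (kd xd16 yd9 zd47) (kd xd6 yd7 zd1) (kd xd6 yd7 zd0) (kd xd8 yd10 zd25) (kd xd14 yd9 zd29) (kd xd16 yd9 zd54) (kd xd16 yd9 zd56) (kd xd9 yd38 zd38) (kd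 xd8 yd37 zd38) (kd xd10 yd17 zd33) (kd xd16 yd10 zd0) (kd xd4 yd19 zd59) (kd xd16 yd10 zd6) (kd xd16 yd10 zd10) (kd xd16 yd10 zd11) (kd xd4 yd19 zd60) (kd xd8 yd39 zd5) (kd xd9 yd51 zd41)) (@D3.rec (fun _ => Pt) (kd xd11 yd2 zd38) (kd xd11 yd3 zd9) (kd xd10 yd16 zd19) (kd xd16 yd10 zd23) (kd xd15 yd9 zd1) (kd xd9 yd37 zd39) (kd xd8 yd3 zd2) (kd xd4 yd20 zd4) (kd xd8 yd37 zd2) (kd xd7 yd19 zd6) (kd xd4 yd20 zd7) (kd xd7 yd5 zd37) (kd xd7 yd5 zd38) (kd xd16 yd10 zd30) (kd xd4 yd20 zd10) (kd xd16 yd10 zd32) (kd xd4 yd20 zd11) (kd xd4 yd20 zd12) (kd xd8 yd42 zd53) (kd xd5 yd47 zd54) (kd xd16 yd3 zd18) (kd xd4 yd24 zd37) (kd xd4 yd20 zd14) (kd xd8 yd0 zd60) (kd xd8 yd10 zd29) (kd xd8 yd38 zd45) (kd xd11 yd2 zd37) (kd xd15 yd8 zd46) (kd xd14 yd59 zd30) (kd xd4 yd24 zd40)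 (kd xd9 yd47 zd15) (kd xd8 yd43 zd9) (kd xd7 yd57 zd50) (kd xd16 yd11 zd12) (kd xd4 yd20 zd21) (kd xd8 yd38 zd35) (kd xd15 yd12 zd18) (kd xd4 yd20 zd23) (kd xd16 yd11 zd19) (kd xd15 yd47 zd29) (kd xd16 yd11 zd24) (kd xd16 yd11 zd29) (kd xd16 yd11 zd34) (kd xd16 yd11 zd36) (kd xd4 yd20 zd26) (kd xd8 yd38 zd25) (kd xd9 yd51 zd51) (kd xd16 yd11 zd45) (kd xd10 yd1 zd33) (kd xd16 yd11 zd46) (kd xd10 yd29 zd16) (kd xd5 yd15 zd44) (kd xd15 yd12 zd31) (kd xd6 yd25 zd2) (kd xd7 yd11 zd61) (kd xd15 yd13 zd27) (kd xd4 yd20 zd35) (kd xd14 yd56 zd36) (kd xd4 yd20 zd37) (kd xd4 yd20 zd38) (kd xd10 yd1 zd17) (kd xd6 yd24 zd25)) (@D3.rec (fun _ => Pt) (kd xd16 yd12 zd4) (kd xd7 yd56 zd52) (kd xd4 yd20 zd40) (kd xd8 yd43 zd44) (kd xd6 yd24 zd57) (kd xd8 yd37 zd60) (kd xd5 yd35 zd14)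 (kd xd15 yd6 zd36) (kd xd8 yd45 zd56) (kd xd7 yd56 zd55) (kd xd8 yd47 zd42) (kd xd11 yd3 zd55) (kd xd16 yd12 zd28) (kd xd8 yd42 zd29) (kd xd9 yd34 zd53) (kd xd8 yd6 zd58) (kd xd8 yd6 zd59) (kd xd4 yd52 zd50) (kd xd16 yd12 zd35) (kd xd16 yd12 zd40) (kd xd16 yd12 zd41) (kd xd4 yd20 zd49) (kd xd14 yd59 zd55) (kd xd11 yd3 zd56) (kd xd16 yd12 zd49) (kd xd16 yd12 zd50) (kd xd15 yd28 zd0) (kd xd4 yd20 zd53) (kd xd16 yd12 zd57) (kd xd8 yd39 zd29) (kd xd8 yd3 zd21) (kd xd16 yd13 zd0) (kd xd4 yd20 zd56) (kd xd16 yd13 zd2) (kd xd14 yd58 zd6) (kd xd8 yd40 zd17) (kd xd16 yd13 zd8) (kd xd16 yd13 zd12) (kd xd16 yd13 zd13) (kd xd4 yd20 zd58) (kd xd8 yd47 zd60) (kd xd16 yd13 zd1) (kd xd16 yd13 zd22) (kd xd16 yd13 zd23) (kd xd16 yd13 zd24) (kd xd12 yd46 zd34) (kd xd4 yd21 zd0) (kd xd16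 yd13 zd30) (kd xd8 yd39 zd48) (kd xd15 yd48 zd32) (kd xd11 yd17 zd36) (kd xd4 yd28 zd35) (kd xd10 yd24 zd18) (kd xd16 yd13 zd40) (kd xd4 yd21 zd6) (kd xd12 yd13 zd41) (kd xd10 yd27 zd53) (kd xd4 yd21 zd7) (kd xd16 yd13 zd43) (kd xd16 yd13 zd46) (kd xd4 yd21 zd11) (kd xd16 yd13 zd47)) (@D3.rec (fun _ => Pt) (kd xd16 yd13 zd49) (kd xd8 yd36 zd53) (kd xd16 yd13 zd53) (kd xd4 yd21 zd13) (kd xd16 yd13 zd56) (kd xd16 yd13 zd61) (kd xd16 yd14 zd4) (kd xd16 yd14 zd6) (kd xd4 yd21 zd14) (kd xd15 yd48 zd30) (kd xd4 yd27 zd40) (kd xd12 yd56 zd11) (kd xd16 yd14 zd15) (kd xd16 yd14 zd16) (kd xd16 yd14 zd21) (kd xd4 yd21 zd18) (kd xd16 yd14 zd24) (kd xd8 yd39 zd35) (kd xd4 yd21 zd19) (kd xd16 yd11 zd47) (kd xd16 yd14 zd29) (kd xd4 yd21 zd23) (kd xd10 yd8 zd47) (kd xd8 yd5 zd51) (kd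 xd9 yd52 zd29) (kd xd16 yd14 zd35) (kd xd16 yd14 zd38) (kd xd16 yd14 zd40) (kd xd4 yd21 zd25) (kd xd16 yd14 zd45) (kd xd4 yd21 zd27) (kd xd4 yd22 zd13) (kd xd16 yd14 zd51) (kd xd16 yd8 zd35) (kd xd16 yd14 zd54) (kd xd16 yd14 zd58) (kd xd4 yd21 zd31) (kd xd16 yd14 zd61) (kd xd16 yd15 zd2) (kd xd12 yd30 zd49) (kd xd16 yd15 zd6) (kd xd4 yd21 zd32) (kd xd16 yd15 zd14) (kd xd10 yd7 zd51) (kd xd15 yd12 zd3) (kd xd4 yd21 zd34) (kd xd16 yd15 zd20) (kd xd5 yd9 zd5) (kd xd4 yd21 zd35) (kd xd15 yd11 zd49) (kd xd4 yd21 zd36) (kd xd15 yd34 zd53) (kd xd5 yd20 zd36) (kd xd16 yd15 zd27) (kd xd4 yd21 zd39) (kd xd16 yd15 zd30) (kd xd10 yd35 zd26) (kd xd16 yd15 zd33) (kd xd16 yd15 zd37) (kd xd16 yd15 zd39) (kd xd4 yd21 zd41) (kd xd16 yd15 zd47)) (@D3.rec (fun _ => Pt) (kd xd16 yd15 zd51)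 (kd xd16 yd15 zd54) (kd xd4 yd21 zd43) (kd xd16 yd15 zd59) (kd xd16 yd15 zd61) (kd xd4 yd21 zd44) (kd xd8 yd41 zd23) (kd xd16 yd16 zd3) (kd xd16 yd15 zd8) (kd xd16 yd15 zd9) (kd xd16 yd16 zd9) (kd xd4 yd21 zd47) (kd xd16 yd16 zd15) (kd xd16 yd16 zd19) (kd xd16 yd16 zd21) (kd xd16 yd16 zd23) (kd xd4 yd21 zd49) (kd xd16 yd16 zd27) (kd xd16 yd16 zd29) (kd xd4 yd21 zd50) (kd xd16 yd16 zd33) (kd xd4 yd21 zd51) (kd xd16 yd14 zd25) (kd xd8 yd41 zd6) (kd xd16 yd16 zd38) (kd xd4 yd21 zd53) (kd xd11 yd18 zd61) (kd xd4 yd21 zd54) (kd xd16 yd16 zd40) (kd xd10 yd28 zd6) (kd xd16 yd15 zd41) (kd xd16 yd15 zd42) (kd xd16 yd16 zd46) (kd xd4 yd21 zd56) (kd xd16 yd16 zd52) (kd xd16 yd16 zd55) (kd xd16 yd16 zd58) (kd xd16 yd16 zd60) (kd xd4 yd21 zd58) (kd xd16 yd16 zd61) (kd xd16 yd17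 zd1) (kd xd4 yd21 zd59) (kd xd8 yd36 zd45) (kd xd16 yd17 zd4) (kd xd4 yd21 zd60) (kd xd16 yd17 zd7) (kd xd16 yd17 zd11) (kd xd16 yd17 zd12) (kd xd4 yd22 zd0) (kd xd12 yd49 zd4) (kd xd16 yd17 zd21) (kd xd4 yd22 zd2) (kd xd12 yd50 zd16) (kd xd16 yd17 zd28) (kd xd16 yd17 zd30) (kd xd16 yd17 zd33) (kd xd16 yd17 zd37) (kd xd4 yd22 zd3) (kd xd16 yd17 zd44) (kd xd16 yd17 zd46) (kd xd4 yd22 zd5) (kd xd16 yd17 zd48)) (@D3.rec (fun _ => Pt) (kd xd14 yd59 zd10) (kd xd16 yd17 zd52) (kd xd16 yd17 zd54) (kd xd16 yd17 zd57) (kd xd4 yd22 zd6) (kd xd12 yd50 zd56) (kd xd16 yd18 zd0) (kd xd16 yd18 zd4) (kd xd16 yd18 zd6) (kd xd4 yd22 zd7) (kd xd16 yd18 zd10) (kd xd4 yd22 zd8) (kd xd14 yd56 zd42) (kd xd16 yd14 zd52) (kd xd16 yd18 zd18) (kd xd16 yd14 zd44) (kd xd16 yd18 zd25) (kd xd4 yd22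 zd22) (kd xd10 yd7 zd47) (kd xd4 yd22 zd42) (kd xd16 yd18 zd35) (kd xd16 yd18 zd38) (kd xd16 yd18 zd41) (kd xd16 yd14 zd50) (kd xd16 yd18 zd44) (kd xd16 yd18 zd47) (kd xd4 yd22 zd14) (kd xd15 yd14 zd33) (kd xd4 yd22 zd15) (kd xd8 yd39 zd13) (kd xd15 yd14 zd34) (kd xd4 yd22 zd16) (kd xd15 yd9 zd3) (kd xd10 yd23 zd36) (kd xd15 yd34 zd37) (kd xd16 yd19 zd1) (kd xd10 yd10 zd15) (kd xd15 yd30 zd51) (kd xd15 yd11 zd40) (kd xd16 yd19 zd5) (kd xd16 yd19 zd9) (kd xd16 yd18 zd26) (kd xd16 yd19 zd14) (kd xd4 yd22 zd23) (kd xd16 yd15 zd22) (kd xd8 yd4 zd26) (kd xd4 yd22 zd24) (kd xd4 yd23 zd28) (kd xd4 yd23 zd29) (kd xd4 yd22 zd26) (kd xd5 yd50 zd52) (kd xd6 yd13 zd56) (kd xd11 yd15 zd34) (kd xd8 yd38 zd18) (kd xd4 yd22 zd31) (kd xd16 yd19 zd28) (kd xd4 yd22 zd51) (kd xd4 yd22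 zd52) (kd xd16 yd19 zd35) (kd xd16 yd19 zd38) (kd xd11 yd36 zd53) (kd xd11 yd36 zd52)) (@D3.rec (fun _ => Pt) (kd xd4 yd22 zd33) (kd xd16 yd19 zd43) (kd xd16 yd19 zd47) (kd xd4 yd22 zd34) (kd xd16 yd19 zd52) (kd xd8 yd47 zd34) (kd xd8 yd47 zd31) (kd xd14 yd58 zd28) (kd xd8 yd48 zd40) (kd xd8 yd38 zd31) (kd xd16 yd19 zd57) (kd xd4 yd22 zd40) (kd xd16 yd19 zd59) (kd xd16 yd19 zd60) (kd xd11 yd8 zd49) (kd xd16 yd20 zd1) (kd xd16 yd20 zd2) (kd xd16 yd18 zd30) (kd xd16 yd20 zd7) (kd xd4 yd22 zd43) (kd xd16 yd20 zd12) (kd xd16 yd20 zd14) (kd xd4 yd22 zd46) (kd xd9 yd3 zd5) (kd xd4 yd22 zd47) (kd xd16 yd11 zd57) (kd xd4 yd22 zd48) (kd xd4 yd23 zd2) (kd xd4 yd23 zd3) (kd xd10 yd38 zd43) (kd xd15 yd13 zd4) (kd xd16 yd20 zd28) (kd xd16 yd20 zd32) (kd xd15 yd13 zd7) (kd xd16 yd20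 zd34) (kd xd4 yd22 zd53) (kd xd4 yd56 zd51) (kd xd4 yd56 zd52) (kd xd16 yd20 zd41) (kd xd5 yd12 zd2) (kd xd16 yd20 zd20) (kd xd4 yd22 zd55) (kd xd4 yd56 zd33) (kd xd8 yd46 zd36) (kd xd8 yd39 zd3) (kd xd16 yd20 zd51) (kd xd16 yd20 zd55) (kd xd4 yd22 zd58) (kd xd10 yd3 zd15) (kd xd4 yd22 zd59) (kd xd12 yd8 zd45) (kd xd4 yd23 zd0) (kd xd4 yd23 zd1) (kd xd16 yd21 zd2) (kd xd7 yd56 zd12) (kd xd7 yd56 zd13) (kd xd10 yd35 zd3) (kd xd16 yd21 zd7) (kd xd16 yd21 zd11) (kd xd6 yd58 zd8) (kd xd7 yd19 zd4) (kd xd6 yd25 zd35)) (@D3.rec (fun _ => Pt) (kd xd16 yd21 zd16) (kd xd10 yd28 zd60) (kd xd4 yd23 zd9) (kd xd16 yd21 zd21) (kd xd12 yd6 zd45) (kd xd4 yd23 zd12) (kd xd16 yd21 zd24) (kd xd4 yd23 zd13) (kd xd13 yd42 zd4) (kd xd8 yd0 zd61) (kd xd8 yd1 zd0) (kd xd16 yd21 zd31) (kd xd13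 yd48 zd17) (kd xd12 yd8 zd10) (kd xd7 yd14 zd22) (kd xd4 yd23 zd16) (kd xd10 yd39 zd38) (kd xd16 yd21 zd37) (kd xd4 yd23 zd18) (kd xd16 yd21 zd40) (kd xd4 yd23 zd19) (kd xd10 yd39 zd31) (kd xd4 yd23 zd22) (kd xd4 yd23 zd21) (kd xd6 yd55 zd55) (kd xd4 yd23 zd23) (kd xd6 yd55 zd52) (kd xd4 yd23 zd24) (kd xd11 yd26 zd50) (kd xd14 yd30 zd38) (kd xd7 yd18 zd55) (kd xd5 yd37 zd6) (kd xd5 yd37 zd5) (kd xd10 yd39 zd28) (kd xd4 yd26 zd9) (kd xd15 yd23 zd31) (kd xd10 yd33 zd16) (kd xd16 yd21 zd59) (kd xd5 yd46 zd29) (kd xd10 yd33 zd17) (kd xd16 yd22 zd3) (kd xd16 yd22 zd7) (kd xd16 yd22 zd9) (kd xd4 yd55 zd54) (kd xd4 yd23 zd30) (kd xd16 yd22 zd12) (kd xd8 yd28 zd3) (kd xd16 yd22 zd15) (kd xd4 yd26 zd24) (kd xd16 yd22 zd19) (kd xd16 yd22 zd20) (kd xd4 yd23 zd33) (kd xd4 yd56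 zd35) (kd xd16 yd22 zd26) (kd xd16 yd22 zd29) (kd xd16 yd22 zd32) (kd xd16 yd22 zd33) (kd xd4 yd23 zd35) (kd xd16 yd22 zd38) (kd xd8 yd1 zd43) (kd xd16 yd22 zd43) (kd xd15 yd10 zd8)) (@D3.rec (fun _ => Pt) (kd xd16 yd22 zd47) (kd xd16 yd22 zd50) (kd xd15 yd10 zd11) (kd xd16 yd8 zd30) (kd xd16 yd8 zd31) (kd xd14 yd57 zd48) (kd xd16 yd22 zd56) (kd xd16 yd22 zd58) (kd xd16 yd22 zd61) (kd xd4 yd23 zd39) (kd xd16 yd23 zd3) (kd xd16 yd23 zd7) (kd xd16 yd23 zd10) (kd xd4 yd23 zd40) (kd xd12 yd23 zd52) (kd xd12 yd38 zd6) (kd xd15 yd14 zd48) (kd xd4 yd23 zd41) (kd xd16 yd23 zd22) (kd xd16 yd23 zd23) (kd xd16 yd23 zd25) (kd xd16 yd23 zd27) (kd xd4 yd23 zd43) (kd xd6 yd13 zd10) (kd xd11 yd17 zd50) (kd xd7 yd16 zd45) (kd xd4 yd23 zd47) (kd xd16 yd23 zd34) (kd xd4 yd23 zd49) (kd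 xd16 yd23 zd38) (kd xd10 yd26 zd41) (kd xd4 yd23 zd50) (kd xd16 yd23 zd42) (kd xd12 yd6 zd42) (kd xd8 yd3 zd45) (kd xd16 yd23 zd47) (kd xd16 yd23 zd48) (kd xd8 yd3 zd54) (kd xd16 yd22 zd6) (kd xd4 yd23 zd57) (kd xd6 yd2 zd21) (kd xd4 yd24 zd33) (kd xd6 yd10 zd23) (kd xd16 yd23 zd55) (kd xd6 yd33 zd57) (kd xd16 yd19 zd32) (kd xd9 yd47 zd50) (kd xd9 yd47 zd51) (kd xd4 yd23 zd61) (kd xd16 yd24 zd0) (kd xd13 yd44 zd3) (kd xd13 yd40 zd58) (kd xd13 yd38 zd35) (kd xd9 yd10 zd35) (kd xd16 yd24 zd6) (kd xd4 yd24 zd4) (kd xd8 yd39 zd8) (kd xd13 yd40 zd38) (kd xd4 yd24 zd5) (kd xd16 yd24 zd11) (kd xd16 yd24 zd14) (kd xd8 yd47 zd18)) (@D3.rec (fun _ => Pt) (kd xd4 yd24 zd7) (kd xd4 yd24 zd9) (kd xd4 yd24 zd11) (kd xd16 yd11 zd58) (kd xd4 yd45 zd10) (kd xd16 yd24 zd20) (kd xd4 yd24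 zd13) (kd xd4 yd46 zd26) (kd xd16 yd24 zd25) (kd xd16 yd24 zd27) (kd xd4 yd24 zd16) (kd xd9 yd29 zd61) (kd xd16 yd24 zd32) (kd xd4 yd24 zd18) (kd xd4 yd40 zd32) (kd xd16 yd20 zd19) (kd xd4 yd24 zd42) (kd xd7 yd41 zd9) (kd xd16 yd24 zd38) (kd xd11 yd41 zd9) (kd xd16 yd24 zd43) (kd xd16 yd24 zd47) (kd xd16 yd24 zd51) (kd xd4 yd24 zd22) (kd xd13 yd38 zd42) (kd xd4 yd24 zd41) (kd xd9 yd49 zd49) (kd xd16 yd24 zd57) (kd xd4 yd24 zd24) (kd xd9 yd47 zd0) (kd xd16 yd25 zd3) (kd xd4 yd24 zd25) (kd xd16 yd25 zd6) (kd xd8 yd46 zd51) (kd xd16 yd25 zd10) (kd xd4 yd24 zd27) (kd xd8 yd43 zd43) (kd xd9 yd47 zd6) (kd xd5 yd13 zd1) (kd xd16 yd25 zd19) (kd xd14 yd52 zd46) (kd xd4 yd24 zd34) (kd xd5 yd56 zd45) (kd xd16 yd10 zd36) (kd xd4 yd24 zd36) (kd xd16 yd25 zd30) (kd xd16 yd25 zd34)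 (kd xd16 yd25 zd37) (kd xd16 yd10 zd45) (kd xd16 yd25 zd39) (kd xd4 yd24 zd38) (kd xd8 yd46 zd33) (kd xd16 yd25 zd47) (kd xd4 yd24 zd39) (kd xd16 yd25 zd52) (kd xd16 yd25 zd54) (kd xd4 yd24 zd43) (kd xd11 yd41 zd10) (kd xd16 yd25 zd60) (kd xd16 yd26 zd0) (kd xd4 yd24 zd45) (kd xd16 yd26 zd3)) (@D3.rec (fun _ => Pt) (kd xd16 yd26 zd5) (kd xd9 yd23 zd1) (kd xd16 yd26 zd9) (kd xd5 yd59 zd48) (kd xd4 yd48 zd45) (kd xd16 yd26 zd15) (kd xd13 yd43 zd41) (kd xd16 yd26 zd20) (kd xd4 yd24 zd49) (kd xd16 yd26 zd25) (kd xd4 yd24 zd50) (kd xd4 yd24 zd51) (kd xd7 yd39 zd19) (kd xd7 yd12 zd9) (kd xd16 yd26 zd36) (kd xd4 yd24 zd53) (kd xd16 yd26 zd41) (kd xd4 yd24 zd54) (kd xd8 yd45 zd61) (kd xd16 yd26 zd47) (kd xd4 yd24 zd55) (kd xd15 yd6 zd25) (kd xd16 yd25 zd2) (kd xd6 yd24 zd49)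 (kd xd16 yd26 zd60) (kd xd4 yd24 zd57) (kd xd8 yd47 zd35) (kd xd6 yd13 zd33) (kd xd4 yd24 zd59) (kd xd8 yd47 zd32) (kd xd16 yd20 zd59) (kd xd8 yd43 zd6) (kd xd8 yd47 zd29) (kd xd16 yd27 zd12) (kd xd8 yd43 zd5) (kd xd8 yd47 zd26) (kd xd7 yd13 zd31) (kd xd8 yd47 zd48) (kd xd8 yd47 zd45) (kd xd16 yd27 zd28) (kd xd4 yd25 zd1) (kd xd4 yd58 zd9) (kd xd8 yd39 zd10) (kd xd16 yd27 zd34) (kd xd4 yd25 zd3) (kd xd8 yd47 zd38) (kd xd9 yd19 zd42) (kd xd4 yd25 zd5) (kd xd8 yd47 zd37) (kd xd16 yd20 zd61) (kd xd16 yd27 zd46) (kd xd4 yd25 zd7) (kd xd8 yd50 zd41) (kd xd16 yd27 zd52) (kd xd4 yd25 zd8) (kd xd16 yd27 zd57) (kd xd12 yd7 zd60) (kd xd11 yd11 zd43) (kd xd16 yd28 zd0) (kd xd4 yd25 zd10) (kd xd8 yd39 zd40) (kd xd11 yd59 zd40)) (@D3.rec (fun _ => Pt) (kd xd4 yd25 zd13) (kd xd4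 yd25 zd14) (kd xd5 yd57 zd38) (kd xd16 yd21 zd23) (kd xd4 yd25 zd16) (kd xd16 yd28 zd10) (kd xd4 yd25 zd17) (kd xd11 yd42 zd7) (kd xd13 yd42 zd46) (kd xd4 yd25 zd19) (kd xd12 yd1 zd57) (kd xd13 yd31 zd26) (kd xd16 yd28 zd20) (kd xd16 yd28 zd21) (kd xd6 yd13 zd42) (kd xd4 yd59 zd42) (kd xd6 yd13 zd45) (kd xd11 yd43 zd46) (kd xd16 yd28 zd26) (kd xd4 yd46 zd27) (kd xd4 yd25 zd24) (kd xd16 yd28 zd28) (kd xd14 yd28 zd11) (kd xd16 yd28 zd32) (kd xd4 yd25 zd25) (kd xd16 yd28 zd35) (kd xd4 yd25 zd26) (kd xd16 yd28 zd38) (kd xd16 yd28 zd39) (kd xd4 yd25 zd27) (kd xd15 yd17 zd18) (kd xd16 yd28 zd45) (kd xd4 yd25 zd30) (kd xd6 yd14 zd56) (kd xd4 yd25 zd31) (kd xd8 yd51 zd7) (kd xd16 yd28 zd53) (kd xd9 yd19 zd34) (kd xd8 yd57 zd1) (kd xd4 yd25 zd33) (kd xd8 yd43 zd8) (kd xd16 yd29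 zd2) (kd xd6 yd14 zd48) (kd xd6 yd14 zd59) (kd xd9 yd47 zd7) (kd xd9 yd47 zd5) (kd xd10 yd24 zd27) (kd xd4 yd25 zd36) (kd xd6 yd9 zd16) (kd xd10 yd16 zd18) (kd xd4 yd38 zd9) (kd xd16 yd29 zd14) (kd xd4 yd25 zd39) (kd xd15 yd50 zd11) (kd xd6 yd39 zd12) (kd xd11 yd7 zd51) (kd xd4 yd25 zd42) (kd xd4 yd25 zd43) (kd xd11 yd23 zd0) (kd xd16 yd29 zd21) (kd xd16 yd29 zd22) (kd xd4 yd25 zd45)) (@D3.rec (fun _ => Pt) (kd xd16 yd29 zd25) (kd xd14 yd12 zd50) (kd xd15 yd26 zd29) (kd xd4 yd25 zd49) (kd xd8 yd12 zd39) (kd xd6 yd10 zd57) (kd xd15 yd50 zd14) (kd xd11 yd31 zd20) (kd xd10 yd6 zd40) (kd xd16 yd29 zd34) (kd xd4 yd25 zd53) (kd xd16 yd29 zd36) (kd xd4 yd25 zd55) (kd xd5 yd5 zd13) (kd xd16 yd29 zd43) (kd xd4 yd25 zd57) (kd xd4 yd25 zd58) (kd xd12 yd1 zd29) (kd xd16 yd29 zd51)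 (kd xd4 yd25 zd60) (kd xd16 yd29 zd58) (kd xd16 yd29 zd59) (kd xd4 yd26 zd0) (kd xd16 yd29 zd61) (kd xd10 yd2 zd45) (kd xd4 yd26 zd1) (kd xd16 yd30 zd1) (kd xd16 yd30 zd3) (kd xd4 yd26 zd2) (kd xd16 yd30 zd7) (kd xd4 yd26 zd3) (kd xd9 yd17 zd49) (kd xd16 yd30 zd13) (kd xd4 yd26 zd5) (kd xd4 yd41 zd19) (kd xd6 yd38 zd57) (kd xd16 yd30 zd17) (kd xd16 yd30 zd19) (kd xd6 yd44 zd34) (kd xd6 yd39 zd16) (kd xd16 yd30 zd21) (kd xd16 yd30 zd24) (kd xd10 yd29 zd10) (kd xd6 yd14 zd8) (kd xd7 yd18 zd49) (kd xd11 yd28 zd44) (kd xd11 yd28 zd45) (kd xd16 yd30 zd29) (kd xd16 yd30 zd30) (kd xd4 yd26 zd12) (kd xd16 yd30 zd31) (kd xd4 yd41 zd18) (kd xd12 yd36 zd52) (kd xd4 yd26 zd15) (kd xd10 yd18 zd53) (kd xd4 yd26 zd14) (kd xd8 yd0 zd52) (kd xd16 yd30 zd37) (kd xd16 yd30 zd39) (kd xd16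 yd30 zd36) (kd xd7 yd27 zd10) (kd xd16 yd30 zd41)) (@D3.rec (fun _ => Pt) (kd xd11 yd41 zd37) (kd xd11 yd31 zd11) (kd xd8 yd0 zd39) (kd xd4 yd26 zd18) (kd xd16 yd30 zd43) (kd xd16 yd30 zd20) (kd xd11 yd16 zd39) (kd xd4 yd26 zd20) (kd xd16 yd30 zd49) (kd xd16 yd30 zd52) (kd xd16 yd30 zd54) (kd xd4 yd26 zd22) (kd xd16 yd30 zd59) (kd xd16 yd31 zd0) (kd xd4 yd26 zd23) (kd xd16 yd31 zd1) (kd xd16 yd31 zd4) (kd xd16 yd31 zd8) (kd xd4 yd26 zd25) (kd xd16 yd31 zd13) (kd xd4 yd26 zd26) (kd xd15 yd50 zd12) (kd xd10 yd1 zd29) (kd xd12 yd8 zd21) (kd xd16 yd31 zd23) (kd xd9 yd25 zd33) (kd xd15 yd0 zd4) (kd xd12 yd1 zd56) (kd xd6 yd18 zd21) (kd xd4 yd26 zd29) (kd xd16 yd31 zd31) (kd xd16 yd31 zd35) (kd xd16 yd31 zd38) (kd xd4 yd26 zd30) (kd xd13 yd47 zd28) (kd xd4 yd26 zd31) (kd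 xd11 yd59 zd35) (kd xd16 yd31 zd48) (kd xd4 yd26 zd32) (kd xd16 yd31 zd52) (kd xd16 yd31 zd53) (kd xd8 yd47 zd52) (kd xd16 yd31 zd56) (kd xd4 yd26 zd34) (kd xd4 yd42 zd38) (kd xd6 yd31 zd54) (kd xd16 yd31 zd61) (kd xd16 yd32 zd1) (kd xd16 yd32 zd4) (kd xd4 yd26 zd38) (kd xd16 yd32 zd8) (kd xd16 yd32 zd11) (kd xd4 yd26 zd39) (kd xd11 yd23 zd21) (kd xd16 yd32 zd21) (kd xd4 yd26 zd40) (kd xd16 yd28 zd47) (kd xd16 yd32 zd27) (kd xd9 yd14 zd54) (kd xd16 yd32 zd34) (kd xd4 yd26 zd42) (kd xd16 yd23 zd4)) (@D3.rec (fun _ => Pt) (kd xd16 yd32 zd39) (kd xd16 yd32 zd43) (kd xd4 yd26 zd43) (kd xd15 yd23 zd57) (kd xd16 yd32 zd54) (kd xd4 yd26 zd44) (kd xd12 yd6 zd33) (kd xd8 yd48 zd35) (kd xd16 yd33 zd3) (kd xd16 yd33 zd7) (kd xd15 yd23 zd58) (kd xd16 yd33 zd11) (kd xd8 yd26 zd4)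 (kd xd16 yd23 zd16) (kd xd16 yd33 zd12) (kd xd16 yd33 zd15) (kd xd4 yd26 zd47) (kd xd16 yd33 zd19) (kd xd16 yd33 zd21) (kd xd4 yd26 zd48) (kd xd16 yd26 zd43) (kd xd16 yd33 zd26) (kd xd16 yd33 zd28) (kd xd14 yd59 zd52) (kd xd4 yd26 zd50) (kd xd16 yd33 zd30) (kd xd4 yd26 zd51) (kd xd16 yd33 zd33) (kd xd4 yd26 zd52) (kd xd12 yd7 zd10) (kd xd16 yd33 zd40) (kd xd4 yd26 zd53) (kd xd16 yd33 zd44) (kd xd16 yd27 zd56) (kd xd12 yd21 zd55) (kd xd16 yd33 zd52) (kd xd4 yd41 zd39) (kd xd6 yd4 zd9) (kd xd8 yd51 zd46) (kd xd8 yd3 zd24) (kd xd4 yd26 zd56) (kd xd8 yd51 zd44) (kd xd11 yd29 zd14) (kd xd9 yd51 zd20) (kd xd8 yd51 zd41) (kd xd10 yd1 zd21) (kd xd8 yd51 zd38) (kd xd12 yd6 zd46) (kd xd8 yd51 zd58) (kd xd8 yd51 zd53) (kd xd16 yd34 zd24) (kd xd4 yd26 zd61) (kd xd4 yd27 zd0) (kd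 xd8 yd51 zd49) (kd xd8 yd5 zd18) (kd xd12 yd5 zd6) (kd xd11 yd37 zd26) (kd xd4 yd27 zd4) (kd xd8 yd51 zd48) (kd xd8 yd1 zd16) (kd xd15 yd0 zd45) (kd xd15 yd0 zd46)) (@D3.rec (fun _ => Pt) (kd xd10 yd0 zd42) (kd xd5 yd27 zd44) (kd xd16 yd34 zd47) (kd xd4 yd27 zd10) (kd xd8 yd52 zd4) (kd xd16 yd34 zd50) (kd xd4 yd27 zd12) (kd xd16 yd34 zd54) (kd xd8 yd34 zd55) (kd xd16 yd34 zd59) (kd xd4 yd27 zd14) (kd xd7 yd13 zd46) (kd xd16 yd35 zd3) (kd xd8 yd55 zd39) (kd xd11 yd52 zd18) (kd xd16 yd35 zd8) (kd xd4 yd27 zd16) (kd xd13 yd41 zd53) (kd xd16 yd35 zd13) (kd xd4 yd27 zd17) (kd xd16 yd35 zd16) (kd xd12 yd8 zd3) (kd xd11 yd11 zd42) (kd xd11 yd23 zd5) (kd xd4 yd27 zd18) (kd xd11 yd23 zd6) (kd xd9 yd39 zd21) (kd xd5 yd19 zd40) (kd xd16 yd35 zd29) (kd xd12 yd22 zd3) (kd xd5 yd20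 zd48) (kd xd10 yd31 zd25) (kd xd16 yd35 zd36) (kd xd4 yd27 zd24) (kd xd16 yd35 zd41) (kd xd8 yd22 zd34) (kd xd8 yd22 zd17) (kd xd8 yd20 zd20) (kd xd16 yd35 zd46) (kd xd4 yd27 zd26) (kd xd14 yd22 zd46) (kd xd16 yd35 zd50) (kd xd4 yd27 zd27) (kd xd16 yd35 zd52) (kd xd16 yd35 zd56) (kd xd16 yd35 zd60) (kd xd16 yd36 zd0) (kd xd4 yd27 zd28) (kd xd16 yd36 zd5) (kd xd8 yd11 zd4) (kd xd5 yd1 zd17) (kd xd8 yd10 zd60) (kd xd5 yd20 zd12) (kd xd4 yd27 zd30) (kd xd15 yd48 zd34) (kd xd16 yd36 zd18) (kd xd8 yd34 zd17) (kd xd8 yd20 zd34) (kd xd16 yd36 zd24) (kd xd4 yd27 zd34) (kd xd16 yd36 zd29) (kd xd5 yd20 zd53)) (@D3.rec (fun _ => Pt) (kd xd5 yd21 zd38) (kd xd16 yd36 zd35) (kd xd4 yd27 zd36) (kd xd4 yd28 zd22) (kd xd16 yd36 zd36) (kd xd4 yd27 zd37) (kd xd16 yd36 zd42) (kd xd16 yd36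 zd48) (kd xd16 yd36 zd53) (kd xd16 yd36 zd55) (kd xd4 yd27 zd38) (kd xd16 yd14 zd11) (kd xd4 yd54 zd44) (kd xd5 yd28 zd19) (kd xd11 yd52 zd37) (kd xd16 yd37 zd6) (kd xd16 yd4 zd47) (kd xd16 yd37 zd11) (kd xd5 yd22 zd39) (kd xd5 yd22 zd38) (kd xd15 yd32 zd4) (kd xd16 yd37 zd16) (kd xd4 yd27 zd46) (kd xd16 yd37 zd21) (kd xd8 yd34 zd39) (kd xd8 yd35 zd9) (kd xd8 yd32 zd61) (kd xd16 yd37 zd28) (kd xd4 yd27 zd48) (kd xd16 yd37 zd33) (kd xd16 yd37 zd37) (kd xd4 yd27 zd50) (kd xd16 yd37 zd40) (kd xd16 yd37 zd45) (kd xd4 yd27 zd51) (kd xd16 yd37 zd48) (kd xd16 yd37 zd51) (kd xd16 yd37 zd55) (kd xd16 yd37 zd57) (kd xd4 yd27 zd52) (kd xd16 yd38 zd2) (kd xd4 yd28 zd6) (kd xd4 yd28 zd7) (kd xd16 yd38 zd10) (kd xd16 yd38 zd13) (kd xd16 yd38 zd15) (kd xd4 yd27 zd54) (kd xd16 yd38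 zd20) (kd xd16 yd38 zd23) (kd xd16 yd38 zd24) (kd xd11 yd2 zd21) (kd xd5 yd23 zd15) (kd xd16 yd38 zd30) (kd xd4 yd27 zd58) (kd xd15 yd0 zd52) (kd xd16 yd38 zd37) (kd xd4 yd27 zd59) (kd xd16 yd38 zd41) (kd xd16 yd38 zd44) (kd xd16 yd38 zd46) (kd xd4 yd27 zd60) (kd xd16 yd38 zd54)) (@D3.rec (fun _ => Pt) (kd xd16 yd38 zd58) (kd xd16 yd38 zd61) (kd xd16 yd39 zd2) (kd xd4 yd28 zd0) (kd xd16 yd39 zd6) (kd xd10 yd53 zd13) (kd xd5 yd6 zd15) (kd xd16 yd39 zd10) (kd xd16 yd6 zd21) (kd xd10 yd40 zd46) (kd xd16 yd39 zd17) (kd xd16 yd39 zd18) (kd xd4 yd28 zd5) (kd xd10 yd3 zd27) (kd xd16 yd38 zd4) (kd xd16 yd39 zd24) (kd xd16 yd38 zd6) (kd xd16 yd37 zd59) (kd xd16 yd37 zd60) (kd xd16 yd39 zd33) (kd xd4 yd28 zd8) (kd xd16 yd39 zd21) (kd xd5 yd35 zd31) (kd xd8 yd7 zd15) (kd xd16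 yd39 zd44) (kd xd16 yd39 zd47) (kd xd16 yd39 zd49) (kd xd4 yd28 zd10) (kd xd16 yd39 zd54) (kd xd16 yd39 zd56) (kd xd4 yd28 zd11) (kd xd16 yd39 zd59) (kd xd4 yd28 zd12) (kd xd10 yd2 zd19) (kd xd16 yd40 zd2) (kd xd16 yd38 zd48) (kd xd16 yd38 zd49) (kd xd16 yd40 zd5) (kd xd4 yd28 zd15) (kd xd16 yd40 zd12) (kd xd16 yd40 zd16) (kd xd16 yd40 zd19) (kd xd16 yd40 zd22) (kd xd4 yd28 zd17) (kd xd16 yd40 zd25) (kd xd16 yd40 zd27) (kd xd5 yd30 zd54) (kd xd16 yd40 zd29) (kd xd6 yd4 zd42) (kd xd10 yd3 zd31) (kd xd16 yd40 zd35) (kd xd4 yd28 zd25) (kd xd16 yd40 zd39) (kd xd16 yd36 zd34) (kd xd9 yd52 zd57) (kd xd8 yd7 zd14) (kd xd16 yd36 zd39) (kd xd16 yd40 zd48) (kd xd16 yd40 zd51) (kd xd16 yd40 zd43) (kd xd16 yd40 zd57) (kd xd4 yd28 zd26)) (@D3.rec (fun _ => Pt) (kd xd16 yd41 zd0)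 (kd xd8 yd13 zd12) (kd xd16 yd41 zd4) (kd xd4 yd28 zd29) (kd xd16 yd41 zd7) (kd xd16 yd41 zd8) (kd xd16 yd41 zd11) (kd xd16 yd41 zd16) (kd xd16 yd41 zd20) (kd xd4 yd28 zd30) (kd xd16 yd41 zd10) (kd xd16 yd41 zd24) (kd xd16 yd41 zd26) (kd xd16 yd41 zd32) (kd xd4 yd28 zd31) (kd xd16 yd41 zd37) (kd xd4 yd28 zd32) (kd xd16 yd37 zd25) (kd xd16 yd37 zd26) (kd xd16 yd41 zd51) (kd xd11 yd54 zd10) (kd xd4 yd28 zd34) (kd xd16 yd41 zd60) (kd xd16 yd13 zd36) (kd xd16 yd42 zd3) (kd xd15 yd36 zd25) (kd xd16 yd41 zd59) (kd xd9 yd36 zd61) (kd xd16 yd42 zd16) (kd xd16 yd42 zd19) (kd xd16 yd42 zd23) (kd xd11 yd54 zd21) (kd xd16 yd42 zd27) (kd xd16 yd42 zd29) (kd xd16 yd41 zd47) (kd xd4 yd28 zd40) (kd xd16 yd42 zd36) (kd xd16 yd42 zd39) (kd xd4 yd28 zd41) (kd xd8 yd52 zd13) (kd xd16 yd42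 zd43) (kd xd4 yd28 zd42) (kd xd16 yd42 zd48) (kd xd4 yd28 zd43) (kd xd8 yd31 zd3) (kd xd15 yd33 zd57) (kd xd8 yd29 zd45) (kd xd16 yd42 zd57) (kd xd4 yd28 zd45) (kd xd9 yd20 zd54) (kd xd10 yd56 zd26) (kd xd8 yd17 zd25) (kd xd10 yd56 zd27) (kd xd12 yd58 zd26) (kd xd10 yd56 zd18) (kd xd10 yd56 zd19) (kd xd16 yd43 zd11) (kd xd4 yd28 zd49) (kd xd4 yd29 zd24) (kd xd4 yd29 zd25) (kd xd16 yd43 zd16) (kd xd16 yd1 zd60)) (@D3.rec (fun _ => Pt) (kd xd16 yd1 zd61) (kd xd4 yd28 zd51) (kd xd16 yd43 zd22) (kd xd16 yd43 zd24) (kd xd16 yd43 zd26) (kd xd11 yd2 zd26) (kd xd4 yd30 zd31) (kd xd4 yd30 zd32) (kd xd8 yd59 zd1) (kd xd16 yd43 zd35) (kd xd4 yd28 zd56) (kd xd10 yd57 zd6) (kd xd16 yd43 zd41) (kd xd16 yd43 zd44) (kd xd10 yd57 zd9) (kd xd16 yd43 zd50) (kd xd6 yd32 zd9) (kd xd4 yd28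 zd59) (kd xd4 yd29 zd33) (kd xd4 yd29 zd34) (kd xd16 yd43 zd59) (kd xd16 yd43 zd61) (kd xd8 yd56 zd22) (kd xd16 yd44 zd3) (kd xd4 yd29 zd2) (kd xd16 yd44 zd6) (kd xd16 yd44 zd10) (kd xd4 yd29 zd5) (kd xd16 yd44 zd14) (kd xd10 yd53 zd58) (kd xd16 yd44 zd19) (kd xd10 yd53 zd60) (kd xd16 yd44 zd24) (kd xd10 yd53 zd50) (kd xd10 yd53 zd51) (kd xd16 yd44 zd31) (kd xd4 yd29 zd9) (kd xd12 yd34 zd4) (kd xd9 yd17 zd32) (kd xd4 yd45 zd49) (kd xd4 yd45 zd2) (kd xd9 yd23 zd4) (kd xd10 yd17 zd1) (kd xd10 yd55 zd3) (kd xd16 yd44 zd49) (kd xd16 yd44 zd51) (kd xd10 yd55 zd6) (kd xd16 yd44 zd57) (kd xd16 yd44 zd60) (kd xd4 yd29 zd17) (kd xd16 yd45 zd2) (kd xd4 yd29 zd56) (kd xd4 yd29 zd57) (kd xd16 yd45 zd10) (kd xd11 yd4 zd53) (kd xd16 yd45 zd14) (kd xd16 yd45 zd17) (kd xd4 yd29 zd19)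 (kd xd16 yd45 zd21) (kd xd4 yd29 zd22) (kd xd8 yd58 zd32) (kd xd10 yd26 zd11)) (@D3.rec (fun _ => Pt) (kd xd16 yd45 zd26) (kd xd8 yd48 zd38) (kd xd16 yd43 zd12) (kd xd16 yd43 zd13) (kd xd16 yd45 zd33) (kd xd4 yd29 zd26) (kd xd16 yd45 zd36) (kd xd16 yd45 zd40) (kd xd16 yd45 zd43) (kd xd16 yd45 zd45) (kd xd4 yd29 zd28) (kd xd16 yd45 zd49) (kd xd16 yd45 zd51) (kd xd4 yd29 zd29) (kd xd16 yd45 zd54) (kd xd16 yd45 zd57) (kd xd4 yd29 zd30) (kd xd10 yd20 zd2) (kd xd5 yd22 zd45) (kd xd16 yd43 zd52) (kd xd16 yd46 zd0) (kd xd16 yd46 zd2) (kd xd16 yd43 zd55) (kd xd16 yd46 zd3) (kd xd4 yd29 zd35) (kd xd16 yd46 zd7) (kd xd16 yd46 zd11) (kd xd9 yd1 zd52) (kd xd4 yd57 zd32) (kd xd7 yd25 zd22) (kd xd4 yd29 zd37) (kd xd16 yd46 zd19) (kd xd5 yd38 zd20) (kd xd5 yd38 zd50) (kd xd5 yd3 zd16)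 (kd xd5 yd39 zd45) (kd xd5 yd36 zd20) (kd xd4 yd29 zd42) (kd xd11 yd7 zd39) (kd xd4 yd29 zd43) (kd xd10 yd48 zd61) (kd xd9 yd4 zd33) (kd xd6 yd7 zd49) (kd xd10 yd49 zd1) (kd xd4 yd30 zd53) (kd xd5 yd32 zd11) (kd xd5 yd32 zd12) (kd xd8 yd15 zd16) (kd xd16 yd44 zd33) (kd xd16 yd44 zd34) (kd xd16 yd46 zd32) (kd xd4 yd29 zd50) (kd xd16 yd46 zd38) (kd xd15 yd40 zd36) (kd xd16 yd46 zd42) (kd xd16 yd46 zd44) (kd xd4 yd29 zd52) (kd xd16 yd46 zd48) (kd xd16 yd46 zd51) (kd xd8 yd17 zd21) (kd xd16 yd46 zd54) (kd xd12 yd11 zd3)) (@D3.rec (fun _ => Pt) (kd xd16 yd46 zd56) (kd xd16 yd45 zd5) (kd xd16 yd46 zd58) (kd xd16 yd46 zd61) (kd xd4 yd29 zd58) (kd xd5 yd52 zd43) (kd xd16 yd47 zd3) (kd xd11 yd28 zd59) (kd xd11 yd28 zd60) (kd xd6 yd46 zd54) (kd xd4 yd49 zd25) (kd xd4 yd49 zd27)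 (kd xd13 yd5 zd38) (kd xd6 yd45 zd45) (kd xd11 yd28 zd16) (kd xd15 yd54 zd31) (kd xd4 yd30 zd4) (kd xd6 yd41 zd58) (kd xd16 yd47 zd17) (kd xd15 yd19 zd21) (kd xd4 yd30 zd5) (kd xd4 yd30 zd6) (kd xd16 yd47 zd22) (kd xd13 yd59 zd35) (kd xd5 yd43 zd2) (kd xd11 yd17 zd61) (kd xd4 yd30 zd8) (kd xd16 yd47 zd33) (kd xd9 yd5 zd20) (kd xd11 yd16 zd27) (kd xd4 yd32 zd44) (kd xd5 yd13 zd25) (kd xd8 yd56 zd60) (kd xd9 yd1 zd2) (kd xd4 yd30 zd11) (kd xd12 yd10 zd6) (kd xd16 yd47 zd41) (kd xd4 yd30 zd12) (kd xd16 yd47 zd45) (kd xd4 yd30 zd13) (kd xd11 yd49 zd33) (kd xd16 yd47 zd50) (kd xd4 yd30 zd14) (kd xd9 yd9 zd6) (kd xd16 yd47 zd53) (kd xd16 yd27 zd61) (kd xd4 yd30 zd15) (kd xd14 yd50 zd17) (kd xd11 yd59 zd24) (kd xd9 yd9 zd8) (kd xd6 yd44 zd50) (kd xd6 yd45 zd7) (kd xd11 yd49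 zd35) (kd xd16 yd48 zd0) (kd xd16 yd48 zd1) (kd xd4 yd30 zd20) (kd xd16 yd48 zd4) (kd xd5 yd10 zd22) (kd xd4 yd30 zd21) (kd xd16 yd48 zd5) (kd xd16 yd48 zd7) (kd xd4 yd30 zd22)) (@D3.rec (fun _ => Pt) (kd xd16 yd48 zd10) (kd xd8 yd56 zd8) (kd xd12 yd59 zd49) (kd xd5 yd42 zd57) (kd xd4 yd30 zd25) (kd xd9 yd4 zd26) (kd xd4 yd30 zd24) (kd xd16 yd48 zd18) (kd xd11 yd28 zd17) (kd xd16 yd48 zd19) (kd xd16 yd48 zd22) (kd xd4 yd30 zd26) (kd xd5 yd58 zd53) (kd xd14 yd41 zd54) (kd xd4 yd30 zd27) (kd xd16 yd48 zd32) (kd xd13 yd0 zd25) (kd xd11 yd36 zd59) (kd xd16 yd48 zd37) (kd xd15 yd27 zd17) (kd xd11 yd56 zd34) (kd xd15 yd49 zd46) (kd xd16 yd43 zd29) (kd xd16 yd48 zd43) (kd xd4 yd31 zd33) (kd xd16 yd7 zd28) (kd xd8 yd25 zd15) (kd xd4 yd30 zd33) (kd xd16 yd48 zd51) (kd xd9 yd15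 zd36) (kd xd11 yd58 zd27) (kd xd16 yd48 zd55) (kd xd4 yd30 zd35) (kd xd4 yd30 zd57) (kd xd5 yd40 zd58) (kd xd4 yd30 zd38) (kd xd11 yd43 zd44) (kd xd11 yd58 zd22) (kd xd9 yd12 zd50) (kd xd16 yd49 zd2) (kd xd6 yd29 zd44) (kd xd10 yd48 zd36) (kd xd11 yd36 zd13) (kd xd10 yd53 zd9) (kd xd5 yd57 zd28) (kd xd5 yd57 zd29) (kd xd10 yd45 zd53) (kd xd16 yd49 zd8) (kd xd4 yd30 zd45) (kd xd5 yd17 zd54) (kd xd10 yd19 zd8) (kd xd10 yd49 zd10) (kd xd10 yd54 zd44) (kd xd16 yd49 zd13) (kd xd4 yd30 zd49) (kd xd10 yd19 zd6) (kd xd10 yd54 zd45) (kd xd16 yd49 zd17) (kd xd10 yd59 zd12) (kd xd16 yd49 zd21) (kd xd14 yd8 zd17) (kd xd10 yd59 zd15))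
def f_d_9 : D2 → D3 → Pt := @D2.rec (fun _ => D3 → Pt) (@D3.rec (fun _ => Pt) (kd xd16 yd8 zd10) (kd xd16 yd49 zd31) (kd xd16 yd49 zd33) (kd xd8 yd13 zd49) (kd xd7 yd57 zd61) (kd xd9 yd14 zd35) (kd xd11 yd57 zd12) (kd xd5 yd53 zd19) (kd xd4 yd57 zd30) (kd xd5 yd53 zd0) (kd xd4 yd31 zd47) (kd xd5 yd40 zd5) (kd xd4 yd35 zd8) (kd xd4 yd31 zd48) (kd xd5 yd40 zd2) (kd xd4 yd33 zd60) (kd xd5 yd40 zd8) (kd xd5 yd40 zd7) (kd xd6 yd27 zd16) (kd xd9 yd32 zd24) (kd xd9 yd32 zd23) (kd xd5 yd31 zd56) (kd xd4 yd31 zd10) (kd xd5 yd40 zd51) (kd xd16 yd49 zd48) (kd xd4 yd31 zd11) (kd xd12 yd15 zd22) (kd xd9 yd7 zd0) (kd xd9 yd9 zd14) (kd xd16 yd49 zd53) (kd xd4 yd31 zd16) (kd xd16 yd49 zd55) (kd xd16 yd49 zd59) (kd xd4 yd31 zd18) (kd xd16 yd50 zd0) (kd xd4 yd51 zd22) (kd xd16 yd50 zd7)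 (kd xd4 yd31 zd21) (kd xd16 yd50 zd12) (kd xd16 yd50 zd15) (kd xd4 yd51 zd30) (kd xd16 yd50 zd19) (kd xd4 yd31 zd23) (kd xd16 yd50 zd22) (kd xd16 yd50 zd26) (kd xd4 yd31 zd24) (kd xd16 yd50 zd29) (kd xd10 yd57 zd61) (kd xd10 yd58 zd0) (kd xd16 yd50 zd35) (kd xd4 yd31 zd25) (kd xd16 yd5 zd9) (kd xd4 yd56 zd2) (kd xd16 yd6 zd37) (kd xd16 yd50 zd43) (kd xd4 yd31 zd27) (kd xd16 yd5 zd46) (kd xd16 yd50 zd48) (kd xd8 yd4 zd8) (kd xd8 yd1 zd28) (kd xd16 yd50 zd51) (kd xd10 yd58 zd7)) (@D3.rec (fun _ => Pt) (kd xd16 yd50 zd57) (kd xd16 yd50 zd59) (kd xd8 yd58 zd33) (kd xd16 yd50 zd61) (kd xd5 yd46 zd14) (kd xd16 yd43 zd31) (kd xd16 yd51 zd7) (kd xd16 yd47 zd10) (kd xd4 yd31 zd34) (kd xd5 yd57 zd5) (kd xd11 yd32 zd53) (kd xd6 yd19 zd39) (kd xd4 yd31 zd36) (kd xd8 yd36 zd8) (kd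 xd9 yd38 zd44) (kd xd12 yd14 zd7) (kd xd5 yd3 zd0) (kd xd16 yd51 zd17) (kd xd15 yd4 zd15) (kd xd11 yd11 zd25) (kd xd9 yd45 zd15) (kd xd4 yd31 zd42) (kd xd4 yd31 zd56) (kd xd16 yd51 zd21) (kd xd4 yd34 zd28) (kd xd4 yd31 zd57) (kd xd16 yd51 zd25) (kd xd15 yd30 zd21) (kd xd6 yd46 zd51) (kd xd4 yd43 zd35) (kd xd11 yd27 zd7) (kd xd5 yd38 zd31) (kd xd4 yd31 zd53) (kd xd16 yd51 zd30) (kd xd4 yd31 zd51) (kd xd16 yd51 zd32) (kd xd4 yd31 zd52) (kd xd11 yd4 zd56) (kd xd4 yd35 zd14) (kd xd4 yd42 zd59) (kd xd4 yd31 zd58) (kd xd11 yd11 zd46) (kd xd11 yd26 zd51) (kd xd11 yd7 zd49) (kd xd11 yd7 zd50) (kd xd4 yd31 zd61) (kd xd15 yd50 zd24) (kd xd15 yd3 zd33) (kd xd16 yd51 zd47) (kd xd4 yd32 zd0) (kd xd16 yd51 zd49) (kd xd5 yd48 zd45) (kd xd8 yd57 zd27) (kd xd10 yd55 zd15) (kd xd11 yd31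 zd21) (kd xd5 yd40 zd15) (kd xd4 yd32 zd6) (kd xd4 yd32 zd8) (kd xd16 yd51 zd57) (kd xd5 yd53 zd21) (kd xd4 yd32 zd10) (kd xd16 yd51 zd61)) (@D3.rec (fun _ => Pt) (kd xd4 yd35 zd20) (kd xd16 yd52 zd2) (kd xd4 yd32 zd59) (kd xd16 yd52 zd8) (kd xd16 yd52 zd11) (kd xd11 yd21 zd20) (kd xd11 yd21 zd21) (kd xd4 yd32 zd14) (kd xd16 yd52 zd20) (kd xd16 yd52 zd23) (kd xd16 yd52 zd25) (kd xd4 yd32 zd15) (kd xd16 yd52 zd28) (kd xd5 yd25 zd0) (kd xd16 yd52 zd31) (kd xd4 yd32 zd17) (kd xd16 yd52 zd34) (kd xd4 yd32 zd18) (kd xd11 yd22 zd43) (kd xd5 yd46 zd7) (kd xd5 yd45 zd19) (kd xd4 yd32 zd20) (kd xd11 yd18 zd3) (kd xd4 yd32 zd22) (kd xd16 yd52 zd40) (kd xd4 yd35 zd50) (kd xd4 yd32 zd24) (kd xd4 yd32 zd25) (kd xd16 yd52 zd44) (kd xd16 yd52 zd47) (kd xd4 yd32 zd27) (kd xd4 yd32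 zd28) (kd xd16 yd52 zd52) (kd xd12 yd10 zd0) (kd xd4 yd32 zd31) (kd xd4 yd32 zd32) (kd xd4 yd56 zd34) (kd xd16 yd53 zd2) (kd xd7 yd7 zd51) (kd xd16 yd28 zd55) (kd xd5 yd55 zd3) (kd xd16 yd53 zd10) (kd xd5 yd54 zd33) (kd xd11 yd20 zd51) (kd xd4 yd32 zd37) (kd xd11 yd13 zd37) (kd xd5 yd34 zd2) (kd xd16 yd53 zd23) (kd xd4 yd32 zd38) (kd xd16 yd53 zd27) (kd xd7 yd0 zd42) (kd xd7 yd34 zd7) (kd xd5 yd33 zd9) (kd xd16 yd47 zd27) (kd xd5 yd43 zd5) (kd xd5 yd43 zd4) (kd xd4 yd32 zd46) (kd xd9 yd10 zd22) (kd xd10 yd31 zd37) (kd xd5 yd57 zd2) (kd xd4 yd32 zd49) (kd xd4 yd32 zd50)) (@D3.rec (fun _ => Pt) (kd xd16 yd53 zd45) (kd xd5 yd41 zd34) (kd xd4 yd32 zd53) (kd xd4 yd32 zd54) (kd xd4 yd32 zd55) (kd xd8 yd43 zd23) (kd xd5 yd24 zd58) (kd xd4 yd32 zd57) (kd xd10 yd38 zd20) (kd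 xd10 yd33 zd15) (kd xd16 yd53 zd57) (kd xd4 yd32 zd58) (kd xd14 yd53 zd1) (kd xd5 yd20 zd57) (kd xd16 yd54 zd2) (kd xd16 yd52 zd6) (kd xd11 yd28 zd5) (kd xd15 yd2 zd1) (kd xd7 yd13 zd45) (kd xd5 yd24 zd56) (kd xd5 yd24 zd61) (kd xd16 yd54 zd12) (kd xd4 yd33 zd3) (kd xd16 yd54 zd16) (kd xd4 yd33 zd4) (kd xd12 yd32 zd61) (kd xd16 yd54 zd22) (kd xd6 yd3 zd49) (kd xd4 yd42 zd54) (kd xd16 yd54 zd26) (kd xd9 yd15 zd1) (kd xd16 yd54 zd28) (kd xd16 yd54 zd31) (kd xd10 yd39 zd27) (kd xd16 yd54 zd39) (kd xd16 yd54 zd42) (kd xd6 yd11 zd54) (kd xd4 yd37 zd45) (kd xd10 yd54 zd61) (kd xd10 yd58 zd19) (kd xd5 yd24 zd25) (kd xd5 yd24 zd23) (kd xd16 yd54 zd54) (kd xd4 yd33 zd11) (kd xd16 yd54 zd58) (kd xd12 yd54 zd58) (kd xd12 yd54 zd57) (kd xd10 yd57 zd53) (kd xd16 yd55 zd3) (kd xd4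 yd33 zd13) (kd xd9 yd16 zd15) (kd xd12 yd14 zd61) (kd xd12 yd10 zd46) (kd xd16 yd55 zd8) (kd xd5 yd37 zd60) (kd xd4 yd33 zd15) (kd xd16 yd55 zd11) (kd xd7 yd45 zd11) (kd xd5 yd37 zd26) (kd xd4 yd33 zd16) (kd xd5 yd51 zd26) (kd xd16 yd55 zd14)) (@D3.rec (fun _ => Pt) (kd xd16 yd55 zd16) (kd xd16 yd55 zd17) (kd xd4 yd33 zd17) (kd xd16 yd55 zd24) (kd xd16 yd21 zd35) (kd xd10 yd36 zd53) (kd xd14 yd40 zd57) (kd xd14 yd40 zd56) (kd xd4 yd33 zd19) (kd xd16 yd55 zd33) (kd xd16 yd55 zd37) (kd xd16 yd55 zd40) (kd xd16 yd55 zd43) (kd xd4 yd33 zd21) (kd xd6 yd25 zd18) (kd xd11 yd29 zd23) (kd xd16 yd55 zd47) (kd xd4 yd33 zd22) (kd xd11 yd22 zd34) (kd xd6 yd6 zd43) (kd xd16 yd55 zd51) (kd xd5 yd28 zd30) (kd xd4 yd33 zd24) (kd xd5 yd46 zd49) (kd xd16 yd55 zd60) (kd xd16 yd56 zd0)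 (kd xd8 yd59 zd5) (kd xd16 yd52 zd15) (kd xd16 yd52 zd16) (kd xd4 yd33 zd27) (kd xd16 yd56 zd13) (kd xd12 yd54 zd18) (kd xd12 yd54 zd17) (kd xd8 yd57 zd41) (kd xd16 yd56 zd18) (kd xd4 yd33 zd29) (kd xd5 yd42 zd18) (kd xd4 yd33 zd30) (kd xd6 yd26 zd2) (kd xd16 yd56 zd21) (kd xd11 yd57 zd38) (kd xd16 yd53 zd14) (kd xd16 yd53 zd15) (kd xd4 yd33 zd33) (kd xd8 yd0 zd3) (kd xd6 yd31 zd35) (kd xd16 yd56 zd28) (kd xd15 yd44 zd22) (kd xd16 yd56 zd34) (kd xd16 yd50 zd52) (kd xd16 yd56 zd36) (kd xd16 yd56 zd38) (kd xd14 yd29 zd51) (kd xd11 yd35 zd7) (kd xd4 yd33 zd39) (kd xd10 yd17 zd26) (kd xd16 yd56 zd50) (kd xd4 yd33 zd40) (kd xd16 yd56 zd52) (kd xd4 yd50 zd3) (kd xd4 yd38 zd61) (kd xd16 yd56 zd56)) (@D3.rec (fun _ => Pt) (kd xd16 yd56 zd59) (kd xd4 yd33 zd44) (kd xd12 yd29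 zd54) (kd xd4 yd33 zd45) (kd xd11 yd11 zd12) (kd xd12 yd23 zd44) (kd xd5 yd50 zd55) (kd xd4 yd39 zd8) (kd xd12 yd9 zd20) (kd xd14 yd43 zd10) (kd xd4 yd33 zd48) (kd xd16 yd57 zd10) (kd xd10 yd19 zd4) (kd xd5 yd42 zd17) (kd xd4 yd33 zd51) (kd xd16 yd51 zd2) (kd xd4 yd33 zd53) (kd xd5 yd12 zd32) (kd xd16 yd57 zd18) (kd xd4 yd33 zd54) (kd xd8 yd58 zd28) (kd xd11 yd27 zd60) (kd xd11 yd6 zd35) (kd xd4 yd34 zd13) (kd xd16 yd51 zd31) (kd xd5 yd46 zd11) (kd xd5 yd46 zd15) (kd xd5 yd49 zd1) (kd xd16 yd49 zd39) (kd xd11 yd6 zd42) (kd xd11 yd10 zd53) (kd xd4 yd34 zd0) (kd xd16 yd49 zd47) (kd xd11 yd14 zd56) (kd xd9 yd44 zd25) (kd xd11 yd14 zd57) (kd xd8 yd14 zd42) (kd xd8 yd14 zd41) (kd xd11 yd4 zd55) (kd xd4 yd34 zd4) (kd xd11 yd31 zd54) (kd xd5 yd41 zd15) (kd xd10 yd18 zd26)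 (kd xd5 yd52 zd19) (kd xd4 yd57 zd24) (kd xd5 yd50 zd45) (kd xd14 yd12 zd29) (kd xd16 yd57 zd37) (kd xd4 yd34 zd22) (kd xd7 yd37 zd61) (kd xd16 yd57 zd40) (kd xd11 yd30 zd24) (kd xd4 yd34 zd35) (kd xd16 yd51 zd19) (kd xd11 yd54 zd4) (kd xd10 yd42 zd28) (kd xd10 yd32 zd23) (kd xd10 yd32 zd24) (kd xd4 yd34 zd32) (kd xd16 yd57 zd46) (kd xd16 yd57 zd47) (kd xd4 yd34 zd33)) (@D3.rec (fun _ => Pt) (kd xd16 yd57 zd50) (kd xd11 yd30 zd17) (kd xd11 yd30 zd22) (kd xd11 yd30 zd60) (kd xd5 yd52 zd32) (kd xd6 yd30 zd33) (kd xd9 yd43 zd59) (kd xd6 yd51 zd16) (kd xd11 yd51 zd52) (kd xd6 yd43 zd6) (kd xd5 yd46 zd0) (kd xd5 yd37 zd25) (kd xd6 yd7 zd11) (kd xd4 yd34 zd47) (kd xd16 yd57 zd58) (kd xd7 yd32 zd27) (kd xd16 yd58 zd0) (kd xd7 yd58 zd61) (kd xd12 yd57 zd57) (kd xd4 yd34 zd50)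 (kd xd16 yd58 zd5) (kd xd16 yd58 zd9) (kd xd16 yd58 zd10) (kd xd16 yd58 zd13) (kd xd16 yd58 zd15) (kd xd4 yd34 zd53) (kd xd16 yd58 zd20) (kd xd16 yd41 zd33) (kd xd16 yd58 zd22) (kd xd4 yd34 zd54) (kd xd11 yd25 zd58) (kd xd16 yd58 zd25) (kd xd16 yd58 zd28) (kd xd4 yd34 zd55) (kd xd9 yd51 zd1) (kd xd6 yd47 zd24) (kd xd6 yd47 zd25) (kd xd16 yd58 zd39) (kd xd4 yd34 zd57) (kd xd4 yd34 zd58) (kd xd16 yd58 zd45) (kd xd5 yd38 zd10) (kd xd11 yd7 zd29) (kd xd16 yd58 zd49) (kd xd10 yd53 zd0) (kd xd11 yd7 zd28) (kd xd16 yd58 zd52) (kd xd16 yd58 zd54) (kd xd16 yd58 zd57) (kd xd4 yd35 zd0) (kd xd16 yd58 zd61) (kd xd5 yd8 zd5) (kd xd6 yd30 zd6) (kd xd5 yd8 zd25) (kd xd4 yd35 zd4) (kd xd4 yd35 zd5) (kd xd5 yd38 zd34) (kd xd5 yd37 zd29) (kd xd16 yd59 zd7) (kd xd5 yd37 zd37) (kd xd13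 yd44 zd9) (kd xd16 yd49 zd36)) (@D3.rec (fun _ => Pt) (kd xd9 yd0 zd27) (kd xd16 yd59 zd11) (kd xd4 yd35 zd11) (kd xd5 yd38 zd43) (kd xd7 yd52 zd14) (kd xd5 yd37 zd19) (kd xd16 yd59 zd20) (kd xd11 yd16 zd45) (kd xd16 yd27 zd37) (kd xd9 yd11 zd48) (kd xd16 yd59 zd27) (kd xd10 yd30 zd23) (kd xd4 yd58 zd41) (kd xd4 yd35 zd19) (kd xd11 yd36 zd31) (kd xd6 yd34 zd23) (kd xd11 yd50 zd25) (kd xd11 yd50 zd24) (kd xd4 yd35 zd22) (kd xd16 yd59 zd29) (kd xd4 yd35 zd23) (kd xd4 yd39 zd41) (kd xd16 yd59 zd33) (kd xd4 yd35 zd25) (kd xd16 yd59 zd36) (kd xd5 yd55 zd47) (kd xd10 yd27 zd38) (kd xd9 yd23 zd16) (kd xd9 yd23 zd12) (kd xd4 yd35 zd28) (kd xd4 yd35 zd29) (kd xd4 yd35 zd30) (kd xd6 yd7 zd18) (kd xd6 yd3 zd17) (kd xd6 yd3 zd18) (kd xd16 yd25 zd22) (kd xd4 yd35 zd32) (kd xd4 yd35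 zd33) (kd xd6 yd16 zd45) (kd xd4 yd35 zd35) (kd xd15 yd49 zd51) (kd xd10 yd17 zd39) (kd xd16 yd59 zd53) (kd xd5 yd42 zd49) (kd xd16 yd59 zd57) (kd xd4 yd37 zd7) (kd xd16 yd59 zd60) (kd xd17 yd0 zd1) (kd xd17 yd0 zd5) (kd xd4 yd35 zd39) (kd xd17 yd0 zd8) (kd xd5 yd57 zd13) (kd xd6 yd49 zd27) (kd xd17 yd0 zd12) (kd xd9 yd31 zd20) (kd xd5 yd57 zd25) (kd xd9 yd55 zd46) (kd xd9 yd55 zd47) (kd xd5 yd16 zd34) (kd xd4 yd42 zd46) (kd xd9 yd16 zd11) (kd xd16 yd52 zd39)) (@D3.rec (fun _ => Pt) (kd xd9 yd23 zd42) (kd xd9 yd23 zd43) (kd xd17 yd0 zd24) (kd xd17 yd0 zd27) (kd xd4 yd35 zd55) (kd xd5 yd14 zd29) (kd xd13 yd58 zd38) (kd xd4 yd35 zd58) (kd xd6 yd15 zd51) (kd xd17 yd0 zd35) (kd xd5 yd54 zd48) (kd xd17 yd0 zd40) (kd xd4 yd35 zd61) (kd xd17 yd0 zd44) (kd xd4 yd36 zd0) (kd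 xd17 yd0 zd46) (kd xd10 yd57 zd27) (kd xd4 yd36 zd1) (kd xd17 yd0 zd48) (kd xd4 yd36 zd2) (kd xd4 yd56 zd43) (kd xd17 yd0 zd53) (kd xd4 yd36 zd4) (kd xd6 yd8 zd36) (kd xd16 yd52 zd58) (kd xd13 yd16 zd38) (kd xd11 yd32 zd7) (kd xd17 yd0 zd59) (kd xd17 yd1 zd1) (kd xd17 yd1 zd4) (kd xd4 yd36 zd9) (kd xd17 yd1 zd9) (kd xd4 yd36 zd10) (kd xd4 yd36 zd11) (kd xd12 yd7 zd50) (kd xd5 yd49 zd12) (kd xd17 yd1 zd20) (kd xd4 yd36 zd13) (kd xd11 yd48 zd12) (kd xd9 yd31 zd16) (kd xd9 yd13 zd29) (kd xd4 yd38 zd45) (kd xd17 yd1 zd25) (kd xd4 yd36 zd17) (kd xd10 yd59 zd53) (kd xd17 yd1 zd28) (kd xd11 yd0 zd21) (kd xd11 yd0 zd37) (kd xd9 yd14 zd3) (kd xd6 yd45 zd50) (kd xd6 yd45 zd51) (kd xd14 yd20 zd29) (kd xd4 yd36 zd21) (kd xd6 yd16 zd9) (kd xd17 yd1 zd45) (kd xd4 yd36 zd23) (kd xd17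 yd1 zd49) (kd xd16 yd52 zd42) (kd xd5 yd38 zd25) (kd xd17 yd1 zd53) (kd xd17 yd1 zd55) (kd xd17 yd1 zd57)) (@D3.rec (fun _ => Pt) (kd xd17 yd1 zd59) (kd xd17 yd2 zd0) (kd xd4 yd36 zd27) (kd xd17 yd2 zd5) (kd xd5 yd55 zd10) (kd xd17 yd2 zd9) (kd xd8 yd58 zd43) (kd xd17 yd2 zd11) (kd xd8 yd58 zd49) (kd xd6 yd2 zd3) (kd xd17 yd2 zd14) (kd xd9 yd13 zd58) (kd xd6 yd45 zd5) (kd xd4 yd43 zd46) (kd xd9 yd0 zd28) (kd xd17 yd2 zd17) (kd xd5 yd34 zd57) (kd xd5 yd34 zd58) (kd xd17 yd2 zd20) (kd xd15 yd10 zd38) (kd xd6 yd28 zd60) (kd xd4 yd36 zd39) (kd xd14 yd6 zd48) (kd xd16 yd53 zd41) (kd xd5 yd54 zd32) (kd xd4 yd36 zd43) (kd xd7 yd25 zd41) (kd xd14 yd45 zd31) (kd xd4 yd36 zd45) (kd xd5 yd41 zd48) (kd xd9 yd19 zd51) (kd xd17 yd0 zd33) (kd xd12 yd44 zd6) (kd xd17 yd2 zd30) (kd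 xd4 yd36 zd52) (kd xd12 yd44 zd7) (kd xd10 yd27 zd47) (kd xd4 yd36 zd54) (kd xd7 yd12 zd10) (kd xd11 yd42 zd6) (kd xd17 yd2 zd37) (kd xd4 yd36 zd57) (kd xd4 yd36 zd56) (kd xd11 yd29 zd20) (kd xd16 yd10 zd40) (kd xd11 yd29 zd19) (kd xd16 yd20 zd37) (kd xd6 yd30 zd50) (kd xd4 yd36 zd61) (kd xd17 yd2 zd50) (kd xd17 yd2 zd52) (kd xd4 yd37 zd1) (kd xd4 yd37 zd2) (kd xd6 yd7 zd40) (kd xd17 yd2 zd60) (kd xd4 yd37 zd4) (kd xd4 yd37 zd5) (kd xd7 yd2 zd8) (kd xd17 yd3 zd3) (kd xd17 yd3 zd6) (kd xd17 yd3 zd7) (kd xd16 yd59 zd58)) (@D3.rec (fun _ => Pt) (kd xd6 yd34 zd19) (kd xd5 yd10 zd60) (kd xd17 yd3 zd10) (kd xd4 yd37 zd48) (kd xd4 yd37 zd49) (kd xd17 yd3 zd14) (kd xd13 yd58 zd15) (kd xd7 yd29 zd3) (kd xd4 yd37 zd12) (kd xd13 yd55 zd33) (kd xd9 yd32 zd51) (kd xd16 yd7 zd30)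 (kd xd4 yd37 zd17) (kd xd17 yd3 zd20) (kd xd16 yd54 zd18) (kd xd9 yd27 zd12) (kd xd11 yd6 zd19) (kd xd17 yd3 zd27) (kd xd4 yd37 zd20) (kd xd17 yd3 zd30) (kd xd16 yd59 zd13) (kd xd14 yd1 zd45) (kd xd9 yd2 zd57) (kd xd11 yd1 zd55) (kd xd17 yd3 zd33) (kd xd17 yd3 zd34) (kd xd6 yd3 zd40) (kd xd9 yd51 zd25) (kd xd10 yd59 zd50) (kd xd17 yd3 zd36) (kd xd17 yd3 zd38) (kd xd4 yd37 zd27) (kd xd17 yd3 zd43) (kd xd4 yd37 zd28) (kd xd16 yd34 zd33) (kd xd8 yd45 zd53) (kd xd13 yd36 zd39) (kd xd4 yd37 zd30) (kd xd12 yd58 zd35) (kd xd17 yd3 zd51) (kd xd17 yd3 zd54) (kd xd17 yd3 zd57) (kd xd4 yd37 zd32) (kd xd12 yd58 zd39) (kd xd17 yd3 zd61) (kd xd4 yd37 zd33) (kd xd9 yd12 zd21) (kd xd6 yd44 zd31) (kd xd13 yd55 zd34) (kd xd4 yd37 zd35) (kd xd7 yd51 zd24) (kd xd5 yd42 zd33) (kd xd7 yd23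 zd52) (kd xd17 yd4 zd9) (kd xd17 yd4 zd11) (kd xd7 yd50 zd40) (kd xd6 yd8 zd16) (kd xd17 yd4 zd16) (kd xd17 yd4 zd19) (kd xd17 yd4 zd22) (kd xd17 yd4 zd25) (kd xd4 yd37 zd42)) (@D3.rec (fun _ => Pt) (kd xd17 yd4 zd28) (kd xd17 yd4 zd29) (kd xd17 yd4 zd31) (kd xd4 yd37 zd43) (kd xd9 yd15 zd12) (kd xd17 yd4 zd35) (kd xd17 yd4 zd36) (kd xd4 yd37 zd44) (kd xd6 yd50 zd3) (kd xd6 yd16 zd43) (kd xd11 yd0 zd55) (kd xd11 yd0 zd56) (kd xd4 yd37 zd47) (kd xd17 yd4 zd44) (kd xd14 yd14 zd20) (kd xd17 yd4 zd46) (kd xd17 yd4 zd47) (kd xd17 yd4 zd49) (kd xd17 yd4 zd51) (kd xd4 yd37 zd50) (kd xd17 yd4 zd54) (kd xd17 yd4 zd55) (kd xd4 yd37 zd51) (kd xd17 yd4 zd57) (kd xd4 yd37 zd52) (kd xd11 yd56 zd41) (kd xd17 yd5 zd0) (kd xd4 yd37 zd54) (kd xd17 yd5 zd3) (kd xd17 yd5 zd6) (kd xd12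 yd20 zd10) (kd xd12 yd20 zd23) (kd xd4 yd37 zd57) (kd xd15 yd49 zd34) (kd xd17 yd5 zd12) (kd xd4 yd37 zd58) (kd xd17 yd5 zd16) (kd xd4 yd37 zd59) (kd xd17 yd5 zd18) (kd xd6 yd37 zd23) (kd xd11 yd36 zd37) (kd xd5 yd56 zd35) (kd xd4 yd37 zd61) (kd xd17 yd5 zd23) (kd xd17 yd5 zd27) (kd xd4 yd38 zd2) (kd xd17 yd5 zd32) (kd xd8 yd0 zd31) (kd xd9 yd7 zd9) (kd xd5 yd56 zd13) (kd xd17 yd5 zd39) (kd xd15 yd5 zd11) (kd xd17 yd5 zd41) (kd xd4 yd38 zd6) (kd xd15 yd49 zd32) (kd xd6 yd10 zd51) (kd xd17 yd5 zd47) (kd xd17 yd5 zd50) (kd xd16 yd42 zd22) (kd xd16 yd42 zd18) (kd xd4 yd38 zd10) (kd xd17 yd5 zd58)) (@D3.rec (fun _ => Pt) (kd xd17 yd5 zd59) (kd xd17 yd5 zd61) (kd xd4 yd38 zd11) (kd xd17 yd6 zd6) (kd xd8 yd11 zd13) (kd xd17 yd6 zd8) (kd xd4 yd38 zd12) (kd xd11 yd37 zd40)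 (kd xd17 yd6 zd11) (kd xd17 yd6 zd12) (kd xd17 yd6 zd13) (kd xd4 yd38 zd14) (kd xd16 yd55 zd38) (kd xd17 yd6 zd15) (kd xd7 yd59 zd40) (kd xd4 yd38 zd15) (kd xd11 yd35 zd39) (kd xd17 yd6 zd23) (kd xd17 yd6 zd24) (kd xd4 yd38 zd16) (kd xd10 yd23 zd15) (kd xd9 yd10 zd46) (kd xd11 yd22 zd19) (kd xd17 yd6 zd37) (kd xd14 yd11 zd60) (kd xd17 yd6 zd39) (kd xd4 yd38 zd18) (kd xd9 yd15 zd11) (kd xd17 yd6 zd40) (kd xd4 yd38 zd19) (kd xd13 yd1 zd46) (kd xd17 yd6 zd44) (kd xd4 yd38 zd20) (kd xd14 yd7 zd41) (kd xd17 yd6 zd49) (kd xd13 yd6 zd43) (kd xd6 yd50 zd2) (kd xd4 yd38 zd23) (kd xd17 yd6 zd54) (kd xd16 yd59 zd35) (kd xd17 yd6 zd61) (kd xd10 yd2 zd54) (kd xd17 yd7 zd4) (kd xd17 yd7 zd6) (kd xd17 yd7 zd9) (kd xd17 yd7 zd12) (kd xd4 yd38 zd27) (kd xd6 yd36 zd44) (kd xd17 yd7 zd18)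 (kd xd11 yd1 zd48) (kd xd8 yd59 zd38) (kd xd4 yd38 zd29) (kd xd16 yd48 zd35) (kd xd6 yd10 zd31) (kd xd12 yd58 zd44) (kd xd16 yd23 zd53) (kd xd6 yd24 zd37) (kd xd17 yd7 zd23) (kd xd17 yd7 zd25) (kd xd17 yd7 zd26) (kd xd4 yd38 zd33) (kd xd11 yd1 zd49)) (@D3.rec (fun _ => Pt) (kd xd11 yd1 zd57) (kd xd17 yd7 zd33) (kd xd4 yd38 zd35) (kd xd17 yd7 zd35) (kd xd11 yd39 zd1) (kd xd12 yd37 zd49) (kd xd4 yd38 zd37) (kd xd4 yd38 zd38) (kd xd4 yd40 zd8) (kd xd5 yd57 zd18) (kd xd11 yd48 zd42) (kd xd12 yd56 zd51) (kd xd11 yd39 zd56) (kd xd6 yd2 zd49) (kd xd17 yd7 zd43) (kd xd4 yd38 zd43) (kd xd11 yd34 zd51) (kd xd11 yd58 zd31) (kd xd15 yd5 zd14) (kd xd6 yd44 zd18) (kd xd12 yd28 zd18) (kd xd17 yd7 zd47) (kd xd11 yd58 zd30) (kd xd12 yd17 zd44) (kd xd6 yd50 zd61) (kd xd17 yd7 zd49) (kd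 xd11 yd28 zd55) (kd xd4 yd38 zd49) (kd xd14 yd20 zd38) (kd xd9 yd8 zd40) (kd xd6 yd44 zd15) (kd xd4 yd38 zd50) (kd xd11 yd35 zd3) (kd xd4 yd38 zd52) (kd xd4 yd40 zd59) (kd xd5 yd45 zd59) (kd xd4 yd38 zd54) (kd xd17 yd7 zd59) (kd xd4 yd38 zd56) (kd xd6 yd3 zd39) (kd xd6 yd49 zd49) (kd xd6 yd26 zd1) (kd xd11 yd47 zd31) (kd xd6 yd22 zd29) (kd xd6 yd2 zd10) (kd xd17 yd8 zd2) (kd xd17 yd8 zd3) (kd xd4 yd39 zd0) (kd xd11 yd38 zd38) (kd xd17 yd8 zd7) (kd xd4 yd39 zd1) (kd xd17 yd8 zd14) (kd xd11 yd22 zd29) (kd xd11 yd22 zd30) (kd xd17 yd8 zd18) (kd xd11 yd35 zd57) (kd xd12 yd17 zd21) (kd xd9 yd15 zd17) (kd xd9 yd9 zd11) (kd xd11 yd21 zd56) (kd xd10 yd15 zd30) (kd xd4 yd39 zd6)) (@D3.rec (fun _ => Pt) (kd xd11 yd22 zd49) (kd xd4 yd39 zd9) (kd xd11 yd22 zd8) (kd xd9 yd8 zd48)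 (kd xd13 yd38 zd31) (kd xd6 yd1 zd51) (kd xd10 yd4 zd52) (kd xd5 yd52 zd40) (kd xd9 yd14 zd28) (kd xd5 yd50 zd37) (kd xd4 yd39 zd16) (kd xd9 yd51 zd21) (kd xd13 yd23 zd28) (kd xd11 yd29 zd9) (kd xd9 yd14 zd21) (kd xd10 yd14 zd27) (kd xd17 yd7 zd61) (kd xd6 yd2 zd42) (kd xd11 yd29 zd11) (kd xd14 yd6 zd26) (kd xd9 yd15 zd5) (kd xd9 yd14 zd14) (kd xd17 yd8 zd42) (kd xd17 yd8 zd44) (kd xd11 yd36 zd14) (kd xd10 yd2 zd47) (kd xd6 yd55 zd33) (kd xd7 yd59 zd34) (kd xd9 yd14 zd8) (kd xd6 yd22 zd9) (kd xd12 yd4 zd4) (kd xd12 yd4 zd5) (kd xd11 yd19 zd11) (kd xd9 yd14 zd42) (kd xd17 yd8 zd54) (kd xd9 yd0 zd5) (kd xd6 yd23 zd41) (kd xd17 yd8 zd61) (kd xd17 yd9 zd1) (kd xd11 yd22 zd61) (kd xd6 yd4 zd10) (kd xd6 yd7 zd25) (kd xd9 yd14 zd33) (kd xd10 yd3 zd4) (kd xd11 yd59 zd13) (kd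 xd5 yd50 zd23) (kd xd5 yd52 zd5) (kd xd11 yd27 zd29) (kd xd17 yd9 zd6) (kd xd17 yd9 zd10) (kd xd17 yd9 zd13) (kd xd15 yd50 zd26) (kd xd17 yd9 zd16) (kd xd4 yd39 zd38) (kd xd8 yd50 zd58) (kd xd7 yd49 zd10) (kd xd4 yd39 zd39) (kd xd7 yd49 zd9) (kd xd16 yd10 zd35) (kd xd14 yd15 zd49) (kd xd4 yd39 zd43) (kd xd17 yd9 zd23)) (@D3.rec (fun _ => Pt) (kd xd17 yd9 zd26) (kd xd9 yd3 zd30) (kd xd4 yd39 zd45) (kd xd4 yd39 zd46) (kd xd17 yd9 zd32) (kd xd9 yd14 zd20) (kd xd15 yd49 zd50) (kd xd12 yd47 zd11) (kd xd17 yd9 zd39) (kd xd4 yd39 zd49) (kd xd17 yd9 zd43) (kd xd9 yd12 zd27) (kd xd9 yd11 zd4) (kd xd4 yd40 zd2) (kd xd10 yd3 zd52) (kd xd6 yd6 zd40) (kd xd4 yd39 zd52) (kd xd9 yd13 zd57) (kd xd5 yd6 zd61) (kd xd6 yd12 zd17) (kd xd17 yd9 zd51) (kd xd17 yd9 zd53) (kd xd13 yd9 zd58)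 (kd xd6 yd39 zd11) (kd xd17 yd9 zd55) (kd xd13 yd57 zd11) (kd xd7 yd31 zd39) (kd xd17 yd9 zd56) (kd xd17 yd9 zd59) (kd xd4 yd39 zd61) (kd xd17 yd9 zd46) (kd xd17 yd10 zd0) (kd xd17 yd10 zd1) (kd xd4 yd40 zd0) (kd xd17 yd10 zd4) (kd xd4 yd40 zd1) (kd xd8 yd59 zd29) (kd xd17 yd10 zd7) (kd xd4 yd40 zd3) (kd xd4 yd49 zd33) (kd xd17 yd7 zd54) (kd xd4 yd40 zd6) (kd xd17 yd7 zd42) (kd xd12 yd30 zd16) (kd xd11 yd1 zd53) (kd xd17 yd10 zd10) (kd xd4 yd40 zd11) (kd xd17 yd10 zd11) (kd xd17 yd10 zd13) (kd xd17 yd10 zd18) (kd xd4 yd40 zd13) (kd xd17 yd10 zd21) (kd xd4 yd40 zd14) (kd xd15 yd43 zd7) (kd xd12 yd11 zd56) (kd xd17 yd10 zd20) (kd xd17 yd10 zd19) (kd xd17 yd10 zd27) (kd xd4 yd40 zd16) (kd xd9 yd26 zd34) (kd xd9 yd26 zd35) (kd xd11 yd45 zd26)) (@D3.rec (fun _ => Pt) (kd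 xd4 yd40 zd17) (kd xd17 yd10 zd33) (kd xd17 yd10 zd36) (kd xd17 yd10 zd39) (kd xd17 yd10 zd42) (kd xd4 yd40 zd19) (kd xd17 yd10 zd43) (kd xd17 yd10 zd44) (kd xd4 yd47 zd29) (kd xd17 yd10 zd46) (kd xd9 yd32 zd5) (kd xd9 yd7 zd60) (kd xd4 yd44 zd34) (kd xd6 yd33 zd10) (kd xd9 yd24 zd39) (kd xd9 yd3 zd50) (kd xd11 yd33 zd1) (kd xd4 yd40 zd26) (kd xd17 yd10 zd50) (kd xd4 yd40 zd28) (kd xd17 yd10 zd56) (kd xd9 yd25 zd16) (kd xd5 yd45 zd27) (kd xd16 yd24 zd36) (kd xd4 yd40 zd30) (kd xd13 yd0 zd54) (kd xd9 yd25 zd35) (kd xd14 yd59 zd27) (kd xd17 yd11 zd5) (kd xd17 yd11 zd7) (kd xd4 yd40 zd34) (kd xd5 yd54 zd4) (kd xd17 yd11 zd12) (kd xd17 yd11 zd14) (kd xd4 yd58 zd35) (kd xd17 yd11 zd20) (kd xd14 yd11 zd9) (kd xd14 yd11 zd10) (kd xd4 yd40 zd38) (kd xd17 yd11 zd24) (kd xd6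 yd17 zd20) (kd xd17 yd11 zd30) (kd xd17 yd11 zd32) (kd xd17 yd11 zd36) (kd xd4 yd40 zd40) (kd xd17 yd11 zd40) (kd xd17 yd11 zd43) (kd xd4 yd40 zd41) (kd xd17 yd11 zd47) (kd xd17 yd11 zd52) (kd xd4 yd40 zd42) (kd xd16 yd46 zd52) (kd xd6 yd50 zd48) (kd xd9 yd20 zd61) (kd xd17 yd11 zd60) (kd xd4 yd40 zd44) (kd xd12 yd50 zd15) (kd xd9 yd32 zd6) (kd xd4 yd40 zd46) (kd xd17 yd12 zd2) (kd xd17 yd12 zd4) (kd xd6 yd32 zd59)) (@D3.rec (fun _ => Pt) (kd xd4 yd40 zd48) (kd xd4 yd47 zd28) (kd xd17 yd12 zd7) (kd xd4 yd40 zd49) (kd xd13 yd54 zd46) (kd xd11 yd19 zd59) (kd xd4 yd40 zd50) (kd xd17 yd12 zd13) (kd xd11 yd20 zd7) (kd xd13 yd5 zd49) (kd xd5 yd44 zd8) (kd xd13 yd59 zd2) (kd xd13 yd5 zd50) (kd xd17 yd7 zd58) (kd xd9 yd30 zd49) (kd xd9 yd30 zd28) (kd xd17 yd12 zd26) (kd xd4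 yd40 zd54) (kd xd4 yd49 zd29) (kd xd4 yd40 zd55) (kd xd4 yd49 zd34) (kd xd17 yd12 zd30) (kd xd4 yd40 zd57) (kd xd11 yd35 zd59) (kd xd4 yd49 zd30) (kd xd17 yd7 zd56) (kd xd4 yd49 zd26) (kd xd5 yd53 zd24) (kd xd4 yd50 zd1) (kd xd6 yd46 zd12) (kd xd6 yd8 zd29) (kd xd9 yd26 zd60) (kd xd8 yd56 zd38) (kd xd17 yd12 zd37) (kd xd4 yd41 zd2) (kd xd10 yd22 zd21) (kd xd9 yd22 zd59) (kd xd4 yd41 zd4) (kd xd4 yd57 zd55) (kd xd4 yd49 zd37) (kd xd4 yd57 zd56) (kd xd17 yd12 zd44) (kd xd4 yd41 zd11) (kd xd4 yd41 zd12) (kd xd4 yd49 zd36) (kd xd17 yd12 zd50) (kd xd4 yd41 zd22) (kd xd17 yd12 zd52) (kd xd12 yd1 zd10) (kd xd8 yd49 zd31) (kd xd14 yd12 zd31) (kd xd14 yd12 zd22) (kd xd5 yd6 zd50) (kd xd14 yd12 zd25) (kd xd15 yd49 zd52) (kd xd9 yd20 zd58) (kd xd7 yd43 zd3) (kd xd12 yd39 zd32)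 (kd xd7 yd38 zd16) (kd xd10 yd4 zd2) (kd xd11 yd31 zd7) (kd xd10 yd4 zd6)) (@D3.rec (fun _ => Pt) (kd xd6 yd31 zd36) (kd xd7 yd26 zd48) (kd xd4 yd42 zd60) (kd xd16 yd52 zd32) (kd xd11 yd22 zd44) (kd xd5 yd27 zd22) (kd xd5 yd27 zd21) (kd xd4 yd41 zd40) (kd xd5 yd3 zd57) (kd xd5 yd2 zd37) (kd xd12 yd30 zd18) (kd xd9 yd47 zd59) (kd xd17 yd13 zd15) (kd xd4 yd43 zd2) (kd xd17 yd13 zd17) (kd xd4 yd41 zd50) (kd xd17 yd13 zd19) (kd xd4 yd41 zd51) (kd xd10 yd14 zd23) (kd xd10 yd10 zd43) (kd xd10 yd10 zd49) (kd xd10 yd10 zd50) (kd xd6 yd40 zd58) (kd xd9 yd43 zd19) (kd xd10 yd12 zd46) (kd xd10 yd12 zd43) (kd xd10 yd12 zd44) (kd xd10 yd10 zd40) (kd xd6 yd30 zd29) (kd xd6 yd30 zd30) (kd xd17 yd13 zd42) (kd xd12 yd18 zd10) (kd xd12 yd18 zd9) (kd xd12 yd51 zd9) (kd xd10 yd14 zd30)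 (kd xd4 yd42 zd6) (kd xd4 yd42 zd7) (kd xd6 yd58 zd58) (kd xd6 yd29 zd33) (kd xd17 yd13 zd52) (kd xd11 yd50 zd45) (kd xd17 yd13 zd56) (kd xd8 yd11 zd50) (kd xd4 yd42 zd11) (kd xd17 yd13 zd60) (kd xd4 yd42 zd12) (kd xd17 yd14 zd3) (kd xd17 yd14 zd7) (kd xd15 yd47 zd51) (kd xd15 yd48 zd38) (kd xd4 yd48 zd4) (kd xd4 yd42 zd15) (kd xd6 yd18 zd56) (kd xd6 yd18 zd57) (kd xd6 yd22 zd41) (kd xd12 yd18 zd46) (kd xd9 yd18 zd56) (kd xd17 yd14 zd17) (kd xd4 yd42 zd18) (kd xd17 yd14 zd20) (kd xd15 yd47 zd20) (kd xd17 yd14 zd23)) (@D3.rec (fun _ => Pt) (kd xd6 yd23 zd18) (kd xd6 yd23 zd19) (kd xd6 yd22 zd61) (kd xd12 yd14 zd50) (kd xd4 yd42 zd22) (kd xd9 yd20 zd47) (kd xd12 yd20 zd16) (kd xd17 yd14 zd34) (kd xd12 yd36 zd40) (kd xd12 yd20 zd9) (kd xd17 yd14 zd39) (kd xd17 yd5 zd9)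 (kd xd12 yd21 zd5) (kd xd9 yd19 zd13) (kd xd12 yd11 zd55) (kd xd17 yd14 zd46) (kd xd4 yd42 zd28) (kd xd17 yd14 zd51) (kd xd17 yd14 zd53) (kd xd17 yd14 zd55) (kd xd6 yd24 zd14) (kd xd6 yd45 zd17) (kd xd6 yd20 zd5) (kd xd4 yd42 zd32) (kd xd6 yd47 zd47) (kd xd4 yd42 zd35) (kd xd6 yd1 zd50) (kd xd7 yd57 zd18) (kd xd17 yd15 zd5) (kd xd17 yd15 zd9) (kd xd16 yd27 zd47) (kd xd16 yd31 zd58) (kd xd17 yd15 zd13) (kd xd4 yd42 zd39) (kd xd8 yd48 zd37) (kd xd17 yd15 zd18) (kd xd4 yd42 zd40) (kd xd17 yd15 zd21) (kd xd16 yd27 zd51) (kd xd14 yd59 zd49) (kd xd4 yd42 zd42) (kd xd17 yd15 zd28) (kd xd8 yd47 zd46) (kd xd6 yd15 zd7) (kd xd17 yd15 zd35) (kd xd4 yd42 zd49) (kd xd4 yd42 zd51) (kd xd17 yd15 zd40) (kd xd4 yd42 zd53) (kd xd17 yd15 zd43) (kd xd17 yd15 zd45) (kd xd9 yd9 zd30) (kd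 xd11 yd33 zd50) (kd xd14 yd11 zd49) (kd xd14 yd29 zd18) (kd xd17 yd15 zd48) (kd xd4 yd43 zd3) (kd xd4 yd43 zd9) (kd xd6 yd36 zd41) (kd xd9 yd39 zd15) (kd xd4 yd43 zd13) (kd xd17 yd15 zd52)) (@D3.rec (fun _ => Pt) (kd xd4 yd43 zd14) (kd xd17 yd15 zd55) (kd xd17 yd15 zd58) (kd xd4 yd43 zd15) (kd xd12 yd28 zd32) (kd xd12 yd27 zd47) (kd xd4 yd43 zd17) (kd xd4 yd43 zd18) (kd xd4 yd43 zd19) (kd xd9 yd20 zd9) (kd xd4 yd43 zd25) (kd xd6 yd29 zd61) (kd xd6 yd30 zd0) (kd xd7 yd24 zd36) (kd xd11 yd12 zd18) (kd xd11 yd12 zd17) (kd xd12 yd53 zd11) (kd xd4 yd43 zd30) (kd xd17 yd16 zd6) (kd xd11 yd19 zd53) (kd xd12 yd29 zd28) (kd xd17 yd16 zd10) (kd xd16 yd47 zd59) (kd xd17 yd16 zd16) (kd xd4 yd43 zd36) (kd xd10 yd3 zd58) (kd xd17 yd16 zd19) (kd xd17 yd16 zd20) (kd xd4 yd43 zd37)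 (kd xd4 yd48 zd31) (kd xd4 yd48 zd34) (kd xd4 yd43 zd39) (kd xd6 yd28 zd0) (kd xd10 yd5 zd50) (kd xd6 yd28 zd3) (kd xd17 yd16 zd31) (kd xd9 yd58 zd56) (kd xd6 yd32 zd11) (kd xd6 yd26 zd30) (kd xd6 yd26 zd31) (kd xd5 yd52 zd52) (kd xd6 yd21 zd14) (kd xd6 yd21 zd15) (kd xd6 yd59 zd26) (kd xd6 yd34 zd18) (kd xd12 yd15 zd37) (kd xd12 yd14 zd28) (kd xd9 yd19 zd5) (kd xd4 yd43 zd58) (kd xd17 yd16 zd44) (kd xd4 yd43 zd60) (kd xd17 yd16 zd48) (kd xd4 yd43 zd61) (kd xd6 yd32 zd33) (kd xd8 yd55 zd49) (kd xd17 yd16 zd54) (kd xd17 yd16 zd55) (kd xd4 yd44 zd1) (kd xd9 yd17 zd55) (kd xd4 yd44 zd2) (kd xd17 yd16 zd60) (kd xd9 yd16 zd53)) (@D3.rec (fun _ => Pt) (kd xd4 yd44 zd4) (kd xd7 yd30 zd12) (kd xd7 yd30 zd15) (kd xd17 yd17 zd4) (kd xd4 yd44 zd6) (kd xd4 yd47 zd7) (kd xd4 yd47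 zd8) (kd xd4 yd44 zd7) (kd xd16 yd48 zd47) (kd xd4 yd44 zd8) (kd xd12 yd37 zd11) (kd xd6 yd37 zd10) (kd xd17 yd17 zd12) (kd xd17 yd17 zd15) (kd xd4 yd44 zd11) (kd xd8 yd26 zd46) (kd xd4 yd44 zd12) (kd xd8 yd17 zd28) (kd xd4 yd44 zd15) (kd xd17 yd17 zd20) (kd xd17 yd17 zd22) (kd xd4 yd44 zd16) (kd xd17 yd17 zd25) (kd xd17 yd17 zd26) (kd xd4 yd44 zd17) (kd xd12 yd51 zd23) (kd xd4 yd44 zd18) (kd xd9 yd24 zd49) (kd xd6 yd47 zd10) (kd xd6 yd47 zd11) (kd xd9 yd22 zd27) (kd xd4 yd44 zd20) (kd xd13 yd11 zd9) (kd xd17 yd17 zd44) (kd xd4 yd44 zd22) (kd xd9 yd25 zd42) (kd xd4 yd44 zd24) (kd xd12 yd37 zd25) (kd xd6 yd37 zd60) (kd xd6 yd37 zd61) (kd xd4 yd44 zd26) (kd xd12 yd38 zd8) (kd xd17 yd11 zd25) (kd xd17 yd11 zd26) (kd xd17 yd17 zd54) (kd xd17 yd17 zd55) (kd xd4 yd44 zd29)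 (kd xd6 yd12 zd51) (kd xd17 yd18 zd0) (kd xd17 yd18 zd4) (kd xd4 yd44 zd31) (kd xd6 yd15 zd45) (kd xd6 yd15 zd46) (kd xd17 yd18 zd9) (kd xd4 yd44 zd33) (kd xd6 yd16 zd36) (kd xd4 yd44 zd35) (kd xd17 yd18 zd10) (kd xd6 yd19 zd4) (kd xd9 yd26 zd59) (kd xd11 yd21 zd13) (kd xd11 yd21 zd25)) (@D3.rec (fun _ => Pt) (kd xd9 yd26 zd23) (kd xd17 yd18 zd16) (kd xd4 yd44 zd39) (kd xd4 yd44 zd40) (kd xd12 yd57 zd14) (kd xd10 yd26 zd13) (kd xd4 yd44 zd43) (kd xd17 yd18 zd23) (kd xd17 yd18 zd27) (kd xd4 yd44 zd45) (kd xd9 yd28 zd40) (kd xd7 yd56 zd51) (kd xd11 yd33 zd34) (kd xd17 yd18 zd31) (kd xd17 yd18 zd32) (kd xd17 yd18 zd34) (kd xd17 yd18 zd37) (kd xd17 yd18 zd40) (kd xd4 yd44 zd50) (kd xd4 yd45 zd34) (kd xd17 yd18 zd46) (kd xd4 yd45 zd36) (kd xd17 yd18 zd50) (kd xd17 yd18 zd53)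 (kd xd17 yd18 zd55) (kd xd4 yd44 zd53) (kd xd17 yd18 zd60) (kd xd9 yd21 zd30) (kd xd14 yd59 zd59) (kd xd16 yd24 zd17) (kd xd17 yd19 zd2) (kd xd8 yd0 zd33) (kd xd4 yd44 zd56) (kd xd17 yd19 zd4) (kd xd4 yd44 zd57) (kd xd12 yd57 zd4) (kd xd4 yd44 zd58) (kd xd4 yd45 zd61) (kd xd4 yd46 zd0) (kd xd7 yd24 zd57) (kd xd5 yd51 zd24) (kd xd7 yd47 zd52) (kd xd6 yd33 zd36) (kd xd17 yd6 zd38) (kd xd17 yd10 zd48) (kd xd12 yd9 zd8) (kd xd4 yd45 zd0) (kd xd16 yd44 zd41) (kd xd5 yd25 zd54) (kd xd15 yd45 zd28) (kd xd11 yd9 zd26) (kd xd17 yd19 zd16) (kd xd4 yd45 zd3) (kd xd8 yd32 zd0) (kd xd5 yd54 zd13) (kd xd17 yd19 zd22) (kd xd5 yd15 zd21) (kd xd5 yd18 zd3) (kd xd4 yd45 zd8) (kd xd9 yd17 zd36) (kd xd10 yd43 zd42) (kd xd13 yd31 zd7)) (@D3.rec (fun _ => Pt) (kd xd13 yd20 zd52) (kd xd8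 yd47 zd1) (kd xd14 yd29 zd23) (kd xd6 yd5 zd45) (kd xd8 yd56 zd41) (kd xd17 yd10 zd60) (kd xd12 yd10 zd20) (kd xd11 yd21 zd24) (kd xd4 yd45 zd13) (kd xd17 yd19 zd38) (kd xd5 yd15 zd23) (kd xd4 yd45 zd15) (kd xd9 yd7 zd28) (kd xd4 yd45 zd16) (kd xd17 yd19 zd42) (kd xd17 yd19 zd45) (kd xd9 yd7 zd27) (kd xd4 yd45 zd17) (kd xd17 yd19 zd49) (kd xd4 yd45 zd18) (kd xd17 yd19 zd53) (kd xd12 yd11 zd9) (kd xd12 yd11 zd10) (kd xd17 yd19 zd60) (kd xd17 yd20 zd1) (kd xd17 yd20 zd4) (kd xd4 yd45 zd20) (kd xd17 yd20 zd9) (kd xd17 yd20 zd11) (kd xd4 yd45 zd21) (kd xd17 yd20 zd16) (kd xd17 yd20 zd18) (kd xd4 yd45 zd22) (kd xd4 yd45 zd23) (kd xd12 yd32 zd33) (kd xd6 yd33 zd26) (kd xd6 yd33 zd27) (kd xd12 yd57 zd16) (kd xd4 yd45 zd25) (kd xd17 yd20 zd33) (kd xd4 yd45 zd26) (kd xd17 yd20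 zd36) (kd xd9 yd8 zd0) (kd xd9 yd8 zd1) (kd xd12 yd17 zd46) (kd xd4 yd45 zd29) (kd xd4 yd45 zd30) (kd xd17 yd20 zd42) (kd xd14 yd2 zd57) (kd xd13 yd19 zd10) (kd xd14 yd23 zd48) (kd xd17 yd20 zd45) (kd xd4 yd45 zd35) (kd xd11 yd27 zd34) (kd xd17 yd20 zd51) (kd xd4 yd45 zd37) (kd xd7 yd56 zd44) (kd xd17 yd20 zd55) (kd xd12 yd7 zd27) (kd xd17 yd20 zd58) (kd xd17 yd20 zd61) (kd xd11 yd54 zd61)) (@D3.rec (fun _ => Pt) (kd xd17 yd21 zd6) (kd xd17 yd21 zd9) (kd xd4 yd45 zd42) (kd xd16 yd44 zd39) (kd xd6 yd28 zd32) (kd xd17 yd21 zd15) (kd xd17 yd21 zd19) (kd xd5 yd25 zd53) (kd xd14 yd23 zd57) (kd xd4 yd45 zd46) (kd xd17 yd10 zd53) (kd xd17 yd21 zd27) (kd xd4 yd45 zd47) (kd xd17 yd21 zd28) (kd xd17 yd21 zd29) (kd xd4 yd45 zd50) (kd xd17 yd11 zd9) (kd xd15 yd57 zd15) (kd xd4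 yd45 zd53) (kd xd15 yd57 zd14) (kd xd6 yd48 zd20) (kd xd4 yd45 zd55) (kd xd15 yd35 zd22) (kd xd15 yd59 zd31) (kd xd8 yd17 zd19) (kd xd17 yd21 zd43) (kd xd4 yd45 zd57) (kd xd8 yd29 zd60) (kd xd5 yd8 zd2) (kd xd5 yd8 zd3) (kd xd11 yd30 zd20) (kd xd4 yd45 zd59) (kd xd5 yd0 zd21) (kd xd17 yd19 zd6) (kd xd11 yd24 zd55) (kd xd17 yd21 zd47) (kd xd17 yd21 zd48) (kd xd4 yd46 zd1) (kd xd17 yd21 zd50) (kd xd9 yd16 zd14) (kd xd6 yd31 zd46) (kd xd9 yd55 zd49) (kd xd10 yd42 zd27) (kd xd4 yd46 zd3) (kd xd5 yd5 zd38) (kd xd17 yd21 zd56) (kd xd4 yd46 zd5) (kd xd4 yd46 zd6) (kd xd17 yd21 zd60) (kd xd9 yd21 zd27) (kd xd4 yd46 zd8) (kd xd17 yd22 zd3) (kd xd4 yd46 zd9) (kd xd10 yd43 zd43) (kd xd17 yd22 zd5) (kd xd6 yd43 zd43) (kd xd17 yd22 zd8) (kd xd4 yd47 zd45) (kd xd17 yd22 zd11) (kd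 xd17 yd22 zd12) (kd xd17 yd22 zd16) (kd xd4 yd46 zd13)) (@D3.rec (fun _ => Pt) (kd xd8 yd15 zd58) (kd xd8 yd32 zd12) (kd xd11 yd32 zd59) (kd xd17 yd22 zd20) (kd xd4 yd46 zd15) (kd xd17 yd22 zd24) (kd xd5 yd49 zd28) (kd xd13 yd58 zd35) (kd xd4 yd46 zd16) (kd xd17 yd22 zd27) (kd xd12 yd10 zd35) (kd xd4 yd46 zd17) (kd xd17 yd22 zd31) (kd xd5 yd45 zd23) (kd xd4 yd46 zd18) (kd xd17 yd4 zd13) (kd xd9 yd16 zd21) (kd xd12 yd31 zd27) (kd xd10 yd42 zd58) (kd xd17 yd22 zd43) (kd xd17 yd22 zd47) (kd xd4 yd46 zd20) (kd xd17 yd22 zd52) (kd xd5 yd17 zd48) (kd xd4 yd46 zd23) (kd xd12 yd10 zd23) (kd xd13 yd38 zd30) (kd xd4 yd46 zd24) (kd xd17 yd22 zd57) (kd xd16 yd24 zd33) (kd xd4 yd46 zd25) (kd xd11 yd37 zd42) (kd xd6 yd13 zd51) (kd xd8 yd50 zd25) (kd xd17 yd22 zd61) (kd xd9 yd16 zd26)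 (kd xd7 yd2 zd9) (kd xd17 yd23 zd4) (kd xd4 yd46 zd29) (kd xd4 yd46 zd30) (kd xd5 yd15 zd24) (kd xd12 yd32 zd40) (kd xd9 yd21 zd35) (kd xd5 yd17 zd20) (kd xd4 yd46 zd32) (kd xd7 yd22 zd18) (kd xd11 yd34 zd11) (kd xd4 yd46 zd33) (kd xd4 yd59 zd14) (kd xd4 yd59 zd11) (kd xd17 yd23 zd20) (kd xd17 yd23 zd22) (kd xd4 yd46 zd36) (kd xd14 yd30 zd13) (kd xd11 yd32 zd61) (kd xd6 yd14 zd33) (kd xd17 yd23 zd25) (kd xd4 yd59 zd13) (kd xd17 yd23 zd28) (kd xd4 yd46 zd39) (kd xd17 yd23 zd34) (kd xd14 yd22 zd31)) (@D3.rec (fun _ => Pt) (kd xd14 yd22 zd30) (kd xd4 yd46 zd41) (kd xd17 yd23 zd37) (kd xd4 yd58 zd18) (kd xd17 yd23 zd41) (kd xd4 yd58 zd42) (kd xd5 yd51 zd33) (kd xd4 yd59 zd16) (kd xd17 yd23 zd47) (kd xd17 yd23 zd51) (kd xd17 yd23 zd55) (kd xd4 yd46 zd45) (kd xd17 yd23 zd59)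 (kd xd6 yd5 zd37) (kd xd4 yd46 zd46) (kd xd17 yd24 zd1) (kd xd6 yd5 zd38) (kd xd4 yd46 zd47) (kd xd17 yd24 zd6) (kd xd7 yd37 zd29) (kd xd7 yd37 zd30) (kd xd17 yd24 zd15) (kd xd4 yd46 zd49) (kd xd9 yd22 zd0) (kd xd14 yd1 zd36) (kd xd17 yd24 zd22) (kd xd17 yd24 zd25) (kd xd17 yd24 zd26) (kd xd4 yd46 zd51) (kd xd17 yd24 zd31) (kd xd12 yd34 zd50) (kd xd13 yd4 zd36) (kd xd17 yd24 zd33) (kd xd13 yd20 zd23) (kd xd9 yd15 zd59) (kd xd9 yd15 zd60) (kd xd17 yd24 zd41) (kd xd17 yd24 zd43) (kd xd17 yd24 zd46) (kd xd4 yd46 zd55) (kd xd17 yd24 zd50) (kd xd17 yd24 zd52) (kd xd17 yd24 zd56) (kd xd4 yd46 zd56) (kd xd17 yd25 zd0) (kd xd17 yd25 zd2) (kd xd17 yd25 zd3) (kd xd4 yd46 zd57) (kd xd17 yd25 zd7) (kd xd17 yd25 zd11) (kd xd17 yd25 zd16) (kd xd4 yd46 zd59) (kd xd17 yd25 zd19) (kd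 xd17 yd25 zd21) (kd xd17 yd25 zd23) (kd xd4 yd46 zd60) (kd xd17 yd25 zd27) (kd xd4 yd46 zd61) (kd xd17 yd25 zd34) (kd xd9 yd21 zd59) (kd xd9 yd17 zd31) (kd xd17 yd11 zd57)) (@D3.rec (fun _ => Pt) (kd xd17 yd25 zd37) (kd xd4 yd47 zd2) (kd xd17 yd25 zd41) (kd xd17 yd25 zd42) (kd xd5 yd4 zd14) (kd xd4 yd47 zd3) (kd xd17 yd25 zd47) (kd xd12 yd28 zd38) (kd xd17 yd11 zd55) (kd xd17 yd25 zd52) (kd xd4 yd47 zd6) (kd xd12 yd32 zd34) (kd xd9 yd10 zd15) (kd xd17 yd11 zd53) (kd xd10 yd21 zd16) (kd xd17 yd17 zd7) (kd xd17 yd11 zd45) (kd xd17 yd26 zd7) (kd xd17 yd12 zd8) (kd xd17 yd12 zd0) (kd xd17 yd26 zd15) (kd xd4 yd47 zd9) (kd xd12 yd57 zd17) (kd xd17 yd26 zd20) (kd xd4 yd47 zd11) (kd xd17 yd26 zd22) (kd xd4 yd47 zd12) (kd xd17 yd26 zd28) (kd xd4 yd47 zd13) (kd xd17 yd11 zd48)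 (kd xd17 yd10 zd40) (kd xd17 yd26 zd39) (kd xd6 yd50 zd31) (kd xd4 yd47 zd15) (kd xd14 yd26 zd47) (kd xd4 yd47 zd16) (kd xd17 yd26 zd47) (kd xd17 yd26 zd48) (kd xd4 yd47 zd17) (kd xd17 yd26 zd52) (kd xd4 yd47 zd19) (kd xd17 yd26 zd55) (kd xd17 yd26 zd56) (kd xd4 yd47 zd20) (kd xd17 yd27 zd0) (kd xd12 yd56 zd57) (kd xd17 yd27 zd5) (kd xd17 yd10 zd52) (kd xd4 yd47 zd22) (kd xd17 yd27 zd10) (kd xd17 yd27 zd12) (kd xd4 yd47 zd24) (kd xd17 yd27 zd14) (kd xd4 yd47 zd25) (kd xd17 yd27 zd18) (kd xd17 yd27 zd20) (kd xd4 yd52 zd31) (kd xd4 yd47 zd27) (kd xd6 yd31 zd42) (kd xd17 yd27 zd24) (kd xd12 yd0 zd16) (kd xd17 yd27 zd27)) (@D3.rec (fun _ => Pt) (kd xd17 yd27 zd29) (kd xd17 yd27 zd31) (kd xd17 yd27 zd35) (kd xd4 yd47 zd30) (kd xd6 yd17 zd15) (kd xd17 yd27 zd41) (kd xd17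 yd27 zd45) (kd xd4 yd47 zd32) (kd xd17 yd27 zd50) (kd xd4 yd47 zd34) (kd xd8 yd19 zd48) (kd xd7 yd11 zd45) (kd xd17 yd27 zd56) (kd xd4 yd47 zd37) (kd xd12 yd33 zd21) (kd xd17 yd27 zd61) (kd xd4 yd47 zd39) (kd xd8 yd31 zd23) (kd xd17 yd28 zd5) (kd xd4 yd47 zd40) (kd xd17 yd28 zd8) (kd xd17 yd28 zd11) (kd xd17 yd28 zd12) (kd xd4 yd47 zd41) (kd xd6 yd23 zd54) (kd xd6 yd23 zd55) (kd xd6 yd17 zd24) (kd xd17 yd27 zd39) (kd xd7 yd32 zd26) (kd xd7 yd31 zd54) (kd xd17 yd28 zd27) (kd xd4 yd47 zd44) (kd xd17 yd28 zd30) (kd xd17 yd28 zd32) (kd xd4 yd47 zd48) (kd xd4 yd47 zd49) (kd xd17 yd28 zd39) (kd xd4 yd47 zd50) (kd xd17 yd28 zd42) (kd xd4 yd47 zd51) (kd xd9 yd22 zd10) (kd xd6 yd28 zd33) (kd xd17 yd28 zd53) (kd xd4 yd47 zd53) (kd xd4 yd47 zd54) (kd xd17 yd28 zd61) (kd xd17 yd29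 zd1) (kd xd17 yd29 zd2) (kd xd4 yd47 zd57) (kd xd17 yd29 zd6) (kd xd17 yd29 zd8) (kd xd17 yd29 zd10) (kd xd15 yd54 zd56) (kd xd17 yd29 zd12) (kd xd17 yd29 zd16) (kd xd4 yd47 zd61) (kd xd4 yd48 zd1) (kd xd6 yd10 zd22) (kd xd6 yd11 zd35) (kd xd17 yd29 zd23) (kd xd17 yd14 zd8) (kd xd11 yd51 zd51)) (@D3.rec (fun _ => Pt) (kd xd4 yd48 zd6) (kd xd10 yd3 zd61) (kd xd17 yd29 zd31) (kd xd17 yd29 zd35) (kd xd15 yd21 zd38) (kd xd17 yd29 zd41) (kd xd4 yd48 zd9) (kd xd17 yd29 zd46) (kd xd4 yd50 zd20) (kd xd4 yd48 zd11) (kd xd17 yd29 zd49) (kd xd17 yd29 zd51) (kd xd4 yd48 zd13) (kd xd11 yd14 zd34) (kd xd12 yd4 zd20) (kd xd17 yd29 zd57) (kd xd17 yd29 zd59) (kd xd11 yd24 zd35) (kd xd4 yd48 zd16) (kd xd17 yd30 zd2) (kd xd4 yd48 zd17) (kd xd4 yd48 zd18) (kd xd12 yd32 zd5) (kd xd6 yd30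 zd12) (kd xd17 yd30 zd14) (kd xd4 yd48 zd20) (kd xd11 yd47 zd17) (kd xd6 yd12 zd24) (kd xd17 yd30 zd18) (kd xd7 yd27 zd12) (kd xd4 yd48 zd23) (kd xd16 yd17 zd16) (kd xd17 yd30 zd21) (kd xd17 yd30 zd23) (kd xd17 yd30 zd24) (kd xd17 yd30 zd27) (kd xd17 yd30 zd30) (kd xd4 yd48 zd27) (kd xd17 yd30 zd36) (kd xd11 yd48 zd39) (kd xd4 yd48 zd32) (kd xd6 yd11 zd18) (kd xd6 yd11 zd42) (kd xd17 yd30 zd46) (kd xd15 yd25 zd55) (kd xd17 yd30 zd50) (kd xd6 yd36 zd18) (kd xd17 yd30 zd56) (kd xd17 yd30 zd61) (kd xd17 yd31 zd0) (kd xd4 yd48 zd38) (kd xd17 yd31 zd4) (kd xd4 yd48 zd40) (kd xd12 yd56 zd42) (kd xd11 yd41 zd29) (kd xd4 yd48 zd49) (kd xd17 yd31 zd8) (kd xd4 yd48 zd43) (kd xd17 yd31 zd11) (kd xd4 yd48 zd44) (kd xd17 yd31 zd13) (kd xd8 yd46 zd11)) (@D3.rec (fun _ => Pt) (kd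 xd14 yd59 zd36) (kd xd17 yd31 zd17) (kd xd17 yd31 zd20) (kd xd17 yd31 zd23) (kd xd17 yd31 zd25) (kd xd4 yd48 zd47) (kd xd13 yd9 zd12) (kd xd4 yd48 zd48) (kd xd5 yd59 zd8) (kd xd17 yd31 zd27) (kd xd7 yd35 zd21) (kd xd17 yd31 zd30) (kd xd11 yd1 zd17) (kd xd17 yd31 zd31) (kd xd4 yd48 zd52) (kd xd17 yd31 zd35) (kd xd4 yd48 zd53) (kd xd17 yd31 zd37) (kd xd4 yd59 zd15) (kd xd14 yd3 zd51) (kd xd4 yd48 zd55) (kd xd4 yd48 zd56) (kd xd13 yd58 zd50) (kd xd11 yd39 zd51) (kd xd4 yd48 zd58) (kd xd17 yd31 zd47) (kd xd13 yd8 zd21) (kd xd4 yd48 zd59) (kd xd9 yd17 zd15) (kd xd8 yd14 zd16) (kd xd13 yd8 zd20) (kd xd4 yd48 zd60) (kd xd5 yd33 zd42) (kd xd13 yd1 zd21) (kd xd6 yd8 zd46) (kd xd17 yd31 zd56) (kd xd4 yd49 zd0) (kd xd6 yd6 zd32) (kd xd8 yd14 zd17) (kd xd9 yd54 zd18) (kd xd11 yd16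 zd59) (kd xd17 yd32 zd1) (kd xd17 yd32 zd3) (kd xd4 yd49 zd2) (kd xd6 yd50 zd6) (kd xd11 yd35 zd61) (kd xd17 yd32 zd9) (kd xd17 yd32 zd13) (kd xd4 yd49 zd4) (kd xd9 yd17 zd14) (kd xd10 yd45 zd14) (kd xd11 yd57 zd6) (kd xd17 yd32 zd17) (kd xd4 yd49 zd5) (kd xd17 yd32 zd24) (kd xd17 yd32 zd26) (kd xd4 yd49 zd6) (kd xd17 yd32 zd31) (kd xd17 yd32 zd33) (kd xd17 yd32 zd35) (kd xd4 yd49 zd8) (kd xd5 yd33 zd43)) (@D3.rec (fun _ => Pt) (kd xd17 yd32 zd39) (kd xd4 yd49 zd9) (kd xd17 yd32 zd42) (kd xd17 yd32 zd45) (kd xd4 yd49 zd10) (kd xd12 yd50 zd7) (kd xd17 yd32 zd51) (kd xd17 yd32 zd52) (kd xd4 yd49 zd11) (kd xd17 yd32 zd58) (kd xd5 yd44 zd60) (kd xd13 yd58 zd41) (kd xd4 yd49 zd13) (kd xd11 yd34 zd58) (kd xd4 yd49 zd14) (kd xd17 yd12 zd27) (kd xd9 yd8 zd39) (kd xd11 yd35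 zd5) (kd xd17 yd33 zd6) (kd xd11 yd6 zd53) (kd xd9 yd7 zd54) (kd xd11 yd48 zd45) (kd xd6 yd26 zd0) (kd xd12 yd3 zd51) (kd xd12 yd55 zd18) (kd xd8 yd23 zd1) (kd xd11 yd23 zd52) (kd xd11 yd14 zd46) (kd xd12 yd4 zd6) (kd xd17 yd33 zd20) (kd xd17 yd33 zd22) (kd xd11 yd38 zd59) (kd xd17 yd33 zd24) (kd xd4 yd49 zd23) (kd xd17 yd33 zd30) (kd xd17 yd33 zd34) (kd xd5 yd56 zd57) (kd xd5 yd56 zd58) (kd xd5 yd32 zd54) (kd xd17 yd12 zd33) (kd xd6 yd19 zd20) (kd xd12 yd9 zd18) (kd xd17 yd33 zd41) (kd xd17 yd12 zd32) (kd xd10 yd12 zd19) (kd xd10 yd58 zd42) (kd xd5 yd49 zd55) (kd xd17 yd33 zd44) (kd xd11 yd28 zd50) (kd xd17 yd12 zd29) (kd xd6 yd8 zd17) (kd xd6 yd8 zd18) (kd xd6 yd2 zd44) (kd xd17 yd12 zd47) (kd xd17 yd33 zd53) (kd xd17 yd33 zd58) (kd xd17 yd33 zd60) (kd xd4 yd49 zd38)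 (kd xd6 yd12 zd16) (kd xd6 yd4 zd1) (kd xd11 yd12 zd27) (kd xd4 yd49 zd42)) (@D3.rec (fun _ => Pt) (kd xd17 yd34 zd6) (kd xd4 yd49 zd43) (kd xd17 yd34 zd8) (kd xd17 yd34 zd9) (kd xd4 yd49 zd44) (kd xd9 yd16 zd10) (kd xd9 yd16 zd57) (kd xd17 yd34 zd17) (kd xd10 yd43 zd16) (kd xd17 yd34 zd19) (kd xd17 yd34 zd21) (kd xd4 yd49 zd46) (kd xd4 yd57 zd57) (kd xd15 yd30 zd11) (kd xd8 yd14 zd37) (kd xd8 yd14 zd36) (kd xd17 yd34 zd32) (kd xd12 yd58 zd7) (kd xd6 yd30 zd40) (kd xd6 yd30 zd41) (kd xd11 yd31 zd3) (kd xd12 yd56 zd48) (kd xd8 yd23 zd4) (kd xd9 yd0 zd20) (kd xd9 yd0 zd19) (kd xd12 yd58 zd9) (kd xd12 yd4 zd37) (kd xd11 yd6 zd61) (kd xd4 yd49 zd55) (kd xd5 yd26 zd35) (kd xd5 yd14 zd23) (kd xd11 yd27 zd44) (kd xd6 yd32 zd10) (kd xd10 yd53 zd3) (kd xd5 yd52 zd31) (kd xd6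 yd28 zd48) (kd xd16 yd56 zd53) (kd xd12 yd58 zd37) (kd xd17 yd34 zd54) (kd xd4 yd50 zd5) (kd xd17 yd34 zd55) (kd xd17 yd34 zd57) (kd xd6 yd40 zd22) (kd xd17 yd34 zd60) (kd xd6 yd24 zd19) (kd xd7 yd31 zd41) (kd xd6 yd47 zd50) (kd xd6 yd47 zd49) (kd xd14 yd12 zd14) (kd xd6 yd10 zd50) (kd xd4 yd50 zd14) (kd xd9 yd10 zd10) (kd xd12 yd35 zd41) (kd xd4 yd50 zd16) (kd xd17 yd35 zd2) (kd xd17 yd35 zd6) (kd xd17 yd35 zd7) (kd xd4 yd50 zd17) (kd xd6 yd2 zd61) (kd xd6 yd48 zd22) (kd xd6 yd48 zd23) (kd xd6 yd49 zd14)) (@D3.rec (fun _ => Pt) (kd xd17 yd29 zd45) (kd xd17 yd35 zd16) (kd xd4 yd50 zd22) (kd xd6 yd49 zd12) (kd xd6 yd49 zd13) (kd xd6 yd9 zd47) (kd xd12 yd53 zd8) (kd xd4 yd50 zd25) (kd xd12 yd21 zd38) (kd xd17 yd35 zd27) (kd xd17 yd35 zd29) (kd xd12 yd21 zd41) (kd xd17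 yd35 zd34) (kd xd17 yd35 zd36) (kd xd5 yd22 zd9) (kd xd8 yd26 zd56) (kd xd5 yd22 zd10) (kd xd9 yd52 zd58) (kd xd9 yd34 zd45) (kd xd4 yd54 zd45) (kd xd17 yd35 zd50) (kd xd4 yd50 zd36) (kd xd9 yd33 zd22) (kd xd15 yd17 zd24) (kd xd17 yd35 zd57) (kd xd8 yd27 zd45) (kd xd8 yd27 zd46) (kd xd5 yd35 zd23) (kd xd15 yd47 zd0) (kd xd4 yd50 zd41) (kd xd17 yd36 zd2) (kd xd8 yd17 zd0) (kd xd4 yd50 zd42) (kd xd17 yd36 zd4) (kd xd17 yd36 zd10) (kd xd17 yd36 zd15) (kd xd17 yd36 zd17) (kd xd4 yd50 zd43) (kd xd17 yd36 zd21) (kd xd8 yd2 zd46) (kd xd6 yd4 zd46) (kd xd8 yd2 zd51) (kd xd4 yd50 zd45) (kd xd5 yd1 zd40) (kd xd9 yd35 zd14) (kd xd17 yd36 zd29) (kd xd4 yd50 zd49) (kd xd17 yd36 zd33) (kd xd17 yd36 zd37) (kd xd4 yd50 zd51) (kd xd17 yd36 zd41) (kd xd5 yd39 zd15) (kd xd17 yd36 zd45)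 (kd xd4 yd50 zd54) (kd xd17 yd36 zd49) (kd xd11 yd8 zd38) (kd xd4 yd50 zd56) (kd xd15 yd11 zd47) (kd xd8 yd4 zd19) (kd xd5 yd1 zd14) (kd xd17 yd36 zd57) (kd xd17 yd37 zd0)) (@D3.rec (fun _ => Pt) (kd xd17 yd37 zd2) (kd xd4 yd50 zd58) (kd xd9 yd36 zd19) (kd xd8 yd1 zd39) (kd xd9 yd52 zd42) (kd xd15 yd57 zd57) (kd xd17 yd37 zd14) (kd xd9 yd55 zd19) (kd xd15 yd50 zd42) (kd xd7 yd32 zd44) (kd xd5 yd23 zd25) (kd xd9 yd36 zd15) (kd xd17 yd37 zd20) (kd xd8 yd4 zd40) (kd xd15 yd14 zd32) (kd xd17 yd37 zd24) (kd xd4 yd51 zd8) (kd xd17 yd37 zd29) (kd xd15 yd30 zd7) (kd xd9 yd43 zd55) (kd xd8 yd10 zd4) (kd xd17 yd37 zd35) (kd xd4 yd51 zd10) (kd xd16 yd17 zd23) (kd xd17 yd37 zd42) (kd xd4 yd51 zd11) (kd xd17 yd37 zd45) (kd xd17 yd37 zd48) (kd xd17 yd37 zd52) (kd xd17 yd37 zd54)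 (kd xd4 yd51 zd12) (kd xd17 yd38 zd0) (kd xd4 yd51 zd32) (kd xd17 yd38 zd6) (kd xd10 yd8 zd44) (kd xd16 yd17 zd47) (kd xd4 yd51 zd14) (kd xd17 yd38 zd14) (kd xd15 yd12 zd2) (kd xd8 yd1 zd32) (kd xd13 yd18 zd56) (kd xd4 yd51 zd17) (kd xd17 yd38 zd20) (kd xd4 yd51 zd18) (kd xd15 yd34 zd54) (kd xd9 yd33 zd18) (kd xd15 yd3 zd15) (kd xd4 yd51 zd21) (kd xd17 yd38 zd26) (kd xd16 yd11 zd6) (kd xd16 yd50 zd3) (kd xd9 yd36 zd17) (kd xd17 yd38 zd32) (kd xd8 yd39 zd14) (kd xd10 yd15 zd61) (kd xd17 yd38 zd35) (kd xd9 yd35 zd52) (kd xd17 yd38 zd38) (kd xd4 yd51 zd26) (kd xd17 yd38 zd46) (kd xd17 yd37 zd32) (kd xd17 yd38 zd50)) (@D3.rec (fun _ => Pt) (kd xd17 yd38 zd52) (kd xd4 yd51 zd28) (kd xd17 yd38 zd55) (kd xd12 yd50 zd31) (kd xd15 yd52 zd31) (kd xd5 yd39 zd12) (kd xd17 yd38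 zd2) (kd xd17 yd39 zd0) (kd xd17 yd37 zd56) (kd xd17 yd37 zd57) (kd xd17 yd39 zd6) (kd xd4 yd51 zd33) (kd xd17 yd39 zd13) (kd xd8 yd32 zd57) (kd xd9 yd33 zd44) (kd xd17 yd39 zd20) (kd xd17 yd39 zd22) (kd xd17 yd39 zd24) (kd xd4 yd51 zd35) (kd xd17 yd39 zd28) (kd xd17 yd39 zd30) (kd xd4 yd51 zd36) (kd xd17 yd39 zd32) (kd xd5 yd36 zd26) (kd xd8 yd11 zd5) (kd xd10 yd15 zd45) (kd xd4 yd51 zd40) (kd xd17 yd39 zd39) (kd xd10 yd8 zd36) (kd xd10 yd8 zd37) (kd xd4 yd51 zd41) (kd xd17 yd39 zd43) (kd xd17 yd38 zd40) (kd xd17 yd38 zd41) (kd xd17 yd39 zd48) (kd xd4 yd51 zd42) (kd xd17 yd39 zd52) (kd xd17 yd39 zd54) (kd xd9 yd52 zd54) (kd xd9 yd35 zd44) (kd xd4 yd51 zd44) (kd xd15 yd11 zd48) (kd xd5 yd35 zd29) (kd xd9 yd52 zd28) (kd xd9 yd35 zd39) (kd xd4 yd51 zd48) (kd xd17 yd39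 zd61) (kd xd17 yd40 zd3) (kd xd17 yd40 zd4) (kd xd4 yd51 zd49) (kd xd12 yd17 zd25) (kd xd8 yd17 zd1) (kd xd9 yd34 zd56) (kd xd4 yd51 zd51) (kd xd17 yd40 zd15) (kd xd17 yd40 zd17) (kd xd17 yd40 zd19) (kd xd17 yd40 zd21) (kd xd4 yd51 zd52) (kd xd17 yd40 zd27) (kd xd17 yd40 zd30) (kd xd4 yd51 zd54)) (@D3.rec (fun _ => Pt) (kd xd10 yd8 zd49) (kd xd17 yd40 zd32) (kd xd17 yd40 zd36) (kd xd4 yd51 zd55) (kd xd17 yd40 zd42) (kd xd17 yd40 zd41) (kd xd17 yd40 zd44) (kd xd4 yd51 zd56) (kd xd4 yd51 zd57) (kd xd12 yd19 zd6) (kd xd15 yd43 zd9) (kd xd17 yd40 zd60) (kd xd9 yd38 zd25) (kd xd4 yd51 zd59) (kd xd17 yd41 zd7) (kd xd9 yd34 zd11) (kd xd17 yd41 zd13) (kd xd9 yd34 zd51) (kd xd17 yd41 zd17) (kd xd9 yd34 zd2) (kd xd17 yd41 zd24) (kd xd17 yd41 zd27) (kd xd17 yd41 zd30) (kd xd9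 yd38 zd32) (kd xd17 yd41 zd35) (kd xd4 yd52 zd3) (kd xd17 yd41 zd39) (kd xd17 yd41 zd42) (kd xd4 yd52 zd4) (kd xd8 yd27 zd27) (kd xd17 yd41 zd45) (kd xd17 yd41 zd48) (kd xd4 yd52 zd5) (kd xd8 yd14 zd23) (kd xd15 yd45 zd57) (kd xd17 yd41 zd51) (kd xd17 yd41 zd53) (kd xd15 yd29 zd35) (kd xd5 yd39 zd40) (kd xd16 yd7 zd44) (kd xd12 yd53 zd22) (kd xd5 yd43 zd33) (kd xd17 yd42 zd0) (kd xd17 yd42 zd3) (kd xd17 yd33 zd59) (kd xd4 yd52 zd11) (kd xd17 yd42 zd8) (kd xd17 yd42 zd11) (kd xd4 yd52 zd12) (kd xd9 yd40 zd16) (kd xd17 yd42 zd13) (kd xd17 yd42 zd15) (kd xd4 yd52 zd13) (kd xd15 yd1 zd24) (kd xd4 yd52 zd15) (kd xd12 yd55 zd57) (kd xd17 yd42 zd22) (kd xd4 yd52 zd19) (kd xd17 yd42 zd24) (kd xd9 yd40 zd15) (kd xd10 yd9 zd43) (kd xd8 yd55 zd27)) (@D3.rec (fun _ => Pt) (kd xd12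 yd53 zd23) (kd xd10 yd11 zd26) (kd xd16 yd7 zd51) (kd xd16 yd7 zd52) (kd xd4 yd52 zd23) (kd xd10 yd12 zd31) (kd xd17 yd42 zd38) (kd xd15 yd1 zd25) (kd xd10 yd12 zd34) (kd xd17 yd42 zd41) (kd xd9 yd37 zd22) (kd xd17 yd42 zd42) (kd xd17 yd42 zd44) (kd xd17 yd40 zd61) (kd xd17 yd42 zd48) (kd xd4 yd52 zd32) (kd xd17 yd42 zd54) (kd xd17 yd42 zd53) (kd xd17 yd42 zd56) (kd xd17 yd42 zd57) (kd xd4 yd52 zd36) (kd xd15 yd7 zd36) (kd xd9 yd37 zd10) (kd xd17 yd42 zd61) (kd xd15 yd54 zd2) (kd xd17 yd43 zd2) (kd xd11 yd59 zd49) (kd xd6 yd24 zd17) (kd xd12 yd21 zd48) (kd xd13 yd2 zd31) (kd xd4 yd52 zd43) (kd xd8 yd13 zd42) (kd xd8 yd7 zd28) (kd xd8 yd7 zd29) (kd xd15 yd9 zd23) (kd xd17 yd43 zd13) (kd xd4 yd52 zd47) (kd xd17 yd43 zd17) (kd xd4 yd52 zd48) (kd xd8 yd38 zd5) (kd xd4 yd52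 zd49) (kd xd15 yd22 zd0) (kd xd17 yd43 zd19) (kd xd17 yd43 zd21) (kd xd4 yd52 zd54) (kd xd8 yd18 zd9) (kd xd9 yd54 zd34) (kd xd4 yd52 zd55) (kd xd17 yd43 zd25) (kd xd4 yd52 zd56) (kd xd8 yd37 zd40) (kd xd17 yd43 zd29) (kd xd9 yd39 zd30) (kd xd4 yd52 zd60) (kd xd17 yd43 zd33) (kd xd9 yd53 zd42) (kd xd9 yd53 zd43) (kd xd15 yd11 zd4) (kd xd17 yd43 zd35) (kd xd8 yd9 zd38) (kd xd17 yd43 zd37) (kd xd17 yd43 zd39)) (@D3.rec (fun _ => Pt) (kd xd17 yd43 zd43) (kd xd17 yd43 zd45) (kd xd17 yd43 zd48) (kd xd4 yd53 zd3) (kd xd17 yd43 zd52) (kd xd17 yd43 zd54) (kd xd4 yd53 zd5) (kd xd17 yd43 zd58) (kd xd17 yd43 zd60) (kd xd17 yd44 zd0) (kd xd17 yd44 zd2) (kd xd4 yd53 zd6) (kd xd17 yd44 zd7) (kd xd17 yd44 zd9) (kd xd4 yd53 zd8) (kd xd17 yd44 zd11) (kd xd15 yd54 zd4) (kd xd4 yd53 zd9)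 (kd xd17 yd44 zd18) (kd xd17 yd44 zd20) (kd xd4 yd53 zd10) (kd xd4 yd53 zd11) (kd xd13 yd52 zd31) (kd xd15 yd49 zd5) (kd xd17 yd40 zd49) (kd xd9 yd36 zd12) (kd xd7 yd55 zd33) (kd xd9 yd56 zd19) (kd xd7 yd55 zd38) (kd xd17 yd44 zd40) (kd xd17 yd44 zd42) (kd xd17 yd44 zd45) (kd xd9 yd36 zd23) (kd xd17 yd44 zd48) (kd xd10 yd0 zd1) (kd xd4 yd53 zd16) (kd xd17 yd44 zd54) (kd xd4 yd53 zd17) (kd xd8 yd37 zd51) (kd xd17 yd44 zd57) (kd xd4 yd53 zd18) (kd xd8 yd11 zd54) (kd xd17 yd44 zd60) (kd xd15 yd25 zd59) (kd xd9 yd1 zd14) (kd xd16 yd55 zd46) (kd xd6 yd44 zd27) (kd xd4 yd53 zd21) (kd xd9 yd56 zd10) (kd xd17 yd45 zd2) (kd xd6 yd38 zd59) (kd xd4 yd53 zd22) (kd xd17 yd21 zd36) (kd xd6 yd2 zd35) (kd xd4 yd53 zd23) (kd xd9 yd41 zd16) (kd xd17 yd45 zd9) (kd xd4 yd53 zd25) (kd xd10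 yd53 zd10) (kd xd16 yd5 zd24) (kd xd17 yd5 zd5) (kd xd9 yd58 zd32)) (@D3.rec (fun _ => Pt) (kd xd17 yd13 zd34) (kd xd9 yd41 zd17) (kd xd9 yd58 zd35) (kd xd17 yd13 zd37) (kd xd10 yd19 zd52) (kd xd4 yd53 zd37) (kd xd17 yd45 zd18) (kd xd17 yd45 zd20) (kd xd17 yd45 zd21) (kd xd4 yd53 zd38) (kd xd17 yd45 zd27) (kd xd17 yd45 zd29) (kd xd17 yd8 zd49) (kd xd4 yd53 zd42) (kd xd17 yd45 zd32) (kd xd9 yd19 zd59) (kd xd4 yd53 zd44) (kd xd8 yd11 zd30) (kd xd10 yd18 zd2) (kd xd12 yd5 zd27) (kd xd5 yd17 zd18) (kd xd8 yd52 zd26) (kd xd6 yd25 zd13) (kd xd15 yd48 zd52) (kd xd5 yd35 zd32) (kd xd7 yd57 zd52) (kd xd6 yd13 zd57) (kd xd4 yd53 zd60) (kd xd9 yd39 zd28) (kd xd5 yd19 zd35) (kd xd9 yd37 zd52) (kd xd10 yd36 zd18) (kd xd9 yd59 zd24) (kd xd4 yd54 zd3) (kd xd9 yd39 zd34) (kd xd17 yd45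 zd54) (kd xd4 yd54 zd5) (kd xd17 yd45 zd59) (kd xd6 yd21 zd3) (kd xd17 yd46 zd2) (kd xd4 yd54 zd7) (kd xd17 yd46 zd7) (kd xd17 yd46 zd10) (kd xd9 yd43 zd25) (kd xd11 yd57 zd29) (kd xd17 yd46 zd16) (kd xd4 yd54 zd9) (kd xd17 yd46 zd19) (kd xd12 yd7 zd11) (kd xd4 yd54 zd10) (kd xd17 yd46 zd25) (kd xd10 yd28 zd3) (kd xd17 yd46 zd34) (kd xd17 yd46 zd21) (kd xd4 yd54 zd11) (kd xd17 yd46 zd22) (kd xd5 yd18 zd61) (kd xd5 yd19 zd1) (kd xd5 yd16 zd26) (kd xd15 yd0 zd47) (kd xd4 yd54 zd13) (kd xd17 yd46 zd48)) (@D3.rec (fun _ => Pt) (kd xd17 yd46 zd50) (kd xd5 yd19 zd38) (kd xd15 yd27 zd46) (kd xd14 yd58 zd9) (kd xd15 yd7 zd44) (kd xd4 yd54 zd18) (kd xd9 yd40 zd6) (kd xd17 yd47 zd2) (kd xd4 yd54 zd20) (kd xd17 yd47 zd6) (kd xd15 yd1 zd2) (kd xd11 yd10 zd29) (kd xd17 yd47 zd12)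 (kd xd4 yd54 zd22) (kd xd17 yd47 zd17) (kd xd9 yd36 zd59) (kd xd9 yd36 zd49) (kd xd8 yd36 zd2) (kd xd17 yd47 zd24) (kd xd4 yd54 zd24) (kd xd17 yd47 zd27) (kd xd17 yd47 zd32) (kd xd4 yd54 zd25) (kd xd17 yd47 zd35) (kd xd17 yd47 zd41) (kd xd17 yd47 zd46) (kd xd9 yd57 zd47) (kd xd4 yd54 zd26) (kd xd9 yd57 zd44) (kd xd5 yd19 zd8) (kd xd5 yd17 zd39) (kd xd5 yd18 zd20) (kd xd15 yd0 zd53) (kd xd4 yd54 zd28) (kd xd17 yd47 zd60) (kd xd17 yd48 zd0) (kd xd17 yd48 zd5) (kd xd4 yd54 zd30) (kd xd17 yd48 zd7) (kd xd17 yd48 zd11) (kd xd4 yd54 zd32) (kd xd6 yd2 zd27) (kd xd17 yd48 zd16) (kd xd4 yd54 zd34) (kd xd15 yd38 zd32) (kd xd17 yd46 zd51) (kd xd9 yd55 zd0) (kd xd4 yd54 zd36) (kd xd17 yd48 zd23) (kd xd15 yd1 zd5) (kd xd8 yd13 zd27) (kd xd17 yd48 zd29) (kd xd4 yd54 zd38) (kd xd17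 yd0 zd16) (kd xd10 yd55 zd49) (kd xd10 yd55 zd48) (kd xd17 yd48 zd40) (kd xd4 yd54 zd39) (kd xd5 yd25 zd33) (kd xd5 yd20 zd35) (kd xd15 yd24 zd27) (kd xd12 yd18 zd12)) (@D3.rec (fun _ => Pt) (kd xd15 yd30 zd57) (kd xd16 yd36 zd61) (kd xd17 yd48 zd52) (kd xd8 yd9 zd53) (kd xd9 yd41 zd10) (kd xd17 yd35 zd46) (kd xd9 yd41 zd6) (kd xd8 yd30 zd46) (kd xd5 yd25 zd29) (kd xd17 yd48 zd60) (kd xd9 yd41 zd4) (kd xd4 yd54 zd51) (kd xd17 yd49 zd0) (kd xd17 yd49 zd4) (kd xd4 yd54 zd54) (kd xd17 yd49 zd9) (kd xd9 yd38 zd55) (kd xd9 yd39 zd1) (kd xd8 yd24 zd21) (kd xd17 yd49 zd15) (kd xd4 yd54 zd56) (kd xd17 yd49 zd18) (kd xd10 yd2 zd29) (kd xd4 yd54 zd57) (kd xd6 yd38 zd1) (kd xd17 yd49 zd24) (kd xd17 yd49 zd28) (kd xd17 yd49 zd30) (kd xd4 yd54 zd58) (kd xd17 yd49 zd38) (kd xd4 yd55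 zd17) (kd xd17 yd49 zd44) (kd xd17 yd49 zd47) (kd xd17 yd49 zd49) (kd xd4 yd54 zd60) (kd xd17 yd49 zd54) (kd xd11 yd51 zd21) (kd xd15 yd1 zd45) (kd xd17 yd49 zd60) (kd xd4 yd55 zd1) (kd xd16 yd12 zd53) (kd xd4 yd55 zd2) (kd xd8 yd17 zd10) (kd xd8 yd26 zd11) (kd xd17 yd50 zd7) (kd xd4 yd55 zd6) (kd xd6 yd33 zd15) (kd xd16 yd1 zd8) (kd xd15 yd49 zd28) (kd xd5 yd25 zd31) (kd xd17 yd50 zd13) (kd xd16 yd1 zd6) (kd xd15 yd47 zd55) (kd xd17 yd50 zd16) (kd xd9 yd57 zd19) (kd xd17 yd50 zd18) (kd xd4 yd55 zd11) (kd xd17 yd50 zd23) (kd xd17 yd33 zd35) (kd xd17 yd50 zd28) (kd xd17 yd50 zd31) (kd xd4 yd55 zd13)) (@D3.rec (fun _ => Pt) (kd xd6 yd2 zd30) (kd xd17 yd50 zd34) (kd xd16 yd22 zd13) (kd xd17 yd50 zd36) (kd xd4 yd55 zd16) (kd xd9 yd56 zd52) (kd xd17 yd49 zd40) (kd xd17 yd42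 zd10) (kd xd17 yd49 zd32) (kd xd17 yd49 zd33) (kd xd17 yd50 zd46) (kd xd4 yd55 zd18) (kd xd5 yd22 zd34) (kd xd5 yd22 zd32) (kd xd15 yd38 zd33) (kd xd17 yd50 zd58) (kd xd17 yd50 zd59) (kd xd15 yd23 zd61) (kd xd17 yd50 zd61) (kd xd4 yd55 zd21) (kd xd12 yd20 zd49) (kd xd4 yd55 zd22) (kd xd9 yd55 zd37) (kd xd17 yd51 zd6) (kd xd17 yd51 zd10) (kd xd4 yd55 zd25) (kd xd17 yd51 zd13) (kd xd10 yd56 zd34) (kd xd10 yd56 zd38) (kd xd10 yd24 zd8) (kd xd17 yd50 zd20) (kd xd17 yd50 zd21) (kd xd17 yd51 zd17) (kd xd4 yd55 zd27) (kd xd10 yd18 zd56) (kd xd10 yd18 zd54) (kd xd12 yd42 zd12) (kd xd17 yd51 zd27) (kd xd4 yd55 zd29) (kd xd17 yd51 zd31) (kd xd6 yd2 zd22) (kd xd5 yd39 zd51) (kd xd17 yd51 zd33) (kd xd8 yd11 zd14) (kd xd17 yd51 zd39) (kd xd4 yd55 zd33) (kd xd17 yd51 zd42) (kd xd17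 yd51 zd46) (kd xd17 yd51 zd48) (kd xd17 yd51 zd51) (kd xd4 yd55 zd34) (kd xd16 yd13 zd33) (kd xd5 yd22 zd18) (kd xd17 yd51 zd60) (kd xd4 yd55 zd36) (kd xd17 yd52 zd1) (kd xd14 yd58 zd22) (kd xd16 yd20 zd16) (kd xd17 yd52 zd5) (kd xd4 yd55 zd37) (kd xd6 yd11 zd21) (kd xd5 yd16 zd47)) (@D3.rec (fun _ => Pt) (kd xd4 yd55 zd39) (kd xd17 yd52 zd10) (kd xd9 yd58 zd51) (kd xd9 yd57 zd12) (kd xd8 yd35 zd28) (kd xd5 yd10 zd20) (kd xd5 yd10 zd21) (kd xd4 yd55 zd42) (kd xd10 yd49 zd3) (kd xd10 yd49 zd4) (kd xd4 yd55 zd44) (kd xd5 yd22 zd36) (kd xd17 yd49 zd2) (kd xd5 yd23 zd33) (kd xd17 yd33 zd29) (kd xd5 yd21 zd4) (kd xd17 yd52 zd25) (kd xd12 yd22 zd17) (kd xd15 yd25 zd54) (kd xd9 yd18 zd23) (kd xd17 yd29 zd24) (kd xd17 yd29 zd25) (kd xd17 yd52 zd33) (kd xd17 yd52 zd36) (kd xd4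 yd55 zd51) (kd xd9 yd39 zd43) (kd xd17 yd52 zd40) (kd xd17 yd52 zd42) (kd xd4 yd55 zd52) (kd xd17 yd52 zd44) (kd xd17 yd52 zd46) (kd xd4 yd55 zd53) (kd xd17 yd52 zd48) (kd xd9 yd52 zd33) (kd xd17 yd52 zd51) (kd xd17 yd52 zd52) (kd xd4 yd55 zd57) (kd xd10 yd55 zd52) (kd xd10 yd55 zd53) (kd xd17 yd48 zd3) (kd xd4 yd55 zd61) (kd xd4 yd56 zd0) (kd xd14 yd49 zd5) (kd xd8 yd10 zd23) (kd xd8 yd10 zd24) (kd xd8 yd27 zd22) (kd xd16 yd50 zd39) (kd xd17 yd53 zd0) (kd xd17 yd53 zd3) (kd xd17 yd53 zd6) (kd xd17 yd53 zd9) (kd xd4 yd56 zd4) (kd xd14 yd50 zd28) (kd xd8 yd26 zd60) (kd xd17 yd53 zd12) (kd xd9 yd34 zd19) (kd xd8 yd28 zd15) (kd xd17 yd53 zd15) (kd xd17 yd53 zd16) (kd xd9 yd6 zd6) (kd xd17 yd53 zd17) (kd xd5 yd6 zd21)) (@D3.rec (fun _ => Pt) (kd xd4 yd56 zd11) (kd xd12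 yd56 zd44) (kd xd11 yd27 zd39) (kd xd4 yd56 zd12) (kd xd17 yd53 zd24) (kd xd10 yd12 zd48) (kd xd10 yd16 zd61) (kd xd12 yd24 zd26) (kd xd5 yd28 zd58) (kd xd5 yd41 zd3) (kd xd4 yd56 zd16) (kd xd4 yd56 zd15) (kd xd12 yd56 zd43) (kd xd10 yd52 zd46) (kd xd17 yd53 zd30) (kd xd17 yd53 zd33) (kd xd4 yd56 zd17) (kd xd9 yd48 zd21) (kd xd5 yd6 zd20) (kd xd5 yd4 zd40) (kd xd12 yd56 zd53) (kd xd8 yd14 zd56) (kd xd8 yd14 zd55) (kd xd5 yd53 zd48) (kd xd11 yd31 zd6) (kd xd9 yd5 zd34) (kd xd5 yd35 zd4) (kd xd5 yd35 zd10) (kd xd15 yd30 zd39) (kd xd4 yd56 zd28) (kd xd5 yd9 zd0) (kd xd17 yd53 zd50) (kd xd4 yd56 zd31) (kd xd8 yd1 zd53) (kd xd8 yd1 zd54) (kd xd12 yd5 zd4) (kd xd17 yd0 zd42) (kd xd4 yd56 zd36) (kd xd15 yd5 zd44) (kd xd9 yd47 zd9) (kd xd11 yd12 zd55) (kd xd11 yd12 zd56) (kd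 xd4 yd56 zd39) (kd xd17 yd2 zd56) (kd xd4 yd56 zd41) (kd xd4 yd56 zd42) (kd xd16 yd26 zd29) (kd xd17 yd53 zd55) (kd xd9 yd53 zd10) (kd xd16 yd17 zd13) (kd xd16 yd17 zd14) (kd xd17 yd54 zd1) (kd xd4 yd56 zd46) (kd xd17 yd54 zd8) (kd xd17 yd54 zd11) (kd xd17 yd54 zd14) (kd xd4 yd56 zd48) (kd xd17 yd54 zd18) (kd xd4 yd56 zd53) (kd xd17 yd54 zd22) (kd xd15 yd10 zd18) (kd xd7 yd56 zd8)) (@D3.rec (fun _ => Pt) (kd xd15 yd9 zd49) (kd xd17 yd54 zd33) (kd xd17 yd54 zd35) (kd xd15 yd10 zd21) (kd xd4 yd56 zd58) (kd xd7 yd55 zd51) (kd xd17 yd54 zd41) (kd xd17 yd54 zd44) (kd xd13 yd26 zd41) (kd xd13 yd13 zd58) (kd xd7 yd12 zd0) (kd xd17 yd54 zd48) (kd xd4 yd57 zd2) (kd xd17 yd54 zd52) (kd xd4 yd57 zd4) (kd xd9 yd1 zd20) (kd xd10 yd31 zd39) (kd xd17 yd54 zd57) (kd xd4 yd57 zd6) (kd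 xd4 yd57 zd7) (kd xd5 yd44 zd42) (kd xd4 yd57 zd12) (kd xd14 yd7 zd58) (kd xd11 yd28 zd30) (kd xd14 yd3 zd4) (kd xd14 yd3 zd5) (kd xd8 yd34 zd22) (kd xd4 yd57 zd11) (kd xd7 yd45 zd53) (kd xd15 yd45 zd51) (kd xd11 yd27 zd28) (kd xd4 yd57 zd15) (kd xd4 yd57 zd16) (kd xd4 yd57 zd17) (kd xd7 yd13 zd23) (kd xd6 yd15 zd25) (kd xd17 yd55 zd10) (kd xd11 yd27 zd35) (kd xd5 yd44 zd43) (kd xd11 yd27 zd30) (kd xd17 yd55 zd21) (kd xd4 yd57 zd22) (kd xd17 yd55 zd25) (kd xd17 yd55 zd27) (kd xd4 yd57 zd23) (kd xd12 yd31 zd57) (kd xd16 yd46 zd6) (kd xd4 yd57 zd28) (kd xd13 yd57 zd34) (kd xd17 yd55 zd30) (kd xd11 yd24 zd26) (kd xd4 yd59 zd20) (kd xd16 yd46 zd13) (kd xd8 yd21 zd25) (kd xd4 yd57 zd31) (kd xd17 yd55 zd36) (kd xd17 yd8 zd31) (kd xd10 yd38 zd38) (kd xd4 yd57 zd34) (kd xd17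 yd55 zd42) (kd xd15 yd44 zd10) (kd xd17 yd55 zd43)) (@D3.rec (fun _ => Pt) (kd xd4 yd57 zd35) (kd xd17 yd55 zd49) (kd xd5 yd43 zd23) (kd xd5 yd43 zd10) (kd xd17 yd55 zd54) (kd xd4 yd57 zd38) (kd xd17 yd55 zd57) (kd xd4 yd57 zd37) (kd xd13 yd57 zd33) (kd xd14 yd50 zd22) (kd xd17 yd56 zd0) (kd xd17 yd56 zd3) (kd xd4 yd57 zd39) (kd xd17 yd56 zd9) (kd xd17 yd56 zd12) (kd xd4 yd57 zd40) (kd xd14 yd46 zd35) (kd xd17 yd34 zd24) (kd xd12 yd49 zd39) (kd xd10 yd49 zd15) (kd xd4 yd57 zd42) (kd xd4 yd57 zd43) (kd xd4 yd57 zd44) (kd xd5 yd47 zd9) (kd xd8 yd14 zd49) (kd xd11 yd43 zd9) (kd xd10 yd48 zd38) (kd xd8 yd21 zd21) (kd xd10 yd48 zd41) (kd xd16 yd3 zd7) (kd xd17 yd56 zd33) (kd xd17 yd56 zd37) (kd xd10 yd6 zd41) (kd xd4 yd57 zd49) (kd xd10 yd18 zd12) (kd xd6 yd23 zd23) (kd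 xd5 yd0 zd8) (kd xd5 yd10 zd44) (kd xd4 yd57 zd52) (kd xd6 yd46 zd52) (kd xd5 yd0 zd17) (kd xd11 yd25 zd23) (kd xd16 yd36 zd12) (kd xd17 yd12 zd43) (kd xd5 yd40 zd50) (kd xd5 yd36 zd25) (kd xd4 yd57 zd58) (kd xd5 yd14 zd35) (kd xd10 yd48 zd45) (kd xd4 yd57 zd59) (kd xd5 yd31 zd52) (kd xd10 yd55 zd37) (kd xd11 yd7 zd0) (kd xd13 yd2 zd30) (kd xd6 yd13 zd29) (kd xd17 yd56 zd56) (kd xd4 yd58 zd0) (kd xd7 yd5 zd40) (kd xd17 yd57 zd2) (kd xd4 yd58 zd1) (kd xd15 yd8 zd33) (kd xd12 yd22 zd35)) (@D3.rec (fun _ => Pt) (kd xd8 yd46 zd29) (kd xd10 yd56 zd57) (kd xd4 yd58 zd3) (kd xd17 yd57 zd15) (kd xd4 yd58 zd4) (kd xd8 yd48 zd45) (kd xd8 yd46 zd37) (kd xd8 yd48 zd44) (kd xd15 yd5 zd52) (kd xd9 yd44 zd39) (kd xd17 yd57 zd32) (kd xd6 yd15 zd8) (kd xd5 yd53 zd17) (kd xd9 yd47 zd16)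 (kd xd16 yd27 zd29) (kd xd8 yd38 zd30) (kd xd9 yd47 zd13) (kd xd15 yd7 zd51) (kd xd6 yd0 zd47) (kd xd9 yd57 zd0) (kd xd4 yd58 zd14) (kd xd11 yd43 zd8) (kd xd4 yd58 zd19) (kd xd6 yd46 zd18) (kd xd17 yd54 zd53) (kd xd17 yd57 zd46) (kd xd7 yd32 zd51) (kd xd13 yd0 zd60) (kd xd4 yd58 zd23) (kd xd14 yd12 zd51) (kd xd4 yd58 zd24) (kd xd12 yd56 zd18) (kd xd4 yd58 zd25) (kd xd6 yd7 zd26) (kd xd6 yd24 zd26) (kd xd17 yd25 zd28) (kd xd4 yd58 zd27) (kd xd5 yd26 zd51) (kd xd11 yd25 zd32) (kd xd10 yd18 zd46) (kd xd17 yd56 zd21) (kd xd17 yd11 zd16) (kd xd17 yd57 zd59) (kd xd6 yd49 zd54) (kd xd6 yd31 zd40) (kd xd11 yd18 zd6) (kd xd4 yd58 zd37) (kd xd17 yd58 zd2) (kd xd4 yd58 zd38) (kd xd17 yd58 zd4) (kd xd8 yd45 zd46) (kd xd8 yd45 zd47) (kd xd4 yd59 zd22) (kd xd4 yd59 zd23) (kd xd12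 yd40 zd45) (kd xd12 yd14 zd0) (kd xd5 yd55 zd42) (kd xd14 yd54 zd32) (kd xd9 yd49 zd39) (kd xd9 yd18 zd11) (kd xd14 yd49 zd61) (kd xd4 yd58 zd45)) (@D3.rec (fun _ => Pt) (kd xd4 yd58 zd46) (kd xd6 yd49 zd43) (kd xd11 yd50 zd0) (kd xd7 yd27 zd14) (kd xd11 yd6 zd38) (kd xd6 yd46 zd28) (kd xd16 yd59 zd6) (kd xd17 yd58 zd23) (kd xd12 yd5 zd37) (kd xd11 yd58 zd43) (kd xd17 yd58 zd24) (kd xd4 yd58 zd55) (kd xd11 yd6 zd47) (kd xd13 yd6 zd33) (kd xd7 yd36 zd33) (kd xd17 yd58 zd29) (kd xd17 yd58 zd31) (kd xd4 yd58 zd58) (kd xd14 yd19 zd61) (kd xd11 yd8 zd21) (kd xd17 yd58 zd34) (kd xd9 yd44 zd17) (kd xd17 yd58 zd35) (kd xd4 yd58 zd60) (kd xd6 yd17 zd9) (kd xd17 yd58 zd40) (kd xd17 yd58 zd41) (kd xd11 yd36 zd20) (kd xd4 yd59 zd0) (kd xd17 yd58 zd42) (kd xd12 yd17 zd19) (kd xd17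 yd58 zd45) (kd xd4 yd59 zd2) (kd xd17 yd58 zd48) (kd xd15 yd48 zd26) (kd xd4 yd59 zd3) (kd xd9 yd50 zd22) (kd xd12 yd17 zd6) (kd xd14 yd53 zd25) (kd xd4 yd59 zd5) (kd xd13 yd43 zd9) (kd xd17 yd54 zd58) (kd xd13 yd43 zd45) (kd xd17 yd58 zd57) (kd xd17 yd58 zd60) (kd xd17 yd59 zd1) (kd xd4 yd59 zd8) (kd xd17 yd59 zd6) (kd xd10 yd18 zd15) (kd xd12 yd10 zd52) (kd xd14 yd6 zd38) (kd xd17 yd59 zd9) (kd xd4 yd59 zd12) (kd xd17 yd59 zd11) (kd xd11 yd28 zd6) (kd xd17 yd59 zd13) (kd xd17 yd59 zd14) (kd xd17 yd59 zd17) (kd xd17 yd59 zd19) (kd xd4 yd59 zd17) (kd xd17 yd59 zd23) (kd xd12 yd31 zd40)) (@D3.rec (fun _ => Pt) (kd xd17 yd59 zd24) (kd xd17 yd59 zd25) (kd xd4 yd59 zd19) (kd xd17 yd59 zd26) (kd xd17 yd59 zd28) (kd xd4 yd59 zd21) (kd xd17 yd59 zd33) (kd xd17 yd13 zd2) (kd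 xd10 yd10 zd24) (kd xd14 yd15 zd55) (kd xd17 yd59 zd36) (kd xd5 yd56 zd12) (kd xd15 yd2 zd32) (kd xd5 yd57 zd55) (kd xd5 yd50 zd40) (kd xd12 yd55 zd34) (kd xd17 yd51 zd20) (kd xd17 yd51 zd21) (kd xd4 yd59 zd26) (kd xd17 yd59 zd47) (kd xd17 yd59 zd48) (kd xd4 yd59 zd27) (kd xd17 yd59 zd51) (kd xd17 yd59 zd54) (kd xd4 yd59 zd29) (kd xd13 yd1 zd32) (kd xd17 yd59 zd58) (kd xd17 yd59 zd59) (kd xd5 yd50 zd27) (kd xd17 yd13 zd0) (kd xd12 yd23 zd11) (kd xd4 yd59 zd33) (kd xd17 yd0 zd2) (kd xd17 yd0 zd0) (kd xd18 yd0 zd3) (kd xd18 yd0 zd6) (kd xd4 yd59 zd35) (kd xd18 yd0 zd9) (kd xd18 yd0 zd11) (kd xd9 yd47 zd58) (kd xd4 yd59 zd38) (kd xd16 yd54 zd17) (kd xd6 yd16 zd44) (kd xd11 yd28 zd7) (kd xd4 yd59 zd39) (kd xd18 yd0 zd19) (kd xd18 yd0 zd23) (kd xd4 yd59 zd41) (kd xd18 yd0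 zd28) (kd xd8 yd46 zd26) (kd xd13 yd27 zd38) (kd xd14 yd59 zd44) (kd xd7 yd31 zd29) (kd xd12 yd3 zd5) (kd xd4 yd59 zd44) (kd xd12 yd3 zd12) (kd xd5 yd57 zd57) (kd xd17 yd7 zd24) (kd xd5 yd58 zd51) (kd xd14 yd3 zd8) (kd xd15 yd25 zd39) (kd xd14 yd48 zd37)) (@D3.rec (fun _ => Pt) (kd xd4 yd59 zd47) (kd xd18 yd0 zd44) (kd xd18 yd0 zd48) (kd xd17 yd52 zd30) (kd xd4 yd59 zd49) (kd xd18 yd0 zd55) (kd xd18 yd0 zd58) (kd xd4 yd59 zd50) (kd xd18 yd1 zd1) (kd xd18 yd1 zd4) (kd xd18 yd1 zd8) (kd xd4 yd59 zd52) (kd xd5 yd18 zd40) (kd xd18 yd1 zd11) (kd xd4 yd59 zd53) (kd xd17 yd55 zd61) (kd xd4 yd59 zd54) (kd xd7 yd27 zd21) (kd xd18 yd1 zd22) (kd xd18 yd1 zd23) (kd xd4 yd59 zd55) (kd xd18 yd1 zd28) (kd xd9 yd48 zd36) (kd xd11 yd31 zd59) (kd xd6 yd47 zd39) (kd xd7 yd27 zd22) (kd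 xd18 yd1 zd30) (kd xd11 yd27 zd32) (kd xd4 yd59 zd58) (kd xd4 yd59 zd59) (kd xd18 yd1 zd36) (kd xd4 yd59 zd61) (kd xd18 yd1 zd37) (kd xd5 yd0 zd0) (kd xd18 yd1 zd40) (kd xd6 yd5 zd53) (kd xd5 yd0 zd1) (kd xd10 yd57 zd4) (kd xd10 yd18 zd55) (kd xd10 yd18 zd58) (kd xd18 yd1 zd43) (kd xd5 yd0 zd3) (kd xd17 yd59 zd4) (kd xd12 yd11 zd4) (kd xd18 yd1 zd48) (kd xd10 yd18 zd17) (kd xd18 yd1 zd54) (kd xd15 yd4 zd13) (kd xd18 yd1 zd60) (kd xd18 yd2 zd1) (kd xd18 yd2 zd5) (kd xd5 yd0 zd7) (kd xd5 yd0 zd9) (kd xd5 yd14 zd41) (kd xd5 yd0 zd15) (kd xd10 yd48 zd37) (kd xd11 yd31 zd30) (kd xd5 yd5 zd33) (kd xd5 yd14 zd40) (kd xd6 yd30 zd23) (kd xd18 yd2 zd8) (kd xd5 yd0 zd18)) (@D3.rec (fun _ => Pt) (kd xd18 yd2 zd10) (kd xd9 yd6 zd34) (kd xd18 yd2 zd14) (kd xd12 yd44 zd17) (kd xd10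 yd17 zd25) (kd xd5 yd50 zd17) (kd xd18 yd2 zd15) (kd xd5 yd0 zd23) (kd xd18 yd2 zd18) (kd xd10 yd7 zd16) (kd xd10 yd2 zd42) (kd xd18 yd2 zd20) (kd xd5 yd38 zd5) (kd xd12 yd58 zd8) (kd xd11 yd59 zd28) (kd xd18 yd2 zd24) (kd xd18 yd2 zd27) (kd xd18 yd2 zd29) (kd xd5 yd0 zd27) (kd xd18 yd2 zd16) (kd xd8 yd51 zd43) (kd xd9 yd14 zd11) (kd xd5 yd53 zd39) (kd xd6 yd15 zd13) (kd xd12 yd5 zd16) (kd xd9 yd10 zd27) (kd xd15 yd8 zd51) (kd xd10 yd9 zd55) (kd xd10 yd19 zd29) (kd xd18 yd2 zd42) (kd xd5 yd0 zd37) (kd xd15 yd44 zd45) (kd xd18 yd2 zd47) (kd xd5 yd0 zd38) (kd xd18 yd2 zd50) (kd xd16 yd27 zd54) (kd xd16 yd27 zd49) (kd xd16 yd10 zd58) (kd xd5 yd0 zd39) (kd xd5 yd20 zd25) (kd xd5 yd23 zd24) (kd xd8 yd37 zd61) (kd xd18 yd3 zd2) (kd xd5 yd0 zd41) (kd xd5 yd0 zd42) (kd xd18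 yd3 zd5) (kd xd18 yd3 zd7) (kd xd18 yd3 zd8) (kd xd18 yd3 zd10) (kd xd5 yd0 zd43) (kd xd5 yd22 zd28) (kd xd8 yd38 zd46) (kd xd9 yd54 zd2) (kd xd9 yd53 zd30) (kd xd18 yd3 zd23) (kd xd5 yd0 zd46) (kd xd18 yd3 zd27) (kd xd5 yd0 zd47) (kd xd16 yd8 zd32) (kd xd18 yd3 zd32) (kd xd5 yd0 zd49) (kd xd18 yd3 zd37)) (@D3.rec (fun _ => Pt) (kd xd11 yd2 zd44) (kd xd5 yd35 zd37) (kd xd18 yd3 zd44) (kd xd5 yd0 zd51) (kd xd18 yd3 zd47) (kd xd18 yd3 zd52) (kd xd5 yd0 zd52) (kd xd16 yd20 zd27) (kd xd16 yd18 zd43) (kd xd18 yd4 zd1) (kd xd18 yd4 zd3) (kd xd5 yd0 zd53) (kd xd9 yd54 zd37) (kd xd5 yd15 zd12) (kd xd8 yd5 zd41) (kd xd8 yd4 zd34) (kd xd18 yd4 zd14) (kd xd8 yd16 zd16) (kd xd8 yd11 zd18) (kd xd10 yd40 zd39) (kd xd10 yd25 zd49) (kd xd18 yd4 zd22) (kd xd5 yd0 zd60) (kd xd18 yd4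 zd23) (kd xd8 yd36 zd29) (kd xd15 yd15 zd3) (kd xd16 yd1 zd35) (kd xd9 yd54 zd33) (kd xd9 yd35 zd43) (kd xd8 yd40 zd24) (kd xd18 yd4 zd34) (kd xd5 yd1 zd3) (kd xd18 yd4 zd39) (kd xd9 yd43 zd33) (kd xd11 yd4 zd23) (kd xd8 yd9 zd43) (kd xd18 yd4 zd47) (kd xd5 yd1 zd5) (kd xd18 yd4 zd50) (kd xd17 yd42 zd60) (kd xd5 yd1 zd7) (kd xd18 yd4 zd54) (kd xd9 yd34 zd4) (kd xd5 yd1 zd8) (kd xd17 yd41 zd21) (kd xd18 yd4 zd58) (kd xd18 yd5 zd0) (kd xd18 yd5 zd2) (kd xd5 yd1 zd9) (kd xd12 yd20 zd13) (kd xd5 yd1 zd33) (kd xd14 yd57 zd26) (kd xd14 yd58 zd19) (kd xd5 yd1 zd11) (kd xd9 yd35 zd38) (kd xd14 yd57 zd12) (kd xd10 yd7 zd53) (kd xd8 yd54 zd54) (kd xd9 yd33 zd17) (kd xd10 yd40 zd40) (kd xd7 yd58 zd10) (kd xd5 yd1 zd18)) (@D3.rec (fun _ => Pt) (kd xd15 yd23 zd11) (kd xd9 yd54 zd35)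 (kd xd18 yd5 zd20) (kd xd5 yd1 zd22) (kd xd18 yd5 zd22) (kd xd18 yd5 zd24) (kd xd18 yd5 zd26) (kd xd5 yd1 zd24) (kd xd16 yd8 zd27) (kd xd7 yd55 zd56) (kd xd9 yd44 zd48) (kd xd17 yd44 zd13) (kd xd6 yd7 zd16) (kd xd10 yd8 zd35) (kd xd16 yd22 zd10) (kd xd15 yd19 zd35) (kd xd18 yd5 zd45) (kd xd5 yd1 zd30) (kd xd13 yd44 zd45) (kd xd5 yd1 zd31) (kd xd18 yd5 zd50) (kd xd18 yd5 zd51) (kd xd10 yd24 zd12) (kd xd11 yd59 zd48) (kd xd18 yd5 zd55) (kd xd18 yd5 zd4) (kd xd18 yd5 zd5) (kd xd12 yd35 zd35) (kd xd5 yd1 zd34) (kd xd18 yd6 zd4) (kd xd9 yd51 zd53) (kd xd8 yd6 zd48) (kd xd18 yd6 zd7) (kd xd18 yd6 zd10) (kd xd18 yd6 zd12) (kd xd5 yd1 zd36) (kd xd18 yd6 zd17) (kd xd16 yd20 zd5) (kd xd5 yd1 zd37) (kd xd16 yd20 zd6) (kd xd5 yd1 zd38) (kd xd10 yd8 zd9) (kd xd9 yd37 zd55) (kd xd9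 yd37 zd56) (kd xd16 yd7 zd54) (kd xd18 yd5 zd27) (kd xd18 yd5 zd28) (kd xd18 yd6 zd25) (kd xd5 yd1 zd41) (kd xd9 yd53 zd54) (kd xd18 yd6 zd31) (kd xd18 yd6 zd34) (kd xd18 yd6 zd36) (kd xd5 yd1 zd43) (kd xd9 yd53 zd49) (kd xd18 yd6 zd38) (kd xd10 yd11 zd30) (kd xd18 yd6 zd41) (kd xd18 yd6 zd44) (kd xd18 yd6 zd48) (kd xd18 yd6 zd50) (kd xd18 yd6 zd53)) (@D3.rec (fun _ => Pt) (kd xd5 yd1 zd47) (kd xd18 yd6 zd58) (kd xd9 yd51 zd52) (kd xd5 yd9 zd46) (kd xd18 yd7 zd4) (kd xd5 yd1 zd49) (kd xd18 yd7 zd9) (kd xd18 yd7 zd12) (kd xd18 yd7 zd15) (kd xd18 yd7 zd17) (kd xd5 yd1 zd50) (kd xd18 yd7 zd24) (kd xd18 yd7 zd27) (kd xd5 yd1 zd52) (kd xd16 yd20 zd31) (kd xd18 yd7 zd29) (kd xd18 yd7 zd32) (kd xd17 yd43 zd3) (kd xd9 yd30 zd39) (kd xd5 yd1 zd53) (kd xd12 yd19 zd57) (kd xd18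 yd7 zd41) (kd xd16 yd18 zd24) (kd xd17 yd34 zd20) (kd xd5 yd1 zd54) (kd xd18 yd7 zd50) (kd xd5 yd1 zd55) (kd xd18 yd4 zd44) (kd xd18 yd4 zd45) (kd xd15 yd29 zd50) (kd xd10 yd9 zd17) (kd xd5 yd1 zd57) (kd xd18 yd8 zd8) (kd xd9 yd52 zd27) (kd xd9 yd37 zd46) (kd xd9 yd53 zd1) (kd xd18 yd8 zd19) (kd xd9 yd52 zd12) (kd xd18 yd8 zd26) (kd xd18 yd8 zd30) (kd xd18 yd8 zd33) (kd xd10 yd9 zd25) (kd xd18 yd8 zd38) (kd xd18 yd8 zd40) (kd xd18 yd8 zd43) (kd xd5 yd2 zd1) (kd xd18 yd8 zd46) (kd xd18 yd8 zd49) (kd xd5 yd2 zd2) (kd xd8 yd27 zd55) (kd xd5 yd2 zd3) (kd xd18 yd8 zd55) (kd xd5 yd2 zd4) (kd xd18 yd8 zd59) (kd xd18 yd9 zd0) (kd xd11 yd6 zd7) (kd xd11 yd5 zd3) (kd xd10 yd20 zd55) (kd xd9 yd56 zd0) (kd xd5 yd2 zd7) (kd xd18 yd9 zd9) (kd xd15 yd24 zd44)) (@D3.rec (fun _ => Pt)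 (kd xd9 yd40 zd46) (kd xd17 yd41 zd38) (kd xd5 yd2 zd9) (kd xd18 yd9 zd15) (kd xd5 yd10 zd8) (kd xd5 yd2 zd10) (kd xd18 yd9 zd19) (kd xd18 yd9 zd23) (kd xd18 yd9 zd26) (kd xd18 yd9 zd28) (kd xd5 yd2 zd11) (kd xd18 yd9 zd36) (kd xd18 yd9 zd39) (kd xd18 yd9 zd42) (kd xd18 yd9 zd44) (kd xd5 yd2 zd13) (kd xd18 yd9 zd49) (kd xd14 yd58 zd12) (kd xd18 yd9 zd52) (kd xd9 yd34 zd7) (kd xd18 yd9 zd55) (kd xd10 yd10 zd17) (kd xd13 yd26 zd28) (kd xd5 yd2 zd17) (kd xd18 yd9 zd61) (kd xd15 yd53 zd43) (kd xd15 yd53 zd26) (kd xd5 yd8 zd17) (kd xd5 yd8 zd18) (kd xd17 yd59 zd35) (kd xd5 yd2 zd19) (kd xd17 yd30 zd5) (kd xd14 yd15 zd54) (kd xd17 yd56 zd42) (kd xd16 yd49 zd41) (kd xd5 yd2 zd21) (kd xd9 yd59 zd12) (kd xd9 yd42 zd22) (kd xd17 yd15 zd61) (kd xd11 yd11 zd2) (kd xd5 yd4 zd33)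 (kd xd5 yd4 zd34) (kd xd9 yd59 zd51) (kd xd5 yd2 zd25) (kd xd18 yd10 zd22) (kd xd5 yd2 zd27) (kd xd9 yd7 zd56) (kd xd9 yd7 zd57) (kd xd12 yd38 zd43) (kd xd9 yd24 zd41) (kd xd5 yd2 zd28) (kd xd16 yd30 zd33) (kd xd16 yd30 zd32) (kd xd5 yd2 zd30) (kd xd9 yd58 zd2) (kd xd5 yd18 zd50) (kd xd5 yd18 zd51) (kd xd10 yd27 zd3) (kd xd18 yd10 zd38) (kd xd5 yd2 zd31) (kd xd10 yd49 zd5) (kd xd17 yd22 zd55)) (@D3.rec (fun _ => Pt) (kd xd9 yd54 zd58) (kd xd5 yd2 zd33) (kd xd13 yd38 zd41) (kd xd12 yd41 zd11) (kd xd18 yd10 zd50) (kd xd5 yd2 zd34) (kd xd18 yd10 zd53) (kd xd17 yd13 zd13) (kd xd5 yd3 zd24) (kd xd5 yd3 zd25) (kd xd9 yd38 zd48) (kd xd8 yd36 zd23) (kd xd8 yd36 zd24) (kd xd6 yd27 zd19) (kd xd6 yd42 zd56) (kd xd6 yd17 zd57) (kd xd6 yd24 zd0) (kd xd6 yd26 zd21) (kd xd12 yd28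 zd45) (kd xd9 yd38 zd27) (kd xd6 yd22 zd42) (kd xd6 yd26 zd20) (kd xd6 yd41 zd0) (kd xd18 yd11 zd17) (kd xd5 yd2 zd46) (kd xd18 yd11 zd20) (kd xd18 yd11 zd24) (kd xd5 yd2 zd48) (kd xd18 yd11 zd27) (kd xd18 yd11 zd31) (kd xd5 yd2 zd51) (kd xd18 yd11 zd34) (kd xd18 yd11 zd38) (kd xd5 yd2 zd53) (kd xd18 yd11 zd43) (kd xd18 yd11 zd46) (kd xd8 yd11 zd23) (kd xd18 yd11 zd50) (kd xd5 yd2 zd55) (kd xd18 yd11 zd53) (kd xd18 yd11 zd57) (kd xd5 yd2 zd56) (kd xd18 yd11 zd60) (kd xd18 yd12 zd2) (kd xd18 yd12 zd5) (kd xd18 yd12 zd7) (kd xd5 yd2 zd57) (kd xd18 yd12 zd14) (kd xd18 yd12 zd18) (kd xd18 yd12 zd21) (kd xd5 yd2 zd59) (kd xd18 yd12 zd25) (kd xd9 yd42 zd5) (kd xd18 yd12 zd27) (kd xd17 yd46 zd12) (kd xd17 yd51 zd0) (kd xd16 yd6 zd52) (kd xd5 yd3 zd3) (kd xd6 yd40 zd56) (kd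 xd18 yd12 zd39) (kd xd5 yd3 zd4) (kd xd18 yd12 zd41)) (@D3.rec (fun _ => Pt) (kd xd9 yd47 zd19) (kd xd18 yd12 zd45) (kd xd5 yd3 zd5) (kd xd11 yd45 zd59) (kd xd5 yd3 zd6) (kd xd18 yd12 zd51) (kd xd5 yd3 zd51) (kd xd5 yd3 zd52) (kd xd12 yd31 zd15) (kd xd18 yd12 zd56) (kd xd18 yd12 zd59) (kd xd5 yd3 zd8) (kd xd9 yd43 zd3) (kd xd12 yd18 zd26) (kd xd5 yd52 zd33) (kd xd5 yd3 zd9) (kd xd12 yd15 zd25) (kd xd17 yd49 zd3) (kd xd5 yd3 zd10) (kd xd9 yd41 zd54) (kd xd5 yd3 zd13) (kd xd10 yd8 zd48) (kd xd10 yd30 zd21) (kd xd18 yd13 zd7) (kd xd18 yd9 zd30) (kd xd18 yd9 zd31) (kd xd18 yd13 zd11) (kd xd5 yd3 zd18) (kd xd18 yd13 zd19) (kd xd5 yd10 zd7) (kd xd18 yd13 zd23) (kd xd18 yd13 zd26) (kd xd18 yd13 zd28) (kd xd5 yd3 zd20) (kd xd18 yd13 zd33) (kd xd18 yd13 zd34) (kd xd18 yd13 zd36)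 (kd xd5 yd3 zd21) (kd xd6 yd21 zd1) (kd xd15 yd52 zd29) (kd xd18 yd13 zd42) (kd xd5 yd3 zd22) (kd xd15 yd24 zd42) (kd xd18 yd10 zd55) (kd xd9 yd40 zd28) (kd xd12 yd28 zd22) (kd xd12 yd2 zd59) (kd xd9 yd40 zd26) (kd xd5 yd3 zd26) (kd xd18 yd13 zd53) (kd xd5 yd10 zd16) (kd xd5 yd10 zd17) (kd xd18 yd13 zd59) (kd xd18 yd14 zd0) (kd xd5 yd3 zd28) (kd xd18 yd14 zd5) (kd xd5 yd5 zd39) (kd xd10 yd55 zd54) (kd xd5 yd5 zd32) (kd xd16 yd57 zd34) (kd xd5 yd3 zd31) (kd xd11 yd21 zd60)) (@D3.rec (fun _ => Pt) (kd xd5 yd3 zd32) (kd xd5 yd3 zd33) (kd xd9 yd55 zd54) (kd xd11 yd56 zd47) (kd xd5 yd3 zd35) (kd xd18 yd14 zd11) (kd xd5 yd3 zd36) (kd xd18 yd14 zd13) (kd xd5 yd3 zd37) (kd xd11 yd58 zd26) (kd xd17 yd30 zd9) (kd xd5 yd3 zd39) (kd xd6 yd45 zd58) (kd xd18 yd14 zd21) (kd xd5 yd3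 zd42) (kd xd18 yd14 zd25) (kd xd6 yd21 zd2) (kd xd8 yd24 zd8) (kd xd10 yd34 zd52) (kd xd18 yd14 zd32) (kd xd18 yd12 zd9) (kd xd18 yd12 zd10) (kd xd18 yd14 zd36) (kd xd5 yd3 zd45) (kd xd18 yd14 zd44) (kd xd5 yd9 zd38) (kd xd5 yd9 zd39) (kd xd18 yd14 zd51) (kd xd18 yd9 zd46) (kd xd18 yd9 zd47) (kd xd5 yd3 zd47) (kd xd18 yd14 zd59) (kd xd9 yd38 zd61) (kd xd18 yd15 zd1) (kd xd15 yd24 zd43) (kd xd9 yd39 zd2) (kd xd18 yd15 zd4) (kd xd7 yd31 zd25) (kd xd18 yd15 zd7) (kd xd12 yd34 zd60) (kd xd18 yd15 zd9) (kd xd12 yd28 zd17) (kd xd5 yd3 zd53) (kd xd12 yd23 zd61) (kd xd5 yd9 zd54) (kd xd5 yd9 zd55) (kd xd6 yd50 zd50) (kd xd8 yd25 zd39) (kd xd17 yd13 zd12) (kd xd16 yd6 zd33) (kd xd17 yd13 zd11) (kd xd9 yd43 zd2) (kd xd12 yd27 zd38) (kd xd6 yd25 zd46) (kd xd10 yd17 zd0) (kd xd12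 yd30 zd44) (kd xd9 yd20 zd36) (kd xd12 yd1 zd18) (kd xd12 yd38 zd10) (kd xd6 yd40 zd11) (kd xd12 yd46 zd31) (kd xd12 yd46 zd32)) (@D3.rec (fun _ => Pt) (kd xd18 yd15 zd27) (kd xd14 yd45 zd15) (kd xd5 yd4 zd6) (kd xd13 yd38 zd39) (kd xd5 yd9 zd53) (kd xd17 yd52 zd57) (kd xd5 yd9 zd48) (kd xd18 yd15 zd31) (kd xd18 yd15 zd33) (kd xd18 yd15 zd35) (kd xd5 yd4 zd9) (kd xd5 yd9 zd49) (kd xd9 yd55 zd36) (kd xd15 yd30 zd38) (kd xd5 yd4 zd11) (kd xd18 yd15 zd40) (kd xd16 yd23 zd18) (kd xd5 yd4 zd12) (kd xd14 yd11 zd57) (kd xd18 yd15 zd45) (kd xd12 yd1 zd20) (kd xd18 yd15 zd47) (kd xd18 yd15 zd50) (kd xd18 yd15 zd53) (kd xd9 yd39 zd32) (kd xd5 yd4 zd15) (kd xd18 yd15 zd58) (kd xd5 yd12 zd16) (kd xd5 yd12 zd17) (kd xd6 yd47 zd45) (kd xd17 yd42 zd40) (kd xd18 yd16 zd7) (kd xd5 yd4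 zd17) (kd xd12 yd18 zd57) (kd xd18 yd16 zd8) (kd xd6 yd39 zd25) (kd xd16 yd18 zd52) (kd xd5 yd4 zd22) (kd xd18 yd16 zd12) (kd xd18 yd16 zd13) (kd xd18 yd16 zd14) (kd xd18 yd16 zd17) (kd xd5 yd4 zd23) (kd xd18 yd16 zd22) (kd xd12 yd44 zd37) (kd xd18 yd16 zd26) (kd xd18 yd16 zd28) (kd xd18 yd16 zd31) (kd xd5 yd4 zd24) (kd xd12 yd20 zd1) (kd xd18 yd16 zd36) (kd xd9 yd55 zd42) (kd xd18 yd16 zd42) (kd xd5 yd4 zd27) (kd xd17 yd30 zd7) (kd xd5 yd4 zd26) (kd xd11 yd14 zd32) (kd xd12 yd18 zd55) (kd xd12 yd2 zd16) (kd xd18 yd16 zd46) (kd xd18 yd16 zd49) (kd xd5 yd4 zd28))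
def f_d_10 : D2 → D3 → Pt := @D2.rec (fun _ => D3 → Pt) (@D3.rec (fun _ => Pt) (kd xd12 yd27 zd24) (kd xd9 yd38 zd34) (kd xd5 yd4 zd29) (kd xd18 yd16 zd58) (kd xd18 yd16 zd61) (kd xd12 yd24 zd33) (kd xd5 yd4 zd31) (kd xd12 yd18 zd56) (kd xd6 yd7 zd5) (kd xd10 yd14 zd3) (kd xd17 yd51 zd24) (kd xd17 yd34 zd22) (kd xd12 yd26 zd56) (kd xd11 yd56 zd3) (kd xd17 yd51 zd18) (kd xd6 yd6 zd30) (kd xd6 yd6 zd31) (kd xd18 yd17 zd11) (kd xd18 yd17 zd12) (kd xd10 yd14 zd15) (kd xd18 yd17 zd14) (kd xd18 yd17 zd18) (kd xd5 yd4 zd37) (kd xd6 yd27 zd14) (kd xd6 yd22 zd10) (kd xd6 yd12 zd57) (kd xd18 yd17 zd23) (kd xd17 yd53 zd39) (kd xd12 yd17 zd20) (kd xd6 yd3 zd37) (kd xd11 yd31 zd28) (kd xd5 yd4 zd41) (kd xd18 yd17 zd29) (kd xd6 yd18 zd10) (kd xd5 yd4 zd42) (kd xd12 yd46 zd38) (kd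 xd12 yd28 zd47) (kd xd18 yd17 zd35) (kd xd5 yd4 zd46) (kd xd12 yd15 zd30) (kd xd6 yd28 zd13) (kd xd15 yd25 zd17) (kd xd8 yd52 zd0) (kd xd15 yd25 zd16) (kd xd15 yd25 zd49) (kd xd18 yd17 zd47) (kd xd10 yd1 zd13) (kd xd11 yd52 zd42) (kd xd8 yd8 zd39) (kd xd18 yd17 zd55) (kd xd5 yd4 zd53) (kd xd17 yd39 zd37) (kd xd16 yd21 zd58) (kd xd15 yd14 zd43) (kd xd8 yd3 zd22) (kd xd7 yd55 zd44) (kd xd18 yd18 zd4) (kd xd5 yd4 zd56) (kd xd18 yd18 zd7) (kd xd18 yd18 zd11) (kd xd5 yd4 zd58) (kd xd18 yd18 zd14)) (@D3.rec (fun _ => Pt) (kd xd18 yd18 zd19) (kd xd5 yd4 zd59) (kd xd18 yd18 zd21) (kd xd18 yd18 zd24) (kd xd18 yd18 zd26) (kd xd5 yd4 zd60) (kd xd18 yd18 zd32) (kd xd18 yd18 zd36) (kd xd12 yd5 zd51) (kd xd18 yd18 zd39) (kd xd5 yd5 zd0) (kd xd18 yd18 zd42) (kd xd13 yd57 zd48) (kd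 xd10 yd0 zd46) (kd xd14 yd50 zd27) (kd xd15 yd18 zd16) (kd xd12 yd6 zd2) (kd xd8 yd38 zd60) (kd xd5 yd5 zd5) (kd xd11 yd23 zd45) (kd xd5 yd5 zd7) (kd xd8 yd51 zd45) (kd xd13 yd47 zd34) (kd xd13 yd47 zd33) (kd xd7 yd17 zd32) (kd xd5 yd5 zd9) (kd xd11 yd23 zd29) (kd xd18 yd19 zd2) (kd xd5 yd5 zd11) (kd xd8 yd50 zd22) (kd xd5 yd5 zd12) (kd xd18 yd19 zd8) (kd xd11 yd6 zd12) (kd xd8 yd38 zd48) (kd xd18 yd19 zd19) (kd xd18 yd19 zd23) (kd xd18 yd19 zd25) (kd xd11 yd6 zd16) (kd xd8 yd15 zd40) (kd xd17 yd34 zd45) (kd xd5 yd5 zd18) (kd xd18 yd19 zd35) (kd xd10 yd31 zd41) (kd xd10 yd34 zd13) (kd xd10 yd28 zd41) (kd xd18 yd19 zd42) (kd xd5 yd5 zd20) (kd xd18 yd19 zd46) (kd xd18 yd19 zd49) (kd xd5 yd5 zd22) (kd xd18 yd19 zd50) (kd xd16 yd24 zd10) (kd xd5 yd5 zd23) (kd xd18 yd19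 zd54) (kd xd12 yd47 zd12) (kd xd12 yd29 zd3) (kd xd12 yd38 zd18) (kd xd13 yd52 zd8) (kd xd5 yd16 zd17) (kd xd18 yd20 zd0) (kd xd18 yd20 zd2) (kd xd18 yd20 zd4)) (@D3.rec (fun _ => Pt) (kd xd5 yd5 zd26) (kd xd18 yd20 zd9) (kd xd15 yd56 zd46) (kd xd18 yd20 zd12) (kd xd11 yd11 zd47) (kd xd10 yd15 zd4) (kd xd18 yd20 zd17) (kd xd5 yd5 zd30) (kd xd18 yd20 zd21) (kd xd10 yd53 zd38) (kd xd10 yd54 zd27) (kd xd6 yd5 zd52) (kd xd5 yd55 zd24) (kd xd5 yd55 zd25) (kd xd18 yd0 zd12) (kd xd17 yd12 zd56) (kd xd17 yd56 zd43) (kd xd16 yd49 zd44) (kd xd10 yd12 zd9) (kd xd8 yd54 zd33) (kd xd10 yd21 zd27) (kd xd17 yd21 zd53) (kd xd5 yd16 zd46) (kd xd10 yd22 zd47) (kd xd12 yd24 zd10) (kd xd16 yd32 zd12) (kd xd12 yd34 zd38) (kd xd12 yd41 zd55) (kd xd18 yd20 zd45) (kd xd9 yd41 zd22) (kd xd18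 yd20 zd50) (kd xd12 yd59 zd22) (kd xd18 yd20 zd56) (kd xd5 yd5 zd43) (kd xd12 yd24 zd25) (kd xd18 yd20 zd59) (kd xd7 yd11 zd44) (kd xd7 yd32 zd33) (kd xd10 yd15 zd22) (kd xd12 yd16 zd0) (kd xd12 yd14 zd55) (kd xd10 yd49 zd6) (kd xd9 yd51 zd10) (kd xd14 yd15 zd56) (kd xd16 yd51 zd28) (kd xd8 yd49 zd24) (kd xd17 yd8 zd36) (kd xd9 yd14 zd25) (kd xd15 yd26 zd58) (kd xd18 yd21 zd6) (kd xd11 yd23 zd60) (kd xd5 yd5 zd57) (kd xd11 yd38 zd0) (kd xd18 yd21 zd9) (kd xd9 yd12 zd41) (kd xd17 yd25 zd29) (kd xd5 yd5 zd60) (kd xd18 yd21 zd20) (kd xd18 yd21 zd24) (kd xd18 yd21 zd26) (kd xd11 yd6 zd24) (kd xd18 yd21 zd29)) (@D3.rec (fun _ => Pt) (kd xd11 yd31 zd38) (kd xd5 yd6 zd0) (kd xd6 yd3 zd2) (kd xd11 yd22 zd40) (kd xd9 yd14 zd43) (kd xd11 yd22 zd46) (kd xd5 yd6 zd4) (kd xd6 yd4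 zd47) (kd xd18 yd21 zd41) (kd xd5 yd6 zd6) (kd xd18 yd21 zd44) (kd xd10 yd37 zd2) (kd xd6 yd4 zd55) (kd xd10 yd14 zd54) (kd xd5 yd6 zd8) (kd xd8 yd43 zd48) (kd xd5 yd6 zd9) (kd xd13 yd40 zd47) (kd xd18 yd21 zd46) (kd xd10 yd14 zd50) (kd xd18 yd21 zd52) (kd xd5 yd6 zd10) (kd xd18 yd21 zd57) (kd xd18 yd21 zd60) (kd xd18 yd22 zd1) (kd xd5 yd6 zd12) (kd xd18 yd22 zd5) (kd xd8 yd54 zd13) (kd xd18 yd22 zd7) (kd xd16 yd35 zd5) (kd xd10 yd29 zd53) (kd xd8 yd54 zd49) (kd xd11 yd52 zd36) (kd xd11 yd53 zd42) (kd xd5 yd6 zd16) (kd xd18 yd22 zd16) (kd xd14 yd58 zd34) (kd xd5 yd6 zd17) (kd xd10 yd36 zd26) (kd xd12 yd22 zd11) (kd xd13 yd30 zd48) (kd xd5 yd6 zd18) (kd xd7 yd19 zd11) (kd xd15 yd8 zd57) (kd xd18 yd22 zd22) (kd xd15 yd8 zd56) (kd xd5 yd30 zd11) (kd xd8 yd6 zd13) (kd xd10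 yd30 zd56) (kd xd10 yd25 zd27) (kd xd10 yd25 zd42) (kd xd10 yd58 zd39) (kd xd9 yd15 zd14) (kd xd5 yd37 zd24) (kd xd11 yd20 zd35) (kd xd5 yd6 zd57) (kd xd5 yd59 zd20) (kd xd18 yd22 zd32) (kd xd9 yd20 zd25) (kd xd5 yd6 zd36) (kd xd10 yd17 zd52) (kd xd9 yd29 zd1)) (@D3.rec (fun _ => Pt) (kd xd5 yd6 zd37) (kd xd12 yd10 zd43) (kd xd9 yd17 zd59) (kd xd5 yd25 zd61) (kd xd15 yd45 zd33) (kd xd11 yd1 zd45) (kd xd9 yd17 zd61) (kd xd5 yd12 zd58) (kd xd5 yd12 zd59) (kd xd17 yd25 zd30) (kd xd12 yd8 zd28) (kd xd5 yd12 zd41) (kd xd12 yd6 zd48) (kd xd5 yd12 zd39) (kd xd12 yd5 zd13) (kd xd5 yd8 zd55) (kd xd5 yd12 zd43) (kd xd8 yd7 zd44) (kd xd14 yd48 zd2) (kd xd14 yd45 zd17) (kd xd12 yd8 zd30) (kd xd18 yd23 zd7) (kd xd5 yd6 zd49) (kd xd18 yd23 zd11) (kd xd16 yd56 zd47) (kd xd16 yd47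 zd48) (kd xd15 yd5 zd42) (kd xd18 yd23 zd16) (kd xd11 yd14 zd48) (kd xd11 yd59 zd20) (kd xd5 yd12 zd26) (kd xd18 yd23 zd18) (kd xd6 yd3 zd42) (kd xd11 yd50 zd51) (kd xd6 yd3 zd47) (kd xd5 yd45 zd42) (kd xd5 yd50 zd46) (kd xd10 yd45 zd39) (kd xd18 yd23 zd23) (kd xd17 yd9 zd50) (kd xd18 yd22 zd37) (kd xd10 yd17 zd18) (kd xd5 yd42 zd5) (kd xd5 yd7 zd1) (kd xd8 yd14 zd48) (kd xd7 yd27 zd28) (kd xd18 yd23 zd26) (kd xd17 yd56 zd23) (kd xd6 yd12 zd18) (kd xd18 yd23 zd30) (kd xd11 yd22 zd13) (kd xd10 yd52 zd42) (kd xd9 yd14 zd6) (kd xd11 yd27 zd54) (kd xd11 yd12 zd14) (kd xd18 yd23 zd35) (kd xd11 yd51 zd55) (kd xd11 yd31 zd33) (kd xd11 yd51 zd58) (kd xd11 yd22 zd12) (kd xd5 yd47 zd39) (kd xd5 yd7 zd12)) (@D3.rec (fun _ => Pt) (kd xd5 yd7 zd13) (kd xd18 yd23 zd41) (kd xd10 yd49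 zd52) (kd xd5 yd7 zd15) (kd xd11 yd13 zd47) (kd xd5 yd7 zd18) (kd xd6 yd7 zd32) (kd xd18 yd23 zd51) (kd xd11 yd34 zd38) (kd xd5 yd47 zd57) (kd xd18 yd23 zd56) (kd xd11 yd22 zd9) (kd xd5 yd7 zd22) (kd xd5 yd7 zd23) (kd xd18 yd23 zd58) (kd xd11 yd35 zd48) (kd xd11 yd29 zd21) (kd xd5 yd37 zd34) (kd xd10 yd18 zd51) (kd xd18 yd24 zd0) (kd xd5 yd7 zd29) (kd xd12 yd24 zd43) (kd xd5 yd48 zd47) (kd xd5 yd7 zd31) (kd xd18 yd24 zd4) (kd xd5 yd7 zd32) (kd xd16 yd15 zd29) (kd xd18 yd24 zd8) (kd xd5 yd7 zd35) (kd xd5 yd7 zd34) (kd xd5 yd47 zd61) (kd xd10 yd6 zd29) (kd xd12 yd10 zd9) (kd xd5 yd7 zd39) (kd xd18 yd24 zd15) (kd xd18 yd24 zd18) (kd xd5 yd7 zd40) (kd xd18 yd24 zd22) (kd xd12 yd20 zd42) (kd xd17 yd56 zd34) (kd xd5 yd7 zd41) (kd xd18 yd24 zd27) (kd xd5 yd7 zd48) (kd xd7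 yd21 zd23) (kd xd5 yd7 zd44) (kd xd18 yd24 zd30) (kd xd13 yd1 zd1) (kd xd10 yd6 zd30) (kd xd18 yd24 zd13) (kd xd12 yd27 zd22) (kd xd9 yd20 zd33) (kd xd18 yd24 zd38) (kd xd18 yd23 zd59) (kd xd18 yd24 zd39) (kd xd5 yd40 zd28) (kd xd18 yd24 zd42) (kd xd18 yd24 zd44) (kd xd18 yd24 zd47) (kd xd5 yd7 zd50) (kd xd6 yd35 zd42) (kd xd12 yd24 zd0) (kd xd5 yd48 zd29)) (@D3.rec (fun _ => Pt) (kd xd5 yd51 zd6) (kd xd11 yd7 zd4) (kd xd18 yd24 zd54) (kd xd11 yd7 zd6) (kd xd12 yd19 zd43) (kd xd12 yd27 zd27) (kd xd18 yd24 zd61) (kd xd5 yd7 zd53) (kd xd18 yd25 zd4) (kd xd18 yd25 zd7) (kd xd18 yd25 zd10) (kd xd11 yd7 zd15) (kd xd18 yd25 zd12) (kd xd5 yd51 zd8) (kd xd5 yd7 zd56) (kd xd18 yd25 zd17) (kd xd18 yd25 zd18) (kd xd5 yd51 zd13) (kd xd18 yd25 zd19) (kd xd5 yd37 zd57) (kd xd5 yd7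 zd58) (kd xd18 yd25 zd23) (kd xd12 yd45 zd8) (kd xd5 yd7 zd59) (kd xd18 yd25 zd26) (kd xd18 yd25 zd27) (kd xd18 yd25 zd30) (kd xd17 yd14 zd28) (kd xd5 yd7 zd60) (kd xd10 yd5 zd31) (kd xd10 yd5 zd47) (kd xd8 yd14 zd53) (kd xd18 yd25 zd39) (kd xd5 yd8 zd1) (kd xd14 yd11 zd59) (kd xd12 yd1 zd54) (kd xd5 yd8 zd0) (kd xd12 yd49 zd8) (kd xd17 yd5 zd55) (kd xd6 yd56 zd36) (kd xd8 yd49 zd8) (kd xd9 yd46 zd32) (kd xd16 yd58 zd41) (kd xd15 yd30 zd33) (kd xd15 yd30 zd34) (kd xd18 yd25 zd53) (kd xd14 yd8 zd7) (kd xd18 yd25 zd60) (kd xd11 yd6 zd41) (kd xd5 yd8 zd8) (kd xd5 yd49 zd32) (kd xd5 yd8 zd9) (kd xd12 yd56 zd35) (kd xd5 yd45 zd53) (kd xd11 yd28 zd24) (kd xd11 yd13 zd48) (kd xd5 yd8 zd12) (kd xd12 yd9 zd46) (kd xd15 yd5 zd15) (kd xd17 yd7 zd51) (kd xd11 yd28 zd27) (kd xd5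 yd8 zd14)) (@D3.rec (fun _ => Pt) (kd xd10 yd18 zd23) (kd xd18 yd10 zd3) (kd xd18 yd26 zd9) (kd xd14 yd46 zd46) (kd xd18 yd10 zd6) (kd xd17 yd42 zd28) (kd xd18 yd26 zd18) (kd xd12 yd1 zd34) (kd xd12 yd36 zd27) (kd xd12 yd36 zd28) (kd xd11 yd11 zd13) (kd xd11 yd27 zd55) (kd xd11 yd10 zd56) (kd xd5 yd46 zd6) (kd xd5 yd49 zd31) (kd xd5 yd35 zd8) (kd xd9 yd51 zd9) (kd xd5 yd35 zd1) (kd xd11 yd31 zd12) (kd xd8 yd13 zd30) (kd xd8 yd26 zd23) (kd xd7 yd47 zd55) (kd xd5 yd8 zd30) (kd xd7 yd47 zd54) (kd xd8 yd24 zd41) (kd xd15 yd51 zd19) (kd xd15 yd6 zd45) (kd xd18 yd26 zd31) (kd xd5 yd8 zd32) (kd xd18 yd7 zd6) (kd xd15 yd3 zd24) (kd xd15 yd22 zd43) (kd xd5 yd35 zd36) (kd xd18 yd26 zd43) (kd xd5 yd8 zd34) (kd xd18 yd26 zd48) (kd xd5 yd8 zd35) (kd xd18 yd6 zd14) (kd xd18 yd26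 zd55) (kd xd5 yd8 zd36) (kd xd14 yd57 zd53) (kd xd18 yd26 zd60) (kd xd18 yd27 zd1) (kd xd18 yd27 zd2) (kd xd5 yd8 zd37) (kd xd14 yd1 zd14) (kd xd15 yd11 zd7) (kd xd8 yd42 zd18) (kd xd17 yd54 zd31) (kd xd5 yd8 zd39) (kd xd14 yd43 zd50) (kd xd8 yd40 zd43) (kd xd17 yd44 zd37) (kd xd9 yd52 zd56) (kd xd8 yd13 zd32) (kd xd18 yd27 zd18) (kd xd16 yd40 zd45) (kd xd5 yd8 zd46) (kd xd18 yd27 zd21) (kd xd18 yd27 zd23) (kd xd18 yd27 zd8) (kd xd5 yd8 zd48)) (@D3.rec (fun _ => Pt) (kd xd18 yd27 zd28) (kd xd18 yd27 zd32) (kd xd18 yd27 zd34) (kd xd18 yd27 zd36) (kd xd5 yd8 zd50) (kd xd17 yd39 zd53) (kd xd18 yd27 zd38) (kd xd5 yd36 zd44) (kd xd18 yd27 zd41) (kd xd9 yd53 zd41) (kd xd15 yd11 zd50) (kd xd18 yd27 zd45) (kd xd5 yd8 zd54) (kd xd18 yd22 zd60) (kd xd18 yd27 zd53) (kd xd5 yd8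 zd56) (kd xd18 yd27 zd56) (kd xd18 yd27 zd58) (kd xd18 yd27 zd60) (kd xd10 yd20 zd26) (kd xd18 yd27 zd3) (kd xd18 yd27 zd4) (kd xd18 yd28 zd5) (kd xd5 yd8 zd58) (kd xd18 yd28 zd12) (kd xd8 yd3 zd8) (kd xd5 yd12 zd51) (kd xd18 yd28 zd20) (kd xd18 yd28 zd23) (kd xd18 yd28 zd25) (kd xd5 yd8 zd60) (kd xd18 yd28 zd28) (kd xd18 yd28 zd30) (kd xd5 yd8 zd61) (kd xd18 yd28 zd33) (kd xd9 yd53 zd13) (kd xd9 yd35 zd28) (kd xd9 yd35 zd29) (kd xd14 yd58 zd13) (kd xd18 yd27 zd7) (kd xd18 yd27 zd6) (kd xd18 yd28 zd37) (kd xd5 yd9 zd3) (kd xd16 yd15 zd21) (kd xd9 yd34 zd34) (kd xd17 yd36 zd52) (kd xd14 yd57 zd15) (kd xd8 yd40 zd22) (kd xd9 yd57 zd21) (kd xd9 yd36 zd0) (kd xd18 yd28 zd54) (kd xd18 yd28 zd58) (kd xd8 yd26 zd3) (kd xd8 yd5 zd60) (kd xd8 yd3 zd59) (kd xd5 yd9 zd11) (kd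 xd18 yd29 zd2) (kd xd18 yd29 zd5) (kd xd18 yd29 zd8) (kd xd18 yd29 zd10) (kd xd5 yd9 zd12) (kd xd6 yd9 zd20)) (@D3.rec (fun _ => Pt) (kd xd8 yd25 zd2) (kd xd8 yd25 zd3) (kd xd15 yd13 zd54) (kd xd18 yd29 zd16) (kd xd18 yd29 zd18) (kd xd6 yd41 zd11) (kd xd5 yd9 zd15) (kd xd18 yd29 zd28) (kd xd18 yd29 zd26) (kd xd18 yd29 zd34) (kd xd18 yd29 zd36) (kd xd5 yd9 zd16) (kd xd18 yd29 zd41) (kd xd5 yd9 zd17) (kd xd18 yd26 zd40) (kd xd18 yd26 zd41) (kd xd18 yd29 zd50) (kd xd9 yd54 zd30) (kd xd18 yd29 zd56) (kd xd8 yd3 zd9) (kd xd16 yd16 zd53) (kd xd8 yd3 zd18) (kd xd18 yd30 zd3) (kd xd18 yd30 zd6) (kd xd18 yd30 zd9) (kd xd9 yd54 zd41) (kd xd18 yd30 zd12) (kd xd18 yd30 zd15) (kd xd5 yd9 zd23) (kd xd18 yd30 zd20) (kd xd18 yd30 zd22) (kd xd5 yd9 zd24) (kd xd18 yd30 zd24) (kd xd18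 yd30 zd26) (kd xd5 yd9 zd25) (kd xd7 yd58 zd47) (kd xd10 yd9 zd36) (kd xd18 yd30 zd32) (kd xd5 yd9 zd27) (kd xd18 yd30 zd35) (kd xd18 yd30 zd39) (kd xd5 yd9 zd29) (kd xd18 yd30 zd43) (kd xd9 yd36 zd60) (kd xd10 yd34 zd20) (kd xd10 yd33 zd54) (kd xd10 yd33 zd53) (kd xd5 yd9 zd32) (kd xd18 yd30 zd51) (kd xd5 yd9 zd33) (kd xd18 yd30 zd56) (kd xd17 yd48 zd20) (kd xd15 yd25 zd36) (kd xd11 yd57 zd28) (kd xd10 yd25 zd20) (kd xd9 yd51 zd27) (kd xd18 yd31 zd2) (kd xd5 yd9 zd36) (kd xd18 yd31 zd6) (kd xd18 yd14 zd45) (kd xd18 yd13 zd30) (kd xd18 yd14 zd47)) (@D3.rec (fun _ => Pt) (kd xd18 yd31 zd16) (kd xd18 yd14 zd38) (kd xd18 yd14 zd39) (kd xd18 yd31 zd22) (kd xd5 yd9 zd40) (kd xd18 yd14 zd26) (kd xd5 yd10 zd30) (kd xd5 yd20 zd15) (kd xd18 yd31 zd33) (kd xd18 yd31 zd36) (kd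 xd18 yd31 zd38) (kd xd5 yd9 zd42) (kd xd18 yd14 zd22) (kd xd15 yd42 zd54) (kd xd18 yd31 zd45) (kd xd8 yd42 zd36) (kd xd18 yd31 zd48) (kd xd9 yd55 zd21) (kd xd18 yd7 zd0) (kd xd18 yd31 zd56) (kd xd8 yd28 zd6) (kd xd17 yd35 zd59) (kd xd5 yd14 zd43) (kd xd5 yd14 zd44) (kd xd9 yd49 zd8) (kd xd18 yd15 zd36) (kd xd18 yd32 zd8) (kd xd11 yd10 zd59) (kd xd10 yd13 zd8) (kd xd15 yd2 zd17) (kd xd5 yd11 zd40) (kd xd5 yd11 zd41) (kd xd10 yd13 zd43) (kd xd6 yd36 zd21) (kd xd18 yd32 zd20) (kd xd18 yd14 zd2) (kd xd17 yd34 zd18) (kd xd18 yd32 zd26) (kd xd18 yd32 zd29) (kd xd5 yd9 zd56) (kd xd9 yd18 zd27) (kd xd5 yd10 zd38) (kd xd14 yd4 zd50) (kd xd9 yd18 zd19) (kd xd12 yd20 zd39) (kd xd12 yd20 zd43) (kd xd6 yd48 zd48) (kd xd6 yd12 zd60) (kd xd7 yd55 zd34) (kd xd9 yd18 zd20) (kd xd9 yd18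 zd21) (kd xd12 yd28 zd46) (kd xd18 yd32 zd48) (kd xd5 yd10 zd4) (kd xd10 yd11 zd16) (kd xd5 yd10 zd5) (kd xd18 yd32 zd54) (kd xd17 yd49 zd56) (kd xd5 yd36 zd35) (kd xd17 yd44 zd53) (kd xd18 yd32 zd60) (kd xd18 yd32 zd61)) (@D3.rec (fun _ => Pt) (kd xd18 yd13 zd13) (kd xd18 yd13 zd14) (kd xd18 yd33 zd6) (kd xd5 yd10 zd9) (kd xd18 yd33 zd12) (kd xd18 yd33 zd16) (kd xd18 yd33 zd19) (kd xd5 yd10 zd11) (kd xd18 yd33 zd23) (kd xd18 yd33 zd24) (kd xd18 yd33 zd27) (kd xd17 yd47 zd20) (kd xd18 yd33 zd33) (kd xd18 yd33 zd34) (kd xd5 yd10 zd15) (kd xd18 yd13 zd55) (kd xd10 yd10 zd54) (kd xd18 yd33 zd37) (kd xd12 yd47 zd42) (kd xd18 yd9 zd5) (kd xd14 yd6 zd50) (kd xd5 yd10 zd18) (kd xd17 yd52 zd14) (kd xd5 yd10 zd59) (kd xd17 yd44 zd61) (kd xd18 yd33 zd50) (kd xd9 yd37 zd1) (kd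 xd15 yd46 zd24) (kd xd18 yd33 zd53) (kd xd5 yd10 zd23) (kd xd9 yd53 zd56) (kd xd10 yd55 zd33) (kd xd18 yd33 zd60) (kd xd5 yd10 zd28) (kd xd18 yd34 zd3) (kd xd18 yd34 zd6) (kd xd15 yd3 zd12) (kd xd11 yd5 zd4) (kd xd18 yd31 zd27) (kd xd18 yd34 zd11) (kd xd18 yd31 zd23) (kd xd18 yd31 zd24) (kd xd18 yd34 zd16) (kd xd5 yd10 zd31) (kd xd18 yd34 zd22) (kd xd18 yd34 zd26) (kd xd18 yd34 zd29) (kd xd18 yd34 zd31) (kd xd5 yd10 zd33) (kd xd18 yd34 zd35) (kd xd18 yd34 zd36) (kd xd18 yd34 zd39) (kd xd5 yd10 zd34) (kd xd18 yd34 zd41) (kd xd18 yd34 zd44) (kd xd5 yd10 zd35) (kd xd11 yd10 zd35) (kd xd18 yd34 zd48) (kd xd12 yd39 zd34) (kd xd18 yd32 zd33) (kd xd18 yd34 zd52) (kd xd5 yd10 zd39)) (@D3.rec (fun _ => Pt) (kd xd18 yd34 zd55) (kd xd18 yd34 zd58) (kd xd18 yd35 zd0) (kd xd5 yd10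 zd41) (kd xd8 yd36 zd22) (kd xd5 yd10 zd42) (kd xd11 yd12 zd37) (kd xd5 yd10 zd43) (kd xd16 yd56 zd49) (kd xd10 yd2 zd18) (kd xd10 yd45 zd52) (kd xd5 yd10 zd46) (kd xd18 yd35 zd7) (kd xd5 yd10 zd47) (kd xd18 yd35 zd9) (kd xd5 yd10 zd48) (kd xd10 yd48 zd35) (kd xd18 yd35 zd13) (kd xd5 yd10 zd50) (kd xd9 yd31 zd44) (kd xd18 yd35 zd15) (kd xd18 yd33 zd8) (kd xd18 yd33 zd9) (kd xd18 yd35 zd19) (kd xd5 yd10 zd53) (kd xd17 yd45 zd60) (kd xd18 yd35 zd23) (kd xd18 yd31 zd40) (kd xd18 yd31 zd41) (kd xd5 yd10 zd55) (kd xd17 yd45 zd55) (kd xd9 yd37 zd5) (kd xd18 yd35 zd31) (kd xd11 yd10 zd34) (kd xd9 yd37 zd8) (kd xd18 yd35 zd34) (kd xd18 yd33 zd46) (kd xd6 yd34 zd60) (kd xd17 yd47 zd37) (kd xd12 yd53 zd21) (kd xd5 yd10 zd61) (kd xd6 yd26 zd24) (kd xd6 yd26 zd9) (kd xd9 yd18 zd25)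 (kd xd9 yd18 zd26) (kd xd6 yd23 zd39) (kd xd9 yd18 zd24) (kd xd6 yd26 zd14) (kd xd9 yd44 zd5) (kd xd16 yd33 zd8) (kd xd6 yd26 zd17) (kd xd18 yd35 zd46) (kd xd18 yd35 zd50) (kd xd5 yd11 zd10) (kd xd6 yd11 zd4) (kd xd18 yd35 zd55) (kd xd18 yd35 zd56) (kd xd5 yd11 zd11) (kd xd18 yd21 zd45) (kd xd12 yd46 zd7) (kd xd17 yd45 zd49) (kd xd10 yd26 zd25)) (@D3.rec (fun _ => Pt) (kd xd5 yd11 zd13) (kd xd18 yd36 zd4) (kd xd18 yd36 zd6) (kd xd18 yd36 zd9) (kd xd18 yd36 zd13) (kd xd5 yd11 zd15) (kd xd18 yd36 zd17) (kd xd5 yd11 zd16) (kd xd10 yd10 zd28) (kd xd5 yd11 zd18) (kd xd6 yd11 zd0) (kd xd6 yd36 zd7) (kd xd6 yd10 zd12) (kd xd6 yd40 zd33) (kd xd6 yd10 zd13) (kd xd6 yd40 zd18) (kd xd18 yd36 zd26) (kd xd12 yd39 zd14) (kd xd12 yd47 zd3) (kd xd5 yd11 zd22) (kd xd18 yd36 zd31) (kd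 xd18 yd36 zd33) (kd xd18 yd36 zd36) (kd xd5 yd11 zd24) (kd xd12 yd21 zd17) (kd xd6 yd21 zd21) (kd xd18 yd36 zd38) (kd xd18 yd36 zd39) (kd xd18 yd36 zd41) (kd xd5 yd11 zd29) (kd xd18 yd36 zd45) (kd xd18 yd36 zd46) (kd xd12 yd37 zd55) (kd xd18 yd36 zd49) (kd xd5 yd11 zd30) (kd xd12 yd22 zd13) (kd xd14 yd16 zd50) (kd xd18 yd36 zd55) (kd xd18 yd36 zd57) (kd xd18 yd36 zd60) (kd xd5 yd11 zd31) (kd xd18 yd29 zd9) (kd xd18 yd37 zd3) (kd xd10 yd10 zd32) (kd xd18 yd37 zd9) (kd xd18 yd37 zd12) (kd xd5 yd11 zd34) (kd xd18 yd37 zd14) (kd xd5 yd11 zd33) (kd xd18 yd37 zd15) (kd xd17 yd13 zd21) (kd xd18 yd37 zd16) (kd xd18 yd37 zd17) (kd xd18 yd37 zd20) (kd xd5 yd11 zd35) (kd xd18 yd37 zd26) (kd xd18 yd37 zd28) (kd xd5 yd11 zd36) (kd xd18 yd37 zd33) (kd xd18 yd37 zd35) (kd xd18 yd37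 zd38) (kd xd17 yd16 zd34)) (@D3.rec (fun _ => Pt) (kd xd5 yd11 zd38) (kd xd17 yd13 zd22) (kd xd18 yd37 zd42) (kd xd10 yd0 zd9) (kd xd18 yd32 zd10) (kd xd18 yd37 zd46) (kd xd12 yd13 zd33) (kd xd18 yd32 zd13) (kd xd11 yd17 zd8) (kd xd18 yd37 zd54) (kd xd18 yd37 zd56) (kd xd11 yd19 zd32) (kd xd5 yd11 zd42) (kd xd18 yd38 zd0) (kd xd12 yd17 zd3) (kd xd10 yd0 zd19) (kd xd18 yd38 zd6) (kd xd18 yd38 zd9) (kd xd5 yd11 zd44) (kd xd5 yd12 zd18) (kd xd17 yd26 zd0) (kd xd12 yd4 zd50) (kd xd6 yd44 zd2) (kd xd9 yd18 zd18) (kd xd6 yd17 zd55) (kd xd6 yd40 zd41) (kd xd11 yd50 zd50) (kd xd9 yd14 zd15) (kd xd5 yd11 zd48) (kd xd18 yd38 zd23) (kd xd9 yd18 zd34) (kd xd5 yd11 zd49) (kd xd18 yd38 zd26) (kd xd18 yd38 zd28) (kd xd5 yd11 zd50) (kd xd6 yd40 zd26) (kd xd7 yd44 zd32) (kd xd18 yd38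 zd33) (kd xd5 yd11 zd54) (kd xd7 yd58 zd16) (kd xd18 yd38 zd36) (kd xd5 yd11 zd55) (kd xd6 yd4 zd49) (kd xd5 yd11 zd59) (kd xd13 yd11 zd15) (kd xd15 yd19 zd20) (kd xd11 yd53 zd40) (kd xd11 yd52 zd19) (kd xd18 yd38 zd43) (kd xd5 yd11 zd61) (kd xd10 yd3 zd19) (kd xd5 yd12 zd1) (kd xd7 yd13 zd48) (kd xd13 yd29 zd45) (kd xd10 yd3 zd13) (kd xd17 yd45 zd48) (kd xd5 yd12 zd3) (kd xd18 yd38 zd50) (kd xd18 yd38 zd54) (kd xd18 yd38 zd57) (kd xd18 yd38 zd59) (kd xd5 yd12 zd5)) (@D3.rec (fun _ => Pt) (kd xd18 yd39 zd1) (kd xd15 yd33 zd17) (kd xd18 yd39 zd4) (kd xd18 yd39 zd6) (kd xd10 yd2 zd5) (kd xd15 yd15 zd24) (kd xd15 yd32 zd36) (kd xd5 yd26 zd13) (kd xd5 yd24 zd27) (kd xd5 yd12 zd15) (kd xd18 yd15 zd60) (kd xd13 yd42 zd1) (kd xd7 yd17 zd15) (kd xd18 yd15 zd61) (kd xd18 yd39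 zd19) (kd xd18 yd39 zd20) (kd xd18 yd39 zd23) (kd xd12 yd27 zd31) (kd xd18 yd39 zd28) (kd xd5 yd12 zd19) (kd xd12 yd23 zd56) (kd xd18 yd39 zd30) (kd xd10 yd2 zd38) (kd xd5 yd12 zd27) (kd xd5 yd58 zd57) (kd xd18 yd39 zd34) (kd xd18 yd39 zd36) (kd xd11 yd14 zd35) (kd xd18 yd39 zd38) (kd xd5 yd12 zd31) (kd xd9 yd13 zd60) (kd xd16 yd57 zd14) (kd xd16 yd57 zd16) (kd xd5 yd15 zd32) (kd xd15 yd25 zd40) (kd xd18 yd39 zd47) (kd xd5 yd12 zd36) (kd xd18 yd39 zd50) (kd xd10 yd28 zd8) (kd xd5 yd12 zd37) (kd xd18 yd39 zd52) (kd xd18 yd22 zd56) (kd xd15 yd28 zd36) (kd xd5 yd19 zd2) (kd xd18 yd22 zd51) (kd xd9 yd35 zd25) (kd xd18 yd39 zd61) (kd xd15 yd14 zd11) (kd xd8 yd4 zd48) (kd xd18 yd23 zd0) (kd xd18 yd40 zd3) (kd xd18 yd40 zd6) (kd xd18 yd40 zd8) (kd xd5 yd12 zd44) (kd xd18 yd40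 zd15) (kd xd18 yd40 zd18) (kd xd18 yd40 zd21) (kd xd5 yd12 zd46) (kd xd18 yd40 zd25) (kd xd18 yd40 zd27) (kd xd5 yd12 zd47) (kd xd9 yd34 zd54)) (@D3.rec (fun _ => Pt) (kd xd18 yd40 zd28) (kd xd15 yd18 zd20) (kd xd18 yd40 zd30) (kd xd5 yd12 zd50) (kd xd18 yd28 zd16) (kd xd12 yd8 zd48) (kd xd18 yd40 zd37) (kd xd5 yd12 zd53) (kd xd15 yd8 zd49) (kd xd15 yd8 zd50) (kd xd18 yd40 zd42) (kd xd18 yd40 zd43) (kd xd16 yd21 zd60) (kd xd16 yd22 zd22) (kd xd5 yd13 zd38) (kd xd17 yd25 zd55) (kd xd6 yd25 zd6) (kd xd5 yd13 zd37) (kd xd8 yd48 zd49) (kd xd8 yd38 zd2) (kd xd18 yd40 zd59) (kd xd18 yd41 zd0) (kd xd18 yd41 zd4) (kd xd16 yd25 zd18) (kd xd7 yd19 zd5) (kd xd12 yd58 zd6) (kd xd5 yd13 zd4) (kd xd18 yd41 zd13) (kd xd5 yd13 zd5) (kd xd18 yd41 zd17) (kd xd16 yd38 zd27) (kd xd5 yd21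 zd43) (kd xd18 yd41 zd22) (kd xd5 yd13 zd7) (kd xd18 yd41 zd25) (kd xd12 yd5 zd56) (kd xd5 yd13 zd8) (kd xd18 yd41 zd27) (kd xd12 yd46 zd14) (kd xd12 yd46 zd15) (kd xd6 yd40 zd27) (kd xd5 yd13 zd9) (kd xd5 yd18 zd29) (kd xd5 yd18 zd30) (kd xd5 yd21 zd26) (kd xd5 yd24 zd6) (kd xd10 yd28 zd40) (kd xd10 yd39 zd34) (kd xd11 yd11 zd33) (kd xd10 yd30 zd49) (kd xd18 yd41 zd37) (kd xd5 yd13 zd15) (kd xd12 yd47 zd18) (kd xd12 yd46 zd9) (kd xd17 yd30 zd43) (kd xd12 yd47 zd17) (kd xd12 yd46 zd11) (kd xd17 yd16 zd58) (kd xd18 yd41 zd52) (kd xd17 yd49 zd22) (kd xd5 yd13 zd19) (kd xd9 yd44 zd6)) (@D3.rec (fun _ => Pt) (kd xd9 yd58 zd54) (kd xd8 yd56 zd42) (kd xd5 yd31 zd3) (kd xd18 yd41 zd54) (kd xd10 yd21 zd2) (kd xd10 yd21 zd20) (kd xd16 yd47 zd36) (kd xd6 yd8 zd19) (kd xd6 yd8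 zd20) (kd xd5 yd13 zd27) (kd xd18 yd42 zd2) (kd xd18 yd42 zd3) (kd xd5 yd13 zd28) (kd xd18 yd42 zd8) (kd xd17 yd7 zd44) (kd xd6 yd25 zd11) (kd xd17 yd4 zd34) (kd xd5 yd13 zd30) (kd xd10 yd4 zd41) (kd xd17 yd6 zd16) (kd xd5 yd13 zd31) (kd xd18 yd42 zd15) (kd xd11 yd28 zd22) (kd xd6 yd16 zd47) (kd xd11 yd21 zd52) (kd xd9 yd51 zd4) (kd xd9 yd4 zd55) (kd xd6 yd8 zd25) (kd xd8 yd25 zd60) (kd xd5 yd13 zd39) (kd xd18 yd42 zd22) (kd xd18 yd42 zd26) (kd xd5 yd13 zd41) (kd xd8 yd37 zd53) (kd xd18 yd42 zd34) (kd xd18 yd42 zd38) (kd xd15 yd23 zd56) (kd xd5 yd13 zd43) (kd xd18 yd42 zd44) (kd xd9 yd7 zd41) (kd xd18 yd21 zd14) (kd xd18 yd21 zd15) (kd xd5 yd13 zd46) (kd xd18 yd14 zd40) (kd xd18 yd12 zd53) (kd xd18 yd12 zd52) (kd xd5 yd13 zd47) (kd xd18 yd15 zd11) (kd xd18 yd42 zd55)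 (kd xd11 yd28 zd38) (kd xd5 yd42 zd10) (kd xd18 yd42 zd14) (kd xd10 yd3 zd60) (kd xd5 yd13 zd51) (kd xd5 yd13 zd53) (kd xd11 yd32 zd3) (kd xd5 yd13 zd55) (kd xd5 yd13 zd56) (kd xd5 yd13 zd58) (kd xd11 yd6 zd33) (kd xd11 yd27 zd48) (kd xd6 yd14 zd35)) (@D3.rec (fun _ => Pt) (kd xd18 yd43 zd7) (kd xd7 yd17 zd7) (kd xd9 yd39 zd18) (kd xd18 yd43 zd10) (kd xd18 yd43 zd11) (kd xd18 yd26 zd3) (kd xd5 yd14 zd3) (kd xd11 yd0 zd35) (kd xd16 yd56 zd61) (kd xd16 yd45 zd7) (kd xd6 yd3 zd21) (kd xd12 yd10 zd55) (kd xd9 yd46 zd34) (kd xd5 yd52 zd13) (kd xd7 yd59 zd46) (kd xd9 yd48 zd48) (kd xd8 yd12 zd26) (kd xd9 yd50 zd45) (kd xd6 yd12 zd20) (kd xd11 yd19 zd13) (kd xd11 yd31 zd19) (kd xd5 yd40 zd44) (kd xd15 yd27 zd11) (kd xd10 yd7 zd0) (kd xd5 yd14 zd24) (kd xd18 yd43 zd22) (kd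 xd9 yd5 zd42) (kd xd12 yd25 zd8) (kd xd6 yd3 zd22) (kd xd5 yd26 zd60) (kd xd5 yd26 zd61) (kd xd8 yd14 zd18) (kd xd8 yd12 zd4) (kd xd5 yd14 zd28) (kd xd11 yd22 zd11) (kd xd11 yd12 zd0) (kd xd5 yd14 zd32) (kd xd16 yd54 zd43) (kd xd15 yd4 zd21) (kd xd15 yd4 zd22) (kd xd11 yd12 zd3) (kd xd18 yd43 zd41) (kd xd5 yd14 zd34) (kd xd6 yd3 zd5) (kd xd10 yd43 zd53) (kd xd6 yd31 zd28) (kd xd9 yd47 zd39) (kd xd6 yd31 zd7) (kd xd17 yd32 zd48) (kd xd6 yd50 zd40) (kd xd11 yd31 zd17) (kd xd10 yd5 zd18) (kd xd15 yd5 zd34) (kd xd8 yd49 zd54) (kd xd9 yd42 zd35) (kd xd9 yd50 zd38) (kd xd9 yd42 zd34) (kd xd18 yd32 zd0) (kd xd9 yd50 zd39) (kd xd18 yd43 zd52) (kd xd11 yd38 zd28) (kd xd6 yd19 zd18)) (@D3.rec (fun _ => Pt) (kd xd5 yd14 zd48) (kd xd5 yd40 zd11) (kd xd6 yd30 zd37) (kd xd6 yd25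 zd56) (kd xd9 yd5 zd12) (kd xd6 yd3 zd4) (kd xd8 yd59 zd55) (kd xd11 yd51 zd57) (kd xd8 yd59 zd50) (kd xd6 yd12 zd21) (kd xd18 yd43 zd61) (kd xd5 yd14 zd54) (kd xd18 yd44 zd2) (kd xd18 yd44 zd6) (kd xd18 yd44 zd8) (kd xd5 yd14 zd55) (kd xd8 yd29 zd47) (kd xd18 yd44 zd16) (kd xd5 yd14 zd57) (kd xd8 yd15 zd2) (kd xd5 yd14 zd59) (kd xd10 yd25 zd7) (kd xd18 yd44 zd22) (kd xd18 yd44 zd25) (kd xd18 yd44 zd27) (kd xd5 yd14 zd60) (kd xd5 yd27 zd36) (kd xd8 yd29 zd32) (kd xd8 yd29 zd30) (kd xd9 yd51 zd28) (kd xd18 yd44 zd42) (kd xd5 yd15 zd1) (kd xd18 yd44 zd45) (kd xd5 yd15 zd2) (kd xd16 yd36 zd47) (kd xd18 yd44 zd51) (kd xd5 yd15 zd4) (kd xd18 yd44 zd55) (kd xd10 yd46 zd4) (kd xd5 yd27 zd49) (kd xd18 yd44 zd61) (kd xd5 yd15 zd6) (kd xd18 yd45 zd2) (kd xd17 yd9 zd15) (kd xd18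 yd45 zd12) (kd xd18 yd45 zd14) (kd xd5 yd15 zd7) (kd xd15 yd55 zd61) (kd xd8 yd26 zd16) (kd xd10 yd23 zd59) (kd xd18 yd45 zd22) (kd xd18 yd4 zd8) (kd xd9 yd39 zd4) (kd xd7 yd55 zd36) (kd xd7 yd55 zd35) (kd xd14 yd56 zd59) (kd xd10 yd19 zd56) (kd xd8 yd15 zd48) (kd xd15 yd55 zd58) (kd xd18 yd45 zd30) (kd xd15 yd51 zd56) (kd xd11 yd4 zd11)) (@D3.rec (fun _ => Pt) (kd xd15 yd2 zd18) (kd xd12 yd9 zd34) (kd xd8 yd57 zd17) (kd xd10 yd44 zd44) (kd xd8 yd15 zd60) (kd xd17 yd19 zd36) (kd xd17 yd23 zd5) (kd xd10 yd42 zd56) (kd xd6 yd0 zd34) (kd xd17 yd23 zd29) (kd xd13 yd20 zd30) (kd xd5 yd15 zd25) (kd xd5 yd15 zd45) (kd xd13 yd4 zd61) (kd xd13 yd5 zd0) (kd xd7 yd5 zd30) (kd xd7 yd32 zd32) (kd xd8 yd2 zd53) (kd xd18 yd45 zd57) (kd xd5 yd15 zd31) (kd xd18 yd45 zd60) (kd xd10 yd38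 zd42) (kd xd10 yd37 zd43) (kd xd15 yd11 zd0) (kd xd15 yd55 zd60) (kd xd18 yd46 zd4) (kd xd10 yd8 zd19) (kd xd5 yd15 zd35) (kd xd18 yd46 zd7) (kd xd10 yd25 zd21) (kd xd18 yd46 zd10) (kd xd17 yd19 zd48) (kd xd18 yd46 zd13) (kd xd5 yd15 zd37) (kd xd15 yd49 zd59) (kd xd18 yd46 zd20) (kd xd10 yd36 zd25) (kd xd18 yd46 zd22) (kd xd5 yd15 zd39) (kd xd16 yd36 zd52) (kd xd10 yd35 zd49) (kd xd15 yd36 zd9) (kd xd18 yd46 zd30) (kd xd5 yd15 zd42) (kd xd18 yd46 zd35) (kd xd5 yd15 zd43) (kd xd16 yd16 zd31) (kd xd16 yd12 zd51) (kd xd18 yd45 zd49) (kd xd18 yd46 zd40) (kd xd18 yd45 zd46) (kd xd18 yd45 zd47) (kd xd11 yd45 zd28) (kd xd5 yd15 zd46) (kd xd18 yd46 zd50) (kd xd9 yd54 zd57) (kd xd17 yd24 zd29) (kd xd18 yd46 zd57) (kd xd18 yd46 zd58) (kd xd5 yd15 zd48) (kd xd18 yd47 zd1) (kd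 xd18 yd47 zd3)) (@D3.rec (fun _ => Pt) (kd xd5 yd15 zd49) (kd xd18 yd47 zd4) (kd xd10 yd17 zd4) (kd xd18 yd47 zd8) (kd xd5 yd15 zd52) (kd xd18 yd47 zd11) (kd xd8 yd31 zd33) (kd xd8 yd31 zd34) (kd xd15 yd33 zd18) (kd xd18 yd46 zd15) (kd xd18 yd46 zd16) (kd xd18 yd47 zd17) (kd xd5 yd15 zd54) (kd xd18 yd47 zd25) (kd xd17 yd24 zd57) (kd xd18 yd47 zd30) (kd xd9 yd27 zd14) (kd xd5 yd15 zd56) (kd xd18 yd47 zd36) (kd xd10 yd54 zd1) (kd xd10 yd17 zd5) (kd xd10 yd54 zd0) (kd xd18 yd47 zd39) (kd xd18 yd47 zd43) (kd xd18 yd47 zd44) (kd xd5 yd15 zd60) (kd xd18 yd47 zd50) (kd xd10 yd2 zd20) (kd xd17 yd18 zd58) (kd xd5 yd16 zd0) (kd xd18 yd47 zd59) (kd xd18 yd47 zd61) (kd xd18 yd48 zd1) (kd xd18 yd48 zd3) (kd xd5 yd16 zd1) (kd xd18 yd48 zd10) (kd xd15 yd52 zd24) (kd xd5 yd16 zd3)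 (kd xd18 yd48 zd17) (kd xd16 yd54 zd9) (kd xd18 yd48 zd19) (kd xd5 yd16 zd4) (kd xd18 yd48 zd26) (kd xd18 yd48 zd24) (kd xd11 yd44 zd14) (kd xd5 yd16 zd5) (kd xd18 yd48 zd32) (kd xd5 yd16 zd6) (kd xd18 yd20 zd35) (kd xd18 yd48 zd38) (kd xd10 yd26 zd3) (kd xd5 yd16 zd8) (kd xd18 yd48 zd45) (kd xd15 yd50 zd40) (kd xd11 yd54 zd55) (kd xd14 yd41 zd58) (kd xd8 yd29 zd29) (kd xd18 yd48 zd54) (kd xd18 yd48 zd56) (kd xd18 yd48 zd58) (kd xd10 yd26 zd14) (kd xd18 yd48 zd59)) (@D3.rec (fun _ => Pt) (kd xd18 yd48 zd61) (kd xd18 yd49 zd2) (kd xd5 yd16 zd14) (kd xd18 yd49 zd7) (kd xd5 yd16 zd15) (kd xd5 yd31 zd2) (kd xd18 yd49 zd10) (kd xd18 yd49 zd12) (kd xd5 yd16 zd16) (kd xd16 yd24 zd24) (kd xd18 yd49 zd17) (kd xd13 yd11 zd19) (kd xd7 yd18 zd24) (kd xd18 yd49 zd19) (kd xd7 yd13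 zd37) (kd xd18 yd49 zd21) (kd xd18 yd49 zd23) (kd xd5 yd16 zd20) (kd xd18 yd49 zd26) (kd xd5 yd16 zd21) (kd xd10 yd29 zd35) (kd xd9 yd17 zd35) (kd xd5 yd16 zd23) (kd xd11 yd5 zd31) (kd xd17 yd46 zd42) (kd xd18 yd49 zd32) (kd xd18 yd49 zd35) (kd xd18 yd20 zd6) (kd xd18 yd20 zd7) (kd xd5 yd16 zd28) (kd xd18 yd42 zd23) (kd xd8 yd35 zd7) (kd xd18 yd19 zd11) (kd xd10 yd29 zd36) (kd xd18 yd19 zd10) (kd xd5 yd55 zd53) (kd xd18 yd49 zd46) (kd xd12 yd47 zd10) (kd xd18 yd49 zd47) (kd xd5 yd16 zd36) (kd xd11 yd45 zd61) (kd xd11 yd16 zd25) (kd xd18 yd49 zd55) (kd xd18 yd49 zd58) (kd xd5 yd16 zd37) (kd xd18 yd50 zd3) (kd xd18 yd50 zd0) (kd xd10 yd2 zd23) (kd xd5 yd16 zd40) (kd xd18 yd50 zd7) (kd xd5 yd16 zd39) (kd xd18 yd50 zd10) (kd xd13 yd37 zd54) (kd xd6 yd11 zd19) (kd xd6 yd36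 zd12) (kd xd6 yd41 zd6) (kd xd18 yd50 zd13) (kd xd18 yd50 zd14) (kd xd5 yd16 zd42) (kd xd18 yd50 zd19) (kd xd18 yd50 zd22) (kd xd18 yd50 zd23)) (@D3.rec (fun _ => Pt) (kd xd5 yd16 zd44) (kd xd13 yd37 zd55) (kd xd18 yd50 zd26) (kd xd10 yd27 zd25) (kd xd18 yd20 zd37) (kd xd18 yd50 zd32) (kd xd12 yd12 zd7) (kd xd18 yd50 zd35) (kd xd16 yd54 zd15) (kd xd18 yd50 zd39) (kd xd5 yd16 zd48) (kd xd18 yd50 zd44) (kd xd18 yd50 zd46) (kd xd18 yd50 zd48) (kd xd17 yd33 zd28) (kd xd9 yd12 zd20) (kd xd5 yd16 zd51) (kd xd18 yd50 zd53) (kd xd5 yd16 zd52) (kd xd17 yd15 zd54) (kd xd17 yd2 zd34) (kd xd5 yd16 zd53) (kd xd18 yd50 zd60) (kd xd5 yd16 zd55) (kd xd5 yd16 zd56) (kd xd18 yd51 zd0) (kd xd18 yd51 zd5) (kd xd5 yd16 zd57) (kd xd18 yd51 zd8) (kd xd18 yd51 zd10) (kd xd18 yd51 zd12) (kd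 xd18 yd51 zd14) (kd xd5 yd16 zd58) (kd xd8 yd16 zd24) (kd xd7 yd58 zd3) (kd xd8 yd16 zd19) (kd xd8 yd42 zd33) (kd xd15 yd40 zd53) (kd xd5 yd16 zd61) (kd xd10 yd23 zd39) (kd xd18 yd51 zd34) (kd xd5 yd17 zd1) (kd xd18 yd51 zd38) (kd xd5 yd17 zd2) (kd xd10 yd54 zd14) (kd xd18 yd51 zd45) (kd xd5 yd17 zd4) (kd xd15 yd16 zd5) (kd xd8 yd15 zd59) (kd xd18 yd51 zd50) (kd xd5 yd17 zd6) (kd xd7 yd32 zd35) (kd xd18 yd51 zd56) (kd xd18 yd51 zd61) (kd xd18 yd52 zd1) (kd xd5 yd17 zd7) (kd xd18 yd52 zd6) (kd xd8 yd15 zd47) (kd xd5 yd17 zd27) (kd xd10 yd19 zd49) (kd xd5 yd17 zd9) (kd xd18 yd52 zd14)) (@D3.rec (fun _ => Pt) (kd xd18 yd52 zd18) (kd xd5 yd17 zd11) (kd xd8 yd26 zd10) (kd xd8 yd26 zd17) (kd xd15 yd31 zd51) (kd xd18 yd52 zd27) (kd xd18 yd44 zd37) (kd xd11 yd56 zd61) (kd xd9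 yd42 zd29) (kd xd17 yd23 zd15) (kd xd15 yd31 zd53) (kd xd16 yd7 zd1) (kd xd9 yd53 zd22) (kd xd8 yd15 zd6) (kd xd17 yd23 zd16) (kd xd18 yd52 zd36) (kd xd17 yd44 zd55) (kd xd10 yd50 zd23) (kd xd8 yd39 zd52) (kd xd11 yd4 zd21) (kd xd15 yd51 zd10) (kd xd15 yd50 zd61) (kd xd18 yd52 zd45) (kd xd18 yd52 zd50) (kd xd16 yd29 zd8) (kd xd5 yd17 zd25) (kd xd18 yd52 zd9) (kd xd8 yd48 zd46) (kd xd18 yd52 zd57) (kd xd18 yd52 zd58) (kd xd18 yd52 zd59) (kd xd18 yd53 zd1) (kd xd5 yd17 zd29) (kd xd18 yd47 zd56) (kd xd5 yd31 zd25) (kd xd11 yd56 zd1) (kd xd5 yd27 zd48) (kd xd18 yd53 zd12) (kd xd5 yd17 zd31) (kd xd18 yd46 zd60) (kd xd18 yd53 zd19) (kd xd5 yd17 zd32) (kd xd18 yd53 zd21) (kd xd18 yd53 zd24) (kd xd18 yd53 zd28) (kd xd18 yd53 zd30) (kd xd5 yd17 zd33) (kd xd18 yd53 zd37) (kd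 xd16 yd1 zd47) (kd xd18 yd47 zd34) (kd xd18 yd47 zd33) (kd xd5 yd17 zd35) (kd xd15 yd51 zd38) (kd xd18 yd48 zd15) (kd xd5 yd23 zd61) (kd xd17 yd47 zd51) (kd xd10 yd40 zd60) (kd xd15 yd9 zd10) (kd xd5 yd17 zd40) (kd xd18 yd53 zd50) (kd xd18 yd53 zd53) (kd xd18 yd53 zd56)) (@D3.rec (fun _ => Pt) (kd xd18 yd53 zd58) (kd xd5 yd17 zd42) (kd xd18 yd54 zd4) (kd xd15 yd51 zd51) (kd xd16 yd44 zd43) (kd xd10 yd25 zd10) (kd xd5 yd17 zd44) (kd xd10 yd19 zd21) (kd xd10 yd42 zd60) (kd xd10 yd54 zd18) (kd xd10 yd25 zd5) (kd xd5 yd17 zd47) (kd xd17 yd22 zd40) (kd xd15 yd33 zd8) (kd xd18 yd54 zd21) (kd xd18 yd53 zd32) (kd xd18 yd53 zd33) (kd xd18 yd54 zd27) (kd xd5 yd17 zd50) (kd xd5 yd59 zd58) (kd xd10 yd9 zd54) (kd xd10 yd20 zd29) (kd xd17 yd17 zd6) (kd xd12 yd11 zd26) (kd xd17 yd12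 zd5) (kd xd5 yd17 zd53) (kd xd12 yd11 zd36) (kd xd10 yd3 zd49) (kd xd8 yd19 zd0) (kd xd8 yd19 zd1) (kd xd15 yd56 zd47) (kd xd18 yd53 zd60) (kd xd18 yd53 zd61) (kd xd18 yd54 zd43) (kd xd5 yd17 zd57) (kd xd13 yd4 zd58) (kd xd13 yd49 zd53) (kd xd13 yd26 zd33) (kd xd13 yd26 zd32) (kd xd5 yd17 zd59) (kd xd6 yd32 zd57) (kd xd7 yd38 zd10) (kd xd10 yd3 zd50) (kd xd13 yd27 zd25) (kd xd18 yd54 zd55) (kd xd18 yd54 zd59) (kd xd18 yd54 zd60) (kd xd5 yd18 zd1) (kd xd17 yd19 zd23) (kd xd9 yd52 zd20) (kd xd18 yd55 zd8) (kd xd18 yd55 zd10) (kd xd7 yd10 zd4) (kd xd18 yd55 zd12) (kd xd18 yd55 zd15) (kd xd5 yd18 zd7) (kd xd15 yd5 zd35) (kd xd18 yd55 zd20) (kd xd13 yd6 zd9) (kd xd5 yd18 zd8) (kd xd6 yd52 zd51) (kd xd5 yd18 zd9)) (@D3.rec (fun _ => Pt) (kd xd18 yd10 zd36) (kd xd18 yd10 zd37)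 (kd xd18 yd55 zd35) (kd xd10 yd21 zd50) (kd xd5 yd18 zd11) (kd xd18 yd55 zd40) (kd xd15 yd30 zd49) (kd xd16 yd7 zd5) (kd xd15 yd30 zd53) (kd xd15 yd52 zd3) (kd xd11 yd55 zd20) (kd xd8 yd56 zd61) (kd xd17 yd21 zd20) (kd xd9 yd22 zd5) (kd xd10 yd21 zd60) (kd xd18 yd55 zd55) (kd xd18 yd55 zd57) (kd xd18 yd55 zd59) (kd xd5 yd18 zd17) (kd xd18 yd56 zd2) (kd xd5 yd18 zd18) (kd xd8 yd6 zd12) (kd xd18 yd56 zd4) (kd xd18 yd56 zd6) (kd xd5 yd18 zd19) (kd xd10 yd12 zd61) (kd xd18 yd56 zd9) (kd xd18 yd56 zd12) (kd xd18 yd56 zd15) (kd xd18 yd56 zd16) (kd xd5 yd18 zd22) (kd xd18 yd56 zd19) (kd xd18 yd56 zd20) (kd xd18 yd56 zd22) (kd xd5 yd18 zd23) (kd xd16 yd13 zd25) (kd xd5 yd18 zd24) (kd xd18 yd56 zd25) (kd xd5 yd18 zd26) (kd xd10 yd49 zd9) (kd xd16 yd26 zd4) (kd xd8 yd45 zd30)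 (kd xd18 yd56 zd31) (kd xd5 yd21 zd44) (kd xd16 yd10 zd43) (kd xd17 yd9 zd22) (kd xd18 yd38 zd61) (kd xd5 yd18 zd32) (kd xd18 yd56 zd40) (kd xd6 yd23 zd33) (kd xd18 yd56 zd42) (kd xd17 yd12 zd40) (kd xd11 yd36 zd55) (kd xd18 yd56 zd43) (kd xd18 yd56 zd45) (kd xd5 yd18 zd39) (kd xd18 yd56 zd46) (kd xd12 yd2 zd53) (kd xd18 yd56 zd49) (kd xd18 yd56 zd52) (kd xd18 yd56 zd53) (kd xd13 yd36 zd0)) (@D3.rec (fun _ => Pt) (kd xd5 yd18 zd41) (kd xd11 yd47 zd10) (kd xd13 yd35 zd59) (kd xd9 yd55 zd57) (kd xd18 yd56 zd59) (kd xd18 yd56 zd61) (kd xd5 yd18 zd44) (kd xd18 yd57 zd1) (kd xd5 yd18 zd43) (kd xd18 yd57 zd3) (kd xd12 yd21 zd15) (kd xd18 yd57 zd4) (kd xd18 yd1 zd10) (kd xd18 yd57 zd7) (kd xd5 yd18 zd45) (kd xd18 yd57 zd13) (kd xd18 yd57 zd15) (kd xd5 yd18 zd46) (kd xd13 yd19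 zd40) (kd xd18 yd57 zd19) (kd xd18 yd57 zd22) (kd xd17 yd13 zd32) (kd xd5 yd18 zd48) (kd xd12 yd21 zd16) (kd xd18 yd57 zd26) (kd xd10 yd23 zd3) (kd xd18 yd10 zd30) (kd xd18 yd57 zd32) (kd xd12 yd4 zd54) (kd xd18 yd10 zd33) (kd xd18 yd57 zd37) (kd xd18 yd57 zd40) (kd xd18 yd57 zd43) (kd xd18 yd57 zd44) (kd xd5 yd18 zd52) (kd xd18 yd57 zd50) (kd xd18 yd57 zd53) (kd xd6 yd36 zd25) (kd xd9 yd7 zd26) (kd xd11 yd49 zd8) (kd xd18 yd57 zd59) (kd xd18 yd57 zd60) (kd xd5 yd18 zd55) (kd xd18 yd58 zd1) (kd xd17 yd6 zd30) (kd xd5 yd18 zd56) (kd xd18 yd58 zd4) (kd xd9 yd9 zd36) (kd xd5 yd18 zd58) (kd xd6 yd28 zd15) (kd xd8 yd6 zd41) (kd xd17 yd46 zd39) (kd xd18 yd58 zd12) (kd xd8 yd39 zd56) (kd xd8 yd20 zd58) (kd xd8 yd31 zd35) (kd xd17 yd46 zd31) (kd xd18 yd58 zd15) (kd xd15 yd18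 zd39) (kd xd18 yd58 zd16) (kd xd10 yd42 zd43) (kd xd10 yd35 zd30)) (@D3.rec (fun _ => Pt) (kd xd14 yd57 zd32) (kd xd14 yd57 zd7) (kd xd18 yd58 zd18) (kd xd9 yd39 zd51) (kd xd18 yd58 zd21) (kd xd14 yd57 zd13) (kd xd8 yd41 zd29) (kd xd18 yd58 zd24) (kd xd10 yd15 zd38) (kd xd18 yd9 zd13) (kd xd18 yd9 zd12) (kd xd5 yd19 zd12) (kd xd10 yd33 zd7) (kd xd18 yd58 zd30) (kd xd18 yd58 zd31) (kd xd18 yd58 zd35) (kd xd18 yd58 zd36) (kd xd5 yd19 zd15) (kd xd18 yd58 zd42) (kd xd18 yd58 zd46) (kd xd18 yd56 zd38) (kd xd18 yd56 zd37) (kd xd5 yd19 zd17) (kd xd18 yd58 zd53) (kd xd18 yd58 zd56) (kd xd18 yd58 zd58) (kd xd16 yd3 zd34) (kd xd18 yd47 zd42) (kd xd18 yd47 zd38) (kd xd18 yd59 zd2) (kd xd5 yd19 zd21) (kd xd18 yd59 zd9) (kd xd18 yd59 zd13) (kd xd18 yd59 zd16) (kd xd18 yd59 zd18)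 (kd xd5 yd19 zd23) (kd xd18 yd59 zd21) (kd xd18 yd59 zd23) (kd xd5 yd19 zd24) (kd xd18 yd59 zd26) (kd xd10 yd16 zd46) (kd xd10 yd1 zd44) (kd xd18 yd59 zd29) (kd xd5 yd19 zd27) (kd xd18 yd59 zd33) (kd xd18 yd35 zd49) (kd xd18 yd59 zd34) (kd xd5 yd19 zd28) (kd xd18 yd59 zd36) (kd xd18 yd59 zd38) (kd xd5 yd19 zd30) (kd xd18 yd59 zd42) (kd xd18 yd59 zd44) (kd xd18 yd59 zd47) (kd xd18 yd59 zd49) (kd xd5 yd19 zd31) (kd xd18 yd59 zd56) (kd xd18 yd59 zd59) (kd xd5 yd19 zd33) (kd xd19 yd0 zd2) (kd xd8 yd44 zd1) (kd xd19 yd0 zd6)) (@D3.rec (fun _ => Pt) (kd xd17 yd45 zd43) (kd xd19 yd0 zd13) (kd xd14 yd58 zd35) (kd xd19 yd0 zd18) (kd xd17 yd46 zd52) (kd xd19 yd0 zd23) (kd xd19 yd0 zd27) (kd xd5 yd55 zd33) (kd xd16 yd30 zd60) (kd xd16 yd35 zd28) (kd xd8 yd49 zd42) (kd xd5 yd19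 zd41) (kd xd11 yd29 zd36) (kd xd5 yd19 zd42) (kd xd5 yd20 zd47) (kd xd19 yd0 zd35) (kd xd8 yd38 zd50) (kd xd7 yd55 zd48) (kd xd7 yd55 zd49) (kd xd8 yd17 zd7) (kd xd17 yd41 zd6) (kd xd17 yd41 zd5) (kd xd19 yd0 zd42) (kd xd5 yd19 zd45) (kd xd8 yd5 zd37) (kd xd15 yd3 zd55) (kd xd18 yd59 zd4) (kd xd19 yd0 zd52) (kd xd5 yd19 zd48) (kd xd19 yd0 zd56) (kd xd19 yd0 zd57) (kd xd19 yd0 zd59) (kd xd5 yd19 zd50) (kd xd19 yd1 zd1) (kd xd19 yd1 zd3) (kd xd10 yd22 zd20) (kd xd10 yd22 zd33) (kd xd16 yd36 zd38) (kd xd5 yd19 zd53) (kd xd19 yd1 zd9) (kd xd5 yd19 zd54) (kd xd11 yd53 zd46) (kd xd18 yd58 zd59) (kd xd19 yd0 zd53) (kd xd19 yd1 zd14) (kd xd5 yd19 zd56) (kd xd19 yd1 zd20) (kd xd19 yd1 zd24) (kd xd19 yd1 zd27) (kd xd13 yd49 zd32) (kd xd5 yd19 zd58) (kd xd19 yd1 zd30) (kd xd19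 yd1 zd32) (kd xd10 yd3 zd30) (kd xd19 yd1 zd33) (kd xd19 yd0 zd8) (kd xd18 yd59 zd31) (kd xd11 yd13 zd38) (kd xd5 yd20 zd0) (kd xd19 yd1 zd35) (kd xd19 yd1 zd38) (kd xd5 yd20 zd2)) (@D3.rec (fun _ => Pt) (kd xd19 yd1 zd42) (kd xd18 yd59 zd45) (kd xd16 yd21 zd19) (kd xd5 yd20 zd3) (kd xd19 yd1 zd47) (kd xd19 yd1 zd49) (kd xd5 yd20 zd5) (kd xd19 yd1 zd52) (kd xd18 yd21 zd39) (kd xd18 yd22 zd18) (kd xd12 yd58 zd24) (kd xd5 yd20 zd6) (kd xd19 yd2 zd3) (kd xd18 yd21 zd40) (kd xd19 yd2 zd6) (kd xd17 yd43 zd5) (kd xd5 yd20 zd7) (kd xd19 yd2 zd12) (kd xd12 yd58 zd50) (kd xd16 yd36 zd4) (kd xd11 yd44 zd26) (kd xd9 yd57 zd22) (kd xd19 yd2 zd24) (kd xd9 yd7 zd11) (kd xd11 yd36 zd24) (kd xd16 yd36 zd11) (kd xd5 yd20 zd13) (kd xd11 yd11 zd52) (kd xd5 yd20 zd14) (kd xd8 yd8 zd14)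 (kd xd18 yd31 zd29) (kd xd19 yd2 zd35) (kd xd19 yd2 zd39) (kd xd5 yd20 zd17) (kd xd19 yd2 zd44) (kd xd15 yd41 zd34) (kd xd8 yd20 zd39) (kd xd19 yd2 zd50) (kd xd5 yd20 zd19) (kd xd19 yd2 zd53) (kd xd19 yd2 zd58) (kd xd5 yd20 zd20) (kd xd19 yd2 zd61) (kd xd16 yd2 zd5) (kd xd16 yd2 zd4) (kd xd19 yd3 zd10) (kd xd5 yd20 zd21) (kd xd12 yd4 zd34) (kd xd8 yd13 zd11) (kd xd10 yd16 zd49) (kd xd5 yd21 zd7) (kd xd5 yd20 zd23) (kd xd12 yd4 zd33) (kd xd18 yd2 zd58) (kd xd14 yd9 zd45) (kd xd11 yd53 zd28) (kd xd10 yd3 zd48) (kd xd10 yd39 zd21) (kd xd19 yd3 zd31) (kd xd10 yd39 zd19) (kd xd19 yd3 zd37) (kd xd10 yd39 zd56)) (@D3.rec (fun _ => Pt) (kd xd10 yd39 zd57) (kd xd19 yd3 zd41) (kd xd5 yd20 zd30) (kd xd5 yd20 zd43) (kd xd19 yd3 zd49) (kd xd19 yd3 zd51) (kd xd19 yd3 zd53) (kd xd5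 yd20 zd32) (kd xd19 yd3 zd57) (kd xd19 yd3 zd58) (kd xd10 yd42 zd47) (kd xd17 yd48 zd45) (kd xd6 yd2 zd23) (kd xd15 yd36 zd40) (kd xd10 yd39 zd11) (kd xd10 yd39 zd12) (kd xd16 yd21 zd25) (kd xd5 yd20 zd37) (kd xd19 yd4 zd9) (kd xd19 yd4 zd12) (kd xd19 yd4 zd15) (kd xd19 yd4 zd16) (kd xd5 yd20 zd39) (kd xd19 yd4 zd20) (kd xd19 yd4 zd22) (kd xd8 yd52 zd31) (kd xd15 yd19 zd45) (kd xd15 yd14 zd29) (kd xd8 yd3 zd20) (kd xd19 yd3 zd46) (kd xd19 yd4 zd26) (kd xd19 yd3 zd42) (kd xd19 yd3 zd43) (kd xd19 yd4 zd29) (kd xd5 yd20 zd44) (kd xd13 yd22 zd3) (kd xd19 yd4 zd32) (kd xd9 yd2 zd58) (kd xd5 yd20 zd46) (kd xd9 yd45 zd16) (kd xd16 yd54 zd20) (kd xd10 yd1 zd42) (kd xd15 yd19 zd54) (kd xd11 yd52 zd43) (kd xd19 yd4 zd4) (kd xd19 yd4 zd5) (kd xd19 yd4 zd39) (kd xd5 yd20 zd50)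 (kd xd7 yd36 zd54) (kd xd7 yd46 zd0) (kd xd14 yd39 zd31) (kd xd14 yd39 zd30) (kd xd7 yd36 zd48) (kd xd19 yd4 zd45) (kd xd5 yd23 zd54) (kd xd19 yd4 zd48) (kd xd19 yd4 zd51) (kd xd19 yd4 zd52) (kd xd5 yd20 zd55) (kd xd16 yd53 zd59) (kd xd16 yd54 zd0) (kd xd16 yd15 zd10)) (@D3.rec (fun _ => Pt) (kd xd19 yd4 zd61) (kd xd5 yd20 zd58) (kd xd8 yd13 zd16) (kd xd6 yd52 zd27) (kd xd17 yd52 zd24) (kd xd11 yd54 zd56) (kd xd19 yd5 zd4) (kd xd15 yd19 zd13) (kd xd5 yd21 zd0) (kd xd18 yd45 zd20) (kd xd18 yd22 zd25) (kd xd19 yd5 zd9) (kd xd5 yd21 zd1) (kd xd5 yd21 zd2) (kd xd19 yd3 zd24) (kd xd19 yd3 zd25) (kd xd6 yd17 zd33) (kd xd15 yd1 zd14) (kd xd19 yd5 zd18) (kd xd15 yd36 zd41) (kd xd19 yd5 zd23) (kd xd19 yd5 zd27) (kd xd19 yd3 zd20) (kd xd9 yd5 zd56) (kd xd9 yd5 zd57) (kd xd5 yd21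 zd8) (kd xd7 yd36 zd35) (kd xd5 yd21 zd9) (kd xd19 yd5 zd33) (kd xd7 yd44 zd56) (kd xd5 yd21 zd10) (kd xd8 yd21 zd59) (kd xd16 yd50 zd44) (kd xd5 yd21 zd11) (kd xd19 yd5 zd41) (kd xd19 yd5 zd44) (kd xd5 yd21 zd12) (kd xd19 yd5 zd45) (kd xd16 yd41 zd50) (kd xd19 yd5 zd51) (kd xd14 yd46 zd51) (kd xd5 yd21 zd13) (kd xd8 yd33 zd41) (kd xd8 yd33 zd42) (kd xd11 yd52 zd4) (kd xd5 yd21 zd15) (kd xd19 yd5 zd60) (kd xd15 yd53 zd61) (kd xd19 yd6 zd2) (kd xd19 yd6 zd3) (kd xd5 yd21 zd16) (kd xd7 yd57 zd51) (kd xd7 yd57 zd47) (kd xd11 yd52 zd11) (kd xd19 yd6 zd15) (kd xd5 yd21 zd18) (kd xd19 yd6 zd19) (kd xd5 yd21 zd19) (kd xd19 yd6 zd22) (kd xd15 yd56 zd45) (kd xd15 yd38 zd29) (kd xd5 yd21 zd21)) (@D3.rec (fun _ => Pt) (kd xd19 yd6 zd26) (kd xd19 yd6 zd28) (kd xd15 yd16 zd23) (kd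 xd19 yd6 zd32) (kd xd19 yd6 zd36) (kd xd19 yd6 zd38) (kd xd5 yd21 zd23) (kd xd10 yd28 zd12) (kd xd12 yd28 zd55) (kd xd11 yd49 zd4) (kd xd10 yd43 zd10) (kd xd11 yd52 zd46) (kd xd15 yd19 zd56) (kd xd19 yd6 zd52) (kd xd5 yd21 zd28) (kd xd9 yd3 zd9) (kd xd8 yd44 zd36) (kd xd8 yd44 zd39) (kd xd19 yd6 zd57) (kd xd5 yd21 zd30) (kd xd19 yd6 zd61) (kd xd5 yd21 zd31) (kd xd10 yd39 zd30) (kd xd19 yd7 zd5) (kd xd5 yd21 zd32) (kd xd19 yd7 zd9) (kd xd19 yd7 zd13) (kd xd5 yd21 zd33) (kd xd5 yd21 zd46) (kd xd5 yd21 zd47) (kd xd19 yd7 zd21) (kd xd5 yd21 zd35) (kd xd7 yd47 zd15) (kd xd7 yd42 zd3) (kd xd5 yd23 zd14) (kd xd5 yd21 zd39) (kd xd19 yd7 zd28) (kd xd19 yd7 zd31) (kd xd5 yd21 zd41) (kd xd19 yd7 zd36) (kd xd18 yd56 zd32) (kd xd19 yd7 zd41) (kd xd19 yd7 zd43) (kd xd16 yd14 zd17)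 (kd xd8 yd21 zd34) (kd xd19 yd7 zd18) (kd xd14 yd31 zd3) (kd xd19 yd7 zd19) (kd xd19 yd7 zd14) (kd xd19 yd7 zd15) (kd xd19 yd7 zd55) (kd xd5 yd21 zd48) (kd xd19 yd8 zd1) (kd xd10 yd9 zd46) (kd xd10 yd9 zd45) (kd xd19 yd8 zd9) (kd xd19 yd8 zd12) (kd xd19 yd8 zd14) (kd xd5 yd21 zd50) (kd xd19 yd8 zd18) (kd xd19 yd8 zd19) (kd xd5 yd21 zd51)) (@D3.rec (fun _ => Pt) (kd xd19 yd8 zd22) (kd xd5 yd23 zd53) (kd xd14 yd39 zd25) (kd xd14 yd31 zd41) (kd xd19 yd8 zd27) (kd xd5 yd21 zd54) (kd xd19 yd8 zd34) (kd xd19 yd8 zd37) (kd xd19 yd3 zd54) (kd xd19 yd3 zd55) (kd xd5 yd21 zd56) (kd xd19 yd8 zd43) (kd xd19 yd8 zd44) (kd xd10 yd1 zd43) (kd xd19 yd8 zd47) (kd xd19 yd8 zd50) (kd xd19 yd8 zd53) (kd xd19 yd8 zd54) (kd xd5 yd21 zd60) (kd xd19 yd8 zd61) (kd xd10 yd9 zd44) (kd xd19 yd9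 zd3) (kd xd5 yd22 zd0) (kd xd19 yd9 zd7) (kd xd19 yd9 zd9) (kd xd19 yd9 zd12) (kd xd19 yd9 zd14) (kd xd5 yd22 zd1) (kd xd19 yd9 zd22) (kd xd19 yd9 zd26) (kd xd5 yd22 zd3) (kd xd19 yd9 zd29) (kd xd19 yd9 zd30) (kd xd19 yd9 zd33) (kd xd19 yd9 zd36) (kd xd6 yd46 zd27) (kd xd5 yd22 zd4) (kd xd19 yd9 zd43) (kd xd19 yd9 zd41) (kd xd19 yd9 zd47) (kd xd5 yd22 zd5) (kd xd5 yd22 zd6) (kd xd19 yd6 zd55) (kd xd12 yd56 zd31) (kd xd19 yd9 zd61) (kd xd5 yd25 zd26) (kd xd5 yd22 zd8) (kd xd19 yd10 zd6) (kd xd17 yd35 zd38) (kd xd13 yd44 zd21) (kd xd17 yd35 zd42) (kd xd19 yd10 zd13) (kd xd9 yd58 zd18) (kd xd19 yd10 zd18) (kd xd19 yd10 zd21) (kd xd19 yd10 zd25) (kd xd5 yd25 zd37) (kd xd11 yd30 zd3) (kd xd5 yd22 zd14) (kd xd19 yd10 zd29) (kd xd16 yd13 zd50) (kd xd12 yd20 zd30)) (@D3.rec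 (fun _ => Pt) (kd xd8 yd30 zd53) (kd xd10 yd55 zd50) (kd xd18 yd0 zd49) (kd xd8 yd43 zd56) (kd xd17 yd52 zd6) (kd xd19 yd10 zd38) (kd xd5 yd22 zd19) (kd xd14 yd47 zd53) (kd xd19 yd10 zd31) (kd xd17 yd8 zd57) (kd xd5 yd22 zd21) (kd xd11 yd51 zd49) (kd xd19 yd6 zd48) (kd xd15 yd32 zd3) (kd xd15 yd16 zd58) (kd xd5 yd22 zd25) (kd xd5 yd22 zd26) (kd xd17 yd29 zd38) (kd xd19 yd10 zd30) (kd xd7 yd30 zd0) (kd xd7 yd29 zd58) (kd xd8 yd6 zd60) (kd xd17 yd50 zd52) (kd xd19 yd10 zd52) (kd xd19 yd10 zd54) (kd xd16 yd0 zd15) (kd xd8 yd40 zd56) (kd xd17 yd50 zd50) (kd xd12 yd37 zd39) (kd xd18 yd19 zd29) (kd xd10 yd27 zd61) (kd xd19 yd11 zd0) (kd xd19 yd11 zd3) (kd xd17 yd52 zd18) (kd xd13 yd9 zd29) (kd xd5 yd22 zd37) (kd xd13 yd9 zd28) (kd xd19 yd11 zd6) (kd xd19 yd11 zd8) (kd xd18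 yd17 zd51) (kd xd15 yd41 zd60) (kd xd10 yd38 zd54) (kd xd19 yd11 zd12) (kd xd5 yd22 zd41) (kd xd15 yd28 zd35) (kd xd19 yd11 zd17) (kd xd5 yd22 zd44) (kd xd17 yd52 zd22) (kd xd17 yd52 zd23) (kd xd10 yd20 zd40) (kd xd18 yd39 zd9) (kd xd19 yd11 zd29) (kd xd19 yd11 zd31) (kd xd5 yd22 zd47) (kd xd19 yd11 zd34) (kd xd14 yd57 zd29) (kd xd19 yd11 zd35) (kd xd19 yd11 zd37) (kd xd5 yd25 zd23) (kd xd5 yd25 zd24) (kd xd10 yd41 zd24) (kd xd5 yd22 zd51)) (@D3.rec (fun _ => Pt) (kd xd19 yd11 zd44) (kd xd19 yd11 zd47) (kd xd19 yd11 zd50) (kd xd19 yd11 zd52) (kd xd5 yd22 zd53) (kd xd19 yd11 zd58) (kd xd19 yd12 zd0) (kd xd18 yd53 zd54) (kd xd5 yd22 zd54) (kd xd19 yd12 zd7) (kd xd19 yd12 zd9) (kd xd5 yd22 zd56) (kd xd19 yd12 zd12) (kd xd19 yd12 zd14) (kd xd19 yd12 zd17) (kd xd19 yd12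 zd19) (kd xd5 yd22 zd57) (kd xd19 yd12 zd26) (kd xd9 yd39 zd31) (kd xd19 yd12 zd29) (kd xd5 yd22 zd60) (kd xd19 yd12 zd37) (kd xd13 yd41 zd44) (kd xd5 yd22 zd61) (kd xd19 yd12 zd42) (kd xd10 yd20 zd36) (kd xd10 yd3 zd38) (kd xd5 yd23 zd0) (kd xd19 yd12 zd49) (kd xd5 yd23 zd1) (kd xd19 yd12 zd53) (kd xd5 yd24 zd10) (kd xd5 yd24 zd11) (kd xd14 yd37 zd60) (kd xd19 yd12 zd61) (kd xd19 yd13 zd2) (kd xd5 yd23 zd3) (kd xd19 yd13 zd5) (kd xd5 yd24 zd7) (kd xd19 yd13 zd9) (kd xd5 yd24 zd9) (kd xd19 yd7 zd20) (kd xd19 yd13 zd15) (kd xd19 yd13 zd17) (kd xd5 yd23 zd6) (kd xd19 yd13 zd21) (kd xd19 yd13 zd24) (kd xd5 yd23 zd7) (kd xd19 yd13 zd29) (kd xd15 yd35 zd2) (kd xd5 yd23 zd8) (kd xd11 yd44 zd39) (kd xd16 yd38 zd28) (kd xd9 yd4 zd5) (kd xd19 yd13 zd42) (kd xd5 yd23 zd10) (kd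 xd19 yd13 zd46) (kd xd19 yd13 zd48) (kd xd5 yd23 zd11) (kd xd19 yd13 zd52) (kd xd10 yd40 zd13) (kd xd5 yd23 zd13)) (@D3.rec (fun _ => Pt) (kd xd16 yd57 zd41) (kd xd19 yd13 zd57) (kd xd10 yd3 zd11) (kd xd19 yd13 zd59) (kd xd16 yd38 zd17) (kd xd16 yd38 zd18) (kd xd19 yd14 zd4) (kd xd5 yd23 zd17) (kd xd19 yd14 zd10) (kd xd5 yd23 zd19) (kd xd19 yd14 zd14) (kd xd5 yd23 zd20) (kd xd19 yd14 zd17) (kd xd11 yd52 zd13) (kd xd11 yd52 zd12) (kd xd6 yd4 zd26) (kd xd6 yd4 zd38) (kd xd6 yd4 zd39) (kd xd6 yd4 zd56) (kd xd19 yd14 zd9) (kd xd14 yd9 zd60) (kd xd19 yd14 zd30) (kd xd16 yd14 zd32) (kd xd19 yd14 zd32) (kd xd19 yd14 zd35) (kd xd19 yd14 zd37) (kd xd5 yd23 zd27) (kd xd19 yd14 zd45) (kd xd19 yd14 zd49) (kd xd19 yd14 zd52) (kd xd5 yd23 zd29) (kd xd19 yd14 zd56) (kd xd16 yd13 zd3)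 (kd xd15 yd20 zd25) (kd xd5 yd23 zd32) (kd xd14 yd58 zd29) (kd xd13 yd30 zd8) (kd xd16 yd20 zd23) (kd xd7 yd36 zd36) (kd xd5 yd23 zd34) (kd xd6 yd2 zd24) (kd xd19 yd15 zd3) (kd xd5 yd23 zd35) (kd xd10 yd20 zd22) (kd xd12 yd43 zd6) (kd xd19 yd15 zd5) (kd xd19 yd15 zd6) (kd xd5 yd23 zd38) (kd xd19 yd15 zd10) (kd xd19 yd15 zd14) (kd xd5 yd23 zd40) (kd xd11 yd0 zd2) (kd xd19 yd15 zd18) (kd xd5 yd23 zd41) (kd xd19 yd15 zd22) (kd xd5 yd23 zd42) (kd xd19 yd15 zd26) (kd xd5 yd24 zd36) (kd xd5 yd24 zd37) (kd xd19 yd15 zd32) (kd xd19 yd15 zd34) (kd xd19 yd15 zd38)) (@D3.rec (fun _ => Pt) (kd xd19 yd15 zd41) (kd xd5 yd23 zd44) (kd xd19 yd15 zd44) (kd xd19 yd15 zd46) (kd xd19 yd15 zd50) (kd xd5 yd23 zd45) (kd xd19 yd15 zd54) (kd xd19 yd15 zd57) (kd xd19 yd15 zd59) (kd xd5 yd23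 zd46) (kd xd5 yd42 zd2) (kd xd19 yd16 zd5) (kd xd5 yd23 zd47) (kd xd19 yd8 zd15) (kd xd19 yd4 zd43) (kd xd19 yd16 zd17) (kd xd5 yd23 zd49) (kd xd19 yd16 zd21) (kd xd19 yd16 zd23) (kd xd5 yd23 zd50) (kd xd9 yd3 zd8) (kd xd8 yd27 zd14) (kd xd5 yd23 zd52) (kd xd19 yd16 zd30) (kd xd19 yd16 zd31) (kd xd12 yd48 zd24) (kd xd19 yd16 zd35) (kd xd19 yd16 zd39) (kd xd5 yd23 zd55) (kd xd19 yd16 zd44) (kd xd19 yd16 zd47) (kd xd5 yd23 zd57) (kd xd19 yd16 zd50) (kd xd19 yd16 zd54) (kd xd5 yd23 zd58) (kd xd19 yd16 zd57) (kd xd19 yd16 zd60) (kd xd19 yd17 zd1) (kd xd9 yd45 zd57) (kd xd5 yd23 zd59) (kd xd6 yd4 zd20) (kd xd19 yd16 zd43) (kd xd10 yd20 zd21) (kd xd8 yd43 zd29) (kd xd19 yd10 zd39) (kd xd16 yd21 zd5) (kd xd5 yd24 zd0) (kd xd19 yd17 zd11) (kd xd17 yd13 zd31) (kd xd15 yd36 zd60)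 (kd xd15 yd36 zd56) (kd xd5 yd24 zd2) (kd xd19 yd17 zd16) (kd xd5 yd24 zd3) (kd xd10 yd35 zd41) (kd xd5 yd24 zd4) (kd xd18 yd39 zd51) (kd xd16 yd8 zd25) (kd xd18 yd46 zd19) (kd xd18 yd46 zd14) (kd xd19 yd13 zd6) (kd xd18 yd57 zd52)) (@D3.rec (fun _ => Pt) (kd xd5 yd24 zd8) (kd xd19 yd17 zd29) (kd xd19 yd17 zd32) (kd xd19 yd13 zd11) (kd xd19 yd12 zd54) (kd xd19 yd17 zd37) (kd xd19 yd17 zd38) (kd xd18 yd47 zd31) (kd xd19 yd17 zd40) (kd xd5 yd24 zd12) (kd xd19 yd17 zd43) (kd xd10 yd31 zd14) (kd xd10 yd31 zd15) (kd xd8 yd1 zd41) (kd xd19 yd17 zd46) (kd xd19 yd17 zd49) (kd xd19 yd17 zd52) (kd xd5 yd24 zd14) (kd xd19 yd17 zd57) (kd xd10 yd30 zd59) (kd xd19 yd18 zd0) (kd xd10 yd30 zd57) (kd xd18 yd56 zd55) (kd xd19 yd18 zd5) (kd xd19 yd18 zd8) (kd xd5 yd24 zd17) (kd xd19 yd18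 zd9) (kd xd9 yd3 zd33) (kd xd8 yd44 zd33) (kd xd19 yd7 zd32) (kd xd10 yd33 zd22) (kd xd8 yd44 zd21) (kd xd5 yd24 zd21) (kd xd16 yd54 zd49) (kd xd10 yd16 zd47) (kd xd16 yd54 zd47) (kd xd19 yd18 zd19) (kd xd5 yd37 zd7) (kd xd8 yd44 zd16) (kd xd15 yd9 zd2) (kd xd19 yd14 zd39) (kd xd19 yd14 zd40) (kd xd19 yd18 zd23) (kd xd5 yd24 zd30) (kd xd19 yd18 zd30) (kd xd19 yd18 zd33) (kd xd19 yd18 zd36) (kd xd5 yd24 zd32) (kd xd14 yd38 zd57) (kd xd15 yd18 zd61) (kd xd19 yd15 zd27) (kd xd19 yd18 zd41) (kd xd19 yd15 zd29) (kd xd19 yd18 zd43) (kd xd14 yd31 zd42) (kd xd5 yd24 zd38) (kd xd10 yd30 zd61) (kd xd10 yd31 zd0) (kd xd19 yd18 zd52) (kd xd13 yd19 zd38) (kd xd13 yd19 zd37) (kd xd7 yd46 zd5)) (@D3.rec (fun _ => Pt) (kd xd19 yd18 zd60) (kd xd15 yd51 zd43) (kd xd5 yd24 zd41) (kd xd19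 yd4 zd18) (kd xd19 yd19 zd4) (kd xd5 yd24 zd42) (kd xd19 yd19 zd6) (kd xd5 yd24 zd44) (kd xd19 yd19 zd12) (kd xd8 yd21 zd58) (kd xd5 yd24 zd46) (kd xd19 yd19 zd15) (kd xd19 yd19 zd16) (kd xd10 yd36 zd60) (kd xd19 yd19 zd18) (kd xd19 yd19 zd20) (kd xd19 yd19 zd25) (kd xd5 yd24 zd49) (kd xd19 yd19 zd28) (kd xd14 yd58 zd60) (kd xd19 yd19 zd34) (kd xd5 yd24 zd51) (kd xd11 yd40 zd58) (kd xd19 yd19 zd39) (kd xd19 yd19 zd40) (kd xd5 yd24 zd52) (kd xd19 yd19 zd42) (kd xd5 yd24 zd53) (kd xd16 yd54 zd7) (kd xd19 yd19 zd45) (kd xd16 yd26 zd59) (kd xd5 yd24 zd54) (kd xd15 yd20 zd34) (kd xd19 yd19 zd52) (kd xd19 yd19 zd54) (kd xd16 yd19 zd3) (kd xd16 yd54 zd8) (kd xd16 yd55 zd1) (kd xd16 yd55 zd2) (kd xd9 yd52 zd19) (kd xd9 yd52 zd59) (kd xd19 yd20 zd6) (kd xd8 yd21 zd40) (kd xd18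 yd55 zd18) (kd xd17 yd21 zd49) (kd xd16 yd54 zd10) (kd xd8 yd54 zd9) (kd xd5 yd25 zd1) (kd xd19 yd20 zd11) (kd xd15 yd2 zd40) (kd xd5 yd25 zd2) (kd xd19 yd20 zd16) (kd xd19 yd20 zd17) (kd xd5 yd25 zd3) (kd xd7 yd58 zd14) (kd xd19 yd20 zd19) (kd xd5 yd25 zd4) (kd xd19 yd20 zd25) (kd xd19 yd20 zd27) (kd xd19 yd20 zd30) (kd xd10 yd24 zd56) (kd xd13 yd4 zd46)) (@D3.rec (fun _ => Pt) (kd xd19 yd20 zd35) (kd xd14 yd21 zd47) (kd xd16 yd41 zd1) (kd xd16 yd41 zd2) (kd xd15 yd24 zd34) (kd xd13 yd3 zd1) (kd xd7 yd32 zd36) (kd xd5 yd25 zd8) (kd xd7 yd20 zd55) (kd xd5 yd25 zd11) (kd xd19 yd20 zd42) (kd xd19 yd20 zd43) (kd xd5 yd25 zd12) (kd xd19 yd20 zd46) (kd xd19 yd20 zd47) (kd xd19 yd20 zd48) (kd xd5 yd25 zd13) (kd xd19 yd20 zd55) (kd xd19 yd20 zd53) (kd xd16 yd45 zd11) (kd xd19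 yd20 zd58) (kd xd5 yd25 zd14) (kd xd19 yd21 zd1) (kd xd19 yd21 zd0) (kd xd10 yd35 zd60) (kd xd19 yd21 zd8) (kd xd18 yd45 zd15) (kd xd5 yd25 zd17) (kd xd19 yd21 zd12) (kd xd5 yd25 zd16) (kd xd19 yd21 zd15) (kd xd7 yd36 zd29) (kd xd16 yd22 zd39) (kd xd19 yd21 zd16) (kd xd5 yd25 zd18) (kd xd14 yd25 zd50) (kd xd5 yd25 zd19) (kd xd5 yd52 zd23) (kd xd19 yd21 zd24) (kd xd19 yd21 zd26) (kd xd19 yd21 zd28) (kd xd5 yd25 zd21) (kd xd7 yd36 zd25) (kd xd15 yd44 zd8) (kd xd15 yd44 zd7) (kd xd10 yd54 zd4) (kd xd19 yd9 zd51) (kd xd15 yd54 zd38) (kd xd19 yd21 zd42) (kd xd19 yd21 zd45) (kd xd19 yd11 zd38) (kd xd19 yd21 zd49) (kd xd19 yd21 zd51) (kd xd19 yd21 zd54) (kd xd19 yd21 zd55) (kd xd5 yd25 zd25) (kd xd19 yd22 zd1) (kd xd19 yd21 zd60) (kd xd19 yd22 zd6) (kd xd19 yd22 zd10) (kd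 xd19 yd10 zd0) (kd xd19 yd22 zd14)) (@D3.rec (fun _ => Pt) (kd xd11 yd1 zd33) (kd xd19 yd22 zd20) (kd xd5 yd25 zd28) (kd xd17 yd48 zd58) (kd xd16 yd17 zd5) (kd xd19 yd22 zd28) (kd xd19 yd22 zd30) (kd xd5 yd25 zd30) (kd xd19 yd22 zd34) (kd xd17 yd50 zd11) (kd xd19 yd22 zd38) (kd xd19 yd22 zd41) (kd xd10 yd54 zd7) (kd xd5 yd25 zd32) (kd xd19 yd22 zd46) (kd xd17 yd49 zd1) (kd xd17 yd48 zd32) (kd xd19 yd22 zd48) (kd xd5 yd25 zd34) (kd xd19 yd22 zd55) (kd xd19 yd22 zd57) (kd xd5 yd25 zd35) (kd xd19 yd23 zd0) (kd xd19 yd23 zd3) (kd xd19 yd23 zd4) (kd xd5 yd25 zd36) (kd xd19 yd23 zd7) (kd xd9 yd24 zd42) (kd xd9 yd5 zd55) (kd xd5 yd25 zd38) (kd xd11 yd46 zd56) (kd xd19 yd23 zd16) (kd xd5 yd25 zd39) (kd xd19 yd23 zd18) (kd xd14 yd13 zd52) (kd xd19 yd23 zd21) (kd xd5 yd25 zd40)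 (kd xd19 yd23 zd24) (kd xd16 yd55 zd4) (kd xd16 yd57 zd45) (kd xd6 yd12 zd41) (kd xd12 yd50 zd43) (kd xd5 yd25 zd42) (kd xd10 yd27 zd60) (kd xd7 yd44 zd40) (kd xd5 yd25 zd43) (kd xd19 yd23 zd29) (kd xd10 yd31 zd10) (kd xd19 yd23 zd32) (kd xd19 yd23 zd33) (kd xd5 yd25 zd46) (kd xd7 yd55 zd46) (kd xd19 yd23 zd36) (kd xd19 yd23 zd37) (kd xd19 yd23 zd41) (kd xd5 yd25 zd50) (kd xd10 yd20 zd7) (kd xd18 yd44 zd57) (kd xd9 yd25 zd18) (kd xd17 yd21 zd3) (kd xd10 yd25 zd8) (kd xd17 yd19 zd12)) (@D3.rec (fun _ => Pt) (kd xd19 yd23 zd57) (kd xd19 yd23 zd58) (kd xd5 yd25 zd55) (kd xd19 yd24 zd1) (kd xd5 yd26 zd23) (kd xd19 yd24 zd4) (kd xd19 yd24 zd6) (kd xd5 yd25 zd57) (kd xd19 yd24 zd9) (kd xd18 yd54 zd6) (kd xd10 yd33 zd10) (kd xd18 yd54 zd7) (kd xd5 yd28 zd10) (kd xd5 yd27 zd15)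 (kd xd5 yd27 zd16) (kd xd6 yd44 zd47) (kd xd9 yd32 zd8) (kd xd19 yd24 zd17) (kd xd5 yd26 zd0) (kd xd10 yd55 zd20) (kd xd12 yd43 zd59) (kd xd19 yd24 zd21) (kd xd5 yd26 zd1) (kd xd5 yd26 zd2) (kd xd11 yd28 zd54) (kd xd5 yd26 zd30) (kd xd5 yd26 zd31) (kd xd5 yd47 zd27) (kd xd6 yd30 zd20) (kd xd19 yd24 zd32) (kd xd5 yd26 zd6) (kd xd19 yd24 zd36) (kd xd5 yd26 zd7) (kd xd19 yd24 zd39) (kd xd19 yd24 zd43) (kd xd5 yd26 zd8) (kd xd15 yd19 zd29) (kd xd19 yd24 zd45) (kd xd5 yd26 zd9) (kd xd19 yd24 zd50) (kd xd12 yd58 zd27) (kd xd5 yd26 zd11) (kd xd9 yd22 zd60) (kd xd9 yd24 zd53) (kd xd11 yd26 zd2) (kd xd19 yd24 zd57) (kd xd5 yd26 zd14) (kd xd19 yd24 zd60) (kd xd19 yd25 zd0) (kd xd19 yd25 zd2) (kd xd5 yd26 zd49) (kd xd5 yd26 zd50) (kd xd19 yd25 zd8) (kd xd10 yd18 zd44) (kd xd5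 yd26 zd19) (kd xd19 yd25 zd11) (kd xd5 yd26 zd22) (kd xd19 yd24 zd2) (kd xd19 yd25 zd16) (kd xd19 yd23 zd60) (kd xd19 yd25 zd18) (kd xd5 yd26 zd24)) (@D3.rec (fun _ => Pt) (kd xd19 yd25 zd25) (kd xd6 yd5 zd47) (kd xd19 yd25 zd29) (kd xd19 yd25 zd32) (kd xd19 yd25 zd34) (kd xd5 yd26 zd26) (kd xd19 yd25 zd37) (kd xd19 yd25 zd39) (kd xd5 yd26 zd27) (kd xd15 yd41 zd21) (kd xd17 yd26 zd32) (kd xd8 yd17 zd20) (kd xd19 yd25 zd44) (kd xd6 yd42 zd22) (kd xd19 yd24 zd23) (kd xd19 yd25 zd45) (kd xd5 yd26 zd32) (kd xd19 yd25 zd46) (kd xd6 yd5 zd54) (kd xd14 yd50 zd6) (kd xd15 yd0 zd17) (kd xd5 yd26 zd34) (kd xd17 yd34 zd46) (kd xd5 yd26 zd36) (kd xd5 yd30 zd40) (kd xd6 yd29 zd12) (kd xd13 yd13 zd15) (kd xd5 yd26 zd38) (kd xd12 yd3 zd60) (kd xd15 yd3 zd57) (kd xd5 yd26 zd41) (kd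 xd5 yd39 zd36) (kd xd19 yd24 zd46) (kd xd19 yd24 zd47) (kd xd19 yd25 zd60) (kd xd5 yd26 zd43) (kd xd6 yd5 zd28) (kd xd6 yd5 zd29) (kd xd17 yd17 zd8) (kd xd16 yd43 zd20) (kd xd16 yd43 zd21) (kd xd5 yd26 zd45) (kd xd8 yd32 zd23) (kd xd19 yd26 zd13) (kd xd10 yd20 zd3) (kd xd19 yd26 zd16) (kd xd19 yd25 zd4) (kd xd11 yd25 zd2) (kd xd19 yd26 zd18) (kd xd19 yd26 zd20) (kd xd5 yd26 zd54) (kd xd17 yd22 zd34) (kd xd19 yd26 zd23) (kd xd11 yd15 zd18) (kd xd19 yd26 zd25) (kd xd19 yd26 zd28) (kd xd5 yd26 zd56) (kd xd19 yd26 zd35) (kd xd12 yd3 zd40) (kd xd19 yd26 zd39) (kd xd5 yd26 zd57) (kd xd5 yd26 zd58)) (@D3.rec (fun _ => Pt) (kd xd8 yd21 zd51) (kd xd19 yd26 zd43) (kd xd18 yd43 zd29) (kd xd19 yd26 zd45) (kd xd6 yd41 zd60) (kd xd15 yd37 zd56) (kd xd19 yd26 zd48) (kd xd19 yd26 zd50)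 (kd xd5 yd27 zd1) (kd xd6 yd7 zd4) (kd xd19 yd26 zd52) (kd xd19 yd26 zd53) (kd xd19 yd26 zd55) (kd xd19 yd26 zd56) (kd xd9 yd30 zd50) (kd xd19 yd26 zd59) (kd xd5 yd27 zd5) (kd xd19 yd27 zd1) (kd xd5 yd50 zd60) (kd xd19 yd27 zd3) (kd xd19 yd27 zd5) (kd xd19 yd27 zd8) (kd xd5 yd27 zd6) (kd xd19 yd27 zd17) (kd xd19 yd27 zd14) (kd xd19 yd27 zd19) (kd xd19 yd27 zd21) (kd xd19 yd27 zd22) (kd xd5 yd27 zd8) (kd xd11 yd14 zd19) (kd xd19 yd27 zd26) (kd xd19 yd27 zd27) (kd xd5 yd27 zd11) (kd xd19 yd27 zd32) (kd xd18 yd22 zd33) (kd xd17 yd58 zd21) (kd xd5 yd34 zd22) (kd xd17 yd32 zd19) (kd xd11 yd35 zd27) (kd xd10 yd4 zd37) (kd xd13 yd1 zd33) (kd xd5 yd27 zd17) (kd xd19 yd27 zd43) (kd xd17 yd4 zd42) (kd xd17 yd4 zd41) (kd xd5 yd34 zd33) (kd xd11 yd35 zd53) (kd xd11 yd35 zd54) (kd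 xd5 yd27 zd19) (kd xd6 yd45 zd18) (kd xd18 yd25 zd35) (kd xd17 yd13 zd10) (kd xd10 yd12 zd10) (kd xd8 yd59 zd46) (kd xd19 yd27 zd59) (kd xd19 yd28 zd0) (kd xd19 yd28 zd3) (kd xd19 yd28 zd5) (kd xd5 yd27 zd26) (kd xd19 yd4 zd8) (kd xd19 yd7 zd11) (kd xd19 yd28 zd16)) (@D3.rec (fun _ => Pt) (kd xd17 yd29 zd4) (kd xd5 yd27 zd28) (kd xd19 yd28 zd23) (kd xd5 yd27 zd29) (kd xd10 yd19 zd38) (kd xd19 yd28 zd28) (kd xd19 yd28 zd32) (kd xd7 yd40 zd24) (kd xd5 yd27 zd30) (kd xd7 yd9 zd48) (kd xd13 yd17 zd35) (kd xd19 yd28 zd39) (kd xd14 yd11 zd0) (kd xd19 yd28 zd42) (kd xd11 yd2 zd17) (kd xd18 yd44 zd31) (kd xd13 yd10 zd33) (kd xd19 yd28 zd7) (kd xd19 yd28 zd8) (kd xd19 yd28 zd51) (kd xd5 yd27 zd37) (kd xd19 yd28 zd57) (kd xd19 yd28 zd59) (kd xd19 yd28 zd60) (kd xd19 yd29 zd1)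 (kd xd5 yd27 zd39) (kd xd19 yd29 zd4) (kd xd19 yd29 zd6) (kd xd5 yd27 zd40) (kd xd8 yd29 zd6) (kd xd19 yd29 zd10) (kd xd19 yd29 zd14) (kd xd5 yd27 zd43) (kd xd19 yd29 zd18) (kd xd18 yd38 zd39) (kd xd16 yd34 zd44) (kd xd16 yd30 zd6) (kd xd18 yd44 zd28) (kd xd19 yd29 zd25) (kd xd5 yd27 zd45) (kd xd19 yd29 zd33) (kd xd19 yd29 zd37) (kd xd19 yd29 zd40) (kd xd5 yd27 zd47) (kd xd19 yd29 zd44) (kd xd19 yd29 zd46) (kd xd16 yd2 zd0) (kd xd16 yd2 zd1) (kd xd19 yd29 zd52) (kd xd5 yd27 zd50) (kd xd19 yd29 zd60) (kd xd19 yd30 zd2) (kd xd5 yd27 zd52) (kd xd19 yd30 zd6) (kd xd15 yd52 zd15) (kd xd15 yd52 zd16) (kd xd19 yd30 zd12) (kd xd5 yd27 zd53) (kd xd19 yd30 zd18) (kd xd19 yd30 zd22) (kd xd5 yd27 zd55) (kd xd19 yd30 zd26)) (@D3.rec (fun _ => Pt) (kd xd19 yd30 zd28) (kd xd10 yd58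 zd43) (kd xd5 yd27 zd56) (kd xd19 yd30 zd33) (kd xd19 yd30 zd37) (kd xd5 yd27 zd57) (kd xd19 yd30 zd42) (kd xd5 yd27 zd58) (kd xd7 yd15 zd26) (kd xd5 yd31 zd6) (kd xd5 yd31 zd7) (kd xd19 yd30 zd51) (kd xd7 yd39 zd33) (kd xd13 yd23 zd27) (kd xd5 yd27 zd60) (kd xd13 yd33 zd28) (kd xd13 yd33 zd27) (kd xd5 yd27 zd61) (kd xd6 yd43 zd24) (kd xd19 yd30 zd58) (kd xd5 yd28 zd0) (kd xd14 yd48 zd16) (kd xd5 yd28 zd1) (kd xd19 yd31 zd1) (kd xd18 yd44 zd32) (kd xd7 yd51 zd44) (kd xd13 yd19 zd20) (kd xd5 yd28 zd5) (kd xd15 yd59 zd27) (kd xd15 yd31 zd18) (kd xd19 yd31 zd9) (kd xd19 yd24 zd11) (kd xd19 yd31 zd15) (kd xd5 yd28 zd8) (kd xd19 yd31 zd20) (kd xd15 yd59 zd26) (kd xd19 yd31 zd25) (kd xd5 yd28 zd12) (kd xd19 yd31 zd30) (kd xd18 yd51 zd46) (kd xd19 yd31 zd35) (kd xd5 yd28 zd18)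 (kd xd16 yd37 zd1) (kd xd19 yd31 zd40) (kd xd16 yd41 zd40) (kd xd16 yd41 zd39) (kd xd19 yd31 zd44) (kd xd5 yd28 zd20) (kd xd19 yd31 zd50) (kd xd19 yd31 zd54) (kd xd19 yd31 zd57) (kd xd19 yd31 zd59) (kd xd5 yd28 zd22) (kd xd19 yd32 zd1) (kd xd19 yd32 zd3) (kd xd19 yd32 zd5) (kd xd5 yd28 zd23) (kd xd6 yd5 zd26) (kd xd19 yd32 zd8) (kd xd5 yd28 zd24) (kd xd19 yd32 zd11) (kd xd5 yd45 zd36)) (@D3.rec (fun _ => Pt) (kd xd19 yd32 zd12) (kd xd5 yd28 zd28) (kd xd16 yd53 zd39) (kd xd16 yd7 zd26) (kd xd16 yd55 zd54) (kd xd12 yd10 zd48) (kd xd19 yd32 zd21) (kd xd16 yd53 zd38) (kd xd11 yd15 zd4) (kd xd11 yd15 zd3) (kd xd5 yd28 zd31) (kd xd19 yd32 zd23) (kd xd12 yd31 zd10) (kd xd5 yd28 zd32) (kd xd19 yd32 zd26) (kd xd5 yd28 zd33) (kd xd5 yd28 zd35) (kd xd19 yd32 zd28) (kd xd19 yd32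 zd29) (kd xd5 yd28 zd37) (kd xd19 yd32 zd30) (kd xd5 yd28 zd38) (kd xd5 yd34 zd23) (kd xd19 yd21 zd53) (kd xd5 yd34 zd25) (kd xd19 yd21 zd50) (kd xd19 yd32 zd31) (kd xd19 yd27 zd45) (kd xd19 yd32 zd34) (kd xd19 yd32 zd36) (kd xd6 yd51 zd3) (kd xd12 yd25 zd1) (kd xd5 yd28 zd43) (kd xd5 yd28 zd44) (kd xd15 yd26 zd16) (kd xd10 yd12 zd16) (kd xd8 yd59 zd41) (kd xd9 yd50 zd55) (kd xd9 yd46 zd26) (kd xd19 yd32 zd47) (kd xd11 yd5 zd24) (kd xd9 yd46 zd28) (kd xd19 yd32 zd50) (kd xd19 yd32 zd52) (kd xd5 yd28 zd49) (kd xd9 yd46 zd48) (kd xd19 yd32 zd58) (kd xd19 yd32 zd61) (kd xd5 yd28 zd50) (kd xd19 yd33 zd4) (kd xd19 yd33 zd8) (kd xd19 yd33 zd10) (kd xd17 yd2 zd27) (kd xd19 yd33 zd16) (kd xd5 yd28 zd52) (kd xd11 yd7 zd37) (kd xd5 yd41 zd4) (kd xd5 yd28 zd53) (kd xd19 yd33 zd19)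 (kd xd5 yd28 zd55) (kd xd5 yd49 zd16) (kd xd8 yd57 zd40)) (@D3.rec (fun _ => Pt) (kd xd5 yd30 zd34) (kd xd8 yd57 zd43) (kd xd18 yd26 zd1) (kd xd9 yd43 zd8) (kd xd9 yd43 zd9) (kd xd9 yd55 zd60) (kd xd10 yd2 zd41) (kd xd5 yd28 zd61) (kd xd5 yd29 zd0) (kd xd10 yd26 zd39) (kd xd8 yd59 zd51) (kd xd18 yd35 zd5) (kd xd12 yd10 zd61) (kd xd17 yd53 zd35) (kd xd5 yd29 zd2) (kd xd9 yd46 zd19) (kd xd19 yd33 zd26) (kd xd19 yd33 zd28) (kd xd19 yd33 zd31) (kd xd5 yd29 zd3) (kd xd19 yd33 zd39) (kd xd19 yd33 zd43) (kd xd14 yd8 zd3) (kd xd19 yd33 zd46) (kd xd5 yd29 zd5) (kd xd19 yd33 zd50) (kd xd16 yd48 zd46) (kd xd19 yd33 zd53) (kd xd16 yd39 zd46) (kd xd5 yd29 zd6) (kd xd19 yd33 zd60) (kd xd19 yd34 zd0) (kd xd5 yd29 zd7) (kd xd19 yd34 zd6) (kd xd19 yd34 zd9) (kd xd17 yd18 zd7) (kd xd12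 yd30 zd32) (kd xd5 yd29 zd9) (kd xd19 yd34 zd13) (kd xd19 yd34 zd15) (kd xd5 yd31 zd33) (kd xd19 yd34 zd17) (kd xd17 yd16 zd35) (kd xd5 yd31 zd36) (kd xd19 yd34 zd22) (kd xd19 yd24 zd24) (kd xd19 yd34 zd24) (kd xd19 yd34 zd27) (kd xd5 yd29 zd14) (kd xd19 yd34 zd34) (kd xd8 yd0 zd9) (kd xd19 yd34 zd37) (kd xd10 yd5 zd2) (kd xd19 yd34 zd40) (kd xd5 yd29 zd17) (kd xd19 yd34 zd46) (kd xd19 yd34 zd48) (kd xd15 yd40 zd58) (kd xd19 yd34 zd53) (kd xd19 yd34 zd54) (kd xd19 yd34 zd57) (kd xd5 yd29 zd19)) (@D3.rec (fun _ => Pt) (kd xd19 yd35 zd1) (kd xd5 yd29 zd20) (kd xd8 yd16 zd41) (kd xd15 yd34 zd39) (kd xd19 yd35 zd8) (kd xd19 yd35 zd9) (kd xd15 yd51 zd22) (kd xd19 yd35 zd12) (kd xd19 yd35 zd16) (kd xd19 yd35 zd18) (kd xd5 yd29 zd25) (kd xd19 yd35 zd25) (kd xd19 yd35 zd28)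 (kd xd8 yd7 zd59) (kd xd5 yd29 zd27) (kd xd19 yd35 zd33) (kd xd19 yd35 zd35) (kd xd10 yd50 zd17) (kd xd19 yd35 zd38) (kd xd5 yd29 zd31) (kd xd19 yd35 zd41) (kd xd15 yd38 zd7) (kd xd11 yd2 zd58) (kd xd10 yd24 zd17) (kd xd8 yd26 zd41) (kd xd15 yd38 zd8) (kd xd6 yd33 zd18) (kd xd19 yd35 zd50) (kd xd17 yd51 zd14) (kd xd8 yd26 zd48) (kd xd19 yd35 zd53) (kd xd19 yd35 zd57) (kd xd15 yd40 zd50) (kd xd19 yd36 zd0) (kd xd5 yd29 zd39) (kd xd19 yd36 zd4) (kd xd19 yd36 zd6) (kd xd5 yd29 zd40) (kd xd15 yd1 zd51) (kd xd5 yd29 zd41) (kd xd17 yd45 zd6) (kd xd19 yd36 zd9) (kd xd5 yd29 zd43) (kd xd15 yd15 zd49) (kd xd15 yd15 zd50) (kd xd19 yd36 zd17) (kd xd5 yd29 zd45) (kd xd12 yd33 zd17) (kd xd12 yd52 zd47) (kd xd12 yd20 zd60) (kd xd15 yd40 zd56) (kd xd15 yd40 zd57) (kd xd19 yd36 zd31)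 (kd xd5 yd29 zd48) (kd xd15 yd35 zd27) (kd xd19 yd36 zd38) (kd xd16 yd2 zd33) (kd xd8 yd31 zd2) (kd xd15 yd41 zd10) (kd xd5 yd29 zd51) (kd xd17 yd11 zd39) (kd xd19 yd36 zd48)) (@D3.rec (fun _ => Pt) (kd xd19 yd36 zd50) (kd xd5 yd29 zd53) (kd xd15 yd39 zd4) (kd xd6 yd28 zd9) (kd xd5 yd29 zd56) (kd xd16 yd26 zd55) (kd xd16 yd26 zd52) (kd xd19 yd36 zd59) (kd xd5 yd29 zd57) (kd xd15 yd59 zd32) (kd xd15 yd57 zd3) (kd xd19 yd37 zd5) (kd xd19 yd37 zd7) (kd xd5 yd29 zd60) (kd xd19 yd37 zd11) (kd xd19 yd37 zd14) (kd xd5 yd29 zd61) (kd xd19 yd37 zd18) (kd xd5 yd30 zd0) (kd xd19 yd37 zd23) (kd xd5 yd32 zd17) (kd xd5 yd32 zd18) (kd xd19 yd37 zd33) (kd xd17 yd32 zd37) (kd xd19 yd37 zd39) (kd xd19 yd37 zd42) (kd xd5 yd30 zd2) (kd xd19 yd37 zd45) (kd xd5 yd32 zd14) (kd xd18 yd51 zd30)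 (kd xd5 yd32 zd15) (kd xd19 yd37 zd52) (kd xd19 yd37 zd56) (kd xd19 yd37 zd60) (kd xd5 yd30 zd5) (kd xd19 yd38 zd1) (kd xd16 yd8 zd16) (kd xd15 yd39 zd35) (kd xd5 yd30 zd6) (kd xd15 yd19 zd26) (kd xd8 yd7 zd61) (kd xd5 yd30 zd7) (kd xd19 yd38 zd10) (kd xd19 yd38 zd13) (kd xd19 yd38 zd18) (kd xd5 yd30 zd9) (kd xd19 yd38 zd22) (kd xd19 yd38 zd25) (kd xd5 yd30 zd10) (kd xd19 yd38 zd31) (kd xd19 yd38 zd34) (kd xd5 yd30 zd13) (kd xd19 yd38 zd38) (kd xd5 yd30 zd14) (kd xd19 yd4 zd36) (kd xd19 yd38 zd41) (kd xd5 yd30 zd15) (kd xd15 yd20 zd8) (kd xd19 yd38 zd46) (kd xd17 yd29 zd18) (kd xd5 yd30 zd16) (kd xd15 yd39 zd43)) (@D3.rec (fun _ => Pt) (kd xd15 yd57 zd59) (kd xd15 yd31 zd27) (kd xd15 yd47 zd9) (kd xd15 yd47 zd10) (kd xd19 yd38 zd56) (kd xd5 yd30 zd19) (kd xd19 yd38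 zd49) (kd xd19 yd39 zd0) (kd xd19 yd39 zd2) (kd xd5 yd30 zd21) (kd xd19 yd39 zd8) (kd xd19 yd39 zd10) (kd xd19 yd39 zd11) (kd xd19 yd39 zd14) (kd xd5 yd30 zd22) (kd xd19 yd39 zd19) (kd xd19 yd39 zd22) (kd xd6 yd31 zd13) (kd xd5 yd30 zd24) (kd xd16 yd45 zd1) (kd xd17 yd53 zd19) (kd xd19 yd39 zd26) (kd xd5 yd30 zd25) (kd xd19 yd39 zd30) (kd xd19 yd39 zd32) (kd xd5 yd30 zd26) (kd xd19 yd39 zd37) (kd xd19 yd39 zd40) (kd xd19 yd39 zd43) (kd xd19 yd39 zd44) (kd xd5 yd30 zd28) (kd xd19 yd39 zd46) (kd xd19 yd39 zd48) (kd xd16 yd44 zd44) (kd xd19 yd39 zd51) (kd xd5 yd30 zd30) (kd xd19 yd39 zd53) (kd xd5 yd32 zd34) (kd xd19 yd39 zd56) (kd xd19 yd25 zd5) (kd xd5 yd32 zd36) (kd xd19 yd39 zd60) (kd xd10 yd4 zd51) (kd xd19 yd39 zd61) (kd xd5 yd30 zd33) (kd xd19 yd40 zd4) (kd xd9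 yd44 zd13) (kd xd19 yd40 zd8) (kd xd5 yd39 zd7) (kd xd5 yd30 zd35) (kd xd14 yd50 zd11) (kd xd16 yd47 zd6) (kd xd19 yd40 zd16) (kd xd5 yd30 zd36) (kd xd19 yd40 zd19) (kd xd19 yd40 zd21) (kd xd19 yd37 zd22) (kd xd5 yd30 zd38) (kd xd11 yd8 zd34) (kd xd6 yd19 zd23) (kd xd8 yd34 zd50) (kd xd8 yd34 zd48)) (@D3.rec (fun _ => Pt) (kd xd9 yd6 zd44) (kd xd15 yd3 zd13) (kd xd5 yd30 zd43) (kd xd9 yd32 zd33) (kd xd6 yd19 zd19) (kd xd12 yd14 zd30) (kd xd19 yd40 zd33) (kd xd5 yd30 zd47) (kd xd10 yd58 zd40) (kd xd8 yd59 zd43) (kd xd9 yd38 zd58) (kd xd8 yd34 zd45) (kd xd19 yd40 zd41) (kd xd8 yd54 zd5) (kd xd5 yd30 zd50) (kd xd16 yd51 zd4) (kd xd16 yd5 zd36) (kd xd5 yd30 zd51) (kd xd6 yd35 zd12) (kd xd6 yd45 zd0) (kd xd16 yd51 zd6) (kd xd6 yd9 zd50) (kd xd12 yd27 zd60) (kd xd6 yd18 zd31)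 (kd xd6 yd59 zd1) (kd xd19 yd28 zd34) (kd xd19 yd28 zd35) (kd xd19 yd40 zd56) (kd xd5 yd30 zd60) (kd xd19 yd41 zd0) (kd xd18 yd4 zd24) (kd xd18 yd54 zd52) (kd xd19 yd41 zd4) (kd xd5 yd31 zd0) (kd xd15 yd30 zd54) (kd xd19 yd41 zd7) (kd xd5 yd31 zd1) (kd xd18 yd46 zd59) (kd xd10 yd2 zd9) (kd xd19 yd41 zd12) (kd xd19 yd41 zd14) (kd xd16 yd2 zd2) (kd xd19 yd41 zd19) (kd xd5 yd31 zd5) (kd xd19 yd30 zd45) (kd xd11 yd28 zd21) (kd xd19 yd41 zd27) (kd xd19 yd30 zd46) (kd xd5 yd31 zd8) (kd xd16 yd8 zd33) (kd xd8 yd56 zd33) (kd xd8 yd56 zd34) (kd xd19 yd41 zd42) (kd xd19 yd41 zd44) (kd xd14 yd58 zd50) (kd xd14 yd58 zd49) (kd xd5 yd31 zd10) (kd xd12 yd7 zd20) (kd xd8 yd56 zd29) (kd xd19 yd41 zd54) (kd xd8 yd56 zd31) (kd xd19 yd41 zd60)) (@D3.rec (fun _ => Pt) (kd xd10 yd21 zd21)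 (kd xd10 yd21 zd19) (kd xd5 yd31 zd13) (kd xd15 yd30 zd50) (kd xd10 yd41 zd45) (kd xd5 yd31 zd14) (kd xd7 yd38 zd2) (kd xd10 yd42 zd12) (kd xd5 yd31 zd15) (kd xd19 yd42 zd7) (kd xd17 yd50 zd8) (kd xd5 yd31 zd17) (kd xd17 yd38 zd24) (kd xd5 yd31 zd18) (kd xd10 yd23 zd44) (kd xd19 yd42 zd14) (kd xd5 yd31 zd19) (kd xd7 yd41 zd16) (kd xd10 yd25 zd9) (kd xd19 yd23 zd43) (kd xd19 yd42 zd17) (kd xd5 yd31 zd22) (kd xd18 yd38 zd37) (kd xd19 yd42 zd23) (kd xd5 yd31 zd23) (kd xd19 yd42 zd25) (kd xd19 yd23 zd44) (kd xd10 yd2 zd10) (kd xd19 yd22 zd44) (kd xd5 yd31 zd26) (kd xd19 yd42 zd32) (kd xd5 yd31 zd27) (kd xd19 yd42 zd33) (kd xd19 yd42 zd35) (kd xd5 yd31 zd28) (kd xd19 yd42 zd38) (kd xd19 yd42 zd40) (kd xd16 yd57 zd53) (kd xd19 yd42 zd42) (kd xd5 yd31 zd30) (kd xd19 yd42 zd48)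 (kd xd15 yd30 zd44) (kd xd15 yd30 zd43) (kd xd5 yd31 zd31) (kd xd8 yd59 zd52) (kd xd8 yd59 zd56) (kd xd15 yd26 zd8) (kd xd12 yd11 zd2) (kd xd6 yd41 zd54) (kd xd19 yd42 zd58) (kd xd19 yd7 zd6) (kd xd5 yd31 zd34) (kd xd17 yd21 zd13) (kd xd11 yd24 zd59) (kd xd5 yd31 zd35) (kd xd19 yd34 zd19) (kd xd19 yd43 zd2) (kd xd19 yd43 zd3) (kd xd5 yd31 zd37) (kd xd19 yd43 zd6) (kd xd11 yd12 zd44) (kd xd9 yd3 zd38)) (@D3.rec (fun _ => Pt) (kd xd11 yd23 zd55) (kd xd5 yd31 zd39) (kd xd11 yd11 zd61) (kd xd8 yd56 zd43) (kd xd19 yd43 zd18) (kd xd12 yd30 zd59) (kd xd8 yd56 zd46) (kd xd19 yd43 zd26) (kd xd19 yd43 zd29) (kd xd19 yd43 zd33) (kd xd19 yd43 zd36) (kd xd5 yd31 zd42) (kd xd12 yd55 zd25) (kd xd17 yd12 zd28) (kd xd19 yd43 zd43) (kd xd9 yd1 zd53) (kd xd14 yd58 zd47) (kd xd15 yd4 zd18)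 (kd xd14 yd58 zd44) (kd xd12 yd48 zd57) (kd xd10 yd43 zd19) (kd xd5 yd36 zd39) (kd xd19 yd43 zd54) (kd xd11 yd31 zd22) (kd xd11 yd12 zd32) (kd xd11 yd12 zd31) (kd xd5 yd31 zd51) (kd xd19 yd43 zd56) (kd xd17 yd9 zd9) (kd xd5 yd31 zd53) (kd xd19 yd43 zd59) (kd xd19 yd29 zd21) (kd xd6 yd23 zd42) (kd xd10 yd11 zd31) (kd xd6 yd45 zd59) (kd xd6 yd46 zd44) (kd xd6 yd45 zd60) (kd xd9 yd46 zd51) (kd xd19 yd44 zd1) (kd xd5 yd31 zd61) (kd xd19 yd44 zd5) (kd xd17 yd49 zd20) (kd xd5 yd32 zd2) (kd xd17 yd8 zd24) (kd xd11 yd20 zd47) (kd xd11 yd28 zd43) (kd xd14 yd36 zd7) (kd xd5 yd32 zd5) (kd xd9 yd40 zd55) (kd xd9 yd40 zd54) (kd xd10 yd35 zd1) (kd xd5 yd32 zd6) (kd xd9 yd43 zd37) (kd xd9 yd43 zd38) (kd xd9 yd57 zd57) (kd xd19 yd28 zd36) (kd xd19 yd35 zd20) (kd xd19 yd44 zd24) (kd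 xd5 yd32 zd8) (kd xd19 yd44 zd32) (kd xd19 yd44 zd36) (kd xd19 yd44 zd39)) (@D3.rec (fun _ => Pt) (kd xd19 yd44 zd41) (kd xd5 yd32 zd10) (kd xd19 yd44 zd45) (kd xd19 yd44 zd47) (kd xd19 yd44 zd49) (kd xd19 yd44 zd51) (kd xd19 yd44 zd54) (kd xd19 yd37 zd46) (kd xd16 yd26 zd49) (kd xd16 yd26 zd45) (kd xd19 yd37 zd50) (kd xd19 yd45 zd1) (kd xd5 yd32 zd16) (kd xd19 yd37 zd25) (kd xd19 yd37 zd28) (kd xd19 yd45 zd10) (kd xd5 yd32 zd19) (kd xd19 yd45 zd15) (kd xd8 yd55 zd54) (kd xd8 yd55 zd55) (kd xd13 yd35 zd55) (kd xd19 yd45 zd25) (kd xd19 yd45 zd27) (kd xd19 yd45 zd30) (kd xd5 yd32 zd21) (kd xd19 yd45 zd35) (kd xd8 yd55 zd50) (kd xd8 yd55 zd52) (kd xd6 yd48 zd28) (kd xd19 yd45 zd42) (kd xd19 yd45 zd46) (kd xd5 yd32 zd24) (kd xd19 yd45 zd51) (kd xd19 yd45 zd54) (kd xd9 yd42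 zd27) (kd xd5 yd32 zd25) (kd xd19 yd35 zd31) (kd xd19 yd45 zd61) (kd xd9 yd42 zd28) (kd xd5 yd32 zd26) (kd xd19 yd36 zd42) (kd xd15 yd31 zd13) (kd xd15 yd31 zd12) (kd xd19 yd46 zd11) (kd xd5 yd32 zd28) (kd xd19 yd46 zd15) (kd xd19 yd46 zd18) (kd xd5 yd32 zd29) (kd xd19 yd46 zd25) (kd xd19 yd46 zd28) (kd xd5 yd32 zd32) (kd xd16 yd0 zd32) (kd xd5 yd32 zd33) (kd xd19 yd46 zd32) (kd xd19 yd39 zd54) (kd xd19 yd46 zd35) (kd xd19 yd46 zd37) (kd xd9 yd47 zd1) (kd xd5 yd32 zd35) (kd xd14 yd20 zd16) (kd xd5 yd32 zd37) (kd xd19 yd46 zd43)) (@D3.rec (fun _ => Pt) (kd xd11 yd58 zd15) (kd xd5 yd32 zd38) (kd xd13 yd35 zd51) (kd xd12 yd29 zd44) (kd xd9 yd50 zd37) (kd xd12 yd29 zd48) (kd xd8 yd56 zd11) (kd xd19 yd46 zd55) (kd xd19 yd46 zd58) (kd xd8 yd56 zd14) (kd xd19 yd46 zd60) (kd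 xd19 yd47 zd0) (kd xd16 yd26 zd54) (kd xd5 yd32 zd43) (kd xd13 yd45 zd15) (kd xd6 yd26 zd55) (kd xd12 yd44 zd41) (kd xd19 yd47 zd10) (kd xd5 yd32 zd45) (kd xd19 yd39 zd52) (kd xd19 yd47 zd12) (kd xd19 yd47 zd14) (kd xd5 yd32 zd46) (kd xd19 yd47 zd16) (kd xd5 yd52 zd4) (kd xd12 yd57 zd41) (kd xd19 yd47 zd19) (kd xd9 yd8 zd16) (kd xd6 yd45 zd43) (kd xd6 yd45 zd49) (kd xd19 yd47 zd22) (kd xd5 yd32 zd53) (kd xd19 yd47 zd25) (kd xd5 yd32 zd55) (kd xd19 yd47 zd27) (kd xd16 yd10 zd42) (kd xd19 yd47 zd30) (kd xd19 yd47 zd33) (kd xd5 yd32 zd56) (kd xd19 yd47 zd41) (kd xd16 yd25 zd28) (kd xd17 yd3 zd22) (kd xd11 yd58 zd25) (kd xd5 yd32 zd58) (kd xd19 yd47 zd48) (kd xd5 yd32 zd59) (kd xd16 yd25 zd29) (kd xd11 yd38 zd61) (kd xd19 yd47 zd52) (kd xd5 yd32 zd61) (kd xd19 yd47 zd58)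 (kd xd19 yd47 zd61) (kd xd16 yd53 zd30) (kd xd9 yd3 zd47) (kd xd5 yd33 zd1) (kd xd17 yd6 zd32) (kd xd17 yd56 zd28) (kd xd5 yd33 zd2) (kd xd19 yd48 zd8) (kd xd16 yd28 zd1) (kd xd5 yd33 zd3) (kd xd9 yd0 zd47)) (@D3.rec (fun _ => Pt) (kd xd9 yd0 zd48) (kd xd19 yd48 zd22) (kd xd19 yd48 zd26) (kd xd19 yd48 zd30) (kd xd19 yd48 zd32) (kd xd5 yd33 zd5) (kd xd19 yd48 zd35) (kd xd9 yd0 zd61) (kd xd15 yd25 zd18) (kd xd19 yd48 zd39) (kd xd19 yd48 zd40) (kd xd11 yd22 zd48) (kd xd11 yd12 zd28) (kd xd11 yd12 zd29) (kd xd5 yd33 zd8) (kd xd12 yd34 zd39) (kd xd18 yd48 zd22) (kd xd18 yd48 zd30) (kd xd5 yd43 zd3) (kd xd9 yd3 zd39) (kd xd16 yd4 zd31) (kd xd16 yd4 zd30) (kd xd5 yd33 zd11) (kd xd17 yd9 zd35) (kd xd12 yd54 zd47) (kd xd12 yd54 zd60) (kd xd19 yd48 zd55) (kd xd5 yd33 zd13) (kd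 xd15 yd49 zd21) (kd xd11 yd31 zd27) (kd xd8 yd21 zd54) (kd xd19 yd15 zd58) (kd xd19 yd48 zd60) (kd xd11 yd24 zd2) (kd xd11 yd24 zd1) (kd xd5 yd33 zd17) (kd xd19 yd49 zd1) (kd xd19 yd49 zd4) (kd xd5 yd33 zd19) (kd xd10 yd3 zd51) (kd xd10 yd53 zd8) (kd xd5 yd46 zd18) (kd xd9 yd31 zd45) (kd xd10 yd47 zd1) (kd xd5 yd33 zd23) (kd xd11 yd1 zd46) (kd xd5 yd33 zd25) (kd xd19 yd49 zd9) (kd xd14 yd51 zd17) (kd xd19 yd49 zd14) (kd xd5 yd33 zd26) (kd xd19 yd49 zd16) (kd xd18 yd43 zd28) (kd xd19 yd49 zd18) (kd xd16 yd56 zd29) (kd xd19 yd49 zd21) (kd xd5 yd33 zd28) (kd xd6 yd42 zd28) (kd xd15 yd9 zd21) (kd xd5 yd33 zd29) (kd xd19 yd49 zd30) (kd xd19 yd49 zd31)) (@D3.rec (fun _ => Pt) (kd xd6 yd42 zd29) (kd xd6 yd29 zd47) (kd xd19 yd49 zd36) (kd xd19 yd49 zd38) (kd xd12 yd32 zd45)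 (kd xd15 yd53 zd44) (kd xd15 yd53 zd47) (kd xd19 yd49 zd43) (kd xd19 yd49 zd45) (kd xd19 yd49 zd48) (kd xd5 yd33 zd37) (kd xd19 yd49 zd52) (kd xd8 yd59 zd58) (kd xd16 yd10 zd59) (kd xd7 yd29 zd20) (kd xd8 yd59 zd61) (kd xd19 yd49 zd61) (kd xd12 yd32 zd27) (kd xd19 yd50 zd1) (kd xd14 yd10 zd51) (kd xd5 yd33 zd40) (kd xd19 yd50 zd7) (kd xd17 yd31 zd51) (kd xd19 yd37 zd21) (kd xd17 yd31 zd54) (kd xd17 yd32 zd25) (kd xd19 yd37 zd37) (kd xd14 yd49 zd6) (kd xd5 yd33 zd45) (kd xd19 yd33 zd33) (kd xd5 yd33 zd46) (kd xd6 yd15 zd53) (kd xd19 yd50 zd16) (kd xd5 yd33 zd47) (kd xd19 yd50 zd21) (kd xd19 yd5 zd5) (kd xd16 yd52 zd54) (kd xd5 yd33 zd49) (kd xd19 yd50 zd23) (kd xd5 yd33 zd50) (kd xd5 yd33 zd51) (kd xd17 yd15 zd44) (kd xd15 yd27 zd54) (kd xd5 yd33 zd52) (kd xd19 yd50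 zd31) (kd xd11 yd9 zd61) (kd xd16 yd5 zd51) (kd xd16 yd53 zd19) (kd xd5 yd33 zd55) (kd xd11 yd17 zd53) (kd xd9 yd10 zd28) (kd xd5 yd33 zd54) (kd xd19 yd50 zd43) (kd xd9 yd8 zd44) (kd xd19 yd50 zd44) (kd xd5 yd33 zd56) (kd xd11 yd58 zd52) (kd xd5 yd33 zd57) (kd xd19 yd50 zd49) (kd xd19 yd50 zd50) (kd xd5 yd33 zd58) (kd xd19 yd50 zd53))
def f_d_11 : D2 → D3 → Pt := @D2.rec (fun _ => D3 → Pt) (@D3.rec (fun _ => Pt) (kd xd18 yd33 zd22) (kd xd16 yd43 zd48) (kd xd10 yd37 zd51) (kd xd19 yd21 zd57) (kd xd19 yd51 zd3) (kd xd5 yd33 zd61) (kd xd11 yd34 zd22) (kd xd11 yd34 zd26) (kd xd5 yd33 zd60) (kd xd19 yd51 zd10) (kd xd7 yd36 zd7) (kd xd19 yd51 zd13) (kd xd15 yd4 zd56) (kd xd19 yd51 zd18) (kd xd19 yd51 zd20) (kd xd14 yd22 zd4) (kd xd5 yd34 zd1) (kd xd19 yd51 zd22) (kd xd14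 yd21 zd57) (kd xd19 yd51 zd23) (kd xd16 yd52 zd55) (kd xd9 yd8 zd46) (kd xd12 yd54 zd3) (kd xd16 yd27 zd59) (kd xd5 yd34 zd6) (kd xd5 yd34 zd8) (kd xd19 yd33 zd34) (kd xd5 yd34 zd9) (kd xd11 yd41 zd52) (kd xd19 yd51 zd30) (kd xd5 yd34 zd10) (kd xd19 yd51 zd36) (kd xd19 yd51 zd38) (kd xd19 yd27 zd34) (kd xd18 yd22 zd41) (kd xd10 yd18 zd7) (kd xd5 yd34 zd12) (kd xd9 yd8 zd47) (kd xd5 yd34 zd13) (kd xd7 yd36 zd28) (kd xd19 yd21 zd58) (kd xd7 yd36 zd30) (kd xd13 yd23 zd8) (kd xd13 yd49 zd49) (kd xd7 yd36 zd6) (kd xd14 yd41 zd42) (kd xd5 yd34 zd16) (kd xd7 yd48 zd25) (kd xd6 yd1 zd45) (kd xd5 yd34 zd17) (kd xd19 yd27 zd46) (kd xd5 yd34 zd18) (kd xd19 yd51 zd49) (kd xd5 yd34 zd21) (kd xd19 yd51 zd53) (kd xd9 yd11 zd10) (kd xd9 yd11 zd11) (kd xd19 yd27 zd36) (kd xd16 yd49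 zd25) (kd xd19 yd51 zd21) (kd xd19 yd20 zd0) (kd xd19 yd51 zd60)) (@D3.rec (fun _ => Pt) (kd xd5 yd34 zd24) (kd xd18 yd55 zd48) (kd xd19 yd52 zd2) (kd xd5 yd34 zd26) (kd xd19 yd52 zd7) (kd xd16 yd43 zd46) (kd xd5 yd34 zd27) (kd xd12 yd10 zd27) (kd xd5 yd34 zd28) (kd xd19 yd20 zd60) (kd xd19 yd21 zd21) (kd xd19 yd20 zd40) (kd xd19 yd52 zd16) (kd xd19 yd52 zd19) (kd xd19 yd52 zd22) (kd xd5 yd34 zd30) (kd xd19 yd52 zd27) (kd xd9 yd30 zd12) (kd xd19 yd52 zd33) (kd xd5 yd34 zd31) (kd xd8 yd0 zd16) (kd xd19 yd52 zd37) (kd xd19 yd52 zd38) (kd xd19 yd52 zd40) (kd xd7 yd36 zd20) (kd xd5 yd34 zd34) (kd xd19 yd52 zd44) (kd xd19 yd52 zd46) (kd xd7 yd36 zd21) (kd xd5 yd34 zd35) (kd xd19 yd52 zd50) (kd xd17 yd2 zd7) (kd xd17 yd2 zd8) (kd xd10 yd42 zd0) (kd xd19 yd47 zd60) (kd xd19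 yd48 zd44) (kd xd19 yd48 zd45) (kd xd5 yd34 zd38) (kd xd19 yd48 zd21) (kd xd19 yd50 zd2) (kd xd19 yd50 zd3) (kd xd5 yd34 zd40) (kd xd19 yd53 zd1) (kd xd16 yd45 zd31) (kd xd5 yd34 zd41) (kd xd10 yd4 zd5) (kd xd10 yd58 zd45) (kd xd11 yd38 zd37) (kd xd9 yd12 zd49) (kd xd9 yd12 zd61) (kd xd19 yd53 zd7) (kd xd11 yd12 zd24) (kd xd8 yd12 zd3) (kd xd9 yd15 zd44) (kd xd5 yd34 zd47) (kd xd9 yd10 zd23) (kd xd19 yd27 zd55) (kd xd9 yd13 zd0) (kd xd19 yd53 zd13) (kd xd19 yd53 zd15) (kd xd11 yd12 zd4) (kd xd5 yd45 zd60)) (@D3.rec (fun _ => Pt) (kd xd5 yd34 zd50) (kd xd19 yd53 zd16) (kd xd5 yd34 zd51) (kd xd19 yd53 zd20) (kd xd11 yd29 zd22) (kd xd5 yd34 zd53) (kd xd19 yd53 zd21) (kd xd5 yd34 zd54) (kd xd19 yd53 zd23) (kd xd6 yd3 zd46) (kd xd5 yd34 zd56) (kd xd17 yd2 zd18) (kd xd19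 yd53 zd25) (kd xd5 yd34 zd59) (kd xd19 yd53 zd26) (kd xd5 yd34 zd60) (kd xd19 yd53 zd31) (kd xd10 yd46 zd14) (kd xd19 yd11 zd21) (kd xd19 yd53 zd35) (kd xd5 yd35 zd2) (kd xd8 yd53 zd50) (kd xd12 yd49 zd50) (kd xd11 yd58 zd56) (kd xd5 yd35 zd5) (kd xd15 yd18 zd48) (kd xd8 yd56 zd5) (kd xd19 yd53 zd47) (kd xd19 yd53 zd48) (kd xd5 yd35 zd9) (kd xd17 yd53 zd48) (kd xd19 yd53 zd49) (kd xd19 yd53 zd50) (kd xd11 yd3 zd53) (kd xd19 yd53 zd54) (kd xd19 yd53 zd55) (kd xd19 yd53 zd58) (kd xd8 yd38 zd26) (kd xd8 yd38 zd0) (kd xd19 yd54 zd0) (kd xd19 yd54 zd3) (kd xd5 yd35 zd16) (kd xd19 yd54 zd7) (kd xd5 yd35 zd17) (kd xd9 yd52 zd0) (kd xd19 yd54 zd10) (kd xd19 yd54 zd13) (kd xd7 yd23 zd55) (kd xd5 yd35 zd18) (kd xd7 yd18 zd4) (kd xd7 yd52 zd18) (kd xd5 yd35 zd20) (kd xd13 yd37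 zd8) (kd xd7 yd20 zd21) (kd xd7 yd50 zd42) (kd xd16 yd9 zd51) (kd xd17 yd42 zd14) (kd xd19 yd54 zd25) (kd xd10 yd50 zd22) (kd xd16 yd12 zd18) (kd xd14 yd0 zd33) (kd xd19 yd54 zd29)) (@D3.rec (fun _ => Pt) (kd xd5 yd35 zd25) (kd xd19 yd54 zd34) (kd xd19 yd54 zd38) (kd xd19 yd54 zd41) (kd xd19 yd54 zd43) (kd xd5 yd35 zd27) (kd xd19 yd54 zd46) (kd xd19 yd54 zd48) (kd xd5 yd35 zd28) (kd xd8 yd38 zd1) (kd xd19 yd54 zd50) (kd xd16 yd39 zd37) (kd xd19 yd54 zd56) (kd xd16 yd54 zd3) (kd xd17 yd45 zd37) (kd xd18 yd3 zd11) (kd xd18 yd3 zd12) (kd xd19 yd55 zd0) (kd xd5 yd35 zd33) (kd xd19 yd55 zd8) (kd xd19 yd55 zd12) (kd xd19 yd55 zd14) (kd xd5 yd35 zd35) (kd xd19 yd55 zd18) (kd xd19 yd55 zd20) (kd xd19 yd55 zd23) (kd xd14 yd8 zd56) (kd xd19 yd55 zd27) (kd xd19 yd55 zd31) (kd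 xd5 yd35 zd38) (kd xd19 yd55 zd38) (kd xd19 yd55 zd42) (kd xd5 yd35 zd40) (kd xd19 yd55 zd46) (kd xd19 yd55 zd48) (kd xd7 yd49 zd17) (kd xd19 yd55 zd51) (kd xd5 yd35 zd41) (kd xd19 yd55 zd58) (kd xd19 yd55 zd61) (kd xd5 yd35 zd43) (kd xd19 yd46 zd50) (kd xd5 yd35 zd44) (kd xd19 yd56 zd6) (kd xd19 yd56 zd8) (kd xd5 yd35 zd45) (kd xd19 yd56 zd12) (kd xd5 yd35 zd46) (kd xd19 yd49 zd37) (kd xd7 yd23 zd50) (kd xd7 yd51 zd36) (kd xd7 yd52 zd13) (kd xd5 yd35 zd48) (kd xd11 yd2 zd33) (kd xd19 yd56 zd25) (kd xd8 yd39 zd11) (kd xd8 yd39 zd23) (kd xd8 yd10 zd1) (kd xd12 yd48 zd29) (kd xd14 yd45 zd7) (kd xd14 yd45 zd6) (kd xd5 yd35 zd52)) (@D3.rec (fun _ => Pt) (kd xd7 yd23 zd58) (kd xd7 yd51 zd34) (kd xd12 yd23 zd2) (kd xd14 yd29 zd27) (kd xd5 yd35 zd54) (kd xd14 yd37 zd43) (kd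 xd14 yd50 zd60) (kd xd14 yd50 zd59) (kd xd16 yd27 zd22) (kd xd5 yd35 zd56) (kd xd19 yd26 zd11) (kd xd10 yd19 zd61) (kd xd19 yd56 zd46) (kd xd7 yd20 zd18) (kd xd19 yd14 zd6) (kd xd19 yd56 zd51) (kd xd19 yd56 zd53) (kd xd5 yd35 zd61) (kd xd19 yd56 zd56) (kd xd7 yd59 zd5) (kd xd5 yd36 zd0) (kd xd10 yd24 zd19) (kd xd17 yd43 zd15) (kd xd9 yd52 zd34) (kd xd15 yd22 zd44) (kd xd17 yd43 zd16) (kd xd15 yd22 zd35) (kd xd15 yd22 zd36) (kd xd5 yd36 zd3) (kd xd19 yd57 zd3) (kd xd8 yd15 zd4) (kd xd19 yd57 zd8) (kd xd5 yd36 zd6) (kd xd19 yd57 zd13) (kd xd15 yd11 zd37) (kd xd19 yd57 zd18) (kd xd5 yd36 zd10) (kd xd6 yd6 zd57) (kd xd6 yd6 zd58) (kd xd19 yd57 zd2) (kd xd12 yd56 zd17) (kd xd18 yd35 zd4) (kd xd19 yd57 zd29) (kd xd19 yd57 zd32) (kd xd5 yd36 zd14) (kd xd12 yd10 zd32) (kd xd19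 yd57 zd34) (kd xd11 yd19 zd23) (kd xd5 yd36 zd15) (kd xd8 yd11 zd51) (kd xd19 yd57 zd38) (kd xd11 yd19 zd30) (kd xd5 yd36 zd16) (kd xd8 yd56 zd54) (kd xd6 yd17 zd11) (kd xd9 yd5 zd38) (kd xd9 yd1 zd37) (kd xd19 yd57 zd43) (kd xd5 yd36 zd22) (kd xd19 yd57 zd45) (kd xd5 yd36 zd23) (kd xd19 yd57 zd46)) (@D3.rec (fun _ => Pt) (kd xd19 yd57 zd49) (kd xd5 yd36 zd28) (kd xd19 yd57 zd53) (kd xd9 yd54 zd56) (kd xd10 yd11 zd37) (kd xd15 yd2 zd61) (kd xd19 yd57 zd59) (kd xd15 yd2 zd56) (kd xd15 yd2 zd57) (kd xd19 yd58 zd1) (kd xd5 yd36 zd31) (kd xd19 yd58 zd7) (kd xd19 yd58 zd11) (kd xd19 yd58 zd14) (kd xd19 yd58 zd16) (kd xd5 yd36 zd33) (kd xd19 yd58 zd21) (kd xd19 yd58 zd23) (kd xd18 yd26 zd24) (kd xd19 yd58 zd25) (kd xd11 yd19 zd21) (kd xd19 yd58 zd28) (kd xd15 yd3 zd41) (kd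 xd19 yd58 zd30) (kd xd10 yd48 zd40) (kd xd19 yd58 zd32) (kd xd11 yd8 zd31) (kd xd11 yd8 zd32) (kd xd5 yd36 zd40) (kd xd19 yd58 zd41) (kd xd11 yd8 zd36) (kd xd10 yd22 zd23) (kd xd17 yd6 zd42) (kd xd5 yd36 zd43) (kd xd19 yd58 zd43) (kd xd12 yd9 zd55) (kd xd5 yd36 zd45) (kd xd16 yd52 zd46) (kd xd19 yd47 zd35) (kd xd19 yd47 zd36) (kd xd19 yd58 zd50) (kd xd5 yd36 zd46) (kd xd19 yd58 zd58) (kd xd19 yd59 zd1) (kd xd19 yd59 zd3) (kd xd17 yd22 zd33) (kd xd5 yd36 zd48) (kd xd16 yd51 zd59) (kd xd5 yd36 zd49) (kd xd18 yd39 zd43) (kd xd19 yd59 zd6) (kd xd5 yd36 zd50) (kd xd19 yd59 zd12) (kd xd19 yd59 zd15) (kd xd19 yd59 zd17) (kd xd17 yd9 zd34) (kd xd5 yd36 zd52) (kd xd18 yd39 zd42) (kd xd18 yd13 zd0) (kd xd19 yd59 zd20) (kd xd19 yd59 zd22) (kd xd17 yd51 zd35)) (@D3.rec (fun _ =>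 Pt) (kd xd19 yd59 zd25) (kd xd5 yd36 zd57) (kd xd16 yd58 zd50) (kd xd7 yd58 zd42) (kd xd7 yd58 zd43) (kd xd5 yd36 zd58) (kd xd19 yd59 zd34) (kd xd9 yd54 zd55) (kd xd5 yd37 zd4) (kd xd16 yd21 zd49) (kd xd16 yd21 zd48) (kd xd16 yd27 zd36) (kd xd10 yd1 zd32) (kd xd19 yd59 zd40) (kd xd19 yd59 zd43) (kd xd19 yd59 zd46) (kd xd10 yd1 zd37) (kd xd5 yd37 zd11) (kd xd5 yd37 zd12) (kd xd9 yd10 zd16) (kd xd5 yd37 zd14) (kd xd19 yd8 zd6) (kd xd13 yd1 zd20) (kd xd16 yd57 zd28) (kd xd10 yd2 zd60) (kd xd11 yd48 zd17) (kd xd11 yd18 zd13) (kd xd11 yd18 zd12) (kd xd5 yd37 zd21) (kd xd18 yd16 zd43) (kd xd17 yd32 zd0) (kd xd17 yd31 zd59) (kd xd11 yd40 zd13) (kd xd10 yd17 zd59) (kd xd5 yd37 zd23) (kd xd9 yd5 zd22) (kd xd5 yd37 zd27) (kd xd13 yd58 zd20) (kd xd9 yd48 zd4) (kd xd5 yd37 zd31)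 (kd xd20 yd0 zd3) (kd xd10 yd6 zd48) (kd xd9 yd5 zd29) (kd xd5 yd37 zd33) (kd xd5 yd37 zd36) (kd xd17 yd0 zd29) (kd xd5 yd37 zd39) (kd xd9 yd48 zd12) (kd xd11 yd34 zd0) (kd xd14 yd58 zd46) (kd xd5 yd41 zd46) (kd xd19 yd41 zd33) (kd xd5 yd54 zd12) (kd xd9 yd31 zd19) (kd xd12 yd10 zd54) (kd xd7 yd59 zd9) (kd xd20 yd0 zd14) (kd xd12 yd8 zd58) (kd xd11 yd33 zd11) (kd xd11 yd33 zd10) (kd xd11 yd31 zd10) (kd xd9 yd32 zd27)) (@D3.rec (fun _ => Pt) (kd xd9 yd46 zd52) (kd xd5 yd37 zd50) (kd xd16 yd57 zd56) (kd xd5 yd37 zd51) (kd xd10 yd6 zd1) (kd xd7 yd59 zd20) (kd xd10 yd6 zd3) (kd xd11 yd32 zd28) (kd xd18 yd25 zd21) (kd xd20 yd0 zd29) (kd xd20 yd0 zd32) (kd xd13 yd15 zd29) (kd xd5 yd37 zd58) (kd xd13 yd15 zd28) (kd xd19 yd53 zd8) (kd xd10 yd6 zd11) (kd xd12 yd5 zd39) (kd xd5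 yd37 zd61) (kd xd5 yd47 zd46) (kd xd5 yd47 zd48) (kd xd20 yd0 zd45) (kd xd5 yd38 zd2) (kd xd20 yd0 zd50) (kd xd5 yd47 zd50) (kd xd19 yd47 zd54) (kd xd5 yd38 zd4) (kd xd18 yd33 zd56) (kd xd18 yd33 zd55) (kd xd9 yd6 zd45) (kd xd9 yd6 zd42) (kd xd5 yd58 zd47) (kd xd5 yd40 zd17) (kd xd16 yd58 zd43) (kd xd20 yd0 zd35) (kd xd20 yd0 zd61) (kd xd5 yd38 zd9) (kd xd20 yd1 zd5) (kd xd10 yd48 zd55) (kd xd15 yd30 zd13) (kd xd8 yd57 zd38) (kd xd5 yd48 zd16) (kd xd20 yd1 zd12) (kd xd5 yd38 zd12) (kd xd6 yd24 zd42) (kd xd20 yd1 zd16) (kd xd5 yd38 zd14) (kd xd20 yd1 zd19) (kd xd5 yd38 zd15) (kd xd17 yd15 zd23) (kd xd9 yd1 zd43) (kd xd9 yd1 zd44) (kd xd8 yd48 zd55) (kd xd20 yd1 zd26) (kd xd5 yd38 zd17) (kd xd20 yd1 zd29) (kd xd19 yd29 zd29) (kd xd5 yd38 zd18) (kd xd5 yd40 zd34) (kd xd20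 yd1 zd34) (kd xd20 yd1 zd37) (kd xd5 yd38 zd19) (kd xd20 yd1 zd39)) (@D3.rec (fun _ => Pt) (kd xd19 yd33 zd51) (kd xd5 yd56 zd26) (kd xd5 yd38 zd21) (kd xd5 yd38 zd22) (kd xd20 yd1 zd43) (kd xd16 yd58 zd42) (kd xd17 yd4 zd8) (kd xd16 yd34 zd26) (kd xd5 yd38 zd24) (kd xd20 yd1 zd45) (kd xd16 yd58 zd58) (kd xd16 yd58 zd59) (kd xd20 yd1 zd49) (kd xd5 yd38 zd27) (kd xd20 yd1 zd54) (kd xd5 yd38 zd47) (kd xd5 yd38 zd29) (kd xd16 yd51 zd29) (kd xd5 yd38 zd33) (kd xd12 yd15 zd23) (kd xd17 yd8 zd30) (kd xd9 yd48 zd19) (kd xd5 yd38 zd37) (kd xd16 yd27 zd35) (kd xd5 yd38 zd41) (kd xd5 yd49 zd40) (kd xd16 yd25 zd20) (kd xd18 yd24 zd48) (kd xd18 yd24 zd49) (kd xd5 yd38 zd46) (kd xd20 yd2 zd4) (kd xd11 yd5 zd26) (kd xd11 yd5 zd27) (kd xd16 yd46 zd22) (kd xd10 yd52 zd58) (kd xd5 yd49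 zd26) (kd xd11 yd5 zd30) (kd xd5 yd38 zd52) (kd xd9 yd33 zd55) (kd xd8 yd28 zd28) (kd xd8 yd28 zd29) (kd xd15 yd22 zd23) (kd xd20 yd2 zd17) (kd xd20 yd2 zd20) (kd xd20 yd2 zd22) (kd xd5 yd38 zd55) (kd xd20 yd2 zd27) (kd xd20 yd2 zd28) (kd xd17 yd42 zd36) (kd xd8 yd43 zd14) (kd xd15 yd22 zd12) (kd xd20 yd2 zd33) (kd xd20 yd2 zd36) (kd xd20 yd2 zd38) (kd xd5 yd38 zd59) (kd xd20 yd2 zd41) (kd xd20 yd2 zd43) (kd xd5 yd38 zd60) (kd xd8 yd9 zd11) (kd xd8 yd9 zd6) (kd xd15 yd17 zd55) (kd xd20 yd2 zd50)) (@D3.rec (fun _ => Pt) (kd xd5 yd39 zd1) (kd xd20 yd2 zd55) (kd xd8 yd3 zd3) (kd xd8 yd3 zd4) (kd xd15 yd17 zd45) (kd xd20 yd3 zd1) (kd xd5 yd39 zd3) (kd xd20 yd3 zd5) (kd xd15 yd22 zd57) (kd xd19 yd43 zd15) (kd xd20 yd3 zd10) (kd xd15 yd22 zd60) (kd xd20 yd3 zd16) (kd xd19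 yd39 zd50) (kd xd20 yd3 zd21) (kd xd20 yd3 zd24) (kd xd19 yd24 zd58) (kd xd20 yd3 zd27) (kd xd5 yd39 zd8) (kd xd15 yd53 zd60) (kd xd20 yd3 zd35) (kd xd5 yd39 zd9) (kd xd20 yd3 zd39) (kd xd15 yd20 zd23) (kd xd20 yd3 zd42) (kd xd5 yd39 zd11) (kd xd9 yd22 zd50) (kd xd15 yd30 zd56) (kd xd20 yd3 zd47) (kd xd5 yd39 zd13) (kd xd15 yd19 zd36) (kd xd20 yd3 zd55) (kd xd5 yd39 zd16) (kd xd20 yd3 zd59) (kd xd5 yd39 zd17) (kd xd19 yd20 zd37) (kd xd20 yd4 zd0) (kd xd5 yd39 zd18) (kd xd20 yd4 zd3) (kd xd20 yd4 zd5) (kd xd20 yd4 zd8) (kd xd5 yd39 zd19) (kd xd17 yd40 zd13) (kd xd15 yd7 zd34) (kd xd15 yd7 zd35) (kd xd20 yd4 zd13) (kd xd5 yd39 zd21) (kd xd20 yd4 zd10) (kd xd5 yd39 zd23) (kd xd6 yd32 zd26) (kd xd15 yd54 zd32) (kd xd15 yd54 zd15) (kd xd20 yd4 zd22) (kd xd5 yd39 zd24) (kd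 xd20 yd4 zd27) (kd xd16 yd12 zd21) (kd xd6 yd32 zd24) (kd xd20 yd4 zd31) (kd xd5 yd39 zd26) (kd xd18 yd25 zd52) (kd xd16 yd56 zd30) (kd xd10 yd59 zd45)) (@D3.rec (fun _ => Pt) (kd xd20 yd4 zd34) (kd xd5 yd39 zd27) (kd xd20 yd4 zd39) (kd xd5 yd39 zd28) (kd xd20 yd4 zd43) (kd xd20 yd4 zd46) (kd xd14 yd4 zd11) (kd xd14 yd50 zd20) (kd xd5 yd39 zd30) (kd xd20 yd4 zd50) (kd xd20 yd4 zd52) (kd xd19 yd50 zd8) (kd xd5 yd39 zd31) (kd xd11 yd42 zd20) (kd xd19 yd50 zd11) (kd xd20 yd4 zd56) (kd xd5 yd39 zd32) (kd xd20 yd4 zd60) (kd xd20 yd5 zd0) (kd xd20 yd5 zd1) (kd xd5 yd39 zd33) (kd xd19 yd40 zd17) (kd xd5 yd39 zd35) (kd xd19 yd25 zd56) (kd xd6 yd28 zd47) (kd xd6 yd20 zd28) (kd xd6 yd19 zd40) (kd xd20 yd5 zd7) (kd xd20 yd5 zd9) (kd xd9 yd40 zd11) (kd xd20 yd5 zd11) (kd xd15 yd29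 zd36) (kd xd5 yd39 zd41) (kd xd20 yd5 zd20) (kd xd10 yd12 zd33) (kd xd10 yd11 zd56) (kd xd20 yd5 zd22) (kd xd5 yd39 zd43) (kd xd16 yd46 zd23) (kd xd8 yd22 zd28) (kd xd6 yd19 zd42) (kd xd11 yd12 zd10) (kd xd5 yd39 zd46) (kd xd20 yd5 zd29) (kd xd5 yd39 zd48) (kd xd6 yd47 zd31) (kd xd6 yd44 zd29) (kd xd6 yd31 zd32) (kd xd5 yd39 zd57) (kd xd11 yd18 zd35) (kd xd8 yd14 zd52) (kd xd6 yd15 zd34) (kd xd12 yd55 zd42) (kd xd9 yd5 zd30) (kd xd8 yd14 zd60) (kd xd12 yd15 zd4) (kd xd10 yd7 zd12) (kd xd5 yd50 zd10) (kd xd16 yd49 zd40) (kd xd10 yd10 zd27) (kd xd5 yd53 zd3) (kd xd16 yd49 zd37)) (@D3.rec (fun _ => Pt) (kd xd16 yd3 zd49) (kd xd16 yd49 zd43) (kd xd9 yd55 zd39) (kd xd16 yd49 zd42) (kd xd15 yd43 zd11) (kd xd18 yd58 zd3) (kd xd18 yd14 zd7) (kd xd17 yd59 zd12) (kd xd5 yd40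 zd10) (kd xd12 yd15 zd3) (kd xd7 yd27 zd24) (kd xd12 yd12 zd26) (kd xd9 yd5 zd4) (kd xd10 yd7 zd10) (kd xd6 yd49 zd2) (kd xd16 yd51 zd53) (kd xd5 yd41 zd12) (kd xd11 yd41 zd61) (kd xd5 yd40 zd19) (kd xd5 yd51 zd2) (kd xd19 yd56 zd14) (kd xd5 yd40 zd21) (kd xd17 yd56 zd48) (kd xd17 yd56 zd49) (kd xd5 yd40 zd35) (kd xd9 yd1 zd19) (kd xd5 yd51 zd15) (kd xd20 yd1 zd1) (kd xd20 yd6 zd3) (kd xd5 yd40 zd24) (kd xd20 yd6 zd8) (kd xd6 yd47 zd34) (kd xd5 yd51 zd19) (kd xd10 yd16 zd48) (kd xd17 yd57 zd52) (kd xd20 yd6 zd18) (kd xd5 yd40 zd27) (kd xd13 yd43 zd57) (kd xd12 yd44 zd20) (kd xd18 yd24 zd41) (kd xd20 yd6 zd24) (kd xd5 yd40 zd29) (kd xd8 yd52 zd22) (kd xd8 yd47 zd57) (kd xd5 yd40 zd30) (kd xd20 yd6 zd29) (kd xd9 yd1 zd41) (kd xd10 yd2 zd4) (kd xd5 yd40 zd32) (kd xd20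 yd6 zd34) (kd xd5 yd40 zd33) (kd xd20 yd1 zd30) (kd xd10 yd30 zd27) (kd xd19 yd32 zd56) (kd xd16 yd2 zd35) (kd xd5 yd40 zd36) (kd xd20 yd6 zd42) (kd xd13 yd1 zd48) (kd xd13 yd1 zd47) (kd xd11 yd28 zd35) (kd xd11 yd55 zd46) (kd xd10 yd55 zd2)) (@D3.rec (fun _ => Pt) (kd xd10 yd18 zd35) (kd xd11 yd55 zd15) (kd xd15 yd5 zd1) (kd xd10 yd18 zd40) (kd xd11 yd1 zd60) (kd xd6 yd2 zd5) (kd xd20 yd6 zd46) (kd xd20 yd6 zd47) (kd xd19 yd39 zd29) (kd xd5 yd40 zd47) (kd xd11 yd10 zd41) (kd xd5 yd40 zd49) (kd xd17 yd56 zd15) (kd xd6 yd26 zd40) (kd xd10 yd4 zd54) (kd xd15 yd4 zd24) (kd xd6 yd26 zd39) (kd xd9 yd20 zd15) (kd xd9 yd20 zd14) (kd xd6 yd27 zd15) (kd xd11 yd22 zd17) (kd xd8 yd12 zd50) (kd xd5 yd47 zd14) (kd xd12 yd56 zd29) (kd xd11 yd1 zd51) (kd xd8 yd12 zd55) (kd xd5 yd46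 zd58) (kd xd9 yd31 zd60) (kd xd10 yd58 zd12) (kd xd10 yd58 zd13) (kd xd16 yd48 zd44) (kd xd10 yd55 zd25) (kd xd10 yd55 zd24) (kd xd16 yd20 zd60) (kd xd5 yd53 zd18) (kd xd5 yd57 zd36) (kd xd6 yd6 zd36) (kd xd10 yd12 zd6) (kd xd5 yd41 zd2) (kd xd18 yd11 zd2) (kd xd17 yd53 zd21) (kd xd19 yd33 zd18) (kd xd5 yd41 zd6) (kd xd20 yd7 zd12) (kd xd10 yd54 zd60) (kd xd5 yd41 zd8) (kd xd14 yd8 zd18) (kd xd5 yd41 zd9) (kd xd20 yd7 zd15) (kd xd5 yd41 zd10) (kd xd20 yd5 zd54) (kd xd6 yd15 zd36) (kd xd20 yd7 zd19) (kd xd5 yd41 zd19) (kd xd5 yd41 zd20) (kd xd9 yd44 zd40) (kd xd9 yd44 zd41) (kd xd20 yd7 zd26) (kd xd5 yd41 zd22) (kd xd20 yd7 zd28) (kd xd5 yd41 zd23) (kd xd16 yd32 zd61)) (@D3.rec (fun _ => Pt) (kd xd19 yd58 zd46) (kd xd5 yd41 zd24) (kd xd17 yd33 zd1) (kd xd20 yd7 zd40)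 (kd xd5 yd41 zd26) (kd xd17 yd33 zd8) (kd xd5 yd53 zd43) (kd xd20 yd7 zd30) (kd xd5 yd53 zd45) (kd xd20 yd7 zd48) (kd xd5 yd41 zd29) (kd xd7 yd18 zd59) (kd xd5 yd41 zd31) (kd xd16 yd53 zd16) (kd xd16 yd53 zd43) (kd xd20 yd7 zd53) (kd xd5 yd41 zd33) (kd xd20 yd7 zd56) (kd xd19 yd27 zd24) (kd xd20 yd7 zd58) (kd xd16 yd53 zd49) (kd xd5 yd41 zd35) (kd xd6 yd14 zd19) (kd xd16 yd27 zd41) (kd xd20 yd7 zd61) (kd xd5 yd41 zd37) (kd xd5 yd41 zd38) (kd xd20 yd8 zd2) (kd xd5 yd54 zd8) (kd xd5 yd46 zd25) (kd xd20 yd8 zd8) (kd xd12 yd6 zd60) (kd xd20 yd8 zd10) (kd xd15 yd23 zd52) (kd xd20 yd8 zd15) (kd xd20 yd8 zd20) (kd xd5 yd41 zd42) (kd xd9 yd2 zd45) (kd xd10 yd29 zd57) (kd xd5 yd41 zd43) (kd xd20 yd8 zd23) (kd xd5 yd41 zd44) (kd xd20 yd8 zd26) (kd xd20 yd7 zd29) (kd xd11 yd59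 zd34) (kd xd5 yd41 zd47) (kd xd15 yd10 zd2) (kd xd10 yd5 zd4) (kd xd10 yd6 zd55) (kd xd17 yd8 zd45) (kd xd12 yd9 zd53) (kd xd16 yd30 zd5) (kd xd5 yd41 zd50) (kd xd20 yd8 zd37) (kd xd20 yd8 zd38) (kd xd5 yd41 zd51) (kd xd18 yd21 zd31) (kd xd20 yd8 zd43) (kd xd5 yd41 zd52) (kd xd18 yd42 zd58) (kd xd20 yd8 zd50) (kd xd5 yd41 zd53)) (@D3.rec (fun _ => Pt) (kd xd20 yd8 zd52) (kd xd5 yd45 zd9) (kd xd5 yd45 zd10) (kd xd16 yd52 zd50) (kd xd13 yd45 zd14) (kd xd17 yd1 zd41) (kd xd20 yd9 zd0) (kd xd5 yd41 zd55) (kd xd20 yd9 zd4) (kd xd5 yd41 zd56) (kd xd16 yd57 zd9) (kd xd20 yd9 zd9) (kd xd5 yd41 zd57) (kd xd20 yd9 zd10) (kd xd16 yd57 zd8) (kd xd20 yd9 zd13) (kd xd5 yd41 zd59) (kd xd5 yd41 zd60) (kd xd17 yd33 zd9) (kd xd10 yd45 zd29) (kd xd20 yd9 zd19) (kd xd5 yd42 zd0) (kd xd11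 yd28 zd10) (kd xd19 yd16 zd2) (kd xd12 yd54 zd48) (kd xd5 yd56 zd33) (kd xd12 yd24 zd11) (kd xd5 yd42 zd4) (kd xd5 yd46 zd19) (kd xd11 yd19 zd6) (kd xd5 yd58 zd31) (kd xd5 yd42 zd8) (kd xd9 yd59 zd56) (kd xd6 yd49 zd47) (kd xd9 yd29 zd13) (kd xd10 yd15 zd27) (kd xd18 yd42 zd57) (kd xd7 yd1 zd32) (kd xd5 yd42 zd12) (kd xd6 yd26 zd59) (kd xd6 yd16 zd56) (kd xd11 yd16 zd53) (kd xd20 yd9 zd40) (kd xd17 yd7 zd32) (kd xd5 yd42 zd14) (kd xd20 yd9 zd47) (kd xd9 yd31 zd27) (kd xd5 yd42 zd16) (kd xd10 yd4 zd28) (kd xd16 yd56 zd19) (kd xd8 yd21 zd48) (kd xd6 yd43 zd54) (kd xd6 yd43 zd53) (kd xd6 yd27 zd7) (kd xd11 yd28 zd11) (kd xd6 yd8 zd10) (kd xd9 yd5 zd33) (kd xd9 yd5 zd35) (kd xd20 yd9 zd58) (kd xd20 yd9 zd60) (kd xd11 yd19 zd4) (kd xd5 yd42 zd23)) (@D3.rec (fun _ => Pt)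 (kd xd11 yd59 zd17) (kd xd6 yd27 zd8) (kd xd14 yd15 zd53) (kd xd10 yd48 zd9) (kd xd10 yd48 zd8) (kd xd5 yd46 zd28) (kd xd20 yd10 zd3) (kd xd20 yd10 zd4) (kd xd20 yd10 zd5) (kd xd20 yd10 zd9) (kd xd5 yd42 zd28) (kd xd20 yd10 zd17) (kd xd5 yd59 zd12) (kd xd20 yd10 zd13) (kd xd16 yd30 zd8) (kd xd7 yd34 zd42) (kd xd5 yd42 zd32) (kd xd7 yd47 zd40) (kd xd10 yd44 zd53) (kd xd16 yd52 zd17) (kd xd20 yd10 zd27) (kd xd5 yd42 zd35) (kd xd19 yd23 zd46) (kd xd16 yd48 zd3) (kd xd16 yd48 zd16) (kd xd5 yd42 zd36) (kd xd20 yd10 zd33) (kd xd12 yd32 zd60) (kd xd5 yd42 zd38) (kd xd5 yd42 zd39) (kd xd20 yd10 zd41) (kd xd5 yd56 zd2) (kd xd20 yd10 zd45) (kd xd17 yd3 zd45) (kd xd8 yd42 zd52) (kd xd20 yd10 zd53) (kd xd16 yd10 zd38) (kd xd20 yd10 zd59) (kd xd12 yd9 zd5) (kd xd20 yd11 zd1) (kd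 xd20 yd11 zd4) (kd xd20 yd11 zd9) (kd xd5 yd42 zd44) (kd xd20 yd11 zd14) (kd xd13 yd49 zd41) (kd xd13 yd38 zd52) (kd xd13 yd14 zd23) (kd xd11 yd26 zd54) (kd xd20 yd10 zd11) (kd xd20 yd10 zd12) (kd xd20 yd11 zd27) (kd xd5 yd42 zd48) (kd xd20 yd11 zd34) (kd xd20 yd11 zd37) (kd xd16 yd59 zd56) (kd xd20 yd11 zd41) (kd xd5 yd42 zd51) (kd xd20 yd11 zd45) (kd xd6 yd11 zd52) (kd xd20 yd11 zd48) (kd xd5 yd42 zd53) (kd xd20 yd11 zd50)) (@D3.rec (fun _ => Pt) (kd xd20 yd11 zd54) (kd xd5 yd42 zd54) (kd xd15 yd50 zd48) (kd xd5 yd45 zd24) (kd xd5 yd45 zd25) (kd xd16 yd20 zd35) (kd xd20 yd12 zd2) (kd xd8 yd29 zd27) (kd xd5 yd42 zd56) (kd xd19 yd23 zd47) (kd xd20 yd12 zd8) (kd xd19 yd49 zd55) (kd xd20 yd12 zd10) (kd xd5 yd42 zd58) (kd xd20 yd12 zd12) (kd xd20 yd12 zd14) (kd xd20 yd12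 zd18) (kd xd5 yd42 zd60) (kd xd11 yd40 zd38) (kd xd6 yd33 zd19) (kd xd7 yd42 zd43) (kd xd14 yd11 zd31) (kd xd19 yd53 zd14) (kd xd16 yd47 zd21) (kd xd12 yd55 zd43) (kd xd10 yd22 zd41) (kd xd16 yd53 zd34) (kd xd8 yd58 zd29) (kd xd16 yd53 zd33) (kd xd11 yd24 zd3) (kd xd6 yd31 zd34) (kd xd16 yd49 zd0) (kd xd17 yd55 zd51) (kd xd12 yd19 zd33) (kd xd20 yd12 zd35) (kd xd16 yd49 zd18) (kd xd5 yd43 zd11) (kd xd17 yd31 zd58) (kd xd17 yd59 zd3) (kd xd8 yd50 zd6) (kd xd11 yd18 zd36) (kd xd17 yd41 zd56) (kd xd5 yd43 zd14) (kd xd18 yd26 zd10) (kd xd20 yd12 zd44) (kd xd9 yd7 zd7) (kd xd5 yd43 zd19) (kd xd5 yd57 zd52) (kd xd13 yd53 zd11) (kd xd11 yd40 zd25) (kd xd11 yd52 zd8) (kd xd11 yd20 zd17) (kd xd11 yd18 zd43) (kd xd11 yd14 zd41) (kd xd11 yd17 zd52) (kd xd20 yd12 zd50) (kd xd5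 yd43 zd26) (kd xd12 yd43 zd58) (kd xd20 yd12 zd55) (kd xd9 yd30 zd40) (kd xd11 yd40 zd37) (kd xd20 yd12 zd60)) (@D3.rec (fun _ => Pt) (kd xd5 yd43 zd28) (kd xd14 yd11 zd34) (kd xd20 yd13 zd3) (kd xd5 yd43 zd29) (kd xd18 yd56 zd50) (kd xd20 yd13 zd6) (kd xd5 yd44 zd13) (kd xd5 yd44 zd14) (kd xd10 yd14 zd8) (kd xd6 yd35 zd3) (kd xd17 yd8 zd6) (kd xd5 yd43 zd32) (kd xd20 yd13 zd17) (kd xd18 yd17 zd43) (kd xd12 yd40 zd42) (kd xd5 yd43 zd34) (kd xd5 yd43 zd36) (kd xd5 yd58 zd36) (kd xd20 yd13 zd25) (kd xd5 yd43 zd40) (kd xd20 yd13 zd28) (kd xd5 yd43 zd41) (kd xd20 yd13 zd33) (kd xd19 yd50 zd26) (kd xd19 yd50 zd37) (kd xd5 yd43 zd42) (kd xd20 yd13 zd37) (kd xd5 yd43 zd43) (kd xd7 yd21 zd49) (kd xd7 yd29 zd27) (kd xd20 yd4 zd48) (kd xd19 yd32 zd22) (kd xd5 yd43 zd46) (kd xd20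 yd13 zd41) (kd xd16 yd7 zd39) (kd xd16 yd7 zd38) (kd xd8 yd39 zd50) (kd xd5 yd43 zd48) (kd xd20 yd13 zd46) (kd xd20 yd13 zd48) (kd xd8 yd11 zd39) (kd xd20 yd13 zd51) (kd xd5 yd43 zd50) (kd xd18 yd17 zd44) (kd xd12 yd55 zd44) (kd xd5 yd43 zd51) (kd xd11 yd20 zd2) (kd xd20 yd12 zd28) (kd xd15 yd13 zd29) (kd xd5 yd43 zd53) (kd xd8 yd45 zd24) (kd xd5 yd58 zd29) (kd xd11 yd16 zd54) (kd xd10 yd59 zd49) (kd xd17 yd41 zd59) (kd xd17 yd41 zd58) (kd xd15 yd49 zd37) (kd xd5 yd43 zd59) (kd xd20 yd14 zd9) (kd xd20 yd14 zd12) (kd xd5 yd43 zd60) (kd xd8 yd58 zd25)) (@D3.rec (fun _ => Pt) (kd xd12 yd12 zd47) (kd xd6 yd43 zd61) (kd xd5 yd44 zd2) (kd xd9 yd2 zd22) (kd xd16 yd15 zd25) (kd xd5 yd44 zd3) (kd xd9 yd47 zd45) (kd xd20 yd14 zd19) (kd xd20 yd14 zd23) (kd xd20 yd14 zd25) (kd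 xd5 yd44 zd4) (kd xd20 yd14 zd32) (kd xd11 yd6 zd27) (kd xd11 yd6 zd26) (kd xd20 yd14 zd35) (kd xd20 yd14 zd37) (kd xd20 yd14 zd41) (kd xd5 yd44 zd6) (kd xd20 yd14 zd46) (kd xd20 yd14 zd48) (kd xd20 yd14 zd51) (kd xd5 yd44 zd7) (kd xd11 yd40 zd12) (kd xd17 yd12 zd15) (kd xd20 yd14 zd54) (kd xd13 yd58 zd51) (kd xd6 yd1 zd35) (kd xd20 yd14 zd57) (kd xd12 yd55 zd15) (kd xd5 yd44 zd12) (kd xd20 yd13 zd7) (kd xd20 yd15 zd0) (kd xd20 yd13 zd9) (kd xd20 yd15 zd3) (kd xd11 yd24 zd5) (kd xd11 yd10 zd49) (kd xd11 yd16 zd40) (kd xd20 yd15 zd10) (kd xd19 yd52 zd52) (kd xd5 yd44 zd17) (kd xd20 yd15 zd15) (kd xd20 yd15 zd17) (kd xd5 yd44 zd18) (kd xd11 yd16 zd52) (kd xd20 yd15 zd20) (kd xd5 yd44 zd19) (kd xd6 yd50 zd52) (kd xd11 yd46 zd59) (kd xd20 yd15 zd27) (kd xd5 yd44 zd21) (kd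 xd17 yd41 zd55) (kd xd13 yd0 zd19) (kd xd8 yd36 zd14) (kd xd5 yd44 zd23) (kd xd12 yd36 zd16) (kd xd12 yd16 zd16) (kd xd6 yd36 zd16) (kd xd12 yd12 zd46) (kd xd17 yd59 zd34) (kd xd12 yd55 zd0) (kd xd14 yd11 zd26) (kd xd8 yd41 zd26)) (@D3.rec (fun _ => Pt) (kd xd17 yd43 zd44) (kd xd12 yd25 zd58) (kd xd20 yd15 zd46) (kd xd5 yd44 zd29) (kd xd11 yd14 zd60) (kd xd17 yd56 zd22) (kd xd11 yd14 zd29) (kd xd5 yd44 zd32) (kd xd20 yd15 zd52) (kd xd6 yd43 zd9) (kd xd8 yd25 zd44) (kd xd9 yd14 zd32) (kd xd7 yd33 zd54) (kd xd10 yd18 zd19) (kd xd18 yd37 zd48) (kd xd5 yd44 zd36) (kd xd12 yd43 zd25) (kd xd16 yd7 zd34) (kd xd16 yd44 zd52) (kd xd5 yd44 zd37) (kd xd20 yd15 zd60) (kd xd11 yd5 zd20) (kd xd5 yd44 zd39) (kd xd11 yd4 zd47) (kd xd19 yd48 zd56) (kd xd16 yd41 zd41) (kd xd17 yd52 zd43)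 (kd xd20 yd16 zd11) (kd xd20 yd16 zd15) (kd xd5 yd44 zd41) (kd xd11 yd4 zd51) (kd xd17 yd54 zd59) (kd xd10 yd14 zd11) (kd xd12 yd55 zd14) (kd xd7 yd29 zd6) (kd xd20 yd16 zd24) (kd xd20 yd16 zd27) (kd xd5 yd44 zd45) (kd xd20 yd16 zd30) (kd xd20 yd16 zd34) (kd xd20 yd16 zd37) (kd xd5 yd44 zd47) (kd xd18 yd16 zd41) (kd xd11 yd22 zd52) (kd xd20 yd16 zd46) (kd xd5 yd44 zd48) (kd xd12 yd14 zd34) (kd xd20 yd16 zd52) (kd xd20 yd16 zd54) (kd xd20 yd16 zd57) (kd xd5 yd44 zd50) (kd xd12 yd25 zd56) (kd xd12 yd25 zd17) (kd xd9 yd20 zd19) (kd xd5 yd44 zd51) (kd xd6 yd1 zd0) (kd xd20 yd17 zd0) (kd xd20 yd17 zd2) (kd xd5 yd44 zd52) (kd xd9 yd17 zd5) (kd xd20 yd17 zd6) (kd xd20 yd17 zd7)) (@D3.rec (fun _ => Pt) (kd xd5 yd44 zd53) (kd xd12 yd47 zd1) (kd xd11 yd17 zd46) (kd xd20 yd17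 zd18) (kd xd17 yd7 zd57) (kd xd11 yd43 zd55) (kd xd5 yd44 zd55) (kd xd9 yd17 zd8) (kd xd6 yd1 zd16) (kd xd20 yd17 zd20) (kd xd18 yd19 zd61) (kd xd5 yd44 zd56) (kd xd16 yd30 zd47) (kd xd20 yd17 zd29) (kd xd5 yd44 zd57) (kd xd12 yd36 zd13) (kd xd20 yd17 zd35) (kd xd11 yd16 zd51) (kd xd5 yd44 zd59) (kd xd20 yd17 zd36) (kd xd16 yd49 zd24) (kd xd20 yd17 zd39) (kd xd5 yd44 zd61) (kd xd11 yd41 zd31) (kd xd20 yd4 zd33) (kd xd20 yd17 zd44) (kd xd5 yd45 zd0) (kd xd20 yd17 zd46) (kd xd20 yd9 zd45) (kd xd20 yd9 zd46) (kd xd20 yd17 zd53) (kd xd5 yd45 zd2) (kd xd11 yd43 zd10) (kd xd6 yd8 zd1) (kd xd20 yd17 zd60) (kd xd10 yd3 zd54) (kd xd20 yd18 zd1) (kd xd6 yd30 zd56) (kd xd20 yd18 zd4) (kd xd20 yd18 zd6) (kd xd20 yd18 zd9) (kd xd5 yd45 zd6) (kd xd20 yd18 zd12) (kd xd5 yd45 zd7)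 (kd xd20 yd18 zd17) (kd xd18 yd41 zd58) (kd xd18 yd41 zd57) (kd xd10 yd55 zd44) (kd xd20 yd18 zd19) (kd xd13 yd33 zd14) (kd xd7 yd3 zd39) (kd xd9 yd2 zd43) (kd xd6 yd15 zd33) (kd xd20 yd7 zd25) (kd xd20 yd18 zd33) (kd xd11 yd34 zd31) (kd xd20 yd18 zd39) (kd xd5 yd45 zd12) (kd xd18 yd43 zd0) (kd xd20 yd18 zd44) (kd xd20 yd18 zd45) (kd xd5 yd45 zd13)) (@D3.rec (fun _ => Pt) (kd xd16 yd53 zd48) (kd xd20 yd18 zd49) (kd xd20 yd18 zd50) (kd xd5 yd45 zd14) (kd xd15 yd5 zd24) (kd xd11 yd34 zd17) (kd xd20 yd18 zd54) (kd xd5 yd45 zd17) (kd xd16 yd52 zd5) (kd xd5 yd45 zd21) (kd xd6 yd26 zd3) (kd xd20 yd18 zd56) (kd xd5 yd45 zd22) (kd xd9 yd21 zd60) (kd xd6 yd31 zd20) (kd xd11 yd28 zd36) (kd xd12 yd23 zd39) (kd xd20 yd18 zd60) (kd xd20 yd11 zd59) (kd xd14 yd38 zd23) (kd xd9 yd2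 zd5) (kd xd9 yd2 zd6) (kd xd16 yd19 zd26) (kd xd17 yd10 zd59) (kd xd9 yd23 zd7) (kd xd9 yd21 zd61) (kd xd11 yd36 zd2) (kd xd11 yd43 zd59) (kd xd5 yd45 zd28) (kd xd16 yd56 zd51) (kd xd11 yd43 zd60) (kd xd12 yd24 zd8) (kd xd20 yd19 zd12) (kd xd5 yd45 zd32) (kd xd11 yd50 zd23) (kd xd5 yd45 zd34) (kd xd12 yd4 zd61) (kd xd13 yd0 zd27) (kd xd5 yd45 zd35) (kd xd20 yd19 zd20) (kd xd20 yd19 zd21) (kd xd5 yd45 zd37) (kd xd20 yd19 zd25) (kd xd5 yd45 zd38) (kd xd16 yd59 zd49) (kd xd15 yd30 zd8) (kd xd5 yd45 zd39) (kd xd20 yd19 zd32) (kd xd19 yd7 zd40) (kd xd5 yd45 zd40) (kd xd17 yd12 zd60) (kd xd17 yd45 zd16) (kd xd10 yd17 zd24) (kd xd6 yd30 zd7) (kd xd14 yd10 zd56) (kd xd13 yd6 zd29) (kd xd9 yd13 zd59) (kd xd5 yd45 zd45) (kd xd11 yd59 zd12) (kd xd7 yd30 zd40) (kd xd9 yd57 zd61)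 (kd xd5 yd45 zd46)) (@D3.rec (fun _ => Pt) (kd xd6 yd47 zd37) (kd xd7 yd18 zd58) (kd xd14 yd43 zd11) (kd xd5 yd45 zd50) (kd xd13 yd38 zd32) (kd xd20 yd19 zd47) (kd xd5 yd45 zd51) (kd xd16 yd10 zd25) (kd xd9 yd14 zd2) (kd xd10 yd5 zd11) (kd xd8 yd12 zd12) (kd xd10 yd18 zd34) (kd xd10 yd4 zd59) (kd xd10 yd4 zd50) (kd xd20 yd19 zd54) (kd xd5 yd45 zd55) (kd xd20 yd19 zd58) (kd xd11 yd12 zd20) (kd xd5 yd45 zd57) (kd xd9 yd12 zd22) (kd xd12 yd31 zd13) (kd xd20 yd19 zd61) (kd xd20 yd20 zd1) (kd xd5 yd46 zd2) (kd xd20 yd20 zd4) (kd xd20 yd20 zd7) (kd xd20 yd20 zd9) (kd xd5 yd46 zd3) (kd xd20 yd20 zd15) (kd xd9 yd13 zd52) (kd xd9 yd13 zd53) (kd xd20 yd20 zd21) (kd xd16 yd52 zd27) (kd xd5 yd46 zd5) (kd xd9 yd4 zd18) (kd xd18 yd43 zd3) (kd xd11 yd24 zd57) (kd xd5 yd46 zd9) (kd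 xd20 yd20 zd28) (kd xd5 yd46 zd10) (kd xd10 yd3 zd3) (kd xd6 yd50 zd35) (kd xd5 yd52 zd22) (kd xd9 yd2 zd18) (kd xd9 yd18 zd4) (kd xd20 yd6 zd60) (kd xd10 yd3 zd5) (kd xd20 yd20 zd32) (kd xd10 yd58 zd11) (kd xd9 yd14 zd0) (kd xd18 yd36 zd19) (kd xd15 yd0 zd10) (kd xd11 yd19 zd43) (kd xd20 yd9 zd28) (kd xd20 yd20 zd37) (kd xd11 yd49 zd31) (kd xd20 yd20 zd39) (kd xd20 yd19 zd28) (kd xd12 yd56 zd14) (kd xd20 yd20 zd44) (kd xd14 yd45 zd58) (kd xd9 yd14 zd39)) (@D3.rec (fun _ => Pt) (kd xd8 yd48 zd58) (kd xd5 yd46 zd23) (kd xd7 yd26 zd60) (kd xd18 yd41 zd7) (kd xd17 yd21 zd46) (kd xd8 yd52 zd23) (kd xd8 yd52 zd25) (kd xd5 yd46 zd27) (kd xd18 yd41 zd6) (kd xd16 yd21 zd55) (kd xd16 yd22 zd21) (kd xd7 yd59 zd21) (kd xd20 yd19 zd6) (kd xd5 yd46 zd31) (kd xd16 yd35 zd44) (kd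 xd5 yd46 zd32) (kd xd7 yd56 zd37) (kd xd6 yd11 zd11) (kd xd5 yd46 zd33) (kd xd17 yd15 zd14) (kd xd12 yd8 zd5) (kd xd8 yd50 zd53) (kd xd17 yd46 zd23) (kd xd5 yd46 zd35) (kd xd11 yd23 zd33) (kd xd12 yd5 zd15) (kd xd13 yd41 zd43) (kd xd5 yd46 zd38) (kd xd11 yd23 zd30) (kd xd10 yd1 zd26) (kd xd11 yd23 zd28) (kd xd7 yd8 zd3) (kd xd7 yd8 zd10) (kd xd11 yd23 zd24) (kd xd7 yd56 zd21) (kd xd11 yd23 zd44) (kd xd11 yd23 zd41) (kd xd20 yd21 zd25) (kd xd5 yd46 zd42) (kd xd6 yd14 zd27) (kd xd8 yd26 zd7) (kd xd11 yd23 zd36) (kd xd15 yd8 zd52) (kd xd5 yd46 zd45) (kd xd11 yd23 zd35) (kd xd10 yd1 zd19) (kd xd6 yd24 zd38) (kd xd7 yd6 zd5) (kd xd20 yd21 zd38) (kd xd20 yd21 zd41) (kd xd20 yd21 zd46) (kd xd5 yd46 zd50) (kd xd9 yd31 zd26) (kd xd6 yd3 zd54) (kd xd5 yd46 zd52) (kd xd10 yd55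 zd0) (kd xd7 yd36 zd17) (kd xd11 yd23 zd61) (kd xd12 yd27 zd34) (kd xd6 yd31 zd19) (kd xd10 yd2 zd50) (kd xd11 yd23 zd57)) (@D3.rec (fun _ => Pt) (kd xd18 yd38 zd29) (kd xd10 yd58 zd34) (kd xd10 yd58 zd33) (kd xd11 yd16 zd29) (kd xd20 yd21 zd56) (kd xd11 yd18 zd34) (kd xd20 yd7 zd1) (kd xd6 yd9 zd8) (kd xd6 yd46 zd14) (kd xd12 yd10 zd49) (kd xd12 yd10 zd50) (kd xd8 yd2 zd11) (kd xd11 yd58 zd44) (kd xd20 yd12 zd56) (kd xd20 yd22 zd2) (kd xd20 yd16 zd38) (kd xd5 yd47 zd1) (kd xd20 yd22 zd3) (kd xd20 yd22 zd4) (kd xd20 yd17 zd13) (kd xd20 yd15 zd38) (kd xd5 yd47 zd4) (kd xd20 yd12 zd54) (kd xd20 yd22 zd10) (kd xd20 yd16 zd43) (kd xd5 yd47 zd5) (kd xd9 yd45 zd50) (kd xd13 yd58 zd40) (kd xd20 yd15 zd40) (kd xd5 yd47 zd6) (kd xd11 yd29 zd3) (kd xd12 yd25 zd41) (kd xd12 yd25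 zd42) (kd xd5 yd47 zd8) (kd xd12 yd11 zd1) (kd xd9 yd29 zd17) (kd xd12 yd56 zd28) (kd xd16 yd28 zd17) (kd xd16 yd28 zd29) (kd xd20 yd6 zd59) (kd xd7 yd33 zd44) (kd xd5 yd58 zd59) (kd xd15 yd8 zd9) (kd xd15 yd23 zd43) (kd xd11 yd30 zd15) (kd xd19 yd24 zd28) (kd xd20 yd22 zd29) (kd xd20 yd22 zd30) (kd xd12 yd31 zd19) (kd xd5 yd47 zd24) (kd xd17 yd15 zd37) (kd xd13 yd48 zd29) (kd xd11 yd57 zd40) (kd xd16 yd56 zd43) (kd xd11 yd30 zd41) (kd xd9 yd24 zd34) (kd xd5 yd47 zd29) (kd xd11 yd22 zd36) (kd xd12 yd6 zd59) (kd xd10 yd54 zd53) (kd xd5 yd47 zd33) (kd xd20 yd22 zd33)) (@D3.rec (fun _ => Pt) (kd xd12 yd55 zd53) (kd xd5 yd47 zd34) (kd xd10 yd44 zd47) (kd xd20 yd22 zd34) (kd xd12 yd55 zd52) (kd xd5 yd47 zd35) (kd xd11 yd27 zd14) (kd xd20 yd22 zd38) (kd xd5 yd47 zd37) (kd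 xd11 yd58 zd35) (kd xd20 yd22 zd40) (kd xd20 yd12 zd20) (kd xd5 yd47 zd43) (kd xd20 yd0 zd37) (kd xd20 yd22 zd45) (kd xd20 yd22 zd46) (kd xd13 yd58 zd43) (kd xd20 yd0 zd40) (kd xd5 yd47 zd47) (kd xd20 yd20 zd49) (kd xd20 yd0 zd42) (kd xd19 yd9 zd60) (kd xd5 yd47 zd49) (kd xd9 yd46 zd41) (kd xd5 yd47 zd51) (kd xd20 yd22 zd50) (kd xd5 yd47 zd53) (kd xd20 yd22 zd52) (kd xd20 yd22 zd54) (kd xd13 yd1 zd10) (kd xd5 yd47 zd56) (kd xd20 yd22 zd58) (kd xd9 yd47 zd38) (kd xd20 yd22 zd60) (kd xd12 yd15 zd29) (kd xd5 yd47 zd60) (kd xd20 yd23 zd1) (kd xd20 yd23 zd2) (kd xd20 yd23 zd4) (kd xd5 yd48 zd1) (kd xd20 yd23 zd9) (kd xd20 yd23 zd10) (kd xd5 yd48 zd2) (kd xd11 yd26 zd25) (kd xd20 yd23 zd14) (kd xd5 yd48 zd4) (kd xd20 yd23 zd15) (kd xd20 yd23 zd19) (kd xd5 yd48 zd5) (kd xd20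 yd23 zd20) (kd xd20 yd23 zd21) (kd xd5 yd48 zd7) (kd xd19 yd13 zd55) (kd xd20 yd23 zd25) (kd xd5 yd48 zd8) (kd xd20 yd23 zd27) (kd xd5 yd48 zd9) (kd xd20 yd23 zd13) (kd xd9 yd6 zd30) (kd xd5 yd48 zd11) (kd xd5 yd48 zd12) (kd xd7 yd51 zd13)) (@D3.rec (fun _ => Pt) (kd xd15 yd30 zd23) (kd xd20 yd23 zd33) (kd xd10 yd43 zd44) (kd xd20 yd23 zd36) (kd xd5 yd48 zd17) (kd xd6 yd25 zd57) (kd xd20 yd23 zd38) (kd xd5 yd48 zd19) (kd xd5 yd48 zd20) (kd xd5 yd48 zd21) (kd xd20 yd23 zd43) (kd xd5 yd48 zd22) (kd xd20 yd23 zd47) (kd xd5 yd48 zd23) (kd xd20 yd23 zd52) (kd xd20 yd23 zd55) (kd xd20 yd23 zd59) (kd xd5 yd48 zd25) (kd xd20 yd23 zd61) (kd xd20 yd24 zd0) (kd xd20 yd24 zd1) (kd xd5 yd48 zd26) (kd xd19 yd13 zd33) (kd xd5 yd48 zd27) (kd xd12 yd10 zd24) (kd xd11 yd25 zd43) (kd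 xd12 yd29 zd47) (kd xd20 yd24 zd13) (kd xd18 yd24 zd51) (kd xd5 yd48 zd30) (kd xd20 yd24 zd17) (kd xd20 yd24 zd18) (kd xd5 yd48 zd31) (kd xd20 yd24 zd21) (kd xd20 yd24 zd22) (kd xd20 yd24 zd24) (kd xd5 yd48 zd33) (kd xd20 yd24 zd28) (kd xd20 yd24 zd33) (kd xd5 yd48 zd34) (kd xd16 yd51 zd37) (kd xd20 yd24 zd36) (kd xd20 yd24 zd38) (kd xd5 yd48 zd35) (kd xd20 yd24 zd41) (kd xd7 yd47 zd34) (kd xd5 yd48 zd36) (kd xd20 yd24 zd45) (kd xd5 yd48 zd38) (kd xd7 yd59 zd23) (kd xd8 yd44 zd28) (kd xd9 yd1 zd42) (kd xd6 yd55 zd10) (kd xd8 yd33 zd3) (kd xd11 yd15 zd47) (kd xd6 yd56 zd29) (kd xd17 yd57 zd50) (kd xd7 yd20 zd19) (kd xd7 yd27 zd35) (kd xd20 yd24 zd55) (kd xd18 yd25 zd46) (kd xd18 yd25 zd8)) (@D3.rec (fun _ => Pt) (kd xd17 yd56 zd40) (kd xd7 yd26 zd30) (kd xd20 yd24 zd58)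 (kd xd5 yd48 zd49) (kd xd12 yd29 zd45) (kd xd12 yd29 zd46) (kd xd20 yd25 zd4) (kd xd9 yd1 zd30) (kd xd17 yd1 zd34) (kd xd5 yd48 zd53) (kd xd5 yd48 zd54) (kd xd20 yd25 zd9) (kd xd5 yd48 zd55) (kd xd20 yd25 zd13) (kd xd11 yd25 zd6) (kd xd20 yd25 zd17) (kd xd11 yd30 zd50) (kd xd11 yd30 zd51) (kd xd5 yd48 zd57) (kd xd5 yd48 zd58) (kd xd6 yd45 zd30) (kd xd20 yd25 zd20) (kd xd5 yd48 zd60) (kd xd11 yd31 zd49) (kd xd20 yd25 zd24) (kd xd7 yd56 zd58) (kd xd6 yd0 zd32) (kd xd8 yd2 zd5) (kd xd9 yd45 zd30) (kd xd9 yd14 zd47) (kd xd9 yd45 zd39) (kd xd5 yd57 zd34) (kd xd9 yd50 zd27) (kd xd5 yd49 zd11) (kd xd9 yd23 zd53) (kd xd9 yd45 zd37) (kd xd7 yd59 zd28) (kd xd7 yd34 zd5) (kd xd5 yd49 zd15) (kd xd9 yd44 zd2) (kd xd17 yd1 zd38) (kd xd17 yd1 zd39) (kd xd6 yd13 zd17) (kd xd11 yd31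 zd43) (kd xd9 yd32 zd31) (kd xd8 yd2 zd26) (kd xd6 yd46 zd23) (kd xd5 yd49 zd25) (kd xd10 yd17 zd60) (kd xd20 yd25 zd33) (kd xd5 yd52 zd44) (kd xd12 yd29 zd55) (kd xd12 yd23 zd38) (kd xd11 yd31 zd18) (kd xd10 yd4 zd53) (kd xd10 yd7 zd11) (kd xd18 yd0 zd13) (kd xd5 yd49 zd35) (kd xd15 yd26 zd7) (kd xd11 yd31 zd23) (kd xd9 yd5 zd21) (kd xd20 yd1 zd59)) (@D3.rec (fun _ => Pt) (kd xd20 yd25 zd40) (kd xd20 yd1 zd61) (kd xd16 yd21 zd1) (kd xd7 yd14 zd8) (kd xd14 yd32 zd55) (kd xd9 yd3 zd16) (kd xd9 yd48 zd54) (kd xd9 yd49 zd43) (kd xd5 yd49 zd43) (kd xd12 yd51 zd31) (kd xd11 yd14 zd22) (kd xd11 yd14 zd54) (kd xd5 yd49 zd46) (kd xd5 yd59 zd35) (kd xd8 yd0 zd5) (kd xd20 yd25 zd51) (kd xd8 yd58 zd14) (kd xd8 yd59 zd8) (kd xd5 yd49 zd51) (kd xd6 yd1 zd33) (kd xd20 yd25 zd53)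 (kd xd10 yd53 zd45) (kd xd10 yd17 zd22) (kd xd11 yd31 zd45) (kd xd10 yd6 zd54) (kd xd6 yd21 zd55) (kd xd11 yd28 zd52) (kd xd10 yd6 zd60) (kd xd6 yd14 zd17) (kd xd7 yd57 zd19) (kd xd9 yd45 zd23) (kd xd11 yd44 zd11) (kd xd20 yd25 zd60) (kd xd7 yd27 zd30) (kd xd7 yd27 zd31) (kd xd11 yd11 zd59) (kd xd11 yd21 zd15) (kd xd12 yd10 zd37) (kd xd10 yd17 zd49) (kd xd11 yd36 zd15) (kd xd18 yd42 zd13) (kd xd18 yd26 zd5) (kd xd7 yd59 zd57) (kd xd10 yd55 zd45) (kd xd8 yd49 zd45) (kd xd8 yd49 zd46) (kd xd15 yd30 zd10) (kd xd5 yd50 zd20) (kd xd14 yd20 zd43) (kd xd12 yd55 zd54) (kd xd9 yd31 zd48) (kd xd6 yd2 zd58) (kd xd11 yd28 zd26) (kd xd5 yd50 zd28) (kd xd10 yd43 zd24) (kd xd9 yd13 zd26) (kd xd5 yd50 zd29) (kd xd12 yd9 zd49) (kd xd12 yd30 zd14) (kd xd8 yd58 zd7) (kd xd8 yd58 zd8)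 (kd xd6 yd12 zd43)) (@D3.rec (fun _ => Pt) (kd xd5 yd50 zd34) (kd xd20 yd26 zd16) (kd xd17 yd56 zd6) (kd xd11 yd24 zd30) (kd xd17 yd4 zd5) (kd xd17 yd59 zd40) (kd xd12 yd17 zd54) (kd xd12 yd32 zd24) (kd xd6 yd31 zd38) (kd xd9 yd14 zd13) (kd xd11 yd51 zd17) (kd xd9 yd14 zd18) (kd xd8 yd4 zd43) (kd xd7 yd57 zd7) (kd xd8 yd51 zd42) (kd xd17 yd53 zd1) (kd xd16 yd23 zd15) (kd xd14 yd59 zd19) (kd xd16 yd19 zd22) (kd xd9 yd9 zd45) (kd xd9 yd9 zd43) (kd xd10 yd5 zd16) (kd xd11 yd2 zd4) (kd xd9 yd4 zd15) (kd xd5 yd50 zd57) (kd xd5 yd50 zd58) (kd xd17 yd45 zd33) (kd xd16 yd49 zd35) (kd xd14 yd47 zd61) (kd xd15 yd29 zd56) (kd xd6 yd7 zd55) (kd xd20 yd26 zd34) (kd xd20 yd26 zd36) (kd xd20 yd26 zd39) (kd xd20 yd26 zd42) (kd xd5 yd51 zd0) (kd xd10 yd29 zd12) (kd xd16 yd54 zd32) (kd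 xd5 yd51 zd4) (kd xd7 yd44 zd57) (kd xd13 yd0 zd47) (kd xd5 yd51 zd5) (kd xd17 yd57 zd53) (kd xd20 yd26 zd48) (kd xd20 yd26 zd50) (kd xd18 yd25 zd16) (kd xd12 yd10 zd25) (kd xd20 yd26 zd53) (kd xd20 yd26 zd55) (kd xd5 yd51 zd10) (kd xd20 yd26 zd59) (kd xd20 yd26 zd60) (kd xd5 yd51 zd11) (kd xd20 yd27 zd1) (kd xd5 yd51 zd12) (kd xd12 yd25 zd7) (kd xd12 yd28 zd21) (kd xd20 yd27 zd3) (kd xd20 yd27 zd5) (kd xd20 yd5 zd60) (kd xd20 yd27 zd7) (kd xd20 yd27 zd8)) (@D3.rec (fun _ => Pt) (kd xd20 yd27 zd11) (kd xd5 yd51 zd17) (kd xd20 yd27 zd16) (kd xd10 yd34 zd57) (kd xd5 yd51 zd18) (kd xd11 yd30 zd23) (kd xd20 yd27 zd18) (kd xd5 yd51 zd21) (kd xd20 yd27 zd20) (kd xd5 yd51 zd22) (kd xd20 yd27 zd23) (kd xd20 yd27 zd24) (kd xd20 yd27 zd26) (kd xd20 yd20 zd24) (kd xd16 yd53 zd60)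 (kd xd11 yd24 zd44) (kd xd13 yd0 zd48) (kd xd9 yd6 zd1) (kd xd12 yd10 zd26) (kd xd7 yd45 zd8) (kd xd9 yd24 zd30) (kd xd6 yd25 zd48) (kd xd9 yd6 zd2) (kd xd11 yd30 zd5) (kd xd9 yd5 zd51) (kd xd14 yd7 zd39) (kd xd5 yd51 zd29) (kd xd12 yd57 zd44) (kd xd5 yd51 zd30) (kd xd20 yd27 zd34) (kd xd17 yd12 zd54) (kd xd20 yd27 zd36) (kd xd20 yd27 zd39) (kd xd20 yd27 zd41) (kd xd20 yd27 zd43) (kd xd5 yd51 zd35) (kd xd12 yd39 zd57) (kd xd12 yd17 zd24) (kd xd12 yd26 zd57) (kd xd12 yd25 zd38) (kd xd11 yd35 zd60) (kd xd11 yd24 zd54) (kd xd20 yd25 zd18) (kd xd5 yd51 zd43) (kd xd7 yd23 zd34) (kd xd5 yd51 zd45) (kd xd15 yd4 zd11) (kd xd20 yd27 zd50) (kd xd5 yd51 zd46) (kd xd12 yd9 zd45) (kd xd11 yd27 zd16) (kd xd11 yd27 zd17) (kd xd18 yd23 zd39) (kd xd5 yd51 zd48) (kd xd12 yd55 zd41) (kd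 xd6 yd25 zd54) (kd xd6 yd25 zd55) (kd xd7 yd43 zd14) (kd xd12 yd17 zd7) (kd xd12 yd17 zd8) (kd xd9 yd6 zd3) (kd xd6 yd8 zd61)) (@D3.rec (fun _ => Pt) (kd xd12 yd56 zd30) (kd xd6 yd51 zd14) (kd xd6 yd51 zd15) (kd xd9 yd32 zd20) (kd xd20 yd28 zd0) (kd xd5 yd52 zd2) (kd xd9 yd44 zd24) (kd xd9 yd17 zd60) (kd xd20 yd28 zd1) (kd xd20 yd28 zd2) (kd xd11 yd6 zd60) (kd xd8 yd50 zd1) (kd xd10 yd7 zd18) (kd xd5 yd52 zd9) (kd xd12 yd4 zd39) (kd xd20 yd28 zd3) (kd xd20 yd28 zd4) (kd xd10 yd18 zd50) (kd xd11 yd27 zd53) (kd xd10 yd18 zd20) (kd xd8 yd49 zd7) (kd xd9 yd1 zd54) (kd xd10 yd55 zd23) (kd xd11 yd27 zd59) (kd xd12 yd10 zd12) (kd xd5 yd52 zd27) (kd xd13 yd11 zd3) (kd xd10 yd58 zd29) (kd xd10 yd0 zd30) (kd xd5 yd52 zd30) (kd xd9 yd50 zd56) (kd xd12 yd55 zd33) (kd xd12 yd25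 zd19) (kd xd10 yd4 zd57) (kd xd16 yd57 zd52) (kd xd12 yd42 zd58) (kd xd6 yd20 zd24) (kd xd6 yd20 zd25) (kd xd10 yd3 zd0) (kd xd20 yd28 zd14) (kd xd5 yd53 zd6) (kd xd11 yd50 zd42) (kd xd6 yd19 zd47) (kd xd11 yd27 zd43) (kd xd17 yd8 zd29) (kd xd11 yd28 zd23) (kd xd20 yd28 zd25) (kd xd5 yd52 zd42) (kd xd11 yd50 zd27) (kd xd11 yd27 zd23) (kd xd16 yd57 zd0) (kd xd16 yd43 zd49) (kd xd12 yd25 zd4) (kd xd12 yd25 zd5) (kd xd9 yd5 zd40) (kd xd20 yd28 zd31) (kd xd5 yd52 zd48) (kd xd12 yd41 zd38) (kd xd5 yd52 zd49) (kd xd9 yd50 zd23) (kd xd17 yd16 zd38) (kd xd20 yd28 zd38)) (@D3.rec (fun _ => Pt) (kd xd20 yd28 zd40) (kd xd5 yd52 zd55) (kd xd20 yd28 zd43) (kd xd10 yd17 zd55) (kd xd7 yd3 zd50) (kd xd12 yd7 zd19) (kd xd7 yd40 zd34) (kd xd9 yd8 zd26) (kd xd20 yd28 zd52) (kd xd13 yd1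 zd35) (kd xd12 yd10 zd58) (kd xd20 yd28 zd55) (kd xd7 yd34 zd54) (kd xd5 yd52 zd61) (kd xd5 yd53 zd2) (kd xd20 yd28 zd60) (kd xd20 yd29 zd0) (kd xd17 yd58 zd33) (kd xd7 yd34 zd15) (kd xd6 yd33 zd29) (kd xd20 yd29 zd4) (kd xd20 yd29 zd7) (kd xd5 yd53 zd7) (kd xd20 yd29 zd11) (kd xd5 yd58 zd34) (kd xd20 yd28 zd58) (kd xd20 yd29 zd15) (kd xd11 yd57 zd58) (kd xd11 yd7 zd7) (kd xd20 yd29 zd18) (kd xd5 yd53 zd12) (kd xd20 yd29 zd21) (kd xd8 yd12 zd13) (kd xd16 yd19 zd19) (kd xd8 yd25 zd57) (kd xd16 yd51 zd54) (kd xd7 yd6 zd30) (kd xd15 yd10 zd16) (kd xd8 yd4 zd53) (kd xd15 yd13 zd12) (kd xd19 yd57 zd24) (kd xd20 yd29 zd44) (kd xd20 yd29 zd47) (kd xd20 yd7 zd9) (kd xd20 yd29 zd48) (kd xd13 yd59 zd28) (kd xd13 yd59 zd27) (kd xd7 yd52 zd19) (kd xd5 yd53 zd20) (kd xd20 yd29 zd53)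 (kd xd20 yd29 zd55) (kd xd19 yd48 zd52) (kd xd5 yd53 zd23) (kd xd9 yd1 zd10) (kd xd12 yd55 zd23) (kd xd5 yd53 zd25) (kd xd11 yd58 zd42) (kd xd20 yd29 zd61) (kd xd5 yd53 zd28) (kd xd9 yd25 zd2) (kd xd12 yd8 zd49) (kd xd9 yd25 zd54)) (@D3.rec (fun _ => Pt) (kd xd7 yd33 zd43) (kd xd9 yd16 zd16) (kd xd20 yd30 zd9) (kd xd20 yd30 zd12) (kd xd20 yd30 zd15) (kd xd5 yd53 zd32) (kd xd20 yd30 zd19) (kd xd12 yd10 zd57) (kd xd12 yd10 zd59) (kd xd13 yd47 zd58) (kd xd11 yd6 zd59) (kd xd11 yd6 zd58) (kd xd20 yd7 zd17) (kd xd5 yd53 zd37) (kd xd12 yd9 zd51) (kd xd13 yd44 zd5) (kd xd18 yd23 zd17) (kd xd20 yd30 zd36) (kd xd5 yd53 zd40) (kd xd7 yd25 zd40) (kd xd20 yd7 zd42) (kd xd17 yd6 zd41) (kd xd5 yd53 zd42) (kd xd20 yd8 zd33) (kd xd12 yd33 zd37) (kd xd20 yd30 zd42) (kd xd20 yd30 zd44)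 (kd xd20 yd7 zd46) (kd xd13 yd0 zd57) (kd xd17 yd53 zd44) (kd xd19 yd47 zd2) (kd xd11 yd41 zd11) (kd xd14 yd45 zd22) (kd xd5 yd53 zd50) (kd xd9 yd22 zd12) (kd xd20 yd30 zd51) (kd xd20 yd30 zd53) (kd xd20 yd30 zd55) (kd xd5 yd53 zd52) (kd xd20 yd30 zd60) (kd xd5 yd53 zd53) (kd xd20 yd31 zd2) (kd xd5 yd53 zd57) (kd xd20 yd31 zd4) (kd xd6 yd16 zd37) (kd xd5 yd53 zd59) (kd xd20 yd31 zd8) (kd xd11 yd57 zd42) (kd xd20 yd31 zd10) (kd xd14 yd35 zd43) (kd xd9 yd19 zd52) (kd xd20 yd31 zd13) (kd xd5 yd54 zd1) (kd xd17 yd0 zd55) (kd xd6 yd6 zd26) (kd xd6 yd0 zd37) (kd xd6 yd0 zd38) (kd xd20 yd31 zd19) (kd xd20 yd31 zd21) (kd xd5 yd54 zd5) (kd xd20 yd31 zd25) (kd xd7 yd14 zd29)) (@D3.rec (fun _ => Pt) (kd xd11 yd6 zd48) (kd xd14 yd28 zd19) (kd xd20 yd31 zd30) (kd xd20 yd8 zd4) (kd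 xd13 yd16 zd37) (kd xd13 yd16 zd36) (kd xd20 yd31 zd34) (kd xd20 yd31 zd38) (kd xd20 yd31 zd41) (kd xd5 yd54 zd10) (kd xd20 yd31 zd45) (kd xd9 yd25 zd46) (kd xd20 yd31 zd48) (kd xd16 yd35 zd43) (kd xd20 yd0 zd12) (kd xd18 yd45 zd35) (kd xd20 yd31 zd52) (kd xd11 yd21 zd5) (kd xd19 yd18 zd16) (kd xd5 yd54 zd15) (kd xd20 yd31 zd56) (kd xd20 yd31 zd59) (kd xd11 yd0 zd6) (kd xd5 yd54 zd16) (kd xd15 yd0 zd6) (kd xd20 yd32 zd3) (kd xd11 yd0 zd7) (kd xd5 yd54 zd17) (kd xd20 yd32 zd9) (kd xd20 yd32 zd12) (kd xd20 yd32 zd15) (kd xd11 yd20 zd55) (kd xd5 yd54 zd19) (kd xd5 yd54 zd20) (kd xd8 yd10 zd32) (kd xd20 yd32 zd27) (kd xd7 yd17 zd10) (kd xd20 yd32 zd32) (kd xd10 yd5 zd8) (kd xd8 yd25 zd52) (kd xd15 yd26 zd60) (kd xd16 yd52 zd60) (kd xd20 yd32 zd43) (kd xd20 yd32 zd45) (kd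 xd20 yd32 zd49) (kd xd5 yd54 zd25) (kd xd20 yd31 zd14) (kd xd17 yd1 zd22) (kd xd17 yd7 zd53) (kd xd5 yd54 zd29) (kd xd6 yd46 zd0) (kd xd9 yd13 zd16) (kd xd5 yd54 zd31) (kd xd5 yd54 zd34) (kd xd6 yd5 zd56) (kd xd6 yd6 zd24) (kd xd6 yd6 zd25) (kd xd5 yd54 zd37) (kd xd9 yd31 zd13) (kd xd20 yd32 zd60) (kd xd5 yd54 zd39) (kd xd6 yd49 zd19)) (@D3.rec (fun _ => Pt) (kd xd5 yd54 zd40) (kd xd11 yd44 zd32) (kd xd12 yd53 zd16) (kd xd9 yd13 zd32) (kd xd12 yd55 zd29) (kd xd9 yd31 zd17) (kd xd6 yd1 zd46) (kd xd9 yd4 zd53) (kd xd17 yd0 zd36) (kd xd20 yd13 zd38) (kd xd5 yd54 zd50) (kd xd20 yd32 zd50) (kd xd7 yd33 zd45) (kd xd20 yd33 zd13) (kd xd14 yd7 zd60) (kd xd5 yd54 zd54) (kd xd20 yd33 zd19) (kd xd16 yd56 zd39) (kd xd5 yd54 zd55) (kd xd20 yd33 zd22) (kd xd6 yd0 zd8) (kd xd5 yd54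 zd57) (kd xd5 yd54 zd59) (kd xd20 yd32 zd51) (kd xd20 yd33 zd23) (kd xd5 yd54 zd61) (kd xd20 yd33 zd33) (kd xd10 yd45 zd38) (kd xd12 yd56 zd22) (kd xd16 yd51 zd18) (kd xd20 yd33 zd14) (kd xd20 yd33 zd15) (kd xd13 yd19 zd30) (kd xd5 yd55 zd2) (kd xd20 yd33 zd43) (kd xd20 yd33 zd46) (kd xd16 yd31 zd47) (kd xd5 yd55 zd4) (kd xd20 yd33 zd49) (kd xd9 yd12 zd16) (kd xd12 yd9 zd33) (kd xd5 yd55 zd6) (kd xd20 yd33 zd51) (kd xd20 yd33 zd54) (kd xd14 yd17 zd1) (kd xd20 yd33 zd56) (kd xd5 yd55 zd7) (kd xd6 yd46 zd58) (kd xd10 yd5 zd15) (kd xd15 yd23 zd44) (kd xd17 yd0 zd37) (kd xd5 yd55 zd9) (kd xd20 yd34 zd6) (kd xd10 yd45 zd46) (kd xd10 yd45 zd47) (kd xd5 yd55 zd11) (kd xd8 yd25 zd21) (kd xd9 yd13 zd55) (kd xd17 yd5 zd13) (kd xd9 yd17 zd23) (kd xd11 yd30 zd40) (kd xd9 yd30 zd45))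 (@D3.rec (fun _ => Pt) (kd xd20 yd21 zd60) (kd xd5 yd55 zd21) (kd xd11 yd21 zd26) (kd xd6 yd3 zd1) (kd xd6 yd19 zd34) (kd xd6 yd19 zd35) (kd xd5 yd55 zd51) (kd xd18 yd1 zd13) (kd xd20 yd34 zd15) (kd xd17 yd48 zd39) (kd xd18 yd20 zd26) (kd xd20 yd34 zd23) (kd xd20 yd34 zd25) (kd xd8 yd59 zd42) (kd xd9 yd14 zd24) (kd xd11 yd28 zd39) (kd xd12 yd1 zd30) (kd xd15 yd50 zd16) (kd xd12 yd36 zd53) (kd xd13 yd46 zd24) (kd xd9 yd48 zd27) (kd xd5 yd55 zd32) (kd xd20 yd34 zd33) (kd xd20 yd34 zd36) (kd xd10 yd30 zd24) (kd xd12 yd23 zd43) (kd xd20 yd34 zd38) (kd xd17 yd51 zd25) (kd xd5 yd56 zd29) (kd xd20 yd34 zd40) (kd xd5 yd55 zd37) (kd xd9 yd7 zd14) (kd xd20 yd34 zd44) (kd xd20 yd34 zd47) (kd xd5 yd55 zd40) (kd xd20 yd34 zd52) (kd xd13 yd36 zd38) (kd xd9 yd11 zd40) (kd xd20 yd16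 zd20) (kd xd14 yd55 zd34) (kd xd20 yd34 zd54) (kd xd20 yd34 zd56) (kd xd5 yd55 zd44) (kd xd20 yd34 zd58) (kd xd16 yd59 zd38) (kd xd20 yd34 zd59) (kd xd20 yd34 zd60) (kd xd20 yd35 zd1) (kd xd5 yd55 zd48) (kd xd20 yd35 zd5) (kd xd20 yd35 zd6) (kd xd5 yd55 zd49) (kd xd8 yd42 zd61) (kd xd8 yd42 zd60) (kd xd20 yd35 zd14) (kd xd10 yd26 zd52) (kd xd20 yd35 zd15) (kd xd20 yd35 zd18) (kd xd20 yd35 zd19) (kd xd8 yd59 zd17) (kd xd20 yd35 zd22) (kd xd5 yd55 zd55)) (@D3.rec (fun _ => Pt) (kd xd17 yd8 zd19) (kd xd6 yd2 zd29) (kd xd20 yd35 zd29) (kd xd5 yd55 zd57) (kd xd20 yd35 zd32) (kd xd20 yd35 zd33) (kd xd20 yd35 zd35) (kd xd20 yd35 zd37) (kd xd20 yd35 zd40) (kd xd5 yd55 zd60) (kd xd6 yd10 zd44) (kd xd20 yd10 zd36) (kd xd20 yd10 zd37) (kd xd6 yd36 zd22) (kd xd6 yd36 zd23) (kd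 xd12 yd52 zd40) (kd xd20 yd35 zd49) (kd xd20 yd10 zd43) (kd xd7 yd25 zd39) (kd xd6 yd34 zd61) (kd xd5 yd56 zd4) (kd xd6 yd2 zd18) (kd xd20 yd35 zd53) (kd xd20 yd35 zd54) (kd xd5 yd56 zd5) (kd xd20 yd35 zd57) (kd xd8 yd51 zd56) (kd xd16 yd23 zd49) (kd xd14 yd19 zd4) (kd xd6 yd48 zd61) (kd xd6 yd33 zd55) (kd xd6 yd33 zd56) (kd xd7 yd27 zd23) (kd xd18 yd23 zd48) (kd xd12 yd38 zd39) (kd xd20 yd36 zd3) (kd xd20 yd36 zd4) (kd xd20 yd36 zd7) (kd xd5 yd56 zd11) (kd xd20 yd36 zd11) (kd xd9 yd12 zd7) (kd xd14 yd26 zd55) (kd xd9 yd25 zd31) (kd xd5 yd56 zd14) (kd xd20 yd36 zd14) (kd xd20 yd36 zd16) (kd xd15 yd27 zd14) (kd xd16 yd0 zd9) (kd xd5 yd56 zd16) (kd xd20 yd36 zd21) (kd xd14 yd28 zd17) (kd xd17 yd35 zd37) (kd xd5 yd56 zd17) (kd xd7 yd12 zd15) (kd xd12 yd12 zd15) (kd xd5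 yd56 zd18) (kd xd20 yd36 zd34) (kd xd20 yd8 zd41) (kd xd16 yd53 zd12) (kd xd20 yd36 zd43) (kd xd5 yd56 zd20) (kd xd5 yd56 zd21)) (@D3.rec (fun _ => Pt) (kd xd10 yd2 zd52) (kd xd20 yd36 zd51) (kd xd16 yd24 zd35) (kd xd5 yd56 zd23) (kd xd20 yd36 zd57) (kd xd16 yd39 zd57) (kd xd13 yd26 zd46) (kd xd20 yd37 zd3) (kd xd5 yd56 zd25) (kd xd17 yd3 zd47) (kd xd12 yd9 zd54) (kd xd20 yd37 zd10) (kd xd7 yd13 zd44) (kd xd20 yd37 zd15) (kd xd20 yd37 zd18) (kd xd20 yd37 zd22) (kd xd5 yd56 zd27) (kd xd20 yd35 zd43) (kd xd16 yd10 zd46) (kd xd17 yd50 zd24) (kd xd20 yd37 zd28) (kd xd5 yd56 zd31) (kd xd20 yd37 zd31) (kd xd20 yd37 zd33) (kd xd5 yd56 zd32) (kd xd6 yd49 zd51) (kd xd6 yd49 zd50) (kd xd7 yd27 zd1) (kd xd10 yd18 zd60) (kd xd20 yd37 zd36) (kd xd20 yd37 zd39) (kd xd20 yd37 zd41)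 (kd xd20 yd37 zd42) (kd xd5 yd56 zd37) (kd xd20 yd37 zd46) (kd xd17 yd50 zd33) (kd xd5 yd56 zd38) (kd xd11 yd1 zd47) (kd xd9 yd13 zd48) (kd xd20 yd37 zd49) (kd xd5 yd56 zd40) (kd xd20 yd37 zd51) (kd xd5 yd56 zd42) (kd xd20 yd37 zd53) (kd xd5 yd56 zd43) (kd xd20 yd37 zd56) (kd xd20 yd37 zd59) (kd xd20 yd37 zd61) (kd xd5 yd56 zd46) (kd xd19 yd53 zd5) (kd xd20 yd38 zd5) (kd xd20 yd38 zd7) (kd xd5 yd56 zd47) (kd xd11 yd50 zd9) (kd xd5 yd56 zd49) (kd xd17 yd50 zd25) (kd xd20 yd38 zd11) (kd xd5 yd56 zd50) (kd xd19 yd53 zd3) (kd xd9 yd31 zd31) (kd xd20 yd38 zd23) (kd xd10 yd57 zd47)) (@D3.rec (fun _ => Pt) (kd xd5 yd56 zd52) (kd xd9 yd13 zd4) (kd xd5 yd56 zd53) (kd xd11 yd46 zd42) (kd xd20 yd38 zd25) (kd xd5 yd56 zd54) (kd xd20 yd38 zd30) (kd xd20 yd38 zd32) (kd xd11 yd50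 zd15) (kd xd19 yd22 zd33) (kd xd18 yd21 zd5) (kd xd17 yd31 zd7) (kd xd20 yd38 zd38) (kd xd19 yd13 zd20) (kd xd20 yd38 zd43) (kd xd5 yd56 zd59) (kd xd20 yd38 zd47) (kd xd16 yd59 zd46) (kd xd5 yd56 zd61) (kd xd17 yd7 zd15) (kd xd16 yd21 zd36) (kd xd20 yd38 zd57) (kd xd5 yd57 zd1) (kd xd20 yd39 zd0) (kd xd20 yd9 zd26) (kd xd16 yd53 zd40) (kd xd17 yd7 zd13) (kd xd17 yd7 zd14) (kd xd20 yd39 zd9) (kd xd5 yd57 zd3) (kd xd16 yd5 zd43) (kd xd16 yd29 zd53) (kd xd20 yd39 zd18) (kd xd5 yd57 zd7) (kd xd16 yd29 zd54) (kd xd20 yd39 zd22) (kd xd15 yd26 zd31) (kd xd5 yd57 zd9) (kd xd20 yd39 zd28) (kd xd20 yd39 zd32) (kd xd5 yd57 zd10) (kd xd17 yd6 zd59) (kd xd17 yd6 zd58) (kd xd17 yd6 zd51) (kd xd20 yd38 zd46) (kd xd5 yd57 zd12) (kd xd20 yd39 zd46) (kd xd11 yd49 zd39) (kd xd11 yd49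 zd37) (kd xd5 yd57 zd14) (kd xd20 yd39 zd50) (kd xd9 yd30 zd23) (kd xd5 yd57 zd16) (kd xd11 yd45 zd32) (kd xd17 yd7 zd39) (kd xd17 yd7 zd40) (kd xd9 yd13 zd12) (kd xd20 yd39 zd60) (kd xd5 yd57 zd20) (kd xd20 yd40 zd1) (kd xd12 yd53 zd32) (kd xd13 yd22 zd7)) (@D3.rec (fun _ => Pt) (kd xd12 yd32 zd46) (kd xd20 yd40 zd5) (kd xd20 yd40 zd6) (kd xd20 yd29 zd8) (kd xd5 yd57 zd27) (kd xd6 yd42 zd27) (kd xd16 yd49 zd6) (kd xd20 yd40 zd13) (kd xd5 yd57 zd30) (kd xd20 yd40 zd15) (kd xd14 yd4 zd43) (kd xd20 yd7 zd11) (kd xd11 yd18 zd22) (kd xd11 yd6 zd32) (kd xd16 yd28 zd22) (kd xd16 yd28 zd23) (kd xd12 yd6 zd18) (kd xd14 yd34 zd51) (kd xd12 yd41 zd7) (kd xd5 yd57 zd40) (kd xd5 yd57 zd41) (kd xd5 yd57 zd42) (kd xd12 yd43 zd22) (kd xd12 yd42 zd56) (kd xd11 yd58 zd40) (kd xd11 yd16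 zd49) (kd xd6 yd1 zd28) (kd xd5 yd57 zd49) (kd xd20 yd40 zd26) (kd xd5 yd57 zd51) (kd xd20 yd40 zd29) (kd xd6 yd51 zd1) (kd xd5 yd57 zd53) (kd xd12 yd53 zd34) (kd xd17 yd59 zd38) (kd xd20 yd12 zd53) (kd xd20 yd14 zd53) (kd xd11 yd16 zd60) (kd xd11 yd16 zd18) (kd xd17 yd12 zd55) (kd xd5 yd57 zd58) (kd xd5 yd57 zd59) (kd xd5 yd57 zd60) (kd xd17 yd5 zd19) (kd xd11 yd43 zd54) (kd xd5 yd58 zd0) (kd xd11 yd47 zd37) (kd xd16 yd48 zd20) (kd xd12 yd56 zd21) (kd xd5 yd58 zd4) (kd xd20 yd40 zd36) (kd xd20 yd40 zd39) (kd xd14 yd33 zd23) (kd xd14 yd33 zd24) (kd xd5 yd58 zd6) (kd xd7 yd43 zd25) (kd xd20 yd40 zd42) (kd xd5 yd58 zd7) (kd xd10 yd40 zd22) (kd xd5 yd58 zd8) (kd xd11 yd43 zd38) (kd xd5 yd58 zd10)) (@D3.rec (fun _ => Pt) (kd xd20 yd25 zd36) (kd xd5 yd58 zd11) (kd xd20 yd40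 zd47) (kd xd20 yd40 zd50) (kd xd5 yd58 zd13) (kd xd20 yd40 zd51) (kd xd20 yd40 zd52) (kd xd5 yd58 zd15) (kd xd20 yd40 zd56) (kd xd8 yd46 zd19) (kd xd8 yd46 zd57) (kd xd11 yd33 zd31) (kd xd12 yd51 zd5) (kd xd20 yd41 zd1) (kd xd5 yd58 zd17) (kd xd20 yd41 zd4) (kd xd5 yd58 zd18) (kd xd5 yd59 zd47) (kd xd7 yd22 zd11) (kd xd5 yd58 zd21) (kd xd20 yd41 zd10) (kd xd5 yd59 zd43) (kd xd20 yd41 zd13) (kd xd20 yd41 zd16) (kd xd7 yd4 zd15) (kd xd20 yd41 zd20) (kd xd20 yd41 zd22) (kd xd20 yd41 zd24) (kd xd5 yd58 zd26) (kd xd9 yd29 zd54) (kd xd20 yd41 zd31) (kd xd11 yd20 zd23) (kd xd20 yd9 zd31) (kd xd20 yd41 zd33) (kd xd20 yd41 zd34) (kd xd7 yd8 zd29) (kd xd5 yd58 zd35) (kd xd8 yd50 zd0) (kd xd20 yd13 zd23) (kd xd20 yd41 zd38) (kd xd5 yd58 zd37) (kd xd20 yd41 zd41) (kd xd20 yd41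 zd43) (kd xd7 yd7 zd47) (kd xd7 yd33 zd42) (kd xd5 yd58 zd39) (kd xd20 yd41 zd49) (kd xd20 yd41 zd50) (kd xd20 yd41 zd52) (kd xd20 yd41 zd53) (kd xd5 yd58 zd41) (kd xd20 yd41 zd58) (kd xd11 yd0 zd28) (kd xd5 yd58 zd42) (kd xd20 yd41 zd60) (kd xd5 yd58 zd43) (kd xd11 yd47 zd15) (kd xd17 yd32 zd23) (kd xd17 yd7 zd50) (kd xd20 yd42 zd4) (kd xd5 yd58 zd45) (kd xd11 yd11 zd17)) (@D3.rec (fun _ => Pt) (kd xd17 yd1 zd51) (kd xd20 yd42 zd11) (kd xd5 yd58 zd49) (kd xd20 yd42 zd14) (kd xd18 yd22 zd30) (kd xd15 yd6 zd8) (kd xd9 yd9 zd39) (kd xd8 yd48 zd7) (kd xd20 yd42 zd22) (kd xd5 yd58 zd52) (kd xd20 yd42 zd26) (kd xd16 yd48 zd26) (kd xd12 yd58 zd18) (kd xd5 yd58 zd54) (kd xd13 yd55 zd44) (kd xd20 yd42 zd30) (kd xd11 yd45 zd12) (kd xd19 yd45 zd33) (kd xd5 yd58 zd56) (kd xd20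 yd42 zd34) (kd xd11 yd10 zd13) (kd xd13 yd42 zd16) (kd xd5 yd58 zd58) (kd xd20 yd42 zd39) (kd xd20 yd42 zd41) (kd xd20 yd42 zd42) (kd xd5 yd58 zd61) (kd xd20 yd42 zd48) (kd xd20 yd42 zd51) (kd xd5 yd59 zd0) (kd xd20 yd42 zd55) (kd xd17 yd53 zd31) (kd xd5 yd59 zd1) (kd xd11 yd44 zd20) (kd xd20 yd43 zd0) (kd xd5 yd59 zd2) (kd xd11 yd46 zd52) (kd xd17 yd32 zd30) (kd xd17 yd31 zd24) (kd xd20 yd43 zd12) (kd xd5 yd59 zd4) (kd xd20 yd43 zd14) (kd xd5 yd59 zd5) (kd xd11 yd46 zd16) (kd xd20 yd43 zd19) (kd xd20 yd43 zd21) (kd xd19 yd37 zd35) (kd xd19 yd37 zd36) (kd xd20 yd43 zd26) (kd xd5 yd59 zd9) (kd xd20 yd43 zd32) (kd xd6 yd49 zd20) (kd xd7 yd37 zd35) (kd xd5 yd59 zd11) (kd xd20 yd43 zd38) (kd xd7 yd52 zd6) (kd xd7 yd52 zd2) (kd xd20 yd4 zd49) (kd xd13 yd36 zd56) (kd xd5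 yd59 zd13) (kd xd20 yd43 zd46) (kd xd11 yd51 zd53)) (@D3.rec (fun _ => Pt) (kd xd5 yd59 zd15) (kd xd17 yd32 zd34) (kd xd20 yd43 zd49) (kd xd5 yd59 zd16) (kd xd19 yd24 zd38) (kd xd20 yd43 zd53) (kd xd5 yd59 zd17) (kd xd20 yd43 zd56) (kd xd9 yd47 zd21) (kd xd9 yd46 zd25) (kd xd11 yd20 zd32) (kd xd20 yd43 zd31) (kd xd5 yd59 zd19) (kd xd20 yd44 zd5) (kd xd6 yd30 zd49) (kd xd6 yd21 zd4) (kd xd20 yd44 zd10) (kd xd20 yd44 zd12) (kd xd20 yd44 zd14) (kd xd5 yd59 zd22) (kd xd20 yd44 zd18) (kd xd20 yd44 zd19) (kd xd20 yd44 zd22) (kd xd5 yd59 zd23) (kd xd20 yd44 zd26) (kd xd20 yd44 zd27) (kd xd5 yd59 zd24) (kd xd13 yd10 zd40) (kd xd17 yd11 zd22) (kd xd20 yd16 zd58) (kd xd5 yd59 zd26) (kd xd20 yd44 zd38) (kd xd5 yd59 zd27) (kd xd11 yd58 zd17) (kd xd20 yd44 zd45) (kd xd5 yd59 zd28)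 (kd xd20 yd44 zd48) (kd xd20 yd44 zd51) (kd xd11 yd40 zd60) (kd xd5 yd59 zd31) (kd xd6 yd49 zd46) (kd xd20 yd44 zd54) (kd xd5 yd59 zd32) (kd xd20 yd44 zd56) (kd xd8 yd59 zd36) (kd xd17 yd31 zd46) (kd xd8 yd48 zd17) (kd xd5 yd59 zd36) (kd xd20 yd44 zd58) (kd xd20 yd44 zd61) (kd xd20 yd17 zd12) (kd xd5 yd59 zd38) (kd xd20 yd45 zd5) (kd xd5 yd59 zd39) (kd xd11 yd40 zd44) (kd xd11 yd20 zd5) (kd xd19 yd27 zd56) (kd xd11 yd56 zd46) (kd xd5 yd59 zd42) (kd xd11 yd21 zd27) (kd xd11 yd21 zd30) (kd xd5 yd59 zd44)) (@D3.rec (fun _ => Pt) (kd xd5 yd59 zd45) (kd xd12 yd6 zd16) (kd xd20 yd45 zd11) (kd xd20 yd41 zd6) (kd xd14 yd44 zd7) (kd xd20 yd45 zd14) (kd xd20 yd45 zd18) (kd xd20 yd45 zd20) (kd xd20 yd45 zd22) (kd xd5 yd59 zd50) (kd xd20 yd45 zd26) (kd xd11 yd28 zd31) (kd xd20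 yd45 zd30) (kd xd20 yd45 zd33) (kd xd10 yd21 zd44) (kd xd5 yd59 zd53) (kd xd14 yd3 zd52) (kd xd17 yd53 zd46) (kd xd5 yd59 zd54) (kd xd20 yd45 zd39) (kd xd11 yd42 zd33) (kd xd20 yd45 zd46) (kd xd5 yd59 zd56) (kd xd6 yd8 zd50) (kd xd17 yd32 zd40) (kd xd19 yd2 zd18) (kd xd10 yd30 zd20) (kd xd20 yd45 zd53) (kd xd5 yd59 zd60) (kd xd20 yd45 zd54) (kd xd5 yd59 zd61) (kd xd19 yd23 zd30) (kd xd11 yd35 zd1) (kd xd6 yd0 zd7) (kd xd6 yd59 zd45) (kd xd7 yd18 zd53) (kd xd7 yd35 zd59) (kd xd20 yd45 zd61) (kd xd6 yd0 zd4) (kd xd10 yd36 zd51) (kd xd6 yd0 zd5) (kd xd20 yd41 zd39) (kd xd6 yd0 zd6) (kd xd15 yd5 zd13) (kd xd20 yd46 zd4) (kd xd6 yd0 zd9) (kd xd16 yd44 zd38) (kd xd6 yd45 zd48) (kd xd20 yd46 zd5) (kd xd6 yd0 zd11) (kd xd16 yd44 zd37) (kd xd14 yd48 zd20) (kd xd20 yd46 zd9)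 (kd xd6 yd0 zd12) (kd xd17 yd33 zd5) (kd xd20 yd46 zd13) (kd xd17 yd58 zd12) (kd xd6 yd0 zd13) (kd xd20 yd41 zd26) (kd xd20 yd46 zd17) (kd xd6 yd0 zd14) (kd xd20 yd46 zd20)) (@D3.rec (fun _ => Pt) (kd xd7 yd53 zd10) (kd xd12 yd28 zd12) (kd xd6 yd0 zd16) (kd xd6 yd0 zd17) (kd xd20 yd46 zd24) (kd xd13 yd1 zd6) (kd xd13 yd1 zd7) (kd xd20 yd46 zd25) (kd xd6 yd0 zd20) (kd xd18 yd0 zd7) (kd xd6 yd0 zd22) (kd xd6 yd0 zd23) (kd xd11 yd42 zd16) (kd xd6 yd49 zd33) (kd xd20 yd46 zd30) (kd xd16 yd59 zd40) (kd xd6 yd0 zd25) (kd xd18 yd50 zd45) (kd xd7 yd41 zd10) (kd xd20 yd46 zd33) (kd xd7 yd41 zd11) (kd xd6 yd0 zd29) (kd xd6 yd59 zd56) (kd xd7 yd22 zd42) (kd xd14 yd35 zd12) (kd xd17 yd59 zd56) (kd xd9 yd15 zd61) (kd xd20 yd46 zd41) (kd xd10 yd20 zd52) (kd xd8 yd17 zd52) (kd xd18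 yd44 zd43) (kd xd20 yd45 zd55) (kd xd11 yd39 zd53) (kd xd20 yd46 zd52) (kd xd6 yd0 zd36) (kd xd12 yd9 zd57) (kd xd20 yd46 zd56) (kd xd20 yd46 zd57) (kd xd14 yd30 zd11) (kd xd17 yd6 zd19) (kd xd20 yd46 zd60) (kd xd20 yd47 zd1) (kd xd20 yd47 zd3) (kd xd6 yd0 zd42) (kd xd20 yd47 zd6) (kd xd8 yd29 zd22) (kd xd15 yd55 zd29) (kd xd6 yd0 zd43) (kd xd20 yd47 zd11) (kd xd6 yd56 zd24) (kd xd18 yd38 zd3) (kd xd6 yd0 zd45) (kd xd20 yd47 zd15) (kd xd20 yd47 zd17) (kd xd6 yd0 zd46) (kd xd20 yd47 zd22) (kd xd12 yd28 zd49) (kd xd12 yd28 zd48) (kd xd6 yd36 zd20) (kd xd9 yd57 zd3) (kd xd20 yd47 zd24) (kd xd10 yd22 zd40)) (@D3.rec (fun _ => Pt) (kd xd6 yd0 zd48) (kd xd20 yd47 zd29) (kd xd14 yd40 zd60) (kd xd18 yd35 zd11) (kd xd6 yd0 zd49) (kd xd20 yd47 zd40) (kd xd20 yd47 zd43) (kd xd6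 yd0 zd50) (kd xd15 yd36 zd19) (kd xd20 yd47 zd49) (kd xd20 yd47 zd52) (kd xd20 yd47 zd56) (kd xd6 yd0 zd52) (kd xd20 yd16 zd35) (kd xd20 yd47 zd59) (kd xd6 yd0 zd53) (kd xd11 yd42 zd43) (kd xd20 yd48 zd1) (kd xd19 yd30 zd29) (kd xd14 yd33 zd43) (kd xd20 yd48 zd8) (kd xd20 yd18 zd53) (kd xd6 yd0 zd55) (kd xd6 yd0 zd56) (kd xd20 yd16 zd51) (kd xd7 yd41 zd39) (kd xd20 yd16 zd47) (kd xd6 yd0 zd58) (kd xd20 yd48 zd19) (kd xd20 yd8 zd39) (kd xd20 yd16 zd41) (kd xd6 yd0 zd59) (kd xd20 yd48 zd24) (kd xd20 yd17 zd31) (kd xd20 yd17 zd11) (kd xd20 yd48 zd31) (kd xd6 yd0 zd60) (kd xd20 yd14 zd45) (kd xd17 yd24 zd17) (kd xd20 yd48 zd37) (kd xd6 yd1 zd2) (kd xd20 yd27 zd46) (kd xd11 yd39 zd3) (kd xd19 yd27 zd57) (kd xd6 yd49 zd53) (kd xd6 yd31 zd39) (kd xd20 yd48 zd42) (kd xd6 yd1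 zd5) (kd xd20 yd48 zd45) (kd xd20 yd48 zd46) (kd xd6 yd1 zd6) (kd xd20 yd48 zd52) (kd xd11 yd42 zd36) (kd xd20 yd48 zd54) (kd xd20 yd16 zd56) (kd xd20 yd48 zd60) (kd xd10 yd42 zd30) (kd xd6 yd1 zd8) (kd xd20 yd49 zd2) (kd xd11 yd18 zd47) (kd xd20 yd49 zd4) (kd xd6 yd1 zd10)) (@D3.rec (fun _ => Pt) (kd xd20 yd49 zd5) (kd xd20 yd49 zd7) (kd xd20 yd49 zd10) (kd xd6 yd1 zd11) (kd xd12 yd16 zd15) (kd xd6 yd1 zd13) (kd xd11 yd47 zd32) (kd xd20 yd49 zd13) (kd xd6 yd1 zd17) (kd xd12 yd14 zd59) (kd xd10 yd27 zd1) (kd xd20 yd49 zd16) (kd xd6 yd1 zd18) (kd xd16 yd53 zd28) (kd xd20 yd49 zd19) (kd xd11 yd41 zd56) (kd xd12 yd22 zd10) (kd xd9 yd29 zd26) (kd xd6 yd49 zd48) (kd xd20 yd49 zd20) (kd xd14 yd25 zd56) (kd xd6 yd1 zd21) (kd xd20 yd16 zd55) (kd xd19 yd10 zd36) (kd xd6 yd1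 zd23) (kd xd13 yd40 zd57) (kd xd20 yd49 zd26) (kd xd7 yd14 zd37) (kd xd6 yd1 zd27) (kd xd20 yd49 zd34) (kd xd20 yd49 zd37) (kd xd9 yd13 zd42) (kd xd11 yd47 zd6) (kd xd20 yd49 zd42) (kd xd6 yd1 zd29) (kd xd20 yd49 zd46) (kd xd20 yd46 zd28) (kd xd11 yd40 zd46) (kd xd20 yd49 zd31) (kd xd20 yd49 zd50) (kd xd6 yd1 zd31) (kd xd20 yd49 zd55) (kd xd14 yd4 zd51) (kd xd17 yd16 zd36) (kd xd20 yd49 zd59) (kd xd17 yd3 zd35) (kd xd20 yd50 zd2) (kd xd6 yd1 zd34) (kd xd20 yd50 zd6) (kd xd20 yd50 zd9) (kd xd20 yd13 zd40) (kd xd6 yd30 zd54) (kd xd20 yd50 zd13) (kd xd6 yd1 zd36) (kd xd15 yd58 zd37) (kd xd20 yd50 zd19) (kd xd6 yd1 zd37) (kd xd20 yd50 zd21) (kd xd20 yd50 zd23) (kd xd20 yd50 zd27) (kd xd20 yd50 zd29) (kd xd6 yd1 zd38)) (@D3.rec (fun _ => Pt) (kd xd16 yd59 zd5) (kd xd17 yd54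 zd50) (kd xd17 yd32 zd57) (kd xd6 yd1 zd40) (kd xd16 yd53 zd8) (kd xd6 yd1 zd42) (kd xd20 yd19 zd44) (kd xd6 yd1 zd43) (kd xd20 yd50 zd45) (kd xd20 yd20 zd46) (kd xd6 yd1 zd47) (kd xd6 yd44 zd13) (kd xd9 yd8 zd38) (kd xd17 yd33 zd3) (kd xd17 yd14 zd60) (kd xd20 yd50 zd48) (kd xd20 yd18 zd18) (kd xd11 yd6 zd25) (kd xd6 yd1 zd52) (kd xd13 yd50 zd30) (kd xd6 yd1 zd53) (kd xd12 yd9 zd48) (kd xd16 yd57 zd7) (kd xd7 yd0 zd8) (kd xd17 yd1 zd24) (kd xd6 yd1 zd56) (kd xd7 yd3 zd48) (kd xd20 yd50 zd56) (kd xd6 yd1 zd58) (kd xd20 yd50 zd58) (kd xd7 yd37 zd16) (kd xd6 yd1 zd59) (kd xd20 yd50 zd61) (kd xd20 yd51 zd2) (kd xd6 yd1 zd60) (kd xd20 yd51 zd4) (kd xd17 yd4 zd39) (kd xd6 yd2 zd0) (kd xd17 yd2 zd13) (kd xd9 yd29 zd39) (kd xd6 yd8 zd60) (kd xd6 yd9 zd0) (kd xd9 yd13 zd10)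 (kd xd17 yd56 zd46) (kd xd6 yd2 zd6) (kd xd9 yd31 zd21) (kd xd6 yd27 zd17) (kd xd6 yd2 zd8) (kd xd6 yd2 zd11) (kd xd20 yd51 zd17) (kd xd17 yd48 zd25) (kd xd16 yd51 zd14) (kd xd6 yd2 zd13) (kd xd20 yd51 zd21) (kd xd6 yd2 zd14) (kd xd16 yd51 zd12) (kd xd6 yd35 zd13) (kd xd6 yd35 zd2) (kd xd20 yd12 zd42) (kd xd6 yd2 zd19) (kd xd6 yd24 zd33) (kd xd20 yd51 zd30)) (@D3.rec (fun _ => Pt) (kd xd6 yd25 zd5) (kd xd16 yd23 zd51) (kd xd20 yd51 zd34) (kd xd18 yd17 zd48) (kd xd10 yd33 zd9) (kd xd15 yd3 zd26) (kd xd19 yd4 zd0) (kd xd20 yd51 zd39) (kd xd10 yd27 zd39) (kd xd17 yd57 zd48) (kd xd20 yd51 zd42) (kd xd20 yd51 zd44) (kd xd12 yd27 zd45) (kd xd6 yd2 zd26) (kd xd20 yd51 zd48) (kd xd17 yd48 zd12) (kd xd17 yd48 zd13) (kd xd11 yd49 zd25) (kd xd15 yd49 zd33) (kd xd13 yd10 zd41)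 (kd xd8 yd36 zd6) (kd xd6 yd2 zd32) (kd xd6 yd8 zd54) (kd xd6 yd12 zd7) (kd xd20 yd51 zd53) (kd xd11 yd49 zd17) (kd xd6 yd11 zd58) (kd xd17 yd45 zd5) (kd xd6 yd2 zd37) (kd xd11 yd51 zd48) (kd xd6 yd2 zd39) (kd xd11 yd22 zd55) (kd xd6 yd3 zd38) (kd xd8 yd58 zd40) (kd xd6 yd46 zd2) (kd xd8 yd58 zd52) (kd xd6 yd6 zd50) (kd xd11 yd39 zd48) (kd xd6 yd2 zd46) (kd xd11 yd39 zd47) (kd xd6 yd16 zd57) (kd xd20 yd9 zd37) (kd xd6 yd2 zd50) (kd xd6 yd2 zd52) (kd xd6 yd2 zd53) (kd xd19 yd27 zd47) (kd xd20 yd52 zd1) (kd xd6 yd2 zd54) (kd xd20 yd52 zd3) (kd xd7 yd48 zd4) (kd xd6 yd2 zd55) (kd xd12 yd30 zd13) (kd xd20 yd26 zd7) (kd xd14 yd20 zd41) (kd xd6 yd16 zd7) (kd xd12 yd53 zd61) (kd xd20 yd52 zd8) (kd xd20 yd33 zd2) (kd xd18 yd21 zd30) (kd xd18 yd43 zd42) (kd xd18 yd43 zd55) (kd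 xd18 yd43 zd56)) (@D3.rec (fun _ => Pt) (kd xd9 yd48 zd2) (kd xd17 yd58 zd11) (kd xd6 yd3 zd8) (kd xd6 yd3 zd9) (kd xd20 yd52 zd13) (kd xd20 yd52 zd14) (kd xd20 yd20 zd6) (kd xd6 yd3 zd11) (kd xd20 yd52 zd16) (kd xd11 yd38 zd53) (kd xd20 yd52 zd22) (kd xd17 yd13 zd16) (kd xd20 yd52 zd25) (kd xd6 yd3 zd13) (kd xd20 yd52 zd28) (kd xd11 yd39 zd8) (kd xd18 yd44 zd30) (kd xd20 yd52 zd33) (kd xd20 yd52 zd37) (kd xd6 yd3 zd15) (kd xd20 yd52 zd41) (kd xd6 yd3 zd16) (kd xd6 yd8 zd11) (kd xd11 yd21 zd34) (kd xd9 yd7 zd17) (kd xd9 yd7 zd16) (kd xd6 yd30 zd10) (kd xd11 yd31 zd48) (kd xd18 yd43 zd4) (kd xd18 yd43 zd26) (kd xd16 yd56 zd20) (kd xd12 yd7 zd32) (kd xd13 yd47 zd52) (kd xd15 yd10 zd3) (kd xd13 yd42 zd18) (kd xd13 yd41 zd28) (kd xd15 yd45 zd30) (kd xd6 yd3 zd27) (kd xd20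 yd52 zd55) (kd xd20 yd26 zd6) (kd xd13 yd1 zd41) (kd xd12 yd9 zd31) (kd xd11 yd31 zd41) (kd xd14 yd9 zd4) (kd xd11 yd51 zd11) (kd xd9 yd18 zd40) (kd xd11 yd50 zd59) (kd xd18 yd17 zd27) (kd xd12 yd24 zd14) (kd xd6 yd40 zd38) (kd xd10 yd14 zd26) (kd xd10 yd4 zd33) (kd xd7 yd15 zd36) (kd xd20 yd53 zd5) (kd xd20 yd53 zd9) (kd xd19 yd52 zd49) (kd xd18 yd23 zd20) (kd xd7 yd50 zd19) (kd xd7 yd50 zd25) (kd xd11 yd50 zd46) (kd xd20 yd53 zd16) (kd xd12 yd28 zd10)) (@D3.rec (fun _ => Pt) (kd xd6 yd3 zd44) (kd xd18 yd38 zd25) (kd xd20 yd53 zd20) (kd xd12 yd15 zd20) (kd xd6 yd3 zd45) (kd xd6 yd29 zd0) (kd xd14 yd1 zd46) (kd xd14 yd1 zd47) (kd xd6 yd55 zd48) (kd xd6 yd3 zd48) (kd xd15 yd42 zd21) (kd xd11 yd50 zd44) (kd xd12 yd59 zd28) (kd xd12 yd12 zd6) (kd xd6 yd28 zd6) (kd xd8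 yd23 zd2) (kd xd6 yd3 zd52) (kd xd11 yd29 zd10) (kd xd6 yd3 zd53) (kd xd11 yd51 zd26) (kd xd11 yd51 zd27) (kd xd9 yd41 zd36) (kd xd20 yd53 zd41) (kd xd20 yd53 zd44) (kd xd6 yd3 zd56) (kd xd18 yd50 zd52) (kd xd11 yd51 zd19) (kd xd11 yd51 zd20) (kd xd11 yd51 zd50) (kd xd14 yd47 zd54) (kd xd20 yd53 zd53) (kd xd6 yd3 zd59) (kd xd20 yd53 zd58) (kd xd20 yd53 zd59) (kd xd6 yd3 zd60) (kd xd15 yd47 zd48) (kd xd6 yd3 zd61) (kd xd20 yd28 zd19) (kd xd20 yd28 zd20) (kd xd20 yd54 zd7) (kd xd17 yd34 zd2) (kd xd17 yd16 zd0) (kd xd20 yd54 zd12) (kd xd20 yd54 zd14) (kd xd6 yd4 zd2) (kd xd20 yd54 zd19) (kd xd20 yd54 zd23) (kd xd20 yd54 zd26) (kd xd11 yd49 zd29) (kd xd10 yd35 zd11) (kd xd11 yd51 zd28) (kd xd9 yd28 zd61) (kd xd9 yd6 zd8) (kd xd11 yd42 zd61) (kd xd20 yd1 zd52) (kd xd10 yd4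 zd56) (kd xd18 yd26 zd0) (kd xd10 yd19 zd7) (kd xd10 yd4 zd58) (kd xd6 yd4 zd14) (kd xd13 yd58 zd23) (kd xd6 yd4 zd16)) (@D3.rec (fun _ => Pt) (kd xd20 yd54 zd42) (kd xd20 yd54 zd45) (kd xd6 yd4 zd17) (kd xd20 yd54 zd48) (kd xd10 yd32 zd44) (kd xd20 yd54 zd51) (kd xd14 yd7 zd56) (kd xd14 yd7 zd55) (kd xd11 yd16 zd50) (kd xd6 yd4 zd21) (kd xd8 yd32 zd50) (kd xd10 yd32 zd53) (kd xd10 yd37 zd14) (kd xd10 yd37 zd13) (kd xd20 yd55 zd1) (kd xd6 yd4 zd23) (kd xd6 yd4 zd24) (kd xd20 yd55 zd4) (kd xd8 yd52 zd14) (kd xd10 yd14 zd47) (kd xd11 yd53 zd31) (kd xd20 yd55 zd11) (kd xd16 yd2 zd42) (kd xd8 yd33 zd0) (kd xd20 yd55 zd17) (kd xd6 yd4 zd28) (kd xd19 yd31 zd61) (kd xd11 yd53 zd60) (kd xd6 yd4 zd29) (kd xd19 yd34 zd41) (kd xd20 yd55 zd28) (kd xd20 yd55 zd33) (kd xd20 yd55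 zd35) (kd xd6 yd4 zd30) (kd xd15 yd29 zd25) (kd xd8 yd11 zd1) (kd xd10 yd3 zd32) (kd xd8 yd53 zd14) (kd xd20 yd55 zd47) (kd xd15 yd29 zd1) (kd xd6 yd4 zd34) (kd xd20 yd55 zd50) (kd xd10 yd0 zd47) (kd xd10 yd31 zd43) (kd xd15 yd29 zd22) (kd xd20 yd55 zd55) (kd xd10 yd33 zd11) (kd xd15 yd8 zd55) (kd xd19 yd14 zd20) (kd xd16 yd39 zd51) (kd xd19 yd14 zd22) (kd xd20 yd39 zd15) (kd xd6 yd4 zd58) (kd xd6 yd4 zd59) (kd xd20 yd56 zd7) (kd xd16 yd40 zd23) (kd xd14 yd30 zd45) (kd xd6 yd4 zd41) (kd xd14 yd39 zd3) (kd xd16 yd41 zd6) (kd xd16 yd41 zd5) (kd xd17 yd36 zd22)) (@D3.rec (fun _ => Pt) (kd xd20 yd56 zd16) (kd xd20 yd55 zd7) (kd xd20 yd55 zd6) (kd xd6 yd4 zd50) (kd xd20 yd56 zd24) (kd xd20 yd56 zd28) (kd xd20 yd56 zd31) (kd xd6 yd4 zd52) (kd xd20 yd56 zd35) (kd xd20 yd56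 zd38) (kd xd20 yd56 zd40) (kd xd20 yd56 zd42) (kd xd20 yd56 zd44) (kd xd20 yd56 zd45) (kd xd8 yd34 zd5) (kd xd16 yd38 zd5) (kd xd16 yd39 zd23) (kd xd20 yd56 zd3) (kd xd20 yd56 zd53) (kd xd20 yd56 zd55) (kd xd6 yd4 zd60) (kd xd20 yd56 zd59) (kd xd20 yd56 zd61) (kd xd6 yd4 zd61) (kd xd20 yd57 zd0) (kd xd8 yd33 zd27) (kd xd8 yd7 zd40) (kd xd8 yd7 zd41) (kd xd10 yd30 zd55) (kd xd20 yd55 zd0) (kd xd20 yd54 zd61) (kd xd11 yd52 zd20) (kd xd6 yd5 zd3) (kd xd20 yd57 zd9) (kd xd20 yd57 zd13) (kd xd20 yd57 zd15) (kd xd20 yd57 zd18) (kd xd6 yd5 zd5) (kd xd20 yd57 zd20) (kd xd20 yd57 zd21) (kd xd10 yd14 zd46) (kd xd20 yd57 zd24) (kd xd10 yd3 zd33) (kd xd12 yd54 zd0) (kd xd11 yd54 zd3) (kd xd20 yd57 zd32) (kd xd10 yd29 zd41) (kd xd20 yd57 zd37) (kd xd6 yd5 zd11) (kd xd19 yd31 zd60)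 (kd xd20 yd57 zd41) (kd xd16 yd41 zd57) (kd xd11 yd53 zd61) (kd xd20 yd57 zd46) (kd xd6 yd5 zd12) (kd xd20 yd57 zd51) (kd xd20 yd57 zd55) (kd xd6 yd5 zd14) (kd xd19 yd34 zd42) (kd xd20 yd57 zd58) (kd xd11 yd52 zd27) (kd xd11 yd53 zd52)) (@D3.rec (fun _ => Pt) (kd xd12 yd44 zd29) (kd xd6 yd5 zd15) (kd xd20 yd58 zd4) (kd xd11 yd53 zd44) (kd xd9 yd5 zd54) (kd xd20 yd35 zd41) (kd xd6 yd5 zd17) (kd xd12 yd54 zd13) (kd xd12 yd54 zd12) (kd xd20 yd58 zd15) (kd xd8 yd55 zd20) (kd xd6 yd5 zd19) (kd xd16 yd40 zd52) (kd xd15 yd27 zd47) (kd xd20 yd58 zd24) (kd xd15 yd28 zd15) (kd xd20 yd58 zd30) (kd xd15 yd27 zd39) (kd xd19 yd42 zd53) (kd xd20 yd58 zd39) (kd xd20 yd58 zd41) (kd xd8 yd55 zd31) (kd xd16 yd40 zd49) (kd xd20 yd58 zd46) (kd xd20 yd58 zd49) (kd xd6 yd5 zd25) (kd xd19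 yd31 zd12) (kd xd20 yd58 zd56) (kd xd8 yd34 zd16) (kd xd20 yd58 zd59) (kd xd6 yd5 zd27) (kd xd19 yd26 zd3) (kd xd16 yd45 zd47) (kd xd19 yd26 zd5) (kd xd19 yd25 zd61) (kd xd19 yd26 zd0) (kd xd20 yd59 zd9) (kd xd6 yd5 zd30) (kd xd20 yd59 zd14) (kd xd19 yd44 zd43) (kd xd19 yd44 zd42) (kd xd6 yd5 zd32) (kd xd17 yd27 zd46) (kd xd20 yd59 zd20) (kd xd20 yd59 zd22) (kd xd20 yd59 zd23) (kd xd17 yd23 zd60) (kd xd17 yd32 zd54) (kd xd16 yd46 zd17) (kd xd6 yd46 zd25) (kd xd17 yd32 zd55) (kd xd6 yd5 zd39) (kd xd6 yd6 zd4) (kd xd6 yd6 zd5) (kd xd13 yd12 zd32) (kd xd10 yd21 zd54) (kd xd10 yd32 zd5) (kd xd18 yd2 zd39) (kd xd6 yd5 zd43) (kd xd15 yd36 zd49) (kd xd16 yd24 zd18) (kd xd9 yd23 zd61)) (@D3.rec (fun _ => Pt) (kd xd19 yd25 zd26) (kd xd19 yd25 zd20) (kd xd20 yd59 zd47) (kd xd6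 yd5 zd48) (kd xd20 yd59 zd52) (kd xd6 yd6 zd16) (kd xd6 yd6 zd17) (kd xd20 yd59 zd56) (kd xd20 yd59 zd58) (kd xd6 yd5 zd50) (kd xd21 yd0 zd0) (kd xd21 yd0 zd2) (kd xd20 yd25 zd48) (kd xd6 yd39 zd23) (kd xd21 yd0 zd8) (kd xd11 yd12 zd1) (kd xd6 yd50 zd20) (kd xd21 yd0 zd11) (kd xd18 yd21 zd27) (kd xd6 yd5 zd58) (kd xd10 yd26 zd10) (kd xd16 yd45 zd25) (kd xd21 yd0 zd15) (kd xd6 yd5 zd60) (kd xd21 yd0 zd19) (kd xd15 yd58 zd56) (kd xd16 yd0 zd38) (kd xd21 yd0 zd23) (kd xd6 yd6 zd0) (kd xd15 yd51 zd29) (kd xd21 yd0 zd25) (kd xd21 yd0 zd27) (kd xd6 yd6 zd1) (kd xd16 yd2 zd30) (kd xd15 yd38 zd17) (kd xd8 yd30 zd14) (kd xd20 yd59 zd30) (kd xd21 yd0 zd32) (kd xd21 yd0 zd34) (kd xd21 yd0 zd35) (kd xd6 yd6 zd6) (kd xd19 yd39 zd45) (kd xd20 yd22 zd16) (kd xd20 yd9 zd12) (kd xd6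 yd6 zd8) (kd xd6 yd6 zd9) (kd xd11 yd11 zd60) (kd xd16 yd31 zd7) (kd xd6 yd6 zd11) (kd xd12 yd27 zd49) (kd xd21 yd0 zd42) (kd xd6 yd6 zd13) (kd xd12 yd23 zd54) (kd xd20 yd59 zd53) (kd xd20 yd59 zd54) (kd xd19 yd4 zd21) (kd xd19 yd43 zd41) (kd xd13 yd23 zd26) (kd xd6 yd6 zd18) (kd xd12 yd33 zd38) (kd xd6 yd6 zd20) (kd xd19 yd30 zd59)) (@D3.rec (fun _ => Pt) (kd xd6 yd56 zd18) (kd xd10 yd24 zd35) (kd xd6 yd56 zd17) (kd xd10 yd0 zd13) (kd xd21 yd0 zd55) (kd xd20 yd22 zd55) (kd xd21 yd0 zd57) (kd xd12 yd49 zd51) (kd xd21 yd0 zd59) (kd xd18 yd7 zd58) (kd xd18 yd17 zd8) (kd xd18 yd7 zd55) (kd xd15 yd59 zd42) (kd xd18 yd7 zd61) (kd xd18 yd7 zd60) (kd xd6 yd6 zd33) (kd xd21 yd1 zd5) (kd xd6 yd6 zd35) (kd xd6 yd29 zd5) (kd xd21 yd1 zd9) (kd xd6 yd6 zd38) (kd xd21 yd1 zd11) (kd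 xd19 yd56 zd22) (kd xd6 yd6 zd39) (kd xd17 yd10 zd3) (kd xd21 yd1 zd17) (kd xd21 yd1 zd18) (kd xd20 yd56 zd17) (kd xd16 yd11 zd10) (kd xd6 yd6 zd42) (kd xd21 yd1 zd26) (kd xd19 yd3 zd4) (kd xd6 yd6 zd44) (kd xd21 yd1 zd29) (kd xd8 yd59 zd20) (kd xd12 yd44 zd32) (kd xd12 yd44 zd31) (kd xd12 yd54 zd7) (kd xd12 yd54 zd6) (kd xd6 yd6 zd48) (kd xd21 yd1 zd36) (kd xd9 yd11 zd25) (kd xd15 yd26 zd11) (kd xd17 yd0 zd10) (kd xd6 yd8 zd14) (kd xd6 yd6 zd52) (kd xd11 yd43 zd57) (kd xd9 yd58 zd3) (kd xd19 yd57 zd20) (kd xd15 yd20 zd38) (kd xd19 yd57 zd22) (kd xd15 yd41 zd14) (kd xd18 yd16 zd34) (kd xd18 yd8 zd2) (kd xd6 yd6 zd59) (kd xd21 yd1 zd52) (kd xd21 yd1 zd55) (kd xd15 yd20 zd53) (kd xd15 yd20 zd52) (kd xd6 yd6 zd61) (kd xd21 yd1 zd61) (kd xd10 yd24 zd7)) (@D3.rec (fun _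 => Pt) (kd xd17 yd57 zd21) (kd xd15 yd24 zd32) (kd xd21 yd2 zd3) (kd xd8 yd9 zd55) (kd xd18 yd7 zd47) (kd xd16 yd47 zd31) (kd xd9 yd30 zd51) (kd xd18 yd7 zd39) (kd xd21 yd2 zd9) (kd xd7 yd58 zd25) (kd xd8 yd13 zd25) (kd xd17 yd52 zd7) (kd xd9 yd0 zd6) (kd xd19 yd26 zd29) (kd xd19 yd26 zd30) (kd xd21 yd2 zd15) (kd xd6 yd7 zd12) (kd xd21 yd2 zd20) (kd xd21 yd2 zd22) (kd xd21 yd2 zd25) (kd xd6 yd7 zd14) (kd xd21 yd2 zd29) (kd xd21 yd2 zd31) (kd xd20 yd38 zd19) (kd xd16 yd59 zd43) (kd xd21 yd2 zd35) (kd xd6 yd7 zd19) (kd xd11 yd57 zd57) (kd xd10 yd9 zd53) (kd xd9 yd39 zd44) (kd xd18 yd0 zd14) (kd xd19 yd22 zd19) (kd xd6 yd7 zd23) (kd xd6 yd7 zd24) (kd xd16 yd29 zd27) (kd xd6 yd7 zd28) (kd xd6 yd7 zd30) (kd xd12 yd9 zd26) (kd xd9 yd4 zd40) (kd xd6 yd7 zd34) (kd xd11 yd24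 zd52) (kd xd14 yd59 zd4) (kd xd11 yd33 zd47) (kd xd12 yd9 zd56) (kd xd6 yd7 zd38) (kd xd8 yd12 zd1) (kd xd21 yd2 zd49) (kd xd21 yd2 zd51) (kd xd6 yd7 zd42) (kd xd21 yd2 zd55) (kd xd6 yd7 zd43) (kd xd16 yd43 zd33) (kd xd16 yd43 zd34) (kd xd6 yd7 zd44) (kd xd16 yd46 zd25) (kd xd20 yd39 zd26) (kd xd8 yd14 zd19) (kd xd11 yd57 zd27) (kd xd11 yd32 zd27) (kd xd20 yd26 zd32) (kd xd6 yd31 zd24) (kd xd6 yd31 zd27)) (@D3.rec (fun _ => Pt) (kd xd16 yd49 zd30) (kd xd6 yd7 zd57) (kd xd16 yd47 zd30) (kd xd20 yd17 zd54) (kd xd12 yd56 zd20) (kd xd17 yd32 zd47) (kd xd20 yd17 zd58) (kd xd6 yd49 zd40) (kd xd17 yd26 zd40) (kd xd17 yd20 zd38) (kd xd13 yd1 zd44) (kd xd6 yd8 zd3) (kd xd12 yd24 zd54) (kd xd21 yd3 zd13) (kd xd6 yd8 zd5) (kd xd10 yd57 zd0) (kd xd18 yd1 zd50) (kd xd11 yd43 zd33)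 (kd xd13 yd56 zd32) (kd xd21 yd3 zd16) (kd xd21 yd3 zd18) (kd xd6 yd8 zd12) (kd xd8 yd59 zd37) (kd xd6 yd8 zd15) (kd xd21 yd3 zd20) (kd xd10 yd57 zd42) (kd xd9 yd58 zd9) (kd xd8 yd59 zd30) (kd xd18 yd41 zd59) (kd xd17 yd26 zd46) (kd xd9 yd13 zd22) (kd xd9 yd13 zd17) (kd xd18 yd22 zd31) (kd xd6 yd8 zd22) (kd xd18 yd42 zd18) (kd xd11 yd25 zd9) (kd xd6 yd12 zd46) (kd xd15 yd4 zd26) (kd xd6 yd8 zd30) (kd xd6 yd8 zd31) (kd xd11 yd40 zd24) (kd xd6 yd8 zd35) (kd xd11 yd32 zd56) (kd xd9 yd48 zd9) (kd xd11 yd24 zd12) (kd xd21 yd3 zd30) (kd xd14 yd34 zd0) (kd xd14 yd33 zd61) (kd xd6 yd8 zd38) (kd xd21 yd3 zd37) (kd xd14 yd20 zd48) (kd xd6 yd8 zd39) (kd xd10 yd59 zd56) (kd xd6 yd8 zd40) (kd xd14 yd33 zd0) (kd xd7 yd42 zd56) (kd xd11 yd2 zd23) (kd xd6 yd8 zd42) (kd xd21 yd3 zd48)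 (kd xd21 yd3 zd49) (kd xd6 yd8 zd44) (kd xd6 yd8 zd47)) (@D3.rec (fun _ => Pt) (kd xd20 yd45 zd49) (kd xd21 yd3 zd52) (kd xd6 yd8 zd48) (kd xd13 yd6 zd53) (kd xd17 yd32 zd49) (kd xd20 yd45 zd51) (kd xd15 yd43 zd27) (kd xd6 yd8 zd53) (kd xd6 yd8 zd58) (kd xd17 yd7 zd36) (kd xd14 yd35 zd58) (kd xd21 yd4 zd0) (kd xd11 yd21 zd58) (kd xd9 yd14 zd44) (kd xd6 yd45 zd35) (kd xd6 yd45 zd34) (kd xd6 yd9 zd5) (kd xd11 yd15 zd0) (kd xd7 yd33 zd55) (kd xd7 yd19 zd61) (kd xd10 yd4 zd29) (kd xd20 yd5 zd48) (kd xd20 yd5 zd49) (kd xd20 yd21 zd52) (kd xd8 yd58 zd48) (kd xd8 yd25 zd30) (kd xd6 yd46 zd42) (kd xd6 yd46 zd41) (kd xd9 yd51 zd14) (kd xd6 yd9 zd11) (kd xd7 yd19 zd8) (kd xd21 yd4 zd13) (kd xd6 yd9 zd12) (kd xd15 yd0 zd24) (kd xd11 yd13 zd44) (kd xd8 yd50 zd36) (kd xd16 yd45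 zd29) (kd xd6 yd9 zd14) (kd xd21 yd4 zd22) (kd xd16 yd29 zd7) (kd xd8 yd47 zd61) (kd xd6 yd9 zd18) (kd xd14 yd56 zd49) (kd xd14 yd9 zd20) (kd xd13 yd6 zd32) (kd xd11 yd59 zd45) (kd xd21 yd4 zd29) (kd xd6 yd9 zd23) (kd xd9 yd53 zd23) (kd xd9 yd37 zd26) (kd xd14 yd3 zd49) (kd xd20 yd4 zd2) (kd xd18 yd5 zd3) (kd xd18 yd5 zd9) (kd xd21 yd4 zd33) (kd xd6 yd9 zd26) (kd xd6 yd52 zd31) (kd xd6 yd26 zd19) (kd xd12 yd50 zd29) (kd xd12 yd16 zd7) (kd xd21 yd4 zd44) (kd xd12 yd42 zd21))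
def f_d_12 : D2 → D3 → Pt := @D2.rec (fun _ => D3 → Pt) (@D3.rec (fun _ => Pt) (kd xd12 yd59 zd42) (kd xd21 yd4 zd51) (kd xd6 yd37 zd9) (kd xd6 yd29 zd28) (kd xd6 yd32 zd43) (kd xd21 yd4 zd55) (kd xd21 yd4 zd59) (kd xd6 yd9 zd33) (kd xd21 yd5 zd1) (kd xd6 yd9 zd34) (kd xd21 yd5 zd5) (kd xd6 yd9 zd36) (kd xd12 yd33 zd32) (kd xd21 yd5 zd9) (kd xd6 yd9 zd37) (kd xd21 yd5 zd14) (kd xd9 yd27 zd60) (kd xd21 yd5 zd17) (kd xd21 yd5 zd21) (kd xd6 yd9 zd40) (kd xd21 yd5 zd24) (kd xd6 yd9 zd41) (kd xd15 yd8 zd61) (kd xd6 yd9 zd42) (kd xd21 yd5 zd26) (kd xd21 yd5 zd29) (kd xd21 yd5 zd30) (kd xd6 yd9 zd43) (kd xd6 yd49 zd9) (kd xd6 yd32 zd61) (kd xd12 yd52 zd35) (kd xd21 yd5 zd39) (kd xd12 yd14 zd45) (kd xd12 yd59 zd3) (kd xd21 yd5 zd46) (kd xd18 yd20 zd48) (kd xd6 yd35 zd52) (kd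 xd6 yd35 zd53) (kd xd21 yd5 zd51) (kd xd12 yd16 zd43) (kd xd6 yd9 zd49) (kd xd18 yd35 zd58) (kd xd6 yd9 zd51) (kd xd19 yd55 zd50) (kd xd7 yd49 zd16) (kd xd21 yd5 zd58) (kd xd21 yd5 zd60) (kd xd21 yd6 zd1) (kd xd6 yd9 zd59) (kd xd13 yd38 zd2) (kd xd14 yd1 zd5) (kd xd6 yd10 zd0) (kd xd21 yd6 zd13) (kd xd7 yd30 zd8) (kd xd21 yd6 zd17) (kd xd6 yd10 zd1) (kd xd13 yd51 zd36) (kd xd6 yd10 zd5) (kd xd6 yd10 zd4) (kd xd12 yd40 zd35) (kd xd21 yd6 zd24) (kd xd21 yd6 zd33)) (@D3.rec (fun _ => Pt) (kd xd21 yd6 zd22) (kd xd16 yd6 zd30) (kd xd16 yd6 zd31) (kd xd21 yd6 zd39) (kd xd6 yd10 zd6) (kd xd6 yd58 zd61) (kd xd6 yd26 zd15) (kd xd12 yd42 zd10) (kd xd7 yd44 zd21) (kd xd21 yd6 zd50) (kd xd9 yd17 zd48) (kd xd6 yd37 zd25) (kd xd21 yd6 zd52) (kd xd21 yd6 zd53) (kd xd6 yd10 zd10) (kd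 xd18 yd36 zd22) (kd xd18 yd36 zd23) (kd xd18 yd41 zd44) (kd xd9 yd58 zd57) (kd xd21 yd6 zd55) (kd xd9 yd59 zd20) (kd xd6 yd41 zd23) (kd xd18 yd33 zd38) (kd xd6 yd10 zd17) (kd xd12 yd25 zd26) (kd xd8 yd33 zd33) (kd xd6 yd33 zd48) (kd xd6 yd10 zd21) (kd xd21 yd6 zd59) (kd xd8 yd49 zd17) (kd xd11 yd36 zd16) (kd xd6 yd10 zd25) (kd xd12 yd34 zd16) (kd xd12 yd37 zd34) (kd xd10 yd7 zd7) (kd xd18 yd29 zd20) (kd xd14 yd11 zd50) (kd xd12 yd58 zd42) (kd xd18 yd7 zd21) (kd xd21 yd7 zd3) (kd xd21 yd7 zd5) (kd xd6 yd10 zd33) (kd xd21 yd7 zd8) (kd xd6 yd10 zd34) (kd xd21 yd7 zd10) (kd xd6 yd41 zd8) (kd xd6 yd29 zd59) (kd xd12 yd34 zd48) (kd xd6 yd10 zd36) (kd xd21 yd7 zd14) (kd xd6 yd10 zd37) (kd xd12 yd46 zd50) (kd xd6 yd25 zd8) (kd xd7 yd21 zd0) (kd xd10 yd6 zd35) (kd xd7 yd20 zd61)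 (kd xd8 yd50 zd27) (kd xd8 yd48 zd10) (kd xd21 yd7 zd19) (kd xd21 yd7 zd20) (kd xd6 yd10 zd45) (kd xd21 yd7 zd23)) (@D3.rec (fun _ => Pt) (kd xd6 yd18 zd3) (kd xd6 yd26 zd6) (kd xd6 yd21 zd48) (kd xd12 yd59 zd2) (kd xd21 yd7 zd27) (kd xd6 yd10 zd48) (kd xd21 yd7 zd31) (kd xd6 yd40 zd20) (kd xd14 yd12 zd16) (kd xd6 yd10 zd52) (kd xd6 yd25 zd7) (kd xd21 yd7 zd35) (kd xd6 yd10 zd54) (kd xd21 yd7 zd39) (kd xd18 yd41 zd39) (kd xd6 yd10 zd56) (kd xd9 yd59 zd58) (kd xd16 yd56 zd40) (kd xd21 yd7 zd43) (kd xd21 yd7 zd44) (kd xd6 yd10 zd58) (kd xd18 yd35 zd47) (kd xd6 yd10 zd59) (kd xd17 yd4 zd27) (kd xd18 yd39 zd15) (kd xd6 yd10 zd60) (kd xd17 yd45 zd3) (kd xd12 yd43 zd57) (kd xd6 yd11 zd1) (kd xd12 yd38 zd5) (kd xd6 yd11 zd2) (kd xd21 yd0 zd41) (kd xd21 yd7 zd55) (kd xd21 yd7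 zd59) (kd xd17 yd20 zd23) (kd xd21 yd8 zd1) (kd xd6 yd26 zd50) (kd xd12 yd46 zd51) (kd xd6 yd11 zd8) (kd xd6 yd40 zd40) (kd xd12 yd37 zd10) (kd xd6 yd11 zd10) (kd xd6 yd40 zd51) (kd xd6 yd11 zd12) (kd xd6 yd49 zd1) (kd xd6 yd11 zd13) (kd xd6 yd36 zd6) (kd xd6 yd11 zd14) (kd xd17 yd30 zd41) (kd xd21 yd8 zd5) (kd xd12 yd38 zd9) (kd xd6 yd11 zd17) (kd xd12 yd16 zd23) (kd xd10 yd26 zd57) (kd xd6 yd37 zd54) (kd xd6 yd40 zd30) (kd xd12 yd47 zd47) (kd xd12 yd25 zd27) (kd xd6 yd11 zd27) (kd xd9 yd57 zd46) (kd xd6 yd11 zd29) (kd xd21 yd8 zd13)) (@D3.rec (fun _ => Pt) (kd xd6 yd40 zd29) (kd xd21 yd8 zd17) (kd xd12 yd36 zd43) (kd xd6 yd11 zd31) (kd xd21 yd8 zd20) (kd xd9 yd49 zd53) (kd xd6 yd11 zd32) (kd xd21 yd8 zd22) (kd xd21 yd8 zd24) (kd xd6 yd11 zd37) (kd xd21 yd8 zd26) (kd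 xd8 yd23 zd53) (kd xd9 yd49 zd55) (kd xd6 yd11 zd40) (kd xd12 yd16 zd22) (kd xd21 yd8 zd28) (kd xd8 yd23 zd51) (kd xd21 yd8 zd31) (kd xd21 yd8 zd32) (kd xd21 yd8 zd36) (kd xd6 yd11 zd43) (kd xd21 yd8 zd41) (kd xd6 yd11 zd45) (kd xd13 yd51 zd43) (kd xd13 yd51 zd41) (kd xd21 yd8 zd48) (kd xd21 yd8 zd51) (kd xd21 yd8 zd53) (kd xd21 yd8 zd55) (kd xd6 yd11 zd48) (kd xd16 yd50 zd23) (kd xd6 yd11 zd50) (kd xd6 yd11 zd51) (kd xd6 yd44 zd41) (kd xd6 yd25 zd60) (kd xd15 yd50 zd46) (kd xd16 yd54 zd45) (kd xd12 yd20 zd22) (kd xd15 yd50 zd47) (kd xd21 yd9 zd8) (kd xd10 yd44 zd58) (kd xd18 yd35 zd20) (kd xd21 yd9 zd12) (kd xd21 yd9 zd15) (kd xd21 yd9 zd20) (kd xd6 yd11 zd61) (kd xd21 yd9 zd22) (kd xd6 yd12 zd1) (kd xd6 yd45 zd21) (kd xd6 yd45 zd22) (kd xd15 yd51 zd13) (kd xd9 yd31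 zd23) (kd xd6 yd46 zd36) (kd xd6 yd46 zd39) (kd xd6 yd46 zd3) (kd xd19 yd43 zd9) (kd xd20 yd51 zd52) (kd xd6 yd45 zd57) (kd xd16 yd57 zd55) (kd xd19 yd23 zd54) (kd xd10 yd44 zd28) (kd xd6 yd45 zd52)) (@D3.rec (fun _ => Pt) (kd xd12 yd28 zd13) (kd xd8 yd21 zd47) (kd xd6 yd45 zd32) (kd xd6 yd23 zd48) (kd xd9 yd14 zd30) (kd xd9 yd14 zd31) (kd xd9 yd31 zd28) (kd xd6 yd47 zd28) (kd xd12 yd13 zd32) (kd xd6 yd23 zd44) (kd xd21 yd9 zd42) (kd xd21 yd9 zd45) (kd xd15 yd32 zd56) (kd xd18 yd23 zd29) (kd xd8 yd24 zd60) (kd xd6 yd30 zd59) (kd xd18 yd24 zd32) (kd xd12 yd58 zd12) (kd xd6 yd12 zd22) (kd xd12 yd24 zd53) (kd xd9 yd29 zd14) (kd xd19 yd37 zd8) (kd xd20 yd4 zd19) (kd xd6 yd46 zd33) (kd xd6 yd46 zd45) (kd xd6 yd45 zd31) (kd xd6 yd46 zd7) (kd xd21 yd9 zd51) (kd xd6 yd12 zd33)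 (kd xd21 yd9 zd53) (kd xd6 yd12 zd34) (kd xd6 yd12 zd35) (kd xd6 yd12 zd36) (kd xd10 yd30 zd52) (kd xd10 yd30 zd47) (kd xd6 yd12 zd38) (kd xd21 yd9 zd58) (kd xd9 yd32 zd26) (kd xd19 yd23 zd13) (kd xd11 yd31 zd14) (kd xd12 yd43 zd21) (kd xd6 yd12 zd45) (kd xd21 yd3 zd21) (kd xd21 yd10 zd2) (kd xd12 yd42 zd23) (kd xd6 yd12 zd48) (kd xd6 yd12 zd49) (kd xd17 yd20 zd46) (kd xd15 yd35 zd11) (kd xd21 yd10 zd4) (kd xd10 yd14 zd21) (kd xd6 yd18 zd35) (kd xd17 yd8 zd48) (kd xd18 yd32 zd36) (kd xd10 yd27 zd28) (kd xd20 yd34 zd26) (kd xd21 yd10 zd8) (kd xd6 yd12 zd61) (kd xd6 yd29 zd50) (kd xd12 yd21 zd8) (kd xd21 yd10 zd15) (kd xd11 yd21 zd36)) (@D3.rec (fun _ => Pt) (kd xd12 yd21 zd11) (kd xd21 yd10 zd20) (kd xd19 yd23 zd27) (kd xd8 yd3 zd31) (kd xd9 yd44 zd35) (kd xd21 yd10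 zd27) (kd xd8 yd51 zd55) (kd xd12 yd5 zd14) (kd xd8 yd4 zd50) (kd xd12 yd5 zd12) (kd xd12 yd23 zd48) (kd xd7 yd8 zd17) (kd xd12 yd5 zd9) (kd xd10 yd4 zd14) (kd xd12 yd5 zd7) (kd xd11 yd23 zd25) (kd xd9 yd51 zd24) (kd xd12 yd5 zd23) (kd xd16 yd23 zd31) (kd xd7 yd56 zd39) (kd xd21 yd10 zd59) (kd xd21 yd10 zd60) (kd xd6 yd13 zd12) (kd xd12 yd5 zd17) (kd xd8 yd3 zd49) (kd xd6 yd13 zd15) (kd xd21 yd11 zd8) (kd xd9 yd39 zd19) (kd xd6 yd15 zd28) (kd xd17 yd2 zd1) (kd xd6 yd13 zd19) (kd xd6 yd13 zd20) (kd xd21 yd11 zd14) (kd xd15 yd26 zd42) (kd xd6 yd13 zd22) (kd xd6 yd13 zd23) (kd xd21 yd11 zd19) (kd xd9 yd48 zd8) (kd xd21 yd11 zd22) (kd xd11 yd7 zd16) (kd xd21 yd11 zd23) (kd xd21 yd11 zd24) (kd xd21 yd11 zd26) (kd xd21 yd11 zd30) (kd xd6 yd13 zd27) (kd xd17 yd2 zd2) (kd xd7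 yd59 zd45) (kd xd20 yd28 zd17) (kd xd17 yd49 zd48) (kd xd17 yd56 zd55) (kd xd8 yd5 zd16) (kd xd10 yd1 zd8) (kd xd21 yd11 zd40) (kd xd21 yd11 zd43) (kd xd16 yd27 zd3) (kd xd6 yd13 zd34) (kd xd10 yd16 zd35) (kd xd21 yd11 zd50) (kd xd6 yd13 zd35) (kd xd17 yd56 zd58) (kd xd16 yd25 zd51) (kd xd12 yd6 zd55)) (@D3.rec (fun _ => Pt) (kd xd21 yd11 zd58) (kd xd6 yd13 zd37) (kd xd10 yd1 zd16) (kd xd7 yd14 zd33) (kd xd12 yd8 zd46) (kd xd21 yd12 zd10) (kd xd6 yd13 zd40) (kd xd8 yd2 zd42) (kd xd8 yd1 zd13) (kd xd6 yd13 zd43) (kd xd21 yd12 zd17) (kd xd6 yd13 zd44) (kd xd13 yd30 zd60) (kd xd16 yd29 zd24) (kd xd6 yd13 zd46) (kd xd6 yd13 zd47) (kd xd11 yd44 zd1) (kd xd21 yd12 zd21) (kd xd11 yd40 zd16) (kd xd21 yd12 zd23) (kd xd12 yd12 zd44) (kd xd6 yd13 zd52) (kd xd13 yd30 zd29) (kd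 xd6 yd13 zd53) (kd xd17 yd46 zd29) (kd xd21 yd12 zd27) (kd xd18 yd6 zd23) (kd xd15 yd7 zd42) (kd xd16 yd19 zd25) (kd xd8 yd2 zd0) (kd xd18 yd49 zd15) (kd xd6 yd13 zd58) (kd xd12 yd22 zd30) (kd xd8 yd51 zd6) (kd xd18 yd58 zd28) (kd xd6 yd13 zd60) (kd xd7 yd7 zd1) (kd xd7 yd7 zd11) (kd xd7 yd56 zd19) (kd xd12 yd6 zd47) (kd xd21 yd12 zd43) (kd xd6 yd14 zd1) (kd xd8 yd45 zd33) (kd xd8 yd3 zd55) (kd xd6 yd14 zd3) (kd xd8 yd44 zd4) (kd xd8 yd51 zd47) (kd xd12 yd6 zd39) (kd xd10 yd4 zd12) (kd xd15 yd13 zd31) (kd xd18 yd18 zd29) (kd xd21 yd12 zd58) (kd xd15 yd13 zd40) (kd xd21 yd12 zd60) (kd xd6 yd14 zd12) (kd xd12 yd5 zd61) (kd xd21 yd13 zd3) (kd xd6 yd14 zd13) (kd xd14 yd44 zd22) (kd xd11 yd24 zd58) (kd xd11 yd13 zd31) (kd xd21 yd13 zd11)) (@D3.rec (fun _ => Pt) (kd xd18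 yd59 zd1) (kd xd18 yd58 zd60) (kd xd6 yd14 zd18) (kd xd18 yd59 zd52) (kd xd20 yd18 zd22) (kd xd6 yd14 zd22) (kd xd16 yd35 zd11) (kd xd6 yd14 zd23) (kd xd16 yd31 zd42) (kd xd16 yd32 zd17) (kd xd8 yd51 zd29) (kd xd9 yd39 zd48) (kd xd6 yd14 zd25) (kd xd12 yd8 zd47) (kd xd20 yd21 zd26) (kd xd8 yd10 zd45) (kd xd6 yd14 zd29) (kd xd15 yd24 zd35) (kd xd6 yd14 zd30) (kd xd11 yd32 zd5) (kd xd10 yd53 zd57) (kd xd6 yd14 zd32) (kd xd19 yd51 zd2) (kd xd13 yd51 zd26) (kd xd6 yd14 zd34) (kd xd21 yd13 zd36) (kd xd20 yd19 zd50) (kd xd9 yd23 zd58) (kd xd21 yd13 zd40) (kd xd21 yd13 zd43) (kd xd21 yd13 zd44) (kd xd7 yd17 zd13) (kd xd11 yd50 zd31) (kd xd19 yd9 zd59) (kd xd21 yd13 zd45) (kd xd21 yd13 zd46) (kd xd6 yd14 zd41) (kd xd21 yd13 zd50) (kd xd21 yd13 zd54) (kd xd21 yd13 zd56) (kd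 xd6 yd14 zd42) (kd xd20 yd30 zd58) (kd xd13 yd32 zd8) (kd xd21 yd14 zd1) (kd xd6 yd14 zd43) (kd xd16 yd35 zd45) (kd xd21 yd14 zd8) (kd xd21 yd14 zd11) (kd xd6 yd14 zd45) (kd xd6 yd14 zd47) (kd xd9 yd8 zd34) (kd xd13 yd50 zd25) (kd xd14 yd44 zd25) (kd xd6 yd14 zd49) (kd xd21 yd14 zd14) (kd xd21 yd4 zd12) (kd xd21 yd14 zd15) (kd xd14 yd0 zd32) (kd xd16 yd27 zd48) (kd xd6 yd14 zd51) (kd xd8 yd47 zd56) (kd xd21 yd14 zd16)) (@D3.rec (fun _ => Pt) (kd xd21 yd14 zd17) (kd xd20 yd33 zd35) (kd xd6 yd14 zd52) (kd xd8 yd52 zd21) (kd xd21 yd14 zd21) (kd xd11 yd23 zd20) (kd xd6 yd14 zd54) (kd xd17 yd46 zd33) (kd xd21 yd14 zd22) (kd xd6 yd14 zd55) (kd xd8 yd44 zd13) (kd xd16 yd28 zd46) (kd xd21 yd14 zd27) (kd xd16 yd28 zd50) (kd xd21 yd14 zd30) (kd xd21 yd14 zd32) (kd xd6 yd14 zd57)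 (kd xd21 yd14 zd37) (kd xd17 yd15 zd25) (kd xd6 yd14 zd60) (kd xd21 yd14 zd39) (kd xd8 yd50 zd23) (kd xd6 yd15 zd0) (kd xd21 yd14 zd40) (kd xd6 yd15 zd1) (kd xd21 yd14 zd43) (kd xd16 yd33 zd53) (kd xd6 yd15 zd3) (kd xd10 yd4 zd10) (kd xd21 yd14 zd47) (kd xd10 yd4 zd20) (kd xd21 yd14 zd36) (kd xd21 yd14 zd51) (kd xd21 yd14 zd53) (kd xd21 yd14 zd55) (kd xd15 yd8 zd22) (kd xd6 yd15 zd10) (kd xd17 yd57 zd28) (kd xd21 yd11 zd54) (kd xd6 yd15 zd11) (kd xd21 yd14 zd61) (kd xd16 yd24 zd15) (kd xd13 yd29 zd25) (kd xd21 yd15 zd1) (kd xd6 yd15 zd14) (kd xd8 yd43 zd50) (kd xd12 yd6 zd4) (kd xd12 yd7 zd13) (kd xd10 yd16 zd5) (kd xd11 yd32 zd60) (kd xd6 yd15 zd18) (kd xd6 yd15 zd22) (kd xd6 yd15 zd26) (kd xd21 yd15 zd10) (kd xd20 yd8 zd28) (kd xd17 yd53 zd22) (kd xd6 yd15 zd29) (kd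 xd6 yd15 zd30) (kd xd11 yd6 zd57) (kd xd20 yd18 zd24) (kd xd17 yd17 zd50) (kd xd20 yd5 zd43)) (@D3.rec (fun _ => Pt) (kd xd20 yd5 zd35) (kd xd21 yd15 zd18) (kd xd20 yd14 zd49) (kd xd6 yd15 zd35) (kd xd21 yd15 zd20) (kd xd11 yd15 zd38) (kd xd21 yd15 zd23) (kd xd21 yd11 zd18) (kd xd9 yd22 zd45) (kd xd20 yd59 zd41) (kd xd18 yd54 zd58) (kd xd18 yd54 zd54) (kd xd6 yd15 zd42) (kd xd21 yd15 zd31) (kd xd7 yd59 zd16) (kd xd7 yd59 zd10) (kd xd21 yd15 zd33) (kd xd6 yd15 zd44) (kd xd9 yd31 zd41) (kd xd6 yd15 zd48) (kd xd9 yd5 zd8) (kd xd6 yd45 zd41) (kd xd19 yd23 zd61) (kd xd6 yd15 zd50) (kd xd20 yd25 zd44) (kd xd19 yd44 zd7) (kd xd11 yd57 zd37) (kd xd6 yd31 zd53) (kd xd18 yd43 zd6) (kd xd6 yd15 zd56) (kd xd6 yd15 zd57) (kd xd11 yd50 zd41) (kd xd17 yd21 zd5) (kd xd11 yd35 zd40)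 (kd xd10 yd20 zd1) (kd xd21 yd15 zd36) (kd xd21 yd15 zd38) (kd xd6 yd15 zd60) (kd xd21 yd15 zd42) (kd xd6 yd15 zd61) (kd xd6 yd16 zd0) (kd xd20 yd22 zd25) (kd xd6 yd16 zd2) (kd xd6 yd22 zd3) (kd xd20 yd26 zd4) (kd xd11 yd30 zd49) (kd xd10 yd6 zd57) (kd xd6 yd16 zd5) (kd xd11 yd48 zd21) (kd xd11 yd28 zd57) (kd xd17 yd1 zd43) (kd xd11 yd33 zd14) (kd xd6 yd16 zd11) (kd xd11 yd13 zd50) (kd xd11 yd38 zd10) (kd xd11 yd5 zd35) (kd xd11 yd57 zd43) (kd xd11 yd45 zd35) (kd xd7 yd33 zd59) (kd xd6 yd16 zd23) (kd xd21 yd11 zd11) (kd xd12 yd51 zd34)) (@D3.rec (fun _ => Pt) (kd xd9 yd2 zd33) (kd xd7 yd32 zd6) (kd xd21 yd15 zd52) (kd xd6 yd16 zd28) (kd xd21 yd11 zd6) (kd xd21 yd15 zd53) (kd xd8 yd58 zd35) (kd xd6 yd16 zd30) (kd xd21 yd15 zd55) (kd xd10 yd5 zd32) (kd xd6 yd39 zd34)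 (kd xd21 yd15 zd58) (kd xd11 yd31 zd24) (kd xd6 yd16 zd35) (kd xd13 yd2 zd19) (kd xd21 yd15 zd60) (kd xd20 yd33 zd3) (kd xd16 yd56 zd45) (kd xd6 yd16 zd38) (kd xd21 yd16 zd2) (kd xd9 yd23 zd6) (kd xd6 yd16 zd39) (kd xd21 yd16 zd4) (kd xd9 yd25 zd25) (kd xd11 yd26 zd24) (kd xd11 yd29 zd46) (kd xd11 yd30 zd18) (kd xd11 yd1 zd7) (kd xd6 yd17 zd4) (kd xd21 yd16 zd11) (kd xd19 yd27 zd35) (kd xd13 yd9 zd56) (kd xd11 yd4 zd45) (kd xd16 yd59 zd50) (kd xd20 yd14 zd1) (kd xd9 yd25 zd10) (kd xd7 yd20 zd0) (kd xd11 yd28 zd37) (kd xd6 yd25 zd26) (kd xd20 yd19 zd14) (kd xd14 yd29 zd48) (kd xd6 yd16 zd51) (kd xd18 yd42 zd53) (kd xd10 yd4 zd1) (kd xd6 yd16 zd52) (kd xd6 yd16 zd53) (kd xd9 yd3 zd52) (kd xd20 yd9 zd36) (kd xd10 yd48 zd5) (kd xd11 yd24 zd9) (kd xd11 yd24 zd10) (kd xd7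 yd39 zd36) (kd xd9 yd48 zd49) (kd xd14 yd26 zd6) (kd xd11 yd6 zd54) (kd xd10 yd18 zd11) (kd xd17 yd55 zd5) (kd xd11 yd33 zd7) (kd xd11 yd32 zd10) (kd xd11 yd33 zd8) (kd xd8 yd0 zd25) (kd xd10 yd49 zd12)) (@D3.rec (fun _ => Pt) (kd xd12 yd23 zd45) (kd xd11 yd24 zd34) (kd xd10 yd54 zd47) (kd xd8 yd57 zd61) (kd xd9 yd50 zd43) (kd xd6 yd17 zd17) (kd xd17 yd10 zd28) (kd xd21 yd16 zd24) (kd xd6 yd17 zd19) (kd xd9 yd23 zd21) (kd xd9 yd23 zd22) (kd xd21 yd16 zd27) (kd xd21 yd16 zd30) (kd xd21 yd16 zd31) (kd xd6 yd17 zd21) (kd xd21 yd16 zd32) (kd xd19 yd5 zd2) (kd xd6 yd17 zd22) (kd xd17 yd28 zd21) (kd xd21 yd16 zd38) (kd xd19 yd17 zd51) (kd xd6 yd17 zd25) (kd xd21 yd16 zd43) (kd xd6 yd17 zd26) (kd xd19 yd4 zd38) (kd xd6 yd17 zd27) (kd xd10 yd25 zd23) (kd xd6 yd32 zd45) (kd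 xd13 yd15 zd15) (kd xd21 yd16 zd52) (kd xd6 yd17 zd29) (kd xd12 yd49 zd47) (kd xd17 yd28 zd28) (kd xd19 yd9 zd31) (kd xd6 yd17 zd31) (kd xd21 yd16 zd58) (kd xd10 yd25 zd26) (kd xd21 yd16 zd60) (kd xd21 yd17 zd0) (kd xd21 yd17 zd2) (kd xd21 yd17 zd6) (kd xd6 yd17 zd36) (kd xd21 yd17 zd14) (kd xd6 yd17 zd38) (kd xd15 yd40 zd28) (kd xd21 yd17 zd20) (kd xd6 yd17 zd40) (kd xd21 yd17 zd25) (kd xd6 yd17 zd42) (kd xd21 yd17 zd29) (kd xd6 yd17 zd43) (kd xd15 yd57 zd16) (kd xd21 yd17 zd32) (kd xd21 yd17 zd34) (kd xd6 yd17 zd44) (kd xd9 yd19 zd14) (kd xd9 yd15 zd54) (kd xd21 yd17 zd10) (kd xd6 yd17 zd46) (kd xd16 yd3 zd42) (kd xd6 yd35 zd36) (kd xd6 yd17 zd48)) (@D3.rec (fun _ => Pt) (kd xd13 yd1 zd57) (kd xd6 yd32 zd21) (kd xd16 yd15 zd38) (kd xd6 yd38 zd21) (kd xd17 yd40 zd9)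 (kd xd18 yd38 zd16) (kd xd11 yd51 zd13) (kd xd10 yd23 zd6) (kd xd12 yd12 zd59) (kd xd12 yd39 zd18) (kd xd12 yd39 zd19) (kd xd6 yd18 zd49) (kd xd6 yd17 zd60) (kd xd13 yd37 zd47) (kd xd21 yd17 zd59) (kd xd11 yd37 zd54) (kd xd13 yd37 zd50) (kd xd21 yd18 zd2) (kd xd21 yd18 zd4) (kd xd21 yd18 zd7) (kd xd6 yd18 zd5) (kd xd21 yd18 zd10) (kd xd21 yd18 zd12) (kd xd21 yd18 zd17) (kd xd6 yd18 zd7) (kd xd21 yd18 zd19) (kd xd11 yd11 zd11) (kd xd6 yd18 zd8) (kd xd18 yd17 zd31) (kd xd12 yd42 zd37) (kd xd21 yd18 zd21) (kd xd21 yd18 zd22) (kd xd21 yd18 zd25) (kd xd6 yd18 zd12) (kd xd17 yd23 zd43) (kd xd17 yd23 zd42) (kd xd6 yd18 zd13) (kd xd12 yd39 zd60) (kd xd12 yd40 zd0) (kd xd6 yd18 zd16) (kd xd12 yd40 zd9) (kd xd6 yd18 zd17) (kd xd21 yd18 zd32) (kd xd6 yd18 zd20) (kd xd12 yd6 zd20)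 (kd xd14 yd12 zd17) (kd xd11 yd18 zd57) (kd xd11 yd18 zd0) (kd xd16 yd23 zd57) (kd xd6 yd18 zd23) (kd xd21 yd7 zd13) (kd xd6 yd21 zd7) (kd xd12 yd47 zd54) (kd xd6 yd29 zd16) (kd xd21 yd4 zd2) (kd xd21 yd18 zd46) (kd xd17 yd35 zd33) (kd xd6 yd18 zd27) (kd xd21 yd18 zd50) (kd xd12 yd12 zd8) (kd xd6 yd18 zd28) (kd xd16 yd1 zd2)) (@D3.rec (fun _ => Pt) (kd xd6 yd38 zd33) (kd xd21 yd4 zd46) (kd xd6 yd18 zd32) (kd xd6 yd37 zd1) (kd xd16 yd0 zd59) (kd xd12 yd34 zd23) (kd xd21 yd18 zd57) (kd xd12 yd25 zd32) (kd xd21 yd18 zd59) (kd xd7 yd48 zd54) (kd xd14 yd56 zd2) (kd xd6 yd18 zd39) (kd xd21 yd19 zd5) (kd xd6 yd18 zd41) (kd xd14 yd38 zd48) (kd xd13 yd23 zd56) (kd xd8 yd23 zd36) (kd xd21 yd19 zd10) (kd xd6 yd18 zd43) (kd xd12 yd48 zd5) (kd xd21 yd19 zd16) (kd xd6 yd18 zd45)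 (kd xd6 yd18 zd46) (kd xd21 yd19 zd20) (kd xd21 yd19 zd22) (kd xd21 yd19 zd24) (kd xd6 yd18 zd47) (kd xd8 yd20 zd50) (kd xd6 yd41 zd30) (kd xd6 yd27 zd50) (kd xd14 yd56 zd1) (kd xd12 yd39 zd51) (kd xd12 yd4 zd8) (kd xd10 yd14 zd6) (kd xd18 yd26 zd19) (kd xd21 yd19 zd38) (kd xd6 yd18 zd53) (kd xd21 yd19 zd42) (kd xd6 yd18 zd55) (kd xd17 yd14 zd10) (kd xd21 yd19 zd46) (kd xd8 yd39 zd55) (kd xd21 yd19 zd50) (kd xd21 yd19 zd52) (kd xd14 yd2 zd39) (kd xd21 yd19 zd57) (kd xd6 yd18 zd59) (kd xd17 yd16 zd56) (kd xd14 yd5 zd7) (kd xd14 yd9 zd41) (kd xd21 yd20 zd1) (kd xd6 yd18 zd61) (kd xd6 yd56 zd37) (kd xd7 yd20 zd4) (kd xd6 yd19 zd3) (kd xd6 yd19 zd7) (kd xd12 yd15 zd7) (kd xd6 yd19 zd9) (kd xd6 yd19 zd10) (kd xd12 yd16 zd30) (kd xd8 yd33 zd23) (kd xd6 yd19 zd15)) (@D3.rec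 (fun _ => Pt) (kd xd9 yd47 zd55) (kd xd19 yd40 zd31) (kd xd17 yd33 zd39) (kd xd12 yd14 zd36) (kd xd6 yd19 zd51) (kd xd6 yd20 zd41) (kd xd6 yd19 zd22) (kd xd9 yd1 zd15) (kd xd12 yd24 zd57) (kd xd21 yd7 zd29) (kd xd21 yd7 zd30) (kd xd6 yd19 zd28) (kd xd12 yd19 zd40) (kd xd21 yd20 zd13) (kd xd6 yd19 zd30) (kd xd12 yd14 zd37) (kd xd21 yd20 zd16) (kd xd6 yd19 zd33) (kd xd14 yd15 zd57) (kd xd21 yd9 zd24) (kd xd21 yd20 zd18) (kd xd21 yd3 zd58) (kd xd6 yd19 zd37) (kd xd17 yd8 zd37) (kd xd6 yd19 zd38) (kd xd17 yd52 zd15) (kd xd16 yd51 zd11) (kd xd20 yd5 zd5) (kd xd9 yd20 zd46) (kd xd6 yd19 zd43) (kd xd10 yd53 zd5) (kd xd21 yd20 zd28) (kd xd21 yd4 zd53) (kd xd21 yd20 zd9) (kd xd11 yd19 zd46) (kd xd6 yd19 zd52) (kd xd12 yd14 zd3) (kd xd12 yd14 zd15) (kd xd13 yd54 zd2) (kd xd6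 yd19 zd57) (kd xd21 yd20 zd31) (kd xd21 yd20 zd32) (kd xd6 yd19 zd59) (kd xd12 yd23 zd40) (kd xd12 yd43 zd9) (kd xd12 yd0 zd32) (kd xd12 yd42 zd47) (kd xd6 yd20 zd0) (kd xd6 yd47 zd43) (kd xd6 yd30 zd26) (kd xd9 yd19 zd3) (kd xd6 yd28 zd25) (kd xd6 yd28 zd26) (kd xd6 yd20 zd4) (kd xd17 yd14 zd58) (kd xd10 yd2 zd40) (kd xd21 yd20 zd39) (kd xd6 yd36 zd39) (kd xd21 yd20 zd41) (kd xd11 yd47 zd9) (kd xd14 yd12 zd42) (kd xd9 yd3 zd51)) (@D3.rec (fun _ => Pt) (kd xd21 yd20 zd42) (kd xd21 yd20 zd43) (kd xd6 yd20 zd12) (kd xd11 yd11 zd9) (kd xd11 yd10 zd55) (kd xd6 yd20 zd13) (kd xd20 yd6 zd53) (kd xd12 yd13 zd56) (kd xd6 yd44 zd19) (kd xd21 yd20 zd45) (kd xd6 yd20 zd17) (kd xd18 yd25 zd1) (kd xd6 yd26 zd7) (kd xd6 yd26 zd8) (kd xd6 yd28 zd28) (kd xd6 yd28 zd30) (kd xd6 yd20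 zd20) (kd xd21 yd20 zd47) (kd xd19 yd25 zd9) (kd xd6 yd20 zd22) (kd xd11 yd51 zd3) (kd xd20 yd28 zd12) (kd xd9 yd0 zd26) (kd xd11 yd8 zd19) (kd xd20 yd5 zd39) (kd xd9 yd57 zd16) (kd xd6 yd20 zd27) (kd xd21 yd20 zd49) (kd xd20 yd5 zd4) (kd xd11 yd25 zd34) (kd xd10 yd0 zd39) (kd xd21 yd20 zd53) (kd xd21 yd20 zd54) (kd xd19 yd26 zd44) (kd xd6 yd20 zd31) (kd xd12 yd28 zd25) (kd xd6 yd21 zd43) (kd xd9 yd20 zd45) (kd xd6 yd20 zd37) (kd xd6 yd20 zd38) (kd xd6 yd28 zd34) (kd xd6 yd28 zd35) (kd xd21 yd21 zd0) (kd xd21 yd20 zd10) (kd xd6 yd28 zd43) (kd xd6 yd20 zd45) (kd xd21 yd21 zd3) (kd xd6 yd20 zd46) (kd xd6 yd29 zd46) (kd xd7 yd31 zd10) (kd xd8 yd22 zd26) (kd xd12 yd43 zd10) (kd xd6 yd20 zd48) (kd xd12 yd27 zd61) (kd xd21 yd21 zd6) (kd xd6 yd43 zd31) (kd xd17 yd16 zd57)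 (kd xd12 yd15 zd57) (kd xd6 yd20 zd55) (kd xd15 yd16 zd27) (kd xd8 yd23 zd43) (kd xd8 yd23 zd44)) (@D3.rec (fun _ => Pt) (kd xd10 yd2 zd39) (kd xd6 yd20 zd59) (kd xd21 yd0 zd21) (kd xd12 yd28 zd39) (kd xd12 yd28 zd40) (kd xd21 yd21 zd12) (kd xd15 yd30 zd60) (kd xd11 yd59 zd59) (kd xd21 yd3 zd26) (kd xd21 yd3 zd25) (kd xd12 yd41 zd31) (kd xd7 yd31 zd33) (kd xd6 yd29 zd30) (kd xd12 yd42 zd7) (kd xd12 yd36 zd19) (kd xd11 yd47 zd4) (kd xd11 yd18 zd55) (kd xd18 yd32 zd16) (kd xd21 yd21 zd19) (kd xd21 yd21 zd21) (kd xd6 yd21 zd9) (kd xd21 yd21 zd25) (kd xd12 yd3 zd14) (kd xd12 yd2 zd52) (kd xd21 yd21 zd35) (kd xd6 yd21 zd11) (kd xd21 yd21 zd38) (kd xd6 yd21 zd12) (kd xd21 yd21 zd42) (kd xd8 yd23 zd7) (kd xd12 yd13 zd59) (kd xd21 yd21 zd44) (kd xd13 yd15 zd19) (kd xd21 yd21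 zd48) (kd xd21 yd21 zd49) (kd xd21 yd21 zd50) (kd xd21 yd21 zd53) (kd xd6 yd21 zd16) (kd xd12 yd42 zd8) (kd xd12 yd29 zd42) (kd xd21 yd21 zd57) (kd xd6 yd21 zd19) (kd xd18 yd0 zd4) (kd xd12 yd0 zd39) (kd xd6 yd21 zd22) (kd xd21 yd21 zd61) (kd xd17 yd5 zd11) (kd xd6 yd21 zd24) (kd xd21 yd22 zd2) (kd xd14 yd11 zd52) (kd xd6 yd21 zd26) (kd xd6 yd21 zd27) (kd xd12 yd35 zd47) (kd xd7 yd31 zd30) (kd xd21 yd22 zd12) (kd xd12 yd35 zd49) (kd xd21 yd8 zd37) (kd xd6 yd29 zd37) (kd xd16 yd16 zd37) (kd xd21 yd22 zd16) (kd xd21 yd22 zd18) (kd xd21 yd22 zd22)) (@D3.rec (fun _ => Pt) (kd xd6 yd21 zd32) (kd xd12 yd32 zd47) (kd xd20 yd51 zd38) (kd xd10 yd14 zd14) (kd xd6 yd21 zd36) (kd xd6 yd21 zd37) (kd xd9 yd48 zd37) (kd xd11 yd30 zd58) (kd xd11 yd30 zd59) (kd xd21 yd22 zd29) (kd xd6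 yd21 zd42) (kd xd21 yd22 zd33) (kd xd6 yd21 zd44) (kd xd21 yd22 zd37) (kd xd6 yd21 zd45) (kd xd21 yd22 zd40) (kd xd21 yd22 zd43) (kd xd21 yd22 zd44) (kd xd6 yd21 zd46) (kd xd9 yd48 zd30) (kd xd10 yd0 zd28) (kd xd9 yd13 zd56) (kd xd6 yd21 zd49) (kd xd21 yd22 zd49) (kd xd11 yd30 zd37) (kd xd9 yd35 zd50) (kd xd13 yd52 zd32) (kd xd6 yd21 zd53) (kd xd13 yd1 zd42) (kd xd6 yd21 zd54) (kd xd17 yd7 zd45) (kd xd20 yd22 zd53) (kd xd21 yd22 zd53) (kd xd12 yd19 zd61) (kd xd21 yd22 zd55) (kd xd6 yd29 zd36) (kd xd21 yd22 zd57) (kd xd21 yd22 zd60) (kd xd6 yd21 zd59) (kd xd21 yd23 zd1) (kd xd8 yd23 zd12) (kd xd20 yd29 zd13) (kd xd12 yd50 zd27) (kd xd12 yd43 zd30) (kd xd9 yd13 zd23) (kd xd6 yd22 zd1) (kd xd9 yd23 zd44) (kd xd8 yd12 zd48) (kd xd8 yd12 zd53) (kd xd21 yd23 zd6) (kd xd21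 yd23 zd9) (kd xd21 yd23 zd11) (kd xd6 yd22 zd7) (kd xd17 yd8 zd47) (kd xd11 yd29 zd6) (kd xd14 yd29 zd25) (kd xd21 yd23 zd20) (kd xd6 yd22 zd12) (kd xd21 yd23 zd21) (kd xd6 yd22 zd13) (kd xd6 yd42 zd52) (kd xd21 yd23 zd27)) (@D3.rec (fun _ => Pt) (kd xd6 yd22 zd16) (kd xd21 yd23 zd13) (kd xd21 yd23 zd14) (kd xd21 yd23 zd31) (kd xd6 yd22 zd17) (kd xd21 yd23 zd35) (kd xd21 yd23 zd37) (kd xd21 yd23 zd38) (kd xd6 yd22 zd19) (kd xd9 yd18 zd32) (kd xd9 yd18 zd31) (kd xd21 yd23 zd46) (kd xd9 yd40 zd61) (kd xd21 yd23 zd48) (kd xd21 yd23 zd51) (kd xd15 yd22 zd5) (kd xd6 yd22 zd23) (kd xd16 yd9 zd24) (kd xd21 yd23 zd59) (kd xd6 yd22 zd24) (kd xd6 yd22 zd25) (kd xd15 yd48 zd21) (kd xd8 yd37 zd25) (kd xd21 yd24 zd8) (kd xd6 yd23 zd40) (kd xd6 yd42 zd53) (kd xd9 yd57 zd13) (kd xd6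 yd42 zd54) (kd xd12 yd50 zd6) (kd xd8 yd35 zd30) (kd xd6 yd23 zd43) (kd xd16 yd6 zd48) (kd xd21 yd24 zd21) (kd xd6 yd22 zd32) (kd xd21 yd24 zd26) (kd xd6 yd22 zd33) (kd xd21 yd24 zd28) (kd xd7 yd48 zd53) (kd xd12 yd27 zd6) (kd xd6 yd22 zd35) (kd xd21 yd24 zd31) (kd xd6 yd22 zd36) (kd xd14 yd6 zd22) (kd xd21 yd24 zd35) (kd xd21 yd24 zd37) (kd xd6 yd22 zd37) (kd xd9 yd18 zd55) (kd xd21 yd6 zd23) (kd xd12 yd26 zd49) (kd xd7 yd4 zd38) (kd xd21 yd24 zd48) (kd xd12 yd26 zd52) (kd xd21 yd24 zd52) (kd xd21 yd24 zd54) (kd xd18 yd11 zd10) (kd xd9 yd59 zd57) (kd xd10 yd0 zd7) (kd xd9 yd59 zd33) (kd xd18 yd36 zd20) (kd xd21 yd25 zd0) (kd xd6 yd22 zd45) (kd xd8 yd35 zd32)) (@D3.rec (fun _ => Pt) (kd xd7 yd29 zd52) (kd xd18 yd7 zd34) (kd xd13 yd52 zd23) (kd xd12 yd19 zd3) (kd xd21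 yd25 zd9) (kd xd6 yd22 zd49) (kd xd9 yd36 zd9) (kd xd21 yd25 zd13) (kd xd6 yd22 zd51) (kd xd21 yd25 zd15) (kd xd6 yd22 zd52) (kd xd21 yd25 zd16) (kd xd21 yd25 zd18) (kd xd21 yd25 zd21) (kd xd21 yd25 zd23) (kd xd6 yd22 zd53) (kd xd18 yd3 zd42) (kd xd6 yd23 zd10) (kd xd6 yd23 zd11) (kd xd21 yd25 zd34) (kd xd19 yd2 zd9) (kd xd19 yd2 zd0) (kd xd6 yd22 zd55) (kd xd18 yd7 zd13) (kd xd18 yd4 zd52) (kd xd6 yd22 zd56) (kd xd18 yd4 zd51) (kd xd6 yd22 zd57) (kd xd12 yd27 zd16) (kd xd21 yd25 zd46) (kd xd21 yd25 zd47) (kd xd12 yd27 zd18) (kd xd21 yd25 zd48) (kd xd11 yd16 zd33) (kd xd21 yd25 zd51) (kd xd12 yd23 zd25) (kd xd21 yd25 zd55) (kd xd6 yd23 zd0) (kd xd6 yd40 zd61) (kd xd6 yd28 zd21) (kd xd12 yd14 zd12) (kd xd6 yd44 zd25) (kd xd6 yd51 zd20) (kd xd10 yd6 zd4) (kd xd13 yd26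 zd27) (kd xd17 yd30 zd32) (kd xd12 yd29 zd51) (kd xd6 yd49 zd18) (kd xd21 yd25 zd28) (kd xd21 yd25 zd30) (kd xd21 yd25 zd24) (kd xd21 yd25 zd25) (kd xd21 yd26 zd2) (kd xd6 yd23 zd12) (kd xd21 yd26 zd8) (kd xd18 yd9 zd59) (kd xd21 yd26 zd11) (kd xd9 yd54 zd20) (kd xd6 yd23 zd14) (kd xd17 yd30 zd33) (kd xd21 yd26 zd14) (kd xd12 yd17 zd33)) (@D3.rec (fun _ => Pt) (kd xd12 yd27 zd50) (kd xd9 yd59 zd49) (kd xd17 yd14 zd24) (kd xd21 yd26 zd17) (kd xd21 yd26 zd20) (kd xd21 yd6 zd51) (kd xd21 yd26 zd26) (kd xd6 yd23 zd21) (kd xd17 yd56 zd41) (kd xd9 yd19 zd9) (kd xd9 yd11 zd30) (kd xd21 yd26 zd29) (kd xd17 yd35 zd30) (kd xd9 yd52 zd49) (kd xd6 yd23 zd27) (kd xd12 yd53 zd25) (kd xd9 yd19 zd6) (kd xd8 yd5 zd30) (kd xd6 yd23 zd28) (kd xd21 yd26 zd34) (kd xd21 yd26 zd37) (kd xd12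 yd53 zd27) (kd xd12 yd3 zd37) (kd xd9 yd11 zd31) (kd xd18 yd15 zd15) (kd xd21 yd25 zd17) (kd xd21 yd10 zd10) (kd xd21 yd26 zd39) (kd xd6 yd23 zd32) (kd xd21 yd26 zd41) (kd xd10 yd34 zd61) (kd xd18 yd36 zd32) (kd xd17 yd5 zd2) (kd xd14 yd12 zd18) (kd xd6 yd23 zd35) (kd xd18 yd15 zd16) (kd xd18 yd9 zd48) (kd xd15 yd48 zd39) (kd xd21 yd26 zd48) (kd xd10 yd10 zd44) (kd xd15 yd48 zd40) (kd xd21 yd26 zd52) (kd xd10 yd5 zd38) (kd xd10 yd10 zd45) (kd xd21 yd26 zd54) (kd xd20 yd20 zd45) (kd xd20 yd54 zd0) (kd xd21 yd24 zd12) (kd xd17 yd8 zd59) (kd xd9 yd42 zd20) (kd xd18 yd12 zd34) (kd xd16 yd48 zd15) (kd xd6 yd23 zd45) (kd xd8 yd36 zd18) (kd xd16 yd6 zd49) (kd xd21 yd27 zd0) (kd xd6 yd23 zd50) (kd xd21 yd27 zd4) (kd xd6 yd23 zd53) (kd xd17 yd28 zd17) (kd xd10 yd50 zd49) (kd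 xd17 yd28 zd19)) (@D3.rec (fun _ => Pt) (kd xd17 yd28 zd13) (kd xd17 yd28 zd14) (kd xd21 yd27 zd13) (kd xd6 yd23 zd56) (kd xd21 yd27 zd19) (kd xd9 yd19 zd12) (kd xd15 yd35 zd51) (kd xd6 yd23 zd58) (kd xd12 yd4 zd59) (kd xd21 yd27 zd28) (kd xd20 yd19 zd16) (kd xd12 yd5 zd0) (kd xd21 yd27 zd32) (kd xd21 yd27 zd34) (kd xd18 yd11 zd4) (kd xd10 yd27 zd10) (kd xd10 yd27 zd23) (kd xd10 yd13 zd24) (kd xd18 yd15 zd39) (kd xd7 yd19 zd41) (kd xd21 yd27 zd47) (kd xd6 yd41 zd22) (kd xd12 yd21 zd22) (kd xd13 yd16 zd19) (kd xd21 yd27 zd53) (kd xd21 yd8 zd56) (kd xd21 yd8 zd57) (kd xd21 yd27 zd57) (kd xd6 yd24 zd6) (kd xd21 yd28 zd1) (kd xd21 yd28 zd3) (kd xd21 yd28 zd6) (kd xd21 yd28 zd8) (kd xd6 yd24 zd8) (kd xd21 yd28 zd12) (kd xd21 yd28 zd14) (kd xd6 yd24 zd9) (kd xd21 yd28 zd16)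 (kd xd9 yd33 zd8) (kd xd21 yd28 zd19) (kd xd21 yd28 zd20) (kd xd9 yd33 zd11) (kd xd21 yd28 zd24) (kd xd21 yd28 zd26) (kd xd6 yd45 zd13) (kd xd12 yd27 zd42) (kd xd21 yd20 zd15) (kd xd12 yd21 zd47) (kd xd9 yd37 zd28) (kd xd21 yd28 zd32) (kd xd6 yd40 zd60) (kd xd17 yd36 zd0) (kd xd12 yd27 zd53) (kd xd14 yd45 zd14) (kd xd6 yd24 zd21) (kd xd8 yd51 zd34) (kd xd6 yd24 zd22) (kd xd14 yd45 zd9) (kd xd16 yd12 zd1) (kd xd18 yd57 zd56) (kd xd21 yd28 zd43) (kd xd6 yd24 zd28)) (@D3.rec (fun _ => Pt) (kd xd21 yd28 zd47) (kd xd6 yd24 zd30) (kd xd6 yd31 zd52) (kd xd8 yd52 zd29) (kd xd6 yd24 zd32) (kd xd6 yd24 zd36) (kd xd17 yd7 zd21) (kd xd21 yd28 zd53) (kd xd17 yd56 zd44) (kd xd16 yd51 zd22) (kd xd11 yd47 zd16) (kd xd10 yd3 zd39) (kd xd19 yd23 zd9) (kd xd10 yd13 zd35) (kd xd6 yd24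 zd40) (kd xd13 yd41 zd49) (kd xd21 yd29 zd0) (kd xd9 yd43 zd17) (kd xd6 yd24 zd41) (kd xd20 yd35 zd3) (kd xd20 yd1 zd13) (kd xd20 yd1 zd14) (kd xd21 yd29 zd3) (kd xd21 yd29 zd5) (kd xd6 yd24 zd44) (kd xd21 yd29 zd8) (kd xd6 yd24 zd46) (kd xd15 yd8 zd10) (kd xd20 yd19 zd35) (kd xd6 yd24 zd47) (kd xd12 yd6 zd32) (kd xd16 yd25 zd43) (kd xd21 yd29 zd17) (kd xd16 yd26 zd56) (kd xd17 yd56 zd59) (kd xd9 yd46 zd61) (kd xd21 yd29 zd21) (kd xd6 yd24 zd50) (kd xd21 yd29 zd25) (kd xd21 yd29 zd28) (kd xd21 yd29 zd29) (kd xd8 yd3 zd52) (kd xd6 yd24 zd52) (kd xd21 yd29 zd31) (kd xd21 yd29 zd33) (kd xd6 yd24 zd53) (kd xd16 yd34 zd38) (kd xd21 yd29 zd37) (kd xd21 yd29 zd40) (kd xd6 yd24 zd54) (kd xd21 yd14 zd35) (kd xd13 yd38 zd14) (kd xd21 yd29 zd45) (kd xd21 yd29 zd48) (kd xd21 yd29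 zd49) (kd xd16 yd12 zd14) (kd xd7 yd25 zd8) (kd xd21 yd29 zd53) (kd xd21 yd29 zd56) (kd xd21 yd29 zd57) (kd xd6 yd24 zd59) (kd xd21 yd29 zd59)) (@D3.rec (fun _ => Pt) (kd xd7 yd40 zd44) (kd xd7 yd46 zd36) (kd xd11 yd4 zd2) (kd xd21 yd29 zd60) (kd xd7 yd28 zd51) (kd xd21 yd30 zd0) (kd xd21 yd30 zd3) (kd xd18 yd23 zd6) (kd xd16 yd11 zd50) (kd xd21 yd30 zd8) (kd xd20 yd1 zd25) (kd xd9 yd49 zd30) (kd xd21 yd30 zd11) (kd xd21 yd30 zd13) (kd xd21 yd30 zd14) (kd xd18 yd40 zd48) (kd xd21 yd6 zd49) (kd xd19 yd13 zd14) (kd xd21 yd30 zd17) (kd xd21 yd30 zd18) (kd xd6 yd25 zd9) (kd xd14 yd36 zd1) (kd xd21 yd30 zd21) (kd xd6 yd25 zd10) (kd xd8 yd10 zd52) (kd xd12 yd19 zd35) (kd xd21 yd30 zd23) (kd xd21 yd30 zd24) (kd xd21 yd30 zd26) (kd xd6 yd25 zd17) (kd xd21 yd30 zd30) (kd xd21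 yd30 zd31) (kd xd6 yd45 zd15) (kd xd21 yd30 zd36) (kd xd6 yd25 zd20) (kd xd21 yd30 zd40) (kd xd6 yd25 zd21) (kd xd6 yd25 zd22) (kd xd11 yd27 zd52) (kd xd11 yd21 zd16) (kd xd12 yd14 zd43) (kd xd6 yd25 zd24) (kd xd19 yd48 zd3) (kd xd11 yd36 zd25) (kd xd9 yd5 zd5) (kd xd12 yd11 zd0) (kd xd7 yd19 zd17) (kd xd8 yd3 zd17) (kd xd12 yd5 zd10) (kd xd7 yd22 zd61) (kd xd21 yd30 zd48) (kd xd16 yd35 zd6) (kd xd8 yd45 zd14) (kd xd16 yd21 zd14) (kd xd11 yd55 zd52) (kd xd8 yd35 zd53) (kd xd10 yd15 zd20) (kd xd18 yd11 zd9) (kd xd18 yd10 zd8) (kd xd18 yd15 zd23) (kd xd17 yd42 zd34) (kd xd9 yd58 zd43)) (@D3.rec (fun _ => Pt) (kd xd10 yd5 zd60) (kd xd13 yd1 zd30) (kd xd20 yd27 zd48) (kd xd6 yd25 zd52) (kd xd14 yd20 zd1) (kd xd6 yd31 zd59) (kd xd13 yd6 zd24) (kd xd20 yd24 zd49) (kd xd11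 yd21 zd31) (kd xd6 yd25 zd59) (kd xd10 yd2 zd24) (kd xd11 yd14 zd26) (kd xd7 yd35 zd36) (kd xd16 yd55 zd0) (kd xd11 yd50 zd48) (kd xd12 yd29 zd53) (kd xd21 yd30 zd59) (kd xd21 yd7 zd25) (kd xd6 yd34 zd26) (kd xd21 yd20 zd46) (kd xd17 yd3 zd17) (kd xd17 yd3 zd18) (kd xd12 yd54 zd28) (kd xd13 yd53 zd49) (kd xd14 yd9 zd54) (kd xd10 yd2 zd34) (kd xd9 yd44 zd7) (kd xd18 yd32 zd42) (kd xd18 yd32 zd2) (kd xd18 yd35 zd42) (kd xd7 yd24 zd38) (kd xd18 yd32 zd12) (kd xd18 yd32 zd44) (kd xd10 yd0 zd5) (kd xd21 yd4 zd37) (kd xd18 yd35 zd41) (kd xd18 yd11 zd12) (kd xd17 yd52 zd28) (kd xd18 yd11 zd6) (kd xd21 yd31 zd33) (kd xd21 yd31 zd36) (kd xd15 yd47 zd52) (kd xd6 yd26 zd22) (kd xd10 yd5 zd21) (kd xd21 yd31 zd41) (kd xd12 yd59 zd20) (kd xd6 yd26 zd23) (kd xd6 yd26 zd25) (kd xd6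 yd26 zd26) (kd xd17 yd38 zd31) (kd xd21 yd31 zd42) (kd xd21 yd31 zd43) (kd xd6 yd26 zd28) (kd xd12 yd4 zd19) (kd xd11 yd58 zd12) (kd xd21 yd31 zd49) (kd xd21 yd31 zd51) (kd xd12 yd14 zd8) (kd xd18 yd16 zd35) (kd xd18 yd7 zd40) (kd xd17 yd53 zd60) (kd xd6 yd26 zd32)) (@D3.rec (fun _ => Pt) (kd xd19 yd47 zd4) (kd xd10 yd48 zd31) (kd xd6 yd26 zd33) (kd xd6 yd26 zd34) (kd xd11 yd31 zd52) (kd xd11 yd31 zd53) (kd xd21 yd31 zd60) (kd xd11 yd29 zd55) (kd xd10 yd18 zd27) (kd xd21 yd32 zd2) (kd xd6 yd26 zd37) (kd xd21 yd32 zd6) (kd xd6 yd26 zd38) (kd xd12 yd45 zd38) (kd xd12 yd27 zd37) (kd xd20 yd9 zd43) (kd xd21 yd32 zd19) (kd xd11 yd19 zd52) (kd xd6 yd26 zd41) (kd xd11 yd31 zd32) (kd xd6 yd26 zd43) (kd xd21 yd32 zd22) (kd xd21 yd32 zd23) (kd xd6 yd26 zd45) (kd xd21 yd32 zd26)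 (kd xd6 yd26 zd48) (kd xd12 yd1 zd24) (kd xd12 yd2 zd57) (kd xd21 yd32 zd31) (kd xd12 yd47 zd4) (kd xd14 yd28 zd54) (kd xd14 yd28 zd55) (kd xd12 yd13 zd7) (kd xd7 yd4 zd48) (kd xd6 yd26 zd52) (kd xd6 yd26 zd56) (kd xd20 yd22 zd14) (kd xd18 yd43 zd48) (kd xd11 yd30 zd39) (kd xd21 yd32 zd42) (kd xd21 yd32 zd43) (kd xd11 yd24 zd31) (kd xd11 yd24 zd32) (kd xd6 yd26 zd58) (kd xd20 yd9 zd6) (kd xd6 yd26 zd60) (kd xd13 yd20 zd37) (kd xd13 yd24 zd27) (kd xd6 yd27 zd0) (kd xd6 yd46 zd38) (kd xd21 yd32 zd47) (kd xd6 yd27 zd3) (kd xd13 yd2 zd8) (kd xd21 yd32 zd51) (kd xd6 yd27 zd4) (kd xd17 yd45 zd23) (kd xd11 yd19 zd51) (kd xd20 yd9 zd55) (kd xd11 yd19 zd1) (kd xd14 yd2 zd28) (kd xd12 yd40 zd32) (kd xd13 yd37 zd6)) (@D3.rec (fun _ => Pt) (kd xd14 yd3 zd27) (kd xd6 yd27 zd12)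 (kd xd18 yd17 zd21) (kd xd18 yd17 zd22) (kd xd21 yd33 zd0) (kd xd20 yd6 zd56) (kd xd21 yd33 zd3) (kd xd21 yd33 zd6) (kd xd17 yd4 zd58) (kd xd21 yd33 zd8) (kd xd18 yd11 zd1) (kd xd21 yd33 zd10) (kd xd21 yd4 zd7) (kd xd21 yd33 zd15) (kd xd17 yd2 zd10) (kd xd6 yd27 zd20) (kd xd21 yd33 zd22) (kd xd21 yd33 zd21) (kd xd21 yd33 zd26) (kd xd6 yd27 zd21) (kd xd21 yd33 zd29) (kd xd6 yd27 zd22) (kd xd21 yd32 zd3) (kd xd21 yd32 zd4) (kd xd12 yd54 zd30) (kd xd6 yd27 zd24) (kd xd6 yd43 zd55) (kd xd6 yd43 zd57) (kd xd20 yd9 zd48) (kd xd7 yd54 zd33) (kd xd13 yd13 zd51) (kd xd21 yd33 zd41) (kd xd6 yd50 zd54) (kd xd6 yd29 zd38) (kd xd14 yd9 zd25) (kd xd12 yd26 zd44) (kd xd12 yd26 zd43) (kd xd14 yd9 zd32) (kd xd14 yd9 zd30) (kd xd18 yd30 zd8) (kd xd21 yd33 zd55) (kd xd21 yd19 zd58) (kd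 xd6 yd27 zd38) (kd xd12 yd26 zd36) (kd xd12 yd26 zd35) (kd xd6 yd27 zd40) (kd xd21 yd22 zd48) (kd xd21 yd34 zd2) (kd xd17 yd37 zd49) (kd xd12 yd18 zd48) (kd xd21 yd34 zd6) (kd xd20 yd14 zd15) (kd xd12 yd18 zd51) (kd xd21 yd34 zd8) (kd xd21 yd34 zd9) (kd xd21 yd22 zd47) (kd xd10 yd0 zd12) (kd xd11 yd30 zd38) (kd xd6 yd27 zd47) (kd xd13 yd1 zd9) (kd xd6 yd27 zd49) (kd xd21 yd19 zd27)) (@D3.rec (fun _ => Pt) (kd xd21 yd34 zd18) (kd xd6 yd27 zd51) (kd xd21 yd34 zd23) (kd xd6 yd27 zd53) (kd xd21 yd34 zd25) (kd xd8 yd23 zd27) (kd xd12 yd18 zd38) (kd xd6 yd27 zd55) (kd xd21 yd34 zd27) (kd xd21 yd34 zd29) (kd xd6 yd27 zd56) (kd xd21 yd34 zd32) (kd xd21 yd34 zd35) (kd xd21 yd34 zd36) (kd xd6 yd27 zd57) (kd xd21 yd21 zd56) (kd xd12 yd19 zd28) (kd xd21 yd34 zd43) (kd xd12 yd19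 zd31) (kd xd13 yd0 zd16) (kd xd17 yd16 zd26) (kd xd21 yd34 zd47) (kd xd10 yd5 zd49) (kd xd21 yd34 zd51) (kd xd10 yd0 zd0) (kd xd17 yd50 zd54) (kd xd6 yd28 zd1) (kd xd10 yd6 zd5) (kd xd20 yd13 zd8) (kd xd17 yd16 zd29) (kd xd18 yd29 zd39) (kd xd10 yd15 zd17) (kd xd6 yd28 zd4) (kd xd20 yd53 zd31) (kd xd11 yd23 zd58) (kd xd20 yd9 zd52) (kd xd6 yd28 zd7) (kd xd12 yd25 zd14) (kd xd9 yd58 zd52) (kd xd7 yd31 zd3) (kd xd6 yd49 zd38) (kd xd6 yd28 zd11) (kd xd12 yd21 zd45) (kd xd12 yd40 zd52) (kd xd6 yd28 zd12) (kd xd11 yd49 zd12) (kd xd18 yd17 zd37) (kd xd9 yd20 zd5) (kd xd8 yd21 zd45) (kd xd11 yd55 zd49) (kd xd12 yd20 zd0) (kd xd15 yd49 zd12) (kd xd21 yd20 zd35) (kd xd12 yd21 zd52) (kd xd6 yd35 zd11) (kd xd18 yd38 zd21) (kd xd17 yd15 zd49) (kd xd21 yd20 zd38) (kd xd20 yd51 zd26)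 (kd xd17 yd15 zd51) (kd xd10 yd53 zd22) (kd xd12 yd15 zd53)) (@D3.rec (fun _ => Pt) (kd xd17 yd28 zd48) (kd xd15 yd47 zd23) (kd xd7 yd44 zd36) (kd xd21 yd35 zd9) (kd xd14 yd36 zd4) (kd xd14 yd36 zd5) (kd xd6 yd28 zd41) (kd xd7 yd44 zd35) (kd xd21 yd35 zd12) (kd xd6 yd28 zd42) (kd xd11 yd50 zd61) (kd xd21 yd21 zd2) (kd xd11 yd45 zd1) (kd xd12 yd4 zd0) (kd xd6 yd28 zd46) (kd xd17 yd12 zd34) (kd xd6 yd34 zd13) (kd xd9 yd58 zd41) (kd xd9 yd13 zd20) (kd xd12 yd29 zd26) (kd xd6 yd28 zd55) (kd xd11 yd29 zd56) (kd xd9 yd57 zd45) (kd xd20 yd5 zd3) (kd xd6 yd28 zd61) (kd xd12 yd15 zd35) (kd xd19 yd44 zd19) (kd xd17 yd8 zd43) (kd xd21 yd35 zd18) (kd xd21 yd35 zd20) (kd xd6 yd29 zd3) (kd xd21 yd1 zd7) (kd xd9 yd20 zd4) (kd xd6 yd29 zd6) (kd xd14 yd44 zd34) (kd xd6 yd29 zd7) (kd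 xd6 yd43 zd34) (kd xd6 yd50 zd49) (kd xd9 yd27 zd7) (kd xd12 yd16 zd3) (kd xd12 yd16 zd4) (kd xd8 yd21 zd3) (kd xd6 yd29 zd10) (kd xd6 yd39 zd57) (kd xd16 yd49 zd38) (kd xd9 yd56 zd18) (kd xd10 yd10 zd51) (kd xd10 yd0 zd36) (kd xd11 yd45 zd57) (kd xd11 yd45 zd56) (kd xd21 yd4 zd4) (kd xd6 yd29 zd17) (kd xd6 yd40 zd50) (kd xd6 yd36 zd5) (kd xd20 yd22 zd8) (kd xd10 yd33 zd8) (kd xd16 yd28 zd30) (kd xd16 yd28 zd31) (kd xd6 yd29 zd23) (kd xd21 yd35 zd44) (kd xd18 yd0 zd30) (kd xd6 yd29 zd24)) (@D3.rec (fun _ => Pt) (kd xd12 yd41 zd29) (kd xd21 yd35 zd50) (kd xd6 yd29 zd25) (kd xd10 yd1 zd55) (kd xd6 yd29 zd27) (kd xd6 yd40 zd23) (kd xd17 yd30 zd40) (kd xd7 yd43 zd9) (kd xd7 yd43 zd10) (kd xd21 yd35 zd56) (kd xd12 yd49 zd48) (kd xd6 yd29 zd35) (kd xd6 yd42 zd24) (kd xd16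 yd47 zd15) (kd xd6 yd29 zd39) (kd xd6 yd29 zd40) (kd xd21 yd35 zd59) (kd xd6 yd29 zd41) (kd xd12 yd49 zd19) (kd xd6 yd41 zd57) (kd xd21 yd36 zd4) (kd xd6 yd29 zd43) (kd xd16 yd17 zd18) (kd xd16 yd47 zd49) (kd xd14 yd4 zd28) (kd xd16 yd17 zd17) (kd xd12 yd28 zd19) (kd xd6 yd34 zd42) (kd xd9 yd20 zd20) (kd xd17 yd35 zd0) (kd xd21 yd36 zd9) (kd xd6 yd29 zd54) (kd xd18 yd0 zd26) (kd xd6 yd41 zd10) (kd xd6 yd36 zd15) (kd xd14 yd12 zd12) (kd xd21 yd36 zd25) (kd xd7 yd45 zd38) (kd xd6 yd29 zd56) (kd xd21 yd36 zd28) (kd xd20 yd42 zd23) (kd xd21 yd36 zd30) (kd xd12 yd16 zd39) (kd xd6 yd30 zd2) (kd xd10 yd57 zd3) (kd xd11 yd27 zd4) (kd xd11 yd27 zd5) (kd xd11 yd26 zd26) (kd xd10 yd57 zd5) (kd xd16 yd59 zd3) (kd xd16 yd56 zd48) (kd xd12 yd19 zd46) (kd xd6 yd30 zd9) (kd xd12 yd24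 zd15) (kd xd9 yd5 zd2) (kd xd11 yd27 zd51) (kd xd6 yd50 zd43) (kd xd21 yd36 zd35) (kd xd17 yd30 zd10) (kd xd13 yd1 zd58) (kd xd17 yd29 zd52) (kd xd6 yd30 zd15)) (@D3.rec (fun _ => Pt) (kd xd6 yd49 zd17) (kd xd19 yd24 zd26) (kd xd19 yd52 zd36) (kd xd6 yd30 zd21) (kd xd15 yd5 zd27) (kd xd17 yd16 zd37) (kd xd6 yd51 zd13) (kd xd21 yd36 zd45) (kd xd7 yd59 zd42) (kd xd7 yd59 zd43) (kd xd15 yd5 zd28) (kd xd7 yd59 zd47) (kd xd21 yd20 zd37) (kd xd11 yd49 zd51) (kd xd11 yd28 zd58) (kd xd6 yd50 zd17) (kd xd9 yd15 zd43) (kd xd17 yd34 zd35) (kd xd9 yd18 zd10) (kd xd17 yd34 zd37) (kd xd7 yd5 zd29) (kd xd6 yd30 zd45) (kd xd6 yd30 zd47) (kd xd16 yd49 zd23) (kd xd21 yd36 zd51) (kd xd21 yd36 zd52) (kd xd21 yd36 zd53) (kd xd6 yd30 zd51) (kd xd20 yd17 zd61) (kd xd6 yd46 zd47) (kd xd20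 yd12 zd13) (kd xd21 yd36 zd57) (kd xd10 yd49 zd36) (kd xd6 yd30 zd57) (kd xd21 yd36 zd59) (kd xd21 yd31 zd53) (kd xd21 yd37 zd0) (kd xd6 yd30 zd60) (kd xd21 yd37 zd1) (kd xd13 yd52 zd14) (kd xd21 yd37 zd8) (kd xd6 yd31 zd1) (kd xd21 yd37 zd12) (kd xd6 yd31 zd2) (kd xd9 yd58 zd55) (kd xd18 yd4 zd30) (kd xd6 yd31 zd3) (kd xd7 yd25 zd42) (kd xd7 yd25 zd43) (kd xd8 yd40 zd39) (kd xd6 yd31 zd5) (kd xd6 yd31 zd8) (kd xd20 yd17 zd57) (kd xd21 yd37 zd18) (kd xd14 yd46 zd30) (kd xd12 yd56 zd24) (kd xd14 yd46 zd31) (kd xd8 yd0 zd47) (kd xd16 yd57 zd33) (kd xd10 yd55 zd5) (kd xd6 yd31 zd12) (kd xd19 yd39 zd5)) (@D3.rec (fun _ => Pt) (kd xd6 yd42 zd21) (kd xd12 yd32 zd13) (kd xd20 yd4 zd30) (kd xd6 yd31 zd15) (kd xd6 yd31 zd18) (kd xd20 yd9 zd49) (kd xd12 yd44 zd14) (kd xd12 yd31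 zd8) (kd xd12 yd31 zd7) (kd xd7 yd20 zd1) (kd xd10 yd48 zd12) (kd xd20 yd40 zd24) (kd xd21 yd3 zd3) (kd xd11 yd22 zd20) (kd xd14 yd4 zd29) (kd xd9 yd57 zd8) (kd xd6 yd31 zd31) (kd xd16 yd53 zd35) (kd xd20 yd13 zd58) (kd xd11 yd24 zd48) (kd xd17 yd30 zd3) (kd xd20 yd27 zd47) (kd xd21 yd37 zd31) (kd xd6 yd31 zd43) (kd xd21 yd37 zd33) (kd xd12 yd40 zd41) (kd xd6 yd31 zd45) (kd xd9 yd25 zd17) (kd xd12 yd37 zd47) (kd xd20 yd16 zd10) (kd xd6 yd31 zd47) (kd xd18 yd24 zd31) (kd xd7 yd24 zd56) (kd xd17 yd19 zd44) (kd xd21 yd37 zd39) (kd xd21 yd3 zd9) (kd xd21 yd3 zd10) (kd xd6 yd31 zd49) (kd xd6 yd31 zd50) (kd xd20 yd15 zd37) (kd xd9 yd48 zd61) (kd xd6 yd31 zd56) (kd xd17 yd56 zd4) (kd xd21 yd23 zd10) (kd xd6 yd42 zd4) (kd xd7 yd2 zd13) (kd xd19 yd48 zd31) (kd xd20 yd59 zd28)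 (kd xd6 yd31 zd61) (kd xd21 yd37 zd52) (kd xd21 yd37 zd55) (kd xd6 yd32 zd1) (kd xd14 yd50 zd13) (kd xd19 yd33 zd45) (kd xd21 yd37 zd58) (kd xd6 yd32 zd2) (kd xd17 yd58 zd18) (kd xd9 yd45 zd45) (kd xd21 yd37 zd61) (kd xd6 yd32 zd4) (kd xd20 yd16 zd14) (kd xd20 yd25 zd34)) (@D3.rec (fun _ => Pt) (kd xd6 yd32 zd5) (kd xd21 yd38 zd3) (kd xd12 yd32 zd9) (kd xd21 yd38 zd5) (kd xd6 yd32 zd7) (kd xd9 yd29 zd22) (kd xd12 yd32 zd8) (kd xd17 yd34 zd48) (kd xd12 yd32 zd6) (kd xd12 yd32 zd2) (kd xd12 yd32 zd19) (kd xd21 yd38 zd11) (kd xd6 yd32 zd12) (kd xd12 yd31 zd1) (kd xd19 yd52 zd30) (kd xd21 yd38 zd13) (kd xd6 yd32 zd16) (kd xd21 yd38 zd18) (kd xd6 yd50 zd51) (kd xd12 yd32 zd10) (kd xd20 yd12 zd27) (kd xd6 yd32 zd18) (kd xd21 yd38 zd22) (kd xd6 yd32 zd20) (kd xd11 yd29 zd7)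 (kd xd18 yd16 zd37) (kd xd16 yd48 zd61) (kd xd10 yd59 zd17) (kd xd20 yd25 zd52) (kd xd6 yd32 zd27) (kd xd21 yd38 zd24) (kd xd21 yd38 zd27) (kd xd6 yd32 zd29) (kd xd9 yd23 zd34) (kd xd9 yd27 zd11) (kd xd21 yd38 zd37) (kd xd18 yd53 zd8) (kd xd17 yd16 zd45) (kd xd17 yd16 zd46) (kd xd6 yd32 zd31) (kd xd9 yd25 zd41) (kd xd17 yd17 zd40) (kd xd13 yd3 zd23) (kd xd6 yd32 zd32) (kd xd17 yd21 zd57) (kd xd10 yd59 zd4) (kd xd11 yd40 zd0) (kd xd12 yd17 zd1) (kd xd12 yd35 zd51) (kd xd12 yd51 zd3) (kd xd6 yd32 zd37) (kd xd14 yd12 zd11) (kd xd14 yd21 zd22) (kd xd12 yd34 zd42) (kd xd6 yd32 zd41) (kd xd7 yd22 zd39) (kd xd21 yd16 zd49) (kd xd21 yd38 zd52) (kd xd6 yd32 zd46) (kd xd8 yd32 zd21) (kd xd11 yd15 zd27) (kd xd9 yd3 zd25)) (@D3.rec (fun _ => Pt) (kd xd6 yd32 zd48) (kd xd15 yd25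 zd3) (kd xd21 yd38 zd60) (kd xd6 yd32 zd50) (kd xd21 yd39 zd1) (kd xd21 yd39 zd4) (kd xd6 yd32 zd52) (kd xd6 yd55 zd54) (kd xd21 yd39 zd6) (kd xd18 yd54 zd50) (kd xd21 yd39 zd8) (kd xd6 yd32 zd56) (kd xd15 yd39 zd9) (kd xd15 yd39 zd10) (kd xd16 yd49 zd9) (kd xd21 yd39 zd15) (kd xd19 yd34 zd55) (kd xd10 yd50 zd47) (kd xd21 yd5 zd34) (kd xd21 yd39 zd26) (kd xd6 yd33 zd1) (kd xd9 yd28 zd14) (kd xd21 yd39 zd29) (kd xd6 yd33 zd3) (kd xd21 yd39 zd32) (kd xd21 yd39 zd36) (kd xd6 yd33 zd4) (kd xd21 yd39 zd39) (kd xd21 yd39 zd42) (kd xd21 yd39 zd44) (kd xd6 yd33 zd5) (kd xd7 yd48 zd45) (kd xd12 yd0 zd12) (kd xd14 yd20 zd11) (kd xd21 yd39 zd52) (kd xd14 yd20 zd12) (kd xd21 yd39 zd55) (kd xd11 yd33 zd24) (kd xd11 yd55 zd59) (kd xd14 yd41 zd61) (kd xd7 yd30 zd11) (kd xd7 yd35 zd52)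 (kd xd12 yd34 zd51) (kd xd21 yd39 zd58) (kd xd6 yd33 zd12) (kd xd21 yd39 zd59) (kd xd6 yd33 zd13) (kd xd17 yd17 zd56) (kd xd21 yd39 zd61) (kd xd6 yd33 zd16) (kd xd15 yd35 zd10) (kd xd8 yd29 zd50) (kd xd19 yd35 zd49) (kd xd12 yd46 zd8) (kd xd12 yd46 zd10) (kd xd13 yd16 zd27) (kd xd21 yd40 zd4) (kd xd17 yd20 zd6) (kd xd17 yd20 zd7) (kd xd6 yd33 zd24) (kd xd21 yd40 zd11) (kd xd17 yd25 zd8)) (@D3.rec (fun _ => Pt) (kd xd6 yd33 zd25) (kd xd15 yd32 zd31) (kd xd21 yd40 zd17) (kd xd21 yd40 zd20) (kd xd8 yd56 zd37) (kd xd15 yd31 zd38) (kd xd6 yd33 zd33) (kd xd20 yd50 zd42) (kd xd21 yd40 zd24) (kd xd6 yd33 zd34) (kd xd21 yd40 zd27) (kd xd6 yd33 zd35) (kd xd8 yd25 zd19) (kd xd13 yd20 zd39) (kd xd20 yd30 zd49) (kd xd18 yd13 zd38) (kd xd12 yd1 zd32) (kd xd20 yd30 zd50) (kd xd21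 yd40 zd33) (kd xd21 yd40 zd37) (kd xd21 yd40 zd40) (kd xd6 yd33 zd41) (kd xd21 yd40 zd44) (kd xd12 yd13 zd5) (kd xd6 yd33 zd43) (kd xd21 yd40 zd48) (kd xd6 yd33 zd44) (kd xd6 yd33 zd46) (kd xd13 yd56 zd40) (kd xd14 yd2 zd29) (kd xd21 yd40 zd53) (kd xd6 yd33 zd49) (kd xd21 yd40 zd55) (kd xd13 yd51 zd45) (kd xd13 yd51 zd46) (kd xd21 yd40 zd58) (kd xd6 yd33 zd51) (kd xd13 yd44 zd46) (kd xd10 yd2 zd26) (kd xd10 yd58 zd15) (kd xd12 yd39 zd28) (kd xd12 yd58 zd10) (kd xd12 yd32 zd53) (kd xd21 yd31 zd1) (kd xd21 yd41 zd7) (kd xd15 yd49 zd39) (kd xd6 yd33 zd59) (kd xd21 yd41 zd11) (kd xd12 yd1 zd47) (kd xd13 yd20 zd55) (kd xd9 yd26 zd30) (kd xd12 yd33 zd42) (kd xd21 yd41 zd15) (kd xd21 yd41 zd17) (kd xd21 yd41 zd19) (kd xd21 yd41 zd22) (kd xd6 yd34 zd8) (kd xd13 yd20 zd2) (kd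 xd7 yd3 zd38) (kd xd6 yd34 zd12) (kd xd9 yd58 zd39) (kd xd7 yd31 zd4)) (@D3.rec (fun _ => Pt) (kd xd17 yd13 zd5) (kd xd21 yd41 zd29) (kd xd18 yd1 zd14) (kd xd6 yd34 zd15) (kd xd21 yd41 zd30) (kd xd6 yd34 zd16) (kd xd21 yd41 zd33) (kd xd17 yd2 zd21) (kd xd17 yd3 zd8) (kd xd12 yd39 zd7) (kd xd6 yd34 zd22) (kd xd16 yd25 zd57) (kd xd6 yd34 zd24) (kd xd15 yd49 zd54) (kd xd20 yd53 zd45) (kd xd21 yd31 zd3) (kd xd21 yd41 zd38) (kd xd6 yd34 zd27) (kd xd19 yd6 zd47) (kd xd13 yd52 zd55) (kd xd16 yd54 zd19) (kd xd20 yd25 zd1) (kd xd6 yd34 zd30) (kd xd21 yd41 zd46) (kd xd21 yd12 zd22) (kd xd21 yd41 zd48) (kd xd6 yd34 zd31) (kd xd21 yd41 zd53) (kd xd6 yd34 zd32) (kd xd21 yd34 zd45) (kd xd17 yd16 zd27) (kd xd6 yd34 zd33) (kd xd21 yd41 zd59) (kd xd18 yd26 zd8) (kd xd12 yd41 zd18) (kd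 xd9 yd53 zd27) (kd xd6 yd34 zd35) (kd xd6 yd40 zd57) (kd xd12 yd35 zd50) (kd xd12 yd41 zd40) (kd xd12 yd37 zd0) (kd xd9 yd32 zd52) (kd xd15 yd43 zd56) (kd xd21 yd24 zd2) (kd xd12 yd35 zd48) (kd xd21 yd24 zd0) (kd xd6 yd34 zd40) (kd xd12 yd16 zd52) (kd xd12 yd35 zd44) (kd xd12 yd16 zd55) (kd xd12 yd35 zd38) (kd xd12 yd32 zd48) (kd xd12 yd35 zd59) (kd xd18 yd6 zd8) (kd xd6 yd34 zd43) (kd xd21 yd42 zd18) (kd xd21 yd33 zd18) (kd xd6 yd34 zd44) (kd xd12 yd43 zd14) (kd xd12 yd35 zd52) (kd xd12 yd43 zd15) (kd xd12 yd37 zd24)) (@D3.rec (fun _ => Pt) (kd xd14 yd12 zd9) (kd xd6 yd34 zd52) (kd xd20 yd46 zd23) (kd xd6 yd34 zd51) (kd xd6 yd37 zd26) (kd xd16 yd54 zd1) (kd xd6 yd57 zd16) (kd xd14 yd11 zd53) (kd xd18 yd35 zd35) (kd xd6 yd37 zd35) (kd xd21 yd42 zd30) (kd xd21 yd42 zd31)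 (kd xd21 yd42 zd32) (kd xd11 yd20 zd15) (kd xd21 yd42 zd35) (kd xd20 yd12 zd43) (kd xd11 yd18 zd54) (kd xd6 yd35 zd5) (kd xd12 yd47 zd29) (kd xd12 yd16 zd14) (kd xd18 yd23 zd25) (kd xd6 yd35 zd7) (kd xd21 yd42 zd40) (kd xd6 yd35 zd8) (kd xd21 yd42 zd42) (kd xd12 yd39 zd41) (kd xd6 yd35 zd10) (kd xd10 yd7 zd8) (kd xd10 yd7 zd9) (kd xd17 yd5 zd21) (kd xd19 yd40 zd48) (kd xd18 yd46 zd47) (kd xd20 yd15 zd34) (kd xd21 yd42 zd48) (kd xd21 yd42 zd49) (kd xd17 yd45 zd0) (kd xd6 yd35 zd16) (kd xd20 yd15 zd35) (kd xd6 yd35 zd17) (kd xd21 yd34 zd49) (kd xd9 yd19 zd8) (kd xd6 yd35 zd18) (kd xd6 yd35 zd19) (kd xd12 yd3 zd2) (kd xd21 yd42 zd57) (kd xd6 yd35 zd21) (kd xd21 yd42 zd60) (kd xd6 yd35 zd22) (kd xd21 yd43 zd0) (kd xd12 yd40 zd20) (kd xd21 yd43 zd2) (kd xd6 yd35 zd25) (kd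 xd8 yd49 zd52) (kd xd11 yd36 zd18) (kd xd21 yd43 zd7) (kd xd19 yd10 zd33) (kd xd6 yd35 zd27) (kd xd21 yd43 zd10) (kd xd6 yd35 zd28) (kd xd21 yd43 zd13) (kd xd21 yd43 zd14) (kd xd6 yd35 zd29)) (@D3.rec (fun _ => Pt) (kd xd12 yd35 zd40) (kd xd7 yd31 zd52) (kd xd21 yd43 zd21) (kd xd6 yd35 zd31) (kd xd21 yd43 zd25) (kd xd21 yd43 zd27) (kd xd21 yd43 zd29) (kd xd13 yd55 zd59) (kd xd6 yd35 zd33) (kd xd21 yd43 zd33) (kd xd12 yd2 zd40) (kd xd9 yd21 zd10) (kd xd21 yd43 zd35) (kd xd6 yd53 zd6) (kd xd21 yd43 zd37) (kd xd6 yd53 zd5) (kd xd21 yd43 zd38) (kd xd21 yd43 zd39) (kd xd19 yd12 zd48) (kd xd6 yd35 zd39) (kd xd17 yd50 zd27) (kd xd21 yd21 zd4) (kd xd6 yd35 zd40) (kd xd21 yd43 zd47) (kd xd12 yd35 zd61) (kd xd9 yd21 zd37) (kd xd21 yd43 zd51) (kd xd18 yd24 zd50) (kd xd6 yd35 zd43)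 (kd xd20 yd58 zd16) (kd xd17 yd45 zd4) (kd xd6 yd35 zd45) (kd xd21 yd43 zd58) (kd xd6 yd37 zd27) (kd xd12 yd1 zd33) (kd xd21 yd43 zd61) (kd xd6 yd35 zd47) (kd xd21 yd44 zd3) (kd xd21 yd44 zd4) (kd xd10 yd35 zd28) (kd xd6 yd35 zd49) (kd xd18 yd13 zd44) (kd xd21 yd44 zd7) (kd xd21 yd28 zd58) (kd xd21 yd44 zd9) (kd xd6 yd35 zd51) (kd xd20 yd36 zd6) (kd xd12 yd31 zd28) (kd xd21 yd44 zd11) (kd xd9 yd13 zd5) (kd xd6 yd35 zd54) (kd xd21 yd44 zd13) (kd xd21 yd44 zd14) (kd xd21 yd44 zd17) (kd xd6 yd35 zd55) (kd xd10 yd13 zd32) (kd xd21 yd44 zd23) (kd xd21 yd44 zd24) (kd xd6 yd35 zd56) (kd xd21 yd44 zd28) (kd xd16 yd59 zd59) (kd xd6 yd35 zd58)) (@D3.rec (fun _ => Pt) (kd xd6 yd35 zd59) (kd xd21 yd44 zd32) (kd xd6 yd35 zd60) (kd xd21 yd44 zd34) (kd xd21 yd35 zd31) (kd xd12 yd2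 zd29) (kd xd8 yd45 zd15) (kd xd6 yd36 zd0) (kd xd9 yd21 zd41) (kd xd12 yd2 zd50) (kd xd9 yd58 zd58) (kd xd21 yd44 zd42) (kd xd21 yd44 zd43) (kd xd6 yd36 zd2) (kd xd17 yd34 zd53) (kd xd21 yd44 zd48) (kd xd6 yd36 zd4) (kd xd18 yd38 zd30) (kd xd10 yd1 zd56) (kd xd12 yd55 zd9) (kd xd17 yd11 zd51) (kd xd18 yd41 zd41) (kd xd18 yd41 zd42) (kd xd21 yd40 zd46) (kd xd17 yd9 zd40) (kd xd6 yd36 zd9) (kd xd21 yd44 zd58) (kd xd20 yd47 zd25) (kd xd6 yd36 zd10) (kd xd6 yd58 zd19) (kd xd12 yd47 zd43) (kd xd18 yd29 zd22) (kd xd21 yd44 zd61) (kd xd19 yd48 zd46) (kd xd6 yd36 zd13) (kd xd21 yd36 zd19) (kd xd16 yd35 zd58) (kd xd17 yd13 zd8) (kd xd14 yd4 zd48) (kd xd11 yd37 zd34) (kd xd20 yd22 zd9) (kd xd6 yd36 zd17) (kd xd20 yd25 zd37) (kd xd9 yd55 zd48) (kd xd18 yd57 zd29) (kd xd19 yd27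 zd58) (kd xd19 yd53 zd24) (kd xd18 yd57 zd28) (kd xd12 yd40 zd53) (kd xd12 yd54 zd4) (kd xd6 yd36 zd26) (kd xd21 yd45 zd4) (kd xd21 yd45 zd5) (kd xd6 yd36 zd27) (kd xd7 yd31 zd32) (kd xd21 yd45 zd8) (kd xd6 yd36 zd29) (kd xd12 yd39 zd26) (kd xd6 yd36 zd30) (kd xd21 yd45 zd11) (kd xd6 yd36 zd32) (kd xd21 yd45 zd14)) (@D3.rec (fun _ => Pt) (kd xd21 yd45 zd16) (kd xd21 yd45 zd18) (kd xd21 yd45 zd22) (kd xd6 yd36 zd35) (kd xd21 yd45 zd27) (kd xd13 yd1 zd3) (kd xd6 yd36 zd37) (kd xd12 yd35 zd9) (kd xd6 yd36 zd38) (kd xd21 yd45 zd29) (kd xd21 yd45 zd30) (kd xd13 yd58 zd47) (kd xd8 yd25 zd36) (kd xd6 yd36 zd42) (kd xd10 yd13 zd17) (kd xd16 yd24 zd28) (kd xd20 yd36 zd1) (kd xd6 yd36 zd45) (kd xd12 yd12 zd9) (kd xd12 yd12 zd10) (kd xd6 yd36 zd46) (kd xd21 yd33 zd9) (kd xd6 yd36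 zd47) (kd xd17 yd14 zd57) (kd xd21 yd45 zd35) (kd xd21 yd10 zd0) (kd xd12 yd38 zd57) (kd xd6 yd36 zd49) (kd xd12 yd34 zd40) (kd xd8 yd28 zd30) (kd xd6 yd36 zd51) (kd xd7 yd31 zd27) (kd xd9 yd17 zd57) (kd xd7 yd35 zd40) (kd xd10 yd11 zd58) (kd xd21 yd45 zd42) (kd xd21 yd45 zd45) (kd xd6 yd36 zd55) (kd xd18 yd13 zd46) (kd xd21 yd45 zd48) (kd xd6 yd36 zd56) (kd xd12 yd36 zd25) (kd xd6 yd36 zd57) (kd xd14 yd36 zd37) (kd xd21 yd41 zd56) (kd xd8 yd7 zd8) (kd xd6 yd36 zd59) (kd xd21 yd26 zd40) (kd xd6 yd36 zd60) (kd xd21 yd46 zd3) (kd xd13 yd0 zd15) (kd xd12 yd13 zd31) (kd xd21 yd10 zd5) (kd xd21 yd46 zd6) (kd xd6 yd37 zd0) (kd xd21 yd46 zd9) (kd xd21 yd45 zd6) (kd xd11 yd30 zd36) (kd xd21 yd46 zd13) (kd xd21 yd35 zd51) (kd xd12 yd12 zd37) (kd xd21 yd46 zd17)) (@D3.rec (fun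 _ => Pt) (kd xd12 yd12 zd38) (kd xd21 yd46 zd21) (kd xd17 yd17 zd17) (kd xd21 yd46 zd24) (kd xd6 yd37 zd5) (kd xd21 yd43 zd5) (kd xd21 yd43 zd23) (kd xd6 yd37 zd7) (kd xd21 yd4 zd49) (kd xd12 yd12 zd40) (kd xd21 yd46 zd26) (kd xd21 yd19 zd1) (kd xd21 yd46 zd36) (kd xd21 yd46 zd37) (kd xd6 yd37 zd11) (kd xd7 yd45 zd30) (kd xd17 yd21 zd35) (kd xd21 yd45 zd12) (kd xd21 yd46 zd42) (kd xd6 yd37 zd14) (kd xd12 yd36 zd49) (kd xd6 yd37 zd15) (kd xd6 yd37 zd17) (kd xd12 yd40 zd28) (kd xd6 yd37 zd18) (kd xd21 yd46 zd53) (kd xd6 yd37 zd19) (kd xd21 yd19 zd0) (kd xd12 yd40 zd23) (kd xd21 yd46 zd57) (kd xd6 yd37 zd20) (kd xd21 yd46 zd59) (kd xd12 yd25 zd60) (kd xd16 yd3 zd10) (kd xd21 yd42 zd58) (kd xd12 yd0 zd59) (kd xd6 yd37 zd22) (kd xd6 yd38 zd51) (kd xd20 yd16 zd49) (kd xd6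 yd37 zd24) (kd xd21 yd26 zd23) (kd xd12 yd31 zd25) (kd xd11 yd17 zd14) (kd xd21 yd47 zd7) (kd xd18 yd0 zd0) (kd xd9 yd47 zd54) (kd xd21 yd47 zd9) (kd xd6 yd37 zd29) (kd xd21 yd47 zd13) (kd xd6 yd37 zd30) (kd xd6 yd37 zd31) (kd xd6 yd37 zd33) (kd xd12 yd27 zd43) (kd xd12 yd38 zd48) (kd xd6 yd37 zd36) (kd xd18 yd17 zd46) (kd xd6 yd37 zd37) (kd xd21 yd47 zd17) (kd xd21 yd47 zd18) (kd xd20 yd49 zd11) (kd xd21 yd47 zd20) (kd xd6 yd37 zd39)) (@D3.rec (fun _ => Pt) (kd xd21 yd47 zd23) (kd xd21 yd47 zd24) (kd xd20 yd47 zd13) (kd xd17 yd23 zd23) (kd xd6 yd37 zd42) (kd xd21 yd47 zd27) (kd xd21 yd47 zd28) (kd xd11 yd40 zd18) (kd xd6 yd37 zd43) (kd xd18 yd0 zd33) (kd xd6 yd37 zd44) (kd xd9 yd56 zd3) (kd xd21 yd47 zd35) (kd xd21 yd47 zd36) (kd xd21 yd47 zd40) (kd xd6 yd37 zd46)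 (kd xd15 yd48 zd31) (kd xd6 yd37 zd47) (kd xd12 yd35 zd34) (kd xd21 yd47 zd49) (kd xd6 yd37 zd48) (kd xd21 yd47 zd54) (kd xd21 yd20 zd44) (kd xd14 yd14 zd7) (kd xd21 yd48 zd2) (kd xd6 yd37 zd50) (kd xd21 yd48 zd5) (kd xd6 yd37 zd51) (kd xd14 yd11 zd55) (kd xd12 yd29 zd0) (kd xd21 yd48 zd16) (kd xd12 yd16 zd10) (kd xd21 yd48 zd21) (kd xd21 yd8 zd8) (kd xd21 yd48 zd24) (kd xd21 yd48 zd26) (kd xd6 yd37 zd55) (kd xd21 yd48 zd30) (kd xd11 yd31 zd57) (kd xd21 yd48 zd33) (kd xd12 yd35 zd39) (kd xd21 yd48 zd37) (kd xd21 yd48 zd38) (kd xd21 yd48 zd42) (kd xd6 yd37 zd57) (kd xd21 yd43 zd31) (kd xd21 yd42 zd59) (kd xd17 yd16 zd39) (kd xd17 yd16 zd40) (kd xd21 yd48 zd44) (kd xd21 yd7 zd24) (kd xd21 yd48 zd53) (kd xd21 yd48 zd54) (kd xd21 yd48 zd55) (kd xd6 yd38 zd0) (kd xd10 yd2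 zd27) (kd xd21 yd48 zd59) (kd xd6 yd38 zd4) (kd xd6 yd38 zd5) (kd xd6 yd38 zd47) (kd xd21 yd49 zd4) (kd xd6 yd38 zd7)) (@D3.rec (fun _ => Pt) (kd xd21 yd49 zd9) (kd xd6 yd38 zd8) (kd xd21 yd49 zd14) (kd xd6 yd38 zd9) (kd xd21 yd49 zd17) (kd xd21 yd49 zd18) (kd xd6 yd38 zd10) (kd xd12 yd16 zd13) (kd xd12 yd16 zd38) (kd xd21 yd43 zd22) (kd xd12 yd1 zd7) (kd xd6 yd38 zd12) (kd xd9 yd42 zd36) (kd xd21 yd49 zd33) (kd xd21 yd43 zd44) (kd xd20 yd53 zd1) (kd xd6 yd38 zd16) (kd xd21 yd49 zd34) (kd xd6 yd38 zd17) (kd xd21 yd49 zd36) (kd xd6 yd38 zd20) (kd xd11 yd59 zd61) (kd xd14 yd12 zd10) (kd xd12 yd4 zd44) (kd xd6 yd38 zd22) (kd xd6 yd38 zd23) (kd xd21 yd49 zd41) (kd xd12 yd45 zd7) (kd xd6 yd38 zd24) (kd xd21 yd25 zd59) (kd xd21 yd49 zd43) (kd xd21 yd49 zd46) (kd xd6 yd38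 zd25) (kd xd13 yd0 zd44) (kd xd21 yd49 zd49) (kd xd19 yd22 zd18) (kd xd6 yd38 zd26) (kd xd12 yd12 zd29) (kd xd21 yd18 zd54) (kd xd20 yd40 zd60) (kd xd21 yd49 zd57) (kd xd6 yd38 zd28) (kd xd20 yd16 zd3) (kd xd6 yd38 zd29) (kd xd12 yd45 zd16) (kd xd8 yd37 zd6) (kd xd6 yd38 zd30) (kd xd12 yd14 zd46) (kd xd21 yd0 zd61) (kd xd6 yd38 zd32) (kd xd21 yd18 zd53) (kd xd16 yd1 zd3) (kd xd21 yd50 zd7) (kd xd6 yd38 zd35) (kd xd21 yd50 zd12) (kd xd21 yd21 zd40) (kd xd11 yd40 zd23) (kd xd21 yd50 zd14) (kd xd11 yd31 zd35) (kd xd6 yd38 zd38) (kd xd18 yd38 zd22) (kd xd21 yd50 zd15)) (@D3.rec (fun _ => Pt) (kd xd6 yd38 zd39) (kd xd21 yd50 zd16) (kd xd6 yd38 zd40) (kd xd18 yd17 zd28) (kd xd6 yd38 zd42) (kd xd6 yd38 zd43) (kd xd10 yd37 zd44) (kd xd6 yd38 zd44) (kd xd12 yd45 zd34) (kd xd12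 yd14 zd44) (kd xd12 yd15 zd51) (kd xd21 yd50 zd24) (kd xd6 yd38 zd46) (kd xd20 yd51 zd16) (kd xd12 yd35 zd58) (kd xd12 yd35 zd60) (kd xd21 yd50 zd30) (kd xd21 yd50 zd32) (kd xd21 yd50 zd36) (kd xd6 yd38 zd49) (kd xd21 yd50 zd39) (kd xd12 yd4 zd40) (kd xd11 yd40 zd22) (kd xd20 yd16 zd44) (kd xd21 yd23 zd16) (kd xd11 yd19 zd16) (kd xd21 yd25 zd50) (kd xd21 yd34 zd10) (kd xd6 yd38 zd54) (kd xd21 yd50 zd43) (kd xd12 yd17 zd43) (kd xd18 yd23 zd60) (kd xd8 yd35 zd58) (kd xd6 yd38 zd58) (kd xd21 yd25 zd53) (kd xd21 yd7 zd36) (kd xd20 yd51 zd22) (kd xd19 yd7 zd44) (kd xd6 yd38 zd61) (kd xd21 yd50 zd48) (kd xd21 yd50 zd49) (kd xd6 yd39 zd1) (kd xd21 yd50 zd53) (kd xd17 yd50 zd30) (kd xd6 yd39 zd2) (kd xd21 yd50 zd56) (kd xd6 yd39 zd3) (kd xd18 yd33 zd2) (kd xd21 yd50 zd57) (kd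 xd21 yd50 zd61) (kd xd6 yd39 zd5) (kd xd21 yd51 zd2) (kd xd21 yd51 zd3) (kd xd6 yd39 zd6) (kd xd21 yd51 zd6) (kd xd21 yd51 zd7) (kd xd6 yd39 zd7) (kd xd12 yd2 zd27) (kd xd11 yd16 zd57) (kd xd10 yd43 zd20) (kd xd6 yd39 zd8) (kd xd21 yd51 zd12)) (@D3.rec (fun _ => Pt) (kd xd18 yd50 zd38) (kd xd17 yd9 zd57) (kd xd21 yd1 zd24) (kd xd6 yd39 zd10) (kd xd21 yd51 zd18) (kd xd21 yd51 zd20) (kd xd9 yd9 zd32) (kd xd9 yd9 zd35) (kd xd6 yd39 zd13) (kd xd21 yd51 zd22) (kd xd21 yd51 zd24) (kd xd6 yd39 zd15) (kd xd14 yd7 zd61) (kd xd21 yd51 zd26) (kd xd12 yd31 zd6) (kd xd6 yd39 zd17) (kd xd21 yd51 zd30) (kd xd9 yd51 zd3) (kd xd6 yd39 zd18) (kd xd21 yd51 zd34) (kd xd11 yd11 zd38) (kd xd6 yd39 zd19) (kd xd15 yd41 zd19) (kd xd18 yd25 zd9) (kd xd18 yd25 zd6) (kd xd13 yd22 zd43) (kd xd6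 yd39 zd21) (kd xd20 yd14 zd38) (kd xd6 yd39 zd22) (kd xd11 yd54 zd0) (kd xd20 yd0 zd19) (kd xd11 yd56 zd36) (kd xd11 yd56 zd35) (kd xd15 yd56 zd20) (kd xd18 yd16 zd9) (kd xd20 yd16 zd12) (kd xd19 yd32 zd17) (kd xd9 yd59 zd44) (kd xd6 yd39 zd26) (kd xd21 yd51 zd54) (kd xd6 yd39 zd27) (kd xd10 yd57 zd16) (kd xd15 yd56 zd19) (kd xd21 yd51 zd61) (kd xd21 yd7 zd32) (kd xd6 yd39 zd29) (kd xd21 yd52 zd1) (kd xd20 yd22 zd1) (kd xd18 yd46 zd1) (kd xd6 yd39 zd30) (kd xd21 yd52 zd6) (kd xd17 yd0 zd4) (kd xd18 yd46 zd0) (kd xd6 yd39 zd31) (kd xd21 yd52 zd8) (kd xd20 yd58 zd17) (kd xd20 yd58 zd7) (kd xd21 yd0 zd45) (kd xd6 yd39 zd32) (kd xd21 yd1 zd27) (kd xd17 yd6 zd14) (kd xd14 yd26 zd48)) (@D3.rec (fun _ => Pt) (kd xd12 yd59 zd25) (kd xd21 yd5 zd41) (kd xd6 yd39 zd35) (kd xd20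 yd37 zd29) (kd xd6 yd39 zd36) (kd xd6 yd39 zd37) (kd xd21 yd35 zd29) (kd xd12 yd42 zd27) (kd xd10 yd6 zd22) (kd xd18 yd7 zd31) (kd xd6 yd39 zd39) (kd xd6 yd39 zd40) (kd xd21 yd43 zd45) (kd xd21 yd52 zd21) (kd xd6 yd39 zd41) (kd xd21 yd7 zd52) (kd xd12 yd42 zd44) (kd xd6 yd39 zd43) (kd xd6 yd59 zd42) (kd xd21 yd52 zd23) (kd xd21 yd52 zd24) (kd xd21 yd52 zd27) (kd xd6 yd39 zd46) (kd xd21 yd52 zd30) (kd xd6 yd39 zd47) (kd xd21 yd52 zd35) (kd xd6 yd39 zd48) (kd xd14 yd31 zd31) (kd xd21 yd52 zd40) (kd xd13 yd20 zd61) (kd xd21 yd52 zd47) (kd xd6 yd39 zd50) (kd xd21 yd52 zd50) (kd xd6 yd39 zd51) (kd xd12 yd43 zd8) (kd xd21 yd7 zd50) (kd xd6 yd39 zd53) (kd xd21 yd52 zd57) (kd xd12 yd25 zd13) (kd xd6 yd39 zd55) (kd xd21 yd49 zd60) (kd xd21 yd52 zd61) (kd xd6 yd39 zd56) (kd xd20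 yd5 zd44) (kd xd13 yd41 zd14) (kd xd13 yd31 zd4) (kd xd16 yd33 zd16) (kd xd13 yd30 zd43) (kd xd20 yd8 zd3) (kd xd6 yd39 zd58) (kd xd21 yd53 zd5) (kd xd21 yd53 zd7) (kd xd6 yd39 zd60) (kd xd19 yd40 zd32) (kd xd21 yd53 zd9) (kd xd6 yd39 zd61) (kd xd18 yd35 zd53) (kd xd6 yd40 zd0) (kd xd21 yd35 zd8) (kd xd14 yd29 zd42) (kd xd21 yd53 zd21) (kd xd6 yd40 zd2)) (@D3.rec (fun _ => Pt) (kd xd19 yd7 zd59) (kd xd6 yd40 zd3) (kd xd21 yd53 zd23) (kd xd6 yd40 zd4) (kd xd16 yd28 zd27) (kd xd21 yd53 zd28) (kd xd8 yd11 zd42) (kd xd10 yd12 zd59) (kd xd12 yd33 zd53) (kd xd10 yd16 zd53) (kd xd12 yd33 zd54) (kd xd10 yd16 zd56) (kd xd6 yd40 zd9) (kd xd12 yd53 zd0) (kd xd10 yd16 zd38) (kd xd10 yd16 zd39) (kd xd7 yd8 zd13) (kd xd7 yd48 zd1) (kd xd6 yd40 zd13) (kd xd6 yd40 zd14) (kd xd6 yd47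 zd44) (kd xd16 yd35 zd35) (kd xd21 yd53 zd37) (kd xd17 yd35 zd21) (kd xd17 yd35 zd22) (kd xd6 yd40 zd19) (kd xd21 yd27 zd42) (kd xd21 yd42 zd2) (kd xd21 yd35 zd52) (kd xd15 yd32 zd0) (kd xd21 yd53 zd42) (kd xd9 yd58 zd60) (kd xd9 yd58 zd61) (kd xd21 yd53 zd46) (kd xd8 yd39 zd45) (kd xd21 yd53 zd47) (kd xd6 yd40 zd25) (kd xd21 yd53 zd51) (kd xd10 yd0 zd35) (kd xd16 yd35 zd32) (kd xd6 yd40 zd28) (kd xd18 yd41 zd11) (kd xd21 yd53 zd55) (kd xd19 yd17 zd45) (kd xd6 yd40 zd31) (kd xd21 yd53 zd59) (kd xd21 yd54 zd0) (kd xd21 yd54 zd3) (kd xd6 yd40 zd34) (kd xd6 yd40 zd36) (kd xd12 yd1 zd51) (kd xd12 yd2 zd37) (kd xd21 yd54 zd13) (kd xd21 yd21 zd59) (kd xd21 yd54 zd18) (kd xd13 yd0 zd29) (kd xd21 yd8 zd2) (kd xd14 yd25 zd49) (kd xd15 yd24 zd12) (kd xd21 yd54 zd26) (kd xd6 yd40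 zd42) (kd xd20 yd12 zd39)) (@D3.rec (fun _ => Pt) (kd xd20 yd13 zd1) (kd xd11 yd20 zd1) (kd xd6 yd40 zd45) (kd xd10 yd13 zd18) (kd xd12 yd25 zd29) (kd xd18 yd39 zd16) (kd xd6 yd40 zd47) (kd xd6 yd40 zd48) (kd xd21 yd35 zd49) (kd xd14 yd8 zd5) (kd xd10 yd22 zd37) (kd xd9 yd15 zd7) (kd xd10 yd1 zd54) (kd xd21 yd33 zd17) (kd xd16 yd35 zd54) (kd xd7 yd7 zd46) (kd xd6 yd58 zd35) (kd xd10 yd16 zd55) (kd xd10 yd16 zd52) (kd xd17 yd13 zd26) (kd xd21 yd54 zd42) (kd xd21 yd25 zd52) (kd xd18 yd11 zd13) (kd xd21 yd1 zd33) (kd xd21 yd54 zd44) (kd xd6 yd41 zd2) (kd xd6 yd41 zd3) (kd xd21 yd54 zd49) (kd xd21 yd35 zd45) (kd xd12 yd36 zd18) (kd xd18 yd7 zd11) (kd xd21 yd54 zd56) (kd xd21 yd7 zd7) (kd xd17 yd14 zd37) (kd xd6 yd41 zd5) (kd xd21 yd36 zd16) (kd xd14 yd53 zd42) (kd xd14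 yd45 zd24) (kd xd6 yd41 zd7) (kd xd12 yd58 zd34) (kd xd21 yd36 zd20) (kd xd18 yd10 zd46) (kd xd10 yd11 zd18) (kd xd12 yd38 zd30) (kd xd21 yd55 zd6) (kd xd6 yd41 zd13) (kd xd6 yd41 zd14) (kd xd12 yd2 zd56) (kd xd21 yd54 zd27) (kd xd21 yd45 zd9) (kd xd7 yd40 zd55) (kd xd7 yd25 zd51) (kd xd6 yd41 zd17) (kd xd6 yd41 zd18) (kd xd12 yd12 zd52) (kd xd6 yd41 zd20) (kd xd21 yd55 zd16) (kd xd14 yd2 zd25) (kd xd7 yd51 zd39) (kd xd6 yd41 zd25) (kd xd21 yd55 zd19) (kd xd7 yd51 zd47)) (@D3.rec (fun _ => Pt) (kd xd6 yd41 zd26) (kd xd7 yd26 zd7) (kd xd14 yd4 zd6) (kd xd6 yd41 zd27) (kd xd17 yd16 zd1) (kd xd12 yd13 zd19) (kd xd14 yd21 zd25) (kd xd6 yd41 zd50) (kd xd13 yd56 zd44) (kd xd14 yd15 zd51) (kd xd21 yd55 zd36) (kd xd21 yd55 zd39) (kd xd6 yd41 zd32) (kd xd21 yd55 zd43) (kd xd21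 yd55 zd47) (kd xd21 yd55 zd48) (kd xd6 yd41 zd33) (kd xd21 yd43 zd32) (kd xd16 yd3 zd13) (kd xd14 yd39 zd15) (kd xd21 yd55 zd57) (kd xd21 yd55 zd61) (kd xd21 yd56 zd0) (kd xd6 yd41 zd37) (kd xd10 yd38 zd25) (kd xd21 yd56 zd9) (kd xd6 yd41 zd39) (kd xd21 yd56 zd12) (kd xd13 yd59 zd41) (kd xd11 yd3 zd58) (kd xd21 yd56 zd16) (kd xd6 yd41 zd40) (kd xd21 yd56 zd21) (kd xd6 yd41 zd42) (kd xd21 yd56 zd24) (kd xd21 yd56 zd25) (kd xd21 yd25 zd42) (kd xd6 yd41 zd43) (kd xd21 yd56 zd29) (kd xd21 yd56 zd31) (kd xd6 yd41 zd44) (kd xd21 yd56 zd36) (kd xd6 yd41 zd45) (kd xd13 yd37 zd40) (kd xd13 yd37 zd41) (kd xd21 yd56 zd46) (kd xd7 yd21 zd29) (kd xd7 yd48 zd47) (kd xd21 yd56 zd54) (kd xd7 yd48 zd50) (kd xd21 yd56 zd59) (kd xd6 yd58 zd50) (kd xd13 yd41 zd22) (kd xd21 yd57 zd4) (kd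 xd21 yd57 zd7) (kd xd13 yd44 zd49) (kd xd14 yd7 zd59) (kd xd10 yd55 zd19) (kd xd19 yd20 zd57) (kd xd19 yd26 zd17) (kd xd6 yd41 zd53) (kd xd21 yd11 zd15)) (@D3.rec (fun _ => Pt) (kd xd6 yd41 zd55) (kd xd21 yd57 zd12) (kd xd16 yd47 zd12) (kd xd21 yd57 zd13) (kd xd8 yd41 zd49) (kd xd21 yd57 zd14) (kd xd21 yd57 zd18) (kd xd6 yd42 zd1) (kd xd10 yd6 zd37) (kd xd6 yd42 zd2) (kd xd21 yd57 zd23) (kd xd17 yd10 zd61) (kd xd6 yd42 zd3) (kd xd21 yd57 zd26) (kd xd21 yd57 zd29) (kd xd19 yd58 zd36) (kd xd21 yd57 zd34) (kd xd6 yd42 zd5) (kd xd21 yd57 zd37) (kd xd12 yd29 zd18) (kd xd21 yd57 zd43) (kd xd6 yd42 zd7) (kd xd21 yd57 zd44) (kd xd8 yd0 zd26) (kd xd6 yd42 zd8) (kd xd19 yd33 zd47) (kd xd8 yd0 zd27) (kd xd6 yd42 zd9) (kd xd7 yd27 zd20) (kd xd17 yd29 zd48) (kd xd17 yd58 zd20) (kd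 xd6 yd42 zd13) (kd xd21 yd57 zd48) (kd xd21 yd57 zd49) (kd xd6 yd42 zd14) (kd xd16 yd59 zd10) (kd xd21 yd57 zd51) (kd xd6 yd42 zd15) (kd xd19 yd25 zd3) (kd xd9 yd46 zd18) (kd xd21 yd57 zd57) (kd xd6 yd42 zd17) (kd xd21 yd57 zd59) (kd xd16 yd46 zd57) (kd xd6 yd42 zd18) (kd xd21 yd37 zd24) (kd xd6 yd42 zd19) (kd xd12 yd11 zd31) (kd xd12 yd29 zd10) (kd xd21 yd58 zd4) (kd xd11 yd2 zd22) (kd xd11 yd56 zd7) (kd xd21 yd58 zd5) (kd xd20 yd22 zd59) (kd xd21 yd16 zd61) (kd xd21 yd58 zd8) (kd xd21 yd58 zd12) (kd xd6 yd42 zd25) (kd xd21 yd57 zd20) (kd xd16 yd49 zd46) (kd xd20 yd42 zd17) (kd xd19 yd49 zd19)) (@D3.rec (fun _ => Pt) (kd xd19 yd49 zd24) (kd xd21 yd58 zd17) (kd xd21 yd58 zd19) (kd xd6 yd42 zd32) (kd xd21 yd58 zd22) (kd xd21 yd33 zd58) (kd xd12 yd18 zd28) (kd xd9 yd31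 zd5) (kd xd6 yd42 zd36) (kd xd21 yd58 zd13) (kd xd15 yd49 zd0) (kd xd6 yd42 zd38) (kd xd21 yd58 zd20) (kd xd6 yd42 zd39) (kd xd21 yd58 zd27) (kd xd9 yd16 zd56) (kd xd8 yd41 zd52) (kd xd6 yd42 zd42) (kd xd21 yd58 zd32) (kd xd6 yd42 zd44) (kd xd21 yd58 zd34) (kd xd21 yd58 zd37) (kd xd21 yd58 zd40) (kd xd21 yd58 zd41) (kd xd6 yd42 zd45) (kd xd21 yd58 zd44) (kd xd21 yd58 zd1) (kd xd12 yd17 zd42) (kd xd20 yd44 zd4) (kd xd11 yd59 zd58) (kd xd6 yd42 zd47) (kd xd9 yd35 zd3) (kd xd21 yd58 zd52) (kd xd6 yd42 zd49) (kd xd16 yd3 zd45) (kd xd16 yd3 zd46) (kd xd16 yd0 zd1) (kd xd21 yd58 zd58) (kd xd14 yd36 zd13) (kd xd21 yd59 zd1) (kd xd21 yd59 zd3) (kd xd21 yd24 zd13) (kd xd15 yd25 zd56) (kd xd10 yd42 zd41) (kd xd19 yd10 zd43) (kd xd18 yd11 zd3) (kd xd6 yd42 zd57) (kd xd21 yd59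 zd9) (kd xd21 yd59 zd11) (kd xd21 yd59 zd13) (kd xd6 yd42 zd58) (kd xd21 yd59 zd16) (kd xd6 yd42 zd60) (kd xd21 yd59 zd17) (kd xd21 yd59 zd21) (kd xd21 yd59 zd23) (kd xd8 yd42 zd5) (kd xd6 yd43 zd0) (kd xd21 yd59 zd31) (kd xd21 yd59 zd30) (kd xd21 yd59 zd35) (kd xd21 yd59 zd38)) (@D3.rec (fun _ => Pt) (kd xd6 yd43 zd1) (kd xd18 yd36 zd25) (kd xd6 yd43 zd2) (kd xd12 yd32 zd49) (kd xd21 yd58 zd59) (kd xd11 yd41 zd12) (kd xd6 yd48 zd25) (kd xd6 yd43 zd4) (kd xd20 yd15 zd53) (kd xd9 yd18 zd33) (kd xd16 yd57 zd54) (kd xd8 yd22 zd60) (kd xd6 yd44 zd12) (kd xd20 yd15 zd54) (kd xd7 yd0 zd16) (kd xd21 yd59 zd55) (kd xd21 yd59 zd56) (kd xd21 yd59 zd58) (kd xd6 yd43 zd13) (kd xd22 yd0 zd0) (kd xd6 yd43 zd14) (kd xd6 yd43 zd15) (kd xd21 yd35 zd28) (kd xd9 yd21 zd25) (kd xd22 yd0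 zd12) (kd xd22 yd0 zd14) (kd xd6 yd43 zd17) (kd xd16 yd43 zd1) (kd xd22 yd0 zd17) (kd xd22 yd0 zd21) (kd xd6 yd43 zd18) (kd xd11 yd28 zd9) (kd xd22 yd0 zd25) (kd xd7 yd21 zd1) (kd xd12 yd9 zd61) (kd xd22 yd0 zd27) (kd xd22 yd0 zd30) (kd xd6 yd43 zd21) (kd xd8 yd30 zd33) (kd xd22 yd0 zd38) (kd xd22 yd0 zd40) (kd xd6 yd43 zd25) (kd xd14 yd13 zd22) (kd xd6 yd43 zd26) (kd xd21 yd40 zd28) (kd xd7 yd3 zd23) (kd xd22 yd0 zd53) (kd xd6 yd43 zd28) (kd xd6 yd43 zd29) (kd xd14 yd23 zd14) (kd xd17 yd10 zd45) (kd xd20 yd56 zd54) (kd xd17 yd10 zd47) (kd xd22 yd1 zd6) (kd xd17 yd26 zd44) (kd xd22 yd1 zd12) (kd xd22 yd1 zd16) (kd xd6 yd43 zd33) (kd xd17 yd21 zd61) (kd xd14 yd13 zd3) (kd xd22 yd1 zd21) (kd xd21 yd35 zd27)) (@D3.rec (fun _ => Pt) (kd xd22 yd1 zd27) (kd xd22 yd1 zd30)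 (kd xd22 yd1 zd35) (kd xd6 yd43 zd35) (kd xd22 yd0 zd23) (kd xd17 yd28 zd55) (kd xd6 yd43 zd37) (kd xd17 yd27 zd38) (kd xd17 yd20 zd30) (kd xd22 yd1 zd51) (kd xd6 yd43 zd39) (kd xd22 yd1 zd54) (kd xd17 yd27 zd36) (kd xd17 yd27 zd37) (kd xd22 yd1 zd58) (kd xd6 yd43 zd41) (kd xd22 yd2 zd0) (kd xd17 yd26 zd25) (kd xd22 yd2 zd4) (kd xd6 yd43 zd44) (kd xd17 yd26 zd24) (kd xd19 yd36 zd60) (kd xd21 yd35 zd25) (kd xd6 yd43 zd46) (kd xd15 yd40 zd17) (kd xd6 yd43 zd47) (kd xd8 yd31 zd26) (kd xd19 yd37 zd15) (kd xd22 yd2 zd15) (kd xd22 yd2 zd16) (kd xd6 yd43 zd48) (kd xd22 yd2 zd21) (kd xd17 yd10 zd14) (kd xd17 yd27 zd22) (kd xd17 yd27 zd16) (kd xd12 yd0 zd30) (kd xd6 yd43 zd50) (kd xd20 yd9 zd53) (kd xd20 yd9 zd51) (kd xd22 yd2 zd33) (kd xd11 yd37 zd15) (kd xd21 yd33 zd37) (kd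 xd22 yd2 zd38) (kd xd6 yd43 zd56) (kd xd22 yd2 zd40) (kd xd22 yd2 zd43) (kd xd12 yd53 zd49) (kd xd10 yd50 zd48) (kd xd6 yd43 zd58) (kd xd22 yd2 zd49) (kd xd14 yd56 zd37) (kd xd6 yd43 zd59) (kd xd20 yd12 zd33) (kd xd22 yd2 zd53) (kd xd22 yd2 zd57) (kd xd6 yd44 zd0) (kd xd18 yd38 zd17) (kd xd18 yd38 zd18) (kd xd21 yd54 zd1) (kd xd16 yd33 zd39) (kd xd16 yd42 zd49) (kd xd6 yd44 zd3)) (@D3.rec (fun _ => Pt) (kd xd12 yd46 zd13) (kd xd15 yd6 zd22) (kd xd22 yd3 zd3) (kd xd6 yd44 zd4) (kd xd6 yd44 zd5) (kd xd22 yd2 zd28) (kd xd22 yd2 zd29) (kd xd22 yd3 zd10) (kd xd9 yd33 zd6) (kd xd6 yd44 zd7) (kd xd21 yd59 zd49) (kd xd9 yd20 zd16) (kd xd20 yd6 zd50) (kd xd22 yd3 zd12) (kd xd6 yd44 zd16) (kd xd17 yd1 zd35) (kd xd11 yd35 zd2) (kd xd21 yd47 zd57) (kd xd6 yd44 zd20) (kd xd20 yd36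 zd46) (kd xd6 yd44 zd22) (kd xd10 yd12 zd39) (kd xd9 yd36 zd40) (kd xd9 yd37 zd0) (kd xd17 yd14 zd29) (kd xd12 yd20 zd15) (kd xd20 yd27 zd31) (kd xd12 yd20 zd21) (kd xd20 yd27 zd28) (kd xd20 yd46 zd29) (kd xd18 yd10 zd57) (kd xd17 yd45 zd8) (kd xd11 yd39 zd60) (kd xd17 yd2 zd15) (kd xd11 yd40 zd33) (kd xd21 yd20 zd58) (kd xd6 yd44 zd33) (kd xd22 yd3 zd19) (kd xd6 yd44 zd35) (kd xd21 yd20 zd56) (kd xd22 yd3 zd22) (kd xd6 yd44 zd36) (kd xd7 yd22 zd50) (kd xd19 yd10 zd37) (kd xd6 yd44 zd37) (kd xd22 yd3 zd27) (kd xd22 yd3 zd30) (kd xd22 yd3 zd33) (kd xd6 yd44 zd39) (kd xd12 yd52 zd46) (kd xd21 yd9 zd1) (kd xd17 yd16 zd12) (kd xd6 yd44 zd42) (kd xd17 yd30 zd59) (kd xd22 yd3 zd38) (kd xd17 yd16 zd7) (kd xd6 yd44 zd43) (kd xd21 yd32 zd14) (kd xd6 yd44 zd45) (kd xd16 yd47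 zd60) (kd xd6 yd44 zd48) (kd xd11 yd49 zd55)) (@D3.rec (fun _ => Pt) (kd xd11 yd53 zd43) (kd xd21 yd39 zd54) (kd xd22 yd3 zd47) (kd xd11 yd0 zd22) (kd xd12 yd38 zd49) (kd xd6 yd44 zd54) (kd xd11 yd56 zd38) (kd xd11 yd56 zd37) (kd xd21 yd52 zd11) (kd xd22 yd3 zd52) (kd xd6 yd50 zd5) (kd xd22 yd3 zd55) (kd xd11 yd54 zd8) (kd xd11 yd54 zd7) (kd xd22 yd3 zd60) (kd xd6 yd44 zd58) (kd xd22 yd4 zd3) (kd xd9 yd4 zd32) (kd xd9 yd4 zd31) (kd xd6 yd44 zd59) (kd xd22 yd4 zd6) (kd xd18 yd45 zd36) (kd xd6 yd45 zd1) (kd xd8 yd25 zd12) (kd xd21 yd52 zd12) (kd xd8 yd25 zd10) (kd xd12 yd58 zd38) (kd xd6 yd45 zd3) (kd xd12 yd24 zd22) (kd xd6 yd45 zd4) (kd xd12 yd26 zd24) (kd xd19 yd24 zd20) (kd xd6 yd45 zd8) (kd xd18 yd17 zd5) (kd xd6 yd45 zd9) (kd xd22 yd4 zd16) (kd xd18 yd18 zd18) (kd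 xd20 yd55 zd59) (kd xd16 yd11 zd9) (kd xd6 yd45 zd10) (kd xd21 yd0 zd5) (kd xd21 yd51 zd56) (kd xd21 yd51 zd17) (kd xd17 yd7 zd16) (kd xd6 yd45 zd12) (kd xd17 yd14 zd56) (kd xd22 yd4 zd28) (kd xd10 yd58 zd24) (kd xd11 yd14 zd24) (kd xd20 yd58 zd1) (kd xd6 yd45 zd16) (kd xd21 yd9 zd23) (kd xd22 yd4 zd33) (kd xd22 yd4 zd34) (kd xd22 yd4 zd36) (kd xd6 yd45 zd19) (kd xd15 yd44 zd38) (kd xd9 yd3 zd46) (kd xd9 yd3 zd45) (kd xd6 yd45 zd20) (kd xd10 yd58 zd25) (kd xd22 yd4 zd46)) (@D3.rec (fun _ => Pt) (kd xd11 yd18 zd59) (kd xd20 yd59 zd43) (kd xd22 yd4 zd49) (kd xd6 yd49 zd34) (kd xd22 yd4 zd52) (kd xd6 yd45 zd26) (kd xd18 yd58 zd2) (kd xd22 yd4 zd56) (kd xd6 yd45 zd28) (kd xd12 yd38 zd19) (kd xd18 yd17 zd30) (kd xd22 yd4 zd61) (kd xd22 yd5 zd2) (kd xd19 yd59 zd55) (kd xd11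 yd19 zd33) (kd xd11 yd18 zd28) (kd xd8 yd35 zd21) (kd xd6 yd45 zd37) (kd xd9 yd31 zd24) (kd xd6 yd45 zd39) (kd xd22 yd5 zd12) (kd xd16 yd52 zd48) (kd xd19 yd47 zd20) (kd xd11 yd32 zd54) (kd xd19 yd27 zd37) (kd xd10 yd55 zd12) (kd xd6 yd45 zd46) (kd xd17 yd7 zd55) (kd xd22 yd5 zd16) (kd xd11 yd35 zd4) (kd xd15 yd44 zd24) (kd xd17 yd1 zd33) (kd xd21 yd11 zd20) (kd xd11 yd31 zd31) (kd xd9 yd49 zd15) (kd xd22 yd5 zd20) (kd xd21 yd9 zd37) (kd xd22 yd4 zd37) (kd xd22 yd4 zd38) (kd xd18 yd40 zd9) (kd xd6 yd45 zd54) (kd xd11 yd30 zd54) (kd xd11 yd10 zd52) (kd xd11 yd16 zd24) (kd xd11 yd17 zd44) (kd xd21 yd9 zd34) (kd xd18 yd14 zd17) (kd xd19 yd44 zd0) (kd xd20 yd32 zd56) (kd xd22 yd5 zd36) (kd xd6 yd46 zd1) (kd xd22 yd5 zd38) (kd xd11 yd25 zd4) (kd xd11 yd25 zd0) (kd xd11 yd28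 zd49) (kd xd21 yd9 zd36) (kd xd17 yd59 zd42) (kd xd9 yd36 zd55) (kd xd15 yd26 zd12) (kd xd21 yd9 zd39) (kd xd19 yd48 zd43) (kd xd16 yd36 zd7)) (@D3.rec (fun _ => Pt) (kd xd20 yd58 zd34) (kd xd17 yd12 zd36) (kd xd22 yd5 zd48) (kd xd22 yd5 zd52) (kd xd6 yd46 zd8) (kd xd22 yd5 zd59) (kd xd22 yd5 zd58) (kd xd22 yd6 zd0) (kd xd6 yd46 zd9) (kd xd17 yd14 zd0) (kd xd6 yd46 zd10) (kd xd8 yd40 zd11) (kd xd22 yd4 zd55) (kd xd22 yd6 zd5) (kd xd11 yd22 zd58) (kd xd20 yd21 zd59) (kd xd21 yd24 zd17) (kd xd11 yd4 zd40) (kd xd9 yd47 zd31) (kd xd17 yd57 zd44) (kd xd11 yd58 zd4) (kd xd11 yd40 zd48) (kd xd11 yd35 zd28) (kd xd6 yd46 zd26) (kd xd12 yd30 zd55) (kd xd6 yd50 zd41) (kd xd20 yd27 zd59) (kd xd15 yd4 zd30) (kd xd11 yd24 zd36) (kd xd11 yd12 zd23) (kd xd11 yd31 zd0) (kd xd10 yd34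 zd43) (kd xd6 yd50 zd25) (kd xd21 yd9 zd30) (kd xd18 yd38 zd27) (kd xd10 yd6 zd52) (kd xd18 yd43 zd46) (kd xd22 yd6 zd19) (kd xd20 yd36 zd12) (kd xd8 yd23 zd3) (kd xd20 yd18 zd38) (kd xd20 yd15 zd9) (kd xd9 yd29 zd53) (kd xd9 yd44 zd12) (kd xd9 yd44 zd1) (kd xd6 yd48 zd41) (kd xd20 yd0 zd16) (kd xd21 yd9 zd49) (kd xd9 yd32 zd21) (kd xd17 yd12 zd11) (kd xd6 yd46 zd49) (kd xd9 yd13 zd11) (kd xd7 yd27 zd33) (kd xd9 yd44 zd20) (kd xd22 yd6 zd31) (kd xd6 yd46 zd56) (kd xd22 yd6 zd33) (kd xd9 yd27 zd45) (kd xd22 yd6 zd37) (kd xd6 yd46 zd60) (kd xd6 yd46 zd61) (kd xd17 yd17 zd18)) (@D3.rec (fun _ => Pt) (kd xd6 yd47 zd2) (kd xd6 yd47 zd3) (kd xd22 yd6 zd43) (kd xd15 yd26 zd56) (kd xd9 yd22 zd35) (kd xd15 yd31 zd30) (kd xd22 yd6 zd51) (kd xd16 yd58 zd17) (kd xd16 yd58 zd18)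 (kd xd6 yd47 zd5) (kd xd22 yd6 zd58) (kd xd17 yd25 zd58) (kd xd6 yd47 zd6) (kd xd17 yd28 zd47) (kd xd9 yd22 zd4) (kd xd17 yd25 zd57) (kd xd9 yd23 zd37) (kd xd9 yd27 zd22) (kd xd6 yd47 zd8) (kd xd22 yd7 zd6) (kd xd22 yd7 zd9) (kd xd22 yd7 zd11) (kd xd6 yd47 zd9) (kd xd22 yd7 zd15) (kd xd17 yd17 zd32) (kd xd14 yd23 zd40) (kd xd7 yd31 zd17) (kd xd22 yd6 zd39) (kd xd22 yd7 zd22) (kd xd6 yd47 zd13) (kd xd19 yd10 zd28) (kd xd19 yd10 zd27) (kd xd20 yd27 zd21) (kd xd6 yd47 zd14) (kd xd15 yd40 zd30) (kd xd8 yd19 zd50) (kd xd22 yd7 zd29) (kd xd6 yd47 zd16) (kd xd6 yd47 zd18) (kd xd16 yd58 zd3) (kd xd6 yd47 zd19) (kd xd10 yd57 zd25) (kd xd15 yd27 zd9) (kd xd15 yd28 zd19) (kd xd11 yd30 zd27) (kd xd15 yd27 zd26) (kd xd22 yd7 zd37) (kd xd22 yd7 zd38) (kd xd22 yd7 zd41) (kd xd6 yd47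 zd22) (kd xd15 yd29 zd33) (kd xd6 yd47 zd23) (kd xd16 yd58 zd32) (kd xd22 yd7 zd46) (kd xd20 yd26 zd61) (kd xd16 yd58 zd35) (kd xd22 yd7 zd47) (kd xd9 yd6 zd18) (kd xd22 yd7 zd50) (kd xd18 yd0 zd16) (kd xd22 yd7 zd53) (kd xd20 yd12 zd11)) (@D3.rec (fun _ => Pt) (kd xd22 yd7 zd54) (kd xd22 yd7 zd57) (kd xd6 yd47 zd32) (kd xd22 yd7 zd59) (kd xd22 yd7 zd60) (kd xd6 yd47 zd33) (kd xd10 yd16 zd25) (kd xd9 yd32 zd17) (kd xd9 yd51 zd13) (kd xd9 yd32 zd25) (kd xd12 yd34 zd41) (kd xd18 yd50 zd21) (kd xd12 yd4 zd17) (kd xd17 yd19 zd28) (kd xd22 yd8 zd7) (kd xd22 yd8 zd9) (kd xd6 yd47 zd41) (kd xd22 yd8 zd13) (kd xd11 yd42 zd12) (kd xd14 yd11 zd61) (kd xd14 yd12 zd0) (kd xd17 yd25 zd43) (kd xd22 yd8 zd10) (kd xd6 yd47 zd46) (kd xd10 yd30 zd10) (kd xd17 yd27 zd25) (kd xd8 yd55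 zd53) (kd xd10 yd43 zd40) (kd xd22 yd8 zd24) (kd xd6 yd47 zd51) (kd xd18 yd16 zd2) (kd xd18 yd16 zd3) (kd xd7 yd31 zd45) (kd xd6 yd47 zd52) (kd xd12 yd47 zd39) (kd xd9 yd10 zd38) (kd xd6 yd47 zd54) (kd xd9 yd32 zd37) (kd xd12 yd54 zd26) (kd xd9 yd10 zd43) (kd xd6 yd47 zd57) (kd xd21 yd32 zd7) (kd xd12 yd1 zd37) (kd xd14 yd2 zd1) (kd xd9 yd12 zd54) (kd xd22 yd8 zd38) (kd xd6 yd47 zd61) (kd xd21 yd31 zd0) (kd xd22 yd8 zd40) (kd xd6 yd48 zd2) (kd xd10 yd30 zd18) (kd xd22 yd8 zd43) (kd xd6 yd48 zd5) (kd xd13 yd7 zd9) (kd xd19 yd1 zd58) (kd xd18 yd37 zd6) (kd xd6 yd48 zd7) (kd xd22 yd8 zd50) (kd xd15 yd11 zd45) (kd xd18 yd5 zd8) (kd xd6 yd48 zd8) (kd xd17 yd30 zd35)) (@D3.rec (fun _ => Pt) (kd xd8 yd24 zd42) (kd xd22 yd8 zd59) (kd xd12 yd2 zd3) (kd xd12 yd0 zd33) (kd xd22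 yd9 zd2) (kd xd18 yd39 zd21) (kd xd22 yd9 zd7) (kd xd6 yd48 zd13) (kd xd22 yd9 zd10) (kd xd22 yd9 zd13) (kd xd6 yd48 zd15) (kd xd6 yd48 zd16) (kd xd22 yd9 zd15) (kd xd22 yd9 zd17) (kd xd22 yd9 zd18) (kd xd6 yd48 zd17) (kd xd16 yd1 zd48) (kd xd15 yd58 zd0) (kd xd15 yd59 zd60) (kd xd15 yd59 zd59) (kd xd12 yd24 zd45) (kd xd22 yd9 zd30) (kd xd10 yd2 zd31) (kd xd17 yd35 zd11) (kd xd22 yd9 zd34) (kd xd12 yd45 zd0) (kd xd21 yd59 zd42) (kd xd21 yd54 zd24) (kd xd11 yd51 zd12) (kd xd22 yd9 zd38) (kd xd6 yd48 zd27) (kd xd19 yd45 zd39) (kd xd22 yd9 zd20) (kd xd22 yd9 zd21) (kd xd14 yd27 zd58) (kd xd6 yd48 zd29) (kd xd22 yd9 zd47) (kd xd6 yd49 zd8) (kd xd22 yd9 zd48) (kd xd6 yd48 zd31) (kd xd16 yd6 zd40) (kd xd22 yd9 zd51) (kd xd12 yd0 zd0) (kd xd22 yd9 zd52) (kd xd21 yd35 zd41)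 (kd xd20 yd22 zd23) (kd xd6 yd48 zd38) (kd xd21 yd35 zd39) (kd xd6 yd48 zd40) (kd xd8 yd59 zd2) (kd xd22 yd9 zd54) (kd xd22 yd9 zd55) (kd xd6 yd48 zd45) (kd xd18 yd14 zd58) (kd xd18 yd34 zd59) (kd xd18 yd35 zd37) (kd xd17 yd52 zd13) (kd xd22 yd9 zd60) (kd xd22 yd9 zd61) (kd xd6 yd48 zd49) (kd xd22 yd10 zd2) (kd xd8 yd25 zd31))
def f_d_13 : D2 → D3 → Pt := @D2.rec (fun _ => D3 → Pt) (@D3.rec (fun _ => Pt) (kd xd6 yd48 zd51) (kd xd21 yd17 zd56) (kd xd22 yd10 zd4) (kd xd6 yd48 zd52) (kd xd22 yd10 zd9) (kd xd22 yd10 zd12) (kd xd22 yd10 zd13) (kd xd22 yd10 zd16) (kd xd6 yd48 zd53) (kd xd22 yd10 zd24) (kd xd22 yd10 zd28) (kd xd18 yd12 zd32) (kd xd15 yd24 zd28) (kd xd6 yd48 zd55) (kd xd19 yd57 zd30) (kd xd12 yd39 zd50) (kd xd12 yd27 zd19) (kd xd22 yd10 zd34) (kd xd6 yd48 zd56)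 (kd xd11 yd18 zd51) (kd xd18 yd22 zd61) (kd xd6 yd48 zd57) (kd xd18 yd27 zd44) (kd xd22 yd10 zd39) (kd xd20 yd51 zd12) (kd xd8 yd59 zd16) (kd xd6 yd48 zd59) (kd xd11 yd21 zd37) (kd xd18 yd43 zd53) (kd xd12 yd46 zd55) (kd xd22 yd10 zd41) (kd xd18 yd56 zd44) (kd xd6 yd49 zd4) (kd xd22 yd10 zd45) (kd xd14 yd52 zd14) (kd xd21 yd5 zd33) (kd xd21 yd5 zd31) (kd xd21 yd5 zd32) (kd xd22 yd10 zd52) (kd xd6 yd49 zd10) (kd xd15 yd18 zd3) (kd xd22 yd10 zd58) (kd xd17 yd35 zd19) (kd xd22 yd10 zd61) (kd xd12 yd42 zd33) (kd xd22 yd11 zd2) (kd xd6 yd49 zd15) (kd xd11 yd29 zd40) (kd xd11 yd30 zd16) (kd xd20 yd14 zd13) (kd xd20 yd42 zd6) (kd xd20 yd19 zd36) (kd xd7 yd49 zd41) (kd xd6 yd49 zd25) (kd xd9 yd16 zd25) (kd xd6 yd49 zd29) (kd xd22 yd11 zd8) (kd xd11 yd33 zd28) (kd xd20 yd15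 zd39) (kd xd16 yd57 zd51) (kd xd9 yd47 zd27) (kd xd20 yd10 zd34)) (@D3.rec (fun _ => Pt) (kd xd21 yd3 zd11) (kd xd10 yd5 zd46) (kd xd22 yd11 zd9) (kd xd12 yd39 zd5) (kd xd14 yd4 zd49) (kd xd17 yd7 zd46) (kd xd11 yd45 zd5) (kd xd11 yd45 zd6) (kd xd16 yd57 zd36) (kd xd12 yd26 zd59) (kd xd11 yd25 zd29) (kd xd17 yd40 zd10) (kd xd22 yd11 zd11) (kd xd22 yd11 zd15) (kd xd6 yd49 zd57) (kd xd7 yd28 zd27) (kd xd22 yd11 zd19) (kd xd6 yd49 zd61) (kd xd22 yd11 zd22) (kd xd17 yd6 zd43) (kd xd11 yd6 zd22) (kd xd9 yd30 zd33) (kd xd17 yd31 zd49) (kd xd18 yd39 zd37) (kd xd15 yd33 zd40) (kd xd6 yd50 zd9) (kd xd22 yd11 zd25) (kd xd20 yd16 zd61) (kd xd6 yd50 zd12) (kd xd22 yd11 zd32) (kd xd12 yd24 zd1) (kd xd6 yd50 zd15) (kd xd9 yd49 zd25) (kd xd10 yd45 zd40) (kd xd18 yd1 zd33) (kd xd11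 yd32 zd9) (kd xd22 yd8 zd11) (kd xd6 yd50 zd38) (kd xd6 yd50 zd24) (kd xd15 yd26 zd44) (kd xd6 yd50 zd27) (kd xd11 yd50 zd40) (kd xd12 yd17 zd28) (kd xd6 yd50 zd32) (kd xd11 yd58 zd10) (kd xd19 yd9 zd39) (kd xd9 yd12 zd30) (kd xd11 yd11 zd58) (kd xd11 yd11 zd57) (kd xd7 yd23 zd36) (kd xd19 yd19 zd37) (kd xd6 yd50 zd37) (kd xd17 yd9 zd4) (kd xd19 yd5 zd30) (kd xd7 yd27 zd26) (kd xd19 yd43 zd20) (kd xd17 yd8 zd28) (kd xd12 yd12 zd0) (kd xd12 yd29 zd59) (kd xd18 yd10 zd12) (kd xd17 yd11 zd54) (kd xd21 yd38 zd19)) (@D3.rec (fun _ => Pt) (kd xd22 yd11 zd40) (kd xd8 yd35 zd33) (kd xd22 yd11 zd41) (kd xd6 yd50 zd55) (kd xd22 yd11 zd44) (kd xd14 yd9 zd12) (kd xd14 yd8 zd60) (kd xd17 yd40 zd47) (kd xd12 yd25 zd52) (kd xd6 yd51 zd0) (kd xd19 yd32 zd37) (kd xd19 yd44 zd9) (kd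 xd22 yd11 zd52) (kd xd22 yd11 zd54) (kd xd6 yd51 zd9) (kd xd6 yd51 zd10) (kd xd21 yd36 zd41) (kd xd18 yd24 zd35) (kd xd6 yd51 zd11) (kd xd12 yd10 zd14) (kd xd22 yd11 zd57) (kd xd21 yd36 zd42) (kd xd22 yd11 zd59) (kd xd20 yd26 zd49) (kd xd22 yd11 zd61) (kd xd14 yd20 zd19) (kd xd21 yd18 zd6) (kd xd21 yd18 zd5) (kd xd22 yd12 zd1) (kd xd6 yd51 zd17) (kd xd9 yd46 zd53) (kd xd9 yd37 zd29) (kd xd6 yd51 zd21) (kd xd14 yd9 zd51) (kd xd14 yd9 zd53) (kd xd14 yd9 zd46) (kd xd14 yd9 zd47) (kd xd22 yd12 zd12) (kd xd6 yd51 zd25) (kd xd6 yd51 zd29) (kd xd7 yd52 zd42) (kd xd13 yd53 zd46) (kd xd22 yd12 zd19) (kd xd22 yd12 zd20) (kd xd6 yd51 zd30) (kd xd7 yd5 zd13) (kd xd13 yd9 zd45) (kd xd21 yd13 zd6) (kd xd22 yd12 zd27) (kd xd20 yd42 zd45) (kd xd22 yd12 zd30) (kd xd6 yd51 zd33) (kd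 xd22 yd12 zd34) (kd xd6 yd51 zd34) (kd xd22 yd12 zd38) (kd xd6 yd51 zd35) (kd xd6 yd57 zd14) (kd xd6 yd51 zd37) (kd xd13 yd12 zd48) (kd xd6 yd51 zd38) (kd xd6 yd51 zd39) (kd xd6 yd51 zd40)) (@D3.rec (fun _ => Pt) (kd xd19 yd23 zd10) (kd xd10 yd41 zd5) (kd xd6 yd51 zd42) (kd xd6 yd51 zd43) (kd xd13 yd7 zd44) (kd xd22 yd12 zd46) (kd xd6 yd51 zd47) (kd xd20 yd40 zd54) (kd xd20 yd40 zd53) (kd xd6 yd51 zd48) (kd xd22 yd12 zd51) (kd xd6 yd51 zd49) (kd xd6 yd57 zd52) (kd xd6 yd54 zd59) (kd xd13 yd6 zd8) (kd xd17 yd19 zd57) (kd xd22 yd12 zd60) (kd xd19 yd18 zd55) (kd xd22 yd13 zd2) (kd xd6 yd51 zd53) (kd xd22 yd13 zd5) (kd xd6 yd51 zd56) (kd xd14 yd33 zd29) (kd xd12 yd32 zd42) (kd xd22 yd13 zd12) (kd xd22 yd13 zd14) (kd xd22 yd13 zd15) (kd xd6 yd51 zd58) (kd xd14 yd32 zd47)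 (kd xd6 yd55 zd44) (kd xd6 yd57 zd7) (kd xd14 yd32 zd49) (kd xd22 yd13 zd32) (kd xd22 yd13 zd33) (kd xd6 yd51 zd61) (kd xd13 yd36 zd55) (kd xd6 yd57 zd3) (kd xd13 yd36 zd57) (kd xd13 yd11 zd27) (kd xd6 yd56 zd61) (kd xd13 yd49 zd56) (kd xd7 yd47 zd4) (kd xd6 yd56 zd53) (kd xd6 yd57 zd50) (kd xd6 yd57 zd28) (kd xd22 yd13 zd57) (kd xd6 yd52 zd4) (kd xd6 yd54 zd28) (kd xd13 yd20 zd38) (kd xd22 yd13 zd61) (kd xd6 yd52 zd8) (kd xd22 yd14 zd2) (kd xd22 yd14 zd3) (kd xd6 yd52 zd9) (kd xd20 yd59 zd32) (kd xd6 yd55 zd37) (kd xd6 yd57 zd29) (kd xd6 yd57 zd11) (kd xd22 yd14 zd19) (kd xd7 yd53 zd35) (kd xd6 yd52 zd11) (kd xd7 yd47 zd5)) (@D3.rec (fun _ => Pt) (kd xd13 yd7 zd45) (kd xd22 yd14 zd23) (kd xd6 yd52 zd13) (kd xd6 yd55 zd17) (kd xd7 yd9 zd46) (kd xd6 yd52 zd16) (kd xd14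 yd27 zd17) (kd xd6 yd57 zd10) (kd xd22 yd14 zd31) (kd xd7 yd53 zd24) (kd xd6 yd52 zd18) (kd xd19 yd32 zd0) (kd xd6 yd52 zd19) (kd xd6 yd58 zd20) (kd xd13 yd30 zd17) (kd xd13 yd40 zd46) (kd xd6 yd58 zd33) (kd xd6 yd58 zd23) (kd xd13 yd40 zd55) (kd xd14 yd13 zd36) (kd xd19 yd21 zd56) (kd xd22 yd14 zd44) (kd xd6 yd52 zd29) (kd xd13 yd45 zd46) (kd xd15 yd14 zd52) (kd xd6 yd52 zd33) (kd xd13 yd49 zd48) (kd xd18 yd54 zd49) (kd xd18 yd54 zd48) (kd xd22 yd14 zd59) (kd xd13 yd16 zd15) (kd xd6 yd52 zd35) (kd xd14 yd32 zd43) (kd xd15 yd58 zd59) (kd xd15 yd58 zd60) (kd xd8 yd19 zd18) (kd xd9 yd26 zd31) (kd xd6 yd52 zd39) (kd xd7 yd51 zd11) (kd xd14 yd2 zd47) (kd xd22 yd15 zd14) (kd xd20 yd48 zd33) (kd xd22 yd15 zd19) (kd xd13 yd46 zd1) (kd xd13 yd6 zd49) (kd xd7 yd33 zd25) (kd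 xd10 yd40 zd61) (kd xd6 yd52 zd47) (kd xd7 yd53 zd41) (kd xd19 yd22 zd9) (kd xd19 yd22 zd5) (kd xd6 yd52 zd49) (kd xd14 yd22 zd37) (kd xd18 yd21 zd0) (kd xd19 yd5 zd1) (kd xd18 yd55 zd21) (kd xd22 yd14 zd60) (kd xd22 yd14 zd61) (kd xd10 yd25 zd35) (kd xd6 yd52 zd53) (kd xd13 yd45 zd13) (kd xd10 yd20 zd13)) (@D3.rec (fun _ => Pt) (kd xd10 yd20 zd14) (kd xd6 yd52 zd55) (kd xd14 yd3 zd29) (kd xd22 yd15 zd40) (kd xd22 yd15 zd44) (kd xd14 yd52 zd17) (kd xd13 yd54 zd42) (kd xd13 yd54 zd41) (kd xd21 yd56 zd48) (kd xd6 yd52 zd59) (kd xd14 yd7 zd13) (kd xd6 yd53 zd4) (kd xd22 yd15 zd52) (kd xd22 yd15 zd53) (kd xd22 yd15 zd56) (kd xd22 yd15 zd58) (kd xd22 yd15 zd61) (kd xd6 yd53 zd8) (kd xd6 yd53 zd9) (kd xd6 yd54 zd34) (kd xd13 yd11 zd59) (kd xd7 yd11 zd20) (kd xd13 yd53 zd17)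 (kd xd6 yd53 zd12) (kd xd6 yd53 zd13) (kd xd17 yd0 zd19) (kd xd22 yd16 zd13) (kd xd6 yd53 zd15) (kd xd20 yd6 zd36) (kd xd22 yd16 zd15) (kd xd22 yd16 zd16) (kd xd6 yd53 zd16) (kd xd22 yd16 zd20) (kd xd6 yd53 zd17) (kd xd6 yd53 zd18) (kd xd19 yd28 zd38) (kd xd22 yd16 zd26) (kd xd6 yd53 zd19) (kd xd8 yd58 zd12) (kd xd13 yd27 zd24) (kd xd13 yd37 zd30) (kd xd18 yd57 zd24) (kd xd6 yd53 zd21) (kd xd22 yd16 zd37) (kd xd6 yd53 zd23) (kd xd22 yd16 zd38) (kd xd6 yd53 zd24) (kd xd6 yd53 zd25) (kd xd20 yd42 zd58) (kd xd9 yd17 zd9) (kd xd9 yd17 zd12) (kd xd22 yd16 zd51) (kd xd6 yd53 zd27) (kd xd22 yd16 zd55) (kd xd6 yd53 zd28) (kd xd13 yd9 zd23) (kd xd6 yd57 zd36) (kd xd13 yd6 zd3) (kd xd13 yd9 zd25) (kd xd13 yd6 zd1) (kd xd22 yd17 zd9) (kd xd6 yd53 zd32)) (@D3.rec (fun _ => Pt)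 (kd xd13 yd37 zd29) (kd xd13 yd5 zd59) (kd xd20 yd45 zd29) (kd xd13 yd5 zd57) (kd xd14 yd52 zd54) (kd xd7 yd18 zd39) (kd xd22 yd17 zd27) (kd xd6 yd53 zd35) (kd xd13 yd3 zd14) (kd xd10 yd25 zd58) (kd xd6 yd53 zd37) (kd xd13 yd10 zd43) (kd xd7 yd10 zd43) (kd xd13 yd10 zd44) (kd xd7 yd16 zd29) (kd xd13 yd36 zd3) (kd xd6 yd53 zd40) (kd xd6 yd53 zd44) (kd xd22 yd17 zd43) (kd xd6 yd53 zd45) (kd xd22 yd17 zd45) (kd xd6 yd53 zd46) (kd xd22 yd17 zd46) (kd xd6 yd55 zd11) (kd xd12 yd24 zd6) (kd xd15 yd50 zd23) (kd xd22 yd17 zd50) (kd xd22 yd17 zd51) (kd xd6 yd53 zd48) (kd xd11 yd21 zd55) (kd xd6 yd53 zd50) (kd xd15 yd50 zd20) (kd xd11 yd59 zd44) (kd xd9 yd48 zd13) (kd xd14 yd20 zd23) (kd xd14 yd33 zd5) (kd xd21 yd16 zd13) (kd xd22 yd17 zd58) (kd xd6 yd53 zd58) (kd xd22 yd17 zd59)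 (kd xd19 yd23 zd8) (kd xd6 yd53 zd60) (kd xd22 yd17 zd61) (kd xd9 yd12 zd35) (kd xd22 yd18 zd2) (kd xd6 yd54 zd1) (kd xd22 yd18 zd5) (kd xd6 yd54 zd2) (kd xd22 yd18 zd8) (kd xd13 yd4 zd44) (kd xd22 yd18 zd14) (kd xd22 yd18 zd15) (kd xd6 yd54 zd4) (kd xd11 yd59 zd3) (kd xd13 yd8 zd18) (kd xd16 yd23 zd9) (kd xd6 yd54 zd6) (kd xd6 yd54 zd7) (kd xd7 yd39 zd50) (kd xd13 yd8 zd37) (kd xd22 yd18 zd32) (kd xd22 yd18 zd33)) (@D3.rec (fun _ => Pt) (kd xd6 yd54 zd10) (kd xd13 yd12 zd42) (kd xd13 yd12 zd43) (kd xd7 yd20 zd52) (kd xd7 yd20 zd9) (kd xd22 yd14 zd14) (kd xd7 yd20 zd51) (kd xd7 yd20 zd11) (kd xd14 yd52 zd40) (kd xd12 yd58 zd53) (kd xd6 yd54 zd16) (kd xd13 yd11 zd28) (kd xd13 yd11 zd30) (kd xd6 yd54 zd19) (kd xd22 yd19 zd1) (kd xd22 yd19 zd3) (kd xd6 yd54 zd20) (kd xd22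 yd19 zd7) (kd xd22 yd19 zd9) (kd xd22 yd19 zd10) (kd xd6 yd54 zd21) (kd xd22 yd18 zd59) (kd xd13 yd16 zd42) (kd xd22 yd19 zd21) (kd xd6 yd54 zd23) (kd xd22 yd19 zd23) (kd xd22 yd19 zd24) (kd xd6 yd54 zd24) (kd xd14 yd41 zd26) (kd xd13 yd35 zd39) (kd xd13 yd22 zd41) (kd xd20 yd43 zd17) (kd xd13 yd45 zd56) (kd xd13 yd20 zd19) (kd xd13 yd22 zd39) (kd xd13 yd20 zd22) (kd xd20 yd43 zd3) (kd xd22 yd12 zd41) (kd xd22 yd13 zd58) (kd xd14 yd32 zd54) (kd xd6 yd54 zd31) (kd xd20 yd56 zd58) (kd xd22 yd19 zd43) (kd xd6 yd54 zd32) (kd xd13 yd3 zd4) (kd xd13 yd4 zd0) (kd xd13 yd12 zd49) (kd xd14 yd12 zd60) (kd xd22 yd12 zd39) (kd xd13 yd37 zd34) (kd xd6 yd54 zd37) (kd xd7 yd3 zd10) (kd xd22 yd19 zd52) (kd xd22 yd19 zd53) (kd xd19 yd21 zd20) (kd xd19 yd21 zd17) (kd xd6 yd54 zd42) (kd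 xd7 yd52 zd55) (kd xd13 yd58 zd11) (kd xd22 yd14 zd0) (kd xd6 yd54 zd45) (kd xd22 yd19 zd58)) (@D3.rec (fun _ => Pt) (kd xd6 yd54 zd47) (kd xd22 yd19 zd60) (kd xd22 yd19 zd61) (kd xd6 yd54 zd48) (kd xd17 yd3 zd49) (kd xd22 yd20 zd2) (kd xd6 yd54 zd49) (kd xd22 yd16 zd18) (kd xd22 yd20 zd6) (kd xd22 yd20 zd8) (kd xd6 yd54 zd50) (kd xd22 yd20 zd10) (kd xd14 yd51 zd59) (kd xd14 yd51 zd60) (kd xd22 yd20 zd17) (kd xd6 yd54 zd52) (kd xd22 yd20 zd20) (kd xd6 yd54 zd53) (kd xd13 yd6 zd54) (kd xd6 yd54 zd54) (kd xd9 yd30 zd30) (kd xd9 yd30 zd26) (kd xd20 yd59 zd10) (kd xd6 yd54 zd56) (kd xd22 yd20 zd33) (kd xd6 yd54 zd57) (kd xd22 yd12 zd56) (kd xd7 yd24 zd29) (kd xd14 yd51 zd39) (kd xd22 yd12 zd58) (kd xd14 yd51 zd36) (kd xd22 yd20 zd45) (kd xd6 yd54 zd61) (kd xd14 yd51 zd58)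 (kd xd14 yd1 zd49) (kd xd22 yd19 zd47) (kd xd14 yd51 zd28) (kd xd13 yd6 zd59) (kd xd14 yd51 zd52) (kd xd14 yd49 zd23) (kd xd13 yd45 zd42) (kd xd6 yd55 zd4) (kd xd13 yd37 zd9) (kd xd13 yd35 zd46) (kd xd14 yd50 zd50) (kd xd7 yd18 zd3) (kd xd6 yd55 zd9) (kd xd8 yd33 zd4) (kd xd15 yd43 zd31) (kd xd6 yd55 zd12) (kd xd22 yd21 zd8) (kd xd7 yd27 zd36) (kd xd22 yd21 zd10) (kd xd22 yd21 zd12) (kd xd20 yd53 zd22) (kd xd6 yd55 zd14) (kd xd6 yd55 zd15) (kd xd22 yd21 zd19) (kd xd7 yd11 zd17) (kd xd13 yd10 zd23) (kd xd14 yd52 zd56) (kd xd6 yd55 zd22)) (@D3.rec (fun _ => Pt) (kd xd6 yd55 zd23) (kd xd13 yd10 zd59) (kd xd22 yd21 zd27) (kd xd22 yd21 zd29) (kd xd6 yd55 zd25) (kd xd6 yd55 zd26) (kd xd22 yd21 zd35) (kd xd22 yd21 zd40) (kd xd6 yd55 zd28) (kd xd6 yd55 zd29) (kd xd21 yd45 zd25)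 (kd xd6 yd55 zd30) (kd xd9 yd30 zd6) (kd xd22 yd21 zd49) (kd xd6 yd55 zd32) (kd xd14 yd3 zd37) (kd xd22 yd21 zd54) (kd xd20 yd30 zd28) (kd xd6 yd55 zd35) (kd xd22 yd14 zd9) (kd xd22 yd14 zd11) (kd xd6 yd55 zd38) (kd xd14 yd53 zd9) (kd xd13 yd5 zd55) (kd xd14 yd47 zd11) (kd xd13 yd5 zd58) (kd xd17 yd9 zd0) (kd xd13 yd25 zd54) (kd xd10 yd35 zd36) (kd xd10 yd35 zd34) (kd xd13 yd36 zd42) (kd xd6 yd55 zd42) (kd xd22 yd13 zd22) (kd xd22 yd13 zd24) (kd xd22 yd22 zd12) (kd xd6 yd55 zd45) (kd xd7 yd49 zd49) (kd xd14 yd51 zd47) (kd xd6 yd55 zd47) (kd xd7 yd20 zd40) (kd xd22 yd22 zd20) (kd xd14 yd51 zd38) (kd xd14 yd40 zd22) (kd xd6 yd55 zd49) (kd xd14 yd40 zd19) (kd xd13 yd2 zd46) (kd xd6 yd55 zd51) (kd xd16 yd21 zd45) (kd xd6 yd55 zd53) (kd xd22 yd22 zd23) (kd xd16 yd21 zd42)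 (kd xd6 yd55 zd56) (kd xd22 yd22 zd24) (kd xd6 yd55 zd57) (kd xd22 yd22 zd25) (kd xd6 yd55 zd58) (kd xd12 yd10 zd31) (kd xd22 yd22 zd26) (kd xd9 yd15 zd22) (kd xd6 yd55 zd61) (kd xd21 yd44 zd19) (kd xd22 yd22 zd29)) (@D3.rec (fun _ => Pt) (kd xd22 yd22 zd32) (kd xd6 yd56 zd0) (kd xd22 yd22 zd34) (kd xd22 yd22 zd35) (kd xd6 yd56 zd1) (kd xd22 yd22 zd39) (kd xd22 yd22 zd40) (kd xd22 yd22 zd42) (kd xd6 yd56 zd2) (kd xd21 yd51 zd39) (kd xd14 yd52 zd6) (kd xd14 yd52 zd7) (kd xd14 yd28 zd15) (kd xd6 yd56 zd4) (kd xd16 yd56 zd26) (kd xd22 yd22 zd50) (kd xd6 yd56 zd6) (kd xd13 yd10 zd56) (kd xd6 yd56 zd7) (kd xd22 yd22 zd57) (kd xd6 yd56 zd9) (kd xd14 yd49 zd30) (kd xd14 yd41 zd22) (kd xd13 yd8 zd59) (kd xd14 yd51 zd8) (kd xd14 yd51 zd2) (kd xd13 yd43 zd26) (kd xd13 yd45 zd52)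 (kd xd22 yd23 zd6) (kd xd6 yd56 zd14) (kd xd6 yd56 zd15) (kd xd15 yd56 zd18) (kd xd6 yd56 zd16) (kd xd10 yd46 zd16) (kd xd21 yd0 zd53) (kd xd22 yd13 zd35) (kd xd6 yd56 zd21) (kd xd13 yd10 zd52) (kd xd22 yd23 zd11) (kd xd6 yd56 zd22) (kd xd11 yd43 zd27) (kd xd11 yd49 zd19) (kd xd14 yd33 zd56) (kd xd13 yd6 zd11) (kd xd13 yd6 zd13) (kd xd14 yd47 zd37) (kd xd18 yd41 zd45) (kd xd6 yd56 zd30) (kd xd6 yd56 zd31) (kd xd6 yd56 zd32) (kd xd22 yd23 zd24) (kd xd17 yd11 zd13) (kd xd13 yd10 zd37) (kd xd22 yd23 zd29) (kd xd6 yd56 zd34) (kd xd20 yd39 zd56) (kd xd13 yd10 zd17) (kd xd19 yd2 zd15) (kd xd21 yd9 zd59) (kd xd13 yd9 zd1) (kd xd22 yd23 zd35) (kd xd6 yd56 zd39)) (@D3.rec (fun _ => Pt) (kd xd6 yd56 zd40) (kd xd6 yd56 zd41) (kd xd22 yd23 zd36) (kd xd11 yd31 zd26) (kd xd20 yd14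 zd44) (kd xd22 yd23 zd40) (kd xd15 yd55 zd31) (kd xd6 yd56 zd43) (kd xd20 yd46 zd47) (kd xd9 yd21 zd32) (kd xd6 yd56 zd44) (kd xd22 yd23 zd44) (kd xd14 yd48 zd43) (kd xd19 yd30 zd34) (kd xd6 yd56 zd45) (kd xd10 yd14 zd44) (kd xd6 yd56 zd46) (kd xd6 yd56 zd47) (kd xd22 yd23 zd54) (kd xd10 yd22 zd11) (kd xd22 yd15 zd27) (kd xd22 yd23 zd60) (kd xd20 yd55 zd5) (kd xd22 yd24 zd4) (kd xd22 yd13 zd17) (kd xd22 yd13 zd18) (kd xd6 yd56 zd50) (kd xd13 yd3 zd38) (kd xd13 yd7 zd11) (kd xd13 yd46 zd12) (kd xd13 yd7 zd12) (kd xd22 yd24 zd18) (kd xd14 yd22 zd35) (kd xd22 yd14 zd10) (kd xd22 yd14 zd13) (kd xd22 yd13 zd50) (kd xd22 yd13 zd25) (kd xd22 yd13 zd26) (kd xd6 yd56 zd54) (kd xd6 yd56 zd57) (kd xd6 yd56 zd58) (kd xd15 yd40 zd7) (kd xd22 yd24 zd34) (kd xd22 yd15 zd33) (kd xd22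 yd24 zd40) (kd xd22 yd24 zd43) (kd xd14 yd11 zd3) (kd xd14 yd11 zd4) (kd xd6 yd56 zd60) (kd xd22 yd13 zd44) (kd xd13 yd39 zd35) (kd xd22 yd24 zd52) (kd xd6 yd57 zd0) (kd xd13 yd28 zd8) (kd xd13 yd35 zd38) (kd xd22 yd24 zd56) (kd xd22 yd24 zd61) (kd xd6 yd57 zd2) (kd xd22 yd25 zd4) (kd xd13 yd5 zd20) (kd xd22 yd13 zd43) (kd xd17 yd17 zd42)) (@D3.rec (fun _ => Pt) (kd xd22 yd25 zd13) (kd xd22 yd25 zd14) (kd xd6 yd57 zd5) (kd xd22 yd25 zd16) (kd xd22 yd25 zd17) (kd xd22 yd25 zd20) (kd xd6 yd57 zd6) (kd xd22 yd25 zd23) (kd xd22 yd13 zd27) (kd xd13 yd52 zd16) (kd xd6 yd57 zd9) (kd xd22 yd25 zd33) (kd xd22 yd14 zd28) (kd xd20 yd17 zd16) (kd xd22 yd14 zd15) (kd xd22 yd18 zd39) (kd xd22 yd25 zd47) (kd xd17 yd18 zd44) (kd xd22 yd25 zd53) (kd xd6 yd57 zd12) (kd xd22 yd12 zd40)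 (kd xd22 yd23 zd52) (kd xd22 yd26 zd0) (kd xd22 yd26 zd3) (kd xd22 yd26 zd6) (kd xd13 yd17 zd2) (kd xd22 yd26 zd10) (kd xd22 yd26 zd11) (kd xd22 yd26 zd12) (kd xd6 yd57 zd20) (kd xd22 yd12 zd43) (kd xd14 yd53 zd0) (kd xd11 yd54 zd54) (kd xd6 yd57 zd22) (kd xd6 yd57 zd23) (kd xd22 yd26 zd22) (kd xd22 yd15 zd25) (kd xd22 yd26 zd26) (kd xd22 yd13 zd53) (kd xd22 yd14 zd5) (kd xd22 yd14 zd6) (kd xd6 yd57 zd25) (kd xd13 yd7 zd1) (kd xd13 yd7 zd2) (kd xd22 yd26 zd38) (kd xd6 yd57 zd27) (kd xd14 yd52 zd55) (kd xd22 yd14 zd12) (kd xd13 yd2 zd58) (kd xd13 yd7 zd46) (kd xd22 yd26 zd46) (kd xd6 yd57 zd31) (kd xd22 yd26 zd51) (kd xd6 yd57 zd32) (kd xd22 yd26 zd54) (kd xd6 yd57 zd33) (kd xd22 yd26 zd56) (kd xd22 yd26 zd58) (kd xd22 yd16 zd9) (kd xd6 yd57 zd34) (kd xd22 yd16 zd24)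 (kd xd17 yd57 zd29)) (@D3.rec (fun _ => Pt) (kd xd8 yd34 zd2) (kd xd16 yd7 zd9) (kd xd6 yd57 zd39) (kd xd14 yd0 zd37) (kd xd7 yd5 zd6) (kd xd7 yd5 zd5) (kd xd13 yd57 zd39) (kd xd14 yd0 zd39) (kd xd6 yd57 zd42) (kd xd14 yd6 zd31) (kd xd6 yd57 zd46) (kd xd6 yd57 zd47) (kd xd22 yd27 zd18) (kd xd22 yd27 zd21) (kd xd7 yd33 zd17) (kd xd10 yd44 zd26) (kd xd22 yd27 zd31) (kd xd14 yd17 zd23) (kd xd6 yd57 zd49) (kd xd22 yd13 zd51) (kd xd22 yd27 zd38) (kd xd22 yd27 zd40) (kd xd22 yd16 zd45) (kd xd6 yd57 zd51) (kd xd13 yd37 zd33) (kd xd22 yd27 zd49) (kd xd22 yd27 zd50) (kd xd14 yd12 zd61) (kd xd6 yd57 zd54) (kd xd14 yd10 zd9) (kd xd14 yd9 zd56) (kd xd22 yd27 zd57) (kd xd14 yd10 zd3) (kd xd14 yd10 zd4) (kd xd22 yd27 zd60) (kd xd6 yd57 zd59) (kd xd14 yd55 zd21) (kd xd14 yd8 zd53)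 (kd xd14 yd8 zd54) (kd xd21 yd1 zd16) (kd xd6 yd57 zd61) (kd xd7 yd52 zd17) (kd xd13 yd48 zd15) (kd xd14 yd9 zd8) (kd xd22 yd28 zd12) (kd xd6 yd58 zd1) (kd xd13 yd24 zd61) (kd xd13 yd54 zd60) (kd xd6 yd58 zd4) (kd xd22 yd28 zd18) (kd xd7 yd54 zd35) (kd xd12 yd26 zd30) (kd xd21 yd33 zd47) (kd xd22 yd28 zd33) (kd xd22 yd28 zd34) (kd xd14 yd53 zd29) (kd xd16 yd20 zd29) (kd xd22 yd28 zd36) (kd xd9 yd45 zd9) (kd xd7 yd6 zd15) (kd xd18 yd21 zd42) (kd xd6 yd58 zd10)) (@D3.rec (fun _ => Pt) (kd xd13 yd50 zd44) (kd xd13 yd47 zd13) (kd xd22 yd28 zd44) (kd xd16 yd35 zd47) (kd xd22 yd28 zd45) (kd xd6 yd58 zd14) (kd xd13 yd37 zd61) (kd xd13 yd42 zd49) (kd xd13 yd24 zd7) (kd xd13 yd51 zd20) (kd xd22 yd14 zd38) (kd xd13 yd28 zd26) (kd xd13 yd44 zd4) (kd xd22 yd14 zd39) (kd xd22 yd14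 zd33) (kd xd22 yd29 zd1) (kd xd6 yd58 zd22) (kd xd21 yd13 zd33) (kd xd13 yd14 zd29) (kd xd7 yd49 zd15) (kd xd22 yd29 zd5) (kd xd6 yd58 zd25) (kd xd22 yd29 zd7) (kd xd11 yd15 zd46) (kd xd6 yd58 zd26) (kd xd7 yd12 zd19) (kd xd22 yd29 zd10) (kd xd6 yd58 zd28) (kd xd13 yd47 zd59) (kd xd13 yd14 zd18) (kd xd13 yd47 zd61) (kd xd22 yd29 zd19) (kd xd22 yd29 zd21) (kd xd20 yd21 zd19) (kd xd6 yd58 zd31) (kd xd22 yd14 zd37) (kd xd7 yd8 zd58) (kd xd7 yd19 zd30) (kd xd7 yd19 zd31) (kd xd14 yd44 zd56) (kd xd22 yd14 zd34) (kd xd21 yd54 zd36) (kd xd22 yd29 zd35) (kd xd22 yd29 zd37) (kd xd18 yd18 zd60) (kd xd6 yd58 zd36) (kd xd22 yd29 zd42) (kd xd7 yd17 zd53) (kd xd7 yd17 zd56) (kd xd13 yd47 zd60) (kd xd22 yd29 zd44) (kd xd6 yd58 zd40) (kd xd22 yd29 zd47) (kd xd22 yd29 zd49) (kd xd6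 yd58 zd43) (kd xd22 yd29 zd52) (kd xd22 yd29 zd53) (kd xd6 yd58 zd44) (kd xd22 yd29 zd55) (kd xd6 yd58 zd45) (kd xd7 yd53 zd50) (kd xd6 yd58 zd47)) (@D3.rec (fun _ => Pt) (kd xd22 yd29 zd60) (kd xd6 yd58 zd48) (kd xd6 yd58 zd49) (kd xd13 yd50 zd16) (kd xd13 yd50 zd17) (kd xd13 yd16 zd11) (kd xd13 yd16 zd12) (kd xd22 yd30 zd7) (kd xd6 yd58 zd52) (kd xd13 yd40 zd1) (kd xd22 yd30 zd13) (kd xd22 yd30 zd14) (kd xd14 yd9 zd24) (kd xd21 yd6 zd44) (kd xd6 yd59 zd0) (kd xd12 yd11 zd28) (kd xd13 yd15 zd16) (kd xd21 yd43 zd3) (kd xd21 yd43 zd4) (kd xd12 yd16 zd32) (kd xd14 yd15 zd46) (kd xd14 yd15 zd47) (kd xd22 yd30 zd20) (kd xd6 yd59 zd10) (kd xd13 yd41 zd11) (kd xd22 yd30 zd26) (kd xd13 yd49 zd30) (kd xd6 yd59 zd12) (kd xd11 yd7 zd13) (kd xd11 yd7 zd11) (kd xd16 yd11 zd51)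 (kd xd22 yd30 zd29) (kd xd13 yd49 zd5) (kd xd22 yd30 zd31) (kd xd6 yd59 zd15) (kd xd22 yd30 zd34) (kd xd16 yd11 zd1) (kd xd22 yd30 zd36) (kd xd22 yd30 zd37) (kd xd6 yd59 zd16) (kd xd6 yd59 zd17) (kd xd13 yd23 zd57) (kd xd7 yd24 zd16) (kd xd13 yd43 zd38) (kd xd6 yd59 zd19) (kd xd6 yd59 zd32) (kd xd22 yd30 zd50) (kd xd22 yd30 zd52) (kd xd22 yd30 zd54) (kd xd13 yd43 zd49) (kd xd21 yd53 zd44) (kd xd22 yd30 zd60) (kd xd22 yd30 zd61) (kd xd22 yd31 zd0) (kd xd6 yd59 zd23) (kd xd14 yd18 zd1) (kd xd21 yd43 zd30) (kd xd19 yd55 zd45) (kd xd6 yd59 zd28) (kd xd22 yd31 zd13) (kd xd14 yd0 zd3) (kd xd21 yd56 zd17)) (@D3.rec (fun _ => Pt) (kd xd19 yd56 zd30) (kd xd6 yd59 zd30) (kd xd22 yd31 zd12) (kd xd22 yd31 zd23) (kd xd22 yd30 zd47) (kd xd6 yd59 zd33) (kd xd22 yd31 zd24) (kd xd18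 yd54 zd47) (kd xd6 yd59 zd34) (kd xd6 yd59 zd35) (kd xd6 yd59 zd36) (kd xd13 yd15 zd5) (kd xd13 yd15 zd6) (kd xd22 yd31 zd35) (kd xd14 yd28 zd30) (kd xd13 yd4 zd30) (kd xd13 yd29 zd34) (kd xd7 yd10 zd5) (kd xd13 yd26 zd61) (kd xd12 yd21 zd23) (kd xd22 yd31 zd55) (kd xd22 yd31 zd57) (kd xd22 yd31 zd59) (kd xd14 yd28 zd34) (kd xd22 yd32 zd0) (kd xd22 yd32 zd1) (kd xd6 yd59 zd44) (kd xd12 yd33 zd55) (kd xd22 yd32 zd4) (kd xd19 yd21 zd61) (kd xd6 yd59 zd47) (kd xd22 yd32 zd5) (kd xd22 yd32 zd7) (kd xd6 yd59 zd48) (kd xd16 yd32 zd37) (kd xd6 yd59 zd49) (kd xd11 yd34 zd5) (kd xd11 yd34 zd4) (kd xd9 yd8 zd25) (kd xd22 yd32 zd10) (kd xd22 yd32 zd12) (kd xd6 yd59 zd51) (kd xd13 yd7 zd22) (kd xd20 yd51 zd61) (kd xd21 yd51 zd42) (kd xd6 yd59 zd52) (kd xd17 yd0 zd34) (kd xd14 yd20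 zd32) (kd xd14 yd19 zd57) (kd xd6 yd59 zd54) (kd xd14 yd35 zd34) (kd xd7 yd45 zd22) (kd xd6 yd59 zd58) (kd xd16 yd52 zd33) (kd xd22 yd32 zd23) (kd xd6 yd59 zd59) (kd xd7 yd46 zd56) (kd xd7 yd37 zd0) (kd xd7 yd46 zd58) (kd xd14 yd38 zd25) (kd xd22 yd32 zd36) (kd xd7 yd0 zd0)) (@D3.rec (fun _ => Pt) (kd xd7 yd36 zd59) (kd xd13 yd44 zd17) (kd xd13 yd12 zd25) (kd xd7 yd36 zd57) (kd xd14 yd1 zd12) (kd xd7 yd37 zd21) (kd xd22 yd29 zd59) (kd xd7 yd13 zd40) (kd xd14 yd42 zd34) (kd xd19 yd51 zd46) (kd xd22 yd32 zd53) (kd xd7 yd37 zd3) (kd xd22 yd32 zd57) (kd xd13 yd27 zd14) (kd xd7 yd0 zd10) (kd xd22 yd32 zd61) (kd xd7 yd0 zd11) (kd xd7 yd37 zd2) (kd xd8 yd29 zd14) (kd xd17 yd28 zd35) (kd xd7 yd0 zd14) (kd xd22 yd33 zd6) (kd xd7 yd0 zd17) (kd xd22 yd33 zd10) (kd xd22 yd33 zd12)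 (kd xd22 yd33 zd14) (kd xd7 yd0 zd19) (kd xd22 yd33 zd19) (kd xd13 yd41 zd5) (kd xd7 yd0 zd21) (kd xd20 yd10 zd23) (kd xd20 yd10 zd24) (kd xd7 yd0 zd22) (kd xd7 yd47 zd13) (kd xd7 yd0 zd24) (kd xd10 yd46 zd10) (kd xd22 yd33 zd24) (kd xd7 yd0 zd25) (kd xd14 yd22 zd11) (kd xd7 yd5 zd61) (kd xd7 yd6 zd0) (kd xd8 yd29 zd38) (kd xd7 yd7 zd30) (kd xd22 yd33 zd30) (kd xd7 yd0 zd28) (kd xd22 yd33 zd33) (kd xd22 yd33 zd34) (kd xd7 yd0 zd30) (kd xd20 yd33 zd58) (kd xd7 yd0 zd31) (kd xd7 yd40 zd0) (kd xd22 yd33 zd37) (kd xd7 yd0 zd32) (kd xd22 yd33 zd39) (kd xd14 yd23 zd61) (kd xd14 yd17 zd51) (kd xd22 yd33 zd43) (kd xd22 yd27 zd33) (kd xd7 yd0 zd34) (kd xd14 yd21 zd58) (kd xd14 yd21 zd59) (kd xd7 yd5 zd59)) (@D3.rec (fun _ => Pt) (kd xd14 yd42 zd44) (kd xd7 yd5 zd60) (kd xd7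 yd40 zd6) (kd xd17 yd0 zd18) (kd xd22 yd33 zd60) (kd xd20 yd33 zd27) (kd xd22 yd34 zd0) (kd xd7 yd0 zd44) (kd xd7 yd0 zd45) (kd xd13 yd48 zd30) (kd xd20 yd41 zd5) (kd xd7 yd0 zd50) (kd xd22 yd34 zd9) (kd xd7 yd0 zd51) (kd xd22 yd26 zd43) (kd xd14 yd43 zd31) (kd xd7 yd0 zd52) (kd xd18 yd51 zd51) (kd xd22 yd34 zd16) (kd xd7 yd0 zd53) (kd xd18 yd54 zd61) (kd xd22 yd34 zd17) (kd xd7 yd0 zd54) (kd xd14 yd26 zd4) (kd xd7 yd0 zd55) (kd xd14 yd44 zd13) (kd xd7 yd48 zd12) (kd xd7 yd26 zd17) (kd xd22 yd34 zd26) (kd xd7 yd0 zd57) (kd xd22 yd34 zd28) (kd xd7 yd0 zd58) (kd xd7 yd38 zd35) (kd xd7 yd0 zd59) (kd xd14 yd26 zd52) (kd xd14 yd18 zd12) (kd xd22 yd34 zd38) (kd xd7 yd0 zd61) (kd xd7 yd1 zd0) (kd xd14 yd18 zd27) (kd xd13 yd18 zd52) (kd xd14 yd18 zd28) (kd xd22 yd34 zd46) (kd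 xd22 yd34 zd47) (kd xd7 yd1 zd3) (kd xd14 yd44 zd1) (kd xd13 yd18 zd49) (kd xd14 yd44 zd3) (kd xd7 yd26 zd22) (kd xd13 yd18 zd46) (kd xd22 yd35 zd4) (kd xd7 yd38 zd41) (kd xd13 yd18 zd40) (kd xd7 yd38 zd44) (kd xd13 yd18 zd59) (kd xd7 yd24 zd45) (kd xd9 yd34 zd40) (kd xd7 yd1 zd10) (kd xd14 yd40 zd33) (kd xd13 yd18 zd54) (kd xd14 yd40 zd35) (kd xd7 yd1 zd13)) (@D3.rec (fun _ => Pt) (kd xd22 yd35 zd22) (kd xd22 yd35 zd24) (kd xd7 yd1 zd14) (kd xd22 yd35 zd27) (kd xd22 yd35 zd28) (kd xd7 yd1 zd16) (kd xd22 yd35 zd31) (kd xd7 yd1 zd17) (kd xd22 yd35 zd32) (kd xd7 yd1 zd19) (kd xd9 yd23 zd49) (kd xd22 yd35 zd35) (kd xd7 yd1 zd21) (kd xd22 yd35 zd38) (kd xd22 yd35 zd39) (kd xd7 yd1 zd23) (kd xd22 yd35 zd44) (kd xd22 yd24 zd47) (kd xd21 yd41 zd2) (kd xd7 yd1 zd24) (kd xd10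 yd47 zd26) (kd xd22 yd35 zd48) (kd xd7 yd1 zd25) (kd xd7 yd10 zd19) (kd xd7 yd10 zd20) (kd xd22 yd35 zd58) (kd xd7 yd1 zd27) (kd xd7 yd42 zd29) (kd xd7 yd1 zd28) (kd xd22 yd36 zd1) (kd xd11 yd35 zd32) (kd xd14 yd18 zd45) (kd xd7 yd1 zd30) (kd xd22 yd24 zd8) (kd xd22 yd36 zd4) (kd xd7 yd1 zd34) (kd xd22 yd36 zd8) (kd xd10 yd39 zd60) (kd xd10 yd39 zd59) (kd xd7 yd1 zd35) (kd xd10 yd27 zd18) (kd xd7 yd1 zd36) (kd xd22 yd36 zd10) (kd xd7 yd1 zd37) (kd xd14 yd30 zd51) (kd xd7 yd1 zd38) (kd xd14 yd40 zd43) (kd xd7 yd46 zd3) (kd xd7 yd46 zd4) (kd xd21 yd21 zd9) (kd xd7 yd1 zd40) (kd xd7 yd1 zd41) (kd xd7 yd41 zd41) (kd xd22 yd36 zd19) (kd xd7 yd1 zd42) (kd xd14 yd31 zd36) (kd xd14 yd19 zd13) (kd xd21 yd26 zd10) (kd xd7 yd1 zd44) (kd xd14 yd53 zd52) (kd xd7 yd39 zd0) (kd xd7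 yd39 zd3)) (@D3.rec (fun _ => Pt) (kd xd22 yd36 zd27) (kd xd7 yd1 zd47) (kd xd12 yd34 zd57) (kd xd7 yd10 zd47) (kd xd17 yd24 zd35) (kd xd22 yd36 zd30) (kd xd22 yd36 zd32) (kd xd22 yd36 zd35) (kd xd7 yd1 zd51) (kd xd13 yd35 zd48) (kd xd22 yd36 zd41) (kd xd7 yd1 zd53) (kd xd22 yd36 zd43) (kd xd7 yd1 zd54) (kd xd7 yd54 zd12) (kd xd7 yd1 zd56) (kd xd22 yd36 zd45) (kd xd22 yd36 zd46) (kd xd7 yd1 zd58) (kd xd13 yd7 zd33) (kd xd7 yd11 zd6) (kd xd13 yd59 zd52) (kd xd13 yd7 zd35) (kd xd9 yd26 zd33) (kd xd15 yd55 zd40) (kd xd7 yd1 zd61) (kd xd8 yd29 zd24) (kd xd14 yd55 zd53) (kd xd13 yd37 zd4) (kd xd14 yd49 zd57) (kd xd10 yd20 zd10) (kd xd13 yd37 zd5) (kd xd7 yd49 zd50) (kd xd14 yd32 zd40) (kd xd7 yd20 zd42) (kd xd22 yd37 zd2) (kd xd7 yd2 zd4) (kd xd12 yd25 zd46) (kd xd13 yd3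 zd48) (kd xd12 yd34 zd13) (kd xd22 yd37 zd4) (kd xd14 yd21 zd5) (kd xd22 yd37 zd6) (kd xd14 yd21 zd7) (kd xd7 yd44 zd49) (kd xd17 yd24 zd36) (kd xd22 yd37 zd11) (kd xd22 yd37 zd12) (kd xd22 yd37 zd15) (kd xd7 yd44 zd18) (kd xd7 yd2 zd16) (kd xd14 yd35 zd35) (kd xd9 yd23 zd0) (kd xd14 yd28 zd9) (kd xd21 yd52 zd33) (kd xd12 yd34 zd49) (kd xd7 yd40 zd45) (kd xd22 yd37 zd24) (kd xd7 yd2 zd21) (kd xd22 yd37 zd26) (kd xd7 yd2 zd22) (kd xd12 yd45 zd29)) (@D3.rec (fun _ => Pt) (kd xd7 yd2 zd23) (kd xd14 yd35 zd7) (kd xd7 yd44 zd54) (kd xd7 yd36 zd38) (kd xd22 yd37 zd40) (kd xd22 yd37 zd41) (kd xd7 yd2 zd25) (kd xd7 yd2 zd26) (kd xd22 yd37 zd46) (kd xd7 yd2 zd27) (kd xd13 yd53 zd25) (kd xd7 yd45 zd40) (kd xd7 yd45 zd41) (kd xd7 yd8 zd52) (kd xd7 yd46 zd54) (kd xd14 yd40 zd28)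 (kd xd14 yd40 zd29) (kd xd7 yd2 zd29) (kd xd7 yd46 zd53) (kd xd7 yd40 zd26) (kd xd13 yd45 zd38) (kd xd7 yd40 zd27) (kd xd14 yd21 zd17) (kd xd7 yd10 zd53) (kd xd7 yd47 zd28) (kd xd7 yd47 zd31) (kd xd7 yd46 zd22) (kd xd22 yd38 zd14) (kd xd22 yd38 zd18) (kd xd20 yd47 zd47) (kd xd7 yd2 zd36) (kd xd22 yd38 zd24) (kd xd22 yd37 zd57) (kd xd7 yd2 zd40) (kd xd22 yd38 zd26) (kd xd7 yd2 zd41) (kd xd22 yd38 zd29) (kd xd22 yd26 zd31) (kd xd7 yd2 zd42) (kd xd22 yd26 zd8) (kd xd7 yd42 zd18) (kd xd22 yd38 zd36) (kd xd22 yd38 zd37) (kd xd14 yd18 zd41) (kd xd14 yd18 zd42) (kd xd7 yd2 zd44) (kd xd7 yd46 zd12) (kd xd22 yd38 zd43) (kd xd22 yd38 zd46) (kd xd14 yd30 zd12) (kd xd7 yd2 zd47) (kd xd22 yd38 zd49) (kd xd13 yd39 zd50) (kd xd14 yd38 zd13) (kd xd22 yd38 zd54) (kd xd22 yd38 zd57)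 (kd xd7 yd46 zd11) (kd xd19 yd18 zd27) (kd xd18 yd28 zd1) (kd xd18 yd28 zd4) (kd xd7 yd2 zd51) (kd xd22 yd39 zd5)) (@D3.rec (fun _ => Pt) (kd xd14 yd21 zd15) (kd xd14 yd37 zd30) (kd xd14 yd37 zd31) (kd xd10 yd31 zd35) (kd xd7 yd48 zd15) (kd xd22 yd39 zd10) (kd xd8 yd22 zd55) (kd xd11 yd39 zd61) (kd xd22 yd39 zd12) (kd xd7 yd2 zd57) (kd xd7 yd37 zd4) (kd xd14 yd49 zd31) (kd xd22 yd39 zd16) (kd xd22 yd39 zd18) (kd xd22 yd39 zd20) (kd xd7 yd2 zd60) (kd xd13 yd41 zd21) (kd xd7 yd3 zd0) (kd xd7 yd36 zd61) (kd xd7 yd10 zd18) (kd xd13 yd48 zd26) (kd xd7 yd37 zd1) (kd xd7 yd3 zd3) (kd xd14 yd52 zd19) (kd xd14 yd53 zd44) (kd xd14 yd52 zd20) (kd xd13 yd28 zd57) (kd xd13 yd42 zd0) (kd xd13 yd28 zd58) (kd xd13 yd35 zd28) (kd xd7 yd8 zd0) (kd xd14 yd10 zd33) (kd xd13 yd41 zd19)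 (kd xd7 yd7 zd19) (kd xd22 yd40 zd2) (kd xd7 yd3 zd8) (kd xd22 yd40 zd5) (kd xd7 yd3 zd11) (kd xd7 yd43 zd45) (kd xd13 yd7 zd34) (kd xd7 yd43 zd47) (kd xd13 yd7 zd30) (kd xd7 yd11 zd57) (kd xd12 yd44 zd25) (kd xd22 yd40 zd17) (kd xd22 yd40 zd18) (kd xd7 yd3 zd20) (kd xd7 yd37 zd60) (kd xd22 yd33 zd22) (kd xd7 yd47 zd24) (kd xd7 yd47 zd25) (kd xd17 yd18 zd57) (kd xd22 yd0 zd49) (kd xd14 yd43 zd58) (kd xd14 yd43 zd59) (kd xd22 yd0 zd1) (kd xd7 yd40 zd10) (kd xd7 yd45 zd51) (kd xd7 yd40 zd12) (kd xd7 yd45 zd52) (kd xd7 yd46 zd30) (kd xd22 yd40 zd43)) (@D3.rec (fun _ => Pt) (kd xd22 yd40 zd46) (kd xd22 yd40 zd49) (kd xd7 yd3 zd27) (kd xd22 yd40 zd54) (kd xd14 yd44 zd4) (kd xd7 yd5 zd56) (kd xd22 yd40 zd58) (kd xd7 yd3 zd30) (kd xd11 yd0 zd42) (kd xd14 yd21 zd60) (kd xd14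 yd22 zd10) (kd xd17 yd28 zd34) (kd xd7 yd3 zd33) (kd xd22 yd41 zd3) (kd xd22 yd41 zd6) (kd xd7 yd3 zd35) (kd xd16 yd26 zd46) (kd xd7 yd3 zd36) (kd xd17 yd8 zd22) (kd xd16 yd56 zd22) (kd xd13 yd33 zd12) (kd xd13 yd30 zd11) (kd xd13 yd30 zd13) (kd xd7 yd3 zd47) (kd xd13 yd39 zd18) (kd xd7 yd39 zd48) (kd xd11 yd55 zd57) (kd xd10 yd47 zd13) (kd xd9 yd14 zd12) (kd xd7 yd46 zd28) (kd xd21 yd56 zd57) (kd xd15 yd56 zd11) (kd xd14 yd24 zd15) (kd xd7 yd3 zd52) (kd xd15 yd55 zd16) (kd xd14 yd17 zd60) (kd xd13 yd39 zd53) (kd xd14 yd21 zd54) (kd xd14 yd21 zd55) (kd xd22 yd41 zd23) (kd xd7 yd3 zd55) (kd xd22 yd30 zd0) (kd xd14 yd25 zd43) (kd xd7 yd37 zd41) (kd xd7 yd3 zd59) (kd xd7 yd9 zd32) (kd xd7 yd10 zd15) (kd xd13 yd49 zd42) (kd xd22 yd33 zd5) (kd xd22 yd41 zd45) (kd xd7 yd3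 zd61) (kd xd7 yd4 zd0) (kd xd22 yd41 zd50) (kd xd14 yd53 zd45) (kd xd22 yd41 zd55) (kd xd7 yd4 zd2) (kd xd12 yd13 zd15) (kd xd13 yd15 zd41) (kd xd22 yd30 zd32) (kd xd7 yd4 zd4) (kd xd14 yd43 zd4) (kd xd14 yd43 zd5)) (@D3.rec (fun _ => Pt) (kd xd22 yd42 zd1) (kd xd22 yd42 zd3) (kd xd13 yd51 zd24) (kd xd22 yd42 zd5) (kd xd22 yd42 zd6) (kd xd13 yd51 zd33) (kd xd7 yd11 zd49) (kd xd13 yd14 zd8) (kd xd7 yd11 zd51) (kd xd7 yd9 zd0) (kd xd22 yd42 zd21) (kd xd22 yd42 zd23) (kd xd14 yd53 zd50) (kd xd7 yd4 zd12) (kd xd7 yd4 zd13) (kd xd7 yd16 zd38) (kd xd20 yd41 zd8) (kd xd7 yd4 zd16) (kd xd20 yd23 zd41) (kd xd7 yd26 zd10) (kd xd7 yd26 zd9) (kd xd22 yd42 zd32) (kd xd7 yd4 zd18) (kd xd22 yd42 zd36) (kd xd7 yd4 zd19) (kd xd7 yd4 zd20) (kd xd22 yd42 zd38) (kd xd12 yd25 zd47) (kd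 xd22 yd42 zd39) (kd xd7 yd4 zd22) (kd xd7 yd6 zd38) (kd xd7 yd8 zd54) (kd xd14 yd40 zd34) (kd xd13 yd41 zd48) (kd xd22 yd42 zd47) (kd xd14 yd48 zd50) (kd xd7 yd4 zd25) (kd xd7 yd21 zd22) (kd xd14 yd5 zd55) (kd xd22 yd42 zd57) (kd xd7 yd4 zd27) (kd xd14 yd49 zd54) (kd xd13 yd25 zd60) (kd xd14 yd49 zd55) (kd xd7 yd54 zd56) (kd xd14 yd49 zd40) (kd xd22 yd43 zd3) (kd xd22 yd43 zd4) (kd xd22 yd43 zd6) (kd xd7 yd4 zd31) (kd xd7 yd49 zd59) (kd xd14 yd7 zd18) (kd xd7 yd49 zd32) (kd xd7 yd48 zd38) (kd xd14 yd33 zd53) (kd xd13 yd25 zd61) (kd xd7 yd54 zd28) (kd xd7 yd55 zd1) (kd xd14 yd49 zd16) (kd xd7 yd54 zd29) (kd xd7 yd54 zd60) (kd xd13 yd13 zd46)) (@D3.rec (fun _ => Pt) (kd xd7 yd54 zd24) (kd xd7 yd54 zd25) (kd xd22 yd43 zd45) (kd xd7 yd4 zd37) (kd xd22 yd43 zd48) (kd xd17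 yd55 zd53) (kd xd17 yd55 zd52) (kd xd17 yd14 zd25) (kd xd14 yd54 zd24) (kd xd14 yd54 zd27) (kd xd22 yd43 zd57) (kd xd7 yd4 zd43) (kd xd7 yd54 zd59) (kd xd13 yd25 zd26) (kd xd13 yd37 zd10) (kd xd22 yd44 zd2) (kd xd7 yd4 zd46) (kd xd14 yd6 zd0) (kd xd22 yd44 zd3) (kd xd22 yd44 zd4) (kd xd7 yd4 zd51) (kd xd7 yd25 zd33) (kd xd13 yd56 zd59) (kd xd22 yd44 zd15) (kd xd7 yd4 zd53) (kd xd14 yd47 zd8) (kd xd13 yd25 zd13) (kd xd14 yd47 zd10) (kd xd14 yd46 zd27) (kd xd22 yd44 zd26) (kd xd22 yd44 zd28) (kd xd22 yd44 zd29) (kd xd7 yd4 zd57) (kd xd7 yd51 zd42) (kd xd13 yd58 zd14) (kd xd22 yd44 zd40) (kd xd13 yd36 zd37) (kd xd7 yd54 zd32) (kd xd7 yd54 zd18) (kd xd7 yd29 zd46) (kd xd7 yd52 zd21) (kd xd7 yd54 zd15) (kd xd7 yd52 zd23) (kd xd7 yd54 zd21) (kd xd7 yd54 zd20) (kd xd22 yd45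 zd0) (kd xd7 yd5 zd0) (kd xd7 yd28 zd58) (kd xd22 yd45 zd4) (kd xd22 yd45 zd8) (kd xd7 yd5 zd1) (kd xd21 yd48 zd31) (kd xd7 yd50 zd28) (kd xd7 yd50 zd31) (kd xd13 yd9 zd27) (kd xd7 yd25 zd31) (kd xd22 yd27 zd8) (kd xd22 yd27 zd6) (kd xd7 yd54 zd14) (kd xd7 yd54 zd17) (kd xd13 yd24 zd42) (kd xd13 yd24 zd55)) (@D3.rec (fun _ => Pt) (kd xd19 yd10 zd48) (kd xd7 yd5 zd11) (kd xd22 yd12 zd21) (kd xd14 yd0 zd40) (kd xd22 yd45 zd26) (kd xd7 yd5 zd14) (kd xd14 yd49 zd24) (kd xd14 yd4 zd7) (kd xd14 yd4 zd8) (kd xd7 yd5 zd16) (kd xd14 yd3 zd22) (kd xd22 yd12 zd13) (kd xd22 yd45 zd42) (kd xd7 yd5 zd18) (kd xd21 yd6 zd15) (kd xd22 yd31 zd18) (kd xd22 yd45 zd43) (kd xd22 yd45 zd47) (kd xd7 yd5 zd20) (kd xd14 yd55 zd7) (kd xd22 yd45 zd54) (kd xd22 yd45 zd57) (kd xd14 yd9 zd17) (kd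 xd7 yd11 zd26) (kd xd7 yd54 zd16) (kd xd7 yd11 zd27) (kd xd7 yd50 zd33) (kd xd12 yd19 zd44) (kd xd9 yd55 zd22) (kd xd22 yd46 zd7) (kd xd22 yd46 zd10) (kd xd14 yd55 zd59) (kd xd10 yd25 zd38) (kd xd10 yd25 zd37) (kd xd15 yd39 zd12) (kd xd7 yd43 zd41) (kd xd7 yd5 zd33) (kd xd7 yd5 zd34) (kd xd7 yd5 zd36) (kd xd16 yd10 zd29) (kd xd7 yd5 zd39) (kd xd9 yd45 zd8) (kd xd17 yd56 zd57) (kd xd17 yd56 zd61) (kd xd16 yd25 zd55) (kd xd7 yd5 zd42) (kd xd11 yd38 zd6) (kd xd20 yd30 zd6) (kd xd22 yd46 zd18) (kd xd7 yd5 zd43) (kd xd14 yd14 zd61) (kd xd13 yd30 zd15) (kd xd20 yd6 zd20) (kd xd20 yd1 zd38) (kd xd7 yd5 zd45) (kd xd13 yd33 zd44) (kd xd14 yd40 zd37) (kd xd22 yd46 zd29) (kd xd7 yd5 zd47) (kd xd13 yd34 zd38) (kd xd14 yd40 zd53) (kd xd13 yd16 zd18)) (@D3.rec (fun _ => Pt) (kd xd13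 yd41 zd2) (kd xd7 yd37 zd52) (kd xd13 yd41 zd6) (kd xd7 yd46 zd42) (kd xd7 yd30 zd25) (kd xd7 yd5 zd50) (kd xd7 yd48 zd36) (kd xd16 yd30 zd26) (kd xd7 yd5 zd52) (kd xd13 yd31 zd1) (kd xd14 yd1 zd33) (kd xd13 yd31 zd2) (kd xd22 yd46 zd46) (kd xd7 yd5 zd55) (kd xd13 yd17 zd13) (kd xd13 yd39 zd8) (kd xd7 yd6 zd3) (kd xd13 yd45 zd19) (kd xd13 yd45 zd20) (kd xd14 yd17 zd16) (kd xd14 yd17 zd17) (kd xd22 yd33 zd50) (kd xd14 yd17 zd5) (kd xd22 yd33 zd54) (kd xd13 yd5 zd39) (kd xd10 yd25 zd43) (kd xd22 yd33 zd26) (kd xd7 yd6 zd1) (kd xd7 yd15 zd53) (kd xd7 yd15 zd54) (kd xd22 yd0 zd45) (kd xd22 yd47 zd6) (kd xd22 yd47 zd8) (kd xd22 yd46 zd54) (kd xd7 yd6 zd4) (kd xd7 yd6 zd6) (kd xd16 yd54 zd4) (kd xd7 yd6 zd8) (kd xd9 yd49 zd50) (kd xd7 yd6 zd10) (kd xd13 yd29 zd38) (kd xd13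 yd30 zd14) (kd xd13 yd29 zd40) (kd xd13 yd49 zd16) (kd xd22 yd28 zd38) (kd xd7 yd13 zd42) (kd xd13 yd39 zd9) (kd xd7 yd6 zd17) (kd xd13 yd31 zd45) (kd xd13 yd30 zd16) (kd xd13 yd31 zd47) (kd xd7 yd6 zd20) (kd xd20 yd20 zd54) (kd xd15 yd7 zd13) (kd xd7 yd12 zd55) (kd xd20 yd20 zd53) (kd xd7 yd6 zd23) (kd xd16 yd31 zd16) (kd xd20 yd29 zd24) (kd xd7 yd6 zd25) (kd xd22 yd47 zd24) (kd xd22 yd47 zd26)) (@D3.rec (fun _ => Pt) (kd xd22 yd47 zd28) (kd xd7 yd6 zd26) (kd xd22 yd47 zd29) (kd xd22 yd47 zd31) (kd xd7 yd6 zd27) (kd xd20 yd19 zd31) (kd xd22 yd47 zd16) (kd xd13 yd46 zd33) (kd xd13 yd11 zd53) (kd xd7 yd6 zd29) (kd xd22 yd47 zd41) (kd xd7 yd6 zd31) (kd xd7 yd17 zd30) (kd xd20 yd41 zd37) (kd xd7 yd6 zd33) (kd xd7 yd6 zd34) (kd xd14 yd27 zd21) (kd xd7 yd17 zd58) (kd xd22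 yd47 zd55) (kd xd22 yd47 zd56) (kd xd7 yd6 zd36) (kd xd22 yd42 zd40) (kd xd14 yd27 zd20) (kd xd22 yd37 zd43) (kd xd14 yd52 zd28) (kd xd7 yd35 zd50) (kd xd13 yd14 zd11) (kd xd7 yd19 zd25) (kd xd7 yd42 zd38) (kd xd7 yd19 zd26) (kd xd7 yd35 zd20) (kd xd7 yd40 zd23) (kd xd14 yd52 zd23) (kd xd7 yd9 zd56) (kd xd13 yd39 zd57) (kd xd7 yd6 zd43) (kd xd22 yd48 zd23) (kd xd22 yd48 zd24) (kd xd7 yd6 zd44) (kd xd14 yd52 zd21) (kd xd13 yd49 zd46) (kd xd7 yd6 zd46) (kd xd14 yd52 zd22) (kd xd22 yd41 zd9) (kd xd16 yd30 zd12) (kd xd7 yd6 zd48) (kd xd7 yd9 zd5) (kd xd7 yd6 zd59) (kd xd13 yd45 zd7) (kd xd13 yd45 zd8) (kd xd22 yd48 zd46) (kd xd7 yd6 zd50) (kd xd7 yd46 zd52) (kd xd13 yd44 zd55) (kd xd13 yd44 zd56) (kd xd22 yd48 zd56) (kd xd7 yd6 zd52) (kd xd13 yd22 zd26) (kd xd13 yd22 zd28)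 (kd xd22 yd49 zd2) (kd xd22 yd49 zd4) (kd xd7 yd6 zd55)) (@D3.rec (fun _ => Pt) (kd xd22 yd49 zd9) (kd xd22 yd49 zd10) (kd xd7 yd6 zd56) (kd xd22 yd12 zd31) (kd xd7 yd6 zd57) (kd xd7 yd34 zd45) (kd xd22 yd49 zd21) (kd xd22 yd48 zd39) (kd xd22 yd49 zd27) (kd xd22 yd49 zd30) (kd xd22 yd48 zd44) (kd xd7 yd9 zd50) (kd xd7 yd40 zd11) (kd xd22 yd49 zd34) (kd xd18 yd21 zd50) (kd xd7 yd7 zd2) (kd xd22 yd49 zd37) (kd xd7 yd7 zd3) (kd xd22 yd49 zd40) (kd xd22 yd49 zd44) (kd xd22 yd49 zd49) (kd xd7 yd7 zd5) (kd xd7 yd7 zd7) (kd xd7 yd7 zd8) (kd xd7 yd7 zd9) (kd xd12 yd8 zd42) (kd xd22 yd49 zd55) (kd xd22 yd49 zd56) (kd xd7 yd7 zd12) (kd xd13 yd39 zd4) (kd xd7 yd32 zd24) (kd xd13 yd39 zd6) (kd xd7 yd7 zd15) (kd xd22 yd33 zd21) (kd xd13 yd16 zd16) (kd xd14 yd28 zd20) (kd xd14 yd24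 zd55) (kd xd14 yd28 zd21) (kd xd13 yd27 zd40) (kd xd22 yd39 zd31) (kd xd13 yd27 zd42) (kd xd14 yd25 zd30) (kd xd22 yd50 zd22) (kd xd22 yd39 zd59) (kd xd13 yd34 zd51) (kd xd10 yd14 zd53) (kd xd7 yd7 zd21) (kd xd13 yd47 zd24) (kd xd13 yd47 zd25) (kd xd22 yd50 zd33) (kd xd7 yd7 zd24) (kd xd22 yd50 zd37) (kd xd7 yd7 zd25) (kd xd22 yd50 zd38) (kd xd17 yd17 zd23) (kd xd7 yd7 zd26) (kd xd7 yd16 zd43) (kd xd22 yd50 zd43) (kd xd22 yd50 zd44) (kd xd22 yd50 zd45) (kd xd22 yd50 zd46) (kd xd22 yd50 zd47)) (@D3.rec (fun _ => Pt) (kd xd7 yd7 zd31) (kd xd7 yd7 zd33) (kd xd7 yd7 zd36) (kd xd20 yd6 zd21) (kd xd13 yd52 zd6) (kd xd22 yd50 zd60) (kd xd7 yd7 zd38) (kd xd7 yd7 zd39) (kd xd10 yd37 zd36) (kd xd7 yd7 zd41) (kd xd13 yd52 zd12) (kd xd13 yd23 zd21) (kd xd13 yd43 zd44) (kd xd13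 yd23 zd22) (kd xd13 yd27 zd41) (kd xd13 yd26 zd51) (kd xd13 yd27 zd49) (kd xd13 yd4 zd14) (kd xd16 yd7 zd47) (kd xd15 yd4 zd59) (kd xd7 yd7 zd48) (kd xd22 yd51 zd8) (kd xd7 yd7 zd50) (kd xd22 yd51 zd10) (kd xd22 yd51 zd11) (kd xd16 yd53 zd6) (kd xd7 yd7 zd52) (kd xd19 yd52 zd12) (kd xd7 yd7 zd53) (kd xd12 yd6 zd22) (kd xd22 yd51 zd14) (kd xd7 yd7 zd54) (kd xd22 yd51 zd17) (kd xd21 yd14 zd9) (kd xd22 yd51 zd25) (kd xd7 yd7 zd56) (kd xd22 yd51 zd27) (kd xd7 yd7 zd57) (kd xd7 yd7 zd58) (kd xd8 yd1 zd42) (kd xd19 yd14 zd58) (kd xd14 yd28 zd13) (kd xd14 yd28 zd14) (kd xd12 yd45 zd47) (kd xd22 yd41 zd36) (kd xd22 yd41 zd38) (kd xd22 yd39 zd53) (kd xd13 yd35 zd33) (kd xd10 yd3 zd40) (kd xd7 yd8 zd2) (kd xd16 yd35 zd21) (kd xd7 yd8 zd4) (kd xd7 yd8 zd5) (kd xd13 yd48 zd14)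 (kd xd13 yd51 zd18) (kd xd13 yd51 zd19) (kd xd22 yd51 zd56) (kd xd7 yd8 zd7) (kd xd22 yd51 zd58) (kd xd7 yd8 zd8) (kd xd12 yd6 zd12) (kd xd8 yd2 zd6)) (@D3.rec (fun _ => Pt) (kd xd13 yd42 zd27) (kd xd13 yd27 zd9) (kd xd13 yd27 zd11) (kd xd13 yd38 zd37) (kd xd12 yd45 zd45) (kd xd21 yd51 zd48) (kd xd7 yd56 zd56) (kd xd9 yd22 zd61) (kd xd22 yd52 zd9) (kd xd22 yd52 zd10) (kd xd7 yd8 zd16) (kd xd22 yd52 zd12) (kd xd7 yd8 zd18) (kd xd7 yd19 zd15) (kd xd20 yd49 zd29) (kd xd7 yd8 zd20) (kd xd7 yd8 zd21) (kd xd16 yd26 zd1) (kd xd7 yd8 zd22) (kd xd22 yd52 zd26) (kd xd22 yd52 zd30) (kd xd7 yd8 zd24) (kd xd7 yd8 zd25) (kd xd20 yd2 zd59) (kd xd14 yd58 zd61) (kd xd22 yd52 zd41) (kd xd8 yd48 zd11) (kd xd22 yd52 zd47) (kd xd18 yd40 zd50) (kd xd22 yd52 zd53) (kd xd22 yd52 zd55) (kd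 xd20 yd29 zd10) (kd xd13 yd42 zd17) (kd xd22 yd52 zd58) (kd xd7 yd8 zd31) (kd xd7 yd8 zd32) (kd xd20 yd32 zd29) (kd xd7 yd8 zd33) (kd xd13 yd51 zd6) (kd xd13 yd51 zd7) (kd xd22 yd53 zd11) (kd xd22 yd53 zd15) (kd xd13 yd47 zd53) (kd xd13 yd47 zd54) (kd xd7 yd8 zd35) (kd xd13 yd27 zd48) (kd xd14 yd1 zd23) (kd xd13 yd27 zd50) (kd xd14 yd18 zd29) (kd xd13 yd41 zd57) (kd xd7 yd40 zd18) (kd xd7 yd40 zd14) (kd xd22 yd53 zd30) (kd xd7 yd8 zd41) (kd xd22 yd53 zd35) (kd xd22 yd53 zd39) (kd xd22 yd53 zd41) (kd xd7 yd8 zd42) (kd xd22 yd53 zd46) (kd xd13 yd46 zd45) (kd xd7 yd8 zd44) (kd xd15 yd18 zd24)) (@D3.rec (fun _ => Pt) (kd xd7 yd8 zd45) (kd xd22 yd53 zd49) (kd xd7 yd8 zd46) (kd xd22 yd53 zd52) (kd xd19 yd56 zd40) (kd xd13 yd50 zd43) (kd xd22 yd37 zd56) (kd xd13 yd47 zd22)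 (kd xd12 yd7 zd42) (kd xd7 yd8 zd48) (kd xd22 yd42 zd41) (kd xd22 yd53 zd55) (kd xd7 yd8 zd51) (kd xd22 yd53 zd60) (kd xd22 yd38 zd52) (kd xd22 yd38 zd53) (kd xd22 yd32 zd39) (kd xd22 yd54 zd5) (kd xd22 yd54 zd10) (kd xd7 yd8 zd55) (kd xd22 yd29 zd25) (kd xd14 yd18 zd21) (kd xd14 yd18 zd23) (kd xd7 yd42 zd37) (kd xd8 yd6 zd22) (kd xd22 yd54 zd23) (kd xd22 yd54 zd25) (kd xd22 yd29 zd28) (kd xd22 yd54 zd28) (kd xd17 yd36 zd5) (kd xd7 yd8 zd59) (kd xd22 yd42 zd16) (kd xd15 yd31 zd59) (kd xd7 yd8 zd60) (kd xd22 yd54 zd38) (kd xd22 yd54 zd41) (kd xd22 yd54 zd43) (kd xd22 yd42 zd19) (kd xd7 yd40 zd22) (kd xd22 yd54 zd48) (kd xd13 yd32 zd43) (kd xd7 yd9 zd2) (kd xd15 yd32 zd27) (kd xd13 yd32 zd40) (kd xd19 yd37 zd27) (kd xd7 yd9 zd3) (kd xd22 yd48 zd40) (kd xd7 yd9 zd22) (kd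 xd7 yd9 zd40) (kd xd20 yd41 zd30) (kd xd22 yd55 zd7) (kd xd22 yd55 zd10) (kd xd22 yd55 zd12) (kd xd22 yd55 zd15) (kd xd22 yd55 zd16) (kd xd7 yd9 zd9) (kd xd13 yd46 zd3) (kd xd7 yd24 zd7) (kd xd20 yd31 zd29) (kd xd20 yd31 zd28) (kd xd22 yd55 zd24) (kd xd7 yd9 zd14)) (@D3.rec (fun _ => Pt) (kd xd7 yd40 zd5) (kd xd13 yd43 zd32) (kd xd22 yd55 zd31) (kd xd7 yd9 zd16) (kd xd7 yd9 zd17) (kd xd22 yd55 zd36) (kd xd13 yd51 zd53) (kd xd13 yd51 zd54) (kd xd22 yd55 zd43) (kd xd22 yd55 zd47) (kd xd13 yd49 zd6) (kd xd7 yd9 zd19) (kd xd13 yd23 zd20) (kd xd7 yd42 zd36) (kd xd11 yd20 zd49) (kd xd13 yd51 zd60) (kd xd7 yd42 zd35) (kd xd13 yd41 zd12) (kd xd22 yd54 zd60) (kd xd22 yd55 zd61) (kd xd22 yd56 zd3) (kd xd22 yd56 zd6) (kd xd7 yd9 zd23) (kd xd22 yd56 zd11) (kd xd13 yd46 zd59) (kd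 xd14 yd19 zd18) (kd xd14 yd18 zd25) (kd xd10 yd47 zd16) (kd xd10 yd47 zd15) (kd xd22 yd56 zd16) (kd xd7 yd9 zd28) (kd xd22 yd30 zd2) (kd xd22 yd56 zd21) (kd xd22 yd56 zd22) (kd xd7 yd9 zd30) (kd xd22 yd41 zd35) (kd xd13 yd42 zd28) (kd xd22 yd41 zd37) (kd xd22 yd56 zd34) (kd xd7 yd9 zd34) (kd xd7 yd9 zd36) (kd xd7 yd9 zd37) (kd xd20 yd36 zd29) (kd xd14 yd28 zd26) (kd xd13 yd26 zd55) (kd xd22 yd56 zd46) (kd xd22 yd56 zd48) (kd xd13 yd38 zd53) (kd xd7 yd9 zd39) (kd xd20 yd36 zd8) (kd xd22 yd55 zd0) (kd xd22 yd56 zd50) (kd xd16 yd24 zd39) (kd xd14 yd59 zd26) (kd xd7 yd9 zd41) (kd xd22 yd56 zd58) (kd xd7 yd46 zd59) (kd xd7 yd9 zd43) (kd xd14 yd26 zd3) (kd xd22 yd53 zd1) (kd xd7 yd9 zd44) (kd xd22 yd33 zd0)) (@D3.rec (fun _ => Pt) (kd xd21 yd14 zd58) (kd xd22 yd57 zd6) (kd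 xd22 yd57 zd8) (kd xd22 yd57 zd9) (kd xd7 yd9 zd51) (kd xd7 yd41 zd50) (kd xd14 yd1 zd21) (kd xd22 yd29 zd57) (kd xd14 yd1 zd22) (kd xd7 yd36 zd60) (kd xd18 yd52 zd56) (kd xd8 yd16 zd51) (kd xd22 yd57 zd28) (kd xd22 yd57 zd32) (kd xd7 yd10 zd52) (kd xd22 yd30 zd21) (kd xd22 yd30 zd22) (kd xd20 yd33 zd12) (kd xd7 yd9 zd59) (kd xd13 yd49 zd2) (kd xd22 yd48 zd47) (kd xd22 yd48 zd48) (kd xd13 yd35 zd57) (kd xd22 yd57 zd37) (kd xd22 yd57 zd38) (kd xd7 yd10 zd0) (kd xd7 yd10 zd1) (kd xd7 yd10 zd2) (kd xd7 yd10 zd9) (kd xd7 yd10 zd10) (kd xd22 yd57 zd49) (kd xd18 yd51 zd49) (kd xd22 yd57 zd52) (kd xd22 yd57 zd55) (kd xd18 yd5 zd49) (kd xd20 yd33 zd11) (kd xd20 yd33 zd10) (kd xd22 yd31 zd46) (kd xd13 yd26 zd59) (kd xd22 yd57 zd44) (kd xd7 yd10 zd11) (kd xd14 yd16 zd4) (kd xd22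 yd34 zd19) (kd xd22 yd58 zd4) (kd xd22 yd41 zd47) (kd xd7 yd10 zd13) (kd xd14 yd13 zd10) (kd xd22 yd58 zd7) (kd xd22 yd58 zd9) (kd xd7 yd10 zd14) (kd xd22 yd58 zd14) (kd xd13 yd29 zd44) (kd xd22 yd39 zd28) (kd xd22 yd35 zd51) (kd xd22 yd58 zd19) (kd xd22 yd32 zd37) (kd xd22 yd35 zd54) (kd xd22 yd58 zd22) (kd xd22 yd58 zd23) (kd xd7 yd10 zd21) (kd xd22 yd58 zd26) (kd xd18 yd23 zd4)) (@D3.rec (fun _ => Pt) (kd xd7 yd10 zd22) (kd xd7 yd15 zd58) (kd xd7 yd15 zd59) (kd xd22 yd58 zd36) (kd xd22 yd58 zd39) (kd xd22 yd37 zd61) (kd xd7 yd10 zd24) (kd xd22 yd58 zd46) (kd xd22 yd58 zd47) (kd xd7 yd10 zd25) (kd xd22 yd58 zd52) (kd xd13 yd47 zd27) (kd xd22 yd58 zd54) (kd xd19 yd15 zd47) (kd xd7 yd10 zd27) (kd xd22 yd36 zd37) (kd xd22 yd36 zd9) (kd xd7 yd10 zd28) (kd xd22 yd32 zd26)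 (kd xd7 yd10 zd29) (kd xd22 yd59 zd5) (kd xd7 yd16 zd4) (kd xd7 yd16 zd5) (kd xd8 yd19 zd8) (kd xd22 yd59 zd15) (kd xd22 yd39 zd35) (kd xd22 yd39 zd36) (kd xd7 yd10 zd31) (kd xd13 yd22 zd29) (kd xd22 yd59 zd20) (kd xd22 yd59 zd22) (kd xd7 yd10 zd32) (kd xd22 yd59 zd27) (kd xd13 yd30 zd47) (kd xd22 yd36 zd38) (kd xd22 yd59 zd29) (kd xd7 yd10 zd35) (kd xd13 yd49 zd54) (kd xd13 yd11 zd54) (kd xd13 yd7 zd29) (kd xd22 yd59 zd33) (kd xd22 yd59 zd34) (kd xd7 yd10 zd39) (kd xd13 yd49 zd55) (kd xd14 yd41 zd27) (kd xd7 yd16 zd10) (kd xd13 yd8 zd43) (kd xd7 yd18 zd37) (kd xd13 yd20 zd9) (kd xd8 yd30 zd44) (kd xd22 yd17 zd36) (kd xd10 yd57 zd2) (kd xd13 yd49 zd50) (kd xd22 yd59 zd52) (kd xd22 yd59 zd54) (kd xd10 yd56 zd20) (kd xd14 yd56 zd38) (kd xd13 yd34 zd22) (kd xd15 yd56 zd53)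 (kd xd10 yd27 zd2) (kd xd18 yd53 zd22) (kd xd19 yd15 zd21)) (@D3.rec (fun _ => Pt) (kd xd10 yd26 zd61) (kd xd7 yd13 zd18) (kd xd7 yd13 zd19) (kd xd13 yd6 zd15) (kd xd17 yd1 zd3) (kd xd23 yd0 zd10) (kd xd22 yd39 zd19) (kd xd7 yd10 zd49) (kd xd23 yd0 zd16) (kd xd23 yd0 zd20) (kd xd23 yd0 zd23) (kd xd7 yd10 zd50) (kd xd14 yd38 zd33) (kd xd23 yd0 zd33) (kd xd18 yd48 zd57) (kd xd7 yd10 zd51) (kd xd23 yd0 zd39) (kd xd22 yd37 zd14) (kd xd23 yd0 zd42) (kd xd23 yd0 zd45) (kd xd7 yd52 zd56) (kd xd7 yd52 zd27) (kd xd20 yd43 zd16) (kd xd7 yd52 zd57) (kd xd7 yd52 zd25) (kd xd14 yd32 zd46) (kd xd7 yd52 zd29) (kd xd7 yd52 zd28) (kd xd7 yd10 zd56) (kd xd23 yd0 zd58) (kd xd23 yd0 zd60) (kd xd23 yd1 zd1) (kd xd7 yd10 zd58) (kd xd23 yd1 zd3) (kd xd7 yd10 zd59) (kd xd7 yd52 zd24) (kd xd13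 yd36 zd45) (kd xd13 yd25 zd36) (kd xd11 yd36 zd36) (kd xd9 yd10 zd36) (kd xd7 yd11 zd2) (kd xd7 yd52 zd41) (kd xd13 yd9 zd30) (kd xd7 yd11 zd4) (kd xd22 yd32 zd14) (kd xd13 yd36 zd36) (kd xd22 yd36 zd51) (kd xd23 yd1 zd15) (kd xd7 yd11 zd7) (kd xd7 yd11 zd8) (kd xd7 yd52 zd16) (kd xd8 yd26 zd35) (kd xd14 yd49 zd27) (kd xd14 yd49 zd17) (kd xd7 yd43 zd44) (kd xd13 yd3 zd35) (kd xd11 yd42 zd58) (kd xd13 yd3 zd37) (kd xd14 yd49 zd19) (kd xd14 yd0 zd50) (kd xd23 yd1 zd34) (kd xd7 yd11 zd12)) (@D3.rec (fun _ => Pt) (kd xd23 yd1 zd38) (kd xd17 yd23 zd35) (kd xd7 yd11 zd13) (kd xd23 yd1 zd43) (kd xd13 yd20 zd28) (kd xd13 yd20 zd31) (kd xd12 yd25 zd61) (kd xd14 yd29 zd4) (kd xd11 yd2 zd52) (kd xd13 yd8 zd42) (kd xd13 yd25 zd14) (kd xd22 yd16 zd7) (kd xd13 yd37 zd24) (kd xd21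 yd26 zd4) (kd xd21 yd26 zd5) (kd xd18 yd37 zd30) (kd xd7 yd11 zd22) (kd xd18 yd37 zd0) (kd xd7 yd11 zd24) (kd xd13 yd55 zd7) (kd xd22 yd28 zd6) (kd xd22 yd45 zd58) (kd xd13 yd48 zd38) (kd xd22 yd30 zd38) (kd xd13 yd37 zd12) (kd xd15 yd14 zd49) (kd xd23 yd2 zd9) (kd xd23 yd2 zd13) (kd xd13 yd59 zd21) (kd xd13 yd6 zd0) (kd xd13 yd5 zd40) (kd xd22 yd16 zd23) (kd xd7 yd11 zd33) (kd xd13 yd13 zd24) (kd xd13 yd7 zd49) (kd xd23 yd2 zd22) (kd xd7 yd11 zd35) (kd xd7 yd11 zd36) (kd xd13 yd49 zd57) (kd xd22 yd16 zd5) (kd xd12 yd48 zd43) (kd xd12 yd48 zd44) (kd xd21 yd56 zd28) (kd xd7 yd11 zd38) (kd xd23 yd2 zd35) (kd xd23 yd2 zd38) (kd xd7 yd11 zd40) (kd xd12 yd12 zd13) (kd xd23 yd2 zd42) (kd xd20 yd36 zd30) (kd xd12 yd12 zd16) (kd xd23 yd2 zd46) (kd xd23 yd2 zd48) (kd xd18 yd20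 zd61) (kd xd10 yd22 zd52) (kd xd10 yd23 zd1) (kd xd8 yd35 zd43) (kd xd7 yd11 zd47) (kd xd13 yd46 zd56) (kd xd14 yd44 zd61) (kd xd22 yd42 zd8) (kd xd13 yd14 zd6)) (@D3.rec (fun _ => Pt) (kd xd14 yd45 zd10) (kd xd22 yd42 zd14) (kd xd12 yd0 zd49) (kd xd23 yd3 zd5) (kd xd23 yd3 zd8) (kd xd23 yd3 zd12) (kd xd13 yd47 zd48) (kd xd13 yd49 zd1) (kd xd23 yd3 zd15) (kd xd23 yd3 zd17) (kd xd7 yd12 zd1) (kd xd22 yd55 zd48) (kd xd23 yd3 zd20) (kd xd16 yd26 zd42) (kd xd12 yd22 zd51) (kd xd23 yd3 zd22) (kd xd7 yd12 zd3) (kd xd17 yd54 zd46) (kd xd23 yd3 zd26) (kd xd23 yd3 zd28) (kd xd7 yd12 zd4) (kd xd22 yd48 zd31) (kd xd22 yd29 zd3) (kd xd22 yd28 zd37) (kd xd23 yd3 zd34) (kd xd7 yd12 zd6) (kd xd7 yd12 zd7) (kd xd16 yd34 zd34) (kd xd16 yd26 zd32) (kd xd7 yd56 zd48) (kd xd9 yd25 zd26)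 (kd xd9 yd14 zd4) (kd xd11 yd22 zd4) (kd xd7 yd12 zd12) (kd xd13 yd41 zd13) (kd xd8 yd45 zd52) (kd xd20 yd34 zd61) (kd xd13 yd31 zd3) (kd xd14 yd21 zd46) (kd xd9 yd59 zd3) (kd xd23 yd3 zd43) (kd xd9 yd56 zd2) (kd xd8 yd46 zd24) (kd xd23 yd3 zd46) (kd xd7 yd12 zd21) (kd xd13 yd41 zd58) (kd xd13 yd40 zd56) (kd xd13 yd41 zd59) (kd xd7 yd53 zd52) (kd xd13 yd41 zd46) (kd xd7 yd12 zd30) (kd xd7 yd12 zd32) (kd xd11 yd15 zd45) (kd xd13 yd33 zd47) (kd xd23 yd3 zd57) (kd xd7 yd12 zd34) (kd xd7 yd12 zd36) (kd xd13 yd40 zd53) (kd xd14 yd44 zd2) (kd xd13 yd40 zd54) (kd xd23 yd4 zd5) (kd xd23 yd4 zd6)) (@D3.rec (fun _ => Pt) (kd xd7 yd12 zd39) (kd xd13 yd43 zd39) (kd xd14 yd44 zd5) (kd xd14 yd22 zd58) (kd xd13 yd29 zd29) (kd xd14 yd17 zd41) (kd xd13 yd29 zd31) (kd xd14 yd44 zd6)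 (kd xd13 yd27 zd15) (kd xd13 yd27 zd46) (kd xd7 yd12 zd46) (kd xd14 yd40 zd36) (kd xd13 yd42 zd25) (kd xd22 yd31 zd1) (kd xd22 yd31 zd2) (kd xd14 yd17 zd28) (kd xd14 yd16 zd31) (kd xd13 yd48 zd27) (kd xd13 yd23 zd24) (kd xd7 yd12 zd52) (kd xd23 yd4 zd29) (kd xd14 yd44 zd15) (kd xd23 yd4 zd35) (kd xd23 yd4 zd37) (kd xd14 yd44 zd20) (kd xd23 yd4 zd39) (kd xd7 yd12 zd57) (kd xd23 yd4 zd41) (kd xd23 yd4 zd42) (kd xd7 yd12 zd58) (kd xd23 yd4 zd45) (kd xd7 yd12 zd59) (kd xd22 yd46 zd38) (kd xd14 yd25 zd23) (kd xd13 yd50 zd11) (kd xd13 yd11 zd50) (kd xd7 yd12 zd61) (kd xd7 yd13 zd0) (kd xd7 yd35 zd6) (kd xd7 yd41 zd49) (kd xd7 yd19 zd38) (kd xd23 yd5 zd1) (kd xd20 yd30 zd22) (kd xd7 yd13 zd2) (kd xd7 yd35 zd33) (kd xd22 yd3 zd7) (kd xd14 yd25 zd22) (kd xd14 yd25 zd15) (kd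 xd14 yd53 zd35) (kd xd7 yd17 zd39) (kd xd13 yd21 zd52) (kd xd7 yd17 zd42) (kd xd14 yd24 zd31) (kd xd13 yd23 zd36) (kd xd23 yd5 zd20) (kd xd7 yd13 zd6) (kd xd7 yd15 zd49) (kd xd13 yd28 zd34) (kd xd7 yd13 zd8) (kd xd20 yd37 zd14) (kd xd23 yd1 zd20) (kd xd7 yd13 zd9)) (@D3.rec (fun _ => Pt) (kd xd7 yd38 zd60) (kd xd13 yd15 zd9) (kd xd16 yd27 zd23) (kd xd15 yd53 zd23) (kd xd7 yd13 zd11) (kd xd7 yd35 zd3) (kd xd22 yd29 zd6) (kd xd14 yd23 zd17) (kd xd14 yd25 zd14) (kd xd14 yd25 zd10) (kd xd14 yd25 zd11) (kd xd7 yd13 zd15) (kd xd7 yd41 zd44) (kd xd7 yd15 zd4) (kd xd7 yd13 zd21) (kd xd23 yd0 zd1) (kd xd23 yd5 zd49) (kd xd23 yd0 zd4) (kd xd23 yd5 zd50) (kd xd20 yd8 zd59) (kd xd14 yd43 zd13) (kd xd23 yd5 zd58) (kd xd23 yd5 zd60) (kd xd23 yd5 zd48) (kd xd15 yd4 zd2) (kd xd17 yd55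 zd7) (kd xd20 yd37 zd8) (kd xd20 yd28 zd46) (kd xd20 yd28 zd47) (kd xd7 yd13 zd25) (kd xd7 yd13 zd27) (kd xd7 yd15 zd33) (kd xd7 yd15 zd39) (kd xd7 yd38 zd54) (kd xd7 yd13 zd29) (kd xd16 yd27 zd19) (kd xd22 yd8 zd37) (kd xd7 yd13 zd33) (kd xd8 yd45 zd57) (kd xd23 yd6 zd12) (kd xd23 yd6 zd14) (kd xd7 yd13 zd34) (kd xd23 yd6 zd15) (kd xd19 yd0 zd51) (kd xd16 yd34 zd60) (kd xd7 yd13 zd35) (kd xd13 yd4 zd15) (kd xd10 yd3 zd17) (kd xd16 yd35 zd1) (kd xd23 yd6 zd20) (kd xd7 yd13 zd39) (kd xd22 yd32 zd50) (kd xd22 yd56 zd35) (kd xd13 yd38 zd57) (kd xd13 yd38 zd59) (kd xd13 yd4 zd18) (kd xd13 yd38 zd46) (kd xd11 yd47 zd25) (kd xd8 yd45 zd51) (kd xd13 yd49 zd33) (kd xd17 yd48 zd46) (kd xd7 yd13 zd49)) (@D3.rec (fun _ => Pt) (kd xd7 yd56 zd40) (kd xd7 yd13 zd51) (kd xd13 yd27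 zd0) (kd xd7 yd17 zd5) (kd xd7 yd18 zd29) (kd xd13 yd17 zd28) (kd xd13 yd27 zd2) (kd xd23 yd6 zd38) (kd xd23 yd6 zd39) (kd xd7 yd13 zd54) (kd xd14 yd13 zd13) (kd xd13 yd15 zd24) (kd xd13 yd33 zd17) (kd xd13 yd38 zd34) (kd xd12 yd45 zd44) (kd xd22 yd39 zd29) (kd xd14 yd53 zd51) (kd xd18 yd46 zd61) (kd xd7 yd13 zd58) (kd xd13 yd22 zd32) (kd xd7 yd13 zd60) (kd xd13 yd22 zd16) (kd xd12 yd48 zd52) (kd xd7 yd14 zd0) (kd xd23 yd7 zd0) (kd xd7 yd14 zd1) (kd xd16 yd30 zd9) (kd xd7 yd14 zd3) (kd xd11 yd50 zd35) (kd xd7 yd14 zd4) (kd xd7 yd14 zd6) (kd xd23 yd7 zd4) (kd xd22 yd0 zd57) (kd xd7 yd14 zd9) (kd xd16 yd35 zd49) (kd xd23 yd7 zd5) (kd xd7 yd14 zd10) (kd xd23 yd7 zd6) (kd xd23 yd2 zd59) (kd xd23 yd2 zd60) (kd xd20 yd44 zd37) (kd xd7 yd14 zd12) (kd xd7 yd14 zd13) (kd xd11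 yd23 zd26) (kd xd10 yd36 zd22) (kd xd7 yd14 zd15) (kd xd13 yd38 zd49) (kd xd23 yd4 zd58) (kd xd13 yd24 zd33) (kd xd12 yd22 zd15) (kd xd7 yd14 zd18) (kd xd16 yd22 zd48) (kd xd14 yd58 zd40) (kd xd8 yd52 zd17) (kd xd7 yd14 zd20) (kd xd17 yd15 zd32) (kd xd7 yd14 zd21) (kd xd13 yd31 zd49) (kd xd13 yd38 zd45) (kd xd13 yd38 zd47) (kd xd23 yd7 zd32) (kd xd7 yd14 zd25)) (@D3.rec (fun _ => Pt) (kd xd13 yd22 zd27) (kd xd10 yd15 zd11) (kd xd7 yd14 zd27) (kd xd7 yd14 zd30) (kd xd8 yd44 zd8) (kd xd7 yd56 zd57) (kd xd23 yd7 zd43) (kd xd23 yd7 zd47) (kd xd7 yd14 zd32) (kd xd23 yd7 zd51) (kd xd21 yd12 zd48) (kd xd23 yd7 zd56) (kd xd14 yd59 zd60) (kd xd23 yd8 zd0) (kd xd15 yd12 zd52) (kd xd20 yd49 zd48) (kd xd11 yd42 zd21) (kd xd13 yd31 zd32) (kd xd11 yd50 zd34) (kd xd7 yd14 zd39) (kd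 xd7 yd14 zd40) (kd xd13 yd47 zd57) (kd xd14 yd45 zd1) (kd xd7 yd39 zd5) (kd xd7 yd39 zd6) (kd xd13 yd39 zd12) (kd xd7 yd39 zd2) (kd xd13 yd31 zd0) (kd xd13 yd33 zd36) (kd xd14 yd17 zd59) (kd xd7 yd14 zd44) (kd xd23 yd8 zd24) (kd xd23 yd8 zd27) (kd xd23 yd8 zd29) (kd xd14 yd45 zd4) (kd xd7 yd14 zd46) (kd xd23 yd8 zd33) (kd xd7 yd14 zd47) (kd xd7 yd14 zd48) (kd xd23 yd8 zd39) (kd xd13 yd47 zd21) (kd xd23 yd8 zd43) (kd xd7 yd14 zd50) (kd xd7 yd41 zd48) (kd xd23 yd8 zd49) (kd xd16 yd32 zd9) (kd xd8 yd48 zd8) (kd xd7 yd14 zd52) (kd xd21 yd28 zd36) (kd xd13 yd14 zd7) (kd xd22 yd41 zd17) (kd xd7 yd14 zd54) (kd xd20 yd7 zd60) (kd xd7 yd41 zd47) (kd xd7 yd14 zd55) (kd xd23 yd9 zd3) (kd xd23 yd9 zd6) (kd xd23 yd9 zd7) (kd xd7 yd14 zd57) (kd xd23 yd9 zd11) (kd xd21 yd14 zd48)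 (kd xd23 yd8 zd42)) (@D3.rec (fun _ => Pt) (kd xd7 yd14 zd58) (kd xd23 yd9 zd17) (kd xd20 yd50 zd11) (kd xd7 yd14 zd59) (kd xd22 yd56 zd2) (kd xd23 yd9 zd26) (kd xd23 yd9 zd30) (kd xd7 yd14 zd61) (kd xd23 yd9 zd34) (kd xd9 yd48 zd40) (kd xd7 yd15 zd0) (kd xd19 yd38 zd52) (kd xd8 yd16 zd1) (kd xd7 yd15 zd1) (kd xd22 yd53 zd38) (kd xd23 yd9 zd37) (kd xd23 yd9 zd39) (kd xd23 yd9 zd41) (kd xd7 yd15 zd2) (kd xd23 yd5 zd44) (kd xd7 yd15 zd15) (kd xd20 yd49 zd30) (kd xd23 yd9 zd51) (kd xd23 yd9 zd54) (kd xd23 yd9 zd57) (kd xd8 yd9 zd58) (kd xd13 yd10 zd26) (kd xd23 yd9 zd58) (kd xd23 yd9 zd59) (kd xd23 yd9 zd60) (kd xd7 yd15 zd8) (kd xd7 yd38 zd57) (kd xd13 yd33 zd1) (kd xd7 yd15 zd10) (kd xd7 yd15 zd11) (kd xd13 yd49 zd9) (kd xd13 yd49 zd10) (kd xd8 yd9 zd50) (kd xd13 yd15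 zd43) (kd xd13 yd39 zd1) (kd xd7 yd38 zd50) (kd xd8 yd47 zd6) (kd xd7 yd40 zd38) (kd xd7 yd38 zd43) (kd xd13 yd30 zd12) (kd xd9 yd48 zd42) (kd xd23 yd10 zd25) (kd xd23 yd10 zd29) (kd xd18 yd40 zd44) (kd xd13 yd15 zd49) (kd xd7 yd15 zd18) (kd xd7 yd15 zd19) (kd xd22 yd46 zd27) (kd xd22 yd41 zd29) (kd xd7 yd40 zd32) (kd xd14 yd52 zd8) (kd xd20 yd1 zd3) (kd xd11 yd11 zd37) (kd xd7 yd15 zd21) (kd xd7 yd38 zd59) (kd xd23 yd10 zd38) (kd xd23 yd10 zd42)) (@D3.rec (fun _ => Pt) (kd xd23 yd3 zd36) (kd xd7 yd15 zd23) (kd xd23 yd10 zd48) (kd xd8 yd45 zd50) (kd xd13 yd14 zd12) (kd xd11 yd33 zd15) (kd xd14 yd43 zd2) (kd xd7 yd38 zd53) (kd xd16 yd27 zd21) (kd xd9 yd6 zd60) (kd xd14 yd22 zd55) (kd xd14 yd22 zd56) (kd xd20 yd37 zd13) (kd xd7 yd41 zd24) (kd xd7 yd41 zd25) (kd xd14 yd29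 zd30) (kd xd7 yd15 zd40) (kd xd13 yd17 zd1) (kd xd19 yd34 zd33) (kd xd19 yd16 zd13) (kd xd23 yd11 zd3) (kd xd10 yd34 zd49) (kd xd7 yd15 zd42) (kd xd14 yd10 zd34) (kd xd14 yd10 zd36) (kd xd13 yd45 zd53) (kd xd13 yd45 zd55) (kd xd14 yd47 zd9) (kd xd7 yd16 zd11) (kd xd7 yd35 zd28) (kd xd7 yd42 zd39) (kd xd23 yd5 zd21) (kd xd23 yd11 zd21) (kd xd23 yd11 zd25) (kd xd23 yd0 zd11) (kd xd7 yd16 zd16) (kd xd7 yd45 zd50) (kd xd7 yd47 zd20) (kd xd22 yd47 zd3) (kd xd7 yd15 zd55) (kd xd7 yd16 zd39) (kd xd7 yd16 zd40) (kd xd15 yd56 zd56) (kd xd18 yd4 zd19) (kd xd18 yd4 zd20) (kd xd9 yd53 zd18) (kd xd12 yd34 zd37) (kd xd7 yd45 zd36) (kd xd22 yd58 zd31) (kd xd12 yd48 zd55) (kd xd23 yd11 zd38) (kd xd7 yd15 zd60) (kd xd18 yd57 zd16) (kd xd22 yd58 zd27) (kd xd7 yd15 zd61) (kd xd13 yd28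 zd53) (kd xd13 yd28 zd54) (kd xd23 yd11 zd46) (kd xd15 yd32 zd13) (kd xd18 yd45 zd51) (kd xd23 yd11 zd50) (kd xd7 yd16 zd1)) (@D3.rec (fun _ => Pt) (kd xd18 yd4 zd57) (kd xd18 yd4 zd61) (kd xd7 yd16 zd2) (kd xd14 yd35 zd21) (kd xd22 yd59 zd7) (kd xd22 yd59 zd10) (kd xd7 yd16 zd6) (kd xd13 yd28 zd48) (kd xd13 yd28 zd49) (kd xd21 yd27 zd17) (kd xd22 yd59 zd30) (kd xd7 yd16 zd8) (kd xd7 yd30 zd54) (kd xd13 yd4 zd60) (kd xd11 yd14 zd4) (kd xd10 yd57 zd14) (kd xd23 yd12 zd11) (kd xd23 yd12 zd14) (kd xd23 yd11 zd12) (kd xd13 yd27 zd17) (kd xd13 yd27 zd18) (kd xd7 yd18 zd34) (kd xd14 yd38 zd28) (kd xd23 yd12 zd22) (kd xd7 yd45 zd7) (kd xd14 yd38 zd34) (kd xd18 yd44 zd7) (kd xd23 yd12 zd30) (kd xd7 yd16 zd14) (kd xd22 yd48 zd43) (kd xd23 yd12 zd37) (kd xd23 yd12 zd39) (kd xd7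 yd16 zd15) (kd xd23 yd12 zd41) (kd xd23 yd12 zd42) (kd xd14 yd37 zd25) (kd xd14 yd21 zd4) (kd xd7 yd16 zd17) (kd xd13 yd21 zd20) (kd xd19 yd30 zd9) (kd xd7 yd16 zd19) (kd xd7 yd50 zd35) (kd xd13 yd8 zd40) (kd xd21 yd15 zd54) (kd xd7 yd16 zd21) (kd xd7 yd50 zd38) (kd xd13 yd4 zd23) (kd xd23 yd12 zd58) (kd xd20 yd28 zd54) (kd xd19 yd28 zd46) (kd xd7 yd16 zd23) (kd xd7 yd50 zd32) (kd xd13 yd10 zd27) (kd xd13 yd44 zd25) (kd xd17 yd23 zd19) (kd xd13 yd44 zd26) (kd xd13 yd7 zd32) (kd xd7 yd51 zd2) (kd xd7 yd50 zd48) (kd xd7 yd16 zd27) (kd xd23 yd13 zd4) (kd xd23 yd13 zd5)) (@D3.rec (fun _ => Pt) (kd xd23 yd13 zd7) (kd xd13 yd4 zd43) (kd xd14 yd28 zd27) (kd xd13 yd32 zd56) (kd xd14 yd45 zd53) (kd xd14 yd45 zd61) (kd xd14 yd46 zd1) (kd xd23 yd13 zd12) (kd xd23 yd13 zd15) (kd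 xd23 yd13 zd17) (kd xd7 yd16 zd32) (kd xd23 yd13 zd21) (kd xd13 yd11 zd29) (kd xd14 yd45 zd55) (kd xd14 yd32 zd31) (kd xd14 yd49 zd53) (kd xd7 yd32 zd43) (kd xd23 yd11 zd31) (kd xd7 yd32 zd42) (kd xd7 yd16 zd41) (kd xd8 yd19 zd13) (kd xd23 yd13 zd34) (kd xd23 yd13 zd36) (kd xd22 yd50 zd42) (kd xd11 yd36 zd19) (kd xd15 yd8 zd3) (kd xd7 yd16 zd46) (kd xd23 yd13 zd38) (kd xd7 yd16 zd47) (kd xd23 yd13 zd40) (kd xd23 yd13 zd41) (kd xd23 yd13 zd43) (kd xd7 yd16 zd48) (kd xd13 yd28 zd7) (kd xd23 yd13 zd47) (kd xd23 yd13 zd49) (kd xd7 yd16 zd49) (kd xd22 yd28 zd40) (kd xd7 yd30 zd31) (kd xd7 yd30 zd30) (kd xd23 yd13 zd59) (kd xd7 yd16 zd51) (kd xd23 yd14 zd0) (kd xd7 yd16 zd53) (kd xd7 yd16 zd54) (kd xd13 yd31 zd59) (kd xd20 yd32 zd30) (kd xd7 yd16 zd56) (kd xd14 yd53 zd30)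 (kd xd13 yd46 zd52) (kd xd14 yd53 zd32) (kd xd7 yd49 zd12) (kd xd13 yd46 zd49) (kd xd22 yd42 zd42) (kd xd13 yd47 zd1) (kd xd13 yd48 zd53) (kd xd13 yd37 zd58) (kd xd7 yd17 zd0) (kd xd7 yd18 zd18) (kd xd13 yd33 zd24) (kd xd23 yd6 zd4) (kd xd7 yd17 zd3)) (@D3.rec (fun _ => Pt) (kd xd23 yd6 zd32) (kd xd13 yd46 zd54) (kd xd23 yd6 zd33) (kd xd7 yd17 zd6) (kd xd23 yd14 zd39) (kd xd20 yd32 zd22) (kd xd23 yd14 zd40) (kd xd7 yd17 zd11) (kd xd16 yd53 zd5) (kd xd23 yd14 zd43) (kd xd23 yd14 zd45) (kd xd7 yd17 zd12) (kd xd22 yd47 zd58) (kd xd13 yd14 zd1) (kd xd14 yd45 zd19) (kd xd18 yd39 zd11) (kd xd13 yd50 zd38) (kd xd23 yd14 zd48) (kd xd7 yd17 zd17) (kd xd20 yd21 zd18) (kd xd7 yd17 zd18) (kd xd13 yd42 zd40) (kd xd13 yd32 zd7) (kd xd7 yd17 zd20) (kd xd13 yd29 zd47) (kd xd13 yd29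 zd48) (kd xd14 yd37 zd56) (kd xd13 yd35 zd11) (kd xd8 yd50 zd34) (kd xd7 yd17 zd24) (kd xd7 yd17 zd25) (kd xd7 yd17 zd27) (kd xd7 yd17 zd28) (kd xd10 yd1 zd23) (kd xd10 yd1 zd22) (kd xd23 yd15 zd4) (kd xd22 yd47 zd45) (kd xd23 yd15 zd10) (kd xd7 yd56 zd61) (kd xd23 yd15 zd14) (kd xd22 yd29 zd16) (kd xd23 yd15 zd19) (kd xd21 yd10 zd39) (kd xd23 yd15 zd23) (kd xd23 yd15 zd26) (kd xd23 yd15 zd0) (kd xd7 yd17 zd34) (kd xd23 yd15 zd36) (kd xd13 yd38 zd6) (kd xd23 yd15 zd38) (kd xd7 yd17 zd36) (kd xd7 yd17 zd37) (kd xd11 yd50 zd32) (kd xd13 yd31 zd42) (kd xd13 yd31 zd43) (kd xd23 yd15 zd47) (kd xd23 yd5 zd11) (kd xd13 yd42 zd21) (kd xd11 yd33 zd9) (kd xd13 yd14 zd28) (kd xd13 yd14 zd49) (kd xd13 yd14 zd30)) (@D3.rec (fun _ => Pt) (kd xd13 yd49 zd13) (kd xd13 yd49 zd15) (kd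 xd13 yd48 zd40) (kd xd23 yd16 zd8) (kd xd23 yd16 zd12) (kd xd23 yd16 zd14) (kd xd23 yd5 zd15) (kd xd7 yd17 zd43) (kd xd23 yd16 zd16) (kd xd7 yd17 zd44) (kd xd23 yd7 zd23) (kd xd22 yd30 zd39) (kd xd7 yd17 zd45) (kd xd14 yd45 zd16) (kd xd13 yd30 zd53) (kd xd13 yd13 zd42) (kd xd19 yd1 zd46) (kd xd8 yd44 zd12) (kd xd7 yd17 zd47) (kd xd14 yd53 zd33) (kd xd13 yd48 zd31) (kd xd23 yd16 zd28) (kd xd23 yd16 zd31) (kd xd22 yd51 zd30) (kd xd7 yd17 zd49) (kd xd22 yd18 zd48) (kd xd13 yd22 zd20) (kd xd13 yd39 zd17) (kd xd23 yd16 zd36) (kd xd11 yd24 zd51) (kd xd13 yd18 zd9) (kd xd13 yd48 zd20) (kd xd23 yd16 zd41) (kd xd23 yd16 zd45) (kd xd23 yd16 zd47) (kd xd7 yd17 zd55) (kd xd23 yd16 zd50) (kd xd20 yd25 zd41) (kd xd13 yd37 zd22) (kd xd22 yd47 zd50) (kd xd13 yd48 zd2) (kd xd23 yd16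 zd61) (kd xd22 yd52 zd49) (kd xd22 yd52 zd50) (kd xd22 yd47 zd54) (kd xd13 yd49 zd35) (kd xd23 yd17 zd10) (kd xd13 yd49 zd17) (kd xd23 yd16 zd11) (kd xd23 yd17 zd19) (kd xd23 yd17 zd24) (kd xd23 yd17 zd26) (kd xd7 yd17 zd61) (kd xd13 yd46 zd55) (kd xd23 yd15 zd35) (kd xd23 yd17 zd17) (kd xd23 yd17 zd36) (kd xd23 yd17 zd39) (kd xd23 yd17 zd41) (kd xd13 yd55 zd2) (kd xd23 yd17 zd43) (kd xd23 yd17 zd44)) (@D3.rec (fun _ => Pt) (kd xd7 yd18 zd6) (kd xd13 yd38 zd7) (kd xd13 yd34 zd19) (kd xd7 yd18 zd8) (kd xd7 yd18 zd9) (kd xd13 yd15 zd32) (kd xd13 yd33 zd10) (kd xd23 yd18 zd0) (kd xd23 yd18 zd4) (kd xd13 yd43 zd35) (kd xd13 yd43 zd36) (kd xd7 yd18 zd11) (kd xd7 yd47 zd60) (kd xd13 yd48 zd0) (kd xd7 yd48 zd2) (kd xd13 yd48 zd1) (kd xd13 yd27 zd43) (kd xd13 yd48 zd47) (kd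 xd23 yd18 zd22) (kd xd23 yd18 zd24) (kd xd23 yd18 zd27) (kd xd7 yd18 zd15) (kd xd23 yd18 zd31) (kd xd23 yd14 zd25) (kd xd23 yd14 zd31) (kd xd21 yd13 zd5) (kd xd7 yd18 zd19) (kd xd14 yd44 zd24) (kd xd7 yd18 zd22) (kd xd16 yd34 zd61) (kd xd13 yd15 zd26) (kd xd18 yd49 zd33) (kd xd10 yd29 zd49) (kd xd13 yd40 zd59) (kd xd16 yd35 zd0) (kd xd13 yd48 zd45) (kd xd23 yd18 zd41) (kd xd23 yd18 zd45) (kd xd22 yd49 zd54) (kd xd7 yd18 zd26) (kd xd18 yd49 zd37) (kd xd11 yd15 zd44) (kd xd13 yd23 zd47) (kd xd22 yd31 zd40) (kd xd22 yd46 zd13) (kd xd7 yd18 zd30) (kd xd13 yd28 zd40) (kd xd7 yd18 zd32) (kd xd13 yd4 zd26) (kd xd11 yd0 zd43) (kd xd13 yd35 zd52) (kd xd14 yd33 zd54) (kd xd22 yd24 zd46) (kd xd10 yd25 zd36) (kd xd13 yd35 zd37) (kd xd13 yd35 zd43) (kd xd13 yd3 zd40) (kd xd13 yd37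 zd38) (kd xd23 yd19 zd4) (kd xd23 yd19 zd8) (kd xd21 yd3 zd46) (kd xd7 yd18 zd40)) (@D3.rec (fun _ => Pt) (kd xd23 yd19 zd14) (kd xd7 yd43 zd42) (kd xd14 yd5 zd57) (kd xd17 yd35 zd39) (kd xd7 yd18 zd44) (kd xd23 yd19 zd18) (kd xd7 yd18 zd45) (kd xd8 yd2 zd24) (kd xd23 yd19 zd20) (kd xd23 yd19 zd22) (kd xd7 yd18 zd50) (kd xd13 yd39 zd34) (kd xd23 yd19 zd26) (kd xd23 yd19 zd28) (kd xd7 yd18 zd51) (kd xd22 yd29 zd11) (kd xd13 yd15 zd3) (kd xd13 yd15 zd4) (kd xd23 yd19 zd37) (kd xd23 yd19 zd38) (kd xd7 yd18 zd54) (kd xd16 yd29 zd38) (kd xd7 yd18 zd56) (kd xd16 yd57 zd2) (kd xd16 yd52 zd41) (kd xd12 yd7 zd51) (kd xd17 yd53 zd43) (kd xd16 yd21 zd34) (kd xd20 yd7 zd49) (kd xd20 yd7 zd27) (kd xd11 yd48 zd19) (kd xd7 yd18 zd61) (kd xd7 yd30 zd29) (kd xd7 yd30 zd34) (kd xd7 yd53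 zd51) (kd xd16 yd55 zd30) (kd xd7 yd19 zd2) (kd xd7 yd46 zd51) (kd xd13 yd47 zd16) (kd xd16 yd59 zd48) (kd xd21 yd51 zd29) (kd xd7 yd19 zd7) (kd xd14 yd58 zd39) (kd xd13 yd32 zd5) (kd xd13 yd14 zd0) (kd xd7 yd19 zd13) (kd xd8 yd3 zd25) (kd xd23 yd19 zd54) (kd xd22 yd52 zd16) (kd xd23 yd19 zd58) (kd xd21 yd30 zd42) (kd xd23 yd19 zd61) (kd xd16 yd22 zd40) (kd xd23 yd20 zd4) (kd xd20 yd29 zd32) (kd xd23 yd20 zd8) (kd xd23 yd20 zd11) (kd xd16 yd12 zd3) (kd xd7 yd19 zd20) (kd xd23 yd15 zd34) (kd xd23 yd20 zd17) (kd xd7 yd19 zd22)) (@D3.rec (fun _ => Pt) (kd xd7 yd19 zd23) (kd xd22 yd48 zd7) (kd xd7 yd49 zd0) (kd xd7 yd49 zd1) (kd xd18 yd23 zd43) (kd xd22 yd48 zd9) (kd xd13 yd31 zd38) (kd xd13 yd31 zd39) (kd xd23 yd20 zd25) (kd xd23 yd20 zd26) (kd xd22 yd48 zd14) (kd xd7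 yd19 zd27) (kd xd7 yd19 zd28) (kd xd22 yd29 zd29) (kd xd7 yd49 zd5) (kd xd7 yd49 zd6) (kd xd21 yd19 zd54) (kd xd22 yd29 zd31) (kd xd13 yd30 zd54) (kd xd13 yd30 zd55) (kd xd13 yd14 zd9) (kd xd23 yd20 zd36) (kd xd23 yd7 zd11) (kd xd18 yd16 zd4) (kd xd13 yd24 zd2) (kd xd23 yd20 zd42) (kd xd12 yd7 zd23) (kd xd8 yd35 zd6) (kd xd21 yd43 zd6) (kd xd23 yd20 zd53) (kd xd23 yd20 zd55) (kd xd7 yd19 zd35) (kd xd20 yd31 zd36) (kd xd13 yd24 zd5) (kd xd21 yd25 zd6) (kd xd23 yd4 zd57) (kd xd12 yd0 zd56) (kd xd16 yd10 zd21) (kd xd23 yd8 zd2) (kd xd23 yd8 zd3) (kd xd23 yd5 zd0) (kd xd12 yd3 zd24) (kd xd23 yd21 zd10) (kd xd12 yd3 zd23) (kd xd14 yd39 zd20) (kd xd12 yd34 zd33) (kd xd12 yd34 zd34) (kd xd21 yd27 zd45) (kd xd7 yd19 zd43) (kd xd7 yd19 zd44) (kd xd21 yd14 zd59) (kd xd14 yd48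 zd5) (kd xd23 yd21 zd25) (kd xd13 yd33 zd6) (kd xd13 yd33 zd7) (kd xd7 yd19 zd46) (kd xd23 yd21 zd30) (kd xd23 yd21 zd34) (kd xd7 yd19 zd47) (kd xd23 yd21 zd38) (kd xd13 yd33 zd15) (kd xd7 yd19 zd50)) (@D3.rec (fun _ => Pt) (kd xd7 yd19 zd51) (kd xd22 yd50 zd2) (kd xd7 yd48 zd55) (kd xd7 yd48 zd56) (kd xd23 yd21 zd47) (kd xd18 yd58 zd45) (kd xd13 yd30 zd4) (kd xd7 yd19 zd53) (kd xd10 yd1 zd57) (kd xd16 yd21 zd4) (kd xd7 yd19 zd54) (kd xd23 yd21 zd54) (kd xd13 yd30 zd10) (kd xd7 yd55 zd19) (kd xd12 yd30 zd39) (kd xd23 yd22 zd0) (kd xd13 yd12 zd9) (kd xd20 yd48 zd2) (kd xd7 yd19 zd59) (kd xd20 yd47 zd54) (kd xd22 yd13 zd23) (kd xd7 yd20 zd2) (kd xd23 yd22 zd9) (kd xd12 yd19 zd2) (kd xd23 yd22 zd11) (kd xd23 yd22 zd15) (kd xd7 yd20 zd5) (kd xd23 yd22 zd21) (kd xd7 yd20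 zd6) (kd xd19 yd59 zd45) (kd xd7 yd20 zd7) (kd xd9 yd38 zd22) (kd xd12 yd17 zd26) (kd xd22 yd18 zd43) (kd xd22 yd18 zd50) (kd xd22 yd18 zd54) (kd xd22 yd18 zd55) (kd xd23 yd22 zd38) (kd xd7 yd20 zd13) (kd xd23 yd22 zd17) (kd xd18 yd2 zd48) (kd xd7 yd20 zd15) (kd xd18 yd18 zd31) (kd xd7 yd20 zd17) (kd xd19 yd54 zd23) (kd xd16 yd9 zd49) (kd xd15 yd43 zd39) (kd xd7 yd20 zd23) (kd xd21 yd32 zd56) (kd xd23 yd22 zd47) (kd xd23 yd22 zd48) (kd xd7 yd20 zd24) (kd xd23 yd22 zd52) (kd xd7 yd20 zd25) (kd xd23 yd22 zd55) (kd xd12 yd35 zd19) (kd xd7 yd20 zd26) (kd xd22 yd44 zd0) (kd xd21 yd14 zd31) (kd xd23 yd22 zd61) (kd xd7 yd20 zd28) (kd xd7 yd33 zd2)) (@D3.rec (fun _ => Pt) (kd xd23 yd23 zd3) (kd xd18 yd18 zd30) (kd xd23 yd23 zd5) (kd xd7 yd20 zd30) (kd xd23 yd23 zd9) (kd xd16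 yd5 zd12) (kd xd7 yd20 zd31) (kd xd14 yd6 zd18) (kd xd23 yd23 zd14) (kd xd7 yd20 zd32) (kd xd14 yd38 zd40) (kd xd11 yd16 zd48) (kd xd7 yd20 zd34) (kd xd23 yd23 zd19) (kd xd23 yd23 zd20) (kd xd7 yd20 zd35) (kd xd13 yd56 zd54) (kd xd13 yd5 zd22) (kd xd13 yd56 zd56) (kd xd7 yd20 zd38) (kd xd18 yd0 zd35) (kd xd22 yd12 zd24) (kd xd20 yd53 zd27) (kd xd22 yd20 zd47) (kd xd20 yd53 zd24) (kd xd13 yd21 zd10) (kd xd22 yd36 zd52) (kd xd7 yd53 zd61) (kd xd7 yd20 zd44) (kd xd13 yd58 zd8) (kd xd13 yd58 zd9) (kd xd23 yd23 zd45) (kd xd7 yd20 zd47) (kd xd23 yd23 zd47) (kd xd7 yd20 zd48) (kd xd23 yd23 zd48) (kd xd16 yd53 zd61) (kd xd7 yd20 zd49) (kd xd7 yd20 zd60) (kd xd19 yd21 zd19) (kd xd23 yd23 zd49) (kd xd22 yd18 zd47) (kd xd7 yd20 zd53) (kd xd19 yd22 zd2) (kd xd7 yd20 zd54) (kd xd23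 yd23 zd51) (kd xd13 yd2 zd41) (kd xd14 yd52 zd57) (kd xd20 yd47 zd48) (kd xd12 yd24 zd23) (kd xd21 yd23 zd28) (kd xd17 yd31 zd41) (kd xd23 yd24 zd2) (kd xd23 yd24 zd3) (kd xd23 yd24 zd4) (kd xd23 yd24 zd6) (kd xd23 yd24 zd7) (kd xd7 yd21 zd3) (kd xd7 yd51 zd9) (kd xd15 yd18 zd23) (kd xd7 yd21 zd7) (kd xd23 yd24 zd10)) (@D3.rec (fun _ => Pt) (kd xd23 yd24 zd11) (kd xd7 yd21 zd9) (kd xd12 yd14 zd38) (kd xd23 yd24 zd13) (kd xd23 yd24 zd15) (kd xd7 yd21 zd11) (kd xd23 yd24 zd19) (kd xd7 yd21 zd12) (kd xd22 yd44 zd5) (kd xd14 yd10 zd7) (kd xd19 yd35 zd17) (kd xd8 yd22 zd41) (kd xd17 yd32 zd11) (kd xd7 yd21 zd14) (kd xd14 yd5 zd32) (kd xd17 yd32 zd12) (kd xd14 yd38 zd43) (kd xd23 yd24 zd28) (kd xd23 yd24 zd31) (kd xd7 yd21 zd17) (kd xd13 yd56 zd9) (kd xd14 yd6 zd27) (kd xd14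 yd51 zd40) (kd xd14 yd5 zd38) (kd xd14 yd6 zd21) (kd xd14 yd5 zd40) (kd xd22 yd42 zd51) (kd xd23 yd24 zd35) (kd xd23 yd24 zd36) (kd xd7 yd21 zd25) (kd xd7 yd35 zd37) (kd xd23 yd24 zd40) (kd xd23 yd24 zd43) (kd xd23 yd24 zd45) (kd xd7 yd21 zd27) (kd xd23 yd24 zd50) (kd xd23 yd24 zd52) (kd xd23 yd24 zd54) (kd xd7 yd21 zd28) (kd xd14 yd45 zd46) (kd xd23 yd24 zd58) (kd xd13 yd5 zd7) (kd xd13 yd5 zd6) (kd xd23 yd25 zd4) (kd xd7 yd21 zd31) (kd xd23 yd25 zd7) (kd xd9 yd17 zd4) (kd xd7 yd21 zd32) (kd xd7 yd50 zd11) (kd xd23 yd25 zd16) (kd xd7 yd21 zd33) (kd xd17 yd12 zd21) (kd xd7 yd52 zd4) (kd xd22 yd16 zd52) (kd xd7 yd21 zd35) (kd xd23 yd25 zd22) (kd xd19 yd56 zd18) (kd xd7 yd21 zd36) (kd xd13 yd54 zd61) (kd xd14 yd54 zd26) (kd xd13 yd13 zd47) (kd xd13 yd54 zd58)) (@D3.rec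 (fun _ => Pt) (kd xd22 yd43 zd21) (kd xd7 yd50 zd17) (kd xd13 yd48 zd59) (kd xd7 yd50 zd20) (kd xd13 yd55 zd13) (kd xd13 yd55 zd11) (kd xd14 yd0 zd18) (kd xd13 yd37 zd19) (kd xd7 yd21 zd42) (kd xd7 yd21 zd43) (kd xd7 yd24 zd26) (kd xd13 yd55 zd5) (kd xd23 yd1 zd4) (kd xd13 yd55 zd4) (kd xd21 yd31 zd20) (kd xd7 yd21 zd46) (kd xd14 yd0 zd27) (kd xd7 yd21 zd48) (kd xd23 yd25 zd60) (kd xd7 yd21 zd50) (kd xd23 yd25 zd61) (kd xd23 yd26 zd2) (kd xd7 yd21 zd51) (kd xd23 yd26 zd7) (kd xd7 yd21 zd52) (kd xd23 yd22 zd46) (kd xd23 yd26 zd10) (kd xd7 yd21 zd53) (kd xd15 yd18 zd21) (kd xd14 yd55 zd15) (kd xd14 yd53 zd56) (kd xd16 yd25 zd11) (kd xd7 yd25 zd1) (kd xd9 yd10 zd9) (kd xd9 yd10 zd48) (kd xd14 yd21 zd28) (kd xd14 yd38 zd44) (kd xd7 yd21 zd56) (kd xd14 yd39 zd14) (kd xd23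 yd26 zd21) (kd xd23 yd26 zd24) (kd xd7 yd21 zd58) (kd xd14 yd39 zd13) (kd xd23 yd26 zd30) (kd xd11 yd42 zd14) (kd xd7 yd21 zd59) (kd xd8 yd21 zd15) (kd xd23 yd26 zd35) (kd xd20 yd17 zd3) (kd xd7 yd21 zd60) (kd xd23 yd26 zd39) (kd xd23 yd23 zd12) (kd xd14 yd3 zd0) (kd xd23 yd26 zd48) (kd xd7 yd22 zd0) (kd xd23 yd26 zd51) (kd xd23 yd26 zd52) (kd xd7 yd22 zd1) (kd xd14 yd3 zd18) (kd xd12 yd37 zd7) (kd xd14 yd3 zd20) (kd xd23 yd26 zd61)) (@D3.rec (fun _ => Pt) (kd xd23 yd27 zd0) (kd xd7 yd22 zd4) (kd xd14 yd2 zd32) (kd xd22 yd22 zd16) (kd xd14 yd55 zd14) (kd xd14 yd2 zd30) (kd xd23 yd2 zd23) (kd xd7 yd45 zd35) (kd xd14 yd2 zd27) (kd xd13 yd54 zd20) (kd xd14 yd55 zd26) (kd xd23 yd27 zd17) (kd xd23 yd27 zd18) (kd xd23 yd27 zd19) (kd xd23 yd27 zd21) (kd xd7 yd22 zd14) (kd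 xd23 yd27 zd23) (kd xd7 yd22 zd16) (kd xd7 yd32 zd8) (kd xd23 yd27 zd26) (kd xd14 yd52 zd26) (kd xd21 yd49 zd32) (kd xd7 yd22 zd19) (kd xd23 yd27 zd31) (kd xd7 yd22 zd20) (kd xd14 yd55 zd24) (kd xd14 yd48 zd33) (kd xd23 yd27 zd39) (kd xd7 yd22 zd22) (kd xd23 yd27 zd43) (kd xd7 yd22 zd23) (kd xd23 yd27 zd50) (kd xd11 yd58 zd18) (kd xd7 yd22 zd24) (kd xd23 yd27 zd54) (kd xd23 yd24 zd27) (kd xd14 yd2 zd17) (kd xd23 yd28 zd2) (kd xd7 yd22 zd26) (kd xd7 yd22 zd27) (kd xd12 yd34 zd28) (kd xd7 yd49 zd39) (kd xd7 yd51 zd6) (kd xd14 yd53 zd6) (kd xd12 yd48 zd8) (kd xd23 yd28 zd13) (kd xd23 yd28 zd14) (kd xd7 yd22 zd30) (kd xd14 yd51 zd35) (kd xd14 yd53 zd8) (kd xd14 yd51 zd37) (kd xd14 yd48 zd42) (kd xd14 yd52 zd61) (kd xd14 yd9 zd55) (kd xd13 yd53 zd16) (kd xd14 yd52 zd30)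 (kd xd13 yd53 zd18) (kd xd14 yd53 zd10) (kd xd14 yd6 zd1) (kd xd13 yd25 zd22) (kd xd7 yd22 zd37) (kd xd14 yd33 zd55)) (@D3.rec (fun _ => Pt) (kd xd14 yd50 zd51) (kd xd23 yd28 zd49) (kd xd23 yd28 zd50) (kd xd7 yd22 zd41) (kd xd23 yd28 zd52) (kd xd23 yd28 zd53) (kd xd16 yd10 zd37) (kd xd7 yd22 zd45) (kd xd17 yd4 zd50) (kd xd23 yd28 zd56) (kd xd7 yd22 zd47) (kd xd9 yd15 zd25) (kd xd19 yd56 zd35) (kd xd17 yd0 zd11) (kd xd23 yd28 zd60) (kd xd23 yd29 zd2) (kd xd7 yd22 zd51) (kd xd23 yd29 zd7) (kd xd16 yd57 zd13) (kd xd7 yd22 zd52) (kd xd16 yd2 zd61) (kd xd23 yd29 zd10) (kd xd19 yd59 zd5) (kd xd7 yd22 zd53) (kd xd23 yd29 zd14) (kd xd14 yd55 zd0) (kd xd14 yd54 zd13) (kd xd19 yd32 zd25) (kd xd23 yd29 zd21) (kd xd7 yd22 zd55) (kd xd13 yd58 zd32) (kd xd7 yd22 zd56) (kd xd23 yd29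 zd23) (kd xd9 yd46 zd8) (kd xd9 yd45 zd48) (kd xd23 yd29 zd28) (kd xd7 yd22 zd58) (kd xd7 yd54 zd3) (kd xd22 yd28 zd19) (kd xd13 yd13 zd6) (kd xd14 yd55 zd47) (kd xd23 yd29 zd37) (kd xd7 yd23 zd0) (kd xd23 yd29 zd39) (kd xd7 yd23 zd2) (kd xd7 yd23 zd4) (kd xd23 yd29 zd41) (kd xd7 yd51 zd43) (kd xd10 yd1 zd12) (kd xd14 yd39 zd59) (kd xd23 yd29 zd43) (kd xd23 yd29 zd44) (kd xd7 yd23 zd7) (kd xd23 yd29 zd49) (kd xd23 yd29 zd50) (kd xd7 yd23 zd8) (kd xd14 yd55 zd43) (kd xd7 yd23 zd9) (kd xd14 yd47 zd24) (kd xd14 yd47 zd25) (kd xd16 yd31 zd57) (kd xd7 yd23 zd11)) (@D3.rec (fun _ => Pt) (kd xd7 yd23 zd12) (kd xd23 yd30 zd3) (kd xd7 yd23 zd13) (kd xd13 yd58 zd52) (kd xd14 yd8 zd34) (kd xd14 yd7 zd48) (kd xd21 yd50 zd34) (kd xd7 yd23 zd15) (kd xd13 yd53 zd29) (kd xd13 yd53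 zd30) (kd xd14 yd34 zd16) (kd xd13 yd7 zd58) (kd xd14 yd33 zd59) (kd xd14 yd32 zd42) (kd xd13 yd25 zd34) (kd xd9 yd10 zd6) (kd xd17 yd4 zd37) (kd xd17 yd6 zd47) (kd xd7 yd23 zd20) (kd xd23 yd30 zd29) (kd xd11 yd6 zd37) (kd xd19 yd16 zd52) (kd xd16 yd17 zd32) (kd xd11 yd51 zd60) (kd xd7 yd23 zd25) (kd xd19 yd16 zd51) (kd xd7 yd23 zd26) (kd xd14 yd7 zd9) (kd xd23 yd30 zd35) (kd xd7 yd23 zd27) (kd xd14 yd46 zd44) (kd xd14 yd50 zd36) (kd xd13 yd57 zd30) (kd xd23 yd30 zd40) (kd xd7 yd23 zd29) (kd xd9 yd25 zd7) (kd xd7 yd36 zd16) (kd xd14 yd20 zd3) (kd xd9 yd8 zd6) (kd xd17 yd58 zd26) (kd xd11 yd24 zd27) (kd xd9 yd31 zd11) (kd xd17 yd29 zd61) (kd xd11 yd25 zd16) (kd xd7 yd23 zd35) (kd xd16 yd10 zd39) (kd xd23 yd30 zd47) (kd xd12 yd39 zd11) (kd xd7 yd23 zd37) (kd xd23 yd30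 zd54) (kd xd9 yd30 zd22) (kd xd11 yd18 zd25) (kd xd13 yd58 zd3) (kd xd14 yd50 zd26) (kd xd22 yd16 zd46) (kd xd23 yd31 zd2) (kd xd14 yd46 zd45) (kd xd7 yd23 zd40) (kd xd7 yd50 zd10) (kd xd23 yd31 zd5) (kd xd23 yd31 zd6) (kd xd15 yd5 zd61)) (@D3.rec (fun _ => Pt) (kd xd7 yd23 zd41) (kd xd23 yd31 zd11) (kd xd9 yd17 zd11) (kd xd22 yd16 zd44) (kd xd23 yd31 zd15) (kd xd14 yd7 zd34) (kd xd7 yd23 zd44) (kd xd22 yd45 zd1) (kd xd23 yd31 zd18) (kd xd22 yd16 zd41) (kd xd7 yd23 zd45) (kd xd14 yd55 zd37) (kd xd23 yd31 zd22) (kd xd22 yd16 zd39) (kd xd7 yd23 zd46) (kd xd8 yd9 zd1) (kd xd22 yd23 zd22) (kd xd19 yd40 zd3) (kd xd23 yd31 zd24) (kd xd7 yd23 zd47) (kd xd22 yd12 zd50) (kd xd13 yd37 zd28) (kd xd23 yd31 zd27) (kd xd7 yd23 zd49) (kd xd14 yd47 zd6) (kd xd14 yd47 zd7) (kd xd23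 yd31 zd33) (kd xd11 yd32 zd46) (kd xd11 yd32 zd45) (kd xd7 yd54 zd48) (kd xd7 yd55 zd12) (kd xd7 yd54 zd49) (kd xd14 yd0 zd38) (kd xd14 yd0 zd41) (kd xd14 yd0 zd5) (kd xd8 yd58 zd23) (kd xd15 yd20 zd48) (kd xd15 yd20 zd47) (kd xd15 yd22 zd51) (kd xd7 yd23 zd57) (kd xd21 yd55 zd20) (kd xd12 yd48 zd28) (kd xd21 yd8 zd45) (kd xd14 yd49 zd49) (kd xd14 yd49 zd50) (kd xd7 yd23 zd60) (kd xd13 yd59 zd58) (kd xd23 yd31 zd50) (kd xd21 yd24 zd57) (kd xd20 yd6 zd41) (kd xd7 yd24 zd0) (kd xd21 yd56 zd14) (kd xd13 yd20 zd21) (kd xd14 yd56 zd33) (kd xd19 yd0 zd17) (kd xd23 yd31 zd60) (kd xd13 yd59 zd57) (kd xd13 yd59 zd56) (kd xd13 yd59 zd46) (kd xd23 yd32 zd8) (kd xd23 yd32 zd12) (kd xd23 yd32 zd14))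
def f_d_14 : D2 → D3 → Pt := @D2.rec (fun _ => D3 → Pt) (@D3.rec (fun _ => Pt) (kd xd7 yd24 zd4) (kd xd23 yd32 zd17) (kd xd14 yd56 zd35) (kd xd13 yd15 zd60) (kd xd22 yd55 zd20) (kd xd13 yd59 zd34) (kd xd16 yd47 zd25) (kd xd20 yd13 zd53) (kd xd23 yd32 zd29) (kd xd22 yd55 zd23) (kd xd14 yd1 zd1) (kd xd23 yd32 zd34) (kd xd14 yd0 zd43) (kd xd23 yd32 zd40) (kd xd16 yd11 zd52) (kd xd16 yd11 zd53) (kd xd23 yd32 zd48) (kd xd7 yd24 zd10) (kd xd13 yd55 zd6) (kd xd23 yd31 zd25) (kd xd23 yd32 zd56) (kd xd23 yd32 zd58) (kd xd23 yd32 zd61) (kd xd23 yd33 zd1) (kd xd23 yd33 zd2) (kd xd23 yd33 zd3) (kd xd7 yd24 zd14) (kd xd13 yd55 zd16) (kd xd14 yd9 zd42) (kd xd7 yd24 zd17) (kd xd23 yd33 zd13) (kd xd14 yd48 zd6) (kd xd12 yd7 zd57) (kd xd11 yd2 zd60) (kd xd14 yd51 zd32) (kd xd14 yd51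 zd33) (kd xd7 yd24 zd19) (kd xd13 yd13 zd3) (kd xd13 yd59 zd32) (kd xd13 yd13 zd7) (kd xd13 yd26 zd3) (kd xd13 yd59 zd33) (kd xd14 yd6 zd30) (kd xd14 yd0 zd12) (kd xd20 yd4 zd29) (kd xd15 yd53 zd45) (kd xd15 yd53 zd48) (kd xd7 yd24 zd23) (kd xd23 yd33 zd24) (kd xd7 yd25 zd6) (kd xd13 yd36 zd59) (kd xd18 yd23 zd5) (kd xd7 yd24 zd27) (kd xd14 yd53 zd21) (kd xd23 yd33 zd30) (kd xd7 yd24 zd30) (kd xd14 yd53 zd5) (kd xd22 yd12 zd54) (kd xd14 yd53 zd7) (kd xd7 yd24 zd34) (kd xd7 yd31 zd0) (kd xd22 yd12 zd10)) (@D3.rec (fun _ => Pt) (kd xd8 yd33 zd59) (kd xd14 yd0 zd10) (kd xd23 yd33 zd43) (kd xd21 yd6 zd34) (kd xd21 yd3 zd57) (kd xd12 yd0 zd50) (kd xd14 yd3 zd15) (kd xd7 yd24 zd41) (kd xd14 yd46 zd0) (kd xd7 yd36 zd56) (kd xd7 yd46 zd6) (kd xd14 yd1 zd26) (kd xd13 yd17 zd4)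 (kd xd7 yd48 zd21) (kd xd10 yd7 zd45) (kd xd22 yd35 zd13) (kd xd14 yd56 zd41) (kd xd23 yd33 zd60) (kd xd23 yd34 zd1) (kd xd7 yd24 zd46) (kd xd22 yd10 zd53) (kd xd13 yd34 zd6) (kd xd13 yd34 zd8) (kd xd13 yd31 zd46) (kd xd14 yd1 zd25) (kd xd14 yd1 zd24) (kd xd14 yd1 zd11) (kd xd14 yd15 zd17) (kd xd23 yd34 zd16) (kd xd23 yd34 zd19) (kd xd21 yd52 zd41) (kd xd7 yd24 zd53) (kd xd23 yd34 zd25) (kd xd13 yd27 zd10) (kd xd23 yd34 zd28) (kd xd20 yd54 zd24) (kd xd9 yd26 zd24) (kd xd23 yd34 zd31) (kd xd7 yd24 zd58) (kd xd7 yd27 zd18) (kd xd7 yd27 zd19) (kd xd7 yd24 zd61) (kd xd23 yd34 zd35) (kd xd7 yd25 zd0) (kd xd8 yd21 zd20) (kd xd9 yd10 zd21) (kd xd11 yd51 zd6) (kd xd11 yd51 zd7) (kd xd7 yd25 zd4) (kd xd13 yd8 zd34) (kd xd23 yd34 zd38) (kd xd7 yd25 zd9) (kd xd23 yd34 zd41) (kd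 xd7 yd25 zd11) (kd xd23 yd34 zd44) (kd xd7 yd27 zd42) (kd xd19 yd18 zd28) (kd xd23 yd34 zd48) (kd xd23 yd34 zd49) (kd xd7 yd25 zd14) (kd xd23 yd34 zd53) (kd xd7 yd25 zd15)) (@D3.rec (fun _ => Pt) (kd xd21 yd14 zd34) (kd xd12 yd58 zd43) (kd xd7 yd25 zd16) (kd xd22 yd45 zd13) (kd xd22 yd45 zd14) (kd xd18 yd6 zd11) (kd xd7 yd27 zd37) (kd xd23 yd35 zd6) (kd xd23 yd35 zd8) (kd xd23 yd35 zd9) (kd xd7 yd25 zd19) (kd xd23 yd35 zd12) (kd xd23 yd35 zd13) (kd xd23 yd35 zd15) (kd xd7 yd25 zd20) (kd xd23 yd35 zd18) (kd xd16 yd46 zd15) (kd xd13 yd56 zd36) (kd xd8 yd34 zd23) (kd xd7 yd25 zd24) (kd xd23 yd35 zd24) (kd xd14 yd6 zd13) (kd xd23 yd35 zd25) (kd xd7 yd25 zd26) (kd xd15 yd49 zd53) (kd xd12 yd47 zd57) (kd xd7 yd25 zd27) (kd xd13 yd56 zd8) (kd xd12 yd25 zd59) (kd xd12 yd34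 zd29) (kd xd13 yd56 zd5) (kd xd23 yd25 zd48) (kd xd13 yd56 zd2) (kd xd22 yd44 zd8) (kd xd14 yd5 zd46) (kd xd23 yd35 zd35) (kd xd23 yd35 zd36) (kd xd23 yd33 zd39) (kd xd7 yd25 zd37) (kd xd12 yd13 zd44) (kd xd14 yd5 zd47) (kd xd20 yd35 zd51) (kd xd23 yd35 zd43) (kd xd16 yd49 zd15) (kd xd16 yd33 zd27) (kd xd21 yd37 zd14) (kd xd8 yd23 zd11) (kd xd13 yd4 zd39) (kd xd18 yd37 zd32) (kd xd18 yd37 zd31) (kd xd23 yd35 zd56) (kd xd7 yd25 zd47) (kd xd15 yd58 zd35) (kd xd23 yd10 zd58) (kd xd7 yd25 zd49) (kd xd23 yd35 zd59) (kd xd8 yd21 zd24) (kd xd9 yd23 zd48) (kd xd23 yd35 zd61) (kd xd23 yd27 zd11) (kd xd23 yd36 zd1) (kd xd7 yd25 zd58)) (@D3.rec (fun _ => Pt) (kd xd13 yd55 zd52) (kd xd15 yd45 zd42) (kd xd7 yd25 zd59) (kd xd23 yd36 zd5) (kd xd9 yd45 zd24) (kd xd9 yd45 zd25) (kd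 xd7 yd25 zd61) (kd xd14 yd5 zd48) (kd xd9 yd49 zd59) (kd xd14 yd5 zd49) (kd xd16 yd4 zd53) (kd xd23 yd36 zd12) (kd xd7 yd26 zd2) (kd xd22 yd16 zd8) (kd xd14 yd9 zd52) (kd xd14 yd1 zd6) (kd xd22 yd42 zd27) (kd xd14 yd48 zd10) (kd xd13 yd55 zd58) (kd xd22 yd42 zd29) (kd xd13 yd55 zd60) (kd xd7 yd54 zd45) (kd xd13 yd26 zd10) (kd xd22 yd42 zd26) (kd xd16 yd51 zd58) (kd xd21 yd9 zd13) (kd xd7 yd26 zd11) (kd xd12 yd26 zd0) (kd xd7 yd26 zd26) (kd xd13 yd5 zd2) (kd xd23 yd36 zd37) (kd xd14 yd15 zd26) (kd xd14 yd15 zd25) (kd xd7 yd26 zd15) (kd xd22 yd26 zd47) (kd xd22 yd18 zd25) (kd xd22 yd34 zd13) (kd xd13 yd9 zd15) (kd xd22 yd18 zd35) (kd xd22 yd18 zd36) (kd xd22 yd34 zd22) (kd xd7 yd26 zd19) (kd xd22 yd26 zd52) (kd xd22 yd35 zd6) (kd xd23 yd25 zd33) (kd xd7 yd26 zd21) (kd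 xd7 yd26 zd23) (kd xd23 yd36 zd55) (kd xd20 yd11 zd43) (kd xd11 yd59 zd50) (kd xd23 yd36 zd61) (kd xd9 yd30 zd19) (kd xd11 yd44 zd16) (kd xd21 yd9 zd14) (kd xd14 yd49 zd59) (kd xd23 yd37 zd4) (kd xd23 yd37 zd5) (kd xd7 yd26 zd32) (kd xd23 yd37 zd7) (kd xd23 yd37 zd9) (kd xd7 yd26 zd34) (kd xd23 yd37 zd13)) (@D3.rec (fun _ => Pt) (kd xd23 yd37 zd14) (kd xd7 yd26 zd35) (kd xd14 yd49 zd2) (kd xd23 yd37 zd18) (kd xd23 yd37 zd20) (kd xd7 yd26 zd36) (kd xd12 yd48 zd2) (kd xd13 yd26 zd7) (kd xd13 yd26 zd8) (kd xd23 yd37 zd31) (kd xd15 yd10 zd33) (kd xd11 yd10 zd6) (kd xd7 yd26 zd38) (kd xd7 yd52 zd10) (kd xd23 yd37 zd35) (kd xd19 yd49 zd56) (kd xd7 yd26 zd39) (kd xd23 yd30 zd0) (kd xd20 yd6 zd40) (kd xd7 yd50 zd7) (kd xd7 yd26 zd41) (kd xd23 yd37 zd45) (kd xd23 yd37 zd46)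 (kd xd23 yd37 zd49) (kd xd7 yd26 zd47) (kd xd20 yd13 zd21) (kd xd7 yd26 zd51) (kd xd7 yd26 zd52) (kd xd12 yd29 zd24) (kd xd12 yd31 zd14) (kd xd23 yd37 zd51) (kd xd23 yd37 zd52) (kd xd7 yd26 zd55) (kd xd22 yd11 zd29) (kd xd23 yd37 zd55) (kd xd23 yd37 zd56) (kd xd23 yd37 zd57) (kd xd7 yd26 zd57) (kd xd14 yd57 zd17) (kd xd23 yd38 zd0) (kd xd16 yd57 zd38) (kd xd7 yd26 zd61) (kd xd23 yd38 zd2) (kd xd11 yd40 zd10) (kd xd7 yd27 zd3) (kd xd7 yd27 zd6) (kd xd23 yd38 zd4) (kd xd23 yd38 zd5) (kd xd12 yd38 zd38) (kd xd13 yd1 zd4) (kd xd10 yd10 zd42) (kd xd11 yd47 zd42) (kd xd20 yd27 zd32) (kd xd17 yd56 zd35) (kd xd17 yd19 zd35) (kd xd17 yd6 zd0) (kd xd20 yd22 zd51) (kd xd18 yd1 zd20) (kd xd20 yd5 zd53) (kd xd20 yd22 zd42) (kd xd14 yd46 zd36) (kd xd17 yd55 zd0)) (@D3.rec (fun _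 => Pt) (kd xd14 yd50 zd8) (kd xd23 yd38 zd11) (kd xd23 yd38 zd12) (kd xd23 yd38 zd13) (kd xd23 yd38 zd14) (kd xd23 yd38 zd16) (kd xd7 yd27 zd38) (kd xd12 yd13 zd48) (kd xd7 yd27 zd41) (kd xd23 yd38 zd21) (kd xd7 yd27 zd43) (kd xd7 yd27 zd45) (kd xd23 yd38 zd23) (kd xd23 yd38 zd24) (kd xd23 yd38 zd25) (kd xd7 yd27 zd46) (kd xd23 yd29 zd40) (kd xd7 yd27 zd47) (kd xd14 yd53 zd58) (kd xd23 yd38 zd30) (kd xd7 yd27 zd48) (kd xd23 yd8 zd35) (kd xd22 yd45 zd45) (kd xd22 yd53 zd51) (kd xd23 yd38 zd42) (kd xd7 yd27 zd50) (kd xd23 yd38 zd47) (kd xd7 yd27 zd51) (kd xd23 yd38 zd54) (kd xd7 yd27 zd52) (kd xd23 yd38 zd57) (kd xd23 yd35 zd21) (kd xd13 yd54 zd14) (kd xd23 yd39 zd1) (kd xd7 yd27 zd54) (kd xd23 yd39 zd4) (kd xd23 yd39 zd5) (kd xd7 yd27 zd55) (kd xd13 yd54 zd23) (kd xd14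 yd33 zd57) (kd xd13 yd54 zd25) (kd xd7 yd27 zd58) (kd xd14 yd48 zd30) (kd xd14 yd33 zd58) (kd xd23 yd39 zd21) (kd xd7 yd27 zd60) (kd xd14 yd2 zd34) (kd xd14 yd2 zd40) (kd xd14 yd3 zd7) (kd xd14 yd3 zd9) (kd xd7 yd43 zd52) (kd xd7 yd43 zd1) (kd xd23 yd39 zd39) (kd xd7 yd28 zd1) (kd xd7 yd53 zd40) (kd xd13 yd24 zd38) (kd xd7 yd28 zd3) (kd xd13 yd50 zd2) (kd xd14 yd46 zd28) (kd xd19 yd51 zd11) (kd xd7 yd28 zd5) (kd xd7 yd28 zd6)) (@D3.rec (fun _ => Pt) (kd xd13 yd25 zd17) (kd xd13 yd56 zd58) (kd xd7 yd28 zd9) (kd xd23 yd39 zd56) (kd xd7 yd28 zd11) (kd xd23 yd39 zd59) (kd xd7 yd28 zd12) (kd xd23 yd40 zd1) (kd xd7 yd28 zd13) (kd xd14 yd51 zd50) (kd xd23 yd40 zd6) (kd xd23 yd40 zd7) (kd xd7 yd28 zd15) (kd xd14 yd2 zd21) (kd xd23 yd40 zd9) (kd xd7 yd28 zd16) (kd xd23 yd40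 zd12) (kd xd17 yd56 zd1) (kd xd13 yd53 zd7) (kd xd18 yd1 zd34) (kd xd7 yd28 zd18) (kd xd13 yd54 zd24) (kd xd12 yd18 zd42) (kd xd23 yd40 zd19) (kd xd23 yd40 zd20) (kd xd7 yd28 zd21) (kd xd9 yd14 zd19) (kd xd13 yd54 zd21) (kd xd14 yd48 zd8) (kd xd14 yd38 zd15) (kd xd14 yd0 zd42) (kd xd13 yd13 zd9) (kd xd14 yd54 zd0) (kd xd23 yd40 zd35) (kd xd23 yd40 zd36) (kd xd7 yd28 zd29) (kd xd7 yd28 zd30) (kd xd23 yd40 zd39) (kd xd9 yd48 zd50) (kd xd23 yd40 zd41) (kd xd7 yd28 zd32) (kd xd17 yd22 zd54) (kd xd23 yd40 zd43) (kd xd23 yd40 zd45) (kd xd23 yd40 zd47) (kd xd7 yd28 zd34) (kd xd23 yd40 zd51) (kd xd23 yd40 zd52) (kd xd9 yd9 zd22) (kd xd7 yd28 zd37) (kd xd10 yd11 zd20) (kd xd23 yd40 zd54) (kd xd23 yd40 zd57) (kd xd7 yd28 zd38) (kd xd23 yd41 zd0) (kd xd23 yd41 zd1) (kd xd7 yd28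 zd39) (kd xd14 yd54 zd15) (kd xd23 yd41 zd6) (kd xd23 yd41 zd8) (kd xd7 yd28 zd40) (kd xd16 yd59 zd16)) (@D3.rec (fun _ => Pt) (kd xd22 yd45 zd55) (kd xd23 yd41 zd16) (kd xd23 yd41 zd20) (kd xd7 yd28 zd42) (kd xd23 yd41 zd23) (kd xd7 yd28 zd43) (kd xd7 yd28 zd44) (kd xd23 yd25 zd9) (kd xd23 yd37 zd39) (kd xd13 yd58 zd27) (kd xd23 yd41 zd32) (kd xd7 yd28 zd46) (kd xd7 yd53 zd28) (kd xd13 yd5 zd10) (kd xd7 yd54 zd13) (kd xd23 yd41 zd45) (kd xd7 yd28 zd49) (kd xd7 yd43 zd40) (kd xd13 yd24 zd51) (kd xd23 yd41 zd51) (kd xd7 yd28 zd52) (kd xd7 yd28 zd53) (kd xd7 yd28 zd54) (kd xd21 yd19 zd12) (kd xd7 yd28 zd55) (kd xd21 yd19 zd11) (kd xd7 yd28 zd56) (kd xd14 yd47 zd21) (kd xd14 yd51 zd0) (kd xd14 yd51 zd1) (kd xd23 yd41 zd60) (kd xd14 yd7 zd51) (kd xd23 yd41 zd61) (kd xd7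 yd28 zd59) (kd xd13 yd59 zd5) (kd xd18 yd0 zd59) (kd xd7 yd28 zd61) (kd xd7 yd54 zd2) (kd xd14 yd54 zd19) (kd xd11 yd30 zd25) (kd xd23 yd42 zd8) (kd xd9 yd12 zd33) (kd xd20 yd21 zd53) (kd xd23 yd42 zd11) (kd xd23 yd42 zd15) (kd xd7 yd29 zd4) (kd xd23 yd42 zd20) (kd xd7 yd29 zd5) (kd xd13 yd58 zd5) (kd xd23 yd42 zd22) (kd xd16 yd46 zd18) (kd xd14 yd7 zd31) (kd xd23 yd42 zd24) (kd xd7 yd29 zd8) (kd xd8 yd32 zd58) (kd xd11 yd52 zd7) (kd xd11 yd52 zd6) (kd xd7 yd29 zd10) (kd xd9 yd45 zd22) (kd xd12 yd48 zd56) (kd xd11 yd35 zd14) (kd xd12 yd44 zd12)) (@D3.rec (fun _ => Pt) (kd xd19 yd43 zd8) (kd xd7 yd29 zd14) (kd xd20 yd7 zd16) (kd xd10 yd49 zd22) (kd xd7 yd29 zd15) (kd xd12 yd47 zd9) (kd xd7 yd29 zd16) (kd xd10 yd6 zd46) (kd xd16 yd51 zd50) (kd xd23 yd42 zd35) (kd xd7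 yd29 zd18) (kd xd23 yd42 zd38) (kd xd23 yd42 zd39) (kd xd7 yd29 zd19) (kd xd14 yd21 zd41) (kd xd16 yd36 zd3) (kd xd16 yd47 zd26) (kd xd8 yd59 zd60) (kd xd11 yd12 zd46) (kd xd14 yd46 zd48) (kd xd8 yd5 zd32) (kd xd16 yd9 zd46) (kd xd14 yd50 zd23) (kd xd7 yd29 zd22) (kd xd7 yd52 zd9) (kd xd23 yd42 zd54) (kd xd23 yd42 zd55) (kd xd7 yd29 zd23) (kd xd23 yd42 zd60) (kd xd19 yd50 zd36) (kd xd7 yd29 zd24) (kd xd20 yd40 zd22) (kd xd8 yd5 zd33) (kd xd23 yd43 zd4) (kd xd13 yd58 zd4) (kd xd7 yd29 zd26) (kd xd23 yd30 zd1) (kd xd16 yd2 zd37) (kd xd23 yd43 zd9) (kd xd16 yd2 zd36) (kd xd23 yd43 zd14) (kd xd23 yd43 zd16) (kd xd7 yd29 zd28) (kd xd23 yd43 zd20) (kd xd23 yd43 zd22) (kd xd23 yd43 zd24) (kd xd19 yd1 zd43) (kd xd7 yd29 zd29) (kd xd23 yd43 zd31) (kd xd23 yd43 zd32) (kd xd7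 yd29 zd31) (kd xd7 yd29 zd32) (kd xd23 yd43 zd37) (kd xd13 yd13 zd37) (kd xd13 yd13 zd38) (kd xd23 yd43 zd44) (kd xd11 yd3 zd26) (kd xd14 yd47 zd3) (kd xd14 yd47 zd4) (kd xd7 yd29 zd34) (kd xd13 yd2 zd6) (kd xd23 yd43 zd59)) (@D3.rec (fun _ => Pt) (kd xd17 yd51 zd41) (kd xd17 yd51 zd45) (kd xd7 yd29 zd36) (kd xd23 yd44 zd4) (kd xd11 yd50 zd43) (kd xd7 yd29 zd38) (kd xd7 yd29 zd39) (kd xd14 yd56 zd6) (kd xd13 yd13 zd43) (kd xd14 yd56 zd8) (kd xd14 yd46 zd24) (kd xd14 yd46 zd25) (kd xd13 yd2 zd5) (kd xd23 yd44 zd17) (kd xd22 yd43 zd47) (kd xd23 yd2 zd28) (kd xd14 yd56 zd12) (kd xd13 yd26 zd22) (kd xd23 yd41 zd36) (kd xd22 yd44 zd46) (kd xd11 yd59 zd43) (kd xd23 yd44 zd27) (kd xd23 yd44 zd28) (kd xd22 yd44 zd49) (kd xd13 yd15 zd12) (kd xd12 yd26 zd34) (kd xd15 yd11 zd5)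 (kd xd16 yd9 zd44) (kd xd16 yd9 zd45) (kd xd8 yd37 zd48) (kd xd12 yd26 zd38) (kd xd21 yd34 zd5) (kd xd12 yd26 zd37) (kd xd17 yd45 zd31) (kd xd16 yd17 zd45) (kd xd16 yd17 zd34) (kd xd21 yd25 zd4) (kd xd23 yd44 zd41) (kd xd23 yd44 zd42) (kd xd23 yd44 zd43) (kd xd7 yd29 zd53) (kd xd12 yd13 zd49) (kd xd14 yd0 zd28) (kd xd7 yd29 zd55) (kd xd7 yd29 zd56) (kd xd10 yd30 zd54) (kd xd13 yd2 zd35) (kd xd13 yd2 zd36) (kd xd21 yd6 zd11) (kd xd14 yd48 zd3) (kd xd14 yd48 zd4) (kd xd13 yd2 zd33) (kd xd14 yd3 zd14) (kd xd13 yd2 zd34) (kd xd12 yd24 zd24) (kd xd13 yd56 zd53) (kd xd13 yd13 zd30) (kd xd23 yd45 zd5) (kd xd16 yd47 zd44) (kd xd17 yd51 zd50) (kd xd10 yd37 zd20) (kd xd14 yd48 zd9)) (@D3.rec (fun _ => Pt) (kd xd7 yd30 zd3) (kd xd7 yd30 zd4) (kd xd23 yd23 zd30) (kd xd13 yd13 zd32)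 (kd xd13 yd13 zd33) (kd xd23 yd16 zd3) (kd xd21 yd6 zd16) (kd xd13 yd54 zd9) (kd xd7 yd30 zd6) (kd xd13 yd13 zd29) (kd xd18 yd8 zd3) (kd xd16 yd2 zd43) (kd xd21 yd6 zd10) (kd xd16 yd30 zd14) (kd xd23 yd45 zd27) (kd xd23 yd45 zd28) (kd xd7 yd30 zd14) (kd xd23 yd45 zd30) (kd xd23 yd45 zd31) (kd xd7 yd30 zd17) (kd xd23 yd45 zd33) (kd xd23 yd45 zd35) (kd xd7 yd30 zd18) (kd xd22 yd12 zd32) (kd xd23 yd45 zd39) (kd xd7 yd30 zd19) (kd xd22 yd32 zd17) (kd xd22 yd32 zd6) (kd xd23 yd45 zd50) (kd xd7 yd30 zd21) (kd xd23 yd45 zd52) (kd xd23 yd45 zd53) (kd xd7 yd30 zd22) (kd xd13 yd22 zd31) (kd xd13 yd44 zd23) (kd xd22 yd37 zd44) (kd xd13 yd44 zd24) (kd xd22 yd41 zd8) (kd xd22 yd46 zd34) (kd xd7 yd48 zd43) (kd xd7 yd37 zd5) (kd xd23 yd46 zd7) (kd xd7 yd30 zd27) (kd xd14 yd13 zd11)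 (kd xd23 yd3 zd47) (kd xd23 yd13 zd55) (kd xd23 yd46 zd17) (kd xd23 yd13 zd53) (kd xd23 yd46 zd18) (kd xd7 yd30 zd32) (kd xd23 yd46 zd22) (kd xd10 yd59 zd19) (kd xd23 yd46 zd25) (kd xd23 yd19 zd45) (kd xd23 yd46 zd26) (kd xd23 yd46 zd27) (kd xd11 yd21 zd54) (kd xd23 yd46 zd29) (kd xd7 yd30 zd44) (kd xd7 yd30 zd46) (kd xd23 yd46 zd32) (kd xd7 yd30 zd47)) (@D3.rec (fun _ => Pt) (kd xd10 yd46 zd12) (kd xd7 yd30 zd48) (kd xd14 yd34 zd7) (kd xd13 yd11 zd46) (kd xd13 yd11 zd47) (kd xd15 yd51 zd18) (kd xd7 yd30 zd50) (kd xd7 yd30 zd51) (kd xd20 yd39 zd53) (kd xd9 yd16 zd36) (kd xd9 yd16 zd37) (kd xd23 yd31 zd20) (kd xd7 yd30 zd53) (kd xd23 yd12 zd2) (kd xd23 yd46 zd48) (kd xd21 yd35 zd15) (kd xd23 yd46 zd49) (kd xd23 yd46 zd50) (kd xd7 yd30 zd59) (kd xd7 yd30 zd60) (kd xd21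 yd32 zd36) (kd xd22 yd44 zd1) (kd xd23 yd46 zd56) (kd xd18 yd18 zd13) (kd xd23 yd16 zd18) (kd xd7 yd31 zd1) (kd xd11 yd18 zd60) (kd xd20 yd27 zd45) (kd xd7 yd31 zd5) (kd xd20 yd17 zd14) (kd xd7 yd31 zd26) (kd xd11 yd16 zd21) (kd xd20 yd17 zd33) (kd xd23 yd47 zd0) (kd xd11 yd17 zd1) (kd xd7 yd31 zd7) (kd xd7 yd31 zd8) (kd xd20 yd17 zd30) (kd xd7 yd31 zd12) (kd xd23 yd47 zd3) (kd xd23 yd47 zd5) (kd xd23 yd47 zd8) (kd xd7 yd31 zd14) (kd xd7 yd31 zd15) (kd xd17 yd18 zd17) (kd xd22 yd7 zd17) (kd xd17 yd19 zd25) (kd xd7 yd31 zd19) (kd xd15 yd46 zd47) (kd xd9 yd19 zd53) (kd xd12 yd1 zd36) (kd xd21 yd22 zd4) (kd xd12 yd16 zd49) (kd xd12 yd36 zd7) (kd xd21 yd22 zd9) (kd xd12 yd41 zd28) (kd xd7 yd31 zd35) (kd xd9 yd59 zd18) (kd xd23 yd47 zd19) (kd xd10 yd6 zd34) (kd xd9 yd12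 zd24) (kd xd12 yd58 zd19)) (@D3.rec (fun _ => Pt) (kd xd12 yd58 zd20) (kd xd23 yd47 zd21) (kd xd7 yd31 zd42) (kd xd23 yd47 zd24) (kd xd15 yd48 zd13) (kd xd23 yd47 zd27) (kd xd7 yd31 zd43) (kd xd23 yd47 zd29) (kd xd23 yd47 zd31) (kd xd12 yd36 zd0) (kd xd12 yd42 zd22) (kd xd12 yd32 zd51) (kd xd12 yd29 zd35) (kd xd14 yd12 zd21) (kd xd9 yd32 zd48) (kd xd7 yd31 zd48) (kd xd12 yd2 zd8) (kd xd12 yd12 zd45) (kd xd12 yd20 zd33) (kd xd8 yd24 zd28) (kd xd16 yd9 zd10) (kd xd14 yd12 zd13) (kd xd9 yd17 zd51) (kd xd23 yd47 zd39) (kd xd7 yd31 zd56) (kd xd9 yd17 zd53) (kd xd18 yd13 zd32) (kd xd7 yd31 zd58) (kd xd7 yd31 zd60) (kd xd9 yd5 zd46) (kd xd23 yd47 zd42) (kd xd9 yd17 zd50) (kd xd23 yd47 zd44) (kd xd7 yd32 zd2) (kd xd23 yd47 zd45) (kd xd23 yd47 zd47) (kd xd7 yd32 zd3) (kd xd23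 yd47 zd50) (kd xd7 yd32 zd4) (kd xd22 yd56 zd24) (kd xd14 yd27 zd33) (kd xd14 yd27 zd34) (kd xd12 yd14 zd60) (kd xd14 yd13 zd60) (kd xd14 yd43 zd51) (kd xd14 yd39 zd12) (kd xd7 yd32 zd11) (kd xd23 yd47 zd58) (kd xd7 yd32 zd12) (kd xd23 yd47 zd61) (kd xd8 yd49 zd1) (kd xd9 yd47 zd29) (kd xd7 yd32 zd13) (kd xd17 yd56 zd38) (kd xd23 yd48 zd3) (kd xd7 yd32 zd14) (kd xd23 yd48 zd6) (kd xd7 yd32 zd15) (kd xd7 yd32 zd16) (kd xd23 yd48 zd11) (kd xd13 yd7 zd47) (kd xd13 yd13 zd27)) (@D3.rec (fun _ => Pt) (kd xd23 yd48 zd19) (kd xd7 yd32 zd18) (kd xd7 yd32 zd19) (kd xd12 yd51 zd59) (kd xd7 yd32 zd20) (kd xd14 yd14 zd8) (kd xd17 yd21 zd22) (kd xd21 yd53 zd10) (kd xd23 yd48 zd31) (kd xd7 yd32 zd22) (kd xd13 yd34 zd46) (kd xd14 yd10 zd43) (kd xd18 yd45 zd8) (kd xd13 yd41 zd10) (kd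 xd14 yd42 zd35) (kd xd23 yd48 zd45) (kd xd23 yd48 zd46) (kd xd23 yd48 zd47) (kd xd23 yd48 zd49) (kd xd7 yd32 zd28) (kd xd23 yd48 zd53) (kd xd7 yd32 zd29) (kd xd12 yd51 zd42) (kd xd23 yd48 zd59) (kd xd7 yd32 zd31) (kd xd18 yd45 zd53) (kd xd15 yd51 zd20) (kd xd22 yd20 zd1) (kd xd14 yd22 zd9) (kd xd7 yd32 zd38) (kd xd18 yd52 zd0) (kd xd19 yd20 zd38) (kd xd7 yd32 zd39) (kd xd23 yd49 zd3) (kd xd23 yd49 zd5) (kd xd7 yd32 zd41) (kd xd13 yd4 zd19) (kd xd23 yd13 zd29) (kd xd15 yd38 zd59) (kd xd23 yd49 zd8) (kd xd23 yd49 zd9) (kd xd23 yd49 zd11) (kd xd7 yd32 zd47) (kd xd23 yd49 zd14) (kd xd21 yd53 zd0) (kd xd19 yd12 zd56) (kd xd7 yd32 zd49) (kd xd16 yd29 zd26) (kd xd23 yd49 zd20) (kd xd17 yd0 zd22) (kd xd17 yd13 zd14) (kd xd20 yd51 zd41) (kd xd10 yd42 zd34) (kd xd7 yd32 zd52)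 (kd xd23 yd49 zd27) (kd xd7 yd32 zd53) (kd xd23 yd49 zd31) (kd xd7 yd32 zd54) (kd xd14 yd23 zd56) (kd xd21 yd16 zd54) (kd xd14 yd12 zd43) (kd xd23 yd49 zd35)) (@D3.rec (fun _ => Pt) (kd xd7 yd32 zd56) (kd xd23 yd49 zd37) (kd xd23 yd49 zd38) (kd xd7 yd32 zd57) (kd xd23 yd49 zd42) (kd xd23 yd49 zd44) (kd xd7 yd32 zd58) (kd xd12 yd41 zd23) (kd xd14 yd13 zd5) (kd xd23 yd49 zd51) (kd xd21 yd58 zd38) (kd xd23 yd49 zd58) (kd xd7 yd32 zd60) (kd xd7 yd38 zd34) (kd xd18 yd55 zd16) (kd xd23 yd49 zd60) (kd xd23 yd49 zd61) (kd xd7 yd32 zd61) (kd xd23 yd50 zd3) (kd xd7 yd33 zd0) (kd xd9 yd11 zd14) (kd xd23 yd50 zd5) (kd xd23 yd23 zd1) (kd xd23 yd50 zd8) (kd xd17 yd30 zd28) (kd xd7 yd33 zd3) (kd xd7 yd48 zd18) (kd xd14 yd26 zd44) (kd xd16 yd15 zd60) (kd xd14 yd26 zd50) (kd xd23 yd50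 zd20) (kd xd23 yd50 zd22) (kd xd7 yd33 zd5) (kd xd23 yd50 zd25) (kd xd7 yd33 zd7) (kd xd7 yd33 zd8) (kd xd14 yd27 zd47) (kd xd14 yd24 zd29) (kd xd14 yd24 zd30) (kd xd23 yd50 zd34) (kd xd14 yd27 zd48) (kd xd23 yd50 zd39) (kd xd23 yd50 zd41) (kd xd14 yd15 zd12) (kd xd22 yd8 zd56) (kd xd23 yd50 zd49) (kd xd23 yd50 zd50) (kd xd14 yd27 zd52) (kd xd7 yd33 zd14) (kd xd7 yd33 zd15) (kd xd22 yd19 zd44) (kd xd23 yd50 zd55) (kd xd22 yd27 zd24) (kd xd23 yd24 zd9) (kd xd23 yd50 zd60) (kd xd14 yd15 zd4) (kd xd23 yd51 zd5) (kd xd23 yd51 zd7) (kd xd23 yd49 zd15) (kd xd7 yd33 zd19) (kd xd23 yd51 zd13) (kd xd13 yd26 zd50)) (@D3.rec (fun _ => Pt) (kd xd22 yd15 zd21) (kd xd17 yd54 zd23) (kd xd7 yd33 zd21) (kd xd23 yd51 zd19) (kd xd14 yd14 zd55) (kd xd23 yd51 zd27) (kd xd23 yd51 zd31) (kd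 xd23 yd51 zd32) (kd xd7 yd33 zd24) (kd xd23 yd51 zd35) (kd xd23 yd51 zd39) (kd xd23 yd51 zd42) (kd xd14 yd14 zd43) (kd xd23 yd51 zd49) (kd xd23 yd51 zd51) (kd xd7 yd33 zd28) (kd xd19 yd40 zd61) (kd xd14 yd1 zd27) (kd xd23 yd34 zd18) (kd xd14 yd15 zd31) (kd xd7 yd33 zd31) (kd xd21 yd42 zd1) (kd xd23 yd51 zd57) (kd xd19 yd22 zd0) (kd xd7 yd33 zd34) (kd xd14 yd3 zd32) (kd xd14 yd3 zd31) (kd xd23 yd52 zd2) (kd xd14 yd31 zd57) (kd xd22 yd48 zd36) (kd xd22 yd48 zd37) (kd xd14 yd15 zd19) (kd xd7 yd55 zd14) (kd xd23 yd52 zd11) (kd xd22 yd57 zd29) (kd xd14 yd31 zd60) (kd xd14 yd52 zd18) (kd xd7 yd33 zd40) (kd xd22 yd50 zd34) (kd xd23 yd52 zd21) (kd xd23 yd52 zd22) (kd xd7 yd33 zd48) (kd xd20 yd28 zd41) (kd xd23 yd52 zd25) (kd xd7 yd33 zd49) (kd xd14 yd42 zd59) (kd xd13 yd15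 zd20) (kd xd13 yd15 zd21) (kd xd23 yd52 zd31) (kd xd9 yd14 zd59) (kd xd23 yd52 zd34) (kd xd12 yd48 zd9) (kd xd7 yd33 zd53) (kd xd11 yd15 zd2) (kd xd9 yd55 zd32) (kd xd9 yd49 zd9) (kd xd10 yd2 zd43) (kd xd12 yd14 zd18) (kd xd23 yd52 zd39) (kd xd23 yd52 zd40) (kd xd23 yd52 zd41) (kd xd7 yd33 zd58)) (@D3.rec (fun _ => Pt) (kd xd23 yd52 zd45) (kd xd23 yd52 zd46) (kd xd7 yd33 zd60) (kd xd7 yd33 zd61) (kd xd13 yd34 zd41) (kd xd23 yd52 zd54) (kd xd7 yd34 zd1) (kd xd23 yd52 zd58) (kd xd21 yd59 zd46) (kd xd16 yd45 zd16) (kd xd7 yd34 zd6) (kd xd23 yd53 zd1) (kd xd23 yd53 zd3) (kd xd7 yd34 zd8) (kd xd23 yd53 zd5) (kd xd23 yd53 zd7) (kd xd23 yd53 zd8) (kd xd7 yd34 zd9) (kd xd23 yd53 zd11) (kd xd7 yd34 zd10) (kd xd23 yd53 zd15) (kd xd14 yd26 zd10) (kd xd14 yd26 zd11) (kd xd7 yd39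 zd41) (kd xd7 yd34 zd12) (kd xd7 yd34 zd13) (kd xd20 yd29 zd1) (kd xd23 yd53 zd27) (kd xd20 yd28 zd37) (kd xd23 yd53 zd32) (kd xd14 yd43 zd22) (kd xd13 yd39 zd16) (kd xd23 yd53 zd39) (kd xd16 yd45 zd3) (kd xd23 yd53 zd44) (kd xd22 yd53 zd3) (kd xd23 yd53 zd47) (kd xd23 yd50 zd47) (kd xd7 yd34 zd20) (kd xd23 yd53 zd52) (kd xd23 yd53 zd53) (kd xd7 yd34 zd21) (kd xd7 yd34 zd22) (kd xd21 yd49 zd42) (kd xd18 yd5 zd48) (kd xd23 yd53 zd60) (kd xd7 yd34 zd24) (kd xd7 yd39 zd61) (kd xd23 yd53 zd61) (kd xd20 yd33 zd57) (kd xd10 yd13 zd36) (kd xd7 yd34 zd25) (kd xd23 yd54 zd3) (kd xd23 yd54 zd4) (kd xd7 yd34 zd26) (kd xd23 yd54 zd8) (kd xd18 yd5 zd47) (kd xd14 yd23 zd39) (kd xd7 yd34 zd28) (kd xd23 yd54 zd11) (kd xd23 yd54 zd14) (kd xd7 yd34 zd29)) (@D3.rec (fun _ => Pt) (kd xd22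 yd46 zd53) (kd xd11 yd35 zd44) (kd xd14 yd23 zd59) (kd xd7 yd34 zd32) (kd xd14 yd25 zd2) (kd xd13 yd27 zd22) (kd xd23 yd54 zd31) (kd xd14 yd25 zd4) (kd xd23 yd54 zd37) (kd xd15 yd52 zd0) (kd xd23 yd54 zd38) (kd xd14 yd25 zd9) (kd xd23 yd54 zd39) (kd xd7 yd34 zd36) (kd xd7 yd34 zd37) (kd xd14 yd42 zd1) (kd xd13 yd27 zd19) (kd xd13 yd27 zd20) (kd xd23 yd54 zd49) (kd xd14 yd42 zd3) (kd xd22 yd50 zd49) (kd xd21 yd54 zd12) (kd xd14 yd42 zd8) (kd xd13 yd13 zd17) (kd xd23 yd54 zd59) (kd xd20 yd11 zd38) (kd xd20 yd11 zd39) (kd xd16 yd51 zd60) (kd xd13 yd39 zd15) (kd xd23 yd55 zd3) (kd xd20 yd36 zd28) (kd xd23 yd55 zd8) (kd xd23 yd55 zd10) (kd xd7 yd34 zd44) (kd xd23 yd55 zd14) (kd xd22 yd49 zd16) (kd xd23 yd55 zd15) (kd xd7 yd36 zd31) (kd xd7 yd36 zd32) (kd xd7 yd36 zd58) (kd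 xd7 yd34 zd48) (kd xd13 yd39 zd5) (kd xd7 yd34 zd50) (kd xd19 yd52 zd1) (kd xd23 yd55 zd24) (kd xd19 yd40 zd37) (kd xd7 yd34 zd53) (kd xd16 yd44 zd32) (kd xd20 yd28 zd56) (kd xd23 yd55 zd28) (kd xd7 yd34 zd57) (kd xd13 yd17 zd55) (kd xd23 yd55 zd36) (kd xd7 yd34 zd58) (kd xd23 yd55 zd40) (kd xd17 yd20 zd44) (kd xd23 yd55 zd43) (kd xd7 yd34 zd60) (kd xd7 yd34 zd61) (kd xd13 yd42 zd29) (kd xd13 yd23 zd35) (kd xd7 yd47 zd33)) (@D3.rec (fun _ => Pt) (kd xd7 yd39 zd23) (kd xd13 yd15 zd55) (kd xd7 yd35 zd4) (kd xd14 yd48 zd49) (kd xd22 yd39 zd30) (kd xd23 yd4 zd43) (kd xd7 yd35 zd7) (kd xd23 yd56 zd3) (kd xd7 yd35 zd8) (kd xd8 yd15 zd27) (kd xd23 yd56 zd9) (kd xd7 yd35 zd10) (kd xd13 yd18 zd35) (kd xd7 yd35 zd11) (kd xd23 yd56 zd15) (kd xd17 yd26 zd41) (kd xd17 yd32 zd38)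 (kd xd7 yd35 zd13) (kd xd23 yd56 zd20) (kd xd23 yd56 zd21) (kd xd7 yd35 zd14) (kd xd13 yd32 zd21) (kd xd7 yd35 zd16) (kd xd13 yd32 zd22) (kd xd14 yd42 zd48) (kd xd13 yd33 zd26) (kd xd22 yd46 zd49) (kd xd13 yd18 zd39) (kd xd13 yd18 zd41) (kd xd13 yd31 zd48) (kd xd22 yd48 zd15) (kd xd23 yd56 zd31) (kd xd7 yd35 zd22) (kd xd7 yd35 zd23) (kd xd22 yd38 zd39) (kd xd20 yd28 zd51) (kd xd7 yd35 zd24) (kd xd23 yd11 zd13) (kd xd16 yd59 zd8) (kd xd7 yd35 zd25) (kd xd7 yd35 zd26) (kd xd13 yd21 zd43) (kd xd13 yd21 zd44) (kd xd23 yd56 zd39) (kd xd7 yd35 zd29) (kd xd13 yd19 zd31) (kd xd23 yd56 zd42) (kd xd7 yd35 zd30) (kd xd14 yd37 zd53) (kd xd7 yd45 zd1) (kd xd7 yd44 zd3) (kd xd23 yd56 zd49) (kd xd7 yd35 zd32) (kd xd22 yd52 zd13) (kd xd7 yd35 zd34) (kd xd16 yd3 zd56) (kd xd7 yd35 zd35)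 (kd xd23 yd56 zd52) (kd xd23 yd56 zd53) (kd xd7 yd35 zd38) (kd xd7 yd35 zd39) (kd xd18 yd13 zd45)) (@D3.rec (fun _ => Pt) (kd xd7 yd35 zd41) (kd xd23 yd56 zd56) (kd xd23 yd56 zd57) (kd xd7 yd35 zd42) (kd xd11 yd37 zd28) (kd xd23 yd56 zd61) (kd xd7 yd35 zd43) (kd xd22 yd32 zd38) (kd xd23 yd34 zd5) (kd xd23 yd11 zd51) (kd xd23 yd57 zd7) (kd xd23 yd57 zd9) (kd xd7 yd35 zd45) (kd xd13 yd19 zd56) (kd xd7 yd35 zd46) (kd xd21 yd52 zd14) (kd xd7 yd44 zd15) (kd xd7 yd35 zd48) (kd xd13 yd33 zd25) (kd xd22 yd46 zd47) (kd xd23 yd57 zd19) (kd xd19 yd31 zd13) (kd xd23 yd57 zd20) (kd xd20 yd30 zd34) (kd xd20 yd30 zd33) (kd xd7 yd35 zd54) (kd xd19 yd29 zd22) (kd xd19 yd21 zd59) (kd xd7 yd35 zd55) (kd xd23 yd57 zd25) (kd xd7 yd35 zd56) (kd xd23 yd57 zd27) (kd xd14 yd48 zd14) (kd xd23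 yd57 zd32) (kd xd7 yd35 zd58) (kd xd23 yd57 zd34) (kd xd23 yd57 zd35) (kd xd23 yd57 zd37) (kd xd23 yd57 zd38) (kd xd7 yd35 zd61) (kd xd23 yd57 zd42) (kd xd23 yd57 zd43) (kd xd7 yd36 zd0) (kd xd23 yd57 zd46) (kd xd17 yd24 zd9) (kd xd7 yd36 zd1) (kd xd23 yd57 zd47) (kd xd7 yd51 zd32) (kd xd21 yd11 zd32) (kd xd7 yd36 zd3) (kd xd7 yd36 zd4) (kd xd19 yd27 zd51) (kd xd19 yd27 zd49) (kd xd7 yd36 zd5) (kd xd21 yd3 zd41) (kd xd19 yd18 zd58) (kd xd19 yd19 zd5) (kd xd13 yd16 zd48) (kd xd19 yd50 zd55) (kd xd22 yd40 zd60) (kd xd22 yd29 zd48) (kd xd9 yd48 zd18)) (@D3.rec (fun _ => Pt) (kd xd7 yd36 zd9) (kd xd12 yd24 zd4) (kd xd23 yd58 zd1) (kd xd13 yd58 zd37) (kd xd19 yd43 zd14) (kd xd23 yd58 zd3) (kd xd7 yd36 zd12) (kd xd23 yd58 zd4) (kd xd23 yd58 zd5) (kd xd7 yd36 zd15) (kd xd20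 yd30 zd32) (kd xd12 yd33 zd33) (kd xd12 yd33 zd35) (kd xd15 yd44 zd17) (kd xd7 yd36 zd19) (kd xd19 yd52 zd42) (kd xd10 yd56 zd59) (kd xd23 yd58 zd9) (kd xd19 yd52 zd47) (kd xd13 yd2 zd25) (kd xd23 yd58 zd10) (kd xd20 yd33 zd36) (kd xd21 yd3 zd24) (kd xd13 yd6 zd34) (kd xd7 yd36 zd23) (kd xd23 yd58 zd14) (kd xd23 yd58 zd15) (kd xd7 yd36 zd24) (kd xd23 yd58 zd21) (kd xd9 yd8 zd51) (kd xd15 yd0 zd30) (kd xd7 yd36 zd27) (kd xd13 yd16 zd47) (kd xd23 yd58 zd23) (kd xd19 yd17 zd33) (kd xd19 yd51 zd41) (kd xd19 yd21 zd11) (kd xd23 yd55 zd16) (kd xd9 yd13 zd28) (kd xd23 yd58 zd28) (kd xd23 yd55 zd18) (kd xd11 yd49 zd53) (kd xd23 yd58 zd35) (kd xd11 yd28 zd48) (kd xd17 yd7 zd52) (kd xd17 yd58 zd28) (kd xd20 yd41 zd56) (kd xd17 yd52 zd21) (kd xd11 yd58 zd50) (kd xd23 yd58 zd42)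 (kd xd22 yd37 zd36) (kd xd23 yd58 zd46) (kd xd14 yd29 zd60) (kd xd21 yd59 zd45) (kd xd19 yd5 zd35) (kd xd7 yd36 zd39) (kd xd23 yd58 zd48) (kd xd7 yd36 zd40) (kd xd23 yd58 zd51) (kd xd23 yd58 zd53) (kd xd23 yd58 zd56) (kd xd7 yd41 zd40)) (@D3.rec (fun _ => Pt) (kd xd7 yd36 zd42) (kd xd14 yd30 zd2) (kd xd23 yd58 zd60) (kd xd7 yd36 zd43) (kd xd13 yd45 zd36) (kd xd13 yd20 zd41) (kd xd23 yd59 zd3) (kd xd13 yd20 zd43) (kd xd23 yd59 zd7) (kd xd23 yd59 zd10) (kd xd23 yd59 zd14) (kd xd7 yd36 zd45) (kd xd23 yd59 zd18) (kd xd21 yd52 zd49) (kd xd7 yd36 zd47) (kd xd13 yd22 zd0) (kd xd22 yd32 zd25) (kd xd13 yd21 zd22) (kd xd7 yd41 zd45) (kd xd8 yd34 zd59) (kd xd22 yd37 zd8) (kd xd22 yd37 zd7) (kd xd12 yd32 zd52) (kd xd7 yd36 zd53) (kd xd19 yd4 zd40) (kd xd12 yd48 zd6) (kd xd21 yd41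 zd24) (kd xd21 yd41 zd25) (kd xd13 yd55 zd35) (kd xd19 yd8 zd29) (kd xd19 yd8 zd30) (kd xd22 yd39 zd27) (kd xd22 yd32 zd30) (kd xd23 yd59 zd28) (kd xd23 yd59 zd31) (kd xd22 yd39 zd44) (kd xd22 yd39 zd34) (kd xd22 yd33 zd1) (kd xd23 yd59 zd36) (kd xd20 yd50 zd50) (kd xd23 yd59 zd40) (kd xd14 yd8 zd14) (kd xd21 yd33 zd33) (kd xd14 yd50 zd16) (kd xd23 yd59 zd42) (kd xd23 yd59 zd43) (kd xd13 yd38 zd38) (kd xd10 yd41 zd1) (kd xd23 yd59 zd44) (kd xd7 yd37 zd7) (kd xd22 yd40 zd56) (kd xd21 yd54 zd11) (kd xd7 yd37 zd9) (kd xd7 yd37 zd10) (kd xd13 yd23 zd37) (kd xd13 yd23 zd38) (kd xd23 yd59 zd56) (kd xd11 yd0 zd18) (kd xd13 yd17 zd59) (kd xd13 yd17 zd60) (kd xd13 yd23 zd9) (kd xd7 yd38 zd55)) (@D3.rec (fun _ => Pt) (kd xd14 yd42 zd36) (kd xd8 yd22 zd24) (kd xd23 yd35 zd22)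 (kd xd15 yd45 zd54) (kd xd11 yd0 zd15) (kd xd17 yd19 zd9) (kd xd17 yd0 zd47) (kd xd7 yd37 zd17) (kd xd7 yd37 zd18) (kd xd14 yd13 zd28) (kd xd13 yd23 zd10) (kd xd13 yd17 zd38) (kd xd24 yd0 zd21) (kd xd7 yd37 zd20) (kd xd14 yd48 zd53) (kd xd24 yd0 zd25) (kd xd23 yd50 zd13) (kd xd22 yd34 zd34) (kd xd7 yd37 zd22) (kd xd20 yd59 zd35) (kd xd7 yd37 zd24) (kd xd24 yd0 zd31) (kd xd7 yd37 zd25) (kd xd24 yd0 zd33) (kd xd7 yd37 zd26) (kd xd7 yd37 zd27) (kd xd22 yd36 zd55) (kd xd19 yd31 zd17) (kd xd19 yd31 zd4) (kd xd14 yd33 zd1) (kd xd9 yd26 zd0) (kd xd9 yd25 zd61) (kd xd24 yd0 zd40) (kd xd7 yd37 zd32) (kd xd7 yd51 zd27) (kd xd13 yd11 zd32) (kd xd7 yd52 zd32) (kd xd13 yd4 zd52) (kd xd24 yd0 zd49) (kd xd7 yd37 zd43) (kd xd24 yd0 zd51) (kd xd7 yd37 zd45) (kd xd24 yd0 zd53) (kd xd24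 yd0 zd54) (kd xd7 yd37 zd46) (kd xd24 yd0 zd56) (kd xd8 yd52 zd40) (kd xd7 yd37 zd47) (kd xd24 yd0 zd61) (kd xd16 yd35 zd10) (kd xd7 yd37 zd48) (kd xd22 yd34 zd53) (kd xd22 yd34 zd54) (kd xd15 yd28 zd16) (kd xd7 yd37 zd50) (kd xd13 yd44 zd10) (kd xd13 yd44 zd11) (kd xd22 yd46 zd31) (kd xd13 yd39 zd3) (kd xd7 yd47 zd14) (kd xd7 yd37 zd55) (kd xd7 yd37 zd56)) (@D3.rec (fun _ => Pt) (kd xd7 yd37 zd57) (kd xd14 yd52 zd4) (kd xd22 yd33 zd46) (kd xd24 yd1 zd27) (kd xd22 yd40 zd23) (kd xd17 yd1 zd26) (kd xd7 yd38 zd0) (kd xd17 yd17 zd21) (kd xd24 yd1 zd34) (kd xd19 yd42 zd2) (kd xd7 yd38 zd3) (kd xd22 yd41 zd31) (kd xd24 yd1 zd35) (kd xd7 yd38 zd4) (kd xd12 yd51 zd49) (kd xd7 yd38 zd7) (kd xd7 yd38 zd8) (kd xd13 yd40 zd7) (kd xd15 yd28 zd46) (kd xd19 yd29 zd51) (kd xd24 yd1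 zd41) (kd xd7 yd38 zd11) (kd xd24 yd1 zd46) (kd xd7 yd38 zd12) (kd xd15 yd28 zd45) (kd xd24 yd1 zd50) (kd xd7 yd38 zd14) (kd xd22 yd41 zd32) (kd xd24 yd1 zd53) (kd xd22 yd3 zd42) (kd xd24 yd1 zd55) (kd xd24 yd1 zd57) (kd xd7 yd38 zd17) (kd xd24 yd2 zd0) (kd xd24 yd2 zd1) (kd xd7 yd38 zd18) (kd xd22 yd1 zd18) (kd xd7 yd38 zd19) (kd xd17 yd22 zd0) (kd xd14 yd16 zd57) (kd xd12 yd57 zd25) (kd xd24 yd2 zd13) (kd xd7 yd38 zd21) (kd xd7 yd38 zd22) (kd xd17 yd2 zd45) (kd xd17 yd21 zd51) (kd xd7 yd38 zd23) (kd xd14 yd29 zd6) (kd xd9 yd23 zd50) (kd xd24 yd2 zd19) (kd xd24 yd2 zd21) (kd xd21 yd19 zd34) (kd xd7 yd38 zd26) (kd xd24 yd2 zd27) (kd xd7 yd38 zd27) (kd xd21 yd7 zd9) (kd xd14 yd13 zd58) (kd xd9 yd24 zd8) (kd xd24 yd2 zd37) (kd xd14 yd17 zd2) (kd xd17 yd34 zd14) (kd xd13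 yd17 zd54)) (@D3.rec (fun _ => Pt) (kd xd24 yd2 zd40) (kd xd24 yd2 zd42) (kd xd19 yd42 zd52) (kd xd7 yd38 zd30) (kd xd24 yd2 zd51) (kd xd21 yd20 zd55) (kd xd7 yd38 zd31) (kd xd24 yd2 zd56) (kd xd24 yd2 zd59) (kd xd24 yd2 zd61) (kd xd22 yd0 zd5) (kd xd7 yd38 zd33) (kd xd24 yd3 zd2) (kd xd21 yd40 zd32) (kd xd20 yd3 zd33) (kd xd13 yd23 zd32) (kd xd20 yd46 zd15) (kd xd20 yd2 zd57) (kd xd22 yd34 zd31) (kd xd24 yd3 zd12) (kd xd24 yd3 zd14) (kd xd7 yd38 zd36) (kd xd24 yd3 zd19) (kd xd7 yd38 zd38) (kd xd7 yd38 zd39) (kd xd14 yd25 zd46) (kd xd14 yd25 zd47) (kd xd24 yd3 zd28) (kd xd22 yd35 zd8) (kd xd14 yd14 zd37) (kd xd14 yd14 zd38) (kd xd13 yd39 zd52) (kd xd22 yd40 zd59) (kd xd23 yd10 zd20) (kd xd24 yd3 zd37) (kd xd20 yd0 zd9) (kd xd16 yd18 zd17) (kd xd24 yd3 zd40) (kd xd7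 yd38 zd45) (kd xd24 yd3 zd42) (kd xd7 yd38 zd46) (kd xd23 yd43 zd51) (kd xd7 yd38 zd47) (kd xd22 yd43 zd16) (kd xd7 yd51 zd7) (kd xd22 yd33 zd23) (kd xd24 yd3 zd55) (kd xd24 yd3 zd59) (kd xd7 yd38 zd49) (kd xd23 yd10 zd13) (kd xd23 yd47 zd23) (kd xd23 yd47 zd11) (kd xd24 yd2 zd9) (kd xd7 yd38 zd51) (kd xd24 yd4 zd9) (kd xd13 yd29 zd36) (kd xd23 yd10 zd50) (kd xd24 yd4 zd15) (kd xd24 yd0 zd4) (kd xd23 yd6 zd5) (kd xd24 yd4 zd25) (kd xd24 yd4 zd27)) (@D3.rec (fun _ => Pt) (kd xd24 yd4 zd28) (kd xd24 yd0 zd6) (kd xd14 yd17 zd4) (kd xd24 yd4 zd33) (kd xd14 yd17 zd7) (kd xd23 yd10 zd1) (kd xd24 yd4 zd43) (kd xd24 yd4 zd45) (kd xd23 yd0 zd24) (kd xd14 yd17 zd11) (kd xd13 yd40 zd9) (kd xd13 yd40 zd10) (kd xd24 yd4 zd52) (kd xd19 yd21 zd40) (kd xd13 yd40 zd8) (kd xd13 yd39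 zd47) (kd xd7 yd46 zd55) (kd xd23 yd8 zd17) (kd xd24 yd5 zd1) (kd xd24 yd5 zd5) (kd xd23 yd33 zd61) (kd xd16 yd18 zd15) (kd xd13 yd39 zd46) (kd xd13 yd39 zd33) (kd xd23 yd8 zd12) (kd xd24 yd5 zd12) (kd xd24 yd5 zd16) (kd xd24 yd5 zd20) (kd xd7 yd39 zd7) (kd xd24 yd5 zd23) (kd xd13 yd29 zd41) (kd xd7 yd39 zd11) (kd xd7 yd39 zd12) (kd xd7 yd39 zd13) (kd xd24 yd5 zd26) (kd xd7 yd39 zd14) (kd xd7 yd39 zd15) (kd xd7 yd39 zd16) (kd xd16 yd57 zd3) (kd xd23 yd4 zd10) (kd xd23 yd4 zd11) (kd xd24 yd5 zd36) (kd xd24 yd5 zd38) (kd xd13 yd23 zd42) (kd xd23 yd6 zd34) (kd xd14 yd30 zd25) (kd xd14 yd24 zd25) (kd xd14 yd24 zd26) (kd xd23 yd55 zd51) (kd xd12 yd46 zd57) (kd xd10 yd41 zd35) (kd xd7 yd39 zd24) (kd xd22 yd32 zd60) (kd xd24 yd5 zd50) (kd xd7 yd39 zd26) (kd xd21 yd40 zd23)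 (kd xd11 yd47 zd20) (kd xd7 yd39 zd28) (kd xd17 yd34 zd12) (kd xd22 yd0 zd34) (kd xd23 yd53 zd21) (kd xd7 yd39 zd30)) (@D3.rec (fun _ => Pt) (kd xd16 yd44 zd36) (kd xd24 yd5 zd61) (kd xd7 yd39 zd31) (kd xd13 yd33 zd58) (kd xd13 yd18 zd23) (kd xd24 yd6 zd6) (kd xd12 yd10 zd53) (kd xd24 yd6 zd9) (kd xd7 yd39 zd38) (kd xd24 yd6 zd11) (kd xd14 yd16 zd21) (kd xd14 yd16 zd22) (kd xd7 yd39 zd40) (kd xd22 yd6 zd57) (kd xd23 yd11 zd47) (kd xd24 yd6 zd15) (kd xd23 yd53 zd51) (kd xd23 yd53 zd4) (kd xd7 yd39 zd42) (kd xd24 yd6 zd19) (kd xd17 yd20 zd50) (kd xd17 yd20 zd49) (kd xd17 yd32 zd16) (kd xd7 yd39 zd44) (kd xd24 yd6 zd25) (kd xd7 yd39 zd45) (kd xd22 yd34 zd10) (kd xd24 yd6 zd34) (kd xd22 yd57 zd46) (kd xd24 yd6 zd38) (kd xd20 yd20 zd26) (kd xd24 yd6 zd42) (kd xd24 yd6 zd45)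 (kd xd7 yd39 zd49) (kd xd24 yd6 zd48) (kd xd23 yd52 zd50) (kd xd22 yd18 zd27) (kd xd24 yd6 zd49) (kd xd24 yd6 zd52) (kd xd24 yd6 zd56) (kd xd7 yd39 zd51) (kd xd24 yd7 zd0) (kd xd24 yd7 zd1) (kd xd7 yd39 zd53) (kd xd14 yd14 zd27) (kd xd7 yd39 zd54) (kd xd21 yd6 zd61) (kd xd9 yd27 zd34) (kd xd12 yd44 zd61) (kd xd8 yd15 zd28) (kd xd14 yd14 zd29) (kd xd22 yd34 zd29) (kd xd13 yd18 zd34) (kd xd24 yd7 zd20) (kd xd24 yd7 zd21) (kd xd11 yd37 zd41) (kd xd7 yd39 zd57) (kd xd24 yd7 zd29) (kd xd24 yd7 zd31) (kd xd7 yd39 zd58) (kd xd19 yd15 zd0) (kd xd8 yd15 zd29)) (@D3.rec (fun _ => Pt) (kd xd24 yd7 zd36) (kd xd22 yd33 zd32) (kd xd7 yd39 zd60) (kd xd14 yd43 zd45) (kd xd15 yd26 zd14) (kd xd19 yd24 zd29) (kd xd24 yd7 zd43) (kd xd21 yd44 zd8) (kd xd19 yd24 zd30) (kd xd22 yd33 zd36)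 (kd xd24 yd7 zd47) (kd xd24 yd7 zd50) (kd xd24 yd7 zd53) (kd xd7 yd40 zd1) (kd xd24 yd7 zd57) (kd xd15 yd59 zd9) (kd xd7 yd40 zd3) (kd xd13 yd4 zd6) (kd xd14 yd52 zd2) (kd xd22 yd33 zd56) (kd xd13 yd28 zd22) (kd xd13 yd28 zd16) (kd xd24 yd8 zd6) (kd xd24 yd8 zd9) (kd xd24 yd8 zd10) (kd xd22 yd33 zd59) (kd xd24 yd8 zd12) (kd xd7 yd40 zd7) (kd xd7 yd40 zd8) (kd xd22 yd40 zd32) (kd xd22 yd56 zd13) (kd xd22 yd33 zd15) (kd xd22 yd40 zd34) (kd xd14 yd12 zd40) (kd xd14 yd12 zd41) (kd xd24 yd8 zd21) (kd xd24 yd8 zd23) (kd xd21 yd20 zd30) (kd xd22 yd40 zd38) (kd xd22 yd14 zd27) (kd xd7 yd40 zd13) (kd xd24 yd8 zd26) (kd xd15 yd18 zd14) (kd xd24 yd8 zd32) (kd xd24 yd8 zd34) (kd xd7 yd40 zd16) (kd xd24 yd8 zd37) (kd xd14 yd14 zd36) (kd xd14 yd14 zd40) (kd xd21 yd39 zd41) (kd xd18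 yd48 zd4) (kd xd18 yd48 zd11) (kd xd14 yd14 zd47) (kd xd24 yd8 zd43) (kd xd7 yd40 zd20) (kd xd14 yd51 zd19) (kd xd24 yd8 zd46) (kd xd7 yd40 zd21) (kd xd12 yd59 zd34) (kd xd24 yd8 zd51) (kd xd17 yd57 zd24) (kd xd22 yd54 zd45)) (@D3.rec (fun _ => Pt) (kd xd22 yd48 zd17) (kd xd15 yd15 zd12) (kd xd15 yd51 zd59) (kd xd15 yd51 zd58) (kd xd14 yd49 zd29) (kd xd14 yd49 zd28) (kd xd24 yd9 zd5) (kd xd22 yd38 zd1) (kd xd23 yd27 zd27) (kd xd13 yd20 zd53) (kd xd22 yd38 zd6) (kd xd8 yd48 zd22) (kd xd7 yd40 zd29) (kd xd13 yd30 zd41) (kd xd13 yd30 zd42) (kd xd13 yd10 zd12) (kd xd23 yd5 zd27) (kd xd11 yd37 zd50) (kd xd15 yd4 zd53) (kd xd11 yd34 zd1) (kd xd13 yd29 zd35) (kd xd13 yd29 zd37) (kd xd22 yd50 zd51) (kd xd23 yd10 zd11) (kd xd15 yd55 zd39) (kd xd7 yd40 zd37) (kd xd13 yd33 zd43)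 (kd xd13 yd46 zd2) (kd xd7 yd40 zd39) (kd xd24 yd9 zd32) (kd xd13 yd16 zd14) (kd xd7 yd40 zd41) (kd xd24 yd9 zd38) (kd xd24 yd9 zd41) (kd xd13 yd16 zd23) (kd xd14 yd43 zd3) (kd xd7 yd46 zd38) (kd xd14 yd29 zd44) (kd xd16 yd3 zd54) (kd xd24 yd9 zd46) (kd xd24 yd9 zd48) (kd xd7 yd40 zd47) (kd xd21 yd46 zd38) (kd xd23 yd19 zd47) (kd xd7 yd40 zd48) (kd xd24 yd9 zd53) (kd xd7 yd40 zd49) (kd xd24 yd9 zd56) (kd xd22 yd37 zd47) (kd xd24 yd9 zd60) (kd xd7 yd40 zd51) (kd xd24 yd10 zd1) (kd xd7 yd40 zd53) (kd xd8 yd21 zd41) (kd xd12 yd25 zd30) (kd xd12 yd25 zd31) (kd xd7 yd40 zd56) (kd xd24 yd10 zd5) (kd xd7 yd40 zd59) (kd xd19 yd28 zd49) (kd xd24 yd10 zd7) (kd xd7 yd40 zd60)) (@D3.rec (fun _ => Pt) (kd xd24 yd10 zd9) (kd xd7 yd40 zd61) (kd xd22 yd39 zd25) (kd xd23 yd5 zd38) (kd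 xd13 yd37 zd7) (kd xd7 yd41 zd1) (kd xd14 yd23 zd47) (kd xd23 yd48 zd33) (kd xd24 yd10 zd14) (kd xd24 yd10 zd16) (kd xd7 yd41 zd3) (kd xd24 yd10 zd20) (kd xd7 yd41 zd4) (kd xd7 yd41 zd5) (kd xd23 yd39 zd14) (kd xd22 yd22 zd14) (kd xd7 yd41 zd7) (kd xd21 yd46 zd11) (kd xd9 yd19 zd54) (kd xd7 yd41 zd12) (kd xd24 yd10 zd27) (kd xd7 yd41 zd13) (kd xd24 yd10 zd31) (kd xd9 yd23 zd2) (kd xd21 yd8 zd4) (kd xd12 yd17 zd55) (kd xd7 yd41 zd15) (kd xd11 yd4 zd3) (kd xd7 yd41 zd17) (kd xd24 yd10 zd37) (kd xd13 yd44 zd15) (kd xd19 yd56 zd39) (kd xd7 yd41 zd19) (kd xd16 yd4 zd50) (kd xd7 yd41 zd20) (kd xd24 yd10 zd41) (kd xd7 yd41 zd21) (kd xd24 yd10 zd45) (kd xd23 yd29 zd11) (kd xd24 yd10 zd49) (kd xd7 yd41 zd23) (kd xd22 yd39 zd26) (kd xd12 yd45 zd59) (kd xd23 yd10 zd56) (kd xd14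 yd28 zd37) (kd xd22 yd58 zd33) (kd xd23 yd1 zd0) (kd xd7 yd41 zd26) (kd xd12 yd10 zd40) (kd xd14 yd50 zd0) (kd xd7 yd41 zd28) (kd xd9 yd4 zd52) (kd xd24 yd10 zd58) (kd xd22 yd25 zd56) (kd xd7 yd41 zd29) (kd xd24 yd11 zd0) (kd xd7 yd41 zd30) (kd xd7 yd45 zd28) (kd xd7 yd41 zd31) (kd xd22 yd36 zd17) (kd xd14 yd20 zd52) (kd xd24 yd11 zd5)) (@D3.rec (fun _ => Pt) (kd xd7 yd41 zd33) (kd xd7 yd41 zd34) (kd xd14 yd21 zd1) (kd xd24 yd3 zd16) (kd xd14 yd35 zd44) (kd xd22 yd35 zd59) (kd xd7 yd41 zd37) (kd xd24 yd3 zd17) (kd xd20 yd48 zd14) (kd xd7 yd45 zd27) (kd xd14 yd37 zd54) (kd xd11 yd45 zd38) (kd xd13 yd21 zd49) (kd xd9 yd25 zd53) (kd xd16 yd17 zd60) (kd xd24 yd11 zd19) (kd xd24 yd11 zd22) (kd xd24 yd11 zd24) (kd xd7 yd41 zd42) (kd xd24 yd11 zd28) (kd xd22 yd57 zd14) (kd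 xd24 yd11 zd32) (kd xd19 yd51 zd45) (kd xd14 yd40 zd21) (kd xd23 yd58 zd55) (kd xd14 yd25 zd45) (kd xd24 yd11 zd44) (kd xd23 yd8 zd60) (kd xd24 yd11 zd50) (kd xd20 yd50 zd34) (kd xd23 yd9 zd19) (kd xd23 yd7 zd50) (kd xd23 yd4 zd59) (kd xd24 yd8 zd57) (kd xd24 yd11 zd58) (kd xd19 yd44 zd28) (kd xd7 yd41 zd51) (kd xd15 yd27 zd49) (kd xd8 yd44 zd29) (kd xd24 yd12 zd0) (kd xd7 yd41 zd55) (kd xd7 yd41 zd56) (kd xd24 yd12 zd3) (kd xd7 yd41 zd57) (kd xd22 yd32 zd24) (kd xd11 yd52 zd56) (kd xd7 yd41 zd59) (kd xd7 yd41 zd60) (kd xd7 yd41 zd61) (kd xd7 yd42 zd0) (kd xd23 yd11 zd1) (kd xd13 yd19 zd44) (kd xd24 yd12 zd18) (kd xd7 yd42 zd2) (kd xd7 yd42 zd4) (kd xd19 yd30 zd11) (kd xd7 yd42 zd5) (kd xd14 yd48 zd17) (kd xd24 yd12 zd28) (kd xd7 yd42 zd9) (kd xd24 yd12 zd30) (kd xd24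 yd12 zd31)) (@D3.rec (fun _ => Pt) (kd xd7 yd42 zd10) (kd xd18 yd56 zd58) (kd xd7 yd42 zd11) (kd xd10 yd33 zd46) (kd xd22 yd7 zd55) (kd xd22 yd7 zd56) (kd xd18 yd14 zd29) (kd xd7 yd42 zd13) (kd xd7 yd42 zd14) (kd xd22 yd36 zd5) (kd xd24 yd12 zd50) (kd xd22 yd58 zd57) (kd xd24 yd12 zd54) (kd xd7 yd42 zd16) (kd xd22 yd36 zd48) (kd xd24 yd12 zd57) (kd xd22 yd38 zd33) (kd xd24 yd12 zd61) (kd xd24 yd13 zd2) (kd xd7 yd42 zd19) (kd xd24 yd13 zd5) (kd xd22 yd13 zd0) (kd xd24 yd13 zd9) (kd xd7 yd42 zd20) (kd xd19 yd18 zd57) (kd xd24 yd13 zd15) (kd xd24 yd13 zd17) (kd xd24 yd13 zd22) (kd xd7 yd42 zd21) (kd xd24 yd13 zd28) (kd xd19 yd33 zd29) (kd xd12 yd45 zd27) (kd xd14 yd35 zd38) (kd xd22 yd2 zd20) (kd xd14 yd35 zd15) (kd xd22 yd36 zd18) (kd xd13 yd19 zd55) (kd xd19 yd27 zd39)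 (kd xd7 yd42 zd25) (kd xd14 yd36 zd43) (kd xd24 yd7 zd55) (kd xd10 yd34 zd3) (kd xd10 yd39 zd54) (kd xd7 yd42 zd28) (kd xd24 yd13 zd38) (kd xd20 yd31 zd9) (kd xd22 yd35 zd61) (kd xd19 yd31 zd23) (kd xd19 yd31 zd22) (kd xd8 yd16 zd13) (kd xd15 yd31 zd40) (kd xd23 yd11 zd14) (kd xd24 yd13 zd49) (kd xd24 yd13 zd51) (kd xd7 yd42 zd32) (kd xd24 yd13 zd54) (kd xd24 yd13 zd56) (kd xd14 yd15 zd28) (kd xd24 yd13 zd61) (kd xd24 yd14 zd1) (kd xd14 yd15 zd35) (kd xd24 yd14 zd2)) (@D3.rec (fun _ => Pt) (kd xd17 yd35 zd32) (kd xd24 yd14 zd8) (kd xd24 yd14 zd12) (kd xd18 yd51 zd18) (kd xd22 yd48 zd10) (kd xd19 yd40 zd55) (kd xd19 yd44 zd22) (kd xd19 yd44 zd20) (kd xd16 yd57 zd35) (kd xd24 yd14 zd19) (kd xd19 yd17 zd21) (kd xd7 yd42 zd41) (kd xd24 yd14 zd23) (kd xd7 yd42 zd42) (kd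 xd16 yd7 zd29) (kd xd24 yd14 zd26) (kd xd24 yd14 zd28) (kd xd7 yd42 zd44) (kd xd24 yd14 zd33) (kd xd24 yd14 zd34) (kd xd7 yd42 zd45) (kd xd22 yd15 zd29) (kd xd15 yd26 zd41) (kd xd7 yd42 zd46) (kd xd24 yd14 zd39) (kd xd23 yd11 zd0) (kd xd23 yd11 zd10) (kd xd24 yd14 zd45) (kd xd7 yd42 zd48) (kd xd20 yd51 zd51) (kd xd7 yd42 zd50) (kd xd13 yd46 zd14) (kd xd23 yd39 zd52) (kd xd24 yd14 zd52) (kd xd7 yd42 zd52) (kd xd7 yd42 zd53) (kd xd19 yd17 zd26) (kd xd7 yd42 zd54) (kd xd24 yd14 zd60) (kd xd7 yd42 zd57) (kd xd13 yd20 zd33) (kd xd7 yd42 zd59) (kd xd13 yd58 zd13) (kd xd13 yd4 zd32) (kd xd14 yd52 zd12) (kd xd22 yd43 zd17) (kd xd13 yd36 zd25) (kd xd13 yd3 zd28) (kd xd22 yd43 zd20) (kd xd13 yd3 zd31) (kd xd22 yd43 zd22) (kd xd22 yd43 zd23) (kd xd23 yd39 zd35) (kd xd7 yd53 zd46)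 (kd xd13 yd7 zd39) (kd xd11 yd28 zd4) (kd xd19 yd10 zd59) (kd xd24 yd15 zd22) (kd xd24 yd15 zd24) (kd xd7 yd43 zd4) (kd xd24 yd15 zd26) (kd xd7 yd43 zd5)) (@D3.rec (fun _ => Pt) (kd xd11 yd58 zd54) (kd xd14 yd22 zd29) (kd xd18 yd5 zd54) (kd xd7 yd43 zd7) (kd xd7 yd43 zd8) (kd xd13 yd6 zd35) (kd xd23 yd34 zd34) (kd xd18 yd25 zd14) (kd xd23 yd49 zd23) (kd xd23 yd49 zd19) (kd xd7 yd43 zd12) (kd xd18 yd25 zd15) (kd xd7 yd43 zd13) (kd xd20 yd43 zd23) (kd xd17 yd57 zd56) (kd xd7 yd43 zd16) (kd xd24 yd15 zd33) (kd xd19 yd17 zd25) (kd xd21 yd45 zd33) (kd xd7 yd43 zd17) (kd xd24 yd15 zd39) (kd xd24 yd15 zd41) (kd xd7 yd43 zd18) (kd xd11 yd40 zd52) (kd xd11 yd40 zd53) (kd xd20 yd49 zd33) (kd xd24 yd15 zd47) (kd xd20 yd39 zd52) (kd xd7 yd43 zd20) (kd xd13 yd3 zd22) (kd xd7 yd43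 zd21) (kd xd7 yd43 zd22) (kd xd20 yd49 zd32) (kd xd24 yd15 zd54) (kd xd7 yd43 zd24) (kd xd20 yd40 zd37) (kd xd21 yd3 zd14) (kd xd23 yd18 zd58) (kd xd24 yd16 zd2) (kd xd24 yd16 zd4) (kd xd24 yd16 zd8) (kd xd7 yd43 zd26) (kd xd24 yd16 zd11) (kd xd11 yd46 zd19) (kd xd18 yd38 zd40) (kd xd7 yd43 zd28) (kd xd7 yd43 zd29) (kd xd17 yd24 zd32) (kd xd22 yd13 zd21) (kd xd24 yd16 zd19) (kd xd21 yd30 zd38) (kd xd22 yd36 zd49) (kd xd7 yd43 zd31) (kd xd13 yd24 zd54) (kd xd13 yd49 zd51) (kd xd13 yd56 zd61) (kd xd13 yd10 zd42) (kd xd14 yd5 zd39) (kd xd14 yd5 zd43) (kd xd13 yd58 zd12) (kd xd20 yd15 zd28) (kd xd11 yd58 zd47)) (@D3.rec (fun _ => Pt) (kd xd11 yd58 zd46) (kd xd7 yd43 zd35) (kd xd24 yd16 zd38) (kd xd7 yd51 zd53) (kd xd7 yd43 zd37) (kd xd7 yd43 zd38) (kd xd19 yd31 zd18) (kd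 xd14 yd11 zd2) (kd xd24 yd16 zd43) (kd xd18 yd22 zd23) (kd xd23 yd41 zd46) (kd xd24 yd16 zd45) (kd xd18 yd44 zd46) (kd xd23 yd19 zd16) (kd xd24 yd16 zd50) (kd xd23 yd1 zd21) (kd xd13 yd58 zd10) (kd xd24 yd16 zd57) (kd xd7 yd43 zd43) (kd xd24 yd17 zd0) (kd xd24 yd17 zd2) (kd xd24 yd17 zd4) (kd xd23 yd1 zd24) (kd xd21 yd40 zd25) (kd xd24 yd17 zd9) (kd xd22 yd40 zd9) (kd xd24 yd17 zd17) (kd xd7 yd43 zd46) (kd xd19 yd36 zd1) (kd xd24 yd17 zd21) (kd xd24 yd17 zd23) (kd xd22 yd40 zd15) (kd xd19 yd46 zd21) (kd xd7 yd43 zd48) (kd xd15 yd33 zd4) (kd xd24 yd17 zd28) (kd xd7 yd43 zd49) (kd xd24 yd17 zd31) (kd xd24 yd17 zd36) (kd xd24 yd17 zd41) (kd xd24 yd17 zd43) (kd xd7 yd43 zd50) (kd xd23 yd39 zd33) (kd xd21 yd36 zd31) (kd xd24 yd17 zd52) (kd xd20 yd48 zd34) (kd xd24 yd17 zd56)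 (kd xd24 yd17 zd58) (kd xd7 yd43 zd54) (kd xd24 yd17 zd61) (kd xd24 yd18 zd0) (kd xd11 yd40 zd17) (kd xd21 yd43 zd11) (kd xd21 yd21 zd28) (kd xd24 yd18 zd1) (kd xd7 yd43 zd58) (kd xd24 yd18 zd5) (kd xd7 yd43 zd59) (kd xd16 yd44 zd42) (kd xd24 yd18 zd7) (kd xd20 yd28 zd11) (kd xd7 yd43 zd60)) (@D3.rec (fun _ => Pt) (kd xd21 yd16 zd47) (kd xd18 yd17 zd24) (kd xd24 yd18 zd12) (kd xd7 yd44 zd0) (kd xd24 yd18 zd13) (kd xd7 yd44 zd1) (kd xd23 yd56 zd46) (kd xd13 yd21 zd1) (kd xd23 yd57 zd13) (kd xd23 yd50 zd23) (kd xd23 yd56 zd47) (kd xd23 yd50 zd24) (kd xd11 yd45 zd24) (kd xd24 yd18 zd22) (kd xd7 yd44 zd5) (kd xd14 yd31 zd34) (kd xd17 yd37 zd43) (kd xd24 yd18 zd26) (kd xd18 yd7 zd48) (kd xd7 yd44 zd7) (kd xd23 yd47 zd35) (kd xd13 yd45 zd3) (kd xd24 yd18 zd33) (kd xd7 yd44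 zd9) (kd xd24 yd6 zd24) (kd xd7 yd44 zd10) (kd xd20 yd27 zd14) (kd xd24 yd18 zd39) (kd xd7 yd44 zd11) (kd xd24 yd18 zd40) (kd xd22 yd37 zd10) (kd xd18 yd57 zd31) (kd xd8 yd15 zd22) (kd xd7 yd44 zd13) (kd xd13 yd16 zd50) (kd xd13 yd20 zd51) (kd xd18 yd56 zd54) (kd xd23 yd0 zd26) (kd xd14 yd31 zd32) (kd xd18 yd54 zd22) (kd xd24 yd18 zd55) (kd xd7 yd44 zd17) (kd xd22 yd58 zd50) (kd xd11 yd33 zd49) (kd xd14 yd30 zd4) (kd xd17 yd5 zd33) (kd xd7 yd44 zd22) (kd xd20 yd16 zd16) (kd xd7 yd44 zd23) (kd xd7 yd44 zd24) (kd xd18 yd25 zd34) (kd xd7 yd44 zd25) (kd xd24 yd19 zd2) (kd xd24 yd19 zd3) (kd xd24 yd19 zd5) (kd xd7 yd44 zd26) (kd xd20 yd37 zd44) (kd xd24 yd19 zd7) (kd xd11 yd59 zd10) (kd xd7 yd44 zd27) (kd xd24 yd19 zd11) (kd xd14 yd47 zd38)) (@D3.rec (fun _ => Pt) (kd xd7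 yd44 zd28) (kd xd12 yd23 zd21) (kd xd24 yd19 zd18) (kd xd7 yd44 zd30) (kd xd12 yd28 zd4) (kd xd12 yd28 zd5) (kd xd24 yd19 zd25) (kd xd10 yd55 zd46) (kd xd18 yd20 zd57) (kd xd7 yd44 zd33) (kd xd24 yd19 zd28) (kd xd20 yd52 zd60) (kd xd24 yd19 zd31) (kd xd12 yd50 zd38) (kd xd24 yd19 zd33) (kd xd19 yd28 zd11) (kd xd19 yd28 zd10) (kd xd24 yd19 zd38) (kd xd7 yd44 zd37) (kd xd23 yd59 zd17) (kd xd21 yd44 zd39) (kd xd7 yd44 zd39) (kd xd24 yd19 zd43) (kd xd24 yd19 zd45) (kd xd7 yd44 zd41) (kd xd24 yd19 zd48) (kd xd21 yd16 zd29) (kd xd21 yd36 zd23) (kd xd24 yd19 zd50) (kd xd21 yd38 zd32) (kd xd24 yd19 zd52) (kd xd7 yd44 zd43) (kd xd22 yd37 zd32) (kd xd7 yd44 zd44) (kd xd21 yd47 zd58) (kd xd7 yd44 zd45) (kd xd24 yd19 zd60) (kd xd12 yd39 zd43) (kd xd22 yd37 zd5) (kd xd24 yd19 zd40)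 (kd xd24 yd20 zd2) (kd xd7 yd44 zd47) (kd xd21 yd41 zd32) (kd xd14 yd31 zd39) (kd xd24 yd20 zd3) (kd xd16 yd12 zd45) (kd xd19 yd47 zd34) (kd xd24 yd20 zd5) (kd xd24 yd20 zd8) (kd xd7 yd44 zd50) (kd xd23 yd39 zd57) (kd xd14 yd39 zd44) (kd xd14 yd39 zd43) (kd xd7 yd44 zd51) (kd xd22 yd16 zd3) (kd xd7 yd44 zd52) (kd xd24 yd20 zd17) (kd xd7 yd44 zd55) (kd xd24 yd20 zd19) (kd xd20 yd22 zd39) (kd xd20 yd26 zd57) (kd xd20 yd26 zd58)) (@D3.rec (fun _ => Pt) (kd xd7 yd44 zd58) (kd xd24 yd20 zd22) (kd xd24 yd19 zd41) (kd xd20 yd54 zd27) (kd xd7 yd44 zd60) (kd xd24 yd2 zd28) (kd xd7 yd44 zd61) (kd xd24 yd20 zd26) (kd xd19 yd15 zd42) (kd xd7 yd45 zd0) (kd xd24 yd20 zd32) (kd xd24 yd20 zd34) (kd xd7 yd45 zd3) (kd xd24 yd20 zd36) (kd xd24 yd20 zd40) (kd xd7 yd45 zd4) (kd xd23 yd12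 zd24) (kd xd24 yd20 zd9) (kd xd24 yd20 zd10) (kd xd24 yd20 zd48) (kd xd7 yd45 zd5) (kd xd24 yd20 zd55) (kd xd21 yd41 zd44) (kd xd24 yd20 zd59) (kd xd23 yd11 zd56) (kd xd13 yd45 zd35) (kd xd19 yd54 zd4) (kd xd7 yd45 zd9) (kd xd8 yd20 zd46) (kd xd20 yd51 zd45) (kd xd13 yd22 zd1) (kd xd13 yd22 zd2) (kd xd16 yd54 zd27) (kd xd24 yd21 zd3) (kd xd7 yd45 zd12) (kd xd24 yd21 zd7) (kd xd23 yd49 zd32) (kd xd7 yd45 zd13) (kd xd8 yd34 zd9) (kd xd15 yd3 zd46) (kd xd16 yd10 zd20) (kd xd18 yd18 zd46) (kd xd7 yd45 zd14) (kd xd11 yd4 zd5) (kd xd23 yd49 zd29) (kd xd21 yd53 zd8) (kd xd7 yd46 zd37) (kd xd7 yd45 zd16) (kd xd22 yd55 zd14) (kd xd7 yd45 zd17) (kd xd21 yd53 zd4) (kd xd7 yd45 zd19) (kd xd7 yd45 zd20) (kd xd14 yd18 zd48) (kd xd14 yd30 zd10) (kd xd24 yd21 zd27) (kd xd13 yd47 zd26)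 (kd xd7 yd45 zd23) (kd xd7 yd45 zd24) (kd xd24 yd7 zd7) (kd xd10 yd36 zd33) (kd xd24 yd21 zd35)) (@D3.rec (fun _ => Pt) (kd xd7 yd45 zd26) (kd xd24 yd10 zd30) (kd xd23 yd6 zd58) (kd xd22 yd35 zd19) (kd xd16 yd58 zd23) (kd xd24 yd21 zd42) (kd xd24 yd11 zd2) (kd xd22 yd50 zd18) (kd xd24 yd21 zd46) (kd xd24 yd21 zd50) (kd xd7 yd45 zd29) (kd xd24 yd10 zd0) (kd xd7 yd45 zd33) (kd xd13 yd21 zd53) (kd xd22 yd37 zd48) (kd xd14 yd6 zd29) (kd xd22 yd58 zd30) (kd xd24 yd21 zd55) (kd xd7 yd45 zd37) (kd xd21 yd36 zd27) (kd xd24 yd21 zd59) (kd xd7 yd45 zd39) (kd xd24 yd22 zd0) (kd xd11 yd21 zd19) (kd xd24 yd22 zd1) (kd xd13 yd16 zd59) (kd xd22 yd55 zd13) (kd xd20 yd26 zd5) (kd xd13 yd45 zd22) (kd xd23 yd42 zd42) (kd xd7 yd45 zd47) (kd xd24 yd22 zd9) (kd xd24 yd22 zd12) (kd xd13 yd36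 zd12) (kd xd13 yd45 zd25) (kd xd24 yd22 zd16) (kd xd7 yd45 zd49) (kd xd24 yd22 zd20) (kd xd22 yd40 zd35) (kd xd24 yd22 zd25) (kd xd13 yd53 zd10) (kd xd24 yd22 zd29) (kd xd20 yd13 zd20) (kd xd13 yd54 zd16) (kd xd13 yd55 zd36) (kd xd15 yd44 zd47) (kd xd8 yd33 zd57) (kd xd8 yd34 zd60) (kd xd12 yd13 zd14) (kd xd7 yd45 zd55) (kd xd16 yd4 zd58) (kd xd7 yd45 zd56) (kd xd24 yd22 zd40) (kd xd23 yd59 zd4) (kd xd21 yd56 zd23) (kd xd8 yd22 zd39) (kd xd7 yd45 zd58) (kd xd10 yd39 zd48) (kd xd15 yd27 zd50) (kd xd7 yd45 zd61) (kd xd19 yd4 zd41) (kd xd17 yd2 zd4)) (@D3.rec (fun _ => Pt) (kd xd7 yd46 zd1) (kd xd19 yd19 zd9) (kd xd19 yd19 zd13) (kd xd11 yd52 zd58) (kd xd23 yd2 zd16) (kd xd22 yd36 zd14) (kd xd23 yd33 zd52) (kd xd7 yd46 zd7) (kd xd19 yd7 zd58) (kd xd19 yd7 zd57) (kd xd7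 yd46 zd9) (kd xd24 yd22 zd58) (kd xd14 yd12 zd45) (kd xd13 yd55 zd42) (kd xd13 yd55 zd38) (kd xd12 yd48 zd19) (kd xd18 yd42 zd29) (kd xd7 yd46 zd13) (kd xd18 yd19 zd15) (kd xd19 yd27 zd12) (kd xd13 yd51 zd44) (kd xd7 yd46 zd14) (kd xd21 yd56 zd22) (kd xd7 yd46 zd15) (kd xd24 yd20 zd29) (kd xd10 yd34 zd2) (kd xd23 yd8 zd22) (kd xd7 yd46 zd17) (kd xd7 yd46 zd18) (kd xd24 yd23 zd12) (kd xd10 yd31 zd51) (kd xd10 yd31 zd50) (kd xd24 yd23 zd14) (kd xd7 yd46 zd21) (kd xd23 yd40 zd4) (kd xd23 yd40 zd5) (kd xd7 yd46 zd23) (kd xd24 yd23 zd22) (kd xd23 yd40 zd2) (kd xd7 yd46 zd24) (kd xd24 yd23 zd25) (kd xd23 yd39 zd28) (kd xd7 yd46 zd25) (kd xd14 yd36 zd52) (kd xd14 yd36 zd51) (kd xd22 yd26 zd50) (kd xd7 yd46 zd27) (kd xd14 yd48 zd56) (kd xd22 yd41 zd18) (kd xd20 yd23 zd46) (kd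 xd24 yd23 zd37) (kd xd7 yd46 zd29) (kd xd24 yd23 zd41) (kd xd22 yd37 zd23) (kd xd22 yd40 zd41) (kd xd24 yd23 zd45) (kd xd24 yd23 zd48) (kd xd7 yd46 zd31) (kd xd24 yd23 zd52) (kd xd13 yd57 zd49) (kd xd23 yd25 zd8) (kd xd23 yd30 zd48)) (@D3.rec (fun _ => Pt) (kd xd24 yd23 zd60) (kd xd7 yd46 zd32) (kd xd19 yd56 zd24) (kd xd24 yd24 zd1) (kd xd23 yd25 zd13) (kd xd24 yd24 zd6) (kd xd7 yd46 zd33) (kd xd22 yd45 zd6) (kd xd7 yd46 zd34) (kd xd19 yd6 zd6) (kd xd24 yd22 zd14) (kd xd24 yd24 zd11) (kd xd15 yd29 zd42) (kd xd7 yd49 zd52) (kd xd24 yd0 zd8) (kd xd18 yd18 zd43) (kd xd24 yd24 zd15) (kd xd24 yd24 zd18) (kd xd24 yd24 zd20) (kd xd13 yd9 zd44) (kd xd7 yd46 zd39) (kd xd14 yd30 zd23) (kd xd13 yd9 zd42) (kd xd7 yd46 zd40) (kd xd19 yd8 zd28) (kd xd19 yd8 zd35) (kd xd24 yd24 zd34)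 (kd xd19 yd43 zd19) (kd xd13 yd21 zd15) (kd xd13 yd21 zd16) (kd xd24 yd24 zd41) (kd xd24 yd24 zd43) (kd xd7 yd46 zd44) (kd xd13 yd18 zd58) (kd xd13 yd24 zd32) (kd xd13 yd18 zd60) (kd xd13 yd39 zd11) (kd xd13 yd26 zd56) (kd xd24 yd24 zd52) (kd xd24 yd23 zd26) (kd xd7 yd46 zd48) (kd xd24 yd24 zd56) (kd xd19 yd19 zd1) (kd xd13 yd19 zd46) (kd xd20 yd56 zd14) (kd xd22 yd48 zd50) (kd xd20 yd52 zd7) (kd xd24 yd25 zd4) (kd xd23 yd0 zd38) (kd xd22 yd36 zd2) (kd xd22 yd48 zd53) (kd xd24 yd4 zd58) (kd xd24 yd4 zd54) (kd xd13 yd26 zd60) (kd xd24 yd25 zd13) (kd xd24 yd25 zd14) (kd xd9 yd4 zd7) (kd xd9 yd4 zd6) (kd xd7 yd46 zd57) (kd xd15 yd55 zd48) (kd xd11 yd46 zd2) (kd xd22 yd37 zd20)) (@D3.rec (fun _ => Pt) (kd xd22 yd32 zd34) (kd xd22 yd56 zd59) (kd xd22 yd18 zd38) (kd xd24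 yd25 zd27) (kd xd7 yd46 zd60) (kd xd24 yd25 zd30) (kd xd16 yd56 zd44) (kd xd16 yd56 zd41) (kd xd24 yd25 zd36) (kd xd7 yd46 zd61) (kd xd24 yd21 zd53) (kd xd24 yd25 zd42) (kd xd7 yd47 zd1) (kd xd7 yd47 zd2) (kd xd22 yd13 zd48) (kd xd21 yd39 zd12) (kd xd22 yd25 zd22) (kd xd24 yd25 zd52) (kd xd22 yd40 zd6) (kd xd22 yd40 zd7) (kd xd22 yd14 zd21) (kd xd14 yd56 zd54) (kd xd13 yd10 zd22) (kd xd22 yd13 zd34) (kd xd23 yd46 zd30) (kd xd7 yd47 zd7) (kd xd13 yd7 zd28) (kd xd13 yd35 zd44) (kd xd7 yd47 zd9) (kd xd7 yd47 zd10) (kd xd7 yd47 zd11) (kd xd22 yd33 zd13) (kd xd22 yd40 zd61) (kd xd24 yd26 zd12) (kd xd24 yd1 zd6) (kd xd24 yd26 zd15) (kd xd24 yd26 zd17) (kd xd23 yd49 zd18) (kd xd24 yd26 zd18) (kd xd7 yd47 zd16) (kd xd24 yd26 zd21) (kd xd24 yd26 zd23) (kd xd11 yd0 zd45) (kd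 xd7 yd47 zd19) (kd xd24 yd26 zd27) (kd xd22 yd47 zd2) (kd xd24 yd26 zd31) (kd xd24 yd26 zd33) (kd xd7 yd47 zd21) (kd xd19 yd28 zd40) (kd xd24 yd26 zd37) (kd xd24 yd26 zd39) (kd xd20 yd23 zd51) (kd xd7 yd47 zd22) (kd xd8 yd59 zd13) (kd xd17 yd18 zd26) (kd xd17 yd18 zd25) (kd xd7 yd47 zd23) (kd xd10 yd21 zd55) (kd xd22 yd40 zd27) (kd xd22 yd40 zd29) (kd xd12 yd33 zd39)) (@D3.rec (fun _ => Pt) (kd xd24 yd26 zd56) (kd xd14 yd17 zd15) (kd xd24 yd26 zd60) (kd xd14 yd17 zd19) (kd xd22 yd38 zd7) (kd xd24 yd27 zd5) (kd xd24 yd27 zd8) (kd xd24 yd27 zd10) (kd xd14 yd17 zd22) (kd xd24 yd27 zd13) (kd xd24 yd27 zd18) (kd xd7 yd47 zd30) (kd xd23 yd55 zd47) (kd xd22 yd38 zd9) (kd xd24 yd27 zd28) (kd xd24 yd27 zd30) (kd xd24 yd27 zd32) (kd xd23 yd55 zd50) (kd xd21 yd31 zd61) (kd xd15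 yd3 zd45) (kd xd14 yd48 zd54) (kd xd16 yd6 zd39) (kd xd8 yd22 zd21) (kd xd24 yd27 zd44) (kd xd8 yd20 zd48) (kd xd7 yd47 zd36) (kd xd24 yd27 zd50) (kd xd16 yd56 zd15) (kd xd7 yd47 zd37) (kd xd24 yd27 zd55) (kd xd24 yd27 zd57) (kd xd16 yd6 zd20) (kd xd8 yd34 zd43) (kd xd7 yd47 zd39) (kd xd13 yd17 zd8) (kd xd14 yd13 zd14) (kd xd14 yd22 zd0) (kd xd20 yd30 zd41) (kd xd7 yd47 zd43) (kd xd7 yd53 zd2) (kd xd22 yd40 zd19) (kd xd22 yd40 zd20) (kd xd21 yd51 zd41) (kd xd7 yd47 zd46) (kd xd13 yd18 zd0) (kd xd16 yd53 zd58) (kd xd19 yd26 zd40) (kd xd7 yd47 zd48) (kd xd14 yd18 zd24) (kd xd7 yd47 zd50) (kd xd24 yd28 zd7) (kd xd7 yd47 zd51) (kd xd15 yd50 zd41) (kd xd18 yd27 zd50) (kd xd18 yd27 zd51) (kd xd7 yd47 zd57) (kd xd7 yd47 zd58) (kd xd22 yd31 zd30) (kd xd24 yd28 zd16) (kd xd14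 yd15 zd45) (kd xd24 yd28 zd20) (kd xd23 yd18 zd8)) (@D3.rec (fun _ => Pt) (kd xd22 yd34 zd2) (kd xd22 yd34 zd3) (kd xd13 yd44 zd6) (kd xd14 yd28 zd35) (kd xd13 yd23 zd60) (kd xd13 yd23 zd61) (kd xd21 yd41 zd3) (kd xd21 yd27 zd41) (kd xd24 yd28 zd29) (kd xd23 yd18 zd13) (kd xd9 yd5 zd9) (kd xd11 yd22 zd2) (kd xd16 yd24 zd4) (kd xd13 yd40 zd20) (kd xd24 yd5 zd56) (kd xd24 yd28 zd34) (kd xd24 yd28 zd36) (kd xd7 yd48 zd7) (kd xd20 yd33 zd47) (kd xd7 yd48 zd8) (kd xd19 yd30 zd54) (kd xd24 yd28 zd43) (kd xd14 yd16 zd30) (kd xd15 yd26 zd61) (kd xd24 yd28 zd48) (kd xd24 yd28 zd52) (kd xd7 yd48 zd10) (kd xd24 yd28 zd57) (kd xd24 yd28 zd60) (kd xd7 yd48 zd11) (kd xd24 yd29 zd2) (kd xd13 yd18 zd15) (kd xd24 yd29 zd8) (kd xd7 yd48 zd14) (kd xd24 yd29 zd11) (kd xd24 yd29 zd13) (kd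 xd20 yd24 zd40) (kd xd24 yd29 zd15) (kd xd7 yd48 zd16) (kd xd24 yd29 zd18) (kd xd24 yd29 zd20) (kd xd7 yd48 zd17) (kd xd24 yd29 zd23) (kd xd23 yd50 zd9) (kd xd24 yd29 zd26) (kd xd14 yd27 zd3) (kd xd19 yd14 zd34) (kd xd19 yd14 zd31) (kd xd24 yd29 zd32) (kd xd7 yd48 zd20) (kd xd10 yd7 zd50) (kd xd14 yd12 zd44) (kd xd24 yd29 zd35) (kd xd17 yd56 zd8) (kd xd7 yd48 zd23) (kd xd7 yd48 zd24) (kd xd15 yd44 zd51) (kd xd24 yd29 zd39) (kd xd13 yd22 zd53) (kd xd13 yd22 zd54) (kd xd24 yd29 zd43) (kd xd24 yd29 zd47)) (@D3.rec (fun _ => Pt) (kd xd7 yd48 zd29) (kd xd13 yd18 zd45) (kd xd13 yd38 zd58) (kd xd13 yd18 zd47) (kd xd13 yd23 zd4) (kd xd13 yd39 zd2) (kd xd13 yd39 zd7) (kd xd11 yd44 zd4) (kd xd24 yd30 zd0) (kd xd24 yd30 zd3) (kd xd7 yd48 zd33) (kd xd24 yd30 zd7) (kd xd23 yd10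 zd52) (kd xd13 yd18 zd25) (kd xd21 yd52 zd25) (kd xd13 yd39 zd21) (kd xd17 yd15 zd6) (kd xd24 yd30 zd22) (kd xd23 yd54 zd18) (kd xd22 yd33 zd40) (kd xd13 yd39 zd24) (kd xd22 yd43 zd19) (kd xd12 yd6 zd58) (kd xd7 yd48 zd39) (kd xd13 yd49 zd27) (kd xd12 yd7 zd52) (kd xd24 yd30 zd30) (kd xd7 yd48 zd41) (kd xd23 yd46 zd4) (kd xd24 yd30 zd36) (kd xd24 yd30 zd38) (kd xd24 yd30 zd40) (kd xd7 yd49 zd20) (kd xd21 yd39 zd48) (kd xd12 yd28 zd34) (kd xd23 yd21 zd12) (kd xd23 yd21 zd13) (kd xd21 yd56 zd49) (kd xd24 yd30 zd51) (kd xd7 yd48 zd48) (kd xd23 yd21 zd6) (kd xd23 yd21 zd7) (kd xd16 yd50 zd41) (kd xd7 yd48 zd51) (kd xd22 yd39 zd8) (kd xd23 yd21 zd43) (kd xd23 yd18 zd60) (kd xd7 yd48 zd57) (kd xd23 yd3 zd59) (kd xd24 yd30 zd58) (kd xd17 yd2 zd43) (kd xd7 yd48 zd59) (kd xd24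 yd31 zd2) (kd xd24 yd31 zd4) (kd xd7 yd48 zd60) (kd xd21 yd53 zd45) (kd xd13 yd14 zd39) (kd xd24 yd31 zd8) (kd xd20 yd1 zd23) (kd xd23 yd51 zd60) (kd xd7 yd49 zd2) (kd xd13 yd37 zd59)) (@D3.rec (fun _ => Pt) (kd xd24 yd31 zd13) (kd xd13 yd42 zd22) (kd xd24 yd31 zd17) (kd xd24 yd31 zd19) (kd xd13 yd42 zd34) (kd xd23 yd20 zd31) (kd xd11 yd3 zd60) (kd xd11 yd3 zd59) (kd xd7 yd49 zd7) (kd xd12 yd21 zd57) (kd xd13 yd38 zd0) (kd xd22 yd11 zd45) (kd xd24 yd31 zd23) (kd xd16 yd31 zd39) (kd xd12 yd21 zd53) (kd xd9 yd59 zd1) (kd xd13 yd48 zd13) (kd xd10 yd4 zd19) (kd xd7 yd49 zd14) (kd xd13 yd47 zd14) (kd xd24 yd31 zd27) (kd xd24 yd31 zd37) (kd xd11 yd33 zd32) (kd xd14 yd59 zd47) (kd xd12 yd47 zd37) (kd xd21 yd27 zd43) (kd xd21 yd27 zd44) (kd xd21 yd5 zd57) (kd xd19 yd15 zd12)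 (kd xd17 yd52 zd60) (kd xd16 yd50 zd24) (kd xd9 yd9 zd27) (kd xd16 yd47 zd40) (kd xd7 yd49 zd18) (kd xd21 yd30 zd43) (kd xd19 yd47 zd32) (kd xd7 yd49 zd19) (kd xd23 yd8 zd4) (kd xd16 yd3 zd8) (kd xd7 yd49 zd22) (kd xd24 yd31 zd53) (kd xd7 yd49 zd23) (kd xd24 yd31 zd56) (kd xd7 yd49 zd24) (kd xd22 yd42 zd58) (kd xd22 yd44 zd20) (kd xd13 yd54 zd39) (kd xd24 yd32 zd4) (kd xd7 yd49 zd26) (kd xd7 yd49 zd27) (kd xd7 yd49 zd28) (kd xd24 yd32 zd6) (kd xd7 yd49 zd30) (kd xd13 yd46 zd4) (kd xd22 yd43 zd18) (kd xd13 yd46 zd13) (kd xd7 yd54 zd19) (kd xd7 yd53 zd16) (kd xd11 yd22 zd60) (kd xd14 yd49 zd22) (kd xd7 yd49 zd36) (kd xd13 yd46 zd5)) (@D3.rec (fun _ => Pt) (kd xd14 yd1 zd8) (kd xd13 yd46 zd6) (kd xd23 yd28 zd6) (kd xd24 yd1 zd38) (kd xd7 yd49 zd40) (kd xd24 yd32 zd20)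 (kd xd7 yd49 zd42) (kd xd7 yd49 zd43) (kd xd24 yd32 zd22) (kd xd24 yd32 zd23) (kd xd16 yd3 zd0) (kd xd24 yd32 zd24) (kd xd7 yd49 zd45) (kd xd23 yd40 zd49) (kd xd7 yd49 zd46) (kd xd22 yd43 zd5) (kd xd21 yd55 zd24) (kd xd22 yd22 zd13) (kd xd22 yd15 zd5) (kd xd7 yd54 zd9) (kd xd7 yd49 zd54) (kd xd7 yd49 zd55) (kd xd22 yd44 zd30) (kd xd7 yd49 zd56) (kd xd14 yd9 zd10) (kd xd14 yd9 zd11) (kd xd18 yd6 zd6) (kd xd13 yd25 zd28) (kd xd14 yd5 zd58) (kd xd22 yd43 zd11) (kd xd12 yd30 zd54) (kd xd12 yd30 zd56) (kd xd7 yd50 zd0) (kd xd15 yd3 zd59) (kd xd7 yd50 zd1) (kd xd9 yd46 zd16) (kd xd14 yd4 zd60) (kd xd24 yd32 zd46) (kd xd7 yd50 zd3) (kd xd18 yd18 zd45) (kd xd19 yd6 zd12) (kd xd24 yd32 zd50) (kd xd7 yd50 zd4) (kd xd23 yd37 zd43) (kd xd13 yd58 zd30) (kd xd13 yd58 zd56) (kd xd10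 yd7 zd3) (kd xd23 yd37 zd44) (kd xd14 yd8 zd19) (kd xd7 yd50 zd8) (kd xd18 yd37 zd55) (kd xd10 yd32 zd40) (kd xd23 yd30 zd55) (kd xd21 yd42 zd33) (kd xd22 yd44 zd23) (kd xd21 yd42 zd34) (kd xd23 yd25 zd11) (kd xd20 yd51 zd35) (kd xd24 yd33 zd11) (kd xd7 yd50 zd12) (kd xd24 yd33 zd15) (kd xd14 yd50 zd48)) (@D3.rec (fun _ => Pt) (kd xd20 yd52 zd51) (kd xd7 yd50 zd14) (kd xd7 yd50 zd15) (kd xd14 yd8 zd57) (kd xd14 yd8 zd58) (kd xd24 yd33 zd24) (kd xd13 yd59 zd24) (kd xd13 yd59 zd25) (kd xd13 yd25 zd25) (kd xd13 yd44 zd27) (kd xd13 yd25 zd27) (kd xd13 yd9 zd24) (kd xd15 yd25 zd35) (kd xd16 yd53 zd32) (kd xd24 yd33 zd33) (kd xd24 yd33 zd34) (kd xd23 yd25 zd38) (kd xd7 yd50 zd21) (kd xd7 yd50 zd22) (kd xd23 yd29 zd52) (kd xd23 yd13 zd23) (kd xd14 yd7 zd27) (kd xd24 yd33 zd42)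 (kd xd24 yd33 zd46) (kd xd13 yd57 zd58) (kd xd13 yd57 zd59) (kd xd7 yd50 zd24) (kd xd20 yd53 zd12) (kd xd24 yd33 zd53) (kd xd24 yd33 zd56) (kd xd23 yd41 zd29) (kd xd7 yd50 zd26) (kd xd24 yd33 zd61) (kd xd22 yd45 zd10) (kd xd24 yd34 zd4) (kd xd14 yd56 zd0) (kd xd14 yd52 zd39) (kd xd13 yd10 zd45) (kd xd14 yd35 zd61) (kd xd24 yd34 zd10) (kd xd24 yd34 zd11) (kd xd14 yd56 zd5) (kd xd22 yd45 zd12) (kd xd24 yd34 zd13) (kd xd16 yd11 zd0) (kd xd17 yd49 zd31) (kd xd24 yd34 zd16) (kd xd23 yd43 zd18) (kd xd23 yd43 zd19) (kd xd22 yd46 zd3) (kd xd20 yd51 zd18) (kd xd23 yd12 zd49) (kd xd23 yd58 zd50) (kd xd10 yd35 zd7) (kd xd11 yd51 zd29) (kd xd7 yd50 zd36) (kd xd23 yd12 zd54) (kd xd24 yd34 zd22) (kd xd24 yd34 zd23) (kd xd19 yd54 zd6) (kd xd17 yd8 zd38) (kd xd11 yd29 zd28)) (@D3.rec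 (fun _ => Pt) (kd xd16 yd59 zd12) (kd xd14 yd51 zd29) (kd xd10 yd4 zd18) (kd xd14 yd9 zd49) (kd xd14 yd9 zd50) (kd xd13 yd51 zd51) (kd xd14 yd0 zd31) (kd xd7 yd50 zd45) (kd xd14 yd6 zd28) (kd xd14 yd9 zd61) (kd xd14 yd3 zd17) (kd xd20 yd13 zd19) (kd xd18 yd40 zd10) (kd xd7 yd50 zd49) (kd xd14 yd19 zd32) (kd xd14 yd52 zd42) (kd xd10 yd47 zd21) (kd xd14 yd30 zd57) (kd xd24 yd1 zd37) (kd xd7 yd50 zd55) (kd xd11 yd44 zd51) (kd xd7 yd50 zd57) (kd xd14 yd50 zd52) (kd xd22 yd42 zd28) (kd xd16 yd4 zd6) (kd xd7 yd50 zd59) (kd xd7 yd50 zd60) (kd xd7 yd50 zd61) (kd xd23 yd27 zd2) (kd xd22 yd22 zd21) (kd xd14 yd5 zd42) (kd xd23 yd46 zd6) (kd xd24 yd34 zd45) (kd xd13 yd56 zd26) (kd xd7 yd51 zd1) (kd xd23 yd27 zd1) (kd xd21 yd48 zd29) (kd xd9 yd49 zd61) (kd xd24 yd34 zd50) (kd xd23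 yd38 zd59) (kd xd7 yd51 zd3) (kd xd24 yd34 zd53) (kd xd13 yd56 zd51) (kd xd13 yd11 zd12) (kd xd7 yd51 zd10) (kd xd24 yd34 zd58) (kd xd24 yd18 zd19) (kd xd23 yd52 zd12) (kd xd22 yd15 zd7) (kd xd14 yd18 zd3) (kd xd13 yd24 zd35) (kd xd24 yd35 zd4) (kd xd7 yd51 zd14) (kd xd14 yd22 zd14) (kd xd14 yd42 zd20) (kd xd7 yd51 zd15) (kd xd14 yd39 zd47) (kd xd24 yd35 zd7) (kd xd16 yd11 zd35) (kd xd7 yd51 zd16) (kd xd24 yd35 zd10) (kd xd7 yd51 zd17)) (@D3.rec (fun _ => Pt) (kd xd22 yd44 zd17) (kd xd22 yd21 zd7) (kd xd14 yd4 zd2) (kd xd24 yd35 zd19) (kd xd7 yd51 zd19) (kd xd9 yd43 zd42) (kd xd10 yd59 zd27) (kd xd7 yd51 zd20) (kd xd17 yd4 zd1) (kd xd16 yd59 zd22) (kd xd7 yd51 zd21) (kd xd23 yd30 zd34) (kd xd17 yd55 zd60) (kd xd24 yd35 zd29) (kd xd7 yd51 zd23) (kd xd17 yd2 zd16) (kd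 xd13 yd24 zd58) (kd xd13 yd36 zd53) (kd xd14 yd54 zd29) (kd xd13 yd36 zd58) (kd xd15 yd41 zd5) (kd xd7 yd52 zd59) (kd xd14 yd45 zd59) (kd xd13 yd8 zd39) (kd xd13 yd26 zd6) (kd xd7 yd53 zd26) (kd xd14 yd55 zd18) (kd xd13 yd36 zd52) (kd xd14 yd28 zd5) (kd xd14 yd28 zd4) (kd xd13 yd10 zd21) (kd xd13 yd22 zd11) (kd xd7 yd51 zd37) (kd xd21 yd55 zd21) (kd xd7 yd51 zd38) (kd xd22 yd43 zd7) (kd xd19 yd56 zd16) (kd xd22 yd45 zd16) (kd xd22 yd45 zd17) (kd xd24 yd35 zd61) (kd xd13 yd24 zd45) (kd xd23 yd1 zd16) (kd xd22 yd44 zd34) (kd xd19 yd31 zd2) (kd xd7 yd51 zd45) (kd xd21 yd32 zd34) (kd xd7 yd51 zd46) (kd xd24 yd36 zd5) (kd xd7 yd51 zd48) (kd xd13 yd59 zd43) (kd xd13 yd59 zd44) (kd xd23 yd50 zd10) (kd xd7 yd51 zd50) (kd xd13 yd46 zd15) (kd xd13 yd24 zd41) (kd xd13 yd24 zd43)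 (kd xd21 yd18 zd38) (kd xd13 yd20 zd29) (kd xd7 yd54 zd55) (kd xd14 yd3 zd54) (kd xd8 yd0 zd22) (kd xd9 yd47 zd60)) (@D3.rec (fun _ => Pt) (kd xd14 yd29 zd49) (kd xd8 yd0 zd43) (kd xd19 yd57 zd40) (kd xd21 yd11 zd34) (kd xd7 yd51 zd58) (kd xd24 yd36 zd21) (kd xd10 yd44 zd19) (kd xd7 yd51 zd59) (kd xd14 yd5 zd0) (kd xd24 yd36 zd28) (kd xd7 yd51 zd60) (kd xd10 yd52 zd50) (kd xd17 yd54 zd47) (kd xd12 yd31 zd52) (kd xd24 yd36 zd34) (kd xd7 yd52 zd0) (kd xd14 yd21 zd43) (kd xd8 yd58 zd47) (kd xd7 yd52 zd1) (kd xd23 yd25 zd19) (kd xd11 yd10 zd7) (kd xd17 yd32 zd60) (kd xd9 yd46 zd9) (kd xd14 yd8 zd22) (kd xd20 yd43 zd43) (kd xd19 yd52 zd61) (kd xd13 yd58 zd53) (kd xd10 yd1 zd14) (kd xd9 yd43 zd52) (kd xd21 yd1 zd60) (kd xd7 yd52 zd5) (kd xd16 yd17 zd35) (kd xd20 yd42 zd7)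 (kd xd24 yd36 zd49) (kd xd24 yd36 zd50) (kd xd24 yd36 zd51) (kd xd13 yd58 zd31) (kd xd7 yd52 zd8) (kd xd14 yd56 zd27) (kd xd23 yd42 zd43) (kd xd24 yd36 zd52) (kd xd23 yd28 zd47) (kd xd24 yd36 zd55) (kd xd24 yd36 zd57) (kd xd24 yd36 zd60) (kd xd22 yd53 zd24) (kd xd7 yd52 zd11) (kd xd24 yd37 zd4) (kd xd14 yd46 zd61) (kd xd16 yd29 zd46) (kd xd13 yd8 zd44) (kd xd13 yd57 zd0) (kd xd14 yd48 zd22) (kd xd14 yd52 zd53) (kd xd24 yd37 zd14) (kd xd24 yd37 zd16) (kd xd24 yd37 zd18) (kd xd22 yd28 zd10) (kd xd22 yd44 zd50) (kd xd11 yd4 zd7) (kd xd11 yd4 zd6) (kd xd19 yd55 zd44)) (@D3.rec (fun _ => Pt) (kd xd14 yd7 zd28) (kd xd14 yd7 zd29) (kd xd13 yd10 zd25) (kd xd24 yd37 zd24) (kd xd24 yd37 zd26) (kd xd23 yd29 zd25) (kd xd22 yd44 zd55) (kd xd16 yd5 zd11) (kd xd13 yd10 zd24) (kd xd19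 yd40 zd15) (kd xd21 yd22 zd42) (kd xd21 yd22 zd39) (kd xd7 yd52 zd26) (kd xd16 yd5 zd40) (kd xd23 yd0 zd55) (kd xd24 yd3 zd11) (kd xd23 yd0 zd54) (kd xd10 yd58 zd48) (kd xd24 yd37 zd37) (kd xd14 yd27 zd55) (kd xd7 yd52 zd30) (kd xd24 yd0 zd44) (kd xd22 yd53 zd23) (kd xd24 yd37 zd41) (kd xd24 yd37 zd44) (kd xd24 yd37 zd47) (kd xd16 yd4 zd49) (kd xd7 yd52 zd34) (kd xd13 yd8 zd36) (kd xd14 yd48 zd1) (kd xd7 yd52 zd36) (kd xd7 yd52 zd37) (kd xd14 yd0 zd34) (kd xd14 yd0 zd35) (kd xd23 yd7 zd61) (kd xd13 yd56 zd48) (kd xd13 yd8 zd30) (kd xd13 yd56 zd50) (kd xd13 yd9 zd41) (kd xd13 yd8 zd28) (kd xd13 yd54 zd22) (kd xd22 yd47 zd46) (kd xd15 yd39 zd52) (kd xd24 yd38 zd12) (kd xd24 yd38 zd13) (kd xd22 yd12 zd17) (kd xd23 yd1 zd46) (kd xd13 yd9 zd37) (kd xd23 yd5 zd39) (kd xd24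 yd38 zd19) (kd xd14 yd6 zd9) (kd xd7 yd52 zd44) (kd xd13 yd8 zd38) (kd xd24 yd38 zd22) (kd xd24 yd38 zd25) (kd xd23 yd26 zd42) (kd xd7 yd52 zd46) (kd xd24 yd38 zd31) (kd xd13 yd8 zd33) (kd xd13 yd8 zd12) (kd xd13 yd8 zd13) (kd xd22 yd20 zd3)) (@D3.rec (fun _ => Pt) (kd xd7 yd52 zd50) (kd xd20 yd43 zd2) (kd xd14 yd27 zd18) (kd xd7 yd52 zd53) (kd xd14 yd23 zd1) (kd xd22 yd19 zd55) (kd xd13 yd10 zd10) (kd xd13 yd10 zd11) (kd xd13 yd43 zd55) (kd xd21 yd40 zd15) (kd xd21 yd40 zd14) (kd xd23 yd0 zd49) (kd xd14 yd32 zd44) (kd xd24 yd35 zd39) (kd xd13 yd0 zd34) (kd xd24 yd38 zd50) (kd xd24 yd38 zd54) (kd xd13 yd5 zd5) (kd xd14 yd15 zd36) (kd xd13 yd22 zd23) (kd xd13 yd22 zd25) (kd xd13 yd28 zd39) (kd xd13 yd28 zd42) (kd xd13 yd28 zd32) (kd xd24 yd39 zd4) (kd xd22 yd37 zd19)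 (kd xd13 yd56 zd20) (kd xd24 yd28 zd0) (kd xd13 yd28 zd24) (kd xd7 yd53 zd4) (kd xd13 yd56 zd55) (kd xd24 yd39 zd10) (kd xd7 yd53 zd7) (kd xd22 yd12 zd49) (kd xd7 yd53 zd8) (kd xd20 yd48 zd18) (kd xd21 yd22 zd5) (kd xd24 yd39 zd13) (kd xd7 yd53 zd11) (kd xd14 yd47 zd36) (kd xd13 yd7 zd8) (kd xd22 yd26 zd55) (kd xd14 yd48 zd15) (kd xd23 yd39 zd54) (kd xd22 yd12 zd53) (kd xd7 yd53 zd17) (kd xd8 yd46 zd40) (kd xd7 yd53 zd19) (kd xd22 yd12 zd45) (kd xd24 yd39 zd27) (kd xd7 yd53 zd20) (kd xd24 yd39 zd29) (kd xd7 yd53 zd22) (kd xd14 yd50 zd53) (kd xd13 yd6 zd4) (kd xd13 yd12 zd46) (kd xd13 yd8 zd60) (kd xd13 yd53 zd47) (kd xd20 yd15 zd51) (kd xd22 yd42 zd59) (kd xd7 yd53 zd29) (kd xd13 yd56 zd52)) (@D3.rec (fun _ => Pt) (kd xd13 yd12 zd31) (kd xd9 yd3 zd12) (kd xd15 yd27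 zd51) (kd xd22 yd42 zd25) (kd xd7 yd53 zd33) (kd xd14 yd0 zd56) (kd xd13 yd56 zd43) (kd xd14 yd0 zd58) (kd xd13 yd56 zd49) (kd xd13 yd9 zd22) (kd xd13 yd56 zd57) (kd xd24 yd39 zd50) (kd xd20 yd40 zd49) (kd xd20 yd40 zd48) (kd xd7 yd53 zd37) (kd xd24 yd39 zd58) (kd xd23 yd39 zd40) (kd xd24 yd39 zd61) (kd xd23 yd38 zd22) (kd xd24 yd40 zd1) (kd xd7 yd53 zd42) (kd xd14 yd0 zd53) (kd xd23 yd40 zd48) (kd xd24 yd40 zd7) (kd xd7 yd53 zd44) (kd xd9 yd48 zd38) (kd xd24 yd40 zd12) (kd xd24 yd40 zd15) (kd xd24 yd40 zd19) (kd xd13 yd13 zd55) (kd xd13 yd46 zd48) (kd xd22 yd29 zd54) (kd xd13 yd46 zd50) (kd xd13 yd48 zd19) (kd xd22 yd29 zd56) (kd xd13 yd39 zd48) (kd xd22 yd29 zd61) (kd xd22 yd30 zd1) (kd xd22 yd29 zd58) (kd xd17 yd23 zd2) (kd xd21 yd13 zd13) (kd xd21 yd30 zd50) (kd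 xd12 yd47 zd36) (kd xd22 yd41 zd22) (kd xd13 yd22 zd24) (kd xd13 yd23 zd53) (kd xd24 yd40 zd37) (kd xd7 yd53 zd53) (kd xd22 yd58 zd32) (kd xd23 yd20 zd2) (kd xd13 yd24 zd12) (kd xd13 yd41 zd16) (kd xd13 yd19 zd59) (kd xd7 yd53 zd56) (kd xd22 yd8 zd3) (kd xd7 yd53 zd57) (kd xd13 yd55 zd30) (kd xd7 yd53 zd58) (kd xd14 yd5 zd18) (kd xd22 yd43 zd55) (kd xd24 yd40 zd57) (kd xd23 yd23 zd0)) (@D3.rec (fun _ => Pt) (kd xd14 yd6 zd32) (kd xd24 yd41 zd3) (kd xd21 yd18 zd61) (kd xd21 yd18 zd60) (kd xd23 yd23 zd18) (kd xd24 yd41 zd7) (kd xd7 yd54 zd0) (kd xd22 yd44 zd25) (kd xd17 yd58 zd6) (kd xd22 yd44 zd16) (kd xd24 yd41 zd11) (kd xd7 yd54 zd4) (kd xd7 yd54 zd5) (kd xd13 yd57 zd26) (kd xd7 yd54 zd6) (kd xd14 yd6 zd57) (kd xd21 yd55 zd26) (kd xd24 yd41 zd20) (kd xd16 yd2 zd53)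 (kd xd14 yd7 zd38) (kd xd24 yd41 zd26) (kd xd19 yd5 zd48) (kd xd21 yd19 zd35) (kd xd16 yd2 zd49) (kd xd13 yd25 zd8) (kd xd22 yd36 zd42) (kd xd13 yd54 zd59) (kd xd13 yd25 zd9) (kd xd22 yd36 zd44) (kd xd14 yd49 zd18) (kd xd20 yd16 zd60) (kd xd16 yd23 zd59) (kd xd9 yd47 zd57) (kd xd22 yd43 zd42) (kd xd22 yd43 zd43) (kd xd14 yd55 zd10) (kd xd22 yd45 zd18) (kd xd24 yd41 zd45) (kd xd22 yd31 zd49) (kd xd21 yd19 zd31) (kd xd23 yd28 zd11) (kd xd24 yd41 zd50) (kd xd23 yd44 zd33) (kd xd22 yd46 zd0) (kd xd22 yd45 zd20) (kd xd24 yd41 zd54) (kd xd20 yd3 zd40) (kd xd22 yd44 zd47) (kd xd24 yd41 zd61) (kd xd24 yd42 zd2) (kd xd24 yd32 zd15) (kd xd22 yd44 zd57) (kd xd22 yd43 zd26) (kd xd22 yd44 zd56) (kd xd15 yd45 zd14) (kd xd24 yd42 zd10) (kd xd23 yd30 zd16) (kd xd7 yd54 zd22) (kd xd22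 yd43 zd39) (kd xd23 yd39 zd50) (kd xd22 yd43 zd41) (kd xd24 yd42 zd22)) (@D3.rec (fun _ => Pt) (kd xd13 yd57 zd25) (kd xd22 yd43 zd28) (kd xd22 yd44 zd31) (kd xd22 yd43 zd35) (kd xd21 yd14 zd33) (kd xd24 yd42 zd26) (kd xd7 yd54 zd30) (kd xd13 yd26 zd19) (kd xd22 yd43 zd8) (kd xd22 yd44 zd45) (kd xd14 yd54 zd35) (kd xd22 yd28 zd24) (kd xd23 yd13 zd51) (kd xd23 yd13 zd45) (kd xd13 yd56 zd4) (kd xd13 yd55 zd29) (kd xd23 yd26 zd8) (kd xd7 yd54 zd37) (kd xd14 yd49 zd26) (kd xd23 yd28 zd5) (kd xd7 yd54 zd39) (kd xd13 yd13 zd36) (kd xd7 yd54 zd41) (kd xd7 yd54 zd42) (kd xd13 yd56 zd25) (kd xd24 yd42 zd48) (kd xd13 yd56 zd10) (kd xd24 yd42 zd51) (kd xd21 yd46 zd44) (kd xd21 yd46 zd45) (kd xd17 yd55 zd35) (kd xd24 yd42 zd54) (kd xd24 yd42 zd55) (kd xd7 yd54 zd46) (kd xd11 yd36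 zd39) (kd xd19 yd26 zd31) (kd xd24 yd42 zd61) (kd xd13 yd59 zd11) (kd xd21 yd40 zd50) (kd xd7 yd54 zd50) (kd xd19 yd54 zd18) (kd xd7 yd54 zd51) (kd xd7 yd54 zd52) (kd xd13 yd57 zd56) (kd xd22 yd45 zd19) (kd xd24 yd43 zd10) (kd xd24 yd36 zd11) (kd xd13 yd57 zd40) (kd xd24 yd43 zd19) (kd xd24 yd43 zd21) (kd xd21 yd56 zd26) (kd xd17 yd55 zd40) (kd xd22 yd40 zd55) (kd xd13 yd20 zd27) (kd xd20 yd52 zd10) (kd xd7 yd54 zd57) (kd xd17 yd33 zd19) (kd xd23 yd43 zd12) (kd xd23 yd37 zd42) (kd xd13 yd26 zd31) (kd xd22 yd43 zd58) (kd xd24 yd43 zd30)) (@D3.rec (fun _ => Pt) (kd xd14 yd47 zd35) (kd xd12 yd13 zd30) (kd xd12 yd13 zd10) (kd xd24 yd32 zd54) (kd xd24 yd33 zd57) (kd xd14 yd47 zd41) (kd xd14 yd9 zd7) (kd xd16 yd14 zd59) (kd xd14 yd9 zd9) (kd xd22 yd43 zd30) (kd xd23 yd39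 zd12) (kd xd18 yd29 zd51) (kd xd14 yd9 zd16) (kd xd24 yd43 zd40) (kd xd24 yd43 zd42) (kd xd24 yd43 zd44) (kd xd7 yd55 zd3) (kd xd21 yd1 zd15) (kd xd24 yd43 zd50) (kd xd7 yd55 zd5) (kd xd19 yd47 zd55) (kd xd15 yd13 zd32) (kd xd7 yd55 zd6) (kd xd19 yd47 zd53) (kd xd24 yd43 zd57) (kd xd15 yd13 zd30) (kd xd7 yd55 zd7) (kd xd14 yd50 zd38) (kd xd24 yd43 zd60) (kd xd24 yd44 zd1) (kd xd8 yd4 zd42) (kd xd7 yd55 zd9) (kd xd19 yd56 zd17) (kd xd13 yd59 zd53) (kd xd19 yd54 zd19) (kd xd14 yd0 zd2) (kd xd8 yd38 zd57) (kd xd12 yd52 zd50) (kd xd13 yd35 zd56) (kd xd21 yd4 zd34) (kd xd21 yd4 zd35) (kd xd14 yd1 zd16) (kd xd8 yd42 zd12) (kd xd17 yd45 zd24) (kd xd7 yd55 zd16) (kd xd24 yd44 zd8) (kd xd17 yd44 zd15) (kd xd22 yd15 zd30) (kd xd15 yd39 zd11) (kd xd11 yd59 zd42) (kd xd21 yd57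 zd21) (kd xd24 yd44 zd18) (kd xd7 yd55 zd21) (kd xd24 yd44 zd21) (kd xd14 yd41 zd21) (kd xd7 yd55 zd23) (kd xd16 yd26 zd8) (kd xd15 yd20 zd26) (kd xd8 yd5 zd29) (kd xd10 yd19 zd55) (kd xd24 yd44 zd30) (kd xd24 yd44 zd33)) (@D3.rec (fun _ => Pt) (kd xd17 yd38 zd48) (kd xd7 yd55 zd27) (kd xd7 yd55 zd61) (kd xd20 yd47 zd35) (kd xd7 yd55 zd30) (kd xd18 yd37 zd27) (kd xd15 yd9 zd48) (kd xd10 yd28 zd1) (kd xd16 yd16 zd47) (kd xd16 yd16 zd48) (kd xd17 yd44 zd34) (kd xd18 yd32 zd41) (kd xd9 yd52 zd55) (kd xd10 yd28 zd5) (kd xd8 yd4 zd18) (kd xd10 yd8 zd46) (kd xd16 yd3 zd36) (kd xd14 yd4 zd38) (kd xd16 yd16 zd11) (kd xd17 yd44 zd38) (kd xd24 yd44 zd52) (kd xd7 yd55 zd39) (kd xd24 yd44 zd57) (kd xd7 yd55 zd43) (kd xd24 yd44 zd59) (kd xd8 yd7 zd52) (kd xd9 yd52 zd51) (kd xd7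 yd55 zd45) (kd xd24 yd45 zd0) (kd xd10 yd35 zd55) (kd xd17 yd38 zd11) (kd xd8 yd7 zd24) (kd xd10 yd28 zd0) (kd xd17 yd38 zd12) (kd xd17 yd54 zd27) (kd xd17 yd54 zd28) (kd xd17 yd54 zd38) (kd xd15 yd37 zd45) (kd xd7 yd55 zd52) (kd xd17 yd39 zd29) (kd xd17 yd54 zd3) (kd xd17 yd54 zd4) (kd xd24 yd45 zd5) (kd xd7 yd55 zd53) (kd xd24 yd45 zd11) (kd xd18 yd28 zd40) (kd xd7 yd55 zd55) (kd xd18 yd28 zd46) (kd xd8 yd45 zd5) (kd xd15 yd19 zd53) (kd xd18 yd5 zd33) (kd xd15 yd19 zd37) (kd xd24 yd45 zd24) (kd xd10 yd7 zd40) (kd xd15 yd19 zd52) (kd xd24 yd45 zd28) (kd xd18 yd28 zd15) (kd xd7 yd55 zd58) (kd xd17 yd53 zd56) (kd xd17 yd53 zd57) (kd xd24 yd44 zd34) (kd xd24 yd45 zd34)) (@D3.rec (fun _ => Pt) (kd xd24 yd45 zd36) (kd xd24 yd45 zd38) (kd xd24 yd44 zd37) (kd xd7 yd56 zd0)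 (kd xd24 yd45 zd43) (kd xd7 yd56 zd1) (kd xd8 yd39 zd34) (kd xd7 yd56 zd2) (kd xd8 yd6 zd53) (kd xd9 yd40 zd3) (kd xd8 yd18 zd6) (kd xd15 yd24 zd37) (kd xd9 yd55 zd17) (kd xd10 yd8 zd38) (kd xd16 yd17 zd39) (kd xd16 yd17 zd40) (kd xd17 yd54 zd29) (kd xd23 yd36 zd58) (kd xd7 yd56 zd9) (kd xd9 yd52 zd52) (kd xd16 yd8 zd6) (kd xd7 yd56 zd14) (kd xd9 yd42 zd56) (kd xd22 yd52 zd34) (kd xd24 yd45 zd51) (kd xd24 yd45 zd54) (kd xd7 yd56 zd16) (kd xd24 yd45 zd57) (kd xd8 yd43 zd7) (kd xd10 yd37 zd35) (kd xd17 yd46 zd58) (kd xd17 yd46 zd57) (kd xd18 yd21 zd49) (kd xd19 yd14 zd60) (kd xd10 yd3 zd36) (kd xd10 yd29 zd2) (kd xd19 yd0 zd3) (kd xd18 yd39 zd14) (kd xd21 yd14 zd24) (kd xd13 yd50 zd42) (kd xd13 yd41 zd52) (kd xd20 yd9 zd21) (kd xd24 yd46 zd7) (kd xd7 yd57 zd14) (kd xd10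 yd55 zd18) (kd xd20 yd31 zd27) (kd xd11 yd6 zd49) (kd xd10 yd55 zd16) (kd xd20 yd32 zd24) (kd xd10 yd53 zd55) (kd xd10 yd53 zd54) (kd xd24 yd46 zd14) (kd xd7 yd56 zd27) (kd xd24 yd46 zd20) (kd xd24 yd46 zd18) (kd xd20 yd7 zd32) (kd xd20 yd7 zd33) (kd xd7 yd57 zd24) (kd xd17 yd1 zd12) (kd xd8 yd1 zd1) (kd xd10 yd40 zd19) (kd xd13 yd31 zd24)) (@D3.rec (fun _ => Pt) (kd xd24 yd46 zd32) (kd xd7 yd56 zd31) (kd xd24 yd46 zd35) (kd xd20 yd18 zd13) (kd xd11 yd57 zd41) (kd xd23 yd20 zd34) (kd xd17 yd38 zd13) (kd xd15 yd12 zd58) (kd xd15 yd19 zd3) (kd xd15 yd19 zd4) (kd xd8 yd42 zd0) (kd xd24 yd46 zd41) (kd xd24 yd46 zd44) (kd xd24 yd46 zd46) (kd xd7 yd56 zd35) (kd xd24 yd46 zd50) (kd xd21 yd44 zd38) (kd xd24 yd46 zd52) (kd xd7 yd56 zd36) (kd xd11 yd29 zd17) (kd xd20 yd20 zd57)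 (kd xd24 yd46 zd55) (kd xd16 yd32 zd36) (kd xd24 yd46 zd56) (kd xd24 yd46 zd57) (kd xd7 yd56 zd41) (kd xd13 yd33 zd53) (kd xd9 yd16 zd27) (kd xd18 yd38 zd31) (kd xd7 yd56 zd45) (kd xd8 yd38 zd28) (kd xd24 yd46 zd60) (kd xd7 yd56 zd46) (kd xd17 yd45 zd40) (kd xd7 yd56 zd49) (kd xd16 yd11 zd60) (kd xd9 yd30 zd0) (kd xd24 yd47 zd2) (kd xd24 yd31 zd5) (kd xd16 yd12 zd7) (kd xd7 yd56 zd53) (kd xd7 yd56 zd54) (kd xd21 yd11 zd45) (kd xd24 yd47 zd8) (kd xd9 yd49 zd51) (kd xd23 yd16 zd48) (kd xd24 yd47 zd10) (kd xd14 yd45 zd23) (kd xd7 yd57 zd0) (kd xd9 yd19 zd39) (kd xd7 yd57 zd1) (kd xd16 yd33 zd35) (kd xd8 yd51 zd23) (kd xd24 yd47 zd14) (kd xd7 yd57 zd3) (kd xd8 yd39 zd22) (kd xd7 yd57 zd5) (kd xd20 yd32 zd6) (kd xd16 yd31 zd49) (kd xd9 yd22 zd28) (kd xd13 yd42 zd12) (kd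 xd7 yd57 zd11))
def f_d_15 : D2 → D3 → Pt := @D2.rec (fun _ => D3 → Pt) (@D3.rec (fun _ => Pt) (kd xd19 yd58 zd44) (kd xd24 yd47 zd21) (kd xd24 yd47 zd23) (kd xd19 yd0 zd31) (kd xd8 yd50 zd26) (kd xd21 yd52 zd26) (kd xd11 yd34 zd24) (kd xd17 yd15 zd2) (kd xd20 yd30 zd26) (kd xd19 yd26 zd36) (kd xd11 yd22 zd51) (kd xd7 yd57 zd21) (kd xd19 yd58 zd45) (kd xd24 yd47 zd29) (kd xd7 yd57 zd22) (kd xd21 yd2 zd40) (kd xd22 yd52 zd4) (kd xd10 yd44 zd20) (kd xd7 yd57 zd23) (kd xd24 yd47 zd40) (kd xd21 yd53 zd3) (kd xd22 yd51 zd36) (kd xd7 yd57 zd25) (kd xd15 yd50 zd35) (kd xd11 yd59 zd33) (kd xd16 yd23 zd12) (kd xd24 yd47 zd50) (kd xd15 yd50 zd36) (kd xd18 yd29 zd58) (kd xd8 yd10 zd42) (kd xd14 yd20 zd30) (kd xd7 yd57 zd28) (kd xd24 yd47 zd53) (kd xd24 yd47 zd55) (kd xd7 yd57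 zd30) (kd xd24 yd47 zd59) (kd xd7 yd57 zd31) (kd xd24 yd48 zd0) (kd xd24 yd48 zd3) (kd xd7 yd57 zd32) (kd xd24 yd48 zd6) (kd xd16 yd34 zd29) (kd xd24 yd48 zd10) (kd xd24 yd48 zd12) (kd xd7 yd57 zd33) (kd xd8 yd51 zd60) (kd xd8 yd51 zd61) (kd xd9 yd39 zd59) (kd xd24 yd48 zd22) (kd xd24 yd48 zd24) (kd xd24 yd48 zd25) (kd xd7 yd57 zd35) (kd xd8 yd53 zd54) (kd xd9 yd40 zd32) (kd xd24 yd48 zd34) (kd xd7 yd57 zd37) (kd xd24 yd48 zd36) (kd xd15 yd2 zd12) (kd xd7 yd57 zd39) (kd xd24 yd48 zd41) (kd xd24 yd48 zd44) (kd xd7 yd57 zd41)) (@D3.rec (fun _ => Pt) (kd xd15 yd2 zd5) (kd xd17 yd48 zd1) (kd xd9 yd40 zd10) (kd xd7 yd57 zd43) (kd xd24 yd48 zd50) (kd xd9 yd40 zd49) (kd xd8 yd11 zd15) (kd xd15 yd29 zd19) (kd xd24 yd48 zd57) (kd xd24 yd48 zd59) (kd xd7 yd57 zd45) (kd xd19 yd6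 zd9) (kd xd15 yd27 zd40) (kd xd24 yd49 zd6) (kd xd10 yd32 zd17) (kd xd24 yd49 zd9) (kd xd16 yd11 zd8) (kd xd19 yd6 zd7) (kd xd24 yd49 zd13) (kd xd15 yd11 zd2) (kd xd17 yd45 zd39) (kd xd24 yd49 zd17) (kd xd7 yd57 zd54) (kd xd24 yd49 zd21) (kd xd9 yd36 zd53) (kd xd9 yd37 zd7) (kd xd8 yd36 zd12) (kd xd24 yd49 zd28) (kd xd7 yd57 zd56) (kd xd24 yd49 zd31) (kd xd24 yd49 zd35) (kd xd7 yd57 zd57) (kd xd24 yd49 zd38) (kd xd19 yd20 zd21) (kd xd19 yd20 zd22) (kd xd15 yd2 zd11) (kd xd7 yd57 zd58) (kd xd24 yd49 zd45) (kd xd7 yd58 zd11) (kd xd24 yd49 zd50) (kd xd24 yd49 zd51) (kd xd24 yd49 zd52) (kd xd7 yd57 zd60) (kd xd24 yd49 zd57) (kd xd24 yd49 zd59) (kd xd9 yd41 zd37) (kd xd24 yd49 zd61) (kd xd7 yd58 zd1) (kd xd7 yd58 zd2) (kd xd18 yd51 zd21) (kd xd24 yd50 zd5) (kd xd10 yd50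 zd38) (kd xd24 yd50 zd6) (kd xd24 yd50 zd8) (kd xd19 yd42 zd16) (kd xd7 yd58 zd5) (kd xd24 yd50 zd16) (kd xd24 yd50 zd20) (kd xd24 yd50 zd22) (kd xd24 yd50 zd23) (kd xd7 yd58 zd7) (kd xd24 yd50 zd27)) (@D3.rec (fun _ => Pt) (kd xd24 yd50 zd29) (kd xd9 yd3 zd17) (kd xd24 yd49 zd47) (kd xd24 yd50 zd34) (kd xd15 yd2 zd13) (kd xd15 yd1 zd0) (kd xd15 yd27 zd58) (kd xd7 yd58 zd12) (kd xd16 yd39 zd32) (kd xd8 yd20 zd23) (kd xd17 yd50 zd0) (kd xd15 yd1 zd35) (kd xd15 yd0 zd57) (kd xd15 yd2 zd4) (kd xd19 yd32 zd60) (kd xd7 yd58 zd15) (kd xd24 yd50 zd48) (kd xd10 yd10 zd29) (kd xd10 yd20 zd0) (kd xd24 yd50 zd11) (kd xd24 yd50 zd12) (kd xd24 yd50 zd51) (kd xd7 yd58 zd19) (kd xd24 yd50 zd58) (kd xd24 yd51 zd0) (kd xd24 yd51 zd3) (kd xd24 yd51 zd6) (kd xd7 yd58 zd21) (kd xd24 yd51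 zd9) (kd xd24 yd51 zd10) (kd xd8 yd24 zd14) (kd xd24 yd51 zd13) (kd xd9 yd49 zd12) (kd xd24 yd51 zd15) (kd xd24 yd51 zd17) (kd xd24 yd51 zd18) (kd xd7 yd58 zd26) (kd xd15 yd19 zd57) (kd xd24 yd51 zd26) (kd xd7 yd58 zd28) (kd xd10 yd40 zd49) (kd xd24 yd51 zd29) (kd xd24 yd51 zd31) (kd xd24 yd51 zd33) (kd xd7 yd58 zd29) (kd xd24 yd51 zd41) (kd xd24 yd51 zd44) (kd xd7 yd58 zd31) (kd xd24 yd51 zd48) (kd xd17 yd34 zd33) (kd xd7 yd58 zd32) (kd xd24 yd51 zd49) (kd xd20 yd5 zd10) (kd xd7 yd58 zd33) (kd xd24 yd51 zd52) (kd xd7 yd58 zd34) (kd xd11 yd5 zd7) (kd xd11 yd5 zd8) (kd xd15 yd47 zd36) (kd xd8 yd20 zd25) (kd xd24 yd51 zd59) (kd xd11 yd5 zd5)) (@D3.rec (fun _ => Pt) (kd xd24 yd52 zd2) (kd xd8 yd20 zd12) (kd xd24 yd52 zd4) (kd xd24 yd52 zd6) (kd xd16 yd39 zd14) (kd xd15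 yd29 zd29) (kd xd24 yd52 zd10) (kd xd24 yd52 zd12) (kd xd24 yd52 zd15) (kd xd7 yd58 zd41) (kd xd19 yd59 zd31) (kd xd20 yd5 zd12) (kd xd10 yd11 zd36) (kd xd10 yd53 zd1) (kd xd24 yd52 zd23) (kd xd9 yd34 zd46) (kd xd24 yd52 zd26) (kd xd7 yd58 zd45) (kd xd19 yd5 zd38) (kd xd19 yd5 zd13) (kd xd23 yd22 zd58) (kd xd7 yd58 zd46) (kd xd18 yd30 zd25) (kd xd24 yd52 zd32) (kd xd10 yd7 zd30) (kd xd7 yd58 zd49) (kd xd11 yd49 zd5) (kd xd7 yd58 zd54) (kd xd24 yd52 zd36) (kd xd24 yd52 zd39) (kd xd7 yd58 zd55) (kd xd18 yd44 zd15) (kd xd8 yd22 zd37) (kd xd9 yd1 zd47) (kd xd7 yd58 zd57) (kd xd7 yd58 zd58) (kd xd16 yd29 zd56) (kd xd24 yd52 zd47) (kd xd7 yd58 zd59) (kd xd24 yd52 zd51) (kd xd16 yd5 zd19) (kd xd11 yd5 zd22) (kd xd15 yd43 zd34) (kd xd16 yd3 zd51) (kd xd7 yd59 zd2) (kd xd14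 yd42 zd19) (kd xd14 yd37 zd39) (kd xd17 yd1 zd13) (kd xd7 yd59 zd7) (kd xd20 yd9 zd20) (kd xd21 yd11 zd10) (kd xd7 yd59 zd12) (kd xd7 yd59 zd13) (kd xd7 yd59 zd14) (kd xd20 yd59 zd46) (kd xd10 yd29 zd25) (kd xd7 yd59 zd17) (kd xd10 yd44 zd29) (kd xd7 yd59 zd18) (kd xd14 yd46 zd33) (kd xd24 yd53 zd4) (kd xd20 yd24 zd46)) (@D3.rec (fun _ => Pt) (kd xd7 yd59 zd24) (kd xd24 yd46 zd16) (kd xd13 yd40 zd24) (kd xd7 yd59 zd27) (kd xd19 yd43 zd10) (kd xd20 yd25 zd28) (kd xd8 yd37 zd41) (kd xd17 yd8 zd46) (kd xd7 yd59 zd31) (kd xd8 yd0 zd40) (kd xd21 yd36 zd40) (kd xd11 yd30 zd46) (kd xd8 yd0 zd24) (kd xd9 yd50 zd47) (kd xd24 yd53 zd2) (kd xd9 yd1 zd18) (kd xd20 yd11 zd29) (kd xd7 yd59 zd37) (kd xd10 yd55 zd17) (kd xd20 yd8 zd24) (kd xd7 yd59 zd41) (kd xd10 yd18 zd38) (kd xd10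 yd18 zd39) (kd xd8 yd0 zd41) (kd xd11 yd12 zd15) (kd xd20 yd26 zd17) (kd xd11 yd58 zd37) (kd xd20 yd22 zd47) (kd xd21 yd15 zd46) (kd xd20 yd6 zd48) (kd xd12 yd56 zd27) (kd xd19 yd39 zd31) (kd xd19 yd39 zd24) (kd xd8 yd0 zd51) (kd xd23 yd46 zd28) (kd xd19 yd32 zd57) (kd xd7 yd59 zd51) (kd xd23 yd10 zd44) (kd xd7 yd59 zd54) (kd xd24 yd52 zd61) (kd xd7 yd59 zd56) (kd xd7 yd59 zd58) (kd xd7 yd59 zd59) (kd xd7 yd59 zd60) (kd xd20 yd8 zd46) (kd xd8 yd0 zd4) (kd xd22 yd47 zd21) (kd xd8 yd0 zd6) (kd xd8 yd0 zd7) (kd xd24 yd53 zd25) (kd xd8 yd0 zd10) (kd xd8 yd0 zd11) (kd xd15 yd26 zd35) (kd xd14 yd28 zd18) (kd xd8 yd0 zd13) (kd xd8 yd0 zd14) (kd xd11 yd0 zd12) (kd xd24 yd53 zd30) (kd xd19 yd33 zd48) (kd xd13 yd30 zd19) (kd xd8 yd0 zd19) (kd xd20 yd0 zd23)) (@D3.rec (fun _ =>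 Pt) (kd xd8 yd0 zd21) (kd xd11 yd12 zd2) (kd xd24 yd36 zd17) (kd xd20 yd7 zd44) (kd xd24 yd53 zd32) (kd xd8 yd0 zd23) (kd xd18 yd22 zd36) (kd xd15 yd5 zd32) (kd xd8 yd0 zd28) (kd xd20 yd28 zd28) (kd xd24 yd53 zd34) (kd xd9 yd11 zd51) (kd xd24 yd53 zd35) (kd xd11 yd44 zd43) (kd xd9 yd13 zd18) (kd xd10 yd6 zd58) (kd xd24 yd53 zd36) (kd xd8 yd0 zd38) (kd xd21 yd37 zd48) (kd xd19 yd53 zd37) (kd xd18 yd43 zd33) (kd xd17 yd2 zd23) (kd xd8 yd0 zd44) (kd xd15 yd5 zd29) (kd xd11 yd21 zd4) (kd xd8 yd0 zd45) (kd xd20 yd30 zd25) (kd xd12 yd30 zd4) (kd xd12 yd30 zd10) (kd xd15 yd5 zd23) (kd xd8 yd0 zd48) (kd xd8 yd0 zd49) (kd xd15 yd5 zd7) (kd xd24 yd53 zd39) (kd xd10 yd18 zd52) (kd xd10 yd25 zd56) (kd xd8 yd0 zd53) (kd xd20 yd3 zd44) (kd xd16 yd58 zd2) (kd xd16 yd58 zd31) (kd xd20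 yd2 zd7) (kd xd8 yd0 zd57) (kd xd10 yd4 zd26) (kd xd16 yd21 zd28) (kd xd9 yd44 zd38) (kd xd8 yd1 zd5) (kd xd24 yd53 zd45) (kd xd24 yd53 zd52) (kd xd16 yd20 zd58) (kd xd24 yd24 zd8) (kd xd24 yd24 zd0) (kd xd8 yd1 zd20) (kd xd9 yd47 zd8) (kd xd15 yd23 zd26) (kd xd15 yd23 zd27) (kd xd15 yd6 zd46) (kd xd15 yd16 zd35) (kd xd8 yd1 zd9) (kd xd24 yd54 zd4) (kd xd20 yd36 zd33) (kd xd8 yd1 zd10) (kd xd13 yd58 zd61)) (@D3.rec (fun _ => Pt) (kd xd23 yd4 zd2) (kd xd8 yd1 zd11) (kd xd17 yd46 zd59) (kd xd21 yd11 zd60) (kd xd24 yd54 zd8) (kd xd24 yd54 zd10) (kd xd24 yd54 zd11) (kd xd15 yd10 zd41) (kd xd11 yd42 zd5) (kd xd16 yd34 zd35) (kd xd24 yd54 zd13) (kd xd16 yd34 zd39) (kd xd19 yd53 zd56) (kd xd24 yd54 zd16) (kd xd8 yd1 zd17) (kd xd24 yd54 zd20) (kd xd18 yd38 zd60) (kd xd8 yd1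 zd18) (kd xd16 yd12 zd13) (kd xd23 yd6 zd54) (kd xd8 yd1 zd19) (kd xd24 yd54 zd29) (kd xd12 yd53 zd1) (kd xd8 yd1 zd21) (kd xd15 yd14 zd1) (kd xd8 yd47 zd21) (kd xd17 yd57 zd6) (kd xd16 yd23 zd0) (kd xd15 yd14 zd3) (kd xd18 yd17 zd33) (kd xd23 yd6 zd24) (kd xd24 yd54 zd39) (kd xd8 yd1 zd24) (kd xd19 yd55 zd55) (kd xd16 yd23 zd1) (kd xd24 yd54 zd43) (kd xd8 yd39 zd7) (kd xd8 yd1 zd26) (kd xd24 yd47 zd6) (kd xd15 yd24 zd29) (kd xd24 yd54 zd45) (kd xd24 yd54 zd46) (kd xd15 yd22 zd56) (kd xd8 yd1 zd29) (kd xd15 yd30 zd61) (kd xd10 yd7 zd26) (kd xd15 yd5 zd55) (kd xd24 yd54 zd49) (kd xd23 yd49 zd55) (kd xd15 yd48 zd57) (kd xd8 yd1 zd34) (kd xd21 yd58 zd36) (kd xd24 yd54 zd56) (kd xd24 yd54 zd60) (kd xd24 yd55 zd0) (kd xd8 yd1 zd35) (kd xd15 yd14 zd58) (kd xd8 yd1 zd36) (kd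 xd16 yd14 zd55) (kd xd16 yd14 zd56) (kd xd24 yd55 zd12) (kd xd17 yd37 zd6)) (@D3.rec (fun _ => Pt) (kd xd24 yd55 zd17) (kd xd24 yd55 zd19) (kd xd17 yd37 zd9) (kd xd8 yd1 zd40) (kd xd22 yd51 zd29) (kd xd8 yd1 zd44) (kd xd8 yd1 zd45) (kd xd8 yd1 zd46) (kd xd24 yd55 zd28) (kd xd18 yd58 zd33) (kd xd8 yd1 zd48) (kd xd8 yd1 zd49) (kd xd17 yd41 zd26) (kd xd13 yd27 zd53) (kd xd8 yd10 zd26) (kd xd8 yd5 zd2) (kd xd24 yd55 zd40) (kd xd8 yd2 zd23) (kd xd8 yd37 zd42) (kd xd24 yd55 zd49) (kd xd24 yd55 zd52) (kd xd24 yd55 zd54) (kd xd24 yd55 zd57) (kd xd24 yd55 zd60) (kd xd24 yd56 zd1) (kd xd24 yd56 zd5) (kd xd8 yd1 zd55) (kd xd22 yd18 zd16) (kd xd24 yd56 zd10) (kd xd20 yd20 zd27) (kd xd24 yd56 zd15) (kd xd8 yd2 zd29) (kd xd24 yd56 zd18) (kd xd8 yd1 zd58) (kd xd11 yd9 zd43) (kd xd11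 yd9 zd44) (kd xd9 yd37 zd21) (kd xd24 yd56 zd28) (kd xd8 yd1 zd60) (kd xd24 yd56 zd31) (kd xd22 yd46 zd25) (kd xd8 yd1 zd61) (kd xd12 yd6 zd27) (kd xd17 yd45 zd42) (kd xd9 yd40 zd4) (kd xd24 yd56 zd35) (kd xd24 yd56 zd37) (kd xd24 yd56 zd40) (kd xd8 yd2 zd2) (kd xd8 yd2 zd4) (kd xd22 yd51 zd60) (kd xd9 yd47 zd17) (kd xd17 yd57 zd19) (kd xd24 yd56 zd45) (kd xd24 yd56 zd46) (kd xd8 yd2 zd13) (kd xd8 yd2 zd14) (kd xd8 yd2 zd15) (kd xd22 yd27 zd11) (kd xd23 yd7 zd39) (kd xd8 yd2 zd18) (kd xd22 yd47 zd22)) (@D3.rec (fun _ => Pt) (kd xd8 yd2 zd19) (kd xd24 yd56 zd52) (kd xd8 yd2 zd21) (kd xd13 yd46 zd25) (kd xd24 yd56 zd53) (kd xd24 yd56 zd55) (kd xd24 yd55 zd44) (kd xd24 yd56 zd56) (kd xd22 yd46 zd37) (kd xd11 yd24 zd42) (kd xd12 yd22 zd27) (kd xd24 yd56 zd60) (kd xd8 yd2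 zd27) (kd xd18 yd23 zd50) (kd xd16 yd32 zd47) (kd xd20 yd42 zd56) (kd xd8 yd2 zd28) (kd xd23 yd33 zd21) (kd xd24 yd57 zd6) (kd xd22 yd17 zd37) (kd xd8 yd2 zd30) (kd xd8 yd5 zd7) (kd xd12 yd8 zd35) (kd xd24 yd57 zd15) (kd xd16 yd23 zd13) (kd xd16 yd23 zd21) (kd xd24 yd57 zd19) (kd xd8 yd2 zd33) (kd xd21 yd7 zd54) (kd xd22 yd51 zd6) (kd xd24 yd57 zd24) (kd xd8 yd2 zd34) (kd xd15 yd10 zd56) (kd xd9 yd46 zd60) (kd xd16 yd26 zd50) (kd xd24 yd46 zd47) (kd xd15 yd10 zd58) (kd xd21 yd13 zd0) (kd xd8 yd5 zd21) (kd xd24 yd56 zd33) (kd xd24 yd57 zd35) (kd xd20 yd15 zd59) (kd xd8 yd2 zd37) (kd xd24 yd57 zd39) (kd xd24 yd46 zd48) (kd xd24 yd57 zd42) (kd xd8 yd38 zd27) (kd xd8 yd2 zd39) (kd xd16 yd25 zd40) (kd xd10 yd16 zd8) (kd xd10 yd16 zd9) (kd xd9 yd51 zd26) (kd xd11 yd23 zd42)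 (kd xd21 yd12 zd11) (kd xd8 yd8 zd37) (kd xd11 yd52 zd47) (kd xd10 yd3 zd45) (kd xd10 yd3 zd43) (kd xd22 yd28 zd55) (kd xd8 yd2 zd44) (kd xd16 yd13 zd29) (kd xd12 yd0 zd22)) (@D3.rec (fun _ => Pt) (kd xd19 yd37 zd58) (kd xd8 yd38 zd4) (kd xd10 yd39 zd39) (kd xd8 yd42 zd32) (kd xd24 yd57 zd59) (kd xd24 yd58 zd2) (kd xd24 yd58 zd4) (kd xd8 yd2 zd49) (kd xd17 yd36 zd24) (kd xd24 yd58 zd8) (kd xd10 yd24 zd57) (kd xd15 yd9 zd22) (kd xd8 yd36 zd49) (kd xd24 yd58 zd12) (kd xd8 yd2 zd55) (kd xd24 yd58 zd16) (kd xd8 yd2 zd56) (kd xd8 yd2 zd57) (kd xd18 yd21 zd37) (kd xd8 yd36 zd55) (kd xd8 yd2 zd59) (kd xd10 yd58 zd58) (kd xd15 yd9 zd11) (kd xd9 yd37 zd34) (kd xd24 yd58 zd24) (kd xd24 yd58 zd27) (kd xd24 yd58 zd29) (kd xd8 yd2 zd61) (kd xd24 yd58 zd30) (kd xd8 yd8 zd5) (kd xd20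 yd2 zd56) (kd xd24 yd58 zd35) (kd xd24 yd3 zd9) (kd xd20 yd2 zd58) (kd xd24 yd58 zd42) (kd xd22 yd52 zd36) (kd xd19 yd31 zd11) (kd xd8 yd3 zd6) (kd xd8 yd5 zd49) (kd xd8 yd3 zd7) (kd xd8 yd34 zd36) (kd xd18 yd28 zd14) (kd xd15 yd10 zd57) (kd xd15 yd10 zd55) (kd xd18 yd29 zd57) (kd xd23 yd50 zd43) (kd xd8 yd3 zd10) (kd xd24 yd58 zd51) (kd xd14 yd57 zd6) (kd xd9 yd45 zd0) (kd xd16 yd18 zd29) (kd xd16 yd15 zd23) (kd xd8 yd10 zd0) (kd xd8 yd23 zd58) (kd xd24 yd58 zd58) (kd xd24 yd58 zd60) (kd xd23 yd2 zd12) (kd xd23 yd2 zd8) (kd xd18 yd29 zd61) (kd xd24 yd59 zd5) (kd xd8 yd3 zd19) (kd xd17 yd39 zd50)) (@D3.rec (fun _ => Pt) (kd xd24 yd59 zd8) (kd xd8 yd36 zd42) (kd xd11 yd13 zd46) (kd xd11 yd50 zd33) (kd xd24 yd59 zd15) (kd xd24 yd48 zd14) (kd xd16 yd33 zd60) (kd xd23 yd45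 zd9) (kd xd8 yd44 zd61) (kd xd16 yd33 zd9) (kd xd16 yd21 zd17) (kd xd8 yd45 zd2) (kd xd24 yd59 zd26) (kd xd16 yd28 zd54) (kd xd8 yd3 zd32) (kd xd24 yd59 zd32) (kd xd11 yd32 zd37) (kd xd24 yd59 zd34) (kd xd9 yd44 zd60) (kd xd24 yd57 zd32) (kd xd24 yd45 zd59) (kd xd9 yd45 zd3) (kd xd8 yd3 zd38) (kd xd8 yd3 zd39) (kd xd8 yd10 zd30) (kd xd23 yd15 zd28) (kd xd24 yd59 zd44) (kd xd8 yd3 zd41) (kd xd24 yd59 zd47) (kd xd17 yd57 zd8) (kd xd8 yd3 zd42) (kd xd24 yd59 zd51) (kd xd8 yd37 zd43) (kd xd14 yd4 zd10) (kd xd21 yd29 zd23) (kd xd21 yd29 zd24) (kd xd16 yd23 zd46) (kd xd24 yd59 zd57) (kd xd9 yd9 zd19) (kd xd20 yd4 zd45) (kd xd23 yd3 zd30) (kd xd15 yd6 zd7) (kd xd23 yd15 zd32) (kd xd21 yd11 zd0) (kd xd24 yd59 zd61) (kd xd21 yd11 zd5) (kd xd18 yd26 zd28) (kd xd18 yd26 zd29)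 (kd xd15 yd12 zd4) (kd xd15 yd14 zd13) (kd xd25 yd0 zd2) (kd xd25 yd0 zd3) (kd xd8 yd3 zd51) (kd xd15 yd14 zd18) (kd xd21 yd29 zd2) (kd xd15 yd9 zd43) (kd xd15 yd8 zd32) (kd xd15 yd9 zd42) (kd xd15 yd8 zd36) (kd xd21 yd12 zd38) (kd xd18 yd49 zd39) (kd xd25 yd0 zd10)) (@D3.rec (fun _ => Pt) (kd xd10 yd20 zd23) (kd xd25 yd0 zd12) (kd xd15 yd1 zd19) (kd xd8 yd36 zd26) (kd xd9 yd37 zd57) (kd xd14 yd9 zd26) (kd xd18 yd28 zd39) (kd xd10 yd7 zd46) (kd xd8 yd3 zd60) (kd xd8 yd4 zd0) (kd xd24 yd29 zd34) (kd xd16 yd15 zd17) (kd xd16 yd19 zd18) (kd xd18 yd28 zd7) (kd xd18 yd28 zd8) (kd xd25 yd0 zd19) (kd xd8 yd4 zd3) (kd xd25 yd0 zd24) (kd xd25 yd0 zd25) (kd xd8 yd4 zd5) (kd xd25 yd0 zd29) (kd xd25 yd0 zd30) (kd xd18 yd3 zd40) (kd xd25 yd0 zd31) (kd xd24 yd52 zd18) (kd xd15 yd22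 zd20) (kd xd24 yd59 zd14) (kd xd24 yd59 zd18) (kd xd25 yd0 zd33) (kd xd8 yd4 zd10) (kd xd25 yd0 zd35) (kd xd25 yd0 zd36) (kd xd25 yd0 zd39) (kd xd25 yd0 zd41) (kd xd8 yd4 zd12) (kd xd25 yd0 zd44) (kd xd25 yd0 zd45) (kd xd11 yd4 zd34) (kd xd16 yd1 zd33) (kd xd16 yd1 zd34) (kd xd8 yd42 zd38) (kd xd25 yd0 zd20) (kd xd25 yd0 zd21) (kd xd25 yd0 zd49) (kd xd8 yd4 zd16) (kd xd12 yd58 zd58) (kd xd17 yd36 zd32) (kd xd9 yd33 zd57) (kd xd9 yd35 zd41) (kd xd8 yd40 zd49) (kd xd10 yd8 zd10) (kd xd25 yd0 zd50) (kd xd21 yd25 zd27) (kd xd15 yd50 zd31) (kd xd8 yd4 zd21) (kd xd24 yd56 zd11) (kd xd15 yd14 zd44) (kd xd8 yd4 zd23) (kd xd25 yd0 zd53) (kd xd25 yd0 zd56) (kd xd25 yd0 zd34) (kd xd15 yd50 zd32)) (@D3.rec (fun _ => Pt) (kd xd8 yd4 zd24) (kd xd16 yd19 zd17) (kd xd9 yd34 zd38) (kd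 xd8 yd40 zd44) (kd xd15 yd10 zd48) (kd xd23 yd44 zd31) (kd xd25 yd1 zd0) (kd xd25 yd1 zd3) (kd xd8 yd4 zd27) (kd xd16 yd22 zd60) (kd xd23 yd44 zd30) (kd xd23 yd20 zd60) (kd xd25 yd1 zd12) (kd xd8 yd4 zd28) (kd xd25 yd1 zd14) (kd xd8 yd4 zd29) (kd xd25 yd0 zd14) (kd xd25 yd0 zd15) (kd xd8 yd38 zd36) (kd xd17 yd37 zd61) (kd xd25 yd1 zd18) (kd xd8 yd4 zd37) (kd xd16 yd20 zd50) (kd xd8 yd4 zd44) (kd xd25 yd1 zd24) (kd xd21 yd26 zd1) (kd xd25 yd1 zd26) (kd xd18 yd4 zd13) (kd xd8 yd4 zd35) (kd xd25 yd1 zd28) (kd xd16 yd12 zd30) (kd xd8 yd38 zd52) (kd xd18 yd29 zd11) (kd xd18 yd29 zd12) (kd xd25 yd1 zd17) (kd xd25 yd1 zd34) (kd xd8 yd4 zd38) (kd xd25 yd1 zd36) (kd xd18 yd45 zd26) (kd xd25 yd1 zd37) (kd xd23 yd14 zd53) (kd xd20 yd26 zd19) (kd xd15 yd13 zd61) (kd xd15 yd14 zd2)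 (kd xd25 yd1 zd20) (kd xd25 yd1 zd46) (kd xd8 yd4 zd45) (kd xd17 yd40 zd29) (kd xd8 yd4 zd46) (kd xd8 yd6 zd47) (kd xd8 yd4 zd52) (kd xd25 yd1 zd51) (kd xd13 yd42 zd14) (kd xd25 yd1 zd53) (kd xd25 yd1 zd55) (kd xd21 yd10 zd32) (kd xd24 yd29 zd7) (kd xd24 yd46 zd1) (kd xd14 yd59 zd7) (kd xd24 yd56 zd47) (kd xd22 yd54 zd32) (kd xd21 yd4 zd16)) (@D3.rec (fun _ => Pt) (kd xd20 yd29 zd36) (kd xd8 yd4 zd54) (kd xd8 yd4 zd55) (kd xd8 yd25 zd51) (kd xd8 yd43 zd30) (kd xd24 yd54 zd36) (kd xd16 yd20 zd52) (kd xd8 yd43 zd33) (kd xd25 yd2 zd5) (kd xd16 yd26 zd53) (kd xd8 yd4 zd58) (kd xd25 yd2 zd10) (kd xd11 yd32 zd39) (kd xd8 yd4 zd60) (kd xd8 yd4 zd61) (kd xd16 yd29 zd23) (kd xd8 yd5 zd0) (kd xd25 yd2 zd15) (kd xd25 yd2 zd17) (kd xd24 yd55 zd37) (kd xd8 yd5 zd3) (kd xd17 yd57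 zd16) (kd xd8 yd5 zd4) (kd xd8 yd5 zd5) (kd xd25 yd2 zd25) (kd xd24 yd57 zd10) (kd xd17 yd57 zd17) (kd xd8 yd38 zd55) (kd xd25 yd2 zd31) (kd xd11 yd17 zd48) (kd xd14 yd56 zd25) (kd xd12 yd6 zd49) (kd xd14 yd56 zd21) (kd xd23 yd46 zd42) (kd xd25 yd2 zd38) (kd xd8 yd5 zd11) (kd xd25 yd2 zd41) (kd xd24 yd41 zd29) (kd xd24 yd57 zd4) (kd xd24 yd56 zd54) (kd xd12 yd6 zd52) (kd xd25 yd2 zd47) (kd xd8 yd5 zd14) (kd xd25 yd2 zd51) (kd xd17 yd2 zd35) (kd xd24 yd54 zd28) (kd xd19 yd49 zd60) (kd xd16 yd25 zd44) (kd xd16 yd34 zd27) (kd xd22 yd55 zd46) (kd xd22 yd55 zd45) (kd xd16 yd34 zd32) (kd xd18 yd9 zd57) (kd xd18 yd9 zd58) (kd xd10 yd9 zd2) (kd xd18 yd3 zd58) (kd xd16 yd17 zd42) (kd xd25 yd2 zd58) (kd xd8 yd5 zd20) (kd xd25 yd2 zd61) (kd xd24 yd57 zd28) (kd xd15 yd12 zd42))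 (@D3.rec (fun _ => Pt) (kd xd15 yd22 zd47) (kd xd15 yd6 zd24) (kd xd15 yd12 zd43) (kd xd15 yd6 zd28) (kd xd25 yd3 zd10) (kd xd25 yd3 zd11) (kd xd19 yd1 zd26) (kd xd8 yd5 zd24) (kd xd19 yd42 zd20) (kd xd8 yd5 zd26) (kd xd15 yd22 zd2) (kd xd10 yd15 zd47) (kd xd15 yd50 zd30) (kd xd15 yd10 zd49) (kd xd23 yd42 zd50) (kd xd23 yd43 zd2) (kd xd24 yd56 zd27) (kd xd23 yd37 zd38) (kd xd15 yd10 zd53) (kd xd19 yd49 zd54) (kd xd25 yd3 zd26) (kd xd8 yd5 zd34) (kd xd24 yd15 zd32) (kd xd23 yd37 zd47) (kd xd23 yd37 zd48) (kd xd19 yd0 zd47) (kd xd8 yd5 zd38) (kd xd8 yd5 zd39) (kd xd8 yd5 zd40) (kd xd10 yd31 zd27) (kd xd18 yd4 zd9) (kd xd25 yd3 zd40) (kd xd9 yd34 zd14) (kd xd8 yd42 zd27) (kd xd8 yd42 zd30) (kd xd16 yd8 zd8) (kd xd8 yd5 zd44) (kd xd16 yd15 zd19) (kd xd8 yd5 zd46) (kd xd8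 yd5 zd59) (kd xd18 yd28 zd61) (kd xd8 yd5 zd48) (kd xd15 yd16 zd6) (kd xd10 yd0 zd53) (kd xd15 yd11 zd56) (kd xd25 yd3 zd49) (kd xd25 yd3 zd52) (kd xd8 yd5 zd54) (kd xd8 yd45 zd16) (kd xd13 yd37 zd25) (kd xd25 yd3 zd55) (kd xd8 yd5 zd55) (kd xd13 yd4 zd24) (kd xd8 yd5 zd56) (kd xd18 yd26 zd52) (kd xd18 yd26 zd53) (kd xd15 yd34 zd50) (kd xd25 yd4 zd1) (kd xd15 yd6 zd56) (kd xd17 yd38 zd15) (kd xd8 yd5 zd61) (kd xd8 yd6 zd0)) (@D3.rec (fun _ => Pt) (kd xd16 yd12 zd59) (kd xd8 yd19 zd54) (kd xd25 yd4 zd7) (kd xd9 yd52 zd25) (kd xd15 yd50 zd56) (kd xd19 yd44 zd26) (kd xd19 yd44 zd27) (kd xd25 yd4 zd12) (kd xd8 yd6 zd4) (kd xd19 yd26 zd10) (kd xd8 yd6 zd6) (kd xd25 yd4 zd13) (kd xd14 yd28 zd1) (kd xd25 yd4 zd19) (kd xd8 yd6 zd8) (kd xd25 yd4 zd22) (kd xd25 yd4 zd23) (kd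 xd25 yd4 zd25) (kd xd25 yd4 zd27) (kd xd8 yd6 zd10) (kd xd15 yd19 zd27) (kd xd25 yd4 zd29) (kd xd8 yd6 zd11) (kd xd25 yd4 zd32) (kd xd10 yd15 zd5) (kd xd25 yd4 zd35) (kd xd25 yd4 zd38) (kd xd25 yd4 zd39) (kd xd8 yd6 zd14) (kd xd25 yd4 zd47) (kd xd25 yd4 zd51) (kd xd8 yd6 zd16) (kd xd25 yd4 zd54) (kd xd25 yd4 zd55) (kd xd25 yd4 zd57) (kd xd8 yd6 zd17) (kd xd25 yd5 zd0) (kd xd8 yd6 zd19) (kd xd22 yd54 zd20) (kd xd19 yd36 zd20) (kd xd21 yd4 zd11) (kd xd25 yd5 zd9) (kd xd8 yd6 zd20) (kd xd15 yd53 zd54) (kd xd19 yd36 zd19) (kd xd25 yd5 zd19) (kd xd25 yd5 zd21) (kd xd8 yd6 zd21) (kd xd25 yd5 zd24) (kd xd10 yd50 zd43) (kd xd10 yd50 zd44) (kd xd8 yd6 zd24) (kd xd25 yd5 zd31) (kd xd8 yd17 zd12) (kd xd25 yd5 zd36) (kd xd8 yd18 zd7) (kd xd25 yd5 zd41) (kd xd8 yd16 zd58) (kd xd17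 yd36 zd3) (kd xd15 yd46 zd56) (kd xd25 yd5 zd48) (kd xd25 yd5 zd50)) (@D3.rec (fun _ => Pt) (kd xd25 yd5 zd51) (kd xd25 yd5 zd53) (kd xd8 yd6 zd30) (kd xd25 yd5 zd59) (kd xd8 yd6 zd31) (kd xd10 yd23 zd47) (kd xd15 yd14 zd42) (kd xd16 yd22 zd54) (kd xd25 yd6 zd2) (kd xd8 yd6 zd33) (kd xd8 yd32 zd31) (kd xd8 yd32 zd30) (kd xd15 yd58 zd58) (kd xd8 yd6 zd34) (kd xd25 yd6 zd12) (kd xd25 yd6 zd14) (kd xd15 yd20 zd19) (kd xd15 yd20 zd18) (kd xd8 yd6 zd36) (kd xd25 yd6 zd18) (kd xd8 yd7 zd39) (kd xd20 yd55 zd53) (kd xd8 yd6 zd40) (kd xd10 yd33 zd2) (kd xd18 yd45 zd61) (kd xd15 yd40 zd42) (kd xd15 yd40 zd41) (kd xd12 yd15 zd59) (kd xd8 yd6 zd42) (kd xd25 yd6 zd27) (kd xd25 yd6 zd29) (kd xd8 yd6 zd44) (kd xd25 yd6 zd34) (kd xd8 yd8 zd29) (kd xd20 yd57 zd2) (kd xd15 yd5 zd56)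 (kd xd25 yd6 zd10) (kd xd19 yd38 zd44) (kd xd15 yd52 zd22) (kd xd25 yd6 zd40) (kd xd25 yd6 zd42) (kd xd8 yd6 zd51) (kd xd25 yd6 zd45) (kd xd21 yd26 zd42) (kd xd25 yd6 zd47) (kd xd8 yd6 zd52) (kd xd23 yd8 zd46) (kd xd8 yd8 zd4) (kd xd17 yd14 zd52) (kd xd17 yd14 zd54) (kd xd8 yd19 zd53) (kd xd8 yd6 zd55) (kd xd25 yd6 zd55) (kd xd25 yd5 zd45) (kd xd8 yd6 zd57) (kd xd22 yd54 zd27) (kd xd15 yd53 zd21) (kd xd18 yd21 zd38) (kd xd10 yd35 zd14) (kd xd15 yd53 zd22) (kd xd8 yd14 zd11) (kd xd8 yd14 zd12)) (@D3.rec (fun _ => Pt) (kd xd25 yd7 zd3) (kd xd8 yd7 zd0) (kd xd20 yd3 zd3) (kd xd25 yd7 zd6) (kd xd25 yd7 zd8) (kd xd8 yd7 zd1) (kd xd25 yd7 zd12) (kd xd8 yd7 zd3) (kd xd21 yd42 zd51) (kd xd15 yd59 zd36) (kd xd25 yd7 zd17) (kd xd23 yd57 zd11) (kd xd8 yd7 zd4) (kd xd25 yd7 zd23)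 (kd xd21 yd49 zd59) (kd xd8 yd18 zd38) (kd xd23 yd57 zd14) (kd xd8 yd7 zd5) (kd xd8 yd48 zd30) (kd xd8 yd7 zd6) (kd xd21 yd1 zd45) (kd xd21 yd1 zd46) (kd xd8 yd9 zd20) (kd xd21 yd46 zd27) (kd xd9 yd33 zd23) (kd xd25 yd7 zd38) (kd xd8 yd27 zd33) (kd xd25 yd7 zd45) (kd xd15 yd55 zd0) (kd xd15 yd55 zd1) (kd xd8 yd9 zd24) (kd xd8 yd7 zd13) (kd xd16 yd40 zd46) (kd xd16 yd39 zd41) (kd xd25 yd7 zd60) (kd xd16 yd39 zd48) (kd xd16 yd40 zd7) (kd xd25 yd8 zd1) (kd xd8 yd7 zd16) (kd xd25 yd8 zd9) (kd xd8 yd8 zd10) (kd xd25 yd8 zd15) (kd xd19 yd14 zd7) (kd xd8 yd7 zd18) (kd xd25 yd8 zd19) (kd xd11 yd9 zd4) (kd xd25 yd8 zd23) (kd xd25 yd8 zd26) (kd xd25 yd8 zd28) (kd xd8 yd7 zd22) (kd xd25 yd8 zd31) (kd xd21 yd23 zd53) (kd xd8 yd7 zd23) (kd xd8 yd9 zd17) (kd xd8 yd9 zd18) (kd xd11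 yd8 zd60) (kd xd25 yd8 zd39) (kd xd25 yd8 zd41) (kd xd8 yd7 zd27) (kd xd25 yd8 zd48) (kd xd25 yd8 zd51) (kd xd17 yd43 zd8)) (@D3.rec (fun _ => Pt) (kd xd25 yd8 zd54) (kd xd25 yd8 zd57) (kd xd16 yd45 zd38) (kd xd13 yd0 zd40) (kd xd8 yd7 zd31) (kd xd16 yd45 zd39) (kd xd25 yd8 zd59) (kd xd8 yd7 zd32) (kd xd25 yd8 zd60) (kd xd8 yd7 zd33) (kd xd25 yd9 zd0) (kd xd17 yd35 zd58) (kd xd17 yd35 zd60) (kd xd8 yd7 zd35) (kd xd14 yd27 zd42) (kd xd8 yd7 zd36) (kd xd10 yd1 zd15) (kd xd16 yd28 zd42) (kd xd8 yd7 zd38) (kd xd25 yd9 zd9) (kd xd10 yd16 zd1) (kd xd13 yd55 zd28) (kd xd22 yd45 zd24) (kd xd13 yd53 zd59) (kd xd13 yd31 zd61) (kd xd18 yd19 zd13) (kd xd18 yd19 zd14) (kd xd18 yd23 zd3) (kd xd15 yd57 zd6) (kd xd15 yd36 zd29) (kd xd16 yd6 zd34) (kd xd8 yd18 zd4) (kd xd24 yd51 zd19)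 (kd xd24 yd51 zd20) (kd xd25 yd9 zd18) (kd xd8 yd7 zd49) (kd xd15 yd39 zd44) (kd xd25 yd9 zd25) (kd xd8 yd7 zd51) (kd xd10 yd27 zd58) (kd xd20 yd56 zd46) (kd xd25 yd9 zd30) (kd xd8 yd7 zd55) (kd xd25 yd9 zd33) (kd xd25 yd9 zd35) (kd xd16 yd8 zd13) (kd xd25 yd9 zd37) (kd xd25 yd9 zd40) (kd xd11 yd2 zd25) (kd xd15 yd38 zd24) (kd xd20 yd3 zd60) (kd xd20 yd4 zd1) (kd xd25 yd9 zd49) (kd xd23 yd58 zd58) (kd xd8 yd8 zd0) (kd xd15 yd20 zd39) (kd xd25 yd9 zd56) (kd xd25 yd9 zd58) (kd xd8 yd8 zd3) (kd xd24 yd45 zd4) (kd xd22 yd11 zd10) (kd xd10 yd39 zd49)) (@D3.rec (fun _ => Pt) (kd xd21 yd58 zd43) (kd xd8 yd8 zd6) (kd xd17 yd39 zd26) (kd xd14 yd59 zd8) (kd xd14 yd59 zd9) (kd xd18 yd3 zd28) (kd xd8 yd8 zd8) (kd xd25 yd8 zd11) (kd xd25 yd10 zd7) (kd xd25 yd8 zd3) (kd xd25 yd8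 zd4) (kd xd25 yd10 zd11) (kd xd8 yd8 zd11) (kd xd10 yd32 zd7) (kd xd25 yd10 zd16) (kd xd16 yd38 zd39) (kd xd25 yd10 zd19) (kd xd8 yd8 zd13) (kd xd25 yd10 zd21) (kd xd19 yd31 zd37) (kd xd10 yd14 zd45) (kd xd8 yd58 zd19) (kd xd25 yd10 zd25) (kd xd21 yd16 zd33) (kd xd15 yd20 zd6) (kd xd25 yd10 zd28) (kd xd10 yd51 zd39) (kd xd15 yd15 zd20) (kd xd8 yd8 zd19) (kd xd10 yd43 zd36) (kd xd25 yd10 zd31) (kd xd8 yd8 zd20) (kd xd25 yd10 zd36) (kd xd8 yd8 zd21) (kd xd25 yd6 zd30) (kd xd9 yd53 zd15) (kd xd11 yd9 zd30) (kd xd14 yd57 zd51) (kd xd8 yd8 zd23) (kd xd15 yd36 zd31) (kd xd8 yd8 zd24) (kd xd24 yd5 zd6) (kd xd8 yd8 zd25) (kd xd16 yd8 zd9) (kd xd17 yd44 zd12) (kd xd10 yd31 zd26) (kd xd25 yd5 zd14) (kd xd8 yd8 zd27) (kd xd25 yd10 zd55) (kd xd17 yd43 zd61) (kd xd16 yd15 zd4) (kd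 xd17 yd53 zd58) (kd xd14 yd57 zd54) (kd xd14 yd57 zd49) (kd xd10 yd31 zd42) (kd xd8 yd8 zd51) (kd xd10 yd33 zd12) (kd xd15 yd2 zd37) (kd xd25 yd9 zd19) (kd xd25 yd10 zd61) (kd xd8 yd8 zd34) (kd xd25 yd11 zd7)) (@D3.rec (fun _ => Pt) (kd xd25 yd11 zd11) (kd xd25 yd11 zd14) (kd xd8 yd8 zd36) (kd xd21 yd43 zd9) (kd xd15 yd36 zd28) (kd xd25 yd11 zd20) (kd xd15 yd19 zd24) (kd xd25 yd11 zd22) (kd xd10 yd51 zd57) (kd xd15 yd39 zd39) (kd xd19 yd35 zd29) (kd xd8 yd8 zd43) (kd xd15 yd39 zd38) (kd xd25 yd11 zd30) (kd xd8 yd8 zd44) (kd xd16 yd8 zd22) (kd xd25 yd11 zd34) (kd xd8 yd8 zd45) (kd xd15 yd16 zd17) (kd xd15 yd16 zd16) (kd xd8 yd8 zd47) (kd xd25 yd11 zd41) (kd xd8 yd8 zd48) (kd xd11 yd9 zd23) (kd xd25 yd11 zd42) (kd xd10 yd37 zd33) (kd xd14 yd56 zd57) (kd xd17 yd6 zd7)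 (kd xd25 yd11 zd44) (kd xd8 yd8 zd52) (kd xd25 yd11 zd47) (kd xd15 yd20 zd42) (kd xd15 yd20 zd44) (kd xd25 yd11 zd49) (kd xd10 yd40 zd32) (kd xd23 yd39 zd41) (kd xd8 yd8 zd57) (kd xd25 yd11 zd52) (kd xd11 yd56 zd49) (kd xd15 yd18 zd55) (kd xd16 yd3 zd60) (kd xd8 yd8 zd59) (kd xd15 yd20 zd31) (kd xd23 yd25 zd52) (kd xd15 yd20 zd32) (kd xd23 yd25 zd51) (kd xd25 yd11 zd61) (kd xd13 yd59 zd37) (kd xd13 yd59 zd36) (kd xd25 yd5 zd39) (kd xd25 yd12 zd3) (kd xd8 yd9 zd2) (kd xd11 yd56 zd58) (kd xd11 yd56 zd57) (kd xd25 yd12 zd7) (kd xd8 yd9 zd4) (kd xd25 yd12 zd9) (kd xd19 yd38 zd30) (kd xd25 yd12 zd11) (kd xd19 yd38 zd26) (kd xd19 yd49 zd41) (kd xd20 yd3 zd12)) (@D3.rec (fun _ => Pt) (kd xd8 yd9 zd7) (kd xd25 yd12 zd17) (kd xd20 yd2 zd44) (kd xd22 yd54 zd49) (kd xd22 yd48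 zd16) (kd xd25 yd12 zd20) (kd xd8 yd9 zd8) (kd xd20 yd15 zd26) (kd xd25 yd12 zd24) (kd xd25 yd12 zd28) (kd xd19 yd38 zd24) (kd xd25 yd5 zd7) (kd xd8 yd9 zd10) (kd xd25 yd12 zd31) (kd xd24 yd9 zd11) (kd xd24 yd51 zd14) (kd xd25 yd12 zd32) (kd xd25 yd12 zd35) (kd xd8 yd9 zd12) (kd xd25 yd12 zd41) (kd xd19 yd36 zd51) (kd xd8 yd9 zd13) (kd xd23 yd27 zd30) (kd xd19 yd10 zd40) (kd xd25 yd12 zd45) (kd xd25 yd12 zd47) (kd xd8 yd9 zd15) (kd xd24 yd9 zd14) (kd xd18 yd16 zd5) (kd xd25 yd7 zd28) (kd xd19 yd11 zd61) (kd xd25 yd12 zd55) (kd xd25 yd12 zd58) (kd xd25 yd8 zd34) (kd xd19 yd44 zd13) (kd xd24 yd11 zd23) (kd xd18 yd20 zd47) (kd xd8 yd9 zd19) (kd xd9 yd29 zd4) (kd xd17 yd29 zd39) (kd xd17 yd29 zd34) (kd xd21 yd46 zd28) (kd xd25 yd13 zd9) (kd xd22 yd1 zd52) (kd xd8 yd9 zd21)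 (kd xd25 yd13 zd16) (kd xd8 yd9 zd22) (kd xd25 yd8 zd43) (kd xd8 yd9 zd23) (kd xd25 yd9 zd51) (kd xd25 yd13 zd23) (kd xd8 yd9 zd25) (kd xd20 yd2 zd53) (kd xd15 yd38 zd4) (kd xd8 yd9 zd26) (kd xd20 yd3 zd29) (kd xd17 yd53 zd49) (kd xd20 yd2 zd9) (kd xd25 yd7 zd46) (kd xd15 yd40 zd20) (kd xd8 yd9 zd28) (kd xd25 yd13 zd41)) (@D3.rec (fun _ => Pt) (kd xd9 yd37 zd41) (kd xd15 yd54 zd59) (kd xd15 yd14 zd10) (kd xd20 yd4 zd61) (kd xd8 yd9 zd31) (kd xd12 yd18 zd15) (kd xd15 yd33 zd56) (kd xd8 yd9 zd32) (kd xd25 yd13 zd48) (kd xd15 yd54 zd60) (kd xd8 yd25 zd48) (kd xd8 yd25 zd49) (kd xd11 yd8 zd50) (kd xd25 yd13 zd55) (kd xd25 yd13 zd58) (kd xd25 yd13 zd60) (kd xd8 yd9 zd36) (kd xd25 yd6 zd43) (kd xd8 yd9 zd37) (kd xd18 yd5 zd16) (kd xd15 yd11 zd25) (kd xd8 yd28 zd22) (kd xd8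 yd28 zd17) (kd xd11 yd8 zd41) (kd xd25 yd14 zd8) (kd xd25 yd14 zd11) (kd xd8 yd9 zd42) (kd xd25 yd14 zd14) (kd xd15 yd53 zd10) (kd xd25 yd14 zd18) (kd xd15 yd53 zd13) (kd xd25 yd14 zd22) (kd xd25 yd14 zd25) (kd xd25 yd14 zd26) (kd xd8 yd9 zd48) (kd xd11 yd4 zd26) (kd xd11 yd4 zd27) (kd xd22 yd20 zd59) (kd xd8 yd9 zd52) (kd xd21 yd2 zd1) (kd xd25 yd14 zd30) (kd xd8 yd9 zd54) (kd xd25 yd13 zd40) (kd xd10 yd7 zd31) (kd xd11 yd4 zd24) (kd xd25 yd14 zd35) (kd xd23 yd32 zd42) (kd xd15 yd14 zd0) (kd xd23 yd17 zd54) (kd xd25 yd14 zd38) (kd xd25 yd14 zd41) (kd xd13 yd59 zd38) (kd xd24 yd41 zd37) (kd xd25 yd14 zd44) (kd xd8 yd10 zd2) (kd xd24 yd41 zd34) (kd xd15 yd6 zd42) (kd xd11 yd9 zd8) (kd xd25 yd14 zd49) (kd xd25 yd14 zd52) (kd xd11 yd9 zd11) (kd xd25 yd14 zd57)) (@D3.rec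 (fun _ => Pt) (kd xd25 yd14 zd60) (kd xd25 yd15 zd2) (kd xd25 yd15 zd5) (kd xd25 yd15 zd9) (kd xd8 yd10 zd8) (kd xd25 yd15 zd12) (kd xd15 yd54 zd7) (kd xd25 yd15 zd17) (kd xd8 yd10 zd10) (kd xd17 yd38 zd27) (kd xd8 yd10 zd11) (kd xd9 yd53 zd0) (kd xd25 yd15 zd23) (kd xd8 yd10 zd12) (kd xd24 yd58 zd14) (kd xd25 yd15 zd27) (kd xd25 yd15 zd29) (kd xd8 yd10 zd16) (kd xd25 yd15 zd32) (kd xd25 yd15 zd34) (kd xd8 yd10 zd17) (kd xd15 yd51 zd53) (kd xd25 yd15 zd37) (kd xd17 yd37 zd30) (kd xd8 yd10 zd19) (kd xd25 yd15 zd41) (kd xd15 yd5 zd53) (kd xd15 yd5 zd54) (kd xd25 yd15 zd46) (kd xd8 yd10 zd21) (kd xd25 yd15 zd40) (kd xd8 yd44 zd35) (kd xd25 yd15 zd51) (kd xd16 yd10 zd48) (kd xd8 yd24 zd58) (kd xd23 yd22 zd31) (kd xd25 yd14 zd37) (kd xd16 yd10 zd51) (kd xd25 yd15 zd60) (kd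 xd20 yd21 zd49) (kd xd25 yd16 zd2) (kd xd20 yd31 zd26) (kd xd22 yd52 zd20) (kd xd11 yd24 zd43) (kd xd11 yd35 zd49) (kd xd25 yd16 zd8) (kd xd25 yd16 zd10) (kd xd25 yd16 zd11) (kd xd8 yd10 zd37) (kd xd25 yd16 zd14) (kd xd22 yd11 zd55) (kd xd24 yd47 zd22) (kd xd11 yd13 zd33) (kd xd18 yd40 zd31) (kd xd18 yd40 zd32) (kd xd24 yd47 zd43) (kd xd10 yd17 zd36) (kd xd8 yd51 zd3) (kd xd8 yd51 zd10) (kd xd21 yd13 zd23) (kd xd25 yd16 zd30) (kd xd9 yd42 zd17)) (@D3.rec (fun _ => Pt) (kd xd8 yd10 zd46) (kd xd20 yd34 zd12) (kd xd25 yd16 zd37) (kd xd8 yd10 zd47) (kd xd25 yd16 zd38) (kd xd19 yd42 zd44) (kd xd24 yd51 zd53) (kd xd24 yd52 zd43) (kd xd8 yd10 zd48) (kd xd8 yd16 zd22) (kd xd8 yd17 zd55) (kd xd15 yd27 zd21) (kd xd12 yd46 zd58) (kd xd17 yd53 zd29) (kd xd21 yd59 zd48) (kd xd8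 yd10 zd50) (kd xd15 yd27 zd25) (kd xd23 yd42 zd37) (kd xd8 yd10 zd53) (kd xd25 yd16 zd48) (kd xd22 yd5 zd8) (kd xd8 yd10 zd55) (kd xd19 yd59 zd16) (kd xd15 yd47 zd47) (kd xd8 yd24 zd22) (kd xd8 yd10 zd57) (kd xd8 yd10 zd58) (kd xd9 yd40 zd60) (kd xd13 yd0 zd12) (kd xd15 yd6 zd39) (kd xd20 yd55 zd41) (kd xd23 yd45 zd56) (kd xd11 yd57 zd1) (kd xd17 yd35 zd40) (kd xd10 yd41 zd4) (kd xd12 yd7 zd17) (kd xd25 yd16 zd54) (kd xd14 yd58 zd11) (kd xd17 yd39 zd35) (kd xd22 yd6 zd28) (kd xd8 yd11 zd7) (kd xd15 yd38 zd43) (kd xd9 yd57 zd42) (kd xd9 yd58 zd34) (kd xd9 yd54 zd61) (kd xd25 yd17 zd0) (kd xd8 yd11 zd9) (kd xd15 yd38 zd30) (kd xd21 yd52 zd54) (kd xd8 yd11 zd10) (kd xd25 yd17 zd4) (kd xd23 yd40 zd40) (kd xd8 yd11 zd11) (kd xd8 yd11 zd25) (kd xd17 yd51 zd29) (kd xd17 yd51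 zd28) (kd xd17 yd4 zd21) (kd xd17 yd52 zd8) (kd xd15 yd56 zd42) (kd xd25 yd17 zd14) (kd xd15 yd50 zd45) (kd xd18 yd4 zd17)) (@D3.rec (fun _ => Pt) (kd xd8 yd11 zd19) (kd xd25 yd17 zd17) (kd xd22 yd22 zd27) (kd xd12 yd33 zd1) (kd xd8 yd11 zd21) (kd xd25 yd17 zd20) (kd xd24 yd32 zd26) (kd xd24 yd32 zd28) (kd xd8 yd25 zd40) (kd xd25 yd17 zd8) (kd xd20 yd16 zd7) (kd xd25 yd17 zd6) (kd xd25 yd17 zd7) (kd xd25 yd17 zd27) (kd xd8 yd11 zd26) (kd xd25 yd17 zd33) (kd xd10 yd0 zd43) (kd xd10 yd0 zd41) (kd xd10 yd58 zd8) (kd xd20 yd16 zd0) (kd xd20 yd16 zd1) (kd xd8 yd11 zd28) (kd xd25 yd17 zd39) (kd xd20 yd19 zd24) (kd xd8 yd11 zd29) (kd xd19 yd53 zd6) (kd xd8 yd24 zd57) (kd xd8 yd17 zd16) (kd xd20 yd46 zd8) (kd xd22 yd5 zd9) (kd xd8 yd11 zd33) (kd xd25 yd17 zd41) (kd xd25 yd17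 zd42) (kd xd25 yd17 zd43) (kd xd8 yd11 zd35) (kd xd14 yd47 zd12) (kd xd10 yd9 zd52) (kd xd25 yd17 zd45) (kd xd20 yd13 zd18) (kd xd9 yd49 zd60) (kd xd10 yd15 zd34) (kd xd8 yd11 zd41) (kd xd19 yd57 zd33) (kd xd21 yd18 zd42) (kd xd21 yd18 zd41) (kd xd20 yd13 zd50) (kd xd21 yd48 zd28) (kd xd25 yd17 zd48) (kd xd8 yd11 zd44) (kd xd10 yd0 zd44) (kd xd21 yd40 zd6) (kd xd17 yd56 zd45) (kd xd18 yd10 zd26) (kd xd18 yd10 zd27) (kd xd9 yd43 zd18) (kd xd9 yd29 zd44) (kd xd12 yd50 zd42) (kd xd19 yd56 zd50) (kd xd25 yd17 zd57) (kd xd9 yd38 zd43) (kd xd21 yd22 zd38) (kd xd8 yd11 zd52)) (@D3.rec (fun _ => Pt) (kd xd25 yd17 zd60) (kd xd25 yd18 zd0) (kd xd8 yd11 zd53) (kd xd17 yd44 zd58) (kd xd25 yd18 zd3) (kd xd25 yd18 zd4) (kd xd8 yd11 zd56) (kd xd11 yd27 zd58) (kd xd10 yd54 zd46) (kd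 xd8 yd12 zd2) (kd xd8 yd12 zd6) (kd xd11 yd56 zd42) (kd xd12 yd55 zd58) (kd xd17 yd3 zd29) (kd xd14 yd27 zd4) (kd xd8 yd12 zd10) (kd xd10 yd48 zd34) (kd xd17 yd55 zd8) (kd xd8 yd12 zd16) (kd xd8 yd12 zd18) (kd xd8 yd12 zd19) (kd xd8 yd12 zd20) (kd xd25 yd16 zd12) (kd xd25 yd18 zd14) (kd xd8 yd12 zd23) (kd xd8 yd12 zd22) (kd xd25 yd18 zd17) (kd xd8 yd12 zd24) (kd xd20 yd33 zd39) (kd xd8 yd49 zd2) (kd xd25 yd18 zd20) (kd xd11 yd39 zd36) (kd xd8 yd12 zd28) (kd xd25 yd16 zd13) (kd xd25 yd18 zd25) (kd xd15 yd4 zd52) (kd xd8 yd12 zd30) (kd xd25 yd18 zd28) (kd xd8 yd12 zd31) (kd xd25 yd18 zd31) (kd xd8 yd12 zd32) (kd xd14 yd32 zd22) (kd xd12 yd5 zd33) (kd xd8 yd12 zd36) (kd xd13 yd1 zd39) (kd xd20 yd18 zd57) (kd xd8 yd12 zd38) (kd xd20 yd26 zd29) (kd xd24 yd6 zd23) (kd xd8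 yd12 zd40) (kd xd23 yd57 zd55) (kd xd19 yd22 zd16) (kd xd8 yd12 zd41) (kd xd25 yd18 zd35) (kd xd8 yd12 zd42) (kd xd20 yd54 zd31) (kd xd12 yd57 zd3) (kd xd8 yd12 zd43) (kd xd10 yd2 zd48) (kd xd17 yd26 zd51) (kd xd11 yd34 zd40) (kd xd14 yd43 zd23)) (@D3.rec (fun _ => Pt) (kd xd8 yd12 zd46) (kd xd25 yd18 zd45) (kd xd8 yd12 zd45) (kd xd25 yd18 zd47) (kd xd25 yd18 zd50) (kd xd21 yd23 zd3) (kd xd20 yd6 zd57) (kd xd21 yd37 zd57) (kd xd25 yd18 zd52) (kd xd12 yd57 zd42) (kd xd24 yd18 zd37) (kd xd10 yd18 zd22) (kd xd8 yd12 zd56) (kd xd8 yd12 zd57) (kd xd11 yd37 zd46) (kd xd8 yd12 zd58) (kd xd25 yd18 zd59) (kd xd8 yd59 zd19) (kd xd19 yd32 zd16) (kd xd8 yd12 zd59) (kd xd8 yd25 zd14) (kd xd15 yd24 zd11) (kd xd20 yd15 zd58) (kd xd25 yd19 zd1) (kd xd8 yd12 zd61) (kd xd15 yd24 zd16)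 (kd xd12 yd57 zd45) (kd xd8 yd13 zd2) (kd xd24 yd50 zd44) (kd xd8 yd13 zd3) (kd xd8 yd14 zd30) (kd xd8 yd13 zd4) (kd xd25 yd19 zd18) (kd xd16 yd7 zd17) (kd xd8 yd36 zd13) (kd xd15 yd56 zd32) (kd xd15 yd56 zd36) (kd xd25 yd19 zd27) (kd xd8 yd13 zd6) (kd xd11 yd54 zd17) (kd xd15 yd1 zd12) (kd xd25 yd19 zd35) (kd xd19 yd3 zd14) (kd xd19 yd19 zd8) (kd xd16 yd41 zd3) (kd xd15 yd27 zd45) (kd xd9 yd40 zd2) (kd xd11 yd54 zd13) (kd xd19 yd47 zd23) (kd xd14 yd30 zd37) (kd xd14 yd38 zd58) (kd xd14 yd53 zd2) (kd xd25 yd19 zd41) (kd xd8 yd13 zd17) (kd xd10 yd59 zd42) (kd xd8 yd13 zd19) (kd xd25 yd19 zd46) (kd xd8 yd13 zd20) (kd xd15 yd2 zd6) (kd xd15 yd28 zd30) (kd xd8 yd13 zd21) (kd xd25 yd19 zd51)) (@D3.rec (fun _ => Pt) (kd xd8 yd39 zd26) (kd xd25 yd19 zd55) (kd xd24 yd50 zd43)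 (kd xd8 yd13 zd22) (kd xd25 yd19 zd60) (kd xd8 yd13 zd37) (kd xd25 yd20 zd3) (kd xd24 yd51 zd8) (kd xd24 yd51 zd7) (kd xd8 yd13 zd24) (kd xd25 yd20 zd10) (kd xd24 yd51 zd47) (kd xd24 yd51 zd46) (kd xd15 yd33 zd6) (kd xd15 yd30 zd59) (kd xd11 yd54 zd15) (kd xd14 yd22 zd53) (kd xd15 yd30 zd16) (kd xd15 yd30 zd17) (kd xd12 yd57 zd43) (kd xd8 yd13 zd33) (kd xd25 yd20 zd24) (kd xd25 yd20 zd27) (kd xd25 yd20 zd30) (kd xd8 yd13 zd35) (kd xd25 yd20 zd35) (kd xd25 yd20 zd36) (kd xd8 yd37 zd30) (kd xd25 yd19 zd61) (kd xd25 yd20 zd42) (kd xd15 yd27 zd59) (kd xd24 yd48 zd46) (kd xd16 yd12 zd52) (kd xd8 yd13 zd38) (kd xd25 yd20 zd51) (kd xd10 yd35 zd44) (kd xd10 yd15 zd42) (kd xd25 yd20 zd57) (kd xd25 yd20 zd60) (kd xd25 yd21 zd0) (kd xd8 yd13 zd40) (kd xd25 yd21 zd4) (kd xd25 yd21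 zd6) (kd xd8 yd13 zd41) (kd xd25 yd21 zd7) (kd xd14 yd23 zd24) (kd xd14 yd23 zd18) (kd xd8 yd26 zd40) (kd xd25 yd20 zd22) (kd xd17 yd32 zd21) (kd xd8 yd14 zd34) (kd xd8 yd13 zd45) (kd xd25 yd21 zd13) (kd xd25 yd21 zd17) (kd xd25 yd21 zd19) (kd xd25 yd21 zd22) (kd xd8 yd13 zd47) (kd xd25 yd21 zd24) (kd xd25 yd21 zd26) (kd xd20 yd55 zd52) (kd xd20 yd55 zd51) (kd xd8 yd13 zd50)) (@D3.rec (fun _ => Pt) (kd xd25 yd21 zd33) (kd xd11 yd52 zd39) (kd xd25 yd21 zd39) (kd xd8 yd13 zd52) (kd xd25 yd21 zd43) (kd xd25 yd21 zd46) (kd xd8 yd13 zd54) (kd xd25 yd21 zd49) (kd xd25 yd21 zd50) (kd xd25 yd19 zd20) (kd xd8 yd13 zd55) (kd xd25 yd21 zd57) (kd xd25 yd19 zd24) (kd xd25 yd21 zd60) (kd xd8 yd13 zd56) (kd xd8 yd13 zd57) (kd xd17 yd34 zd30) (kd xd17 yd34 zd29) (kd xd24 yd18 zd47)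 (kd xd15 yd1 zd7) (kd xd8 yd13 zd59) (kd xd25 yd22 zd13) (kd xd11 yd52 zd44) (kd xd25 yd22 zd17) (kd xd25 yd22 zd21) (kd xd11 yd52 zd34) (kd xd25 yd10 zd24) (kd xd25 yd22 zd30) (kd xd25 yd22 zd33) (kd xd15 yd3 zd5) (kd xd25 yd22 zd38) (kd xd25 yd22 zd40) (kd xd8 yd14 zd3) (kd xd12 yd57 zd50) (kd xd8 yd14 zd4) (kd xd9 yd36 zd37) (kd xd11 yd10 zd31) (kd xd8 yd14 zd5) (kd xd21 yd1 zd13) (kd xd21 yd1 zd14) (kd xd8 yd14 zd6) (kd xd21 yd29 zd47) (kd xd14 yd40 zd12) (kd xd8 yd14 zd8) (kd xd25 yd22 zd49) (kd xd25 yd6 zd59) (kd xd25 yd6 zd61) (kd xd15 yd53 zd59) (kd xd16 yd2 zd25) (kd xd21 yd1 zd3) (kd xd9 yd54 zd29) (kd xd8 yd14 zd13) (kd xd23 yd28 zd0) (kd xd25 yd22 zd61) (kd xd8 yd14 zd15) (kd xd25 yd23 zd6) (kd xd11 yd29 zd29) (kd xd25 yd23 zd8) (kd xd19 yd59 zd61) (kd xd25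 yd23 zd10) (kd xd25 yd23 zd13) (kd xd25 yd23 zd15)) (@D3.rec (fun _ => Pt) (kd xd8 yd14 zd21) (kd xd25 yd23 zd18) (kd xd25 yd23 zd19) (kd xd25 yd23 zd21) (kd xd8 yd14 zd22) (kd xd17 yd41 zd46) (kd xd25 yd23 zd25) (kd xd9 yd34 zd18) (kd xd11 yd21 zd45) (kd xd8 yd14 zd25) (kd xd11 yd28 zd46) (kd xd9 yd32 zd13) (kd xd25 yd19 zd14) (kd xd11 yd7 zd38) (kd xd18 yd43 zd47) (kd xd25 yd23 zd30) (kd xd15 yd28 zd17) (kd xd15 yd28 zd18) (kd xd25 yd23 zd35) (kd xd16 yd31 zd3) (kd xd8 yd14 zd31) (kd xd9 yd1 zd27) (kd xd25 yd23 zd38) (kd xd11 yd26 zd0) (kd xd17 yd50 zd2) (kd xd22 yd16 zd21) (kd xd17 yd34 zd28) (kd xd25 yd23 zd40) (kd xd17 yd34 zd25) (kd xd17 yd34 zd11) (kd xd17 yd34 zd10) (kd xd8 yd14 zd38) (kd xd25 yd23 zd42) (kd xd10 yd6 zd43) (kd xd10 yd6 zd44) (kd xd8 yd14 zd40)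 (kd xd16 yd57 zd30) (kd xd16 yd57 zd29) (kd xd9 yd59 zd13) (kd xd9 yd44 zd28) (kd xd8 yd14 zd45) (kd xd8 yd14 zd47) (kd xd25 yd23 zd49) (kd xd10 yd54 zd42) (kd xd10 yd54 zd41) (kd xd17 yd53 zd41) (kd xd8 yd14 zd61) (kd xd20 yd1 zd8) (kd xd8 yd15 zd0) (kd xd10 yd26 zd6) (kd xd10 yd54 zd3) (kd xd8 yd42 zd37) (kd xd18 yd44 zd18) (kd xd10 yd26 zd8) (kd xd10 yd53 zd34) (kd xd8 yd26 zd55) (kd xd11 yd9 zd27) (kd xd9 yd41 zd0) (kd xd25 yd23 zd56) (kd xd15 yd28 zd14) (kd xd12 yd16 zd6) (kd xd15 yd6 zd44)) (@D3.rec (fun _ => Pt) (kd xd25 yd23 zd60) (kd xd25 yd24 zd2) (kd xd20 yd11 zd56) (kd xd8 yd15 zd8) (kd xd15 yd50 zd50) (kd xd25 yd24 zd7) (kd xd25 yd24 zd8) (kd xd25 yd24 zd11) (kd xd22 yd54 zd40) (kd xd8 yd15 zd11) (kd xd25 yd24 zd13) (kd xd25 yd24 zd16) (kd xd10 yd56 zd42)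 (kd xd10 yd56 zd41) (kd xd8 yd15 zd13) (kd xd17 yd10 zd29) (kd xd25 yd5 zd3) (kd xd25 yd5 zd2) (kd xd10 yd47 zd29) (kd xd22 yd54 zd54) (kd xd22 yd48 zd18) (kd xd25 yd24 zd25) (kd xd8 yd15 zd17) (kd xd24 yd42 zd45) (kd xd15 yd43 zd17) (kd xd15 yd38 zd26) (kd xd8 yd15 zd19) (kd xd10 yd52 zd1) (kd xd25 yd24 zd32) (kd xd25 yd24 zd34) (kd xd12 yd57 zd5) (kd xd24 yd18 zd36) (kd xd15 yd59 zd25) (kd xd25 yd24 zd40) (kd xd25 yd24 zd42) (kd xd25 yd24 zd43) (kd xd8 yd15 zd25) (kd xd23 yd56 zd6) (kd xd12 yd34 zd5) (kd xd15 yd57 zd1) (kd xd14 yd31 zd50) (kd xd23 yd56 zd12) (kd xd24 yd7 zd16) (kd xd24 yd7 zd32) (kd xd25 yd24 zd51) (kd xd23 yd56 zd14) (kd xd24 yd7 zd34) (kd xd24 yd7 zd9) (kd xd22 yd52 zd15) (kd xd8 yd15 zd32) (kd xd25 yd24 zd56) (kd xd10 yd24 zd4) (kd xd20 yd59 zd18)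 (kd xd10 yd24 zd10) (kd xd8 yd35 zd39) (kd xd15 yd32 zd16) (kd xd25 yd25 zd10) (kd xd15 yd38 zd57) (kd xd15 yd34 zd1) (kd xd13 yd32 zd32) (kd xd25 yd25 zd16) (kd xd8 yd15 zd38)) (@D3.rec (fun _ => Pt) (kd xd12 yd46 zd29) (kd xd25 yd25 zd18) (kd xd8 yd30 zd51) (kd xd10 yd35 zd13) (kd xd8 yd53 zd20) (kd xd25 yd25 zd22) (kd xd20 yd13 zd54) (kd xd25 yd25 zd25) (kd xd8 yd15 zd44) (kd xd18 yd36 zd51) (kd xd18 yd52 zd8) (kd xd15 yd51 zd1) (kd xd25 yd25 zd35) (kd xd13 yd44 zd58) (kd xd25 yd25 zd36) (kd xd8 yd15 zd52) (kd xd15 yd31 zd55) (kd xd15 yd50 zd60) (kd xd25 yd25 zd40) (kd xd25 yd25 zd41) (kd xd25 yd24 zd27) (kd xd25 yd24 zd28) (kd xd25 yd25 zd45) (kd xd8 yd15 zd56) (kd xd17 yd22 zd17) (kd xd16 yd3 zd40) (kd xd17 yd34 zd58) (kd xd13 yd32 zd42) (kd xd25 yd25 zd46) (kd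 xd25 yd25 zd51) (kd xd8 yd15 zd61) (kd xd12 yd34 zd1) (kd xd23 yd56 zd1) (kd xd23 yd56 zd4) (kd xd15 yd57 zd60) (kd xd25 yd25 zd55) (kd xd10 yd15 zd6) (kd xd25 yd25 zd57) (kd xd19 yd46 zd40) (kd xd25 yd25 zd59) (kd xd25 yd25 zd60) (kd xd8 yd16 zd5) (kd xd25 yd26 zd3) (kd xd8 yd30 zd37) (kd xd8 yd16 zd7) (kd xd8 yd29 zd43) (kd xd22 yd6 zd41) (kd xd15 yd40 zd59) (kd xd22 yd7 zd31) (kd xd8 yd16 zd8) (kd xd24 yd5 zd42) (kd xd8 yd16 zd10) (kd xd8 yd31 zd1) (kd xd24 yd13 zd45) (kd xd25 yd26 zd11) (kd xd21 yd39 zd49) (kd xd12 yd4 zd12) (kd xd8 yd16 zd11) (kd xd22 yd1 zd56) (kd xd25 yd26 zd19) (kd xd8 yd16 zd12) (kd xd19 yd31 zd32)) (@D3.rec (fun _ => Pt) (kd xd19 yd31 zd33) (kd xd25 yd26 zd30) (kd xd8 yd16 zd15) (kd xd25 yd26 zd35) (kd xd14 yd34 zd34) (kd xd25 yd24 zd18) (kd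 xd15 yd28 zd13) (kd xd15 yd43 zd6) (kd xd10 yd25 zd13) (kd xd25 yd26 zd46) (kd xd25 yd26 zd48) (kd xd8 yd19 zd9) (kd xd18 yd51 zd25) (kd xd25 yd26 zd50) (kd xd8 yd16 zd21) (kd xd18 yd12 zd29) (kd xd21 yd4 zd41) (kd xd10 yd15 zd1) (kd xd10 yd21 zd8) (kd xd18 yd51 zd19) (kd xd25 yd26 zd54) (kd xd8 yd26 zd38) (kd xd15 yd51 zd11) (kd xd15 yd39 zd36) (kd xd15 yd38 zd49) (kd xd15 yd38 zd50) (kd xd25 yd26 zd60) (kd xd8 yd16 zd27) (kd xd21 yd17 zd35) (kd xd25 yd27 zd2) (kd xd25 yd27 zd5) (kd xd25 yd27 zd6) (kd xd8 yd16 zd29) (kd xd25 yd27 zd8) (kd xd25 yd27 zd9) (kd xd15 yd41 zd17) (kd xd15 yd37 zd61) (kd xd15 yd38 zd0) (kd xd25 yd27 zd14) (kd xd8 yd16 zd32) (kd xd13 yd1 zd24) (kd xd25 yd27 zd20) (kd xd8 yd16 zd34) (kd xd25 yd27 zd23) (kd xd25 yd27 zd25) (kd xd19 yd5 zd34)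 (kd xd18 yd12 zd24) (kd xd25 yd26 zd61) (kd xd25 yd27 zd28) (kd xd8 yd16 zd38) (kd xd25 yd27 zd30) (kd xd25 yd27 zd31) (kd xd25 yd27 zd34) (kd xd25 yd13 zd6) (kd xd8 yd16 zd40) (kd xd25 yd27 zd38) (kd xd15 yd22 zd6) (kd xd8 yd55 zd45) (kd xd25 yd27 zd16) (kd xd20 yd29 zd19) (kd xd25 yd27 zd39) (kd xd8 yd16 zd43)) (@D3.rec (fun _ => Pt) (kd xd25 yd27 zd45) (kd xd15 yd31 zd58) (kd xd15 yd58 zd54) (kd xd15 yd58 zd55) (kd xd8 yd16 zd45) (kd xd23 yd13 zd30) (kd xd21 yd0 zd20) (kd xd8 yd18 zd27) (kd xd22 yd21 zd1) (kd xd25 yd27 zd54) (kd xd25 yd27 zd55) (kd xd8 yd16 zd48) (kd xd20 yd43 zd33) (kd xd20 yd43 zd27) (kd xd8 yd16 zd50) (kd xd20 yd43 zd57) (kd xd25 yd28 zd2) (kd xd25 yd28 zd5) (kd xd22 yd48 zd41) (kd xd22 yd48 zd19) (kd xd8 yd16 zd53) (kd xd22 yd59 zd35) (kd xd25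 yd28 zd11) (kd xd25 yd28 zd15) (kd xd25 yd28 zd19) (kd xd8 yd16 zd54) (kd xd25 yd6 zd16) (kd xd16 yd27 zd7) (kd xd25 yd28 zd23) (kd xd25 yd28 zd25) (kd xd8 yd16 zd55) (kd xd16 yd29 zd4) (kd xd8 yd16 zd56) (kd xd25 yd26 zd56) (kd xd25 yd26 zd57) (kd xd25 yd28 zd37) (kd xd15 yd57 zd56) (kd xd8 yd42 zd34) (kd xd25 yd28 zd41) (kd xd10 yd50 zd3) (kd xd20 yd58 zd61) (kd xd25 yd28 zd44) (kd xd15 yd58 zd1) (kd xd17 yd40 zd11) (kd xd17 yd39 zd11) (kd xd17 yd40 zd23) (kd xd25 yd28 zd51) (kd xd8 yd17 zd2) (kd xd23 yd44 zd18) (kd xd25 yd1 zd22) (kd xd15 yd14 zd56) (kd xd8 yd17 zd4) (kd xd23 yd44 zd14) (kd xd8 yd40 zd51) (kd xd9 yd34 zd44) (kd xd17 yd43 zd22) (kd xd25 yd29 zd0) (kd xd16 yd18 zd58) (kd xd25 yd29 zd2) (kd xd25 yd29 zd6) (kd xd25 yd5 zd32) (kd xd25 yd29 zd8)) (@D3.rec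 (fun _ => Pt) (kd xd8 yd17 zd13) (kd xd25 yd29 zd9) (kd xd10 yd36 zd49) (kd xd8 yd17 zd14) (kd xd18 yd52 zd29) (kd xd25 yd5 zd43) (kd xd25 yd5 zd44) (kd xd20 yd29 zd43) (kd xd8 yd17 zd17) (kd xd17 yd21 zd39) (kd xd12 yd33 zd50) (kd xd12 yd4 zd48) (kd xd17 yd19 zd17) (kd xd19 yd25 zd42) (kd xd17 yd21 zd33) (kd xd17 yd21 zd34) (kd xd8 yd19 zd49) (kd xd8 yd17 zd23) (kd xd25 yd29 zd21) (kd xd25 yd29 zd24) (kd xd25 yd29 zd26) (kd xd8 yd17 zd26) (kd xd9 yd24 zd22) (kd xd25 yd29 zd28) (kd xd25 yd29 zd30) (kd xd25 yd29 zd31) (kd xd8 yd17 zd29) (kd xd10 yd50 zd54) (kd xd25 yd29 zd38) (kd xd25 yd29 zd42) (kd xd8 yd17 zd32) (kd xd25 yd29 zd46) (kd xd20 yd29 zd40) (kd xd25 yd29 zd52) (kd xd8 yd17 zd33) (kd xd25 yd29 zd56) (kd xd8 yd17 zd34) (kd xd25 yd29 zd61) (kd xd8 yd18 zd40)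 (kd xd8 yd18 zd41) (kd xd15 yd59 zd40) (kd xd25 yd30 zd8) (kd xd25 yd30 zd11) (kd xd25 yd30 zd12) (kd xd8 yd17 zd36) (kd xd25 yd30 zd14) (kd xd8 yd18 zd37) (kd xd25 yd7 zd26) (kd xd8 yd18 zd39) (kd xd15 yd58 zd51) (kd xd25 yd30 zd17) (kd xd12 yd21 zd6) (kd xd8 yd17 zd39) (kd xd25 yd30 zd22) (kd xd25 yd30 zd24) (kd xd8 yd17 zd40) (kd xd25 yd30 zd29) (kd xd8 yd17 zd41) (kd xd25 yd30 zd33) (kd xd15 yd57 zd24) (kd xd15 yd57 zd25) (kd xd25 yd30 zd42)) (@D3.rec (fun _ => Pt) (kd xd8 yd17 zd43) (kd xd25 yd30 zd46) (kd xd25 yd30 zd47) (kd xd8 yd17 zd44) (kd xd25 yd30 zd48) (kd xd15 yd39 zd8) (kd xd8 yd17 zd46) (kd xd20 yd56 zd15) (kd xd19 yd41 zd2) (kd xd10 yd20 zd41) (kd xd17 yd25 zd61) (kd xd17 yd20 zd25) (kd xd24 yd0 zd46) (kd xd8 yd17 zd49) (kd xd24 yd38 zd52) (kd xd22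 yd38 zd56) (kd xd8 yd17 zd51) (kd xd25 yd30 zd58) (kd xd22 yd36 zd57) (kd xd11 yd46 zd8) (kd xd17 yd23 zd27) (kd xd18 yd44 zd34) (kd xd25 yd16 zd44) (kd xd25 yd31 zd0) (kd xd15 yd41 zd52) (kd xd8 yd55 zd25) (kd xd25 yd31 zd2) (kd xd16 yd7 zd25) (kd xd15 yd20 zd4) (kd xd15 yd18 zd29) (kd xd16 yd45 zd53) (kd xd15 yd19 zd39) (kd xd18 yd12 zd31) (kd xd8 yd17 zd61) (kd xd20 yd51 zd10) (kd xd25 yd31 zd10) (kd xd21 yd51 zd46) (kd xd8 yd18 zd1) (kd xd25 yd31 zd14) (kd xd8 yd18 zd2) (kd xd10 yd31 zd13) (kd xd10 yd32 zd19) (kd xd25 yd31 zd17) (kd xd19 yd19 zd47) (kd xd19 yd19 zd48) (kd xd25 yd5 zd38) (kd xd25 yd12 zd2) (kd xd8 yd18 zd8) (kd xd25 yd31 zd23) (kd xd11 yd54 zd59) (kd xd18 yd52 zd37) (kd xd19 yd45 zd56) (kd xd25 yd27 zd35) (kd xd8 yd18 zd12) (kd xd15 yd59 zd57) (kd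 xd22 yd57 zd31) (kd xd10 yd38 zd50) (kd xd8 yd18 zd14) (kd xd25 yd29 zd3) (kd xd15 yd46 zd41) (kd xd10 yd38 zd49) (kd xd8 yd18 zd15)) (@D3.rec (fun _ => Pt) (kd xd25 yd31 zd37) (kd xd8 yd18 zd16) (kd xd25 yd31 zd39) (kd xd8 yd19 zd4) (kd xd8 yd19 zd5) (kd xd18 yd13 zd43) (kd xd18 yd46 zd32) (kd xd25 yd31 zd47) (kd xd20 yd50 zd24) (kd xd8 yd18 zd18) (kd xd25 yd31 zd49) (kd xd25 yd24 zd36) (kd xd8 yd18 zd19) (kd xd25 yd31 zd51) (kd xd25 yd31 zd53) (kd xd8 yd18 zd20) (kd xd15 yd38 zd19) (kd xd22 yd56 zd28) (kd xd8 yd18 zd21) (kd xd16 yd0 zd2) (kd xd25 yd27 zd48) (kd xd25 yd32 zd6) (kd xd8 yd18 zd23) (kd xd25 yd32 zd10) (kd xd8 yd18 zd24) (kd xd25 yd32 zd15) (kd xd8 yd18 zd25) (kd xd25 yd32 zd18) (kd xd25 yd32 zd20) (kd xd25 yd32 zd22) (kd xd20 yd44 zd35) (kd xd25 yd32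 zd27) (kd xd8 yd18 zd28) (kd xd25 yd32 zd32) (kd xd25 yd32 zd34) (kd xd25 yd32 zd35) (kd xd25 yd32 zd36) (kd xd8 yd18 zd30) (kd xd25 yd32 zd31) (kd xd25 yd28 zd52) (kd xd25 yd28 zd53) (kd xd25 yd32 zd42) (kd xd8 yd18 zd32) (kd xd21 yd22 zd59) (kd xd17 yd36 zd26) (kd xd14 yd57 zd37) (kd xd8 yd18 zd34) (kd xd8 yd18 zd35) (kd xd22 yd55 zd50) (kd xd25 yd32 zd51) (kd xd22 yd52 zd42) (kd xd25 yd32 zd54) (kd xd25 yd32 zd57) (kd xd25 yd30 zd15) (kd xd23 yd1 zd17) (kd xd25 yd32 zd59) (kd xd10 yd45 zd5) (kd xd25 yd30 zd1) (kd xd25 yd32 zd61) (kd xd8 yd18 zd42) (kd xd25 yd33 zd3) (kd xd15 yd33 zd36)) (@D3.rec (fun _ => Pt) (kd xd15 yd33 zd37) (kd xd15 yd58 zd30) (kd xd25 yd33 zd11) (kd xd25 yd13 zd15) (kd xd15 yd21 zd53) (kd xd8 yd18 zd44) (kd xd24 yd37 zd52) (kd xd10 yd50 zd21)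 (kd xd10 yd50 zd25) (kd xd25 yd33 zd21) (kd xd25 yd33 zd24) (kd xd8 yd18 zd47) (kd xd25 yd33 zd28) (kd xd25 yd12 zd49) (kd xd8 yd18 zd48) (kd xd25 yd33 zd34) (kd xd8 yd18 zd49) (kd xd11 yd55 zd34) (kd xd8 yd30 zd22) (kd xd15 yd37 zd16) (kd xd25 yd33 zd46) (kd xd8 yd18 zd51) (kd xd8 yd28 zd32) (kd xd8 yd18 zd53) (kd xd15 yd18 zd49) (kd xd8 yd18 zd55) (kd xd15 yd31 zd25) (kd xd24 yd20 zd23) (kd xd8 yd18 zd57) (kd xd10 yd32 zd60) (kd xd15 yd24 zd47) (kd xd17 yd50 zd29) (kd xd9 yd40 zd44) (kd xd9 yd42 zd14) (kd xd18 yd37 zd25) (kd xd18 yd37 zd24) (kd xd8 yd18 zd61) (kd xd21 yd7 zd47) (kd xd15 yd41 zd51) (kd xd8 yd33 zd15) (kd xd25 yd34 zd0) (kd xd8 yd19 zd3) (kd xd25 yd31 zd41) (kd xd15 yd24 zd41) (kd xd25 yd25 zd4) (kd xd16 yd51 zd15) (kd xd25 yd34 zd5) (kd xd8 yd19 zd6)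 (kd xd22 yd59 zd2) (kd xd15 yd33 zd24) (kd xd15 yd33 zd25) (kd xd18 yd9 zd10) (kd xd22 yd59 zd13) (kd xd22 yd16 zd31) (kd xd22 yd48 zd49) (kd xd25 yd34 zd17) (kd xd24 yd8 zd3) (kd xd15 yd31 zd57) (kd xd25 yd34 zd19) (kd xd14 yd13 zd38) (kd xd8 yd19 zd10) (kd xd25 yd27 zd21)) (@D3.rec (fun _ => Pt) (kd xd8 yd19 zd11) (kd xd8 yd30 zd35) (kd xd8 yd30 zd34) (kd xd8 yd19 zd14) (kd xd10 yd51 zd2) (kd xd8 yd28 zd49) (kd xd25 yd34 zd27) (kd xd8 yd19 zd16) (kd xd15 yd36 zd5) (kd xd12 yd33 zd12) (kd xd12 yd33 zd13) (kd xd14 yd56 zd48) (kd xd13 yd26 zd34) (kd xd18 yd2 zd6) (kd xd25 yd34 zd33) (kd xd8 yd19 zd20) (kd xd18 yd1 zd42) (kd xd25 yd34 zd37) (kd xd25 yd34 zd38) (kd xd8 yd19 zd21) (kd xd23 yd0 zd15) (kd xd8 yd19 zd22) (kd xd21 yd58 zd7) (kd xd25 yd34 zd43) (kd xd24 yd24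 zd14) (kd xd8 yd19 zd23) (kd xd23 yd59 zd19) (kd xd19 yd35 zd4) (kd xd19 yd35 zd5) (kd xd25 yd34 zd49) (kd xd25 yd34 zd51) (kd xd25 yd34 zd55) (kd xd8 yd19 zd25) (kd xd25 yd34 zd59) (kd xd25 yd34 zd60) (kd xd10 yd51 zd37) (kd xd15 yd33 zd23) (kd xd8 yd33 zd22) (kd xd15 yd20 zd12) (kd xd15 yd20 zd9) (kd xd8 yd19 zd29) (kd xd20 yd43 zd25) (kd xd8 yd30 zd13) (kd xd10 yd51 zd61) (kd xd15 yd18 zd36) (kd xd8 yd19 zd31) (kd xd25 yd35 zd6) (kd xd25 yd35 zd7) (kd xd8 yd19 zd32) (kd xd25 yd35 zd8) (kd xd25 yd35 zd9) (kd xd8 yd19 zd33) (kd xd14 yd51 zd42) (kd xd8 yd19 zd34) (kd xd22 yd54 zd59) (kd xd16 yd18 zd59) (kd xd16 yd18 zd60) (kd xd15 yd51 zd23) (kd xd20 yd44 zd2) (kd xd25 yd35 zd23) (kd xd25 yd35 zd25) (kd xd8 yd19 zd36)) (@D3.rec (fun _ => Pt) (kd xd20 yd44 zd3) (kd xd25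 yd35 zd29) (kd xd24 yd59 zd33) (kd xd8 yd19 zd37) (kd xd18 yd52 zd55) (kd xd8 yd30 zd39) (kd xd8 yd30 zd38) (kd xd13 yd11 zd41) (kd xd8 yd19 zd39) (kd xd8 yd19 zd40) (kd xd25 yd35 zd33) (kd xd8 yd19 zd41) (kd xd25 yd35 zd37) (kd xd25 yd35 zd38) (kd xd25 yd35 zd39) (kd xd8 yd19 zd42) (kd xd21 yd58 zd10) (kd xd12 yd52 zd24) (kd xd25 yd35 zd47) (kd xd25 yd6 zd11) (kd xd15 yd21 zd59) (kd xd8 yd19 zd44) (kd xd25 yd35 zd52) (kd xd25 yd35 zd53) (kd xd25 yd35 zd54) (kd xd8 yd19 zd45) (kd xd25 yd35 zd59) (kd xd16 yd29 zd6) (kd xd12 yd11 zd44) (kd xd8 yd32 zd18) (kd xd12 yd57 zd34) (kd xd17 yd27 zd51) (kd xd17 yd51 zd12) (kd xd17 yd27 zd52) (kd xd25 yd29 zd18) (kd xd25 yd36 zd9) (kd xd8 yd57 zd53) (kd xd24 yd8 zd8) (kd xd22 yd7 zd24) (kd xd22 yd7 zd28) (kd xd25 yd6 zd53) (kd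 xd15 yd16 zd26) (kd xd15 yd16 zd25) (kd xd25 yd4 zd5) (kd xd24 yd18 zd54) (kd xd25 yd36 zd18) (kd xd19 yd45 zd49) (kd xd19 yd45 zd48) (kd xd8 yd19 zd55) (kd xd25 yd36 zd23) (kd xd10 yd50 zd32) (kd xd15 yd51 zd34) (kd xd25 yd36 zd25) (kd xd10 yd23 zd37) (kd xd8 yd19 zd57) (kd xd20 yd59 zd0) (kd xd10 yd50 zd50) (kd xd10 yd50 zd51) (kd xd10 yd49 zd57) (kd xd15 yd32 zd47) (kd xd8 yd19 zd59) (kd xd23 yd5 zd29)) (@D3.rec (fun _ => Pt) (kd xd8 yd19 zd60) (kd xd25 yd36 zd33) (kd xd19 yd24 zd34) (kd xd8 yd19 zd61) (kd xd25 yd36 zd35) (kd xd14 yd49 zd20) (kd xd8 yd20 zd1) (kd xd25 yd36 zd38) (kd xd25 yd36 zd40) (kd xd8 yd20 zd2) (kd xd10 yd50 zd58) (kd xd25 yd36 zd44) (kd xd8 yd20 zd3) (kd xd25 yd36 zd48) (kd xd11 yd56 zd51) (kd xd8 yd20 zd5) (kd xd16 yd42 zd51) (kd xd15 yd33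 zd35) (kd xd19 yd26 zd47) (kd xd12 yd44 zd22) (kd xd8 yd20 zd8) (kd xd10 yd44 zd9) (kd xd25 yd36 zd57) (kd xd8 yd20 zd9) (kd xd22 yd3 zd32) (kd xd25 yd36 zd60) (kd xd25 yd36 zd61) (kd xd24 yd34 zd12) (kd xd23 yd13 zd27) (kd xd25 yd37 zd0) (kd xd25 yd37 zd2) (kd xd8 yd20 zd13) (kd xd25 yd37 zd6) (kd xd8 yd20 zd14) (kd xd10 yd30 zd35) (kd xd25 yd37 zd9) (kd xd24 yd27 zd46) (kd xd8 yd20 zd15) (kd xd23 yd39 zd13) (kd xd25 yd37 zd13) (kd xd15 yd46 zd5) (kd xd15 yd46 zd4) (kd xd8 yd20 zd17) (kd xd23 yd39 zd8) (kd xd25 yd37 zd19) (kd xd25 yd37 zd20) (kd xd15 yd47 zd27) (kd xd25 yd37 zd23) (kd xd8 yd20 zd21) (kd xd25 yd37 zd26) (kd xd25 yd37 zd27) (kd xd15 yd38 zd38) (kd xd15 yd36 zd24) (kd xd25 yd11 zd1) (kd xd25 yd11 zd2) (kd xd24 yd51 zd23) (kd xd25 yd37 zd34) (kd xd8 yd20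 zd26) (kd xd25 yd37 zd38) (kd xd25 yd37 zd39) (kd xd10 yd35 zd40) (kd xd8 yd20 zd29)) (@D3.rec (fun _ => Pt) (kd xd23 yd13 zd28) (kd xd25 yd37 zd40) (kd xd8 yd20 zd30) (kd xd25 yd37 zd42) (kd xd25 yd37 zd46) (kd xd16 yd50 zd38) (kd xd16 yd50 zd37) (kd xd8 yd20 zd32) (kd xd25 yd37 zd52) (kd xd16 yd51 zd9) (kd xd8 yd20 zd33) (kd xd8 yd32 zd44) (kd xd19 yd6 zd4) (kd xd19 yd6 zd5) (kd xd25 yd10 zd39) (kd xd8 yd20 zd35) (kd xd25 yd37 zd59) (kd xd25 yd37 zd61) (kd xd25 yd38 zd0) (kd xd8 yd20 zd37) (kd xd25 yd38 zd3) (kd xd11 yd51 zd10) (kd xd19 yd48 zd2) (kd xd22 yd4 zd41) (kd xd8 yd20 zd40) (kd xd25 yd38 zd11) (kd xd25 yd38 zd14) (kd xd8 yd20 zd42) (kd xd25 yd38 zd18) (kd xd25 yd38 zd20) (kd xd25 yd38 zd22) (kd xd25 yd38 zd24) (kd xd8 yd20 zd43) (kd xd25 yd38 zd29) (kd xd25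 yd38 zd32) (kd xd8 yd20 zd45) (kd xd18 yd17 zd61) (kd xd21 yd45 zd24) (kd xd25 yd38 zd38) (kd xd8 yd20 zd47) (kd xd8 yd22 zd2) (kd xd21 yd19 zd26) (kd xd8 yd21 zd61) (kd xd25 yd38 zd41) (kd xd8 yd22 zd1) (kd xd16 yd3 zd17) (kd xd25 yd38 zd45) (kd xd25 yd38 zd49) (kd xd8 yd20 zd53) (kd xd25 yd38 zd54) (kd xd25 yd38 zd56) (kd xd17 yd45 zd45) (kd xd8 yd20 zd54) (kd xd25 yd38 zd60) (kd xd10 yd10 zd13) (kd xd8 yd20 zd55) (kd xd25 yd39 zd3) (kd xd8 yd22 zd47) (kd xd8 yd22 zd48) (kd xd25 yd39 zd13) (kd xd8 yd20 zd57) (kd xd23 yd29 zd9)) (@D3.rec (fun _ => Pt) (kd xd24 yd42 zd32) (kd xd8 yd20 zd59) (kd xd25 yd39 zd17) (kd xd8 yd20 zd60) (kd xd25 yd39 zd21) (kd xd25 yd25 zd5) (kd xd15 yd33 zd7) (kd xd9 yd15 zd53) (kd xd17 yd40 zd39) (kd xd9 yd36 zd10) (kd xd8 yd21 zd5) (kd xd11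 yd11 zd4) (kd xd19 yd48 zd28) (kd xd16 yd41 zd49) (kd xd8 yd21 zd7) (kd xd25 yd39 zd29) (kd xd8 yd21 zd8) (kd xd15 yd31 zd24) (kd xd8 yd21 zd10) (kd xd17 yd55 zd39) (kd xd17 yd55 zd38) (kd xd20 yd6 zd39) (kd xd8 yd21 zd12) (kd xd25 yd39 zd36) (kd xd23 yd43 zd6) (kd xd8 yd21 zd14) (kd xd8 yd21 zd17) (kd xd11 yd59 zd6) (kd xd25 yd39 zd43) (kd xd17 yd56 zd31) (kd xd8 yd21 zd18) (kd xd13 yd8 zd48) (kd xd19 yd49 zd58) (kd xd19 yd50 zd33) (kd xd15 yd3 zd42) (kd xd25 yd39 zd47) (kd xd16 yd3 zd3) (kd xd8 yd21 zd23) (kd xd15 yd45 zd9) (kd xd13 yd52 zd46) (kd xd8 yd21 zd26) (kd xd8 yd22 zd40) (kd xd8 yd22 zd36) (kd xd16 yd4 zd44) (kd xd25 yd39 zd54) (kd xd8 yd35 zd60) (kd xd18 yd34 zd56) (kd xd25 yd39 zd58) (kd xd25 yd39 zd60) (kd xd8 yd21 zd31) (kd xd25 yd40 zd2) (kd xd25 yd40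 zd5) (kd xd8 yd21 zd32) (kd xd25 yd40 zd10) (kd xd25 yd40 zd14) (kd xd25 yd40 zd18) (kd xd12 yd35 zd42) (kd xd23 yd41 zd40) (kd xd8 yd21 zd35) (kd xd25 yd40 zd22) (kd xd8 yd21 zd36) (kd xd24 yd44 zd27)) (@D3.rec (fun _ => Pt) (kd xd23 yd12 zd21) (kd xd8 yd21 zd37) (kd xd25 yd40 zd26) (kd xd25 yd40 zd29) (kd xd25 yd40 zd32) (kd xd8 yd21 zd38) (kd xd19 yd9 zd5) (kd xd10 yd41 zd44) (kd xd10 yd41 zd43) (kd xd18 yd46 zd25) (kd xd9 yd45 zd60) (kd xd25 yd34 zd23) (kd xd24 yd9 zd45) (kd xd8 yd21 zd43) (kd xd16 yd2 zd22) (kd xd21 yd9 zd10) (kd xd20 yd9 zd50) (kd xd14 yd20 zd13) (kd xd20 yd9 zd8) (kd xd19 yd27 zd23) (kd xd8 yd21 zd49) (kd xd19 yd26 zd41) (kd xd9 yd4 zd47) (kd xd25 yd40 zd45) (kd xd12 yd55 zd30) (kd xd25 yd40 zd47) (kd xd24 yd38 zd7) (kd xd24 yd38 zd6) (kd xd25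 yd40 zd49) (kd xd8 yd21 zd55) (kd xd23 yd23 zd40) (kd xd25 yd40 zd53) (kd xd25 yd40 zd55) (kd xd15 yd45 zd0) (kd xd8 yd21 zd57) (kd xd25 yd40 zd58) (kd xd25 yd40 zd60) (kd xd25 yd41 zd0) (kd xd12 yd54 zd56) (kd xd25 yd41 zd5) (kd xd19 yd47 zd31) (kd xd25 yd41 zd10) (kd xd8 yd22 zd0) (kd xd25 yd41 zd14) (kd xd16 yd41 zd34) (kd xd9 yd51 zd31) (kd xd25 yd41 zd16) (kd xd14 yd38 zd45) (kd xd8 yd22 zd4) (kd xd8 yd33 zd55) (kd xd8 yd33 zd56) (kd xd14 yd43 zd56) (kd xd25 yd41 zd23) (kd xd8 yd22 zd6) (kd xd8 yd33 zd51) (kd xd25 yd41 zd29) (kd xd8 yd33 zd53) (kd xd19 yd47 zd40) (kd xd25 yd41 zd35) (kd xd25 yd41 zd38) (kd xd8 yd22 zd9) (kd xd25 yd41 zd42)) (@D3.rec (fun _ => Pt) (kd xd15 yd44 zd33) (kd xd25 yd41 zd45) (kd xd8 yd22 zd10) (kd xd25 yd37 zd17) (kd xd25 yd41 zd47)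 (kd xd19 yd23 zd22) (kd xd8 yd22 zd11) (kd xd21 yd49 zd20) (kd xd8 yd33 zd2) (kd xd15 yd43 zd38) (kd xd15 yd53 zd5) (kd xd8 yd22 zd13) (kd xd8 yd22 zd14) (kd xd25 yd41 zd57) (kd xd14 yd54 zd54) (kd xd8 yd22 zd15) (kd xd22 yd43 zd49) (kd xd25 yd41 zd58) (kd xd25 yd41 zd60) (kd xd8 yd22 zd18) (kd xd25 yd42 zd2) (kd xd25 yd42 zd4) (kd xd19 yd41 zd16) (kd xd8 yd22 zd20) (kd xd24 yd27 zd41) (kd xd25 yd42 zd6) (kd xd17 yd25 zd36) (kd xd24 yd0 zd9) (kd xd9 yd22 zd49) (kd xd20 yd5 zd27) (kd xd11 yd50 zd36) (kd xd25 yd42 zd11) (kd xd8 yd22 zd29) (kd xd10 yd4 zd4) (kd xd23 yd26 zd25) (kd xd23 yd26 zd31) (kd xd23 yd27 zd60) (kd xd23 yd27 zd58) (kd xd25 yd37 zd16) (kd xd8 yd22 zd33) (kd xd25 yd42 zd18) (kd xd25 yd42 zd19) (kd xd14 yd3 zd1) (kd xd23 yd23 zd10) (kd xd24 yd52 zd52)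 (kd xd19 yd49 zd23) (kd xd19 yd50 zd24) (kd xd19 yd42 zd36) (kd xd25 yd42 zd28) (kd xd8 yd22 zd38) (kd xd24 yd22 zd43) (kd xd9 yd45 zd29) (kd xd25 yd42 zd30) (kd xd8 yd33 zd5) (kd xd14 yd22 zd3) (kd xd21 yd19 zd18) (kd xd8 yd33 zd1) (kd xd9 yd36 zd34) (kd xd25 yd42 zd34) (kd xd25 yd42 zd38) (kd xd25 yd42 zd39) (kd xd8 yd22 zd46)) (@D3.rec (fun _ => Pt) (kd xd25 yd42 zd42) (kd xd25 yd39 zd4) (kd xd21 yd49 zd19) (kd xd25 yd39 zd7) (kd xd15 yd41 zd41) (kd xd15 yd41 zd40) (kd xd25 yd42 zd54) (kd xd8 yd22 zd50) (kd xd25 yd42 zd56) (kd xd8 yd22 zd51) (kd xd25 yd42 zd58) (kd xd25 yd42 zd59) (kd xd8 yd22 zd54) (kd xd23 yd42 zd13) (kd xd19 yd33 zd7) (kd xd8 yd22 zd56) (kd xd25 yd42 zd61) (kd xd8 yd22 zd58) (kd xd16 yd6 zd44) (kd xd21 yd59 zd54) (kd xd25 yd43 zd3) (kd xd17 yd33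 zd17) (kd xd20 yd53 zd32) (kd xd17 yd34 zd42) (kd xd10 yd11 zd27) (kd xd25 yd39 zd27) (kd xd25 yd25 zd3) (kd xd8 yd23 zd8) (kd xd25 yd43 zd8) (kd xd25 yd43 zd9) (kd xd8 yd23 zd13) (kd xd25 yd43 zd12) (kd xd8 yd23 zd15) (kd xd24 yd58 zd0) (kd xd8 yd23 zd16) (kd xd25 yd43 zd14) (kd xd25 yd43 zd15) (kd xd8 yd23 zd17) (kd xd21 yd35 zd57) (kd xd25 yd43 zd17) (kd xd16 yd3 zd53) (kd xd15 yd36 zd59) (kd xd22 yd7 zd26) (kd xd25 yd43 zd24) (kd xd8 yd23 zd20) (kd xd8 yd23 zd19) (kd xd16 yd1 zd11) (kd xd14 yd11 zd48) (kd xd25 yd43 zd30) (kd xd8 yd23 zd22) (kd xd25 yd43 zd33) (kd xd25 yd22 zd47) (kd xd8 yd23 zd28) (kd xd8 yd23 zd29) (kd xd24 yd14 zd13) (kd xd22 yd7 zd27) (kd xd15 yd15 zd59) (kd xd8 yd23 zd31) (kd xd25 yd43 zd36) (kd xd8 yd23 zd32) (kd xd25 yd43 zd38) (kd xd8 yd23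 zd33)) (@D3.rec (fun _ => Pt) (kd xd9 yd33 zd28) (kd xd25 yd33 zd8) (kd xd8 yd23 zd35) (kd xd25 yd43 zd46) (kd xd8 yd23 zd37) (kd xd25 yd43 zd50) (kd xd8 yd23 zd39) (kd xd25 yd43 zd53) (kd xd8 yd23 zd40) (kd xd10 yd52 zd2) (kd xd10 yd52 zd3) (kd xd25 yd35 zd32) (kd xd25 yd43 zd60) (kd xd24 yd57 zd54) (kd xd24 yd57 zd53) (kd xd8 yd23 zd42) (kd xd25 yd44 zd0) (kd xd25 yd44 zd2) (kd xd25 yd44 zd3) (kd xd8 yd23 zd45) (kd xd9 yd18 zd60) (kd xd25 yd44 zd5) (kd xd8 yd23 zd46) (kd xd12 yd28 zd1) (kd xd25 yd44 zd6) (kd xd8 yd23 zd48) (kd xd25 yd44 zd11) (kd xd15 yd41 zd46) (kd xd25 yd44 zd13) (kd xd8 yd38 zd39) (kd xd25 yd44 zd16) (kd xd25 yd16 zd26) (kd xd15 yd50 zd34) (kd xd23 yd20 zd28) (kd xd25 yd44 zd17) (kd xd25 yd44 zd18) (kd xd15 yd2 zd58) (kd xd25 yd44 zd20) (kd xd25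 yd44 zd22) (kd xd8 yd23 zd61) (kd xd19 yd27 zd54) (kd xd21 yd30 zd16) (kd xd18 yd24 zd37) (kd xd18 yd23 zd61) (kd xd8 yd24 zd1) (kd xd17 yd3 zd50) (kd xd8 yd24 zd2) (kd xd15 yd24 zd23) (kd xd11 yd51 zd35) (kd xd22 yd3 zd31) (kd xd8 yd24 zd3) (kd xd9 yd18 zd48) (kd xd12 yd24 zd41) (kd xd16 yd7 zd22) (kd xd19 yd19 zd0) (kd xd9 yd41 zd52) (kd xd19 yd33 zd0) (kd xd25 yd44 zd24) (kd xd24 yd51 zd55) (kd xd8 yd24 zd10) (kd xd19 yd11 zd9) (kd xd19 yd11 zd7)) (@D3.rec (fun _ => Pt) (kd xd25 yd44 zd41) (kd xd25 yd44 zd42) (kd xd8 yd24 zd12) (kd xd25 yd44 zd45) (kd xd21 yd23 zd54) (kd xd8 yd24 zd13) (kd xd8 yd35 zd59) (kd xd21 yd23 zd43) (kd xd15 yd59 zd55) (kd xd8 yd24 zd18) (kd xd25 yd44 zd53) (kd xd25 yd44 zd56) (kd xd8 yd24 zd20) (kd xd14 yd12 zd4) (kd xd18 yd15 zd12) (kd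 xd25 yd44 zd58) (kd xd25 yd45 zd0) (kd xd21 yd48 zd35) (kd xd8 yd24 zd23) (kd xd24 yd20 zd38) (kd xd8 yd24 zd25) (kd xd12 yd18 zd21) (kd xd25 yd45 zd3) (kd xd25 yd45 zd4) (kd xd17 yd51 zd57) (kd xd8 yd24 zd26) (kd xd9 yd48 zd34) (kd xd23 yd47 zd36) (kd xd25 yd45 zd5) (kd xd8 yd24 zd30) (kd xd8 yd40 zd9) (kd xd12 yd41 zd16) (kd xd8 yd39 zd49) (kd xd16 yd7 zd46) (kd xd8 yd52 zd54) (kd xd21 yd1 zd38) (kd xd25 yd45 zd14) (kd xd25 yd44 zd27) (kd xd9 yd18 zd49) (kd xd12 yd20 zd37) (kd xd12 yd20 zd40) (kd xd18 yd24 zd24) (kd xd8 yd24 zd38) (kd xd21 yd34 zd44) (kd xd22 yd8 zd60) (kd xd8 yd24 zd39) (kd xd18 yd32 zd40) (kd xd16 yd7 zd59) (kd xd23 yd13 zd32) (kd xd16 yd7 zd60) (kd xd18 yd24 zd34) (kd xd18 yd32 zd38) (kd xd9 yd39 zd23) (kd xd17 yd40 zd48) (kd xd25 yd45 zd20) (kd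 xd8 yd24 zd46) (kd xd22 yd11 zd17) (kd xd15 yd6 zd49) (kd xd18 yd8 zd13) (kd xd18 yd8 zd12) (kd xd8 yd24 zd48) (kd xd17 yd43 zd56)) (@D3.rec (fun _ => Pt) (kd xd12 yd50 zd10) (kd xd8 yd24 zd49) (kd xd25 yd45 zd29) (kd xd25 yd15 zd38) (kd xd8 yd24 zd50) (kd xd9 yd38 zd23) (kd xd22 yd11 zd7) (kd xd8 yd24 zd59) (kd xd17 yd42 zd50) (kd xd25 yd45 zd32) (kd xd19 yd2 zd14) (kd xd8 yd25 zd7) (kd xd12 yd27 zd51) (kd xd25 yd45 zd34) (kd xd8 yd25 zd9) (kd xd22 yd10 zd0) (kd xd21 yd18 zd27) (kd xd22 yd3 zd45) (kd xd17 yd48 zd55) (kd xd21 yd28 zd57) (kd xd25 yd45 zd38) (kd xd10 yd58 zd28) (kd xd19 yd32 zd13) (kd xd24 yd57 zd34) (kd xd25 yd45 zd41) (kd xd20 yd12 zd31) (kd xd8 yd25 zd17) (kd xd24 yd1 zd36) (kd xd9 yd41 zd48) (kd xd21 yd44 zd45) (kd xd25 yd45 zd33) (kd xd16 yd48 zd45)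 (kd xd9 yd11 zd54) (kd xd11 yd49 zd18) (kd xd9 yd11 zd33) (kd xd8 yd25 zd22) (kd xd20 yd12 zd40) (kd xd11 yd17 zd56) (kd xd8 yd25 zd24) (kd xd12 yd34 zd45) (kd xd20 yd21 zd57) (kd xd8 yd25 zd26) (kd xd21 yd8 zd12) (kd xd8 yd25 zd29) (kd xd17 yd45 zd1) (kd xd20 yd36 zd23) (kd xd8 yd59 zd21) (kd xd8 yd25 zd32) (kd xd8 yd32 zd45) (kd xd18 yd42 zd28) (kd xd9 yd15 zd6) (kd xd9 yd7 zd40) (kd xd9 yd17 zd54) (kd xd14 yd2 zd24) (kd xd12 yd35 zd13) (kd xd8 yd25 zd41) (kd xd25 yd45 zd59) (kd xd17 yd59 zd41) (kd xd8 yd25 zd45) (kd xd10 yd20 zd34) (kd xd19 yd12 zd3) (kd xd25 yd46 zd3)) (@D3.rec (fun _ => Pt) (kd xd8 yd25 zd46) (kd xd17 yd35 zd51) (kd xd19 yd36 zd15) (kd xd25 yd46 zd11) (kd xd25 yd46 zd12) (kd xd23 yd14 zd59) (kd xd8 yd25 zd53) (kd xd23 yd25 zd15) (kd xd16 yd21 zd50)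 (kd xd8 yd25 zd55) (kd xd20 yd29 zd27) (kd xd8 yd48 zd53) (kd xd8 yd50 zd21) (kd xd25 yd46 zd22) (kd xd8 yd49 zd6) (kd xd21 yd54 zd37) (kd xd11 yd36 zd17) (kd xd25 yd46 zd27) (kd xd25 yd45 zd56) (kd xd25 yd45 zd57) (kd xd13 yd6 zd31) (kd xd8 yd25 zd61) (kd xd25 yd46 zd34) (kd xd13 yd6 zd25) (kd xd9 yd1 zd46) (kd xd16 yd30 zd25) (kd xd9 yd14 zd51) (kd xd20 yd20 zd56) (kd xd18 yd26 zd45) (kd xd18 yd26 zd46) (kd xd15 yd14 zd12) (kd xd15 yd11 zd53) (kd xd15 yd11 zd61) (kd xd16 yd32 zd51) (kd xd15 yd47 zd32) (kd xd15 yd0 zd23) (kd xd15 yd0 zd27) (kd xd20 yd21 zd4) (kd xd25 yd46 zd43) (kd xd25 yd46 zd44) (kd xd10 yd21 zd53) (kd xd14 yd42 zd52) (kd xd9 yd34 zd8) (kd xd18 yd52 zd20) (kd xd25 yd46 zd46) (kd xd15 yd24 zd60) (kd xd12 yd3 zd35) (kd xd12 yd3 zd38) (kd xd11 yd16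 zd2) (kd xd8 yd26 zd12) (kd xd15 yd31 zd4) (kd xd15 yd50 zd51) (kd xd18 yd45 zd19) (kd xd19 yd20 zd3) (kd xd18 yd52 zd22) (kd xd16 yd0 zd30) (kd xd15 yd15 zd4) (kd xd17 yd23 zd3) (kd xd20 yd11 zd55) (kd xd8 yd26 zd19) (kd xd15 yd32 zd17) (kd xd10 yd24 zd21)) (@D3.rec (fun _ => Pt) (kd xd16 yd21 zd53) (kd xd15 yd32 zd11) (kd xd19 yd29 zd54) (kd xd19 yd29 zd55) (kd xd25 yd46 zd57) (kd xd8 yd26 zd24) (kd xd17 yd25 zd22) (kd xd25 yd47 zd1) (kd xd25 yd47 zd2) (kd xd17 yd41 zd40) (kd xd10 yd24 zd20) (kd xd15 yd33 zd22) (kd xd16 yd55 zd44) (kd xd12 yd3 zd50) (kd xd22 yd4 zd47) (kd xd8 yd26 zd29) (kd xd8 yd27 zd12) (kd xd8 yd32 zd20) (kd xd14 yd11 zd5) (kd xd10 yd7 zd25) (kd xd14 yd13 zd26) (kd xd17 yd38 zd57) (kd xd10 yd50 zd6) (kd xd15 yd39 zd57) (kd xd25 yd47 zd15) (kd xd18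 yd45 zd32) (kd xd24 yd54 zd44) (kd xd16 yd19 zd61) (kd xd8 yd32 zd22) (kd xd11 yd55 zd29) (kd xd25 yd47 zd19) (kd xd25 yd47 zd21) (kd xd8 yd26 zd44) (kd xd17 yd17 zd13) (kd xd15 yd40 zd51) (kd xd23 yd1 zd18) (kd xd25 yd35 zd20) (kd xd8 yd26 zd49) (kd xd10 yd24 zd52) (kd xd8 yd26 zd51) (kd xd8 yd26 zd52) (kd xd8 yd26 zd53) (kd xd18 yd31 zd57) (kd xd10 yd40 zd1) (kd xd17 yd35 zd41) (kd xd25 yd47 zd22) (kd xd25 yd47 zd28) (kd xd8 yd26 zd57) (kd xd25 yd47 zd34) (kd xd25 yd36 zd1) (kd xd8 yd26 zd59) (kd xd10 yd25 zd3) (kd xd17 yd12 zd9) (kd xd15 yd23 zd21) (kd xd25 yd47 zd39) (kd xd8 yd26 zd61) (kd xd10 yd19 zd60) (kd xd8 yd27 zd1) (kd xd14 yd28 zd3) (kd xd14 yd28 zd2) (kd xd24 yd8 zd11) (kd xd8 yd27 zd2)) (@D3.rec (fun _ => Pt) (kd xd14 yd17 zd9) (kd xd25 yd36 zd2) (kd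 xd8 yd27 zd4) (kd xd10 yd26 zd9) (kd xd19 yd6 zd58) (kd xd19 yd10 zd22) (kd xd25 yd47 zd50) (kd xd19 yd11 zd57) (kd xd8 yd27 zd5) (kd xd25 yd47 zd55) (kd xd19 yd30 zd14) (kd xd25 yd47 zd59) (kd xd8 yd27 zd6) (kd xd25 yd48 zd2) (kd xd8 yd27 zd7) (kd xd10 yd46 zd54) (kd xd10 yd46 zd55) (kd xd25 yd48 zd11) (kd xd25 yd47 zd8) (kd xd8 yd27 zd9) (kd xd8 yd30 zd54) (kd xd8 yd30 zd6) (kd xd15 yd16 zd38) (kd xd25 yd48 zd21) (kd xd10 yd21 zd36) (kd xd17 yd25 zd20) (kd xd18 yd30 zd45) (kd xd17 yd28 zd44) (kd xd8 yd27 zd15) (kd xd9 yd57 zd39) (kd xd8 yd27 zd16) (kd xd9 yd35 zd4) (kd xd25 yd7 zd10) (kd xd25 yd7 zd11) (kd xd18 yd4 zd6) (kd xd8 yd27 zd17) (kd xd25 yd48 zd37) (kd xd15 yd54 zd11) (kd xd15 yd54 zd10) (kd xd8 yd27 zd19) (kd xd25 yd48 zd41) (kd xd8 yd27 zd44) (kd xd25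 yd48 zd32) (kd xd25 yd48 zd33) (kd xd25 yd48 zd44) (kd xd8 yd27 zd23) (kd xd25 yd48 zd47) (kd xd25 yd48 zd48) (kd xd25 yd48 zd50) (kd xd25 yd48 zd52) (kd xd8 yd27 zd25) (kd xd25 yd8 zd29) (kd xd8 yd27 zd26) (kd xd25 yd7 zd42) (kd xd25 yd48 zd55) (kd xd21 yd45 zd56) (kd xd22 yd38 zd38) (kd xd8 yd27 zd29) (kd xd25 yd49 zd2) (kd xd25 yd49 zd0) (kd xd25 yd27 zd53) (kd xd22 yd38 zd28)) (@D3.rec (fun _ => Pt) (kd xd8 yd27 zd30) (kd xd22 yd21 zd0) (kd xd8 yd27 zd31) (kd xd25 yd5 zd61) (kd xd25 yd6 zd0) (kd xd15 yd45 zd10) (kd xd24 yd58 zd45) (kd xd24 yd58 zd46) (kd xd8 yd28 zd34) (kd xd8 yd27 zd35) (kd xd15 yd22 zd28) (kd xd23 yd46 zd23) (kd xd25 yd49 zd14) (kd xd15 yd22 zd30) (kd xd25 yd49 zd20) (kd xd25 yd49 zd21) (kd xd22 yd52 zd39) (kd xd8 yd27 zd39) (kd xd24 yd8 zd30)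 (kd xd8 yd27 zd40) (kd xd25 yd13 zd25) (kd xd15 yd16 zd56) (kd xd15 yd16 zd59) (kd xd13 yd40 zd3) (kd xd8 yd27 zd42) (kd xd17 yd35 zd45) (kd xd9 yd55 zd26) (kd xd19 yd54 zd21) (kd xd19 yd54 zd22) (kd xd23 yd42 zd52) (kd xd23 yd42 zd51) (kd xd19 yd54 zd15) (kd xd19 yd54 zd16) (kd xd8 yd27 zd51) (kd xd24 yd43 zd0) (kd xd24 yd42 zd60) (kd xd16 yd4 zd8) (kd xd8 yd27 zd53) (kd xd17 yd39 zd36) (kd xd25 yd38 zd21) (kd xd8 yd27 zd54) (kd xd18 yd8 zd47) (kd xd25 yd38 zd36) (kd xd9 yd55 zd25) (kd xd10 yd59 zd5) (kd xd14 yd0 zd45) (kd xd19 yd38 zd37) (kd xd10 yd59 zd6) (kd xd14 yd0 zd46) (kd xd25 yd49 zd43) (kd xd19 yd46 zd36) (kd xd20 yd50 zd8) (kd xd8 yd27 zd60) (kd xd20 yd59 zd27) (kd xd15 yd15 zd43) (kd xd8 yd27 zd61) (kd xd24 yd3 zd35) (kd xd8 yd28 zd0) (kd xd25 yd23 zd1)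 (kd xd15 yd29 zd47) (kd xd11 yd9 zd19) (kd xd10 yd32 zd47)) (@D3.rec (fun _ => Pt) (kd xd8 yd28 zd2) (kd xd25 yd49 zd59) (kd xd9 yd37 zd24) (kd xd8 yd28 zd8) (kd xd9 yd38 zd16) (kd xd25 yd49 zd61) (kd xd8 yd28 zd10) (kd xd15 yd23 zd6) (kd xd25 yd50 zd1) (kd xd8 yd28 zd11) (kd xd15 yd52 zd38) (kd xd15 yd52 zd37) (kd xd21 yd29 zd19) (kd xd8 yd28 zd13) (kd xd25 yd50 zd7) (kd xd11 yd9 zd51) (kd xd25 yd50 zd9) (kd xd25 yd50 zd11) (kd xd8 yd28 zd18) (kd xd25 yd50 zd16) (kd xd24 yd13 zd30) (kd xd25 yd50 zd18) (kd xd8 yd28 zd19) (kd xd25 yd50 zd24) (kd xd25 yd50 zd23) (kd xd25 yd50 zd28) (kd xd25 yd50 zd30) (kd xd25 yd50 zd31) (kd xd8 yd28 zd21) (kd xd25 yd50 zd34) (kd xd25 yd50 zd35) (kd xd8 yd58 zd15) (kd xd11 yd9 zd50) (kd xd25 yd50 zd37) (kd xd8 yd28 zd23) (kd xd25 yd50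 zd40) (kd xd8 yd28 zd24) (kd xd25 yd50 zd46) (kd xd10 yd41 zd47) (kd xd25 yd50 zd49) (kd xd25 yd50 zd50) (kd xd8 yd28 zd26) (kd xd25 yd50 zd53) (kd xd21 yd45 zd34) (kd xd20 yd2 zd10) (kd xd25 yd50 zd58) (kd xd25 yd50 zd59) (kd xd20 yd2 zd12) (kd xd25 yd50 zd61) (kd xd25 yd51 zd3) (kd xd25 yd51 zd6) (kd xd21 yd45 zd41) (kd xd25 yd51 zd9) (kd xd25 yd51 zd12) (kd xd8 yd28 zd31) (kd xd20 yd2 zd25) (kd xd9 yd28 zd52) (kd xd8 yd28 zd33) (kd xd20 yd3 zd49) (kd xd15 yd22 zd1) (kd xd15 yd22 zd9) (kd xd21 yd46 zd25)) (@D3.rec (fun _ => Pt) (kd xd15 yd17 zd28) (kd xd15 yd17 zd29) (kd xd22 yd33 zd3) (kd xd22 yd33 zd4) (kd xd25 yd51 zd23) (kd xd8 yd28 zd40) (kd xd23 yd54 zd22) (kd xd23 yd54 zd60) (kd xd16 yd46 zd46) (kd xd16 yd46 zd45) (kd xd8 yd28 zd42) (kd xd25 yd51 zd27) (kd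 xd23 yd46 zd34) (kd xd25 yd47 zd38) (kd xd22 yd4 zd7) (kd xd20 yd12 zd9) (kd xd13 yd23 zd34) (kd xd8 yd28 zd46) (kd xd24 yd9 zd58) (kd xd25 yd51 zd35) (kd xd25 yd51 zd37) (kd xd22 yd0 zd59) (kd xd8 yd28 zd48) (kd xd19 yd30 zd4) (kd xd25 yd51 zd41) (kd xd25 yd51 zd43) (kd xd8 yd33 zd24) (kd xd25 yd51 zd44) (kd xd17 yd23 zd56) (kd xd11 yd45 zd46) (kd xd8 yd28 zd52) (kd xd13 yd11 zd6) (kd xd22 yd25 zd24) (kd xd8 yd28 zd54) (kd xd19 yd29 zd2) (kd xd21 yd51 zd9) (kd xd21 yd30 zd35) (kd xd21 yd52 zd2) (kd xd8 yd28 zd55) (kd xd14 yd28 zd24) (kd xd13 yd20 zd24) (kd xd8 yd28 zd57) (kd xd19 yd31 zd3) (kd xd25 yd51 zd53) (kd xd25 yd51 zd55) (kd xd16 yd55 zd28) (kd xd25 yd51 zd59) (kd xd8 yd28 zd58) (kd xd14 yd40 zd59) (kd xd25 yd51 zd60) (kd xd25 yd52 zd0) (kd xd8 yd28 zd59) (kd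 xd8 yd28 zd60) (kd xd20 yd59 zd36) (kd xd20 yd59 zd37) (kd xd24 yd44 zd25) (kd xd8 yd29 zd0) (kd xd24 yd19 zd21) (kd xd10 yd19 zd58) (kd xd25 yd52 zd14) (kd xd10 yd20 zd24) (kd xd10 yd19 zd47)) (@D3.rec (fun _ => Pt) (kd xd25 yd52 zd18) (kd xd24 yd15 zd51) (kd xd25 yd52 zd20) (kd xd8 yd29 zd5) (kd xd8 yd29 zd51) (kd xd25 yd52 zd25) (kd xd25 yd52 zd26) (kd xd25 yd52 zd30) (kd xd24 yd52 zd44) (kd xd8 yd29 zd8) (kd xd18 yd44 zd17) (kd xd13 yd23 zd31) (kd xd25 yd52 zd36) (kd xd8 yd29 zd11) (kd xd24 yd4 zd7) (kd xd8 yd29 zd13) (kd xd25 yd52 zd38) (kd xd24 yd29 zd37) (kd xd13 yd10 zd31) (kd xd12 yd44 zd42) (kd xd12 yd44 zd33) (kd xd20 yd47 zd7) (kd xd8 yd29 zd19) (kd xd25 yd52 zd48) (kd xd25 yd52 zd50) (kd xd8 yd29 zd21) (kd xd25 yd32 zd29) (kd xd25 yd52 zd54) (kd xd25 yd52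 zd57) (kd xd18 yd48 zd51) (kd xd17 yd22 zd39) (kd xd20 yd46 zd59) (kd xd15 yd27 zd35) (kd xd8 yd29 zd25) (kd xd25 yd53 zd8) (kd xd17 yd22 zd38) (kd xd15 yd27 zd36) (kd xd8 yd29 zd26) (kd xd25 yd53 zd10) (kd xd25 yd53 zd13) (kd xd18 yd44 zd35) (kd xd25 yd53 zd15) (kd xd15 yd24 zd58) (kd xd25 yd53 zd18) (kd xd8 yd29 zd33) (kd xd10 yd32 zd59) (kd xd10 yd2 zd2) (kd xd10 yd25 zd30) (kd xd16 yd1 zd9) (kd xd16 yd0 zd20) (kd xd16 yd0 zd21) (kd xd25 yd53 zd23) (kd xd8 yd29 zd36) (kd xd13 yd35 zd58) (kd xd17 yd28 zd33) (kd xd23 yd13 zd31) (kd xd13 yd44 zd42) (kd xd22 yd33 zd25) (kd xd15 yd59 zd47) (kd xd15 yd59 zd48) (kd xd25 yd53 zd28) (kd xd8 yd29 zd41)) (@D3.rec (fun _ => Pt) (kd xd25 yd26 zd4) (kd xd15 yd31 zd39) (kd xd16 yd42 zd52) (kd xd10 yd51 zd10) (kd xd25 yd11 zd17)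 (kd xd20 yd58 zd54) (kd xd15 yd18 zd28) (kd xd18 yd44 zd12) (kd xd25 yd53 zd35) (kd xd25 yd53 zd24) (kd xd25 yd53 zd25) (kd xd25 yd53 zd38) (kd xd8 yd29 zd48) (kd xd21 yd40 zd1) (kd xd9 yd24 zd19) (kd xd9 yd24 zd17) (kd xd12 yd11 zd51) (kd xd21 yd10 zd3) (kd xd25 yd53 zd30) (kd xd25 yd53 zd31) (kd xd25 yd53 zd41) (kd xd8 yd29 zd53) (kd xd25 yd53 zd46) (kd xd25 yd53 zd49) (kd xd15 yd35 zd59) (kd xd15 yd35 zd60) (kd xd8 yd29 zd55) (kd xd17 yd28 zd1) (kd xd19 yd46 zd2) (kd xd25 yd53 zd55) (kd xd25 yd53 zd58) (kd xd25 yd29 zd54) (kd xd8 yd29 zd58) (kd xd17 yd21 zd44) (kd xd25 yd54 zd2) (kd xd25 yd54 zd4) (kd xd25 yd54 zd6) (kd xd8 yd29 zd61) (kd xd25 yd54 zd14) (kd xd25 yd53 zd51) (kd xd8 yd30 zd1) (kd xd21 yd16 zd25) (kd xd25 yd54 zd19) (kd xd25 yd54 zd22) (kd xd20 yd29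 zd41) (kd xd8 yd30 zd2) (kd xd25 yd54 zd20) (kd xd25 yd54 zd27) (kd xd25 yd54 zd31) (kd xd16 yd27 zd42) (kd xd8 yd30 zd3) (kd xd25 yd54 zd35) (kd xd8 yd30 zd4) (kd xd25 yd53 zd20) (kd xd25 yd53 zd21) (kd xd25 yd54 zd45) (kd xd15 yd34 zd36) (kd xd9 yd34 zd5) (kd xd17 yd16 zd61) (kd xd10 yd52 zd0) (kd xd15 yd32 zd34) (kd xd25 yd54 zd50)) (@D3.rec (fun _ => Pt) (kd xd12 yd59 zd17) (kd xd15 yd34 zd42) (kd xd25 yd48 zd15) (kd xd25 yd48 zd16) (kd xd25 yd54 zd57) (kd xd8 yd30 zd11) (kd xd20 yd2 zd35) (kd xd19 yd49 zd26) (kd xd25 yd6 zd52) (kd xd25 yd27 zd60) (kd xd25 yd55 zd1) (kd xd25 yd55 zd3) (kd xd8 yd32 zd17) (kd xd8 yd30 zd17) (kd xd19 yd26 zd8) (kd xd19 yd26 zd7) (kd xd8 yd30 zd19) (kd xd25 yd55 zd11) (kd xd25 yd55 zd13) (kd xd25 yd55 zd14) (kd xd8 yd30 zd20) (kd xd25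 yd33 zd38) (kd xd25 yd33 zd40) (kd xd25 yd27 zd36) (kd xd25 yd55 zd24) (kd xd25 yd55 zd26) (kd xd8 yd30 zd23) (kd xd25 yd55 zd31) (kd xd25 yd55 zd34) (kd xd8 yd30 zd25) (kd xd15 yd38 zd1) (kd xd19 yd19 zd44) (kd xd8 yd30 zd26) (kd xd25 yd33 zd16) (kd xd25 yd55 zd44) (kd xd14 yd2 zd52) (kd xd8 yd30 zd27) (kd xd11 yd47 zd54) (kd xd8 yd30 zd28) (kd xd25 yd55 zd49) (kd xd8 yd31 zd12) (kd xd8 yd31 zd13) (kd xd19 yd4 zd60) (kd xd22 yd0 zd37) (kd xd25 yd55 zd59) (kd xd25 yd55 zd60) (kd xd8 yd30 zd30) (kd xd25 yd26 zd1) (kd xd8 yd31 zd9) (kd xd25 yd56 zd3) (kd xd8 yd31 zd11) (kd xd15 yd35 zd49) (kd xd25 yd34 zd24) (kd xd25 yd36 zd51) (kd xd15 yd34 zd2) (kd xd15 yd34 zd3) (kd xd11 yd55 zd25) (kd xd25 yd35 zd31) (kd xd15 yd16 zd12) (kd xd13 yd4 zd33) (kd xd13 yd4 zd34) (kd xd25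 yd56 zd13)) (@D3.rec (fun _ => Pt) (kd xd25 yd56 zd15) (kd xd20 yd14 zd17) (kd xd21 yd44 zd27) (kd xd8 yd30 zd48) (kd xd21 yd44 zd10) (kd xd17 yd9 zd25) (kd xd8 yd30 zd50) (kd xd19 yd40 zd58) (kd xd19 yd40 zd59) (kd xd14 yd27 zd15) (kd xd25 yd56 zd26) (kd xd16 yd48 zd42) (kd xd8 yd30 zd58) (kd xd21 yd50 zd26) (kd xd16 yd29 zd48) (kd xd8 yd30 zd59) (kd xd25 yd56 zd33) (kd xd8 yd30 zd60) (kd xd25 yd56 zd35) (kd xd8 yd31 zd36) (kd xd8 yd31 zd37) (kd xd20 yd36 zd42) (kd xd25 yd26 zd9) (kd xd25 yd56 zd44) (kd xd8 yd31 zd0) (kd xd15 yd31 zd32) (kd xd10 yd47 zd35) (kd xd10 yd47 zd28) (kd xd19 yd36 zd36) (kd xd18 yd51 zd27) (kd xd8 yd31 zd6) (kd xd9 yd24 zd23) (kd xd10 yd51 zd9) (kd xd25 yd56 zd50) (kd xd25 yd56 zd53) (kd xd25 yd56 zd1) (kd xd15 yd17 zd9) (kd xd8 yd31 zd10)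 (kd xd25 yd56 zd57) (kd xd25 yd56 zd4) (kd xd15 yd35 zd40) (kd xd19 yd22 zd22) (kd xd11 yd56 zd12) (kd xd25 yd55 zd52) (kd xd19 yd5 zd20) (kd xd8 yd31 zd14) (kd xd25 yd56 zd61) (kd xd15 yd56 zd58) (kd xd15 yd56 zd59) (kd xd25 yd4 zd8) (kd xd8 yd35 zd38) (kd xd25 yd29 zd39) (kd xd25 yd57 zd8) (kd xd8 yd31 zd16) (kd xd17 yd28 zd0) (kd xd15 yd48 zd8) (kd xd20 yd40 zd10) (kd xd15 yd36 zd54) (kd xd25 yd57 zd18) (kd xd12 yd59 zd19) (kd xd12 yd59 zd18) (kd xd25 yd57 zd22))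
def f_d_16 : D2 → D3 → Pt := @D2.rec (fun _ => D3 → Pt) (@D3.rec (fun _ => Pt) (kd xd8 yd31 zd20) (kd xd12 yd50 zd36) (kd xd15 yd37 zd19) (kd xd25 yd7 zd44) (kd xd8 yd31 zd24) (kd xd8 yd33 zd25) (kd xd19 yd24 zd51) (kd xd25 yd17 zd2) (kd xd21 yd53 zd40) (kd xd11 yd37 zd47) (kd xd8 yd31 zd30) (kd xd21 yd5 zd42) (kd xd25 yd57 zd31) (kd xd8 yd31 zd32) (kd xd21 yd24 zd49) (kd xd10 yd35 zd25) (kd xd25 yd56 zd36) (kd xd25 yd16 zd56) (kd xd25 yd47 zd4) (kd xd8 yd31 zd38) (kd xd15 yd56 zd49) (kd xd15 yd56 zd50) (kd xd25 yd57 zd38) (kd xd25 yd57 zd39) (kd xd8 yd31 zd40) (kd xd25 yd30 zd35) (kd xd25 yd30 zd37) (kd xd8 yd31 zd41) (kd xd17 yd28 zd6) (kd xd25 yd57 zd47) (kd xd15 yd50 zd55) (kd xd8 yd31 zd42) (kd xd10 yd56 zd51) (kd xd21 yd49 zd28) (kd xd8 yd31 zd43) (kd xd8 yd32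 zd8) (kd xd8 yd31 zd45) (kd xd8 yd31 zd46) (kd xd11 yd55 zd26) (kd xd25 yd57 zd56) (kd xd8 yd31 zd48) (kd xd24 yd0 zd36) (kd xd25 yd30 zd55) (kd xd25 yd58 zd3) (kd xd8 yd31 zd49) (kd xd18 yd44 zd19) (kd xd25 yd58 zd5) (kd xd25 yd58 zd8) (kd xd8 yd31 zd51) (kd xd22 yd5 zd29) (kd xd25 yd58 zd13) (kd xd25 yd58 zd14) (kd xd8 yd31 zd52) (kd xd25 yd58 zd16) (kd xd8 yd31 zd53) (kd xd21 yd46 zd34) (kd xd25 yd58 zd20) (kd xd25 yd58 zd22) (kd xd8 yd31 zd54) (kd xd12 yd13 zd4) (kd xd19 yd38 zd50) (kd xd19 yd38 zd51)) (@D3.rec (fun _ => Pt) (kd xd18 yd41 zd23) (kd xd8 yd32 zd11) (kd xd12 yd12 zd61) (kd xd12 yd42 zd51) (kd xd8 yd31 zd56) (kd xd17 yd19 zd18) (kd xd9 yd41 zd51) (kd xd17 yd21 zd31) (kd xd9 yd41 zd47) (kd xd15 yd56 zd48) (kd xd25 yd32 zd17) (kd xd15 yd46 zd46) (kd xd25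 yd58 zd37) (kd xd25 yd58 zd40) (kd xd8 yd32 zd1) (kd xd25 yd58 zd41) (kd xd25 yd58 zd42) (kd xd8 yd32 zd2) (kd xd24 yd38 zd10) (kd xd25 yd58 zd47) (kd xd8 yd32 zd3) (kd xd25 yd58 zd51) (kd xd25 yd28 zd54) (kd xd25 yd58 zd53) (kd xd8 yd32 zd4) (kd xd24 yd56 zd2) (kd xd17 yd37 zd10) (kd xd17 yd37 zd11) (kd xd25 yd57 zd53) (kd xd25 yd58 zd61) (kd xd25 yd59 zd1) (kd xd8 yd32 zd6) (kd xd25 yd59 zd6) (kd xd15 yd11 zd38) (kd xd15 yd11 zd39) (kd xd9 yd52 zd26) (kd xd25 yd57 zd55) (kd xd25 yd57 zd57) (kd xd21 yd17 zd21) (kd xd8 yd32 zd10) (kd xd25 yd59 zd9) (kd xd25 yd58 zd18) (kd xd21 yd40 zd45) (kd xd25 yd59 zd10) (kd xd25 yd59 zd11) (kd xd19 yd19 zd57) (kd xd8 yd32 zd13) (kd xd10 yd24 zd48) (kd xd12 yd59 zd16) (kd xd25 yd35 zd35) (kd xd25 yd55 zd4) (kd xd22 yd9 zd50) (kd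 xd25 yd59 zd21) (kd xd25 yd43 zd6) (kd xd25 yd43 zd22) (kd xd25 yd36 zd3) (kd xd25 yd47 zd11) (kd xd25 yd59 zd32) (kd xd21 yd38 zd55) (kd xd25 yd47 zd18) (kd xd8 yd55 zd61) (kd xd8 yd56 zd0)) (@D3.rec (fun _ => Pt) (kd xd10 yd46 zd46) (kd xd10 yd46 zd47) (kd xd10 yd53 zd41) (kd xd19 yd6 zd56) (kd xd10 yd30 zd44) (kd xd10 yd30 zd43) (kd xd8 yd32 zd25) (kd xd19 yd6 zd51) (kd xd25 yd59 zd49) (kd xd20 yd55 zd32) (kd xd8 yd32 zd26) (kd xd25 yd59 zd55) (kd xd17 yd24 zd7) (kd xd20 yd55 zd27) (kd xd8 yd32 zd27) (kd xd25 yd59 zd58) (kd xd16 yd8 zd15) (kd xd25 yd8 zd52) (kd xd8 yd32 zd29) (kd xd25 yd6 zd7) (kd xd25 yd32 zd11) (kd xd25 yd6 zd4) (kd xd15 yd44 zd14) (kd xd25 yd56 zd11) (kd xd25 yd54 zd60) (kd xd15 yd29 zd48) (kd xd8 yd32 zd33) (kd xd25 yd31 zd55) (kd xd20 yd57 zd4)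 (kd xd8 yd32 zd36) (kd xd11 yd55 zd33) (kd xd26 yd0 zd10) (kd xd8 yd32 zd37) (kd xd10 yd50 zd56) (kd xd20 yd57 zd3) (kd xd11 yd11 zd54) (kd xd14 yd8 zd39) (kd xd14 yd8 zd37) (kd xd23 yd43 zd39) (kd xd26 yd0 zd12) (kd xd8 yd32 zd43) (kd xd23 yd33 zd19) (kd xd11 yd52 zd22) (kd xd14 yd10 zd11) (kd xd8 yd32 zd46) (kd xd26 yd0 zd17) (kd xd26 yd0 zd19) (kd xd20 yd54 zd57) (kd xd26 yd0 zd21) (kd xd14 yd54 zd23) (kd xd21 yd56 zd1) (kd xd21 yd56 zd6) (kd xd8 yd32 zd53) (kd xd14 yd54 zd18) (kd xd25 yd41 zd43) (kd xd8 yd32 zd54) (kd xd25 yd41 zd6) (kd xd17 yd39 zd15) (kd xd20 yd54 zd55) (kd xd20 yd54 zd56) (kd xd23 yd43 zd50) (kd xd13 yd57 zd20)) (@D3.rec (fun _ => Pt) (kd xd14 yd46 zd10) (kd xd17 yd55 zd3) (kd xd21 yd3 zd56) (kd xd15 yd43 zd36) (kd xd25 yd40 zd56) (kd xd20 yd4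 zd36) (kd xd26 yd0 zd33) (kd xd9 yd46 zd29) (kd xd14 yd45 zd38) (kd xd23 yd22 zd44) (kd xd12 yd40 zd33) (kd xd8 yd33 zd7) (kd xd8 yd34 zd21) (kd xd12 yd48 zd18) (kd xd8 yd34 zd18) (kd xd16 yd11 zd39) (kd xd8 yd34 zd20) (kd xd15 yd42 zd45) (kd xd8 yd38 zd20) (kd xd25 yd46 zd20) (kd xd8 yd33 zd11) (kd xd20 yd32 zd21) (kd xd26 yd0 zd44) (kd xd8 yd33 zd12) (kd xd22 yd10 zd19) (kd xd8 yd33 zd13) (kd xd25 yd44 zd8) (kd xd8 yd35 zd3) (kd xd8 yd35 zd4) (kd xd18 yd42 zd20) (kd xd26 yd0 zd54) (kd xd26 yd0 zd55) (kd xd8 yd33 zd16) (kd xd18 yd59 zd61) (kd xd10 yd28 zd26) (kd xd18 yd28 zd47) (kd xd14 yd57 zd16) (kd xd8 yd33 zd19) (kd xd26 yd0 zd61) (kd xd19 yd0 zd0) (kd xd15 yd32 zd25) (kd xd22 yd9 zd49) (kd xd12 yd11 zd59) (kd xd17 yd17 zd16) (kd xd16 yd12 zd29) (kd xd12 yd50 zd34)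 (kd xd12 yd50 zd35) (kd xd21 yd2 zd32) (kd xd8 yd33 zd28) (kd xd11 yd11 zd0) (kd xd24 yd22 zd42) (kd xd15 yd3 zd43) (kd xd8 yd33 zd30) (kd xd15 yd46 zd40) (kd xd14 yd28 zd38) (kd xd8 yd33 zd32) (kd xd14 yd18 zd55) (kd xd25 yd57 zd54) (kd xd8 yd33 zd34) (kd xd25 yd37 zd57) (kd xd15 yd20 zd40) (kd xd25 yd10 zd33)) (@D3.rec (fun _ => Pt) (kd xd8 yd33 zd35) (kd xd26 yd1 zd12) (kd xd19 yd55 zd33) (kd xd8 yd33 zd37) (kd xd25 yd40 zd50) (kd xd8 yd33 zd38) (kd xd14 yd48 zd24) (kd xd8 yd33 zd40) (kd xd15 yd53 zd36) (kd xd26 yd1 zd21) (kd xd19 yd5 zd56) (kd xd19 yd5 zd53) (kd xd26 yd1 zd25) (kd xd8 yd33 zd43) (kd xd19 yd45 zd34) (kd xd26 yd1 zd29) (kd xd26 yd1 zd32) (kd xd8 yd33 zd45) (kd xd26 yd1 zd8) (kd xd26 yd1 zd9) (kd xd24 yd21 zd16) (kd xd8 yd33 zd46) (kd xd17 yd43 zd27)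 (kd xd16 yd49 zd4) (kd xd21 yd2 zd12) (kd xd19 yd40 zd7) (kd xd8 yd33 zd48) (kd xd26 yd1 zd40) (kd xd26 yd1 zd41) (kd xd8 yd33 zd49) (kd xd10 yd58 zd21) (kd xd10 yd58 zd20) (kd xd25 yd41 zd24) (kd xd26 yd1 zd46) (kd xd8 yd33 zd52) (kd xd26 yd1 zd48) (kd xd24 yd52 zd31) (kd xd16 yd41 zd46) (kd xd26 yd1 zd52) (kd xd8 yd33 zd54) (kd xd16 yd5 zd35) (kd xd18 yd27 zd43) (kd xd25 yd41 zd20) (kd xd8 yd34 zd56) (kd xd15 yd43 zd43) (kd xd8 yd34 zd57) (kd xd18 yd3 zd13) (kd xd8 yd53 zd16) (kd xd26 yd2 zd1) (kd xd14 yd51 zd26) (kd xd14 yd29 zd33) (kd xd8 yd34 zd1) (kd xd22 yd22 zd18) (kd xd14 yd3 zd10) (kd xd23 yd35 zd27) (kd xd23 yd35 zd26) (kd xd22 yd21 zd24) (kd xd8 yd34 zd4) (kd xd14 yd38 zd50) (kd xd26 yd2 zd7) (kd xd8 yd34 zd7) (kd xd25 yd43 zd41)) (@D3.rec (fun _ => Pt)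 (kd xd24 yd21 zd9) (kd xd24 yd21 zd10) (kd xd23 yd40 zd8) (kd xd21 yd57 zd52) (kd xd24 yd22 zd34) (kd xd26 yd2 zd12) (kd xd25 yd41 zd33) (kd xd8 yd34 zd14) (kd xd25 yd38 zd16) (kd xd9 yd0 zd51) (kd xd8 yd34 zd15) (kd xd14 yd51 zd7) (kd xd13 yd53 zd5) (kd xd23 yd36 zd3) (kd xd21 yd3 zd55) (kd xd25 yd46 zd29) (kd xd8 yd34 zd19) (kd xd17 yd56 zd26) (kd xd17 yd56 zd27) (kd xd15 yd3 zd40) (kd xd17 yd55 zd20) (kd xd26 yd2 zd24) (kd xd26 yd2 zd27) (kd xd8 yd34 zd25) (kd xd9 yd38 zd59) (kd xd26 yd2 zd31) (kd xd26 yd2 zd33) (kd xd8 yd34 zd27) (kd xd20 yd40 zd2) (kd xd25 yd40 zd52) (kd xd8 yd34 zd28) (kd xd21 yd6 zd40) (kd xd26 yd2 zd40) (kd xd8 yd34 zd29) (kd xd26 yd1 zd17) (kd xd16 yd4 zd40) (kd xd10 yd53 zd16) (kd xd8 yd34 zd31) (kd xd8 yd34 zd32) (kd xd25 yd37 zd50) (kd xd14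 yd51 zd13) (kd xd8 yd34 zd33) (kd xd26 yd2 zd46) (kd xd11 yd39 zd30) (kd xd26 yd2 zd50) (kd xd8 yd36 zd44) (kd xd9 yd0 zd56) (kd xd8 yd34 zd37) (kd xd26 yd2 zd52) (kd xd26 yd2 zd54) (kd xd24 yd10 zd3) (kd xd10 yd59 zd46) (kd xd8 yd34 zd40) (kd xd26 yd2 zd57) (kd xd24 yd27 zd58) (kd xd19 yd40 zd40) (kd xd8 yd34 zd46) (kd xd19 yd38 zd5) (kd xd19 yd40 zd12) (kd xd19 yd40 zd25) (kd xd26 yd1 zd15) (kd xd26 yd1 zd16)) (@D3.rec (fun _ => Pt) (kd xd26 yd3 zd2) (kd xd8 yd34 zd51) (kd xd23 yd21 zd1) (kd xd26 yd3 zd3) (kd xd21 yd6 zd41) (kd xd8 yd34 zd53) (kd xd23 yd20 zd46) (kd xd23 yd31 zd45) (kd xd22 yd4 zd42) (kd xd22 yd4 zd29) (kd xd20 yd53 zd28) (kd xd25 yd38 zd26) (kd xd25 yd38 zd27) (kd xd26 yd1 zd57) (kd xd26 yd3 zd10) (kd xd8 yd34 zd58) (kd xd18 yd2 zd44) (kd xd24 yd22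 zd37) (kd xd26 yd3 zd13) (kd xd8 yd34 zd61) (kd xd14 yd42 zd31) (kd xd8 yd54 zd8) (kd xd19 yd9 zd8) (kd xd26 yd3 zd21) (kd xd26 yd3 zd23) (kd xd8 yd35 zd2) (kd xd26 yd3 zd27) (kd xd26 yd0 zd49) (kd xd22 yd17 zd52) (kd xd26 yd0 zd50) (kd xd12 yd1 zd1) (kd xd12 yd1 zd2) (kd xd26 yd3 zd36) (kd xd9 yd58 zd49) (kd xd15 yd18 zd30) (kd xd26 yd3 zd37) (kd xd8 yd35 zd8) (kd xd9 yd0 zd53) (kd xd8 yd35 zd10) (kd xd14 yd42 zd21) (kd xd12 yd59 zd40) (kd xd8 yd35 zd13) (kd xd26 yd3 zd38) (kd xd8 yd35 zd16) (kd xd15 yd46 zd18) (kd xd8 yd35 zd18) (kd xd17 yd44 zd32) (kd xd22 yd5 zd7) (kd xd12 yd18 zd31) (kd xd12 yd20 zd54) (kd xd26 yd3 zd39) (kd xd8 yd35 zd26) (kd xd9 yd56 zd56) (kd xd21 yd24 zd16) (kd xd26 yd3 zd41) (kd xd8 yd35 zd34) (kd xd26 yd3 zd42) (kd xd8 yd35 zd36) (kd xd26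 yd3 zd45) (kd xd8 yd35 zd37) (kd xd26 yd3 zd46) (kd xd25 yd33 zd7)) (@D3.rec (fun _ => Pt) (kd xd25 yd25 zd2) (kd xd10 yd24 zd11) (kd xd23 yd42 zd6) (kd xd8 yd35 zd44) (kd xd8 yd35 zd45) (kd xd10 yd26 zd7) (kd xd8 yd35 zd47) (kd xd26 yd3 zd51) (kd xd8 yd35 zd49) (kd xd13 yd13 zd1) (kd xd25 yd41 zd12) (kd xd26 yd3 zd54) (kd xd8 yd35 zd56) (kd xd18 yd24 zd45) (kd xd21 yd50 zd45) (kd xd18 yd43 zd20) (kd xd18 yd24 zd14) (kd xd15 yd27 zd33) (kd xd26 yd2 zd29) (kd xd8 yd35 zd61) (kd xd18 yd20 zd52) (kd xd26 yd3 zd61) (kd xd15 yd47 zd53) (kd xd25 yd23 zd23) (kd xd25 yd47 zd27) (kd xd15 yd36 zd27) (kd xd10 yd48 zd3) (kd xd16 yd48 zd11) (kd xd8 yd59 zd25) (kd xd14 yd32 zd14) (kd xd9 yd10 zd11) (kd xd8 yd36 zd7) (kd xd25 yd19 zd2) (kd xd25 yd19 zd3) (kd xd11 yd19 zd17) (kd xd8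 yd36 zd9) (kd xd26 yd4 zd3) (kd xd8 yd36 zd11) (kd xd11 yd17 zd35) (kd xd11 yd17 zd34) (kd xd17 yd39 zd17) (kd xd20 yd40 zd17) (kd xd8 yd36 zd16) (kd xd8 yd36 zd17) (kd xd9 yd36 zd39) (kd xd22 yd3 zd13) (kd xd15 yd48 zd33) (kd xd13 yd30 zd18) (kd xd18 yd10 zd58) (kd xd18 yd10 zd60) (kd xd17 yd15 zd50) (kd xd9 yd37 zd2) (kd xd9 yd37 zd3) (kd xd26 yd4 zd23) (kd xd9 yd53 zd44) (kd xd18 yd37 zd18) (kd xd26 yd4 zd24) (kd xd8 yd36 zd27) (kd xd26 yd4 zd27) (kd xd15 yd48 zd47) (kd xd15 yd48 zd49) (kd xd18 yd20 zd49)) (@D3.rec (fun _ => Pt) (kd xd8 yd36 zd30) (kd xd21 yd51 zd37) (kd xd26 yd4 zd31) (kd xd26 yd4 zd34) (kd xd8 yd36 zd35) (kd xd26 yd4 zd39) (kd xd14 yd58 zd20) (kd xd8 yd36 zd40) (kd xd15 yd14 zd35) (kd xd15 yd19 zd43) (kd xd9 yd0 zd0) (kd xd26 yd4 zd44) (kd xd26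 yd4 zd47) (kd xd15 yd18 zd45) (kd xd26 yd4 zd51) (kd xd16 yd2 zd16) (kd xd10 yd51 zd36) (kd xd26 yd4 zd59) (kd xd26 yd5 zd0) (kd xd8 yd36 zd50) (kd xd26 yd5 zd4) (kd xd25 yd15 zd35) (kd xd15 yd20 zd15) (kd xd26 yd5 zd9) (kd xd8 yd36 zd52) (kd xd10 yd38 zd57) (kd xd8 yd36 zd56) (kd xd9 yd53 zd8) (kd xd8 yd36 zd58) (kd xd26 yd5 zd15) (kd xd8 yd45 zd3) (kd xd8 yd45 zd4) (kd xd9 yd51 zd58) (kd xd10 yd53 zd49) (kd xd16 yd10 zd26) (kd xd8 yd40 zd33) (kd xd26 yd5 zd22) (kd xd18 yd42 zd39) (kd xd16 yd10 zd28) (kd xd19 yd56 zd49) (kd xd21 yd54 zd25) (kd xd26 yd5 zd27) (kd xd8 yd37 zd4) (kd xd18 yd25 zd44) (kd xd8 yd37 zd7) (kd xd26 yd5 zd34) (kd xd8 yd37 zd9) (kd xd25 yd28 zd61) (kd xd19 yd58 zd3) (kd xd25 yd16 zd41) (kd xd26 yd5 zd39) (kd xd8 yd37 zd11) (kd xd21 yd7 zd33) (kd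 xd18 yd21 zd28) (kd xd18 yd37 zd23) (kd xd8 yd37 zd13) (kd xd26 yd5 zd44) (kd xd17 yd53 zd10) (kd xd26 yd5 zd28) (kd xd19 yd17 zd48) (kd xd8 yd37 zd15) (kd xd26 yd5 zd46)) (@D3.rec (fun _ => Pt) (kd xd24 yd34 zd15) (kd xd26 yd5 zd48) (kd xd21 yd51 zd1) (kd xd8 yd37 zd17) (kd xd26 yd5 zd51) (kd xd22 yd3 zd35) (kd xd8 yd37 zd18) (kd xd16 yd14 zd7) (kd xd16 yd14 zd8) (kd xd8 yd37 zd20) (kd xd14 yd12 zd20) (kd xd16 yd42 zd11) (kd xd16 yd42 zd12) (kd xd23 yd13 zd26) (kd xd8 yd37 zd23) (kd xd21 yd24 zd3) (kd xd17 yd42 zd6) (kd xd17 yd16 zd24) (kd xd26 yd5 zd58) (kd xd17 yd23 zd44) (kd xd8 yd37 zd27) (kd xd26 yd6 zd0) (kd xd21 yd18 zd37) (kd xd8 yd37 zd28) (kd xd12 yd18 zd17) (kd xd21 yd32 zd0) (kd xd26 yd6 zd8) (kd xd20 yd34 zd32) (kd xd8 yd37 zd31) (kd xd25 yd41 zd49) (kd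 xd26 yd6 zd11) (kd xd8 yd37 zd32) (kd xd26 yd6 zd14) (kd xd8 yd37 zd33) (kd xd26 yd6 zd16) (kd xd26 yd6 zd17) (kd xd8 yd37 zd34) (kd xd25 yd21 zd41) (kd xd26 yd6 zd19) (kd xd26 yd6 zd24) (kd xd24 yd41 zd53) (kd xd26 yd6 zd25) (kd xd8 yd37 zd39) (kd xd26 yd6 zd27) (kd xd14 yd9 zd27) (kd xd14 yd9 zd28) (kd xd14 yd8 zd21) (kd xd8 yd37 zd44) (kd xd26 yd6 zd31) (kd xd13 yd52 zd45) (kd xd21 yd11 zd39) (kd xd11 yd2 zd55) (kd xd26 yd6 zd35) (kd xd26 yd6 zd37) (kd xd8 yd37 zd49) (kd xd26 yd6 zd41) (kd xd8 yd37 zd50) (kd xd26 yd6 zd44) (kd xd18 yd40 zd54) (kd xd18 yd40 zd55) (kd xd18 yd42 zd30) (kd xd26 yd6 zd46)) (@D3.rec (fun _ => Pt) (kd xd8 yd37 zd54) (kd xd19 yd54 zd44) (kd xd16 yd12 zd17) (kd xd26 yd6 zd48) (kd xd26 yd6 zd50) (kd xd26 yd6 zd53) (kd xd8 yd37 zd56) (kd xd26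 yd6 zd61) (kd xd26 yd6 zd59) (kd xd26 yd7 zd1) (kd xd8 yd37 zd57) (kd xd8 yd37 zd58) (kd xd18 yd40 zd0) (kd xd18 yd40 zd1) (kd xd16 yd12 zd48) (kd xd16 yd10 zd18) (kd xd26 yd7 zd11) (kd xd26 yd7 zd14) (kd xd16 yd10 zd15) (kd xd26 yd7 zd16) (kd xd14 yd37 zd40) (kd xd13 yd51 zd37) (kd xd18 yd23 zd2) (kd xd8 yd38 zd3) (kd xd17 yd43 zd18) (kd xd11 yd22 zd7) (kd xd16 yd8 zd34) (kd xd16 yd23 zd26) (kd xd16 yd8 zd38) (kd xd13 yd26 zd39) (kd xd8 yd38 zd13) (kd xd23 yd40 zd58) (kd xd8 yd38 zd15) (kd xd19 yd16 zd56) (kd xd18 yd24 zd29) (kd xd9 yd14 zd58) (kd xd8 yd46 zd43) (kd xd13 yd57 zd6) (kd xd11 yd15 zd36) (kd xd13 yd58 zd45) (kd xd9 yd9 zd44) (kd xd22 yd6 zd4) (kd xd10 yd57 zd35) (kd xd10 yd26 zd44) (kd xd23 yd3 zd54) (kd xd8 yd46 zd48) (kd xd11 yd38 zd18) (kd xd24 yd43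 zd22) (kd xd15 yd23 zd33) (kd xd24 yd28 zd27) (kd xd24 yd54 zd9) (kd xd15 yd23 zd37) (kd xd18 yd27 zd47) (kd xd18 yd27 zd48) (kd xd16 yd11 zd26) (kd xd16 yd49 zd52) (kd xd16 yd49 zd57) (kd xd16 yd49 zd56) (kd xd9 yd51 zd37) (kd xd10 yd59 zd13) (kd xd19 yd55 zd21) (kd xd20 yd21 zd36)) (@D3.rec (fun _ => Pt) (kd xd14 yd47 zd44) (kd xd13 yd15 zd36) (kd xd17 yd57 zd14) (kd xd22 yd16 zd50) (kd xd23 yd10 zd9) (kd xd26 yd7 zd50) (kd xd9 yd34 zd49) (kd xd16 yd55 zd26) (kd xd15 yd1 zd16) (kd xd12 yd54 zd38) (kd xd11 yd56 zd28) (kd xd26 yd7 zd54) (kd xd8 yd38 zd33) (kd xd18 yd3 zd3) (kd xd22 yd28 zd9) (kd xd22 yd28 zd8) (kd xd23 yd42 zd53) (kd xd23 yd28 zd46) (kd xd26 yd8 zd2) (kd xd8 yd38 zd38) (kd xd18 yd18 zd27) (kd xd18 yd18 zd28) (kd xd23 yd33 zd51) (kd xd26 yd8 zd5) (kd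 xd8 yd38 zd40) (kd xd26 yd8 zd8) (kd xd16 yd10 zd54) (kd xd26 yd8 zd10) (kd xd22 yd31 zd36) (kd xd8 yd38 zd41) (kd xd26 yd8 zd18) (kd xd26 yd8 zd16) (kd xd26 yd8 zd20) (kd xd20 yd55 zd16) (kd xd8 yd38 zd42) (kd xd14 yd48 zd58) (kd xd8 yd38 zd43) (kd xd18 yd18 zd15) (kd xd18 yd18 zd16) (kd xd16 yd3 zd15) (kd xd18 yd3 zd14) (kd xd26 yd8 zd31) (kd xd26 yd7 zd2) (kd xd26 yd6 zd57) (kd xd18 yd3 zd17) (kd xd8 yd38 zd47) (kd xd8 yd38 zd49) (kd xd8 yd40 zd19) (kd xd26 yd8 zd38) (kd xd24 yd47 zd30) (kd xd12 yd23 zd8) (kd xd13 yd15 zd30) (kd xd14 yd0 zd14) (kd xd14 yd0 zd15) (kd xd22 yd28 zd20) (kd xd26 yd8 zd44) (kd xd24 yd59 zd41) (kd xd8 yd43 zd25) (kd xd8 yd46 zd3) (kd xd23 yd20 zd16) (kd xd14 yd59 zd35) (kd xd26 yd8 zd49)) (@D3.rec (fun _ => Pt) (kd xd26 yd8 zd50) (kd xd12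 yd21 zd58) (kd xd26 yd8 zd55) (kd xd13 yd50 zd57) (kd xd8 yd39 zd0) (kd xd23 yd20 zd15) (kd xd20 yd6 zd2) (kd xd14 yd59 zd39) (kd xd16 yd26 zd38) (kd xd26 yd8 zd59) (kd xd24 yd56 zd38) (kd xd16 yd20 zd48) (kd xd26 yd8 zd60) (kd xd15 yd6 zd18) (kd xd12 yd22 zd55) (kd xd18 yd18 zd8) (kd xd18 yd18 zd9) (kd xd16 yd10 zd2) (kd xd11 yd2 zd59) (kd xd19 yd36 zd55) (kd xd17 yd54 zd34) (kd xd11 yd9 zd55) (kd xd19 yd36 zd57) (kd xd16 yd27 zd0) (kd xd26 yd9 zd6) (kd xd26 yd9 zd7) (kd xd26 yd9 zd9) (kd xd19 yd56 zd27) (kd xd8 yd39 zd12) (kd xd16 yd3 zd44) (kd xd15 yd12 zd30) (kd xd24 yd47 zd18) (kd xd26 yd9 zd14) (kd xd26 yd9 zd16) (kd xd26 yd9 zd19) (kd xd8 yd39 zd18) (kd xd26 yd9 zd26) (kd xd26 yd9 zd25) (kd xd21 yd56 zd20) (kd xd21 yd12 zd59) (kd xd8 yd39 zd19) (kd xd8 yd39 zd20)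 (kd xd18 yd39 zd53) (kd xd18 yd39 zd54) (kd xd23 yd16 zd39) (kd xd14 yd36 zd45) (kd xd23 yd32 zd19) (kd xd26 yd9 zd41) (kd xd16 yd10 zd14) (kd xd8 yd39 zd24) (kd xd8 yd39 zd25) (kd xd10 yd20 zd47) (kd xd15 yd28 zd32) (kd xd9 yd41 zd40) (kd xd25 yd19 zd9) (kd xd25 yd19 zd8) (kd xd19 yd6 zd16) (kd xd8 yd39 zd28) (kd xd26 yd9 zd51) (kd xd15 yd15 zd0) (kd xd19 yd55 zd34) (kd xd23 yd43 zd46)) (@D3.rec (fun _ => Pt) (kd xd8 yd39 zd31) (kd xd8 yd39 zd41) (kd xd8 yd39 zd33) (kd xd10 yd37 zd32) (kd xd16 yd28 zd5) (kd xd26 yd9 zd53) (kd xd26 yd9 zd56) (kd xd19 yd26 zd58) (kd xd8 yd39 zd36) (kd xd26 yd10 zd3) (kd xd26 yd10 zd1) (kd xd25 yd21 zd59) (kd xd8 yd39 zd37) (kd xd8 yd39 zd38) (kd xd18 yd18 zd1) (kd xd18 yd18 zd2) (kd xd26 yd10 zd10) (kd xd26 yd9 zd52) (kd xd16 yd47 zd54)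 (kd xd23 yd32 zd59) (kd xd26 yd10 zd16) (kd xd26 yd7 zd3) (kd xd8 yd39 zd42) (kd xd8 yd39 zd43) (kd xd8 yd39 zd44) (kd xd10 yd26 zd35) (kd xd26 yd10 zd22) (kd xd21 yd44 zd52) (kd xd21 yd28 zd35) (kd xd15 yd8 zd60) (kd xd8 yd39 zd47) (kd xd26 yd10 zd25) (kd xd24 yd21 zd58) (kd xd9 yd42 zd51) (kd xd20 yd14 zd5) (kd xd20 yd14 zd4) (kd xd8 yd55 zd23) (kd xd26 yd10 zd31) (kd xd18 yd52 zd39) (kd xd26 yd10 zd32) (kd xd8 yd39 zd53) (kd xd21 yd19 zd48) (kd xd24 yd44 zd38) (kd xd8 yd39 zd58) (kd xd26 yd10 zd33) (kd xd26 yd10 zd38) (kd xd8 yd39 zd59) (kd xd8 yd39 zd61) (kd xd18 yd43 zd51) (kd xd8 yd40 zd0) (kd xd10 yd34 zd60) (kd xd25 yd44 zd29) (kd xd25 yd44 zd30) (kd xd8 yd40 zd2) (kd xd25 yd18 zd7) (kd xd26 yd10 zd43) (kd xd8 yd40 zd4) (kd xd24 yd2 zd30) (kd xd26 yd5 zd53)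 (kd xd26 yd10 zd46) (kd xd26 yd10 zd49) (kd xd8 yd40 zd5)) (@D3.rec (fun _ => Pt) (kd xd26 yd10 zd53) (kd xd25 yd13 zd0) (kd xd26 yd10 zd58) (kd xd26 yd10 zd60) (kd xd8 yd40 zd6) (kd xd26 yd11 zd1) (kd xd8 yd40 zd7) (kd xd16 yd9 zd7) (kd xd16 yd9 zd8) (kd xd26 yd11 zd9) (kd xd20 yd13 zd43) (kd xd8 yd53 zd11) (kd xd20 yd57 zd48) (kd xd26 yd11 zd15) (kd xd17 yd12 zd35) (kd xd8 yd40 zd12) (kd xd8 yd40 zd13) (kd xd10 yd33 zd43) (kd xd17 yd40 zd5) (kd xd17 yd40 zd6) (kd xd26 yd11 zd22) (kd xd8 yd40 zd14) (kd xd26 yd11 zd28) (kd xd19 yd16 zd59) (kd xd8 yd40 zd16) (kd xd8 yd41 zd22) (kd xd26 yd11 zd23) (kd xd26 yd11 zd24) (kd xd26 yd11 zd34) (kd xd8 yd40 zd20) (kd xd18 yd28 zd49) (kd xd18 yd28 zd50) (kd xd10 yd37 zd22) (kd xd26 yd11 zd39) (kd xd26 yd11 zd40) (kd xd8 yd40 zd25)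 (kd xd26 yd11 zd44) (kd xd20 yd36 zd13) (kd xd8 yd40 zd26) (kd xd26 yd11 zd47) (kd xd8 yd40 zd27) (kd xd17 yd37 zd39) (kd xd17 yd37 zd40) (kd xd26 yd11 zd59) (kd xd8 yd42 zd15) (kd xd8 yd40 zd29) (kd xd26 yd12 zd4) (kd xd26 yd12 zd7) (kd xd26 yd12 zd10) (kd xd18 yd5 zd23) (kd xd8 yd42 zd23) (kd xd8 yd40 zd32) (kd xd8 yd42 zd13) (kd xd16 yd17 zd59) (kd xd8 yd40 zd34) (kd xd15 yd6 zd58) (kd xd15 yd6 zd59) (kd xd24 yd54 zd54) (kd xd8 yd40 zd35) (kd xd14 yd56 zd7) (kd xd21 yd37 zd6) (kd xd8 yd40 zd37)) (@D3.rec (fun _ => Pt) (kd xd26 yd12 zd29) (kd xd25 yd59 zd12) (kd xd8 yd40 zd38) (kd xd26 yd12 zd34) (kd xd15 yd19 zd50) (kd xd20 yd49 zd52) (kd xd8 yd40 zd40) (kd xd26 yd12 zd39) (kd xd8 yd41 zd8) (kd xd8 yd41 zd9) (kd xd10 yd31 zd61) (kd xd18 yd27 zd14) (kd xd25 yd1 zd9)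 (kd xd25 yd1 zd15) (kd xd8 yd40 zd42) (kd xd26 yd12 zd50) (kd xd18 yd3 zd55) (kd xd15 yd11 zd11) (kd xd25 yd0 zd58) (kd xd15 yd14 zd37) (kd xd8 yd40 zd46) (kd xd10 yd8 zd43) (kd xd8 yd42 zd44) (kd xd15 yd9 zd51) (kd xd26 yd12 zd57) (kd xd11 yd18 zd4) (kd xd26 yd12 zd58) (kd xd8 yd40 zd53) (kd xd18 yd37 zd39) (kd xd10 yd5 zd26) (kd xd8 yd40 zd55) (kd xd26 yd12 zd61) (kd xd20 yd27 zd40) (kd xd8 yd40 zd57) (kd xd26 yd13 zd5) (kd xd26 yd13 zd7) (kd xd17 yd11 zd17) (kd xd8 yd40 zd58) (kd xd12 yd12 zd2) (kd xd8 yd40 zd59) (kd xd26 yd13 zd13) (kd xd8 yd41 zd30) (kd xd8 yd41 zd31) (kd xd26 yd13 zd22) (kd xd26 yd13 zd23) (kd xd24 yd44 zd12) (kd xd26 yd13 zd25) (kd xd8 yd40 zd61) (kd xd26 yd13 zd27) (kd xd24 yd46 zd45) (kd xd26 yd13 zd30) (kd xd8 yd41 zd0) (kd xd26 yd13 zd34)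 (kd xd26 yd13 zd36) (kd xd8 yd41 zd1) (kd xd16 yd16 zd25) (kd xd25 yd14 zd0) (kd xd17 yd30 zd17) (kd xd26 yd13 zd43) (kd xd8 yd41 zd3) (kd xd14 yd14 zd28) (kd xd8 yd41 zd4)) (@D3.rec (fun _ => Pt) (kd xd16 yd17 zd24) (kd xd20 yd2 zd39) (kd xd26 yd13 zd50) (kd xd8 yd41 zd7) (kd xd26 yd12 zd41) (kd xd26 yd13 zd55) (kd xd18 yd1 zd15) (kd xd24 yd58 zd17) (kd xd26 yd13 zd58) (kd xd8 yd41 zd10) (kd xd26 yd14 zd0) (kd xd14 yd57 zd18) (kd xd26 yd14 zd4) (kd xd20 yd3 zd58) (kd xd21 yd58 zd21) (kd xd8 yd41 zd12) (kd xd26 yd14 zd10) (kd xd26 yd14 zd12) (kd xd26 yd14 zd15) (kd xd8 yd41 zd13) (kd xd18 yd7 zd26) (kd xd8 yd41 zd14) (kd xd26 yd14 zd19) (kd xd8 yd41 zd15) (kd xd24 yd43 zd9) (kd xd16 yd15 zd55) (kd xd26 yd14 zd25) (kd xd8 yd41 zd17) (kd xd26 yd14 zd28) (kd xd8 yd41 zd18)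 (kd xd26 yd14 zd29) (kd xd10 yd20 zd46) (kd xd26 yd14 zd31) (kd xd8 yd41 zd20) (kd xd17 yd38 zd53) (kd xd26 yd14 zd34) (kd xd26 yd14 zd35) (kd xd12 yd16 zd58) (kd xd8 yd41 zd24) (kd xd22 yd2 zd51) (kd xd8 yd41 zd28) (kd xd26 yd13 zd15) (kd xd21 yd54 zd54) (kd xd26 yd13 zd18) (kd xd21 yd54 zd55) (kd xd18 yd4 zd56) (kd xd8 yd41 zd32) (kd xd14 yd57 zd8) (kd xd14 yd57 zd9) (kd xd26 yd14 zd48) (kd xd23 yd44 zd36) (kd xd21 yd25 zd29) (kd xd8 yd41 zd34) (kd xd10 yd9 zd20) (kd xd23 yd43 zd26) (kd xd8 yd41 zd35) (kd xd26 yd14 zd58) (kd xd26 yd14 zd59) (kd xd8 yd41 zd36) (kd xd24 yd44 zd55) (kd xd8 yd41 zd37) (kd xd8 yd41 zd39)) (@D3.rec (fun _ => Pt) (kd xd23 yd45 zd23) (kd xd8 yd41 zd40) (kd xd17 yd54 zd16) (kd xd25 yd3 zd29) (kd xd8 yd41 zd43) (kd xd10 yd42 zd4) (kd xd22 yd23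 zd3) (kd xd8 yd41 zd45) (kd xd18 yd4 zd33) (kd xd26 yd15 zd2) (kd xd26 yd15 zd3) (kd xd8 yd41 zd46) (kd xd8 yd41 zd47) (kd xd9 yd44 zd49) (kd xd9 yd44 zd50) (kd xd19 yd10 zd34) (kd xd9 yd29 zd31) (kd xd12 yd29 zd25) (kd xd12 yd29 zd22) (kd xd26 yd15 zd14) (kd xd25 yd15 zd44) (kd xd8 yd41 zd50) (kd xd18 yd6 zd30) (kd xd9 yd34 zd23) (kd xd16 yd16 zd0) (kd xd26 yd5 zd11) (kd xd26 yd15 zd18) (kd xd17 yd54 zd51) (kd xd8 yd41 zd53) (kd xd24 yd44 zd7) (kd xd8 yd41 zd54) (kd xd25 yd15 zd48) (kd xd13 yd58 zd22) (kd xd8 yd41 zd55) (kd xd14 yd9 zd35) (kd xd14 yd50 zd31) (kd xd26 yd15 zd27) (kd xd8 yd41 zd56) (kd xd26 yd15 zd29) (kd xd14 yd58 zd14) (kd xd14 yd58 zd15) (kd xd26 yd15 zd38) (kd xd15 yd13 zd56) (kd xd18 yd26 zd33) (kd xd8 yd41 zd58) (kd xd14 yd9 zd34) (kd xd8 yd41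 zd59) (kd xd9 yd34 zd35) (kd xd8 yd41 zd61) (kd xd26 yd15 zd43) (kd xd19 yd19 zd56) (kd xd21 yd50 zd28) (kd xd8 yd42 zd1) (kd xd21 yd59 zd20) (kd xd8 yd42 zd2) (kd xd21 yd50 zd18) (kd xd26 yd15 zd48) (kd xd8 yd42 zd3) (kd xd21 yd50 zd27) (kd xd16 yd14 zd53) (kd xd14 yd30 zd14) (kd xd21 yd59 zd27)) (@D3.rec (fun _ => Pt) (kd xd8 yd42 zd6) (kd xd26 yd15 zd52) (kd xd21 yd59 zd28) (kd xd26 yd15 zd53) (kd xd8 yd42 zd7) (kd xd18 yd29 zd52) (kd xd8 yd42 zd8) (kd xd18 yd39 zd24) (kd xd26 yd15 zd54) (kd xd23 yd45 zd22) (kd xd8 yd42 zd10) (kd xd26 yd15 zd57) (kd xd26 yd15 zd58) (kd xd26 yd11 zd51) (kd xd26 yd12 zd15) (kd xd14 yd25 zd21) (kd xd23 yd51 zd4) (kd xd14 yd24 zd36) (kd xd8 yd42 zd14) (kd xd26 yd16 zd3) (kd xd26 yd11 zd46) (kd xd26 yd16 zd6) (kd xd26 yd12 zd1) (kd xd19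 yd1 zd59) (kd xd9 yd54 zd22) (kd xd8 yd42 zd16) (kd xd8 yd42 zd41) (kd xd19 yd17 zd4) (kd xd18 yd27 zd9) (kd xd15 yd9 zd50) (kd xd8 yd43 zd17) (kd xd26 yd16 zd19) (kd xd25 yd4 zd3) (kd xd18 yd28 zd55) (kd xd26 yd16 zd21) (kd xd8 yd42 zd20) (kd xd26 yd16 zd24) (kd xd26 yd16 zd28) (kd xd8 yd42 zd21) (kd xd23 yd35 zd53) (kd xd17 yd40 zd12) (kd xd8 yd42 zd22) (kd xd16 yd20 zd13) (kd xd9 yd52 zd8) (kd xd8 yd42 zd24) (kd xd26 yd16 zd39) (kd xd26 yd12 zd52) (kd xd8 yd42 zd25) (kd xd18 yd6 zd59) (kd xd17 yd44 zd56) (kd xd17 yd44 zd59) (kd xd26 yd16 zd43) (kd xd9 yd59 zd36) (kd xd23 yd22 zd10) (kd xd17 yd41 zd37) (kd xd25 yd3 zd43) (kd xd25 yd45 zd60) (kd xd17 yd41 zd36) (kd xd15 yd34 zd57) (kd xd15 yd39 zd55) (kd xd15 yd39 zd56) (kd xd25 yd28 zd39)) (@D3.rec (fun _ => Pt) (kd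 xd26 yd16 zd51) (kd xd8 yd42 zd35) (kd xd17 yd37 zd16) (kd xd10 yd40 zd35) (kd xd25 yd43 zd16) (kd xd8 yd42 zd39) (kd xd26 yd16 zd58) (kd xd26 yd17 zd1) (kd xd19 yd39 zd34) (kd xd8 yd42 zd40) (kd xd21 yd31 zd56) (kd xd26 yd17 zd6) (kd xd25 yd3 zd22) (kd xd25 yd3 zd27) (kd xd8 yd42 zd42) (kd xd26 yd12 zd55) (kd xd17 yd36 zd51) (kd xd15 yd12 zd1) (kd xd15 yd11 zd12) (kd xd11 yd32 zd33) (kd xd26 yd17 zd10) (kd xd26 yd17 zd13) (kd xd11 yd29 zd18) (kd xd26 yd17 zd15) (kd xd21 yd54 zd38) (kd xd12 yd6 zd28) (kd xd11 yd21 zd22) (kd xd26 yd17 zd20) (kd xd8 yd42 zd55) (kd xd26 yd17 zd23) (kd xd26 yd17 zd26) (kd xd26 yd17 zd29) (kd xd8 yd45 zd45) (kd xd26 yd17 zd31) (kd xd26 yd17 zd34) (kd xd8 yd42 zd58) (kd xd18 yd12 zd46) (kd xd26 yd17 zd38) (kd xd8 yd42 zd59) (kd xd26 yd17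 zd40) (kd xd26 yd17 zd41) (kd xd23 yd19 zd2) (kd xd26 yd17 zd42) (kd xd8 yd43 zd1) (kd xd18 yd21 zd47) (kd xd26 yd17 zd46) (kd xd16 yd22 zd57) (kd xd8 yd43 zd2) (kd xd26 yd17 zd50) (kd xd24 yd54 zd34) (kd xd16 yd21 zd8) (kd xd26 yd17 zd56) (kd xd8 yd43 zd4) (kd xd24 yd45 zd58) (kd xd16 yd28 zd60) (kd xd19 yd17 zd2) (kd xd21 yd29 zd38) (kd xd8 yd43 zd10) (kd xd26 yd17 zd61) (kd xd8 yd43 zd12) (kd xd8 yd43 zd13) (kd xd15 yd51 zd27)) (@D3.rec (fun _ => Pt) (kd xd25 yd10 zd57) (kd xd8 yd43 zd15) (kd xd8 yd43 zd16) (kd xd26 yd18 zd7) (kd xd18 yd26 zd34) (kd xd9 yd53 zd37) (kd xd9 yd53 zd39) (kd xd8 yd43 zd18) (kd xd18 yd26 zd35) (kd xd17 yd39 zd25) (kd xd24 yd45 zd2) (kd xd26 yd18 zd16) (kd xd8 yd43 zd20) (kd xd16 yd18 zd42) (kd xd8 yd43 zd21) (kd xd22 yd41 zd60) (kd xd9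 yd42 zd57) (kd xd23 yd17 zd14) (kd xd21 yd53 zd14) (kd xd8 yd46 zd15) (kd xd8 yd43 zd40) (kd xd19 yd33 zd20) (kd xd26 yd18 zd22) (kd xd10 yd37 zd37) (kd xd26 yd11 zd0) (kd xd25 yd2 zd0) (kd xd22 yd30 zd33) (kd xd9 yd52 zd7) (kd xd8 yd43 zd31) (kd xd13 yd13 zd56) (kd xd26 yd18 zd27) (kd xd9 yd54 zd14) (kd xd8 yd43 zd32) (kd xd26 yd18 zd28) (kd xd8 yd43 zd34) (kd xd11 yd16 zd5) (kd xd20 yd19 zd3) (kd xd9 yd9 zd46) (kd xd20 yd19 zd1) (kd xd23 yd40 zd37) (kd xd20 yd19 zd5) (kd xd8 yd43 zd38) (kd xd26 yd18 zd39) (kd xd16 yd23 zd32) (kd xd21 yd53 zd32) (kd xd21 yd11 zd41) (kd xd16 yd25 zd13) (kd xd26 yd8 zd41) (kd xd16 yd12 zd11) (kd xd19 yd0 zd40) (kd xd15 yd12 zd22) (kd xd8 yd43 zd45) (kd xd15 yd13 zd6) (kd xd24 yd45 zd52) (kd xd18 yd29 zd60) (kd xd8 yd43 zd46) (kd xd26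 yd18 zd54) (kd xd24 yd56 zd34) (kd xd15 yd5 zd48) (kd xd8 yd47 zd30) (kd xd11 yd12 zd33) (kd xd8 yd47 zd49)) (@D3.rec (fun _ => Pt) (kd xd20 yd8 zd1) (kd xd11 yd28 zd2) (kd xd8 yd43 zd53) (kd xd17 yd53 zd28) (kd xd13 yd52 zd9) (kd xd10 yd38 zd45) (kd xd26 yd19 zd6) (kd xd8 yd43 zd57) (kd xd16 yd19 zd50) (kd xd26 yd19 zd11) (kd xd26 yd19 zd13) (kd xd8 yd43 zd58) (kd xd26 yd19 zd15) (kd xd26 yd19 zd17) (kd xd12 yd23 zd53) (kd xd19 yd0 zd9) (kd xd8 yd44 zd0) (kd xd15 yd10 zd10) (kd xd26 yd19 zd21) (kd xd10 yd30 zd2) (kd xd26 yd19 zd26) (kd xd8 yd44 zd3) (kd xd21 yd12 zd49) (kd xd8 yd48 zd3) (kd xd8 yd44 zd6) (kd xd10 yd31 zd16) (kd xd23 yd7 zd41) (kd xd23 yd14 zd9) (kd xd15 yd5 zd43) (kd xd21 yd12 zd16) (kd xd19 yd19 zd29) (kd xd8 yd44 zd11) (kd xd23 yd16 zd22) (kd xd16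 yd22 zd36) (kd xd13 yd50 zd27) (kd xd9 yd4 zd4) (kd xd11 yd39 zd20) (kd xd8 yd44 zd17) (kd xd19 yd59 zd37) (kd xd26 yd19 zd42) (kd xd8 yd44 zd19) (kd xd20 yd0 zd13) (kd xd13 yd9 zd50) (kd xd26 yd19 zd46) (kd xd26 yd19 zd47) (kd xd13 yd9 zd47) (kd xd20 yd24 zd47) (kd xd23 yd47 zd48) (kd xd11 yd6 zd10) (kd xd11 yd6 zd9) (kd xd15 yd50 zd8) (kd xd18 yd33 zd25) (kd xd25 yd15 zd20) (kd xd15 yd51 zd0) (kd xd26 yd19 zd50) (kd xd11 yd23 zd9) (kd xd26 yd19 zd52) (kd xd26 yd19 zd55) (kd xd10 yd0 zd52) (kd xd8 yd44 zd37) (kd xd10 yd16 zd12) (kd xd26 yd19 zd61)) (@D3.rec (fun _ => Pt) (kd xd18 yd19 zd6) (kd xd18 yd39 zd45) (kd xd26 yd20 zd3) (kd xd8 yd44 zd40) (kd xd26 yd20 zd6) (kd xd18 yd52 zd21) (kd xd8 yd45 zd38) (kd xd8 yd44 zd41) (kd xd19 yd23 zd17) (kd xd8 yd44 zd42) (kd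 xd9 yd53 zd14) (kd xd18 yd4 zd41) (kd xd8 yd44 zd45) (kd xd9 yd42 zd2) (kd xd17 yd7 zd41) (kd xd8 yd44 zd47) (kd xd26 yd20 zd9) (kd xd26 yd20 zd11) (kd xd26 yd20 zd13) (kd xd8 yd44 zd49) (kd xd8 yd44 zd50) (kd xd11 yd23 zd10) (kd xd10 yd16 zd13) (kd xd26 yd20 zd17) (kd xd16 yd56 zd25) (kd xd21 yd10 zd23) (kd xd8 yd44 zd53) (kd xd26 yd20 zd21) (kd xd26 yd20 zd22) (kd xd8 yd44 zd54) (kd xd26 yd20 zd26) (kd xd26 yd20 zd27) (kd xd8 yd44 zd55) (kd xd8 yd44 zd56) (kd xd26 yd20 zd33) (kd xd16 yd33 zd1) (kd xd16 yd21 zd33) (kd xd26 yd20 zd36) (kd xd8 yd44 zd58) (kd xd10 yd41 zd32) (kd xd13 yd50 zd52) (kd xd25 yd40 zd36) (kd xd25 yd50 zd27) (kd xd8 yd44 zd60) (kd xd22 yd35 zd33) (kd xd21 yd57 zd2) (kd xd22 yd35 zd37) (kd xd8 yd45 zd0) (kd xd13 yd41 zd51) (kd xd26 yd20 zd43)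 (kd xd8 yd45 zd1) (kd xd26 yd20 zd44) (kd xd26 yd5 zd16) (kd xd26 yd5 zd17) (kd xd15 yd16 zd7) (kd xd18 yd27 zd12) (kd xd8 yd45 zd6) (kd xd16 yd19 zd46) (kd xd8 yd45 zd7) (kd xd26 yd20 zd59) (kd xd15 yd12 zd9) (kd xd8 yd45 zd8)) (@D3.rec (fun _ => Pt) (kd xd15 yd6 zd27) (kd xd15 yd6 zd34) (kd xd16 yd33 zd31) (kd xd8 yd45 zd10) (kd xd8 yd50 zd61) (kd xd21 yd53 zd2) (kd xd22 yd32 zd19) (kd xd8 yd45 zd11) (kd xd21 yd13 zd9) (kd xd13 yd6 zd55) (kd xd8 yd45 zd12) (kd xd22 yd8 zd46) (kd xd15 yd0 zd25) (kd xd15 yd8 zd24) (kd xd17 yd15 zd15) (kd xd11 yd29 zd16) (kd xd8 yd51 zd13) (kd xd21 yd52 zd48) (kd xd9 yd59 zd16) (kd xd18 yd36 zd42) (kd xd18 yd29 zd59) (kd xd15 yd8 zd25) (kd xd8 yd45 zd18) (kd xd8 yd45 zd19) (kd xd26 yd21 zd16) (kd xd8 yd45 zd20) (kd xd16 yd10 zd27) (kd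 xd8 yd45 zd21) (kd xd26 yd19 zd20) (kd xd26 yd19 zd16) (kd xd26 yd21 zd32) (kd xd12 yd5 zd18) (kd xd16 yd20 zd43) (kd xd23 yd43 zd30) (kd xd8 yd45 zd27) (kd xd26 yd21 zd37) (kd xd26 yd21 zd39) (kd xd18 yd56 zd29) (kd xd8 yd45 zd29) (kd xd16 yd24 zd59) (kd xd16 yd32 zd60) (kd xd25 yd3 zd23) (kd xd8 yd45 zd32) (kd xd21 yd12 zd44) (kd xd26 yd21 zd46) (kd xd22 yd30 zd46) (kd xd15 yd10 zd36) (kd xd8 yd45 zd35) (kd xd8 yd45 zd36) (kd xd11 yd37 zd27) (kd xd26 yd21 zd47) (kd xd11 yd49 zd1) (kd xd23 yd5 zd36) (kd xd9 yd12 zd55) (kd xd26 yd21 zd49) (kd xd8 yd45 zd43) (kd xd23 yd10 zd40) (kd xd12 yd12 zd48) (kd xd17 yd30 zd47) (kd xd14 yd54 zd31) (kd xd26 yd21 zd51) (kd xd26 yd21 zd52)) (@D3.rec (fun _ => Pt) (kd xd8 yd45 zd49) (kd xd26 yd21 zd56) (kd xd22 yd5 zd45) (kd xd19 yd48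 zd14) (kd xd14 yd43 zd12) (kd xd20 yd53 zd34) (kd xd8 yd45 zd54) (kd xd17 yd57 zd0) (kd xd26 yd21 zd58) (kd xd23 yd6 zd11) (kd xd10 yd1 zd51) (kd xd8 yd45 zd59) (kd xd17 yd45 zd41) (kd xd26 yd21 zd61) (kd xd8 yd45 zd60) (kd xd12 yd8 zd41) (kd xd26 yd8 zd46) (kd xd9 yd22 zd29) (kd xd11 yd54 zd60) (kd xd24 yd44 zd26) (kd xd8 yd46 zd5) (kd xd25 yd3 zd0) (kd xd26 yd22 zd1) (kd xd24 yd18 zd8) (kd xd10 yd22 zd9) (kd xd8 yd46 zd8) (kd xd18 yd41 zd20) (kd xd8 yd46 zd9) (kd xd12 yd39 zd15) (kd xd26 yd22 zd8) (kd xd21 yd53 zd61) (kd xd21 yd54 zd2) (kd xd8 yd46 zd12) (kd xd9 yd25 zd29) (kd xd22 yd37 zd37) (kd xd11 yd38 zd2) (kd xd9 yd16 zd23) (kd xd26 yd22 zd13) (kd xd8 yd46 zd18) (kd xd13 yd33 zd52) (kd xd23 yd48 zd29) (kd xd26 yd22 zd15) (kd xd26 yd22 zd16) (kd xd8 yd46 zd20)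 (kd xd26 yd22 zd21) (kd xd26 yd22 zd23) (kd xd26 yd22 zd25) (kd xd8 yd46 zd21) (kd xd26 yd22 zd28) (kd xd16 yd25 zd35) (kd xd26 yd22 zd30) (kd xd8 yd46 zd22) (kd xd23 yd18 zd34) (kd xd26 yd22 zd31) (kd xd26 yd22 zd32) (kd xd26 yd22 zd34) (kd xd22 yd49 zd52) (kd xd8 yd46 zd27) (kd xd17 yd57 zd9) (kd xd16 yd23 zd39) (kd xd21 yd12 zd34) (kd xd23 yd29 zd59)) (@D3.rec (fun _ => Pt) (kd xd17 yd57 zd10) (kd xd16 yd26 zd44) (kd xd8 yd47 zd22) (kd xd8 yd46 zd30) (kd xd26 yd22 zd40) (kd xd23 yd29 zd58) (kd xd8 yd46 zd32) (kd xd16 yd25 zd42) (kd xd26 yd22 zd44) (kd xd26 yd22 zd46) (kd xd8 yd46 zd34) (kd xd13 yd55 zd31) (kd xd18 yd36 zd27) (kd xd16 yd20 zd46) (kd xd26 yd22 zd50) (kd xd17 yd57 zd23) (kd xd26 yd22 zd51) (kd xd23 yd14 zd11) (kd xd10 yd16 zd23) (kd xd8 yd46 zd39) (kd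 xd11 yd8 zd26) (kd xd21 yd40 zd12) (kd xd9 yd7 zd35) (kd xd19 yd58 zd60) (kd xd19 yd48 zd11) (kd xd19 yd48 zd7) (kd xd26 yd7 zd27) (kd xd21 yd51 zd53) (kd xd10 yd57 zd40) (kd xd10 yd57 zd46) (kd xd8 yd46 zd45) (kd xd19 yd58 zd61) (kd xd26 yd22 zd61) (kd xd16 yd48 zd58) (kd xd8 yd46 zd46) (kd xd16 yd24 zd49) (kd xd16 yd48 zd57) (kd xd8 yd46 zd47) (kd xd26 yd23 zd4) (kd xd8 yd46 zd49) (kd xd15 yd8 zd48) (kd xd19 yd48 zd10) (kd xd16 yd25 zd7) (kd xd12 yd22 zd31) (kd xd15 yd13 zd47) (kd xd25 yd2 zd6) (kd xd24 yd44 zd29) (kd xd8 yd46 zd52) (kd xd25 yd11 zd35) (kd xd19 yd48 zd9) (kd xd26 yd23 zd14) (kd xd12 yd5 zd60) (kd xd8 yd46 zd54) (kd xd21 yd11 zd46) (kd xd8 yd46 zd55) (kd xd13 yd26 zd44) (kd xd26 yd23 zd18) (kd xd12 yd35 zd11) (kd xd26 yd23 zd21) (kd xd23 yd10 zd17)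 (kd xd8 yd46 zd58) (kd xd25 yd59 zd14)) (@D3.rec (fun _ => Pt) (kd xd8 yd46 zd59) (kd xd13 yd31 zd17) (kd xd26 yd23 zd27) (kd xd8 yd46 zd61) (kd xd10 yd26 zd40) (kd xd8 yd47 zd0) (kd xd18 yd19 zd47) (kd xd20 yd59 zd38) (kd xd14 yd56 zd56) (kd xd8 yd47 zd2) (kd xd23 yd18 zd46) (kd xd26 yd23 zd32) (kd xd26 yd23 zd34) (kd xd26 yd23 zd36) (kd xd24 yd39 zd51) (kd xd8 yd47 zd5) (kd xd26 yd23 zd40) (kd xd23 yd10 zd12) (kd xd19 yd17 zd41) (kd xd19 yd17 zd42) (kd xd8 yd47 zd7) (kd xd21 yd7 zd51) (kd xd26 yd22 zd29) (kd xd26 yd22 zd9) (kd xd26 yd5 zd45) (kd xd8 yd47 zd9) (kd xd20 yd50 zd25) (kd xd19 yd26 zd12) (kd xd22 yd49 zd53) (kd xd9 yd44 zd46) (kd xd23 yd56 zd51) (kd xd22 yd55 zd29) (kd xd13 yd38 zd28) (kd xd19 yd31 zd6) (kd xd20 yd42 zd37) (kd xd24 yd4 zd60) (kd xd8 yd47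 zd14) (kd xd26 yd23 zd56) (kd xd16 yd12 zd8) (kd xd18 yd2 zd38) (kd xd26 yd23 zd57) (kd xd8 yd47 zd16) (kd xd13 yd38 zd13) (kd xd8 yd51 zd20) (kd xd16 yd25 zd1) (kd xd10 yd56 zd9) (kd xd13 yd23 zd16) (kd xd8 yd47 zd19) (kd xd24 yd54 zd33) (kd xd10 yd56 zd8) (kd xd15 yd8 zd34) (kd xd26 yd22 zd37) (kd xd10 yd51 zd6) (kd xd15 yd13 zd9) (kd xd10 yd57 zd12) (kd xd10 yd51 zd5) (kd xd12 yd22 zd33) (kd xd24 yd11 zd54) (kd xd25 yd15 zd14) (kd xd10 yd40 zd30) (kd xd8 yd47 zd24) (kd xd25 yd4 zd56)) (@D3.rec (fun _ => Pt) (kd xd16 yd12 zd23) (kd xd16 yd27 zd20) (kd xd21 yd29 zd18) (kd xd12 yd5 zd54) (kd xd26 yd24 zd17) (kd xd24 yd55 zd22) (kd xd16 yd27 zd13) (kd xd15 yd34 zd27) (kd xd26 yd24 zd23) (kd xd18 yd19 zd52) (kd xd26 yd18 zd61) (kd xd16 yd33 zd55) (kd xd8 yd47 zd33) (kd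 xd16 yd27 zd6) (kd xd22 yd9 zd40) (kd xd26 yd24 zd30) (kd xd26 yd24 zd32) (kd xd22 yd55 zd33) (kd xd22 yd27 zd2) (kd xd13 yd40 zd35) (kd xd16 yd27 zd1) (kd xd13 yd44 zd8) (kd xd11 yd4 zd8) (kd xd13 yd40 zd2) (kd xd25 yd54 zd32) (kd xd26 yd24 zd40) (kd xd26 yd24 zd41) (kd xd26 yd24 zd42) (kd xd8 yd47 zd39) (kd xd9 yd47 zd14) (kd xd25 yd25 zd58) (kd xd17 yd32 zd50) (kd xd22 yd30 zd43) (kd xd22 yd30 zd44) (kd xd8 yd47 zd43) (kd xd11 yd8 zd23) (kd xd11 yd6 zd11) (kd xd9 yd7 zd8) (kd xd26 yd24 zd51) (kd xd21 yd30 zd4) (kd xd17 yd15 zd30) (kd xd11 yd13 zd23) (kd xd15 yd57 zd49) (kd xd26 yd24 zd55) (kd xd20 yd21 zd1) (kd xd26 yd19 zd1) (kd xd8 yd47 zd50) (kd xd9 yd19 zd30) (kd xd12 yd7 zd58) (kd xd9 yd51 zd36) (kd xd16 yd31 zd55) (kd xd9 yd19 zd38) (kd xd8 yd47 zd53) (kd xd26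 yd25 zd5) (kd xd9 yd51 zd35) (kd xd23 yd9 zd15) (kd xd8 yd51 zd33) (kd xd8 yd47 zd55) (kd xd16 yd33 zd36) (kd xd11 yd0 zd23) (kd xd20 yd21 zd13) (kd xd8 yd58 zd45)) (@D3.rec (fun _ => Pt) (kd xd8 yd47 zd58) (kd xd10 yd57 zd59) (kd xd21 yd4 zd19) (kd xd18 yd39 zd57) (kd xd18 yd39 zd58) (kd xd16 yd13 zd4) (kd xd26 yd25 zd16) (kd xd26 yd25 zd17) (kd xd22 yd51 zd57) (kd xd21 yd7 zd58) (kd xd8 yd48 zd5) (kd xd16 yd28 zd37) (kd xd26 yd25 zd22) (kd xd26 yd25 zd23) (kd xd23 yd5 zd3) (kd xd26 yd23 zd53) (kd xd16 yd59 zd28) (kd xd11 yd24 zd37) (kd xd24 yd9 zd17) (kd xd22 yd52 zd45) (kd xd8 yd48 zd12) (kd xd8 yd48 zd13) (kd xd11 yd40 zd14) (kd xd11 yd40 zd15) (kd xd26 yd25 zd31) (kd xd26 yd25 zd33) (kd xd8 yd48 zd18) (kd xd12 yd46 zd4) (kd xd8 yd48 zd21) (kd xd11 yd24 zd38) (kd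 xd12 yd28 zd56) (kd xd12 yd28 zd57) (kd xd8 yd48 zd23) (kd xd26 yd25 zd37) (kd xd19 yd39 zd21) (kd xd8 yd48 zd25) (kd xd20 yd29 zd14) (kd xd16 yd28 zd11) (kd xd8 yd48 zd27) (kd xd8 yd48 zd28) (kd xd24 yd38 zd8) (kd xd22 yd29 zd26) (kd xd15 yd18 zd17) (kd xd25 yd49 zd23) (kd xd26 yd25 zd44) (kd xd8 yd48 zd31) (kd xd12 yd8 zd11) (kd xd8 yd50 zd56) (kd xd16 yd31 zd46) (kd xd18 yd2 zd53) (kd xd12 yd8 zd13) (kd xd18 yd2 zd56) (kd xd19 yd50 zd42) (kd xd8 yd48 zd36) (kd xd15 yd10 zd13) (kd xd9 yd2 zd39) (kd xd17 yd15 zd17) (kd xd16 yd43 zd2) (kd xd16 yd43 zd3) (kd xd18 yd40 zd53) (kd xd16 yd19 zd54) (kd xd26 yd26 zd1)) (@D3.rec (fun _ => Pt) (kd xd26 yd26 zd4) (kd xd26 yd26 zd5) (kd xd8 yd48 zd41) (kd xd26 yd26 zd9) (kd xd15 yd34 zd31) (kd xd17 yd57 zd20) (kd xd15 yd40 zd27)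 (kd xd11 yd59 zd39) (kd xd10 yd24 zd24) (kd xd23 yd16 zd54) (kd xd23 yd16 zd55) (kd xd25 yd40 zd41) (kd xd26 yd26 zd12) (kd xd26 yd26 zd13) (kd xd8 yd48 zd51) (kd xd26 yd26 zd18) (kd xd26 yd26 zd20) (kd xd19 yd2 zd16) (kd xd18 yd41 zd10) (kd xd23 yd31 zd38) (kd xd23 yd31 zd39) (kd xd8 yd48 zd59) (kd xd8 yd48 zd60) (kd xd15 yd13 zd15) (kd xd12 yd6 zd13) (kd xd8 yd49 zd0) (kd xd14 yd13 zd47) (kd xd11 yd57 zd34) (kd xd23 yd24 zd44) (kd xd26 yd26 zd23) (kd xd26 yd26 zd24) (kd xd25 yd46 zd25) (kd xd20 yd28 zd6) (kd xd20 yd24 zd25) (kd xd8 yd49 zd9) (kd xd16 yd30 zd35) (kd xd8 yd49 zd11) (kd xd18 yd42 zd49) (kd xd13 yd50 zd21) (kd xd18 yd42 zd5) (kd xd19 yd18 zd20) (kd xd26 yd26 zd32) (kd xd26 yd26 zd34) (kd xd8 yd49 zd14) (kd xd16 yd30 zd15) (kd xd26 yd24 zd48) (kd xd14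 yd50 zd49) (kd xd17 yd3 zd9) (kd xd15 yd59 zd14) (kd xd26 yd26 zd37) (kd xd26 yd26 zd39) (kd xd8 yd49 zd18) (kd xd26 yd26 zd43) (kd xd11 yd39 zd31) (kd xd11 yd39 zd34) (kd xd26 yd26 zd45) (kd xd15 yd3 zd36) (kd xd26 yd26 zd46) (kd xd8 yd49 zd20) (kd xd8 yd49 zd21) (kd xd20 yd0 zd36) (kd xd8 yd49 zd23)) (@D3.rec (fun _ => Pt) (kd xd20 yd54 zd35) (kd xd8 yd49 zd26) (kd xd26 yd26 zd50) (kd xd8 yd49 zd27) (kd xd16 yd30 zd56) (kd xd11 yd13 zd51) (kd xd10 yd46 zd36) (kd xd8 yd49 zd29) (kd xd11 yd15 zd14) (kd xd13 yd41 zd26) (kd xd26 yd26 zd60) (kd xd26 yd27 zd0) (kd xd13 yd28 zd44) (kd xd8 yd49 zd32) (kd xd14 yd10 zd13) (kd xd16 yd29 zd44) (kd xd21 yd14 zd38) (kd xd8 yd49 zd36) (kd xd26 yd27 zd2) (kd xd8 yd49 zd37) (kd xd8 yd50 zd5) (kd xd8 yd49 zd40) (kd xd20 yd17 zd25)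 (kd xd26 yd27 zd3) (kd xd8 yd49 zd41) (kd xd15 yd50 zd25) (kd xd13 yd27 zd7) (kd xd20 yd26 zd2) (kd xd19 yd32 zd55) (kd xd8 yd49 zd47) (kd xd8 yd49 zd48) (kd xd8 yd49 zd50) (kd xd9 yd55 zd52) (kd xd9 yd55 zd51) (kd xd17 yd56 zd47) (kd xd16 yd29 zd35) (kd xd8 yd49 zd59) (kd xd8 yd49 zd57) (kd xd21 yd4 zd17) (kd xd8 yd49 zd58) (kd xd26 yd27 zd9) (kd xd8 yd49 zd61) (kd xd20 yd0 zd26) (kd xd8 yd50 zd4) (kd xd26 yd27 zd11) (kd xd18 yd58 zd50) (kd xd18 yd20 zd5) (kd xd11 yd20 zd12) (kd xd20 yd6 zd31) (kd xd8 yd50 zd8) (kd xd26 yd27 zd13) (kd xd20 yd17 zd48) (kd xd8 yd50 zd9) (kd xd19 yd2 zd17) (kd xd8 yd50 zd10) (kd xd23 yd32 zd26) (kd xd16 yd30 zd4) (kd xd19 yd2 zd30) (kd xd26 yd27 zd17) (kd xd8 yd50 zd12) (kd xd10 yd29 zd8) (kd xd26 yd27 zd19)) (@D3.rec (fun _ => Pt) (kd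 xd8 yd50 zd13) (kd xd8 yd50 zd15) (kd xd26 yd27 zd24) (kd xd15 yd30 zd19) (kd xd8 yd50 zd16) (kd xd18 yd19 zd31) (kd xd26 yd27 zd28) (kd xd11 yd55 zd47) (kd xd8 yd50 zd17) (kd xd26 yd27 zd32) (kd xd24 yd53 zd20) (kd xd19 yd33 zd17) (kd xd26 yd27 zd37) (kd xd8 yd50 zd19) (kd xd26 yd27 zd41) (kd xd25 yd46 zd19) (kd xd13 yd27 zd57) (kd xd26 yd27 zd49) (kd xd18 yd19 zd4) (kd xd26 yd27 zd54) (kd xd18 yd59 zd25) (kd xd22 yd1 zd42) (kd xd26 yd27 zd61) (kd xd8 yd50 zd24) (kd xd17 yd22 zd58) (kd xd26 yd28 zd3) (kd xd26 yd28 zd4) (kd xd26 yd28 zd5) (kd xd22 yd2 zd30) (kd xd21 yd54 zd5) (kd xd21 yd54 zd4) (kd xd8 yd50 zd30) (kd xd19 yd12 zd41) (kd xd26 yd28 zd8) (kd xd26 yd28 zd10) (kd xd8 yd50 zd31) (kd xd22 yd52 zd44) (kd xd26 yd28 zd13) (kd xd8 yd50 zd32) (kd xd14 yd45 zd13)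 (kd xd26 yd28 zd15) (kd xd24 yd9 zd13) (kd xd12 yd7 zd8) (kd xd20 yd20 zd61) (kd xd26 yd22 zd48) (kd xd21 yd4 zd18) (kd xd16 yd28 zd48) (kd xd11 yd35 zd36) (kd xd8 yd50 zd37) (kd xd14 yd59 zd58) (kd xd26 yd22 zd49) (kd xd26 yd28 zd22) (kd xd8 yd50 zd39) (kd xd8 yd50 zd40) (kd xd21 yd10 zd36) (kd xd16 yd27 zd50) (kd xd8 yd50 zd42) (kd xd13 yd57 zd60) (kd xd9 yd19 zd31) (kd xd26 yd28 zd26) (kd xd26 yd28 zd28) (kd xd8 yd50 zd46)) (@D3.rec (fun _ => Pt) (kd xd26 yd28 zd31) (kd xd8 yd50 zd47) (kd xd19 yd0 zd50) (kd xd26 yd28 zd36) (kd xd8 yd50 zd48) (kd xd26 yd28 zd40) (kd xd26 yd28 zd41) (kd xd19 yd27 zd18) (kd xd8 yd50 zd50) (kd xd13 yd42 zd45) (kd xd26 yd28 zd47) (kd xd8 yd50 zd51) (kd xd10 yd2 zd25) (kd xd21 yd28 zd39) (kd xd26 yd21 zd2) (kd xd20 yd21 zd2) (kd xd21 yd13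 zd16) (kd xd12 yd7 zd9) (kd xd20 yd28 zd50) (kd xd26 yd28 zd57) (kd xd26 yd28 zd59) (kd xd8 yd50 zd54) (kd xd26 yd25 zd51) (kd xd26 yd21 zd0) (kd xd26 yd25 zd52) (kd xd21 yd4 zd10) (kd xd26 yd20 zd60) (kd xd8 yd50 zd57) (kd xd17 yd9 zd17) (kd xd26 yd20 zd57) (kd xd17 yd9 zd19) (kd xd25 yd3 zd53) (kd xd26 yd21 zd10) (kd xd26 yd29 zd18) (kd xd8 yd50 zd59) (kd xd24 yd46 zd49) (kd xd14 yd59 zd22) (kd xd13 yd16 zd34) (kd xd24 yd8 zd19) (kd xd8 yd51 zd0) (kd xd21 yd13 zd34) (kd xd22 yd16 zd12) (kd xd23 yd36 zd29) (kd xd8 yd51 zd1) (kd xd26 yd29 zd26) (kd xd26 yd29 zd27) (kd xd22 yd38 zd0) (kd xd15 yd8 zd14) (kd xd25 yd16 zd28) (kd xd23 yd20 zd45) (kd xd23 yd20 zd44) (kd xd15 yd50 zd33) (kd xd22 yd48 zd35) (kd xd26 yd29 zd36) (kd xd8 yd51 zd4) (kd xd18 yd19 zd48) (kd xd21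 yd13 zd2) (kd xd26 yd21 zd5) (kd xd21 yd12 zd35) (kd xd18 yd56 zd30) (kd xd16 yd23 zd40) (kd xd11 yd12 zd61)) (@D3.rec (fun _ => Pt) (kd xd23 yd51 zd24) (kd xd16 yd22 zd35) (kd xd24 yd55 zd9) (kd xd8 yd51 zd8) (kd xd25 yd0 zd38) (kd xd26 yd29 zd51) (kd xd20 yd45 zd38) (kd xd8 yd51 zd9) (kd xd10 yd12 zd49) (kd xd15 yd10 zd9) (kd xd25 yd16 zd29) (kd xd8 yd51 zd11) (kd xd8 yd51 zd14) (kd xd26 yd29 zd57) (kd xd21 yd30 zd25) (kd xd8 yd51 zd15) (kd xd12 yd45 zd46) (kd xd22 yd26 zd35) (kd xd26 yd29 zd60) (kd xd8 yd51 zd17) (kd xd26 yd30 zd2) (kd xd8 yd51 zd18) (kd xd26 yd23 zd61) (kd xd26 yd21 zd4) (kd xd22 yd17 zd25) (kd xd26 yd30 zd9) (kd xd8 yd51 zd21) (kd xd14 yd2 zd44) (kd xd8 yd51 zd22) (kd xd24 yd34 zd14) (kd xd8 yd51 zd25) (kd xd16 yd23 zd2) (kd xd26 yd30 zd14) (kd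 xd8 yd51 zd27) (kd xd21 yd13 zd21) (kd xd14 yd59 zd51) (kd xd16 yd27 zd58) (kd xd26 yd30 zd23) (kd xd21 yd13 zd22) (kd xd12 yd52 zd59) (kd xd8 yd51 zd30) (kd xd22 yd53 zd21) (kd xd26 yd13 zd42) (kd xd26 yd30 zd31) (kd xd8 yd51 zd32) (kd xd20 yd32 zd8) (kd xd19 yd6 zd33) (kd xd26 yd30 zd33) (kd xd21 yd28 zd38) (kd xd26 yd30 zd36) (kd xd26 yd30 zd39) (kd xd26 yd30 zd43) (kd xd8 yd51 zd35) (kd xd12 yd8 zd26) (kd xd18 yd2 zd34) (kd xd16 yd27 zd11) (kd xd16 yd34 zd12) (kd xd26 yd30 zd54) (kd xd26 yd30 zd58) (kd xd24 yd59 zd22) (kd xd15 yd10 zd6) (kd xd26 yd30 zd60)) (@D3.rec (fun _ => Pt) (kd xd20 yd26 zd20) (kd xd16 yd34 zd7) (kd xd26 yd15 zd31) (kd xd26 yd28 zd24) (kd xd17 yd15 zd22) (kd xd20 yd26 zd22) (kd xd18 yd18 zd55) (kd xd16 yd34 zd1) (kd xd26 yd31 zd15) (kd xd26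 yd31 zd19) (kd xd26 yd31 zd21) (kd xd18 yd18 zd58) (kd xd16 yd33 zd56) (kd xd26 yd31 zd28) (kd xd26 yd31 zd31) (kd xd26 yd31 zd34) (kd xd21 yd12 zd52) (kd xd16 yd34 zd36) (kd xd16 yd34 zd41) (kd xd16 yd34 zd28) (kd xd24 yd48 zd8) (kd xd26 yd31 zd42) (kd xd26 yd31 zd44) (kd xd26 yd31 zd45) (kd xd8 yd51 zd50) (kd xd26 yd30 zd46) (kd xd11 yd8 zd7) (kd xd15 yd13 zd48) (kd xd16 yd34 zd19) (kd xd15 yd0 zd41) (kd xd26 yd31 zd57) (kd xd25 yd2 zd1) (kd xd15 yd13 zd51) (kd xd9 yd10 zd34) (kd xd13 yd38 zd27) (kd xd15 yd6 zd9) (kd xd16 yd34 zd17) (kd xd26 yd15 zd36) (kd xd12 yd22 zd46) (kd xd15 yd6 zd11) (kd xd24 yd48 zd16) (kd xd16 yd34 zd18) (kd xd26 yd32 zd2) (kd xd16 yd42 zd37) (kd xd10 yd46 zd35) (kd xd20 yd27 zd15) (kd xd24 yd12 zd43) (kd xd8 yd52 zd2) (kd xd26 yd32 zd17)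 (kd xd21 yd44 zd50) (kd xd8 yd52 zd5) (kd xd26 yd32 zd20) (kd xd18 yd49 zd41) (kd xd18 yd49 zd40) (kd xd8 yd52 zd7) (kd xd17 yd2 zd58) (kd xd21 yd53 zd53) (kd xd21 yd53 zd52) (kd xd16 yd53 zd17) (kd xd8 yd52 zd9) (kd xd13 yd40 zd44) (kd xd13 yd49 zd29)) (@D3.rec (fun _ => Pt) (kd xd13 yd49 zd34) (kd xd13 yd40 zd48) (kd xd23 yd13 zd48) (kd xd8 yd52 zd12) (kd xd26 yd32 zd29) (kd xd10 yd3 zd29) (kd xd12 yd23 zd51) (kd xd21 yd13 zd61) (kd xd8 yd52 zd15) (kd xd23 yd7 zd22) (kd xd14 yd22 zd49) (kd xd12 yd7 zd6) (kd xd21 yd14 zd5) (kd xd8 yd52 zd18) (kd xd20 yd32 zd13) (kd xd19 yd58 zd54) (kd xd8 yd52 zd20) (kd xd26 yd32 zd32) (kd xd20 yd20 zd47) (kd xd20 yd6 zd27) (kd xd20 yd27 zd22) (kd xd13 yd30 zd50) (kd xd16 yd51 zd40) (kd xd20 yd6 zd25) (kd xd26 yd32 zd41) (kd xd20 yd6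 zd26) (kd xd26 yd32 zd46) (kd xd26 yd32 zd48) (kd xd10 yd29 zd9) (kd xd8 yd52 zd28) (kd xd16 yd52 zd53) (kd xd16 yd53 zd18) (kd xd12 yd46 zd39) (kd xd21 yd15 zd25) (kd xd21 yd28 zd49) (kd xd12 yd46 zd21) (kd xd8 yd52 zd32) (kd xd26 yd32 zd52) (kd xd19 yd48 zd17) (kd xd18 yd39 zd33) (kd xd18 yd58 zd51) (kd xd8 yd52 zd34) (kd xd22 yd31 zd32) (kd xd11 yd34 zd13) (kd xd11 yd23 zd14) (kd xd12 yd7 zd45) (kd xd8 yd52 zd38) (kd xd13 yd14 zd3) (kd xd24 yd0 zd57) (kd xd13 yd41 zd34) (kd xd8 yd52 zd41) (kd xd19 yd48 zd20) (kd xd8 yd52 zd43) (kd xd20 yd19 zd37) (kd xd12 yd47 zd14) (kd xd26 yd32 zd60) (kd xd8 yd52 zd44) (kd xd23 yd42 zd29) (kd xd12 yd38 zd36) (kd xd26 yd33 zd0) (kd xd8 yd52 zd45) (kd xd23 yd32 zd7)) (@D3.rec (fun _ => Pt) (kd xd8 yd52 zd46) (kd xd18 yd19 zd39) (kd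 xd18 yd19 zd40) (kd xd14 yd8 zd15) (kd xd10 yd30 zd19) (kd xd8 yd52 zd48) (kd xd26 yd33 zd6) (kd xd12 yd55 zd61) (kd xd17 yd30 zd49) (kd xd26 yd27 zd21) (kd xd26 yd27 zd20) (kd xd10 yd30 zd25) (kd xd9 yd46 zd42) (kd xd16 yd39 zd35) (kd xd16 yd39 zd36) (kd xd22 yd4 zd5) (kd xd26 yd33 zd11) (kd xd20 yd39 zd14) (kd xd8 yd52 zd55) (kd xd26 yd33 zd15) (kd xd19 yd40 zd43) (kd xd25 yd45 zd7) (kd xd25 yd45 zd8) (kd xd20 yd38 zd33) (kd xd8 yd52 zd58) (kd xd26 yd33 zd21) (kd xd26 yd33 zd24) (kd xd20 yd56 zd12) (kd xd20 yd56 zd13) (kd xd8 yd52 zd60) (kd xd24 yd12 zd6) (kd xd22 yd26 zd23) (kd xd26 yd33 zd26) (kd xd26 yd33 zd29) (kd xd8 yd54 zd53) (kd xd8 yd53 zd1) (kd xd8 yd53 zd4) (kd xd16 yd39 zd8) (kd xd10 yd29 zd37) (kd xd8 yd54 zd56) (kd xd26 yd33 zd38) (kd xd26 yd33 zd42)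 (kd xd8 yd53 zd6) (kd xd26 yd33 zd43) (kd xd26 yd11 zd13) (kd xd26 yd33 zd45) (kd xd26 yd33 zd46) (kd xd10 yd19 zd34) (kd xd8 yd53 zd7) (kd xd19 yd44 zd50) (kd xd26 yd33 zd52) (kd xd26 yd33 zd54) (kd xd10 yd20 zd39) (kd xd8 yd53 zd8) (kd xd26 yd33 zd57) (kd xd8 yd53 zd9) (kd xd25 yd7 zd53) (kd xd25 yd7 zd54) (kd xd19 yd31 zd31) (kd xd20 yd55 zd39) (kd xd26 yd34 zd2) (kd xd9 yd41 zd1)) (@D3.rec (fun _ => Pt) (kd xd26 yd34 zd8) (kd xd10 yd47 zd42) (kd xd20 yd58 zd20) (kd xd26 yd34 zd12) (kd xd26 yd34 zd13) (kd xd20 yd55 zd46) (kd xd8 yd53 zd15) (kd xd24 yd51 zd35) (kd xd24 yd51 zd36) (kd xd26 yd1 zd60) (kd xd26 yd34 zd23) (kd xd8 yd53 zd17) (kd xd18 yd18 zd44) (kd xd26 yd11 zd11) (kd xd26 yd11 zd12) (kd xd26 yd34 zd29) (kd xd8 yd53 zd21) (kd xd22 yd1 zd33) (kd xd26 yd34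 zd37) (kd xd22 yd27 zd26) (kd xd22 yd27 zd25) (kd xd8 yd53 zd23) (kd xd26 yd34 zd41) (kd xd22 yd27 zd23) (kd xd22 yd27 zd20) (kd xd8 yd55 zd17) (kd xd8 yd55 zd18) (kd xd16 yd41 zd23) (kd xd8 yd53 zd27) (kd xd26 yd34 zd50) (kd xd26 yd34 zd52) (kd xd22 yd24 zd59) (kd xd22 yd24 zd58) (kd xd8 yd53 zd29) (kd xd25 yd22 zd29) (kd xd25 yd22 zd32) (kd xd16 yd39 zd38) (kd xd8 yd53 zd30) (kd xd26 yd35 zd1) (kd xd26 yd35 zd4) (kd xd8 yd53 zd32) (kd xd26 yd35 zd6) (kd xd26 yd35 zd7) (kd xd26 yd35 zd9) (kd xd26 yd35 zd11) (kd xd8 yd53 zd33) (kd xd26 yd35 zd14) (kd xd26 yd35 zd15) (kd xd8 yd53 zd35) (kd xd26 yd35 zd17) (kd xd26 yd35 zd20) (kd xd8 yd53 zd36) (kd xd26 yd35 zd24) (kd xd26 yd35 zd27) (kd xd26 yd35 zd29) (kd xd8 yd53 zd37) (kd xd26 yd35 zd31) (kd xd8 yd53 zd38) (kd xd26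 yd35 zd34) (kd xd8 yd54 zd17) (kd xd8 yd54 zd18) (kd xd26 yd35 zd41)) (@D3.rec (fun _ => Pt) (kd xd26 yd35 zd44) (kd xd26 yd35 zd47) (kd xd8 yd53 zd40) (kd xd26 yd35 zd52) (kd xd8 yd54 zd14) (kd xd11 yd53 zd15) (kd xd8 yd54 zd16) (kd xd20 yd56 zd4) (kd xd26 yd35 zd57) (kd xd26 yd35 zd60) (kd xd8 yd53 zd43) (kd xd26 yd36 zd3) (kd xd26 yd36 zd5) (kd xd8 yd53 zd44) (kd xd26 yd36 zd9) (kd xd8 yd53 zd45) (kd xd26 yd36 zd13) (kd xd10 yd37 zd4) (kd xd10 yd37 zd5) (kd xd26 yd36 zd23) (kd xd8 yd53 zd47) (kd xd26 yd36 zd26) (kd xd26 yd36 zd28) (kd xd8 yd53 zd48) (kd xd8 yd53 zd49) (kd xd26 yd36 zd33) (kd xd26 yd36 zd35) (kd xd10 yd16 zd30) (kd xd10 yd36 zd52) (kd xd26 yd36 zd42) (kd xd8 yd53 zd52) (kd xd19 yd13 zd25) (kd xd24 yd48 zd29) (kd xd20 yd27 zd12) (kd xd24 yd22 zd57)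 (kd xd17 yd26 zd2) (kd xd26 yd36 zd48) (kd xd8 yd53 zd55) (kd xd26 yd36 zd45) (kd xd15 yd19 zd15) (kd xd25 yd9 zd14) (kd xd8 yd53 zd57) (kd xd26 yd36 zd53) (kd xd16 yd48 zd8) (kd xd8 yd53 zd58) (kd xd26 yd36 zd58) (kd xd8 yd53 zd59) (kd xd26 yd37 zd1) (kd xd8 yd54 zd35) (kd xd8 yd54 zd36) (kd xd26 yd37 zd8) (kd xd26 yd37 zd11) (kd xd26 yd37 zd15) (kd xd16 yd38 zd60) (kd xd8 yd53 zd61) (kd xd26 yd37 zd20) (kd xd26 yd37 zd21) (kd xd20 yd39 zd4) (kd xd8 yd54 zd0) (kd xd21 yd1 zd40) (kd xd16 yd38 zd53) (kd xd8 yd54 zd1)) (@D3.rec (fun _ => Pt) (kd xd16 yd39 zd52) (kd xd26 yd37 zd28) (kd xd8 yd54 zd2) (kd xd20 yd56 zd56) (kd xd26 yd2 zd47) (kd xd19 yd40 zd47) (kd xd8 yd54 zd4) (kd xd26 yd37 zd35) (kd xd16 yd36 zd37) (kd xd26 yd37 zd37) (kd xd8 yd54 zd7) (kd xd26 yd1 zd59)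 (kd xd19 yd50 zd28) (kd xd26 yd3 zd17) (kd xd15 yd3 zd4) (kd xd19 yd57 zd61) (kd xd19 yd4 zd47) (kd xd8 yd54 zd10) (kd xd8 yd54 zd11) (kd xd18 yd58 zd7) (kd xd26 yd37 zd46) (kd xd8 yd54 zd21) (kd xd19 yd14 zd16) (kd xd11 yd53 zd16) (kd xd8 yd54 zd15) (kd xd24 yd26 zd49) (kd xd24 yd26 zd24) (kd xd26 yd35 zd53) (kd xd26 yd35 zd36) (kd xd26 yd37 zd54) (kd xd22 yd4 zd20) (kd xd26 yd35 zd37) (kd xd15 yd2 zd8) (kd xd8 yd54 zd19) (kd xd18 yd2 zd61) (kd xd16 yd36 zd13) (kd xd16 yd36 zd14) (kd xd11 yd3 zd11) (kd xd16 yd37 zd36) (kd xd18 yd3 zd0) (kd xd26 yd38 zd2) (kd xd15 yd17 zd33) (kd xd26 yd38 zd6) (kd xd26 yd38 zd8) (kd xd8 yd54 zd24) (kd xd26 yd38 zd10) (kd xd10 yd49 zd28) (kd xd8 yd54 zd25) (kd xd15 yd17 zd35) (kd xd8 yd54 zd26) (kd xd20 yd56 zd33) (kd xd11 yd52 zd49)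 (kd xd16 yd39 zd0) (kd xd26 yd38 zd17) (kd xd8 yd54 zd28) (kd xd26 yd38 zd20) (kd xd8 yd54 zd29) (kd xd11 yd38 zd5) (kd xd26 yd38 zd24) (kd xd8 yd54 zd31) (kd xd22 yd24 zd55) (kd xd26 yd38 zd29)) (@D3.rec (fun _ => Pt) (kd xd26 yd38 zd31) (kd xd20 yd29 zd29) (kd xd8 yd54 zd34) (kd xd26 yd37 zd3) (kd xd26 yd38 zd35) (kd xd8 yd54 zd37) (kd xd26 yd38 zd39) (kd xd15 yd17 zd36) (kd xd26 yd38 zd42) (kd xd26 yd38 zd45) (kd xd26 yd38 zd47) (kd xd26 yd38 zd49) (kd xd8 yd54 zd39) (kd xd26 yd38 zd53) (kd xd26 yd38 zd54) (kd xd26 yd38 zd56) (kd xd8 yd54 zd40) (kd xd26 yd38 zd61) (kd xd26 yd39 zd0) (kd xd8 yd54 zd41) (kd xd26 yd33 zd14) (kd xd26 yd39 zd2) (kd xd8 yd54 zd42) (kd xd11 yd52 zd55) (kd xd20 yd27 zd27) (kd xd8 yd54 zd44) (kd xd26 yd39 zd8) (kd xd8 yd54 zd45) (kd xd26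 yd39 zd9) (kd xd8 yd54 zd47) (kd xd18 yd22 zd12) (kd xd26 yd39 zd15) (kd xd18 yd22 zd14) (kd xd26 yd39 zd19) (kd xd18 yd22 zd4) (kd xd8 yd54 zd50) (kd xd26 yd39 zd20) (kd xd26 yd39 zd21) (kd xd26 yd39 zd23) (kd xd8 yd54 zd52) (kd xd18 yd54 zd5) (kd xd17 yd48 zd49) (kd xd17 yd48 zd48) (kd xd8 yd54 zd59) (kd xd26 yd19 zd40) (kd xd10 yd7 zd56) (kd xd15 yd17 zd32) (kd xd26 yd39 zd30) (kd xd8 yd54 zd57) (kd xd11 yd54 zd22) (kd xd26 yd39 zd35) (kd xd8 yd54 zd58) (kd xd11 yd54 zd12) (kd xd21 yd7 zd46) (kd xd26 yd39 zd38) (kd xd26 yd39 zd39) (kd xd26 yd39 zd41) (kd xd8 yd54 zd60) (kd xd18 yd53 zd59) (kd xd26 yd39 zd45) (kd xd26 yd39 zd47) (kd xd26 yd39 zd49)) (@D3.rec (fun _ => Pt) (kd xd8 yd55 zd0) (kd xd10 yd41 zd2) (kd xd10 yd41 zd3) (kd xd15 yd27 zd44) (kd xd8 yd55 zd2)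 (kd xd11 yd52 zd60) (kd xd11 yd52 zd59) (kd xd8 yd55 zd4) (kd xd8 yd55 zd5) (kd xd26 yd39 zd54) (kd xd8 yd55 zd10) (kd xd8 yd55 zd6) (kd xd26 yd39 zd12) (kd xd25 yd22 zd28) (kd xd26 yd39 zd55) (kd xd19 yd55 zd3) (kd xd8 yd55 zd7) (kd xd26 yd39 zd57) (kd xd17 yd56 zd25) (kd xd19 yd39 zd4) (kd xd8 yd55 zd8) (kd xd26 yd39 zd61) (kd xd19 yd33 zd56) (kd xd16 yd37 zd27) (kd xd8 yd55 zd11) (kd xd26 yd40 zd3) (kd xd8 yd55 zd12) (kd xd20 yd38 zd44) (kd xd22 yd4 zd4) (kd xd26 yd38 zd22) (kd xd26 yd40 zd6) (kd xd26 yd40 zd10) (kd xd8 yd55 zd13) (kd xd9 yd6 zd27) (kd xd15 yd44 zd44) (kd xd20 yd23 zd56) (kd xd26 yd40 zd13) (kd xd8 yd55 zd15) (kd xd20 yd38 zd45) (kd xd10 yd47 zd45) (kd xd10 yd47 zd44) (kd xd11 yd19 zd25) (kd xd20 yd58 zd8) (kd xd26 yd34 zd44) (kd xd26 yd40 zd24)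 (kd xd20 yd58 zd40) (kd xd16 yd4 zd37) (kd xd8 yd55 zd34) (kd xd26 yd2 zd6) (kd xd15 yd43 zd13) (kd xd10 yd32 zd38) (kd xd8 yd55 zd19) (kd xd26 yd40 zd35) (kd xd21 yd8 zd52) (kd xd26 yd40 zd37) (kd xd26 yd40 zd38) (kd xd20 yd58 zd19) (kd xd11 yd53 zd51) (kd xd26 yd34 zd11) (kd xd8 yd55 zd26) (kd xd8 yd55 zd22) (kd xd19 yd44 zd2)) (@D3.rec (fun _ => Pt) (kd xd18 yd14 zd60) (kd xd26 yd40 zd44) (kd xd26 yd40 zd45) (kd xd8 yd55 zd24) (kd xd26 yd40 zd50) (kd xd16 yd42 zd24) (kd xd26 yd40 zd55) (kd xd26 yd40 zd42) (kd xd20 yd38 zd48) (kd xd17 yd6 zd55) (kd xd20 yd58 zd21) (kd xd16 yd9 zd11) (kd xd16 yd9 zd12) (kd xd17 yd42 zd27) (kd xd18 yd26 zd17) (kd xd21 yd20 zd24) (kd xd8 yd55 zd28) (kd xd17 yd16 zd41) (kd xd9 yd11 zd59) (kd xd8 yd55 zd29) (kd xd26 yd41 zd7) (kd xd26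 yd41 zd8) (kd xd9 yd11 zd58) (kd xd8 yd55 zd30) (kd xd16 yd42 zd5) (kd xd20 yd57 zd49) (kd xd22 yd3 zd57) (kd xd8 yd55 zd32) (kd xd26 yd41 zd13) (kd xd8 yd55 zd33) (kd xd26 yd41 zd16) (kd xd20 yd39 zd44) (kd xd19 yd40 zd44) (kd xd26 yd36 zd32) (kd xd26 yd34 zd38) (kd xd26 yd41 zd21) (kd xd8 yd55 zd36) (kd xd16 yd34 zd43) (kd xd26 yd41 zd23) (kd xd8 yd55 zd37) (kd xd26 yd41 zd28) (kd xd26 yd37 zd48) (kd xd17 yd28 zd49) (kd xd8 yd55 zd40) (kd xd26 yd37 zd47) (kd xd22 yd54 zd19) (kd xd22 yd54 zd18) (kd xd26 yd41 zd31) (kd xd8 yd55 zd42) (kd xd12 yd52 zd60) (kd xd19 yd46 zd31) (kd xd15 yd41 zd16) (kd xd15 yd57 zd2) (kd xd25 yd33 zd50) (kd xd18 yd51 zd15) (kd xd18 yd51 zd16) (kd xd26 yd41 zd43) (kd xd8 yd55 zd47) (kd xd17 yd16 zd52) (kd xd17 yd10 zd22) (kd xd18 yd55 zd46)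 (kd xd18 yd55 zd47)) (@D3.rec (fun _ => Pt) (kd xd19 yd45 zd36) (kd xd12 yd51 zd27) (kd xd16 yd28 zd57) (kd xd16 yd28 zd58) (kd xd19 yd45 zd38) (kd xd22 yd8 zd21) (kd xd19 yd45 zd16) (kd xd16 yd48 zd24) (kd xd19 yd35 zd54) (kd xd19 yd45 zd18) (kd xd26 yd42 zd2) (kd xd8 yd55 zd56) (kd xd8 yd57 zd2) (kd xd8 yd57 zd3) (kd xd23 yd46 zd41) (kd xd20 yd29 zd9) (kd xd8 yd55 zd60) (kd xd25 yd59 zd19) (kd xd25 yd59 zd37) (kd xd19 yd53 zd40) (kd xd10 yd44 zd39) (kd xd10 yd44 zd40) (kd xd8 yd56 zd2) (kd xd23 yd7 zd55) (kd xd8 yd56 zd3) (kd xd20 yd50 zd30) (kd xd8 yd56 zd4) (kd xd26 yd42 zd16) (kd xd26 yd40 zd31) (kd xd8 yd59 zd22) (kd xd26 yd40 zd33) (kd xd9 yd1 zd5) (kd xd26 yd42 zd17) (kd xd11 yd57 zd51) (kd xd11 yd57 zd52) (kd xd8 yd56 zd9) (kd xd17 yd56 zd29) (kd xd20 yd0 zd57)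 (kd xd26 yd42 zd24) (kd xd25 yd36 zd29) (kd xd26 yd42 zd25) (kd xd8 yd56 zd12) (kd xd26 yd42 zd30) (kd xd26 yd42 zd32) (kd xd8 yd56 zd13) (kd xd17 yd30 zd8) (kd xd11 yd1 zd5) (kd xd19 yd20 zd59) (kd xd11 yd0 zd1) (kd xd11 yd31 zd51) (kd xd8 yd56 zd15) (kd xd26 yd42 zd34) (kd xd8 yd57 zd19) (kd xd22 yd53 zd20) (kd xd17 yd58 zd16) (kd xd8 yd57 zd22) (kd xd22 yd59 zd51) (kd xd20 yd59 zd31) (kd xd22 yd59 zd47) (kd xd8 yd56 zd20) (kd xd26 yd42 zd38) (kd xd8 yd56 zd21)) (@D3.rec (fun _ => Pt) (kd xd19 yd29 zd27) (kd xd19 yd29 zd28) (kd xd26 yd26 zd54) (kd xd8 yd56 zd23) (kd xd26 yd42 zd47) (kd xd26 yd42 zd48) (kd xd8 yd56 zd25) (kd xd18 yd44 zd9) (kd xd18 yd44 zd10) (kd xd26 yd42 zd50) (kd xd8 yd56 zd26) (kd xd26 yd42 zd56) (kd xd26 yd42 zd59) (kd xd26 yd43 zd0) (kd xd8 yd56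 zd28) (kd xd25 yd46 zd58) (kd xd25 yd46 zd59) (kd xd19 yd41 zd49) (kd xd26 yd43 zd9) (kd xd8 yd56 zd30) (kd xd25 yd48 zd4) (kd xd22 yd20 zd19) (kd xd19 yd41 zd56) (kd xd26 yd43 zd16) (kd xd8 yd56 zd32) (kd xd19 yd25 zd35) (kd xd19 yd41 zd34) (kd xd19 yd43 zd32) (kd xd26 yd43 zd21) (kd xd19 yd41 zd37) (kd xd26 yd43 zd25) (kd xd8 yd56 zd35) (kd xd14 yd17 zd47) (kd xd8 yd57 zd48) (kd xd8 yd57 zd49) (kd xd26 yd43 zd34) (kd xd14 yd26 zd0) (kd xd11 yd44 zd50) (kd xd11 yd44 zd46) (kd xd9 yd24 zd3) (kd xd18 yd41 zd53) (kd xd9 yd22 zd47) (kd xd14 yd34 zd58) (kd xd10 yd25 zd4) (kd xd10 yd52 zd33) (kd xd18 yd25 zd56) (kd xd26 yd43 zd41) (kd xd26 yd43 zd42) (kd xd25 yd50 zd19) (kd xd8 yd56 zd44) (kd xd26 yd43 zd47) (kd xd8 yd56 zd45) (kd xd11 yd19 zd18) (kd xd19 yd43 zd22) (kd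 xd25 yd10 zd18) (kd xd26 yd43 zd52) (kd xd20 yd38 zd52) (kd xd8 yd56 zd47) (kd xd26 yd43 zd56) (kd xd24 yd36 zd22) (kd xd8 yd56 zd48) (kd xd19 yd25 zd51)) (@D3.rec (fun _ => Pt) (kd xd26 yd43 zd59) (kd xd10 yd52 zd19) (kd xd8 yd56 zd50) (kd xd14 yd16 zd33) (kd xd20 yd32 zd58) (kd xd8 yd58 zd1) (kd xd26 yd44 zd0) (kd xd10 yd18 zd9) (kd xd26 yd44 zd2) (kd xd26 yd44 zd4) (kd xd8 yd56 zd53) (kd xd10 yd41 zd19) (kd xd21 yd0 zd39) (kd xd26 yd44 zd9) (kd xd8 yd56 zd55) (kd xd26 yd44 zd12) (kd xd14 yd16 zd9) (kd xd8 yd56 zd56) (kd xd26 yd2 zd61) (kd xd26 yd44 zd14) (kd xd20 yd29 zd56) (kd xd8 yd56 zd58) (kd xd16 yd47 zd37) (kd xd19 yd36 zd52) (kd xd18 yd52 zd10) (kd xd11 yd55 zd21) (kd xd8 yd57 zd0) (kd xd17 yd56 zd60) (kd xd17 yd57 zd4) (kd xd11 yd59 zd36) (kd xd26 yd42 zd3)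 (kd xd11 yd1 zd43) (kd xd21 yd3 zd50) (kd xd8 yd57 zd4) (kd xd23 yd1 zd48) (kd xd26 yd44 zd22) (kd xd8 yd57 zd6) (kd xd26 yd44 zd25) (kd xd15 yd18 zd2) (kd xd15 yd18 zd5) (kd xd8 yd57 zd7) (kd xd26 yd44 zd30) (kd xd25 yd47 zd26) (kd xd8 yd57 zd8) (kd xd19 yd57 zd11) (kd xd8 yd57 zd9) (kd xd17 yd19 zd27) (kd xd11 yd54 zd32) (kd xd25 yd7 zd55) (kd xd8 yd57 zd11) (kd xd26 yd44 zd38) (kd xd8 yd57 zd12) (kd xd26 yd34 zd25) (kd xd15 yd36 zd30) (kd xd8 yd57 zd14) (kd xd18 yd19 zd27) (kd xd26 yd44 zd44) (kd xd8 yd57 zd15) (kd xd26 yd34 zd27) (kd xd17 yd22 zd42) (kd xd19 yd39 zd16) (kd xd17 yd57 zd13)) (@D3.rec (fun _ => Pt) (kd xd8 yd57 zd20) (kd xd21 yd3 zd38) (kd xd8 yd57 zd21) (kd xd8 yd57 zd23) (kd xd22 yd59 zd48) (kd xd16 yd51 zd51) (kd xd9 yd45 zd46) (kd xd8 yd57 zd25)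 (kd xd18 yd1 zd29) (kd xd19 yd40 zd1) (kd xd17 yd57 zd7) (kd xd8 yd57 zd26) (kd xd20 yd8 zd21) (kd xd9 yd45 zd52) (kd xd26 yd44 zd50) (kd xd14 yd2 zd16) (kd xd26 yd44 zd51) (kd xd11 yd54 zd48) (kd xd14 yd7 zd50) (kd xd8 yd57 zd31) (kd xd18 yd2 zd12) (kd xd25 yd32 zd33) (kd xd11 yd8 zd33) (kd xd11 yd10 zd38) (kd xd16 yd56 zd4) (kd xd11 yd57 zd54) (kd xd19 yd10 zd49) (kd xd26 yd44 zd55) (kd xd26 yd44 zd57) (kd xd22 yd21 zd3) (kd xd26 yd43 zd29) (kd xd20 yd47 zd5) (kd xd8 yd57 zd50) (kd xd26 yd45 zd0) (kd xd26 yd45 zd1) (kd xd25 yd36 zd10) (kd xd23 yd53 zd20) (kd xd26 yd45 zd3) (kd xd8 yd57 zd52) (kd xd22 yd33 zd27) (kd xd25 yd29 zd19) (kd xd25 yd18 zd33) (kd xd8 yd57 zd54) (kd xd26 yd45 zd9) (kd xd8 yd57 zd55) (kd xd15 yd55 zd9) (kd xd15 yd55 zd8) (kd xd21 yd17 zd40)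 (kd xd8 yd57 zd57) (kd xd18 yd51 zd40) (kd xd26 yd45 zd17) (kd xd8 yd57 zd58) (kd xd9 yd16 zd51) (kd xd18 yd34 zd34) (kd xd8 yd57 zd60) (kd xd26 yd45 zd25) (kd xd8 yd58 zd0) (kd xd12 yd49 zd43) (kd xd8 yd58 zd2) (kd xd26 yd45 zd29) (kd xd18 yd42 zd60) (kd xd8 yd58 zd3)) (@D3.rec (fun _ => Pt) (kd xd26 yd45 zd31) (kd xd19 yd34 zd29) (kd xd19 yd34 zd30) (kd xd8 yd58 zd6) (kd xd17 yd24 zd3) (kd xd26 yd45 zd36) (kd xd10 yd52 zd51) (kd xd20 yd26 zd13) (kd xd26 yd45 zd39) (kd xd24 yd36 zd23) (kd xd9 yd1 zd7) (kd xd22 yd16 zd27) (kd xd12 yd49 zd2) (kd xd25 yd10 zd27) (kd xd26 yd45 zd42) (kd xd12 yd29 zd13) (kd xd26 yd45 zd43) (kd xd8 yd58 zd18) (kd xd23 yd31 zd41) (kd xd18 yd17 zd9) (kd xd19 yd54 zd17) (kd xd11 yd16 zd23) (kd xd8 yd58 zd22) (kd xd19 yd52 zd59) (kd xd19 yd52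 zd60) (kd xd14 yd0 zd6) (kd xd14 yd8 zd16) (kd xd9 yd2 zd53) (kd xd17 yd2 zd49) (kd xd23 yd41 zd47) (kd xd11 yd58 zd2) (kd xd11 yd57 zd5) (kd xd20 yd4 zd53) (kd xd8 yd58 zd27) (kd xd16 yd57 zd19) (kd xd20 yd12 zd26) (kd xd10 yd17 zd6) (kd xd16 yd45 zd22) (kd xd19 yd58 zd52) (kd xd19 yd58 zd53) (kd xd14 yd45 zd32) (kd xd8 yd58 zd36) (kd xd26 yd22 zd55) (kd xd20 yd35 zd21) (kd xd14 yd9 zd58) (kd xd8 yd58 zd38) (kd xd26 yd45 zd61) (kd xd20 yd31 zd58) (kd xd10 yd4 zd25) (kd xd12 yd29 zd23) (kd xd8 yd58 zd41) (kd xd21 yd4 zd8) (kd xd26 yd46 zd1) (kd xd8 yd58 zd44) (kd xd16 yd13 zd18) (kd xd19 yd17 zd3) (kd xd26 yd46 zd4) (kd xd19 yd52 zd55) (kd xd18 yd56 zd33) (kd xd9 yd20 zd22) (kd xd12 yd53 zd59) (kd xd21 yd33 zd36)) (@D3.rec (fun _ => Pt) (kd xd8 yd58 zd53) (kd xd8 yd58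 zd54) (kd xd21 yd10 zd16) (kd xd11 yd15 zd23) (kd xd8 yd58 zd56) (kd xd8 yd58 zd59) (kd xd26 yd46 zd8) (kd xd8 yd58 zd60) (kd xd16 yd38 zd43) (kd xd21 yd56 zd35) (kd xd8 yd59 zd0) (kd xd16 yd7 zd27) (kd xd20 yd19 zd40) (kd xd20 yd19 zd18) (kd xd20 yd19 zd19) (kd xd12 yd20 zd51) (kd xd11 yd15 zd24) (kd xd26 yd46 zd14) (kd xd8 yd59 zd7) (kd xd8 yd59 zd9) (kd xd11 yd40 zd47) (kd xd26 yd46 zd15) (kd xd8 yd59 zd10) (kd xd26 yd46 zd18) (kd xd16 yd43 zd7) (kd xd26 yd46 zd19) (kd xd11 yd42 zd11) (kd xd19 yd26 zd51) (kd xd21 yd38 zd47) (kd xd24 yd26 zd47) (kd xd26 yd39 zd1) (kd xd26 yd46 zd22) (kd xd8 yd59 zd15) (kd xd17 yd35 zd35) (kd xd26 yd46 zd27) (kd xd9 yd12 zd52) (kd xd20 yd20 zd18) (kd xd8 yd59 zd18) (kd xd25 yd18 zd60) (kd xd25 yd31 zd8) (kd xd21 yd10 zd17) (kd xd26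 yd46 zd32) (kd xd15 yd59 zd11) (kd xd8 yd59 zd23) (kd xd11 yd12 zd30) (kd xd15 yd49 zd31) (kd xd10 yd49 zd26) (kd xd9 yd21 zd8) (kd xd26 yd46 zd33) (kd xd22 yd3 zd39) (kd xd22 yd3 zd40) (kd xd8 yd59 zd28) (kd xd21 yd32 zd54) (kd xd25 yd45 zd11) (kd xd18 yd43 zd43) (kd xd8 yd59 zd31) (kd xd26 yd46 zd39) (kd xd16 yd25 zd36) (kd xd16 yd25 zd33) (kd xd20 yd37 zd35) (kd xd23 yd4 zd48) (kd xd12 yd32 zd26)) (@D3.rec (fun _ => Pt) (kd xd11 yd16 zd31) (kd xd21 yd9 zd26) (kd xd8 yd59 zd39) (kd xd17 yd58 zd17) (kd xd16 yd4 zd23) (kd xd19 yd40 zd38) (kd xd11 yd40 zd6) (kd xd21 yd3 zd45) (kd xd8 yd59 zd47) (kd xd12 yd33 zd14) (kd xd19 yd45 zd2) (kd xd19 yd42 zd56) (kd xd24 yd28 zd41) (kd xd8 yd59 zd53) (kd xd19 yd41 zd21) (kd xd14 yd2 zd43) (kd xd26 yd46 zd45) (kd xd8 yd59 zd57)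 (kd xd11 yd16 zd35) (kd xd25 yd5 zd8) (kd xd25 yd50 zd12) (kd xd8 yd59 zd59) (kd xd26 yd46 zd49) (kd xd12 yd30 zd23) (kd xd11 yd20 zd20) (kd xd11 yd0 zd58) (kd xd19 yd49 zd57) (kd xd24 yd52 zd41) (kd xd26 yd46 zd52) (kd xd26 yd46 zd56) (kd xd11 yd58 zd0) (kd xd9 yd0 zd1) (kd xd21 yd3 zd17) (kd xd9 yd0 zd2) (kd xd17 yd52 zd38) (kd xd11 yd29 zd27) (kd xd9 yd6 zd61) (kd xd11 yd10 zd61) (kd xd12 yd28 zd44) (kd xd9 yd5 zd28) (kd xd11 yd10 zd58) (kd xd9 yd55 zd34) (kd xd11 yd11 zd3) (kd xd11 yd11 zd1) (kd xd10 yd2 zd17) (kd xd17 yd34 zd43) (kd xd12 yd49 zd59) (kd xd9 yd5 zd32) (kd xd9 yd0 zd24) (kd xd21 yd3 zd4) (kd xd18 yd23 zd34) (kd xd19 yd55 zd2) (kd xd16 yd10 zd55) (kd xd9 yd0 zd29) (kd xd26 yd8 zd9) (kd xd9 yd0 zd31) (kd xd16 yd10 zd57) (kd xd16 yd10 zd56) (kd xd26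 yd23 zd8) (kd xd9 yd0 zd32) (kd xd26 yd47 zd11) (kd xd26 yd47 zd12)) (@D3.rec (fun _ => Pt) (kd xd9 yd0 zd34) (kd xd26 yd47 zd17) (kd xd17 yd45 zd14) (kd xd9 yd34 zd50) (kd xd19 yd55 zd35) (kd xd26 yd47 zd4) (kd xd26 yd47 zd20) (kd xd9 yd0 zd36) (kd xd26 yd47 zd26) (kd xd26 yd47 zd30) (kd xd26 yd47 zd33) (kd xd26 yd47 zd34) (kd xd9 yd0 zd38) (kd xd26 yd8 zd6) (kd xd26 yd47 zd37) (kd xd9 yd0 zd39) (kd xd23 yd43 zd36) (kd xd23 yd43 zd47) (kd xd26 yd47 zd40) (kd xd9 yd0 zd41) (kd xd26 yd47 zd43) (kd xd26 yd47 zd46) (kd xd9 yd0 zd43) (kd xd12 yd3 zd30) (kd xd14 yd45 zd30) (kd xd26 yd47 zd51) (kd xd9 yd0 zd44) (kd xd26 yd47 zd55) (kd xd26 yd47 zd59) (kd xd9 yd0 zd46) (kd xd25 yd23 zd17) (kd xd19 yd48 zd13) (kd xd26 yd48 zd1) (kd xd19 yd48 zd16) (kd xd26 yd48 zd4) (kd xd9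 yd0 zd49) (kd xd26 yd32 zd56) (kd xd15 yd42 zd6) (kd xd15 yd42 zd5) (kd xd9 yd43 zd46) (kd xd26 yd48 zd10) (kd xd14 yd44 zd42) (kd xd26 yd48 zd12) (kd xd9 yd0 zd54) (kd xd10 yd32 zd32) (kd xd26 yd6 zd38) (kd xd25 yd11 zd43) (kd xd21 yd37 zd30) (kd xd9 yd0 zd57) (kd xd24 yd45 zd20) (kd xd26 yd1 zd50) (kd xd9 yd0 zd60) (kd xd9 yd4 zd49) (kd xd26 yd48 zd20) (kd xd26 yd45 zd54) (kd xd26 yd0 zd52) (kd xd26 yd48 zd23) (kd xd9 yd1 zd0) (kd xd26 yd48 zd27) (kd xd9 yd1 zd1) (kd xd26 yd48 zd28) (kd xd9 yd1 zd3)) (@D3.rec (fun _ => Pt) (kd xd26 yd48 zd31) (kd xd16 yd52 zd26) (kd xd9 yd5 zd15) (kd xd20 yd29 zd58) (kd xd10 yd53 zd15) (kd xd26 yd48 zd33) (kd xd10 yd53 zd20) (kd xd9 yd1 zd6) (kd xd19 yd48 zd4) (kd xd15 yd42 zd9) (kd xd20 yd58 zd57) (kd xd12 yd14 zd26) (kd xd11 yd48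 zd55) (kd xd20 yd51 zd54) (kd xd11 yd48 zd51) (kd xd15 yd38 zd45) (kd xd26 yd48 zd36) (kd xd9 yd1 zd17) (kd xd11 yd35 zd29) (kd xd9 yd5 zd53) (kd xd26 yd48 zd39) (kd xd9 yd1 zd23) (kd xd12 yd22 zd9) (kd xd20 yd36 zd55) (kd xd26 yd48 zd42) (kd xd9 yd1 zd26) (kd xd26 yd48 zd46) (kd xd20 yd25 zd5) (kd xd10 yd2 zd44) (kd xd11 yd8 zd17) (kd xd9 yd1 zd33) (kd xd9 yd5 zd24) (kd xd9 yd1 zd35) (kd xd20 yd42 zd13) (kd xd20 yd6 zd30) (kd xd25 yd46 zd24) (kd xd19 yd42 zd37) (kd xd11 yd26 zd40) (kd xd20 yd19 zd59) (kd xd20 yd1 zd22) (kd xd16 yd35 zd22) (kd xd26 yd48 zd51) (kd xd26 yd48 zd52) (kd xd24 yd52 zd35) (kd xd26 yd48 zd53) (kd xd18 yd50 zd41) (kd xd26 yd48 zd55) (kd xd9 yd1 zd48) (kd xd17 yd2 zd41) (kd xd9 yd1 zd50) (kd xd14 yd8 zd8) (kd xd16 yd46 zd5) (kd xd23 yd37 zd33)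 (kd xd11 yd11 zd15) (kd xd11 yd32 zd35) (kd xd20 yd11 zd30) (kd xd26 yd49 zd1) (kd xd9 yd1 zd58) (kd xd14 yd3 zd24) (kd xd11 yd5 zd47) (kd xd14 yd17 zd27) (kd xd9 yd1 zd61)) (@D3.rec (fun _ => Pt) (kd xd26 yd49 zd5) (kd xd26 yd49 zd8) (kd xd9 yd2 zd1) (kd xd22 yd59 zd19) (kd xd20 yd20 zd23) (kd xd11 yd21 zd8) (kd xd9 yd3 zd15) (kd xd22 yd47 zd9) (kd xd9 yd2 zd3) (kd xd26 yd49 zd13) (kd xd26 yd49 zd15) (kd xd9 yd2 zd4) (kd xd18 yd39 zd39) (kd xd20 yd19 zd2) (kd xd24 yd1 zd14) (kd xd9 yd4 zd27) (kd xd9 yd4 zd28) (kd xd11 yd15 zd19) (kd xd26 yd49 zd21) (kd xd26 yd49 zd23) (kd xd9 yd2 zd8) (kd xd26 yd49 zd26) (kd xd26 yd49 zd29) (kd xd9 yd2 zd9) (kd xd23 yd48 zd21) (kd xd9 yd2 zd10) (kd xd16 yd51 zd1) (kd xd11 yd22 zd32) (kd xd9 yd2 zd12) (kd xd16 yd54 zd55) (kd xd21 yd42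 zd43) (kd xd9 yd2 zd14) (kd xd9 yd18 zd3) (kd xd13 yd16 zd53) (kd xd9 yd2 zd16) (kd xd19 yd32 zd15) (kd xd19 yd59 zd14) (kd xd20 yd9 zd57) (kd xd26 yd49 zd36) (kd xd9 yd7 zd61) (kd xd9 yd2 zd24) (kd xd13 yd50 zd24) (kd xd9 yd8 zd57) (kd xd24 yd53 zd26) (kd xd9 yd2 zd28) (kd xd24 yd47 zd31) (kd xd11 yd5 zd37) (kd xd9 yd2 zd29) (kd xd12 yd55 zd21) (kd xd23 yd5 zd42) (kd xd11 yd14 zd3) (kd xd26 yd49 zd44) (kd xd9 yd2 zd32) (kd xd16 yd35 zd30) (kd xd10 yd59 zd36) (kd xd11 yd0 zd20) (kd xd21 yd15 zd50) (kd xd26 yd24 zd54) (kd xd9 yd8 zd24) (kd xd20 yd18 zd25) (kd xd11 yd34 zd41) (kd xd20 yd18 zd28)) (@D3.rec (fun _ => Pt) (kd xd20 yd18 zd27) (kd xd22 yd17 zd23) (kd xd9 yd2 zd37) (kd xd23 yd5 zd53) (kd xd23 yd20 zd23) (kd xd13 yd47 zd8) (kd xd13 yd30 zd25) (kd xd26 yd49 zd37)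 (kd xd11 yd48 zd4) (kd xd26 yd25 zd54) (kd xd9 yd2 zd41) (kd xd18 yd23 zd44) (kd xd11 yd37 zd58) (kd xd26 yd49 zd56) (kd xd9 yd4 zd41) (kd xd9 yd4 zd42) (kd xd11 yd13 zd13) (kd xd16 yd34 zd58) (kd xd16 yd35 zd31) (kd xd10 yd59 zd47) (kd xd19 yd0 zd10) (kd xd20 yd59 zd49) (kd xd26 yd32 zd33) (kd xd9 yd2 zd47) (kd xd21 yd13 zd12) (kd xd21 yd13 zd7) (kd xd19 yd18 zd7) (kd xd9 yd2 zd49) (kd xd11 yd47 zd13) (kd xd20 yd25 zd45) (kd xd10 yd57 zd52) (kd xd18 yd35 zd54) (kd xd14 yd47 zd13) (kd xd11 yd16 zd28) (kd xd11 yd16 zd26) (kd xd12 yd31 zd17) (kd xd19 yd4 zd33) (kd xd26 yd50 zd4) (kd xd10 yd48 zd7) (kd xd10 yd48 zd2) (kd xd11 yd39 zd25) (kd xd9 yd9 zd23) (kd xd19 yd24 zd18) (kd xd11 yd13 zd14) (kd xd26 yd50 zd11) (kd xd9 yd3 zd0) (kd xd22 yd6 zd10) (kd xd21 yd32 zd46)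 (kd xd11 yd21 zd0) (kd xd11 yd13 zd20) (kd xd19 yd16 zd24) (kd xd19 yd16 zd28) (kd xd19 yd6 zd53) (kd xd19 yd6 zd54) (kd xd24 yd51 zd37) (kd xd26 yd50 zd17) (kd xd24 yd1 zd20) (kd xd9 yd3 zd10) (kd xd14 yd42 zd45) (kd xd10 yd31 zd59) (kd xd11 yd30 zd14) (kd xd13 yd53 zd36)) (@D3.rec (fun _ => Pt) (kd xd10 yd31 zd60) (kd xd12 yd36 zd5) (kd xd9 yd3 zd14) (kd xd11 yd3 zd13) (kd xd13 yd27 zd36) (kd xd26 yd50 zd23) (kd xd26 yd50 zd25) (kd xd10 yd40 zd28) (kd xd10 yd40 zd36) (kd xd10 yd21 zd39) (kd xd10 yd40 zd45) (kd xd18 yd47 zd15) (kd xd9 yd3 zd21) (kd xd16 yd55 zd45) (kd xd26 yd49 zd61) (kd xd10 yd23 zd8) (kd xd9 yd3 zd23) (kd xd9 yd49 zd41) (kd xd9 yd10 zd14) (kd xd12 yd35 zd20) (kd xd10 yd31 zd40) (kd xd26 yd50 zd33) (kd xd9 yd3 zd26) (kd xd26 yd50 zd35) (kd xd22 yd4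 zd30) (kd xd26 yd50 zd38) (kd xd9 yd3 zd29) (kd xd14 yd37 zd32) (kd xd9 yd3 zd31) (kd xd26 yd50 zd39) (kd xd26 yd50 zd40) (kd xd9 yd3 zd32) (kd xd11 yd29 zd37) (kd xd26 yd50 zd41) (kd xd26 yd50 zd43) (kd xd19 yd18 zd11) (kd xd26 yd50 zd45) (kd xd24 yd25 zd17) (kd xd23 yd46 zd0) (kd xd9 yd3 zd34) (kd xd26 yd50 zd48) (kd xd26 yd50 zd50) (kd xd9 yd3 zd35) (kd xd10 yd18 zd37) (kd xd26 yd38 zd60) (kd xd12 yd3 zd36) (kd xd19 yd43 zd11) (kd xd10 yd39 zd35) (kd xd26 yd50 zd54) (kd xd10 yd39 zd33) (kd xd26 yd50 zd56) (kd xd24 yd0 zd10) (kd xd24 yd27 zd52) (kd xd26 yd50 zd59) (kd xd9 yd3 zd42) (kd xd16 yd52 zd29) (kd xd26 yd51 zd1) (kd xd25 yd29 zd34) (kd xd9 yd3 zd44) (kd xd26 yd51 zd5) (kd xd22 yd59 zd1) (kd xd26 yd51 zd7)) (@D3.rec (fun _ => Pt) (kd xd12 yd24 zd13) (kd xd10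 yd40 zd37) (kd xd10 yd40 zd38) (kd xd9 yd3 zd48) (kd xd10 yd42 zd38) (kd xd17 yd17 zd51) (kd xd26 yd51 zd13) (kd xd23 yd7 zd60) (kd xd9 yd3 zd53) (kd xd26 yd51 zd15) (kd xd19 yd48 zd29) (kd xd9 yd3 zd56) (kd xd26 yd51 zd18) (kd xd26 yd51 zd20) (kd xd9 yd3 zd61) (kd xd26 yd51 zd23) (kd xd9 yd4 zd0) (kd xd9 yd4 zd1) (kd xd26 yd51 zd29) (kd xd19 yd32 zd33) (kd xd17 yd53 zd20) (kd xd19 yd13 zd37) (kd xd26 yd51 zd35) (kd xd26 yd51 zd37) (kd xd9 yd4 zd3) (kd xd26 yd51 zd41) (kd xd16 yd11 zd7) (kd xd26 yd51 zd43) (kd xd15 yd55 zd45) (kd xd20 yd22 zd11) (kd xd13 yd50 zd35) (kd xd26 yd51 zd47) (kd xd26 yd33 zd23) (kd xd9 yd4 zd9) (kd xd26 yd51 zd53) (kd xd26 yd51 zd55) (kd xd26 yd51 zd58) (kd xd9 yd4 zd10) (kd xd9 yd12 zd12) (kd xd18 yd43 zd31) (kd xd9 yd4 zd11) (kd xd26 yd52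 zd3) (kd xd26 yd52 zd5) (kd xd9 yd4 zd12) (kd xd15 yd51 zd12) (kd xd16 yd54 zd13) (kd xd9 yd38 zd45) (kd xd9 yd4 zd16) (kd xd26 yd10 zd44) (kd xd25 yd40 zd39) (kd xd26 yd52 zd14) (kd xd9 yd4 zd20) (kd xd17 yd3 zd25) (kd xd26 yd52 zd17) (kd xd10 yd48 zd4) (kd xd26 yd49 zd34) (kd xd26 yd52 zd21) (kd xd20 yd39 zd25) (kd xd20 yd39 zd11) (kd xd20 yd39 zd12) (kd xd9 yd4 zd24) (kd xd26 yd52 zd30)) (@D3.rec (fun _ => Pt) (kd xd9 yd4 zd25) (kd xd26 yd52 zd32) (kd xd18 yd22 zd28) (kd xd17 yd33 zd18) (kd xd16 yd46 zd24) (kd xd23 yd46 zd37) (kd xd23 yd58 zd20) (kd xd26 yd49 zd17) (kd xd26 yd52 zd36) (kd xd17 yd54 zd19) (kd xd26 yd52 zd41) (kd xd19 yd50 zd52) (kd xd19 yd17 zd47) (kd xd9 yd4 zd30) (kd xd19 yd4 zd58) (kd xd14 yd42 zd27) (kd xd26 yd52 zd47) (kd xd20 yd9 zd61) (kd xd9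 yd4 zd34) (kd xd11 yd14 zd49) (kd xd11 yd50 zd30) (kd xd9 yd4 zd39) (kd xd13 yd23 zd19) (kd xd22 yd55 zd53) (kd xd26 yd52 zd50) (kd xd16 yd22 zd24) (kd xd13 yd10 zd14) (kd xd17 yd31 zd61) (kd xd9 yd4 zd46) (kd xd10 yd58 zd54) (kd xd11 yd9 zd60) (kd xd23 yd59 zd57) (kd xd23 yd59 zd58) (kd xd25 yd39 zd30) (kd xd9 yd4 zd48) (kd xd26 yd52 zd56) (kd xd9 yd4 zd50) (kd xd20 yd28 zd24) (kd xd9 yd4 zd51) (kd xd11 yd35 zd17) (kd xd12 yd2 zd17) (kd xd14 yd41 zd7) (kd xd24 yd10 zd57) (kd xd11 yd24 zd53) (kd xd14 yd41 zd6) (kd xd12 yd10 zd17) (kd xd26 yd53 zd0) (kd xd10 yd4 zd24) (kd xd12 yd29 zd50) (kd xd10 yd12 zd8) (kd xd9 yd4 zd56) (kd xd11 yd21 zd29) (kd xd9 yd4 zd58) (kd xd9 yd32 zd36) (kd xd20 yd34 zd51) (kd xd26 yd53 zd5) (kd xd9 yd4 zd61) (kd xd17 yd25 zd5) (kd xd26 yd53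 zd9) (kd xd9 yd5 zd0) (kd xd19 yd59 zd36) (kd xd10 yd18 zd8)) (@D3.rec (fun _ => Pt) (kd xd11 yd31 zd50) (kd xd20 yd5 zd52) (kd xd13 yd50 zd23) (kd xd14 yd25 zd38) (kd xd20 yd9 zd5) (kd xd23 yd4 zd46) (kd xd26 yd53 zd13) (kd xd11 yd48 zd22) (kd xd11 yd14 zd14) (kd xd11 yd14 zd10) (kd xd9 yd5 zd11) (kd xd17 yd58 zd15) (kd xd18 yd43 zd54) (kd xd13 yd57 zd18) (kd xd10 yd15 zd31) (kd xd20 yd5 zd37) (kd xd10 yd15 zd32) (kd xd26 yd53 zd16) (kd xd9 yd5 zd18) (kd xd16 yd47 zd34) (kd xd18 yd15 zd37) (kd xd20 yd16 zd45) (kd xd20 yd0 zd0) (kd xd20 yd14 zd36) (kd xd17 yd7 zd60) (kd xd26 yd48 zd49) (kd xd21 yd4 zd9) (kd xd19 yd57 zd41) (kd xd11 yd6 zd23) (kd xd15 yd30 zd37) (kd xd15 yd30 zd36) (kd xd19 yd52 zd25) (kd xd17 yd34 zd47) (kd xd12 yd30 zd58) (kd xd9 yd57 zd59) (kd xd14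 yd32 zd8) (kd xd13 yd1 zd8) (kd xd9 yd5 zd47) (kd xd14 yd4 zd40) (kd xd26 yd53 zd19) (kd xd9 yd5 zd50) (kd xd10 yd37 zd0) (kd xd19 yd5 zd28) (kd xd26 yd53 zd21) (kd xd26 yd53 zd22) (kd xd10 yd42 zd39) (kd xd9 yd5 zd59) (kd xd9 yd5 zd60) (kd xd20 yd38 zd42) (kd xd19 yd5 zd37) (kd xd9 yd6 zd0) (kd xd13 yd0 zd59) (kd xd11 yd31 zd34) (kd xd10 yd54 zd37) (kd xd12 yd51 zd10) (kd xd12 yd3 zd58) (kd xd11 yd7 zd2) (kd xd26 yd53 zd26) (kd xd9 yd6 zd14) (kd xd26 yd53 zd28) (kd xd22 yd6 zd55) (kd xd22 yd6 zd54)) (@D3.rec (fun _ => Pt) (kd xd9 yd6 zd16) (kd xd26 yd53 zd31) (kd xd15 yd5 zd38) (kd xd12 yd57 zd39) (kd xd26 yd53 zd35) (kd xd9 yd6 zd20) (kd xd20 yd1 zd51) (kd xd20 yd1 zd50) (kd xd26 yd53 zd41) (kd xd9 yd6 zd21) (kd xd9 yd6 zd22) (kd xd17 yd26 zd58) (kd xd26 yd53 zd43)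 (kd xd9 yd6 zd23) (kd xd20 yd23 zd23) (kd xd9 yd6 zd24) (kd xd17 yd21 zd55) (kd xd12 yd57 zd7) (kd xd12 yd57 zd8) (kd xd26 yd53 zd53) (kd xd9 yd6 zd26) (kd xd20 yd23 zd31) (kd xd9 yd6 zd28) (kd xd14 yd38 zd4) (kd xd26 yd54 zd2) (kd xd9 yd6 zd31) (kd xd18 yd1 zd16) (kd xd26 yd54 zd4) (kd xd9 yd6 zd32) (kd xd26 yd54 zd8) (kd xd26 yd54 zd10) (kd xd15 yd5 zd39) (kd xd12 yd57 zd52) (kd xd26 yd54 zd11) (kd xd18 yd23 zd37) (kd xd12 yd57 zd55) (kd xd26 yd54 zd14) (kd xd19 yd58 zd22) (kd xd26 yd54 zd16) (kd xd9 yd6 zd37) (kd xd26 yd54 zd21) (kd xd10 yd6 zd42) (kd xd11 yd8 zd5) (kd xd11 yd7 zd32) (kd xd26 yd54 zd24) (kd xd9 yd6 zd40) (kd xd26 yd54 zd27) (kd xd19 yd40 zd5) (kd xd26 yd54 zd29) (kd xd9 yd6 zd43) (kd xd11 yd6 zd2) (kd xd26 yd54 zd32) (kd xd9 yd6 zd46) (kd xd26 yd54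 zd34) (kd xd9 yd6 zd47) (kd xd24 yd49 zd53) (kd xd26 yd54 zd39) (kd xd9 yd6 zd48) (kd xd11 yd8 zd10) (kd xd11 yd8 zd11) (kd xd26 yd54 zd20) (kd xd9 yd6 zd50)) (@D3.rec (fun _ => Pt) (kd xd26 yd54 zd30) (kd xd19 yd42 zd54) (kd xd19 yd42 zd55) (kd xd12 yd29 zd49) (kd xd26 yd54 zd52) (kd xd11 yd48 zd0) (kd xd9 yd48 zd6) (kd xd9 yd6 zd58) (kd xd14 yd18 zd38) (kd xd22 yd23 zd48) (kd xd12 yd49 zd35) (kd xd9 yd7 zd1) (kd xd14 yd48 zd0) (kd xd9 yd10 zd20) (kd xd23 yd40 zd21) (kd xd17 yd9 zd28) (kd xd14 yd6 zd61) (kd xd19 yd56 zd20) (kd xd19 yd19 zd49) (kd xd20 yd40 zd7) (kd xd9 yd7 zd6) (kd xd26 yd55 zd3) (kd xd14 yd49 zd9) (kd xd20 yd20 zd11) (kd xd26 yd24 zd50) (kd xd26 yd55 zd5) (kd xd21 yd49 zd61) (kd xd9 yd7 zd10) (kd xd16 yd28 zd16) (kd xd9 yd7 zd19) (kd xd23 yd30 zd49)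 (kd xd21 yd30 zd10) (kd xd20 yd22 zd22) (kd xd9 yd7 zd22) (kd xd21 yd53 zd27) (kd xd9 yd12 zd39) (kd xd9 yd7 zd24) (kd xd21 yd20 zd21) (kd xd11 yd36 zd44) (kd xd26 yd55 zd10) (kd xd11 yd45 zd15) (kd xd20 yd51 zd20) (kd xd17 yd33 zd26) (kd xd11 yd57 zd24) (kd xd17 yd12 zd53) (kd xd17 yd24 zd37) (kd xd11 yd39 zd17) (kd xd23 yd40 zd10) (kd xd13 yd50 zd39) (kd xd11 yd21 zd44) (kd xd12 yd10 zd33) (kd xd18 yd42 zd11) (kd xd21 yd33 zd28) (kd xd9 yd7 zd42) (kd xd26 yd11 zd16) (kd xd26 yd55 zd12) (kd xd11 yd15 zd54) (kd xd9 yd7 zd44) (kd xd9 yd9 zd61) (kd xd12 yd37 zd60) (kd xd9 yd7 zd46) (kd xd25 yd16 zd47))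
def f_d_17 : D2 → D3 → Pt := @D2.rec (fun _ => D3 → Pt) (@D3.rec (fun _ => Pt) (kd xd9 yd49 zd33) (kd xd9 yd7 zd47) (kd xd9 yd49 zd32) (kd xd26 yd50 zd31) (kd xd12 yd44 zd51) (kd xd9 yd7 zd48) (kd xd17 yd9 zd24) (kd xd26 yd22 zd54) (kd xd9 yd7 zd50) (kd xd18 yd25 zd37) (kd xd11 yd56 zd43) (kd xd13 yd57 zd13) (kd xd9 yd7 zd53) (kd xd21 yd44 zd40) (kd xd18 yd10 zd23) (kd xd26 yd55 zd23) (kd xd9 yd40 zd53) (kd xd21 yd17 zd51) (kd xd13 yd18 zd3) (kd xd13 yd5 zd25) (kd xd26 yd55 zd26) (kd xd19 yd2 zd31) (kd xd14 yd13 zd49) (kd xd20 yd25 zd7) (kd xd9 yd8 zd2) (kd xd26 yd55 zd29) (kd xd26 yd55 zd31) (kd xd9 yd8 zd3) (kd xd26 yd55 zd35) (kd xd11 yd6 zd45) (kd xd23 yd8 zd58) (kd xd19 yd43 zd51) (kd xd20 yd0 zd6) (kd xd9 yd9 zd31) (kd xd13 yd16 zd46) (kd xd9 yd8 zd9) (kd xd11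 yd35 zd8) (kd xd11 yd35 zd50) (kd xd22 yd53 zd5) (kd xd26 yd55 zd39) (kd xd9 yd8 zd11) (kd xd26 yd55 zd42) (kd xd9 yd44 zd36) (kd xd26 yd55 zd44) (kd xd9 yd8 zd13) (kd xd26 yd55 zd46) (kd xd9 yd8 zd15) (kd xd14 yd22 zd6) (kd xd9 yd8 zd18) (kd xd26 yd55 zd51) (kd xd26 yd55 zd52) (kd xd26 yd55 zd53) (kd xd24 yd26 zd20) (kd xd9 yd8 zd21) (kd xd26 yd55 zd59) (kd xd11 yd33 zd53) (kd xd26 yd55 zd61) (kd xd26 yd56 zd0) (kd xd26 yd56 zd2) (kd xd9 yd8 zd27) (kd xd26 yd56 zd5) (kd xd26 yd56 zd6)) (@D3.rec (fun _ => Pt) (kd xd26 yd56 zd7) (kd xd9 yd8 zd28) (kd xd26 yd56 zd10) (kd xd13 yd36 zd4) (kd xd9 yd8 zd29) (kd xd24 yd47 zd52) (kd xd26 yd29 zd1) (kd xd26 yd29 zd2) (kd xd26 yd56 zd16) (kd xd9 yd8 zd31) (kd xd26 yd56 zd19) (kd xd26 yd56 zd20) (kd xd14 yd58 zd58) (kd xd15 yd3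 zd47) (kd xd23 yd45 zd41) (kd xd26 yd56 zd26) (kd xd26 yd56 zd28) (kd xd26 yd56 zd29) (kd xd26 yd56 zd31) (kd xd26 yd56 zd32) (kd xd9 yd8 zd36) (kd xd26 yd55 zd58) (kd xd11 yd34 zd47) (kd xd17 yd32 zd20) (kd xd11 yd48 zd24) (kd xd9 yd8 zd42) (kd xd14 yd23 zd5) (kd xd17 yd31 zd33) (kd xd9 yd8 zd45) (kd xd20 yd52 zd2) (kd xd26 yd55 zd37) (kd xd19 yd51 zd28) (kd xd17 yd6 zd17) (kd xd12 yd55 zd31) (kd xd11 yd27 zd8) (kd xd12 yd53 zd15) (kd xd23 yd55 zd19) (kd xd23 yd55 zd17) (kd xd11 yd27 zd40) (kd xd11 yd27 zd41) (kd xd26 yd56 zd33) (kd xd11 yd14 zd5) (kd xd26 yd56 zd45) (kd xd12 yd9 zd50) (kd xd26 yd56 zd50) (kd xd9 yd8 zd54) (kd xd26 yd56 zd34) (kd xd24 yd52 zd59) (kd xd26 yd56 zd55) (kd xd9 yd8 zd56) (kd xd26 yd28 zd30) (kd xd11 yd42 zd0) (kd xd26 yd56 zd60) (kd xd9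 yd8 zd59) (kd xd26 yd57 zd4) (kd xd9 yd8 zd60) (kd xd26 yd57 zd5) (kd xd9 yd8 zd61) (kd xd26 yd57 zd9) (kd xd9 yd9 zd0) (kd xd26 yd57 zd12) (kd xd26 yd57 zd16)) (@D3.rec (fun _ => Pt) (kd xd9 yd9 zd1) (kd xd12 yd5 zd29) (kd xd12 yd5 zd45) (kd xd26 yd55 zd45) (kd xd14 yd38 zd61) (kd xd9 yd9 zd3) (kd xd26 yd53 zd20) (kd xd11 yd1 zd31) (kd xd11 yd1 zd32) (kd xd9 yd9 zd5) (kd xd12 yd26 zd14) (kd xd9 yd9 zd7) (kd xd17 yd5 zd30) (kd xd11 yd48 zd38) (kd xd9 yd9 zd10) (kd xd12 yd53 zd33) (kd xd14 yd49 zd15) (kd xd9 yd9 zd15) (kd xd11 yd2 zd11) (kd xd26 yd57 zd31) (kd xd9 yd9 zd18) (kd xd12 yd35 zd7) (kd xd23 yd40 zd53) (kd xd15 yd5 zd21) (kd xd17 yd53 zd23) (kd xd23 yd46 zd24) (kd xd24 yd47 zd25) (kd xd10 yd48 zd52) (kd xd26 yd57 zd33) (kd xd26 yd57 zd34) (kd xd9 yd9 zd33)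 (kd xd23 yd10 zd35) (kd xd26 yd57 zd37) (kd xd17 yd22 zd18) (kd xd10 yd23 zd20) (kd xd15 yd13 zd44) (kd xd26 yd57 zd38) (kd xd9 yd9 zd40) (kd xd23 yd18 zd16) (kd xd26 yd23 zd16) (kd xd23 yd15 zd33) (kd xd16 yd51 zd48) (kd xd26 yd57 zd41) (kd xd14 yd44 zd50) (kd xd26 yd7 zd32) (kd xd14 yd23 zd44) (kd xd17 yd47 zd53) (kd xd24 yd54 zd6) (kd xd26 yd18 zd31) (kd xd16 yd47 zd28) (kd xd9 yd9 zd49) (kd xd26 yd57 zd42) (kd xd9 yd9 zd50) (kd xd26 yd27 zd1) (kd xd24 yd7 zd37) (kd xd26 yd7 zd26) (kd xd9 yd44 zd43) (kd xd26 yd57 zd48) (kd xd16 yd34 zd55) (kd xd26 yd57 zd49) (kd xd9 yd9 zd54) (kd xd24 yd39 zd25)) (@D3.rec (fun _ => Pt) (kd xd20 yd34 zd39) (kd xd26 yd57 zd52) (kd xd26 yd57 zd53) (kd xd9 yd9 zd58) (kd xd18 yd42 zd12) (kd xd17 yd59 zd15) (kd xd9 yd9 zd59) (kd xd9 yd9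 zd60) (kd xd12 yd35 zd8) (kd xd16 yd29 zd47) (kd xd9 yd10 zd2) (kd xd26 yd57 zd55) (kd xd26 yd57 zd56) (kd xd23 yd30 zd50) (kd xd9 yd10 zd5) (kd xd24 yd32 zd49) (kd xd21 yd54 zd51) (kd xd12 yd24 zd20) (kd xd12 yd24 zd21) (kd xd23 yd26 zd16) (kd xd9 yd10 zd13) (kd xd21 yd38 zd29) (kd xd10 yd57 zd41) (kd xd18 yd54 zd35) (kd xd26 yd57 zd61) (kd xd16 yd55 zd52) (kd xd19 yd59 zd48) (kd xd9 yd10 zd17) (kd xd19 yd9 zd13) (kd xd15 yd26 zd13) (kd xd9 yd10 zd19) (kd xd20 yd53 zd26) (kd xd20 yd53 zd25) (kd xd9 yd10 zd24) (kd xd9 yd10 zd25) (kd xd11 yd47 zd45) (kd xd9 yd10 zd29) (kd xd26 yd58 zd5) (kd xd9 yd10 zd30) (kd xd19 yd0 zd34) (kd xd24 yd52 zd46) (kd xd26 yd58 zd9) (kd xd19 yd30 zd7) (kd xd9 yd10 zd32) (kd xd22 yd57 zd7) (kd xd11 yd15 zd33) (kd xd24 yd38 zd44) (kd xd11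 yd38 zd9) (kd xd26 yd58 zd18) (kd xd13 yd8 zd4) (kd xd15 yd47 zd45) (kd xd9 yd10 zd39) (kd xd21 yd54 zd59) (kd xd19 yd46 zd33) (kd xd9 yd10 zd40) (kd xd17 yd4 zd52) (kd xd26 yd58 zd20) (kd xd9 yd10 zd41) (kd xd17 yd6 zd25) (kd xd26 yd58 zd23) (kd xd25 yd56 zd19) (kd xd9 yd10 zd44)) (@D3.rec (fun _ => Pt) (kd xd17 yd6 zd1) (kd xd14 yd49 zd8) (kd xd21 yd33 zd34) (kd xd21 yd33 zd35) (kd xd23 yd26 zd19) (kd xd11 yd29 zd4) (kd xd22 yd43 zd29) (kd xd26 yd58 zd31) (kd xd11 yd8 zd6) (kd xd9 yd10 zd53) (kd xd23 yd28 zd20) (kd xd9 yd10 zd54) (kd xd24 yd37 zd50) (kd xd9 yd25 zd15) (kd xd24 yd33 zd5) (kd xd26 yd58 zd34) (kd xd9 yd10 zd57) (kd xd26 yd58 zd38) (kd xd24 yd14 zd46) (kd xd9 yd10 zd58) (kd xd26 yd58 zd40) (kd xd15 yd24 zd56) (kd xd9 yd10 zd59) (kd xd17 yd9 zd61) (kd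 xd26 yd58 zd45) (kd xd9 yd10 zd60) (kd xd26 yd58 zd26) (kd xd12 yd2 zd23) (kd xd9 yd11 zd0) (kd xd9 yd11 zd1) (kd xd26 yd10 zd42) (kd xd9 yd11 zd2) (kd xd17 yd9 zd44) (kd xd26 yd58 zd49) (kd xd10 yd17 zd16) (kd xd9 yd11 zd5) (kd xd9 yd11 zd6) (kd xd13 yd58 zd16) (kd xd26 yd58 zd51) (kd xd11 yd48 zd36) (kd xd19 yd51 zd56) (kd xd10 yd45 zd44) (kd xd10 yd45 zd43) (kd xd26 yd58 zd52) (kd xd9 yd11 zd13) (kd xd21 yd35 zd34) (kd xd9 yd11 zd15) (kd xd9 yd11 zd16) (kd xd21 yd55 zd10) (kd xd9 yd11 zd17) (kd xd13 yd57 zd8) (kd xd9 yd11 zd18) (kd xd17 yd3 zd55) (kd xd22 yd2 zd36) (kd xd9 yd11 zd20) (kd xd9 yd11 zd21) (kd xd17 yd30 zd39) (kd xd9 yd11 zd23) (kd xd12 yd26 zd8) (kd xd25 yd31 zd6) (kd xd25 yd31 zd7) (kd xd26 yd59 zd0)) (@D3.rec (fun _ => Pt) (kd xd9 yd11 zd26) (kd xd26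 yd59 zd3) (kd xd12 yd20 zd32) (kd xd9 yd11 zd28) (kd xd21 yd19 zd32) (kd xd9 yd38 zd60) (kd xd9 yd11 zd29) (kd xd25 yd44 zd47) (kd xd21 yd26 zd28) (kd xd9 yd19 zd11) (kd xd21 yd7 zd11) (kd xd12 yd16 zd46) (kd xd9 yd11 zd34) (kd xd11 yd35 zd58) (kd xd25 yd17 zd58) (kd xd26 yd2 zd39) (kd xd9 yd11 zd36) (kd xd17 yd10 zd6) (kd xd9 yd11 zd38) (kd xd11 yd40 zd43) (kd xd26 yd59 zd4) (kd xd12 yd36 zd29) (kd xd18 yd1 zd35) (kd xd9 yd11 zd43) (kd xd26 yd59 zd5) (kd xd19 yd15 zd2) (kd xd26 yd59 zd6) (kd xd9 yd11 zd44) (kd xd26 yd59 zd10) (kd xd21 yd1 zd37) (kd xd17 yd2 zd12) (kd xd22 yd2 zd42) (kd xd9 yd11 zd46) (kd xd14 yd35 zd45) (kd xd17 yd48 zd22) (kd xd26 yd50 zd28) (kd xd24 yd7 zd24) (kd xd26 yd59 zd15) (kd xd23 yd47 zd34) (kd xd9 yd11 zd50) (kd xd25 yd45 zd46) (kd xd9 yd11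 zd52) (kd xd25 yd36 zd56) (kd xd17 yd13 zd3) (kd xd17 yd23 zd38) (kd xd26 yd59 zd16) (kd xd26 yd59 zd17) (kd xd9 yd11 zd56) (kd xd26 yd3 zd55) (kd xd17 yd32 zd43) (kd xd9 yd11 zd57) (kd xd26 yd57 zd25) (kd xd17 yd50 zd19) (kd xd18 yd17 zd16) (kd xd26 yd59 zd20) (kd xd10 yd6 zd38) (kd xd20 yd51 zd55) (kd xd26 yd59 zd25) (kd xd9 yd11 zd61) (kd xd9 yd12 zd0) (kd xd26 yd51 zd42) (kd xd9 yd12 zd1)) (@D3.rec (fun _ => Pt) (kd xd14 yd4 zd55) (kd xd17 yd4 zd0) (kd xd20 yd19 zd60) (kd xd26 yd51 zd46) (kd xd26 yd59 zd37) (kd xd17 yd10 zd2) (kd xd9 yd12 zd3) (kd xd15 yd20 zd27) (kd xd9 yd12 zd5) (kd xd26 yd51 zd44) (kd xd18 yd17 zd7) (kd xd9 yd12 zd8) (kd xd9 yd12 zd9) (kd xd9 yd12 zd10) (kd xd12 yd44 zd60) (kd xd9 yd12 zd13) (kd xd10 yd17 zd19) (kd xd17 yd1 zd32) (kd xd18 yd43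 zd36) (kd xd11 yd45 zd39) (kd xd20 yd33 zd1) (kd xd17 yd9 zd45) (kd xd26 yd59 zd41) (kd xd9 yd12 zd17) (kd xd9 yd12 zd18) (kd xd17 yd3 zd58) (kd xd18 yd33 zd47) (kd xd26 yd51 zd50) (kd xd18 yd50 zd51) (kd xd18 yd0 zd10) (kd xd10 yd27 zd44) (kd xd26 yd59 zd46) (kd xd10 yd57 zd55) (kd xd26 yd59 zd49) (kd xd26 yd59 zd50) (kd xd26 yd59 zd52) (kd xd26 yd59 zd53) (kd xd9 yd12 zd23) (kd xd9 yd22 zd43) (kd xd9 yd12 zd25) (kd xd9 yd12 zd28) (kd xd11 yd33 zd21) (kd xd11 yd5 zd32) (kd xd13 yd1 zd19) (kd xd9 yd12 zd31) (kd xd26 yd51 zd49) (kd xd22 yd5 zd55) (kd xd13 yd58 zd17) (kd xd26 yd59 zd58) (kd xd9 yd12 zd34) (kd xd26 yd59 zd61) (kd xd11 yd39 zd43) (kd xd26 yd7 zd24) (kd xd27 yd0 zd3) (kd xd9 yd12 zd38) (kd xd16 yd42 zd9) (kd xd20 yd51 zd56) (kd xd25 yd18 zd6) (kd xd11 yd39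 zd42) (kd xd11 yd39 zd41) (kd xd27 yd0 zd13) (kd xd9 yd12 zd40)) (@D3.rec (fun _ => Pt) (kd xd27 yd0 zd18) (kd xd23 yd38 zd6) (kd xd20 yd34 zd27) (kd xd18 yd21 zd11) (kd xd9 yd12 zd42) (kd xd27 yd0 zd24) (kd xd9 yd12 zd43) (kd xd27 yd0 zd27) (kd xd27 yd0 zd30) (kd xd9 yd12 zd44) (kd xd27 yd0 zd31) (kd xd27 yd0 zd32) (kd xd9 yd12 zd45) (kd xd11 yd39 zd26) (kd xd11 yd39 zd27) (kd xd11 yd39 zd19) (kd xd12 yd54 zd43) (kd xd26 yd46 zd26) (kd xd9 yd12 zd48) (kd xd19 yd53 zd4) (kd xd22 yd8 zd32) (kd xd12 yd22 zd6) (kd xd17 yd51 zd23) (kd xd9 yd12 zd57) (kd xd9 yd49 zd57) (kd xd9 yd12 zd58) (kd xd9 yd12 zd59) (kd xd22 yd2 zd44) (kd xd20 yd38 zd4) (kd xd20 yd35 zd16) (kd xd20 yd16 zd42) (kd xd20 yd14 zd52) (kd xd11 yd14 zd43) (kd xd9 yd13 zd1) (kd xd27 yd0 zd48) (kd xd9 yd13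 zd3) (kd xd11 yd59 zd9) (kd xd21 yd30 zd19) (kd xd27 yd0 zd50) (kd xd11 yd39 zd54) (kd xd11 yd39 zd55) (kd xd16 yd22 zd14) (kd xd9 yd15 zd42) (kd xd9 yd13 zd14) (kd xd10 yd17 zd14) (kd xd12 yd17 zd30) (kd xd13 yd1 zd5) (kd xd9 yd13 zd21) (kd xd21 yd20 zd51) (kd xd9 yd13 zd25) (kd xd11 yd41 zd58) (kd xd10 yd6 zd59) (kd xd14 yd20 zd44) (kd xd11 yd34 zd48) (kd xd9 yd15 zd40) (kd xd12 yd55 zd27) (kd xd9 yd17 zd25) (kd xd11 yd20 zd4) (kd xd9 yd17 zd13) (kd xd9 yd13 zd37) (kd xd16 yd57 zd24) (kd xd9 yd14 zd16)) (@D3.rec (fun _ => Pt) (kd xd19 yd42 zd57) (kd xd21 yd3 zd22) (kd xd9 yd13 zd45) (kd xd9 yd13 zd46) (kd xd20 yd37 zd54) (kd xd27 yd0 zd54) (kd xd11 yd17 zd10) (kd xd9 yd13 zd49) (kd xd20 yd20 zd19) (kd xd20 yd20 zd20) (kd xd20 yd34 zd49) (kd xd20 yd20 zd38) (kd xd22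 yd21 zd48) (kd xd27 yd0 zd58) (kd xd9 yd13 zd51) (kd xd27 yd0 zd61) (kd xd27 yd1 zd0) (kd xd20 yd20 zd10) (kd xd9 yd13 zd54) (kd xd11 yd37 zd0) (kd xd20 yd16 zd40) (kd xd17 yd18 zd39) (kd xd13 yd23 zd18) (kd xd20 yd17 zd24) (kd xd10 yd55 zd43) (kd xd24 yd56 zd59) (kd xd18 yd25 zd57) (kd xd20 yd19 zd56) (kd xd13 yd1 zd56) (kd xd11 yd31 zd44) (kd xd11 yd8 zd20) (kd xd9 yd45 zd56) (kd xd22 yd57 zd42) (kd xd18 yd43 zd14) (kd xd19 yd51 zd39) (kd xd18 yd38 zd20) (kd xd10 yd2 zd46) (kd xd12 yd14 zd23) (kd xd14 yd47 zd60) (kd xd23 yd40 zd24) (kd xd26 yd46 zd38) (kd xd27 yd1 zd4) (kd xd9 yd14 zd22) (kd xd12 yd28 zd27) (kd xd9 yd14 zd23) (kd xd11 yd13 zd49) (kd xd15 yd4 zd7) (kd xd12 yd17 zd53) (kd xd12 yd4 zd52) (kd xd9 yd39 zd12) (kd xd21 yd9 zd38) (kd xd17 yd8 zd56) (kd xd17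 yd9 zd2) (kd xd27 yd1 zd6) (kd xd9 yd14 zd34) (kd xd18 yd58 zd0) (kd xd17 yd8 zd51) (kd xd10 yd35 zd9) (kd xd27 yd1 zd8) (kd xd12 yd20 zd48) (kd xd27 yd1 zd11) (kd xd9 yd14 zd37)) (@D3.rec (fun _ => Pt) (kd xd13 yd9 zd26) (kd xd9 yd14 zd38) (kd xd17 yd8 zd52) (kd xd18 yd21 zd35) (kd xd13 yd1 zd52) (kd xd19 yd50 zd34) (kd xd9 yd14 zd48) (kd xd23 yd24 zd42) (kd xd27 yd1 zd15) (kd xd10 yd55 zd28) (kd xd9 yd14 zd49) (kd xd26 yd26 zd16) (kd xd19 yd33 zd11) (kd xd9 yd14 zd50) (kd xd21 yd14 zd19) (kd xd10 yd19 zd43) (kd xd9 yd14 zd52) (kd xd16 yd32 zd28) (kd xd25 yd0 zd32) (kd xd16 yd32 zd30) (kd xd25 yd2 zd59) (kd xd25 yd46 zd30) (kd xd10 yd26 zd45) (kd xd9 yd14 zd61) (kd xd17 yd0 zd6) (kd xd15 yd59 zd5) (kd xd9 yd15 zd0) (kd xd26 yd55 zd13) (kd xd16 yd59 zd15) (kd xd25 yd46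 zd31) (kd xd20 yd35 zd58) (kd xd26 yd50 zd29) (kd xd9 yd15 zd4) (kd xd17 yd51 zd26) (kd xd11 yd5 zd55) (kd xd10 yd58 zd23) (kd xd21 yd33 zd23) (kd xd22 yd3 zd43) (kd xd26 yd58 zd53) (kd xd9 yd15 zd8) (kd xd12 yd38 zd24) (kd xd20 yd32 zd35) (kd xd18 yd10 zd56) (kd xd9 yd15 zd10) (kd xd17 yd4 zd32) (kd xd17 yd6 zd21) (kd xd9 yd15 zd30) (kd xd18 yd42 zd46) (kd xd21 yd51 zd8) (kd xd23 yd49 zd24) (kd xd10 yd4 zd39) (kd xd9 yd15 zd20) (kd xd24 yd53 zd10) (kd xd9 yd15 zd21) (kd xd21 yd20 zd3) (kd xd9 yd15 zd24) (kd xd9 yd15 zd27) (kd xd12 yd44 zd1) (kd xd21 yd40 zd38) (kd xd9 yd15 zd28) (kd xd26 yd58 zd59) (kd xd17 yd4 zd23)) (@D3.rec (fun _ => Pt) (kd xd9 yd15 zd31) (kd xd9 yd15 zd32) (kd xd17 yd6 zd5) (kd xd11 yd56 zd24) (kd xd9 yd15 zd34) (kd xd26 yd58 zd54) (kd xd17 yd5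 zd17) (kd xd9 yd15 zd37) (kd xd19 yd20 zd15) (kd xd19 yd52 zd35) (kd xd9 yd15 zd45) (kd xd9 yd15 zd47) (kd xd27 yd1 zd35) (kd xd9 yd15 zd48) (kd xd12 yd52 zd32) (kd xd27 yd1 zd40) (kd xd23 yd39 zd10) (kd xd27 yd1 zd44) (kd xd9 yd15 zd49) (kd xd9 yd15 zd56) (kd xd9 yd15 zd55) (kd xd9 yd15 zd51) (kd xd16 yd42 zd59) (kd xd21 yd17 zd41) (kd xd27 yd1 zd48) (kd xd27 yd1 zd49) (kd xd27 yd1 zd50) (kd xd9 yd15 zd57) (kd xd12 yd11 zd6) (kd xd15 yd31 zd15) (kd xd27 yd1 zd56) (kd xd27 yd1 zd57) (kd xd27 yd1 zd58) (kd xd9 yd16 zd1) (kd xd27 yd1 zd60) (kd xd27 yd1 zd61) (kd xd9 yd16 zd2) (kd xd25 yd24 zd6) (kd xd22 yd35 zd41) (kd xd9 yd16 zd3) (kd xd9 yd27 zd30) (kd xd27 yd2 zd5) (kd xd9 yd16 zd4) (kd xd9 yd16 zd6) (kd xd9 yd16 zd7) (kd xd12 yd51 zd50) (kd xd9 yd16 zd9) (kd xd12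 yd51 zd52) (kd xd9 yd22 zd44) (kd xd26 yd53 zd55) (kd xd9 yd16 zd18) (kd xd27 yd2 zd13) (kd xd9 yd27 zd47) (kd xd9 yd24 zd10) (kd xd17 yd17 zd5) (kd xd27 yd2 zd16) (kd xd9 yd16 zd20) (kd xd20 yd41 zd11) (kd xd27 yd2 zd18) (kd xd11 yd21 zd23) (kd xd9 yd23 zd5) (kd xd12 yd49 zd11)) (@D3.rec (fun _ => Pt) (kd xd22 yd11 zd5) (kd xd22 yd15 zd3) (kd xd22 yd11 zd6) (kd xd21 yd53 zd24) (kd xd24 yd19 zd53) (kd xd9 yd16 zd28) (kd xd27 yd2 zd21) (kd xd9 yd16 zd29) (kd xd27 yd2 zd25) (kd xd9 yd24 zd16) (kd xd21 yd38 zd28) (kd xd27 yd2 zd28) (kd xd9 yd16 zd32) (kd xd13 yd10 zd51) (kd xd9 yd16 zd33) (kd xd22 yd23 zd21) (kd xd9 yd47 zd41) (kd xd16 yd15 zd36) (kd xd22 yd59 zd55) (kd xd22 yd17 zd41) (kd xd9 yd16 zd35) (kd xd27 yd2 zd34) (kd xd11 yd43 zd28) (kd xd23 yd17 zd3) (kd xd9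 yd16 zd39) (kd xd9 yd21 zd42) (kd xd9 yd21 zd43) (kd xd27 yd2 zd37) (kd xd26 yd35 zd12) (kd xd27 yd2 zd38) (kd xd9 yd16 zd41) (kd xd27 yd2 zd40) (kd xd9 yd16 zd42) (kd xd17 yd20 zd14) (kd xd22 yd35 zd53) (kd xd24 yd26 zd25) (kd xd9 yd16 zd43) (kd xd22 yd58 zd16) (kd xd17 yd24 zd44) (kd xd10 yd50 zd60) (kd xd9 yd16 zd45) (kd xd27 yd2 zd45) (kd xd18 yd12 zd11) (kd xd9 yd16 zd46) (kd xd27 yd2 zd52) (kd xd9 yd27 zd16) (kd xd27 yd2 zd57) (kd xd9 yd16 zd48) (kd xd9 yd27 zd29) (kd xd21 yd53 zd25) (kd xd22 yd35 zd42) (kd xd12 yd38 zd20) (kd xd9 yd16 zd49) (kd xd9 yd27 zd13) (kd xd13 yd1 zd60) (kd xd9 yd27 zd8) (kd xd27 yd3 zd0) (kd xd9 yd26 zd61) (kd xd17 yd20 zd20) (kd xd27 yd3 zd5) (kd xd9 yd16 zd54) (kd xd21 yd16 zd53)) (@D3.rec (fun _ => Pt) (kd xd9 yd27 zd19) (kd xd27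 yd3 zd9) (kd xd9 yd16 zd59) (kd xd19 yd9 zd50) (kd xd9 yd16 zd60) (kd xd10 yd25 zd24) (kd xd22 yd2 zd10) (kd xd9 yd17 zd2) (kd xd9 yd27 zd18) (kd xd15 yd51 zd52) (kd xd22 yd12 zd48) (kd xd12 yd56 zd49) (kd xd27 yd3 zd16) (kd xd9 yd17 zd7) (kd xd21 yd32 zd45) (kd xd11 yd18 zd23) (kd xd27 yd3 zd18) (kd xd22 yd16 zd43) (kd xd22 yd27 zd42) (kd xd19 yd17 zd27) (kd xd17 yd31 zd48) (kd xd13 yd54 zd51) (kd xd17 yd31 zd50) (kd xd23 yd23 zd7) (kd xd23 yd23 zd6) (kd xd27 yd3 zd23) (kd xd9 yd17 zd16) (kd xd9 yd31 zd15) (kd xd10 yd55 zd13) (kd xd9 yd31 zd49) (kd xd9 yd17 zd21) (kd xd21 yd0 zd48) (kd xd9 yd31 zd43) (kd xd9 yd31 zd39) (kd xd12 yd28 zd15) (kd xd16 yd14 zd14) (kd xd12 yd56 zd1) (kd xd9 yd17 zd33) (kd xd17 yd52 zd26) (kd xd25 yd25 zd52) (kd xd10 yd26 zd51) (kd xd17 yd19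 zd24) (kd xd17 yd19 zd39) (kd xd9 yd46 zd43) (kd xd9 yd17 zd41) (kd xd20 yd54 zd36) (kd xd21 yd33 zd61) (kd xd9 yd31 zd53) (kd xd27 yd3 zd30) (kd xd27 yd3 zd31) (kd xd9 yd17 zd45) (kd xd18 yd21 zd16) (kd xd9 yd17 zd47) (kd xd16 yd59 zd44) (kd xd11 yd30 zd30) (kd xd11 yd40 zd39) (kd xd10 yd2 zd15) (kd xd20 yd19 zd41) (kd xd17 yd49 zd10) (kd xd20 yd19 zd29) (kd xd11 yd21 zd50) (kd xd18 yd41 zd47)) (@D3.rec (fun _ => Pt) (kd xd9 yd49 zd29) (kd xd17 yd49 zd19) (kd xd9 yd49 zd7) (kd xd17 yd5 zd43) (kd xd20 yd15 zd57) (kd xd12 yd35 zd0) (kd xd21 yd37 zd25) (kd xd17 yd58 zd14) (kd xd12 yd38 zd37) (kd xd20 yd17 zd41) (kd xd10 yd45 zd51) (kd xd9 yd58 zd50) (kd xd9 yd58 zd48) (kd xd9 yd56 zd7) (kd xd14 yd13 zd50) (kd xd9 yd18 zd12) (kd xd11 yd50 zd11) (kd xd9 yd18 zd14) (kd xd21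 yd22 zd54) (kd xd9 yd18 zd16) (kd xd18 yd32 zd32) (kd xd10 yd13 zd50) (kd xd10 yd14 zd1) (kd xd18 yd32 zd43) (kd xd18 yd15 zd22) (kd xd18 yd32 zd45) (kd xd12 yd47 zd19) (kd xd18 yd20 zd60) (kd xd18 yd20 zd28) (kd xd27 yd3 zd48) (kd xd17 yd51 zd61) (kd xd10 yd38 zd48) (kd xd10 yd27 zd21) (kd xd18 yd35 zd38) (kd xd9 yd39 zd0) (kd xd27 yd3 zd54) (kd xd18 yd35 zd40) (kd xd9 yd39 zd3) (kd xd20 yd17 zd38) (kd xd23 yd38 zd3) (kd xd21 yd23 zd2) (kd xd27 yd3 zd60) (kd xd9 yd18 zd30) (kd xd21 yd23 zd42) (kd xd18 yd1 zd27) (kd xd21 yd23 zd32) (kd xd21 yd59 zd52) (kd xd24 yd10 zd26) (kd xd21 yd42 zd54) (kd xd26 yd14 zd36) (kd xd25 yd14 zd43) (kd xd27 yd4 zd8) (kd xd9 yd18 zd39) (kd xd17 yd52 zd41) (kd xd21 yd23 zd22) (kd xd20 yd16 zd28) (kd xd9 yd18 zd41) (kd xd21 yd23 zd47) (kd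 xd20 yd54 zd30) (kd xd17 yd48 zd44) (kd xd9 yd18 zd44) (kd xd25 yd44 zd34)) (@D3.rec (fun _ => Pt) (kd xd12 yd56 zd9) (kd xd21 yd48 zd46) (kd xd20 yd51 zd58) (kd xd9 yd18 zd46) (kd xd21 yd33 zd31) (kd xd17 yd51 zd43) (kd xd20 yd51 zd57) (kd xd9 yd18 zd47) (kd xd9 yd28 zd60) (kd xd22 yd10 zd3) (kd xd12 yd13 zd39) (kd xd27 yd4 zd23) (kd xd27 yd4 zd24) (kd xd21 yd24 zd40) (kd xd27 yd4 zd29) (kd xd21 yd19 zd25) (kd xd27 yd4 zd31) (kd xd9 yd18 zd57) (kd xd18 yd29 zd38) (kd xd27 yd4 zd38) (kd xd9 yd18 zd59) (kd xd27 yd4 zd43) (kd xd27 yd4 zd44) (kd xd9 yd18 zd61) (kd xd12 yd20 zd2) (kd xd13 yd25 zd7) (kd xd22 yd5 zd4) (kd xd18 yd49 zd49) (kd xd10 yd6 zd27) (kd xd12 yd53 zd24) (kd xd23 yd2 zd45) (kd xd27 yd4 zd45) (kd xd27 yd4 zd46) (kd xd22 yd36 zd15) (kd xd9 yd19 zd7) (kd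 xd26 yd39 zd42) (kd xd27 yd4 zd48) (kd xd12 yd47 zd33) (kd xd18 yd36 zd10) (kd xd9 yd19 zd10) (kd xd25 yd57 zd29) (kd xd21 yd27 zd20) (kd xd27 yd4 zd54) (kd xd21 yd17 zd39) (kd xd21 yd17 zd36) (kd xd25 yd57 zd41) (kd xd9 yd19 zd15) (kd xd27 yd4 zd60) (kd xd27 yd5 zd0) (kd xd25 yd7 zd5) (kd xd25 yd21 zd27) (kd xd9 yd19 zd17) (kd xd15 yd16 zd48) (kd xd9 yd19 zd18) (kd xd15 yd16 zd49) (kd xd9 yd19 zd19) (kd xd12 yd54 zd45) (kd xd12 yd39 zd23) (kd xd12 yd14 zd54) (kd xd18 yd43 zd34) (kd xd11 yd48 zd14) (kd xd27 yd5 zd6)) (@D3.rec (fun _ => Pt) (kd xd26 yd25 zd0) (kd xd20 yd18 zd51) (kd xd15 yd0 zd7) (kd xd27 yd5 zd9) (kd xd21 yd59 zd61) (kd xd9 yd19 zd28) (kd xd14 yd44 zd16) (kd xd24 yd53 zd19) (kd xd27 yd5 zd15) (kd xd9 yd19 zd29) (kd xd26 yd55 zd41) (kd xd20 yd48 zd11)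 (kd xd26 yd24 zd59) (kd xd9 yd19 zd32) (kd xd11 yd23 zd19) (kd xd16 yd23 zd14) (kd xd21 yd29 zd42) (kd xd16 yd28 zd56) (kd xd9 yd19 zd35) (kd xd21 yd29 zd43) (kd xd27 yd5 zd21) (kd xd9 yd19 zd37) (kd xd16 yd34 zd4) (kd xd11 yd7 zd48) (kd xd24 yd47 zd11) (kd xd12 yd8 zd18) (kd xd27 yd5 zd25) (kd xd27 yd5 zd26) (kd xd9 yd19 zd41) (kd xd27 yd5 zd30) (kd xd16 yd27 zd40) (kd xd22 yd42 zd7) (kd xd13 yd41 zd55) (kd xd27 yd5 zd4) (kd xd27 yd5 zd32) (kd xd9 yd19 zd44) (kd xd27 yd5 zd35) (kd xd11 yd24 zd50) (kd xd27 yd5 zd36) (kd xd26 yd32 zd23) (kd xd9 yd19 zd47) (kd xd27 yd5 zd40) (kd xd19 yd43 zd44) (kd xd9 yd19 zd49) (kd xd10 yd59 zd41) (kd xd9 yd19 zd50) (kd xd20 yd30 zd27) (kd xd17 yd35 zd3) (kd xd9 yd19 zd55) (kd xd12 yd27 zd56) (kd xd16 yd7 zd50) (kd xd12 yd27 zd59) (kd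 xd9 yd19 zd61) (kd xd18 yd58 zd5) (kd xd10 yd23 zd19) (kd xd9 yd20 zd1) (kd xd27 yd5 zd41) (kd xd22 yd40 zd21) (kd xd9 yd20 zd2) (kd xd21 yd35 zd24) (kd xd18 yd25 zd2) (kd xd9 yd55 zd38)) (@D3.rec (fun _ => Pt) (kd xd11 yd51 zd41) (kd xd12 yd48 zd4) (kd xd20 yd6 zd54) (kd xd20 yd6 zd52) (kd xd23 yd22 zd16) (kd xd27 yd5 zd48) (kd xd9 yd20 zd18) (kd xd12 yd53 zd55) (kd xd20 yd9 zd54) (kd xd20 yd12 zd32) (kd xd9 yd20 zd21) (kd xd20 yd51 zd11) (kd xd12 yd53 zd51) (kd xd25 yd17 zd54) (kd xd20 yd34 zd35) (kd xd24 yd42 zd11) (kd xd9 yd20 zd23) (kd xd18 yd22 zd34) (kd xd18 yd22 zd35) (kd xd9 yd20 zd26) (kd xd9 yd20 zd27) (kd xd17 yd42 zd32) (kd xd17 yd42 zd5) (kd xd27 yd6 zd2) (kd xd16 yd9 zd17) (kd xd17 yd35 zd31) (kd xd12 yd27 zd20) (kd xd12 yd35 zd30) (kd xd21 yd10 zd11)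 (kd xd12 yd27 zd29) (kd xd27 yd6 zd5) (kd xd9 yd20 zd35) (kd xd18 yd10 zd18) (kd xd18 yd11 zd11) (kd xd10 yd13 zd61) (kd xd10 yd49 zd42) (kd xd11 yd47 zd43) (kd xd12 yd30 zd5) (kd xd11 yd31 zd60) (kd xd12 yd41 zd47) (kd xd12 yd41 zd48) (kd xd16 yd42 zd17) (kd xd21 yd20 zd27) (kd xd27 yd6 zd7) (kd xd9 yd20 zd49) (kd xd12 yd32 zd37) (kd xd12 yd32 zd38) (kd xd27 yd6 zd11) (kd xd9 yd20 zd51) (kd xd18 yd49 zd29) (kd xd22 yd2 zd46) (kd xd22 yd2 zd47) (kd xd16 yd42 zd58) (kd xd27 yd6 zd17) (kd xd9 yd20 zd55) (kd xd9 yd20 zd56) (kd xd12 yd13 zd47) (kd xd12 yd15 zd56) (kd xd10 yd16 zd57) (kd xd27 yd6 zd23) (kd xd9 yd20 zd60) (kd xd15 yd57 zd58)) (@D3.rec (fun _ => Pt) (kd xd17 yd26 zd49) (kd xd17 yd21 zd12) (kd xd27 yd6 zd26) (kd xd27 yd6 zd27) (kd xd9 yd21 zd3) (kd xd17 yd10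 zd54) (kd xd10 yd25 zd22) (kd xd9 yd27 zd15) (kd xd10 yd44 zd38) (kd xd21 yd43 zd34) (kd xd27 yd6 zd33) (kd xd27 yd6 zd34) (kd xd9 yd21 zd12) (kd xd15 yd51 zd33) (kd xd27 yd6 zd37) (kd xd9 yd21 zd13) (kd xd16 yd3 zd43) (kd xd12 yd40 zd2) (kd xd12 yd56 zd61) (kd xd25 yd51 zd52) (kd xd9 yd21 zd19) (kd xd14 yd23 zd7) (kd xd9 yd21 zd20) (kd xd13 yd29 zd54) (kd xd27 yd6 zd50) (kd xd9 yd21 zd22) (kd xd9 yd21 zd23) (kd xd20 yd49 zd22) (kd xd17 yd17 zd35) (kd xd22 yd0 zd8) (kd xd17 yd17 zd33) (kd xd17 yd22 zd2) (kd xd12 yd57 zd24) (kd xd17 yd17 zd30) (kd xd18 yd56 zd26) (kd xd17 yd17 zd28) (kd xd21 yd20 zd61) (kd xd17 yd17 zd46) (kd xd17 yd17 zd41) (kd xd17 yd18 zd61) (kd xd12 yd32 zd41) (kd xd17 yd17 zd38) (kd xd13 yd11 zd61) (kd xd27 yd7 zd18) (kd xd9 yd21 zd33) (kd xd17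 yd23 zd11) (kd xd17 yd17 zd37) (kd xd17 yd23 zd12) (kd xd21 yd4 zd52) (kd xd21 yd43 zd49) (kd xd12 yd8 zd60) (kd xd16 yd55 zd5) (kd xd24 yd14 zd30) (kd xd27 yd7 zd29) (kd xd9 yd21 zd44) (kd xd9 yd21 zd45) (kd xd12 yd33 zd47) (kd xd27 yd7 zd36) (kd xd22 yd2 zd11) (kd xd22 yd1 zd60) (kd xd22 yd1 zd59) (kd xd27 yd7 zd40)) (@D3.rec (fun _ => Pt) (kd xd9 yd21 zd48) (kd xd27 yd7 zd46) (kd xd27 yd7 zd49) (kd xd27 yd7 zd51) (kd xd9 yd21 zd49) (kd xd27 yd7 zd43) (kd xd21 yd11 zd16) (kd xd10 yd49 zd35) (kd xd19 yd43 zd21) (kd xd9 yd21 zd53) (kd xd9 yd21 zd57) (kd xd17 yd24 zd19) (kd xd27 yd7 zd58) (kd xd27 yd7 zd59) (kd xd27 yd7 zd60) (kd xd27 yd7 zd61) (kd xd9 yd22 zd1) (kd xd14 yd11 zd44) (kd xd18 yd55 zd51) (kd xd19 yd45 zd37) (kd xd23 yd11 zd32) (kd xd18 yd52 zd11) (kd xd27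 yd8 zd7) (kd xd9 yd22 zd7) (kd xd17 yd28 zd45) (kd xd14 yd41 zd56) (kd xd14 yd41 zd55) (kd xd9 yd22 zd8) (kd xd26 yd38 zd34) (kd xd20 yd47 zd23) (kd xd27 yd8 zd13) (kd xd9 yd22 zd13) (kd xd9 yd22 zd14) (kd xd27 yd8 zd15) (kd xd9 yd22 zd15) (kd xd27 yd8 zd20) (kd xd19 yd48 zd36) (kd xd9 yd22 zd16) (kd xd27 yd8 zd23) (kd xd17 yd8 zd21) (kd xd9 yd22 zd17) (kd xd21 yd59 zd60) (kd xd26 yd52 zd58) (kd xd18 yd42 zd17) (kd xd13 yd12 zd17) (kd xd27 yd8 zd34) (kd xd9 yd22 zd20) (kd xd27 yd8 zd39) (kd xd24 yd6 zd40) (kd xd25 yd47 zd0) (kd xd9 yd22 zd22) (kd xd27 yd8 zd42) (kd xd27 yd8 zd43) (kd xd9 yd22 zd23) (kd xd27 yd8 zd47) (kd xd9 yd22 zd24) (kd xd27 yd8 zd49) (kd xd13 yd22 zd51) (kd xd10 yd21 zd28) (kd xd27 yd8 zd57) (kd xd9 yd22 zd26) (kd xd17 yd17 zd39)) (@D3.rec (fun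 _ => Pt) (kd xd19 yd23 zd31) (kd xd24 yd18 zd48) (kd xd9 yd22 zd30) (kd xd23 yd49 zd25) (kd xd9 yd22 zd33) (kd xd18 yd55 zd37) (kd xd9 yd24 zd33) (kd xd27 yd9 zd0) (kd xd27 yd9 zd1) (kd xd14 yd22 zd5) (kd xd24 yd2 zd17) (kd xd20 yd27 zd19) (kd xd10 yd42 zd61) (kd xd27 yd9 zd2) (kd xd25 yd42 zd8) (kd xd27 yd9 zd3) (kd xd9 yd22 zd51) (kd xd15 yd35 zd12) (kd xd16 yd1 zd5) (kd xd27 yd9 zd4) (kd xd19 yd22 zd13) (kd xd19 yd22 zd12) (kd xd9 yd22 zd55) (kd xd10 yd25 zd48) (kd xd17 yd12 zd41) (kd xd14 yd11 zd46) (kd xd19 yd26 zd14) (kd xd16 yd45 zd46) (kd xd12 yd58 zd13) (kd xd21 yd16 zd6) (kd xd27 yd9 zd11) (kd xd24 yd10 zd6) (kd xd21 yd22 zd23) (kd xd20 yd45 zd27) (kd xd27 yd9 zd12) (kd xd14 yd4 zd54) (kd xd10 yd20 zd5) (kd xd27 yd9 zd15) (kd xd9 yd23 zd9) (kd xd17 yd12 zd42)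 (kd xd27 yd5 zd58) (kd xd27 yd9 zd20) (kd xd9 yd23 zd14) (kd xd24 yd14 zd31) (kd xd12 yd31 zd33) (kd xd9 yd23 zd15) (kd xd27 yd9 zd21) (kd xd22 yd11 zd3) (kd xd10 yd20 zd31) (kd xd9 yd23 zd18) (kd xd27 yd9 zd25) (kd xd21 yd40 zd9) (kd xd21 yd40 zd8) (kd xd9 yd23 zd20) (kd xd27 yd9 zd28) (kd xd27 yd9 zd29) (kd xd18 yd25 zd45) (kd xd13 yd3 zd15) (kd xd27 yd9 zd32) (kd xd27 yd9 zd34) (kd xd9 yd23 zd23) (kd xd27 yd9 zd37)) (@D3.rec (fun _ => Pt) (kd xd27 yd9 zd38) (kd xd9 yd23 zd24) (kd xd20 yd27 zd13) (kd xd27 yd9 zd41) (kd xd9 yd23 zd25) (kd xd27 yd9 zd44) (kd xd12 yd33 zd57) (kd xd12 yd33 zd58) (kd xd27 yd9 zd51) (kd xd9 yd23 zd27) (kd xd27 yd9 zd52) (kd xd9 yd23 zd28) (kd xd21 yd16 zd41) (kd xd18 yd47 zd27) (kd xd17 yd11 zd33) (kd xd25 yd59 zd61) (kd xd9 yd23 zd30)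 (kd xd27 yd9 zd59) (kd xd9 yd23 zd31) (kd xd17 yd25 zd39) (kd xd17 yd11 zd58) (kd xd21 yd38 zd53) (kd xd21 yd38 zd31) (kd xd12 yd2 zd34) (kd xd22 yd0 zd36) (kd xd15 yd36 zd11) (kd xd22 yd0 zd35) (kd xd21 yd16 zd45) (kd xd25 yd25 zd53) (kd xd22 yd7 zd2) (kd xd12 yd52 zd8) (kd xd19 yd9 zd58) (kd xd27 yd10 zd15) (kd xd9 yd23 zd39) (kd xd27 yd10 zd17) (kd xd27 yd10 zd19) (kd xd9 yd23 zd41) (kd xd24 yd47 zd24) (kd xd11 yd58 zd9) (kd xd27 yd10 zd20) (kd xd22 yd11 zd16) (kd xd27 yd10 zd23) (kd xd9 yd23 zd47) (kd xd20 yd18 zd58) (kd xd14 yd17 zd55) (kd xd9 yd23 zd51) (kd xd12 yd4 zd47) (kd xd27 yd10 zd28) (kd xd27 yd10 zd29) (kd xd14 yd26 zd21) (kd xd14 yd26 zd20) (kd xd9 yd23 zd54) (kd xd17 yd34 zd15) (kd xd22 yd46 zd36) (kd xd26 yd57 zd24) (kd xd9 yd23 zd57) (kd xd27 yd10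 zd35) (kd xd24 yd7 zd25) (kd xd9 yd23 zd59) (kd xd27 yd10 zd37) (kd xd27 yd10 zd38) (kd xd9 yd23 zd60)) (@D3.rec (fun _ => Pt) (kd xd26 yd43 zd37) (kd xd19 yd25 zd12) (kd xd19 yd25 zd13) (kd xd10 yd42 zd59) (kd xd27 yd10 zd42) (kd xd12 yd9 zd32) (kd xd9 yd24 zd0) (kd xd27 yd6 zd29) (kd xd24 yd2 zd22) (kd xd9 yd24 zd1) (kd xd19 yd10 zd4) (kd xd21 yd39 zd53) (kd xd17 yd17 zd1) (kd xd10 yd54 zd52) (kd xd25 yd39 zd28) (kd xd9 yd24 zd5) (kd xd27 yd10 zd52) (kd xd27 yd10 zd53) (kd xd19 yd36 zd53) (kd xd9 yd24 zd6) (kd xd10 yd26 zd12) (kd xd23 yd55 zd30) (kd xd14 yd13 zd6) (kd xd26 yd43 zd10) (kd xd20 yd29 zd2) (kd xd24 yd2 zd31) (kd xd27 yd10 zd55) (kd xd9 yd24 zd11) (kd xd9 yd24 zd13) (kd xd9 yd24 zd14) (kd xd27 yd2 zd26) (kd xd16 yd1 zd7) (kd xd19 yd29 zd41) (kd xd15 yd35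 zd14) (kd xd15 yd35 zd15) (kd xd12 yd40 zd16) (kd xd9 yd38 zd52) (kd xd27 yd11 zd0) (kd xd21 yd42 zd55) (kd xd15 yd35 zd9) (kd xd27 yd11 zd6) (kd xd19 yd35 zd58) (kd xd27 yd11 zd8) (kd xd9 yd24 zd25) (kd xd15 yd57 zd33) (kd xd20 yd18 zd59) (kd xd11 yd23 zd4) (kd xd9 yd24 zd35) (kd xd9 yd24 zd36) (kd xd10 yd40 zd44) (kd xd9 yd24 zd38) (kd xd14 yd23 zd45) (kd xd27 yd11 zd11) (kd xd10 yd2 zd21) (kd xd27 yd11 zd13) (kd xd16 yd58 zd16) (kd xd9 yd24 zd45) (kd xd12 yd32 zd44) (kd xd27 yd11 zd15) (kd xd27 yd11 zd17) (kd xd9 yd24 zd48) (kd xd12 yd51 zd58)) (@D3.rec (fun _ => Pt) (kd xd14 yd23 zd38) (kd xd18 yd52 zd40) (kd xd17 yd17 zd31) (kd xd9 yd24 zd51) (kd xd19 yd24 zd52) (kd xd9 yd24 zd54) (kd xd25 yd43 zd42) (kd xd27 yd11 zd25) (kd xd9 yd24 zd56) (kd xd27 yd11 zd27) (kd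 xd27 yd11 zd30) (kd xd9 yd24 zd58) (kd xd9 yd24 zd59) (kd xd23 yd55 zd59) (kd xd24 yd5 zd13) (kd xd27 yd11 zd37) (kd xd9 yd24 zd60) (kd xd15 yd32 zd24) (kd xd17 yd2 zd33) (kd xd23 yd30 zd41) (kd xd9 yd25 zd3) (kd xd27 yd11 zd39) (kd xd27 yd11 zd40) (kd xd27 yd11 zd41) (kd xd9 yd25 zd5) (kd xd27 yd11 zd44) (kd xd23 yd53 zd19) (kd xd9 yd25 zd9) (kd xd19 yd23 zd48) (kd xd27 yd11 zd47) (kd xd27 yd11 zd49) (kd xd9 yd25 zd12) (kd xd24 yd10 zd33) (kd xd11 yd5 zd45) (kd xd10 yd44 zd51) (kd xd26 yd54 zd57) (kd xd27 yd11 zd51) (kd xd27 yd11 zd54) (kd xd15 yd56 zd35) (kd xd15 yd56 zd30) (kd xd10 yd25 zd12) (kd xd27 yd11 zd57) (kd xd16 yd45 zd59) (kd xd9 yd25 zd19) (kd xd27 yd12 zd1) (kd xd27 yd12 zd2) (kd xd22 yd11 zd60) (kd xd9 yd25 zd20) (kd xd27 yd12 zd4) (kd xd18 yd42 zd4)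 (kd xd21 yd39 zd57) (kd xd27 yd12 zd8) (kd xd9 yd25 zd22) (kd xd18 yd51 zd41) (kd xd14 yd6 zd41) (kd xd9 yd55 zd61) (kd xd27 yd12 zd11) (kd xd9 yd25 zd28) (kd xd16 yd31 zd24) (kd xd21 yd54 zd16) (kd xd27 yd12 zd13) (kd xd9 yd25 zd34)) (@D3.rec (fun _ => Pt) (kd xd27 yd12 zd16) (kd xd23 yd59 zd1) (kd xd14 yd53 zd39) (kd xd15 yd50 zd57) (kd xd9 yd25 zd37) (kd xd10 yd20 zd6) (kd xd27 yd12 zd19) (kd xd23 yd47 zd9) (kd xd27 yd12 zd20) (kd xd20 yd39 zd57) (kd xd27 yd12 zd22) (kd xd17 yd17 zd45) (kd xd17 yd17 zd47) (kd xd25 yd49 zd39) (kd xd25 yd21 zd8) (kd xd10 yd24 zd9) (kd xd10 yd24 zd14) (kd xd23 yd56 zd45) (kd xd17 yd33 zd15) (kd xd13 yd45 zd54) (kd xd9 yd25 zd50) (kd xd18 yd45 zd28) (kd xd9 yd25 zd51) (kd xd12 yd41 zd3) (kd xd19 yd9 zd56) (kd xd9 yd25 zd56) (kd xd24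 yd7 zd23) (kd xd15 yd36 zd20) (kd xd9 yd25 zd58) (kd xd10 yd20 zd9) (kd xd20 yd39 zd51) (kd xd26 yd13 zd20) (kd xd27 yd12 zd33) (kd xd27 yd12 zd34) (kd xd9 yd25 zd60) (kd xd13 yd37 zd1) (kd xd27 yd12 zd37) (kd xd9 yd26 zd2) (kd xd17 yd5 zd44) (kd xd27 yd12 zd40) (kd xd27 yd12 zd41) (kd xd9 yd26 zd4) (kd xd12 yd12 zd35) (kd xd12 yd12 zd34) (kd xd16 yd9 zd19) (kd xd24 yd34 zd48) (kd xd24 yd32 zd17) (kd xd9 yd26 zd8) (kd xd19 yd11 zd1) (kd xd27 yd12 zd52) (kd xd24 yd33 zd54) (kd xd9 yd26 zd9) (kd xd27 yd12 zd58) (kd xd27 yd12 zd59) (kd xd24 yd32 zd8) (kd xd9 yd26 zd10) (kd xd15 yd55 zd28) (kd xd27 yd13 zd0) (kd xd27 yd13 zd2) (kd xd9 yd26 zd12) (kd xd11 yd54 zd46) (kd xd19 yd9 zd53)) (@D3.rec (fun _ => Pt) (kd xd23 yd57 zd15) (kd xd9 yd26 zd15) (kd xd27 yd13 zd6) (kd xd16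 yd47 zd4) (kd xd27 yd13 zd7) (kd xd22 yd13 zd39) (kd xd9 yd26 zd18) (kd xd16 yd2 zd12) (kd xd24 yd15 zd31) (kd xd14 yd19 zd44) (kd xd23 yd9 zd40) (kd xd19 yd27 zd2) (kd xd25 yd55 zd46) (kd xd21 yd40 zd22) (kd xd27 yd13 zd17) (kd xd9 yd26 zd21) (kd xd27 yd13 zd23) (kd xd11 yd46 zd38) (kd xd27 yd13 zd25) (kd xd17 yd18 zd11) (kd xd22 yd38 zd35) (kd xd22 yd39 zd51) (kd xd9 yd26 zd25) (kd xd27 yd13 zd30) (kd xd25 yd21 zd42) (kd xd9 yd26 zd26) (kd xd9 yd26 zd27) (kd xd27 yd13 zd36) (kd xd27 yd13 zd38) (kd xd10 yd20 zd56) (kd xd27 yd6 zd51) (kd xd9 yd26 zd29) (kd xd14 yd33 zd47) (kd xd9 yd26 zd32) (kd xd27 yd13 zd44) (kd xd13 yd20 zd4) (kd xd13 yd20 zd45) (kd xd16 yd59 zd45) (kd xd27 yd13 zd46) (kd xd27 yd13 zd48) (kd xd27 yd13 zd50) (kd xd9 yd26 zd36) (kd xd27 yd13 zd53)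 (kd xd9 yd26 zd37) (kd xd17 yd11 zd38) (kd xd24 yd1 zd13) (kd xd9 yd26 zd38) (kd xd22 yd46 zd22) (kd xd21 yd16 zd39) (kd xd27 yd14 zd3) (kd xd9 yd26 zd40) (kd xd27 yd14 zd5) (kd xd9 yd26 zd41) (kd xd26 yd52 zd44) (kd xd22 yd1 zd4) (kd xd26 yd52 zd8) (kd xd9 yd26 zd42) (kd xd10 yd21 zd14) (kd xd25 yd30 zd61) (kd xd27 yd14 zd16) (kd xd27 yd14 zd18) (kd xd26 yd33 zd50)) (@D3.rec (fun _ => Pt) (kd xd9 yd26 zd44) (kd xd24 yd39 zd5) (kd xd9 yd26 zd45) (kd xd9 yd26 zd46) (kd xd27 yd14 zd24) (kd xd16 yd56 zd57) (kd xd26 yd44 zd40) (kd xd9 yd26 zd48) (kd xd12 yd33 zd61) (kd xd27 yd14 zd29) (kd xd27 yd14 zd31) (kd xd9 yd26 zd49) (kd xd25 yd43 zd18) (kd xd26 yd4 zd53) (kd xd25 yd13 zd57) (kd xd24 yd37 zd29) (kd xd9 yd26 zd50) (kd xd26 yd0 zd0) (kd xd27 yd14 zd37) (kd xd9 yd26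 zd52) (kd xd15 yd52 zd25) (kd xd9 yd26 zd53) (kd xd15 yd51 zd6) (kd xd9 yd26 zd54) (kd xd25 yd51 zd47) (kd xd23 yd4 zd12) (kd xd27 yd14 zd49) (kd xd9 yd26 zd56) (kd xd9 yd47 zd35) (kd xd10 yd2 zd55) (kd xd10 yd4 zd9) (kd xd27 yd14 zd56) (kd xd27 yd2 zd47) (kd xd27 yd2 zd48) (kd xd9 yd26 zd58) (kd xd27 yd3 zd2) (kd xd15 yd45 zd26) (kd xd9 yd27 zd0) (kd xd25 yd36 zd6) (kd xd17 yd20 zd19) (kd xd18 yd21 zd51) (kd xd9 yd27 zd2) (kd xd9 yd27 zd3) (kd xd12 yd58 zd21) (kd xd18 yd38 zd12) (kd xd18 yd36 zd0) (kd xd27 yd15 zd8) (kd xd9 yd27 zd6) (kd xd27 yd2 zd60) (kd xd27 yd15 zd15) (kd xd27 yd15 zd17) (kd xd27 yd13 zd39) (kd xd9 yd27 zd9) (kd xd27 yd15 zd21) (kd xd21 yd38 zd30) (kd xd10 yd16 zd15) (kd xd18 yd47 zd32) (kd xd12 yd57 zd15) (kd xd12 yd57 zd11) (kd xd24 yd23 zd11)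 (kd xd25 yd57 zd49) (kd xd15 yd36 zd10)) (@D3.rec (fun _ => Pt) (kd xd10 yd14 zd20) (kd xd18 yd21 zd54) (kd xd16 yd38 zd35) (kd xd27 yd2 zd54) (kd xd27 yd15 zd36) (kd xd27 yd15 zd38) (kd xd27 yd15 zd40) (kd xd9 yd27 zd17) (kd xd19 yd7 zd54) (kd xd19 yd45 zd43) (kd xd24 yd59 zd31) (kd xd22 yd9 zd26) (kd xd27 yd15 zd47) (kd xd27 yd15 zd51) (kd xd27 yd15 zd53) (kd xd9 yd27 zd20) (kd xd22 yd7 zd4) (kd xd27 yd14 zd36) (kd xd26 yd41 zd51) (kd xd27 yd15 zd61) (kd xd9 yd27 zd23) (kd xd27 yd7 zd42) (kd xd9 yd27 zd25) (kd xd27 yd16 zd7) (kd xd12 yd52 zd20) (kd xd12 yd52 zd17) (kd xd27 yd16 zd10) (kd xd27 yd16 zd14) (kd xd9 yd27 zd27) (kd xd20 yd38 zd58) (kd xd27 yd2 zd53) (kd xd27 yd16 zd18) (kd xd10 yd44 zd10) (kd xd27 yd2 zd1) (kd xd27 yd16 zd22) (kd xd27 yd2 zd2) (kd xd27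 yd16 zd26) (kd xd27 yd16 zd29) (kd xd20 yd57 zd31) (kd xd9 yd27 zd31) (kd xd11 yd58 zd8) (kd xd14 yd18 zd15) (kd xd23 yd56 zd11) (kd xd17 yd34 zd13) (kd xd12 yd51 zd54) (kd xd27 yd16 zd36) (kd xd11 yd58 zd29) (kd xd9 yd27 zd36) (kd xd9 yd27 zd37) (kd xd17 yd17 zd0) (kd xd21 yd9 zd52) (kd xd15 yd26 zd59) (kd xd9 yd27 zd39) (kd xd24 yd39 zd26) (kd xd23 yd31 zd13) (kd xd9 yd27 zd41) (kd xd9 yd27 zd42) (kd xd27 yd16 zd43) (kd xd16 yd58 zd11) (kd xd18 yd31 zd14) (kd xd27 yd16 zd48) (kd xd26 yd53 zd29)) (@D3.rec (fun _ => Pt) (kd xd9 yd27 zd44) (kd xd22 yd6 zd34) (kd xd26 yd13 zd49) (kd xd27 yd16 zd53) (kd xd27 yd8 zd52) (kd xd9 yd27 zd46) (kd xd27 yd16 zd59) (kd xd24 yd6 zd10) (kd xd21 yd38 zd35) (kd xd25 yd24 zd39) (kd xd9 yd27 zd49) (kd xd27 yd17 zd4) (kd xd9 yd27 zd50)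 (kd xd27 yd17 zd6) (kd xd9 yd27 zd52) (kd xd26 yd55 zd60) (kd xd12 yd52 zd34) (kd xd26 yd55 zd56) (kd xd9 yd27 zd54) (kd xd27 yd17 zd16) (kd xd9 yd27 zd55) (kd xd18 yd7 zd42) (kd xd12 yd52 zd33) (kd xd27 yd17 zd20) (kd xd9 yd27 zd59) (kd xd12 yd58 zd25) (kd xd27 yd17 zd25) (kd xd9 yd27 zd61) (kd xd19 yd39 zd36) (kd xd9 yd28 zd0) (kd xd19 yd36 zd34) (kd xd9 yd28 zd1) (kd xd19 yd36 zd40) (kd xd27 yd17 zd34) (kd xd25 yd24 zd38) (kd xd9 yd28 zd2) (kd xd12 yd52 zd12) (kd xd12 yd52 zd13) (kd xd12 yd52 zd7) (kd xd9 yd28 zd27) (kd xd27 yd17 zd41) (kd xd9 yd28 zd5) (kd xd27 yd17 zd45) (kd xd27 yd17 zd49) (kd xd27 yd17 zd50) (kd xd9 yd28 zd6) (kd xd11 yd54 zd42) (kd xd27 yd17 zd53) (kd xd27 yd17 zd54) (kd xd27 yd17 zd55) (kd xd9 yd28 zd8) (kd xd15 yd40 zd31) (kd xd15 yd40 zd33)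 (kd xd27 yd17 zd56) (kd xd27 yd17 zd57) (kd xd27 yd18 zd0) (kd xd9 yd28 zd12) (kd xd25 yd43 zd51) (kd xd27 yd18 zd3) (kd xd27 yd18 zd5) (kd xd27 yd18 zd6) (kd xd9 yd28 zd15)) (@D3.rec (fun _ => Pt) (kd xd15 yd59 zd54) (kd xd15 yd57 zd27) (kd xd27 yd18 zd14) (kd xd25 yd30 zd36) (kd xd27 yd18 zd15) (kd xd9 yd28 zd18) (kd xd16 yd0 zd28) (kd xd21 yd27 zd54) (kd xd9 yd28 zd20) (kd xd21 yd17 zd30) (kd xd27 yd18 zd21) (kd xd9 yd28 zd21) (kd xd9 yd28 zd22) (kd xd12 yd21 zd0) (kd xd12 yd21 zd1) (kd xd21 yd56 zd37) (kd xd27 yd17 zd36) (kd xd12 yd20 zd59) (kd xd19 yd36 zd26) (kd xd12 yd20 zd61) (kd xd25 yd24 zd61) (kd xd12 yd11 zd18) (kd xd27 yd18 zd45) (kd xd27 yd18 zd48) (kd xd25 yd32 zd8) (kd xd27 yd17 zd39) (kd xd19 yd10 zd5) (kd xd9 yd28 zd30) (kd xd12 yd11 zd32) (kd xd25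 yd35 zd51) (kd xd9 yd28 zd32) (kd xd24 yd35 zd40) (kd xd9 yd28 zd33) (kd xd15 yd56 zd54) (kd xd13 yd23 zd11) (kd xd13 yd17 zd19) (kd xd27 yd18 zd61) (kd xd24 yd11 zd33) (kd xd27 yd19 zd0) (kd xd9 yd28 zd36) (kd xd27 yd19 zd5) (kd xd27 yd2 zd14) (kd xd9 yd28 zd38) (kd xd27 yd19 zd10) (kd xd15 yd52 zd27) (kd xd17 yd18 zd24) (kd xd27 yd19 zd15) (kd xd12 yd57 zd13) (kd xd12 yd28 zd0) (kd xd16 yd42 zd42) (kd xd27 yd19 zd19) (kd xd27 yd19 zd21) (kd xd27 yd19 zd22) (kd xd9 yd28 zd42) (kd xd27 yd18 zd56) (kd xd12 yd52 zd5) (kd xd27 yd19 zd23) (kd xd21 yd38 zd45) (kd xd21 yd17 zd7) (kd xd21 yd17 zd8) (kd xd27 yd19 zd33) (kd xd9 yd28 zd45)) (@D3.rec (fun _ => Pt) (kd xd21 yd45 zd32) (kd xd9 yd28 zd46) (kd xd9 yd28 zd47) (kd xd27 yd19 zd20) (kd xd10 yd46 zd0) (kd xd27 yd19 zd40)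 (kd xd9 yd28 zd49) (kd xd27 yd19 zd34) (kd xd9 yd28 zd50) (kd xd25 yd7 zd34) (kd xd9 yd28 zd51) (kd xd22 yd0 zd22) (kd xd9 yd28 zd53) (kd xd27 yd19 zd47) (kd xd25 yd51 zd1) (kd xd21 yd58 zd9) (kd xd9 yd28 zd54) (kd xd21 yd16 zd56) (kd xd10 yd51 zd59) (kd xd27 yd0 zd4) (kd xd21 yd46 zd48) (kd xd21 yd46 zd47) (kd xd24 yd42 zd56) (kd xd9 yd28 zd59) (kd xd9 yd43 zd20) (kd xd9 yd43 zd21) (kd xd22 yd10 zd31) (kd xd21 yd23 zd39) (kd xd21 yd23 zd40) (kd xd20 yd54 zd29) (kd xd18 yd22 zd38) (kd xd9 yd29 zd2) (kd xd27 yd19 zd57) (kd xd25 yd13 zd4) (kd xd15 yd21 zd40) (kd xd9 yd29 zd3) (kd xd21 yd53 zd48) (kd xd25 yd12 zd48) (kd xd10 yd35 zd17) (kd xd15 yd21 zd39) (kd xd18 yd15 zd49) (kd xd9 yd29 zd5) (kd xd21 yd22 zd34) (kd xd21 yd22 zd35) (kd xd27 yd20 zd6) (kd xd9 yd33 zd0)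 (kd xd9 yd29 zd7) (kd xd22 yd9 zd53) (kd xd12 yd49 zd29) (kd xd9 yd29 zd10) (kd xd20 yd0 zd24) (kd xd9 yd29 zd11) (kd xd12 yd29 zd60) (kd xd27 yd20 zd7) (kd xd18 yd16 zd38) (kd xd18 yd35 zd6) (kd xd27 yd20 zd10) (kd xd9 yd29 zd15) (kd xd27 yd13 zd26) (kd xd9 yd29 zd16) (kd xd17 yd55 zd32) (kd xd13 yd58 zd42)) (@D3.rec (fun _ => Pt) (kd xd20 yd13 zd15) (kd xd27 yd20 zd15) (kd xd9 yd29 zd19) (kd xd12 yd31 zd20) (kd xd27 yd20 zd17) (kd xd9 yd55 zd31) (kd xd18 yd24 zd57) (kd xd9 yd59 zd54) (kd xd16 yd43 zd45) (kd xd9 yd58 zd10) (kd xd12 yd29 zd58) (kd xd22 yd28 zd59) (kd xd18 yd34 zd60) (kd xd22 yd10 zd43) (kd xd9 yd29 zd24) (kd xd27 yd20 zd11) (kd xd18 yd7 zd33) (kd xd16 yd15 zd57) (kd xd9 yd29 zd28) (kd xd20 yd14 zd58) (kd xd18 yd33 zd41) (kd xd9 yd29 zd32) (kd xd24 yd28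 zd26) (kd xd9 yd29 zd33) (kd xd9 yd29 zd34) (kd xd27 yd20 zd31) (kd xd27 yd20 zd34) (kd xd9 yd29 zd35) (kd xd14 yd14 zd24) (kd xd23 yd49 zd52) (kd xd9 yd29 zd36) (kd xd23 yd49 zd53) (kd xd12 yd19 zd45) (kd xd12 yd19 zd59) (kd xd20 yd15 zd13) (kd xd12 yd58 zd61) (kd xd9 yd29 zd38) (kd xd20 yd51 zd15) (kd xd17 yd59 zd32) (kd xd17 yd4 zd56) (kd xd12 yd29 zd6) (kd xd12 yd2 zd48) (kd xd27 yd20 zd41) (kd xd10 yd16 zd54) (kd xd21 yd48 zd61) (kd xd21 yd49 zd0) (kd xd9 yd29 zd43) (kd xd16 yd23 zd58) (kd xd20 yd6 zd55) (kd xd16 yd36 zd8) (kd xd9 yd29 zd45) (kd xd27 yd20 zd50) (kd xd27 yd20 zd51) (kd xd20 yd22 zd24) (kd xd22 yd37 zd1) (kd xd18 yd6 zd3) (kd xd9 yd29 zd47) (kd xd27 yd20 zd56) (kd xd21 yd34 zd60) (kd xd12 yd53 zd53) (kd xd18 yd6 zd2) (kd xd9 yd29 zd48)) (@D3.rec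 (fun _ => Pt) (kd xd9 yd29 zd49) (kd xd21 yd32 zd11) (kd xd21 yd32 zd12) (kd xd24 yd7 zd11) (kd xd9 yd29 zd51) (kd xd22 yd6 zd24) (kd xd18 yd0 zd5) (kd xd11 yd39 zd11) (kd xd9 yd29 zd56) (kd xd27 yd20 zd58) (kd xd27 yd20 zd59) (kd xd9 yd29 zd58) (kd xd24 yd34 zd40) (kd xd9 yd29 zd60) (kd xd27 yd20 zd61) (kd xd26 yd43 zd36) (kd xd27 yd21 zd0) (kd xd9 yd30 zd1) (kd xd22 yd21 zd46) (kd xd24 yd34 zd34) (kd xd9 yd30 zd2) (kd xd27 yd21 zd4) (kd xd24 yd2 zd45) (kd xd9 yd30 zd3) (kd xd11 yd42 zd38) (kd xd9 yd30 zd4) (kd xd21 yd35 zd13) (kd xd9 yd30 zd9) (kd xd27 yd21 zd6) (kd xd27 yd21 zd8) (kd xd9 yd30 zd11) (kd xd9 yd30 zd13) (kd xd20 yd41 zd61) (kd xd17 yd1 zd27) (kd xd27 yd21 zd12) (kd xd9 yd30 zd15) (kd xd23 yd37 zd1) (kd xd9 yd30 zd17) (kd xd18 yd50 zd31) (kd xd18 yd16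 zd16) (kd xd18 yd48 zd28) (kd xd13 yd53 zd51) (kd xd20 yd42 zd61) (kd xd20 yd41 zd23) (kd xd24 yd56 zd12) (kd xd27 yd21 zd16) (kd xd11 yd43 zd45) (kd xd9 yd30 zd25) (kd xd17 yd12 zd20) (kd xd13 yd1 zd22) (kd xd17 yd12 zd22) (kd xd10 yd59 zd22) (kd xd22 yd20 zd24) (kd xd20 yd42 zd57) (kd xd10 yd59 zd24) (kd xd27 yd21 zd19) (kd xd9 yd30 zd35) (kd xd27 yd13 zd21) (kd xd11 yd16 zd37) (kd xd11 yd6 zd31) (kd xd18 yd7 zd36) (kd xd16 yd56 zd27)) (@D3.rec (fun _ => Pt) (kd xd11 yd6 zd30) (kd xd9 yd30 zd41) (kd xd27 yd21 zd23) (kd xd9 yd30 zd42) (kd xd27 yd13 zd19) (kd xd22 yd16 zd40) (kd xd25 yd27 zd18) (kd xd27 yd21 zd27) (kd xd27 yd21 zd29) (kd xd9 yd30 zd46) (kd xd27 yd21 zd33) (kd xd13 yd54 zd12) (kd xd13 yd54 zd15) (kd xd9 yd30 zd47) (kd xd24 yd35 zd24) (kd xd20 yd41 zd59)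 (kd xd14 yd26 zd22) (kd xd9 yd30 zd52) (kd xd26 yd53 zd57) (kd xd10 yd45 zd37) (kd xd17 yd1 zd23) (kd xd15 yd28 zd49) (kd xd27 yd21 zd38) (kd xd11 yd41 zd57) (kd xd9 yd30 zd54) (kd xd10 yd59 zd25) (kd xd9 yd30 zd55) (kd xd27 yd21 zd40) (kd xd27 yd13 zd20) (kd xd27 yd13 zd11) (kd xd11 yd42 zd37) (kd xd9 yd30 zd57) (kd xd27 yd21 zd45) (kd xd9 yd30 zd58) (kd xd11 yd43 zd1) (kd xd9 yd30 zd59) (kd xd20 yd43 zd41) (kd xd10 yd51 zd23) (kd xd14 yd18 zd16) (kd xd9 yd31 zd0) (kd xd11 yd44 zd24) (kd xd25 yd19 zd5) (kd xd9 yd31 zd2) (kd xd17 yd5 zd49) (kd xd27 yd21 zd51) (kd xd9 yd31 zd3) (kd xd19 yd19 zd35) (kd xd11 yd58 zd5) (kd xd10 yd18 zd48) (kd xd11 yd59 zd4) (kd xd16 yd27 zd31) (kd xd9 yd31 zd6) (kd xd9 yd31 zd7) (kd xd19 yd19 zd46) (kd xd11 yd54 zd47) (kd xd11 yd54 zd50)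 (kd xd27 yd12 zd38) (kd xd11 yd48 zd2) (kd xd9 yd31 zd9) (kd xd27 yd21 zd57) (kd xd14 yd50 zd21) (kd xd26 yd45 zd49)) (@D3.rec (fun _ => Pt) (kd xd26 yd48 zd59) (kd xd11 yd13 zd2) (kd xd19 yd43 zd40) (kd xd11 yd48 zd13) (kd xd19 yd43 zd7) (kd xd11 yd44 zd54) (kd xd9 yd31 zd18) (kd xd19 yd41 zd47) (kd xd11 yd13 zd5) (kd xd11 yd14 zd18) (kd xd22 yd4 zd13) (kd xd20 yd51 zd14) (kd xd18 yd50 zd54) (kd xd18 yd21 zd36) (kd xd21 yd9 zd29) (kd xd17 yd23 zd18) (kd xd22 yd5 zd10) (kd xd15 yd46 zd21) (kd xd16 yd56 zd3) (kd xd14 yd55 zd56) (kd xd9 yd31 zd29) (kd xd20 yd37 zd52) (kd xd9 yd31 zd30) (kd xd20 yd38 zd1) (kd xd9 yd31 zd32) (kd xd21 yd35 zd1) (kd xd16 yd59 zd42) (kd xd27 yd22 zd10) (kd xd10 yd23 zd14) (kd xd9 yd43 zd14) (kd xd9 yd31 zd34) (kd xd18 yd21 zd2) (kd xd22 yd5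 zd24) (kd xd22 yd5 zd25) (kd xd9 yd31 zd35) (kd xd9 yd41 zd58) (kd xd20 yd12 zd17) (kd xd21 yd9 zd33) (kd xd20 yd12 zd24) (kd xd12 yd14 zd2) (kd xd27 yd22 zd16) (kd xd9 yd31 zd42) (kd xd18 yd35 zd14) (kd xd27 yd22 zd13) (kd xd9 yd31 zd47) (kd xd27 yd22 zd19) (kd xd20 yd12 zd23) (kd xd27 yd3 zd24) (kd xd22 yd6 zd26) (kd xd22 yd6 zd27) (kd xd18 yd47 zd21) (kd xd21 yd35 zd38) (kd xd27 yd22 zd24) (kd xd9 yd31 zd54) (kd xd27 yd22 zd29) (kd xd26 yd6 zd3) (kd xd18 yd0 zd21) (kd xd27 yd22 zd31) (kd xd9 yd31 zd55) (kd xd9 yd36 zd44) (kd xd9 yd31 zd56) (kd xd27 yd22 zd2)) (@D3.rec (fun _ => Pt) (kd xd27 yd22 zd3) (kd xd27 yd22 zd35) (kd xd11 yd51 zd40) (kd xd20 yd7 zd2) (kd xd17 yd56 zd50) (kd xd17 yd56 zd51) (kd xd9 yd32 zd0) (kd xd27 yd22 zd38) (kd xd9 yd32 zd2) (kd xd9 yd32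 zd3) (kd xd15 yd30 zd30) (kd xd15 yd30 zd29) (kd xd14 yd25 zd58) (kd xd17 yd26 zd43) (kd xd14 yd23 zd60) (kd xd17 yd20 zd52) (kd xd27 yd18 zd51) (kd xd9 yd32 zd7) (kd xd10 yd10 zd36) (kd xd9 yd32 zd9) (kd xd9 yd54 zd23) (kd xd9 yd32 zd10) (kd xd10 yd0 zd11) (kd xd25 yd58 zd6) (kd xd9 yd46 zd17) (kd xd15 yd30 zd28) (kd xd25 yd19 zd6) (kd xd18 yd23 zd36) (kd xd15 yd30 zd26) (kd xd15 yd29 zd17) (kd xd15 yd29 zd16) (kd xd25 yd21 zd52) (kd xd9 yd32 zd16) (kd xd15 yd2 zd49) (kd xd22 yd8 zd0) (kd xd12 yd30 zd17) (kd xd27 yd22 zd56) (kd xd12 yd30 zd19) (kd xd19 yd27 zd40) (kd xd19 yd9 zd48) (kd xd21 yd9 zd50) (kd xd20 yd25 zd46) (kd xd15 yd46 zd23) (kd xd16 yd49 zd45) (kd xd24 yd12 zd33) (kd xd10 yd1 zd39) (kd xd10 yd44 zd22) (kd xd16 yd57 zd32) (kd xd12 yd32 zd7) (kd xd20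 yd27 zd35) (kd xd20 yd34 zd13) (kd xd18 yd57 zd21) (kd xd22 yd8 zd28) (kd xd12 yd38 zd14) (kd xd9 yd32 zd38) (kd xd9 yd32 zd40) (kd xd21 yd36 zd21) (kd xd9 yd32 zd41) (kd xd15 yd32 zd26) (kd xd27 yd23 zd6) (kd xd9 yd32 zd43) (kd xd22 yd3 zd15)) (@D3.rec (fun _ => Pt) (kd xd12 yd29 zd29) (kd xd27 yd23 zd10) (kd xd9 yd32 zd54) (kd xd17 yd15 zd47) (kd xd20 yd42 zd20) (kd xd27 yd23 zd14) (kd xd9 yd32 zd55) (kd xd9 yd32 zd56) (kd xd27 yd23 zd3) (kd xd24 yd1 zd59) (kd xd18 yd29 zd35) (kd xd12 yd59 zd23) (kd xd27 yd23 zd18) (kd xd27 yd20 zd3) (kd xd27 yd23 zd19) (kd xd23 yd50 zd48) (kd xd9 yd33 zd1) (kd xd17 yd42 zd59) (kd xd23 yd52 zd10) (kd xd13 yd0 zd42) (kd xd23 yd52 zd14) (kd xd12 yd46 zd23) (kd xd12 yd46 zd24) (kd xd27 yd23 zd24) (kd xd27 yd23 zd25) (kd xd27 yd23 zd27)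 (kd xd27 yd23 zd30) (kd xd9 yd33 zd9) (kd xd27 yd23 zd31) (kd xd9 yd33 zd10) (kd xd12 yd20 zd12) (kd xd17 yd16 zd25) (kd xd14 yd32 zd0) (kd xd12 yd12 zd56) (kd xd9 yd33 zd12) (kd xd16 yd48 zd33) (kd xd9 yd33 zd13) (kd xd11 yd37 zd51) (kd xd10 yd34 zd48) (kd xd13 yd50 zd3) (kd xd15 yd24 zd33) (kd xd15 yd51 zd44) (kd xd10 yd34 zd50) (kd xd27 yd23 zd47) (kd xd27 yd23 zd48) (kd xd15 yd53 zd25) (kd xd9 yd41 zd5) (kd xd27 yd23 zd49) (kd xd20 yd37 zd25) (kd xd27 yd23 zd53) (kd xd9 yd33 zd20) (kd xd15 yd50 zd1) (kd xd20 yd2 zd29) (kd xd25 yd43 zd61) (kd xd25 yd48 zd46) (kd xd18 yd8 zd0) (kd xd27 yd24 zd1) (kd xd9 yd33 zd24) (kd xd15 yd18 zd11) (kd xd10 yd10 zd21) (kd xd15 yd18 zd12) (kd xd21 yd5 zd15)) (@D3.rec (fun _ => Pt) (kd xd12 yd21 zd51) (kd xd25 yd43 zd39) (kd xd9 yd33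 zd30) (kd xd15 yd15 zd58) (kd xd9 yd33 zd33) (kd xd13 yd32 zd29) (kd xd27 yd24 zd8) (kd xd27 yd24 zd9) (kd xd25 yd54 zd5) (kd xd27 yd24 zd16) (kd xd9 yd33 zd34) (kd xd27 yd24 zd20) (kd xd24 yd43 zd52) (kd xd27 yd24 zd23) (kd xd27 yd24 zd24) (kd xd9 yd33 zd35) (kd xd20 yd43 zd58) (kd xd9 yd33 zd36) (kd xd19 yd57 zd15) (kd xd19 yd57 zd16) (kd xd23 yd20 zd47) (kd xd9 yd33 zd38) (kd xd11 yd52 zd61) (kd xd27 yd24 zd35) (kd xd15 yd9 zd8) (kd xd17 yd36 zd58) (kd xd15 yd37 zd44) (kd xd17 yd39 zd49) (kd xd27 yd24 zd38) (kd xd9 yd33 zd45) (kd xd22 yd28 zd25) (kd xd18 yd27 zd30) (kd xd15 yd11 zd46) (kd xd9 yd33 zd47) (kd xd17 yd39 zd8) (kd xd17 yd39 zd9) (kd xd27 yd24 zd47) (kd xd9 yd33 zd48) (kd xd22 yd2 zd56) (kd xd26 yd0 zd25) (kd xd27 yd24 zd53) (kd xd9 yd33 zd50) (kd xd17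 yd41 zd31) (kd xd27 yd24 zd39) (kd xd25 yd1 zd48) (kd xd9 yd33 zd52) (kd xd27 yd24 zd58) (kd xd27 yd24 zd60) (kd xd27 yd25 zd0) (kd xd9 yd33 zd54) (kd xd24 yd56 zd0) (kd xd16 yd19 zd16) (kd xd10 yd8 zd45) (kd xd17 yd41 zd20) (kd xd17 yd37 zd37) (kd xd27 yd25 zd4) (kd xd27 yd25 zd7) (kd xd9 yd33 zd60) (kd xd17 yd36 zd25) (kd xd27 yd25 zd11) (kd xd27 yd24 zd59) (kd xd18 yd26 zd56)) (@D3.rec (fun _ => Pt) (kd xd9 yd33 zd61) (kd xd27 yd25 zd15) (kd xd9 yd34 zd0) (kd xd25 yd28 zd45) (kd xd25 yd28 zd46) (kd xd26 yd16 zd31) (kd xd15 yd6 zd61) (kd xd27 yd25 zd23) (kd xd27 yd25 zd25) (kd xd15 yd7 zd2) (kd xd16 yd1 zd26) (kd xd16 yd1 zd27) (kd xd25 yd30 zd2) (kd xd27 yd25 zd28) (kd xd9 yd34 zd6) (kd xd17 yd39 zd41) (kd xd16 yd19 zd2) (kd xd26 yd11 zd35) (kd xd26 yd11 zd36) (kd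 xd17 yd41 zd8) (kd xd9 yd34 zd12) (kd xd17 yd41 zd18) (kd xd17 yd41 zd19) (kd xd27 yd25 zd36) (kd xd9 yd34 zd15) (kd xd24 yd44 zd31) (kd xd24 yd44 zd28) (kd xd26 yd14 zd18) (kd xd26 yd14 zd17) (kd xd9 yd34 zd17) (kd xd15 yd23 zd23) (kd xd18 yd5 zd10) (kd xd9 yd34 zd60) (kd xd27 yd24 zd51) (kd xd27 yd25 zd42) (kd xd9 yd34 zd21) (kd xd26 yd15 zd17) (kd xd17 yd36 zd54) (kd xd21 yd58 zd28) (kd xd16 yd14 zd41) (kd xd16 yd14 zd42) (kd xd26 yd11 zd41) (kd xd9 yd34 zd24) (kd xd14 yd35 zd16) (kd xd27 yd25 zd50) (kd xd9 yd34 zd26) (kd xd17 yd39 zd10) (kd xd25 yd33 zd0) (kd xd9 yd34 zd27) (kd xd12 yd26 zd48) (kd xd27 yd25 zd38) (kd xd25 yd27 zd41) (kd xd9 yd34 zd28) (kd xd27 yd25 zd59) (kd xd9 yd34 zd29) (kd xd27 yd26 zd2) (kd xd9 yd35 zd8) (kd xd9 yd35 zd9) (kd xd17 yd39 zd1)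 (kd xd27 yd26 zd9) (kd xd22 yd28 zd32) (kd xd15 yd12 zd19)) (@D3.rec (fun _ => Pt) (kd xd9 yd34 zd31) (kd xd27 yd26 zd16) (kd xd9 yd35 zd6) (kd xd27 yd26 zd18) (kd xd27 yd26 zd20) (kd xd27 yd26 zd23) (kd xd9 yd34 zd33) (kd xd18 yd27 zd31) (kd xd18 yd28 zd42) (kd xd26 yd15 zd41) (kd xd26 yd16 zd37) (kd xd14 yd57 zd30) (kd xd14 yd57 zd33) (kd xd14 yd59 zd6) (kd xd9 yd34 zd37) (kd xd15 yd14 zd59) (kd xd24 yd58 zd50) (kd xd18 yd27 zd13) (kd xd21 yd52 zd18) (kd xd21 yd52 zd17) (kd xd9 yd34 zd42) (kd xd22 yd34 zd37) (kd xd18 yd17 zd59) (kd xd18 yd17 zd58) (kd xd10 yd54 zd12) (kd xd22 yd45 zd9) (kd xd9 yd34 zd48) (kd xd15 yd23 zd9) (kd xd25 yd32 zd43) (kd xd25 yd32 zd44) (kd xd17 yd40 zd56) (kd xd12 yd24 zd49) (kd xd9 yd34 zd52) (kd xd27 yd26 zd40) (kd xd18 yd18 zd0) (kd xd9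 yd34 zd55) (kd xd18 yd3 zd39) (kd xd17 yd40 zd8) (kd xd9 yd34 zd57) (kd xd27 yd26 zd44) (kd xd9 yd35 zd32) (kd xd9 yd35 zd33) (kd xd18 yd30 zd16) (kd xd26 yd12 zd22) (kd xd18 yd7 zd2) (kd xd18 yd7 zd3) (kd xd9 yd34 zd59) (kd xd27 yd26 zd52) (kd xd14 yd57 zd0) (kd xd26 yd0 zd24) (kd xd9 yd34 zd61) (kd xd27 yd25 zd2) (kd xd9 yd35 zd0) (kd xd16 yd16 zd34) (kd xd27 yd26 zd58) (kd xd9 yd35 zd2) (kd xd25 yd44 zd19) (kd xd15 yd51 zd21) (kd xd27 yd26 zd59) (kd xd27 yd27 zd0) (kd xd27 yd24 zd50) (kd xd18 yd4 zd27)) (@D3.rec (fun _ => Pt) (kd xd9 yd35 zd7) (kd xd17 yd37 zd58) (kd xd25 yd29 zd58) (kd xd27 yd27 zd1) (kd xd27 yd26 zd4) (kd xd25 yd27 zd17) (kd xd9 yd35 zd10) (kd xd27 yd26 zd37) (kd xd17 yd36 zd34) (kd xd17 yd36 zd35) (kd xd17 yd37 zd46) (kd xd15 yd34 zd44) (kd xd26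 yd14 zd1) (kd xd9 yd35 zd12) (kd xd27 yd27 zd6) (kd xd16 yd2 zd57) (kd xd26 yd13 zd52) (kd xd16 yd7 zd40) (kd xd27 yd25 zd3) (kd xd27 yd25 zd13) (kd xd9 yd35 zd15) (kd xd27 yd26 zd32) (kd xd9 yd35 zd16) (kd xd26 yd10 zd50) (kd xd9 yd35 zd17) (kd xd16 yd20 zd9) (kd xd15 yd19 zd2) (kd xd25 yd15 zd26) (kd xd9 yd35 zd19) (kd xd14 yd57 zd39) (kd xd9 yd35 zd20) (kd xd25 yd9 zd52) (kd xd9 yd35 zd22) (kd xd24 yd44 zd54) (kd xd17 yd46 zd55) (kd xd15 yd24 zd38) (kd xd15 yd53 zd38) (kd xd10 yd0 zd51) (kd xd18 yd22 zd52) (kd xd9 yd35 zd27) (kd xd19 yd36 zd8) (kd xd17 yd37 zd15) (kd xd18 yd19 zd12) (kd xd9 yd35 zd31) (kd xd27 yd26 zd45) (kd xd18 yd3 zd6) (kd xd27 yd26 zd47) (kd xd20 yd4 zd16) (kd xd9 yd35 zd34) (kd xd17 yd36 zd27) (kd xd15 yd9 zd61) (kd xd27 yd27 zd31) (kd xd9 yd35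 zd36) (kd xd10 yd8 zd5) (kd xd9 yd35 zd37) (kd xd18 yd6 zd13) (kd xd21 yd42 zd3) (kd xd17 yd39 zd59) (kd xd18 yd4 zd29) (kd xd17 yd39 zd57) (kd xd27 yd27 zd35) (kd xd9 yd35 zd46)) (@D3.rec (fun _ => Pt) (kd xd23 yd23 zd61) (kd xd27 yd27 zd37) (kd xd27 yd27 zd38) (kd xd9 yd35 zd47) (kd xd9 yd35 zd48) (kd xd16 yd14 zd18) (kd xd16 yd14 zd19) (kd xd24 yd59 zd6) (kd xd17 yd38 zd37) (kd xd12 yd12 zd4) (kd xd13 yd1 zd11) (kd xd15 yd34 zd43) (kd xd16 yd18 zd40) (kd xd11 yd9 zd42) (kd xd25 yd9 zd53) (kd xd9 yd35 zd54) (kd xd27 yd27 zd51) (kd xd9 yd35 zd55) (kd xd26 yd11 zd30) (kd xd9 yd35 zd56) (kd xd18 yd32 zd24) (kd xd9 yd35 zd57) (kd xd27 yd27 zd58) (kd xd15 yd34 zd45) (kd xd17 yd44 zd25) (kd xd26 yd12 zd48) (kd xd26 yd12 zd49) (kd xd9 yd35 zd59) (kd xd18 yd28 zd51) (kd xd15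 yd12 zd47) (kd xd9 yd35 zd60) (kd xd27 yd28 zd4) (kd xd9 yd36 zd1) (kd xd18 yd3 zd19) (kd xd26 yd11 zd29) (kd xd27 yd28 zd5) (kd xd9 yd36 zd2) (kd xd18 yd8 zd18) (kd xd27 yd28 zd8) (kd xd15 yd43 zd8) (kd xd24 yd56 zd24) (kd xd9 yd36 zd5) (kd xd9 yd36 zd4) (kd xd27 yd27 zd61) (kd xd9 yd36 zd6) (kd xd24 yd56 zd21) (kd xd21 yd37 zd13) (kd xd13 yd2 zd7) (kd xd15 yd48 zd53) (kd xd9 yd38 zd24) (kd xd17 yd44 zd23) (kd xd19 yd17 zd0) (kd xd25 yd43 zd10) (kd xd21 yd25 zd10) (kd xd25 yd39 zd22) (kd xd18 yd27 zd40) (kd xd17 yd38 zd30) (kd xd26 yd15 zd46) (kd xd27 yd28 zd28) (kd xd27 yd28 zd32) (kd xd9 yd36 zd11) (kd xd9 yd37 zd13)) (@D3.rec (fun _ => Pt) (kd xd24 yd56 zd4) (kd xd17 yd44 zd16) (kd xd17 yd44 zd21) (kd xd17 yd44 zd33) (kd xd24 yd55 zd24) (kd xd10 yd29 zd21) (kd xd10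 yd29 zd20) (kd xd9 yd36 zd14) (kd xd17 yd37 zd19) (kd xd27 yd28 zd39) (kd xd27 yd28 zd42) (kd xd27 yd28 zd44) (kd xd27 yd28 zd45) (kd xd9 yd36 zd16) (kd xd25 yd1 zd23) (kd xd25 yd32 zd41) (kd xd27 yd27 zd53) (kd xd9 yd36 zd18) (kd xd17 yd37 zd21) (kd xd17 yd37 zd22) (kd xd17 yd36 zd53) (kd xd9 yd52 zd44) (kd xd27 yd28 zd52) (kd xd27 yd28 zd54) (kd xd9 yd36 zd20) (kd xd18 yd27 zd33) (kd xd15 yd7 zd12) (kd xd9 yd36 zd21) (kd xd27 yd29 zd1) (kd xd27 yd29 zd3) (kd xd9 yd36 zd22) (kd xd17 yd36 zd42) (kd xd27 yd29 zd4) (kd xd27 yd29 zd6) (kd xd27 yd29 zd8) (kd xd9 yd36 zd24) (kd xd16 yd18 zd57) (kd xd16 yd18 zd54) (kd xd9 yd55 zd1) (kd xd9 yd36 zd26) (kd xd15 yd51 zd9) (kd xd18 yd3 zd60) (kd xd9 yd36 zd27) (kd xd26 yd13 zd46) (kd xd24 yd45 zd41) (kd xd9 yd36 zd30) (kd xd15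 yd30 zd5) (kd xd27 yd29 zd12) (kd xd9 yd36 zd31) (kd xd26 yd12 zd18) (kd xd24 yd45 zd40) (kd xd9 yd36 zd35) (kd xd27 yd29 zd15) (kd xd9 yd36 zd36) (kd xd25 yd17 zd25) (kd xd11 yd18 zd50) (kd xd11 yd16 zd41) (kd xd21 yd47 zd46) (kd xd11 yd17 zd55) (kd xd11 yd17 zd54) (kd xd27 yd22 zd36) (kd xd27 yd22 zd37)) (@D3.rec (fun _ => Pt) (kd xd9 yd36 zd42) (kd xd27 yd29 zd23) (kd xd17 yd52 zd4) (kd xd9 yd36 zd43) (kd xd27 yd22 zd30) (kd xd17 yd16 zd22) (kd xd16 yd9 zd16) (kd xd27 yd29 zd30) (kd xd9 yd36 zd46) (kd xd25 yd44 zd43) (kd xd9 yd42 zd7) (kd xd9 yd36 zd47) (kd xd27 yd29 zd33) (kd xd9 yd36 zd50) (kd xd11 yd2 zd56) (kd xd9 yd36 zd51) (kd xd25 yd31 zd11) (kd xd27 yd29 zd34) (kd xd26 yd1 zd37) (kd xd21 yd1 zd39) (kd xd21 yd24 zd11) (kd xd21 yd24 zd10) (kd xd9 yd36 zd56)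 (kd xd18 yd32 zd28) (kd xd9 yd36 zd58) (kd xd17 yd51 zd49) (kd xd17 yd51 zd58) (kd xd16 yd42 zd13) (kd xd10 yd7 zd5) (kd xd18 yd35 zd39) (kd xd18 yd35 zd1) (kd xd18 yd50 zd12) (kd xd17 yd16 zd21) (kd xd26 yd4 zd18) (kd xd12 yd23 zd60) (kd xd27 yd29 zd47) (kd xd11 yd8 zd48) (kd xd27 yd29 zd49) (kd xd9 yd37 zd6) (kd xd25 yd31 zd12) (kd xd9 yd59 zd30) (kd xd9 yd37 zd9) (kd xd9 yd37 zd11) (kd xd27 yd29 zd0) (kd xd9 yd37 zd12) (kd xd24 yd55 zd29) (kd xd27 yd29 zd53) (kd xd27 yd27 zd3) (kd xd9 yd37 zd14) (kd xd27 yd25 zd32) (kd xd15 yd49 zd8) (kd xd22 yd15 zd11) (kd xd27 yd25 zd30) (kd xd9 yd37 zd17) (kd xd9 yd37 zd16) (kd xd26 yd16 zd0) (kd xd9 yd37 zd18) (kd xd9 yd37 zd19) (kd xd24 yd56 zd3) (kd xd17 yd35 zd17) (kd xd9 yd52 zd39) (kd xd9 yd37 zd23)) (@D3.rec (fun _ => Pt)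 (kd xd18 yd5 zd53) (kd xd18 yd5 zd52) (kd xd9 yd37 zd25) (kd xd9 yd54 zd17) (kd xd19 yd1 zd61) (kd xd10 yd30 zd15) (kd xd27 yd30 zd6) (kd xd27 yd30 zd8) (kd xd15 yd17 zd61) (kd xd27 yd30 zd11) (kd xd27 yd30 zd14) (kd xd26 yd44 zd26) (kd xd25 yd36 zd14) (kd xd9 yd37 zd35) (kd xd19 yd26 zd6) (kd xd11 yd4 zd22) (kd xd11 yd4 zd25) (kd xd9 yd37 zd37) (kd xd16 yd10 zd24) (kd xd9 yd37 zd42) (kd xd27 yd23 zd59) (kd xd9 yd37 zd43) (kd xd15 yd34 zd55) (kd xd18 yd8 zd11) (kd xd27 yd30 zd24) (kd xd9 yd37 zd48) (kd xd27 yd26 zd38) (kd xd16 yd4 zd22) (kd xd26 yd5 zd14) (kd xd9 yd37 zd51) (kd xd17 yd45 zd38) (kd xd17 yd45 zd46) (kd xd27 yd30 zd25) (kd xd9 yd37 zd54) (kd xd17 yd48 zd54) (kd xd9 yd37 zd58) (kd xd26 yd15 zd42) (kd xd9 yd37 zd60) (kd xd27 yd30 zd28) (kd xd9 yd37 zd61)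 (kd xd18 yd45 zd42) (kd xd23 yd51 zd48) (kd xd27 yd30 zd30) (kd xd9 yd38 zd0) (kd xd11 yd19 zd0) (kd xd9 yd38 zd1) (kd xd21 yd57 zd15) (kd xd19 yd59 zd54) (kd xd9 yd38 zd2) (kd xd27 yd30 zd35) (kd xd18 yd7 zd56) (kd xd27 yd30 zd38) (kd xd9 yd38 zd4) (kd xd21 yd57 zd16) (kd xd9 yd38 zd5) (kd xd27 yd30 zd41) (kd xd15 yd48 zd61) (kd xd21 yd36 zd6) (kd xd9 yd38 zd7) (kd xd27 yd30 zd45) (kd xd9 yd38 zd8) (kd xd15 yd19 zd49)) (@D3.rec (fun _ => Pt) (kd xd9 yd38 zd9) (kd xd18 yd12 zd43) (kd xd9 yd38 zd10) (kd xd27 yd30 zd50) (kd xd17 yd48 zd56) (kd xd23 yd45 zd25) (kd xd21 yd55 zd49) (kd xd9 yd38 zd12) (kd xd27 yd30 zd55) (kd xd9 yd38 zd13) (kd xd27 yd30 zd56) (kd xd9 yd38 zd15) (kd xd15 yd19 zd44) (kd xd9 yd53 zd11) (kd xd21 yd58 zd31) (kd xd14 yd56 zd46) (kd xd17 yd41 zd1)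 (kd xd27 yd31 zd3) (kd xd9 yd38 zd18) (kd xd17 yd52 zd50) (kd xd9 yd38 zd19) (kd xd17 yd41 zd2) (kd xd21 yd25 zd1) (kd xd17 yd40 zd50) (kd xd23 yd22 zd26) (kd xd17 yd40 zd24) (kd xd23 yd22 zd27) (kd xd25 yd45 zd30) (kd xd27 yd28 zd15) (kd xd27 yd31 zd12) (kd xd27 yd29 zd52) (kd xd27 yd27 zd43) (kd xd16 yd6 zd46) (kd xd17 yd41 zd3) (kd xd14 yd57 zd10) (kd xd27 yd31 zd15) (kd xd18 yd11 zd8) (kd xd10 yd7 zd52) (kd xd14 yd57 zd19) (kd xd27 yd31 zd19) (kd xd9 yd38 zd29) (kd xd27 yd31 zd22) (kd xd9 yd38 zd30) (kd xd23 yd22 zd33) (kd xd27 yd25 zd57) (kd xd9 yd38 zd31) (kd xd27 yd25 zd55) (kd xd18 yd16 zd30) (kd xd9 yd38 zd33) (kd xd26 yd6 zd26) (kd xd26 yd4 zd37) (kd xd24 yd45 zd44) (kd xd24 yd45 zd45) (kd xd10 yd10 zd59) (kd xd9 yd38 zd36) (kd xd10 yd24 zd16) (kd xd16 yd18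 zd49) (kd xd9 yd38 zd39) (kd xd15 yd26 zd3) (kd xd16 yd18 zd50) (kd xd9 yd38 zd42) (kd xd10 yd11 zd24)) (@D3.rec (fun _ => Pt) (kd xd12 yd36 zd35) (kd xd15 yd49 zd44) (kd xd9 yd38 zd49) (kd xd12 yd2 zd26) (kd xd12 yd37 zd30) (kd xd11 yd49 zd27) (kd xd10 yd50 zd40) (kd xd25 yd56 zd20) (kd xd12 yd53 zd31) (kd xd9 yd38 zd56) (kd xd20 yd3 zd30) (kd xd19 yd40 zd39) (kd xd21 yd9 zd46) (kd xd22 yd4 zd9) (kd xd16 yd50 zd2) (kd xd21 yd34 zd4) (kd xd11 yd21 zd51) (kd xd26 yd20 zd47) (kd xd9 yd39 zd6) (kd xd27 yd31 zd42) (kd xd9 yd39 zd7) (kd xd9 yd39 zd8) (kd xd27 yd31 zd44) (kd xd12 yd25 zd55) (kd xd14 yd56 zd43) (kd xd27 yd28 zd19) (kd xd27 yd31 zd51) (kd xd9 yd39 zd10) (kd xd27 yd31 zd53) (kd xd9 yd39 zd11) (kd xd27 yd28 zd20) (kd xd14 yd9 zd33) (kd xd9 yd39 zd14) (kd xd11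 yd29 zd26) (kd xd19 yd15 zd60) (kd xd27 yd31 zd59) (kd xd17 yd52 zd34) (kd xd11 yd3 zd14) (kd xd17 yd43 zd30) (kd xd15 yd1 zd20) (kd xd14 yd59 zd33) (kd xd16 yd24 zd12) (kd xd15 yd7 zd43) (kd xd10 yd29 zd0) (kd xd26 yd20 zd4) (kd xd15 yd42 zd51) (kd xd17 yd43 zd31) (kd xd18 yd52 zd30) (kd xd10 yd14 zd55) (kd xd10 yd12 zd60) (kd xd18 yd41 zd32) (kd xd18 yd53 zd52) (kd xd18 yd9 zd21) (kd xd27 yd32 zd8) (kd xd9 yd39 zd35) (kd xd10 yd12 zd30) (kd xd18 yd13 zd20) (kd xd18 yd14 zd57) (kd xd18 yd14 zd56) (kd xd9 yd39 zd37) (kd xd10 yd12 zd25) (kd xd27 yd32 zd10)) (@D3.rec (fun _ => Pt) (kd xd18 yd35 zd16) (kd xd27 yd32 zd22) (kd xd9 yd39 zd39) (kd xd27 yd32 zd29) (kd xd27 yd32 zd32) (kd xd27 yd32 zd34) (kd xd27 yd32 zd36) (kd xd9 yd39 zd41) (kd xd27 yd32 zd40) (kd xd27 yd32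 zd42) (kd xd9 yd39 zd42) (kd xd27 yd32 zd44) (kd xd9 yd56 zd54) (kd xd27 yd32 zd46) (kd xd27 yd32 zd50) (kd xd27 yd32 zd51) (kd xd9 yd39 zd45) (kd xd17 yd46 zd20) (kd xd27 yd32 zd60) (kd xd9 yd39 zd47) (kd xd17 yd46 zd17) (kd xd9 yd39 zd53) (kd xd9 yd39 zd55) (kd xd11 yd23 zd22) (kd xd20 yd21 zd28) (kd xd9 yd39 zd50) (kd xd27 yd33 zd7) (kd xd17 yd47 zd22) (kd xd18 yd58 zd19) (kd xd12 yd6 zd24) (kd xd27 yd33 zd11) (kd xd10 yd27 zd56) (kd xd18 yd53 zd46) (kd xd12 yd8 zd7) (kd xd9 yd39 zd52) (kd xd27 yd33 zd17) (kd xd21 yd28 zd40) (kd xd24 yd48 zd15) (kd xd27 yd33 zd20) (kd xd10 yd27 zd51) (kd xd27 yd33 zd24) (kd xd22 yd15 zd23) (kd xd10 yd22 zd24) (kd xd21 yd12 zd29) (kd xd24 yd48 zd20) (kd xd27 yd33 zd28) (kd xd27 yd33 zd30) (kd xd27 yd33 zd32) (kd xd9 yd39 zd61) (kd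 xd27 yd33 zd37) (kd xd9 yd40 zd0) (kd xd9 yd40 zd45) (kd xd10 yd29 zd4) (kd xd27 yd33 zd41) (kd xd25 yd19 zd39) (kd xd17 yd39 zd34) (kd xd24 yd45 zd46) (kd xd14 yd58 zd31) (kd xd14 yd58 zd30) (kd xd15 yd6 zd2) (kd xd27 yd33 zd45) (kd xd27 yd32 zd24)) (@D3.rec (fun _ => Pt) (kd xd18 yd33 zd1) (kd xd27 yd33 zd50) (kd xd9 yd40 zd7) (kd xd18 yd35 zd24) (kd xd27 yd33 zd57) (kd xd27 yd33 zd60) (kd xd9 yd40 zd9) (kd xd18 yd35 zd21) (kd xd19 yd22 zd37) (kd xd18 yd54 zd40) (kd xd18 yd13 zd8) (kd xd27 yd34 zd6) (kd xd9 yd40 zd12) (kd xd27 yd29 zd35) (kd xd27 yd34 zd12) (kd xd27 yd34 zd14) (kd xd27 yd34 zd17) (kd xd9 yd40 zd14) (kd xd27 yd32 zd9) (kd xd27 yd34 zd19) (kd xd10 yd11 zd11) (kd xd27 yd34 zd22) (kd xd17 yd46 zd27) (kd xd18 yd8 zd53) (kd xd9 yd40 zd18) (kd xd27 yd34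 zd26) (kd xd22 yd13 zd4) (kd xd9 yd40 zd20) (kd xd27 yd32 zd52) (kd xd27 yd34 zd30) (kd xd27 yd34 zd34) (kd xd20 yd21 zd3) (kd xd9 yd40 zd21) (kd xd27 yd32 zd61) (kd xd27 yd34 zd42) (kd xd9 yd40 zd23) (kd xd27 yd32 zd56) (kd xd10 yd12 zd38) (kd xd18 yd10 zd43) (kd xd27 yd31 zd32) (kd xd20 yd45 zd31) (kd xd9 yd40 zd24) (kd xd27 yd34 zd52) (kd xd18 yd10 zd42) (kd xd18 yd9 zd4) (kd xd27 yd34 zd56) (kd xd9 yd40 zd25) (kd xd27 yd34 zd58) (kd xd18 yd9 zd3) (kd xd27 yd35 zd1) (kd xd27 yd35 zd2) (kd xd10 yd24 zd55) (kd xd19 yd20 zd33) (kd xd17 yd2 zd46) (kd xd26 yd31 zd53) (kd xd27 yd35 zd8) (kd xd24 yd12 zd34) (kd xd27 yd35 zd11) (kd xd27 yd35 zd13) (kd xd27 yd35 zd15) (kd xd9 yd40 zd34) (kd xd27 yd35 zd20)) (@D3.rec (fun _ => Pt) (kd xd9 yd40 zd35) (kd xd15 yd1 zd1) (kd xd17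 yd51 zd19) (kd xd9 yd43 zd39) (kd xd26 yd15 zd4) (kd xd9 yd40 zd36) (kd xd27 yd35 zd26) (kd xd9 yd40 zd38) (kd xd17 yd50 zd47) (kd xd17 yd50 zd48) (kd xd27 yd35 zd31) (kd xd9 yd40 zd39) (kd xd11 yd49 zd15) (kd xd11 yd49 zd16) (kd xd27 yd35 zd24) (kd xd17 yd52 zd56) (kd xd9 yd40 zd42) (kd xd21 yd31 zd15) (kd xd21 yd31 zd13) (kd xd25 yd16 zd34) (kd xd10 yd9 zd51) (kd xd18 yd43 zd45) (kd xd17 yd5 zd34) (kd xd9 yd40 zd48) (kd xd27 yd35 zd36) (kd xd11 yd48 zd50) (kd xd27 yd35 zd38) (kd xd26 yd16 zd27) (kd xd27 yd35 zd40) (kd xd9 yd40 zd51) (kd xd24 yd33 zd13) (kd xd26 yd55 zd25) (kd xd10 yd42 zd16) (kd xd18 yd13 zd1) (kd xd27 yd35 zd45) (kd xd25 yd43 zd5) (kd xd18 yd10 zd35) (kd xd19 yd44 zd11) (kd xd27 yd35 zd48) (kd xd11 yd36 zd9) (kd xd9 yd40 zd56) (kd xd19 yd10 zd32)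 (kd xd19 yd42 zd5) (kd xd25 yd16 zd50) (kd xd17 yd13 zd59) (kd xd10 yd31 zd11) (kd xd13 yd40 zd60) (kd xd25 yd23 zd55) (kd xd16 yd40 zd42) (kd xd16 yd40 zd41) (kd xd26 yd34 zd3) (kd xd27 yd35 zd57) (kd xd9 yd41 zd2) (kd xd25 yd16 zd52) (kd xd17 yd43 zd34) (kd xd15 yd49 zd18) (kd xd17 yd44 zd4) (kd xd19 yd5 zd0) (kd xd10 yd42 zd3) (kd xd27 yd36 zd2) (kd xd9 yd41 zd9) (kd xd18 yd52 zd38)) (@D3.rec (fun _ => Pt) (kd xd9 yd41 zd12) (kd xd10 yd42 zd15) (kd xd9 yd43 zd12) (kd xd9 yd57 zd17) (kd xd9 yd41 zd13) (kd xd25 yd17 zd47) (kd xd21 yd54 zd35) (kd xd20 yd19 zd17) (kd xd20 yd19 zd27) (kd xd9 yd41 zd15) (kd xd17 yd12 zd58) (kd xd20 yd16 zd2) (kd xd27 yd36 zd15) (kd xd27 yd36 zd16) (kd xd18 yd22 zd20) (kd xd9 yd41 zd19) (kd xd27 yd36 zd23) (kd xd27 yd36 zd25) (kd xd9 yd41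 zd21) (kd xd17 yd13 zd1) (kd xd10 yd55 zd41) (kd xd21 yd7 zd56) (kd xd10 yd16 zd59) (kd xd26 yd38 zd9) (kd xd9 yd41 zd25) (kd xd27 yd36 zd31) (kd xd27 yd36 zd34) (kd xd26 yd37 zd58) (kd xd9 yd41 zd26) (kd xd27 yd36 zd37) (kd xd9 yd41 zd27) (kd xd14 yd47 zd45) (kd xd9 yd42 zd8) (kd xd9 yd42 zd9) (kd xd27 yd36 zd46) (kd xd19 yd10 zd55) (kd xd18 yd2 zd22) (kd xd24 yd33 zd49) (kd xd9 yd41 zd29) (kd xd27 yd36 zd50) (kd xd9 yd42 zd6) (kd xd25 yd33 zd58) (kd xd26 yd39 zd40) (kd xd27 yd36 zd52) (kd xd9 yd41 zd31) (kd xd24 yd19 zd9) (kd xd25 yd44 zd39) (kd xd9 yd41 zd32) (kd xd12 yd5 zd48) (kd xd9 yd41 zd33) (kd xd25 yd44 zd37) (kd xd24 yd49 zd60) (kd xd18 yd2 zd25) (kd xd27 yd36 zd59) (kd xd9 yd41 zd35) (kd xd25 yd37 zd36) (kd xd10 yd10 zd57) (kd xd24 yd49 zd54) (kd xd24 yd49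 zd55) (kd xd27 yd37 zd4) (kd xd9 yd41 zd38) (kd xd27 yd37 zd8)) (@D3.rec (fun _ => Pt) (kd xd15 yd2 zd10) (kd xd25 yd19 zd48) (kd xd15 yd30 zd24) (kd xd27 yd37 zd7) (kd xd25 yd27 zd56) (kd xd25 yd35 zd12) (kd xd22 yd22 zd59) (kd xd9 yd41 zd44) (kd xd10 yd54 zd10) (kd xd19 yd4 zd54) (kd xd19 yd4 zd55) (kd xd10 yd42 zd9) (kd xd27 yd37 zd22) (kd xd9 yd41 zd50) (kd xd18 yd10 zd20) (kd xd27 yd37 zd25) (kd xd9 yd41 zd53) (kd xd18 yd1 zd21) (kd xd9 yd41 zd55) (kd xd17 yd5 zd52) (kd xd9 yd42 zd30) (kd xd9 yd42 zd31) (kd xd18 yd37 zd61) (kd xd9 yd41 zd57) (kd xd11 yd38 zd19) (kd xd11 yd38 zd55) (kd xd24 yd19 zd4) (kd xd12 yd37 zd20) (kd xd9 yd41 zd59) (kd xd15 yd38 zd31) (kd xd12 yd43 zd43) (kd xd9 yd41 zd60) (kd xd21 yd50 zd20) (kd xd11 yd38 zd35) (kd xd9 yd42 zd1) (kd xd19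 yd5 zd11) (kd xd9 yd42 zd3) (kd xd25 yd0 zd11) (kd xd27 yd37 zd35) (kd xd27 yd37 zd38) (kd xd27 yd29 zd51) (kd xd18 yd36 zd34) (kd xd22 yd4 zd15) (kd xd21 yd26 zd43) (kd xd19 yd15 zd49) (kd xd27 yd37 zd42) (kd xd9 yd42 zd10) (kd xd17 yd48 zd8) (kd xd17 yd48 zd9) (kd xd18 yd53 zd47) (kd xd10 yd35 zd27) (kd xd21 yd44 zd5) (kd xd10 yd35 zd22) (kd xd27 yd3 zd38) (kd xd12 yd27 zd25) (kd xd22 yd9 zd0) (kd xd25 yd33 zd56) (kd xd25 yd45 zd36) (kd xd9 yd42 zd15) (kd xd9 yd42 zd16) (kd xd21 yd26 zd60) (kd xd9 yd42 zd18)) (@D3.rec (fun _ => Pt) (kd xd9 yd56 zd55) (kd xd25 yd34 zd9) (kd xd27 yd37 zd57) (kd xd25 yd34 zd7) (kd xd25 yd31 zd44) (kd xd27 yd37 zd61) (kd xd9 yd42 zd23) (kd xd22 yd23 zd5) (kd xd22 yd23 zd4) (kd xd27 yd38 zd2) (kd xd9 yd42 zd24) (kd xd22 yd17 zd38) (kd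 xd15 yd40 zd32) (kd xd9 yd42 zd26) (kd xd10 yd50 zd28) (kd xd27 yd37 zd27) (kd xd23 yd1 zd9) (kd xd9 yd42 zd32) (kd xd10 yd0 zd14) (kd xd17 yd48 zd2) (kd xd9 yd49 zd16) (kd xd9 yd49 zd17) (kd xd18 yd43 zd50) (kd xd17 yd7 zd22) (kd xd10 yd0 zd10) (kd xd11 yd36 zd27) (kd xd17 yd9 zd33) (kd xd9 yd42 zd37) (kd xd15 yd24 zd55) (kd xd15 yd24 zd54) (kd xd27 yd38 zd9) (kd xd9 yd42 zd39) (kd xd23 yd49 zd10) (kd xd9 yd42 zd42) (kd xd25 yd11 zd16) (kd xd11 yd5 zd61) (kd xd20 yd53 zd42) (kd xd24 yd51 zd54) (kd xd27 yd38 zd17) (kd xd9 yd42 zd44) (kd xd27 yd38 zd21) (kd xd14 yd9 zd0) (kd xd9 yd42 zd46) (kd xd17 yd14 zd5) (kd xd22 yd29 zd33) (kd xd14 yd9 zd1) (kd xd9 yd42 zd47) (kd xd27 yd38 zd24) (kd xd9 yd42 zd48) (kd xd17 yd42 zd25) (kd xd14 yd9 zd59) (kd xd9 yd42 zd49) (kd xd26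 yd3 zd12) (kd xd19 yd3 zd59) (kd xd19 yd3 zd60) (kd xd27 yd38 zd33) (kd xd26 yd10 zd27) (kd xd15 yd48 zd24) (kd xd17 yd42 zd26) (kd xd21 yd21 zd10) (kd xd9 yd42 zd53) (kd xd17 yd13 zd30)) (@D3.rec (fun _ => Pt) (kd xd27 yd38 zd39) (kd xd9 yd42 zd55) (kd xd17 yd54 zd5) (kd xd18 yd15 zd19) (kd xd17 yd42 zd2) (kd xd9 yd42 zd58) (kd xd10 yd35 zd4) (kd xd11 yd57 zd11) (kd xd15 yd24 zd57) (kd xd21 yd21 zd29) (kd xd9 yd43 zd1) (kd xd18 yd14 zd1) (kd xd18 yd10 zd52) (kd xd12 yd59 zd56) (kd xd10 yd11 zd22) (kd xd12 yd14 zd25) (kd xd19 yd33 zd21) (kd xd19 yd33 zd22) (kd xd10 yd35 zd33) (kd xd27 yd38 zd48) (kd xd22 yd22 zd6) (kd xd14 yd20 zd47) (kd xd10 yd35 zd47) (kd xd10 yd35 zd48) (kd xd10 yd32 zd4) (kd xd9 yd43 zd16) (kd xd17 yd12 zd38) (kd xd21 yd21 zd16) (kd xd12 yd24 zd37)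 (kd xd27 yd19 zd51) (kd xd9 yd50 zd3) (kd xd21 yd36 zd24) (kd xd20 yd5 zd28) (kd xd9 yd43 zd22) (kd xd17 yd45 zd36) (kd xd27 yd38 zd52) (kd xd9 yd43 zd23) (kd xd21 yd38 zd58) (kd xd16 yd49 zd34) (kd xd21 yd56 zd27) (kd xd9 yd43 zd26) (kd xd17 yd13 zd53) (kd xd9 yd43 zd27) (kd xd11 yd19 zd26) (kd xd9 yd43 zd29) (kd xd24 yd49 zd0) (kd xd9 yd43 zd30) (kd xd27 yd38 zd56) (kd xd9 yd43 zd32) (kd xd27 yd38 zd58) (kd xd17 yd44 zd19) (kd xd9 yd43 zd34) (kd xd9 yd43 zd35) (kd xd27 yd39 zd0) (kd xd19 yd44 zd17) (kd xd19 yd44 zd18) (kd xd17 yd48 zd15) (kd xd9 yd59 zd5) (kd xd19 yd55 zd53) (kd xd19 yd55 zd54) (kd xd14 yd45 zd29) (kd xd23 yd58 zd40)) (@D3.rec (fun _ => Pt) (kd xd9 yd43 zd47) (kd xd11 yd29 zd15) (kd xd21 yd30 zd49) (kd xd9 yd43 zd48) (kd xd27 yd39 zd10) (kd xd23 yd30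 zd52) (kd xd9 yd43 zd49) (kd xd20 yd54 zd54) (kd xd22 yd40 zd39) (kd xd9 yd43 zd50) (kd xd16 yd8 zd57) (kd xd27 yd39 zd14) (kd xd9 yd43 zd54) (kd xd19 yd14 zd54) (kd xd27 yd39 zd17) (kd xd9 yd43 zd57) (kd xd9 yd43 zd58) (kd xd9 yd43 zd60) (kd xd20 yd9 zd16) (kd xd10 yd52 zd20) (kd xd16 yd55 zd20) (kd xd11 yd12 zd40) (kd xd12 yd8 zd55) (kd xd17 yd2 zd24) (kd xd9 yd44 zd4) (kd xd22 yd6 zd25) (kd xd18 yd35 zd43) (kd xd18 yd36 zd14) (kd xd16 yd21 zd3) (kd xd15 yd24 zd13) (kd xd9 yd44 zd14) (kd xd11 yd42 zd31) (kd xd19 yd36 zd12) (kd xd9 yd44 zd15) (kd xd23 yd1 zd31) (kd xd10 yd49 zd13) (kd xd26 yd23 zd6) (kd xd19 yd24 zd59) (kd xd23 yd38 zd10) (kd xd10 yd0 zd27) (kd xd18 yd15 zd34) (kd xd15 yd30 zd45) (kd xd20 yd26 zd9) (kd xd13 yd50 zd26) (kd xd11 yd33 zd29) (kd xd20 yd28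 zd5) (kd xd11 yd44 zd17) (kd xd24 yd55 zd43) (kd xd11 yd2 zd30) (kd xd15 yd21 zd56) (kd xd9 yd44 zd31) (kd xd26 yd9 zd43) (kd xd27 yd39 zd21) (kd xd19 yd45 zd47) (kd xd26 yd57 zd46) (kd xd9 yd44 zd47) (kd xd14 yd57 zd58) (kd xd14 yd57 zd59) (kd xd15 yd19 zd51) (kd xd26 yd42 zd27) (kd xd12 yd24 zd60) (kd xd26 yd15 zd7)) (@D3.rec (fun _ => Pt) (kd xd27 yd25 zd40) (kd xd9 yd44 zd51) (kd xd26 yd14 zd3) (kd xd14 yd57 zd40) (kd xd14 yd57 zd41) (kd xd17 yd52 zd2) (kd xd23 yd22 zd3) (kd xd22 yd18 zd44) (kd xd9 yd44 zd53) (kd xd26 yd14 zd2) (kd xd18 yd6 zd45) (kd xd9 yd44 zd54) (kd xd27 yd39 zd42) (kd xd27 yd39 zd43) (kd xd9 yd44 zd55) (kd xd26 yd2 zd51) (kd xd16 yd17 zd2) (kd xd27 yd39 zd50) (kd xd9 yd44 zd57) (kd xd16 yd56 zd9) (kd xd18 yd42 zd0) (kd xd26 yd31 zd8) (kd xd9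 yd44 zd59) (kd xd14 yd15 zd1) (kd xd22 yd31 zd42) (kd xd20 yd0 zd47) (kd xd24 yd59 zd35) (kd xd14 yd57 zd34) (kd xd14 yd57 zd35) (kd xd14 yd58 zd16) (kd xd24 yd58 zd52) (kd xd10 yd7 zd48) (kd xd23 yd32 zd13) (kd xd9 yd45 zd1) (kd xd16 yd12 zd20) (kd xd9 yd45 zd2) (kd xd26 yd21 zd60) (kd xd20 yd32 zd36) (kd xd14 yd57 zd36) (kd xd26 yd13 zd35) (kd xd26 yd12 zd23) (kd xd9 yd45 zd6) (kd xd26 yd14 zd60) (kd xd27 yd40 zd22) (kd xd9 yd45 zd7) (kd xd23 yd10 zd7) (kd xd13 yd38 zd17) (kd xd14 yd50 zd12) (kd xd9 yd45 zd11) (kd xd24 yd36 zd24) (kd xd11 yd48 zd1) (kd xd16 yd17 zd27) (kd xd9 yd45 zd13) (kd xd9 yd47 zd24) (kd xd26 yd26 zd22) (kd xd27 yd40 zd27) (kd xd27 yd40 zd28) (kd xd9 yd45 zd17) (kd xd9 yd48 zd41) (kd xd11 yd19 zd31) (kd xd18 yd37 zd58) (kd xd23 yd30 zd45)) (@D3.rec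 (fun _ => Pt) (kd xd14 yd4 zd61) (kd xd20 yd25 zd58) (kd xd23 yd36 zd6) (kd xd16 yd3 zd1) (kd xd22 yd17 zd55) (kd xd12 yd10 zd56) (kd xd27 yd40 zd34) (kd xd13 yd40 zd25) (kd xd15 yd26 zd17) (kd xd27 yd40 zd36) (kd xd9 yd45 zd36) (kd xd18 yd58 zd34) (kd xd19 yd20 zd61) (kd xd19 yd43 zd28) (kd xd20 yd25 zd16) (kd xd19 yd43 zd55) (kd xd19 yd46 zd57) (kd xd20 yd19 zd57) (kd xd25 yd39 zd50) (kd xd25 yd39 zd46) (kd xd16 yd5 zd20) (kd xd9 yd45 zd40) (kd xd27 yd40 zd42) (kd xd18 yd29 zd45) (kd xd23 yd45 zd26) (kd xd9 yd45 zd42) (kd xd22 yd17 zd56) (kd xd9 yd45 zd43) (kd xd20 yd26 zd10) (kd xd22 yd45 zd3) (kd xd9 yd45 zd49) (kd xd22 yd45 zd7) (kd xd17 yd29 zd60) (kd xd25 yd41 zd25) (kd xd27 yd40 zd47) (kd xd14 yd55 zd30) (kd xd9 yd45 zd55) (kd xd20 yd13 zd13) (kd xd15 yd43 zd20)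 (kd xd15 yd43 zd19) (kd xd14 yd55 zd51) (kd xd19 yd16 zd45) (kd xd9 yd45 zd59) (kd xd9 yd45 zd61) (kd xd23 yd30 zd8) (kd xd19 yd43 zd53) (kd xd27 yd40 zd52) (kd xd27 yd40 zd54) (kd xd27 yd40 zd55) (kd xd9 yd46 zd1) (kd xd23 yd29 zd24) (kd xd11 yd16 zd32) (kd xd13 yd25 zd6) (kd xd13 yd25 zd5) (kd xd9 yd46 zd4) (kd xd24 yd36 zd39) (kd xd27 yd40 zd61) (kd xd9 yd46 zd6) (kd xd24 yd33 zd7) (kd xd24 yd35 zd23) (kd xd14 yd49 zd12) (kd xd9 yd50 zd15)) (@D3.rec (fun _ => Pt) (kd xd9 yd46 zd10) (kd xd14 yd6 zd17) (kd xd27 yd41 zd2) (kd xd9 yd46 zd11) (kd xd12 yd31 zd42) (kd xd24 yd33 zd6) (kd xd11 yd29 zd2) (kd xd27 yd41 zd7) (kd xd14 yd43 zd53) (kd xd9 yd46 zd13) (kd xd24 yd32 zd45) (kd xd27 yd41 zd9) (kd xd9 yd46 zd14) (kd xd18 yd18 zd33) (kd xd27 yd22 zd15) (kd xd11 yd12 zd12)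 (kd xd21 yd57 zd53) (kd xd22 yd21 zd16) (kd xd17 yd58 zd19) (kd xd22 yd21 zd17) (kd xd27 yd41 zd14) (kd xd9 yd47 zd40) (kd xd11 yd19 zd5) (kd xd10 yd4 zd47) (kd xd20 yd43 zd60) (kd xd16 yd41 zd18) (kd xd16 yd5 zd17) (kd xd16 yd5 zd18) (kd xd10 yd57 zd56) (kd xd16 yd43 zd36) (kd xd25 yd17 zd37) (kd xd15 yd43 zd29) (kd xd18 yd25 zd47) (kd xd9 yd46 zd30) (kd xd10 yd5 zd39) (kd xd14 yd4 zd53) (kd xd27 yd41 zd24) (kd xd9 yd46 zd31) (kd xd14 yd12 zd53) (kd xd27 yd41 zd28) (kd xd11 yd27 zd0) (kd xd12 yd20 zd8) (kd xd9 yd55 zd33) (kd xd10 yd2 zd16) (kd xd12 yd22 zd8) (kd xd15 yd25 zd51) (kd xd11 yd48 zd43) (kd xd16 yd30 zd34) (kd xd11 yd11 zd22) (kd xd11 yd11 zd23) (kd xd17 yd34 zd4) (kd xd17 yd34 zd5) (kd xd22 yd12 zd5) (kd xd19 yd13 zd1) (kd xd19 yd12 zd60) (kd xd12 yd5 zd49)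 (kd xd9 yd46 zd55) (kd xd13 yd26 zd42) (kd xd12 yd5 zd59) (kd xd12 yd22 zd34) (kd xd16 yd45 zd27) (kd xd13 yd26 zd43)) (@D3.rec (fun _ => Pt) (kd xd16 yd24 zd7) (kd xd26 yd2 zd22) (kd xd9 yd46 zd58) (kd xd24 yd57 zd29) (kd xd16 yd45 zd28) (kd xd24 yd57 zd30) (kd xd15 yd6 zd26) (kd xd16 yd46 zd10) (kd xd15 yd10 zd29) (kd xd16 yd24 zd58) (kd xd16 yd25 zd0) (kd xd19 yd36 zd11) (kd xd19 yd39 zd12) (kd xd16 yd45 zd61) (kd xd16 yd11 zd2) (kd xd9 yd47 zd3) (kd xd15 yd13 zd21) (kd xd15 yd13 zd26) (kd xd27 yd41 zd55) (kd xd15 yd7 zd52) (kd xd16 yd29 zd5) (kd xd11 yd57 zd0) (kd xd26 yd6 zd30) (kd xd16 yd25 zd15) (kd xd14 yd27 zd60) (kd xd19 yd0 zd58) (kd xd26 yd21 zd40) (kd xd24 yd53 zd57) (kd xd12 yd8 zd37) (kd xd13 yd12 zd61) (kd xd27 yd42 zd2) (kd xd27 yd42 zd4) (kd xd9 yd47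 zd10) (kd xd22 yd27 zd46) (kd xd19 yd56 zd42) (kd xd27 yd42 zd6) (kd xd25 yd27 zd42) (kd xd27 yd42 zd8) (kd xd26 yd24 zd38) (kd xd27 yd42 zd10) (kd xd27 yd42 zd11) (kd xd18 yd18 zd41) (kd xd24 yd24 zd12) (kd xd21 yd42 zd36) (kd xd12 yd56 zd19) (kd xd27 yd42 zd14) (kd xd9 yd47 zd25) (kd xd27 yd42 zd15) (kd xd11 yd49 zd9) (kd xd21 yd0 zd4) (kd xd11 yd26 zd56) (kd xd22 yd6 zd8) (kd xd11 yd11 zd34) (kd xd11 yd29 zd42) (kd xd26 yd26 zd49) (kd xd18 yd23 zd32) (kd xd14 yd33 zd14) (kd xd21 yd33 zd30) (kd xd27 yd42 zd20) (kd xd9 yd47 zd42) (kd xd21 yd33 zd27) (kd xd21 yd23 zd0)) (@D3.rec (fun _ => Pt) (kd xd21 yd37 zd16) (kd xd20 yd14 zd16) (kd xd9 yd47 zd47) (kd xd22 yd2 zd54) (kd xd9 yd47 zd49) (kd xd20 yd12 zd52) (kd xd14 yd54 zd8) (kd xd18 yd32 zd3) (kd xd26 yd53 zd15) (kd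 xd27 yd42 zd21) (kd xd21 yd20 zd14) (kd xd11 yd50 zd1) (kd xd11 yd44 zd56) (kd xd24 yd17 zd49) (kd xd17 yd13 zd7) (kd xd16 yd57 zd11) (kd xd16 yd43 zd54) (kd xd16 yd49 zd3) (kd xd12 yd31 zd56) (kd xd17 yd56 zd18) (kd xd12 yd49 zd30) (kd xd10 yd45 zd35) (kd xd27 yd42 zd22) (kd xd9 yd48 zd7) (kd xd9 yd48 zd10) (kd xd27 yd42 zd25) (kd xd13 yd58 zd39) (kd xd20 yd0 zd7) (kd xd14 yd20 zd45) (kd xd9 yd48 zd15) (kd xd20 yd25 zd27) (kd xd9 yd48 zd16) (kd xd18 yd1 zd32) (kd xd11 yd32 zd17) (kd xd9 yd48 zd20) (kd xd9 yd48 zd22) (kd xd20 yd47 zd60) (kd xd20 yd46 zd14) (kd xd19 yd49 zd51) (kd xd24 yd14 zd9) (kd xd9 yd48 zd25) (kd xd9 yd48 zd26) (kd xd9 yd48 zd29) (kd xd17 yd59 zd45) (kd xd21 yd30 zd61) (kd xd9 yd48 zd31) (kd xd18 yd1 zd25) (kd xd18 yd16 zd60) (kd xd9 yd48 zd33)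 (kd xd18 yd0 zd52) (kd xd27 yd42 zd31) (kd xd27 yd42 zd32) (kd xd27 yd42 zd34) (kd xd27 yd18 zd47) (kd xd18 yd43 zd17) (kd xd27 yd42 zd35) (kd xd27 yd42 zd38) (kd xd9 yd48 zd43) (kd xd27 yd42 zd40) (kd xd25 yd57 zd12) (kd xd9 yd48 zd44) (kd xd27 yd42 zd41)) (@D3.rec (fun _ => Pt) (kd xd27 yd42 zd43) (kd xd9 yd48 zd45) (kd xd27 yd42 zd44) (kd xd11 yd16 zd38) (kd xd9 yd50 zd42) (kd xd24 yd40 zd9) (kd xd9 yd48 zd47) (kd xd21 yd3 zd42) (kd xd19 yd46 zd45) (kd xd9 yd48 zd51) (kd xd22 yd54 zd2) (kd xd9 yd48 zd53) (kd xd11 yd11 zd7) (kd xd9 yd48 zd55) (kd xd9 yd48 zd56) (kd xd17 yd3 zd5) (kd xd20 yd53 zd21) (kd xd9 yd48 zd57) (kd xd27 yd42 zd48) (kd xd9 yd48 zd58) (kd xd20 yd17 zd4) (kd xd20 yd22 zd7) (kd xd23 yd26 zd45) (kd xd9 yd48 zd60) (kd xd9 yd49 zd0) (kd xd9 yd49 zd1)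 (kd xd9 yd49 zd3) (kd xd27 yd42 zd52) (kd xd9 yd49 zd4) (kd xd27 yd42 zd54) (kd xd27 yd42 zd55) (kd xd26 yd58 zd19) (kd xd17 yd30 zd38) (kd xd9 yd49 zd6) (kd xd11 yd18 zd58) (kd xd9 yd55 zd29) (kd xd9 yd49 zd10) (kd xd21 yd2 zd10) (kd xd11 yd40 zd34) (kd xd20 yd9 zd56) (kd xd11 yd29 zd5) (kd xd15 yd49 zd57) (kd xd12 yd55 zd56) (kd xd24 yd32 zd55) (kd xd18 yd17 zd6) (kd xd17 yd58 zd43) (kd xd27 yd42 zd58) (kd xd9 yd49 zd19) (kd xd9 yd49 zd20) (kd xd27 yd41 zd57) (kd xd27 yd42 zd60) (kd xd9 yd49 zd22) (kd xd27 yd43 zd0) (kd xd22 yd17 zd1) (kd xd9 yd49 zd23) (kd xd27 yd43 zd2) (kd xd11 yd45 zd25) (kd xd20 yd22 zd57) (kd xd9 yd49 zd26) (kd xd9 yd49 zd27) (kd xd26 yd55 zd6) (kd xd26 yd57 zd54))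
def f_d_18 : D2 → D3 → Pt := @D2.rec (fun _ => D3 → Pt) (@D3.rec (fun _ => Pt) (kd xd12 yd40 zd44) (kd xd18 yd37 zd11) (kd xd18 yd24 zd53) (kd xd9 yd49 zd34) (kd xd12 yd16 zd42) (kd xd17 yd31 zd6) (kd xd9 yd49 zd35) (kd xd11 yd45 zd9) (kd xd24 yd11 zd14) (kd xd9 yd49 zd37) (kd xd17 yd6 zd29) (kd xd9 yd49 zd38) (kd xd10 yd2 zd14) (kd xd11 yd27 zd56) (kd xd11 yd57 zd30) (kd xd27 yd1 zd13) (kd xd12 yd57 zd59) (kd xd27 yd35 zd37) (kd xd27 yd35 zd50) (kd xd9 yd49 zd45) (kd xd27 yd1 zd12) (kd xd17 yd33 zd56) (kd xd25 yd17 zd46) (kd xd9 yd49 zd46) (kd xd27 yd22 zd57) (kd xd27 yd42 zd61) (kd xd12 yd29 zd32) (kd xd27 yd43 zd10) (kd xd9 yd49 zd48) (kd xd18 yd10 zd41) (kd xd12 yd28 zd60) (kd xd21 yd47 zd25) (kd xd21 yd45 zd49) (kd xd12 yd41 zd9) (kd xd23 yd36 zd10) (kd xd13 yd53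 zd20) (kd xd27 yd43 zd12) (kd xd20 yd7 zd3) (kd xd21 yd32 zd33) (kd xd27 yd43 zd15) (kd xd23 yd13 zd0) (kd xd27 yd43 zd19) (kd xd27 yd43 zd20) (kd xd24 yd33 zd59) (kd xd9 yd50 zd1) (kd xd27 yd38 zd31) (kd xd18 yd49 zd52) (kd xd18 yd29 zd21) (kd xd9 yd50 zd2) (kd xd10 yd35 zd2) (kd xd19 yd23 zd26) (kd xd27 yd5 zd57) (kd xd17 yd58 zd49) (kd xd20 yd28 zd34) (kd xd23 yd29 zd29) (kd xd9 yd50 zd5) (kd xd19 yd14 zd59) (kd xd27 yd43 zd24) (kd xd9 yd50 zd6) (kd xd14 yd7 zd35) (kd xd21 yd41 zd27) (kd xd18 yd57 zd54)) (@D3.rec (fun _ => Pt) (kd xd23 yd40 zd25) (kd xd9 yd50 zd8) (kd xd27 yd43 zd30) (kd xd23 yd31 zd16) (kd xd9 yd50 zd9) (kd xd27 yd43 zd31) (kd xd22 yd44 zd22) (kd xd27 yd43 zd33) (kd xd9 yd50 zd10) (kd xd23 yd26 zd46) (kd xd10 yd27 zd12) (kd xd9 yd50 zd13) (kd xd20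 yd28 zd32) (kd xd11 yd36 zd7) (kd xd12 yd35 zd2) (kd xd16 yd16 zd6) (kd xd16 yd58 zd26) (kd xd27 yd43 zd37) (kd xd20 yd24 zd7) (kd xd21 yd22 zd50) (kd xd14 yd4 zd57) (kd xd17 yd50 zd17) (kd xd9 yd50 zd18) (kd xd9 yd50 zd19) (kd xd27 yd43 zd39) (kd xd17 yd58 zd46) (kd xd23 yd26 zd49) (kd xd17 yd13 zd44) (kd xd9 yd50 zd21) (kd xd16 yd46 zd8) (kd xd9 yd50 zd26) (kd xd20 yd50 zd59) (kd xd17 yd58 zd32) (kd xd13 yd1 zd34) (kd xd14 yd6 zd19) (kd xd17 yd5 zd22) (kd xd9 yd50 zd30) (kd xd9 yd50 zd32) (kd xd20 yd5 zd59) (kd xd27 yd43 zd49) (kd xd9 yd50 zd34) (kd xd19 yd21 zd22) (kd xd15 yd39 zd16) (kd xd9 yd50 zd40) (kd xd26 yd52 zd26) (kd xd27 yd6 zd18) (kd xd18 yd43 zd18) (kd xd27 yd43 zd58) (kd xd9 yd50 zd44) (kd xd23 yd28 zd3) (kd xd11 yd58 zd16) (kd xd18 yd26 zd23) (kd xd18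 yd43 zd19) (kd xd27 yd44 zd5) (kd xd9 yd50 zd46) (kd xd19 yd19 zd43) (kd xd22 yd8 zd1) (kd xd27 yd44 zd7) (kd xd20 yd21 zd50) (kd xd27 yd30 zd18) (kd xd9 yd50 zd48) (kd xd23 yd41 zd33)) (@D3.rec (fun _ => Pt) (kd xd25 yd12 zd23) (kd xd9 yd50 zd49) (kd xd23 yd1 zd13) (kd xd25 yd4 zd21) (kd xd24 yd37 zd38) (kd xd9 yd50 zd50) (kd xd15 yd39 zd13) (kd xd20 yd28 zd8) (kd xd9 yd50 zd60) (kd xd27 yd44 zd12) (kd xd9 yd51 zd0) (kd xd25 yd17 zd52) (kd xd16 yd46 zd20) (kd xd21 yd36 zd34) (kd xd9 yd51 zd2) (kd xd9 yd51 zd6) (kd xd9 yd51 zd19) (kd xd19 yd27 zd33) (kd xd9 yd51 zd8) (kd xd20 yd26 zd44) (kd xd9 yd51 zd11) (kd xd19 yd57 zd60) (kd xd17 yd49 zd36) (kd xd26 yd23 zd17) (kd xd9 yd51 zd15) (kd xd17 yd49 zd52) (kd xd25 yd49 zd27) (kd xd9 yd51 zd16) (kd xd21 yd42 zd27) (kd xd9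 yd51 zd17) (kd xd20 yd52 zd59) (kd xd19 yd11 zd5) (kd xd26 yd57 zd19) (kd xd26 yd28 zd2) (kd xd16 yd33 zd54) (kd xd21 yd10 zd50) (kd xd20 yd11 zd7) (kd xd19 yd46 zd61) (kd xd16 yd26 zd39) (kd xd11 yd54 zd57) (kd xd18 yd44 zd38) (kd xd27 yd44 zd27) (kd xd9 yd51 zd29) (kd xd25 yd41 zd15) (kd xd16 yd6 zd16) (kd xd22 yd12 zd25) (kd xd27 yd44 zd31) (kd xd9 yd51 zd32) (kd xd13 yd52 zd40) (kd xd27 yd40 zd43) (kd xd9 yd51 zd34) (kd xd21 yd11 zd38) (kd xd26 yd25 zd7) (kd xd16 yd28 zd49) (kd xd24 yd45 zd18) (kd xd26 yd25 zd1) (kd xd16 yd28 zd51) (kd xd21 yd29 zd51) (kd xd10 yd30 zd53) (kd xd26 yd8 zd43) (kd xd27 yd44 zd41) (kd xd16 yd39 zd34)) (@D3.rec (fun _ => Pt) (kd xd16 yd39 zd39) (kd xd27 yd44 zd45) (kd xd9 yd51 zd42) (kd xd16 yd11 zd13) (kd xd27 yd44 zd51) (kd xd9 yd51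 zd45) (kd xd17 yd39 zd45) (kd xd9 yd51 zd46) (kd xd9 yd51 zd47) (kd xd20 yd23 zd30) (kd xd9 yd51 zd48) (kd xd11 yd3 zd15) (kd xd11 yd3 zd16) (kd xd16 yd4 zd46) (kd xd16 yd11 zd40) (kd xd27 yd44 zd56) (kd xd27 yd44 zd59) (kd xd16 yd11 zd44) (kd xd18 yd6 zd60) (kd xd17 yd40 zd33) (kd xd18 yd6 zd26) (kd xd18 yd6 zd27) (kd xd27 yd45 zd2) (kd xd9 yd51 zd54) (kd xd18 yd6 zd0) (kd xd18 yd6 zd1) (kd xd27 yd45 zd7) (kd xd9 yd51 zd56) (kd xd15 yd19 zd5) (kd xd26 yd5 zd12) (kd xd27 yd45 zd3) (kd xd21 yd42 zd0) (kd xd9 yd51 zd59) (kd xd18 yd6 zd32) (kd xd23 yd22 zd53) (kd xd24 yd40 zd56) (kd xd27 yd45 zd11) (kd xd9 yd51 zd61) (kd xd18 yd6 zd29) (kd xd17 yd38 zd36) (kd xd15 yd11 zd22) (kd xd27 yd45 zd15) (kd xd12 yd19 zd16) (kd xd27 yd45 zd17) (kd xd9 yd52 zd2) (kd xd27 yd45 zd22)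 (kd xd23 yd22 zd13) (kd xd9 yd52 zd4) (kd xd27 yd45 zd26) (kd xd27 yd45 zd29) (kd xd27 yd45 zd31) (kd xd24 yd45 zd33) (kd xd9 yd52 zd5) (kd xd23 yd51 zd22) (kd xd26 yd18 zd26) (kd xd16 yd15 zd16) (kd xd18 yd8 zd23) (kd xd26 yd15 zd0) (kd xd15 yd13 zd55) (kd xd21 yd26 zd7) (kd xd17 yd41 zd41) (kd xd26 yd15 zd24)) (@D3.rec (fun _ => Pt) (kd xd27 yd45 zd41) (kd xd9 yd52 zd9) (kd xd18 yd7 zd25) (kd xd9 yd52 zd10) (kd xd27 yd44 zd61) (kd xd20 yd4 zd15) (kd xd15 yd52 zd34) (kd xd27 yd45 zd47) (kd xd10 yd19 zd51) (kd xd15 yd14 zd30) (kd xd27 yd45 zd53) (kd xd27 yd45 zd54) (kd xd27 yd45 zd55) (kd xd15 yd12 zd27) (kd xd9 yd52 zd16) (kd xd25 yd46 zd54) (kd xd19 yd56 zd57) (kd xd15 yd24 zd61) (kd xd18 yd55 zd5) (kd xd13 yd44 zd43) (kd xd13 yd44 zd44) (kd xd24 yd18 zd49) (kd xd9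 yd52 zd21) (kd xd9 yd52 zd23) (kd xd10 yd53 zd30) (kd xd18 yd26 zd27) (kd xd24 yd45 zd12) (kd xd17 yd38 zd61) (kd xd18 yd8 zd9) (kd xd17 yd39 zd58) (kd xd12 yd30 zd45) (kd xd18 yd8 zd21) (kd xd18 yd8 zd22) (kd xd16 yd17 zd8) (kd xd9 yd52 zd30) (kd xd18 yd17 zd17) (kd xd27 yd39 zd32) (kd xd27 yd46 zd5) (kd xd27 yd46 zd6) (kd xd9 yd52 zd32) (kd xd25 yd0 zd51) (kd xd16 yd22 zd11) (kd xd27 yd46 zd9) (kd xd27 yd46 zd11) (kd xd9 yd54 zd27) (kd xd9 yd54 zd28) (kd xd18 yd7 zd38) (kd xd9 yd52 zd36) (kd xd27 yd46 zd16) (kd xd27 yd26 zd48) (kd xd9 yd52 zd38) (kd xd12 yd19 zd26) (kd xd12 yd19 zd24) (kd xd24 yd56 zd26) (kd xd9 yd52 zd41) (kd xd25 yd0 zd42) (kd xd16 yd16 zd45) (kd xd13 yd45 zd0) (kd xd9 yd52 zd45) (kd xd27 yd46 zd25) (kd xd27 yd46 zd28) (kd xd13 yd45 zd1)) (@D3.rec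 (fun _ => Pt) (kd xd9 yd52 zd46) (kd xd27 yd28 zd27) (kd xd9 yd52 zd47) (kd xd11 yd59 zd52) (kd xd9 yd53 zd25) (kd xd9 yd53 zd26) (kd xd21 yd47 zd45) (kd xd21 yd26 zd30) (kd xd12 yd58 zd59) (kd xd11 yd59 zd53) (kd xd17 yd37 zd31) (kd xd22 yd14 zd48) (kd xd26 yd18 zd18) (kd xd18 yd37 zd40) (kd xd26 yd13 zd45) (kd xd27 yd46 zd35) (kd xd15 yd22 zd19) (kd xd27 yd45 zd19) (kd xd27 yd31 zd40) (kd xd18 yd8 zd14) (kd xd9 yd53 zd2) (kd xd27 yd46 zd38) (kd xd9 yd53 zd4) (kd xd16 yd14 zd49) (kd xd9 yd53 zd5) (kd xd27 yd46 zd40) (kd xd9 yd53 zd6) (kd xd9 yd53 zd45) (kd xd9 yd53 zd46) (kd xd27 yd39 zd7) (kd xd26 yd14 zd21) (kd xd26 yd48 zd16) (kd xd26 yd5 zd13) (kd xd14 yd57 zd50) (kd xd18 yd6 zd15) (kd xd21 yd58 zd33) (kd xd18 yd7 zd7) (kd xd25 yd10 zd47) (kd xd25 yd10 zd46) (kd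 xd26 yd44 zd32) (kd xd25 yd4 zd24) (kd xd25 yd10 zd38) (kd xd27 yd24 zd28) (kd xd27 yd24 zd27) (kd xd27 yd46 zd58) (kd xd9 yd53 zd16) (kd xd25 yd10 zd40) (kd xd14 yd16 zd56) (kd xd14 yd16 zd44) (kd xd13 yd34 zd34) (kd xd9 yd53 zd20) (kd xd9 yd53 zd21) (kd xd17 yd43 zd1) (kd xd17 yd43 zd0) (kd xd14 yd33 zd2) (kd xd9 yd53 zd24) (kd xd27 yd46 zd29) (kd xd22 yd36 zd0) (kd xd27 yd47 zd10) (kd xd27 yd46 zd30) (kd xd22 yd35 zd60) (kd xd21 yd42 zd16)) (@D3.rec (fun _ => Pt) (kd xd18 yd3 zd24) (kd xd18 yd3 zd25) (kd xd17 yd30 zd60) (kd xd17 yd30 zd55) (kd xd9 yd53 zd29) (kd xd24 yd43 zd4) (kd xd14 yd46 zd26) (kd xd9 yd53 zd32) (kd xd12 yd35 zd53) (kd xd24 yd44 zd50) (kd xd9 yd53 zd33) (kd xd14 yd2 zd5) (kd xd9 yd53 zd34) (kd xd17 yd39 zd55) (kd xd10 yd7 zd37) (kd xd18 yd5 zd34)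 (kd xd23 yd38 zd38) (kd xd9 yd53 zd36) (kd xd26 yd18 zd10) (kd xd26 yd47 zd48) (kd xd24 yd59 zd7) (kd xd26 yd47 zd49) (kd xd27 yd46 zd43) (kd xd12 yd6 zd26) (kd xd27 yd46 zd46) (kd xd9 yd53 zd47) (kd xd18 yd3 zd20) (kd xd18 yd3 zd21) (kd xd27 yd47 zd28) (kd xd18 yd3 zd38) (kd xd16 yd17 zd22) (kd xd9 yd53 zd50) (kd xd18 yd3 zd33) (kd xd27 yd47 zd32) (kd xd9 yd53 zd51) (kd xd27 yd47 zd34) (kd xd9 yd53 zd52) (kd xd27 yd47 zd35) (kd xd9 yd53 zd55) (kd xd25 yd37 zd55) (kd xd27 yd47 zd36) (kd xd9 yd53 zd57) (kd xd21 yd41 zd55) (kd xd26 yd31 zd14) (kd xd9 yd53 zd58) (kd xd17 yd54 zd10) (kd xd26 yd0 zd59) (kd xd26 yd31 zd13) (kd xd9 yd53 zd59) (kd xd27 yd47 zd44) (kd xd9 yd53 zd60) (kd xd25 yd18 zd1) (kd xd27 yd47 zd47) (kd xd9 yd53 zd61) (kd xd27 yd47 zd53) (kd xd25 yd3 zd37)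 (kd xd27 yd47 zd56) (kd xd26 yd6 zd42) (kd xd9 yd54 zd1) (kd xd16 yd18 zd48) (kd xd18 yd3 zd18) (kd xd27 yd47 zd57)) (@D3.rec (fun _ => Pt) (kd xd10 yd10 zd18) (kd xd26 yd20 zd45) (kd xd17 yd38 zd44) (kd xd17 yd38 zd45) (kd xd9 yd54 zd4) (kd xd23 yd22 zd12) (kd xd10 yd7 zd29) (kd xd18 yd5 zd36) (kd xd23 yd40 zd33) (kd xd9 yd54 zd6) (kd xd27 yd47 zd59) (kd xd12 yd47 zd30) (kd xd9 yd54 zd7) (kd xd12 yd19 zd23) (kd xd23 yd36 zd33) (kd xd9 yd54 zd8) (kd xd18 yd37 zd5) (kd xd9 yd54 zd9) (kd xd27 yd31 zd7) (kd xd18 yd45 zd23) (kd xd18 yd45 zd24) (kd xd12 yd1 zd38) (kd xd27 yd48 zd0) (kd xd27 yd48 zd4) (kd xd9 yd54 zd11) (kd xd18 yd4 zd2) (kd xd16 yd16 zd20) (kd xd9 yd54 zd12) (kd xd27 yd31 zd28) (kd xd9 yd54 zd15) (kd xd27 yd48 zd7) (kd xd12 yd45 zd9) (kd xd9 yd54 zd16) (kd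 xd17 yd30 zd16) (kd xd12 yd19 zd1) (kd xd21 yd26 zd12) (kd xd17 yd31 zd60) (kd xd22 yd11 zd38) (kd xd18 yd4 zd46) (kd xd11 yd57 zd7) (kd xd12 yd24 zd59) (kd xd9 yd54 zd21) (kd xd17 yd27 zd21) (kd xd27 yd31 zd17) (kd xd21 yd41 zd57) (kd xd26 yd12 zd3) (kd xd21 yd27 zd35) (kd xd11 yd57 zd4) (kd xd14 yd35 zd18) (kd xd27 yd48 zd13) (kd xd9 yd54 zd25) (kd xd18 yd31 zd51) (kd xd18 yd31 zd50) (kd xd18 yd29 zd44) (kd xd27 yd46 zd12) (kd xd11 yd56 zd11) (kd xd17 yd43 zd50) (kd xd27 yd46 zd14) (kd xd11 yd56 zd9) (kd xd27 yd48 zd20) (kd xd11 yd56 zd14) (kd xd11 yd56 zd13)) (@D3.rec (fun _ => Pt) (kd xd17 yd35 zd55) (kd xd27 yd48 zd23) (kd xd11 yd56 zd53) (kd xd14 yd10 zd10) (kd xd18 yd29 zd53) (kd xd24 yd44 zd10) (kd xd27 yd48 zd24) (kd xd27 yd48 zd27) (kd xd9 yd54 zd32) (kd xd18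 yd4 zd28) (kd xd18 yd23 zd1) (kd xd17 yd43 zd23) (kd xd15 yd48 zd59) (kd xd15 yd48 zd58) (kd xd18 yd5 zd19) (kd xd18 yd24 zd59) (kd xd24 yd44 zd48) (kd xd26 yd48 zd15) (kd xd17 yd40 zd37) (kd xd9 yd54 zd36) (kd xd27 yd48 zd36) (kd xd18 yd4 zd31) (kd xd18 yd4 zd32) (kd xd18 yd3 zd56) (kd xd27 yd48 zd40) (kd xd27 yd48 zd41) (kd xd9 yd54 zd38) (kd xd25 yd3 zd24) (kd xd23 yd17 zd60) (kd xd27 yd48 zd46) (kd xd9 yd54 zd39) (kd xd27 yd26 zd49) (kd xd27 yd48 zd50) (kd xd9 yd54 zd40) (kd xd24 yd43 zd7) (kd xd27 yd48 zd52) (kd xd27 yd48 zd53) (kd xd27 yd48 zd54) (kd xd9 yd54 zd42) (kd xd27 yd48 zd57) (kd xd9 yd54 zd43) (kd xd27 yd26 zd42) (kd xd20 yd47 zd28) (kd xd9 yd54 zd44) (kd xd25 yd4 zd2) (kd xd25 yd1 zd27) (kd xd9 yd54 zd46) (kd xd15 yd53 zd41) (kd xd27 yd49 zd7) (kd xd9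 yd54 zd47) (kd xd27 yd49 zd9) (kd xd25 yd3 zd33) (kd xd25 yd3 zd32) (kd xd17 yd47 zd23) (kd xd18 yd10 zd49) (kd xd9 yd54 zd51) (kd xd27 yd49 zd15) (kd xd23 yd54 zd32) (kd xd27 yd49 zd19) (kd xd9 yd54 zd53) (kd xd27 yd49 zd21) (kd xd27 yd49 zd23)) (@D3.rec (fun _ => Pt) (kd xd9 yd54 zd54) (kd xd27 yd49 zd25) (kd xd18 yd46 zd52) (kd xd17 yd47 zd48) (kd xd17 yd47 zd44) (kd xd10 yd11 zd19) (kd xd27 yd49 zd30) (kd xd27 yd49 zd32) (kd xd27 yd49 zd34) (kd xd9 yd54 zd60) (kd xd15 yd38 zd51) (kd xd27 yd49 zd38) (kd xd10 yd28 zd10) (kd xd10 yd28 zd9) (kd xd24 yd57 zd20) (kd xd9 yd55 zd3) (kd xd24 yd57 zd18) (kd xd27 yd49 zd42) (kd xd27 yd49 zd43) (kd xd9 yd55 zd6) (kd xd27 yd49 zd45) (kd xd17 yd45 zd52) (kd xd18 yd16 zd51) (kd xd9 yd55 zd7) (kd xd27 yd49 zd51) (kd xd24 yd58 zd48)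 (kd xd9 yd55 zd8) (kd xd27 yd49 zd54) (kd xd9 yd55 zd9) (kd xd18 yd31 zd42) (kd xd9 yd57 zd24) (kd xd9 yd57 zd25) (kd xd21 yd8 zd60) (kd xd27 yd50 zd0) (kd xd27 yd50 zd3) (kd xd27 yd50 zd5) (kd xd9 yd55 zd11) (kd xd22 yd51 zd55) (kd xd18 yd31 zd19) (kd xd9 yd55 zd12) (kd xd18 yd13 zd12) (kd xd27 yd50 zd10) (kd xd9 yd55 zd13) (kd xd27 yd50 zd11) (kd xd9 yd55 zd14) (kd xd27 yd50 zd14) (kd xd9 yd58 zd28) (kd xd9 yd58 zd29) (kd xd12 yd20 zd36) (kd xd9 yd55 zd16) (kd xd27 yd34 zd55) (kd xd27 yd50 zd20) (kd xd9 yd55 zd18) (kd xd18 yd31 zd46) (kd xd27 yd50 zd23) (kd xd9 yd55 zd20) (kd xd27 yd50 zd27) (kd xd15 yd13 zd52) (kd xd15 yd13 zd53) (kd xd12 yd19 zd55) (kd xd26 yd18 zd9) (kd xd9 yd55 zd24)) (@D3.rec (fun _ => Pt) (kd xd27 yd47 zd17) (kd xd25 yd49 zd29) (kd xd27 yd47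 zd16) (kd xd10 yd7 zd1) (kd xd27 yd50 zd32) (kd xd24 yd32 zd57) (kd xd10 yd7 zd4) (kd xd25 yd3 zd58) (kd xd12 yd23 zd58) (kd xd18 yd16 zd45) (kd xd21 yd36 zd49) (kd xd27 yd20 zd20) (kd xd13 yd1 zd59) (kd xd26 yd46 zd61) (kd xd27 yd50 zd40) (kd xd27 yd5 zd43) (kd xd20 yd5 zd47) (kd xd27 yd48 zd22) (kd xd17 yd16 zd32) (kd xd26 yd16 zd44) (kd xd17 yd50 zd14) (kd xd27 yd37 zd37) (kd xd9 yd55 zd44) (kd xd17 yd0 zd14) (kd xd27 yd3 zd40) (kd xd18 yd57 zd2) (kd xd15 yd25 zd52) (kd xd15 yd25 zd53) (kd xd18 yd14 zd9) (kd xd20 yd5 zd38) (kd xd10 yd27 zd26) (kd xd27 yd50 zd44) (kd xd19 yd22 zd50) (kd xd10 yd27 zd29) (kd xd27 yd50 zd46) (kd xd17 yd48 zd36) (kd xd10 yd26 zd0) (kd xd10 yd26 zd1) (kd xd9 yd55 zd58) (kd xd27 yd50 zd52) (kd xd20 yd34 zd19) (kd xd18 yd0 zd29) (kd xd17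 yd47 zd43) (kd xd17 yd47 zd38) (kd xd27 yd50 zd58) (kd xd27 yd50 zd59) (kd xd12 yd47 zd41) (kd xd18 yd37 zd1) (kd xd21 yd47 zd33) (kd xd18 yd8 zd54) (kd xd9 yd56 zd4) (kd xd27 yd51 zd1) (kd xd17 yd52 zd12) (kd xd9 yd56 zd6) (kd xd27 yd51 zd3) (kd xd9 yd57 zd43) (kd xd17 yd9 zd42) (kd xd12 yd53 zd30) (kd xd16 yd7 zd48) (kd xd27 yd51 zd9) (kd xd16 yd7 zd49) (kd xd27 yd51 zd14)) (@D3.rec (fun _ => Pt) (kd xd18 yd24 zd23) (kd xd12 yd26 zd10) (kd xd11 yd12 zd39) (kd xd12 yd50 zd45) (kd xd12 yd21 zd14) (kd xd19 yd22 zd49) (kd xd12 yd24 zd38) (kd xd27 yd51 zd19) (kd xd17 yd44 zd36) (kd xd12 yd23 zd57) (kd xd12 yd18 zd54) (kd xd17 yd16 zd33) (kd xd12 yd24 zd36) (kd xd12 yd47 zd22) (kd xd27 yd51 zd24) (kd xd27 yd51 zd25) (kd xd27 yd51 zd27) (kd xd9 yd56 zd23) (kd xd27 yd51 zd33)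 (kd xd27 yd51 zd36) (kd xd9 yd56 zd25) (kd xd27 yd51 zd39) (kd xd27 yd51 zd42) (kd xd27 yd51 zd44) (kd xd9 yd56 zd26) (kd xd27 yd51 zd51) (kd xd27 yd51 zd54) (kd xd9 yd56 zd28) (kd xd24 yd48 zd13) (kd xd22 yd55 zd44) (kd xd26 yd30 zd57) (kd xd9 yd56 zd29) (kd xd27 yd52 zd1) (kd xd27 yd52 zd4) (kd xd9 yd56 zd31) (kd xd27 yd51 zd29) (kd xd27 yd51 zd30) (kd xd27 yd52 zd9) (kd xd9 yd56 zd32) (kd xd27 yd52 zd14) (kd xd27 yd52 zd18) (kd xd27 yd52 zd21) (kd xd27 yd12 zd23) (kd xd9 yd56 zd34) (kd xd27 yd32 zd57) (kd xd27 yd52 zd23) (kd xd9 yd56 zd35) (kd xd19 yd6 zd39) (kd xd19 yd6 zd40) (kd xd27 yd16 zd44) (kd xd9 yd56 zd37) (kd xd27 yd52 zd33) (kd xd27 yd52 zd36) (kd xd9 yd56 zd39) (kd xd19 yd6 zd43) (kd xd19 yd6 zd42) (kd xd22 yd7 zd23) (kd xd9 yd56 zd40) (kd xd27 yd52 zd45)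 (kd xd19 yd13 zd7) (kd xd9 yd56 zd42) (kd xd18 yd13 zd31)) (@D3.rec (fun _ => Pt) (kd xd25 yd26 zd27) (kd xd18 yd42 zd56) (kd xd9 yd56 zd43) (kd xd27 yd52 zd49) (kd xd26 yd30 zd53) (kd xd9 yd56 zd44) (kd xd27 yd32 zd13) (kd xd9 yd56 zd45) (kd xd18 yd14 zd52) (kd xd9 yd58 zd20) (kd xd9 yd58 zd21) (kd xd17 yd11 zd42) (kd xd27 yd52 zd60) (kd xd27 yd53 zd0) (kd xd9 yd56 zd47) (kd xd18 yd14 zd23) (kd xd27 yd53 zd2) (kd xd27 yd53 zd5) (kd xd9 yd56 zd48) (kd xd27 yd53 zd8) (kd xd21 yd12 zd13) (kd xd9 yd56 zd49) (kd xd27 yd32 zd37) (kd xd26 yd19 zd60) (kd xd15 yd33 zd46) (kd xd9 yd56 zd51) (kd xd27 yd53 zd15) (kd xd9 yd56 zd53) (kd xd26 yd20 zd8) (kd xd15 yd33 zd15) (kd xd25 yd23 zd57) (kd xd15 yd36 zd32) (kd xd13 yd0 zd11) (kd xd21 yd26 zd61) (kd xd12 yd20 zd50) (kd xd21 yd43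 zd16) (kd xd27 yd53 zd18) (kd xd23 yd54 zd13) (kd xd24 yd12 zd38) (kd xd9 yd56 zd59) (kd xd27 yd53 zd22) (kd xd9 yd56 zd61) (kd xd18 yd43 zd27) (kd xd17 yd44 zd1) (kd xd27 yd53 zd24) (kd xd9 yd57 zd1) (kd xd16 yd19 zd36) (kd xd27 yd53 zd28) (kd xd18 yd14 zd3) (kd xd19 yd53 zd19) (kd xd27 yd53 zd29) (kd xd9 yd57 zd5) (kd xd10 yd17 zd45) (kd xd10 yd17 zd44) (kd xd19 yd47 zd46) (kd xd26 yd59 zd54) (kd xd9 yd57 zd9) (kd xd21 yd20 zd48) (kd xd24 yd12 zd51) (kd xd9 yd57 zd10) (kd xd26 yd4 zd20) (kd xd21 yd24 zd15)) (@D3.rec (fun _ => Pt) (kd xd11 yd5 zd58) (kd xd17 yd48 zd33) (kd xd27 yd53 zd35) (kd xd26 yd1 zd19) (kd xd18 yd32 zd58) (kd xd18 yd32 zd57) (kd xd25 yd8 zd44) (kd xd9 yd57 zd23) (kd xd17 yd47 zd10) (kd xd27 yd53 zd44) (kd xd25 yd0 zd55) (kd xd9 yd57 zd26) (kd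 xd18 yd9 zd40) (kd xd10 yd11 zd0) (kd xd10 yd11 zd1) (kd xd20 yd9 zd27) (kd xd27 yd33 zd58) (kd xd27 yd52 zd46) (kd xd27 yd52 zd42) (kd xd9 yd57 zd28) (kd xd17 yd45 zd56) (kd xd27 yd53 zd51) (kd xd27 yd53 zd53) (kd xd9 yd57 zd30) (kd xd27 yd33 zd53) (kd xd20 yd21 zd16) (kd xd9 yd57 zd31) (kd xd27 yd32 zd18) (kd xd9 yd57 zd32) (kd xd27 yd51 zd55) (kd xd10 yd9 zd60) (kd xd18 yd11 zd61) (kd xd14 yd12 zd26) (kd xd9 yd57 zd34) (kd xd9 yd57 zd35) (kd xd27 yd54 zd2) (kd xd9 yd57 zd36) (kd xd27 yd54 zd5) (kd xd12 yd34 zd15) (kd xd21 yd38 zd39) (kd xd19 yd57 zd4) (kd xd27 yd54 zd9) (kd xd9 yd57 zd40) (kd xd15 yd37 zd5) (kd xd12 yd37 zd41) (kd xd14 yd18 zd61) (kd xd12 yd39 zd38) (kd xd18 yd32 zd50) (kd xd27 yd54 zd15) (kd xd21 yd20 zd50) (kd xd27 yd1 zd21) (kd xd26 yd6 zd5) (kd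 xd27 yd22 zd28) (kd xd9 yd57 zd49) (kd xd25 yd39 zd56) (kd xd10 yd11 zd15) (kd xd27 yd9 zd13) (kd xd27 yd20 zd23) (kd xd27 yd54 zd22) (kd xd9 yd57 zd52) (kd xd27 yd54 zd24) (kd xd27 yd54 zd26)) (@D3.rec (fun _ => Pt) (kd xd9 yd57 zd53) (kd xd17 yd52 zd11) (kd xd10 yd10 zd35) (kd xd18 yd12 zd48) (kd xd27 yd54 zd29) (kd xd9 yd57 zd55) (kd xd19 yd44 zd16) (kd xd11 yd11 zd6) (kd xd27 yd8 zd3) (kd xd18 yd10 zd28) (kd xd23 yd21 zd61) (kd xd9 yd58 zd5) (kd xd25 yd8 zd42) (kd xd9 yd58 zd7) (kd xd21 yd3 zd8) (kd xd20 yd9 zd30) (kd xd21 yd38 zd6) (kd xd12 yd55 zd46) (kd xd27 yd51 zd46) (kd xd27 yd51 zd47) (kd xd27 yd54 zd36) (kd xd9 yd58 zd13) (kd xd10 yd10 zd12) (kd xd18 yd12 zd15) (kd xd27 yd32 zd17) (kd xd9 yd58 zd15) (kd xd10 yd10 zd5) (kd xd27 yd54 zd42) (kd xd27 yd54 zd43)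 (kd xd14 yd31 zd6) (kd xd19 yd6 zd44) (kd xd27 yd54 zd45) (kd xd9 yd58 zd19) (kd xd27 yd52 zd53) (kd xd27 yd52 zd55) (kd xd27 yd54 zd50) (kd xd9 yd58 zd22) (kd xd18 yd35 zd29) (kd xd10 yd10 zd1) (kd xd10 yd10 zd2) (kd xd10 yd17 zd43) (kd xd27 yd54 zd59) (kd xd27 yd34 zd10) (kd xd27 yd34 zd9) (kd xd9 yd58 zd24) (kd xd10 yd9 zd59) (kd xd27 yd53 zd59) (kd xd10 yd9 zd61) (kd xd27 yd55 zd9) (kd xd27 yd55 zd12) (kd xd27 yd55 zd14) (kd xd9 yd58 zd27) (kd xd18 yd12 zd8) (kd xd27 yd50 zd15) (kd xd27 yd51 zd56) (kd xd27 yd50 zd17) (kd xd17 yd45 zd58) (kd xd17 yd45 zd57) (kd xd12 yd59 zd53) (kd xd9 yd58 zd31) (kd xd16 yd42 zd0) (kd xd27 yd55 zd22)) (@D3.rec (fun _ => Pt) (kd xd27 yd55 zd25) (kd xd9 yd58 zd33) (kd xd27 yd55 zd28) (kd xd27 yd35 zd4) (kd xd9 yd58 zd36) (kd xd27 yd55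 zd29) (kd xd23 yd53 zd55) (kd xd9 yd58 zd38) (kd xd20 yd37 zd57) (kd xd9 yd58 zd40) (kd xd27 yd55 zd32) (kd xd10 yd17 zd47) (kd xd15 yd48 zd14) (kd xd21 yd37 zd19) (kd xd20 yd26 zd0) (kd xd12 yd20 zd24) (kd xd12 yd20 zd35) (kd xd27 yd3 zd41) (kd xd27 yd55 zd34) (kd xd17 yd52 zd3) (kd xd24 yd41 zd30) (kd xd27 yd55 zd36) (kd xd17 yd13 zd24) (kd xd12 yd23 zd59) (kd xd21 yd31 zd17) (kd xd27 yd55 zd37) (kd xd27 yd55 zd38) (kd xd9 yd59 zd0) (kd xd21 yd31 zd11) (kd xd20 yd16 zd19) (kd xd25 yd17 zd16) (kd xd9 yd59 zd7) (kd xd20 yd45 zd35) (kd xd9 yd59 zd8) (kd xd17 yd53 zd40) (kd xd9 yd59 zd9) (kd xd10 yd10 zd25) (kd xd16 yd57 zd20) (kd xd25 yd23 zd47) (kd xd12 yd21 zd18) (kd xd9 yd59 zd15) (kd xd23 yd7 zd36) (kd xd27 yd55 zd42) (kd xd21 yd51 zd50) (kd xd18 yd43 zd44) (kd xd9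 yd59 zd19) (kd xd22 yd42 zd45) (kd xd9 yd59 zd21) (kd xd27 yd55 zd45) (kd xd17 yd29 zd40) (kd xd9 yd59 zd22) (kd xd21 yd5 zd48) (kd xd18 yd49 zd30) (kd xd9 yd59 zd23) (kd xd22 yd46 zd24) (kd xd27 yd9 zd60) (kd xd27 yd55 zd49) (kd xd22 yd41 zd61) (kd xd9 yd59 zd26) (kd xd27 yd55 zd54) (kd xd10 yd15 zd10) (kd xd10 yd15 zd13)) (@D3.rec (fun _ => Pt) (kd xd27 yd55 zd55) (kd xd21 yd54 zd15) (kd xd12 yd58 zd30) (kd xd12 yd58 zd31) (kd xd13 yd51 zd23) (kd xd15 yd21 zd28) (kd xd27 yd29 zd48) (kd xd9 yd59 zd31) (kd xd9 yd59 zd34) (kd xd12 yd44 zd34) (kd xd27 yd55 zd58) (kd xd21 yd20 zd5) (kd xd9 yd59 zd38) (kd xd9 yd59 zd39) (kd xd9 yd59 zd40) (kd xd27 yd55 zd60) (kd xd17 yd31 zd39) (kd xd9 yd59 zd41) (kd xd27 yd56 zd0) (kd xd18 yd50 zd40) (kd xd26 yd46 zd35) (kd xd27 yd56 zd1)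 (kd xd9 yd59 zd43) (kd xd19 yd48 zd57) (kd xd21 yd24 zd56) (kd xd27 yd56 zd2) (kd xd9 yd59 zd45) (kd xd26 yd13 zd29) (kd xd9 yd59 zd46) (kd xd27 yd56 zd3) (kd xd17 yd44 zd47) (kd xd9 yd59 zd47) (kd xd21 yd26 zd15) (kd xd26 yd14 zd43) (kd xd11 yd56 zd52) (kd xd12 yd24 zd58) (kd xd9 yd59 zd50) (kd xd12 yd32 zd25) (kd xd17 yd29 zd54) (kd xd21 yd25 zd60) (kd xd27 yd56 zd7) (kd xd11 yd19 zd42) (kd xd9 yd59 zd52) (kd xd11 yd6 zd29) (kd xd21 yd22 zd46) (kd xd18 yd10 zd9) (kd xd9 yd59 zd59) (kd xd21 yd26 zd46) (kd xd27 yd31 zd30) (kd xd9 yd59 zd60) (kd xd18 yd58 zd22) (kd xd18 yd9 zd22) (kd xd20 yd5 zd58) (kd xd20 yd39 zd61) (kd xd21 yd24 zd58) (kd xd27 yd40 zd9) (kd xd27 yd56 zd12) (kd xd27 yd56 zd14) (kd xd10 yd0 zd3) (kd xd19 yd0 zd41) (kd xd17 yd58 zd47) (kd xd10 yd0 zd4))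 (@D3.rec (fun _ => Pt) (kd xd20 yd12 zd51) (kd xd21 yd56 zd38) (kd xd27 yd43 zd3) (kd xd21 yd41 zd42) (kd xd21 yd34 zd11) (kd xd12 yd54 zd33) (kd xd17 yd59 zd44) (kd xd17 yd6 zd10) (kd xd11 yd56 zd10) (kd xd16 yd47 zd19) (kd xd24 yd15 zd34) (kd xd10 yd0 zd17) (kd xd10 yd0 zd18) (kd xd27 yd56 zd18) (kd xd10 yd0 zd20) (kd xd27 yd37 zd24) (kd xd17 yd5 zd53) (kd xd18 yd4 zd35) (kd xd10 yd0 zd21) (kd xd27 yd50 zd38) (kd xd27 yd51 zd23) (kd xd12 yd26 zd2) (kd xd12 yd26 zd3) (kd xd10 yd0 zd26) (kd xd14 yd35 zd1) (kd xd27 yd12 zd14) (kd xd20 yd28 zd9) (kd xd11 yd50 zd47) (kd xd12 yd43 zd3) (kd xd10 yd0 zd32) (kd xd12 yd55 zd10) (kd xd12 yd12 zd28) (kd xd21 yd9 zd31) (kd xd15 yd6 zd29) (kd xd27 yd56 zd28) (kd xd10 yd0 zd37) (kd xd27 yd56 zd35) (kd xd12 yd27 zd46) (kd xd20 yd27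 zd57) (kd xd25 yd16 zd33) (kd xd18 yd58 zd17) (kd xd18 yd47 zd12) (kd xd25 yd17 zd35) (kd xd11 yd17 zd13) (kd xd11 yd17 zd43) (kd xd21 yd18 zd40) (kd xd12 yd40 zd55) (kd xd10 yd0 zd45) (kd xd11 yd49 zd3) (kd xd27 yd35 zd35) (kd xd21 yd41 zd36) (kd xd10 yd35 zd39) (kd xd24 yd47 zd16) (kd xd24 yd47 zd17) (kd xd23 yd21 zd20) (kd xd10 yd0 zd49) (kd xd19 yd5 zd43) (kd xd23 yd22 zd37) (kd xd17 yd38 zd23) (kd xd17 yd38 zd22) (kd xd19 yd5 zd39) (kd xd15 yd42 zd36)) (@D3.rec (fun _ => Pt) (kd xd17 yd38 zd34) (kd xd16 yd13 zd14) (kd xd16 yd13 zd15) (kd xd26 yd9 zd60) (kd xd10 yd0 zd56) (kd xd27 yd56 zd50) (kd xd27 yd56 zd51) (kd xd10 yd0 zd58) (kd xd16 yd12 zd15) (kd xd16 yd12 zd16) (kd xd27 yd56 zd57) (kd xd10 yd0 zd59) (kd xd24 yd45 zd22) (kd xd14 yd11 zd23) (kd xd10 yd0 zd61)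 (kd xd16 yd11 zd37) (kd xd16 yd11 zd38) (kd xd26 yd8 zd15) (kd xd12 yd54 zd36) (kd xd10 yd1 zd0) (kd xd26 yd48 zd19) (kd xd10 yd1 zd2) (kd xd25 yd41 zd1) (kd xd27 yd57 zd8) (kd xd10 yd1 zd3) (kd xd21 yd22 zd17) (kd xd10 yd1 zd4) (kd xd16 yd11 zd20) (kd xd16 yd11 zd21) (kd xd12 yd6 zd50) (kd xd13 yd53 zd1) (kd xd13 yd52 zd42) (kd xd10 yd1 zd6) (kd xd17 yd56 zd13) (kd xd21 yd29 zd22) (kd xd27 yd40 zd38) (kd xd10 yd1 zd7) (kd xd21 yd30 zd5) (kd xd27 yd57 zd21) (kd xd10 yd1 zd9) (kd xd27 yd57 zd23) (kd xd17 yd57 zd41) (kd xd10 yd1 zd11) (kd xd14 yd40 zd15) (kd xd16 yd37 zd12) (kd xd14 yd46 zd39) (kd xd14 yd37 zd41) (kd xd27 yd57 zd26) (kd xd26 yd24 zd5) (kd xd21 yd12 zd1) (kd xd20 yd21 zd34) (kd xd27 yd57 zd31) (kd xd26 yd18 zd57) (kd xd20 yd21 zd37) (kd xd27 yd57 zd35)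 (kd xd16 yd34 zd6) (kd xd26 yd30 zd20) (kd xd26 yd31 zd7) (kd xd16 yd34 zd11) (kd xd27 yd57 zd41) (kd xd13 yd14 zd44) (kd xd27 yd57 zd46)) (@D3.rec (fun _ => Pt) (kd xd26 yd19 zd23) (kd xd20 yd21 zd14) (kd xd10 yd1 zd27) (kd xd27 yd57 zd50) (kd xd16 yd31 zd18) (kd xd27 yd57 zd52) (kd xd16 yd22 zd0) (kd xd23 yd5 zd30) (kd xd10 yd1 zd31) (kd xd27 yd57 zd57) (kd xd10 yd22 zd34) (kd xd10 yd22 zd32) (kd xd17 yd39 zd42) (kd xd15 yd18 zd25) (kd xd15 yd18 zd26) (kd xd14 yd39 zd18) (kd xd27 yd58 zd0) (kd xd27 yd58 zd3) (kd xd27 yd58 zd5) (kd xd10 yd1 zd34) (kd xd27 yd58 zd9) (kd xd27 yd58 zd10) (kd xd27 yd58 zd11) (kd xd10 yd1 zd35) (kd xd27 yd58 zd13) (kd xd10 yd1 zd36) (kd xd23 yd9 zd18) (kd xd16 yd45 zd55) (kd xd19 yd17 zd19) (kd xd10 yd35 zd29) (kd xd20 yd20 zd48) (kd xd16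 yd31 zd5) (kd xd27 yd58 zd19) (kd xd27 yd58 zd21) (kd xd27 yd58 zd23) (kd xd10 yd1 zd41) (kd xd18 yd59 zd40) (kd xd26 yd58 zd7) (kd xd23 yd10 zd19) (kd xd16 yd36 zd1) (kd xd16 yd36 zd2) (kd xd26 yd32 zd61) (kd xd10 yd1 zd45) (kd xd27 yd58 zd28) (kd xd27 yd58 zd29) (kd xd27 yd58 zd30) (kd xd10 yd1 zd47) (kd xd16 yd26 zd6) (kd xd16 yd32 zd55) (kd xd10 yd1 zd48) (kd xd10 yd1 zd50) (kd xd18 yd59 zd19) (kd xd16 yd27 zd9) (kd xd20 yd36 zd27) (kd xd10 yd1 zd53) (kd xd27 yd58 zd38) (kd xd20 yd0 zd49) (kd xd27 yd58 zd39) (kd xd22 yd41 zd59) (kd xd27 yd58 zd42) (kd xd27 yd58 zd43) (kd xd11 yd20 zd10)) (@D3.rec (fun _ => Pt) (kd xd10 yd1 zd59) (kd xd27 yd58 zd47) (kd xd10 yd1 zd60) (kd xd27 yd58 zd48) (kd xd10 yd1 zd61) (kd xd16 yd30 zd46) (kd xd10 yd22 zd27) (kd xd10 yd22 zd28)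 (kd xd27 yd58 zd53) (kd xd10 yd2 zd1) (kd xd18 yd35 zd28) (kd xd23 yd25 zd23) (kd xd10 yd2 zd3) (kd xd19 yd50 zd4) (kd xd18 yd55 zd24) (kd xd18 yd55 zd23) (kd xd27 yd58 zd60) (kd xd10 yd2 zd6) (kd xd27 yd59 zd1) (kd xd27 yd59 zd4) (kd xd27 yd59 zd7) (kd xd10 yd2 zd8) (kd xd18 yd47 zd57) (kd xd21 yd38 zd41) (kd xd19 yd10 zd45) (kd xd23 yd12 zd38) (kd xd11 yd36 zd10) (kd xd27 yd59 zd11) (kd xd17 yd13 zd28) (kd xd18 yd50 zd8) (kd xd26 yd53 zd2) (kd xd22 yd47 zd17) (kd xd27 yd41 zd30) (kd xd26 yd47 zd2) (kd xd18 yd47 zd52) (kd xd10 yd21 zd48) (kd xd18 yd48 zd21) (kd xd10 yd23 zd4) (kd xd20 yd12 zd25) (kd xd21 yd30 zd55) (kd xd26 yd28 zd49) (kd xd22 yd47 zd14) (kd xd21 yd41 zd4) (kd xd18 yd37 zd44) (kd xd26 yd32 zd53) (kd xd10 yd2 zd28) (kd xd26 yd25 zd43) (kd xd15 yd21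 zd36) (kd xd12 yd0 zd35) (kd xd16 yd7 zd61) (kd xd10 yd2 zd30) (kd xd21 yd31 zd12) (kd xd16 yd7 zd20) (kd xd23 yd3 zd13) (kd xd27 yd59 zd26) (kd xd27 yd59 zd28) (kd xd10 yd2 zd32) (kd xd14 yd36 zd8) (kd xd19 yd22 zd58) (kd xd10 yd2 zd35) (kd xd17 yd13 zd27) (kd xd13 yd37 zd53)) (@D3.rec (fun _ => Pt) (kd xd13 yd4 zd53) (kd xd24 yd29 zd40) (kd xd17 yd33 zd31) (kd xd19 yd33 zd23) (kd xd21 yd18 zd35) (kd xd11 yd39 zd10) (kd xd10 yd2 zd49) (kd xd25 yd18 zd9) (kd xd20 yd36 zd47) (kd xd10 yd2 zd53) (kd xd27 yd59 zd37) (kd xd17 yd7 zd3) (kd xd27 yd14 zd52) (kd xd19 yd29 zd24) (kd xd10 yd17 zd40) (kd xd10 yd17 zd41) (kd xd17 yd12 zd51) (kd xd27 yd59 zd45) (kd xd27 yd9 zd17) (kd xd27 yd9 zd16) (kd xd10 yd2 zd57) (kd xd27 yd59 zd52) (kd xd24 yd53 zd9) (kd xd23 yd50 zd0) (kd xd10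 yd2 zd58) (kd xd20 yd45 zd37) (kd xd10 yd2 zd59) (kd xd11 yd55 zd18) (kd xd16 yd8 zd53) (kd xd10 yd2 zd61) (kd xd11 yd49 zd58) (kd xd11 yd13 zd56) (kd xd20 yd7 zd36) (kd xd27 yd17 zd8) (kd xd20 yd20 zd30) (kd xd17 yd9 zd3) (kd xd17 yd33 zd13) (kd xd15 yd9 zd18) (kd xd15 yd16 zd57) (kd xd10 yd30 zd8) (kd xd10 yd30 zd13) (kd xd10 yd3 zd8) (kd xd13 yd13 zd60) (kd xd22 yd29 zd8) (kd xd10 yd3 zd10) (kd xd10 yd12 zd58) (kd xd10 yd3 zd18) (kd xd16 yd19 zd44) (kd xd24 yd54 zd7) (kd xd14 yd58 zd32) (kd xd13 yd29 zd14) (kd xd17 yd25 zd40) (kd xd10 yd3 zd20) (kd xd24 yd9 zd44) (kd xd17 yd26 zd1) (kd xd28 yd0 zd4) (kd xd28 yd0 zd7) (kd xd10 yd3 zd22) (kd xd24 yd9 zd43) (kd xd27 yd9 zd36) (kd xd10 yd3 zd23) (kd xd28 yd0 zd11)) (@D3.rec (fun _ => Pt) (kd xd25 yd54 zd10) (kd xd10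 yd3 zd24) (kd xd26 yd32 zd26) (kd xd19 yd1 zd28) (kd xd16 yd40 zd34) (kd xd10 yd3 zd26) (kd xd26 yd26 zd56) (kd xd10 yd3 zd28) (kd xd26 yd32 zd10) (kd xd26 yd38 zd13) (kd xd26 yd38 zd12) (kd xd19 yd31 zd38) (kd xd16 yd40 zd30) (kd xd20 yd58 zd6) (kd xd16 yd40 zd32) (kd xd18 yd37 zd50) (kd xd10 yd3 zd35) (kd xd18 yd57 zd6) (kd xd10 yd30 zd9) (kd xd18 yd59 zd51) (kd xd17 yd49 zd14) (kd xd19 yd36 zd21) (kd xd10 yd3 zd44) (kd xd14 yd34 zd9) (kd xd19 yd3 zd26) (kd xd10 yd32 zd10) (kd xd26 yd4 zd60) (kd xd18 yd49 zd0) (kd xd16 yd56 zd2) (kd xd22 yd4 zd12) (kd xd11 yd42 zd4) (kd xd11 yd58 zd32) (kd xd10 yd3 zd57) (kd xd10 yd45 zd34) (kd xd17 yd16 zd17) (kd xd17 yd16 zd18) (kd xd15 yd5 zd6) (kd xd10 yd4 zd40) (kd xd17 yd29 zd30) (kd xd20 yd19 zd30) (kd xd19 yd53 zd2) (kd xd11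 yd0 zd34) (kd xd27 yd14 zd50) (kd xd26 yd19 zd59) (kd xd27 yd11 zd45) (kd xd26 yd20 zd15) (kd xd21 yd2 zd57) (kd xd18 yd49 zd36) (kd xd22 yd30 zd3) (kd xd23 yd46 zd16) (kd xd21 yd14 zd46) (kd xd10 yd15 zd44) (kd xd17 yd39 zd38) (kd xd28 yd0 zd34) (kd xd19 yd1 zd45) (kd xd21 yd12 zd57) (kd xd10 yd15 zd41) (kd xd26 yd14 zd38) (kd xd23 yd9 zd16) (kd xd21 yd10 zd44) (kd xd10 yd8 zd13) (kd xd13 yd0 zd20)) (@D3.rec (fun _ => Pt) (kd xd10 yd15 zd49) (kd xd18 yd8 zd10) (kd xd16 yd10 zd22) (kd xd15 yd18 zd27) (kd xd13 yd34 zd61) (kd xd14 yd0 zd51) (kd xd12 yd23 zd7) (kd xd10 yd4 zd21) (kd xd18 yd42 zd19) (kd xd19 yd11 zd55) (kd xd28 yd0 zd44) (kd xd10 yd4 zd23) (kd xd28 yd0 zd45) (kd xd20 yd50 zd53) (kd xd23 yd48 zd4) (kd xd20 yd43 zd6) (kd xd10 yd4 zd27) (kd xd11 yd33 zd16)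 (kd xd10 yd4 zd31) (kd xd19 yd32 zd39) (kd xd11 yd50 zd56) (kd xd19 yd57 zd37) (kd xd20 yd36 zd2) (kd xd10 yd4 zd38) (kd xd18 yd31 zd18) (kd xd12 yd36 zd20) (kd xd10 yd4 zd46) (kd xd26 yd43 zd40) (kd xd27 yd41 zd18) (kd xd12 yd4 zd13) (kd xd10 yd4 zd49) (kd xd20 yd19 zd53) (kd xd17 yd57 zd55) (kd xd19 yd39 zd59) (kd xd16 yd49 zd50) (kd xd10 yd4 zd55) (kd xd17 yd34 zd27) (kd xd16 yd58 zd34) (kd xd19 yd34 zd35) (kd xd11 yd30 zd52) (kd xd20 yd18 zd34) (kd xd10 yd5 zd1) (kd xd18 yd43 zd13) (kd xd13 yd51 zd4) (kd xd16 yd53 zd11) (kd xd20 yd30 zd24) (kd xd20 yd19 zd52) (kd xd20 yd7 zd59) (kd xd11 yd37 zd33) (kd xd20 yd19 zd49) (kd xd15 yd8 zd13) (kd xd10 yd5 zd7) (kd xd22 yd34 zd20) (kd xd24 yd31 zd12) (kd xd22 yd34 zd4) (kd xd20 yd32 zd34) (kd xd10 yd5 zd10) (kd xd18 yd43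 zd1) (kd xd10 yd5 zd14) (kd xd10 yd5 zd52) (kd xd12 yd43 zd31) (kd xd15 yd47 zd43)) (@D3.rec (fun _ => Pt) (kd xd10 yd5 zd19) (kd xd21 yd31 zd37) (kd xd21 yd31 zd38) (kd xd28 yd0 zd59) (kd xd10 yd5 zd24) (kd xd24 yd36 zd37) (kd xd26 yd12 zd59) (kd xd20 yd20 zd25) (kd xd10 yd5 zd27) (kd xd27 yd36 zd27) (kd xd21 yd34 zd57) (kd xd28 yd0 zd61) (kd xd21 yd15 zd56) (kd xd10 yd5 zd48) (kd xd16 yd7 zd16) (kd xd10 yd5 zd34) (kd xd20 yd13 zd5) (kd xd21 yd45 zd60) (kd xd10 yd5 zd35) (kd xd28 yd1 zd0) (kd xd21 yd26 zd51) (kd xd18 yd34 zd50) (kd xd10 yd5 zd37) (kd xd18 yd11 zd0) (kd xd15 yd48 zd41) (kd xd28 yd1 zd2) (kd xd28 yd1 zd3) (kd xd10 yd5 zd41) (kd xd26 yd26 zd36) (kd xd16 yd10 zd34) (kd xd10 yd5 zd45) (kd xd12 yd31 zd31) (kd xd12 yd4 zd16) (kd xd18 yd37 zd22) (kd xd15 yd48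 zd50) (kd xd13 yd2 zd17) (kd xd24 yd7 zd8) (kd xd15 yd47 zd42) (kd xd10 yd5 zd51) (kd xd10 yd5 zd53) (kd xd23 yd47 zd55) (kd xd11 yd11 zd39) (kd xd10 yd5 zd55) (kd xd21 yd51 zd33) (kd xd10 yd5 zd56) (kd xd16 yd7 zd13) (kd xd25 yd44 zd23) (kd xd10 yd5 zd57) (kd xd11 yd8 zd27) (kd xd11 yd8 zd28) (kd xd12 yd37 zd27) (kd xd11 yd26 zd28) (kd xd20 yd0 zd21) (kd xd18 yd0 zd2) (kd xd10 yd6 zd2) (kd xd26 yd59 zd38) (kd xd26 yd52 zd0) (kd xd17 yd30 zd6) (kd xd20 yd0 zd25) (kd xd18 yd8 zd15) (kd xd21 yd28 zd27) (kd xd10 yd6 zd6)) (@D3.rec (fun _ => Pt) (kd xd20 yd40 zd20) (kd xd12 yd15 zd11) (kd xd17 yd15 zd60) (kd xd24 yd28 zd1) (kd xd10 yd6 zd8) (kd xd23 yd47 zd54) (kd xd12 yd44 zd24) (kd xd10 yd6 zd9) (kd xd11 yd26 zd61) (kd xd12 yd44 zd23) (kd xd10 yd6 zd10) (kd xd19 yd58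 zd33) (kd xd10 yd6 zd12) (kd xd28 yd1 zd22) (kd xd14 yd33 zd7) (kd xd14 yd33 zd11) (kd xd11 yd29 zd45) (kd xd10 yd6 zd15) (kd xd10 yd6 zd16) (kd xd10 yd6 zd18) (kd xd20 yd34 zd43) (kd xd11 yd7 zd8) (kd xd21 yd51 zd60) (kd xd10 yd6 zd21) (kd xd21 yd51 zd32) (kd xd28 yd1 zd26) (kd xd10 yd6 zd24) (kd xd10 yd6 zd25) (kd xd19 yd59 zd56) (kd xd28 yd1 zd28) (kd xd10 yd6 zd26) (kd xd27 yd37 zd29) (kd xd18 yd29 zd43) (kd xd21 yd19 zd40) (kd xd14 yd35 zd50) (kd xd10 yd45 zd50) (kd xd25 yd17 zd56) (kd xd17 yd0 zd9) (kd xd28 yd1 zd31) (kd xd10 yd6 zd32) (kd xd21 yd57 zd58) (kd xd26 yd59 zd22) (kd xd26 yd58 zd39) (kd xd25 yd17 zd5) (kd xd16 yd8 zd43) (kd xd17 yd19 zd56) (kd xd11 yd26 zd60) (kd xd17 yd56 zd32) (kd xd25 yd23 zd43) (kd xd20 yd1 zd56) (kd xd25 yd23 zd44) (kd xd21 yd37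 zd40) (kd xd11 yd9 zd59) (kd xd10 yd6 zd45) (kd xd21 yd3 zd5) (kd xd23 yd42 zd31) (kd xd16 yd44 zd45) (kd xd17 yd8 zd26) (kd xd28 yd1 zd37) (kd xd21 yd57 zd55) (kd xd10 yd6 zd47) (kd xd21 yd0 zd9)) (@D3.rec (fun _ => Pt) (kd xd11 yd51 zd56) (kd xd10 yd49 zd2) (kd xd20 yd25 zd56) (kd xd10 yd18 zd5) (kd xd21 yd2 zd38) (kd xd11 yd28 zd41) (kd xd21 yd40 zd42) (kd xd28 yd1 zd41) (kd xd12 yd35 zd33) (kd xd10 yd7 zd2) (kd xd11 yd16 zd43) (kd xd24 yd33 zd4) (kd xd24 yd32 zd5) (kd xd18 yd34 zd13) (kd xd18 yd39 zd10) (kd xd27 yd42 zd13) (kd xd27 yd4 zd19) (kd xd16 yd42 zd14) (kd xd10 yd7 zd6) (kd xd12 yd13 zd34) (kd xd21 yd26 zd18) (kd xd20 yd47 zd61) (kd xd20 yd5 zd40) (kd xd18 yd1 zd51) (kd xd11 yd5 zd18) (kd xd18 yd48 zd5) (kd xd18 yd48 zd6) (kd xd18 yd4 zd25) (kd xd15 yd10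 zd46) (kd xd15 yd10 zd47) (kd xd21 yd26 zd6) (kd xd10 yd7 zd27) (kd xd21 yd26 zd3) (kd xd16 yd17 zd43) (kd xd16 yd20 zd4) (kd xd16 yd20 zd8) (kd xd27 yd45 zd25) (kd xd24 yd52 zd30) (kd xd28 yd1 zd48) (kd xd28 yd1 zd49) (kd xd10 yd9 zd14) (kd xd10 yd9 zd15) (kd xd18 yd29 zd23) (kd xd10 yd7 zd33) (kd xd21 yd33 zd44) (kd xd15 yd50 zd28) (kd xd15 yd50 zd29) (kd xd25 yd0 zd1) (kd xd10 yd7 zd35) (kd xd27 yd30 zd52) (kd xd27 yd30 zd51) (kd xd27 yd45 zd12) (kd xd15 yd14 zd54) (kd xd15 yd14 zd55) (kd xd18 yd30 zd10) (kd xd10 yd7 zd38) (kd xd17 yd36 zd61) (kd xd24 yd45 zd26) (kd xd23 yd1 zd57) (kd xd20 yd46 zd34) (kd xd10 yd7 zd41) (kd xd27 yd47 zd13)) (@D3.rec (fun _ => Pt) (kd xd20 yd46 zd39) (kd xd10 yd7 zd42) (kd xd10 yd7 zd43) (kd xd10 yd8 zd20) (kd xd10 yd8 zd21) (kd xd28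 yd2 zd14) (kd xd10 yd8 zd40) (kd xd10 yd8 zd39) (kd xd10 yd7 zd60) (kd xd16 yd18 zd28) (kd xd27 yd40 zd11) (kd xd26 yd20 zd50) (kd xd16 yd22 zd55) (kd xd17 yd38 zd17) (kd xd16 yd15 zd11) (kd xd27 yd31 zd18) (kd xd27 yd48 zd60) (kd xd27 yd36 zd4) (kd xd10 yd7 zd55) (kd xd18 yd52 zd31) (kd xd28 yd2 zd29) (kd xd10 yd7 zd58) (kd xd18 yd37 zd2) (kd xd10 yd7 zd59) (kd xd28 yd2 zd30) (kd xd27 yd27 zd8) (kd xd24 yd44 zd35) (kd xd24 yd44 zd36) (kd xd10 yd8 zd0) (kd xd27 yd27 zd33) (kd xd17 yd36 zd31) (kd xd17 yd38 zd7) (kd xd10 yd8 zd1) (kd xd17 yd41 zd25) (kd xd10 yd8 zd2) (kd xd18 yd28 zd26) (kd xd10 yd8 zd3) (kd xd28 yd2 zd35) (kd xd10 yd8 zd6) (kd xd18 yd29 zd0) (kd xd17 yd40 zd55) (kd xd10 yd8 zd8) (kd xd25 yd38 zd37) (kd xd16 yd4 zd41) (kd xd13 yd0 zd22) (kd xd10 yd8 zd11)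 (kd xd26 yd3 zd8) (kd xd16 yd10 zd52) (kd xd16 yd10 zd53) (kd xd28 yd0 zd37) (kd xd14 yd42 zd53) (kd xd14 yd42 zd54) (kd xd28 yd2 zd40) (kd xd10 yd8 zd14) (kd xd27 yd2 zd11) (kd xd28 yd2 zd46) (kd xd10 yd8 zd16) (kd xd28 yd2 zd49) (kd xd10 yd8 zd17) (kd xd26 yd5 zd26) (kd xd10 yd8 zd18) (kd xd18 yd45 zd27)) (@D3.rec (fun _ => Pt) (kd xd28 yd2 zd7) (kd xd13 yd21 zd58) (kd xd23 yd51 zd26) (kd xd28 yd2 zd10) (kd xd13 yd21 zd59) (kd xd10 yd8 zd22) (kd xd28 yd2 zd55) (kd xd15 yd11 zd13) (kd xd15 yd11 zd14) (kd xd28 yd2 zd61) (kd xd28 yd2 zd38) (kd xd23 yd34 zd21) (kd xd10 yd8 zd24) (kd xd28 yd3 zd3) (kd xd15 yd9 zd41) (kd xd14 yd57 zd56) (kd xd10 yd16 zd4) (kd xd28 yd3 zd8) (kd xd27 yd52 zd26) (kd xd26 yd14 zd54) (kd xd10 yd8 zd27) (kd xd25 yd0 zd61) (kd xd28 yd3 zd12) (kd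 xd10 yd8 zd28) (kd xd24 yd47 zd48) (kd xd10 yd8 zd29) (kd xd18 yd27 zd35) (kd xd28 yd3 zd20) (kd xd10 yd8 zd31) (kd xd28 yd3 zd22) (kd xd10 yd8 zd32) (kd xd20 yd2 zd52) (kd xd22 yd8 zd53) (kd xd10 yd8 zd34) (kd xd26 yd1 zd35) (kd xd25 yd19 zd38) (kd xd25 yd1 zd6) (kd xd10 yd8 zd41) (kd xd24 yd44 zd6) (kd xd15 yd11 zd6) (kd xd14 yd57 zd45) (kd xd22 yd55 zd35) (kd xd17 yd38 zd8) (kd xd27 yd26 zd60) (kd xd27 yd27 zd34) (kd xd24 yd44 zd43) (kd xd14 yd57 zd47) (kd xd16 yd3 zd35) (kd xd25 yd58 zd56) (kd xd16 yd14 zd30) (kd xd16 yd14 zd31) (kd xd17 yd40 zd28) (kd xd28 yd2 zd54) (kd xd18 yd35 zd17) (kd xd10 yd8 zd50) (kd xd16 yd18 zd33) (kd xd25 yd0 zd37) (kd xd20 yd20 zd58) (kd xd10 yd8 zd51) (kd xd18 yd30 zd23) (kd xd18 yd30 zd28) (kd xd15 yd14 zd40)) (@D3.rec (fun _ => Pt)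 (kd xd18 yd27 zd39) (kd xd28 yd3 zd39) (kd xd10 yd8 zd56) (kd xd23 yd43 zd27) (kd xd28 yd3 zd41) (kd xd10 yd8 zd57) (kd xd21 yd25 zd35) (kd xd28 yd3 zd42) (kd xd10 yd8 zd58) (kd xd10 yd13 zd41) (kd xd10 yd8 zd59) (kd xd15 yd12 zd32) (kd xd15 yd12 zd33) (kd xd23 yd25 zd46) (kd xd25 yd3 zd17) (kd xd28 yd2 zd9) (kd xd10 yd9 zd3) (kd xd28 yd2 zd50) (kd xd10 yd9 zd4) (kd xd28 yd3 zd49) (kd xd12 yd1 zd35) (kd xd18 yd0 zd47) (kd xd12 yd38 zd31) (kd xd18 yd26 zd42) (kd xd28 yd3 zd52) (kd xd18 yd54 zd23) (kd xd10 yd9 zd8) (kd xd22 yd8 zd54) (kd xd10 yd9 zd7) (kd xd28 yd3 zd56) (kd xd24 yd44 zd42) (kd xd28 yd3 zd0) (kd xd28 yd3 zd57) (kd xd20 yd46 zd38) (kd xd10 yd9 zd9) (kd xd17 yd35 zd10) (kd xd10 yd9 zd10) (kd xd23 yd2 zd50) (kd xd17 yd14 zd18) (kd xd12 yd27 zd30) (kd xd27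 yd3 zd61) (kd xd10 yd9 zd12) (kd xd22 yd8 zd58) (kd xd18 yd25 zd32) (kd xd18 yd7 zd53) (kd xd17 yd55 zd23) (kd xd28 yd1 zd51) (kd xd23 yd36 zd18) (kd xd28 yd4 zd6) (kd xd23 yd36 zd27) (kd xd10 yd9 zd16) (kd xd14 yd56 zd11) (kd xd16 yd18 zd5) (kd xd18 yd8 zd4) (kd xd20 yd46 zd51) (kd xd27 yd31 zd49) (kd xd10 yd9 zd18) (kd xd15 yd9 zd44) (kd xd15 yd0 zd28) (kd xd16 yd23 zd20) (kd xd16 yd20 zd54) (kd xd15 yd9 zd58)) (@D3.rec (fun _ => Pt) (kd xd27 yd57 zd12) (kd xd28 yd4 zd12) (kd xd25 yd28 zd60) (kd xd10 yd9 zd22) (kd xd28 yd4 zd15) (kd xd28 yd4 zd16) (kd xd10 yd9 zd23) (kd xd21 yd33 zd43) (kd xd12 yd26 zd39) (kd xd10 yd9 zd24) (kd xd18 yd26 zd54) (kd xd27 yd45 zd1) (kd xd10 yd9 zd26) (kd xd25 yd49 zd60) (kd xd28 yd4 zd22) (kd xd10 yd9 zd27) (kd xd17 yd38 zd42) (kd xd25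 yd3 zd35) (kd xd25 yd3 zd36) (kd xd27 yd45 zd56) (kd xd10 yd9 zd29) (kd xd28 yd4 zd26) (kd xd10 yd9 zd30) (kd xd18 yd28 zd59) (kd xd10 yd9 zd32) (kd xd15 yd3 zd22) (kd xd10 yd9 zd33) (kd xd27 yd28 zd51) (kd xd18 yd28 zd60) (kd xd26 yd31 zd54) (kd xd21 yd11 zd2) (kd xd28 yd4 zd33) (kd xd10 yd9 zd37) (kd xd28 yd4 zd37) (kd xd28 yd4 zd38) (kd xd10 yd9 zd39) (kd xd27 yd54 zd38) (kd xd27 yd54 zd39) (kd xd28 yd4 zd44) (kd xd10 yd9 zd40) (kd xd26 yd3 zd60) (kd xd28 yd4 zd51) (kd xd18 yd35 zd27) (kd xd10 yd9 zd42) (kd xd27 yd54 zd37) (kd xd15 yd52 zd26) (kd xd19 yd8 zd5) (kd xd19 yd8 zd3) (kd xd28 yd4 zd34) (kd xd26 yd30 zd40) (kd xd28 yd4 zd58) (kd xd10 yd9 zd48) (kd xd28 yd4 zd60) (kd xd28 yd4 zd61) (kd xd28 yd5 zd1) (kd xd28 yd5 zd4) (kd xd10 yd9 zd50) (kd xd27 yd33 zd0)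 (kd xd28 yd5 zd6) (kd xd28 yd5 zd7) (kd xd18 yd54 zd31) (kd xd24 yd48 zd26)) (@D3.rec (fun _ => Pt) (kd xd24 yd48 zd27) (kd xd28 yd5 zd15) (kd xd10 yd9 zd56) (kd xd18 yd34 zd45) (kd xd18 yd34 zd43) (kd xd19 yd4 zd56) (kd xd10 yd9 zd58) (kd xd28 yd5 zd20) (kd xd28 yd5 zd24) (kd xd27 yd55 zd3) (kd xd27 yd53 zd58) (kd xd27 yd32 zd38) (kd xd26 yd32 zd14) (kd xd26 yd32 zd15) (kd xd17 yd26 zd59) (kd xd28 yd5 zd33) (kd xd10 yd10 zd0) (kd xd27 yd54 zd52) (kd xd18 yd23 zd24) (kd xd18 yd9 zd38) (kd xd26 yd31 zd56) (kd xd20 yd21 zd5) (kd xd10 yd10 zd3) (kd xd10 yd11 zd40) (kd xd10 yd11 zd41) (kd xd27 yd2 zd4) (kd xd18 yd34 zd4) (kd xd10 yd11 zd38) (kd xd28 yd5 zd50) (kd xd10 yd30 zd30) (kd xd28 yd5 zd54) (kd xd28 yd5 zd57) (kd xd27 yd33 zd49) (kd xd10 yd10 zd8) (kd xd18 yd33 zd61)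 (kd xd28 yd6 zd4) (kd xd10 yd10 zd9) (kd xd23 yd50 zd52) (kd xd10 yd10 zd10) (kd xd27 yd56 zd30) (kd xd10 yd12 zd27) (kd xd10 yd12 zd28) (kd xd18 yd9 zd29) (kd xd28 yd6 zd14) (kd xd28 yd6 zd17) (kd xd10 yd10 zd14) (kd xd18 yd9 zd53) (kd xd28 yd6 zd20) (kd xd10 yd10 zd16) (kd xd28 yd6 zd24) (kd xd18 yd7 zd52) (kd xd18 yd7 zd51) (kd xd21 yd1 zd4) (kd xd28 yd6 zd28) (kd xd28 yd2 zd20) (kd xd28 yd3 zd23) (kd xd10 yd10 zd19) (kd xd15 yd51 zd42) (kd xd28 yd3 zd14) (kd xd26 yd20 zd7) (kd xd28 yd3 zd13) (kd xd28 yd6 zd31)) (@D3.rec (fun _ => Pt) (kd xd10 yd18 zd57) (kd xd28 yd6 zd32) (kd xd12 yd24 zd28) (kd xd17 yd58 zd7) (kd xd28 yd6 zd37) (kd xd28 yd6 zd39) (kd xd18 yd36 zd18) (kd xd28 yd6 zd40) (kd xd10 yd10 zd26) (kd xd28 yd6 zd41) (kd xd10 yd14 zd4) (kd xd23 yd43 zd10)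 (kd xd12 yd24 zd31) (kd xd10 yd14 zd7) (kd xd25 yd16 zd18) (kd xd22 yd5 zd34) (kd xd12 yd16 zd17) (kd xd28 yd6 zd48) (kd xd28 yd6 zd50) (kd xd28 yd6 zd53) (kd xd10 yd10 zd34) (kd xd26 yd17 zd19) (kd xd28 yd6 zd58) (kd xd27 yd54 zd19) (kd xd17 yd40 zd20) (kd xd27 yd47 zd49) (kd xd10 yd10 zd37) (kd xd28 yd6 zd61) (kd xd17 yd42 zd23) (kd xd10 yd10 zd38) (kd xd19 yd10 zd60) (kd xd20 yd26 zd1) (kd xd17 yd13 zd20) (kd xd10 yd11 zd59) (kd xd22 yd11 zd33) (kd xd18 yd42 zd45) (kd xd12 yd4 zd53) (kd xd21 yd26 zd45) (kd xd15 yd48 zd51) (kd xd21 yd26 zd53) (kd xd15 yd48 zd46) (kd xd14 yd57 zd11) (kd xd12 yd24 zd27) (kd xd17 yd13 zd23) (kd xd12 yd24 zd32) (kd xd17 yd13 zd25) (kd xd21 yd35 zd32) (kd xd18 yd33 zd42) (kd xd10 yd10 zd52) (kd xd27 yd38 zd0) (kd xd18 yd13 zd47) (kd xd28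 yd7 zd10) (kd xd28 yd7 zd12) (kd xd28 yd7 zd14) (kd xd10 yd10 zd56) (kd xd28 yd7 zd16) (kd xd28 yd7 zd18) (kd xd18 yd13 zd5) (kd xd18 yd13 zd4) (kd xd28 yd7 zd22) (kd xd10 yd10 zd60) (kd xd10 yd10 zd61)) (@D3.rec (fun _ => Pt) (kd xd18 yd34 zd33) (kd xd17 yd47 zd0) (kd xd12 yd43 zd47) (kd xd28 yd7 zd25) (kd xd25 yd1 zd39) (kd xd28 yd7 zd28) (kd xd10 yd11 zd2) (kd xd26 yd19 zd29) (kd xd10 yd12 zd21) (kd xd10 yd12 zd22) (kd xd28 yd7 zd35) (kd xd28 yd7 zd38) (kd xd10 yd11 zd4) (kd xd26 yd19 zd28) (kd xd22 yd34 zd60) (kd xd23 yd36 zd50) (kd xd10 yd11 zd5) (kd xd27 yd53 zd45) (kd xd28 yd7 zd43) (kd xd10 yd11 zd6) (kd xd28 yd7 zd45) (kd xd27 yd34 zd15) (kd xd11 yd0 zd0) (kd xd10 yd11 zd8) (kd xd10 yd11 zd9) (kd xd16 yd21 zd51) (kd xd24 yd48 zd37) (kd xd10 yd11 zd10) (kd xd25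 yd0 zd46) (kd xd19 yd12 zd36) (kd xd25 yd9 zd13) (kd xd28 yd7 zd53) (kd xd18 yd44 zd21) (kd xd10 yd11 zd12) (kd xd10 yd11 zd13) (kd xd18 yd57 zd35) (kd xd20 yd11 zd61) (kd xd10 yd11 zd17) (kd xd12 yd1 zd22) (kd xd18 yd49 zd48) (kd xd22 yd15 zd51) (kd xd17 yd30 zd20) (kd xd18 yd32 zd47) (kd xd28 yd7 zd60) (kd xd28 yd8 zd0) (kd xd18 yd35 zd2) (kd xd10 yd12 zd36) (kd xd17 yd6 zd26) (kd xd26 yd4 zd49) (kd xd28 yd8 zd1) (kd xd10 yd11 zd25) (kd xd22 yd5 zd33) (kd xd27 yd35 zd23) (kd xd10 yd11 zd28) (kd xd25 yd49 zd47) (kd xd11 yd7 zd27) (kd xd11 yd7 zd26) (kd xd28 yd4 zd45) (kd xd28 yd4 zd46) (kd xd28 yd8 zd7) (kd xd10 yd11 zd32) (kd xd18 yd31 zd34)) (@D3.rec (fun _ => Pt) (kd xd27 yd52 zd61) (kd xd28 yd8 zd13) (kd xd28 yd8 zd14) (kd xd10 yd11 zd34) (kd xd18 yd31 zd26) (kd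 xd28 yd8 zd16) (kd xd10 yd11 zd35) (kd xd28 yd8 zd18) (kd xd27 yd52 zd29) (kd xd27 yd52 zd30) (kd xd28 yd5 zd45) (kd xd10 yd11 zd39) (kd xd28 yd5 zd41) (kd xd18 yd26 zd13) (kd xd28 yd8 zd27) (kd xd28 yd5 zd42) (kd xd10 yd11 zd42) (kd xd28 yd8 zd31) (kd xd18 yd42 zd52) (kd xd28 yd8 zd35) (kd xd27 yd53 zd13) (kd xd28 yd8 zd40) (kd xd10 yd11 zd44) (kd xd28 yd8 zd43) (kd xd28 yd8 zd44) (kd xd28 yd8 zd46) (kd xd10 yd11 zd45) (kd xd27 yd52 zd52) (kd xd26 yd29 zd42) (kd xd10 yd11 zd46) (kd xd28 yd8 zd52) (kd xd10 yd11 zd47) (kd xd27 yd33 zd61) (kd xd18 yd33 zd0) (kd xd16 yd46 zd53) (kd xd10 yd11 zd49) (kd xd10 yd11 zd50) (kd xd27 yd49 zd20) (kd xd28 yd8 zd61) (kd xd10 yd11 zd51) (kd xd28 yd9 zd3) (kd xd10 yd11 zd53) (kd xd20 yd5 zd21) (kd xd18 yd31 zd4) (kd xd10 yd11 zd54)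 (kd xd18 yd31 zd3) (kd xd28 yd9 zd7) (kd xd27 yd53 zd20) (kd xd10 yd11 zd57) (kd xd28 yd9 zd11) (kd xd18 yd24 zd21) (kd xd26 yd31 zd18) (kd xd10 yd11 zd60) (kd xd28 yd9 zd12) (kd xd22 yd5 zd57) (kd xd10 yd12 zd0) (kd xd15 yd43 zd46) (kd xd28 yd9 zd15) (kd xd10 yd12 zd1) (kd xd12 yd59 zd54) (kd xd17 yd30 zd12) (kd xd28 yd9 zd17)) (@D3.rec (fun _ => Pt) (kd xd10 yd12 zd2) (kd xd17 yd42 zd30) (kd xd18 yd33 zd45) (kd xd28 yd9 zd18) (kd xd11 yd4 zd41) (kd xd10 yd49 zd11) (kd xd17 yd29 zd55) (kd xd10 yd12 zd12) (kd xd19 yd56 zd1) (kd xd10 yd12 zd14) (kd xd19 yd32 zd43) (kd xd11 yd46 zd3) (kd xd28 yd9 zd21) (kd xd10 yd12 zd17) (kd xd17 yd33 zd42) (kd xd10 yd12 zd20) (kd xd17 yd46 zd0) (kd xd18 yd28 zd53) (kd xd28 yd9 zd24) (kd xd10 yd12 zd23) (kd xd12 yd3 zd41) (kd xd17 yd47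 zd7) (kd xd28 yd9 zd25) (kd xd10 yd12 zd26) (kd xd17 yd47 zd3) (kd xd28 yd6 zd8) (kd xd27 yd34 zd0) (kd xd18 yd30 zd42) (kd xd18 yd20 zd10) (kd xd18 yd14 zd37) (kd xd28 yd9 zd31) (kd xd10 yd12 zd32) (kd xd19 yd20 zd32) (kd xd28 yd9 zd33) (kd xd10 yd12 zd35) (kd xd12 yd36 zd8) (kd xd28 yd9 zd35) (kd xd12 yd59 zd55) (kd xd17 yd13 zd33) (kd xd17 yd42 zd29) (kd xd17 yd13 zd36) (kd xd12 yd24 zd35) (kd xd12 yd24 zd29) (kd xd17 yd53 zd26) (kd xd26 yd29 zd55) (kd xd21 yd44 zd15) (kd xd10 yd12 zd51) (kd xd12 yd2 zd21) (kd xd22 yd51 zd46) (kd xd10 yd28 zd45) (kd xd10 yd12 zd52) (kd xd22 yd46 zd43) (kd xd27 yd16 zd39) (kd xd12 yd45 zd56) (kd xd16 yd53 zd31) (kd xd10 yd12 zd55) (kd xd10 yd12 zd56) (kd xd27 yd21 zd24) (kd xd12 yd0 zd41) (kd xd28 yd9 zd42) (kd xd28 yd9 zd43) (kd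 xd28 yd9 zd44)) (@D3.rec (fun _ => Pt) (kd xd17 yd25 zd45) (kd xd25 yd59 zd30) (kd xd28 yd9 zd46) (kd xd28 yd9 zd47) (kd xd10 yd13 zd1) (kd xd28 yd9 zd50) (kd xd10 yd13 zd2) (kd xd28 yd9 zd53) (kd xd23 yd7 zd54) (kd xd10 yd13 zd3) (kd xd17 yd14 zd38) (kd xd28 yd9 zd54) (kd xd22 yd52 zd14) (kd xd10 yd13 zd4) (kd xd17 yd53 zd27) (kd xd18 yd41 zd51) (kd xd28 yd9 zd55) (kd xd10 yd13 zd6) (kd xd18 yd32 zd6) (kd xd11 yd22 zd50) (kd xd12 yd18 zd58) (kd xd21 yd44 zd22) (kd xd12 yd1 zd15) (kd xd12 yd1 zd16) (kd xd22 yd46 zd44) (kd xd12 yd51 zd1) (kd xd10 yd13 zd16) (kd xd16 yd25 zd12) (kd xd21 yd15 zd21) (kd xd23 yd4 zd3) (kd xd23 yd18 zd17) (kd xd10 yd13 zd20) (kd xd12 yd20 zd31) (kd xd10 yd13 zd21) (kd xd17 yd50 zd41) (kd xd28 yd9 zd60) (kd xd10 yd13 zd22) (kd xd18 yd39 zd22)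 (kd xd10 yd13 zd26) (kd xd10 yd13 zd27) (kd xd23 yd40 zd56) (kd xd10 yd13 zd28) (kd xd16 yd23 zd19) (kd xd25 yd45 zd15) (kd xd26 yd55 zd18) (kd xd10 yd13 zd30) (kd xd10 yd13 zd31) (kd xd21 yd28 zd52) (kd xd22 yd16 zd53) (kd xd10 yd13 zd33) (kd xd23 yd8 zd56) (kd xd15 yd32 zd9) (kd xd21 yd28 zd51) (kd xd27 yd3 zd44) (kd xd21 yd28 zd37) (kd xd10 yd13 zd37) (kd xd25 yd0 zd60) (kd xd10 yd13 zd38) (kd xd28 yd3 zd54) (kd xd23 yd2 zd6) (kd xd10 yd13 zd39) (kd xd24 yd56 zd14)) (@D3.rec (fun _ => Pt) (kd xd13 yd37 zd17) (kd xd18 yd10 zd47) (kd xd18 yd27 zd22) (kd xd10 yd13 zd42) (kd xd23 yd22 zd5) (kd xd18 yd7 zd16) (kd xd12 yd58 zd55) (kd xd23 yd36 zd17) (kd xd27 yd29 zd39) (kd xd10 yd13 zd44) (kd xd27 yd48 zd32) (kd xd18 yd0 zd1) (kd xd10 yd13 zd45) (kd xd21 yd36 zd46) (kd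 xd10 yd13 zd47) (kd xd10 yd13 zd49) (kd xd10 yd13 zd51) (kd xd10 yd13 zd52) (kd xd16 yd7 zd55) (kd xd28 yd10 zd10) (kd xd10 yd13 zd53) (kd xd27 yd34 zd44) (kd xd18 yd24 zd33) (kd xd16 yd8 zd54) (kd xd15 yd38 zd35) (kd xd15 yd38 zd34) (kd xd10 yd13 zd55) (kd xd14 yd57 zd5) (kd xd10 yd13 zd56) (kd xd22 yd14 zd50) (kd xd13 yd37 zd15) (kd xd14 yd2 zd49) (kd xd14 yd2 zd48) (kd xd10 yd13 zd58) (kd xd21 yd31 zd25) (kd xd10 yd13 zd59) (kd xd27 yd51 zd12) (kd xd21 yd26 zd21) (kd xd10 yd13 zd60) (kd xd16 yd15 zd28) (kd xd18 yd5 zd13) (kd xd27 yd38 zd55) (kd xd10 yd14 zd2) (kd xd24 yd15 zd56) (kd xd18 yd20 zd43) (kd xd28 yd10 zd8) (kd xd10 yd14 zd5) (kd xd21 yd32 zd58) (kd xd11 yd19 zd14) (kd xd21 yd19 zd36) (kd xd18 yd22 zd15) (kd xd28 yd10 zd18) (kd xd20 yd53 zd0) (kd xd20 yd52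 zd61) (kd xd10 yd14 zd9) (kd xd14 yd46 zd50) (kd xd10 yd14 zd10) (kd xd20 yd16 zd18) (kd xd17 yd54 zd60) (kd xd21 yd51 zd19) (kd xd23 yd43 zd11) (kd xd17 yd50 zd22)) (@D3.rec (fun _ => Pt) (kd xd10 yd14 zd13) (kd xd27 yd12 zd27) (kd xd21 yd22 zd25) (kd xd11 yd45 zd50) (kd xd25 yd17 zd18) (kd xd27 yd46 zd3) (kd xd10 yd14 zd16) (kd xd18 yd43 zd16) (kd xd27 yd31 zd1) (kd xd10 yd14 zd17) (kd xd24 yd34 zd17) (kd xd28 yd7 zd7) (kd xd17 yd25 zd44) (kd xd19 yd7 zd53) (kd xd21 yd17 zd48) (kd xd21 yd17 zd49) (kd xd12 yd12 zd5) (kd xd12 yd52 zd56) (kd xd12 yd52 zd57) (kd xd21 yd18 zd8) (kd xd17 yd8 zd35) (kd xd12 yd27 zd55) (kd xd12 yd42 zd60) (kd xd10 yd14 zd29) (kd xd21 yd32 zd21) (kd xd11 yd51 zd1) (kd xd10 yd14 zd32) (kd xd12 yd56 zd34) (kd xd10 yd14 zd33) (kd xd11 yd24 zd0)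 (kd xd12 yd38 zd17) (kd xd14 yd59 zd28) (kd xd28 yd10 zd33) (kd xd10 yd14 zd37) (kd xd27 yd52 zd38) (kd xd27 yd53 zd40) (kd xd10 yd14 zd40) (kd xd10 yd54 zd22) (kd xd19 yd11 zd10) (kd xd10 yd46 zd34) (kd xd14 yd33 zd44) (kd xd23 yd19 zd49) (kd xd28 yd10 zd38) (kd xd10 yd14 zd48) (kd xd18 yd54 zd33) (kd xd28 yd10 zd40) (kd xd27 yd10 zd6) (kd xd28 yd10 zd43) (kd xd28 yd10 zd45) (kd xd28 yd10 zd46) (kd xd10 yd14 zd57) (kd xd28 yd10 zd48) (kd xd23 yd21 zd49) (kd xd23 yd21 zd42) (kd xd10 yd14 zd58) (kd xd28 yd10 zd51) (kd xd21 yd57 zd3) (kd xd10 yd14 zd59) (kd xd26 yd9 zd0) (kd xd10 yd14 zd60) (kd xd15 yd6 zd16) (kd xd10 yd26 zd46)) (@D3.rec (fun _ => Pt) (kd xd28 yd10 zd56) (kd xd10 yd15 zd0) (kd xd24 yd59 zd21) (kd xd28 yd10 zd59) (kd xd10 yd15 zd2) (kd xd28 yd11 zd0)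 (kd xd10 yd15 zd3) (kd xd25 yd25 zd19) (kd xd28 yd11 zd2) (kd xd10 yd35 zd50) (kd xd18 yd26 zd14) (kd xd13 yd47 zd15) (kd xd19 yd1 zd54) (kd xd19 yd1 zd57) (kd xd14 yd58 zd37) (kd xd12 yd2 zd24) (kd xd12 yd47 zd5) (kd xd18 yd49 zd60) (kd xd27 yd36 zd32) (kd xd10 yd15 zd14) (kd xd10 yd15 zd15) (kd xd12 yd59 zd5) (kd xd18 yd36 zd37) (kd xd10 yd15 zd16) (kd xd16 yd18 zd7) (kd xd23 yd15 zd58) (kd xd21 yd34 zd54) (kd xd23 yd15 zd59) (kd xd10 yd15 zd18) (kd xd21 yd7 zd28) (kd xd10 yd15 zd21) (kd xd28 yd11 zd17) (kd xd22 yd17 zd48) (kd xd16 yd35 zd39) (kd xd10 yd15 zd25) (kd xd21 yd51 zd27) (kd xd10 yd15 zd26) (kd xd13 yd1 zd23) (kd xd10 yd15 zd28) (kd xd16 yd52 zd12) (kd xd26 yd49 zd2) (kd xd26 yd5 zd43) (kd xd11 yd5 zd57) (kd xd11 yd5 zd49) (kd xd18 yd58 zd25) (kd xd16 yd22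 zd1) (kd xd20 yd12 zd22) (kd xd10 yd15 zd35) (kd xd20 yd22 zd6) (kd xd23 yd47 zd41) (kd xd10 yd15 zd37) (kd xd10 yd38 zd56) (kd xd10 yd15 zd40) (kd xd16 yd12 zd42) (kd xd16 yd12 zd43) (kd xd26 yd9 zd22) (kd xd18 yd54 zd38) (kd xd16 yd28 zd3) (kd xd16 yd28 zd4) (kd xd28 yd0 zd30) (kd xd26 yd1 zd18) (kd xd10 yd15 zd46)) (@D3.rec (fun _ => Pt) (kd xd16 yd10 zd12) (kd xd16 yd10 zd13) (kd xd26 yd6 zd56) (kd xd10 yd15 zd50) (kd xd24 yd41 zd25) (kd xd28 yd11 zd32) (kd xd10 yd15 zd51) (kd xd26 yd3 zd11) (kd xd10 yd15 zd52) (kd xd12 yd55 zd39) (kd xd14 yd48 zd12) (kd xd20 yd13 zd60) (kd xd28 yd11 zd41) (kd xd23 yd29 zd26) (kd xd23 yd29 zd27) (kd xd10 yd15 zd54) (kd xd23 yd26 zd12) (kd xd28 yd11 zd46) (kd xd10 yd15 zd55) (kd xd28 yd11 zd50) (kd xd28 yd11 zd53) (kd xd10 yd15 zd56)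 (kd xd25 yd49 zd41) (kd xd25 yd9 zd11) (kd xd24 yd42 zd19) (kd xd10 yd15 zd58) (kd xd28 yd12 zd1) (kd xd10 yd15 zd59) (kd xd10 yd16 zd0) (kd xd28 yd12 zd5) (kd xd10 yd16 zd2) (kd xd15 yd23 zd53) (kd xd15 yd23 zd54) (kd xd28 yd3 zd5) (kd xd28 yd12 zd8) (kd xd28 yd0 zd2) (kd xd18 yd56 zd36) (kd xd10 yd16 zd6) (kd xd28 yd12 zd11) (kd xd24 yd57 zd44) (kd xd27 yd44 zd26) (kd xd24 yd57 zd47) (kd xd10 yd16 zd10) (kd xd10 yd16 zd11) (kd xd13 yd43 zd48) (kd xd28 yd12 zd15) (kd xd28 yd12 zd16) (kd xd26 yd27 zd4) (kd xd12 yd23 zd15) (kd xd28 yd12 zd19) (kd xd13 yd31 zd28) (kd xd28 yd12 zd21) (kd xd28 yd12 zd22) (kd xd16 yd28 zd59) (kd xd16 yd9 zd58) (kd xd16 yd9 zd59) (kd xd22 yd32 zd40) (kd xd23 yd38 zd26) (kd xd28 yd12 zd29) (kd xd10 yd16 zd20) (kd xd21 yd29 zd44) (kd xd21 yd29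 zd41)) (@D3.rec (fun _ => Pt) (kd xd10 yd16 zd21) (kd xd24 yd58 zd57) (kd xd25 yd52 zd6) (kd xd28 yd12 zd35) (kd xd10 yd16 zd22) (kd xd28 yd12 zd36) (kd xd11 yd23 zd8) (kd xd11 yd23 zd3) (kd xd20 yd6 zd10) (kd xd26 yd38 zd33) (kd xd16 yd29 zd18) (kd xd12 yd46 zd41) (kd xd21 yd54 zd41) (kd xd10 yd16 zd27) (kd xd28 yd12 zd43) (kd xd26 yd19 zd56) (kd xd26 yd19 zd57) (kd xd10 yd16 zd29) (kd xd19 yd1 zd40) (kd xd22 yd56 zd41) (kd xd16 yd24 zd26) (kd xd22 yd46 zd33) (kd xd10 yd16 zd32) (kd xd16 yd1 zd0) (kd xd28 yd12 zd50) (kd xd10 yd16 zd34) (kd xd21 yd11 zd48) (kd xd10 yd16 zd37) (kd xd18 yd56 zd17) (kd xd28 yd12 zd54) (kd xd20 yd6 zd6) (kd xd28 yd12 zd56) (kd xd17 yd45 zd50) (kd xd20 yd17 zd19) (kd xd20 yd6 zd11) (kd xd19 yd3 zd16) (kd xd19 yd9 zd49) (kd xd10 yd16 zd50)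 (kd xd20 yd6 zd12) (kd xd12 yd2 zd14) (kd xd19 yd10 zd57) (kd xd12 yd38 zd21) (kd xd12 yd38 zd22) (kd xd20 yd29 zd46) (kd xd12 yd1 zd17) (kd xd13 yd10 zd46) (kd xd22 yd59 zd60) (kd xd17 yd12 zd61) (kd xd20 yd31 zd22) (kd xd28 yd13 zd3) (kd xd23 yd3 zd41) (kd xd18 yd36 zd15) (kd xd10 yd16 zd58) (kd xd16 yd44 zd40) (kd xd10 yd17 zd3) (kd xd19 yd42 zd3) (kd xd25 yd6 zd6) (kd xd11 yd20 zd46) (kd xd11 yd20 zd45) (kd xd11 yd58 zd28) (kd xd27 yd10 zd36) (kd xd27 yd16 zd37)) (@D3.rec (fun _ => Pt) (kd xd17 yd54 zd20) (kd xd23 yd53 zd13) (kd xd10 yd17 zd10) (kd xd10 yd17 zd11) (kd xd17 yd22 zd49) (kd xd16 yd29 zd39) (kd xd19 yd7 zd52) (kd xd28 yd13 zd12) (kd xd10 yd17 zd13) (kd xd19 yd17 zd35) (kd xd26 yd53 zd23) (kd xd16 yd59 zd51) (kd xd17 yd3 zd4) (kd xd11 yd28 zd40) (kd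 xd10 yd17 zd51) (kd xd10 yd17 zd21) (kd xd20 yd25 zd54) (kd xd17 yd18 zd43) (kd xd11 yd58 zd34) (kd xd18 yd23 zd8) (kd xd16 yd3 zd29) (kd xd28 yd13 zd14) (kd xd10 yd17 zd30) (kd xd10 yd22 zd30) (kd xd23 yd25 zd28) (kd xd23 yd32 zd23) (kd xd10 yd17 zd31) (kd xd28 yd13 zd16) (kd xd15 yd49 zd49) (kd xd14 yd39 zd16) (kd xd16 yd9 zd60) (kd xd28 yd13 zd20) (kd xd28 yd13 zd22) (kd xd28 yd13 zd24) (kd xd10 yd17 zd34) (kd xd28 yd13 zd28) (kd xd28 yd13 zd29) (kd xd28 yd13 zd31) (kd xd10 yd17 zd35) (kd xd16 yd8 zd37) (kd xd25 yd16 zd24) (kd xd28 yd13 zd35) (kd xd28 yd12 zd32) (kd xd26 yd8 zd39) (kd xd10 yd17 zd38) (kd xd18 yd32 zd35) (kd xd17 yd9 zd47) (kd xd27 yd59 zd39) (kd xd28 yd13 zd39) (kd xd16 yd29 zd37) (kd xd27 yd54 zd56) (kd xd27 yd52 zd56) (kd xd18 yd34 zd18) (kd xd12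 yd10 zd42) (kd xd20 yd17 zd8) (kd xd10 yd17 zd48) (kd xd18 yd12 zd1) (kd xd11 yd14 zd36) (kd xd11 yd13 zd59) (kd xd20 yd28 zd42) (kd xd16 yd46 zd60) (kd xd20 yd27 zd55)) (@D3.rec (fun _ => Pt) (kd xd11 yd20 zd58) (kd xd18 yd23 zd57) (kd xd19 yd51 zd27) (kd xd11 yd22 zd35) (kd xd11 yd50 zd28) (kd xd20 yd35 zd61) (kd xd12 yd9 zd28) (kd xd10 yd18 zd0) (kd xd23 yd25 zd49) (kd xd20 yd26 zd30) (kd xd10 yd18 zd3) (kd xd10 yd18 zd4) (kd xd20 yd20 zd50) (kd xd18 yd23 zd42) (kd xd17 yd8 zd33) (kd xd26 yd43 zd61) (kd xd18 yd38 zd7) (kd xd17 yd58 zd54) (kd xd18 yd1 zd46) (kd xd18 yd1 zd52) (kd xd16 yd7 zd15) (kd xd27 yd16 zd41) (kd xd10 yd18 zd25) (kd xd28 yd13 zd56) (kd xd21 yd31 zd58) (kd xd26 yd44 zd8) (kd xd11 yd50 zd29) (kd xd18 yd12 zd42) (kd xd10 yd58 zd52) (kd xd10 yd45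 zd2) (kd xd21 yd9 zd32) (kd xd16 yd55 zd39) (kd xd24 yd53 zd7) (kd xd15 yd5 zd20) (kd xd17 yd14 zd59) (kd xd26 yd50 zd51) (kd xd17 yd6 zd18) (kd xd24 yd53 zd14) (kd xd21 yd37 zd44) (kd xd24 yd23 zd24) (kd xd21 yd51 zd5) (kd xd10 yd18 zd41) (kd xd11 yd49 zd59) (kd xd16 yd48 zd54) (kd xd18 yd15 zd44) (kd xd17 yd48 zd21) (kd xd12 yd56 zd36) (kd xd15 yd30 zd14) (kd xd12 yd25 zd37) (kd xd27 yd42 zd47) (kd xd17 yd51 zd22) (kd xd16 yd13 zd48) (kd xd10 yd18 zd59) (kd xd13 yd0 zd28) (kd xd16 yd57 zd12) (kd xd11 yd49 zd60) (kd xd11 yd49 zd61) (kd xd20 yd25 zd10) (kd xd25 yd55 zd16) (kd xd25 yd55 zd17) (kd xd26 yd23 zd43) (kd xd10 yd19 zd10)) (@D3.rec (fun _ => Pt) (kd xd18 yd52 zd19) (kd xd28 yd14 zd2) (kd xd10 yd19 zd12) (kd xd28 yd14 zd4) (kd xd28 yd14 zd5) (kd xd28 yd14 zd6)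 (kd xd10 yd19 zd13) (kd xd13 yd45 zd26) (kd xd10 yd19 zd14) (kd xd16 yd44 zd7) (kd xd16 yd44 zd8) (kd xd28 yd14 zd14) (kd xd15 yd57 zd7) (kd xd28 yd14 zd18) (kd xd28 yd14 zd20) (kd xd15 yd3 zd31) (kd xd10 yd19 zd17) (kd xd15 yd56 zd10) (kd xd15 yd30 zd52) (kd xd16 yd0 zd45) (kd xd28 yd14 zd22) (kd xd18 yd33 zd32) (kd xd10 yd19 zd22) (kd xd28 yd14 zd26) (kd xd27 yd22 zd55) (kd xd10 yd19 zd23) (kd xd28 yd14 zd31) (kd xd10 yd19 zd24) (kd xd10 yd46 zd37) (kd xd21 yd29 zd4) (kd xd11 yd50 zd16) (kd xd10 yd46 zd15) (kd xd10 yd47 zd24) (kd xd18 yd47 zd28) (kd xd15 yd36 zd21) (kd xd15 yd56 zd40) (kd xd26 yd45 zd19) (kd xd10 yd24 zd6) (kd xd18 yd2 zd40) (kd xd18 yd47 zd19) (kd xd18 yd47 zd20) (kd xd21 yd9 zd41) (kd xd10 yd19 zd30) (kd xd11 yd45 zd30) (kd xd22 yd36 zd58) (kd xd10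 yd19 zd32) (kd xd14 yd34 zd12) (kd xd19 yd12 zd45) (kd xd28 yd14 zd37) (kd xd28 yd14 zd38) (kd xd20 yd46 zd43) (kd xd10 yd19 zd35) (kd xd28 yd14 zd44) (kd xd27 yd2 zd23) (kd xd21 yd38 zd40) (kd xd10 yd19 zd37) (kd xd28 yd14 zd48) (kd xd10 yd42 zd57) (kd xd19 yd43 zd27) (kd xd24 yd25 zd38) (kd xd28 yd14 zd49) (kd xd10 yd19 zd40)) (@D3.rec (fun _ => Pt) (kd xd22 yd58 zd0) (kd xd25 yd46 zd61) (kd xd10 yd19 zd42) (kd xd27 yd16 zd54) (kd xd25 yd52 zd17) (kd xd20 yd31 zd37) (kd xd20 yd45 zd16) (kd xd25 yd18 zd30) (kd xd14 yd13 zd12) (kd xd20 yd31 zd40) (kd xd28 yd15 zd2) (kd xd23 yd0 zd3) (kd xd10 yd19 zd44) (kd xd28 yd15 zd5) (kd xd10 yd19 zd45) (kd xd10 yd41 zd26) (kd xd25 yd16 zd7) (kd xd18 yd52 zd5) (kd xd28 yd15 zd10) (kd xd15 yd50 zd52) (kd xd10 yd32 zd9) (kd xd18 yd52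 zd12) (kd xd10 yd19 zd50) (kd xd18 yd7 zd19) (kd xd18 yd7 zd20) (kd xd21 yd37 zd32) (kd xd15 yd12 zd38) (kd xd18 yd27 zd61) (kd xd17 yd23 zd21) (kd xd25 yd52 zd13) (kd xd10 yd19 zd59) (kd xd26 yd45 zd18) (kd xd15 yd51 zd25) (kd xd25 yd52 zd15) (kd xd25 yd52 zd16) (kd xd11 yd34 zd15) (kd xd12 yd54 zd21) (kd xd20 yd19 zd9) (kd xd22 yd38 zd51) (kd xd22 yd38 zd58) (kd xd26 yd22 zd3) (kd xd19 yd23 zd42) (kd xd17 yd43 zd40) (kd xd20 yd31 zd35) (kd xd26 yd11 zd33) (kd xd28 yd15 zd24) (kd xd10 yd20 zd50) (kd xd10 yd20 zd51) (kd xd21 yd1 zd31) (kd xd10 yd20 zd48) (kd xd22 yd15 zd32) (kd xd13 yd44 zd59) (kd xd22 yd24 zd36) (kd xd14 yd13 zd25) (kd xd25 yd26 zd24) (kd xd25 yd26 zd26) (kd xd28 yd15 zd33) (kd xd10 yd20 zd18) (kd xd27 yd52 zd17) (kd xd26 yd32 zd1) (kd xd10 yd20 zd20)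 (kd xd15 yd16 zd24)) (@D3.rec (fun _ => Pt) (kd xd12 yd44 zd52) (kd xd12 yd44 zd48) (kd xd21 yd51 zd47) (kd xd28 yd15 zd47) (kd xd10 yd20 zd25) (kd xd24 yd1 zd49) (kd xd22 yd39 zd57) (kd xd10 yd20 zd28) (kd xd28 yd15 zd52) (kd xd28 yd15 zd53) (kd xd10 yd20 zd30) (kd xd26 yd40 zd54) (kd xd18 yd49 zd61) (kd xd10 yd20 zd32) (kd xd10 yd38 zd59) (kd xd10 yd21 zd9) (kd xd10 yd21 zd10) (kd xd25 yd46 zd2) (kd xd19 yd3 zd35) (kd xd10 yd38 zd58) (kd xd10 yd20 zd35) (kd xd19 yd12 zd35) (kd xd10 yd20 zd37) (kd xd18 yd54 zd36) (kd xd25 yd30 zd52) (kd xd15 yd44 zd9) (kd xd25 yd36 zd43) (kd xd26 yd44 zd39) (kd xd26 yd0 zd11) (kd xd28 yd16 zd0) (kd xd10 yd20 zd42) (kd xd26 yd33 zd51) (kd xd15 yd37 zd6) (kd xd24 yd13 zd44) (kd xd28 yd16 zd5) (kd xd10 yd20 zd44) (kd xd28 yd16 zd3) (kd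 xd21 yd8 zd61) (kd xd20 yd11 zd57) (kd xd28 yd16 zd12) (kd xd10 yd20 zd49) (kd xd22 yd32 zd44) (kd xd28 yd16 zd16) (kd xd22 yd25 zd30) (kd xd28 yd15 zd25) (kd xd28 yd16 zd19) (kd xd28 yd16 zd20) (kd xd12 yd36 zd31) (kd xd27 yd12 zd44) (kd xd28 yd16 zd25) (kd xd10 yd20 zd54) (kd xd28 yd16 zd29) (kd xd18 yd9 zd2) (kd xd28 yd16 zd30) (kd xd28 yd16 zd31) (kd xd27 yd2 zd22) (kd xd28 yd16 zd33) (kd xd10 yd20 zd57) (kd xd10 yd20 zd58) (kd xd10 yd53 zd37) (kd xd10 yd24 zd39) (kd xd13 yd41 zd17)) (@D3.rec (fun _ => Pt) (kd xd28 yd16 zd44) (kd xd10 yd20 zd60) (kd xd28 yd16 zd46) (kd xd10 yd20 zd61) (kd xd10 yd21 zd1) (kd xd28 yd15 zd35) (kd xd28 yd15 zd36) (kd xd28 yd16 zd49) (kd xd10 yd21 zd3) (kd xd28 yd6 zd18) (kd xd28 yd7 zd56) (kd xd10 yd21 zd5) (kd xd18 yd17 zd41) (kd xd19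 yd43 zd37) (kd xd28 yd16 zd58) (kd xd16 yd54 zd11) (kd xd28 yd16 zd60) (kd xd10 yd21 zd11) (kd xd24 yd38 zd48) (kd xd18 yd44 zd39) (kd xd18 yd44 zd40) (kd xd17 yd33 zd50) (kd xd27 yd14 zd12) (kd xd28 yd17 zd7) (kd xd28 yd17 zd8) (kd xd10 yd21 zd13) (kd xd28 yd17 zd11) (kd xd17 yd20 zd13) (kd xd18 yd44 zd33) (kd xd28 yd17 zd13) (kd xd10 yd21 zd15) (kd xd10 yd39 zd7) (kd xd17 yd25 zd56) (kd xd10 yd24 zd50) (kd xd10 yd24 zd49) (kd xd25 yd30 zd43) (kd xd10 yd21 zd18) (kd xd19 yd42 zd0) (kd xd10 yd28 zd28) (kd xd10 yd21 zd22) (kd xd24 yd21 zd49) (kd xd24 yd25 zd41) (kd xd10 yd28 zd27) (kd xd10 yd21 zd23) (kd xd10 yd21 zd24) (kd xd28 yd17 zd20) (kd xd23 yd24 zd0) (kd xd25 yd46 zd50) (kd xd28 yd17 zd22) (kd xd22 yd39 zd39) (kd xd10 yd21 zd26) (kd xd28 yd17 zd25) (kd xd18 yd20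 zd34) (kd xd28 yd17 zd26) (kd xd28 yd17 zd28) (kd xd27 yd2 zd10) (kd xd10 yd24 zd33) (kd xd18 yd20 zd22) (kd xd28 yd17 zd34) (kd xd10 yd21 zd30) (kd xd21 yd9 zd19) (kd xd10 yd21 zd31)) (@D3.rec (fun _ => Pt) (kd xd20 yd11 zd46) (kd xd10 yd21 zd32) (kd xd28 yd17 zd38) (kd xd10 yd21 zd33) (kd xd14 yd27 zd50) (kd xd18 yd26 zd25) (kd xd18 yd26 zd26) (kd xd28 yd17 zd40) (kd xd25 yd48 zd23) (kd xd28 yd17 zd43) (kd xd10 yd21 zd35) (kd xd14 yd27 zd51) (kd xd24 yd1 zd48) (kd xd28 yd17 zd45) (kd xd25 yd46 zd60) (kd xd10 yd24 zd53) (kd xd28 yd17 zd48) (kd xd10 yd21 zd38) (kd xd28 yd17 zd50) (kd xd10 yd21 zd40) (kd xd28 yd17 zd53) (kd xd18 yd20 zd36) (kd xd10 yd58 zd16) (kd xd28 yd17 zd55) (kd xd10 yd21 zd43) (kd xd28 yd17 zd56) (kd xd10 yd21 zd42) (kd xd28 yd17 zd58) (kd xd17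 yd31 zd40) (kd xd22 yd20 zd56) (kd xd10 yd58 zd17) (kd xd25 yd48 zd14) (kd xd10 yd21 zd46) (kd xd21 yd54 zd33) (kd xd18 yd55 zd26) (kd xd23 yd42 zd33) (kd xd21 yd16 zd14) (kd xd26 yd39 zd60) (kd xd10 yd21 zd49) (kd xd26 yd39 zd59) (kd xd21 yd54 zd34) (kd xd28 yd18 zd5) (kd xd28 yd18 zd7) (kd xd18 yd55 zd38) (kd xd28 yd18 zd9) (kd xd10 yd21 zd52) (kd xd24 yd29 zd10) (kd xd20 yd59 zd34) (kd xd28 yd18 zd15) (kd xd27 yd8 zd10) (kd xd18 yd54 zd15) (kd xd15 yd56 zd29) (kd xd28 yd18 zd18) (kd xd24 yd15 zd1) (kd xd10 yd21 zd57) (kd xd23 yd53 zd41) (kd xd10 yd21 zd58) (kd xd13 yd36 zd14) (kd xd10 yd21 zd59) (kd xd10 yd21 zd61) (kd xd28 yd18 zd22) (kd xd10 yd22 zd0)) (@D3.rec (fun _ => Pt) (kd xd18 yd22 zd27) (kd xd23 yd51 zd10) (kd xd10 yd22 zd1) (kd xd27 yd11 zd18) (kd xd27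 yd9 zd7) (kd xd28 yd18 zd32) (kd xd20 yd44 zd25) (kd xd10 yd22 zd3) (kd xd18 yd54 zd13) (kd xd28 yd18 zd35) (kd xd10 yd22 zd6) (kd xd28 yd18 zd36) (kd xd10 yd22 zd7) (kd xd28 yd18 zd40) (kd xd20 yd6 zd4) (kd xd12 yd6 zd30) (kd xd22 yd47 zd15) (kd xd10 yd22 zd10) (kd xd22 yd41 zd44) (kd xd10 yd22 zd13) (kd xd19 yd0 zd60) (kd xd10 yd22 zd15) (kd xd28 yd18 zd46) (kd xd10 yd22 zd16) (kd xd20 yd39 zd13) (kd xd23 yd3 zd49) (kd xd10 yd22 zd18) (kd xd28 yd2 zd27) (kd xd22 yd23 zd57) (kd xd17 yd16 zd49) (kd xd18 yd15 zd52) (kd xd21 yd12 zd30) (kd xd10 yd22 zd25) (kd xd13 yd49 zd31) (kd xd25 yd3 zd7) (kd xd10 yd22 zd26) (kd xd18 yd22 zd47) (kd xd13 yd49 zd40) (kd xd19 yd0 zd61) (kd xd15 yd10 zd60) (kd xd16 yd34 zd53) (kd xd16 yd34 zd52) (kd xd18 yd53 zd49) (kd xd23 yd25 zd34)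 (kd xd28 yd2 zd28) (kd xd23 yd13 zd52) (kd xd10 yd22 zd36) (kd xd10 yd22 zd38) (kd xd18 yd33 zd39) (kd xd17 yd14 zd27) (kd xd22 yd25 zd32) (kd xd27 yd43 zd6) (kd xd18 yd0 zd46) (kd xd19 yd49 zd3) (kd xd28 yd18 zd53) (kd xd10 yd22 zd42) (kd xd22 yd32 zd45) (kd xd20 yd46 zd37) (kd xd10 yd22 zd43) (kd xd22 yd40 zd1) (kd xd18 yd39 zd17) (kd xd18 yd46 zd12)) (@D3.rec (fun _ => Pt) (kd xd10 yd22 zd46) (kd xd28 yd18 zd56) (kd xd28 yd18 zd57) (kd xd10 yd22 zd45) (kd xd28 yd18 zd60) (kd xd24 yd13 zd11) (kd xd21 yd38 zd51) (kd xd10 yd22 zd49) (kd xd18 yd20 zd29) (kd xd21 yd37 zd20) (kd xd10 yd22 zd51) (kd xd21 yd36 zd18) (kd xd17 yd42 zd31) (kd xd10 yd22 zd56) (kd xd10 yd22 zd57) (kd xd22 yd35 zd49) (kd xd21 yd54 zd31) (kd xd28 yd19 zd2) (kd xd24 yd12 zd35) (kd xd10 yd22 zd59)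 (kd xd24 yd13 zd12) (kd xd12 yd58 zd11) (kd xd10 yd22 zd60) (kd xd10 yd22 zd61) (kd xd28 yd19 zd6) (kd xd21 yd44 zd44) (kd xd10 yd23 zd2) (kd xd21 yd49 zd52) (kd xd21 yd17 zd52) (kd xd19 yd48 zd0) (kd xd19 yd48 zd47) (kd xd17 yd31 zd38) (kd xd10 yd23 zd5) (kd xd21 yd33 zd7) (kd xd21 yd17 zd54) (kd xd10 yd23 zd7) (kd xd26 yd50 zd30) (kd xd21 yd38 zd56) (kd xd12 yd44 zd0) (kd xd10 yd23 zd9) (kd xd18 yd16 zd19) (kd xd16 yd51 zd45) (kd xd28 yd19 zd9) (kd xd27 yd31 zd35) (kd xd10 yd23 zd11) (kd xd11 yd45 zd17) (kd xd10 yd23 zd12) (kd xd28 yd19 zd11) (kd xd10 yd23 zd13) (kd xd27 yd22 zd11) (kd xd28 yd19 zd13) (kd xd17 yd6 zd28) (kd xd11 yd51 zd25) (kd xd10 yd23 zd17) (kd xd17 yd33 zd12) (kd xd22 yd4 zd54) (kd xd23 yd3 zd61) (kd xd27 yd36 zd18) (kd xd27 yd36 zd19) (kd xd28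 yd19 zd17) (kd xd10 yd23 zd22) (kd xd26 yd54 zd61)) (@D3.rec (fun _ => Pt) (kd xd10 yd23 zd25) (kd xd28 yd16 zd2) (kd xd24 yd14 zd14) (kd xd25 yd26 zd32) (kd xd28 yd19 zd19) (kd xd10 yd23 zd26) (kd xd28 yd19 zd22) (kd xd21 yd27 zd23) (kd xd10 yd23 zd28) (kd xd28 yd18 zd19) (kd xd10 yd23 zd29) (kd xd28 yd19 zd27) (kd xd10 yd23 zd30) (kd xd28 yd19 zd28) (kd xd10 yd23 zd31) (kd xd16 yd42 zd54) (kd xd16 yd42 zd55) (kd xd19 yd9 zd1) (kd xd14 yd32 zd3) (kd xd15 yd33 zd19) (kd xd28 yd19 zd36) (kd xd15 yd1 zd49) (kd xd28 yd19 zd42) (kd xd25 yd43 zd26) (kd xd25 yd43 zd35) (kd xd15 yd33 zd12) (kd xd25 yd36 zd41) (kd xd15 yd59 zd29) (kd xd25 yd59 zd54) (kd xd19 yd37 zd53) (kd xd10 yd51 zd29) (kd xd18 yd54 zd44) (kd xd18 yd54 zd45) (kd xd28 yd19 zd49) (kd xd10 yd23 zd40) (kd xd18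 yd54 zd28) (kd xd18 yd54 zd29) (kd xd28 yd19 zd56) (kd xd10 yd23 zd42) (kd xd19 yd42 zd11) (kd xd16 yd46 zd49) (kd xd17 yd22 zd53) (kd xd28 yd19 zd50) (kd xd28 yd19 zd51) (kd xd28 yd19 zd60) (kd xd10 yd23 zd45) (kd xd10 yd47 zd39) (kd xd28 yd20 zd0) (kd xd28 yd20 zd1) (kd xd13 yd34 zd31) (kd xd10 yd23 zd49) (kd xd13 yd18 zd17) (kd xd28 yd20 zd5) (kd xd28 yd0 zd47) (kd xd27 yd15 zd27) (kd xd20 yd31 zd32) (kd xd10 yd23 zd52) (kd xd27 yd6 zd10) (kd xd28 yd20 zd12) (kd xd28 yd20 zd13) (kd xd20 yd31 zd33) (kd xd10 yd23 zd53)) (@D3.rec (fun _ => Pt) (kd xd14 yd13 zd30) (kd xd10 yd23 zd54) (kd xd27 yd45 zd57) (kd xd19 yd51 zd0) (kd xd20 yd32 zd20) (kd xd18 yd45 zd17) (kd xd10 yd23 zd56) (kd xd28 yd20 zd24) (kd xd15 yd32 zd10) (kd xd10 yd24 zd26) (kd xd16 yd45 zd24) (kd xd17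 yd18 zd21) (kd xd18 yd45 zd21) (kd xd28 yd20 zd28) (kd xd10 yd23 zd61) (kd xd25 yd29 zd27) (kd xd22 yd53 zd25) (kd xd28 yd20 zd29) (kd xd10 yd24 zd0) (kd xd18 yd44 zd0) (kd xd15 yd50 zd43) (kd xd16 yd22 zd5) (kd xd15 yd50 zd54) (kd xd25 yd18 zd38) (kd xd25 yd26 zd7) (kd xd25 yd24 zd57) (kd xd27 yd18 zd33) (kd xd10 yd24 zd5) (kd xd19 yd46 zd20) (kd xd15 yd35 zd4) (kd xd17 yd45 zd47) (kd xd18 yd27 zd19) (kd xd23 yd0 zd51) (kd xd25 yd26 zd0) (kd xd25 yd25 zd0) (kd xd26 yd3 zd47) (kd xd10 yd24 zd15) (kd xd15 yd36 zd50) (kd xd17 yd48 zd61) (kd xd16 yd13 zd38) (kd xd17 yd22 zd1) (kd xd19 yd37 zd51) (kd xd28 yd20 zd36) (kd xd28 yd20 zd38) (kd xd23 yd32 zd21) (kd xd10 yd24 zd22) (kd xd22 yd2 zd8) (kd xd28 yd20 zd41) (kd xd22 yd6 zd40) (kd xd23 yd32 zd18) (kd xd10 yd24 zd23)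 (kd xd28 yd20 zd44) (kd xd20 yd59 zd3) (kd xd20 yd59 zd4) (kd xd19 yd44 zd60) (kd xd15 yd40 zd4) (kd xd13 yd34 zd10) (kd xd10 yd24 zd28) (kd xd10 yd24 zd29) (kd xd10 yd24 zd30) (kd xd28 yd20 zd17) (kd xd28 yd20 zd16)) (@D3.rec (fun _ => Pt) (kd xd22 yd53 zd12) (kd xd10 yd24 zd31) (kd xd28 yd17 zd29) (kd xd28 yd17 zd30) (kd xd27 yd6 zd58) (kd xd22 yd7 zd19) (kd xd28 yd2 zd47) (kd xd27 yd7 zd27) (kd xd12 yd32 zd36) (kd xd25 yd26 zd41) (kd xd25 yd26 zd42) (kd xd28 yd20 zd56) (kd xd10 yd24 zd37) (kd xd28 yd16 zd36) (kd xd28 yd16 zd38) (kd xd28 yd14 zd46) (kd xd25 yd25 zd37) (kd xd25 yd25 zd38) (kd xd23 yd11 zd48) (kd xd10 yd24 zd40) (kd xd28 yd21 zd6) (kd xd10 yd24 zd42) (kd xd13 yd35 zd60) (kd xd23 yd2 zd4) (kd xd10 yd24 zd43) (kd xd28 yd16 zd26) (kd xd28 yd21 zd13) (kd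 xd23 yd2 zd5) (kd xd10 yd24 zd44) (kd xd19 yd39 zd25) (kd xd10 yd24 zd45) (kd xd23 yd0 zd59) (kd xd10 yd25 zd15) (kd xd10 yd25 zd16) (kd xd28 yd21 zd21) (kd xd19 yd45 zd22) (kd xd24 yd0 zd48) (kd xd10 yd24 zd47) (kd xd25 yd47 zd25) (kd xd25 yd59 zd15) (kd xd26 yd58 zd15) (kd xd28 yd17 zd15) (kd xd28 yd18 zd33) (kd xd28 yd17 zd46) (kd xd27 yd32 zd53) (kd xd27 yd32 zd54) (kd xd17 yd46 zd32) (kd xd17 yd50 zd49) (kd xd19 yd6 zd29) (kd xd18 yd49 zd42) (kd xd10 yd24 zd59) (kd xd28 yd21 zd35) (kd xd17 yd45 zd51) (kd xd10 yd24 zd60) (kd xd10 yd36 zd7) (kd xd18 yd56 zd56) (kd xd10 yd24 zd61) (kd xd28 yd21 zd40) (kd xd10 yd25 zd0) (kd xd16 yd40 zd58) (kd xd10 yd25 zd31) (kd xd10 yd25 zd32)) (@D3.rec (fun _ => Pt) (kd xd22 yd20 zd29) (kd xd25 yd47 zd35) (kd xd28 yd21 zd53) (kd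 xd28 yd15 zd43) (kd xd10 yd25 zd2) (kd xd16 yd40 zd40) (kd xd10 yd43 zd9) (kd xd10 yd43 zd11) (kd xd26 yd43 zd39) (kd xd18 yd54 zd14) (kd xd19 yd23 zd52) (kd xd18 yd55 zd60) (kd xd19 yd41 zd8) (kd xd18 yd49 zd8) (kd xd18 yd54 zd9) (kd xd18 yd48 zd50) (kd xd27 yd11 zd46) (kd xd28 yd22 zd3) (kd xd24 yd48 zd28) (kd xd25 yd26 zd43) (kd xd28 yd22 zd8) (kd xd10 yd25 zd14) (kd xd14 yd35 zd39) (kd xd18 yd29 zd25) (kd xd22 yd23 zd42) (kd xd28 yd21 zd17) (kd xd28 yd22 zd12) (kd xd10 yd25 zd17) (kd xd18 yd51 zd35) (kd xd18 yd51 zd36) (kd xd23 yd33 zd9) (kd xd18 yd30 zd60) (kd xd28 yd15 zd57) (kd xd18 yd38 zd44) (kd xd28 yd22 zd28) (kd xd17 yd3 zd23) (kd xd18 yd46 zd23) (kd xd27 yd3 zd13) (kd xd18 yd39 zd56) (kd xd28 yd21 zd45) (kd xd17 yd47 zd9) (kd xd28 yd21 zd47) (kd xd28 yd22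 zd32) (kd xd10 yd25 zd33) (kd xd18 yd51 zd31) (kd xd18 yd51 zd32) (kd xd28 yd22 zd40) (kd xd13 yd16 zd7) (kd xd13 yd4 zd28) (kd xd13 yd4 zd27) (kd xd12 yd33 zd9) (kd xd22 yd46 zd12) (kd xd10 yd53 zd31) (kd xd22 yd46 zd61) (kd xd12 yd9 zd11) (kd xd10 yd25 zd44) (kd xd28 yd22 zd51) (kd xd28 yd22 zd52) (kd xd12 yd9 zd10) (kd xd10 yd25 zd45) (kd xd10 yd25 zd46) (kd xd13 yd18 zd20)) (@D3.rec (fun _ => Pt) (kd xd25 yd25 zd32) (kd xd25 yd25 zd33) (kd xd28 yd22 zd61) (kd xd24 yd5 zd59) (kd xd24 yd6 zd18) (kd xd18 yd4 zd18) (kd xd19 yd11 zd25) (kd xd28 yd23 zd6) (kd xd10 yd25 zd50) (kd xd28 yd23 zd9) (kd xd10 yd25 zd51) (kd xd28 yd23 zd11) (kd xd10 yd25 zd53) (kd xd20 yd21 zd47) (kd xd28 yd23 zd14) (kd xd10 yd25 zd54) (kd xd14 yd14 zd14) (kd xd28 yd23 zd16) (kd xd10 yd40 zd43)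 (kd xd23 yd54 zd1) (kd xd10 yd25 zd57) (kd xd13 yd4 zd55) (kd xd28 yd23 zd23) (kd xd18 yd20 zd15) (kd xd18 yd20 zd14) (kd xd20 yd33 zd59) (kd xd18 yd48 zd34) (kd xd27 yd50 zd48) (kd xd28 yd23 zd36) (kd xd19 yd10 zd26) (kd xd27 yd50 zd49) (kd xd28 yd23 zd41) (kd xd25 yd48 zd3) (kd xd27 yd15 zd25) (kd xd28 yd23 zd44) (kd xd10 yd26 zd2) (kd xd28 yd23 zd47) (kd xd17 yd19 zd5) (kd xd18 yd48 zd43) (kd xd28 yd23 zd52) (kd xd10 yd26 zd5) (kd xd25 yd23 zd53) (kd xd28 yd23 zd55) (kd xd23 yd53 zd48) (kd xd25 yd23 zd54) (kd xd25 yd47 zd45) (kd xd16 yd42 zd60) (kd xd16 yd42 zd61) (kd xd11 yd1 zd1) (kd xd26 yd42 zd23) (kd xd27 yd19 zd18) (kd xd17 yd18 zd18) (kd xd26 yd41 zd40) (kd xd27 yd14 zd11) (kd xd28 yd24 zd4) (kd xd10 yd26 zd15) (kd xd28 yd24 zd8) (kd xd10 yd26 zd16) (kd xd24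 yd29 zd54) (kd xd10 yd26 zd17) (kd xd18 yd54 zd11) (kd xd23 yd49 zd4)) (@D3.rec (fun _ => Pt) (kd xd28 yd15 zd11) (kd xd22 yd24 zd15) (kd xd10 yd26 zd19) (kd xd19 yd12 zd44) (kd xd10 yd26 zd22) (kd xd28 yd24 zd19) (kd xd10 yd26 zd23) (kd xd28 yd16 zd13) (kd xd21 yd52 zd60) (kd xd10 yd26 zd26) (kd xd28 yd24 zd22) (kd xd28 yd24 zd24) (kd xd10 yd26 zd27) (kd xd27 yd14 zd53) (kd xd22 yd55 zd56) (kd xd10 yd26 zd28) (kd xd10 yd26 zd29) (kd xd18 yd41 zd28) (kd xd28 yd24 zd31) (kd xd10 yd26 zd31) (kd xd10 yd26 zd32) (kd xd26 yd27 zd57) (kd xd10 yd26 zd33) (kd xd19 yd12 zd31) (kd xd19 yd12 zd32) (kd xd10 yd26 zd37) (kd xd17 yd17 zd34) (kd xd19 yd33 zd24) (kd xd23 yd4 zd15) (kd xd16 yd23 zd37) (kd xd16 yd32 zd59) (kd xd10 yd26 zd42) (kd xd10 yd33 zd40) (kd xd16 yd47 zd58) (kd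 xd28 yd24 zd38) (kd xd23 yd52 zd32) (kd xd18 yd40 zd36) (kd xd10 yd28 zd21) (kd xd10 yd28 zd20) (kd xd28 yd24 zd44) (kd xd10 yd26 zd48) (kd xd28 yd24 zd46) (kd xd10 yd26 zd50) (kd xd10 yd26 zd53) (kd xd13 yd0 zd31) (kd xd10 yd26 zd54) (kd xd10 yd26 zd56) (kd xd20 yd17 zd40) (kd xd21 yd38 zd21) (kd xd10 yd26 zd58) (kd xd11 yd17 zd4) (kd xd28 yd24 zd48) (kd xd10 yd26 zd59) (kd xd10 yd26 zd60) (kd xd14 yd35 zd36) (kd xd10 yd39 zd22) (kd xd18 yd53 zd55) (kd xd27 yd6 zd41) (kd xd14 yd31 zd1) (kd xd10 yd27 zd4) (kd xd21 yd28 zd42) (kd xd10 yd27 zd5)) (@D3.rec (fun _ => Pt) (kd xd21 yd27 zd37) (kd xd10 yd27 zd7) (kd xd18 yd10 zd25) (kd xd10 yd27 zd9) (kd xd10 yd27 zd11) (kd xd21 yd31 zd34) (kd xd18 yd22 zd17) (kd xd10 yd27 zd13) (kd xd28 yd25 zd0) (kd xd24 yd6 zd20) (kd xd28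 yd25 zd2) (kd xd27 yd3 zd52) (kd xd22 yd9 zd56) (kd xd10 yd27 zd15) (kd xd21 yd27 zd38) (kd xd10 yd27 zd16) (kd xd13 yd44 zd52) (kd xd28 yd23 zd46) (kd xd24 yd5 zd60) (kd xd10 yd27 zd19) (kd xd28 yd25 zd5) (kd xd17 yd34 zd51) (kd xd10 yd27 zd20) (kd xd21 yd31 zd2) (kd xd13 yd5 zd41) (kd xd28 yd25 zd8) (kd xd10 yd27 zd24) (kd xd28 yd25 zd10) (kd xd12 yd38 zd47) (kd xd12 yd38 zd44) (kd xd28 yd24 zd57) (kd xd14 yd35 zd31) (kd xd10 yd27 zd27) (kd xd27 yd5 zd54) (kd xd21 yd9 zd61) (kd xd18 yd33 zd35) (kd xd24 yd18 zd3) (kd xd10 yd27 zd30) (kd xd20 yd44 zd16) (kd xd25 yd17 zd12) (kd xd10 yd27 zd31) (kd xd28 yd25 zd21) (kd xd28 yd25 zd22) (kd xd10 yd27 zd32) (kd xd10 yd27 zd33) (kd xd28 yd25 zd26) (kd xd21 yd44 zd18) (kd xd28 yd23 zd12) (kd xd28 yd25 zd29) (kd xd19 yd20 zd12)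 (kd xd10 yd27 zd35) (kd xd20 yd26 zd14) (kd xd10 yd38 zd61) (kd xd10 yd27 zd36) (kd xd18 yd0 zd61) (kd xd28 yd25 zd33) (kd xd12 yd21 zd59) (kd xd20 yd51 zd37) (kd xd21 yd41 zd58) (kd xd10 yd27 zd40) (kd xd10 yd27 zd41) (kd xd22 yd3 zd23)) (@D3.rec (fun _ => Pt) (kd xd17 yd8 zd55) (kd xd10 yd27 zd43) (kd xd12 yd55 zd6) (kd xd11 yd11 zd5) (kd xd10 yd27 zd46) (kd xd17 yd15 zd53) (kd xd20 yd1 zd31) (kd xd16 yd39 zd19) (kd xd27 yd34 zd36) (kd xd27 yd34 zd37) (kd xd27 yd33 zd9) (kd xd27 yd34 zd59) (kd xd10 yd27 zd52) (kd xd25 yd33 zd60) (kd xd28 yd25 zd42) (kd xd10 yd27 zd57) (kd xd10 yd27 zd59) (kd xd18 yd17 zd40) (kd xd10 yd28 zd2) (kd xd17 yd46 zd28) (kd xd28 yd25 zd46) (kd xd10 yd28 zd4) (kd xd18 yd16 zd50) (kd xd19 yd6 zd24) (kd xd10 yd28 zd7) (kd xd18 yd39 zd44) (kd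 xd27 yd49 zd39) (kd xd28 yd25 zd48) (kd xd12 yd6 zd34) (kd xd28 yd25 zd51) (kd xd10 yd28 zd13) (kd xd10 yd28 zd14) (kd xd26 yd28 zd27) (kd xd15 yd7 zd9) (kd xd17 yd55 zd11) (kd xd10 yd28 zd15) (kd xd10 yd28 zd16) (kd xd28 yd25 zd57) (kd xd21 yd9 zd6) (kd xd28 yd25 zd61) (kd xd28 yd26 zd1) (kd xd28 yd26 zd3) (kd xd10 yd28 zd18) (kd xd28 yd26 zd5) (kd xd26 yd7 zd29) (kd xd13 yd52 zd5) (kd xd10 yd28 zd19) (kd xd23 yd31 zd29) (kd xd26 yd7 zd47) (kd xd22 yd31 zd44) (kd xd16 yd30 zd45) (kd xd16 yd35 zd40) (kd xd23 yd29 zd16) (kd xd10 yd28 zd23) (kd xd25 yd46 zd15) (kd xd23 yd25 zd29) (kd xd10 yd28 zd24) (kd xd28 yd12 zd18) (kd xd10 yd28 zd25) (kd xd10 yd29 zd42) (kd xd12 yd7 zd1) (kd xd21 yd15 zd26)) (@D3.rec (fun _ => Pt) (kd xd27 yd47 zd60) (kd xd12 yd7 zd0) (kd xd10 yd28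 zd29) (kd xd28 yd26 zd18) (kd xd10 yd29 zd26) (kd xd21 yd9 zd11) (kd xd28 yd26 zd20) (kd xd28 yd26 zd23) (kd xd26 yd56 zd40) (kd xd10 yd28 zd31) (kd xd28 yd26 zd26) (kd xd26 yd58 zd12) (kd xd26 yd58 zd13) (kd xd10 yd28 zd32) (kd xd28 yd13 zd41) (kd xd24 yd57 zd50) (kd xd10 yd28 zd33) (kd xd24 yd9 zd26) (kd xd10 yd28 zd34) (kd xd18 yd19 zd51) (kd xd28 yd26 zd36) (kd xd10 yd28 zd36) (kd xd28 yd26 zd37) (kd xd10 yd28 zd37) (kd xd28 yd26 zd40) (kd xd16 yd31 zd20) (kd xd10 yd28 zd39) (kd xd22 yd14 zd8) (kd xd27 yd7 zd2) (kd xd10 yd28 zd42) (kd xd28 yd26 zd47) (kd xd10 yd29 zd56) (kd xd23 yd43 zd28) (kd xd10 yd28 zd44) (kd xd10 yd28 zd46) (kd xd25 yd28 zd35) (kd xd10 yd28 zd48) (kd xd20 yd29 zd28) (kd xd10 yd28 zd49) (kd xd28 yd26 zd56) (kd xd18 yd19 zd36) (kd xd28 yd26 zd58)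 (kd xd10 yd28 zd51) (kd xd26 yd45 zd32) (kd xd10 yd28 zd52) (kd xd10 yd30 zd1) (kd xd28 yd26 zd59) (kd xd10 yd28 zd53) (kd xd19 yd33 zd49) (kd xd10 yd28 zd54) (kd xd28 yd27 zd1) (kd xd18 yd22 zd19) (kd xd12 yd7 zd3) (kd xd28 yd0 zd53) (kd xd20 yd32 zd28) (kd xd23 yd15 zd39) (kd xd10 yd28 zd56) (kd xd28 yd27 zd5) (kd xd28 yd27 zd6) (kd xd10 yd28 zd57) (kd xd23 yd3 zd51) (kd xd16 yd3 zd33))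
def f_d_19 : D2 → D3 → Pt := @D2.rec (fun _ => D3 → Pt) (@D3.rec (fun _ => Pt) (kd xd16 yd3 zd39) (kd xd22 yd31 zd26) (kd xd10 yd28 zd59) (kd xd14 yd58 zd36) (kd xd26 yd30 zd25) (kd xd28 yd27 zd8) (kd xd10 yd28 zd61) (kd xd28 yd27 zd9) (kd xd10 yd29 zd55) (kd xd16 yd21 zd15) (kd xd16 yd53 zd20) (kd xd28 yd27 zd12) (kd xd23 yd31 zd56) (kd xd10 yd29 zd1) (kd xd28 yd27 zd14) (kd xd25 yd1 zd57) (kd xd28 yd27 zd17) (kd xd13 yd59 zd54) (kd xd10 yd29 zd3) (kd xd23 yd31 zd32) (kd xd20 yd8 zd22) (kd xd21 yd12 zd24) (kd xd26 yd20 zd14) (kd xd10 yd29 zd5) (kd xd28 yd27 zd20) (kd xd28 yd27 zd22) (kd xd28 yd27 zd24) (kd xd10 yd29 zd6) (kd xd24 yd43 zd46) (kd xd28 yd27 zd29) (kd xd26 yd26 zd58) (kd xd15 yd0 zd3) (kd xd20 yd38 zd53) (kd xd20 yd6 zd32) (kd xd17 yd3 zd39) (kd xd10 yd29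 zd15) (kd xd27 yd28 zd36) (kd xd28 yd0 zd1) (kd xd28 yd27 zd35) (kd xd27 yd28 zd35) (kd xd16 yd20 zd49) (kd xd18 yd16 zd59) (kd xd10 yd29 zd22) (kd xd26 yd18 zd45) (kd xd27 yd30 zd3) (kd xd28 yd27 zd41) (kd xd28 yd27 zd43) (kd xd15 yd14 zd25) (kd xd26 yd49 zd54) (kd xd24 yd55 zd31) (kd xd16 yd32 zd2) (kd xd13 yd40 zd43) (kd xd10 yd29 zd27) (kd xd10 yd29 zd43) (kd xd19 yd52 zd23) (kd xd28 yd27 zd50) (kd xd10 yd29 zd29) (kd xd10 yd29 zd30) (kd xd17 yd57 zd25) (kd xd10 yd29 zd31) (kd xd18 yd49 zd20) (kd xd18 yd49 zd38)) (@D3.rec (fun _ => Pt) (kd xd26 yd33 zd32) (kd xd10 yd29 zd33) (kd xd22 yd17 zd14) (kd xd10 yd29 zd34) (kd xd26 yd36 zd50) (kd xd26 yd34 zd57) (kd xd26 yd33 zd33) (kd xd25 yd22 zd23) (kd xd25 yd22 zd24) (kd xd10 yd29 zd39) (kd xd20 yd57 zd34) (kd xd26 yd33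 zd34) (kd xd21 yd13 zd8) (kd xd21 yd25 zd37) (kd xd10 yd29 zd44) (kd xd28 yd28 zd1) (kd xd28 yd28 zd2) (kd xd25 yd18 zd13) (kd xd28 yd28 zd5) (kd xd28 yd28 zd7) (kd xd10 yd29 zd46) (kd xd28 yd28 zd10) (kd xd23 yd18 zd35) (kd xd23 yd14 zd23) (kd xd10 yd29 zd47) (kd xd26 yd26 zd28) (kd xd15 yd14 zd6) (kd xd10 yd29 zd48) (kd xd18 yd22 zd3) (kd xd21 yd6 zd42) (kd xd10 yd29 zd51) (kd xd28 yd28 zd12) (kd xd10 yd29 zd52) (kd xd10 yd29 zd54) (kd xd28 yd28 zd16) (kd xd10 yd29 zd59) (kd xd28 yd28 zd18) (kd xd26 yd26 zd57) (kd xd10 yd29 zd60) (kd xd28 yd28 zd22) (kd xd18 yd41 zd18) (kd xd28 yd28 zd24) (kd xd10 yd30 zd0) (kd xd14 yd8 zd46) (kd xd26 yd30 zd11) (kd xd18 yd22 zd54) (kd xd13 yd48 zd16) (kd xd10 yd30 zd4) (kd xd23 yd32 zd6) (kd xd10 yd30 zd5) (kd xd22 yd46 zd14) (kd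 xd23 yd21 zd40) (kd xd10 yd30 zd7) (kd xd23 yd19 zd7) (kd xd18 yd39 zd12) (kd xd23 yd11 zd49) (kd xd28 yd28 zd28) (kd xd18 yd39 zd13) (kd xd12 yd58 zd54) (kd xd16 yd18 zd23) (kd xd22 yd8 zd18) (kd xd17 yd43 zd4)) (@D3.rec (fun _ => Pt) (kd xd12 yd19 zd21) (kd xd28 yd28 zd30) (kd xd28 yd28 zd31) (kd xd10 yd30 zd12) (kd xd23 yd19 zd10) (kd xd23 yd33 zd46) (kd xd10 yd30 zd14) (kd xd28 yd28 zd34) (kd xd22 yd36 zd26) (kd xd12 yd19 zd20) (kd xd28 yd28 zd37) (kd xd23 yd19 zd31) (kd xd10 yd30 zd17) (kd xd23 yd33 zd49) (kd xd15 yd49 zd10) (kd xd13 yd10 zd57) (kd xd16 yd29 zd17) (kd xd16 yd30 zd53) (kd xd11 yd44 zd25) (kd xd19 yd50 zd5) (kd xd19 yd50 zd6) (kd xd20 yd2 zd54) (kd xd28 yd28 zd40) (kd xd28 yd28 zd42) (kd xd10 yd30 zd22) (kd xd28 yd28 zd46) (kd xd28 yd28 zd47) (kd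 xd20 yd25 zd43) (kd xd24 yd42 zd13) (kd xd20 yd29 zd30) (kd xd16 yd30 zd57) (kd xd17 yd0 zd21) (kd xd20 yd36 zd59) (kd xd20 yd6 zd35) (kd xd28 yd28 zd50) (kd xd10 yd30 zd31) (kd xd22 yd57 zd21) (kd xd22 yd57 zd22) (kd xd23 yd0 zd28) (kd xd10 yd30 zd32) (kd xd22 yd49 zd28) (kd xd22 yd49 zd26) (kd xd28 yd28 zd56) (kd xd28 yd28 zd58) (kd xd10 yd30 zd34) (kd xd19 yd12 zd10) (kd xd28 yd28 zd61) (kd xd28 yd1 zd21) (kd xd28 yd29 zd1) (kd xd28 yd29 zd2) (kd xd10 yd30 zd37) (kd xd28 yd29 zd9) (kd xd28 yd29 zd12) (kd xd10 yd30 zd39) (kd xd19 yd11 zd32) (kd xd24 yd38 zd40) (kd xd22 yd20 zd23) (kd xd28 yd29 zd15) (kd xd10 yd30 zd40) (kd xd20 yd48 zd59) (kd xd28 yd29 zd20) (kd xd10 yd30 zd42)) (@D3.rec (fun _ => Pt) (kd xd19 yd13 zd49) (kd xd21 yd9 zd54) (kd xd25 yd48 zd26) (kd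 xd25 yd59 zd45) (kd xd11 yd56 zd31) (kd xd25 yd43 zd21) (kd xd25 yd48 zd25) (kd xd25 yd59 zd43) (kd xd19 yd14 zd12) (kd xd22 yd1 zd40) (kd xd10 yd30 zd45) (kd xd27 yd18 zd58) (kd xd28 yd4 zd53) (kd xd25 yd59 zd52) (kd xd15 yd27 zd42) (kd xd23 yd11 zd2) (kd xd18 yd41 zd35) (kd xd28 yd29 zd32) (kd xd27 yd59 zd30) (kd xd27 yd58 zd59) (kd xd10 yd32 zd22) (kd xd19 yd18 zd24) (kd xd19 yd18 zd25) (kd xd22 yd12 zd23) (kd xd10 yd32 zd14) (kd xd10 yd32 zd15) (kd xd18 yd22 zd24) (kd xd28 yd29 zd39) (kd xd28 yd29 zd40) (kd xd19 yd18 zd2) (kd xd28 yd29 zd43) (kd xd10 yd30 zd58) (kd xd19 yd8 zd16) (kd xd25 yd46 zd4) (kd xd25 yd46 zd5) (kd xd18 yd46 zd18) (kd xd28 yd29 zd51) (kd xd10 yd30 zd60) (kd xd19 yd18 zd46) (kd xd24 yd29 zd16) (kd xd19 yd18 zd47) (kd xd10 yd31 zd1) (kd xd10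 yd31 zd31) (kd xd10 yd31 zd32) (kd xd28 yd29 zd55) (kd xd24 yd24 zd25) (kd xd10 yd31 zd29) (kd xd24 yd12 zd37) (kd xd28 yd29 zd57) (kd xd10 yd31 zd4) (kd xd28 yd29 zd60) (kd xd10 yd31 zd5) (kd xd28 yd30 zd0) (kd xd10 yd31 zd6) (kd xd10 yd34 zd8) (kd xd10 yd34 zd9) (kd xd28 yd30 zd10) (kd xd10 yd31 zd8) (kd xd10 yd31 zd9) (kd xd17 yd51 zd53) (kd xd17 yd51 zd54) (kd xd26 yd18 zd24)) (@D3.rec (fun _ => Pt) (kd xd11 yd49 zd6) (kd xd19 yd17 zd44) (kd xd22 yd39 zd60) (kd xd28 yd21 zd3) (kd xd10 yd31 zd44) (kd xd10 yd31 zd45) (kd xd28 yd30 zd17) (kd xd25 yd51 zd54) (kd xd10 yd45 zd59) (kd xd10 yd31 zd18) (kd xd28 yd30 zd22) (kd xd28 yd30 zd23) (kd xd10 yd31 zd19) (kd xd28 yd30 zd27) (kd xd25 yd51 zd49) (kd xd10 yd31 zd20) (kd xd10 yd31 zd21) (kd xd28 yd28 zd59) (kd xd10 yd40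 zd3) (kd xd25 yd41 zd55) (kd xd10 yd31 zd23) (kd xd11 yd55 zd55) (kd xd10 yd31 zd24) (kd xd19 yd12 zd21) (kd xd28 yd29 zd56) (kd xd23 yd55 zd26) (kd xd10 yd31 zd30) (kd xd22 yd23 zd31) (kd xd24 yd47 zd13) (kd xd10 yd31 zd33) (kd xd28 yd30 zd44) (kd xd22 yd32 zd46) (kd xd10 yd31 zd36) (kd xd16 yd53 zd36) (kd xd24 yd23 zd16) (kd xd28 yd30 zd46) (kd xd10 yd51 zd54) (kd xd28 yd7 zd50) (kd xd12 yd11 zd24) (kd xd10 yd31 zd46) (kd xd14 yd21 zd24) (kd xd14 yd38 zd60) (kd xd23 yd19 zd15) (kd xd10 yd38 zd14) (kd xd23 yd52 zd26) (kd xd10 yd31 zd53) (kd xd19 yd30 zd61) (kd xd16 yd39 zd16) (kd xd10 yd31 zd55) (kd xd20 yd40 zd46) (kd xd28 yd30 zd51) (kd xd10 yd31 zd56) (kd xd10 yd31 zd57) (kd xd21 yd9 zd16) (kd xd17 yd50 zd9) (kd xd17 yd50 zd10) (kd xd18 yd31 zd5) (kd xd20 yd11 zd44)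 (kd xd16 yd56 zd14) (kd xd28 yd30 zd57) (kd xd15 yd58 zd42) (kd xd10 yd32 zd0)) (@D3.rec (fun _ => Pt) (kd xd17 yd48 zd57) (kd xd13 yd4 zd54) (kd xd12 yd11 zd16) (kd xd25 yd10 zd12) (kd xd10 yd32 zd6) (kd xd10 yd59 zd35) (kd xd28 yd30 zd58) (kd xd25 yd10 zd4) (kd xd25 yd10 zd15) (kd xd10 yd32 zd11) (kd xd19 yd29 zd50) (kd xd17 yd50 zd35) (kd xd28 yd29 zd38) (kd xd15 yd3 zd19) (kd xd19 yd23 zd45) (kd xd24 yd49 zd7) (kd xd19 yd42 zd19) (kd xd28 yd31 zd0) (kd xd10 yd32 zd18) (kd xd25 yd31 zd15) (kd xd15 yd59 zd44) (kd xd28 yd31 zd3) (kd xd19 yd41 zd3) (kd xd10 yd32 zd20) (kd xd28 yd31 zd6) (kd xd28 yd31 zd8) (kd xd21 yd34 zd50) (kd xd10 yd32 zd21) (kd xd16 yd57 zd42) (kd xd19 yd11 zd54) (kd xd13 yd1 zd53) (kd xd19 yd16 zd25) (kd xd25 yd40 zd27) (kd xd10 yd32 zd28) (kd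 xd15 yd33 zd45) (kd xd14 yd20 zd54) (kd xd19 yd15 zd61) (kd xd16 yd57 zd49) (kd xd15 yd3 zd18) (kd xd18 yd17 zd60) (kd xd26 yd48 zd13) (kd xd10 yd32 zd34) (kd xd26 yd9 zd10) (kd xd18 yd17 zd56) (kd xd10 yd32 zd35) (kd xd10 yd32 zd37) (kd xd26 yd0 zd56) (kd xd24 yd33 zd1) (kd xd14 yd54 zd21) (kd xd26 yd6 zd29) (kd xd24 yd51 zd56) (kd xd10 yd32 zd39) (kd xd23 yd32 zd27) (kd xd16 yd4 zd11) (kd xd20 yd16 zd21) (kd xd28 yd31 zd19) (kd xd16 yd4 zd10) (kd xd28 yd31 zd21) (kd xd23 yd42 zd16) (kd xd21 yd22 zd15) (kd xd10 yd32 zd46) (kd xd19 yd16 zd41)) (@D3.rec (fun _ => Pt) (kd xd25 yd49 zd57) (kd xd19 yd16 zd34) (kd xd10 yd32 zd48) (kd xd10 yd32 zd49) (kd xd15 yd42 zd12) (kd xd15 yd42 zd13) (kd xd14 yd40 zd9) (kd xd15 yd1 zd17) (kd xd28 yd31 zd33) (kd xd15 yd1 zd11) (kd xd28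 yd31 zd40) (kd xd23 yd30 zd53) (kd xd14 yd46 zd40) (kd xd26 yd9 zd49) (kd xd24 yd52 zd40) (kd xd10 yd32 zd54) (kd xd16 yd12 zd56) (kd xd28 yd31 zd44) (kd xd28 yd31 zd45) (kd xd10 yd32 zd56) (kd xd28 yd31 zd49) (kd xd28 yd31 zd52) (kd xd10 yd32 zd58) (kd xd28 yd31 zd55) (kd xd18 yd58 zd23) (kd xd21 yd10 zd55) (kd xd10 yd33 zd0) (kd xd28 yd7 zd15) (kd xd10 yd33 zd1) (kd xd18 yd53 zd48) (kd xd21 yd10 zd29) (kd xd28 yd31 zd60) (kd xd10 yd33 zd3) (kd xd16 yd33 zd46) (kd xd28 yd32 zd0) (kd xd28 yd32 zd2) (kd xd10 yd33 zd4) (kd xd28 yd32 zd6) (kd xd10 yd33 zd5) (kd xd18 yd11 zd47) (kd xd18 yd11 zd48) (kd xd20 yd29 zd33) (kd xd18 yd11 zd55) (kd xd18 yd11 zd54) (kd xd18 yd14 zd30) (kd xd21 yd53 zd29) (kd xd21 yd9 zd40) (kd xd12 yd35 zd18) (kd xd10 yd35 zd12) (kd xd21 yd9 zd55)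 (kd xd21 yd9 zd56) (kd xd16 yd2 zd7) (kd xd10 yd33 zd13) (kd xd16 yd53 zd52) (kd xd16 yd53 zd53) (kd xd10 yd34 zd42) (kd xd16 yd2 zd3) (kd xd10 yd33 zd18) (kd xd15 yd52 zd4) (kd xd28 yd32 zd27) (kd xd28 yd32 zd28) (kd xd10 yd33 zd20)) (@D3.rec (fun _ => Pt) (kd xd19 yd18 zd13) (kd xd19 yd18 zd14) (kd xd28 yd22 zd57) (kd xd28 yd22 zd55) (kd xd26 yd45 zd27) (kd xd10 yd33 zd23) (kd xd10 yd54 zd50) (kd xd28 yd32 zd41) (kd xd20 yd22 zd19) (kd xd10 yd33 zd25) (kd xd19 yd17 zd54) (kd xd10 yd45 zd60) (kd xd20 yd22 zd18) (kd xd10 yd33 zd26) (kd xd10 yd33 zd48) (kd xd10 yd33 zd49) (kd xd27 yd2 zd0) (kd xd23 yd52 zd16) (kd xd10 yd33 zd45) (kd xd10 yd33 zd47) (kd xd10 yd36 zd41) (kd xd10 yd33 zd30) (kd xd20 yd23 zd40) (kd xd22 yd14 zd4) (kd xd23 yd8 zd23) (kd xd22 yd39 zd43) (kd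 xd28 yd32 zd57) (kd xd28 yd32 zd58) (kd xd10 yd33 zd36) (kd xd22 yd39 zd38) (kd xd28 yd33 zd2) (kd xd10 yd33 zd37) (kd xd10 yd39 zd29) (kd xd26 yd36 zd38) (kd xd28 yd26 zd34) (kd xd28 yd33 zd12) (kd xd10 yd33 zd39) (kd xd21 yd35 zd37) (kd xd28 yd24 zd36) (kd xd20 yd49 zd24) (kd xd11 yd21 zd48) (kd xd10 yd33 zd41) (kd xd21 yd16 zd12) (kd xd10 yd33 zd42) (kd xd12 yd43 zd37) (kd xd25 yd59 zd50) (kd xd28 yd33 zd21) (kd xd28 yd32 zd48) (kd xd20 yd40 zd34) (kd xd28 yd22 zd53) (kd xd28 yd22 zd49) (kd xd28 yd32 zd50) (kd xd18 yd42 zd6) (kd xd18 yd38 zd13) (kd xd17 yd26 zd8) (kd xd10 yd33 zd50) (kd xd23 yd0 zd21) (kd xd14 yd39 zd9) (kd xd14 yd39 zd8) (kd xd12 yd46 zd0) (kd xd23 yd0 zd18) (kd xd22 yd35 zd50)) (@D3.rec (fun _ => Pt) (kd xd28 yd33 zd34) (kd xd10 yd33 zd52) (kd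 xd28 yd33 zd36) (kd xd18 yd30 zd47) (kd xd19 yd16 zd7) (kd xd18 yd30 zd46) (kd xd11 yd6 zd21) (kd xd28 yd33 zd45) (kd xd24 yd18 zd38) (kd xd10 yd33 zd55) (kd xd23 yd0 zd32) (kd xd28 yd33 zd49) (kd xd10 yd33 zd56) (kd xd28 yd33 zd53) (kd xd10 yd33 zd57) (kd xd10 yd38 zd13) (kd xd19 yd3 zd32) (kd xd28 yd34 zd0) (kd xd10 yd33 zd59) (kd xd10 yd33 zd60) (kd xd23 yd27 zd13) (kd xd28 yd34 zd4) (kd xd10 yd34 zd0) (kd xd27 yd37 zd23) (kd xd23 yd1 zd23) (kd xd24 yd23 zd40) (kd xd24 yd23 zd39) (kd xd10 yd34 zd4) (kd xd14 yd40 zd24) (kd xd14 yd21 zd29) (kd xd14 yd21 zd30) (kd xd28 yd34 zd13) (kd xd24 yd24 zd23) (kd xd24 yd24 zd22) (kd xd10 yd34 zd6) (kd xd14 yd40 zd25) (kd xd28 yd34 zd17) (kd xd10 yd34 zd7) (kd xd28 yd34 zd20) (kd xd28 yd30 zd2) (kd xd24 yd23 zd15) (kd xd28 yd30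 zd5) (kd xd26 yd36 zd24) (kd xd10 yd34 zd11) (kd xd10 yd34 zd12) (kd xd28 yd34 zd26) (kd xd28 yd34 zd27) (kd xd10 yd34 zd14) (kd xd28 yd34 zd28) (kd xd19 yd8 zd58) (kd xd10 yd34 zd15) (kd xd28 yd20 zd4) (kd xd22 yd54 zd53) (kd xd10 yd34 zd16) (kd xd10 yd34 zd17) (kd xd28 yd34 zd32) (kd xd28 yd12 zd58) (kd xd28 yd12 zd59) (kd xd19 yd8 zd49) (kd xd22 yd17 zd20) (kd xd22 yd17 zd10) (kd xd10 yd34 zd19)) (@D3.rec (fun _ => Pt) (kd xd28 yd34 zd37) (kd xd18 yd51 zd17) (kd xd25 yd36 zd13) (kd xd10 yd34 zd21) (kd xd28 yd34 zd38) (kd xd15 yd44 zd6) (kd xd28 yd34 zd42) (kd xd10 yd34 zd23) (kd xd16 yd6 zd22) (kd xd10 yd34 zd24) (kd xd28 yd34 zd48) (kd xd24 yd51 zd27) (kd xd10 yd34 zd25) (kd xd17 yd3 zd28) (kd xd10 yd34 zd26) (kd xd28 yd34 zd53) (kd xd25 yd19 zd36) (kd xd25 yd19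 zd37) (kd xd22 yd31 zd29) (kd xd28 yd35 zd0) (kd xd28 yd35 zd3) (kd xd28 yd35 zd7) (kd xd10 yd34 zd28) (kd xd28 yd35 zd11) (kd xd22 yd26 zd27) (kd xd28 yd35 zd12) (kd xd10 yd34 zd29) (kd xd28 yd35 zd16) (kd xd28 yd35 zd18) (kd xd10 yd34 zd31) (kd xd10 yd34 zd32) (kd xd12 yd11 zd33) (kd xd28 yd35 zd21) (kd xd10 yd34 zd33) (kd xd28 yd35 zd23) (kd xd28 yd35 zd24) (kd xd10 yd34 zd34) (kd xd28 yd35 zd27) (kd xd24 yd52 zd58) (kd xd13 yd1 zd45) (kd xd28 yd35 zd29) (kd xd10 yd34 zd38) (kd xd28 yd35 zd30) (kd xd10 yd34 zd37) (kd xd28 yd35 zd31) (kd xd22 yd35 zd43) (kd xd28 yd35 zd32) (kd xd10 yd34 zd39) (kd xd17 yd34 zd39) (kd xd18 yd41 zd36) (kd xd17 yd12 zd3) (kd xd10 yd41 zd46) (kd xd27 yd46 zd56) (kd xd17 yd23 zd61) (kd xd23 yd52 zd6) (kd xd22 yd6 zd13) (kd xd17 yd23 zd24)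 (kd xd28 yd35 zd50) (kd xd17 yd20 zd31) (kd xd12 yd7 zd33) (kd xd11 yd25 zd21) (kd xd10 yd34 zd44)) (@D3.rec (fun _ => Pt) (kd xd10 yd41 zd60) (kd xd20 yd27 zd17) (kd xd23 yd51 zd59) (kd xd23 yd51 zd61) (kd xd17 yd21 zd10) (kd xd17 yd28 zd26) (kd xd10 yd34 zd47) (kd xd24 yd16 zd61) (kd xd27 yd23 zd45) (kd xd20 yd32 zd46) (kd xd28 yd36 zd3) (kd xd28 yd36 zd4) (kd xd28 yd36 zd6) (kd xd10 yd34 zd51) (kd xd28 yd36 zd10) (kd xd28 yd36 zd11) (kd xd28 yd36 zd13) (kd xd28 yd36 zd16) (kd xd10 yd34 zd53) (kd xd22 yd18 zd28) (kd xd28 yd36 zd23) (kd xd10 yd34 zd54) (kd xd15 yd52 zd5) (kd xd28 yd36 zd28) (kd xd28 yd36 zd31) (kd xd10 yd34 zd55) (kd xd18 yd55 zd29) (kd xd12 yd57 zd31) (kd xd12 yd57 zd30) (kd xd10 yd34 zd59) (kd xd10 yd35 zd18) (kd xd10 yd35 zd8) (kd xd17 yd48 zd41)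 (kd xd12 yd36 zd55) (kd xd16 yd17 zd15) (kd xd19 yd21 zd18) (kd xd11 yd47 zd23) (kd xd12 yd53 zd43) (kd xd10 yd35 zd5) (kd xd10 yd38 zd44) (kd xd15 yd21 zd23) (kd xd21 yd43 zd17) (kd xd20 yd54 zd3) (kd xd12 yd50 zd44) (kd xd28 yd36 zd45) (kd xd18 yd20 zd24) (kd xd27 yd20 zd0) (kd xd27 yd44 zd32) (kd xd13 yd26 zd0) (kd xd16 yd46 zd26) (kd xd19 yd44 zd6) (kd xd21 yd38 zd61) (kd xd10 yd35 zd23) (kd xd21 yd38 zd57) (kd xd10 yd35 zd24) (kd xd17 yd49 zd35) (kd xd28 yd10 zd28) (kd xd18 yd41 zd40) (kd xd21 yd42 zd22) (kd xd14 yd32 zd56) (kd xd18 yd32 zd30) (kd xd28 yd36 zd49)) (@D3.rec (fun _ => Pt) (kd xd10 yd35 zd31) (kd xd17 yd23 zd48) (kd xd28 yd36 zd52) (kd xd10 yd35 zd32) (kd xd28 yd36 zd55) (kd xd18 yd2 zd31) (kd xd10 yd35 zd37) (kd xd15 yd47 zd61) (kd xd10 yd35 zd38)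 (kd xd15 yd47 zd60) (kd xd18 yd38 zd38) (kd xd28 yd36 zd61) (kd xd10 yd35 zd42) (kd xd19 yd59 zd26) (kd xd25 yd20 zd53) (kd xd24 yd51 zd22) (kd xd25 yd6 zd19) (kd xd10 yd35 zd45) (kd xd28 yd37 zd2) (kd xd27 yd38 zd49) (kd xd26 yd44 zd34) (kd xd11 yd2 zd18) (kd xd23 yd50 zd12) (kd xd26 yd44 zd31) (kd xd28 yd18 zd25) (kd xd18 yd55 zd6) (kd xd27 yd22 zd45) (kd xd28 yd11 zd5) (kd xd28 yd37 zd20) (kd xd10 yd35 zd51) (kd xd22 yd17 zd7) (kd xd10 yd35 zd52) (kd xd19 yd2 zd54) (kd xd21 yd49 zd21) (kd xd10 yd35 zd54) (kd xd10 yd35 zd56) (kd xd28 yd37 zd30) (kd xd10 yd35 zd57) (kd xd10 yd41 zd50) (kd xd28 yd37 zd32) (kd xd28 yd37 zd33) (kd xd28 yd37 zd35) (kd xd28 yd37 zd37) (kd xd28 yd37 zd39) (kd xd10 yd36 zd0) (kd xd26 yd53 zd47) (kd xd28 yd37 zd43) (kd xd10 yd36 zd1) (kd xd28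 yd17 zd57) (kd xd22 yd14 zd20) (kd xd10 yd36 zd2) (kd xd28 yd37 zd50) (kd xd10 yd36 zd3) (kd xd19 yd18 zd18) (kd xd19 yd5 zd29) (kd xd18 yd23 zd9) (kd xd25 yd4 zd30) (kd xd15 yd52 zd7) (kd xd10 yd36 zd5) (kd xd28 yd37 zd60) (kd xd26 yd12 zd42) (kd xd15 yd21 zd30)) (@D3.rec (fun _ => Pt) (kd xd10 yd36 zd6) (kd xd28 yd38 zd2) (kd xd28 yd21 zd37) (kd xd15 yd49 zd60) (kd xd28 yd5 zd61) (kd xd28 yd38 zd9) (kd xd23 yd19 zd6) (kd xd10 yd36 zd9) (kd xd28 yd38 zd14) (kd xd10 yd36 zd10) (kd xd19 yd2 zd45) (kd xd28 yd38 zd17) (kd xd10 yd36 zd12) (kd xd23 yd57 zd53) (kd xd10 yd36 zd13) (kd xd28 yd38 zd21) (kd xd28 yd35 zd28) (kd xd10 yd36 zd14) (kd xd20 yd52 zd57) (kd xd10 yd36 zd15) (kd xd28 yd38 zd25) (kd xd19 yd4 zd23) (kd xd28 yd38 zd26) (kd xd28 yd38 zd30) (kd xd28 yd38 zd33)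 (kd xd28 yd38 zd36) (kd xd10 yd36 zd17) (kd xd26 yd54 zd7) (kd xd28 yd38 zd41) (kd xd10 yd36 zd19) (kd xd28 yd18 zd58) (kd xd18 yd56 zd23) (kd xd18 yd56 zd24) (kd xd24 yd7 zd38) (kd xd28 yd38 zd45) (kd xd18 yd46 zd21) (kd xd18 yd33 zd29) (kd xd10 yd36 zd21) (kd xd28 yd38 zd51) (kd xd22 yd50 zd61) (kd xd23 yd7 zd12) (kd xd16 yd31 zd32) (kd xd10 yd36 zd24) (kd xd28 yd38 zd55) (kd xd18 yd56 zd3) (kd xd18 yd44 zd47) (kd xd25 yd4 zd53) (kd xd28 yd16 zd40) (kd xd12 yd37 zd18) (kd xd10 yd36 zd28) (kd xd28 yd38 zd57) (kd xd21 yd52 zd36) (kd xd28 yd38 zd59) (kd xd10 yd36 zd30) (kd xd10 yd39 zd4) (kd xd27 yd56 zd25) (kd xd14 yd13 zd45) (kd xd24 yd21 zd36) (kd xd21 yd52 zd32) (kd xd28 yd39 zd0) (kd xd17 yd56 zd54) (kd xd10 yd36 zd34)) (@D3.rec (fun _ => Pt) (kd xd27 yd7 zd33)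 (kd xd17 yd56 zd53) (kd xd10 yd36 zd35) (kd xd26 yd36 zd39) (kd xd26 yd36 zd40) (kd xd10 yd36 zd37) (kd xd10 yd38 zd60) (kd xd18 yd11 zd59) (kd xd28 yd25 zd32) (kd xd10 yd36 zd39) (kd xd20 yd27 zd9) (kd xd10 yd39 zd3) (kd xd22 yd54 zd15) (kd xd28 yd32 zd52) (kd xd12 yd23 zd17) (kd xd10 yd36 zd42) (kd xd28 yd39 zd13) (kd xd10 yd36 zd43) (kd xd28 yd39 zd17) (kd xd19 yd18 zd54) (kd xd11 yd39 zd13) (kd xd10 yd36 zd45) (kd xd28 yd39 zd23) (kd xd28 yd39 zd24) (kd xd10 yd36 zd46) (kd xd16 yd38 zd31) (kd xd28 yd39 zd30) (kd xd28 yd39 zd31) (kd xd28 yd39 zd33) (kd xd10 yd36 zd48) (kd xd20 yd46 zd0) (kd xd20 yd46 zd1) (kd xd28 yd39 zd38) (kd xd11 yd26 zd22) (kd xd26 yd36 zd37) (kd xd26 yd36 zd18) (kd xd28 yd33 zd7) (kd xd16 yd55 zd21) (kd xd26 yd36 zd15) (kd xd26 yd36 zd21) (kd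 xd26 yd36 zd20) (kd xd28 yd39 zd53) (kd xd10 yd36 zd54) (kd xd20 yd57 zd19) (kd xd28 yd30 zd39) (kd xd28 yd40 zd1) (kd xd10 yd36 zd56) (kd xd28 yd40 zd5) (kd xd10 yd36 zd57) (kd xd19 yd3 zd0) (kd xd19 yd34 zd43) (kd xd28 yd40 zd10) (kd xd10 yd36 zd59) (kd xd26 yd40 zd29) (kd xd28 yd39 zd55) (kd xd11 yd25 zd52) (kd xd28 yd40 zd15) (kd xd10 yd37 zd1) (kd xd22 yd19 zd32) (kd xd10 yd37 zd3) (kd xd26 yd36 zd14) (kd xd20 yd56 zd34)) (@D3.rec (fun _ => Pt) (kd xd26 yd36 zd17) (kd xd26 yd35 zd49) (kd xd26 yd35 zd50) (kd xd28 yd40 zd25) (kd xd10 yd37 zd6) (kd xd28 yd40 zd28) (kd xd11 yd4 zd14) (kd xd15 yd17 zd42) (kd xd28 yd30 zd11) (kd xd10 yd37 zd19) (kd xd10 yd37 zd8) (kd xd19 yd40 zd45) (kd xd19 yd3 zd8) (kd xd28 yd40 zd36) (kd xd10 yd37 zd10) (kd xd28 yd20 zd47) (kd xd16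 yd39 zd22) (kd xd10 yd37 zd12) (kd xd20 yd54 zd59) (kd xd28 yd40 zd38) (kd xd11 yd52 zd48) (kd xd26 yd38 zd16) (kd xd11 yd52 zd50) (kd xd28 yd40 zd42) (kd xd28 yd40 zd45) (kd xd28 yd40 zd48) (kd xd28 yd40 zd34) (kd xd27 yd38 zd27) (kd xd22 yd12 zd26) (kd xd21 yd6 zd14) (kd xd10 yd37 zd21) (kd xd14 yd43 zd47) (kd xd10 yd37 zd23) (kd xd28 yd40 zd56) (kd xd14 yd43 zd46) (kd xd10 yd37 zd24) (kd xd28 yd40 zd60) (kd xd10 yd37 zd25) (kd xd28 yd41 zd0) (kd xd10 yd39 zd40) (kd xd10 yd39 zd41) (kd xd28 yd41 zd7) (kd xd28 yd41 zd9) (kd xd21 yd47 zd4) (kd xd25 yd13 zd13) (kd xd10 yd37 zd27) (kd xd28 yd41 zd14) (kd xd21 yd28 zd18) (kd xd28 yd41 zd17) (kd xd10 yd37 zd28) (kd xd22 yd10 zd14) (kd xd28 yd41 zd19) (kd xd10 yd37 zd29) (kd xd25 yd23 zd26) (kd xd17 yd53 zd13) (kd xd26 yd14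 zd23) (kd xd10 yd37 zd31) (kd xd24 yd45 zd7) (kd xd13 yd30 zd40) (kd xd18 yd0 zd56) (kd xd14 yd58 zd33) (kd xd20 yd49 zd25)) (@D3.rec (fun _ => Pt) (kd xd14 yd26 zd60) (kd xd21 yd45 zd59) (kd xd17 yd5 zd25) (kd xd10 yd37 zd41) (kd xd25 yd16 zd32) (kd xd10 yd37 zd45) (kd xd10 yd37 zd46) (kd xd22 yd15 zd20) (kd xd19 yd50 zd56) (kd xd25 yd4 zd58) (kd xd10 yd37 zd48) (kd xd28 yd41 zd32) (kd xd14 yd45 zd28) (kd xd26 yd23 zd9) (kd xd10 yd37 zd49) (kd xd26 yd11 zd61) (kd xd22 yd40 zd0) (kd xd26 yd28 zd43) (kd xd10 yd37 zd52) (kd xd28 yd41 zd37) (kd xd26 yd12 zd0) (kd xd13 yd35 zd61) (kd xd10 yd37 zd54) (kd xd28 yd41 zd38) (kd xd28 yd41 zd39) (kd xd24 yd20 zd30) (kd xd10 yd37 zd56) (kd xd10 yd39 zd50) (kd xd22 yd9 zd22) (kd xd10 yd39 zd52) (kd xd28 yd41 zd41) (kd xd27 yd25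 zd48) (kd xd10 yd37 zd59) (kd xd24 yd54 zd51) (kd xd10 yd37 zd60) (kd xd28 yd41 zd47) (kd xd25 yd51 zd45) (kd xd28 yd41 zd49) (kd xd10 yd37 zd61) (kd xd28 yd41 zd50) (kd xd26 yd1 zd38) (kd xd10 yd38 zd0) (kd xd14 yd37 zd8) (kd xd25 yd5 zd30) (kd xd10 yd38 zd2) (kd xd19 yd17 zd36) (kd xd10 yd38 zd3) (kd xd13 yd35 zd13) (kd xd26 yd39 zd26) (kd xd17 yd50 zd44) (kd xd10 yd38 zd4) (kd xd24 yd46 zd4) (kd xd19 yd18 zd6) (kd xd28 yd41 zd61) (kd xd10 yd38 zd6) (kd xd20 yd52 zd58) (kd xd21 yd0 zd58) (kd xd10 yd38 zd7) (kd xd10 yd58 zd31) (kd xd10 yd38 zd8) (kd xd17 yd45 zd34) (kd xd19 yd5 zd36)) (@D3.rec (fun _ => Pt) (kd xd19 yd19 zd2) (kd xd28 yd31 zd14) (kd xd11 yd14 zd23) (kd xd28 yd42 zd4) (kd xd26 yd39 zd22) (kd xd10 yd38 zd11) (kd xd27 yd19 zd31) (kd xd19 yd8 zd4) (kd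 xd28 yd33 zd54) (kd xd28 yd42 zd9) (kd xd28 yd33 zd56) (kd xd28 yd30 zd47) (kd xd21 yd39 zd30) (kd xd13 yd44 zd19) (kd xd28 yd42 zd18) (kd xd28 yd42 zd20) (kd xd28 yd42 zd23) (kd xd10 yd38 zd15) (kd xd25 yd41 zd54) (kd xd28 yd30 zd12) (kd xd24 yd39 zd21) (kd xd10 yd38 zd17) (kd xd19 yd25 zd15) (kd xd10 yd38 zd18) (kd xd16 yd53 zd50) (kd xd19 yd5 zd31) (kd xd19 yd19 zd11) (kd xd25 yd40 zd57) (kd xd16 yd53 zd51) (kd xd19 yd29 zd7) (kd xd10 yd38 zd23) (kd xd10 yd38 zd24) (kd xd25 yd20 zd37) (kd xd21 yd56 zd5) (kd xd19 yd6 zd1) (kd xd10 yd38 zd26) (kd xd25 yd41 zd56) (kd xd28 yd31 zd11) (kd xd24 yd43 zd14) (kd xd10 yd38 zd27) (kd xd24 yd43 zd5) (kd xd19 yd5 zd61) (kd xd28 yd30 zd38) (kd xd10 yd38 zd41) (kd xd10 yd38 zd29) (kd xd17 yd55 zd41) (kd xd28 yd42 zd42) (kd xd10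 yd38 zd30) (kd xd28 yd42 zd46) (kd xd28 yd42 zd47) (kd xd10 yd38 zd32) (kd xd13 yd58 zd25) (kd xd13 yd58 zd21) (kd xd24 yd36 zd45) (kd xd10 yd38 zd33) (kd xd23 yd44 zd9) (kd xd16 yd10 zd33) (kd xd10 yd38 zd35) (kd xd23 yd28 zd61) (kd xd16 yd14 zd23) (kd xd10 yd38 zd36) (kd xd28 yd42 zd56)) (@D3.rec (fun _ => Pt) (kd xd17 yd40 zd51) (kd xd10 yd38 zd37) (kd xd16 yd19 zd55) (kd xd16 yd47 zd55) (kd xd16 yd18 zd27) (kd xd24 yd46 zd27) (kd xd27 yd29 zd24) (kd xd27 yd29 zd36) (kd xd27 yd3 zd51) (kd xd28 yd42 zd61) (kd xd25 yd44 zd28) (kd xd10 yd38 zd47) (kd xd21 yd18 zd52) (kd xd23 yd2 zd47) (kd xd28 yd11 zd21) (kd xd25 yd16 zd58) (kd xd10 yd38 zd52) (kd xd25 yd34 zd11) (kd xd25 yd34 zd10) (kd xd18 yd19 zd28) (kd xd19 yd30 zd8) (kd xd14 yd32 zd10) (kd xd22 yd15 zd1) (kd xd28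 yd15 zd54) (kd xd20 yd40 zd35) (kd xd14 yd33 zd17) (kd xd14 yd32 zd36) (kd xd17 yd12 zd19) (kd xd28 yd43 zd4) (kd xd10 yd39 zd1) (kd xd27 yd34 zd1) (kd xd28 yd43 zd5) (kd xd10 yd39 zd2) (kd xd14 yd20 zd34) (kd xd28 yd5 zd19) (kd xd18 yd42 zd9) (kd xd19 yd15 zd45) (kd xd10 yd39 zd5) (kd xd10 yd39 zd6) (kd xd26 yd37 zd16) (kd xd10 yd39 zd8) (kd xd16 yd26 zd18) (kd xd16 yd26 zd19) (kd xd10 yd39 zd10) (kd xd19 yd4 zd1) (kd xd12 yd46 zd43) (kd xd10 yd39 zd14) (kd xd16 yd56 zd12) (kd xd16 yd8 zd59) (kd xd10 yd39 zd15) (kd xd24 yd24 zd49) (kd xd12 yd11 zd20) (kd xd10 yd39 zd16) (kd xd28 yd43 zd18) (kd xd19 yd7 zd10) (kd xd26 yd5 zd29) (kd xd23 yd8 zd15) (kd xd10 yd39 zd18) (kd xd28 yd43 zd21) (kd xd28 yd43 zd24) (kd xd28 yd43 zd25) (kd xd28 yd43 zd26)) (@D3.rec (fun _ => Pt)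 (kd xd10 yd39 zd20) (kd xd28 yd43 zd29) (kd xd19 yd3 zd29) (kd xd26 yd56 zd22) (kd xd28 yd24 zd53) (kd xd10 yd39 zd23) (kd xd19 yd15 zd52) (kd xd16 yd53 zd26) (kd xd10 yd39 zd24) (kd xd10 yd39 zd26) (kd xd27 yd13 zd43) (kd xd16 yd54 zd35) (kd xd27 yd12 zd25) (kd xd19 yd7 zd0) (kd xd19 yd7 zd1) (kd xd24 yd47 zd51) (kd xd11 yd34 zd18) (kd xd28 yd43 zd38) (kd xd19 yd11 zd53) (kd xd10 yd39 zd36) (kd xd16 yd29 zd40) (kd xd28 yd41 zd2) (kd xd24 yd20 zd50) (kd xd10 yd39 zd42) (kd xd19 yd3 zd21) (kd xd19 yd3 zd22) (kd xd28 yd43 zd49) (kd xd13 yd21 zd57) (kd xd14 yd1 zd56) (kd xd21 yd12 zd28) (kd xd10 yd39 zd44) (kd xd27 yd40 zd39) (kd xd20 yd24 zd11) (kd xd10 yd39 zd45) (kd xd28 yd40 zd52) (kd xd28 yd43 zd58) (kd xd10 yd39 zd46) (kd xd26 yd25 zd57) (kd xd28 yd41 zd40) (kd xd28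 yd43 zd59) (kd xd24 yd47 zd15) (kd xd10 yd39 zd51) (kd xd20 yd34 zd8) (kd xd10 yd39 zd53) (kd xd24 yd21 zd5) (kd xd28 yd44 zd0) (kd xd19 yd3 zd38) (kd xd19 yd3 zd40) (kd xd28 yd44 zd3) (kd xd28 yd44 zd4) (kd xd26 yd12 zd2) (kd xd28 yd44 zd5) (kd xd10 yd39 zd58) (kd xd22 yd32 zd3) (kd xd19 yd13 zd19) (kd xd13 yd3 zd17) (kd xd21 yd26 zd47) (kd xd14 yd31 zd24) (kd xd14 yd19 zd55) (kd xd28 yd44 zd12) (kd xd10 yd40 zd0) (kd xd20 yd28 zd44)) (@D3.rec (fun _ => Pt) (kd xd15 yd47 zd54) (kd xd14 yd40 zd42) (kd xd19 yd16 zd0) (kd xd22 yd36 zd36) (kd xd10 yd40 zd4) (kd xd14 yd19 zd56) (kd xd10 yd40 zd6) (kd xd28 yd44 zd19) (kd xd15 yd27 zd43) (kd xd14 yd39 zd1) (kd xd19 yd30 zd60) (kd xd19 yd16 zd26) (kd xd10 yd40 zd8) (kd xd14 yd39 zd2) (kd xd24 yd12 zd4) (kd xd10 yd40 zd11)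 (kd xd10 yd40 zd12) (kd xd28 yd44 zd23) (kd xd10 yd40 zd14) (kd xd27 yd21 zd10) (kd xd10 yd40 zd15) (kd xd28 yd44 zd26) (kd xd28 yd44 zd31) (kd xd28 yd44 zd34) (kd xd28 yd44 zd35) (kd xd10 yd40 zd16) (kd xd28 yd44 zd37) (kd xd20 yd55 zd2) (kd xd10 yd40 zd18) (kd xd16 yd21 zd30) (kd xd20 yd40 zd43) (kd xd25 yd57 zd4) (kd xd25 yd57 zd3) (kd xd28 yd44 zd43) (kd xd10 yd40 zd20) (kd xd17 yd32 zd46) (kd xd20 yd39 zd58) (kd xd13 yd1 zd50) (kd xd24 yd14 zd17) (kd xd10 yd40 zd23) (kd xd10 yd40 zd24) (kd xd28 yd34 zd31) (kd xd10 yd40 zd26) (kd xd18 yd1 zd55) (kd xd15 yd58 zd31) (kd xd10 yd40 zd29) (kd xd17 yd32 zd53) (kd xd15 yd36 zd43) (kd xd15 yd36 zd44) (kd xd16 yd59 zd18) (kd xd20 yd15 zd19) (kd xd20 yd15 zd22) (kd xd10 yd40 zd33) (kd xd28 yd44 zd53) (kd xd10 yd40 zd34) (kd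 xd22 yd17 zd32) (kd xd16 yd17 zd50) (kd xd16 yd1 zd45) (kd xd28 yd44 zd56) (kd xd22 yd42 zd48) (kd xd28 yd44 zd58) (kd xd28 yd44 zd59)) (@D3.rec (fun _ => Pt) (kd xd11 yd0 zd60) (kd xd21 yd58 zd15) (kd xd22 yd14 zd18) (kd xd15 yd50 zd53) (kd xd28 yd45 zd2) (kd xd28 yd45 zd3) (kd xd10 yd40 zd41) (kd xd28 yd45 zd5) (kd xd28 yd20 zd11) (kd xd28 yd34 zd46) (kd xd24 yd58 zd31) (kd xd10 yd40 zd48) (kd xd18 yd57 zd49) (kd xd20 yd37 zd55) (kd xd28 yd45 zd9) (kd xd17 yd10 zd8) (kd xd10 yd40 zd51) (kd xd10 yd40 zd52) (kd xd28 yd45 zd11) (kd xd10 yd40 zd55) (kd xd20 yd37 zd45) (kd xd15 yd1 zd33) (kd xd15 yd1 zd34) (kd xd28 yd45 zd15) (kd xd28 yd45 zd18) (kd xd10 yd40 zd57) (kd xd28 yd45 zd23) (kd xd10 yd40 zd58) (kd xd23 yd11 zd35) (kd xd28 yd45 zd26) (kd xd10 yd40 zd59) (kd xd28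 yd45 zd30) (kd xd18 yd35 zd32) (kd xd17 yd47 zd52) (kd xd25 yd20 zd23) (kd xd10 yd41 zd0) (kd xd28 yd45 zd34) (kd xd11 yd9 zd35) (kd xd14 yd13 zd31) (kd xd19 yd22 zd32) (kd xd11 yd1 zd11) (kd xd21 yd38 zd46) (kd xd10 yd41 zd10) (kd xd10 yd41 zd11) (kd xd28 yd45 zd38) (kd xd26 yd51 zd31) (kd xd10 yd41 zd13) (kd xd10 yd41 zd14) (kd xd10 yd41 zd15) (kd xd28 yd45 zd41) (kd xd25 yd14 zd55) (kd xd24 yd13 zd29) (kd xd21 yd9 zd18) (kd xd10 yd41 zd18) (kd xd26 yd50 zd57) (kd xd10 yd41 zd17) (kd xd28 yd45 zd43) (kd xd12 yd48 zd58) (kd xd10 yd41 zd20) (kd xd16 yd43 zd47) (kd xd11 yd1 zd9) (kd xd17 yd55 zd12)) (@D3.rec (fun _ => Pt) (kd xd10 yd41 zd23) (kd xd10 yd41 zd22) (kd xd28 yd45 zd45) (kd xd26 yd43 zd38) (kd xd23 yd48 zd39) (kd xd28 yd45 zd47) (kd xd28 yd45 zd48) (kd xd28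 yd14 zd27) (kd xd10 yd41 zd25) (kd xd28 yd45 zd52) (kd xd26 yd51 zd32) (kd xd14 yd20 zd36) (kd xd10 yd41 zd28) (kd xd20 yd31 zd55) (kd xd28 yd45 zd54) (kd xd10 yd41 zd30) (kd xd10 yd41 zd33) (kd xd13 yd7 zd55) (kd xd19 yd10 zd35) (kd xd13 yd53 zd39) (kd xd13 yd7 zd54) (kd xd11 yd1 zd10) (kd xd18 yd1 zd41) (kd xd19 yd50 zd15) (kd xd10 yd41 zd38) (kd xd28 yd35 zd57) (kd xd10 yd41 zd39) (kd xd22 yd14 zd43) (kd xd10 yd41 zd40) (kd xd26 yd51 zd21) (kd xd23 yd45 zd40) (kd xd25 yd14 zd3) (kd xd26 yd51 zd24) (kd xd26 yd52 zd57) (kd xd26 yd52 zd54) (kd xd28 yd45 zd61) (kd xd25 yd14 zd1) (kd xd25 yd50 zd21) (kd xd28 yd46 zd5) (kd xd28 yd45 zd50) (kd xd14 yd25 zd13) (kd xd28 yd46 zd10) (kd xd10 yd41 zd48) (kd xd28 yd46 zd15) (kd xd26 yd57 zd21) (kd xd10 yd41 zd49) (kd xd23 yd45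 zd37) (kd xd28 yd46 zd20) (kd xd28 yd46 zd21) (kd xd10 yd41 zd51) (kd xd10 yd48 zd25) (kd xd10 yd41 zd52) (kd xd28 yd46 zd26) (kd xd10 yd48 zd23) (kd xd10 yd41 zd53) (kd xd10 yd41 zd54) (kd xd13 yd4 zd20) (kd xd11 yd0 zd3) (kd xd11 yd0 zd40) (kd xd14 yd19 zd27) (kd xd10 yd41 zd57) (kd xd13 yd16 zd29)) (@D3.rec (fun _ => Pt) (kd xd14 yd15 zd23) (kd xd10 yd41 zd56) (kd xd13 yd53 zd43) (kd xd28 yd46 zd31) (kd xd28 yd46 zd35) (kd xd13 yd4 zd50) (kd xd10 yd41 zd58) (kd xd28 yd46 zd38) (kd xd28 yd46 zd39) (kd xd13 yd4 zd49) (kd xd10 yd41 zd59) (kd xd28 yd35 zd54) (kd xd17 yd19 zd21) (kd xd17 yd19 zd20) (kd xd10 yd41 zd61) (kd xd19 yd52 zd51) (kd xd15 yd26 zd51) (kd xd28 yd46 zd45) (kd xd12 yd42 zd35) (kd xd11 yd57 zd31) (kd xd10 yd42 zd1) (kd xd28 yd46 zd46) (kd xd15 yd59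 zd41) (kd xd22 yd26 zd36) (kd xd23 yd36 zd36) (kd xd28 yd6 zd26) (kd xd20 yd47 zd45) (kd xd20 yd47 zd37) (kd xd10 yd42 zd5) (kd xd22 yd26 zd37) (kd xd10 yd42 zd6) (kd xd27 yd22 zd12) (kd xd19 yd20 zd39) (kd xd11 yd39 zd9) (kd xd10 yd42 zd8) (kd xd28 yd9 zd6) (kd xd28 yd46 zd53) (kd xd17 yd47 zd8) (kd xd10 yd42 zd10) (kd xd28 yd46 zd56) (kd xd28 yd46 zd59) (kd xd10 yd42 zd11) (kd xd28 yd46 zd61) (kd xd27 yd36 zd8) (kd xd10 yd54 zd28) (kd xd25 yd4 zd46) (kd xd10 yd42 zd14) (kd xd20 yd2 zd47) (kd xd10 yd42 zd17) (kd xd18 yd11 zd5) (kd xd18 yd10 zd32) (kd xd28 yd47 zd6) (kd xd22 yd20 zd22) (kd xd22 yd20 zd57) (kd xd23 yd51 zd56) (kd xd10 yd42 zd19) (kd xd28 yd47 zd9) (kd xd10 yd42 zd20) (kd xd18 yd20 zd58) (kd xd27 yd51 zd18) (kd xd28 yd47 zd13) (kd xd28 yd47 zd15)) (@D3.rec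 (fun _ => Pt) (kd xd10 yd42 zd22) (kd xd28 yd36 zd25) (kd xd28 yd47 zd17) (kd xd10 yd42 zd23) (kd xd10 yd42 zd24) (kd xd28 yd47 zd20) (kd xd27 yd59 zd53) (kd xd10 yd42 zd26) (kd xd13 yd6 zd40) (kd xd12 yd22 zd12) (kd xd13 yd3 zd0) (kd xd24 yd53 zd42) (kd xd24 yd53 zd41) (kd xd12 yd4 zd38) (kd xd24 yd16 zd10) (kd xd20 yd43 zd5) (kd xd10 yd42 zd31) (kd xd16 yd22 zd8) (kd xd10 yd42 zd33) (kd xd21 yd3 zd59) (kd xd28 yd47 zd26) (kd xd10 yd42 zd35) (kd xd15 yd45 zd5) (kd xd28 yd47 zd27) (kd xd10 yd42 zd37) (kd xd21 yd42 zd7) (kd xd18 yd0 zd50) (kd xd12 yd5 zd2) (kd xd28 yd47 zd30) (kd xd10 yd42 zd46) (kd xd11 yd44 zd31) (kd xd17 yd19 zd0) (kd xd10 yd42 zd48) (kd xd10 yd42 zd49) (kd xd26 yd48 zd17) (kd xd19 yd53 zd60) (kd xd10 yd42 zd52) (kd xd10 yd42 zd53) (kd xd25 yd52 zd2)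 (kd xd25 yd52 zd1) (kd xd26 yd23 zd30) (kd xd10 yd42 zd54) (kd xd18 yd45 zd41) (kd xd10 yd54 zd19) (kd xd10 yd54 zd26) (kd xd19 yd5 zd14) (kd xd11 yd15 zd22) (kd xd11 yd16 zd9) (kd xd17 yd22 zd28) (kd xd26 yd30 zd15) (kd xd28 yd47 zd42) (kd xd21 yd15 zd24) (kd xd18 yd54 zd10) (kd xd21 yd30 zd32) (kd xd12 yd3 zd59) (kd xd21 yd9 zd28) (kd xd24 yd47 zd0) (kd xd10 yd43 zd0) (kd xd10 yd43 zd1) (kd xd28 yd47 zd48) (kd xd10 yd43 zd59) (kd xd12 yd9 zd22)) (@D3.rec (fun _ => Pt) (kd xd23 yd53 zd30) (kd xd10 yd43 zd3) (kd xd10 yd43 zd57) (kd xd24 yd28 zd54) (kd xd10 yd43 zd5) (kd xd28 yd47 zd56) (kd xd10 yd43 zd6) (kd xd19 yd53 zd28) (kd xd28 yd47 zd58) (kd xd10 yd43 zd8) (kd xd22 yd35 zd47) (kd xd10 yd47 zd31) (kd xd28 yd21 zd54) (kd xd28 yd48 zd2) (kd xd28 yd35 zd53) (kd xd19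 yd43 zd50) (kd xd21 yd9 zd25) (kd xd10 yd43 zd17) (kd xd16 yd53 zd42) (kd xd21 yd1 zd32) (kd xd12 yd54 zd31) (kd xd10 yd43 zd21) (kd xd19 yd51 zd44) (kd xd10 yd44 zd14) (kd xd10 yd49 zd45) (kd xd28 yd48 zd8) (kd xd12 yd30 zd1) (kd xd28 yd48 zd11) (kd xd11 yd24 zd45) (kd xd14 yd27 zd5) (kd xd14 yd27 zd8) (kd xd24 yd7 zd15) (kd xd10 yd43 zd29) (kd xd25 yd33 zd54) (kd xd15 yd41 zd2) (kd xd21 yd5 zd35) (kd xd10 yd43 zd31) (kd xd26 yd4 zd56) (kd xd11 yd43 zd4) (kd xd10 yd43 zd33) (kd xd25 yd28 zd34) (kd xd26 yd26 zd11) (kd xd25 yd11 zd39) (kd xd10 yd43 zd34) (kd xd24 yd58 zd25) (kd xd10 yd43 zd37) (kd xd10 yd44 zd32) (kd xd10 yd44 zd33) (kd xd22 yd20 zd30) (kd xd27 yd11 zd7) (kd xd10 yd43 zd39) (kd xd16 yd0 zd6) (kd xd17 yd22 zd4) (kd xd21 yd34 zd61) (kd xd28 yd48 zd31)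 (kd xd27 yd21 zd53) (kd xd23 yd10 zd8) (kd xd10 yd43 zd45) (kd xd11 yd9 zd16) (kd xd17 yd53 zd37) (kd xd10 yd43 zd47) (kd xd25 yd24 zd44)) (@D3.rec (fun _ => Pt) (kd xd10 yd43 zd48) (kd xd25 yd49 zd44) (kd xd10 yd43 zd49) (kd xd12 yd49 zd38) (kd xd10 yd44 zd46) (kd xd10 yd52 zd39) (kd xd28 yd1 zd15) (kd xd25 yd57 zd9) (kd xd10 yd43 zd52) (kd xd12 yd15 zd18) (kd xd28 yd48 zd36) (kd xd10 yd43 zd55) (kd xd17 yd21 zd1) (kd xd17 yd21 zd2) (kd xd26 yd50 zd15) (kd xd19 yd16 zd22) (kd xd10 yd43 zd58) (kd xd28 yd47 zd49) (kd xd10 yd43 zd60) (kd xd22 yd23 zd47) (kd xd11 yd55 zd1) (kd xd20 yd50 zd47) (kd xd24 yd24 zd35) (kd xd28 yd48 zd45) (kd xd28 yd48 zd47) (kd xd10 yd44 zd0) (kd xd11 yd55 zd0) (kd xd22 yd1 zd2) (kd xd22 yd1 zd3) (kd xd10 yd44 zd2) (kd xd24 yd25 zd32) (kd xd28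 yd48 zd52) (kd xd10 yd44 zd3) (kd xd28 yd48 zd57) (kd xd10 yd44 zd4) (kd xd16 yd44 zd25) (kd xd26 yd36 zd56) (kd xd10 yd44 zd6) (kd xd28 yd49 zd3) (kd xd10 yd44 zd7) (kd xd25 yd55 zd36) (kd xd28 yd49 zd7) (kd xd15 yd35 zd13) (kd xd27 yd16 zd16) (kd xd10 yd44 zd12) (kd xd10 yd44 zd15) (kd xd10 yd44 zd17) (kd xd28 yd49 zd12) (kd xd24 yd36 zd26) (kd xd28 yd49 zd15) (kd xd20 yd28 zd16) (kd xd16 yd44 zd61) (kd xd23 yd6 zd52) (kd xd28 yd49 zd17) (kd xd22 yd27 zd27) (kd xd20 yd0 zd15) (kd xd11 yd10 zd23) (kd xd24 yd7 zd52) (kd xd23 yd56 zd19) (kd xd21 yd3 zd54) (kd xd10 yd44 zd34) (kd xd11 yd54 zd34)) (@D3.rec (fun _ => Pt) (kd xd11 yd54 zd35) (kd xd27 yd13 zd12) (kd xd26 yd54 zd53) (kd xd11 yd54 zd31) (kd xd26 yd44 zd36) (kd xd11 yd54 zd33) (kd xd17 yd43 zd14) (kd xd15 yd58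 zd15) (kd xd15 yd58 zd14) (kd xd26 yd42 zd10) (kd xd15 yd15 zd9) (kd xd11 yd4 zd10) (kd xd16 yd26 zd27) (kd xd10 yd44 zd43) (kd xd17 yd19 zd26) (kd xd28 yd49 zd29) (kd xd10 yd44 zd45) (kd xd12 yd48 zd59) (kd xd10 yd44 zd48) (kd xd28 yd41 zd4) (kd xd10 yd44 zd49) (kd xd28 yd43 zd40) (kd xd20 yd51 zd27) (kd xd10 yd44 zd52) (kd xd28 yd49 zd31) (kd xd10 yd44 zd54) (kd xd28 yd49 zd33) (kd xd19 yd56 zd26) (kd xd10 yd44 zd55) (kd xd11 yd57 zd13) (kd xd11 yd57 zd14) (kd xd14 yd55 zd35) (kd xd28 yd49 zd38) (kd xd23 yd28 zd33) (kd xd28 yd49 zd41) (kd xd10 yd44 zd57) (kd xd15 yd0 zd9) (kd xd28 yd49 zd44) (kd xd28 yd49 zd45) (kd xd10 yd44 zd59) (kd xd14 yd42 zd46) (kd xd15 yd44 zd21) (kd xd21 yd50 zd1) (kd xd10 yd45 zd1) (kd xd12 yd15 zd33) (kd xd10 yd45 zd3) (kd xd19 yd38 zd45)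 (kd xd15 yd41 zd18) (kd xd10 yd45 zd6) (kd xd27 yd4 zd59) (kd xd10 yd45 zd7) (kd xd16 yd48 zd27) (kd xd10 yd45 zd10) (kd xd10 yd45 zd11) (kd xd28 yd49 zd49) (kd xd10 yd45 zd12) (kd xd10 yd45 zd13) (kd xd20 yd7 zd20) (kd xd16 yd13 zd7) (kd xd10 yd45 zd15) (kd xd28 yd49 zd53) (kd xd24 yd35 zd22)) (@D3.rec (fun _ => Pt) (kd xd24 yd36 zd48) (kd xd10 yd45 zd17) (kd xd17 yd24 zd11) (kd xd10 yd45 zd19) (kd xd20 yd34 zd10) (kd xd10 yd45 zd20) (kd xd28 yd49 zd56) (kd xd28 yd49 zd57) (kd xd10 yd45 zd21) (kd xd28 yd50 zd0) (kd xd28 yd49 zd60) (kd xd20 yd59 zd29) (kd xd14 yd39 zd19) (kd xd22 yd49 zd23) (kd xd10 yd45 zd24) (kd xd23 yd12 zd17) (kd xd23 yd12 zd20) (kd xd10 yd45 zd23) (kd xd16 yd32 zd7) (kd xd10 yd45 zd25) (kd xd20 yd8 zd34) (kd xd10 yd45 zd26) (kd xd10 yd45 zd27)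 (kd xd15 yd44 zd19) (kd xd11 yd13 zd18) (kd xd20 yd46 zd58) (kd xd10 yd45 zd30) (kd xd10 yd45 zd31) (kd xd28 yd50 zd10) (kd xd28 yd50 zd11) (kd xd26 yd57 zd1) (kd xd26 yd57 zd0) (kd xd10 yd45 zd33) (kd xd18 yd2 zd17) (kd xd11 yd0 zd33) (kd xd12 yd10 zd30) (kd xd11 yd0 zd57) (kd xd12 yd55 zd24) (kd xd22 yd22 zd49) (kd xd14 yd31 zd37) (kd xd17 yd34 zd38) (kd xd22 yd6 zd16) (kd xd22 yd6 zd15) (kd xd10 yd45 zd42) (kd xd21 yd31 zd44) (kd xd10 yd48 zd27) (kd xd11 yd0 zd50) (kd xd11 yd49 zd45) (kd xd20 yd34 zd7) (kd xd14 yd19 zd52) (kd xd19 yd40 zd35) (kd xd14 yd19 zd51) (kd xd19 yd32 zd41) (kd xd20 yd18 zd52) (kd xd15 yd47 zd40) (kd xd11 yd1 zd56) (kd xd11 yd43 zd56) (kd xd11 yd46 zd43) (kd xd12 yd38 zd45) (kd xd10 yd45 zd54) (kd xd19 yd36 zd7) (kd xd28 yd50 zd19)) (@D3.rec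 (fun _ => Pt) (kd xd10 yd45 zd55) (kd xd23 yd12 zd26) (kd xd28 yd50 zd21) (kd xd10 yd45 zd56) (kd xd28 yd15 zd20) (kd xd10 yd45 zd57) (kd xd24 yd19 zd22) (kd xd10 yd46 zd17) (kd xd10 yd46 zd18) (kd xd20 yd41 zd2) (kd xd14 yd36 zd16) (kd xd14 yd36 zd15) (kd xd27 yd15 zd41) (kd xd27 yd15 zd42) (kd xd24 yd22 zd54) (kd xd24 yd15 zd55) (kd xd10 yd45 zd61) (kd xd19 yd29 zd42) (kd xd27 yd19 zd35) (kd xd25 yd48 zd28) (kd xd25 yd32 zd23) (kd xd25 yd53 zd19) (kd xd24 yd0 zd5) (kd xd10 yd46 zd2) (kd xd19 yd30 zd24) (kd xd19 yd41 zd20) (kd xd28 yd50 zd33) (kd xd28 yd50 zd36) (kd xd10 yd46 zd5) (kd xd24 yd1 zd9) (kd xd28 yd50 zd44) (kd xd28 yd50 zd46) (kd xd10 yd46 zd6) (kd xd28 yd50 zd51) (kd xd10 yd53 zd25) (kd xd10 yd53 zd26) (kd xd10 yd55 zd55) (kd xd19 yd31 zd0) (kd xd13 yd5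 zd35) (kd xd10 yd46 zd11) (kd xd14 yd41 zd49) (kd xd23 yd46 zd33) (kd xd10 yd46 zd13) (kd xd21 yd53 zd20) (kd xd25 yd47 zd30) (kd xd22 yd22 zd48) (kd xd13 yd45 zd49) (kd xd28 yd32 zd40) (kd xd21 yd6 zd9) (kd xd14 yd28 zd59) (kd xd24 yd31 zd50) (kd xd10 yd46 zd19) (kd xd24 yd25 zd10) (kd xd28 yd51 zd1) (kd xd28 yd51 zd3) (kd xd28 yd39 zd8) (kd xd24 yd21 zd28) (kd xd10 yd46 zd21) (kd xd24 yd25 zd9) (kd xd10 yd46 zd22) (kd xd10 yd46 zd23) (kd xd25 yd52 zd22)) (@D3.rec (fun _ => Pt) (kd xd20 yd48 zd30) (kd xd10 yd46 zd24) (kd xd15 yd55 zd34) (kd xd25 yd32 zd7) (kd xd10 yd46 zd26) (kd xd28 yd51 zd15) (kd xd10 yd46 zd27) (kd xd19 yd16 zd29) (kd xd28 yd48 zd28) (kd xd28 yd51 zd18) (kd xd10 yd46 zd30) (kd xd20 yd49 zd60) (kd xd26 yd45 zd45) (kd xd28 yd8 zd5) (kd xd10 yd46 zd31)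 (kd xd28 yd51 zd26) (kd xd28 yd51 zd30) (kd xd28 yd51 zd32) (kd xd10 yd46 zd33) (kd xd28 yd51 zd35) (kd xd26 yd26 zd55) (kd xd10 yd55 zd31) (kd xd14 yd19 zd26) (kd xd19 yd50 zd30) (kd xd18 yd21 zd13) (kd xd10 yd46 zd38) (kd xd28 yd51 zd41) (kd xd16 yd44 zd0) (kd xd16 yd44 zd1) (kd xd11 yd7 zd55) (kd xd28 yd33 zd9) (kd xd28 yd51 zd49) (kd xd28 yd51 zd51) (kd xd10 yd46 zd40) (kd xd28 yd51 zd55) (kd xd27 yd15 zd19) (kd xd22 yd13 zd37) (kd xd10 yd46 zd41) (kd xd28 yd51 zd60) (kd xd23 yd13 zd19) (kd xd10 yd46 zd42) (kd xd17 yd21 zd32) (kd xd19 yd28 zd17) (kd xd28 yd16 zd45) (kd xd10 yd46 zd44) (kd xd28 yd52 zd9) (kd xd10 yd46 zd45) (kd xd25 yd59 zd38) (kd xd24 yd46 zd22) (kd xd25 yd59 zd41) (kd xd19 yd5 zd10) (kd xd14 yd23 zd19) (kd xd10 yd46 zd48) (kd xd28 yd52 zd15) (kd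 xd15 yd51 zd2) (kd xd15 yd51 zd3) (kd xd28 yd52 zd21) (kd xd28 yd52 zd22) (kd xd28 yd52 zd26) (kd xd28 yd52 zd29) (kd xd10 yd46 zd50) (kd xd28 yd52 zd33)) (@D3.rec (fun _ => Pt) (kd xd22 yd1 zd10) (kd xd22 yd0 zd4) (kd xd10 yd46 zd51) (kd xd28 yd52 zd40) (kd xd15 yd55 zd23) (kd xd28 yd52 zd43) (kd xd10 yd46 zd53) (kd xd17 yd3 zd42) (kd xd19 yd17 zd20) (kd xd13 yd45 zd39) (kd xd22 yd20 zd31) (kd xd14 yd30 zd55) (kd xd10 yd46 zd56) (kd xd28 yd52 zd47) (kd xd15 yd52 zd10) (kd xd28 yd21 zd36) (kd xd22 yd27 zd51) (kd xd28 yd52 zd56) (kd xd10 yd46 zd58) (kd xd28 yd52 zd58) (kd xd28 yd52 zd60) (kd xd27 yd6 zd45) (kd xd10 yd46 zd59) (kd xd28 yd53 zd0) (kd xd19 yd28 zd24) (kd xd28 yd17 zd35) (kd xd10 yd46 zd61) (kd xd28 yd53 zd4) (kd xd10 yd47 zd0) (kd xd11 yd46 zd18) (kd xd25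 yd59 zd23) (kd xd28 yd53 zd11) (kd xd28 yd53 zd13) (kd xd10 yd47 zd3) (kd xd13 yd11 zd13) (kd xd28 yd53 zd15) (kd xd28 yd53 zd16) (kd xd10 yd47 zd4) (kd xd28 yd53 zd21) (kd xd28 yd53 zd23) (kd xd28 yd53 zd26) (kd xd28 yd53 zd28) (kd xd10 yd47 zd6) (kd xd28 yd53 zd31) (kd xd26 yd44 zd6) (kd xd10 yd53 zd44) (kd xd10 yd53 zd47) (kd xd24 yd6 zd35) (kd xd20 yd52 zd43) (kd xd28 yd53 zd39) (kd xd19 yd51 zd33) (kd xd10 yd47 zd11) (kd xd28 yd53 zd44) (kd xd22 yd41 zd16) (kd xd14 yd43 zd20) (kd xd22 yd56 zd15) (kd xd28 yd53 zd46) (kd xd24 yd34 zd31) (kd xd10 yd47 zd19) (kd xd11 yd55 zd61) (kd xd19 yd19 zd10) (kd xd19 yd4 zd46)) (@D3.rec (fun _ => Pt) (kd xd19 yd28 zd37) (kd xd10 yd47 zd23) (kd xd14 yd49 zd43) (kd xd15 yd55 zd42) (kd xd14 yd22 zd28) (kd xd22 yd56 zd17) (kd xd16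 yd26 zd33) (kd xd24 yd4 zd22) (kd xd28 yd53 zd50) (kd xd10 yd47 zd30) (kd xd19 yd40 zd27) (kd xd15 yd9 zd36) (kd xd11 yd54 zd26) (kd xd14 yd19 zd21) (kd xd28 yd53 zd53) (kd xd10 yd47 zd32) (kd xd24 yd19 zd37) (kd xd14 yd22 zd27) (kd xd14 yd34 zd6) (kd xd25 yd52 zd23) (kd xd10 yd47 zd34) (kd xd25 yd56 zd47) (kd xd14 yd31 zd48) (kd xd14 yd31 zd47) (kd xd24 yd13 zd32) (kd xd10 yd47 zd36) (kd xd25 yd10 zd50) (kd xd25 yd12 zd42) (kd xd28 yd54 zd2) (kd xd25 yd36 zd52) (kd xd10 yd47 zd38) (kd xd16 yd36 zd58) (kd xd15 yd32 zd61) (kd xd15 yd33 zd0) (kd xd25 yd26 zd17) (kd xd10 yd47 zd40) (kd xd19 yd38 zd36) (kd xd15 yd19 zd19) (kd xd18 yd22 zd11) (kd xd28 yd54 zd10) (kd xd10 yd47 zd43) (kd xd25 yd22 zd26) (kd xd20 yd58 zd47) (kd xd22 yd4 zd2) (kd xd10 yd47 zd46) (kd xd28 yd54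 zd17) (kd xd26 yd1 zd24) (kd xd28 yd54 zd20) (kd xd28 yd54 zd23) (kd xd28 yd54 zd25) (kd xd10 yd47 zd48) (kd xd28 yd54 zd28) (kd xd28 yd54 zd29) (kd xd28 yd54 zd31) (kd xd10 yd47 zd49) (kd xd28 yd54 zd35) (kd xd27 yd16 zd31) (kd xd10 yd47 zd50) (kd xd20 yd58 zd51) (kd xd10 yd47 zd51) (kd xd11 yd53 zd49) (kd xd11 yd52 zd26)) (@D3.rec (fun _ => Pt) (kd xd13 yd4 zd11) (kd xd10 yd47 zd53) (kd xd28 yd54 zd48) (kd xd10 yd47 zd54) (kd xd28 yd54 zd49) (kd xd10 yd47 zd55) (kd xd26 yd37 zd50) (kd xd27 yd14 zd44) (kd xd10 yd47 zd58) (kd xd22 yd43 zd53) (kd xd28 yd54 zd53) (kd xd10 yd47 zd60) (kd xd10 yd48 zd0) (kd xd15 yd49 zd22) (kd xd21 yd9 zd35) (kd xd16 yd52 zd35) (kd xd15 yd27 zd18) (kd xd12 yd44 zd36) (kd xd28 yd54 zd58) (kd xd20 yd9 zd41) (kd xd27 yd16 zd21) (kd xd10 yd48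 zd6) (kd xd11 yd17 zd31) (kd xd10 yd48 zd11) (kd xd28 yd54 zd59) (kd xd13 yd57 zd27) (kd xd10 yd48 zd14) (kd xd28 yd54 zd60) (kd xd10 yd48 zd17) (kd xd10 yd48 zd18) (kd xd10 yd48 zd20) (kd xd10 yd48 zd26) (kd xd28 yd46 zd22) (kd xd16 yd55 zd19) (kd xd10 yd48 zd28) (kd xd28 yd33 zd40) (kd xd10 yd48 zd29) (kd xd13 yd2 zd10) (kd xd28 yd55 zd0) (kd xd18 yd23 zd19) (kd xd19 yd44 zd10) (kd xd19 yd27 zd52) (kd xd23 yd38 zd60) (kd xd18 yd35 zd10) (kd xd19 yd58 zd29) (kd xd24 yd52 zd42) (kd xd24 yd50 zd40) (kd xd10 yd48 zd39) (kd xd19 yd59 zd30) (kd xd26 yd37 zd60) (kd xd10 yd48 zd42) (kd xd28 yd55 zd6) (kd xd10 yd48 zd43) (kd xd28 yd55 zd11) (kd xd23 yd2 zd29) (kd xd16 yd30 zd28) (kd xd11 yd11 zd53) (kd xd15 yd4 zd35) (kd xd10 yd48 zd46) (kd xd25 yd20 zd7) (kd xd15 yd2 zd14)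 (kd xd10 yd48 zd47)) (@D3.rec (fun _ => Pt) (kd xd15 yd47 zd56) (kd xd28 yd55 zd17) (kd xd28 yd55 zd20) (kd xd28 yd55 zd22) (kd xd10 yd48 zd49) (kd xd28 yd55 zd25) (kd xd24 yd52 zd53) (kd xd15 yd46 zd14) (kd xd10 yd48 zd50) (kd xd28 yd55 zd27) (kd xd10 yd48 zd51) (kd xd17 yd9 zd12) (kd xd21 yd37 zd37) (kd xd28 yd55 zd30) (kd xd28 yd55 zd31) (kd xd28 yd55 zd32) (kd xd10 yd48 zd53) (kd xd16 yd31 zd11) (kd xd11 yd12 zd41) (kd xd10 yd48 zd58) (kd xd16 yd20 zd21) (kd xd17 yd52 zd16) (kd xd17 yd52 zd17) (kd xd18 yd21 zd3) (kd xd18 yd56 zd27) (kd xd28 yd55 zd33) (kd xd10 yd49 zd16) (kd xd28 yd55 zd34) (kd xd10 yd49 zd17) (kd xd14 yd31 zd30) (kd xd25 yd50 zd20) (kd xd10 yd49 zd18) (kd xd28 yd55 zd38) (kd xd10 yd59 zd29) (kd xd11 yd0 zd26) (kd xd28 yd53 zd41) (kd xd28 yd55 zd44)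 (kd xd28 yd55 zd47) (kd xd28 yd55 zd48) (kd xd10 yd49 zd20) (kd xd28 yd55 zd51) (kd xd23 yd53 zd42) (kd xd28 yd14 zd12) (kd xd10 yd49 zd21) (kd xd26 yd32 zd25) (kd xd12 yd31 zd53) (kd xd10 yd49 zd23) (kd xd12 yd49 zd25) (kd xd15 yd4 zd58) (kd xd18 yd59 zd48) (kd xd10 yd49 zd25) (kd xd11 yd8 zd0) (kd xd26 yd38 zd11) (kd xd10 yd49 zd27) (kd xd28 yd55 zd54) (kd xd28 yd55 zd56) (kd xd16 yd41 zd22) (kd xd23 yd48 zd0) (kd xd21 yd57 zd32) (kd xd25 yd18 zd19) (kd xd10 yd49 zd30) (kd xd28 yd55 zd61)) (@D3.rec (fun _ => Pt) (kd xd10 yd49 zd31) (kd xd28 yd56 zd1) (kd xd28 yd53 zd42) (kd xd28 yd56 zd6) (kd xd28 yd56 zd8) (kd xd28 yd56 zd10) (kd xd10 yd49 zd33) (kd xd28 yd56 zd14) (kd xd28 yd56 zd15) (kd xd10 yd49 zd34) (kd xd24 yd24 zd37) (kd xd19 yd43 zd0) (kd xd28 yd56 zd17)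 (kd xd10 yd49 zd38) (kd xd26 yd56 zd14) (kd xd10 yd49 zd39) (kd xd28 yd51 zd0) (kd xd10 yd49 zd41) (kd xd28 yd56 zd21) (kd xd10 yd54 zd55) (kd xd28 yd48 zd6) (kd xd22 yd12 zd55) (kd xd10 yd49 zd44) (kd xd20 yd25 zd57) (kd xd10 yd49 zd46) (kd xd28 yd56 zd22) (kd xd26 yd3 zd50) (kd xd10 yd49 zd47) (kd xd20 yd19 zd48) (kd xd16 yd47 zd1) (kd xd16 yd47 zd2) (kd xd26 yd43 zd27) (kd xd21 yd16 zd9) (kd xd13 yd44 zd18) (kd xd10 yd49 zd49) (kd xd18 yd23 zd38) (kd xd24 yd9 zd29) (kd xd10 yd49 zd51) (kd xd25 yd18 zd46) (kd xd28 yd56 zd29) (kd xd10 yd49 zd53) (kd xd11 yd52 zd29) (kd xd11 yd53 zd58) (kd xd19 yd13 zd50) (kd xd26 yd42 zd39) (kd xd28 yd56 zd38) (kd xd10 yd49 zd55) (kd xd28 yd56 zd41) (kd xd10 yd49 zd56) (kd xd25 yd12 zd15) (kd xd25 yd24 zd35) (kd xd28 yd56 zd43) (kd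 xd24 yd16 zd3) (kd xd10 yd49 zd58) (kd xd10 yd49 zd59) (kd xd12 yd33 zd16) (kd xd21 yd23 zd61) (kd xd10 yd49 zd60) (kd xd19 yd38 zd27) (kd xd26 yd42 zd15) (kd xd26 yd41 zd37) (kd xd25 yd25 zd17)) (@D3.rec (fun _ => Pt) (kd xd28 yd56 zd50) (kd xd10 yd50 zd0) (kd xd19 yd38 zd4) (kd xd19 yd45 zd3) (kd xd15 yd39 zd27) (kd xd15 yd39 zd28) (kd xd24 yd7 zd51) (kd xd28 yd56 zd57) (kd xd10 yd50 zd4) (kd xd10 yd50 zd5) (kd xd25 yd53 zd42) (kd xd28 yd56 zd61) (kd xd10 yd50 zd7) (kd xd22 yd8 zd22) (kd xd28 yd57 zd1) (kd xd25 yd4 zd20) (kd xd10 yd50 zd8) (kd xd13 yd54 zd10) (kd xd10 yd50 zd9) (kd xd28 yd57 zd5) (kd xd10 yd55 zd56) (kd xd25 yd4 zd18) (kd xd28 yd57 zd10) (kd xd28 yd57 zd13) (kd xd28 yd57 zd16) (kd xd10 yd50 zd11) (kd xd28 yd57 zd21) (kd xd28 yd57 zd22) (kd xd10 yd50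 zd12) (kd xd15 yd20 zd10) (kd xd21 yd0 zd24) (kd xd10 yd56 zd36) (kd xd25 yd33 zd45) (kd xd10 yd50 zd15) (kd xd28 yd57 zd33) (kd xd10 yd50 zd16) (kd xd25 yd29 zd33) (kd xd28 yd57 zd34) (kd xd10 yd50 zd18) (kd xd28 yd33 zd18) (kd xd27 yd43 zd56) (kd xd10 yd50 zd20) (kd xd28 yd20 zd30) (kd xd28 yd20 zd31) (kd xd25 yd33 zd18) (kd xd25 yd17 zd21) (kd xd25 yd26 zd40) (kd xd26 yd51 zd17) (kd xd25 yd33 zd19) (kd xd12 yd33 zd52) (kd xd10 yd50 zd27) (kd xd28 yd57 zd45) (kd xd27 yd38 zd59) (kd xd10 yd50 zd30) (kd xd16 yd43 zd8) (kd xd28 yd57 zd48) (kd xd26 yd14 zd44) (kd xd10 yd50 zd31) (kd xd17 yd21 zd41) (kd xd28 yd57 zd54) (kd xd28 yd57 zd56) (kd xd28 yd57 zd58)) (@D3.rec (fun _ => Pt) (kd xd10 yd50 zd33) (kd xd14 yd34 zd28) (kd xd25 yd27 zd50) (kd xd28 yd52 zd44) (kd xd10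 yd50 zd35) (kd xd28 yd58 zd1) (kd xd10 yd50 zd36) (kd xd19 yd27 zd60) (kd xd17 yd39 zd40) (kd xd10 yd50 zd41) (kd xd19 yd42 zd15) (kd xd17 yd57 zd11) (kd xd17 yd53 zd32) (kd xd21 yd10 zd38) (kd xd24 yd8 zd59) (kd xd15 yd50 zd2) (kd xd21 yd47 zd61) (kd xd10 yd50 zd45) (kd xd21 yd39 zd19) (kd xd15 yd15 zd44) (kd xd15 yd15 zd39) (kd xd18 yd22 zd21) (kd xd28 yd58 zd8) (kd xd28 yd58 zd11) (kd xd22 yd2 zd45) (kd xd21 yd27 zd9) (kd xd17 yd28 zd18) (kd xd25 yd25 zd14) (kd xd27 yd39 zd2) (kd xd28 yd58 zd17) (kd xd28 yd58 zd18) (kd xd10 yd50 zd52) (kd xd25 yd29 zd32) (kd xd26 yd45 zd6) (kd xd17 yd27 zd30) (kd xd28 yd58 zd23) (kd xd15 yd59 zd28) (kd xd28 yd58 zd26) (kd xd10 yd50 zd55) (kd xd25 yd5 zd56) (kd xd17 yd27 zd32) (kd xd25 yd36 zd39) (kd xd10 yd56 zd40) (kd xd22 yd54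 zd22) (kd xd28 yd58 zd30) (kd xd25 yd58 zd35) (kd xd25 yd55 zd55) (kd xd27 yd2 zd39) (kd xd10 yd50 zd61) (kd xd28 yd58 zd34) (kd xd10 yd51 zd0) (kd xd15 yd21 zd20) (kd xd16 yd45 zd23) (kd xd17 yd21 zd18) (kd xd26 yd24 zd11) (kd xd16 yd12 zd19) (kd xd26 yd24 zd6) (kd xd16 yd12 zd22) (kd xd28 yd58 zd37) (kd xd10 yd51 zd7) (kd xd12 yd52 zd21) (kd xd27 yd46 zd61)) (@D3.rec (fun _ => Pt) (kd xd19 yd57 zd10) (kd xd25 yd53 zd33) (kd xd28 yd58 zd45) (kd xd28 yd58 zd47) (kd xd24 yd50 zd53) (kd xd10 yd51 zd11) (kd xd24 yd41 zd42) (kd xd10 yd51 zd12) (kd xd12 yd4 zd21) (kd xd27 yd41 zd45) (kd xd21 yd39 zd23) (kd xd10 yd51 zd14) (kd xd22 yd54 zd24) (kd xd28 yd58 zd55) (kd xd10 yd51 zd15) (kd xd12 yd52 zd27) (kd xd28 yd58 zd61) (kd xd28 yd59 zd0) (kd xd10 yd51 zd17) (kd xd28 yd59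 zd2) (kd xd26 yd42 zd36) (kd xd10 yd59 zd23) (kd xd10 yd52 zd56) (kd xd10 yd51 zd19) (kd xd28 yd59 zd8) (kd xd10 yd56 zd13) (kd xd27 yd41 zd35) (kd xd13 yd32 zd44) (kd xd10 yd56 zd14) (kd xd28 yd59 zd12) (kd xd25 yd24 zd22) (kd xd22 yd59 zd39) (kd xd22 yd59 zd38) (kd xd10 yd51 zd22) (kd xd22 yd13 zd38) (kd xd11 yd42 zd46) (kd xd11 yd42 zd47) (kd xd10 yd59 zd26) (kd xd25 yd14 zd4) (kd xd10 yd51 zd24) (kd xd25 yd50 zd8) (kd xd21 yd21 zd5) (kd xd10 yd51 zd25) (kd xd28 yd59 zd22) (kd xd28 yd59 zd23) (kd xd10 yd51 zd27) (kd xd10 yd56 zd7) (kd xd19 yd37 zd49) (kd xd25 yd35 zd61) (kd xd19 yd37 zd47) (kd xd10 yd56 zd10) (kd xd18 yd52 zd41) (kd xd10 yd51 zd31) (kd xd18 yd51 zd29) (kd xd28 yd59 zd24) (kd xd21 yd27 zd24) (kd xd10 yd51 zd32) (kd xd28 yd59 zd27) (kd xd15 yd9 zd0)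 (kd xd21 yd27 zd5) (kd xd10 yd51 zd33) (kd xd25 yd27 zd59)) (@D3.rec (fun _ => Pt) (kd xd25 yd9 zd15) (kd xd10 yd51 zd35) (kd xd28 yd59 zd34) (kd xd24 yd58 zd9) (kd xd19 yd35 zd2) (kd xd16 yd5 zd57) (kd xd25 yd27 zd61) (kd xd25 yd35 zd5) (kd xd22 yd2 zd24) (kd xd28 yd59 zd45) (kd xd10 yd51 zd42) (kd xd20 yd3 zd50) (kd xd25 yd11 zd23) (kd xd10 yd51 zd43) (kd xd28 yd59 zd49) (kd xd25 yd21 zd28) (kd xd25 yd10 zd60) (kd xd19 yd59 zd28) (kd xd10 yd51 zd44) (kd xd25 yd33 zd44) (kd xd19 yd38 zd60) (kd xd28 yd59 zd56) (kd xd10 yd51 zd46) (kd xd21 yd48 zd0) (kd xd15 yd21 zd10) (kd xd10 yd51 zd47) (kd xd15 yd20 zd59) (kd xd19 yd34 zd58) (kd xd19 yd46 zd24) (kd xd25 yd27 zd37) (kd xd15 yd20 zd57) (kd xd10 yd51 zd49) (kd xd29 yd0 zd0) (kd xd24 yd12 zd22) (kd xd10 yd51 zd50) (kd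 xd25 yd33 zd47) (kd xd19 yd31 zd36) (kd xd15 yd53 zd46) (kd xd10 yd51 zd52) (kd xd25 yd31 zd20) (kd xd29 yd0 zd6) (kd xd10 yd51 zd55) (kd xd25 yd31 zd21) (kd xd25 yd11 zd21) (kd xd15 yd16 zd37) (kd xd19 yd26 zd46) (kd xd10 yd51 zd58) (kd xd25 yd35 zd50) (kd xd28 yd57 zd31) (kd xd10 yd52 zd6) (kd xd16 yd0 zd60) (kd xd16 yd0 zd61) (kd xd13 yd43 zd11) (kd xd24 yd3 zd33) (kd xd25 yd43 zd54) (kd xd25 yd43 zd56) (kd xd10 yd52 zd4) (kd xd25 yd35 zd45) (kd xd25 yd8 zd50) (kd xd25 yd11 zd26) (kd xd19 yd38 zd20) (kd xd25 yd9 zd39)) (@D3.rec (fun _ => Pt) (kd xd10 yd52 zd7) (kd xd26 yd43 zd49) (kd xd10 yd52 zd8) (kd xd28 yd50 zd15) (kd xd16 yd41 zd19) (kd xd12 yd30 zd61) (kd xd21 yd57 zd28) (kd xd21 yd57 zd27) (kd xd10 yd52 zd10) (kd xd25 yd25 zd15) (kd xd10 yd52 zd11) (kd xd10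 yd52 zd12) (kd xd17 yd57 zd12) (kd xd27 yd41 zd38) (kd xd10 yd52 zd13) (kd xd29 yd0 zd24) (kd xd16 yd45 zd60) (kd xd29 yd0 zd25) (kd xd22 yd11 zd30) (kd xd10 yd52 zd15) (kd xd29 yd0 zd27) (kd xd16 yd28 zd34) (kd xd10 yd52 zd16) (kd xd21 yd36 zd37) (kd xd15 yd4 zd32) (kd xd18 yd53 zd29) (kd xd10 yd52 zd21) (kd xd28 yd50 zd7) (kd xd19 yd51 zd61) (kd xd11 yd12 zd8) (kd xd10 yd52 zd23) (kd xd15 yd4 zd31) (kd xd10 yd52 zd24) (kd xd25 yd27 zd11) (kd xd16 yd19 zd8) (kd xd29 yd0 zd35) (kd xd17 yd27 zd28) (kd xd10 yd52 zd26) (kd xd29 yd0 zd36) (kd xd23 yd7 zd58) (kd xd10 yd52 zd27) (kd xd23 yd16 zd43) (kd xd20 yd13 zd49) (kd xd10 yd52 zd28) (kd xd10 yd52 zd29) (kd xd11 yd55 zd41) (kd xd10 yd52 zd31) (kd xd29 yd0 zd38) (kd xd10 yd52 zd32) (kd xd25 yd2 zd37) (kd xd11 yd9 zd13)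 (kd xd10 yd52 zd34) (kd xd10 yd57 zd19) (kd xd10 yd52 zd36) (kd xd10 yd56 zd54) (kd xd26 yd53 zd56) (kd xd10 yd52 zd38) (kd xd26 yd27 zd15) (kd xd25 yd23 zd46) (kd xd18 yd23 zd33) (kd xd10 yd52 zd41) (kd xd10 yd52 zd43)) (@D3.rec (fun _ => Pt) (kd xd24 yd56 zd61) (kd xd16 yd46 zd9) (kd xd24 yd0 zd39) (kd xd13 yd59 zd17) (kd xd10 yd52 zd45) (kd xd16 yd58 zd47) (kd xd28 yd49 zd13) (kd xd16 yd4 zd25) (kd xd10 yd52 zd47) (kd xd24 yd36 zd29) (kd xd19 yd40 zd13) (kd xd19 yd46 zd44) (kd xd16 yd5 zd58) (kd xd19 yd40 zd10) (kd xd29 yd0 zd49) (kd xd14 yd51 zd9) (kd xd10 yd52 zd52) (kd xd11 yd10 zd21) (kd xd29 yd0 zd51) (kd xd10 yd52 zd54) (kd xd20 yd9 zd18) (kd xd10 yd52 zd55) (kd xd19 yd53 zd38) (kd xd29 yd0 zd55) (kd xd28 yd59 zd5) (kd xd16 yd5 zd59) (kd xd19 yd59 zd23) (kd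 xd19 yd31 zd10) (kd xd19 yd40 zd29) (kd xd19 yd40 zd28) (kd xd19 yd59 zd32) (kd xd12 yd14 zd1) (kd xd12 yd45 zd53) (kd xd10 yd53 zd6) (kd xd19 yd49 zd6) (kd xd19 yd27 zd50) (kd xd19 yd47 zd21) (kd xd14 yd17 zd45) (kd xd16 yd49 zd5) (kd xd17 yd45 zd11) (kd xd16 yd5 zd55) (kd xd10 yd53 zd12) (kd xd26 yd39 zd10) (kd xd16 yd36 zd20) (kd xd16 yd42 zd32) (kd xd19 yd14 zd11) (kd xd26 yd2 zd13) (kd xd16 yd39 zd5) (kd xd12 yd36 zd30) (kd xd21 yd58 zd3) (kd xd27 yd19 zd43) (kd xd28 yd0 zd18) (kd xd25 yd24 zd53) (kd xd29 yd1 zd3) (kd xd28 yd50 zd54) (kd xd14 yd32 zd5) (kd xd10 yd53 zd27) (kd xd23 yd49 zd56) (kd xd15 yd59 zd7) (kd xd15 yd59 zd8) (kd xd22 yd34 zd43) (kd xd14 yd15 zd16)) (@D3.rec (fun _ => Pt) (kd xd10 yd53 zd29) (kd xd23 yd49 zd57) (kd xd15 yd36 zd8) (kd xd19 yd5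 zd22) (kd xd10 yd53 zd32) (kd xd20 yd59 zd59) (kd xd28 yd46 zd8) (kd xd10 yd53 zd35) (kd xd18 yd54 zd12) (kd xd24 yd40 zd29) (kd xd28 yd15 zd48) (kd xd29 yd1 zd9) (kd xd10 yd53 zd39) (kd xd28 yd0 zd19) (kd xd10 yd53 zd40) (kd xd19 yd51 zd1) (kd xd15 yd45 zd22) (kd xd28 yd44 zd18) (kd xd28 yd35 zd59) (kd xd10 yd53 zd42) (kd xd19 yd28 zd25) (kd xd16 yd49 zd14) (kd xd26 yd33 zd16) (kd xd28 yd57 zd50) (kd xd22 yd21 zd2) (kd xd29 yd1 zd22) (kd xd24 yd27 zd31) (kd xd10 yd53 zd46) (kd xd29 yd1 zd23) (kd xd28 yd53 zd33) (kd xd24 yd12 zd47) (kd xd24 yd46 zd6) (kd xd24 yd46 zd5) (kd xd11 yd6 zd51) (kd xd16 yd44 zd26) (kd xd29 yd1 zd27) (kd xd29 yd1 zd30) (kd xd16 yd44 zd29) (kd xd29 yd1 zd34) (kd xd29 yd1 zd38) (kd xd29 yd1 zd41) (kd xd29 yd1 zd43) (kd xd10 yd53 zd52) (kd xd22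 yd49 zd7) (kd xd10 yd53 zd53) (kd xd23 yd9 zd10) (kd xd29 yd1 zd50) (kd xd17 yd33 zd7) (kd xd29 yd1 zd52) (kd xd16 yd44 zd17) (kd xd29 yd1 zd56) (kd xd23 yd52 zd47) (kd xd27 yd16 zd57) (kd xd23 yd48 zd55) (kd xd10 yd53 zd59) (kd xd29 yd2 zd0) (kd xd16 yd44 zd22) (kd xd28 yd15 zd55) (kd xd29 yd2 zd3) (kd xd29 yd2 zd5) (kd xd10 yd53 zd61) (kd xd29 yd2 zd9)) (@D3.rec (fun _ => Pt) (kd xd18 yd47 zd37) (kd xd19 yd50 zd17) (kd xd14 yd23 zd9) (kd xd18 yd41 zd55) (kd xd27 yd50 zd50) (kd xd17 yd48 zd42) (kd xd29 yd2 zd15) (kd xd10 yd54 zd9) (kd xd20 yd59 zd60) (kd xd26 yd1 zd23) (kd xd27 yd24 zd40) (kd xd18 yd51 zd39) (kd xd28 yd15 zd19) (kd xd28 yd30 zd16) (kd xd10 yd54 zd15) (kd xd19 yd36 zd10) (kd xd15 yd1 zd54) (kd xd10 yd54 zd20) (kd xd29 yd2 zd21) (kd xd19 yd5 zd16) (kd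 xd15 yd14 zd8) (kd xd21 yd15 zd32) (kd xd28 yd46 zd7) (kd xd10 yd54 zd23) (kd xd29 yd2 zd27) (kd xd10 yd54 zd25) (kd xd28 yd15 zd49) (kd xd28 yd47 zd36) (kd xd25 yd47 zd56) (kd xd25 yd47 zd47) (kd xd28 yd31 zd4) (kd xd28 yd55 zd5) (kd xd10 yd54 zd30) (kd xd10 yd54 zd32) (kd xd28 yd18 zd1) (kd xd10 yd54 zd33) (kd xd15 yd45 zd47) (kd xd16 yd51 zd36) (kd xd10 yd54 zd35) (kd xd28 yd31 zd37) (kd xd10 yd54 zd36) (kd xd29 yd2 zd37) (kd xd10 yd54 zd38) (kd xd26 yd54 zd17) (kd xd15 yd24 zd5) (kd xd29 yd2 zd39) (kd xd29 yd2 zd42) (kd xd25 yd20 zd0) (kd xd10 yd54 zd40) (kd xd21 yd35 zd54) (kd xd25 yd22 zd35) (kd xd29 yd2 zd49) (kd xd14 yd24 zd2) (kd xd11 yd54 zd18) (kd xd16 yd59 zd1) (kd xd16 yd59 zd2) (kd xd16 yd49 zd11) (kd xd17 yd8 zd0) (kd xd10 yd54 zd49) (kd xd21 yd15 zd34)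 (kd xd29 yd2 zd53) (kd xd29 yd2 zd55)) (@D3.rec (fun _ => Pt) (kd xd19 yd34 zd11) (kd xd20 yd55 zd60) (kd xd10 yd54 zd56) (kd xd10 yd54 zd57) (kd xd20 yd25 zd32) (kd xd29 yd2 zd57) (kd xd10 yd54 zd59) (kd xd17 yd33 zd4) (kd xd14 yd8 zd0) (kd xd12 yd3 zd55) (kd xd15 yd4 zd4) (kd xd16 yd54 zd46) (kd xd20 yd21 zd48) (kd xd21 yd13 zd28) (kd xd14 yd20 zd4) (kd xd11 yd9 zd9) (kd xd23 yd0 zd22) (kd xd28 yd50 zd23) (kd xd10 yd55 zd4) (kd xd14 yd40 zd27) (kd xd13 yd1 zd55) (kd xd17 yd18 zd8) (kd xd16 yd44 zd53) (kd xd25 yd45 zd55) (kd xd21 yd37 zd51) (kd xd29 yd3 zd4) (kd xd10 yd55 zd7) (kd xd18 yd44 zd58) (kd xd17 yd55 zd13) (kd xd10 yd55 zd8) (kd xd21 yd13 zd14) (kd xd29 yd3 zd7) (kd xd16 yd44 zd27) (kd xd10 yd55 zd9) (kd xd29 yd3 zd9) (kd xd28 yd21 zd46) (kd xd10 yd55 zd10)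 (kd xd18 yd47 zd13) (kd xd26 yd44 zd61) (kd xd22 yd5 zd14) (kd xd17 yd33 zd2) (kd xd11 yd55 zd56) (kd xd27 yd11 zd53) (kd xd10 yd55 zd14) (kd xd17 yd15 zd42) (kd xd26 yd50 zd9) (kd xd24 yd53 zd13) (kd xd21 yd57 zd9) (kd xd24 yd46 zd9) (kd xd29 yd3 zd15) (kd xd19 yd24 zd15) (kd xd17 yd0 zd31) (kd xd23 yd30 zd38) (kd xd17 yd55 zd45) (kd xd10 yd55 zd22) (kd xd17 yd55 zd15) (kd xd10 yd55 zd27) (kd xd21 yd56 zd42) (kd xd24 yd50 zd32) (kd xd10 yd55 zd30) (kd xd28 yd14 zd23) (kd xd28 yd14 zd29)) (@D3.rec (fun _ => Pt) (kd xd12 yd55 zd47) (kd xd10 yd55 zd38) (kd xd16 yd41 zd61) (kd xd29 yd3 zd19) (kd xd28 yd40 zd18) (kd xd10 yd55 zd40) (kd xd19 yd10 zd50) (kd xd12 yd9 zd25) (kd xd22 yd32 zd20) (kd xd13 yd2 zd11) (kd xd19 yd32 zd40) (kd xd17 yd48 zd37) (kd xd24 yd5 zd3) (kd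 xd15 yd21 zd34) (kd xd25 yd50 zd10) (kd xd25 yd22 zd9) (kd xd18 yd14 zd6) (kd xd17 yd52 zd54) (kd xd17 yd52 zd55) (kd xd12 yd28 zd26) (kd xd14 yd32 zd7) (kd xd28 yd57 zd6) (kd xd14 yd32 zd6) (kd xd29 yd3 zd25) (kd xd10 yd55 zd57) (kd xd29 yd3 zd28) (kd xd15 yd15 zd5) (kd xd15 yd15 zd6) (kd xd14 yd30 zd35) (kd xd29 yd3 zd31) (kd xd23 yd28 zd21) (kd xd29 yd3 zd34) (kd xd10 yd55 zd59) (kd xd29 yd3 zd36) (kd xd25 yd36 zd20) (kd xd25 yd36 zd21) (kd xd10 yd55 zd60) (kd xd29 yd3 zd39) (kd xd29 yd3 zd41) (kd xd10 yd55 zd61) (kd xd21 yd21 zd11) (kd xd10 yd56 zd0) (kd xd11 yd54 zd40) (kd xd11 yd54 zd39) (kd xd28 yd47 zd59) (kd xd10 yd56 zd2) (kd xd29 yd3 zd50) (kd xd10 yd56 zd3) (kd xd29 yd3 zd52) (kd xd10 yd56 zd4) (kd xd16 yd36 zd49) (kd xd10 yd56 zd5) (kd xd29 yd3 zd55) (kd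 xd29 yd3 zd56) (kd xd10 yd56 zd6) (kd xd26 yd24 zd3) (kd xd23 yd43 zd15) (kd xd29 yd3 zd59) (kd xd26 yd24 zd1) (kd xd24 yd47 zd7) (kd xd18 yd52 zd54) (kd xd24 yd21 zd12)) (@D3.rec (fun _ => Pt) (kd xd24 yd21 zd15) (kd xd10 yd56 zd11) (kd xd16 yd49 zd10) (kd xd19 yd35 zd3) (kd xd25 yd10 zd6) (kd xd29 yd4 zd4) (kd xd22 yd54 zd47) (kd xd28 yd14 zd19) (kd xd25 yd24 zd23) (kd xd20 yd40 zd41) (kd xd10 yd56 zd15) (kd xd22 yd59 zd40) (kd xd29 yd4 zd7) (kd xd29 yd4 zd8) (kd xd29 yd4 zd10) (kd xd10 yd56 zd17) (kd xd16 yd43 zd6) (kd xd26 yd24 zd10) (kd xd16 yd43 zd9) (kd xd29 yd4 zd14) (kd xd22 yd10 zd47) (kd xd23 yd12 zd12) (kd xd18 yd53 zd35) (kd xd29 yd4 zd19) (kd xd29 yd4 zd20) (kd xd10 yd56 zd21) (kd xd29 yd4 zd27) (kd xd10 yd56 zd22) (kd xd28 yd59 zd7) (kd xd29 yd4 zd31)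 (kd xd10 yd56 zd23) (kd xd29 yd4 zd34) (kd xd20 yd49 zd47) (kd xd11 yd42 zd17) (kd xd16 yd4 zd14) (kd xd10 yd56 zd25) (kd xd16 yd43 zd0) (kd xd17 yd18 zd19) (kd xd16 yd43 zd4) (kd xd12 yd59 zd31) (kd xd29 yd3 zd43) (kd xd29 yd4 zd43) (kd xd10 yd56 zd29) (kd xd17 yd26 zd9) (kd xd29 yd4 zd45) (kd xd24 yd58 zd41) (kd xd10 yd56 zd30) (kd xd17 yd53 zd53) (kd xd15 yd40 zd47) (kd xd15 yd40 zd46) (kd xd29 yd4 zd50) (kd xd10 yd56 zd32) (kd xd23 yd41 zd44) (kd xd29 yd4 zd54) (kd xd10 yd56 zd33) (kd xd28 yd57 zd25) (kd xd15 yd36 zd51) (kd xd26 yd45 zd10) (kd xd28 yd57 zd27) (kd xd29 yd4 zd61) (kd xd29 yd5 zd0) (kd xd10 yd56 zd37)) (@D3.rec (fun _ => Pt) (kd xd27 yd46 zd60) (kd xd26 yd45 zd8) (kd xd15 yd57 zd28) (kd xd24 yd17 zd14) (kd xd25 yd24 zd15) (kd xd24 yd23 zd57) (kd xd25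 yd24 zd14) (kd xd27 yd59 zd32) (kd xd25 yd26 zd39) (kd xd25 yd26 zd38) (kd xd28 yd37 zd28) (kd xd10 yd56 zd43) (kd xd25 yd51 zd26) (kd xd26 yd44 zd37) (kd xd23 yd39 zd38) (kd xd10 yd56 zd45) (kd xd29 yd5 zd21) (kd xd21 yd48 zd45) (kd xd10 yd56 zd46) (kd xd21 yd43 zd12) (kd xd18 yd52 zd28) (kd xd14 yd34 zd32) (kd xd26 yd45 zd23) (kd xd21 yd43 zd20) (kd xd19 yd38 zd28) (kd xd10 yd56 zd48) (kd xd29 yd5 zd29) (kd xd29 yd5 zd30) (kd xd10 yd56 zd49) (kd xd25 yd57 zd48) (kd xd26 yd45 zd20) (kd xd16 yd42 zd50) (kd xd10 yd56 zd53) (kd xd17 yd3 zd53) (kd xd29 yd5 zd35) (kd xd10 yd56 zd55) (kd xd15 yd53 zd50) (kd xd10 yd56 zd56) (kd xd24 yd17 zd48) (kd xd21 yd4 zd14) (kd xd15 yd32 zd38) (kd xd24 yd14 zd58) (kd xd24 yd14 zd59) (kd xd10 yd56 zd61) (kd xd19 yd40 zd11) (kd xd17 yd59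 zd8) (kd xd22 yd59 zd46) (kd xd22 yd44 zd39) (kd xd21 yd36 zd33) (kd xd29 yd5 zd40) (kd xd11 yd3 zd41) (kd xd27 yd11 zd52) (kd xd29 yd0 zd39) (kd xd22 yd17 zd19) (kd xd22 yd52 zd43) (kd xd10 yd57 zd7) (kd xd23 yd20 zd51) (kd xd17 yd55 zd16) (kd xd10 yd57 zd8) (kd xd26 yd30 zd61) (kd xd10 yd57 zd10) (kd xd18 yd2 zd37)) (@D3.rec (fun _ => Pt) (kd xd10 yd57 zd11) (kd xd28 yd11 zd40) (kd xd11 yd33 zd30) (kd xd29 yd5 zd42) (kd xd12 yd25 zd0) (kd xd21 yd51 zd11) (kd xd20 yd54 zd41) (kd xd21 yd51 zd57) (kd xd24 yd17 zd47) (kd xd29 yd5 zd44) (kd xd10 yd57 zd17) (kd xd27 yd31 zd37) (kd xd10 yd57 zd20) (kd xd20 yd0 zd18) (kd xd10 yd57 zd21) (kd xd29 yd5 zd48) (kd xd10 yd57 zd23) (kd xd29 yd5 zd49) (kd xd26 yd54 zd18) (kd xd10 yd57 zd26) (kd xd12 yd55 zd22) (kd xd19 yd40 zd36)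 (kd xd10 yd57 zd30) (kd xd15 yd27 zd48) (kd xd22 yd27 zd28) (kd xd10 yd57 zd32) (kd xd21 yd2 zd46) (kd xd10 yd57 zd34) (kd xd26 yd7 zd35) (kd xd26 yd0 zd40) (kd xd10 yd57 zd36) (kd xd15 yd44 zd40) (kd xd14 yd45 zd35) (kd xd10 yd57 zd37) (kd xd14 yd36 zd46) (kd xd11 yd5 zd38) (kd xd11 yd5 zd39) (kd xd20 yd30 zd54) (kd xd25 yd9 zd12) (kd xd25 yd38 zd15) (kd xd15 yd44 zd57) (kd xd10 yd57 zd39) (kd xd21 yd53 zd30) (kd xd23 yd42 zd10) (kd xd27 yd37 zd47) (kd xd25 yd37 zd47) (kd xd18 yd12 zd54) (kd xd29 yd6 zd5) (kd xd10 yd57 zd44) (kd xd20 yd31 zd57) (kd xd22 yd5 zd27) (kd xd29 yd6 zd9) (kd xd10 yd57 zd48) (kd xd14 yd56 zd23) (kd xd11 yd7 zd24) (kd xd14 yd56 zd20) (kd xd24 yd35 zd57) (kd xd21 yd19 zd6) (kd xd10 yd57 zd50) (kd xd25 yd34 zd36) (kd xd11 yd1 zd34) (kd xd10 yd57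 zd51)) (@D3.rec (fun _ => Pt) (kd xd18 yd50 zd29) (kd xd27 yd59 zd54) (kd xd15 yd42 zd22) (kd xd12 yd23 zd42) (kd xd16 yd51 zd8) (kd xd28 yd24 zd52) (kd xd21 yd57 zd10) (kd xd16 yd25 zd25) (kd xd10 yd57 zd58) (kd xd16 yd25 zd49) (kd xd16 yd25 zd41) (kd xd16 yd25 zd24) (kd xd28 yd49 zd34) (kd xd16 yd50 zd31) (kd xd16 yd24 zd3) (kd xd29 yd6 zd23) (kd xd16 yd50 zd33) (kd xd16 yd35 zd38) (kd xd25 yd39 zd14) (kd xd20 yd5 zd56) (kd xd16 yd35 zd51) (kd xd11 yd1 zd38) (kd xd10 yd58 zd1) (kd xd26 yd27 zd45) (kd xd27 yd4 zd42) (kd xd29 yd6 zd27) (kd xd10 yd58 zd2) (kd xd29 yd6 zd29) (kd xd15 yd43 zd12) (kd xd16 yd55 zd10) (kd xd10 yd58 zd3) (kd xd12 yd31 zd46) (kd xd10 yd58 zd4) (kd xd29 yd6 zd31) (kd xd29 yd6 zd32) (kd xd10 yd58 zd6) (kd xd17 yd18 zd36) (kd xd26 yd22 zd56) (kd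 xd25 yd17 zd31) (kd xd10 yd58 zd9) (kd xd10 yd58 zd10) (kd xd22 yd5 zd31) (kd xd20 yd7 zd4) (kd xd12 yd55 zd60) (kd xd11 yd1 zd35) (kd xd11 yd1 zd36) (kd xd12 yd38 zd33) (kd xd18 yd50 zd30) (kd xd23 yd30 zd42) (kd xd23 yd24 zd22) (kd xd21 yd24 zd36) (kd xd29 yd6 zd38) (kd xd11 yd32 zd51) (kd xd29 yd6 zd40) (kd xd23 yd0 zd44) (kd xd10 yd58 zd26) (kd xd11 yd19 zd24) (kd xd18 yd16 zd23) (kd xd19 yd52 zd8) (kd xd20 yd32 zd61) (kd xd10 yd58 zd32) (kd xd23 yd30 zd44)) (@D3.rec (fun _ => Pt) (kd xd20 yd12 zd47) (kd xd10 yd58 zd36) (kd xd29 yd6 zd42) (kd xd18 yd49 zd53) (kd xd10 yd58 zd37) (kd xd19 yd50 zd51) (kd xd19 yd40 zd34) (kd xd20 yd32 zd18) (kd xd20 yd4 zd21) (kd xd10 yd58 zd47) (kd xd29 yd6 zd45) (kd xd20 yd43 zd28) (kd xd20 yd4 zd20) (kd xd24 yd58 zd19) (kd xd10 yd58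 zd49) (kd xd28 yd49 zd46) (kd xd10 yd58 zd51) (kd xd23 yd12 zd8) (kd xd10 yd58 zd53) (kd xd12 yd49 zd61) (kd xd29 yd6 zd51) (kd xd10 yd58 zd55) (kd xd29 yd6 zd54) (kd xd15 yd45 zd45) (kd xd12 yd50 zd0) (kd xd21 yd3 zd6) (kd xd15 yd58 zd7) (kd xd27 yd48 zd37) (kd xd25 yd27 zd57) (kd xd25 yd27 zd58) (kd xd10 yd58 zd60) (kd xd10 yd58 zd61) (kd xd26 yd15 zd12) (kd xd20 yd4 zd58) (kd xd29 yd0 zd20) (kd xd27 yd21 zd41) (kd xd10 yd59 zd2) (kd xd11 yd3 zd48) (kd xd10 yd59 zd3) (kd xd27 yd13 zd8) (kd xd25 yd49 zd16) (kd xd15 yd20 zd60) (kd xd29 yd6 zd60) (kd xd10 yd59 zd7) (kd xd28 yd24 zd1) (kd xd10 yd59 zd8) (kd xd20 yd4 zd54) (kd xd28 yd23 zd45) (kd xd10 yd59 zd9) (kd xd29 yd7 zd4) (kd xd20 yd40 zd4) (kd xd17 yd58 zd38) (kd xd10 yd59 zd11) (kd xd23 yd25 zd50) (kd xd15 yd14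 zd19) (kd xd11 yd16 zd11) (kd xd14 yd4 zd15) (kd xd16 yd49 zd26) (kd xd15 yd43 zd32) (kd xd21 yd7 zd41) (kd xd15 yd13 zd46) (kd xd10 yd59 zd16)) (@D3.rec (fun _ => Pt) (kd xd24 yd31 zd30) (kd xd10 yd59 zd18) (kd xd11 yd1 zd39) (kd xd11 yd1 zd40) (kd xd18 yd20 zd13) (kd xd19 yd2 zd19) (kd xd19 yd2 zd20) (kd xd10 yd59 zd21) (kd xd11 yd10 zd11) (kd xd20 yd43 zd29) (kd xd28 yd57 zd4) (kd xd11 yd10 zd14) (kd xd27 yd0 zd52) (kd xd29 yd7 zd12) (kd xd29 yd7 zd13) (kd xd19 yd21 zd23) (kd xd10 yd59 zd32) (kd xd19 yd42 zd1) (kd xd29 yd7 zd15) (kd xd19 yd52 zd4) (kd xd19 yd52 zd5) (kd xd10 yd59 zd34) (kd xd19 yd52 zd0) (kd xd10 yd59 zd38) (kd xd15 yd45 zd46) (kd xd20 yd39 zd59) (kd xd11 yd17 zd23) (kd xd20 yd8 zd31) (kd xd16 yd39 zd12) (kd xd25 yd34 zd2) (kd xd19 yd29 zd23) (kd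 xd10 yd59 zd44) (kd xd24 yd51 zd30) (kd xd15 yd43 zd33) (kd xd17 yd9 zd5) (kd xd23 yd24 zd47) (kd xd14 yd8 zd29) (kd xd11 yd17 zd24) (kd xd24 yd49 zd26) (kd xd24 yd49 zd25) (kd xd25 yd23 zd7) (kd xd29 yd7 zd26) (kd xd16 yd28 zd52) (kd xd10 yd59 zd52) (kd xd10 yd59 zd54) (kd xd24 yd4 zd53) (kd xd21 yd3 zd40) (kd xd23 yd12 zd53) (kd xd28 yd49 zd55) (kd xd10 yd59 zd58) (kd xd10 yd59 zd59) (kd xd19 yd49 zd5) (kd xd16 yd56 zd11) (kd xd10 yd59 zd61) (kd xd27 yd14 zd9) (kd xd14 yd19 zd58) (kd xd19 yd15 zd8) (kd xd28 yd46 zd12) (kd xd29 yd7 zd33) (kd xd28 yd46 zd11) (kd xd23 yd0 zd0) (kd xd24 yd3 zd30)) (@D3.rec (fun _ => Pt) (kd xd18 yd52 zd3) (kd xd19 yd41 zd15) (kd xd12 yd7 zd22) (kd xd11 yd0 zd4) (kd xd21 yd9 zd7) (kd xd20 yd31 zd60) (kd xd24 yd23 zd27) (kd xd22 yd11 zd53)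 (kd xd29 yd7 zd40) (kd xd29 yd7 zd42) (kd xd11 yd0 zd9) (kd xd14 yd5 zd59) (kd xd28 yd32 zd29) (kd xd11 yd0 zd11) (kd xd29 yd2 zd56) (kd xd20 yd26 zd12) (kd xd20 yd22 zd32) (kd xd29 yd7 zd45) (kd xd11 yd0 zd13) (kd xd28 yd53 zd37) (kd xd11 yd0 zd14) (kd xd11 yd0 zd59) (kd xd11 yd0 zd17) (kd xd11 yd0 zd19) (kd xd20 yd32 zd17) (kd xd29 yd7 zd47) (kd xd29 yd7 zd48) (kd xd18 yd43 zd2) (kd xd17 yd1 zd31) (kd xd28 yd50 zd3) (kd xd11 yd0 zd29) (kd xd29 yd7 zd52) (kd xd24 yd6 zd36) (kd xd19 yd30 zd50) (kd xd29 yd7 zd54) (kd xd29 yd7 zd56) (kd xd11 yd0 zd31) (kd xd29 yd7 zd57) (kd xd11 yd0 zd32) (kd xd17 yd8 zd34) (kd xd29 yd7 zd58) (kd xd14 yd20 zd35) (kd xd28 yd46 zd27) (kd xd28 yd35 zd39) (kd xd19 yd24 zd22) (kd xd14 yd30 zd22) (kd xd13 yd17 zd9) (kd xd23 yd3 zd37) (kd xd20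 yd50 zd41) (kd xd11 yd0 zd52) (kd xd29 yd8 zd2) (kd xd29 yd8 zd5) (kd xd29 yd8 zd8) (kd xd11 yd0 zd54) (kd xd29 yd8 zd10) (kd xd29 yd8 zd11) (kd xd17 yd4 zd40) (kd xd29 yd8 zd13) (kd xd24 yd24 zd47) (kd xd29 yd8 zd14) (kd xd11 yd0 zd61) (kd xd19 yd39 zd28)) (@D3.rec (fun _ => Pt) (kd xd19 yd50 zd22) (kd xd14 yd17 zd43) (kd xd11 yd1 zd2) (kd xd28 yd24 zd0) (kd xd19 yd50 zd19) (kd xd19 yd50 zd20) (kd xd28 yd13 zd4) (kd xd11 yd1 zd4) (kd xd19 yd48 zd58) (kd xd21 yd16 zd8) (kd xd26 yd44 zd7) (kd xd26 yd45 zd52) (kd xd13 yd30 zd27) (kd xd29 yd8 zd27) (kd xd28 yd38 zd37) (kd xd28 yd38 zd38) (kd xd11 yd1 zd12) (kd xd29 yd8 zd36) (kd xd29 yd8 zd39) (kd xd11 yd1 zd13) (kd xd29 yd8 zd44) (kd xd27 yd13 zd29) (kd xd11 yd1 zd14) (kd xd19 yd0 zd54) (kd xd20 yd25 zd22) (kd xd16 yd57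 zd31) (kd xd29 yd8 zd51) (kd xd11 yd1 zd16) (kd xd20 yd22 zd61) (kd xd20 yd24 zd43) (kd xd12 yd32 zd14) (kd xd29 yd8 zd52) (kd xd23 yd48 zd44) (kd xd11 yd1 zd18) (kd xd29 yd8 zd55) (kd xd17 yd10 zd9) (kd xd12 yd30 zd2) (kd xd11 yd1 zd21) (kd xd11 yd1 zd22) (kd xd29 yd8 zd58) (kd xd11 yd1 zd23) (kd xd21 yd37 zd27) (kd xd14 yd20 zd15) (kd xd29 yd8 zd61) (kd xd11 yd1 zd26) (kd xd28 yd44 zd14) (kd xd11 yd1 zd27) (kd xd14 yd20 zd18) (kd xd29 yd9 zd0) (kd xd11 yd50 zd55) (kd xd11 yd1 zd30) (kd xd19 yd22 zd15) (kd xd11 yd18 zd38) (kd xd19 yd57 zd26) (kd xd29 yd9 zd4) (kd xd16 yd47 zd57) (kd xd20 yd25 zd47) (kd xd29 yd9 zd6) (kd xd24 yd31 zd26) (kd xd16 yd47 zd23) (kd xd16 yd47 zd24) (kd xd14 yd50 zd25)) (@D3.rec (fun _ => Pt) (kd xd27 yd2 zd35) (kd xd11 yd1 zd42) (kd xd18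 yd22 zd40) (kd xd11 yd38 zd58) (kd xd17 yd7 zd19) (kd xd11 yd38 zd49) (kd xd15 yd25 zd25) (kd xd11 yd1 zd50) (kd xd11 yd7 zd14) (kd xd23 yd12 zd7) (kd xd29 yd9 zd10) (kd xd23 yd42 zd44) (kd xd29 yd0 zd28) (kd xd11 yd1 zd58) (kd xd11 yd16 zd22) (kd xd11 yd1 zd59) (kd xd11 yd2 zd1) (kd xd29 yd9 zd14) (kd xd27 yd11 zd60) (kd xd18 yd12 zd49) (kd xd11 yd2 zd3) (kd xd11 yd2 zd6) (kd xd29 yd0 zd52) (kd xd11 yd2 zd8) (kd xd12 yd38 zd46) (kd xd11 yd2 zd12) (kd xd11 yd2 zd14) (kd xd29 yd9 zd18) (kd xd19 yd24 zd7) (kd xd28 yd42 zd39) (kd xd29 yd9 zd24) (kd xd11 yd2 zd16) (kd xd27 yd19 zd37) (kd xd24 yd26 zd35) (kd xd28 yd37 zd12) (kd xd11 yd2 zd19) (kd xd26 yd40 zd28) (kd xd15 yd5 zd19) (kd xd19 yd40 zd22) (kd xd25 yd24 zd17) (kd xd16 yd43 zd19) (kd xd29 yd9 zd31) (kd xd25 yd9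 zd43) (kd xd28 yd56 zd44) (kd xd26 yd46 zd40) (kd xd26 yd46 zd41) (kd xd24 yd14 zd54) (kd xd11 yd2 zd27) (kd xd11 yd2 zd28) (kd xd11 yd2 zd31) (kd xd11 yd2 zd32) (kd xd26 yd23 zd10) (kd xd19 yd56 zd21) (kd xd21 yd1 zd12) (kd xd11 yd2 zd34) (kd xd11 yd2 zd35) (kd xd15 yd6 zd12) (kd xd25 yd2 zd36) (kd xd11 yd2 zd36) (kd xd26 yd3 zd1) (kd xd19 yd23 zd35) (kd xd19 yd56 zd55)) (@D3.rec (fun _ => Pt) (kd xd11 yd2 zd39) (kd xd19 yd55 zd16) (kd xd29 yd9 zd41) (kd xd11 yd2 zd40) (kd xd14 yd37 zd26) (kd xd26 yd10 zd20) (kd xd14 yd47 zd59) (kd xd11 yd2 zd42) (kd xd19 yd56 zd2) (kd xd26 yd9 zd44) (kd xd11 yd2 zd45) (kd xd22 yd43 zd33) (kd xd29 yd9 zd47) (kd xd11 yd2 zd46) (kd xd29 yd9 zd49) (kd xd15 yd53 zd31) (kd xd15 yd53 zd32) (kd xd16 yd47 zd20) (kd xd14 yd55 zd40) (kd xd14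 yd56 zd34) (kd xd24 yd21 zd11) (kd xd15 yd53 zd27) (kd xd15 yd53 zd28) (kd xd13 yd52 zd44) (kd xd24 yd37 zd56) (kd xd11 yd2 zd57) (kd xd25 yd46 zd51) (kd xd21 yd6 zd45) (kd xd21 yd45 zd17) (kd xd11 yd2 zd61) (kd xd29 yd9 zd58) (kd xd28 yd11 zd48) (kd xd29 yd10 zd3) (kd xd29 yd10 zd5) (kd xd11 yd3 zd1) (kd xd29 yd10 zd8) (kd xd29 yd10 zd10) (kd xd29 yd10 zd12) (kd xd11 yd3 zd2) (kd xd29 yd10 zd16) (kd xd29 yd10 zd18) (kd xd11 yd3 zd3) (kd xd29 yd10 zd23) (kd xd11 yd3 zd4) (kd xd16 yd10 zd1) (kd xd24 yd43 zd15) (kd xd11 yd3 zd6) (kd xd29 yd10 zd30) (kd xd11 yd3 zd7) (kd xd26 yd10 zd17) (kd xd11 yd3 zd10) (kd xd27 yd44 zd46) (kd xd27 yd44 zd47) (kd xd26 yd37 zd57) (kd xd29 yd10 zd38) (kd xd29 yd10 zd41) (kd xd11 yd3 zd12) (kd xd24 yd0 zd59) (kd xd26 yd47 zd22) (kd xd25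 yd22 zd27) (kd xd23 yd37 zd15) (kd xd26 yd2 zd11)) (@D3.rec (fun _ => Pt) (kd xd11 yd3 zd17) (kd xd29 yd10 zd45) (kd xd16 yd49 zd51) (kd xd16 yd41 zd15) (kd xd25 yd41 zd39) (kd xd29 yd10 zd51) (kd xd29 yd10 zd54) (kd xd29 yd10 zd56) (kd xd11 yd3 zd19) (kd xd29 yd10 zd60) (kd xd29 yd10 zd61) (kd xd29 yd11 zd1) (kd xd11 yd3 zd20) (kd xd29 yd11 zd5) (kd xd11 yd3 zd21) (kd xd28 yd27 zd33) (kd xd19 yd54 zd1) (kd xd27 yd47 zd23) (kd xd11 yd3 zd23) (kd xd22 yd44 zd43) (kd xd11 yd3 zd24) (kd xd16 yd10 zd60) (kd xd26 yd37 zd42) (kd xd11 yd3 zd25) (kd xd29 yd11 zd12) (kd xd26 yd37 zd41) (kd xd26 yd9 zd48) (kd xd11 yd3 zd27) (kd xd29 yd11 zd15) (kd xd26 yd34 zd59) (kd xd29 yd11 zd16) (kd xd11 yd3 zd28) (kd xd29 yd11 zd19) (kd xd16 yd4 zd2) (kd xd16 yd12 zd60) (kd xd16 yd50 zd4)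 (kd xd29 yd11 zd23) (kd xd29 yd11 zd26) (kd xd11 yd3 zd30) (kd xd29 yd11 zd30) (kd xd24 yd42 zd33) (kd xd29 yd11 zd31) (kd xd11 yd3 zd31) (kd xd29 yd11 zd35) (kd xd14 yd50 zd61) (kd xd13 yd15 zd57) (kd xd11 yd3 zd33) (kd xd23 yd37 zd17) (kd xd11 yd3 zd34) (kd xd23 yd10 zd57) (kd xd12 yd0 zd43) (kd xd11 yd3 zd36) (kd xd29 yd11 zd41) (kd xd17 yd52 zd58) (kd xd17 yd52 zd59) (kd xd15 yd6 zd33) (kd xd29 yd11 zd48) (kd xd29 yd11 zd51) (kd xd11 yd3 zd38) (kd xd29 yd11 zd54) (kd xd29 yd11 zd55) (kd xd11 yd3 zd39)) (@D3.rec (fun _ => Pt) (kd xd29 yd11 zd59) (kd xd18 yd35 zd8) (kd xd19 yd54 zd8) (kd xd24 yd42 zd18) (kd xd24 yd53 zd18) (kd xd29 yd12 zd3) (kd xd11 yd3 zd43) (kd xd23 yd28 zd17) (kd xd11 yd3 zd44) (kd xd29 yd12 zd4) (kd xd29 yd12 zd5) (kd xd29 yd12 zd6) (kd xd11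 yd3 zd46) (kd xd29 yd12 zd9) (kd xd11 yd11 zd20) (kd xd29 yd12 zd10) (kd xd14 yd49 zd36) (kd xd14 yd56 zd32) (kd xd13 yd54 zd56) (kd xd24 yd33 zd18) (kd xd16 yd59 zd17) (kd xd19 yd53 zd52) (kd xd11 yd56 zd22) (kd xd28 yd48 zd23) (kd xd14 yd40 zd2) (kd xd11 yd3 zd54) (kd xd19 yd26 zd27) (kd xd16 yd12 zd27) (kd xd29 yd12 zd17) (kd xd23 yd2 zd11) (kd xd13 yd16 zd0) (kd xd24 yd32 zd35) (kd xd22 yd58 zd17) (kd xd23 yd41 zd56) (kd xd29 yd12 zd25) (kd xd13 yd57 zd12) (kd xd23 yd10 zd55) (kd xd24 yd3 zd45) (kd xd26 yd10 zd18) (kd xd14 yd29 zd31) (kd xd13 yd32 zd4) (kd xd23 yd5 zd33) (kd xd17 yd57 zd34) (kd xd24 yd41 zd32) (kd xd28 yd49 zd26) (kd xd22 yd22 zd17) (kd xd11 yd4 zd12) (kd xd28 yd40 zd29) (kd xd26 yd41 zd25) (kd xd16 yd8 zd39) (kd xd15 yd25 zd57) (kd xd11 yd4 zd15)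 (kd xd22 yd55 zd30) (kd xd11 yd4 zd16) (kd xd29 yd12 zd27) (kd xd19 yd53 zd61) (kd xd11 yd4 zd18) (kd xd18 yd4 zd16) (kd xd27 yd30 zd20) (kd xd29 yd12 zd31) (kd xd27 yd30 zd21) (kd xd25 yd14 zd27)) (@D3.rec (fun _ => Pt) (kd xd27 yd24 zd2) (kd xd25 yd5 zd12) (kd xd11 yd4 zd39) (kd xd11 yd4 zd29) (kd xd18 yd13 zd40) (kd xd25 yd7 zd40) (kd xd25 yd7 zd41) (kd xd27 yd23 zd11) (kd xd11 yd4 zd31) (kd xd29 yd12 zd40) (kd xd19 yd37 zd0) (kd xd16 yd45 zd44) (kd xd25 yd10 zd32) (kd xd11 yd4 zd33) (kd xd25 yd49 zd48) (kd xd17 yd36 zd18) (kd xd17 yd36 zd19) (kd xd27 yd24 zd18) (kd xd11 yd4 zd35) (kd xd20 yd3 zd57) (kd xd11 yd56 zd48) (kd xd25 yd11 zd54) (kd xd11 yd56 zd50) (kd xd20 yd3 zd37) (kd xd11 yd32 zd40) (kd xd25 yd50 zd5) (kd xd19 yd52 zd53) (kd xd20 yd19 zd39) (kd xd29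 yd12 zd54) (kd xd11 yd4 zd42) (kd xd13 yd0 zd14) (kd xd20 yd17 zd27) (kd xd11 yd4 zd43) (kd xd15 yd25 zd42) (kd xd11 yd4 zd46) (kd xd20 yd14 zd26) (kd xd20 yd15 zd61) (kd xd18 yd23 zd21) (kd xd11 yd4 zd50) (kd xd20 yd19 zd26) (kd xd14 yd50 zd2) (kd xd16 yd57 zd27) (kd xd29 yd12 zd59) (kd xd11 yd4 zd57) (kd xd26 yd0 zd3) (kd xd11 yd4 zd59) (kd xd11 yd4 zd61) (kd xd24 yd48 zd60) (kd xd24 yd48 zd61) (kd xd11 yd5 zd0) (kd xd24 yd48 zd48) (kd xd29 yd13 zd3) (kd xd29 yd13 zd5) (kd xd11 yd5 zd2) (kd xd24 yd51 zd5) (kd xd26 yd3 zd15) (kd xd26 yd3 zd16) (kd xd24 yd51 zd60) (kd xd29 yd13 zd9) (kd xd11 yd5 zd6) (kd xd18 yd2 zd21) (kd xd16 yd39 zd15)) (@D3.rec (fun _ => Pt) (kd xd27 yd38 zd14) (kd xd11 yd5 zd9) (kd xd24 yd51 zd2) (kd xd16 yd8 zd48) (kd xd29 yd13 zd18) (kd xd29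 yd13 zd21) (kd xd26 yd54 zd13) (kd xd11 yd5 zd11) (kd xd28 yd31 zd42) (kd xd28 yd51 zd20) (kd xd22 yd21 zd31) (kd xd11 yd5 zd12) (kd xd29 yd13 zd27) (kd xd29 yd13 zd29) (kd xd11 yd5 zd13) (kd xd27 yd43 zd5) (kd xd11 yd5 zd14) (kd xd27 yd39 zd18) (kd xd29 yd2 zd23) (kd xd25 yd22 zd41) (kd xd28 yd5 zd44) (kd xd11 yd5 zd16) (kd xd16 yd58 zd37) (kd xd11 yd5 zd17) (kd xd24 yd1 zd24) (kd xd11 yd5 zd19) (kd xd29 yd2 zd33) (kd xd28 yd43 zd14) (kd xd11 yd5 zd21) (kd xd19 yd32 zd44) (kd xd11 yd5 zd23) (kd xd27 yd38 zd11) (kd xd11 yd5 zd25) (kd xd18 yd25 zd11) (kd xd20 yd2 zd5) (kd xd24 yd33 zd2) (kd xd12 yd49 zd15) (kd xd24 yd23 zd55) (kd xd20 yd54 zd34) (kd xd20 yd54 zd33) (kd xd29 yd13 zd43) (kd xd11 yd5 zd29) (kd xd29 yd13 zd45) (kd xd11 yd5 zd34) (kd xd15 yd0 zd0) (kd xd15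 yd0 zd12) (kd xd11 yd13 zd0) (kd xd29 yd5 zd56) (kd xd23 yd25 zd47) (kd xd29 yd13 zd48) (kd xd11 yd5 zd40) (kd xd29 yd13 zd51) (kd xd16 yd47 zd38) (kd xd16 yd47 zd39) (kd xd16 yd35 zd15) (kd xd29 yd13 zd53) (kd xd29 yd13 zd55) (kd xd29 yd13 zd56) (kd xd11 yd5 zd42) (kd xd29 yd13 zd59) (kd xd16 yd25 zd23) (kd xd16 yd25 zd31)) (@D3.rec (fun _ => Pt) (kd xd26 yd55 zd19) (kd xd11 yd5 zd43) (kd xd25 yd25 zd20) (kd xd11 yd5 zd44) (kd xd25 yd53 zd5) (kd xd13 yd57 zd22) (kd xd11 yd5 zd50) (kd xd23 yd26 zd44) (kd xd26 yd32 zd57) (kd xd29 yd14 zd1) (kd xd29 yd14 zd2) (kd xd29 yd14 zd4) (kd xd11 yd5 zd52) (kd xd29 yd14 zd8) (kd xd16 yd52 zd36) (kd xd11 yd5 zd53) (kd xd15 yd24 zd22) (kd xd11 yd5 zd54) (kd xd27 yd56 zd40) (kd xd29 yd14 zd12) (kd xd11 yd5 zd59) (kd xd29 yd14 zd15)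 (kd xd11 yd5 zd60) (kd xd19 yd40 zd26) (kd xd29 yd14 zd19) (kd xd11 yd6 zd0) (kd xd19 yd11 zd13) (kd xd25 yd21 zd25) (kd xd19 yd38 zd17) (kd xd24 yd52 zd17) (kd xd19 yd32 zd48) (kd xd15 yd3 zd10) (kd xd19 yd40 zd30) (kd xd29 yd14 zd27) (kd xd11 yd6 zd6) (kd xd29 yd13 zd30) (kd xd16 yd56 zd60) (kd xd16 yd21 zd38) (kd xd26 yd12 zd54) (kd xd26 yd5 zd18) (kd xd11 yd6 zd13) (kd xd29 yd14 zd30) (kd xd23 yd35 zd46) (kd xd11 yd6 zd14) (kd xd23 yd17 zd40) (kd xd13 yd52 zd29) (kd xd11 yd6 zd15) (kd xd25 yd46 zd42) (kd xd17 yd3 zd26) (kd xd29 yd14 zd36) (kd xd24 yd39 zd7) (kd xd28 yd33 zd42) (kd xd29 yd14 zd38) (kd xd28 yd36 zd35) (kd xd17 yd43 zd47) (kd xd12 yd55 zd13) (kd xd18 yd25 zd28) (kd xd21 yd21 zd58) (kd xd20 yd22 zd12) (kd xd20 yd22 zd0) (kd xd20 yd26 zd31) (kd xd15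 yd29 zd58))
def f_d_20 : D2 → D3 → Pt := @D2.rec (fun _ => D3 → Pt) (@D3.rec (fun _ => Pt) (kd xd16 yd57 zd22) (kd xd22 yd44 zd61) (kd xd23 yd58 zd0) (kd xd11 yd6 zd40) (kd xd26 yd55 zd36) (kd xd25 yd2 zd13) (kd xd17 yd0 zd32) (kd xd17 yd58 zd27) (kd xd26 yd50 zd13) (kd xd14 yd24 zd35) (kd xd28 yd20 zd25) (kd xd21 yd14 zd4) (kd xd11 yd34 zd14) (kd xd16 yd21 zd41) (kd xd11 yd6 zd56) (kd xd19 yd25 zd55) (kd xd12 yd56 zd46) (kd xd20 yd25 zd50) (kd xd19 yd47 zd13) (kd xd12 yd44 zd30) (kd xd26 yd35 zd30) (kd xd18 yd24 zd52) (kd xd21 yd16 zd17) (kd xd15 yd4 zd61) (kd xd17 yd29 zd50) (kd xd18 yd24 zd58) (kd xd16 yd30 zd42) (kd xd21 yd38 zd17) (kd xd29 yd14 zd41) (kd xd11 yd7 zd9) (kd xd26 yd32 zd22) (kd xd26 yd23 zd12) (kd xd11 yd7 zd10) (kd xd24 yd59 zd54) (kd xd29 yd14 zd42)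 (kd xd11 yd7 zd33) (kd xd16 yd29 zd60) (kd xd11 yd25 zd13) (kd xd21 yd30 zd54) (kd xd21 yd52 zd16) (kd xd11 yd25 zd17) (kd xd20 yd50 zd46) (kd xd11 yd25 zd20) (kd xd26 yd25 zd10) (kd xd26 yd8 zd57) (kd xd11 yd7 zd20) (kd xd28 yd22 zd48) (kd xd17 yd54 zd25) (kd xd26 yd18 zd30) (kd xd18 yd19 zd56) (kd xd11 yd7 zd22) (kd xd22 yd50 zd54) (kd xd26 yd45 zd58) (kd xd28 yd8 zd4) (kd xd21 yd51 zd31) (kd xd26 yd26 zd48) (kd xd29 yd12 zd2) (kd xd16 yd43 zd37) (kd xd25 yd23 zd27) (kd xd22 yd30 zd27) (kd xd29 yd11 zd45) (kd xd11 yd7 zd34)) (@D3.rec (fun _ => Pt) (kd xd24 yd9 zd39) (kd xd11 yd11 zd27) (kd xd24 yd9 zd36) (kd xd13 yd43 zd56) (kd xd20 yd36 zd53) (kd xd11 yd7 zd36) (kd xd29 yd14 zd51) (kd xd26 yd26 zd15) (kd xd15 yd30 zd47) (kd xd29 yd14 zd52) (kd xd29 yd14 zd43) (kd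 xd28 yd13 zd49) (kd xd11 yd7 zd41) (kd xd12 yd22 zd20) (kd xd12 yd22 zd21) (kd xd26 yd23 zd2) (kd xd11 yd7 zd44) (kd xd26 yd28 zd32) (kd xd29 yd14 zd56) (kd xd11 yd7 zd46) (kd xd29 yd14 zd58) (kd xd21 yd44 zd21) (kd xd16 yd51 zd39) (kd xd14 yd44 zd58) (kd xd26 yd32 zd39) (kd xd12 yd23 zd10) (kd xd11 yd7 zd52) (kd xd29 yd15 zd0) (kd xd28 yd43 zd9) (kd xd11 yd7 zd54) (kd xd11 yd11 zd51) (kd xd18 yd58 zd6) (kd xd24 yd49 zd27) (kd xd29 yd15 zd1) (kd xd11 yd7 zd58) (kd xd22 yd34 zd27) (kd xd29 yd15 zd2) (kd xd11 yd7 zd59) (kd xd13 yd26 zd53) (kd xd11 yd7 zd61) (kd xd21 yd51 zd21) (kd xd20 yd26 zd43) (kd xd29 yd15 zd8) (kd xd11 yd8 zd4) (kd xd29 yd15 zd11) (kd xd11 yd8 zd9) (kd xd26 yd54 zd40) (kd xd26 yd54 zd42) (kd xd29 yd15 zd15) (kd xd11 yd8 zd12) (kd xd16 yd58 zd7) (kd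 xd16 yd58 zd6) (kd xd11 yd51 zd54) (kd xd24 yd4 zd31) (kd xd11 yd8 zd14) (kd xd29 yd15 zd23) (kd xd18 yd25 zd49) (kd xd29 yd15 zd24) (kd xd22 yd49 zd5) (kd xd11 yd27 zd61) (kd xd21 yd14 zd28) (kd xd11 yd28 zd1)) (@D3.rec (fun _ => Pt) (kd xd29 yd15 zd28) (kd xd21 yd30 zd28) (kd xd25 yd44 zd35) (kd xd24 yd36 zd36) (kd xd11 yd8 zd30) (kd xd19 yd58 zd34) (kd xd27 yd29 zd20) (kd xd15 yd5 zd40) (kd xd28 yd37 zd34) (kd xd15 yd21 zd57) (kd xd15 yd54 zd44) (kd xd26 yd31 zd37) (kd xd15 yd54 zd47) (kd xd28 yd1 zd24) (kd xd29 yd15 zd33) (kd xd23 yd41 zd12) (kd xd23 yd41 zd15) (kd xd11 yd8 zd42) (kd xd29 yd15 zd42) (kd xd29 yd5 zd17) (kd xd11 yd8 zd43) (kd xd29 yd4 zd47) (kd xd11 yd8 zd44) (kd xd28 yd57 zd20) (kd xd25 yd3 zd48) (kd xd15 yd54 zd55) (kd xd29 yd15 zd52) (kd xd11 yd8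 zd46) (kd xd11 yd8 zd47) (kd xd17 yd35 zd52) (kd xd29 yd15 zd56) (kd xd29 yd15 zd60) (kd xd29 yd16 zd1) (kd xd11 yd8 zd51) (kd xd29 yd16 zd5) (kd xd15 yd58 zd6) (kd xd11 yd8 zd52) (kd xd26 yd42 zd11) (kd xd11 yd8 zd53) (kd xd16 yd16 zd1) (kd xd27 yd39 zd51) (kd xd11 yd8 zd55) (kd xd29 yd16 zd12) (kd xd11 yd8 zd56) (kd xd15 yd21 zd2) (kd xd28 yd36 zd43) (kd xd29 yd16 zd14) (kd xd19 yd22 zd47) (kd xd29 yd16 zd16) (kd xd29 yd16 zd18) (kd xd11 yd8 zd61) (kd xd27 yd20 zd43) (kd xd18 yd28 zd31) (kd xd15 yd21 zd52) (kd xd19 yd2 zd21) (kd xd11 yd9 zd1) (kd xd15 yd9 zd30) (kd xd14 yd24 zd17) (kd xd15 yd9 zd33) (kd xd13 yd31 zd23) (kd xd29 yd16 zd28) (kd xd23 yd8 zd47)) (@D3.rec (fun _ => Pt) (kd xd23 yd8 zd48) (kd xd11 yd9 zd5) (kd xd26 yd30 zd29) (kd xd15 yd17 zd2) (kd xd26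 yd13 zd44) (kd xd11 yd9 zd7) (kd xd25 yd12 zd60) (kd xd21 yd17 zd42) (kd xd27 yd3 zd29) (kd xd23 yd38 zd61) (kd xd11 yd9 zd10) (kd xd29 yd16 zd39) (kd xd15 yd20 zd61) (kd xd25 yd14 zd54) (kd xd29 yd16 zd43) (kd xd29 yd16 zd45) (kd xd11 yd9 zd12) (kd xd29 yd16 zd47) (kd xd29 yd0 zd60) (kd xd29 yd16 zd49) (kd xd26 yd37 zd19) (kd xd11 yd9 zd14) (kd xd26 yd51 zd12) (kd xd21 yd35 zd17) (kd xd11 yd9 zd15) (kd xd25 yd33 zd51) (kd xd24 yd20 zd33) (kd xd11 yd9 zd17) (kd xd25 yd49 zd54) (kd xd15 yd21 zd55) (kd xd17 yd45 zd10) (kd xd25 yd32 zd48) (kd xd25 yd49 zd56) (kd xd14 yd24 zd14) (kd xd24 yd2 zd35) (kd xd11 yd9 zd20) (kd xd21 yd22 zd1) (kd xd19 yd57 zd23) (kd xd29 yd17 zd2) (kd xd11 yd9 zd22) (kd xd14 yd54 zd46) (kd xd29 yd17 zd3) (kd xd11 yd9 zd24) (kd xd25 yd15 zd39) (kd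 xd15 yd5 zd37) (kd xd28 yd57 zd15) (kd xd29 yd17 zd4) (kd xd11 yd9 zd28) (kd xd25 yd10 zd41) (kd xd15 yd54 zd58) (kd xd19 yd38 zd11) (kd xd27 yd25 zd1) (kd xd25 yd10 zd42) (kd xd27 yd21 zd46) (kd xd29 yd17 zd11) (kd xd11 yd9 zd31) (kd xd27 yd27 zd24) (kd xd19 yd57 zd19) (kd xd16 yd16 zd13) (kd xd11 yd9 zd33) (kd xd15 yd18 zd50) (kd xd27 yd30 zd59)) (@D3.rec (fun _ => Pt) (kd xd11 yd9 zd36) (kd xd15 yd18 zd51) (kd xd11 yd59 zd51) (kd xd11 yd9 zd38) (kd xd21 yd59 zd10) (kd xd11 yd9 zd39) (kd xd21 yd58 zd25) (kd xd21 yd58 zd26) (kd xd11 yd9 zd40) (kd xd25 yd15 zd18) (kd xd11 yd9 zd47) (kd xd24 yd56 zd20) (kd xd24 yd56 zd23) (kd xd11 yd9 zd45) (kd xd27 yd28 zd10) (kd xd18 yd4 zd5) (kd xd17 yd39 zd47) (kd xd24 yd45 zd3) (kd xd27 yd48 zd38) (kd xd12 yd4 zd22) (kd xd19 yd49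 zd12) (kd xd19 yd49 zd8) (kd xd11 yd9 zd52) (kd xd29 yd17 zd31) (kd xd29 yd17 zd34) (kd xd23 yd27 zd59) (kd xd23 yd27 zd56) (kd xd11 yd9 zd54) (kd xd23 yd43 zd5) (kd xd14 yd0 zd44) (kd xd12 yd31 zd2) (kd xd11 yd9 zd57) (kd xd25 yd40 zd43) (kd xd11 yd20 zd24) (kd xd11 yd10 zd0) (kd xd29 yd17 zd36) (kd xd16 yd3 zd5) (kd xd23 yd37 zd32) (kd xd24 yd36 zd47) (kd xd11 yd10 zd2) (kd xd20 yd5 zd55) (kd xd29 yd17 zd41) (kd xd24 yd37 zd3) (kd xd11 yd10 zd4) (kd xd29 yd17 zd46) (kd xd15 yd10 zd39) (kd xd11 yd10 zd5) (kd xd25 yd3 zd19) (kd xd11 yd17 zd30) (kd xd11 yd42 zd57) (kd xd11 yd10 zd9) (kd xd28 yd49 zd54) (kd xd11 yd10 zd10) (kd xd16 yd47 zd32) (kd xd19 yd49 zd46) (kd xd24 yd2 zd32) (kd xd11 yd10 zd15) (kd xd29 yd17 zd51) (kd xd19 yd49 zd33) (kd xd28 yd59 zd6) (kd xd11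 yd10 zd17) (kd xd15 yd22 zd3)) (@D3.rec (fun _ => Pt) (kd xd11 yd10 zd18) (kd xd11 yd10 zd19) (kd xd29 yd0 zd50) (kd xd12 yd28 zd23) (kd xd12 yd15 zd28) (kd xd12 yd14 zd27) (kd xd29 yd17 zd56) (kd xd11 yd10 zd27) (kd xd29 yd17 zd57) (kd xd11 yd10 zd28) (kd xd15 yd2 zd52) (kd xd11 yd10 zd30) (kd xd15 yd3 zd11) (kd xd26 yd42 zd40) (kd xd25 yd13 zd44) (kd xd26 yd2 zd45) (kd xd27 yd29 zd14) (kd xd29 yd18 zd3) (kd xd25 yd37 zd28) (kd xd27 yd37 zd16) (kd xd11 yd10 zd33) (kd xd18 yd34 zd42) (kd xd11 yd10 zd36) (kd xd20 yd5 zd24) (kd xd20 yd5 zd23) (kd xd25 yd22 zd45) (kd xd20 yd6 zd38) (kd xd15 yd45 zd29) (kd xd17 yd52 zd32) (kd xd11 yd10 zd43) (kd xd29 yd13 zd10) (kd xd21 yd34 zd0) (kd xd20 yd15 zd4) (kd xd27 yd48 zd9) (kd xd20 yd5 zd41) (kd xd12 yd9 zd0) (kd xd22 yd5 zd30)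 (kd xd16 yd57 zd15) (kd xd18 yd10 zd29) (kd xd12 yd15 zd24) (kd xd18 yd26 zd22) (kd xd20 yd5 zd34) (kd xd26 yd46 zd60) (kd xd12 yd8 zd61) (kd xd12 yd45 zd43) (kd xd21 yd7 zd53) (kd xd26 yd47 zd1) (kd xd18 yd10 zd16) (kd xd11 yd59 zd21) (kd xd11 yd59 zd22) (kd xd23 yd42 zd9) (kd xd25 yd39 zd25) (kd xd16 yd57 zd1) (kd xd14 yd4 zd58) (kd xd11 yd12 zd50) (kd xd20 yd4 zd40) (kd xd19 yd48 zd19) (kd xd22 yd38 zd34) (kd xd18 yd16 zd52) (kd xd18 yd1 zd38) (kd xd11 yd29 zd59) (kd xd29 yd14 zd49)) (@D3.rec (fun _ => Pt) (kd xd26 yd47 zd53) (kd xd29 yd11 zd39) (kd xd16 yd12 zd6) (kd xd11 yd11 zd28) (kd xd18 yd49 zd14) (kd xd27 yd39 zd55) (kd xd18 yd41 zd30) (kd xd20 yd10 zd60) (kd xd11 yd11 zd30) (kd xd23 yd6 zd31) (kd xd18 yd41 zd8) (kd xd18 yd41 zd34) (kd xd18 yd41 zd38) (kd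 xd23 yd49 zd21) (kd xd27 yd42 zd19) (kd xd29 yd14 zd54) (kd xd23 yd33 zd20) (kd xd22 yd31 zd48) (kd xd11 yd11 zd35) (kd xd22 yd57 zd58) (kd xd13 yd26 zd52) (kd xd13 yd30 zd3) (kd xd20 yd32 zd11) (kd xd20 yd32 zd14) (kd xd11 yd11 zd40) (kd xd16 yd35 zd23) (kd xd16 yd35 zd25) (kd xd16 yd35 zd19) (kd xd23 yd46 zd15) (kd xd11 yd11 zd45) (kd xd16 yd51 zd34) (kd xd16 yd30 zd48) (kd xd19 yd0 zd33) (kd xd26 yd19 zd44) (kd xd11 yd11 zd49) (kd xd19 yd2 zd33) (kd xd13 yd5 zd28) (kd xd26 yd43 zd51) (kd xd20 yd5 zd26) (kd xd15 yd43 zd21) (kd xd14 yd4 zd18) (kd xd13 yd59 zd49) (kd xd11 yd11 zd56) (kd xd22 yd11 zd35) (kd xd21 yd0 zd6) (kd xd23 yd34 zd30) (kd xd11 yd12 zd6) (kd xd11 yd12 zd7) (kd xd15 yd4 zd29) (kd xd20 yd9 zd3) (kd xd12 yd53 zd12) (kd xd24 yd52 zd56) (kd xd17 yd16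 zd3) (kd xd12 yd15 zd6) (kd xd17 yd16 zd2) (kd xd17 yd30 zd48) (kd xd12 yd26 zd5) (kd xd15 yd27 zd6) (kd xd26 yd4 zd2) (kd xd11 yd24 zd39) (kd xd11 yd22 zd45) (kd xd26 yd47 zd0)) (@D3.rec (fun _ => Pt) (kd xd21 yd3 zd27) (kd xd11 yd24 zd6) (kd xd17 yd34 zd3) (kd xd18 yd0 zd37) (kd xd19 yd48 zd42) (kd xd20 yd10 zd19) (kd xd29 yd18 zd33) (kd xd25 yd28 zd27) (kd xd22 yd48 zd3) (kd xd11 yd32 zd43) (kd xd20 yd40 zd31) (kd xd11 yd40 zd11) (kd xd11 yd12 zd43) (kd xd23 yd42 zd45) (kd xd26 yd18 zd41) (kd xd11 yd12 zd48) (kd xd14 yd8 zd2) (kd xd11 yd33 zd12) (kd xd26 yd27 zd14) (kd xd11 yd12 zd52) (kd xd19 yd26 zd57) (kd xd27 yd40 zd37) (kd xd23 yd8 zd59) (kd xd25 yd18 zd11) (kd xd23 yd8 zd57) (kd xd11 yd20 zd53) (kd xd11 yd12 zd57) (kd xd13 yd50 zd29) (kd xd11 yd12 zd59) (kd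 xd11 yd13 zd43) (kd xd11 yd13 zd7) (kd xd26 yd29 zd48) (kd xd14 yd58 zd55) (kd xd14 yd58 zd56) (kd xd24 yd47 zd32) (kd xd29 yd18 zd41) (kd xd18 yd21 zd32) (kd xd24 yd47 zd19) (kd xd29 yd18 zd43) (kd xd29 yd18 zd45) (kd xd11 yd13 zd3) (kd xd27 yd22 zd1) (kd xd11 yd33 zd20) (kd xd27 yd21 zd61) (kd xd15 yd5 zd3) (kd xd28 yd58 zd5) (kd xd11 yd33 zd27) (kd xd29 yd18 zd49) (kd xd11 yd13 zd9) (kd xd13 yd50 zd28) (kd xd26 yd49 zd58) (kd xd20 yd34 zd2) (kd xd26 yd58 zd8) (kd xd11 yd13 zd15) (kd xd23 yd12 zd6) (kd xd26 yd56 zd43) (kd xd11 yd13 zd17) (kd xd29 yd18 zd55) (kd xd11 yd13 zd19) (kd xd18 yd23 zd47) (kd xd13 yd42 zd52) (kd xd11 yd13 zd24)) (@D3.rec (fun _ => Pt) (kd xd20 yd28 zd57) (kd xd16 yd21 zd0) (kd xd11 yd13 zd27) (kd xd12 yd45 zd48) (kd xd11 yd34 zd3) (kd xd26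 yd21 zd23) (kd xd26 yd24 zd53) (kd xd26 yd20 zd31) (kd xd11 yd13 zd30) (kd xd21 yd13 zd10) (kd xd11 yd13 zd32) (kd xd21 yd2 zd43) (kd xd29 yd18 zd59) (kd xd21 yd2 zd42) (kd xd25 yd5 zd26) (kd xd11 yd13 zd34) (kd xd29 yd18 zd61) (kd xd29 yd19 zd0) (kd xd29 yd19 zd1) (kd xd26 yd24 zd18) (kd xd11 yd13 zd35) (kd xd16 yd46 zd12) (kd xd19 yd0 zd20) (kd xd11 yd13 zd40) (kd xd15 yd4 zd19) (kd xd20 yd38 zd50) (kd xd11 yd13 zd42) (kd xd24 yd35 zd1) (kd xd12 yd8 zd54) (kd xd24 yd59 zd9) (kd xd21 yd2 zd41) (kd xd19 yd50 zd27) (kd xd26 yd52 zd1) (kd xd11 yd33 zd23) (kd xd19 yd27 zd20) (kd xd20 yd52 zd6) (kd xd29 yd19 zd7) (kd xd11 yd13 zd53) (kd xd11 yd13 zd54) (kd xd11 yd46 zd29) (kd xd20 yd36 zd26) (kd xd11 yd37 zd57) (kd xd20 yd15 zd6) (kd xd11 yd13 zd57) (kd xd28 yd13 zd45)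 (kd xd28 yd13 zd46) (kd xd15 yd4 zd44) (kd xd22 yd55 zd51) (kd xd22 yd55 zd52) (kd xd26 yd31 zd61) (kd xd11 yd13 zd60) (kd xd29 yd19 zd18) (kd xd11 yd14 zd0) (kd xd29 yd14 zd53) (kd xd29 yd19 zd21) (kd xd26 yd49 zd42) (kd xd22 yd17 zd33) (kd xd22 yd49 zd19) (kd xd22 yd49 zd20) (kd xd13 yd40 zd19) (kd xd29 yd19 zd28) (kd xd23 yd5 zd35)) (@D3.rec (fun _ => Pt) (kd xd11 yd14 zd6) (kd xd29 yd18 zd48) (kd xd24 yd32 zd44) (kd xd20 yd6 zd49) (kd xd11 yd14 zd8) (kd xd16 yd57 zd4) (kd xd12 yd25 zd44) (kd xd20 yd18 zd48) (kd xd15 yd44 zd18) (kd xd11 yd14 zd11) (kd xd11 yd14 zd13) (kd xd25 yd40 zd40) (kd xd11 yd55 zd43) (kd xd11 yd14 zd15) (kd xd27 yd22 zd0) (kd xd26 yd55 zd49) (kd xd17 yd53 zd18) (kd xd27 yd41 zd15) (kd xd19 yd40 zd20) (kd xd11 yd14 zd20) (kd xd15 yd3 zd49) (kd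 xd14 yd58 zd41) (kd xd28 yd47 zd32) (kd xd28 yd48 zd3) (kd xd21 yd0 zd54) (kd xd20 yd59 zd42) (kd xd11 yd39 zd24) (kd xd18 yd13 zd15) (kd xd11 yd22 zd53) (kd xd20 yd15 zd50) (kd xd18 yd14 zd15) (kd xd11 yd41 zd32) (kd xd23 yd6 zd27) (kd xd29 yd19 zd38) (kd xd22 yd26 zd9) (kd xd29 yd19 zd40) (kd xd12 yd10 zd47) (kd xd11 yd49 zd41) (kd xd21 yd47 zd50) (kd xd21 yd47 zd6) (kd xd11 yd14 zd42) (kd xd19 yd32 zd19) (kd xd21 yd20 zd8) (kd xd12 yd25 zd15) (kd xd20 yd14 zd56) (kd xd11 yd20 zd28) (kd xd11 yd20 zd29) (kd xd11 yd14 zd45) (kd xd12 yd26 zd28) (kd xd12 yd31 zd5) (kd xd15 yd44 zd16) (kd xd12 yd52 zd38) (kd xd12 yd27 zd35) (kd xd12 yd52 zd37) (kd xd17 yd16 zd8) (kd xd12 yd25 zd57) (kd xd17 yd59 zd39) (kd xd16 yd52 zd37) (kd xd11 yd14 zd58) (kd xd26 yd55 zd20) (kd xd11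 yd14 zd59) (kd xd16 yd56 zd17)) (@D3.rec (fun _ => Pt) (kd xd20 yd14 zd11) (kd xd27 yd52 zd50) (kd xd29 yd19 zd49) (kd xd11 yd15 zd6) (kd xd11 yd15 zd7) (kd xd11 yd15 zd8) (kd xd28 yd14 zd13) (kd xd20 yd33 zd60) (kd xd29 yd19 zd51) (kd xd11 yd15 zd9) (kd xd29 yd19 zd57) (kd xd11 yd15 zd48) (kd xd11 yd15 zd49) (kd xd11 yd15 zd13) (kd xd29 yd20 zd1) (kd xd26 yd30 zd4) (kd xd29 yd20 zd4) (kd xd11 yd15 zd11) (kd xd25 yd54 zd26) (kd xd20 yd7 zd5) (kd xd28 yd26 zd54) (kd xd28 yd26 zd53) (kd xd23 yd12 zd31) (kd xd13 yd17 zd30) (kd xd13 yd17 zd31) (kd xd27 yd42 zd24) (kd xd29 yd20 zd15) (kd xd11 yd15 zd20) (kd xd28 yd47 zd37) (kd xd28 yd47 zd38) (kd xd25 yd52 zd41) (kd xd29 yd20 zd19) (kd xd29 yd20 zd21) (kd xd11 yd15 zd26) (kd xd13 yd0 zd61) (kd xd28 yd38 zd53) (kd xd11 yd37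 zd11) (kd xd11 yd37 zd12) (kd xd27 yd54 zd53) (kd xd29 yd20 zd24) (kd xd28 yd36 zd14) (kd xd11 yd15 zd30) (kd xd28 yd12 zd57) (kd xd11 yd37 zd17) (kd xd29 yd20 zd30) (kd xd11 yd15 zd32) (kd xd29 yd20 zd32) (kd xd28 yd24 zd25) (kd xd24 yd9 zd35) (kd xd26 yd58 zd14) (kd xd23 yd14 zd36) (kd xd29 yd20 zd26) (kd xd25 yd48 zd9) (kd xd11 yd15 zd35) (kd xd29 yd20 zd36) (kd xd28 yd10 zd49) (kd xd28 yd10 zd50) (kd xd23 yd18 zd43) (kd xd29 yd20 zd39) (kd xd11 yd15 zd37) (kd xd20 yd6 zd7) (kd xd21 yd15 zd22)) (@D3.rec (fun _ => Pt) (kd xd29 yd20 zd44) (kd xd11 yd15 zd39) (kd xd23 yd50 zd51) (kd xd29 yd20 zd46) (kd xd11 yd15 zd40) (kd xd24 yd48 zd19) (kd xd26 yd32 zd3) (kd xd18 yd2 zd36) (kd xd29 yd20 zd48) (kd xd11 yd15 zd41) (kd xd29 yd20 zd51) (kd xd29 yd20 zd54) (kd xd29 yd20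 zd57) (kd xd29 yd20 zd59) (kd xd11 yd15 zd43) (kd xd29 yd21 zd2) (kd xd22 yd55 zd54) (kd xd23 yd3 zd38) (kd xd29 yd21 zd6) (kd xd20 yd36 zd35) (kd xd29 yd19 zd58) (kd xd22 yd26 zd60) (kd xd22 yd17 zd15) (kd xd29 yd21 zd10) (kd xd25 yd55 zd29) (kd xd29 yd19 zd53) (kd xd29 yd21 zd13) (kd xd11 yd15 zd50) (kd xd29 yd21 zd17) (kd xd15 yd4 zd16) (kd xd16 yd51 zd55) (kd xd29 yd21 zd21) (kd xd29 yd21 zd23) (kd xd29 yd21 zd24) (kd xd11 yd15 zd52) (kd xd29 yd21 zd26) (kd xd29 yd21 zd27) (kd xd11 yd15 zd53) (kd xd14 yd17 zd25) (kd xd14 yd17 zd26) (kd xd28 yd23 zd7) (kd xd11 yd15 zd55) (kd xd27 yd47 zd2) (kd xd14 yd3 zd48) (kd xd19 yd4 zd57) (kd xd11 yd15 zd57) (kd xd18 yd48 zd0) (kd xd27 yd2 zd41) (kd xd11 yd15 zd59) (kd xd29 yd21 zd30) (kd xd11 yd15 zd61) (kd xd23 yd0 zd41) (kd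 xd29 yd21 zd32) (kd xd25 yd25 zd39) (kd xd11 yd16 zd0) (kd xd15 yd50 zd58) (kd xd15 yd31 zd2) (kd xd18 yd46 zd38) (kd xd29 yd21 zd34) (kd xd11 yd21 zd18) (kd xd22 yd48 zd55) (kd xd18 yd33 zd36)) (@D3.rec (fun _ => Pt) (kd xd26 yd44 zd54) (kd xd26 yd45 zd22) (kd xd11 yd16 zd6) (kd xd28 yd47 zd61) (kd xd20 yd24 zd29) (kd xd25 yd22 zd1) (kd xd29 yd21 zd40) (kd xd20 yd57 zd25) (kd xd11 yd16 zd10) (kd xd15 yd55 zd15) (kd xd11 yd16 zd12) (kd xd12 yd57 zd61) (kd xd11 yd16 zd14) (kd xd12 yd30 zd30) (kd xd11 yd16 zd15) (kd xd22 yd12 zd0) (kd xd25 yd17 zd26) (kd xd17 yd33 zd36) (kd xd11 yd16 zd16) (kd xd22 yd4 zd59) (kd xd11 yd25 zd11) (kd xd20 yd40 zd25) (kd xd18 yd39 zd46) (kd xd17 yd33 zd46) (kd xd17 yd33 zd38) (kd xd18 yd20 zd38) (kd xd16 yd47 zd35) (kd xd12 yd32 zd20) (kd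 xd11 yd17 zd47) (kd xd21 yd26 zd56) (kd xd21 yd26 zd58) (kd xd15 yd49 zd25) (kd xd17 yd16 zd9) (kd xd12 yd52 zd52) (kd xd29 yd21 zd47) (kd xd11 yd16 zd34) (kd xd29 yd21 zd48) (kd xd22 yd1 zd55) (kd xd25 yd43 zd32) (kd xd12 yd46 zd61) (kd xd15 yd49 zd36) (kd xd21 yd47 zd55) (kd xd11 yd48 zd58) (kd xd12 yd36 zd15) (kd xd11 yd16 zd44) (kd xd23 yd23 zd16) (kd xd20 yd14 zd0) (kd xd19 yd49 zd0) (kd xd25 yd57 zd27) (kd xd26 yd10 zd40) (kd xd11 yd16 zd55) (kd xd18 yd17 zd0) (kd xd17 yd58 zd5) (kd xd11 yd40 zd35) (kd xd11 yd24 zd22) (kd xd11 yd16 zd58) (kd xd11 yd24 zd13) (kd xd22 yd9 zd58) (kd xd21 yd45 zd53) (kd xd21 yd46 zd19) (kd xd11 yd16 zd61) (kd xd23 yd47 zd1)) (@D3.rec (fun _ => Pt) (kd xd21 yd22 zd8) (kd xd12 yd47 zd0) (kd xd21 yd27 zd40) (kd xd11 yd17 zd2) (kd xd22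 yd36 zd16) (kd xd18 yd24 zd16) (kd xd11 yd17 zd5) (kd xd11 yd18 zd30) (kd xd12 yd27 zd28) (kd xd11 yd18 zd32) (kd xd29 yd21 zd58) (kd xd21 yd55 zd4) (kd xd21 yd55 zd5) (kd xd17 yd55 zd37) (kd xd22 yd2 zd31) (kd xd17 yd30 zd0) (kd xd20 yd52 zd15) (kd xd11 yd17 zd12) (kd xd15 yd25 zd38) (kd xd14 yd48 zd11) (kd xd14 yd38 zd42) (kd xd14 yd4 zd25) (kd xd28 yd39 zd9) (kd xd11 yd41 zd38) (kd xd27 yd21 zd11) (kd xd11 yd17 zd18) (kd xd27 yd1 zd14) (kd xd29 yd21 zd60) (kd xd11 yd17 zd20) (kd xd29 yd22 zd1) (kd xd26 yd0 zd48) (kd xd24 yd30 zd60) (kd xd24 yd30 zd61) (kd xd11 yd17 zd22) (kd xd26 yd7 zd31) (kd xd23 yd43 zd0) (kd xd29 yd22 zd5) (kd xd11 yd17 zd26) (kd xd11 yd35 zd9) (kd xd29 yd22 zd7) (kd xd11 yd47 zd50) (kd xd11 yd17 zd33) (kd xd26 yd4 zd7) (kd xd16 yd14 zd10) (kd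 xd24 yd57 zd58) (kd xd24 yd58 zd1) (kd xd11 yd17 zd38) (kd xd21 yd47 zd52) (kd xd11 yd17 zd39) (kd xd19 yd39 zd42) (kd xd15 yd25 zd45) (kd xd11 yd17 zd41) (kd xd20 yd17 zd9) (kd xd14 yd0 zd7) (kd xd15 yd32 zd6) (kd xd20 yd16 zd39) (kd xd29 yd22 zd11) (kd xd23 yd19 zd33) (kd xd12 yd31 zd18) (kd xd27 yd57 zd10) (kd xd18 yd40 zd11) (kd xd25 yd2 zd32)) (@D3.rec (fun _ => Pt) (kd xd20 yd12 zd46) (kd xd12 yd10 zd34) (kd xd23 yd2 zd40) (kd xd29 yd22 zd12) (kd xd16 yd13 zd35) (kd xd16 yd13 zd34) (kd xd29 yd18 zd27) (kd xd21 yd3 zd29) (kd xd21 yd3 zd28) (kd xd11 yd17 zd58) (kd xd27 yd43 zd13) (kd xd20 yd10 zd0) (kd xd11 yd17 zd59) (kd xd13 yd0 zd49) (kd xd28 yd44 zd42) (kd xd12 yd26 zd51) (kd xd17 yd58 zd1) (kd xd15 yd59 zd1) (kd xd29 yd22 zd16) (kd xd11 yd18 zd7) (kd xd26 yd55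 zd21) (kd xd21 yd49 zd54) (kd xd29 yd22 zd17) (kd xd11 yd18 zd8) (kd xd20 yd40 zd59) (kd xd11 yd18 zd9) (kd xd19 yd57 zd35) (kd xd21 yd51 zd59) (kd xd27 yd37 zd51) (kd xd26 yd10 zd37) (kd xd26 yd58 zd46) (kd xd26 yd59 zd27) (kd xd11 yd18 zd11) (kd xd25 yd16 zd45) (kd xd22 yd5 zd3) (kd xd11 yd18 zd14) (kd xd16 yd57 zd23) (kd xd11 yd18 zd15) (kd xd12 yd44 zd27) (kd xd24 yd34 zd49) (kd xd20 yd25 zd61) (kd xd11 yd18 zd16) (kd xd21 yd20 zd29) (kd xd24 yd53 zd37) (kd xd13 yd11 zd4) (kd xd11 yd46 zd37) (kd xd11 yd18 zd18) (kd xd27 yd58 zd44) (kd xd11 yd18 zd19) (kd xd12 yd9 zd2) (kd xd29 yd22 zd27) (kd xd11 yd18 zd20) (kd xd17 yd7 zd31) (kd xd11 yd40 zd36) (kd xd11 yd18 zd24) (kd xd20 yd51 zd25) (kd xd20 yd9 zd44) (kd xd11 yd18 zd27) (kd xd17 yd30 zd19) (kd xd20 yd48 zd41)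 (kd xd29 yd22 zd29) (kd xd25 yd45 zd50)) (@D3.rec (fun _ => Pt) (kd xd11 yd18 zd31) (kd xd29 yd22 zd31) (kd xd29 yd22 zd33) (kd xd11 yd18 zd33) (kd xd20 yd5 zd32) (kd xd29 yd22 zd35) (kd xd20 yd8 zd42) (kd xd21 yd36 zd29) (kd xd26 yd25 zd27) (kd xd12 yd56 zd41) (kd xd11 yd18 zd37) (kd xd24 yd33 zd14) (kd xd21 yd36 zd1) (kd xd17 yd30 zd34) (kd xd20 yd49 zd6) (kd xd11 yd18 zd40) (kd xd23 yd42 zd14) (kd xd11 yd18 zd41) (kd xd27 yd56 zd27) (kd xd19 yd19 zd50) (kd xd11 yd18 zd44) (kd xd27 yd50 zd36) (kd xd19 yd19 zd51) (kd xd28 yd48 zd33) (kd xd29 yd22 zd39) (kd xd29 yd22 zd40) (kd xd15 yd21 zd7) (kd xd11 yd18 zd48) (kd xd14 yd33 zd60) (kd xd27 yd29 zd17) (kd xd24 yd20 zd41) (kd xd22 yd10 zd36) (kd xd27 yd27 zd12) (kd xd20 yd42 zd19) (kd xd12 yd36 zd32) (kd xd12 yd36 zd37)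 (kd xd21 yd8 zd11) (kd xd12 yd31 zd39) (kd xd11 yd24 zd20) (kd xd13 yd0 zd58) (kd xd11 yd24 zd28) (kd xd25 yd18 zd56) (kd xd29 yd19 zd3) (kd xd29 yd22 zd48) (kd xd29 yd22 zd49) (kd xd22 yd17 zd17) (kd xd11 yd19 zd2) (kd xd29 yd22 zd52) (kd xd22 yd6 zd22) (kd xd27 yd41 zd16) (kd xd20 yd9 zd29) (kd xd14 yd52 zd58) (kd xd11 yd19 zd8) (kd xd12 yd51 zd8) (kd xd12 yd51 zd13) (kd xd21 yd40 zd31) (kd xd29 yd22 zd53) (kd xd17 yd13 zd4) (kd xd15 yd27 zd22) (kd xd15 yd8 zd41) (kd xd11 yd19 zd20) (kd xd19 yd57 zd36)) (@D3.rec (fun _ => Pt) (kd xd15 yd25 zd19) (kd xd15 yd25 zd20) (kd xd17 yd49 zd11) (kd xd12 yd42 zd42) (kd xd24 yd27 zd39) (kd xd26 yd40 zd17) (kd xd27 yd19 zd50) (kd xd15 yd25 zd10) (kd xd25 yd17 zd59) (kd xd27 yd41 zd32) (kd xd12 yd31 zd29) (kd xd11 yd19 zd27) (kd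 xd12 yd44 zd35) (kd xd29 yd22 zd61) (kd xd12 yd31 zd60) (kd xd11 yd19 zd28) (kd xd14 yd35 zd47) (kd xd27 yd40 zd4) (kd xd18 yd37 zd57) (kd xd18 yd15 zd29) (kd xd11 yd36 zd38) (kd xd19 yd5 zd54) (kd xd20 yd53 zd30) (kd xd23 yd29 zd22) (kd xd11 yd19 zd35) (kd xd24 yd37 zd27) (kd xd29 yd23 zd3) (kd xd11 yd19 zd36) (kd xd17 yd13 zd55) (kd xd29 yd23 zd4) (kd xd11 yd19 zd38) (kd xd29 yd23 zd5) (kd xd20 yd20 zd36) (kd xd29 yd23 zd6) (kd xd11 yd19 zd39) (kd xd11 yd46 zd13) (kd xd29 yd23 zd7) (kd xd11 yd19 zd40) (kd xd11 yd24 zd15) (kd xd20 yd13 zd55) (kd xd17 yd8 zd20) (kd xd11 yd46 zd30) (kd xd17 yd7 zd30) (kd xd11 yd24 zd24) (kd xd12 yd43 zd23) (kd xd16 yd57 zd21) (kd xd11 yd19 zd44) (kd xd11 yd46 zd26) (kd xd27 yd56 zd20) (kd xd12 yd40 zd38) (kd xd20 yd40 zd28) (kd xd11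 yd46 zd24) (kd xd11 yd19 zd47) (kd xd20 yd40 zd27) (kd xd11 yd19 zd48) (kd xd11 yd47 zd22) (kd xd11 yd46 zd54) (kd xd11 yd19 zd49) (kd xd11 yd43 zd29) (kd xd21 yd23 zd15) (kd xd14 yd54 zd30) (kd xd13 yd1 zd27)) (@D3.rec (fun _ => Pt) (kd xd11 yd19 zd56) (kd xd29 yd23 zd16) (kd xd11 yd19 zd57) (kd xd13 yd55 zd48) (kd xd17 yd59 zd20) (kd xd21 yd21 zd22) (kd xd11 yd19 zd60) (kd xd11 yd19 zd61) (kd xd18 yd42 zd54) (kd xd20 yd13 zd52) (kd xd20 yd44 zd49) (kd xd11 yd46 zd34) (kd xd11 yd43 zd50) (kd xd11 yd24 zd19) (kd xd14 yd11 zd29) (kd xd20 yd44 zd46) (kd xd13 yd12 zd13) (kd xd24 yd24 zd51) (kd xd11 yd20 zd3) (kd xd18 yd41 zd33) (kd xd11 yd20 zd9) (kd xd20 yd17 zd26) (kd xd26 yd22 zd4) (kd xd20 yd44 zd40) (kd xd17 yd8 zd23) (kd xd16 yd30 zd22) (kd xd20 yd17 zd21) (kd xd19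 yd57 zd31) (kd xd24 yd19 zd56) (kd xd11 yd20 zd13) (kd xd14 yd11 zd37) (kd xd11 yd46 zd33) (kd xd21 yd41 zd43) (kd xd14 yd11 zd32) (kd xd24 yd30 zd9) (kd xd11 yd20 zd16) (kd xd11 yd20 zd19) (kd xd20 yd40 zd23) (kd xd17 yd13 zd38) (kd xd11 yd20 zd21) (kd xd18 yd56 zd47) (kd xd17 yd13 zd9) (kd xd23 yd10 zd36) (kd xd29 yd23 zd27) (kd xd11 yd20 zd25) (kd xd22 yd5 zd60) (kd xd11 yd20 zd27) (kd xd29 yd23 zd31) (kd xd16 yd30 zd51) (kd xd25 yd59 zd0) (kd xd20 yd46 zd27) (kd xd29 yd9 zd16) (kd xd25 yd55 zd25) (kd xd11 yd20 zd30) (kd xd11 yd58 zd3) (kd xd20 yd44 zd0) (kd xd20 yd49 zd0) (kd xd12 yd30 zd52) (kd xd11 yd58 zd6) (kd xd23 yd7 zd42) (kd xd11 yd20 zd34) (kd xd12 yd30 zd28)) (@D3.rec (fun _ => Pt) (kd xd29 yd23 zd46) (kd xd11 yd20 zd36) (kd xd23 yd37 zd53) (kd xd23 yd8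 zd44) (kd xd11 yd20 zd38) (kd xd29 yd23 zd51) (kd xd11 yd20 zd39) (kd xd25 yd56 zd29) (kd xd29 yd23 zd52) (kd xd11 yd20 zd40) (kd xd25 yd43 zd29) (kd xd29 yd18 zd51) (kd xd11 yd20 zd42) (kd xd14 yd59 zd3) (kd xd28 yd13 zd48) (kd xd20 yd30 zd59) (kd xd20 yd32 zd19) (kd xd11 yd20 zd44) (kd xd11 yd48 zd16) (kd xd11 yd20 zd48) (kd xd29 yd21 zd4) (kd xd29 yd24 zd1) (kd xd12 yd7 zd4) (kd xd29 yd24 zd2) (kd xd12 yd8 zd59) (kd xd16 yd52 zd59) (kd xd25 yd18 zd24) (kd xd16 yd53 zd0) (kd xd16 yd52 zd61) (kd xd29 yd18 zd37) (kd xd20 yd33 zd8) (kd xd29 yd24 zd10) (kd xd23 yd15 zd48) (kd xd11 yd20 zd54) (kd xd18 yd23 zd40) (kd xd27 yd22 zd61) (kd xd20 yd32 zd52) (kd xd29 yd24 zd14) (kd xd12 yd56 zd40) (kd xd11 yd20 zd56) (kd xd24 yd56 zd58) (kd xd20 yd52 zd4) (kd xd21 yd53 zd35)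 (kd xd20 yd29 zd60) (kd xd11 yd20 zd59) (kd xd11 yd20 zd60) (kd xd26 yd30 zd18) (kd xd26 yd51 zd19) (kd xd20 yd9 zd7) (kd xd11 yd21 zd1) (kd xd11 yd21 zd2) (kd xd17 yd15 zd1) (kd xd19 yd27 zd53) (kd xd11 yd46 zd21) (kd xd11 yd21 zd6) (kd xd29 yd24 zd18) (kd xd11 yd21 zd11) (kd xd15 yd26 zd45) (kd xd17 yd20 zd43) (kd xd17 yd21 zd45) (kd xd11 yd21 zd17) (kd xd29 yd24 zd20)) (@D3.rec (fun _ => Pt) (kd xd23 yd56 zd60) (kd xd16 yd20 zd38) (kd xd16 yd52 zd13) (kd xd16 yd20 zd36) (kd xd29 yd24 zd24) (kd xd16 yd20 zd40) (kd xd11 yd23 zd12) (kd xd26 yd17 zd18) (kd xd27 yd2 zd3) (kd xd18 yd45 zd37) (kd xd20 yd58 zd14) (kd xd23 yd50 zd2) (kd xd11 yd21 zd32) (kd xd21 yd0 zd3) (kd xd12 yd10 zd39) (kd xd21 yd10 zd12) (kd xd12 yd21 zd10) (kd xd17 yd49 zd7) (kd xd16 yd48 zd13) (kd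 xd16 yd48 zd14) (kd xd11 yd21 zd39) (kd xd11 yd21 zd40) (kd xd26 yd40 zd16) (kd xd20 yd34 zd24) (kd xd15 yd25 zd23) (kd xd11 yd21 zd42) (kd xd19 yd57 zd39) (kd xd17 yd49 zd8) (kd xd11 yd22 zd57) (kd xd17 yd12 zd59) (kd xd18 yd22 zd39) (kd xd13 yd28 zd5) (kd xd11 yd21 zd47) (kd xd28 yd33 zd16) (kd xd24 yd42 zd57) (kd xd12 yd22 zd28) (kd xd13 yd0 zd51) (kd xd16 yd35 zd53) (kd xd27 yd37 zd48) (kd xd19 yd57 zd27) (kd xd16 yd48 zd12) (kd xd17 yd12 zd57) (kd xd29 yd24 zd30) (kd xd22 yd50 zd1) (kd xd11 yd48 zd6) (kd xd23 yd3 zd19) (kd xd29 yd24 zd31) (kd xd11 yd22 zd5) (kd xd19 yd34 zd28) (kd xd18 yd23 zd49) (kd xd12 yd7 zd26) (kd xd20 yd50 zd60) (kd xd18 yd23 zd46) (kd xd18 yd23 zd31) (kd xd11 yd22 zd14) (kd xd25 yd17 zd50) (kd xd17 yd8 zd27) (kd xd17 yd55 zd17) (kd xd11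 yd22 zd16) (kd xd16 yd51 zd38) (kd xd17 yd6 zd2) (kd xd11 yd22 zd21)) (@D3.rec (fun _ => Pt) (kd xd29 yd24 zd34) (kd xd11 yd22 zd22) (kd xd27 yd13 zd28) (kd xd20 yd34 zd46) (kd xd11 yd22 zd24) (kd xd23 yd57 zd2) (kd xd11 yd50 zd6) (kd xd11 yd22 zd25) (kd xd29 yd24 zd36) (kd xd11 yd22 zd26) (kd xd17 yd8 zd17) (kd xd16 yd59 zd23) (kd xd29 yd24 zd40) (kd xd26 yd49 zd24) (kd xd26 yd49 zd25) (kd xd11 yd22 zd28) (kd xd29 yd24 zd43) (kd xd26 yd22 zd59) (kd xd16 yd48 zd36) (kd xd17 yd8 zd8) (kd xd17 yd8 zd9) (kd xd11 yd22 zd31) (kd xd29 yd24 zd46) (kd xd16 yd52 zd4) (kd xd11 yd30 zd13) (kd xd18 yd24 zd7) (kd xd14 yd26 zd30) (kd xd15 yd7 zd29) (kd xd11 yd22 zd38) (kd xd21 yd15 zd27) (kd xd18 yd21 zd34) (kd xd20 yd30 zd37) (kd xd11 yd22 zd47) (kd xd27 yd12 zd53) (kd xd20 yd48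 zd17) (kd xd23 yd29 zd18) (kd xd20 yd16 zd32) (kd xd11 yd22 zd54) (kd xd17 yd8 zd11) (kd xd11 yd22 zd56) (kd xd25 yd42 zd33) (kd xd20 yd49 zd8) (kd xd24 yd34 zd20) (kd xd29 yd24 zd50) (kd xd11 yd22 zd59) (kd xd12 yd20 zd45) (kd xd11 yd48 zd9) (kd xd16 yd35 zd18) (kd xd18 yd19 zd30) (kd xd11 yd25 zd19) (kd xd18 yd43 zd12) (kd xd25 yd17 zd51) (kd xd24 yd48 zd31) (kd xd13 yd27 zd55) (kd xd13 yd27 zd52) (kd xd29 yd24 zd26) (kd xd15 yd50 zd27) (kd xd14 yd59 zd20) (kd xd18 yd28 zd57) (kd xd27 yd5 zd18) (kd xd27 yd5 zd19) (kd xd16 yd31 zd43)) (@D3.rec (fun _ => Pt) (kd xd25 yd1 zd42) (kd xd16 yd27 zd44) (kd xd16 yd32 zd15) (kd xd17 yd47 zd31) (kd xd15 yd50 zd37) (kd xd18 yd31 zd21) (kd xd29 yd25 zd0) (kd xd26 yd28 zd55) (kd xd26 yd28 zd54) (kd xd21 yd10 zd49) (kd xd20 yd21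 zd15) (kd xd27 yd53 zd57) (kd xd23 yd46 zd61) (kd xd16 yd27 zd60) (kd xd18 yd19 zd1) (kd xd20 yd21 zd10) (kd xd18 yd13 zd25) (kd xd23 yd20 zd29) (kd xd13 yd47 zd19) (kd xd13 yd14 zd33) (kd xd29 yd25 zd9) (kd xd20 yd21 zd31) (kd xd29 yd20 zd7) (kd xd29 yd20 zd8) (kd xd27 yd34 zd43) (kd xd11 yd23 zd37) (kd xd12 yd7 zd14) (kd xd27 yd33 zd2) (kd xd17 yd46 zd24) (kd xd27 yd48 zd48) (kd xd27 yd48 zd51) (kd xd20 yd21 zd21) (kd xd29 yd25 zd17) (kd xd26 yd29 zd45) (kd xd18 yd18 zd50) (kd xd29 yd25 zd18) (kd xd16 yd10 zd61) (kd xd18 yd18 zd53) (kd xd11 yd23 zd48) (kd xd28 yd47 zd43) (kd xd29 yd25 zd20) (kd xd11 yd23 zd49) (kd xd29 yd25 zd22) (kd xd25 yd57 zd14) (kd xd29 yd25 zd24) (kd xd29 yd25 zd25) (kd xd11 yd23 zd50) (kd xd18 yd55 zd13) (kd xd19 yd43 zd12) (kd xd15 yd23 zd39)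 (kd xd18 yd1 zd58) (kd xd21 yd50 zd41) (kd xd11 yd59 zd23) (kd xd14 yd7 zd42) (kd xd24 yd54 zd12) (kd xd29 yd25 zd32) (kd xd11 yd24 zd4) (kd xd15 yd49 zd40) (kd xd29 yd25 zd34) (kd xd12 yd56 zd15) (kd xd11 yd36 zd0) (kd xd20 yd36 zd0)) (@D3.rec (fun _ => Pt) (kd xd19 yd59 zd59) (kd xd12 yd44 zd47) (kd xd11 yd24 zd14) (kd xd11 yd24 zd17) (kd xd11 yd24 zd18) (kd xd26 yd45 zd48) (kd xd18 yd39 zd48) (kd xd17 yd59 zd21) (kd xd12 yd28 zd54) (kd xd12 yd38 zd40) (kd xd11 yd24 zd23) (kd xd16 yd55 zd29) (kd xd19 yd59 zd58) (kd xd22 yd5 zd0) (kd xd12 yd25 zd36) (kd xd21 yd32 zd44) (kd xd11 yd55 zd42) (kd xd21 yd16 zd19) (kd xd19 yd7 zd12) (kd xd19 yd7 zd8) (kd xd22 yd6 zd12) (kd xd26 yd25 zd26) (kd xd16 yd59 zd32) (kd xd12 yd59 zd45) (kd xd17 yd30 zd53) (kd xd12 yd9 zd41) (kd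 xd21 yd2 zd36) (kd xd28 yd48 zd9) (kd xd20 yd53 zd10) (kd xd11 yd24 zd46) (kd xd11 yd24 zd47) (kd xd26 yd28 zd29) (kd xd19 yd51 zd16) (kd xd11 yd24 zd61) (kd xd11 yd25 zd3) (kd xd20 yd24 zd2) (kd xd22 yd5 zd39) (kd xd20 yd25 zd15) (kd xd11 yd25 zd7) (kd xd14 yd36 zd59) (kd xd11 yd25 zd10) (kd xd27 yd0 zd44) (kd xd14 yd4 zd59) (kd xd25 yd47 zd7) (kd xd29 yd25 zd38) (kd xd11 yd25 zd14) (kd xd11 yd25 zd15) (kd xd15 yd4 zd27) (kd xd27 yd41 zd1) (kd xd20 yd26 zd8) (kd xd11 yd25 zd25) (kd xd14 yd4 zd56) (kd xd11 yd25 zd27) (kd xd12 yd17 zd31) (kd xd11 yd25 zd28) (kd xd11 yd56 zd5) (kd xd20 yd24 zd15) (kd xd17 yd59 zd57) (kd xd11 yd25 zd31) (kd xd12 yd49 zd53) (kd xd11 yd25 zd33) (kd xd19 yd52 zd28)) (@D3.rec (fun _ => Pt) (kd xd20 yd44 zd42) (kd xd11 yd25 zd36) (kd xd11 yd25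 zd37) (kd xd29 yd25 zd42) (kd xd11 yd25 zd38) (kd xd20 yd24 zd4) (kd xd24 yd20 zd18) (kd xd20 yd44 zd39) (kd xd29 yd25 zd48) (kd xd11 yd25 zd40) (kd xd11 yd25 zd41) (kd xd20 yd23 zd44) (kd xd28 yd36 zd47) (kd xd11 yd25 zd57) (kd xd11 yd25 zd44) (kd xd11 yd25 zd46) (kd xd29 yd25 zd50) (kd xd27 yd45 zd48) (kd xd27 yd22 zd5) (kd xd11 yd25 zd47) (kd xd11 yd25 zd49) (kd xd11 yd25 zd50) (kd xd28 yd47 zd23) (kd xd16 yd58 zd14) (kd xd29 yd25 zd58) (kd xd11 yd25 zd53) (kd xd26 yd58 zd27) (kd xd11 yd25 zd55) (kd xd27 yd56 zd61) (kd xd22 yd7 zd58) (kd xd18 yd3 zd9) (kd xd16 yd58 zd21) (kd xd25 yd38 zd42) (kd xd11 yd26 zd1) (kd xd20 yd27 zd52) (kd xd26 yd46 zd20) (kd xd11 yd26 zd3) (kd xd29 yd26 zd1) (kd xd11 yd26 zd6) (kd xd25 yd21 zd54) (kd xd19 yd7 zd22) (kd xd13 yd24 zd18)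 (kd xd29 yd26 zd6) (kd xd11 yd26 zd10) (kd xd20 yd23 zd11) (kd xd21 yd36 zd32) (kd xd14 yd39 zd49) (kd xd11 yd26 zd12) (kd xd28 yd44 zd24) (kd xd26 yd31 zd41) (kd xd29 yd26 zd19) (kd xd14 yd41 zd52) (kd xd11 yd26 zd14) (kd xd27 yd11 zd14) (kd xd27 yd44 zd44) (kd xd11 yd26 zd15) (kd xd16 yd41 zd35) (kd xd29 yd26 zd25) (kd xd27 yd19 zd24) (kd xd11 yd26 zd16) (kd xd24 yd35 zd6) (kd xd11 yd26 zd18)) (@D3.rec (fun _ => Pt) (kd xd11 yd26 zd19) (kd xd11 yd26 zd20) (kd xd20 yd22 zd35) (kd xd28 yd39 zd36) (kd xd20 yd23 zd5) (kd xd26 yd53 zd61) (kd xd29 yd26 zd31) (kd xd18 yd1 zd18) (kd xd24 yd0 zd23) (kd xd24 yd0 zd22) (kd xd27 yd39 zd16) (kd xd19 yd18 zd32) (kd xd24 yd1 zd29) (kd xd11 yd26 zd27) (kd xd29 yd26 zd38) (kd xd20 yd22 zd56) (kd xd29 yd26 zd40) (kd xd11 yd26 zd30)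 (kd xd11 yd26 zd31) (kd xd29 yd26 zd32) (kd xd29 yd26 zd42) (kd xd11 yd26 zd33) (kd xd11 yd26 zd34) (kd xd26 yd7 zd44) (kd xd11 yd26 zd35) (kd xd16 yd29 zd33) (kd xd29 yd25 zd36) (kd xd20 yd37 zd43) (kd xd11 yd26 zd37) (kd xd20 yd12 zd4) (kd xd27 yd57 zd20) (kd xd26 yd6 zd32) (kd xd24 yd27 zd24) (kd xd11 yd26 zd38) (kd xd29 yd10 zd47) (kd xd21 yd52 zd38) (kd xd11 yd26 zd41) (kd xd22 yd4 zd11) (kd xd11 yd26 zd42) (kd xd24 yd12 zd1) (kd xd14 yd43 zd36) (kd xd11 yd26 zd44) (kd xd23 yd24 zd48) (kd xd19 yd52 zd29) (kd xd28 yd40 zd13) (kd xd11 yd26 zd47) (kd xd15 yd3 zd61) (kd xd16 yd21 zd46) (kd xd25 yd18 zd18) (kd xd12 yd24 zd7) (kd xd27 yd36 zd26) (kd xd23 yd48 zd1) (kd xd27 yd41 zd29) (kd xd29 yd26 zd47) (kd xd29 yd26 zd48) (kd xd11 yd26 zd59) (kd xd29 yd26 zd52) (kd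 xd29 yd26 zd53) (kd xd11 yd27 zd2) (kd xd27 yd40 zd56) (kd xd21 yd36 zd14) (kd xd21 yd36 zd15)) (@D3.rec (fun _ => Pt) (kd xd23 yd46 zd46) (kd xd12 yd35 zd21) (kd xd23 yd12 zd10) (kd xd23 yd12 zd13) (kd xd11 yd27 zd6) (kd xd16 yd51 zd27) (kd xd29 yd26 zd60) (kd xd17 yd0 zd23) (kd xd23 yd42 zd28) (kd xd11 yd27 zd11) (kd xd18 yd43 zd57) (kd xd29 yd8 zd42) (kd xd29 yd27 zd1) (kd xd11 yd27 zd13) (kd xd29 yd27 zd3) (kd xd20 yd22 zd37) (kd xd17 yd55 zd14) (kd xd11 yd27 zd15) (kd xd11 yd30 zd42) (kd xd27 yd41 zd58) (kd xd11 yd27 zd21) (kd xd20 yd45 zd2) (kd xd19 yd52 zd24) (kd xd29 yd8 zd41) (kd xd11 yd27 zd24) (kd xd25 yd18 zd5) (kd xd23 yd32 zd25) (kd xd17 yd58 zd30) (kd xd15 yd4 zd5) (kd xd26 yd51 zd25) (kd xd28 yd50 zd13) (kd xd20 yd28 zd18) (kd xd19 yd43 zd4) (kd xd11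 yd27 zd49) (kd xd12 yd31 zd61) (kd xd26 yd43 zd28) (kd xd11 yd41 zd0) (kd xd12 yd38 zd42) (kd xd29 yd27 zd8) (kd xd29 yd15 zd26) (kd xd11 yd28 zd0) (kd xd13 yd48 zd37) (kd xd29 yd27 zd9) (kd xd19 yd2 zd27) (kd xd12 yd9 zd24) (kd xd16 yd53 zd29) (kd xd17 yd34 zd41) (kd xd19 yd52 zd56) (kd xd11 yd55 zd12) (kd xd20 yd50 zd57) (kd xd20 yd0 zd17) (kd xd11 yd28 zd15) (kd xd12 yd32 zd28) (kd xd11 yd28 zd20) (kd xd18 yd42 zd16) (kd xd20 yd28 zd22) (kd xd18 yd26 zd2) (kd xd19 yd34 zd23) (kd xd17 yd55 zd1) (kd xd23 yd53 zd54) (kd xd11 yd28 zd32) (kd xd20 yd14 zd40)) (@D3.rec (fun _ => Pt) (kd xd18 yd15 zd14) (kd xd18 yd32 zd31) (kd xd16 yd30 zd27) (kd xd23 yd3 zd60) (kd xd12 yd9 zd44) (kd xd14 yd38 zd27) (kd xd11 yd50 zd39) (kd xd11 yd49 zd52) (kd xd20 yd22 zd49) (kd xd17 yd53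 zd42) (kd xd17 yd55 zd28) (kd xd21 yd36 zd48) (kd xd19 yd51 zd15) (kd xd16 yd47 zd7) (kd xd18 yd57 zd51) (kd xd20 yd46 zd21) (kd xd11 yd29 zd1) (kd xd15 yd4 zd25) (kd xd25 yd1 zd59) (kd xd15 yd12 zd41) (kd xd16 yd34 zd0) (kd xd29 yd27 zd12) (kd xd16 yd34 zd5) (kd xd26 yd9 zd4) (kd xd27 yd5 zd28) (kd xd22 yd50 zd30) (kd xd29 yd27 zd13) (kd xd20 yd26 zd28) (kd xd20 yd26 zd27) (kd xd15 yd26 zd47) (kd xd18 yd43 zd9) (kd xd19 yd59 zd60) (kd xd11 yd57 zd59) (kd xd29 yd27 zd16) (kd xd11 yd29 zd31) (kd xd29 yd27 zd18) (kd xd11 yd29 zd32) (kd xd24 yd22 zd61) (kd xd29 yd27 zd23) (kd xd11 yd29 zd33) (kd xd29 yd27 zd25) (kd xd29 yd27 zd26) (kd xd11 yd29 zd34) (kd xd20 yd1 zd41) (kd xd18 yd2 zd19) (kd xd25 yd21 zd11) (kd xd23 yd49 zd22) (kd xd23 yd38 zd8) (kd xd11 yd29 zd43) (kd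 xd13 yd2 zd23) (kd xd11 yd29 zd44) (kd xd27 yd0 zd46) (kd xd26 yd45 zd37) (kd xd11 yd29 zd47) (kd xd24 yd18 zd35) (kd xd11 yd29 zd48) (kd xd24 yd21 zd32) (kd xd14 yd36 zd60) (kd xd14 yd36 zd61) (kd xd11 yd29 zd50) (kd xd11 yd29 zd51) (kd xd12 yd57 zd54)) (@D3.rec (fun _ => Pt) (kd xd27 yd37 zd32) (kd xd11 yd29 zd53) (kd xd27 yd10 zd26) (kd xd11 yd29 zd57) (kd xd26 yd50 zd47) (kd xd11 yd29 zd58) (kd xd20 yd27 zd30) (kd xd11 yd29 zd60) (kd xd11 yd29 zd61) (kd xd19 yd13 zd10) (kd xd29 yd27 zd39) (kd xd11 yd30 zd0) (kd xd16 yd38 zd33) (kd xd17 yd20 zd2) (kd xd14 yd35 zd26) (kd xd16 yd34 zd45) (kd xd11 yd30 zd2) (kd xd19 yd10 zd1) (kd xd11 yd30 zd6) (kd xd17 yd19 zd11) (kd xd11 yd30 zd8) (kd xd12 yd57 zd32) (kd xd16 yd35 zd20) (kd xd11 yd30 zd10) (kd xd11 yd30 zd11) (kd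 xd29 yd24 zd42) (kd xd11 yd30 zd12) (kd xd16 yd40 zd24) (kd xd12 yd53 zd28) (kd xd21 yd15 zd44) (kd xd20 yd27 zd6) (kd xd12 yd53 zd26) (kd xd14 yd4 zd52) (kd xd24 yd18 zd34) (kd xd11 yd30 zd29) (kd xd17 yd34 zd49) (kd xd11 yd30 zd31) (kd xd26 yd14 zd41) (kd xd26 yd10 zd29) (kd xd11 yd30 zd32) (kd xd16 yd15 zd32) (kd xd11 yd30 zd33) (kd xd21 yd26 zd33) (kd xd11 yd30 zd34) (kd xd21 yd32 zd28) (kd xd14 yd11 zd27) (kd xd11 yd46 zd41) (kd xd12 yd31 zd21) (kd xd12 yd24 zd2) (kd xd24 yd53 zd11) (kd xd11 yd30 zd47) (kd xd21 yd15 zd45) (kd xd20 yd23 zd34) (kd xd22 yd6 zd9) (kd xd22 yd30 zd57) (kd xd18 yd42 zd61) (kd xd22 yd4 zd57) (kd xd18 yd17 zd38) (kd xd22 yd5 zd28) (kd xd12 yd56 zd26) (kd xd20 yd34 zd11) (kd xd23 yd57 zd8)) (@D3.rec (fun _ => Pt) (kd xd11 yd31 zd4) (kd xd11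 yd31 zd8) (kd xd11 yd31 zd9) (kd xd11 yd31 zd15) (kd xd11 yd31 zd16) (kd xd17 yd53 zd45) (kd xd16 yd29 zd32) (kd xd22 yd11 zd36) (kd xd18 yd2 zd7) (kd xd18 yd17 zd26) (kd xd23 yd48 zd48) (kd xd14 yd34 zd60) (kd xd12 yd15 zd21) (kd xd29 yd27 zd49) (kd xd11 yd31 zd39) (kd xd28 yd52 zd27) (kd xd19 yd25 zd50) (kd xd12 yd5 zd47) (kd xd20 yd25 zd31) (kd xd11 yd51 zd37) (kd xd11 yd51 zd38) (kd xd20 yd53 zd55) (kd xd20 yd25 zd55) (kd xd29 yd27 zd54) (kd xd16 yd56 zd37) (kd xd11 yd31 zd46) (kd xd29 yd27 zd55) (kd xd20 yd52 zd44) (kd xd15 yd5 zd9) (kd xd20 yd29 zd23) (kd xd21 yd31 zd59) (kd xd11 yd31 zd55) (kd xd18 yd1 zd12) (kd xd23 yd41 zd41) (kd xd18 yd0 zd53) (kd xd29 yd27 zd57) (kd xd26 yd45 zd5) (kd xd14 yd16 zd28) (kd xd11 yd31 zd61) (kd xd23 yd28 zd36) (kd xd11 yd32 zd0)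 (kd xd14 yd15 zd42) (kd xd18 yd42 zd59) (kd xd11 yd32 zd2) (kd xd19 yd18 zd61) (kd xd21 yd13 zd29) (kd xd13 yd40 zd27) (kd xd13 yd40 zd28) (kd xd22 yd50 zd10) (kd xd20 yd31 zd39) (kd xd16 yd32 zd18) (kd xd14 yd18 zd35) (kd xd11 yd32 zd8) (kd xd29 yd28 zd6) (kd xd13 yd45 zd48) (kd xd11 yd32 zd11) (kd xd14 yd17 zd48) (kd xd20 yd8 zd0) (kd xd11 yd32 zd25) (kd xd29 yd28 zd8) (kd xd11 yd32 zd15) (kd xd29 yd28 zd9)) (@D3.rec (fun _ => Pt) (kd xd11 yd32 zd16) (kd xd14 yd16 zd26) (kd xd17 yd21 zd24) (kd xd22 yd0 zd24) (kd xd11 yd32 zd20) (kd xd29 yd28 zd11) (kd xd23 yd52 zd61) (kd xd11 yd32 zd21) (kd xd11 yd40 zd3) (kd xd16 yd43 zd15) (kd xd13 yd31 zd31) (kd xd11 yd32 zd23) (kd xd29 yd28 zd14) (kd xd12 yd17 zd41) (kd xd16 yd28 zd36) (kd xd11 yd32 zd26) (kd xd23 yd30 zd13) (kd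 xd28 yd49 zd23) (kd xd11 yd32 zd29) (kd xd15 yd33 zd59) (kd xd26 yd55 zd57) (kd xd11 yd32 zd31) (kd xd29 yd8 zd53) (kd xd20 yd28 zd29) (kd xd13 yd27 zd58) (kd xd23 yd31 zd34) (kd xd23 yd31 zd35) (kd xd15 yd50 zd10) (kd xd18 yd59 zd37) (kd xd16 yd40 zd1) (kd xd19 yd2 zd29) (kd xd25 yd9 zd5) (kd xd13 yd50 zd54) (kd xd19 yd6 zd41) (kd xd29 yd28 zd33) (kd xd24 yd59 zd16) (kd xd15 yd13 zd0) (kd xd25 yd2 zd11) (kd xd29 yd28 zd39) (kd xd26 yd16 zd55) (kd xd15 yd35 zd32) (kd xd15 yd57 zd44) (kd xd28 yd38 zd23) (kd xd15 yd35 zd7) (kd xd11 yd32 zd41) (kd xd26 yd29 zd6) (kd xd18 yd41 zd43) (kd xd11 yd32 zd42) (kd xd11 yd32 zd44) (kd xd21 yd55 zd27) (kd xd29 yd28 zd46) (kd xd23 yd29 zd19) (kd xd23 yd29 zd20) (kd xd11 yd32 zd49) (kd xd23 yd29 zd15) (kd xd11 yd32 zd50) (kd xd16 yd45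 zd20) (kd xd29 yd28 zd47) (kd xd16 yd51 zd3) (kd xd26 yd28 zd37) (kd xd20 yd18 zd43) (kd xd11 yd32 zd57)) (@D3.rec (fun _ => Pt) (kd xd26 yd24 zd58) (kd xd29 yd28 zd50) (kd xd29 yd28 zd51) (kd xd29 yd23 zd60) (kd xd21 yd15 zd8) (kd xd24 yd9 zd8) (kd xd13 yd26 zd47) (kd xd29 yd28 zd52) (kd xd29 yd28 zd54) (kd xd11 yd33 zd2) (kd xd29 yd28 zd58) (kd xd29 yd28 zd59) (kd xd11 yd33 zd3) (kd xd26 yd32 zd16) (kd xd29 yd8 zd47) (kd xd11 yd33 zd4) (kd xd29 yd29 zd1) (kd xd21 yd15 zd37) (kd xd27 yd58 zd22) (kd xd11 yd33 zd6) (kd xd25 yd18 zd16) (kd xd24 yd55 zd45) (kd xd13 yd39 zd42) (kd xd23 yd15 zd52) (kd xd18 yd23 zd45) (kd xd15 yd5 zd26) (kd xd15 yd0 zd8) (kd xd17 yd15 zd46) (kd xd13 yd9 zd17) (kd xd29 yd29 zd9) (kd xd28 yd55 zd2) (kd xd20 yd34 zd9) (kd xd14 yd20 zd10) (kd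 xd14 yd19 zd24) (kd xd14 yd19 zd23) (kd xd23 yd5 zd40) (kd xd11 yd33 zd17) (kd xd20 yd20 zd31) (kd xd29 yd23 zd61) (kd xd23 yd57 zd58) (kd xd21 yd39 zd56) (kd xd14 yd42 zd37) (kd xd11 yd33 zd25) (kd xd25 yd2 zd43) (kd xd11 yd33 zd26) (kd xd26 yd30 zd0) (kd xd26 yd29 zd61) (kd xd24 yd31 zd29) (kd xd29 yd29 zd14) (kd xd12 yd34 zd14) (kd xd12 yd34 zd17) (kd xd11 yd33 zd35) (kd xd28 yd42 zd34) (kd xd11 yd33 zd36) (kd xd19 yd47 zd37) (kd xd11 yd33 zd37) (kd xd26 yd30 zd16) (kd xd29 yd7 zd39) (kd xd12 yd7 zd41) (kd xd20 yd18 zd15) (kd xd11 yd33 zd39) (kd xd24 yd18 zd57)) (@D3.rec (fun _ => Pt) (kd xd26 yd56 zd39) (kd xd23 yd18 zd29) (kd xd11 yd33 zd41) (kd xd29 yd29 zd20) (kd xd11 yd33 zd43) (kd xd29 yd29 zd21) (kd xd24 yd5 zd34) (kd xd24 yd53 zd23) (kd xd11 yd33 zd46) (kd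 xd14 yd31 zd45) (kd xd11 yd33 zd48) (kd xd23 yd53 zd16) (kd xd29 yd29 zd26) (kd xd11 yd33 zd51) (kd xd11 yd34 zd46) (kd xd27 yd10 zd34) (kd xd29 yd29 zd27) (kd xd29 yd29 zd28) (kd xd29 yd29 zd30) (kd xd11 yd33 zd57) (kd xd29 yd29 zd33) (kd xd11 yd33 zd58) (kd xd18 yd41 zd48) (kd xd29 yd29 zd16) (kd xd29 yd29 zd34) (kd xd11 yd33 zd60) (kd xd15 yd23 zd41) (kd xd14 yd58 zd45) (kd xd13 yd32 zd59) (kd xd13 yd32 zd58) (kd xd11 yd34 zd2) (kd xd20 yd32 zd0) (kd xd18 yd51 zd55) (kd xd18 yd51 zd60) (kd xd11 yd34 zd6) (kd xd18 yd45 zd43) (kd xd13 yd51 zd32) (kd xd18 yd45 zd5) (kd xd11 yd34 zd7) (kd xd20 yd28 zd49) (kd xd18 yd45 zd9) (kd xd11 yd34 zd8) (kd xd22 yd29 zd2) (kd xd26 yd29 zd23) (kd xd29 yd29 zd48) (kd xd11 yd34 zd10) (kd xd24 yd4 zd47) (kd xd22 yd5 zd11) (kd xd11 yd34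 zd12) (kd xd29 yd29 zd49) (kd xd26 yd24 zd61) (kd xd27 yd59 zd15) (kd xd11 yd34 zd16) (kd xd24 yd30 zd18) (kd xd28 yd17 zd24) (kd xd19 yd21 zd13) (kd xd11 yd34 zd20) (kd xd19 yd47 zd49) (kd xd16 yd47 zd47) (kd xd11 yd34 zd21) (kd xd19 yd51 zd5) (kd xd20 yd47 zd50)) (@D3.rec (fun _ => Pt) (kd xd20 yd31 zd31) (kd xd21 yd13 zd59) (kd xd26 yd24 zd60) (kd xd11 yd34 zd25) (kd xd25 yd11 zd45) (kd xd29 yd29 zd56) (kd xd14 yd59 zd57) (kd xd29 yd19 zd6) (kd xd16 yd33 zd45) (kd xd11 yd34 zd28) (kd xd26 yd25 zd56) (kd xd20 yd6 zd22) (kd xd11 yd34 zd29) (kd xd16 yd35 zd14) (kd xd20 yd6 zd23) (kd xd11 yd34 zd30) (kd xd22 yd29 zd43) (kd xd19 yd51 zd24) (kd xd19 yd49 zd7) (kd xd20 yd18 zd16) (kd xd18 yd52 zd4) (kd xd16 yd3 zd21) (kd xd13 yd47 zd5) (kd xd28 yd0 zd46) (kd xd14 yd58 zd48)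 (kd xd26 yd31 zd17) (kd xd23 yd58 zd6) (kd xd11 yd34 zd35) (kd xd18 yd59 zd54) (kd xd13 yd31 zd36) (kd xd13 yd46 zd46) (kd xd22 yd54 zd29) (kd xd11 yd34 zd37) (kd xd29 yd29 zd45) (kd xd18 yd23 zd55) (kd xd17 yd9 zd41) (kd xd17 yd54 zd37) (kd xd22 yd52 zd31) (kd xd24 yd40 zd39) (kd xd24 yd40 zd21) (kd xd26 yd21 zd17) (kd xd26 yd49 zd48) (kd xd29 yd29 zd5) (kd xd11 yd34 zd42) (kd xd28 yd26 zd24) (kd xd11 yd34 zd43) (kd xd19 yd10 zd9) (kd xd26 yd22 zd53) (kd xd28 yd34 zd60) (kd xd11 yd34 zd44) (kd xd11 yd35 zd11) (kd xd11 yd35 zd23) (kd xd20 yd18 zd36) (kd xd28 yd15 zd6) (kd xd22 yd53 zd14) (kd xd22 yd53 zd13) (kd xd12 yd55 zd48) (kd xd20 yd52 zd0) (kd xd16 yd45 zd4) (kd xd28 yd48 zd42) (kd xd11 yd34 zd59) (kd xd19 yd48 zd59)) (@D3.rec (fun _ => Pt) (kd xd20 yd44 zd41)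 (kd xd17 yd6 zd20) (kd xd11 yd49 zd57) (kd xd12 yd10 zd16) (kd xd26 yd52 zd52) (kd xd21 yd38 zd15) (kd xd26 yd56 zd15) (kd xd21 yd11 zd13) (kd xd20 yd18 zd30) (kd xd28 yd25 zd59) (kd xd13 yd34 zd36) (kd xd13 yd34 zd35) (kd xd13 yd34 zd17) (kd xd11 yd35 zd13) (kd xd11 yd35 zd30) (kd xd11 yd35 zd31) (kd xd29 yd30 zd17) (kd xd24 yd10 zd59) (kd xd24 yd10 zd60) (kd xd11 yd35 zd16) (kd xd29 yd30 zd22) (kd xd29 yd30 zd23) (kd xd11 yd35 zd19) (kd xd11 yd35 zd24) (kd xd29 yd30 zd24) (kd xd23 yd17 zd53) (kd xd28 yd21 zd16) (kd xd13 yd18 zd5) (kd xd23 yd25 zd39) (kd xd23 yd32 zd38) (kd xd23 yd17 zd48) (kd xd29 yd30 zd27) (kd xd24 yd13 zd33) (kd xd11 yd35 zd26) (kd xd26 yd27 zd10) (kd xd12 yd8 zd1) (kd xd14 yd20 zd21) (kd xd28 yd56 zd19) (kd xd21 yd52 zd31) (kd xd15 yd26 zd28)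 (kd xd24 yd25 zd7) (kd xd20 yd48 zd10) (kd xd20 yd48 zd9) (kd xd11 yd35 zd34) (kd xd24 yd21 zd23) (kd xd27 yd17 zd7) (kd xd11 yd35 zd35) (kd xd14 yd43 zd18) (kd xd20 yd47 zd4) (kd xd11 yd35 zd38) (kd xd29 yd30 zd35) (kd xd11 yd35 zd42) (kd xd22 yd0 zd58) (kd xd23 yd54 zd12) (kd xd11 yd35 zd43) (kd xd29 yd30 zd40) (kd xd11 yd35 zd45) (kd xd14 yd16 zd49) (kd xd13 yd17 zd48) (kd xd18 yd55 zd25) (kd xd20 yd10 zd7) (kd xd29 yd30 zd48)) (@D3.rec (fun _ => Pt) (kd xd25 yd59 zd27) (kd xd25 yd16 zd6) (kd xd20 yd7 zd51) (kd xd27 yd5 zd10) (kd xd26 yd55 zd38) (kd xd24 yd36 zd20) (kd xd11 yd35 zd52) (kd xd19 yd27 zd48) (kd xd19 yd18 zd42) (kd xd20 yd30 zd31) (kd xd19 yd27 zd4) (kd xd20 yd27 zd60) (kd xd15 yd24 zd1) (kd xd17 yd34 zd50) (kd xd21 yd32 zd27) (kd xd11 yd36 zd8) (kd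 xd27 yd7 zd31) (kd xd28 yd32 zd20) (kd xd27 yd35 zd51) (kd xd18 yd10 zd40) (kd xd29 yd30 zd54) (kd xd21 yd26 zd32) (kd xd27 yd10 zd31) (kd xd11 yd36 zd11) (kd xd20 yd19 zd23) (kd xd11 yd36 zd12) (kd xd12 yd4 zd55) (kd xd17 yd7 zd2) (kd xd27 yd36 zd12) (kd xd23 yd3 zd45) (kd xd27 yd4 zd50) (kd xd23 yd23 zd41) (kd xd16 yd9 zd27) (kd xd11 yd36 zd22) (kd xd22 yd4 zd26) (kd xd17 yd16 zd14) (kd xd11 yd36 zd23) (kd xd27 yd3 zd34) (kd xd11 yd36 zd26) (kd xd17 yd3 zd0) (kd xd11 yd36 zd29) (kd xd27 yd37 zd33) (kd xd20 yd38 zd29) (kd xd18 yd25 zd20) (kd xd11 yd36 zd32) (kd xd29 yd30 zd61) (kd xd20 yd20 zd3) (kd xd11 yd36 zd33) (kd xd29 yd31 zd0) (kd xd17 yd8 zd10) (kd xd20 yd52 zd11) (kd xd16 yd56 zd54) (kd xd11 yd36 zd35) (kd xd24 yd39 zd11) (kd xd11 yd36 zd40) (kd xd21 yd50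 zd46) (kd xd11 yd36 zd41) (kd xd20 yd38 zd12) (kd xd11 yd36 zd43) (kd xd11 yd36 zd45) (kd xd11 yd36 zd46) (kd xd13 yd38 zd36)) (@D3.rec (fun _ => Pt) (kd xd24 yd9 zd24) (kd xd11 yd36 zd47) (kd xd24 yd54 zd31) (kd xd12 yd22 zd19) (kd xd25 yd35 zd58) (kd xd11 yd36 zd49) (kd xd11 yd36 zd50) (kd xd29 yd31 zd9) (kd xd29 yd31 zd10) (kd xd26 yd31 zd52) (kd xd29 yd31 zd13) (kd xd29 yd31 zd15) (kd xd29 yd31 zd16) (kd xd29 yd31 zd17) (kd xd11 yd36 zd54) (kd xd11 yd36 zd56) (kd xd17 yd7 zd29) (kd xd29 yd31 zd19) (kd xd11 yd36 zd57) (kd xd11 yd36 zd58) (kd xd20 yd51 zd13) (kd xd16 yd47 zd43) (kd xd11 yd36 zd60) (kd xd29 yd31 zd20) (kd xd28 yd31 zd2) (kd xd28 yd46 zd49) (kd xd28 yd29 zd59) (kd xd28 yd39 zd20) (kd xd29 yd31 zd21) (kd xd11 yd37 zd2) (kd xd28 yd18 zd12) (kd xd29 yd31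 zd23) (kd xd11 yd37 zd4) (kd xd11 yd37 zd5) (kd xd29 yd31 zd27) (kd xd11 yd37 zd6) (kd xd29 yd31 zd29) (kd xd11 yd37 zd7) (kd xd29 yd31 zd31) (kd xd29 yd31 zd33) (kd xd11 yd37 zd8) (kd xd11 yd54 zd5) (kd xd21 yd3 zd0) (kd xd11 yd38 zd17) (kd xd29 yd31 zd22) (kd xd22 yd50 zd19) (kd xd22 yd50 zd20) (kd xd28 yd18 zd43) (kd xd29 yd31 zd40) (kd xd11 yd37 zd16) (kd xd20 yd36 zd9) (kd xd14 yd2 zd41) (kd xd26 yd53 zd6) (kd xd11 yd37 zd22) (kd xd11 yd37 zd23) (kd xd26 yd23 zd3) (kd xd21 yd28 zd44) (kd xd11 yd37 zd25) (kd xd17 yd9 zd30) (kd xd29 yd12 zd13) (kd xd23 yd41 zd9) (kd xd18 yd43 zd5)) (@D3.rec (fun _ => Pt) (kd xd20 yd21 zd61) (kd xd12 yd39 zd16) (kd xd18 yd23 zd22) (kd xd11 yd37 zd35) (kd xd11 yd37 zd36) (kd xd24 yd57 zd16) (kd xd12 yd37 zd46) (kd xd11 yd37 zd37) (kd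 xd13 yd33 zd49) (kd xd20 yd35 zd50) (kd xd27 yd9 zd46) (kd xd11 yd37 zd39) (kd xd12 yd56 zd38) (kd xd16 yd14 zd37) (kd xd11 yd37 zd44) (kd xd27 yd20 zd52) (kd xd11 yd37 zd45) (kd xd29 yd31 zd48) (kd xd21 yd24 zd45) (kd xd29 yd31 zd51) (kd xd25 yd58 zd57) (kd xd11 yd37 zd49) (kd xd26 yd32 zd0) (kd xd15 yd49 zd45) (kd xd27 yd23 zd38) (kd xd27 yd36 zd10) (kd xd20 yd8 zd40) (kd xd18 yd19 zd53) (kd xd14 yd17 zd30) (kd xd13 yd33 zd42) (kd xd13 yd37 zd49) (kd xd29 yd19 zd54) (kd xd29 yd31 zd59) (kd xd15 yd5 zd59) (kd xd11 yd37 zd56) (kd xd20 yd11 zd19) (kd xd21 yd15 zd15) (kd xd29 yd30 zd45) (kd xd27 yd59 zd35) (kd xd29 yd32 zd0) (kd xd25 yd23 zd37) (kd xd28 yd24 zd58) (kd xd15 yd59 zd21) (kd xd11 yd37 zd59) (kd xd22 yd59 zd50) (kd xd26 yd7 zd36) (kd xd12 yd53 zd19) (kd xd18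 yd21 zd8) (kd xd29 yd32 zd5) (kd xd29 yd32 zd7) (kd xd29 yd32 zd11) (kd xd11 yd38 zd1) (kd xd29 yd32 zd18) (kd xd20 yd1 zd4) (kd xd26 yd22 zd12) (kd xd16 yd51 zd23) (kd xd29 yd32 zd21) (kd xd11 yd38 zd4) (kd xd26 yd38 zd26) (kd xd19 yd2 zd32) (kd xd25 yd9 zd6) (kd xd26 yd23 zd26)) (@D3.rec (fun _ => Pt) (kd xd29 yd32 zd13) (kd xd29 yd32 zd14) (kd xd28 yd39 zd7) (kd xd11 yd38 zd7) (kd xd23 yd50 zd38) (kd xd29 yd32 zd27) (kd xd28 yd36 zd27) (kd xd22 yd56 zd37) (kd xd13 yd40 zd26) (kd xd22 yd27 zd22) (kd xd11 yd38 zd11) (kd xd22 yd56 zd14) (kd xd22 yd41 zd30) (kd xd13 yd44 zd12) (kd xd13 yd39 zd59) (kd xd11 yd38 zd13) (kd xd25 yd58 zd1) (kd xd29 yd32 zd31) (kd xd11 yd38 zd14) (kd xd24 yd35 zd49) (kd xd24 yd25 zd58) (kd xd29 yd32 zd32) (kd xd11 yd38 zd15) (kd xd22 yd26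 zd4) (kd xd29 yd32 zd3) (kd xd17 yd35 zd48) (kd xd29 yd32 zd38) (kd xd28 yd26 zd13) (kd xd11 yd38 zd20) (kd xd12 yd45 zd3) (kd xd29 yd32 zd40) (kd xd11 yd38 zd22) (kd xd22 yd8 zd36) (kd xd11 yd38 zd23) (kd xd21 yd0 zd47) (kd xd16 yd48 zd59) (kd xd11 yd38 zd29) (kd xd29 yd1 zd0) (kd xd27 yd36 zd35) (kd xd11 yd38 zd30) (kd xd21 yd53 zd11) (kd xd11 yd38 zd31) (kd xd11 yd38 zd32) (kd xd20 yd24 zd27) (kd xd14 yd35 zd56) (kd xd19 yd20 zd20) (kd xd11 yd38 zd34) (kd xd26 yd46 zd28) (kd xd23 yd58 zd11) (kd xd11 yd38 zd39) (kd xd28 yd43 zd6) (kd xd11 yd38 zd41) (kd xd17 yd33 zd21) (kd xd11 yd38 zd43) (kd xd17 yd8 zd4) (kd xd19 yd20 zd13) (kd xd11 yd38 zd45) (kd xd18 yd15 zd8) (kd xd29 yd32 zd49) (kd xd11 yd38 zd46) (kd xd29 yd9 zd9) (kd xd11 yd38 zd47)) (@D3.rec (fun _ => Pt)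 (kd xd27 yd42 zd56) (kd xd17 yd33 zd23) (kd xd28 yd39 zd11) (kd xd20 yd38 zd24) (kd xd17 yd7 zd28) (kd xd11 yd38 zd50) (kd xd20 yd52 zd17) (kd xd11 yd38 zd51) (kd xd20 yd52 zd32) (kd xd24 yd21 zd41) (kd xd20 yd52 zd19) (kd xd11 yd38 zd56) (kd xd20 yd34 zd57) (kd xd20 yd51 zd50) (kd xd28 yd18 zd10) (kd xd26 yd53 zd1) (kd xd21 yd52 zd22) (kd xd26 yd45 zd57) (kd xd29 yd32 zd55) (kd xd11 yd57 zd23) (kd xd28 yd39 zd19) (kd xd28 yd39 zd16) (kd xd29 yd32 zd58) (kd xd11 yd38 zd60) (kd xd20 yd38 zd3) (kd xd11 yd39 zd4) (kd xd29 yd33 zd0) (kd xd28 yd18 zd11) (kd xd25 yd25 zd29) (kd xd20 yd34 zd42) (kd xd11 yd39 zd6) (kd xd29 yd33 zd2) (kd xd11 yd39 zd7) (kd xd16 yd36 zd23) (kd xd29 yd32 zd59) (kd xd29 yd32 zd60) (kd xd29 yd33 zd7) (kd xd29 yd33 zd8) (kd xd11 yd39 zd12) (kd xd24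 yd21 zd33) (kd xd22 yd7 zd44) (kd xd28 yd39 zd56) (kd xd16 yd57 zd48) (kd xd11 yd39 zd14) (kd xd16 yd41 zd27) (kd xd16 yd41 zd38) (kd xd11 yd39 zd44) (kd xd11 yd39 zd16) (kd xd16 yd42 zd8) (kd xd21 yd11 zd31) (kd xd20 yd8 zd25) (kd xd27 yd0 zd40) (kd xd16 yd44 zd56) (kd xd19 yd0 zd32) (kd xd29 yd33 zd16) (kd xd29 yd33 zd17) (kd xd29 yd33 zd18) (kd xd11 yd39 zd21) (kd xd17 yd26 zd29) (kd xd29 yd33 zd27) (kd xd29 yd33 zd30) (kd xd29 yd33 zd31)) (@D3.rec (fun _ => Pt) (kd xd11 yd39 zd23) (kd xd29 yd33 zd35) (kd xd29 yd33 zd37) (kd xd27 yd0 zd37) (kd xd16 yd38 zd57) (kd xd27 yd0 zd38) (kd xd27 yd0 zd33) (kd xd27 yd0 zd34) (kd xd29 yd33 zd40) (kd xd11 yd39 zd28) (kd xd26 yd2 zd48) (kd xd16 yd55 zd58) (kd xd16 yd55 zd59) (kd xd18 yd49 zd24) (kd xd16 yd36 zd17) (kd xd11 yd52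 zd51) (kd xd29 yd33 zd20) (kd xd29 yd33 zd48) (kd xd11 yd39 zd32) (kd xd28 yd54 zd54) (kd xd26 yd36 zd31) (kd xd29 yd33 zd54) (kd xd11 yd39 zd35) (kd xd27 yd10 zd57) (kd xd26 yd2 zd41) (kd xd16 yd55 zd57) (kd xd11 yd57 zd55) (kd xd26 yd38 zd28) (kd xd11 yd39 zd38) (kd xd29 yd34 zd1) (kd xd29 yd34 zd2) (kd xd29 yd34 zd4) (kd xd11 yd39 zd39) (kd xd26 yd40 zd15) (kd xd26 yd8 zd21) (kd xd20 yd57 zd29) (kd xd20 yd57 zd38) (kd xd29 yd34 zd21) (kd xd25 yd59 zd51) (kd xd28 yd33 zd19) (kd xd28 yd30 zd9) (kd xd24 yd24 zd60) (kd xd28 yd40 zd12) (kd xd20 yd53 zd61) (kd xd16 yd42 zd31) (kd xd26 yd40 zd43) (kd xd11 yd39 zd46) (kd xd29 yd34 zd34) (kd xd29 yd34 zd35) (kd xd29 yd34 zd37) (kd xd11 yd39 zd50) (kd xd17 yd23 zd30) (kd xd14 yd33 zd27) (kd xd14 yd11 zd8) (kd xd23 yd1 zd28)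 (kd xd20 yd46 zd48) (kd xd13 yd10 zd55) (kd xd17 yd23 zd9) (kd xd19 yd19 zd36) (kd xd19 yd50 zd25) (kd xd11 yd39 zd57) (kd xd18 yd16 zd53)) (@D3.rec (fun _ => Pt) (kd xd21 yd59 zd43) (kd xd11 yd39 zd59) (kd xd16 yd5 zd28) (kd xd29 yd7 zd0) (kd xd19 yd49 zd50) (kd xd11 yd40 zd1) (kd xd11 yd40 zd2) (kd xd16 yd59 zd19) (kd xd25 yd13 zd33) (kd xd29 yd6 zd17) (kd xd15 yd59 zd56) (kd xd25 yd55 zd35) (kd xd29 yd34 zd51) (kd xd11 yd40 zd7) (kd xd27 yd13 zd15) (kd xd11 yd40 zd9) (kd xd20 yd48 zd61) (kd xd16 yd7 zd41) (kd xd29 yd21 zd55) (kd xd28 yd10 zd25) (kd xd18 yd25 zd0) (kd xd21 yd41 zd47) (kd xd14 yd8 zd31) (kd xd20 yd17 zd37) (kd xd12 yd31 zd11) (kd xd20 yd12 zd21) (kd xd11 yd40 zd28) (kd xd20 yd16 zd53) (kd xd20 yd16 zd50) (kd xd11 yd40 zd30) (kd xd28 yd10 zd9) (kd xd20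 yd7 zd10) (kd xd20 yd40 zd33) (kd xd20 yd40 zd32) (kd xd19 yd7 zd48) (kd xd19 yd17 zd24) (kd xd11 yd40 zd50) (kd xd14 yd33 zd35) (kd xd23 yd59 zd20) (kd xd11 yd40 zd51) (kd xd29 yd34 zd61) (kd xd19 yd45 zd9) (kd xd11 yd40 zd56) (kd xd19 yd19 zd30) (kd xd29 yd35 zd1) (kd xd29 yd35 zd2) (kd xd19 yd4 zd49) (kd xd11 yd41 zd2) (kd xd14 yd53 zd13) (kd xd14 yd53 zd12) (kd xd11 yd41 zd3) (kd xd11 yd41 zd5) (kd xd11 yd41 zd6) (kd xd13 yd3 zd8) (kd xd13 yd3 zd7) (kd xd23 yd30 zd57) (kd xd11 yd41 zd8) (kd xd29 yd35 zd8) (kd xd21 yd59 zd41) (kd xd20 yd14 zd24) (kd xd12 yd42 zd39) (kd xd29 yd35 zd9)) (@D3.rec (fun _ => Pt) (kd xd21 yd59 zd47) (kd xd11 yd41 zd13) (kd xd19 yd28 zd9) (kd xd28 yd35 zd46) (kd xd11 yd41 zd15) (kd xd13 yd18 zd10) (kd xd11 yd44 zd3) (kd xd23 yd36 zd30)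 (kd xd13 yd24 zd16) (kd xd22 yd37 zd33) (kd xd11 yd41 zd20) (kd xd17 yd10 zd57) (kd xd25 yd18 zd10) (kd xd11 yd41 zd22) (kd xd24 yd34 zd39) (kd xd23 yd46 zd3) (kd xd11 yd41 zd23) (kd xd22 yd14 zd1) (kd xd29 yd35 zd12) (kd xd29 yd35 zd14) (kd xd11 yd41 zd25) (kd xd29 yd35 zd18) (kd xd11 yd41 zd26) (kd xd17 yd31 zd43) (kd xd11 yd41 zd27) (kd xd22 yd11 zd37) (kd xd11 yd44 zd58) (kd xd23 yd1 zd26) (kd xd28 yd59 zd3) (kd xd28 yd59 zd4) (kd xd13 yd32 zd49) (kd xd11 yd41 zd30) (kd xd29 yd35 zd30) (kd xd11 yd41 zd33) (kd xd11 yd41 zd34) (kd xd24 yd57 zd43) (kd xd23 yd1 zd30) (kd xd13 yd28 zd13) (kd xd11 yd41 zd39) (kd xd11 yd44 zd41) (kd xd29 yd35 zd32) (kd xd11 yd41 zd41) (kd xd29 yd35 zd36) (kd xd11 yd41 zd42) (kd xd24 yd53 zd31) (kd xd29 yd35 zd38) (kd xd29 yd35 zd39) (kd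 xd22 yd12 zd33) (kd xd29 yd35 zd41) (kd xd11 yd41 zd46) (kd xd11 yd41 zd47) (kd xd22 yd59 zd18) (kd xd11 yd41 zd48) (kd xd11 yd41 zd49) (kd xd20 yd49 zd18) (kd xd22 yd7 zd32) (kd xd14 yd20 zd46) (kd xd29 yd35 zd52) (kd xd11 yd41 zd51) (kd xd17 yd32 zd15) (kd xd11 yd41 zd54) (kd xd17 yd31 zd32)) (@D3.rec (fun _ => Pt) (kd xd21 yd36 zd50) (kd xd29 yd35 zd56) (kd xd29 yd35 zd57) (kd xd29 yd35 zd61) (kd xd11 yd41 zd59) (kd xd29 yd36 zd3) (kd xd13 yd0 zd50) (kd xd14 yd50 zd32) (kd xd29 yd36 zd7) (kd xd29 yd36 zd8) (kd xd29 yd36 zd9) (kd xd11 yd42 zd1) (kd xd29 yd36 zd14) (kd xd16 yd51 zd33) (kd xd11 yd42 zd3) (kd xd29 yd15 zd12) (kd xd20 yd58 zd36) (kd xd12 yd49 zd60) (kd xd22 yd3 zd49) (kd xd20 yd15 zd33) (kd xd17 yd35 zd4) (kd xd27 yd11 zd32) (kd xd11 yd42 zd8) (kd xd12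 yd29 zd40) (kd xd20 yd46 zd31) (kd xd21 yd36 zd47) (kd xd11 yd42 zd10) (kd xd21 yd50 zd17) (kd xd29 yd36 zd22) (kd xd29 yd5 zd45) (kd xd11 yd42 zd15) (kd xd29 yd5 zd46) (kd xd29 yd4 zd36) (kd xd25 yd55 zd32) (kd xd11 yd42 zd19) (kd xd22 yd52 zd33) (kd xd22 yd52 zd21) (kd xd16 yd26 zd34) (kd xd29 yd4 zd37) (kd xd11 yd42 zd23) (kd xd28 yd37 zd41) (kd xd11 yd42 zd24) (kd xd11 yd42 zd25) (kd xd23 yd7 zd7) (kd xd27 yd16 zd60) (kd xd13 yd2 zd49) (kd xd29 yd36 zd33) (kd xd21 yd35 zd14) (kd xd11 yd42 zd27) (kd xd27 yd21 zd3) (kd xd28 yd10 zd23) (kd xd11 yd42 zd28) (kd xd29 yd36 zd41) (kd xd20 yd45 zd34) (kd xd25 yd47 zd16) (kd xd11 yd42 zd30) (kd xd15 yd8 zd15) (kd xd17 yd31 zd53) (kd xd13 yd5 zd48) (kd xd29 yd36 zd49) (kd xd20 yd45 zd42) (kd xd17 yd31 zd42)) (@D3.rec (fun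 _ => Pt) (kd xd11 yd42 zd34) (kd xd20 yd48 zd53) (kd xd14 yd52 zd1) (kd xd13 yd7 zd36) (kd xd28 yd59 zd17) (kd xd19 yd23 zd15) (kd xd18 yd23 zd15) (kd xd28 yd59 zd14) (kd xd21 yd47 zd22) (kd xd24 yd38 zd55) (kd xd27 yd13 zd9) (kd xd29 yd37 zd4) (kd xd11 yd42 zd39) (kd xd23 yd1 zd27) (kd xd11 yd42 zd41) (kd xd20 yd48 zd0) (kd xd13 yd36 zd22) (kd xd13 yd7 zd31) (kd xd25 yd33 zd10) (kd xd11 yd42 zd44) (kd xd29 yd37 zd9) (kd xd11 yd42 zd45) (kd xd28 yd59 zd13) (kd xd14 yd33 zd13) (kd xd28 yd59 zd16) (kd xd15 yd39 zd41) (kd xd11 yd42 zd48) (kd xd15 yd34 zd13) (kd xd19 yd49 zd11) (kd xd19 yd50 zd9) (kd xd22 yd16 zd4) (kd xd11 yd43 zd11) (kd xd11 yd42 zd50) (kd xd15 yd34 zd12) (kd xd29 yd37 zd17) (kd xd29 yd34 zd53) (kd xd27 yd42 zd39) (kd xd29 yd37 zd22) (kd xd11 yd42 zd54)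 (kd xd25 yd55 zd51) (kd xd26 yd54 zd55) (kd xd17 yd32 zd36) (kd xd29 yd37 zd26) (kd xd14 yd50 zd24) (kd xd24 yd8 zd52) (kd xd29 yd37 zd27) (kd xd11 yd42 zd60) (kd xd22 yd10 zd54) (kd xd29 yd37 zd30) (kd xd11 yd43 zd2) (kd xd25 yd50 zd36) (kd xd23 yd1 zd32) (kd xd29 yd37 zd33) (kd xd11 yd43 zd5) (kd xd25 yd6 zd56) (kd xd29 yd37 zd36) (kd xd11 yd43 zd7) (kd xd15 yd34 zd15) (kd xd17 yd36 zd16) (kd xd25 yd32 zd39) (kd xd17 yd56 zd24) (kd xd29 yd37 zd41)) (@D3.rec (fun _ => Pt) (kd xd20 yd17 zd55) (kd xd22 yd54 zd51) (kd xd15 yd39 zd58) (kd xd15 yd40 zd0) (kd xd12 yd50 zd28) (kd xd11 yd43 zd13) (kd xd25 yd55 zd38) (kd xd21 yd48 zd9) (kd xd29 yd37 zd50) (kd xd29 yd37 zd52) (kd xd11 yd43 zd16) (kd xd29 yd37 zd56) (kd xd11 yd43 zd17) (kd xd29 yd37 zd58) (kd xd11 yd43 zd18)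 (kd xd27 yd6 zd35) (kd xd18 yd57 zd38) (kd xd29 yd38 zd2) (kd xd11 yd43 zd20) (kd xd11 yd43 zd21) (kd xd27 yd2 zd33) (kd xd22 yd38 zd22) (kd xd11 yd43 zd22) (kd xd22 yd25 zd31) (kd xd21 yd3 zd32) (kd xd18 yd49 zd6) (kd xd11 yd43 zd24) (kd xd11 yd43 zd25) (kd xd28 yd53 zd5) (kd xd21 yd3 zd43) (kd xd22 yd23 zd12) (kd xd22 yd21 zd45) (kd xd28 yd48 zd44) (kd xd23 yd46 zd44) (kd xd23 yd12 zd61) (kd xd15 yd37 zd30) (kd xd27 yd12 zd39) (kd xd13 yd41 zd40) (kd xd11 yd43 zd31) (kd xd20 yd23 zd7) (kd xd20 yd17 zd23) (kd xd20 yd33 zd0) (kd xd20 yd23 zd0) (kd xd29 yd38 zd15) (kd xd24 yd5 zd55) (kd xd11 yd43 zd34) (kd xd20 yd17 zd15) (kd xd23 yd9 zd44) (kd xd11 yd43 zd36) (kd xd20 yd17 zd10) (kd xd28 yd36 zd42) (kd xd11 yd43 zd37) (kd xd24 yd29 zd60) (kd xd24 yd5 zd54) (kd xd11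 yd43 zd41) (kd xd27 yd29 zd21) (kd xd11 yd43 zd43) (kd xd26 yd11 zd10) (kd xd11 yd43 zd48) (kd xd25 yd52 zd56) (kd xd25 yd52 zd53) (kd xd11 yd43 zd49)) (@D3.rec (fun _ => Pt) (kd xd29 yd38 zd19) (kd xd27 yd53 zd32) (kd xd20 yd25 zd21) (kd xd21 yd36 zd10) (kd xd29 yd38 zd21) (kd xd11 yd43 zd52) (kd xd22 yd47 zd33) (kd xd22 yd21 zd30) (kd xd29 yd28 zd12) (kd xd22 yd23 zd50) (kd xd21 yd12 zd20) (kd xd11 yd44 zd2) (kd xd24 yd29 zd59) (kd xd28 yd20 zd7) (kd xd11 yd44 zd5) (kd xd29 yd38 zd25) (kd xd18 yd45 zd6) (kd xd28 yd18 zd41) (kd xd11 yd44 zd6) (kd xd23 yd37 zd2) (kd xd11 yd44 zd7) (kd xd27 yd54 zd0) (kd xd11 yd44 zd8) (kd xd29 yd38 zd27) (kd xd29 yd38 zd29) (kd xd29 yd38 zd30) (kd xd11 yd44 zd10) (kd xd17 yd19 zd33) (kd xd29 yd38 zd31) (kd xd13 yd6 zd2) (kd xd11 yd44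 zd12) (kd xd17 yd47 zd40) (kd xd21 yd43 zd59) (kd xd11 yd44 zd13) (kd xd20 yd42 zd53) (kd xd18 yd15 zd32) (kd xd29 yd38 zd38) (kd xd18 yd21 zd25) (kd xd16 yd33 zd6) (kd xd11 yd44 zd19) (kd xd22 yd25 zd42) (kd xd24 yd57 zd1) (kd xd20 yd42 zd60) (kd xd29 yd7 zd9) (kd xd29 yd38 zd44) (kd xd27 yd40 zd6) (kd xd11 yd44 zd21) (kd xd24 yd55 zd41) (kd xd22 yd21 zd47) (kd xd11 yd59 zd0) (kd xd29 yd38 zd51) (kd xd11 yd59 zd5) (kd xd22 yd52 zd2) (kd xd11 yd44 zd27) (kd xd11 yd44 zd29) (kd xd11 yd45 zd31) (kd xd23 yd6 zd42) (kd xd29 yd38 zd53) (kd xd29 yd8 zd22) (kd xd28 yd30 zd41) (kd xd28 yd30 zd42) (kd xd11 yd44 zd37)) (@D3.rec (fun _ => Pt) (kd xd19 yd13 zd30) (kd xd19 yd13 zd31) (kd xd20 yd46 zd3) (kd xd20 yd46 zd2) (kd xd11 yd44 zd44) (kd xd11 yd44 zd48) (kd xd24 yd2 zd7)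 (kd xd25 yd52 zd27) (kd xd15 yd25 zd28) (kd xd11 yd44 zd52) (kd xd29 yd38 zd56) (kd xd22 yd4 zd48) (kd xd29 yd35 zd13) (kd xd11 yd44 zd55) (kd xd17 yd58 zd37) (kd xd14 yd24 zd16) (kd xd24 yd2 zd46) (kd xd11 yd44 zd59) (kd xd21 yd47 zd19) (kd xd29 yd39 zd1) (kd xd11 yd44 zd61) (kd xd20 yd26 zd15) (kd xd22 yd18 zd17) (kd xd12 yd36 zd2) (kd xd11 yd45 zd4) (kd xd11 yd45 zd7) (kd xd24 yd14 zd57) (kd xd20 yd17 zd50) (kd xd11 yd47 zd36) (kd xd12 yd53 zd29) (kd xd11 yd45 zd14) (kd xd20 yd42 zd24) (kd xd23 yd47 zd17) (kd xd11 yd45 zd19) (kd xd18 yd26 zd59) (kd xd24 yd18 zd50) (kd xd26 yd7 zd28) (kd xd18 yd49 zd57) (kd xd18 yd29 zd33) (kd xd18 yd27 zd0) (kd xd29 yd39 zd9) (kd xd11 yd45 zd27) (kd xd23 yd19 zd9) (kd xd18 yd44 zd50) (kd xd20 yd47 zd20) (kd xd28 yd14 zd33) (kd xd29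 yd38 zd52) (kd xd13 yd11 zd8) (kd xd20 yd39 zd55) (kd xd26 yd29 zd54) (kd xd24 yd47 zd54) (kd xd18 yd29 zd54) (kd xd11 yd45 zd33) (kd xd26 yd21 zd8) (kd xd24 yd11 zd15) (kd xd23 yd46 zd9) (kd xd11 yd45 zd36) (kd xd11 yd45 zd37) (kd xd19 yd27 zd25) (kd xd15 yd56 zd31) (kd xd11 yd45 zd40) (kd xd29 yd39 zd21)) (@D3.rec (fun _ => Pt) (kd xd29 yd9 zd1) (kd xd11 yd45 zd41) (kd xd29 yd39 zd23) (kd xd11 yd45 zd42) (kd xd20 yd33 zd48) (kd xd16 yd46 zd31) (kd xd11 yd45 zd44) (kd xd15 yd56 zd21) (kd xd20 yd47 zd36) (kd xd25 yd53 zd16) (kd xd29 yd34 zd55) (kd xd11 yd45 zd48) (kd xd21 yd20 zd19) (kd xd12 yd41 zd2) (kd xd24 yd15 zd28) (kd xd11 yd45 zd52) (kd xd29 yd39 zd31) (kd xd11 yd45 zd53) (kd xd29 yd39 zd34) (kd xd28 yd16 zd24) (kd xd20 yd46 zd44) (kd xd26 yd43 zd19) (kd xd11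 yd45 zd55) (kd xd17 yd18 zd29) (kd xd11 yd45 zd60) (kd xd12 yd38 zd27) (kd xd22 yd14 zd35) (kd xd29 yd9 zd3) (kd xd18 yd8 zd42) (kd xd11 yd46 zd1) (kd xd22 yd58 zd53) (kd xd22 yd38 zd21) (kd xd29 yd39 zd40) (kd xd22 yd58 zd48) (kd xd28 yd9 zd20) (kd xd14 yd57 zd3) (kd xd20 yd47 zd8) (kd xd19 yd22 zd27) (kd xd22 yd47 zd38) (kd xd29 yd39 zd47) (kd xd11 yd46 zd5) (kd xd27 yd2 zd32) (kd xd29 yd39 zd49) (kd xd11 yd46 zd6) (kd xd25 yd30 zd59) (kd xd19 yd22 zd26) (kd xd25 yd30 zd60) (kd xd13 yd21 zd29) (kd xd13 yd53 zd48) (kd xd11 yd46 zd9) (kd xd20 yd31 zd61) (kd xd22 yd18 zd41) (kd xd11 yd46 zd10) (kd xd20 yd50 zd18) (kd xd13 yd52 zd19) (kd xd28 yd22 zd31) (kd xd11 yd46 zd11) (kd xd28 yd22 zd11) (kd xd27 yd13 zd4) (kd xd11 yd46 zd14) (kd xd17 yd58 zd36) (kd xd18 yd26 zd21))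 (@D3.rec (fun _ => Pt) (kd xd20 yd43 zd15) (kd xd11 yd46 zd17) (kd xd13 yd52 zd17) (kd xd24 yd32 zd19) (kd xd24 yd34 zd54) (kd xd28 yd53 zd6) (kd xd29 yd40 zd1) (kd xd29 yd40 zd2) (kd xd11 yd46 zd20) (kd xd20 yd33 zd42) (kd xd20 yd33 zd41) (kd xd17 yd15 zd11) (kd xd29 yd23 zd10) (kd xd26 yd29 zd56) (kd xd14 yd30 zd8) (kd xd28 yd53 zd7) (kd xd28 yd53 zd8) (kd xd20 yd20 zd34) (kd xd14 yd52 zd35) (kd xd11 yd46 zd28) (kd xd22 yd38 zd16) (kd xd21 yd10 zd24) (kd xd29 yd23 zd8) (kd xd23 yd4 zd47) (kd xd11 yd46 zd32) (kd xd29 yd40 zd19) (kd xd29 yd23 zd25) (kd xd24 yd4 zd57) (kd xd25 yd52 zd47) (kd xd25 yd52 zd46) (kd xd19 yd29 zd0) (kd xd11 yd46 zd35) (kd xd29 yd22 zd26) (kd xd13 yd4 zd41) (kd xd14 yd34 zd45) (kd xd24 yd0 zd43) (kd xd28 yd47 zd28) (kd xd11 yd46 zd39) (kd xd27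 yd41 zd4) (kd xd23 yd42 zd2) (kd xd29 yd27 zd46) (kd xd20 yd14 zd59) (kd xd11 yd46 zd46) (kd xd22 yd23 zd51) (kd xd27 yd21 zd22) (kd xd11 yd46 zd48) (kd xd11 yd46 zd49) (kd xd29 yd40 zd43) (kd xd29 yd30 zd32) (kd xd29 yd40 zd46) (kd xd24 yd24 zd54) (kd xd26 yd57 zd14) (kd xd11 yd46 zd51) (kd xd20 yd43 zd1) (kd xd11 yd46 zd53) (kd xd22 yd18 zd40) (kd xd29 yd23 zd14) (kd xd29 yd40 zd55) (kd xd29 yd40 zd57) (kd xd19 yd2 zd59) (kd xd11 yd46 zd55) (kd xd20 yd40 zd16)) (@D3.rec (fun _ => Pt) (kd xd20 yd17 zd56) (kd xd25 yd17 zd28) (kd xd11 yd46 zd58) (kd xd25 yd16 zd49) (kd xd11 yd46 zd60) (kd xd11 yd47 zd0) (kd xd20 yd15 zd14) (kd xd11 yd47 zd1) (kd xd20 yd20 zd41) (kd xd26 yd58 zd56) (kd xd11 yd47 zd2) (kd xd12 yd40 zd59) (kd xd26 yd46 zd43) (kd xd11 yd47 zd7) (kd xd29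 yd41 zd1) (kd xd29 yd41 zd2) (kd xd11 yd47 zd11) (kd xd26 yd54 zd9) (kd xd20 yd41 zd54) (kd xd11 yd47 zd14) (kd xd11 yd47 zd19) (kd xd29 yd41 zd6) (kd xd17 yd17 zd27) (kd xd29 yd23 zd12) (kd xd19 yd7 zd39) (kd xd19 yd14 zd61) (kd xd11 yd47 zd26) (kd xd24 yd59 zd46) (kd xd29 yd41 zd9) (kd xd13 yd31 zd14) (kd xd13 yd43 zd21) (kd xd11 yd47 zd38) (kd xd14 yd33 zd32) (kd xd14 yd33 zd25) (kd xd11 yd47 zd29) (kd xd24 yd39 zd8) (kd xd25 yd5 zd52) (kd xd11 yd47 zd30) (kd xd28 yd44 zd45) (kd xd29 yd41 zd16) (kd xd29 yd41 zd17) (kd xd26 yd23 zd51) (kd xd11 yd47 zd33) (kd xd29 yd41 zd24) (kd xd29 yd41 zd28) (kd xd29 yd4 zd29) (kd xd11 yd47 zd35) (kd xd19 yd45 zd32) (kd xd13 yd42 zd15) (kd xd23 yd7 zd40) (kd xd11 yd47 zd39) (kd xd29 yd0 zd15) (kd xd16 yd15 zd5) (kd xd21 yd39 zd13)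 (kd xd23 yd47 zd30) (kd xd11 yd47 zd41) (kd xd28 yd49 zd5) (kd xd27 yd56 zd5) (kd xd29 yd41 zd36) (kd xd11 yd47 zd44) (kd xd19 yd29 zd11) (kd xd29 yd41 zd19)) (@D3.rec (fun _ => Pt) (kd xd29 yd41 zd20) (kd xd26 yd25 zd25) (kd xd11 yd47 zd46) (kd xd29 yd12 zd39) (kd xd29 yd41 zd48) (kd xd29 yd41 zd50) (kd xd11 yd47 zd48) (kd xd29 yd41 zd53) (kd xd15 yd53 zd51) (kd xd11 yd47 zd49) (kd xd26 yd30 zd59) (kd xd13 yd43 zd2) (kd xd23 yd8 zd45) (kd xd11 yd47 zd52) (kd xd25 yd55 zd45) (kd xd22 yd54 zd56) (kd xd22 yd54 zd55) (kd xd29 yd41 zd58) (kd xd20 yd47 zd53) (kd xd11 yd47 zd55) (kd xd25 yd14 zd59) (kd xd11 yd47 zd57) (kd xd27 yd36 zd40) (kd xd11 yd47 zd58) (kd xd15 yd37 zd8) (kd xd16 yd26 zd26) (kd xd27 yd36 zd41) (kd xd11 yd47 zd59) (kd xd29 yd42 zd6) (kd xd11 yd47 zd60)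 (kd xd16 yd43 zd25) (kd xd27 yd42 zd36) (kd xd29 yd42 zd14) (kd xd25 yd26 zd23) (kd xd14 yd30 zd29) (kd xd24 yd16 zd12) (kd xd27 yd24 zd26) (kd xd27 yd15 zd55) (kd xd26 yd55 zd2) (kd xd29 yd37 zd19) (kd xd27 yd13 zd14) (kd xd19 yd51 zd48) (kd xd12 yd34 zd7) (kd xd21 yd14 zd13) (kd xd23 yd57 zd57) (kd xd11 yd48 zd8) (kd xd20 yd0 zd41) (kd xd19 yd25 zd21) (kd xd11 yd48 zd15) (kd xd26 yd56 zd37) (kd xd14 yd21 zd39) (kd xd21 yd7 zd42) (kd xd22 yd22 zd41) (kd xd18 yd23 zd13) (kd xd24 yd28 zd31) (kd xd24 yd24 zd36) (kd xd11 yd48 zd27) (kd xd20 yd25 zd49) (kd xd11 yd48 zd29) (kd xd18 yd1 zd31) (kd xd20 yd19 zd51) (kd xd11 yd48 zd32)) (@D3.rec (fun _ => Pt) (kd xd28 yd27 zd61) (kd xd23 yd58 zd16) (kd xd11 yd48 zd33) (kd xd26 yd55 zd28) (kd xd11 yd48 zd35) (kd xd29 yd42 zd21)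 (kd xd26 yd57 zd27) (kd xd26 yd57 zd28) (kd xd22 yd2 zd37) (kd xd27 yd3 zd42) (kd xd15 yd36 zd34) (kd xd17 yd16 zd11) (kd xd13 yd0 zd24) (kd xd20 yd35 zd20) (kd xd17 yd33 zd11) (kd xd17 yd30 zd37) (kd xd12 yd43 zd13) (kd xd11 yd48 zd49) (kd xd14 yd47 zd50) (kd xd25 yd45 zd53) (kd xd16 yd59 zd41) (kd xd11 yd48 zd53) (kd xd12 yd43 zd36) (kd xd28 yd16 zd21) (kd xd27 yd43 zd26) (kd xd20 yd14 zd55) (kd xd12 yd27 zd58) (kd xd19 yd26 zd22) (kd xd29 yd42 zd27) (kd xd28 yd11 zd20) (kd xd11 yd48 zd61) (kd xd20 yd53 zd43) (kd xd21 yd5 zd50) (kd xd27 yd36 zd38) (kd xd11 yd49 zd2) (kd xd14 yd46 zd57) (kd xd27 yd43 zd27) (kd xd18 yd57 zd57) (kd xd12 yd17 zd2) (kd xd11 yd49 zd7) (kd xd28 yd48 zd5) (kd xd14 yd13 zd51) (kd xd11 yd49 zd10) (kd xd24 yd2 zd26) (kd xd11 yd49 zd11) (kd xd14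 yd37 zd29) (kd xd21 yd35 zd2) (kd xd21 yd50 zd54) (kd xd11 yd49 zd14) (kd xd21 yd7 zd45) (kd xd20 yd38 zd13) (kd xd14 yd32 zd29) (kd xd12 yd3 zd56) (kd xd11 yd49 zd24) (kd xd16 yd51 zd13) (kd xd17 yd5 zd56) (kd xd17 yd6 zd56) (kd xd17 yd14 zd6) (kd xd17 yd14 zd2) (kd xd26 yd46 zd37) (kd xd26 yd52 zd33) (kd xd13 yd16 zd43)) (@D3.rec (fun _ => Pt) (kd xd20 yd32 zd57) (kd xd11 yd49 zd46) (kd xd17 yd1 zd29) (kd xd11 yd49 zd48) (kd xd20 yd18 zd41) (kd xd23 yd58 zd32) (kd xd20 yd8 zd35) (kd xd14 yd40 zd46) (kd xd11 yd49 zd56) (kd xd28 yd13 zd60) (kd xd14 yd55 zd54) (kd xd20 yd34 zd50) (kd xd24 yd9 zd7) (kd xd11 yd50 zd4) (kd xd11 yd50 zd5) (kd xd20 yd13 zd16) (kd xd11 yd50 zd8) (kd xd20 yd38 zd6) (kd xd26 yd30 zd3) (kd xd20 yd38 zd10) (kd xd29 yd30 zd60) (kd xd26 yd26 zd53)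 (kd xd11 yd50 zd10) (kd xd28 yd0 zd40) (kd xd22 yd56 zd47) (kd xd11 yd50 zd12) (kd xd21 yd44 zd12) (kd xd29 yd42 zd35) (kd xd11 yd50 zd14) (kd xd26 yd3 zd14) (kd xd29 yd42 zd33) (kd xd28 yd32 zd44) (kd xd20 yd38 zd8) (kd xd11 yd50 zd17) (kd xd28 yd32 zd42) (kd xd26 yd45 zd26) (kd xd29 yd42 zd36) (kd xd11 yd50 zd18) (kd xd26 yd51 zd39) (kd xd27 yd0 zd53) (kd xd29 yd42 zd37) (kd xd11 yd50 zd20) (kd xd26 yd50 zd20) (kd xd19 yd30 zd48) (kd xd20 yd28 zd27) (kd xd29 yd42 zd39) (kd xd26 yd49 zd30) (kd xd23 yd15 zd41) (kd xd28 yd1 zd5) (kd xd29 yd42 zd42) (kd xd24 yd59 zd12) (kd xd14 yd47 zd0) (kd xd23 yd7 zd2) (kd xd27 yd10 zd47) (kd xd27 yd10 zd48) (kd xd11 yd50 zd38) (kd xd29 yd42 zd44) (kd xd19 yd12 zd18) (kd xd19 yd15 zd55) (kd xd18 yd2 zd30) (kd xd14 yd36 zd11) (kd xd18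 yd37 zd53)) (@D3.rec (fun _ => Pt) (kd xd18 yd37 zd52) (kd xd12 yd42 zd15) (kd xd24 yd1 zd8) (kd xd28 yd53 zd29) (kd xd27 yd6 zd60) (kd xd11 yd50 zd53) (kd xd29 yd42 zd48) (kd xd29 yd34 zd57) (kd xd29 yd42 zd49) (kd xd11 yd50 zd54) (kd xd20 yd22 zd28) (kd xd29 yd42 zd50) (kd xd14 yd47 zd27) (kd xd28 yd10 zd22) (kd xd21 yd44 zd0) (kd xd21 yd43 zd60) (kd xd11 yd50 zd60) (kd xd28 yd10 zd26) (kd xd21 yd21 zd37) (kd xd29 yd42 zd53) (kd xd11 yd51 zd2) (kd xd17 yd59 zd16) (kd xd13 yd8 zd54) (kd xd29 yd13 zd57) (kd xd13 yd53 zd24) (kd xd17 yd3 zd32) (kd xd17 yd3 zd31) (kd xd13 yd53 zd22) (kd xd16 yd6 zd10) (kd xd22 yd9 zd36) (kd xd20 yd16 zd22) (kd xd12 yd27 zd33) (kd xd15 yd46 zd22) (kd xd29 yd14 zd20) (kd xd16 yd24 zd5) (kd xd20 yd53 zd46) (kd xd25 yd37 zd37) (kd xd26 yd46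 zd58) (kd xd27 yd38 zd41) (kd xd29 yd14 zd13) (kd xd24 yd49 zd56) (kd xd11 yd51 zd22) (kd xd17 yd51 zd36) (kd xd20 yd51 zd31) (kd xd11 yd51 zd23) (kd xd12 yd35 zd14) (kd xd20 yd53 zd35) (kd xd23 yd13 zd11) (kd xd29 yd42 zd58) (kd xd29 yd42 zd60) (kd xd29 yd42 zd61) (kd xd29 yd43 zd1) (kd xd29 yd43 zd2) (kd xd11 yd51 zd30) (kd xd29 yd43 zd8) (kd xd20 yd28 zd21) (kd xd29 yd43 zd10) (kd xd26 yd52 zd11) (kd xd11 yd51 zd32) (kd xd11 yd51 zd33) (kd xd29 yd43 zd14) (kd xd20 yd39 zd43)) (@D3.rec (fun _ => Pt) (kd xd12 yd20 zd46) (kd xd29 yd43 zd16) (kd xd27 yd12 zd46) (kd xd19 yd10 zd42) (kd xd29 yd43 zd18) (kd xd27 yd53 zd31) (kd xd29 yd33 zd41) (kd xd11 yd51 zd39) (kd xd29 yd43 zd25) (kd xd26 yd5 zd59) (kd xd26 yd5 zd60) (kd xd27 yd0 zd57) (kd xd11 yd51 zd42) (kd xd27 yd37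 zd6) (kd xd11 yd51 zd43) (kd xd24 yd50 zd60) (kd xd26 yd54 zd28) (kd xd29 yd43 zd35) (kd xd29 yd43 zd37) (kd xd11 yd51 zd45) (kd xd29 yd43 zd38) (kd xd27 yd11 zd58) (kd xd29 yd43 zd39) (kd xd11 yd51 zd46) (kd xd14 yd1 zd35) (kd xd29 yd43 zd41) (kd xd11 yd51 zd47) (kd xd14 yd37 zd3) (kd xd28 yd37 zd1) (kd xd17 yd29 zd29) (kd xd17 yd13 zd58) (kd xd15 yd26 zd55) (kd xd27 yd38 zd12) (kd xd19 yd58 zd39) (kd xd19 yd58 zd38) (kd xd16 yd30 zd0) (kd xd17 yd12 zd45) (kd xd24 yd36 zd46) (kd xd24 yd36 zd42) (kd xd23 yd30 zd30) (kd xd29 yd16 zd57) (kd xd19 yd47 zd6) (kd xd11 yd52 zd0) (kd xd28 yd42 zd44) (kd xd23 yd30 zd31) (kd xd11 yd52 zd1) (kd xd29 yd43 zd51) (kd xd23 yd29 zd5) (kd xd11 yd52 zd3) (kd xd25 yd39 zd15) (kd xd27 yd57 zd24) (kd xd11 yd52 zd5) (kd xd26 yd1 zd39) (kd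 xd23 yd42 zd7) (kd xd17 yd53 zd7) (kd xd16 yd2 zd58) (kd xd16 yd2 zd59) (kd xd16 yd2 zd47) (kd xd23 yd30 zd51) (kd xd19 yd14 zd18) (kd xd25 yd10 zd8) (kd xd11 yd53 zd30)) (@D3.rec (fun _ => Pt) (kd xd11 yd53 zd29) (kd xd11 yd52 zd14) (kd xd19 yd19 zd27) (kd xd29 yd37 zd59) (kd xd11 yd52 zd17) (kd xd13 yd11 zd22) (kd xd11 yd53 zd2) (kd xd11 yd53 zd1) (kd xd27 yd13 zd54) (kd xd29 yd44 zd4) (kd xd29 yd44 zd6) (kd xd11 yd52 zd21) (kd xd23 yd55 zd20) (kd xd29 yd44 zd9) (kd xd26 yd39 zd53) (kd xd26 yd40 zd39) (kd xd16 yd11 zd33) (kd xd11 yd52 zd24) (kd xd28 yd54 zd44) (kd xd28 yd54 zd45) (kd xd26 yd34 zd40) (kd xd28 yd56 zd31) (kd xd28 yd56 zd33) (kd xd26 yd36 zd29) (kd xd25 yd22 zd25) (kd xd29 yd44 zd23) (kd xd20 yd55 zd30) (kd xd16 yd2 zd13) (kd xd11 yd52 zd30) (kd xd22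 yd1 zd36) (kd xd20 yd55 zd26) (kd xd25 yd56 zd56) (kd xd16 yd2 zd9) (kd xd11 yd52 zd31) (kd xd27 yd17 zd10) (kd xd11 yd52 zd32) (kd xd22 yd3 zd59) (kd xd22 yd3 zd58) (kd xd29 yd44 zd34) (kd xd16 yd36 zd59) (kd xd25 yd10 zd26) (kd xd15 yd24 zd30) (kd xd29 yd44 zd40) (kd xd29 yd44 zd42) (kd xd26 yd59 zd21) (kd xd26 yd59 zd23) (kd xd16 yd37 zd5) (kd xd11 yd52 zd38) (kd xd25 yd21 zd35) (kd xd29 yd44 zd45) (kd xd11 yd52 zd41) (kd xd15 yd28 zd60) (kd xd15 yd28 zd59) (kd xd15 yd16 zd21) (kd xd29 yd44 zd49) (kd xd11 yd52 zd45) (kd xd29 yd44 zd51) (kd xd26 yd11 zd14) (kd xd22 yd3 zd54) (kd xd12 yd54 zd37) (kd xd19 yd43 zd1) (kd xd29 yd44 zd53)) (@D3.rec (fun _ => Pt) (kd xd29 yd44 zd52) (kd xd28 yd33 zd25) (kd xd26 yd37 zd0) (kd xd11 yd53 zd17) (kd xd16 yd38 zd7) (kd xd29 yd44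 zd60) (kd xd29 yd45 zd0) (kd xd11 yd52 zd54) (kd xd24 yd22 zd47) (kd xd26 yd39 zd4) (kd xd24 yd12 zd7) (kd xd26 yd41 zd26) (kd xd16 yd36 zd27) (kd xd16 yd36 zd28) (kd xd14 yd40 zd44) (kd xd15 yd36 zd7) (kd xd11 yd53 zd0) (kd xd11 yd56 zd27) (kd xd26 yd5 zd3) (kd xd21 yd1 zd23) (kd xd26 yd33 zd17) (kd xd29 yd45 zd10) (kd xd29 yd45 zd14) (kd xd29 yd45 zd16) (kd xd11 yd53 zd4) (kd xd29 yd45 zd19) (kd xd29 yd45 zd22) (kd xd29 yd33 zd45) (kd xd11 yd53 zd5) (kd xd29 yd37 zd57) (kd xd29 yd45 zd29) (kd xd11 yd53 zd6) (kd xd20 yd56 zd57) (kd xd16 yd39 zd50) (kd xd19 yd13 zd61) (kd xd11 yd53 zd8) (kd xd29 yd45 zd34) (kd xd29 yd45 zd36) (kd xd11 yd53 zd9) (kd xd29 yd45 zd40) (kd xd11 yd53 zd10) (kd xd29 yd45 zd42) (kd xd11 yd53 zd11) (kd xd29 yd45 zd45) (kd xd11 yd53 zd12) (kd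 xd11 yd53 zd13) (kd xd15 yd18 zd40) (kd xd21 yd1 zd21) (kd xd25 yd8 zd12) (kd xd28 yd29 zd26) (kd xd26 yd7 zd51) (kd xd28 yd32 zd45) (kd xd29 yd33 zd52) (kd xd11 yd53 zd18) (kd xd12 yd51 zd51) (kd xd11 yd53 zd19) (kd xd16 yd39 zd3) (kd xd20 yd56 zd32) (kd xd13 yd7 zd41) (kd xd11 yd53 zd21) (kd xd29 yd45 zd53) (kd xd11 yd53 zd22)) (@D3.rec (fun _ => Pt) (kd xd11 yd53 zd24) (kd xd29 yd28 zd48) (kd xd15 yd16 zd34) (kd xd16 yd2 zd34) (kd xd16 yd2 zd28) (kd xd21 yd16 zd48) (kd xd29 yd45 zd55) (kd xd27 yd14 zd39) (kd xd29 yd45 zd58) (kd xd11 yd53 zd33) (kd xd29 yd45 zd61) (kd xd29 yd46 zd1) (kd xd29 yd46 zd3) (kd xd11 yd53 zd34) (kd xd29 yd46 zd8) (kd xd11 yd53 zd35) (kd xd24 yd1 zd4) (kd xd29 yd46 zd11) (kd xd11 yd53 zd36) (kd xd19 yd13 zd43) (kd xd11 yd53 zd38) (kd xd11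 yd53 zd39) (kd xd29 yd46 zd18) (kd xd29 yd46 zd19) (kd xd11 yd53 zd41) (kd xd20 yd12 zd7) (kd xd26 yd39 zd13) (kd xd22 yd3 zd46) (kd xd22 yd3 zd44) (kd xd20 yd39 zd35) (kd xd29 yd46 zd28) (kd xd17 yd26 zd38) (kd xd11 yd53 zd45) (kd xd28 yd54 zd42) (kd xd19 yd1 zd10) (kd xd29 yd34 zd5) (kd xd29 yd34 zd6) (kd xd11 yd53 zd47) (kd xd20 yd39 zd36) (kd xd22 yd58 zd41) (kd xd25 yd36 zd46) (kd xd11 yd53 zd50) (kd xd25 yd19 zd0) (kd xd29 yd34 zd32) (kd xd29 yd46 zd38) (kd xd29 yd46 zd40) (kd xd11 yd53 zd53) (kd xd24 yd33 zd50) (kd xd16 yd14 zd12) (kd xd16 yd42 zd25) (kd xd29 yd46 zd45) (kd xd11 yd53 zd55) (kd xd28 yd56 zd34) (kd xd29 yd46 zd48) (kd xd27 yd7 zd35) (kd xd11 yd53 zd56) (kd xd29 yd46 zd53) (kd xd28 yd39 zd41) (kd xd11 yd53 zd59) (kd xd26 yd33 zd27) (kd xd28 yd54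 zd27) (kd xd25 yd20 zd14)) (@D3.rec (fun _ => Pt) (kd xd29 yd46 zd57) (kd xd12 yd54 zd49) (kd xd29 yd46 zd60) (kd xd29 yd46 zd61) (kd xd11 yd54 zd2) (kd xd28 yd54 zd26) (kd xd18 yd22 zd13) (kd xd12 yd44 zd56) (kd xd16 yd41 zd42) (kd xd22 yd3 zd50) (kd xd29 yd47 zd5) (kd xd29 yd47 zd6) (kd xd21 yd51 zd43) (kd xd21 yd51 zd45) (kd xd20 yd19 zd10) (kd xd11 yd54 zd9) (kd xd12 yd37 zd29) (kd xd12 yd44 zd55) (kd xd29 yd47 zd11) (kd xd16 yd41 zd56) (kd xd16 yd37 zd2) (kd xd16 yd42 zd10) (kd xd29 yd47 zd13) (kd xd29 yd47 zd14) (kd xd11 yd54 zd14) (kd xd29 yd47 zd19) (kd xd25 yd20 zd15) (kd xd29 yd47 zd23) (kd xd27 yd7 zd32) (kd xd29 yd33 zd60) (kd xd11 yd54 zd16) (kd xd29 yd47 zd27) (kd xd22 yd7 zd40) (kd xd22 yd7 zd39) (kd xd12 yd56 zd0) (kd xd29 yd2 zd50) (kd xd20 yd42 zd16)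 (kd xd25 yd23 zd45) (kd xd26 yd54 zd22) (kd xd11 yd54 zd19) (kd xd16 yd41 zd45) (kd xd11 yd54 zd20) (kd xd29 yd47 zd33) (kd xd26 yd33 zd28) (kd xd26 yd47 zd18) (kd xd29 yd47 zd35) (kd xd11 yd54 zd23) (kd xd19 yd31 zd42) (kd xd27 yd0 zd7) (kd xd11 yd54 zd24) (kd xd22 yd23 zd61) (kd xd19 yd31 zd58) (kd xd26 yd34 zd10) (kd xd26 yd34 zd14) (kd xd15 yd57 zd5) (kd xd29 yd47 zd38) (kd xd11 yd54 zd27) (kd xd16 yd51 zd10) (kd xd27 yd18 zd50) (kd xd11 yd54 zd29) (kd xd26 yd37 zd49) (kd xd15 yd34 zd40)) (@D3.rec (fun _ => Pt) (kd xd15 yd40 zd55) (kd xd25 yd34 zd61) (kd xd26 yd44 zd35) (kd xd18 yd52 zd52) (kd xd18 yd52 zd53) (kd xd25 yd9 zd4) (kd xd24 yd18 zd44) (kd xd26 yd44 zd23) (kd xd24 yd7 zd12) (kd xd11 yd54 zd36) (kd xd13 yd8 zd22) (kd xd29 yd27 zd61) (kd xd26 yd1 zd6) (kd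 xd29 yd3 zd45) (kd xd11 yd54 zd38) (kd xd21 yd17 zd16) (kd xd23 yd41 zd42) (kd xd29 yd3 zd44) (kd xd15 yd31 zd52) (kd xd29 yd47 zd57) (kd xd11 yd54 zd43) (kd xd29 yd47 zd59) (kd xd11 yd54 zd44) (kd xd11 yd54 zd45) (kd xd25 yd18 zd53) (kd xd26 yd44 zd52) (kd xd25 yd12 zd8) (kd xd15 yd53 zd53) (kd xd12 yd31 zd47) (kd xd19 yd27 zd11) (kd xd11 yd55 zd36) (kd xd16 yd43 zd57) (kd xd13 yd3 zd54) (kd xd28 yd2 zd41) (kd xd18 yd48 zd47) (kd xd14 yd22 zd19) (kd xd15 yd55 zd53) (kd xd15 yd55 zd54) (kd xd16 yd26 zd7) (kd xd29 yd48 zd4) (kd xd29 yd28 zd55) (kd xd12 yd9 zd9) (kd xd20 yd9 zd25) (kd xd12 yd55 zd1) (kd xd27 yd3 zd25) (kd xd28 yd48 zd41) (kd xd15 yd3 zd54) (kd xd11 yd55 zd2) (kd xd29 yd42 zd46) (kd xd16 yd53 zd21) (kd xd29 yd48 zd9) (kd xd22 yd25 zd57) (kd xd11 yd55 zd4)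 (kd xd11 yd55 zd53) (kd xd11 yd55 zd54) (kd xd26 yd50 zd61) (kd xd11 yd55 zd7) (kd xd29 yd48 zd14) (kd xd11 yd55 zd8) (kd xd19 yd41 zd5) (kd xd19 yd42 zd8) (kd xd29 yd48 zd22))
def f_d_21 : D2 → D3 → Pt := @D2.rec (fun _ => D3 → Pt) (@D3.rec (fun _ => Pt) (kd xd11 yd55 zd10) (kd xd29 yd48 zd27) (kd xd11 yd55 zd11) (kd xd20 yd19 zd13) (kd xd17 yd57 zd49) (kd xd12 yd54 zd40) (kd xd20 yd6 zd44) (kd xd21 yd51 zd13) (kd xd11 yd55 zd14) (kd xd18 yd25 zd61) (kd xd29 yd48 zd31) (kd xd11 yd55 zd17) (kd xd26 yd58 zd0) (kd xd21 yd5 zd36) (kd xd21 yd5 zd2) (kd xd11 yd55 zd22) (kd xd28 yd59 zd1) (kd xd27 yd20 zd60) (kd xd25 yd56 zd10) (kd xd11 yd55 zd24) (kd xd15 yd34 zd6) (kd xd12 yd16 zd2) (kd xd25 yd13 zd47) (kd xd11 yd55 zd27) (kd xd19 yd35 zd30) (kd xd11 yd55 zd30) (kd xd29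 yd48 zd37) (kd xd11 yd55 zd31) (kd xd25 yd33 zd35) (kd xd25 yd33 zd37) (kd xd27 yd11 zd48) (kd xd26 yd24 zd14) (kd xd11 yd55 zd37) (kd xd24 yd15 zd42) (kd xd11 yd55 zd38) (kd xd11 yd55 zd39) (kd xd23 yd36 zd31) (kd xd27 yd17 zd27) (kd xd27 yd17 zd26) (kd xd16 yd45 zd12) (kd xd29 yd48 zd42) (kd xd12 yd2 zd31) (kd xd11 yd55 zd50) (kd xd25 yd38 zd34) (kd xd21 yd13 zd17) (kd xd12 yd44 zd57) (kd xd29 yd48 zd10) (kd xd20 yd37 zd34) (kd xd17 yd12 zd31) (kd xd29 yd3 zd12) (kd xd29 yd8 zd15) (kd xd23 yd1 zd25) (kd xd29 yd48 zd47) (kd xd13 yd10 zd34) (kd xd20 yd9 zd24) (kd xd11 yd56 zd4) (kd xd21 yd46 zd4) (kd xd11 yd56 zd6) (kd xd19 yd15 zd56) (kd xd11 yd56 zd8) (kd xd26 yd13 zd56) (kd xd12 yd42 zd48)) (@D3.rec (fun _ => Pt) (kd xd25 yd19 zd4) (kd xd27 yd19 zd30) (kd xd21 yd30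 zd29) (kd xd15 yd29 zd49) (kd xd18 yd31 zd52) (kd xd11 yd56 zd16) (kd xd24 yd27 zd3) (kd xd12 yd28 zd31) (kd xd29 yd48 zd52) (kd xd11 yd56 zd19) (kd xd29 yd48 zd55) (kd xd11 yd56 zd21) (kd xd19 yd53 zd53) (kd xd15 yd29 zd38) (kd xd15 yd29 zd39) (kd xd14 yd56 zd17) (kd xd13 yd13 zd39) (kd xd11 yd56 zd25) (kd xd11 yd56 zd26) (kd xd26 yd37 zd52) (kd xd27 yd57 zd1) (kd xd20 yd56 zd47) (kd xd29 yd49 zd1) (kd xd20 yd56 zd19) (kd xd12 yd44 zd2) (kd xd29 yd49 zd3) (kd xd11 yd56 zd30) (kd xd12 yd44 zd59) (kd xd26 yd57 zd32) (kd xd11 yd56 zd33) (kd xd22 yd4 zd53) (kd xd18 yd45 zd48) (kd xd19 yd24 zd19) (kd xd12 yd47 zd23) (kd xd25 yd51 zd19) (kd xd22 yd4 zd51) (kd xd11 yd56 zd40) (kd xd17 yd5 zd29) (kd xd15 yd48 zd35) (kd xd17 yd42 zd19) (kd xd16 yd38 zd59) (kd xd27 yd24 zd36)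 (kd xd22 yd9 zd8) (kd xd29 yd12 zd47) (kd xd25 yd11 zd53) (kd xd15 yd17 zd20) (kd xd15 yd17 zd21) (kd xd25 yd7 zd21) (kd xd25 yd11 zd51) (kd xd25 yd34 zd4) (kd xd29 yd6 zd58) (kd xd29 yd6 zd57) (kd xd11 yd56 zd55) (kd xd29 yd49 zd16) (kd xd29 yd49 zd17) (kd xd11 yd56 zd56) (kd xd27 yd42 zd3) (kd xd22 yd53 zd26) (kd xd25 yd12 zd6) (kd xd25 yd13 zd26) (kd xd14 yd50 zd29) (kd xd11 yd56 zd60)) (@D3.rec (fun _ => Pt) (kd xd27 yd41 zd61) (kd xd15 yd22 zd39) (kd xd29 yd49 zd28) (kd xd11 yd57 zd2) (kd xd25 yd28 zd12) (kd xd27 yd48 zd17) (kd xd27 yd48 zd11) (kd xd29 yd49 zd31) (kd xd25 yd19 zd12) (kd xd11 yd57 zd8) (kd xd17 yd59 zd37) (kd xd23 yd21 zd16) (kd xd16 yd4 zd24) (kd xd28 yd49 zd36) (kd xd25 yd32 zd56) (kd xd11 yd57 zd15) (kd xd29 yd49 zd33) (kd xd21 yd28 zd0) (kd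 xd29 yd49 zd35) (kd xd29 yd49 zd37) (kd xd11 yd57 zd17) (kd xd29 yd49 zd39) (kd xd11 yd57 zd18) (kd xd29 yd49 zd43) (kd xd29 yd49 zd46) (kd xd11 yd57 zd19) (kd xd25 yd49 zd37) (kd xd25 yd49 zd30) (kd xd29 yd49 zd53) (kd xd11 yd57 zd21) (kd xd29 yd49 zd56) (kd xd11 yd57 zd22) (kd xd16 yd3 zd47) (kd xd27 yd59 zd56) (kd xd29 yd49 zd58) (kd xd11 yd57 zd25) (kd xd20 yd22 zd26) (kd xd21 yd15 zd35) (kd xd18 yd26 zd4) (kd xd21 yd13 zd30) (kd xd15 yd0 zd15) (kd xd20 yd8 zd30) (kd xd20 yd8 zd13) (kd xd20 yd8 zd11) (kd xd28 yd26 zd61) (kd xd24 yd46 zd38) (kd xd19 yd47 zd26) (kd xd26 yd26 zd35) (kd xd24 yd57 zd17) (kd xd11 yd57 zd46) (kd xd29 yd19 zd13) (kd xd11 yd57 zd47) (kd xd27 yd9 zd27) (kd xd29 yd32 zd29) (kd xd29 yd50 zd1) (kd xd11 yd57 zd49) (kd xd28 yd43 zd28) (kd xd18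 yd22 zd46) (kd xd29 yd40 zd39) (kd xd29 yd50 zd3) (kd xd21 yd36 zd7) (kd xd29 yd50 zd4)) (@D3.rec (fun _ => Pt) (kd xd20 yd35 zd42) (kd xd23 yd42 zd32) (kd xd23 yd24 zd25) (kd xd12 yd31 zd12) (kd xd16 yd49 zd49) (kd xd18 yd25 zd54) (kd xd19 yd49 zd25) (kd xd26 yd59 zd18) (kd xd18 yd14 zd14) (kd xd12 yd31 zd35) (kd xd12 yd31 zd36) (kd xd13 yd1 zd0) (kd xd29 yd50 zd8) (kd xd11 yd58 zd13) (kd xd14 yd33 zd36) (kd xd27 yd41 zd17) (kd xd11 yd58 zd19) (kd xd16 yd49 zd32) (kd xd11 yd58 zd20) (kd xd29 yd50 zd10) (kd xd11 yd58 zd24) (kd xd12 yd4 zd42) (kd xd17 yd8 zd1) (kd xd24 yd38 zd36) (kd xd14 yd20 zd22) (kd xd12 yd16 zd9) (kd xd12 yd16 zd8) (kd xd20 yd7 zd0) (kd xd20 yd14 zd8) (kd xd20 yd14 zd7) (kd xd11 yd58 zd45) (kd xd21 yd4 zd5) (kd xd20 yd44 zd24) (kd xd29 yd50 zd12)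 (kd xd22 yd36 zd59) (kd xd22 yd36 zd60) (kd xd29 yd0 zd54) (kd xd11 yd58 zd49) (kd xd16 yd46 zd1) (kd xd22 yd22 zd55) (kd xd19 yd50 zd46) (kd xd14 yd19 zd54) (kd xd17 yd59 zd7) (kd xd20 yd44 zd29) (kd xd29 yd23 zd40) (kd xd16 yd49 zd7) (kd xd13 yd49 zd60) (kd xd24 yd19 zd46) (kd xd11 yd58 zd58) (kd xd11 yd58 zd59) (kd xd16 yd45 zd32) (kd xd23 yd38 zd1) (kd xd11 yd59 zd1) (kd xd22 yd18 zd18) (kd xd19 yd25 zd59) (kd xd16 yd5 zd14) (kd xd16 yd3 zd2) (kd xd14 yd1 zd4) (kd xd12 yd14 zd21) (kd xd19 yd23 zd19) (kd xd29 yd50 zd18) (kd xd29 yd50 zd19)) (@D3.rec (fun _ => Pt) (kd xd11 yd59 zd11) (kd xd29 yd35 zd22) (kd xd12 yd12 zd54) (kd xd26 yd3 zd48) (kd xd12 yd28 zd50) (kd xd21 yd3 zd31) (kd xd25 yd58 zd12) (kd xd12 yd26 zd12) (kd xd16 yd47 zd51) (kd xd16 yd57 zd26) (kd xd16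 yd32 zd25) (kd xd15 yd15 zd40) (kd xd12 yd7 zd55) (kd xd11 yd59 zd31) (kd xd19 yd46 zd39) (kd xd24 yd47 zd45) (kd xd15 yd12 zd61) (kd xd16 yd30 zd38) (kd xd16 yd31 zd45) (kd xd16 yd28 zd2) (kd xd29 yd50 zd24) (kd xd26 yd21 zd25) (kd xd11 yd59 zd38) (kd xd23 yd8 zd32) (kd xd29 yd50 zd25) (kd xd27 yd57 zd47) (kd xd23 yd21 zd56) (kd xd23 yd21 zd57) (kd xd24 yd44 zd11) (kd xd11 yd59 zd46) (kd xd25 yd3 zd57) (kd xd23 yd36 zd60) (kd xd26 yd5 zd23) (kd xd11 yd59 zd54) (kd xd14 yd56 zd39) (kd xd14 yd56 zd40) (kd xd23 yd57 zd12) (kd xd12 yd24 zd34) (kd xd26 yd21 zd9) (kd xd29 yd50 zd29) (kd xd21 yd58 zd50) (kd xd15 yd33 zd16) (kd xd23 yd50 zd17) (kd xd28 yd6 zd25) (kd xd11 yd59 zd60) (kd xd29 yd50 zd31) (kd xd12 yd13 zd1) (kd xd21 yd19 zd43) (kd xd29 yd50 zd33) (kd xd12 yd40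 zd8) (kd xd26 yd14 zd47) (kd xd12 yd0 zd1) (kd xd17 yd17 zd48) (kd xd12 yd14 zd32) (kd xd21 yd48 zd60) (kd xd12 yd0 zd5) (kd xd22 yd55 zd26) (kd xd29 yd32 zd23) (kd xd29 yd50 zd38) (kd xd12 yd0 zd6) (kd xd28 yd47 zd8) (kd xd29 yd50 zd43)) (@D3.rec (fun _ => Pt) (kd xd28 yd58 zd53) (kd xd12 yd0 zd8) (kd xd21 yd0 zd14) (kd xd29 yd50 zd45) (kd xd23 yd11 zd61) (kd xd12 yd0 zd10) (kd xd21 yd39 zd50) (kd xd23 yd11 zd58) (kd xd22 yd59 zd12) (kd xd12 yd0 zd13) (kd xd28 yd47 zd44) (kd xd29 yd50 zd48) (kd xd25 yd48 zd42) (kd xd28 yd37 zd6) (kd xd12 yd0 zd15) (kd xd17 yd35 zd61) (kd xd29 yd50 zd53) (kd xd12 yd0 zd17) (kd xd21 yd39 zd45) (kd xd21 yd39 zd46) (kd xd29 yd50 zd54) (kd xd12 yd0 zd18) (kd xd29 yd50 zd55) (kd xd28 yd20 zd40) (kd xd12 yd0 zd20) (kd xd29 yd37 zd47) (kd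 xd12 yd0 zd24) (kd xd28 yd48 zd12) (kd xd29 yd50 zd61) (kd xd12 yd0 zd25) (kd xd12 yd0 zd26) (kd xd13 yd0 zd36) (kd xd13 yd0 zd37) (kd xd13 yd0 zd35) (kd xd12 yd33 zd18) (kd xd19 yd24 zd35) (kd xd21 yd0 zd13) (kd xd29 yd51 zd0) (kd xd29 yd51 zd1) (kd xd12 yd0 zd31) (kd xd25 yd22 zd54) (kd xd12 yd45 zd1) (kd xd16 yd0 zd11) (kd xd22 yd10 zd18) (kd xd27 yd37 zd50) (kd xd29 yd51 zd3) (kd xd12 yd0 zd34) (kd xd29 yd51 zd6) (kd xd18 yd15 zd51) (kd xd27 yd17 zd32) (kd xd20 yd51 zd32) (kd xd12 yd0 zd38) (kd xd27 yd1 zd31) (kd xd27 yd21 zd1) (kd xd28 yd41 zd33) (kd xd23 yd2 zd61) (kd xd23 yd3 zd0) (kd xd14 yd45 zd27) (kd xd12 yd0 zd45) (kd xd28 yd36 zd20) (kd xd12 yd0 zd46) (kd xd23 yd28 zd10)) (@D3.rec (fun _ => Pt) (kd xd29 yd51 zd12) (kd xd12 yd0 zd47) (kd xd21 yd45 zd26)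 (kd xd21 yd40 zd59) (kd xd21 yd40 zd60) (kd xd23 yd3 zd1) (kd xd28 yd11 zd35) (kd xd29 yd51 zd20) (kd xd23 yd25 zd57) (kd xd19 yd28 zd48) (kd xd14 yd10 zd12) (kd xd14 yd9 zd48) (kd xd23 yd39 zd49) (kd xd12 yd0 zd52) (kd xd19 yd14 zd29) (kd xd13 yd26 zd14) (kd xd14 yd10 zd6) (kd xd12 yd0 zd54) (kd xd21 yd8 zd39) (kd xd21 yd8 zd40) (kd xd25 yd28 zd57) (kd xd21 yd46 zd58) (kd xd12 yd1 zd0) (kd xd12 yd18 zd47) (kd xd12 yd0 zd60) (kd xd27 yd44 zd58) (kd xd24 yd43 zd53) (kd xd25 yd58 zd9) (kd xd21 yd47 zd3) (kd xd27 yd57 zd19) (kd xd28 yd41 zd16) (kd xd28 yd0 zd33) (kd xd27 yd44 zd60) (kd xd12 yd0 zd61) (kd xd14 yd1 zd3) (kd xd29 yd51 zd27) (kd xd26 yd3 zd30) (kd xd26 yd3 zd52) (kd xd26 yd3 zd33) (kd xd12 yd1 zd3) (kd xd16 yd5 zd31) (kd xd16 yd6 zd4) (kd xd19 yd1 zd29) (kd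 xd21 yd49 zd22) (kd xd13 yd15 zd13) (kd xd19 yd54 zd27) (kd xd29 yd51 zd41) (kd xd29 yd51 zd44) (kd xd21 yd49 zd31) (kd xd12 yd23 zd16) (kd xd12 yd1 zd9) (kd xd12 yd20 zd5) (kd xd12 yd1 zd12) (kd xd12 yd1 zd13) (kd xd26 yd58 zd36) (kd xd12 yd1 zd19) (kd xd21 yd44 zd36) (kd xd21 yd32 zd30) (kd xd29 yd51 zd47) (kd xd12 yd1 zd28) (kd xd21 yd45 zd55) (kd xd14 yd26 zd46)) (@D3.rec (fun _ => Pt) (kd xd21 yd54 zd58) (kd xd22 yd8 zd2) (kd xd27 yd45 zd20) (kd xd12 yd1 zd39) (kd xd21 yd47 zd21) (kd xd12 yd1 zd40) (kd xd21 yd55 zd12) (kd xd12 yd47 zd32) (kd xd12 yd1 zd42) (kd xd14 yd23 zd55) (kd xd12 yd1 zd44) (kd xd17 yd5 zd10) (kd xd21 yd7 zd16) (kd xd12 yd12 zd50) (kd xd12 yd1 zd49) (kd xd21 yd54 zd9) (kd xd21 yd7 zd12) (kd xd21 yd54 zd10) (kd xd29 yd6 zd8) (kd xd12 yd1 zd58)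 (kd xd12 yd1 zd59) (kd xd21 yd35 zd10) (kd xd21 yd35 zd4) (kd xd12 yd1 zd61) (kd xd12 yd41 zd50) (kd xd12 yd24 zd17) (kd xd21 yd30 zd27) (kd xd12 yd2 zd4) (kd xd18 yd39 zd29) (kd xd12 yd14 zd9) (kd xd12 yd14 zd10) (kd xd12 yd2 zd6) (kd xd12 yd44 zd44) (kd xd16 yd8 zd52) (kd xd22 yd8 zd14) (kd xd12 yd2 zd11) (kd xd12 yd43 zd35) (kd xd22 yd37 zd3) (kd xd29 yd51 zd55) (kd xd12 yd2 zd13) (kd xd28 yd8 zd25) (kd xd19 yd49 zd59) (kd xd20 yd50 zd51) (kd xd12 yd2 zd18) (kd xd12 yd2 zd19) (kd xd20 yd51 zd49) (kd xd16 yd40 zd53) (kd xd15 yd38 zd37) (kd xd21 yd51 zd10) (kd xd21 yd35 zd33) (kd xd12 yd45 zd35) (kd xd16 yd26 zd21) (kd xd12 yd45 zd15) (kd xd20 yd5 zd45) (kd xd15 yd8 zd28) (kd xd12 yd2 zd32) (kd xd17 yd49 zd21) (kd xd24 yd47 zd34) (kd xd16 yd28 zd9) (kd xd12 yd2 zd33)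 (kd xd24 yd17 zd59) (kd xd21 yd54 zd6)) (@D3.rec (fun _ => Pt) (kd xd21 yd54 zd7) (kd xd12 yd2 zd35) (kd xd12 yd46 zd56) (kd xd27 yd10 zd46) (kd xd14 yd29 zd24) (kd xd12 yd2 zd49) (kd xd21 yd44 zd20) (kd xd21 yd21 zd31) (kd xd12 yd41 zd33) (kd xd21 yd55 zd8) (kd xd29 yd52 zd0) (kd xd20 yd15 zd36) (kd xd15 yd49 zd42) (kd xd12 yd2 zd61) (kd xd26 yd10 zd26) (kd xd22 yd42 zd11) (kd xd21 yd31 zd35) (kd xd12 yd3 zd1) (kd xd29 yd52 zd1) (kd xd27 yd11 zd2) (kd xd12 yd3 zd4) (kd xd21 yd44 zd59) (kd xd12 yd3 zd7) (kd xd24 yd32 zd0) (kd xd12 yd3 zd8) (kd xd27 yd57 zd9) (kd xd12 yd3 zd10) (kd xd21 yd21 zd26) (kd xd12 yd3 zd15) (kd xd29 yd52 zd3) (kd xd29 yd52 zd4) (kd xd12 yd3 zd17) (kd xd12 yd3 zd18) (kd xd29 yd52 zd6) (kd xd29 yd52 zd7) (kd xd26 yd40 zd34) (kd xd12 yd3 zd19)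 (kd xd12 yd16 zd56) (kd xd21 yd45 zd7) (kd xd21 yd6 zd18) (kd xd21 yd6 zd19) (kd xd12 yd3 zd21) (kd xd26 yd0 zd36) (kd xd22 yd31 zd50) (kd xd23 yd21 zd14) (kd xd13 yd59 zd42) (kd xd23 yd21 zd8) (kd xd29 yd52 zd11) (kd xd12 yd3 zd25) (kd xd29 yd52 zd12) (kd xd21 yd27 zd12) (kd xd12 yd3 zd26) (kd xd16 yd41 zd53) (kd xd12 yd3 zd27) (kd xd21 yd46 zd40) (kd xd12 yd3 zd28) (kd xd12 yd21 zd25) (kd xd12 yd21 zd26) (kd xd29 yd52 zd19) (kd xd26 yd47 zd50) (kd xd18 yd9 zd32) (kd xd18 yd46 zd37)) (@D3.rec (fun _ => Pt) (kd xd23 yd36 zd57) (kd xd12 yd53 zd50) (kd xd23 yd36 zd56) (kd xd27 yd49 zd26) (kd xd25 yd46 zd47) (kd xd22 yd39 zd37) (kd xd18 yd58 zd38) (kd xd19 yd51 zd4) (kd xd12 yd3 zd39) (kd xd23 yd58 zd22) (kd xd15 yd44 zd15) (kd xd18 yd59 zd5) (kd xd12 yd3 zd42) (kd xd14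 yd3 zd25) (kd xd14 yd3 zd53) (kd xd12 yd3 zd43) (kd xd19 yd4 zd53) (kd xd23 yd50 zd31) (kd xd19 yd20 zd52) (kd xd18 yd47 zd60) (kd xd12 yd3 zd44) (kd xd27 yd21 zd13) (kd xd12 yd3 zd46) (kd xd12 yd54 zd51) (kd xd12 yd14 zd19) (kd xd19 yd24 zd16) (kd xd16 yd49 zd1) (kd xd29 yd25 zd47) (kd xd19 yd23 zd55) (kd xd17 yd33 zd14) (kd xd12 yd56 zd33) (kd xd18 yd17 zd32) (kd xd18 yd43 zd30) (kd xd17 yd33 zd37) (kd xd12 yd55 zd45) (kd xd19 yd32 zd14) (kd xd12 yd55 zd55) (kd xd12 yd55 zd36) (kd xd17 yd8 zd50) (kd xd12 yd55 zd59) (kd xd19 yd6 zd46) (kd xd18 yd44 zd41) (kd xd12 yd4 zd10) (kd xd22 yd3 zd20) (kd xd27 yd43 zd7) (kd xd12 yd4 zd11) (kd xd17 yd45 zd12) (kd xd21 yd37 zd42) (kd xd26 yd46 zd50) (kd xd12 yd56 zd47) (kd xd17 yd34 zd40) (kd xd12 yd4 zd27) (kd xd17 yd26 zd50)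 (kd xd12 yd4 zd29) (kd xd19 yd3 zd1) (kd xd19 yd6 zd49) (kd xd19 yd6 zd50) (kd xd29 yd52 zd29) (kd xd12 yd4 zd36) (kd xd13 yd10 zd58) (kd xd27 yd20 zd1) (kd xd18 yd57 zd34)) (@D3.rec (fun _ => Pt) (kd xd12 yd39 zd25) (kd xd21 yd38 zd50) (kd xd12 yd4 zd43) (kd xd15 yd57 zd17) (kd xd12 yd4 zd49) (kd xd12 yd39 zd52) (kd xd29 yd52 zd31) (kd xd29 yd52 zd32) (kd xd12 yd4 zd56) (kd xd29 yd52 zd33) (kd xd12 yd20 zd26) (kd xd17 yd16 zd28) (kd xd20 yd19 zd15) (kd xd29 yd52 zd34) (kd xd23 yd31 zd43) (kd xd12 yd4 zd60) (kd xd16 yd48 zd2) (kd xd16 yd48 zd40) (kd xd24 yd18 zd27) (kd xd28 yd47 zd29) (kd xd12 yd5 zd1) (kd xd21 yd59 zd5) (kd xd29 yd28 zd20) (kd xd16 yd22 zd25) (kd xd20 yd48 zd21) (kd xd29 yd52 zd42) (kd xd29 yd52 zd44) (kd xd12 yd5 zd5) (kd xd21 yd10 zd45) (kd xd19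 yd6 zd30) (kd xd23 yd20 zd61) (kd xd23 yd21 zd0) (kd xd15 yd12 zd55) (kd xd21 yd10 zd40) (kd xd26 yd18 zd4) (kd xd27 yd5 zd23) (kd xd16 yd31 zd54) (kd xd21 yd15 zd11) (kd xd19 yd36 zd13) (kd xd13 yd47 zd42) (kd xd21 yd10 zd33) (kd xd27 yd52 zd25) (kd xd27 yd58 zd15) (kd xd25 yd18 zd21) (kd xd18 yd22 zd59) (kd xd21 yd10 zd28) (kd xd28 yd31 zd59) (kd xd29 yd53 zd5) (kd xd22 yd51 zd51) (kd xd20 yd21 zd9) (kd xd18 yd2 zd35) (kd xd26 yd32 zd9) (kd xd21 yd11 zd1) (kd xd28 yd4 zd32) (kd xd29 yd53 zd9) (kd xd19 yd6 zd25) (kd xd26 yd21 zd35) (kd xd29 yd53 zd14) (kd xd26 yd17 zd11) (kd xd12 yd5 zd20) (kd xd12 yd5 zd21) (kd xd29 yd28 zd15)) (@D3.rec (fun _ => Pt) (kd xd15 yd10 zd43) (kd xd21 yd10 zd52) (kd xd18 yd30 zd30) (kd xd29 yd49 zd61) (kd xd24 yd59 zd37) (kd xd15 yd10 zd45)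 (kd xd12 yd10 zd4) (kd xd22 yd41 zd10) (kd xd12 yd5 zd26) (kd xd26 yd57 zd17) (kd xd15 yd3 zd50) (kd xd12 yd9 zd60) (kd xd29 yd52 zd45) (kd xd20 yd33 zd7) (kd xd12 yd5 zd32) (kd xd12 yd48 zd61) (kd xd17 yd18 zd6) (kd xd29 yd52 zd46) (kd xd12 yd9 zd7) (kd xd12 yd5 zd36) (kd xd12 yd55 zd32) (kd xd22 yd24 zd22) (kd xd12 yd5 zd38) (kd xd12 yd5 zd40) (kd xd12 yd5 zd41) (kd xd29 yd53 zd31) (kd xd12 yd5 zd42) (kd xd29 yd53 zd32) (kd xd29 yd53 zd34) (kd xd29 yd40 zd49) (kd xd12 yd5 zd43) (kd xd20 yd38 zd49) (kd xd14 yd19 zd48) (kd xd26 yd56 zd41) (kd xd14 yd50 zd3) (kd xd27 yd36 zd48) (kd xd28 yd38 zd60) (kd xd28 yd10 zd31) (kd xd18 yd2 zd51) (kd xd16 yd9 zd50) (kd xd12 yd5 zd52) (kd xd16 yd20 zd45) (kd xd29 yd53 zd44) (kd xd12 yd5 zd53) (kd xd27 yd41 zd42) (kd xd14 yd59 zd42)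 (kd xd16 yd25 zd53) (kd xd26 yd30 zd44) (kd xd18 yd41 zd26) (kd xd22 yd19 zd54) (kd xd12 yd5 zd57) (kd xd27 yd41 zd37) (kd xd26 yd30 zd45) (kd xd27 yd41 zd39) (kd xd12 yd8 zd38) (kd xd21 yd12 zd61) (kd xd21 yd13 zd1) (kd xd27 yd53 zd52) (kd xd12 yd6 zd0) (kd xd24 yd56 zd30) (kd xd15 yd6 zd3) (kd xd23 yd21 zd24)) (@D3.rec (fun _ => Pt) (kd xd23 yd21 zd23) (kd xd18 yd18 zd49) (kd xd29 yd15 zd29) (kd xd21 yd15 zd2) (kd xd29 yd53 zd55) (kd xd29 yd53 zd57) (kd xd21 yd15 zd6) (kd xd28 yd8 zd36) (kd xd28 yd8 zd29) (kd xd29 yd53 zd59) (kd xd12 yd6 zd5) (kd xd15 yd8 zd53) (kd xd27 yd53 zd10) (kd xd18 yd12 zd20) (kd xd26 yd18 zd53) (kd xd26 yd18 zd43) (kd xd16 yd21 zd29) (kd xd12 yd6 zd10) (kd xd28 yd12 zd14) (kd xd23 yd20 zd13) (kd xd20 yd45 zd10) (kd xd12 yd6 zd17) (kd xd12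 yd35 zd24) (kd xd12 yd6 zd19) (kd xd19 yd0 zd21) (kd xd26 yd7 zd5) (kd xd29 yd54 zd4) (kd xd12 yd6 zd25) (kd xd19 yd18 zd29) (kd xd17 yd46 zd43) (kd xd18 yd49 zd31) (kd xd28 yd14 zd59) (kd xd21 yd29 zd11) (kd xd21 yd29 zd13) (kd xd16 yd24 zd60) (kd xd16 yd32 zd58) (kd xd24 yd58 zd49) (kd xd25 yd2 zd60) (kd xd15 yd10 zd59) (kd xd22 yd41 zd43) (kd xd21 yd12 zd53) (kd xd29 yd54 zd10) (kd xd29 yd54 zd12) (kd xd12 yd6 zd40) (kd xd16 yd23 zd43) (kd xd28 yd25 zd49) (kd xd29 yd54 zd18) (kd xd29 yd54 zd19) (kd xd13 yd42 zd10) (kd xd16 yd21 zd22) (kd xd29 yd54 zd22) (kd xd26 yd30 zd24) (kd xd16 yd34 zd16) (kd xd21 yd12 zd40) (kd xd28 yd32 zd5) (kd xd23 yd16 zd19) (kd xd24 yd47 zd12) (kd xd18 yd22 zd55) (kd xd12 yd6 zd51) (kd xd16 yd12 zd39) (kd xd12 yd6 zd53) (kd xd21 yd11 zd55))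 (@D3.rec (fun _ => Pt) (kd xd15 yd8 zd37) (kd xd21 yd11 zd56) (kd xd16 yd32 zd56) (kd xd12 yd6 zd56) (kd xd22 yd23 zd56) (kd xd13 yd49 zd25) (kd xd13 yd2 zd47) (kd xd16 yd53 zd25) (kd xd19 yd1 zd12) (kd xd16 yd23 zd8) (kd xd20 yd8 zd9) (kd xd12 yd6 zd61) (kd xd16 yd53 zd24) (kd xd14 yd53 zd40) (kd xd19 yd43 zd30) (kd xd26 yd28 zd21) (kd xd16 yd32 zd16) (kd xd21 yd0 zd44) (kd xd26 yd28 zd17) (kd xd25 yd0 zd57) (kd xd26 yd28 zd18) (kd xd16 yd33 zd34) (kd xd16 yd33 zd38) (kd xd15 yd23 zd59) (kd xd29 yd18 zd28) (kd xd29 yd18 zd29) (kd xd29 yd54 zd34) (kd xd28 yd13 zd36) (kd xd19 yd43 zd13) (kd xd20 yd28 zd45) (kd xd21 yd2 zd39) (kd xd28 yd20 zd10) (kd xd28 yd15 zd22) (kd xd13 yd14 zd17) (kd xd16 yd32 zd40) (kd xd29 yd54 zd40) (kd xd12 yd7 zd25) (kd xd29 yd54 zd41) (kd xd29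 yd54 zd42) (kd xd29 yd54 zd43) (kd xd12 yd7 zd28) (kd xd29 yd54 zd47) (kd xd28 yd50 zd4) (kd xd12 yd7 zd29) (kd xd12 yd7 zd30) (kd xd12 yd7 zd34) (kd xd12 yd7 zd35) (kd xd29 yd54 zd53) (kd xd23 yd4 zd9) (kd xd29 yd54 zd56) (kd xd12 yd7 zd37) (kd xd22 yd13 zd13) (kd xd22 yd53 zd54) (kd xd29 yd54 zd57) (kd xd12 yd7 zd38) (kd xd29 yd54 zd59) (kd xd12 yd7 zd39) (kd xd23 yd14 zd42) (kd xd29 yd55 zd0) (kd xd20 yd32 zd1) (kd xd29 yd55 zd2) (kd xd16 yd35 zd7)) (@D3.rec (fun _ => Pt) (kd xd24 yd14 zd18) (kd xd12 yd7 zd43) (kd xd25 yd52 zd61) (kd xd29 yd55 zd6) (kd xd20 yd0 zd11) (kd xd16 yd35 zd12) (kd xd26 yd32 zd49) (kd xd29 yd36 zd32) (kd xd12 yd7 zd46) (kd xd13 yd30 zd33) (kd xd29 yd55 zd9) (kd xd12 yd7 zd47) (kd xd29 yd27 zd50) (kd xd20 yd50 zd43) (kd xd12 yd7 zd54) (kd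 xd12 yd7 zd56) (kd xd12 yd7 zd61) (kd xd12 yd8 zd0) (kd xd28 yd1 zd20) (kd xd17 yd9 zd14) (kd xd29 yd55 zd11) (kd xd12 yd8 zd4) (kd xd12 yd8 zd8) (kd xd24 yd40 zd24) (kd xd14 yd58 zd38) (kd xd26 yd25 zd48) (kd xd29 yd55 zd16) (kd xd12 yd8 zd12) (kd xd20 yd1 zd60) (kd xd29 yd55 zd17) (kd xd12 yd8 zd14) (kd xd13 yd52 zd58) (kd xd12 yd8 zd15) (kd xd14 yd55 zd4) (kd xd14 yd2 zd0) (kd xd12 yd22 zd50) (kd xd12 yd8 zd31) (kd xd12 yd8 zd17) (kd xd16 yd30 zd16) (kd xd12 yd8 zd20) (kd xd12 yd8 zd23) (kd xd24 yd5 zd7) (kd xd29 yd42 zd17) (kd xd12 yd8 zd25) (kd xd26 yd30 zd47) (kd xd28 yd28 zd15) (kd xd18 yd22 zd50) (kd xd12 yd8 zd29) (kd xd13 yd42 zd60) (kd xd29 yd55 zd28) (kd xd29 yd55 zd25) (kd xd12 yd8 zd32) (kd xd26 yd26 zd38) (kd xd12 yd8 zd33) (kd xd23 yd4 zd54) (kd xd12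 yd8 zd34) (kd xd22 yd27 zd45) (kd xd22 yd13 zd52) (kd xd13 yd34 zd0) (kd xd13 yd51 zd50) (kd xd26 yd31 zd1) (kd xd12 yd8 zd40)) (@D3.rec (fun _ => Pt) (kd xd24 yd13 zd19) (kd xd12 yd8 zd43) (kd xd21 yd12 zd3) (kd xd27 yd51 zd60) (kd xd29 yd53 zd46) (kd xd26 yd31 zd58) (kd xd21 yd12 zd6) (kd xd26 yd7 zd48) (kd xd20 yd30 zd4) (kd xd29 yd55 zd34) (kd xd12 yd8 zd53) (kd xd21 yd10 zd37) (kd xd21 yd15 zd43) (kd xd24 yd9 zd23) (kd xd24 yd9 zd22) (kd xd20 yd36 zd36) (kd xd25 yd39 zd45) (kd xd22 yd53 zd22) (kd xd12 yd9 zd1) (kd xd22 yd6 zd29) (kd xd12 yd9 zd4) (kd xd18 yd36 zd28) (kd xd20 yd10 zd61) (kd xd12 yd9 zd6) (kd xd19 yd23 zd51) (kd xd16 yd35 zd33) (kd xd18 yd58 zd61) (kd xd20 yd20 zd29) (kd xd26 yd49 zd45) (kd xd26 yd55 zd30) (kd xd28 yd33 zd39) (kd xd12 yd9 zd13) (kd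 xd19 yd42 zd21) (kd xd12 yd9 zd16) (kd xd19 yd42 zd59) (kd xd21 yd2 zd37) (kd xd12 yd9 zd35) (kd xd20 yd30 zd17) (kd xd12 yd9 zd36) (kd xd29 yd18 zd15) (kd xd26 yd55 zd27) (kd xd22 yd53 zd16) (kd xd12 yd9 zd38) (kd xd21 yd15 zd12) (kd xd20 yd27 zd29) (kd xd20 yd27 zd51) (kd xd15 yd4 zd28) (kd xd26 yd51 zd38) (kd xd29 yd55 zd43) (kd xd28 yd14 zd36) (kd xd16 yd52 zd56) (kd xd29 yd55 zd46) (kd xd12 yd10 zd2) (kd xd12 yd10 zd5) (kd xd13 yd45 zd43) (kd xd12 yd10 zd8) (kd xd18 yd24 zd12) (kd xd23 yd56 zd24) (kd xd12 yd10 zd11) (kd xd24 yd6 zd39) (kd xd12 yd10 zd15) (kd xd29 yd55 zd52)) (@D3.rec (fun _ => Pt) (kd xd29 yd55 zd53) (kd xd28 yd35 zd48) (kd xd12 yd10 zd19) (kd xd29 yd55 zd54) (kd xd12 yd10 zd22) (kd xd24 yd12 zd59) (kd xd17 yd19 zd29) (kd xd29 yd35 zd54) (kd xd19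 yd52 zd9) (kd xd19 yd34 zd32) (kd xd29 yd8 zd9) (kd xd12 yd10 zd29) (kd xd19 yd7 zd42) (kd xd13 yd6 zd36) (kd xd18 yd48 zd36) (kd xd21 yd28 zd48) (kd xd27 yd40 zd32) (kd xd20 yd0 zd22) (kd xd27 yd20 zd21) (kd xd20 yd22 zd17) (kd xd27 yd1 zd54) (kd xd27 yd1 zd51) (kd xd27 yd1 zd52) (kd xd29 yd55 zd61) (kd xd12 yd11 zd7) (kd xd15 yd57 zd41) (kd xd29 yd56 zd1) (kd xd12 yd11 zd11) (kd xd24 yd15 zd57) (kd xd14 yd36 zd26) (kd xd12 yd11 zd12) (kd xd12 yd11 zd13) (kd xd12 yd11 zd15) (kd xd15 yd19 zd23) (kd xd29 yd56 zd4) (kd xd29 yd56 zd6) (kd xd27 yd18 zd41) (kd xd28 yd43 zd13) (kd xd12 yd11 zd19) (kd xd17 yd24 zd48) (kd xd27 yd13 zd31) (kd xd17 yd20 zd12) (kd xd26 yd41 zd48) (kd xd12 yd11 zd22) (kd xd25 yd10 zd10) (kd xd17 yd20 zd27) (kd xd21 yd17 zd50) (kd xd14 yd35 zd0)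 (kd xd20 yd57 zd5) (kd xd12 yd32 zd56) (kd xd29 yd56 zd12) (kd xd29 yd56 zd13) (kd xd12 yd11 zd29) (kd xd17 yd11 zd61) (kd xd14 yd13 zd59) (kd xd29 yd56 zd14) (kd xd17 yd29 zd17) (kd xd29 yd56 zd19) (kd xd12 yd11 zd35) (kd xd29 yd56 zd22) (kd xd12 yd11 zd37) (kd xd12 yd49 zd54)) (@D3.rec (fun _ => Pt) (kd xd12 yd11 zd38) (kd xd28 yd30 zd32) (kd xd12 yd11 zd39) (kd xd29 yd56 zd24) (kd xd29 yd56 zd25) (kd xd24 yd15 zd35) (kd xd12 yd11 zd40) (kd xd17 yd28 zd58) (kd xd17 yd28 zd59) (kd xd27 yd18 zd52) (kd xd12 yd11 zd57) (kd xd27 yd1 zd45) (kd xd27 yd1 zd46) (kd xd29 yd56 zd33) (kd xd12 yd11 zd42) (kd xd25 yd36 zd0) (kd xd20 yd59 zd15) (kd xd23 yd28 zd9) (kd xd29 yd56 zd35) (kd xd29 yd56 zd39) (kd xd12 yd11 zd45) (kd xd16 yd1 zd38) (kd xd29 yd5 zd47) (kd xd29 yd56 zd41)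 (kd xd29 yd56 zd42) (kd xd12 yd11 zd47) (kd xd25 yd43 zd43) (kd xd29 yd56 zd46) (kd xd29 yd56 zd47) (kd xd12 yd11 zd49) (kd xd17 yd28 zd9) (kd xd29 yd56 zd50) (kd xd12 yd11 zd52) (kd xd25 yd57 zd23) (kd xd12 yd11 zd53) (kd xd15 yd33 zd28) (kd xd17 yd14 zd44) (kd xd29 yd52 zd14) (kd xd29 yd56 zd26) (kd xd17 yd14 zd43) (kd xd16 yd46 zd47) (kd xd17 yd10 zd23) (kd xd20 yd3 zd7) (kd xd29 yd45 zd13) (kd xd29 yd56 zd30) (kd xd21 yd56 zd11) (kd xd21 yd33 zd57) (kd xd26 yd13 zd8) (kd xd18 yd38 zd14) (kd xd18 yd38 zd15) (kd xd21 yd16 zd46) (kd xd17 yd0 zd17) (kd xd18 yd50 zd28) (kd xd29 yd57 zd10) (kd xd18 yd50 zd34) (kd xd29 yd49 zd29) (kd xd13 yd0 zd1) (kd xd29 yd57 zd12) (kd xd29 yd57 zd15) (kd xd12 yd12 zd14) (kd xd23 yd55 zd4) (kd xd24 yd14 zd4)) (@D3.rec (fun _ => Pt) (kd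 xd26 yd11 zd5) (kd xd29 yd57 zd20) (kd xd12 yd12 zd17) (kd xd29 yd57 zd23) (kd xd12 yd12 zd18) (kd xd13 yd2 zd27) (kd xd13 yd2 zd26) (kd xd12 yd12 zd19) (kd xd18 yd38 zd19) (kd xd29 yd57 zd27) (kd xd12 yd12 zd21) (kd xd29 yd57 zd31) (kd xd12 yd12 zd22) (kd xd29 yd57 zd34) (kd xd27 yd18 zd18) (kd xd29 yd57 zd38) (kd xd23 yd41 zd5) (kd xd12 yd12 zd23) (kd xd22 yd15 zd57) (kd xd12 yd12 zd25) (kd xd25 yd23 zd16) (kd xd12 yd12 zd30) (kd xd12 yd12 zd31) (kd xd22 yd43 zd50) (kd xd29 yd57 zd43) (kd xd12 yd12 zd32) (kd xd25 yd23 zd14) (kd xd15 yd49 zd16) (kd xd21 yd33 zd16) (kd xd29 yd57 zd50) (kd xd29 yd57 zd52) (kd xd29 yd57 zd53) (kd xd12 yd12 zd42) (kd xd21 yd46 zd54) (kd xd21 yd52 zd19) (kd xd18 yd21 zd4) (kd xd29 yd51 zd49) (kd xd16 yd9 zd22) (kd xd14 yd49 zd56) (kd xd29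 yd51 zd50) (kd xd18 yd17 zd45) (kd xd15 yd25 zd44) (kd xd15 yd25 zd43) (kd xd21 yd55 zd15) (kd xd22 yd47 zd18) (kd xd29 yd6 zd34) (kd xd12 yd12 zd55) (kd xd21 yd48 zd19) (kd xd21 yd28 zd22) (kd xd29 yd18 zd10) (kd xd12 yd12 zd58) (kd xd27 yd11 zd1) (kd xd19 yd17 zd12) (kd xd12 yd42 zd50) (kd xd12 yd42 zd38) (kd xd25 yd58 zd19) (kd xd29 yd57 zd61) (kd xd12 yd13 zd6) (kd xd24 yd43 zd12) (kd xd12 yd13 zd8) (kd xd14 yd54 zd3) (kd xd14 yd54 zd2)) (@D3.rec (fun _ => Pt) (kd xd12 yd40 zd27) (kd xd12 yd40 zd11) (kd xd29 yd56 zd49) (kd xd29 yd58 zd2) (kd xd29 yd58 zd3) (kd xd12 yd13 zd12) (kd xd19 yd47 zd57) (kd xd24 yd20 zd14) (kd xd29 yd58 zd8) (kd xd29 yd58 zd9) (kd xd12 yd13 zd17) (kd xd14 yd7 zd25) (kd xd14 yd7 zd23) (kd xd29 yd57 zd4) (kd xd29 yd58 zd4) (kd xd29 yd58 zd12)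 (kd xd12 yd13 zd20) (kd xd26 yd3 zd49) (kd xd15 yd45 zd55) (kd xd29 yd58 zd18) (kd xd12 yd13 zd23) (kd xd29 yd58 zd21) (kd xd12 yd13 zd24) (kd xd29 yd58 zd24) (kd xd12 yd13 zd25) (kd xd17 yd14 zd15) (kd xd15 yd42 zd41) (kd xd12 yd26 zd61) (kd xd21 yd49 zd24) (kd xd24 yd41 zd21) (kd xd24 yd41 zd22) (kd xd14 yd54 zd39) (kd xd17 yd5 zd4) (kd xd21 yd50 zd42) (kd xd14 yd23 zd51) (kd xd14 yd54 zd22) (kd xd18 yd37 zd49) (kd xd28 yd1 zd34) (kd xd12 yd13 zd35) (kd xd21 yd22 zd41) (kd xd18 yd25 zd33) (kd xd29 yd58 zd36) (kd xd12 yd13 zd37) (kd xd21 yd4 zd47) (kd xd22 yd43 zd2) (kd xd23 yd41 zd30) (kd xd12 yd13 zd40) (kd xd21 yd34 zd55) (kd xd16 yd13 zd41) (kd xd29 yd58 zd42) (kd xd12 yd13 zd42) (kd xd29 yd58 zd45) (kd xd12 yd13 zd43) (kd xd23 yd35 zd38) (kd xd13 yd51 zd16) (kd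 xd23 yd44 zd12) (kd xd22 yd28 zd28) (kd xd12 yd13 zd45) (kd xd12 yd26 zd41) (kd xd27 yd6 zd19) (kd xd22 yd28 zd30) (kd xd22 yd28 zd29)) (@D3.rec (fun _ => Pt) (kd xd29 yd58 zd47) (kd xd12 yd13 zd50) (kd xd22 yd11 zd31) (kd xd17 yd9 zd54) (kd xd29 yd22 zd56) (kd xd18 yd16 zd11) (kd xd27 yd43 zd47) (kd xd24 yd34 zd7) (kd xd20 yd9 zd42) (kd xd12 yd14 zd33) (kd xd12 yd15 zd43) (kd xd26 yd16 zd7) (kd xd21 yd23 zd7) (kd xd12 yd14 zd13) (kd xd17 yd58 zd10) (kd xd12 yd21 zd46) (kd xd12 yd14 zd16) (kd xd21 yd45 zd51) (kd xd12 yd14 zd20) (kd xd20 yd47 zd12) (kd xd29 yd25 zd35) (kd xd16 yd59 zd37) (kd xd29 yd14 zd26) (kd xd29 yd43 zd28) (kd xd16 yd42 zd15) (kd xd21 yd35 zd16) (kd xd28 yd1 zd23) (kd xd17 yd16 zd42) (kd xd12 yd14 zd31) (kd xd20 yd14 zd42) (kd xd14 yd27 zd37) (kd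 xd12 yd14 zd40) (kd xd12 yd14 zd41) (kd xd28 yd52 zd35) (kd xd21 yd50 zd19) (kd xd12 yd27 zd52) (kd xd29 yd58 zd55) (kd xd12 yd30 zd12) (kd xd12 yd27 zd57) (kd xd12 yd14 zd56) (kd xd22 yd23 zd9) (kd xd12 yd14 zd58) (kd xd12 yd15 zd0) (kd xd12 yd15 zd1) (kd xd12 yd41 zd22) (kd xd12 yd15 zd9) (kd xd12 yd24 zd19) (kd xd12 yd15 zd17) (kd xd18 yd12 zd57) (kd xd12 yd15 zd27) (kd xd18 yd13 zd49) (kd xd17 yd7 zd48) (kd xd21 yd35 zd21) (kd xd12 yd15 zd31) (kd xd12 yd15 zd32) (kd xd14 yd24 zd5) (kd xd12 yd53 zd39) (kd xd29 yd0 zd2) (kd xd12 yd53 zd35) (kd xd26 yd7 zd59) (kd xd26 yd41 zd30) (kd xd17 yd17 zd36)) (@D3.rec (fun _ => Pt) (kd xd12 yd15 zd42) (kd xd27 yd43 zd46) (kd xd12 yd28 zd11) (kd xd12 yd15 zd46) (kd xd12 yd37 zd21) (kd xd19 yd37 zd41) (kd xd12 yd15 zd54) (kd xd27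 yd6 zd21) (kd xd25 yd6 zd25) (kd xd13 yd19 zd49) (kd xd17 yd51 zd59) (kd xd19 yd44 zd40) (kd xd12 yd16 zd5) (kd xd29 yd59 zd6) (kd xd21 yd48 zd20) (kd xd21 yd49 zd23) (kd xd17 yd52 zd27) (kd xd27 yd48 zd8) (kd xd28 yd6 zd46) (kd xd12 yd16 zd18) (kd xd29 yd6 zd35) (kd xd12 yd16 zd19) (kd xd20 yd17 zd5) (kd xd29 yd31 zd54) (kd xd29 yd59 zd13) (kd xd12 yd16 zd21) (kd xd21 yd8 zd27) (kd xd29 yd59 zd15) (kd xd14 yd34 zd53) (kd xd17 yd52 zd9) (kd xd29 yd59 zd17) (kd xd21 yd8 zd7) (kd xd29 yd59 zd19) (kd xd29 yd59 zd20) (kd xd29 yd59 zd23) (kd xd12 yd16 zd24) (kd xd27 yd7 zd41) (kd xd20 yd53 zd18) (kd xd12 yd16 zd26) (kd xd22 yd31 zd11) (kd xd12 yd42 zd55) (kd xd29 yd59 zd27) (kd xd12 yd16 zd28) (kd xd29 yd59 zd29) (kd xd12 yd16 zd31) (kd xd21 yd28 zd9) (kd xd23 yd2 zd54)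 (kd xd29 yd55 zd12) (kd xd12 yd16 zd33) (kd xd12 yd16 zd34) (kd xd12 yd16 zd35) (kd xd23 yd39 zd32) (kd xd29 yd59 zd33) (kd xd12 yd16 zd36) (kd xd21 yd49 zd25) (kd xd21 yd43 zd15) (kd xd12 yd27 zd15) (kd xd12 yd16 zd40) (kd xd19 yd59 zd57) (kd xd12 yd46 zd53) (kd xd28 yd31 zd22) (kd xd12 yd16 zd45)) (@D3.rec (fun _ => Pt) (kd xd24 yd10 zd25) (kd xd20 yd3 zd36) (kd xd12 yd16 zd48) (kd xd21 yd40 zd49) (kd xd14 yd11 zd51) (kd xd14 yd52 zd36) (kd xd21 yd42 zd9) (kd xd21 yd36 zd11) (kd xd20 yd13 zd0) (kd xd14 yd11 zd54) (kd xd29 yd28 zd10) (kd xd21 yd48 zd11) (kd xd12 yd16 zd54) (kd xd29 yd22 zd43) (kd xd29 yd22 zd44) (kd xd19 yd5 zd59) (kd xd12 yd16 zd59) (kd xd18 yd18 zd25) (kd xd12 yd16 zd60) (kd xd28 yd41 zd10) (kd xd29 yd59 zd44) (kd xd29 yd59 zd45) (kd xd12 yd16 zd61)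 (kd xd17 yd19 zd32) (kd xd21 yd49 zd15) (kd xd18 yd38 zd2) (kd xd25 yd44 zd33) (kd xd25 yd44 zd32) (kd xd22 yd6 zd2) (kd xd12 yd17 zd9) (kd xd21 yd59 zd40) (kd xd29 yd59 zd26) (kd xd21 yd42 zd12) (kd xd12 yd17 zd11) (kd xd17 yd29 zd42) (kd xd17 yd29 zd43) (kd xd25 yd13 zd3) (kd xd12 yd17 zd13) (kd xd15 yd25 zd60) (kd xd14 yd51 zd11) (kd xd12 yd17 zd15) (kd xd21 yd19 zd39) (kd xd14 yd51 zd10) (kd xd12 yd17 zd16) (kd xd12 yd17 zd17) (kd xd24 yd39 zd49) (kd xd18 yd16 zd44) (kd xd12 yd26 zd55) (kd xd12 yd26 zd46) (kd xd12 yd17 zd23) (kd xd18 yd1 zd19) (kd xd21 yd57 zd19) (kd xd24 yd45 zd49) (kd xd12 yd17 zd32) (kd xd17 yd13 zd18) (kd xd12 yd17 zd34) (kd xd29 yd59 zd54) (kd xd12 yd17 zd36) (kd xd26 yd12 zd35) (kd xd15 yd37 zd43) (kd xd12 yd17 zd37) (kd xd29 yd59 zd56)) (@D3.rec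 (fun _ => Pt) (kd xd17 yd57 zd61) (kd xd12 yd17 zd39) (kd xd17 yd13 zd40) (kd xd15 yd27 zd5) (kd xd29 yd32 zd47) (kd xd26 yd16 zd53) (kd xd12 yd17 zd49) (kd xd21 yd20 zd12) (kd xd29 yd59 zd58) (kd xd12 yd17 zd50) (kd xd12 yd31 zd43) (kd xd12 yd17 zd51) (kd xd24 yd39 zd15) (kd xd12 yd18 zd1) (kd xd12 yd18 zd2) (kd xd20 yd16 zd59) (kd xd12 yd43 zd24) (kd xd24 yd10 zd35) (kd xd24 yd22 zd28) (kd xd23 yd1 zd2) (kd xd12 yd17 zd56) (kd xd12 yd17 zd58) (kd xd17 yd13 zd54) (kd xd28 yd42 zd28) (kd xd27 yd30 zd53) (kd xd29 yd59 zd55) (kd xd25 yd9 zd61) (kd xd12 yd17 zd61) (kd xd13 yd53 zd50) (kd xd29 yd13 zd16) (kd xd27 yd27 zd4) (kd xd12 yd18 zd3) (kd xd17 yd13 zd45) (kd xd29 yd59 zd61) (kd xd30 yd0 zd0) (kd xd12 yd18 zd5) (kd xd21 yd46 zd20) (kd xd12 yd18 zd6) (kd xd12 yd18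 zd7) (kd xd17 yd29 zd27) (kd xd17 yd29 zd28) (kd xd30 yd0 zd5) (kd xd17 yd13 zd43) (kd xd15 yd48 zd7) (kd xd24 yd20 zd35) (kd xd27 yd19 zd52) (kd xd12 yd18 zd11) (kd xd17 yd13 zd57) (kd xd12 yd18 zd13) (kd xd23 yd59 zd0) (kd xd28 yd33 zd15) (kd xd12 yd18 zd14) (kd xd21 yd42 zd41) (kd xd15 yd17 zd51) (kd xd15 yd48 zd4) (kd xd26 yd44 zd21) (kd xd25 yd45 zd51) (kd xd30 yd0 zd8) (kd xd28 yd42 zd57) (kd xd12 yd18 zd18) (kd xd29 yd17 zd61) (kd xd19 yd34 zd56)) (@D3.rec (fun _ => Pt) (kd xd12 yd35 zd45) (kd xd29 yd13 zd12) (kd xd12 yd35 zd43) (kd xd16 yd9 zd15) (kd xd29 yd17 zd59) (kd xd24 yd50 zd26) (kd xd24 yd11 zd43) (kd xd29 yd5 zd38) (kd xd12 yd18 zd23) (kd xd30 yd0 zd12) (kd xd17 yd42 zd21) (kd xd17 yd42 zd20) (kd xd12 yd20 zd47) (kd xd12 yd50 zd41) (kd xd25 yd41 zd37)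 (kd xd18 yd12 zd61) (kd xd16 yd6 zd53) (kd xd12 yd56 zd16) (kd xd29 yd55 zd19) (kd xd28 yd11 zd57) (kd xd30 yd0 zd20) (kd xd12 yd18 zd32) (kd xd21 yd55 zd40) (kd xd29 yd57 zd44) (kd xd29 yd57 zd45) (kd xd30 yd0 zd25) (kd xd12 yd18 zd34) (kd xd30 yd0 zd28) (kd xd12 yd18 zd36) (kd xd29 yd51 zd13) (kd xd29 yd51 zd14) (kd xd12 yd18 zd40) (kd xd24 yd27 zd47) (kd xd22 yd37 zd50) (kd xd30 yd0 zd34) (kd xd12 yd18 zd43) (kd xd19 yd48 zd50) (kd xd12 yd18 zd44) (kd xd30 yd0 zd37) (kd xd29 yd51 zd28) (kd xd17 yd14 zd13) (kd xd30 yd0 zd44) (kd xd27 yd57 zd61) (kd xd23 yd44 zd60) (kd xd29 yd30 zd25) (kd xd20 yd36 zd18) (kd xd29 yd58 zd37) (kd xd29 yd58 zd38) (kd xd12 yd18 zd50) (kd xd16 yd0 zd14) (kd xd30 yd0 zd48) (kd xd30 yd0 zd50) (kd xd12 yd18 zd52) (kd xd27 yd43 zd42) (kd xd12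 yd18 zd53) (kd xd22 yd5 zd5) (kd xd18 yd16 zd24) (kd xd13 yd59 zd48) (kd xd18 yd16 zd54) (kd xd23 yd43 zd53) (kd xd23 yd43 zd54) (kd xd22 yd28 zd31)) (@D3.rec (fun _ => Pt) (kd xd12 yd18 zd59) (kd xd17 yd44 zd22) (kd xd21 yd25 zd39) (kd xd22 yd28 zd26) (kd xd14 yd9 zd36) (kd xd26 yd21 zd12) (kd xd13 yd51 zd34) (kd xd24 yd31 zd21) (kd xd23 yd17 zd58) (kd xd12 yd19 zd4) (kd xd17 yd40 zd53) (kd xd26 yd15 zd55) (kd xd30 yd0 zd54) (kd xd12 yd19 zd7) (kd xd27 yd31 zd58) (kd xd12 yd19 zd9) (kd xd12 yd19 zd11) (kd xd12 yd20 zd25) (kd xd12 yd19 zd12) (kd xd30 yd1 zd1) (kd xd23 yd17 zd59) (kd xd12 yd19 zd13) (kd xd26 yd6 zd23) (kd xd12 yd19 zd14) (kd xd12 yd19 zd50) (kd xd12 yd19 zd51) (kd xd30 yd0 zd35) (kd xd15 yd11 zd52) (kd xd12 yd19 zd48) (kd xd16 yd16 zd51) (kd xd12 yd19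 zd49) (kd xd27 yd30 zd1) (kd xd27 yd58 zd25) (kd xd27 yd50 zd28) (kd xd12 yd19 zd19) (kd xd18 yd29 zd6) (kd xd28 yd28 zd35) (kd xd19 yd1 zd13) (kd xd27 yd46 zd20) (kd xd21 yd25 zd2) (kd xd27 yd46 zd19) (kd xd22 yd9 zd31) (kd xd12 yd48 zd36) (kd xd25 yd16 zd59) (kd xd26 yd14 zd52) (kd xd29 yd58 zd51) (kd xd12 yd19 zd29) (kd xd12 yd19 zd30) (kd xd12 yd19 zd32) (kd xd22 yd11 zd27) (kd xd12 yd43 zd26) (kd xd12 yd19 zd34) (kd xd12 yd47 zd21) (kd xd12 yd43 zd34) (kd xd23 yd37 zd0) (kd xd12 yd19 zd36) (kd xd21 yd32 zd16) (kd xd26 yd3 zd57) (kd xd25 yd6 zd50) (kd xd12 yd42 zd29) (kd xd18 yd16 zd39) (kd xd23 yd44 zd20)) (@D3.rec (fun _ => Pt) (kd xd23 yd44 zd19) (kd xd15 yd12 zd25) (kd xd12 yd19 zd52) (kd xd18 yd26 zd32) (kd xd13 yd37 zd13) (kd xd13 yd37 zd14) (kd xd18 yd26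 zd30) (kd xd18 yd3 zd59) (kd xd12 yd19 zd54) (kd xd25 yd43 zd11) (kd xd13 yd19 zd57) (kd xd12 yd19 zd56) (kd xd18 yd7 zd35) (kd xd30 yd1 zd16) (kd xd12 yd19 zd60) (kd xd18 yd16 zd32) (kd xd30 yd1 zd19) (kd xd12 yd20 zd3) (kd xd18 yd26 zd20) (kd xd21 yd41 zd28) (kd xd12 yd20 zd4) (kd xd18 yd37 zd37) (kd xd30 yd1 zd21) (kd xd12 yd40 zd40) (kd xd21 yd38 zd0) (kd xd25 yd1 zd4) (kd xd12 yd20 zd6) (kd xd21 yd30 zd60) (kd xd17 yd5 zd8) (kd xd12 yd20 zd11) (kd xd18 yd5 zd7) (kd xd22 yd3 zd14) (kd xd20 yd34 zd21) (kd xd20 yd27 zd42) (kd xd12 yd20 zd19) (kd xd21 yd34 zd56) (kd xd28 yd9 zd59) (kd xd12 yd20 zd20) (kd xd26 yd14 zd39) (kd xd12 yd20 zd27) (kd xd12 yd39 zd47) (kd xd12 yd20 zd29) (kd xd15 yd16 zd43) (kd xd17 yd50 zd43) (kd xd23 yd2 zd44) (kd xd18 yd32 zd37) (kd xd18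 yd16 zd47) (kd xd19 yd18 zd56) (kd xd12 yd20 zd38) (kd xd22 yd10 zd6) (kd xd28 yd4 zd1) (kd xd18 yd24 zd20) (kd xd12 yd20 zd41) (kd xd18 yd32 zd39) (kd xd12 yd20 zd44) (kd xd28 yd42 zd59) (kd xd20 yd12 zd29) (kd xd21 yd47 zd37) (kd xd20 yd12 zd30) (kd xd29 yd7 zd18) (kd xd17 yd50 zd60) (kd xd18 yd12 zd33)) (@D3.rec (fun _ => Pt) (kd xd12 yd20 zd55) (kd xd27 yd7 zd52) (kd xd27 yd7 zd53) (kd xd30 yd1 zd29) (kd xd12 yd20 zd57) (kd xd19 yd37 zd59) (kd xd29 yd56 zd43) (kd xd29 yd56 zd44) (kd xd24 yd17 zd30) (kd xd19 yd36 zd25) (kd xd29 yd56 zd48) (kd xd27 yd18 zd35) (kd xd21 yd8 zd50) (kd xd12 yd21 zd2) (kd xd22 yd16 zd28) (kd xd25 yd44 zd10) (kd xd25 yd30 zd18) (kd xd13 yd45 zd9) (kd xd22 yd59 zd58) (kd xd12 yd21 zd4) (kd xd17 yd14 zd41) (kd xd29 yd59 zd16) (kd xd25 yd5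 zd1) (kd xd18 yd51 zd7) (kd xd19 yd37 zd55) (kd xd29 yd57 zd16) (kd xd29 yd57 zd17) (kd xd30 yd1 zd40) (kd xd12 yd21 zd9) (kd xd30 yd1 zd42) (kd xd30 yd1 zd43) (kd xd30 yd1 zd44) (kd xd12 yd21 zd12) (kd xd30 yd1 zd46) (kd xd12 yd21 zd13) (kd xd18 yd7 zd46) (kd xd22 yd16 zd19) (kd xd18 yd57 zd0) (kd xd18 yd57 zd14) (kd xd22 yd16 zd36) (kd xd20 yd13 zd2) (kd xd14 yd43 zd7) (kd xd12 yd46 zd26) (kd xd14 yd45 zd25) (kd xd14 yd45 zd26) (kd xd13 yd51 zd47) (kd xd26 yd8 zd56) (kd xd12 yd21 zd20) (kd xd30 yd1 zd55) (kd xd21 yd56 zd2) (kd xd21 yd56 zd3) (kd xd22 yd31 zd51) (kd xd30 yd1 zd59) (kd xd12 yd21 zd24) (kd xd17 yd28 zd7) (kd xd22 yd45 zd60) (kd xd22 yd43 zd0) (kd xd12 yd21 zd27) (kd xd27 yd22 zd14) (kd xd30 yd1 zd31) (kd xd30 yd2 zd0) (kd xd30 yd2 zd2)) (@D3.rec (fun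 _ => Pt) (kd xd21 yd2 zd17) (kd xd12 yd21 zd29) (kd xd30 yd2 zd4) (kd xd12 yd21 zd30) (kd xd30 yd2 zd8) (kd xd29 yd6 zd11) (kd xd12 yd21 zd31) (kd xd28 yd0 zd35) (kd xd12 yd21 zd32) (kd xd21 yd21 zd45) (kd xd21 yd32 zd35) (kd xd30 yd2 zd19) (kd xd12 yd21 zd34) (kd xd25 yd2 zd34) (kd xd12 yd21 zd35) (kd xd27 yd4 zd40) (kd xd12 yd21 zd37) (kd xd30 yd2 zd24) (kd xd19 yd14 zd47) (kd xd12 yd21 zd39) (kd xd12 yd21 zd40) (kd xd23 yd50 zd46) (kd xd21 yd18 zd48) (kd xd23 yd46 zd59) (kd xd12 yd21 zd42) (kd xd30 yd2 zd31) (kd xd12 yd21 zd43) (kd xd18 yd24 zd60) (kd xd27 yd57 zd3) (kd xd21 yd35 zd0) (kd xd22 yd37 zd13) (kd xd22 yd10 zd21) (kd xd12 yd21 zd49) (kd xd24 yd7 zd56) (kd xd23 yd20 zd37) (kd xd16 yd13 zd28) (kd xd13 yd42 zd48) (kd xd18 yd36 zd54) (kd xd16 yd33 zd48) (kd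 xd16 yd32 zd13) (kd xd17 yd46 zd36) (kd xd22 yd30 zd56) (kd xd18 yd56 zd60) (kd xd12 yd21 zd60) (kd xd20 yd35 zd56) (kd xd28 yd24 zd39) (kd xd26 yd27 zd51) (kd xd12 yd22 zd0) (kd xd21 yd16 zd15) (kd xd16 yd35 zd34) (kd xd28 yd5 zd37) (kd xd18 yd36 zd52) (kd xd18 yd36 zd47) (kd xd12 yd22 zd7) (kd xd23 yd7 zd21) (kd xd26 yd48 zd40) (kd xd28 yd47 zd21) (kd xd15 yd49 zd19) (kd xd12 yd37 zd43) (kd xd26 yd10 zd23) (kd xd26 yd10 zd24) (kd xd30 yd2 zd38)) (@D3.rec (fun _ => Pt) (kd xd12 yd22 zd16) (kd xd21 yd37 zd28) (kd xd15 yd10 zd54) (kd xd12 yd22 zd22) (kd xd18 yd44 zd29) (kd xd12 yd22 zd23) (kd xd24 yd31 zd0) (kd xd24 yd30 zd56) (kd xd12 yd22 zd25) (kd xd30 yd2 zd40) (kd xd23 yd25 zd14) (kd xd21 yd12 zd32) (kd xd24 yd42 zd35) (kd xd21 yd12 zd33) (kd xd30 yd2 zd42) (kd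 xd30 yd2 zd45) (kd xd30 yd2 zd46) (kd xd12 yd22 zd32) (kd xd16 yd27 zd2) (kd xd15 yd54 zd12) (kd xd26 yd24 zd12) (kd xd12 yd22 zd36) (kd xd18 yd18 zd34) (kd xd15 yd10 zd34) (kd xd15 yd10 zd35) (kd xd12 yd22 zd38) (kd xd27 yd57 zd28) (kd xd29 yd55 zd24) (kd xd12 yd22 zd39) (kd xd12 yd22 zd40) (kd xd30 yd2 zd55) (kd xd12 yd22 zd43) (kd xd30 yd2 zd56) (kd xd12 yd22 zd44) (kd xd23 yd22 zd51) (kd xd27 yd41 zd41) (kd xd30 yd2 zd57) (kd xd12 yd22 zd47) (kd xd16 yd19 zd56) (kd xd30 yd2 zd59) (kd xd12 yd22 zd48) (kd xd18 yd40 zd61) (kd xd17 yd15 zd16) (kd xd17 yd15 zd19) (kd xd18 yd40 zd60) (kd xd12 yd22 zd52) (kd xd30 yd3 zd3) (kd xd15 yd29 zd41) (kd xd12 yd22 zd53) (kd xd12 yd22 zd54) (kd xd22 yd29 zd0) (kd xd18 yd2 zd57) (kd xd27 yd39 zd12) (kd xd12 yd22 zd57) (kd xd30 yd3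 zd6) (kd xd28 yd31 zd28) (kd xd12 yd22 zd58) (kd xd12 yd22 zd59) (kd xd30 yd3 zd10) (kd xd12 yd22 zd61) (kd xd12 yd23 zd3) (kd xd30 yd3 zd12)) (@D3.rec (fun _ => Pt) (kd xd12 yd23 zd5) (kd xd30 yd3 zd15) (kd xd23 yd14 zd16) (kd xd12 yd23 zd6) (kd xd16 yd27 zd39) (kd xd18 yd18 zd37) (kd xd22 yd53 zd50) (kd xd30 yd3 zd16) (kd xd12 yd23 zd9) (kd xd30 yd3 zd17) (kd xd16 yd59 zd31) (kd xd12 yd23 zd12) (kd xd23 yd30 zd61) (kd xd12 yd23 zd13) (kd xd12 yd23 zd14) (kd xd29 yd54 zd58) (kd xd15 yd47 zd41) (kd xd12 yd23 zd18) (kd xd12 yd23 zd19) (kd xd17 yd7 zd37) (kd xd24 yd50 zd36) (kd xd12 yd23 zd22) (kd xd27 yd4 zd20) (kd xd12 yd23 zd26) (kd xd12 yd23 zd27) (kd xd16 yd33 zd14) (kd xd12 yd23 zd28) (kd xd21 yd7 zd26) (kd xd20 yd2 zd1) (kd xd21 yd1 zd2) (kd xd12 yd23 zd30) (kd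 xd12 yd23 zd31) (kd xd19 yd23 zd53) (kd xd29 yd12 zd36) (kd xd29 yd12 zd37) (kd xd15 yd55 zd36) (kd xd12 yd23 zd33) (kd xd25 yd48 zd58) (kd xd14 yd33 zd50) (kd xd29 yd8 zd21) (kd xd12 yd23 zd35) (kd xd30 yd3 zd21) (kd xd13 yd50 zd50) (kd xd14 yd45 zd34) (kd xd23 yd8 zd41) (kd xd26 yd31 zd32) (kd xd30 yd3 zd22) (kd xd29 yd12 zd16) (kd xd12 yd23 zd50) (kd xd17 yd53 zd2) (kd xd14 yd53 zd41) (kd xd26 yd19 zd4) (kd xd27 yd51 zd20) (kd xd27 yd29 zd43) (kd xd20 yd0 zd38) (kd xd18 yd20 zd39) (kd xd26 yd50 zd37) (kd xd30 yd3 zd24) (kd xd27 yd31 zd11) (kd xd12 yd24 zd16) (kd xd21 yd26 zd27) (kd xd17 yd58 zd44)) (@D3.rec (fun _ => Pt) (kd xd12 yd58 zd47) (kd xd12 yd34 zd43) (kd xd18 yd57 zd23) (kd xd12 yd35 zd15) (kd xd28 yd58 zd27) (kd xd23 yd47 zd4) (kd xd22 yd3 zd37) (kd xd29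 yd30 zd56) (kd xd28 yd10 zd7) (kd xd27 yd20 zd29) (kd xd23 yd23 zd60) (kd xd18 yd15 zd28) (kd xd18 yd20 zd51) (kd xd17 yd48 zd18) (kd xd28 yd3 zd32) (kd xd17 yd48 zd17) (kd xd26 yd4 zd25) (kd xd18 yd15 zd24) (kd xd23 yd52 zd35) (kd xd23 yd52 zd36) (kd xd13 yd55 zd14) (kd xd28 yd6 zd42) (kd xd25 yd2 zd42) (kd xd23 yd23 zd58) (kd xd23 yd23 zd59) (kd xd18 yd37 zd34) (kd xd22 yd12 zd44) (kd xd28 yd7 zd4) (kd xd27 yd40 zd29) (kd xd27 yd38 zd51) (kd xd30 yd3 zd33) (kd xd30 yd3 zd34) (kd xd23 yd39 zd46) (kd xd12 yd24 zd39) (kd xd18 yd57 zd5) (kd xd21 yd8 zd16) (kd xd12 yd24 zd40) (kd xd18 yd24 zd1) (kd xd18 yd24 zd2) (kd xd28 yd3 zd51) (kd xd30 yd3 zd39) (kd xd12 yd24 zd44) (kd xd12 yd24 zd50) (kd xd12 yd24 zd51) (kd xd19 yd27 zd44) (kd xd30 yd3 zd41) (kd xd27 yd6 zd12) (kd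 xd22 yd8 zd17) (kd xd30 yd3 zd44) (kd xd12 yd24 zd55) (kd xd21 yd36 zd60) (kd xd12 yd24 zd56) (kd xd21 yd32 zd15) (kd xd12 yd30 zd35) (kd xd30 yd3 zd47) (kd xd26 yd16 zd35) (kd xd16 yd19 zd10) (kd xd23 yd52 zd56) (kd xd18 yd43 zd24) (kd xd20 yd28 zd30) (kd xd12 yd25 zd6) (kd xd14 yd42 zd18)) (@D3.rec (fun _ => Pt) (kd xd16 yd9 zd25) (kd xd26 yd4 zd12) (kd xd12 yd25 zd9) (kd xd12 yd26 zd22) (kd xd12 yd26 zd23) (kd xd21 yd33 zd20) (kd xd12 yd25 zd11) (kd xd12 yd58 zd41) (kd xd22 yd3 zd4) (kd xd21 yd44 zd33) (kd xd28 yd58 zd58) (kd xd17 yd31 zd1) (kd xd17 yd31 zd2) (kd xd22 yd36 zd21) (kd xd12 yd53 zd57) (kd xd21 yd31 zd52) (kd xd21 yd25 zd56) (kd xd26 yd4 zd4) (kd xd30 yd3 zd55) (kd xd12 yd25 zd16) (kd xd22 yd15 zd59) (kd xd18 yd38 zd24) (kd xd12 yd25 zd21) (kd xd12 yd25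 zd22) (kd xd21 yd44 zd56) (kd xd22 yd42 zd35) (kd xd12 yd25 zd24) (kd xd20 yd34 zd14) (kd xd20 yd27 zd44) (kd xd30 yd3 zd59) (kd xd21 yd6 zd57) (kd xd12 yd25 zd28) (kd xd30 yd3 zd61) (kd xd18 yd0 zd38) (kd xd14 yd49 zd45) (kd xd21 yd28 zd10) (kd xd14 yd11 zd20) (kd xd24 yd57 zd7) (kd xd28 yd13 zd59) (kd xd29 yd27 zd4) (kd xd26 yd29 zd41) (kd xd26 yd56 zd42) (kd xd12 yd25 zd39) (kd xd12 yd25 zd40) (kd xd20 yd22 zd15) (kd xd17 yd12 zd14) (kd xd16 yd53 zd47) (kd xd12 yd25 zd50) (kd xd26 yd15 zd33) (kd xd27 yd24 zd48) (kd xd30 yd4 zd0) (kd xd12 yd25 zd53) (kd xd27 yd31 zd45) (kd xd22 yd15 zd34) (kd xd16 yd48 zd52) (kd xd22 yd11 zd28) (kd xd13 yd52 zd48) (kd xd23 yd1 zd45) (kd xd18 yd37 zd47) (kd xd27 yd56 zd22) (kd xd29 yd0 zd37) (kd xd30 yd4 zd3)) (@D3.rec (fun _ => Pt)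 (kd xd12 yd26 zd4) (kd xd24 yd42 zd12) (kd xd30 yd4 zd4) (kd xd12 yd26 zd6) (kd xd29 yd22 zd42) (kd xd30 yd4 zd7) (kd xd12 yd26 zd7) (kd xd18 yd50 zd33) (kd xd12 yd26 zd9) (kd xd12 yd39 zd21) (kd xd12 yd26 zd11) (kd xd29 yd19 zd42) (kd xd29 yd22 zd13) (kd xd27 yd43 zd11) (kd xd28 yd58 zd56) (kd xd12 yd26 zd13) (kd xd21 yd18 zd28) (kd xd12 yd47 zd13) (kd xd12 yd35 zd56) (kd xd21 yd50 zd58) (kd xd21 yd32 zd5) (kd xd12 yd26 zd17) (kd xd12 yd26 zd16) (kd xd17 yd9 zd36) (kd xd29 yd19 zd43) (kd xd21 yd42 zd11) (kd xd12 yd26 zd18) (kd xd17 yd57 zd60) (kd xd16 yd59 zd52) (kd xd12 yd26 zd20) (kd xd17 yd57 zd57) (kd xd17 yd14 zd4) (kd xd30 yd3 zd51) (kd xd14 yd21 zd42) (kd xd17 yd4 zd2) (kd xd17 yd4 zd3) (kd xd16 yd47 zd61) (kd xd12 yd52 zd41) (kd xd23 yd2 zd2) (kd xd22 yd28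 zd27) (kd xd22 yd11 zd14) (kd xd12 yd26 zd31) (kd xd22 yd42 zd15) (kd xd18 yd30 zd7) (kd xd18 yd26 zd44) (kd xd29 yd58 zd48) (kd xd29 yd58 zd49) (kd xd13 yd13 zd52) (kd xd23 yd17 zd61) (kd xd27 yd26 zd25) (kd xd30 yd0 zd60) (kd xd30 yd0 zd61) (kd xd23 yd44 zd35) (kd xd25 yd10 zd58) (kd xd24 yd31 zd22) (kd xd12 yd26 zd40) (kd xd25 yd32 zd46) (kd xd21 yd17 zd46) (kd xd12 yd50 zd5) (kd xd22 yd11 zd48) (kd xd22 yd11 zd49) (kd xd17 yd12 zd46)) (@D3.rec (fun _ => Pt) (kd xd20 yd5 zd31) (kd xd27 yd45 zd51) (kd xd12 yd26 zd47) (kd xd27 yd25 zd53) (kd xd17 yd45 zd15) (kd xd14 yd9 zd31) (kd xd12 yd26 zd50) (kd xd26 yd5 zd50) (kd xd12 yd26 zd53) (kd xd12 yd26 zd54) (kd xd12 yd43 zd27) (kd xd18 yd17 zd4) (kd xd30 yd0 zd38) (kd xd30 yd0 zd39) (kd xd29 yd58 zd28) (kd xd27 yd18 zd36)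 (kd xd29 yd57 zd39) (kd xd30 yd4 zd29) (kd xd12 yd27 zd0) (kd xd29 yd52 zd5) (kd xd30 yd0 zd26) (kd xd27 yd58 zd8) (kd xd30 yd3 zd1) (kd xd12 yd27 zd2) (kd xd22 yd38 zd17) (kd xd12 yd27 zd4) (kd xd24 yd38 zd17) (kd xd12 yd27 zd8) (kd xd23 yd39 zd11) (kd xd12 yd27 zd9) (kd xd22 yd38 zd12) (kd xd30 yd4 zd43) (kd xd12 yd27 zd11) (kd xd24 yd38 zd26) (kd xd30 yd4 zd45) (kd xd12 yd27 zd12) (kd xd12 yd27 zd13) (kd xd22 yd28 zd16) (kd xd29 yd59 zd34) (kd xd30 yd4 zd52) (kd xd30 yd4 zd55) (kd xd29 yd59 zd38) (kd xd30 yd4 zd57) (kd xd12 yd27 zd17) (kd xd15 yd48 zd43) (kd xd12 yd35 zd29) (kd xd22 yd59 zd8) (kd xd12 yd27 zd21) (kd xd28 yd53 zd60) (kd xd12 yd36 zd39) (kd xd19 yd5 zd26) (kd xd12 yd27 zd23) (kd xd21 yd52 zd0) (kd xd28 yd9 zd56) (kd xd18 yd39 zd26) (kd xd21 yd19 zd47)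 (kd xd21 yd26 zd35) (kd xd18 yd24 zd10) (kd xd28 yd3 zd55) (kd xd28 yd3 zd60) (kd xd17 yd30 zd58) (kd xd19 yd24 zd53)) (@D3.rec (fun _ => Pt) (kd xd21 yd28 zd29) (kd xd17 yd33 zd25) (kd xd20 yd51 zd46) (kd xd27 yd56 zd36) (kd xd21 yd7 zd22) (kd xd24 yd22 zd33) (kd xd23 yd49 zd28) (kd xd21 yd53 zd12) (kd xd12 yd45 zd58) (kd xd12 yd28 zd3) (kd xd21 yd7 zd21) (kd xd29 yd1 zd14) (kd xd12 yd28 zd8) (kd xd17 yd31 zd26) (kd xd20 yd42 zd47) (kd xd14 yd11 zd15) (kd xd21 yd20 zd25) (kd xd20 yd3 zd23) (kd xd12 yd28 zd28) (kd xd29 yd48 zd51) (kd xd12 yd28 zd29) (kd xd21 yd20 zd52) (kd xd30 yd5 zd3) (kd xd24 yd32 zd47) (kd xd17 yd15 zd59) (kd xd12 yd52 zd22) (kd xd23 yd47 zd14) (kd xd12 yd51 zd61) (kd xd12 yd51 zd22) (kd xd12 yd45 zd6) (kd xd21 yd44 zd31) (kd xd12 yd38 zd4) (kd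 xd18 yd32 zd46) (kd xd21 yd7 zd49) (kd xd17 yd4 zd45) (kd xd21 yd44 zd57) (kd xd27 yd3 zd17) (kd xd19 yd7 zd37) (kd xd17 yd33 zd51) (kd xd12 yd59 zd47) (kd xd23 yd6 zd26) (kd xd12 yd59 zd44) (kd xd21 yd45 zd54) (kd xd29 yd25 zd30) (kd xd12 yd28 zd59) (kd xd12 yd47 zd28) (kd xd21 yd47 zd16) (kd xd21 yd47 zd30) (kd xd21 yd48 zd12) (kd xd12 yd47 zd8) (kd xd12 yd29 zd1) (kd xd12 yd39 zd59) (kd xd12 yd46 zd28) (kd xd21 yd54 zd17) (kd xd19 yd42 zd49) (kd xd21 yd57 zd60) (kd xd12 yd29 zd9) (kd xd15 yd46 zd38) (kd xd25 yd59 zd2) (kd xd12 yd29 zd16) (kd xd21 yd57 zd38) (kd xd29 yd37 zd49)) (@D3.rec (fun _ => Pt) (kd xd21 yd57 zd39) (kd xd20 yd15 zd12) (kd xd25 yd7 zd50) (kd xd30 yd4 zd23) (kd xd12 yd29 zd20) (kd xd29 yd9 zd15) (kd xd17 yd43 zd57) (kd xd21 yd2 zd60) (kd xd26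 yd15 zd10) (kd xd12 yd29 zd30) (kd xd20 yd45 zd3) (kd xd21 yd22 zd7) (kd xd23 yd30 zd17) (kd xd27 yd43 zd8) (kd xd20 yd24 zd60) (kd xd20 yd24 zd61) (kd xd12 yd47 zd35) (kd xd21 yd38 zd49) (kd xd18 yd50 zd11) (kd xd12 yd38 zd35) (kd xd12 yd47 zd40) (kd xd17 yd34 zd56) (kd xd21 yd58 zd42) (kd xd14 yd36 zd27) (kd xd17 yd52 zd31) (kd xd12 yd29 zd36) (kd xd30 yd5 zd19) (kd xd14 yd38 zd19) (kd xd12 yd29 zd39) (kd xd20 yd15 zd7) (kd xd12 yd29 zd41) (kd xd14 yd34 zd43) (kd xd20 yd23 zd45) (kd xd19 yd46 zd48) (kd xd18 yd2 zd13) (kd xd12 yd29 zd57) (kd xd28 yd11 zd39) (kd xd19 yd39 zd23) (kd xd27 yd50 zd37) (kd xd23 yd53 zd29) (kd xd15 yd4 zd10) (kd xd13 yd2 zd16) (kd xd13 yd2 zd21) (kd xd29 yd27 zd59) (kd xd29 yd27 zd60) (kd xd12 yd30 zd7) (kd xd18 yd37 zd13) (kd xd20 yd42 zd25)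 (kd xd20 yd26 zd11) (kd xd18 yd10 zd10) (kd xd20 yd42 zd0) (kd xd12 yd30 zd24) (kd xd12 yd30 zd25) (kd xd12 yd30 zd26) (kd xd28 yd55 zd1) (kd xd24 yd1 zd26) (kd xd24 yd41 zd16) (kd xd12 yd30 zd31) (kd xd27 yd9 zd10) (kd xd12 yd30 zd34) (kd xd21 yd31 zd50) (kd xd24 yd32 zd39)) (@D3.rec (fun _ => Pt) (kd xd12 yd30 zd36) (kd xd12 yd30 zd38) (kd xd22 yd15 zd8) (kd xd22 yd15 zd9) (kd xd23 yd21 zd58) (kd xd25 yd15 zd57) (kd xd16 yd14 zd60) (kd xd27 yd31 zd26) (kd xd12 yd30 zd40) (kd xd27 yd25 zd60) (kd xd30 yd5 zd25) (kd xd24 yd55 zd55) (kd xd12 yd30 zd42) (kd xd17 yd40 zd46) (kd xd14 yd2 zd45) (kd xd24 yd56 zd25) (kd xd17 yd58 zd0) (kd xd26 yd46 zd46) (kd xd12 yd30 zd53) (kd xd18 yd15 zd13) (kd xd18 yd50 zd9) (kd xd29 yd30 zd20) (kd xd29 yd54 zd29) (kd xd29 yd30 zd19) (kd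 xd12 yd49 zd45) (kd xd17 yd13 zd6) (kd xd23 yd37 zd37) (kd xd19 yd52 zd41) (kd xd21 yd29 zd1) (kd xd28 yd57 zd49) (kd xd16 yd50 zd47) (kd xd12 yd31 zd22) (kd xd18 yd45 zd25) (kd xd12 yd31 zd24) (kd xd29 yd22 zd58) (kd xd25 yd44 zd25) (kd xd27 yd9 zd14) (kd xd19 yd33 zd12) (kd xd30 yd5 zd30) (kd xd12 yd31 zd34) (kd xd18 yd25 zd51) (kd xd29 yd43 zd45) (kd xd21 yd9 zd47) (kd xd26 yd40 zd40) (kd xd18 yd43 zd38) (kd xd27 yd39 zd19) (kd xd29 yd6 zd41) (kd xd29 yd47 zd61) (kd xd15 yd5 zd18) (kd xd29 yd12 zd42) (kd xd29 yd25 zd60) (kd xd19 yd43 zd24) (kd xd12 yd31 zd49) (kd xd24 yd36 zd31) (kd xd30 yd5 zd32) (kd xd12 yd31 zd50) (kd xd23 yd26 zd27) (kd xd15 yd27 zd7) (kd xd12 yd31 zd54) (kd xd23 yd27 zd44) (kd xd21 yd57 zd45) (kd xd12 yd31 zd58)) (@D3.rec (fun _ => Pt) (kd xd21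 yd26 zd24) (kd xd21 yd58 zd0) (kd xd29 yd38 zd55) (kd xd12 yd32 zd1) (kd xd24 yd31 zd25) (kd xd12 yd32 zd3) (kd xd18 yd14 zd16) (kd xd21 yd38 zd8) (kd xd21 yd38 zd7) (kd xd24 yd56 zd57) (kd xd30 yd5 zd35) (kd xd12 yd32 zd11) (kd xd24 yd55 zd42) (kd xd12 yd32 zd15) (kd xd21 yd51 zd28) (kd xd20 yd33 zd5) (kd xd23 yd43 zd1) (kd xd20 yd0 zd27) (kd xd12 yd32 zd17) (kd xd13 yd1 zd61) (kd xd26 yd23 zd7) (kd xd18 yd56 zd48) (kd xd12 yd32 zd22) (kd xd21 yd42 zd14) (kd xd12 yd32 zd30) (kd xd28 yd18 zd59) (kd xd30 yd5 zd37) (kd xd12 yd32 zd31) (kd xd17 yd11 zd10) (kd xd17 yd3 zd21) (kd xd17 yd25 zd54) (kd xd17 yd20 zd22) (kd xd14 yd36 zd29) (kd xd27 yd7 zd13) (kd xd21 yd38 zd54) (kd xd17 yd27 zd8) (kd xd30 yd5 zd50) (kd xd12 yd32 zd35) (kd xd29 yd2 zd29) (kd xd18 yd13 zd39) (kd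 xd18 yd44 zd54) (kd xd18 yd20 zd23) (kd xd27 yd6 zd8) (kd xd27 yd7 zd12) (kd xd22 yd7 zd20) (kd xd17 yd28 zd57) (kd xd19 yd20 zd41) (kd xd16 yd48 zd28) (kd xd29 yd35 zd19) (kd xd21 yd36 zd17) (kd xd21 yd10 zd1) (kd xd18 yd50 zd6) (kd xd12 yd32 zd57) (kd xd17 yd20 zd21) (kd xd21 yd38 zd34) (kd xd16 yd1 zd58) (kd xd18 yd50 zd37) (kd xd19 yd10 zd53) (kd xd17 yd52 zd37) (kd xd27 yd41 zd33) (kd xd12 yd33 zd2) (kd xd19 yd10 zd51)) (@D3.rec (fun _ => Pt) (kd xd30 yd6 zd6) (kd xd12 yd33 zd4) (kd xd30 yd6 zd9) (kd xd30 yd6 zd10) (kd xd12 yd33 zd5) (kd xd30 yd6 zd7) (kd xd12 yd33 zd8) (kd xd23 yd7 zd3) (kd xd12 yd33 zd10) (kd xd27 yd7 zd24) (kd xd22 yd22 zd30) (kd xd25 yd34 zd28) (kd xd14 yd41 zd15) (kd xd20 yd49 zd53) (kd xd30 yd6 zd20) (kd xd12 yd33 zd15) (kd xd28 yd47 zd24)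 (kd xd30 yd6 zd24) (kd xd30 yd6 zd25) (kd xd19 yd36 zd18) (kd xd24 yd38 zd46) (kd xd24 yd38 zd47) (kd xd29 yd4 zd16) (kd xd19 yd37 zd10) (kd xd28 yd57 zd51) (kd xd24 yd8 zd47) (kd xd12 yd33 zd19) (kd xd25 yd34 zd8) (kd xd30 yd6 zd27) (kd xd12 yd33 zd22) (kd xd19 yd16 zd12) (kd xd27 yd43 zd52) (kd xd12 yd33 zd24) (kd xd28 yd44 zd48) (kd xd25 yd33 zd6) (kd xd30 yd6 zd33) (kd xd12 yd33 zd25) (kd xd25 yd9 zd8) (kd xd30 yd6 zd37) (kd xd12 yd33 zd27) (kd xd25 yd9 zd7) (kd xd14 yd27 zd49) (kd xd12 yd33 zd28) (kd xd23 yd55 zd13) (kd xd12 yd33 zd29) (kd xd21 yd5 zd18) (kd xd21 yd5 zd19) (kd xd23 yd5 zd24) (kd xd14 yd44 zd33) (kd xd15 yd32 zd55) (kd xd21 yd5 zd6) (kd xd28 yd14 zd1) (kd xd12 yd33 zd34) (kd xd17 yd21 zd11) (kd xd12 yd54 zd1) (kd xd12 yd33 zd36) (kd xd20 yd30 zd40)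 (kd xd17 yd22 zd50) (kd xd12 yd33 zd43) (kd xd12 yd33 zd45) (kd xd24 yd21 zd21) (kd xd12 yd33 zd48)) (@D3.rec (fun _ => Pt) (kd xd25 yd29 zd15) (kd xd15 yd57 zd13) (kd xd30 yd6 zd53) (kd xd28 yd57 zd42) (kd xd12 yd33 zd56) (kd xd27 yd9 zd45) (kd xd15 yd25 zd50) (kd xd24 yd15 zd25) (kd xd17 yd19 zd52) (kd xd17 yd19 zd51) (kd xd23 yd14 zd24) (kd xd12 yd33 zd60) (kd xd16 yd25 zd21) (kd xd25 yd51 zd51) (kd xd14 yd52 zd10) (kd xd14 yd52 zd9) (kd xd26 yd36 zd47) (kd xd12 yd34 zd2) (kd xd30 yd4 zd38) (kd xd28 yd30 zd40) (kd xd12 yd34 zd3) (kd xd24 yd30 zd10) (kd xd17 yd24 zd13) (kd xd14 yd25 zd55) (kd xd12 yd34 zd8) (kd xd14 yd34 zd23) (kd xd22 yd0 zd41) (kd xd12 yd34 zd10) (kd xd12 yd51 zd44) (kd xd26 yd5 zd41) (kd xd27 yd54 zd11) (kd xd20 yd15 zd55) (kd xd14 yd24 zd13) (kd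 xd12 yd34 zd18) (kd xd29 yd59 zd51) (kd xd30 yd7 zd5) (kd xd30 yd7 zd6) (kd xd12 yd34 zd19) (kd xd17 yd9 zd58) (kd xd23 yd31 zd4) (kd xd12 yd34 zd20) (kd xd29 yd51 zd46) (kd xd18 yd26 zd6) (kd xd25 yd22 zd16) (kd xd12 yd34 zd22) (kd xd16 yd1 zd42) (kd xd12 yd38 zd23) (kd xd24 yd21 zd56) (kd xd12 yd34 zd25) (kd xd21 yd22 zd3) (kd xd14 yd55 zd38) (kd xd23 yd24 zd5) (kd xd23 yd37 zd19) (kd xd12 yd34 zd30) (kd xd30 yd7 zd15) (kd xd12 yd34 zd32) (kd xd23 yd21 zd17) (kd xd30 yd7 zd16) (kd xd12 yd34 zd35) (kd xd21 yd6 zd3) (kd xd21 yd6 zd4) (kd xd23 yd15 zd56)) (@D3.rec (fun _ => Pt) (kd xd23 yd11 zd37) (kd xd22 yd45 zd56) (kd xd13 yd19 zd18) (kd xd14 yd43 zd6) (kd xd18 yd20 zd42) (kd xd25 yd31 zd32) (kd xd21 yd43 zd8) (kd xd12 yd34 zd44) (kd xd27 yd2 zd58) (kd xd25 yd45 zd49)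 (kd xd21 yd42 zd37) (kd xd12 yd34 zd47) (kd xd30 yd7 zd27) (kd xd30 yd7 zd28) (kd xd24 yd23 zd28) (kd xd12 yd34 zd52) (kd xd24 yd24 zd45) (kd xd12 yd34 zd53) (kd xd30 yd7 zd25) (kd xd12 yd34 zd54) (kd xd22 yd57 zd10) (kd xd30 yd7 zd30) (kd xd12 yd34 zd55) (kd xd22 yd58 zd43) (kd xd14 yd21 zd26) (kd xd14 yd21 zd27) (kd xd30 yd7 zd33) (kd xd18 yd0 zd60) (kd xd21 yd26 zd19) (kd xd12 yd35 zd1) (kd xd12 yd35 zd4) (kd xd21 yd41 zd51) (kd xd14 yd36 zd42) (kd xd12 yd35 zd6) (kd xd21 yd41 zd54) (kd xd30 yd7 zd34) (kd xd18 yd17 zd50) (kd xd30 yd7 zd35) (kd xd12 yd35 zd16) (kd xd21 yd50 zd51) (kd xd30 yd7 zd36) (kd xd21 yd55 zd25) (kd xd18 yd17 zd3) (kd xd20 yd17 zd32) (kd xd14 yd37 zd22) (kd xd28 yd53 zd45) (kd xd12 yd35 zd23) (kd xd20 yd40 zd21) (kd xd12 yd35 zd25) (kd xd21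 yd45 zd50) (kd xd24 yd2 zd55) (kd xd21 yd41 zd31) (kd xd24 yd53 zd55) (kd xd12 yd35 zd27) (kd xd21 yd41 zd34) (kd xd18 yd6 zd42) (kd xd12 yd39 zd44) (kd xd18 yd7 zd44) (kd xd18 yd57 zd58) (kd xd12 yd35 zd32) (kd xd30 yd3 zd38) (kd xd27 yd45 zd60)) (@D3.rec (fun _ => Pt) (kd xd18 yd3 zd31) (kd xd14 yd15 zd21) (kd xd12 yd46 zd27) (kd xd17 yd39 zd56) (kd xd27 yd29 zd28) (kd xd23 yd46 zd51) (kd xd27 yd27 zd21) (kd xd19 yd23 zd25) (kd xd23 yd58 zd47) (kd xd21 yd22 zd6) (kd xd30 yd6 zd0) (kd xd21 yd33 zd25) (kd xd21 yd22 zd32) (kd xd21 yd42 zd24) (kd xd21 yd38 zd23) (kd xd27 yd45 zd10) (kd xd18 yd5 zd61) (kd xd28 yd33 zd17) (kd xd12 yd35 zd55) (kd xd21 yd44 zd6) (kd xd21 yd44 zd29) (kd xd26 yd41 zd59) (kd xd19 yd10 zd58) (kd xd21 yd43 zd48) (kd xd21 yd42 zd13) (kd xd30 yd7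 zd38) (kd xd30 yd7 zd39) (kd xd18 yd2 zd28) (kd xd25 yd44 zd55) (kd xd23 yd47 zd32) (kd xd12 yd36 zd10) (kd xd12 yd36 zd11) (kd xd12 yd36 zd12) (kd xd14 yd46 zd53) (kd xd14 yd46 zd55) (kd xd12 yd36 zd14) (kd xd17 yd57 zd43) (kd xd21 yd41 zd10) (kd xd29 yd43 zd26) (kd xd21 yd47 zd43) (kd xd12 yd36 zd22) (kd xd21 yd23 zd52) (kd xd12 yd36 zd24) (kd xd16 yd52 zd30) (kd xd29 yd1 zd1) (kd xd24 yd34 zd8) (kd xd24 yd14 zd53) (kd xd25 yd45 zd52) (kd xd12 yd36 zd33) (kd xd12 yd36 zd34) (kd xd22 yd8 zd30) (kd xd15 yd17 zd8) (kd xd21 yd50 zd9) (kd xd21 yd50 zd10) (kd xd17 yd13 zd48) (kd xd17 yd21 zd38) (kd xd27 yd6 zd40) (kd xd12 yd36 zd44) (kd xd12 yd40 zd34) (kd xd12 yd41 zd46) (kd xd12 yd36 zd46) (kd xd27 yd10 zd61)) (@D3.rec (fun _ => Pt) (kd xd12 yd36 zd48) (kd xd30 yd7 zd44)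 (kd xd12 yd36 zd50) (kd xd13 yd15 zd17) (kd xd13 yd15 zd18) (kd xd12 yd40 zd5) (kd xd13 yd51 zd28) (kd xd12 yd36 zd54) (kd xd21 yd41 zd6) (kd xd15 yd20 zd3) (kd xd12 yd36 zd57) (kd xd14 yd34 zd52) (kd xd19 yd46 zd19) (kd xd12 yd36 zd59) (kd xd12 yd36 zd60) (kd xd21 yd21 zd55) (kd xd18 yd12 zd35) (kd xd19 yd10 zd41) (kd xd27 yd20 zd48) (kd xd30 yd7 zd51) (kd xd19 yd46 zd23) (kd xd12 yd37 zd2) (kd xd12 yd42 zd9) (kd xd12 yd40 zd6) (kd xd30 yd7 zd56) (kd xd12 yd37 zd4) (kd xd23 yd39 zd31) (kd xd12 yd37 zd5) (kd xd29 yd11 zd7) (kd xd12 yd37 zd6) (kd xd13 yd15 zd56) (kd xd12 yd41 zd45) (kd xd12 yd48 zd17) (kd xd12 yd37 zd9) (kd xd17 yd17 zd9) (kd xd12 yd37 zd12) (kd xd28 yd32 zd46) (kd xd12 yd37 zd14) (kd xd12 yd37 zd16) (kd xd12 yd37 zd17) (kd xd27 yd35 zd29) (kd xd23 yd47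 zd25) (kd xd23 yd47 zd20) (kd xd30 yd8 zd3) (kd xd12 yd42 zd14) (kd xd12 yd45 zd12) (kd xd28 yd57 zd19) (kd xd12 yd37 zd23) (kd xd21 yd42 zd23) (kd xd17 yd17 zd49) (kd xd30 yd8 zd8) (kd xd12 yd37 zd26) (kd xd28 yd1 zd11) (kd xd24 yd2 zd23) (kd xd29 yd47 zd10) (kd xd29 yd50 zd32) (kd xd24 yd14 zd25) (kd xd24 yd37 zd32) (kd xd12 yd37 zd32) (kd xd20 yd45 zd32) (kd xd20 yd53 zd15) (kd xd12 yd37 zd35)) (@D3.rec (fun _ => Pt) (kd xd20 yd53 zd14) (kd xd28 yd1 zd43) (kd xd27 yd32 zd39) (kd xd12 yd37 zd37) (kd xd12 yd37 zd38) (kd xd17 yd50 zd51) (kd xd21 yd42 zd19) (kd xd12 yd37 zd42) (kd xd14 yd27 zd7) (kd xd12 yd37 zd44) (kd xd15 yd59 zd4) (kd xd12 yd37 zd48) (kd xd20 yd52 zd26) (kd xd12 yd37 zd51) (kd xd12 yd37 zd52) (kd xd18 yd35 zd45) (kd xd24 yd7 zd26) (kd xd12 yd37 zd53)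 (kd xd18 yd57 zd46) (kd xd13 yd9 zd60) (kd xd21 yd8 zd6) (kd xd20 yd1 zd21) (kd xd18 yd36 zd21) (kd xd12 yd37 zd56) (kd xd12 yd37 zd57) (kd xd30 yd8 zd14) (kd xd29 yd50 zd0) (kd xd15 yd59 zd2) (kd xd12 yd37 zd59) (kd xd21 yd42 zd20) (kd xd30 yd7 zd10) (kd xd21 yd35 zd30) (kd xd12 yd38 zd1) (kd xd21 yd32 zd9) (kd xd12 yd38 zd3) (kd xd23 yd6 zd55) (kd xd21 yd6 zd56) (kd xd22 yd51 zd37) (kd xd14 yd59 zd16) (kd xd14 yd36 zd20) (kd xd17 yd0 zd13) (kd xd25 yd18 zd40) (kd xd12 yd38 zd11) (kd xd12 yd38 zd12) (kd xd18 yd50 zd25) (kd xd15 yd49 zd29) (kd xd21 yd59 zd51) (kd xd21 yd59 zd50) (kd xd12 yd38 zd15) (kd xd26 yd4 zd0) (kd xd16 yd34 zd49) (kd xd28 yd0 zd54) (kd xd16 yd13 zd27) (kd xd28 yd13 zd0) (kd xd26 yd28 zd6) (kd xd26 yd28 zd7) (kd xd21 yd32 zd24) (kd xd21 yd35 zd35)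 (kd xd12 yd38 zd26) (kd xd21 yd8 zd21) (kd xd27 yd45 zd14) (kd xd12 yd38 zd32)) (@D3.rec (fun _ => Pt) (kd xd21 yd45 zd1) (kd xd21 yd45 zd0) (kd xd29 yd59 zd7) (kd xd29 yd21 zd54) (kd xd12 yd38 zd51) (kd xd12 yd38 zd52) (kd xd12 yd39 zd56) (kd xd21 yd8 zd38) (kd xd12 yd38 zd55) (kd xd12 yd47 zd49) (kd xd24 yd22 zd19) (kd xd12 yd38 zd59) (kd xd12 yd40 zd17) (kd xd30 yd8 zd23) (kd xd12 yd38 zd61) (kd xd30 yd8 zd24) (kd xd12 yd39 zd0) (kd xd19 yd54 zd28) (kd xd12 yd39 zd1) (kd xd22 yd45 zd25) (kd xd24 yd19 zd58) (kd xd29 yd58 zd52) (kd xd12 yd39 zd2) (kd xd30 yd8 zd26) (kd xd15 yd42 zd37) (kd xd13 yd9 zd10) (kd xd21 yd6 zd2) (kd xd12 yd39 zd4) (kd xd27 yd42 zd49) (kd xd12 yd39 zd9) (kd xd12 yd39 zd10) (kd xd30 yd8 zd29) (kd xd17 yd29 zd0) (kd xd14 yd33 zd18) (kd xd15 yd54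 zd43) (kd xd12 yd39 zd24) (kd xd30 yd8 zd31) (kd xd28 yd43 zd2) (kd xd24 yd15 zd58) (kd xd30 yd8 zd32) (kd xd21 yd57 zd11) (kd xd15 yd54 zd51) (kd xd12 yd39 zd35) (kd xd23 yd3 zd50) (kd xd27 yd20 zd26) (kd xd12 yd39 zd36) (kd xd23 yd49 zd45) (kd xd25 yd17 zd15) (kd xd12 yd39 zd39) (kd xd18 yd0 zd32) (kd xd21 yd41 zd49) (kd xd21 yd20 zd17) (kd xd24 yd38 zd9) (kd xd20 yd12 zd58) (kd xd21 yd35 zd42) (kd xd21 yd6 zd60) (kd xd15 yd52 zd55) (kd xd24 yd20 zd0) (kd xd23 yd46 zd53) (kd xd19 yd15 zd1) (kd xd18 yd24 zd17) (kd xd28 yd53 zd58)) (@D3.rec (fun _ => Pt) (kd xd25 yd22 zd53) (kd xd25 yd13 zd7) (kd xd30 yd8 zd36) (kd xd12 yd39 zd49) (kd xd21 yd0 zd56) (kd xd28 yd56 zd28) (kd xd12 yd39 zd53) (kd xd29 yd46 zd41) (kd xd30 yd8 zd39) (kd xd12 yd39 zd55) (kd xd27 yd11 zd38)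 (kd xd14 yd29 zd17) (kd xd26 yd14 zd7) (kd xd12 yd39 zd58) (kd xd28 yd58 zd59) (kd xd26 yd37 zd24) (kd xd30 yd8 zd45) (kd xd12 yd39 zd61) (kd xd25 yd35 zd41) (kd xd20 yd12 zd59) (kd xd21 yd23 zd36) (kd xd12 yd40 zd1) (kd xd25 yd13 zd31) (kd xd25 yd13 zd27) (kd xd12 yd40 zd3) (kd xd15 yd54 zd61) (kd xd12 yd40 zd10) (kd xd15 yd17 zd23) (kd xd15 yd21 zd41) (kd xd24 yd34 zd21) (kd xd25 yd45 zd12) (kd xd24 yd2 zd20) (kd xd23 yd55 zd35) (kd xd25 yd41 zd36) (kd xd16 yd0 zd55) (kd xd25 yd26 zd59) (kd xd12 yd40 zd12) (kd xd12 yd40 zd13) (kd xd14 yd28 zd42) (kd xd30 yd8 zd48) (kd xd21 yd8 zd54) (kd xd21 yd56 zd30) (kd xd12 yd40 zd18) (kd xd29 yd57 zd42) (kd xd14 yd55 zd28) (kd xd14 yd55 zd29) (kd xd21 yd46 zd56) (kd xd17 yd29 zd21) (kd xd17 yd29 zd20) (kd xd21 yd49 zd26) (kd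 xd24 yd40 zd60) (kd xd24 yd40 zd59) (kd xd21 yd46 zd55) (kd xd12 yd40 zd25) (kd xd21 yd18 zd33) (kd xd21 yd46 zd52) (kd xd21 yd46 zd46) (kd xd12 yd40 zd29) (kd xd21 yd6 zd21) (kd xd12 yd40 zd31) (kd xd26 yd0 zd35) (kd xd23 yd23 zd13)) (@D3.rec (fun _ => Pt) (kd xd24 yd57 zd55) (kd xd25 yd2 zd24) (kd xd29 yd51 zd42) (kd xd21 yd6 zd28) (kd xd19 yd14 zd43) (kd xd27 yd20 zd13) (kd xd20 yd9 zd39) (kd xd12 yd40 zd43) (kd xd29 yd22 zd24) (kd xd12 yd40 zd46) (kd xd29 yd24 zd44) (kd xd27 yd56 zd21) (kd xd29 yd35 zd16) (kd xd12 yd40 zd48) (kd xd22 yd12 zd4) (kd xd29 yd21 zd52) (kd xd21 yd35 zd46) (kd xd12 yd40 zd57) (kd xd12 yd40 zd58) (kd xd20 yd46 zd18) (kd xd12 yd40 zd60) (kd xd21 yd7 zd4) (kd xd20 yd43 zd8) (kd xd12 yd41 zd0) (kd xd12 yd41 zd1) (kd xd18 yd0 zd31) (kd xd29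 yd42 zd26) (kd xd12 yd41 zd5) (kd xd12 yd41 zd6) (kd xd28 yd19 zd10) (kd xd21 yd35 zd47) (kd xd29 yd36 zd45) (kd xd29 yd35 zd17) (kd xd18 yd10 zd48) (kd xd30 yd8 zd19) (kd xd12 yd41 zd12) (kd xd12 yd41 zd13) (kd xd21 yd26 zd57) (kd xd30 yd9 zd10) (kd xd30 yd9 zd11) (kd xd12 yd41 zd14) (kd xd22 yd25 zd59) (kd xd29 yd22 zd46) (kd xd21 yd42 zd39) (kd xd30 yd9 zd13) (kd xd18 yd5 zd6) (kd xd17 yd41 zd57) (kd xd27 yd43 zd28) (kd xd24 yd19 zd57) (kd xd12 yd41 zd19) (kd xd20 yd9 zd38) (kd xd30 yd9 zd15) (kd xd20 yd13 zd47) (kd xd23 yd47 zd2) (kd xd12 yd41 zd21) (kd xd20 yd12 zd41) (kd xd30 yd9 zd18) (kd xd12 yd53 zd17) (kd xd14 yd36 zd34) (kd xd29 yd36 zd25) (kd xd23 yd49 zd47) (kd xd19 yd36 zd16)) (@D3.rec (fun _ => Pt) (kd xd19 yd38 zd23) (kd xd29 yd58 zd60) (kd xd12 yd41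 zd24) (kd xd29 yd16 zd53) (kd xd30 yd4 zd58) (kd xd12 yd41 zd26) (kd xd23 yd47 zd37) (kd xd23 yd47 zd38) (kd xd30 yd9 zd29) (kd xd20 yd44 zd7) (kd xd23 yd47 zd18) (kd xd21 yd22 zd11) (kd xd21 yd35 zd48) (kd xd30 yd9 zd30) (kd xd30 yd9 zd31) (kd xd30 yd9 zd32) (kd xd12 yd41 zd30) (kd xd30 yd9 zd34) (kd xd29 yd23 zd19) (kd xd21 yd18 zd47) (kd xd21 yd21 zd14) (kd xd12 yd41 zd32) (kd xd27 yd38 zd29) (kd xd30 yd9 zd38) (kd xd12 yd41 zd34) (kd xd30 yd9 zd41) (kd xd12 yd41 zd35) (kd xd30 yd9 zd43) (kd xd15 yd25 zd46) (kd xd14 yd48 zd36) (kd xd12 yd41 zd37) (kd xd13 yd25 zd51) (kd xd30 yd9 zd47) (kd xd12 yd41 zd39) (kd xd24 yd3 zd39) (kd xd15 yd48 zd17) (kd xd30 yd9 zd54) (kd xd12 yd41 zd41) (kd xd12 yd41 zd42) (kd xd23 yd40 zd50) (kd xd23 yd41 zd21) (kd xd30 yd9 zd60) (kd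 xd12 yd41 zd43) (kd xd23 yd26 zd56) (kd xd12 yd41 zd49) (kd xd19 yd46 zd17) (kd xd17 yd14 zd1) (kd xd30 yd10 zd7) (kd xd30 yd10 zd2) (kd xd30 yd10 zd8) (kd xd21 yd53 zd60) (kd xd30 yd5 zd10) (kd xd29 yd18 zd12) (kd xd12 yd41 zd51) (kd xd12 yd41 zd52) (kd xd12 yd41 zd53) (kd xd29 yd51 zd10) (kd xd30 yd10 zd14) (kd xd30 yd10 zd15) (kd xd12 yd41 zd56) (kd xd21 yd4 zd54) (kd xd17 yd30 zd44)) (@D3.rec (fun _ => Pt) (kd xd17 yd30 zd45) (kd xd24 yd21 zd8) (kd xd30 yd4 zd51) (kd xd30 yd10 zd23) (kd xd12 yd41 zd60) (kd xd30 yd8 zd22) (kd xd28 yd11 zd59) (kd xd28 yd11 zd56) (kd xd29 yd10 zd25) (kd xd12 yd42 zd0) (kd xd25 yd41 zd19) (kd xd30 yd10 zd29) (kd xd23 yd38 zd50) (kd xd23 yd39 zd30) (kd xd12 yd42 zd2) (kd xd21 yd22 zd24) (kd xd30 yd10 zd34) (kd xd12 yd42 zd4) (kd xd12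 yd42 zd5) (kd xd15 yd46 zd2) (kd xd15 yd45 zd7) (kd xd19 yd11 zd33) (kd xd21 yd6 zd43) (kd xd21 yd21 zd15) (kd xd21 yd19 zd28) (kd xd21 yd21 zd54) (kd xd21 yd46 zd49) (kd xd25 yd33 zd31) (kd xd16 yd0 zd33) (kd xd27 yd55 zd53) (kd xd28 yd13 zd17) (kd xd21 yd6 zd48) (kd xd13 yd56 zd21) (kd xd12 yd42 zd13) (kd xd12 yd42 zd17) (kd xd29 yd35 zd7) (kd xd12 yd42 zd19) (kd xd21 yd59 zd29) (kd xd28 yd35 zd60) (kd xd28 yd44 zd41) (kd xd28 yd24 zd2) (kd xd12 yd42 zd26) (kd xd14 yd16 zd43) (kd xd12 yd42 zd30) (kd xd22 yd10 zd59) (kd xd25 yd51 zd2) (kd xd12 yd42 zd31) (kd xd30 yd11 zd1) (kd xd21 yd58 zd18) (kd xd12 yd42 zd34) (kd xd30 yd11 zd3) (kd xd25 yd10 zd0) (kd xd18 yd50 zd27) (kd xd21 yd58 zd35) (kd xd20 yd14 zd21) (kd xd21 yd59 zd26) (kd xd21 yd59 zd25) (kd xd12 yd42 zd40)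 (kd xd29 yd51 zd54) (kd xd15 yd17 zd14) (kd xd12 yd45 zd40) (kd xd16 yd59 zd26)) (@D3.rec (fun _ => Pt) (kd xd28 yd48 zd15) (kd xd19 yd26 zd42) (kd xd30 yd11 zd4) (kd xd24 yd43 zd31) (kd xd25 yd54 zd0) (kd xd25 yd53 zd61) (kd xd26 yd1 zd2) (kd xd12 yd42 zd52) (kd xd30 yd8 zd42) (kd xd21 yd42 zd52) (kd xd21 yd42 zd53) (kd xd21 yd58 zd23) (kd xd12 yd42 zd54) (kd xd30 yd11 zd12) (kd xd12 yd42 zd57) (kd xd12 yd42 zd61) (kd xd12 yd43 zd1) (kd xd20 yd42 zd27) (kd xd16 yd17 zd55) (kd xd21 yd20 zd34) (kd xd17 yd50 zd32) (kd xd29 yd22 zd55) (kd xd28 yd58 zd54) (kd xd28 yd59 zd19) (kd xd12 yd43 zd11) (kd xd29 yd17 zd52) (kd xd15 yd59 zd13) (kd xd16 yd17 zd58) (kd xd16 yd17 zd51) (kd xd30 yd11 zd20) (kd xd12 yd43 zd16) (kd xd29 yd3 zd49) (kd xd12 yd43 zd17) (kd xd24 yd34 zd56)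 (kd xd13 yd58 zd6) (kd xd23 yd27 zd46) (kd xd12 yd43 zd18) (kd xd23 yd27 zd51) (kd xd24 yd16 zd31) (kd xd12 yd43 zd20) (kd xd25 yd35 zd43) (kd xd20 yd21 zd51) (kd xd21 yd19 zd33) (kd xd12 yd43 zd29) (kd xd23 yd58 zd37) (kd xd16 yd7 zd14) (kd xd20 yd34 zd55) (kd xd27 yd1 zd30) (kd xd12 yd43 zd39) (kd xd12 yd43 zd40) (kd xd27 yd38 zd6) (kd xd21 yd41 zd39) (kd xd24 yd48 zd51) (kd xd12 yd43 zd42) (kd xd20 yd51 zd47) (kd xd25 yd15 zd28) (kd xd12 yd43 zd45) (kd xd12 yd43 zd48) (kd xd21 yd33 zd19) (kd xd27 yd11 zd35) (kd xd23 yd36 zd15) (kd xd12 yd43 zd49)) (@D3.rec (fun _ => Pt) (kd xd22 yd2 zd39) (kd xd16 yd9 zd2) (kd xd12 yd43 zd51) (kd xd12 yd43 zd52) (kd xd25 yd23 zd50) (kd xd18 yd43 zd40) (kd xd12 yd43 zd54) (kd xd12 yd43 zd55) (kd xd17 yd9 zd48) (kd xd15 yd55 zd35)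 (kd xd21 yd7 zd48) (kd xd19 yd47 zd5) (kd xd12 yd43 zd61) (kd xd21 yd0 zd7) (kd xd25 yd16 zd60) (kd xd28 yd14 zd34) (kd xd26 yd9 zd21) (kd xd12 yd54 zd42) (kd xd12 yd44 zd4) (kd xd18 yd37 zd59) (kd xd12 yd44 zd5) (kd xd20 yd1 zd40) (kd xd12 yd44 zd9) (kd xd26 yd59 zd9) (kd xd12 yd44 zd10) (kd xd29 yd13 zd42) (kd xd12 yd44 zd13) (kd xd18 yd39 zd35) (kd xd21 yd38 zd14) (kd xd13 yd50 zd40) (kd xd12 yd44 zd16) (kd xd20 yd0 zd54) (kd xd18 yd25 zd24) (kd xd18 yd24 zd43) (kd xd12 yd44 zd19) (kd xd22 yd36 zd29) (kd xd25 yd36 zd54) (kd xd16 yd8 zd1) (kd xd22 yd58 zd60) (kd xd13 yd10 zd9) (kd xd22 yd52 zd7) (kd xd14 yd42 zd42) (kd xd13 yd16 zd44) (kd xd20 yd58 zd12) (kd xd25 yd45 zd42) (kd xd20 yd58 zd13) (kd xd15 yd36 zd36) (kd xd18 yd46 zd2) (kd xd13 yd31 zd5) (kd xd27 yd54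 zd33) (kd xd18 yd15 zd43) (kd xd24 yd36 zd0) (kd xd24 yd32 zd40) (kd xd16 yd25 zd27) (kd xd12 yd44 zd39) (kd xd24 yd36 zd12) (kd xd12 yd54 zd41) (kd xd19 yd47 zd7) (kd xd23 yd58 zd38) (kd xd20 yd14 zd27) (kd xd18 yd25 zd22) (kd xd12 yd44 zd43)) (@D3.rec (fun _ => Pt) (kd xd21 yd34 zd52) (kd xd12 yd44 zd46) (kd xd15 yd55 zd37) (kd xd28 yd15 zd42) (kd xd26 yd58 zd60) (kd xd25 yd17 zd24) (kd xd12 yd44 zd50) (kd xd22 yd5 zd1) (kd xd12 yd44 zd54) (kd xd25 yd19 zd29) (kd xd28 yd15 zd30) (kd xd12 yd54 zd8) (kd xd12 yd54 zd24) (kd xd30 yd11 zd35) (kd xd14 yd19 zd15) (kd xd25 yd23 zd5) (kd xd20 yd0 zd39) (kd xd17 yd38 zd19) (kd xd17 yd38 zd18) (kd xd21 yd18 zd34) (kd xd27 yd41 zd31) (kd xd12 yd45 zd13) (kd xd20 yd38 zd16) (kd xd12 yd45 zd19) (kd xd12 yd45 zd20) (kd xd14 yd44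 zd14) (kd xd15 yd0 zd5) (kd xd12 yd45 zd21) (kd xd28 yd1 zd36) (kd xd29 yd19 zd9) (kd xd12 yd45 zd23) (kd xd20 yd33 zd38) (kd xd19 yd12 zd58) (kd xd13 yd20 zd54) (kd xd30 yd11 zd45) (kd xd12 yd45 zd25) (kd xd19 yd12 zd51) (kd xd24 yd13 zd31) (kd xd20 yd24 zd35) (kd xd22 yd50 zd23) (kd xd12 yd45 zd28) (kd xd14 yd1 zd30) (kd xd22 yd37 zd27) (kd xd26 yd29 zd58) (kd xd22 yd37 zd29) (kd xd22 yd51 zd40) (kd xd26 yd29 zd59) (kd xd12 yd45 zd30) (kd xd16 yd23 zd17) (kd xd14 yd21 zd13) (kd xd12 yd45 zd32) (kd xd23 yd55 zd41) (kd xd30 yd11 zd59) (kd xd24 yd2 zd18) (kd xd15 yd24 zd48) (kd xd29 yd20 zd22) (kd xd24 yd7 zd13) (kd xd12 yd45 zd37) (kd xd25 yd6 zd22) (kd xd28 yd18 zd42) (kd xd18 yd56 zd8) (kd xd12 yd45 zd41)) (@D3.rec (fun _ => Pt) (kd xd14 yd13 zd44) (kd xd22 yd51 zd21)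 (kd xd16 yd23 zd5) (kd xd15 yd0 zd20) (kd xd14 yd37 zd50) (kd xd12 yd45 zd50) (kd xd29 yd54 zd28) (kd xd12 yd45 zd51) (kd xd14 yd37 zd45) (kd xd12 yd45 zd54) (kd xd14 yd13 zd7) (kd xd20 yd37 zd40) (kd xd21 yd35 zd7) (kd xd30 yd12 zd7) (kd xd16 yd20 zd18) (kd xd30 yd12 zd8) (kd xd30 yd12 zd10) (kd xd21 yd58 zd60) (kd xd25 yd52 zd11) (kd xd25 yd52 zd12) (kd xd19 yd28 zd43) (kd xd12 yd45 zd60) (kd xd22 yd6 zd11) (kd xd12 yd46 zd2) (kd xd17 yd11 zd3) (kd xd17 yd11 zd49) (kd xd27 yd9 zd61) (kd xd16 yd59 zd34) (kd xd12 yd46 zd5) (kd xd19 yd6 zd45) (kd xd19 yd47 zd42) (kd xd24 yd9 zd16) (kd xd16 yd20 zd44) (kd xd30 yd12 zd13) (kd xd27 yd36 zd28) (kd xd20 yd18 zd42) (kd xd30 yd12 zd14) (kd xd12 yd46 zd22) (kd xd23 yd17 zd37) (kd xd21 yd53 zd49) (kd xd16 yd0 zd8) (kd xd26 yd11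 zd49) (kd xd12 yd46 zd30) (kd xd29 yd54 zd6) (kd xd13 yd15 zd50) (kd xd14 yd44 zd55) (kd xd12 yd46 zd33) (kd xd12 yd46 zd35) (kd xd17 yd29 zd36) (kd xd21 yd53 zd39) (kd xd30 yd8 zd57) (kd xd12 yd46 zd37) (kd xd16 yd34 zd57) (kd xd16 yd34 zd56) (kd xd23 yd32 zd24) (kd xd12 yd46 zd42) (kd xd22 yd50 zd31) (kd xd28 yd56 zd23) (kd xd23 yd14 zd54) (kd xd12 yd46 zd45) (kd xd21 yd48 zd50) (kd xd16 yd24 zd30)) (@D3.rec (fun _ => Pt) (kd xd12 yd46 zd46) (kd xd12 yd52 zd58) (kd xd16 yd24 zd31) (kd xd12 yd46 zd47) (kd xd16 yd31 zd30) (kd xd16 yd31 zd29) (kd xd21 yd7 zd61) (kd xd21 yd8 zd0) (kd xd30 yd12 zd23) (kd xd21 yd7 zd15) (kd xd21 yd7 zd17) (kd xd14 yd21 zd51) (kd xd14 yd17 zd21) (kd xd12 yd46 zd52) (kd xd30 yd12 zd27) (kd xd18 yd16 zd1) (kd xd17 yd22 zd59) (kd xd21 yd35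 zd53) (kd xd12 yd46 zd54) (kd xd28 yd35 zd35) (kd xd22 yd12 zd2) (kd xd22 yd12 zd3) (kd xd30 yd12 zd30) (kd xd29 yd7 zd44) (kd xd12 yd59 zd27) (kd xd16 yd8 zd40) (kd xd12 yd46 zd59) (kd xd12 yd47 zd48) (kd xd30 yd12 zd31) (kd xd28 yd41 zd28) (kd xd27 yd36 zd13) (kd xd18 yd50 zd16) (kd xd24 yd7 zd19) (kd xd18 yd48 zd33) (kd xd18 yd48 zd40) (kd xd17 yd49 zd6) (kd xd13 yd14 zd41) (kd xd15 yd50 zd15) (kd xd16 yd19 zd24) (kd xd30 yd12 zd34) (kd xd22 yd2 zd41) (kd xd18 yd41 zd12) (kd xd12 yd47 zd20) (kd xd27 yd51 zd22) (kd xd12 yd47 zd24) (kd xd24 yd33 zd58) (kd xd27 yd45 zd16) (kd xd29 yd27 zd44) (kd xd22 yd8 zd29) (kd xd12 yd47 zd27) (kd xd30 yd5 zd18) (kd xd17 yd3 zd16) (kd xd24 yd40 zd33) (kd xd29 yd22 zd51) (kd xd16 yd16 zd42) (kd xd16 yd16 zd44) (kd xd12 yd47 zd31)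 (kd xd28 yd4 zd8) (kd xd21 yd7 zd0) (kd xd17 yd3 zd52) (kd xd26 yd19 zd12) (kd xd26 yd19 zd34)) (@D3.rec (fun _ => Pt) (kd xd26 yd19 zd14) (kd xd22 yd50 zd32) (kd xd27 yd28 zd48) (kd xd24 yd32 zd37) (kd xd20 yd13 zd11) (kd xd20 yd13 zd12) (kd xd12 yd47 zd44) (kd xd24 yd31 zd60) (kd xd21 yd8 zd9) (kd xd30 yd12 zd40) (kd xd17 yd4 zd48) (kd xd30 yd8 zd18) (kd xd21 yd7 zd6) (kd xd27 yd22 zd33) (kd xd28 yd24 zd35) (kd xd21 yd18 zd43) (kd xd12 yd47 zd56) (kd xd29 yd12 zd12) (kd xd29 yd12 zd11) (kd xd12 yd47 zd60) (kd xd13 yd59 zd40) (kd xd14 yd49 zd33) (kd xd25 yd3 zd42) (kd xd22 yd45 zd37) (kd xd14 yd46 zd16) (kd xd21 yd41 zd41) (kd xd14 yd54 zd16) (kd xd20 yd29 zd49) (kd xd23 yd58 zd17) (kd xd23 yd20 zd9) (kd xd30 yd4 zd39) (kd xd30 yd4 zd40) (kd xd23 yd25 zd56) (kd xd23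 yd25 zd55) (kd xd23 yd52 zd37) (kd xd23 yd44 zd57) (kd xd12 yd48 zd10) (kd xd23 yd46 zd60) (kd xd27 yd56 zd59) (kd xd12 yd48 zd11) (kd xd21 yd24 zd22) (kd xd22 yd12 zd14) (kd xd30 yd12 zd61) (kd xd12 yd48 zd13) (kd xd25 yd2 zd19) (kd xd30 yd13 zd2) (kd xd24 yd40 zd16) (kd xd12 yd48 zd14) (kd xd12 yd48 zd15) (kd xd17 yd44 zd6) (kd xd23 yd26 zd60) (kd xd27 yd18 zd1) (kd xd30 yd13 zd8) (kd xd30 yd8 zd0) (kd xd22 yd38 zd44) (kd xd26 yd0 zd39) (kd xd30 yd13 zd12) (kd xd12 yd48 zd20) (kd xd24 yd34 zd6) (kd xd23 yd44 zd6) (kd xd28 yd58 zd50) (kd xd12 yd48 zd21)) (@D3.rec (fun _ => Pt) (kd xd12 yd48 zd22) (kd xd16 yd2 zd50) (kd xd21 yd27 zd49) (kd xd21 yd27 zd50) (kd xd30 yd13 zd19) (kd xd19 yd16 zd33) (kd xd16 yd2 zd51) (kd xd25 yd34 zd44) (kd xd28 yd31 zd15) (kd xd12 yd48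 zd25) (kd xd30 yd13 zd24) (kd xd21 yd17 zd45) (kd xd12 yd48 zd27) (kd xd23 yd17 zd55) (kd xd13 yd59 zd51) (kd xd23 yd14 zd32) (kd xd12 yd48 zd30) (kd xd13 yd15 zd61) (kd xd28 yd31 zd26) (kd xd28 yd34 zd8) (kd xd16 yd12 zd38) (kd xd12 yd48 zd32) (kd xd14 yd39 zd22) (kd xd14 yd38 zd54) (kd xd12 yd48 zd34) (kd xd12 yd48 zd35) (kd xd14 yd55 zd50) (kd xd17 yd52 zd39) (kd xd13 yd37 zd42) (kd xd12 yd48 zd38) (kd xd21 yd46 zd41) (kd xd12 yd48 zd39) (kd xd26 yd8 zd1) (kd xd29 yd56 zd53) (kd xd26 yd8 zd0) (kd xd16 yd48 zd9) (kd xd12 yd48 zd41) (kd xd17 yd28 zd15) (kd xd18 yd17 zd1) (kd xd29 yd56 zd51) (kd xd30 yd13 zd37) (kd xd25 yd57 zd42) (kd xd19 yd43 zd57) (kd xd29 yd57 zd21) (kd xd29 yd57 zd18) (kd xd30 yd13 zd42) (kd xd12 yd48 zd45) (kd xd30 yd13 zd47) (kd xd13 yd5 zd8)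 (kd xd14 yd44 zd37) (kd xd30 yd13 zd49) (kd xd30 yd13 zd51) (kd xd30 yd13 zd53) (kd xd30 yd13 zd55) (kd xd12 yd48 zd48) (kd xd30 yd13 zd58) (kd xd27 yd39 zd9) (kd xd13 yd23 zd30) (kd xd25 yd51 zd32) (kd xd12 yd48 zd50) (kd xd30 yd13 zd61) (kd xd23 yd6 zd60)) (@D3.rec (fun _ => Pt) (kd xd29 yd14 zd34) (kd xd30 yd14 zd0) (kd xd16 yd22 zd45) (kd xd18 yd38 zd56) (kd xd12 yd48 zd53) (kd xd30 yd14 zd3) (kd xd28 yd26 zd10) (kd xd12 yd48 zd54) (kd xd30 yd7 zd12) (kd xd19 yd43 zd47) (kd xd19 yd48 zd6) (kd xd21 yd45 zd40) (kd xd12 yd49 zd1) (kd xd12 yd49 zd3) (kd xd12 yd49 zd5) (kd xd17 yd43 zd46) (kd xd17 yd43 zd53) (kd xd29 yd59 zd57) (kd xd12 yd49 zd6) (kd xd21 yd22 zd51) (kd xd12 yd49 zd58) (kd xd14 yd56 zd50) (kd xd25 yd44 zd51) (kd xd12 yd49 zd10) (kd xd30 yd14 zd8) (kd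 xd26 yd43 zd50) (kd xd12 yd49 zd13) (kd xd19 yd39 zd7) (kd xd19 yd39 zd6) (kd xd12 yd49 zd14) (kd xd29 yd42 zd23) (kd xd24 yd53 zd44) (kd xd19 yd33 zd58) (kd xd30 yd14 zd10) (kd xd12 yd49 zd16) (kd xd28 yd1 zd35) (kd xd29 yd0 zd19) (kd xd12 yd49 zd18) (kd xd21 yd35 zd60) (kd xd21 yd36 zd0) (kd xd26 yd0 zd7) (kd xd29 yd0 zd26) (kd xd25 yd7 zd49) (kd xd12 yd49 zd20) (kd xd12 yd49 zd22) (kd xd21 yd37 zd60) (kd xd25 yd23 zd29) (kd xd26 yd51 zd60) (kd xd12 yd49 zd32) (kd xd12 yd49 zd33) (kd xd22 yd6 zd20) (kd xd12 yd49 zd36) (kd xd16 yd5 zd3) (kd xd17 yd56 zd16) (kd xd30 yd14 zd14) (kd xd18 yd25 zd59) (kd xd30 yd14 zd15) (kd xd12 yd49 zd40) (kd xd18 yd25 zd40) (kd xd12 yd49 zd42) (kd xd21 yd35 zd55) (kd xd22 yd4 zd18)) (@D3.rec (fun _ => Pt) (kd xd21 yd38 zd1) (kd xd12 yd50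 zd26) (kd xd25 yd33 zd13) (kd xd19 yd40 zd49) (kd xd12 yd49 zd49) (kd xd12 yd49 zd52) (kd xd25 yd45 zd10) (kd xd15 yd39 zd22) (kd xd12 yd49 zd55) (kd xd17 yd29 zd15) (kd xd15 yd40 zd16) (kd xd29 yd56 zd20) (kd xd12 yd49 zd56) (kd xd12 yd50 zd9) (kd xd25 yd53 zd60) (kd xd19 yd20 zd1) (kd xd27 yd30 zd32) (kd xd12 yd50 zd1) (kd xd21 yd49 zd48) (kd xd12 yd50 zd2) (kd xd12 yd50 zd12) (kd xd16 yd16 zd14) (kd xd12 yd50 zd4) (kd xd21 yd50 zd11) (kd xd30 yd5 zd29) (kd xd20 yd4 zd6) (kd xd20 yd4 zd7) (kd xd12 yd50 zd14) (kd xd17 yd37 zd38) (kd xd23 yd35 zd39) (kd xd29 yd59 zd53) (kd xd17 yd44 zd14) (kd xd12 yd50 zd18) (kd xd18 yd5 zd35) (kd xd12 yd50 zd20) (kd xd21 yd49 zd53) (kd xd15 yd6 zd51) (kd xd12 yd50 zd21) (kd xd14 yd14 zd10) (kd xd30 yd11 zd2) (kd xd12 yd50 zd22) (kd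 xd12 yd50 zd23) (kd xd21 yd36 zd22) (kd xd15 yd19 zd0) (kd xd12 yd50 zd25) (kd xd26 yd18 zd8) (kd xd26 yd14 zd24) (kd xd29 yd37 zd48) (kd xd29 yd39 zd15) (kd xd30 yd14 zd23) (kd xd21 yd4 zd40) (kd xd27 yd28 zd16) (kd xd12 yd50 zd32) (kd xd26 yd1 zd3) (kd xd21 yd58 zd55) (kd xd21 yd58 zd54) (kd xd28 yd57 zd43) (kd xd25 yd57 zd24) (kd xd12 yd50 zd37) (kd xd12 yd51 zd4) (kd xd21 yd53 zd17) (kd xd30 yd9 zd4)) (@D3.rec (fun _ => Pt) (kd xd30 yd14 zd27) (kd xd12 yd50 zd39) (kd xd25 yd41 zd41) (kd xd12 yd50 zd40) (kd xd25 yd17 zd55) (kd xd21 yd10 zd21) (kd xd22 yd10 zd25) (kd xd27 yd9 zd19) (kd xd30 yd14 zd30) (kd xd12 yd50 zd47) (kd xd20 yd4 zd4) (kd xd12 yd50 zd48) (kd xd25 yd32 zd47) (kd xd12 yd50 zd49) (kd xd25 yd49 zd42) (kd xd30 yd14 zd34) (kd xd12 yd50 zd51) (kd xd12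 yd50 zd53) (kd xd26 yd22 zd60) (kd xd30 yd14 zd35) (kd xd16 yd17 zd53) (kd xd12 yd50 zd54) (kd xd25 yd16 zd43) (kd xd12 yd50 zd55) (kd xd26 yd14 zd40) (kd xd21 yd49 zd56) (kd xd21 yd49 zd55) (kd xd16 yd17 zd61) (kd xd16 yd18 zd2) (kd xd21 yd49 zd37) (kd xd12 yd50 zd59) (kd xd12 yd50 zd58) (kd xd30 yd14 zd37) (kd xd30 yd14 zd38) (kd xd30 yd11 zd9) (kd xd12 yd50 zd60) (kd xd28 yd9 zd57) (kd xd27 yd10 zd22) (kd xd12 yd50 zd61) (kd xd30 yd14 zd40) (kd xd21 yd22 zd30) (kd xd20 yd40 zd58) (kd xd12 yd59 zd26) (kd xd20 yd40 zd0) (kd xd25 yd31 zd5) (kd xd14 yd20 zd53) (kd xd14 yd16 zd8) (kd xd20 yd41 zd0) (kd xd15 yd24 zd14) (kd xd12 yd53 zd10) (kd xd21 yd44 zd47) (kd xd21 yd44 zd46) (kd xd17 yd13 zd46) (kd xd24 yd37 zd55) (kd xd15 yd46 zd19) (kd xd12 yd51 zd15) (kd xd12 yd51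 zd16) (kd xd30 yd14 zd45) (kd xd12 yd51 zd17) (kd xd25 yd18 zd49) (kd xd17 yd18 zd41) (kd xd17 yd15 zd4))
def f_d_22 : D2 → D3 → Pt := @D2.rec (fun _ => D3 → Pt) (@D3.rec (fun _ => Pt) (kd xd12 yd51 zd19) (kd xd13 yd22 zd55) (kd xd28 yd24 zd15) (kd xd29 yd33 zd23) (kd xd19 yd30 zd1) (kd xd14 yd24 zd10) (kd xd30 yd14 zd56) (kd xd25 yd7 zd59) (kd xd17 yd17 zd29) (kd xd30 yd14 zd25) (kd xd30 yd14 zd59) (kd xd30 yd15 zd0) (kd xd12 yd51 zd24) (kd xd28 yd50 zd37) (kd xd12 yd51 zd25) (kd xd22 yd11 zd20) (kd xd28 yd58 zd39) (kd xd12 yd51 zd28) (kd xd30 yd15 zd3) (kd xd30 yd15 zd5) (kd xd30 yd15 zd6) (kd xd12 yd51 zd29) (kd xd17 yd29 zd11) (kd xd12 yd52 zd4) (kd xd20 yd29 zd3) (kd xd12 yd51 zd32) (kd xd28 yd56 zd26) (kd xd12 yd51 zd35) (kd xd28 yd35 zd34) (kd xd30 yd6 zd56)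 (kd xd12 yd51 zd36) (kd xd30 yd15 zd9) (kd xd24 yd5 zd57) (kd xd23 yd55 zd25) (kd xd14 yd25 zd59) (kd xd17 yd20 zd26) (kd xd17 yd20 zd24) (kd xd15 yd58 zd43) (kd xd12 yd51 zd39) (kd xd22 yd34 zd11) (kd xd12 yd51 zd40) (kd xd21 yd40 zd26) (kd xd30 yd15 zd14) (kd xd23 yd48 zd57) (kd xd30 yd15 zd19) (kd xd13 yd27 zd30) (kd xd23 yd10 zd51) (kd xd30 yd15 zd24) (kd xd30 yd15 zd26) (kd xd13 yd22 zd52) (kd xd30 yd15 zd28) (kd xd30 yd15 zd30) (kd xd22 yd0 zd54) (kd xd12 yd51 zd46) (kd xd22 yd0 zd52) (kd xd23 yd55 zd27) (kd xd24 yd6 zd12) (kd xd13 yd41 zd32) (kd xd20 yd33 zd52) (kd xd15 yd55 zd21) (kd xd27 yd2 zd7) (kd xd30 yd15 zd37)) (@D3.rec (fun _ => Pt) (kd xd25 yd8 zd6) (kd xd29 yd33 zd29) (kd xd19 yd25 zd27) (kd xd19 yd25 zd28) (kd xd17 yd24 zd54) (kd xd29 yd45 zd47) (kd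 xd12 yd51 zd53) (kd xd30 yd15 zd43) (kd xd28 yd11 zd16) (kd xd28 yd50 zd56) (kd xd19 yd30 zd0) (kd xd29 yd18 zd46) (kd xd12 yd51 zd55) (kd xd27 yd11 zd16) (kd xd29 yd33 zd24) (kd xd29 yd33 zd19) (kd xd12 yd51 zd56) (kd xd28 yd24 zd12) (kd xd14 yd23 zd36) (kd xd23 yd48 zd24) (kd xd26 yd34 zd58) (kd xd12 yd51 zd60) (kd xd30 yd15 zd58) (kd xd30 yd15 zd61) (kd xd29 yd48 zd16) (kd xd30 yd5 zd8) (kd xd30 yd16 zd2) (kd xd12 yd52 zd0) (kd xd28 yd24 zd20) (kd xd30 yd16 zd7) (kd xd12 yd52 zd1) (kd xd30 yd16 zd9) (kd xd30 yd16 zd15) (kd xd16 yd37 zd17) (kd xd30 yd16 zd18) (kd xd12 yd52 zd2) (kd xd20 yd55 zd29) (kd xd30 yd15 zd32) (kd xd27 yd0 zd12) (kd xd29 yd53 zd30) (kd xd19 yd3 zd9) (kd xd29 yd3 zd18) (kd xd16 yd31 zd21) (kd xd27 yd17 zd37) (kd xd28 yd39 zd48) (kd xd28 yd17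 zd17) (kd xd24 yd0 zd35) (kd xd25 yd32 zd37) (kd xd30 yd16 zd33) (kd xd30 yd16 zd35) (kd xd24 yd2 zd60) (kd xd12 yd52 zd9) (kd xd15 yd21 zd43) (kd xd30 yd16 zd38) (kd xd12 yd52 zd11) (kd xd20 yd12 zd37) (kd xd15 yd32 zd58) (kd xd25 yd24 zd37) (kd xd12 yd52 zd14) (kd xd17 yd17 zd60) (kd xd17 yd17 zd59) (kd xd27 yd2 zd42)) (@D3.rec (fun _ => Pt) (kd xd12 yd52 zd16) (kd xd30 yd16 zd36) (kd xd23 yd9 zd0) (kd xd30 yd16 zd42) (kd xd12 yd52 zd18) (kd xd25 yd53 zd40) (kd xd27 yd16 zd8) (kd xd29 yd48 zd36) (kd xd18 yd52 zd46) (kd xd25 yd28 zd21) (kd xd17 yd12 zd6) (kd xd17 yd17 zd58) (kd xd26 yd23 zd55) (kd xd25 yd35 zd18) (kd xd30 yd16 zd48) (kd xd12 yd52 zd28) (kd xd12 yd52 zd29) (kd xd27 yd17 zd22) (kd xd27 yd17 zd23) (kd xd25 yd56 zd2) (kd xd14 yd31 zd33) (kd xd12 yd52 zd31)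 (kd xd27 yd1 zd36) (kd xd27 yd1 zd37) (kd xd19 yd38 zd8) (kd xd27 yd17 zd9) (kd xd25 yd43 zd55) (kd xd26 yd46 zd34) (kd xd12 yd53 zd5) (kd xd12 yd53 zd6) (kd xd16 yd31 zd28) (kd xd20 yd13 zd14) (kd xd30 yd16 zd60) (kd xd12 yd52 zd39) (kd xd30 yd16 zd61) (kd xd22 yd3 zd34) (kd xd17 yd4 zd53) (kd xd20 yd51 zd8) (kd xd12 yd52 zd42) (kd xd21 yd51 zd0) (kd xd12 yd52 zd44) (kd xd21 yd54 zd40) (kd xd17 yd5 zd31) (kd xd12 yd52 zd45) (kd xd17 yd7 zd27) (kd xd19 yd36 zd24) (kd xd17 yd16 zd50) (kd xd17 yd16 zd51) (kd xd26 yd32 zd47) (kd xd12 yd52 zd49) (kd xd26 yd1 zd26) (kd xd16 yd16 zd39) (kd xd26 yd15 zd13) (kd xd12 yd52 zd53) (kd xd17 yd58 zd3) (kd xd26 yd17 zd3) (kd xd17 yd36 zd38) (kd xd12 yd52 zd54) (kd xd26 yd41 zd32) (kd xd25 yd24 zd52) (kd xd25 yd24 zd47) (kd xd26 yd41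 zd35)) (@D3.rec (fun _ => Pt) (kd xd25 yd57 zd28) (kd xd30 yd17 zd5) (kd xd28 yd58 zd21) (kd xd12 yd53 zd2) (kd xd21 yd32 zd8) (kd xd30 yd17 zd6) (kd xd25 yd33 zd57) (kd xd13 yd39 zd45) (kd xd24 yd43 zd23) (kd xd23 yd5 zd37) (kd xd12 yd53 zd7) (kd xd30 yd17 zd8) (kd xd12 yd53 zd13) (kd xd16 yd7 zd45) (kd xd21 yd26 zd31) (kd xd17 yd34 zd61) (kd xd22 yd11 zd4) (kd xd27 yd51 zd4) (kd xd30 yd17 zd10) (kd xd12 yd53 zd37) (kd xd21 yd9 zd43) (kd xd29 yd0 zd1) (kd xd12 yd53 zd40) (kd xd18 yd57 zd61) (kd xd30 yd8 zd40) (kd xd30 yd17 zd0) (kd xd30 yd17 zd11) (kd xd12 yd53 zd45) (kd xd30 yd8 zd20) (kd xd27 yd20 zd57) (kd xd12 yd53 zd46) (kd xd15 yd47 zd49) (kd xd15 yd41 zd24) (kd xd12 yd53 zd47) (kd xd22 yd2 zd35) (kd xd16 yd9 zd5) (kd xd30 yd17 zd12) (kd xd21 yd31 zd6) (kd xd12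 yd53 zd54) (kd xd16 yd48 zd49) (kd xd16 yd48 zd50) (kd xd26 yd58 zd58) (kd xd14 yd23 zd29) (kd xd17 yd9 zd37) (kd xd20 yd57 zd28) (kd xd15 yd49 zd17) (kd xd20 yd57 zd27) (kd xd12 yd54 zd2) (kd xd22 yd6 zd6) (kd xd20 yd42 zd18) (kd xd20 yd58 zd9) (kd xd28 yd32 zd22) (kd xd12 yd54 zd9) (kd xd30 yd17 zd16) (kd xd20 yd55 zd58) (kd xd12 yd54 zd11) (kd xd30 yd17 zd18) (kd xd16 yd42 zd26) (kd xd20 yd55 zd37) (kd xd20 yd55 zd36) (kd xd12 yd54 zd14) (kd xd29 yd3 zd53)) (@D3.rec (fun _ => Pt) (kd xd28 yd27 zd60) (kd xd29 yd3 zd17) (kd xd19 yd31 zd43) (kd xd12 yd54 zd16) (kd xd16 yd41 zd28) (kd xd16 yd36 zd15) (kd xd12 yd54 zd20) (kd xd15 yd55 zd14) (kd xd30 yd17 zd21) (kd xd17 yd45 zd13) (kd xd26 yd58 zd28) (kd xd20 yd24 zd37) (kd xd18 yd22 zd29) (kd xd17 yd33 zd10) (kd xd26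 yd33 zd12) (kd xd17 yd50 zd42) (kd xd12 yd54 zd35) (kd xd26 yd37 zd5) (kd xd21 yd57 zd61) (kd xd27 yd0 zd36) (kd xd16 yd39 zd30) (kd xd30 yd17 zd34) (kd xd30 yd17 zd35) (kd xd30 yd17 zd36) (kd xd27 yd0 zd43) (kd xd29 yd31 zd3) (kd xd20 yd34 zd34) (kd xd30 yd17 zd38) (kd xd12 yd54 zd46) (kd xd16 yd6 zd9) (kd xd16 yd54 zd24) (kd xd30 yd17 zd42) (kd xd23 yd30 zd46) (kd xd12 yd54 zd52) (kd xd12 yd54 zd53) (kd xd27 yd1 zd27) (kd xd12 yd54 zd54) (kd xd12 yd55 zd37) (kd xd12 yd55 zd38) (kd xd27 yd22 zd4) (kd xd25 yd41 zd3) (kd xd15 yd42 zd23) (kd xd16 yd6 zd8) (kd xd27 yd26 zd30) (kd xd23 yd24 zd30) (kd xd30 yd17 zd48) (kd xd12 yd54 zd61) (kd xd15 yd51 zd14) (kd xd20 yd46 zd11) (kd xd12 yd55 zd2) (kd xd25 yd27 zd15) (kd xd21 yd1 zd35) (kd xd12 yd55 zd4) (kd xd21 yd1 zd30)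 (kd xd18 yd50 zd55) (kd xd12 yd56 zd12) (kd xd12 yd55 zd7) (kd xd20 yd27 zd56) (kd xd30 yd17 zd50) (kd xd20 yd12 zd19) (kd xd23 yd31 zd3) (kd xd12 yd55 zd11)) (@D3.rec (fun _ => Pt) (kd xd20 yd22 zd13) (kd xd21 yd52 zd7) (kd xd12 yd55 zd12) (kd xd20 yd14 zd34) (kd xd17 yd14 zd26) (kd xd21 yd24 zd55) (kd xd30 yd17 zd54) (kd xd16 yd6 zd47) (kd xd15 yd24 zd20) (kd xd15 yd25 zd29) (kd xd17 yd33 zd16) (kd xd20 yd31 zd47) (kd xd12 yd55 zd20) (kd xd30 yd17 zd57) (kd xd19 yd43 zd39) (kd xd29 yd29 zd29) (kd xd12 yd55 zd28) (kd xd30 yd17 zd58) (kd xd27 yd59 zd38) (kd xd28 yd1 zd13) (kd xd12 yd55 zd35) (kd xd28 yd1 zd12) (kd xd29 yd13 zd58) (kd xd30 yd17 zd44) (kd xd17 yd33 zd32) (kd xd17 yd33 zd33) (kd xd24 yd42 zd59) (kd xd19 yd47 zd50) (kd xd20 yd27 zd58) (kd xd16 yd0 zd49)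 (kd xd20 yd5 zd36) (kd xd19 yd48 zd41) (kd xd27 yd12 zd32) (kd xd18 yd33 zd51) (kd xd18 yd32 zd15) (kd xd30 yd17 zd49) (kd xd12 yd55 zd49) (kd xd29 yd42 zd43) (kd xd12 yd55 zd51) (kd xd20 yd22 zd36) (kd xd28 yd49 zd18) (kd xd27 yd12 zd49) (kd xd25 yd20 zd38) (kd xd29 yd6 zd36) (kd xd25 yd20 zd39) (kd xd16 yd24 zd2) (kd xd29 yd25 zd29) (kd xd27 yd20 zd22) (kd xd12 yd56 zd2) (kd xd27 yd43 zd14) (kd xd24 yd31 zd6) (kd xd29 yd0 zd11) (kd xd12 yd56 zd3) (kd xd22 yd28 zd61) (kd xd29 yd38 zd17) (kd xd17 yd6 zd46) (kd xd30 yd18 zd11) (kd xd18 yd34 zd54) (kd xd12 yd56 zd6) (kd xd12 yd56 zd5) (kd xd20 yd17 zd45) (kd xd23 yd31 zd0)) (@D3.rec (fun _ => Pt) (kd xd12 yd56 zd7) (kd xd22 yd10 zd7) (kd xd21 yd22 zd28) (kd xd30 yd18 zd14) (kd xd16 yd10 zd41) (kd xd12 yd56 zd13) (kd xd22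 yd3 zd48) (kd xd30 yd18 zd17) (kd xd17 yd57 zd51) (kd xd20 yd27 zd53) (kd xd16 yd53 zd46) (kd xd21 yd53 zd22) (kd xd20 yd22 zd20) (kd xd19 yd9 zd55) (kd xd30 yd18 zd20) (kd xd19 yd27 zd42) (kd xd19 yd27 zd41) (kd xd28 yd10 zd32) (kd xd30 yd8 zd58) (kd xd12 yd56 zd37) (kd xd21 yd57 zd50) (kd xd23 yd35 zd19) (kd xd20 yd15 zd48) (kd xd24 yd5 zd0) (kd xd17 yd31 zd5) (kd xd17 yd53 zd25) (kd xd17 yd33 zd48) (kd xd17 yd33 zd49) (kd xd15 yd24 zd39) (kd xd21 yd15 zd19) (kd xd27 yd49 zd48) (kd xd12 yd56 zd54) (kd xd28 yd24 zd55) (kd xd12 yd56 zd56) (kd xd17 yd27 zd1) (kd xd30 yd18 zd23) (kd xd27 yd6 zd47) (kd xd12 yd56 zd58) (kd xd30 yd18 zd26) (kd xd12 yd57 zd27) (kd xd18 yd52 zd48) (kd xd15 yd32 zd46) (kd xd30 yd18 zd29) (kd xd12 yd57 zd2) (kd xd25 yd18 zd37) (kd xd29 yd47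 zd45) (kd xd29 yd47 zd43) (kd xd25 yd20 zd13) (kd xd24 yd14 zd5) (kd xd30 yd18 zd33) (kd xd22 yd26 zd61) (kd xd12 yd57 zd6) (kd xd30 yd18 zd37) (kd xd26 yd53 zd48) (kd xd16 yd57 zd61) (kd xd16 yd57 zd60) (kd xd30 yd18 zd41) (kd xd14 yd26 zd13) (kd xd12 yd57 zd10) (kd xd27 yd19 zd13) (kd xd25 yd12 zd40) (kd xd24 yd0 zd17)) (@D3.rec (fun _ => Pt) (kd xd24 yd26 zd30) (kd xd23 yd34 zd2) (kd xd17 yd20 zd29) (kd xd24 yd58 zd23) (kd xd17 yd26 zd16) (kd xd30 yd18 zd52) (kd xd12 yd57 zd19) (kd xd30 yd18 zd54) (kd xd22 yd21 zd20) (kd xd12 yd57 zd20) (kd xd30 yd18 zd59) (kd xd12 yd57 zd21) (kd xd27 yd59 zd2) (kd xd27 yd59 zd3) (kd xd30 yd19 zd6) (kd xd12 yd57 zd23) (kd xd23 yd48 zd22) (kd xd14 yd11 zd45) (kd xd23 yd47 zd13) (kd xd18 yd53 zd5) (kd xd21 yd38 zd44) (kd xd30 yd18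 zd27) (kd xd12 yd57 zd28) (kd xd18 yd11 zd56) (kd xd15 yd40 zd38) (kd xd25 yd28 zd28) (kd xd15 yd46 zd42) (kd xd15 yd46 zd55) (kd xd15 yd40 zd39) (kd xd12 yd57 zd36) (kd xd27 yd18 zd54) (kd xd15 yd32 zd48) (kd xd20 yd41 zd55) (kd xd30 yd19 zd20) (kd xd25 yd19 zd13) (kd xd25 yd19 zd10) (kd xd24 yd51 zd24) (kd xd12 yd57 zd46) (kd xd12 yd57 zd47) (kd xd20 yd58 zd33) (kd xd20 yd58 zd32) (kd xd12 yd57 zd48) (kd xd25 yd22 zd44) (kd xd25 yd22 zd46) (kd xd20 yd38 zd40) (kd xd29 yd35 zd45) (kd xd12 yd57 zd53) (kd xd12 yd57 zd56) (kd xd29 yd36 zd1) (kd xd28 yd9 zd2) (kd xd12 yd57 zd58) (kd xd25 yd19 zd43) (kd xd25 yd19 zd44) (kd xd12 yd57 zd60) (kd xd12 yd58 zd0) (kd xd14 yd31 zd4) (kd xd14 yd31 zd5) (kd xd12 yd58 zd1) (kd xd20 yd23 zd29) (kd xd12 yd58 zd3) (kd xd12 yd58 zd4)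 (kd xd26 yd25 zd46)) (@D3.rec (fun _ => Pt) (kd xd17 yd34 zd34) (kd xd18 yd1 zd56) (kd xd21 yd7 zd1) (kd xd14 yd53 zd54) (kd xd30 yd19 zd29) (kd xd30 yd6 zd18) (kd xd24 yd43 zd34) (kd xd12 yd58 zd14) (kd xd26 yd14 zd16) (kd xd12 yd58 zd15) (kd xd12 yd58 zd22) (kd xd13 yd1 zd36) (kd xd26 yd11 zd54) (kd xd12 yd58 zd17) (kd xd21 yd7 zd34) (kd xd24 yd4 zd5) (kd xd30 yd19 zd31) (kd xd21 yd31 zd47) (kd xd19 yd1 zd60) (kd xd28 yd25 zd53) (kd xd30 yd19 zd34) (kd xd16 yd43 zd5) (kd xd19 yd35 zd13) (kd xd30 yd3 zd42) (kd xd12 yd58 zd28) (kd xd25 yd32 zd1) (kd xd22 yd8 zd39) (kd xd30 yd19 zd37) (kd xd17 yd34 zd52) (kd xd21 yd54 zd48) (kd xd21 yd42 zd50) (kd xd27 yd45 zd39) (kd xd17 yd7 zd20) (kd xd30 yd12 zd39) (kd xd23 yd37 zd21) (kd xd30 yd19 zd38) (kd xd20 yd37 zd32) (kd xd13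 yd40 zd36) (kd xd12 yd58 zd45) (kd xd22 yd8 zd26) (kd xd12 yd58 zd48) (kd xd23 yd37 zd58) (kd xd23 yd37 zd59) (kd xd12 yd58 zd51) (kd xd23 yd36 zd59) (kd xd22 yd18 zd56) (kd xd16 yd23 zd11) (kd xd23 yd35 zd57) (kd xd23 yd35 zd58) (kd xd27 yd39 zd38) (kd xd12 yd58 zd57) (kd xd23 yd44 zd37) (kd xd27 yd20 zd35) (kd xd18 yd28 zd32) (kd xd18 yd29 zd27) (kd xd27 yd20 zd38) (kd xd14 yd14 zd44) (kd xd29 yd50 zd30) (kd xd18 yd29 zd42) (kd xd12 yd59 zd1) (kd xd15 yd48 zd44) (kd xd27 yd23 zd32)) (@D3.rec (fun _ => Pt) (kd xd17 yd50 zd55) (kd xd30 yd19 zd42) (kd xd12 yd59 zd4) (kd xd30 yd4 zd20) (kd xd29 yd50 zd39) (kd xd29 yd50 zd40) (kd xd22 yd55 zd9) (kd xd12 yd59 zd6) (kd xd21 yd1 zd42) (kd xd25 yd33 zd25) (kd xd12 yd59 zd8) (kd xd22 yd16 zd35) (kd xd29 yd4 zd40) (kd xd12 yd59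 zd9) (kd xd27 yd17 zd42) (kd xd12 yd59 zd12) (kd xd25 yd35 zd27) (kd xd12 yd59 zd13) (kd xd12 yd59 zd14) (kd xd25 yd59 zd13) (kd xd12 yd59 zd32) (kd xd12 yd59 zd33) (kd xd19 yd15 zd28) (kd xd25 yd54 zd52) (kd xd30 yd19 zd55) (kd xd23 yd8 zd13) (kd xd17 yd26 zd11) (kd xd25 yd57 zd20) (kd xd24 yd7 zd17) (kd xd30 yd6 zd43) (kd xd12 yd59 zd21) (kd xd21 yd25 zd41) (kd xd29 yd52 zd35) (kd xd30 yd19 zd58) (kd xd12 yd59 zd24) (kd xd23 yd10 zd14) (kd xd20 yd53 zd29) (kd xd27 yd29 zd55) (kd xd12 yd59 zd29) (kd xd25 yd14 zd32) (kd xd16 yd27 zd14) (kd xd29 yd4 zd39) (kd xd29 yd48 zd35) (kd xd22 yd16 zd33) (kd xd24 yd8 zd48) (kd xd30 yd20 zd1) (kd xd22 yd52 zd54) (kd xd12 yd59 zd36) (kd xd12 yd59 zd38) (kd xd16 yd3 zd41) (kd xd16 yd1 zd51) (kd xd12 yd59 zd41) (kd xd12 yd59 zd43)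 (kd xd17 yd29 zd47) (kd xd12 yd59 zd50) (kd xd12 yd59 zd51) (kd xd18 yd57 zd12) (kd xd27 yd38 zd23) (kd xd20 yd12 zd57) (kd xd25 yd17 zd1) (kd xd12 yd59 zd57) (kd xd12 yd59 zd58)) (@D3.rec (fun _ => Pt) (kd xd15 yd49 zd15) (kd xd24 yd27 zd42) (kd xd12 yd59 zd60) (kd xd17 yd14 zd9) (kd xd13 yd0 zd2) (kd xd30 yd20 zd7) (kd xd21 yd26 zd49) (kd xd22 yd6 zd1) (kd xd27 yd35 zd39) (kd xd13 yd0 zd4) (kd xd29 yd12 zd55) (kd xd29 yd10 zd49) (kd xd13 yd0 zd5) (kd xd13 yd0 zd6) (kd xd19 yd14 zd50) (kd xd23 yd29 zd38) (kd xd13 yd0 zd7) (kd xd30 yd20 zd10) (kd xd21 yd5 zd43) (kd xd16 yd3 zd24) (kd xd29 yd56 zd57) (kd xd21 yd28 zd31) (kd xd22 yd10 zd23) (kd xd22 yd10 zd22) (kd xd13 yd0 zd9) (kd xd21 yd59 zd6) (kd xd27 yd23 zd33) (kd xd30 yd20 zd15) (kd xd13 yd0 zd10) (kd xd27 yd53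 zd12) (kd xd25 yd16 zd57) (kd xd17 yd29 zd26) (kd xd30 yd19 zd41) (kd xd30 yd20 zd18) (kd xd13 yd0 zd17) (kd xd27 yd27 zd14) (kd xd20 yd15 zd31) (kd xd29 yd56 zd56) (kd xd30 yd20 zd19) (kd xd13 yd0 zd23) (kd xd29 yd42 zd22) (kd xd13 yd0 zd30) (kd xd23 yd53 zd6) (kd xd17 yd30 zd13) (kd xd25 yd17 zd53) (kd xd13 yd0 zd33) (kd xd25 yd35 zd17) (kd xd19 yd45 zd20) (kd xd24 yd0 zd45) (kd xd25 yd8 zd61) (kd xd22 yd58 zd56) (kd xd25 yd4 zd11) (kd xd13 yd0 zd38) (kd xd14 yd1 zd20) (kd xd20 yd43 zd47) (kd xd26 yd44 zd27) (kd xd24 yd35 zd38) (kd xd24 yd8 zd41) (kd xd13 yd0 zd41) (kd xd21 yd49 zd44) (kd xd30 yd20 zd21) (kd xd13 yd0 zd43)) (@D3.rec (fun _ => Pt) (kd xd28 yd50 zd47) (kd xd26 yd13 zd48) (kd xd13 yd0 zd45) (kd xd17 yd19 zd47) (kd xd22 yd3 zd16) (kd xd17 yd11 zd0) (kd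 xd17 yd11 zd2) (kd xd15 yd49 zd6) (kd xd13 yd0 zd56) (kd xd13 yd1 zd2) (kd xd15 yd18 zd60) (kd xd13 yd1 zd12) (kd xd26 yd18 zd6) (kd xd25 yd15 zd33) (kd xd21 yd33 zd40) (kd xd13 yd1 zd13) (kd xd17 yd20 zd40) (kd xd15 yd48 zd56) (kd xd27 yd59 zd50) (kd xd13 yd1 zd16) (kd xd22 yd0 zd15) (kd xd27 yd21 zd20) (kd xd13 yd1 zd18) (kd xd28 yd11 zd19) (kd xd25 yd27 zd19) (kd xd13 yd1 zd26) (kd xd29 yd23 zd28) (kd xd21 yd25 zd49) (kd xd21 yd32 zd55) (kd xd14 yd4 zd33) (kd xd19 yd39 zd18) (kd xd21 yd20 zd2) (kd xd13 yd1 zd29) (kd xd18 yd32 zd34) (kd xd27 yd11 zd31) (kd xd20 yd6 zd43) (kd xd20 yd28 zd7) (kd xd20 yd41 zd25) (kd xd18 yd7 zd37) (kd xd28 yd12 zd2) (kd xd13 yd2 zd0) (kd xd13 yd2 zd2) (kd xd27 yd50 zd35) (kd xd29 yd38 zd42) (kd xd13 yd2 zd4) (kd xd14 yd45 zd11) (kd xd23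 yd20 zd57) (kd xd23 yd44 zd13) (kd xd21 yd33 zd59) (kd xd21 yd33 zd60) (kd xd23 yd43 zd55) (kd xd27 yd28 zd18) (kd xd13 yd2 zd12) (kd xd19 yd51 zd7) (kd xd13 yd2 zd13) (kd xd15 yd23 zd50) (kd xd26 yd37 zd31) (kd xd13 yd2 zd20) (kd xd23 yd0 zd52) (kd xd13 yd2 zd22) (kd xd17 yd22 zd46) (kd xd13 yd2 zd24)) (@D3.rec (fun _ => Pt) (kd xd20 yd12 zd15) (kd xd13 yd2 zd28) (kd xd21 yd54 zd20) (kd xd21 yd54 zd21) (kd xd21 yd47 zd14) (kd xd17 yd56 zd52) (kd xd22 yd17 zd53) (kd xd22 yd17 zd54) (kd xd23 yd44 zd55) (kd xd23 yd11 zd40) (kd xd14 yd0 zd61) (kd xd23 yd44 zd50) (kd xd13 yd2 zd37) (kd xd13 yd26 zd11) (kd xd21 yd55 zd41) (kd xd25 yd48 zd29) (kd xd24 yd23 zd2) (kd xd14 yd51 zd45) (kd xd23 yd36 zd45) (kd xd13 yd2 zd42) (kd xd13 yd2 zd43) (kd xd13 yd26 zd2) (kd xd30 yd20 zd40)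 (kd xd19 yd3 zd23) (kd xd13 yd53 zd21) (kd xd18 yd2 zd45) (kd xd19 yd14 zd28) (kd xd13 yd2 zd48) (kd xd30 yd20 zd43) (kd xd29 yd35 zd44) (kd xd13 yd2 zd50) (kd xd13 yd29 zd3) (kd xd14 yd10 zd23) (kd xd20 yd41 zd47) (kd xd13 yd2 zd52) (kd xd24 yd38 zd37) (kd xd22 yd24 zd9) (kd xd30 yd20 zd51) (kd xd13 yd2 zd54) (kd xd13 yd7 zd48) (kd xd13 yd12 zd20) (kd xd13 yd7 zd37) (kd xd23 yd19 zd19) (kd xd13 yd12 zd30) (kd xd21 yd31 zd26) (kd xd14 yd52 zd48) (kd xd13 yd3 zd5) (kd xd30 yd21 zd2) (kd xd17 yd12 zd10) (kd xd14 yd52 zd33) (kd xd13 yd59 zd20) (kd xd13 yd3 zd10) (kd xd22 yd12 zd57) (kd xd14 yd52 zd44) (kd xd14 yd0 zd57) (kd xd19 yd34 zd21) (kd xd13 yd8 zd26) (kd xd22 yd12 zd52) (kd xd13 yd8 zd29) (kd xd22 yd17 zd28) (kd xd13 yd3 zd16) (kd xd29 yd14 zd60)) (@D3.rec (fun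 _ => Pt) (kd xd14 yd31 zd21) (kd xd28 yd44 zd7) (kd xd13 yd3 zd18) (kd xd22 yd19 zd26) (kd xd17 yd47 zd26) (kd xd13 yd3 zd20) (kd xd24 yd15 zd40) (kd xd22 yd22 zd10) (kd xd24 yd14 zd55) (kd xd27 yd21 zd43) (kd xd27 yd21 zd42) (kd xd30 yd21 zd21) (kd xd13 yd3 zd24) (kd xd21 yd13 zd51) (kd xd13 yd3 zd25) (kd xd13 yd3 zd26) (kd xd24 yd14 zd21) (kd xd13 yd11 zd24) (kd xd13 yd11 zd25) (kd xd30 yd21 zd35) (kd xd24 yd15 zd12) (kd xd14 yd33 zd48) (kd xd13 yd9 zd32) (kd xd13 yd52 zd20) (kd xd13 yd9 zd33) (kd xd13 yd11 zd36) (kd xd13 yd11 zd37) (kd xd13 yd12 zd8) (kd xd23 yd22 zd4) (kd xd29 yd26 zd61) (kd xd30 yd21 zd48) (kd xd24 yd15 zd16) (kd xd13 yd3 zd32) (kd xd13 yd3 zd33) (kd xd14 yd41 zd23) (kd xd13 yd10 zd35) (kd xd27 yd13 zd40) (kd xd19 yd29 zd36) (kd xd19 yd37 zd34)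 (kd xd17 yd24 zd5) (kd xd22 yd23 zd55) (kd xd29 yd42 zd56) (kd xd23 yd19 zd0) (kd xd13 yd11 zd60) (kd xd13 yd11 zd49) (kd xd22 yd52 zd11) (kd xd24 yd57 zd11) (kd xd24 yd57 zd9) (kd xd14 yd41 zd14) (kd xd29 yd48 zd11) (kd xd13 yd11 zd35) (kd xd13 yd13 zd19) (kd xd21 yd14 zd57) (kd xd13 yd12 zd38) (kd xd30 yd22 zd21) (kd xd30 yd22 zd26) (kd xd30 yd22 zd27) (kd xd13 yd3 zd45) (kd xd13 yd7 zd38) (kd xd30 yd21 zd22) (kd xd29 yd23 zd11) (kd xd13 yd3 zd49)) (@D3.rec (fun _ => Pt) (kd xd13 yd7 zd59) (kd xd20 yd41 zd17) (kd xd13 yd3 zd51) (kd xd13 yd3 zd52) (kd xd19 yd7 zd23) (kd xd13 yd12 zd39) (kd xd13 yd12 zd40) (kd xd26 yd52 zd13) (kd xd18 yd59 zd27) (kd xd13 yd9 zd19) (kd xd13 yd11 zd33) (kd xd13 yd9 zd20) (kd xd13 yd12 zd47) (kd xd13 yd11 zd34) (kd xd13 yd7 zd5) (kd xd13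 yd12 zd14) (kd xd30 yd22 zd48) (kd xd30 yd22 zd50) (kd xd19 yd20 zd2) (kd xd13 yd3 zd58) (kd xd19 yd11 zd49) (kd xd14 yd41 zd20) (kd xd22 yd19 zd46) (kd xd13 yd4 zd1) (kd xd22 yd15 zd22) (kd xd28 yd42 zd38) (kd xd24 yd7 zd59) (kd xd14 yd27 zd39) (kd xd13 yd12 zd12) (kd xd27 yd21 zd44) (kd xd22 yd20 zd26) (kd xd13 yd4 zd8) (kd xd22 yd42 zd24) (kd xd13 yd14 zd14) (kd xd13 yd14 zd40) (kd xd20 yd47 zd26) (kd xd23 yd6 zd9) (kd xd13 yd14 zd35) (kd xd13 yd14 zd10) (kd xd13 yd14 zd13) (kd xd23 yd6 zd25) (kd xd22 yd16 zd17) (kd xd29 yd52 zd22) (kd xd19 yd21 zd27) (kd xd13 yd4 zd21) (kd xd28 yd21 zd59) (kd xd26 yd10 zd34) (kd xd23 yd12 zd57) (kd xd18 yd5 zd11) (kd xd23 yd22 zd39) (kd xd18 yd37 zd29) (kd xd26 yd18 zd37) (kd xd23 yd18 zd52) (kd xd30 yd23 zd8) (kd xd30 yd23 zd9)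 (kd xd23 yd18 zd55) (kd xd26 yd26 zd29) (kd xd30 yd20 zd52) (kd xd28 yd22 zd42) (kd xd13 yd4 zd29) (kd xd13 yd4 zd56) (kd xd13 yd4 zd57)) (@D3.rec (fun _ => Pt) (kd xd26 yd32 zd42) (kd xd19 yd17 zd22) (kd xd25 yd56 zd12) (kd xd17 yd11 zd1) (kd xd22 yd36 zd54) (kd xd14 yd46 zd18) (kd xd24 yd11 zd16) (kd xd14 yd48 zd48) (kd xd21 yd37 zd2) (kd xd21 yd37 zd3) (kd xd23 yd35 zd50) (kd xd17 yd42 zd51) (kd xd30 yd23 zd14) (kd xd27 yd29 zd5) (kd xd13 yd4 zd40) (kd xd30 yd23 zd17) (kd xd26 yd34 zd4) (kd xd27 yd28 zd37) (kd xd26 yd11 zd25) (kd xd13 yd4 zd42) (kd xd19 yd15 zd7) (kd xd14 yd15 zd0) (kd xd22 yd14 zd24) (kd xd17 yd46 zd41) (kd xd28 yd46 zd40) (kd xd13 yd12 zd36) (kd xd28 yd15 zd29) (kd xd13 yd11 zd20) (kd xd30 yd23 zd11) (kd xd14 yd32 zd21) (kd xd14 yd56 zd47) (kd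 xd27 yd34 zd29) (kd xd18 yd45 zd50) (kd xd13 yd11 zd43) (kd xd21 yd32 zd53) (kd xd23 yd35 zd49) (kd xd23 yd36 zd35) (kd xd28 yd46 zd48) (kd xd23 yd34 zd11) (kd xd23 yd34 zd10) (kd xd13 yd5 zd3) (kd xd30 yd23 zd27) (kd xd30 yd23 zd29) (kd xd28 yd2 zd23) (kd xd13 yd5 zd4) (kd xd23 yd12 zd56) (kd xd26 yd8 zd22) (kd xd23 yd24 zd59) (kd xd30 yd13 zd50) (kd xd30 yd23 zd32) (kd xd23 yd41 zd39) (kd xd18 yd33 zd40) (kd xd13 yd5 zd12) (kd xd13 yd5 zd13) (kd xd30 yd23 zd33) (kd xd30 yd23 zd34) (kd xd13 yd5 zd14) (kd xd21 yd18 zd18) (kd xd13 yd5 zd15) (kd xd21 yd32 zd20) (kd xd29 yd58 zd11) (kd xd13 yd5 zd16)) (@D3.rec (fun _ => Pt) (kd xd24 yd6 zd26) (kd xd22 yd21 zd59) (kd xd22 yd21 zd60) (kd xd14 yd36 zd54) (kd xd20 yd43 zd30) (kd xd13 yd37 zd39) (kd xd22 yd25 zd6) (kd xd13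 yd37 zd11) (kd xd14 yd3 zd13) (kd xd13 yd12 zd58) (kd xd26 yd52 zd43) (kd xd27 yd10 zd39) (kd xd16 yd32 zd41) (kd xd13 yd5 zd26) (kd xd30 yd23 zd48) (kd xd13 yd5 zd29) (kd xd13 yd5 zd30) (kd xd22 yd14 zd41) (kd xd13 yd8 zd7) (kd xd21 yd27 zd36) (kd xd13 yd5 zd32) (kd xd15 yd30 zd25) (kd xd28 yd20 zd35) (kd xd13 yd37 zd31) (kd xd13 yd12 zd60) (kd xd25 yd51 zd25) (kd xd13 yd5 zd36) (kd xd16 yd47 zd11) (kd xd21 yd27 zd14) (kd xd26 yd50 zd34) (kd xd22 yd47 zd0) (kd xd15 yd38 zd53) (kd xd30 yd23 zd59) (kd xd22 yd9 zd43) (kd xd25 yd35 zd22) (kd xd22 yd9 zd11) (kd xd21 yd27 zd39) (kd xd13 yd5 zd43) (kd xd13 yd5 zd45) (kd xd13 yd59 zd13) (kd xd17 yd32 zd5) (kd xd13 yd59 zd9) (kd xd29 yd36 zd47) (kd xd17 yd12 zd17) (kd xd13 yd59 zd3) (kd xd13 yd13 zd22) (kd xd13 yd58 zd54) (kd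 xd22 yd21 zd43) (kd xd30 yd24 zd7) (kd xd27 yd57 zd14) (kd xd16 yd11 zd3) (kd xd13 yd5 zd51) (kd xd13 yd54 zd53) (kd xd18 yd36 zd48) (kd xd30 yd2 zd5) (kd xd13 yd5 zd53) (kd xd22 yd20 zd38) (kd xd22 yd20 zd39) (kd xd22 yd50 zd5) (kd xd22 yd22 zd3) (kd xd24 yd10 zd36) (kd xd24 yd3 zd24)) (@D3.rec (fun _ => Pt) (kd xd22 yd17 zd18) (kd xd17 yd59 zd53) (kd xd30 yd3 zd57) (kd xd30 yd3 zd58) (kd xd22 yd22 zd5) (kd xd22 yd17 zd13) (kd xd28 yd12 zd44) (kd xd19 yd11 zd30) (kd xd29 yd35 zd6) (kd xd13 yd5 zd60) (kd xd19 yd8 zd60) (kd xd30 yd24 zd15) (kd xd24 yd47 zd1) (kd xd22 yd17 zd5) (kd xd19 yd1 zd2) (kd xd20 yd11 zd22) (kd xd28 yd18 zd6) (kd xd20 yd15 zd45) (kd xd22 yd17 zd0) (kd xd19 yd46 zd53) (kd xd19 yd8 zd59) (kd xd26 yd42 zd4) (kd xd24 yd39 zd32) (kd xd16 yd53 zd1)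 (kd xd26 yd24 zd27) (kd xd16 yd33 zd24) (kd xd29 yd53 zd53) (kd xd13 yd6 zd6) (kd xd22 yd12 zd59) (kd xd23 yd32 zd53) (kd xd23 yd31 zd26) (kd xd25 yd1 zd29) (kd xd19 yd19 zd55) (kd xd20 yd8 zd56) (kd xd22 yd23 zd16) (kd xd23 yd12 zd51) (kd xd13 yd35 zd50) (kd xd15 yd8 zd19) (kd xd17 yd51 zd11) (kd xd23 yd13 zd6) (kd xd22 yd23 zd19) (kd xd17 yd11 zd19) (kd xd30 yd24 zd39) (kd xd13 yd6 zd18) (kd xd30 yd24 zd40) (kd xd13 yd6 zd20) (kd xd13 yd6 zd22) (kd xd27 yd1 zd24) (kd xd18 yd39 zd32) (kd xd28 yd15 zd27) (kd xd13 yd6 zd26) (kd xd13 yd6 zd27) (kd xd16 yd6 zd28) (kd xd22 yd12 zd6) (kd xd22 yd12 zd7) (kd xd17 yd55 zd4) (kd xd17 yd55 zd26) (kd xd23 yd58 zd13) (kd xd13 yd6 zd37) (kd xd13 yd6 zd39) (kd xd29 yd20 zd45) (kd xd13 yd6 zd42)) (@D3.rec (fun _ => Pt) (kd xd30 yd24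 zd44) (kd xd27 yd40 zd48) (kd xd13 yd6 zd44) (kd xd24 yd3 zd5) (kd xd26 yd29 zd14) (kd xd13 yd6 zd46) (kd xd27 yd58 zd54) (kd xd28 yd47 zd19) (kd xd13 yd6 zd48) (kd xd27 yd33 zd56) (kd xd30 yd22 zd58) (kd xd27 yd33 zd26) (kd xd27 yd33 zd27) (kd xd27 yd51 zd58) (kd xd13 yd6 zd50) (kd xd13 yd6 zd51) (kd xd15 yd7 zd27) (kd xd20 yd46 zd22) (kd xd21 yd3 zd53) (kd xd30 yd24 zd57) (kd xd22 yd20 zd21) (kd xd30 yd24 zd58) (kd xd30 yd24 zd59) (kd xd30 yd24 zd60) (kd xd24 yd46 zd54) (kd xd14 yd3 zd35) (kd xd23 yd32 zd33) (kd xd14 yd26 zd36) (kd xd19 yd10 zd19) (kd xd29 yd4 zd15) (kd xd22 yd20 zd58) (kd xd23 yd16 zd52) (kd xd13 yd6 zd60) (kd xd13 yd6 zd61) (kd xd22 yd26 zd33) (kd xd14 yd3 zd38) (kd xd14 yd3 zd39) (kd xd23 yd24 zd8) (kd xd14 yd41 zd2) (kd xd13 yd12 zd15) (kd xd20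 yd48 zd55) (kd xd20 yd47 zd51) (kd xd30 yd25 zd1) (kd xd13 yd52 zd33) (kd xd17 yd54 zd7) (kd xd29 yd36 zd43) (kd xd30 yd22 zd43) (kd xd13 yd53 zd41) (kd xd13 yd48 zd25) (kd xd24 yd39 zd14) (kd xd13 yd52 zd34) (kd xd27 yd27 zd46) (kd xd30 yd25 zd5) (kd xd24 yd39 zd18) (kd xd13 yd52 zd35) (kd xd13 yd52 zd36) (kd xd22 yd8 zd45) (kd xd24 yd13 zd60) (kd xd22 yd24 zd12) (kd xd13 yd7 zd21) (kd xd22 yd19 zd35) (kd xd22 yd24 zd16)) (@D3.rec (fun _ => Pt) (kd xd30 yd25 zd15) (kd xd13 yd7 zd14) (kd xd30 yd25 zd18) (kd xd13 yd7 zd15) (kd xd23 yd48 zd52) (kd xd28 yd15 zd9) (kd xd30 yd25 zd21) (kd xd13 yd7 zd17) (kd xd30 yd25 zd23) (kd xd13 yd7 zd18) (kd xd13 yd7 zd19) (kd xd22 yd49 zd6) (kd xd30 yd25 zd12) (kd xd30 yd25 zd25) (kd xd24 yd4 zd48) (kd xd22 yd32 zd11) (kd xd30 yd25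 zd30) (kd xd22 yd32 zd16) (kd xd30 yd25 zd32) (kd xd30 yd25 zd36) (kd xd28 yd2 zd52) (kd xd13 yd7 zd23) (kd xd30 yd25 zd38) (kd xd13 yd7 zd25) (kd xd13 yd7 zd26) (kd xd22 yd25 zd1) (kd xd22 yd13 zd3) (kd xd22 yd59 zd32) (kd xd24 yd26 zd0) (kd xd22 yd40 zd16) (kd xd29 yd37 zd7) (kd xd22 yd36 zd47) (kd xd19 yd13 zd58) (kd xd22 yd36 zd50) (kd xd22 yd40 zd11) (kd xd22 yd18 zd60) (kd xd29 yd36 zd54) (kd xd30 yd20 zd58) (kd xd23 yd23 zd56) (kd xd30 yd25 zd58) (kd xd23 yd51 zd34) (kd xd30 yd22 zd17) (kd xd23 yd39 zd53) (kd xd13 yd7 zd42) (kd xd14 yd14 zd50) (kd xd22 yd26 zd44) (kd xd22 yd14 zd22) (kd xd13 yd8 zd35) (kd xd23 yd47 zd59) (kd xd30 yd20 zd54) (kd xd23 yd2 zd20) (kd xd23 yd4 zd44) (kd xd13 yd7 zd52) (kd xd13 yd7 zd53) (kd xd21 yd11 zd49) (kd xd14 yd52 zd5) (kd xd23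 yd30 zd21) (kd xd24 yd24 zd55) (kd xd13 yd7 zd61) (kd xd30 yd26 zd11) (kd xd13 yd8 zd1) (kd xd13 yd8 zd2)) (@D3.rec (fun _ => Pt) (kd xd23 yd11 zd5) (kd xd14 yd13 zd27) (kd xd13 yd8 zd5) (kd xd14 yd51 zd61) (kd xd26 yd41 zd45) (kd xd30 yd26 zd15) (kd xd13 yd8 zd8) (kd xd30 yd11 zd32) (kd xd13 yd8 zd9) (kd xd30 yd26 zd18) (kd xd13 yd8 zd11) (kd xd30 yd26 zd20) (kd xd24 yd22 zd45) (kd xd24 yd38 zd33) (kd xd30 yd26 zd23) (kd xd27 yd59 zd31) (kd xd24 yd38 zd34) (kd xd13 yd8 zd14) (kd xd28 yd15 zd38) (kd xd16 yd44 zd21) (kd xd13 yd8 zd16) (kd xd22 yd18 zd20) (kd xd19 yd22 zd52) (kd xd19 yd2 zd56) (kd xd17 yd31 zd52) (kd xd28 yd49 zd20) (kd xd22 yd14 zd30) (kd xd27 yd16 zd35) (kd xd29 yd9 zd8) (kd xd18 yd54 zd0) (kd xd19 yd24 zd48) (kd xd19 yd30 zd10) (kd xd22 yd39 zd15)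 (kd xd13 yd8 zd24) (kd xd22 yd21 zd21) (kd xd22 yd21 zd22) (kd xd24 yd24 zd29) (kd xd30 yd21 zd7) (kd xd22 yd16 zd56) (kd xd22 yd16 zd57) (kd xd24 yd38 zd4) (kd xd30 yd21 zd9) (kd xd24 yd37 zd61) (kd xd29 yd3 zd48) (kd xd26 yd59 zd59) (kd xd13 yd8 zd31) (kd xd29 yd38 zd32) (kd xd13 yd53 zd23) (kd xd24 yd24 zd24) (kd xd30 yd26 zd1) (kd xd23 yd34 zd37) (kd xd22 yd25 zd61) (kd xd22 yd25 zd60) (kd xd29 yd39 zd54) (kd xd24 yd37 zd51) (kd xd25 yd27 zd46) (kd xd18 yd48 zd29) (kd xd19 yd22 zd53) (kd xd22 yd18 zd30) (kd xd15 yd22 zd37) (kd xd23 yd56 zd38) (kd xd23 yd11 zd6)) (@D3.rec (fun _ => Pt) (kd xd15 yd53 zd1) (kd xd15 yd34 zd8) (kd xd19 yd41 zd24) (kd xd16 yd46 zd29) (kd xd30 yd26 zd57) (kd xd22 yd49 zd15) (kd xd23 yd1 zd47) (kd xd14 yd49 zd1) (kd xd13 yd8 zd50) (kd xd25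 yd42 zd40) (kd xd13 yd8 zd52) (kd xd24 yd1 zd30) (kd xd13 yd8 zd53) (kd xd23 yd40 zd23) (kd xd23 yd28 zd19) (kd xd30 yd26 zd60) (kd xd17 yd56 zd17) (kd xd17 yd56 zd19) (kd xd25 yd33 zd12) (kd xd13 yd8 zd57) (kd xd22 yd7 zd8) (kd xd22 yd20 zd34) (kd xd22 yd20 zd35) (kd xd22 yd58 zd37) (kd xd16 yd4 zd56) (kd xd30 yd27 zd1) (kd xd27 yd41 zd25) (kd xd13 yd9 zd2) (kd xd29 yd6 zd14) (kd xd13 yd9 zd3) (kd xd20 yd45 zd7) (kd xd19 yd58 zd10) (kd xd29 yd15 zd19) (kd xd23 yd36 zd51) (kd xd30 yd27 zd6) (kd xd13 yd9 zd6) (kd xd24 yd27 zd14) (kd xd30 yd27 zd10) (kd xd30 yd27 zd12) (kd xd25 yd21 zd48) (kd xd13 yd9 zd7) (kd xd29 yd41 zd38) (kd xd23 yd1 zd8) (kd xd22 yd16 zd47) (kd xd26 yd2 zd58) (kd xd20 yd44 zd31) (kd xd17 yd31 zd18) (kd xd20 yd45 zd48) (kd xd17 yd8 zd12) (kd xd13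 yd9 zd13) (kd xd23 yd1 zd10) (kd xd29 yd38 zd49) (kd xd29 yd38 zd48) (kd xd23 yd36 zd43) (kd xd13 yd9 zd16) (kd xd24 yd23 zd30) (kd xd23 yd53 zd23) (kd xd23 yd27 zd22) (kd xd30 yd22 zd37) (kd xd22 yd16 zd1) (kd xd22 yd16 zd2) (kd xd29 yd36 zd61)) (@D3.rec (fun _ => Pt) (kd xd30 yd22 zd40) (kd xd25 yd31 zd16) (kd xd28 yd42 zd29) (kd xd22 yd16 zd59) (kd xd24 yd57 zd8) (kd xd22 yd17 zd4) (kd xd17 yd52 zd20) (kd xd30 yd27 zd25) (kd xd30 yd21 zd41) (kd xd28 yd52 zd4) (kd xd22 yd13 zd7) (kd xd30 yd21 zd42) (kd xd13 yd9 zd34) (kd xd14 yd46 zd17) (kd xd14 yd29 zd15) (kd xd24 yd10 zd21) (kd xd13 yd56 zd3) (kd xd19 yd56 zd45) (kd xd16 yd4 zd52) (kd xd22 yd57 zd15) (kd xd13 yd9 zd40) (kd xd14 yd48 zd29) (kd xd22 yd27 zd7) (kd xd13 yd9 zd49) (kd xd13 yd9 zd52) (kd xd13 yd9 zd54)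 (kd xd13 yd9 zd57) (kd xd15 yd25 zd2) (kd xd29 yd30 zd57) (kd xd13 yd9 zd61) (kd xd21 yd39 zd10) (kd xd30 yd27 zd33) (kd xd13 yd10 zd0) (kd xd25 yd3 zd6) (kd xd13 yd10 zd2) (kd xd13 yd10 zd3) (kd xd26 yd55 zd11) (kd xd29 yd55 zd30) (kd xd25 yd57 zd34) (kd xd13 yd10 zd5) (kd xd13 yd10 zd6) (kd xd20 yd50 zd52) (kd xd13 yd10 zd7) (kd xd23 yd20 zd21) (kd xd28 yd17 zd2) (kd xd24 yd38 zd43) (kd xd22 yd47 zd25) (kd xd25 yd58 zd0) (kd xd19 yd28 zd45) (kd xd19 yd27 zd38) (kd xd13 yd10 zd15) (kd xd22 yd23 zd32) (kd xd25 yd59 zd56) (kd xd22 yd23 zd33) (kd xd25 yd54 zd49) (kd xd21 yd3 zd39) (kd xd30 yd27 zd41) (kd xd13 yd10 zd19) (kd xd30 yd7 zd0) (kd xd17 yd50 zd6) (kd xd30 yd27 zd43) (kd xd24 yd25 zd54)) (@D3.rec (fun _ => Pt) (kd xd29 yd41 zd61) (kd xd24 yd37 zd30) (kd xd29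 yd50 zd44) (kd xd16 yd17 zd6) (kd xd17 yd51 zd8) (kd xd17 yd51 zd7) (kd xd13 yd10 zd28) (kd xd30 yd27 zd48) (kd xd24 yd26 zd45) (kd xd21 yd20 zd40) (kd xd22 yd23 zd25) (kd xd13 yd10 zd38) (kd xd20 yd44 zd30) (kd xd30 yd27 zd49) (kd xd24 yd15 zd53) (kd xd30 yd27 zd50) (kd xd22 yd17 zd34) (kd xd30 yd27 zd52) (kd xd30 yd27 zd53) (kd xd22 yd17 zd40) (kd xd28 yd24 zd54) (kd xd17 yd11 zd15) (kd xd13 yd59 zd16) (kd xd30 yd27 zd56) (kd xd13 yd10 zd50) (kd xd22 yd23 zd10) (kd xd23 yd13 zd56) (kd xd23 yd25 zd10) (kd xd23 yd19 zd55) (kd xd13 yd10 zd53) (kd xd23 yd31 zd21) (kd xd19 yd4 zd27) (kd xd22 yd22 zd51) (kd xd22 yd22 zd53) (kd xd30 yd27 zd59) (kd xd13 yd10 zd60) (kd xd13 yd11 zd2) (kd xd29 yd22 zd25) (kd xd28 yd25 zd17) (kd xd30 yd27 zd61) (kd xd13 yd11 zd5) (kd xd29 yd39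 zd14) (kd xd18 yd54 zd24) (kd xd29 yd48 zd45) (kd xd13 yd11 zd11) (kd xd22 yd42 zd33) (kd xd24 yd3 zd49) (kd xd19 yd25 zd19) (kd xd16 yd59 zd9) (kd xd26 yd43 zd26) (kd xd20 yd45 zd9) (kd xd20 yd48 zd43) (kd xd13 yd12 zd21) (kd xd30 yd28 zd9) (kd xd13 yd11 zd18) (kd xd22 yd13 zd40) (kd xd21 yd13 zd4) (kd xd18 yd49 zd28) (kd xd30 yd23 zd10) (kd xd30 yd28 zd12) (kd xd13 yd11 zd21) (kd xd20 yd58 zd50)) (@D3.rec (fun _ => Pt) (kd xd29 yd44 zd0) (kd xd30 yd28 zd19) (kd xd30 yd21 zd44) (kd xd30 yd21 zd45) (kd xd13 yd11 zd23) (kd xd27 yd0 zd56) (kd xd30 yd21 zd29) (kd xd27 yd3 zd32) (kd xd13 yd19 zd33) (kd xd22 yd12 zd36) (kd xd30 yd28 zd31) (kd xd22 yd35 zd15) (kd xd22 yd18 zd58) (kd xd23 yd13 zd22) (kd xd22 yd42 zd43) (kd xd18 yd56 zd1) (kd xd22 yd18 zd61) (kd xd30 yd28 zd38)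 (kd xd13 yd11 zd31) (kd xd30 yd28 zd41) (kd xd30 yd22 zd38) (kd xd30 yd22 zd42) (kd xd21 yd11 zd21) (kd xd30 yd28 zd48) (kd xd30 yd28 zd51) (kd xd30 yd22 zd6) (kd xd30 yd21 zd43) (kd xd28 yd34 zd14) (kd xd30 yd28 zd54) (kd xd24 yd16 zd40) (kd xd24 yd26 zd46) (kd xd25 yd25 zd9) (kd xd26 yd2 zd4) (kd xd30 yd28 zd58) (kd xd13 yd11 zd42) (kd xd30 yd28 zd60) (kd xd18 yd45 zd52) (kd xd30 yd29 zd1) (kd xd30 yd29 zd2) (kd xd30 yd29 zd7) (kd xd13 yd11 zd44) (kd xd27 yd1 zd10) (kd xd26 yd45 zd24) (kd xd13 yd11 zd45) (kd xd22 yd47 zd40) (kd xd23 yd46 zd36) (kd xd13 yd49 zd52) (kd xd13 yd19 zd17) (kd xd30 yd29 zd15) (kd xd30 yd29 zd18) (kd xd30 yd22 zd4) (kd xd23 yd4 zd53) (kd xd13 yd11 zd51) (kd xd29 yd39 zd46) (kd xd29 yd38 zd4) (kd xd16 yd39 zd60) (kd xd13 yd11 zd55) (kd xd25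 yd52 zd49) (kd xd16 yd37 zd32) (kd xd16 yd37 zd31) (kd xd30 yd29 zd25) (kd xd13 yd11 zd56)) (@D3.rec (fun _ => Pt) (kd xd28 yd54 zd9) (kd xd22 yd19 zd25) (kd xd28 yd51 zd10) (kd xd26 yd43 zd54) (kd xd13 yd11 zd58) (kd xd25 yd52 zd44) (kd xd22 yd16 zd6) (kd xd29 yd37 zd15) (kd xd30 yd22 zd1) (kd xd30 yd22 zd8) (kd xd29 yd48 zd29) (kd xd27 yd2 zd17) (kd xd30 yd29 zd32) (kd xd13 yd12 zd0) (kd xd13 yd12 zd1) (kd xd25 yd35 zd21) (kd xd13 yd12 zd3) (kd xd13 yd12 zd4) (kd xd25 yd52 zd51) (kd xd30 yd29 zd33) (kd xd13 yd12 zd5) (kd xd30 yd29 zd39) (kd xd14 yd41 zd16) (kd xd13 yd12 zd7) (kd xd15 yd55 zd32) (kd xd30 yd22 zd2) (kd xd30 yd22 zd3) (kd xd30 yd21 zd46) (kd xd23 yd22 zd2) (kd xd25 yd56 zd16) (kd xd18 yd46 zd43) (kd xd20 yd44 zd23) (kd xd18 yd49 zd50) (kd xd13 yd12 zd11)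 (kd xd30 yd22 zd13) (kd xd30 yd22 zd14) (kd xd26 yd53 zd45) (kd xd26 yd33 zd22) (kd xd30 yd22 zd9) (kd xd26 yd51 zd61) (kd xd30 yd22 zd46) (kd xd23 yd50 zd57) (kd xd20 yd45 zd40) (kd xd30 yd20 zd57) (kd xd27 yd6 zd30) (kd xd24 yd2 zd4) (kd xd26 yd51 zd28) (kd xd13 yd12 zd16) (kd xd24 yd2 zd2) (kd xd27 yd8 zd14) (kd xd27 yd6 zd55) (kd xd26 yd51 zd27) (kd xd30 yd29 zd61) (kd xd13 yd12 zd18) (kd xd23 yd46 zd10) (kd xd30 yd28 zd36) (kd xd14 yd29 zd53) (kd xd20 yd59 zd51) (kd xd28 yd53 zd12) (kd xd21 yd47 zd41) (kd xd22 yd20 zd52) (kd xd22 yd20 zd51)) (@D3.rec (fun _ => Pt) (kd xd13 yd12 zd22) (kd xd27 yd23 zd52) (kd xd24 yd0 zd42) (kd xd13 yd12 zd23) (kd xd20 yd37 zd23) (kd xd30 yd30 zd6) (kd xd13 yd12 zd24) (kd xd24 yd9 zd18) (kd xd13 yd21 zd39) (kd xd20 yd9 zd34) (kd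 xd13 yd12 zd26) (kd xd13 yd12 zd27) (kd xd13 yd12 zd28) (kd xd23 yd27 zd20) (kd xd30 yd22 zd54) (kd xd24 yd11 zd59) (kd xd24 yd39 zd38) (kd xd30 yd20 zd61) (kd xd22 yd54 zd58) (kd xd28 yd29 zd16) (kd xd28 yd29 zd19) (kd xd30 yd22 zd15) (kd xd13 yd12 zd35) (kd xd16 yd36 zd31) (kd xd27 yd59 zd34) (kd xd30 yd30 zd19) (kd xd13 yd12 zd37) (kd xd19 yd9 zd24) (kd xd30 yd30 zd23) (kd xd30 yd30 zd25) (kd xd30 yd22 zd34) (kd xd13 yd21 zd37) (kd xd26 yd49 zd27) (kd xd22 yd18 zd34) (kd xd23 yd56 zd44) (kd xd16 yd33 zd17) (kd xd19 yd22 zd23) (kd xd19 yd22 zd29) (kd xd13 yd12 zd44) (kd xd24 yd6 zd2) (kd xd30 yd30 zd5) (kd xd22 yd56 zd45) (kd xd24 yd39 zd34) (kd xd13 yd18 zd14) (kd xd22 yd19 zd45) (kd xd22 yd29 zd50) (kd xd13 yd12 zd50) (kd xd14 yd3 zd34) (kd xd23 yd52 zd43) (kd xd23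 yd52 zd42) (kd xd14 yd39 zd45) (kd xd13 yd12 zd52) (kd xd14 yd3 zd42) (kd xd30 yd30 zd37) (kd xd13 yd12 zd54) (kd xd14 yd52 zd41) (kd xd13 yd12 zd56) (kd xd29 yd36 zd30) (kd xd13 yd12 zd57) (kd xd23 yd54 zd26) (kd xd20 yd11 zd21) (kd xd22 yd6 zd50)) (@D3.rec (fun _ => Pt) (kd xd24 yd57 zd13) (kd xd24 yd57 zd12) (kd xd16 yd27 zd18) (kd xd23 yd33 zd17) (kd xd23 yd38 zd18) (kd xd23 yd38 zd19) (kd xd13 yd25 zd57) (kd xd22 yd22 zd22) (kd xd13 yd25 zd56) (kd xd23 yd29 zd34) (kd xd23 yd14 zd55) (kd xd15 yd7 zd58) (kd xd25 yd2 zd29) (kd xd23 yd26 zd54) (kd xd23 yd26 zd55) (kd xd23 yd40 zd30) (kd xd23 yd59 zd47) (kd xd29 yd21 zd19) (kd xd13 yd13 zd12) (kd xd28 yd18 zd44) (kd xd16 yd37 zd24) (kd xd13 yd13 zd13) (kd xd20 yd37 zd9) (kd xd16 yd37 zd23) (kd xd14 yd14 zd52) (kd xd16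 yd37 zd20) (kd xd16 yd37 zd19) (kd xd19 yd25 zd54) (kd xd19 yd47 zd24) (kd xd29 yd53 zd11) (kd xd23 yd54 zd15) (kd xd13 yd13 zd16) (kd xd29 yd21 zd20) (kd xd13 yd17 zd57) (kd xd30 yd31 zd16) (kd xd30 yd31 zd18) (kd xd30 yd31 zd19) (kd xd30 yd22 zd10) (kd xd13 yd13 zd20) (kd xd30 yd31 zd22) (kd xd13 yd13 zd21) (kd xd30 yd24 zd2) (kd xd17 yd12 zd18) (kd xd29 yd39 zd43) (kd xd30 yd31 zd28) (kd xd21 yd14 zd56) (kd xd17 yd57 zd33) (kd xd30 yd31 zd29) (kd xd23 yd41 zd3) (kd xd13 yd13 zd25) (kd xd13 yd13 zd26) (kd xd19 yd30 zd16) (kd xd23 yd17 zd8) (kd xd23 yd45 zd24) (kd xd23 yd44 zd34) (kd xd23 yd45 zd3) (kd xd27 yd26 zd6) (kd xd13 yd13 zd31) (kd xd23 yd45 zd11) (kd xd23 yd34 zd7) (kd xd13 yd13 zd34) (kd xd30 yd31 zd35)) (@D3.rec (fun _ => Pt) (kd xd24 yd42 zd40) (kd xd30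 yd4 zd46) (kd xd30 yd4 zd44) (kd xd22 yd43 zd51) (kd xd30 yd31 zd41) (kd xd23 yd12 zd15) (kd xd13 yd37 zd20) (kd xd30 yd31 zd44) (kd xd16 yd11 zd15) (kd xd16 yd11 zd14) (kd xd14 yd50 zd57) (kd xd23 yd16 zd20) (kd xd13 yd13 zd44) (kd xd22 yd43 zd37) (kd xd29 yd58 zd39) (kd xd29 yd58 zd43) (kd xd21 yd34 zd37) (kd xd23 yd25 zd27) (kd xd13 yd13 zd49) (kd xd13 yd57 zd38) (kd xd16 yd11 zd54) (kd xd23 yd3 zd16) (kd xd29 yd23 zd17) (kd xd30 yd31 zd46) (kd xd14 yd55 zd11) (kd xd17 yd36 zd30) (kd xd21 yd25 zd3) (kd xd21 yd33 zd39) (kd xd21 yd19 zd56) (kd xd21 yd19 zd61) (kd xd21 yd19 zd60) (kd xd21 yd24 zd61) (kd xd17 yd37 zd60) (kd xd13 yd13 zd53) (kd xd13 yd13 zd54) (kd xd25 yd3 zd18) (kd xd13 yd13 zd57) (kd xd13 yd38 zd23) (kd xd13 yd27 zd44) (kd xd27 yd40 zd19) (kd xd13 yd46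 zd37) (kd xd22 yd46 zd40) (kd xd22 yd46 zd39) (kd xd29 yd41 zd4) (kd xd13 yd14 zd2) (kd xd13 yd14 zd4) (kd xd23 yd15 zd53) (kd xd23 yd2 zd58) (kd xd24 yd12 zd32) (kd xd22 yd42 zd10) (kd xd23 yd21 zd3) (kd xd22 yd42 zd13) (kd xd23 yd20 zd30) (kd xd28 yd5 zd26) (kd xd30 yd23 zd6) (kd xd15 yd8 zd58) (kd xd25 yd12 zd22) (kd xd25 yd12 zd43) (kd xd22 yd48 zd6) (kd xd17 yd30 zd11) (kd xd27 yd17 zd61) (kd xd22 yd5 zd53)) (@D3.rec (fun _ => Pt) (kd xd21 yd29 zd50) (kd xd13 yd14 zd15) (kd xd20 yd31 zd42) (kd xd13 yd38 zd22) (kd xd23 yd3 zd23) (kd xd13 yd14 zd20) (kd xd13 yd40 zd6) (kd xd13 yd14 zd22) (kd xd18 yd21 zd43) (kd xd24 yd55 zd34) (kd xd13 yd14 zd26) (kd xd13 yd50 zd15) (kd xd30 yd31 zd56) (kd xd23 yd15 zd55) (kd xd26 yd4 zd9) (kd xd27 yd57 zd45) (kd xd13 yd47 zd40)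 (kd xd23 yd15 zd60) (kd xd26 yd32 zd38) (kd xd13 yd14 zd31) (kd xd23 yd14 zd3) (kd xd13 yd14 zd32) (kd xd30 yd31 zd60) (kd xd30 yd23 zd5) (kd xd30 yd32 zd0) (kd xd13 yd32 zd20) (kd xd16 yd28 zd41) (kd xd22 yd54 zd1) (kd xd13 yd32 zd27) (kd xd13 yd51 zd13) (kd xd29 yd54 zd11) (kd xd13 yd51 zd17) (kd xd24 yd31 zd18) (kd xd17 yd51 zd44) (kd xd27 yd29 zd40) (kd xd13 yd14 zd42) (kd xd29 yd30 zd3) (kd xd13 yd14 zd43) (kd xd30 yd32 zd4) (kd xd28 yd11 zd10) (kd xd28 yd11 zd11) (kd xd23 yd18 zd18) (kd xd13 yd14 zd46) (kd xd20 yd32 zd16) (kd xd13 yd14 zd50) (kd xd23 yd28 zd7) (kd xd30 yd32 zd13) (kd xd13 yd14 zd52) (kd xd14 yd19 zd60) (kd xd13 yd14 zd53) (kd xd22 yd26 zd45) (kd xd24 yd6 zd8) (kd xd13 yd14 zd55) (kd xd13 yd14 zd56) (kd xd14 yd53 zd31) (kd xd13 yd14 zd58) (kd xd14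 yd53 zd34) (kd xd13 yd34 zd7) (kd xd14 yd53 zd38) (kd xd13 yd17 zd6) (kd xd13 yd15 zd0) (kd xd14 yd53 zd36)) (@D3.rec (fun _ => Pt) (kd xd13 yd23 zd41) (kd xd14 yd53 zd37) (kd xd13 yd33 zd31) (kd xd18 yd22 zd48) (kd xd26 yd7 zd22) (kd xd23 yd19 zd34) (kd xd26 yd7 zd23) (kd xd13 yd15 zd7) (kd xd30 yd32 zd35) (kd xd23 yd5 zd28) (kd xd30 yd32 zd39) (kd xd23 yd5 zd32) (kd xd30 yd2 zd16) (kd xd13 yd15 zd10) (kd xd13 yd15 zd11) (kd xd27 yd56 zd60) (kd xd26 yd7 zd45) (kd xd25 yd43 zd27) (kd xd24 yd40 zd51) (kd xd23 yd53 zd46) (kd xd13 yd15 zd22) (kd xd13 yd34 zd15) (kd xd13 yd34 zd16) (kd xd29 yd55 zd39) (kd xd23 yd6 zd43) (kd xd23 yd6 zd47) (kd xd13 yd15 zd25) (kd xd20 yd0 zd59) (kd xd30 yd32 zd42) (kd xd13 yd15 zd31) (kd xd30 yd32 zd43) (kd xd13 yd15 zd33) (kd xd13 yd23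 zd58) (kd xd16 yd20 zd26) (kd xd13 yd15 zd35) (kd xd23 yd17 zd57) (kd xd13 yd15 zd37) (kd xd13 yd15 zd38) (kd xd13 yd37 zd23) (kd xd13 yd48 zd11) (kd xd23 yd10 zd5) (kd xd22 yd41 zd57) (kd xd23 yd44 zd48) (kd xd16 yd27 zd32) (kd xd16 yd27 zd33) (kd xd23 yd10 zd10) (kd xd16 yd23 zd45) (kd xd13 yd16 zd4) (kd xd25 yd3 zd3) (kd xd30 yd32 zd52) (kd xd13 yd15 zd46) (kd xd28 yd20 zd21) (kd xd13 yd15 zd47) (kd xd23 yd21 zd53) (kd xd13 yd15 zd48) (kd xd27 yd55 zd50) (kd xd21 yd28 zd41) (kd xd20 yd27 zd54) (kd xd26 yd22 zd33) (kd xd29 yd30 zd1) (kd xd13 yd15 zd51) (kd xd13 yd15 zd52)) (@D3.rec (fun _ => Pt) (kd xd13 yd15 zd53) (kd xd13 yd39 zd13) (kd xd13 yd39 zd14) (kd xd30 yd33 zd4) (kd xd23 yd55 zd53) (kd xd25 yd47 zd43) (kd xd23 yd55 zd55) (kd xd26 yd8 zd4) (kd xd30 yd33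 zd9) (kd xd26 yd47 zd61) (kd xd29 yd11 zd37) (kd xd21 yd21 zd39) (kd xd13 yd16 zd2) (kd xd13 yd15 zd59) (kd xd28 yd3 zd4) (kd xd26 yd9 zd39) (kd xd30 yd13 zd25) (kd xd22 yd55 zd49) (kd xd13 yd26 zd15) (kd xd29 yd11 zd34) (kd xd30 yd33 zd17) (kd xd30 yd33 zd19) (kd xd30 yd33 zd12) (kd xd13 yd16 zd3) (kd xd13 yd16 zd6) (kd xd30 yd33 zd23) (kd xd19 yd0 zd1) (kd xd30 yd33 zd25) (kd xd30 yd33 zd26) (kd xd19 yd9 zd18) (kd xd14 yd42 zd57) (kd xd30 yd33 zd30) (kd xd16 yd35 zd42) (kd xd30 yd33 zd33) (kd xd30 yd33 zd34) (kd xd13 yd16 zd13) (kd xd16 yd11 zd28) (kd xd29 yd31 zd44) (kd xd27 yd57 zd56) (kd xd24 yd9 zd34) (kd xd13 yd49 zd43) (kd xd26 yd20 zd1) (kd xd17 yd54 zd24) (kd xd27 yd55 zd48) (kd xd18 yd58 zd49) (kd xd22 yd50 zd7) (kd xd13 yd34 zd37) (kd xd30 yd33 zd39) (kd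 xd20 yd6 zd17) (kd xd14 yd54 zd38) (kd xd21 yd8 zd43) (kd xd21 yd27 zd51) (kd xd24 yd32 zd53) (kd xd22 yd33 zd2) (kd xd22 yd41 zd19) (kd xd13 yd16 zd20) (kd xd30 yd33 zd45) (kd xd13 yd16 zd21) (kd xd29 yd29 zd3) (kd xd13 yd16 zd22) (kd xd30 yd33 zd53) (kd xd30 yd29 zd13)) (@D3.rec (fun _ => Pt) (kd xd13 yd16 zd24) (kd xd13 yd16 zd25) (kd xd29 yd19 zd26) (kd xd19 yd18 zd53) (kd xd13 yd16 zd28) (kd xd13 yd16 zd31) (kd xd14 yd10 zd27) (kd xd13 yd16 zd32) (kd xd23 yd57 zd56) (kd xd24 yd22 zd2) (kd xd13 yd16 zd39) (kd xd22 yd19 zd15) (kd xd13 yd16 zd40) (kd xd30 yd25 zd35) (kd xd13 yd36 zd44) (kd xd26 yd32 zd24) (kd xd22 yd19 zd17) (kd xd14 yd10 zd26) (kd xd24 yd1 zd43) (kd xd16 yd23 zd6) (kd xd19 yd44 zd8) (kd xd30 yd32 zd18) (kd xd24 yd11 zd7) (kd xd13 yd16 zd54) (kd xd14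 yd30 zd44) (kd xd14 yd21 zd16) (kd xd13 yd35 zd18) (kd xd27 yd20 zd12) (kd xd23 yd45 zd54) (kd xd23 yd45 zd55) (kd xd14 yd21 zd32) (kd xd30 yd34 zd0) (kd xd24 yd21 zd30) (kd xd24 yd21 zd29) (kd xd14 yd41 zd0) (kd xd30 yd34 zd2) (kd xd13 yd16 zd60) (kd xd13 yd34 zd55) (kd xd14 yd19 zd7) (kd xd13 yd32 zd16) (kd xd18 yd40 zd56) (kd xd24 yd11 zd13) (kd xd23 yd10 zd61) (kd xd28 yd43 zd42) (kd xd18 yd46 zd41) (kd xd18 yd49 zd56) (kd xd19 yd4 zd31) (kd xd30 yd34 zd5) (kd xd30 yd34 zd6) (kd xd30 yd34 zd7) (kd xd13 yd40 zd51) (kd xd26 yd29 zd24) (kd xd23 yd46 zd8) (kd xd13 yd17 zd10) (kd xd30 yd34 zd8) (kd xd30 yd34 zd10) (kd xd24 yd30 zd1) (kd xd13 yd17 zd12) (kd xd24 yd25 zd34) (kd xd22 yd46 zd48) (kd xd14 yd25 zd52) (kd xd13 yd17 zd15)) (@D3.rec (fun _ => Pt) (kd xd13 yd33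 zd61) (kd xd14 yd21 zd37) (kd xd22 yd31 zd53) (kd xd15 yd55 zd2) (kd xd15 yd55 zd3) (kd xd13 yd23 zd48) (kd xd13 yd17 zd21) (kd xd28 yd25 zd23) (kd xd30 yd34 zd17) (kd xd30 yd34 zd18) (kd xd13 yd17 zd23) (kd xd30 yd34 zd20) (kd xd13 yd17 zd24) (kd xd14 yd41 zd31) (kd xd13 yd17 zd25) (kd xd14 yd27 zd31) (kd xd22 yd46 zd59) (kd xd22 yd56 zd27) (kd xd30 yd34 zd28) (kd xd13 yd17 zd27) (kd xd23 yd6 zd35) (kd xd13 yd29 zd33) (kd xd13 yd22 zd48) (kd xd14 yd24 zd45) (kd xd13 yd17 zd36) (kd xd15 yd56 zd57) (kd xd13 yd27 zd26) (kd xd16 yd46 zd39) (kd xd30 yd34 zd36) (kd xd30 yd34 zd37) (kd xd13 yd17 zd43) (kd xd30 yd34 zd38) (kd xd14 yd27 zd1) (kd xd13 yd17 zd45) (kd xd13 yd17 zd46) (kd xd25 yd30 zd57) (kd xd14 yd27 zd9) (kd xd13 yd17 zd51) (kd xd30 yd34 zd41) (kd xd13 yd17 zd53)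 (kd xd14 yd44 zd19) (kd xd23 yd55 zd29) (kd xd23 yd55 zd32) (kd xd13 yd17 zd56) (kd xd30 yd34 zd50) (kd xd23 yd59 zd60) (kd xd14 yd23 zd2) (kd xd28 yd37 zd16) (kd xd30 yd34 zd39) (kd xd24 yd0 zd1) (kd xd13 yd27 zd21) (kd xd30 yd34 zd54) (kd xd24 yd28 zd2) (kd xd23 yd24 zd14) (kd xd13 yd27 zd23) (kd xd30 yd34 zd58) (kd xd14 yd27 zd19) (kd xd25 yd59 zd22) (kd xd30 yd34 zd59) (kd xd14 yd27 zd25) (kd xd13 yd18 zd4) (kd xd23 yd9 zd61)) (@D3.rec (fun _ => Pt) (kd xd13 yd18 zd6) (kd xd23 yd6 zd41) (kd xd14 yd43 zd0) (kd xd14 yd43 zd1) (kd xd18 yd23 zd54) (kd xd30 yd35 zd0) (kd xd23 yd16 zd37) (kd xd22 yd56 zd57) (kd xd29 yd54 zd27) (kd xd13 yd18 zd12) (kd xd14 yd26 zd26) (kd xd22 yd0 zd39) (kd xd24 yd9 zd2) (kd xd14 yd3 zd36) (kd xd29 yd29 zd58) (kd xd30 yd35 zd9) (kd xd13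 yd18 zd18) (kd xd13 yd18 zd21) (kd xd30 yd35 zd10) (kd xd13 yd34 zd42) (kd xd18 yd23 zd52) (kd xd24 yd30 zd11) (kd xd14 yd3 zd40) (kd xd25 yd18 zd15) (kd xd30 yd32 zd21) (kd xd25 yd16 zd1) (kd xd13 yd18 zd28) (kd xd20 yd1 zd35) (kd xd13 yd18 zd30) (kd xd14 yd26 zd51) (kd xd24 yd18 zd31) (kd xd14 yd24 zd18) (kd xd24 yd18 zd32) (kd xd24 yd7 zd6) (kd xd14 yd22 zd17) (kd xd23 yd56 zd10) (kd xd23 yd56 zd13) (kd xd17 yd38 zd21) (kd xd13 yd18 zd36) (kd xd27 yd53 zd54) (kd xd23 yd56 zd28) (kd xd22 yd35 zd9) (kd xd27 yd23 zd17) (kd xd19 yd40 zd60) (kd xd30 yd19 zd53) (kd xd23 yd56 zd30) (kd xd13 yd18 zd42) (kd xd13 yd18 zd43) (kd xd24 yd0 zd58) (kd xd23 yd36 zd49) (kd xd22 yd50 zd48) (kd xd27 yd32 zd59) (kd xd24 yd29 zd50) (kd xd14 yd22 zd51) (kd xd14 yd22 zd52) (kd xd22 yd35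 zd0) (kd xd28 yd6 zd30) (kd xd30 yd25 zd57) (kd xd28 yd18 zd27) (kd xd24 yd29 zd55) (kd xd18 yd33 zd14) (kd xd30 yd31 zd33)) (@D3.rec (fun _ => Pt) (kd xd22 yd34 zd55) (kd xd23 yd34 zd14) (kd xd30 yd35 zd43) (kd xd30 yd35 zd44) (kd xd13 yd18 zd50) (kd xd30 yd35 zd47) (kd xd14 yd3 zd43) (kd xd27 yd40 zd0) (kd xd14 yd24 zd28) (kd xd22 yd34 zd41) (kd xd25 yd44 zd61) (kd xd22 yd35 zd16) (kd xd23 yd51 zd3) (kd xd14 yd1 zd15) (kd xd24 yd13 zd57) (kd xd22 yd24 zd11) (kd xd22 yd35 zd11) (kd xd30 yd35 zd53) (kd xd30 yd11 zd53) (kd xd14 yd38 zd3) (kd xd24 yd24 zd46) (kd xd29 yd58 zd14) (kd xd13 yd19 zd0) (kd xd30 yd35 zd55) (kd xd13 yd19 zd1) (kd xd22 yd48 zd57) (kd xd30 yd35 zd59) (kd xd13 yd19 zd3) (kd xd13 yd19 zd4) (kd xd30 yd35 zd60) (kd xd30 yd36 zd0) (kd xd13 yd19 zd6)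 (kd xd13 yd19 zd8) (kd xd16 yd22 zd44) (kd xd23 yd21 zd33) (kd xd13 yd19 zd11) (kd xd23 yd20 zd5) (kd xd16 yd22 zd46) (kd xd13 yd19 zd13) (kd xd13 yd19 zd14) (kd xd30 yd5 zd41) (kd xd17 yd10 zd38) (kd xd17 yd11 zd50) (kd xd19 yd9 zd45) (kd xd13 yd19 zd16) (kd xd24 yd24 zd17) (kd xd23 yd6 zd61) (kd xd19 yd24 zd10) (kd xd13 yd19 zd21) (kd xd18 yd50 zd15) (kd xd19 yd7 zd61) (kd xd13 yd34 zd53) (kd xd23 yd33 zd59) (kd xd17 yd11 zd34) (kd xd13 yd34 zd56) (kd xd28 yd21 zd0) (kd xd30 yd36 zd20) (kd xd30 yd36 zd22) (kd xd13 yd19 zd25) (kd xd14 yd30 zd5) (kd xd18 yd5 zd60) (kd xd14 yd31 zd46)) (@D3.rec (fun _ => Pt) (kd xd18 yd5 zd57) (kd xd13 yd19 zd29) (kd xd14 yd40 zd49) (kd xd23 yd56 zd41) (kd xd13 yd19 zd34) (kd xd14 yd31 zd9) (kd xd22 yd59 zd6) (kd xd26 yd49 zd33) (kd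 xd13 yd19 zd36) (kd xd13 yd35 zd16) (kd xd13 yd19 zd42) (kd xd23 yd57 zd41) (kd xd24 yd12 zd16) (kd xd24 yd24 zd58) (kd xd14 yd39 zd5) (kd xd17 yd14 zd33) (kd xd20 yd13 zd4) (kd xd14 yd29 zd59) (kd xd14 yd31 zd35) (kd xd13 yd19 zd53) (kd xd23 yd57 zd10) (kd xd21 yd32 zd13) (kd xd22 yd39 zd24) (kd xd24 yd40 zd43) (kd xd30 yd20 zd32) (kd xd30 yd5 zd28) (kd xd19 yd2 zd8) (kd xd13 yd20 zd0) (kd xd25 yd51 zd50) (kd xd21 yd51 zd35) (kd xd13 yd20 zd5) (kd xd30 yd36 zd35) (kd xd13 yd20 zd6) (kd xd23 yd12 zd59) (kd xd30 yd36 zd38) (kd xd13 yd20 zd7) (kd xd19 yd19 zd3) (kd xd13 yd35 zd15) (kd xd13 yd35 zd34) (kd xd30 yd36 zd45) (kd xd22 yd59 zd41) (kd xd13 yd20 zd10) (kd xd14 yd54 zd25) (kd xd13 yd20 zd12) (kd xd14 yd54 zd28) (kd xd13 yd20 zd16) (kd xd13 yd20 zd17) (kd xd22 yd19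 zd31) (kd xd14 yd31 zd14) (kd xd14 yd33 zd51) (kd xd22 yd19 zd33) (kd xd13 yd36 zd46) (kd xd13 yd53 zd26) (kd xd28 yd3 zd50) (kd xd22 yd15 zd4) (kd xd14 yd22 zd26) (kd xd23 yd1 zd44) (kd xd15 yd36 zd18) (kd xd18 yd44 zd44) (kd xd21 yd3 zd34) (kd xd21 yd3 zd35) (kd xd24 yd15 zd2)) (@D3.rec (fun _ => Pt) (kd xd26 yd58 zd22) (kd xd17 yd30 zd54) (kd xd13 yd20 zd35) (kd xd21 yd7 zd37) (kd xd13 yd20 zd40) (kd xd14 yd36 zd38) (kd xd13 yd20 zd42) (kd xd14 yd21 zd21) (kd xd14 yd21 zd20) (kd xd23 yd59 zd5) (kd xd14 yd35 zd30) (kd xd13 yd20 zd46) (kd xd13 yd20 zd47) (kd xd21 yd28 zd30) (kd xd13 yd36 zd17) (kd xd13 yd20 zd48) (kd xd23 yd12 zd23) (kd xd24 yd23 zd6) (kd xd28 yd57 zd7) (kd xd14 yd52 zd25) (kd xd14 yd40 zd61) (kd xd26 yd51 zd45) (kd xd30 yd36 zd54) (kd xd14 yd39 zd53)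 (kd xd13 yd20 zd57) (kd xd29 yd51 zd60) (kd xd13 yd20 zd59) (kd xd21 yd52 zd42) (kd xd26 yd23 zd37) (kd xd21 yd52 zd44) (kd xd22 yd46 zd42) (kd xd24 yd18 zd16) (kd xd14 yd36 zd32) (kd xd20 yd41 zd9) (kd xd23 yd55 zd61) (kd xd24 yd57 zd23) (kd xd14 yd20 zd50) (kd xd16 yd24 zd34) (kd xd24 yd22 zd3) (kd xd29 yd39 zd7) (kd xd13 yd21 zd4) (kd xd13 yd21 zd5) (kd xd24 yd2 zd10) (kd xd13 yd28 zd23) (kd xd14 yd10 zd35) (kd xd22 yd58 zd42) (kd xd13 yd21 zd8) (kd xd14 yd28 zd48) (kd xd14 yd38 zd14) (kd xd30 yd37 zd9) (kd xd21 yd24 zd33) (kd xd23 yd36 zd7) (kd xd29 yd19 zd17) (kd xd27 yd9 zd54) (kd xd30 yd37 zd12) (kd xd30 yd37 zd13) (kd xd13 yd32 zd6) (kd xd13 yd21 zd32) (kd xd24 yd24 zd38) (kd xd24 yd41 zd8) (kd xd22 yd57 zd11) (kd xd13 yd35 zd5)) (@D3.rec (fun _ => Pt) (kd xd16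 yd32 zd46) (kd xd14 yd28 zd7) (kd xd23 yd12 zd47) (kd xd30 yd37 zd16) (kd xd30 yd37 zd20) (kd xd30 yd37 zd22) (kd xd14 yd28 zd10) (kd xd14 yd42 zd4) (kd xd23 yd40 zd13) (kd xd14 yd42 zd13) (kd xd25 yd34 zd31) (kd xd29 yd11 zd6) (kd xd21 yd34 zd30) (kd xd23 yd39 zd61) (kd xd13 yd21 zd27) (kd xd30 yd37 zd24) (kd xd20 yd48 zd20) (kd xd21 yd34 zd24) (kd xd13 yd21 zd28) (kd xd29 yd58 zd16) (kd xd30 yd37 zd26) (kd xd20 yd47 zd31) (kd xd20 yd44 zd21) (kd xd25 yd51 zd56) (kd xd13 yd21 zd31) (kd xd30 yd36 zd30) (kd xd13 yd21 zd34) (kd xd24 yd53 zd17) (kd xd15 yd52 zd61) (kd xd13 yd21 zd36) (kd xd29 yd36 zd28) (kd xd28 yd17 zd51) (kd xd24 yd38 zd35) (kd xd14 yd31 zd16) (kd xd20 yd5 zd57) (kd xd17 yd24 zd20) (kd xd13 yd21 zd41) (kd xd13 yd21 zd42) (kd xd15 yd52 zd56) (kd xd14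 yd18 zd34) (kd xd22 yd52 zd52) (kd xd23 yd59 zd21) (kd xd25 yd46 zd21) (kd xd13 yd21 zd47) (kd xd21 yd55 zd54) (kd xd23 yd20 zd12) (kd xd13 yd21 zd48) (kd xd30 yd36 zd53) (kd xd24 yd22 zd41) (kd xd13 yd21 zd51) (kd xd30 yd37 zd33) (kd xd18 yd45 zd38) (kd xd13 yd32 zd14) (kd xd13 yd32 zd15) (kd xd13 yd21 zd54) (kd xd26 yd17 zd12) (kd xd15 yd36 zd15) (kd xd13 yd21 zd55) (kd xd18 yd45 zd39) (kd xd30 yd37 zd34) (kd xd30 yd37 zd35) (kd xd28 yd43 zd52)) (@D3.rec (fun _ => Pt) (kd xd28 yd2 zd51) (kd xd30 yd37 zd36) (kd xd30 yd7 zd21) (kd xd30 yd36 zd23) (kd xd30 yd1 zd7) (kd xd13 yd21 zd61) (kd xd23 yd10 zd60) (kd xd24 yd20 zd61) (kd xd14 yd44 zd44) (kd xd30 yd37 zd38) (kd xd13 yd22 zd5) (kd xd29 yd6 zd33) (kd xd13 yd22 zd8) (kd xd30 yd37 zd40) (kd xd23 yd24 zd53) (kd xd22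 yd20 zd32) (kd xd13 yd22 zd12) (kd xd30 yd36 zd25) (kd xd13 yd22 zd13) (kd xd13 yd36 zd6) (kd xd13 yd22 zd14) (kd xd30 yd37 zd47) (kd xd30 yd37 zd21) (kd xd30 yd36 zd10) (kd xd22 yd36 zd22) (kd xd14 yd29 zd2) (kd xd14 yd29 zd41) (kd xd14 yd21 zd31) (kd xd13 yd34 zd52) (kd xd13 yd41 zd15) (kd xd14 yd18 zd4) (kd xd13 yd29 zd39) (kd xd23 yd58 zd44) (kd xd23 yd58 zd43) (kd xd14 yd21 zd36) (kd xd13 yd35 zd25) (kd xd13 yd35 zd26) (kd xd21 yd9 zd5) (kd xd19 yd7 zd29) (kd xd18 yd47 zd49) (kd xd29 yd1 zd49) (kd xd24 yd13 zd39) (kd xd23 yd57 zd16) (kd xd19 yd7 zd25) (kd xd14 yd21 zd35) (kd xd22 yd48 zd59) (kd xd23 yd7 zd33) (kd xd30 yd38 zd20) (kd xd30 yd38 zd22) (kd xd22 yd59 zd61) (kd xd22 yd49 zd0) (kd xd17 yd24 zd21) (kd xd23 yd45 zd57) (kd xd13 yd30 zd46) (kd xd28 yd41 zd26)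 (kd xd24 yd21 zd43) (kd xd23 yd45 zd59) (kd xd18 yd46 zd6) (kd xd28 yd22 zd25) (kd xd13 yd29 zd43) (kd xd19 yd4 zd2) (kd xd27 yd46 zd24)) (@D3.rec (fun _ => Pt) (kd xd19 yd15 zd16) (kd xd18 yd49 zd59) (kd xd13 yd22 zd34) (kd xd26 yd22 zd2) (kd xd30 yd38 zd39) (kd xd13 yd22 zd36) (kd xd14 yd41 zd18) (kd xd14 yd41 zd19) (kd xd27 yd8 zd53) (kd xd14 yd34 zd25) (kd xd24 yd14 zd61) (kd xd22 yd19 zd34) (kd xd27 yd59 zd9) (kd xd24 yd15 zd46) (kd xd24 yd15 zd45) (kd xd14 yd34 zd31) (kd xd22 yd19 zd29) (kd xd13 yd22 zd44) (kd xd13 yd22 zd45) (kd xd14 yd42 zd40) (kd xd14 yd42 zd41) (kd xd17 yd15 zd57) (kd xd30 yd34 zd29) (kd xd14 yd23 zd4) (kd xd30 yd38 zd50) (kd xd30 yd38 zd51) (kd xd24 yd2 zd15) (kd xd14 yd41 zd59) (kd xd27 yd13 zd32) (kd xd14 yd41 zd60) (kd xd27 yd8 zd50) (kd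 xd24 yd29 zd41) (kd xd14 yd27 zd29) (kd xd28 yd1 zd8) (kd xd14 yd27 zd32) (kd xd14 yd38 zd38) (kd xd23 yd27 zd29) (kd xd30 yd38 zd56) (kd xd14 yd27 zd38) (kd xd17 yd53 zd8) (kd xd24 yd0 zd7) (kd xd14 yd39 zd54) (kd xd30 yd38 zd57) (kd xd13 yd22 zd61) (kd xd30 yd38 zd60) (kd xd30 yd39 zd0) (kd xd13 yd23 zd0) (kd xd30 yd31 zd20) (kd xd23 yd27 zd55) (kd xd13 yd23 zd1) (kd xd30 yd39 zd5) (kd xd23 yd39 zd58) (kd xd23 yd38 zd53) (kd xd26 yd9 zd20) (kd xd13 yd23 zd3) (kd xd14 yd55 zd52) (kd xd14 yd21 zd50) (kd xd29 yd22 zd21) (kd xd13 yd23 zd6) (kd xd14 yd24 zd32) (kd xd14 yd19 zd59) (kd xd14 yd41 zd32)) (@D3.rec (fun _ => Pt) (kd xd24 yd0 zd2) (kd xd24 yd1 zd40) (kd xd29 yd26 zd14) (kd xd13 yd23 zd13) (kd xd30 yd39 zd12) (kd xd24 yd8 zd58) (kd xd13 yd23 zd14) (kd xd28 yd29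 zd30) (kd xd14 yd10 zd37) (kd xd13 yd28 zd43) (kd xd21 yd11 zd7) (kd xd23 yd6 zd1) (kd xd23 yd6 zd17) (kd xd23 yd6 zd18) (kd xd22 yd51 zd3) (kd xd23 yd4 zd24) (kd xd19 yd30 zd53) (kd xd13 yd42 zd50) (kd xd14 yd39 zd48) (kd xd22 yd31 zd54) (kd xd25 yd52 zd34) (kd xd22 yd51 zd13) (kd xd14 yd53 zd43) (kd xd13 yd23 zd39) (kd xd30 yd39 zd16) (kd xd30 yd32 zd29) (kd xd30 yd35 zd58) (kd xd30 yd35 zd57) (kd xd24 yd10 zd51) (kd xd13 yd43 zd53) (kd xd20 yd37 zd12) (kd xd14 yd23 zd11) (kd xd14 yd23 zd27) (kd xd27 yd8 zd55) (kd xd27 yd18 zd60) (kd xd13 yd33 zd35) (kd xd13 yd30 zd44) (kd xd13 yd33 zd37) (kd xd13 yd30 zd45) (kd xd22 yd48 zd60) (kd xd24 yd27 zd51) (kd xd24 yd0 zd11) (kd xd30 yd34 zd16) (kd xd21 yd12 zd39) (kd xd18 yd49 zd18) (kd xd13 yd23 zd49) (kd xd23 yd6 zd3) (kd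 xd13 yd34 zd44) (kd xd28 yd35 zd49) (kd xd28 yd53 zd25) (kd xd13 yd23 zd52) (kd xd24 yd40 zd35) (kd xd24 yd10 zd50) (kd xd24 yd7 zd44) (kd xd23 yd56 zd16) (kd xd13 yd23 zd54) (kd xd30 yd39 zd51) (kd xd22 yd30 zd41) (kd xd23 yd6 zd8) (kd xd18 yd19 zd58) (kd xd16 yd20 zd15) (kd xd18 yd15 zd57)) (@D3.rec (fun _ => Pt) (kd xd28 yd28 zd3) (kd xd13 yd24 zd0) (kd xd29 yd14 zd61) (kd xd13 yd24 zd1) (kd xd30 yd39 zd53) (kd xd13 yd24 zd3) (kd xd13 yd24 zd4) (kd xd17 yd15 zd31) (kd xd13 yd37 zd60) (kd xd24 yd31 zd11) (kd xd22 yd28 zd49) (kd xd21 yd8 zd15) (kd xd22 yd51 zd59) (kd xd22 yd28 zd51) (kd xd13 yd38 zd1) (kd xd21 yd33 zd42) (kd xd13 yd32 zd31) (kd xd22 yd52 zd29) (kd xd22 yd52 zd28) (kd xd13 yd32 zd37) (kd xd28 yd27 zd3) (kd xd13 yd24 zd10) (kd xd23 yd14 zd22) (kd xd13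 yd24 zd11) (kd xd22 yd14 zd32) (kd xd14 yd53 zd3) (kd xd14 yd3 zd23) (kd xd14 yd3 zd16) (kd xd14 yd48 zd23) (kd xd14 yd3 zd19) (kd xd30 yd28 zd35) (kd xd23 yd22 zd6) (kd xd13 yd24 zd21) (kd xd22 yd23 zd45) (kd xd23 yd22 zd45) (kd xd21 yd32 zd25) (kd xd13 yd24 zd23) (kd xd30 yd39 zd61) (kd xd13 yd24 zd26) (kd xd13 yd24 zd28) (kd xd13 yd28 zd21) (kd xd13 yd32 zd10) (kd xd13 yd46 zd53) (kd xd22 yd24 zd14) (kd xd24 yd11 zd3) (kd xd18 yd15 zd46) (kd xd23 yd7 zd19) (kd xd13 yd24 zd34) (kd xd19 yd19 zd59) (kd xd24 yd35 zd3) (kd xd23 yd38 zd44) (kd xd13 yd54 zd26) (kd xd30 yd40 zd5) (kd xd30 yd40 zd8) (kd xd30 yd4 zd54) (kd xd23 yd39 zd3) (kd xd30 yd40 zd9) (kd xd13 yd24 zd39) (kd xd14 yd45 zd44) (kd xd14 yd52 zd59) (kd xd30 yd40 zd20) (kd xd23 yd2 zd33)) (@D3.rec (fun _ =>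 Pt) (kd xd21 yd27 zd56) (kd xd30 yd1 zd3) (kd xd21 yd19 zd44) (kd xd13 yd24 zd46) (kd xd13 yd24 zd47) (kd xd14 yd46 zd15) (kd xd13 yd24 zd48) (kd xd14 yd49 zd35) (kd xd14 yd55 zd8) (kd xd25 yd40 zd38) (kd xd23 yd41 zd22) (kd xd14 yd46 zd29) (kd xd29 yd10 zd4) (kd xd30 yd40 zd33) (kd xd30 yd40 zd34) (kd xd23 yd41 zd34) (kd xd14 yd24 zd43) (kd xd14 yd32 zd45) (kd xd14 yd45 zd54) (kd xd14 yd44 zd21) (kd xd14 yd32 zd48) (kd xd13 yd55 zd0) (kd xd14 yd32 zd50) (kd xd14 yd32 zd51) (kd xd25 yd53 zd44) (kd xd24 yd42 zd17) (kd xd14 yd54 zd52) (kd xd22 yd45 zd23) (kd xd14 yd55 zd1) (kd xd17 yd4 zd6) (kd xd14 yd56 zd9) (kd xd30 yd40 zd49) (kd xd30 yd40 zd52) (kd xd19 yd54 zd11) (kd xd24 yd35 zd34) (kd xd14 yd55 zd3) (kd xd30 yd10 zd48) (kd xd22 yd28 zd13) (kd xd26 yd14 zd53) (kd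 xd14 yd54 zd58) (kd xd30 yd41 zd3) (kd xd14 yd54 zd60) (kd xd14 yd54 zd33) (kd xd14 yd54 zd34) (kd xd25 yd40 zd19) (kd xd13 yd25 zd2) (kd xd23 yd31 zd53) (kd xd14 yd9 zd14) (kd xd13 yd25 zd4) (kd xd15 yd45 zd16) (kd xd21 yd18 zd23) (kd xd22 yd28 zd3) (kd xd30 yd41 zd8) (kd xd19 yd32 zd9) (kd xd24 yd35 zd55) (kd xd14 yd53 zd59) (kd xd24 yd40 zd44) (kd xd13 yd25 zd10) (kd xd14 yd55 zd60) (kd xd22 yd44 zd21) (kd xd28 yd11 zd24) (kd xd23 yd1 zd50)) (@D3.rec (fun _ => Pt) (kd xd13 yd52 zd57) (kd xd14 yd11 zd21) (kd xd13 yd25 zd15) (kd xd13 yd25 zd18) (kd xd13 yd25 zd19) (kd xd13 yd54 zd8) (kd xd25 yd38 zd39) (kd xd23 yd27 zd41) (kd xd14 yd2 zd33) (kd xd26 yd47 zd36) (kd xd30 yd41 zd18) (kd xd30 yd41 zd20) (kd xd23 yd28 zd4) (kd xd30 yd41 zd21) (kd xd30 yd41 zd22) (kd xd13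 yd25 zd23) (kd xd14 yd54 zd9) (kd xd14 yd49 zd0) (kd xd30 yd41 zd31) (kd xd24 yd33 zd26) (kd xd14 yd45 zd45) (kd xd22 yd43 zd59) (kd xd18 yd1 zd6) (kd xd14 yd46 zd54) (kd xd24 yd33 zd28) (kd xd14 yd54 zd7) (kd xd13 yd25 zd29) (kd xd22 yd55 zd17) (kd xd13 yd25 zd30) (kd xd13 yd25 zd31) (kd xd14 yd46 zd22) (kd xd14 yd55 zd2) (kd xd23 yd29 zd48) (kd xd23 yd29 zd61) (kd xd14 yd49 zd42) (kd xd30 yd41 zd50) (kd xd30 yd41 zd52) (kd xd30 yd41 zd54) (kd xd23 yd30 zd14) (kd xd19 yd46 zd47) (kd xd13 yd25 zd35) (kd xd30 yd41 zd57) (kd xd24 yd36 zd54) (kd xd19 yd55 zd19) (kd xd23 yd1 zd7) (kd xd14 yd55 zd9) (kd xd14 yd9 zd19) (kd xd14 yd54 zd47) (kd xd23 yd42 zd47) (kd xd14 yd9 zd23) (kd xd14 yd50 zd58) (kd xd30 yd42 zd3) (kd xd30 yd42 zd6) (kd xd27 yd43 zd21) (kd xd25 yd14 zd42)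 (kd xd14 yd51 zd6) (kd xd14 yd54 zd53) (kd xd14 yd54 zd51) (kd xd30 yd40 zd47) (kd xd23 yd23 zd43) (kd xd23 yd23 zd42) (kd xd20 yd0 zd1)) (@D3.rec (fun _ => Pt) (kd xd13 yd25 zd45) (kd xd13 yd59 zd7) (kd xd27 yd56 zd48) (kd xd17 yd55 zd29) (kd xd13 yd25 zd48) (kd xd23 yd19 zd32) (kd xd14 yd40 zd7) (kd xd17 yd55 zd31) (kd xd13 yd25 zd49) (kd xd17 yd38 zd25) (kd xd14 yd47 zd33) (kd xd22 yd55 zd18) (kd xd14 yd47 zd42) (kd xd14 yd2 zd3) (kd xd14 yd2 zd4) (kd xd23 yd34 zd54) (kd xd14 yd49 zd37) (kd xd14 yd49 zd38) (kd xd14 yd54 zd36) (kd xd14 yd55 zd44) (kd xd14 yd54 zd44) (kd xd27 yd1 zd47) (kd xd30 yd42 zd23) (kd xd22 yd43 zd27) (kd xd15 yd18 zd22) (kd xd21 yd45 zd19) (kd xd13 yd26 zd4) (kd xd23 yd14 zd7) (kd xd24 yd10 zd22) (kd xd26 yd7 zd18) (kd xd27 yd23 zd60) (kd xd24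 yd35 zd45) (kd xd23 yd37 zd23) (kd xd30 yd42 zd27) (kd xd23 yd37 zd26) (kd xd30 yd42 zd28) (kd xd30 yd42 zd0) (kd xd21 yd55 zd23) (kd xd28 yd1 zd29) (kd xd28 yd1 zd30) (kd xd23 yd36 zd28) (kd xd30 yd20 zd34) (kd xd13 yd26 zd12) (kd xd13 yd26 zd16) (kd xd29 yd51 zd22) (kd xd14 yd5 zd22) (kd xd30 yd42 zd32) (kd xd13 yd26 zd17) (kd xd29 yd52 zd8) (kd xd24 yd42 zd28) (kd xd29 yd58 zd19) (kd xd29 yd58 zd22) (kd xd24 yd42 zd29) (kd xd30 yd36 zd11) (kd xd13 yd26 zd20) (kd xd14 yd7 zd0) (kd xd21 yd41 zd1) (kd xd13 yd26 zd21) (kd xd13 yd37 zd21) (kd xd30 yd42 zd39) (kd xd21 yd27 zd55) (kd xd23 yd30 zd37)) (@D3.rec (fun _ => Pt) (kd xd14 yd54 zd43) (kd xd24 yd32 zd59) (kd xd24 yd32 zd58) (kd xd14 yd47 zd49) (kd xd23 yd1 zd51) (kd xd23 yd1 zd52) (kd xd25 yd44 zd12) (kd xd13 yd26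 zd29) (kd xd23 yd25 zd45) (kd xd27 yd47 zd42) (kd xd13 yd26 zd30) (kd xd27 yd4 zd33) (kd xd18 yd54 zd51) (kd xd13 yd49 zd44) (kd xd19 yd1 zd50) (kd xd24 yd46 zd59) (kd xd27 yd41 zd36) (kd xd30 yd28 zd27) (kd xd13 yd26 zd48) (kd xd22 yd50 zd0) (kd xd29 yd54 zd44) (kd xd22 yd51 zd5) (kd xd17 yd24 zd47) (kd xd24 yd2 zd5) (kd xd18 yd15 zd54) (kd xd15 yd7 zd40) (kd xd22 yd51 zd7) (kd xd13 yd43 zd52) (kd xd24 yd24 zd48) (kd xd13 yd26 zd57) (kd xd27 yd2 zd43) (kd xd14 yd22 zd57) (kd xd24 yd40 zd32) (kd xd18 yd41 zd21) (kd xd14 yd10 zd38) (kd xd30 yd11 zd60) (kd xd17 yd20 zd53) (kd xd15 yd8 zd8) (kd xd13 yd39 zd32) (kd xd22 yd28 zd42) (kd xd22 yd28 zd41) (kd xd23 yd34 zd26) (kd xd22 yd37 zd30) (kd xd18 yd35 zd51) (kd xd18 yd36 zd24) (kd xd22 yd52 zd5) (kd xd13 yd27 zd12) (kd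 xd14 yd19 zd19) (kd xd22 yd32 zd59) (kd xd14 yd18 zd26) (kd xd23 yd4 zd19) (kd xd29 yd32 zd6) (kd xd30 yd34 zd44) (kd xd14 yd17 zd0) (kd xd13 yd27 zd33) (kd xd30 yd34 zd35) (kd xd23 yd12 zd16) (kd xd30 yd33 zd0) (kd xd23 yd15 zd43) (kd xd22 yd33 zd16) (kd xd23 yd33 zd32) (kd xd18 yd54 zd53)) (@D3.rec (fun _ => Pt) (kd xd22 yd16 zd30) (kd xd30 yd14 zd50) (kd xd14 yd41 zd45) (kd xd13 yd44 zd38) (kd xd30 yd15 zd21) (kd xd30 yd42 zd59) (kd xd13 yd27 zd31) (kd xd30 yd43 zd3) (kd xd13 yd27 zd32) (kd xd16 yd52 zd7) (kd xd30 yd43 zd6) (kd xd30 yd9 zd35) (kd xd22 yd50 zd16) (kd xd23 yd6 zd29) (kd xd18 yd20 zd41) (kd xd18 yd49 zd16) (kd xd13 yd28 zd6) (kd xd18 yd20 zd31) (kd xd21 yd18 zd44) (kd xd26 yd32 zd34) (kd xd24 yd56 zd29) (kd xd15 yd4 zd46) (kd xd15 yd7 zd61) (kd xd24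 yd26 zd1) (kd xd13 yd27 zd60) (kd xd22 yd22 zd46) (kd xd13 yd27 zd61) (kd xd23 yd2 zd17) (kd xd13 yd28 zd0) (kd xd13 yd28 zd2) (kd xd29 yd24 zd29) (kd xd13 yd28 zd3) (kd xd26 yd53 zd12) (kd xd20 yd45 zd6) (kd xd28 yd18 zd49) (kd xd28 yd18 zd48) (kd xd23 yd13 zd42) (kd xd23 yd13 zd46) (kd xd20 yd47 zd38) (kd xd30 yd29 zd44) (kd xd22 yd24 zd44) (kd xd13 yd28 zd10) (kd xd25 yd8 zd33) (kd xd24 yd46 zd28) (kd xd26 yd23 zd54) (kd xd13 yd47 zd36) (kd xd14 yd51 zd41) (kd xd27 yd30 zd16) (kd xd22 yd52 zd18) (kd xd22 yd54 zd31) (kd xd13 yd48 zd39) (kd xd30 yd43 zd17) (kd xd23 yd15 zd7) (kd xd23 yd15 zd6) (kd xd13 yd48 zd44) (kd xd13 yd28 zd18) (kd xd13 yd28 zd19) (kd xd22 yd54 zd12) (kd xd13 yd47 zd12) (kd xd30 yd43 zd25) (kd xd29 yd14 zd55) (kd xd24 yd8 zd1)) (@D3.rec (fun _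 => Pt) (kd xd23 yd27 zd3) (kd xd24 yd22 zd4) (kd xd30 yd34 zd3) (kd xd20 yd7 zd8) (kd xd27 yd59 zd21) (kd xd27 yd59 zd20) (kd xd22 yd28 zd58) (kd xd13 yd51 zd1) (kd xd30 yd43 zd28) (kd xd13 yd51 zd5) (kd xd14 yd32 zd4) (kd xd25 yd26 zd5) (kd xd30 yd43 zd30) (kd xd24 yd31 zd24) (kd xd13 yd51 zd10) (kd xd14 yd18 zd30) (kd xd15 yd21 zd4) (kd xd14 yd28 zd0) (kd xd15 yd31 zd20) (kd xd15 yd34 zd19) (kd xd30 yd36 zd46) (kd xd30 yd36 zd47) (kd xd23 yd5 zd26) (kd xd13 yd28 zd36) (kd xd13 yd28 zd37) (kd xd24 yd38 zd60) (kd xd30 yd43 zd40) (kd xd24 yd59 zd59) (kd xd23 yd18 zd25) (kd xd23 yd18 zd50) (kd xd22 yd57 zd3) (kd xd13 yd38 zd21) (kd xd30 yd43 zd46) (kd xd24 yd39 zd0) (kd xd30 yd43 zd48) (kd xd16 yd32 zd52) (kd xd14 yd15 zd29) (kd xd14 yd15 zd30) (kd xd29 yd40 zd54) (kd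 xd13 yd29 zd7) (kd xd13 yd32 zd46) (kd xd15 yd34 zd18) (kd xd24 yd18 zd53) (kd xd13 yd45 zd29) (kd xd13 yd29 zd10) (kd xd23 yd11 zd59) (kd xd13 yd28 zd50) (kd xd13 yd34 zd20) (kd xd13 yd34 zd21) (kd xd15 yd38 zd54) (kd xd14 yd40 zd45) (kd xd30 yd43 zd57) (kd xd30 yd37 zd27) (kd xd14 yd40 zd50) (kd xd30 yd13 zd28) (kd xd20 yd11 zd60) (kd xd13 yd28 zd55) (kd xd22 yd35 zd25) (kd xd30 yd43 zd60) (kd xd22 yd39 zd45) (kd xd22 yd41 zd39) (kd xd30 yd38 zd13)) (@D3.rec (fun _ => Pt) (kd xd22 yd39 zd50) (kd xd30 yd33 zd55) (kd xd13 yd28 zd59) (kd xd30 yd23 zd50) (kd xd13 yd28 zd60) (kd xd20 yd1 zd58) (kd xd22 yd19 zd11) (kd xd19 yd41 zd43) (kd xd24 yd6 zd53) (kd xd13 yd29 zd0) (kd xd13 yd29 zd1) (kd xd30 yd34 zd23) (kd xd30 yd44 zd3) (kd xd30 yd20 zd44) (kd xd30 yd24 zd34) (kd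 xd22 yd21 zd5) (kd xd14 yd17 zd35) (kd xd29 yd19 zd23) (kd xd28 yd14 zd61) (kd xd20 yd8 zd57) (kd xd20 yd8 zd58) (kd xd13 yd29 zd6) (kd xd30 yd44 zd12) (kd xd19 yd27 zd13) (kd xd30 yd44 zd15) (kd xd30 yd43 zd52) (kd xd19 yd2 zd41) (kd xd13 yd29 zd8) (kd xd19 yd2 zd40) (kd xd30 yd44 zd17) (kd xd13 yd29 zd9) (kd xd30 yd44 zd18) (kd xd23 yd6 zd19) (kd xd30 yd44 zd20) (kd xd13 yd29 zd13) (kd xd23 yd3 zd18) (kd xd27 yd53 zd56) (kd xd13 yd29 zd16) (kd xd27 yd53 zd37) (kd xd30 yd44 zd22) (kd xd13 yd29 zd18) (kd xd24 yd57 zd49) (kd xd30 yd44 zd25) (kd xd30 yd44 zd27) (kd xd13 yd29 zd19) (kd xd29 yd38 zd50) (kd xd30 yd44 zd30) (kd xd30 yd44 zd32) (kd xd28 yd9 zd32) (kd xd13 yd29 zd20) (kd xd30 yd44 zd36) (kd xd30 yd44 zd38) (kd xd16 yd24 zd56) (kd xd16 yd26 zd28) (kd xd13 yd49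 zd38) (kd xd13 yd29 zd26) (kd xd13 yd29 zd27) (kd xd23 yd4 zd13) (kd xd23 yd3 zd39) (kd xd23 yd3 zd40) (kd xd25 yd18 zd29) (kd xd23 yd4 zd14)) (@D3.rec (fun _ => Pt) (kd xd22 yd46 zd19) (kd xd20 yd19 zd43) (kd xd13 yd52 zd1) (kd xd30 yd44 zd43) (kd xd30 yd34 zd33) (kd xd22 yd16 zd58) (kd xd27 yd57 zd29) (kd xd22 yd31 zd45) (kd xd23 yd21 zd50) (kd xd28 yd56 zd16) (kd xd20 yd28 zd48) (kd xd24 yd4 zd10) (kd xd23 yd47 zd28) (kd xd30 yd44 zd45) (kd xd24 yd9 zd28) (kd xd30 yd44 zd47) (kd xd22 yd47 zd12) (kd xd30 yd38 zd2) (kd xd14 yd38 zd7) (kd xd20 yd35 zd45) (kd xd20 yd35 zd46) (kd xd24 yd5 zd24) (kd xd13 yd29 zd42) (kd xd21 yd52 zd39) (kd xd30 yd44 zd59) (kd xd30 yd45 zd0) (kd xd30 yd38 zd33) (kd xd22 yd58 zd15) (kd xd28 yd22 zd24) (kd xd30 yd45 zd2) (kd xd20 yd26 zd25)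 (kd xd21 yd53 zd56) (kd xd21 yd55 zd1) (kd xd13 yd29 zd49) (kd xd14 yd15 zd38) (kd xd30 yd34 zd19) (kd xd30 yd22 zd56) (kd xd13 yd29 zd51) (kd xd13 yd29 zd53) (kd xd27 yd13 zd34) (kd xd30 yd45 zd9) (kd xd22 yd57 zd53) (kd xd13 yd46 zd23) (kd xd13 yd29 zd57) (kd xd13 yd29 zd58) (kd xd13 yd29 zd59) (kd xd13 yd29 zd60) (kd xd13 yd29 zd61) (kd xd22 yd34 zd50) (kd xd14 yd17 zd20) (kd xd30 yd45 zd12) (kd xd14 yd28 zd22) (kd xd30 yd45 zd16) (kd xd30 yd45 zd18) (kd xd20 yd0 zd51) (kd xd30 yd45 zd20) (kd xd23 yd10 zd33) (kd xd30 yd45 zd24) (kd xd30 yd45 zd27) (kd xd30 yd45 zd29) (kd xd13 yd30 zd5) (kd xd19 yd12 zd39)) (@D3.rec (fun _ => Pt) (kd xd25 yd5 zd11) (kd xd28 yd9 zd48) (kd xd23 yd10 zd23) (kd xd22 yd41 zd14) (kd xd30 yd45 zd33) (kd xd22 yd46 zd21) (kd xd15 yd8 zd29)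 (kd xd22 yd46 zd26) (kd xd13 yd30 zd21) (kd xd30 yd45 zd34) (kd xd13 yd30 zd23) (kd xd13 yd30 zd24) (kd xd23 yd5 zd56) (kd xd22 yd41 zd21) (kd xd13 yd30 zd30) (kd xd30 yd39 zd52) (kd xd22 yd53 zd7) (kd xd13 yd30 zd32) (kd xd26 yd20 zd25) (kd xd29 yd55 zd7) (kd xd26 yd56 zd12) (kd xd21 yd53 zd1) (kd xd30 yd45 zd36) (kd xd30 yd45 zd37) (kd xd29 yd29 zd0) (kd xd13 yd30 zd34) (kd xd28 yd26 zd25) (kd xd13 yd30 zd36) (kd xd25 yd58 zd24) (kd xd15 yd7 zd4) (kd xd13 yd48 zd23) (kd xd28 yd41 zd25) (kd xd30 yd45 zd43) (kd xd24 yd9 zd19) (kd xd22 yd55 zd11) (kd xd24 yd9 zd21) (kd xd15 yd0 zd21) (kd xd21 yd44 zd37) (kd xd30 yd39 zd27) (kd xd30 yd39 zd30) (kd xd21 yd52 zd45) (kd xd30 yd19 zd8) (kd xd29 yd28 zd57) (kd xd30 yd38 zd27) (kd xd22 yd59 zd28) (kd xd27 yd15 zd29) (kd xd18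 yd35 zd48) (kd xd30 yd45 zd52) (kd xd30 yd44 zd34) (kd xd30 yd44 zd35) (kd xd23 yd20 zd35) (kd xd21 yd10 zd48) (kd xd29 yd55 zd29) (kd xd28 yd5 zd28) (kd xd28 yd5 zd27) (kd xd18 yd9 zd37) (kd xd13 yd30 zd56) (kd xd16 yd28 zd8) (kd xd13 yd30 zd58) (kd xd22 yd42 zd12) (kd xd15 yd7 zd50) (kd xd30 yd45 zd61)) (@D3.rec (fun _ => Pt) (kd xd23 yd7 zd53) (kd xd30 yd46 zd0) (kd xd20 yd45 zd52) (kd xd26 yd25 zd19) (kd xd15 yd0 zd16) (kd xd22 yd46 zd45) (kd xd30 yd46 zd1) (kd xd21 yd51 zd40) (kd xd30 yd2 zd36) (kd xd13 yd31 zd8) (kd xd13 yd31 zd9) (kd xd22 yd13 zd45) (kd xd13 yd31 zd11) (kd xd14 yd18 zd53) (kd xd18 yd36 zd12) (kd xd15 yd31 zd48) (kd xd13 yd50 zd48) (kd xd29 yd23 zd37) (kd xd22 yd47 zd48) (kd xd27 yd39 zd24) (kd xd15 yd23 zd42) (kd xd20 yd42 zd36) (kd xd24 yd59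 zd40) (kd xd25 yd7 zd27) (kd xd25 yd6 zd57) (kd xd30 yd46 zd11) (kd xd13 yd31 zd19) (kd xd24 yd11 zd20) (kd xd22 yd42 zd18) (kd xd22 yd42 zd17) (kd xd13 yd31 zd20) (kd xd20 yd32 zd37) (kd xd30 yd46 zd13) (kd xd20 yd42 zd35) (kd xd14 yd58 zd23) (kd xd27 yd43 zd50) (kd xd15 yd9 zd35) (kd xd23 yd7 zd26) (kd xd24 yd46 zd31) (kd xd15 yd53 zd16) (kd xd30 yd46 zd18) (kd xd13 yd31 zd25) (kd xd15 yd37 zd50) (kd xd19 yd46 zd54) (kd xd16 yd31 zd36) (kd xd16 yd28 zd19) (kd xd27 yd43 zd55) (kd xd13 yd31 zd27) (kd xd30 yd46 zd21) (kd xd13 yd48 zd42) (kd xd13 yd48 zd43) (kd xd24 yd31 zd41) (kd xd22 yd38 zd40) (kd xd13 yd31 zd29) (kd xd22 yd9 zd46) (kd xd13 yd31 zd30) (kd xd23 yd9 zd25) (kd xd30 yd6 zd8) (kd xd13 yd31 zd33) (kd xd30 yd32 zd16) (kd xd23 yd8 zd6) (kd xd30 yd46 zd26))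 (@D3.rec (fun _ => Pt) (kd xd29 yd30 zd6) (kd xd13 yd33 zd59) (kd xd30 yd18 zd61) (kd xd14 yd16 zd35) (kd xd30 yd46 zd33) (kd xd17 yd0 zd38) (kd xd30 yd46 zd35) (kd xd22 yd51 zd16) (kd xd30 yd46 zd37) (kd xd30 yd46 zd40) (kd xd30 yd30 zd43) (kd xd13 yd31 zd40) (kd xd18 yd53 zd0) (kd xd20 yd32 zd55) (kd xd20 yd32 zd54) (kd xd13 yd31 zd41) (kd xd21 yd15 zd41) (kd xd30 yd46 zd46) (kd xd30 yd46 zd47) (kd xd29 yd39 zd45) (kd xd16 yd43 zd53) (kd xd16 yd33 zd41) (kd xd21 yd15 zd17) (kd xd14 yd51 zd22) (kd xd14 yd50 zd45) (kd xd18 yd52 zd16) (kd xd21 yd1 zd57) (kd xd24 yd14 zd10) (kd xd24 yd14 zd6) (kd xd25 yd34 zd13) (kd xd13 yd31 zd52) (kd xd30 yd46 zd53) (kd xd23 yd10 zd28) (kd xd23 yd5 zd12) (kd xd23 yd9 zd24) (kd xd13 yd31 zd54) (kd xd30 yd46 zd56) (kd xd23 yd23 zd8) (kd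 xd13 yd43 zd14) (kd xd13 yd31 zd55) (kd xd25 yd59 zd29) (kd xd13 yd31 zd56) (kd xd30 yd46 zd61) (kd xd30 yd18 zd48) (kd xd30 yd43 zd14) (kd xd23 yd16 zd7) (kd xd13 yd31 zd58) (kd xd23 yd14 zd4) (kd xd23 yd38 zd27) (kd xd13 yd32 zd1) (kd xd21 yd30 zd6) (kd xd14 yd5 zd23) (kd xd13 yd32 zd3) (kd xd24 yd5 zd44) (kd xd21 yd13 zd52) (kd xd13 yd32 zd11) (kd xd30 yd47 zd10) (kd xd30 yd47 zd13) (kd xd30 yd36 zd2) (kd xd30 yd37 zd4) (kd xd13 yd32 zd13) (kd xd23 yd27 zd32)) (@D3.rec (fun _ => Pt) (kd xd23 yd27 zd24) (kd xd22 yd29 zd27) (kd xd17 yd59 zd10) (kd xd23 yd27 zd40) (kd xd30 yd47 zd16) (kd xd13 yd32 zd17) (kd xd29 yd19 zd4) (kd xd30 yd46 zd42) (kd xd30 yd46 zd43) (kd xd30 yd47 zd22) (kd xd13 yd32 zd18) (kd xd30 yd47 zd26) (kd xd22 yd47 zd57) (kd xd24 yd29 zd1) (kd xd27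 yd33 zd40) (kd xd19 yd13 zd12) (kd xd25 yd34 zd6) (kd xd25 yd34 zd14) (kd xd16 yd42 zd46) (kd xd16 yd42 zd45) (kd xd15 yd15 zd38) (kd xd26 yd13 zd3) (kd xd19 yd36 zd43) (kd xd13 yd32 zd25) (kd xd19 yd37 zd12) (kd xd13 yd32 zd26) (kd xd24 yd46 zd30) (kd xd15 yd16 zd55) (kd xd13 yd32 zd28) (kd xd20 yd32 zd31) (kd xd25 yd54 zd47) (kd xd22 yd47 zd49) (kd xd15 yd12 zd60) (kd xd25 yd46 zd45) (kd xd25 yd26 zd13) (kd xd25 yd5 zd16) (kd xd30 yd47 zd30) (kd xd28 yd48 zd14) (kd xd13 yd32 zd34) (kd xd25 yd51 zd30) (kd xd15 yd31 zd8) (kd xd13 yd32 zd35) (kd xd30 yd34 zd4) (kd xd13 yd32 zd36) (kd xd26 yd24 zd21) (kd xd14 yd27 zd61) (kd xd29 yd20 zd53) (kd xd19 yd45 zd6) (kd xd13 yd32 zd39) (kd xd15 yd21 zd3) (kd xd30 yd46 zd49) (kd xd20 yd44 zd1) (kd xd29 yd40 zd0) (kd xd19 yd8 zd52)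 (kd xd15 yd31 zd19) (kd xd20 yd50 zd16) (kd xd20 yd50 zd15) (kd xd30 yd46 zd48) (kd xd22 yd26 zd18) (kd xd15 yd39 zd54) (kd xd13 yd33 zd18) (kd xd23 yd8 zd26)) (@D3.rec (fun _ => Pt) (kd xd13 yd33 zd50) (kd xd30 yd47 zd45) (kd xd25 yd5 zd22) (kd xd29 yd5 zd20) (kd xd29 yd34 zd36) (kd xd30 yd47 zd47) (kd xd29 yd50 zd42) (kd xd13 yd32 zd50) (kd xd30 yd47 zd51) (kd xd22 yd9 zd6) (kd xd13 yd32 zd51) (kd xd22 yd51 zd34) (kd xd13 yd32 zd52) (kd xd14 yd38 zd26) (kd xd14 yd37 zd48) (kd xd13 yd32 zd53) (kd xd13 yd32 zd54) (kd xd22 yd44 zd27) (kd xd22 yd45 zd11) (kd xd30 yd47 zd59) (kd xd14 yd0 zd4) (kd xd23 yd13 zd10) (kd xd23 yd31 zd1) (kd xd14 yd0 zd9) (kd xd13 yd32 zd60) (kd xd23 yd5 zd52) (kd xd21 yd4 zd56) (kd xd30 yd47 zd60) (kd xd30 yd47 zd61) (kd xd16 yd26 zd31) (kd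 xd19 yd56 zd52) (kd xd13 yd33 zd2) (kd xd24 yd13 zd16) (kd xd16 yd27 zd17) (kd xd30 yd48 zd1) (kd xd18 yd28 zd41) (kd xd13 yd33 zd5) (kd xd26 yd31 zd23) (kd xd23 yd21 zd27) (kd xd26 yd31 zd24) (kd xd30 yd48 zd3) (kd xd30 yd48 zd4) (kd xd30 yd48 zd5) (kd xd13 yd33 zd8) (kd xd18 yd11 zd29) (kd xd15 yd13 zd50) (kd xd15 yd13 zd49) (kd xd13 yd33 zd9) (kd xd13 yd38 zd11) (kd xd22 yd31 zd17) (kd xd15 yd37 zd48) (kd xd20 yd8 zd47) (kd xd20 yd8 zd48) (kd xd16 yd56 zd23) (kd xd20 yd11 zd16) (kd xd29 yd49 zd20) (kd xd18 yd56 zd14) (kd xd23 yd6 zd50) (kd xd24 yd8 zd53) (kd xd26 yd24 zd20) (kd xd30 yd48 zd14) (kd xd13 yd33 zd19)) (@D3.rec (fun _ => Pt) (kd xd30 yd48 zd17) (kd xd28 yd0 zd48) (kd xd13 yd43 zd4) (kd xd13 yd33 zd20) (kd xd26 yd7 zd37) (kd xd30 yd48 zd23) (kd xd13 yd33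 zd21) (kd xd30 yd48 zd26) (kd xd29 yd24 zd11) (kd xd29 yd53 zd18) (kd xd30 yd48 zd28) (kd xd13 yd33 zd23) (kd xd23 yd14 zd26) (kd xd14 yd27 zd30) (kd xd20 yd37 zd11) (kd xd19 yd30 zd55) (kd xd13 yd33 zd29) (kd xd19 yd31 zd5) (kd xd30 yd48 zd34) (kd xd30 yd48 zd36) (kd xd30 yd32 zd33) (kd xd13 yd33 zd32) (kd xd13 yd33 zd33) (kd xd23 yd10 zd49) (kd xd14 yd12 zd39) (kd xd30 yd48 zd40) (kd xd30 yd39 zd26) (kd xd22 yd33 zd17) (kd xd15 yd37 zd17) (kd xd30 yd48 zd45) (kd xd23 yd48 zd27) (kd xd30 yd39 zd29) (kd xd23 yd10 zd0) (kd xd22 yd56 zd39) (kd xd13 yd33 zd38) (kd xd13 yd40 zd52) (kd xd30 yd48 zd47) (kd xd20 yd37 zd7) (kd xd30 yd48 zd49) (kd xd22 yd56 zd33) (kd xd30 yd48 zd52) (kd xd18 yd41 zd19) (kd xd30 yd48 zd54) (kd xd30 yd48 zd55) (kd xd30 yd48 zd57) (kd xd22 yd26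 zd41) (kd xd13 yd33 zd45) (kd xd20 yd52 zd24) (kd xd13 yd33 zd46) (kd xd29 yd32 zd43) (kd xd13 yd33 zd51) (kd xd30 yd49 zd0) (kd xd30 yd49 zd1) (kd xd26 yd18 zd23) (kd xd30 yd49 zd2) (kd xd26 yd29 zd38) (kd xd26 yd29 zd37) (kd xd22 yd34 zd7) (kd xd13 yd33 zd55) (kd xd14 yd41 zd1) (kd xd30 yd49 zd5) (kd xd29 yd48 zd3)) (@D3.rec (fun _ => Pt) (kd xd24 yd29 zd24) (kd xd24 yd0 zd26) (kd xd30 yd34 zd14) (kd xd22 yd48 zd30) (kd xd23 yd6 zd6) (kd xd30 yd49 zd7) (kd xd13 yd34 zd1) (kd xd17 yd3 zd44) (kd xd13 yd34 zd2) (kd xd13 yd34 zd3) (kd xd21 yd41 zd20) (kd xd22 yd37 zd60) (kd xd24 yd25 zd11) (kd xd25 yd4 zd15) (kd xd14 yd30 zd20) (kd xd22 yd22 zd19) (kd xd30 yd49 zd12) (kd xd30 yd32 zd22) (kd xd30 yd49 zd17) (kd xd30 yd23 zd44) (kd xd30 yd32 zd25) (kd xd19 yd2 zd36) (kd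 xd19 yd2 zd37) (kd xd30 yd20 zd3) (kd xd25 yd4 zd4) (kd xd23 yd24 zd18) (kd xd30 yd12 zd12) (kd xd25 yd40 zd37) (kd xd13 yd34 zd12) (kd xd14 yd15 zd34) (kd xd25 yd36 zd27) (kd xd15 yd36 zd55) (kd xd13 yd34 zd13) (kd xd25 yd5 zd18) (kd xd28 yd25 zd60) (kd xd30 yd49 zd24) (kd xd23 yd32 zd43) (kd xd13 yd34 zd23) (kd xd13 yd34 zd24) (kd xd28 yd39 zd10) (kd xd23 yd59 zd52) (kd xd28 yd25 zd58) (kd xd17 yd8 zd32) (kd xd28 yd14 zd53) (kd xd13 yd34 zd39) (kd xd28 yd45 zd55) (kd xd14 yd26 zd28) (kd xd30 yd49 zd29) (kd xd30 yd35 zd12) (kd xd13 yd34 zd30) (kd xd24 yd28 zd58) (kd xd28 yd45 zd25) (kd xd13 yd34 zd32) (kd xd22 yd50 zd41) (kd xd28 yd25 zd36) (kd xd13 yd34 zd33) (kd xd30 yd49 zd36) (kd xd23 yd17 zd46) (kd xd20 yd6 zd19) (kd xd23 yd4 zd7) (kd xd23 yd4 zd8) (kd xd23 yd33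 zd31)) (@D3.rec (fun _ => Pt) (kd xd18 yd45 zd0) (kd xd23 yd53 zd49) (kd xd30 yd49 zd41) (kd xd30 yd49 zd42) (kd xd13 yd34 zd43) (kd xd30 yd49 zd47) (kd xd30 yd49 zd50) (kd xd13 yd34 zd47) (kd xd30 yd49 zd56) (kd xd13 yd34 zd48) (kd xd24 yd7 zd46) (kd xd30 yd49 zd33) (kd xd23 yd11 zd34) (kd xd30 yd50 zd2) (kd xd13 yd34 zd50) (kd xd22 yd50 zd27) (kd xd17 yd11 zd37) (kd xd19 yd56 zd32) (kd xd30 yd50 zd5) (kd xd13 yd34 zd54) (kd xd30 yd50 zd6) (kd xd23 yd33 zd4) (kd xd13 yd34 zd57) (kd xd13 yd34 zd58) (kd xd23 yd23 zd52) (kd xd30 yd50 zd8) (kd xd13 yd34 zd60) (kd xd13 yd44 zd53) (kd xd23 yd23 zd31) (kd xd25 yd46 zd53) (kd xd14 yd38 zd16) (kd xd13 yd44 zd48) (kd xd14 yd53 zd48) (kd xd14 yd29 zd45) (kd xd26 yd20 zd40) (kd xd23 yd6 zd45) (kd xd13 yd35 zd3) (kd xd22 yd21 zd23)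 (kd xd24 yd1 zd15) (kd xd13 yd35 zd4) (kd xd30 yd50 zd16) (kd xd20 yd57 zd39) (kd xd22 yd37 zd45) (kd xd21 yd41 zd23) (kd xd24 yd11 zd38) (kd xd27 yd42 zd26) (kd xd13 yd35 zd7) (kd xd13 yd35 zd8) (kd xd20 yd47 zd33) (kd xd29 yd52 zd41) (kd xd14 yd35 zd42) (kd xd30 yd50 zd21) (kd xd13 yd35 zd10) (kd xd20 yd47 zd30) (kd xd13 yd35 zd12) (kd xd24 yd46 zd13) (kd xd22 yd10 zd50) (kd xd14 yd31 zd11) (kd xd23 yd12 zd0) (kd xd27 yd1 zd17) (kd xd21 yd51 zd38) (kd xd30 yd32 zd20)) (@D3.rec (fun _ => Pt) (kd xd30 yd14 zd39) (kd xd16 yd54 zd60) (kd xd15 yd38 zd48) (kd xd30 yd50 zd25) (kd xd30 yd32 zd19) (kd xd13 yd35 zd20) (kd xd22 yd36 zd6) (kd xd13 yd45 zd4) (kd xd21 yd34 zd46) (kd xd28 yd42 zd13) (kd xd13 yd45 zd5) (kd xd28 yd25 zd7) (kd xd21 yd5 zd8) (kd xd15 yd38 zd52) (kd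 xd30 yd50 zd30) (kd xd13 yd35 zd24) (kd xd30 yd50 zd33) (kd xd30 yd38 zd3) (kd xd20 yd41 zd51) (kd xd16 yd52 zd3) (kd xd13 yd35 zd29) (kd xd30 yd50 zd38) (kd xd13 yd35 zd30) (kd xd23 yd0 zd25) (kd xd30 yd50 zd41) (kd xd23 yd11 zd55) (kd xd30 yd50 zd44) (kd xd13 yd35 zd32) (kd xd22 yd51 zd44) (kd xd13 yd35 zd35) (kd xd13 yd45 zd10) (kd xd30 yd50 zd48) (kd xd22 yd19 zd27) (kd xd13 yd35 zd40) (kd xd13 yd35 zd41) (kd xd15 yd34 zd21) (kd xd24 yd25 zd61) (kd xd30 yd50 zd50) (kd xd19 yd37 zd32) (kd xd19 yd37 zd31) (kd xd19 yd45 zd11) (kd xd22 yd36 zd40) (kd xd23 yd20 zd24) (kd xd29 yd18 zd53) (kd xd29 yd18 zd52) (kd xd30 yd24 zd38) (kd xd19 yd46 zd46) (kd xd16 yd43 zd58) (kd xd16 yd46 zd4) (kd xd26 yd49 zd51) (kd xd20 yd36 zd44) (kd xd16 yd43 zd56) (kd xd13 yd35 zd53) (kd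 xd24 yd16 zd23) (kd xd13 yd35 zd54) (kd xd17 yd11 zd18) (kd xd29 yd25 zd31) (kd xd27 yd12 zd42) (kd xd21 yd27 zd18) (kd xd25 yd53 zd27) (kd xd18 yd41 zd46) (kd xd22 yd39 zd49))
def f_d_23 : D2 → D3 → Pt := @D2.rec (fun _ => D3 → Pt) (@D3.rec (fun _ => Pt) (kd xd19 yd50 zd60) (kd xd13 yd40 zd15) (kd xd30 yd51 zd2) (kd xd18 yd45 zd11) (kd xd13 yd40 zd17) (kd xd30 yd51 zd3) (kd xd26 yd52 zd28) (kd xd26 yd45 zd30) (kd xd26 yd52 zd29) (kd xd29 yd3 zd6) (kd xd13 yd36 zd5) (kd xd13 yd44 zd34) (kd xd26 yd49 zd16) (kd xd30 yd37 zd44) (kd xd23 yd12 zd44) (kd xd15 yd39 zd20) (kd xd13 yd36 zd8) (kd xd27 yd14 zd30) (kd xd19 yd7 zd60) (kd xd29 yd7 zd53) (kd xd13 yd36 zd9) (kd xd19 yd7 zd56) (kd xd19 yd43 zd16) (kd xd13 yd36 zd10) (kd xd14 yd25 zd8) (kd xd22 yd59 zd23) (kd xd14 yd35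 zd37) (kd xd25 yd34 zd1) (kd xd19 yd2 zd38) (kd xd23 yd58 zd61) (kd xd23 yd12 zd45) (kd xd30 yd49 zd21) (kd xd19 yd8 zd10) (kd xd13 yd36 zd13) (kd xd30 yd51 zd14) (kd xd30 yd49 zd51) (kd xd25 yd27 zd26) (kd xd30 yd51 zd16) (kd xd14 yd40 zd48) (kd xd13 yd36 zd16) (kd xd24 yd24 zd30) (kd xd20 yd11 zd51) (kd xd13 yd36 zd18) (kd xd23 yd5 zd47) (kd xd19 yd48 zd54) (kd xd13 yd36 zd19) (kd xd30 yd51 zd21) (kd xd29 yd37 zd8) (kd xd29 yd34 zd38) (kd xd14 yd52 zd11) (kd xd24 yd15 zd6) (kd xd18 yd52 zd32) (kd xd22 yd11 zd58) (kd xd24 yd15 zd10) (kd xd14 yd51 zd16) (kd xd14 yd51 zd14) (kd xd25 yd25 zd42) (kd xd25 yd56 zd41) (kd xd13 yd36 zd29) (kd xd18 yd53 zd31) (kd xd13 yd36 zd30) (kd xd23 yd8 zd34)) (@D3.rec (fun _ => Pt) (kd xd14 yd29 zd46) (kd xd13 yd36 zd31) (kd xd21 yd23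 zd19) (kd xd13 yd36 zd33) (kd xd13 yd55 zd12) (kd xd30 yd51 zd26) (kd xd30 yd51 zd27) (kd xd22 yd44 zd44) (kd xd22 yd21 zd42) (kd xd17 yd51 zd16) (kd xd22 yd21 zd50) (kd xd30 yd51 zd29) (kd xd29 yd55 zd8) (kd xd18 yd2 zd2) (kd xd30 yd51 zd31) (kd xd13 yd36 zd47) (kd xd14 yd49 zd41) (kd xd15 yd37 zd54) (kd xd15 yd51 zd35) (kd xd24 yd35 zd50) (kd xd13 yd39 zd60) (kd xd14 yd34 zd15) (kd xd24 yd17 zd3) (kd xd19 yd8 zd24) (kd xd14 yd34 zd22) (kd xd21 yd0 zd51) (kd xd20 yd41 zd27) (kd xd20 yd43 zd13) (kd xd20 yd39 zd54) (kd xd23 yd56 zd32) (kd xd20 yd41 zd36) (kd xd17 yd53 zd34) (kd xd20 yd43 zd51) (kd xd25 yd36 zd36) (kd xd13 yd36 zd60) (kd xd30 yd51 zd37) (kd xd30 yd51 zd39) (kd xd30 yd51 zd40) (kd xd13 yd37 zd0) (kd xd27 yd9 zd26) (kd xd30 yd51 zd44) (kd xd24 yd25 zd57)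 (kd xd30 yd51 zd46) (kd xd13 yd37 zd3) (kd xd22 yd36 zd56) (kd xd21 yd32 zd57) (kd xd14 yd51 zd46) (kd xd22 yd21 zd6) (kd xd16 yd45 zd34) (kd xd24 yd43 zd54) (kd xd22 yd43 zd61) (kd xd22 yd46 zd4) (kd xd22 yd46 zd5) (kd xd23 yd2 zd3) (kd xd23 yd20 zd32) (kd xd30 yd51 zd48) (kd xd30 yd51 zd49) (kd xd18 yd26 zd58) (kd xd28 yd19 zd53) (kd xd30 yd51 zd50) (kd xd23 yd25 zd6) (kd xd30 yd51 zd51)) (@D3.rec (fun _ => Pt) (kd xd24 yd43 zd61) (kd xd23 yd25 zd21) (kd xd21 yd33 zd38) (kd xd23 yd1 zd53) (kd xd18 yd53 zd23) (kd xd18 yd53 zd27) (kd xd18 yd36 zd59) (kd xd26 yd10 zd12) (kd xd15 yd9 zd57) (kd xd13 yd37 zd26) (kd xd23 yd41 zd38) (kd xd19 yd56 zd29) (kd xd15 yd9 zd56) (kd xd13 yd37 zd27) (kd xd30 yd1 zd60) (kd xd30 yd19 zd60) (kd xd14 yd39 zd4) (kd xd22 yd47 zd27) (kd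 xd30 yd52 zd2) (kd xd30 yd52 zd3) (kd xd22 yd19 zd50) (kd xd23 yd33 zd5) (kd xd13 yd37 zd35) (kd xd13 yd56 zd6) (kd xd30 yd52 zd5) (kd xd23 yd48 zd13) (kd xd30 yd52 zd7) (kd xd30 yd40 zd21) (kd xd14 yd9 zd15) (kd xd19 yd32 zd54) (kd xd30 yd52 zd8) (kd xd23 yd27 zd9) (kd xd30 yd52 zd9) (kd xd22 yd42 zd61) (kd xd30 yd52 zd10) (kd xd13 yd37 zd44) (kd xd30 yd52 zd13) (kd xd30 yd52 zd14) (kd xd13 yd37 zd45) (kd xd30 yd52 zd17) (kd xd20 yd14 zd2) (kd xd23 yd44 zd53) (kd xd13 yd37 zd48) (kd xd30 yd52 zd18) (kd xd21 yd26 zd44) (kd xd17 yd14 zd30) (kd xd13 yd37 zd51) (kd xd19 yd17 zd13) (kd xd13 yd37 zd52) (kd xd27 yd22 zd59) (kd xd18 yd29 zd37) (kd xd30 yd52 zd19) (kd xd30 yd52 zd20) (kd xd26 yd46 zd7) (kd xd21 yd21 zd46) (kd xd30 yd52 zd21) (kd xd30 yd32 zd7) (kd xd23 yd14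 zd2) (kd xd22 yd28 zd47) (kd xd13 yd41 zd38) (kd xd13 yd41 zd39) (kd xd21 yd5 zd55)) (@D3.rec (fun _ => Pt) (kd xd21 yd5 zd56) (kd xd21 yd6 zd5) (kd xd30 yd52 zd28) (kd xd30 yd52 zd30) (kd xd30 yd52 zd31) (kd xd13 yd38 zd3) (kd xd30 yd52 zd34) (kd xd30 yd52 zd35) (kd xd13 yd38 zd4) (kd xd23 yd19 zd44) (kd xd30 yd52 zd36) (kd xd30 yd52 zd37) (kd xd13 yd38 zd5) (kd xd18 yd20 zd53) (kd xd23 yd17 zd49) (kd xd13 yd38 zd8) (kd xd22 yd28 zd21) (kd xd13 yd38 zd9) (kd xd22 yd49 zd35) (kd xd20 yd19 zd45) (kd xd13 yd38 zd12) (kd xd30 yd52 zd43) (kd xd13 yd38 zd15) (kd xd22 yd29 zd4) (kd xd23 yd26 zd4) (kd xd24 yd54 zd23) (kd xd13 yd38 zd18) (kd xd30 yd43 zd44) (kd xd13 yd38 zd19) (kd xd23 yd26 zd5) (kd xd15 yd10 zd40) (kd xd29 yd24 zd32) (kd xd24 yd56 zd32) (kd xd30 yd52 zd46)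 (kd xd13 yd38 zd24) (kd xd30 yd52 zd50) (kd xd13 yd44 zd0) (kd xd19 yd51 zd47) (kd xd20 yd11 zd17) (kd xd22 yd49 zd58) (kd xd22 yd49 zd59) (kd xd18 yd41 zd50) (kd xd28 yd13 zd51) (kd xd13 yd38 zd40) (kd xd24 yd47 zd5) (kd xd20 yd34 zd29) (kd xd13 yd38 zd43) (kd xd14 yd10 zd44) (kd xd23 yd7 zd28) (kd xd18 yd49 zd25) (kd xd21 yd45 zd43) (kd xd18 yd59 zd60) (kd xd27 yd36 zd11) (kd xd27 yd22 zd21) (kd xd16 yd10 zd44) (kd xd30 yd52 zd52) (kd xd25 yd31 zd9) (kd xd13 yd38 zd54) (kd xd30 yd52 zd54) (kd xd14 yd44 zd48) (kd xd20 yd26 zd3) (kd xd18 yd50 zd56)) (@D3.rec (fun _ => Pt) (kd xd24 yd29 zd51) (kd xd23 yd48 zd25) (kd xd15 yd6 zd0) (kd xd18 yd36 zd29) (kd xd30 yd50 zd34) (kd xd13 yd38 zd60) (kd xd13 yd38 zd61) (kd xd22 yd57 zd59) (kd xd22 yd57 zd60) (kd xd21 yd13 zd48)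 (kd xd14 yd25 zd39) (kd xd14 yd25 zd40) (kd xd17 yd25 zd25) (kd xd22 yd49 zd57) (kd xd22 yd49 zd61) (kd xd18 yd56 zd28) (kd xd24 yd25 zd20) (kd xd24 yd25 zd21) (kd xd24 yd29 zd58) (kd xd22 yd46 zd50) (kd xd30 yd52 zd59) (kd xd26 yd31 zd0) (kd xd23 yd8 zd16) (kd xd30 yd33 zd32) (kd xd22 yd41 zd15) (kd xd29 yd1 zd45) (kd xd24 yd5 zd52) (kd xd28 yd14 zd54) (kd xd28 yd14 zd50) (kd xd13 yd39 zd20) (kd xd30 yd31 zd21) (kd xd30 yd53 zd3) (kd xd30 yd53 zd4) (kd xd24 yd30 zd17) (kd xd30 yd53 zd6) (kd xd13 yd39 zd22) (kd xd30 yd53 zd10) (kd xd13 yd39 zd23) (kd xd26 yd49 zd11) (kd xd13 yd39 zd25) (kd xd27 yd45 zd46) (kd xd13 yd39 zd27) (kd xd13 yd39 zd28) (kd xd14 yd18 zd5) (kd xd22 yd19 zd51) (kd xd13 yd39 zd30) (kd xd16 yd57 zd5) (kd xd20 yd48 zd23) (kd xd16 yd48 zd60) (kd xd24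 yd5 zd8) (kd xd29 yd20 zd10) (kd xd23 yd19 zd21) (kd xd23 yd19 zd25) (kd xd22 yd24 zd51) (kd xd21 yd14 zd54) (kd xd23 yd9 zd14) (kd xd26 yd31 zd2) (kd xd13 yd51 zd35) (kd xd13 yd41 zd47) (kd xd14 yd30 zd32) (kd xd28 yd34 zd12) (kd xd23 yd19 zd56)) (@D3.rec (fun _ => Pt) (kd xd13 yd51 zd40) (kd xd13 yd39 zd41) (kd xd30 yd16 zd53) (kd xd16 yd28 zd14) (kd xd29 yd29 zd39) (kd xd29 yd52 zd58) (kd xd24 yd4 zd55) (kd xd25 yd56 zd25) (kd xd30 yd53 zd28) (kd xd30 yd45 zd50) (kd xd24 yd40 zd27) (kd xd13 yd47 zd56) (kd xd22 yd53 zd33) (kd xd30 yd53 zd30) (kd xd30 yd53 zd31) (kd xd13 yd48 zd6) (kd xd30 yd43 zd19) (kd xd24 yd5 zd10) (kd xd24 yd5 zd11) (kd xd29 yd27 zd51) (kd xd13 yd39 zd54) (kd xd13 yd44 zd31) (kd xd29 yd41 zd10) (kd xd30 yd53 zd38) (kd xd21 yd39 zd47) (kd xd23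 yd46 zd47) (kd xd22 yd48 zd22) (kd xd14 yd28 zd16) (kd xd22 yd30 zd9) (kd xd15 yd40 zd61) (kd xd18 yd19 zd7) (kd xd23 yd21 zd31) (kd xd22 yd30 zd11) (kd xd19 yd56 zd41) (kd xd30 yd53 zd45) (kd xd20 yd8 zd61) (kd xd16 yd23 zd52) (kd xd22 yd3 zd9) (kd xd14 yd29 zd3) (kd xd14 yd51 zd48) (kd xd20 yd30 zd35) (kd xd28 yd48 zd38) (kd xd16 yd52 zd49) (kd xd29 yd2 zd10) (kd xd13 yd43 zd19) (kd xd23 yd30 zd19) (kd xd24 yd18 zd59) (kd xd23 yd0 zd43) (kd xd13 yd40 zd23) (kd xd13 yd40 zd16) (kd xd13 yd40 zd18) (kd xd24 yd53 zd27) (kd xd22 yd55 zd25) (kd xd16 yd53 zd3) (kd xd24 yd28 zd39) (kd xd24 yd28 zd38) (kd xd22 yd51 zd12) (kd xd25 yd50 zd25) (kd xd13 yd40 zd21) (kd xd28 yd14 zd10) (kd xd13 yd40 zd22) (kd xd28 yd21 zd1)) (@D3.rec (fun _ => Pt) (kd xd23 yd17 zd45) (kd xd22 yd41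 zd11) (kd xd30 yd16 zd31) (kd xd22 yd41 zd46) (kd xd13 yd46 zd60) (kd xd14 yd24 zd59) (kd xd22 yd57 zd4) (kd xd29 yd52 zd47) (kd xd22 yd41 zd58) (kd xd22 yd14 zd36) (kd xd27 yd30 zd40) (kd xd16 yd24 zd9) (kd xd13 yd40 zd39) (kd xd30 yd53 zd60) (kd xd13 yd40 zd40) (kd xd13 yd40 zd42) (kd xd30 yd53 zd61) (kd xd22 yd41 zd12) (kd xd22 yd41 zd13) (kd xd22 yd49 zd32) (kd xd13 yd40 zd49) (kd xd23 yd18 zd37) (kd xd30 yd54 zd0) (kd xd30 yd46 zd16) (kd xd15 yd6 zd30) (kd xd22 yd14 zd40) (kd xd21 yd35 zd40) (kd xd20 yd9 zd32) (kd xd26 yd23 zd25) (kd xd22 yd47 zd13) (kd xd24 yd13 zd27) (kd xd20 yd6 zd9) (kd xd13 yd47 zd0) (kd xd13 yd47 zd2) (kd xd14 yd25 zd44) (kd xd22 yd33 zd20) (kd xd26 yd23 zd28) (kd xd30 yd15 zd48) (kd xd13 yd41 zd7) (kd xd13 yd41 zd8) (kd xd24 yd9 zd25) (kd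 xd22 yd34 zd1) (kd xd20 yd45 zd56) (kd xd22 yd30 zd24) (kd xd23 yd48 zd41) (kd xd22 yd58 zd35) (kd xd28 yd26 zd11) (kd xd22 yd30 zd25) (kd xd26 yd29 zd40) (kd xd28 yd26 zd31) (kd xd22 yd55 zd57) (kd xd30 yd54 zd5) (kd xd19 yd25 zd52) (kd xd26 yd22 zd35) (kd xd15 yd6 zd19) (kd xd21 yd44 zd35) (kd xd26 yd54 zd5) (kd xd24 yd40 zd40) (kd xd14 yd38 zd2) (kd xd30 yd54 zd7) (kd xd21 yd56 zd61) (kd xd22 yd35 zd46)) (@D3.rec (fun _ => Pt) (kd xd13 yd41 zd24) (kd xd30 yd54 zd9) (kd xd20 yd52 zd52) (kd xd21 yd39 zd7) (kd xd13 yd41 zd31) (kd xd13 yd41 zd35) (kd xd13 yd41 zd37) (kd xd20 yd42 zd43) (kd xd26 yd55 zd34) (kd xd26 yd27 zd12) (kd xd30 yd54 zd13) (kd xd13 yd51 zd22) (kd xd19 yd12 zd40) (kd xd23 yd21 zd59) (kd xd30 yd53 zd12) (kd xd23 yd9 zd55) (kd xd30 yd46 zd5) (kd xd24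 yd47 zd20) (kd xd24 yd47 zd35) (kd xd22 yd42 zd46) (kd xd25 yd25 zd30) (kd xd21 yd28 zd54) (kd xd16 yd35 zd9) (kd xd13 yd48 zd10) (kd xd30 yd47 zd29) (kd xd30 yd43 zd35) (kd xd22 yd52 zd37) (kd xd23 yd34 zd13) (kd xd23 yd3 zd48) (kd xd29 yd35 zd21) (kd xd29 yd36 zd52) (kd xd30 yd54 zd22) (kd xd13 yd41 zd60) (kd xd22 yd39 zd46) (kd xd26 yd19 zd37) (kd xd30 yd24 zd31) (kd xd18 yd15 zd41) (kd xd23 yd14 zd61) (kd xd28 yd12 zd10) (kd xd15 yd7 zd59) (kd xd20 yd49 zd49) (kd xd16 yd21 zd26) (kd xd20 yd17 zd59) (kd xd13 yd42 zd6) (kd xd30 yd46 zd20) (kd xd23 yd9 zd32) (kd xd23 yd9 zd31) (kd xd13 yd42 zd7) (kd xd30 yd32 zd3) (kd xd23 yd16 zd59) (kd xd14 yd30 zd31) (kd xd13 yd42 zd9) (kd xd25 yd48 zd51) (kd xd22 yd52 zd0) (kd xd18 yd36 zd8) (kd xd16 yd43 zd23) (kd xd13 yd42 zd11)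 (kd xd25 yd44 zd50) (kd xd19 yd39 zd39) (kd xd26 yd28 zd9) (kd xd16 yd55 zd7) (kd xd14 yd51 zd34)) (@D3.rec (fun _ => Pt) (kd xd13 yd42 zd13) (kd xd24 yd23 zd9) (kd xd13 yd51 zd38) (kd xd13 yd51 zd39) (kd xd14 yd45 zd37) (kd xd30 yd54 zd36) (kd xd22 yd52 zd60) (kd xd24 yd31 zd10) (kd xd24 yd59 zd11) (kd xd24 yd59 zd10) (kd xd24 yd31 zd16) (kd xd29 yd32 zd33) (kd xd14 yd25 zd24) (kd xd22 yd9 zd25) (kd xd24 yd21 zd60) (kd xd19 yd17 zd56) (kd xd23 yd4 zd22) (kd xd14 yd25 zd17) (kd xd29 yd17 zd43) (kd xd23 yd55 zd45) (kd xd29 yd59 zd9) (kd xd24 yd14 zd15) (kd xd14 yd39 zd26) (kd xd19 yd7 zd24) (kd xd13 yd42 zd31) (kd xd28 yd34 zd11) (kd xd22 yd54 zd61) (kd xd13 yd42 zd32) (kd xd30 yd54 zd51) (kd xd13 yd42 zd33) (kd xd30 yd6 zd44) (kd xd30 yd54 zd54) (kd xd21 yd4 zd23) (kd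 xd13 yd42 zd36) (kd xd23 yd0 zd61) (kd xd14 yd5 zd21) (kd xd24 yd42 zd36) (kd xd23 yd50 zd40) (kd xd29 yd41 zd56) (kd xd13 yd42 zd39) (kd xd30 yd54 zd58) (kd xd21 yd30 zd44) (kd xd13 yd42 zd61) (kd xd13 yd42 zd41) (kd xd20 yd18 zd3) (kd xd20 yd50 zd12) (kd xd15 yd16 zd46) (kd xd20 yd2 zd61) (kd xd20 yd3 zd0) (kd xd13 yd42 zd44) (kd xd25 yd48 zd49) (kd xd30 yd54 zd61) (kd xd23 yd9 zd9) (kd xd30 yd55 zd1) (kd xd26 yd30 zd27) (kd xd26 yd30 zd28) (kd xd18 yd36 zd50) (kd xd20 yd7 zd24) (kd xd17 yd0 zd30) (kd xd20 yd7 zd22) (kd xd14 yd30 zd27) (kd xd30 yd55 zd2)) (@D3.rec (fun _ => Pt) (kd xd22 yd2 zd2) (kd xd25 yd42 zd7) (kd xd25 yd53 zd36) (kd xd13 yd42 zd55) (kd xd25 yd55 zd12) (kd xd26 yd14 zd46) (kd xd13 yd42 zd56) (kd xd13 yd42 zd57) (kd xd27 yd55 zd41) (kd xd23 yd8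 zd52) (kd xd19 yd41 zd45) (kd xd13 yd42 zd59) (kd xd29 yd55 zd27) (kd xd27 yd47 zd39) (kd xd23 yd4 zd55) (kd xd16 yd27 zd55) (kd xd18 yd22 zd58) (kd xd13 yd43 zd1) (kd xd18 yd19 zd26) (kd xd14 yd30 zd30) (kd xd30 yd48 zd19) (kd xd30 yd33 zd51) (kd xd30 yd43 zd13) (kd xd28 yd20 zd32) (kd xd22 yd53 zd34) (kd xd22 yd52 zd56) (kd xd13 yd43 zd5) (kd xd29 yd29 zd12) (kd xd30 yd55 zd13) (kd xd27 yd3 zd3) (kd xd13 yd43 zd6) (kd xd23 yd7 zd46) (kd xd23 yd7 zd45) (kd xd30 yd48 zd24) (kd xd13 yd43 zd8) (kd xd24 yd42 zd46) (kd xd24 yd39 zd40) (kd xd13 yd43 zd15) (kd xd24 yd4 zd59) (kd xd13 yd43 zd16) (kd xd17 yd24 zd10) (kd xd13 yd43 zd17) (kd xd27 yd15 zd57) (kd xd30 yd46 zd14) (kd xd20 yd44 zd47) (kd xd23 yd30 zd20) (kd xd30 yd55 zd19) (kd xd29 yd4 zd1) (kd xd29 yd41 zd12) (kd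 xd29 yd59 zd24) (kd xd25 yd30 zd41) (kd xd13 yd43 zd22) (kd xd30 yd23 zd57) (kd xd30 yd10 zd3) (kd xd13 yd43 zd23) (kd xd23 yd7 zd15) (kd xd30 yd55 zd24) (kd xd13 yd43 zd24) (kd xd13 yd43 zd27) (kd xd13 yd43 zd28) (kd xd13 yd43 zd29) (kd xd22 yd33 zd61)) (@D3.rec (fun _ => Pt) (kd xd22 yd56 zd32) (kd xd14 yd25 zd5) (kd xd30 yd55 zd29) (kd xd30 yd55 zd30) (kd xd30 yd55 zd31) (kd xd22 yd30 zd40) (kd xd23 yd18 zd6) (kd xd17 yd54 zd45) (kd xd19 yd24 zd56) (kd xd16 yd11 zd4) (kd xd22 yd30 zd45) (kd xd14 yd28 zd23) (kd xd16 yd26 zd17) (kd xd14 yd24 zd49) (kd xd22 yd9 zd35) (kd xd26 yd22 zd14) (kd xd26 yd22 zd27) (kd xd16 yd25 zd59) (kd xd30 yd55 zd35) (kd xd18 yd19 zd38) (kd xd14 yd24 zd33) (kd xd25 yd8 zd22) (kd xd24 yd28 zd30) (kd xd22 yd51 zd2) (kd xd24 yd0 zd38) (kd xd13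 yd43 zd46) (kd xd24 yd23 zd5) (kd xd30 yd55 zd39) (kd xd22 yd53 zd32) (kd xd13 yd43 zd47) (kd xd23 yd14 zd29) (kd xd30 yd33 zd48) (kd xd26 yd48 zd45) (kd xd22 yd50 zd56) (kd xd30 yd55 zd40) (kd xd17 yd2 zd31) (kd xd20 yd17 zd42) (kd xd27 yd24 zd6) (kd xd13 yd43 zd60) (kd xd30 yd55 zd43) (kd xd16 yd23 zd56) (kd xd29 yd16 zd26) (kd xd13 yd43 zd61) (kd xd30 yd39 zd36) (kd xd15 yd4 zd37) (kd xd29 yd16 zd27) (kd xd26 yd23 zd44) (kd xd30 yd55 zd47) (kd xd13 yd44 zd2) (kd xd22 yd56 zd23) (kd xd14 yd24 zd56) (kd xd22 yd0 zd46) (kd xd14 yd44 zd12) (kd xd24 yd24 zd39) (kd xd24 yd1 zd10) (kd xd19 yd56 zd36) (kd xd14 yd29 zd43) (kd xd19 yd55 zd49) (kd xd14 yd2 zd53) (kd xd29 yd55 zd4) (kd xd22 yd39 zd6) (kd xd22 yd32 zd42)) (@D3.rec (fun _ => Pt) (kd xd14 yd32 zd25) (kd xd14 yd30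 zd50) (kd xd19 yd3 zd15) (kd xd13 yd44 zd20) (kd xd23 yd45 zd60) (kd xd22 yd20 zd0) (kd xd22 yd20 zd61) (kd xd23 yd45 zd61) (kd xd29 yd40 zd24) (kd xd23 yd46 zd1) (kd xd14 yd32 zd26) (kd xd27 yd43 zd1) (kd xd13 yd45 zd18) (kd xd14 yd18 zd37) (kd xd14 yd31 zd51) (kd xd30 yd54 zd40) (kd xd30 yd54 zd41) (kd xd30 yd53 zd32) (kd xd29 yd12 zd8) (kd xd27 yd1 zd53) (kd xd30 yd55 zd54) (kd xd13 yd44 zd32) (kd xd30 yd55 zd56) (kd xd30 yd55 zd58) (kd xd30 yd55 zd59) (kd xd13 yd44 zd33) (kd xd30 yd38 zd0) (kd xd30 yd51 zd4) (kd xd30 yd56 zd2) (kd xd29 yd19 zd36) (kd xd23 yd56 zd2) (kd xd13 yd46 zd17) (kd xd17 yd18 zd20) (kd xd27 yd45 zd58) (kd xd22 yd58 zd12) (kd xd19 yd20 zd28) (kd xd28 yd40 zd57) (kd xd21 yd41 zd0) (kd xd13 yd44 zd50) (kd xd26 yd20 zd41) (kd xd22 yd12 zd9) (kd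 xd23 yd52 zd13) (kd xd23 yd56 zd59) (kd xd30 yd56 zd11) (kd xd27 yd55 zd47) (kd xd29 yd8 zd0) (kd xd13 yd44 zd57) (kd xd14 yd26 zd14) (kd xd18 yd53 zd18) (kd xd19 yd1 zd55) (kd xd13 yd44 zd60) (kd xd14 yd19 zd9) (kd xd23 yd34 zd6) (kd xd30 yd56 zd15) (kd xd27 yd46 zd23) (kd xd22 yd59 zd25) (kd xd14 yd37 zd24) (kd xd23 yd31 zd59) (kd xd21 yd5 zd7) (kd xd22 yd48 zd45) (kd xd24 yd12 zd10) (kd xd21 yd5 zd4)) (@D3.rec (fun _ => Pt) (kd xd22 yd58 zd58) (kd xd30 yd56 zd18) (kd xd14 yd11 zd13) (kd xd23 yd16 zd10) (kd xd30 yd24 zd37) (kd xd29 yd53 zd24) (kd xd20 yd7 zd54) (kd xd19 yd53 zd9) (kd xd19 yd49 zd17) (kd xd25 yd47 zd29) (kd xd20 yd25 zd2) (kd xd13 yd45 zd16) (kd xd19 yd45 zd21) (kd xd20 yd25 zd3) (kd xd13 yd45 zd17) (kd xd22 yd28 zd5) (kd xd22 yd46 zd56) (kd xd19 yd27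 zd15) (kd xd29 yd0 zd31) (kd xd29 yd0 zd30) (kd xd19 yd27 zd16) (kd xd15 yd44 zd0) (kd xd13 yd45 zd23) (kd xd22 yd37 zd16) (kd xd14 yd37 zd16) (kd xd24 yd21 zd18) (kd xd19 yd28 zd1) (kd xd30 yd56 zd28) (kd xd28 yd14 zd9) (kd xd26 yd52 zd55) (kd xd13 yd45 zd27) (kd xd20 yd10 zd22) (kd xd30 yd36 zd27) (kd xd30 yd56 zd32) (kd xd28 yd30 zd33) (kd xd25 yd50 zd47) (kd xd29 yd7 zd2) (kd xd13 yd45 zd30) (kd xd18 yd20 zd25) (kd xd13 yd45 zd31) (kd xd30 yd56 zd35) (kd xd13 yd45 zd33) (kd xd13 yd45 zd34) (kd xd24 yd20 zd44) (kd xd23 yd0 zd14) (kd xd23 yd0 zd30) (kd xd30 yd10 zd21) (kd xd22 yd38 zd2) (kd xd30 yd56 zd40) (kd xd14 yd47 zd51) (kd xd26 yd16 zd12) (kd xd22 yd17 zd35) (kd xd30 yd56 zd44) (kd xd19 yd50 zd47) (kd xd14 yd47 zd56) (kd xd27 yd25 zd31) (kd xd22 yd15 zd45)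 (kd xd22 yd14 zd47) (kd xd13 yd45 zd47) (kd xd22 yd36 zd33) (kd xd30 yd31 zd0) (kd xd20 yd44 zd34)) (@D3.rec (fun _ => Pt) (kd xd18 yd0 zd40) (kd xd30 yd56 zd49) (kd xd26 yd10 zd45) (kd xd26 yd10 zd56) (kd xd13 yd45 zd60) (kd xd13 yd45 zd61) (kd xd22 yd17 zd39) (kd xd13 yd46 zd0) (kd xd24 yd9 zd30) (kd xd30 yd56 zd50) (kd xd22 yd55 zd21) (kd xd20 yd53 zd47) (kd xd13 yd46 zd7) (kd xd30 yd56 zd53) (kd xd27 yd55 zd39) (kd xd13 yd46 zd8) (kd xd30 yd56 zd56) (kd xd13 yd46 zd9) (kd xd29 yd39 zd27) (kd xd19 yd29 zd39) (kd xd29 yd38 zd36) (kd xd13 yd46 zd11) (kd xd22 yd24 zd13) (kd xd14 yd47 zd20) (kd xd24 yd24 zd13) (kd xd24 yd14 zd47) (kd xd16 yd9 zd13) (kd xd15 yd41 zd28) (kd xd15 yd42 zd0) (kd xd14 yd13 zd37) (kd xd15 yd34 zd5) (kd xd15 yd56 zd55) (kd xd15 yd48 zd48) (kd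 xd30 yd56 zd60) (kd xd13 yd46 zd21) (kd xd30 yd57 zd3) (kd xd13 yd46 zd22) (kd xd30 yd57 zd6) (kd xd13 yd46 zd27) (kd xd23 yd35 zd28) (kd xd13 yd46 zd29) (kd xd13 yd46 zd30) (kd xd22 yd47 zd36) (kd xd13 yd46 zd31) (kd xd29 yd28 zd0) (kd xd14 yd55 zd13) (kd xd22 yd47 zd37) (kd xd13 yd46 zd34) (kd xd16 yd35 zd2) (kd xd13 yd46 zd35) (kd xd30 yd44 zd21) (kd xd14 yd55 zd12) (kd xd18 yd49 zd45) (kd xd14 yd10 zd47) (kd xd26 yd25 zd30) (kd xd14 yd10 zd45) (kd xd22 yd23 zd26) (kd xd27 yd41 zd3) (kd xd30 yd10 zd9) (kd xd13 yd46 zd40) (kd xd23 yd15 zd29) (kd xd23 yd17 zd20)) (@D3.rec (fun _ => Pt) (kd xd13 yd46 zd42) (kd xd30 yd2 zd7) (kd xd23 yd2 zd57) (kd xd22 yd29 zd20) (kd xd22 yd53 zd47) (kd xd28 yd25 zd54) (kd xd23 yd14 zd12) (kd xd22 yd45 zd27) (kd xd23 yd34 zd8) (kd xd16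 yd21 zd27) (kd xd24 yd40 zd23) (kd xd16 yd25 zd17) (kd xd23 yd14 zd6) (kd xd30 yd42 zd25) (kd xd30 yd57 zd23) (kd xd26 yd28 zd16) (kd xd21 yd30 zd2) (kd xd23 yd14 zd33) (kd xd26 yd9 zd28) (kd xd30 yd7 zd22) (kd xd30 yd7 zd23) (kd xd23 yd17 zd15) (kd xd22 yd42 zd22) (kd xd19 yd1 zd23) (kd xd21 yd40 zd10) (kd xd13 yd49 zd23) (kd xd22 yd56 zd12) (kd xd30 yd46 zd60) (kd xd30 yd57 zd37) (kd xd23 yd10 zd30) (kd xd25 yd59 zd33) (kd xd13 yd49 zd24) (kd xd21 yd56 zd15) (kd xd23 yd14 zd17) (kd xd30 yd57 zd42) (kd xd27 yd58 zd33) (kd xd20 yd10 zd50) (kd xd28 yd10 zd42) (kd xd30 yd31 zd61) (kd xd13 yd47 zd4) (kd xd13 yd47 zd6) (kd xd23 yd58 zd29) (kd xd21 yd13 zd57) (kd xd13 yd47 zd9) (kd xd30 yd27 zd31) (kd xd13 yd47 zd10) (kd xd24 yd9 zd0) (kd xd27 yd12 zd61) (kd xd13 yd47 zd17)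 (kd xd28 yd10 zd37) (kd xd30 yd52 zd47) (kd xd29 yd25 zd8) (kd xd30 yd52 zd48) (kd xd15 yd12 zd40) (kd xd21 yd53 zd58) (kd xd22 yd27 zd10) (kd xd30 yd57 zd46) (kd xd30 yd2 zd6) (kd xd25 yd59 zd48) (kd xd15 yd50 zd5) (kd xd30 yd57 zd47) (kd xd23 yd7 zd37)) (@D3.rec (fun _ => Pt) (kd xd13 yd47 zd45) (kd xd30 yd57 zd50) (kd xd30 yd57 zd51) (kd xd28 yd12 zd20) (kd xd13 yd47 zd35) (kd xd30 yd57 zd53) (kd xd22 yd47 zd53) (kd xd22 yd47 zd52) (kd xd30 yd43 zd15) (kd xd30 yd57 zd20) (kd xd13 yd47 zd37) (kd xd30 yd58 zd1) (kd xd30 yd57 zd54) (kd xd23 yd17 zd0) (kd xd13 yd47 zd39) (kd xd30 yd58 zd7) (kd xd30 yd47 zd27) (kd xd28 yd0 zd24) (kd xd30 yd58 zd12) (kd xd13 yd47 zd41) (kd xd30 yd47 zd3) (kd xd29 yd52 zd56) (kd xd30 yd58 zd15) (kd xd13 yd47 zd43) (kd xd23 yd18 zd20) (kd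 xd30 yd55 zd16) (kd xd13 yd47 zd44) (kd xd23 yd17 zd1) (kd xd15 yd10 zd25) (kd xd23 yd13 zd60) (kd xd25 yd2 zd49) (kd xd25 yd2 zd50) (kd xd15 yd10 zd42) (kd xd17 yd2 zd40) (kd xd13 yd50 zd59) (kd xd13 yd48 zd54) (kd xd13 yd47 zd47) (kd xd30 yd58 zd24) (kd xd13 yd47 zd49) (kd xd18 yd59 zd55) (kd xd28 yd26 zd0) (kd xd20 yd52 zd47) (kd xd29 yd54 zd35) (kd xd22 yd46 zd58) (kd xd24 yd47 zd39) (kd xd29 yd55 zd38) (kd xd23 yd18 zd47) (kd xd13 yd47 zd55) (kd xd20 yd18 zd32) (kd xd26 yd31 zd10) (kd xd26 yd31 zd9) (kd xd29 yd19 zd5) (kd xd20 yd30 zd23) (kd xd22 yd28 zd46) (kd xd30 yd58 zd32) (kd xd22 yd29 zd13) (kd xd21 yd40 zd61) (kd xd30 yd57 zd40) (kd xd18 yd39 zd25) (kd xd18 yd39 zd27) (kd xd22 yd29 zd17) (kd xd23 yd18 zd9)) (@D3.rec (fun _ => Pt) (kd xd30 yd58 zd42) (kd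 xd23 yd18 zd14) (kd xd26 yd11 zd55) (kd xd14 yd10 zd5) (kd xd30 yd20 zd37) (kd xd23 yd16 zd58) (kd xd30 yd54 zd29) (kd xd22 yd53 zd45) (kd xd13 yd48 zd3) (kd xd30 yd48 zd20) (kd xd23 yd12 zd3) (kd xd13 yd48 zd48) (kd xd13 yd48 zd4) (kd xd30 yd48 zd29) (kd xd13 yd48 zd5) (kd xd30 yd39 zd59) (kd xd13 yd48 zd8) (kd xd30 yd32 zd46) (kd xd14 yd11 zd24) (kd xd21 yd12 zd55) (kd xd22 yd28 zd11) (kd xd23 yd29 zd56) (kd xd16 yd21 zd32) (kd xd30 yd58 zd49) (kd xd30 yd57 zd14) (kd xd23 yd16 zd27) (kd xd30 yd58 zd54) (kd xd23 yd16 zd25) (kd xd13 yd48 zd21) (kd xd23 yd16 zd57) (kd xd23 yd45 zd14) (kd xd13 yd48 zd22) (kd xd23 yd16 zd49) (kd xd30 yd45 zd41) (kd xd23 yd45 zd12) (kd xd30 yd58 zd9) (kd xd13 yd48 zd28) (kd xd22 yd34 zd6) (kd xd30 yd52 zd40) (kd xd16 yd12 zd44) (kd xd30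 yd57 zd60) (kd xd13 yd48 zd32) (kd xd30 yd58 zd10) (kd xd19 yd39 zd41) (kd xd30 yd58 zd61) (kd xd13 yd48 zd33) (kd xd30 yd59 zd1) (kd xd13 yd48 zd34) (kd xd14 yd59 zd45) (kd xd23 yd16 zd32) (kd xd13 yd48 zd36) (kd xd28 yd49 zd22) (kd xd22 yd18 zd31) (kd xd23 yd20 zd7) (kd xd16 yd29 zd9) (kd xd16 yd29 zd10) (kd xd26 yd24 zd52) (kd xd23 yd16 zd29) (kd xd23 yd16 zd5) (kd xd23 yd7 zd49) (kd xd30 yd57 zd52) (kd xd13 yd48 zd41)) (@D3.rec (fun _ => Pt) (kd xd23 yd15 zd13) (kd xd23 yd15 zd27) (kd xd24 yd40 zd22) (kd xd17 yd11 zd23) (kd xd30 yd59 zd10) (kd xd23 yd17 zd12) (kd xd23 yd17 zd13) (kd xd23 yd18 zd39) (kd xd22 yd27 zd52) (kd xd30 yd59 zd16) (kd xd13 yd48 zd46) (kd xd26 yd9 zd23) (kd xd23 yd17 zd5) (kd xd23 yd17 zd6) (kd xd16 yd20 zd17) (kd xd23 yd14 zd21) (kd xd30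 yd59 zd20) (kd xd13 yd48 zd55) (kd xd27 yd7 zd45) (kd xd13 yd48 zd49) (kd xd23 yd13 zd61) (kd xd30 yd58 zd18) (kd xd30 yd20 zd38) (kd xd27 yd7 zd48) (kd xd13 yd48 zd50) (kd xd30 yd57 zd48) (kd xd13 yd48 zd51) (kd xd24 yd31 zd31) (kd xd24 yd31 zd32) (kd xd23 yd40 zd27) (kd xd30 yd57 zd17) (kd xd30 yd59 zd43) (kd xd30 yd58 zd34) (kd xd30 yd58 zd23) (kd xd30 yd59 zd45) (kd xd30 yd59 zd48) (kd xd13 yd48 zd56) (kd xd21 yd53 zd38) (kd xd30 yd58 zd39) (kd xd13 yd48 zd57) (kd xd19 yd59 zd44) (kd xd13 yd48 zd58) (kd xd23 yd25 zd35) (kd xd13 yd48 zd60) (kd xd13 yd48 zd61) (kd xd23 yd6 zd0) (kd xd22 yd57 zd57) (kd xd28 yd0 zd50) (kd xd20 yd33 zd30) (kd xd23 yd3 zd14) (kd xd30 yd58 zd58) (kd xd30 yd33 zd52) (kd xd30 yd33 zd38) (kd xd20 yd33 zd25) (kd xd15 yd22 zd48) (kd xd21 yd56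 zd13) (kd xd26 yd24 zd8) (kd xd22 yd30 zd35) (kd xd21 yd25 zd8) (kd xd21 yd25 zd20) (kd xd18 yd8 zd28) (kd xd21 yd33 zd48)) (@D3.rec (fun _ => Pt) (kd xd13 yd49 zd7) (kd xd30 yd59 zd54) (kd xd25 yd2 zd8) (kd xd25 yd2 zd7) (kd xd13 yd49 zd8) (kd xd26 yd24 zd9) (kd xd23 yd10 zd6) (kd xd30 yd39 zd57) (kd xd14 yd42 zd61) (kd xd23 yd15 zd61) (kd xd23 yd45 zd15) (kd xd27 yd51 zd7) (kd xd24 yd57 zd26) (kd xd14 yd43 zd9) (kd xd23 yd16 zd1) (kd xd30 yd59 zd60) (kd xd17 yd2 zd38) (kd xd18 yd36 zd30) (kd xd22 yd29 zd41) (kd xd30 yd57 zd33) (kd xd23 yd15 zd24) (kd xd30 yd58 zd17) (kd xd13 yd49 zd18) (kd xd30 yd46 zd57) (kd xd13 yd49 zd19) (kd xd22 yd48 zd28) (kd xd30 yd47 zd6) (kd xd13 yd49 zd20) (kd xd27 yd57 zd55) (kd xd20 yd31 zd1) (kd xd24 yd59 zd43) (kd xd13 yd49 zd22) (kd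 xd24 yd30 zd53) (kd xd25 yd52 zd10) (kd xd16 yd24 zd52) (kd xd19 yd1 zd22) (kd xd29 yd51 zd38) (kd xd23 yd6 zd21) (kd xd30 yd57 zd39) (kd xd23 yd17 zd7) (kd xd30 yd59 zd23) (kd xd13 yd49 zd36) (kd xd31 yd0 zd10) (kd xd20 yd10 zd57) (kd xd30 yd20 zd39) (kd xd13 yd49 zd37) (kd xd16 yd26 zd10) (kd xd23 yd15 zd46) (kd xd29 yd32 zd37) (kd xd31 yd0 zd11) (kd xd22 yd48 zd29) (kd xd31 yd0 zd13) (kd xd22 yd14 zd52) (kd xd24 yd59 zd1) (kd xd24 yd58 zd61) (kd xd22 yd14 zd55) (kd xd31 yd0 zd17) (kd xd29 yd50 zd14) (kd xd14 yd33 zd37) (kd xd24 yd16 zd24) (kd xd14 yd44 zd46) (kd xd31 yd0 zd20)) (@D3.rec (fun _ => Pt) (kd xd22 yd13 zd42) (kd xd29 yd34 zd40) (kd xd16 yd19 zd41) (kd xd29 yd55 zd33) (kd xd13 yd49 zd58) (kd xd31 yd0 zd24) (kd xd19 yd12 zd6) (kd xd19 yd1 zd53) (kd xd13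 yd49 zd59) (kd xd20 yd46 zd42) (kd xd19 yd2 zd4) (kd xd30 yd50 zd60) (kd xd30 yd50 zd51) (kd xd31 yd0 zd32) (kd xd13 yd50 zd0) (kd xd19 yd4 zd42) (kd xd14 yd34 zd13) (kd xd23 yd39 zd47) (kd xd13 yd50 zd5) (kd xd22 yd12 zd42) (kd xd13 yd50 zd8) (kd xd23 yd4 zd51) (kd xd13 yd50 zd9) (kd xd26 yd24 zd36) (kd xd23 yd29 zd33) (kd xd23 yd4 zd52) (kd xd13 yd50 zd12) (kd xd26 yd32 zd37) (kd xd13 yd50 zd13) (kd xd30 yd53 zd59) (kd xd23 yd29 zd32) (kd xd19 yd2 zd11) (kd xd22 yd45 zd5) (kd xd20 yd13 zd57) (kd xd22 yd30 zd5) (kd xd31 yd0 zd37) (kd xd30 yd42 zd18) (kd xd13 yd50 zd18) (kd xd13 yd50 zd19) (kd xd28 yd27 zd0) (kd xd29 yd29 zd60) (kd xd29 yd41 zd7) (kd xd29 yd18 zd38) (kd xd31 yd0 zd38) (kd xd23 yd3 zd9) (kd xd14 yd10 zd53) (kd xd28 yd27 zd45) (kd xd14 yd28 zd43) (kd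 xd31 yd0 zd39) (kd xd18 yd38 zd41) (kd xd30 yd57 zd12) (kd xd29 yd53 zd16) (kd xd23 yd20 zd14) (kd xd31 yd0 zd41) (kd xd13 yd50 zd47) (kd xd22 yd23 zd28) (kd xd23 yd4 zd61) (kd xd30 yd46 zd7) (kd xd13 yd50 zd49) (kd xd26 yd45 zd53) (kd xd31 yd0 zd42) (kd xd13 yd50 zd51)) (@D3.rec (fun _ => Pt) (kd xd30 yd39 zd58) (kd xd28 yd24 zd61) (kd xd14 yd53 zd49) (kd xd30 yd58 zd45) (kd xd13 yd50 zd53) (kd xd22 yd35 zd36) (kd xd29 yd28 zd29) (kd xd23 yd16 zd53) (kd xd13 yd50 zd55) (kd xd21 yd55 zd29) (kd xd30 yd2 zd39) (kd xd13 yd50 zd56) (kd xd22 yd38 zd45) (kd xd21 yd12 zd19) (kd xd23 yd19 zd52) (kd xd16 yd12 zd5) (kd xd16 yd11 zd59) (kd xd13 yd50 zd60) (kd xd29 yd18 zd56) (kd xd25 yd46 zd39) (kd xd29 yd28 zd22) (kd xd22 yd22 zd43) (kd xd30 yd43 zd49) (kd xd16 yd53 zd4) (kd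 xd22 yd59 zd42) (kd xd13 yd51 zd8) (kd xd13 yd51 zd9) (kd xd30 yd57 zd57) (kd xd15 yd47 zd33) (kd xd20 yd21 zd17) (kd xd22 yd28 zd52) (kd xd14 yd45 zd5) (kd xd23 yd1 zd54) (kd xd27 yd26 zd24) (kd xd14 yd59 zd5) (kd xd22 yd51 zd50) (kd xd13 yd51 zd21) (kd xd21 yd28 zd34) (kd xd26 yd19 zd41) (kd xd29 yd30 zd4) (kd xd28 yd0 zd51) (kd xd23 yd32 zd3) (kd xd13 yd51 zd25) (kd xd30 yd46 zd27) (kd xd16 yd32 zd50) (kd xd16 yd32 zd49) (kd xd16 yd6 zd6) (kd xd17 yd36 zd20) (kd xd25 yd34 zd34) (kd xd30 yd30 zd49) (kd xd24 yd58 zd7) (kd xd19 yd46 zd56) (kd xd29 yd43 zd48) (kd xd13 yd51 zd29) (kd xd25 yd58 zd21) (kd xd13 yd51 zd30) (kd xd24 yd47 zd9) (kd xd22 yd11 zd46) (kd xd26 yd29 zd12) (kd xd27 yd17 zd48) (kd xd15 yd12 zd11) (kd xd21 yd10 zd30)) (@D3.rec (fun _ => Pt) (kd xd21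 yd10 zd31) (kd xd16 yd6 zd2) (kd xd26 yd9 zd12) (kd xd22 yd28 zd50) (kd xd27 yd2 zd30) (kd xd26 yd9 zd27) (kd xd14 yd44 zd40) (kd xd14 yd44 zd41) (kd xd21 yd8 zd46) (kd xd31 yd0 zd57) (kd xd13 yd51 zd42) (kd xd30 yd1 zd52) (kd xd14 yd44 zd35) (kd xd14 yd44 zd36) (kd xd21 yd8 zd44) (kd xd31 yd0 zd61) (kd xd21 yd2 zd11) (kd xd21 yd40 zd56) (kd xd31 yd1 zd2) (kd xd31 yd1 zd3) (kd xd18 yd17 zd54) (kd xd27 yd47 zd51) (kd xd24 yd40 zd46) (kd xd21 yd12 zd0) (kd xd21 yd11 zd61) (kd xd13 yd51 zd52) (kd xd31 yd1 zd4) (kd xd22 yd55 zd38) (kd xd31 yd1 zd5) (kd xd29 yd19 zd27) (kd xd13 yd51 zd56) (kd xd23 yd5 zd31) (kd xd24 yd7 zd27) (kd xd22 yd35 zd34) (kd xd13 yd51 zd57) (kd xd31 yd0 zd5) (kd xd28 yd12 zd12) (kd xd24 yd31 zd3) (kd xd13 yd51 zd59) (kd xd31 yd1 zd9) (kd xd19 yd1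 zd51) (kd xd30 yd10 zd46) (kd xd18 yd38 zd53) (kd xd14 yd44 zd45) (kd xd31 yd1 zd11) (kd xd31 yd1 zd12) (kd xd31 yd1 zd13) (kd xd13 yd52 zd4) (kd xd26 yd18 zd35) (kd xd18 yd38 zd52) (kd xd22 yd50 zd8) (kd xd31 yd1 zd16) (kd xd24 yd52 zd55) (kd xd22 yd30 zd53) (kd xd13 yd52 zd11) (kd xd31 yd1 zd17) (kd xd21 yd4 zd26) (kd xd21 yd4 zd27) (kd xd21 yd37 zd4) (kd xd23 yd7 zd13) (kd xd27 yd31 zd9) (kd xd18 yd14 zd10)) (@D3.rec (fun _ => Pt) (kd xd13 yd52 zd15) (kd xd28 yd6 zd27) (kd xd22 yd25 zd28) (kd xd17 yd54 zd6) (kd xd22 yd13 zd28) (kd xd18 yd37 zd4) (kd xd22 yd42 zd31) (kd xd27 yd8 zd32) (kd xd27 yd5 zd50) (kd xd13 yd52 zd22) (kd xd16 yd18 zd53) (kd xd13 yd52 zd24) (kd xd18 yd7 zd5) (kd xd18 yd3 zd46) (kd xd26 yd17 zd2) (kd xd13 yd52 zd25) (kd xd17 yd16 zd4) (kd xd13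 yd52 zd39) (kd xd30 yd5 zd26) (kd xd26 yd33 zd1) (kd xd29 yd14 zd31) (kd xd13 yd52 zd27) (kd xd29 yd38 zd41) (kd xd25 yd1 zd11) (kd xd26 yd17 zd48) (kd xd26 yd5 zd25) (kd xd17 yd44 zd24) (kd xd17 yd44 zd26) (kd xd28 yd28 zd36) (kd xd26 yd13 zd4) (kd xd30 yd25 zd3) (kd xd15 yd23 zd35) (kd xd26 yd12 zd26) (kd xd17 yd44 zd43) (kd xd28 yd0 zd31) (kd xd24 yd40 zd58) (kd xd30 yd25 zd6) (kd xd18 yd17 zd57) (kd xd13 yd52 zd37) (kd xd22 yd14 zd49) (kd xd27 yd33 zd12) (kd xd26 yd16 zd61) (kd xd23 yd33 zd25) (kd xd26 yd2 zd20) (kd xd16 yd3 zd9) (kd xd22 yd42 zd34) (kd xd13 yd55 zd25) (kd xd13 yd52 zd49) (kd xd13 yd52 zd50) (kd xd27 yd39 zd13) (kd xd27 yd40 zd26) (kd xd21 yd29 zd34) (kd xd13 yd52 zd52) (kd xd18 yd3 zd34) (kd xd28 yd11 zd54) (kd xd13 yd52 zd54) (kd xd30 yd42 zd33)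 (kd xd30 yd12 zd38) (kd xd15 yd3 zd20) (kd xd29 yd55 zd18) (kd xd28 yd27 zd44) (kd xd13 yd52 zd59)) (@D3.rec (fun _ => Pt) (kd xd14 yd53 zd61) (kd xd14 yd14 zd22) (kd xd31 yd1 zd36) (kd xd13 yd53 zd0) (kd xd31 yd0 zd46) (kd xd13 yd53 zd2) (kd xd17 yd12 zd24) (kd xd17 yd12 zd23) (kd xd22 yd53 zd37) (kd xd13 yd53 zd4) (kd xd15 yd45 zd43) (kd xd23 yd40 zd15) (kd xd13 yd55 zd51) (kd xd21 yd46 zd61) (kd xd13 yd53 zd8) (kd xd23 yd26 zd26) (kd xd20 yd12 zd45) (kd xd23 yd27 zd47) (kd xd14 yd54 zd4) (kd xd13 yd53 zd13) (kd xd13 yd53 zd14) (kd xd23 yd28 zd32) (kd xd23 yd26 zd58) (kd xd23 yd26 zd59) (kd xd28 yd45 zd22) (kd xd23 yd28 zd34) (kd xd23 yd39 zd6) (kd xd23 yd39 zd7) (kd xd29 yd49 zd52) (kd xd23 yd28 zd38) (kd xd14 yd10 zd2) (kd xd22 yd58 zd28) (kd xd26 yd28 zd46) (kd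 xd25 yd2 zd54) (kd xd25 yd2 zd57) (kd xd28 yd10 zd6) (kd xd23 yd45 zd20) (kd xd31 yd1 zd47) (kd xd26 yd41 zd2) (kd xd30 yd55 zd4) (kd xd15 yd44 zd30) (kd xd20 yd34 zd31) (kd xd22 yd44 zd60) (kd xd22 yd44 zd59) (kd xd23 yd30 zd18) (kd xd13 yd53 zd31) (kd xd26 yd29 zd25) (kd xd13 yd53 zd33) (kd xd13 yd53 zd35) (kd xd13 yd53 zd40) (kd xd28 yd15 zd17) (kd xd13 yd53 zd45) (kd xd22 yd58 zd24) (kd xd28 yd36 zd21) (kd xd28 yd29 zd34) (kd xd24 yd39 zd36) (kd xd22 yd19 zd38) (kd xd29 yd38 zd7) (kd xd21 yd31 zd23) (kd xd21 yd31 zd24) (kd xd21 yd31 zd10) (kd xd17 yd40 zd0)) (@D3.rec (fun _ => Pt) (kd xd18 yd47 zd46) (kd xd27 yd21 zd60) (kd xd13 yd53 zd52) (kd xd13 yd53 zd53) (kd xd13 yd53 zd54) (kd xd21 yd40 zd51) (kd xd13 yd53 zd55) (kd xd13 yd53 zd56) (kd xd22 yd18 zd37) (kd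 xd14 yd14 zd53) (kd xd13 yd53 zd61) (kd xd13 yd54 zd0) (kd xd25 yd4 zd9) (kd xd13 yd54 zd3) (kd xd22 yd33 zd53) (kd xd13 yd54 zd4) (kd xd31 yd1 zd52) (kd xd27 yd40 zd31) (kd xd22 yd57 zd25) (kd xd13 yd54 zd6) (kd xd30 yd41 zd11) (kd xd24 yd4 zd56) (kd xd19 yd48 zd49) (kd xd25 yd24 zd26) (kd xd28 yd57 zd2) (kd xd21 yd3 zd2) (kd xd23 yd27 zd45) (kd xd13 yd56 zd35) (kd xd13 yd54 zd17) (kd xd25 yd49 zd35) (kd xd22 yd4 zd44) (kd xd13 yd54 zd18) (kd xd24 yd37 zd45) (kd xd30 yd40 zd61) (kd xd23 yd29 zd6) (kd xd13 yd54 zd27) (kd xd13 yd54 zd28) (kd xd31 yd2 zd0) (kd xd31 yd2 zd4) (kd xd25 yd31 zd30) (kd xd13 yd54 zd31) (kd xd26 yd9 zd32) (kd xd17 yd9 zd7) (kd xd13 yd54 zd32) (kd xd16 yd29 zd28) (kd xd13 yd54 zd33) (kd xd31 yd2 zd6) (kd xd19 yd50 zd35) (kd xd20 yd24 zd42) (kd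 xd26 yd27 zd18) (kd xd13 yd54 zd35) (kd xd30 yd59 zd4) (kd xd13 yd54 zd36) (kd xd22 yd39 zd14) (kd xd13 yd54 zd37) (kd xd26 yd47 zd19) (kd xd31 yd2 zd10) (kd xd24 yd32 zd2) (kd xd13 yd54 zd40) (kd xd22 yd15 zd47) (kd xd31 yd2 zd15) (kd xd30 yd40 zd16)) (@D3.rec (fun _ => Pt) (kd xd31 yd2 zd19) (kd xd24 yd35 zd9) (kd xd30 yd41 zd61) (kd xd31 yd2 zd22) (kd xd13 yd54 zd43) (kd xd25 yd39 zd20) (kd xd23 yd1 zd60) (kd xd13 yd54 zd45) (kd xd14 yd39 zd60) (kd xd14 yd7 zd7) (kd xd22 yd23 zd27) (kd xd14 yd46 zd56) (kd xd24 yd27 zd34) (kd xd14 yd40 zd4) (kd xd21 yd29 zd10) (kd xd15 yd50 zd7) (kd xd13 yd54 zd49) (kd xd27 yd3 zd21) (kd xd26 yd27 zd39) (kd xd14 yd50 zd19) (kd xd23 yd46 zd40) (kd xd23 yd2 zd1) (kd xd13 yd54 zd55) (kd xd18 yd20 zd11) (kd xd26 yd1 zd0) (kd xd23 yd42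 zd26) (kd xd24 yd41 zd31) (kd xd22 yd28 zd17) (kd xd18 yd42 zd24) (kd xd18 yd58 zd55) (kd xd31 yd2 zd31) (kd xd31 yd2 zd33) (kd xd30 yd40 zd42) (kd xd14 yd3 zd44) (kd xd18 yd49 zd43) (kd xd23 yd17 zd42) (kd xd26 yd45 zd44) (kd xd27 yd56 zd39) (kd xd14 yd47 zd16) (kd xd20 yd33 zd28) (kd xd31 yd2 zd37) (kd xd24 yd44 zd4) (kd xd24 yd44 zd5) (kd xd23 yd32 zd41) (kd xd26 yd9 zd40) (kd xd22 yd46 zd8) (kd xd18 yd29 zd13) (kd xd19 yd58 zd48) (kd xd14 yd2 zd31) (kd xd18 yd43 zd8) (kd xd19 yd49 zd53) (kd xd15 yd20 zd45) (kd xd15 yd20 zd43) (kd xd25 yd49 zd10) (kd xd25 yd15 zd54) (kd xd21 yd55 zd33) (kd xd21 yd55 zd32) (kd xd21 yd6 zd8) (kd xd31 yd2 zd47) (kd xd23 yd33 zd8) (kd xd13 yd55 zd18) (kd xd13 yd55 zd20)) (@D3.rec (fun _ => Pt) (kd xd27 yd25 zd41) (kd xd31 yd2 zd52) (kd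 xd13 yd55 zd21) (kd xd31 yd2 zd55) (kd xd23 yd3 zd24) (kd xd23 yd3 zd29) (kd xd23 yd38 zd43) (kd xd13 yd55 zd23) (kd xd14 yd55 zd16) (kd xd27 yd4 zd26) (kd xd13 yd55 zd26) (kd xd25 yd9 zd10) (kd xd18 yd40 zd16) (kd xd24 yd40 zd47) (kd xd24 yd40 zd49) (kd xd23 yd28 zd57) (kd xd17 yd3 zd19) (kd xd26 yd2 zd34) (kd xd26 yd1 zd56) (kd xd17 yd4 zd4) (kd xd23 yd35 zd17) (kd xd13 yd55 zd39) (kd xd23 yd35 zd11) (kd xd31 yd3 zd6) (kd xd13 yd55 zd40) (kd xd15 yd45 zd34) (kd xd23 yd23 zd15) (kd xd21 yd37 zd56) (kd xd25 yd12 zd4) (kd xd31 yd3 zd10) (kd xd13 yd55 zd43) (kd xd15 yd45 zd35) (kd xd23 yd29 zd60) (kd xd30 yd10 zd58) (kd xd28 yd50 zd55) (kd xd13 yd55 zd47) (kd xd28 yd12 zd25) (kd xd24 yd34 zd28) (kd xd28 yd4 zd18) (kd xd13 yd55 zd50) (kd xd31 yd1 zd40) (kd xd27 yd43 zd29)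 (kd xd14 yd51 zd55) (kd xd23 yd36 zd2) (kd xd19 yd59 zd7) (kd xd17 yd59 zd22) (kd xd18 yd1 zd9) (kd xd28 yd31 zd31) (kd xd13 yd55 zd53) (kd xd18 yd1 zd26) (kd xd31 yd3 zd24) (kd xd13 yd55 zd55) (kd xd13 yd55 zd56) (kd xd23 yd36 zd24) (kd xd22 yd27 zd13) (kd xd22 yd27 zd14) (kd xd21 yd48 zd43) (kd xd23 yd36 zd26) (kd xd23 yd23 zd22) (kd xd23 yd23 zd23) (kd xd21 yd55 zd50) (kd xd13 yd55 zd61)) (@D3.rec (fun _ => Pt) (kd xd13 yd56 zd0) (kd xd14 yd48 zd35) (kd xd14 yd48 zd28) (kd xd22 yd48 zd0) (kd xd24 yd38 zd15) (kd xd23 yd59 zd25) (kd xd27 yd43 zd41) (kd xd24 yd34 zd46) (kd xd29 yd16 zd15) (kd xd23 yd2 zd31) (kd xd30 yd13 zd41) (kd xd14 yd2 zd59) (kd xd31 yd3 zd44) (kd xd19 yd8 zd20) (kd xd24 yd42 zd14) (kd xd24 yd41 zd15) (kd xd24 yd30 zd50) (kd xd13 yd56 zd11) (kd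 xd13 yd56 zd12) (kd xd13 yd56 zd13) (kd xd22 yd26 zd13) (kd xd13 yd56 zd14) (kd xd22 yd21 zd57) (kd xd13 yd56 zd16) (kd xd22 yd54 zd0) (kd xd28 yd14 zd7) (kd xd13 yd56 zd19) (kd xd14 yd28 zd8) (kd xd31 yd3 zd49) (kd xd22 yd40 zd36) (kd xd15 yd21 zd22) (kd xd13 yd56 zd23) (kd xd22 yd53 zd61) (kd xd24 yd42 zd44) (kd xd28 yd59 zd28) (kd xd23 yd45 zd13) (kd xd30 yd47 zd49) (kd xd26 yd29 zd39) (kd xd28 yd15 zd13) (kd xd13 yd56 zd27) (kd xd22 yd54 zd3) (kd xd22 yd44 zd7) (kd xd28 yd51 zd5) (kd xd13 yd56 zd29) (kd xd21 yd37 zd59) (kd xd23 yd24 zd26) (kd xd21 yd50 zd35) (kd xd23 yd23 zd17) (kd xd31 yd4 zd2) (kd xd31 yd4 zd3) (kd xd13 yd56 zd31) (kd xd21 yd50 zd37) (kd xd31 yd2 zd18) (kd xd23 yd35 zd10) (kd xd13 yd56 zd34) (kd xd22 yd40 zd48) (kd xd20 yd4 zd26) (kd xd24 yd22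 zd32) (kd xd15 yd45 zd37) (kd xd20 yd4 zd25) (kd xd15 yd45 zd36) (kd xd25 yd14 zd21)) (@D3.rec (fun _ => Pt) (kd xd15 yd29 zd52) (kd xd29 yd56 zd28) (kd xd13 yd56 zd37) (kd xd18 yd1 zd49) (kd xd22 yd44 zd12) (kd xd14 yd55 zd19) (kd xd14 yd46 zd2) (kd xd22 yd29 zd45) (kd xd24 yd39 zd43) (kd xd21 yd17 zd17) (kd xd21 yd5 zd61) (kd xd14 yd54 zd40) (kd xd27 yd2 zd20) (kd xd13 yd56 zd45) (kd xd13 yd56 zd46) (kd xd23 yd35 zd32) (kd xd23 yd34 zd36) (kd xd19 yd56 zd7) (kd xd24 yd37 zd60) (kd xd22 yd21 zd14) (kd xd17 yd4 zd10) (kd xd19 yd44 zd30) (kd xd30 yd9 zd44) (kd xd31 yd4 zd24) (kd xd31 yd3 zd7) (kd xd24 yd38 zd3) (kd xd23 yd59 zd30) (kd xd24 yd39 zd39) (kd xd25 yd35 zd28) (kd xd29 yd10 zd11) (kd xd31 yd4 zd32) (kd xd23 yd45 zd2) (kd xd23 yd23 zd21) (kd xd19 yd26 zd33)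 (kd xd23 yd23 zd25) (kd xd24 yd39 zd9) (kd xd20 yd28 zd39) (kd xd27 yd42 zd29) (kd xd23 yd23 zd29) (kd xd25 yd4 zd59) (kd xd30 yd4 zd48) (kd xd30 yd4 zd49) (kd xd31 yd4 zd46) (kd xd24 yd37 zd7) (kd xd24 yd16 zd25) (kd xd28 yd3 zd25) (kd xd16 yd11 zd17) (kd xd14 yd50 zd41) (kd xd24 yd37 zd10) (kd xd13 yd57 zd1) (kd xd13 yd57 zd2) (kd xd31 yd4 zd56) (kd xd13 yd57 zd4) (kd xd13 yd57 zd5) (kd xd31 yd4 zd57) (kd xd31 yd4 zd58) (kd xd13 yd57 zd9) (kd xd23 yd26 zd15) (kd xd26 yd48 zd3) (kd xd25 yd25 zd23) (kd xd13 yd57 zd14) (kd xd19 yd16 zd58)) (@D3.rec (fun _ => Pt) (kd xd31 yd4 zd60) (kd xd24 yd33 zd51) (kd xd13 yd57 zd15) (kd xd30 yd33 zd41) (kd xd27 yd30 zd26) (kd xd20 yd54 zd47) (kd xd23 yd24 zd34) (kd xd13 yd57 zd17) (kd xd29 yd46 zd37) (kd xd15 yd42 zd61) (kd xd13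 yd57 zd21) (kd xd14 yd29 zd38) (kd xd26 yd48 zd32) (kd xd28 yd31 zd34) (kd xd13 yd57 zd24) (kd xd20 yd29 zd54) (kd xd18 yd58 zd52) (kd xd24 yd10 zd4) (kd xd20 yd20 zd35) (kd xd20 yd29 zd51) (kd xd20 yd29 zd52) (kd xd13 yd57 zd28) (kd xd20 yd16 zd23) (kd xd13 yd57 zd32) (kd xd17 yd55 zd50) (kd xd14 yd51 zd5) (kd xd18 yd40 zd13) (kd xd18 yd40 zd14) (kd xd13 yd57 zd35) (kd xd18 yd0 zd54) (kd xd28 yd27 zd28) (kd xd23 yd44 zd21) (kd xd23 yd19 zd30) (kd xd23 yd19 zd24) (kd xd22 yd27 zd9) (kd xd24 yd43 zd37) (kd xd24 yd43 zd17) (kd xd13 yd57 zd41) (kd xd22 yd10 zd15) (kd xd13 yd57 zd43) (kd xd14 yd5 zd16) (kd xd13 yd57 zd46) (kd xd30 yd33 zd13) (kd xd13 yd57 zd50) (kd xd13 yd57 zd51) (kd xd23 yd31 zd8) (kd xd23 yd42 zd58) (kd xd23 yd42 zd59) (kd xd22 yd44 zd32) (kd xd13 yd57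 zd53) (kd xd13 yd57 zd54) (kd xd24 yd43 zd6) (kd xd14 yd47 zd19) (kd xd24 yd43 zd8) (kd xd24 yd37 zd20) (kd xd24 yd21 zd61) (kd xd23 yd16 zd21) (kd xd29 yd59 zd31) (kd xd16 yd25 zd5) (kd xd16 yd24 zd61) (kd xd23 yd26 zd32) (kd xd22 yd44 zd33)) (@D3.rec (fun _ => Pt) (kd xd14 yd4 zd17) (kd xd14 yd8 zd36) (kd xd29 yd50 zd6) (kd xd13 yd58 zd1) (kd xd23 yd30 zd56) (kd xd25 yd13 zd24) (kd xd23 yd30 zd58) (kd xd24 yd32 zd10) (kd xd17 yd55 zd44) (kd xd23 yd42 zd21) (kd xd26 yd46 zd55) (kd xd26 yd46 zd54) (kd xd30 yd11 zd23) (kd xd20 yd29 zd16) (kd xd22 yd44 zd38) (kd xd31 yd5 zd41) (kd xd14 yd54 zd56) (kd xd21 yd36 zd12) (kd xd23 yd23 zd44) (kd xd23 yd5 zd45) (kd xd23 yd9 zd45) (kd xd22 yd19 zd56) (kd xd24 yd16 zd54) (kd xd24 yd16 zd55) (kd xd24 yd16 zd32) (kd xd24 yd15 zd4)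 (kd xd30 yd47 zd15) (kd xd30 yd40 zd53) (kd xd30 yd40 zd51) (kd xd13 yd58 zd19) (kd xd20 yd54 zd39) (kd xd20 yd54 zd44) (kd xd24 yd22 zd15) (kd xd25 yd49 zd58) (kd xd14 yd49 zd11) (kd xd13 yd58 zd28) (kd xd24 yd37 zd35) (kd xd22 yd45 zd61) (kd xd19 yd43 zd52) (kd xd25 yd49 zd52) (kd xd13 yd58 zd33) (kd xd17 yd22 zd19) (kd xd19 yd48 zd48) (kd xd26 yd48 zd47) (kd xd19 yd48 zd61) (kd xd17 yd54 zd61) (kd xd22 yd4 zd32) (kd xd13 yd58 zd46) (kd xd14 yd39 zd61) (kd xd16 yd59 zd30) (kd xd17 yd3 zd13) (kd xd20 yd54 zd58) (kd xd17 yd53 zd5) (kd xd19 yd6 zd11) (kd xd13 yd58 zd49) (kd xd14 yd46 zd52) (kd xd23 yd30 zd4) (kd xd20 yd40 zd55) (kd xd23 yd30 zd6) (kd xd26 yd31 zd55) (kd xd30 yd27 zd55) (kd xd21 yd30 zd12)) (@D3.rec (fun _ => Pt) (kd xd22 yd5 zd61) (kd xd22 yd55 zd22)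 (kd xd13 yd58 zd55) (kd xd22 yd4 zd60) (kd xd21 yd40 zd39) (kd xd13 yd58 zd59) (kd xd13 yd58 zd60) (kd xd24 yd42 zd27) (kd xd23 yd29 zd45) (kd xd31 yd6 zd2) (kd xd29 yd11 zd32) (kd xd13 yd59 zd1) (kd xd30 yd2 zd58) (kd xd17 yd26 zd54) (kd xd30 yd24 zd3) (kd xd13 yd59 zd4) (kd xd18 yd1 zd3) (kd xd29 yd43 zd56) (kd xd13 yd59 zd8) (kd xd24 yd43 zd1) (kd xd14 yd11 zd11) (kd xd22 yd23 zd30) (kd xd13 yd59 zd12) (kd xd29 yd53 zd25) (kd xd13 yd59 zd18) (kd xd14 yd0 zd19) (kd xd22 yd17 zd30) (kd xd13 yd59 zd22) (kd xd23 yd43 zd34) (kd xd18 yd58 zd47) (kd xd24 yd41 zd13) (kd xd23 yd36 zd44) (kd xd19 yd0 zd19) (kd xd13 yd59 zd26) (kd xd20 yd29 zd25) (kd xd20 yd29 zd26) (kd xd25 yd2 zd40) (kd xd25 yd2 zd39) (kd xd16 yd29 zd19) (kd xd16 yd29 zd20) (kd xd25 yd12 zd0) (kd xd16 yd47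 zd18) (kd xd30 yd42 zd44) (kd xd21 yd10 zd14) (kd xd23 yd44 zd5) (kd xd16 yd6 zd7) (kd xd30 yd35 zd16) (kd xd23 yd32 zd5) (kd xd27 yd40 zd16) (kd xd27 yd48 zd14) (kd xd13 yd59 zd47) (kd xd27 yd58 zd56) (kd xd28 yd27 zd37) (kd xd22 yd43 zd46) (kd xd31 yd6 zd10) (kd xd27 yd48 zd10) (kd xd19 yd0 zd12) (kd xd31 yd6 zd11) (kd xd28 yd12 zd38) (kd xd23 yd11 zd57) (kd xd13 yd59 zd55) (kd xd31 yd6 zd13)) (@D3.rec (fun _ => Pt) (kd xd23 yd32 zd2) (kd xd28 yd22 zd13) (kd xd23 yd32 zd0) (kd xd23 yd20 zd41) (kd xd23 yd32 zd22) (kd xd23 yd31 zd47) (kd xd19 yd1 zd48) (kd xd16 yd35 zd61) (kd xd13 yd59 zd59) (kd xd28 yd10 zd61) (kd xd31 yd6 zd15) (kd xd24 yd55 zd56) (kd xd13 yd59 zd60) (kd xd17 yd54 zd32) (kd xd13 yd59 zd61) (kd xd30 yd42 zd19) (kd xd25 yd30 zd45) (kd xd14 yd0 zd1)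 (kd xd18 yd52 zd49) (kd xd16 yd12 zd46) (kd xd25 yd22 zd48) (kd xd18 yd52 zd44) (kd xd23 yd32 zd4) (kd xd18 yd42 zd25) (kd xd21 yd53 zd54) (kd xd20 yd25 zd26) (kd xd16 yd30 zd55) (kd xd19 yd5 zd52) (kd xd31 yd6 zd20) (kd xd14 yd0 zd8) (kd xd23 yd32 zd36) (kd xd23 yd32 zd37) (kd xd23 yd33 zd42) (kd xd22 yd18 zd26) (kd xd14 yd0 zd11) (kd xd24 yd57 zd2) (kd xd23 yd32 zd30) (kd xd23 yd32 zd31) (kd xd20 yd33 zd29) (kd xd29 yd7 zd59) (kd xd14 yd0 zd13) (kd xd23 yd25 zd43) (kd xd15 yd22 zd46) (kd xd22 yd57 zd36) (kd xd30 yd4 zd25) (kd xd24 yd57 zd33) (kd xd26 yd8 zd42) (kd xd24 yd54 zd61) (kd xd14 yd0 zd16) (kd xd24 yd58 zd56) (kd xd24 yd58 zd55) (kd xd31 yd6 zd27) (kd xd28 yd21 zd18) (kd xd22 yd17 zd29) (kd xd31 yd6 zd28) (kd xd31 yd6 zd29) (kd xd14 yd0 zd20) (kd xd23 yd37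 zd12) (kd xd14 yd0 zd21) (kd xd16 yd13 zd19) (kd xd28 yd21 zd20) (kd xd14 yd0 zd22)) (@D3.rec (fun _ => Pt) (kd xd24 yd30 zd52) (kd xd14 yd0 zd23) (kd xd14 yd0 zd24) (kd xd14 yd0 zd25) (kd xd22 yd58 zd21) (kd xd23 yd2 zd21) (kd xd31 yd6 zd36) (kd xd23 yd44 zd44) (kd xd23 yd25 zd59) (kd xd18 yd54 zd30) (kd xd31 yd6 zd39) (kd xd27 yd44 zd40) (kd xd23 yd44 zd47) (kd xd14 yd0 zd30) (kd xd24 yd34 zd27) (kd xd24 yd37 zd58) (kd xd29 yd52 zd54) (kd xd22 yd27 zd3) (kd xd31 yd5 zd12) (kd xd16 yd2 zd41) (kd xd20 yd6 zd16) (kd xd15 yd8 zd17) (kd xd24 yd52 zd5) (kd xd25 yd1 zd19) (kd xd14 yd0 zd48) (kd xd23 yd22 zd42) (kd xd24 yd40 zd3) (kd xd31 yd6 zd41) (kd xd31 yd4 zd41) (kd xd24 yd40 zd5) (kd xd14 yd0 zd54) (kd xd22 yd57 zd61) (kd xd22 yd46 zd60) (kd xd24 yd39 zd42) (kd xd29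 yd28 zd27) (kd xd30 yd54 zd16) (kd xd28 yd37 zd23) (kd xd25 yd40 zd25) (kd xd24 yd39 zd46) (kd xd14 yd2 zd37) (kd xd23 yd40 zd3) (kd xd28 yd27 zd7) (kd xd23 yd32 zd32) (kd xd14 yd1 zd2) (kd xd25 yd15 zd53) (kd xd29 yd51 zd33) (kd xd19 yd2 zd5) (kd xd24 yd40 zd4) (kd xd25 yd39 zd40) (kd xd19 yd2 zd13) (kd xd28 yd26 zd9) (kd xd16 yd11 zd22) (kd xd14 yd39 zd6) (kd xd23 yd34 zd9) (kd xd25 yd2 zd56) (kd xd29 yd39 zd6) (kd xd31 yd6 zd55) (kd xd23 yd52 zd7) (kd xd23 yd52 zd8) (kd xd22 yd35 zd52) (kd xd14 yd1 zd17) (kd xd14 yd25 zd20)) (@D3.rec (fun _ => Pt) (kd xd28 yd32 zd54) (kd xd14 yd1 zd18) (kd xd22 yd7 zd1) (kd xd24 yd18 zd23) (kd xd24 yd18 zd24) (kd xd14 yd19 zd8) (kd xd23 yd11 zd52) (kd xd22 yd27 zd59) (kd xd23 yd14 zd8) (kd xd23 yd33 zd53) (kd xd22 yd15 zd39) (kd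 xd22 yd15 zd38) (kd xd23 yd51 zd54) (kd xd23 yd7 zd27) (kd xd22 yd35 zd1) (kd xd23 yd51 zd28) (kd xd14 yd1 zd28) (kd xd30 yd44 zd54) (kd xd14 yd15 zd18) (kd xd14 yd1 zd29) (kd xd26 yd40 zd14) (kd xd18 yd28 zd11) (kd xd28 yd29 zd54) (kd xd28 yd19 zd12) (kd xd30 yd37 zd0) (kd xd14 yd1 zd32) (kd xd22 yd46 zd41) (kd xd26 yd30 zd10) (kd xd14 yd1 zd34) (kd xd30 yd37 zd32) (kd xd20 yd6 zd45) (kd xd14 yd1 zd37) (kd xd30 yd5 zd34) (kd xd26 yd48 zd57) (kd xd14 yd33 zd6) (kd xd14 yd1 zd42) (kd xd23 yd28 zd16) (kd xd22 yd20 zd50) (kd xd14 yd1 zd50) (kd xd31 yd7 zd4) (kd xd24 yd44 zd32) (kd xd14 yd1 zd52) (kd xd30 yd8 zd56) (kd xd27 yd47 zd19) (kd xd14 yd1 zd54) (kd xd28 yd43 zd54) (kd xd28 yd43 zd53) (kd xd27 yd44 zd34) (kd xd14 yd1 zd57) (kd xd14 yd1 zd58) (kd xd31 yd2 zd51) (kd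 xd29 yd7 zd6) (kd xd31 yd7 zd8) (kd xd14 yd1 zd60) (kd xd22 yd45 zd15) (kd xd27 yd29 zd13) (kd xd29 yd55 zd21) (kd xd31 yd7 zd10) (kd xd30 yd32 zd44) (kd xd26 yd14 zd14) (kd xd24 yd52 zd29) (kd xd30 yd12 zd51)) (@D3.rec (fun _ => Pt) (kd xd26 yd21 zd3) (kd xd30 yd52 zd44) (kd xd28 yd12 zd3) (kd xd26 yd8 zd26) (kd xd30 yd17 zd60) (kd xd28 yd0 zd38) (kd xd14 yd2 zd7) (kd xd26 yd8 zd25) (kd xd14 yd2 zd8) (kd xd14 yd2 zd9) (kd xd23 yd27 zd53) (kd xd23 yd26 zd22) (kd xd14 yd2 zd11) (kd xd14 yd2 zd12) (kd xd31 yd7 zd16) (kd xd14 yd2 zd13) (kd xd23 yd38 zd48) (kd xd23 yd26 zd20) (kd xd14 yd2 zd15) (kd xd22 yd6 zd21) (kd xd23 yd38 zd49) (kd xd14 yd5 zd31) (kd xd14 yd22 zd2) (kd xd30 yd8 zd28) (kd xd14 yd2 zd20) (kd xd14 yd2 zd22) (kd xd16 yd4 zd55) (kd xd16 yd4 zd54) (kd xd23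 yd13 zd39) (kd xd28 yd11 zd61) (kd xd28 yd11 zd60) (kd xd29 yd10 zd33) (kd xd23 yd28 zd15) (kd xd23 yd39 zd23) (kd xd30 yd7 zd32) (kd xd14 yd2 zd35) (kd xd14 yd2 zd36) (kd xd23 yd39 zd24) (kd xd21 yd19 zd53) (kd xd21 yd58 zd29) (kd xd31 yd7 zd19) (kd xd31 yd7 zd20) (kd xd23 yd39 zd27) (kd xd14 yd2 zd42) (kd xd26 yd13 zd31) (kd xd30 yd25 zd4) (kd xd19 yd59 zd42) (kd xd30 yd25 zd2) (kd xd30 yd5 zd27) (kd xd22 yd15 zd35) (kd xd22 yd15 zd10) (kd xd25 yd46 zd1) (kd xd27 yd43 zd35) (kd xd16 yd18 zd39) (kd xd27 yd59 zd33) (kd xd31 yd7 zd25) (kd xd14 yd2 zd50) (kd xd22 yd8 zd47) (kd xd22 yd8 zd48) (kd xd14 yd2 zd55) (kd xd31 yd7 zd27) (kd xd14 yd2 zd58)) (@D3.rec (fun _ => Pt) (kd xd28 yd43 zd51) (kd xd14 yd2 zd60) (kd xd23 yd26 zd43) (kd xd16 yd5 zd13) (kd xd24 yd27 zd25)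 (kd xd14 yd3 zd3) (kd xd17 yd55 zd2) (kd xd22 yd37 zd51) (kd xd30 yd16 zd44) (kd xd23 yd39 zd29) (kd xd18 yd0 zd34) (kd xd31 yd7 zd31) (kd xd14 yd3 zd11) (kd xd29 yd42 zd55) (kd xd23 yd38 zd17) (kd xd21 yd50 zd60) (kd xd23 yd44 zd56) (kd xd18 yd37 zd7) (kd xd18 yd29 zd47) (kd xd23 yd44 zd59) (kd xd24 yd34 zd29) (kd xd30 yd12 zd33) (kd xd27 yd56 zd47) (kd xd24 yd22 zd36) (kd xd23 yd26 zd53) (kd xd28 yd58 zd52) (kd xd23 yd26 zd57) (kd xd18 yd29 zd49) (kd xd22 yd45 zd40) (kd xd16 yd32 zd42) (kd xd20 yd41 zd7) (kd xd21 yd0 zd36) (kd xd26 yd55 zd15) (kd xd18 yd7 zd14) (kd xd24 yd44 zd9) (kd xd22 yd15 zd36) (kd xd19 yd22 zd24) (kd xd14 yd3 zd30) (kd xd23 yd51 zd58) (kd xd31 yd7 zd37) (kd xd30 yd30 zd35) (kd xd29 yd39 zd3) (kd xd29 yd39 zd4) (kd xd22 yd21 zd53) (kd xd23 yd31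 zd31) (kd xd22 yd12 zd18) (kd xd29 yd36 zd56) (kd xd30 yd38 zd18) (kd xd29 yd36 zd51) (kd xd22 yd34 zd49) (kd xd18 yd33 zd15) (kd xd22 yd21 zd33) (kd xd27 yd35 zd6) (kd xd29 yd20 zd37) (kd xd28 yd9 zd30) (kd xd14 yd3 zd47) (kd xd21 yd9 zd2) (kd xd21 yd9 zd0) (kd xd14 yd58 zd17) (kd xd22 yd8 zd44) (kd xd21 yd4 zd31) (kd xd14 yd3 zd50)) (@D3.rec (fun _ => Pt) (kd xd21 yd25 zd54) (kd xd17 yd31 zd36) (kd xd20 yd45 zd19) (kd xd30 yd27 zd18) (kd xd14 yd3 zd55) (kd xd14 yd3 zd56) (kd xd31 yd7 zd51) (kd xd14 yd3 zd58) (kd xd31 yd7 zd52) (kd xd14 yd3 zd59) (kd xd28 yd55 zd26) (kd xd24 yd35 zd5) (kd xd23 yd32 zd57) (kd xd14 yd3 zd61) (kd xd14 yd4 zd0) (kd xd19 yd54 zd60) (kd xd31 yd7 zd54) (kd xd19 yd55 zd47) (kd xd14 yd4 zd3) (kd xd21 yd40 zd52) (kd xd14 yd4 zd4) (kd xd22 yd8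 zd34) (kd xd31 yd7 zd57) (kd xd22 yd45 zd32) (kd xd31 yd7 zd60) (kd xd30 yd41 zd26) (kd xd22 yd45 zd34) (kd xd31 yd8 zd0) (kd xd24 yd31 zd55) (kd xd31 yd8 zd1) (kd xd31 yd5 zd0) (kd xd14 yd4 zd9) (kd xd20 yd4 zd37) (kd xd16 yd51 zd52) (kd xd26 yd8 zd23) (kd xd14 yd4 zd14) (kd xd31 yd5 zd29) (kd xd21 yd37 zd26) (kd xd15 yd14 zd17) (kd xd14 yd7 zd8) (kd xd23 yd41 zd24) (kd xd29 yd18 zd22) (kd xd14 yd55 zd58) (kd xd14 yd46 zd43) (kd xd14 yd46 zd47) (kd xd14 yd4 zd21) (kd xd14 yd4 zd22) (kd xd15 yd14 zd23) (kd xd15 yd14 zd24) (kd xd14 yd4 zd23) (kd xd28 yd56 zd56) (kd xd14 yd4 zd30) (kd xd14 yd4 zd31) (kd xd20 yd18 zd2) (kd xd31 yd8 zd14) (kd xd14 yd4 zd34) (kd xd14 yd4 zd35) (kd xd14 yd4 zd36) (kd xd22 yd8 zd41) (kd xd22 yd8 zd42) (kd xd28 yd4 zd31) (kd xd24 yd44 zd45))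 (@D3.rec (fun _ => Pt) (kd xd14 yd4 zd39) (kd xd21 yd3 zd51) (kd xd14 yd4 zd42) (kd xd17 yd13 zd39) (kd xd14 yd4 zd46) (kd xd14 yd4 zd47) (kd xd17 yd7 zd1) (kd xd26 yd3 zd58) (kd xd20 yd26 zd47) (kd xd27 yd13 zd56) (kd xd17 yd53 zd38) (kd xd14 yd5 zd1) (kd xd14 yd5 zd2) (kd xd14 yd5 zd3) (kd xd14 yd5 zd4) (kd xd24 yd37 zd48) (kd xd14 yd5 zd5) (kd xd23 yd36 zd14) (kd xd22 yd27 zd4) (kd xd22 yd27 zd5) (kd xd31 yd8 zd25) (kd xd14 yd5 zd9) (kd xd14 yd53 zd18) (kd xd14 yd5 zd12) (kd xd14 yd5 zd13) (kd xd14 yd5 zd14) (kd xd18 yd40 zd57) (kd xd22 yd53 zd48) (kd xd31 yd5 zd19) (kd xd24 yd40 zd52) (kd xd14 yd5 zd19) (kd xd30 yd54 zd56) (kd xd31 yd5 zd18) (kd xd30 yd54 zd57) (kd xd31 yd8 zd30) (kd xd28 yd11 zd44) (kd xd30 yd19 zd39) (kd xd31 yd8 zd48) (kd xd18 yd6 zd16) (kd xd31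 yd8 zd50) (kd xd31 yd8 zd53) (kd xd30 yd40 zd25) (kd xd14 yd5 zd24) (kd xd23 yd26 zd6) (kd xd22 yd42 zd50) (kd xd25 yd42 zd41) (kd xd31 yd8 zd59) (kd xd14 yd5 zd26) (kd xd23 yd35 zd16) (kd xd23 yd35 zd20) (kd xd21 yd49 zd12) (kd xd30 yd4 zd41) (kd xd30 yd37 zd23) (kd xd22 yd40 zd52) (kd xd14 yd5 zd28) (kd xd27 yd44 zd1) (kd xd31 yd6 zd51) (kd xd14 yd5 zd30) (kd xd25 yd42 zd15) (kd xd14 yd48 zd39) (kd xd19 yd32 zd42) (kd xd20 yd3 zd9)) (@D3.rec (fun _ => Pt) (kd xd30 yd9 zd58) (kd xd14 yd5 zd33) (kd xd26 yd55 zd1) (kd xd22 yd42 zd55) (kd xd14 yd5 zd35) (kd xd14 yd5 zd36) (kd xd23 yd23 zd26) (kd xd23 yd23 zd27) (kd xd15 yd41 zd43) (kd xd24 yd16 zd27) (kd xd17 yd10 zd16) (kd xd21 yd34 zd28) (kd xd14 yd56 zd10) (kd xd15 yd41 zd38) (kd xd14 yd29 zd14) (kd xd31 yd9 zd19)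 (kd xd24 yd20 zd12) (kd xd23 yd46 zd52) (kd xd30 yd11 zd19) (kd xd31 yd9 zd23) (kd xd30 yd26 zd61) (kd xd14 yd5 zd44) (kd xd31 yd9 zd26) (kd xd23 yd35 zd33) (kd xd23 yd35 zd37) (kd xd30 yd13 zd3) (kd xd31 yd9 zd31) (kd xd23 yd35 zd42) (kd xd14 yd39 zd41) (kd xd23 yd36 zd9) (kd xd21 yd49 zd13) (kd xd21 yd43 zd26) (kd xd21 yd21 zd51) (kd xd14 yd34 zd42) (kd xd31 yd9 zd41) (kd xd14 yd32 zd52) (kd xd31 yd9 zd46) (kd xd31 yd9 zd50) (kd xd19 yd46 zd14) (kd xd14 yd5 zd52) (kd xd14 yd53 zd16) (kd xd15 yd20 zd35) (kd xd31 yd9 zd57) (kd xd30 yd42 zd5) (kd xd30 yd42 zd4) (kd xd31 yd10 zd0) (kd xd21 yd31 zd32) (kd xd23 yd19 zd17) (kd xd27 yd18 zd20) (kd xd21 yd6 zd12) (kd xd14 yd54 zd59) (kd xd24 yd32 zd41) (kd xd14 yd32 zd32) (kd xd22 yd19 zd42) (kd xd14 yd52 zd43) (kd xd30 yd59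 zd19) (kd xd14 yd6 zd3) (kd xd14 yd36 zd50) (kd xd22 yd40 zd51) (kd xd14 yd6 zd5) (kd xd25 yd39 zd41) (kd xd22 yd38 zd13)) (@D3.rec (fun _ => Pt) (kd xd29 yd10 zd1) (kd xd14 yd6 zd7) (kd xd14 yd39 zd38) (kd xd23 yd33 zd40) (kd xd14 yd39 zd34) (kd xd14 yd39 zd35) (kd xd14 yd6 zd10) (kd xd14 yd6 zd11) (kd xd16 yd5 zd2) (kd xd14 yd6 zd14) (kd xd16 yd59 zd47) (kd xd30 yd1 zd2) (kd xd14 yd6 zd16) (kd xd22 yd38 zd8) (kd xd24 yd27 zd4) (kd xd23 yd23 zd11) (kd xd27 yd43 zd45) (kd xd24 yd33 zd27) (kd xd30 yd4 zd19) (kd xd14 yd6 zd23) (kd xd14 yd6 zd24) (kd xd16 yd59 zd14) (kd xd24 yd42 zd34) (kd xd22 yd21 zd13) (kd xd17 yd8 zd39) (kd xd18 yd1 zd0) (kd xd31 yd10 zd25) (kd xd23 yd17 zd29) (kd xd23 yd46 zd21) (kd xd23 yd46 zd20) (kd xd22 yd27 zd15) (kd xd28 yd52 zd55) (kd xd24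 yd42 zd4) (kd xd18 yd7 zd8) (kd xd24 yd41 zd1) (kd xd14 yd6 zd33) (kd xd14 yd6 zd34) (kd xd16 yd20 zd39) (kd xd31 yd0 zd49) (kd xd14 yd6 zd37) (kd xd15 yd24 zd51) (kd xd14 yd6 zd39) (kd xd31 yd10 zd30) (kd xd14 yd6 zd42) (kd xd31 yd10 zd33) (kd xd14 yd6 zd43) (kd xd31 yd10 zd34) (kd xd14 yd6 zd44) (kd xd14 yd53 zd22) (kd xd14 yd46 zd13) (kd xd21 yd48 zd39) (kd xd14 yd6 zd46) (kd xd14 yd6 zd47) (kd xd17 yd2 zd22) (kd xd14 yd6 zd51) (kd xd30 yd38 zd58) (kd xd18 yd36 zd40) (kd xd14 yd6 zd52) (kd xd16 yd10 zd31) (kd xd26 yd28 zd19) (kd xd31 yd8 zd4) (kd xd31 yd10 zd45)) (@D3.rec (fun _ => Pt) (kd xd14 yd6 zd54) (kd xd14 yd6 zd55) (kd xd31 yd10 zd47) (kd xd22 yd27 zd48) (kd xd25 yd51 zd10) (kd xd21 yd18 zd16) (kd xd14 yd6 zd58) (kd xd26 yd54 zd59) (kd xd14 yd6 zd59) (kd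 xd20 yd35 zd60) (kd xd31 yd10 zd51) (kd xd26 yd54 zd60) (kd xd20 yd2 zd15) (kd xd30 yd20 zd11) (kd xd30 yd30 zd36) (kd xd20 yd2 zd16) (kd xd14 yd7 zd1) (kd xd25 yd42 zd1) (kd xd31 yd10 zd56) (kd xd29 yd56 zd29) (kd xd14 yd7 zd2) (kd xd21 yd48 zd40) (kd xd22 yd43 zd10) (kd xd14 yd7 zd4) (kd xd23 yd37 zd40) (kd xd27 yd44 zd0) (kd xd27 yd43 zd61) (kd xd31 yd2 zd27) (kd xd27 yd40 zd51) (kd xd14 yd47 zd30) (kd xd21 yd19 zd45) (kd xd31 yd11 zd3) (kd xd14 yd7 zd10) (kd xd18 yd1 zd61) (kd xd22 yd43 zd15) (kd xd31 yd11 zd6) (kd xd14 yd9 zd18) (kd xd31 yd11 zd10) (kd xd23 yd2 zd10) (kd xd22 yd15 zd50) (kd xd15 yd43 zd57) (kd xd20 yd28 zd33) (kd xd20 yd59 zd16) (kd xd31 yd11 zd15) (kd xd19 yd45 zd52) (kd xd14 yd7 zd15) (kd xd14 yd34 zd10) (kd xd16 yd47 zd29) (kd xd31 yd11 zd18)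 (kd xd30 yd42 zd9) (kd xd30 yd42 zd7) (kd xd14 yd7 zd19) (kd xd31 yd8 zd57) (kd xd31 yd8 zd58) (kd xd24 yd33 zd39) (kd xd24 yd37 zd21) (kd xd19 yd56 zd33) (kd xd31 yd2 zd53) (kd xd29 yd10 zd29) (kd xd31 yd3 zd33) (kd xd14 yd7 zd30) (kd xd14 yd7 zd32)) (@D3.rec (fun _ => Pt) (kd xd24 yd35 zd33) (kd xd24 yd20 zd13) (kd xd20 yd48 zd39) (kd xd28 yd28 zd48) (kd xd24 yd41 zd47) (kd xd24 yd41 zd23) (kd xd16 yd7 zd2) (kd xd20 yd54 zd53) (kd xd14 yd7 zd40) (kd xd20 yd5 zd50) (kd xd19 yd47 zd43) (kd xd14 yd7 zd43) (kd xd30 yd3 zd0) (kd xd15 yd46 zd13) (kd xd20 yd15 zd16) (kd xd14 yd7 zd44) (kd xd19 yd5 zd58) (kd xd29 yd43 zd54) (kd xd29 yd50 zd21) (kd xd31 yd11 zd29) (kd xd14 yd7 zd46) (kd xd23 yd30 zd9) (kd xd14 yd7 zd49) (kd xd31 yd11 zd30) (kd xd14 yd7 zd52) (kd xd27 yd27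 zd7) (kd xd23 yd25 zd25) (kd xd29 yd2 zd60) (kd xd20 yd25 zd8) (kd xd16 yd35 zd57) (kd xd29 yd55 zd56) (kd xd18 yd25 zd55) (kd xd21 yd3 zd1) (kd xd18 yd48 zd35) (kd xd26 yd18 zd42) (kd xd14 yd8 zd9) (kd xd30 yd1 zd8) (kd xd15 yd24 zd17) (kd xd14 yd8 zd11) (kd xd14 yd8 zd12) (kd xd24 yd32 zd52) (kd xd24 yd23 zd36) (kd xd14 yd38 zd29) (kd xd14 yd50 zd39) (kd xd19 yd53 zd11) (kd xd20 yd7 zd13) (kd xd25 yd1 zd31) (kd xd22 yd44 zd48) (kd xd26 yd14 zd49) (kd xd24 yd58 zd47) (kd xd15 yd14 zd14) (kd xd15 yd53 zd30) (kd xd15 yd53 zd29) (kd xd16 yd11 zd16) (kd xd14 yd8 zd25) (kd xd14 yd8 zd26) (kd xd31 yd5 zd14) (kd xd31 yd11 zd32) (kd xd23 yd29 zd46) (kd xd23 yd29 zd47) (kd xd14 yd8 zd28) (kd xd29 yd11 zd9)) (@D3.rec (fun _ => Pt) (kd xd20 yd13 zd35) (kd xd21 yd38 zd16) (kd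 xd15 yd14 zd15) (kd xd27 yd26 zd0) (kd xd14 yd8 zd33) (kd xd20 yd4 zd28) (kd xd15 yd43 zd24) (kd xd24 yd37 zd15) (kd xd27 yd46 zd2) (kd xd14 yd8 zd38) (kd xd18 yd32 zd11) (kd xd18 yd37 zd60) (kd xd14 yd55 zd57) (kd xd30 yd2 zd50) (kd xd14 yd8 zd40) (kd xd19 yd44 zd56) (kd xd14 yd8 zd41) (kd xd31 yd11 zd41) (kd xd14 yd47 zd47) (kd xd14 yd47 zd48) (kd xd14 yd8 zd43) (kd xd29 yd6 zd19) (kd xd14 yd8 zd44) (kd xd30 yd37 zd37) (kd xd14 yd8 zd45) (kd xd31 yd11 zd47) (kd xd16 yd16 zd54) (kd xd18 yd29 zd3) (kd xd18 yd59 zd32) (kd xd30 yd4 zd21) (kd xd16 yd23 zd33) (kd xd14 yd8 zd48) (kd xd14 yd8 zd49) (kd xd31 yd11 zd48) (kd xd23 yd31 zd28) (kd xd31 yd11 zd50) (kd xd16 yd50 zd16) (kd xd14 yd8 zd52) (kd xd31 yd11 zd53) (kd xd16 yd2 zd38) (kd xd31 yd11 zd55) (kd xd31 yd10 zd36)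 (kd xd31 yd5 zd11) (kd xd31 yd11 zd34) (kd xd14 yd8 zd55) (kd xd28 yd36 zd48) (kd xd16 yd12 zd61) (kd xd16 yd50 zd17) (kd xd24 yd10 zd8) (kd xd29 yd18 zd44) (kd xd16 yd2 zd60) (kd xd14 yd24 zd41) (kd xd31 yd11 zd59) (kd xd21 yd24 zd59) (kd xd21 yd24 zd60) (kd xd22 yd11 zd50) (kd xd31 yd11 zd60) (kd xd31 yd11 zd61) (kd xd31 yd12 zd1) (kd xd14 yd8 zd61) (kd xd27 yd26 zd8) (kd xd26 yd39 zd34)) (@D3.rec (fun _ => Pt) (kd xd31 yd12 zd2) (kd xd31 yd12 zd3) (kd xd31 yd5 zd59) (kd xd27 yd35 zd25) (kd xd14 yd9 zd3) (kd xd23 yd31 zd44) (kd xd21 yd55 zd59) (kd xd24 yd36 zd7) (kd xd29 yd51 zd18) (kd xd19 yd16 zd55) (kd xd24 yd43 zd36) (kd xd24 yd9 zd49) (kd xd21 yd19 zd55) (kd xd22 yd11 zd47) (kd xd15 yd34 zd52) (kd xd27 yd1 zd39) (kd xd27 yd1 zd42) (kd xd14 yd9 zd13) (kd xd15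 yd34 zd48) (kd xd21 yd26 zd0) (kd xd21 yd25 zd61) (kd xd23 yd29 zd31) (kd xd30 yd41 zd60) (kd xd31 yd11 zd56) (kd xd31 yd8 zd2) (kd xd31 yd8 zd3) (kd xd31 yd12 zd5) (kd xd14 yd9 zd21) (kd xd14 yd9 zd22) (kd xd31 yd11 zd33) (kd xd15 yd12 zd10) (kd xd15 yd12 zd5) (kd xd27 yd45 zd38) (kd xd14 yd54 zd42) (kd xd22 yd27 zd54) (kd xd21 yd33 zd52) (kd xd16 yd16 zd50) (kd xd22 yd8 zd51) (kd xd30 yd57 zd16) (kd xd25 yd0 zd18) (kd xd24 yd45 zd6) (kd xd14 yd9 zd37) (kd xd14 yd9 zd38) (kd xd14 yd9 zd39) (kd xd23 yd33 zd7) (kd xd26 yd8 zd48) (kd xd26 yd8 zd32) (kd xd23 yd33 zd12) (kd xd22 yd30 zd42) (kd xd27 yd45 zd9) (kd xd22 yd12 zd11) (kd xd31 yd8 zd26) (kd xd27 yd48 zd44) (kd xd23 yd2 zd41) (kd xd24 yd34 zd26) (kd xd22 yd12 zd8) (kd xd23 yd36 zd16) (kd xd21 yd55 zd35) (kd xd27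 yd4 zd32) (kd xd23 yd36 zd19) (kd xd21 yd24 zd43) (kd xd30 yd4 zd12)) (@D3.rec (fun _ => Pt) (kd xd31 yd3 zd61) (kd xd31 yd4 zd25) (kd xd23 yd28 zd31) (kd xd22 yd27 zd55) (kd xd31 yd12 zd19) (kd xd14 yd9 zd57) (kd xd31 yd12 zd20) (kd xd24 yd35 zd44) (kd xd30 yd59 zd8) (kd xd15 yd10 zd7) (kd xd29 yd51 zd24) (kd xd22 yd27 zd58) (kd xd23 yd16 zd34) (kd xd23 yd27 zd35) (kd xd23 yd16 zd30) (kd xd23 yd18 zd10) (kd xd30 yd58 zd41) (kd xd30 yd1 zd27) (kd xd30 yd1 zd28) (kd xd29 yd51 zd21) (kd xd23 yd23 zd36) (kd xd29 yd3 zd35) (kd xd16 yd18 zd9) (kd xd16 yd17 zd0) (kd xd22 yd27 zd53) (kd xd17 yd44 zd5) (kd xd17 yd55 zd24) (kd xd14 yd10 zd14) (kd xd14 yd10 zd15) (kd xd26 yd57 zd18) (kd xd14 yd10 zd17) (kd xd14 yd10 zd18) (kd xd31 yd12 zd28) (kd xd14 yd10 zd20) (kd xd30 yd20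 zd45) (kd xd14 yd10 zd21) (kd xd31 yd12 zd31) (kd xd19 yd21 zd46) (kd xd30 yd20 zd46) (kd xd14 yd10 zd24) (kd xd19 yd21 zd30) (kd xd17 yd1 zd14) (kd xd30 yd33 zd59) (kd xd31 yd12 zd36) (kd xd30 yd56 zd41) (kd xd29 yd42 zd20) (kd xd31 yd12 zd38) (kd xd30 yd5 zd36) (kd xd30 yd25 zd9) (kd xd30 yd25 zd10) (kd xd14 yd10 zd28) (kd xd28 yd46 zd14) (kd xd14 yd10 zd30) (kd xd14 yd10 zd31) (kd xd22 yd32 zd28) (kd xd22 yd32 zd29) (kd xd15 yd24 zd31) (kd xd22 yd39 zd52) (kd xd30 yd36 zd60) (kd xd22 yd39 zd56) (kd xd23 yd11 zd4) (kd xd23 yd11 zd7)) (@D3.rec (fun _ => Pt) (kd xd16 yd54 zd38) (kd xd23 yd11 zd9) (kd xd29 yd29 zd50) (kd xd20 yd41 zd15) (kd xd14 yd44 zd28) (kd xd30 yd31 zd27) (kd xd14 yd48 zd31) (kd xd14 yd10 zd41) (kd xd22 yd32 zd52) (kd xd20 yd46 zd55) (kd xd22 yd25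 zd54) (kd xd31 yd12 zd52) (kd xd30 yd39 zd32) (kd xd23 yd48 zd37) (kd xd26 yd25 zd49) (kd xd20 yd6 zd28) (kd xd18 yd22 zd49) (kd xd14 yd10 zd46) (kd xd14 yd10 zd48) (kd xd31 yd12 zd55) (kd xd23 yd40 zd29) (kd xd23 yd40 zd28) (kd xd14 yd10 zd50) (kd xd15 yd53 zd11) (kd xd17 yd2 zd25) (kd xd14 yd10 zd52) (kd xd14 yd10 zd54) (kd xd14 yd10 zd55) (kd xd15 yd4 zd34) (kd xd14 yd10 zd57) (kd xd14 yd41 zd24) (kd xd27 yd8 zd58) (kd xd14 yd10 zd60) (kd xd19 yd28 zd41) (kd xd15 yd55 zd12) (kd xd24 yd16 zd41) (kd xd22 yd24 zd45) (kd xd16 yd56 zd5) (kd xd25 yd47 zd36) (kd xd25 yd47 zd12) (kd xd23 yd25 zd20) (kd xd16 yd43 zd14) (kd xd15 yd13 zd33) (kd xd31 yd7 zd15) (kd xd20 yd44 zd33) (kd xd31 yd7 zd14) (kd xd20 yd25 zd0) (kd xd23 yd5 zd25) (kd xd14 yd11 zd14) (kd xd14 yd11 zd16)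 (kd xd14 yd11 zd17) (kd xd21 yd42 zd5) (kd xd23 yd39 zd17) (kd xd21 yd45 zd58) (kd xd24 yd39 zd19) (kd xd31 yd13 zd4) (kd xd14 yd11 zd22) (kd xd27 yd56 zd58) (kd xd31 yd13 zd5) (kd xd21 yd28 zd23) (kd xd21 yd55 zd37) (kd xd20 yd21 zd12)) (@D3.rec (fun _ => Pt) (kd xd14 yd11 zd33) (kd xd20 yd12 zd61) (kd xd21 yd47 zd53) (kd xd14 yd11 zd39) (kd xd21 yd31 zd5) (kd xd14 yd11 zd40) (kd xd30 yd11 zd54) (kd xd30 yd12 zd36) (kd xd14 yd11 zd41) (kd xd17 yd23 zd7) (kd xd24 yd19 zd44) (kd xd14 yd24 zd51) (kd xd31 yd13 zd11) (kd xd22 yd7 zd18) (kd xd21 yd35 zd26) (kd xd27 yd8 zd4) (kd xd27 yd9 zd8) (kd xd20 yd46 zd32) (kd xd21 yd48 zd10) (kd xd14 yd11 zd58) (kd xd21 yd43 zd42) (kd xd14 yd12 zd1) (kd xd29 yd38 zd16) (kd xd14 yd24 zd50) (kd xd14 yd12 zd3) (kd xd21 yd43 zd41) (kd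 xd31 yd13 zd16) (kd xd14 yd12 zd5) (kd xd22 yd50 zd12) (kd xd14 yd12 zd7) (kd xd20 yd49 zd54) (kd xd14 yd12 zd8) (kd xd21 yd42 zd29) (kd xd29 yd28 zd7) (kd xd17 yd5 zd38) (kd xd14 yd35 zd20) (kd xd15 yd48 zd27) (kd xd21 yd48 zd6) (kd xd21 yd48 zd7) (kd xd14 yd12 zd23) (kd xd31 yd13 zd23) (kd xd18 yd39 zd49) (kd xd14 yd12 zd30) (kd xd28 yd24 zd59) (kd xd14 yd12 zd32) (kd xd14 yd12 zd34) (kd xd26 yd57 zd22) (kd xd14 yd12 zd35) (kd xd16 yd21 zd47) (kd xd24 yd25 zd22) (kd xd14 yd12 zd37) (kd xd26 yd59 zd7) (kd xd28 yd15 zd15) (kd xd24 yd26 zd5) (kd xd18 yd25 zd5) (kd xd18 yd24 zd40) (kd xd24 yd22 zd21) (kd xd31 yd13 zd27) (kd xd14 yd12 zd47) (kd xd22 yd19 zd48) (kd xd28 yd41 zd56) (kd xd14 yd12 zd49)) (@D3.rec (fun _ => Pt) (kd xd19 yd33 zd57) (kd xd20 yd24 zd51) (kd xd27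 yd41 zd22) (kd xd14 yd12 zd54) (kd xd18 yd23 zd14) (kd xd24 yd40 zd31) (kd xd14 yd12 zd56) (kd xd29 yd2 zd13) (kd xd28 yd37 zd48) (kd xd29 yd2 zd14) (kd xd28 yd24 zd28) (kd xd14 yd12 zd59) (kd xd28 yd52 zd46) (kd xd23 yd2 zd25) (kd xd28 yd47 zd47) (kd xd30 yd25 zd60) (kd xd29 yd15 zd38) (kd xd29 yd15 zd36) (kd xd29 yd2 zd61) (kd xd14 yd13 zd0) (kd xd29 yd28 zd4) (kd xd16 yd52 zd24) (kd xd22 yd7 zd16) (kd xd28 yd43 zd17) (kd xd22 yd1 zd19) (kd xd23 yd4 zd1) (kd xd23 yd49 zd49) (kd xd22 yd56 zd30) (kd xd30 yd12 zd6) (kd xd16 yd24 zd40) (kd xd27 yd1 zd18) (kd xd14 yd13 zd8) (kd xd30 yd42 zd50) (kd xd14 yd29 zd7) (kd xd29 yd54 zd51) (kd xd30 yd29 zd48) (kd xd30 yd29 zd55) (kd xd23 yd46 zd13) (kd xd28 yd20 zd50) (kd xd19 yd21 zd4) (kd xd28 yd14 zd58) (kd xd23 yd6 zd44) (kd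 xd30 yd50 zd14) (kd xd28 yd2 zd43) (kd xd19 yd52 zd32) (kd xd14 yd13 zd15) (kd xd14 yd13 zd16) (kd xd14 yd13 zd17) (kd xd20 yd28 zd10) (kd xd14 yd13 zd18) (kd xd28 yd35 zd44) (kd xd24 yd1 zd45) (kd xd22 yd19 zd4) (kd xd14 yd13 zd20) (kd xd27 yd8 zd54) (kd xd19 yd41 zd53) (kd xd27 yd13 zd33) (kd xd22 yd0 zd43) (kd xd31 yd13 zd57) (kd xd14 yd13 zd23) (kd xd27 yd2 zd24) (kd xd24 yd22 zd46)) (@D3.rec (fun _ => Pt) (kd xd31 yd13 zd59) (kd xd31 yd12 zd32) (kd xd26 yd57 zd23) (kd xd14 yd13 zd33) (kd xd18 yd55 zd61) (kd xd14 yd13 zd34) (kd xd28 yd24 zd9) (kd xd30 yd29 zd35) (kd xd14 yd13 zd39) (kd xd14 yd13 zd40) (kd xd17 yd51 zd32) (kd xd14 yd13 zd41) (kd xd27 yd59 zd57) (kd xd29 yd30 zd39) (kd xd14 yd13 zd43) (kd xd14 yd14 zd58) (kd xd28 yd16 zd9) (kd xd28 yd38 zd58) (kd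 xd14 yd41 zd37) (kd xd14 yd33 zd9) (kd xd14 yd13 zd48) (kd xd20 yd6 zd13) (kd xd20 yd26 zd46) (kd xd14 yd33 zd8) (kd xd17 yd9 zd49) (kd xd17 yd19 zd3) (kd xd29 yd50 zd17) (kd xd14 yd13 zd54) (kd xd21 yd35 zd6) (kd xd14 yd37 zd44) (kd xd24 yd2 zd11) (kd xd14 yd13 zd56) (kd xd14 yd37 zd36) (kd xd24 yd2 zd33) (kd xd31 yd12 zd56) (kd xd14 yd13 zd61) (kd xd30 yd12 zd0) (kd xd14 yd14 zd1) (kd xd14 yd14 zd2) (kd xd31 yd14 zd16) (kd xd31 yd14 zd17) (kd xd26 yd39 zd31) (kd xd14 yd14 zd4) (kd xd31 yd14 zd18) (kd xd14 yd14 zd5) (kd xd21 yd45 zd46) (kd xd27 yd29 zd41) (kd xd21 yd47 zd60) (kd xd27 yd20 zd54) (kd xd23 yd48 zd26) (kd xd27 yd20 zd53) (kd xd14 yd14 zd9) (kd xd17 yd30 zd29) (kd xd17 yd30 zd31) (kd xd24 yd41 zd33) (kd xd15 yd6 zd48) (kd xd19 yd40 zd57) (kd xd19 yd41 zd1)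 (kd xd14 yd14 zd11) (kd xd25 yd51 zd21) (kd xd14 yd14 zd15) (kd xd14 yd14 zd16)) (@D3.rec (fun _ => Pt) (kd xd18 yd21 zd23) (kd xd31 yd14 zd23) (kd xd20 yd19 zd11) (kd xd14 yd14 zd18) (kd xd24 yd41 zd35) (kd xd14 yd14 zd21) (kd xd25 yd0 zd9) (kd xd28 yd25 zd30) (kd xd14 yd14 zd23) (kd xd14 yd43 zd43) (kd xd14 yd49 zd51) (kd xd31 yd14 zd27) (kd xd19 yd11 zd22) (kd xd14 yd22 zd16) (kd xd24 yd7 zd2) (kd xd25 yd48 zd12) (kd xd24 yd7 zd3) (kd xd21 yd4 zd42) (kd xd23 yd56 zd29) (kd xd24 yd7 zd18) (kd xd14 yd14 zd30) (kd xd26 yd13 zd12) (kd xd14 yd14 zd31) (kd xd14 yd35 zd9) (kd xd14 yd35 zd11) (kd xd14 yd14 zd33) (kd xd27 yd32 zd33) (kd xd27 yd32 zd58) (kd xd24 yd8 zd38) (kd xd26 yd32 zd13) (kd xd31 yd14 zd39) (kd xd21 yd9 zd17) (kd xd27 yd35 zd9) (kd xd31 yd14 zd43) (kd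 xd14 yd14 zd39) (kd xd31 yd7 zd38) (kd xd28 yd35 zd55) (kd xd30 yd56 zd12) (kd xd20 yd37 zd4) (kd xd14 yd14 zd41) (kd xd23 yd8 zd37) (kd xd14 yd14 zd42) (kd xd30 yd23 zd30) (kd xd15 yd9 zd45) (kd xd23 yd51 zd45) (kd xd29 yd51 zd30) (kd xd21 yd28 zd21) (kd xd14 yd16 zd37) (kd xd17 yd35 zd15) (kd xd14 yd14 zd45) (kd xd14 yd14 zd46) (kd xd20 yd11 zd2) (kd xd18 yd31 zd37) (kd xd30 yd25 zd61) (kd xd31 yd14 zd53) (kd xd14 yd14 zd51) (kd xd31 yd14 zd58) (kd xd22 yd25 zd41) (kd xd29 yd26 zd20) (kd xd30 yd30 zd60) (kd xd14 yd14 zd54) (kd xd30 yd35 zd31)) (@D3.rec (fun _ => Pt) (kd xd30 yd35 zd32) (kd xd23 yd51 zd23) (kd xd26 yd29 zd49) (kd xd22 yd35 zd12) (kd xd16 yd18 zd16) (kd xd14 yd14 zd56) (kd xd31 yd14 zd19) (kd xd14 yd14 zd57) (kd xd23 yd51 zd33) (kd xd24 yd21 zd48) (kd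 xd18 yd49 zd1) (kd xd24 yd46 zd15) (kd xd31 yd15 zd2) (kd xd14 yd14 zd60) (kd xd27 yd39 zd53) (kd xd31 yd15 zd4) (kd xd27 yd39 zd59) (kd xd27 yd39 zd60) (kd xd31 yd15 zd11) (kd xd14 yd15 zd3) (kd xd31 yd15 zd14) (kd xd23 yd51 zd44) (kd xd18 yd3 zd53) (kd xd23 yd51 zd1) (kd xd16 yd33 zd0) (kd xd24 yd46 zd40) (kd xd18 yd28 zd2) (kd xd14 yd15 zd5) (kd xd23 yd34 zd15) (kd xd30 yd38 zd26) (kd xd27 yd47 zd37) (kd xd14 yd15 zd6) (kd xd14 yd15 zd7) (kd xd23 yd51 zd8) (kd xd22 yd19 zd40) (kd xd14 yd15 zd9) (kd xd27 yd52 zd41) (kd xd26 yd18 zd33) (kd xd28 yd25 zd50) (kd xd14 yd15 zd10) (kd xd31 yd15 zd26) (kd xd31 yd15 zd28) (kd xd14 yd15 zd11) (kd xd29 yd1 zd6) (kd xd23 yd51 zd21) (kd xd23 yd50 zd44) (kd xd26 yd12 zd27) (kd xd26 yd10 zd47) (kd xd17 yd43 zd41) (kd xd14 yd15 zd13)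 (kd xd25 yd44 zd57) (kd xd14 yd15 zd14) (kd xd26 yd11 zd7) (kd xd23 yd51 zd55) (kd xd23 yd34 zd12) (kd xd23 yd51 zd53) (kd xd19 yd22 zd54) (kd xd14 yd15 zd22) (kd xd23 yd36 zd38) (kd xd19 yd10 zd2) (kd xd14 yd44 zd59) (kd xd19 yd10 zd3)) (@D3.rec (fun _ => Pt) (kd xd29 yd29 zd11) (kd xd28 yd35 zd56) (kd xd14 yd15 zd27) (kd xd31 yd15 zd38) (kd xd23 yd53 zd38) (kd xd30 yd26 zd16) (kd xd19 yd9 zd54) (kd xd23 yd33 zd57) (kd xd23 yd33 zd58) (kd xd25 yd50 zd22) (kd xd17 yd35 zd18) (kd xd14 yd15 zd33) (kd xd14 yd48 zd47) (kd xd23 yd11 zd41) (kd xd17 yd35 zd20) (kd xd30 yd11 zd0) (kd xd19 yd7 zd17) (kd xd30 yd27 zd38) (kd xd30 yd45 zd4) (kd xd30 yd37 zd55) (kd xd30 yd45 zd5) (kd xd14 yd15 zd39) (kd xd14 yd15 zd40) (kd xd28 yd27 zd2) (kd xd29 yd24 zd4) (kd xd14 yd15 zd43) (kd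 xd19 yd4 zd44) (kd xd24 yd28 zd18) (kd xd25 yd16 zd53) (kd xd30 yd55 zd27) (kd xd31 yd15 zd42) (kd xd14 yd15 zd48) (kd xd18 yd56 zd35) (kd xd28 yd4 zd11) (kd xd14 yd15 zd50) (kd xd21 yd31 zd18) (kd xd21 yd31 zd19) (kd xd21 yd55 zd34) (kd xd27 yd23 zd1) (kd xd14 yd15 zd58) (kd xd14 yd15 zd59) (kd xd14 yd15 zd60) (kd xd22 yd26 zd49) (kd xd22 yd26 zd48) (kd xd23 yd58 zd45) (kd xd14 yd16 zd0) (kd xd14 yd16 zd1) (kd xd19 yd41 zd51) (kd xd30 yd39 zd14) (kd xd29 yd54 zd52) (kd xd14 yd26 zd35) (kd xd29 yd55 zd5) (kd xd29 yd54 zd61) (kd xd28 yd26 zd41) (kd xd14 yd16 zd5) (kd xd29 yd54 zd46) (kd xd21 yd31 zd57) (kd xd27 yd48 zd3) (kd xd14 yd16 zd7) (kd xd29 yd0 zd58) (kd xd29 yd0 zd59) (kd xd20 yd29 zd6)) (@D3.rec (fun _ => Pt) (kd xd26 yd44 zd11) (kd xd14 yd16 zd11) (kd xd26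 yd43 zd35) (kd xd14 yd16 zd12) (kd xd14 yd26 zd17) (kd xd14 yd16 zd14) (kd xd22 yd10 zd42) (kd xd14 yd16 zd15) (kd xd14 yd16 zd16) (kd xd23 yd57 zd36) (kd xd31 yd15 zd51) (kd xd14 yd16 zd18) (kd xd30 yd20 zd48) (kd xd18 yd42 zd1) (kd xd31 yd15 zd55) (kd xd14 yd16 zd20) (kd xd20 yd31 zd11) (kd xd28 yd13 zd38) (kd xd30 yd15 zd33) (kd xd17 yd22 zd26) (kd xd16 yd46 zd36) (kd xd14 yd25 zd60) (kd xd29 yd27 zd58) (kd xd22 yd21 zd56) (kd xd31 yd16 zd0) (kd xd30 yd36 zd31) (kd xd28 yd46 zd30) (kd xd14 yd16 zd27) (kd xd26 yd53 zd8) (kd xd21 yd36 zd39) (kd xd19 yd24 zd0) (kd xd28 yd17 zd14) (kd xd14 yd16 zd29) (kd xd31 yd16 zd6) (kd xd24 yd28 zd46) (kd xd26 yd43 zd60) (kd xd28 yd17 zd5) (kd xd28 yd19 zd3) (kd xd23 yd52 zd4) (kd xd14 yd16 zd32) (kd xd26 yd43 zd33) (kd xd18 yd48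 zd55) (kd xd19 yd33 zd41) (kd xd31 yd16 zd9) (kd xd14 yd16 zd34) (kd xd30 yd46 zd32) (kd xd22 yd30 zd19) (kd xd14 yd16 zd36) (kd xd18 yd55 zd43) (kd xd22 yd58 zd1) (kd xd29 yd30 zd14) (kd xd14 yd26 zd16) (kd xd14 yd16 zd39) (kd xd14 yd16 zd40) (kd xd20 yd25 zd59) (kd xd18 yd15 zd6) (kd xd28 yd1 zd7) (kd xd27 yd47 zd0) (kd xd23 yd55 zd12) (kd xd23 yd55 zd11) (kd xd14 yd16 zd45) (kd xd14 yd16 zd48)) (@D3.rec (fun _ => Pt) (kd xd31 yd16 zd12) (kd xd18 yd55 zd19) (kd xd24 yd1 zd60) (kd xd14 yd16 zd52) (kd xd14 yd16 zd53) (kd xd29 yd32 zd50) (kd xd27 yd45 zd27) (kd xd31 yd16 zd17) (kd xd14 yd16 zd55) (kd xd27 yd34 zd33) (kd xd24 yd54 zd38) (kd xd14 yd16 zd59) (kd xd20 yd33 zd53) (kd xd18 yd12 zd37) (kd xd14 yd16 zd60) (kd xd22 yd27 zd30) (kd xd30 yd53 zd7) (kd xd30 yd53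 zd8) (kd xd14 yd44 zd18) (kd xd28 yd23 zd27) (kd xd24 yd2 zd25) (kd xd23 yd55 zd54) (kd xd15 yd55 zd6) (kd xd24 yd2 zd39) (kd xd31 yd16 zd30) (kd xd24 yd4 zd30) (kd xd22 yd26 zd59) (kd xd31 yd16 zd36) (kd xd31 yd13 zd28) (kd xd31 yd16 zd39) (kd xd31 yd16 zd41) (kd xd14 yd17 zd6) (kd xd18 yd8 zd57) (kd xd29 yd13 zd34) (kd xd29 yd13 zd33) (kd xd24 yd4 zd37) (kd xd30 yd26 zd14) (kd xd14 yd17 zd8) (kd xd14 yd17 zd10) (kd xd14 yd17 zd12) (kd xd31 yd16 zd47) (kd xd27 yd33 zd52) (kd xd30 yd33 zd36) (kd xd24 yd26 zd58) (kd xd31 yd16 zd49) (kd xd30 yd34 zd25) (kd xd31 yd16 zd50) (kd xd24 yd1 zd0) (kd xd31 yd16 zd51) (kd xd14 yd17 zd18) (kd xd29 yd15 zd57) (kd xd29 yd16 zd0) (kd xd29 yd15 zd59) (kd xd24 yd27 zd2) (kd xd26 yd55 zd47) (kd xd26 yd49 zd53) (kd xd31 yd16 zd57) (kd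 xd31 yd16 zd42) (kd xd31 yd16 zd43) (kd xd14 yd17 zd24) (kd xd15 yd55 zd7) (kd xd30 yd56 zd61)) (@D3.rec (fun _ => Pt) (kd xd27 yd23 zd40) (kd xd29 yd31 zd5) (kd xd31 yd16 zd52) (kd xd14 yd17 zd29) (kd xd21 yd17 zd60) (kd xd28 yd35 zd26) (kd xd29 yd31 zd61) (kd xd29 yd31 zd6) (kd xd14 yd17 zd31) (kd xd24 yd0 zd0) (kd xd14 yd17 zd32) (kd xd23 yd53 zd59) (kd xd23 yd53 zd58) (kd xd21 yd39 zd43) (kd xd14 yd17 zd34) (kd xd14 yd17 zd36) (kd xd14 yd20 zd37) (kd xd17 yd1 zd37) (kd xd14 yd20 zd40) (kd xd17 yd1 zd36) (kd xd20 yd55 zd12) (kd xd31 yd17 zd4) (kd xd27 yd19 zd12) (kd xd28 yd42 zd33) (kd xd14 yd17 zd44) (kd xd22 yd0 zd33) (kd xd19 yd4 zd25) (kd xd22 yd0 zd55) (kd xd14 yd17 zd49) (kd xd22 yd33 zd41) (kd xd17 yd21 zd21) (kd xd24 yd11 zd25) (kd xd22 yd33 zd42) (kd xd29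 yd47 zd9) (kd xd31 yd17 zd8) (kd xd21 yd46 zd32) (kd xd14 yd17 zd52) (kd xd31 yd17 zd9) (kd xd24 yd11 zd26) (kd xd30 yd50 zd17) (kd xd14 yd17 zd54) (kd xd21 yd52 zd51) (kd xd27 yd10 zd24) (kd xd14 yd17 zd56) (kd xd31 yd17 zd12) (kd xd23 yd8 zd19) (kd xd31 yd17 zd13) (kd xd14 yd42 zd12) (kd xd29 yd1 zd17) (kd xd24 yd26 zd16) (kd xd14 yd42 zd17) (kd xd14 yd25 zd48) (kd xd31 yd17 zd18) (kd xd22 yd31 zd4) (kd xd23 yd54 zd21) (kd xd22 yd31 zd6) (kd xd30 yd28 zd39) (kd xd30 yd37 zd61) (kd xd24 yd34 zd61) (kd xd17 yd22 zd13) (kd xd31 yd15 zd43) (kd xd22 yd37 zd34)) (@D3.rec (fun _ => Pt) (kd xd30 yd38 zd1) (kd xd15 yd32 zd32) (kd xd23 yd11 zd30) (kd xd14 yd18 zd7) (kd xd15 yd32 zd33) (kd xd24 yd28 zd8) (kd xd15 yd31 zd37) (kd xd27 yd16 zd40) (kd xd31 yd17 zd25) (kd xd14 yd18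 zd10) (kd xd22 yd34 zd35) (kd xd17 yd26 zd42) (kd xd15 yd31 zd41) (kd xd22 yd34 zd36) (kd xd15 yd31 zd45) (kd xd14 yd18 zd14) (kd xd22 yd41 zd54) (kd xd24 yd16 zd58) (kd xd29 yd47 zd41) (kd xd19 yd25 zd58) (kd xd14 yd18 zd18) (kd xd14 yd18 zd19) (kd xd25 yd48 zd39) (kd xd29 yd42 zd34) (kd xd21 yd15 zd57) (kd xd24 yd28 zd6) (kd xd29 yd53 zd35) (kd xd31 yd17 zd32) (kd xd22 yd34 zd40) (kd xd23 yd50 zd18) (kd xd22 yd34 zd45) (kd xd14 yd18 zd31) (kd xd23 yd1 zd29) (kd xd31 yd17 zd33) (kd xd30 yd38 zd4) (kd xd31 yd17 zd34) (kd xd31 yd17 zd36) (kd xd30 yd43 zd55) (kd xd22 yd20 zd60) (kd xd14 yd18 zd43) (kd xd28 yd57 zd18) (kd xd22 yd36 zd3) (kd xd14 yd18 zd46) (kd xd28 yd57 zd17) (kd xd22 yd26 zd34) (kd xd17 yd23 zd17) (kd xd14 yd35 zd6) (kd xd14 yd35 zd10) (kd xd30 yd7 zd48)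 (kd xd14 yd18 zd51) (kd xd30 yd9 zd23) (kd xd16 yd26 zd30) (kd xd14 yd18 zd57) (kd xd14 yd18 zd58) (kd xd28 yd50 zd41) (kd xd31 yd14 zd8) (kd xd14 yd19 zd1) (kd xd14 yd19 zd2) (kd xd31 yd12 zd47) (kd xd23 yd11 zd42) (kd xd20 yd19 zd0) (kd xd14 yd19 zd5)) (@D3.rec (fun _ => Pt) (kd xd30 yd40 zd12) (kd xd31 yd12 zd46) (kd xd20 yd20 zd5) (kd xd30 yd31 zd23) (kd xd24 yd30 zd25) (kd xd30 yd30 zd9) (kd xd30 yd56 zd14) (kd xd14 yd19 zd10) (kd xd20 yd27 zd61) (kd xd14 yd19 zd11) (kd xd22 yd36 zd20) (kd xd15 yd17 zd11) (kd xd21 yd4 zd36) (kd xd14 yd35 zd8) (kd xd15 yd17 zd16) (kd xd17 yd24 zd0) (kd xd22 yd39 zd42) (kd xd24 yd24 zd28) (kd xd30 yd11 zd47) (kd xd14 yd19 zd20) (kd xd14 yd19 zd22) (kd xd30 yd38 zd40) (kd xd29 yd15 zd20) (kd xd28 yd44 zd17) (kd xd31 yd17 zd54) (kd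 xd14 yd19 zd29) (kd xd29 yd28 zd2) (kd xd14 yd19 zd31) (kd xd31 yd17 zd56) (kd xd29 yd7 zd43) (kd xd31 yd17 zd57) (kd xd31 yd17 zd58) (kd xd14 yd19 zd33) (kd xd31 yd18 zd0) (kd xd14 yd19 zd35) (kd xd14 yd19 zd36) (kd xd23 yd53 zd9) (kd xd14 yd19 zd37) (kd xd14 yd19 zd38) (kd xd27 yd0 zd51) (kd xd30 yd52 zd55) (kd xd22 yd36 zd11) (kd xd14 yd19 zd40) (kd xd14 yd19 zd41) (kd xd28 yd53 zd47) (kd xd26 yd56 zd51) (kd xd14 yd19 zd43) (kd xd14 yd19 zd46) (kd xd31 yd18 zd2) (kd xd30 yd30 zd20) (kd xd31 yd18 zd4) (kd xd29 yd53 zd36) (kd xd29 yd53 zd41) (kd xd19 yd12 zd13) (kd xd28 yd43 zd8) (kd xd15 yd26 zd50) (kd xd22 yd32 zd8) (kd xd20 yd50 zd44) (kd xd20 yd30 zd39) (kd xd30 yd39 zd9) (kd xd30 yd12 zd53) (kd xd30 yd32 zd14)) (@D3.rec (fun _ => Pt) (kd xd20 yd0 zd2) (kd xd14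 yd20 zd2) (kd xd25 yd23 zd61) (kd xd14 yd20 zd5) (kd xd14 yd20 zd7) (kd xd14 yd20 zd8) (kd xd20 yd32 zd26) (kd xd28 yd43 zd7) (kd xd27 yd8 zd1) (kd xd14 yd20 zd17) (kd xd14 yd20 zd20) (kd xd20 yd37 zd48) (kd xd29 yd30 zd16) (kd xd22 yd17 zd57) (kd xd14 yd20 zd25) (kd xd14 yd20 zd26) (kd xd20 yd51 zd1) (kd xd21 yd55 zd28) (kd xd28 yd53 zd54) (kd xd31 yd18 zd12) (kd xd16 yd56 zd6) (kd xd14 yd20 zd28) (kd xd21 yd9 zd9) (kd xd14 yd20 zd33) (kd xd30 yd23 zd20) (kd xd30 yd12 zd52) (kd xd29 yd13 zd37) (kd xd28 yd13 zd9) (kd xd14 yd20 zd39) (kd xd23 yd14 zd41) (kd xd29 yd30 zd33) (kd xd29 yd8 zd33) (kd xd20 yd52 zd5) (kd xd29 yd8 zd49) (kd xd29 yd8 zd48) (kd xd14 yd20 zd42) (kd xd31 yd18 zd15) (kd xd21 yd50 zd44) (kd xd21 yd51 zd58) (kd xd26 yd53 zd58) (kd xd17 yd52 zd61) (kd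 xd24 yd20 zd51) (kd xd14 yd20 zd49) (kd xd22 yd39 zd33) (kd xd22 yd39 zd32) (kd xd23 yd52 zd44) (kd xd14 yd20 zd51) (kd xd21 yd42 zd8) (kd xd14 yd20 zd56) (kd xd24 yd10 zd52) (kd xd14 yd47 zd52) (kd xd14 yd20 zd58) (kd xd24 yd37 zd53) (kd xd14 yd20 zd59) (kd xd30 yd8 zd61) (kd xd14 yd30 zd24) (kd xd14 yd20 zd60) (kd xd24 yd5 zd17) (kd xd15 yd18 zd53) (kd xd24 yd10 zd24) (kd xd14 yd21 zd2) (kd xd23 yd0 zd29)) (@D3.rec (fun _ => Pt) (kd xd21 yd23 zd49) (kd xd17 yd23 zd1) (kd xd31 yd18 zd23) (kd xd14 yd21 zd6) (kd xd14 yd38 zd53) (kd xd22 yd37 zd9) (kd xd28 yd43 zd60) (kd xd14 yd21 zd8) (kd xd31 yd18 zd26) (kd xd26 yd41 zd18) (kd xd14 yd21 zd9) (kd xd26 yd10 zd14) (kd xd26 yd10 zd13) (kd xd25 yd37 zd44) (kd xd14 yd21 zd10) (kd xd25 yd37 zd45) (kd xd27 yd19 zd9) (kd xd14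 yd36 zd19) (kd xd14 yd21 zd12) (kd xd15 yd39 zd26) (kd xd20 yd40 zd38) (kd xd22 yd38 zd41) (kd xd27 yd12 zd57) (kd xd30 yd38 zd35) (kd xd30 yd37 zd60) (kd xd23 yd27 zd5) (kd xd30 yd41 zd13) (kd xd30 yd41 zd12) (kd xd14 yd21 zd33) (kd xd29 yd58 zd26) (kd xd23 yd28 zd26) (kd xd14 yd21 zd34) (kd xd30 yd38 zd15) (kd xd30 yd41 zd10) (kd xd30 yd34 zd15) (kd xd31 yd18 zd32) (kd xd14 yd21 zd38) (kd xd26 yd9 zd33) (kd xd29 yd25 zd51) (kd xd30 yd41 zd34) (kd xd14 yd21 zd40) (kd xd29 yd58 zd7) (kd xd14 yd21 zd44) (kd xd14 yd21 zd45) (kd xd14 yd21 zd48) (kd xd24 yd27 zd20) (kd xd29 yd18 zd2) (kd xd22 yd27 zd16) (kd xd31 yd18 zd38) (kd xd31 yd18 zd39) (kd xd28 yd20 zd22) (kd xd29 yd30 zd34) (kd xd22 yd57 zd40) (kd xd24 yd18 zd58) (kd xd25 yd18 zd44) (kd xd31 yd15 zd60) (kd xd14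 yd21 zd56) (kd xd16 yd56 zd31) (kd xd16 yd56 zd32) (kd xd29 yd13 zd36) (kd xd22 yd33 zd45) (kd xd30 yd56 zd9))
def f_d_24 : D2 → D3 → Pt := @D2.rec (fun _ => D3 → Pt) (@D3.rec (fun _ => Pt) (kd xd23 yd55 zd9) (kd xd22 yd33 zd49) (kd xd22 yd41 zd0) (kd xd31 yd18 zd55) (kd xd14 yd24 zd58) (kd xd19 yd28 zd22) (kd xd14 yd25 zd1) (kd xd22 yd40 zd40) (kd xd14 yd40 zd14) (kd xd15 yd45 zd27) (kd xd16 yd54 zd51) (kd xd22 yd41 zd41) (kd xd25 yd42 zd31) (kd xd30 yd39 zd3) (kd xd31 yd18 zd60) (kd xd30 yd30 zd17) (kd xd31 yd18 zd61) (kd xd22 yd6 zd61) (kd xd31 yd19 zd2) (kd xd31 yd19 zd3) (kd xd29 yd25 zd55) (kd xd14 yd22 zd12) (kd xd20 yd24 zd9) (kd xd20 yd24 zd8) (kd xd31 yd7 zd53) (kd xd14 yd22 zd15) (kd xd22 yd57 zd1) (kd xd28 yd29 zd36) (kd xd27 yd37 zd15) (kd xd24 yd38 zd45)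 (kd xd31 yd19 zd6) (kd xd14 yd22 zd21) (kd xd29 yd33 zd22) (kd xd14 yd22 zd23) (kd xd25 yd43 zd20) (kd xd22 yd1 zd46) (kd xd16 yd0 zd41) (kd xd29 yd34 zd39) (kd xd23 yd10 zd24) (kd xd19 yd40 zd2) (kd xd14 yd22 zd32) (kd xd25 yd55 zd57) (kd xd22 yd26 zd2) (kd xd20 yd48 zd35) (kd xd14 yd51 zd21) (kd xd22 yd10 zd48) (kd xd15 yd36 zd12) (kd xd24 yd44 zd19) (kd xd18 yd53 zd36) (kd xd14 yd22 zd38) (kd xd30 yd21 zd12) (kd xd14 yd22 zd40) (kd xd31 yd19 zd18) (kd xd14 yd22 zd42) (kd xd14 yd22 zd43) (kd xd24 yd5 zd45) (kd xd14 yd22 zd45) (kd xd16 yd35 zd48) (kd xd22 yd34 zd48) (kd xd19 yd54 zd57) (kd xd31 yd19 zd27) (kd xd14 yd22 zd48)) (@D3.rec (fun _ => Pt) (kd xd23 yd54 zd47) (kd xd30 yd25 zd13) (kd xd25 yd10 zd20) (kd xd30 yd48 zd39) (kd xd20 yd57 zd16) (kd xd25 yd20 zd16)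 (kd xd14 yd41 zd34) (kd xd29 yd30 zd31) (kd xd20 yd53 zd2) (kd xd19 yd28 zd29) (kd xd23 yd10 zd54) (kd xd26 yd51 zd36) (kd xd25 yd53 zd6) (kd xd17 yd24 zd45) (kd xd16 yd52 zd14) (kd xd22 yd58 zd38) (kd xd31 yd17 zd43) (kd xd31 yd17 zd44) (kd xd29 yd18 zd1) (kd xd31 yd19 zd40) (kd xd16 yd53 zd56) (kd xd31 yd19 zd41) (kd xd24 yd38 zd39) (kd xd25 yd22 zd3) (kd xd19 yd58 zd24) (kd xd25 yd20 zd21) (kd xd21 yd36 zd55) (kd xd14 yd23 zd3) (kd xd30 yd4 zd10) (kd xd20 yd24 zd12) (kd xd22 yd21 zd11) (kd xd31 yd19 zd45) (kd xd27 yd6 zd43) (kd xd31 yd19 zd48) (kd xd14 yd23 zd8) (kd xd14 yd23 zd12) (kd xd15 yd49 zd27) (kd xd14 yd48 zd18) (kd xd14 yd46 zd3) (kd xd25 yd9 zd3) (kd xd22 yd41 zd1) (kd xd14 yd23 zd20) (kd xd30 yd24 zd36) (kd xd22 yd32 zd18) (kd xd31 yd19 zd52) (kd xd23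 yd48 zd51) (kd xd14 yd23 zd22) (kd xd27 yd6 zd59) (kd xd18 yd48 zd12) (kd xd18 yd46 zd5) (kd xd14 yd23 zd25) (kd xd30 yd5 zd4) (kd xd31 yd16 zd15) (kd xd14 yd23 zd28) (kd xd31 yd19 zd57) (kd xd14 yd23 zd30) (kd xd30 yd14 zd47) (kd xd14 yd23 zd31) (kd xd29 yd38 zd28) (kd xd17 yd35 zd9) (kd xd23 yd54 zd2) (kd xd26 yd6 zd13)) (@D3.rec (fun _ => Pt) (kd xd14 yd23 zd33) (kd xd14 yd23 zd34) (kd xd22 yd25 zd48) (kd xd26 yd23 zd42) (kd xd22 yd25 zd45) (kd xd22 yd46 zd23) (kd xd27 yd11 zd19) (kd xd20 yd46 zd6) (kd xd24 yd46 zd58) (kd xd14 yd24 zd52) (kd xd22 yd37 zd42) (kd xd23 yd49 zd30) (kd xd26 yd6 zd6) (kd xd14 yd23 zd41) (kd xd30 yd40 zd2) (kd xd22 yd40 zd26) (kd xd27 yd22 zd40) (kd xd17 yd19 zd10) (kd xd21 yd52 zd53) (kd xd14 yd23 zd49) (kd xd21 yd46 zd31) (kd xd14 yd23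 zd50) (kd xd17 yd21 zd8) (kd xd21 yd43 zd53) (kd xd31 yd20 zd19) (kd xd23 yd54 zd20) (kd xd20 yd51 zd43) (kd xd14 yd23 zd53) (kd xd14 yd37 zd5) (kd xd30 yd11 zd15) (kd xd16 yd13 zd57) (kd xd17 yd21 zd25) (kd xd20 yd4 zd55) (kd xd23 yd49 zd33) (kd xd25 yd9 zd44) (kd xd20 yd3 zd34) (kd xd31 yd20 zd27) (kd xd14 yd23 zd58) (kd xd31 yd20 zd30) (kd xd23 yd54 zd23) (kd xd14 yd24 zd0) (kd xd26 yd44 zd45) (kd xd14 yd24 zd1) (kd xd31 yd20 zd33) (kd xd29 yd43 zd47) (kd xd17 yd31 zd22) (kd xd20 yd46 zd16) (kd xd31 yd20 zd37) (kd xd31 yd20 zd40) (kd xd29 yd26 zd17) (kd xd29 yd25 zd54) (kd xd14 yd24 zd4) (kd xd30 yd31 zd10) (kd xd30 yd11 zd16) (kd xd27 yd3 zd26) (kd xd21 yd41 zd50) (kd xd14 yd24 zd7) (kd xd24 yd54 zd25) (kd xd31 yd20 zd45) (kd xd14 yd24 zd8) (kd xd22 yd1 zd50) (kd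 xd14 yd24 zd9)) (@D3.rec (fun _ => Pt) (kd xd24 yd30 zd26) (kd xd28 yd15 zd28) (kd xd14 yd24 zd12) (kd xd29 yd16 zd50) (kd xd29 yd28 zd28) (kd xd22 yd18 zd3) (kd xd31 yd20 zd48) (kd xd30 yd35 zd15) (kd xd29 yd16 zd25) (kd xd15 yd9 zd32) (kd xd28 yd1 zd45) (kd xd14 yd51 zd15) (kd xd14 yd24 zd19) (kd xd25 yd13 zd50) (kd xd14 yd24 zd20) (kd xd25 yd46 zd10) (kd xd14 yd30 zd3) (kd xd14 yd30 zd7) (kd xd30 yd8 zd5) (kd xd14 yd24 zd22) (kd xd28 yd54 zd52) (kd xd30 yd48 zd60) (kd xd30 yd35 zd48) (kd xd31 yd21 zd1) (kd xd22 yd16 zd61) (kd xd31 yd21 zd3) (kd xd31 yd19 zd21) (kd xd31 yd21 zd5) (kd xd14 yd24 zd27) (kd xd25 yd8 zd53) (kd xd19 yd50 zd61) (kd xd31 yd21 zd8) (kd xd26 yd16 zd1) (kd xd19 yd38 zd53) (kd xd31 yd21 zd9) (kd xd15 yd53 zd56) (kd xd24 yd58 zd36) (kd xd14 yd24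 zd34) (kd xd26 yd11 zd4) (kd xd21 yd48 zd34) (kd xd14 yd24 zd37) (kd xd29 yd27 zd24) (kd xd14 yd24 zd39) (kd xd31 yd21 zd10) (kd xd30 yd31 zd31) (kd xd19 yd56 zd37) (kd xd31 yd21 zd14) (kd xd30 yd40 zd35) (kd xd31 yd21 zd16) (kd xd22 yd23 zd46) (kd xd31 yd21 zd19) (kd xd29 yd20 zd13) (kd xd29 yd27 zd30) (kd xd31 yd21 zd21) (kd xd31 yd21 zd25) (kd xd14 yd24 zd46) (kd xd25 yd20 zd25) (kd xd31 yd21 zd32) (kd xd31 yd13 zd35) (kd xd14 yd24 zd47) (kd xd31 yd21 zd37) (kd xd29 yd48 zd30)) (@D3.rec (fun _ => Pt) (kd xd24 yd5 zd41) (kd xd25 yd55 zd30) (kd xd25 yd55 zd27) (kd xd29 yd36 zd21) (kd xd29 yd12 zd50) (kd xd22 yd8 zd15) (kd xd31 yd20 zd8) (kd xd15 yd56 zd14) (kd xd28 yd50 zd50) (kd xd14 yd24 zd54) (kd xd22 yd50 zd11) (kd xd31 yd21 zd42) (kd xd31 yd18 zd54) (kd xd28 yd54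 zd41) (kd xd31 yd21 zd48) (kd xd14 yd24 zd57) (kd xd31 yd21 zd51) (kd xd31 yd21 zd52) (kd xd24 yd19 zd27) (kd xd31 yd18 zd58) (kd xd25 yd55 zd33) (kd xd26 yd42 zd14) (kd xd19 yd31 zd7) (kd xd25 yd24 zd54) (kd xd25 yd24 zd55) (kd xd14 yd24 zd60) (kd xd31 yd21 zd58) (kd xd14 yd24 zd61) (kd xd14 yd25 zd0) (kd xd31 yd21 zd59) (kd xd23 yd54 zd25) (kd xd20 yd1 zd53) (kd xd31 yd22 zd0) (kd xd14 yd25 zd3) (kd xd25 yd21 zd20) (kd xd31 yd22 zd4) (kd xd28 yd7 zd24) (kd xd23 yd54 zd35) (kd xd30 yd55 zd33) (kd xd30 yd55 zd28) (kd xd31 yd9 zd43) (kd xd31 yd22 zd6) (kd xd31 yd22 zd7) (kd xd14 yd25 zd6) (kd xd31 yd9 zd49) (kd xd14 yd25 zd7) (kd xd28 yd39 zd35) (kd xd20 yd31 zd46) (kd xd22 yd19 zd14) (kd xd31 yd19 zd38) (kd xd30 yd16 zd22) (kd xd29 yd40 zd35) (kd xd14 yd25 zd12) (kd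 xd19 yd50 zd45) (kd xd14 yd40 zd52) (kd xd23 yd5 zd6) (kd xd23 yd24 zd21) (kd xd20 yd48 zd27) (kd xd14 yd40 zd51) (kd xd23 yd9 zd38) (kd xd16 yd26 zd35) (kd xd30 yd54 zd43)) (@D3.rec (fun _ => Pt) (kd xd22 yd6 zd23) (kd xd14 yd25 zd18) (kd xd26 yd11 zd8) (kd xd19 yd44 zd12) (kd xd25 yd13 zd1) (kd xd14 yd25 zd19) (kd xd15 yd19 zd41) (kd xd21 yd14 zd41) (kd xd23 yd4 zd49) (kd xd26 yd24 zd35) (kd xd23 yd5 zd17) (kd xd23 yd5 zd18) (kd xd14 yd25 zd25) (kd xd17 yd22 zd14) (kd xd31 yd22 zd15) (kd xd27 yd23 zd12) (kd xd14 yd25 zd26) (kd xd23 yd58 zd57) (kd xd30 yd19 zd26) (kd xd30 yd8 zd41) (kd xd14 yd25 zd27) (kd xd30 yd56 zd0) (kd xd30 yd53 zd48) (kd xd14 yd25 zd29) (kd xd22 yd50 zd21) (kd xd31 yd22 zd22) (kd xd14 yd25 zd34) (kd xd30 yd50 zd42) (kd xd29 yd30 zd15) (kd xd30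 yd22 zd5) (kd xd26 yd53 zd11) (kd xd30 yd43 zd7) (kd xd29 yd19 zd33) (kd xd31 yd22 zd23) (kd xd20 yd31 zd6) (kd xd31 yd22 zd24) (kd xd14 yd25 zd41) (kd xd26 yd42 zd13) (kd xd14 yd25 zd42) (kd xd28 yd0 zd12) (kd xd28 yd0 zd0) (kd xd24 yd4 zd0) (kd xd15 yd32 zd50) (kd xd24 yd11 zd41) (kd xd22 yd53 zd53) (kd xd24 yd0 zd55) (kd xd31 yd22 zd27) (kd xd28 yd22 zd60) (kd xd31 yd22 zd28) (kd xd31 yd22 zd29) (kd xd14 yd25 zd53) (kd xd27 yd21 zd7) (kd xd23 yd4 zd26) (kd xd31 yd22 zd32) (kd xd20 yd44 zd53) (kd xd20 yd44 zd44) (kd xd14 yd43 zd14) (kd xd22 yd0 zd32) (kd xd24 yd18 zd41) (kd xd18 yd55 zd3) (kd xd18 yd57 zd18) (kd xd14 yd26 zd1)) (@D3.rec (fun _ => Pt) (kd xd30 yd46 zd44) (kd xd24 yd29 zd36) (kd xd22 yd26 zd39) (kd xd31 yd22 zd37) (kd xd31 yd22 zd39) (kd xd31 yd22 zd40)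 (kd xd14 yd26 zd5) (kd xd30 yd20 zd49) (kd xd22 yd29 zd51) (kd xd14 yd26 zd7) (kd xd17 yd27 zd7) (kd xd14 yd26 zd9) (kd xd22 yd0 zd56) (kd xd30 yd10 zd61) (kd xd28 yd56 zd27) (kd xd14 yd26 zd15) (kd xd24 yd30 zd12) (kd xd26 yd19 zd39) (kd xd18 yd55 zd4) (kd xd14 yd26 zd19) (kd xd18 yd57 zd9) (kd xd31 yd22 zd47) (kd xd28 yd23 zd56) (kd xd15 yd26 zd48) (kd xd14 yd35 zd24) (kd xd14 yd26 zd24) (kd xd22 yd16 zd0) (kd xd24 yd38 zd32) (kd xd31 yd12 zd49) (kd xd30 yd49 zd27) (kd xd31 yd22 zd51) (kd xd30 yd35 zd5) (kd xd30 yd49 zd43) (kd xd30 yd30 zd47) (kd xd14 yd26 zd27) (kd xd19 yd30 zd47) (kd xd19 yd51 zd32) (kd xd29 yd48 zd24) (kd xd14 yd26 zd29) (kd xd21 yd15 zd59) (kd xd17 yd18 zd48) (kd xd26 yd44 zd1) (kd xd14 yd26 zd31) (kd xd24 yd25 zd6) (kd xd31 yd22 zd55) (kd xd14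 yd26 zd32) (kd xd30 yd30 zd2) (kd xd30 yd30 zd1) (kd xd14 yd26 zd34) (kd xd14 yd26 zd37) (kd xd31 yd23 zd1) (kd xd31 yd23 zd4) (kd xd14 yd26 zd38) (kd xd22 yd49 zd8) (kd xd31 yd23 zd5) (kd xd31 yd23 zd6) (kd xd14 yd26 zd39) (kd xd31 yd23 zd9) (kd xd30 yd49 zd3) (kd xd30 yd49 zd4) (kd xd30 yd43 zd27) (kd xd27 yd21 zd37)) (@D3.rec (fun _ => Pt) (kd xd14 yd26 zd41) (kd xd14 yd26 zd42) (kd xd23 yd50 zd14) (kd xd23 yd50 zd16) (kd xd27 yd21 zd14) (kd xd27 yd11 zd12) (kd xd22 yd34 zd33) (kd xd14 yd37 zd59) (kd xd18 yd24 zd36) (kd xd15 yd31 zd47) (kd xd29 yd18 zd8) (kd xd17 yd31 zd3) (kd xd20 yd59 zd8) (kd xd21 yd52 zd56) (kd xd27 yd21 zd28) (kd xd19 yd24 zd31) (kd xd15 yd31 zd42) (kd xd22 yd9 zd28) (kd xd23 yd50 zd19) (kd xd21 yd54 zd32) (kd xd14 yd26 zd53) (kd xd14 yd26 zd54)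 (kd xd28 yd34 zd49) (kd xd17 yd23 zd26) (kd xd17 yd5 zd36) (kd xd17 yd20 zd57) (kd xd21 yd44 zd16) (kd xd23 yd21 zd32) (kd xd27 yd24 zd13) (kd xd14 yd26 zd57) (kd xd24 yd29 zd25) (kd xd14 yd26 zd58) (kd xd15 yd31 zd43) (kd xd28 yd41 zd29) (kd xd15 yd31 zd46) (kd xd30 yd46 zd6) (kd xd14 yd27 zd0) (kd xd17 yd2 zd54) (kd xd19 yd12 zd33) (kd xd27 yd56 zd56) (kd xd31 yd23 zd20) (kd xd31 yd23 zd22) (kd xd31 yd13 zd50) (kd xd14 yd27 zd6) (kd xd22 yd41 zd53) (kd xd28 yd57 zd40) (kd xd22 yd58 zd10) (kd xd14 yd27 zd10) (kd xd31 yd23 zd25) (kd xd24 yd17 zd1) (kd xd14 yd27 zd11) (kd xd19 yd35 zd6) (kd xd19 yd25 zd57) (kd xd14 yd27 zd12) (kd xd27 yd21 zd50) (kd xd14 yd31 zd40) (kd xd21 yd28 zd33) (kd xd14 yd27 zd14) (kd xd29 yd20 zd2) (kd xd22 yd14 zd26) (kd xd31 yd23 zd27) (kd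 xd31 yd23 zd28)) (@D3.rec (fun _ => Pt) (kd xd26 yd49 zd3) (kd xd22 yd47 zd61) (kd xd31 yd3 zd38) (kd xd15 yd38 zd56) (kd xd25 yd26 zd58) (kd xd25 yd31 zd29) (kd xd14 yd27 zd22) (kd xd25 yd54 zd24) (kd xd15 yd40 zd37) (kd xd14 yd27 zd23) (kd xd14 yd27 zd24) (kd xd15 yd51 zd60) (kd xd14 yd27 zd26) (kd xd28 yd50 zd32) (kd xd26 yd53 zd3) (kd xd28 yd55 zd24) (kd xd27 yd54 zd28) (kd xd26 yd22 zd5) (kd xd29 yd19 zd52) (kd xd16 yd32 zd38) (kd xd24 yd16 zd18) (kd xd14 yd27 zd35) (kd xd29 yd49 zd22) (kd xd14 yd27 zd36) (kd xd24 yd8 zd36) (kd xd30 yd30 zd3) (kd xd14 yd27 zd41) (kd xd30 yd48 zd59) (kd xd27 yd44 zd18) (kd xd27 yd44 zd17) (kd xd15 yd53 zd18) (kd xd28 yd52 zd37) (kd xd14 yd27 zd43) (kd xd27 yd41 zd19) (kd xd14 yd27 zd44) (kd xd24 yd29 zd22) (kd xd24 yd8 zd24) (kd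 xd14 yd27 zd46) (kd xd23 yd50 zd28) (kd xd28 yd15 zd3) (kd xd28 yd46 zd33) (kd xd22 yd10 zd57) (kd xd24 yd28 zd5) (kd xd14 yd27 zd53) (kd xd24 yd37 zd0) (kd xd25 yd35 zd57) (kd xd14 yd27 zd56) (kd xd21 yd39 zd25) (kd xd22 yd9 zd44) (kd xd26 yd26 zd10) (kd xd27 yd41 zd60) (kd xd14 yd27 zd59) (kd xd20 yd43 zd44) (kd xd22 yd55 zd58) (kd xd25 yd28 zd24) (kd xd25 yd4 zd17) (kd xd25 yd47 zd41) (kd xd14 yd30 zd33) (kd xd22 yd41 zd5) (kd xd19 yd36 zd14) (kd xd29 yd55 zd49) (kd xd30 yd14 zd46)) (@D3.rec (fun _ => Pt) (kd xd23 yd14 zd46) (kd xd24 yd30 zd21) (kd xd22 yd34 zd12) (kd xd30 yd11 zd37) (kd xd31 yd23 zd41) (kd xd14 yd28 zd6) (kd xd29 yd37 zd5) (kd xd20 yd52 zd12) (kd xd20 yd30 zd5) (kd xd29 yd55 zd10) (kd xd28 yd43 zd34) (kd xd15 yd21 zd14) (kd xd24 yd13 zd52) (kd xd16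 yd31 zd41) (kd xd15 yd21 zd27) (kd xd26 yd25 zd24) (kd xd21 yd53 zd31) (kd xd16 yd28 zd18) (kd xd22 yd26 zd7) (kd xd22 yd51 zd33) (kd xd24 yd18 zd11) (kd xd22 yd51 zd35) (kd xd21 yd15 zd14) (kd xd21 yd15 zd13) (kd xd20 yd35 zd0) (kd xd23 yd6 zd40) (kd xd18 yd59 zd17) (kd xd24 yd18 zd9) (kd xd22 yd50 zd14) (kd xd19 yd34 zd36) (kd xd23 yd13 zd8) (kd xd31 yd23 zd48) (kd xd14 yd28 zd29) (kd xd26 yd10 zd6) (kd xd22 yd31 zd39) (kd xd20 yd10 zd48) (kd xd20 yd1 zd2) (kd xd28 yd53 zd59) (kd xd14 yd28 zd32) (kd xd20 yd1 zd0) (kd xd31 yd23 zd50) (kd xd14 yd28 zd33) (kd xd24 yd28 zd25) (kd xd18 yd21 zd58) (kd xd18 yd21 zd53) (kd xd15 yd44 zd12) (kd xd14 yd28 zd39) (kd xd30 yd41 zd42) (kd xd14 yd28 zd40) (kd xd23 yd44 zd11) (kd xd30 yd7 zd14) (kd xd30 yd6 zd52) (kd xd24 yd30 zd6)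 (kd xd14 yd28 zd45) (kd xd31 yd23 zd53) (kd xd31 yd23 zd54) (kd xd14 yd28 zd47) (kd xd24 yd38 zd16) (kd xd15 yd55 zd18) (kd xd31 yd23 zd55) (kd xd14 yd28 zd49) (kd xd25 yd56 zd24)) (@D3.rec (fun _ => Pt) (kd xd14 yd38 zd11) (kd xd14 yd28 zd51) (kd xd31 yd23 zd57) (kd xd16 yd5 zd50) (kd xd23 yd29 zd17) (kd xd14 yd28 zd57) (kd xd17 yd19 zd31) (kd xd14 yd28 zd60) (kd xd23 yd43 zd48) (kd xd14 yd29 zd0) (kd xd24 yd23 zd51) (kd xd29 yd9 zd54) (kd xd30 yd37 zd56) (kd xd30 yd37 zd29) (kd xd14 yd29 zd8) (kd xd31 yd0 zd47) (kd xd14 yd29 zd9) (kd xd25 yd28 zd1) (kd xd27 yd41 zd11) (kd xd31 yd7 zd17) (kd xd14 yd29 zd11) (kd xd22 yd22 zd15) (kd xd22 yd45 zd28) (kd xd31 yd9 zd18) (kd xd23 yd58 zd59) (kd xd21 yd22 zd0) (kd xd17 yd13 zd47) (kd xd14 yd29 zd20) (kd xd27 yd11 zd42) (kd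 xd31 yd23 zd61) (kd xd14 yd38 zd1) (kd xd14 yd29 zd22) (kd xd24 yd21 zd22) (kd xd17 yd22 zd32) (kd xd28 yd21 zd56) (kd xd21 yd23 zd17) (kd xd22 yd16 zd60) (kd xd14 yd29 zd29) (kd xd29 yd27 zd28) (kd xd31 yd24 zd1) (kd xd31 yd13 zd42) (kd xd14 yd29 zd35) (kd xd30 yd37 zd57) (kd xd31 yd24 zd2) (kd xd31 yd7 zd48) (kd xd14 yd29 zd37) (kd xd29 yd57 zd41) (kd xd31 yd5 zd2) (kd xd31 yd13 zd8) (kd xd14 yd29 zd39) (kd xd22 yd41 zd52) (kd xd22 yd41 zd28) (kd xd23 yd58 zd49) (kd xd29 yd14 zd28) (kd xd30 yd50 zd10) (kd xd31 yd24 zd5) (kd xd30 yd50 zd12) (kd xd16 yd56 zd42) (kd xd14 yd29 zd52) (kd xd20 yd33 zd17) (kd xd20 yd33 zd18) (kd xd24 yd25 zd33)) (@D3.rec (fun _ => Pt) (kd xd14 yd29 zd55) (kd xd29 yd27 zd0) (kd xd14 yd38 zd6) (kd xd22 yd42 zd44) (kd xd26 yd50 zd3) (kd xd14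 yd29 zd61) (kd xd26 yd51 zd54) (kd xd22 yd32 zd22) (kd xd31 yd20 zd55) (kd xd24 yd18 zd60) (kd xd24 yd20 zd21) (kd xd25 yd34 zd56) (kd xd25 yd52 zd5) (kd xd22 yd32 zd41) (kd xd18 yd0 zd8) (kd xd20 yd46 zd54) (kd xd22 yd15 zd6) (kd xd26 yd15 zd50) (kd xd28 yd42 zd3) (kd xd14 yd30 zd15) (kd xd22 yd52 zd27) (kd xd31 yd24 zd25) (kd xd14 yd30 zd16) (kd xd15 yd21 zd35) (kd xd14 yd30 zd17) (kd xd23 yd55 zd31) (kd xd23 yd55 zd38) (kd xd25 yd13 zd8) (kd xd14 yd30 zd19) (kd xd24 yd14 zd16) (kd xd31 yd22 zd9) (kd xd31 yd22 zd10) (kd xd14 yd30 zd21) (kd xd17 yd28 zd37) (kd xd25 yd40 zd46) (kd xd25 yd42 zd10) (kd xd28 yd50 zd6) (kd xd25 yd5 zd29) (kd xd22 yd58 zd44) (kd xd30 yd54 zd44) (kd xd30 yd54 zd45) (kd xd24 yd5 zd43) (kd xd31 yd24 zd35) (kd xd21 yd24 zd6) (kd xd14 yd30 zd26)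 (kd xd31 yd24 zd39) (kd xd25 yd57 zd11) (kd xd29 yd34 zd52) (kd xd31 yd24 zd42) (kd xd31 yd24 zd44) (kd xd14 yd30 zd28) (kd xd31 yd24 zd47) (kd xd29 yd42 zd16) (kd xd24 yd16 zd9) (kd xd16 yd26 zd57) (kd xd30 yd49 zd23) (kd xd30 yd20 zd5) (kd xd29 yd7 zd50) (kd xd14 yd30 zd34) (kd xd22 yd26 zd15) (kd xd30 yd37 zd1) (kd xd26 yd45 zd12)) (@D3.rec (fun _ => Pt) (kd xd14 yd30 zd39) (kd xd20 yd24 zd39) (kd xd28 yd44 zd25) (kd xd14 yd30 zd42) (kd xd19 yd19 zd14) (kd xd30 yd27 zd44) (kd xd16 yd36 zd30) (kd xd20 yd56 zd10) (kd xd28 yd54 zd5) (kd xd26 yd31 zd35) (kd xd23 yd11 zd60) (kd xd26 yd31 zd36) (kd xd30 yd33 zd61) (kd xd29 yd53 zd20) (kd xd31 yd12 zd40) (kd xd29 yd53 zd21) (kd xd22 yd36 zd12) (kd xd31 yd25 zd2) (kd xd14 yd30 zd52) (kd xd31 yd25 zd3) (kd xd25 yd13 zd51)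 (kd xd24 yd53 zd40) (kd xd19 yd38 zd33) (kd xd30 yd51 zd34) (kd xd30 yd30 zd39) (kd xd30 yd26 zd50) (kd xd30 yd23 zd49) (kd xd31 yd23 zd14) (kd xd14 yd30 zd58) (kd xd28 yd30 zd56) (kd xd14 yd30 zd60) (kd xd14 yd30 zd61) (kd xd22 yd28 zd48) (kd xd17 yd34 zd44) (kd xd17 yd47 zd56) (kd xd18 yd50 zd18) (kd xd27 yd50 zd42) (kd xd19 yd3 zd47) (kd xd18 yd12 zd38) (kd xd28 yd32 zd60) (kd xd28 yd6 zd52) (kd xd31 yd25 zd11) (kd xd27 yd54 zd44) (kd xd16 yd34 zd46) (kd xd25 yd13 zd49) (kd xd30 yd36 zd32) (kd xd29 yd27 zd5) (kd xd19 yd41 zd30) (kd xd30 yd36 zd28) (kd xd30 yd45 zd32) (kd xd14 yd31 zd10) (kd xd18 yd12 zd58) (kd xd25 yd36 zd30) (kd xd30 yd44 zd16) (kd xd14 yd31 zd12) (kd xd26 yd25 zd50) (kd xd30 yd36 zd49) (kd xd14 yd31 zd15) (kd xd31 yd25 zd19) (kd xd21 yd16 zd5)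 (kd xd30 yd37 zd31) (kd xd14 yd31 zd17)) (@D3.rec (fun _ => Pt) (kd xd31 yd25 zd24) (kd xd30 yd47 zd38) (kd xd14 yd31 zd18) (kd xd31 yd25 zd26) (kd xd31 yd25 zd27) (kd xd14 yd31 zd20) (kd xd31 yd25 zd28) (kd xd28 yd44 zd10) (kd xd30 yd48 zd7) (kd xd14 yd31 zd22) (kd xd31 yd25 zd31) (kd xd18 yd50 zd5) (kd xd18 yd50 zd20) (kd xd28 yd44 zd11) (kd xd31 yd25 zd0) (kd xd14 yd31 zd25) (kd xd22 yd55 zd32) (kd xd14 yd31 zd26) (kd xd31 yd25 zd37) (kd xd21 yd15 zd0) (kd xd31 yd16 zd37) (kd xd29 yd53 zd60) (kd xd14 yd31 zd27) (kd xd29 yd53 zd61) (kd xd27 yd51 zd52) (kd xd27 yd51 zd53) (kd xd28 yd52 zd45) (kd xd23 yd6 zd30) (kd xd14 yd31 zd29) (kd xd19 yd20 zd51) (kd xd15 yd54 zd20) (kd xd21 yd52 zd37) (kd xd19 yd31 zd24) (kd xd20 yd33 zd32) (kd xd28 yd34 zd29) (kd xd25 yd59 zd47)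 (kd xd30 yd37 zd53) (kd xd30 yd37 zd50) (kd xd14 yd31 zd44) (kd xd22 yd39 zd41) (kd xd29 yd29 zd24) (kd xd31 yd25 zd47) (kd xd28 yd11 zd27) (kd xd25 yd31 zd28) (kd xd18 yd46 zd33) (kd xd15 yd32 zd53) (kd xd25 yd4 zd33) (kd xd31 yd25 zd51) (kd xd24 yd58 zd3) (kd xd14 yd31 zd52) (kd xd29 yd12 zd32) (kd xd14 yd31 zd53) (kd xd24 yd9 zd12) (kd xd27 yd44 zd20) (kd xd14 yd31 zd55) (kd xd31 yd23 zd42) (kd xd14 yd31 zd56) (kd xd22 yd35 zd14) (kd xd28 yd20 zd14) (kd xd30 yd36 zd34) (kd xd22 yd18 zd57) (kd xd14 yd31 zd58)) (@D3.rec (fun _ => Pt) (kd xd24 yd27 zd61) (kd xd14 yd31 zd59) (kd xd14 yd31 zd61) (kd xd25 yd12 zd44) (kd xd21 yd17 zd61) (kd xd22 yd6 zd48) (kd xd22 yd53 zd28) (kd xd30 yd45 zd51) (kd xd14 yd32 zd1) (kd xd17 yd58 zd39) (kd xd22 yd53 zd27) (kd xd31 yd23 zd3)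 (kd xd14 yd32 zd2) (kd xd15 yd46 zd54) (kd xd18 yd51 zd2) (kd xd23 yd8 zd21) (kd xd24 yd11 zd29) (kd xd19 yd19 zd38) (kd xd21 yd14 zd0) (kd xd14 yd32 zd9) (kd xd29 yd34 zd58) (kd xd22 yd13 zd16) (kd xd31 yd25 zd61) (kd xd14 yd32 zd12) (kd xd25 yd44 zd21) (kd xd21 yd43 zd56) (kd xd14 yd32 zd15) (kd xd28 yd49 zd16) (kd xd14 yd32 zd16) (kd xd27 yd7 zd30) (kd xd17 yd17 zd52) (kd xd17 yd19 zd43) (kd xd31 yd26 zd3) (kd xd14 yd32 zd18) (kd xd14 yd32 zd19) (kd xd31 yd26 zd4) (kd xd28 yd30 zd21) (kd xd31 yd26 zd6) (kd xd31 yd26 zd7) (kd xd14 yd32 zd24) (kd xd31 yd26 zd10) (kd xd31 yd26 zd11) (kd xd28 yd21 zd51) (kd xd31 yd26 zd13) (kd xd31 yd26 zd15) (kd xd14 yd32 zd27) (kd xd17 yd4 zd18) (kd xd23 yd13 zd25) (kd xd26 yd5 zd55) (kd xd28 yd41 zd31) (kd xd24 yd17 zd54) (kd xd31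 yd10 zd5) (kd xd14 yd32 zd33) (kd xd21 yd42 zd46) (kd xd19 yd53 zd46) (kd xd22 yd13 zd8) (kd xd29 yd23 zd39) (kd xd20 yd46 zd26) (kd xd19 yd46 zd41) (kd xd19 yd46 zd42) (kd xd14 yd32 zd38) (kd xd22 yd40 zd10)) (@D3.rec (fun _ => Pt) (kd xd31 yd26 zd25) (kd xd18 yd48 zd53) (kd xd22 yd36 zd61) (kd xd31 yd23 zd46) (kd xd23 yd30 zd25) (kd xd31 yd26 zd27) (kd xd23 yd0 zd50) (kd xd29 yd4 zd57) (kd xd25 yd36 zd26) (kd xd28 yd50 zd2) (kd xd23 yd0 zd53) (kd xd31 yd26 zd30) (kd xd22 yd13 zd20) (kd xd30 yd11 zd25) (kd xd28 yd57 zd55) (kd xd31 yd26 zd37) (kd xd22 yd13 zd31) (kd xd30 yd40 zd43) (kd xd25 yd26 zd36) (kd xd29 yd23 zd15) (kd xd29 yd39 zd57) (kd xd26 yd55 zd17) (kd xd14 yd32 zd57) (kd xd27 yd6 zd36) (kd xd14 yd32 zd58) (kd xd21 yd40 zd7) (kd xd14 yd32 zd60) (kd xd28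 yd28 zd38) (kd xd20 yd47 zd14) (kd xd26 yd29 zd53) (kd xd26 yd29 zd52) (kd xd17 yd24 zd8) (kd xd15 yd14 zd22) (kd xd14 yd33 zd16) (kd xd18 yd17 zd10) (kd xd21 yd17 zd5) (kd xd31 yd26 zd41) (kd xd27 yd7 zd21) (kd xd27 yd7 zd20) (kd xd14 yd33 zd20) (kd xd22 yd13 zd6) (kd xd14 yd33 zd21) (kd xd21 yd0 zd33) (kd xd29 yd41 zd14) (kd xd31 yd26 zd43) (kd xd22 yd40 zd14) (kd xd22 yd40 zd13) (kd xd14 yd33 zd26) (kd xd30 yd56 zd55) (kd xd29 yd49 zd15) (kd xd26 yd33 zd61) (kd xd15 yd56 zd1) (kd xd26 yd4 zd57) (kd xd22 yd23 zd14) (kd xd14 yd33 zd33) (kd xd19 yd28 zd15) (kd xd18 yd37 zd43) (kd xd21 yd16 zd28) (kd xd21 yd45 zd38) (kd xd31 yd0 zd19) (kd xd29 yd50 zd9) (kd xd30 yd19 zd33)) (@D3.rec (fun _ => Pt) (kd xd31 yd26 zd51) (kd xd28 yd22 zd15) (kd xd14 yd33 zd38) (kd xd19 yd34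 zd52) (kd xd14 yd33 zd39) (kd xd29 yd16 zd48) (kd xd29 yd9 zd43) (kd xd25 yd9 zd54) (kd xd14 yd33 zd40) (kd xd24 yd11 zd53) (kd xd19 yd23 zd14) (kd xd14 yd33 zd42) (kd xd20 yd50 zd35) (kd xd25 yd11 zd38) (kd xd28 yd16 zd7) (kd xd31 yd26 zd56) (kd xd28 yd42 zd14) (kd xd28 yd19 zd40) (kd xd24 yd8 zd20) (kd xd14 yd33 zd49) (kd xd28 yd15 zd61) (kd xd31 yd27 zd0) (kd xd31 yd23 zd47) (kd xd22 yd59 zd53) (kd xd23 yd18 zd59) (kd xd23 yd28 zd44) (kd xd27 yd27 zd25) (kd xd23 yd39 zd9) (kd xd27 yd1 zd43) (kd xd29 yd59 zd46) (kd xd31 yd27 zd2) (kd xd21 yd50 zd38) (kd xd23 yd30 zd24) (kd xd25 yd50 zd15) (kd xd29 yd22 zd14) (kd xd26 yd52 zd49) (kd xd29 yd38 zd8) (kd xd29 yd34 zd60) (kd xd14 yd34 zd2) (kd xd31 yd19 zd7) (kd xd22 yd24 zd29) (kd xd23 yd46 zd35) (kd xd31 yd27 zd9) (kd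 xd14 yd34 zd8) (kd xd31 yd3 zd51) (kd xd14 yd34 zd11) (kd xd31 yd27 zd12) (kd xd27 yd15 zd39) (kd xd25 yd27 zd29) (kd xd30 yd19 zd59) (kd xd14 yd34 zd14) (kd xd25 yd7 zd29) (kd xd28 yd33 zd37) (kd xd27 yd23 zd54) (kd xd23 yd30 zd22) (kd xd23 yd30 zd23) (kd xd30 yd11 zd26) (kd xd14 yd34 zd17) (kd xd23 yd56 zd17) (kd xd31 yd27 zd19) (kd xd29 yd37 zd14) (kd xd19 yd10 zd7)) (@D3.rec (fun _ => Pt) (kd xd14 yd34 zd19) (kd xd24 yd7 zd49) (kd xd14 yd34 zd20) (kd xd23 yd1 zd22) (kd xd14 yd34 zd21) (kd xd25 yd47 zd24) (kd xd31 yd27 zd22) (kd xd30 yd7 zd2) (kd xd31 yd27 zd27) (kd xd14 yd34 zd24) (kd xd28 yd52 zd42) (kd xd30 yd5 zd59) (kd xd30 yd5 zd60) (kd xd30 yd38 zd47) (kd xd19 yd46 zd3) (kd xd31 yd11 zd12) (kd xd29 yd4 zd56) (kd xd14 yd34 zd26) (kd xd25 yd35 zd24) (kd xd31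 yd27 zd32) (kd xd31 yd27 zd33) (kd xd14 yd34 zd29) (kd xd31 yd27 zd34) (kd xd14 yd34 zd30) (kd xd25 yd26 zd37) (kd xd31 yd9 zd48) (kd xd29 yd5 zd25) (kd xd31 yd27 zd38) (kd xd14 yd34 zd35) (kd xd24 yd41 zd17) (kd xd21 yd27 zd8) (kd xd14 yd34 zd37) (kd xd31 yd27 zd42) (kd xd31 yd9 zd38) (kd xd31 yd4 zd52) (kd xd29 yd54 zd3) (kd xd14 yd34 zd38) (kd xd26 yd24 zd44) (kd xd31 yd4 zd51) (kd xd29 yd5 zd22) (kd xd30 yd2 zd43) (kd xd14 yd34 zd39) (kd xd30 yd16 zd47) (kd xd14 yd34 zd40) (kd xd25 yd49 zd50) (kd xd27 yd44 zd36) (kd xd26 yd19 zd3) (kd xd19 yd47 zd8) (kd xd19 yd46 zd38) (kd xd17 yd58 zd13) (kd xd29 yd41 zd60) (kd xd29 yd41 zd59) (kd xd14 yd34 zd44) (kd xd29 yd40 zd34) (kd xd24 yd14 zd50) (kd xd28 yd24 zd18) (kd xd14 yd34 zd46) (kd xd27 yd30 zd49) (kd xd14 yd34 zd47)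 (kd xd21 yd7 zd60) (kd xd30 yd46 zd22) (kd xd14 yd34 zd49)) (@D3.rec (fun _ => Pt) (kd xd14 yd34 zd50) (kd xd14 yd34 zd54) (kd xd29 yd27 zd45) (kd xd18 yd57 zd36) (kd xd30 yd47 zd28) (kd xd14 yd34 zd56) (kd xd29 yd51 zd61) (kd xd14 yd34 zd59) (kd xd16 yd24 zd23) (kd xd24 yd9 zd27) (kd xd27 yd56 zd24) (kd xd24 yd9 zd20) (kd xd14 yd35 zd2) (kd xd14 yd35 zd4) (kd xd26 yd43 zd48) (kd xd28 yd56 zd18) (kd xd22 yd37 zd31) (kd xd26 yd12 zd16) (kd xd31 yd14 zd34) (kd xd14 yd48 zd46) (kd xd27 yd4 zd49) (kd xd31 yd27 zd61) (kd xd14 yd35 zd13) (kd xd23 yd34 zd3) (kd xd23 yd34 zd4) (kd xd24 yd36 zd10) (kd xd14 yd35 zd17) (kd xd21 yd10 zd18) (kd xd31 yd28 zd0) (kd xd27 yd39 zd36) (kd xd27 yd17 zd17) (kd xd22 yd34 zd30) (kd xd22 yd34 zd32) (kd xd14 yd35 zd22) (kd xd20 yd27 zd33) (kd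 xd20 yd26 zd54) (kd xd15 yd31 zd31) (kd xd15 yd27 zd10) (kd xd19 yd8 zd8) (kd xd14 yd35 zd27) (kd xd14 yd35 zd29) (kd xd24 yd5 zd58) (kd xd25 yd20 zd18) (kd xd31 yd24 zd55) (kd xd20 yd59 zd6) (kd xd25 yd50 zd44) (kd xd25 yd20 zd12) (kd xd15 yd29 zd18) (kd xd17 yd19 zd1) (kd xd18 yd4 zd21) (kd xd20 yd46 zd35) (kd xd28 yd16 zd18) (kd xd29 yd20 zd14) (kd xd22 yd48 zd42) (kd xd15 yd40 zd44) (kd xd14 yd35 zd40) (kd xd24 yd47 zd36) (kd xd20 yd30 zd61) (kd xd23 yd59 zd53) (kd xd23 yd5 zd46) (kd xd24 yd11 zd9) (kd xd26 yd59 zd8)) (@D3.rec (fun _ => Pt) (kd xd27 yd37 zd49) (kd xd25 yd22 zd57) (kd xd14 yd35 zd52) (kd xd14 yd35 zd53) (kd xd17 yd50 zd26) (kd xd14 yd35 zd54) (kd xd29 yd43 zd34) (kd xd14 yd35 zd57) (kd xd29 yd56 zd11) (kd xd17 yd49 zd45) (kd xd27 yd59 zd27) (kd xd14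 yd35 zd60) (kd xd31 yd28 zd16) (kd xd25 yd20 zd44) (kd xd25 yd44 zd40) (kd xd28 yd34 zd50) (kd xd28 yd30 zd50) (kd xd31 yd28 zd19) (kd xd14 yd36 zd2) (kd xd31 yd14 zd11) (kd xd29 yd31 zd47) (kd xd15 yd55 zd57) (kd xd19 yd28 zd6) (kd xd29 yd48 zd46) (kd xd31 yd28 zd23) (kd xd14 yd36 zd6) (kd xd28 yd59 zd20) (kd xd24 yd4 zd18) (kd xd14 yd36 zd10) (kd xd31 yd28 zd27) (kd xd31 yd14 zd15) (kd xd14 yd36 zd12) (kd xd31 yd28 zd31) (kd xd14 yd36 zd14) (kd xd28 yd38 zd43) (kd xd26 yd42 zd46) (kd xd26 yd42 zd45) (kd xd19 yd31 zd16) (kd xd14 yd36 zd17) (kd xd31 yd18 zd27) (kd xd14 yd36 zd39) (kd xd14 yd37 zd2) (kd xd30 yd36 zd14) (kd xd14 yd36 zd22) (kd xd23 yd47 zd10) (kd xd14 yd36 zd23) (kd xd21 yd3 zd47) (kd xd29 yd21 zd53) (kd xd14 yd36 zd25) (kd xd31 yd28 zd43) (kd xd14 yd36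 zd28) (kd xd30 yd23 zd43) (kd xd14 yd36 zd30) (kd xd17 yd11 zd4) (kd xd30 yd55 zd61) (kd xd31 yd28 zd44) (kd xd20 yd17 zd28) (kd xd21 yd47 zd48) (kd xd21 yd45 zd20) (kd xd31 yd28 zd46) (kd xd14 yd36 zd36) (kd xd31 yd28 zd28)) (@D3.rec (fun _ => Pt) (kd xd21 yd45 zd57) (kd xd26 yd44 zd60) (kd xd14 yd36 zd40) (kd xd14 yd36 zd44) (kd xd24 yd20 zd6) (kd xd14 yd36 zd47) (kd xd24 yd20 zd4) (kd xd24 yd37 zd54) (kd xd14 yd36 zd48) (kd xd14 yd37 zd17) (kd xd14 yd37 zd18) (kd xd29 yd51 zd15) (kd xd23 yd39 zd16) (kd xd23 yd42 zd1) (kd xd21 yd19 zd7) (kd xd24 yd23 zd50) (kd xd25 yd52 zd7) (kd xd14 yd36 zd56) (kd xd20 yd23 zd6) (kd xd14 yd36 zd58) (kd xd29 yd25 zd41) (kd xd24 yd11 zd10) (kd xd14 yd37 zd1) (kd xd15 yd38 zd27) (kd xd31 yd7 zd33) (kd xd28 yd41 zd13) (kd xd14 yd37 zd7)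 (kd xd30 yd9 zd0) (kd xd29 yd51 zd7) (kd xd14 yd39 zd24) (kd xd19 yd15 zd25) (kd xd28 yd41 zd52) (kd xd14 yd37 zd10) (kd xd20 yd3 zd26) (kd xd14 yd37 zd11) (kd xd21 yd23 zd44) (kd xd14 yd37 zd13) (kd xd30 yd36 zd13) (kd xd15 yd48 zd19) (kd xd30 yd14 zd31) (kd xd14 yd37 zd14) (kd xd20 yd15 zd30) (kd xd29 yd22 zd45) (kd xd28 yd33 zd35) (kd xd23 yd12 zd43) (kd xd26 yd54 zd56) (kd xd27 yd57 zd15) (kd xd29 yd9 zd42) (kd xd14 yd37 zd19) (kd xd31 yd4 zd6) (kd xd19 yd18 zd22) (kd xd23 yd58 zd41) (kd xd30 yd10 zd33) (kd xd31 yd28 zd58) (kd xd31 yd28 zd59) (kd xd14 yd37 zd21) (kd xd30 yd7 zd58) (kd xd28 yd50 zd8) (kd xd31 yd4 zd17) (kd xd14 yd37 zd23) (kd xd31 yd28 zd61) (kd xd22 yd39 zd7)) (@D3.rec (fun _ => Pt) (kd xd24 yd35 zd21) (kd xd29 yd26 zd46) (kd xd26 yd41 zd19) (kd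 xd14 yd37 zd33) (kd xd31 yd29 zd4) (kd xd19 yd18 zd44) (kd xd31 yd29 zd6) (kd xd14 yd37 zd35) (kd xd21 yd49 zd1) (kd xd16 yd5 zd0) (kd xd16 yd5 zd1) (kd xd19 yd54 zd20) (kd xd19 yd44 zd61) (kd xd31 yd29 zd10) (kd xd25 yd13 zd29) (kd xd19 yd45 zd0) (kd xd16 yd4 zd20) (kd xd29 yd57 zd46) (kd xd23 yd12 zd25) (kd xd30 yd53 zd2) (kd xd24 yd46 zd19) (kd xd21 yd39 zd60) (kd xd24 yd10 zd32) (kd xd20 yd33 zd44) (kd xd30 yd45 zd45) (kd xd30 yd44 zd53) (kd xd30 yd23 zd13) (kd xd14 yd37 zd55) (kd xd19 yd28 zd56) (kd xd22 yd32 zd33) (kd xd22 yd32 zd32) (kd xd29 yd25 zd46) (kd xd20 yd26 zd56) (kd xd20 yd38 zd39) (kd xd26 yd27 zd58) (kd xd14 yd37 zd61) (kd xd19 yd12 zd57) (kd xd24 yd40 zd41) (kd xd28 yd22 zd10) (kd xd26 yd39 zd58) (kd xd26 yd53 zd60) (kd xd20 yd38 zd9) (kd xd14 yd38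 zd5) (kd xd22 yd39 zd55) (kd xd31 yd24 zd14) (kd xd30 yd44 zd52) (kd xd14 yd38 zd8) (kd xd29 yd23 zd22) (kd xd23 yd51 zd9) (kd xd18 yd47 zd40) (kd xd14 yd38 zd9) (kd xd27 yd10 zd25) (kd xd30 yd8 zd15) (kd xd14 yd41 zd10) (kd xd31 yd29 zd28) (kd xd14 yd38 zd17) (kd xd21 yd40 zd47) (kd xd30 yd5 zd20) (kd xd16 yd13 zd32) (kd xd14 yd38 zd20) (kd xd23 yd8 zd14) (kd xd23 yd29 zd55)) (@D3.rec (fun _ => Pt) (kd xd14 yd38 zd22) (kd xd14 yd38 zd24) (kd xd22 yd32 zd9) (kd xd22 yd37 zd38) (kd xd22 yd48 zd1) (kd xd27 yd56 zd9) (kd xd31 yd5 zd49) (kd xd31 yd29 zd30) (kd xd31 yd29 zd32) (kd xd14 yd38 zd31) (kd xd30 yd10 zd20) (kd xd29 yd10 zd26) (kd xd14 yd38 zd32) (kd xd30 yd10 zd57) (kd xd14 yd40 zd10) (kd xd23 yd30 zd32) (kd xd14 yd38 zd35) (kd xd24 yd41 zd55) (kd xd31 yd29 zd34)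 (kd xd21 yd45 zd10) (kd xd14 yd38 zd37) (kd xd23 yd47 zd56) (kd xd29 yd48 zd50) (kd xd30 yd20 zd25) (kd xd31 yd29 zd36) (kd xd14 yd38 zd39) (kd xd31 yd24 zd46) (kd xd29 yd48 zd49) (kd xd21 yd23 zd18) (kd xd14 yd38 zd41) (kd xd29 yd21 zd59) (kd xd27 yd0 zd47) (kd xd23 yd27 zd57) (kd xd21 yd35 zd5) (kd xd16 yd5 zd4) (kd xd25 yd41 zd18) (kd xd23 yd36 zd23) (kd xd16 yd6 zd17) (kd xd24 yd23 zd29) (kd xd30 yd3 zd56) (kd xd14 yd38 zd52) (kd xd22 yd38 zd48) (kd xd16 yd3 zd50) (kd xd15 yd45 zd50) (kd xd30 yd23 zd55) (kd xd22 yd20 zd12) (kd xd23 yd48 zd61) (kd xd20 yd56 zd8) (kd xd31 yd29 zd46) (kd xd31 yd29 zd48) (kd xd25 yd23 zd41) (kd xd30 yd52 zd1) (kd xd27 yd31 zd14) (kd xd31 yd6 zd54) (kd xd19 yd28 zd14) (kd xd26 yd22 zd26) (kd xd28 yd33 zd27) (kd xd16 yd38 zd34) (kd xd14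 yd39 zd11) (kd xd26 yd2 zd30) (kd xd29 yd25 zd61) (kd xd20 yd26 zd37)) (@D3.rec (fun _ => Pt) (kd xd25 yd33 zd1) (kd xd28 yd34 zd55) (kd xd22 yd12 zd16) (kd xd28 yd50 zd53) (kd xd30 yd8 zd60) (kd xd23 yd10 zd26) (kd xd22 yd37 zd17) (kd xd30 yd13 zd26) (kd xd29 yd17 zd26) (kd xd23 yd8 zd1) (kd xd27 yd14 zd58) (kd xd17 yd25 zd59) (kd xd14 yd39 zd29) (kd xd31 yd29 zd56) (kd xd14 yd39 zd32) (kd xd19 yd8 zd40) (kd xd19 yd4 zd34) (kd xd27 yd58 zd24) (kd xd31 yd10 zd11) (kd xd30 yd23 zd42) (kd xd31 yd10 zd12) (kd xd30 yd23 zd40) (kd xd14 yd39 zd37) (kd xd31 yd10 zd9) (kd xd18 yd43 zd39) (kd xd14 yd39 zd40) (kd xd14 yd40 zd39) (kd xd19 yd51 zd6) (kd xd21 yd41 zd14) (kd xd24 yd22 zd38) (kd xd22 yd21 zd55) (kd xd27 yd11 zd10) (kd xd26 yd9 zd30) (kd xd29 yd26 zd21) (kd xd26 yd7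 zd55) (kd xd29 yd52 zd13) (kd xd23 yd42 zd41) (kd xd14 yd39 zd50) (kd xd31 yd7 zd13) (kd xd19 yd8 zd26) (kd xd19 yd8 zd25) (kd xd14 yd39 zd52) (kd xd31 yd30 zd10) (kd xd31 yd30 zd12) (kd xd31 yd15 zd61) (kd xd14 yd39 zd55) (kd xd30 yd39 zd48) (kd xd31 yd30 zd17) (kd xd14 yd39 zd56) (kd xd31 yd30 zd19) (kd xd24 yd20 zd15) (kd xd24 yd10 zd10) (kd xd14 yd39 zd58) (kd xd29 yd5 zd1) (kd xd26 yd48 zd9) (kd xd19 yd58 zd37) (kd xd31 yd5 zd54) (kd xd19 yd46 zd5) (kd xd31 yd11 zd13) (kd xd31 yd30 zd21) (kd xd14 yd40 zd0) (kd xd29 yd5 zd2)) (@D3.rec (fun _ => Pt) (kd xd15 yd5 zd50) (kd xd14 yd40 zd3) (kd xd26 yd25 zd13) (kd xd30 yd42 zd21) (kd xd27 yd42 zd57) (kd xd30 yd20 zd20) (kd xd14 yd40 zd5) (kd xd25 yd32 zd14) (kd xd15 yd5 zd49) (kd xd31 yd30 zd24) (kd xd30 yd41 zd37) (kd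 xd14 yd40 zd11) (kd xd17 yd57 zd42) (kd xd23 yd13 zd24) (kd xd15 yd39 zd24) (kd xd14 yd40 zd16) (kd xd25 yd34 zd45) (kd xd22 yd35 zd45) (kd xd14 yd40 zd17) (kd xd24 yd31 zd49) (kd xd14 yd40 zd18) (kd xd25 yd34 zd54) (kd xd19 yd8 zd33) (kd xd19 yd8 zd32) (kd xd22 yd20 zd48) (kd xd19 yd3 zd45) (kd xd26 yd36 zd41) (kd xd31 yd22 zd34) (kd xd23 yd57 zd17) (kd xd22 yd20 zd36) (kd xd23 yd0 zd40) (kd xd30 yd49 zd8) (kd xd30 yd49 zd9) (kd xd29 yd3 zd1) (kd xd14 yd40 zd26) (kd xd19 yd25 zd22) (kd xd20 yd50 zd55) (kd xd19 yd34 zd10) (kd xd22 yd37 zd58) (kd xd23 yd10 zd53) (kd xd30 yd45 zd15) (kd xd14 yd40 zd30) (kd xd31 yd30 zd36) (kd xd14 yd40 zd31) (kd xd31 yd30 zd37) (kd xd21 yd41 zd16) (kd xd22 yd35 zd20) (kd xd19 yd51 zd58) (kd xd22 yd46 zd28) (kd xd19 yd17 zd50) (kd xd31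 yd30 zd40) (kd xd20 yd17 zd17) (kd xd14 yd40 zd38) (kd xd29 yd29 zd25) (kd xd20 yd48 zd50) (kd xd22 yd19 zd57) (kd xd14 yd40 zd41) (kd xd28 yd44 zd16) (kd xd22 yd36 zd13) (kd xd26 yd58 zd43) (kd xd20 yd39 zd41) (kd xd30 yd51 zd13)) (@D3.rec (fun _ => Pt) (kd xd29 yd37 zd29) (kd xd30 yd43 zd56) (kd xd26 yd27 zd59) (kd xd31 yd17 zd49) (kd xd14 yd40 zd47) (kd xd31 yd30 zd52) (kd xd24 yd6 zd43) (kd xd20 yd33 zd40) (kd xd30 yd26 zd45) (kd xd19 yd28 zd58) (kd xd19 yd28 zd52) (kd xd22 yd57 zd12) (kd xd31 yd30 zd54) (kd xd14 yd40 zd54) (kd xd14 yd40 zd55) (kd xd31 yd29 zd19) (kd xd26 yd50 zd27) (kd xd16 yd54 zd37) (kd xd25 yd51 zd57) (kd xd26 yd43 zd24) (kd xd23 yd4 zd16) (kd xd23 yd4 zd17) (kd xd23 yd47 zd49) (kd xd29 yd46 zd10) (kd xd27 yd5 zd5) (kd xd26 yd22 zd22) (kd xd27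 yd10 zd40) (kd xd14 yd41 zd3) (kd xd29 yd48 zd44) (kd xd26 yd9 zd13) (kd xd14 yd41 zd5) (kd xd30 yd27 zd19) (kd xd19 yd25 zd30) (kd xd24 yd10 zd61) (kd xd22 yd32 zd58) (kd xd31 yd31 zd4) (kd xd14 yd41 zd8) (kd xd31 yd30 zd38) (kd xd18 yd44 zd59) (kd xd26 yd19 zd36) (kd xd27 yd58 zd32) (kd xd18 yd47 zd41) (kd xd14 yd41 zd11) (kd xd31 yd31 zd8) (kd xd31 yd19 zd13) (kd xd30 yd15 zd31) (kd xd30 yd6 zd17) (kd xd31 yd31 zd13) (kd xd25 yd34 zd29) (kd xd31 yd31 zd16) (kd xd30 yd6 zd60) (kd xd30 yd29 zd36) (kd xd14 yd41 zd17) (kd xd30 yd25 zd8) (kd xd22 yd22 zd61) (kd xd24 yd44 zd22) (kd xd28 yd29 zd18) (kd xd23 yd1 zd41) (kd xd20 yd37 zd20) (kd xd28 yd52 zd57) (kd xd27 yd8 zd48) (kd xd22 yd59 zd36)) (@D3.rec (fun _ => Pt) (kd xd22 yd19 zd28) (kd xd22 yd47 zd23) (kd xd27 yd41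 zd51) (kd xd27 yd41 zd49) (kd xd31 yd31 zd26) (kd xd23 yd47 zd53) (kd xd30 yd45 zd31) (kd xd31 yd19 zd22) (kd xd30 yd34 zd22) (kd xd31 yd31 zd29) (kd xd28 yd35 zd41) (kd xd31 yd31 zd32) (kd xd14 yd41 zd33) (kd xd31 yd31 zd34) (kd xd31 yd14 zd5) (kd xd14 yd41 zd35) (kd xd23 yd55 zd49) (kd xd14 yd41 zd36) (kd xd14 yd41 zd38) (kd xd28 yd18 zd31) (kd xd17 yd0 zd52) (kd xd14 yd41 zd40) (kd xd31 yd31 zd38) (kd xd14 yd41 zd41) (kd xd16 yd39 zd26) (kd xd17 yd11 zd35) (kd xd31 yd19 zd49) (kd xd14 yd41 zd44) (kd xd28 yd11 zd3) (kd xd28 yd11 zd4) (kd xd22 yd7 zd0) (kd xd14 yd41 zd46) (kd xd28 yd39 zd34) (kd xd14 yd41 zd47) (kd xd28 yd53 zd48) (kd xd19 yd53 zd33) (kd xd28 yd39 zd44) (kd xd14 yd41 zd50) (kd xd31 yd31 zd50) (kd xd14 yd41 zd51) (kd xd28 yd53 zd57) (kd xd29 yd26 zd34)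 (kd xd29 yd26 zd33) (kd xd29 yd25 zd53) (kd xd30 yd39 zd10) (kd xd22 yd23 zd8) (kd xd22 yd24 zd30) (kd xd16 yd48 zd29) (kd xd25 yd7 zd58) (kd xd16 yd39 zd25) (kd xd28 yd54 zd8) (kd xd31 yd31 zd55) (kd xd31 yd31 zd56) (kd xd27 yd10 zd50) (kd xd30 yd38 zd52) (kd xd31 yd31 zd57) (kd xd14 yd42 zd0) (kd xd31 yd27 zd15) (kd xd23 yd54 zd43) (kd xd31 yd25 zd45) (kd xd14 yd42 zd2) (kd xd28 yd38 zd13)) (@D3.rec (fun _ => Pt) (kd xd31 yd32 zd5) (kd xd31 yd32 zd7) (kd xd23 yd54 zd53) (kd xd21 yd1 zd6) (kd xd23 yd40 zd14) (kd xd14 yd42 zd5) (kd xd30 yd10 zd28) (kd xd31 yd32 zd8) (kd xd14 yd42 zd6) (kd xd30 yd39 zd7) (kd xd14 yd42 zd7) (kd xd31 yd32 zd9) (kd xd24 yd50 zd7) (kd xd14 yd42 zd9) (kd xd22 yd21 zd36) (kd xd29 yd18 zd4) (kd xd29 yd17 zd58) (kd xd29 yd13 zd38) (kd xd14 yd42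 zd10) (kd xd31 yd32 zd14) (kd xd23 yd59 zd45) (kd xd29 yd38 zd60) (kd xd28 yd42 zd36) (kd xd31 yd17 zd16) (kd xd20 yd24 zd32) (kd xd23 yd36 zd4) (kd xd26 yd2 zd15) (kd xd24 yd41 zd24) (kd xd14 yd42 zd14) (kd xd30 yd6 zd38) (kd xd14 yd42 zd15) (kd xd19 yd41 zd26) (kd xd14 yd42 zd16) (kd xd30 yd7 zd29) (kd xd23 yd25 zd12) (kd xd31 yd29 zd17) (kd xd31 yd11 zd0) (kd xd31 yd29 zd18) (kd xd24 yd52 zd54) (kd xd20 yd16 zd4) (kd xd24 yd36 zd1) (kd xd15 yd45 zd24) (kd xd22 yd10 zd1) (kd xd26 yd44 zd42) (kd xd14 yd42 zd23) (kd xd31 yd32 zd29) (kd xd15 yd41 zd36) (kd xd21 yd24 zd32) (kd xd25 yd41 zd21) (kd xd31 yd32 zd31) (kd xd14 yd42 zd26) (kd xd22 yd41 zd40) (kd xd16 yd54 zd52) (kd xd31 yd32 zd32) (kd xd30 yd16 zd25) (kd xd14 yd42 zd29) (kd xd24 yd30 zd4) (kd xd14 yd42 zd30)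 (kd xd16 yd5 zd54) (kd xd31 yd32 zd33) (kd xd31 yd29 zd54) (kd xd24 yd14 zd0)) (@D3.rec (fun _ => Pt) (kd xd14 yd52 zd27) (kd xd18 yd25 zd3) (kd xd22 yd33 zd52) (kd xd28 yd20 zd27) (kd xd31 yd32 zd35) (kd xd24 yd8 zd42) (kd xd23 yd56 zd25) (kd xd14 yd42 zd50) (kd xd23 yd56 zd5) (kd xd28 yd2 zd37) (kd xd31 yd32 zd36) (kd xd30 yd34 zd13) (kd xd31 yd12 zd25) (kd xd31 yd32 zd37) (kd xd30 yd33 zd29) (kd xd30 yd42 zd52) (kd xd14 yd42 zd58) (kd xd25 yd18 zd41) (kd xd23 yd52 zd27) (kd xd30 yd32 zd57) (kd xd14 yd42 zd60) (kd xd30 yd32 zd55) (kd xd28 yd26 zd4) (kd xd29 yd24 zd17) (kd xd31 yd32 zd39) (kd xd24 yd9 zd42) (kd xd17 yd30 zd22) (kd xd16 yd10 zd49) (kd xd24 yd44 zd23) (kd xd14 yd43 zd8) (kd xd23 yd10 zd22) (kd xd20 yd50 zd54) (kd xd31 yd17 zd60) (kd xd30 yd33 zd6) (kd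 xd14 yd43 zd15) (kd xd28 yd23 zd1) (kd xd14 yd43 zd16) (kd xd25 yd16 zd0) (kd xd23 yd5 zd55) (kd xd23 yd5 zd54) (kd xd24 yd40 zd34) (kd xd16 yd49 zd12) (kd xd28 yd47 zd51) (kd xd14 yd43 zd21) (kd xd30 yd28 zd45) (kd xd29 yd1 zd28) (kd xd23 yd53 zd34) (kd xd25 yd18 zd39) (kd xd14 yd43 zd24) (kd xd31 yd32 zd42) (kd xd31 yd32 zd43) (kd xd31 yd15 zd59) (kd xd14 yd43 zd25) (kd xd30 yd39 zd15) (kd xd19 yd24 zd3) (kd xd29 yd1 zd11) (kd xd30 yd51 zd32) (kd xd14 yd43 zd27) (kd xd22 yd57 zd50) (kd xd30 yd20 zd31) (kd xd14 yd43 zd28) (kd xd28 yd36 zd40)) (@D3.rec (fun _ => Pt) (kd xd27 yd35 zd61) (kd xd22 yd54 zd13) (kd xd14 yd43 zd30) (kd xd28 yd0 zd49) (kd xd29 yd40 zd8) (kd xd29 yd49 zd59) (kd xd30 yd32 zd5) (kd xd15 yd12 zd56) (kd xd14 yd43 zd32) (kd xd24 yd59 zd23) (kd xd18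 yd48 zd46) (kd xd14 yd43 zd34) (kd xd29 yd21 zd38) (kd xd14 yd43 zd35) (kd xd30 yd4 zd34) (kd xd14 yd43 zd37) (kd xd19 yd3 zd39) (kd xd31 yd32 zd50) (kd xd14 yd43 zd39) (kd xd29 yd10 zd48) (kd xd14 yd43 zd40) (kd xd31 yd32 zd53) (kd xd24 yd8 zd35) (kd xd14 yd43 zd42) (kd xd22 yd57 zd0) (kd xd24 yd7 zd30) (kd xd14 yd43 zd44) (kd xd28 yd41 zd43) (kd xd25 yd49 zd18) (kd xd28 yd41 zd42) (kd xd30 yd22 zd25) (kd xd26 yd16 zd29) (kd xd14 yd43 zd48) (kd xd31 yd32 zd60) (kd xd15 yd11 zd10) (kd xd14 yd43 zd52) (kd xd24 yd6 zd1) (kd xd15 yd56 zd17) (kd xd31 yd33 zd0) (kd xd14 yd43 zd57) (kd xd18 yd21 zd1) (kd xd22 yd40 zd31) (kd xd31 yd33 zd4) (kd xd14 yd43 zd60) (kd xd29 yd45 zd20) (kd xd27 yd6 zd54) (kd xd27 yd6 zd53) (kd xd14 yd43 zd61) (kd xd31 yd33 zd12) (kd xd31 yd33 zd13)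 (kd xd22 yd34 zd52) (kd xd23 yd4 zd0) (kd xd31 yd13 zd46) (kd xd28 yd17 zd37) (kd xd18 yd55 zd58) (kd xd22 yd34 zd59) (kd xd30 yd34 zd11) (kd xd30 yd38 zd61) (kd xd23 yd4 zd18) (kd xd20 yd45 zd12) (kd xd20 yd44 zd52) (kd xd31 yd33 zd21)) (@D3.rec (fun _ => Pt) (kd xd14 yd44 zd8) (kd xd22 yd32 zd56) (kd xd30 yd22 zd45) (kd xd14 yd44 zd9) (kd xd24 yd27 zd56) (kd xd30 yd15 zd52) (kd xd24 yd9 zd52) (kd xd14 yd44 zd11) (kd xd30 yd22 zd55) (kd xd20 yd17 zd34) (kd xd21 yd40 zd21) (kd xd22 yd34 zd21) (kd xd24 yd6 zd16) (kd xd29 yd25 zd43) (kd xd29 yd33 zd13) (kd xd31 yd15 zd58) (kd xd30 yd15 zd10) (kd xd23 yd4 zd33) (kd xd20 yd31 zd53) (kd xd28 yd48 zd49) (kd xd27 yd5 zd7) (kd xd24 yd9 zd1) (kd xd14 yd44 zd17) (kd xd31 yd33 zd37) (kd xd31 yd16 zd24) (kd xd23 yd57 zd4) (kd xd24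 yd3 zd0) (kd xd28 yd25 zd25) (kd xd31 yd33 zd40) (kd xd29 yd55 zd13) (kd xd14 yd44 zd26) (kd xd30 yd28 zd34) (kd xd30 yd23 zd2) (kd xd29 yd38 zd33) (kd xd28 yd50 zd57) (kd xd26 yd42 zd52) (kd xd14 yd44 zd29) (kd xd28 yd50 zd22) (kd xd14 yd44 zd30) (kd xd28 yd13 zd37) (kd xd14 yd44 zd31) (kd xd26 yd8 zd37) (kd xd30 yd56 zd59) (kd xd30 yd6 zd45) (kd xd30 yd51 zd53) (kd xd30 yd47 zd46) (kd xd24 yd43 zd59) (kd xd27 yd57 zd33) (kd xd31 yd33 zd43) (kd xd30 yd42 zd11) (kd xd23 yd27 zd16) (kd xd14 yd44 zd38) (kd xd23 yd33 zd0) (kd xd23 yd18 zd32) (kd xd26 yd10 zd15) (kd xd31 yd16 zd61) (kd xd21 yd29 zd7) (kd xd30 yd33 zd35) (kd xd14 yd44 zd49) (kd xd31 yd6 zd37) (kd xd20 yd13 zd31) (kd xd20 yd13 zd32)) (@D3.rec (fun _ => Pt) (kd xd21 yd29 zd6) (kd xd29 yd19 zd11) (kd xd14 yd44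 zd52) (kd xd23 yd21 zd37) (kd xd14 yd44 zd53) (kd xd14 yd59 zd38) (kd xd22 yd5 zd50) (kd xd31 yd15 zd35) (kd xd14 yd44 zd57) (kd xd31 yd33 zd48) (kd xd23 yd8 zd7) (kd xd22 yd42 zd9) (kd xd18 yd23 zd53) (kd xd14 yd45 zd0) (kd xd29 yd29 zd7) (kd xd29 yd18 zd58) (kd xd23 yd8 zd10) (kd xd14 yd45 zd2) (kd xd22 yd29 zd32) (kd xd14 yd45 zd3) (kd xd31 yd33 zd52) (kd xd21 yd25 zd7) (kd xd21 yd33 zd54) (kd xd14 yd45 zd12) (kd xd22 yd48 zd13) (kd xd21 yd38 zd4) (kd xd19 yd52 zd58) (kd xd14 yd45 zd20) (kd xd26 yd11 zd57) (kd xd20 yd30 zd47) (kd xd19 yd50 zd0) (kd xd23 yd17 zd27) (kd xd23 yd17 zd28) (kd xd30 yd59 zd28) (kd xd31 yd33 zd58) (kd xd31 yd33 zd61) (kd xd27 yd27 zd13) (kd xd14 yd45 zd21) (kd xd26 yd11 zd56) (kd xd31 yd34 zd2) (kd xd31 yd34 zd3) (kd xd22 yd52 zd51) (kd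 xd28 yd42 zd51) (kd xd30 yd58 zd52) (kd xd28 yd18 zd13) (kd xd26 yd0 zd16) (kd xd30 yd58 zd53) (kd xd31 yd34 zd6) (kd xd26 yd48 zd0) (kd xd24 yd24 zd19) (kd xd19 yd28 zd50) (kd xd30 yd47 zd33) (kd xd28 yd53 zd34) (kd xd14 yd45 zd40) (kd xd31 yd34 zd7) (kd xd23 yd37 zd28) (kd xd14 yd45 zd42) (kd xd31 yd8 zd35) (kd xd31 yd34 zd10) (kd xd30 yd40 zd14) (kd xd21 yd55 zd7) (kd xd31 yd34 zd11)) (@D3.rec (fun _ => Pt) (kd xd21 yd8 zd23) (kd xd31 yd34 zd12) (kd xd23 yd24 zd57) (kd xd29 yd34 zd31) (kd xd14 yd45 zd47) (kd xd18 yd26 zd12) (kd xd14 yd45 zd51) (kd xd24 yd35 zd31) (kd xd17 yd23 zd54) (kd xd31 yd11 zd2) (kd xd23 yd30 zd7) (kd xd30 yd40 zd39) (kd xd31 yd34 zd13) (kd xd24 yd42 zd50) (kd xd24 yd41 zd28) (kd xd14 yd54 zd50) (kd xd29 yd6 zd3) (kd xd17 yd23 zd46) (kd xd31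 yd9 zd8) (kd xd20 yd48 zd3) (kd xd14 yd46 zd5) (kd xd29 yd15 zd21) (kd xd14 yd46 zd8) (kd xd14 yd46 zd9) (kd xd14 yd46 zd11) (kd xd31 yd12 zd57) (kd xd15 yd25 zd6) (kd xd26 yd1 zd33) (kd xd15 yd25 zd7) (kd xd30 yd40 zd24) (kd xd26 yd34 zd46) (kd xd27 yd31 zd34) (kd xd24 yd41 zd60) (kd xd24 yd42 zd1) (kd xd29 yd49 zd47) (kd xd19 yd56 zd31) (kd xd29 yd55 zd14) (kd xd21 yd55 zd3) (kd xd26 yd12 zd25) (kd xd21 yd36 zd61) (kd xd21 yd51 zd52) (kd xd23 yd39 zd51) (kd xd26 yd47 zd35) (kd xd29 yd10 zd31) (kd xd20 yd9 zd2) (kd xd17 yd56 zd10) (kd xd14 yd46 zd37) (kd xd21 yd35 zd23) (kd xd31 yd8 zd6) (kd xd17 yd3 zd15) (kd xd14 yd46 zd41) (kd xd29 yd2 zd48) (kd xd23 yd42 zd40) (kd xd22 yd31 zd52) (kd xd14 yd56 zd3) (kd xd17 yd59 zd43) (kd xd27 yd55 zd40) (kd xd18 yd10 zd5) (kd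 xd22 yd46 zd2) (kd xd22 yd46 zd1) (kd xd31 yd8 zd8) (kd xd31 yd34 zd19)) (@D3.rec (fun _ => Pt) (kd xd28 yd10 zd19) (kd xd19 yd5 zd47) (kd xd19 yd58 zd35) (kd xd30 yd41 zd38) (kd xd18 yd26 zd11) (kd xd17 yd4 zd14) (kd xd17 yd56 zd5) (kd xd17 yd55 zd58) (kd xd30 yd7 zd40) (kd xd29 yd12 zd14) (kd xd28 yd25 zd14) (kd xd14 yd46 zd58) (kd xd28 yd25 zd13) (kd xd17 yd48 zd30) (kd xd20 yd15 zd11) (kd xd14 yd46 zd60) (kd xd30 yd12 zd37) (kd xd31 yd34 zd21) (kd xd19 yd56 zd19) (kd xd31 yd21 zd27) (kd xd31 yd34 zd22) (kd xd30 yd40 zd23) (kd xd31 yd34 zd24) (kd xd31 yd34 zd26) (kd xd14 yd47 zd5) (kd xd31 yd34 zd30) (kd xd22 yd44 zd19) (kd xd23 yd40 zd17) (kd xd22 yd44 zd24) (kd xd27 yd41 zd5) (kd xd24 yd50 zd0) (kd xd26 yd45 zd50) (kd xd31 yd11 zd37) (kd xd14 yd47 zd14) (kd xd14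 yd47 zd15) (kd xd25 yd49 zd33) (kd xd25 yd54 zd42) (kd xd31 yd5 zd23) (kd xd30 yd53 zd22) (kd xd23 yd41 zd54) (kd xd31 yd34 zd33) (kd xd31 yd17 zd24) (kd xd14 yd47 zd22) (kd xd25 yd54 zd54) (kd xd31 yd34 zd34) (kd xd31 yd5 zd5) (kd xd14 yd47 zd23) (kd xd31 yd34 zd36) (kd xd26 yd22 zd38) (kd xd17 yd49 zd37) (kd xd20 yd57 zd47) (kd xd23 yd29 zd1) (kd xd29 yd22 zd23) (kd xd14 yd47 zd28) (kd xd17 yd23 zd50) (kd xd30 yd51 zd45) (kd xd14 yd47 zd29) (kd xd14 yd56 zd4) (kd xd21 yd54 zd45) (kd xd18 yd0 zd43) (kd xd28 yd36 zd50) (kd xd14 yd47 zd32)) (@D3.rec (fun _ => Pt) (kd xd31 yd22 zd3) (kd xd24 yd43 zd27) (kd xd31 yd34 zd27) (kd xd29 yd27 zd19) (kd xd14 yd47 zd34) (kd xd30 yd14 zd42) (kd xd21 yd55 zd58) (kd xd21 yd20 zd7) (kd xd21 yd42 zd45) (kd xd30 yd7 zd4) (kd xd14 yd47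 zd39) (kd xd14 yd47 zd40) (kd xd15 yd41 zd27) (kd xd14 yd47 zd43) (kd xd16 yd33 zd29) (kd xd16 yd9 zd0) (kd xd14 yd47 zd46) (kd xd18 yd38 zd10) (kd xd30 yd40 zd38) (kd xd31 yd11 zd44) (kd xd20 yd20 zd42) (kd xd21 yd46 zd29) (kd xd14 yd47 zd57) (kd xd14 yd47 zd58) (kd xd31 yd5 zd32) (kd xd26 yd8 zd36) (kd xd23 yd44 zd54) (kd xd23 yd33 zd14) (kd xd23 yd26 zd37) (kd xd23 yd36 zd20) (kd xd28 yd11 zd38) (kd xd19 yd30 zd57) (kd xd27 yd53 zd7) (kd xd27 yd43 zd16) (kd xd17 yd31 zd19) (kd xd28 yd34 zd16) (kd xd26 yd28 zd12) (kd xd24 yd37 zd11) (kd xd31 yd34 zd46) (kd xd20 yd41 zd14) (kd xd17 yd31 zd12) (kd xd29 yd22 zd50) (kd xd24 yd37 zd49) (kd xd31 yd12 zd54) (kd xd31 yd12 zd48) (kd xd14 yd48 zd32) (kd xd23 yd27 zd7) (kd xd25 yd24 zd12) (kd xd17 yd23 zd45) (kd xd20 yd14 zd39)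 (kd xd14 yd48 zd38) (kd xd29 yd10 zd21) (kd xd26 yd48 zd29) (kd xd14 yd48 zd41) (kd xd20 yd48 zd4) (kd xd29 yd59 zd11) (kd xd21 yd50 zd33) (kd xd30 yd9 zd49) (kd xd14 yd48 zd45) (kd xd31 yd34 zd52) (kd xd28 yd21 zd2) (kd xd23 yd55 zd58)) (@D3.rec (fun _ => Pt) (kd xd27 yd11 zd33) (kd xd20 yd8 zd27) (kd xd28 yd43 zd12) (kd xd22 yd42 zd49) (kd xd14 yd48 zd51) (kd xd23 yd37 zd11) (kd xd20 yd23 zd60) (kd xd14 yd48 zd57) (kd xd31 yd34 zd56) (kd xd23 yd25 zd1) (kd xd14 yd48 zd60) (kd xd31 yd3 zd1) (kd xd29 yd34 zd12) (kd xd30 yd41 zd28) (kd xd31 yd34 zd59) (kd xd24 yd41 zd9) (kd xd29 yd33 zd57) (kd xd31 yd34 zd61) (kd xd31 yd35 zd2) (kd xd14 yd49 zd3) (kd xd28 yd40 zd11) (kd xd24 yd21 zd0) (kd xd19 yd26 zd61) (kd xd17 yd55 zd59) (kd xd17 yd32 zd14) (kd xd31 yd35 zd5) (kd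 xd29 yd16 zd46) (kd xd31 yd35 zd6) (kd xd28 yd48 zd24) (kd xd14 yd49 zd13) (kd xd29 yd37 zd31) (kd xd24 yd32 zd7) (kd xd29 yd58 zd44) (kd xd23 yd42 zd0) (kd xd22 yd43 zd34) (kd xd27 yd4 zd9) (kd xd27 yd4 zd11) (kd xd31 yd20 zd54) (kd xd22 yd10 zd56) (kd xd14 yd52 zd13) (kd xd17 yd28 zd31) (kd xd29 yd59 zd60) (kd xd27 yd43 zd44) (kd xd25 yd0 zd0) (kd xd23 yd45 zd7) (kd xd22 yd45 zd31) (kd xd31 yd35 zd16) (kd xd29 yd58 zd23) (kd xd24 yd42 zd39) (kd xd20 yd37 zd19) (kd xd23 yd1 zd19) (kd xd28 yd35 zd36) (kd xd29 yd23 zd47) (kd xd31 yd21 zd38) (kd xd30 yd40 zd4) (kd xd22 yd43 zd54) (kd xd28 yd58 zd14) (kd xd19 yd47 zd56) (kd xd26 yd41 zd47) (kd xd31 yd35 zd19) (kd xd29 yd41 zd30) (kd xd14 yd49 zd39)) (@D3.rec (fun _ => Pt) (kd xd21 yd51 zd51) (kd xd24 yd27 zd40) (kd xd29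 yd57 zd56) (kd xd29 yd57 zd55) (kd xd30 yd41 zd49) (kd xd14 yd49 zd47) (kd xd27 yd47 zd18) (kd xd23 yd44 zd7) (kd xd31 yd35 zd22) (kd xd26 yd19 zd5) (kd xd24 yd18 zd25) (kd xd14 yd55 zd46) (kd xd21 yd51 zd55) (kd xd27 yd40 zd58) (kd xd29 yd22 zd30) (kd xd24 yd42 zd21) (kd xd24 yd41 zd51) (kd xd15 yd5 zd2) (kd xd28 yd49 zd39) (kd xd24 yd52 zd57) (kd xd20 yd34 zd5) (kd xd14 yd50 zd5) (kd xd16 yd44 zd59) (kd xd16 yd47 zd9) (kd xd17 yd54 zd49) (kd xd31 yd35 zd27) (kd xd19 yd25 zd48) (kd xd31 yd35 zd29) (kd xd14 yd50 zd9) (kd xd19 yd40 zd9) (kd xd29 yd36 zd24) (kd xd21 yd37 zd53) (kd xd31 yd35 zd32) (kd xd31 yd35 zd33) (kd xd14 yd50 zd14) (kd xd31 yd35 zd10) (kd xd20 yd2 zd3) (kd xd18 yd24 zd5) (kd xd31 yd35 zd34) (kd xd17 yd55 zd55) (kd xd31 yd35 zd38) (kd xd29 yd37 zd23)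 (kd xd20 yd54 zd38) (kd xd29 yd49 zd24) (kd xd26 yd23 zd58) (kd xd19 yd16 zd53) (kd xd20 yd54 zd37) (kd xd20 yd4 zd38) (kd xd19 yd27 zd0) (kd xd14 yd50 zd33) (kd xd14 yd50 zd34) (kd xd14 yd50 zd35) (kd xd14 yd50 zd40) (kd xd31 yd4 zd7) (kd xd22 yd44 zd42) (kd xd14 yd50 zd42) (kd xd28 yd57 zd8) (kd xd14 yd50 zd43) (kd xd31 yd35 zd42) (kd xd31 yd35 zd43) (kd xd14 yd50 zd44) (kd xd31 yd35 zd44)) (@D3.rec (fun _ => Pt) (kd xd24 yd8 zd44) (kd xd30 yd46 zd17) (kd xd25 yd50 zd41) (kd xd20 yd4 zd42) (kd xd14 yd50 zd47) (kd xd31 yd35 zd47) (kd xd29 yd33 zd56) (kd xd23 yd28 zd43) (kd xd29 yd11 zd61) (kd xd31 yd11 zd11) (kd xd23 yd28 zd48) (kd xd24 yd34 zd37) (kd xd31 yd35 zd55) (kd xd24 yd39 zd31) (kd xd14 yd50 zd54) (kd xd23 yd43 zd7) (kd xd14 yd50 zd55) (kd xd27 yd48 zd39)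 (kd xd14 yd50 zd56) (kd xd31 yd34 zd18) (kd xd23 yd29 zd54) (kd xd23 yd41 zd55) (kd xd31 yd35 zd61) (kd xd31 yd36 zd1) (kd xd14 yd51 zd3) (kd xd29 yd41 zd47) (kd xd14 yd51 zd4) (kd xd20 yd16 zd25) (kd xd31 yd5 zd8) (kd xd17 yd25 zd15) (kd xd22 yd23 zd1) (kd xd25 yd33 zd4) (kd xd21 yd43 zd57) (kd xd31 yd26 zd49) (kd xd31 yd26 zd22) (kd xd23 yd30 zd36) (kd xd28 yd57 zd12) (kd xd14 yd51 zd18) (kd xd18 yd2 zd4) (kd xd29 yd56 zd17) (kd xd26 yd12 zd33) (kd xd14 yd51 zd23) (kd xd29 yd6 zd16) (kd xd25 yd55 zd42) (kd xd14 yd51 zd24) (kd xd23 yd24 zd32) (kd xd25 yd13 zd35) (kd xd14 yd51 zd25) (kd xd23 yd38 zd15) (kd xd24 yd34 zd42) (kd xd17 yd4 zd12) (kd xd22 yd20 zd54) (kd xd15 yd38 zd6) (kd xd23 yd58 zd52) (kd xd24 yd20 zd7) (kd xd21 yd59 zd53) (kd xd19 yd54 zd24) (kd xd30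 yd52 zd45) (kd xd23 yd33 zd15) (kd xd24 yd40 zd54) (kd xd23 yd28 zd18) (kd xd22 yd20 zd42)) (@D3.rec (fun _ => Pt) (kd xd31 yd36 zd16) (kd xd31 yd36 zd18) (kd xd31 yd9 zd35) (kd xd23 yd28 zd25) (kd xd22 yd20 zd40) (kd xd26 yd44 zd46) (kd xd15 yd44 zd27) (kd xd15 yd44 zd26) (kd xd16 yd28 zd40) (kd xd21 yd45 zd52) (kd xd16 yd1 zd18) (kd xd31 yd36 zd22) (kd xd14 yd51 zd43) (kd xd14 yd51 zd44) (kd xd27 yd44 zd30) (kd xd23 yd27 zd4) (kd xd24 yd9 zd57) (kd xd21 yd34 zd26) (kd xd29 yd51 zd17) (kd xd14 yd51 zd49) (kd xd31 yd36 zd26) (kd xd28 yd21 zd50) (kd xd14 yd51 zd53) (kd xd31 yd36 zd28) (kd xd29 yd42 zd0) (kd xd14 yd51 zd54) (kd xd21 yd34 zd33) (kd xd31 yd3 zd16) (kd xd29 yd42 zd1) (kd xd31 yd36 zd34) (kd xd25 yd49 zd12) (kd xd14 yd51 zd57) (kd xd24 yd6 zd27) (kd xd22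 yd20 zd13) (kd xd22 yd20 zd16) (kd xd22 yd38 zd32) (kd xd21 yd3 zd23) (kd xd22 yd12 zd35) (kd xd29 yd35 zd20) (kd xd24 yd1 zd22) (kd xd19 yd2 zd55) (kd xd28 yd12 zd60) (kd xd30 yd43 zd8) (kd xd22 yd22 zd45) (kd xd17 yd3 zd46) (kd xd24 yd0 zd29) (kd xd21 yd39 zd20) (kd xd21 yd39 zd21) (kd xd18 yd47 zd18) (kd xd25 yd55 zd47) (kd xd14 yd52 zd15) (kd xd27 yd12 zd29) (kd xd15 yd36 zd14) (kd xd25 yd55 zd48) (kd xd14 yd52 zd16) (kd xd20 yd43 zd9) (kd xd27 yd16 zd20) (kd xd31 yd25 zd34) (kd xd29 yd35 zd25) (kd xd31 yd30 zd42) (kd xd22 yd48 zd25) (kd xd27 yd15 zd49)) (@D3.rec (fun _ => Pt) (kd xd22 yd48 zd33) (kd xd31 yd36 zd41) (kd xd29 yd6 zd46) (kd xd29 yd7 zd11) (kd xd14 yd52 zd24) (kd xd17 yd25 zd1) (kd xd30 yd11 zd48) (kd xd19 yd59 zd50) (kd xd20 yd49 zd35) (kd xd23 yd28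 zd35) (kd xd14 yd52 zd31) (kd xd20 yd34 zd53) (kd xd29 yd9 zd12) (kd xd14 yd52 zd37) (kd xd22 yd18 zd49) (kd xd21 yd23 zd12) (kd xd30 yd24 zd56) (kd xd29 yd2 zd31) (kd xd22 yd18 zd53) (kd xd23 yd46 zd54) (kd xd31 yd36 zd45) (kd xd19 yd16 zd20) (kd xd31 yd10 zd7) (kd xd27 yd41 zd56) (kd xd30 yd21 zd5) (kd xd17 yd2 zd61) (kd xd17 yd26 zd53) (kd xd14 yd52 zd49) (kd xd28 yd48 zd26) (kd xd14 yd52 zd51) (kd xd28 yd48 zd25) (kd xd24 yd37 zd13) (kd xd22 yd17 zd22) (kd xd29 yd39 zd61) (kd xd22 yd26 zd42) (kd xd28 yd17 zd59) (kd xd23 yd23 zd55) (kd xd31 yd8 zd34) (kd xd22 yd26 zd16) (kd xd23 yd28 zd27) (kd xd23 yd9 zd36) (kd xd29 yd40 zd41) (kd xd23 yd33 zd33) (kd xd23 yd28 zd8) (kd xd29 yd56 zd38) (kd xd31 yd36 zd50) (kd xd23 yd33 zd38) (kd xd27 yd21 zd5) (kd xd29 yd39 zd2)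 (kd xd21 yd22 zd45) (kd xd14 yd53 zd11) (kd xd16 yd26 zd14) (kd xd29 yd17 zd50) (kd xd30 yd20 zd60) (kd xd26 yd51 zd10) (kd xd26 yd51 zd11) (kd xd31 yd36 zd53) (kd xd24 yd52 zd1) (kd xd14 yd53 zd15) (kd xd27 yd18 zd34) (kd xd27 yd18 zd24) (kd xd14 yd53 zd17)) (@D3.rec (fun _ => Pt) (kd xd31 yd1 zd59) (kd xd14 yd53 zd19) (kd xd31 yd37 zd0) (kd xd23 yd33 zd26) (kd xd23 yd33 zd47) (kd xd23 yd33 zd29) (kd xd30 yd32 zd15) (kd xd14 yd53 zd23) (kd xd31 yd37 zd3) (kd xd17 yd59 zd5) (kd xd31 yd37 zd4) (kd xd31 yd37 zd5) (kd xd14 yd53 zd26) (kd xd29 yd11 zd22) (kd xd25 yd58 zd60) (kd xd14 yd53 zd27) (kd xd21 yd55 zd46) (kd xd31 yd37 zd11) (kd xd25 yd58 zd48) (kd xd14 yd53 zd28) (kd xd31 yd5 zd56) (kd xd20 yd32 zd39) (kd xd23 yd17 zd2) (kd xd23 yd14 zd10) (kd xd21 yd14 zd23) (kd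 xd29 yd1 zd47) (kd xd25 yd58 zd26) (kd xd23 yd5 zd10) (kd xd30 yd32 zd30) (kd xd19 yd41 zd9) (kd xd31 yd37 zd13) (kd xd23 yd48 zd5) (kd xd22 yd46 zd32) (kd xd21 yd54 zd52) (kd xd24 yd28 zd40) (kd xd22 yd41 zd51) (kd xd28 yd31 zd29) (kd xd14 yd53 zd46) (kd xd27 yd15 zd6) (kd xd20 yd32 zd38) (kd xd23 yd6 zd57) (kd xd24 yd21 zd37) (kd xd28 yd38 zd40) (kd xd22 yd36 zd23) (kd xd22 yd43 zd56) (kd xd31 yd14 zd25) (kd xd23 yd21 zd22) (kd xd23 yd26 zd13) (kd xd26 yd16 zd38) (kd xd23 yd26 zd14) (kd xd30 yd45 zd59) (kd xd22 yd30 zd18) (kd xd23 yd38 zd29) (kd xd30 yd41 zd9) (kd xd24 yd37 zd59) (kd xd28 yd3 zd28) (kd xd18 yd3 zd35) (kd xd14 yd53 zd60) (kd xd23 yd22 zd35) (kd xd21 yd46 zd51) (kd xd21 yd46 zd50) (kd xd31 yd1 zd33)) (@D3.rec (fun _ => Pt) (kd xd29 yd49 zd49) (kd xd23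 yd40 zd34) (kd xd25 yd15 zd30) (kd xd14 yd54 zd1) (kd xd29 yd17 zd10) (kd xd28 yd11 zd29) (kd xd24 yd56 zd49) (kd xd14 yd54 zd5) (kd xd22 yd37 zd59) (kd xd24 yd35 zd15) (kd xd31 yd3 zd0) (kd xd14 yd54 zd10) (kd xd31 yd37 zd23) (kd xd23 yd31 zd30) (kd xd29 yd18 zd0) (kd xd23 yd27 zd15) (kd xd21 yd36 zd56) (kd xd24 yd17 zd29) (kd xd28 yd58 zd51) (kd xd31 yd8 zd13) (kd xd14 yd54 zd17) (kd xd21 yd19 zd29) (kd xd21 yd19 zd30) (kd xd23 yd42 zd5) (kd xd24 yd27 zd27) (kd xd18 yd40 zd4) (kd xd14 yd54 zd20) (kd xd30 yd8 zd25) (kd xd24 yd32 zd14) (kd xd15 yd13 zd37) (kd xd18 yd15 zd20) (kd xd23 yd25 zd26) (kd xd19 yd56 zd43) (kd xd23 yd49 zd54) (kd xd15 yd22 zd55) (kd xd23 yd50 zd4) (kd xd30 yd9 zd12) (kd xd15 yd22 zd52) (kd xd29 yd31 zd50) (kd xd25 yd17 zd9) (kd xd26 yd6 zd47)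 (kd xd24 yd42 zd23) (kd xd19 yd37 zd6) (kd xd31 yd36 zd55) (kd xd31 yd37 zd28) (kd xd14 yd54 zd37) (kd xd31 yd37 zd30) (kd xd23 yd42 zd4) (kd xd29 yd57 zd57) (kd xd30 yd10 zd53) (kd xd14 yd54 zd41) (kd xd24 yd36 zd16) (kd xd25 yd15 zd15) (kd xd16 yd9 zd40) (kd xd14 yd54 zd45) (kd xd24 yd22 zd17) (kd xd31 yd37 zd33) (kd xd25 yd15 zd16) (kd xd30 yd40 zd30) (kd xd26 yd6 zd39) (kd xd24 yd32 zd32) (kd xd14 yd54 zd48)) (@D3.rec (fun _ => Pt) (kd xd31 yd37 zd34) (kd xd24 yd32 zd33) (kd xd14 yd54 zd49) (kd xd31 yd5 zd34) (kd xd23 yd40 zd32) (kd xd28 yd12 zd0) (kd xd30 yd40 zd46) (kd xd25 yd42 zd60) (kd xd31 yd24 zd18) (kd xd25 yd40 zd61) (kd xd14 yd54 zd55) (kd xd17 yd16 zd15) (kd xd21 yd33 zd1) (kd xd19 yd2 zd28) (kd xd23 yd27 zd14) (kd xd30 yd41 zd0) (kd xd29 yd23 zd20) (kd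 xd22 yd43 zd25) (kd xd19 yd56 zd3) (kd xd18 yd40 zd24) (kd xd28 yd31 zd24) (kd xd24 yd36 zd15) (kd xd14 yd54 zd61) (kd xd24 yd41 zd41) (kd xd29 yd19 zd37) (kd xd29 yd55 zd20) (kd xd14 yd55 zd5) (kd xd23 yd31 zd7) (kd xd22 yd45 zd49) (kd xd22 yd45 zd52) (kd xd30 yd36 zd1) (kd xd26 yd0 zd58) (kd xd15 yd43 zd0) (kd xd19 yd55 zd40) (kd xd23 yd40 zd22) (kd xd21 yd29 zd12) (kd xd23 yd8 zd36) (kd xd31 yd37 zd50) (kd xd25 yd14 zd58) (kd xd24 yd35 zd48) (kd xd22 yd28 zd0) (kd xd30 yd16 zd43) (kd xd30 yd50 zd7) (kd xd31 yd30 zd55) (kd xd23 yd27 zd33) (kd xd15 yd31 zd23) (kd xd23 yd9 zd35) (kd xd29 yd40 zd61) (kd xd14 yd55 zd25) (kd xd31 yd37 zd55) (kd xd24 yd32 zd13) (kd xd14 yd55 zd27) (kd xd31 yd36 zd8) (kd xd25 yd2 zd33) (kd xd14 yd55 zd31) (kd xd14 yd55 zd32) (kd xd17 yd29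 zd22) (kd xd20 yd19 zd34) (kd xd28 yd49 zd30) (kd xd22 yd5 zd26) (kd xd15 yd53 zd35) (kd xd14 yd55 zd36)) (@D3.rec (fun _ => Pt) (kd xd15 yd53 zd34) (kd xd23 yd31 zd19) (kd xd27 yd45 zd24) (kd xd29 yd9 zd52) (kd xd18 yd6 zd5) (kd xd19 yd16 zd40) (kd xd23 yd29 zd51) (kd xd18 yd8 zd34) (kd xd23 yd29 zd53) (kd xd16 yd16 zd24) (kd xd14 yd55 zd45) (kd xd31 yd37 zd19) (kd xd21 yd18 zd58) (kd xd28 yd31 zd25) (kd xd19 yd16 zd38) (kd xd19 yd54 zd45) (kd xd30 yd42 zd1) (kd xd23 yd29 zd36) (kd xd24 yd44 zd60) (kd xd14 yd55 zd48) (kd xd26 yd14 zd33) (kd xd14 yd55 zd49) (kd xd16 yd10 zd47) (kd xd22 yd3 zd8) (kd xd31 yd37 zd59) (kd xd27 yd57 zd27) (kd xd28 yd48 zd27) (kd xd24 yd34 zd1) (kd xd29 yd17 zd15) (kd xd30 yd16 zd50) (kd xd14 yd55 zd61) (kd xd21 yd50 zd3) (kd xd27 yd39 zd11)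 (kd xd30 yd41 zd48) (kd xd22 yd8 zd6) (kd xd26 yd12 zd24) (kd xd23 yd44 zd10) (kd xd23 yd29 zd35) (kd xd29 yd10 zd28) (kd xd31 yd8 zd32) (kd xd14 yd56 zd13) (kd xd31 yd38 zd0) (kd xd14 yd56 zd14) (kd xd31 yd10 zd2) (kd xd14 yd56 zd15) (kd xd27 yd5 zd53) (kd xd19 yd0 zd28) (kd xd29 yd48 zd60) (kd xd29 yd48 zd53) (kd xd27 yd22 zd18) (kd xd14 yd56 zd18) (kd xd31 yd6 zd7) (kd xd17 yd36 zd12) (kd xd21 yd6 zd26) (kd xd23 yd1 zd49) (kd xd29 yd12 zd21) (kd xd24 yd52 zd24) (kd xd14 yd56 zd24) (kd xd25 yd2 zd35) (kd xd24 yd30 zd46) (kd xd14 yd56 zd28) (kd xd23 yd2 zd0)) (@D3.rec (fun _ => Pt) (kd xd27 yd46 zd44) (kd xd14 yd56 zd29) (kd xd31 yd6 zd16) (kd xd27 yd53 zd49) (kd xd23 yd25 zd41) (kd xd23 yd25 zd42) (kd xd18 yd28 zd38) (kd xd16 yd17 zd29) (kd xd14 yd56 zd45) (kd xd23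 yd36 zd34) (kd xd18 yd8 zd5) (kd xd21 yd4 zd28) (kd xd16 yd15 zd45) (kd xd30 yd1 zd13) (kd xd30 yd1 zd18) (kd xd28 yd57 zd57) (kd xd31 yd38 zd9) (kd xd27 yd29 zd11) (kd xd14 yd56 zd51) (kd xd24 yd0 zd47) (kd xd27 yd12 zd31) (kd xd14 yd56 zd53) (kd xd24 yd25 zd55) (kd xd24 yd28 zd28) (kd xd24 yd57 zd27) (kd xd15 yd55 zd55) (kd xd16 yd24 zd19) (kd xd15 yd43 zd61) (kd xd17 yd37 zd26) (kd xd16 yd25 zd46) (kd xd14 yd56 zd60) (kd xd17 yd37 zd25) (kd xd23 yd34 zd40) (kd xd14 yd56 zd61) (kd xd14 yd57 zd60) (kd xd18 yd27 zd26) (kd xd18 yd27 zd27) (kd xd14 yd58 zd2) (kd xd16 yd13 zd42) (kd xd26 yd14 zd45) (kd xd27 yd2 zd31) (kd xd29 yd50 zd35) (kd xd18 yd29 zd30) (kd xd18 yd28 zd45) (kd xd26 yd16 zd36) (kd xd23 yd37 zd61) (kd xd29 yd23 zd48) (kd xd29 yd41 zd33) (kd xd18 yd8 zd16)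 (kd xd28 yd1 zd54) (kd xd18 yd6 zd9) (kd xd24 yd55 zd61) (kd xd14 yd57 zd20) (kd xd28 yd1 zd55) (kd xd17 yd39 zd33) (kd xd16 yd16 zd59) (kd xd31 yd38 zd17) (kd xd14 yd57 zd22) (kd xd31 yd38 zd19) (kd xd14 yd57 zd24) (kd xd24 yd43 zd18) (kd xd31 yd38 zd20)) (@D3.rec (fun _ => Pt) (kd xd14 yd57 zd28) (kd xd27 yd24 zd52) (kd xd16 yd20 zd10) (kd xd20 yd4 zd17) (kd xd15 yd18 zd59) (kd xd14 yd57 zd42) (kd xd23 yd44 zd40) (kd xd19 yd14 zd57) (kd xd28 yd3 zd30) (kd xd27 yd26 zd13) (kd xd27 yd26 zd14) (kd xd14 yd57 zd44) (kd xd18 yd4 zd26) (kd xd25 yd10 zd59) (kd xd24 yd58 zd15) (kd xd31 yd38 zd23) (kd xd31 yd38 zd24) (kd xd27 yd28 zd9) (kd xd18 yd2 zd54) (kd xd25 yd10 zd53) (kd xd16 yd50 zd49) (kd xd31 yd1 zd35) (kd xd18 yd18 zd12) (kd xd31 yd38 zd25) (kd xd14 yd57 zd52) (kd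 xd31 yd38 zd26) (kd xd18 yd26 zd57) (kd xd24 yd56 zd13) (kd xd14 yd57 zd55) (kd xd27 yd26 zd53) (kd xd27 yd25 zd35) (kd xd27 yd39 zd27) (kd xd25 yd0 zd27) (kd xd18 yd3 zd51) (kd xd14 yd57 zd61) (kd xd27 yd27 zd50) (kd xd14 yd58 zd0) (kd xd27 yd28 zd11) (kd xd14 yd58 zd1) (kd xd26 yd18 zd19) (kd xd17 yd41 zd50) (kd xd17 yd41 zd44) (kd xd26 yd12 zd14) (kd xd14 yd58 zd4) (kd xd17 yd44 zd51) (kd xd17 yd44 zd52) (kd xd17 yd46 zd56) (kd xd25 yd39 zd0) (kd xd26 yd15 zd30) (kd xd21 yd22 zd52) (kd xd27 yd20 zd24) (kd xd14 yd58 zd24) (kd xd16 yd20 zd53) (kd xd31 yd0 zd16) (kd xd14 yd58 zd25) (kd xd31 yd6 zd9) (kd xd31 yd38 zd41) (kd xd14 yd58 zd27) (kd xd16 yd19 zd53) (kd xd15 yd10 zd20) (kd xd27 yd33 zd42) (kd xd31 yd38 zd45)) (@D3.rec (fun _ => Pt) (kd xd27 yd15 zd28) (kd xd15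 yd12 zd57) (kd xd26 yd21 zd18) (kd xd24 yd46 zd34) (kd xd19 yd15 zd51) (kd xd19 yd41 zd32) (kd xd19 yd41 zd31) (kd xd14 yd58 zd42) (kd xd26 yd49 zd39) (kd xd19 yd43 zd48) (kd xd31 yd38 zd49) (kd xd31 yd38 zd51) (kd xd26 yd29 zd8) (kd xd22 yd58 zd55) (kd xd14 yd58 zd51) (kd xd23 yd51 zd11) (kd xd15 yd4 zd1) (kd xd31 yd38 zd54) (kd xd14 yd58 zd54) (kd xd24 yd21 zd20) (kd xd14 yd58 zd53) (kd xd31 yd33 zd16) (kd xd19 yd29 zd48) (kd xd31 yd38 zd57) (kd xd31 yd38 zd58) (kd xd26 yd28 zd45) (kd xd30 yd47 zd20) (kd xd19 yd17 zd5) (kd xd22 yd47 zd43) (kd xd29 yd34 zd43) (kd xd22 yd54 zd26) (kd xd22 yd52 zd38) (kd xd14 yd59 zd0) (kd xd29 yd14 zd32) (kd xd24 yd46 zd3) (kd xd14 yd59 zd2) (kd xd31 yd38 zd60) (kd xd26 yd25 zd11) (kd xd21 yd2 zd45) (kd xd25 yd10 zd3) (kd xd23 yd51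 zd25) (kd xd14 yd59 zd11) (kd xd31 yd32 zd58) (kd xd25 yd1 zd8) (kd xd14 yd59 zd12) (kd xd16 yd15 zd49) (kd xd14 yd59 zd13) (kd xd15 yd8 zd35) (kd xd15 yd8 zd44) (kd xd16 yd32 zd35) (kd xd14 yd59 zd15) (kd xd27 yd39 zd34) (kd xd14 yd59 zd17) (kd xd29 yd17 zd28) (kd xd22 yd18 zd24) (kd xd14 yd59 zd21) (kd xd14 yd59 zd23) (kd xd14 yd59 zd24) (kd xd24 yd2 zd8) (kd xd22 yd46 zd15) (kd xd14 yd59 zd31) (kd xd25 yd3 zd15)) (@D3.rec (fun _ => Pt) (kd xd19 yd23 zd56) (kd xd22 yd17 zd12) (kd xd14 yd59 zd37) (kd xd28 yd14 zd11) (kd xd28 yd14 zd8) (kd xd23 yd3 zd44) (kd xd15 yd6 zd38) (kd xd19 yd44 zd59) (kd xd14 yd59 zd43) (kd xd23 yd20 zd56) (kd xd14 yd59 zd46) (kd xd17 yd15 zd24) (kd xd21 yd12 zd56) (kd xd19 yd4 zd28) (kd xd14 yd59 zd53) (kd xd19 yd18 zd40) (kd xd18 yd17 zd52)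 (kd xd18 yd17 zd53) (kd xd16 yd12 zd31) (kd xd20 yd7 zd37) (kd xd23 yd7 zd17) (kd xd15 yd0 zd1) (kd xd15 yd23 zd51) (kd xd15 yd0 zd2) (kd xd17 yd20 zd37) (kd xd17 yd2 zd26) (kd xd31 yd32 zd47) (kd xd31 yd39 zd6) (kd xd31 yd17 zd61) (kd xd15 yd0 zd13) (kd xd16 yd11 zd49) (kd xd16 yd52 zd45) (kd xd20 yd7 zd34) (kd xd31 yd39 zd9) (kd xd21 yd7 zd57) (kd xd23 yd7 zd18) (kd xd24 yd18 zd56) (kd xd27 yd22 zd60) (kd xd31 yd39 zd10) (kd xd23 yd15 zd44) (kd xd15 yd0 zd19) (kd xd25 yd46 zd41) (kd xd29 yd39 zd53) (kd xd15 yd23 zd55) (kd xd26 yd20 zd56) (kd xd21 yd4 zd15) (kd xd24 yd54 zd0) (kd xd25 yd3 zd54) (kd xd18 yd28 zd24) (kd xd29 yd39 zd37) (kd xd15 yd0 zd26) (kd xd19 yd18 zd15) (kd xd17 yd1 zd5) (kd xd15 yd0 zd32) (kd xd20 yd46 zd50) (kd xd15 yd0 zd33) (kd xd25 yd26 zd18)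 (kd xd25 yd26 zd22) (kd xd31 yd39 zd13) (kd xd15 yd0 zd35) (kd xd26 yd29 zd15) (kd xd26 yd31 zd46)) (@D3.rec (fun _ => Pt) (kd xd15 yd0 zd37) (kd xd26 yd31 zd20) (kd xd31 yd39 zd16) (kd xd15 yd0 zd38) (kd xd31 yd14 zd40) (kd xd27 yd51 zd0) (kd xd15 yd0 zd40) (kd xd27 yd50 zd21) (kd xd16 yd34 zd20) (kd xd31 yd39 zd24) (kd xd15 yd0 zd42) (kd xd28 yd31 zd50) (kd xd15 yd0 zd43) (kd xd18 yd11 zd28) (kd xd15 yd10 zd5) (kd xd17 yd46 zd37) (kd xd16 yd34 zd40) (kd xd31 yd39 zd27) (kd xd28 yd6 zd51) (kd xd20 yd11 zd5) (kd xd17 yd46 zd44) (kd xd31 yd39 zd30) (kd xd15 yd0 zd48) (kd xd26 yd30 zd35) (kd xd15 yd0 zd49) (kd xd15 yd0 zd50) (kd xd18 yd30 zd61) (kd xd18 yd31 zd0) (kd xd18 yd54 zd18) (kd xd16 yd38 zd32) (kd xd27 yd51 zd57) (kd xd20 yd20 zd52) (kd xd24 yd50 zd52) (kd xd24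 yd50 zd45) (kd xd15 yd0 zd54) (kd xd31 yd39 zd37) (kd xd15 yd0 zd56) (kd xd18 yd33 zd26) (kd xd31 yd39 zd40) (kd xd31 yd39 zd41) (kd xd31 yd36 zd56) (kd xd15 yd0 zd59) (kd xd29 yd2 zd18) (kd xd25 yd19 zd47) (kd xd15 yd0 zd60) (kd xd24 yd50 zd37) (kd xd15 yd28 zd31) (kd xd31 yd39 zd46) (kd xd19 yd57 zd50) (kd xd25 yd20 zd8) (kd xd15 yd1 zd4) (kd xd21 yd50 zd52) (kd xd25 yd22 zd0) (kd xd28 yd8 zd2) (kd xd25 yd22 zd10) (kd xd31 yd20 zd49) (kd xd28 yd11 zd9) (kd xd15 yd1 zd8) (kd xd31 yd39 zd50) (kd xd15 yd1 zd9) (kd xd19 yd57 zd47) (kd xd19 yd57 zd48)) (@D3.rec (fun _ => Pt) (kd xd17 yd52 zd45) (kd xd25 yd19 zd30) (kd xd31 yd39 zd55) (kd xd26 yd37 zd43) (kd xd26 yd37 zd40) (kd xd25 yd19 zd34) (kd xd15 yd1 zd13) (kd xd19 yd5 zd15) (kd xd31 yd39 zd59) (kd xd15 yd1 zd15)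 (kd xd26 yd40 zd30) (kd xd24 yd52 zd25) (kd xd30 yd6 zd12) (kd xd15 yd1 zd18) (kd xd27 yd25 zd29) (kd xd28 yd31 zd35) (kd xd28 yd31 zd36) (kd xd15 yd1 zd21) (kd xd30 yd28 zd26) (kd xd31 yd40 zd3) (kd xd31 yd40 zd5) (kd xd15 yd1 zd23) (kd xd29 yd45 zd43) (kd xd31 yd40 zd7) (kd xd31 yd40 zd9) (kd xd19 yd50 zd39) (kd xd19 yd50 zd38) (kd xd20 yd1 zd32) (kd xd15 yd1 zd27) (kd xd31 yd40 zd13) (kd xd31 yd40 zd15) (kd xd15 yd1 zd29) (kd xd31 yd40 zd18) (kd xd26 yd38 zd0) (kd xd25 yd52 zd33) (kd xd15 yd1 zd30) (kd xd31 yd40 zd23) (kd xd31 yd17 zd5) (kd xd15 yd1 zd32) (kd xd26 yd50 zd60) (kd xd31 yd40 zd28) (kd xd28 yd45 zd13) (kd xd26 yd54 zd45) (kd xd31 yd40 zd32) (kd xd31 yd40 zd33) (kd xd15 yd1 zd37) (kd xd26 yd54 zd44) (kd xd15 yd2 zd2) (kd xd29 yd15 zd22) (kd xd31 yd40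 zd35) (kd xd15 yd1 zd39) (kd xd15 yd1 zd40) (kd xd15 yd1 zd41) (kd xd16 yd58 zd55) (kd xd17 yd49 zd57) (kd xd17 yd49 zd58) (kd xd20 yd53 zd40) (kd xd15 yd1 zd43) (kd xd29 yd15 zd16) (kd xd15 yd1 zd44) (kd xd17 yd49 zd51) (kd xd15 yd1 zd46)) (@D3.rec (fun _ => Pt) (kd xd24 yd33 zd30) (kd xd25 yd4 zd41) (kd xd25 yd4 zd42) (kd xd28 yd19 zd38) (kd xd31 yd26 zd60) (kd xd15 yd1 zd50) (kd xd15 yd1 zd52) (kd xd24 yd27 zd12) (kd xd15 yd1 zd53) (kd xd29 yd37 zd6) (kd xd31 yd40 zd46) (kd xd15 yd2 zd19) (kd xd15 yd2 zd20) (kd xd31 yd40 zd49) (kd xd31 yd40 zd50) (kd xd24 yd52 zd14) (kd xd15 yd1 zd56) (kd xd31 yd40 zd53) (kd xd31 yd40 zd55) (kd xd31 yd40 zd57) (kd xd15 yd1 zd57) (kd xd31 yd40 zd60) (kd xd15 yd1 zd58) (kd xd15 yd1 zd59) (kd xd25 yd21 zd1) (kd xd27 yd29 zd31) (kd xd21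 yd24 zd5) (kd xd15 yd1 zd61) (kd xd28 yd45 zd10) (kd xd15 yd2 zd0) (kd xd28 yd51 zd22) (kd xd28 yd51 zd23) (kd xd19 yd43 zd58) (kd xd31 yd28 zd38) (kd xd15 yd2 zd3) (kd xd24 yd50 zd41) (kd xd21 yd30 zd20) (kd xd24 yd48 zd45) (kd xd24 yd52 zd37) (kd xd26 yd35 zd18) (kd xd19 yd32 zd46) (kd xd24 yd50 zd35) (kd xd31 yd41 zd13) (kd xd15 yd28 zd2) (kd xd15 yd27 zd28) (kd xd24 yd48 zd33) (kd xd25 yd20 zd32) (kd xd27 yd52 zd37) (kd xd15 yd2 zd16) (kd xd29 yd45 zd7) (kd xd31 yd40 zd48) (kd xd15 yd2 zd21) (kd xd24 yd48 zd32) (kd xd19 yd37 zd4) (kd xd28 yd45 zd49) (kd xd31 yd41 zd16) (kd xd31 yd41 zd17) (kd xd31 yd30 zd4) (kd xd15 yd2 zd23) (kd xd24 yd52 zd0) (kd xd20 yd54 zd15) (kd xd30 yd0 zd14)) (@D3.rec (fun _ => Pt) (kd xd15 yd2 zd24) (kd xd31 yd41 zd19) (kd xd19 yd58 zd2)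 (kd xd15 yd2 zd25) (kd xd31 yd39 zd43) (kd xd19 yd57 zd54) (kd xd15 yd2 zd26) (kd xd15 yd28 zd8) (kd xd15 yd28 zd7) (kd xd15 yd2 zd28) (kd xd15 yd2 zd29) (kd xd25 yd9 zd28) (kd xd25 yd20 zd1) (kd xd15 yd2 zd31) (kd xd15 yd21 zd15) (kd xd15 yd2 zd33) (kd xd28 yd57 zd29) (kd xd15 yd2 zd34) (kd xd15 yd2 zd35) (kd xd15 yd18 zd32) (kd xd15 yd18 zd33) (kd xd27 yd17 zd29) (kd xd19 yd11 zd15) (kd xd15 yd41 zd55) (kd xd22 yd7 zd36) (kd xd31 yd41 zd27) (kd xd15 yd2 zd38) (kd xd19 yd9 zd11) (kd xd28 yd14 zd24) (kd xd15 yd2 zd41) (kd xd19 yd50 zd32) (kd xd15 yd2 zd42) (kd xd31 yd41 zd30) (kd xd15 yd2 zd43) (kd xd31 yd41 zd33) (kd xd16 yd37 zd7) (kd xd16 yd37 zd8) (kd xd16 yd53 zd54) (kd xd31 yd41 zd8) (kd xd28 yd51 zd21) (kd xd28 yd51 zd27) (kd xd15 yd2 zd45) (kd xd31 yd41 zd41)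 (kd xd31 yd41 zd43) (kd xd15 yd2 zd46) (kd xd30 yd0 zd3) (kd xd15 yd28 zd12) (kd xd15 yd28 zd11) (kd xd15 yd2 zd48) (kd xd15 yd2 zd51) (kd xd27 yd22 zd52) (kd xd26 yd3 zd40) (kd xd15 yd2 zd54) (kd xd15 yd24 zd6) (kd xd17 yd51 zd37) (kd xd15 yd47 zd58) (kd xd19 yd5 zd50) (kd xd29 yd5 zd36) (kd xd31 yd41 zd49) (kd xd15 yd2 zd60) (kd xd19 yd57 zd57) (kd xd29 yd35 zd33)) (@D3.rec (fun _ => Pt) (kd xd24 yd50 zd59) (kd xd24 yd39 zd57) (kd xd15 yd3 zd0) (kd xd29 yd35 zd31) (kd xd15 yd3 zd2) (kd xd23 yd33 zd22) (kd xd15 yd3 zd3) (kd xd28 yd59 zd51) (kd xd26 yd3 zd18) (kd xd29 yd13 zd40) (kd xd15 yd3 zd6) (kd xd25 yd9 zd42) (kd xd15 yd3 zd7) (kd xd28 yd14 zd21) (kd xd24 yd50 zd15) (kd xd15 yd3 zd8) (kd xd25 yd21 zd10) (kd xd19 yd59 zd29) (kd xd15 yd11 zd24) (kd xd27 yd1 zd33)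 (kd xd28 yd14 zd28) (kd xd31 yd37 zd58) (kd xd29 yd17 zd27) (kd xd15 yd3 zd14) (kd xd24 yd43 zd56) (kd xd24 yd49 zd11) (kd xd15 yd3 zd16) (kd xd26 yd8 zd3) (kd xd31 yd38 zd13) (kd xd23 yd34 zd60) (kd xd18 yd26 zd37) (kd xd16 yd4 zd36) (kd xd15 yd3 zd23) (kd xd26 yd8 zd35) (kd xd25 yd31 zd33) (kd xd16 yd51 zd43) (kd xd15 yd3 zd28) (kd xd24 yd50 zd38) (kd xd25 yd19 zd53) (kd xd15 yd3 zd29) (kd xd19 yd6 zd14) (kd xd16 yd49 zd27) (kd xd19 yd32 zd45) (kd xd15 yd24 zd7) (kd xd15 yd56 zd8) (kd xd31 yd41 zd61) (kd xd17 yd3 zd40) (kd xd15 yd3 zd37) (kd xd29 yd8 zd59) (kd xd28 yd45 zd7) (kd xd31 yd42 zd1) (kd xd15 yd3 zd39) (kd xd15 yd45 zd44) (kd xd19 yd33 zd6) (kd xd24 yd27 zd38) (kd xd23 yd21 zd52) (kd xd20 yd6 zd51) (kd xd24 yd36 zd19) (kd xd19 yd9 zd38) (kd xd17 yd1 zd47)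 (kd xd28 yd48 zd4) (kd xd15 yd4 zd39)) (@D3.rec (fun _ => Pt) (kd xd29 yd48 zd8) (kd xd28 yd14 zd51) (kd xd15 yd4 zd14) (kd xd31 yd42 zd2) (kd xd15 yd3 zd60) (kd xd29 yd26 zd39) (kd xd27 yd28 zd58) (kd xd18 yd43 zd32) (kd xd29 yd25 zd39) (kd xd18 yd21 zd22) (kd xd17 yd9 zd52) (kd xd20 yd27 zd49) (kd xd26 yd40 zd26) (kd xd19 yd43 zd46) (kd xd18 yd43 zd37) (kd xd29 yd25 zd37) (kd xd29 yd31 zd42) (kd xd22 yd38 zd27) (kd xd19 yd56 zd4) (kd xd17 yd15 zd7) (kd xd16 yd31 zd10) (kd xd31 yd42 zd4) (kd xd29 yd24 zd47) (kd xd20 yd31 zd7) (kd xd26 yd46 zd24) (kd xd15 yd4 zd49) (kd xd16 yd52 zd43) (kd xd23 yd5 zd51) (kd xd29 yd3 zd11) (kd xd29 yd2 zd59) (kd xd15 yd4 zd57) (kd xd20 yd41 zd44) (kd xd15 yd5 zd4) (kd xd31 yd22 zd56) (kd xd15 yd5 zd10) (kd xd15 yd5 zd12) (kd xd15 yd5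 zd16) (kd xd20 yd14 zd43) (kd xd29 yd31 zd1) (kd xd15 yd5 zd33) (kd xd24 yd12 zd21) (kd xd19 yd23 zd12) (kd xd19 yd23 zd11) (kd xd26 yd54 zd3) (kd xd21 yd57 zd31) (kd xd15 yd5 zd46) (kd xd29 yd54 zd13) (kd xd29 yd54 zd14) (kd xd31 yd42 zd7) (kd xd31 yd42 zd9) (kd xd31 yd42 zd10) (kd xd31 yd42 zd12) (kd xd15 yd5 zd47) (kd xd31 yd42 zd15) (kd xd31 yd42 zd18) (kd xd21 yd41 zd52) (kd xd31 yd30 zd23) (kd xd17 yd57 zd27) (kd xd28 yd0 zd15) (kd xd26 yd24 zd37) (kd xd25 yd15 zd42) (kd xd28 yd6 zd59)) (@D3.rec (fun _ => Pt) (kd xd24 yd47 zd46) (kd xd25 yd15 zd45) (kd xd29 yd54 zd32) (kd xd30 yd35 zd22) (kd xd15 yd5 zd58) (kd xd31 yd42 zd24) (kd xd17 yd2 zd47) (kd xd18 yd21 zd48) (kd xd15 yd6 zd4) (kd xd16 yd10 zd50) (kd xd15 yd6 zd5) (kd xd15 yd6 zd6) (kd xd20 yd21 zd54) (kd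 xd15 yd6 zd10) (kd xd24 yd54 zd22) (kd xd29 yd9 zd35) (kd xd15 yd6 zd13) (kd xd26 yd2 zd10) (kd xd31 yd42 zd28) (kd xd27 yd41 zd12) (kd xd15 yd6 zd15) (kd xd26 yd8 zd61) (kd xd24 yd54 zd14) (kd xd23 yd3 zd25) (kd xd31 yd27 zd53) (kd xd24 yd2 zd57) (kd xd31 yd27 zd54) (kd xd31 yd42 zd33) (kd xd15 yd13 zd45) (kd xd15 yd6 zd21) (kd xd30 yd2 zd53) (kd xd20 yd35 zd2) (kd xd31 yd37 zd43) (kd xd16 yd26 zd48) (kd xd16 yd19 zd49) (kd xd26 yd20 zd61) (kd xd15 yd13 zd5) (kd xd25 yd3 zd9) (kd xd23 yd54 zd10) (kd xd15 yd6 zd31) (kd xd27 yd55 zd51) (kd xd26 yd21 zd1) (kd xd30 yd3 zd31) (kd xd15 yd6 zd35) (kd xd15 yd51 zd26) (kd xd15 yd6 zd40) (kd xd15 yd6 zd41) (kd xd26 yd1 zd36) (kd xd27 yd39 zd47) (kd xd15 yd6 zd47) (kd xd26 yd2 zd49) (kd xd19 yd15 zd33) (kd xd25 yd45 zd22) (kd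 xd25 yd45 zd25) (kd xd16 yd14 zd57) (kd xd31 yd42 zd40) (kd xd15 yd6 zd52) (kd xd25 yd14 zd45) (kd xd25 yd10 zd48) (kd xd25 yd1 zd40) (kd xd15 yd6 zd53) (kd xd23 yd32 zd47)) (@D3.rec (fun _ => Pt) (kd xd15 yd6 zd54) (kd xd27 yd48 zd42) (kd xd26 yd16 zd32) (kd xd25 yd0 zd6) (kd xd31 yd42 zd46) (kd xd26 yd12 zd5) (kd xd28 yd25 zd40) (kd xd26 yd12 zd21) (kd xd28 yd25 zd41) (kd xd16 yd33 zd2) (kd xd26 yd21 zd43) (kd xd26 yd21 zd44) (kd xd15 yd6 zd60) (kd xd26 yd21 zd27) (kd xd27 yd27 zd15) (kd xd27 yd27 zd9) (kd xd26 yd12 zd6) (kd xd15 yd7 zd0) (kd xd31 yd42 zd59) (kd xd15 yd7 zd1) (kd xd31 yd42 zd61) (kd xd24 yd56 zd8) (kd xd16 yd27 zd5) (kd xd27 yd25 zd24) (kd xd17 yd41 zd4) (kd xd31 yd43 zd0) (kd xd31 yd43 zd1) (kd xd27 yd28 zd61) (kd xd15 yd7 zd8) (kd xd17 yd42 zd45)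 (kd xd27 yd47 zd3) (kd xd19 yd0 zd49) (kd xd24 yd56 zd7) (kd xd31 yd43 zd3) (kd xd22 yd29 zd9) (kd xd27 yd41 zd52) (kd xd27 yd28 zd17) (kd xd15 yd13 zd19) (kd xd31 yd43 zd4) (kd xd27 yd25 zd16) (kd xd15 yd7 zd16) (kd xd20 yd45 zd47) (kd xd21 yd38 zd12) (kd xd17 yd53 zd47) (kd xd15 yd8 zd6) (kd xd20 yd30 zd21) (kd xd27 yd27 zd40) (kd xd27 yd28 zd57) (kd xd27 yd27 zd2) (kd xd15 yd7 zd19) (kd xd25 yd29 zd53) (kd xd31 yd0 zd15) (kd xd15 yd7 zd20) (kd xd31 yd43 zd7) (kd xd15 yd7 zd21) (kd xd21 yd37 zd11) (kd xd23 yd32 zd11) (kd xd15 yd7 zd22) (kd xd31 yd43 zd8) (kd xd31 yd43 zd9) (kd xd15 yd7 zd23) (kd xd24 yd44 zd51)) (@D3.rec (fun _ => Pt) (kd xd17 yd36 zd50) (kd xd15 yd7 zd24) (kd xd16 yd1 zd25) (kd xd17 yd42 zd58) (kd xd17 yd41 zd0) (kd xd15 yd7 zd25) (kd xd30 yd24 zd54)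 (kd xd24 yd55 zd32) (kd xd24 yd55 zd21) (kd xd30 yd24 zd55) (kd xd15 yd7 zd28) (kd xd15 yd11 zd55) (kd xd17 yd31 zd44) (kd xd24 yd45 zd27) (kd xd18 yd36 zd61) (kd xd15 yd7 zd30) (kd xd30 yd24 zd21) (kd xd31 yd43 zd12) (kd xd15 yd7 zd32) (kd xd29 yd36 zd39) (kd xd20 yd4 zd11) (kd xd17 yd40 zd45) (kd xd30 yd20 zd26) (kd xd20 yd4 zd12) (kd xd17 yd40 zd40) (kd xd21 yd37 zd15) (kd xd18 yd4 zd53) (kd xd15 yd14 zd16) (kd xd15 yd7 zd37) (kd xd22 yd47 zd20) (kd xd21 yd11 zd59) (kd xd15 yd7 zd39) (kd xd23 yd3 zd32) (kd xd15 yd8 zd39) (kd xd16 yd20 zd57) (kd xd15 yd7 zd45) (kd xd30 yd44 zd19) (kd xd15 yd7 zd46) (kd xd16 yd12 zd10) (kd xd28 yd26 zd28) (kd xd15 yd7 zd47) (kd xd26 yd19 zd8) (kd xd28 yd0 zd6) (kd xd26 yd17 zd16) (kd xd25 yd6 zd17) (kd xd15 yd7 zd53) (kd xd15 yd7 zd54)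 (kd xd15 yd12 zd59) (kd xd25 yd11 zd57) (kd xd24 yd41 zd6) (kd xd30 yd2 zd22) (kd xd30 yd23 zd0) (kd xd15 yd8 zd1) (kd xd15 yd8 zd4) (kd xd15 yd13 zd39) (kd xd15 yd8 zd5) (kd xd15 yd8 zd7) (kd xd21 yd38 zd9) (kd xd20 yd18 zd40) (kd xd17 yd8 zd25) (kd xd15 yd8 zd11) (kd xd19 yd40 zd0)) (@D3.rec (fun _ => Pt) (kd xd26 yd24 zd2) (kd xd20 yd45 zd41) (kd xd23 yd32 zd35) (kd xd27 yd57 zd13) (kd xd15 yd13 zd38) (kd xd31 yd2 zd43) (kd xd15 yd8 zd18) (kd xd21 yd32 zd37) (kd xd22 yd22 zd4) (kd xd22 yd13 zd47) (kd xd15 yd13 zd25) (kd xd22 yd13 zd46) (kd xd22 yd27 zd1) (kd xd22 yd27 zd0) (kd xd31 yd43 zd27) (kd xd15 yd8 zd23) (kd xd20 yd36 zd5) (kd xd21 yd2 zd48) (kd xd18 yd9 zd16) (kd xd15 yd8 zd26) (kd xd18 yd9 zd14) (kd xd30 yd36 zd58) (kd xd25 yd0 zd7) (kd xd22 yd37 zd35) (kd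 xd15 yd8 zd30) (kd xd28 yd11 zd23) (kd xd23 yd18 zd12) (kd xd24 yd44 zd24) (kd xd15 yd13 zd60) (kd xd17 yd57 zd3) (kd xd17 yd57 zd5) (kd xd26 yd13 zd26) (kd xd15 yd10 zd19) (kd xd23 yd32 zd45) (kd xd15 yd49 zd23) (kd xd15 yd8 zd40) (kd xd26 yd23 zd0) (kd xd31 yd38 zd4) (kd xd28 yd26 zd6) (kd xd15 yd8 zd43) (kd xd26 yd23 zd1) (kd xd26 yd19 zd7) (kd xd15 yd8 zd45) (kd xd20 yd41 zd35) (kd xd18 yd40 zd39) (kd xd30 yd42 zd47) (kd xd26 yd7 zd49) (kd xd18 yd40 zd41) (kd xd28 yd12 zd51) (kd xd22 yd49 zd41) (kd xd18 yd59 zd15) (kd xd31 yd25 zd39) (kd xd29 yd53 zd58) (kd xd15 yd47 zd14) (kd xd15 yd47 zd13) (kd xd21 yd47 zd0) (kd xd26 yd3 zd43) (kd xd25 yd53 zd37) (kd xd20 yd13 zd44) (kd xd15 yd9 zd4) (kd xd30 yd55 zd5) (kd xd31 yd43 zd42)) (@D3.rec (fun _ => Pt) (kd xd15 yd46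 zd33) (kd xd20 yd13 zd45) (kd xd15 yd9 zd5) (kd xd24 yd13 zd48) (kd xd15 yd9 zd6) (kd xd25 yd22 zd50) (kd xd25 yd22 zd51) (kd xd23 yd20 zd50) (kd xd15 yd9 zd9) (kd xd19 yd38 zd3) (kd xd26 yd44 zd15) (kd xd26 yd44 zd29) (kd xd15 yd9 zd13) (kd xd26 yd37 zd4) (kd xd15 yd23 zd14) (kd xd24 yd45 zd14) (kd xd15 yd9 zd15) (kd xd16 yd16 zd7) (kd xd31 yd43 zd50) (kd xd19 yd49 zd13) (kd xd31 yd43 zd51) (kd xd25 yd35 zd0) (kd xd27 yd15 zd59) (kd xd22 yd7 zd3) (kd xd15 yd9 zd24) (kd xd19 yd24 zd44) (kd xd31 yd43 zd54) (kd xd15 yd9 zd25) (kd xd28 yd23 zd42) (kd xd15 yd9 zd26) (kd xd15 yd9 zd28) (kd xd19 yd20 zd10) (kd xd31 yd20 zd51) (kd xd28 yd9 zd36) (kd xd31 yd38 zd21) (kd xd15 yd9 zd31) (kd xd24 yd3 zd36) (kd xd31 yd20 zd53) (kd xd25 yd10 zd9) (kd xd25 yd14 zd15) (kd xd31 yd43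 zd55) (kd xd19 yd45 zd45) (kd xd15 yd9 zd34) (kd xd31 yd43 zd57) (kd xd25 yd33 zd20) (kd xd15 yd53 zd6) (kd xd15 yd53 zd7) (kd xd23 yd42 zd49) (kd xd18 yd9 zd25) (kd xd21 yd12 zd36) (kd xd17 yd38 zd16) (kd xd15 yd9 zd47) (kd xd17 yd54 zd30) (kd xd26 yd16 zd15) (kd xd28 yd4 zd27) (kd xd23 yd32 zd50) (kd xd23 yd32 zd49) (kd xd18 yd41 zd1) (kd xd15 yd9 zd54) (kd xd27 yd24 zd43) (kd xd15 yd9 zd55) (kd xd23 yd18 zd54)) (@D3.rec (fun _ => Pt) (kd xd30 yd51 zd56) (kd xd23 yd18 zd53) (kd xd31 yd38 zd22) (kd xd31 yd44 zd0) (kd xd27 yd25 zd22) (kd xd15 yd9 zd59) (kd xd17 yd40 zd7) (kd xd18 yd6 zd20) (kd xd15 yd10 zd0) (kd xd20 yd8 zd29) (kd xd23 yd8 zd9) (kd xd23 yd8 zd8) (kd xd20 yd52 zd50) (kd xd30 yd46 zd28) (kd xd15 yd11 zd26) (kd xd15 yd10 zd4) (kd xd20 yd29 zd35) (kd xd28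 yd32 zd49) (kd xd15 yd11 zd27) (kd xd27 yd58 zd52) (kd xd28 yd28 zd33) (kd xd18 yd39 zd2) (kd xd16 yd33 zd59) (kd xd24 yd29 zd9) (kd xd26 yd19 zd19) (kd xd26 yd18 zd51) (kd xd15 yd10 zd12) (kd xd26 yd25 zd55) (kd xd28 yd5 zd23) (kd xd30 yd39 zd55) (kd xd25 yd1 zd54) (kd xd17 yd26 zd10) (kd xd15 yd10 zd15) (kd xd15 yd40 zd2) (kd xd15 yd10 zd17) (kd xd17 yd54 zd26) (kd xd31 yd43 zd21) (kd xd21 yd11 zd4) (kd xd27 yd33 zd44) (kd xd30 yd58 zd4) (kd xd22 yd52 zd22) (kd xd16 yd11 zd56) (kd xd30 yd47 zd1) (kd xd23 yd18 zd30) (kd xd15 yd10 zd26) (kd xd31 yd0 zd3) (kd xd20 yd49 zd27) (kd xd15 yd10 zd28) (kd xd27 yd41 zd46) (kd xd28 yd10 zd13) (kd xd25 yd2 zd53) (kd xd15 yd10 zd31) (kd xd26 yd22 zd47) (kd xd28 yd42 zd52) (kd xd20 yd0 zd33) (kd xd29 yd31 zd39) (kd xd28 yd10 zd52)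 (kd xd15 yd10 zd37) (kd xd31 yd44 zd11) (kd xd22 yd48 zd27) (kd xd29 yd53 zd19) (kd xd15 yd10 zd44))
def f_d_25 : D2 → D3 → Pt := @D2.rec (fun _ => D3 → Pt) (@D3.rec (fun _ => Pt) (kd xd24 yd35 zd43) (kd xd18 yd26 zd47) (kd xd15 yd10 zd50) (kd xd15 yd10 zd51) (kd xd26 yd21 zd42) (kd xd28 yd0 zd16) (kd xd24 yd55 zd3) (kd xd24 yd57 zd22) (kd xd26 yd9 zd31) (kd xd23 yd50 zd6) (kd xd15 yd10 zd61) (kd xd17 yd50 zd37) (kd xd15 yd11 zd1) (kd xd25 yd45 zd16) (kd xd15 yd12 zd16) (kd xd15 yd12 zd17) (kd xd26 yd12 zd46) (kd xd28 yd4 zd20) (kd xd23 yd44 zd39) (kd xd15 yd11 zd15) (kd xd15 yd11 zd41) (kd xd15 yd11 zd42) (kd xd31 yd44 zd22) (kd xd31 yd44 zd23) (kd xd15 yd11 zd17) (kd xd15 yd11 zd18) (kd xd31 yd44 zd25) (kd xd24 yd45 zd32) (kd xd31 yd41 zd58) (kd xd15 yd11 zd20) (kd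 xd15 yd11 zd21) (kd xd15 yd11 zd23) (kd xd17 yd9 zd18) (kd xd15 yd11 zd28) (kd xd15 yd11 zd60) (kd xd15 yd11 zd30) (kd xd15 yd11 zd31) (kd xd18 yd28 zd56) (kd xd16 yd33 zd4) (kd xd15 yd11 zd32) (kd xd31 yd44 zd29) (kd xd15 yd11 zd33) (kd xd18 yd4 zd55) (kd xd29 yd15 zd53) (kd xd15 yd11 zd35) (kd xd15 yd11 zd36) (kd xd18 yd33 zd28) (kd xd31 yd11 zd39) (kd xd30 yd35 zd41) (kd xd15 yd11 zd43) (kd xd15 yd11 zd51) (kd xd18 yd4 zd40) (kd xd29 yd16 zd23) (kd xd15 yd11 zd58) (kd xd30 yd59 zd14) (kd xd18 yd13 zd10) (kd xd15 yd11 zd59) (kd xd21 yd13 zd19) (kd xd16 yd15 zd18) (kd xd26 yd14 zd57) (kd xd18 yd36 zd56) (kd xd18 yd28 zd21)) (@D3.rec (fun _ => Pt) (kd xd15 yd12 zd6) (kd xd30 yd1 zd10) (kd xd31 yd44 zd34) (kd xd15 yd12 zd7) (kd xd21 yd26 zd25) (kd xd31 yd44 zd35) (kd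 xd18 yd28 zd36) (kd xd29 yd32 zd61) (kd xd24 yd46 zd43) (kd xd16 yd15 zd12) (kd xd26 yd14 zd56) (kd xd23 yd22 zd23) (kd xd15 yd12 zd12) (kd xd27 yd27 zd59) (kd xd15 yd12 zd14) (kd xd16 yd15 zd13) (kd xd27 yd26 zd1) (kd xd15 yd12 zd34) (kd xd15 yd12 zd20) (kd xd23 yd33 zd23) (kd xd15 yd12 zd44) (kd xd28 yd2 zd33) (kd xd15 yd34 zd49) (kd xd17 yd41 zd14) (kd xd15 yd12 zd24) (kd xd31 yd44 zd39) (kd xd15 yd12 zd26) (kd xd18 yd8 zd45) (kd xd15 yd12 zd29) (kd xd22 yd17 zd31) (kd xd27 yd48 zd5) (kd xd23 yd42 zd46) (kd xd30 yd23 zd23) (kd xd27 yd45 zd43) (kd xd15 yd12 zd35) (kd xd30 yd23 zd21) (kd xd15 yd12 zd37) (kd xd15 yd12 zd39) (kd xd25 yd3 zd4) (kd xd18 yd33 zd4) (kd xd24 yd54 zd59) (kd xd25 yd3 zd8) (kd xd20 yd21 zd0) (kd xd27 yd27 zd11) (kd xd27 yd28 zd49) (kd xd27 yd26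 zd17) (kd xd15 yd12 zd45) (kd xd27 yd27 zd10) (kd xd17 yd36 zd44) (kd xd31 yd0 zd44) (kd xd31 yd0 zd43) (kd xd15 yd12 zd51) (kd xd27 yd23 zd55) (kd xd15 yd12 zd53) (kd xd24 yd59 zd30) (kd xd15 yd12 zd54) (kd xd31 yd44 zd49) (kd xd19 yd0 zd15) (kd xd28 yd34 zd56) (kd xd20 yd26 zd18) (kd xd31 yd44 zd52) (kd xd28 yd10 zd41)) (@D3.rec (fun _ => Pt) (kd xd16 yd20 zd25) (kd xd16 yd34 zd31) (kd xd26 yd18 zd46) (kd xd26 yd18 zd48) (kd xd28 yd23 zd39) (kd xd15 yd13 zd8) (kd xd16 yd25 zd45) (kd xd23 yd18 zd3) (kd xd23 yd18 zd2) (kd xd27 yd21 zd54) (kd xd15 yd13 zd11) (kd xd20 yd29 zd37) (kd xd30 yd0 zd32) (kd xd20 yd0 zd5) (kd xd30 yd31 zd57) (kd xd15 yd13 zd17) (kd xd31 yd44 zd58) (kd xd15 yd13 zd18) (kd xd31 yd44 zd60) (kd xd21 yd55 zd44) (kd xd29 yd19 zd2) (kd xd27 yd40 zd12)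 (kd xd27 yd41 zd50) (kd xd28 yd22 zd18) (kd xd21 yd47 zd1) (kd xd15 yd13 zd24) (kd xd28 yd3 zd46) (kd xd29 yd5 zd41) (kd xd28 yd22 zd14) (kd xd22 yd27 zd12) (kd xd27 yd22 zd9) (kd xd15 yd13 zd28) (kd xd20 yd13 zd61) (kd xd24 yd42 zd53) (kd xd21 yd28 zd13) (kd xd24 yd43 zd58) (kd xd19 yd53 zd57) (kd xd19 yd39 zd49) (kd xd15 yd13 zd34) (kd xd23 yd31 zd37) (kd xd23 yd31 zd36) (kd xd15 yd13 zd36) (kd xd21 yd31 zd22) (kd xd20 yd30 zd43) (kd xd28 yd26 zd2) (kd xd31 yd45 zd3) (kd xd28 yd28 zd6) (kd xd15 yd13 zd41) (kd xd31 yd43 zd10) (kd xd23 yd15 zd30) (kd xd23 yd15 zd31) (kd xd15 yd13 zd43) (kd xd25 yd45 zd48) (kd xd24 yd59 zd50) (kd xd23 yd23 zd33) (kd xd31 yd45 zd5) (kd xd23 yd33 zd54) (kd xd23 yd23 zd34) (kd xd15 yd13 zd57) (kd xd17 yd9 zd20) (kd xd21 yd12 zd37) (kd xd15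 yd13 zd59)) (@D3.rec (fun _ => Pt) (kd xd16 yd24 zd21) (kd xd25 yd52 zd8) (kd xd30 yd59 zd37) (kd xd22 yd30 zd48) (kd xd25 yd1 zd38) (kd xd29 yd57 zd49) (kd xd22 yd22 zd33) (kd xd18 yd49 zd34) (kd xd25 yd1 zd41) (kd xd24 yd54 zd37) (kd xd15 yd14 zd4) (kd xd15 yd14 zd5) (kd xd27 yd41 zd47) (kd xd28 yd18 zd52) (kd xd25 yd14 zd12) (kd xd24 yd46 zd61) (kd xd30 yd4 zd22) (kd xd18 yd29 zd14) (kd xd22 yd28 zd35) (kd xd20 yd4 zd47) (kd xd31 yd39 zd11) (kd xd27 yd45 zd35) (kd xd16 yd19 zd12) (kd xd16 yd23 zd41) (kd xd18 yd8 zd27) (kd xd29 yd50 zd28) (kd xd15 yd14 zd20) (kd xd16 yd19 zd13) (kd xd27 yd27 zd19) (kd xd16 yd17 zd3) (kd xd26 yd10 zd61) (kd xd31 yd42 zd42) (kd xd18 yd8 zd52) (kd xd18 yd8 zd51) (kd xd27 yd34 zd27) (kd xd18 yd30 zd17) (kd xd18 yd30 zd18) (kd xd18 yd6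 zd55) (kd xd27 yd45 zd49) (kd xd26 yd12 zd28) (kd xd15 yd14 zd31) (kd xd26 yd16 zd42) (kd xd21 yd55 zd22) (kd xd16 yd18 zd55) (kd xd26 yd16 zd41) (kd xd31 yd15 zd34) (kd xd31 yd8 zd10) (kd xd31 yd8 zd9) (kd xd20 yd2 zd24) (kd xd15 yd14 zd45) (kd xd31 yd45 zd14) (kd xd31 yd45 zd15) (kd xd15 yd14 zd46) (kd xd16 yd32 zd31) (kd xd24 yd47 zd47) (kd xd15 yd14 zd50) (kd xd28 yd6 zd15) (kd xd21 yd4 zd30) (kd xd18 yd10 zd7) (kd xd26 yd15 zd39) (kd xd28 yd1 zd61) (kd xd31 yd44 zd37)) (@D3.rec (fun _ => Pt) (kd xd31 yd45 zd20) (kd xd15 yd14 zd57) (kd xd18 yd8 zd44) (kd xd16 yd18 zd32) (kd xd22 yd57 zd24) (kd xd15 yd40 zd43) (kd xd31 yd45 zd22) (kd xd15 yd15 zd2) (kd xd15 yd59 zd49) (kd xd23 yd24 zd12) (kd xd29 yd3 zd29) (kd xd22 yd10 zd51) (kd xd15 yd15 zd7) (kd xd15 yd15 zd11)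 (kd xd28 yd49 zd25) (kd xd22 yd57 zd13) (kd xd28 yd49 zd19) (kd xd24 yd8 zd55) (kd xd19 yd35 zd21) (kd xd15 yd15 zd13) (kd xd19 yd35 zd15) (kd xd18 yd2 zd3) (kd xd15 yd15 zd15) (kd xd15 yd15 zd16) (kd xd18 yd5 zd40) (kd xd15 yd15 zd17) (kd xd25 yd35 zd2) (kd xd15 yd15 zd18) (kd xd31 yd45 zd27) (kd xd15 yd15 zd21) (kd xd19 yd11 zd56) (kd xd31 yd45 zd30) (kd xd15 yd15 zd23) (kd xd24 yd13 zd46) (kd xd29 yd2 zd24) (kd xd15 yd15 zd25) (kd xd25 yd26 zd10) (kd xd25 yd26 zd49) (kd xd15 yd15 zd26) (kd xd15 yd15 zd27) (kd xd27 yd44 zd6) (kd xd24 yd50 zd1) (kd xd24 yd50 zd2) (kd xd27 yd49 zd31) (kd xd27 yd44 zd4) (kd xd31 yd45 zd35) (kd xd19 yd22 zd45) (kd xd15 yd15 zd29) (kd xd28 yd41 zd55) (kd xd31 yd45 zd36) (kd xd31 yd45 zd37) (kd xd15 yd15 zd30) (kd xd27 yd43 zd57) (kd xd19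 yd12 zd46) (kd xd15 yd15 zd32) (kd xd15 yd15 zd33) (kd xd16 yd26 zd61) (kd xd15 yd15 zd34) (kd xd19 yd15 zd9) (kd xd23 yd28 zd39) (kd xd25 yd30 zd19) (kd xd25 yd30 zd20)) (@D3.rec (fun _ => Pt) (kd xd15 yd15 zd36) (kd xd21 yd27 zd22) (kd xd15 yd31 zd17) (kd xd15 yd31 zd16) (kd xd29 yd4 zd41) (kd xd31 yd28 zd54) (kd xd28 yd50 zd38) (kd xd15 yd21 zd11) (kd xd16 yd49 zd19) (kd xd15 yd15 zd41) (kd xd31 yd45 zd45) (kd xd22 yd51 zd0) (kd xd19 yd57 zd1) (kd xd31 yd45 zd47) (kd xd15 yd19 zd46) (kd xd31 yd27 zd50) (kd xd22 yd54 zd35) (kd xd28 yd50 zd48) (kd xd22 yd57 zd33) (kd xd15 yd15 zd45) (kd xd31 yd22 zd8) (kd xd15 yd15 zd46) (kd xd22 yd55 zd2) (kd xd30 yd10 zd6) (kd xd15 yd15 zd48) (kd xd31 yd45 zd48) (kd xd20 yd8 zd14) (kd xd29 yd52 zd55) (kd xd25 yd12 zd57) (kd xd24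 yd11 zd37) (kd xd19 yd15 zd43) (kd xd15 yd15 zd52) (kd xd15 yd34 zd60) (kd xd27 yd54 zd10) (kd xd28 yd22 zd35) (kd xd25 yd56 zd7) (kd xd15 yd15 zd54) (kd xd29 yd52 zd28) (kd xd15 yd36 zd45) (kd xd15 yd20 zd49) (kd xd31 yd45 zd56) (kd xd15 yd15 zd56) (kd xd31 yd35 zd39) (kd xd15 yd35 zd5) (kd xd15 yd35 zd6) (kd xd15 yd16 zd53) (kd xd26 yd17 zd58) (kd xd25 yd14 zd24) (kd xd15 yd15 zd60) (kd xd28 yd48 zd32) (kd xd15 yd15 zd61) (kd xd15 yd16 zd0) (kd xd20 yd49 zd36) (kd xd15 yd16 zd1) (kd xd25 yd15 zd3) (kd xd28 yd53 zd49) (kd xd19 yd36 zd39) (kd xd25 yd26 zd51) (kd xd29 yd41 zd11) (kd xd15 yd16 zd3) (kd xd26 yd44 zd16) (kd xd15 yd53 zd3)) (@D3.rec (fun _ => Pt) (kd xd15 yd53 zd4) (kd xd25 yd48 zd60) (kd xd15 yd16 zd8) (kd xd25 yd15 zd31) (kd xd16 yd2 zd21) (kd xd26 yd0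 zd5) (kd xd18 yd41 zd56) (kd xd16 yd2 zd19) (kd xd26 yd0 zd6) (kd xd25 yd35 zd30) (kd xd15 yd16 zd36) (kd xd15 yd40 zd19) (kd xd15 yd16 zd14) (kd xd27 yd15 zd58) (kd xd15 yd16 zd15) (kd xd25 yd11 zd37) (kd xd15 yd34 zd26) (kd xd24 yd56 zd44) (kd xd15 yd16 zd19) (kd xd19 yd11 zd16) (kd xd28 yd51 zd25) (kd xd25 yd6 zd51) (kd xd21 yd52 zd58) (kd xd25 yd6 zd49) (kd xd28 yd59 zd35) (kd xd21 yd21 zd8) (kd xd31 yd46 zd4) (kd xd15 yd16 zd29) (kd xd31 yd46 zd5) (kd xd15 yd16 zd30) (kd xd15 yd19 zd34) (kd xd25 yd51 zd14) (kd xd28 yd3 zd38) (kd xd31 yd46 zd16) (kd xd15 yd16 zd32) (kd xd27 yd45 zd44) (kd xd25 yd36 zd42) (kd xd27 yd9 zd58) (kd xd25 yd48 zd18) (kd xd31 yd46 zd18) (kd xd15 yd16 zd39) (kd xd31 yd46 zd21) (kd xd15 yd16 zd40) (kd xd15 yd22 zd17) (kd xd26 yd13 zd47) (kd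 xd15 yd16 zd42) (kd xd30 yd54 zd31) (kd xd15 yd16 zd44) (kd xd26 yd4 zd36) (kd xd25 yd6 zd23) (kd xd21 yd25 zd58) (kd xd25 yd6 zd21) (kd xd15 yd58 zd8) (kd xd15 yd40 zd40) (kd xd26 yd25 zd42) (kd xd15 yd16 zd52) (kd xd20 yd43 zd54) (kd xd22 yd52 zd24) (kd xd25 yd23 zd2) (kd xd15 yd29 zd45) (kd xd25 yd9 zd60) (kd xd15 yd29 zd46)) (@D3.rec (fun _ => Pt) (kd xd25 yd49 zd53) (kd xd31 yd46 zd30) (kd xd31 yd46 zd31) (kd xd15 yd17 zd0) (kd xd26 yd13 zd37) (kd xd17 yd14 zd49) (kd xd15 yd17 zd3) (kd xd31 yd46 zd35) (kd xd15 yd17 zd4) (kd xd30 yd14 zd32) (kd xd15 yd52 zd32) (kd xd15 yd52 zd33) (kd xd15 yd17 zd6) (kd xd31 yd46 zd40) (kd xd27 yd19 zd38) (kd xd29 yd50 zd49) (kd xd25 yd53 zd34) (kd xd15 yd17 zd10) (kd xd31 yd16 zd54) (kd xd28 yd57 zd35) (kd xd30 yd51 zd22) (kd xd21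 yd1 zd47) (kd xd30 yd53 zd25) (kd xd15 yd17 zd13) (kd xd29 yd16 zd32) (kd xd29 yd44 zd22) (kd xd15 yd35 zd47) (kd xd22 yd52 zd23) (kd xd15 yd21 zd29) (kd xd24 yd16 zd51) (kd xd25 yd36 zd50) (kd xd31 yd46 zd46) (kd xd31 yd46 zd47) (kd xd30 yd6 zd39) (kd xd17 yd29 zd9) (kd xd27 yd18 zd9) (kd xd31 yd46 zd48) (kd xd31 yd27 zd47) (kd xd15 yd17 zd25) (kd xd31 yd46 zd52) (kd xd19 yd57 zd5) (kd xd19 yd57 zd6) (kd xd15 yd52 zd53) (kd xd25 yd51 zd16) (kd xd16 yd0 zd3) (kd xd15 yd17 zd27) (kd xd15 yd21 zd58) (kd xd25 yd33 zd17) (kd xd25 yd13 zd21) (kd xd21 yd57 zd42) (kd xd21 yd36 zd2) (kd xd25 yd13 zd19) (kd xd29 yd13 zd0) (kd xd16 yd36 zd56) (kd xd16 yd36 zd57) (kd xd16 yd45 zd48) (kd xd27 yd10 zd51) (kd xd29 yd8 zd17) (kd xd24 yd26 zd48) (kd xd22 yd0 zd7) (kd xd15 yd17 zd34)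 (kd xd25 yd12 zd37)) (@D3.rec (fun _ => Pt) (kd xd31 yd46 zd56) (kd xd15 yd17 zd37) (kd xd27 yd16 zd23) (kd xd15 yd19 zd9) (kd xd15 yd19 zd10) (kd xd31 yd41 zd21) (kd xd22 yd1 zd0) (kd xd31 yd46 zd58) (kd xd31 yd46 zd59) (kd xd15 yd17 zd39) (kd xd30 yd29 zd12) (kd xd15 yd19 zd7) (kd xd20 yd56 zd48) (kd xd31 yd46 zd61) (kd xd31 yd47 zd0) (kd xd15 yd17 zd41) (kd xd27 yd16 zd17) (kd xd28 yd40 zd30) (kd xd28 yd39 zd27) (kd xd15 yd17 zd44) (kd xd31 yd47 zd7) (kd xd30 yd54 zd30) (kd xd23 yd10 zd21) (kd xd15 yd17 zd46) (kd xd31 yd47 zd12) (kd xd25 yd57 zd2) (kd xd15 yd17 zd47) (kd xd31 yd47 zd14) (kd xd15 yd17 zd48) (kd xd15 yd52 zd51) (kd xd31 yd38 zd18) (kd xd15 yd17 zd50) (kd xd30 yd43 zd26) (kd xd22 yd47 zd42) (kd xd15 yd21 zd33) (kd xd28 yd23 zd58) (kd xd31 yd47 zd17)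 (kd xd31 yd47 zd19) (kd xd31 yd47 zd22) (kd xd15 yd17 zd56) (kd xd31 yd47 zd24) (kd xd15 yd17 zd57) (kd xd18 yd14 zd12) (kd xd15 yd21 zd47) (kd xd18 yd13 zd6) (kd xd29 yd9 zd32) (kd xd31 yd47 zd30) (kd xd26 yd39 zd56) (kd xd15 yd17 zd59) (kd xd30 yd14 zd61) (kd xd19 yd38 zd58) (kd xd15 yd17 zd60) (kd xd16 yd2 zd17) (kd xd24 yd3 zd29) (kd xd15 yd18 zd0) (kd xd31 yd47 zd35) (kd xd29 yd5 zd6) (kd xd15 yd18 zd1) (kd xd31 yd47 zd36) (kd xd15 yd18 zd6) (kd xd15 yd18 zd8) (kd xd22 yd10 zd49)) (@D3.rec (fun _ => Pt) (kd xd15 yd18 zd10) (kd xd27 yd24 zd4) (kd xd31 yd46 zd11) (kd xd24 yd1 zd39) (kd xd20 yd59 zd5) (kd xd20 yd29 zd31) (kd xd20 yd36 zd60) (kd xd21 yd39 zd40) (kd xd21 yd39 zd37) (kd xd15 yd18 zd19) (kd xd23 yd26 zd11) (kd xd18 yd40 zd23) (kd xd19 yd47 zd38) (kd xd18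 yd33 zd30) (kd xd16 yd38 zd40) (kd xd19 yd38 zd0) (kd xd25 yd19 zd33) (kd xd31 yd47 zd43) (kd xd15 yd18 zd34) (kd xd15 yd19 zd58) (kd xd26 yd38 zd36) (kd xd25 yd35 zd1) (kd xd31 yd47 zd49) (kd xd28 yd59 zd50) (kd xd31 yd9 zd52) (kd xd15 yd18 zd37) (kd xd27 yd38 zd15) (kd xd25 yd44 zd48) (kd xd24 yd51 zd11) (kd xd27 yd29 zd27) (kd xd15 yd18 zd41) (kd xd31 yd47 zd53) (kd xd31 yd47 zd54) (kd xd15 yd18 zd43) (kd xd31 yd45 zd57) (kd xd15 yd18 zd44) (kd xd31 yd47 zd59) (kd xd15 yd18 zd46) (kd xd31 yd48 zd1) (kd xd19 yd38 zd61) (kd xd15 yd18 zd47) (kd xd30 yd18 zd51) (kd xd24 yd52 zd11) (kd xd19 yd53 zd42) (kd xd24 yd2 zd34) (kd xd25 yd33 zd49) (kd xd29 yd17 zd21) (kd xd29 yd17 zd22) (kd xd29 yd23 zd2) (kd xd15 yd18 zd52) (kd xd25 yd11 zd55) (kd xd15 yd21 zd49) (kd xd17 yd39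 zd31) (kd xd17 yd40 zd14) (kd xd24 yd16 zd7) (kd xd27 yd3 zd59) (kd xd15 yd18 zd56) (kd xd29 yd5 zd24) (kd xd15 yd18 zd57) (kd xd29 yd59 zd39) (kd xd25 yd6 zd60) (kd xd21 yd23 zd26)) (@D3.rec (fun _ => Pt) (kd xd21 yd49 zd51) (kd xd27 yd45 zd8) (kd xd26 yd5 zd10) (kd xd24 yd46 zd39) (kd xd19 yd5 zd7) (kd xd27 yd14 zd19) (kd xd19 yd45 zd4) (kd xd15 yd19 zd8) (kd xd20 yd54 zd60) (kd xd24 yd58 zd38) (kd xd21 yd16 zd44) (kd xd15 yd19 zd11) (kd xd19 yd5 zd3) (kd xd31 yd41 zd25) (kd xd26 yd33 zd9) (kd xd19 yd5 zd8) (kd xd15 yd19 zd14) (kd xd31 yd21 zd7) (kd xd16 yd44 zd54) (kd xd15 yd19 zd16) (kd xd24 yd1 zd2) (kd xd15 yd19 zd18) (kd xd27 yd48 zd18) (kd xd29 yd3 zd54) (kd xd15 yd29 zd26) (kd xd15 yd19 zd22) (kd xd20 yd55 zd40) (kd xd16 yd47 zd13) (kd xd15 yd19 zd25) (kd xd30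 yd0 zd13) (kd xd31 yd48 zd9) (kd xd15 yd19 zd30) (kd xd19 yd57 zd12) (kd xd16 yd3 zd61) (kd xd29 yd47 zd47) (kd xd31 yd48 zd10) (kd xd15 yd19 zd32) (kd xd31 yd3 zd25) (kd xd18 yd5 zd41) (kd xd15 yd42 zd14) (kd xd18 yd5 zd46) (kd xd20 yd3 zd48) (kd xd20 yd3 zd52) (kd xd26 yd12 zd36) (kd xd26 yd1 zd14) (kd xd27 yd49 zd35) (kd xd18 yd5 zd38) (kd xd18 yd5 zd37) (kd xd24 yd54 zd58) (kd xd27 yd46 zd17) (kd xd19 yd31 zd26) (kd xd31 yd22 zd13) (kd xd31 yd48 zd18) (kd xd24 yd45 zd19) (kd xd31 yd9 zd37) (kd xd15 yd19 zd48) (kd xd25 yd45 zd58) (kd xd16 yd20 zd0) (kd xd21 yd33 zd53) (kd xd24 yd45 zd13) (kd xd19 yd38 zd16) (kd xd15 yd19 zd59)) (@D3.rec (fun _ => Pt) (kd xd31 yd48 zd21) (kd xd15 yd41 zd53) (kd xd15 yd41 zd54) (kd xd26 yd36 zd60) (kd xd25 yd33 zd30) (kd xd27 yd30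 zd12) (kd xd31 yd46 zd3) (kd xd15 yd19 zd61) (kd xd30 yd7 zd47) (kd xd31 yd48 zd26) (kd xd31 yd48 zd27) (kd xd15 yd20 zd0) (kd xd30 yd14 zd28) (kd xd29 yd45 zd24) (kd xd15 yd20 zd1) (kd xd29 yd13 zd11) (kd xd17 yd51 zd34) (kd xd15 yd57 zd4) (kd xd31 yd46 zd2) (kd xd31 yd48 zd3) (kd xd15 yd20 zd5) (kd xd19 yd38 zd43) (kd xd15 yd20 zd7) (kd xd19 yd38 zd12) (kd xd28 yd57 zd11) (kd xd31 yd48 zd30) (kd xd19 yd38 zd59) (kd xd31 yd36 zd43) (kd xd31 yd48 zd32) (kd xd27 yd3 zd15) (kd xd15 yd20 zd13) (kd xd26 yd5 zd7) (kd xd31 yd48 zd36) (kd xd31 yd48 zd37) (kd xd15 yd20 zd16) (kd xd16 yd25 zd48) (kd xd27 yd15 zd43) (kd xd25 yd6 zd15) (kd xd24 yd16 zd13) (kd xd19 yd24 zd42) (kd xd31 yd23 zd40) (kd xd15 yd20 zd21) (kd xd15 yd20 zd24) (kd xd16 yd50 zd46) (kd xd15 yd20 zd28) (kd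 xd20 yd32 zd4) (kd xd31 yd46 zd25) (kd xd15 yd20 zd30) (kd xd25 yd14 zd46) (kd xd15 yd20 zd33) (kd xd31 yd9 zd53) (kd xd21 yd1 zd48) (kd xd15 yd20 zd37) (kd xd21 yd1 zd44) (kd xd19 yd57 zd21) (kd xd25 yd9 zd50) (kd xd25 yd50 zd6) (kd xd24 yd56 zd48) (kd xd31 yd2 zd41) (kd xd27 yd19 zd32) (kd xd25 yd33 zd2) (kd xd15 yd20 zd46)) (@D3.rec (fun _ => Pt) (kd xd23 yd31 zd40) (kd xd26 yd41 zd20) (kd xd15 yd36 zd46) (kd xd15 yd20 zd50) (kd xd23 yd26 zd28) (kd xd26 yd55 zd4) (kd xd21 yd1 zd58) (kd xd15 yd20 zd54) (kd xd20 yd59 zd26) (kd xd15 yd20 zd56) (kd xd26 yd33 zd48) (kd xd15 yd20 zd58) (kd xd25 yd50 zd14) (kd xd28 yd16 zd1) (kd xd28 yd1 zd27) (kd xd19 yd34 zd49) (kd xd26 yd10 zd41) (kd xd15 yd21 zd1) (kd xd30 yd47 zd41) (kd xd25 yd25 zd50) (kd xd15 yd21 zd5) (kd xd26 yd42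 zd0) (kd xd22 yd28 zd56) (kd xd18 yd2 zd0) (kd xd15 yd21 zd8) (kd xd31 yd48 zd51) (kd xd31 yd48 zd45) (kd xd27 yd39 zd33) (kd xd15 yd21 zd9) (kd xd31 yd48 zd52) (kd xd28 yd59 zd59) (kd xd15 yd21 zd13) (kd xd15 yd21 zd16) (kd xd25 yd43 zd23) (kd xd26 yd33 zd53) (kd xd15 yd21 zd17) (kd xd31 yd48 zd56) (kd xd25 yd7 zd61) (kd xd28 yd48 zd19) (kd xd31 yd48 zd59) (kd xd22 yd6 zd60) (kd xd15 yd21 zd19) (kd xd19 yd31 zd27) (kd xd22 yd28 zd57) (kd xd24 yd14 zd3) (kd xd15 yd21 zd24) (kd xd28 yd48 zd17) (kd xd15 yd21 zd25) (kd xd17 yd29 zd37) (kd xd15 yd38 zd13) (kd xd27 yd19 zd58) (kd xd25 yd55 zd19) (kd xd31 yd49 zd1) (kd xd28 yd25 zd3) (kd xd26 yd15 zd9) (kd xd15 yd21 zd31) (kd xd28 yd25 zd12) (kd xd25 yd5 zd28) (kd xd15 yd21 zd32) (kd xd30 yd48 zd10) (kd xd20 yd3 zd6) (kd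 xd31 yd24 zd26)) (@D3.rec (fun _ => Pt) (kd xd16 yd14 zd1) (kd xd24 yd5 zd4) (kd xd31 yd24 zd27) (kd xd21 yd22 zd36) (kd xd17 yd29 zd33) (kd xd25 yd41 zd50) (kd xd15 yd33 zd53) (kd xd21 yd46 zd1) (kd xd24 yd11 zd27) (kd xd15 yd21 zd42) (kd xd31 yd49 zd3) (kd xd30 yd53 zd36) (kd xd31 yd47 zd39) (kd xd19 yd14 zd44) (kd xd25 yd55 zd2) (kd xd15 yd38 zd3) (kd xd15 yd21 zd45) (kd xd31 yd4 zd53) (kd xd25 yd13 zd42) (kd xd25 yd7 zd51) (kd xd31 yd47 zd29) (kd xd25 yd7 zd48) (kd xd29 yd23 zd34) (kd xd15 yd21 zd50) (kd xd23 yd30 zd5) (kd xd15 yd53 zd20) (kd xd21 yd1 zd59) (kd xd21 yd46 zd23) (kd xd29 yd16 zd20) (kd xd24 yd21 zd14) (kd xd29 yd16 zd54) (kd xd21 yd46 zd22) (kd xd29 yd16 zd56) (kd xd20 yd40 zd8) (kd xd29 yd17 zd0) (kd xd24 yd37 zd46) (kd xd25 yd57 zd1) (kd xd25 yd13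 zd46) (kd xd27 yd19 zd55) (kd xd27 yd1 zd55) (kd xd15 yd22 zd42) (kd xd15 yd21 zd61) (kd xd25 yd13 zd18) (kd xd28 yd59 zd39) (kd xd20 yd5 zd14) (kd xd25 yd22 zd42) (kd xd25 yd13 zd37) (kd xd21 yd0 zd22) (kd xd15 yd22 zd8) (kd xd24 yd12 zd44) (kd xd24 yd3 zd13) (kd xd24 yd12 zd20) (kd xd31 yd49 zd13) (kd xd31 yd49 zd16) (kd xd29 yd41 zd45) (kd xd15 yd22 zd13) (kd xd31 yd46 zd22) (kd xd17 yd25 zd14) (kd xd15 yd22 zd14) (kd xd25 yd54 zd59) (kd xd15 yd22 zd15) (kd xd26 yd18 zd17)) (@D3.rec (fun _ => Pt) (kd xd16 yd15 zd56) (kd xd19 yd21 zd36) (kd xd31 yd49 zd22) (kd xd19 yd21 zd31) (kd xd19 yd37 zd38) (kd xd31 yd49 zd23) (kd xd31 yd49 zd26) (kd xd31 yd4 zd5) (kd xd15 yd22 zd24) (kd xd31 yd49 zd27) (kd xd31 yd11 zd14) (kd xd15 yd22 zd25) (kd xd25 yd3 zd14) (kd xd28 yd3 zd21)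 (kd xd15 yd22 zd27) (kd xd24 yd58 zd39) (kd xd27 yd14 zd14) (kd xd25 yd33 zd9) (kd xd15 yd22 zd29) (kd xd25 yd49 zd17) (kd xd31 yd3 zd31) (kd xd23 yd27 zd61) (kd xd15 yd22 zd31) (kd xd31 yd3 zd60) (kd xd25 yd5 zd47) (kd xd15 yd22 zd32) (kd xd15 yd22 zd33) (kd xd19 yd56 zd61) (kd xd31 yd49 zd34) (kd xd29 yd42 zd18) (kd xd15 yd22 zd40) (kd xd29 yd57 zd8) (kd xd22 yd9 zd39) (kd xd31 yd49 zd36) (kd xd31 yd49 zd37) (kd xd15 yd22 zd45) (kd xd27 yd58 zd51) (kd xd15 yd23 zd36) (kd xd15 yd22 zd49) (kd xd31 yd3 zd20) (kd xd31 yd11 zd51) (kd xd15 yd22 zd50) (kd xd22 yd44 zd54) (kd xd17 yd13 zd50) (kd xd15 yd22 zd53) (kd xd24 yd54 zd57) (kd xd25 yd11 zd48) (kd xd29 yd5 zd27) (kd xd31 yd7 zd55) (kd xd15 yd22 zd58) (kd xd31 yd49 zd42) (kd xd31 yd9 zd10) (kd xd15 yd22 zd59) (kd xd31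 yd4 zd23) (kd xd20 yd3 zd13) (kd xd19 yd20 zd50) (kd xd31 yd49 zd46) (kd xd15 yd22 zd61) (kd xd24 yd42 zd38) (kd xd20 yd50 zd20) (kd xd15 yd23 zd0) (kd xd31 yd49 zd49)) (@D3.rec (fun _ => Pt) (kd xd31 yd49 zd51) (kd xd29 yd5 zd28) (kd xd15 yd23 zd1) (kd xd25 yd5 zd54) (kd xd27 yd4 zd6) (kd xd15 yd23 zd2) (kd xd27 yd21 zd35) (kd xd31 yd20 zd43) (kd xd27 yd4 zd5) (kd xd15 yd23 zd3) (kd xd31 yd36 zd0) (kd xd31 yd29 zd38) (kd xd15 yd23 zd5) (kd xd25 yd50 zd0) (kd xd16 yd26 zd58) (kd xd24 yd41 zd52) (kd xd24 yd41 zd57) (kd xd15 yd23 zd7) (kd xd20 yd4 zd9) (kd xd25 yd49 zd28) (kd xd16 yd21 zd52) (kd xd31 yd49 zd54) (kd xd31 yd49 zd55) (kd xd15 yd23 zd12) (kd xd31 yd43 zd49) (kd xd25 yd32 zd49) (kd xd17 yd39 zd27) (kd xd15 yd23 zd15) (kd xd21 yd50 zd55) (kd xd15 yd23 zd16)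 (kd xd24 yd41 zd2) (kd xd25 yd6 zd3) (kd xd15 yd23 zd18) (kd xd22 yd11 zd13) (kd xd15 yd23 zd19) (kd xd16 yd8 zd21) (kd xd26 yd13 zd61) (kd xd15 yd23 zd22) (kd xd15 yd49 zd3) (kd xd20 yd3 zd43) (kd xd15 yd23 zd30) (kd xd15 yd23 zd25) (kd xd24 yd53 zd60) (kd xd27 yd26 zd43) (kd xd16 yd17 zd20) (kd xd24 yd54 zd1) (kd xd15 yd23 zd28) (kd xd27 yd24 zd55) (kd xd16 yd17 zd31) (kd xd27 yd31 zd33) (kd xd31 yd49 zd61) (kd xd15 yd23 zd32) (kd xd27 yd51 zd21) (kd xd23 yd33 zd44) (kd xd23 yd25 zd54) (kd xd26 yd7 zd41) (kd xd27 yd27 zd57) (kd xd21 yd37 zd5) (kd xd27 yd39 zd26) (kd xd28 yd13 zd7) (kd xd15 yd23 zd38) (kd xd28 yd13 zd52)) (@D3.rec (fun _ => Pt) (kd xd24 yd28 zd37) (kd xd22 yd34 zd25) (kd xd15 yd23 zd40) (kd xd30 yd43 zd42) (kd xd26 yd49 zd55) (kd xd29 yd29 zd37) (kd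 xd20 yd34 zd1) (kd xd18 yd45 zd16) (kd xd15 yd23 zd45) (kd xd28 yd20 zd18) (kd xd15 yd23 zd46) (kd xd15 yd23 zd47) (kd xd15 yd26 zd22) (kd xd15 yd26 zd33) (kd xd15 yd23 zd49) (kd xd31 yd39 zd4) (kd xd28 yd11 zd14) (kd xd28 yd27 zd11) (kd xd18 yd32 zd14) (kd xd28 yd4 zd14) (kd xd28 yd12 zd6) (kd xd31 yd44 zd15) (kd xd30 yd12 zd16) (kd xd31 yd1 zd46) (kd xd18 yd42 zd40) (kd xd28 yd12 zd23) (kd xd15 yd47 zd31) (kd xd26 yd30 zd56) (kd xd16 yd32 zd48) (kd xd16 yd33 zd10) (kd xd15 yd23 zd60) (kd xd29 yd50 zd23) (kd xd19 yd15 zd4) (kd xd18 yd17 zd39) (kd xd17 yd48 zd19) (kd xd26 yd55 zd9) (kd xd27 yd37 zd30) (kd xd15 yd24 zd2) (kd xd15 yd24 zd4) (kd xd28 yd19 zd16) (kd xd31 yd50 zd3) (kd xd16 yd8 zd49) (kd xd25 yd18 zd61) (kd xd21 yd59 zd22) (kd xd15 yd36 zd22) (kd xd20 yd14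 zd33) (kd xd25 yd17 zd29) (kd xd16 yd59 zd61) (kd xd15 yd24 zd19) (kd xd20 yd49 zd3) (kd xd17 yd48 zd43) (kd xd27 yd20 zd36) (kd xd17 yd48 zd53) (kd xd23 yd52 zd28) (kd xd15 yd24 zd36) (kd xd27 yd32 zd1) (kd xd16 yd0 zd17) (kd xd22 yd10 zd30) (kd xd19 yd17 zd15) (kd xd21 yd25 zd43) (kd xd21 yd51 zd14) (kd xd29 yd52 zd23)) (@D3.rec (fun _ => Pt) (kd xd15 yd24 zd45) (kd xd22 yd9 zd59) (kd xd16 yd0 zd7) (kd xd29 yd13 zd61) (kd xd15 yd24 zd50) (kd xd18 yd25 zd43) (kd xd15 yd25 zd11) (kd xd15 yd25 zd12) (kd xd15 yd25 zd9) (kd xd24 yd41 zd39) (kd xd27 yd38 zd5) (kd xd27 yd38 zd53) (kd xd18 yd57 zd39) (kd xd29 yd39 zd30) (kd xd15 yd24 zd59) (kd xd21 yd45 zd47) (kd xd18 yd15 zd30) (kd xd15 yd25 zd1) (kd xd18 yd38 zd4) (kd xd26 yd59 zd11) (kd xd15 yd25 zd5) (kd xd19 yd35 zd45)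 (kd xd29 yd22 zd10) (kd xd29 yd21 zd45) (kd xd21 yd52 zd5) (kd xd17 yd41 zd54) (kd xd20 yd12 zd16) (kd xd15 yd25 zd13) (kd xd20 yd49 zd1) (kd xd25 yd16 zd46) (kd xd30 yd33 zd40) (kd xd19 yd48 zd38) (kd xd29 yd22 zd19) (kd xd15 yd25 zd15) (kd xd29 yd37 zd51) (kd xd18 yd17 zd42) (kd xd25 yd18 zd55) (kd xd17 yd56 zd30) (kd xd27 yd1 zd28) (kd xd15 yd25 zd22) (kd xd29 yd22 zd32) (kd xd15 yd25 zd31) (kd xd15 yd25 zd32) (kd xd15 yd25 zd33) (kd xd31 yd40 zd38) (kd xd15 yd25 zd37) (kd xd18 yd0 zd22) (kd xd17 yd49 zd5) (kd xd15 yd25 zd47) (kd xd31 yd50 zd16) (kd xd20 yd19 zd55) (kd xd20 yd20 zd51) (kd xd18 yd2 zd11) (kd xd22 yd10 zd44) (kd xd17 yd16 zd13) (kd xd21 yd59 zd4) (kd xd18 yd25 zd36) (kd xd15 yd25 zd58) (kd xd17 yd5 zd14) (kd xd20 yd16 zd8) (kd xd15 yd26 zd0) (kd xd31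 yd50 zd17)) (@D3.rec (fun _ => Pt) (kd xd15 yd26 zd1) (kd xd18 yd6 zd51) (kd xd31 yd50 zd21) (kd xd15 yd26 zd4) (kd xd15 yd26 zd5) (kd xd20 yd25 zd25) (kd xd17 yd6 zd57) (kd xd16 yd13 zd54) (kd xd28 yd38 zd42) (kd xd18 yd21 zd7) (kd xd20 yd41 zd12) (kd xd20 yd7 zd23) (kd xd26 yd27 zd50) (kd xd19 yd1 zd17) (kd xd15 yd26 zd23) (kd xd22 yd34 zd23) (kd xd20 yd30 zd20) (kd xd15 yd26 zd26) (kd xd20 yd24 zd48) (kd xd19 yd33 zd59) (kd xd15 yd26 zd30) (kd xd21 yd10 zd43) (kd xd30 yd54 zd39) (kd xd29 yd19 zd16) (kd xd20 yd18 zd26) (kd xd15 yd26 zd34) (kd xd31 yd50 zd25) (kd xd31 yd15 zd52) (kd xd15 yd26 zd37) (kd xd22 yd49 zd60) (kd xd18 yd45 zd7) (kd xd15 yd26 zd39) (kd xd31 yd50 zd27) (kd xd16 yd46 zd41) (kd xd29 yd8 zd23) (kd xd15 yd26 zd53) (kd xd29 yd12 zd57) (kd xd22 yd6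 zd44) (kd xd18 yd52 zd23) (kd xd24 yd28 zd47) (kd xd21 yd44 zd41) (kd xd24 yd28 zd17) (kd xd30 yd39 zd13) (kd xd29 yd48 zd5) (kd xd23 yd59 zd54) (kd xd15 yd27 zd1) (kd xd19 yd34 zd38) (kd xd15 yd27 zd3) (kd xd27 yd10 zd33) (kd xd21 yd59 zd59) (kd xd15 yd27 zd4) (kd xd31 yd14 zd21) (kd xd15 yd27 zd8) (kd xd20 yd59 zd24) (kd xd29 yd19 zd10) (kd xd25 yd17 zd36) (kd xd20 yd15 zd41) (kd xd31 yd50 zd36) (kd xd27 yd36 zd21) (kd xd15 yd27 zd16) (kd xd16 yd48 zd38) (kd xd25 yd16 zd42)) (@D3.rec (fun _ => Pt) (kd xd20 yd57 zd42) (kd xd15 yd27 zd23) (kd xd16 yd7 zd32) (kd xd16 yd7 zd33) (kd xd21 yd1 zd0) (kd xd17 yd32 zd41) (kd xd17 yd34 zd26) (kd xd27 yd38 zd20) (kd xd16 yd12 zd55) (kd xd16 yd12 zd54) (kd xd22 yd7 zd35) (kd xd28 yd51 zd50) (kd xd21 yd2 zd8) (kd xd22 yd7 zd34)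 (kd xd15 yd30 zd12) (kd xd31 yd50 zd44) (kd xd31 yd50 zd45) (kd xd31 yd50 zd48) (kd xd15 yd27 zd32) (kd xd31 yd40 zd16) (kd xd15 yd29 zd9) (kd xd25 yd53 zd2) (kd xd30 yd34 zd26) (kd xd25 yd53 zd4) (kd xd15 yd29 zd12) (kd xd29 yd14 zd0) (kd xd31 yd39 zd38) (kd xd15 yd27 zd37) (kd xd27 yd22 zd51) (kd xd21 yd52 zd9) (kd xd24 yd49 zd1) (kd xd31 yd50 zd56) (kd xd29 yd11 zd10) (kd xd25 yd9 zd16) (kd xd24 yd49 zd5) (kd xd15 yd27 zd41) (kd xd19 yd9 zd16) (kd xd19 yd9 zd17) (kd xd18 yd28 zd35) (kd xd17 yd46 zd54) (kd xd29 yd5 zd54) (kd xd15 yd27 zd52) (kd xd26 yd48 zd38) (kd xd22 yd7 zd51) (kd xd22 yd7 zd52) (kd xd25 yd20 zd45) (kd xd15 yd27 zd56) (kd xd24 yd48 zd43) (kd xd17 yd50 zd1) (kd xd30 yd0 zd4) (kd xd31 yd28 zd17) (kd xd15 yd27 zd61) (kd xd27 yd14 zd8) (kd xd24 yd52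 zd38) (kd xd25 yd20 zd40) (kd xd15 yd28 zd1) (kd xd31 yd51 zd1) (kd xd26 yd7 zd43) (kd xd31 yd51 zd2) (kd xd31 yd21 zd26) (kd xd15 yd28 zd4) (kd xd15 yd28 zd28)) (@D3.rec (fun _ => Pt) (kd xd19 yd42 zd47) (kd xd24 yd51 zd12) (kd xd29 yd58 zd53) (kd xd15 yd28 zd6) (kd xd30 yd19 zd24) (kd xd27 yd36 zd60) (kd xd29 yd7 zd19) (kd xd19 yd32 zd59) (kd xd24 yd48 zd49) (kd xd27 yd1 zd32) (kd xd15 yd28 zd10) (kd xd31 yd41 zd46) (kd xd24 yd18 zd46) (kd xd22 yd6 zd47) (kd xd20 yd57 zd61) (kd xd20 yd58 zd26) (kd xd24 yd1 zd5) (kd xd25 yd23 zd31) (kd xd24 yd18 zd42) (kd xd31 yd41 zd29) (kd xd27 yd35 zd43) (kd xd24 yd1 zd25) (kd xd15 yd28 zd48) (kd xd19 yd20 zd34) (kd xd15 yd28 zd21) (kd xd24 yd3 zd56) (kd xd31 yd51 zd11) (kd xd15 yd28 zd22) (kd xd28 yd51 zd48) (kd xd31 yd36 zd60)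 (kd xd15 yd28 zd23) (kd xd25 yd21 zd2) (kd xd24 yd50 zd46) (kd xd27 yd37 zd0) (kd xd29 yd20 zd17) (kd xd15 yd28 zd25) (kd xd15 yd28 zd26) (kd xd19 yd16 zd32) (kd xd22 yd5 zd42) (kd xd22 yd5 zd44) (kd xd25 yd19 zd54) (kd xd31 yd51 zd23) (kd xd15 yd28 zd29) (kd xd27 yd3 zd37) (kd xd24 yd19 zd13) (kd xd25 yd19 zd45) (kd xd28 yd13 zd10) (kd xd31 yd51 zd25) (kd xd31 yd51 zd28) (kd xd31 yd51 zd30) (kd xd31 yd51 zd31) (kd xd15 yd28 zd34) (kd xd31 yd51 zd34) (kd xd19 yd11 zd14) (kd xd31 yd41 zd1) (kd xd31 yd51 zd38) (kd xd31 yd51 zd40) (kd xd15 yd28 zd37) (kd xd31 yd51 zd44) (kd xd31 yd51 zd45) (kd xd15 yd28 zd38) (kd xd31 yd51 zd46)) (@D3.rec (fun _ => Pt) (kd xd15 yd28 zd39) (kd xd24 yd50 zd24) (kd xd25 yd20 zd31) (kd xd29 yd28 zd53) (kd xd15 yd28 zd41) (kd xd30 yd21 zd27)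 (kd xd15 yd28 zd42) (kd xd15 yd28 zd44) (kd xd17 yd23 zd14) (kd xd31 yd43 zd37) (kd xd24 yd52 zd16) (kd xd20 yd26 zd45) (kd xd31 yd51 zd56) (kd xd15 yd28 zd52) (kd xd31 yd51 zd58) (kd xd29 yd43 zd32) (kd xd29 yd43 zd31) (kd xd15 yd28 zd53) (kd xd29 yd36 zd16) (kd xd15 yd28 zd54) (kd xd24 yd4 zd34) (kd xd31 yd52 zd2) (kd xd15 yd28 zd55) (kd xd26 yd53 zd39) (kd xd15 yd28 zd57) (kd xd19 yd59 zd27) (kd xd15 yd28 zd58) (kd xd17 yd14 zd50) (kd xd19 yd38 zd15) (kd xd29 yd44 zd46) (kd xd31 yd52 zd7) (kd xd31 yd52 zd10) (kd xd31 yd52 zd12) (kd xd15 yd29 zd0) (kd xd31 yd52 zd16) (kd xd20 yd55 zd48) (kd xd31 yd41 zd5) (kd xd31 yd52 zd19) (kd xd31 yd52 zd21) (kd xd15 yd29 zd2) (kd xd31 yd52 zd24) (kd xd16 yd9 zd37) (kd xd17 yd24 zd24) (kd xd15 yd29 zd4) (kd xd31 yd52 zd29) (kd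 xd31 yd52 zd31) (kd xd15 yd29 zd5) (kd xd31 yd52 zd36) (kd xd22 yd21 zd39) (kd xd15 yd29 zd7) (kd xd15 yd29 zd8) (kd xd26 yd41 zd9) (kd xd17 yd34 zd31) (kd xd31 yd52 zd38) (kd xd20 yd23 zd39) (kd xd31 yd52 zd41) (kd xd31 yd52 zd43) (kd xd15 yd29 zd11) (kd xd28 yd55 zd23) (kd xd16 yd13 zd11) (kd xd15 yd29 zd13) (kd xd29 yd27 zd17)) (@D3.rec (fun _ => Pt) (kd xd24 yd48 zd52) (kd xd20 yd12 zd5) (kd xd27 yd22 zd41) (kd xd24 yd1 zd23) (kd xd27 yd22 zd49) (kd xd27 yd22 zd42) (kd xd29 yd13 zd41) (kd xd29 yd4 zd44) (kd xd31 yd52 zd46) (kd xd19 yd44 zd15) (kd xd24 yd48 zd54) (kd xd31 yd51 zd35) (kd xd26 yd9 zd50) (kd xd15 yd29 zd21) (kd xd29 yd35 zd58) (kd xd31 yd52 zd51) (kd xd21 yd40 zd43) (kd xd15 yd29 zd23) (kd xd31 yd52 zd54) (kd xd31 yd24 zd0) (kd xd29 yd2 zd19) (kd xd15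 yd29 zd24) (kd xd28 yd51 zd24) (kd xd19 yd1 zd7) (kd xd19 yd1 zd8) (kd xd20 yd55 zd24) (kd xd19 yd31 zd41) (kd xd19 yd54 zd59) (kd xd16 yd41 zd13) (kd xd16 yd37 zd34) (kd xd15 yd29 zd27) (kd xd28 yd57 zd30) (kd xd16 yd37 zd35) (kd xd15 yd29 zd28) (kd xd31 yd52 zd58) (kd xd19 yd42 zd50) (kd xd29 yd36 zd4) (kd xd29 yd15 zd4) (kd xd15 yd29 zd30) (kd xd28 yd59 zd18) (kd xd15 yd29 zd31) (kd xd19 yd58 zd19) (kd xd25 yd13 zd45) (kd xd26 yd41 zd22) (kd xd22 yd7 zd42) (kd xd20 yd5 zd25) (kd xd22 yd7 zd43) (kd xd15 yd46 zd51) (kd xd23 yd32 zd20) (kd xd15 yd29 zd44) (kd xd24 yd58 zd5) (kd xd24 yd58 zd6) (kd xd31 yd43 zd41) (kd xd21 yd46 zd0) (kd xd21 yd5 zd40) (kd xd25 yd56 zd55) (kd xd25 yd49 zd51) (kd xd24 yd19 zd1) (kd xd31 yd26 zd54) (kd xd31 yd53 zd0) (kd xd31 yd53 zd1) (kd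 xd15 yd29 zd53)) (@D3.rec (fun _ => Pt) (kd xd31 yd53 zd5) (kd xd15 yd53 zd58) (kd xd25 yd6 zd58) (kd xd31 yd44 zd31) (kd xd27 yd17 zd46) (kd xd21 yd52 zd15) (kd xd15 yd29 zd55) (kd xd19 yd50 zd40) (kd xd15 yd29 zd57) (kd xd29 yd50 zd13) (kd xd15 yd29 zd59) (kd xd30 yd40 zd56) (kd xd31 yd10 zd42) (kd xd15 yd29 zd60) (kd xd21 yd18 zd26) (kd xd15 yd29 zd61) (kd xd21 yd18 zd20) (kd xd16 yd50 zd30) (kd xd15 yd30 zd1) (kd xd15 yd30 zd2) (kd xd31 yd2 zd58) (kd xd15 yd30 zd3) (kd xd26 yd12 zd17) (kd xd16 yd7 zd23) (kd xd31 yd53 zd11) (kd xd15 yd30 zd6) (kd xd19 yd14 zd53) (kd xd20 yd0 zd58) (kd xd31 yd53 zd13) (kd xd21 yd57 zd46) (kd xd15 yd30 zd15) (kd xd25 yd20 zd17) (kd xd28 yd59 zd44) (kd xd31 yd53 zd15) (kd xd31 yd53 zd16) (kd xd15 yd30 zd18) (kd xd31 yd53 zd18) (kd xd20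 yd36 zd40) (kd xd15 yd30 zd22) (kd xd28 yd33 zd28) (kd xd15 yd30 zd27) (kd xd24 yd22 zd50) (kd xd15 yd30 zd32) (kd xd18 yd25 zd48) (kd xd18 yd25 zd50) (kd xd20 yd58 zd37) (kd xd19 yd39 zd58) (kd xd18 yd15 zd38) (kd xd26 yd5 zd30) (kd xd15 yd30 zd42) (kd xd21 yd51 zd4) (kd xd28 yd20 zd2) (kd xd28 yd20 zd3) (kd xd18 yd55 zd41) (kd xd18 yd55 zd44) (kd xd17 yd48 zd47) (kd xd15 yd30 zd58) (kd xd18 yd12 zd30) (kd xd29 yd30 zd30) (kd xd25 yd26 zd29) (kd xd15 yd31 zd0) (kd xd23 yd58 zd2)) (@D3.rec (fun _ => Pt) (kd xd28 yd32 zd51) (kd xd29 yd20 zd35) (kd xd15 yd31 zd1) (kd xd28 yd5 zd8) (kd xd28 yd5 zd9) (kd xd28 yd22 zd2) (kd xd17 yd10 zd37) (kd xd15 yd31 zd5) (kd xd15 yd31 zd6) (kd xd26 yd15 zd49) (kd xd31 yd17 zd38) (kd xd15 yd31 zd7) (kd xd24 yd34 zd47) (kd xd15 yd31 zd10)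 (kd xd19 yd46 zd6) (kd xd19 yd46 zd4) (kd xd15 yd31 zd11) (kd xd19 yd53 zd39) (kd xd15 yd33 zd5) (kd xd31 yd45 zd44) (kd xd31 yd3 zd50) (kd xd31 yd21 zd55) (kd xd19 yd37 zd30) (kd xd19 yd45 zd8) (kd xd30 yd43 zd32) (kd xd15 yd31 zd21) (kd xd23 yd24 zd23) (kd xd15 yd32 zd20) (kd xd15 yd32 zd21) (kd xd25 yd39 zd32) (kd xd31 yd1 zd45) (kd xd27 yd19 zd61) (kd xd15 yd31 zd28) (kd xd30 yd43 zd29) (kd xd15 yd31 zd29) (kd xd19 yd34 zd50) (kd xd15 yd37 zd11) (kd xd22 yd1 zd57) (kd xd17 yd27 zd34) (kd xd17 yd27 zd9) (kd xd15 yd31 zd33) (kd xd26 yd24 zd45) (kd xd15 yd31 zd34) (kd xd15 yd31 zd35) (kd xd19 yd24 zd61) (kd xd31 yd45 zd31) (kd xd30 yd33 zd47) (kd xd22 yd2 zd60) (kd xd29 yd49 zd18) (kd xd31 yd53 zd31) (kd xd30 yd3 zd52) (kd xd15 yd31 zd44) (kd xd22 yd2 zd59) (kd xd19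 yd40 zd52) (kd xd24 yd4 zd23) (kd xd24 yd4 zd24) (kd xd15 yd31 zd50) (kd xd18 yd52 zd25) (kd xd29 yd47 zd55) (kd xd29 yd3 zd47) (kd xd29 yd3 zd46) (kd xd17 yd28 zd20)) (@D3.rec (fun _ => Pt) (kd xd18 yd52 zd34) (kd xd27 yd23 zd42) (kd xd16 yd7 zd0) (kd xd15 yd46 zd26) (kd xd15 yd38 zd44) (kd xd15 yd43 zd5) (kd xd27 yd50 zd45) (kd xd28 yd10 zd39) (kd xd25 yd25 zd34) (kd xd22 yd24 zd31) (kd xd15 yd31 zd56) (kd xd27 yd13 zd55) (kd xd29 yd0 zd4) (kd xd26 yd39 zd18) (kd xd19 yd36 zd27) (kd xd19 yd39 zd9) (kd xd15 yd31 zd60) (kd xd19 yd34 zd61) (kd xd15 yd32 zd1) (kd xd18 yd39 zd7) (kd xd19 yd59 zd2) (kd xd29 yd26 zd4) (kd xd15 yd32 zd5) (kd xd23 yd28 zd59) (kd xd31 yd53 zd40) (kd xd15 yd32 zd7) (kd xd27 yd56 zd37) (kd xd28 yd15 zd1) (kd xd28 yd10 zd3) (kd xd20 yd38 zd28)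 (kd xd23 yd7 zd20) (kd xd28 yd10 zd1) (kd xd18 yd55 zd0) (kd xd18 yd55 zd1) (kd xd25 yd25 zd8) (kd xd15 yd32 zd12) (kd xd15 yd32 zd14) (kd xd18 yd53 zd16) (kd xd18 yd53 zd17) (kd xd20 yd11 zd53) (kd xd15 yd32 zd18) (kd xd15 yd32 zd19) (kd xd23 yd0 zd56) (kd xd31 yd53 zd28) (kd xd30 yd11 zd17) (kd xd15 yd32 zd22) (kd xd15 yd32 zd28) (kd xd26 yd1 zd1) (kd xd27 yd23 zd5) (kd xd27 yd23 zd4) (kd xd25 yd12 zd19) (kd xd15 yd32 zd29) (kd xd17 yd12 zd39) (kd xd17 yd20 zd28) (kd xd25 yd55 zd6) (kd xd15 yd32 zd35) (kd xd26 yd22 zd52) (kd xd15 yd32 zd37) (kd xd16 yd27 zd30) (kd xd15 yd32 zd39) (kd xd15 yd32 zd40) (kd xd25 yd29 zd55)) (@D3.rec (fun _ => Pt) (kd xd18 yd52 zd33) (kd xd15 yd58 zd47) (kd xd25 yd33 zd15) (kd xd15 yd32 zd42) (kd xd15 yd57 zd0) (kd xd22 yd48 zd11) (kd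 xd30 yd47 zd42) (kd xd18 yd52 zd24) (kd xd30 yd54 zd46) (kd xd15 yd59 zd22) (kd xd25 yd4 zd36) (kd xd15 yd32 zd54) (kd xd25 yd29 zd36) (kd xd22 yd54 zd34) (kd xd27 yd6 zd20) (kd xd30 yd6 zd47) (kd xd29 yd18 zd25) (kd xd19 yd31 zd34) (kd xd24 yd47 zd56) (kd xd15 yd32 zd59) (kd xd27 yd17 zd30) (kd xd25 yd29 zd35) (kd xd24 yd47 zd57) (kd xd20 yd50 zd33) (kd xd18 yd45 zd54) (kd xd31 yd53 zd56) (kd xd18 yd45 zd55) (kd xd18 yd12 zd0) (kd xd28 yd5 zd36) (kd xd25 yd23 zd59) (kd xd15 yd33 zd1) (kd xd27 yd54 zd47) (kd xd18 yd51 zd3) (kd xd31 yd26 zd52) (kd xd31 yd26 zd23) (kd xd15 yd33 zd3) (kd xd24 yd15 zd18) (kd xd24 yd17 zd24) (kd xd19 yd46 zd9) (kd xd19 yd46 zd8) (kd xd19 yd35 zd46) (kd xd18 yd53 zd9) (kd xd18 yd53 zd10) (kd xd18 yd54 zd19) (kd xd31 yd54 zd2) (kd xd27 yd16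 zd24) (kd xd15 yd33 zd9) (kd xd27 yd14 zd40) (kd xd15 yd33 zd10) (kd xd25 yd4 zd37) (kd xd15 yd33 zd13) (kd xd25 yd5 zd57) (kd xd25 yd36 zd55) (kd xd25 yd55 zd53) (kd xd15 yd33 zd20) (kd xd25 yd47 zd40) (kd xd15 yd34 zd33) (kd xd15 yd34 zd34) (kd xd24 yd8 zd4) (kd xd21 yd46 zd35) (kd xd15 yd33 zd26) (kd xd15 yd33 zd47)) (@D3.rec (fun _ => Pt) (kd xd27 yd37 zd55) (kd xd29 yd56 zd54) (kd xd15 yd33 zd29) (kd xd31 yd47 zd58) (kd xd27 yd18 zd17) (kd xd15 yd33 zd30) (kd xd15 yd33 zd31) (kd xd31 yd36 zd40) (kd xd15 yd33 zd33) (kd xd15 yd33 zd34) (kd xd31 yd54 zd8) (kd xd19 yd39 zd33) (kd xd25 yd33 zd5) (kd xd27 yd18 zd12) (kd xd15 yd33 zd38) (kd xd22 yd4 zd50) (kd xd15 yd33 zd58) (kd xd17 yd39 zd5) (kd xd17 yd32 zd6) (kd xd22 yd11 zd24) (kd xd15 yd33 zd41) (kd xd15 yd38 zd61)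 (kd xd28 yd49 zd0) (kd xd15 yd33 zd43) (kd xd29 yd17 zd18) (kd xd15 yd33 zd44) (kd xd23 yd0 zd36) (kd xd25 yd47 zd6) (kd xd15 yd33 zd48) (kd xd24 yd16 zd48) (kd xd15 yd33 zd50) (kd xd15 yd33 zd51) (kd xd31 yd31 zd27) (kd xd28 yd42 zd37) (kd xd15 yd33 zd52) (kd xd15 yd36 zd52) (kd xd15 yd58 zd23) (kd xd19 yd38 zd29) (kd xd15 yd33 zd55) (kd xd15 yd33 zd60) (kd xd30 yd27 zd45) (kd xd17 yd37 zd51) (kd xd17 yd57 zd36) (kd xd25 yd55 zd61) (kd xd25 yd56 zd0) (kd xd15 yd34 zd0) (kd xd22 yd20 zd55) (kd xd27 yd2 zd55) (kd xd15 yd37 zd20) (kd xd25 yd31 zd35) (kd xd19 yd36 zd2) (kd xd28 yd15 zd41) (kd xd27 yd48 zd28) (kd xd15 yd52 zd60) (kd xd15 yd34 zd9) (kd xd15 yd34 zd10) (kd xd17 yd50 zd4) (kd xd19 yd49 zd28) (kd xd19 yd49 zd29) (kd xd19 yd37 zd61) (kd xd15 yd58 zd9) (kd xd19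 yd38 zd6)) (@D3.rec (fun _ => Pt) (kd xd27 yd44 zd11) (kd xd24 yd10 zd17) (kd xd15 yd34 zd16) (kd xd31 yd54 zd15) (kd xd27 yd40 zd30) (kd xd15 yd34 zd17) (kd xd26 yd10 zd21) (kd xd29 yd4 zd13) (kd xd31 yd12 zd60) (kd xd30 yd43 zd16) (kd xd28 yd7 zd23) (kd xd15 yd34 zd22) (kd xd21 yd2 zd4) (kd xd31 yd54 zd16) (kd xd31 yd54 zd17) (kd xd15 yd34 zd23) (kd xd28 yd30 zd35) (kd xd26 yd24 zd22) (kd xd31 yd54 zd18) (kd xd15 yd34 zd24) (kd xd29 yd57 zd60) (kd xd22 yd2 zd9) (kd xd31 yd54 zd19) (kd xd15 yd34 zd28) (kd xd24 yd8 zd54) (kd xd15 yd34 zd29) (kd xd31 yd53 zd3) (kd xd20 yd7 zd7) (kd xd22 yd7 zd25) (kd xd25 yd38 zd6) (kd xd27 yd58 zd36) (kd xd31 yd54 zd23) (kd xd30 yd1 zd26) (kd xd27 yd58 zd37) (kd xd19 yd24 zd40) (kd xd18 yd59 zd35) (kd xd26 yd49 zd46) (kd xd15 yd34 zd35)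 (kd xd27 yd15 zd44) (kd xd16 yd18 zd61) (kd xd31 yd54 zd26) (kd xd15 yd34 zd38) (kd xd31 yd54 zd27) (kd xd30 yd53 zd44) (kd xd15 yd34 zd41) (kd xd17 yd37 zd3) (kd xd17 yd37 zd4) (kd xd27 yd25 zd10) (kd xd25 yd35 zd55) (kd xd27 yd27 zd60) (kd xd25 yd34 zd47) (kd xd15 yd34 zd46) (kd xd15 yd37 zd39) (kd xd15 yd37 zd40) (kd xd16 yd1 zd22) (kd xd30 yd0 zd53) (kd xd31 yd0 zd53) (kd xd21 yd6 zd20) (kd xd30 yd42 zd42) (kd xd27 yd48 zd49) (kd xd18 yd30 zd2) (kd xd16 yd8 zd47)) (@D3.rec (fun _ => Pt) (kd xd15 yd34 zd56) (kd xd31 yd50 zd54) (kd xd15 yd34 zd58) (kd xd15 yd36 zd58) (kd xd25 yd34 zd21) (kd xd31 yd50 zd53) (kd xd15 yd34 zd59) (kd xd25 yd34 zd20) (kd xd15 yd34 zd61) (kd xd15 yd35 zd1) (kd xd25 yd48 zd27) (kd xd28 yd23 zd49) (kd xd30 yd53 zd26) (kd xd29 yd47 zd44) (kd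 xd31 yd46 zd32) (kd xd21 yd40 zd0) (kd xd27 yd10 zd59) (kd xd27 yd10 zd60) (kd xd15 yd40 zd34) (kd xd16 yd46 zd40) (kd xd31 yd46 zd38) (kd xd15 yd35 zd18) (kd xd31 yd54 zd34) (kd xd31 yd23 zd24) (kd xd15 yd35 zd19) (kd xd31 yd54 zd36) (kd xd15 yd35 zd20) (kd xd18 yd52 zd15) (kd xd15 yd35 zd23) (kd xd30 yd26 zd53) (kd xd15 yd35 zd24) (kd xd15 yd35 zd25) (kd xd19 yd36 zd32) (kd xd19 yd35 zd36) (kd xd16 yd54 zd57) (kd xd25 yd26 zd21) (kd xd25 yd26 zd12) (kd xd30 yd26 zd54) (kd xd15 yd35 zd28) (kd xd15 yd59 zd51) (kd xd31 yd54 zd39) (kd xd27 yd25 zd39) (kd xd15 yd35 zd29) (kd xd30 yd4 zd24) (kd xd27 yd6 zd14) (kd xd30 yd14 zd17) (kd xd15 yd35 zd31) (kd xd26 yd14 zd9) (kd xd31 yd46 zd39) (kd xd26 yd24 zd24) (kd xd30 yd54 zd60) (kd xd31 yd54 zd42) (kd xd15 yd35 zd33) (kd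 xd24 yd55 zd50) (kd xd15 yd57 zd31) (kd xd25 yd25 zd61) (kd xd15 yd35 zd35) (kd xd31 yd54 zd45) (kd xd17 yd39 zd2) (kd xd31 yd54 zd48) (kd xd31 yd54 zd49) (kd xd15 yd35 zd37)) (@D3.rec (fun _ => Pt) (kd xd29 yd56 zd55) (kd xd15 yd37 zd57) (kd xd17 yd37 zd12) (kd xd25 yd55 zd54) (kd xd25 yd43 zd31) (kd xd25 yd48 zd45) (kd xd31 yd9 zd56) (kd xd31 yd9 zd55) (kd xd15 yd35 zd41) (kd xd31 yd54 zd56) (kd xd27 yd18 zd8) (kd xd15 yd35 zd42) (kd xd15 yd35 zd43) (kd xd25 yd53 zd45) (kd xd15 yd35 zd45) (kd xd15 yd37 zd53) (kd xd31 yd3 zd43) (kd xd15 yd35 zd50) (kd xd21 yd27 zd16) (kd xd25 yd4 zd60) (kd xd25 yd4 zd61) (kd xd27 yd30 zd15) (kd xd15 yd35 zd53) (kd xd31 yd54 zd58) (kd xd15 yd35 zd54) (kd xd25 yd56 zd48) (kd xd29 yd57 zd3) (kd xd27 yd18 zd16) (kd xd25 yd42 zd47) (kd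 xd15 yd35 zd56) (kd xd28 yd32 zd26) (kd xd28 yd17 zd47) (kd xd31 yd55 zd3) (kd xd15 yd35 zd58) (kd xd25 yd53 zd50) (kd xd16 yd0 zd25) (kd xd17 yd28 zd3) (kd xd16 yd0 zd26) (kd xd31 yd54 zd10) (kd xd25 yd54 zd16) (kd xd25 yd54 zd17) (kd xd23 yd9 zd50) (kd xd15 yd35 zd61) (kd xd18 yd47 zd35) (kd xd29 yd36 zd23) (kd xd23 yd32 zd16) (kd xd15 yd36 zd1) (kd xd15 yd36 zd2) (kd xd15 yd36 zd4) (kd xd31 yd55 zd9) (kd xd26 yd4 zd46) (kd xd27 yd15 zd24) (kd xd18 yd46 zd24) (kd xd27 yd10 zd7) (kd xd27 yd13 zd13) (kd xd16 yd0 zd42) (kd xd31 yd54 zd7) (kd xd22 yd33 zd35) (kd xd15 yd36 zd17) (kd xd20 yd47 zd44) (kd xd20 yd47 zd46) (kd xd17 yd24 zd58)) (@D3.rec (fun _ => Pt) (kd xd15 yd36 zd23) (kd xd26 yd33 zd30) (kd xd15 yd36 zd26) (kd xd31 yd55 zd15) (kd xd25 yd35 zd15) (kd xd21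 yd59 zd44) (kd xd17 yd4 zd59) (kd xd17 yd4 zd60) (kd xd16 yd48 zd39) (kd xd23 yd3 zd56) (kd xd15 yd36 zd35) (kd xd17 yd42 zd16) (kd xd17 yd42 zd39) (kd xd31 yd51 zd50) (kd xd15 yd36 zd38) (kd xd19 yd5 zd19) (kd xd22 yd22 zd1) (kd xd15 yd36 zd42) (kd xd30 yd6 zd21) (kd xd26 yd24 zd0) (kd xd19 yd38 zd39) (kd xd19 yd38 zd42) (kd xd25 yd35 zd4) (kd xd15 yd36 zd48) (kd xd28 yd42 zd7) (kd xd28 yd14 zd15) (kd xd28 yd14 zd16) (kd xd25 yd57 zd13) (kd xd24 yd13 zd43) (kd xd24 yd8 zd5) (kd xd23 yd24 zd39) (kd xd31 yd24 zd48) (kd xd21 yd41 zd5) (kd xd24 yd52 zd34) (kd xd27 yd33 zd38) (kd xd25 yd27 zd49) (kd xd30 yd0 zd2) (kd xd15 yd37 zd0) (kd xd27 yd32 zd45) (kd xd15 yd37 zd2) (kd xd26 yd41 zd46) (kd xd15 yd38 zd42) (kd xd25 yd56 zd38) (kd xd27 yd44 zd2) (kd xd17 yd51 zd4) (kd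 xd26 yd32 zd5) (kd xd31 yd55 zd21) (kd xd15 yd37 zd7) (kd xd29 yd34 zd59) (kd xd15 yd37 zd10) (kd xd25 yd33 zd22) (kd xd15 yd37 zd13) (kd xd31 yd21 zd39) (kd xd15 yd37 zd14) (kd xd25 yd33 zd41) (kd xd16 yd2 zd27) (kd xd25 yd34 zd22) (kd xd25 yd51 zd48) (kd xd25 yd33 zd43) (kd xd28 yd58 zd9) (kd xd28 yd52 zd41) (kd xd25 yd57 zd25)) (@D3.rec (fun _ => Pt) (kd xd29 yd38 zd1) (kd xd22 yd8 zd25) (kd xd31 yd55 zd27) (kd xd25 yd56 zd9) (kd xd31 yd55 zd28) (kd xd31 yd55 zd29) (kd xd15 yd37 zd21) (kd xd19 yd29 zd3) (kd xd17 yd28 zd24) (kd xd31 yd47 zd21) (kd xd15 yd37 zd23) (kd xd16 yd2 zd20) (kd xd25 yd34 zd26) (kd xd25 yd51 zd39) (kd xd24 yd24 zd7) (kd xd15 yd37 zd25) (kd xd28 yd49 zd2) (kd xd16 yd1 zd10) (kd xd15 yd37 zd27) (kd xd30 yd30 zd10) (kd xd15 yd37 zd28) (kd xd29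 yd40 zd25) (kd xd15 yd37 zd29) (kd xd19 yd28 zd20) (kd xd31 yd55 zd39) (kd xd31 yd55 zd42) (kd xd31 yd30 zd53) (kd xd15 yd37 zd31) (kd xd31 yd55 zd45) (kd xd15 yd56 zd26) (kd xd29 yd45 zd27) (kd xd15 yd37 zd38) (kd xd15 yd37 zd33) (kd xd16 yd46 zd21) (kd xd15 yd37 zd34) (kd xd15 yd37 zd35) (kd xd15 yd37 zd36) (kd xd22 yd1 zd47) (kd xd29 yd34 zd23) (kd xd20 yd43 zd59) (kd xd27 yd22 zd46) (kd xd17 yd41 zd15) (kd xd15 yd37 zd41) (kd xd17 yd38 zd28) (kd xd17 yd38 zd29) (kd xd27 yd24 zd37) (kd xd21 yd33 zd56) (kd xd21 yd59 zd12) (kd xd20 yd3 zd31) (kd xd25 yd15 zd25) (kd xd31 yd17 zd3) (kd xd15 yd37 zd49) (kd xd27 yd20 zd4) (kd xd26 yd48 zd7) (kd xd15 yd37 zd51) (kd xd29 yd0 zd34) (kd xd21 yd2 zd14) (kd xd15 yd37 zd52) (kd xd31 yd25 zd58) (kd xd15 yd37 zd55) (kd xd31 yd55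 zd54) (kd xd15 yd37 zd58)) (@D3.rec (fun _ => Pt) (kd xd17 yd37 zd47) (kd xd24 yd23 zd0) (kd xd25 yd11 zd60) (kd xd15 yd37 zd60) (kd xd24 yd37 zd31) (kd xd25 yd27 zd12) (kd xd21 yd39 zd34) (kd xd16 yd6 zd61) (kd xd15 yd47 zd1) (kd xd25 yd14 zd17) (kd xd20 yd43 zd18) (kd xd15 yd38 zd2) (kd xd22 yd21 zd18) (kd xd21 yd58 zd2) (kd xd30 yd40 zd45) (kd xd25 yd26 zd2) (kd xd15 yd58 zd33) (kd xd25 yd7 zd47) (kd xd19 yd35 zd44) (kd xd19 yd35 zd48) (kd xd24 yd58 zd44) (kd xd15 yd38 zd9) (kd xd25 yd31 zd50) (kd xd29 yd6 zd59) (kd xd15 yd38 zd10) (kd xd22 yd9 zd9) (kd xd28 yd19 zd41) (kd xd31 yd55 zd60) (kd xd15 yd38 zd12) (kd xd25 yd49 zd24) (kd xd25 yd11 zd4) (kd xd21 yd49 zd27) (kd xd28 yd30 zd34) (kd xd28 yd42 zd35) (kd xd15 yd38 zd15) (kd xd21 yd0 zd28) (kd xd28 yd59 zd40)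 (kd xd21 yd0 zd29) (kd xd15 yd58 zd21) (kd xd28 yd59 zd42) (kd xd15 yd58 zd22) (kd xd25 yd31 zd54) (kd xd28 yd59 zd43) (kd xd25 yd31 zd58) (kd xd19 yd38 zd19) (kd xd19 yd35 zd32) (kd xd15 yd38 zd20) (kd xd19 yd38 zd35) (kd xd25 yd57 zd58) (kd xd25 yd9 zd45) (kd xd16 yd42 zd53) (kd xd20 yd3 zd25) (kd xd27 yd30 zd22) (kd xd31 yd54 zd12) (kd xd19 yd24 zd33) (kd xd27 yd37 zd31) (kd xd17 yd50 zd56) (kd xd22 yd3 zd6) (kd xd17 yd49 zd41) (kd xd27 yd35 zd3) (kd xd18 yd58 zd13) (kd xd27 yd39 zd61)) (@D3.rec (fun _ => Pt) (kd xd15 yd38 zd40) (kd xd23 yd0 zd27) (kd xd19 yd50 zd29) (kd xd31 yd43 zd45) (kd xd21 yd1 zd49) (kd xd15 yd38 zd46) (kd xd22 yd54 zd16) (kd xd17 yd51 zd3) (kd xd21 yd39 zd27) (kd xd17 yd51 zd1) (kd xd19 yd17 zd18) (kd xd19 yd17 zd17) (kd xd31 yd24 zd59) (kd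 xd22 yd53 zd29) (kd xd22 yd54 zd17) (kd xd26 yd41 zd44) (kd xd31 yd23 zd30) (kd xd15 yd38 zd55) (kd xd27 yd10 zd9) (kd xd15 yd38 zd58) (kd xd25 yd29 zd7) (kd xd25 yd29 zd4) (kd xd25 yd31 zd56) (kd xd15 yd44 zd11) (kd xd15 yd58 zd52) (kd xd31 yd27 zd11) (kd xd25 yd32 zd12) (kd xd15 yd39 zd6) (kd xd21 yd39 zd11) (kd xd24 yd25 zd48) (kd xd31 yd35 zd46) (kd xd22 yd38 zd10) (kd xd31 yd33 zd41) (kd xd15 yd39 zd14) (kd xd23 yd20 zd48) (kd xd29 yd22 zd8) (kd xd19 yd47 zd59) (kd xd15 yd39 zd17) (kd xd15 yd39 zd18) (kd xd25 yd58 zd15) (kd xd25 yd51 zd8) (kd xd31 yd53 zd32) (kd xd28 yd42 zd21) (kd xd15 yd39 zd23) (kd xd21 yd56 zd7) (kd xd24 yd24 zd16) (kd xd31 yd18 zd18) (kd xd25 yd28 zd50) (kd xd28 yd56 zd54) (kd xd15 yd39 zd29) (kd xd29 yd6 zd48) (kd xd15 yd39 zd30) (kd xd31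 yd56 zd16) (kd xd25 yd49 zd7) (kd xd24 yd24 zd21) (kd xd15 yd39 zd31) (kd xd24 yd11 zd11) (kd xd31 yd28 zd53) (kd xd28 yd41 zd51) (kd xd15 yd39 zd33) (kd xd15 yd39 zd34) (kd xd20 yd59 zd1)) (@D3.rec (fun _ => Pt) (kd xd24 yd58 zd21) (kd xd25 yd9 zd21) (kd xd25 yd4 zd26) (kd xd28 yd59 zd57) (kd xd25 yd31 zd22) (kd xd19 yd38 zd7) (kd xd15 yd39 zd46) (kd xd15 yd39 zd47) (kd xd15 yd39 zd49) (kd xd15 yd39 zd50) (kd xd28 yd15 zd21) (kd xd26 yd7 zd61) (kd xd17 yd50 zd5) (kd xd29 yd48 zd34) (kd xd29 yd28 zd13) (kd xd25 yd31 zd4) (kd xd25 yd47 zd46) (kd xd22 yd10 zd46) (kd xd22 yd2 zd13) (kd xd25 yd47 zd58) (kd xd15 yd51 zd36) (kd xd22 yd25 zd15) (kd xd22 yd16 zd34) (kd xd15 yd39 zd59) (kd xd24 yd17 zd18) (kd xd15 yd39 zd60) (kd xd29 yd50 zd58) (kd xd22 yd9 zd16) (kd xd23 yd28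 zd28) (kd xd15 yd40 zd1) (kd xd25 yd6 zd9) (kd xd15 yd58 zd57) (kd xd15 yd47 zd11) (kd xd15 yd40 zd10) (kd xd31 yd35 zd11) (kd xd16 yd1 zd49) (kd xd31 yd35 zd9) (kd xd15 yd40 zd12) (kd xd15 yd40 zd13) (kd xd15 yd40 zd14) (kd xd27 yd20 zd5) (kd xd21 yd46 zd18) (kd xd29 yd37 zd12) (kd xd21 yd50 zd40) (kd xd31 yd49 zd2) (kd xd19 yd38 zd57) (kd xd25 yd47 zd37) (kd xd15 yd40 zd18) (kd xd29 yd44 zd26) (kd xd31 yd35 zd8) (kd xd19 yd38 zd47) (kd xd17 yd28 zd29) (kd xd15 yd40 zd22) (kd xd15 yd40 zd23) (kd xd15 yd40 zd24) (kd xd25 yd28 zd48) (kd xd25 yd47 zd17) (kd xd24 yd8 zd45) (kd xd20 yd35 zd4) (kd xd15 yd40 zd26) (kd xd31 yd54 zd3) (kd xd19 yd37 zd48)) (@D3.rec (fun _ => Pt) (kd xd21 yd17 zd15) (kd xd15 yd51 zd49) (kd xd15 yd52 zd1) (kd xd16 yd1 zd55) (kd xd26 yd4 zd1) (kd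 xd27 yd17 zd59) (kd xd17 yd25 zd38) (kd xd30 yd19 zd32) (kd xd29 yd31 zd55) (kd xd15 yd40 zd35) (kd xd16 yd46 zd35) (kd xd28 yd36 zd34) (kd xd28 yd29 zd35) (kd xd19 yd9 zd2) (kd xd17 yd43 zd12) (kd xd31 yd56 zd31) (kd xd31 yd56 zd32) (kd xd29 yd11 zd53) (kd xd15 yd40 zd45) (kd xd29 yd4 zd46) (kd xd19 yd44 zd34) (kd xd19 yd44 zd35) (kd xd31 yd49 zd40) (kd xd15 yd40 zd49) (kd xd27 yd22 zd23) (kd xd15 yd40 zd52) (kd xd24 yd15 zd8) (kd xd22 yd57 zd30) (kd xd31 yd48 zd58) (kd xd16 yd43 zd39) (kd xd24 yd12 zd52) (kd xd29 yd30 zd52) (kd xd25 yd59 zd46) (kd xd15 yd41 zd1) (kd xd27 yd24 zd5) (kd xd15 yd41 zd4) (kd xd23 yd1 zd33) (kd xd30 yd7 zd26) (kd xd15 yd41 zd7) (kd xd19 yd36 zd41) (kd xd15 yd41 zd8) (kd xd18 yd51 zd26) (kd xd25 yd6 zd36) (kd xd18 yd46 zd26) (kd xd15 yd41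 zd11) (kd xd31 yd56 zd38) (kd xd20 yd57 zd40) (kd xd29 yd4 zd60) (kd xd15 yd41 zd13) (kd xd26 yd41 zd38) (kd xd25 yd7 zd30) (kd xd15 yd58 zd53) (kd xd19 yd31 zd29) (kd xd26 yd0 zd8) (kd xd21 yd51 zd36) (kd xd25 yd26 zd52) (kd xd17 yd5 zd42) (kd xd15 yd41 zd22) (kd xd30 yd16 zd37) (kd xd28 yd49 zd47) (kd xd15 yd41 zd25) (kd xd15 yd41 zd26)) (@D3.rec (fun _ => Pt) (kd xd15 yd41 zd29) (kd xd25 yd38 zd1) (kd xd15 yd41 zd30) (kd xd26 yd0 zd22) (kd xd26 yd0 zd60) (kd xd25 yd39 zd37) (kd xd15 yd41 zd32) (kd xd25 yd41 zd11) (kd xd31 yd18 zd17) (kd xd15 yd41 zd35) (kd xd26 yd44 zd49) (kd xd31 yd56 zd43) (kd xd31 yd56 zd44) (kd xd15 yd41 zd39) (kd xd25 yd42 zd50) (kd xd25 yd44 zd7) (kd xd15 yd45 zd38) (kd xd15 yd45 zd3) (kd xd28 yd24 zd45) (kd xd15 yd41 zd44) (kd xd15 yd41 zd45)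 (kd xd30 yd42 zd31) (kd xd29 yd3 zd16) (kd xd15 yd41 zd47) (kd xd31 yd20 zd34) (kd xd29 yd43 zd44) (kd xd15 yd41 zd49) (kd xd15 yd41 zd50) (kd xd20 yd5 zd18) (kd xd31 yd52 zd13) (kd xd28 yd57 zd23) (kd xd31 yd56 zd59) (kd xd31 yd56 zd61) (kd xd31 yd57 zd0) (kd xd15 yd41 zd56) (kd xd31 yd57 zd2) (kd xd17 yd49 zd55) (kd xd20 yd53 zd36) (kd xd15 yd41 zd58) (kd xd15 yd41 zd59) (kd xd15 yd42 zd1) (kd xd31 yd35 zd36) (kd xd15 yd42 zd3) (kd xd31 yd35 zd37) (kd xd23 yd59 zd13) (kd xd23 yd59 zd15) (kd xd15 yd42 zd4) (kd xd19 yd47 zd45) (kd xd26 yd0 zd14) (kd xd26 yd48 zd6) (kd xd16 yd5 zd39) (kd xd26 yd37 zd33) (kd xd15 yd42 zd8) (kd xd26 yd2 zd18) (kd xd26 yd48 zd34) (kd xd18 yd6 zd39) (kd xd29 yd10 zd19) (kd xd16 yd3 zd59) (kd xd31 yd57 zd4) (kd xd15 yd42 zd16) (kd xd29 yd10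 zd24) (kd xd15 yd42 zd17)) (@D3.rec (fun _ => Pt) (kd xd15 yd42 zd18) (kd xd25 yd37 zd1) (kd xd28 yd34 zd1) (kd xd15 yd42 zd20) (kd xd31 yd57 zd9) (kd xd29 yd1 zd48) (kd xd25 yd28 zd29) (kd xd31 yd57 zd10) (kd xd31 yd57 zd11) (kd xd29 yd5 zd60) (kd xd25 yd40 zd54) (kd xd15 yd42 zd25) (kd xd25 yd38 zd46) (kd xd26 yd58 zd29) (kd xd15 yd42 zd26) (kd xd19 yd47 zd39) (kd xd16 yd5 zd8) (kd xd29 yd0 zd44) (kd xd15 yd42 zd28) (kd xd29 yd9 zd36) (kd xd15 yd42 zd29) (kd xd15 yd53 zd39) (kd xd15 yd42 zd30) (kd xd30 yd12 zd50) (kd xd15 yd42 zd31) (kd xd31 yd57 zd15) (kd xd16 yd6 zd11) (kd xd16 yd6 zd12) (kd xd31 yd57 zd16) (kd xd15 yd42 zd33) (kd xd29 yd56 zd58) (kd xd31 yd37 zd49) (kd xd15 yd42 zd34) (kd xd31 yd57 zd18) (kd xd21 yd0 zd43) (kd xd28 yd34 zd43) (kd xd15 yd53 zd42)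 (kd xd18 yd27 zd42) (kd xd15 yd42 zd38) (kd xd22 yd44 zd6) (kd xd29 yd58 zd27) (kd xd15 yd42 zd43) (kd xd20 yd23 zd32) (kd xd25 yd40 zd7) (kd xd28 yd31 zd38) (kd xd15 yd42 zd46) (kd xd25 yd38 zd12) (kd xd31 yd57 zd25) (kd xd31 yd39 zd49) (kd xd15 yd42 zd47) (kd xd31 yd57 zd26) (kd xd29 yd14 zd3) (kd xd29 yd10 zd53) (kd xd31 yd10 zd57) (kd xd15 yd42 zd49) (kd xd31 yd57 zd31) (kd xd15 yd42 zd50) (kd xd26 yd0 zd46) (kd xd31 yd57 zd32) (kd xd27 yd59 zd24) (kd xd15 yd42 zd53) (kd xd28 yd49 zd37)) (@D3.rec (fun _ => Pt) (kd xd24 yd45 zd47) (kd xd28 yd24 zd40) (kd xd31 yd7 zd59) (kd xd15 yd42 zd56) (kd xd15 yd46 zd1) (kd xd28 yd10 zd54) (kd xd30 yd10 zd39) (kd xd15 yd46 zd3) (kd xd27 yd1 zd23) (kd xd31 yd57 zd50) (kd xd26 yd25 zd15) (kd xd26 yd20 zd5) (kd xd28 yd13 zd32) (kd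 xd15 yd42 zd59) (kd xd19 yd48 zd18) (kd xd20 yd54 zd49) (kd xd28 yd24 zd42) (kd xd15 yd43 zd2) (kd xd30 yd42 zd46) (kd xd28 yd24 zd41) (kd xd23 yd25 zd5) (kd xd15 yd43 zd4) (kd xd17 yd40 zd54) (kd xd29 yd17 zd29) (kd xd27 yd20 zd28) (kd xd20 yd5 zd51) (kd xd28 yd54 zd13) (kd xd15 yd46 zd25) (kd xd17 yd21 zd14) (kd xd15 yd43 zd15) (kd xd16 yd56 zd33) (kd xd30 yd7 zd57) (kd xd25 yd24 zd29) (kd xd27 yd31 zd25) (kd xd30 yd3 zd14) (kd xd27 yd58 zd14) (kd xd15 yd43 zd23) (kd xd25 yd37 zd5) (kd xd28 yd33 zd60) (kd xd31 yd57 zd58) (kd xd23 yd33 zd48) (kd xd23 yd39 zd60) (kd xd29 yd21 zd15) (kd xd15 yd43 zd28) (kd xd31 yd4 zd59) (kd xd21 yd15 zd16) (kd xd17 yd55 zd19) (kd xd15 yd43 zd35) (kd xd25 yd41 zd52) (kd xd28 yd42 zd30) (kd xd17 yd55 zd18) (kd xd30 yd24 zd42) (kd xd29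 yd6 zd0) (kd xd31 yd57 zd59) (kd xd15 yd43 zd44) (kd xd26 yd7 zd34) (kd xd18 yd13 zd54) (kd xd27 yd59 zd18) (kd xd15 yd43 zd47) (kd xd27 yd49 zd47) (kd xd15 yd43 zd48) (kd xd25 yd42 zd36)) (@D3.rec (fun _ => Pt) (kd xd27 yd41 zd27) (kd xd28 yd8 zd42) (kd xd15 yd43 zd50) (kd xd31 yd4 zd61) (kd xd31 yd4 zd35) (kd xd15 yd43 zd51) (kd xd28 yd29 zd14) (kd xd25 yd38 zd43) (kd xd25 yd41 zd46) (kd xd31 yd58 zd5) (kd xd15 yd43 zd53) (kd xd25 yd41 zd44) (kd xd30 yd16 zd59) (kd xd31 yd58 zd7) (kd xd15 yd43 zd54) (kd xd31 yd56 zd50) (kd xd30 yd56 zd24) (kd xd31 yd53 zd33) (kd xd15 yd43 zd55) (kd xd22 yd43 zd44) (kd xd28 yd28 zd60) (kd xd27 yd1 zd3) (kd xd15 yd43 zd59) (kd xd28 yd42 zd48) (kd xd28 yd42 zd49) (kd xd23 yd33 zd37) (kd xd15 yd44 zd2) (kd xd19 yd5 zd32) (kd xd29 yd19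 zd50) (kd xd15 yd44 zd3) (kd xd29 yd19 zd29) (kd xd28 yd23 zd3) (kd xd15 yd44 zd4) (kd xd28 yd34 zd39) (kd xd30 yd10 zd35) (kd xd27 yd8 zd8) (kd xd16 yd22 zd41) (kd xd22 yd57 zd27) (kd xd22 yd43 zd9) (kd xd16 yd55 zd49) (kd xd20 yd9 zd11) (kd xd16 yd29 zd11) (kd xd30 yd56 zd21) (kd xd20 yd4 zd32) (kd xd31 yd58 zd14) (kd xd15 yd44 zd23) (kd xd24 yd11 zd34) (kd xd15 yd44 zd25) (kd xd28 yd14 zd3) (kd xd15 yd44 zd28) (kd xd16 yd4 zd4) (kd xd31 yd7 zd32) (kd xd16 yd5 zd29) (kd xd15 yd44 zd31) (kd xd25 yd38 zd10) (kd xd15 yd44 zd32) (kd xd16 yd3 zd4) (kd xd19 yd16 zd27) (kd xd15 yd44 zd35) (kd xd28 yd31 zd13) (kd xd15 yd44 zd36) (kd xd24 yd42 zd9)) (@D3.rec (fun _ => Pt) (kd xd15 yd44 zd37) (kd xd18 yd18 zd22) (kd xd31 yd58 zd16) (kd xd22 yd4 zd40) (kd xd29 yd59 zd43) (kd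 xd15 yd44 zd39) (kd xd16 yd2 zd56) (kd xd29 yd5 zd55) (kd xd31 yd12 zd16) (kd xd31 yd12 zd13) (kd xd15 yd44 zd41) (kd xd25 yd37 zd7) (kd xd16 yd7 zd10) (kd xd25 yd42 zd29) (kd xd15 yd44 zd43) (kd xd18 yd2 zd43) (kd xd15 yd44 zd46) (kd xd28 yd11 zd36) (kd xd24 yd22 zd35) (kd xd21 yd49 zd10) (kd xd16 yd4 zd42) (kd xd24 yd27 zd48) (kd xd25 yd52 zd42) (kd xd15 yd44 zd52) (kd xd16 yd4 zd32) (kd xd17 yd55 zd33) (kd xd31 yd8 zd22) (kd xd31 yd36 zd35) (kd xd31 yd58 zd19) (kd xd15 yd44 zd55) (kd xd31 yd58 zd22) (kd xd26 yd47 zd7) (kd xd26 yd45 zd60) (kd xd16 yd5 zd6) (kd xd29 yd13 zd17) (kd xd15 yd44 zd58) (kd xd21 yd46 zd33) (kd xd21 yd24 zd14) (kd xd15 yd44 zd59) (kd xd19 yd55 zd4) (kd xd31 yd32 zd19) (kd xd21 yd59 zd2) (kd xd15 yd44 zd61) (kd xd16 yd2 zd54) (kd xd25 yd40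 zd11) (kd xd15 yd45 zd1) (kd xd25 yd40 zd8) (kd xd15 yd45 zd4) (kd xd30 yd10 zd40) (kd xd16 yd9 zd29) (kd xd25 yd13 zd5) (kd xd30 yd10 zd42) (kd xd25 yd39 zd48) (kd xd28 yd42 zd8) (kd xd19 yd16 zd18) (kd xd19 yd4 zd19) (kd xd19 yd16 zd36) (kd xd15 yd45 zd13) (kd xd15 yd45 zd17) (kd xd28 yd31 zd12) (kd xd15 yd45 zd18) (kd xd26 yd8 zd7)) (@D3.rec (fun _ => Pt) (kd xd25 yd49 zd8) (kd xd23 yd41 zd17) (kd xd15 yd45 zd20) (kd xd31 yd17 zd15) (kd xd15 yd45 zd21) (kd xd28 yd30 zd49) (kd xd15 yd45 zd25) (kd xd23 yd9 zd1) (kd xd17 yd19 zd14) (kd xd29 yd18 zd7) (kd xd24 yd11 zd35) (kd xd15 yd45 zd31) (kd xd31 yd2 zd50) (kd xd31 yd8 zd60) (kd xd31 yd8 zd61) (kd xd23 yd38 zd58) (kd xd31 yd56 zd48) (kd xd28 yd10 zd57) (kd xd15 yd45 zd40) (kd xd15 yd45 zd41) (kd xd31 yd58 zd33) (kd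 xd31 yd32 zd18) (kd xd31 yd58 zd34) (kd xd31 yd58 zd35) (kd xd27 yd35 zd44) (kd xd31 yd58 zd36) (kd xd29 yd48 zd56) (kd xd31 yd58 zd37) (kd xd15 yd45 zd48) (kd xd25 yd41 zd13) (kd xd15 yd45 zd52) (kd xd24 yd0 zd12) (kd xd26 yd5 zd35) (kd xd20 yd20 zd40) (kd xd15 yd45 zd58) (kd xd26 yd5 zd32) (kd xd25 yd39 zd61) (kd xd31 yd34 zd38) (kd xd15 yd45 zd59) (kd xd15 yd45 zd60) (kd xd22 yd21 zd9) (kd xd23 yd38 zd45) (kd xd15 yd46 zd0) (kd xd31 yd57 zd40) (kd xd30 yd10 zd37) (kd xd31 yd58 zd42) (kd xd31 yd57 zd46) (kd xd25 yd30 zd28) (kd xd28 yd10 zd53) (kd xd31 yd2 zd12) (kd xd25 yd37 zd14) (kd xd26 yd3 zd35) (kd xd28 yd11 zd1) (kd xd26 yd7 zd20) (kd xd15 yd46 zd6) (kd xd31 yd58 zd48) (kd xd15 yd46 zd8) (kd xd31 yd58 zd49) (kd xd15 yd46 zd10) (kd xd15 yd46 zd11) (kd xd24 yd42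 zd7) (kd xd15 yd46 zd16)) (@D3.rec (fun _ => Pt) (kd xd26 yd2 zd60) (kd xd30 yd14 zd43) (kd xd31 yd43 zd11) (kd xd15 yd46 zd20) (kd xd27 yd1 zd9) (kd xd17 yd48 zd35) (kd xd16 yd1 zd53) (kd xd29 yd56 zd23) (kd xd15 yd46 zd28) (kd xd15 yd46 zd29) (kd xd17 yd40 zd52) (kd xd21 yd26 zd9) (kd xd15 yd46 zd31) (kd xd31 yd35 zd56) (kd xd15 yd46 zd35) (kd xd15 yd46 zd36) (kd xd16 yd19 zd4) (kd xd15 yd46 zd39) (kd xd17 yd25 zd12) (kd xd28 yd50 zd35) (kd xd24 yd0 zd34) (kd xd19 yd3 zd5) (kd xd16 yd1 zd54) (kd xd25 yd12 zd33) (kd xd15 yd46 zd43) (kd xd29 yd49 zd14) (kd xd18 yd51 zd23) (kd xd22 yd30 zd17) (kd xd25 yd54 zd25) (kd xd20 yd18 zd10) (kd xd15 yd46 zd48) (kd xd25 yd30 zd4) (kd xd20 yd12 zd38) (kd xd15 yd46 zd50) (kd xd31 yd58 zd54) (kd xd18 yd51 zd24) (kd xd15 yd46 zd58)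 (kd xd27 yd6 zd22) (kd xd15 yd46 zd60) (kd xd17 yd36 zd1) (kd xd31 yd54 zd14) (kd xd16 yd4 zd61) (kd xd17 yd22 zd6) (kd xd21 yd17 zd26) (kd xd28 yd14 zd17) (kd xd25 yd55 zd28) (kd xd15 yd47 zd3) (kd xd31 yd58 zd57) (kd xd31 yd58 zd58) (kd xd31 yd34 zd54) (kd xd15 yd47 zd5) (kd xd17 yd27 zd57) (kd xd28 yd44 zd49) (kd xd15 yd47 zd7) (kd xd19 yd38 zd54) (kd xd22 yd2 zd26) (kd xd19 yd38 zd55) (kd xd30 yd47 zd17) (kd xd31 yd13 zd54) (kd xd27 yd30 zd9) (kd xd15 yd47 zd12) (kd xd17 yd35 zd53)) (@D3.rec (fun _ => Pt) (kd xd15 yd47 zd16) (kd xd31 yd58 zd61) (kd xd15 yd47 zd17) (kd xd15 yd47 zd18) (kd xd31 yd27 zd16) (kd xd15 yd47 zd21) (kd xd15 yd47 zd24) (kd xd25 yd37 zd15) (kd xd16 yd3 zd26) (kd xd29 yd54 zd1) (kd xd21 yd27 zd15) (kd xd15 yd47 zd26) (kd xd22 yd46 zd6) (kd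 xd15 yd47 zd28) (kd xd31 yd59 zd3) (kd xd31 yd59 zd4) (kd xd15 yd47 zd30) (kd xd15 yd47 zd34) (kd xd15 yd47 zd35) (kd xd17 yd38 zd56) (kd xd15 yd47 zd37) (kd xd24 yd14 zd24) (kd xd15 yd47 zd38) (kd xd18 yd24 zd46) (kd xd15 yd47 zd57) (kd xd21 yd37 zd35) (kd xd25 yd45 zd43) (kd xd15 yd48 zd37) (kd xd19 yd17 zd10) (kd xd16 yd13 zd51) (kd xd16 yd13 zd52) (kd xd31 yd59 zd8) (kd xd21 yd22 zd27) (kd xd21 yd22 zd26) (kd xd17 yd13 zd61) (kd xd20 yd2 zd2) (kd xd31 yd50 zd7) (kd xd17 yd49 zd50) (kd xd27 yd38 zd54) (kd xd17 yd49 zd46) (kd xd24 yd19 zd14) (kd xd15 yd48 zd0) (kd xd15 yd48 zd1) (kd xd17 yd42 zd9) (kd xd31 yd24 zd32) (kd xd15 yd48 zd3) (kd xd27 yd4 zd21) (kd xd17 yd5 zd7) (kd xd25 yd9 zd27) (kd xd28 yd13 zd61) (kd xd23 yd7 zd57) (kd xd21 yd57 zd22) (kd xd29 yd42 zd28)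 (kd xd15 yd48 zd10) (kd xd28 yd1 zd14) (kd xd21 yd42 zd28) (kd xd15 yd48 zd11) (kd xd23 yd51 zd50) (kd xd15 yd48 zd15) (kd xd29 yd57 zd59) (kd xd31 yd59 zd10) (kd xd22 yd35 zd10)) (@D3.rec (fun _ => Pt) (kd xd15 yd48 zd16) (kd xd29 yd23 zd38) (kd xd31 yd18 zd22) (kd xd15 yd48 zd22) (kd xd15 yd48 zd23) (kd xd15 yd48 zd28) (kd xd28 yd54 zd3) (kd xd16 yd36 zd21) (kd xd16 yd36 zd22) (kd xd29 yd33 zd5) (kd xd21 yd58 zd6) (kd xd16 yd48 zd53) (kd xd21 yd46 zd30) (kd xd27 yd0 zd8) (kd xd15 yd48 zd36) (kd xd18 yd36 zd43) (kd xd25 yd0 zd13) (kd xd28 yd7 zd2) (kd xd31 yd59 zd12) (kd xd28 yd7 zd0) (kd xd15 yd48 zd54) (kd xd27 yd30 zd60) (kd xd24 yd54 zd52) (kd xd26 yd17 zd0) (kd xd27 yd24 zd46) (kd xd24 yd54 zd53) (kd xd25 yd55 zd40) (kd xd27 yd39 zd28) (kd xd28 yd40 zd51) (kd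 xd15 yd49 zd2) (kd xd17 yd44 zd27) (kd xd26 yd9 zd11) (kd xd15 yd49 zd9) (kd xd15 yd49 zd30) (kd xd15 yd49 zd13) (kd xd26 yd59 zd12) (kd xd17 yd50 zd57) (kd xd28 yd47 zd22) (kd xd15 yd49 zd20) (kd xd26 yd45 zd56) (kd xd29 yd6 zd1) (kd xd15 yd49 zd24) (kd xd21 yd51 zd44) (kd xd25 yd44 zd26) (kd xd31 yd16 zd20) (kd xd26 yd25 zd36) (kd xd17 yd5 zd40) (kd xd31 yd59 zd14) (kd xd25 yd2 zd52) (kd xd21 yd41 zd9) (kd xd20 yd14 zd61) (kd xd21 yd23 zd56) (kd xd21 yd42 zd47) (kd xd20 yd51 zd19) (kd xd26 yd46 zd25) (kd xd19 yd43 zd23) (kd xd15 yd50 zd18) (kd xd15 yd50 zd19) (kd xd25 yd10 zd56) (kd xd15 yd49 zd56) (kd xd16 yd18 zd56) (kd xd27 yd20 zd27)) (@D3.rec (fun _ => Pt) (kd xd25 yd48 zd53) (kd xd23 yd35 zd51) (kd xd18 yd46 zd17) (kd xd15 yd49 zd61) (kd xd19 yd3 zd33) (kd xd19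 yd3 zd34) (kd xd25 yd48 zd5) (kd xd27 yd23 zd56) (kd xd31 yd6 zd58) (kd xd27 yd23 zd58) (kd xd24 yd3 zd15) (kd xd15 yd50 zd3) (kd xd15 yd50 zd4) (kd xd26 yd19 zd49) (kd xd30 yd41 zd5) (kd xd18 yd58 zd54) (kd xd26 yd24 zd49) (kd xd28 yd34 zd58) (kd xd28 yd24 zd33) (kd xd16 yd31 zd15) (kd xd16 yd3 zd19) (kd xd22 yd38 zd42) (kd xd15 yd50 zd13) (kd xd31 yd2 zd5) (kd xd16 yd51 zd35) (kd xd16 yd29 zd31) (kd xd31 yd59 zd24) (kd xd15 yd50 zd17) (kd xd26 yd48 zd56) (kd xd16 yd5 zd15) (kd xd17 yd9 zd21) (kd xd17 yd9 zd29) (kd xd30 yd17 zd61) (kd xd30 yd18 zd0) (kd xd15 yd50 zd22) (kd xd26 yd9 zd38) (kd xd27 yd31 zd57) (kd xd31 yd59 zd29) (kd xd26 yd56 zd36) (kd xd23 yd20 zd19) (kd xd26 yd25 zd18) (kd xd24 yd47 zd41) (kd xd19 yd59 zd47) (kd xd15 yd50 zd38) (kd xd15 yd50 zd39)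 (kd xd22 yd54 zd33) (kd xd15 yd50 zd44) (kd xd21 yd9 zd4) (kd xd30 yd38 zd5) (kd xd26 yd53 zd10) (kd xd18 yd47 zd47) (kd xd19 yd54 zd26) (kd xd27 yd12 zd17) (kd xd22 yd58 zd29) (kd xd18 yd4 zd15) (kd xd28 yd52 zd17) (kd xd26 yd38 zd32) (kd xd15 yd51 zd4) (kd xd16 yd44 zd15) (kd xd16 yd44 zd16) (kd xd18 yd48 zd14) (kd xd18 yd45 zd1)) (@D3.rec (fun _ => Pt) (kd xd17 yd18 zd49) (kd xd15 yd51 zd7) (kd xd15 yd51 zd8) (kd xd26 yd52 zd6) (kd xd16 yd0 zd18) (kd xd26 yd52 zd9) (kd xd25 yd27 zd27) (kd xd20 yd22 zd43) (kd xd15 yd52 zd18) (kd xd25 yd54 zd8) (kd xd25 yd54 zd9) (kd xd16 yd1 zd56) (kd xd23 yd46 zd39) (kd xd26 yd15 zd6) (kd xd29 yd7 zd51) (kd xd15 yd51 zd24) (kd xd20 yd42 zd54) (kd xd25 yd35 zd56) (kd xd16 yd1 zd59) (kd xd15 yd51 zd30) (kd xd30 yd29 zd23) (kd xd15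 yd51 zd31) (kd xd15 yd51 zd45) (kd xd26 yd16 zd9) (kd xd24 yd17 zd5) (kd xd18 yd53 zd38) (kd xd16 yd45 zd42) (kd xd16 yd7 zd24) (kd xd15 yd51 zd46) (kd xd23 yd12 zd9) (kd xd19 yd28 zd44) (kd xd25 yd56 zd42) (kd xd29 yd30 zd55) (kd xd31 yd59 zd40) (kd xd15 yd51 zd48) (kd xd18 yd54 zd1) (kd xd23 yd46 zd38) (kd xd25 yd35 zd46) (kd xd15 yd55 zd13) (kd xd15 yd51 zd54) (kd xd25 yd26 zd55) (kd xd24 yd8 zd56) (kd xd28 yd41 zd12) (kd xd22 yd31 zd5) (kd xd30 yd34 zd46) (kd xd18 yd55 zd45) (kd xd25 yd35 zd16) (kd xd19 yd42 zd29) (kd xd26 yd26 zd52) (kd xd31 yd59 zd44) (kd xd15 yd52 zd6) (kd xd31 yd59 zd45) (kd xd28 yd52 zd49) (kd xd31 yd52 zd47) (kd xd28 yd38 zd1) (kd xd15 yd52 zd9) (kd xd19 yd42 zd28) (kd xd30 yd23 zd56) (kd xd25 yd35 zd19) (kd xd15 yd52 zd11) (kd xd30 yd21 zd3)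 (kd xd28 yd37 zd58)) (@D3.rec (fun _ => Pt) (kd xd28 yd19 zd33) (kd xd31 yd50 zd32) (kd xd15 yd52 zd13) (kd xd18 yd55 zd32) (kd xd16 yd44 zd20) (kd xd25 yd46 zd6) (kd xd29 yd14 zd37) (kd xd28 yd15 zd34) (kd xd27 yd49 zd33) (kd xd20 yd10 zd52) (kd xd29 yd18 zd35) (kd xd15 yd52 zd17) (kd xd23 yd50 zd15) (kd xd26 yd52 zd15) (kd xd18 yd48 zd31) (kd xd15 yd58 zd2) (kd xd15 yd58 zd3) (kd xd26 yd4 zd54) (kd xd25 yd6 zd38) (kd xd26 yd52 zd59) (kd xd31 yd46 zd54) (kd xd15 yd52 zd23) (kd xd29 yd1 zd60) (kd xd18 yd48 zd8) (kd xd30 yd14 zd13) (kd xd19 yd3 zd6) (kd xd19 yd3 zd2) (kd xd25 yd29 zd10) (kd xd19 yd28 zd19) (kd xd22 yd12 zd15) (kd xd25 yd49 zd46) (kd xd28 yd57 zd37) (kd xd15 yd52 zd42) (kd xd15 yd52 zd43) (kd xd31 yd35 zd40) (kd xd31 yd59 zd59) (kd xd30 yd6 zd41) (kd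 xd15 yd52 zd36) (kd xd26 yd24 zd31) (kd xd23 yd56 zd22) (kd xd25 yd50 zd4) (kd xd15 yd52 zd40) (kd xd21 yd5 zd12) (kd xd31 yd59 zd58) (kd xd15 yd52 zd44) (kd xd25 yd30 zd5) (kd xd17 yd35 zd54) (kd xd15 yd52 zd46) (kd xd15 yd52 zd47) (kd xd23 yd8 zd50) (kd xd15 yd52 zd48) (kd xd23 yd7 zd52) (kd xd15 yd52 zd49) (kd xd25 yd46 zd0) (kd xd25 yd53 zd56) (kd xd15 yd52 zd54) (kd xd31 yd49 zd19) (kd xd32 yd0 zd4) (kd xd21 yd30 zd37) (kd xd31 yd12 zd45) (kd xd25 yd6 zd1) (kd xd32 yd0 zd5)) (@D3.rec (fun _ => Pt) (kd xd15 yd52 zd59) (kd xd31 yd16 zd25) (kd xd15 yd52 zd58) (kd xd31 yd49 zd18) (kd xd27 yd45 zd45) (kd xd30 yd51 zd23) (kd xd31 yd35 zd45) (kd xd25 yd34 zd53) (kd xd25 yd42 zd0) (kd xd27 yd16 zd56) (kd xd23 yd25 zd53) (kd xd27 yd44 zd54) (kd xd24 yd38 zd30) (kd xd25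 yd55 zd41) (kd xd15 yd53 zd12) (kd xd31 yd36 zd2) (kd xd19 yd49 zd40) (kd xd25 yd14 zd19) (kd xd24 yd29 zd28) (kd xd32 yd0 zd10) (kd xd15 yd53 zd14) (kd xd15 yd53 zd15) (kd xd30 yd41 zd56) (kd xd16 yd28 zd43) (kd xd25 yd33 zd29) (kd xd29 yd57 zd19) (kd xd31 yd53 zd9) (kd xd18 yd2 zd26) (kd xd25 yd15 zd19) (kd xd18 yd10 zd1) (kd xd21 yd2 zd27) (kd xd31 yd8 zd7) (kd xd27 yd38 zd22) (kd xd24 yd33 zd35) (kd xd29 yd9 zd50) (kd xd23 yd24 zd29) (kd xd31 yd49 zd60) (kd xd21 yd2 zd26) (kd xd26 yd12 zd13) (kd xd17 yd23 zd13) (kd xd27 yd39 zd25) (kd xd18 yd40 zd22) (kd xd21 yd59 zd14) (kd xd15 yd53 zd49) (kd xd19 yd25 zd1) (kd xd32 yd0 zd12) (kd xd25 yd48 zd30) (kd xd18 yd33 zd54) (kd xd19 yd57 zd14) (kd xd26 yd13 zd57) (kd xd24 yd17 zd44) (kd xd25 yd22 zd56) (kd xd23 yd30 zd39)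 (kd xd25 yd7 zd0) (kd xd20 yd3 zd28) (kd xd27 yd46 zd36) (kd xd20 yd3 zd32) (kd xd19 yd6 zd0) (kd xd23 yd30 zd33) (kd xd15 yd54 zd1) (kd xd18 yd30 zd13) (kd xd15 yd54 zd5)) (@D3.rec (fun _ => Pt) (kd xd25 yd15 zd13) (kd xd15 yd54 zd8) (kd xd26 yd28 zd20) (kd xd28 yd32 zd8) (kd xd25 yd48 zd40) (kd xd19 yd57 zd25) (kd xd25 yd11 zd56) (kd xd15 yd54 zd14) (kd xd19 yd37 zd40) (kd xd15 yd54 zd16) (kd xd19 yd44 zd14) (kd xd15 yd54 zd17) (kd xd16 yd49 zd20) (kd xd32 yd0 zd20) (kd xd25 yd12 zd12) (kd xd24 yd16 zd33) (kd xd15 yd54 zd19) (kd xd32 yd0 zd24) (kd xd15 yd54 zd21) (kd xd16 yd44 zd48) (kd xd19 yd33 zd30) (kd xd19 yd21 zd37) (kd xd23 yd52 zd9) (kd xd15 yd54 zd24) (kd xd15 yd54 zd23) (kd xd23 yd5 zd57) (kd xd28 yd30 zd54) (kd xd16 yd22 zd42) (kd xd15 yd54 zd25) (kd xd31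 yd21 zd43) (kd xd15 yd54 zd26) (kd xd15 yd54 zd27) (kd xd29 yd12 zd38) (kd xd27 yd35 zd46) (kd xd15 yd54 zd29) (kd xd15 yd54 zd30) (kd xd20 yd43 zd50) (kd xd15 yd54 zd33) (kd xd31 yd35 zd41) (kd xd27 yd15 zd56) (kd xd15 yd54 zd35) (kd xd24 yd37 zd2) (kd xd26 yd17 zd22) (kd xd28 yd19 zd31) (kd xd24 yd18 zd45) (kd xd32 yd0 zd30) (kd xd15 yd54 zd37) (kd xd23 yd12 zd35) (kd xd32 yd0 zd32) (kd xd15 yd54 zd39) (kd xd15 yd54 zd40) (kd xd29 yd49 zd27) (kd xd31 yd59 zd39) (kd xd15 yd54 zd42) (kd xd27 yd23 zd26) (kd xd31 yd56 zd24) (kd xd30 yd4 zd8) (kd xd29 yd53 zd54) (kd xd15 yd54 zd45) (kd xd15 yd54 zd46) (kd xd29 yd43 zd13) (kd xd15 yd54 zd48)) (@D3.rec (fun _ => Pt) (kd xd31 yd59 zd7) (kd xd17 yd29 zd14) (kd xd21 yd49 zd45) (kd xd15 yd54 zd49) (kd xd29 yd11 zd29) (kd xd27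 yd10 zd45) (kd xd15 yd54 zd50) (kd xd29 yd17 zd13) (kd xd25 yd34 zd40) (kd xd15 yd54 zd52) (kd xd23 yd41 zd4) (kd xd27 yd18 zd55) (kd xd15 yd54 zd53) (kd xd29 yd58 zd57) (kd xd25 yd6 zd31) (kd xd29 yd17 zd7) (kd xd25 yd7 zd43) (kd xd29 yd17 zd9) (kd xd26 yd44 zd33) (kd xd21 yd1 zd34) (kd xd31 yd23 zd18) (kd xd23 yd49 zd59) (kd xd29 yd21 zd43) (kd xd15 yd55 zd4) (kd xd30 yd13 zd21) (kd xd22 yd16 zd25) (kd xd19 yd46 zd12) (kd xd15 yd55 zd11) (kd xd32 yd0 zd49) (kd xd31 yd12 zd59) (kd xd22 yd54 zd39) (kd xd28 yd41 zd11) (kd xd21 yd56 zd58) (kd xd27 yd8 zd36) (kd xd27 yd8 zd37) (kd xd15 yd55 zd19) (kd xd31 yd29 zd49) (kd xd15 yd55 zd20) (kd xd30 yd15 zd35) (kd xd25 yd32 zd13) (kd xd32 yd0 zd52) (kd xd15 yd55 zd24) (kd xd30 yd39 zd4) (kd xd15 yd55 zd25) (kd xd15 yd55 zd27)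 (kd xd19 yd15 zd36) (kd xd26 yd32 zd54) (kd xd17 yd25 zd24) (kd xd25 yd31 zd57) (kd xd19 yd4 zd14) (kd xd22 yd36 zd28) (kd xd21 yd40 zd13) (kd xd17 yd17 zd19) (kd xd15 yd55 zd43) (kd xd19 yd4 zd7) (kd xd15 yd55 zd44) (kd xd22 yd38 zd23) (kd xd24 yd25 zd18) (kd xd27 yd57 zd11) (kd xd15 yd55 zd46) (kd xd15 yd55 zd49) (kd xd30 yd39 zd2)) (@D3.rec (fun _ => Pt) (kd xd15 yd55 zd50) (kd xd19 yd23 zd39) (kd xd19 yd23 zd38) (kd xd29 yd49 zd60) (kd xd30 yd36 zd16) (kd xd24 yd11 zd12) (kd xd18 yd41 zd2) (kd xd24 yd20 zd16) (kd xd25 yd3 zd1) (kd xd29 yd24 zd16) (kd xd23 yd18 zd33) (kd xd21 yd53 zd18) (kd xd21 yd53 zd19) (kd xd18 yd45 zd29) (kd xd15 yd55 zd59) (kd xd18 yd45 zd33) (kd xd18 yd45 zd34) (kd xd18 yd45 zd4) (kd xd15 yd56 zd0) (kd xd31 yd26 zd58) (kd xd15 yd56 zd2) (kd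 xd26 yd43 zd1) (kd xd19 yd28 zd61) (kd xd19 yd31 zd19) (kd xd26 yd42 zd49) (kd xd15 yd56 zd5) (kd xd15 yd56 zd6) (kd xd20 yd46 zd7) (kd xd30 yd28 zd25) (kd xd31 yd43 zd46) (kd xd15 yd56 zd7) (kd xd28 yd37 zd3) (kd xd28 yd37 zd4) (kd xd24 yd49 zd34) (kd xd22 yd41 zd20) (kd xd30 yd46 zd12) (kd xd15 yd56 zd12) (kd xd30 yd39 zd28) (kd xd15 yd56 zd16) (kd xd31 yd13 zd47) (kd xd28 yd16 zd42) (kd xd20 yd10 zd30) (kd xd25 yd41 zd22) (kd xd28 yd30 zd29) (kd xd22 yd25 zd5) (kd xd32 yd0 zd61) (kd xd20 yd48 zd29) (kd xd20 yd48 zd28) (kd xd15 yd56 zd23) (kd xd22 yd24 zd57) (kd xd15 yd56 zd24) (kd xd22 yd25 zd18) (kd xd28 yd58 zd2) (kd xd20 yd44 zd60) (kd xd15 yd56 zd27) (kd xd26 yd32 zd31) (kd xd20 yd44 zd59) (kd xd15 yd56 zd28) (kd xd28 yd41 zd48) (kd xd28 yd30 zd19) (kd xd31 yd55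 zd43) (kd xd21 yd14 zd2)) (@D3.rec (fun _ => Pt) (kd xd28 yd32 zd38) (kd xd29 yd40 zd52) (kd xd25 yd19 zd21) (kd xd32 yd1 zd6) (kd xd25 yd19 zd23) (kd xd19 yd59 zd4) (kd xd24 yd1 zd12) (kd xd32 yd1 zd8) (kd xd15 yd56 zd34) (kd xd31 yd12 zd34) (kd xd15 yd56 zd38) (kd xd31 yd28 zd34) (kd xd31 yd28 zd36) (kd xd15 yd56 zd39) (kd xd32 yd1 zd10) (kd xd15 yd56 zd41) (kd xd20 yd47 zd9) (kd xd27 yd12 zd26) (kd xd15 yd56 zd43) (kd xd19 yd28 zd21) (kd xd15 yd57 zd53) (kd xd15 yd57 zd54) (kd xd25 yd57 zd36) (kd xd15 yd56 zd51) (kd xd15 yd57 zd9) (kd xd15 yd57 zd10) (kd xd27 yd9 zd40) (kd xd22 yd59 zd59) (kd xd15 yd56 zd60) (kd xd31 yd26 zd61) (kd xd15 yd57 zd18) (kd xd15 yd57 zd19) (kd xd28 yd58 zd24) (kd xd19 yd37 zd1) (kd xd25 yd7 zd16) (kd xd15 yd57 zd8) (kd xd23 yd9 zd2) (kd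 xd24 yd57 zd57) (kd xd15 yd57 zd11) (kd xd32 yd1 zd14) (kd xd22 yd2 zd5) (kd xd15 yd57 zd20) (kd xd19 yd35 zd10) (kd xd31 yd9 zd29) (kd xd22 yd43 zd24) (kd xd25 yd30 zd13) (kd xd15 yd57 zd22) (kd xd27 yd18 zd11) (kd xd25 yd57 zd52) (kd xd15 yd57 zd23) (kd xd25 yd30 zd34) (kd xd15 yd57 zd39) (kd xd29 yd5 zd4) (kd xd32 yd1 zd18) (kd xd27 yd28 zd29) (kd xd15 yd57 zd29) (kd xd25 yd48 zd54) (kd xd32 yd1 zd19) (kd xd15 yd57 zd30) (kd xd27 yd11 zd4) (kd xd21 yd58 zd14) (kd xd21 yd50 zd5)) (@D3.rec (fun _ => Pt) (kd xd21 yd50 zd4) (kd xd29 yd6 zd37) (kd xd15 yd57 zd34) (kd xd32 yd1 zd20) (kd xd15 yd57 zd35) (kd xd17 yd36 zd8) (kd xd15 yd57 zd36) (kd xd32 yd1 zd23) (kd xd25 yd47 zd9) (kd xd25 yd47 zd10) (kd xd18 yd22 zd0) (kd xd32 yd1 zd17) (kd xd31 yd9 zd17) (kd xd32 yd1 zd25)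 (kd xd15 yd57 zd38) (kd xd29 yd56 zd0) (kd xd25 yd30 zd39) (kd xd25 yd30 zd40) (kd xd32 yd1 zd29) (kd xd15 yd57 zd42) (kd xd15 yd57 zd46) (kd xd32 yd1 zd30) (kd xd15 yd57 zd43) (kd xd27 yd4 zd13) (kd xd24 yd8 zd7) (kd xd25 yd43 zd28) (kd xd20 yd10 zd18) (kd xd15 yd57 zd47) (kd xd27 yd11 zd3) (kd xd31 yd46 zd6) (kd xd32 yd1 zd36) (kd xd15 yd57 zd48) (kd xd16 yd27 zd24) (kd xd29 yd18 zd34) (kd xd32 yd1 zd39) (kd xd15 yd57 zd51) (kd xd29 yd18 zd36) (kd xd26 yd0 zd30) (kd xd26 yd18 zd36) (kd xd29 yd28 zd30) (kd xd29 yd31 zd52) (kd xd27 yd51 zd59) (kd xd24 yd33 zd36) (kd xd32 yd1 zd44) (kd xd32 yd1 zd45) (kd xd15 yd57 zd55) (kd xd28 yd20 zd43) (kd xd22 yd54 zd30) (kd xd27 yd6 zd25) (kd xd22 yd22 zd54) (kd xd15 yd57 zd61) (kd xd28 yd19 zd46) (kd xd22 yd9 zd23) (kd xd29 yd12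 zd33) (kd xd24 yd33 zd43) (kd xd31 yd59 zd52) (kd xd29 yd12 zd34) (kd xd15 yd58 zd4) (kd xd29 yd24 zd56) (kd xd25 yd13 zd59) (kd xd16 yd2 zd24) (kd xd30 yd14 zd18)) (@D3.rec (fun _ => Pt) (kd xd28 yd45 zd6) (kd xd15 yd58 zd10) (kd xd25 yd13 zd14) (kd xd15 yd58 zd11) (kd xd16 yd1 zd50) (kd xd26 yd42 zd6) (kd xd25 yd25 zd54) (kd xd25 yd57 zd26) (kd xd28 yd51 zd13) (kd xd31 yd59 zd61) (kd xd26 yd51 zd14) (kd xd15 yd58 zd17) (kd xd23 yd9 zd4) (kd xd15 yd58 zd18) (kd xd15 yd58 zd19) (kd xd31 yd47 zd9) (kd xd18 yd43 zd58) (kd xd18 yd43 zd59) (kd xd29 yd59 zd10) (kd xd25 yd12 zd51) (kd xd31 yd54 zd11) (kd xd31 yd52 zd9) (kd xd31 yd35 zd60) (kd xd31 yd47 zd10) (kd xd15 yd58 zd24) (kd xd20 yd17 zd52) (kd xd15 yd58 zd25) (kd xd24 yd4 zd2) (kd xd25 yd43 zd45) (kd xd20 yd11 zd24)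 (kd xd24 yd4 zd1) (kd xd15 yd58 zd27) (kd xd20 yd42 zd33) (kd xd24 yd4 zd20) (kd xd15 yd58 zd28) (kd xd20 yd40 zd11) (kd xd19 yd25 zd40) (kd xd28 yd51 zd12) (kd xd20 yd44 zd6) (kd xd27 yd31 zd31) (kd xd25 yd45 zd26) (kd xd25 yd49 zd13) (kd xd24 yd37 zd43) (kd xd32 yd0 zd0) (kd xd15 yd58 zd34) (kd xd20 yd50 zd14) (kd xd17 yd24 zd12) (kd xd24 yd38 zd49) (kd xd24 yd38 zd53) (kd xd15 yd58 zd39) (kd xd30 yd56 zd16) (kd xd20 yd43 zd39) (kd xd15 yd59 zd43) (kd xd25 yd26 zd53) (kd xd25 yd30 zd3) (kd xd19 yd36 zd46) (kd xd28 yd37 zd61) (kd xd24 yd0 zd41) (kd xd32 yd1 zd61) (kd xd15 yd58 zd44) (kd xd15 yd58 zd45) (kd xd25 yd27 zd43)) (@D3.rec (fun _ => Pt) (kd xd25 yd27 zd44) (kd xd15 yd59 zd35) (kd xd22 yd2 zd19) (kd xd15 yd58 zd49) (kd xd15 yd59 zd39) (kd xd26 yd48 zd61) (kd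 xd30 yd6 zd51) (kd xd25 yd5 zd35) (kd xd31 yd27 zd13) (kd xd25 yd32 zd3) (kd xd21 yd0 zd18) (kd xd16 yd2 zd23) (kd xd22 yd15 zd2) (kd xd15 yd58 zd61) (kd xd29 yd53 zd29) (kd xd15 yd59 zd0) (kd xd22 yd25 zd29) (kd xd29 yd32 zd2) (kd xd26 yd26 zd40) (kd xd17 yd3 zd60) (kd xd17 yd45 zd7) (kd xd29 yd1 zd4) (kd xd31 yd13 zd9) (kd xd26 yd25 zd47) (kd xd24 yd9 zd61) (kd xd23 yd5 zd7) (kd xd15 yd59 zd10) (kd xd30 yd9 zd53) (kd xd26 yd26 zd42) (kd xd20 yd18 zd7) (kd xd32 yd2 zd6) (kd xd28 yd38 zd8) (kd xd31 yd23 zd17) (kd xd15 yd59 zd16) (kd xd28 yd33 zd43) (kd xd15 yd59 zd18) (kd xd16 yd0 zd16) (kd xd29 yd31 zd57) (kd xd25 yd31 zd42) (kd xd29 yd31 zd58) (kd xd31 yd59 zd34) (kd xd23 yd0 zd57) (kd xd25 yd47 zd31) (kd xd32 yd2 zd14) (kd xd15 yd59 zd23) (kd xd27 yd17 zd2) (kd xd31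 yd16 zd16) (kd xd19 yd31 zd21) (kd xd25 yd30 zd25) (kd xd28 yd20 zd37) (kd xd15 yd59 zd33) (kd xd31 yd54 zd59) (kd xd32 yd2 zd19) (kd xd15 yd59 zd34) (kd xd27 yd6 zd39) (kd xd25 yd22 zd55) (kd xd20 yd55 zd31) (kd xd15 yd59 zd38) (kd xd27 yd35 zd59) (kd xd26 yd16 zd56) (kd xd31 yd54 zd38) (kd xd15 yd59 zd46)) (@D3.rec (fun _ => Pt) (kd xd27 yd18 zd7) (kd xd25 yd13 zd36) (kd xd25 yd8 zd25) (kd xd19 yd19 zd32) (kd xd19 yd19 zd31) (kd xd30 yd5 zd16) (kd xd31 yd53 zd46) (kd xd29 yd17 zd25) (kd xd15 yd59 zd52) (kd xd19 yd25 zd7) (kd xd30 yd8 zd46) (kd xd24 yd11 zd46) (kd xd17 yd58 zd59) (kd xd25 yd31 zd27) (kd xd20 yd21 zd43) (kd xd29 yd16 zd41) (kd xd31 yd36 zd32) (kd xd28 yd59 zd58) (kd xd15 yd59 zd58) (kd xd32 yd0 zd6) (kd xd22 yd9 zd27) (kd xd27 yd6 zd38) (kd xd15 yd59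 zd61) (kd xd21 yd17 zd33) (kd xd21 yd58 zd57) (kd xd25 yd31 zd61) (kd xd25 yd55 zd7) (kd xd20 yd12 zd48) (kd xd22 yd3 zd0) (kd xd17 yd14 zd40) (kd xd27 yd23 zd7) (kd xd16 yd0 zd12) (kd xd30 yd3 zd28) (kd xd32 yd2 zd26) (kd xd22 yd22 zd38) (kd xd27 yd18 zd23) (kd xd25 yd53 zd22) (kd xd29 yd16 zd30) (kd xd16 yd0 zd22) (kd xd16 yd0 zd23) (kd xd27 yd18 zd19) (kd xd17 yd14 zd45) (kd xd21 yd56 zd41) (kd xd31 yd3 zd53) (kd xd31 yd45 zd41) (kd xd28 yd17 zd16) (kd xd26 yd42 zd12) (kd xd16 yd0 zd29) (kd xd19 yd46 zd29) (kd xd17 yd25 zd60) (kd xd31 yd54 zd60) (kd xd30 yd7 zd61) (kd xd25 yd53 zd48) (kd xd16 yd1 zd28) (kd xd16 yd3 zd57) (kd xd16 yd1 zd36) (kd xd16 yd0 zd39) (kd xd16 yd1 zd37) (kd xd25 yd33 zd48) (kd xd30 yd36 zd8) (kd xd30 yd48 zd48) (kd xd28 yd24 zd16)) (@D3.rec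 (fun _ => Pt) (kd xd22 yd22 zd47) (kd xd20 yd37 zd16) (kd xd30 yd51 zd24) (kd xd16 yd0 zd43) (kd xd26 yd39 zd24) (kd xd16 yd0 zd46) (kd xd17 yd34 zd23) (kd xd28 yd11 zd33) (kd xd16 yd0 zd47) (kd xd21 yd6 zd27) (kd xd30 yd18 zd4) (kd xd30 yd9 zd16) (kd xd21 yd4 zd6) (kd xd16 yd0 zd50) (kd xd16 yd0 zd51) (kd xd25 yd34 zd39) (kd xd16 yd0 zd53) (kd xd28 yd12 zd47) (kd xd16 yd1 zd41) (kd xd21 yd18 zd55) (kd xd16 yd0 zd56) (kd xd23 yd20 zd54) (kd xd16 yd0 zd57) (kd xd26 yd1 zd22) (kd xd22 yd51 zd28) (kd xd29 yd0 zd16) (kd xd24 yd40 zd26) (kd xd31 yd49 zd15) (kd xd30 yd12 zd5) (kd xd28 yd12 zd48) (kd xd29 yd0 zd17) (kd xd31 yd53 zd29) (kd xd29 yd28 zd43) (kd xd30 yd47 zd58) (kd xd31 yd45 zd25) (kd xd19 yd36 zd45) (kd xd29 yd33 zd15) (kd xd16 yd1 zd12) (kd xd31 yd54 zd40) (kd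 xd28 yd41 zd45) (kd xd16 yd1 zd13) (kd xd16 yd1 zd15) (kd xd16 yd1 zd16) (kd xd27 yd31 zd55) (kd xd29 yd56 zd34) (kd xd31 yd35 zd17) (kd xd26 yd6 zd28) (kd xd16 yd1 zd19) (kd xd24 yd40 zd18) (kd xd29 yd4 zd33) (kd xd31 yd6 zd17) (kd xd16 yd1 zd21) (kd xd32 yd2 zd54) (kd xd16 yd1 zd23) (kd xd26 yd17 zd8) (kd xd26 yd17 zd9) (kd xd18 yd28 zd48) (kd xd20 yd36 zd20) (kd xd32 yd2 zd56) (kd xd32 yd2 zd57) (kd xd24 yd40 zd14) (kd xd16 yd1 zd29)) (@D3.rec (fun _ => Pt) (kd xd20 yd17 zd49) (kd xd16 yd1 zd30) (kd xd21 yd35 zd58) (kd xd30 yd1 zd38) (kd xd27 yd17 zd51) (kd xd30 yd51 zd59) (kd xd16 yd1 zd32) (kd xd32 yd2 zd36) (kd xd30 yd12 zd44) (kd xd16 yd1 zd40) (kd xd16 yd1 zd43) (kd xd16 yd1 zd44) (kd xd16 yd15 zd1) (kd xd22 yd9 zd19) (kd xd16 yd25 zd61) (kd xd18 yd53 zd39)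 (kd xd30 yd50 zd55) (kd xd26 yd12 zd31) (kd xd28 yd51 zd6) (kd xd16 yd43 zd17) (kd xd29 yd9 zd28) (kd xd16 yd1 zd52) (kd xd22 yd33 zd57) (kd xd19 yd30 zd30) (kd xd29 yd2 zd6) (kd xd32 yd3 zd1) (kd xd26 yd56 zd53) (kd xd20 yd34 zd0) (kd xd30 yd39 zd37) (kd xd22 yd53 zd40) (kd xd18 yd36 zd1) (kd xd28 yd12 zd49) (kd xd16 yd1 zd57) (kd xd23 yd14 zd30) (kd xd30 yd18 zd46) (kd xd29 yd53 zd17) (kd xd26 yd1 zd5) (kd xd16 yd43 zd18) (kd xd19 yd29 zd47) (kd xd28 yd56 zd2) (kd xd27 yd3 zd12) (kd xd19 yd29 zd49) (kd xd26 yd56 zd21) (kd xd19 yd3 zd7) (kd xd29 yd2 zd7) (kd xd19 yd3 zd3) (kd xd25 yd36 zd32) (kd xd24 yd13 zd35) (kd xd23 yd14 zd58) (kd xd16 yd2 zd8) (kd xd19 yd7 zd45) (kd xd20 yd39 zd38) (kd xd19 yd3 zd13) (kd xd26 yd42 zd5) (kd xd18 yd51 zd28) (kd xd16 yd2 zd11) (kd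 xd22 yd22 zd52) (kd xd29 yd44 zd25) (kd xd16 yd2 zd15) (kd xd26 yd4 zd50) (kd xd29 yd17 zd42) (kd xd17 yd20 zd15))
def f_d_26 : D2 → D3 → Pt := @D2.rec (fun _ => D3 → Pt) (@D3.rec (fun _ => Pt) (kd xd17 yd25 zd17) (kd xd32 yd3 zd7) (kd xd29 yd41 zd32) (kd xd19 yd57 zd44) (kd xd30 yd13 zd23) (kd xd25 yd6 zd5) (kd xd25 yd6 zd8) (kd xd21 yd57 zd40) (kd xd25 yd36 zd53) (kd xd31 yd20 zd25) (kd xd16 yd2 zd31) (kd xd18 yd46 zd28) (kd xd16 yd2 zd39) (kd xd26 yd1 zd34) (kd xd25 yd37 zd48) (kd xd26 yd1 zd13) (kd xd24 yd31 zd45) (kd xd16 yd2 zd45) (kd xd30 yd13 zd29) (kd xd16 yd2 zd46) (kd xd29 yd43 zd55) (kd xd16 yd2 zd48) (kd xd25 yd37 zd3) (kd xd28 yd47 zd57) (kd xd17 yd38 zd49) (kd xd17 yd36 zd39) (kd xd26 yd11 zd31) (kd xd30 yd25 zd0) (kd xd30 yd53 zd33) (kd xd31 yd9 zd0)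 (kd xd25 yd54 zd37) (kd xd31 yd6 zd52) (kd xd29 yd17 zd37) (kd xd16 yd3 zd6) (kd xd32 yd3 zd9) (kd xd21 yd46 zd60) (kd xd21 yd8 zd42) (kd xd30 yd36 zd4) (kd xd29 yd51 zd29) (kd xd21 yd55 zd55) (kd xd19 yd47 zd29) (kd xd31 yd59 zd22) (kd xd31 yd2 zd44) (kd xd30 yd13 zd39) (kd xd16 yd3 zd22) (kd xd28 yd1 zd6) (kd xd25 yd38 zd57) (kd xd29 yd48 zd59) (kd xd20 yd13 zd30) (kd xd16 yd6 zd27) (kd xd16 yd6 zd29) (kd xd27 yd58 zd49) (kd xd16 yd50 zd55) (kd xd31 yd12 zd4) (kd xd16 yd3 zd30) (kd xd16 yd3 zd31) (kd xd19 yd5 zd46) (kd xd27 yd58 zd55) (kd xd24 yd42 zd31) (kd xd18 yd6 zd46) (kd xd25 yd37 zd4) (kd xd16 yd3 zd38)) (@D3.rec (fun _ => Pt) (kd xd23 yd25 zd24) (kd xd25 yd25 zd47) (kd xd21 yd50 zd6) (kd xd21 yd58 zd53) (kd xd32 yd2 zd33) (kd xd25 yd59 zd36) (kd xd20 yd59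 zd12) (kd xd26 yd23 zd13) (kd xd16 yd4 zd18) (kd xd16 yd4 zd19) (kd xd30 yd42 zd45) (kd xd30 yd2 zd14) (kd xd16 yd4 zd1) (kd xd26 yd0 zd15) (kd xd25 yd10 zd44) (kd xd16 yd5 zd60) (kd xd16 yd5 zd61) (kd xd16 yd5 zd34) (kd xd18 yd39 zd60) (kd xd18 yd13 zd3) (kd xd29 yd49 zd50) (kd xd16 yd4 zd9) (kd xd25 yd58 zd23) (kd xd19 yd42 zd9) (kd xd19 yd31 zd46) (kd xd16 yd4 zd12) (kd xd22 yd2 zd50) (kd xd29 yd4 zd23) (kd xd32 yd3 zd14) (kd xd16 yd4 zd15) (kd xd32 yd3 zd17) (kd xd32 yd3 zd18) (kd xd16 yd4 zd16) (kd xd24 yd32 zd27) (kd xd26 yd0 zd13) (kd xd18 yd28 zd34) (kd xd24 yd54 zd47) (kd xd17 yd42 zd18) (kd xd19 yd15 zd40) (kd xd20 yd54 zd52) (kd xd16 yd4 zd27) (kd xd16 yd4 zd28) (kd xd29 yd32 zd56) (kd xd26 yd51 zd4) (kd xd32 yd3 zd19) (kd xd29 yd58 zd32) (kd xd16 yd4 zd33)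 (kd xd28 yd37 zd26) (kd xd16 yd4 zd35) (kd xd32 yd3 zd21) (kd xd16 yd50 zd50) (kd xd26 yd5 zd8) (kd xd16 yd4 zd38) (kd xd26 yd2 zd42) (kd xd32 yd3 zd22) (kd xd27 yd43 zd36) (kd xd23 yd26 zd18) (kd xd16 yd6 zd13) (kd xd26 yd47 zd5) (kd xd16 yd39 zd11) (kd xd16 yd37 zd9) (kd xd32 yd3 zd24)) (@D3.rec (fun _ => Pt) (kd xd32 yd3 zd25) (kd xd16 yd4 zd48) (kd xd31 yd34 zd41) (kd xd31 yd3 zd29) (kd xd22 yd24 zd32) (kd xd28 yd54 zd39) (kd xd16 yd41 zd48) (kd xd16 yd4 zd59) (kd xd30 yd55 zd45) (kd xd31 yd14 zd14) (kd xd24 yd54 zd17) (kd xd19 yd54 zd61) (kd xd16 yd5 zd5) (kd xd19 yd40 zd46) (kd xd30 yd34 zd55) (kd xd24 yd27 zd26) (kd xd31 yd59 zd23) (kd xd32 yd3 zd29) (kd xd25 yd37 zd53) (kd xd28 yd43 zd57) (kd xd23 yd22 zd43) (kd xd31 yd57 zd34) (kd xd17 yd57 zd1) (kd xd27 yd44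 zd29) (kd xd16 yd5 zd21) (kd xd30 yd55 zd57) (kd xd31 yd3 zd8) (kd xd16 yd5 zd22) (kd xd29 yd34 zd44) (kd xd16 yd7 zd18) (kd xd24 yd22 zd59) (kd xd16 yd5 zd25) (kd xd31 yd3 zd12) (kd xd16 yd5 zd26) (kd xd23 yd26 zd17) (kd xd31 yd57 zd13) (kd xd29 yd51 zd37) (kd xd32 yd3 zd31) (kd xd26 yd40 zd36) (kd xd17 yd5 zd15) (kd xd16 yd5 zd32) (kd xd20 yd39 zd24) (kd xd26 yd1 zd53) (kd xd28 yd54 zd11) (kd xd29 yd14 zd5) (kd xd20 yd5 zd15) (kd xd16 yd5 zd42) (kd xd16 yd39 zd4) (kd xd20 yd39 zd10) (kd xd24 yd54 zd50) (kd xd16 yd5 zd44) (kd xd17 yd54 zd15) (kd xd16 yd5 zd48) (kd xd29 yd44 zd54) (kd xd16 yd5 zd49) (kd xd31 yd2 zd7) (kd xd30 yd1 zd53) (kd xd16 yd5 zd53) (kd xd22 yd21 zd44) (kd xd28 yd59 zd37) (kd xd25 yd43 zd0) (kd xd16 yd45 zd18)) (@D3.rec (fun _ => Pt) (kd xd26 yd44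 zd10) (kd xd19 yd53 zd59) (kd xd16 yd6 zd0) (kd xd16 yd6 zd3) (kd xd30 yd42 zd26) (kd xd27 yd57 zd6) (kd xd30 yd17 zd39) (kd xd30 yd17 zd40) (kd xd18 yd27 zd46) (kd xd28 yd49 zd32) (kd xd16 yd6 zd14) (kd xd18 yd40 zd7) (kd xd17 yd51 zd52) (kd xd16 yd6 zd18) (kd xd20 yd52 zd29) (kd xd19 yd57 zd55) (kd xd19 yd57 zd56) (kd xd16 yd39 zd13) (kd xd24 yd52 zd8) (kd xd29 yd47 zd28) (kd xd28 yd29 zd0) (kd xd16 yd6 zd23) (kd xd31 yd56 zd46) (kd xd16 yd6 zd24) (kd xd26 yd8 zd12) (kd xd26 yd8 zd14) (kd xd28 yd34 zd51) (kd xd16 yd6 zd26) (kd xd30 yd17 zd47) (kd xd31 yd6 zd33) (kd xd21 yd6 zd36) (kd xd26 yd57 zd45) (kd xd32 yd3 zd43) (kd xd21 yd6 zd38) (kd xd26 yd57 zd44) (kd xd25 yd42 zd51) (kd xd16 yd6 zd32) (kd xd16 yd6 zd35) (kd xd16 yd6 zd42) (kd xd16 yd6 zd50) (kd xd24 yd51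 zd51) (kd xd16 yd6 zd54) (kd xd16 yd6 zd56) (kd xd24 yd57 zd56) (kd xd32 yd3 zd45) (kd xd16 yd6 zd58) (kd xd16 yd6 zd60) (kd xd18 yd52 zd35) (kd xd21 yd4 zd3) (kd xd21 yd19 zd17) (kd xd19 yd34 zd26) (kd xd16 yd7 zd7) (kd xd21 yd6 zd37) (kd xd26 yd8 zd54) (kd xd16 yd7 zd11) (kd xd17 yd5 zd48) (kd xd28 yd1 zd33) (kd xd21 yd25 zd57) (kd xd23 yd38 zd7) (kd xd27 yd37 zd52) (kd xd18 yd30 zd40) (kd xd16 yd7 zd21)) (@D3.rec (fun _ => Pt) (kd xd21 yd44 zd49) (kd xd25 yd36 zd4) (kd xd20 yd6 zd58) (kd xd16 yd7 zd36) (kd xd21 yd32 zd17) (kd xd31 yd51 zd53) (kd xd31 yd34 zd0) (kd xd20 yd13 zd42) (kd xd27 yd25 zd17) (kd xd22 yd29 zd14) (kd xd26 yd11 zd48) (kd xd27 yd25 zd5) (kd xd21 yd32 zd1) (kd xd31 yd52 zd27) (kd xd27 yd53 zd34) (kd xd27 yd51 zd6) (kd xd27 yd51 zd10) (kd xd28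 yd6 zd10) (kd xd17 yd42 zd33) (kd xd28 yd6 zd9) (kd xd18 yd12 zd60) (kd xd28 yd6 zd13) (kd xd28 yd6 zd12) (kd xd16 yd7 zd53) (kd xd16 yd7 zd56) (kd xd21 yd31 zd16) (kd xd31 yd7 zd40) (kd xd16 yd7 zd58) (kd xd32 yd3 zd52) (kd xd26 yd59 zd19) (kd xd28 yd25 zd38) (kd xd16 yd8 zd2) (kd xd32 yd3 zd54) (kd xd26 yd21 zd38) (kd xd16 yd8 zd3) (kd xd31 yd38 zd29) (kd xd25 yd6 zd48) (kd xd17 yd44 zd50) (kd xd31 yd47 zd15) (kd xd16 yd8 zd5) (kd xd31 yd4 zd54) (kd xd32 yd3 zd58) (kd xd26 yd33 zd60) (kd xd32 yd3 zd61) (kd xd16 yd8 zd11) (kd xd32 yd4 zd3) (kd xd25 yd30 zd50) (kd xd16 yd8 zd12) (kd xd27 yd18 zd49) (kd xd18 yd33 zd48) (kd xd25 yd59 zd59) (kd xd16 yd8 zd14) (kd xd32 yd1 zd0) (kd xd17 yd25 zd13) (kd xd25 yd48 zd17) (kd xd29 yd4 zd59) (kd xd19 yd24 zd37) (kd xd24 yd15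 zd52) (kd xd29 yd44 zd31) (kd xd16 yd8 zd17) (kd xd18 yd22 zd26) (kd xd29 yd44 zd36)) (@D3.rec (fun _ => Pt) (kd xd16 yd8 zd18) (kd xd32 yd0 zd45) (kd xd30 yd9 zd17) (kd xd20 yd56 zd18) (kd xd16 yd8 zd20) (kd xd31 yd49 zd59) (kd xd31 yd50 zd23) (kd xd25 yd11 zd31) (kd xd26 yd1 zd51) (kd xd16 yd8 zd23) (kd xd25 yd10 zd2) (kd xd16 yd17 zd25) (kd xd18 yd3 zd29) (kd xd18 yd5 zd32) (kd xd17 yd43 zd28) (kd xd16 yd8 zd29) (kd xd16 yd22 zd52) (kd xd16 yd22 zd53) (kd xd19 yd59 zd39) (kd xd29 yd29 zd59) (kd xd30 yd54 zd11) (kd xd26 yd7 zd19) (kd xd16 yd8 zd36) (kd xd21 yd4 zd32) (kd xd28 yd13 zd30) (kd xd23 yd22 zd25) (kd xd18 yd27 zd59) (kd xd16 yd8 zd41) (kd xd16 yd8 zd58) (kd xd19 yd17 zd55) (kd xd25 yd23 zd48) (kd xd32 yd4 zd15) (kd xd25 yd42 zd35) (kd xd27 yd12 zd47) (kd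 xd16 yd8 zd45) (kd xd25 yd42 zd32) (kd xd31 yd51 zd52) (kd xd31 yd50 zd4) (kd xd26 yd33 zd7) (kd xd16 yd8 zd50) (kd xd27 yd38 zd7) (kd xd21 yd40 zd29) (kd xd27 yd20 zd14) (kd xd18 yd39 zd41) (kd xd16 yd8 zd56) (kd xd16 yd26 zd24) (kd xd16 yd8 zd61) (kd xd27 yd44 zd16) (kd xd16 yd9 zd1) (kd xd30 yd11 zd27) (kd xd21 yd34 zd7) (kd xd16 yd9 zd4) (kd xd26 yd11 zd6) (kd xd16 yd13 zd58) (kd xd26 yd41 zd0) (kd xd24 yd14 zd48) (kd xd30 yd9 zd5) (kd xd27 yd29 zd26) (kd xd16 yd9 zd18) (kd xd20 yd54 zd9) (kd xd20 yd54 zd10) (kd xd30 yd42 zd53)) (@D3.rec (fun _ => Pt) (kd xd16 yd9 zd21) (kd xd29 yd45 zd44) (kd xd29 yd39 zd35) (kd xd17 yd33 zd55) (kd xd27 yd13 zd37) (kd xd18 yd13 zd51) (kd xd24 yd2 zd12) (kd xd32 yd4 zd17) (kd xd16 yd9 zd26) (kd xd31 yd50 zd49) (kd xd32 yd4 zd19)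 (kd xd16 yd9 zd30) (kd xd31 yd50 zd10) (kd xd24 yd1 zd61) (kd xd16 yd9 zd32) (kd xd32 yd4 zd21) (kd xd16 yd9 zd34) (kd xd16 yd9 zd35) (kd xd27 yd5 zd59) (kd xd16 yd9 zd38) (kd xd32 yd4 zd27) (kd xd32 yd4 zd29) (kd xd32 yd4 zd26) (kd xd21 yd25 zd22) (kd xd16 yd9 zd39) (kd xd16 yd9 zd41) (kd xd17 yd44 zd49) (kd xd16 yd9 zd43) (kd xd25 yd58 zd46) (kd xd19 yd5 zd49) (kd xd17 yd57 zd22) (kd xd16 yd9 zd48) (kd xd20 yd24 zd31) (kd xd29 yd9 zd40) (kd xd29 yd57 zd48) (kd xd16 yd9 zd52) (kd xd32 yd3 zd15) (kd xd16 yd9 zd53) (kd xd16 yd50 zd45) (kd xd24 yd41 zd59) (kd xd32 yd4 zd33) (kd xd16 yd9 zd55) (kd xd18 yd6 zd57) (kd xd32 yd4 zd35) (kd xd16 yd9 zd57) (kd xd28 yd12 zd24) (kd xd16 yd9 zd61) (kd xd24 yd41 zd40) (kd xd16 yd10 zd3) (kd xd29 yd10 zd7) (kd xd16 yd10 zd4) (kd xd32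 yd4 zd38) (kd xd30 yd6 zd42) (kd xd16 yd10 zd5) (kd xd30 yd16 zd40) (kd xd31 yd48 zd47) (kd xd18 yd40 zd2) (kd xd16 yd11 zd43) (kd xd32 yd4 zd39) (kd xd16 yd10 zd8) (kd xd32 yd4 zd40) (kd xd16 yd10 zd7)) (@D3.rec (fun _ => Pt) (kd xd29 yd10 zd6) (kd xd16 yd10 zd9) (kd xd16 yd11 zd42) (kd xd16 yd13 zd21) (kd xd28 yd11 zd25) (kd xd21 yd12 zd25) (kd xd28 yd11 zd26) (kd xd29 yd10 zd14) (kd xd30 yd32 zd51) (kd xd30 yd32 zd50) (kd xd26 yd9 zd55) (kd xd16 yd10 zd16) (kd xd32 yd4 zd42) (kd xd28 yd3 zd45) (kd xd16 yd10 zd17) (kd xd32 yd4 zd43) (kd xd16 yd10 zd19) (kd xd26 yd47 zd15) (kd xd22 yd45 zd29) (kd xd26 yd5 zd21) (kd xd25 yd42 zd53) (kd xd26 yd21 zd21) (kd xd22 yd30 zd4) (kd xd22 yd30 zd6) (kd xd17 yd6 zd52) (kd xd28 yd18 zd14) (kd xd17 yd2 zd55) (kd xd16 yd25 zd26)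 (kd xd20 yd46 zd36) (kd xd18 yd58 zd44) (kd xd30 yd51 zd54) (kd xd20 yd13 zd34) (kd xd17 yd2 zd44) (kd xd31 yd7 zd12) (kd xd25 yd39 zd55) (kd xd19 yd47 zd28) (kd xd20 yd36 zd45) (kd xd22 yd56 zd4) (kd xd30 yd53 zd42) (kd xd32 yd4 zd45) (kd xd27 yd31 zd16) (kd xd25 yd15 zd55) (kd xd31 yd39 zd18) (kd xd25 yd19 zd57) (kd xd20 yd24 zd23) (kd xd22 yd30 zd16) (kd xd27 yd27 zd26) (kd xd18 yd58 zd48) (kd xd21 yd15 zd7) (kd xd24 yd57 zd46) (kd xd16 yd11 zd5) (kd xd20 yd56 zd50) (kd xd30 yd13 zd27) (kd xd30 yd15 zd55) (kd xd16 yd11 zd11) (kd xd24 yd23 zd34) (kd xd27 yd57 zd2) (kd xd26 yd7 zd60) (kd xd32 yd4 zd46) (kd xd21 yd20 zd59) (kd xd26 yd7 zd57) (kd xd25 yd35 zd11)) (@D3.rec (fun _ => Pt) (kd xd21 yd56 zd34) (kd xd21 yd56 zd32) (kd xd16 yd11 zd18) (kd xd24 yd52 zd27) (kd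 xd22 yd31 zd7) (kd xd16 yd11 zd23) (kd xd16 yd50 zd13) (kd xd25 yd41 zd61) (kd xd16 yd11 zd25) (kd xd16 yd49 zd54) (kd xd16 yd11 zd27) (kd xd32 yd4 zd52) (kd xd26 yd3 zd24) (kd xd30 yd33 zd37) (kd xd26 yd3 zd25) (kd xd18 yd18 zd17) (kd xd16 yd11 zd31) (kd xd32 yd4 zd53) (kd xd16 yd11 zd30) (kd xd32 yd4 zd56) (kd xd16 yd11 zd32) (kd xd20 yd39 zd34) (kd xd22 yd15 zd46) (kd xd23 yd37 zd34) (kd xd29 yd22 zd3) (kd xd23 yd35 zd7) (kd xd23 yd35 zd3) (kd xd31 yd56 zd40) (kd xd31 yd56 zd41) (kd xd26 yd40 zd27) (kd xd26 yd41 zd15) (kd xd16 yd11 zd41) (kd xd23 yd44 zd46) (kd xd27 yd48 zd31) (kd xd32 yd4 zd59) (kd xd24 yd52 zd33) (kd xd24 yd34 zd25) (kd xd24 yd30 zd41) (kd xd16 yd11 zd48) (kd xd18 yd42 zd43) (kd xd31 yd32 zd48) (kd xd16 yd20 zd47) (kd xd23 yd32 zd46) (kd xd18 yd2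 zd59) (kd xd16 yd11 zd55) (kd xd30 yd0 zd24) (kd xd16 yd24 zd16) (kd xd26 yd10 zd7) (kd xd23 yd44 zd45) (kd xd16 yd11 zd61) (kd xd16 yd12 zd0) (kd xd30 yd7 zd45) (kd xd29 yd21 zd61) (kd xd29 yd22 zd2) (kd xd26 yd3 zd53) (kd xd16 yd12 zd2) (kd xd21 yd27 zd46) (kd xd20 yd0 zd44) (kd xd26 yd23 zd45) (kd xd16 yd12 zd9) (kd xd16 yd12 zd12) (kd xd24 yd54 zd21)) (@D3.rec (fun _ => Pt) (kd xd18 yd38 zd58) (kd xd27 yd56 zd53) (kd xd32 yd5 zd5) (kd xd27 yd56 zd55) (kd xd20 yd26 zd23) (kd xd28 yd26 zd8) (kd xd16 yd12 zd24) (kd xd16 yd12 zd25) (kd xd31 yd6 zd40) (kd xd16 yd12 zd26) (kd xd19 yd5 zd42) (kd xd25 yd45 zd31) (kd xd23 yd21 zd2) (kd xd24 yd25 zd29) (kd xd16 yd12 zd32) (kd xd32 yd5 zd8) (kd xd16 yd12 zd33) (kd xd32 yd5 zd9) (kd xd31 yd43 zd29) (kd xd16 yd12 zd34) (kd xd22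 yd40 zd53) (kd xd21 yd51 zd16) (kd xd18 yd39 zd55) (kd xd23 yd17 zd11) (kd xd32 yd5 zd10) (kd xd16 yd12 zd37) (kd xd16 yd12 zd36) (kd xd23 yd21 zd5) (kd xd23 yd14 zd18) (kd xd30 yd57 zd19) (kd xd24 yd23 zd32) (kd xd25 yd0 zd8) (kd xd23 yd24 zd41) (kd xd23 yd59 zd37) (kd xd31 yd45 zd7) (kd xd32 yd5 zd14) (kd xd28 yd12 zd34) (kd xd30 yd34 zd61) (kd xd25 yd46 zd35) (kd xd22 yd31 zd15) (kd xd23 yd25 zd44) (kd xd16 yd12 zd47) (kd xd30 yd0 zd36) (kd xd17 yd53 zd51) (kd xd19 yd54 zd9) (kd xd29 yd9 zd34) (kd xd32 yd5 zd18) (kd xd27 yd12 zd3) (kd xd19 yd55 zd26) (kd xd19 yd6 zd13) (kd xd25 yd22 zd12) (kd xd16 yd12 zd58) (kd xd16 yd13 zd17) (kd xd16 yd13 zd5) (kd xd29 yd11 zd28) (kd xd26 yd7 zd10) (kd xd16 yd13 zd6) (kd xd32 yd5 zd20) (kd xd32 yd3 zd39) (kd xd32 yd5 zd21) (kd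 xd18 yd18 zd3) (kd xd30 yd43 zd11)) (@D3.rec (fun _ => Pt) (kd xd32 yd5 zd22) (kd xd16 yd13 zd10) (kd xd32 yd3 zd16) (kd xd16 yd13 zd9) (kd xd29 yd11 zd27) (kd xd28 yd49 zd59) (kd xd24 yd9 zd33) (kd xd26 yd8 zd47) (kd xd30 yd42 zd16) (kd xd28 yd24 zd27) (kd xd16 yd13 zd16) (kd xd30 yd13 zd16) (kd xd23 yd2 zd7) (kd xd23 yd59 zd12) (kd xd23 yd59 zd11) (kd xd24 yd30 zd54) (kd xd16 yd13 zd20) (kd xd19 yd54 zd49) (kd xd19 yd56 zd38) (kd xd27 yd39 zd4) (kd xd19 yd54 zd5) (kd xd25 yd28 zd6) (kd xd16 yd13 zd26) (kd xd21 yd28 zd59) (kd xd21 yd28 zd60) (kd xd16 yd13 zd31) (kd xd21 yd8 zd14) (kd xd17 yd51 zd56) (kd xd31 yd44 zd26) (kd xd20 yd27 zd38) (kd xd32 yd5 zd24) (kd xd16 yd13 zd37) (kd xd16 yd13 zd39) (kd xd16 yd13 zd44) (kd xd22 yd14 zd46) (kd xd26 yd58 zd25) (kd xd28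 yd1 zd32) (kd xd20 yd14 zd29) (kd xd16 yd13 zd45) (kd xd31 yd24 zd19) (kd xd20 yd12 zd49) (kd xd25 yd12 zd16) (kd xd17 yd4 zd30) (kd xd16 yd13 zd55) (kd xd16 yd55 zd48) (kd xd23 yd13 zd2) (kd xd16 yd13 zd59) (kd xd23 yd51 zd47) (kd xd26 yd18 zd12) (kd xd16 yd13 zd60) (kd xd17 yd39 zd23) (kd xd31 yd44 zd41) (kd xd28 yd25 zd15) (kd xd16 yd14 zd0) (kd xd27 yd51 zd5) (kd xd32 yd5 zd28) (kd xd23 yd13 zd3) (kd xd31 yd55 zd49) (kd xd16 yd14 zd2) (kd xd30 yd3 zd40) (kd xd16 yd14 zd3) (kd xd25 yd3 zd30)) (@D3.rec (fun _ => Pt) (kd xd16 yd20 zd24) (kd xd16 yd14 zd5) (kd xd27 yd50 zd53) (kd xd31 yd38 zd52) (kd xd24 yd3 zd38) (kd xd21 yd18 zd0) (kd xd26 yd5 zd52) (kd xd23 yd51 zd52) (kd xd24 yd5 zd2) (kd xd16 yd14 zd9) (kd xd20 yd44 zd57) (kd xd16 yd37 zd13) (kd xd16 yd37 zd14)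 (kd xd16 yd36 zd44) (kd xd20 yd55 zd57) (kd xd16 yd14 zd13) (kd xd16 yd59 zd54) (kd xd27 yd27 zd42) (kd xd30 yd9 zd2) (kd xd27 yd31 zd13) (kd xd27 yd27 zd44) (kd xd27 yd29 zd54) (kd xd16 yd14 zd20) (kd xd16 yd14 zd26) (kd xd16 yd14 zd27) (kd xd22 yd15 zd18) (kd xd28 yd42 zd55) (kd xd30 yd3 zd45) (kd xd16 yd14 zd22) (kd xd17 yd40 zd34) (kd xd17 yd40 zd18) (kd xd26 yd0 zd26) (kd xd32 yd5 zd31) (kd xd18 yd45 zd44) (kd xd16 yd14 zd28) (kd xd17 yd37 zd17) (kd xd17 yd37 zd18) (kd xd27 yd38 zd47) (kd xd28 yd7 zd3) (kd xd16 yd14 zd33) (kd xd16 yd14 zd34) (kd xd17 yd37 zd41) (kd xd32 yd5 zd39) (kd xd29 yd31 zd46) (kd xd16 yd14 zd36) (kd xd30 yd58 zd60) (kd xd16 yd18 zd20) (kd xd16 yd14 zd39) (kd xd26 yd4 zd10) (kd xd21 yd53 zd41) (kd xd32 yd5 zd45) (kd xd16 yd18 zd13) (kd xd30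 yd59 zd61) (kd xd30 yd0 zd56) (kd xd22 yd8 zd12) (kd xd23 yd16 zd2) (kd xd24 yd31 zd38) (kd xd24 yd31 zd28) (kd xd29 yd22 zd0) (kd xd16 yd14 zd43) (kd xd32 yd5 zd56) (kd xd19 yd15 zd15)) (@D3.rec (fun _ => Pt) (kd xd19 yd15 zd20) (kd xd16 yd18 zd22) (kd xd19 yd18 zd50) (kd xd18 yd7 zd45) (kd xd16 yd14 zd46) (kd xd24 yd55 zd5) (kd xd24 yd55 zd16) (kd xd16 yd14 zd47) (kd xd31 yd32 zd57) (kd xd27 yd38 zd30) (kd xd16 yd14 zd48) (kd xd30 yd23 zd19) (kd xd27 yd46 zd39) (kd xd25 yd49 zd38) (kd xd24 yd45 zd42) (kd xd16 yd18 zd14) (kd xd24 yd18 zd17) (kd xd25 yd23 zd22) (kd xd17 yd41 zd49) (kd xd29 yd10 zd27) (kd xd27 yd28 zd46) (kd xd24 yd55 zd7) (kd xd17 yd38 zd43) (kd xd17 yd54 zd40) (kd xd24 yd43 zd35) (kd xd24 yd32 zd38) (kd xd23 yd22 zd32) (kd xd23 yd51 zd46) (kd xd25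 yd3 zd39) (kd xd16 yd15 zd0) (kd xd31 yd37 zd20) (kd xd25 yd59 zd17) (kd xd32 yd1 zd31) (kd xd24 yd37 zd40) (kd xd16 yd15 zd3) (kd xd21 yd22 zd58) (kd xd25 yd10 zd43) (kd xd28 yd2 zd24) (kd xd27 yd28 zd2) (kd xd16 yd15 zd7) (kd xd32 yd6 zd1) (kd xd16 yd16 zd4) (kd xd19 yd11 zd60) (kd xd27 yd43 zd23) (kd xd30 yd26 zd25) (kd xd27 yd45 zd40) (kd xd25 yd0 zd16) (kd xd28 yd32 zd3) (kd xd17 yd40 zd25) (kd xd17 yd40 zd26) (kd xd16 yd15 zd15) (kd xd27 yd45 zd34) (kd xd16 yd18 zd46) (kd xd27 yd48 zd59) (kd xd19 yd59 zd38) (kd xd16 yd19 zd15) (kd xd26 yd20 zd51) (kd xd16 yd15 zd24) (kd xd16 yd15 zd26) (kd xd18 yd24 zd6) (kd xd27 yd31 zd8) (kd xd16 yd15 zd31)) (@D3.rec (fun _ => Pt) (kd xd30 yd3 zd54) (kd xd26 yd46 zd12) (kd xd32 yd6 zd3) (kd xd22 yd54 zd21) (kd xd23 yd22 zd29)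 (kd xd16 yd15 zd34) (kd xd31 yd14 zd20) (kd xd16 yd15 zd35) (kd xd21 yd17 zd47) (kd xd30 yd53 zd16) (kd xd29 yd39 zd48) (kd xd31 yd1 zd19) (kd xd23 yd50 zd21) (kd xd16 yd15 zd40) (kd xd27 yd31 zd50) (kd xd16 yd16 zd41) (kd xd26 yd25 zd41) (kd xd32 yd5 zd30) (kd xd16 yd16 zd43) (kd xd30 yd24 zd20) (kd xd17 yd23 zd31) (kd xd26 yd24 zd19) (kd xd16 yd15 zd43) (kd xd16 yd15 zd44) (kd xd31 yd1 zd20) (kd xd16 yd15 zd46) (kd xd24 yd57 zd31) (kd xd16 yd15 zd48) (kd xd27 yd1 zd20) (kd xd18 yd16 zd27) (kd xd16 yd15 zd50) (kd xd23 yd35 zd44) (kd xd26 yd14 zd13) (kd xd32 yd6 zd7) (kd xd16 yd15 zd52) (kd xd17 yd54 zd39) (kd xd16 yd15 zd53) (kd xd25 yd7 zd4) (kd xd26 yd14 zd22) (kd xd31 yd47 zd13) (kd xd29 yd16 zd7) (kd xd29 yd16 zd6) (kd xd16 yd33 zd42) (kd xd16 yd15 zd58) (kd xd20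 yd3 zd4) (kd xd18 yd5 zd14) (kd xd17 yd41 zd43) (kd xd25 yd6 zd44) (kd xd22 yd11 zd1) (kd xd17 yd27 zd2) (kd xd16 yd16 zd2) (kd xd29 yd16 zd8) (kd xd17 yd39 zd16) (kd xd28 yd4 zd19) (kd xd32 yd6 zd14) (kd xd16 yd16 zd5) (kd xd21 yd0 zd60) (kd xd25 yd49 zd49) (kd xd16 yd16 zd8) (kd xd32 yd6 zd17) (kd xd26 yd16 zd57) (kd xd25 yd15 zd36)) (@D3.rec (fun _ => Pt) (kd xd16 yd16 zd10) (kd xd17 yd39 zd12) (kd xd17 yd54 zd9) (kd xd17 yd54 zd2) (kd xd16 yd16 zd12) (kd xd26 yd16 zd47) (kd xd31 yd7 zd0) (kd xd21 yd46 zd12) (kd xd30 yd11 zd8) (kd xd25 yd29 zd47) (kd xd16 yd16 zd16) (kd xd27 yd20 zd32) (kd xd16 yd16 zd17) (kd xd26 yd13 zd32) (kd xd23 yd34 zd59) (kd xd16 yd16 zd18) (kd xd22 yd8 zd8) (kd xd17 yd37 zd28) (kd xd17 yd37 zd27) (kd xd16 yd16 zd22) (kd xd30 yd5 zd14) (kd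 xd18 yd5 zd30) (kd xd26 yd13 zd38) (kd xd19 yd14 zd55) (kd xd21 yd58 zd46) (kd xd16 yd16 zd26) (kd xd27 yd48 zd35) (kd xd27 yd30 zd57) (kd xd16 yd16 zd28) (kd xd16 yd16 zd30) (kd xd26 yd47 zd14) (kd xd16 yd16 zd32) (kd xd27 yd26 zd56) (kd xd24 yd43 zd20) (kd xd16 yd16 zd35) (kd xd16 yd16 zd36) (kd xd17 yd13 zd49) (kd xd27 yd30 zd43) (kd xd18 yd22 zd57) (kd xd21 yd26 zd38) (kd xd21 yd59 zd24) (kd xd20 yd27 zd37) (kd xd29 yd18 zd9) (kd xd18 yd16 zd33) (kd xd19 yd35 zd56) (kd xd24 yd44 zd39) (kd xd23 yd9 zd5) (kd xd21 yd4 zd50) (kd xd16 yd16 zd49) (kd xd23 yd42 zd48) (kd xd27 yd31 zd52) (kd xd30 yd1 zd5) (kd xd21 yd25 zd44) (kd xd22 yd43 zd38) (kd xd18 yd28 zd19) (kd xd31 yd42 zd57) (kd xd25 yd1 zd10) (kd xd25 yd0 zd59) (kd xd16 yd16 zd56) (kd xd16 yd16 zd57) (kd xd17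 yd54 zd42) (kd xd27 yd30 zd44)) (@D3.rec (fun _ => Pt) (kd xd18 yd3 zd57) (kd xd27 yd29 zd7) (kd xd16 yd17 zd9) (kd xd16 yd17 zd10) (kd xd17 yd48 zd4) (kd xd27 yd26 zd5) (kd xd25 yd47 zd13) (kd xd17 yd53 zd61) (kd xd27 yd35 zd42) (kd xd25 yd12 zd54) (kd xd21 yd36 zd8) (kd xd31 yd1 zd18) (kd xd19 yd49 zd32) (kd xd22 yd2 zd52) (kd xd16 yd17 zd19) (kd xd26 yd16 zd22) (kd xd31 yd14 zd31) (kd xd17 yd37 zd36) (kd xd16 yd17 zd26) (kd xd32 yd6 zd25) (kd xd27 yd26 zd46) (kd xd28 yd27 zd46) (kd xd32 yd6 zd27) (kd xd29 yd38 zd46) (kd xd18 yd3 zd61) (kd xd32 yd6 zd29) (kd xd32 yd6 zd30) (kd xd16 yd17 zd36) (kd xd31 yd5 zd24) (kd xd16 yd17 zd38) (kd xd24 yd45 zd48) (kd xd16 yd34 zd2) (kd xd28 yd27 zd39) (kd xd21 yd32 zd48) (kd xd29 yd52 zd52) (kd xd27 yd47 zd58) (kd xd16 yd34 zd37)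 (kd xd27 yd44 zd25) (kd xd16 yd17 zd41) (kd xd25 yd3 zd59) (kd xd26 yd22 zd42) (kd xd17 yd38 zd9) (kd xd17 yd43 zd36) (kd xd16 yd17 zd49) (kd xd30 yd14 zd19) (kd xd30 yd11 zd13) (kd xd17 yd40 zd57) (kd xd27 yd27 zd48) (kd xd16 yd17 zd56) (kd xd25 yd24 zd9) (kd xd24 yd11 zd17) (kd xd30 yd2 zd28) (kd xd16 yd18 zd1) (kd xd16 yd18 zd3) (kd xd16 yd18 zd8) (kd xd21 yd25 zd11) (kd xd28 yd10 zd47) (kd xd16 yd18 zd11) (kd xd16 yd18 zd12) (kd xd27 yd29 zd59) (kd xd27 yd29 zd60) (kd xd32 yd5 zd47)) (@D3.rec (fun _ => Pt) (kd xd17 yd42 zd55) (kd xd24 yd3 zd32) (kd xd31 yd20 zd23) (kd xd16 yd18 zd19) (kd xd28 yd37 zd14) (kd xd27 yd27 zd45) (kd xd16 yd18 zd21) (kd xd21 yd20 zd11) (kd xd27 yd48 zd15) (kd xd25 yd47 zd23) (kd xd28 yd2 zd16) (kd xd28 yd36 zd38) (kd xd23 yd12 zd50) (kd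 xd27 yd29 zd42) (kd xd27 yd47 zd4) (kd xd24 yd58 zd53) (kd xd26 yd31 zd6) (kd xd32 yd6 zd35) (kd xd31 yd59 zd48) (kd xd16 yd18 zd31) (kd xd27 yd49 zd1) (kd xd16 yd18 zd34) (kd xd26 yd15 zd15) (kd xd32 yd6 zd47) (kd xd16 yd18 zd36) (kd xd27 yd28 zd23) (kd xd31 yd57 zd55) (kd xd17 yd48 zd27) (kd xd16 yd18 zd37) (kd xd24 yd29 zd31) (kd xd27 yd28 zd55) (kd xd17 yd37 zd5) (kd xd24 yd55 zd2) (kd xd27 yd28 zd56) (kd xd27 yd26 zd28) (kd xd21 yd31 zd55) (kd xd24 yd44 zd44) (kd xd17 yd38 zd10) (kd xd24 yd40 zd48) (kd xd16 yd18 zd45) (kd xd30 yd20 zd17) (kd xd25 yd3 zd44) (kd xd25 yd3 zd41) (kd xd16 yd18 zd51) (kd xd18 yd10 zd19) (kd xd31 yd14 zd33) (kd xd27 yd31 zd4) (kd xd26 yd14 zd5) (kd xd32 yd6 zd53) (kd xd32 yd2 zd53) (kd xd32 yd2 zd52) (kd xd16 yd19 zd0) (kd xd32 yd2 zd18)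 (kd xd21 yd23 zd5) (kd xd30 yd27 zd46) (kd xd20 yd29 zd39) (kd xd25 yd56 zd59) (kd xd26 yd13 zd60) (kd xd16 yd19 zd6) (kd xd30 yd14 zd33) (kd xd31 yd38 zd27) (kd xd23 yd22 zd41)) (@D3.rec (fun _ => Pt) (kd xd25 yd45 zd23) (kd xd16 yd19 zd7) (kd xd23 yd22 zd14) (kd xd22 yd2 zd55) (kd xd27 yd5 zd47) (kd xd27 yd40 zd14) (kd xd16 yd19 zd11) (kd xd31 yd7 zd44) (kd xd25 yd58 zd54) (kd xd25 yd58 zd55) (kd xd16 yd19 zd20) (kd xd21 yd10 zd58) (kd xd22 yd38 zd55) (kd xd16 yd19 zd21) (kd xd26 yd20 zd28) (kd xd16 yd19 zd23) (kd xd24 yd56 zd43) (kd xd26 yd17 zd43) (kd xd20 yd19 zd7) (kd xd18 yd32 zd21) (kd xd16 yd19 zd27) (kd xd29 yd32 zd28) (kd xd25 yd50 zd42) (kd xd16 yd19 zd29) (kd xd32 yd6 zd59) (kd xd28 yd26 zd29) (kd xd16 yd19 zd30) (kd xd30 yd55 zd44) (kd xd31 yd54 zd33)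 (kd xd16 yd19 zd31) (kd xd32 yd7 zd0) (kd xd16 yd19 zd33) (kd xd29 yd18 zd30) (kd xd32 yd1 zd34) (kd xd16 yd19 zd34) (kd xd27 yd34 zd60) (kd xd27 yd53 zd27) (kd xd32 yd7 zd1) (kd xd16 yd19 zd37) (kd xd29 yd21 zd3) (kd xd16 yd19 zd39) (kd xd16 yd19 zd40) (kd xd16 yd19 zd42) (kd xd26 yd17 zd17) (kd xd27 yd40 zd24) (kd xd26 yd29 zd10) (kd xd16 yd19 zd45) (kd xd31 yd44 zd9) (kd xd23 yd22 zd24) (kd xd32 yd7 zd6) (kd xd16 yd19 zd48) (kd xd28 yd12 zd9) (kd xd31 yd42 zd37) (kd xd32 yd7 zd7) (kd xd32 yd7 zd9) (kd xd31 yd27 zd52) (kd xd16 yd19 zd51) (kd xd32 yd7 zd13) (kd xd25 yd5 zd46) (kd xd26 yd24 zd39) (kd xd31 yd38 zd44) (kd xd16 yd19 zd58)) (@D3.rec (fun _ => Pt) (kd xd28 yd33 zd58) (kd xd31 yd38 zd28) (kd xd26 yd31 zd5) (kd xd31 yd1 zd34) (kd xd21 yd10 zd34) (kd xd32 yd7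 zd16) (kd xd22 yd11 zd12) (kd xd16 yd20 zd3) (kd xd21 yd58 zd45) (kd xd18 yd9 zd60) (kd xd18 yd6 zd18) (kd xd31 yd8 zd49) (kd xd26 yd10 zd48) (kd xd30 yd12 zd48) (kd xd29 yd16 zd13) (kd xd29 yd12 zd61) (kd xd16 yd20 zd11) (kd xd25 yd13 zd61) (kd xd18 yd5 zd12) (kd xd24 yd45 zd39) (kd xd29 yd16 zd9) (kd xd27 yd55 zd52) (kd xd16 yd20 zd22) (kd xd22 yd56 zd53) (kd xd19 yd3 zd61) (kd xd27 yd49 zd40) (kd xd18 yd3 zd54) (kd xd16 yd20 zd30) (kd xd16 yd20 zd33) (kd xd27 yd55 zd5) (kd xd20 yd0 zd48) (kd xd17 yd2 zd48) (kd xd29 yd24 zd21) (kd xd23 yd51 zd37) (kd xd28 yd26 zd7) (kd xd23 yd21 zd48) (kd xd25 yd54 zd38) (kd xd22 yd14 zd51) (kd xd27 yd28 zd34) (kd xd16 yd20 zd42) (kd xd26 yd44 zd48) (kd xd20 yd7 zd14) (kd xd23 yd42 zd34) (kd xd21 yd12 zd15) (kd xd29 yd53 zd43) (kd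 xd19 yd0 zd43) (kd xd25 yd2 zd2) (kd xd26 yd30 zd55) (kd xd25 yd2 zd3) (kd xd30 yd53 zd21) (kd xd31 yd38 zd36) (kd xd24 yd59 zd25) (kd xd27 yd31 zd23) (kd xd21 yd12 zd14) (kd xd16 yd20 zd56) (kd xd26 yd31 zd60) (kd xd26 yd29 zd11) (kd xd18 yd18 zd52) (kd xd32 yd2 zd48) (kd xd31 yd54 zd50) (kd xd27 yd42 zd5) (kd xd16 yd27 zd10)) (@D3.rec (fun _ => Pt) (kd xd29 yd15 zd27) (kd xd16 yd27 zd45) (kd xd28 yd27 zd30) (kd xd24 yd17 zd46) (kd xd21 yd30 zd51) (kd xd24 yd36 zd9) (kd xd16 yd21 zd6) (kd xd24 yd57 zd41) (kd xd24 yd56 zd41) (kd xd26 yd24 zd33) (kd xd32 yd7 zd30) (kd xd16 yd21 zd9) (kd xd21 yd54 zd60) (kd xd16 yd21 zd10) (kd xd21 yd55 zd0) (kd xd16 yd21 zd12) (kd xd16 yd23 zd29) (kd xd16 yd21 zd13) (kd xd28 yd26 zd49) (kd xd24 yd59 zd24) (kd xd16 yd23 zd28) (kd xd16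 yd21 zd18) (kd xd26 yd21 zd19) (kd xd18 yd19 zd0) (kd xd26 yd30 zd34) (kd xd26 yd31 zd12) (kd xd16 yd21 zd20) (kd xd26 yd31 zd59) (kd xd18 yd33 zd13) (kd xd18 yd33 zd7) (kd xd27 yd36 zd42) (kd xd30 yd54 zd26) (kd xd31 yd28 zd42) (kd xd32 yd7 zd35) (kd xd21 yd54 zd61) (kd xd26 yd33 zd3) (kd xd24 yd25 zd39) (kd xd23 yd7 zd34) (kd xd26 yd26 zd6) (kd xd24 yd6 zd17) (kd xd16 yd40 zd44) (kd xd23 yd20 zd38) (kd xd16 yd21 zd39) (kd xd29 yd31 zd8) (kd xd20 yd6 zd33) (kd xd29 yd54 zd0) (kd xd16 yd21 zd43) (kd xd16 yd21 zd44) (kd xd28 yd8 zd55) (kd xd25 yd46 zd13) (kd xd16 yd21 zd54) (kd xd30 yd46 zd2) (kd xd16 yd21 zd56) (kd xd27 yd26 zd34) (kd xd30 yd24 zd12) (kd xd16 yd21 zd57) (kd xd18 yd41 zd15) (kd xd18 yd41 zd16) (kd xd28 yd37 zd54) (kd xd18 yd22 zd43) (kd xd18 yd12 zd23)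 (kd xd16 yd21 zd61)) (@D3.rec (fun _ => Pt) (kd xd28 yd22 zd45) (kd xd22 yd31 zd41) (kd xd27 yd57 zd53) (kd xd16 yd22 zd2) (kd xd17 yd45 zd44) (kd xd25 yd39 zd11) (kd xd16 yd22 zd4) (kd xd18 yd31 zd59) (kd xd18 yd12 zd28) (kd xd16 yd22 zd16) (kd xd30 yd43 zd9) (kd xd16 yd22 zd17) (kd xd28 yd28 zd19) (kd xd16 yd22 zd18) (kd xd19 yd0 zd22) (kd xd18 yd22 zd45) (kd xd32 yd7 zd39) (kd xd16 yd22 zd23) (kd xd26 yd52 zd51) (kd xd30 yd53 zd49) (kd xd30 yd53 zd51) (kd xd16 yd22 zd27) (kd xd16 yd22 zd28) (kd xd31 yd50 zd1) (kd xd26 yd29 zd28) (kd xd22 yd51 zd18) (kd xd16 yd22 zd30) (kd xd16 yd22 zd31) (kd xd26 yd17 zd14) (kd xd31 yd22 zd21) (kd xd32 yd7 zd10) (kd xd20 yd8 zd7) (kd xd32 yd7 zd11) (kd xd16 yd22 zd34) (kd xd32 yd7 zd42) (kd xd29 yd3 zd42) (kd xd16 yd22 zd37) (kd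 xd29 yd5 zd5) (kd xd32 yd2 zd46) (kd xd30 yd36 zd3) (kd xd22 yd58 zd34) (kd xd23 yd11 zd39) (kd xd29 yd9 zd7) (kd xd16 yd22 zd49) (kd xd16 yd22 zd51) (kd xd18 yd7 zd1) (kd xd27 yd25 zd33) (kd xd17 yd45 zd17) (kd xd30 yd3 zd30) (kd xd28 yd2 zd21) (kd xd18 yd27 zd11) (kd xd26 yd12 zd56) (kd xd27 yd49 zd4) (kd xd29 yd38 zd47) (kd xd32 yd7 zd48) (kd xd31 yd1 zd28) (kd xd24 yd47 zd44) (kd xd16 yd32 zd29) (kd xd31 yd1 zd27) (kd xd16 yd22 zd59) (kd xd16 yd32 zd26) (kd xd24 yd54 zd35)) (@D3.rec (fun _ => Pt) (kd xd16 yd32 zd23) (kd xd24 yd54 zd41) (kd xd16 yd32 zd14) (kd xd23 yd35 zd0) (kd xd16 yd33 zd23) (kd xd16 yd32 zd57) (kd xd26 yd30 zd13) (kd xd27 yd26 zd19) (kd xd20 yd46 zd53) (kd xd21 yd4 zd38) (kd xd16 yd32 zd32) (kd xd27 yd27 zd28) (kd xd21 yd25 zd5) (kd xd29 yd38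 zd3) (kd xd31 yd13 zd12) (kd xd32 yd5 zd61) (kd xd16 yd23 zd24) (kd xd20 yd32 zd40) (kd xd24 yd46 zd2) (kd xd26 yd19 zd22) (kd xd28 yd7 zd21) (kd xd26 yd7 zd21) (kd xd28 yd5 zd21) (kd xd20 yd8 zd5) (kd xd32 yd6 zd26) (kd xd21 yd4 zd21) (kd xd30 yd55 zd6) (kd xd24 yd55 zd13) (kd xd26 yd28 zd23) (kd xd32 yd7 zd59) (kd xd32 yd7 zd61) (kd xd31 yd32 zd56) (kd xd16 yd23 zd30) (kd xd30 yd53 zd5) (kd xd29 yd20 zd47) (kd xd21 yd10 zd56) (kd xd27 yd40 zd44) (kd xd16 yd23 zd35) (kd xd26 yd4 zd33) (kd xd16 yd23 zd36) (kd xd17 yd57 zd26) (kd xd28 yd9 zd23) (kd xd25 yd0 zd4) (kd xd24 yd55 zd10) (kd xd24 yd55 zd11) (kd xd27 yd52 zd32) (kd xd16 yd23 zd44) (kd xd16 yd23 zd50) (kd xd30 yd17 zd7) (kd xd16 yd23 zd54) (kd xd27 yd20 zd45) (kd xd16 yd23 zd60) (kd xd16 yd23 zd61) (kd xd29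 yd31 zd49) (kd xd29 yd22 zd47) (kd xd30 yd21 zd56) (kd xd16 yd24 zd1) (kd xd27 yd36 zd7) (kd xd16 yd24 zd8) (kd xd27 yd57 zd16) (kd xd17 yd54 zd36) (kd xd16 yd24 zd13)) (@D3.rec (fun _ => Pt) (kd xd31 yd0 zd4) (kd xd16 yd24 zd22) (kd xd22 yd40 zd3) (kd xd18 yd45 zd40) (kd xd20 yd17 zd22) (kd xd24 yd8 zd17) (kd xd32 yd8 zd6) (kd xd28 yd53 zd35) (kd xd16 yd24 zd29) (kd xd16 yd26 zd23) (kd xd31 yd18 zd16) (kd xd32 yd8 zd8) (kd xd20 yd36 zd54) (kd xd16 yd24 zd37) (kd xd23 yd10 zd15) (kd xd16 yd24 zd41) (kd xd16 yd24 zd42) (kd xd28 yd48 zd40) (kd xd31 yd32 zd61) (kd xd32 yd8 zd10) (kd xd28 yd36 zd41) (kd xd16 yd24 zd44) (kd xd24 yd25 zd25) (kd xd16 yd24 zd45) (kd xd29 yd23 zd56) (kd xd16 yd24 zd46) (kd xd24 yd22 zd55) (kd xd23 yd10 zd16) (kd xd16 yd24 zd48) (kd xd16 yd26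 zd22) (kd xd16 yd24 zd50) (kd xd16 yd24 zd53) (kd xd16 yd24 zd54) (kd xd22 yd30 zd58) (kd xd16 yd24 zd55) (kd xd23 yd6 zd53) (kd xd26 yd23 zd59) (kd xd16 yd26 zd51) (kd xd24 yd33 zd48) (kd xd30 yd2 zd47) (kd xd16 yd25 zd4) (kd xd29 yd26 zd50) (kd xd26 yd15 zd40) (kd xd26 yd23 zd11) (kd xd16 yd25 zd8) (kd xd32 yd8 zd17) (kd xd16 yd25 zd9) (kd xd24 yd59 zd52) (kd xd16 yd31 zd44) (kd xd16 yd31 zd50) (kd xd16 yd25 zd14) (kd xd16 yd25 zd16) (kd xd25 yd25 zd56) (kd xd20 yd32 zd47) (kd xd17 yd0 zd7) (kd xd16 yd47 zd42) (kd xd19 yd48 zd37) (kd xd29 yd6 zd15) (kd xd27 yd14 zd7) (kd xd20 yd20 zd17) (kd xd21 yd59 zd18) (kd xd16 yd25 zd32)) (@D3.rec (fun _ => Pt) (kd xd24 yd57 zd36) (kd xd24 yd57 zd40) (kd xd20 yd1 zd15) (kd xd20 yd35 zd55) (kd xd16 yd25 zd38) (kd xd26 yd58 zd10)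 (kd xd17 yd53 zd36) (kd xd21 yd38 zd20) (kd xd16 yd49 zd58) (kd xd19 yd15 zd13) (kd xd19 yd53 zd51) (kd xd26 yd22 zd43) (kd xd20 yd0 zd31) (kd xd26 yd1 zd7) (kd xd16 yd25 zd50) (kd xd31 yd42 zd8) (kd xd17 yd2 zd39) (kd xd18 yd2 zd23) (kd xd16 yd25 zd56) (kd xd32 yd8 zd20) (kd xd31 yd18 zd47) (kd xd16 yd25 zd58) (kd xd32 yd4 zd14) (kd xd31 yd42 zd0) (kd xd28 yd49 zd27) (kd xd23 yd6 zd28) (kd xd20 yd36 zd61) (kd xd16 yd26 zd2) (kd xd23 yd6 zd36) (kd xd30 yd42 zd51) (kd xd19 yd23 zd40) (kd xd27 yd56 zd44) (kd xd16 yd26 zd11) (kd xd31 yd7 zd46) (kd xd16 yd26 zd12) (kd xd28 yd11 zd31) (kd xd16 yd26 zd13) (kd xd22 yd37 zd28) (kd xd29 yd0 zd33) (kd xd26 yd50 zd21) (kd xd16 yd26 zd16) (kd xd32 yd8 zd21) (kd xd24 yd2 zd3) (kd xd18 yd43 zd60) (kd xd23 yd10 zd46) (kd xd26 yd8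 zd58) (kd xd28 yd0 zd13) (kd xd29 yd55 zd47) (kd xd32 yd8 zd22) (kd xd30 yd48 zd9) (kd xd30 yd48 zd25) (kd xd20 yd49 zd41) (kd xd31 yd5 zd47) (kd xd16 yd28 zd15) (kd xd22 yd47 zd44) (kd xd22 yd2 zd12) (kd xd16 yd26 zd37) (kd xd16 yd26 zd40) (kd xd24 yd36 zd44) (kd xd26 yd22 zd36) (kd xd32 yd6 zd9) (kd xd16 yd33 zd22)) (@D3.rec (fun _ => Pt) (kd xd25 yd31 zd19) (kd xd19 yd44 zd58) (kd xd24 yd57 zd0) (kd xd19 yd44 zd55) (kd xd32 yd6 zd24) (kd xd18 yd18 zd48) (kd xd19 yd36 zd56) (kd xd28 yd32 zd11) (kd xd23 yd17 zd56) (kd xd23 yd18 zd5) (kd xd19 yd45 zd17) (kd xd19 yd36 zd54) (kd xd21 yd29 zd20) (kd xd30 yd53 zd23) (kd xd21 yd0 zd31) (kd xd27 yd41 zd59) (kd xd32 yd8 zd30) (kd xd16 yd27 zd4) (kd xd20 yd8 zd19) (kd xd26 yd13 zd21) (kd xd22 yd55 zd59) (kd xd22 yd54 zd44)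 (kd xd25 yd28 zd17) (kd xd16 yd27 zd8) (kd xd25 yd29 zd49) (kd xd26 yd30 zd49) (kd xd32 yd8 zd34) (kd xd22 yd17 zd24) (kd xd30 yd20 zd0) (kd xd32 yd8 zd36) (kd xd16 yd27 zd15) (kd xd25 yd48 zd38) (kd xd16 yd27 zd16) (kd xd26 yd19 zd9) (kd xd30 yd30 zd44) (kd xd24 yd5 zd9) (kd xd23 yd19 zd23) (kd xd24 yd53 zd59) (kd xd17 yd57 zd38) (kd xd26 yd17 zd59) (kd xd16 yd27 zd25) (kd xd16 yd27 zd26) (kd xd16 yd27 zd27) (kd xd31 yd38 zd43) (kd xd24 yd17 zd37) (kd xd25 yd24 zd41) (kd xd27 yd56 zd54) (kd xd28 yd27 zd53) (kd xd16 yd29 zd45) (kd xd25 yd46 zd16) (kd xd16 yd59 zd24) (kd xd16 yd27 zd38) (kd xd23 yd16 zd56) (kd xd20 yd8 zd6) (kd xd16 yd52 zd57) (kd xd16 yd27 zd43) (kd xd26 yd26 zd7) (kd xd28 yd43 zd30) (kd xd20 yd30 zd0) (kd xd17 yd15 zd12) (kd xd20 yd32 zd2) (kd xd20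 yd31 zd50)) (@D3.rec (fun _ => Pt) (kd xd17 yd15 zd0) (kd xd18 yd2 zd55) (kd xd30 yd2 zd49) (kd xd26 yd28 zd25) (kd xd27 yd9 zd42) (kd xd16 yd27 zd53) (kd xd26 yd27 zd25) (kd xd18 yd2 zd52) (kd xd31 yd37 zd17) (kd xd31 yd42 zd52) (kd xd20 yd0 zd43) (kd xd24 yd46 zd37) (kd xd28 yd28 zd26) (kd xd24 yd24 zd2) (kd xd28 yd26 zd39) (kd xd25 yd39 zd10) (kd xd16 yd28 zd6) (kd xd16 yd28 zd7) (kd xd25 yd46 zd40) (kd xd22 yd52 zd3) (kd xd28 yd9 zd40) (kd xd31 yd43 zd18) (kd xd16 yd28 zd12) (kd xd16 yd28 zd13) (kd xd24 yd9 zd15) (kd xd20 yd50 zd1) (kd xd20 yd22 zd21) (kd xd20 yd15 zd8) (kd xd29 yd28 zd16) (kd xd29 yd21 zd51) (kd xd23 yd13 zd54) (kd xd16 yd28 zd24) (kd xd30 yd18 zd8) (kd xd16 yd28 zd25) (kd xd30 yd1 zd51) (kd xd28 yd43 zd20) (kd xd25 yd45 zd45) (kd xd16 yd28 zd33)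 (kd xd29 yd9 zd11) (kd xd31 yd3 zd32) (kd xd31 yd43 zd19) (kd xd26 yd13 zd16) (kd xd25 yd6 zd54) (kd xd18 yd20 zd46) (kd xd16 yd28 zd44) (kd xd26 yd26 zd14) (kd xd22 yd7 zd61) (kd xd25 yd56 zd23) (kd xd21 yd14 zd25) (kd xd23 yd46 zd14) (kd xd24 yd12 zd55) (kd xd16 yd32 zd22) (kd xd16 yd32 zd24) (kd xd27 yd44 zd35) (kd xd16 yd53 zd9) (kd xd24 yd59 zd27) (kd xd20 yd32 zd10) (kd xd19 yd18 zd37) (kd xd26 yd41 zd52) (kd xd26 yd41 zd53) (kd xd26 yd56 zd23) (kd xd30 yd21 zd8)) (@D3.rec (fun _ => Pt) (kd xd28 yd0 zd20) (kd xd16 yd28 zd61) (kd xd31 yd6 zd46) (kd xd31 yd42 zd3) (kd xd16 yd29 zd0) (kd xd16 yd29 zd1) (kd xd26 yd19 zd38) (kd xd26 yd24 zd56) (kd xd32 yd8 zd52) (kd xd16 yd29 zd3) (kd xd24 yd8 zd49) (kd xd19 yd24 zd41) (kd xd16 yd29 zd12) (kd xd16 yd29 zd13) (kd xd26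 yd25 zd45) (kd xd20 yd1 zd7) (kd xd17 yd9 zd11) (kd xd32 yd8 zd54) (kd xd16 yd29 zd15) (kd xd32 yd8 zd55) (kd xd16 yd29 zd16) (kd xd29 yd11 zd43) (kd xd17 yd54 zd54) (kd xd16 yd29 zd29) (kd xd16 yd29 zd30) (kd xd29 yd21 zd44) (kd xd26 yd27 zd7) (kd xd28 yd13 zd40) (kd xd19 yd1 zd25) (kd xd22 yd14 zd56) (kd xd28 yd13 zd6) (kd xd27 yd27 zd27) (kd xd16 yd29 zd41) (kd xd30 yd46 zd45) (kd xd16 yd29 zd42) (kd xd21 yd2 zd47) (kd xd18 yd24 zd28) (kd xd16 yd29 zd49) (kd xd21 yd14 zd52) (kd xd16 yd29 zd50) (kd xd25 yd56 zd18) (kd xd27 yd5 zd13) (kd xd25 yd56 zd28) (kd xd16 yd29 zd52) (kd xd32 yd8 zd56) (kd xd16 yd29 zd55) (kd xd16 yd29 zd57) (kd xd26 yd59 zd29) (kd xd20 yd0 zd55) (kd xd17 yd57 zd54) (kd xd16 yd30 zd2) (kd xd28 yd50 zd42) (kd xd25 yd47 zd48) (kd xd20 yd52 zd21)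 (kd xd16 yd44 zd2) (kd xd19 yd29 zd20) (kd xd18 yd22 zd6) (kd xd19 yd1 zd37) (kd xd19 yd0 zd30) (kd xd30 yd55 zd48) (kd xd16 yd30 zd10) (kd xd28 yd21 zd25)) (@D3.rec (fun _ => Pt) (kd xd16 yd30 zd11) (kd xd17 yd2 zd53) (kd xd16 yd30 zd18) (kd xd16 yd30 zd23) (kd xd18 yd40 zd47) (kd xd26 yd42 zd20) (kd xd29 yd52 zd53) (kd xd26 yd26 zd26) (kd xd29 yd24 zd39) (kd xd16 yd30 zd40) (kd xd20 yd33 zd34) (kd xd16 yd30 zd44) (kd xd23 yd7 zd9) (kd xd16 yd30 zd50) (kd xd20 yd7 zd18) (kd xd19 yd39 zd57) (kd xd27 yd12 zd30) (kd xd16 yd30 zd58) (kd xd23 yd24 zd49) (kd xd16 yd30 zd61) (kd xd16 yd36 zd10) (kd xd16 yd36 zd9) (kd xd31 yd38 zd1) (kd xd32 yd9 zd0) (kd xd16 yd31 zd2) (kd xd26 yd25 zd6) (kd xd32 yd9 zd2) (kd xd27 yd58 zd16) (kd xd16 yd31 zd6) (kd xd32 yd9 zd4) (kd xd32 yd9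 zd5) (kd xd30 yd24 zd24) (kd xd16 yd31 zd9) (kd xd32 yd9 zd6) (kd xd27 yd57 zd49) (kd xd32 yd9 zd7) (kd xd32 yd9 zd8) (kd xd16 yd31 zd12) (kd xd31 yd43 zd20) (kd xd23 yd25 zd18) (kd xd32 yd9 zd11) (kd xd16 yd31 zd14) (kd xd27 yd24 zd17) (kd xd31 yd6 zd3) (kd xd31 yd6 zd4) (kd xd19 yd48 zd23) (kd xd30 yd23 zd46) (kd xd27 yd57 zd48) (kd xd30 yd42 zd56) (kd xd16 yd31 zd17) (kd xd25 yd18 zd12) (kd xd21 yd28 zd46) (kd xd27 yd57 zd51) (kd xd31 yd33 zd33) (kd xd16 yd31 zd19) (kd xd27 yd58 zd17) (kd xd27 yd58 zd18) (kd xd18 yd56 zd21) (kd xd24 yd21 zd34) (kd xd24 yd25 zd2) (kd xd32 yd9 zd16) (kd xd16 yd31 zd22)) (@D3.rec (fun _ => Pt) (kd xd30 yd28 zd23) (kd xd26 yd35 zd59) (kd xd18 yd2 zd33) (kd xd16 yd31 zd25) (kd xd16 yd31 zd26) (kd xd16 yd31 zd27) (kd xd21 yd44 zd54) (kd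 xd21 yd44 zd55) (kd xd16 yd31 zd33) (kd xd23 yd7 zd59) (kd xd16 yd31 zd34) (kd xd29 yd24 zd55) (kd xd24 yd34 zd36) (kd xd16 yd31 zd37) (kd xd30 yd51 zd7) (kd xd16 yd31 zd40) (kd xd23 yd14 zd15) (kd xd21 yd13 zd18) (kd xd21 yd13 zd20) (kd xd23 yd40 zd59) (kd xd25 yd50 zd2) (kd xd21 yd13 zd15) (kd xd16 yd31 zd51) (kd xd26 yd21 zd28) (kd xd16 yd34 zd3) (kd xd26 yd25 zd3) (kd xd16 yd31 zd59) (kd xd18 yd58 zd32) (kd xd16 yd31 zd60) (kd xd20 yd22 zd31) (kd xd17 yd1 zd50) (kd xd16 yd32 zd0) (kd xd20 yd1 zd17) (kd xd26 yd53 zd14) (kd xd28 yd34 zd3) (kd xd28 yd27 zd47) (kd xd16 yd32 zd3) (kd xd20 yd29 zd59) (kd xd29 yd18 zd40) (kd xd31 yd35 zd25) (kd xd16 yd32 zd5) (kd xd16 yd32 zd6) (kd xd29 yd0 zd32) (kd xd19 yd15 zd17) (kd xd28 yd50 zd1) (kd xd24 yd46 zd25) (kd xd23 yd23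 zd32) (kd xd16 yd32 zd10) (kd xd29 yd26 zd58) (kd xd18 yd20 zd40) (kd xd31 yd15 zd7) (kd xd28 yd3 zd16) (kd xd28 yd8 zd49) (kd xd30 yd45 zd57) (kd xd20 yd21 zd8) (kd xd20 yd21 zd7) (kd xd29 yd24 zd57) (kd xd16 yd32 zd19) (kd xd26 yd56 zd8) (kd xd16 yd32 zd20) (kd xd32 yd9 zd30) (kd xd32 yd9 zd31)) (@D3.rec (fun _ => Pt) (kd xd30 yd33 zd56) (kd xd17 yd1 zd6) (kd xd17 yd1 zd7) (kd xd26 yd56 zd9) (kd xd32 yd7 zd50) (kd xd32 yd9 zd32) (kd xd20 yd29 zd45) (kd xd32 yd3 zd56) (kd xd24 yd46 zd12) (kd xd27 yd1 zd19) (kd xd26 yd17 zd45) (kd xd26 yd18 zd56) (kd xd23 yd20 zd58) (kd xd27 yd55 zd30) (kd xd22 yd18 zd4) (kd xd24 yd47 zd60) (kd xd31 yd38 zd8) (kd xd32 yd9 zd39) (kd xd16 yd32 zd33) (kd xd28 yd21 zd31) (kd xd32 yd6 zd52) (kd xd29 yd54 zd39) (kd xd29 yd29 zd42) (kd xd20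 yd31 zd43) (kd xd22 yd32 zd51) (kd xd23 yd23 zd46) (kd xd16 yd32 zd44) (kd xd16 yd32 zd45) (kd xd26 yd20 zd24) (kd xd29 yd18 zd20) (kd xd29 yd23 zd55) (kd xd32 yd8 zd43) (kd xd28 yd0 zd32) (kd xd30 yd39 zd56) (kd xd28 yd16 zd17) (kd xd26 yd55 zd40) (kd xd16 yd32 zd53) (kd xd22 yd56 zd56) (kd xd22 yd56 zd55) (kd xd23 yd27 zd37) (kd xd23 yd6 zd48) (kd xd21 yd32 zd40) (kd xd18 yd34 zd28) (kd xd28 yd7 zd59) (kd xd30 yd45 zd23) (kd xd20 yd21 zd33) (kd xd29 yd54 zd7) (kd xd30 yd29 zd58) (kd xd20 yd7 zd31) (kd xd23 yd51 zd2) (kd xd30 yd31 zd51) (kd xd16 yd33 zd5) (kd xd24 yd15 zd30) (kd xd24 yd15 zd29) (kd xd20 yd46 zd49) (kd xd18 yd35 zd44) (kd xd20 yd48 zd13) (kd xd16 yd33 zd13) (kd xd21 yd52 zd43) (kd xd21 yd52 zd46) (kd xd16 yd33 zd18) (kd xd20 yd30 zd46)) (@D3.rec (fun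 _ => Pt) (kd xd20 yd30 zd45) (kd xd32 yd9 zd49) (kd xd16 yd33 zd20) (kd xd20 yd52 zd18) (kd xd20 yd10 zd15) (kd xd30 yd24 zd29) (kd xd28 yd7 zd8) (kd xd32 yd9 zd51) (kd xd27 yd42 zd1) (kd xd16 yd33 zd25) (kd xd23 yd34 zd27) (kd xd19 yd1 zd44) (kd xd32 yd4 zd47) (kd xd26 yd21 zd6) (kd xd16 yd33 zd32) (kd xd19 yd23 zd49) (kd xd20 yd30 zd56) (kd xd29 yd54 zd31) (kd xd20 yd18 zd46) (kd xd31 yd42 zd21) (kd xd18 yd18 zd56) (kd xd31 yd45 zd18) (kd xd30 yd44 zd23) (kd xd16 yd33 zd37) (kd xd21 yd12 zd51) (kd xd19 yd0 zd4) (kd xd29 yd28 zd44) (kd xd23 yd8 zd54) (kd xd23 yd8 zd55) (kd xd20 yd3 zd2) (kd xd32 yd2 zd35) (kd xd16 yd33 zd43) (kd xd31 yd59 zd15) (kd xd16 yd33 zd47) (kd xd26 yd19 zd24) (kd xd24 yd48 zd23) (kd xd16 yd33 zd49) (kd xd32 yd9 zd59) (kd xd28 yd9 zd14) (kd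 xd16 yd33 zd50) (kd xd18 yd30 zd49) (kd xd32 yd10 zd2) (kd xd32 yd10 zd3) (kd xd16 yd33 zd51) (kd xd21 yd11 zd47) (kd xd21 yd11 zd52) (kd xd16 yd34 zd25) (kd xd21 yd14 zd44) (kd xd27 yd44 zd22) (kd xd26 yd24 zd25) (kd xd32 yd10 zd10) (kd xd29 yd52 zd48) (kd xd32 yd10 zd12) (kd xd18 yd12 zd4) (kd xd16 yd33 zd57) (kd xd26 yd18 zd47) (kd xd25 yd16 zd27) (kd xd18 yd11 zd30) (kd xd16 yd33 zd58) (kd xd20 yd50 zd10) (kd xd16 yd33 zd61) (kd xd19 yd46 zd59)) (@D3.rec (fun _ => Pt) (kd xd23 yd4 zd21) (kd xd21 yd14 zd60) (kd xd23 yd4 zd56) (kd xd31 yd42 zd50) (kd xd31 yd15 zd25) (kd xd26 yd18 zd2) (kd xd26 yd16 zd16) (kd xd18 yd18 zd57) (kd xd17 yd54 zd21) (kd xd23 yd15 zd50) (kd xd23 yd15 zd49) (kd xd27 yd57 zd38) (kd xd26 yd19 zd25) (kd xd18 yd6 zd47) (kd xd18 yd6 zd43) (kd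 xd16 yd34 zd8) (kd xd32 yd7 zd26) (kd xd20 yd32 zd25) (kd xd18 yd34 zd51) (kd xd16 yd34 zd9) (kd xd24 yd48 zd1) (kd xd16 yd34 zd10) (kd xd29 yd28 zd45) (kd xd22 yd55 zd37) (kd xd22 yd55 zd39) (kd xd31 yd59 zd16) (kd xd29 yd54 zd8) (kd xd32 yd10 zd15) (kd xd16 yd34 zd13) (kd xd29 yd24 zd61) (kd xd27 yd49 zd12) (kd xd16 yd34 zd14) (kd xd21 yd30 zd45) (kd xd27 yd49 zd16) (kd xd16 yd34 zd15) (kd xd24 yd12 zd9) (kd xd24 yd12 zd11) (kd xd20 yd2 zd11) (kd xd27 yd35 zd7) (kd xd28 yd8 zd59) (kd xd30 yd57 zd2) (kd xd20 yd23 zd49) (kd xd16 yd34 zd21) (kd xd30 yd30 zd21) (kd xd16 yd34 zd22) (kd xd16 yd34 zd23) (kd xd24 yd47 zd61) (kd xd28 yd31 zd57) (kd xd32 yd10 zd20) (kd xd29 yd20 zd42) (kd xd32 yd10 zd21) (kd xd32 yd10 zd22) (kd xd20 yd35 zd9) (kd xd17 yd47 zd54) (kd xd18 yd30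 zd29) (kd xd23 yd30 zd59) (kd xd18 yd31 zd20) (kd xd16 yd34 zd30) (kd xd21 yd15 zd5) (kd xd26 yd19 zd27) (kd xd26 yd18 zd55) (kd xd20 yd8 zd49)) (@D3.rec (fun _ => Pt) (kd xd20 yd36 zd22) (kd xd18 yd45 zd59) (kd xd16 yd34 zd42) (kd xd20 yd11 zd6) (kd xd31 yd42 zd22) (kd xd25 yd31 zd45) (kd xd28 yd16 zd51) (kd xd31 yd39 zd25) (kd xd27 yd47 zd50) (kd xd21 yd10 zd51) (kd xd18 yd22 zd8) (kd xd29 yd27 zd42) (kd xd31 yd25 zd12) (kd xd23 yd50 zd29) (kd xd18 yd31 zd12) (kd xd18 yd31 zd13) (kd xd20 yd30 zd13) (kd xd16 yd34 zd48) (kd xd28 yd0 zd55) (kd xd32 yd10 zd26) (kd xd16 yd34 zd51) (kd xd28 yd18 zd51) (kd xd20 yd0 zd30) (kd xd17 yd15 zd39) (kd xd22 yd32 zd15) (kd xd19 yd33 zd44) (kd xd18 yd22 zd2) (kd xd29 yd10 zd42) (kd xd30 yd57 zd45) (kd xd16 yd35 zd4) (kd xd32 yd10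 zd28) (kd xd25 yd52 zd55) (kd xd16 yd35 zd17) (kd xd16 yd53 zd22) (kd xd22 yd47 zd19) (kd xd29 yd27 zd43) (kd xd29 yd20 zd61) (kd xd23 yd19 zd27) (kd xd22 yd29 zd18) (kd xd20 yd1 zd24) (kd xd29 yd18 zd17) (kd xd16 yd35 zd24) (kd xd22 yd15 zd0) (kd xd28 yd0 zd27) (kd xd29 yd18 zd18) (kd xd32 yd10 zd17) (kd xd16 yd35 zd26) (kd xd22 yd2 zd48) (kd xd16 yd35 zd27) (kd xd21 yd14 zd6) (kd xd29 yd19 zd30) (kd xd28 yd13 zd50) (kd xd16 yd35 zd37) (kd xd18 yd20 zd44) (kd xd25 yd51 zd46) (kd xd26 yd48 zd11) (kd xd16 yd50 zd36) (kd xd19 yd59 zd8) (kd xd31 yd57 zd42) (kd xd31 yd44 zd21) (kd xd16 yd35 zd55) (kd xd18 yd19 zd41)) (@D3.rec (fun _ => Pt) (kd xd16 yd35 zd59) (kd xd23 yd22 zd19) (kd xd31 yd44 zd56) (kd xd26 yd19 zd35) (kd xd28 yd11 zd34) (kd xd29 yd7 zd8) (kd xd16 yd36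 zd6) (kd xd26 yd5 zd38) (kd xd31 yd50 zd61) (kd xd25 yd10 zd14) (kd xd29 yd46 zd5) (kd xd16 yd36 zd16) (kd xd22 yd4 zd14) (kd xd29 yd44 zd7) (kd xd16 yd40 zd20) (kd xd16 yd36 zd19) (kd xd19 yd41 zd22) (kd xd20 yd56 zd20) (kd xd29 yd49 zd2) (kd xd29 yd33 zd3) (kd xd29 yd45 zd2) (kd xd16 yd36 zd25) (kd xd22 yd25 zd37) (kd xd16 yd55 zd32) (kd xd16 yd36 zd26) (kd xd29 yd45 zd5) (kd xd16 yd36 zd32) (kd xd20 yd57 zd59) (kd xd20 yd58 zd43) (kd xd16 yd36 zd33) (kd xd25 yd31 zd1) (kd xd28 yd21 zd44) (kd xd19 yd1 zd0) (kd xd19 yd1 zd6) (kd xd19 yd1 zd11) (kd xd32 yd10 zd38) (kd xd32 yd10 zd40) (kd xd32 yd10 zd42) (kd xd16 yd36 zd40) (kd xd32 yd10 zd45) (kd xd31 yd30 zd43) (kd xd31 yd30 zd44) (kd xd16 yd36 zd41) (kd xd16 yd36 zd43) (kd xd29 yd52 zd30) (kd xd16 yd36 zd45) (kd xd16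 yd36 zd46) (kd xd29 yd56 zd9) (kd xd25 yd12 zd10) (kd xd27 yd6 zd9) (kd xd17 yd24 zd61) (kd xd18 yd46 zd31) (kd xd16 yd36 zd50) (kd xd25 yd12 zd34) (kd xd16 yd36 zd51) (kd xd29 yd26 zd28) (kd xd29 yd26 zd27) (kd xd16 yd36 zd54) (kd xd26 yd41 zd50) (kd xd27 yd14 zd47) (kd xd26 yd4 zd42) (kd xd24 yd15 zd50)) (@D3.rec (fun _ => Pt) (kd xd32 yd10 zd47) (kd xd32 yd10 zd48) (kd xd16 yd36 zd60) (kd xd17 yd48 zd50) (kd xd22 yd15 zd16) (kd xd27 yd16 zd32) (kd xd32 yd10 zd50) (kd xd32 yd10 zd51) (kd xd16 yd37 zd0) (kd xd32 yd10 zd55) (kd xd20 yd58 zd52) (kd xd16 yd41 zd58) (kd xd16 yd37 zd3) (kd xd16 yd37 zd4) (kd xd20 yd58 zd53) (kd xd31 yd41 zd35) (kd xd26 yd38 zd23) (kd xd32 yd10 zd59) (kd xd27 yd22 zd53) (kd xd26 yd58 zd37) (kd xd32 yd11 zd0) (kd xd32 yd11 zd1) (kd xd32 yd11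 zd2) (kd xd16 yd37 zd10) (kd xd27 yd1 zd7) (kd xd16 yd45 zd52) (kd xd27 yd19 zd36) (kd xd16 yd45 zd58) (kd xd32 yd11 zd4) (kd xd16 yd37 zd15) (kd xd30 yd16 zd16) (kd xd30 yd16 zd17) (kd xd32 yd11 zd10) (kd xd32 yd11 zd12) (kd xd30 yd16 zd12) (kd xd32 yd11 zd14) (kd xd30 yd28 zd13) (kd xd16 yd37 zd18) (kd xd16 yd42 zd34) (kd xd30 yd30 zd61) (kd xd20 yd55 zd20) (kd xd16 yd37 zd22) (kd xd27 yd13 zd58) (kd xd30 yd30 zd54) (kd xd16 yd41 zd43) (kd xd32 yd11 zd16) (kd xd24 yd32 zd30) (kd xd29 yd33 zd55) (kd xd32 yd11 zd17) (kd xd32 yd11 zd18) (kd xd16 yd37 zd29) (kd xd32 yd11 zd20) (kd xd16 yd37 zd30) (kd xd28 yd54 zd32) (kd xd31 yd45 zd26) (kd xd29 yd52 zd15) (kd xd31 yd20 zd15) (kd xd19 yd1 zd5) (kd xd22 yd1 zd20) (kd xd19 yd55 zd29) (kd xd31 yd14 zd2) (kd xd29 yd33 zd53))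 (@D3.rec (fun _ => Pt) (kd xd29 yd31 zd24) (kd xd16 yd37 zd38) (kd xd32 yd11 zd27) (kd xd32 yd11 zd28) (kd xd16 yd37 zd39) (kd xd31 yd19 zd37) (kd xd16 yd37 zd41) (kd xd16 yd37 zd42) (kd xd32 yd11 zd31) (kd xd16 yd37 zd43) (kd xd28 yd59 zd41) (kd xd16 yd37 zd44) (kd xd17 yd11 zd28) (kd xd32 yd11 zd34) (kd xd16 yd37 zd46) (kd xd16 yd37 zd47) (kd xd32 yd11 zd35) (kd xd16 yd37 zd49) (kd xd24 yd50 zd39) (kd xd31 yd51 zd7) (kd xd16 yd37 zd50) (kd xd31 yd51 zd41) (kd xd32 yd11 zd39) (kd xd32 yd11 zd40) (kd xd16 yd37 zd52) (kd xd29 yd46 zd6) (kd xd28 yd0 zd21) (kd xd16 yd37 zd53) (kd xd31 yd33 zd6) (kd xd16 yd37 zd54) (kd xd20 yd0 zd20) (kd xd16 yd37 zd56) (kd xd28 yd40 zd27) (kd xd28 yd40 zd26) (kd xd16 yd37 zd58) (kd xd32 yd11 zd48) (kd xd16 yd39 zd28) (kd xd16 yd39 zd31)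 (kd xd26 yd50 zd10) (kd xd29 yd33 zd33) (kd xd29 yd33 zd32) (kd xd16 yd37 zd61) (kd xd29 yd43 zd20) (kd xd31 yd51 zd61) (kd xd16 yd38 zd0) (kd xd30 yd16 zd23) (kd xd31 yd51 zd60) (kd xd16 yd38 zd1) (kd xd28 yd42 zd15) (kd xd19 yd14 zd1) (kd xd19 yd14 zd2) (kd xd28 yd34 zd52) (kd xd16 yd38 zd3) (kd xd16 yd39 zd27) (kd xd32 yd12 zd0) (kd xd29 yd44 zd57) (kd xd29 yd40 zd59) (kd xd16 yd38 zd8) (kd xd32 yd12 zd4) (kd xd26 yd28 zd1) (kd xd16 yd38 zd9) (kd xd32 yd12 zd7)) (@D3.rec (fun _ => Pt) (kd xd29 yd43 zd24) (kd xd26 yd38 zd55) (kd xd32 yd12 zd12) (kd xd16 yd38 zd11) (kd xd32 yd12 zd14) (kd xd16 yd38 zd12) (kd xd26 yd39 zd5) (kd xd32 yd12 zd15) (kd xd32 yd12 zd16) (kd xd16 yd38 zd14) (kd xd26 yd37 zd10) (kd xd28 yd30 zd1) (kd xd29 yd12 zd26) (kd xd16 yd38 zd16) (kd xd19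 yd13 zd60) (kd xd19 yd13 zd38) (kd xd29 yd45 zd33) (kd xd19 yd14 zd0) (kd xd19 yd13 zd35) (kd xd26 yd36 zd51) (kd xd19 yd13 zd40) (kd xd19 yd13 zd39) (kd xd29 yd33 zd10) (kd xd16 yd38 zd19) (kd xd19 yd8 zd42) (kd xd27 yd0 zd21) (kd xd16 yd38 zd21) (kd xd32 yd12 zd37) (kd xd16 yd38 zd22) (kd xd20 yd55 zd23) (kd xd28 yd30 zd13) (kd xd20 yd39 zd20) (kd xd16 yd42 zd33) (kd xd16 yd38 zd25) (kd xd32 yd12 zd41) (kd xd16 yd38 zd26) (kd xd30 yd22 zd36) (kd xd19 yd13 zd34) (kd xd19 yd7 zd33) (kd xd19 yd13 zd3) (kd xd19 yd13 zd4) (kd xd24 yd24 zd26) (kd xd16 yd38 zd29) (kd xd28 yd39 zd1) (kd xd31 yd47 zd5) (kd xd16 yd38 zd38) (kd xd31 yd39 zd34) (kd xd21 yd40 zd16) (kd xd16 yd38 zd36) (kd xd30 yd51 zd17) (kd xd19 yd1 zd4) (kd xd26 yd36 zd19) (kd xd27 yd18 zd43) (kd xd16 yd38 zd42)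 (kd xd32 yd12 zd50) (kd xd27 yd46 zd51) (kd xd19 yd25 zd36) (kd xd27 yd13 zd61) (kd xd16 yd38 zd45) (kd xd31 yd31 zd0) (kd xd25 yd11 zd3) (kd xd29 yd4 zd2)) (@D3.rec (fun _ => Pt) (kd xd20 yd56 zd2) (kd xd16 yd38 zd47) (kd xd32 yd12 zd53) (kd xd16 yd40 zd3) (kd xd24 yd58 zd13) (kd xd22 yd4 zd17) (kd xd31 yd41 zd48) (kd xd31 yd41 zd47) (kd xd16 yd38 zd50) (kd xd32 yd12 zd51) (kd xd26 yd36 zd10) (kd xd16 yd38 zd51) (kd xd29 yd4 zd3) (kd xd26 yd37 zd27) (kd xd31 yd20 zd24) (kd xd16 yd38 zd52) (kd xd19 yd17 zd39) (kd xd32 yd3 zd36) (kd xd32 yd3 zd37) (kd xd20 yd3 zd20) (kd xd16 yd38 zd55) (kd xd16 yd38 zd56) (kd xd31 yd30 zd57) (kd xd29 yd33 zd38) (kd xd21 yd46 zd15) (kd xd32 yd3 zd28) (kd xd31 yd20 zd17) (kd xd26 yd37 zd13) (kd xd16 yd39 zd1) (kd xd29 yd45 zd49) (kd xd31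 yd31 zd52) (kd xd22 yd11 zd56) (kd xd27 yd21 zd47) (kd xd25 yd37 zd51) (kd xd31 yd47 zd6) (kd xd16 yd39 zd7) (kd xd28 yd50 zd27) (kd xd16 yd39 zd9) (kd xd32 yd3 zd23) (kd xd32 yd12 zd57) (kd xd24 yd49 zd4) (kd xd19 yd55 zd25) (kd xd19 yd55 zd22) (kd xd24 yd49 zd3) (kd xd27 yd38 zd13) (kd xd27 yd52 zd5) (kd xd16 yd39 zd20) (kd xd16 yd42 zd44) (kd xd16 yd42 zd41) (kd xd20 yd58 zd60) (kd xd19 yd32 zd6) (kd xd31 yd24 zd57) (kd xd21 yd1 zd19) (kd xd32 yd13 zd5) (kd xd16 yd39 zd29) (kd xd29 yd17 zd14) (kd xd27 yd19 zd14) (kd xd19 yd54 zd53) (kd xd17 yd49 zd27) (kd xd32 yd13 zd7) (kd xd19 yd32 zd49) (kd xd32 yd11 zd47)) (@D3.rec (fun _ => Pt) (kd xd24 yd49 zd33) (kd xd29 yd45 zd25) (kd xd16 yd39 zd40) (kd xd30 yd14 zd57) (kd xd32 yd11 zd61) (kd xd32 yd13 zd13) (kd xd16 yd39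 zd42) (kd xd32 yd13 zd14) (kd xd16 yd39 zd43) (kd xd17 yd49 zd23) (kd xd16 yd39 zd45) (kd xd19 yd33 zd52) (kd xd18 yd22 zd10) (kd xd18 yd22 zd9) (kd xd29 yd46 zd13) (kd xd29 yd45 zd31) (kd xd19 yd14 zd21) (kd xd16 yd39 zd53) (kd xd27 yd58 zd31) (kd xd29 yd26 zd22) (kd xd16 yd39 zd55) (kd xd29 yd46 zd21) (kd xd16 yd41 zd29) (kd xd26 yd34 zd16) (kd xd16 yd39 zd58) (kd xd30 yd29 zd21) (kd xd20 yd36 zd58) (kd xd29 yd46 zd32) (kd xd20 yd39 zd27) (kd xd16 yd39 zd61) (kd xd30 yd47 zd18) (kd xd16 yd40 zd0) (kd xd25 yd46 zd56) (kd xd18 yd41 zd9) (kd xd17 yd18 zd28) (kd xd16 yd40 zd4) (kd xd25 yd9 zd20) (kd xd32 yd13 zd28) (kd xd32 yd13 zd29) (kd xd16 yd40 zd6) (kd xd30 yd16 zd14) (kd xd29 yd12 zd41) (kd xd16 yd40 zd8) (kd xd32 yd13 zd30) (kd xd32 yd13 zd31) (kd xd16 yd40 zd9)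 (kd xd32 yd13 zd32) (kd xd16 yd40 zd10) (kd xd32 yd12 zd52) (kd xd16 yd40 zd11) (kd xd30 yd15 zd39) (kd xd28 yd44 zd32) (kd xd28 yd44 zd28) (kd xd16 yd40 zd13) (kd xd16 yd40 zd14) (kd xd26 yd36 zd1) (kd xd16 yd40 zd15) (kd xd32 yd3 zd34) (kd xd26 yd59 zd32) (kd xd26 yd59 zd31) (kd xd16 yd54 zd44) (kd xd16 yd40 zd17)) (@D3.rec (fun _ => Pt) (kd xd16 yd40 zd18) (kd xd16 yd48 zd30) (kd xd16 yd40 zd21) (kd xd29 yd45 zd48) (kd xd20 yd56 zd9) (kd xd26 yd36 zd6) (kd xd31 yd18 zd59) (kd xd29 yd26 zd23) (kd xd16 yd40 zd26) (kd xd16 yd40 zd28) (kd xd19 yd40 zd42) (kd xd29 yd45 zd54) (kd xd16 yd41 zd12) (kd xd20 yd57 zd26) (kd xd28 yd34 zd59) (kd xd16 yd40 zd31) (kd xd32 yd0 zd28) (kd xd29 yd34 zd33) (kd xd25 yd25 zd13) (kd xd16 yd40 zd33) (kd xd16 yd40 zd36) (kd xd16 yd40 zd37)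 (kd xd19 yd16 zd4) (kd xd16 yd40 zd38) (kd xd25 yd58 zd4) (kd xd28 yd22 zd44) (kd xd19 yd15 zd48) (kd xd27 yd35 zd54) (kd xd32 yd1 zd1) (kd xd30 yd29 zd10) (kd xd16 yd40 zd47) (kd xd23 yd49 zd41) (kd xd26 yd40 zd20) (kd xd32 yd13 zd23) (kd xd23 yd43 zd61) (kd xd16 yd40 zd50) (kd xd32 yd13 zd55) (kd xd27 yd0 zd6) (kd xd16 yd40 zd54) (kd xd16 yd40 zd55) (kd xd17 yd49 zd42) (kd xd16 yd40 zd56) (kd xd17 yd14 zd35) (kd xd28 yd5 zd18) (kd xd28 yd21 zd42) (kd xd16 yd40 zd59) (kd xd32 yd13 zd56) (kd xd16 yd40 zd60) (kd xd26 yd41 zd4) (kd xd16 yd40 zd61) (kd xd26 yd40 zd48) (kd xd26 yd59 zd43) (kd xd26 yd59 zd44) (kd xd20 yd55 zd14) (kd xd16 yd41 zd9) (kd xd16 yd41 zd14) (kd xd25 yd8 zd47) (kd xd16 yd41 zd17) (kd xd24 yd21 zd39) (kd xd18 yd48 zd39) (kd xd18 yd48 zd37) (kd xd16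 yd41 zd21)) (@D3.rec (fun _ => Pt) (kd xd27 yd14 zd6) (kd xd32 yd13 zd59) (kd xd29 yd25 zd56) (kd xd16 yd41 zd25) (kd xd31 yd51 zd0) (kd xd29 yd26 zd24) (kd xd16 yd41 zd30) (kd xd32 yd14 zd0) (kd xd29 yd47 zd16) (kd xd29 yd47 zd17) (kd xd16 yd41 zd31) (kd xd29 yd26 zd26) (kd xd26 yd53 zd24) (kd xd16 yd41 zd36) (kd xd23 yd34 zd20) (kd xd20 yd39 zd33) (kd xd20 yd19 zd22) (kd xd20 yd16 zd5) (kd xd30 yd8 zd11) (kd xd29 yd39 zd5) (kd xd26 yd39 zd32) (kd xd30 yd16 zd27) (kd xd30 yd28 zd0) (kd xd32 yd14 zd8) (kd xd16 yd41 zd44) (kd xd32 yd14 zd12) (kd xd24 yd53 zd12) (kd xd26 yd8 zd29) (kd xd19 yd53 zd36) (kd xd19 yd13 zd53) (kd xd24 yd49 zd10) (kd xd16 yd43 zd28) (kd xd31 yd37 zd41) (kd xd16 yd43 zd30) (kd xd21 yd8 zd35) (kd xd16 yd41 zd52) (kd xd26 yd2 zd38) (kd xd16 yd41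 zd54) (kd xd16 yd41 zd55) (kd xd20 yd55 zd15) (kd xd21 yd37 zd43) (kd xd32 yd14 zd15) (kd xd16 yd42 zd7) (kd xd20 yd39 zd45) (kd xd16 yd42 zd1) (kd xd16 yd42 zd2) (kd xd32 yd14 zd20) (kd xd29 yd43 zd27) (kd xd26 yd39 zd50) (kd xd31 yd33 zd2) (kd xd16 yd42 zd4) (kd xd28 yd37 zd59) (kd xd26 yd41 zd10) (kd xd28 yd21 zd43) (kd xd18 yd46 zd11) (kd xd16 yd42 zd6) (kd xd28 yd29 zd48) (kd xd31 yd40 zd52) (kd xd29 yd34 zd3) (kd xd28 yd27 zd59) (kd xd29 yd25 zd57) (kd xd27 yd0 zd5)) (@D3.rec (fun _ => Pt) (kd xd26 yd5 zd54) (kd xd30 yd12 zd32) (kd xd23 yd23 zd38) (kd xd27 yd38 zd44) (kd xd26 yd39 zd48) (kd xd29 yd58 zd58) (kd xd29 yd38 zd0) (kd xd16 yd42 zd20) (kd xd16 yd42 zd21) (kd xd25 yd21 zd51) (kd xd26 yd40 zd52) (kd xd29 yd26 zd35) (kd xd31 yd5 zd58) (kd xd16 yd42 zd28)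 (kd xd32 yd14 zd31) (kd xd26 yd8 zd30) (kd xd16 yd42 zd30) (kd xd30 yd31 zd1) (kd xd23 yd59 zd9) (kd xd24 yd21 zd2) (kd xd25 yd12 zd1) (kd xd16 yd42 zd35) (kd xd25 yd22 zd43) (kd xd16 yd42 zd38) (kd xd32 yd14 zd34) (kd xd19 yd56 zd48) (kd xd20 yd56 zd11) (kd xd32 yd14 zd35) (kd xd16 yd42 zd40) (kd xd32 yd13 zd1) (kd xd21 yd20 zd60) (kd xd16 yd42 zd47) (kd xd22 yd2 zd58) (kd xd32 yd8 zd46) (kd xd30 yd16 zd34) (kd xd22 yd2 zd61) (kd xd27 yd17 zd0) (kd xd19 yd34 zd60) (kd xd25 yd36 zd49) (kd xd30 yd7 zd13) (kd xd18 yd55 zd52) (kd xd27 yd38 zd42) (kd xd32 yd1 zd57) (kd xd16 yd42 zd56) (kd xd25 yd34 zd15) (kd xd22 yd20 zd4) (kd xd25 yd31 zd40) (kd xd24 yd35 zd58) (kd xd21 yd16 zd42) (kd xd28 yd23 zd60) (kd xd26 yd33 zd58) (kd xd17 yd26 zd18) (kd xd26 yd25 zd58) (kd xd26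 yd25 zd59) (kd xd29 yd12 zd45) (kd xd27 yd11 zd28) (kd xd27 yd11 zd29) (kd xd30 yd47 zd40) (kd xd29 yd4 zd11) (kd xd21 yd42 zd21) (kd xd32 yd14 zd39) (kd xd28 yd57 zd47)) (@D3.rec (fun _ => Pt) (kd xd25 yd12 zd21) (kd xd31 yd37 zd27) (kd xd16 yd43 zd10) (kd xd16 yd45 zd30) (kd xd22 yd17 zd21) (kd xd25 yd59 zd53) (kd xd25 yd55 zd5) (kd xd31 yd58 zd60) (kd xd32 yd1 zd43) (kd xd29 yd9 zd27) (kd xd19 yd26 zd9) (kd xd20 yd2 zd37) (kd xd25 yd57 zd46) (kd xd24 yd5 zd37) (kd xd24 yd4 zd21) (kd xd19 yd34 zd59) (kd xd16 yd43 zd27) (kd xd16 yd43 zd32) (kd xd32 yd14 zd40) (kd xd31 yd55 zd46) (kd xd26 yd27 zd5) (kd xd31 yd35 zd24) (kd xd27 yd20 zd19) (kd xd18 yd55 zd49) (kd xd16 yd43 zd38) (kd xd16 yd43 zd40) (kd xd31 yd54 zd41) (kd xd17 yd53 zd59) (kd xd27 yd7 zd38) (kd xd27 yd17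 zd28) (kd xd16 yd43 zd42) (kd xd29 yd23 zd35) (kd xd16 yd43 zd43) (kd xd32 yd14 zd41) (kd xd16 yd43 zd51) (kd xd27 yd11 zd59) (kd xd19 yd37 zd20) (kd xd29 yd40 zd10) (kd xd16 yd43 zd60) (kd xd19 yd34 zd44) (kd xd20 yd5 zd13) (kd xd28 yd9 zd0) (kd xd28 yd21 zd57) (kd xd31 yd28 zd22) (kd xd31 yd18 zd14) (kd xd24 yd19 zd36) (kd xd24 yd19 zd35) (kd xd16 yd44 zd4) (kd xd16 yd44 zd5) (kd xd25 yd52 zd24) (kd xd16 yd44 zd9) (kd xd32 yd14 zd47) (kd xd24 yd30 zd35) (kd xd31 yd37 zd16) (kd xd30 yd38 zd14) (kd xd30 yd38 zd12) (kd xd16 yd44 zd11) (kd xd29 yd34 zd42) (kd xd30 yd5 zd39) (kd xd16 yd44 zd12) (kd xd32 yd14 zd55) (kd xd32 yd14 zd58)) (@D3.rec (fun _ => Pt) (kd xd16 yd44 zd13) (kd xd25 yd52 zd21) (kd xd32 yd15 zd0) (kd xd30 yd26 zd31) (kd xd28 yd30 zd59) (kd xd28 yd27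 zd56) (kd xd32 yd15 zd1) (kd xd28 yd38 zd39) (kd xd32 yd15 zd3) (kd xd16 yd44 zd18) (kd xd17 yd21 zd23) (kd xd32 yd15 zd6) (kd xd26 yd58 zd2) (kd xd32 yd15 zd7) (kd xd28 yd40 zd3) (kd xd28 yd46 zd50) (kd xd16 yd44 zd23) (kd xd28 yd48 zd59) (kd xd31 yd55 zd30) (kd xd20 yd47 zd21) (kd xd27 yd59 zd59) (kd xd16 yd44 zd28) (kd xd32 yd3 zd3) (kd xd29 yd1 zd32) (kd xd24 yd25 zd19) (kd xd16 yd44 zd30) (kd xd22 yd23 zd49) (kd xd19 yd34 zd31) (kd xd20 yd25 zd35) (kd xd16 yd46 zd30) (kd xd30 yd46 zd31) (kd xd29 yd39 zd20) (kd xd28 yd55 zd39) (kd xd23 yd53 zd40) (kd xd16 yd44 zd35) (kd xd23 yd53 zd2) (kd xd17 yd31 zd15) (kd xd17 yd21 zd0) (kd xd19 yd21 zd3) (kd xd18 yd54 zd8) (kd xd18 yd23 zd27) (kd xd16 yd44 zd46) (kd xd16 yd44 zd47) (kd xd28 yd32 zd59) (kd xd30 yd31 zd32) (kd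 xd32 yd15 zd21) (kd xd31 yd23 zd12) (kd xd16 yd44 zd50) (kd xd24 yd18 zd14) (kd xd19 yd39 zd1) (kd xd21 yd57 zd25) (kd xd20 yd6 zd37) (kd xd16 yd44 zd55) (kd xd26 yd48 zd41) (kd xd22 yd25 zd3) (kd xd31 yd38 zd55) (kd xd16 yd44 zd58) (kd xd32 yd15 zd23) (kd xd32 yd15 zd24) (kd xd16 yd45 zd0) (kd xd23 yd53 zd35) (kd xd18 yd43 zd15)) (@D3.rec (fun _ => Pt) (kd xd16 yd45 zd6) (kd xd24 yd6 zd41) (kd xd16 yd45 zd8) (kd xd31 yd58 zd56) (kd xd16 yd45 zd9) (kd xd29 yd27 zd7) (kd xd19 yd30 zd44) (kd xd19 yd52 zd10) (kd xd18 yd43 zd25) (kd xd16 yd45 zd13) (kd xd26 yd3 zd0) (kd xd23 yd53 zd0) (kd xd16 yd45 zd15) (kd xd32 yd1 zd2) (kd xd16 yd45 zd19) (kd xd24 yd58 zd10) (kd xd25 yd5 zd60) (kd xd27 yd41 zd40) (kd xd27 yd41 zd44) (kd xd32 yd15 zd31) (kd xd28 yd58 zd48) (kd xd21 yd23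 zd55) (kd xd16 yd45 zd35) (kd xd20 yd59 zd7) (kd xd27 yd21 zd34) (kd xd16 yd45 zd37) (kd xd17 yd43 zd11) (kd xd22 yd10 zd55) (kd xd32 yd15 zd34) (kd xd24 yd58 zd11) (kd xd16 yd45 zd41) (kd xd19 yd11 zd23) (kd xd18 yd5 zd39) (kd xd25 yd51 zd18) (kd xd19 yd11 zd20) (kd xd20 yd59 zd2) (kd xd19 yd26 zd4) (kd xd19 yd46 zd13) (kd xd16 yd45 zd50) (kd xd18 yd46 zd27) (kd xd17 yd25 zd6) (kd xd27 yd49 zd36) (kd xd24 yd27 zd43) (kd xd32 yd15 zd35) (kd xd16 yd45 zd56) (kd xd24 yd2 zd41) (kd xd24 yd38 zd5) (kd xd30 yd50 zd53) (kd xd26 yd18 zd40) (kd xd25 yd37 zd10) (kd xd16 yd46 zd14) (kd xd16 yd46 zd16) (kd xd20 yd59 zd25) (kd xd31 yd51 zd4) (kd xd20 yd12 zd0) (kd xd16 yd46 zd27) (kd xd30 yd49 zd13) (kd xd16 yd46 zd28) (kd xd28 yd53 zd18) (kd xd30 yd26 zd52) (kd xd24 yd20 zd1)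 (kd xd19 yd43 zd38)) (@D3.rec (fun _ => Pt) (kd xd16 yd46 zd33) (kd xd16 yd46 zd34) (kd xd31 yd30 zd13) (kd xd16 yd46 zd37) (kd xd31 yd33 zd31) (kd xd20 yd28 zd36) (kd xd19 yd36 zd33) (kd xd27 yd8 zd5) (kd xd19 yd46 zd1) (kd xd16 yd46 zd43) (kd xd19 yd45 zd57) (kd xd30 yd15 zd20) (kd xd24 yd11 zd61) (kd xd31 yd19 zd0) (kd xd29 yd57 zd2) (kd xd30 yd50 zd11) (kd xd30 yd36 zd6) (kd xd16 yd46 zd50) (kd xd18 yd45 zd31) (kd xd18 yd44 zd36) (kd xd19 yd46 zd30) (kd xd28 yd9 zd5) (kd xd20 yd12 zd1) (kd xd19 yd46 zd22) (kd xd22 yd24 zd42) (kd xd16 yd46 zd55) (kd xd20 yd52 zd35) (kd xd19 yd7 zd4) (kd xd28 yd44 zd15) (kd xd16 yd46 zd59) (kd xd23 yd0 zd7) (kd xd16 yd47 zd0) (kd xd18 yd59 zd43) (kd xd28 yd56 zd24) (kd xd30 yd29 zd56) (kd xd31 yd28 zd1) (kd xd16 yd47 zd5) (kd xd20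 yd26 zd52) (kd xd32 yd15 zd43) (kd xd16 yd47 zd8) (kd xd29 yd40 zd30) (kd xd29 yd0 zd10) (kd xd16 yd47 zd14) (kd xd16 yd47 zd16) (kd xd23 yd25 zd36) (kd xd19 yd29 zd12) (kd xd31 yd11 zd17) (kd xd29 yd17 zd47) (kd xd20 yd22 zd5) (kd xd17 yd32 zd61) (kd xd24 yd33 zd31) (kd xd29 yd29 zd17) (kd xd19 yd52 zd11) (kd xd23 yd19 zd59) (kd xd16 yd50 zd54) (kd xd29 yd48 zd54) (kd xd25 yd45 zd39) (kd xd20 yd38 zd17) (kd xd20 yd0 zd52) (kd xd31 yd35 zd15) (kd xd25 yd41 zd32) (kd xd16 yd47 zd46)) (@D3.rec (fun _ => Pt) (kd xd27 yd36 zd24) (kd xd16 yd47 zd52) (kd xd29 yd48 zd57) (kd xd30 yd37 zd14) (kd xd16 yd47 zd56) (kd xd29 yd9 zd5) (kd xd28 yd24 zd37) (kd xd23 yd2 zd53) (kd xd16 yd48 zd6) (kd xd29 yd45 zd8) (kd xd28 yd49 zd1) (kd xd27 yd55 zd61) (kd xd26 yd13 zd1) (kd xd32 yd15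 zd46) (kd xd16 yd48 zd17) (kd xd16 yd48 zd21) (kd xd32 yd15 zd47) (kd xd32 yd15 zd48) (kd xd16 yd48 zd23) (kd xd16 yd48 zd25) (kd xd20 yd23 zd35) (kd xd32 yd15 zd49) (kd xd16 yd48 zd31) (kd xd28 yd44 zd33) (kd xd24 yd53 zd24) (kd xd25 yd45 zd54) (kd xd17 yd7 zd17) (kd xd16 yd48 zd34) (kd xd20 yd37 zd47) (kd xd27 yd38 zd36) (kd xd26 yd59 zd1) (kd xd26 yd59 zd2) (kd xd16 yd48 zd41) (kd xd16 yd48 zd48) (kd xd22 yd2 zd27) (kd xd18 yd16 zd20) (kd xd29 yd46 zd39) (kd xd20 yd51 zd59) (kd xd17 yd8 zd40) (kd xd16 yd48 zd56) (kd xd19 yd53 zd44) (kd xd19 yd53 zd45) (kd xd28 yd56 zd48) (kd xd20 yd49 zd12) (kd xd28 yd50 zd28) (kd xd16 yd49 zd16) (kd xd21 yd37 zd17) (kd xd32 yd15 zd54) (kd xd32 yd15 zd56) (kd xd16 yd49 zd22) (kd xd21 yd9 zd48) (kd xd28 yd31 zd39) (kd xd16 yd49 zd28)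 (kd xd29 yd30 zd29) (kd xd23 yd30 zd11) (kd xd23 yd30 zd10) (kd xd16 yd49 zd29) (kd xd30 yd11 zd24) (kd xd20 yd53 zd37) (kd xd28 yd36 zd56) (kd xd20 yd5 zd42) (kd xd18 yd10 zd13)) (@D3.rec (fun _ => Pt) (kd xd20 yd6 zd61) (kd xd20 yd5 zd46) (kd xd18 yd20 zd33) (kd xd29 yd41 zd52) (kd xd16 yd50 zd5) (kd xd26 yd1 zd58) (kd xd29 yd12 zd28) (kd xd25 yd41 zd31) (kd xd32 yd15 zd57) (kd xd32 yd15 zd60) (kd xd31 yd4 zd26) (kd xd16 yd49 zd60) (kd xd16 yd49 zd61) (kd xd31 yd8 zd43) (kd xd26 yd14 zd30) (kd xd26 yd7 zd17) (kd xd27 yd47 zd29) (kd xd16 yd50 zd1) (kd xd20 yd58 zd44) (kd xd23 yd24 zd55) (kd xd16 yd50 zd6) (kd xd32 yd4 zd54) (kd xd19 yd54 zd58) (kd xd32 yd16 zd5) (kd xd32 yd16 zd6) (kd xd32 yd16 zd7) (kd xd16 yd50 zd8) (kd xd32 yd4 zd51) (kd xd31 yd8 zd45) (kd xd31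 yd8 zd44) (kd xd16 yd50 zd9) (kd xd32 yd16 zd11) (kd xd31 yd9 zd7) (kd xd16 yd50 zd10) (kd xd16 yd50 zd11) (kd xd24 yd32 zd42) (kd xd22 yd44 zd9) (kd xd16 yd50 zd14) (kd xd31 yd52 zd32) (kd xd32 yd12 zd58) (kd xd16 yd50 zd18) (kd xd31 yd3 zd21) (kd xd30 yd42 zd14) (kd xd16 yd50 zd20) (kd xd32 yd16 zd13) (kd xd32 yd16 zd14) (kd xd16 yd50 zd21) (kd xd31 yd8 zd51) (kd xd18 yd6 zd19) (kd xd18 yd6 zd21) (kd xd21 yd8 zd59) (kd xd16 yd50 zd25) (kd xd31 yd9 zd3) (kd xd20 yd6 zd0) (kd xd29 yd57 zd47) (kd xd16 yd50 zd27) (kd xd31 yd10 zd8) (kd xd31 yd37 zd48) (kd xd31 yd5 zd13) (kd xd16 yd50 zd28) (kd xd32 yd16 zd19) (kd xd22 yd31 zd9)) (@D3.rec (fun _ => Pt) (kd xd24 yd31 zd48) (kd xd16 yd50 zd32) (kd xd31 yd34 zd35) (kd xd23 yd28 zd58) (kd xd16 yd50 zd34) (kd xd28 yd49 zd42)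 (kd xd25 yd37 zd49) (kd xd25 yd32 zd53) (kd xd28 yd28 zd52) (kd xd24 yd23 zd54) (kd xd16 yd50 zd40) (kd xd26 yd32 zd55) (kd xd16 yd50 zd42) (kd xd19 yd5 zd40) (kd xd32 yd4 zd32) (kd xd18 yd8 zd17) (kd xd18 yd5 zd31) (kd xd19 yd23 zd34) (kd xd31 yd48 zd4) (kd xd18 yd18 zd20) (kd xd16 yd50 zd53) (kd xd31 yd6 zd35) (kd xd32 yd8 zd41) (kd xd16 yd50 zd56) (kd xd32 yd16 zd20) (kd xd32 yd16 zd21) (kd xd31 yd58 zd2) (kd xd16 yd50 zd58) (kd xd16 yd50 zd60) (kd xd24 yd34 zd52) (kd xd31 yd9 zd12) (kd xd16 yd51 zd0) (kd xd23 yd29 zd12) (kd xd16 yd51 zd5) (kd xd25 yd37 zd54) (kd xd29 yd47 zd39) (kd xd16 yd51 zd16) (kd xd28 yd59 zd46) (kd xd25 yd19 zd42) (kd xd16 yd51 zd20) (kd xd21 yd28 zd55) (kd xd26 yd43 zd53) (kd xd16 yd51 zd24) (kd xd29 yd24 zd3) (kd xd30 yd6 zd58) (kd xd23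 yd10 zd32) (kd xd16 yd51 zd26) (kd xd23 yd30 zd43) (kd xd29 yd18 zd54) (kd xd16 yd57 zd25) (kd xd27 yd3 zd33) (kd xd16 yd51 zd41) (kd xd16 yd51 zd42) (kd xd16 yd51 zd44) (kd xd29 yd29 zd61) (kd xd16 yd51 zd46) (kd xd25 yd46 zd28) (kd xd23 yd34 zd33) (kd xd27 yd1 zd22) (kd xd17 yd33 zd0) (kd xd28 yd28 zd20) (kd xd25 yd56 zd5)) (@D3.rec (fun _ => Pt) (kd xd29 yd21 zd14) (kd xd16 yd51 zd56) (kd xd18 yd39 zd40) (kd xd24 yd8 zd0) (kd xd29 yd31 zd43) (kd xd16 yd52 zd0) (kd xd29 yd23 zd57) (kd xd29 yd24 zd19) (kd xd16 yd52 zd1) (kd xd30 yd50 zd32) (kd xd30 yd37 zd30) (kd xd23 yd4 zd38) (kd xd30 yd48 zd61) (kd xd16 yd52 zd9) (kd xd30 yd39 zd6) (kd xd16 yd52 zd10) (kd xd23 yd0 zd12) (kd xd16 yd56 zd7) (kd xd32 yd16 zd29) (kd xd30 yd18 zd36) (kd xd30 yd50 zd1) (kd xd16 yd52 zd18)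 (kd xd31 yd23 zd11) (kd xd16 yd52 zd19) (kd xd20 yd20 zd13) (kd xd20 yd20 zd14) (kd xd16 yd52 zd21) (kd xd22 yd26 zd32) (kd xd32 yd16 zd35) (kd xd16 yd52 zd22) (kd xd20 yd52 zd46) (kd xd28 yd10 zd24) (kd xd30 yd50 zd35) (kd xd22 yd36 zd7) (kd xd16 yd55 zd55) (kd xd29 yd13 zd60) (kd xd16 yd52 zd38) (kd xd16 yd53 zd7) (kd xd28 yd12 zd45) (kd xd24 yd46 zd8) (kd xd28 yd26 zd15) (kd xd28 yd55 zd49) (kd xd20 yd8 zd55) (kd xd26 yd56 zd4) (kd xd16 yd52 zd51) (kd xd21 yd15 zd28) (kd xd25 yd28 zd36) (kd xd29 yd29 zd53) (kd xd20 yd32 zd41) (kd xd29 yd38 zd34) (kd xd31 yd0 zd22) (kd xd22 yd59 zd49) (kd xd30 yd48 zd50) (kd xd23 yd54 zd55) (kd xd19 yd0 zd48) (kd xd25 yd16 zd4) (kd xd16 yd53 zd13) (kd xd30 yd44 zd44) (kd xd20 yd7 zd50) (kd xd28 yd20 zd8) (kd xd26 yd50 zd8) (kd xd16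 yd54 zd14)) (@D3.rec (fun _ => Pt) (kd xd28 yd32 zd32) (kd xd31 yd40 zd17) (kd xd30 yd37 zd48) (kd xd24 yd11 zd4) (kd xd16 yd53 zd37) (kd xd32 yd16 zd37) (kd xd29 yd36 zd40) (kd xd28 yd30 zd25) (kd xd26 yd49 zd60) (kd xd19 yd43 zd45) (kd xd26 yd35 zd38) (kd xd16 yd53 zd44) (kd xd26 yd54 zd23) (kd xd20 yd0 zd8) (kd xd28 yd42 zd32) (kd xd19 yd25 zd14) (kd xd32 yd16 zd38) (kd xd16 yd53 zd55) (kd xd30 yd22 zd32) (kd xd30 yd30 zd40) (kd xd20 yd52 zd42) (kd xd26 yd23 zd39) (kd xd29 yd18 zd26) (kd xd16 yd54 zd5) (kd xd32 yd16 zd40) (kd xd16 yd54 zd6) (kd xd26 yd52 zd7) (kd xd24 yd25 zd16) (kd xd17 yd5 zd35) (kd xd17 yd9 zd31) (kd xd18 yd50 zd36) (kd xd17 yd0 zd3) (kd xd32 yd16 zd41) (kd xd16 yd54 zd21) (kd xd22 yd16 zd29) (kd xd16 yd54 zd23) (kd xd30 yd50 zd24) (kd xd21 yd30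 zd56) (kd xd16 yd54 zd25) (kd xd16 yd54 zd29) (kd xd16 yd54 zd30) (kd xd16 yd54 zd33) (kd xd31 yd53 zd22) (kd xd16 yd54 zd34) (kd xd29 yd37 zd54) (kd xd16 yd54 zd36) (kd xd29 yd37 zd53) (kd xd20 yd27 zd4) (kd xd16 yd54 zd40) (kd xd30 yd30 zd24) (kd xd16 yd54 zd41) (kd xd18 yd43 zd35) (kd xd31 yd15 zd0) (kd xd32 yd9 zd55) (kd xd16 yd54 zd48) (kd xd32 yd16 zd45) (kd xd16 yd54 zd50) (kd xd19 yd20 zd54) (kd xd31 yd33 zd18) (kd xd16 yd54 zd53) (kd xd24 yd49 zd39) (kd xd20 yd59 zd55)) (@D3.rec (fun _ => Pt) (kd xd32 yd16 zd46) (kd xd16 yd54 zd56) (kd xd32 yd15 zd37) (kd xd26 yd59 zd51) (kd xd26 yd1 zd43) (kd xd16 yd54 zd59) (kd xd30 yd36 zd43) (kd xd16 yd54 zd61) (kd xd31 yd23 zd43) (kd xd30 yd22 zd52) (kd xd24 yd39 zd54) (kd xd24 yd39 zd55) (kd xd20 yd3 zd22) (kd xd16 yd55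 zd6) (kd xd25 yd55 zd10) (kd xd16 yd55 zd9) (kd xd26 yd59 zd47) (kd xd19 yd35 zd47) (kd xd16 yd55 zd12) (kd xd20 yd18 zd47) (kd xd16 yd55 zd13) (kd xd19 yd21 zd29) (kd xd32 yd15 zd25) (kd xd16 yd55 zd15) (kd xd19 yd21 zd32) (kd xd20 yd25 zd29) (kd xd28 yd39 zd47) (kd xd22 yd25 zd51) (kd xd22 yd25 zd46) (kd xd16 yd55 zd18) (kd xd32 yd16 zd48) (kd xd19 yd20 zd45) (kd xd19 yd21 zd10) (kd xd32 yd16 zd50) (kd xd29 yd40 zd5) (kd xd16 yd55 zd22) (kd xd24 yd1 zd11) (kd xd16 yd55 zd23) (kd xd21 yd15 zd47) (kd xd20 yd52 zd38) (kd xd31 yd24 zd9) (kd xd16 yd55 zd25) (kd xd17 yd5 zd60) (kd xd16 yd55 zd27) (kd xd17 yd6 zd9) (kd xd22 yd37 zd21) (kd xd17 yd6 zd3) (kd xd16 yd55 zd31) (kd xd31 yd23 zd45) (kd xd17 yd6 zd45) (kd xd17 yd6 zd27) (kd xd28 yd40 zd46) (kd xd32 yd16 zd54) (kd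 xd16 yd55 zd34) (kd xd24 yd11 zd6) (kd xd16 yd55 zd35) (kd xd28 yd32 zd34) (kd xd30 yd32 zd26) (kd xd16 yd55 zd36) (kd xd31 yd35 zd28) (kd xd21 yd57 zd47) (kd xd22 yd25 zd39)) (@D3.rec (fun _ => Pt) (kd xd18 yd24 zd56) (kd xd20 yd8 zd32) (kd xd27 yd5 zd11) (kd xd16 yd55 zd41) (kd xd32 yd16 zd28) (kd xd16 yd55 zd42) (kd xd25 yd47 zd3) (kd xd26 yd50 zd26) (kd xd17 yd24 zd55) (kd xd25 yd47 zd5) (kd xd26 yd58 zd42) (kd xd20 yd53 zd57) (kd xd26 yd58 zd47) (kd xd22 yd14 zd7) (kd xd16 yd55 zd50) (kd xd25 yd48 zd13) (kd xd30 yd16 zd13) (kd xd16 yd55 zd53) (kd xd32 yd17 zd2) (kd xd32 yd11 zd49) (kd xd32 yd11 zd50) (kd xd16 yd55 zd56) (kd xd29 yd33 zd59) (kd xd29 yd33 zd44) (kd xd29 yd33 zd46) (kd xd32 yd17 zd6) (kd xd18 yd1 zd44) (kd xd32 yd17 zd4) (kd xd23 yd0 zd6) (kd xd23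 yd0 zd8) (kd xd16 yd55 zd61) (kd xd28 yd38 zd50) (kd xd16 yd56 zd1) (kd xd20 yd51 zd60) (kd xd30 yd6 zd59) (kd xd27 yd14 zd27) (kd xd16 yd56 zd8) (kd xd27 yd39 zd52) (kd xd31 yd15 zd3) (kd xd28 yd49 zd61) (kd xd28 yd33 zd32) (kd xd16 yd56 zd10) (kd xd28 yd38 zd49) (kd xd22 yd16 zd10) (kd xd17 yd24 zd53) (kd xd28 yd18 zd17) (kd xd32 yd17 zd16) (kd xd16 yd56 zd16) (kd xd28 yd10 zd21) (kd xd24 yd16 zd35) (kd xd16 yd56 zd24) (kd xd26 yd20 zd18) (kd xd20 yd33 zd4) (kd xd31 yd22 zd11) (kd xd19 yd21 zd34) (kd xd23 yd12 zd29) (kd xd16 yd56 zd35) (kd xd19 yd21 zd33) (kd xd17 yd18 zd42) (kd xd25 yd48 zd19) (kd xd27 yd8 zd21) (kd xd31 yd19 zd55)) (@D3.rec (fun _ => Pt) (kd xd16 yd56 zd46) (kd xd20 yd38 zd15) (kd xd18 yd20 zd30) (kd xd24 yd8 zd14) (kd xd31 yd25 zd55) (kd xd16 yd56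 zd55) (kd xd20 yd35 zd52) (kd xd29 yd27 zd6) (kd xd23 yd53 zd28) (kd xd16 yd56 zd58) (kd xd25 yd46 zd49) (kd xd24 yd5 zd30) (kd xd22 yd47 zd32) (kd xd16 yd57 zd6) (kd xd26 yd28 zd33) (kd xd17 yd58 zd8) (kd xd16 yd57 zd17) (kd xd29 yd24 zd15) (kd xd29 yd12 zd58) (kd xd16 yd57 zd39) (kd xd17 yd2 zd6) (kd xd16 yd57 zd43) (kd xd16 yd57 zd44) (kd xd18 yd42 zd10) (kd xd26 yd40 zd12) (kd xd32 yd17 zd22) (kd xd16 yd57 zd57) (kd xd30 yd26 zd58) (kd xd16 yd57 zd59) (kd xd17 yd26 zd61) (kd xd32 yd17 zd23) (kd xd16 yd58 zd1) (kd xd29 yd5 zd50) (kd xd28 yd37 zd49) (kd xd31 yd51 zd59) (kd xd16 yd58 zd4) (kd xd32 yd17 zd26) (kd xd29 yd15 zd18) (kd xd27 yd44 zd15) (kd xd25 yd21 zd23) (kd xd29 yd14 zd24) (kd xd16 yd58 zd8) (kd xd27 yd37 zd1) (kd xd16 yd58 zd12) (kd xd32 yd17 zd32) (kd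 xd22 yd25 zd36) (kd xd28 yd31 zd10) (kd xd19 yd11 zd45) (kd xd22 yd6 zd53) (kd xd27 yd23 zd46) (kd xd31 yd18 zd6) (kd xd32 yd17 zd34) (kd xd27 yd19 zd27) (kd xd16 yd58 zd19) (kd xd32 yd17 zd25) (kd xd17 yd10 zd49) (kd xd19 yd39 zd55) (kd xd17 yd32 zd18) (kd xd23 yd58 zd39) (kd xd31 yd28 zd39) (kd xd24 yd21 zd40) (kd xd20 yd24 zd5)) (@D3.rec (fun _ => Pt) (kd xd31 yd47 zd41) (kd xd32 yd17 zd42) (kd xd16 yd58 zd24) (kd xd24 yd53 zd43) (kd xd16 yd58 zd27) (kd xd23 yd6 zd56) (kd xd29 yd8 zd30) (kd xd19 yd12 zd27) (kd xd16 yd58 zd29) (kd xd20 yd49 zd17) (kd xd16 yd58 zd30) (kd xd16 yd58 zd33) (kd xd31 yd5 zd55) (kd xd19 yd58 zd6) (kd xd16 yd58 zd36) (kd xd31 yd29 zd50) (kd xd16 yd58 zd38) (kd xd19 yd42 zd43) (kd xd19 yd47 zd18) (kd xd32 yd17 zd24) (kd xd16 yd58 zd60) (kd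 xd16 yd58 zd40) (kd xd20 yd58 zd38) (kd xd26 yd50 zd12) (kd xd16 yd58 zd44) (kd xd32 yd17 zd45) (kd xd32 yd17 zd48) (kd xd16 yd58 zd46) (kd xd20 yd54 zd16) (kd xd16 yd58 zd48) (kd xd16 yd59 zd0) (kd xd32 yd17 zd53) (kd xd16 yd58 zd51) (kd xd28 yd36 zd58) (kd xd16 yd58 zd53) (kd xd28 yd51 zd29) (kd xd32 yd17 zd54) (kd xd32 yd17 zd55) (kd xd29 yd15 zd17) (kd xd16 yd58 zd56) (kd xd20 yd1 zd46) (kd xd31 yd21 zd23) (kd xd20 yd1 zd47) (kd xd32 yd18 zd1) (kd xd24 yd49 zd46) (kd xd24 yd49 zd42) (kd xd27 yd37 zd2) (kd xd29 yd2 zd45) (kd xd29 yd2 zd46) (kd xd31 yd41 zd39) (kd xd29 yd2 zd51) (kd xd32 yd14 zd25) (kd xd16 yd59 zd4) (kd xd19 yd26 zd2) (kd xd31 yd33 zd28) (kd xd20 yd43 zd40) (kd xd24 yd20 zd45) (kd xd17 yd22 zd35) (kd xd31 yd10 zd23) (kd xd23 yd41 zd7) (kd xd23 yd41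 zd11) (kd xd18 yd50 zd61)) (@D3.rec (fun _ => Pt) (kd xd29 yd34 zd46) (kd xd23 yd39 zd2) (kd xd20 yd50 zd38) (kd xd16 yd59 zd21) (kd xd25 yd12 zd5) (kd xd16 yd59 zd25) (kd xd17 yd59 zd60) (kd xd28 yd1 zd9) (kd xd28 yd1 zd10) (kd xd25 yd16 zd35) (kd xd16 yd59 zd39) (kd xd22 yd22 zd36) (kd xd16 yd59 zd55) (kd xd17 yd9 zd27) (kd xd26 yd58 zd44) (kd xd23 yd36 zd32) (kd xd30 yd17 zd52) (kd xd24 yd15 zd21) (kd xd18 yd36 zd44) (kd xd19 yd59 zd0) (kd xd20 yd9 zd59) (kd xd20 yd14 zd20) (kd xd27 yd4 zd18) (kd xd17 yd0 zd15) (kd xd27 yd22 zd58) (kd xd17 yd48 zd31) (kd xd17 yd0 zd20) (kd xd21 yd15 zd40) (kd xd20 yd51 zd3) (kd xd17 yd0 zd25) (kd xd21 yd15 zd29) (kd xd17 yd0 zd26) (kd xd27 yd42 zd59) (kd xd27 yd5 zd31) (kd xd23 yd7 zd8) (kd xd17 yd0 zd28) (kd xd20 yd0 zd4) (kd xd17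 yd1 zd30) (kd xd20 yd34 zd4) (kd xd17 yd0 zd39) (kd xd26 yd29 zd35) (kd xd17 yd15 zd10) (kd xd17 yd0 zd41) (kd xd32 yd18 zd9) (kd xd17 yd0 zd43) (kd xd17 yd2 zd3) (kd xd17 yd0 zd45) (kd xd23 yd54 zd54) (kd xd28 yd50 zd14) (kd xd20 yd9 zd15) (kd xd32 yd11 zd51) (kd xd17 yd0 zd49) (kd xd17 yd0 zd50) (kd xd17 yd0 zd51) (kd xd28 yd51 zd16) (kd xd28 yd24 zd11) (kd xd17 yd27 zd17) (kd xd20 yd29 zd20) (kd xd17 yd1 zd21) (kd xd17 yd0 zd54) (kd xd17 yd27 zd15) (kd xd17 yd0 zd56)) (@D3.rec (fun _ => Pt) (kd xd17 yd0 zd57) (kd xd29 yd54 zd45) (kd xd17 yd0 zd58) (kd xd28 yd15 zd7) (kd xd26 yd49 zd43) (kd xd17 yd0 zd60) (kd xd17 yd0 zd61) (kd xd17 yd1 zd0) (kd xd26 yd28 zd58) (kd xd26 yd29 zd3) (kd xd17 yd1 zd2) (kd xd30 yd45 zd55) (kd xd22 yd51 zd20) (kd xd28 yd12 zd39) (kd xd19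 yd34 zd14) (kd xd20 yd33 zd6) (kd xd17 yd1 zd8) (kd xd29 yd40 zd13) (kd xd32 yd18 zd19) (kd xd17 yd1 zd10) (kd xd17 yd1 zd11) (kd xd25 yd59 zd42) (kd xd19 yd18 zd3) (kd xd26 yd25 zd60) (kd xd30 yd54 zd10) (kd xd32 yd7 zd57) (kd xd17 yd1 zd15) (kd xd32 yd18 zd22) (kd xd17 yd1 zd16) (kd xd17 yd1 zd17) (kd xd32 yd18 zd23) (kd xd17 yd1 zd18) (kd xd17 yd1 zd19) (kd xd17 yd1 zd40) (kd xd17 yd1 zd46) (kd xd29 yd54 zd38) (kd xd25 yd46 zd38) (kd xd20 yd50 zd49) (kd xd32 yd18 zd26) (kd xd20 yd31 zd0) (kd xd18 yd59 zd8) (kd xd21 yd11 zd33) (kd xd21 yd32 zd41) (kd xd20 yd7 zd55) (kd xd31 yd33 zd10) (kd xd17 yd1 zd42) (kd xd32 yd18 zd27) (kd xd28 yd39 zd6) (kd xd32 yd18 zd28) (kd xd32 yd11 zd54) (kd xd17 yd1 zd44) (kd xd23 yd57 zd45) (kd xd32 yd8 zd57) (kd xd25 yd59 zd26) (kd xd28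 yd38 zd19) (kd xd17 yd1 zd48) (kd xd32 yd9 zd22) (kd xd29 yd36 zd6) (kd xd29 yd34 zd17) (kd xd31 yd31 zd6) (kd xd17 yd1 zd52) (kd xd31 yd28 zd40)) (@D3.rec (fun _ => Pt) (kd xd19 yd27 zd31) (kd xd19 yd27 zd30) (kd xd31 yd55 zd37) (kd xd31 yd22 zd45) (kd xd17 yd1 zd54) (kd xd17 yd1 zd56) (kd xd30 yd25 zd37) (kd xd29 yd34 zd28) (kd xd32 yd18 zd33) (kd xd17 yd1 zd58) (kd xd31 yd21 zd44) (kd xd28 yd52 zd13) (kd xd17 yd1 zd60) (kd xd30 yd30 zd11) (kd xd20 yd48 zd51) (kd xd30 yd12 zd3) (kd xd17 yd1 zd61) (kd xd21 yd11 zd9) (kd xd23 yd45 zd29) (kd xd18 yd2 zd32) (kd xd28 yd23 zd13) (kd xd19 yd21 zd44) (kd xd23 yd47 zd46) (kd xd23 yd49 zd2) (kd xd17 yd20 zd54) (kd xd17 yd5 zd51) (kd xd30 yd38 zd49) (kd xd20 yd51 zd6) (kd xd20 yd51 zd7) (kd xd29 yd33 zd49) (kd xd32 yd12 zd17)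 (kd xd17 yd2 zd19) (kd xd21 yd1 zd28) (kd xd17 yd2 zd28) (kd xd17 yd2 zd29) (kd xd26 yd58 zd3) (kd xd32 yd18 zd45) (kd xd17 yd2 zd32) (kd xd17 yd2 zd36) (kd xd27 yd25 zd47) (kd xd30 yd58 zd20) (kd xd17 yd2 zd42) (kd xd17 yd2 zd51) (kd xd29 yd2 zd35) (kd xd26 yd3 zd34) (kd xd26 yd3 zd31) (kd xd17 yd53 zd54) (kd xd30 yd54 zd38) (kd xd17 yd2 zd57) (kd xd17 yd2 zd59) (kd xd26 yd58 zd41) (kd xd27 yd51 zd16) (kd xd17 yd3 zd1) (kd xd17 yd3 zd2) (kd xd17 yd59 zd61) (kd xd17 yd3 zd11) (kd xd17 yd3 zd12) (kd xd28 yd26 zd46) (kd xd27 yd8 zd2) (kd xd31 yd27 zd59) (kd xd30 yd54 zd12) (kd xd17 yd3 zd24)) (@D3.rec (fun _ => Pt) (kd xd21 yd0 zd12) (kd xd31 yd16 zd10) (kd xd26 yd43 zd12) (kd xd26 yd57 zd35) (kd xd29 yd18 zd14) (kd xd17 yd3 zd37) (kd xd28 yd27 zd32) (kd xd18 yd19 zd37)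 (kd xd20 yd7 zd52) (kd xd17 yd3 zd41) (kd xd26 yd23 zd5) (kd xd30 yd36 zd18) (kd xd18 yd59 zd11) (kd xd18 yd59 zd12) (kd xd20 yd10 zd49) (kd xd18 yd53 zd40) (kd xd29 yd31 zd56) (kd xd28 yd27 zd54) (kd xd17 yd3 zd48) (kd xd17 yd59 zd31) (kd xd17 yd3 zd56) (kd xd26 yd59 zd42) (kd xd22 yd37 zd0) (kd xd17 yd3 zd59) (kd xd26 yd59 zd30) (kd xd26 yd10 zd35) (kd xd17 yd4 zd26) (kd xd20 yd23 zd26) (kd xd22 yd4 zd10) (kd xd25 yd38 zd13) (kd xd30 yd41 zd36) (kd xd17 yd4 zd7) (kd xd31 yd57 zd27) (kd xd29 yd5 zd58) (kd xd17 yd4 zd15) (kd xd28 yd1 zd40) (kd xd21 yd6 zd54) (kd xd26 yd34 zd19) (kd xd17 yd4 zd17) (kd xd18 yd25 zd42) (kd xd17 yd4 zd20) (kd xd26 yd57 zd50) (kd xd26 yd52 zd10) (kd xd24 yd24 zd59) (kd xd26 yd55 zd14) (kd xd17 yd4 zd24) (kd xd20 yd14 zd30) (kd xd26 yd52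 zd12) (kd xd32 yd13 zd40) (kd xd17 yd4 zd33) (kd xd32 yd13 zd39) (kd xd17 yd4 zd38) (kd xd17 yd4 zd43) (kd xd17 yd9 zd38) (kd xd17 yd10 zd5) (kd xd30 yd11 zd29) (kd xd20 yd49 zd9) (kd xd30 yd11 zd30) (kd xd22 yd3 zd41) (kd xd17 yd9 zd60) (kd xd21 yd52 zd4) (kd xd27 yd3 zd39)) (@D3.rec (fun _ => Pt) (kd xd17 yd4 zd61) (kd xd26 yd46 zd30) (kd xd26 yd46 zd31) (kd xd17 yd5 zd1) (kd xd17 yd5 zd20) (kd xd17 yd5 zd24) (kd xd17 yd5 zd26) (kd xd23 yd47 zd51) (kd xd24 yd18 zd61) (kd xd21 yd51 zd23) (kd xd17 yd5 zd28) (kd xd25 yd17 zd19) (kd xd25 yd45 zd35) (kd xd27 yd20 zd40) (kd xd27 yd35 zd34) (kd xd17 yd5 zd37) (kd xd17 yd5 zd45) (kd xd17 yd5 zd46) (kd xd21 yd3 zd7) (kd xd26 yd4 zd29) (kd xd17 yd5 zd54) (kd xd20 yd55 zd44) (kd xd18 yd25 zd41) (kd xd20 yd55 zd45) (kd xd29 yd44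 zd56) (kd xd17 yd5 zd57) (kd xd28 yd40 zd49) (kd xd20 yd14 zd31) (kd xd27 yd43 zd4) (kd xd26 yd26 zd47) (kd xd26 yd58 zd24) (kd xd26 yd38 zd59) (kd xd26 yd38 zd58) (kd xd32 yd10 zd46) (kd xd28 yd39 zd57) (kd xd29 yd21 zd31) (kd xd27 yd12 zd12) (kd xd17 yd6 zd4) (kd xd18 yd24 zd55) (kd xd31 yd19 zd1) (kd xd27 yd13 zd49) (kd xd17 yd6 zd22) (kd xd26 yd58 zd21) (kd xd26 yd39 zd51) (kd xd26 yd39 zd52) (kd xd29 yd21 zd25) (kd xd17 yd6 zd31) (kd xd26 yd51 zd16) (kd xd30 yd29 zd57) (kd xd17 yd6 zd33) (kd xd17 yd6 zd34) (kd xd26 yd51 zd3) (kd xd17 yd6 zd35) (kd xd17 yd6 zd36) (kd xd18 yd12 zd55) (kd xd29 yd5 zd31) (kd xd27 yd22 zd27) (kd xd32 yd13 zd43) (kd xd17 yd6 zd48) (kd xd22 yd20 zd44) (kd xd32 yd8 zd3) (kd xd17 yd6 zd50))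
def f_d_27 : D2 → D3 → Pt := @D2.rec (fun _ => D3 → Pt) (@D3.rec (fun _ => Pt) (kd xd30 yd32 zd37) (kd xd28 yd10 zd58) (kd xd32 yd4 zd44) (kd xd17 yd6 zd53) (kd xd17 yd29 zd19) (kd xd26 yd40 zd61) (kd xd26 yd39 zd37) (kd xd20 yd58 zd48) (kd xd25 yd45 zd13) (kd xd30 yd17 zd27) (kd xd32 yd18 zd55) (kd xd31 yd31 zd35) (kd xd22 yd1 zd38) (kd xd17 yd6 zd60) (kd xd30 yd16 zd10) (kd xd32 yd14 zd18) (kd xd32 yd11 zd19) (kd xd28 yd56 zd30) (kd xd17 yd7 zd0) (kd xd30 yd16 zd8) (kd xd32 yd18 zd61) (kd xd26 yd36 zd25) (kd xd32 yd19 zd0) (kd xd32 yd19 zd1) (kd xd17 yd7 zd5) (kd xd32 yd11 zd42) (kd xd32 yd19 zd8) (kd xd17 yd7 zd7) (kd xd31 yd53 zd38) (kd xd32 yd19 zd10) (kd xd17 yd7 zd8) (kd xd17 yd7 zd10) (kd xd17 yd7 zd11) (kd xd20 yd39 zd6) (kd xd20 yd39 zd7) (kd xd29 yd42 zd7)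 (kd xd22 yd4 zd19) (kd xd20 yd39 zd3) (kd xd20 yd39 zd5) (kd xd32 yd19 zd18) (kd xd20 yd38 zd51) (kd xd31 yd48 zd7) (kd xd32 yd13 zd20) (kd xd22 yd4 zd24) (kd xd20 yd22 zd41) (kd xd28 yd1 zd17) (kd xd20 yd26 zd51) (kd xd24 yd22 zd31) (kd xd17 yd7 zd34) (kd xd30 yd3 zd19) (kd xd17 yd7 zd38) (kd xd23 yd57 zd39) (kd xd19 yd50 zd12) (kd xd20 yd52 zd39) (kd xd17 yd8 zd5) (kd xd29 yd24 zd38) (kd xd22 yd24 zd5) (kd xd20 yd54 zd11) (kd xd17 yd8 zd13) (kd xd31 yd52 zd61) (kd xd32 yd7 zd2) (kd xd17 yd8 zd15)) (@D3.rec (fun _ => Pt) (kd xd17 yd8 zd16) (kd xd31 yd9 zd14) (kd xd32 yd16 zd22) (kd xd25 yd40 zd21) (kd xd17 yd8 zd41) (kd xd28 yd25 zd19) (kd xd17 yd8 zd53) (kd xd26 yd34 zd24) (kd xd17 yd8 zd58) (kd xd25 yd43 zd4) (kd xd22 yd24 zd41) (kd xd17 yd8 zd60) (kd xd18 yd0 zd20)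 (kd xd18 yd0 zd15) (kd xd20 yd13 zd26) (kd xd17 yd9 zd8) (kd xd30 yd27 zd57) (kd xd22 yd58 zd59) (kd xd23 yd48 zd30) (kd xd26 yd29 zd9) (kd xd26 yd13 zd28) (kd xd18 yd13 zd50) (kd xd26 yd48 zd58) (kd xd25 yd39 zd8) (kd xd22 yd17 zd47) (kd xd27 yd38 zd4) (kd xd30 yd4 zd11) (kd xd22 yd4 zd35) (kd xd25 yd17 zd38) (kd xd27 yd54 zd54) (kd xd21 yd50 zd47) (kd xd21 yd5 zd52) (kd xd25 yd20 zd9) (kd xd24 yd52 zd19) (kd xd27 yd19 zd46) (kd xd17 yd10 zd12) (kd xd22 yd2 zd22) (kd xd22 yd2 zd23) (kd xd29 yd57 zd40) (kd xd23 yd44 zd15) (kd xd17 yd10 zd15) (kd xd31 yd28 zd55) (kd xd23 yd44 zd16) (kd xd24 yd16 zd28) (kd xd17 yd10 zd17) (kd xd21 yd17 zd11) (kd xd21 yd17 zd12) (kd xd22 yd45 zd21) (kd xd17 yd10 zd24) (kd xd17 yd10 zd25) (kd xd17 yd10 zd26) (kd xd21 yd16 zd21) (kd xd21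 yd16 zd22) (kd xd23 yd11 zd19) (kd xd21 yd16 zd20) (kd xd25 yd13 zd39) (kd xd17 yd10 zd30) (kd xd17 yd10 zd31) (kd xd17 yd10 zd32) (kd xd28 yd24 zd51) (kd xd17 yd10 zd34) (kd xd17 yd10 zd35)) (@D3.rec (fun _ => Pt) (kd xd19 yd7 zd16) (kd xd17 yd26 zd33) (kd xd17 yd26 zd35) (kd xd20 yd19 zd8) (kd xd18 yd31 zd25) (kd xd17 yd10 zd41) (kd xd28 yd38 zd7) (kd xd22 yd0 zd60) (kd xd30 yd30 zd28) (kd xd32 yd16 zd43) (kd xd18 yd47 zd55) (kd xd18 yd27 zd54) (kd xd30 yd21 zd49) (kd xd17 yd10 zd51) (kd xd17 yd28 zd41) (kd xd27 yd6 zd31) (kd xd17 yd10 zd55) (kd xd22 yd25 zd11) (kd xd17 yd10 zd58) (kd xd29 yd12 zd1) (kd xd23 yd28 zd12) (kd xd17 yd11 zd6) (kd xd18 yd46 zd55) (kd xd18 yd44 zd53) (kd xd23 yd48 zd60) (kd xd17 yd11 zd8) (kd xd17 yd21 zd30) (kd xd28 yd16 zd48) (kd xd17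 yd11 zd11) (kd xd29 yd1 zd26) (kd xd23 yd21 zd4) (kd xd24 yd44 zd40) (kd xd20 yd47 zd41) (kd xd20 yd44 zd20) (kd xd17 yd11 zd21) (kd xd19 yd53 zd0) (kd xd30 yd47 zd0) (kd xd17 yd11 zd27) (kd xd17 yd11 zd29) (kd xd19 yd36 zd47) (kd xd17 yd11 zd31) (kd xd20 yd11 zd47) (kd xd22 yd1 zd61) (kd xd22 yd46 zd30) (kd xd29 yd56 zd10) (kd xd17 yd11 zd41) (kd xd31 yd29 zd14) (kd xd17 yd25 zd32) (kd xd17 yd25 zd33) (kd xd32 yd19 zd36) (kd xd27 yd16 zd3) (kd xd27 yd16 zd4) (kd xd17 yd11 zd44) (kd xd17 yd26 zd30) (kd xd17 yd26 zd3) (kd xd25 yd27 zd47) (kd xd30 yd30 zd7) (kd xd17 yd11 zd46) (kd xd21 yd41 zd8) (kd xd32 yd19 zd39) (kd xd17 yd25 zd48) (kd xd31 yd35 zd57)) (@D3.rec (fun _ => Pt) (kd xd17 yd11 zd56) (kd xd32 yd19 zd42) (kd xd17 yd25 zd35) (kd xd23 yd9 zd29) (kd xd30 yd48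 zd16) (kd xd17 yd11 zd59) (kd xd31 yd26 zd24) (kd xd28 yd33 zd33) (kd xd30 yd16 zd24) (kd xd17 yd12 zd1) (kd xd28 yd48 zd54) (kd xd30 yd16 zd4) (kd xd25 yd59 zd40) (kd xd18 yd54 zd37) (kd xd29 yd50 zd15) (kd xd25 yd11 zd29) (kd xd17 yd12 zd12) (kd xd21 yd35 zd36) (kd xd17 yd12 zd16) (kd xd30 yd31 zd26) (kd xd27 yd21 zd17) (kd xd23 yd25 zd17) (kd xd30 yd3 zd2) (kd xd17 yd12 zd25) (kd xd17 yd33 zd47) (kd xd20 yd59 zd44) (kd xd24 yd2 zd54) (kd xd31 yd44 zd8) (kd xd27 yd9 zd18) (kd xd20 yd3 zd8) (kd xd17 yd12 zd48) (kd xd17 yd12 zd49) (kd xd22 yd24 zd7) (kd xd26 yd48 zd50) (kd xd20 yd34 zd37) (kd xd27 yd9 zd49) (kd xd27 yd59 zd41) (kd xd25 yd20 zd43) (kd xd17 yd50 zd53) (kd xd26 yd58 zd61) (kd xd18 yd10 zd24) (kd xd18 yd15 zd17) (kd xd20 yd51 zd9) (kd xd32 yd15 zd51) (kd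 xd18 yd36 zd53) (kd xd27 yd46 zd33) (kd xd27 yd59 zd10) (kd xd30 yd52 zd11) (kd xd17 yd13 zd29) (kd xd27 yd38 zd35) (kd xd30 yd23 zd54) (kd xd19 yd17 zd8) (kd xd18 yd57 zd11) (kd xd30 yd7 zd55) (kd xd17 yd13 zd35) (kd xd28 yd3 zd61) (kd xd27 yd46 zd32) (kd xd27 yd26 zd50) (kd xd29 yd17 zd23) (kd xd25 yd9 zd55) (kd xd17 yd13 zd41) (kd xd18 yd29 zd40)) (@D3.rec (fun _ => Pt) (kd xd27 yd43 zd38) (kd xd27 yd5 zd49) (kd xd29 yd27 zd56) (kd xd30 yd3 zd26) (kd xd27 yd56 zd49) (kd xd25 yd15 zd8) (kd xd25 yd15 zd4) (kd xd29 yd16 zd60) (kd xd17 yd13 zd51) (kd xd24 yd35 zd35) (kd xd27 yd37 zd40) (kd xd24 yd35 zd36) (kd xd29 yd43 zd42) (kd xd25 yd54 zd23) (kd xd31 yd40 zd56) (kd xd31 yd34 zd45) (kd xd30 yd7 zd54) (kd xd29 yd22 zd41) (kd xd26 yd55 zd22) (kd xd18 yd26 zd16) (kd xd21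 yd30 zd22) (kd xd25 yd44 zd46) (kd xd27 yd48 zd16) (kd xd17 yd14 zd11) (kd xd17 yd14 zd12) (kd xd29 yd57 zd54) (kd xd23 yd26 zd9) (kd xd30 yd0 zd40) (kd xd32 yd19 zd49) (kd xd17 yd14 zd14) (kd xd29 yd58 zd25) (kd xd17 yd14 zd16) (kd xd23 yd44 zd58) (kd xd22 yd46 zd11) (kd xd28 yd4 zd0) (kd xd28 yd4 zd3) (kd xd31 yd7 zd56) (kd xd28 yd40 zd55) (kd xd17 yd14 zd19) (kd xd32 yd19 zd52) (kd xd21 yd28 zd15) (kd xd29 yd51 zd32) (kd xd19 yd48 zd24) (kd xd17 yd14 zd21) (kd xd17 yd14 zd22) (kd xd17 yd14 zd31) (kd xd17 yd14 zd32) (kd xd28 yd2 zd58) (kd xd17 yd14 zd36) (kd xd24 yd18 zd20) (kd xd20 yd34 zd30) (kd xd27 yd18 zd39) (kd xd27 yd18 zd40) (kd xd30 yd1 zd34) (kd xd17 yd14 zd42) (kd xd29 yd57 zd0) (kd xd28 yd47 zd46) (kd xd30 yd13 zd30) (kd xd28 yd52 zd53) (kd xd19 yd26 zd49)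 (kd xd17 yd14 zd47) (kd xd30 yd7 zd52)) (@D3.rec (fun _ => Pt) (kd xd17 yd14 zd48) (kd xd31 yd49 zd39) (kd xd28 yd34 zd47) (kd xd30 yd19 zd47) (kd xd17 yd15 zd33) (kd xd24 yd25 zd24) (kd xd17 yd14 zd61) (kd xd24 yd30 zd20) (kd xd29 yd38 zd9) (kd xd17 yd15 zd3) (kd xd20 yd34 zd3) (kd xd26 yd52 zd2) (kd xd28 yd45 zd53) (kd xd26 yd26 zd41) (kd xd29 yd40 zd12) (kd xd17 yd15 zd8) (kd xd32 yd9 zd21) (kd xd29 yd38 zd12) (kd xd20 yd20 zd59) (kd xd20 yd20 zd60) (kd xd30 yd2 zd61) (kd xd17 yd15 zd20) (kd xd30 yd54 zd42) (kd xd21 yd10 zd35) (kd xd27 yd57 zd40) (kd xd17 yd15 zd26) (kd xd17 yd15 zd27) (kd xd29 yd29 zd54) (kd xd20 yd26 zd24) (kd xd31 yd27 zd48) (kd xd17 yd15 zd29) (kd xd26 yd55 zd33) (kd xd17 yd15 zd34) (kd xd28 yd0 zd58) (kd xd28 yd23 zd2) (kd xd17 yd15 zd36) (kd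 xd17 yd15 zd38) (kd xd29 yd18 zd42) (kd xd29 yd14 zd45) (kd xd32 yd19 zd59) (kd xd17 yd15 zd41) (kd xd17 yd15 zd56) (kd xd28 yd1 zd18) (kd xd18 yd10 zd15) (kd xd27 yd25 zd56) (kd xd30 yd4 zd1) (kd xd30 yd4 zd2) (kd xd26 yd17 zd4) (kd xd17 yd16 zd5) (kd xd27 yd4 zd1) (kd xd23 yd22 zd8) (kd xd30 yd3 zd46) (kd xd29 yd42 zd24) (kd xd24 yd43 zd45) (kd xd18 yd57 zd33) (kd xd31 yd32 zd24) (kd xd28 yd0 zd25) (kd xd18 yd0 zd51) (kd xd17 yd19 zd40) (kd xd26 yd6 zd18) (kd xd32 yd19 zd61) (kd xd32 yd19 zd35)) (@D3.rec (fun _ => Pt) (kd xd31 yd20 zd11) (kd xd31 yd20 zd10) (kd xd17 yd16 zd23) (kd xd27 yd38 zd34) (kd xd27 yd43 zd34) (kd xd17 yd16 zd30) (kd xd28 yd6 zd5) (kd xd17 yd16 zd43) (kd xd21 yd38 zd42) (kd xd26 yd33 zd49) (kd xd18 yd51 zd57) (kd xd17 yd16 zd47) (kd xd21 yd31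 zd46) (kd xd30 yd17 zd2) (kd xd25 yd29 zd44) (kd xd31 yd45 zd40) (kd xd31 yd49 zd33) (kd xd17 yd16 zd53) (kd xd18 yd1 zd45) (kd xd21 yd19 zd59) (kd xd25 yd26 zd14) (kd xd21 yd21 zd7) (kd xd25 yd43 zd37) (kd xd17 yd16 zd59) (kd xd28 yd23 zd18) (kd xd25 yd54 zd48) (kd xd17 yd17 zd2) (kd xd17 yd17 zd3) (kd xd27 yd9 zd6) (kd xd17 yd21 zd7) (kd xd22 yd25 zd44) (kd xd27 yd2 zd15) (kd xd29 yd7 zd55) (kd xd17 yd17 zd10) (kd xd17 yd17 zd11) (kd xd20 yd44 zd15) (kd xd24 yd15 zd23) (kd xd17 yd17 zd14) (kd xd25 yd57 zd21) (kd xd25 yd56 zd54) (kd xd21 yd42 zd56) (kd xd18 yd56 zd57) (kd xd32 yd19 zd26) (kd xd24 yd1 zd32) (kd xd32 yd19 zd25) (kd xd19 yd30 zd21) (kd xd32 yd19 zd33) (kd xd22 yd6 zd36) (kd xd27 yd8 zd46) (kd xd30 yd21 zd52) (kd xd17 yd17 zd24) (kd xd17 yd24 zd30) (kd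 xd27 yd10 zd30) (kd xd24 yd29 zd46) (kd xd24 yd29 zd45) (kd xd22 yd25 zd50) (kd xd27 yd6 zd61) (kd xd29 yd48 zd17) (kd xd18 yd53 zd4) (kd xd24 yd1 zd47) (kd xd20 yd53 zd4) (kd xd27 yd6 zd56)) (@D3.rec (fun _ => Pt) (kd xd30 yd5 zd52) (kd xd27 yd8 zd60) (kd xd18 yd59 zd28) (kd xd32 yd20 zd28) (kd xd28 yd50 zd31) (kd xd27 yd7 zd25) (kd xd28 yd16 zd35) (kd xd27 yd7 zd14) (kd xd32 yd20 zd22) (kd xd32 yd20 zd37) (kd xd32 yd20 zd38) (kd xd27 yd8 zd61) (kd xd21 yd38 zd43) (kd xd21 yd38 zd33) (kd xd27 yd7 zd7) (kd xd32 yd20 zd41) (kd xd30 yd25 zd42) (kd xd27 yd13 zd59) (kd xd17 yd17 zd43) (kd xd27 yd9 zd22) (kd xd24 yd15 zd38) (kd xd24 yd15 zd37) (kd xd31 yd51 zd9) (kd xd27 yd12 zd24) (kd xd21 yd39 zd9) (kd xd27 yd7 zd5) (kd xd29 yd48 zd20) (kd xd18 yd53 zd7) (kd xd30 yd0 zd17)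 (kd xd17 yd17 zd53) (kd xd24 yd14 zd29) (kd xd20 yd34 zd16) (kd xd20 yd58 zd28) (kd xd19 yd13 zd0) (kd xd30 yd16 zd5) (kd xd20 yd57 zd54) (kd xd17 yd17 zd57) (kd xd28 yd58 zd20) (kd xd26 yd42 zd28) (kd xd30 yd55 zd3) (kd xd17 yd17 zd61) (kd xd21 yd21 zd36) (kd xd17 yd26 zd21) (kd xd17 yd18 zd5) (kd xd31 yd53 zd2) (kd xd23 yd17 zd18) (kd xd17 yd18 zd1) (kd xd32 yd21 zd4) (kd xd23 yd17 zd23) (kd xd17 yd18 zd2) (kd xd32 yd1 zd50) (kd xd17 yd18 zd3) (kd xd21 yd27 zd1) (kd xd21 yd27 zd2) (kd xd28 yd40 zd59) (kd xd30 yd56 zd31) (kd xd31 yd55 zd22) (kd xd31 yd20 zd28) (kd xd17 yd18 zd12) (kd xd17 yd18 zd13) (kd xd17 yd18 zd14) (kd xd17 yd18 zd15)) (@D3.rec (fun _ => Pt) (kd xd30 yd20 zd23) (kd xd23 yd58 zd8) (kd xd26 yd57 zd58) (kd xd18 yd14 zd8) (kd xd23 yd47 zd15) (kd xd26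 yd45 zd7) (kd xd28 yd42 zd58) (kd xd17 yd18 zd22) (kd xd25 yd40 zd35) (kd xd27 yd8 zd44) (kd xd18 yd48 zd49) (kd xd30 yd6 zd30) (kd xd28 yd40 zd39) (kd xd17 yd18 zd30) (kd xd22 yd25 zd49) (kd xd17 yd18 zd33) (kd xd30 yd46 zd38) (kd xd29 yd29 zd51) (kd xd29 yd29 zd41) (kd xd27 yd59 zd6) (kd xd17 yd18 zd35) (kd xd26 yd52 zd60) (kd xd32 yd21 zd17) (kd xd17 yd18 zd38) (kd xd27 yd9 zd5) (kd xd30 yd29 zd41) (kd xd30 yd14 zd48) (kd xd27 yd55 zd56) (kd xd32 yd16 zd53) (kd xd27 yd44 zd14) (kd xd30 yd28 zd21) (kd xd31 yd19 zd51) (kd xd23 yd22 zd7) (kd xd30 yd28 zd37) (kd xd17 yd18 zd45) (kd xd30 yd39 zd1) (kd xd25 yd51 zd33) (kd xd25 yd51 zd34) (kd xd29 yd45 zd56) (kd xd17 yd18 zd47) (kd xd31 yd22 zd35) (kd xd32 yd2 zd1) (kd xd17 yd18 zd51) (kd xd17 yd18 zd52) (kd xd27 yd8 zd9)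 (kd xd28 yd2 zd44) (kd xd27 yd6 zd48) (kd xd17 yd18 zd54) (kd xd24 yd25 zd60) (kd xd17 yd18 zd56) (kd xd22 yd40 zd30) (kd xd30 yd21 zd50) (kd xd17 yd27 zd4) (kd xd22 yd40 zd8) (kd xd23 yd48 zd54) (kd xd22 yd41 zd33) (kd xd29 yd48 zd19) (kd xd17 yd18 zd59) (kd xd23 yd46 zd31) (kd xd32 yd21 zd29) (kd xd27 yd7 zd1) (kd xd27 yd7 zd11)) (@D3.rec (fun _ => Pt) (kd xd17 yd19 zd7) (kd xd17 yd19 zd8) (kd xd17 yd19 zd13) (kd xd17 yd19 zd15) (kd xd17 yd19 zd19) (kd xd27 yd8 zd24) (kd xd27 yd6 zd28) (kd xd18 yd49 zd4) (kd xd23 yd47 zd16) (kd xd28 yd49 zd28) (kd xd21 yd36 zd58) (kd xd17 yd19 zd30) (kd xd17 yd19 zd34) (kd xd18 yd13 zd56) (kd xd21 yd37 zd36) (kd xd17 yd19 zd37) (kd xd18 yd21 zd19) (kd xd18 yd21 zd18) (kd xd27 yd3 zd28) (kd xd21 yd59 zd7) (kd xd17 yd19 zd41) (kd xd17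 yd19 zd46) (kd xd27 yd7 zd19) (kd xd28 yd32 zd31) (kd xd28 yd27 zd19) (kd xd17 yd19 zd50) (kd xd23 yd1 zd39) (kd xd21 yd2 zd52) (kd xd17 yd19 zd54) (kd xd17 yd19 zd55) (kd xd30 yd28 zd29) (kd xd29 yd51 zd59) (kd xd17 yd19 zd58) (kd xd28 yd32 zd35) (kd xd17 yd19 zd59) (kd xd28 yd17 zd3) (kd xd18 yd21 zd59) (kd xd17 yd19 zd61) (kd xd17 yd20 zd0) (kd xd28 yd0 zd28) (kd xd25 yd53 zd26) (kd xd17 yd20 zd3) (kd xd26 yd25 zd4) (kd xd32 yd21 zd33) (kd xd17 yd20 zd5) (kd xd21 yd40 zd5) (kd xd20 yd36 zd10) (kd xd28 yd17 zd0) (kd xd27 yd58 zd45) (kd xd27 yd3 zd35) (kd xd29 yd29 zd18) (kd xd17 yd20 zd8) (kd xd17 yd20 zd10) (kd xd32 yd21 zd36) (kd xd22 yd37 zd53) (kd xd31 yd45 zd28) (kd xd27 yd19 zd41) (kd xd32 yd3 zd6) (kd xd25 yd6 zd37) (kd xd17 yd20 zd17) (kd xd18 yd15 zd55) (kd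 xd21 yd53 zd26)) (@D3.rec (fun _ => Pt) (kd xd27 yd14 zd60) (kd xd28 yd34 zd9) (kd xd32 yd21 zd39) (kd xd28 yd51 zd57) (kd xd28 yd51 zd58) (kd xd30 yd5 zd40) (kd xd18 yd38 zd46) (kd xd25 yd30 zd53) (kd xd30 yd15 zd11) (kd xd25 yd34 zd18) (kd xd28 yd32 zd25) (kd xd28 yd15 zd58) (kd xd29 yd38 zd22) (kd xd30 yd18 zd47) (kd xd28 yd35 zd52) (kd xd17 yd20 zd32) (kd xd30 yd35 zd6) (kd xd17 yd20 zd34) (kd xd29 yd1 zd59) (kd xd17 yd20 zd35) (kd xd17 yd20 zd39) (kd xd28 yd41 zd21) (kd xd21 yd59 zd37) (kd xd17 yd20 zd41) (kd xd23 yd55 zd42) (kd xd24 yd21 zd51) (kd xd20 yd27 zd2) (kd xd30 yd17 zd28) (kd xd17 yd20 zd47) (kd xd17 yd20 zd48) (kd xd27 yd6 zd52) (kd xd20 yd34 zd22) (kd xd27 yd22 zd43) (kd xd25 yd18 zd48) (kd xd20 yd31 zd15) (kd xd17 yd20 zd56) (kd xd18 yd41 zd60) (kd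 xd17 yd20 zd59) (kd xd17 yd20 zd60) (kd xd22 yd16 zd11) (kd xd24 yd25 zd26) (kd xd31 yd20 zd16) (kd xd17 yd21 zd4) (kd xd30 yd23 zd35) (kd xd32 yd15 zd4) (kd xd25 yd51 zd5) (kd xd21 yd8 zd3) (kd xd20 yd52 zd53) (kd xd20 yd52 zd54) (kd xd29 yd28 zd1) (kd xd24 yd26 zd53) (kd xd25 yd7 zd56) (kd xd17 yd21 zd16) (kd xd17 yd21 zd17) (kd xd28 yd39 zd32) (kd xd17 yd21 zd26) (kd xd29 yd59 zd0) (kd xd20 yd39 zd23) (kd xd28 yd52 zd2) (kd xd25 yd29 zd16) (kd xd25 yd29 zd17) (kd xd21 yd42 zd61)) (@D3.rec (fun _ => Pt) (kd xd17 yd21 zd37) (kd xd21 yd18 zd51) (kd xd21 yd8 zd19) (kd xd25 yd54 zd28) (kd xd25 yd53 zd59) (kd xd30 yd11 zd5) (kd xd17 yd21 zd40) (kd xd19 yd24 zd49) (kd xd17 yd21 zd42) (kd xd30 yd11 zd7) (kd xd24 yd23 zd31) (kd xd17 yd21 zd52) (kd xd24 yd7 zd5) (kd xd17 yd21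 zd54) (kd xd20 yd23 zd53) (kd xd17 yd21 zd58) (kd xd22 yd1 zd13) (kd xd17 yd21 zd59) (kd xd18 yd49 zd3) (kd xd24 yd2 zd6) (kd xd31 yd45 zd50) (kd xd31 yd22 zd18) (kd xd28 yd48 zd30) (kd xd28 yd48 zd29) (kd xd28 yd48 zd16) (kd xd17 yd22 zd7) (kd xd32 yd21 zd46) (kd xd17 yd22 zd9) (kd xd26 yd41 zd55) (kd xd26 yd41 zd56) (kd xd17 yd22 zd10) (kd xd22 yd11 zd34) (kd xd20 yd42 zd21) (kd xd24 yd35 zd0) (kd xd30 yd19 zd36) (kd xd21 yd50 zd59) (kd xd27 yd20 zd2) (kd xd17 yd22 zd15) (kd xd21 yd46 zd10) (kd xd17 yd22 zd21) (kd xd17 yd22 zd22) (kd xd17 yd22 zd23) (kd xd24 yd10 zd28) (kd xd32 yd19 zd9) (kd xd17 yd22 zd25) (kd xd18 yd22 zd44) (kd xd18 yd54 zd16) (kd xd17 yd22 zd29) (kd xd21 yd0 zd30) (kd xd17 yd22 zd30) (kd xd31 yd41 zd52) (kd xd17 yd22 zd36) (kd xd19 yd46 zd51)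 (kd xd19 yd43 zd42) (kd xd17 yd22 zd37) (kd xd27 yd42 zd53) (kd xd30 yd29 zd60) (kd xd17 yd22 zd41) (kd xd20 yd54 zd21) (kd xd26 yd42 zd35) (kd xd19 yd53 zd18) (kd xd31 yd56 zd53)) (@D3.rec (fun _ => Pt) (kd xd28 yd51 zd52) (kd xd17 yd22 zd44) (kd xd17 yd22 zd45) (kd xd26 yd9 zd47) (kd xd17 yd22 zd48) (kd xd28 yd51 zd28) (kd xd29 yd13 zd1) (kd xd29 yd13 zd2) (kd xd17 yd22 zd51) (kd xd31 yd41 zd51) (kd xd28 yd19 zd58) (kd xd17 yd22 zd56) (kd xd26 yd59 zd36) (kd xd17 yd22 zd60) (kd xd18 yd17 zd25) (kd xd30 yd47 zd48) (kd xd17 yd23 zd0) (kd xd25 yd46 zd52) (kd xd27 yd14 zd21) (kd xd17 yd23 zd6) (kd xd17 yd23 zd8) (kd xd32 yd21 zd57) (kd xd17 yd23 zd10) (kd xd18 yd11 zd42) (kd xd27 yd7 zd23) (kd xd19 yd18 zd12) (kd xd25 yd53 zd17) (kd xd18 yd38 zd1) (kd xd30 yd38 zd36)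 (kd xd24 yd38 zd51) (kd xd26 yd27 zd16) (kd xd24 yd44 zd20) (kd xd22 yd5 zd32) (kd xd17 yd23 zd32) (kd xd17 yd23 zd33) (kd xd31 yd27 zd36) (kd xd32 yd21 zd58) (kd xd17 yd23 zd36) (kd xd17 yd32 zd56) (kd xd20 yd44 zd36) (kd xd17 yd23 zd39) (kd xd17 yd23 zd40) (kd xd22 yd59 zd57) (kd xd29 yd39 zd12) (kd xd18 yd46 zd48) (kd xd27 yd37 zd26) (kd xd20 yd54 zd2) (kd xd26 yd5 zd33) (kd xd30 yd26 zd55) (kd xd22 yd5 zd41) (kd xd30 yd40 zd37) (kd xd29 yd59 zd28) (kd xd17 yd23 zd49) (kd xd20 yd20 zd33) (kd xd31 yd34 zd39) (kd xd29 yd39 zd13) (kd xd30 yd40 zd36) (kd xd23 yd59 zd22) (kd xd17 yd23 zd52) (kd xd17 yd23 zd53) (kd xd31 yd27 zd20) (kd xd23 yd14 zd47)) (@D3.rec (fun _ => Pt) (kd xd17 yd23 zd57) (kd xd31 yd54 zd54) (kd xd17 yd23 zd58) (kd xd31 yd27 zd35) (kd xd20 yd47 zd58)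 (kd xd30 yd21 zd53) (kd xd17 yd24 zd2) (kd xd17 yd24 zd4) (kd xd19 yd49 zd39) (kd xd20 yd43 zd10) (kd xd29 yd34 zd41) (kd xd17 yd32 zd29) (kd xd19 yd26 zd1) (kd xd25 yd30 zd54) (kd xd20 yd50 zd40) (kd xd20 yd40 zd14) (kd xd32 yd22 zd6) (kd xd17 yd24 zd14) (kd xd32 yd22 zd7) (kd xd17 yd32 zd4) (kd xd17 yd32 zd28) (kd xd17 yd31 zd57) (kd xd32 yd22 zd4) (kd xd17 yd24 zd16) (kd xd29 yd28 zd36) (kd xd17 yd24 zd18) (kd xd17 yd29 zd58) (kd xd30 yd5 zd31) (kd xd20 yd20 zd2) (kd xd19 yd52 zd21) (kd xd17 yd24 zd23) (kd xd21 yd16 zd40) (kd xd22 yd40 zd28) (kd xd23 yd48 zd56) (kd xd22 yd50 zd39) (kd xd28 yd22 zd26) (kd xd17 yd24 zd27) (kd xd26 yd6 zd4) (kd xd17 yd24 zd28) (kd xd17 yd25 zd51) (kd xd22 yd13 zd36) (kd xd30 yd7 zd1) (kd xd32 yd20 zd20) (kd xd19 yd18 zd10) (kd xd17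 yd24 zd34) (kd xd31 yd24 zd15) (kd xd17 yd24 zd38) (kd xd30 yd21 zd24) (kd xd17 yd24 zd39) (kd xd26 yd59 zd40) (kd xd17 yd24 zd40) (kd xd30 yd36 zd50) (kd xd32 yd14 zd17) (kd xd17 yd24 zd42) (kd xd20 yd55 zd8) (kd xd25 yd25 zd11) (kd xd23 yd38 zd9) (kd xd29 yd45 zd57) (kd xd26 yd34 zd42) (kd xd27 yd7 zd17) (kd xd29 yd56 zd7) (kd xd26 yd36 zd57)) (@D3.rec (fun _ => Pt) (kd xd29 yd56 zd8) (kd xd32 yd4 zd5) (kd xd32 yd4 zd6) (kd xd17 yd24 zd49) (kd xd30 yd16 zd55) (kd xd17 yd24 zd51) (kd xd26 yd40 zd0) (kd xd26 yd22 zd58) (kd xd25 yd19 zd52) (kd xd19 yd50 zd54) (kd xd30 yd16 zd56) (kd xd18 yd55 zd53) (kd xd18 yd47 zd22) (kd xd32 yd22 zd22) (kd xd25 yd14 zd16) (kd xd30 yd16 zd54) (kd xd17 yd24 zd59) (kd xd28 yd19 zd35) (kd xd17 yd24 zd60) (kd xd25 yd10 zd5) (kd xd30 yd12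 zd19) (kd xd27 yd12 zd18) (kd xd30 yd12 zd20) (kd xd31 yd46 zd41) (kd xd17 yd25 zd4) (kd xd32 yd22 zd23) (kd xd29 yd37 zd21) (kd xd26 yd52 zd35) (kd xd31 yd32 zd6) (kd xd17 yd25 zd9) (kd xd23 yd0 zd17) (kd xd17 yd25 zd10) (kd xd32 yd15 zd55) (kd xd31 yd35 zd13) (kd xd31 yd35 zd12) (kd xd27 yd14 zd38) (kd xd17 yd26 zd17) (kd xd17 yd25 zd18) (kd xd27 yd14 zd35) (kd xd20 yd57 zd7) (kd xd25 yd26 zd47) (kd xd29 yd44 zd3) (kd xd29 yd24 zd41) (kd xd31 yd46 zd55) (kd xd19 yd32 zd7) (kd xd32 yd11 zd32) (kd xd31 yd47 zd32) (kd xd26 yd33 zd59) (kd xd29 yd46 zd56) (kd xd17 yd25 zd26) (kd xd18 yd22 zd42) (kd xd32 yd19 zd4) (kd xd18 yd21 zd12) (kd xd18 yd56 zd13) (kd xd30 yd44 zd14) (kd xd28 yd55 zd40) (kd xd17 yd25 zd31) (kd xd31 yd56 zd29) (kd xd24 yd23 zd10) (kd xd28 yd28 zd53)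 (kd xd27 yd10 zd0) (kd xd30 yd11 zd46)) (@D3.rec (fun _ => Pt) (kd xd27 yd59 zd61) (kd xd28 yd37 zd56) (kd xd28 yd3 zd40) (kd xd28 yd9 zd41) (kd xd27 yd34 zd7) (kd xd31 yd18 zd45) (kd xd24 yd40 zd38) (kd xd30 yd36 zd56) (kd xd17 yd25 zd46) (kd xd32 yd22 zd35) (kd xd32 yd20 zd3) (kd xd28 yd8 zd9) (kd xd32 yd22 zd37) (kd xd32 yd0 zd7) (kd xd31 yd48 zd57) (kd xd17 yd25 zd49) (kd xd32 yd22 zd39) (kd xd17 yd25 zd50) (kd xd32 yd9 zd9) (kd xd19 yd29 zd35) (kd xd32 yd20 zd18) (kd xd17 yd25 zd53) (kd xd32 yd22 zd45) (kd xd31 yd15 zd36) (kd xd25 yd30 zd51) (kd xd18 yd55 zd33) (kd xd32 yd2 zd32) (kd xd18 yd51 zd54) (kd xd24 yd46 zd0) (kd xd22 yd51 zd45) (kd xd27 yd32 zd11) (kd xd31 yd45 zd55) (kd xd31 yd45 zd52) (kd xd27 yd51 zd48) (kd xd27 yd58 zd61) (kd xd28 yd19 zd37) (kd xd17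 yd26 zd4) (kd xd28 yd49 zd21) (kd xd17 yd26 zd5) (kd xd24 yd16 zd47) (kd xd17 yd26 zd6) (kd xd19 yd28 zd12) (kd xd19 yd28 zd13) (kd xd25 yd11 zd36) (kd xd25 yd28 zd38) (kd xd29 yd37 zd40) (kd xd32 yd20 zd5) (kd xd17 yd26 zd12) (kd xd32 yd20 zd4) (kd xd24 yd38 zd61) (kd xd29 yd41 zd13) (kd xd17 yd26 zd13) (kd xd27 yd21 zd21) (kd xd17 yd26 zd14) (kd xd30 yd18 zd50) (kd xd20 yd50 zd37) (kd xd25 yd50 zd39) (kd xd23 yd9 zd42) (kd xd25 yd6 zd13) (kd xd24 yd58 zd22) (kd xd30 yd53 zd9) (kd xd17 yd26 zd19)) (@D3.rec (fun _ => Pt) (kd xd30 yd48 zd46) (kd xd32 yd22 zd56) (kd xd29 yd46 zd24) (kd xd27 yd2 zd50) (kd xd27 yd2 zd51) (kd xd32 yd23 zd0) (kd xd29 yd55 zd44) (kd xd17 yd26 zd23) (kd xd22 yd2 zd6) (kd xd29 yd48 zd61) (kd xd17 yd26 zd26) (kd xd28 yd29 zd28) (kd xd32 yd18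 zd56) (kd xd32 yd18 zd57) (kd xd17 yd26 zd27) (kd xd32 yd23 zd4) (kd xd19 yd25 zd43) (kd xd25 yd8 zd16) (kd xd17 yd26 zd31) (kd xd32 yd1 zd49) (kd xd24 yd38 zd56) (kd xd19 yd32 zd20) (kd xd17 yd26 zd34) (kd xd25 yd8 zd2) (kd xd25 yd26 zd45) (kd xd30 yd47 zd8) (kd xd17 yd26 zd36) (kd xd31 yd55 zd32) (kd xd32 yd11 zd7) (kd xd17 yd26 zd37) (kd xd32 yd3 zd59) (kd xd19 yd31 zd56) (kd xd26 yd34 zd5) (kd xd29 yd46 zd25) (kd xd32 yd22 zd32) (kd xd22 yd20 zd27) (kd xd17 yd26 zd45) (kd xd18 yd41 zd61) (kd xd31 yd33 zd34) (kd xd18 yd35 zd52) (kd xd23 yd56 zd7) (kd xd18 yd43 zd21) (kd xd28 yd36 zd7) (kd xd17 yd26 zd57) (kd xd18 yd11 zd49) (kd xd28 yd6 zd0) (kd xd32 yd23 zd17) (kd xd29 yd36 zd60) (kd xd17 yd26 zd60) (kd xd28 yd36 zd8) (kd xd31 yd27 zd29) (kd xd32 yd23 zd20) (kd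 xd31 yd56 zd4) (kd xd17 yd27 zd3) (kd xd18 yd45 zd3) (kd xd32 yd14 zd53) (kd xd25 yd49 zd9) (kd xd19 yd41 zd52) (kd xd32 yd23 zd23) (kd xd17 yd27 zd6) (kd xd20 yd42 zd44) (kd xd30 yd5 zd46)) (@D3.rec (fun _ => Pt) (kd xd26 yd41 zd36) (kd xd28 yd58 zd28) (kd xd25 yd56 zd45) (kd xd27 yd19 zd44) (kd xd17 yd27 zd11) (kd xd32 yd23 zd25) (kd xd17 yd27 zd13) (kd xd20 yd33 zd45) (kd xd18 yd21 zd33) (kd xd22 yd2 zd25) (kd xd20 yd55 zd34) (kd xd28 yd29 zd29) (kd xd28 yd29 zd27) (kd xd32 yd23 zd29) (kd xd31 yd45 zd24) (kd xd31 yd0 zd30) (kd xd17 yd27 zd19) (kd xd24 yd18 zd30) (kd xd31 yd36 zd49) (kd xd31 yd0 zd28) (kd xd17 yd27 zd23) (kd xd31 yd43 zd38) (kd xd22 yd2 zd17) (kd xd22 yd2 zd18) (kd xd28 yd58 zd57) (kd xd17 yd27 zd26) (kd xd21 yd0 zd38) (kd xd21 yd0 zd37) (kd xd26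 yd42 zd29) (kd xd24 yd51 zd21) (kd xd25 yd26 zd20) (kd xd27 yd29 zd22) (kd xd21 yd5 zd49) (kd xd28 yd58 zd25) (kd xd17 yd27 zd33) (kd xd31 yd20 zd1) (kd xd17 yd28 zd16) (kd xd22 yd1 zd43) (kd xd32 yd23 zd31) (kd xd17 yd28 zd25) (kd xd32 yd2 zd34) (kd xd17 yd27 zd40) (kd xd22 yd9 zd14) (kd xd30 yd4 zd30) (kd xd27 yd30 zd54) (kd xd17 yd27 zd42) (kd xd25 yd23 zd4) (kd xd31 yd3 zd56) (kd xd23 yd20 zd59) (kd xd17 yd27 zd43) (kd xd17 yd27 zd44) (kd xd25 yd59 zd4) (kd xd27 yd58 zd41) (kd xd17 yd27 zd47) (kd xd17 yd27 zd48) (kd xd17 yd27 zd49) (kd xd17 yd27 zd53) (kd xd17 yd27 zd54) (kd xd30 yd32 zd10) (kd xd25 yd36 zd5) (kd xd30 yd20 zd2) (kd xd22 yd28 zd60)) (@D3.rec (fun _ => Pt) (kd xd17 yd27 zd55) (kd xd21 yd55 zd51) (kd xd31 yd58 zd59) (kd xd17 yd27 zd58) (kd xd32 yd23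 zd43) (kd xd17 yd27 zd59) (kd xd17 yd27 zd60) (kd xd25 yd57 zd0) (kd xd25 yd30 zd10) (kd xd25 yd7 zd35) (kd xd30 yd13 zd6) (kd xd25 yd53 zd47) (kd xd25 yd27 zd13) (kd xd31 yd55 zd4) (kd xd17 yd28 zd2) (kd xd17 yd28 zd4) (kd xd25 yd30 zd27) (kd xd25 yd27 zd4) (kd xd21 yd18 zd14) (kd xd25 yd57 zd40) (kd xd23 yd39 zd48) (kd xd17 yd28 zd10) (kd xd29 yd11 zd21) (kd xd25 yd57 zd35) (kd xd24 yd39 zd60) (kd xd29 yd49 zd32) (kd xd31 yd13 zd1) (kd xd29 yd49 zd36) (kd xd31 yd54 zd4) (kd xd29 yd52 zd38) (kd xd29 yd52 zd36) (kd xd30 yd13 zd31) (kd xd32 yd16 zd12) (kd xd18 yd52 zd26) (kd xd24 yd39 zd59) (kd xd21 yd27 zd11) (kd xd21 yd34 zd15) (kd xd30 yd15 zd12) (kd xd30 yd47 zd9) (kd xd27 yd4 zd51) (kd xd27 yd4 zd52) (kd xd21 yd16 zd36) (kd xd30 yd9 zd50) (kd xd26 yd36 zd52) (kd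 xd29 yd16 zd38) (kd xd17 yd28 zd22) (kd xd32 yd23 zd57) (kd xd17 yd58 zd53) (kd xd17 yd28 zd23) (kd xd26 yd4 zd48) (kd xd20 yd58 zd58) (kd xd17 yd34 zd16) (kd xd21 yd17 zd9) (kd xd31 yd56 zd25) (kd xd22 yd7 zd30) (kd xd25 yd51 zd11) (kd xd17 yd28 zd54) (kd xd30 yd29 zd37) (kd xd19 yd3 zd11) (kd xd31 yd31 zd49) (kd xd22 yd41 zd34) (kd xd17 yd28 zd36)) (@D3.rec (fun _ => Pt) (kd xd17 yd28 zd38) (kd xd31 yd31 zd44) (kd xd31 yd22 zd42) (kd xd29 yd44 zd1) (kd xd32 yd11 zd41) (kd xd17 yd28 zd40) (kd xd30 yd28 zd47) (kd xd30 yd39 zd24) (kd xd30 yd39 zd23) (kd xd23 yd59 zd16) (kd xd17 yd28 zd43) (kd xd28 yd37 zd13) (kd xd23 yd55 zd22) (kd xd22 yd6 zd59) (kd xd26 yd37 zd56) (kd xd17 yd28 zd46) (kd xd32 yd13 zd34) (kd xd28 yd23 zd5) (kd xd18 yd55 zd50) (kd xd17 yd28 zd50) (kd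 xd17 yd29 zd3) (kd xd17 yd28 zd51) (kd xd17 yd28 zd52) (kd xd17 yd28 zd56) (kd xd20 yd23 zd58) (kd xd31 yd45 zd58) (kd xd30 yd28 zd14) (kd xd26 yd53 zd52) (kd xd32 yd24 zd7) (kd xd28 yd52 zd6) (kd xd21 yd1 zd1) (kd xd19 yd16 zd6) (kd xd25 yd11 zd59) (kd xd17 yd28 zd60) (kd xd17 yd29 zd7) (kd xd19 yd28 zd18) (kd xd26 yd34 zd26) (kd xd19 yd53 zd32) (kd xd25 yd7 zd14) (kd xd29 yd16 zd31) (kd xd17 yd29 zd5) (kd xd27 yd9 zd56) (kd xd31 yd26 zd50) (kd xd19 yd40 zd50) (kd xd27 yd17 zd3) (kd xd32 yd24 zd9) (kd xd27 yd1 zd34) (kd xd17 yd29 zd13) (kd xd29 yd23 zd30) (kd xd29 yd59 zd50) (kd xd20 yd16 zd6) (kd xd17 yd52 zd29) (kd xd21 yd23 zd45) (kd xd29 yd38 zd61) (kd xd30 yd14 zd26) (kd xd25 yd13 zd38) (kd xd27 yd20 zd44) (kd xd17 yd29 zd32) (kd xd25 yd12 zd50) (kd xd31 yd49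 zd10) (kd xd31 yd49 zd0) (kd xd25 yd24 zd31)) (@D3.rec (fun _ => Pt) (kd xd19 yd10 zd46) (kd xd21 yd9 zd60) (kd xd27 yd11 zd36) (kd xd17 yd35 zd13) (kd xd25 yd32 zd52) (kd xd25 yd35 zd40) (kd xd17 yd29 zd44) (kd xd17 yd29 zd53) (kd xd28 yd28 zd29) (kd xd30 yd45 zd44) (kd xd17 yd29 zd56) (kd xd17 yd30 zd15) (kd xd22 yd32 zd27) (kd xd21 yd47 zd5) (kd xd26 yd5 zd42) (kd xd17 yd30 zd1) (kd xd28 yd6 zd35) (kd xd17 yd30 zd4) (kd xd28 yd54 zd34) (kd xd26 yd42 zd22) (kd xd18 yd10 zd11) (kd xd21 yd16 zd18) (kd xd22 yd5 zd47) (kd xd18 yd13 zd57) (kd xd24 yd45 zd50) (kd xd28 yd6 zd45) (kd xd21 yd45 zd44) (kd xd25 yd45 zd61) (kd xd25 yd39 zd24) (kd xd21 yd31 zd9) (kd xd31 yd44 zd1) (kd xd17 yd30 zd25) (kd xd26 yd14 zd11) (kd xd28 yd1 zd47) (kd xd17 yd30 zd26) (kd xd22 yd8 zd52)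 (kd xd25 yd16 zd51) (kd xd27 yd56 zd17) (kd xd22 yd8 zd55) (kd xd28 yd3 zd1) (kd xd26 yd59 zd13) (kd xd17 yd30 zd42) (kd xd30 yd10 zd18) (kd xd20 yd2 zd51) (kd xd27 yd19 zd56) (kd xd26 yd21 zd50) (kd xd31 yd3 zd5) (kd xd29 yd11 zd8) (kd xd21 yd43 zd18) (kd xd31 yd24 zd3) (kd xd17 yd30 zd51) (kd xd17 yd30 zd52) (kd xd20 yd36 zd15) (kd xd23 yd49 zd50) (kd xd23 yd49 zd48) (kd xd32 yd5 zd33) (kd xd17 yd30 zd57) (kd xd22 yd3 zd29) (kd xd17 yd31 zd9) (kd xd17 yd31 zd10) (kd xd21 yd0 zd17) (kd xd17 yd31 zd14)) (@D3.rec (fun _ => Pt) (kd xd17 yd31 zd16) (kd xd21 yd5 zd53) (kd xd29 yd21 zd9) (kd xd20 yd42 zd49) (kd xd17 yd31 zd21) (kd xd24 yd39 zd47) (kd xd17 yd31 zd28) (kd xd24 yd5 zd51) (kd xd17 yd31 zd29) (kd xd29 yd25 zd45) (kd xd19 yd19 zd19) (kd xd20 yd13 zd24) (kd xd17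 yd31 zd34) (kd xd21 yd9 zd21) (kd xd24 yd7 zd4) (kd xd27 yd31 zd41) (kd xd17 yd31 zd45) (kd xd27 yd3 zd20) (kd xd29 yd36 zd46) (kd xd17 yd31 zd55) (kd xd22 yd11 zd21) (kd xd27 yd15 zd52) (kd xd20 yd48 zd44) (kd xd17 yd32 zd2) (kd xd18 yd35 zd57) (kd xd30 yd24 zd0) (kd xd29 yd24 zd27) (kd xd17 yd32 zd7) (kd xd24 yd7 zd14) (kd xd17 yd32 zd8) (kd xd31 yd45 zd46) (kd xd30 yd14 zd12) (kd xd29 yd41 zd51) (kd xd17 yd32 zd10) (kd xd26 yd44 zd24) (kd xd25 yd15 zd6) (kd xd27 yd24 zd0) (kd xd24 yd6 zd61) (kd xd17 yd32 zd22) (kd xd30 yd39 zd42) (kd xd17 yd32 zd27) (kd xd19 yd49 zd35) (kd xd22 yd13 zd10) (kd xd22 yd13 zd9) (kd xd22 yd14 zd29) (kd xd17 yd32 zd32) (kd xd20 yd3 zd53) (kd xd26 yd37 zd32) (kd xd29 yd35 zd29) (kd xd31 yd41 zd55) (kd xd24 yd7 zd54) (kd xd17 yd32 zd44)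 (kd xd27 yd29 zd25) (kd xd19 yd24 zd55) (kd xd25 yd2 zd9) (kd xd29 yd28 zd38) (kd xd29 yd58 zd46) (kd xd17 yd32 zd59) (kd xd28 yd55 zd50) (kd xd29 yd2 zd58) (kd xd23 yd24 zd1) (kd xd20 yd7 zd43)) (@D3.rec (fun _ => Pt) (kd xd20 yd9 zd14) (kd xd20 yd7 zd41) (kd xd17 yd33 zd61) (kd xd17 yd34 zd0) (kd xd22 yd4 zd39) (kd xd20 yd23 zd18) (kd xd29 yd52 zd39) (kd xd30 yd17 zd59) (kd xd28 yd4 zd2) (kd xd25 yd2 zd30) (kd xd17 yd33 zd27) (kd xd18 yd50 zd49) (kd xd19 yd22 zd31) (kd xd17 yd33 zd43) (kd xd21 yd27 zd58) (kd xd17 yd56 zd14) (kd xd17 yd33 zd40) (kd xd31 yd9 zd15) (kd xd24 yd43 zd49) (kd xd17 yd33 zd45) (kd xd30 yd18 zd6) (kd xd23 yd3 zd53) (kd xd32 yd24 zd19) (kd xd25 yd36 zd24) (kd xd17 yd33 zd52) (kd xd31 yd23 zd37) (kd xd28 yd16 zd52) (kd xd26 yd59 zd56) (kd xd18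 yd13 zd52) (kd xd17 yd33 zd54) (kd xd17 yd42 zd4) (kd xd17 yd33 zd57) (kd xd31 yd48 zd49) (kd xd21 yd55 zd13) (kd xd28 yd45 zd40) (kd xd17 yd34 zd1) (kd xd17 yd41 zd60) (kd xd17 yd41 zd61) (kd xd17 yd34 zd7) (kd xd28 yd20 zd42) (kd xd24 yd2 zd16) (kd xd25 yd22 zd2) (kd xd25 yd22 zd5) (kd xd27 yd10 zd32) (kd xd31 yd48 zd54) (kd xd19 yd11 zd26) (kd xd25 yd32 zd40) (kd xd29 yd17 zd45) (kd xd31 yd19 zd42) (kd xd25 yd22 zd4) (kd xd29 yd35 zd55) (kd xd25 yd19 zd28) (kd xd24 yd51 zd50) (kd xd26 yd34 zd18) (kd xd28 yd51 zd37) (kd xd18 yd44 zd24) (kd xd17 yd34 zd36) (kd xd18 yd0 zd24) (kd xd26 yd55 zd24) (kd xd23 yd2 zd49) (kd xd24 yd47 zd37) (kd xd20 yd18 zd35)) (@D3.rec (fun _ => Pt) (kd xd32 yd24 zd21) (kd xd23 yd52 zd38) (kd xd28 yd58 zd43) (kd xd17 yd35 zd8) (kd xd25 yd25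 zd49) (kd xd25 yd25 zd48) (kd xd17 yd34 zd59) (kd xd25 yd57 zd30) (kd xd32 yd24 zd23) (kd xd32 yd24 zd24) (kd xd17 yd35 zd1) (kd xd19 yd57 zd7) (kd xd24 yd5 zd15) (kd xd28 yd58 zd38) (kd xd17 yd35 zd5) (kd xd31 yd19 zd54) (kd xd32 yd24 zd27) (kd xd22 yd34 zd42) (kd xd17 yd35 zd12) (kd xd17 yd35 zd14) (kd xd30 yd19 zd51) (kd xd27 yd28 zd53) (kd xd31 yd55 zd55) (kd xd32 yd24 zd28) (kd xd17 yd35 zd23) (kd xd17 yd35 zd24) (kd xd25 yd50 zd54) (kd xd17 yd35 zd25) (kd xd32 yd24 zd32) (kd xd29 yd57 zd22) (kd xd17 yd35 zd26) (kd xd17 yd35 zd28) (kd xd22 yd8 zd61) (kd xd22 yd10 zd26) (kd xd29 yd52 zd18) (kd xd31 yd58 zd25) (kd xd30 yd11 zd10) (kd xd31 yd32 zd13) (kd xd20 yd36 zd24) (kd xd29 yd52 zd17) (kd xd23 yd55 zd0) (kd xd28 yd29 zd17) (kd xd25 yd25 zd1) (kd xd28 yd29 zd4)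 (kd xd28 yd29 zd5) (kd xd19 yd10 zd8) (kd xd26 yd53 zd49) (kd xd17 yd35 zd43) (kd xd17 yd35 zd44) (kd xd17 yd35 zd47) (kd xd32 yd24 zd37) (kd xd29 yd32 zd34) (kd xd22 yd26 zd1) (kd xd17 yd35 zd49) (kd xd24 yd16 zd53) (kd xd25 yd1 zd52) (kd xd25 yd46 zd7) (kd xd27 yd59 zd12) (kd xd25 yd46 zd9) (kd xd17 yd43 zd20) (kd xd22 yd45 zd30) (kd xd31 yd38 zd5)) (@D3.rec (fun _ => Pt) (kd xd27 yd21 zd36) (kd xd17 yd35 zd56) (kd xd19 yd57 zd0) (kd xd28 yd3 zd18) (kd xd25 yd9 zd1) (kd xd25 yd36 zd34) (kd xd23 yd10 zd37) (kd xd27 yd39 zd44) (kd xd17 yd36 zd6) (kd xd17 yd36 zd7) (kd xd29 yd16 zd3) (kd xd32 yd24 zd43) (kd xd32 yd1 zd21) (kd xd24 yd7 zd28) (kd xd32 yd24 zd45) (kd xd30 yd23 zd61) (kd xd17 yd36 zd9) (kd xd26 yd27 zd42) (kd xd19 yd57 zd17) (kd xd32 yd24 zd46) (kd xd17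 yd36 zd11) (kd xd29 yd16 zd2) (kd xd29 yd37 zd38) (kd xd17 yd36 zd13) (kd xd17 yd36 zd14) (kd xd32 yd0 zd33) (kd xd20 yd50 zd36) (kd xd18 yd5 zd43) (kd xd18 yd5 zd42) (kd xd31 yd0 zd50) (kd xd29 yd12 zd43) (kd xd31 yd6 zd1) (kd xd32 yd3 zd46) (kd xd30 yd32 zd36) (kd xd31 yd0 zd51) (kd xd17 yd36 zd23) (kd xd21 yd1 zd41) (kd xd25 yd32 zd45) (kd xd17 yd36 zd28) (kd xd17 yd36 zd43) (kd xd19 yd42 zd10) (kd xd32 yd24 zd49) (kd xd32 yd24 zd51) (kd xd24 yd58 zd59) (kd xd31 yd54 zd13) (kd xd27 yd45 zd21) (kd xd25 yd45 zd24) (kd xd17 yd36 zd36) (kd xd21 yd32 zd49) (kd xd30 yd17 zd3) (kd xd17 yd38 zd60) (kd xd17 yd37 zd33) (kd xd24 yd45 zd1) (kd xd17 yd36 zd40) (kd xd27 yd29 zd2) (kd xd25 yd15 zd47) (kd xd30 yd8 zd55) (kd xd27 yd28 zd47) (kd xd17 yd36 zd46) (kd xd17 yd36 zd60)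 (kd xd17 yd36 zd47) (kd xd27 yd26 zd29)) (@D3.rec (fun _ => Pt) (kd xd17 yd36 zd48) (kd xd20 yd3 zd51) (kd xd17 yd38 zd51) (kd xd17 yd39 zd18) (kd xd17 yd36 zd55) (kd xd26 yd4 zd11) (kd xd31 yd48 zd19) (kd xd17 yd36 zd56) (kd xd28 yd41 zd24) (kd xd28 yd2 zd0) (kd xd25 yd28 zd47) (kd xd17 yd36 zd59) (kd xd27 yd46 zd18) (kd xd17 yd39 zd19) (kd xd32 yd6 zd13) (kd xd17 yd37 zd1) (kd xd24 yd55 zd39) (kd xd26 yd4 zd8) (kd xd31 yd32 zd55) (kd xd27 yd27 zd16) (kd xd28 yd4 zd30) (kd xd28 yd4 zd24) (kd xd24 yd59 zd4) (kd xd17 yd37 zd7) (kd xd24 yd55 zd23) (kd xd17 yd37 zd8) (kd xd32 yd24 zd58) (kd xd29 yd37 zd46) (kd xd17 yd37 zd13) (kd xd24 yd49 zd14) (kd xd17 yd42 zd52) (kd xd23 yd12 zd55) (kd xd17 yd42 zd49) (kd xd26 yd20 zd46) (kd xd27 yd26 zd21) (kd xd24 yd45 zd30) (kd xd17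 yd37 zd23) (kd xd32 yd6 zd37) (kd xd17 yd37 zd50) (kd xd25 yd29 zd41) (kd xd17 yd54 zd0) (kd xd23 yd26 zd0) (kd xd17 yd37 zd34) (kd xd30 yd14 zd36) (kd xd31 yd37 zd57) (kd xd31 yd37 zd56) (kd xd30 yd14 zd21) (kd xd26 yd57 zd39) (kd xd19 yd15 zd31) (kd xd31 yd44 zd45) (kd xd17 yd37 zd44) (kd xd31 yd8 zd17) (kd xd27 yd52 zd31) (kd xd21 yd34 zd3) (kd xd29 yd23 zd54) (kd xd17 yd44 zd46) (kd xd27 yd5 zd44) (kd xd17 yd44 zd44) (kd xd27 yd50 zd29) (kd xd17 yd37 zd53) (kd xd21 yd37 zd9) (kd xd31 yd59 zd28)) (@D3.rec (fun _ => Pt) (kd xd23 yd43 zd3) (kd xd25 yd1 zd16) (kd xd17 yd37 zd55) (kd xd30 yd1 zd14) (kd xd17 yd39 zd4) (kd xd26 yd15 zd5) (kd xd22 yd27 zd56) (kd xd27 yd31 zd5) (kd xd23 yd43 zd60) (kd xd17 yd37 zd59) (kd xd28 yd2 zd32) (kd xd30 yd6 zd35) (kd xd30 yd6 zd34)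 (kd xd24 yd45 zd9) (kd xd24 yd45 zd10) (kd xd31 yd34 zd48) (kd xd17 yd38 zd1) (kd xd25 yd1 zd45) (kd xd17 yd38 zd3) (kd xd26 yd21 zd7) (kd xd17 yd38 zd4) (kd xd27 yd25 zd34) (kd xd32 yd25 zd4) (kd xd17 yd38 zd5) (kd xd23 yd20 zd33) (kd xd21 yd33 zd49) (kd xd28 yd2 zd22) (kd xd30 yd11 zd36) (kd xd26 yd16 zd34) (kd xd27 yd24 zd61) (kd xd22 yd4 zd43) (kd xd29 yd45 zd50) (kd xd17 yd39 zd21) (kd xd31 yd55 zd57) (kd xd26 yd19 zd53) (kd xd31 yd44 zd38) (kd xd30 yd49 zd19) (kd xd17 yd39 zd7) (kd xd17 yd43 zd26) (kd xd32 yd24 zd52) (kd xd17 yd38 zd33) (kd xd27 yd45 zd13) (kd xd18 yd8 zd41) (kd xd25 yd15 zd43) (kd xd17 yd38 zd39) (kd xd17 yd39 zd44) (kd xd26 yd15 zd20) (kd xd17 yd39 zd46) (kd xd18 yd4 zd49) (kd xd18 yd8 zd31) (kd xd27 yd3 zd57) (kd xd29 yd17 zd24) (kd xd17 yd38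 zd47) (kd xd24 yd45 zd29) (kd xd27 yd27 zd22) (kd xd29 yd11 zd36) (kd xd26 yd14 zd32) (kd xd31 yd8 zd27) (kd xd17 yd38 zd54) (kd xd17 yd38 zd58) (kd xd18 yd28 zd43) (kd xd31 yd55 zd48)) (@D3.rec (fun _ => Pt) (kd xd17 yd38 zd59) (kd xd17 yd39 zd3) (kd xd24 yd55 zd48) (kd xd17 yd42 zd47) (kd xd21 yd23 zd30) (kd xd31 yd37 zd8) (kd xd17 yd39 zd14) (kd xd23 yd42 zd25) (kd xd18 yd27 zd25) (kd xd24 yd55 zd15) (kd xd25 yd1 zd47) (kd xd25 yd1 zd43) (kd xd20 yd15 zd32) (kd xd24 yd31 zd36) (kd xd22 yd10 zd35) (kd xd24 yd55 zd14) (kd xd27 yd25 zd19) (kd xd32 yd24 zd50) (kd xd29 yd16 zd58) (kd xd25 yd3 zd28) (kd xd29 yd16 zd59) (kd xd21 yd42 zd6) (kd xd27 yd26 zd54) (kd xd31 yd49 zd58) (kd xd20 yd3 zd56) (kd xd24 yd16 zd26) (kd xd26 yd7 zd46) (kd xd26 yd26 zd31) (kd xd26 yd21 zd11)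 (kd xd30 yd25 zd7) (kd xd31 yd44 zd40) (kd xd17 yd39 zd51) (kd xd27 yd47 zd20) (kd xd18 yd27 zd29) (kd xd18 yd28 zd44) (kd xd17 yd39 zd60) (kd xd27 yd31 zd54) (kd xd17 yd40 zd1) (kd xd17 yd40 zd2) (kd xd28 yd44 zd2) (kd xd24 yd55 zd46) (kd xd30 yd23 zd31) (kd xd26 yd11 zd17) (kd xd17 yd44 zd31) (kd xd26 yd11 zd20) (kd xd26 yd16 zd5) (kd xd22 yd18 zd51) (kd xd27 yd31 zd46) (kd xd26 yd15 zd47) (kd xd29 yd54 zd15) (kd xd24 yd45 zd35) (kd xd17 yd40 zd16) (kd xd27 yd30 zd47) (kd xd17 yd41 zd16) (kd xd27 yd46 zd37) (kd xd30 yd20 zd30) (kd xd27 yd38 zd28) (kd xd25 yd15 zd56) (kd xd17 yd40 zd22) (kd xd25 yd1 zd13) (kd xd25 yd28 zd49) (kd xd17 yd40 zd43)) (@D3.rec (fun _ => Pt) (kd xd27 yd31 zd47) (kd xd31 yd14 zd47) (kd xd26 yd12 zd38) (kd xd27 yd28 zd59) (kd xd17 yd40 zd31)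 (kd xd17 yd40 zd35) (kd xd27 yd45 zd52) (kd xd31 yd12 zd0) (kd xd17 yd40 zd38) (kd xd24 yd45 zd17) (kd xd20 yd4 zd14) (kd xd24 yd45 zd37) (kd xd27 yd31 zd0) (kd xd27 yd30 zd61) (kd xd31 yd43 zd13) (kd xd17 yd44 zd28) (kd xd21 yd58 zd51) (kd xd24 yd55 zd36) (kd xd22 yd11 zd51) (kd xd17 yd45 zd25) (kd xd17 yd45 zd30) (kd xd27 yd31 zd6) (kd xd27 yd38 zd32) (kd xd26 yd16 zd25) (kd xd30 yd1 zd0) (kd xd29 yd39 zd18) (kd xd27 yd48 zd25) (kd xd18 yd5 zd1) (kd xd17 yd40 zd58) (kd xd25 yd53 zd54) (kd xd27 yd49 zd0) (kd xd32 yd25 zd15) (kd xd17 yd40 zd59) (kd xd28 yd10 zd29) (kd xd26 yd18 zd38) (kd xd19 yd0 zd39) (kd xd19 yd0 zd36) (kd xd22 yd15 zd17) (kd xd30 yd1 zd12) (kd xd17 yd41 zd9) (kd xd28 yd36 zd51) (kd xd30 yd0 zd59) (kd xd17 yd41 zd10) (kd xd31 yd11 zd43) (kd xd17 yd41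 zd11) (kd xd17 yd41 zd12) (kd xd26 yd12 zd20) (kd xd27 yd24 zd57) (kd xd21 yd55 zd2) (kd xd25 yd1 zd44) (kd xd31 yd34 zd16) (kd xd18 yd30 zd27) (kd xd17 yd41 zd22) (kd xd27 yd23 zd21) (kd xd17 yd41 zd23) (kd xd26 yd16 zd30) (kd xd26 yd16 zd33) (kd xd24 yd55 zd47) (kd xd24 yd53 zd6) (kd xd27 yd28 zd3) (kd xd31 yd39 zd0) (kd xd24 yd55 zd27)) (@D3.rec (fun _ => Pt) (kd xd17 yd42 zd43) (kd xd17 yd41 zd28) (kd xd27 yd24 zd54) (kd xd17 yd41 zd29) (kd xd17 yd41 zd32) (kd xd22 yd15 zd13) (kd xd17 yd41 zd33) (kd xd26 yd15 zd1) (kd xd17 yd41 zd34) (kd xd31 yd38 zd31) (kd xd31 yd38 zd32) (kd xd24 yd44 zd17) (kd xd17 yd41 zd47) (kd xd23 yd34 zd55) (kd xd20 yd5 zd16) (kd xd17 yd41 zd52) (kd xd31 yd40 zd61) (kd xd20 yd15 zd29) (kd xd31 yd26 zd19) (kd xd30 yd42 zd12) (kd xd20 yd2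 zd6) (kd xd20 yd44 zd55) (kd xd27 yd17 zd31) (kd xd17 yd42 zd1) (kd xd19 yd17 zd6) (kd xd27 yd21 zd52) (kd xd26 yd5 zd57) (kd xd25 yd9 zd29) (kd xd21 yd42 zd4) (kd xd31 yd24 zd36) (kd xd17 yd42 zd7) (kd xd24 yd50 zd25) (kd xd32 yd25 zd17) (kd xd17 yd42 zd12) (kd xd17 yd42 zd17) (kd xd17 yd47 zd13) (kd xd19 yd17 zd7) (kd xd27 yd38 zd26) (kd xd28 yd19 zd7) (kd xd18 yd37 zd8) (kd xd22 yd29 zd34) (kd xd23 yd49 zd46) (kd xd26 yd16 zd13) (kd xd21 yd30 zd53) (kd xd28 yd6 zd6) (kd xd27 yd55 zd1) (kd xd27 yd55 zd2) (kd xd17 yd42 zd35) (kd xd18 yd16 zd6) (kd xd17 yd42 zd37) (kd xd31 yd53 zd41) (kd xd17 yd50 zd40) (kd xd17 yd44 zd30) (kd xd17 yd42 zd46) (kd xd26 yd11 zd21) (kd xd22 yd9 zd37) (kd xd27 yd31 zd10) (kd xd32 yd23 zd26) (kd xd32 yd8 zd18) (kd xd26 yd15 zd59) (kd xd26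 yd15 zd60) (kd xd32 yd25 zd16)) (@D3.rec (fun _ => Pt) (kd xd30 yd23 zd24) (kd xd21 yd25 zd31) (kd xd27 yd47 zd5) (kd xd19 yd0 zd44) (kd xd31 yd43 zd48) (kd xd29 yd7 zd22) (kd xd17 yd43 zd6) (kd xd32 yd25 zd20) (kd xd17 yd43 zd7) (kd xd25 yd43 zd59) (kd xd29 yd59 zd35) (kd xd17 yd43 zd9) (kd xd25 yd11 zd5) (kd xd29 yd59 zd4) (kd xd17 yd43 zd10) (kd xd25 yd30 zd21) (kd xd22 yd47 zd47) (kd xd32 yd25 zd23) (kd xd18 yd1 zd59) (kd xd32 yd20 zd17) (kd xd19 yd56 zd58) (kd xd19 yd56 zd60) (kd xd25 yd33 zd52) (kd xd29 yd59 zd52) (kd xd17 yd43 zd24) (kd xd17 yd43 zd32) (kd xd23 yd29 zd4) (kd xd31 yd59 zd20) (kd xd17 yd43 zd38) (kd xd31 yd48 zd61) (kd xd17 yd43 zd42) (kd xd30 yd14 zd6) (kd xd21 yd58 zd16) (kd xd29 yd59 zd59) (kd xd31 yd54 zd43) (kd xd17 yd43 zd49) (kd xd30 yd4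 zd17) (kd xd27 yd46 zd13) (kd xd17 yd43 zd51) (kd xd29 yd51 zd53) (kd xd23 yd6 zd10) (kd xd17 yd43 zd55) (kd xd28 yd40 zd53) (kd xd26 yd14 zd37) (kd xd26 yd14 zd61) (kd xd17 yd43 zd59) (kd xd28 yd29 zd47) (kd xd27 yd27 zd52) (kd xd27 yd49 zd2) (kd xd24 yd17 zd57) (kd xd17 yd44 zd3) (kd xd18 yd26 zd50) (kd xd18 yd26 zd49) (kd xd21 yd23 zd24) (kd xd27 yd17 zd44) (kd xd17 yd44 zd8) (kd xd17 yd44 zd10) (kd xd26 yd14 zd27) (kd xd31 yd38 zd34) (kd xd20 yd3 zd61) (kd xd25 yd45 zd21) (kd xd27 yd28 zd13)) (@D3.rec (fun _ => Pt) (kd xd27 yd28 zd12) (kd xd18 yd38 zd8) (kd xd30 yd3 zd25) (kd xd17 yd44 zd17) (kd xd26 yd16 zd46) (kd xd27 yd26 zd7) (kd xd27 yd28 zd21) (kd xd18 yd7 zd18) (kd xd26 yd12 zd60) (kd xd23 yd21 zd60) (kd xd27 yd29 zd56) (kd xd21 yd30 zd58) (kd xd17 yd44 zd29)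 (kd xd26 yd11 zd19) (kd xd24 yd22 zd52) (kd xd17 yd44 zd35) (kd xd26 yd7 zd40) (kd xd18 yd7 zd43) (kd xd18 yd27 zd15) (kd xd17 yd44 zd39) (kd xd29 yd38 zd45) (kd xd32 yd25 zd28) (kd xd17 yd44 zd41) (kd xd26 yd18 zd52) (kd xd32 yd7 zd24) (kd xd25 yd39 zd33) (kd xd21 yd37 zd7) (kd xd31 yd14 zd45) (kd xd18 yd7 zd28) (kd xd30 yd12 zd49) (kd xd18 yd16 zd48) (kd xd25 yd55 zd39) (kd xd17 yd47 zd39) (kd xd25 yd15 zd49) (kd xd24 yd32 zd31) (kd xd18 yd50 zd43) (kd xd29 yd16 zd55) (kd xd19 yd47 zd11) (kd xd31 yd50 zd6) (kd xd28 yd41 zd30) (kd xd18 yd5 zd18) (kd xd27 yd21 zd15) (kd xd17 yd45 zd19) (kd xd30 yd1 zd17) (kd xd17 yd45 zd22) (kd xd21 yd32 zd52) (kd xd27 yd27 zd47) (kd xd27 yd28 zd0) (kd xd30 yd1 zd11) (kd xd18 yd29 zd55) (kd xd26 yd13 zd14) (kd xd17 yd45 zd26) (kd xd26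 yd14 zd50) (kd xd17 yd45 zd28) (kd xd27 yd27 zd36) (kd xd25 yd58 zd43) (kd xd31 yd11 zd31) (kd xd25 yd46 zd36) (kd xd21 yd25 zd14) (kd xd17 yd45 zd35) (kd xd31 yd44 zd42) (kd xd28 yd7 zd20)) (@D3.rec (fun _ => Pt) (kd xd29 yd30 zd2) (kd xd25 yd16 zd55) (kd xd27 yd56 zd23) (kd xd30 yd57 zd13) (kd xd32 yd25 zd32) (kd xd28 yd4 zd50) (kd xd31 yd53 zd52) (kd xd32 yd25 zd35) (kd xd17 yd45 zd53) (kd xd17 yd47 zd18) (kd xd17 yd45 zd61) (kd xd27 yd15 zd30) (kd xd28 yd5 zd39) (kd xd18 yd12 zd6) (kd xd27 yd55 zd20) (kd xd27 yd55 zd18) (kd xd27 yd56 zd29) (kd xd18 yd14 zd24) (kd xd18 yd13 zd27) (kd xd32 yd25 zd40) (kd xd30 yd40 zd13) (kd xd32 yd25 zd42) (kd xd17 yd46 zd1) (kd xd27 yd50 zd1) (kd xd17 yd46 zd61) (kd xd31 yd16 zd18) (kd xd32 yd25 zd47) (kd xd32 yd25 zd49) (kd xd32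 yd25 zd52) (kd xd17 yd46 zd3) (kd xd27 yd49 zd56) (kd xd30 yd21 zd14) (kd xd17 yd46 zd4) (kd xd23 yd50 zd26) (kd xd17 yd46 zd5) (kd xd29 yd25 zd5) (kd xd17 yd46 zd6) (kd xd18 yd12 zd22) (kd xd18 yd31 zd11) (kd xd21 yd44 zd2) (kd xd17 yd46 zd8) (kd xd32 yd25 zd55) (kd xd17 yd46 zd9) (kd xd32 yd25 zd56) (kd xd17 yd46 zd11) (kd xd25 yd31 zd38) (kd xd17 yd46 zd13) (kd xd31 yd16 zd19) (kd xd32 yd25 zd60) (kd xd27 yd34 zd47) (kd xd17 yd46 zd14) (kd xd17 yd46 zd15) (kd xd17 yd47 zd28) (kd xd18 yd53 zd44) (kd xd18 yd53 zd45) (kd xd32 yd10 zd1) (kd xd17 yd47 zd36) (kd xd18 yd11 zd44) (kd xd23 yd50 zd27) (kd xd22 yd34 zd51) (kd xd17 yd46 zd18) (kd xd17 yd47 zd33)) (@D3.rec (fun _ => Pt) (kd xd18 yd30 zd57) (kd xd32 yd26 zd4) (kd xd20 yd21 zd27) (kd xd27 yd54 zd3) (kd xd27 yd55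 zd24) (kd xd27 yd49 zd11) (kd xd27 yd55 zd31) (kd xd17 yd46 zd26) (kd xd32 yd26 zd7) (kd xd18 yd58 zd10) (kd xd32 yd26 zd8) (kd xd17 yd46 zd30) (kd xd23 yd22 zd40) (kd xd32 yd26 zd9) (kd xd27 yd51 zd8) (kd xd31 yd42 zd38) (kd xd31 yd45 zd19) (kd xd17 yd46 zd35) (kd xd31 yd7 zd41) (kd xd32 yd26 zd11) (kd xd17 yd46 zd38) (kd xd29 yd53 zd22) (kd xd27 yd54 zd7) (kd xd28 yd6 zd57) (kd xd17 yd46 zd40) (kd xd27 yd54 zd12) (kd xd22 yd18 zd11) (kd xd22 yd18 zd12) (kd xd17 yd46 zd45) (kd xd32 yd26 zd17) (kd xd17 yd46 zd46) (kd xd32 yd26 zd19) (kd xd17 yd46 zd47) (kd xd28 yd5 zd2) (kd xd28 yd6 zd23) (kd xd27 yd51 zd38) (kd xd31 yd7 zd49) (kd xd17 yd46 zd49) (kd xd25 yd31 zd34) (kd xd27 yd53 zd39) (kd xd22 yd54 zd14) (kd xd17 yd46 zd53) (kd xd24 yd45 zd60) (kd xd29 yd52 zd49) (kd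 xd24 yd59 zd38) (kd xd17 yd46 zd60) (kd xd32 yd26 zd29) (kd xd32 yd26 zd30) (kd xd31 yd45 zd54) (kd xd18 yd31 zd32) (kd xd17 yd47 zd1) (kd xd27 yd34 zd13) (kd xd23 yd54 zd41) (kd xd18 yd13 zd24) (kd xd28 yd7 zd41) (kd xd28 yd8 zd53) (kd xd22 yd18 zd9) (kd xd17 yd47 zd4) (kd xd18 yd13 zd16) (kd xd32 yd26 zd33) (kd xd17 yd47 zd5) (kd xd18 yd34 zd32)) (@D3.rec (fun _ => Pt) (kd xd18 yd35 zd26) (kd xd19 yd17 zd30) (kd xd27 yd34 zd20) (kd xd31 yd53 zd50) (kd xd31 yd53 zd48) (kd xd30 yd41 zd27) (kd xd17 yd47 zd11) (kd xd27 yd15 zd4) (kd xd28 yd5 zd40) (kd xd18 yd14 zd43) (kd xd18 yd14 zd42) (kd xd32 yd26 zd36) (kd xd17 yd47 zd14) (kd xd27 yd33 zd51) (kd xd17 yd47 zd15) (kd xd18 yd33 zd21) (kd xd31 yd15 zd24) (kd xd17 yd47 zd16) (kd xd32 yd26 zd2) (kd xd17 yd47 zd19) (kd xd27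 yd34 zd2) (kd xd30 yd24 zd52) (kd xd17 yd47 zd21) (kd xd32 yd26 zd39) (kd xd29 yd50 zd27) (kd xd27 yd48 zd61) (kd xd17 yd47 zd25) (kd xd25 yd3 zd34) (kd xd30 yd35 zd23) (kd xd22 yd15 zd31) (kd xd17 yd47 zd29) (kd xd29 yd25 zd26) (kd xd31 yd45 zd10) (kd xd23 yd54 zd9) (kd xd17 yd47 zd30) (kd xd31 yd49 zd29) (kd xd18 yd58 zd8) (kd xd18 yd58 zd9) (kd xd30 yd48 zd6) (kd xd31 yd32 zd40) (kd xd32 yd7 zd28) (kd xd31 yd42 zd51) (kd xd17 yd47 zd34) (kd xd20 yd21 zd24) (kd xd18 yd37 zd21) (kd xd32 yd26 zd42) (kd xd32 yd26 zd15) (kd xd27 yd32 zd49) (kd xd30 yd31 zd59) (kd xd32 yd26 zd43) (kd xd31 yd56 zd6) (kd xd29 yd25 zd12) (kd xd17 yd47 zd42) (kd xd30 yd45 zd53) (kd xd30 yd23 zd28) (kd xd18 yd9 zd50) (kd xd17 yd47 zd45) (kd xd32 yd26 zd44) (kd xd17 yd47 zd47) (kd xd18 yd58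 zd11) (kd xd26 yd17 zd35) (kd xd32 yd24 zd40)) (@D3.rec (fun _ => Pt) (kd xd32 yd26 zd45) (kd xd17 yd47 zd49) (kd xd17 yd47 zd50) (kd xd25 yd33 zd59) (kd xd18 yd15 zd3) (kd xd30 yd23 zd7) (kd xd23 yd36 zd52) (kd xd26 yd31 zd38) (kd xd17 yd47 zd55) (kd xd23 yd50 zd32) (kd xd32 yd26 zd48) (kd xd17 yd47 zd57) (kd xd32 yd26 zd50) (kd xd17 yd47 zd58) (kd xd32 yd26 zd52) (kd xd17 yd47 zd59) (kd xd27 yd50 zd26) (kd xd27 yd49 zd18) (kd xd28 yd4 zd40) (kd xd31 yd2 zd2) (kd xd17 yd47 zd61) (kd xd28 yd5 zd34) (kd xd28 yd8 zd21) (kd xd18 yd33 zd52) (kd xd17 yd48 zd14) (kd xd23 yd44 zd3) (kd xd17 yd48 zd6) (kd xd31 yd28 zd12) (kd xd31 yd26 zd5) (kd xd21 yd43 zd40) (kd xd27 yd37 zd44) (kd xd17 yd48 zd10) (kd xd29 yd2 zd22) (kd xd28 yd9 zd37) (kd xd26 yd59 zd14) (kd xd18 yd17 zd49)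 (kd xd17 yd48 zd24) (kd xd18 yd0 zd17) (kd xd17 yd48 zd26) (kd xd22 yd10 zd8) (kd xd17 yd48 zd28) (kd xd32 yd25 zd10) (kd xd26 yd15 zd8) (kd xd25 yd20 zd20) (kd xd25 yd42 zd24) (kd xd17 yd48 zd34) (kd xd25 yd50 zd33) (kd xd27 yd39 zd29) (kd xd17 yd48 zd38) (kd xd31 yd52 zd59) (kd xd18 yd0 zd18) (kd xd20 yd34 zd18) (kd xd32 yd27 zd4) (kd xd32 yd25 zd12) (kd xd26 yd39 zd27) (kd xd32 yd27 zd5) (kd xd32 yd13 zd52) (kd xd17 yd48 zd51) (kd xd28 yd40 zd7) (kd xd25 yd56 zd58) (kd xd28 yd34 zd35) (kd xd24 yd29 zd0)) (@D3.rec (fun _ => Pt) (kd xd32 yd27 zd7) (kd xd30 yd28 zd40) (kd xd17 yd48 zd59) (kd xd28 yd56 zd35) (kd xd18 yd27 zd17) (kd xd32 yd27 zd8) (kd xd29 yd41 zd37) (kd xd26 yd21 zd57) (kd xd19 yd22 zd43) (kd xd27 yd44 zd13) (kd xd20 yd36 zd25) (kd xd23 yd3 zd52) (kd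 xd20 yd34 zd28) (kd xd21 yd54 zd30) (kd xd31 yd56 zd30) (kd xd17 yd49 zd12) (kd xd17 yd49 zd13) (kd xd31 yd4 zd1) (kd xd18 yd50 zd57) (kd xd18 yd50 zd58) (kd xd29 yd39 zd41) (kd xd25 yd18 zd58) (kd xd29 yd22 zd59) (kd xd17 yd49 zd16) (kd xd26 yd46 zd0) (kd xd17 yd49 zd17) (kd xd20 yd24 zd50) (kd xd18 yd24 zd9) (kd xd21 yd53 zd34) (kd xd30 yd17 zd26) (kd xd31 yd45 zd38) (kd xd17 yd49 zd25) (kd xd18 yd39 zd18) (kd xd32 yd27 zd3) (kd xd17 yd49 zd26) (kd xd20 yd37 zd38) (kd xd32 yd27 zd11) (kd xd17 yd49 zd29) (kd xd20 yd51 zd33) (kd xd32 yd14 zd23) (kd xd20 yd50 zd22) (kd xd20 yd50 zd26) (kd xd26 yd19 zd30) (kd xd31 yd50 zd8) (kd xd28 yd21 zd33) (kd xd28 yd21 zd34) (kd xd17 yd49 zd34) (kd xd31 yd25 zd15) (kd xd21 yd11 zd35) (kd xd29 yd43 zd5) (kd xd17 yd49 zd39) (kd xd27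 yd54 zd40) (kd xd17 yd49 zd43) (kd xd31 yd40 zd39) (kd xd28 yd53 zd52) (kd xd31 yd40 zd37) (kd xd28 yd1 zd39) (kd xd31 yd34 zd42) (kd xd32 yd27 zd14) (kd xd17 yd49 zd53) (kd xd25 yd20 zd5) (kd xd30 yd27 zd14)) (@D3.rec (fun _ => Pt) (kd xd25 yd20 zd33) (kd xd26 yd53 zd42) (kd xd26 yd54 zd46) (kd xd29 yd27 zd29) (kd xd17 yd49 zd59) (kd xd32 yd27 zd18) (kd xd20 yd54 zd13) (kd xd17 yd50 zd3) (kd xd17 yd49 zd61) (kd xd28 yd37 zd5) (kd xd29 yd32 zd46) (kd xd32 yd17 zd52) (kd xd32 yd17 zd51) (kd xd32 yd27 zd20) (kd xd30 yd43 zd51) (kd xd24 yd0 zd28) (kd xd20 yd5 zd19) (kd xd32 yd17 zd30) (kd xd32 yd9 zd38) (kd xd31 yd17 zd14) (kd xd32 yd0 zd60) (kd xd32 yd13 zd50) (kd xd17 yd50 zd12) (kd xd19 yd8 zd23) (kd xd18 yd17 zd15) (kd xd17 yd50 zd15) (kd xd27 yd12 zd45) (kd xd17 yd51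 zd15) (kd xd28 yd57 zd46) (kd xd18 yd25 zd31) (kd xd25 yd16 zd36) (kd xd25 yd33 zd55) (kd xd20 yd27 zd0) (kd xd20 yd34 zd41) (kd xd32 yd8 zd26) (kd xd17 yd50 zd38) (kd xd28 yd10 zd16) (kd xd18 yd10 zd21) (kd xd17 yd50 zd39) (kd xd28 yd1 zd25) (kd xd27 yd4 zd10) (kd xd31 yd39 zd44) (kd xd17 yd50 zd45) (kd xd28 yd21 zd32) (kd xd27 yd35 zd30) (kd xd30 yd35 zd50) (kd xd28 yd58 zd4) (kd xd19 yd47 zd44) (kd xd20 yd19 zd38) (kd xd24 yd19 zd0) (kd xd21 yd5 zd44) (kd xd20 yd14 zd28) (kd xd26 yd3 zd59) (kd xd31 yd54 zd20) (kd xd30 yd14 zd41) (kd xd25 yd27 zd0) (kd xd29 yd20 zd31) (kd xd17 yd51 zd2) (kd xd28 yd36 zd17) (kd xd31 yd59 zd53) (kd xd32 yd2 zd20) (kd xd17 yd51 zd5)) (@D3.rec (fun _ => Pt) (kd xd18 yd32 zd49) (kd xd29 yd0 zd48) (kd xd17 yd51 zd9) (kd xd30 yd24 zd6) (kd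 xd27 yd1 zd25) (kd xd25 yd17 zd10) (kd xd21 yd50 zd50) (kd xd26 yd5 zd40) (kd xd28 yd36 zd57) (kd xd17 yd51 zd30) (kd xd31 yd48 zd29) (kd xd19 yd58 zd31) (kd xd20 yd54 zd32) (kd xd26 yd37 zd44) (kd xd19 yd58 zd0) (kd xd25 yd9 zd26) (kd xd32 yd27 zd25) (kd xd17 yd51 zd38) (kd xd32 yd3 zd40) (kd xd27 yd41 zd6) (kd xd25 yd19 zd7) (kd xd17 yd51 zd40) (kd xd25 yd49 zd32) (kd xd22 yd9 zd57) (kd xd17 yd51 zd47) (kd xd32 yd25 zd11) (kd xd27 yd29 zd37) (kd xd19 yd14 zd27) (kd xd27 yd27 zd56) (kd xd21 yd48 zd22) (kd xd26 yd12 zd9) (kd xd18 yd0 zd45) (kd xd27 yd28 zd22) (kd xd17 yd51 zd55) (kd xd27 yd6 zd3) (kd xd27 yd3 zd49) (kd xd26 yd46 zd29) (kd xd31 yd16 zd34) (kd xd30 yd46 zd23) (kd xd17 yd52 zd0) (kd xd27 yd49 zd44) (kd xd20 yd53 zd38) (kd xd26 yd41 zd41) (kd xd30 yd49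 zd22) (kd xd26 yd41 zd3) (kd xd28 yd46 zd25) (kd xd32 yd25 zd13) (kd xd26 yd11 zd37) (kd xd17 yd52 zd19) (kd xd19 yd11 zd19) (kd xd30 yd54 zd35) (kd xd21 yd31 zd29) (kd xd17 yd52 zd35) (kd xd25 yd17 zd11) (kd xd25 yd44 zd38) (kd xd18 yd37 zd41) (kd xd17 yd52 zd47) (kd xd32 yd27 zd28) (kd xd17 yd52 zd49) (kd xd19 yd35 zd52) (kd xd32 yd27 zd29) (kd xd29 yd24 zd58)) (@D3.rec (fun _ => Pt) (kd xd17 yd52 zd53) (kd xd27 yd53 zd23) (kd xd19 yd36 zd28) (kd xd29 yd11 zd42) (kd xd26 yd10 zd19) (kd xd30 yd2 zd33) (kd xd30 yd3 zd23) (kd xd18 yd5 zd29) (kd xd30 yd59 zd5) (kd xd21 yd56 zd56) (kd xd17 yd53 zd4) (kd xd24 yd43 zd32) (kd xd21 yd29 zd52) (kd xd23 yd22 zd49) (kd xd17 yd53 zd11) (kd xd28 yd41 zd23) (kd xd20 yd24 zd10) (kd xd17 yd53 zd14) (kd xd19 yd58 zd17) (kd xd21 yd37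 zd45) (kd xd30 yd51 zd35) (kd xd17 yd53 zd52) (kd xd28 yd28 zd8) (kd xd28 yd28 zd9) (kd xd22 yd52 zd19) (kd xd25 yd49 zd40) (kd xd25 yd15 zd58) (kd xd24 yd45 zd31) (kd xd25 yd45 zd27) (kd xd27 yd35 zd47) (kd xd30 yd25 zd14) (kd xd31 yd54 zd29) (kd xd18 yd4 zd36) (kd xd25 yd12 zd27) (kd xd24 yd46 zd51) (kd xd29 yd38 zd43) (kd xd24 yd18 zd29) (kd xd28 yd44 zd50) (kd xd22 yd8 zd49) (kd xd27 yd46 zd8) (kd xd27 yd40 zd18) (kd xd32 yd27 zd30) (kd xd17 yd54 zd12) (kd xd17 yd54 zd13) (kd xd27 yd24 zd7) (kd xd31 yd7 zd9) (kd xd28 yd5 zd55) (kd xd24 yd54 zd48) (kd xd31 yd49 zd21) (kd xd32 yd27 zd32) (kd xd17 yd54 zd17) (kd xd20 yd2 zd40) (kd xd26 yd52 zd37) (kd xd23 yd51 zd14) (kd xd29 yd14 zd47) (kd xd20 yd6 zd5) (kd xd29 yd20 zd49) (kd xd29 yd20 zd50) (kd xd27 yd44 zd24) (kd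 xd23 yd51 zd16) (kd xd23 yd51 zd17) (kd xd25 yd33 zd61)) (@D3.rec (fun _ => Pt) (kd xd22 yd35 zd7) (kd xd30 yd35 zd25) (kd xd29 yd14 zd44) (kd xd29 yd20 zd34) (kd xd20 yd16 zd17) (kd xd32 yd8 zd24) (kd xd20 yd45 zd45) (kd xd32 yd8 zd25) (kd xd31 yd1 zd30) (kd xd18 yd16 zd55) (kd xd31 yd45 zd13) (kd xd18 yd27 zd10) (kd xd25 yd2 zd21) (kd xd31 yd2 zd32) (kd xd26 yd17 zd5) (kd xd32 yd25 zd38) (kd xd23 yd31 zd48) (kd xd29 yd30 zd7) (kd xd27 yd39 zd40) (kd xd22 yd28 zd39) (kd xd30 yd39 zd34) (kd xd32 yd9 zd45) (kd xd17 yd54 zd43) (kd xd30 yd55 zd32) (kd xd26 yd17 zd44) (kd xd29 yd17 zd44) (kd xd23 yd22 zd50) (kd xd17 yd54 zd55) (kd xd17 yd54 zd56) (kd xd21 yd31 zd28) (kd xd25 yd28 zd4) (kd xd23 yd24 zd17) (kd xd21 yd16 zd16) (kd xd30 yd47 zd55) (kd xd17 yd55 zd6) (kd xd30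 yd47 zd52) (kd xd17 yd55 zd9) (kd xd20 yd7 zd21) (kd xd18 yd18 zd35) (kd xd19 yd18 zd31) (kd xd27 yd44 zd52) (kd xd28 yd12 zd28) (kd xd17 yd55 zd22) (kd xd18 yd2 zd49) (kd xd26 yd21 zd36) (kd xd30 yd42 zd17) (kd xd29 yd34 zd56) (kd xd17 yd55 zd34) (kd xd22 yd18 zd1) (kd xd30 yd3 zd35) (kd xd31 yd10 zd59) (kd xd23 yd41 zd28) (kd xd17 yd55 zd46) (kd xd32 yd27 zd42) (kd xd17 yd55 zd47) (kd xd17 yd55 zd48) (kd xd20 yd24 zd59) (kd xd28 yd9 zd10) (kd xd24 yd36 zd13) (kd xd31 yd4 zd34) (kd xd30 yd41 zd1) (kd xd17 yd55 zd56)) (@D3.rec (fun _ => Pt) (kd xd31 yd18 zd34) (kd xd20 yd22 zd48) (kd xd17 yd56 zd2) (kd xd23 yd13 zd57) (kd xd20 yd48 zd38) (kd xd24 yd33 zd29) (kd xd27 yd38 zd19) (kd xd17 yd56 zd7) (kd xd29 yd55 zd23) (kd xd17 yd56 zd11) (kd xd27 yd42 zd18) (kd xd24 yd10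 zd18) (kd xd24 yd54 zd19) (kd xd32 yd2 zd43) (kd xd17 yd56 zd20) (kd xd20 yd9 zd17) (kd xd20 yd15 zd49) (kd xd21 yd3 zd15) (kd xd18 yd23 zd28) (kd xd24 yd8 zd33) (kd xd31 yd2 zd59) (kd xd28 yd13 zd57) (kd xd23 yd48 zd2) (kd xd32 yd27 zd52) (kd xd17 yd56 zd36) (kd xd22 yd21 zd26) (kd xd27 yd55 zd59) (kd xd25 yd40 zd0) (kd xd17 yd56 zd39) (kd xd20 yd24 zd52) (kd xd18 yd20 zd32) (kd xd21 yd52 zd20) (kd xd20 yd16 zd9) (kd xd21 yd38 zd59) (kd xd30 yd46 zd8) (kd xd19 yd37 zd26) (kd xd22 yd46 zd16) (kd xd21 yd11 zd51) (kd xd19 yd39 zd13) (kd xd21 yd11 zd53) (kd xd26 yd44 zd17) (kd xd21 yd29 zd35) (kd xd21 yd11 zd44) (kd xd31 yd44 zd43) (kd xd26 yd44 zd18) (kd xd19 yd37 zd9) (kd xd24 yd59 zd48) (kd xd25 yd3 zd12) (kd xd28 yd32 zd9) (kd xd24 yd26 zd3) (kd xd25 yd2 zd22) (kd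 xd24 yd26 zd2) (kd xd24 yd55 zd35) (kd xd30 yd23 zd45) (kd xd30 yd18 zd35) (kd xd17 yd57 zd18) (kd xd24 yd39 zd23) (kd xd17 yd59 zd49) (kd xd20 yd25 zd19) (kd xd26 yd24 zd15) (kd xd24 yd8 zd50) (kd xd21 yd2 zd0)) (@D3.rec (fun _ => Pt) (kd xd30 yd32 zd48) (kd xd26 yd30 zd8) (kd xd17 yd57 zd30) (kd xd21 yd1 zd56) (kd xd17 yd57 zd31) (kd xd26 yd18 zd60) (kd xd17 yd57 zd35) (kd xd31 yd23 zd29) (kd xd17 yd57 zd37) (kd xd29 yd18 zd23) (kd xd17 yd57 zd39) (kd xd17 yd57 zd40) (kd xd30 yd59 zd3) (kd xd18 yd26 zd15) (kd xd17 yd57 zd45) (kd xd17 yd57 zd47) (kd xd29 yd24 zd33) (kd xd28 yd19 zd1) (kd xd27 yd41 zd10) (kd xd20 yd6 zd14) (kd xd17 yd57 zd58) (kd xd17 yd58 zd9) (kd xd17 yd58 zd22) (kd xd31 yd9 zd42) (kd xd20 yd10 zd25) (kd xd17 yd58 zd25) (kd xd22 yd58 zd45) (kd xd29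 yd7 zd5) (kd xd27 yd43 zd40) (kd xd23 yd28 zd37) (kd xd30 yd9 zd48) (kd xd17 yd58 zd50) (kd xd17 yd58 zd51) (kd xd29 yd5 zd32) (kd xd17 yd58 zd52) (kd xd17 yd58 zd55) (kd xd20 yd50 zd31) (kd xd29 yd42 zd2) (kd xd17 yd58 zd56) (kd xd20 yd43 zd36) (kd xd17 yd58 zd58) (kd xd17 yd58 zd61) (kd xd31 yd36 zd29) (kd xd17 yd59 zd0) (kd xd17 yd59 zd2) (kd xd32 yd28 zd0) (kd xd32 yd28 zd1) (kd xd18 yd43 zd49) (kd xd17 yd59 zd18) (kd xd21 yd45 zd28) (kd xd31 yd3 zd19) (kd xd29 yd25 zd40) (kd xd17 yd59 zd27) (kd xd27 yd11 zd55) (kd xd17 yd59 zd29) (kd xd17 yd59 zd30) (kd xd20 yd38 zd0) (kd xd24 yd24 zd4) (kd xd17 yd59 zd46) (kd xd26 yd55 zd32) (kd xd17 yd59 zd50) (kd xd18 yd0 zd25)) (@D3.rec (fun _ => Pt) (kd xd17 yd59 zd52) (kd xd23 yd11 zd11) (kd xd17 yd59 zd55) (kd xd18 yd17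 zd2) (kd xd26 yd59 zd28) (kd xd19 yd58 zd15) (kd xd18 yd49 zd51) (kd xd21 yd9 zd44) (kd xd21 yd36 zd13) (kd xd27 yd49 zd41) (kd xd18 yd0 zd27) (kd xd21 yd33 zd13) (kd xd18 yd0 zd36) (kd xd20 yd14 zd10) (kd xd22 yd5 zd49) (kd xd18 yd0 zd39) (kd xd24 yd34 zd33) (kd xd28 yd32 zd16) (kd xd29 yd40 zd60) (kd xd18 yd0 zd41) (kd xd18 yd0 zd42) (kd xd22 yd44 zd53) (kd xd30 yd23 zd4) (kd xd26 yd12 zd43) (kd xd18 yd0 zd57) (kd xd29 yd36 zd20) (kd xd20 yd51 zd24) (kd xd20 yd51 zd36) (kd xd21 yd47 zd47) (kd xd23 yd26 zd41) (kd xd18 yd1 zd2) (kd xd18 yd1 zd5) (kd xd31 yd5 zd53) (kd xd18 yd1 zd7) (kd xd27 yd6 zd4) (kd xd23 yd35 zd52) (kd xd26 yd1 zd55) (kd xd18 yd1 zd17) (kd xd27 yd4 zd0) (kd xd18 yd1 zd24) (kd xd27 yd42 zd28) (kd xd23 yd27 zd6) (kd xd21 yd24 zd53) (kd xd31 yd3 zd23)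 (kd xd24 yd35 zd42) (kd xd23 yd40 zd16) (kd xd21 yd21 zd1) (kd xd21 yd20 zd6) (kd xd29 yd18 zd13) (kd xd18 yd1 zd39) (kd xd22 yd52 zd35) (kd xd28 yd19 zd18) (kd xd21 yd39 zd31) (kd xd28 yd55 zd60) (kd xd28 yd55 zd59) (kd xd22 yd52 zd46) (kd xd19 yd35 zd40) (kd xd25 yd4 zd52) (kd xd18 yd1 zd47) (kd xd30 yd1 zd36) (kd xd30 yd1 zd35) (kd xd23 yd41 zd26)) (@D3.rec (fun _ => Pt) (kd xd23 yd41 zd25) (kd xd23 yd38 zd55) (kd xd25 yd31 zd43) (kd xd31 yd25 zd52) (kd xd25 yd4 zd44) (kd xd18 yd1 zd53) (kd xd25 yd4 zd40) (kd xd18 yd1 zd57) (kd xd28 yd49 zd24) (kd xd29 yd59 zd3) (kd xd31 yd11 zd4) (kd xd25 yd28 zd0) (kd xd18 yd2 zd9) (kd xd27 yd36 zd9) (kd xd27 yd8 zd29) (kd xd26 yd53 zd38) (kd xd26 yd5 zd47) (kd xd24 yd8 zd29) (kd xd24 yd8 zd28) (kd xd30 yd30 zd13) (kd xd24 yd13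 zd53) (kd xd31 yd17 zd45) (kd xd26 yd30 zd48) (kd xd32 yd28 zd8) (kd xd27 yd39 zd58) (kd xd26 yd15 zd37) (kd xd18 yd40 zd40) (kd xd18 yd2 zd41) (kd xd32 yd28 zd10) (kd xd26 yd2 zd23) (kd xd24 yd38 zd14) (kd xd18 yd2 zd46) (kd xd19 yd10 zd47) (kd xd32 yd28 zd11) (kd xd23 yd34 zd47) (kd xd26 yd25 zd53) (kd xd24 yd17 zd45) (kd xd29 yd26 zd36) (kd xd32 yd28 zd13) (kd xd29 yd11 zd3) (kd xd23 yd33 zd11) (kd xd18 yd2 zd60) (kd xd27 yd46 zd49) (kd xd32 yd28 zd16) (kd xd20 yd23 zd54) (kd xd18 yd3 zd1) (kd xd19 yd54 zd51) (kd xd19 yd54 zd52) (kd xd32 yd3 zd35) (kd xd27 yd45 zd4) (kd xd27 yd46 zd42) (kd xd18 yd3 zd4) (kd xd27 yd40 zd40) (kd xd28 yd29 zd37) (kd xd25 yd49 zd11) (kd xd31 yd2 zd40) (kd xd18 yd3 zd15) (kd xd32 yd16 zd1) (kd xd21 yd6 zd25) (kd xd18 yd3 zd16) (kd xd21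 yd6 zd32) (kd xd18 yd4 zd4)) (@D3.rec (fun _ => Pt) (kd xd27 yd47 zd27) (kd xd18 yd30 zd11) (kd xd18 yd3 zd22) (kd xd18 yd3 zd30) (kd xd27 yd44 zd49) (kd xd27 yd47 zd12) (kd xd27 yd48 zd26) (kd xd18 yd3 zd26) (kd xd25 yd10 zd1) (kd xd23 yd44 zd49) (kd xd21 yd42 zd15) (kd xd18 yd3 zd36) (kd xd18 yd26 zd51) (kd xd27 yd26 zd41) (kd xd21 yd44 zd60) (kd xd18 yd3 zd41) (kd xd21 yd54 zd46) (kd xd18 yd3 zd43) (kd xd31 yd50 zd19) (kd xd18 yd5 zd17) (kd xd21 yd7 zd2) (kd xd27 yd24 zd45) (kd xd18 yd3 zd45) (kd xd27 yd45 zd42) (kd xd24 yd43 zd2) (kd xd18 yd26 zd36) (kd xd18 yd3 zd48) (kd xd23 yd54 zd6) (kd xd29 yd52 zd59) (kd xd18 yd3 zd49) (kd xd29 yd52 zd60) (kd xd18 yd3 zd50) (kd xd30 yd35 zd52) (kd xd30 yd35 zd33) (kd xd26 yd12 zd51) (kd xd25 yd3 zd21) (kd xd27 yd48 zd1) (kd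 xd28 yd3 zd47) (kd xd23 yd44 zd32) (kd xd22 yd8 zd31) (kd xd26 yd12 zd45) (kd xd18 yd4 zd0) (kd xd27 yd45 zd23) (kd xd25 yd1 zd33) (kd xd25 yd6 zd35) (kd xd25 yd49 zd4) (kd xd23 yd4 zd40) (kd xd18 yd4 zd7) (kd xd20 yd23 zd17) (kd xd25 yd3 zd38) (kd xd28 yd0 zd39) (kd xd21 yd34 zd1) (kd xd27 yd28 zd6) (kd xd18 yd4 zd10) (kd xd18 yd4 zd11) (kd xd18 yd4 zd12) (kd xd18 yd30 zd19) (kd xd18 yd52 zd2) (kd xd23 yd11 zd33) (kd xd30 yd49 zd61) (kd xd21 yd41 zd61) (kd xd32 yd10 zd11)) (@D3.rec (fun _ => Pt) (kd xd32 yd8 zd19) (kd xd31 yd35 zd59) (kd xd23 yd43 zd8) (kd xd18 yd38 zd5) (kd xd31 yd7 zd26) (kd xd18 yd4 zd37) (kd xd18 yd4 zd38) (kd xd29 yd13 zd46) (kd xd27 yd39 zd39) (kd xd18 yd4 zd42) (kd xd30 yd35 zd34) (kd xd18 yd4 zd43) (kd xd18 yd7 zd54) (kd xd27 yd30 zd37) (kd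 xd18 yd7 zd57) (kd xd32 yd5 zd34) (kd xd18 yd4 zd48) (kd xd25 yd10 zd49) (kd xd27 yd25 zd12) (kd xd21 yd25 zd40) (kd xd21 yd25 zd38) (kd xd32 yd6 zd2) (kd xd29 yd15 zd44) (kd xd23 yd11 zd54) (kd xd22 yd39 zd61) (kd xd18 yd4 zd59) (kd xd32 yd28 zd25) (kd xd31 yd46 zd36) (kd xd18 yd4 zd60) (kd xd18 yd5 zd56) (kd xd18 yd5 zd59) (kd xd28 yd2 zd12) (kd xd27 yd3 zd56) (kd xd27 yd3 zd45) (kd xd29 yd39 zd17) (kd xd18 yd5 zd15) (kd xd25 yd49 zd55) (kd xd27 yd27 zd54) (kd xd18 yd5 zd21) (kd xd26 yd12 zd12) (kd xd18 yd5 zd25) (kd xd27 yd47 zd43) (kd xd27 yd44 zd50) (kd xd18 yd6 zd22) (kd xd24 yd44 zd0) (kd xd28 yd2 zd15) (kd xd18 yd6 zd24) (kd xd31 yd2 zd25) (kd xd31 yd38 zd61) (kd xd27 yd44 zd42) (kd xd27 yd47 zd21) (kd xd26 yd36 zd55) (kd xd29 yd43 zd15) (kd xd28 yd44 zd57)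 (kd xd31 yd48 zd13) (kd xd32 yd28 zd27) (kd xd19 yd9 zd52) (kd xd32 yd28 zd28) (kd xd18 yd5 zd44) (kd xd31 yd48 zd14) (kd xd19 yd46 zd0) (kd xd19 yd36 zd61)) (@D3.rec (fun _ => Pt) (kd xd23 yd53 zd57) (kd xd30 yd43 zd1) (kd xd20 yd11 zd42) (kd xd24 yd55 zd30) (kd xd26 yd16 zd14) (kd xd27 yd30 zd2) (kd xd27 yd56 zd13) (kd xd28 yd3 zd26) (kd xd30 yd36 zd24) (kd xd30 yd11 zd52) (kd xd18 yd5 zd58) (kd xd30 yd20 zd29) (kd xd27 yd45 zd5) (kd xd18 yd26 zd61) (kd xd27 yd56 zd6) (kd xd30 yd15 zd4) (kd xd18 yd10 zd2) (kd xd18 yd10 zd0) (kd xd24 yd36 zd6) (kd xd23 yd34 zd43) (kd xd27 yd27 zd32) (kd xd27 yd46 zd50) (kd xd29 yd49 zd54) (kd xd19 yd55 zd17) (kd xd31 yd35 zd21) (kd xd30 yd20 zd27) (kd xd31 yd5 zd61) (kd xd27 yd45 zd0) (kd xd18 yd6 zd28) (kd xd26 yd47 zd16) (kd xd28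 yd27 zd36) (kd xd32 yd28 zd30) (kd xd18 yd6 zd33) (kd xd27 yd51 zd11) (kd xd18 yd6 zd35) (kd xd18 yd6 zd37) (kd xd18 yd6 zd40) (kd xd23 yd51 zd30) (kd xd32 yd7 zd56) (kd xd23 yd9 zd13) (kd xd31 yd0 zd14) (kd xd32 yd28 zd34) (kd xd22 yd46 zd9) (kd xd27 yd46 zd41) (kd xd18 yd6 zd49) (kd xd31 yd50 zd22) (kd xd28 yd11 zd47) (kd xd18 yd6 zd52) (kd xd32 yd28 zd35) (kd xd18 yd32 zd25) (kd xd26 yd32 zd8) (kd xd23 yd21 zd21) (kd xd29 yd53 zd10) (kd xd18 yd6 zd54) (kd xd31 yd50 zd18) (kd xd27 yd57 zd4) (kd xd18 yd6 zd56) (kd xd18 yd6 zd61) (kd xd26 yd15 zd35) (kd xd18 yd7 zd10) (kd xd18 yd59 zd0) (kd xd29 yd38 zd5)) (@D3.rec (fun _ => Pt) (kd xd18 yd7 zd22) (kd xd27 yd45 zd36) (kd xd28 yd2 zd25) (kd xd23 yd52 zd57) (kd xd18 yd7 zd23) (kd xd25 yd1 zd30) (kd xd27 yd48 zd47) (kd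 xd18 yd7 zd30) (kd xd21 yd21 zd17) (kd xd20 yd5 zd33) (kd xd23 yd31 zd55) (kd xd21 yd2 zd6) (kd xd31 yd43 zd61) (kd xd18 yd7 zd49) (kd xd23 yd31 zd49) (kd xd26 yd16 zd8) (kd xd27 yd4 zd22) (kd xd21 yd2 zd5) (kd xd25 yd10 zd22) (kd xd30 yd14 zd20) (kd xd18 yd7 zd59) (kd xd30 yd5 zd15) (kd xd18 yd10 zd17) (kd xd18 yd8 zd1) (kd xd18 yd8 zd6) (kd xd27 yd28 zd26) (kd xd27 yd45 zd6) (kd xd18 yd8 zd7) (kd xd25 yd27 zd52) (kd xd29 yd32 zd51) (kd xd31 yd44 zd57) (kd xd26 yd8 zd33) (kd xd18 yd37 zd10) (kd xd29 yd40 zd37) (kd xd30 yd54 zd18) (kd xd26 yd14 zd26) (kd xd18 yd8 zd20) (kd xd19 yd49 zd27) (kd xd20 yd4 zd18) (kd xd24 yd37 zd17) (kd xd18 yd8 zd24) (kd xd18 yd8 zd25) (kd xd24 yd55 zd1) (kd xd29 yd54 zd9) (kd xd23 yd44 zd52) (kd xd31 yd14 zd46) (kd xd18 yd8 zd29) (kd xd27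 yd48 zd6) (kd xd20 yd21 zd29) (kd xd25 yd28 zd59) (kd xd18 yd8 zd32) (kd xd20 yd21 zd30) (kd xd18 yd8 zd35) (kd xd18 yd8 zd36) (kd xd18 yd8 zd37) (kd xd30 yd3 zd29) (kd xd29 yd54 zd16) (kd xd18 yd8 zd39) (kd xd31 yd38 zd11) (kd xd26 yd12 zd53) (kd xd18 yd27 zd16) (kd xd27 yd34 zd25)) (@D3.rec (fun _ => Pt) (kd xd27 yd28 zd30) (kd xd26 yd16 zd20) (kd xd27 yd30 zd48) (kd xd28 yd2 zd18) (kd xd26 yd20 zd52) (kd xd27 yd49 zd8) (kd xd30 yd31 zd53) (kd xd18 yd8 zd48) (kd xd27 yd49 zd5) (kd xd18 yd8 zd50) (kd xd30 yd35 zd42) (kd xd27 yd33 zd5) (kd xd26 yd31 zd30) (kd xd32 yd9 zd43) (kd xd29 yd53 zd45) (kd xd18 yd8 zd56) (kd xd26 yd31 zd33) (kd xd30 yd34 zd51) (kd xd27 yd35 zd17) (kd xd18 yd8 zd58) (kd xd18 yd34 zd37) (kd xd18 yd8 zd60) (kd xd32 yd28 zd43) (kd xd18 yd8 zd61)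 (kd xd32 yd28 zd44) (kd xd18 yd9 zd1) (kd xd21 yd9 zd3) (kd xd32 yd28 zd46) (kd xd30 yd47 zd39) (kd xd28 yd16 zd53) (kd xd18 yd9 zd6) (kd xd25 yd4 zd43) (kd xd18 yd9 zd7) (kd xd25 yd48 zd8) (kd xd18 yd9 zd8) (kd xd25 yd10 zd45) (kd xd26 yd44 zd41) (kd xd27 yd54 zd51) (kd xd18 yd9 zd11) (kd xd18 yd58 zd26) (kd xd26 yd18 zd25) (kd xd27 yd43 zd9) (kd xd18 yd9 zd17) (kd xd18 yd9 zd18) (kd xd27 yd38 zd40) (kd xd18 yd9 zd20) (kd xd32 yd28 zd52) (kd xd25 yd39 zd59) (kd xd22 yd6 zd30) (kd xd32 yd28 zd54) (kd xd32 yd28 zd55) (kd xd18 yd9 zd24) (kd xd31 yd25 zd43) (kd xd32 yd1 zd48) (kd xd18 yd9 zd27) (kd xd27 yd53 zd3) (kd xd27 yd32 zd30) (kd xd32 yd28 zd58) (kd xd28 yd5 zd43) (kd xd30 yd38 zd32) (kd xd32 yd28 zd60) (kd xd28 yd4 zd42)) (@D3.rec (fun _ => Pt) (kd xd18 yd9 zd33)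 (kd xd27 yd32 zd23) (kd xd30 yd24 zd47) (kd xd18 yd9 zd34) (kd xd31 yd8 zd19) (kd xd18 yd9 zd35) (kd xd31 yd1 zd61) (kd xd28 yd22 zd43) (kd xd29 yd25 zd19) (kd xd32 yd29 zd0) (kd xd18 yd9 zd41) (kd xd18 yd9 zd43) (kd xd31 yd37 zd40) (kd xd32 yd27 zd44) (kd xd18 yd9 zd45) (kd xd18 yd14 zd53) (kd xd32 yd29 zd3) (kd xd18 yd14 zd55) (kd xd28 yd7 zd37) (kd xd32 yd28 zd39) (kd xd18 yd9 zd51) (kd xd24 yd48 zd7) (kd xd31 yd43 zd36) (kd xd18 yd9 zd54) (kd xd32 yd29 zd5) (kd xd32 yd29 zd7) (kd xd27 yd35 zd16) (kd xd18 yd9 zd56) (kd xd21 yd25 zd33) (kd xd27 yd25 zd58) (kd xd30 yd7 zd9) (kd xd28 yd3 zd53) (kd xd18 yd10 zd4) (kd xd31 yd57 zd54) (kd xd28 yd1 zd52) (kd xd22 yd11 zd42) (kd xd20 yd15 zd21) (kd xd21 yd36 zd38) (kd xd18 yd17 zd19) (kd xd32 yd29 zd9) (kd xd18 yd10 zd14)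 (kd xd31 yd57 zd53) (kd xd24 yd12 zd36) (kd xd28 yd47 zd4) (kd xd18 yd10 zd31) (kd xd25 yd25 zd6) (kd xd18 yd10 zd34) (kd xd28 yd41 zd54) (kd xd18 yd55 zd27) (kd xd18 yd55 zd30) (kd xd19 yd42 zd4) (kd xd32 yd22 zd47) (kd xd18 yd10 zd39) (kd xd26 yd11 zd2) (kd xd32 yd29 zd11) (kd xd28 yd31 zd54) (kd xd29 yd53 zd49) (kd xd32 yd9 zd42) (kd xd18 yd10 zd44) (kd xd18 yd10 zd45) (kd xd31 yd25 zd20) (kd xd28 yd16 zd56)) (@D3.rec (fun _ => Pt) (kd xd24 yd48 zd5) (kd xd18 yd10 zd51) (kd xd31 yd24 zd58) (kd xd18 yd10 zd54) (kd xd22 yd3 zd17) (kd xd26 yd10 zd54) (kd xd26 yd4 zd15) (kd xd23 yd18 zd11) (kd xd27 yd33 zd14) (kd xd18 yd10 zd59) (kd xd26 yd4 zd16) (kd xd27 yd47 zd33) (kd xd18 yd37 zd36) (kd xd32 yd29 zd12) (kd xd18 yd10 zd61) (kd xd29 yd26 zd51) (kd xd26 yd57 zd51) (kd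 xd28 yd32 zd53) (kd xd19 yd22 zd59) (kd xd18 yd11 zd7) (kd xd21 yd30 zd52) (kd xd25 yd15 zd52) (kd xd21 yd54 zd43) (kd xd18 yd17 zd20) (kd xd18 yd11 zd14) (kd xd18 yd11 zd15) (kd xd31 yd25 zd18) (kd xd18 yd11 zd16) (kd xd32 yd29 zd14) (kd xd18 yd11 zd35) (kd xd18 yd11 zd36) (kd xd32 yd26 zd20) (kd xd32 yd27 zd48) (kd xd18 yd11 zd18) (kd xd32 yd29 zd17) (kd xd32 yd27 zd41) (kd xd18 yd11 zd19) (kd xd31 yd57 zd47) (kd xd27 yd33 zd35) (kd xd18 yd11 zd21) (kd xd29 yd20 zd11) (kd xd28 yd23 zd31) (kd xd18 yd11 zd22) (kd xd32 yd25 zd50) (kd xd18 yd11 zd23) (kd xd27 yd54 zd60) (kd xd18 yd14 zd18) (kd xd18 yd14 zd19) (kd xd27 yd15 zd33) (kd xd32 yd10 zd9) (kd xd32 yd29 zd27) (kd xd18 yd11 zd25) (kd xd24 yd13 zd24) (kd xd24 yd13 zd25) (kd xd18 yd11 zd26) (kd xd18 yd13 zd29) (kd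 xd18 yd14 zd54) (kd xd24 yd48 zd30) (kd xd22 yd18 zd13) (kd xd25 yd54 zd41) (kd xd21 yd15 zd3) (kd xd32 yd21 zd45)) (@D3.rec (fun _ => Pt) (kd xd32 yd10 zd6) (kd xd18 yd11 zd32) (kd xd27 yd59 zd51) (kd xd31 yd42 zd39) (kd xd18 yd11 zd33) (kd xd26 yd37 zd45) (kd xd32 yd29 zd15) (kd xd29 yd25 zd27) (kd xd27 yd55 zd21) (kd xd18 yd11 zd37) (kd xd32 yd26 zd14) (kd xd29 yd19 zd46) (kd xd32 yd29 zd38) (kd xd32 yd29 zd39) (kd xd18 yd11 zd39) (kd xd32 yd26 zd1) (kd xd28 yd38 zd5) (kd xd18 yd45 zd58) (kd xd18 yd11 zd40) (kd xd32 yd29 zd40) (kd xd32 yd28 zd40) (kd xd18 yd11 zd41) (kd xd32 yd29 zd42) (kd xd18 yd11 zd45) (kd xd32 yd29 zd43) (kd xd21 yd10 zd41) (kd xd18 yd28 zd18) (kd xd29 yd52 zd51) (kd xd31 yd42 zd6) (kd xd18 yd34 zd8) (kd xd18 yd34 zd9) (kd xd27 yd25 zd52) (kd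 xd26 yd21 zd45) (kd xd18 yd11 zd51) (kd xd29 yd21 zd5) (kd xd31 yd14 zd22) (kd xd18 yd11 zd52) (kd xd24 yd50 zd47) (kd xd18 yd38 zd34) (kd xd28 yd32 zd14) (kd xd28 yd32 zd12) (kd xd23 yd51 zd36) (kd xd18 yd13 zd18) (kd xd28 yd5 zd38) (kd xd27 yd59 zd14) (kd xd18 yd11 zd58) (kd xd18 yd13 zd17) (kd xd28 yd54 zd4) (kd xd32 yd29 zd49) (kd xd18 yd12 zd3) (kd xd20 yd10 zd1) (kd xd30 yd45 zd21) (kd xd18 yd34 zd27) (kd xd18 yd14 zd33) (kd xd28 yd7 zd31) (kd xd18 yd14 zd34) (kd xd18 yd42 zd51) (kd xd32 yd29 zd51) (kd xd27 yd53 zd4) (kd xd29 yd2 zd2) (kd xd18 yd12 zd12) (kd xd18 yd34 zd0)) (@D3.rec (fun _ => Pt) (kd xd18 yd12 zd13) (kd xd29 yd53 zd1) (kd xd18 yd12 zd16) (kd xd27 yd49 zd55) (kd xd27 yd52 zd58) (kd xd18 yd12 zd17) (kd xd30 yd24 zd45) (kd xd24 yd34 zd32) (kd xd18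 yd12 zd19) (kd xd31 yd39 zd1) (kd xd21 yd12 zd12) (kd xd31 yd42 zd53) (kd xd22 yd10 zd29) (kd xd18 yd34 zd20) (kd xd32 yd1 zd33) (kd xd18 yd12 zd26) (kd xd29 yd20 zd55) (kd xd32 yd29 zd61) (kd xd18 yd12 zd36) (kd xd29 yd27 zd40) (kd xd18 yd34 zd47) (kd xd32 yd30 zd0) (kd xd18 yd12 zd40) (kd xd27 yd39 zd1) (kd xd18 yd12 zd44) (kd xd32 yd30 zd1) (kd xd30 yd45 zd25) (kd xd26 yd17 zd36) (kd xd18 yd12 zd47) (kd xd18 yd12 zd50) (kd xd28 yd48 zd34) (kd xd20 yd54 zd5) (kd xd20 yd45 zd1) (kd xd30 yd51 zd12) (kd xd26 yd4 zd14) (kd xd18 yd13 zd2) (kd xd31 yd14 zd52) (kd xd22 yd49 zd38) (kd xd29 yd15 zd43) (kd xd27 yd33 zd39) (kd xd18 yd38 zd35) (kd xd27 yd54 zd46) (kd xd32 yd30 zd6) (kd xd32 yd30 zd7) (kd xd18 yd13 zd9) (kd xd18 yd33 zd17) (kd xd28 yd9 zd26) (kd xd28 yd5 zd59)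 (kd xd32 yd27 zd55) (kd xd24 yd44 zd3) (kd xd27 yd54 zd41) (kd xd18 yd13 zd21) (kd xd21 yd11 zd57) (kd xd18 yd13 zd22) (kd xd22 yd34 zd39) (kd xd29 yd20 zd25) (kd xd22 yd49 zd36) (kd xd20 yd21 zd11) (kd xd18 yd31 zd10) (kd xd18 yd14 zd46) (kd xd28 yd7 zd33) (kd xd31 yd17 zd26)) (@D3.rec (fun _ => Pt) (kd xd20 yd45 zd21) (kd xd29 yd31 zd28) (kd xd18 yd13 zd35) (kd xd27 yd33 zd3) (kd xd32 yd13 zd54) (kd xd18 yd13 zd37) (kd xd30 yd5 zd54) (kd xd27 yd33 zd22) (kd xd32 yd25 zd33) (kd xd18 yd13 zd41) (kd xd25 yd5 zd33) (kd xd21 yd40 zd30) (kd xd27 yd33 zd25) (kd xd31 yd5 zd33) (kd xd31 yd5 zd7) (kd xd18 yd13 zd48) (kd xd29 yd54 zd33) (kd xd30 yd5 zd9) (kd xd28 yd6 zd54) (kd xd18 yd32 zd23) (kd xd28 yd0 zd10) (kd xd30 yd5 zd11) (kd xd18 yd13 zd58) (kd xd32 yd30 zd10) (kd xd18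 yd13 zd60) (kd xd28 yd4 zd21) (kd xd18 yd13 zd61) (kd xd28 yd16 zd55) (kd xd24 yd8 zd16) (kd xd18 yd14 zd4) (kd xd31 yd47 zd28) (kd xd28 yd6 zd34) (kd xd28 yd6 zd33) (kd xd21 yd51 zd49) (kd xd32 yd29 zd24) (kd xd30 yd40 zd15) (kd xd18 yd14 zd20) (kd xd18 yd30 zd44) (kd xd18 yd30 zd36) (kd xd18 yd30 zd37) (kd xd27 yd36 zd51) (kd xd27 yd53 zd50) (kd xd18 yd14 zd27) (kd xd18 yd14 zd28) (kd xd24 yd12 zd42) (kd xd18 yd14 zd31) (kd xd27 yd53 zd41) (kd xd25 yd26 zd31) (kd xd31 yd44 zd14) (kd xd31 yd27 zd46) (kd xd18 yd14 zd35) (kd xd27 yd49 zd37) (kd xd18 yd31 zd17) (kd xd20 yd10 zd38) (kd xd27 yd1 zd29) (kd xd29 yd24 zd60) (kd xd18 yd42 zd50) (kd xd28 yd6 zd11) (kd xd32 yd30 zd19) (kd xd18 yd14 zd41) (kd xd27 yd51 zd45) (kd xd28 yd47 zd16)) (@D3.rec (fun _ => Pt) (kd xd32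 yd24 zd56) (kd xd27 yd29 zd45) (kd xd27 yd29 zd46) (kd xd18 yd31 zd9) (kd xd28 yd38 zd6) (kd xd26 yd18 zd29) (kd xd28 yd8 zd11) (kd xd32 yd21 zd31) (kd xd30 yd45 zd19) (kd xd18 yd14 zd48) (kd xd31 yd14 zd28) (kd xd31 yd42 zd17) (kd xd18 yd14 zd49) (kd xd28 yd8 zd10) (kd xd18 yd14 zd50) (kd xd32 yd7 zd27) (kd xd29 yd54 zd26) (kd xd32 yd7 zd25) (kd xd27 yd32 zd15) (kd xd32 yd30 zd24) (kd xd27 yd32 zd14) (kd xd27 yd52 zd8) (kd xd18 yd14 zd61) (kd xd28 yd31 zd46) (kd xd27 yd33 zd4) (kd xd18 yd15 zd0) (kd xd32 yd0 zd1) (kd xd32 yd0 zd3) (kd xd18 yd15 zd2) (kd xd18 yd15 zd5) (kd xd26 yd29 zd13) (kd xd27 yd33 zd6) (kd xd18 yd15 zd10) (kd xd32 yd26 zd0) (kd xd18 yd15 zd18) (kd xd31 yd42 zd23) (kd xd18 yd15 zd21) (kd xd18 yd15 zd25) (kd xd18 yd15 zd26) (kd xd23 yd13 zd14) (kd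 xd24 yd32 zd56) (kd xd23 yd9 zd8) (kd xd18 yd15 zd42) (kd xd28 yd9 zd51) (kd xd30 yd32 zd9) (kd xd18 yd15 zd48) (kd xd29 yd38 zd23) (kd xd23 yd11 zd44) (kd xd22 yd31 zd43) (kd xd18 yd15 zd56) (kd xd22 yd30 zd55) (kd xd24 yd54 zd40) (kd xd26 yd18 zd21) (kd xd21 yd49 zd29) (kd xd18 yd15 zd59) (kd xd18 yd16 zd0) (kd xd27 yd8 zd27) (kd xd29 yd35 zd10) (kd xd18 yd16 zd10) (kd xd27 yd41 zd26) (kd xd18 yd16 zd15) (kd xd26 yd46 zd11)) (@D3.rec (fun _ => Pt) (kd xd18 yd16 zd18) (kd xd18 yd16 zd21) (kd xd18 yd16 zd25) (kd xd18 yd16 zd29) (kd xd30 yd23 zd25) (kd xd20 yd49 zd57) (kd xd27 yd47 zd14) (kd xd18 yd16 zd40) (kd xd28 yd25 zd47) (kd xd24 yd22 zd5) (kd xd28 yd1 zd56) (kd xd28 yd1 zd53) (kd xd18 yd16 zd56) (kd xd27 yd47 zd6) (kd xd18 yd16 zd57) (kd xd31 yd1 zd48) (kd xd31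 yd2 zd30) (kd xd27 yd20 zd37) (kd xd18 yd17 zd13) (kd xd31 yd10 zd61) (kd xd20 yd16 zd48) (kd xd21 yd47 zd11) (kd xd21 yd32 zd59) (kd xd27 yd32 zd2) (kd xd24 yd18 zd10) (kd xd19 yd12 zd55) (kd xd29 yd38 zd24) (kd xd20 yd15 zd18) (kd xd18 yd17 zd34) (kd xd27 yd32 zd16) (kd xd18 yd31 zd39) (kd xd32 yd26 zd59) (kd xd28 yd36 zd15) (kd xd28 yd10 zd34) (kd xd32 yd30 zd37) (kd xd18 yd17 zd36) (kd xd21 yd35 zd3) (kd xd25 yd25 zd26) (kd xd29 yd22 zd9) (kd xd23 yd25 zd37) (kd xd19 yd59 zd18) (kd xd31 yd11 zd38) (kd xd31 yd43 zd28) (kd xd31 yd43 zd30) (kd xd26 yd23 zd31) (kd xd28 yd42 zd54) (kd xd28 yd42 zd53) (kd xd23 yd36 zd22) (kd xd22 yd45 zd2) (kd xd27 yd4 zd4) (kd xd18 yd18 zd5) (kd xd18 yd18 zd6) (kd xd28 yd42 zd41) (kd xd26 yd9 zd1) (kd xd26 yd24 zd46) (kd xd26 yd9 zd3)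 (kd xd24 yd7 zd39) (kd xd18 yd18 zd10) (kd xd23 yd46 zd57) (kd xd21 yd55 zd38) (kd xd22 yd30 zd15) (kd xd20 yd23 zd28)) (@D3.rec (fun _ => Pt) (kd xd32 yd30 zd39) (kd xd21 yd1 zd20) (kd xd26 yd7 zd56) (kd xd21 yd28 zd28) (kd xd27 yd47 zd55) (kd xd31 yd37 zd21) (kd xd26 yd3 zd5) (kd xd32 yd4 zd41) (kd xd18 yd18 zd23) (kd xd21 yd8 zd25) (kd xd20 yd13 zd59) (kd xd25 yd51 zd58) (kd xd18 yd30 zd0) (kd xd24 yd57 zd3) (kd xd22 yd16 zd49) (kd xd24 yd20 zd46) (kd xd26 yd21 zd59) (kd xd28 yd13 zd26) (kd xd29 yd7 zd20) (kd xd21 yd6 zd29) (kd xd20 yd24 zd30) (kd xd18 yd18 zd38) (kd xd31 yd58 zd23) (kd xd18 yd18 zd40) (kd xd20 yd54 zd50) (kd xd30 yd56 zd19) (kd xd18 yd18 zd47) (kd xd24 yd43 zd25) (kd xd21 yd29 zd26) (kd xd22 yd50 zd6) (kd xd32 yd3 zd10) (kd xd18 yd18 zd51) (kd xd31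 yd43 zd2) (kd xd24 yd30 zd47) (kd xd31 yd38 zd39) (kd xd18 yd18 zd54) (kd xd29 yd19 zd24) (kd xd29 yd42 zd40) (kd xd26 yd31 zd11) (kd xd30 yd6 zd57) (kd xd27 yd5 zd24) (kd xd18 yd18 zd59) (kd xd31 yd12 zd23) (kd xd28 yd11 zd12) (kd xd28 yd11 zd8) (kd xd22 yd29 zd15) (kd xd18 yd18 zd61) (kd xd21 yd4 zd25) (kd xd26 yd27 zd47) (kd xd26 yd27 zd34) (kd xd18 yd19 zd3) (kd xd26 yd27 zd52) (kd xd18 yd19 zd5) (kd xd26 yd20 zd2) (kd xd30 yd32 zd56) (kd xd23 yd18 zd28) (kd xd22 yd31 zd38) (kd xd18 yd19 zd9) (kd xd32 yd3 zd11) (kd xd32 yd23 zd12) (kd xd32 yd30 zd41) (kd xd21 yd24 zd42)) (@D3.rec (fun _ => Pt) (kd xd18 yd19 zd16) (kd xd32 yd30 zd43) (kd xd32 yd30 zd44) (kd xd18 yd19 zd17) (kd xd31 yd8 zd46) (kd xd18 yd19 zd18) (kd xd29 yd9 zd55) (kd xd29 yd10 zd0) (kd xd21 yd34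 zd21) (kd xd18 yd19 zd20) (kd xd18 yd19 zd21) (kd xd18 yd19 zd22) (kd xd30 yd10 zd19) (kd xd18 yd19 zd24) (kd xd25 yd39 zd35) (kd xd21 yd10 zd42) (kd xd26 yd27 zd27) (kd xd26 yd27 zd55) (kd xd26 yd27 zd56) (kd xd18 yd19 zd32) (kd xd28 yd26 zd57) (kd xd18 yd19 zd33) (kd xd20 yd30 zd18) (kd xd18 yd19 zd34) (kd xd24 yd23 zd17) (kd xd21 yd25 zd32) (kd xd30 yd57 zd7) (kd xd32 yd8 zd47) (kd xd18 yd19 zd43) (kd xd18 yd19 zd44) (kd xd18 yd19 zd45) (kd xd26 yd38 zd18) (kd xd24 yd25 zd40) (kd xd23 yd14 zd35) (kd xd28 yd12 zd46) (kd xd28 yd37 zd51) (kd xd25 yd28 zd30) (kd xd25 yd28 zd33) (kd xd18 yd19 zd55) (kd xd18 yd19 zd57) (kd xd29 yd4 zd12) (kd xd27 yd17 zd52) (kd xd18 yd19 zd59) (kd xd18 yd19 zd60) (kd xd20 yd14 zd47) (kd xd27 yd9 zd48) (kd xd30 yd59 zd52) (kd xd18 yd20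 zd1) (kd xd18 yd20 zd3) (kd xd26 yd0 zd51) (kd xd28 yd27 zd55) (kd xd25 yd14 zd36) (kd xd24 yd59 zd19) (kd xd18 yd20 zd8) (kd xd22 yd18 zd6) (kd xd26 yd0 zd57) (kd xd23 yd31 zd51) (kd xd28 yd23 zd26) (kd xd28 yd23 zd24) (kd xd19 yd3 zd19) (kd xd18 yd20 zd16) (kd xd27 yd15 zd34)) (@D3.rec (fun _ => Pt) (kd xd32 yd30 zd50) (kd xd18 yd20 zd18) (kd xd22 yd7 zd12) (kd xd22 yd7 zd13) (kd xd18 yd20 zd19) (kd xd30 yd18 zd55) (kd xd27 yd8 zd19) (kd xd18 yd20 zd20) (kd xd28 yd52 zd10) (kd xd22 yd40 zd12) (kd xd27 yd3 zd46) (kd xd18 yd20 zd27) (kd xd27 yd23 zd57) (kd xd32 yd29 zd60) (kd xd27 yd52 zd44) (kd xd20 yd31 zd51) (kd xd32 yd30 zd12) (kd xd31 yd11 zd27) (kd xd25 yd39 zd57) (kd xd29 yd58 zd40) (kd xd22 yd48 zd5) (kd xd22 yd48 zd4) (kd xd30 yd52 zd22) (kd xd30 yd52 zd39)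 (kd xd25 yd38 zd59) (kd xd31 yd24 zd61) (kd xd18 yd20 zd54) (kd xd24 yd19 zd10) (kd xd18 yd20 zd55) (kd xd32 yd23 zd45) (kd xd19 yd3 zd18) (kd xd22 yd20 zd15) (kd xd19 yd46 zd7) (kd xd23 yd35 zd54) (kd xd22 yd26 zd24) (kd xd20 yd36 zd38) (kd xd30 yd30 zd56) (kd xd18 yd21 zd10) (kd xd22 yd5 zd18) (kd xd18 yd42 zd47) (kd xd32 yd30 zd54) (kd xd27 yd3 zd36) (kd xd32 yd21 zd35) (kd xd28 yd20 zd55) (kd xd28 yd21 zd24) (kd xd18 yd21 zd17) (kd xd31 yd55 zd13) (kd xd29 yd41 zd3) (kd xd30 yd36 zd33) (kd xd30 yd11 zd38) (kd xd22 yd11 zd18) (kd xd27 yd52 zd2) (kd xd18 yd21 zd21) (kd xd19 yd23 zd6) (kd xd19 yd48 zd1) (kd xd28 yd32 zd24) (kd xd21 yd2 zd33) (kd xd23 yd49 zd12) (kd xd32 yd20 zd0) (kd xd26 yd43 zd20) (kd xd31 yd6 zd50) (kd xd27 yd15 zd0))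
def f_d_28 : D2 → D3 → Pt := @D2.rec (fun _ => D3 → Pt) (@D3.rec (fun _ => Pt) (kd xd24 yd5 zd40) (kd xd19 yd0 zd37) (kd xd18 yd40 zd35) (kd xd31 yd23 zd51) (kd xd18 yd21 zd55) (kd xd32 yd21 zd55) (kd xd24 yd56 zd42) (kd xd18 yd21 zd56) (kd xd28 yd12 zd55) (kd xd28 yd26 zd27) (kd xd27 yd54 zd20) (kd xd18 yd21 zd61) (kd xd24 yd5 zd39) (kd xd26 yd23 zd46) (kd xd28 yd26 zd33) (kd xd24 yd53 zd58) (kd xd25 yd0 zd5) (kd xd32 yd2 zd2) (kd xd19 yd40 zd51) (kd xd19 yd41 zd13) (kd xd26 yd26 zd0) (kd xd26 yd35 zd26) (kd xd28 yd54 zd12) (kd xd28 yd54 zd38) (kd xd23 yd15 zd17) (kd xd27 yd5 zd56) (kd xd28 yd35 zd42) (kd xd26 yd32 zd43) (kd xd27 yd9 zd39) (kd xd31 yd23 zd16) (kd xd18 yd39 zd59) (kd xd23 yd22 zd34) (kd xd26 yd29 zd32) (kd xd21 yd6 zd31) (kd xd18 yd22 zd53) (kd xd21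 yd28 zd7) (kd xd30 yd30 zd50) (kd xd18 yd27 zd49) (kd xd23 yd35 zd5) (kd xd27 yd45 zd50) (kd xd20 yd52 zd23) (kd xd28 yd13 zd13) (kd xd28 yd28 zd51) (kd xd29 yd35 zd43) (kd xd18 yd23 zd10) (kd xd18 yd23 zd12) (kd xd20 yd32 zd23) (kd xd18 yd51 zd53) (kd xd22 yd56 zd1) (kd xd24 yd29 zd3) (kd xd23 yd17 zd47) (kd xd23 yd20 zd40) (kd xd29 yd18 zd39) (kd xd18 yd59 zd53) (kd xd21 yd44 zd51) (kd xd26 yd32 zd18) (kd xd29 yd14 zd39) (kd xd29 yd14 zd40) (kd xd27 yd5 zd33) (kd xd18 yd24 zd3) (kd xd29 yd32 zd52) (kd xd18 yd24 zd11)) (@D3.rec (fun _ => Pt) (kd xd18 yd24 zd19) (kd xd32 yd27 zd47) (kd xd18 yd24 zd25) (kd xd18 yd24 zd26) (kd xd31 yd58 zd40) (kd xd20 yd52 zd48) (kd xd26 yd0 zd45) (kd xd23 yd53 zd56) (kd xd22 yd40 zd33) (kd xd26 yd55 zd7) (kd xd26 yd55 zd8) (kd xd21 yd43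 zd52) (kd xd22 yd5 zd21) (kd xd22 yd5 zd19) (kd xd25 yd44 zd54) (kd xd19 yd25 zd6) (kd xd30 yd7 zd37) (kd xd27 yd0 zd45) (kd xd27 yd5 zd42) (kd xd31 yd11 zd28) (kd xd21 yd14 zd18) (kd xd19 yd2 zd47) (kd xd18 yd25 zd13) (kd xd21 yd20 zd26) (kd xd20 yd2 zd13) (kd xd27 yd37 zd39) (kd xd18 yd25 zd25) (kd xd25 yd12 zd14) (kd xd18 yd25 zd29) (kd xd22 yd45 zd38) (kd xd22 yd45 zd39) (kd xd18 yd25 zd38) (kd xd26 yd10 zd36) (kd xd26 yd3 zd56) (kd xd21 yd19 zd37) (kd xd21 yd57 zd35) (kd xd21 yd52 zd28) (kd xd18 yd25 zd58) (kd xd28 yd55 zd55) (kd xd27 yd36 zd56) (kd xd26 yd58 zd35) (kd xd18 yd26 zd7) (kd xd29 yd58 zd41) (kd xd21 yd44 zd1) (kd xd28 yd3 zd58) (kd xd24 yd3 zd10) (kd xd28 yd27 zd38) (kd xd27 yd20 zd33) (kd xd18 yd26 zd38) (kd xd18 yd26 zd39) (kd xd31 yd6 zd60) (kd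 xd18 yd29 zd46) (kd xd27 yd50 zd34) (kd xd27 yd56 zd11) (kd xd24 yd44 zd49) (kd xd24 yd44 zd53) (kd xd27 yd56 zd10) (kd xd31 yd34 zd17) (kd xd32 yd19 zd47) (kd xd31 yd42 zd44) (kd xd32 yd6 zd36) (kd xd25 yd3 zd60)) (@D3.rec (fun _ => Pt) (kd xd27 yd25 zd9) (kd xd31 yd11 zd40) (kd xd30 yd0 zd51) (kd xd30 yd57 zd49) (kd xd28 yd9 zd61) (kd xd30 yd57 zd18) (kd xd32 yd31 zd3) (kd xd18 yd28 zd0) (kd xd30 yd58 zd2) (kd xd18 yd29 zd15) (kd xd18 yd28 zd3) (kd xd32 yd31 zd5) (kd xd27 yd46 zd31) (kd xd32 yd31 zd6) (kd xd18 yd27 zd5) (kd xd27 yd46 zd45) (kd xd26 yd16 zd10) (kd xd31 yd6 zd56) (kd xd27 yd49 zd3) (kd xd28 yd9 zd28) (kd xd18 yd31 zd54) (kd xd26 yd20 zd49) (kd xd27 yd26 zd26) (kd xd22 yd15 zd43) (kd xd26 yd12 zd37) (kd xd27 yd48 zd2) (kd xd32 yd28 zd36) (kd xd18 yd49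 zd27) (kd xd18 yd49 zd44) (kd xd18 yd27 zd20) (kd xd18 yd27 zd24) (kd xd31 yd38 zd12) (kd xd27 yd26 zd10) (kd xd25 yd1 zd21) (kd xd28 yd3 zd10) (kd xd18 yd27 zd37) (kd xd28 yd3 zd37) (kd xd24 yd28 zd9) (kd xd18 yd28 zd10) (kd xd32 yd31 zd10) (kd xd18 yd27 zd52) (kd xd20 yd59 zd33) (kd xd30 yd33 zd42) (kd xd23 yd48 zd43) (kd xd27 yd8 zd45) (kd xd32 yd31 zd11) (kd xd18 yd27 zd55) (kd xd18 yd53 zd6) (kd xd29 yd48 zd15) (kd xd18 yd27 zd57) (kd xd18 yd29 zd17) (kd xd22 yd39 zd0) (kd xd22 yd19 zd20) (kd xd30 yd58 zd46) (kd xd18 yd28 zd52) (kd xd18 yd28 zd6) (kd xd31 yd44 zd10) (kd xd30 yd58 zd5) (kd xd27 yd4 zd47) (kd xd31 yd1 zd37) (kd xd30 yd58 zd16) (kd xd18 yd28 zd9)) (@D3.rec (fun _ => Pt) (kd xd18 yd29 zd31) (kd xd27 yd20 zd39) (kd xd28 yd41 zd35) (kd xd18 yd28 zd13)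 (kd xd22 yd31 zd14) (kd xd18 yd40 zd33) (kd xd30 yd0 zd18) (kd xd28 yd27 zd40) (kd xd18 yd28 zd17) (kd xd30 yd4 zd15) (kd xd28 yd2 zd34) (kd xd32 yd31 zd16) (kd xd18 yd28 zd22) (kd xd18 yd31 zd60) (kd xd18 yd31 zd58) (kd xd29 yd15 zd48) (kd xd26 yd28 zd51) (kd xd29 yd15 zd46) (kd xd27 yd24 zd3) (kd xd32 yd4 zd55) (kd xd18 yd28 zd27) (kd xd25 yd14 zd13) (kd xd18 yd28 zd29) (kd xd18 yd31 zd55) (kd xd29 yd15 zd50) (kd xd23 yd28 zd45) (kd xd27 yd47 zd7) (kd xd29 yd15 zd49) (kd xd24 yd40 zd55) (kd xd29 yd14 zd29) (kd xd24 yd45 zd8) (kd xd28 yd10 zd15) (kd xd21 yd31 zd14) (kd xd32 yd31 zd21) (kd xd32 yd31 zd22) (kd xd28 yd4 zd29) (kd xd28 yd4 zd28) (kd xd28 yd2 zd36) (kd xd25 yd6 zd32) (kd xd18 yd29 zd1) (kd xd27 yd15 zd2) (kd xd18 yd29 zd4) (kd xd18 yd29 zd7) (kd xd32 yd27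 zd26) (kd xd30 yd6 zd31) (kd xd26 yd7 zd13) (kd xd25 yd2 zd26) (kd xd27 yd45 zd37) (kd xd32 yd9 zd46) (kd xd18 yd29 zd19) (kd xd22 yd36 zd53) (kd xd21 yd31 zd39) (kd xd18 yd29 zd24) (kd xd27 yd50 zd31) (kd xd18 yd36 zd58) (kd xd21 yd34 zd58) (kd xd18 yd29 zd29) (kd xd18 yd29 zd32) (kd xd28 yd1 zd44) (kd xd32 yd31 zd25) (kd xd21 yd34 zd59) (kd xd27 yd3 zd55)) (@D3.rec (fun _ => Pt) (kd xd27 yd4 zd34) (kd xd21 yd26 zd50) (kd xd27 yd22 zd8) (kd xd27 yd4 zd35) (kd xd28 yd43 zd50) (kd xd32 yd31 zd28) (kd xd18 yd29 zd48) (kd xd30 yd1 zd56) (kd xd21 yd54 zd57) (kd xd32 yd9 zd47) (kd xd28 yd11 zd37) (kd xd23 yd52 zd33) (kd xd18 yd30 zd1) (kd xd31 yd42 zd26) (kd xd25 yd16 zd19) (kd xd18 yd30 zd4) (kd xd18 yd30 zd5) (kd xd32 yd6 zd22) (kd xd23 yd26 zd38) (kd xd26 yd13 zd53) (kd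 xd25 yd0 zd17) (kd xd27 yd54 zd25) (kd xd18 yd30 zd14) (kd xd28 yd4 zd25) (kd xd27 yd25 zd21) (kd xd28 yd4 zd23) (kd xd18 yd30 zd21) (kd xd24 yd58 zd54) (kd xd28 yd3 zd36) (kd xd28 yd3 zd35) (kd xd27 yd25 zd20) (kd xd23 yd37 zd60) (kd xd21 yd10 zd53) (kd xd18 yd30 zd31) (kd xd18 yd30 zd48) (kd xd32 yd31 zd32) (kd xd31 yd9 zd39) (kd xd18 yd30 zd33) (kd xd18 yd30 zd34) (kd xd32 yd31 zd35) (kd xd27 yd35 zd18) (kd xd30 yd55 zd8) (kd xd27 yd49 zd61) (kd xd28 yd8 zd54) (kd xd18 yd30 zd38) (kd xd18 yd33 zd57) (kd xd18 yd33 zd58) (kd xd30 yd54 zd49) (kd xd28 yd8 zd32) (kd xd32 yd26 zd32) (kd xd27 yd32 zd5) (kd xd18 yd30 zd41) (kd xd28 yd8 zd8) (kd xd19 yd3 zd12) (kd xd31 yd39 zd33) (kd xd31 yd25 zd13) (kd xd28 yd33 zd38) (kd xd30 yd24 zd53) (kd xd18 yd30 zd50) (kd xd32 yd31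 zd41) (kd xd18 yd30 zd52) (kd xd18 yd30 zd53)) (@D3.rec (fun _ => Pt) (kd xd28 yd45 zd39) (kd xd18 yd30 zd54) (kd xd27 yd33 zd33) (kd xd32 yd7 zd46) (kd xd18 yd30 zd55) (kd xd30 yd44 zd61) (kd xd18 yd30 zd58) (kd xd18 yd30 zd59) (kd xd25 yd24 zd3) (kd xd25 yd24 zd4) (kd xd28 yd22 zd19) (kd xd31 yd39 zd31) (kd xd28 yd23 zd30) (kd xd32 yd30 zd25) (kd xd28 yd59 zd9) (kd xd18 yd31 zd1) (kd xd28 yd7 zd9) (kd xd28 yd8 zd15) (kd xd26 yd39 zd43) (kd xd19 yd17 zd34) (kd xd18 yd31 zd7) (kd xd26 yd21 zd22) (kd xd29 yd52 zd61) (kd xd24 yd59 zd28) (kd xd18 yd31 zd8) (kd xd31 yd15 zd23) (kd xd22 yd28 zd53) (kd xd22 yd51 zd54) (kd xd22 yd51 zd53) (kd xd30 yd32 zd1) (kd xd32 yd10 zd25) (kd xd30 yd35 zd36) (kd xd31 yd53 zd47) (kd xd18 yd31 zd15) (kd xd27 yd35 zd21) (kd xd28 yd16 zd6)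 (kd xd25 yd26 zd28) (kd xd21 yd28 zd50) (kd xd27 yd52 zd43) (kd xd27 yd32 zd12) (kd xd27 yd34 zd8) (kd xd18 yd34 zd12) (kd xd18 yd34 zd15) (kd xd27 yd49 zd58) (kd xd19 yd58 zd20) (kd xd18 yd34 zd10) (kd xd29 yd28 zd31) (kd xd32 yd31 zd23) (kd xd32 yd31 zd51) (kd xd32 yd31 zd52) (kd xd18 yd31 zd28) (kd xd32 yd31 zd55) (kd xd32 yd31 zd56) (kd xd32 yd31 zd57) (kd xd18 yd31 zd30) (kd xd27 yd39 zd46) (kd xd32 yd31 zd58) (kd xd18 yd31 zd31) (kd xd32 yd29 zd50) (kd xd27 yd53 zd47) (kd xd32 yd31 zd59) (kd xd19 yd12 zd4)) (@D3.rec (fun _ => Pt) (kd xd27 yd16 zd45) (kd xd32 yd30 zd14) (kd xd28 yd32 zd1) (kd xd30 yd35 zd18) (kd xd18 yd31 zd35) (kd xd27 yd6 zd6) (kd xd27 yd29 zd44) (kd xd30 yd41 zd23) (kd xd18 yd35 zd25) (kd xd26 yd4 zd19) (kd xd26 yd4 zd17) (kd xd27 yd54 zd57)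 (kd xd26 yd4 zd22) (kd xd26 yd4 zd21) (kd xd18 yd31 zd43) (kd xd25 yd3 zd56) (kd xd31 yd7 zd39) (kd xd18 yd31 zd44) (kd xd18 yd47 zd9) (kd xd28 yd25 zd39) (kd xd18 yd31 zd47) (kd xd32 yd32 zd3) (kd xd31 yd5 zd9) (kd xd27 yd33 zd34) (kd xd18 yd31 zd49) (kd xd21 yd4 zd43) (kd xd19 yd22 zd25) (kd xd23 yd22 zd1) (kd xd18 yd31 zd53) (kd xd31 yd47 zd25) (kd xd22 yd34 zd56) (kd xd18 yd31 zd61) (kd xd18 yd32 zd1) (kd xd27 yd54 zd32) (kd xd27 yd54 zd31) (kd xd27 yd20 zd16) (kd xd31 yd1 zd23) (kd xd18 yd32 zd4) (kd xd31 yd59 zd13) (kd xd18 yd32 zd5) (kd xd18 yd32 zd7) (kd xd18 yd32 zd9) (kd xd21 yd31 zd21) (kd xd31 yd6 zd57) (kd xd32 yd6 zd50) (kd xd27 yd20 zd25) (kd xd21 yd21 zd18) (kd xd32 yd22 zd50) (kd xd18 yd32 zd17) (kd xd31 yd39 zd23) (kd xd18 yd32 zd18) (kd xd24 yd48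 zd18) (kd xd24 yd12 zd40) (kd xd18 yd32 zd19) (kd xd27 yd54 zd18) (kd xd30 yd44 zd31) (kd xd29 yd20 zd58) (kd xd27 yd33 zd23) (kd xd18 yd32 zd22) (kd xd24 yd53 zd61) (kd xd31 yd15 zd9) (kd xd18 yd32 zd27)) (@D3.rec (fun _ => Pt) (kd xd25 yd45 zd19) (kd xd30 yd1 zd24) (kd xd25 yd45 zd17) (kd xd26 yd11 zd38) (kd xd21 yd31 zd27) (kd xd31 yd43 zd59) (kd xd28 yd10 zd27) (kd xd18 yd38 zd11) (kd xd26 yd30 zd6) (kd xd28 yd5 zd16) (kd xd18 yd32 zd51) (kd xd31 yd24 zd60) (kd xd18 yd32 zd52) (kd xd32 yd27 zd37) (kd xd18 yd32 zd53) (kd xd19 yd6 zd27) (kd xd18 yd32 zd55) (kd xd32 yd23 zd15) (kd xd18 yd32 zd56) (kd xd29 yd25 zd4) (kd xd27 yd31 zd61) (kd xd26 yd21 zd20) (kd xd18 yd32 zd59) (kd xd25 yd28 zd10) (kd xd24 yd4 zd36) (kd xd18 yd33 zd3) (kd xd29 yd53 zd3) (kd xd32 yd29 zd59)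 (kd xd18 yd33 zd5) (kd xd28 yd8 zd41) (kd xd32 yd7 zd33) (kd xd27 yd52 zd54) (kd xd32 yd32 zd5) (kd xd27 yd53 zd60) (kd xd28 yd17 zd6) (kd xd18 yd33 zd10) (kd xd32 yd25 zd43) (kd xd27 yd50 zd18) (kd xd18 yd33 zd11) (kd xd29 yd1 zd12) (kd xd30 yd35 zd37) (kd xd27 yd33 zd54) (kd xd32 yd32 zd6) (kd xd18 yd33 zd18) (kd xd32 yd25 zd54) (kd xd18 yd33 zd20) (kd xd31 yd53 zd59) (kd xd29 yd20 zd9) (kd xd32 yd25 zd44) (kd xd28 yd30 zd14) (kd xd19 yd4 zd37) (kd xd28 yd16 zd54) (kd xd28 yd38 zd47) (kd xd18 yd33 zd31) (kd xd28 yd50 zd43) (kd xd29 yd13 zd7) (kd xd18 yd47 zd10) (kd xd30 yd23 zd60) (kd xd32 yd29 zd31) (kd xd26 yd29 zd43) (kd xd18 yd33 zd43) (kd xd32 yd9 zd60)) (@D3.rec (fun _ => Pt) (kd xd18 yd33 zd44) (kd xd18 yd33 zd49) (kd xd24 yd48 zd53) (kd xd31 yd50 zd0) (kd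 xd20 yd0 zd53) (kd xd19 yd29 zd13) (kd xd30 yd41 zd25) (kd xd18 yd33 zd59) (kd xd28 yd4 zd52) (kd xd27 yd15 zd11) (kd xd27 yd55 zd13) (kd xd27 yd55 zd6) (kd xd30 yd31 zd11) (kd xd18 yd34 zd1) (kd xd18 yd34 zd2) (kd xd28 yd5 zd17) (kd xd18 yd34 zd5) (kd xd28 yd51 zd33) (kd xd18 yd34 zd7) (kd xd30 yd59 zd53) (kd xd32 yd29 zd1) (kd xd27 yd35 zd22) (kd xd28 yd9 zd22) (kd xd32 yd31 zd47) (kd xd32 yd32 zd12) (kd xd21 yd7 zd40) (kd xd32 yd32 zd13) (kd xd18 yd34 zd14) (kd xd30 yd48 zd8) (kd xd21 yd12 zd8) (kd xd31 yd53 zd57) (kd xd18 yd34 zd17) (kd xd28 yd4 zd48) (kd xd32 yd16 zd32) (kd xd31 yd23 zd38) (kd xd18 yd34 zd19) (kd xd21 yd12 zd7) (kd xd32 yd7 zd37) (kd xd32 yd6 zd20) (kd xd31 yd58 zd39) (kd xd18 yd34 zd21) (kd xd28 yd7 zd29) (kd xd25 yd40 zd1) (kd xd18 yd34 zd23)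 (kd xd18 yd34 zd24) (kd xd30 yd30 zd22) (kd xd18 yd34 zd25) (kd xd30 yd52 zd12) (kd xd30 yd29 zd11) (kd xd26 yd28 zd52) (kd xd32 yd26 zd37) (kd xd31 yd48 zd38) (kd xd18 yd34 zd30) (kd xd27 yd33 zd55) (kd xd28 yd4 zd43) (kd xd26 yd19 zd48) (kd xd29 yd13 zd31) (kd xd28 yd26 zd45) (kd xd32 yd9 zd37) (kd xd26 yd31 zd39) (kd xd32 yd9 zd58) (kd xd18 yd34 zd38)) (@D3.rec (fun _ => Pt) (kd xd26 yd42 zd41) (kd xd29 yd19 zd47) (kd xd22 yd7 zd49) (kd xd18 yd34 zd40) (kd xd31 yd39 zd29) (kd xd26 yd45 zd21) (kd xd19 yd22 zd35) (kd xd18 yd34 zd46) (kd xd32 yd9 zd33) (kd xd32 yd32 zd18) (kd xd27 yd40 zd57) (kd xd18 yd34 zd49) (kd xd18 yd34 zd53) (kd xd31 yd53 zd53) (kd xd26 yd30 zd38) (kd xd18 yd34 zd57) (kd xd32 yd32 zd19) (kd xd18 yd34 zd61) (kd xd18 yd35 zd3) (kd xd29 yd11 zd60)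 (kd xd20 yd47 zd34) (kd xd18 yd35 zd12) (kd xd28 yd8 zd22) (kd xd26 yd21 zd41) (kd xd18 yd35 zd18) (kd xd18 yd35 zd22) (kd xd27 yd53 zd46) (kd xd32 yd28 zd49) (kd xd28 yd2 zd19) (kd xd30 yd40 zd10) (kd xd23 yd36 zd54) (kd xd18 yd35 zd30) (kd xd22 yd49 zd48) (kd xd18 yd35 zd33) (kd xd32 yd29 zd36) (kd xd18 yd35 zd36) (kd xd24 yd58 zd33) (kd xd27 yd35 zd33) (kd xd30 yd2 zd37) (kd xd30 yd53 zd29) (kd xd26 yd25 zd20) (kd xd27 yd15 zd3) (kd xd18 yd35 zd59) (kd xd18 yd35 zd60) (kd xd18 yd35 zd61) (kd xd32 yd2 zd45) (kd xd18 yd36 zd2) (kd xd18 yd36 zd3) (kd xd22 yd51 zd1) (kd xd31 yd43 zd39) (kd xd18 yd36 zd5) (kd xd27 yd55 zd43) (kd xd28 yd33 zd29) (kd xd18 yd36 zd7) (kd xd18 yd36 zd11) (kd xd18 yd36 zd16) (kd xd21 yd34 zd53) (kd xd21 yd59 zd36) (kd xd32 yd32 zd25) (kd xd21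 yd26 zd36) (kd xd18 yd36 zd35) (kd xd28 yd2 zd4)) (@D3.rec (fun _ => Pt) (kd xd31 yd44 zd19) (kd xd25 yd25 zd31) (kd xd29 yd30 zd42) (kd xd25 yd25 zd28) (kd xd30 yd8 zd54) (kd xd29 yd32 zd48) (kd xd23 yd23 zd35) (kd xd21 yd31 zd8) (kd xd18 yd37 zd45) (kd xd20 yd40 zd30) (kd xd18 yd37 zd19) (kd xd32 yd3 zd49) (kd xd29 yd20 zd43) (kd xd24 yd59 zd49) (kd xd30 yd20 zd6) (kd xd28 yd3 zd31) (kd xd27 yd37 zd36) (kd xd30 yd12 zd22) (kd xd18 yd37 zd51) (kd xd24 yd33 zd0) (kd xd29 yd21 zd50) (kd xd26 yd52 zd48) (kd xd20 yd53 zd13) (kd xd20 yd42 zd50) (kd xd26 yd49 zd31) (kd xd20 yd40 zd19) (kd xd20 yd53 zd17) (kd xd28 yd7 zd6) (kd xd19 yd10 zd56) (kd xd27 yd28 zd33) (kd xd29 yd57 zd26) (kd xd21 yd11 zd37) (kd xd22 yd6 zd17) (kd xd18 yd38 zd32) (kd xd27 yd56 zd33) (kd xd31 yd8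 zd38) (kd xd32 yd29 zd46) (kd xd23 yd14 zd49) (kd xd18 yd38 zd42) (kd xd25 yd25 zd7) (kd xd18 yd38 zd45) (kd xd25 yd1 zd61) (kd xd23 yd14 zd37) (kd xd18 yd38 zd47) (kd xd30 yd58 zd28) (kd xd18 yd38 zd48) (kd xd18 yd38 zd49) (kd xd26 yd15 zd56) (kd xd18 yd38 zd51) (kd xd20 yd10 zd55) (kd xd20 yd10 zd56) (kd xd18 yd38 zd55) (kd xd24 yd59 zd56) (kd xd25 yd42 zd48) (kd xd25 yd39 zd5) (kd xd32 yd32 zd34) (kd xd18 yd39 zd0) (kd xd25 yd42 zd17) (kd xd27 yd0 zd1) (kd xd18 yd39 zd3) (kd xd30 yd58 zd8) (kd xd23 yd32 zd9)) (@D3.rec (fun _ => Pt) (kd xd18 yd39 zd5) (kd xd25 yd42 zd52) (kd xd18 yd39 zd8) (kd xd24 yd26 zd28) (kd xd24 yd26 zd29) (kd xd19 yd11 zd27) (kd xd30 yd11 zd31) (kd xd29 yd6 zd2) (kd xd27 yd57 zd44) (kd xd24 yd48 zd56) (kd xd22 yd29 zd39) (kd xd22 yd29 zd40)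 (kd xd27 yd57 zd43) (kd xd28 yd12 zd37) (kd xd25 yd16 zd16) (kd xd29 yd5 zd11) (kd xd22 yd1 zd8) (kd xd18 yd39 zd31) (kd xd31 yd56 zd51) (kd xd22 yd11 zd23) (kd xd20 yd51 zd29) (kd xd19 yd17 zd14) (kd xd30 yd11 zd33) (kd xd24 yd57 zd25) (kd xd22 yd43 zd60) (kd xd26 yd7 zd4) (kd xd26 yd7 zd6) (kd xd24 yd13 zd42) (kd xd31 yd8 zd40) (kd xd24 yd41 zd5) (kd xd32 yd5 zd4) (kd xd26 yd23 zd35) (kd xd18 yd40 zd5) (kd xd25 yd58 zd7) (kd xd26 yd33 zd4) (kd xd21 yd6 zd6) (kd xd25 yd41 zd17) (kd xd28 yd4 zd10) (kd xd24 yd34 zd30) (kd xd21 yd36 zd36) (kd xd19 yd47 zd1) (kd xd18 yd40 zd12) (kd xd31 yd4 zd11) (kd xd30 yd10 zd32) (kd xd23 yd38 zd35) (kd xd32 yd32 zd39) (kd xd18 yd40 zd17) (kd xd27 yd47 zd46) (kd xd19 yd54 zd31) (kd xd28 yd13 zd23) (kd xd18 yd40 zd19) (kd xd31 yd8 zd41)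 (kd xd32 yd32 zd41) (kd xd18 yd40 zd20) (kd xd23 yd22 zd54) (kd xd31 yd36 zd11) (kd xd21 yd49 zd7) (kd xd21 yd24 zd19) (kd xd31 yd47 zd40) (kd xd21 yd49 zd6) (kd xd23 yd35 zd30) (kd xd23 yd35 zd29)) (@D3.rec (fun _ => Pt) (kd xd24 yd42 zd5) (kd xd18 yd40 zd26) (kd xd22 yd11 zd39) (kd xd23 yd35 zd2) (kd xd30 yd4 zd14) (kd xd18 yd40 zd29) (kd xd25 yd16 zd20) (kd xd31 yd6 zd61) (kd xd18 yd40 zd34) (kd xd26 yd17 zd51) (kd xd23 yd7 zd38) (kd xd18 yd40 zd38) (kd xd23 yd21 zd36) (kd xd31 yd1 zd6) (kd xd21 yd12 zd18) (kd xd18 yd40 zd45) (kd xd18 yd40 zd46) (kd xd30 yd53 zd18) (kd xd18 yd58 zd57) (kd xd18 yd40 zd49) (kd xd23 yd15 zd3) (kd xd18 yd40 zd51) (kd xd18 yd40 zd52) (kd xd25 yd16 zd25) (kd xd26 yd6 zd45) (kd xd23 yd26 zd36) (kd xd29 yd26 zd43) (kd xd31 yd8 zd28) (kd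 xd27 yd40 zd41) (kd xd18 yd40 zd58) (kd xd30 yd2 zd60) (kd xd31 yd43 zd60) (kd xd18 yd42 zd42) (kd xd30 yd40 zd1) (kd xd26 yd9 zd36) (kd xd18 yd41 zd3) (kd xd18 yd41 zd5) (kd xd28 yd11 zd13) (kd xd23 yd31 zd58) (kd xd26 yd56 zd13) (kd xd30 yd39 zd54) (kd xd28 yd28 zd32) (kd xd29 yd0 zd40) (kd xd18 yd41 zd14) (kd xd22 yd17 zd6) (kd xd26 yd49 zd38) (kd xd27 yd58 zd34) (kd xd25 yd58 zd17) (kd xd25 yd58 zd29) (kd xd25 yd59 zd31) (kd xd18 yd41 zd24) (kd xd24 yd57 zd48) (kd xd28 yd24 zd29) (kd xd30 yd22 zd35) (kd xd18 yd41 zd29) (kd xd28 yd0 zd8) (kd xd18 yd41 zd31) (kd xd20 yd10 zd42) (kd xd19 yd8 zd56) (kd xd19 yd8 zd57) (kd xd24 yd38 zd41) (kd xd28 yd35 zd37)) (@D3.rec (fun _ => Pt) (kd xd21 yd44 zd53) (kd xd30 yd49 zd6) (kd xd28 yd28 zd17) (kd xd18 yd41 zd49) (kd xd19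 yd52 zd6) (kd xd32 yd19 zd46) (kd xd26 yd26 zd30) (kd xd25 yd15 zd59) (kd xd28 yd32 zd36) (kd xd23 yd58 zd27) (kd xd25 yd20 zd46) (kd xd28 yd39 zd37) (kd xd18 yd42 zd7) (kd xd28 yd0 zd41) (kd xd18 yd42 zd21) (kd xd28 yd28 zd13) (kd xd18 yd42 zd27) (kd xd21 yd49 zd30) (kd xd32 yd32 zd47) (kd xd31 yd54 zd61) (kd xd18 yd42 zd31) (kd xd32 yd30 zd32) (kd xd18 yd42 zd32) (kd xd28 yd11 zd49) (kd xd18 yd42 zd33) (kd xd31 yd6 zd25) (kd xd27 yd57 zd17) (kd xd29 yd51 zd23) (kd xd18 yd42 zd35) (kd xd18 yd42 zd36) (kd xd26 yd5 zd24) (kd xd18 yd42 zd37) (kd xd25 yd39 zd12) (kd xd30 yd59 zd58) (kd xd31 yd10 zd10) (kd xd18 yd42 zd41) (kd xd21 yd13 zd27) (kd xd24 yd30 zd39) (kd xd23 yd53 zd17) (kd xd18 yd42 zd48) (kd xd26 yd26 zd27) (kd xd18 yd59 zd14) (kd xd29 yd1 zd40) (kd xd29 yd21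 zd33) (kd xd32 yd30 zd17) (kd xd20 yd8 zd44) (kd xd20 yd8 zd45) (kd xd30 yd48 zd18) (kd xd20 yd18 zd14) (kd xd20 yd1 zd11) (kd xd26 yd32 zd51) (kd xd23 yd3 zd42) (kd xd25 yd15 zd61) (kd xd31 yd2 zd34) (kd xd30 yd3 zd48) (kd xd28 yd55 zd53) (kd xd18 yd43 zd23) (kd xd27 yd41 zd21) (kd xd30 yd55 zd46) (kd xd21 yd32 zd38) (kd xd20 yd52 zd9) (kd xd25 yd44 zd49)) (@D3.rec (fun _ => Pt) (kd xd31 yd56 zd9) (kd xd21 yd39 zd51) (kd xd18 yd44 zd1) (kd xd25 yd40 zd48) (kd xd18 yd44 zd3) (kd xd18 yd44 zd4) (kd xd18 yd44 zd5) (kd xd23 yd27 zd25) (kd xd24 yd47 zd4) (kd xd23 yd12 zd28) (kd xd23 yd5 zd59) (kd xd24 yd47 zd3) (kd xd19 yd33 zd42) (kd xd20 yd10 zd6) (kd xd18 yd44 zd11) (kd xd25 yd31 zd25) (kd xd25 yd31 zd26) (kd xd25 yd43 zd44) (kd xd18 yd44 zd13) (kd xd19 yd45 zd7) (kd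 xd18 yd44 zd14) (kd xd24 yd52 zd13) (kd xd18 yd44 zd20) (kd xd19 yd43 zd60) (kd xd24 yd51 zd28) (kd xd32 yd32 zd54) (kd xd18 yd44 zd23) (kd xd19 yd21 zd7) (kd xd24 yd52 zd20) (kd xd19 yd43 zd61) (kd xd32 yd15 zd15) (kd xd18 yd44 zd26) (kd xd28 yd17 zd4) (kd xd20 yd46 zd45) (kd xd21 yd51 zd15) (kd xd32 yd15 zd41) (kd xd21 yd15 zd49) (kd xd18 yd44 zd48) (kd xd18 yd44 zd49) (kd xd28 yd15 zd12) (kd xd30 yd29 zd43) (kd xd32 yd32 zd56) (kd xd30 yd21 zd31) (kd xd32 yd32 zd57) (kd xd18 yd44 zd52) (kd xd32 yd32 zd60) (kd xd18 yd53 zd15) (kd xd29 yd48 zd28) (kd xd18 yd44 zd56) (kd xd18 yd44 zd60) (kd xd23 yd4 zd28) (kd xd24 yd53 zd1) (kd xd30 yd49 zd38) (kd xd22 yd57 zd43) (kd xd23 yd4 zd27) (kd xd29 yd57 zd6) (kd xd30 yd26 zd10) (kd xd29 yd29 zd40) (kd xd23 yd48 zd40) (kd xd21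 yd12 zd31) (kd xd31 yd50 zd26) (kd xd22 yd49 zd18)) (@D3.rec (fun _ => Pt) (kd xd32 yd33 zd0) (kd xd25 yd25 zd27) (kd xd18 yd45 zd10) (kd xd24 yd8 zd39) (kd xd29 yd54 zd49) (kd xd18 yd45 zd13) (kd xd20 yd32 zd53) (kd xd26 yd56 zd3) (kd xd31 yd50 zd33) (kd xd22 yd19 zd5) (kd xd18 yd45 zd18) (kd xd18 yd56 zd0) (kd xd28 yd14 zd39) (kd xd23 yd27 zd38) (kd xd30 yd53 zd52) (kd xd23 yd47 zd52) (kd xd31 yd28 zd7) (kd xd23 yd23 zd50) (kd xd28 yd31 zd16) (kd xd19 yd42 zd12) (kd xd19 yd28 zd4) (kd xd25 yd35 zd10) (kd xd21 yd13 zd32) (kd xd32 yd5 zd32) (kd xd18 yd45 zd45) (kd xd18 yd46 zd44) (kd xd28 yd21 zd19) (kd xd22 yd17 zd49) (kd xd24 yd3 zd1) (kd xd22 yd15 zd26) (kd xd21 yd52 zd10) (kd xd30 yd18 zd13) (kd xd31 yd45 zd17) (kd xd18 yd45 zd56) (kd xd25 yd48 zd7) (kd xd18 yd47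 zd5) (kd xd18 yd47 zd6) (kd xd29 yd52 zd26) (kd xd22 yd20 zd18) (kd xd28 yd55 zd36) (kd xd31 yd59 zd47) (kd xd25 yd27 zd51) (kd xd21 yd52 zd3) (kd xd18 yd54 zd3) (kd xd30 yd56 zd57) (kd xd32 yd33 zd2) (kd xd32 yd33 zd3) (kd xd18 yd46 zd3) (kd xd19 yd41 zd10) (kd xd19 yd42 zd26) (kd xd28 yd17 zd32) (kd xd28 yd45 zd44) (kd xd18 yd46 zd8) (kd xd18 yd46 zd9) (kd xd19 yd17 zd23) (kd xd19 yd41 zd57) (kd xd31 yd51 zd33) (kd xd18 yd54 zd32) (kd xd27 yd10 zd11) (kd xd28 yd41 zd58) (kd xd32 yd15 zd36) (kd xd24 yd16 zd20)) (@D3.rec (fun _ => Pt) (kd xd18 yd46 zd29) (kd xd25 yd12 zd13) (kd xd18 yd51 zd1) (kd xd18 yd46 zd36) (kd xd32 yd33 zd7) (kd xd18 yd46 zd34) (kd xd28 yd5 zd35) (kd xd24 yd16 zd14) (kd xd31 yd25 zd54) (kd xd23 yd49 zd16) (kd xd32 yd33 zd8) (kd xd32 yd33 zd9)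 (kd xd18 yd46 zd39) (kd xd18 yd56 zd7) (kd xd31 yd53 zd43) (kd xd30 yd11 zd51) (kd xd18 yd46 zd42) (kd xd26 yd29 zd34) (kd xd24 yd18 zd51) (kd xd18 yd46 zd45) (kd xd18 yd46 zd46) (kd xd20 yd51 zd23) (kd xd29 yd39 zd28) (kd xd29 yd39 zd29) (kd xd20 yd47 zd19) (kd xd18 yd46 zd49) (kd xd18 yd53 zd25) (kd xd29 yd7 zd30) (kd xd31 yd26 zd21) (kd xd18 yd46 zd51) (kd xd18 yd46 zd53) (kd xd18 yd46 zd54) (kd xd28 yd33 zd0) (kd xd18 yd46 zd56) (kd xd28 yd53 zd1) (kd xd27 yd7 zd6) (kd xd18 yd53 zd13) (kd xd32 yd14 zd59) (kd xd18 yd53 zd14) (kd xd31 yd50 zd11) (kd xd19 yd12 zd47) (kd xd29 yd48 zd23) (kd xd25 yd52 zd40) (kd xd32 yd20 zd23) (kd xd18 yd47 zd0) (kd xd19 yd29 zd43) (kd xd18 yd47 zd2) (kd xd29 yd9 zd25) (kd xd27 yd2 zd27) (kd xd18 yd47 zd7) (kd xd32 yd3 zd53) (kd xd26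 yd32 zd6) (kd xd27 yd22 zd26) (kd xd27 yd49 zd29) (kd xd28 yd7 zd51) (kd xd27 yd54 zd27) (kd xd27 yd50 zd61) (kd xd29 yd52 zd21) (kd xd18 yd47 zd14) (kd xd29 yd39 zd56) (kd xd18 yd47 zd16) (kd xd31 yd36 zd38)) (@D3.rec (fun _ => Pt) (kd xd27 yd9 zd47) (kd xd31 yd19 zd16) (kd xd22 yd22 zd44) (kd xd27 yd9 zd35) (kd xd28 yd14 zd32) (kd xd23 yd53 zd36) (kd xd28 yd7 zd34) (kd xd18 yd47 zd23) (kd xd18 yd47 zd24) (kd xd32 yd2 zd40) (kd xd32 yd22 zd44) (kd xd18 yd47 zd26) (kd xd30 yd36 zd15) (kd xd18 yd47 zd29) (kd xd23 yd53 zd31) (kd xd18 yd53 zd41) (kd xd25 yd57 zd45) (kd xd22 yd1 zd45) (kd xd30 yd9 zd33) (kd xd30 yd38 zd8) (kd xd18 yd47 zd45) (kd xd29 yd29 zd6) (kd xd18 yd47 zd48) (kd xd30 yd45 zd48) (kd xd20 yd31 zd54) (kd xd18 yd47 zd51) (kd xd18 yd47 zd53) (kd xd32 yd33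 zd17) (kd xd18 yd47 zd54) (kd xd18 yd53 zd2) (kd xd18 yd53 zd3) (kd xd28 yd52 zd0) (kd xd28 yd15 zd50) (kd xd30 yd38 zd41) (kd xd18 yd47 zd58) (kd xd19 yd30 zd25) (kd xd30 yd29 zd52) (kd xd24 yd29 zd53) (kd xd18 yd48 zd2) (kd xd30 yd2 zd41) (kd xd18 yd48 zd7) (kd xd32 yd33 zd21) (kd xd32 yd33 zd22) (kd xd18 yd48 zd9) (kd xd30 yd26 zd12) (kd xd18 yd48 zd13) (kd xd18 yd53 zd43) (kd xd25 yd30 zd31) (kd xd18 yd48 zd16) (kd xd31 yd45 zd23) (kd xd18 yd48 zd18) (kd xd22 yd38 zd31) (kd xd32 yd33 zd23) (kd xd18 yd48 zd20) (kd xd32 yd33 zd25) (kd xd18 yd48 zd23) (kd xd18 yd48 zd25) (kd xd19 yd11 zd48) (kd xd18 yd48 zd27) (kd xd24 yd39 zd35) (kd xd30 yd26 zd19) (kd xd32 yd29 zd19)) (@D3.rec (fun _ => Pt) (kd xd29 yd55 zd57) (kd xd19 yd42 zd34) (kd xd29 yd55 zd58) (kd xd29 yd0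 zd43) (kd xd29 yd6 zd30) (kd xd18 yd48 zd41) (kd xd22 yd17 zd16) (kd xd18 yd48 zd42) (kd xd30 yd30 zd59) (kd xd18 yd48 zd44) (kd xd20 yd38 zd14) (kd xd20 yd38 zd27) (kd xd20 yd35 zd30) (kd xd24 yd31 zd44) (kd xd26 yd7 zd25) (kd xd18 yd48 zd48) (kd xd28 yd22 zd1) (kd xd26 yd52 zd45) (kd xd18 yd48 zd52) (kd xd18 yd51 zd9) (kd xd30 yd18 zd24) (kd xd32 yd22 zd31) (kd xd18 yd48 zd60) (kd xd28 yd18 zd28) (kd xd28 yd18 zd26) (kd xd19 yd11 zd24) (kd xd28 yd18 zd24) (kd xd22 yd34 zd58) (kd xd28 yd18 zd23) (kd xd28 yd18 zd37) (kd xd28 yd18 zd34) (kd xd24 yd26 zd19) (kd xd18 yd49 zd5) (kd xd18 yd53 zd42) (kd xd28 yd18 zd30) (kd xd18 yd49 zd9) (kd xd18 yd49 zd11) (kd xd28 yd18 zd29) (kd xd31 yd27 zd5) (kd xd30 yd27 zd60) (kd xd18 yd49 zd13) (kd xd20 yd45 zd17) (kd xd21 yd52 zd59)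 (kd xd20 yd35 zd47) (kd xd22 yd27 zd19) (kd xd29 yd13 zd6) (kd xd18 yd49 zd22) (kd xd29 yd33 zd43) (kd xd22 yd47 zd35) (kd xd22 yd47 zd34) (kd xd30 yd28 zd11) (kd xd26 yd32 zd21) (kd xd25 yd3 zd13) (kd xd18 yd49 zd54) (kd xd28 yd32 zd33) (kd xd32 yd21 zd14) (kd xd18 yd50 zd1) (kd xd18 yd50 zd2) (kd xd19 yd12 zd30) (kd xd21 yd38 zd25) (kd xd18 yd50 zd4) (kd xd32 yd31 zd14)) (@D3.rec (fun _ => Pt) (kd xd30 yd36 zd12) (kd xd27 yd42 zd17) (kd xd18 yd50 zd17) (kd xd23 yd53 zd37) (kd xd32 yd31 zd54) (kd xd31 yd58 zd46) (kd xd18 yd50 zd24) (kd xd27 yd29 zd38) (kd xd30 yd17 zd51) (kd xd18 yd50 zd42) (kd xd21 yd47 zd29) (kd xd18 yd50 zd47) (kd xd23 yd34 zd23) (kd xd18 yd50 zd50) (kd xd30 yd54 zd15) (kd xd32 yd27 zd54) (kd xd25 yd16 zd39) (kd xd18 yd50 zd59) (kd xd27 yd43 zd51)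 (kd xd18 yd51 zd4) (kd xd30 yd1 zd37) (kd xd31 yd27 zd39) (kd xd18 yd51 zd6) (kd xd30 yd10 zd44) (kd xd30 yd1 zd30) (kd xd32 yd15 zd38) (kd xd31 yd36 zd21) (kd xd18 yd51 zd11) (kd xd18 yd51 zd13) (kd xd28 yd29 zd11) (kd xd30 yd43 zd53) (kd xd25 yd50 zd43) (kd xd29 yd6 zd56) (kd xd25 yd48 zd0) (kd xd32 yd22 zd52) (kd xd27 yd14 zd17) (kd xd18 yd51 zd20) (kd xd27 yd15 zd35) (kd xd24 yd50 zd3) (kd xd28 yd46 zd54) (kd xd24 yd16 zd17) (kd xd25 yd33 zd26) (kd xd18 yd51 zd22) (kd xd31 yd31 zd58) (kd xd31 yd17 zd35) (kd xd30 yd27 zd40) (kd xd25 yd54 zd51) (kd xd28 yd22 zd34) (kd xd32 yd32 zd58) (kd xd18 yd51 zd33) (kd xd18 yd51 zd42) (kd xd18 yd51 zd43) (kd xd30 yd26 zd30) (kd xd23 yd1 zd58) (kd xd28 yd22 zd16) (kd xd31 yd31 zd25) (kd xd18 yd51 zd37) (kd xd31 yd6 zd8) (kd xd27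 yd12 zd10) (kd xd30 yd28 zd1) (kd xd18 yd51 zd44) (kd xd30 yd48 zd12)) (@D3.rec (fun _ => Pt) (kd xd18 yd51 zd47) (kd xd18 yd51 zd48) (kd xd25 yd23 zd51) (kd xd25 yd23 zd52) (kd xd19 yd8 zd51) (kd xd18 yd51 zd52) (kd xd30 yd56 zd3) (kd xd20 yd45 zd13) (kd xd26 yd49 zd59) (kd xd32 yd33 zd45) (kd xd21 yd13 zd31) (kd xd19 yd20 zd8) (kd xd18 yd51 zd58) (kd xd18 yd51 zd59) (kd xd24 yd13 zd58) (kd xd29 yd30 zd10) (kd xd18 yd52 zd61) (kd xd18 yd52 zd60) (kd xd25 yd16 zd9) (kd xd28 yd35 zd58) (kd xd29 yd7 zd38) (kd xd22 yd30 zd51) (kd xd23 yd59 zd50) (kd xd29 yd29 zd44) (kd xd18 yd52 zd7) (kd xd20 yd0 zd10) (kd xd29 yd8 zd16) (kd xd24 yd28 zd3) (kd xd18 yd52 zd13) (kd xd18 yd52 zd17) (kd xd19 yd35 zd42) (kd xd19 yd35 zd43) (kd xd23 yd9 zd23) (kd xd29 yd2 zd11) (kd xd32 yd33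 zd49) (kd xd22 yd16 zd22) (kd xd18 yd52 zd42) (kd xd25 yd56 zd49) (kd xd18 yd52 zd43) (kd xd30 yd16 zd46) (kd xd21 yd5 zd23) (kd xd18 yd52 zd47) (kd xd27 yd22 zd39) (kd xd25 yd54 zd46) (kd xd18 yd52 zd51) (kd xd29 yd47 zd42) (kd xd28 yd58 zd42) (kd xd19 yd14 zd15) (kd xd32 yd2 zd10) (kd xd28 yd35 zd40) (kd xd23 yd48 zd38) (kd xd31 yd21 zd41) (kd xd32 yd20 zd50) (kd xd28 yd20 zd57) (kd xd28 yd32 zd39) (kd xd27 yd59 zd43) (kd xd18 yd53 zd11) (kd xd28 yd20 zd53) (kd xd32 yd33 zd13) (kd xd32 yd19 zd34) (kd xd28 yd52 zd1) (kd xd31 yd31 zd20)) (@D3.rec (fun _ => Pt) (kd xd22 yd35 zd55) (kd xd23 yd5 zd61) (kd xd24 yd34 zd60) (kd xd19 yd4 zd3) (kd xd30 yd16 zd20) (kd xd31 yd27 zd6) (kd xd18 yd53 zd20) (kd xd31 yd27 zd31) (kd xd30 yd37 zd54) (kd xd30 yd1 zd6) (kd xd30 yd4 zd16)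 (kd xd30 yd38 zd38) (kd xd32 yd33 zd47) (kd xd18 yd53 zd26) (kd xd31 yd44 zd55) (kd xd29 yd0 zd29) (kd xd20 yd33 zd26) (kd xd18 yd54 zd25) (kd xd23 yd32 zd52) (kd xd28 yd15 zd26) (kd xd23 yd32 zd60) (kd xd18 yd53 zd34) (kd xd30 yd51 zd8) (kd xd30 yd5 zd45) (kd xd27 yd59 zd44) (kd xd26 yd26 zd61) (kd xd30 yd36 zd9) (kd xd30 yd11 zd43) (kd xd30 yd26 zd22) (kd xd30 yd49 zd34) (kd xd32 yd0 zd25) (kd xd26 yd29 zd19) (kd xd27 yd37 zd43) (kd xd27 yd36 zd44) (kd xd27 yd36 zd45) (kd xd18 yd53 zd51) (kd xd19 yd30 zd15) (kd xd19 yd12 zd2) (kd xd32 yd33 zd58) (kd xd31 yd38 zd10) (kd xd18 yd53 zd57) (kd xd30 yd26 zd29) (kd xd26 yd39 zd44) (kd xd26 yd40 zd53) (kd xd26 yd33 zd31) (kd xd18 yd54 zd39) (kd xd19 yd43 zd35) (kd xd18 yd54 zd41) (kd xd30 yd48 zd13) (kd xd28 yd23 zd20) (kd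 xd24 yd38 zd21) (kd xd24 yd14 zd42) (kd xd32 yd32 zd55) (kd xd18 yd54 zd2) (kd xd19 yd24 zd12) (kd xd32 yd33 zd61) (kd xd24 yd10 zd34) (kd xd26 yd42 zd42) (kd xd28 yd22 zd0) (kd xd22 yd14 zd45) (kd xd28 yd45 zd59) (kd xd28 yd46 zd9)) (@D3.rec (fun _ => Pt) (kd xd28 yd21 zd58) (kd xd28 yd18 zd16) (kd xd25 yd24 zd5) (kd xd18 yd54 zd17) (kd xd31 yd39 zd32) (kd xd31 yd14 zd7) (kd xd32 yd34 zd0) (kd xd32 yd34 zd1) (kd xd18 yd54 zd20) (kd xd30 yd15 zd51) (kd xd24 yd21 zd38) (kd xd20 yd47 zd57) (kd xd18 yd54 zd26) (kd xd23 yd32 zd1) (kd xd25 yd2 zd28) (kd xd24 yd16 zd1) (kd xd28 yd19 zd54) (kd xd30 yd51 zd58) (kd xd25 yd2 zd23) (kd xd28 yd5 zd10) (kd xd32 yd31 zd37) (kd xd28 yd38 zd46) (kd xd32 yd34 zd5) (kd xd29 yd56 zd16) (kd xd22 yd50 zd28) (kd xd22 yd39 zd58) (kd xd27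 yd13 zd35) (kd xd30 yd5 zd44) (kd xd18 yd54 zd34) (kd xd32 yd34 zd9) (kd xd30 yd44 zd6) (kd xd20 yd47 zd55) (kd xd18 yd54 zd42) (kd xd30 yd48 zd15) (kd xd28 yd19 zd47) (kd xd25 yd5 zd34) (kd xd30 yd21 zd61) (kd xd31 yd32 zd1) (kd xd32 yd8 zd28) (kd xd32 yd30 zd13) (kd xd18 yd54 zd46) (kd xd32 yd34 zd11) (kd xd22 yd14 zd58) (kd xd27 yd50 zd7) (kd xd26 yd39 zd25) (kd xd26 yd20 zd0) (kd xd32 yd20 zd49) (kd xd30 yd20 zd33) (kd xd20 yd0 zd46) (kd xd19 yd7 zd50) (kd xd32 yd34 zd12) (kd xd18 yd54 zd56) (kd xd18 yd54 zd57) (kd xd19 yd7 zd49) (kd xd31 yd32 zd45) (kd xd19 yd7 zd3) (kd xd29 yd8 zd18) (kd xd19 yd7 zd2) (kd xd30 yd50 zd43) (kd xd28 yd47 zd40) (kd xd24 yd5 zd47) (kd xd18 yd55 zd2)) (@D3.rec (fun _ => Pt) (kd xd31 yd13 zd17) (kd xd24 yd28 zd35) (kd xd27 yd5 zd34)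 (kd xd25 yd40 zd31) (kd xd31 yd18 zd52) (kd xd27 yd19 zd17) (kd xd18 yd55 zd7) (kd xd20 yd11 zd40) (kd xd29 yd25 zd28) (kd xd18 yd55 zd9) (kd xd32 yd34 zd14) (kd xd18 yd55 zd11) (kd xd18 yd57 zd47) (kd xd26 yd57 zd20) (kd xd18 yd55 zd14) (kd xd32 yd29 zd20) (kd xd18 yd55 zd17) (kd xd31 yd13 zd21) (kd xd27 yd6 zd24) (kd xd30 yd18 zd22) (kd xd28 yd21 zd49) (kd xd29 yd30 zd44) (kd xd30 yd19 zd16) (kd xd18 yd55 zd22) (kd xd27 yd58 zd58) (kd xd29 yd30 zd37) (kd xd27 yd58 zd57) (kd xd23 yd54 zd19) (kd xd31 yd48 zd33) (kd xd29 yd30 zd47) (kd xd28 yd5 zd12) (kd xd27 yd51 zd41) (kd xd28 yd36 zd29) (kd xd31 yd16 zd13) (kd xd31 yd16 zd14) (kd xd30 yd56 zd5) (kd xd18 yd55 zd28) (kd xd28 yd36 zd46) (kd xd28 yd44 zd55) (kd xd25 yd2 zd4) (kd xd28 yd32 zd10) (kd xd18 yd55 zd31) (kd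 xd24 yd58 zd28) (kd xd28 yd47 zd55) (kd xd18 yd55 zd34) (kd xd19 yd49 zd47) (kd xd18 yd57 zd17) (kd xd18 yd55 zd36) (kd xd31 yd35 zd52) (kd xd25 yd29 zd11) (kd xd32 yd16 zd61) (kd xd31 yd29 zd42) (kd xd18 yd55 zd39) (kd xd28 yd45 zd4) (kd xd28 yd48 zd37) (kd xd18 yd55 zd42) (kd xd24 yd6 zd22) (kd xd32 yd2 zd61) (kd xd25 yd8 zd35) (kd xd31 yd43 zd52) (kd xd26 yd41 zd49) (kd xd28 yd55 zd35)) (@D3.rec (fun _ => Pt) (kd xd19 yd52 zd3) (kd xd19 yd49 zd44) (kd xd21 yd49 zd40) (kd xd31 yd22 zd31) (kd xd18 yd55 zd54) (kd xd31 yd58 zd52) (kd xd31 yd58 zd55) (kd xd32 yd13 zd51) (kd xd18 yd55 zd56) (kd xd23 yd49 zd6) (kd xd28 yd24 zd13) (kd xd26 yd55 zd55) (kd xd22 yd1 zd17) (kd xd28 yd24 zd10) (kd xd28 yd24 zd17) (kd xd22 yd0 zd2) (kd xd25 yd57 zd61) (kd xd28 yd24 zd14) (kd xd24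 yd17 zd55) (kd xd18 yd56 zd5) (kd xd22 yd1 zd28) (kd xd30 yd29 zd42) (kd xd18 yd56 zd10) (kd xd28 yd27 zd52) (kd xd18 yd56 zd11) (kd xd20 yd10 zd47) (kd xd28 yd37 zd53) (kd xd26 yd10 zd9) (kd xd23 yd48 zd10) (kd xd28 yd12 zd52) (kd xd28 yd37 zd46) (kd xd18 yd56 zd18) (kd xd28 yd37 zd55) (kd xd25 yd46 zd18) (kd xd28 yd47 zd52) (kd xd21 yd55 zd14) (kd xd19 yd7 zd38) (kd xd26 yd46 zd6) (kd xd18 yd56 zd34) (kd xd21 yd28 zd45) (kd xd25 yd39 zd1) (kd xd25 yd39 zd19) (kd xd25 yd39 zd16) (kd xd32 yd34 zd30) (kd xd18 yd56 zd39) (kd xd25 yd37 zd18) (kd xd18 yd56 zd41) (kd xd29 yd30 zd46) (kd xd18 yd56 zd51) (kd xd32 yd34 zd31) (kd xd28 yd39 zd14) (kd xd27 yd1 zd59) (kd xd19 yd48 zd5) (kd xd19 yd18 zd4) (kd xd22 yd23 zd20) (kd xd22 yd6 zd32) (kd xd30 yd50 zd31) (kd xd18 yd57 zd30)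 (kd xd20 yd36 zd41) (kd xd23 yd47 zd43) (kd xd29 yd22 zd34) (kd xd23 yd20 zd1)) (@D3.rec (fun _ => Pt) (kd xd18 yd57 zd8) (kd xd31 yd13 zd14) (kd xd18 yd57 zd10) (kd xd25 yd12 zd53) (kd xd30 yd20 zd47) (kd xd18 yd57 zd20) (kd xd32 yd33 zd50) (kd xd22 yd59 zd11) (kd xd18 yd57 zd25) (kd xd29 yd40 zd50) (kd xd18 yd57 zd27) (kd xd31 yd26 zd1) (kd xd25 yd12 zd56) (kd xd24 yd33 zd12) (kd xd24 yd33 zd10) (kd xd26 yd10 zd52) (kd xd29 yd33 zd42) (kd xd22 yd23 zd38) (kd xd29 yd40 zd45) (kd xd27 yd1 zd5) (kd xd32 yd34 zd38) (kd xd18 yd57 zd41) (kd xd18 yd57 zd42) (kd xd22 yd33 zd7) (kd xd31 yd20 zd14) (kd xd24 yd30 zd27) (kd xd18 yd57 zd45) (kd xd29 yd19 zd12) (kd xd31 yd46 zd43) (kd xd18 yd57 zd48) (kd xd23 yd50 zd7) (kd xd29 yd9 zd2) (kd xd19 yd13 zd8) (kd xd18 yd57 zd55) (kd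 xd30 yd56 zd4) (kd xd32 yd9 zd34) (kd xd22 yd57 zd54) (kd xd32 yd26 zd38) (kd xd26 yd4 zd30) (kd xd28 yd6 zd19) (kd xd24 yd55 zd6) (kd xd24 yd55 zd8) (kd xd18 yd58 zd14) (kd xd31 yd15 zd5) (kd xd31 yd14 zd42) (kd xd30 yd35 zd26) (kd xd18 yd58 zd20) (kd xd27 yd56 zd8) (kd xd18 yd58 zd27) (kd xd21 yd12 zd45) (kd xd23 yd51 zd38) (kd xd18 yd58 zd29) (kd xd31 yd14 zd51) (kd xd22 yd8 zd19) (kd xd23 yd14 zd5) (kd xd30 yd59 zd55) (kd xd29 yd55 zd41) (kd xd18 yd58 zd37) (kd xd22 yd57 zd41) (kd xd20 yd33 zd9) (kd xd22 yd57 zd34) (kd xd18 yd58 zd39)) (@D3.rec (fun _ => Pt) (kd xd23 yd15 zd40) (kd xd18 yd58 zd40) (kd xd25 yd2 zd44) (kd xd18 yd58 zd41) (kd xd24 yd28 zd22) (kd xd18 yd58 zd43) (kd xd24 yd57 zd38) (kd xd26 yd18 zd34) (kd xd26 yd9 zd5) (kd xd23 yd33 zd50) (kd xd21 yd57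 zd6) (kd xd23 yd6 zd46) (kd xd31 yd56 zd49) (kd xd20 yd37 zd27) (kd xd31 yd0 zd45) (kd xd26 yd49 zd40) (kd xd29 yd24 zd7) (kd xd31 yd28 zd10) (kd xd18 yd59 zd3) (kd xd30 yd44 zd13) (kd xd18 yd59 zd6) (kd xd29 yd24 zd8) (kd xd29 yd19 zd20) (kd xd18 yd59 zd7) (kd xd20 yd32 zd44) (kd xd22 yd51 zd26) (kd xd18 yd59 zd10) (kd xd28 yd0 zd9) (kd xd24 yd56 zd39) (kd xd26 yd17 zd25) (kd xd31 yd48 zd42) (kd xd23 yd6 zd49) (kd xd29 yd36 zd55) (kd xd28 yd0 zd14) (kd xd19 yd7 zd34) (kd xd32 yd34 zd48) (kd xd18 yd59 zd20) (kd xd18 yd59 zd22) (kd xd28 yd47 zd31) (kd xd26 yd25 zd14) (kd xd18 yd59 zd24) (kd xd23 yd52 zd53) (kd xd32 yd20 zd13) (kd xd32 yd19 zd27) (kd xd32 yd19 zd28) (kd xd28 yd8 zd57) (kd xd26 yd57 zd57) (kd xd18 yd59 zd30) (kd xd29 yd50 zd26) (kd xd26 yd19 zd18) (kd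 xd32 yd34 zd51) (kd xd29 yd28 zd25) (kd xd28 yd27 zd18) (kd xd20 yd10 zd21) (kd xd20 yd10 zd20) (kd xd30 yd57 zd4) (kd xd18 yd59 zd39) (kd xd27 yd58 zd20) (kd xd18 yd59 zd41) (kd xd18 yd59 zd46) (kd xd32 yd34 zd52) (kd xd21 yd2 zd44)) (@D3.rec (fun _ => Pt) (kd xd23 yd19 zd39) (kd xd18 yd59 zd50) (kd xd23 yd52 zd23) (kd xd22 yd42 zd20) (kd xd30 yd49 zd28) (kd xd18 yd59 zd57) (kd xd18 yd59 zd58) (kd xd23 yd33 zd41) (kd xd19 yd0 zd5) (kd xd19 yd0 zd7) (kd xd31 yd44 zd3) (kd xd25 yd16 zd17) (kd xd19 yd0 zd11) (kd xd32 yd34 zd53) (kd xd19 yd0 zd14) (kd xd31 yd0 zd55) (kd xd31 yd0 zd36) (kd xd19 yd0 zd16) (kd xd28 yd26 zd52) (kd xd27 yd9 zd24) (kd xd19 yd0 zd24) (kd xd29 yd10 zd59) (kd xd19 yd0 zd25) (kd xd32 yd34 zd55) (kd xd19 yd0 zd26) (kd xd32 yd31 zd46) (kd xd29 yd31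 zd60) (kd xd30 yd44 zd48) (kd xd23 yd29 zd30) (kd xd19 yd0 zd29) (kd xd26 yd19 zd2) (kd xd29 yd19 zd31) (kd xd26 yd58 zd6) (kd xd19 yd55 zd15) (kd xd30 yd1 zd20) (kd xd19 yd0 zd38) (kd xd27 yd47 zd30) (kd xd23 yd31 zd52) (kd xd28 yd1 zd46) (kd xd26 yd15 zd32) (kd xd28 yd3 zd7) (kd xd19 yd0 zd45) (kd xd31 yd0 zd0) (kd xd19 yd0 zd46) (kd xd23 yd22 zd60) (kd xd23 yd19 zd46) (kd xd26 yd15 zd21) (kd xd26 yd28 zd35) (kd xd29 yd24 zd6) (kd xd29 yd8 zd46) (kd xd19 yd0 zd55) (kd xd30 yd45 zd22) (kd xd28 yd24 zd23) (kd xd26 yd24 zd47) (kd xd26 yd58 zd17) (kd xd27 yd58 zd50) (kd xd26 yd43 zd5) (kd xd30 yd16 zd1) (kd xd31 yd52 zd55) (kd xd26 yd40 zd59) (kd xd22 yd4 zd0) (kd xd20 yd51 zd0)) (@D3.rec (fun _ => Pt) (kd xd31 yd2 zd36) (kd xd19 yd1 zd15) (kd xd19 yd1 zd16) (kd xd22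 yd42 zd0) (kd xd31 yd6 zd22) (kd xd19 yd1 zd18) (kd xd25 yd2 zd46) (kd xd19 yd1 zd19) (kd xd27 yd39 zd22) (kd xd27 yd39 zd23) (kd xd19 yd1 zd21) (kd xd31 yd44 zd54) (kd xd19 yd1 zd31) (kd xd28 yd13 zd15) (kd xd31 yd23 zd15) (kd xd21 yd14 zd45) (kd xd19 yd1 zd34) (kd xd28 yd13 zd2) (kd xd19 yd1 zd36) (kd xd26 yd20 zd12) (kd xd26 yd48 zd60) (kd xd32 yd34 zd16) (kd xd19 yd1 zd39) (kd xd32 yd17 zd50) (kd xd19 yd1 zd41) (kd xd28 yd29 zd52) (kd xd26 yd25 zd12) (kd xd30 yd0 zd22) (kd xd19 yd1 zd56) (kd xd27 yd20 zd8) (kd xd19 yd2 zd1) (kd xd19 yd2 zd2) (kd xd28 yd12 zd41) (kd xd24 yd59 zd20) (kd xd19 yd2 zd7) (kd xd21 yd25 zd36) (kd xd23 yd22 zd28) (kd xd19 yd2 zd10) (kd xd24 yd15 zd27) (kd xd32 yd34 zd61) (kd xd19 yd2 zd22) (kd xd32 yd27 zd0) (kd xd19 yd2 zd23) (kd xd32 yd26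 zd61) (kd xd31 yd42 zd34) (kd xd29 yd21 zd7) (kd xd19 yd2 zd25) (kd xd19 yd2 zd26) (kd xd23 yd42 zd3) (kd xd32 yd7 zd29) (kd xd19 yd2 zd34) (kd xd28 yd0 zd42) (kd xd26 yd48 zd8) (kd xd27 yd14 zd59) (kd xd28 yd53 zd32) (kd xd31 yd15 zd41) (kd xd19 yd2 zd42) (kd xd31 yd0 zd25) (kd xd19 yd2 zd43) (kd xd19 yd4 zd17) (kd xd25 yd40 zd20) (kd xd19 yd2 zd46)) (@D3.rec (fun _ => Pt) (kd xd26 yd3 zd20) (kd xd19 yd2 zd48) (kd xd19 yd2 zd49) (kd xd32 yd35 zd8) (kd xd27 yd23 zd43) (kd xd27 yd23 zd44) (kd xd30 yd33 zd28) (kd xd32 yd16 zd25) (kd xd32 yd35 zd11) (kd xd19 yd2 zd51) (kd xd28 yd37 zd25) (kd xd28 yd19 zd29) (kd xd19 yd2 zd52) (kd xd28 yd58 zd22) (kd xd25 yd40 zd6) (kd xd19 yd2 zd57) (kd xd22 yd26 zd19) (kd xd27 yd23 zd41) (kd xd24 yd25 zd56) (kd xd22 yd26 zd20) (kd xd19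 yd2 zd60) (kd xd32 yd35 zd16) (kd xd32 yd12 zd35) (kd xd32 yd3 zd5) (kd xd31 yd59 zd56) (kd xd32 yd18 zd41) (kd xd20 yd56 zd49) (kd xd27 yd17 zd12) (kd xd27 yd16 zd11) (kd xd27 yd17 zd11) (kd xd22 yd41 zd7) (kd xd31 yd26 zd28) (kd xd19 yd3 zd17) (kd xd30 yd24 zd48) (kd xd23 yd23 zd54) (kd xd25 yd36 zd12) (kd xd24 yd0 zd27) (kd xd27 yd44 zd53) (kd xd19 yd5 zd12) (kd xd19 yd3 zd27) (kd xd19 yd3 zd28) (kd xd32 yd33 zd55) (kd xd30 yd56 zd23) (kd xd19 yd3 zd30) (kd xd28 yd33 zd57) (kd xd31 yd57 zd6) (kd xd32 yd33 zd36) (kd xd27 yd30 zd46) (kd xd26 yd40 zd56) (kd xd32 yd35 zd19) (kd xd32 yd35 zd20) (kd xd19 yd3 zd36) (kd xd28 yd28 zd25) (kd xd32 yd35 zd23) (kd xd23 yd34 zd22) (kd xd19 yd3 zd44) (kd xd19 yd4 zd24) (kd xd19 yd3 zd48) (kd xd28 yd44 zd9) (kd xd20 yd35 zd26) (kd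 xd19 yd3 zd50) (kd xd29 yd34 zd26)) (@D3.rec (fun _ => Pt) (kd xd19 yd3 zd52) (kd xd26 yd36 zd11) (kd xd19 yd8 zd39) (kd xd29 yd46 zd12) (kd xd31 yd29 zd59) (kd xd19 yd8 zd41) (kd xd29 yd46 zd9) (kd xd29 yd46 zd20) (kd xd29 yd46 zd16) (kd xd20 yd39 zd40) (kd xd19 yd3 zd56) (kd xd19 yd14 zd8) (kd xd19 yd16 zd19) (kd xd26 yd36 zd30) (kd xd28 yd7 zd49) (kd xd30 yd38 zd34) (kd xd19 yd42 zd13) (kd xd19 yd4 zd6) (kd xd32 yd15 zd18) (kd xd25 yd52 zd59) (kd xd28 yd43 zd11) (kd xd24 yd14 zd36) (kd xd19 yd4 zd10) (kd xd19 yd4 zd11) (kd xd28 yd43 zd33) (kd xd26 yd50 zd7) (kd xd29 yd41 zd46) (kd xd19 yd4 zd13) (kd xd31 yd55 zd34) (kd xd25 yd52 zd43) (kd xd28 yd31 zd23) (kd xd32 yd35 zd5) (kd xd21 yd17 zd1) (kd xd23 yd12 zd34) (kd xd25 yd33 zd32) (kd xd25 yd28 zd16) (kd xd29 yd57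 zd9) (kd xd30 yd5 zd23) (kd xd19 yd16 zd42) (kd xd19 yd13 zd44) (kd xd21 yd40 zd19) (kd xd20 yd45 zd59) (kd xd20 yd45 zd60) (kd xd32 yd24 zd61) (kd xd19 yd4 zd30) (kd xd31 yd29 zd60) (kd xd19 yd4 zd35) (kd xd19 yd16 zd11) (kd xd30 yd36 zd39) (kd xd25 yd42 zd5) (kd xd24 yd19 zd16) (kd xd19 yd4 zd50) (kd xd32 yd35 zd7) (kd xd32 yd35 zd40) (kd xd25 yd50 zd26) (kd xd30 yd56 zd7) (kd xd24 yd12 zd29) (kd xd19 yd4 zd59) (kd xd19 yd5 zd6) (kd xd26 yd43 zd4) (kd xd30 yd30 zd29) (kd xd30 yd29 zd51)) (@D3.rec (fun _ => Pt) (kd xd19 yd5 zd17) (kd xd28 yd45 zd37) (kd xd20 yd35 zd24) (kd xd19 yd5 zd21) (kd xd19 yd42 zd30) (kd xd31 yd39 zd54) (kd xd19 yd5 zd24) (kd xd30 yd26 zd49) (kd xd19 yd5 zd25) (kd xd31 yd10 zd1) (kd xd26 yd53 zd46) (kd xd19 yd16 zd37) (kd xd25 yd41 zd59) (kd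 xd25 yd40 zd59) (kd xd19 yd16 zd1) (kd xd21 yd56 zd8) (kd xd28 yd15 zd18) (kd xd30 yd11 zd28) (kd xd31 yd3 zd22) (kd xd19 yd5 zd55) (kd xd29 yd13 zd15) (kd xd19 yd5 zd57) (kd xd21 yd21 zd60) (kd xd28 yd30 zd30) (kd xd24 yd42 zd20) (kd xd24 yd43 zd13) (kd xd21 yd56 zd18) (kd xd30 yd42 zd20) (kd xd21 yd29 zd55) (kd xd24 yd40 zd36) (kd xd31 yd30 zd18) (kd xd23 yd26 zd47) (kd xd30 yd40 zd26) (kd xd19 yd6 zd8) (kd xd23 yd29 zd13) (kd xd24 yd49 zd15) (kd xd24 yd49 zd16) (kd xd19 yd42 zd39) (kd xd25 yd38 zd44) (kd xd26 yd46 zd51) (kd xd19 yd6 zd10) (kd xd29 yd43 zd46) (kd xd19 yd58 zd8) (kd xd29 yd2 zd43) (kd xd19 yd6 zd17) (kd xd19 yd6 zd18) (kd xd27 yd55 zd23) (kd xd29 yd25 zd2) (kd xd29 yd25 zd14) (kd xd19 yd6 zd20) (kd xd24 yd48 zd11) (kd xd32 yd7 zd53) (kd xd19 yd6 zd21)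 (kd xd32 yd26 zd13) (kd xd27 yd50 zd55) (kd xd19 yd6 zd23) (kd xd31 yd16 zd40) (kd xd26 yd31 zd47) (kd xd32 yd35 zd46) (kd xd21 yd10 zd46) (kd xd19 yd6 zd31) (kd xd29 yd28 zd32)) (@D3.rec (fun _ => Pt) (kd xd19 yd6 zd34) (kd xd28 yd6 zd2) (kd xd19 yd6 zd35) (kd xd26 yd12 zd47) (kd xd29 yd28 zd34) (kd xd21 yd12 zd54) (kd xd19 yd6 zd37) (kd xd32 yd7 zd32) (kd xd25 yd50 zd3) (kd xd27 yd41 zd48) (kd xd28 yd23 zd40) (kd xd26 yd24 zd7) (kd xd27 yd52 zd40) (kd xd31 yd14 zd29) (kd xd27 yd52 zd39) (kd xd29 yd20 zd40) (kd xd27 yd43 zd17) (kd xd28 yd35 zd33) (kd xd28 yd43 zd0) (kd xd28 yd34 zd33) (kd xd20 yd34 zd17) (kd xd29 yd52 zd27) (kd xd22 yd3 zd51) (kd xd29 yd43 zd57) (kd xd27 yd59 zd55) (kd xd27 yd10 zd10) (kd xd25 yd30 zd30) (kd xd19 yd6 zd59) (kd xd19 yd6 zd60) (kd xd19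 yd51 zd12) (kd xd31 yd0 zd54) (kd xd27 yd9 zd23) (kd xd26 yd50 zd0) (kd xd28 yd18 zd54) (kd xd26 yd51 zd56) (kd xd27 yd9 zd33) (kd xd28 yd13 zd8) (kd xd29 yd8 zd34) (kd xd25 yd53 zd0) (kd xd28 yd20 zd54) (kd xd19 yd28 zd47) (kd xd19 yd7 zd7) (kd xd20 yd52 zd34) (kd xd28 yd54 zd56) (kd xd20 yd52 zd31) (kd xd20 yd56 zd51) (kd xd21 yd43 zd36) (kd xd30 yd50 zd15) (kd xd19 yd7 zd47) (kd xd24 yd59 zd17) (kd xd19 yd7 zd51) (kd xd25 yd24 zd0) (kd xd19 yd13 zd13) (kd xd27 yd51 zd17) (kd xd23 yd34 zd0) (kd xd32 yd35 zd49) (kd xd32 yd35 zd51) (kd xd19 yd7 zd26) (kd xd19 yd7 zd27) (kd xd26 yd43 zd43) (kd xd24 yd12 zd39) (kd xd28 yd33 zd46)) (@D3.rec (fun _ => Pt) (kd xd28 yd16 zd32) (kd xd32 yd35 zd57) (kd xd19 yd7 zd30) (kd xd28 yd33 zd59) (kd xd28 yd36 zd1) (kd xd32 yd12 zd44)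 (kd xd28 yd36 zd2) (kd xd19 yd13 zd36) (kd xd30 yd48 zd53) (kd xd19 yd29 zd30) (kd xd32 yd34 zd47) (kd xd32 yd20 zd26) (kd xd19 yd7 zd35) (kd xd28 yd34 zd40) (kd xd30 yd36 zd7) (kd xd21 yd23 zd50) (kd xd20 yd19 zd33) (kd xd21 yd42 zd17) (kd xd19 yd35 zd39) (kd xd20 yd39 zd39) (kd xd30 yd50 zd58) (kd xd19 yd7 zd46) (kd xd28 yd38 zd12) (kd xd28 yd56 zd3) (kd xd32 yd22 zd19) (kd xd20 yd56 zd1) (kd xd28 yd38 zd54) (kd xd24 yd22 zd56) (kd xd25 yd23 zd39) (kd xd28 yd9 zd52) (kd xd32 yd33 zd54) (kd xd30 yd26 zd36) (kd xd26 yd52 zd40) (kd xd27 yd3 zd7) (kd xd19 yd8 zd0) (kd xd24 yd20 zd43) (kd xd19 yd8 zd2) (kd xd24 yd16 zd52) (kd xd28 yd4 zd56) (kd xd21 yd15 zd30) (kd xd19 yd32 zd35) (kd xd30 yd37 zd18) (kd xd19 yd59 zd51) (kd xd25 yd56 zd34) (kd xd32 yd3 zd48) (kd xd19 yd8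 zd7) (kd xd28 yd32 zd61) (kd xd28 yd38 zd11) (kd xd30 yd36 zd41) (kd xd19 yd8 zd11) (kd xd31 yd57 zd20) (kd xd32 yd35 zd50) (kd xd32 yd36 zd5) (kd xd19 yd8 zd13) (kd xd19 yd16 zd8) (kd xd31 yd57 zd19) (kd xd19 yd16 zd10) (kd xd28 yd29 zd44) (kd xd26 yd18 zd0) (kd xd28 yd33 zd3) (kd xd25 yd39 zd38) (kd xd31 yd27 zd57)) (@D3.rec (fun _ => Pt) (kd xd19 yd8 zd17) (kd xd25 yd38 zd2) (kd xd28 yd39 zd28) (kd xd26 yd28 zd34) (kd xd19 yd8 zd21) (kd xd32 yd15 zd29) (kd xd29 yd5 zd15) (kd xd28 yd50 zd25) (kd xd21 yd56 zd19) (kd xd27 yd10 zd1) (kd xd30 yd31 zd25) (kd xd23 yd8 zd25) (kd xd23 yd4 zd60) (kd xd19 yd8 zd31) (kd xd22 yd24 zd27) (kd xd30 yd23 zd38) (kd xd24 yd34 zd35) (kd xd19 yd8 zd36) (kd xd28 yd55 zd37) (kd xd30 yd31 zd5) (kd xd19 yd8 zd38) (kd xd31 yd17 zd59) (kd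 xd28 yd39 zd25) (kd xd32 yd35 zd28) (kd xd32 yd12 zd31) (kd xd28 yd38 zd15) (kd xd19 yd8 zd45) (kd xd19 yd8 zd46) (kd xd19 yd8 zd48) (kd xd24 yd13 zd34) (kd xd28 yd35 zd61) (kd xd19 yd19 zd41) (kd xd19 yd8 zd55) (kd xd28 yd32 zd19) (kd xd32 yd19 zd22) (kd xd27 yd35 zd60) (kd xd28 yd37 zd22) (kd xd19 yd9 zd0) (kd xd19 yd9 zd4) (kd xd25 yd40 zd33) (kd xd28 yd33 zd13) (kd xd28 yd42 zd50) (kd xd19 yd9 zd6) (kd xd25 yd38 zd35) (kd xd28 yd40 zd8) (kd xd31 yd44 zd47) (kd xd19 yd20 zd9) (kd xd27 yd5 zd2) (kd xd19 yd9 zd10) (kd xd24 yd7 zd22) (kd xd24 yd19 zd15) (kd xd26 yd3 zd26) (kd xd26 yd35 zd51) (kd xd19 yd9 zd15) (kd xd29 yd40 zd56) (kd xd24 yd23 zd1) (kd xd25 yd1 zd58) (kd xd31 yd31 zd30) (kd xd25 yd46 zd17) (kd xd26 yd39 zd14) (kd xd20 yd32 zd48) (kd xd30 yd30 zd57))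 (@D3.rec (fun _ => Pt) (kd xd19 yd9 zd19) (kd xd32 yd36 zd12) (kd xd29 yd35 zd37) (kd xd19 yd9 zd20) (kd xd29 yd35 zd53) (kd xd31 yd33 zd20) (kd xd29 yd36 zd19) (kd xd19 yd9 zd21) (kd xd28 yd39 zd60) (kd xd28 yd39 zd61) (kd xd29 yd31 zd25) (kd xd19 yd9 zd23) (kd xd19 yd9 zd25) (kd xd29 yd2 zd1) (kd xd29 yd2 zd4) (kd xd30 yd31 zd9) (kd xd19 yd9 zd27) (kd xd30 yd15 zd41) (kd xd19 yd9 zd28) (kd xd32 yd5 zd25) (kd xd28 yd37 zd27) (kd xd19 yd9 zd32) (kd xd32 yd8 zd12) (kd xd19 yd9 zd34) (kd xd19 yd9 zd35) (kd xd30 yd39 zd11) (kd xd23 yd55 zd5) (kd xd19 yd9 zd37) (kd xd19 yd12 zd16) (kd xd19 yd9 zd40) (kd xd19 yd9 zd42) (kd xd19 yd9 zd44) (kd xd19 yd9 zd46) (kd xd28 yd32 zd17) (kd xd22 yd0 zd28) (kd xd21 yd54 zd19) (kd xd24 yd35 zd51) (kd xd28 yd12 zd61) (kd xd30 yd49 zd44)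 (kd xd19 yd51 zd43) (kd xd28 yd20 zd49) (kd xd24 yd26 zd10) (kd xd28 yd0 zd26) (kd xd29 yd40 zd3) (kd xd23 yd48 zd50) (kd xd30 yd12 zd17) (kd xd20 yd41 zd3) (kd xd32 yd36 zd29) (kd xd21 yd16 zd1) (kd xd22 yd41 zd48) (kd xd19 yd9 zd57) (kd xd30 yd49 zd45) (kd xd27 yd10 zd14) (kd xd19 yd24 zd14) (kd xd19 yd22 zd11) (kd xd23 yd50 zd36) (kd xd23 yd52 zd1) (kd xd19 yd21 zd25) (kd xd28 yd20 zd19) (kd xd19 yd41 zd18) (kd xd21 yd49 zd38) (kd xd28 yd34 zd30)) (@D3.rec (fun _ => Pt) (kd xd30 yd33 zd27) (kd xd28 yd33 zd4) (kd xd28 yd33 zd6) (kd xd19 yd10 zd10) (kd xd19 yd10 zd11) (kd xd32 yd35 zd14) (kd xd19 yd10 zd12) (kd xd27 yd16 zd42) (kd xd27 yd16 zd49) (kd xd30 yd35 zd39) (kd xd19 yd10 zd14) (kd xd19 yd10 zd15) (kd xd32 yd35 zd0) (kd xd19 yd10 zd16) (kd xd20 yd10 zd40) (kd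 xd27 yd56 zd32) (kd xd19 yd10 zd17) (kd xd27 yd37 zd58) (kd xd31 yd25 zd33) (kd xd31 yd25 zd32) (kd xd21 yd5 zd59) (kd xd23 yd23 zd53) (kd xd32 yd26 zd18) (kd xd19 yd10 zd20) (kd xd31 yd59 zd18) (kd xd19 yd23 zd1) (kd xd30 yd24 zd49) (kd xd20 yd37 zd6) (kd xd19 yd10 zd23) (kd xd28 yd23 zd32) (kd xd31 yd53 zd4) (kd xd19 yd10 zd24) (kd xd32 yd27 zd35) (kd xd28 yd58 zd19) (kd xd25 yd36 zd11) (kd xd19 yd59 zd53) (kd xd29 yd25 zd52) (kd xd31 yd39 zd45) (kd xd26 yd16 zd11) (kd xd29 yd7 zd23) (kd xd24 yd28 zd61) (kd xd26 yd22 zd20) (kd xd20 yd44 zd50) (kd xd20 yd2 zd45) (kd xd32 yd36 zd34) (kd xd19 yd10 zd44) (kd xd28 yd23 zd37) (kd xd20 yd23 zd12) (kd xd23 yd43 zd45) (kd xd19 yd10 zd61) (kd xd24 yd33 zd60) (kd xd27 yd28 zd40) (kd xd19 yd11 zd2) (kd xd31 yd52 zd3) (kd xd31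 yd52 zd1) (kd xd19 yd11 zd4) (kd xd26 yd46 zd59) (kd xd27 yd38 zd8) (kd xd26 yd54 zd33) (kd xd29 yd36 zd13) (kd xd32 yd36 zd37) (kd xd19 yd11 zd11)) (@D3.rec (fun _ => Pt) (kd xd29 yd14 zd22) (kd xd20 yd54 zd28) (kd xd19 yd11 zd18) (kd xd25 yd52 zd31) (kd xd25 yd52 zd32) (kd xd27 yd37 zd9) (kd xd21 yd5 zd13) (kd xd30 yd19 zd21) (kd xd28 yd57 zd28) (kd xd31 yd40 zd34) (kd xd32 yd36 zd43) (kd xd32 yd36 zd40) (kd xd19 yd53 zd34) (kd xd27 yd19 zd11) (kd xd26 yd16 zd4) (kd xd32 yd22 zd15) (kd xd22 yd33 zd47) (kd xd29 yd33 zd51) (kd xd32 yd9 zd36) (kd xd30 yd24 zd13) (kd xd19 yd11 zd28) (kd xd30 yd10 zd38) (kd xd28 yd34 zd36) (kd xd23 yd33 zd36) (kd xd30 yd10 zd41) (kd xd28 yd29 zd10) (kd xd26 yd1 zd47) (kd xd28 yd35 zd20) (kd xd19 yd46 zd10) (kd xd30 yd30 zd42) (kd xd19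 yd11 zd36) (kd xd30 yd10 zd43) (kd xd19 yd11 zd39) (kd xd19 yd11 zd40) (kd xd20 yd2 zd8) (kd xd19 yd11 zd41) (kd xd32 yd36 zd50) (kd xd19 yd11 zd42) (kd xd30 yd23 zd37) (kd xd19 yd11 zd43) (kd xd28 yd43 zd37) (kd xd20 yd42 zd40) (kd xd32 yd36 zd52) (kd xd19 yd11 zd46) (kd xd30 yd30 zd46) (kd xd29 yd36 zd50) (kd xd28 yd24 zd30) (kd xd31 yd28 zd2) (kd xd23 yd48 zd8) (kd xd26 yd53 zd33) (kd xd19 yd11 zd51) (kd xd27 yd58 zd35) (kd xd28 yd43 zd39) (kd xd28 yd24 zd26) (kd xd26 yd19 zd58) (kd xd28 yd24 zd32) (kd xd27 yd15 zd1) (kd xd28 yd59 zd54) (kd xd25 yd47 zd61) (kd xd26 yd40 zd51) (kd xd19 yd11 zd59) (kd xd25 yd55 zd56)) (@D3.rec (fun _ => Pt) (kd xd30 yd43 zd12) (kd xd25 yd47 zd54) (kd xd19 yd12 zd1) (kd xd31 yd0 zd26) (kd xd32 yd33 zd57) (kd xd27 yd52 zd16) (kd xd27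 yd55 zd4) (kd xd27 yd2 zd6) (kd xd25 yd56 zd31) (kd xd19 yd12 zd5) (kd xd29 yd42 zd5) (kd xd28 yd33 zd47) (kd xd28 yd33 zd22) (kd xd24 yd26 zd61) (kd xd19 yd12 zd8) (kd xd28 yd34 zd25) (kd xd32 yd36 zd58) (kd xd19 yd12 zd11) (kd xd31 yd29 zd57) (kd xd26 yd56 zd54) (kd xd32 yd18 zd32) (kd xd19 yd12 zd15) (kd xd29 yd42 zd45) (kd xd20 yd29 zd42) (kd xd32 yd36 zd60) (kd xd19 yd12 zd20) (kd xd19 yd12 zd22) (kd xd30 yd55 zd23) (kd xd32 yd37 zd0) (kd xd32 yd18 zd15) (kd xd19 yd12 zd23) (kd xd32 yd9 zd29) (kd xd32 yd37 zd4) (kd xd19 yd12 zd24) (kd xd29 yd35 zd49) (kd xd32 yd37 zd7) (kd xd19 yd12 zd25) (kd xd19 yd52 zd14) (kd xd19 yd52 zd15) (kd xd26 yd43 zd7) (kd xd24 yd40 zd42) (kd xd19 yd12 zd28) (kd xd25 yd18 zd8) (kd xd24 yd19 zd34) (kd xd31 yd58 zd27) (kd xd19 yd12 zd34)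 (kd xd28 yd22 zd21) (kd xd28 yd7 zd52) (kd xd30 yd34 zd27) (kd xd26 yd52 zd42) (kd xd26 yd52 zd31) (kd xd19 yd12 zd38) (kd xd32 yd9 zd23) (kd xd20 yd10 zd35) (kd xd28 yd33 zd26) (kd xd19 yd12 zd43) (kd xd32 yd37 zd16) (kd xd19 yd12 zd50) (kd xd23 yd49 zd17) (kd xd19 yd12 zd52) (kd xd21 yd11 zd36) (kd xd32 yd27 zd17)) (@D3.rec (fun _ => Pt) (kd xd19 yd12 zd59) (kd xd26 yd36 zd43) (kd xd28 yd50 zd39) (kd xd31 yd55 zd35) (kd xd32 yd23 zd27) (kd xd29 yd32 zd10) (kd xd26 yd56 zd47) (kd xd20 yd37 zd2) (kd xd19 yd28 zd55) (kd xd20 yd13 zd22) (kd xd22 yd57 zd39) (kd xd20 yd38 zd2) (kd xd32 yd37 zd17) (kd xd19 yd13 zd16) (kd xd28 yd24 zd50) (kd xd31 yd1 zd21) (kd xd20 yd38 zd21) (kd xd19 yd13 zd18) (kd xd28 yd44 zd8) (kd xd20 yd38 zd20) (kd xd20 yd35 zd27) (kd xd31 yd49 zd17)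 (kd xd30 yd46 zd10) (kd xd19 yd13 zd22) (kd xd19 yd13 zd23) (kd xd28 yd34 zd22) (kd xd28 yd44 zd39) (kd xd25 yd8 zd18) (kd xd28 yd34 zd2) (kd xd32 yd37 zd24) (kd xd19 yd13 zd26) (kd xd19 yd13 zd27) (kd xd27 yd10 zd54) (kd xd19 yd13 zd28) (kd xd24 yd26 zd32) (kd xd24 yd4 zd46) (kd xd20 yd24 zd3) (kd xd28 yd13 zd11) (kd xd19 yd13 zd32) (kd xd32 yd12 zd43) (kd xd32 yd37 zd30) (kd xd20 yd57 zd57) (kd xd32 yd12 zd38) (kd xd32 yd12 zd24) (kd xd24 yd26 zd36) (kd xd32 yd37 zd33) (kd xd32 yd17 zd40) (kd xd26 yd51 zd26) (kd xd22 yd1 zd44) (kd xd32 yd13 zd61) (kd xd32 yd12 zd28) (kd xd30 yd31 zd3) (kd xd32 yd37 zd35) (kd xd19 yd13 zd41) (kd xd29 yd46 zd14) (kd xd19 yd13 zd54) (kd xd20 yd38 zd41) (kd xd26 yd59 zd34) (kd xd30 yd55 zd51) (kd xd29 yd25 zd44) (kd xd28 yd35 zd8) (kd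 xd28 yd35 zd9)) (@D3.rec (fun _ => Pt) (kd xd32 yd36 zd13) (kd xd19 yd13 zd45) (kd xd28 yd56 zd32) (kd xd26 yd43 zd14) (kd xd32 yd37 zd43) (kd xd19 yd13 zd47) (kd xd28 yd40 zd14) (kd xd27 yd35 zd58) (kd xd28 yd34 zd44) (kd xd28 yd56 zd37) (kd xd19 yd13 zd51) (kd xd24 yd35 zd20) (kd xd20 yd39 zd42) (kd xd20 yd24 zd44) (kd xd28 yd40 zd6) (kd xd19 yd13 zd56) (kd xd30 yd25 zd47) (kd xd30 yd25 zd48) (kd xd19 yd44 zd4) (kd xd32 yd12 zd20) (kd xd29 yd45 zd32) (kd xd32 yd36 zd14) (kd xd32 yd11 zd46) (kd xd29 yd45 zd26) (kd xd32 yd11 zd56) (kd xd19 yd14 zd3) (kd xd26 yd35 zd33) (kd xd26 yd35 zd32) (kd xd19 yd14 zd5) (kd xd19 yd56 zd47) (kd xd25 yd8 zd17) (kd xd31 yd24 zd53) (kd xd29 yd3 zd22) (kd xd29 yd45 zd23) (kd xd19 yd14 zd26) (kd xd29 yd45 zd52) (kd xd19 yd14 zd13) (kd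 xd28 yd56 zd45) (kd xd19 yd14 zd19) (kd xd27 yd8 zd12) (kd xd32 yd37 zd59) (kd xd32 yd37 zd60) (kd xd19 yd14 zd23) (kd xd32 yd38 zd0) (kd xd31 yd47 zd3) (kd xd19 yd14 zd24) (kd xd26 yd51 zd51) (kd xd32 yd38 zd2) (kd xd19 yd14 zd25) (kd xd26 yd59 zd26) (kd xd31 yd4 zd12) (kd xd25 yd45 zd28) (kd xd19 yd18 zd34) (kd xd27 yd30 zd42) (kd xd32 yd38 zd4) (kd xd27 yd4 zd37) (kd xd19 yd14 zd33) (kd xd23 yd11 zd36) (kd xd32 yd38 zd5) (kd xd27 yd7 zd54) (kd xd19 yd14 zd36) (kd xd32 yd35 zd24)) (@D3.rec (fun _ => Pt) (kd xd19 yd14 zd38) (kd xd32 yd24 zd60) (kd xd19 yd18 zd21) (kd xd32 yd38 zd8) (kd xd19 yd26 zd19) (kd xd32 yd6 zd42) (kd xd32 yd5 zd38) (kd xd19 yd14 zd41) (kd xd30 yd58 zd44) (kd xd19 yd14 zd42) (kd xd21 yd22 zd19) (kd xd25 yd51 zd31) (kd xd25 yd47 zd42) (kd xd24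 yd20 zd25) (kd xd19 yd14 zd46) (kd xd31 yd2 zd56) (kd xd21 yd6 zd30) (kd xd19 yd14 zd48) (kd xd29 yd10 zd15) (kd xd19 yd14 zd51) (kd xd30 yd0 zd6) (kd xd27 yd10 zd21) (kd xd31 yd53 zd12) (kd xd27 yd39 zd15) (kd xd27 yd25 zd8) (kd xd22 yd51 zd31) (kd xd22 yd39 zd54) (kd xd32 yd8 zd7) (kd xd21 yd54 zd29) (kd xd24 yd7 zd33) (kd xd27 yd31 zd39) (kd xd24 yd14 zd49) (kd xd19 yd15 zd11) (kd xd21 yd5 zd54) (kd xd32 yd5 zd58) (kd xd28 yd3 zd2) (kd xd32 yd5 zd50) (kd xd19 yd15 zd19) (kd xd19 yd15 zd23) (kd xd19 yd15 zd24) (kd xd19 yd18 zd38) (kd xd19 yd15 zd30) (kd xd24 yd29 zd29) (kd xd24 yd29 zd27) (kd xd30 yd20 zd41) (kd xd25 yd58 zd39) (kd xd29 yd16 zd52) (kd xd19 yd15 zd35) (kd xd25 yd52 zd58) (kd xd19 yd15 zd37) (kd xd19 yd15 zd39) (kd xd25 yd34 zd58) (kd xd24 yd20 zd31)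 (kd xd29 yd40 zd23) (kd xd27 yd50 zd47) (kd xd25 yd4 zd48) (kd xd23 yd47 zd60) (kd xd31 yd26 zd53) (kd xd28 yd15 zd59) (kd xd31 yd48 zd16) (kd xd31 yd27 zd4) (kd xd19 yd15 zd53)) (@D3.rec (fun _ => Pt) (kd xd29 yd41 zd41) (kd xd31 yd23 zd52) (kd xd31 yd10 zd50) (kd xd24 yd11 zd18) (kd xd19 yd16 zd3) (kd xd28 yd43 zd3) (kd xd31 yd50 zd34) (kd xd25 yd31 zd24) (kd xd25 yd41 zd53) (kd xd19 yd16 zd9) (kd xd31 yd54 zd37) (kd xd31 yd28 zd5) (kd xd31 yd28 zd4) (kd xd22 yd59 zd9) (kd xd24 yd16 zd16) (kd xd26 yd35 zd48) (kd xd30 yd6 zd29) (kd xd29 yd57 zd11) (kd xd19 yd16 zd14) (kd xd31 yd48 zd39) (kd xd19 yd16 zd15) (kd xd25 yd34 zd42) (kd xd29 yd0 zd8) (kd xd19 yd16 zd16) (kd xd29 yd0 zd9) (kd xd31 yd12 zd43) (kd xd31 yd12 zd44) (kd xd29 yd1 zd20) (kd xd21 yd23 zd23) (kd xd22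 yd22 zd2) (kd xd25 yd39 zd49) (kd xd29 yd40 zd9) (kd xd26 yd50 zd14) (kd xd23 yd55 zd23) (kd xd20 yd30 zd52) (kd xd25 yd33 zd33) (kd xd24 yd27 zd22) (kd xd25 yd27 zd33) (kd xd22 yd14 zd25) (kd xd19 yd53 zd29) (kd xd30 yd59 zd26) (kd xd27 yd56 zd52) (kd xd19 yd16 zd46) (kd xd32 yd32 zd44) (kd xd20 yd54 zd43) (kd xd31 yd37 zd39) (kd xd19 yd16 zd48) (kd xd19 yd16 zd49) (kd xd25 yd40 zd23) (kd xd25 yd40 zd24) (kd xd28 yd34 zd41) (kd xd24 yd31 zd42) (kd xd24 yd59 zd53) (kd xd27 yd56 zd46) (kd xd27 yd56 zd45) (kd xd26 yd11 zd26) (kd xd19 yd16 zd61) (kd xd21 yd23 zd58) (kd xd27 yd8 zd6) (kd xd21 yd26 zd55) (kd xd31 yd59 zd6) (kd xd19 yd17 zd9)) (@D3.rec (fun _ => Pt) (kd xd28 yd32 zd18) (kd xd30 yd19 zd18) (kd xd21 yd45 zd37) (kd xd28 yd42 zd5) (kd xd19 yd17 zd28) (kd xd19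 yd17 zd31) (kd xd20 yd37 zd50) (kd xd23 yd58 zd7) (kd xd23 yd57 zd54) (kd xd20 yd1 zd28) (kd xd30 yd37 zd59) (kd xd28 yd30 zd20) (kd xd24 yd35 zd2) (kd xd21 yd16 zd37) (kd xd19 yd58 zd27) (kd xd31 yd30 zd39) (kd xd30 yd38 zd46) (kd xd23 yd48 zd23) (kd xd19 yd17 zd53) (kd xd30 yd37 zd58) (kd xd26 yd25 zd35) (kd xd19 yd17 zd58) (kd xd32 yd36 zd46) (kd xd30 yd21 zd47) (kd xd19 yd17 zd59) (kd xd19 yd17 zd60) (kd xd19 yd17 zd61) (kd xd30 yd11 zd49) (kd xd21 yd2 zd56) (kd xd19 yd18 zd1) (kd xd26 yd24 zd57) (kd xd30 yd47 zd19) (kd xd32 yd15 zd17) (kd xd28 yd30 zd24) (kd xd24 yd9 zd10) (kd xd29 yd53 zd47) (kd xd29 yd8 zd57) (kd xd28 yd37 zd40) (kd xd19 yd18 zd17) (kd xd28 yd37 zd52) (kd xd19 yd26 zd21) (kd xd32 yd35 zd37) (kd xd22 yd32 zd43) (kd xd32 yd5 zd53) (kd xd32 yd21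 zd6) (kd xd32 yd5 zd54) (kd xd30 yd0 zd43) (kd xd32 yd38 zd9) (kd xd32 yd25 zd14) (kd xd19 yd18 zd26) (kd xd28 yd4 zd4) (kd xd23 yd36 zd0) (kd xd22 yd38 zd61) (kd xd23 yd34 zd46) (kd xd23 yd34 zd45) (kd xd30 yd32 zd49) (kd xd29 yd7 zd17) (kd xd26 yd2 zd19) (kd xd19 yd18 zd35) (kd xd19 yd18 zd39) (kd xd23 yd59 zd6) (kd xd31 yd43 zd5)) (@D3.rec (fun _ => Pt) (kd xd19 yd18 zd45) (kd xd32 yd38 zd24) (kd xd27 yd27 zd39) (kd xd19 yd18 zd48) (kd xd19 yd18 zd49) (kd xd19 yd18 zd51) (kd xd32 yd28 zd9) (kd xd22 yd13 zd1) (kd xd28 yd39 zd18) (kd xd28 yd29 zd58) (kd xd24 yd13 zd7) (kd xd24 yd13 zd13) (kd xd19 yd18 zd59) (kd xd31 yd18 zd1) (kd xd19 yd52 zd45) (kd xd26 yd45 zd28) (kd xd24 yd24 zd57) (kd xd23 yd57 zd23) (kd xd19 yd41 zd17) (kd xd19 yd19 zd7) (kd xd31 yd24 zd52) (kd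 xd32 yd13 zd42) (kd xd32 yd38 zd25) (kd xd19 yd19 zd17) (kd xd20 yd23 zd48) (kd xd24 yd12 zd2) (kd xd19 yd19 zd21) (kd xd32 yd13 zd33) (kd xd26 yd38 zd52) (kd xd32 yd38 zd27) (kd xd28 yd54 zd0) (kd xd19 yd19 zd22) (kd xd26 yd38 zd51) (kd xd26 yd46 zd23) (kd xd19 yd19 zd23) (kd xd19 yd19 zd24) (kd xd29 yd44 zd8) (kd xd19 yd19 zd26) (kd xd29 yd43 zd60) (kd xd28 yd39 zd26) (kd xd31 yd31 zd5) (kd xd21 yd49 zd39) (kd xd20 yd14 zd14) (kd xd19 yd19 zd33) (kd xd28 yd56 zd59) (kd xd20 yd49 zd38) (kd xd29 yd35 zd23) (kd xd29 yd24 zd9) (kd xd21 yd39 zd33) (kd xd25 yd43 zd52) (kd xd27 yd39 zd37) (kd xd31 yd56 zd21) (kd xd29 yd36 zd57) (kd xd19 yd19 zd53) (kd xd30 yd24 zd33) (kd xd28 yd23 zd38) (kd xd19 yd19 zd58) (kd xd27 yd46 zd53) (kd xd19 yd19 zd60) (kd xd19 yd19 zd61) (kd xd30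 yd22 zd51) (kd xd28 yd57 zd52)) (@D3.rec (fun _ => Pt) (kd xd30 yd20 zd59) (kd xd31 yd13 zd32) (kd xd19 yd20 zd4) (kd xd19 yd20 zd5) (kd xd28 yd23 zd53) (kd xd19 yd20 zd7) (kd xd25 yd55 zd0) (kd xd24 yd52 zd49) (kd xd30 yd3 zd18) (kd xd19 yd20 zd14) (kd xd24 yd50 zd28) (kd xd19 yd20 zd18) (kd xd29 yd32 zd45) (kd xd24 yd49 zd41) (kd xd31 yd51 zd13) (kd xd19 yd20 zd23) (kd xd32 yd18 zd4) (kd xd29 yd44 zd44) (kd xd19 yd20 zd24) (kd xd32 yd38 zd36) (kd xd31 yd17 zd51) (kd xd31 yd18 zd11) (kd xd23 yd23 zd24) (kd xd19 yd20 zd26) (kd xd30 yd56 zd8) (kd xd22 yd57 zd51) (kd xd19 yd20 zd29) (kd xd30 yd34 zd31) (kd xd32 yd17 zd37) (kd xd30 yd22 zd47) (kd xd19 yd20 zd31) (kd xd32 yd35 zd55) (kd xd31 yd51 zd8) (kd xd32 yd20 zd47) (kd xd19 yd20 zd36) (kd xd28 yd46 zd36) (kd xd28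 yd46 zd18) (kd xd28 yd31 zd1) (kd xd19 yd20 zd44) (kd xd28 yd5 zd0) (kd xd27 yd22 zd34) (kd xd19 yd20 zd49) (kd xd31 yd25 zd41) (kd xd19 yd20 zd56) (kd xd28 yd15 zd51) (kd xd19 yd21 zd2) (kd xd28 yd56 zd13) (kd xd19 yd21 zd5) (kd xd19 yd21 zd6) (kd xd24 yd50 zd54) (kd xd19 yd21 zd39) (kd xd30 yd24 zd35) (kd xd19 yd21 zd9) (kd xd27 yd5 zd12) (kd xd19 yd21 zd14) (kd xd22 yd57 zd45) (kd xd30 yd28 zd32) (kd xd28 yd52 zd51) (kd xd31 yd21 zd53) (kd xd28 yd21 zd60) (kd xd31 yd57 zd56) (kd xd19 yd21 zd35)) (@D3.rec (fun _ => Pt) (kd xd30 yd12 zd2) (kd xd31 yd45 zd33) (kd xd32 yd38 zd38) (kd xd31 yd29 zd25) (kd xd31 yd29 zd24) (kd xd19 yd21 zd38) (kd xd31 yd12 zd33) (kd xd19 yd42 zd22) (kd xd19 yd41 zd6) (kd xd28 yd21 zd61) (kd xd19 yd21 zd41) (kd xd19 yd50 zd59) (kd xd19 yd50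 zd57) (kd xd29 yd40 zd21) (kd xd23 yd45 zd51) (kd xd19 yd21 zd43) (kd xd29 yd55 zd48) (kd xd31 yd13 zd60) (kd xd28 yd45 zd36) (kd xd29 yd1 zd25) (kd xd19 yd21 zd47) (kd xd19 yd21 zd48) (kd xd19 yd32 zd32) (kd xd31 yd20 zd61) (kd xd32 yd38 zd40) (kd xd27 yd38 zd45) (kd xd19 yd21 zd52) (kd xd19 yd51 zd42) (kd xd32 yd37 zd10) (kd xd31 yd15 zd37) (kd xd23 yd53 zd26) (kd xd19 yd22 zd3) (kd xd32 yd36 zd30) (kd xd24 yd8 zd40) (kd xd32 yd31 zd45) (kd xd19 yd22 zd4) (kd xd28 yd45 zd35) (kd xd32 yd38 zd41) (kd xd19 yd22 zd7) (kd xd19 yd22 zd8) (kd xd22 yd15 zd24) (kd xd29 yd29 zd43) (kd xd32 yd38 zd43) (kd xd29 yd42 zd47) (kd xd32 yd38 zd44) (kd xd19 yd22 zd17) (kd xd19 yd22 zd21) (kd xd29 yd39 zd52) (kd xd22 yd15 zd37) (kd xd20 yd35 zd25) (kd xd26 yd43 zd15) (kd xd32 yd6 zd43)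 (kd xd32 yd7 zd60) (kd xd19 yd22 zd36) (kd xd28 yd19 zd39) (kd xd31 yd45 zd51) (kd xd19 yd22 zd39) (kd xd28 yd58 zd49) (kd xd32 yd29 zd21) (kd xd19 yd22 zd40) (kd xd32 yd28 zd53) (kd xd19 yd22 zd42)) (@D3.rec (fun _ => Pt) (kd xd28 yd54 zd1) (kd xd31 yd52 zd45) (kd xd31 yd39 zd51) (kd xd32 yd33 zd27) (kd xd27 yd50 zd43) (kd xd31 yd57 zd33) (kd xd19 yd22 zd51) (kd xd30 yd23 zd26) (kd xd21 yd4 zd60) (kd xd19 yd22 zd56) (kd xd31 yd57 zd35) (kd xd32 yd38 zd49) (kd xd32 yd38 zd52) (kd xd19 yd22 zd60) (kd xd30 yd45 zd26) (kd xd19 yd22 zd61) (kd xd27 yd54 zd61) (kd xd19 yd23 zd2) (kd xd30 yd35 zd21) (kd xd22 yd18 zd7) (kd xd19 yd23 zd5) (kd xd21 yd28 zd56) (kd xd25 yd45 zd37) (kd xd20 yd23 zd22) (kd xd21 yd39 zd16) (kd xd30 yd19 zd25) (kd xd19 yd23 zd20) (kd xd19 yd23 zd23)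 (kd xd20 yd48 zd36) (kd xd21 yd10 zd19) (kd xd19 yd23 zd28) (kd xd28 yd26 zd38) (kd xd20 yd9 zd22) (kd xd30 yd51 zd19) (kd xd30 yd51 zd18) (kd xd30 yd23 zd12) (kd xd19 yd42 zd27) (kd xd20 yd10 zd28) (kd xd20 yd10 zd29) (kd xd32 yd16 zd34) (kd xd28 yd22 zd59) (kd xd29 yd21 zd12) (kd xd19 yd23 zd50) (kd xd20 yd21 zd39) (kd xd21 yd5 zd10) (kd xd31 yd50 zd31) (kd xd27 yd4 zd56) (kd xd23 yd48 zd14) (kd xd19 yd23 zd59) (kd xd19 yd25 zd17) (kd xd29 yd27 zd47) (kd xd24 yd28 zd42) (kd xd28 yd24 zd34) (kd xd31 yd18 zd46) (kd xd31 yd50 zd30) (kd xd28 yd23 zd43) (kd xd19 yd24 zd5) (kd xd26 yd0 zd23) (kd xd19 yd24 zd8) (kd xd19 yd44 zd44) (kd xd32 yd15 zd40) (kd xd20 yd12 zd3)) (@D3.rec (fun _ => Pt) (kd xd32 yd32 zd4) (kd xd31 yd28 zd33) (kd xd19 yd24 zd13) (kd xd20 yd9 zd23) (kd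 xd24 yd52 zd60) (kd xd20 yd51 zd40) (kd xd19 yd34 zd20) (kd xd32 yd15 zd42) (kd xd19 yd24 zd25) (kd xd20 yd22 zd27) (kd xd31 yd59 zd42) (kd xd19 yd24 zd27) (kd xd21 yd5 zd27) (kd xd30 yd10 zd5) (kd xd22 yd54 zd37) (kd xd21 yd50 zd0) (kd xd27 yd11 zd24) (kd xd25 yd12 zd46) (kd xd31 yd35 zd58) (kd xd25 yd12 zd38) (kd xd29 yd57 zd5) (kd xd29 yd36 zd15) (kd xd31 yd53 zd58) (kd xd19 yd56 zd23) (kd xd24 yd35 zd28) (kd xd24 yd39 zd30) (kd xd24 yd39 zd28) (kd xd24 yd43 zd26) (kd xd19 yd29 zd8) (kd xd27 yd11 zd23) (kd xd27 yd11 zd22) (kd xd19 yd24 zd54) (kd xd25 yd5 zd49) (kd xd20 yd15 zd23) (kd xd27 yd53 zd30) (kd xd29 yd12 zd51) (kd xd19 yd25 zd10) (kd xd28 yd23 zd54) (kd xd23 yd5 zd41) (kd xd28 yd52 zd31) (kd xd26 yd22 zd17) (kd xd20 yd59 zd45) (kd xd20 yd32 zd59) (kd xd29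 yd55 zd50) (kd xd20 yd44 zd32) (kd xd19 yd25 zd23) (kd xd29 yd39 zd51) (kd xd19 yd25 zd24) (kd xd29 yd24 zd0) (kd xd24 yd30 zd19) (kd xd28 yd52 zd30) (kd xd32 yd38 zd56) (kd xd19 yd25 zd31) (kd xd31 yd55 zd25) (kd xd27 yd3 zd10) (kd xd29 yd39 zd59) (kd xd29 yd26 zd10) (kd xd19 yd25 zd33) (kd xd31 yd55 zd26) (kd xd26 yd43 zd17) (kd xd28 yd56 zd58) (kd xd28 yd53 zd3)) (@D3.rec (fun _ => Pt) (kd xd25 yd27 zd22) (kd xd26 yd46 zd10) (kd xd25 yd32 zd16) (kd xd19 yd25 zd38) (kd xd30 yd17 zd9) (kd xd20 yd49 zd56) (kd xd32 yd39 zd5) (kd xd19 yd25 zd41) (kd xd31 yd39 zd42) (kd xd32 yd39 zd6) (kd xd32 yd21 zd49) (kd xd31 yd30 zd50) (kd xd19 yd25 zd47) (kd xd19 yd40 zd6) (kd xd29 yd40 zd26) (kd xd19 yd25 zd49) (kd xd24 yd14 zd27) (kd xd19 yd25 zd53) (kd xd22 yd5 zd40) (kd xd25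 yd4 zd16) (kd xd22 yd20 zd25) (kd xd27 yd15 zd37) (kd xd23 yd16 zd51) (kd xd20 yd29 zd17) (kd xd27 yd44 zd8) (kd xd25 yd4 zd14) (kd xd19 yd56 zd44) (kd xd26 yd23 zd24) (kd xd27 yd9 zd9) (kd xd19 yd26 zd15) (kd xd24 yd42 zd58) (kd xd19 yd26 zd24) (kd xd26 yd3 zd9) (kd xd19 yd26 zd26) (kd xd19 yd48 zd12) (kd xd29 yd31 zd2) (kd xd21 yd2 zd13) (kd xd25 yd38 zd61) (kd xd19 yd26 zd32) (kd xd24 yd36 zd18) (kd xd32 yd39 zd10) (kd xd19 yd26 zd34) (kd xd26 yd48 zd5) (kd xd30 yd4 zd37) (kd xd19 yd26 zd37) (kd xd19 yd26 zd38) (kd xd19 yd49 zd15) (kd xd25 yd36 zd59) (kd xd30 yd56 zd22) (kd xd19 yd26 zd54) (kd xd32 yd39 zd12) (kd xd32 yd21 zd34) (kd xd32 yd4 zd20) (kd xd19 yd26 zd60) (kd xd20 yd4 zd51) (kd xd19 yd50 zd48) (kd xd19 yd27 zd6) (kd xd19 yd27 zd7) (kd xd32 yd34 zd4) (kd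 xd26 yd10 zd5) (kd xd19 yd27 zd10) (kd xd26 yd52 zd39)) (@D3.rec (fun _ => Pt) (kd xd19 yd27 zd9) (kd xd26 yd28 zd44) (kd xd24 yd15 zd9) (kd xd19 yd51 zd29) (kd xd21 yd13 zd42) (kd xd29 yd30 zd28) (kd xd24 yd11 zd36) (kd xd19 yd39 zd27) (kd xd24 yd20 zd57) (kd xd32 yd19 zd20) (kd xd19 yd27 zd28) (kd xd19 yd27 zd29) (kd xd29 yd53 zd38) (kd xd20 yd25 zd30) (kd xd26 yd55 zd48) (kd xd19 yd39 zd3) (kd xd29 yd0 zd57) (kd xd29 yd39 zd24) (kd xd31 yd24 zd8) (kd xd19 yd27 zd61) (kd xd30 yd12 zd11) (kd xd19 yd28 zd2) (kd xd24 yd30 zd37) (kd xd19 yd43 zd17) (kd xd32 yd37 zd11) (kd xd28 yd34 zd7) (kd xd29 yd34 zd24) (kd xd26 yd37 zd36) (kd xd26 yd46 zd44) (kd xd28 yd50 zd30) (kd xd28 yd50 zd29) (kd xd27 yd7 zd4) (kd xd24 yd8 zd13) (kd xd19 yd28 zd26) (kd xd29 yd46 zd33) (kd xd25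 yd43 zd19) (kd xd19 yd28 zd27) (kd xd22 yd0 zd13) (kd xd25 yd5 zd6) (kd xd28 yd39 zd2) (kd xd30 yd30 zd8) (kd xd23 yd56 zd54) (kd xd26 yd26 zd51) (kd xd28 yd7 zd54) (kd xd19 yd28 zd30) (kd xd32 yd39 zd22) (kd xd19 yd28 zd31) (kd xd22 yd11 zd0) (kd xd25 yd5 zd17) (kd xd32 yd39 zd24) (kd xd24 yd4 zd8) (kd xd19 yd28 zd33) (kd xd31 yd13 zd10) (kd xd24 yd23 zd3) (kd xd19 yd40 zd54) (kd xd23 yd26 zd34) (kd xd22 yd1 zd9) (kd xd24 yd30 zd34) (kd xd30 yd53 zd11) (kd xd30 yd50 zd18) (kd xd30 yd11 zd44) (kd xd30 yd37 zd28)) (@D3.rec (fun _ => Pt) (kd xd19 yd34 zd16) (kd xd19 yd28 zd53) (kd xd30 yd57 zd0) (kd xd19 yd28 zd54) (kd xd29 yd51 zd16) (kd xd23 yd27 zd42) (kd xd25 yd59 zd18) (kd xd32 yd39 zd29) (kd xd28 yd57 zd61) (kd xd31 yd26 zd38) (kd xd22 yd25 zd2) (kd xd28 yd57 zd60)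 (kd xd25 yd55 zd37) (kd xd25 yd55 zd8) (kd xd30 yd9 zd26) (kd xd19 yd29 zd5) (kd xd26 yd55 zd54) (kd xd31 yd53 zd45) (kd xd19 yd29 zd9) (kd xd29 yd45 zd28) (kd xd19 yd58 zd9) (kd xd24 yd51 zd39) (kd xd24 yd50 zd30) (kd xd24 yd50 zd31) (kd xd25 yd22 zd22) (kd xd25 yd6 zd20) (kd xd19 yd29 zd15) (kd xd24 yd51 zd40) (kd xd27 yd12 zd5) (kd xd26 yd54 zd35) (kd xd19 yd29 zd16) (kd xd31 yd20 zd31) (kd xd19 yd29 zd17) (kd xd28 yd8 zd17) (kd xd32 yd28 zd50) (kd xd19 yd29 zd19) (kd xd32 yd38 zd16) (kd xd27 yd22 zd54) (kd xd31 yd40 zd24) (kd xd31 yd30 zd0) (kd xd32 yd39 zd36) (kd xd19 yd29 zd26) (kd xd32 yd39 zd37) (kd xd32 yd22 zd33) (kd xd29 yd7 zd24) (kd xd29 yd7 zd25) (kd xd31 yd30 zd1) (kd xd32 yd39 zd38) (kd xd25 yd20 zd28) (kd xd19 yd29 zd31) (kd xd25 yd19 zd11) (kd xd19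 yd29 zd32) (kd xd27 yd12 zd0) (kd xd29 yd2 zd26) (kd xd30 yd26 zd3) (kd xd19 yd29 zd34) (kd xd32 yd22 zd40) (kd xd27 yd10 zd3) (kd xd27 yd10 zd4) (kd xd32 yd39 zd44) (kd xd19 yd29 zd38) (kd xd29 yd39 zd32)) (@D3.rec (fun _ => Pt) (kd xd28 yd17 zd31) (kd xd28 yd20 zd60) (kd xd27 yd10 zd58) (kd xd30 yd5 zd55) (kd xd22 yd22 zd9) (kd xd30 yd5 zd56) (kd xd27 yd19 zd29) (kd xd30 yd5 zd58) (kd xd30 yd25 zd49) (kd xd19 yd29 zd45) (kd xd27 yd59 zd8) (kd xd30 yd23 zd58) (kd xd29 yd53 zd39) (kd xd26 yd57 zd11) (kd xd30 yd25 zd20) (kd xd19 yd29 zd53) (kd xd32 yd39 zd49) (kd xd25 yd46 zd55) (kd xd32 yd15 zd16) (kd xd30 yd53 zd50) (kd xd29 yd30 zd49) (kd xd19 yd29 zd56) (kd xd19 yd29 zd57) (kd xd29 yd53 zd40) (kd xd32 yd39 zd50) (kd xd30 yd18 zd42) (kd xd19 yd29 zd58) (kd xd20 yd28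 zd15) (kd xd32 yd39 zd51) (kd xd19 yd29 zd59) (kd xd28 yd48 zd50) (kd xd28 yd48 zd39) (kd xd32 yd39 zd52) (kd xd19 yd29 zd61) (kd xd30 yd12 zd4) (kd xd21 yd20 zd33) (kd xd29 yd41 zd5) (kd xd24 yd8 zd31) (kd xd31 yd59 zd57) (kd xd32 yd39 zd55) (kd xd19 yd30 zd3) (kd xd25 yd31 zd60) (kd xd24 yd17 zd10) (kd xd19 yd30 zd5) (kd xd19 yd36 zd3) (kd xd24 yd13 zd26) (kd xd23 yd48 zd12) (kd xd19 yd30 zd13) (kd xd31 yd13 zd34) (kd xd25 yd47 zd52) (kd xd31 yd59 zd19) (kd xd28 yd45 zd57) (kd xd30 yd22 zd16) (kd xd27 yd4 zd58) (kd xd29 yd36 zd38) (kd xd23 yd40 zd31) (kd xd19 yd30 zd17) (kd xd24 yd25 zd59) (kd xd19 yd30 zd19) (kd xd32 yd39 zd58) (kd xd19 yd30 zd20) (kd xd32 yd39 zd59)) (@D3.rec (fun _ => Pt) (kd xd19 yd30 zd23) (kd xd28 yd16 zd34) (kd xd32 yd21 zd26) (kd xd28 yd48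 zd61) (kd xd19 yd30 zd27) (kd xd20 yd44 zd28) (kd xd20 yd48 zd5) (kd xd20 yd48 zd15) (kd xd20 yd48 zd16) (kd xd32 yd34 zd21) (kd xd31 yd22 zd59) (kd xd19 yd30 zd31) (kd xd22 yd25 zd58) (kd xd19 yd30 zd32) (kd xd29 yd39 zd25) (kd xd19 yd30 zd35) (kd xd19 yd30 zd36) (kd xd32 yd21 zd60) (kd xd26 yd44 zd58) (kd xd30 yd37 zd49) (kd xd30 yd39 zd50) (kd xd19 yd30 zd38) (kd xd32 yd40 zd3) (kd xd19 yd30 zd39) (kd xd31 yd18 zd42) (kd xd22 yd41 zd49) (kd xd19 yd30 zd40) (kd xd32 yd40 zd5) (kd xd19 yd30 zd41) (kd xd20 yd53 zd3) (kd xd29 yd7 zd32) (kd xd19 yd30 zd43) (kd xd28 yd28 zd54) (kd xd19 yd41 zd29) (kd xd24 yd31 zd52) (kd xd26 yd22 zd7) (kd xd29 yd8 zd56) (kd xd19 yd51 zd19) (kd xd29 yd28 zd26) (kd xd19 yd30 zd49) (kd xd29 yd1 zd10) (kd xd19 yd33 zd35) (kd xd19 yd34 zd2)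 (kd xd32 yd40 zd10) (kd xd19 yd30 zd52) (kd xd21 yd41 zd45) (kd xd19 yd30 zd56) (kd xd23 yd57 zd44) (kd xd24 yd26 zd34) (kd xd25 yd5 zd55) (kd xd19 yd31 zd8) (kd xd29 yd0 zd56) (kd xd27 yd36 zd54) (kd xd19 yd31 zd14) (kd xd23 yd58 zd18) (kd xd31 yd58 zd15) (kd xd31 yd17 zd55) (kd xd24 yd26 zd40) (kd xd21 yd45 zd61) (kd xd24 yd9 zd37) (kd xd21 yd34 zd48) (kd xd29 yd5 zd23)) (@D3.rec (fun _ => Pt) (kd xd28 yd44 zd30) (kd xd28 yd47 zd0) (kd xd19 yd31 zd28) (kd xd25 yd45 zd6) (kd xd27 yd52 zd47) (kd xd24 yd12 zd8) (kd xd31 yd36 zd14) (kd xd29 yd0 zd5) (kd xd24 yd26 zd50) (kd xd22 yd25 zd0) (kd xd19 yd31 zd39) (kd xd26 yd2 zd43) (kd xd28 yd0 zd22) (kd xd25 yd39 zd26) (kd xd32 yd40 zd12) (kd xd30 yd31 zd2) (kd xd29 yd34 zd7) (kd xd19 yd31 zd45) (kd xd30 yd41 zd35) (kd xd31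 yd26 zd18) (kd xd19 yd31 zd47) (kd xd32 yd40 zd15) (kd xd29 yd34 zd10) (kd xd19 yd31 zd48) (kd xd32 yd20 zd61) (kd xd19 yd31 zd49) (kd xd20 yd58 zd5) (kd xd20 yd57 zd60) (kd xd19 yd31 zd51) (kd xd19 yd31 zd52) (kd xd32 yd40 zd21) (kd xd19 yd31 zd53) (kd xd26 yd34 zd53) (kd xd31 yd51 zd6) (kd xd27 yd20 zd18) (kd xd19 yd31 zd55) (kd xd29 yd34 zd14) (kd xd32 yd22 zd57) (kd xd28 yd0 zd23) (kd xd26 yd2 zd5) (kd xd29 yd47 zd36) (kd xd24 yd4 zd13) (kd xd20 yd57 zd33) (kd xd32 yd12 zd39) (kd xd20 yd55 zd18) (kd xd20 yd55 zd19) (kd xd29 yd45 zd37) (kd xd32 yd40 zd27) (kd xd19 yd32 zd2) (kd xd19 yd32 zd4) (kd xd30 yd17 zd31) (kd xd32 yd13 zd4) (kd xd24 yd3 zd20) (kd xd19 yd32 zd10) (kd xd20 yd39 zd19) (kd xd30 yd15 zd36) (kd xd28 yd32 zd43) (kd xd32 yd17 zd3) (kd xd19 yd32 zd18)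 (kd xd19 yd32 zd24) (kd xd19 yd32 zd27) (kd xd29 yd35 zd51)) (@D3.rec (fun _ => Pt) (kd xd19 yd32 zd38) (kd xd21 yd36 zd54) (kd xd20 yd30 zd30) (kd xd32 yd40 zd31) (kd xd29 yd7 zd28) (kd xd19 yd42 zd31) (kd xd19 yd32 zd51) (kd xd30 yd21 zd11) (kd xd32 yd40 zd33) (kd xd32 yd39 zd8) (kd xd32 yd39 zd7) (kd xd19 yd32 zd53) (kd xd32 yd39 zd14) (kd xd32 yd40 zd36) (kd xd32 yd40 zd37) (kd xd32 yd10 zd29) (kd xd30 yd21 zd23) (kd xd19 yd33 zd1) (kd xd32 yd40 zd38) (kd xd32 yd40 zd40) (kd xd19 yd33 zd2) (kd xd32 yd40 zd43) (kd xd19 yd33 zd3) (kd xd25 yd21 zd58) (kd xd24 yd8 zd15) (kd xd19 yd33 zd5) (kd xd23 yd37 zd10) (kd xd19 yd33 zd9) (kd xd32 yd40 zd51) (kd xd32 yd40 zd54) (kd xd19 yd33 zd13) (kd xd19 yd33 zd14) (kd xd19 yd33 zd15) (kd xd19 yd33 zd25) (kd xd19 yd33 zd27) (kd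 xd28 yd23 zd61) (kd xd28 yd15 zd39) (kd xd28 yd34 zd18) (kd xd19 yd33 zd32) (kd xd26 yd43 zd32) (kd xd27 yd14 zd55) (kd xd32 yd40 zd56) (kd xd31 yd33 zd30) (kd xd31 yd22 zd30) (kd xd19 yd33 zd36) (kd xd32 yd40 zd58) (kd xd29 yd40 zd20) (kd xd19 yd33 zd37) (kd xd19 yd33 zd38) (kd xd26 yd49 zd41) (kd xd27 yd21 zd58) (kd xd19 yd33 zd40) (kd xd32 yd12 zd34) (kd xd28 yd13 zd55) (kd xd19 yd33 zd54) (kd xd28 yd1 zd38) (kd xd19 yd33 zd55) (kd xd32 yd12 zd33) (kd xd30 yd14 zd16) (kd xd27 yd43 zd54) (kd xd27 yd43 zd53) (kd xd19 yd33 zd61)) (@D3.rec (fun _ => Pt) (kd xd32 yd40 zd41) (kd xd19 yd34 zd1) (kd xd25 yd59 zd39) (kd xd28 yd33 zd23) (kd xd32 yd38 zd53) (kd xd30 yd35 zd8) (kd xd19 yd34 zd3) (kd xd32 yd21 zd18) (kd xd19 yd34 zd4) (kd xd32 yd40 zd59) (kd xd19 yd34 zd5) (kd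 xd29 yd3 zd14) (kd xd29 yd2 zd54) (kd xd28 yd45 zd46) (kd xd19 yd34 zd7) (kd xd19 yd34 zd8) (kd xd22 yd50 zd9) (kd xd19 yd34 zd12) (kd xd24 yd18 zd15) (kd xd20 yd33 zd37) (kd xd30 yd24 zd17) (kd xd19 yd34 zd18) (kd xd19 yd34 zd25) (kd xd21 yd53 zd57) (kd xd26 yd45 zd33) (kd xd32 yd41 zd1) (kd xd22 yd0 zd26) (kd xd24 yd6 zd14) (kd xd21 yd46 zd5) (kd xd19 yd34 zd39) (kd xd27 yd0 zd17) (kd xd20 yd55 zd21) (kd xd28 yd40 zd2) (kd xd20 yd55 zd22) (kd xd20 yd57 zd52) (kd xd27 yd36 zd3) (kd xd30 yd20 zd24) (kd xd28 yd40 zd9) (kd xd19 yd34 zd45) (kd xd29 yd5 zd16) (kd xd30 yd10 zd1) (kd xd19 yd34 zd47) (kd xd32 yd41 zd12) (kd xd19 yd34 zd51) (kd xd19 yd53 zd43) (kd xd28 yd40 zd37) (kd xd28 yd59 zd60) (kd xd28 yd56 zd52) (kd xd26 yd46 zd42) (kd xd29 yd35 zd0) (kd xd19 yd35 zd0)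 (kd xd28 yd59 zd36) (kd xd28 yd56 zd47) (kd xd28 yd59 zd38) (kd xd25 yd34 zd48) (kd xd31 yd23 zd26) (kd xd23 yd37 zd50) (kd xd19 yd35 zd7) (kd xd28 yd48 zd60) (kd xd28 yd44 zd44) (kd xd30 yd19 zd35) (kd xd19 yd35 zd11)) (@D3.rec (fun _ => Pt) (kd xd31 yd13 zd7) (kd xd19 yd35 zd14) (kd xd23 yd24 zd24) (kd xd30 yd7 zd11) (kd xd19 yd50 zd10) (kd xd19 yd35 zd19) (kd xd19 yd44 zd21) (kd xd22 yd37 zd18) (kd xd24 yd36 zd56) (kd xd31 yd36 zd44) (kd xd19 yd35 zd22) (kd xd25 yd11 zd24) (kd xd24 yd37 zd36) (kd xd19 yd35 zd23) (kd xd29 yd6 zd44) (kd xd20 yd3 zd45) (kd xd19 yd35 zd24) (kd xd23 yd56 zd43) (kd xd23 yd56 zd40) (kd xd21 yd43 zd46) (kd xd20 yd2 zd23) (kd xd19 yd35 zd26) (kd xd19 yd35 zd27) (kd xd25 yd37 zd30) (kd xd29 yd17 zd60) (kd xd19 yd45 zd55) (kd xd29 yd6 zd52)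 (kd xd19 yd45 zd58) (kd xd28 yd37 zd8) (kd xd24 yd51 zd16) (kd xd25 yd22 zd31) (kd xd19 yd38 zd48) (kd xd29 yd27 zd34) (kd xd19 yd35 zd34) (kd xd19 yd35 zd37) (kd xd25 yd7 zd19) (kd xd31 yd36 zd19) (kd xd25 yd48 zd31) (kd xd32 yd18 zd5) (kd xd30 yd10 zd55) (kd xd24 yd7 zd45) (kd xd32 yd38 zd54) (kd xd21 yd40 zd3) (kd xd21 yd58 zd56) (kd xd31 yd54 zd24) (kd xd19 yd35 zd51) (kd xd27 yd37 zd28) (kd xd26 yd41 zd61) (kd xd19 yd35 zd55) (kd xd21 yd37 zd29) (kd xd19 yd41 zd23) (kd xd21 yd39 zd24) (kd xd28 yd44 zd61) (kd xd29 yd43 zd3) (kd xd19 yd35 zd59) (kd xd24 yd15 zd14) (kd xd19 yd35 zd60) (kd xd24 yd44 zd15) (kd xd19 yd35 zd61) (kd xd31 yd56 zd22) (kd xd28 yd51 zd11) (kd xd28 yd51 zd8)) (@D3.rec (fun _ => Pt) (kd xd30 yd55 zd60) (kd xd19 yd36 zd5) (kd xd25 yd52 zd52)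 (kd xd31 yd41 zd23) (kd xd27 yd37 zd46) (kd xd20 yd7 zd45) (kd xd31 yd49 zd8) (kd xd31 yd5 zd37) (kd xd19 yd36 zd22) (kd xd25 yd31 zd59) (kd xd31 yd5 zd36) (kd xd19 yd36 zd23) (kd xd30 yd10 zd4) (kd xd30 yd6 zd19) (kd xd24 yd35 zd56) (kd xd30 yd6 zd22) (kd xd31 yd48 zd60) (kd xd19 yd36 zd29) (kd xd19 yd36 zd30) (kd xd28 yd36 zd33) (kd xd27 yd7 zd37) (kd xd22 yd3 zd2) (kd xd28 yd29 zd13) (kd xd19 yd36 zd35) (kd xd25 yd53 zd32) (kd xd27 yd17 zd33) (kd xd19 yd36 zd37) (kd xd21 yd31 zd4) (kd xd27 yd17 zd1) (kd xd31 yd31 zd39) (kd xd19 yd36 zd44) (kd xd32 yd23 zd8) (kd xd31 yd35 zd35) (kd xd32 yd24 zd5) (kd xd19 yd36 zd49) (kd xd30 yd27 zd3) (kd xd29 yd41 zd42) (kd xd19 yd36 zd58) (kd xd27 yd23 zd13) (kd xd22 yd0 zd16) (kd xd31 yd37 zd26) (kd xd29 yd12 zd0) (kd xd28 yd20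 zd46) (kd xd27 yd23 zd2) (kd xd31 yd39 zd53) (kd xd19 yd37 zd2) (kd xd31 yd26 zd57) (kd xd19 yd37 zd3) (kd xd26 yd44 zd20) (kd xd28 yd46 zd57) (kd xd21 yd55 zd60) (kd xd24 yd41 zd18) (kd xd23 yd36 zd25) (kd xd21 yd5 zd0) (kd xd21 yd50 zd22) (kd xd19 yd37 zd13) (kd xd21 yd33 zd14) (kd xd27 yd17 zd24) (kd xd21 yd32 zd10) (kd xd21 yd46 zd14) (kd xd31 yd16 zd11) (kd xd19 yd37 zd16)) (@D3.rec (fun _ => Pt) (kd xd19 yd37 zd17) (kd xd21 yd0 zd16) (kd xd19 yd37 zd19) (kd xd20 yd41 zd28) (kd xd20 yd41 zd29) (kd xd19 yd40 zd24) (kd xd20 yd4 zd59) (kd xd19 yd45 zd28) (kd xd19 yd37 zd24) (kd xd28 yd5 zd14) (kd xd29 yd27 zd11) (kd xd29 yd20 zd0) (kd xd19 yd37 zd29) (kd xd20 yd43 zd22) (kd xd20 yd43 zd7) (kd xd30 yd51 zd41) (kd xd20 yd43 zd24) (kd xd20 yd43 zd4) (kd xd25 yd22 zd39)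 (kd xd21 yd50 zd23) (kd xd24 yd19 zd26) (kd xd31 yd13 zd19) (kd xd19 yd37 zd43) (kd xd19 yd37 zd44) (kd xd19 yd37 zd54) (kd xd30 yd1 zd33) (kd xd32 yd19 zd55) (kd xd19 yd37 zd57) (kd xd23 yd27 zd34) (kd xd28 yd59 zd52) (kd xd32 yd41 zd20) (kd xd31 yd41 zd54) (kd xd29 yd13 zd28) (kd xd32 yd41 zd28) (kd xd19 yd38 zd2) (kd xd25 yd6 zd24) (kd xd28 yd56 zd51) (kd xd26 yd2 zd59) (kd xd28 yd56 zd53) (kd xd25 yd13 zd43) (kd xd25 yd33 zd36) (kd xd26 yd35 zd10) (kd xd25 yd33 zd39) (kd xd25 yd33 zd42) (kd xd25 yd23 zd32) (kd xd19 yd38 zd9) (kd xd26 yd48 zd37) (kd xd29 yd13 zd32) (kd xd29 yd59 zd2) (kd xd19 yd38 zd14) (kd xd25 yd9 zd23) (kd xd24 yd52 zd7) (kd xd28 yd59 zd29) (kd xd32 yd41 zd32) (kd xd28 yd37 zd57) (kd xd32 yd41 zd33) (kd xd19 yd38 zd21) (kd xd25 yd35 zd3) (kd xd25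 yd57 zd17) (kd xd25 yd12 zd30) (kd xd28 yd56 zd46) (kd xd31 yd14 zd9))
def f_d_29 : D2 → D3 → Pt := @D2.rec (fun _ => D3 → Pt) (@D3.rec (fun _ => Pt) (kd xd19 yd38 zd32) (kd xd22 yd3 zd21) (kd xd21 yd20 zd57) (kd xd32 yd41 zd35) (kd xd25 yd25 zd12) (kd xd28 yd54 zd7) (kd xd19 yd38 zd40) (kd xd30 yd9 zd24) (kd xd28 yd42 zd22) (kd xd28 yd42 zd24) (kd xd26 yd45 zd41) (kd xd22 yd5 zd51) (kd xd32 yd16 zd23) (kd xd32 yd41 zd36) (kd xd31 yd28 zd52) (kd xd20 yd49 zd51) (kd xd25 yd58 zd25) (kd xd25 yd58 zd30) (kd xd31 yd45 zd39) (kd xd21 yd57 zd36) (kd xd19 yd49 zd34) (kd xd29 yd12 zd52) (kd xd30 yd6 zd36) (kd xd31 yd49 zd7) (kd xd19 yd39 zd15) (kd xd19 yd39 zd17) (kd xd21 yd57 zd41) (kd xd19 yd39 zd20) (kd xd19 yd53 zd12) (kd xd28 yd21 zd15) (kd xd23 yd12 zd19) (kd xd23 yd12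 zd18) (kd xd26 yd28 zd42) (kd xd26 yd23 zd38) (kd xd25 yd32 zd55) (kd xd19 yd39 zd35) (kd xd19 yd39 zd38) (kd xd21 yd32 zd60) (kd xd19 yd39 zd47) (kd xd19 yd46 zd52) (kd xd28 yd12 zd42) (kd xd31 yd0 zd23) (kd xd31 yd2 zd26) (kd xd28 yd18 zd3) (kd xd25 yd38 zd17) (kd xd29 yd0 zd47) (kd xd29 yd0 zd53) (kd xd29 yd0 zd45) (kd xd27 yd38 zd1) (kd xd19 yd40 zd14) (kd xd20 yd5 zd2) (kd xd19 yd40 zd18) (kd xd19 yd53 zd22) (kd xd29 yd0 zd46) (kd xd21 yd3 zd36) (kd xd19 yd40 zd23) (kd xd28 yd53 zd51) (kd xd28 yd50 zd16) (kd xd23 yd52 zd59) (kd xd23 yd52 zd60) (kd xd20 yd3 zd18) (kd xd32 yd12 zd36)) (@D3.rec (fun _ => Pt) (kd xd20 yd37 zd37) (kd xd21 yd42 zd44) (kd xd31 yd28 zd24) (kd xd19 yd40 zd53) (kd xd25 yd56 zd21) (kd xd31 yd23 zd33) (kd xd23 yd51 zd43) (kd xd29 yd49 zd12)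 (kd xd30 yd32 zd31) (kd xd19 yd41 zd11) (kd xd28 yd53 zd40) (kd xd24 yd28 zd55) (kd xd28 yd7 zd39) (kd xd29 yd30 zd26) (kd xd21 yd35 zd11) (kd xd29 yd8 zd35) (kd xd31 yd18 zd57) (kd xd23 yd55 zd48) (kd xd31 yd26 zd47) (kd xd32 yd0 zd55) (kd xd28 yd42 zd27) (kd xd31 yd10 zd6) (kd xd19 yd41 zd25) (kd xd19 yd41 zd28) (kd xd29 yd7 zd61) (kd xd28 yd46 zd19) (kd xd27 yd2 zd29) (kd xd19 yd41 zd35) (kd xd24 yd28 zd45) (kd xd30 yd39 zd43) (kd xd19 yd41 zd36) (kd xd30 yd20 zd50) (kd xd26 yd43 zd23) (kd xd30 yd50 zd20) (kd xd19 yd41 zd38) (kd xd31 yd30 zd31) (kd xd30 yd30 zd31) (kd xd30 yd30 zd30) (kd xd19 yd41 zd39) (kd xd30 yd29 zd54) (kd xd28 yd13 zd42) (kd xd19 yd41 zd40) (kd xd32 yd1 zd3) (kd xd19 yd41 zd41) (kd xd29 yd53 zd37) (kd xd23 yd4 zd25) (kd xd29 yd7 zd14) (kd xd24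 yd40 zd25) (kd xd25 yd38 zd5) (kd xd22 yd39 zd40) (kd xd19 yd41 zd46) (kd xd32 yd38 zd39) (kd xd19 yd41 zd48) (kd xd32 yd18 zd16) (kd xd30 yd32 zd28) (kd xd30 yd47 zd25) (kd xd19 yd41 zd50) (kd xd31 yd13 zd48) (kd xd30 yd35 zd4) (kd xd27 yd10 zd18) (kd xd25 yd48 zd22) (kd xd32 yd20 zd31)) (@D3.rec (fun _ => Pt) (kd xd19 yd41 zd55) (kd xd28 yd35 zd13) (kd xd27 yd52 zd59) (kd xd19 yd41 zd58) (kd xd28 yd35 zd14) (kd xd19 yd41 zd59) (kd xd25 yd59 zd24) (kd xd25 yd59 zd44) (kd xd32 yd12 zd23) (kd xd19 yd41 zd61) (kd xd23 yd5 zd43) (kd xd28 yd20 zd33) (kd xd30 yd31 zd34) (kd xd23 yd48 zd7) (kd xd23 yd48 zd9) (kd xd19 yd42 zd6) (kd xd29 yd48 zd18) (kd xd30 yd19 zd9) (kd xd24 yd48 zd42) (kd xd25 yd22 zd20) (kd xd32 yd41 zd50) (kd xd19 yd42 zd18) (kd xd27 yd35 zd32) (kd xd19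 yd58 zd18) (kd xd25 yd4 zd34) (kd xd30 yd39 zd47) (kd xd28 yd51 zd53) (kd xd19 yd42 zd24) (kd xd32 yd33 zd5) (kd xd21 yd38 zd38) (kd xd30 yd27 zd4) (kd xd24 yd39 zd17) (kd xd32 yd3 zd33) (kd xd19 yd58 zd26) (kd xd32 yd17 zd43) (kd xd26 yd57 zd43) (kd xd31 yd40 zd54) (kd xd19 yd42 zd41) (kd xd29 yd45 zd21) (kd xd19 yd42 zd45) (kd xd32 yd41 zd52) (kd xd31 yd39 zd39) (kd xd19 yd42 zd46) (kd xd28 yd31 zd43) (kd xd29 yd32 zd41) (kd xd26 yd54 zd47) (kd xd26 yd54 zd48) (kd xd31 yd52 zd48) (kd xd24 yd32 zd51) (kd xd19 yd42 zd51) (kd xd20 yd58 zd35) (kd xd26 yd54 zd50) (kd xd29 yd5 zd53) (kd xd19 yd42 zd60) (kd xd28 yd56 zd12) (kd xd19 yd42 zd61) (kd xd19 yd51 zd14) (kd xd19 yd43 zd5) (kd xd27 yd21 zd59) (kd xd24 yd53 zd29) (kd xd23 yd42 zd27) (kd xd23 yd48 zd18)) (@D3.rec (fun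 _ => Pt) (kd xd30 yd24 zd16) (kd xd24 yd24 zd33) (kd xd32 yd16 zd47) (kd xd30 yd21 zd6) (kd xd19 yd43 zd25) (kd xd30 yd50 zd23) (kd xd23 yd0 zd9) (kd xd19 yd43 zd31) (kd xd32 yd41 zd53) (kd xd19 yd43 zd34) (kd xd32 yd32 zd53) (kd xd24 yd53 zd28) (kd xd21 yd0 zd49) (kd xd32 yd33 zd4) (kd xd28 yd56 zd11) (kd xd19 yd43 zd49) (kd xd25 yd37 zd22) (kd xd22 yd4 zd1) (kd xd22 yd1 zd41) (kd xd19 yd44 zd3) (kd xd32 yd41 zd54) (kd xd32 yd40 zd22) (kd xd28 yd40 zd32) (kd xd32 yd20 zd59) (kd xd32 yd17 zd38) (kd xd19 yd44 zd23) (kd xd32 yd41 zd56) (kd xd31 yd4 zd20) (kd xd19 yd44 zd25) (kd xd25 yd4 zd10) (kd xd31 yd56 zd34) (kd xd19 yd44 zd29) (kd xd30 yd9 zd42) (kd xd31 yd4 zd14) (kd xd19 yd44 zd31) (kd xd23 yd45 zd21) (kd xd19 yd44 zd33) (kd xd31 yd56 zd35) (kd xd31 yd36 zd15)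 (kd xd19 yd44 zd37) (kd xd29 yd15 zd47) (kd xd19 yd44 zd38) (kd xd26 yd20 zd35) (kd xd19 yd45 zd40) (kd xd20 yd59 zd17) (kd xd20 yd59 zd13) (kd xd25 yd24 zd60) (kd xd25 yd24 zd59) (kd xd22 yd20 zd43) (kd xd21 yd50 zd31) (kd xd19 yd44 zd46) (kd xd30 yd7 zd53) (kd xd19 yd44 zd48) (kd xd22 yd3 zd61) (kd xd25 yd10 zd23) (kd xd19 yd44 zd52) (kd xd19 yd44 zd53) (kd xd29 yd5 zd18) (kd xd31 yd4 zd28) (kd xd19 yd44 zd57) (kd xd31 yd29 zd8) (kd xd31 yd45 zd59)) (@D3.rec (fun _ => Pt) (kd xd31 yd29 zd11) (kd xd23 yd9 zd47) (kd xd26 yd36 zd61) (kd xd26 yd37 zd12) (kd xd19 yd45 zd5) (kd xd32 yd41 zd61) (kd xd30 yd44 zd5) (kd xd19 yd45 zd12) (kd xd19 yd45 zd13) (kd xd32 yd42 zd1) (kd xd19 yd45 zd14) (kd xd26 yd41 zd58) (kd xd27 yd58 zd40) (kd xd25 yd28 zd7) (kd xd19 yd45 zd19) (kd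 xd22 yd18 zd29) (kd xd21 yd39 zd22) (kd xd30 yd56 zd20) (kd xd31 yd10 zd41) (kd xd19 yd45 zd23) (kd xd19 yd45 zd24) (kd xd31 yd36 zd37) (kd xd32 yd21 zd61) (kd xd26 yd1 zd27) (kd xd32 yd42 zd4) (kd xd32 yd42 zd5) (kd xd32 yd42 zd6) (kd xd19 yd45 zd26) (kd xd32 yd0 zd42) (kd xd20 yd49 zd45) (kd xd31 yd29 zd53) (kd xd19 yd45 zd29) (kd xd30 yd5 zd17) (kd xd25 yd58 zd49) (kd xd19 yd45 zd31) (kd xd29 yd41 zd25) (kd xd20 yd42 zd32) (kd xd20 yd42 zd38) (kd xd30 yd9 zd46) (kd xd22 yd9 zd41) (kd xd22 yd9 zd12) (kd xd25 yd5 zd4) (kd xd32 yd42 zd14) (kd xd19 yd45 zd41) (kd xd25 yd22 zd7) (kd xd19 yd45 zd44) (kd xd25 yd36 zd19) (kd xd20 yd2 zd21) (kd xd29 yd16 zd17) (kd xd32 yd42 zd18) (kd xd19 yd45 zd50) (kd xd31 yd56 zd0) (kd xd30 yd9 zd40) (kd xd32 yd42 zd20) (kd xd19 yd45 zd53)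 (kd xd31 yd55 zd52) (kd xd24 yd17 zd16) (kd xd24 yd15 zd7) (kd xd30 yd9 zd39) (kd xd26 yd4 zd55) (kd xd25 yd36 zd47) (kd xd19 yd45 zd59)) (@D3.rec (fun _ => Pt) (kd xd19 yd45 zd60) (kd xd24 yd23 zd53) (kd xd24 yd23 zd61) (kd xd31 yd42 zd29) (kd xd25 yd53 zd52) (kd xd26 yd20 zd37) (kd xd25 yd8 zd56) (kd xd30 yd3 zd5) (kd xd30 yd3 zd11) (kd xd32 yd30 zd52) (kd xd31 yd53 zd25) (kd xd28 yd11 zd15) (kd xd31 yd53 zd55) (kd xd29 yd16 zd37) (kd xd30 yd19 zd57) (kd xd28 yd34 zd6) (kd xd28 yd56 zd39) (kd xd20 yd2 zd19) (kd xd29 yd3 zd57) (kd xd30 yd9 zd59) (kd xd22 yd55 zd3) (kd xd19 yd46 zd16) (kd xd24 yd17 zd39) (kd xd28 yd53 zd61) (kd xd25 yd9 zd57) (kd xd24 yd17 zd26) (kd xd32 yd42 zd32) (kd xd25 yd14 zd47) (kd xd25 yd15 zd1) (kd xd19 yd46 zd26) (kd xd19 yd46 zd27) (kd xd26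 yd59 zd55) (kd xd27 yd42 zd33) (kd xd29 yd6 zd13) (kd xd30 yd47 zd14) (kd xd19 yd46 zd34) (kd xd24 yd51 zd57) (kd xd31 yd9 zd36) (kd xd21 yd24 zd7) (kd xd31 yd10 zd3) (kd xd19 yd46 zd49) (kd xd25 yd2 zd27) (kd xd19 yd47 zd3) (kd xd31 yd27 zd55) (kd xd19 yd47 zd9) (kd xd20 yd42 zd29) (kd xd20 yd42 zd31) (kd xd21 yd17 zd22) (kd xd19 yd47 zd15) (kd xd19 yd47 zd17) (kd xd26 yd53 zd32) (kd xd30 yd18 zd30) (kd xd31 yd51 zd32) (kd xd29 yd2 zd52) (kd xd25 yd19 zd40) (kd xd25 yd41 zd7) (kd xd19 yd58 zd47) (kd xd32 yd35 zd9) (kd xd26 yd58 zd33) (kd xd29 yd14 zd6) (kd xd25 yd38 zd9) (kd xd29 yd38 zd59)) (@D3.rec (fun _ => Pt) (kd xd25 yd39 zd52) (kd xd25 yd45 zd40) (kd xd28 yd11 zd7) (kd xd24 yd32 zd16) (kd xd29 yd12 zd7) (kd xd19 yd47 zd47) (kd xd31 yd6 zd38) (kd xd30 yd18 zd1)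 (kd xd21 yd7 zd18) (kd xd19 yd47 zd51) (kd xd31 yd58 zd26) (kd xd21 yd28 zd5) (kd xd29 yd49 zd38) (kd xd29 yd5 zd33) (kd xd22 yd21 zd28) (kd xd26 yd22 zd57) (kd xd24 yd37 zd42) (kd xd20 yd40 zd9) (kd xd31 yd20 zd35) (kd xd23 yd43 zd21) (kd xd30 yd51 zd55) (kd xd30 yd51 zd52) (kd xd30 yd0 zd47) (kd xd19 yd48 zd15) (kd xd29 yd49 zd40) (kd xd30 yd43 zd41) (kd xd30 yd48 zd21) (kd xd19 yd48 zd25) (kd xd30 yd2 zd11) (kd xd19 yd48 zd27) (kd xd28 yd18 zd4) (kd xd19 yd48 zd33) (kd xd19 yd48 zd34) (kd xd22 yd39 zd11) (kd xd21 yd18 zd45) (kd xd21 yd21 zd20) (kd xd22 yd5 zd43) (kd xd25 yd54 zd1) (kd xd19 yd48 zd51) (kd xd29 yd26 zd0) (kd xd19 yd48 zd53) (kd xd21 yd37 zd46) (kd xd19 yd49 zd2) (kd xd29 yd18 zd16) (kd xd28 yd57 zd14) (kd xd19 yd49 zd10) (kd xd24 yd39 zd2) (kd xd29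 yd56 zd21) (kd xd25 yd34 zd50) (kd xd29 yd56 zd18) (kd xd31 yd47 zd55) (kd xd19 yd49 zd20) (kd xd28 yd57 zd26) (kd xd32 yd42 zd36) (kd xd19 yd49 zd22) (kd xd29 yd16 zd51) (kd xd28 yd19 zd32) (kd xd21 yd1 zd51) (kd xd21 yd1 zd50) (kd xd25 yd33 zd23) (kd xd19 yd49 zd42) (kd xd29 yd17 zd48)) (@D3.rec (fun _ => Pt) (kd xd20 yd40 zd3) (kd xd31 yd50 zd29) (kd xd23 yd12 zd36) (kd xd32 yd34 zd17) (kd xd19 yd49 zd49) (kd xd27 yd42 zd27) (kd xd23 yd34 zd51) (kd xd30 yd53 zd19) (kd xd26 yd33 zd5) (kd xd20 yd45 zd43) (kd xd29 yd37 zd13) (kd xd24 yd39 zd3) (kd xd19 yd50 zd13) (kd xd19 yd50 zd14) (kd xd29 yd1 zd46) (kd xd19 yd50 zd18) (kd xd30 yd18 zd21) (kd xd28 yd43 zd56) (kd xd21 yd26 zd59) (kd xd25 yd20 zd6) (kd xd27 yd57 zd18) (kd xd32 yd4 zd57) (kd xd27 yd30 zd5) (kd xd28 yd36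 zd39) (kd xd28 yd51 zd44) (kd xd28 yd51 zd45) (kd xd19 yd50 zd41) (kd xd32 yd40 zd7) (kd xd28 yd55 zd4) (kd xd30 yd12 zd54) (kd xd28 yd16 zd27) (kd xd30 yd30 zd0) (kd xd28 yd53 zd30) (kd xd19 yd50 zd58) (kd xd32 yd40 zd60) (kd xd32 yd10 zd35) (kd xd32 yd0 zd46) (kd xd31 yd20 zd60) (kd xd28 yd20 zd20) (kd xd20 yd30 zd57) (kd xd19 yd51 zd8) (kd xd30 yd17 zd55) (kd xd19 yd51 zd9) (kd xd23 yd57 zd29) (kd xd21 yd54 zd23) (kd xd19 yd51 zd17) (kd xd32 yd3 zd4) (kd xd19 yd51 zd25) (kd xd19 yd51 zd26) (kd xd32 yd32 zd17) (kd xd24 yd11 zd57) (kd xd25 yd47 zd14) (kd xd19 yd51 zd31) (kd xd23 yd0 zd19) (kd xd19 yd51 zd34) (kd xd27 yd6 zd32) (kd xd19 yd51 zd35) (kd xd19 yd51 zd37) (kd xd19 yd51 zd40) (kd xd23 yd32 zd39) (kd xd30 yd27 zd17) (kd xd29 yd1 zd24)) (@D3.rec (fun _ => Pt)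 (kd xd23 yd11 zd45) (kd xd30 yd21 zd37) (kd xd19 yd51 zd50) (kd xd32 yd35 zd59) (kd xd32 yd35 zd58) (kd xd19 yd51 zd51) (kd xd32 yd21 zd21) (kd xd32 yd18 zd14) (kd xd19 yd51 zd52) (kd xd21 yd16 zd10) (kd xd19 yd51 zd54) (kd xd19 yd51 zd55) (kd xd30 yd34 zd34) (kd xd19 yd51 zd57) (kd xd19 yd51 zd59) (kd xd21 yd0 zd50) (kd xd28 yd20 zd26) (kd xd25 yd7 zd57) (kd xd28 yd22 zd56) (kd xd31 yd22 zd54) (kd xd32 yd42 zd42) (kd xd21 yd30 zd39) (kd xd20 yd45 zd58) (kd xd25 yd18 zd34) (kd xd31 yd22 zd52) (kd xd32 yd15 zd28) (kd xd32 yd15 zd5) (kd xd19 yd52 zd13) (kd xd31 yd30 zd7) (kd xd32 yd42 zd44) (kd xd26 yd54 zd6) (kd xd32 yd42 zd45) (kd xd29 yd38 zd54) (kd xd23 yd58 zd31) (kd xd28 yd32 zd37) (kd xd29 yd1 zd15) (kd xd19 yd52 zd17) (kd xd32 yd42 zd47) (kd xd32 yd18 zd13) (kd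 xd19 yd52 zd18) (kd xd32 yd22 zd0) (kd xd20 yd25 zd23) (kd xd20 yd25 zd11) (kd xd32 yd42 zd48) (kd xd19 yd52 zd20) (kd xd30 yd30 zd26) (kd xd28 yd27 zd49) (kd xd20 yd30 zd14) (kd xd23 yd58 zd34) (kd xd23 yd58 zd33) (kd xd30 yd4 zd60) (kd xd19 yd52 zd26) (kd xd19 yd52 zd31) (kd xd20 yd29 zd22) (kd xd31 yd22 zd46) (kd xd19 yd52 zd34) (kd xd28 yd53 zd36) (kd xd28 yd43 zd36) (kd xd19 yd52 zd39) (kd xd24 yd52 zd48) (kd xd29 yd35 zd48) (kd xd19 yd52 zd43)) (@D3.rec (fun _ => Pt) (kd xd19 yd52 zd48) (kd xd20 yd47 zd0) (kd xd28 yd25 zd31) (kd xd20 yd47 zd27) (kd xd19 yd52 zd54) (kd xd26 yd46 zd5) (kd xd19 yd52 zd57) (kd xd26 yd20 zd42) (kd xd22 yd20 zd28) (kd xd20 yd37 zd60) (kd xd19 yd53 zd10) (kd xd26 yd25 zd38) (kd xd24 yd39 zd12) (kd xd32 yd20 zd11) (kd xd19 yd53 zd17)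 (kd xd21 yd36 zd5) (kd xd20 yd17 zd51) (kd xd32 yd42 zd43) (kd xd19 yd53 zd27) (kd xd31 yd31 zd46) (kd xd31 yd31 zd51) (kd xd31 yd34 zd60) (kd xd32 yd42 zd52) (kd xd32 yd20 zd12) (kd xd19 yd53 zd30) (kd xd28 yd16 zd47) (kd xd31 yd31 zd45) (kd xd26 yd42 zd9) (kd xd25 yd59 zd20) (kd xd32 yd15 zd52) (kd xd31 yd21 zd49) (kd xd19 yd53 zd41) (kd xd25 yd8 zd45) (kd xd31 yd29 zd7) (kd xd26 yd9 zd45) (kd xd24 yd54 zd15) (kd xd25 yd38 zd19) (kd xd31 yd26 zd55) (kd xd29 yd10 zd20) (kd xd29 yd12 zd29) (kd xd26 yd6 zd33) (kd xd19 yd54 zd2) (kd xd24 yd20 zd47) (kd xd24 yd16 zd6) (kd xd32 yd16 zd0) (kd xd30 yd40 zd54) (kd xd30 yd40 zd6) (kd xd19 yd54 zd12) (kd xd32 yd27 zd50) (kd xd19 yd54 zd14) (kd xd25 yd49 zd34) (kd xd31 yd6 zd30) (kd xd24 yd43 zd3) (kd xd30 yd41 zd44) (kd xd24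 yd10 zd11) (kd xd27 yd58 zd6) (kd xd32 yd16 zd2) (kd xd32 yd42 zd55) (kd xd19 yd54 zd30) (kd xd31 yd8 zd39) (kd xd32 yd30 zd45) (kd xd31 yd10 zd27)) (@D3.rec (fun _ => Pt) (kd xd27 yd58 zd7) (kd xd23 yd40 zd0) (kd xd29 yd12 zd49) (kd xd19 yd54 zd32) (kd xd22 yd43 zd12) (kd xd19 yd54 zd33) (kd xd26 yd7 zd0) (kd xd26 yd6 zd49) (kd xd19 yd54 zd35) (kd xd31 yd10 zd26) (kd xd19 yd54 zd36) (kd xd23 yd28 zd29) (kd xd19 yd54 zd37) (kd xd32 yd5 zd6) (kd xd26 yd7 zd7) (kd xd28 yd41 zd18) (kd xd19 yd54 zd39) (kd xd31 yd36 zd33) (kd xd19 yd54 zd40) (kd xd25 yd37 zd56) (kd xd29 yd9 zd38) (kd xd24 yd34 zd51) (kd xd31 yd9 zd6) (kd xd19 yd54 zd42) (kd xd25 yd37 zd60) (kd xd21 yd49 zd8) (kd xd24 yd22 zd11) (kd xd26 yd12 zd19) (kd xd24 yd43 zd38) (kd xd23 yd41 zd58) (kd xd19 yd54 zd47)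 (kd xd24 yd32 zd43) (kd xd31 yd34 zd32) (kd xd23 yd35 zd31) (kd xd32 yd43 zd0) (kd xd32 yd11 zd58) (kd xd32 yd39 zd1) (kd xd32 yd39 zd0) (kd xd19 yd54 zd54) (kd xd31 yd19 zd24) (kd xd32 yd20 zd55) (kd xd19 yd54 zd55) (kd xd26 yd32 zd27) (kd xd32 yd43 zd4) (kd xd32 yd26 zd47) (kd xd19 yd55 zd1) (kd xd32 yd32 zd30) (kd xd20 yd24 zd34) (kd xd24 yd29 zd19) (kd xd22 yd10 zd11) (kd xd32 yd43 zd6) (kd xd19 yd55 zd5) (kd xd32 yd43 zd8) (kd xd25 yd38 zd52) (kd xd19 yd55 zd6) (kd xd32 yd34 zd2) (kd xd19 yd55 zd7) (kd xd31 yd56 zd42) (kd xd31 yd57 zd24) (kd xd28 yd27 zd21) (kd xd19 yd55 zd9) (kd xd19 yd55 zd10)) (@D3.rec (fun _ => Pt) (kd xd31 yd4 zd10) (kd xd19 yd55 zd11) (kd xd32 yd28 zd19) (kd xd27 yd44 zd39) (kd xd31 yd12 zd11) (kd xd19 yd55 zd13) (kd xd22 yd38 zd11) (kd xd21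 yd43 zd28) (kd xd27 yd20 zd47) (kd xd23 yd42 zd61) (kd xd25 yd19 zd32) (kd xd32 yd12 zd59) (kd xd19 yd55 zd24) (kd xd32 yd43 zd12) (kd xd32 yd24 zd29) (kd xd19 yd55 zd28) (kd xd19 yd55 zd30) (kd xd32 yd43 zd13) (kd xd32 yd36 zd0) (kd xd19 yd55 zd32) (kd xd31 yd51 zd49) (kd xd27 yd18 zd22) (kd xd24 yd40 zd13) (kd xd19 yd55 zd36) (kd xd32 yd24 zd30) (kd xd32 yd43 zd14) (kd xd19 yd55 zd37) (kd xd26 yd10 zd4) (kd xd26 yd9 zd54) (kd xd25 yd51 zd4) (kd xd19 yd55 zd39) (kd xd19 yd55 zd41) (kd xd23 yd31 zd10) (kd xd32 yd8 zd44) (kd xd22 yd31 zd19) (kd xd19 yd55 zd43) (kd xd27 yd26 zd55) (kd xd22 yd31 zd10) (kd xd29 yd49 zd48) (kd xd20 yd6 zd1) (kd xd32 yd23 zd36) (kd xd19 yd55 zd52) (kd xd27 yd39 zd3) (kd xd26 yd26 zd21) (kd xd29 yd26 zd44) (kd xd20 yd0 zd60) (kd xd30 yd13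 zd57) (kd xd30 yd13 zd56) (kd xd19 yd55 zd56) (kd xd32 yd23 zd38) (kd xd30 yd41 zd33) (kd xd19 yd55 zd57) (kd xd31 yd18 zd25) (kd xd25 yd36 zd17) (kd xd19 yd55 zd59) (kd xd19 yd55 zd60) (kd xd30 yd33 zd14) (kd xd30 yd33 zd15) (kd xd32 yd42 zd54) (kd xd19 yd56 zd0) (kd xd28 yd9 zd19) (kd xd24 yd37 zd8)) (@D3.rec (fun _ => Pt) (kd xd28 yd58 zd41) (kd xd27 yd2 zd19) (kd xd20 yd0 zd56) (kd xd19 yd56 zd5) (kd xd19 yd56 zd9) (kd xd19 yd56 zd10) (kd xd19 yd56 zd11) (kd xd29 yd6 zd4) (kd xd23 yd11 zd18) (kd xd19 yd56 zd13) (kd xd19 yd56 zd15) (kd xd21 yd55 zd18) (kd xd21 yd55 zd17) (kd xd20 yd35 zd59) (kd xd24 yd33 zd9) (kd xd32 yd16 zd17) (kd xd21 yd30 zd47) (kd xd19 yd56 zd28) (kd xd32 yd16 zd16) (kd xd31 yd45 zd2) (kd xd32 yd16 zd18) (kd xd24 yd43 zd55) (kd xd30 yd52 zd16)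 (kd xd31 yd37 zd45) (kd xd31 yd10 zd29) (kd xd19 yd56 zd34) (kd xd26 yd36 zd12) (kd xd19 yd56 zd54) (kd xd26 yd47 zd6) (kd xd29 yd9 zd39) (kd xd31 yd8 zd21) (kd xd19 yd56 zd59) (kd xd24 yd13 zd50) (kd xd25 yd54 zd53) (kd xd25 yd54 zd56) (kd xd29 yd16 zd33) (kd xd21 yd30 zd33) (kd xd21 yd30 zd34) (kd xd25 yd50 zd32) (kd xd20 yd50 zd3) (kd xd19 yd57 zd9) (kd xd26 yd38 zd41) (kd xd21 yd37 zd49) (kd xd27 yd24 zd30) (kd xd31 yd5 zd35) (kd xd26 yd41 zd54) (kd xd29 yd17 zd19) (kd xd21 yd1 zd43) (kd xd31 yd0 zd31) (kd xd29 yd10 zd2) (kd xd24 yd4 zd4) (kd xd28 yd48 zd35) (kd xd29 yd0 zd21) (kd xd29 yd17 zd1) (kd xd19 yd57 zd28) (kd xd22 yd10 zd10) (kd xd29 yd22 zd18) (kd xd25 yd18 zd36) (kd xd26 yd53 zd18) (kd xd19 yd57 zd42) (kd xd29 yd23 zd26) (kd xd26 yd18 zd15)) (@D3.rec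 (fun _ => Pt) (kd xd25 yd7 zd52) (kd xd27 yd12 zd6) (kd xd27 yd12 zd7) (kd xd19 yd57 zd51) (kd xd29 yd35 zd59) (kd xd19 yd57 zd52) (kd xd28 yd18 zd45) (kd xd28 yd7 zd55) (kd xd31 yd52 zd22) (kd xd19 yd57 zd58) (kd xd20 yd5 zd30) (kd xd25 yd11 zd15) (kd xd21 yd24 zd1) (kd xd32 yd27 zd24) (kd xd31 yd41 zd20) (kd xd28 yd31 zd20) (kd xd21 yd23 zd29) (kd xd25 yd41 zd34) (kd xd19 yd58 zd4) (kd xd32 yd43 zd24) (kd xd31 yd50 zd40) (kd xd19 yd58 zd5) (kd xd30 yd5 zd21) (kd xd30 yd27 zd2) (kd xd30 yd27 zd15) (kd xd31 yd41 zd53) (kd xd31 yd39 zd56) (kd xd19 yd58 zd12) (kd xd28 yd59 zd32) (kd xd19 yd58 zd13) (kd xd19 yd59 zd35) (kd xd28 yd8 zd56) (kd xd28 yd59 zd47) (kd xd23 yd54 zd34) (kd xd23 yd54 zd33) (kd xd31 yd52 zd25) (kd xd23 yd59 zd59) (kd xd23 yd58 zd26) (kd xd24 yd27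 zd17) (kd xd30 yd9 zd1) (kd xd24 yd52 zd9) (kd xd25 yd22 zd6) (kd xd21 yd51 zd25) (kd xd19 yd58 zd40) (kd xd30 yd8 zd13) (kd xd19 yd58 zd42) (kd xd27 yd46 zd7) (kd xd29 yd49 zd25) (kd xd19 yd58 zd49) (kd xd31 yd36 zd25) (kd xd30 yd4 zd36) (kd xd19 yd58 zd51) (kd xd31 yd36 zd24) (kd xd19 yd58 zd55) (kd xd31 yd57 zd43) (kd xd19 yd58 zd56) (kd xd19 yd58 zd57) (kd xd20 yd53 zd23) (kd xd22 yd5 zd22) (kd xd19 yd58 zd59) (kd xd26 yd49 zd35) (kd xd25 yd17 zd3)) (@D3.rec (fun _ => Pt) (kd xd25 yd19 zd25) (kd xd19 yd59 zd9) (kd xd19 yd59 zd10) (kd xd25 yd38 zd51) (kd xd19 yd59 zd11) (kd xd26 yd2 zd44) (kd xd29 yd5 zd59) (kd xd31 yd53 zd26) (kd xd19 yd59 zd13) (kd xd30 yd7 zd8) (kd xd31 yd51 zd57) (kd xd32 yd43 zd28) (kd xd19 yd59 zd19) (kd xd20 yd53 zd39) (kd xd31 yd24 zd31)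 (kd xd19 yd59 zd21) (kd xd31 yd52 zd33) (kd xd31 yd52 zd34) (kd xd29 yd36 zd18) (kd xd19 yd59 zd24) (kd xd20 yd53 zd33) (kd xd29 yd15 zd3) (kd xd28 yd37 zd0) (kd xd31 yd52 zd28) (kd xd26 yd53 zd40) (kd xd31 yd41 zd56) (kd xd21 yd20 zd22) (kd xd19 yd59 zd33) (kd xd24 yd10 zd53) (kd xd28 yd3 zd29) (kd xd19 yd59 zd41) (kd xd23 yd22 zd20) (kd xd24 yd46 zd33) (kd xd30 yd57 zd32) (kd xd21 yd57 zd0) (kd xd29 yd49 zd41) (kd xd19 yd59 zd49) (kd xd25 yd48 zd6) (kd xd19 yd59 zd52) (kd xd28 yd0 zd56) (kd xd28 yd0 zd57) (kd xd20 yd0 zd28) (kd xd20 yd0 zd34) (kd xd20 yd1 zd10) (kd xd27 yd40 zd2) (kd xd27 yd5 zd38) (kd xd30 yd44 zd39) (kd xd27 yd39 zd54) (kd xd29 yd46 zd59) (kd xd20 yd5 zd61) (kd xd30 yd39 zd49) (kd xd20 yd1 zd6) (kd xd20 yd1 zd9) (kd xd20 yd8 zd53) (kd xd20 yd6 zd15)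 (kd xd22 yd47 zd60) (kd xd20 yd1 zd18) (kd xd31 yd52 zd44) (kd xd20 yd1 zd20) (kd xd29 yd30 zd59) (kd xd22 yd12 zd61) (kd xd22 yd42 zd2)) (@D3.rec (fun _ => Pt) (kd xd20 yd1 zd27) (kd xd20 yd1 zd33) (kd xd20 yd1 zd36) (kd xd29 yd14 zd21) (kd xd25 yd22 zd37) (kd xd31 yd21 zd28) (kd xd32 yd27 zd19) (kd xd29 yd43 zd33) (kd xd20 yd1 zd42) (kd xd29 yd27 zd27) (kd xd29 yd43 zd30) (kd xd20 yd1 zd44) (kd xd20 yd42 zd15) (kd xd32 yd17 zd59) (kd xd32 yd43 zd42) (kd xd20 yd1 zd48) (kd xd24 yd49 zd58) (kd xd26 yd54 zd38) (kd xd26 yd53 zd37) (kd xd22 yd21 zd32) (kd xd23 yd57 zd22) (kd xd24 yd32 zd21) (kd xd24 yd49 zd48) (kd xd20 yd1 zd55) (kd xd20 yd1 zd57) (kd xd29 yd55 zd15) (kd xd20 yd25 zd39) (kd xd26 yd19 zd0) (kd xd20 yd2 zd0) (kd xd21 yd12 zd2) (kd xd32 yd30 zd61) (kd xd31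 yd10 zd35) (kd xd31 yd10 zd37) (kd xd20 yd2 zd14) (kd xd31 yd3 zd30) (kd xd31 yd10 zd52) (kd xd23 yd48 zd17) (kd xd31 yd10 zd54) (kd xd23 yd48 zd16) (kd xd30 yd56 zd33) (kd xd31 yd22 zd17) (kd xd31 yd48 zd12) (kd xd20 yd2 zd18) (kd xd27 yd53 zd38) (kd xd27 yd46 zd22) (kd xd30 yd11 zd22) (kd xd28 yd3 zd17) (kd xd29 yd3 zd40) (kd xd28 yd3 zd15) (kd xd28 yd3 zd27) (kd xd28 yd3 zd24) (kd xd32 yd26 zd40) (kd xd20 yd2 zd26) (kd xd25 yd0 zd43) (kd xd31 yd46 zd23) (kd xd29 yd43 zd12) (kd xd20 yd2 zd30) (kd xd23 yd54 zd50) (kd xd31 yd34 zd51) (kd xd23 yd54 zd52) (kd xd20 yd2 zd31) (kd xd30 yd8 zd30)) (@D3.rec (fun _ => Pt) (kd xd23 yd54 zd51) (kd xd20 yd2 zd32) (kd xd27 yd24 zd21) (kd xd27 yd24 zd10) (kd xd31 yd31 zd61) (kd xd20 yd2 zd34) (kd xd26 yd13 zd41) (kd xd26 yd13 zd40)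 (kd xd26 yd13 zd51) (kd xd26 yd18 zd20) (kd xd32 yd27 zd33) (kd xd31 yd49 zd30) (kd xd20 yd2 zd42) (kd xd26 yd18 zd14) (kd xd20 yd2 zd46) (kd xd23 yd27 zd8) (kd xd20 yd2 zd48) (kd xd29 yd4 zd48) (kd xd20 yd2 zd49) (kd xd31 yd45 zd49) (kd xd25 yd13 zd28) (kd xd31 yd44 zd30) (kd xd31 yd44 zd28) (kd xd25 yd0 zd52) (kd xd31 yd47 zd16) (kd xd24 yd3 zd8) (kd xd23 yd10 zd41) (kd xd23 yd10 zd45) (kd xd20 yd2 zd60) (kd xd32 yd2 zd0) (kd xd25 yd57 zd37) (kd xd27 yd19 zd39) (kd xd25 yd7 zd24) (kd xd29 yd12 zd35) (kd xd31 yd46 zd17) (kd xd31 yd24 zd23) (kd xd31 yd54 zd6) (kd xd29 yd5 zd13) (kd xd27 yd18 zd44) (kd xd20 yd3 zd11) (kd xd31 yd59 zd55) (kd xd25 yd57 zd15) (kd xd30 yd54 zd48) (kd xd20 yd3 zd14) (kd xd32 yd2 zd13) (kd xd20 yd3 zd15) (kd xd24 yd35 zd26) (kd xd20 yd3 zd17)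 (kd xd24 yd16 zd5) (kd xd20 yd3 zd19) (kd xd24 yd3 zd3) (kd xd29 yd6 zd55) (kd xd28 yd41 zd46) (kd xd21 yd48 zd3) (kd xd25 yd13 zd30) (kd xd27 yd31 zd36) (kd xd25 yd13 zd32) (kd xd20 yd54 zd40) (kd xd27 yd27 zd18) (kd xd27 yd27 zd20) (kd xd27 yd4 zd7) (kd xd32 yd15 zd61)) (@D3.rec (fun _ => Pt) (kd xd25 yd13 zd34) (kd xd29 yd12 zd53) (kd xd20 yd3 zd38) (kd xd20 yd3 zd41) (kd xd20 yd3 zd46) (kd xd31 yd48 zd35) (kd xd31 yd41 zd4) (kd xd25 yd51 zd15) (kd xd30 yd4 zd26) (kd xd25 yd51 zd17) (kd xd24 yd41 zd4) (kd xd20 yd3 zd54) (kd xd30 yd8 zd4) (kd xd25 yd51 zd7) (kd xd26 yd37 zd55) (kd xd24 yd43 zd28) (kd xd29 yd59 zd42) (kd xd31 yd10 zd20) (kd xd25 yd27 zd24) (kd xd29 yd12 zd46) (kd xd31 yd38 zd33) (kd xd25 yd9 zd46) (kd xd25 yd9 zd47) (kd xd27 yd3 zd58) (kd xd27 yd26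 zd51) (kd xd25 yd57 zd7) (kd xd24 yd23 zd8) (kd xd24 yd52 zd22) (kd xd24 yd46 zd53) (kd xd25 yd39 zd23) (kd xd32 yd43 zd56) (kd xd20 yd4 zd23) (kd xd31 yd11 zd36) (kd xd32 yd42 zd12) (kd xd20 yd4 zd24) (kd xd32 yd43 zd58) (kd xd20 yd4 zd35) (kd xd26 yd0 zd32) (kd xd30 yd2 zd26) (kd xd29 yd41 zd49) (kd xd29 yd23 zd41) (kd xd20 yd4 zd41) (kd xd25 yd59 zd60) (kd xd23 yd8 zd18) (kd xd27 yd40 zd25) (kd xd27 yd22 zd47) (kd xd20 yd4 zd44) (kd xd26 yd45 zd47) (kd xd29 yd6 zd61) (kd xd32 yd0 zd22) (kd xd24 yd39 zd52) (kd xd20 yd4 zd57) (kd xd21 yd50 zd25) (kd xd31 yd52 zd49) (kd xd32 yd14 zd44) (kd xd30 yd27 zd7) (kd xd20 yd5 zd6) (kd xd20 yd5 zd8) (kd xd24 yd27 zd16) (kd xd21 yd24 zd4) (kd xd28 yd57 zd24) (kd xd21 yd23 zd60)) (@D3.rec (fun _ => Pt) (kd xd24 yd41 zd14) (kd xd24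 yd1 zd18) (kd xd23 yd59 zd46) (kd xd20 yd5 zd17) (kd xd24 yd27 zd15) (kd xd29 yd18 zd6) (kd xd29 yd18 zd5) (kd xd25 yd42 zd9) (kd xd24 yd7 zd10) (kd xd26 yd14 zd42) (kd xd21 yd18 zd49) (kd xd30 yd18 zd2) (kd xd21 yd48 zd52) (kd xd27 yd43 zd48) (kd xd26 yd58 zd4) (kd xd21 yd15 zd39) (kd xd29 yd6 zd43) (kd xd26 yd32 zd40) (kd xd26 yd32 zd44) (kd xd30 yd31 zd58) (kd xd26 yd29 zd29) (kd xd30 yd30 zd27) (kd xd23 yd37 zd41) (kd xd27 yd42 zd9) (kd xd29 yd23 zd0) (kd xd25 yd26 zd16) (kd xd26 yd50 zd22) (kd xd20 yd14 zd6) (kd xd21 yd13 zd24) (kd xd21 yd13 zd25) (kd xd26 yd17 zd32) (kd xd29 yd19 zd60) (kd xd32 yd1 zd58) (kd xd20 yd7 zd6) (kd xd25 yd54 zd33) (kd xd25 yd48 zd10) (kd xd25 yd54 zd36) (kd xd20 yd18 zd29) (kd xd23 yd19 zd42) (kd xd28 yd0 zd52) (kd xd26 yd28 zd38) (kd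 xd20 yd7 zd35) (kd xd27 yd5 zd37) (kd xd20 yd7 zd38) (kd xd23 yd43 zd49) (kd xd20 yd7 zd39) (kd xd22 yd1 zd11) (kd xd32 yd43 zd60) (kd xd20 yd9 zd1) (kd xd20 yd7 zd47) (kd xd30 yd27 zd16) (kd xd20 yd18 zd11) (kd xd22 yd59 zd44) (kd xd22 yd59 zd43) (kd xd26 yd48 zd48) (kd xd20 yd7 zd57) (kd xd23 yd20 zd18) (kd xd30 yd54 zd28) (kd xd24 yd31 zd15) (kd xd20 yd8 zd12) (kd xd30 yd58 zd30) (kd xd20 yd8 zd16)) (@D3.rec (fun _ => Pt) (kd xd20 yd8 zd17) (kd xd20 yd8 zd18) (kd xd25 yd2 zd20) (kd xd20 yd15 zd42) (kd xd22 yd54 zd6) (kd xd23 yd15 zd51) (kd xd20 yd32 zd7) (kd xd20 yd8 zd36) (kd xd29 yd38 zd6) (kd xd21 yd52 zd29) (kd xd25 yd18 zd54) (kd xd24 yd31 zd1) (kd xd28 yd25 zd27) (kd xd21 yd2 zd50) (kd xd29 yd29 zd22) (kd xd29 yd30 zd13) (kd xd25 yd18 zd23) (kd xd22 yd37 zd52)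 (kd xd20 yd8 zd51) (kd xd29 yd28 zd49) (kd xd28 yd26 zd22) (kd xd20 yd8 zd54) (kd xd30 yd44 zd8) (kd xd22 yd49 zd17) (kd xd27 yd57 zd36) (kd xd30 yd44 zd9) (kd xd22 yd32 zd2) (kd xd23 yd21 zd29) (kd xd20 yd8 zd60) (kd xd25 yd40 zd30) (kd xd26 yd32 zd50) (kd xd28 yd27 zd31) (kd xd32 yd21 zd54) (kd xd24 yd5 zd32) (kd xd30 yd44 zd11) (kd xd32 yd16 zd36) (kd xd23 yd11 zd29) (kd xd24 yd42 zd24) (kd xd20 yd9 zd33) (kd xd30 yd22 zd33) (kd xd20 yd9 zd35) (kd xd32 yd44 zd2) (kd xd21 yd33 zd11) (kd xd21 yd33 zd24) (kd xd32 yd1 zd53) (kd xd32 yd7 zd55) (kd xd27 yd52 zd11) (kd xd28 yd9 zd1) (kd xd32 yd1 zd37) (kd xd20 yd10 zd2) (kd xd25 yd40 zd28) (kd xd20 yd10 zd8) (kd xd24 yd8 zd18) (kd xd20 yd11 zd25) (kd xd20 yd36 zd31) (kd xd32 yd30 zd55) (kd xd32 yd30 zd48) (kd xd20 yd10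 zd10) (kd xd20 yd11 zd20) (kd xd30 yd30 zd41) (kd xd29 yd18 zd31) (kd xd32 yd30 zd59)) (@D3.rec (fun _ => Pt) (kd xd28 yd59 zd11) (kd xd20 yd10 zd14) (kd xd24 yd7 zd58) (kd xd32 yd24 zd18) (kd xd20 yd10 zd16) (kd xd31 yd46 zd33) (kd xd31 yd55 zd19) (kd xd20 yd21 zd22) (kd xd20 yd21 zd23) (kd xd28 yd7 zd47) (kd xd23 yd4 zd50) (kd xd27 yd51 zd40) (kd xd30 yd21 zd39) (kd xd24 yd3 zd51) (kd xd24 yd18 zd52) (kd xd20 yd10 zd26) (kd xd30 yd27 zd51) (kd xd25 yd20 zd34) (kd xd29 yd38 zd57) (kd xd20 yd10 zd31) (kd xd30 yd18 zd18) (kd xd20 yd10 zd32) (kd xd21 yd52 zd55) (kd xd32 yd44 zd4) (kd xd20 yd10 zd39) (kd xd27 yd53 zd55) (kd xd20 yd10 zd51) (kd xd32 yd30 zd18) (kd xd32 yd8 zd27) (kd xd31 yd54 zd32) (kd xd20 yd10 zd44) (kd xd27 yd37 zd56) (kd xd20 yd10 zd46) (kd xd30 yd58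 zd27) (kd xd27 yd40 zd3) (kd xd25 yd24 zd1) (kd xd20 yd10 zd54) (kd xd23 yd36 zd53) (kd xd32 yd29 zd56) (kd xd20 yd10 zd58) (kd xd28 yd32 zd15) (kd xd32 yd41 zd42) (kd xd26 yd31 zd49) (kd xd28 yd10 zd12) (kd xd20 yd11 zd0) (kd xd22 yd17 zd60) (kd xd20 yd11 zd3) (kd xd26 yd21 zd34) (kd xd20 yd11 zd8) (kd xd27 yd39 zd56) (kd xd27 yd39 zd57) (kd xd20 yd11 zd10) (kd xd31 yd39 zd14) (kd xd22 yd54 zd46) (kd xd20 yd11 zd11) (kd xd27 yd53 zd16) (kd xd32 yd23 zd18) (kd xd20 yd11 zd12) (kd xd28 yd6 zd56) (kd xd20 yd11 zd13) (kd xd32 yd26 zd16) (kd xd26 yd32 zd36)) (@D3.rec (fun _ => Pt) (kd xd30 yd45 zd35) (kd xd32 yd17 zd14) (kd xd20 yd11 zd15) (kd xd26 yd17 zd39) (kd xd20 yd18 zd20) (kd xd27 yd52 zd34) (kd xd20 yd11 zd18) (kd xd28 yd28 zd45) (kd xd30 yd22 zd11) (kd xd27 yd21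 zd2) (kd xd20 yd11 zd23) (kd xd32 yd43 zd61) (kd xd28 yd47 zd41) (kd xd20 yd11 zd26) (kd xd26 yd49 zd0) (kd xd25 yd39 zd42) (kd xd32 yd41 zd8) (kd xd20 yd11 zd28) (kd xd31 yd58 zd12) (kd xd22 yd27 zd17) (kd xd22 yd27 zd32) (kd xd20 yd11 zd31) (kd xd32 yd44 zd8) (kd xd20 yd11 zd32) (kd xd20 yd11 zd33) (kd xd26 yd59 zd45) (kd xd20 yd11 zd35) (kd xd20 yd11 zd36) (kd xd30 yd25 zd24) (kd xd32 yd44 zd11) (kd xd20 yd11 zd49) (kd xd26 yd59 zd35) (kd xd20 yd11 zd52) (kd xd28 yd13 zd43) (kd xd20 yd11 zd58) (kd xd31 yd19 zd14) (kd xd32 yd6 zd56) (kd xd32 yd6 zd57) (kd xd24 yd29 zd12) (kd xd32 yd44 zd13) (kd xd20 yd12 zd6) (kd xd29 yd47 zd1) (kd xd31 yd58 zd29) (kd xd25 yd51 zd22) (kd xd26 yd26 zd25) (kd xd25 yd17 zd23) (kd xd32 yd28 zd26) (kd xd20 yd12 zd34) (kd xd20 yd12 zd36)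 (kd xd30 yd53 zd57) (kd xd28 yd10 zd20) (kd xd26 yd25 zd29) (kd xd21 yd47 zd15) (kd xd24 yd19 zd47) (kd xd21 yd45 zd3) (kd xd20 yd40 zd18) (kd xd32 yd44 zd14) (kd xd31 yd17 zd0) (kd xd20 yd13 zd10) (kd xd24 yd22 zd30) (kd xd20 yd13 zd27) (kd xd26 yd8 zd52)) (@D3.rec (fun _ => Pt) (kd xd26 yd11 zd58) (kd xd20 yd13 zd29) (kd xd26 yd8 zd53) (kd xd26 yd8 zd24) (kd xd31 yd11 zd49) (kd xd20 yd13 zd36) (kd xd31 yd59 zd26) (kd xd20 yd13 zd39) (kd xd25 yd34 zd35) (kd xd27 yd56 zd38) (kd xd25 yd17 zd22) (kd xd20 yd13 zd56) (kd xd20 yd14 zd3) (kd xd21 yd33 zd12) (kd xd24 yd16 zd34) (kd xd32 yd16 zd39) (kd xd20 yd14 zd18) (kd xd20 yd14 zd22) (kd xd29 yd12 zd56) (kd xd25 yd17 zd32) (kd xd31 yd50 zd12) (kd xd22 yd40 zd57) (kd xd32 yd3 zd13) (kd xd24 yd33 zd52) (kd xd21 yd47 zd8)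 (kd xd22 yd23 zd37) (kd xd20 yd48 zd32) (kd xd20 yd14 zd50) (kd xd32 yd0 zd13) (kd xd20 yd14 zd60) (kd xd24 yd36 zd14) (kd xd20 yd15 zd1) (kd xd25 yd17 zd40) (kd xd20 yd15 zd2) (kd xd28 yd24 zd60) (kd xd20 yd15 zd5) (kd xd32 yd1 zd41) (kd xd30 yd8 zd33) (kd xd29 yd42 zd51) (kd xd20 yd15 zd24) (kd xd20 yd15 zd25) (kd xd27 yd4 zd17) (kd xd21 yd33 zd4) (kd xd21 yd22 zd13) (kd xd21 yd22 zd14) (kd xd24 yd20 zd42) (kd xd21 yd47 zd42) (kd xd26 yd21 zd54) (kd xd20 yd15 zd43) (kd xd20 yd15 zd44) (kd xd24 yd34 zd41) (kd xd21 yd54 zd53) (kd xd20 yd15 zd47) (kd xd20 yd15 zd56) (kd xd30 yd6 zd3) (kd xd21 yd50 zd21) (kd xd21 yd20 zd4) (kd xd30 yd18 zd5) (kd xd21 yd37 zd34) (kd xd27 yd36 zd22) (kd xd32 yd18 zd50) (kd xd20 yd16 zd13)) (@D3.rec (fun _ => Pt) (kd xd29 yd18 zd24) (kd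 xd32 yd41 zd14) (kd xd25 yd9 zd48) (kd xd20 yd16 zd26) (kd xd20 yd16 zd29) (kd xd20 yd16 zd31) (kd xd20 yd16 zd33) (kd xd20 yd16 zd36) (kd xd20 yd48 zd22) (kd xd30 yd53 zd15) (kd xd20 yd48 zd12) (kd xd22 yd13 zd60) (kd xd20 yd49 zd23) (kd xd30 yd22 zd31) (kd xd20 yd48 zd56) (kd xd24 yd15 zd19) (kd xd20 yd17 zd1) (kd xd22 yd28 zd22) (kd xd30 yd9 zd22) (kd xd21 yd48 zd18) (kd xd24 yd42 zd16) (kd xd29 yd26 zd59) (kd xd24 yd21 zd47) (kd xd30 yd28 zd42) (kd xd32 yd44 zd16) (kd xd20 yd48 zd26) (kd xd29 yd12 zd60) (kd xd20 yd17 zd43) (kd xd22 yd11 zd26) (kd xd29 yd40 zd36) (kd xd27 yd19 zd48) (kd xd20 yd17 zd47) (kd xd32 yd44 zd17) (kd xd29 yd50 zd34) (kd xd25 yd13 zd22) (kd xd26 yd42 zd31) (kd xd29 yd41 zd43) (kd xd22 yd52 zd17) (kd xd25 yd45 zd1) (kd xd24 yd14 zd56) (kd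 xd21 yd3 zd44) (kd xd29 yd17 zd40) (kd xd29 yd30 zd51) (kd xd29 yd37 zd43) (kd xd29 yd37 zd44) (kd xd30 yd54 zd27) (kd xd20 yd18 zd0) (kd xd24 yd35 zd52) (kd xd24 yd44 zd46) (kd xd29 yd37 zd45) (kd xd30 yd54 zd59) (kd xd20 yd18 zd5) (kd xd20 yd18 zd8) (kd xd29 yd32 zd35) (kd xd27 yd25 zd54) (kd xd26 yd29 zd30) (kd xd26 yd22 zd24) (kd xd26 yd49 zd6) (kd xd29 yd30 zd11) (kd xd30 yd58 zd25) (kd xd20 yd30 zd3) (kd xd20 yd30 zd38)) (@D3.rec (fun _ => Pt) (kd xd28 yd48 zd48) (kd xd20 yd18 zd21) (kd xd20 yd18 zd23) (kd xd26 yd48 zd43) (kd xd23 yd52 zd24) (kd xd29 yd24 zd13) (kd xd28 yd27 zd48) (kd xd28 yd26 zd16) (kd xd28 yd26 zd21) (kd xd28 yd44 zd47) (kd xd20 yd18 zd31) (kd xd22 yd56 zd8) (kd xd30 yd58 zd29) (kd xd29 yd24 zd5) (kd xd20 yd18 zd37) (kd xd26 yd53 zd17) (kd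 xd25 yd52 zd9) (kd xd24 yd28 zd23) (kd xd20 yd18 zd55) (kd xd26 yd49 zd7) (kd xd20 yd18 zd61) (kd xd26 yd18 zd32) (kd xd32 yd9 zd14) (kd xd32 yd44 zd21) (kd xd20 yd19 zd4) (kd xd32 yd44 zd23) (kd xd20 yd20 zd55) (kd xd27 yd21 zd26) (kd xd31 yd29 zd33) (kd xd22 yd47 zd30) (kd xd20 yd19 zd42) (kd xd20 yd19 zd46) (kd xd23 yd3 zd31) (kd xd27 yd42 zd16) (kd xd20 yd20 zd0) (kd xd32 yd8 zd15) (kd xd20 yd20 zd8) (kd xd30 yd3 zd49) (kd xd27 yd0 zd55) (kd xd26 yd27 zd8) (kd xd20 yd20 zd12) (kd xd27 yd14 zd42) (kd xd20 yd27 zd25) (kd xd20 yd20 zd16) (kd xd21 yd47 zd10) (kd xd30 yd39 zd33) (kd xd20 yd20 zd22) (kd xd24 yd53 zd22) (kd xd30 yd21 zd30) (kd xd31 yd37 zd36) (kd xd20 yd20 zd43) (kd xd31 yd39 zd35) (kd xd32 yd10 zd19) (kd xd32 yd9 zd40) (kd xd32 yd1 zd42) (kd xd26 yd28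 zd11) (kd xd25 yd54 zd58) (kd xd26 yd28 zd56) (kd xd27 yd38 zd61) (kd xd29 yd54 zd21) (kd xd27 yd54 zd55) (kd xd26 yd31 zd29)) (@D3.rec (fun _ => Pt) (kd xd20 yd21 zd6) (kd xd32 yd9 zd44) (kd xd28 yd31 zd47) (kd xd29 yd54 zd25) (kd xd28 yd7 zd19) (kd xd27 yd32 zd35) (kd xd32 yd7 zd51) (kd xd32 yd29 zd37) (kd xd23 yd14 zd51) (kd xd20 yd21 zd20) (kd xd32 yd6 zd60) (kd xd31 yd38 zd30) (kd xd27 yd34 zd51) (kd xd31 yd43 zd15) (kd xd28 yd31 zd48) (kd xd32 yd28 zd38) (kd xd32 yd28 zd37) (kd xd20 yd21 zd32) (kd xd20 yd21 zd35) (kd xd27 yd50 zd8) (kd xd20 yd21 zd40) (kd xd32 yd44 zd27) (kd xd20 yd21 zd42) (kd xd30 yd30 zd16) (kd xd20 yd21 zd44) (kd xd20 yd21 zd45) (kd xd27 yd34 zd31) (kd xd27 yd52 zd7) (kd xd28 yd23 zd8) (kd xd22 yd5 zd46) (kd xd21 yd35 zd43) (kd xd22 yd59 zd56)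 (kd xd20 yd21 zd55) (kd xd32 yd44 zd28) (kd xd20 yd21 zd58) (kd xd21 yd20 zd20) (kd xd20 yd24 zd26) (kd xd24 yd53 zd15) (kd xd20 yd22 zd44) (kd xd24 yd53 zd8) (kd xd27 yd42 zd51) (kd xd24 yd20 zd20) (kd xd20 yd23 zd3) (kd xd24 yd30 zd13) (kd xd28 yd39 zd59) (kd xd27 yd21 zd9) (kd xd24 yd21 zd31) (kd xd21 yd9 zd27) (kd xd20 yd23 zd8) (kd xd30 yd55 zd53) (kd xd20 yd23 zd16) (kd xd23 yd59 zd38) (kd xd28 yd36 zd36) (kd xd24 yd26 zd43) (kd xd24 yd2 zd50) (kd xd24 yd0 zd20) (kd xd26 yd40 zd2) (kd xd26 yd40 zd60) (kd xd20 yd23 zd24) (kd xd29 yd44 zd37) (kd xd21 yd37 zd50) (kd xd24 yd22 zd60)) (@D3.rec (fun _ => Pt) (kd xd29 yd6 zd39) (kd xd20 yd23 zd37) (kd xd29 yd36 zd53) (kd xd29 yd47 zd46) (kd xd25 yd25 zd21) (kd xd31 yd59 zd36) (kd xd20 yd23 zd42) (kd xd29 yd30 zd36) (kd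 xd30 yd15 zd29) (kd xd31 yd19 zd8) (kd xd28 yd48 zd56) (kd xd31 yd19 zd9) (kd xd30 yd23 zd53) (kd xd31 yd19 zd5) (kd xd22 yd41 zd2) (kd xd32 yd38 zd26) (kd xd29 yd46 zd54) (kd xd24 yd2 zd49) (kd xd30 yd28 zd56) (kd xd20 yd23 zd50) (kd xd23 yd50 zd58) (kd xd24 yd23 zd33) (kd xd26 yd38 zd19) (kd xd26 yd39 zd7) (kd xd26 yd40 zd5) (kd xd20 yd23 zd57) (kd xd26 yd40 zd11) (kd xd26 yd33 zd56) (kd xd26 yd33 zd55) (kd xd31 yd45 zd60) (kd xd31 yd34 zd55) (kd xd20 yd24 zd6) (kd xd20 yd24 zd19) (kd xd24 yd26 zd42) (kd xd24 yd26 zd41) (kd xd26 yd41 zd11) (kd xd27 yd44 zd37) (kd xd29 yd26 zd49) (kd xd20 yd24 zd14) (kd xd24 yd53 zd5) (kd xd20 yd24 zd16) (kd xd29 yd44 zd41) (kd xd20 yd24 zd20) (kd xd28 yd12 zd26) (kd xd29 yd11 zd44) (kd xd31 yd4 zd49) (kd xd24 yd21 zd1) (kd xd20 yd24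 zd53) (kd xd20 yd24 zd54) (kd xd29 yd26 zd37) (kd xd26 yd22 zd41) (kd xd27 yd51 zd15) (kd xd20 yd24 zd56) (kd xd20 yd24 zd57) (kd xd29 yd58 zd15) (kd xd30 yd5 zd2) (kd xd30 yd21 zd4) (kd xd31 yd58 zd51) (kd xd26 yd28 zd48) (kd xd29 yd23 zd21) (kd xd20 yd25 zd6) (kd xd22 yd13 zd29)) (@D3.rec (fun _ => Pt) (kd xd24 yd11 zd1) (kd xd20 yd25 zd12) (kd xd29 yd36 zd35) (kd xd20 yd25 zd14) (kd xd21 yd32 zd39) (kd xd24 yd12 zd46) (kd xd26 yd53 zd7) (kd xd26 yd44 zd5) (kd xd20 yd25 zd38) (kd xd20 yd25 zd42) (kd xd31 yd44 zd50) (kd xd28 yd59 zd10) (kd xd20 yd26 zd21) (kd xd20 yd26 zd26) (kd xd30 yd8 zd37) (kd xd31 yd34 zd28) (kd xd20 yd26 zd33) (kd xd25 yd21 zd61) (kd xd20 yd26 zd35) (kd xd24 yd34 zd3) (kd xd29 yd36 zd10) (kd xd29 yd36 zd11) (kd xd32 yd44 zd45) (kd xd20 yd26 zd38)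 (kd xd24 yd3 zd41) (kd xd20 yd26 zd40) (kd xd20 yd26 zd41) (kd xd29 yd15 zd9) (kd xd24 yd10 zd38) (kd xd27 yd37 zd3) (kd xd24 yd3 zd52) (kd xd32 yd40 zd47) (kd xd29 yd35 zd35) (kd xd29 yd41 zd34) (kd xd28 yd57 zd32) (kd xd29 yd40 zd27) (kd xd29 yd58 zd59) (kd xd31 yd28 zd14) (kd xd30 yd33 zd60) (kd xd20 yd27 zd10) (kd xd27 yd53 zd19) (kd xd30 yd38 zd7) (kd xd26 yd32 zd11) (kd xd26 yd32 zd35) (kd xd21 yd54 zd47) (kd xd24 yd18 zd2) (kd xd20 yd48 zd40) (kd xd28 yd47 zd50) (kd xd29 yd40 zd42) (kd xd20 yd28 zd13) (kd xd21 yd14 zd12) (kd xd23 yd5 zd19) (kd xd32 yd13 zd10) (kd xd29 yd43 zd21) (kd xd20 yd28 zd23) (kd xd20 yd28 zd26) (kd xd27 yd4 zd2) (kd xd20 yd28 zd35) (kd xd23 yd53 zd22) (kd xd21 yd36 zd43) (kd xd21 yd36 zd44) (kd xd20 yd59 zd11)) (@D3.rec (fun _ => Pt) (kd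 xd23 yd13 zd44) (kd xd27 yd10 zd49) (kd xd23 yd57 zd26) (kd xd30 yd33 zd50) (kd xd23 yd48 zd20) (kd xd30 yd57 zd44) (kd xd20 yd28 zd53) (kd xd23 yd47 zd33) (kd xd20 yd28 zd59) (kd xd20 yd28 zd61) (kd xd21 yd22 zd10) (kd xd20 yd29 zd5) (kd xd20 yd45 zd8) (kd xd25 yd35 zd14) (kd xd20 yd29 zd12) (kd xd21 yd10 zd61) (kd xd26 yd25 zd28) (kd xd31 yd5 zd39) (kd xd31 yd5 zd40) (kd xd32 yd18 zd12) (kd xd21 yd10 zd22) (kd xd32 yd42 zd50) (kd xd23 yd20 zd20) (kd xd31 yd6 zd19) (kd xd32 yd3 zd42) (kd xd28 yd26 zd51) (kd xd28 yd53 zd38) (kd xd23 yd33 zd34) (kd xd24 yd3 zd4) (kd xd23 yd20 zd6) (kd xd25 yd54 zd39) (kd xd28 yd5 zd46) (kd xd28 yd31 zd61) (kd xd20 yd29 zd34) (kd xd28 yd32 zd4) (kd xd30 yd51 zd1) (kd xd27 yd13 zd24) (kd xd29 yd41 zd8) (kd xd27 yd21 zd55) (kd xd20 yd29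 zd38) (kd xd32 yd44 zd55) (kd xd31 yd49 zd6) (kd xd30 yd54 zd37) (kd xd25 yd58 zd32) (kd xd26 yd30 zd26) (kd xd26 yd31 zd22) (kd xd20 yd29 zd50) (kd xd20 yd29 zd57) (kd xd20 yd57 zd1) (kd xd29 yd19 zd19) (kd xd20 yd30 zd1) (kd xd20 yd30 zd2) (kd xd20 yd30 zd7) (kd xd25 yd21 zd3) (kd xd20 yd30 zd8) (kd xd20 yd59 zd40) (kd xd32 yd4 zd16) (kd xd22 yd51 zd42) (kd xd20 yd30 zd10) (kd xd20 yd30 zd11) (kd xd29 yd55 zd36) (kd xd30 yd45 zd39)) (@D3.rec (fun _ => Pt) (kd xd22 yd51 zd24) (kd xd20 yd30 zd16) (kd xd29 yd55 zd40) (kd xd22 yd31 zd58) (kd xd29 yd30 zd12) (kd xd20 yd32 zd42) (kd xd28 yd17 zd21) (kd xd24 yd31 zd14) (kd xd30 yd38 zd11) (kd xd20 yd30 zd29) (kd xd30 yd27 zd13) (kd xd23 yd52 zd0) (kd xd23 yd9 zd27) (kd xd31 yd34 zd4) (kd xd20 yd30 zd48) (kd xd31 yd7 zd42)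 (kd xd20 yd31 zd23) (kd xd26 yd45 zd51) (kd xd27 yd9 zd50) (kd xd30 yd53 zd56) (kd xd20 yd31 zd3) (kd xd20 yd31 zd5) (kd xd29 yd19 zd14) (kd xd31 yd2 zd35) (kd xd24 yd13 zd40) (kd xd24 yd24 zd53) (kd xd20 yd31 zd12) (kd xd20 yd31 zd16) (kd xd20 yd31 zd17) (kd xd22 yd5 zd15) (kd xd20 yd31 zd18) (kd xd29 yd52 zd20) (kd xd32 yd36 zd59) (kd xd20 yd31 zd20) (kd xd20 yd31 zd24) (kd xd30 yd58 zd26) (kd xd29 yd30 zd9) (kd xd25 yd16 zd5) (kd xd30 yd34 zd60) (kd xd23 yd5 zd4) (kd xd28 yd14 zd57) (kd xd27 yd8 zd18) (kd xd26 yd29 zd22) (kd xd28 yd46 zd41) (kd xd28 yd20 zd23) (kd xd20 yd32 zd33) (kd xd32 yd32 zd52) (kd xd32 yd18 zd8) (kd xd20 yd31 zd44) (kd xd20 yd31 zd49) (kd xd23 yd46 zd2) (kd xd27 yd8 zd17) (kd xd32 yd9 zd56) (kd xd26 yd49 zd47) (kd xd27 yd5 zd27) (kd xd31 yd44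 zd24) (kd xd20 yd32 zd5) (kd xd31 yd32 zd41) (kd xd22 yd34 zd14) (kd xd26 yd5 zd19) (kd xd23 yd19 zd40) (kd xd26 yd48 zd54)) (@D3.rec (fun _ => Pt) (kd xd30 yd10 zd47) (kd xd22 yd30 zd59) (kd xd27 yd32 zd0) (kd xd22 yd29 zd36) (kd xd23 yd20 zd39) (kd xd29 yd55 zd37) (kd xd22 yd53 zd0) (kd xd27 yd40 zd17) (kd xd29 yd42 zd41) (kd xd29 yd29 zd36) (kd xd28 yd20 zd15) (kd xd29 yd23 zd58) (kd xd29 yd29 zd4) (kd xd29 yd19 zd15) (kd xd23 yd53 zd50) (kd xd24 yd5 zd28) (kd xd23 yd58 zd12) (kd xd20 yd33 zd16) (kd xd30 yd21 zd40) (kd xd21 yd37 zd23) (kd xd21 yd37 zd21) (kd xd32 yd16 zd52) (kd xd20 yd33 zd20) (kd xd20 yd33 zd21) (kd xd20 yd33 zd24) (kd xd21 yd24 zd44) (kd xd29 yd1 zd13) (kd xd20 yd33 zd31) (kd xd28 yd50 zd5) (kd xd26 yd46 zd53) (kd xd25 yd23 zd58) (kd xd24 yd1 zd7)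 (kd xd20 yd48 zd48) (kd xd23 yd58 zd30) (kd xd23 yd59 zd51) (kd xd20 yd33 zd50) (kd xd29 yd26 zd7) (kd xd28 yd23 zd25) (kd xd31 yd19 zd30) (kd xd23 yd49 zd13) (kd xd20 yd33 zd55) (kd xd31 yd14 zd0) (kd xd28 yd10 zd2) (kd xd32 yd45 zd2) (kd xd28 yd23 zd21) (kd xd20 yd36 zd37) (kd xd28 yd24 zd47) (kd xd28 yd23 zd29) (kd xd20 yd33 zd61) (kd xd28 yd52 zd20) (kd xd31 yd35 zd26) (kd xd29 yd23 zd42) (kd xd25 yd36 zd31) (kd xd30 yd29 zd20) (kd xd20 yd34 zd20) (kd xd25 yd47 zd32) (kd xd21 yd31 zd7) (kd xd22 yd22 zd28) (kd xd30 yd4 zd5) (kd xd29 yd14 zd59) (kd xd20 yd52 zd20) (kd xd20 yd34 zd45)) (@D3.rec (fun _ => Pt) (kd xd20 yd34 zd48) (kd xd24 yd53 zd38) (kd xd28 yd49 zd35) (kd xd22 yd4 zd25) (kd xd30 yd50 zd56) (kd xd23 yd55 zd1) (kd xd23 yd55 zd7) (kd xd30 yd49 zd57) (kd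 xd26 yd19 zd43) (kd xd20 yd35 zd7) (kd xd20 yd35 zd8) (kd xd31 yd14 zd37) (kd xd30 yd43 zd39) (kd xd20 yd35 zd10) (kd xd31 yd33 zd29) (kd xd20 yd35 zd11) (kd xd20 yd35 zd12) (kd xd20 yd35 zd13) (kd xd29 yd43 zd6) (kd xd20 yd35 zd17) (kd xd20 yd35 zd23) (kd xd20 yd35 zd28) (kd xd20 yd35 zd44) (kd xd20 yd35 zd31) (kd xd26 yd35 zd0) (kd xd28 yd35 zd10) (kd xd29 yd46 zd36) (kd xd20 yd35 zd34) (kd xd27 yd54 zd1) (kd xd20 yd35 zd36) (kd xd30 yd29 zd9) (kd xd20 yd35 zd38) (kd xd32 yd45 zd7) (kd xd20 yd35 zd39) (kd xd32 yd37 zd48) (kd xd29 yd50 zd5) (kd xd32 yd40 zd19) (kd xd31 yd30 zd48) (kd xd32 yd37 zd50) (kd xd24 yd59 zd55) (kd xd20 yd35 zd48) (kd xd31 yd38 zd3) (kd xd24 yd53 zd16) (kd xd26 yd49 zd4) (kd xd22 yd31 zd37) (kd xd31 yd18 zd13) (kd xd26 yd11 zd43) (kd xd24 yd19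 zd20) (kd xd20 yd36 zd17) (kd xd26 yd21 zd53) (kd xd24 yd41 zd38) (kd xd20 yd36 zd19) (kd xd25 yd54 zd40) (kd xd29 yd43 zd7) (kd xd21 yd21 zd23) (kd xd25 yd36 zd8) (kd xd26 yd58 zd16) (kd xd25 yd56 zd37) (kd xd25 yd56 zd39) (kd xd20 yd36 zd32) (kd xd28 yd27 zd26) (kd xd23 yd55 zd6)) (@D3.rec (fun _ => Pt) (kd xd20 yd36 zd39) (kd xd32 yd40 zd46) (kd xd25 yd56 zd17) (kd xd20 yd37 zd24) (kd xd31 yd1 zd7) (kd xd20 yd36 zd48) (kd xd22 yd46 zd51) (kd xd20 yd36 zd49) (kd xd30 yd52 zd58) (kd xd30 yd8 zd16) (kd xd28 yd39 zd5) (kd xd20 yd36 zd50) (kd xd31 yd33 zd25) (kd xd20 yd37 zd0) (kd xd20 yd37 zd1) (kd xd31 yd33 zd24) (kd xd32 yd40 zd35) (kd xd32 yd40 zd49) (kd xd20 yd36 zd52) (kd xd32 yd40 zd55) (kd xd32 yd18 zd47) (kd xd20 yd36 zd56) (kd xd32 yd13 zd25) (kd xd21 yd4 zd57)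 (kd xd32 yd45 zd12) (kd xd30 yd35 zd30) (kd xd32 yd7 zd45) (kd xd20 yd37 zd5) (kd xd26 yd17 zd21) (kd xd21 yd2 zd53) (kd xd32 yd19 zd19) (kd xd20 yd37 zd17) (kd xd20 yd37 zd21) (kd xd23 yd8 zd11) (kd xd27 yd23 zd51) (kd xd29 yd23 zd53) (kd xd29 yd43 zd11) (kd xd23 yd18 zd48) (kd xd20 yd37 zd26) (kd xd29 yd48 zd7) (kd xd20 yd37 zd30) (kd xd29 yd2 zd44) (kd xd31 yd18 zd9) (kd xd22 yd56 zd49) (kd xd31 yd14 zd10) (kd xd28 yd45 zd12) (kd xd27 yd37 zd10) (kd xd21 yd23 zd4) (kd xd28 yd10 zd5) (kd xd20 yd37 zd58) (kd xd23 yd54 zd5) (kd xd27 yd48 zd29) (kd xd28 yd0 zd60) (kd xd31 yd5 zd6) (kd xd30 yd29 zd50) (kd xd20 yd38 zd18) (kd xd26 yd1 zd42) (kd xd32 yd37 zd19) (kd xd20 yd38 zd22) (kd xd20 yd38 zd34) (kd xd20 yd38 zd35) (kd xd25 yd1 zd7)) (@D3.rec (fun _ => Pt) (kd xd20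 yd38 zd26) (kd xd32 yd44 zd38) (kd xd20 yd38 zd31) (kd xd26 yd33 zd19) (kd xd32 yd44 zd35) (kd xd25 yd45 zd9) (kd xd32 yd45 zd23) (kd xd20 yd38 zd36) (kd xd20 yd38 zd37) (kd xd30 yd17 zd22) (kd xd26 yd36 zd22) (kd xd32 yd45 zd25) (kd xd32 yd16 zd51) (kd xd24 yd30 zd14) (kd xd32 yd45 zd26) (kd xd25 yd58 zd36) (kd xd20 yd38 zd54) (kd xd20 yd38 zd55) (kd xd20 yd38 zd56) (kd xd22 yd1 zd15) (kd xd20 yd39 zd16) (kd xd32 yd39 zd27) (kd xd24 yd0 zd32) (kd xd22 yd0 zd3) (kd xd22 yd1 zd14) (kd xd32 yd33 zd29) (kd xd32 yd11 zd55) (kd xd20 yd38 zd59) (kd xd30 yd28 zd53) (kd xd22 yd1 zd1) (kd xd20 yd38 zd60) (kd xd20 yd38 zd61) (kd xd26 yd35 zd40) (kd xd26 yd35 zd39) (kd xd30 yd30 zd34) (kd xd20 yd39 zd1) (kd xd32 yd45 zd38) (kd xd20 yd39 zd2) (kd xd26 yd37 zd23) (kd xd30 yd16 zd26)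 (kd xd20 yd39 zd8) (kd xd20 yd54 zd6) (kd xd28 yd25 zd16) (kd xd28 yd18 zd47) (kd xd26 yd52 zd23) (kd xd20 yd56 zd27) (kd xd26 yd52 zd24) (kd xd32 yd12 zd5) (kd xd20 yd39 zd17) (kd xd26 yd57 zd29) (kd xd32 yd41 zd45) (kd xd28 yd37 zd17) (kd xd20 yd56 zd52) (kd xd26 yd34 zd61) (kd xd20 yd39 zd21) (kd xd26 yd34 zd47) (kd xd24 yd37 zd6) (kd xd24 yd35 zd16) (kd xd32 yd13 zd26) (kd xd26 yd52 zd22) (kd xd20 yd58 zd29) (kd xd32 yd45 zd46)) (@D3.rec (fun _ => Pt) (kd xd32 yd45 zd47) (kd xd20 yd39 zd29) (kd xd20 yd39 zd30) (kd xd26 yd40 zd58) (kd xd20 yd39 zd31) (kd xd20 yd57 zd35) (kd xd20 yd57 zd36) (kd xd28 yd54 zd16) (kd xd29 yd46 zd44) (kd xd29 yd46 zd43) (kd xd28 yd54 zd22) (kd xd29 yd44 zd11) (kd xd24 yd35 zd12) (kd xd29 yd44 zd10) (kd xd28 yd54 zd36) (kd xd29 yd46 zd26)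 (kd xd29 yd44 zd17) (kd xd26 yd56 zd58) (kd xd32 yd45 zd53) (kd xd32 yd45 zd54) (kd xd32 yd45 zd49) (kd xd20 yd39 zd37) (kd xd31 yd55 zd44) (kd xd25 yd32 zd38) (kd xd28 yd50 zd26) (kd xd29 yd44 zd29) (kd xd28 yd29 zd61) (kd xd32 yd12 zd42) (kd xd26 yd57 zd7) (kd xd29 yd44 zd43) (kd xd31 yd30 zd45) (kd xd24 yd32 zd3) (kd xd20 yd57 zd43) (kd xd26 yd39 zd17) (kd xd20 yd39 zd47) (kd xd20 yd39 zd48) (kd xd22 yd55 zd4) (kd xd20 yd39 zd49) (kd xd23 yd0 zd48) (kd xd24 yd0 zd37) (kd xd23 yd19 zd1) (kd xd27 yd13 zd10) (kd xd26 yd42 zd57) (kd xd24 yd46 zd29) (kd xd26 yd2 zd28) (kd xd31 yd9 zd9) (kd xd26 yd55 zd0) (kd xd31 yd9 zd11) (kd xd32 yd45 zd55) (kd xd32 yd45 zd56) (kd xd31 yd41 zd24) (kd xd20 yd40 zd12) (kd xd24 yd11 zd47) (kd xd20 yd43 zd35) (kd xd30 yd6 zd50) (kd xd20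 yd47 zd10) (kd xd27 yd40 zd46) (kd xd20 yd53 zd7) (kd xd24 yd14 zd20) (kd xd25 yd31 zd48) (kd xd24 yd16 zd37) (kd xd20 yd40 zd40)) (@D3.rec (fun _ => Pt) (kd xd28 yd56 zd49) (kd xd20 yd40 zd44) (kd xd20 yd40 zd45) (kd xd29 yd42 zd25) (kd xd29 yd35 zd11) (kd xd29 yd36 zd34) (kd xd22 yd17 zd8) (kd xd21 yd49 zd35) (kd xd20 yd40 zd57) (kd xd20 yd40 zd61) (kd xd27 yd55 zd57) (kd xd29 yd35 zd4) (kd xd20 yd41 zd18) (kd xd20 yd46 zd12) (kd xd20 yd41 zd19) (kd xd29 yd38 zd37) (kd xd21 yd47 zd12) (kd xd21 yd47 zd32) (kd xd20 yd41 zd21) (kd xd21 yd38 zd48) (kd xd24 yd38 zd38) (kd xd23 yd7 zd29) (kd xd21 yd4 zd1) (kd xd28 yd44 zd46) (kd xd31 yd19 zd15) (kd xd24 yd38 zd58) (kd xd32 yd21 zd56) (kd xd32 yd41 zd16) (kd xd29 yd50 zd60) (kd xd27 yd21 zd48) (kd xd20 yd41 zd32) (kd xd24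 yd52 zd3) (kd xd20 yd41 zd40) (kd xd24 yd51 zd61) (kd xd32 yd18 zd3) (kd xd29 yd27 zd32) (kd xd20 yd41 zd42) (kd xd28 yd35 zd2) (kd xd20 yd41 zd45) (kd xd20 yd41 zd46) (kd xd30 yd11 zd40) (kd xd20 yd41 zd48) (kd xd29 yd39 zd22) (kd xd28 yd0 zd43) (kd xd22 yd12 zd29) (kd xd22 yd7 zd45) (kd xd32 yd42 zd40) (kd xd31 yd24 zd50) (kd xd29 yd8 zd60) (kd xd28 yd38 zd34) (kd xd31 yd13 zd44) (kd xd28 yd54 zd61) (kd xd20 yd41 zd57) (kd xd28 yd35 zd4) (kd xd21 yd16 zd7) (kd xd27 yd22 zd50) (kd xd20 yd42 zd1) (kd xd20 yd42 zd2) (kd xd25 yd22 zd14) (kd xd29 yd13 zd4) (kd xd31 yd47 zd48) (kd xd20 yd42 zd3)) (@D3.rec (fun _ => Pt) (kd xd31 yd47 zd45) (kd xd22 yd7 zd48) (kd xd31 yd13 zd36) (kd xd20 yd42 zd5) (kd xd25 yd22 zd36) (kd xd32 yd4 zd22) (kd xd26 yd56 zd57) (kd xd20 yd42 zd8)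 (kd xd20 yd42 zd9) (kd xd20 yd42 zd10) (kd xd29 yd27 zd20) (kd xd29 yd27 zd21) (kd xd31 yd31 zd19) (kd xd28 yd36 zd59) (kd xd20 yd42 zd12) (kd xd28 yd48 zd21) (kd xd25 yd21 zd18) (kd xd32 yd46 zd15) (kd xd29 yd14 zd18) (kd xd28 yd35 zd6) (kd xd27 yd43 zd25) (kd xd24 yd4 zd3) (kd xd20 yd42 zd28) (kd xd25 yd30 zd44) (kd xd24 yd36 zd30) (kd xd21 yd47 zd59) (kd xd32 yd46 zd17) (kd xd31 yd11 zd35) (kd xd22 yd38 zd30) (kd xd30 yd45 zd49) (kd xd22 yd26 zd57) (kd xd32 yd23 zd60) (kd xd21 yd14 zd7) (kd xd20 yd42 zd46) (kd xd29 yd35 zd5) (kd xd29 yd27 zd2) (kd xd29 yd38 zd58) (kd xd30 yd9 zd8) (kd xd28 yd52 zd54) (kd xd24 yd56 zd19) (kd xd26 yd50 zd6) (kd xd20 yd42 zd52) (kd xd29 yd38 zd35) (kd xd22 yd18 zd45) (kd xd31 yd59 zd38) (kd xd21 yd47 zd31) (kd xd27 yd21 zd18) (kd xd22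 yd16 zd42) (kd xd30 yd26 zd27) (kd xd20 yd42 zd59) (kd xd28 yd37 zd45) (kd xd23 yd36 zd48) (kd xd23 yd7 zd30) (kd xd29 yd26 zd2) (kd xd22 yd19 zd36) (kd xd28 yd26 zd32) (kd xd23 yd36 zd46) (kd xd28 yd44 zd52) (kd xd30 yd22 zd53) (kd xd30 yd9 zd3) (kd xd27 yd16 zd47) (kd xd22 yd21 zd61)) (@D3.rec (fun _ => Pt) (kd xd32 yd18 zd43) (kd xd31 yd25 zd56) (kd xd32 yd22 zd5) (kd xd30 yd49 zd16) (kd xd20 yd43 zd11) (kd xd24 yd9 zd6) (kd xd24 yd50 zd9) (kd xd22 yd19 zd30) (kd xd23 yd0 zd47) (kd xd20 yd43 zd20) (kd xd31 yd23 zd39) (kd xd32 yd41 zd26) (kd xd25 yd35 zd42) (kd xd29 yd7 zd10) (kd xd24 yd16 zd60) (kd xd22 yd25 zd7) (kd xd31 yd23 zd36) (kd xd20 yd43 zd34) (kd xd32 yd22 zd51) (kd xd20 yd50 zd39) (kd xd32 yd2 zd23) (kd xd27 yd14 zd26) (kd xd20 yd43 zd37) (kd xd24 yd36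 zd41) (kd xd32 yd6 zd15) (kd xd30 yd53 zd46) (kd xd20 yd43 zd42) (kd xd20 yd43 zd45) (kd xd31 yd25 zd4) (kd xd24 yd25 zd0) (kd xd20 yd43 zd48) (kd xd24 yd35 zd30) (kd xd32 yd19 zd11) (kd xd20 yd43 zd52) (kd xd31 yd31 zd21) (kd xd32 yd46 zd25) (kd xd20 yd43 zd55) (kd xd31 yd12 zd58) (kd xd27 yd24 zd22) (kd xd32 yd18 zd52) (kd xd27 yd15 zd45) (kd xd20 yd43 zd61) (kd xd32 yd6 zd16) (kd xd29 yd23 zd43) (kd xd29 yd23 zd44) (kd xd29 yd23 zd49) (kd xd27 yd25 zd27) (kd xd21 yd5 zd25) (kd xd21 yd58 zd47) (kd xd21 yd35 zd61) (kd xd20 yd44 zd8) (kd xd25 yd17 zd34) (kd xd20 yd44 zd9) (kd xd26 yd50 zd46) (kd xd26 yd50 zd44) (kd xd32 yd33 zd33) (kd xd20 yd44 zd11) (kd xd20 yd56 zd29) (kd xd20 yd44 zd13) (kd xd20 yd55 zd3) (kd xd32 yd13 zd6) (kd xd32 yd30 zd58)) (@D3.rec (fun _ =>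 Pt) (kd xd26 yd41 zd6) (kd xd25 yd32 zd0) (kd xd20 yd44 zd17) (kd xd26 yd21 zd13) (kd xd22 yd24 zd54) (kd xd27 yd47 zd61) (kd xd29 yd19 zd8) (kd xd23 yd23 zd57) (kd xd24 yd16 zd36) (kd xd27 yd5 zd8) (kd xd32 yd15 zd12) (kd xd30 yd48 zd58) (kd xd27 yd5 zd17) (kd xd30 yd8 zd27) (kd xd30 yd56 zd48) (kd xd20 yd44 zd43) (kd xd23 yd47 zd22) (kd xd22 yd5 zd54) (kd xd30 yd47 zd53) (kd xd20 yd45 zd0) (kd xd31 yd48 zd40) (kd xd20 yd45 zd4) (kd xd27 yd10 zd12) (kd xd27 yd55 zd46) (kd xd27 yd56 zd26) (kd xd20 yd45 zd15) (kd xd30 yd50 zd13) (kd xd20 yd45 zd23) (kd xd24 yd1 zd58) (kd xd20 yd45 zd24) (kd xd20 yd45 zd25) (kd xd20 yd45 zd28) (kd xd22 yd20 zd46) (kd xd24 yd30 zd33) (kd xd26 yd49 zd49) (kd xd29 yd36 zd42) (kd xd23 yd13 zd20) (kd xd29 yd35 zd15) (kd xd20 yd45 zd36) (kd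 xd32 yd35 zd47) (kd xd30 yd29 zd53) (kd xd23 yd22 zd22) (kd xd22 yd11 zd43) (kd xd27 yd39 zd35) (kd xd20 yd45 zd44) (kd xd27 yd31 zd20) (kd xd26 yd15 zd23) (kd xd26 yd20 zd53) (kd xd22 yd21 zd52) (kd xd22 yd21 zd51) (kd xd22 yd49 zd45) (kd xd20 yd45 zd50) (kd xd20 yd46 zd46) (kd xd20 yd45 zd57) (kd xd29 yd8 zd32) (kd xd21 yd38 zd2) (kd xd20 yd46 zd10) (kd xd29 yd20 zd18) (kd xd29 yd36 zd36) (kd xd29 yd5 zd61) (kd xd24 yd27 zd21) (kd xd27 yd19 zd53)) (@D3.rec (fun _ => Pt) (kd xd31 yd28 zd47) (kd xd20 yd46 zd19) (kd xd24 yd39 zd48) (kd xd23 yd36 zd41) (kd xd23 yd36 zd42) (kd xd26 yd40 zd19) (kd xd23 yd33 zd55) (kd xd22 yd37 zd39) (kd xd32 yd1 zd54) (kd xd20 yd46 zd40) (kd xd31 yd0 zd27) (kd xd30 yd22 zd39) (kd xd27 yd12 zd43) (kd xd27 yd12 zd55) (kd xd22 yd23 zd41) (kd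 xd21 yd58 zd48) (kd xd32 yd31 zd8) (kd xd27 yd46 zd34) (kd xd27 yd28 zd25) (kd xd29 yd39 zd50) (kd xd26 yd43 zd31) (kd xd20 yd46 zd61) (kd xd29 yd35 zd42) (kd xd20 yd47 zd2) (kd xd28 yd50 zd17) (kd xd28 yd53 zd14) (kd xd29 yd39 zd42) (kd xd23 yd13 zd18) (kd xd28 yd16 zd22) (kd xd28 yd16 zd23) (kd xd25 yd17 zd13) (kd xd20 yd47 zd16) (kd xd28 yd51 zd61) (kd xd30 yd54 zd25) (kd xd20 yd47 zd18) (kd xd26 yd6 zd2) (kd xd30 yd1 zd23) (kd xd24 yd47 zd49) (kd xd30 yd36 zd52) (kd xd30 yd4 zd35) (kd xd20 yd47 zd32) (kd xd27 yd36 zd20) (kd xd29 yd39 zd26) (kd xd22 yd27 zd43) (kd xd29 yd40 zd18) (kd xd22 yd53 zd19) (kd xd22 yd24 zd53) (kd xd20 yd47 zd39) (kd xd26 yd13 zd10) (kd xd20 yd47 zd42) (kd xd29 yd39 zd19) (kd xd28 yd48 zd46) (kd xd28 yd46 zd47) (kd xd24 yd47 zd42) (kd xd22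 yd20 zd53) (kd xd32 yd34 zd29) (kd xd28 yd16 zd59) (kd xd24 yd15 zd20) (kd xd29 yd46 zd35) (kd xd28 yd48 zd55) (kd xd31 yd20 zd39) (kd xd24 yd39 zd33)) (@D3.rec (fun _ => Pt) (kd xd22 yd54 zd52) (kd xd20 yd48 zd6) (kd xd20 yd48 zd7) (kd xd28 yd35 zd43) (kd xd31 yd24 zd6) (kd xd26 yd51 zd34) (kd xd31 yd21 zd2) (kd xd32 yd15 zd14) (kd xd24 yd29 zd4) (kd xd28 yd42 zd31) (kd xd26 yd42 zd37) (kd xd32 yd39 zd60) (kd xd27 yd5 zd14) (kd xd26 yd56 zd17) (kd xd32 yd15 zd13) (kd xd31 yd28 zd26) (kd xd31 yd30 zd61) (kd xd30 yd53 zd14) (kd xd29 yd39 zd44) (kd xd20 yd48 zd25) (kd xd28 yd55 zd46) (kd xd28 yd46 zd13) (kd xd31 yd17 zd39) (kd xd28 yd41 zd53) (kd xd23 yd11 zd8) (kd xd25 yd32 zd21) (kd xd28 yd49 zd14) (kd xd29 yd27 zd35) (kd xd32 yd24 zd2) (kd xd31 yd59 zd41) (kd xd26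 yd45 zd40) (kd xd32 yd11 zd25) (kd xd32 yd34 zd37) (kd xd30 yd29 zd22) (kd xd24 yd17 zd53) (kd xd24 yd4 zd51) (kd xd29 yd23 zd29) (kd xd27 yd48 zd33) (kd xd32 yd46 zd51) (kd xd21 yd2 zd58) (kd xd30 yd28 zd8) (kd xd24 yd39 zd41) (kd xd29 yd27 zd48) (kd xd20 yd48 zd47) (kd xd31 yd20 zd7) (kd xd28 yd25 zd18) (kd xd20 yd48 zd49) (kd xd31 yd30 zd41) (kd xd30 yd51 zd28) (kd xd21 yd11 zd29) (kd xd28 yd25 zd9) (kd xd32 yd46 zd52) (kd xd25 yd53 zd1) (kd xd31 yd24 zd49) (kd xd22 yd48 zd38) (kd xd20 yd48 zd57) (kd xd28 yd34 zd54) (kd xd20 yd48 zd58) (kd xd30 yd48 zd2) (kd xd26 yd35 zd56) (kd xd27 yd43 zd18) (kd xd24 yd42 zd47)) (@D3.rec (fun _ => Pt) (kd xd30 yd5 zd12) (kd xd20 yd49 zd14) (kd xd20 yd49 zd15) (kd xd27 yd59 zd47) (kd xd22 yd28 zd43) (kd xd28 yd52 zd36) (kd xd20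 yd49 zd21) (kd xd23 yd19 zd41) (kd xd29 yd28 zd37) (kd xd20 yd49 zd28) (kd xd23 yd5 zd22) (kd xd25 yd5 zd58) (kd xd23 yd9 zd48) (kd xd27 yd15 zd50) (kd xd24 yd15 zd43) (kd xd32 yd46 zd55) (kd xd20 yd49 zd39) (kd xd20 yd49 zd40) (kd xd31 yd5 zd45) (kd xd20 yd49 zd61) (kd xd20 yd50 zd0) (kd xd30 yd21 zd55) (kd xd32 yd42 zd7) (kd xd32 yd42 zd8) (kd xd20 yd49 zd43) (kd xd29 yd4 zd35) (kd xd30 yd31 zd50) (kd xd30 yd31 zd49) (kd xd20 yd49 zd44) (kd xd31 yd4 zd19) (kd xd24 yd35 zd60) (kd xd30 yd10 zd13) (kd xd26 yd0 zd2) (kd xd24 yd44 zd47) (kd xd29 yd27 zd33) (kd xd32 yd36 zd35) (kd xd20 yd49 zd58) (kd xd27 yd36 zd6) (kd xd22 yd21 zd41) (kd xd32 yd17 zd58) (kd xd32 yd24 zd22) (kd xd28 yd42 zd0) (kd xd28 yd58 zd36) (kd xd29 yd23 zd36) (kd xd32 yd47 zd0) (kd xd25 yd13 zd54)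 (kd xd28 yd30 zd26) (kd xd24 yd37 zd25) (kd xd20 yd50 zd4) (kd xd29 yd17 zd39) (kd xd20 yd50 zd5) (kd xd27 yd21 zd32) (kd xd26 yd47 zd3) (kd xd20 yd50 zd7) (kd xd30 yd17 zd4) (kd xd31 yd49 zd9) (kd xd23 yd8 zd38) (kd xd31 yd46 zd27) (kd xd20 yd50 zd17) (kd xd24 yd17 zd51) (kd xd24 yd17 zd50) (kd xd22 yd23 zd0)) (@D3.rec (fun _ => Pt) (kd xd24 yd38 zd24) (kd xd24 yd38 zd28) (kd xd27 yd42 zd37) (kd xd32 yd45 zd13) (kd xd32 yd47 zd2) (kd xd28 yd38 zd10) (kd xd20 yd50 zd28) (kd xd27 yd0 zd35) (kd xd31 yd53 zd49) (kd xd31 yd19 zd31) (kd xd31 yd19 zd20) (kd xd32 yd2 zd27) (kd xd30 yd29 zd19) (kd xd32 yd35 zd25) (kd xd20 yd50 zd32) (kd xd31 yd53 zd51) (kd xd24 yd11 zd52) (kd xd21 yd14 zd42) (kd xd25 yd14 zd29) (kd xd32 yd24 zd41) (kd xd23 yd45 zd45) (kd xd20 yd51 zd5) (kd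 xd22 yd10 zd40) (kd xd21 yd57 zd30) (kd xd27 yd5 zd52) (kd xd29 yd35 zd3) (kd xd21 yd47 zd26) (kd xd20 yd51 zd28) (kd xd25 yd44 zd52) (kd xd32 yd17 zd56) (kd xd29 yd44 zd58) (kd xd32 yd34 zd32) (kd xd32 yd44 zd10) (kd xd20 yd52 zd30) (kd xd23 yd56 zd23) (kd xd20 yd52 zd27) (kd xd20 yd52 zd36) (kd xd20 yd52 zd40) (kd xd32 yd12 zd8) (kd xd20 yd52 zd45) (kd xd27 yd57 zd37) (kd xd29 yd30 zd8) (kd xd20 yd52 zd49) (kd xd22 yd5 zd37) (kd xd20 yd52 zd56) (kd xd28 yd38 zd22) (kd xd20 yd59 zd48) (kd xd28 yd46 zd43) (kd xd20 yd53 zd6) (kd xd20 yd53 zd8) (kd xd20 yd53 zd11) (kd xd29 yd22 zd38) (kd xd30 yd38 zd29) (kd xd20 yd53 zd19) (kd xd31 yd10 zd24) (kd xd23 yd36 zd13) (kd xd22 yd13 zd41) (kd xd30 yd34 zd24) (kd xd20 yd53 zd48) (kd xd30 yd22 zd49) (kd xd20 yd53 zd49) (kd xd20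 yd53 zd50)) (@D3.rec (fun _ => Pt) (kd xd31 yd37 zd53) (kd xd20 yd53 zd51) (kd xd20 yd53 zd52) (kd xd28 yd57 zd53) (kd xd30 yd53 zd35) (kd xd27 yd36 zd49) (kd xd29 yd31 zd18) (kd xd29 yd31 zd53) (kd xd20 yd53 zd54) (kd xd32 yd34 zd22) (kd xd20 yd53 zd56) (kd xd29 yd32 zd36) (kd xd29 yd15 zd55) (kd xd25 yd50 zd60) (kd xd20 yd53 zd60) (kd xd27 yd46 zd52) (kd xd20 yd54 zd1) (kd xd30 yd15 zd50) (kd xd20 yd54 zd4) (kd xd32 yd33 zd31) (kd xd26 yd35 zd42) (kd xd29 yd27 zd53) (kd xd30 yd50 zd49) (kd xd32 yd47 zd6) (kd xd26 yd36 zd0) (kd xd20 yd54 zd8) (kd xd21 yd42 zd38) (kd xd26 yd40 zd47) (kd xd21 yd20 zd23) (kd xd31 yd26 zd8) (kd xd29 yd15 zd10) (kd xd25 yd21 zd16) (kd xd25 yd21 zd15) (kd xd29 yd15 zd7) (kd xd24 yd19 zd6) (kd xd20 yd54 zd17) (kd xd32 yd38 zd33) (kd xd20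 yd54 zd18) (kd xd20 yd54 zd20) (kd xd20 yd54 zd22) (kd xd32 yd47 zd8) (kd xd20 yd54 zd25) (kd xd27 yd4 zd12) (kd xd32 yd41 zd29) (kd xd25 yd37 zd25) (kd xd21 yd37 zd41) (kd xd28 yd31 zd41) (kd xd24 yd2 zd44) (kd xd23 yd20 zd52) (kd xd32 yd47 zd10) (kd xd31 yd5 zd1) (kd xd20 yd54 zd46) (kd xd30 yd55 zd22) (kd xd31 yd7 zd18) (kd xd23 yd42 zd17) (kd xd26 yd0 zd20) (kd xd23 yd31 zd17) (kd xd28 yd32 zd23) (kd xd31 yd31 zd53) (kd xd32 yd10 zd34) (kd xd28 yd44 zd38) (kd xd31 yd14 zd1)) (@D3.rec (fun _ => Pt) (kd xd22 yd24 zd0) (kd xd27 yd19 zd3) (kd xd32 yd21 zd24) (kd xd27 yd14 zd41) (kd xd20 yd55 zd9) (kd xd32 yd21 zd42) (kd xd20 yd55 zd10) (kd xd26 yd33 zd13) (kd xd28 yd44 zd36) (kd xd20 yd55 zd13) (kd xd29 yd34 zd13) (kd xd29 yd34 zd11) (kd xd32 yd10 zd53) (kd xd32 yd10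 zd52) (kd xd32 yd11 zd15) (kd xd32 yd45 zd6) (kd xd32 yd45 zd5) (kd xd29 yd34 zd16) (kd xd31 yd26 zd16) (kd xd31 yd21 zd50) (kd xd32 yd21 zd0) (kd xd32 yd41 zd7) (kd xd25 yd7 zd25) (kd xd20 yd55 zd25) (kd xd30 yd16 zd11) (kd xd25 yd59 zd57) (kd xd25 yd35 zd48) (kd xd30 yd16 zd21) (kd xd32 yd18 zd25) (kd xd29 yd34 zd25) (kd xd30 yd19 zd56) (kd xd26 yd4 zd58) (kd xd32 yd47 zd16) (kd xd30 yd17 zd19) (kd xd20 yd55 zd38) (kd xd32 yd3 zd8) (kd xd26 yd4 zd61) (kd xd29 yd25 zd59) (kd xd32 yd14 zd3) (kd xd32 yd14 zd2) (kd xd20 yd55 zd42) (kd xd29 yd26 zd41) (kd xd20 yd55 zd43) (kd xd29 yd34 zd29) (kd xd28 yd45 zd17) (kd xd20 yd55 zd49) (kd xd25 yd21 zd29) (kd xd31 yd47 zd57) (kd xd32 yd47 zd18) (kd xd20 yd55 zd54) (kd xd31 yd47 zd56) (kd xd20 yd55 zd56) (kd xd20 yd56 zd0) (kd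 xd20 yd55 zd61) (kd xd26 yd2 zd53) (kd xd32 yd41 zd19) (kd xd26 yd59 zd24) (kd xd26 yd35 zd55) (kd xd29 yd42 zd30) (kd xd31 yd21 zd11) (kd xd20 yd56 zd5) (kd xd31 yd21 zd31)) (@D3.rec (fun _ => Pt) (kd xd20 yd56 zd6) (kd xd32 yd14 zd33) (kd xd26 yd33 zd20) (kd xd32 yd47 zd20) (kd xd31 yd24 zd51) (kd xd26 yd33 zd25) (kd xd32 yd47 zd12) (kd xd24 yd50 zd49) (kd xd26 yd46 zd9) (kd xd32 yd47 zd22) (kd xd20 yd56 zd21) (kd xd32 yd46 zd29) (kd xd32 yd12 zd27) (kd xd21 yd17 zd43) (kd xd20 yd56 zd22) (kd xd30 yd15 zd27) (kd xd20 yd56 zd23) (kd xd32 yd33 zd38) (kd xd32 yd17 zd5) (kd xd20 yd56 zd25) (kd xd24 yd29 zd44) (kd xd29 yd2 zd38) (kd xd20 yd56 zd26) (kd xd28 yd40 zd33) (kd xd25 yd11 zd13) (kd xd26 yd38 zd1) (kd xd28 yd40 zd23) (kd xd25 yd32 zd30) (kd xd28 yd51 zd19) (kd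 xd20 yd56 zd30) (kd xd29 yd45 zd51) (kd xd26 yd38 zd15) (kd xd28 yd40 zd20) (kd xd26 yd36 zd16) (kd xd20 yd56 zd36) (kd xd32 yd41 zd3) (kd xd20 yd56 zd37) (kd xd28 yd54 zd46) (kd xd30 yd15 zd60) (kd xd32 yd47 zd27) (kd xd20 yd56 zd39) (kd xd32 yd47 zd28) (kd xd20 yd56 zd41) (kd xd24 yd49 zd22) (kd xd26 yd6 zd1) (kd xd20 yd56 zd43) (kd xd32 yd11 zd26) (kd xd22 yd1 zd5) (kd xd26 yd39 zd3) (kd xd26 yd37 zd29) (kd xd27 yd26 zd31) (kd xd29 yd45 zd30) (kd xd28 yd40 zd35) (kd xd20 yd56 zd60) (kd xd26 yd39 zd11) (kd xd20 yd57 zd6) (kd xd27 yd8 zd38) (kd xd27 yd13 zd57) (kd xd20 yd57 zd8) (kd xd32 yd47 zd24) (kd xd31 yd26 zd9) (kd xd20 yd57 zd10)) (@D3.rec (fun _ => Pt) (kd xd32 yd47 zd35) (kd xd20 yd57 zd11) (kd xd32 yd47 zd36) (kd xd20 yd57 zd12) (kd xd32 yd10 zd32) (kd xd26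 yd33 zd10) (kd xd26 yd35 zd25) (kd xd32 yd13 zd21) (kd xd20 yd57 zd14) (kd xd28 yd30 zd6) (kd xd24 yd25 zd23) (kd xd20 yd57 zd17) (kd xd28 yd30 zd3) (kd xd26 yd38 zd14) (kd xd28 yd39 zd54) (kd xd30 yd34 zd40) (kd xd28 yd30 zd8) (kd xd32 yd47 zd46) (kd xd20 yd57 zd22) (kd xd20 yd57 zd23) (kd xd28 yd30 zd7) (kd xd26 yd38 zd21) (kd xd31 yd28 zd25) (kd xd29 yd47 zd34) (kd xd27 yd16 zd2) (kd xd27 yd16 zd33) (kd xd29 yd34 zd15) (kd xd32 yd23 zd11) (kd xd20 yd57 zd30) (kd xd32 yd47 zd49) (kd xd32 yd23 zd10) (kd xd32 yd14 zd28) (kd xd26 yd38 zd27) (kd xd28 yd50 zd34) (kd xd32 yd45 zd48) (kd xd29 yd39 zd58) (kd xd29 yd31 zd26) (kd xd23 yd29 zd8) (kd xd20 yd57 zd44) (kd xd26 yd46 zd36) (kd xd20 yd57 zd45) (kd xd21 yd46 zd7) (kd xd31 yd34 zd37) (kd xd29 yd34 zd9) (kd xd29 yd34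 zd8) (kd xd20 yd57 zd50) (kd xd32 yd47 zd51) (kd xd30 yd42 zd58) (kd xd20 yd57 zd53) (kd xd29 yd47 zd31) (kd xd32 yd13 zd24) (kd xd32 yd14 zd6) (kd xd32 yd13 zd16) (kd xd20 yd57 zd56) (kd xd29 yd26 zd16) (kd xd32 yd14 zd10) (kd xd27 yd14 zd48) (kd xd20 yd58 zd0) (kd xd32 yd40 zd17) (kd xd29 yd14 zd48) (kd xd20 yd58 zd2) (kd xd20 yd58 zd3)) (@D3.rec (fun _ => Pt) (kd xd32 yd16 zd44) (kd xd29 yd21 zd41) (kd xd32 yd34 zd35) (kd xd32 yd10 zd44) (kd xd32 yd10 zd43) (kd xd20 yd58 zd10) (kd xd20 yd58 zd11) (kd xd31 yd16 zd27) (kd xd31 yd51 zd43) (kd xd23 yd55 zd33) (kd xd21 yd43 zd54) (kd xd20 yd58 zd18) (kd xd32 yd47 zd58) (kd xd20 yd58 zd22) (kd xd20 yd58 zd23) (kd xd32 yd14 zd22) (kd xd26 yd40 zd8) (kd xd26 yd40 zd9) (kd xd30 yd36 zd29) (kd xd20 yd58 zd25) (kd xd32 yd33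 zd10) (kd xd32 yd47 zd60) (kd xd32 yd45 zd50) (kd xd20 yd58 zd27) (kd xd32 yd40 zd14) (kd xd32 yd41 zd6) (kd xd32 yd14 zd26) (kd xd20 yd58 zd31) (kd xd26 yd3 zd19) (kd xd31 yd56 zd55) (kd xd31 yd40 zd58) (kd xd29 yd46 zd49) (kd xd32 yd10 zd56) (kd xd20 yd58 zd42) (kd xd29 yd46 zd23) (kd xd20 yd58 zd45) (kd xd28 yd54 zd40) (kd xd29 yd47 zd40) (kd xd20 yd58 zd55) (kd xd26 yd48 zd35) (kd xd29 yd47 zd37) (kd xd23 yd56 zd18) (kd xd28 yd20 zd45) (kd xd22 yd6 zd46) (kd xd25 yd29 zd13) (kd xd22 yd6 zd45) (kd xd29 yd26 zd3) (kd xd25 yd10 zd34) (kd xd31 yd36 zd6) (kd xd31 yd17 zd28) (kd xd32 yd27 zd60) (kd xd31 yd4 zd40) (kd xd31 yd4 zd43) (kd xd29 yd56 zd36) (kd xd31 yd49 zd28) (kd xd25 yd24 zd58) (kd xd31 yd3 zd18) (kd xd20 yd59 zd19) (kd xd31 yd9 zd51) (kd xd20 yd59 zd21)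 (kd xd31 yd27 zd37) (kd xd21 yd37 zd47)) (@D3.rec (fun _ => Pt) (kd xd29 yd49 zd9) (kd xd31 yd45 zd8) (kd xd31 yd22 zd19) (kd xd22 yd56 zd61) (kd xd20 yd59 zd39) (kd xd25 yd18 zd43) (kd xd32 yd36 zd61) (kd xd29 yd32 zd39) (kd xd24 yd53 zd0) (kd xd20 yd59 zd50) (kd xd21 yd0 zd46) (kd xd22 yd13 zd49) (kd xd32 yd35 zd60) (kd xd32 yd48 zd0) (kd xd20 yd59 zd57) (kd xd28 yd2 zd48) (kd xd22 yd1 zd24) (kd xd27 yd6 zd57) (kd xd29 yd2 zd16) (kd xd27 yd8 zd56) (kd xd27 yd7 zd26) (kd xd30 yd5 zd53) (kd xd20 yd59 zd61) (kd xd28 yd16 zd41) (kd xd24 yd6 zd37) (kd xd31 yd13 zd41) (kd xd32 yd48 zd4) (kd xd21 yd0 zd1) (kd xd28 yd14 zd47) (kd xd22 yd25 zd10) (kd xd24 yd3 zd61) (kd xd21 yd0 zd10) (kd xd29 yd50 zd57) (kd xd32 yd42 zd2) (kd xd25 yd35 zd13) (kd xd22 yd9 zd42) (kd xd22 yd2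 zd7) (kd xd21 yd0 zd26) (kd xd31 yd56 zd1) (kd xd31 yd56 zd2) (kd xd31 yd46 zd28) (kd xd31 yd55 zd56) (kd xd21 yd0 zd40) (kd xd30 yd1 zd32) (kd xd24 yd25 zd28) (kd xd22 yd23 zd43) (kd xd24 yd19 zd23) (kd xd21 yd0 zd52) (kd xd31 yd54 zd44) (kd xd24 yd22 zd27) (kd xd24 yd22 zd22) (kd xd21 yd35 zd19) (kd xd21 yd1 zd8) (kd xd24 yd43 zd48) (kd xd26 yd45 zd55) (kd xd21 yd1 zd10) (kd xd25 yd42 zd26) (kd xd26 yd46 zd2) (kd xd30 yd2 zd32) (kd xd26 yd0 zd47) (kd xd24 yd43 zd47) (kd xd27 yd16 zd9)) (@D3.rec (fun _ => Pt) (kd xd31 yd47 zd2) (kd xd21 yd1 zd22) (kd xd26 yd33 zd18) (kd xd21 yd1 zd25) (kd xd30 yd30 zd33) (kd xd31 yd19 zd35) (kd xd32 yd46 zd46) (kd xd32 yd46 zd47) (kd xd30 yd29 zd27) (kd xd29 yd48 zd0) (kd xd30 yd19 zd46) (kd xd31 yd20 zd52) (kd xd29 yd1 zd7) (kd xd32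 yd48 zd8) (kd xd25 yd43 zd25) (kd xd24 yd15 zd49) (kd xd21 yd1 zd53) (kd xd21 yd1 zd54) (kd xd25 yd24 zd48) (kd xd32 yd0 zd17) (kd xd22 yd55 zd55) (kd xd32 yd0 zd18) (kd xd24 yd8 zd22) (kd xd30 yd6 zd40) (kd xd24 yd36 zd43) (kd xd29 yd13 zd47) (kd xd31 yd48 zd34) (kd xd25 yd50 zd51) (kd xd21 yd2 zd2) (kd xd21 yd17 zd55) (kd xd32 yd48 zd10) (kd xd21 yd2 zd7) (kd xd27 yd18 zd25) (kd xd21 yd2 zd16) (kd xd31 yd10 zd53) (kd xd21 yd2 zd18) (kd xd27 yd18 zd27) (kd xd21 yd2 zd19) (kd xd29 yd6 zd12) (kd xd21 yd2 zd21) (kd xd29 yd6 zd24) (kd xd29 yd14 zd35) (kd xd29 yd51 zd11) (kd xd21 yd2 zd23) (kd xd31 yd5 zd4) (kd xd32 yd48 zd12) (kd xd21 yd2 zd24) (kd xd24 yd32 zd34) (kd xd29 yd11 zd38) (kd xd24 yd41 zd0) (kd xd26 yd1 zd20) (kd xd31 yd23 zd59) (kd xd23 yd23 zd28) (kd xd21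 yd2 zd28) (kd xd27 yd47 zd22) (kd xd30 yd31 zd54) (kd xd21 yd2 zd30) (kd xd30 yd10 zd31) (kd xd21 yd2 zd34) (kd xd24 yd29 zd5) (kd xd25 yd52 zd3) (kd xd21 yd11 zd3)) (@D3.rec (fun _ => Pt) (kd xd21 yd44 zd26) (kd xd21 yd2 zd54) (kd xd30 yd29 zd49) (kd xd21 yd2 zd59) (kd xd21 yd2 zd61) (kd xd29 yd31 zd35) (kd xd23 yd30 zd2) (kd xd30 yd14 zd11) (kd xd21 yd3 zd12) (kd xd24 yd15 zd60) (kd xd21 yd3 zd19) (kd xd31 yd36 zd36) (kd xd21 yd3 zd33) (kd xd25 yd23 zd9) (kd xd23 yd18 zd57) (kd xd27 yd3 zd14) (kd xd30 yd50 zd59) (kd xd23 yd49 zd26) (kd xd21 yd3 zd60) (kd xd21 yd3 zd61) (kd xd30 yd18 zd38) (kd xd23 yd42 zd18) (kd xd32 yd48 zd16) (kd xd25 yd16 zd31) (kd xd21 yd4 zd20) (kd xd21 yd4 zd24) (kd xd28 yd26 zd48) (kd xd27 yd34 zd24) (kd xd25 yd3 zd25) (kd xd21 yd4 zd39) (kd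 xd22 yd8 zd57) (kd xd21 yd4 zd45) (kd xd21 yd43 zd55) (kd xd21 yd4 zd48) (kd xd29 yd23 zd33) (kd xd24 yd44 zd41) (kd xd32 yd48 zd18) (kd xd31 yd24 zd38) (kd xd21 yd4 zd58) (kd xd22 yd9 zd4) (kd xd22 yd9 zd5) (kd xd32 yd38 zd48) (kd xd22 yd55 zd6) (kd xd21 yd4 zd61) (kd xd22 yd23 zd2) (kd xd21 yd5 zd3) (kd xd30 yd6 zd48) (kd xd32 yd38 zd11) (kd xd21 yd5 zd11) (kd xd25 yd7 zd15) (kd xd30 yd19 zd28) (kd xd30 yd6 zd11) (kd xd32 yd47 zd11) (kd xd21 yd5 zd16) (kd xd21 yd5 zd20) (kd xd21 yd5 zd22) (kd xd32 yd33 zd51) (kd xd29 yd48 zd32) (kd xd25 yd35 zd26) (kd xd31 yd35 zd7) (kd xd29 yd35 zd28) (kd xd21 yd5 zd28)) (@D3.rec (fun _ => Pt) (kd xd21 yd5 zd37) (kd xd21 yd5 zd38) (kd xd31 yd27 zd14) (kd xd21 yd5 zd45) (kd xd32 yd42 zd28) (kd xd30 yd10 zd56) (kd xd21 yd5 zd47) (kd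 xd24 yd20 zd28) (kd xd31 yd29 zd55) (kd xd30 yd2 zd21) (kd xd21 yd48 zd56) (kd xd29 yd49 zd42) (kd xd21 yd6 zd0) (kd xd21 yd24 zd29) (kd xd21 yd24 zd30) (kd xd24 yd20 zd11) (kd xd28 yd51 zd4) (kd xd24 yd38 zd18) (kd xd23 yd44 zd8) (kd xd32 yd48 zd24) (kd xd21 yd6 zd7) (kd xd23 yd45 zd19) (kd xd22 yd45 zd44) (kd xd28 yd13 zd27) (kd xd23 yd45 zd10) (kd xd32 yd41 zd57) (kd xd29 yd52 zd9) (kd xd21 yd6 zd35) (kd xd21 yd24 zd39) (kd xd26 yd0 zd38) (kd xd23 yd50 zd45) (kd xd31 yd8 zd18) (kd xd27 yd4 zd41) (kd xd23 yd33 zd45) (kd xd31 yd2 zd16) (kd xd30 yd17 zd46) (kd xd30 yd10 zd36) (kd xd26 yd2 zd36) (kd xd23 yd18 zd36) (kd xd31 yd58 zd44) (kd xd32 yd32 zd48) (kd xd21 yd6 zd46) (kd xd21 yd47 zd2) (kd xd29 yd56 zd45) (kd xd21 yd6 zd47) (kd xd31 yd20 zd6) (kd xd21 yd40 zd41)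 (kd xd21 yd6 zd58) (kd xd30 yd12 zd42) (kd xd21 yd18 zd36) (kd xd21 yd18 zd39) (kd xd32 yd14 zd38) (kd xd30 yd12 zd25) (kd xd27 yd30 zd39) (kd xd21 yd49 zd58) (kd xd21 yd7 zd38) (kd xd31 yd10 zd60) (kd xd31 yd11 zd23) (kd xd32 yd5 zd23) (kd xd27 yd9 zd31) (kd xd22 yd37 zd25) (kd xd24 yd18 zd6)) (@D3.rec (fun _ => Pt) (kd xd21 yd8 zd10) (kd xd21 yd8 zd18) (kd xd30 yd8 zd49) (kd xd21 yd8 zd29) (kd xd21 yd8 zd30) (kd xd21 yd34 zd19) (kd xd21 yd8 zd33) (kd xd21 yd8 zd34) (kd xd22 yd45 zd48) (kd xd29 yd51 zd26) (kd xd31 yd56 zd19) (kd xd21 yd8 zd47) (kd xd21 yd8 zd49) (kd xd24 yd23 zd35) (kd xd21 yd17 zd37) (kd xd26 yd34 zd55) (kd xd30 yd40 zd22) (kd xd27 yd23 zd39) (kd xd27 yd23 zd34) (kd xd21 yd8 zd58) (kd xd29 yd29 zd31) (kd xd28 yd16 zd57) (kd xd22 yd14 zd42) (kd xd25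 yd16 zd61) (kd xd31 yd50 zd9) (kd xd32 yd44 zd9) (kd xd28 yd15 zd37) (kd xd28 yd32 zd21) (kd xd25 yd5 zd37) (kd xd21 yd9 zd57) (kd xd26 yd33 zd44) (kd xd21 yd10 zd6) (kd xd21 yd10 zd7) (kd xd21 yd10 zd9) (kd xd21 yd10 zd13) (kd xd22 yd9 zd32) (kd xd27 yd18 zd30) (kd xd29 yd57 zd7) (kd xd27 yd18 zd29) (kd xd27 yd22 zd6) (kd xd31 yd29 zd41) (kd xd22 yd58 zd49) (kd xd21 yd10 zd25) (kd xd32 yd44 zd22) (kd xd21 yd10 zd26) (kd xd21 yd11 zd12) (kd xd21 yd11 zd17) (kd xd23 yd6 zd7) (kd xd26 yd30 zd51) (kd xd27 yd33 zd43) (kd xd31 yd32 zd46) (kd xd27 yd52 zd27) (kd xd26 yd15 zd34) (kd xd26 yd27 zd6) (kd xd23 yd33 zd16) (kd xd25 yd5 zd27) (kd xd23 yd15 zd21) (kd xd29 yd53 zd2) (kd xd23 yd5 zd5) (kd xd27 yd45 zd28) (kd xd27 yd45 zd30) (kd xd28 yd5 zd22)) (@D3.rec (fun _ => Pt)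 (kd xd32 yd8 zd40) (kd xd27 yd53 zd1) (kd xd29 yd52 zd57) (kd xd28 yd7 zd26) (kd xd32 yd44 zd56) (kd xd21 yd10 zd47) (kd xd30 yd45 zd54) (kd xd32 yd28 zd41) (kd xd30 yd47 zd36) (kd xd21 yd10 zd54) (kd xd27 yd47 zd52) (kd xd22 yd27 zd29) (kd xd30 yd54 zd19) (kd xd31 yd42 zd54) (kd xd21 yd10 zd57) (kd xd31 yd42 zd47) (kd xd23 yd19 zd51) (kd xd25 yd59 zd35) (kd xd22 yd56 zd9) (kd xd24 yd59 zd60) (kd xd24 yd12 zd13) (kd xd24 yd12 zd15) (kd xd27 yd33 zd21) (kd xd31 yd38 zd46) (kd xd23 yd12 zd5) (kd xd23 yd31 zd23) (kd xd32 yd11 zd60) (kd xd32 yd48 zd34) (kd xd32 yd9 zd12) (kd xd25 yd56 zd14) (kd xd22 yd1 zd39) (kd xd21 yd11 zd25) (kd xd21 yd11 zd27) (kd xd32 yd48 zd35) (kd xd21 yd11 zd28) (kd xd23 yd56 zd26) (kd xd23 yd57 zd51) (kd xd29 yd1 zd44) (kd xd28 yd50 zd12) (kd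 xd28 yd52 zd12) (kd xd28 yd52 zd23) (kd xd23 yd57 zd52) (kd xd30 yd28 zd52) (kd xd26 yd18 zd44) (kd xd21 yd11 zd42) (kd xd27 yd49 zd14) (kd xd21 yd15 zd4) (kd xd28 yd43 zd35) (kd xd31 yd3 zd46) (kd xd27 yd50 zd56) (kd xd32 yd43 zd47) (kd xd31 yd5 zd22) (kd xd30 yd31 zd55) (kd xd22 yd17 zd26) (kd xd25 yd50 zd57) (kd xd21 yd12 zd4) (kd xd32 yd27 zd40) (kd xd21 yd12 zd5) (kd xd24 yd57 zd52) (kd xd21 yd12 zd9) (kd xd24 yd13 zd21) (kd xd24 yd13 zd23)) (@D3.rec (fun _ => Pt) (kd xd26 yd19 zd45) (kd xd25 yd44 zd9) (kd xd32 yd15 zd53) (kd xd24 yd17 zd35) (kd xd21 yd12 zd26) (kd xd32 yd38 zd42) (kd xd21 yd53 zd43) (kd xd26 yd29 zd46) (kd xd26 yd31 zd26) (kd xd27 yd48 zd43) (kd xd21 yd12 zd41) (kd xd22 yd29 zd30) (kd xd21 yd12 zd42) (kd xd24 yd53 zd46) (kd xd24 yd53 zd47) (kd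 xd27 yd27 zd49) (kd xd27 yd48 zd56) (kd xd31 yd8 zd20) (kd xd21 yd12 zd46) (kd xd21 yd12 zd47) (kd xd31 yd33 zd50) (kd xd29 yd24 zd59) (kd xd21 yd12 zd50) (kd xd32 yd9 zd26) (kd xd31 yd44 zd4) (kd xd29 yd25 zd3) (kd xd27 yd55 zd16) (kd xd22 yd34 zd8) (kd xd21 yd53 zd6) (kd xd21 yd37 zd22) (kd xd31 yd27 zd43) (kd xd26 yd30 zd17) (kd xd24 yd54 zd2) (kd xd27 yd54 zd16) (kd xd21 yd13 zd26) (kd xd23 yd15 zd42) (kd xd31 yd13 zd33) (kd xd29 yd54 zd60) (kd xd26 yd56 zd35) (kd xd26 yd29 zd21) (kd xd21 yd13 zd35) (kd xd21 yd13 zd37) (kd xd21 yd13 zd38) (kd xd21 yd13 zd39) (kd xd22 yd46 zd20) (kd xd26 yd56 zd1) (kd xd23 yd52 zd55) (kd xd21 yd13 zd41) (kd xd31 yd15 zd40) (kd xd28 yd15 zd4) (kd xd30 yd42 zd49) (kd xd23 yd48 zd34) (kd xd23 yd52 zd49) (kd xd21 yd13 zd47) (kd xd32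 yd46 zd22) (kd xd32 yd37 zd6) (kd xd21 yd13 zd49) (kd xd21 yd13 zd53) (kd xd21 yd30 zd15) (kd xd21 yd13 zd55) (kd xd29 yd54 zd37) (kd xd23 yd52 zd52)) (@D3.rec (fun _ => Pt) (kd xd21 yd13 zd58) (kd xd32 yd48 zd44) (kd xd21 yd13 zd60) (kd xd30 yd13 zd59) (kd xd23 yd10 zd59) (kd xd23 yd52 zd51) (kd xd21 yd14 zd3) (kd xd22 yd51 zd19) (kd xd23 yd1 zd12) (kd xd21 yd14 zd10) (kd xd24 yd9 zd9) (kd xd21 yd14 zd20) (kd xd21 yd21 zd47) (kd xd24 yd30 zd29) (kd xd24 yd32 zd36) (kd xd29 yd15 zd25) (kd xd21 yd14 zd26) (kd xd21 yd14 zd29) (kd xd23 yd22 zd59) (kd xd21 yd24 zd18) (kd xd24 yd42 zd25) (kd xd23 yd34 zd56) (kd xd31 yd5 zd21) (kd xd27 yd41 zd8) (kd xd21 yd29 zd27) (kd xd21 yd14 zd50) (kd xd31 yd34 zd43) (kd xd23 yd9 zd12) (kd xd21 yd14 zd49) (kd xd22 yd51 zd52) (kd xd22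 yd22 zd37) (kd xd30 yd22 zd12) (kd xd32 yd41 zd22) (kd xd23 yd19 zd3) (kd xd21 yd15 zd9) (kd xd30 yd46 zd34) (kd xd29 yd28 zd60) (kd xd29 yd30 zd5) (kd xd23 yd15 zd45) (kd xd22 yd30 zd23) (kd xd29 yd29 zd2) (kd xd28 yd25 zd56) (kd xd32 yd46 zd43) (kd xd21 yd15 zd48) (kd xd27 yd16 zd6) (kd xd32 yd11 zd57) (kd xd21 yd15 zd51) (kd xd26 yd23 zd47) (kd xd28 yd46 zd16) (kd xd24 yd8 zd60) (kd xd28 yd48 zd43) (kd xd32 yd45 zd1) (kd xd21 yd15 zd61) (kd xd21 yd16 zd0) (kd xd21 yd16 zd3) (kd xd30 yd20 zd56) (kd xd23 yd42 zd30) (kd xd28 yd18 zd0) (kd xd28 yd18 zd2) (kd xd32 yd23 zd32) (kd xd30 yd16 zd51) (kd xd21 yd16 zd23)) (@D3.rec (fun _ => Pt) (kd xd25 yd54 zd15) (kd xd21 yd16 zd26) (kd xd31 yd46 zd50) (kd xd30 yd59 zd27) (kd xd21 yd16 zd34) (kd xd30 yd59 zd21) (kd xd21 yd16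 zd35) (kd xd27 yd13 zd60) (kd xd27 yd14 zd0) (kd xd26 yd33 zd47) (kd xd27 yd2 zd44) (kd xd24 yd19 zd8) (kd xd21 yd16 zd50) (kd xd21 yd16 zd51) (kd xd21 yd16 zd55) (kd xd32 yd4 zd13) (kd xd28 yd22 zd23) (kd xd24 yd37 zd39) (kd xd29 yd6 zd49) (kd xd21 yd16 zd57) (kd xd21 yd58 zd11) (kd xd29 yd6 zd47) (kd xd21 yd16 zd59) (kd xd25 yd43 zd7) (kd xd21 yd17 zd3) (kd xd21 yd17 zd4) (kd xd21 yd17 zd38) (kd xd32 yd48 zd51) (kd xd23 yd28 zd1) (kd xd23 yd41 zd19) (kd xd21 yd17 zd44) (kd xd29 yd58 zd13) (kd xd32 yd1 zd26) (kd xd21 yd17 zd13) (kd xd25 yd58 zd44) (kd xd21 yd17 zd18) (kd xd29 yd47 zd53) (kd xd29 yd58 zd5) (kd xd24 yd39 zd44) (kd xd21 yd17 zd19) (kd xd31 yd48 zd20) (kd xd21 yd17 zd23) (kd xd21 yd17 zd24) (kd xd21 yd27 zd6) (kd xd21 yd27 zd7) (kd xd29 yd51 zd43) (kd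 xd21 yd17 zd27) (kd xd21 yd17 zd28) (kd xd21 yd27 zd10) (kd xd21 yd19 zd2) (kd xd21 yd17 zd31) (kd xd21 yd56 zd39) (kd xd31 yd26 zd39) (kd xd21 yd56 zd33) (kd xd25 yd27 zd1) (kd xd25 yd30 zd0) (kd xd22 yd10 zd37) (kd xd22 yd10 zd20) (kd xd25 yd38 zd30) (kd xd32 yd0 zd8) (kd xd32 yd0 zd11) (kd xd32 yd48 zd50)) (@D3.rec (fun _ => Pt) (kd xd27 yd4 zd55) (kd xd30 yd32 zd12) (kd xd26 yd45 zd14) (kd xd25 yd30 zd26) (kd xd21 yd19 zd13) (kd xd28 yd48 zd20) (kd xd28 yd14 zd55) (kd xd29 yd52 zd37) (kd xd25 yd14 zd31) (kd xd28 yd30 zd36) (kd xd21 yd17 zd53) (kd xd28 yd42 zd17) (kd xd21 yd17 zd57) (kd xd31 yd10 zd49) (kd xd32 yd48 zd55) (kd xd21 yd17 zd58) (kd xd21 yd27 zd25) (kd xd21 yd27 zd26) (kd xd21 yd56 zd44) (kd xd25 yd49 zd25) (kd xd21 yd18 zd1) (kd xd21 yd56 zd43) (kd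 xd27 yd23 zd29) (kd xd21 yd18 zd3) (kd xd31 yd55 zd16) (kd xd30 yd24 zd1) (kd xd28 yd10 zd30) (kd xd21 yd18 zd9) (kd xd30 yd10 zd16) (kd xd30 yd10 zd17) (kd xd32 yd48 zd58) (kd xd21 yd18 zd11) (kd xd30 yd13 zd54) (kd xd30 yd13 zd52) (kd xd21 yd18 zd13) (kd xd32 yd24 zd33) (kd xd31 yd6 zd6) (kd xd32 yd6 zd32) (kd xd21 yd18 zd15) (kd xd21 yd34 zd16) (kd xd27 yd1 zd38) (kd xd24 yd10 zd46) (kd xd21 yd46 zd43) (kd xd21 yd18 zd24) (kd xd21 yd24 zd23) (kd xd21 yd24 zd24) (kd xd24 yd21 zd17) (kd xd26 yd47 zd54) (kd xd26 yd6 zd34) (kd xd25 yd3 zd5) (kd xd21 yd18 zd29) (kd xd32 yd4 zd36) (kd xd21 yd18 zd30) (kd xd21 yd18 zd31) (kd xd27 yd4 zd25) (kd xd24 yd36 zd3) (kd xd24 yd36 zd2) (kd xd24 yd41 zd48) (kd xd30 yd9 zd36) (kd xd25 yd44 zd59) (kd xd25 yd28 zd20) (kd xd21 yd18 zd56))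 (@D3.rec (fun _ => Pt) (kd xd32 yd48 zd56) (kd xd32 yd43 zd18) (kd xd21 yd19 zd3) (kd xd21 yd19 zd4) (kd xd21 yd19 zd14) (kd xd29 yd56 zd37) (kd xd30 yd17 zd41) (kd xd23 yd59 zd41) (kd xd21 yd19 zd8) (kd xd21 yd19 zd9) (kd xd30 yd44 zd2) (kd xd22 yd15 zd60) (kd xd21 yd19 zd15) (kd xd29 yd56 zd31) (kd xd22 yd35 zd21) (kd xd29 yd26 zd54) (kd xd22 yd38 zd19) (kd xd30 yd7 zd60) (kd xd21 yd19 zd19) (kd xd22 yd45 zd50) (kd xd31 yd55 zd1) (kd xd21 yd19 zd21) (kd xd22 yd45 zd51) (kd xd24 yd35 zd47) (kd xd21 yd19 zd23) (kd xd27 yd4 zd30) (kd xd23 yd59 zd29) (kd xd25 yd38 zd40) (kd xd21 yd34 zd14) (kd xd30 yd41 zd17) (kd xd32 yd49 zd8) (kd xd30 yd10 zd51) (kd xd26 yd1 zd45) (kd xd32 yd49 zd9) (kd xd31 yd2 zd14) (kd xd32 yd49 zd10) (kd xd21 yd19 zd41) (kd xd21 yd24 zd46) (kd xd21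 yd24 zd47) (kd xd22 yd28 zd14) (kd xd27 yd59 zd19) (kd xd28 yd1 zd42) (kd xd21 yd19 zd49) (kd xd22 yd28 zd15) (kd xd24 yd35 zd32) (kd xd21 yd19 zd51) (kd xd27 yd21 zd56) (kd xd21 yd20 zd0) (kd xd21 yd33 zd45) (kd xd21 yd33 zd46) (kd xd30 yd31 zd47) (kd xd21 yd25 zd45) (kd xd21 yd45 zd21) (kd xd25 yd20 zd2) (kd xd32 yd30 zd60) (kd xd21 yd20 zd36) (kd xd31 yd28 zd51) (kd xd25 yd51 zd13) (kd xd26 yd41 zd5) (kd xd29 yd27 zd36) (kd xd21 yd48 zd1) (kd xd32 yd22 zd13)) (@D3.rec (fun _ => Pt) (kd xd27 yd10 zd56) (kd xd31 yd56 zd7) (kd xd28 yd59 zd48) (kd xd27 yd44 zd9) (kd xd27 yd30 zd13) (kd xd30 yd23 zd52) (kd xd21 yd21 zd13) (kd xd21 yd45 zd2) (kd xd32 yd21 zd38) (kd xd23 yd8 zd20) (kd xd25 yd55 zd18) (kd xd24 yd34 zd55) (kd xd31 yd36 zd27) (kd xd21 yd21 zd24) (kd xd32 yd2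 zd42) (kd xd21 yd21 zd27) (kd xd21 yd27 zd21) (kd xd21 yd21 zd30) (kd xd32 yd49 zd14) (kd xd21 yd21 zd32) (kd xd21 yd21 zd33) (kd xd32 yd2 zd59) (kd xd30 yd41 zd59) (kd xd21 yd21 zd34) (kd xd23 yd9 zd49) (kd xd30 yd54 zd23) (kd xd21 yd22 zd31) (kd xd21 yd21 zd41) (kd xd27 yd12 zd51) (kd xd21 yd21 zd43) (kd xd30 yd2 zd13) (kd xd23 yd29 zd57) (kd xd30 yd57 zd10) (kd xd21 yd21 zd52) (kd xd21 yd34 zd38) (kd xd27 yd30 zd10) (kd xd31 yd10 zd13) (kd xd31 yd4 zd39) (kd xd21 yd34 zd41) (kd xd25 yd9 zd59) (kd xd30 yd7 zd59) (kd xd32 yd35 zd44) (kd xd29 yd17 zd16) (kd xd25 yd41 zd4) (kd xd21 yd22 zd20) (kd xd21 yd22 zd21) (kd xd24 yd16 zd29) (kd xd30 yd10 zd30) (kd xd31 yd3 zd34) (kd xd31 yd3 zd41) (kd xd27 yd19 zd49) (kd xd21 yd40 zd34) (kd xd27 yd30 zd23) (kd xd21 yd58 zd30)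 (kd xd21 yd22 zd56) (kd xd21 yd23 zd25) (kd xd21 yd22 zd61) (kd xd21 yd57 zd17) (kd xd21 yd23 zd8) (kd xd27 yd30 zd33) (kd xd24 yd35 zd41) (kd xd21 yd23 zd33))
def f_d_30 : D2 → D3 → Pt := @D2.rec (fun _ => D3 → Pt) (@D3.rec (fun _ => Pt) (kd xd21 yd23 zd34) (kd xd32 yd45 zd19) (kd xd25 yd31 zd36) (kd xd24 yd51 zd45) (kd xd25 yd19 zd49) (kd xd21 yd23 zd41) (kd xd28 yd41 zd20) (kd xd31 yd41 zd2) (kd xd21 yd23 zd57) (kd xd32 yd15 zd32) (kd xd31 yd50 zd60) (kd xd31 yd49 zd50) (kd xd21 yd24 zd9) (kd xd25 yd10 zd29) (kd xd24 yd50 zd61) (kd xd31 yd51 zd47) (kd xd32 yd13 zd8) (kd xd27 yd7 zd28) (kd xd28 yd3 zd6) (kd xd31 yd8 zd33) (kd xd21 yd24 zd20) (kd xd30 yd42 zd48) (kd xd28 yd28 zd27) (kd xd31 yd12 zd17) (kd xd26 yd8 zd45) (kd xd21 yd24 zd25) (kd xd21 yd34 zd20) (kd xd32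 yd3 zd12) (kd xd21 yd24 zd27) (kd xd32 yd42 zd58) (kd xd30 yd52 zd0) (kd xd32 yd23 zd42) (kd xd25 yd2 zd12) (kd xd32 yd49 zd6) (kd xd21 yd24 zd34) (kd xd21 yd25 zd26) (kd xd26 yd9 zd42) (kd xd21 yd24 zd38) (kd xd21 yd34 zd12) (kd xd21 yd34 zd13) (kd xd27 yd4 zd27) (kd xd32 yd28 zd15) (kd xd30 yd31 zd37) (kd xd28 yd43 zd46) (kd xd21 yd24 zd41) (kd xd32 yd5 zd1) (kd xd31 yd49 zd35) (kd xd29 yd6 zd22) (kd xd21 yd24 zd50) (kd xd30 yd17 zd53) (kd xd21 yd24 zd51) (kd xd28 yd2 zd2) (kd xd30 yd42 zd34) (kd xd25 yd28 zd55) (kd xd21 yd25 zd12) (kd xd30 yd59 zd56) (kd xd26 yd11 zd53) (kd xd31 yd57 zd52) (kd xd32 yd6 zd49) (kd xd27 yd28 zd41) (kd xd21 yd33 zd50) (kd xd21 yd33 zd51)) (@D3.rec (fun _ => Pt) (kd xd27 yd28 zd24) (kd xd21 yd25 zd19) (kd xd23 yd40 zd11) (kd xd22 yd43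 zd1) (kd xd31 yd44 zd53) (kd xd26 yd14 zd51) (kd xd28 yd21 zd9) (kd xd22 yd39 zd4) (kd xd23 yd42 zd36) (kd xd32 yd7 zd17) (kd xd25 yd1 zd1) (kd xd27 yd31 zd48) (kd xd27 yd28 zd38) (kd xd24 yd44 zd13) (kd xd27 yd26 zd3) (kd xd32 yd24 zd55) (kd xd21 yd26 zd13) (kd xd27 yd31 zd43) (kd xd24 yd44 zd14) (kd xd21 yd26 zd16) (kd xd28 yd27 zd34) (kd xd21 yd26 zd22) (kd xd30 yd41 zd4) (kd xd29 yd39 zd36) (kd xd28 yd7 zd1) (kd xd32 yd5 zd29) (kd xd25 yd28 zd32) (kd xd23 yd45 zd17) (kd xd23 yd45 zd18) (kd xd21 yd27 zd3) (kd xd28 yd19 zd24) (kd xd21 yd27 zd59) (kd xd29 yd48 zd43) (kd xd28 yd59 zd25) (kd xd27 yd4 zd53) (kd xd27 yd43 zd60) (kd xd27 yd43 zd59) (kd xd28 yd19 zd20) (kd xd25 yd59 zd3) (kd xd32 yd49 zd2) (kd xd21 yd27 zd27) (kd xd30 yd26 zd8) (kd xd21 yd27 zd29) (kd xd21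 yd27 zd30) (kd xd21 yd27 zd31) (kd xd32 yd49 zd28) (kd xd21 yd27 zd33) (kd xd30 yd43 zd54) (kd xd30 yd23 zd51) (kd xd31 yd52 zd39) (kd xd32 yd49 zd29) (kd xd26 yd25 zd34) (kd xd23 yd21 zd11) (kd xd26 yd2 zd56) (kd xd30 yd2 zd20) (kd xd21 yd27 zd48) (kd xd28 yd4 zd7) (kd xd32 yd49 zd30) (kd xd31 yd6 zd5) (kd xd21 yd27 zd52) (kd xd23 yd2 zd14) (kd xd31 yd2 zd8)) (@D3.rec (fun _ => Pt) (kd xd21 yd27 zd60) (kd xd31 yd59 zd2) (kd xd21 yd27 zd61) (kd xd31 yd2 zd29) (kd xd21 yd28 zd2) (kd xd22 yd16 zd54) (kd xd23 yd14 zd57) (kd xd23 yd14 zd1) (kd xd21 yd28 zd4) (kd xd30 yd2 zd15) (kd xd30 yd2 zd12) (kd xd29 yd6 zd28) (kd xd30 yd2 zd10) (kd xd29 yd59 zd30) (kd xd26 yd1 zd11) (kd xd30 yd2 zd9) (kd xd22 yd30 zd12) (kd xd30 yd2 zd23) (kd xd30 yd58 zd56) (kd xd21 yd28 zd11) (kd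 xd30 yd1 zd54) (kd xd29 yd51 zd9) (kd xd24 yd56 zd50) (kd xd30 yd2 zd17) (kd xd21 yd28 zd17) (kd xd30 yd20 zd9) (kd xd29 yd17 zd38) (kd xd31 yd14 zd48) (kd xd26 yd15 zd51) (kd xd32 yd4 zd49) (kd xd32 yd32 zd49) (kd xd21 yd28 zd25) (kd xd29 yd48 zd58) (kd xd27 yd39 zd5) (kd xd31 yd19 zd17) (kd xd32 yd9 zd13) (kd xd22 yd52 zd8) (kd xd28 yd9 zd38) (kd xd21 yd28 zd61) (kd xd23 yd20 zd10) (kd xd21 yd29 zd9) (kd xd28 yd17 zd39) (kd xd21 yd29 zd14) (kd xd24 yd17 zd40) (kd xd30 yd10 zd59) (kd xd21 yd29 zd15) (kd xd21 yd29 zd16) (kd xd26 yd22 zd39) (kd xd31 yd7 zd5) (kd xd26 yd25 zd2) (kd xd23 yd43 zd13) (kd xd31 yd2 zd49) (kd xd30 yd4 zd27) (kd xd24 yd54 zd30) (kd xd31 yd44 zd36) (kd xd21 yd29 zd30) (kd xd21 yd29 zd32) (kd xd21 yd29 zd36) (kd xd23 yd31 zd12) (kd xd21 yd29 zd39)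 (kd xd28 yd12 zd30) (kd xd27 yd5 zd20)) (@D3.rec (fun _ => Pt) (kd xd23 yd42 zd12) (kd xd21 yd34 zd22) (kd xd27 yd3 zd22) (kd xd21 yd29 zd46) (kd xd31 yd7 zd7) (kd xd29 yd5 zd7) (kd xd21 yd29 zd54) (kd xd32 yd49 zd35) (kd xd32 yd49 zd36) (kd xd32 yd49 zd37) (kd xd21 yd29 zd58) (kd xd29 yd5 zd8) (kd xd21 yd29 zd61) (kd xd32 yd32 zd46) (kd xd25 yd39 zd34) (kd xd21 yd30 zd1) (kd xd21 yd30 zd7) (kd xd21 yd30 zd9) (kd xd28 yd45 zd8) (kd xd27 yd0 zd49) (kd xd31 yd41 zd10) (kd xd21 yd30 zd41) (kd xd21 yd30 zd46) (kd xd27 yd39 zd6) (kd xd21 yd30 zd57) (kd xd27 yd31 zd2) (kd xd27 yd4 zd3) (kd xd32 yd44 zd18) (kd xd25 yd57 zd32) (kd xd27 yd48 zd55) (kd xd26 yd20 zd48) (kd xd24 yd54 zd42) (kd xd32 yd30 zd47) (kd xd21 yd31 zd30) (kd xd21 yd31 zd31) (kd xd27 yd40 zd49) (kd xd30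 yd26 zd24) (kd xd30 yd13 zd35) (kd xd21 yd41 zd60) (kd xd21 yd31 zd40) (kd xd26 yd10 zd59) (kd xd21 yd31 zd45) (kd xd22 yd8 zd23) (kd xd31 yd37 zd22) (kd xd21 yd31 zd48) (kd xd26 yd11 zd27) (kd xd27 yd5 zd51) (kd xd21 yd31 zd54) (kd xd28 yd13 zd54) (kd xd29 yd24 zd37) (kd xd31 yd20 zd9) (kd xd21 yd33 zd32) (kd xd25 yd24 zd50) (kd xd32 yd41 zd25) (kd xd26 yd13 zd0) (kd xd21 yd32 zd18) (kd xd24 yd22 zd39) (kd xd22 yd17 zd2) (kd xd22 yd17 zd3) (kd xd21 yd32 zd29) (kd xd32 yd8 zd11) (kd xd21 yd32 zd32)) (@D3.rec (fun _ => Pt) (kd xd21 yd32 zd50) (kd xd27 yd5 zd45) (kd xd27 yd5 zd46) (kd xd21 yd32 zd61) (kd xd21 yd33 zd2) (kd xd29 yd30 zd58) (kd xd31 yd29 zd5) (kd xd21 yd33 zd5) (kd xd25 yd50 zd56) (kd xd32 yd14 zd37) (kd xd24 yd1 zd28) (kd xd27 yd1 zd26) (kd xd23 yd44 zd61)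 (kd xd32 yd49 zd44) (kd xd28 yd12 zd4) (kd xd28 yd3 zd9) (kd xd28 yd21 zd10) (kd xd27 yd30 zd36) (kd xd31 yd55 zd50) (kd xd23 yd40 zd18) (kd xd22 yd9 zd3) (kd xd23 yd43 zd29) (kd xd25 yd3 zd16) (kd xd21 yd36 zd3) (kd xd25 yd29 zd43) (kd xd23 yd32 zd44) (kd xd29 yd17 zd8) (kd xd30 yd2 zd52) (kd xd31 yd37 zd1) (kd xd21 yd34 zd17) (kd xd27 yd17 zd43) (kd xd32 yd4 zd31) (kd xd31 yd18 zd24) (kd xd31 yd29 zd13) (kd xd24 yd29 zd14) (kd xd29 yd39 zd39) (kd xd29 yd13 zd50) (kd xd28 yd49 zd43) (kd xd21 yd40 zd18) (kd xd21 yd55 zd30) (kd xd21 yd55 zd31) (kd xd23 yd38 zd51) (kd xd30 yd37 zd11) (kd xd21 yd34 zd31) (kd xd22 yd28 zd2) (kd xd21 yd34 zd34) (kd xd22 yd28 zd1) (kd xd32 yd49 zd16) (kd xd23 yd28 zd40) (kd xd23 yd28 zd41) (kd xd31 yd9 zd45) (kd xd21 yd49 zd2) (kd xd21 yd34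 zd39) (kd xd30 yd12 zd59) (kd xd22 yd42 zd54) (kd xd21 yd34 zd40) (kd xd32 yd42 zd56) (kd xd21 yd34 zd42) (kd xd21 yd48 zd4) (kd xd32 yd31 zd15) (kd xd29 yd8 zd50) (kd xd30 yd9 zd25)) (@D3.rec (fun _ => Pt) (kd xd32 yd32 zd14) (kd xd32 yd27 zd46) (kd xd29 yd26 zd55) (kd xd21 yd35 zd22) (kd xd24 yd1 zd51) (kd xd32 yd19 zd30) (kd xd30 yd15 zd17) (kd xd30 yd15 zd16) (kd xd22 yd1 zd25) (kd xd27 yd54 zd17) (kd xd21 yd48 zd51) (kd xd27 yd54 zd21) (kd xd29 yd41 zd0) (kd xd30 yd14 zd9) (kd xd26 yd14 zd20) (kd xd27 yd48 zd21) (kd xd25 yd57 zd5) (kd xd29 yd4 zd32) (kd xd21 yd54 zd50) (kd xd21 yd36 zd26) (kd xd24 yd21 zd57) (kd xd29 yd13 zd22) (kd xd30 yd18 zd7) (kd xd28 yd30 zd37) (kd xd31 yd8 zd31) (kd xd21 yd37 zd10) (kd xd23 yd22 zd18) (kd xd23 yd35 zd48) (kd xd22 yd36 zd25)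 (kd xd21 yd58 zd24) (kd xd21 yd37 zd38) (kd xd27 yd13 zd27) (kd xd21 yd37 zd54) (kd xd31 yd3 zd9) (kd xd23 yd34 zd32) (kd xd21 yd38 zd10) (kd xd23 yd45 zd47) (kd xd21 yd38 zd26) (kd xd32 yd49 zd56) (kd xd26 yd42 zd58) (kd xd27 yd10 zd5) (kd xd22 yd35 zd40) (kd xd30 yd6 zd1) (kd xd32 yd50 zd0) (kd xd28 yd22 zd27) (kd xd28 yd21 zd23) (kd xd27 yd16 zd61) (kd xd31 yd52 zd15) (kd xd32 yd20 zd51) (kd xd32 yd50 zd2) (kd xd21 yd38 zd36) (kd xd32 yd41 zd51) (kd xd27 yd7 zd0) (kd xd29 yd48 zd21) (kd xd27 yd54 zd6) (kd xd28 yd52 zd3) (kd xd28 yd52 zd5) (kd xd30 yd19 zd10) (kd xd28 yd52 zd7) (kd xd24 yd17 zd11) (kd xd24 yd17 zd12) (kd xd31 yd13 zd13)) (@D3.rec (fun _ => Pt) (kd xd21 yd42 zd10) (kd xd30 yd5 zd42) (kd xd31 yd36 zd12) (kd xd29 yd22 zd54) (kd xd30 yd10 zd24) (kd xd30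 yd10 zd25) (kd xd21 yd39 zd0) (kd xd21 yd39 zd5) (kd xd22 yd52 zd57) (kd xd21 yd39 zd2) (kd xd21 yd39 zd3) (kd xd29 yd50 zd51) (kd xd24 yd49 zd12) (kd xd30 yd53 zd41) (kd xd30 yd6 zd15) (kd xd30 yd6 zd14) (kd xd30 yd6 zd61) (kd xd24 yd25 zd46) (kd xd22 yd8 zd5) (kd xd28 yd58 zd13) (kd xd21 yd39 zd14) (kd xd25 yd31 zd18) (kd xd28 yd58 zd15) (kd xd32 yd19 zd60) (kd xd21 yd39 zd17) (kd xd21 yd39 zd18) (kd xd30 yd43 zd33) (kd xd21 yd39 zd28) (kd xd32 yd50 zd9) (kd xd28 yd42 zd16) (kd xd27 yd8 zd11) (kd xd28 yd3 zd44) (kd xd30 yd24 zd28) (kd xd21 yd39 zd35) (kd xd27 yd26 zd12) (kd xd27 yd26 zd11) (kd xd29 yd0 zd22) (kd xd21 yd39 zd38) (kd xd24 yd27 zd29) (kd xd25 yd7 zd33) (kd xd29 yd49 zd23) (kd xd25 yd48 zd36) (kd xd26 yd6 zd52) (kd xd22 yd9 zd29) (kd xd23 yd8 zd30) (kd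 xd24 yd30 zd43) (kd xd32 yd50 zd10) (kd xd25 yd26 zd15) (kd xd29 yd50 zd46) (kd xd32 yd50 zd11) (kd xd29 yd34 zd54) (kd xd25 yd56 zd6) (kd xd24 yd9 zd51) (kd xd21 yd40 zd2) (kd xd31 yd40 zd0) (kd xd30 yd31 zd52) (kd xd22 yd0 zd29) (kd xd27 yd57 zd39) (kd xd26 yd48 zd44) (kd xd26 yd52 zd34) (kd xd24 yd25 zd50) (kd xd30 yd6 zd16)) (@D3.rec (fun _ => Pt) (kd xd22 yd22 zd58) (kd xd27 yd13 zd41) (kd xd24 yd17 zd7) (kd xd32 yd50 zd16) (kd xd24 yd34 zd9) (kd xd21 yd40 zd35) (kd xd21 yd40 zd36) (kd xd31 yd50 zd39) (kd xd29 yd14 zd9) (kd xd27 yd50 zd30) (kd xd21 yd44 zd30) (kd xd28 yd57 zd3) (kd xd21 yd57 zd8) (kd xd26 yd41 zd39) (kd xd24 yd9 zd50) (kd xd21 yd40 zd54) (kd xd21 yd40 zd57) (kd xd30 yd58 zd33) (kd xd32 yd50 zd17) (kd xd32 yd49 zd50) (kd xd32 yd50 zd19) (kd xd22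 yd39 zd2) (kd xd23 yd14 zd19) (kd xd23 yd14 zd20) (kd xd30 yd59 zd44) (kd xd21 yd41 zd18) (kd xd25 yd36 zd37) (kd xd21 yd41 zd12) (kd xd21 yd41 zd13) (kd xd24 yd27 zd33) (kd xd21 yd41 zd21) (kd xd30 yd11 zd42) (kd xd23 yd35 zd34) (kd xd21 yd41 zd26) (kd xd21 yd41 zd35) (kd xd21 yd41 zd37) (kd xd21 yd41 zd40) (kd xd28 yd1 zd16) (kd xd21 yd42 zd25) (kd xd21 yd42 zd26) (kd xd24 yd33 zd8) (kd xd31 yd34 zd20) (kd xd31 yd37 zd18) (kd xd30 yd8 zd53) (kd xd21 yd43 zd1) (kd xd26 yd8 zd51) (kd xd30 yd13 zd7) (kd xd25 yd11 zd8) (kd xd23 yd56 zd48) (kd xd31 yd21 zd6) (kd xd32 yd50 zd25) (kd xd21 yd43 zd19) (kd xd27 yd4 zd61) (kd xd29 yd3 zd51) (kd xd27 yd4 zd16) (kd xd27 yd3 zd53) (kd xd21 yd43 zd24) (kd xd25 yd39 zd31) (kd xd24 yd20 zd56) (kd xd29 yd59 zd40) (kd xd29 yd58 zd17)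 (kd xd25 yd57 zd51)) (@D3.rec (fun _ => Pt) (kd xd21 yd55 zd53) (kd xd31 yd24 zd13) (kd xd32 yd50 zd26) (kd xd21 yd43 zd43) (kd xd29 yd17 zd12) (kd xd24 yd3 zd18) (kd xd31 yd58 zd21) (kd xd31 yd4 zd0) (kd xd21 yd43 zd50) (kd xd31 yd26 zd26) (kd xd32 yd48 zd26) (kd xd26 yd40 zd18) (kd xd31 yd14 zd24) (kd xd29 yd13 zd44) (kd xd21 yd44 zd25) (kd xd24 yd21 zd52) (kd xd29 yd32 zd9) (kd xd31 yd29 zd29) (kd xd21 yd55 zd11) (kd xd21 yd47 zd34) (kd xd22 yd3 zd28) (kd xd31 yd18 zd28) (kd xd21 yd49 zd5) (kd xd21 yd45 zd13) (kd xd21 yd45 zd15) (kd xd24 yd41 zd27) (kd xd21 yd45 zd23) (kd xd29 yd38 zd13) (kd xd23 yd35 zd23) (kd xd21 yd45 zd31) (kd xd29 yd15 zd61) (kd xd21 yd45 zd36) (kd xd21 yd45 zd39) (kd xd29 yd22 zd37) (kd xd31 yd56 zd37) (kd xd31 yd27 zd17) (kd xd21 yd46 zd2)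 (kd xd29 yd27 zd14) (kd xd32 yd45 zd21) (kd xd21 yd46 zd8) (kd xd22 yd3 zd24) (kd xd24 yd5 zd19) (kd xd21 yd50 zd8) (kd xd30 yd19 zd30) (kd xd32 yd6 zd18) (kd xd21 yd46 zd16) (kd xd25 yd57 zd10) (kd xd31 yd48 zd44) (kd xd21 yd46 zd39) (kd xd29 yd52 zd2) (kd xd31 yd35 zd23) (kd xd30 yd14 zd29) (kd xd30 yd32 zd40) (kd xd30 yd7 zd43) (kd xd28 yd10 zd4) (kd xd27 yd24 zd56) (kd xd23 yd34 zd42) (kd xd21 yd53 zd50) (kd xd22 yd6 zd18) (kd xd32 yd48 zd25) (kd xd24 yd23 zd4) (kd xd23 yd58 zd54)) (@D3.rec (fun _ => Pt) (kd xd24 yd20 zd27) (kd xd29 yd13 zd39) (kd xd26 yd11 zd18) (kd xd29 yd36 zd59) (kd xd21 yd58 zd61) (kd xd26 yd5 zd56) (kd xd30 yd38 zd30) (kd xd30 yd30 zd38) (kd xd29 yd36 zd37) (kd xd32 yd37 zd5) (kd xd21 yd47 zd38) (kd xd21 yd47 zd39) (kd xd24 yd41 zd36) (kd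 xd21 yd47 zd44) (kd xd31 yd24 zd17) (kd xd21 yd47 zd51) (kd xd25 yd58 zd11) (kd xd26 yd5 zd2) (kd xd21 yd47 zd56) (kd xd32 yd34 zd20) (kd xd30 yd55 zd18) (kd xd30 yd46 zd15) (kd xd29 yd23 zd18) (kd xd23 yd56 zd50) (kd xd29 yd0 zd7) (kd xd30 yd4 zd61) (kd xd28 yd51 zd14) (kd xd32 yd11 zd29) (kd xd32 yd50 zd30) (kd xd21 yd48 zd8) (kd xd21 yd48 zd13) (kd xd21 yd48 zd14) (kd xd21 yd48 zd15) (kd xd28 yd17 zd18) (kd xd21 yd48 zd17) (kd xd22 yd47 zd11) (kd xd29 yd57 zd58) (kd xd30 yd29 zd8) (kd xd21 yd48 zd23) (kd xd29 yd4 zd58) (kd xd29 yd4 zd52) (kd xd21 yd48 zd25) (kd xd29 yd3 zd32) (kd xd21 yd48 zd27) (kd xd23 yd28 zd22) (kd xd31 yd9 zd22) (kd xd29 yd4 zd38) (kd xd21 yd48 zd32) (kd xd27 yd42 zd30) (kd xd24 yd34 zd57) (kd xd27 yd18 zd42) (kd xd31 yd47 zd23) (kd xd31 yd53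 zd7) (kd xd25 yd56 zd27) (kd xd21 yd48 zd36) (kd xd30 yd47 zd12) (kd xd30 yd53 zd54) (kd xd31 yd3 zd27) (kd xd23 yd39 zd0) (kd xd29 yd5 zd19) (kd xd21 yd48 zd41) (kd xd31 yd49 zd32)) (@D3.rec (fun _ => Pt) (kd xd31 yd49 zd31) (kd xd28 yd56 zd40) (kd xd21 yd48 zd48) (kd xd23 yd9 zd53) (kd xd28 yd58 zd12) (kd xd28 yd48 zd13) (kd xd25 yd5 zd23) (kd xd21 yd48 zd47) (kd xd21 yd48 zd49) (kd xd23 yd13 zd58) (kd xd31 yd9 zd34) (kd xd31 yd11 zd25) (kd xd32 yd32 zd20) (kd xd29 yd41 zd31) (kd xd21 yd48 zd57) (kd xd21 yd48 zd58) (kd xd29 yd57 zd28) (kd xd29 yd57 zd29) (kd xd27 yd20 zd42) (kd xd27 yd58 zd12) (kd xd24 yd22 zd10) (kd xd23 yd12 zd46) (kd xd31 yd26 zd36) (kd xd21 yd49 zd3) (kd xd30 yd6 zd4) (kd xd30 yd6 zd5) (kd xd30 yd37 zd5) (kd xd31 yd28 zd50) (kd xd24 yd27 zd6)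 (kd xd21 yd49 zd11) (kd xd29 yd59 zd47) (kd xd29 yd49 zd57) (kd xd28 yd11 zd43) (kd xd24 yd20 zd52) (kd xd21 yd49 zd16) (kd xd25 yd40 zd34) (kd xd29 yd51 zd36) (kd xd25 yd42 zd44) (kd xd28 yd37 zd21) (kd xd25 yd39 zd6) (kd xd25 yd41 zd48) (kd xd28 yd37 zd24) (kd xd25 yd41 zd51) (kd xd28 yd37 zd31) (kd xd28 yd19 zd23) (kd xd30 yd32 zd59) (kd xd23 yd21 zd41) (kd xd29 yd30 zd0) (kd xd22 yd43 zd36) (kd xd30 yd41 zd15) (kd xd30 yd41 zd14) (kd xd29 yd58 zd31) (kd xd30 yd19 zd44) (kd xd24 yd41 zd49) (kd xd31 yd47 zd42) (kd xd28 yd57 zd39) (kd xd29 yd51 zd5) (kd xd24 yd22 zd13) (kd xd23 yd26 zd33) (kd xd30 yd2 zd44) (kd xd30 yd37 zd19) (kd xd24 yd6 zd13)) (@D3.rec (fun _ => Pt) (kd xd23 yd52 zd15) (kd xd21 yd49 zd47) (kd xd21 yd58 zd39) (kd xd21 yd49 zd50) (kd xd21 yd50 zd2)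 (kd xd27 yd11 zd5) (kd xd32 yd5 zd26) (kd xd27 yd11 zd9) (kd xd26 yd14 zd8) (kd xd21 yd59 zd34) (kd xd27 yd23 zd36) (kd xd30 yd18 zd3) (kd xd21 yd50 zd13) (kd xd26 yd15 zd45) (kd xd31 yd34 zd49) (kd xd24 yd2 zd29) (kd xd24 yd2 zd53) (kd xd25 yd25 zd44) (kd xd31 yd4 zd22) (kd xd23 yd39 zd18) (kd xd21 yd50 zd29) (kd xd30 yd51 zd30) (kd xd29 yd15 zd45) (kd xd23 yd30 zd12) (kd xd26 yd46 zd57) (kd xd24 yd15 zd13) (kd xd24 yd16 zd56) (kd xd26 yd5 zd49) (kd xd28 yd31 zd17) (kd xd26 yd58 zd55) (kd xd26 yd58 zd57) (kd xd28 yd11 zd6) (kd xd22 yd20 zd7) (kd xd28 yd11 zd22) (kd xd32 yd0 zd27) (kd xd21 yd52 zd13) (kd xd27 yd26 zd27) (kd xd24 yd9 zd3) (kd xd27 yd59 zd49) (kd xd31 yd13 zd25) (kd xd29 yd35 zd40) (kd xd32 yd45 zd0) (kd xd30 yd7 zd31) (kd xd28 yd21 zd27) (kd xd28 yd50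 zd60) (kd xd21 yd52 zd34) (kd xd27 yd14 zd61) (kd xd23 yd57 zd18) (kd xd24 yd39 zd6) (kd xd28 yd43 zd27) (kd xd30 yd44 zd55) (kd xd28 yd16 zd15) (kd xd27 yd47 zd9) (kd xd22 yd35 zd18) (kd xd23 yd47 zd6) (kd xd30 yd36 zd61) (kd xd30 yd36 zd57) (kd xd30 yd35 zd46) (kd xd30 yd35 zd29) (kd xd21 yd52 zd52) (kd xd22 yd46 zd35) (kd xd30 yd26 zd6)) (@D3.rec (fun _ => Pt) (kd xd23 yd49 zd36) (kd xd31 yd9 zd2) (kd xd28 yd46 zd0) (kd xd26 yd57 zd15) (kd xd28 yd52 zd34) (kd xd25 yd58 zd28) (kd xd23 yd48 zd28) (kd xd21 yd53 zd13) (kd xd21 yd53 zd15) (kd xd32 yd41 zd38) (kd xd21 yd53 zd16) (kd xd28 yd50 zd20) (kd xd22 yd57 zd26) (kd xd21 yd53 zd33) (kd xd21 yd53 zd36) (kd xd32 yd5 zd41) (kd xd25 yd16 zd22) (kd xd28 yd35 zd45) (kd xd30 yd13 zd22) (kd xd27 yd14 zd20) (kd xd27 yd14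 zd22) (kd xd31 yd50 zd28) (kd xd28 yd10 zd17) (kd xd21 yd54 zd8) (kd xd32 yd50 zd41) (kd xd29 yd51 zd52) (kd xd32 yd50 zd42) (kd xd21 yd54 zd14) (kd xd31 yd33 zd22) (kd xd30 yd18 zd49) (kd xd21 yd54 zd22) (kd xd21 yd54 zd28) (kd xd26 yd41 zd1) (kd xd23 yd36 zd21) (kd xd21 yd54 zd39) (kd xd30 yd18 zd16) (kd xd23 yd47 zd7) (kd xd24 yd33 zd16) (kd xd23 yd22 zd57) (kd xd22 yd8 zd33) (kd xd21 yd55 zd9) (kd xd30 yd54 zd24) (kd xd29 yd51 zd48) (kd xd32 yd35 zd13) (kd xd25 yd59 zd8) (kd xd31 yd28 zd6) (kd xd30 yd59 zd30) (kd xd30 yd58 zd13) (kd xd26 yd18 zd13) (kd xd27 yd31 zd29) (kd xd25 yd38 zd23) (kd xd23 yd34 zd61) (kd xd23 yd58 zd25) (kd xd23 yd57 zd60) (kd xd29 yd7 zd29) (kd xd32 yd49 zd47) (kd xd32 yd49 zd48) (kd xd32 yd19 zd50) (kd xd32 yd30 zd42) (kd xd30 yd4 zd53)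 (kd xd32 yd6 zd31) (kd xd21 yd55 zd42)) (@D3.rec (fun _ => Pt) (kd xd30 yd59 zd25) (kd xd32 yd1 zd27) (kd xd21 yd55 zd45) (kd xd23 yd39 zd25) (kd xd32 yd19 zd51) (kd xd31 yd10 zd28) (kd xd27 yd18 zd10) (kd xd30 yd7 zd46) (kd xd21 yd55 zd52) (kd xd32 yd27 zd51) (kd xd30 yd47 zd35) (kd xd31 yd47 zd37) (kd xd21 yd55 zd56) (kd xd32 yd50 zd43) (kd xd32 yd50 zd44) (kd xd31 yd5 zd31) (kd xd26 yd10 zd11) (kd xd32 yd50 zd45) (kd xd32 yd44 zd39) (kd xd21 yd56 zd4) (kd xd31 yd11 zd54) (kd xd25 yd51 zd24) (kd xd30 yd12 zd18) (kd xd26 yd0 zd4) (kd xd21 yd56 zd10) (kd xd22 yd31 zd16) (kd xd24 yd23 zd7) (kd xd26 yd7 zd52) (kd xd22 yd48 zd54) (kd xd26 yd0 zd18) (kd xd27 yd4 zd57) (kd xd27 yd18 zd31) (kd xd32 yd28 zd29) (kd xd30 yd40 zd41) (kd xd31 yd5 zd27) (kd xd30 yd3 zd37) (kd xd32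 yd50 zd47) (kd xd21 yd56 zd40) (kd xd32 yd48 zd57) (kd xd26 yd0 zd43) (kd xd31 yd33 zd45) (kd xd23 yd27 zd10) (kd xd21 yd56 zd45) (kd xd31 yd9 zd59) (kd xd31 yd9 zd58) (kd xd31 yd4 zd16) (kd xd32 yd50 zd50) (kd xd21 yd56 zd47) (kd xd32 yd50 zd51) (kd xd21 yd56 zd50) (kd xd22 yd15 zd48) (kd xd21 yd56 zd51) (kd xd29 yd57 zd33) (kd xd21 yd56 zd52) (kd xd29 yd57 zd32) (kd xd21 yd56 zd53) (kd xd29 yd11 zd47) (kd xd29 yd11 zd46) (kd xd21 yd56 zd55) (kd xd29 yd55 zd3) (kd xd32 yd50 zd54) (kd xd21 yd56 zd60)) (@D3.rec (fun _ => Pt) (kd xd21 yd57 zd1) (kd xd30 yd32 zd54) (kd xd32 yd49 zd3) (kd xd21 yd57 zd5) (kd xd30 yd52 zd15) (kd xd32 yd2 zd44) (kd xd27 yd30 zd31) (kd xd30 yd19 zd40) (kd xd21 yd57 zd24) (kd xd30 yd5 zd13) (kd xd21 yd57 zd33) (kd xd29 yd50 zd7) (kd xd27 yd21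 zd31) (kd xd25 yd48 zd24) (kd xd21 yd57 zd54) (kd xd21 yd57 zd56) (kd xd28 yd55 zd58) (kd xd25 yd29 zd45) (kd xd25 yd54 zd61) (kd xd26 yd15 zd44) (kd xd27 yd48 zd19) (kd xd27 yd25 zd46) (kd xd31 yd6 zd24) (kd xd21 yd58 zd49) (kd xd32 yd3 zd44) (kd xd22 yd0 zd9) (kd xd27 yd19 zd54) (kd xd21 yd59 zd0) (kd xd25 yd11 zd12) (kd xd30 yd8 zd51) (kd xd21 yd59 zd8) (kd xd24 yd20 zd39) (kd xd25 yd7 zd9) (kd xd26 yd16 zd59) (kd xd21 yd59 zd15) (kd xd21 yd59 zd19) (kd xd27 yd25 zd43) (kd xd21 yd59 zd32) (kd xd21 yd59 zd33) (kd xd22 yd59 zd0) (kd xd21 yd59 zd39) (kd xd27 yd37 zd54) (kd xd24 yd34 zd5) (kd xd25 yd43 zd1) (kd xd32 yd35 zd56) (kd xd21 yd59 zd57) (kd xd24 yd8 zd61) (kd xd24 yd1 zd56) (kd xd27 yd8 zd26) (kd xd32 yd45 zd32) (kd xd22 yd47 zd1) (kd xd32 yd45 zd28) (kd xd32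 yd50 zd55) (kd xd32 yd45 zd4) (kd xd31 yd18 zd3) (kd xd32 yd11 zd22) (kd xd22 yd0 zd6) (kd xd26 yd38 zd3) (kd xd31 yd13 zd55) (kd xd22 yd0 zd10) (kd xd32 yd4 zd7) (kd xd25 yd8 zd49)) (@D3.rec (fun _ => Pt) (kd xd22 yd0 zd11) (kd xd32 yd34 zd24) (kd xd32 yd30 zd2) (kd xd22 yd0 zd18) (kd xd27 yd47 zd15) (kd xd22 yd0 zd19) (kd xd22 yd0 zd20) (kd xd31 yd22 zd20) (kd xd30 yd32 zd17) (kd xd22 yd0 zd31) (kd xd24 yd30 zd16) (kd xd27 yd10 zd8) (kd xd27 yd18 zd37) (kd xd32 yd12 zd6) (kd xd22 yd0 zd42) (kd xd31 yd27 zd30) (kd xd30 yd5 zd7) (kd xd30 yd5 zd6) (kd xd30 yd18 zd57) (kd xd22 yd0 zd44) (kd xd26 yd45 zd11) (kd xd22 yd47 zd4) (kd xd32 yd19 zd37) (kd xd32 yd50 zd59) (kd xd22 yd0 zd47) (kd xd32 yd14 zd21) (kd xd22 yd0 zd48) (kd xd29 yd45 zd15) (kd xd22 yd0 zd50) (kd xd29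 yd26 zd8) (kd xd22 yd0 zd51) (kd xd24 yd25 zd45) (kd xd22 yd1 zd37) (kd xd23 yd53 zd18) (kd xd30 yd33 zd57) (kd xd25 yd51 zd38) (kd xd28 yd54 zd55) (kd xd22 yd0 zd61) (kd xd31 yd55 zd24) (kd xd26 yd38 zd50) (kd xd31 yd29 zd45) (kd xd28 yd35 zd17) (kd xd32 yd45 zd31) (kd xd22 yd1 zd7) (kd xd32 yd45 zd42) (kd xd32 yd12 zd18) (kd xd31 yd12 zd27) (kd xd32 yd45 zd30) (kd xd23 yd6 zd37) (kd xd31 yd21 zd0) (kd xd29 yd43 zd17) (kd xd28 yd22 zd9) (kd xd24 yd30 zd5) (kd xd31 yd13 zd45) (kd xd30 yd17 zd29) (kd xd26 yd7 zd53) (kd xd31 yd19 zd46) (kd xd32 yd37 zd15) (kd xd22 yd1 zd22) (kd xd32 yd24 zd0) (kd xd29 yd45 zd38) (kd xd22 yd1 zd23)) (@D3.rec (fun _ => Pt) (kd xd32 yd48 zd1) (kd xd28 yd27 zd57) (kd xd22 yd1 zd26) (kd xd32 yd34 zd28) (kd xd27 yd3 zd11) (kd xd27 yd7 zd34)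 (kd xd32 yd40 zd20) (kd xd22 yd1 zd29) (kd xd27 yd0 zd19) (kd xd22 yd1 zd31) (kd xd27 yd0 zd14) (kd xd29 yd44 zd24) (kd xd26 yd34 zd34) (kd xd26 yd52 zd16) (kd xd26 yd38 zd40) (kd xd22 yd1 zd32) (kd xd26 yd34 zd30) (kd xd26 yd34 zd31) (kd xd22 yd1 zd34) (kd xd32 yd23 zd6) (kd xd28 yd21 zd4) (kd xd29 yd44 zd27) (kd xd24 yd4 zd50) (kd xd26 yd35 zd45) (kd xd27 yd3 zd8) (kd xd24 yd27 zd54) (kd xd29 yd33 zd39) (kd xd26 yd40 zd21) (kd xd32 yd40 zd13) (kd xd32 yd35 zd31) (kd xd32 yd36 zd19) (kd xd23 yd6 zd2) (kd xd32 yd36 zd21) (kd xd22 yd1 zd48) (kd xd26 yd41 zd34) (kd xd22 yd1 zd49) (kd xd22 yd2 zd1) (kd xd25 yd36 zd58) (kd xd22 yd1 zd53) (kd xd32 yd50 zd23) (kd xd26 yd6 zd54) (kd xd30 yd54 zd33) (kd xd22 yd2 zd3) (kd xd24 yd42 zd41) (kd xd23 yd36 zd8) (kd xd32 yd15 zd59)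 (kd xd28 yd20 zd39) (kd xd24 yd17 zd42) (kd xd22 yd2 zd14) (kd xd30 yd55 zd20) (kd xd24 yd43 zd29) (kd xd29 yd55 zd60) (kd xd31 yd13 zd20) (kd xd23 yd5 zd2) (kd xd27 yd14 zd15) (kd xd27 yd14 zd4) (kd xd27 yd14 zd10) (kd xd31 yd53 zd30) (kd xd31 yd57 zd48) (kd xd25 yd40 zd12) (kd xd22 yd2 zd32) (kd xd22 yd2 zd34)) (@D3.rec (fun _ => Pt) (kd xd22 yd3 zd25) (kd xd32 yd0 zd14) (kd xd27 yd6 zd13) (kd xd27 yd24 zd49) (kd xd29 yd41 zd54) (kd xd22 yd3 zd1) (kd xd22 yd3 zd5) (kd xd26 yd21 zd48) (kd xd22 yd3 zd11) (kd xd28 yd49 zd4) (kd xd22 yd3 zd18) (kd xd22 yd3 zd26) (kd xd22 yd3 zd36) (kd xd30 yd36 zd59) (kd xd31 yd49 zd57) (kd xd32 yd51 zd3) (kd xd22 yd3 zd53) (kd xd32 yd21 zd44) (kd xd22 yd3 zd56) (kd xd29 yd44 zd33) (kd xd30 yd29 zd24) (kd xd22 yd4 zd8) (kd xd29 yd33 zd9)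 (kd xd32 yd47 zd52) (kd xd32 yd13 zd3) (kd xd32 yd51 zd4) (kd xd27 yd36 zd29) (kd xd27 yd0 zd9) (kd xd27 yd10 zd27) (kd xd30 yd15 zd54) (kd xd31 yd52 zd57) (kd xd28 yd54 zd50) (kd xd31 yd30 zd34) (kd xd32 yd51 zd6) (kd xd22 yd4 zd21) (kd xd22 yd4 zd22) (kd xd22 yd4 zd23) (kd xd32 yd12 zd54) (kd xd22 yd4 zd27) (kd xd26 yd3 zd6) (kd xd26 yd3 zd7) (kd xd29 yd58 zd6) (kd xd22 yd4 zd31) (kd xd32 yd43 zd27) (kd xd22 yd5 zd23) (kd xd32 yd49 zd39) (kd xd29 yd51 zd35) (kd xd26 yd3 zd28) (kd xd22 yd4 zd45) (kd xd22 yd5 zd35) (kd xd22 yd4 zd58) (kd xd28 yd19 zd8) (kd xd26 yd55 zd16) (kd xd30 yd0 zd49) (kd xd22 yd5 zd6) (kd xd29 yd7 zd41) (kd xd30 yd25 zd27) (kd xd22 yd5 zd13) (kd xd22 yd5 zd17) (kd xd27 yd22 zd7) (kd xd23 yd35 zd4) (kd xd25 yd46 zd32)) (@D3.rec (fun _ => Pt) (kd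 xd25 yd46 zd33) (kd xd29 yd6 zd7) (kd xd29 yd18 zd11) (kd xd30 yd11 zd11) (kd xd25 yd58 zd10) (kd xd29 yd22 zd57) (kd xd27 yd22 zd20) (kd xd30 yd5 zd22) (kd xd26 yd25 zd32) (kd xd31 yd51 zd18) (kd xd30 yd28 zd10) (kd xd22 yd5 zd56) (kd xd31 yd10 zd38) (kd xd28 yd15 zd31) (kd xd22 yd6 zd3) (kd xd31 yd7 zd11) (kd xd30 yd12 zd35) (kd xd22 yd6 zd7) (kd xd29 yd20 zd20) (kd xd32 yd51 zd8) (kd xd22 yd6 zd14) (kd xd29 yd7 zd16) (kd xd28 yd23 zd19) (kd xd22 yd6 zd35) (kd xd28 yd18 zd20) (kd xd32 yd46 zd9) (kd xd22 yd6 zd38) (kd xd22 yd7 zd21) (kd xd30 yd23 zd47) (kd xd22 yd6 zd42) (kd xd29 yd5 zd51) (kd xd31 yd53 zd24) (kd xd32 yd51 zd14) (kd xd22 yd6 zd49) (kd xd32 yd8 zd29) (kd xd27 yd41 zd54) (kd xd26 yd49 zd19) (kd xd22 yd6 zd52) (kd xd29 yd50 zd20) (kd xd31 yd32 zd17) (kd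 xd31 yd27 zd23) (kd xd22 yd6 zd56) (kd xd28 yd52 zd25) (kd xd31 yd18 zd43) (kd xd31 yd58 zd53) (kd xd31 yd31 zd31) (kd xd25 yd59 zd34) (kd xd27 yd10 zd13) (kd xd22 yd53 zd43) (kd xd30 yd12 zd29) (kd xd27 yd15 zd54) (kd xd25 yd9 zd41) (kd xd22 yd7 zd5) (kd xd32 yd43 zd31) (kd xd22 yd7 zd7) (kd xd27 yd59 zd5) (kd xd32 yd51 zd19) (kd xd30 yd15 zd18) (kd xd31 yd36 zd5) (kd xd22 yd7 zd10) (kd xd32 yd51 zd20) (kd xd22 yd53 zd2)) (@D3.rec (fun _ => Pt) (kd xd32 yd46 zd11) (kd xd30 yd51 zd15) (kd xd32 yd51 zd23) (kd xd32 yd51 zd24) (kd xd32 yd51 zd26) (kd xd32 yd45 zd61) (kd xd22 yd7 zd14) (kd xd32 yd43 zd32) (kd xd22 yd51 zd41) (kd xd29 yd2 zd17) (kd xd30 yd5 zd57) (kd xd32 yd39 zd43) (kd xd32 yd20 zd9) (kd xd32 yd20 zd10) (kd xd32 yd51 zd12) (kd xd31 yd44 zd7) (kd xd28 yd23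 zd22) (kd xd31 yd50 zd42) (kd xd28 yd43 zd1) (kd xd32 yd0 zd56) (kd xd22 yd7 zd33) (kd xd28 yd37 zd7) (kd xd31 yd0 zd33) (kd xd31 yd40 zd22) (kd xd25 yd20 zd4) (kd xd28 yd47 zd25) (kd xd24 yd5 zd18) (kd xd31 yd21 zd30) (kd xd29 yd50 zd50) (kd xd22 yd8 zd4) (kd xd30 yd8 zd43) (kd xd22 yd8 zd16) (kd xd25 yd36 zd7) (kd xd24 yd15 zd61) (kd xd22 yd8 zd20) (kd xd28 yd56 zd60) (kd xd27 yd11 zd34) (kd xd22 yd8 zd27) (kd xd22 yd8 zd35) (kd xd23 yd38 zd36) (kd xd30 yd14 zd7) (kd xd22 yd10 zd32) (kd xd22 yd9 zd1) (kd xd31 yd0 zd1) (kd xd30 yd10 zd52) (kd xd30 yd53 zd27) (kd xd29 yd49 zd10) (kd xd27 yd5 zd3) (kd xd32 yd42 zd13) (kd xd32 yd23 zd34) (kd xd32 yd23 zd37) (kd xd27 yd23 zd20) (kd xd32 yd1 zd47) (kd xd22 yd34 zd44) (kd xd30 yd27 zd54) (kd xd22 yd9 zd24) (kd xd29 yd44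 zd30) (kd xd29 yd5 zd14) (kd xd22 yd9 zd33) (kd xd24 yd16 zd49) (kd xd23 yd2 zd15) (kd xd31 yd46 zd49)) (@D3.rec (fun _ => Pt) (kd xd26 yd24 zd28) (kd xd22 yd9 zd45) (kd xd27 yd17 zd60) (kd xd22 yd57 zd23) (kd xd31 yd53 zd36) (kd xd24 yd11 zd56) (kd xd28 yd10 zd14) (kd xd22 yd10 zd5) (kd xd32 yd23 zd49) (kd xd30 yd2 zd25) (kd xd22 yd10 zd17) (kd xd23 yd41 zd13) (kd xd32 yd2 zd29) (kd xd31 yd58 zd17) (kd xd32 yd48 zd61) (kd xd22 yd10 zd27) (kd xd32 yd29 zd58) (kd xd26 yd16 zd40) (kd xd22 yd10 zd33) (kd xd22 yd10 zd38) (kd xd24 yd24 zd5) (kd xd22 yd10 zd60) (kd xd31 yd40 zd41) (kd xd27 yd8 zd0) (kd xd28 yd56 zd36) (kd xd24 yd22 zd23) (kd xd24 yd56 zd22) (kd xd27 yd47 zd25) (kd xd31 yd0 zd52) (kd xd27 yd47 zd11) (kd xd27 yd27 zd55) (kd xd24 yd28 zd59) (kd xd22 yd36 zd24)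 (kd xd28 yd22 zd47) (kd xd22 yd45 zd41) (kd xd30 yd32 zd47) (kd xd32 yd50 zd21) (kd xd23 yd16 zd4) (kd xd23 yd17 zd22) (kd xd23 yd18 zd44) (kd xd22 yd12 zd22) (kd xd28 yd41 zd44) (kd xd31 yd30 zd33) (kd xd22 yd12 zd28) (kd xd22 yd49 zd13) (kd xd23 yd45 zd34) (kd xd23 yd45 zd38) (kd xd28 yd25 zd4) (kd xd23 yd53 zd12) (kd xd24 yd6 zd7) (kd xd29 yd1 zd31) (kd xd22 yd12 zd37) (kd xd22 yd14 zd57) (kd xd31 yd41 zd60) (kd xd22 yd19 zd49) (kd xd31 yd1 zd24) (kd xd29 yd55 zd55) (kd xd22 yd25 zd43) (kd xd22 yd19 zd37) (kd xd28 yd45 zd0) (kd xd24 yd39 zd53) (kd xd22 yd26 zd17)) (@D3.rec (fun _ => Pt) (kd xd32 yd51 zd36) (kd xd32 yd51 zd38) (kd xd22 yd12 zd47) (kd xd25 yd47 zd60) (kd xd29 yd26 zd56) (kd xd24 yd39 zd24) (kd xd29 yd3 zd3) (kd xd22 yd20 zd37) (kd xd26 yd25 zd61) (kd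 xd22 yd20 zd41) (kd xd30 yd24 zd26) (kd xd28 yd55 zd7) (kd xd24 yd0 zd50) (kd xd30 yd25 zd16) (kd xd27 yd32 zd31) (kd xd30 yd25 zd40) (kd xd31 yd50 zd43) (kd xd30 yd27 zd30) (kd xd32 yd51 zd42) (kd xd30 yd24 zd9) (kd xd32 yd36 zd28) (kd xd22 yd13 zd11) (kd xd22 yd13 zd59) (kd xd28 yd55 zd16) (kd xd27 yd13 zd47) (kd xd32 yd27 zd9) (kd xd31 yd25 zd60) (kd xd25 yd21 zd5) (kd xd30 yd56 zd45) (kd xd22 yd24 zd6) (kd xd29 yd24 zd48) (kd xd28 yd14 zd42) (kd xd32 yd38 zd34) (kd xd32 yd45 zd18) (kd xd31 yd40 zd11) (kd xd22 yd13 zd19) (kd xd32 yd51 zd48) (kd xd29 yd8 zd1) (kd xd31 yd26 zd33) (kd xd29 yd20 zd12) (kd xd29 yd30 zd18) (kd xd22 yd22 zd8) (kd xd22 yd22 zd11) (kd xd22 yd24 zd26) (kd xd22 yd24 zd2) (kd xd22 yd24 zd3) (kd xd22 yd25 zd27) (kd xd28 yd43 zd23) (kd xd22 yd13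 zd30) (kd xd27 yd2 zd12) (kd xd27 yd8 zd51) (kd xd32 yd21 zd25) (kd xd27 yd6 zd49) (kd xd27 yd13 zd5) (kd xd31 yd50 zd14) (kd xd29 yd41 zd21) (kd xd26 yd21 zd55) (kd xd32 yd11 zd37) (kd xd31 yd21 zd17) (kd xd32 yd17 zd46) (kd xd32 yd33 zd59) (kd xd28 yd22 zd36)) (@D3.rec (fun _ => Pt) (kd xd30 yd46 zd3) (kd xd22 yd25 zd8) (kd xd22 yd25 zd25) (kd xd22 yd25 zd26) (kd xd22 yd24 zd50) (kd xd24 yd5 zd29) (kd xd22 yd24 zd25) (kd xd32 yd47 zd61) (kd xd22 yd25 zd9) (kd xd22 yd25 zd38) (kd xd22 yd27 zd37) (kd xd29 yd21 zd8) (kd xd29 yd55 zd31) (kd xd22 yd25 zd34) (kd xd22 yd25 zd35) (kd xd22 yd26 zd21) (kd xd28 yd52 zd52) (kd xd22 yd19 zd41) (kd xd31 yd7 zd1) (kd xd32 yd44 zd54) (kd xd30 yd49 zd31) (kd xd22 yd13 zd54) (kd xd30 yd47 zd21) (kd xd31 yd1 zd50) (kd xd31 yd19 zd19)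 (kd xd24 yd29 zd30) (kd xd22 yd13 zd55) (kd xd22 yd13 zd56) (kd xd31 yd13 zd15) (kd xd32 yd45 zd11) (kd xd31 yd30 zd15) (kd xd29 yd23 zd13) (kd xd26 yd50 zd18) (kd xd29 yd19 zd39) (kd xd22 yd26 zd30) (kd xd28 yd12 zd53) (kd xd26 yd36 zd36) (kd xd22 yd21 zd58) (kd xd22 yd24 zd20) (kd xd29 yd39 zd11) (kd xd22 yd22 zd0) (kd xd32 yd48 zd42) (kd xd22 yd24 zd21) (kd xd22 yd18 zd46) (kd xd30 yd26 zd0) (kd xd24 yd30 zd2) (kd xd22 yd25 zd40) (kd xd28 yd45 zd29) (kd xd22 yd14 zd16) (kd xd29 yd42 zd59) (kd xd22 yd14 zd17) (kd xd28 yd44 zd60) (kd xd26 yd51 zd9) (kd xd29 yd36 zd58) (kd xd22 yd26 zd14) (kd xd24 yd30 zd8) (kd xd22 yd50 zd36) (kd xd32 yd15 zd19) (kd xd22 yd18 zd10) (kd xd31 yd21 zd12) (kd xd30 yd26 zd4) (kd xd32 yd23 zd19)) (@D3.rec (fun _ => Pt) (kd xd24 yd56 zd51)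 (kd xd30 yd26 zd26) (kd xd24 yd30 zd32) (kd xd32 yd48 zd41) (kd xd27 yd43 zd22) (kd xd22 yd29 zd23) (kd xd22 yd28 zd54) (kd xd27 yd35 zd5) (kd xd22 yd14 zd53) (kd xd22 yd14 zd54) (kd xd22 yd23 zd58) (kd xd22 yd15 zd28) (kd xd28 yd47 zd35) (kd xd24 yd21 zd26) (kd xd22 yd15 zd12) (kd xd32 yd25 zd31) (kd xd31 yd15 zd39) (kd xd22 yd15 zd15) (kd xd32 yd27 zd2) (kd xd26 yd12 zd11) (kd xd23 yd58 zd24) (kd xd25 yd1 zd35) (kd xd31 yd7 zd23) (kd xd25 yd1 zd32) (kd xd27 yd30 zd0) (kd xd27 yd56 zd4) (kd xd28 yd47 zd7) (kd xd22 yd15 zd41) (kd xd27 yd34 zd54) (kd xd22 yd15 zd42) (kd xd23 yd50 zd42) (kd xd27 yd27 zd41) (kd xd22 yd15 zd49) (kd xd22 yd15 zd54) (kd xd22 yd15 zd55) (kd xd27 yd10 zd43) (kd xd31 yd14 zd13) (kd xd28 yd37 zd38) (kd xd28 yd34 zd15) (kd xd31 yd22 zd48) (kd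 xd24 yd23 zd21) (kd xd31 yd6 zd42) (kd xd24 yd23 zd19) (kd xd24 yd19 zd51) (kd xd22 yd57 zd19) (kd xd27 yd41 zd53) (kd xd26 yd27 zd46) (kd xd30 yd18 zd28) (kd xd22 yd16 zd14) (kd xd24 yd12 zd26) (kd xd22 yd49 zd3) (kd xd30 yd1 zd48) (kd xd29 yd59 zd5) (kd xd29 yd26 zd12) (kd xd27 yd3 zd50) (kd xd24 yd22 zd44) (kd xd25 yd47 zd57) (kd xd23 yd9 zd52) (kd xd28 yd52 zd11) (kd xd22 yd16 zd32) (kd xd28 yd7 zd57) (kd xd27 yd24 zd15)) (@D3.rec (fun _ => Pt) (kd xd27 yd21 zd25) (kd xd29 yd57 zd25) (kd xd22 yd27 zd41) (kd xd23 yd31 zd14) (kd xd30 yd30 zd4) (kd xd30 yd30 zd15) (kd xd27 yd38 zd3) (kd xd22 yd16 zd48) (kd xd30 yd45 zd8) (kd xd30 yd21 zd19) (kd xd30 yd27 zd24) (kd xd31 yd20 zd58) (kd xd26 yd19 zd54) (kd xd28 yd37 zd19) (kd xd31 yd14 zd35) (kd xd22 yd17 zd11) (kd xd29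 yd3 zd0) (kd xd28 yd56 zd20) (kd xd30 yd24 zd22) (kd xd30 yd24 zd23) (kd xd26 yd13 zd19) (kd xd24 yd56 zd16) (kd xd30 yd24 zd18) (kd xd30 yd24 zd19) (kd xd26 yd27 zd31) (kd xd31 yd23 zd32) (kd xd30 yd21 zd10) (kd xd30 yd43 zd36) (kd xd30 yd6 zd32) (kd xd26 yd30 zd5) (kd xd32 yd52 zd17) (kd xd23 yd7 zd35) (kd xd31 yd45 zd0) (kd xd28 yd44 zd54) (kd xd22 yd49 zd14) (kd xd28 yd45 zd51) (kd xd24 yd1 zd42) (kd xd23 yd12 zd4) (kd xd22 yd59 zd45) (kd xd22 yd17 zd42) (kd xd22 yd17 zd44) (kd xd31 yd25 zd5) (kd xd25 yd39 zd51) (kd xd32 yd26 zd6) (kd xd22 yd18 zd0) (kd xd27 yd53 zd6) (kd xd31 yd20 zd46) (kd xd27 yd50 zd2) (kd xd28 yd29 zd33) (kd xd28 yd36 zd26) (kd xd32 yd35 zd43) (kd xd32 yd26 zd5) (kd xd27 yd34 zd21) (kd xd28 yd4 zd57) (kd xd24 yd56 zd6) (kd xd24 yd56 zd9) (kd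 xd24 yd39 zd16) (kd xd22 yd18 zd19) (kd xd22 yd18 zd21) (kd xd22 yd18 zd22) (kd xd22 yd18 zd23) (kd xd32 yd31 zd24)) (@D3.rec (fun _ => Pt) (kd xd26 yd0 zd27) (kd xd22 yd18 zd42) (kd xd23 yd35 zd47) (kd xd23 yd22 zd30) (kd xd23 yd35 zd45) (kd xd22 yd18 zd52) (kd xd23 yd22 zd36) (kd xd27 yd27 zd29) (kd xd24 yd25 zd53) (kd xd23 yd45 zd48) (kd xd23 yd45 zd49) (kd xd30 yd28 zd33) (kd xd22 yd19 zd12) (kd xd24 yd1 zd1) (kd xd27 yd39 zd30) (kd xd22 yd19 zd0) (kd xd30 yd21 zd13) (kd xd32 yd21 zd16) (kd xd22 yd19 zd2) (kd xd31 yd13 zd51) (kd xd28 yd52 zd14) (kd xd22 yd19 zd6) (kd xd32 yd51 zd35) (kd xd22 yd19 zd8) (kd xd29 yd21 zd28) (kd xd22 yd19 zd13) (kd xd32 yd52 zd20) (kd xd30 yd17 zd56) (kd xd30 yd33 zd58) (kd xd32 yd50 zd28) (kd xd22 yd19 zd16) (kd xd30 yd45 zd1) (kd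 xd22 yd19 zd18) (kd xd32 yd40 zd4) (kd xd30 yd54 zd6) (kd xd22 yd32 zd13) (kd xd22 yd19 zd19) (kd xd26 yd57 zd6) (kd xd22 yd19 zd22) (kd xd30 yd50 zd46) (kd xd30 yd21 zd15) (kd xd32 yd27 zd61) (kd xd27 yd7 zd16) (kd xd31 yd31 zd23) (kd xd30 yd28 zd24) (kd xd32 yd19 zd32) (kd xd30 yd36 zd48) (kd xd28 yd40 zd16) (kd xd28 yd40 zd17) (kd xd28 yd52 zd8) (kd xd31 yd31 zd22) (kd xd30 yd38 zd48) (kd xd32 yd17 zd1) (kd xd32 yd39 zd57) (kd xd32 yd36 zd31) (kd xd32 yd17 zd33) (kd xd32 yd20 zd7) (kd xd22 yd34 zd57) (kd xd22 yd19 zd39) (kd xd31 yd15 zd21) (kd xd23 yd48 zd15) (kd xd23 yd50 zd53)) (@D3.rec (fun _ => Pt) (kd xd30 yd22 zd44) (kd xd22 yd20 zd49) (kd xd30 yd26 zd41) (kd xd28 yd51 zd54) (kd xd30 yd22 zd60) (kd xd32 yd51 zd15) (kd xd30 yd11 zd61) (kd xd31 yd4 zd13) (kd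 xd30 yd1 zd41) (kd xd31 yd5 zd44) (kd xd28 yd14 zd56) (kd xd22 yd19 zd59) (kd xd28 yd17 zd44) (kd xd30 yd55 zd50) (kd xd23 yd54 zd36) (kd xd22 yd20 zd5) (kd xd23 yd52 zd5) (kd xd32 yd18 zd38) (kd xd22 yd20 zd9) (kd xd28 yd17 zd60) (kd xd22 yd20 zd11) (kd xd32 yd52 zd23) (kd xd28 yd21 zd28) (kd xd22 yd20 zd14) (kd xd30 yd3 zd36) (kd xd26 yd12 zd44) (kd xd30 yd23 zd1) (kd xd29 yd36 zd48) (kd xd32 yd22 zd49) (kd xd28 yd21 zd41) (kd xd28 yd19 zd52) (kd xd26 yd43 zd3) (kd xd31 yd29 zd40) (kd xd31 yd15 zd44) (kd xd32 yd52 zd26) (kd xd31 yd30 zd26) (kd xd28 yd33 zd31) (kd xd32 yd32 zd23) (kd xd32 yd2 zd11) (kd xd32 yd42 zd39) (kd xd31 yd36 zd4) (kd xd30 yd26 zd2) (kd xd31 yd24 zd56) (kd xd30 yd50 zd0) (kd xd31 yd30 zd29) (kd xd24 yd25 zd8) (kd xd31 yd36 zd20) (kd xd31 yd7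 zd3) (kd xd31 yd36 zd13) (kd xd28 yd31 zd7) (kd xd24 yd12 zd25) (kd xd31 yd37 zd29) (kd xd26 yd44 zd59) (kd xd25 yd29 zd29) (kd xd25 yd29 zd37) (kd xd27 yd12 zd48) (kd xd30 yd30 zd12) (kd xd22 yd21 zd4) (kd xd26 yd53 zd27) (kd xd32 yd36 zd39) (kd xd22 yd21 zd15) (kd xd23 yd39 zd20)) (@D3.rec (fun _ => Pt) (kd xd31 yd16 zd46) (kd xd22 yd21 zd25) (kd xd29 yd13 zd23) (kd xd28 yd58 zd35) (kd xd29 yd2 zd30) (kd xd32 yd46 zd34) (kd xd22 yd21 zd34) (kd xd29 yd17 zd55) (kd xd31 yd58 zd30) (kd xd31 yd32 zd12) (kd xd22 yd21 zd37) (kd xd31 yd41 zd37) (kd xd22 yd21 zd38) (kd xd29 yd29 zd10) (kd xd27 yd36 zd61) (kd xd29 yd13 zd24) (kd xd29 yd18 zd50) (kd xd29 yd7 zd60) (kd xd23 yd37 zd3) (kd xd24 yd25 zd31) (kd xd32 yd40 zd2) (kd xd32 yd40 zd1) (kd xd30 yd32 zd23) (kd xd32 yd14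 zd48) (kd xd30 yd24 zd10) (kd xd22 yd22 zd7) (kd xd32 yd21 zd22) (kd xd32 yd40 zd61) (kd xd31 yd24 zd7) (kd xd32 yd37 zd9) (kd xd30 yd21 zd17) (kd xd23 yd14 zd44) (kd xd32 yd24 zd25) (kd xd22 yd22 zd31) (kd xd30 yd50 zd54) (kd xd31 yd22 zd41) (kd xd32 yd15 zd26) (kd xd31 yd16 zd7) (kd xd23 yd52 zd17) (kd xd30 yd27 zd58) (kd xd28 yd19 zd45) (kd xd22 yd22 zd56) (kd xd30 yd55 zd10) (kd xd22 yd22 zd60) (kd xd24 yd12 zd5) (kd xd25 yd27 zd40) (kd xd26 yd16 zd54) (kd xd32 yd46 zd27) (kd xd22 yd23 zd7) (kd xd22 yd23 zd13) (kd xd22 yd23 zd15) (kd xd29 yd20 zd16) (kd xd22 yd23 zd17) (kd xd22 yd23 zd18) (kd xd30 yd19 zd54) (kd xd23 yd30 zd60) (kd xd22 yd23 zd23) (kd xd27 yd1 zd16) (kd xd30 yd27 zd39) (kd xd22 yd23 zd34) (kd xd28 yd18 zd39) (kd xd22 yd23 zd39)) (@D3.rec (fun _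 => Pt) (kd xd26 yd40 zd22) (kd xd28 yd19 zd59) (kd xd32 yd15 zd8) (kd xd31 yd31 zd37) (kd xd32 yd52 zd29) (kd xd32 yd2 zd4) (kd xd32 yd17 zd17) (kd xd30 yd54 zd14) (kd xd29 yd40 zd40) (kd xd22 yd23 zd53) (kd xd30 yd18 zd10) (kd xd28 yd18 zd50) (kd xd22 yd23 zd59) (kd xd26 yd34 zd36) (kd xd27 yd19 zd26) (kd xd32 yd37 zd51) (kd xd32 yd34 zd57) (kd xd32 yd23 zd5) (kd xd32 yd52 zd33) (kd xd22 yd24 zd1) (kd xd30 yd28 zd59) (kd xd27 yd8 zd30) (kd xd32 yd52 zd35) (kd xd26 yd28 zd0) (kd xd30 yd25 zd44) (kd xd25 yd52 zd28) (kd xd24 yd49 zd18) (kd xd22 yd46 zd17) (kd xd31 yd51 zd5) (kd xd27 yd9 zd30) (kd xd30 yd52 zd53) (kd xd22 yd24 zd10) (kd xd28 yd45 zd56) (kd xd30 yd25 zd11) (kd xd24 yd30 zd31) (kd xd22 yd42 zd30) (kd xd22 yd25 zd55) (kd xd27 yd8 zd33) (kd xd22 yd24 zd17)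 (kd xd23 yd55 zd56) (kd xd27 yd36 zd1) (kd xd22 yd24 zd19) (kd xd29 yd23 zd23) (kd xd32 yd51 zd33) (kd xd32 yd49 zd41) (kd xd24 yd28 zd44) (kd xd32 yd16 zd33) (kd xd27 yd19 zd6) (kd xd22 yd24 zd23) (kd xd31 yd15 zd19) (kd xd32 yd13 zd11) (kd xd22 yd24 zd24) (kd xd29 yd53 zd42) (kd xd29 yd33 zd28) (kd xd22 yd24 zd28) (kd xd32 yd11 zd33) (kd xd29 yd26 zd18) (kd xd30 yd51 zd36) (kd xd22 yd24 zd33) (kd xd30 yd28 zd20) (kd xd22 yd24 zd35) (kd xd31 yd31 zd14)) (@D3.rec (fun _ => Pt) (kd xd32 yd32 zd37) (kd xd22 yd24 zd37) (kd xd22 yd24 zd38) (kd xd31 yd13 zd61) (kd xd32 yd52 zd47) (kd xd32 yd52 zd48) (kd xd32 yd40 zd23) (kd xd22 yd24 zd39) (kd xd30 yd9 zd37) (kd xd29 yd31 zd30) (kd xd26 yd39 zd29) (kd xd28 yd8 zd48) (kd xd25 yd8 zd10) (kd xd22 yd31 zd61) (kd xd31 yd31 zd15)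 (kd xd22 yd24 zd48) (kd xd31 yd24 zd10) (kd xd32 yd52 zd46) (kd xd22 yd24 zd49) (kd xd29 yd42 zd12) (kd xd29 yd30 zd53) (kd xd26 yd38 zd25) (kd xd29 yd40 zd33) (kd xd25 yd47 zd20) (kd xd30 yd17 zd20) (kd xd22 yd24 zd60) (kd xd32 yd35 zd36) (kd xd29 yd49 zd8) (kd xd30 yd49 zd18) (kd xd30 yd38 zd31) (kd xd32 yd52 zd3) (kd xd32 yd48 zd5) (kd xd22 yd25 zd12) (kd xd22 yd25 zd19) (kd xd32 yd14 zd5) (kd xd23 yd49 zd7) (kd xd24 yd25 zd51) (kd xd27 yd18 zd57) (kd xd32 yd4 zd4) (kd xd22 yd25 zd21) (kd xd30 yd38 zd24) (kd xd27 yd8 zd25) (kd xd28 yd24 zd21) (kd xd28 yd14 zd40) (kd xd22 yd47 zd39) (kd xd32 yd52 zd6) (kd xd31 yd31 zd47) (kd xd32 yd52 zd4) (kd xd23 yd48 zd35) (kd xd29 yd50 zd2) (kd xd29 yd32 zd54) (kd xd28 yd30 zd61) (kd xd28 yd17 zd36) (kd xd29 yd38 zd40) (kd xd29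 yd1 zd39) (kd xd23 yd48 zd36) (kd xd26 yd45 zd34) (kd xd26 yd59 zd48) (kd xd26 yd29 zd47) (kd xd32 yd13 zd12) (kd xd27 yd11 zd56) (kd xd22 yd25 zd52)) (@D3.rec (fun _ => Pt) (kd xd29 yd7 zd31) (kd xd24 yd6 zd47) (kd xd24 yd6 zd46) (kd xd24 yd8 zd25) (kd xd30 yd24 zd4) (kd xd22 yd26 zd40) (kd xd22 yd26 zd5) (kd xd27 yd2 zd56) (kd xd28 yd50 zd40) (kd xd23 yd57 zd5) (kd xd25 yd32 zd19) (kd xd26 yd57 zd13) (kd xd30 yd26 zd56) (kd xd27 yd44 zd19) (kd xd32 yd41 zd41) (kd xd30 yd24 zd5) (kd xd29 yd25 zd23) (kd xd24 yd0 zd15) (kd xd32 yd38 zd37) (kd xd22 yd26 zd25) (kd xd23 yd57 zd49) (kd xd26 yd31 zd43) (kd xd28 yd8 zd45) (kd xd22 yd26 zd28) (kd xd26 yd50 zd49) (kd xd22 yd26 zd29) (kd xd29 yd8 zd45) (kd xd29 yd18 zd21) (kd xd27 yd2 zd8) (kd xd28 yd30 zd60) (kd xd29 yd1 zd37)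 (kd xd29 yd1 zd36) (kd xd30 yd52 zd60) (kd xd29 yd49 zd4) (kd xd29 yd33 zd34) (kd xd23 yd36 zd40) (kd xd23 yd41 zd14) (kd xd22 yd26 zd53) (kd xd30 yd9 zd7) (kd xd24 yd12 zd24) (kd xd26 yd50 zd19) (kd xd29 yd19 zd59) (kd xd28 yd37 zd29) (kd xd22 yd53 zd10) (kd xd26 yd24 zd34) (kd xd31 yd43 zd22) (kd xd28 yd37 zd44) (kd xd24 yd6 zd33) (kd xd30 yd54 zd20) (kd xd23 yd20 zd49) (kd xd28 yd0 zd36) (kd xd31 yd16 zd21) (kd xd30 yd43 zd2) (kd xd32 yd52 zd59) (kd xd26 yd34 zd43) (kd xd30 yd48 zd37) (kd xd27 yd59 zd36) (kd xd28 yd34 zd61) (kd xd32 yd13 zd0) (kd xd28 yd18 zd8) (kd xd23 yd50 zd59) (kd xd26 yd34 zd39)) (@D3.rec (fun _ => Pt) (kd xd23 yd12 zd60) (kd xd26 yd41 zd17) (kd xd28 yd54 zd15) (kd xd28 yd39 zd51) (kd xd32 yd45 zd24) (kd xd28 yd34 zd19) (kd xd32 yd18 zd30) (kd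 xd32 yd37 zd44) (kd xd32 yd47 zd47) (kd xd28 yd35 zd15) (kd xd24 yd2 zd52) (kd xd28 yd8 zd12) (kd xd31 yd11 zd57) (kd xd32 yd52 zd60) (kd xd32 yd30 zd4) (kd xd32 yd53 zd0) (kd xd22 yd27 zd34) (kd xd32 yd53 zd1) (kd xd22 yd27 zd35) (kd xd22 yd27 zd36) (kd xd22 yd40 zd47) (kd xd23 yd4 zd30) (kd xd22 yd27 zd39) (kd xd23 yd57 zd3) (kd xd31 yd15 zd56) (kd xd28 yd34 zd10) (kd xd27 yd3 zd19) (kd xd23 yd46 zd5) (kd xd22 yd27 zd44) (kd xd22 yd27 zd47) (kd xd32 yd48 zd6) (kd xd24 yd3 zd44) (kd xd26 yd43 zd44) (kd xd22 yd34 zd61) (kd xd29 yd2 zd12) (kd xd22 yd27 zd61) (kd xd30 yd59 zd50) (kd xd30 yd0 zd42) (kd xd30 yd41 zd7) (kd xd32 yd23 zd41) (kd xd32 yd53 zd4) (kd xd22 yd28 zd4) (kd xd31 yd57 zd49) (kd xd32 yd27 zd43) (kd xd22 yd28 zd7) (kd xd32 yd49 zd12) (kd xd22 yd28 zd23)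 (kd xd29 yd58 zd50) (kd xd30 yd51 zd60) (kd xd29 yd41 zd27) (kd xd29 yd41 zd26) (kd xd26 yd29 zd50) (kd xd30 yd6 zd55) (kd xd27 yd49 zd6) (kd xd29 yd49 zd55) (kd xd29 yd53 zd52) (kd xd22 yd29 zd12) (kd xd25 yd2 zd14) (kd xd29 yd18 zd19) (kd xd27 yd34 zd48) (kd xd22 yd29 zd22) (kd xd23 yd14 zd38)) (@D3.rec (fun _ => Pt) (kd xd22 yd29 zd24) (kd xd28 yd5 zd29) (kd xd31 yd12 zd22) (kd xd23 yd7 zd48) (kd xd22 yd29 zd38) (kd xd24 yd29 zd6) (kd xd31 yd12 zd6) (kd xd23 yd2 zd56) (kd xd31 yd12 zd7) (kd xd27 yd55 zd44) (kd xd27 yd17 zd58) (kd xd32 yd2 zd58) (kd xd29 yd57 zd1) (kd xd22 yd29 zd46) (kd xd23 yd57 zd61) (kd xd24 yd40 zd6) (kd xd22 yd52 zd59) (kd xd30 yd15 zd8) (kd xd22 yd32 zd21) (kd xd22 yd59 zd4) (kd xd22 yd58 zd61) (kd xd22 yd34 zd24) (kd xd22 yd57 zd17) (kd xd30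 yd27 zd22) (kd xd30 yd51 zd10) (kd xd22 yd57 zd20) (kd xd26 yd51 zd57) (kd xd31 yd32 zd34) (kd xd29 yd1 zd54) (kd xd22 yd41 zd25) (kd xd24 yd40 zd28) (kd xd29 yd1 zd8) (kd xd31 yd17 zd30) (kd xd22 yd56 zd20) (kd xd30 yd51 zd33) (kd xd22 yd30 zd8) (kd xd27 yd24 zd33) (kd xd27 yd0 zd0) (kd xd30 yd53 zd43) (kd xd22 yd30 zd10) (kd xd30 yd8 zd52) (kd xd30 yd35 zd11) (kd xd22 yd30 zd28) (kd xd22 yd30 zd30) (kd xd23 yd34 zd58) (kd xd30 yd42 zd10) (kd xd23 yd16 zd17) (kd xd30 yd20 zd35) (kd xd27 yd42 zd0) (kd xd28 yd43 zd55) (kd xd26 yd7 zd9) (kd xd26 yd7 zd8) (kd xd22 yd30 zd49) (kd xd31 yd1 zd8) (kd xd30 yd14 zd1) (kd xd24 yd28 zd21) (kd xd27 yd57 zd54) (kd xd24 yd28 zd19) (kd xd32 yd53 zd8) (kd xd30 yd10 zd45) (kd xd31 yd1 zd15) (kd xd31 yd17 zd17)) (@D3.rec (fun _ => Pt)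 (kd xd22 yd46 zd57) (kd xd31 yd9 zd47) (kd xd32 yd53 zd9) (kd xd31 yd4 zd30) (kd xd22 yd31 zd3) (kd xd31 yd49 zd14) (kd xd24 yd28 zd33) (kd xd32 yd53 zd10) (kd xd31 yd17 zd20) (kd xd22 yd31 zd8) (kd xd31 yd7 zd58) (kd xd31 yd0 zd56) (kd xd22 yd31 zd22) (kd xd23 yd29 zd42) (kd xd29 yd11 zd56) (kd xd29 yd11 zd57) (kd xd32 yd43 zd16) (kd xd22 yd31 zd20) (kd xd32 yd48 zd60) (kd xd22 yd31 zd21) (kd xd32 yd43 zd17) (kd xd32 yd2 zd28) (kd xd30 yd40 zd60) (kd xd22 yd31 zd25) (kd xd32 yd53 zd13) (kd xd22 yd31 zd27) (kd xd22 yd31 zd28) (kd xd28 yd36 zd0) (kd xd28 yd29 zd6) (kd xd24 yd28 zd14) (kd xd22 yd31 zd31) (kd xd32 yd23 zd40) (kd xd23 yd4 zd23) (kd xd22 yd31 zd33) (kd xd22 yd31 zd34) (kd xd24 yd30 zd57) (kd xd23 yd54 zd42) (kd xd26 yd8 zd13) (kd xd23 yd17 zd52) (kd xd22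 yd31 zd47) (kd xd25 yd17 zd30) (kd xd23 yd29 zd3) (kd xd28 yd2 zd42) (kd xd32 yd53 zd17) (kd xd30 yd47 zd34) (kd xd22 yd31 zd56) (kd xd31 yd33 zd47) (kd xd25 yd24 zd46) (kd xd23 yd10 zd31) (kd xd31 yd50 zd24) (kd xd29 yd28 zd3) (kd xd23 yd9 zd21) (kd xd23 yd17 zd51) (kd xd22 yd31 zd60) (kd xd30 yd57 zd38) (kd xd22 yd49 zd1) (kd xd26 yd29 zd0) (kd xd30 yd15 zd34) (kd xd30 yd25 zd28) (kd xd23 yd45 zd42) (kd xd29 yd27 zd38) (kd xd24 yd12 zd12)) (@D3.rec (fun _ => Pt) (kd xd22 yd32 zd31) (kd xd30 yd37 zd41) (kd xd22 yd32 zd35) (kd xd22 yd48 zd2) (kd xd22 yd54 zd42) (kd xd22 yd32 zd47) (kd xd22 yd32 zd48) (kd xd22 yd32 zd49) (kd xd22 yd32 zd54) (kd xd32 yd5 zd11) (kd xd22 yd32 zd55) (kd xd24 yd29 zd56) (kd xd31 yd33 zd23) (kd xd24 yd28 zd11) (kd xd22 yd57 zd2) (kd xd23 yd59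 zd34) (kd xd22 yd41 zd42) (kd xd22 yd33 zd8) (kd xd22 yd33 zd9) (kd xd22 yd50 zd35) (kd xd22 yd33 zd11) (kd xd32 yd40 zd32) (kd xd24 yd26 zd8) (kd xd22 yd49 zd11) (kd xd29 yd42 zd57) (kd xd23 yd54 zd45) (kd xd25 yd19 zd22) (kd xd28 yd38 zd48) (kd xd22 yd33 zd18) (kd xd22 yd40 zd22) (kd xd30 yd45 zd46) (kd xd28 yd45 zd27) (kd xd30 yd54 zd4) (kd xd22 yd50 zd4) (kd xd29 yd8 zd12) (kd xd22 yd46 zd55) (kd xd22 yd33 zd28) (kd xd22 yd33 zd29) (kd xd22 yd33 zd31) (kd xd22 yd33 zd48) (kd xd29 yd46 zd15) (kd xd22 yd33 zd38) (kd xd30 yd42 zd60) (kd xd30 yd42 zd61) (kd xd22 yd46 zd52) (kd xd31 yd17 zd6) (kd xd25 yd47 zd44) (kd xd32 yd53 zd26) (kd xd31 yd16 zd59) (kd xd31 yd16 zd60) (kd xd22 yd33 zd44) (kd xd27 yd49 zd17) (kd xd31 yd18 zd51) (kd xd32 yd24 zd34) (kd xd22 yd33 zd51)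 (kd xd26 yd2 zd14) (kd xd31 yd11 zd7) (kd xd32 yd53 zd27) (kd xd22 yd33 zd55) (kd xd22 yd33 zd58) (kd xd29 yd29 zd38) (kd xd26 yd9 zd37)) (@D3.rec (fun _ => Pt) (kd xd22 yd34 zd5) (kd xd30 yd58 zd37) (kd xd30 yd58 zd38) (kd xd30 yd58 zd59) (kd xd29 yd1 zd58) (kd xd24 yd6 zd31) (kd xd27 yd10 zd16) (kd xd32 yd22 zd1) (kd xd28 yd56 zd5) (kd xd22 yd34 zd15) (kd xd22 yd34 zd18) (kd xd30 yd32 zd41) (kd xd22 yd57 zd48) (kd xd31 yd33 zd26) (kd xd32 yd29 zd29) (kd xd24 yd3 zd7) (kd xd23 yd31 zd46) (kd xd31 yd17 zd27) (kd xd28 yd6 zd3) (kd xd32 yd2 zd39) (kd xd32 yd35 zd18) (kd xd28 yd47 zd18) (kd xd24 yd54 zd3) (kd xd27 yd34 zd28) (kd xd31 yd19 zd23) (kd xd27 yd40 zd1) (kd xd28 yd25 zd45) (kd xd32 yd53 zd32) (kd xd31 yd12 zd35) (kd xd30 yd11 zd58) (kd xd29 yd32 zd25) (kd xd23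 yd50 zd61) (kd xd23 yd51 zd0) (kd xd27 yd45 zd33) (kd xd27 yd46 zd10) (kd xd30 yd35 zd45) (kd xd28 yd5 zd31) (kd xd28 yd7 zd40) (kd xd32 yd10 zd5) (kd xd28 yd36 zd9) (kd xd32 yd35 zd52) (kd xd25 yd0 zd48) (kd xd27 yd49 zd10) (kd xd22 yd35 zd2) (kd xd22 yd35 zd3) (kd xd30 yd35 zd35) (kd xd30 yd11 zd57) (kd xd22 yd35 zd5) (kd xd24 yd3 zd22) (kd xd31 yd39 zd21) (kd xd27 yd37 zd45) (kd xd32 yd13 zd53) (kd xd27 yd45 zd32) (kd xd22 yd35 zd17) (kd xd32 yd38 zd23) (kd xd22 yd35 zd23) (kd xd30 yd43 zd59) (kd xd22 yd41 zd27) (kd xd22 yd41 zd26) (kd xd22 yd35 zd26) (kd xd22 yd35 zd29) (kd xd32 yd42 zd29)) (@D3.rec (fun _ => Pt) (kd xd22 yd35 zd30) (kd xd24 yd42 zd30) (kd xd22 yd53 zd58) (kd xd26 yd20 zd39) (kd xd26 yd0 zd37) (kd xd32 yd49 zd58) (kd xd26 yd45 zd16) (kd xd28 yd33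 zd14) (kd xd25 yd57 zd59) (kd xd28 yd21 zd26) (kd xd22 yd39 zd23) (kd xd22 yd45 zd53) (kd xd28 yd19 zd0) (kd xd24 yd20 zd37) (kd xd24 yd19 zd42) (kd xd28 yd17 zd12) (kd xd25 yd52 zd4) (kd xd32 yd53 zd36) (kd xd26 yd58 zd11) (kd xd31 yd53 zd42) (kd xd22 yd35 zd56) (kd xd32 yd22 zd28) (kd xd22 yd35 zd57) (kd xd22 yd39 zd3) (kd xd27 yd47 zd8) (kd xd22 yd39 zd17) (kd xd30 yd50 zd19) (kd xd23 yd12 zd32) (kd xd24 yd12 zd48) (kd xd29 yd47 zd18) (kd xd22 yd38 zd25) (kd xd23 yd53 zd25) (kd xd24 yd12 zd45) (kd xd27 yd59 zd48) (kd xd24 yd13 zd59) (kd xd22 yd36 zd31) (kd xd32 yd50 zd35) (kd xd30 yd56 zd47) (kd xd22 yd36 zd34) (kd xd28 yd30 zd48) (kd xd32 yd6 zd54) (kd xd28 yd33 zd48) (kd xd32 yd23 zd44) (kd xd26 yd51 zd6) (kd xd31 yd55 zd7) (kd xd22 yd36 zd39) (kd xd22 yd48 zd20)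 (kd xd22 yd48 zd21) (kd xd30 yd25 zd46) (kd xd24 yd12 zd56) (kd xd27 yd13 zd51) (kd xd30 yd37 zd42) (kd xd29 yd39 zd38) (kd xd22 yd38 zd47) (kd xd22 yd37 zd22) (kd xd32 yd49 zd45) (kd xd27 yd15 zd7) (kd xd30 yd11 zd56) (kd xd24 yd57 zd21) (kd xd30 yd17 zd13) (kd xd23 yd45 zd58) (kd xd30 yd11 zd55)) (@D3.rec (fun _ => Pt) (kd xd23 yd34 zd24) (kd xd24 yd11 zd60) (kd xd31 yd17 zd23) (kd xd31 yd30 zd56) (kd xd22 yd53 zd59) (kd xd30 yd10 zd26) (kd xd31 yd56 zd27) (kd xd31 yd23 zd49) (kd xd32 yd7 zd40) (kd xd22 yd37 zd49) (kd xd31 yd13 zd22) (kd xd30 yd4 zd42) (kd xd22 yd37 zd54) (kd xd22 yd37 zd55) (kd xd26 yd46 zd3) (kd xd32 yd49 zd15) (kd xd22 yd38 zd3) (kd xd31 yd5 zd46) (kd xd28 yd33 zd41) (kd xd30 yd10 zd60) (kd xd22 yd38 zd4) (kd xd22 yd39 zd22) (kd xd22 yd38 zd5)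 (kd xd23 yd38 zd52) (kd xd22 yd38 zd15) (kd xd31 yd10 zd31) (kd xd22 yd38 zd20) (kd xd22 yd48 zd52) (kd xd28 yd50 zd61) (kd xd24 yd10 zd13) (kd xd26 yd49 zd10) (kd xd24 yd12 zd60) (kd xd23 yd34 zd29) (kd xd22 yd38 zd50) (kd xd22 yd38 zd59) (kd xd22 yd38 zd60) (kd xd22 yd39 zd1) (kd xd23 yd43 zd23) (kd xd22 yd39 zd9) (kd xd30 yd59 zd15) (kd xd22 yd39 zd13) (kd xd30 yd34 zd1) (kd xd30 yd36 zd51) (kd xd30 yd56 zd25) (kd xd23 yd0 zd13) (kd xd30 yd53 zd53) (kd xd32 yd41 zd15) (kd xd22 yd39 zd21) (kd xd26 yd50 zd2) (kd xd28 yd53 zd19) (kd xd24 yd13 zd37) (kd xd32 yd14 zd49) (kd xd32 yd14 zd46) (kd xd24 yd13 zd36) (kd xd28 yd21 zd8) (kd xd23 yd52 zd19) (kd xd24 yd10 zd12) (kd xd24 yd10 zd42) (kd xd28 yd43 zd19) (kd xd28 yd43 zd10) (kd xd23 yd59 zd24) (kd xd23 yd55 zd57)) (@D3.rec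 (fun _ => Pt) (kd xd23 yd11 zd26) (kd xd23 yd56 zd0) (kd xd22 yd50 zd17) (kd xd22 yd59 zd17) (kd xd23 yd56 zd34) (kd xd25 yd46 zd48) (kd xd31 yd25 zd10) (kd xd29 yd27 zd41) (kd xd28 yd17 zd19) (kd xd31 yd30 zd11) (kd xd31 yd30 zd16) (kd xd29 yd29 zd8) (kd xd26 yd42 zd55) (kd xd22 yd48 zd61) (kd xd26 yd42 zd54) (kd xd23 yd59 zd32) (kd xd32 yd34 zd8) (kd xd30 yd44 zd1) (kd xd23 yd36 zd47) (kd xd31 yd17 zd46) (kd xd22 yd39 zd47) (kd xd30 yd55 zd25) (kd xd22 yd39 zd48) (kd xd31 yd29 zd22) (kd xd30 yd29 zd40) (kd xd31 yd12 zd41) (kd xd23 yd51 zd29) (kd xd22 yd51 zd43) (kd xd30 yd39 zd17) (kd xd29 yd42 zd52) (kd xd30 yd9 zd6) (kd xd30 yd29 zd29) (kd xd27 yd49 zd59) (kd xd22 yd50 zd26) (kd xd28 yd30 zd15) (kd xd23 yd59 zd23) (kd xd27 yd12 zd28) (kd xd31 yd15 zd1) (kd xd28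 yd21 zd11) (kd xd22 yd40 zd4) (kd xd23 yd57 zd21) (kd xd28 yd17 zd33) (kd xd32 yd33 zd18) (kd xd32 yd21 zd27) (kd xd32 yd33 zd20) (kd xd32 yd23 zd58) (kd xd28 yd43 zd16) (kd xd24 yd17 zd13) (kd xd30 yd25 zd51) (kd xd26 yd57 zd26) (kd xd22 yd40 zd24) (kd xd22 yd40 zd25) (kd xd24 yd26 zd54) (kd xd31 yd3 zd14) (kd xd31 yd10 zd14) (kd xd31 yd9 zd1) (kd xd22 yd40 zd37) (kd xd22 yd40 zd42) (kd xd23 yd40 zd55) (kd xd31 yd23 zd58) (kd xd22 yd40 zd44) (kd xd24 yd29 zd57)) (@D3.rec (fun _ => Pt) (kd xd22 yd40 zd45) (kd xd27 yd8 zd35) (kd xd25 yd51 zd61) (kd xd24 yd0 zd13) (kd xd25 yd51 zd42) (kd xd22 yd40 zd50) (kd xd26 yd49 zd14) (kd xd24 yd27 zd9) (kd xd30 yd52 zd57) (kd xd23 yd57 zd59) (kd xd24 yd26 zd44) (kd xd28 yd35 zd25) (kd xd22 yd41 zd4) (kd xd25 yd18 zd42) (kd xd23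 yd52 zd48) (kd xd24 yd28 zd53) (kd xd22 yd41 zd24) (kd xd30 yd38 zd28) (kd xd32 yd46 zd19) (kd xd31 yd24 zd4) (kd xd32 yd53 zd35) (kd xd30 yd49 zd37) (kd xd32 yd33 zd16) (kd xd27 yd19 zd8) (kd xd27 yd19 zd7) (kd xd32 yd23 zd59) (kd xd22 yd56 zd26) (kd xd22 yd51 zd38) (kd xd25 yd52 zd37) (kd xd22 yd56 zd31) (kd xd22 yd51 zd39) (kd xd31 yd32 zd30) (kd xd23 yd46 zd12) (kd xd29 yd24 zd45) (kd xd27 yd40 zd20) (kd xd32 yd7 zd18) (kd xd23 yd10 zd43) (kd xd25 yd59 zd28) (kd xd32 yd21 zd41) (kd xd32 yd21 zd40) (kd xd32 yd39 zd48) (kd xd30 yd56 zd27) (kd xd27 yd21 zd39) (kd xd29 yd1 zd29) (kd xd31 yd22 zd61) (kd xd30 yd44 zd60) (kd xd30 yd44 zd56) (kd xd29 yd2 zd25) (kd xd24 yd23 zd46) (kd xd29 yd14 zd50) (kd xd28 yd53 zd20) (kd xd22 yd41 zd56) (kd xd22 yd51 zd15) (kd xd22 yd42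 zd4) (kd xd28 yd12 zd40) (kd xd24 yd59 zd29) (kd xd26 yd29 zd33) (kd xd23 yd18 zd7) (kd xd23 yd20 zd0) (kd xd23 yd16 zd15) (kd xd30 yd43 zd58) (kd xd22 yd42 zd37)) (@D3.rec (fun _ => Pt) (kd xd32 yd3 zd27) (kd xd28 yd12 zd33) (kd xd24 yd2 zd14) (kd xd30 yd52 zd49) (kd xd24 yd35 zd54) (kd xd22 yd42 zd52) (kd xd29 yd9 zd46) (kd xd31 yd57 zd44) (kd xd22 yd42 zd53) (kd xd22 yd42 zd56) (kd xd28 yd9 zd29) (kd xd30 yd41 zd24) (kd xd23 yd57 zd0) (kd xd27 yd32 zd20) (kd xd24 yd31 zd59) (kd xd27 yd54 zd35) (kd xd23 yd24 zd61) (kd xd32 yd25 zd57) (kd xd31 yd44 zd32) (kd xd30 yd45 zd28) (kd xd22 yd42 zd60) (kd xd23 yd2 zd27) (kd xd29 yd52 zd16) (kd xd24 yd33 zd21) (kd xd24 yd32 zd29) (kd xd23 yd38 zd41) (kd xd28 yd31 zd32) (kd xd32 yd54 zd6) (kd xd32 yd42 zd9) (kd xd31 yd10 zd46)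 (kd xd24 yd41 zd58) (kd xd31 yd36 zd9) (kd xd32 yd26 zd23) (kd xd22 yd43 zd13) (kd xd22 yd43 zd14) (kd xd24 yd3 zd47) (kd xd27 yd12 zd56) (kd xd27 yd12 zd50) (kd xd24 yd34 zd18) (kd xd24 yd32 zd11) (kd xd31 yd55 zd10) (kd xd30 yd13 zd33) (kd xd23 yd25 zd32) (kd xd24 yd15 zd17) (kd xd31 yd53 zd61) (kd xd25 yd33 zd14) (kd xd24 yd42 zd6) (kd xd22 yd44 zd58) (kd xd32 yd54 zd9) (kd xd22 yd43 zd31) (kd xd32 yd54 zd10) (kd xd23 yd30 zd28) (kd xd22 yd43 zd32) (kd xd23 yd30 zd27) (kd xd29 yd9 zd45) (kd xd32 yd42 zd61) (kd xd25 yd23 zd11) (kd xd31 yd2 zd60) (kd xd31 yd2 zd57) (kd xd31 yd2 zd21) (kd xd30 yd33 zd22) (kd xd23 yd24 zd33)) (@D3.rec (fun _ => Pt) (kd xd24 yd42 zd15) (kd xd27 yd40 zd60) (kd xd32 yd42 zd30) (kd xd22 yd43 zd40) (kd xd30 yd1 zd22) (kd xd25 yd46 zd14) (kd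 xd31 yd8 zd29) (kd xd30 yd31 zd38) (kd xd22 yd43 zd52) (kd xd24 yd40 zd53) (kd xd23 yd59 zd33) (kd xd23 yd24 zd20) (kd xd23 yd59 zd27) (kd xd23 yd59 zd26) (kd xd30 yd10 zd50) (kd xd30 yd10 zd49) (kd xd31 yd3 zd52) (kd xd29 yd58 zd29) (kd xd22 yd44 zd10) (kd xd31 yd5 zd3) (kd xd22 yd44 zd11) (kd xd22 yd44 zd13) (kd xd22 yd44 zd14) (kd xd28 yd6 zd7) (kd xd30 yd40 zd11) (kd xd28 yd8 zd6) (kd xd23 yd37 zd25) (kd xd27 yd34 zd5) (kd xd24 yd35 zd13) (kd xd32 yd26 zd34) (kd xd31 yd42 zd35) (kd xd22 yd44 zd18) (kd xd32 yd32 zd2) (kd xd29 yd11 zd50) (kd xd23 yd59 zd39) (kd xd28 yd54 zd18) (kd xd26 yd58 zd30) (kd xd24 yd24 zd10) (kd xd24 yd33 zd3) (kd xd30 yd41 zd47) (kd xd30 yd47 zd57) (kd xd30 yd41 zd46) (kd xd24 yd9 zd47) (kd xd31 yd5 zd15) (kd xd29 yd9 zd53) (kd xd31 yd5 zd20)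 (kd xd30 yd41 zd41) (kd xd30 yd41 zd39) (kd xd24 yd43 zd33) (kd xd24 yd36 zd4) (kd xd22 yd44 zd35) (kd xd31 yd28 zd49) (kd xd22 yd44 zd36) (kd xd32 yd26 zd54) (kd xd22 yd44 zd37) (kd xd32 yd25 zd9) (kd xd25 yd49 zd22) (kd xd22 yd44 zd41) (kd xd30 yd51 zd25) (kd xd29 yd59 zd22) (kd xd23 yd44 zd22) (kd xd23 yd25 zd2)) (@D3.rec (fun _ => Pt) (kd xd22 yd45 zd36) (kd xd24 yd43 zd16) (kd xd31 yd0 zd58) (kd xd22 yd44 zd51) (kd xd23 yd39 zd44) (kd xd23 yd39 zd43) (kd xd22 yd44 zd52) (kd xd23 yd41 zd50) (kd xd31 yd29 zd3) (kd xd23 yd41 zd49) (kd xd30 yd32 zd45) (kd xd24 yd30 zd49) (kd xd27 yd29 zd19) (kd xd31 yd36 zd61) (kd xd26 yd47 zd42) (kd xd32 yd38 zd14) (kd xd26 yd10 zd8) (kd xd27 yd40 zd45) (kd xd23 yd19 zd36) (kd xd23 yd32 zd15) (kd xd28 yd31 zd27) (kd xd24 yd24 zd3)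 (kd xd32 yd54 zd24) (kd xd22 yd45 zd22) (kd xd30 yd57 zd15) (kd xd23 yd14 zd13) (kd xd26 yd3 zd4) (kd xd22 yd45 zd33) (kd xd22 yd45 zd35) (kd xd31 yd2 zd24) (kd xd31 yd2 zd23) (kd xd25 yd37 zd21) (kd xd22 yd45 zd46) (kd xd23 yd22 zd56) (kd xd30 yd0 zd52) (kd xd32 yd54 zd14) (kd xd31 yd57 zd37) (kd xd31 yd16 zd44) (kd xd31 yd11 zd8) (kd xd22 yd45 zd59) (kd xd31 yd19 zd10) (kd xd30 yd51 zd57) (kd xd25 yd28 zd58) (kd xd31 yd2 zd39) (kd xd23 yd31 zd42) (kd xd26 yd1 zd10) (kd xd25 yd39 zd18) (kd xd24 yd57 zd45) (kd xd30 yd0 zd21) (kd xd29 yd54 zd50) (kd xd23 yd48 zd32) (kd xd26 yd23 zd29) (kd xd24 yd28 zd15) (kd xd26 yd5 zd61) (kd xd30 yd52 zd56) (kd xd30 yd43 zd61) (kd xd26 yd27 zd48) (kd xd32 yd34 zd43) (kd xd29 yd46 zd47) (kd xd22 yd47 zd5) (kd xd30 yd34 zd42) (kd xd30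 yd34 zd43)) (@D3.rec (fun _ => Pt) (kd xd30 yd48 zd51) (kd xd27 yd47 zd1) (kd xd30 yd30 zd52) (kd xd22 yd47 zd7) (kd xd32 yd23 zd48) (kd xd32 yd23 zd47) (kd xd22 yd47 zd10) (kd xd24 yd5 zd31) (kd xd24 yd38 zd42) (kd xd26 yd20 zd10) (kd xd32 yd54 zd26) (kd xd26 yd9 zd61) (kd xd28 yd38 zd0) (kd xd23 yd9 zd22) (kd xd22 yd53 zd44) (kd xd23 yd15 zd8) (kd xd25 yd28 zd9) (kd xd22 yd47 zd51) (kd xd32 yd2 zd30) (kd xd23 yd5 zd16) (kd xd32 yd51 zd21) (kd xd32 yd54 zd27) (kd xd31 yd23 zd10) (kd xd30 yd47 zd23) (kd xd30 yd47 zd24) (kd xd22 yd47 zd59) (kd xd25 yd8 zd32) (kd xd24 yd6 zd60) (kd xd22 yd48 zd8) (kd xd25 yd24 zd33) (kd xd22 yd48 zd12) (kd xd31 yd25 zd14) (kd xd25 yd24 zd24) (kd xd30 yd6 zd26) (kd xd31 yd57 zd57) (kd xd23 yd7 zd25) (kd xd30 yd24 zd27) (kd xd30 yd55 zd34)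 (kd xd31 yd26 zd17) (kd xd29 yd31 zd12) (kd xd22 yd48 zd26) (kd xd29 yd6 zd25) (kd xd25 yd16 zd3) (kd xd30 yd50 zd52) (kd xd23 yd3 zd27) (kd xd32 yd30 zd27) (kd xd22 yd48 zd32) (kd xd31 yd10 zd40) (kd xd22 yd48 zd34) (kd xd23 yd20 zd22) (kd xd31 yd25 zd53) (kd xd27 yd37 zd14) (kd xd22 yd49 zd25) (kd xd28 yd19 zd30) (kd xd30 yd1 zd47) (kd xd23 yd56 zd37) (kd xd24 yd25 zd1) (kd xd22 yd48 zd51) (kd xd30 yd39 zd60) (kd xd30 yd35 zd56) (kd xd22 yd48 zd58) (kd xd30 yd42 zd55)) (@D3.rec (fun _ => Pt) (kd xd32 yd54 zd28) (kd xd30 yd38 zd17) (kd xd29 yd58 zd10) (kd xd22 yd49 zd12) (kd xd31 yd15 zd49) (kd xd29 yd4 zd6) (kd xd28 yd22 zd30) (kd xd32 yd44 zd1) (kd xd29 yd19 zd22) (kd xd29 yd19 zd25) (kd xd30 yd45 zd38) (kd xd29 yd19 zd34) (kd xd22 yd49 zd22) (kd xd28 yd26 zd19)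 (kd xd27 yd14 zd54) (kd xd22 yd49 zd24) (kd xd24 yd12 zd53) (kd xd22 yd49 zd29) (kd xd22 yd49 zd31) (kd xd24 yd56 zd36) (kd xd22 yd49 zd33) (kd xd23 yd13 zd50) (kd xd22 yd49 zd39) (kd xd26 yd30 zd22) (kd xd31 yd44 zd16) (kd xd22 yd49 zd42) (kd xd32 yd7 zd47) (kd xd22 yd49 zd43) (kd xd32 yd41 zd58) (kd xd32 yd29 zd35) (kd xd22 yd49 zd46) (kd xd28 yd6 zd55) (kd xd22 yd49 zd47) (kd xd32 yd26 zd12) (kd xd22 yd51 zd48) (kd xd22 yd51 zd49) (kd xd22 yd49 zd50) (kd xd31 yd44 zd18) (kd xd22 yd49 zd51) (kd xd29 yd14 zd46) (kd xd31 yd46 zd34) (kd xd32 yd9 zd25) (kd xd32 yd34 zd3) (kd xd22 yd50 zd3) (kd xd26 yd49 zd57) (kd xd22 yd50 zd13) (kd xd32 yd29 zd48) (kd xd22 yd50 zd15) (kd xd28 yd27 zd27) (kd xd32 yd52 zd9) (kd xd32 yd53 zd23) (kd xd32 yd41 zd0) (kd xd24 yd21 zd45) (kd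 xd24 yd21 zd25) (kd xd23 yd34 zd17) (kd xd30 yd11 zd50) (kd xd30 yd39 zd46) (kd xd32 yd45 zd59) (kd xd32 yd29 zd22) (kd xd22 yd50 zd24) (kd xd30 yd39 zd45) (kd xd28 yd5 zd5)) (@D3.rec (fun _ => Pt) (kd xd22 yd50 zd25) (kd xd30 yd25 zd31) (kd xd22 yd50 zd29) (kd xd31 yd15 zd50) (kd xd23 yd52 zd18) (kd xd23 yd52 zd20) (kd xd31 yd28 zd21) (kd xd32 yd46 zd60) (kd xd30 yd24 zd8) (kd xd22 yd50 zd40) (kd xd30 yd49 zd30) (kd xd32 yd19 zd3) (kd xd22 yd50 zd50) (kd xd32 yd54 zd33) (kd xd32 yd18 zd29) (kd xd24 yd24 zd40) (kd xd22 yd50 zd52) (kd xd31 yd23 zd44) (kd xd22 yd50 zd53) (kd xd27 yd55 zd8) (kd xd22 yd50 zd55) (kd xd27 yd52 zd51) (kd xd28 yd27 zd51) (kd xd26 yd29 zd44) (kd xd22 yd50 zd57) (kd xd27 yd53 zd26) (kd xd28 yd47 zd14) (kd xd22 yd50 zd58) (kd xd30 yd40 zd19) (kd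 xd22 yd50 zd59) (kd xd31 yd32 zd38) (kd xd24 yd26 zd6) (kd xd24 yd12 zd49) (kd xd22 yd51 zd4) (kd xd22 yd51 zd9) (kd xd29 yd21 zd0) (kd xd22 yd51 zd22) (kd xd22 yd51 zd23) (kd xd30 yd44 zd10) (kd xd29 yd28 zd61) (kd xd32 yd24 zd57) (kd xd23 yd16 zd33) (kd xd31 yd38 zd7) (kd xd22 yd51 zd32) (kd xd27 yd20 zd9) (kd xd24 yd21 zd24) (kd xd30 yd34 zd30) (kd xd31 yd15 zd12) (kd xd28 yd17 zd23) (kd xd29 yd36 zd29) (kd xd23 yd5 zd9) (kd xd24 yd14 zd7) (kd xd22 yd51 zd47) (kd xd27 yd34 zd53) (kd xd29 yd53 zd6) (kd xd26 yd56 zd11) (kd xd32 yd6 zd11) (kd xd26 yd28 zd53) (kd xd32 yd43 zd46) (kd xd24 yd40 zd50) (kd xd31 yd43 zd6) (kd xd22 yd51 zd61)) (@D3.rec (fun _ => Pt) (kd xd22 yd52 zd1) (kd xd22 yd52 zd6) (kd xd26 yd19 zd51) (kd xd30 yd22 zd0) (kd xd32 yd0 zd2) (kd xd23 yd7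 zd16) (kd xd24 yd7 zd35) (kd xd23 yd19 zd57) (kd xd27 yd41 zd34) (kd xd31 yd35 zd53) (kd xd28 yd39 zd22) (kd xd22 yd52 zd25) (kd xd25 yd52 zd35) (kd xd22 yd52 zd32) (kd xd23 yd9 zd43) (kd xd30 yd9 zd21) (kd xd23 yd6 zd23) (kd xd24 yd37 zd1) (kd xd22 yd52 zd40) (kd xd32 yd48 zd32) (kd xd23 yd7 zd44) (kd xd22 yd52 zd48) (kd xd24 yd17 zd60) (kd xd27 yd38 zd38) (kd xd30 yd55 zd11) (kd xd32 yd53 zd6) (kd xd22 yd52 zd61) (kd xd23 yd20 zd43) (kd xd24 yd59 zd13) (kd xd31 yd22 zd60) (kd xd31 yd15 zd48) (kd xd26 yd43 zd30) (kd xd23 yd53 zd45) (kd xd22 yd53 zd4) (kd xd29 yd55 zd35) (kd xd22 yd53 zd6) (kd xd32 yd54 zd34) (kd xd22 yd53 zd8) (kd xd27 yd8 zd16) (kd xd30 yd57 zd5) (kd xd22 yd53 zd9) (kd xd31 yd13 zd39) (kd xd22 yd54 zd7) (kd xd22 yd54 zd8) (kd xd24 yd6 zd0) (kd xd26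 yd26 zd33) (kd xd22 yd53 zd17) (kd xd22 yd53 zd18) (kd xd22 yd54 zd57) (kd xd22 yd54 zd50) (kd xd31 yd23 zd7) (kd xd31 yd23 zd8) (kd xd31 yd17 zd37) (kd xd22 yd53 zd31) (kd xd30 yd54 zd34) (kd xd32 yd33 zd48) (kd xd22 yd53 zd36) (kd xd23 yd18 zd23) (kd xd31 yd54 zd51) (kd xd31 yd59 zd37) (kd xd23 yd14 zd27) (kd xd22 yd53 zd42)) (@D3.rec (fun _ => Pt) (kd xd27 yd2 zd36) (kd xd24 yd59 zd42) (kd xd30 yd57 zd28) (kd xd23 yd15 zd20) (kd xd32 yd44 zd59) (kd xd30 yd58 zd11) (kd xd23 yd18 zd26) (kd xd32 yd49 zd18) (kd xd27 yd16 zd25) (kd xd27 yd18 zd38) (kd xd22 yd53 zd56) (kd xd32 yd54 zd35) (kd xd30 yd9 zd55) (kd xd22 yd53 zd57) (kd xd29 yd5 zd34) (kd xd23 yd30 zd26) (kd xd22 yd54 zd4) (kd xd25 yd43 zd57) (kd xd26 yd38 zd30) (kd xd28 yd43 zd31) (kd xd24 yd46 zd26) (kd xd30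 yd22 zd22) (kd xd22 yd54 zd9) (kd xd30 yd43 zd23) (kd xd30 yd43 zd24) (kd xd29 yd1 zd55) (kd xd22 yd54 zd11) (kd xd23 yd15 zd16) (kd xd24 yd18 zd4) (kd xd23 yd7 zd24) (kd xd22 yd54 zd36) (kd xd31 yd3 zd37) (kd xd31 yd3 zd35) (kd xd24 yd31 zd51) (kd xd30 yd33 zd44) (kd xd30 yd13 zd10) (kd xd29 yd53 zd8) (kd xd30 yd54 zd53) (kd xd24 yd13 zd1) (kd xd27 yd49 zd28) (kd xd26 yd41 zd57) (kd xd25 yd12 zd18) (kd xd25 yd26 zd6) (kd xd32 yd33 zd39) (kd xd32 yd42 zd3) (kd xd22 yd55 zd1) (kd xd24 yd30 zd45) (kd xd22 yd55 zd5) (kd xd27 yd12 zd15) (kd xd23 yd27 zd36) (kd xd31 yd48 zd50) (kd xd22 yd55 zd8) (kd xd27 yd40 zd35) (kd xd29 yd38 zd18) (kd xd32 yd21 zd5) (kd xd27 yd40 zd33) (kd xd32 yd54 zd37) (kd xd30 yd41 zd40) (kd xd25 yd58 zd33) (kd xd22 yd55 zd19) (kd xd22 yd55 zd27)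 (kd xd22 yd55 zd28)) (@D3.rec (fun _ => Pt) (kd xd32 yd54 zd38) (kd xd22 yd55 zd34) (kd xd29 yd40 zd58) (kd xd22 yd55 zd40) (kd xd22 yd55 zd41) (kd xd22 yd55 zd42) (kd xd27 yd34 zd38) (kd xd24 yd13 zd8) (kd xd28 yd8 zd28) (kd xd26 yd23 zd49) (kd xd25 yd12 zd59) (kd xd31 yd13 zd18) (kd xd28 yd19 zd61) (kd xd28 yd21 zd48) (kd xd22 yd55 zd60) (kd xd28 yd22 zd33) (kd xd27 yd3 zd4) (kd xd22 yd56 zd0) (kd xd28 yd13 zd47) (kd xd23 yd9 zd20) (kd xd23 yd16 zd9) (kd xd29 yd6 zd26) (kd xd32 yd22 zd46) (kd xd22 yd56 zd5) (kd xd23 yd9 zd33) (kd xd26 yd23 zd50) (kd xd22 yd56 zd7) (kd xd32 yd53 zd16) (kd xd22 yd56 zd10) (kd xd23 yd16 zd13) (kd xd30 yd57 zd25) (kd xd30 yd57 zd26) (kd xd30 yd57 zd34) (kd xd32 yd42 zd27) (kd xd22 yd56 zd18) (kd xd32 yd24 zd13) (kd xd22 yd56 zd19) (kd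 xd30 yd30 zd55) (kd xd32 yd53 zd2) (kd xd24 yd1 zd3) (kd xd22 yd56 zd25) (kd xd32 yd39 zd56) (kd xd32 yd54 zd42) (kd xd32 yd54 zd43) (kd xd32 yd53 zd54) (kd xd22 yd56 zd29) (kd xd27 yd16 zd0) (kd xd22 yd56 zd36) (kd xd25 yd57 zd60) (kd xd22 yd56 zd38) (kd xd26 yd49 zd52) (kd xd30 yd43 zd0) (kd xd22 yd56 zd40) (kd xd28 yd33 zd8) (kd xd22 yd56 zd42) (kd xd22 yd56 zd43) (kd xd31 yd29 zd61) (kd xd22 yd56 zd44) (kd xd29 yd38 zd11) (kd xd24 yd8 zd27) (kd xd24 yd3 zd21) (kd xd26 yd49 zd12)) (@D3.rec (fun _ => Pt) (kd xd22 yd56 zd51) (kd xd22 yd56 zd52) (kd xd22 yd56 zd54) (kd xd24 yd6 zd58) (kd xd24 yd6 zd59) (kd xd22 yd56 zd60) (kd xd28 yd13 zd1) (kd xd22 yd57 zd5) (kd xd24 yd24 zd31) (kd xd24 yd24 zd32) (kd xd31 yd1 zd51) (kd xd31 yd30 zd8) (kd xd22 yd57 zd16) (kd xd26 yd44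 zd56) (kd xd31 yd37 zd15) (kd xd32 yd22 zd34) (kd xd29 yd37 zd3) (kd xd22 yd57 zd18) (kd xd30 yd29 zd28) (kd xd27 yd26 zd36) (kd xd31 yd1 zd55) (kd xd23 yd0 zd31) (kd xd27 yd38 zd43) (kd xd24 yd11 zd55) (kd xd22 yd57 zd35) (kd xd31 yd16 zd8) (kd xd32 yd42 zd49) (kd xd24 yd6 zd29) (kd xd28 yd27 zd4) (kd xd22 yd57 zd47) (kd xd30 yd45 zd10) (kd xd30 yd22 zd20) (kd xd30 yd49 zd52) (kd xd22 yd58 zd11) (kd xd28 yd21 zd29) (kd xd31 yd49 zd45) (kd xd22 yd57 zd56) (kd xd30 yd39 zd21) (kd xd28 yd14 zd52) (kd xd32 yd41 zd39) (kd xd32 yd54 zd45) (kd xd22 yd58 zd2) (kd xd22 yd58 zd3) (kd xd24 yd6 zd32) (kd xd28 yd35 zd38) (kd xd28 yd35 zd51) (kd xd32 yd23 zd13) (kd xd22 yd58 zd5) (kd xd32 yd46 zd20) (kd xd32 yd8 zd2) (kd xd22 yd58 zd6) (kd xd23 yd0 zd35) (kd xd30 yd49 zd32) (kd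 xd32 yd39 zd25) (kd xd32 yd53 zd50) (kd xd32 yd54 zd48) (kd xd22 yd58 zd8) (kd xd29 yd31 zd7) (kd xd32 yd22 zd53) (kd xd31 yd43 zd25) (kd xd30 yd56 zd6) (kd xd27 yd45 zd59)) (@D3.rec (fun _ => Pt) (kd xd30 yd26 zd43) (kd xd26 yd49 zd20) (kd xd22 yd58 zd13) (kd xd31 yd30 zd51) (kd xd31 yd37 zd12) (kd xd22 yd58 zd18) (kd xd22 yd58 zd20) (kd xd24 yd42 zd42) (kd xd22 yd58 zd25) (kd xd32 yd32 zd11) (kd xd24 yd10 zd54) (kd xd26 yd45 zd15) (kd xd24 yd10 zd56) (kd xd29 yd38 zd26) (kd xd23 yd48 zd42) (kd xd28 yd32 zd47) (kd xd22 yd58 zd40) (kd xd23 yd55 zd39) (kd xd28 yd50 zd59) (kd xd30 yd36 zd26) (kd xd29 yd1 zd33) (kd xd22 yd58 zd51) (kd xd31 yd54 zd28) (kd xd29 yd3 zd5) (kd xd26 yd50 zd36) (kd xd22 yd59 zd3) (kd xd30 yd56 zd1) (kd xd32 yd48 zd54) (kd xd32 yd27 zd59) (kd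 xd32 yd54 zd54) (kd xd22 yd59 zd14) (kd xd28 yd24 zd56) (kd xd26 yd49 zd9) (kd xd22 yd59 zd16) (kd xd23 yd4 zd4) (kd xd26 yd49 zd32) (kd xd30 yd50 zd61) (kd xd30 yd51 zd5) (kd xd22 yd59 zd21) (kd xd30 yd51 zd9) (kd xd32 yd54 zd53) (kd xd22 yd59 zd24) (kd xd24 yd5 zd27) (kd xd28 yd22 zd58) (kd xd22 yd59 zd26) (kd xd31 yd22 zd53) (kd xd30 yd25 zd39) (kd xd31 yd6 zd12) (kd xd22 yd59 zd31) (kd xd29 yd43 zd22) (kd xd22 yd59 zd37) (kd xd23 yd19 zd12) (kd xd30 yd43 zd43) (kd xd26 yd44 zd47) (kd xd30 yd27 zd34) (kd xd25 yd59 zd16) (kd xd29 yd31 zd4) (kd xd30 yd54 zd17) (kd xd28 yd33 zd20) (kd xd29 yd50 zd16) (kd xd23 yd19 zd11) (kd xd30 yd50 zd36)) (@D3.rec (fun _ => Pt) (kd xd30 yd53 zd40) (kd xd29 yd28 zd35) (kd xd23 yd0 zd2) (kd xd23 yd0 zd5) (kd xd23 yd11 zd27) (kd xd30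 yd50 zd37) (kd xd31 yd28 zd8) (kd xd26 yd28 zd14) (kd xd28 yd21 zd22) (kd xd30 yd50 zd39) (kd xd30 yd32 zd24) (kd xd31 yd1 zd53) (kd xd27 yd53 zd33) (kd xd24 yd24 zd61) (kd xd23 yd0 zd34) (kd xd30 yd19 zd1) (kd xd23 yd0 zd37) (kd xd26 yd36 zd49) (kd xd28 yd47 zd34) (kd xd28 yd47 zd33) (kd xd32 yd54 zd56) (kd xd23 yd0 zd46) (kd xd25 yd7 zd20) (kd xd25 yd49 zd5) (kd xd25 yd58 zd2) (kd xd30 yd41 zd58) (kd xd23 yd1 zd5) (kd xd23 yd1 zd6) (kd xd29 yd40 zd48) (kd xd23 yd1 zd11) (kd xd30 yd11 zd21) (kd xd23 yd1 zd14) (kd xd24 yd28 zd56) (kd xd30 yd32 zd34) (kd xd24 yd12 zd23) (kd xd27 yd39 zd20) (kd xd30 yd28 zd57) (kd xd23 yd1 zd35) (kd xd32 yd38 zd13) (kd xd23 yd1 zd36) (kd xd23 yd1 zd37) (kd xd28 yd59 zd15) (kd xd31 yd54 zd25) (kd xd31 yd34 zd14) (kd xd23 yd1 zd40) (kd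 xd24 yd33 zd55) (kd xd23 yd1 zd42) (kd xd31 yd5 zd25) (kd xd23 yd1 zd55) (kd xd23 yd1 zd56) (kd xd23 yd1 zd59) (kd xd23 yd1 zd61) (kd xd29 yd6 zd21) (kd xd24 yd30 zd44) (kd xd26 yd7 zd30) (kd xd29 yd6 zd20) (kd xd24 yd59 zd0) (kd xd30 yd42 zd41) (kd xd28 yd22 zd17) (kd xd25 yd59 zd5) (kd xd30 yd31 zd48) (kd xd31 yd5 zd60)) (@D3.rec (fun _ => Pt) (kd xd30 yd0 zd30) (kd xd24 yd22 zd51) (kd xd23 yd2 zd18) (kd xd23 yd2 zd19) (kd xd32 yd51 zd39) (kd xd23 yd2 zd24) (kd xd32 yd53 zd44) (kd xd23 yd2 zd26) (kd xd23 yd2 zd30) (kd xd23 yd2 zd32) (kd xd23 yd2 zd34) (kd xd27 yd3 zd47) (kd xd28 yd8 zd47) (kd xd23 yd2 zd36) (kd xd23 yd2 zd37) (kd xd30 yd14 zd4) (kd xd29 yd12 zd22) (kd xd23 yd2 zd39) (kd xd23 yd2 zd43) (kd xd23 yd2 zd51) (kd xd23 yd2 zd52) (kd xd23 yd2 zd55) (kd xd27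 yd59 zd22) (kd xd32 yd54 zd58) (kd xd32 yd54 zd59) (kd xd32 yd48 zd47) (kd xd32 yd54 zd60) (kd xd31 yd56 zd52) (kd xd23 yd3 zd2) (kd xd32 yd48 zd49) (kd xd23 yd3 zd3) (kd xd23 yd3 zd4) (kd xd32 yd19 zd23) (kd xd32 yd43 zd19) (kd xd23 yd3 zd6) (kd xd23 yd3 zd7) (kd xd23 yd3 zd10) (kd xd23 yd3 zd11) (kd xd30 yd52 zd42) (kd xd27 yd59 zd23) (kd xd23 yd16 zd38) (kd xd30 yd59 zd51) (kd xd30 yd52 zd38) (kd xd23 yd3 zd21) (kd xd23 yd35 zd1) (kd xd24 yd37 zd57) (kd xd23 yd3 zd33) (kd xd23 yd14 zd50) (kd xd23 yd14 zd52) (kd xd30 yd40 zd3) (kd xd23 yd3 zd35) (kd xd30 yd53 zd58) (kd xd23 yd3 zd55) (kd xd30 yd28 zd30) (kd xd23 yd3 zd58) (kd xd23 yd57 zd40) (kd xd30 yd42 zd54) (kd xd30 yd39 zd8) (kd xd29 yd32 zd8) (kd xd23 yd4 zd20) (kd xd30 yd30 zd32) (kd xd31 yd29 zd15)) (@D3.rec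 (fun _ => Pt) (kd xd32 yd39 zd53) (kd xd32 yd39 zd61) (kd xd24 yd21 zd19) (kd xd23 yd4 zd31) (kd xd23 yd4 zd32) (kd xd26 yd21 zd33) (kd xd23 yd4 zd34) (kd xd23 yd54 zd16) (kd xd23 yd54 zd17) (kd xd27 yd15 zd60) (kd xd23 yd4 zd36) (kd xd28 yd50 zd58) (kd xd23 yd7 zd14) (kd xd32 yd46 zd37) (kd xd29 yd40 zd17) (kd xd29 yd23 zd9) (kd xd26 yd13 zd9) (kd xd32 yd7 zd34) (kd xd28 yd12 zd17) (kd xd29 yd7 zd7) (kd xd31 yd0 zd35) (kd xd26 yd18 zd49) (kd xd24 yd33 zd38) (kd xd26 yd24 zd13) (kd xd32 yd0 zd19) (kd xd25 yd7 zd22) (kd xd25 yd29 zd12) (kd xd30 yd19 zd45) (kd xd23 yd5 zd8) (kd xd28 yd9 zd39) (kd xd23 yd5 zd13) (kd xd23 yd5 zd14) (kd xd23 yd11 zd17) (kd xd26 yd0 zd28) (kd xd32 yd29 zd23) (kd xd29 yd43 zd4) (kd xd25 yd13 zd11) (kd xd31 yd55 zd8) (kd xd23 yd5 zd23) (kd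 xd32 yd24 zd12) (kd xd30 yd51 zd0) (kd xd30 yd6 zd13) (kd xd26 yd7 zd38) (kd xd30 yd32 zd38) (kd xd25 yd28 zd43) (kd xd23 yd5 zd34) (kd xd29 yd37 zd25) (kd xd31 yd34 zd53) (kd xd24 yd5 zd22) (kd xd26 yd20 zd19) (kd xd28 yd52 zd19) (kd xd26 yd20 zd20) (kd xd28 yd15 zd14) (kd xd30 yd37 zd45) (kd xd30 yd9 zd56) (kd xd32 yd54 zd44) (kd xd29 yd29 zd19) (kd xd29 yd21 zd49) (kd xd30 yd52 zd51) (kd xd23 yd19 zd29) (kd xd23 yd6 zd13) (kd xd23 yd6 zd16)) (@D3.rec (fun _ => Pt) (kd xd23 yd6 zd22) (kd xd31 yd32 zd0) (kd xd31 yd25 zd40) (kd xd32 yd53 zd48) (kd xd30 yd34 zd32) (kd xd23 yd6 zd51) (kd xd30 yd25 zd34) (kd xd23 yd6 zd59) (kd xd32 yd51 zd16) (kd xd23 yd7 zd1) (kd xd26 yd56 zd24) (kd xd26 yd5 zd20) (kd xd26 yd57 zd60) (kd xd23 yd7 zd10) (kd xd30 yd28 zd7) (kd xd28 yd19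 zd14) (kd xd23 yd33 zd35) (kd xd30 yd50 zd57) (kd xd27 yd48 zd34) (kd xd29 yd53 zd12) (kd xd30 yd30 zd48) (kd xd32 yd45 zd57) (kd xd23 yd7 zd31) (kd xd29 yd59 zd25) (kd xd30 yd12 zd41) (kd xd29 yd39 zd33) (kd xd26 yd19 zd31) (kd xd29 yd23 zd45) (kd xd29 yd18 zd57) (kd xd23 yd16 zd6) (kd xd25 yd8 zd21) (kd xd25 yd6 zd46) (kd xd32 yd2 zd31) (kd xd30 yd16 zd41) (kd xd30 yd46 zd54) (kd xd27 yd38 zd50) (kd xd23 yd8 zd5) (kd xd29 yd28 zd42) (kd xd26 yd57 zd47) (kd xd25 yd18 zd22) (kd xd23 yd11 zd15) (kd xd23 yd11 zd16) (kd xd27 yd5 zd22) (kd xd24 yd4 zd61) (kd xd24 yd11 zd39) (kd xd24 yd11 zd40) (kd xd25 yd26 zd8) (kd xd32 yd54 zd36) (kd xd29 yd16 zd42) (kd xd28 yd4 zd47) (kd xd32 yd49 zd7) (kd xd23 yd8 zd28) (kd xd32 yd50 zd8) (kd xd30 yd47 zd37) (kd xd23 yd8 zd31) (kd xd32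 yd1 zd40) (kd xd23 yd38 zd31) (kd xd23 yd38 zd33) (kd xd23 yd8 zd40) (kd xd29 yd23 zd50) (kd xd25 yd29 zd50) (kd xd23 yd8 zd51)) (@D3.rec (fun _ => Pt) (kd xd31 yd49 zd12) (kd xd23 yd8 zd53) (kd xd23 yd8 zd61) (kd xd27 yd7 zd39) (kd xd23 yd23 zd39) (kd xd24 yd57 zd60) (kd xd26 yd21 zd26) (kd xd31 yd45 zd9) (kd xd28 yd4 zd41) (kd xd31 yd9 zd40) (kd xd30 yd27 zd42) (kd xd30 yd46 zd24) (kd xd31 yd44 zd12) (kd xd23 yd9 zd28) (kd xd32 yd19 zd43) (kd xd31 yd0 zd40) (kd xd23 yd15 zd25) (kd xd31 yd44 zd13) (kd xd30 yd9 zd20) (kd xd23 yd9 zd46) (kd xd30 yd16 zd49) (kd xd32 yd1 zd22) (kd xd29 yd43 zd52) (kd xd28 yd38 zd27) (kd xd23 yd9 zd56) (kd xd30 yd38 zd21) (kd xd31 yd31 zd24) (kd xd23 yd52 zd29) (kd xd24 yd4 zd39) (kd xd23 yd10 zd2) (kd xd23 yd10 zd3) (kd xd23 yd10 zd4)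 (kd xd27 yd40 zd23) (kd xd24 yd4 zd38) (kd xd30 yd43 zd37) (kd xd23 yd10 zd18) (kd xd31 yd43 zd43) (kd xd31 yd33 zd49) (kd xd31 yd33 zd51) (kd xd23 yd10 zd27) (kd xd23 yd10 zd34) (kd xd32 yd36 zd1) (kd xd32 yd3 zd2) (kd xd23 yd10 zd39) (kd xd26 yd17 zd27) (kd xd26 yd2 zd8) (kd xd28 yd13 zd58) (kd xd23 yd10 zd47) (kd xd26 yd26 zd59) (kd xd31 yd12 zd42) (kd xd30 yd26 zd13) (kd xd28 yd39 zd58) (kd xd32 yd28 zd2) (kd xd29 yd25 zd49) (kd xd23 yd11 zd20) (kd xd30 yd56 zd36) (kd xd23 yd11 zd22) (kd xd26 yd2 zd25) (kd xd23 yd11 zd23) (kd xd23 yd11 zd24) (kd xd28 yd58 zd0) (kd xd24 yd19 zd54)) (@D3.rec (fun _ => Pt) (kd xd24 yd5 zd21) (kd xd30 yd50 zd26) (kd xd23 yd11 zd28) (kd xd28 yd20 zd6) (kd xd28 yd25 zd34) (kd xd28 yd23 zd35) (kd xd30 yd49 zd60) (kd xd28 yd30 zd55) (kd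 xd28 yd45 zd24) (kd xd23 yd59 zd61) (kd xd31 yd28 zd57) (kd xd23 yd11 zd43) (kd xd23 yd50 zd37) (kd xd32 yd21 zd37) (kd xd23 yd57 zd6) (kd xd23 yd11 zd53) (kd xd25 yd55 zd50) (kd xd32 yd50 zd7) (kd xd23 yd12 zd1) (kd xd27 yd57 zd25) (kd xd29 yd4 zd17) (kd xd25 yd40 zd42) (kd xd28 yd49 zd48) (kd xd28 yd29 zd42) (kd xd25 yd40 zd16) (kd xd30 yd37 zd43) (kd xd31 yd20 zd12) (kd xd30 yd39 zd41) (kd xd23 yd12 zd27) (kd xd32 yd34 zd19) (kd xd32 yd55 zd7) (kd xd27 yd7 zd55) (kd xd23 yd12 zd33) (kd xd29 yd15 zd39) (kd xd31 yd55 zd59) (kd xd23 yd12 zd40) (kd xd30 yd55 zd55) (kd xd32 yd53 zd59) (kd xd32 yd53 zd12) (kd xd31 yd5 zd17) (kd xd23 yd12 zd48) (kd xd23 yd45 zd44) (kd xd31 yd24 zd30) (kd xd31 yd24 zd29) (kd xd23 yd12 zd52) (kd xd30 yd21 zd28) (kd xd32 yd48 zd7) (kd xd30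 yd36 zd37) (kd xd29 yd38 zd14) (kd xd23 yd13 zd1) (kd xd23 yd13 zd9) (kd xd31 yd13 zd31) (kd xd32 yd14 zd60) (kd xd23 yd13 zd13) (kd xd32 yd35 zd39) (kd xd24 yd15 zd48) (kd xd23 yd13 zd16) (kd xd28 yd15 zd44) (kd xd31 yd43 zd17) (kd xd24 yd30 zd42) (kd xd23 yd13 zd33) (kd xd23 yd54 zd61)) (@D3.rec (fun _ => Pt) (kd xd28 yd51 zd2) (kd xd32 yd34 zd60) (kd xd26 yd31 zd40) (kd xd23 yd13 zd35) (kd xd28 yd26 zd55) (kd xd30 yd46 zd39) (kd xd23 yd13 zd37) (kd xd27 yd58 zd26) (kd xd32 yd21 zd11) (kd xd32 yd21 zd10) (kd xd29 yd59 zd32) (kd xd30 yd59 zd22) (kd xd23 yd19 zd50) (kd xd27 yd32 zd3) (kd xd23 yd16 zd24) (kd xd30 yd42 zd24) (kd xd23 yd44 zd38) (kd xd23 yd17 zd30) (kd xd28 yd2 zd5) (kd xd26 yd9 zd29) (kd xd23 yd15 zd9) (kd xd32 yd0 zd54) (kd xd30 yd58 zd19) (kd xd23 yd14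 zd14) (kd xd32 yd5 zd12) (kd xd30 yd48 zd30) (kd xd30 yd48 zd31) (kd xd30 yd57 zd41) (kd xd30 yd47 zd2) (kd xd30 yd59 zd7) (kd xd32 yd50 zd20) (kd xd32 yd21 zd8) (kd xd29 yd14 zd33) (kd xd23 yd18 zd19) (kd xd30 yd48 zd32) (kd xd31 yd39 zd3) (kd xd30 yd57 zd56) (kd xd23 yd14 zd28) (kd xd30 yd33 zd54) (kd xd23 yd18 zd38) (kd xd23 yd15 zd57) (kd xd30 yd57 zd27) (kd xd23 yd14 zd34) (kd xd31 yd2 zd46) (kd xd29 yd28 zd5) (kd xd26 yd32 zd28) (kd xd23 yd14 zd56) (kd xd23 yd14 zd60) (kd xd23 yd17 zd25) (kd xd28 yd2 zd3) (kd xd23 yd15 zd1) (kd xd23 yd15 zd2) (kd xd23 yd16 zd60) (kd xd23 yd15 zd5) (kd xd23 yd15 zd12) (kd xd32 yd44 zd60) (kd xd30 yd57 zd36) (kd xd23 yd20 zd27) (kd xd32 yd4 zd61) (kd xd31 yd44 zd51) (kd xd23 yd16 zd40) (kd xd32 yd25 zd19)) (@D3.rec (fun _ => Pt)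 (kd xd32 yd25 zd18) (kd xd23 yd15 zd11) (kd xd28 yd2 zd8) (kd xd30 yd58 zd57) (kd xd24 yd59 zd39) (kd xd28 yd2 zd57) (kd xd32 yd6 zd41) (kd xd23 yd15 zd15) (kd xd28 yd10 zd60) (kd xd23 yd16 zd35) (kd xd23 yd16 zd42) (kd xd30 yd47 zd5) (kd xd23 yd15 zd18) (kd xd30 yd12 zd47) (kd xd31 yd7 zd28) (kd xd23 yd15 zd22) (kd xd28 yd2 zd60) (kd xd23 yd18 zd21) (kd xd23 yd17 zd21) (kd xd30 yd57 zd22) (kd xd26 yd57 zd40) (kd xd31 yd0 zd9) (kd xd31 yd0 zd7) (kd xd23 yd17 zd33) (kd xd23 yd15 zd37) (kd xd29 yd23 zd59) (kd xd29 yd29 zd35) (kd xd29 yd20 zd33) (kd xd28 yd10 zd44) (kd xd29 yd24 zd12) (kd xd29 yd18 zd60) (kd xd32 yd23 zd52) (kd xd23 yd15 zd54) (kd xd30 yd7 zd17) (kd xd23 yd17 zd32) (kd xd32 yd6 zd38) (kd xd32 yd6 zd39) (kd xd30 yd35 zd1) (kd xd30 yd35 zd2) (kd xd23 yd17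 zd38) (kd xd32 yd48 zd20) (kd xd23 yd45 zd16) (kd xd23 yd16 zd0) (kd xd32 yd5 zd52) (kd xd28 yd41 zd8) (kd xd23 yd20 zd3) (kd xd28 yd2 zd53) (kd xd31 yd33 zd55) (kd xd31 yd5 zd26) (kd xd23 yd16 zd23) (kd xd32 yd55 zd10) (kd xd32 yd6 zd40) (kd xd24 yd31 zd43) (kd xd24 yd31 zd46) (kd xd23 yd16 zd26) (kd xd30 yd59 zd6) (kd xd30 yd2 zd18) (kd xd30 yd58 zd3) (kd xd23 yd17 zd50) (kd xd30 yd35 zd3) (kd xd26 yd11 zd45) (kd xd23 yd16 zd44)) (@D3.rec (fun _ => Pt) (kd xd31 yd58 zd31) (kd xd23 yd16 zd46) (kd xd32 yd24 zd59) (kd xd27 yd42 zd12) (kd xd23 yd24 zd51) (kd xd27 yd39 zd8) (kd xd30 yd58 zd55) (kd xd30 yd57 zd29) (kd xd23 yd45 zd8) (kd xd30 yd59 zd13) (kd xd23 yd17 zd4) (kd xd30 yd59 zd18) (kd xd32 yd5 zd27) (kd xd30 yd59 zd9) (kd xd25 yd0 zd54) (kd xd30 yd37 zd39) (kd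 xd23 yd17 zd9) (kd xd31 yd33 zd56) (kd xd30 yd59 zd11) (kd xd23 yd39 zd55) (kd xd23 yd17 zd16) (kd xd29 yd56 zd5) (kd xd30 yd57 zd11) (kd xd23 yd18 zd40) (kd xd32 yd48 zd21) (kd xd30 yd13 zd0) (kd xd28 yd42 zd40) (kd xd29 yd56 zd3) (kd xd24 yd31 zd33) (kd xd31 yd58 zd50) (kd xd30 yd12 zd46) (kd xd31 yd45 zd4) (kd xd30 yd59 zd34) (kd xd32 yd21 zd2) (kd xd30 yd59 zd32) (kd xd32 yd23 zd55) (kd xd32 yd23 zd53) (kd xd25 yd3 zd2) (kd xd32 yd23 zd51) (kd xd32 yd23 zd50) (kd xd32 yd55 zd11) (kd xd30 yd59 zd47) (kd xd31 yd2 zd9) (kd xd23 yd17 zd31) (kd xd30 yd7 zd24) (kd xd23 yd17 zd34) (kd xd32 yd5 zd35) (kd xd30 yd59 zd41) (kd xd23 yd17 zd35) (kd xd30 yd59 zd57) (kd xd30 yd31 zd36) (kd xd30 yd52 zd41) (kd xd27 yd58 zd46) (kd xd28 yd8 zd19) (kd xd23 yd18 zd1) (kd xd28 yd25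 zd55) (kd xd30 yd0 zd55) (kd xd30 yd59 zd49) (kd xd28 yd13 zd33) (kd xd32 yd5 zd37) (kd xd23 yd18 zd15) (kd xd26 yd11 zd52))
def f_d_31 : D2 → D3 → Pt := @D2.rec (fun _ => D3 → Pt) (@D3.rec (fun _ => Pt) (kd xd28 yd27 zd42) (kd xd30 yd19 zd43) (kd xd32 yd25 zd3) (kd xd24 yd59 zd45) (kd xd26 yd22 zd0) (kd xd23 yd21 zd35) (kd xd31 yd6 zd21) (kd xd30 yd58 zd22) (kd xd32 yd55 zd14) (kd xd30 yd58 zd21) (kd xd23 yd18 zd42) (kd xd23 yd18 zd49) (kd xd32 yd34 zd54) (kd xd23 yd18 zd51) (kd xd27 yd47 zd40) (kd xd24 yd55 zd51) (kd xd24 yd45 zd53) (kd xd23 yd18 zd56) (kd xd32 yd8 zd4) (kd xd24 yd15 zd59) (kd xd23 yd18 zd61) (kd xd32 yd20 zd44) (kd xd26 yd49 zd50) (kd xd29 yd0 zd41) (kd xd23 yd19 zd5) (kd xd28 yd28 zd57) (kd xd28 yd38 zd3) (kd xd29 yd39 zd10) (kd xd27 yd17 zd19)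 (kd xd32 yd33 zd56) (kd xd27 yd17 zd15) (kd xd29 yd12 zd48) (kd xd23 yd19 zd13) (kd xd30 yd19 zd22) (kd xd32 yd44 zd15) (kd xd30 yd53 zd20) (kd xd28 yd27 zd16) (kd xd23 yd19 zd35) (kd xd23 yd19 zd43) (kd xd23 yd19 zd48) (kd xd30 yd55 zd15) (kd xd23 yd19 zd53) (kd xd23 yd19 zd60) (kd xd25 yd1 zd50) (kd xd25 yd1 zd49) (kd xd28 yd26 zd14) (kd xd23 yd23 zd4) (kd xd24 yd10 zd15) (kd xd31 yd56 zd14) (kd xd23 yd40 zd38) (kd xd27 yd24 zd29) (kd xd27 yd24 zd34) (kd xd30 yd20 zd28) (kd xd25 yd28 zd56) (kd xd28 yd32 zd30) (kd xd28 yd27 zd15) (kd xd30 yd33 zd11) (kd xd23 yd21 zd9) (kd xd30 yd42 zd2) (kd xd31 yd57 zd36) (kd xd32 yd50 zd52) (kd xd23 yd21 zd15)) (@D3.rec (fun _ => Pt) (kd xd32 yd49 zd31) (kd xd32 yd49 zd23) (kd xd23 yd21 zd18) (kd xd23 yd21 zd19) (kd xd23 yd21 zd26)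 (kd xd23 yd21 zd28) (kd xd28 yd12 zd13) (kd xd29 yd32 zd4) (kd xd30 yd32 zd53) (kd xd23 yd21 zd39) (kd xd31 yd9 zd16) (kd xd23 yd21 zd44) (kd xd23 yd21 zd45) (kd xd23 yd21 zd46) (kd xd31 yd39 zd60) (kd xd30 yd32 zd60) (kd xd23 yd21 zd51) (kd xd23 yd21 zd55) (kd xd26 yd15 zd11) (kd xd26 yd13 zd11) (kd xd26 yd13 zd24) (kd xd28 yd39 zd15) (kd xd32 yd55 zd18) (kd xd28 yd6 zd36) (kd xd30 yd20 zd55) (kd xd31 yd18 zd8) (kd xd31 yd37 zd10) (kd xd26 yd20 zd58) (kd xd26 yd20 zd55) (kd xd32 yd53 zd42) (kd xd27 yd40 zd8) (kd xd32 yd3 zd50) (kd xd31 yd15 zd33) (kd xd24 yd40 zd61) (kd xd26 yd18 zd3) (kd xd24 yd45 zd21) (kd xd23 yd23 zd2) (kd xd28 yd2 zd59) (kd xd31 yd10 zd17) (kd xd31 yd3 zd11) (kd xd23 yd26 zd40) (kd xd31 yd4 zd33) (kd xd32 yd27 zd10) (kd xd31 yd57 zd51) (kd xd31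 yd4 zd36) (kd xd25 yd24 zd30) (kd xd25 yd16 zd23) (kd xd23 yd23 zd37) (kd xd27 yd56 zd15) (kd xd31 yd38 zd53) (kd xd30 yd22 zd23) (kd xd30 yd49 zd10) (kd xd23 yd24 zd16) (kd xd30 yd51 zd11) (kd xd31 yd12 zd21) (kd xd30 yd49 zd20) (kd xd31 yd22 zd12) (kd xd31 yd53 zd27) (kd xd31 yd22 zd14) (kd xd24 yd40 zd0) (kd xd32 yd31 zd60) (kd xd27 yd50 zd6)) (@D3.rec (fun _ => Pt) (kd xd23 yd24 zd37) (kd xd32 yd25 zd41) (kd xd27 yd35 zd19) (kd xd32 yd6 zd6) (kd xd23 yd24 zd38) (kd xd25 yd46 zd23) (kd xd23 yd24 zd46) (kd xd26 yd2 zd55) (kd xd30 yd1 zd61) (kd xd30 yd59 zd42) (kd xd23 yd24 zd56) (kd xd32 yd49 zd0) (kd xd25 yd42 zd49) (kd xd31 yd57 zd38) (kd xd29 yd58 zd34) (kd xd23 yd24 zd60) (kd xd29 yd51 zd34) (kd xd32 yd54 zd4) (kd xd23 yd27 zd52) (kd xd23 yd25 zd0) (kd xd31 yd5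 zd16) (kd xd30 yd40 zd59) (kd xd23 yd25 zd3) (kd xd30 yd42 zd30) (kd xd30 yd42 zd29) (kd xd27 yd46 zd47) (kd xd29 yd0 zd42) (kd xd23 yd41 zd27) (kd xd31 yd12 zd61) (kd xd30 yd2 zd3) (kd xd27 yd56 zd16) (kd xd23 yd25 zd30) (kd xd27 yd40 zd13) (kd xd23 yd25 zd31) (kd xd28 yd13 zd53) (kd xd29 yd29 zd23) (kd xd28 yd28 zd0) (kd xd23 yd25 zd40) (kd xd31 yd59 zd5) (kd xd30 yd42 zd43) (kd xd27 yd44 zd55) (kd xd25 yd11 zd58) (kd xd31 yd36 zd23) (kd xd24 yd57 zd5) (kd xd26 yd0 zd42) (kd xd31 yd4 zd4) (kd xd30 yd57 zd43) (kd xd23 yd25 zd58) (kd xd31 yd58 zd45) (kd xd30 yd2 zd51) (kd xd25 yd42 zd12) (kd xd23 yd34 zd50) (kd xd23 yd26 zd1) (kd xd23 yd41 zd57) (kd xd32 yd28 zd18) (kd xd23 yd26 zd3) (kd xd28 yd41 zd15) (kd xd30 yd40 zd58) (kd xd25 yd23 zd20) (kd xd27 yd41 zd20) (kd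 xd30 yd40 zd57) (kd xd31 yd8 zd56)) (@D3.rec (fun _ => Pt) (kd xd24 yd41 zd10) (kd xd24 yd35 zd11) (kd xd32 yd32 zd21) (kd xd32 yd28 zd17) (kd xd32 yd26 zd35) (kd xd27 yd20 zd46) (kd xd23 yd26 zd23) (kd xd23 yd28 zd24) (kd xd26 yd2 zd26) (kd xd30 yd5 zd33) (kd xd23 yd26 zd29) (kd xd31 yd1 zd39) (kd xd26 yd2 zd32) (kd xd31 yd23 zd31) (kd xd30 yd38 zd53) (kd xd31 yd54 zd5) (kd xd24 yd38 zd27) (kd xd32 yd28 zd3) (kd xd29 yd47 zd56) (kd xd27 yd42 zd50) (kd xd25 yd14 zd39) (kd xd26 yd47 zd41) (kd xd28 yd31 zd18) (kd xd27 yd43 zd43) (kd xd23 yd26 zd50) (kd xd25 yd10 zd37) (kd xd31 yd9 zd13) (kd xd30 yd9 zd57) (kd xd31 yd7 zd35) (kd xd26 yd2 zd3) (kd xd29 yd15 zd34) (kd xd25 yd14 zd20) (kd xd26 yd25 zd39) (kd xd23 yd41 zd59) (kd xd29 yd59 zd48) (kd xd30 yd47 zd32) (kd xd31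 yd54 zd35) (kd xd30 yd47 zd31) (kd xd24 yd8 zd2) (kd xd32 yd14 zd51) (kd xd32 yd14 zd52) (kd xd29 yd59 zd49) (kd xd32 yd6 zd21) (kd xd25 yd30 zd16) (kd xd23 yd27 zd12) (kd xd31 yd37 zd25) (kd xd29 yd53 zd48) (kd xd31 yd56 zd28) (kd xd32 yd30 zd56) (kd xd23 yd27 zd28) (kd xd25 yd24 zd20) (kd xd24 yd16 zd44) (kd xd30 yd41 zd16) (kd xd25 yd57 zd43) (kd xd32 yd16 zd9) (kd xd32 yd5 zd2) (kd xd27 yd17 zd47) (kd xd32 yd9 zd41) (kd xd32 yd44 zd53) (kd xd31 yd29 zd12) (kd xd25 yd14 zd23) (kd xd23 yd45 zd0)) (@D3.rec (fun _ => Pt) (kd xd30 yd8 zd7) (kd xd27 yd36 zd17) (kd xd23 yd27 zd48) (kd xd23 yd27 zd49) (kd xd31 yd2 zd45) (kd xd25 yd14 zd7) (kd xd24 yd20 zd49) (kd xd24 yd36 zd53) (kd xd31 yd54 zd52) (kd xd31 yd47 zd20) (kd xd29 yd11 zd0) (kd xd28 yd11 zd42) (kd xd28 yd40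 zd50) (kd xd30 yd26 zd7) (kd xd29 yd3 zd33) (kd xd31 yd10 zd22) (kd xd30 yd13 zd45) (kd xd24 yd20 zd58) (kd xd31 yd10 zd58) (kd xd29 yd41 zd29) (kd xd29 yd3 zd27) (kd xd31 yd20 zd56) (kd xd30 yd11 zd18) (kd xd25 yd14 zd53) (kd xd23 yd28 zd23) (kd xd23 yd45 zd1) (kd xd26 yd47 zd10) (kd xd31 yd14 zd12) (kd xd29 yd3 zd58) (kd xd31 yd36 zd47) (kd xd30 yd33 zd3) (kd xd32 yd2 zd51) (kd xd23 yd28 zd30) (kd xd31 yd1 zd41) (kd xd27 yd40 zd59) (kd xd25 yd40 zd4) (kd xd31 yd1 zd44) (kd xd31 yd54 zd47) (kd xd31 yd54 zd46) (kd xd29 yd59 zd37) (kd xd29 yd47 zd51) (kd xd23 yd33 zd28) (kd xd32 yd49 zd49) (kd xd29 yd47 zd52) (kd xd31 yd49 zd43) (kd xd31 yd42 zd31) (kd xd23 yd28 zd42) (kd xd31 yd14 zd60) (kd xd31 yd18 zd36) (kd xd29 yd26 zd45) (kd xd31 yd35 zd51) (kd xd24 yd17 zd38)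 (kd xd24 yd17 zd34) (kd xd25 yd13 zd17) (kd xd26 yd4 zd40) (kd xd32 yd43 zd11) (kd xd23 yd28 zd51) (kd xd23 yd28 zd54) (kd xd23 yd28 zd55) (kd xd25 yd39 zd44) (kd xd23 yd29 zd0) (kd xd25 yd40 zd3)) (@D3.rec (fun _ => Pt) (kd xd23 yd37 zd30) (kd xd29 yd43 zd50) (kd xd24 yd10 zd47) (kd xd30 yd41 zd19) (kd xd29 yd49 zd44) (kd xd24 yd33 zd45) (kd xd29 yd32 zd53) (kd xd27 yd54 zd14) (kd xd24 yd37 zd28) (kd xd28 yd6 zd22) (kd xd32 yd29 zd13) (kd xd23 yd43 zd42) (kd xd23 yd33 zd18) (kd xd26 yd47 zd58) (kd xd23 yd42 zd56) (kd xd30 yd41 zd43) (kd xd31 yd2 zd20) (kd xd30 yd56 zd39) (kd xd23 yd38 zd32) (kd xd23 yd38 zd28) (kd xd30 yd41 zd45) (kd xd29 yd55 zd22) (kd xd29 yd53 zd51) (kd xd24 yd33 zd37) (kd xd26 yd15 zd28) (kd xd30 yd51 zd47) (kd xd30 yd58 zd48) (kd xd30 yd13 zd34)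 (kd xd31 yd7 zd24) (kd xd23 yd37 zd36) (kd xd32 yd29 zd6) (kd xd30 yd13 zd15) (kd xd24 yd34 zd24) (kd xd27 yd54 zd13) (kd xd24 yd42 zd3) (kd xd29 yd12 zd44) (kd xd28 yd58 zd10) (kd xd28 yd58 zd7) (kd xd32 yd41 zd30) (kd xd29 yd28 zd17) (kd xd29 yd28 zd18) (kd xd23 yd30 zd15) (kd xd31 yd13 zd2) (kd xd31 yd13 zd3) (kd xd30 yd26 zd9) (kd xd29 yd41 zd18) (kd xd30 yd37 zd17) (kd xd26 yd23 zd52) (kd xd31 yd26 zd34) (kd xd24 yd22 zd6) (kd xd31 yd56 zd23) (kd xd31 yd49 zd48) (kd xd32 yd26 zd22) (kd xd27 yd43 zd32) (kd xd24 yd23 zd56) (kd xd26 yd54 zd12) (kd xd24 yd40 zd20) (kd xd32 yd2 zd60) (kd xd26 yd41 zd12) (kd xd23 yd44 zd2) (kd xd30 yd51 zd61) (kd xd27 yd47 zd26)) (@D3.rec (fun _ => Pt) (kd xd31 yd37 zd35) (kd xd27 yd24 zd31) (kd xd23 yd31 zd9) (kd xd26 yd27 zd43) (kd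 xd26 yd27 zd44) (kd xd30 yd1 zd58) (kd xd29 yd57 zd36) (kd xd24 yd43 zd51) (kd xd28 yd19 zd57) (kd xd24 yd45 zd55) (kd xd23 yd31 zd54) (kd xd23 yd31 zd57) (kd xd30 yd50 zd47) (kd xd23 yd31 zd61) (kd xd32 yd55 zd15) (kd xd23 yd32 zd10) (kd xd24 yd44 zd2) (kd xd25 yd58 zd50) (kd xd32 yd5 zd0) (kd xd29 yd28 zd23) (kd xd23 yd32 zd28) (kd xd31 yd0 zd6) (kd xd28 yd28 zd4) (kd xd31 yd54 zd30) (kd xd30 yd14 zd22) (kd xd28 yd13 zd25) (kd xd31 yd49 zd38) (kd xd23 yd32 zd51) (kd xd23 yd32 zd54) (kd xd23 yd32 zd55) (kd xd29 yd9 zd51) (kd xd32 yd33 zd53) (kd xd32 yd55 zd33) (kd xd26 yd3 zd29) (kd xd32 yd30 zd46) (kd xd26 yd48 zd21) (kd xd23 yd33 zd6) (kd xd24 yd30 zd59) (kd xd29 yd6 zd6) (kd xd23 yd33 zd10) (kd xd26 yd9 zd8) (kd xd23 yd33 zd27) (kd xd30 yd23 zd41) (kd xd31 yd58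 zd13) (kd xd32 yd9 zd19) (kd xd31 yd28 zd45) (kd xd26 yd26 zd2) (kd xd32 yd8 zd59) (kd xd31 yd9 zd27) (kd xd31 yd37 zd2) (kd xd27 yd59 zd60) (kd xd23 yd38 zd56) (kd xd26 yd0 zd31) (kd xd32 yd50 zd48) (kd xd24 yd22 zd53) (kd xd23 yd33 zd56) (kd xd28 yd2 zd17) (kd xd28 yd6 zd43) (kd xd25 yd46 zd8) (kd xd32 yd52 zd15) (kd xd28 yd1 zd50) (kd xd28 yd12 zd7)) (@D3.rec (fun _ => Pt) (kd xd26 yd14 zd6) (kd xd30 yd22 zd18) (kd xd31 yd15 zd20) (kd xd30 yd26 zd47) (kd xd23 yd34 zd39) (kd xd30 yd2 zd48) (kd xd32 yd28 zd12) (kd xd30 yd3 zd4) (kd xd23 yd34 zd52) (kd xd27 yd39 zd45) (kd xd23 yd34 zd57) (kd xd30 yd18 zd15) (kd xd26 yd7 zd33) (kd xd24 yd23 zd38) (kd xd23 yd46 zd45) (kd xd23 yd46 zd43) (kd xd23 yd35 zd14) (kd xd24 yd10 zd19) (kd xd29 yd43 zd53) (kd xd23 yd35 zd40) (kd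 xd23 yd35 zd41) (kd xd32 yd49 zd32) (kd xd32 yd7 zd49) (kd xd30 yd23 zd22) (kd xd31 yd5 zd28) (kd xd23 yd35 zd55) (kd xd27 yd46 zd4) (kd xd23 yd35 zd60) (kd xd30 yd58 zd14) (kd xd31 yd17 zd41) (kd xd32 yd14 zd36) (kd xd23 yd36 zd11) (kd xd25 yd40 zd51) (kd xd24 yd20 zd24) (kd xd31 yd29 zd39) (kd xd31 yd3 zd28) (kd xd31 yd58 zd43) (kd xd23 yd36 zd39) (kd xd23 yd50 zd35) (kd xd28 yd6 zd16) (kd xd26 yd4 zd26) (kd xd27 yd33 zd18) (kd xd29 yd29 zd15) (kd xd31 yd20 zd50) (kd xd26 yd17 zd7) (kd xd32 yd30 zd22) (kd xd26 yd23 zd33) (kd xd32 yd32 zd38) (kd xd24 yd10 zd44) (kd xd27 yd33 zd36) (kd xd32 yd55 zd40) (kd xd23 yd37 zd6) (kd xd23 yd37 zd8) (kd xd24 yd0 zd24) (kd xd23 yd37 zd16) (kd xd25 yd14 zd48) (kd xd27 yd4 zd36) (kd xd23 yd37 zd22) (kd xd30 yd33 zd10) (kd xd25 yd39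 zd2) (kd xd23 yd37 zd24) (kd xd31 yd37 zd51)) (@D3.rec (fun _ => Pt) (kd xd23 yd37 zd27) (kd xd23 yd37 zd29) (kd xd23 yd44 zd24) (kd xd23 yd44 zd25) (kd xd23 yd40 zd60) (kd xd31 yd10 zd39) (kd xd24 yd32 zd48) (kd xd25 yd49 zd31) (kd xd24 yd32 zd60) (kd xd25 yd3 zd47) (kd xd25 yd3 zd46) (kd xd31 yd37 zd61) (kd xd31 yd37 zd60) (kd xd24 yd41 zd19) (kd xd23 yd37 zd54) (kd xd31 yd59 zd32) (kd xd31 yd59 zd31) (kd xd27 yd25 zd51) (kd xd29 yd51 zd31) (kd xd27 yd50 zd4) (kd xd29 yd54 zd17) (kd xd29 yd12 zd30) (kd xd25 yd41 zd26) (kd xd32 yd32 zd40) (kd xd32 yd55 zd19) (kd xd23 yd38 zd20) (kd xd23 yd44 zd51) (kd xd27 yd26 zd57) (kd xd28 yd12 zd27) (kd xd30 yd41 zd6) (kd xd23 yd38 zd34) (kd xd30 yd5 zd24) (kd xd24 yd43 zd39) (kd xd30 yd0 zd19) (kd xd24 yd39 zd37) (kd xd24 yd31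 zd57) (kd xd32 yd26 zd27) (kd xd32 yd55 zd6) (kd xd28 yd10 zd35) (kd xd29 yd9 zd59) (kd xd28 yd11 zd28) (kd xd28 yd11 zd51) (kd xd32 yd42 zd53) (kd xd26 yd47 zd13) (kd xd26 yd47 zd29) (kd xd26 yd47 zd28) (kd xd27 yd58 zd4) (kd xd32 yd26 zd58) (kd xd23 yd38 zd37) (kd xd26 yd18 zd11) (kd xd23 yd38 zd39) (kd xd26 yd47 zd47) (kd xd32 yd48 zd23) (kd xd23 yd38 zd40) (kd xd31 yd56 zd47) (kd xd31 yd57 zd30) (kd xd31 yd2 zd61) (kd xd23 yd41 zd52) (kd xd23 yd41 zd53) (kd xd23 yd38 zd46) (kd xd25 yd42 zd13) (kd xd25 yd42 zd14)) (@D3.rec (fun _ => Pt) (kd xd26 yd0 zd29) (kd xd30 yd38 zd55) (kd xd30 yd12 zd1) (kd xd26 yd47 zd52) (kd xd32 yd49 zd21) (kd xd32 yd0 zd37) (kd xd29 yd10 zd22) (kd xd26 yd47 zd32) (kd xd24 yd32 zd18) (kd xd29 yd34 zd45) (kd xd25 yd14 zd51) (kd xd29 yd34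 zd47) (kd xd26 yd48 zd30) (kd xd31 yd3 zd26) (kd xd27 yd1 zd1) (kd xd27 yd22 zd17) (kd xd31 yd1 zd10) (kd xd25 yd54 zd12) (kd xd24 yd10 zd23) (kd xd23 yd39 zd15) (kd xd31 yd36 zd46) (kd xd31 yd13 zd0) (kd xd30 yd9 zd45) (kd xd23 yd39 zd19) (kd xd31 yd23 zd60) (kd xd32 yd55 zd45) (kd xd23 yd39 zd22) (kd xd31 yd6 zd48) (kd xd32 yd38 zd6) (kd xd25 yd53 zd43) (kd xd32 yd22 zd10) (kd xd23 yd39 zd26) (kd xd31 yd44 zd61) (kd xd32 yd49 zd19) (kd xd30 yd10 zd10) (kd xd24 yd38 zd2) (kd xd29 yd5 zd37) (kd xd25 yd10 zd54) (kd xd24 yd17 zd33) (kd xd28 yd4 zd36) (kd xd30 yd55 zd9) (kd xd23 yd39 zd34) (kd xd27 yd42 zd23) (kd xd24 yd4 zd40) (kd xd31 yd24 zd40) (kd xd30 yd4 zd50) (kd xd23 yd39 zd36) (kd xd30 yd33 zd1) (kd xd24 yd17 zd25) (kd xd24 yd4 zd44) (kd xd23 yd39 zd37) (kd xd29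 yd47 zd58) (kd xd25 yd9 zd24) (kd xd25 yd11 zd50) (kd xd32 yd32 zd9) (kd xd25 yd30 zd7) (kd xd25 yd30 zd6) (kd xd23 yd39 zd42) (kd xd30 yd13 zd44) (kd xd30 yd13 zd43) (kd xd31 yd18 zd30) (kd xd32 yd49 zd34)) (@D3.rec (fun _ => Pt) (kd xd23 yd39 zd45) (kd xd28 yd31 zd9) (kd xd24 yd43 zd43) (kd xd29 yd5 zd39) (kd xd31 yd49 zd5) (kd xd24 yd14 zd51) (kd xd29 yd1 zd21) (kd xd24 yd39 zd22) (kd xd26 yd47 zd56) (kd xd24 yd23 zd23) (kd xd28 yd13 zd34) (kd xd24 yd23 zd18) (kd xd24 yd23 zd20) (kd xd29 yd59 zd36) (kd xd30 yd38 zd54) (kd xd32 yd31 zd39) (kd xd31 yd27 zd45) (kd xd31 yd1 zd38) (kd xd31 yd53 zd54) (kd xd31 yd18 zd31) (kd xd29 yd17 zd17) (kd xd31 yd48 zd11) (kd xd31 yd4 zd15) (kd xd26 yd54 zd58) (kd xd29 yd42 zd54) (kd xd23 yd40 zd26) (kd xd29 yd10 zd9) (kd xd29 yd9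 zd61) (kd xd30 yd13 zd5) (kd xd29 yd12 zd24) (kd xd23 yd40 zd42) (kd xd30 yd37 zd25) (kd xd32 yd32 zd15) (kd xd23 yd40 zd44) (kd xd23 yd40 zd46) (kd xd29 yd15 zd31) (kd xd23 yd43 zd41) (kd xd29 yd15 zd32) (kd xd30 yd18 zd12) (kd xd31 yd8 zd5) (kd xd30 yd43 zd47) (kd xd29 yd4 zd18) (kd xd25 yd23 zd12) (kd xd32 yd55 zd52) (kd xd31 yd53 zd34) (kd xd23 yd40 zd61) (kd xd30 yd40 zd29) (kd xd23 yd41 zd2) (kd xd32 yd0 zd43) (kd xd29 yd57 zd13) (kd xd28 yd42 zd2) (kd xd23 yd41 zd10) (kd xd29 yd15 zd35) (kd xd29 yd49 zd34) (kd xd29 yd15 zd37) (kd xd32 yd35 zd6) (kd xd23 yd41 zd18) (kd xd25 yd38 zd53) (kd xd31 yd4 zd18) (kd xd27 yd40 zd50) (kd xd29 yd51 zd56) (kd xd27 yd56 zd19)) (@D3.rec (fun _ => Pt) (kd xd24 yd27 zd36) (kd xd31 yd34 zd44) (kd xd24 yd32 zd9) (kd xd23 yd41 zd31)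 (kd xd27 yd44 zd10) (kd xd32 yd3 zd51) (kd xd23 yd41 zd35) (kd xd30 yd34 zd56) (kd xd30 yd42 zd38) (kd xd32 yd9 zd54) (kd xd23 yd41 zd37) (kd xd24 yd37 zd9) (kd xd24 yd17 zd15) (kd xd24 yd23 zd58) (kd xd25 yd14 zd10) (kd xd23 yd41 zd43) (kd xd32 yd55 zd54) (kd xd26 yd45 zd46) (kd xd23 yd41 zd48) (kd xd32 yd26 zd57) (kd xd32 yd54 zd13) (kd xd31 yd57 zd3) (kd xd32 yd26 zd24) (kd xd29 yd51 zd57) (kd xd31 yd37 zd31) (kd xd30 yd10 zd11) (kd xd32 yd44 zd19) (kd xd27 yd59 zd17) (kd xd28 yd1 zd19) (kd xd23 yd42 zd19) (kd xd23 yd42 zd23) (kd xd27 yd31 zd56) (kd xd23 yd42 zd57) (kd xd23 yd44 zd29) (kd xd23 yd43 zd43) (kd xd29 yd36 zd27) (kd xd29 yd17 zd32) (kd xd24 yd33 zd32) (kd xd27 yd56 zd41) (kd xd25 yd0 zd47) (kd xd28 yd2 zd1) (kd xd23 yd43 zd17) (kd xd32 yd31 zd29) (kd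 xd27 yd28 zd43) (kd xd24 yd34 zd19) (kd xd32 yd38 zd20) (kd xd32 yd55 zd57) (kd xd23 yd43 zd25) (kd xd23 yd43 zd33) (kd xd29 yd22 zd4) (kd xd23 yd43 zd35) (kd xd25 yd14 zd40) (kd xd31 yd41 zd50) (kd xd23 yd43 zd38) (kd xd30 yd13 zd20) (kd xd23 yd43 zd40) (kd xd23 yd44 zd23) (kd xd30 yd31 zd12) (kd xd32 yd36 zd36) (kd xd23 yd43 zd52) (kd xd23 yd43 zd56) (kd xd23 yd43 zd57)) (@D3.rec (fun _ => Pt) (kd xd27 yd28 zd7) (kd xd23 yd43 zd58) (kd xd23 yd44 zd0) (kd xd23 yd44 zd1) (kd xd26 yd0 zd53) (kd xd23 yd44 zd26) (kd xd30 yd32 zd6) (kd xd30 yd32 zd8) (kd xd32 yd4 zd58) (kd xd32 yd19 zd48) (kd xd32 yd16 zd10) (kd xd29 yd11 zd4) (kd xd31 yd37 zd47) (kd xd25 yd41 zd9) (kd xd31 yd46 zd45) (kd xd31 yd55 zd0) (kd xd25 yd41 zd8) (kd xd30 yd0 zd23) (kd xd31 yd29 zd51) (kd xd23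 yd45 zd4) (kd xd23 yd45 zd6) (kd xd31 yd1 zd54) (kd xd30 yd32 zd2) (kd xd27 yd57 zd42) (kd xd32 yd32 zd24) (kd xd24 yd28 zd12) (kd xd31 yd37 zd54) (kd xd30 yd15 zd46) (kd xd23 yd45 zd32) (kd xd32 yd16 zd59) (kd xd32 yd52 zd8) (kd xd23 yd45 zd36) (kd xd23 yd49 zd1) (kd xd28 yd46 zd6) (kd xd25 yd53 zd9) (kd xd30 yd35 zd28) (kd xd23 yd45 zd43) (kd xd32 yd21 zd20) (kd xd23 yd45 zd46) (kd xd32 yd21 zd32) (kd xd24 yd12 zd14) (kd xd30 yd38 zd25) (kd xd30 yd55 zd49) (kd xd28 yd42 zd25) (kd xd28 yd42 zd26) (kd xd25 yd48 zd59) (kd xd23 yd57 zd1) (kd xd23 yd56 zd58) (kd xd24 yd34 zd44) (kd xd24 yd6 zd28) (kd xd31 yd22 zd44) (kd xd31 yd22 zd33) (kd xd23 yd46 zd11) (kd xd32 yd53 zd55) (kd xd24 yd34 zd43) (kd xd23 yd46 zd19) (kd xd23 yd49 zd34) (kd xd24 yd32 zd25) (kd xd29 yd37 zd37)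 (kd xd25 yd51 zd29) (kd xd25 yd28 zd8) (kd xd31 yd2 zd28)) (@D3.rec (fun _ => Pt) (kd xd31 yd9 zd21) (kd xd27 yd18 zd26) (kd xd31 yd5 zd42) (kd xd31 yd5 zd43) (kd xd23 yd46 zd55) (kd xd23 yd46 zd58) (kd xd32 yd50 zd39) (kd xd28 yd57 zd0) (kd xd24 yd10 zd48) (kd xd25 yd56 zd22) (kd xd28 yd50 zd52) (kd xd23 yd47 zd12) (kd xd26 yd21 zd14) (kd xd30 yd5 zd61) (kd xd28 yd25 zd1) (kd xd30 yd22 zd28) (kd xd23 yd47 zd26) (kd xd28 yd23 zd0) (kd xd30 yd48 zd11) (kd xd28 yd59 zd21) (kd xd30 yd16 zd52) (kd xd28 yd23 zd17) (kd xd30 yd37 zd10) (kd xd23 yd47 zd40) (kd xd32 yd39 zd15) (kd xd30 yd11 zd39) (kd xd32 yd56 zd2) (kd xd23 yd47 zd57) (kd xd23 yd54 zd28) (kd xd32 yd15 zd20) (kd xd32 yd14 zd50) (kd xd30 yd56 zd51) (kd xd28 yd45 zd1) (kd xd29 yd54 zd36) (kd xd28 yd52 zd48) (kd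 xd24 yd3 zd58) (kd xd29 yd36 zd2) (kd xd32 yd24 zd36) (kd xd32 yd39 zd21) (kd xd30 yd46 zd41) (kd xd32 yd44 zd26) (kd xd29 yd48 zd25) (kd xd24 yd10 zd40) (kd xd31 yd25 zd57) (kd xd29 yd35 zd50) (kd xd30 yd15 zd53) (kd xd24 yd29 zd52) (kd xd25 yd52 zd39) (kd xd29 yd1 zd57) (kd xd32 yd45 zd15) (kd xd24 yd7 zd42) (kd xd30 yd25 zd19) (kd xd32 yd21 zd28) (kd xd32 yd56 zd4) (kd xd25 yd43 zd58) (kd xd30 yd14 zd58) (kd xd32 yd22 zd43) (kd xd23 yd48 zd58) (kd xd32 yd46 zd3) (kd xd23 yd49 zd0) (kd xd28 yd46 zd17) (kd xd30 yd29 zd3)) (@D3.rec (fun _ => Pt) (kd xd29 yd30 zd41) (kd xd29 yd43 zd61) (kd xd26 yd34 zd60) (kd xd32 yd13 zd9) (kd xd32 yd50 zd24) (kd xd24 yd26 zd14) (kd xd32 yd44 zd20) (kd xd28 yd22 zd5) (kd xd23 yd56 zd55) (kd xd28 yd59 zd61) (kd xd29 yd32 zd44) (kd xd24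 yd19 zd19) (kd xd31 yd4 zd27) (kd xd30 yd23 zd36) (kd xd26 yd2 zd9) (kd xd24 yd19 zd30) (kd xd23 yd49 zd39) (kd xd23 yd49 zd40) (kd xd23 yd49 zd43) (kd xd23 yd51 zd6) (kd xd26 yd13 zd6) (kd xd25 yd18 zd51) (kd xd27 yd52 zd35) (kd xd23 yd50 zd1) (kd xd30 yd8 zd12) (kd xd24 yd40 zd45) (kd xd32 yd25 zd5) (kd xd23 yd50 zd11) (kd xd27 yd55 zd10) (kd xd28 yd32 zd13) (kd xd32 yd29 zd57) (kd xd26 yd15 zd16) (kd xd32 yd5 zd40) (kd xd26 yd16 zd45) (kd xd24 yd18 zd18) (kd xd30 yd24 zd14) (kd xd32 yd36 zd26) (kd xd29 yd31 zd11) (kd xd32 yd10 zd24) (kd xd23 yd50 zd30) (kd xd24 yd48 zd4) (kd xd31 yd15 zd32) (kd xd28 yd25 zd44) (kd xd23 yd50 zd33) (kd xd32 yd28 zd32) (kd xd27 yd31 zd27) (kd xd27 yd48 zd45) (kd xd27 yd28 zd1) (kd xd30 yd2 zd27) (kd xd32 yd32 zd32) (kd xd32 yd52 zd22)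 (kd xd28 yd25 zd52) (kd xd27 yd53 zd36) (kd xd23 yd50 zd54) (kd xd32 yd56 zd10) (kd xd31 yd37 zd37) (kd xd32 yd32 zd43) (kd xd32 yd56 zd11) (kd xd23 yd50 zd56) (kd xd32 yd32 zd31) (kd xd31 yd4 zd47) (kd xd32 yd26 zd46)) (@D3.rec (fun _ => Pt) (kd xd26 yd50 zd52) (kd xd30 yd38 zd37) (kd xd23 yd51 zd12) (kd xd26 yd52 zd38) (kd xd23 yd51 zd15) (kd xd28 yd25 zd43) (kd xd31 yd39 zd20) (kd xd26 yd28 zd50) (kd xd32 yd9 zd35) (kd xd28 yd6 zd60) (kd xd32 yd37 zd14) (kd xd23 yd51 zd18) (kd xd30 yd45 zd47) (kd xd32 yd37 zd13) (kd xd23 yd51 zd20) (kd xd31 yd19 zd12) (kd xd32 yd50 zd38) (kd xd31 yd17 zd29) (kd xd32 yd34 zd15) (kd xd30 yd28 zd49) (kd xd31 yd7 zd2) (kd xd30 yd25 zd59) (kd xd32 yd7 zd21) (kd xd28 yd5 zd25) (kd xd27 yd34 zd16) (kd xd26 yd31 zd4) (kd xd23 yd51 zd40)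 (kd xd31 yd45 zd34) (kd xd23 yd51 zd41) (kd xd32 yd46 zd38) (kd xd32 yd28 zd48) (kd xd31 yd39 zd61) (kd xd31 yd14 zd41) (kd xd31 yd1 zd32) (kd xd25 yd3 zd45) (kd xd24 yd31 zd7) (kd xd27 yd15 zd23) (kd xd28 yd46 zd29) (kd xd23 yd52 zd3) (kd xd30 yd23 zd16) (kd xd29 yd54 zd48) (kd xd28 yd28 zd55) (kd xd23 yd52 zd30) (kd xd23 yd55 zd60) (kd xd30 yd26 zd33) (kd xd31 yd17 zd21) (kd xd31 yd18 zd48) (kd xd32 yd34 zd50) (kd xd30 yd46 zd30) (kd xd30 yd44 zd4) (kd xd30 yd45 zd3) (kd xd23 yd53 zd10) (kd xd25 yd18 zd27) (kd xd32 yd24 zd15) (kd xd32 yd35 zd53) (kd xd23 yd53 zd14) (kd xd30 yd31 zd24) (kd xd32 yd55 zd0) (kd xd24 yd30 zd15) (kd xd24 yd28 zd51) (kd xd23 yd59 zd55) (kd xd24 yd23 zd44)) (@D3.rec (fun _ => Pt) (kd xd23 yd53 zd24) (kd xd32 yd2 zd37) (kd xd31 yd55 zd12)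 (kd xd32 yd37 zd2) (kd xd31 yd23 zd13) (kd xd32 yd53 zd7) (kd xd23 yd53 zd33) (kd xd30 yd27 zd37) (kd xd30 yd49 zd25) (kd xd23 yd53 zd43) (kd xd26 yd58 zd1) (kd xd28 yd58 zd60) (kd xd23 yd54 zd0) (kd xd28 yd23 zd33) (kd xd28 yd23 zd34) (kd xd24 yd1 zd52) (kd xd25 yd56 zd46) (kd xd23 yd54 zd7) (kd xd27 yd32 zd25) (kd xd27 yd32 zd47) (kd xd25 yd45 zd44) (kd xd30 yd30 zd51) (kd xd32 yd44 zd7) (kd xd32 yd36 zd16) (kd xd24 yd30 zd24) (kd xd25 yd49 zd1) (kd xd31 yd17 zd19) (kd xd29 yd47 zd7) (kd xd31 yd20 zd22) (kd xd32 yd56 zd19) (kd xd23 yd54 zd24) (kd xd31 yd59 zd46) (kd xd32 yd43 zd21) (kd xd31 yd21 zd60) (kd xd27 yd38 zd37) (kd xd32 yd56 zd20) (kd xd23 yd54 zd27) (kd xd24 yd13 zd20) (kd xd31 yd58 zd47) (kd xd23 yd54 zd29) (kd xd28 yd31 zd56) (kd xd23 yd54 zd30) (kd xd23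 yd54 zd57) (kd xd23 yd54 zd58) (kd xd30 yd42 zd37) (kd xd32 yd46 zd6) (kd xd30 yd27 zd0) (kd xd23 yd54 zd40) (kd xd32 yd43 zd49) (kd xd23 yd54 zd44) (kd xd23 yd54 zd46) (kd xd23 yd54 zd48) (kd xd23 yd55 zd2) (kd xd31 yd49 zd24) (kd xd25 yd7 zd18) (kd xd31 yd32 zd2) (kd xd32 yd56 zd22) (kd xd23 yd54 zd56) (kd xd32 yd49 zd26) (kd xd30 yd34 zd48) (kd xd30 yd34 zd49) (kd xd24 yd30 zd55)) (@D3.rec (fun _ => Pt) (kd xd29 yd21 zd57) (kd xd32 yd24 zd16) (kd xd31 yd18 zd53) (kd xd25 yd32 zd50) (kd xd23 yd55 zd21) (kd xd24 yd49 zd37) (kd xd30 yd34 zd45) (kd xd31 yd24 zd28) (kd xd23 yd55 zd34) (kd xd23 yd55 zd37) (kd xd31 yd22 zd2) (kd xd32 yd27 zd15) (kd xd23 yd55 zd44) (kd xd23 yd55 zd46) (kd xd27 yd37 zd19) (kd xd25 yd42 zd3) (kd xd24 yd27 zd23) (kd xd30 yd32 zd61) (kd xd23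 yd55 zd52) (kd xd31 yd16 zd26) (kd xd30 yd33 zd8) (kd xd31 yd15 zd45) (kd xd32 yd53 zd47) (kd xd30 yd37 zd2) (kd xd24 yd33 zd41) (kd xd23 yd56 zd8) (kd xd27 yd53 zd61) (kd xd30 yd35 zd17) (kd xd29 yd47 zd49) (kd xd31 yd15 zd17) (kd xd30 yd32 zd32) (kd xd31 yd27 zd18) (kd xd23 yd56 zd27) (kd xd23 yd56 zd33) (kd xd23 yd56 zd35) (kd xd28 yd19 zd44) (kd xd23 yd56 zd36) (kd xd30 yd46 zd52) (kd xd25 yd24 zd10) (kd xd29 yd40 zd22) (kd xd32 yd41 zd17) (kd xd31 yd7 zd29) (kd xd32 yd39 zd18) (kd xd24 yd1 zd16) (kd xd24 yd1 zd17) (kd xd27 yd44 zd21) (kd xd30 yd38 zd19) (kd xd31 yd30 zd27) (kd xd31 yd30 zd25) (kd xd24 yd25 zd3) (kd xd32 yd52 zd14) (kd xd28 yd45 zd20) (kd xd31 yd40 zd25) (kd xd32 yd43 zd43) (kd xd23 yd57 zd24) (kd xd28 yd53 zd56) (kd xd23 yd57 zd28) (kd xd23 yd57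 zd30) (kd xd23 yd57 zd31) (kd xd28 yd34 zd21) (kd xd24 yd28 zd32) (kd xd24 yd47 zd28)) (@D3.rec (fun _ => Pt) (kd xd23 yd57 zd33) (kd xd28 yd44 zd13) (kd xd23 yd57 zd48) (kd xd30 yd14 zd54) (kd xd23 yd57 zd50) (kd xd32 yd18 zd10) (kd xd26 yd53 zd50) (kd xd31 yd25 zd21) (kd xd31 yd1 zd25) (kd xd29 yd32 zd42) (kd xd32 yd17 zd12) (kd xd28 yd45 zd21) (kd xd23 yd58 zd19) (kd xd29 yd31 zd45) (kd xd26 yd42 zd44) (kd xd23 yd58 zd36) (kd xd26 yd22 zd10) (kd xd25 yd37 zd8) (kd xd25 yd34 zd46) (kd xd31 yd21 zd57) (kd xd32 yd42 zd59) (kd xd32 yd55 zd31) (kd xd25 yd45 zd2) (kd xd23 yd59 zd2) (kd xd30 yd4 zd32) (kd xd29 yd11 zd52) (kd xd23 yd59 zd8) (kd xd24 yd19 zd39) (kd xd30 yd8 zd21) (kd xd31 yd57 zd22) (kd xd31 yd9 zd60) (kd xd31 yd10 zd19) (kd xd23 yd59 zd35) (kd xd32 yd56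 zd25) (kd xd27 yd41 zd0) (kd xd32 yd55 zd26) (kd xd31 yd4 zd48) (kd xd31 yd35 zd20) (kd xd23 yd59 zd48) (kd xd23 yd59 zd49) (kd xd32 yd33 zd46) (kd xd32 yd32 zd35) (kd xd28 yd53 zd24) (kd xd30 yd18 zd43) (kd xd31 yd30 zd14) (kd xd27 yd15 zd5) (kd xd28 yd47 zd53) (kd xd26 yd23 zd20) (kd xd31 yd15 zd46) (kd xd32 yd56 zd26) (kd xd32 yd36 zd45) (kd xd30 yd34 zd52) (kd xd28 yd23 zd4) (kd xd31 yd17 zd2) (kd xd24 yd4 zd12) (kd xd24 yd0 zd3) (kd xd31 yd24 zd20) (kd xd29 yd1 zd16) (kd xd24 yd4 zd19) (kd xd26 yd39 zd6) (kd xd24 yd0 zd14) (kd xd24 yd0 zd16)) (@D3.rec (fun _ => Pt) (kd xd26 yd45 zd13) (kd xd26 yd59 zd39) (kd xd24 yd0 zd18) (kd xd24 yd0 zd19) (kd xd32 yd12 zd10) (kd xd29 yd26 zd13) (kd xd24 yd0 zd30) (kd xd24 yd16 zd39) (kd xd29 yd26 zd9) (kd xd29 yd26 zd11) (kd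 xd30 yd42 zd40) (kd xd32 yd56 zd28) (kd xd31 yd15 zd15) (kd xd24 yd25 zd44) (kd xd29 yd21 zd35) (kd xd29 yd35 zd24) (kd xd28 yd17 zd1) (kd xd30 yd2 zd34) (kd xd24 yd0 zd52) (kd xd30 yd22 zd24) (kd xd29 yd42 zd10) (kd xd24 yd3 zd26) (kd xd24 yd26 zd7) (kd xd30 yd35 zd24) (kd xd29 yd10 zd39) (kd xd32 yd11 zd30) (kd xd32 yd4 zd18) (kd xd24 yd0 zd60) (kd xd32 yd56 zd29) (kd xd31 yd50 zd50) (kd xd29 yd30 zd38) (kd xd29 yd42 zd9) (kd xd32 yd0 zd51) (kd xd31 yd48 zd6) (kd xd32 yd40 zd24) (kd xd29 yd49 zd5) (kd xd32 yd28 zd7) (kd xd26 yd35 zd5) (kd xd24 yd4 zd49) (kd xd31 yd48 zd23) (kd xd24 yd1 zd19) (kd xd24 yd1 zd21) (kd xd27 yd22 zd48) (kd xd31 yd56 zd45) (kd xd32 yd37 zd41) (kd xd24 yd1 zd31) (kd xd30 yd15 zd56) (kd xd32 yd56 zd31) (kd xd24 yd1 zd33) (kd xd24 yd26 zd26)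 (kd xd32 yd46 zd18) (kd xd27 yd8 zd31) (kd xd24 yd1 zd44) (kd xd32 yd20 zd24) (kd xd27 yd23 zd15) (kd xd26 yd52 zd61) (kd xd31 yd40 zd44) (kd xd24 yd1 zd54) (kd xd31 yd54 zd31) (kd xd32 yd45 zd33) (kd xd32 yd38 zd35) (kd xd32 yd2 zd16)) (@D3.rec (fun _ => Pt) (kd xd32 yd48 zd30) (kd xd27 yd17 zd35) (kd xd31 yd32 zd28) (kd xd32 yd2 zd17) (kd xd31 yd41 zd18) (kd xd31 yd40 zd6) (kd xd29 yd51 zd45) (kd xd29 yd40 zd44) (kd xd24 yd4 zd6) (kd xd30 yd3 zd50) (kd xd27 yd6 zd1) (kd xd27 yd6 zd0) (kd xd30 yd56 zd26) (kd xd32 yd14 zd29) (kd xd28 yd25 zd24) (kd xd26 yd34 zd56) (kd xd27 yd10 zd41) (kd xd26 yd37 zd26) (kd xd32 yd41 zd21) (kd xd24 yd2 zd24) (kd xd32 yd38 zd57) (kd xd32 yd2 zd12) (kd xd31 yd16 zd28) (kd xd26 yd16 zd2) (kd xd26 yd37 zd14) (kd xd26 yd0 zd9) (kd xd32 yd24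 zd10) (kd xd24 yd2 zd36) (kd xd27 yd7 zd57) (kd xd32 yd23 zd56) (kd xd24 yd2 zd38) (kd xd28 yd51 zd31) (kd xd32 yd46 zd40) (kd xd24 yd2 zd43) (kd xd25 yd37 zd24) (kd xd29 yd6 zd18) (kd xd32 yd14 zd30) (kd xd24 yd2 zd47) (kd xd32 yd51 zd50) (kd xd29 yd39 zd60) (kd xd24 yd2 zd48) (kd xd31 yd33 zd39) (kd xd32 yd56 zd38) (kd xd25 yd15 zd7) (kd xd32 yd24 zd8) (kd xd24 yd2 zd58) (kd xd30 yd24 zd46) (kd xd31 yd51 zd36) (kd xd24 yd3 zd6) (kd xd24 yd48 zd55) (kd xd31 yd7 zd43) (kd xd24 yd58 zd32) (kd xd29 yd49 zd11) (kd xd24 yd58 zd37) (kd xd24 yd35 zd37) (kd xd24 yd11 zd8) (kd xd31 yd4 zd21) (kd xd32 yd0 zd38) (kd xd30 yd24 zd11) (kd xd32 yd22 zd30) (kd xd29 yd7 zd37) (kd xd28 yd46 zd23)) (@D3.rec (fun _ => Pt) (kd xd30 yd15 zd49) (kd xd24 yd3 zd23) (kd xd29 yd40 zd6) (kd xd24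 yd3 zd25) (kd xd32 yd51 zd2) (kd xd24 yd3 zd27) (kd xd30 yd7 zd49) (kd xd25 yd10 zd17) (kd xd24 yd3 zd31) (kd xd24 yd3 zd34) (kd xd24 yd3 zd43) (kd xd29 yd44 zd59) (kd xd30 yd22 zd59) (kd xd32 yd53 zd3) (kd xd24 yd3 zd46) (kd xd32 yd56 zd40) (kd xd24 yd3 zd48) (kd xd30 yd21 zd58) (kd xd32 yd46 zd1) (kd xd24 yd3 zd50) (kd xd32 yd40 zd45) (kd xd24 yd3 zd53) (kd xd32 yd44 zd43) (kd xd26 yd54 zd41) (kd xd32 yd56 zd41) (kd xd24 yd3 zd54) (kd xd25 yd19 zd59) (kd xd24 yd33 zd19) (kd xd29 yd15 zd5) (kd xd32 yd13 zd60) (kd xd30 yd19 zd27) (kd xd29 yd44 zd61) (kd xd24 yd3 zd57) (kd xd31 yd32 zd11) (kd xd31 yd41 zd34) (kd xd32 yd39 zd20) (kd xd32 yd52 zd52) (kd xd24 yd3 zd60) (kd xd24 yd35 zd53) (kd xd25 yd31 zd52) (kd xd31 yd21 zd56) (kd xd28 yd20 zd51) (kd xd24 yd4 zd11) (kd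 xd25 yd50 zd29) (kd xd26 yd57 zd10) (kd xd31 yd28 zd29) (kd xd32 yd37 zd34) (kd xd32 yd36 zd15) (kd xd24 yd4 zd14) (kd xd29 yd9 zd30) (kd xd29 yd44 zd19) (kd xd24 yd4 zd16) (kd xd24 yd4 zd17) (kd xd28 yd45 zd58) (kd xd32 yd46 zd42) (kd xd25 yd24 zd21) (kd xd31 yd21 zd40) (kd xd31 yd18 zd19) (kd xd24 yd4 zd26) (kd xd24 yd4 zd29) (kd xd31 yd16 zd33) (kd xd32 yd17 zd57)) (@D3.rec (fun _ => Pt) (kd xd24 yd4 zd32) (kd xd31 yd34 zd23) (kd xd31 yd17 zd10) (kd xd24 yd34 zd0) (kd xd24 yd4 zd35) (kd xd32 yd52 zd57) (kd xd24 yd4 zd41) (kd xd24 yd4 zd42) (kd xd25 yd5 zd20) (kd xd24 yd11 zd30) (kd xd24 yd11 zd31) (kd xd26 yd52 zd53) (kd xd31 yd1 zd56) (kd xd25 yd10 zd51) (kd xd31 yd1 zd58) (kd xd24 yd5 zd14) (kd xd31 yd24 zd37) (kd xd29 yd15 zd40) (kd xd27 yd11 zd21) (kd xd29 yd48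 zd2) (kd xd30 yd15 zd7) (kd xd26 yd20 zd29) (kd xd24 yd5 zd25) (kd xd24 yd5 zd33) (kd xd24 yd5 zd35) (kd xd32 yd18 zd24) (kd xd32 yd34 zd40) (kd xd24 yd5 zd46) (kd xd24 yd5 zd48) (kd xd24 yd5 zd49) (kd xd28 yd55 zd43) (kd xd28 yd24 zd3) (kd xd24 yd5 zd53) (kd xd31 yd12 zd51) (kd xd24 yd24 zd27) (kd xd27 yd8 zd40) (kd xd32 yd56 zd44) (kd xd24 yd6 zd3) (kd xd32 yd52 zd54) (kd xd24 yd6 zd4) (kd xd24 yd6 zd5) (kd xd30 yd27 zd35) (kd xd27 yd19 zd2) (kd xd31 yd33 zd27) (kd xd31 yd12 zd50) (kd xd26 yd57 zd3) (kd xd29 yd8 zd54) (kd xd24 yd6 zd21) (kd xd30 yd23 zd39) (kd xd31 yd32 zd44) (kd xd32 yd51 zd54) (kd xd24 yd6 zd30) (kd xd29 yd8 zd24) (kd xd30 yd50 zd45) (kd xd29 yd8 zd19) (kd xd24 yd6 zd44) (kd xd24 yd53 zd33) (kd xd32 yd54 zd46) (kd xd32 yd37 zd18) (kd xd28 yd53 zd10)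 (kd xd30 yd46 zd29) (kd xd30 yd39 zd44)) (@D3.rec (fun _ => Pt) (kd xd32 yd52 zd19) (kd xd24 yd6 zd50) (kd xd32 yd34 zd49) (kd xd24 yd14 zd11) (kd xd24 yd6 zd51) (kd xd24 yd6 zd54) (kd xd24 yd6 zd55) (kd xd30 yd46 zd50) (kd xd30 yd46 zd51) (kd xd24 yd6 zd57) (kd xd30 yd43 zd22) (kd xd26 yd49 zd22) (kd xd26 yd43 zd46) (kd xd31 yd16 zd4) (kd xd24 yd12 zd27) (kd xd28 yd28 zd14) (kd xd28 yd0 zd29) (kd xd25 yd56 zd32) (kd xd25 yd51 zd20) (kd xd32 yd41 zd59) (kd xd24 yd7 zd40) (kd xd32 yd23 zd54) (kd xd24 yd7 zd41) (kd xd32 yd32 zd45) (kd xd25 yd29 zd23) (kd xd24 yd7 zd48) (kd xd28 yd56 zd55) (kd xd24 yd7 zd60) (kd xd24 yd7 zd61) (kd xd27 yd42 zd7) (kd xd25 yd34 zd16) (kd xd31 yd3 zd13) (kd xd30 yd24 zd25) (kd xd29 yd1 zd5) (kd xd32 yd17 zd21) (kd xd32 yd39 zd9) (kd xd29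 yd37 zd16) (kd xd27 yd22 zd25) (kd xd28 yd8 zd34) (kd xd29 yd37 zd10) (kd xd25 yd11 zd40) (kd xd24 yd9 zd4) (kd xd24 yd13 zd55) (kd xd26 yd51 zd8) (kd xd30 yd45 zd17) (kd xd26 yd51 zd48) (kd xd24 yd15 zd3) (kd xd24 yd16 zd22) (kd xd24 yd9 zd31) (kd xd30 yd37 zd7) (kd xd24 yd9 zd40) (kd xd28 yd0 zd3) (kd xd28 yd42 zd1) (kd xd24 yd9 zd54) (kd xd24 yd9 zd55) (kd xd24 yd9 zd59) (kd xd31 yd28 zd11) (kd xd24 yd10 zd2) (kd xd30 yd38 zd59) (kd xd29 yd49 zd51) (kd xd31 yd9 zd24) (kd xd24 yd10 zd29)) (@D3.rec (fun _ => Pt) (kd xd25 yd22 zd19) (kd xd24 yd10 zd39) (kd xd24 yd10 zd43) (kd xd27 yd20 zd49) (kd xd30 yd39 zd19) (kd xd24 yd10 zd55) (kd xd29 yd40 zd4) (kd xd30 yd27 zd28) (kd xd28 yd50 zd18) (kd xd26 yd51 zd40) (kd xd30 yd29 zd16) (kd xd31 yd31 zd3) (kd xd31 yd30 zd32)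 (kd xd30 yd8 zd1) (kd xd24 yd21 zd44) (kd xd27 yd13 zd45) (kd xd32 yd22 zd24) (kd xd30 yd9 zd14) (kd xd24 yd42 zd8) (kd xd26 yd10 zd39) (kd xd31 yd18 zd56) (kd xd31 yd50 zd59) (kd xd32 yd41 zd37) (kd xd29 yd16 zd35) (kd xd31 yd56 zd39) (kd xd24 yd11 zd21) (kd xd25 yd12 zd61) (kd xd25 yd13 zd2) (kd xd31 yd17 zd7) (kd xd30 yd56 zd43) (kd xd30 yd56 zd42) (kd xd29 yd14 zd14) (kd xd25 yd44 zd44) (kd xd32 yd43 zd44) (kd xd31 yd52 zd4) (kd xd24 yd11 zd42) (kd xd27 yd29 zd29) (kd xd31 yd22 zd16) (kd xd29 yd50 zd37) (kd xd24 yd11 zd45) (kd xd31 yd9 zd44) (kd xd32 yd56 zd50) (kd xd24 yd11 zd48) (kd xd32 yd56 zd52) (kd xd24 yd11 zd49) (kd xd31 yd45 zd43) (kd xd24 yd22 zd26) (kd xd24 yd11 zd51) (kd xd25 yd31 zd31) (kd xd29 yd40 zd53) (kd xd29 yd35 zd47) (kd xd29 yd45 zd4) (kd xd28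 yd44 zd20) (kd xd28 yd40 zd31) (kd xd32 yd0 zd34) (kd xd24 yd18 zd43) (kd xd30 yd26 zd42) (kd xd26 yd37 zd51) (kd xd27 yd51 zd2) (kd xd25 yd34 zd12) (kd xd28 yd7 zd11) (kd xd27 yd59 zd25)) (@D3.rec (fun _ => Pt) (kd xd24 yd13 zd14) (kd xd32 yd9 zd15) (kd xd24 yd12 zd17) (kd xd24 yd12 zd19) (kd xd29 yd37 zd28) (kd xd30 yd24 zd41) (kd xd31 yd32 zd25) (kd xd32 yd25 zd51) (kd xd31 yd37 zd14) (kd xd32 yd53 zd46) (kd xd30 yd38 zd6) (kd xd24 yd12 zd41) (kd xd26 yd32 zd12) (kd xd28 yd4 zd55) (kd xd30 yd43 zd31) (kd xd27 yd36 zd47) (kd xd32 yd27 zd12) (kd xd32 yd28 zd47) (kd xd27 yd51 zd26) (kd xd24 yd12 zd58) (kd xd27 yd50 zd60) (kd xd31 yd18 zd7) (kd xd32 yd40 zd57) (kd xd32 yd37 zd25) (kd xd24 yd13 zd0) (kd xd32 yd56 zd43) (kd xd24 yd13 zd3) (kd xd24 yd13 zd4) (kd xd24 yd13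 zd6) (kd xd32 yd56 zd53) (kd xd32 yd55 zd17) (kd xd24 yd13 zd10) (kd xd28 yd36 zd19) (kd xd28 yd36 zd18) (kd xd24 yd38 zd57) (kd xd32 yd56 zd55) (kd xd32 yd56 zd56) (kd xd24 yd13 zd18) (kd xd32 yd36 zd32) (kd xd24 yd57 zd51) (kd xd30 yd54 zd2) (kd xd28 yd45 zd42) (kd xd32 yd29 zd28) (kd xd27 yd49 zd52) (kd xd32 yd7 zd19) (kd xd24 yd26 zd59) (kd xd32 yd55 zd23) (kd xd24 yd13 zd41) (kd xd32 yd21 zd9) (kd xd31 yd58 zd3) (kd xd32 yd49 zd60) (kd xd24 yd13 zd47) (kd xd27 yd44 zd3) (kd xd30 yd43 zd50) (kd xd28 yd16 zd8) (kd xd26 yd53 zd4) (kd xd29 yd37 zd1) (kd xd31 yd13 zd43) (kd xd25 yd32 zd58) (kd xd32 yd56 zd23) (kd xd30 yd21 zd26) (kd xd24 yd14 zd22)) (@D3.rec (fun _ => Pt) (kd xd32 yd48 zd29) (kd xd28 yd25 zd11) (kd xd32 yd47 zd13) (kd xd24 yd14 zd32) (kd xd24 yd14 zd35)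 (kd xd27 yd35 zd28) (kd xd24 yd14 zd37) (kd xd24 yd14 zd38) (kd xd29 yd43 zd29) (kd xd29 yd45 zd60) (kd xd24 yd14 zd40) (kd xd24 yd14 zd41) (kd xd32 yd13 zd48) (kd xd24 yd14 zd43) (kd xd32 yd56 zd57) (kd xd24 yd14 zd44) (kd xd29 yd44 zd18) (kd xd30 yd43 zd38) (kd xd28 yd54 zd19) (kd xd27 yd29 zd18) (kd xd31 yd56 zd12) (kd xd28 yd16 zd28) (kd xd24 yd37 zd34) (kd xd25 yd26 zd34) (kd xd27 yd3 zd6) (kd xd24 yd15 zd0) (kd xd30 yd8 zd9) (kd xd24 yd15 zd5) (kd xd28 yd29 zd31) (kd xd31 yd48 zd41) (kd xd24 yd15 zd11) (kd xd32 yd55 zd24) (kd xd32 yd56 zd60) (kd xd30 yd21 zd38) (kd xd31 yd5 zd48) (kd xd32 yd42 zd10) (kd xd30 yd10 zd22) (kd xd24 yd15 zd15) (kd xd28 yd51 zd9) (kd xd29 yd56 zd52) (kd xd32 yd35 zd61) (kd xd24 yd15 zd36) (kd xd32 yd55 zd8) (kd xd24 yd15 zd44) (kd xd31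 yd56 zd18) (kd xd31 yd27 zd41) (kd xd32 yd43 zd39) (kd xd29 yd1 zd18) (kd xd32 yd0 zd44) (kd xd24 yd37 zd33) (kd xd27 yd19 zd42) (kd xd24 yd16 zd0) (kd xd25 yd26 zd33) (kd xd28 yd41 zd57) (kd xd25 yd22 zd58) (kd xd29 yd9 zd37) (kd xd24 yd16 zd15) (kd xd28 yd58 zd46) (kd xd25 yd52 zd19) (kd xd32 yd35 zd33) (kd xd24 yd50 zd4) (kd xd25 yd53 zd29)) (@D3.rec (fun _ => Pt) (kd xd24 yd16 zd21) (kd xd32 yd24 zd31) (kd xd24 yd16 zd30) (kd xd31 yd43 zd47) (kd xd28 yd41 zd60) (kd xd28 yd18 zd38) (kd xd28 yd21 zd5) (kd xd32 yd56 zd61) (kd xd32 yd56 zd58) (kd xd24 yd16 zd42) (kd xd31 yd31 zd40) (kd xd25 yd34 zd25) (kd xd24 yd16 zd46) (kd xd25 yd56 zd8) (kd xd29 yd51 zd2) (kd xd24 yd26 zd57) (kd xd25 yd44 zd4) (kd xd30 yd8 zd35) (kd xd31 yd17 zd31) (kd xd24 yd16 zd59) (kd xd27 yd12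 zd60) (kd xd32 yd57 zd2) (kd xd24 yd17 zd6) (kd xd30 yd18 zd40) (kd xd32 yd22 zd41) (kd xd32 yd57 zd0) (kd xd32 yd12 zd49) (kd xd24 yd17 zd8) (kd xd32 yd39 zd54) (kd xd27 yd16 zd50) (kd xd30 yd15 zd15) (kd xd28 yd21 zd7) (kd xd24 yd17 zd19) (kd xd24 yd17 zd20) (kd xd24 yd17 zd22) (kd xd27 yd13 zd3) (kd xd27 yd12 zd35) (kd xd29 yd47 zd60) (kd xd24 yd17 zd27) (kd xd28 yd19 zd21) (kd xd31 yd57 zd29) (kd xd31 yd26 zd45) (kd xd24 yd17 zd32) (kd xd29 yd54 zd30) (kd xd31 yd38 zd59) (kd xd31 yd10 zd16) (kd xd27 yd54 zd49) (kd xd25 yd7 zd37) (kd xd27 yd5 zd29) (kd xd31 yd39 zd8) (kd xd25 yd5 zd15) (kd xd32 yd28 zd61) (kd xd26 yd17 zd55) (kd xd24 yd54 zd24) (kd xd24 yd54 zd26) (kd xd29 yd5 zd43) (kd xd31 yd36 zd17) (kd xd28 yd33 zd61) (kd xd32 yd51 zd17) (kd xd26 yd57 zd59) (kd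 xd32 yd40 zd8) (kd xd24 yd18 zd21)) (@D3.rec (fun _ => Pt) (kd xd24 yd18 zd28) (kd xd26 yd45 zd35) (kd xd28 yd37 zd47) (kd xd32 yd55 zd1) (kd xd28 yd42 zd12) (kd xd28 yd42 zd11) (kd xd30 yd12 zd45) (kd xd28 yd15 zd16) (kd xd30 yd51 zd6) (kd xd32 yd34 zd6) (kd xd28 yd26 zd17) (kd xd31 yd23 zd56) (kd xd27 yd35 zd27) (kd xd32 yd23 zd1) (kd xd29 yd27 zd37) (kd xd32 yd47 zd19) (kd xd24 yd19 zd12) (kd xd25 yd19 zd50) (kd xd31 yd41 zd28) (kd xd24 yd19 zd17) (kd xd32 yd43 zd59) (kd xd30 yd45 zd6) (kd xd26 yd42 zd43) (kd xd24 yd19 zd24) (kd xd29 yd1 zd2) (kd xd29 yd46 zd22) (kd xd29 yd40 zd15) (kd xd24 yd19 zd29) (kd xd24 yd19 zd61) (kd xd31 yd21 zd45) (kd xd32 yd23 zd61) (kd xd24 yd19 zd32) (kd xd32 yd50 zd27) (kd xd28 yd48 zd1) (kd xd25 yd53 zd11) (kd xd31 yd51 zd20) (kd xd25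 yd53 zd12) (kd xd32 yd14 zd43) (kd xd24 yd50 zd33) (kd xd26 yd53 zd59) (kd xd26 yd56 zd61) (kd xd32 yd17 zd10) (kd xd26 yd19 zd32) (kd xd24 yd19 zd49) (kd xd24 yd19 zd55) (kd xd31 yd6 zd45) (kd xd24 yd19 zd59) (kd xd29 yd39 zd0) (kd xd31 yd36 zd52) (kd xd30 yd41 zd51) (kd xd30 yd10 zd27) (kd xd29 yd58 zd56) (kd xd29 yd0 zd14) (kd xd25 yd34 zd57) (kd xd25 yd5 zd5) (kd xd27 yd1 zd41) (kd xd32 yd42 zd34) (kd xd30 yd56 zd10) (kd xd24 yd20 zd53) (kd xd24 yd20 zd54) (kd xd32 yd54 zd23) (kd xd24 yd20 zd60)) (@D3.rec (fun _ => Pt) (kd xd32 yd49 zd1) (kd xd32 yd55 zd25) (kd xd32 yd54 zd0) (kd xd30 yd42 zd8) (kd xd24 yd21 zd4) (kd xd30 yd4 zd6) (kd xd24 yd21 zd6) (kd xd29 yd9 zd33) (kd xd29 yd3 zd60) (kd xd32 yd39 zd11) (kd xd24 yd21 zd13) (kd xd29 yd4 zd0) (kd xd31 yd3 zd59)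 (kd xd30 yd4 zd33) (kd xd27 yd2 zd46) (kd xd30 yd52 zd61) (kd xd32 yd54 zd31) (kd xd24 yd27 zd35) (kd xd24 yd27 zd37) (kd xd24 yd25 zd15) (kd xd32 yd53 zd34) (kd xd32 yd13 zd58) (kd xd30 yd38 zd23) (kd xd32 yd17 zd41) (kd xd28 yd46 zd4) (kd xd28 yd46 zd3) (kd xd31 yd33 zd14) (kd xd32 yd14 zd13) (kd xd24 yd21 zd54) (kd xd30 yd8 zd17) (kd xd24 yd22 zd7) (kd xd32 yd54 zd1) (kd xd24 yd22 zd8) (kd xd29 yd24 zd28) (kd xd24 yd22 zd18) (kd xd32 yd4 zd25) (kd xd24 yd22 zd24) (kd xd31 yd57 zd17) (kd xd25 yd15 zd11) (kd xd31 yd7 zd34) (kd xd30 yd26 zd32) (kd xd29 yd52 zd40) (kd xd28 yd23 zd51) (kd xd32 yd19 zd17) (kd xd32 yd18 zd35) (kd xd30 yd15 zd40) (kd xd24 yd22 zd48) (kd xd32 yd12 zd29) (kd xd24 yd22 zd49) (kd xd25 yd51 zd36) (kd xd26 yd54 zd15) (kd xd31 yd12 zd18) (kd xd32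 yd18 zd54) (kd xd29 yd4 zd30) (kd xd24 yd27 zd60) (kd xd29 yd51 zd8) (kd xd24 yd23 zd13) (kd xd28 yd38 zd18) (kd xd32 yd30 zd49) (kd xd28 yd30 zd4) (kd xd28 yd30 zd45) (kd xd30 yd48 zd56)) (@D3.rec (fun _ => Pt) (kd xd28 yd51 zd39) (kd xd28 yd51 zd46) (kd xd32 yd52 zd13) (kd xd31 yd57 zd21) (kd xd24 yd50 zd57) (kd xd32 yd17 zd36) (kd xd32 yd42 zd57) (kd xd29 yd8 zd28) (kd xd30 yd49 zd11) (kd xd32 yd34 zd39) (kd xd24 yd23 zd42) (kd xd30 yd38 zd9) (kd xd24 yd23 zd43) (kd xd26 yd45 zd2) (kd xd31 yd18 zd44) (kd xd30 yd22 zd30) (kd xd30 yd38 zd10) (kd xd24 yd23 zd47) (kd xd28 yd31 zd30) (kd xd24 yd23 zd49) (kd xd32 yd5 zd13) (kd xd24 yd23 zd59) (kd xd31 yd38 zd38) (kd xd24 yd53 zd56) (kd xd24 yd24 zd9) (kd xd31 yd17 zd48) (kd xd30 yd26 zd35) (kd xd31 yd17 zd47) (kd xd32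 yd34 zd42) (kd xd30 yd26 zd44) (kd xd32 yd19 zd44) (kd xd29 yd1 zd35) (kd xd31 yd24 zd12) (kd xd30 yd20 zd42) (kd xd30 yd17 zd32) (kd xd32 yd44 zd57) (kd xd24 yd24 zd42) (kd xd24 yd24 zd44) (kd xd24 yd25 zd37) (kd xd28 yd43 zd15) (kd xd24 yd24 zd50) (kd xd29 yd40 zd47) (kd xd24 yd38 zd59) (kd xd26 yd33 zd40) (kd xd26 yd33 zd41) (kd xd29 yd34 zd30) (kd xd32 yd37 zd20) (kd xd32 yd36 zd54) (kd xd29 yd31 zd37) (kd xd32 yd18 zd17) (kd xd28 yd49 zd11) (kd xd30 yd50 zd3) (kd xd24 yd25 zd5) (kd xd25 yd32 zd26) (kd xd24 yd25 zd12) (kd xd24 yd42 zd43) (kd xd30 yd37 zd3) (kd xd26 yd37 zd22) (kd xd32 yd47 zd7) (kd xd32 yd22 zd61) (kd xd31 yd31 zd7) (kd xd29 yd40 zd16)) (@D3.rec (fun _ => Pt) (kd xd26 yd36 zd59) (kd xd32 yd20 zd6) (kd xd32 yd20 zd8) (kd xd31 yd24 zd11) (kd xd24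 yd25 zd35) (kd xd28 yd44 zd40) (kd xd26 yd56 zd59) (kd xd31 yd30 zd60) (kd xd24 yd25 zd43) (kd xd31 yd34 zd9) (kd xd32 yd44 zd30) (kd xd31 yd56 zd13) (kd xd32 yd45 zd41) (kd xd24 yd25 zd47) (kd xd30 yd28 zd61) (kd xd30 yd29 zd14) (kd xd24 yd25 zd49) (kd xd32 yd37 zd46) (kd xd32 yd20 zd27) (kd xd29 yd36 zd12) (kd xd28 yd20 zd61) (kd xd29 yd37 zd34) (kd xd30 yd25 zd50) (kd xd30 yd25 zd43) (kd xd30 yd55 zd26) (kd xd28 yd19 zd55) (kd xd24 yd26 zd4) (kd xd25 yd27 zd32) (kd xd32 yd53 zd25) (kd xd24 yd26 zd9) (kd xd28 yd34 zd57) (kd xd30 yd18 zd45) (kd xd24 yd26 zd11) (kd xd32 yd42 zd17) (kd xd24 yd26 zd13) (kd xd27 yd0 zd11) (kd xd32 yd37 zd38) (kd xd30 yd28 zd3) (kd xd24 yd26 zd22) (kd xd28 yd58 zd29) (kd xd31 yd27 zd10) (kd xd32 yd47 zd32) (kd xd32 yd13 zd36) (kd xd32 yd13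 zd37) (kd xd27 yd19 zd1) (kd xd29 yd9 zd26) (kd xd29 yd9 zd19) (kd xd30 yd29 zd46) (kd xd32 yd39 zd39) (kd xd27 yd18 zd59) (kd xd24 yd26 zd38) (kd xd29 yd9 zd20) (kd xd26 yd37 zd30) (kd xd29 yd43 zd58) (kd xd32 yd50 zd32) (kd xd24 yd26 zd51) (kd xd24 yd26 zd52) (kd xd24 yd26 zd55) (kd xd28 yd19 zd43) (kd xd32 yd1 zd52) (kd xd32 yd57 zd19) (kd xd29 yd16 zd4)) (@D3.rec (fun _ => Pt) (kd xd30 yd54 zd1) (kd xd28 yd22 zd37) (kd xd31 yd16 zd55) (kd xd32 yd2 zd7) (kd xd32 yd36 zd57) (kd xd24 yd27 zd0) (kd xd27 yd14 zd28) (kd xd24 yd27 zd1) (kd xd24 yd27 zd7) (kd xd24 yd27 zd11) (kd xd31 yd40 zd42) (kd xd31 yd21 zd33) (kd xd30 yd27 zd9) (kd xd27 yd23 zd37) (kd xd24 yd27 zd19) (kd xd32 yd49 zd17) (kd xd31 yd52 zd17) (kd xd30 yd18 zd39) (kd xd25 yd42 zd21) (kd xd25 yd41 zd40)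 (kd xd31 yd58 zd24) (kd xd32 yd40 zd6) (kd xd32 yd49 zd43) (kd xd32 yd57 zd10) (kd xd27 yd5 zd55) (kd xd31 yd25 zd6) (kd xd32 yd42 zd33) (kd xd32 yd36 zd51) (kd xd31 yd20 zd2) (kd xd24 yd27 zd45) (kd xd30 yd39 zd31) (kd xd24 yd27 zd49) (kd xd24 yd27 zd53) (kd xd24 yd27 zd59) (kd xd30 yd32 zd27) (kd xd24 yd28 zd4) (kd xd24 yd28 zd10) (kd xd24 yd28 zd13) (kd xd30 yd45 zd30) (kd xd24 yd28 zd24) (kd xd27 yd34 zd39) (kd xd29 yd29 zd57) (kd xd24 yd28 zd49) (kd xd24 yd28 zd50) (kd xd31 yd22 zd49) (kd xd28 yd22 zd54) (kd xd29 yd52 zd50) (kd xd24 yd47 zd26) (kd xd26 yd8 zd40) (kd xd32 yd25 zd7) (kd xd24 yd29 zd17) (kd xd32 yd55 zd38) (kd xd32 yd56 zd9) (kd xd24 yd29 zd21) (kd xd32 yd57 zd22) (kd xd27 yd25 zd18) (kd xd26 yd21 zd31) (kd xd26 yd12 zd8) (kd xd24 yd46 zd42) (kd xd32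 yd38 zd3) (kd xd24 yd29 zd33) (kd xd26 yd22 zd18)) (@D3.rec (fun _ => Pt) (kd xd24 yd29 zd38) (kd xd32 yd12 zd22) (kd xd26 yd40 zd49) (kd xd32 yd12 zd1) (kd xd24 yd29 zd42) (kd xd32 yd12 zd3) (kd xd26 yd35 zd28) (kd xd32 yd18 zd58) (kd xd32 yd20 zd21) (kd xd32 yd18 zd59) (kd xd26 yd56 zd44) (kd xd32 yd23 zd24) (kd xd24 yd29 zd48) (kd xd24 yd29 zd49) (kd xd31 yd29 zd26) (kd xd32 yd52 zd53) (kd xd24 yd46 zd21) (kd xd32 yd12 zd13) (kd xd26 yd50 zd58) (kd xd31 yd47 zd4) (kd xd28 yd35 zd5) (kd xd24 yd29 zd61) (kd xd30 yd12 zd28) (kd xd30 yd34 zd12) (kd xd29 yd32 zd15) (kd xd29 yd32 zd12) (kd xd30 yd35 zd13) (kd xd31 yd22 zd43) (kd xd26 yd54 zd54) (kd xd29 yd31 zd14) (kd xd28 yd55 zd42) (kd xd26 yd45 zd4) (kd xd32 yd49 zd54) (kd xd26 yd27 zd53) (kd xd27 yd16 zd38) (kd xd32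 yd52 zd10) (kd xd32 yd46 zd31) (kd xd24 yd30 zd23) (kd xd32 yd36 zd20) (kd xd31 yd20 zd41) (kd xd24 yd30 zd28) (kd xd25 yd34 zd32) (kd xd32 yd41 zd23) (kd xd24 yd30 zd48) (kd xd32 yd18 zd49) (kd xd30 yd13 zd40) (kd xd31 yd59 zd27) (kd xd30 yd33 zd46) (kd xd24 yd31 zd9) (kd xd30 yd55 zd37) (kd xd29 yd54 zd20) (kd xd30 yd55 zd38) (kd xd24 yd31 zd20) (kd xd32 yd25 zd6) (kd xd32 yd5 zd43) (kd xd30 yd58 zd47) (kd xd30 yd59 zd17) (kd xd32 yd5 zd57) (kd xd24 yd31 zd34) (kd xd32 yd5 zd46) (kd xd32 yd57 zd27) (kd xd24 yd31 zd35)) (@D3.rec (fun _ => Pt) (kd xd26 yd4 zd6) (kd xd32 yd5 zd36) (kd xd24 yd31 zd39) (kd xd24 yd31 zd40) (kd xd29 yd29 zd13) (kd xd31 yd44 zd20) (kd xd24 yd31 zd47) (kd xd24 yd31 zd54) (kd xd32 yd55 zd42) (kd xd31 yd31 zd9) (kd xd24 yd31 zd58) (kd xd24 yd31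 zd61) (kd xd24 yd32 zd1) (kd xd24 yd32 zd12) (kd xd30 yd51 zd43) (kd xd32 yd55 zd61) (kd xd27 yd28 zd50) (kd xd28 yd1 zd57) (kd xd24 yd37 zd19) (kd xd24 yd32 zd61) (kd xd30 yd7 zd41) (kd xd24 yd33 zd17) (kd xd24 yd33 zd20) (kd xd31 yd22 zd1) (kd xd24 yd33 zd22) (kd xd32 yd46 zd4) (kd xd24 yd33 zd23) (kd xd24 yd34 zd2) (kd xd29 yd27 zd15) (kd xd31 yd35 zd4) (kd xd24 yd33 zd25) (kd xd31 yd38 zd2) (kd xd29 yd10 zd32) (kd xd24 yd33 zd40) (kd xd24 yd33 zd44) (kd xd26 yd48 zd2) (kd xd24 yd33 zd47) (kd xd29 yd46 zd42) (kd xd25 yd42 zd37) (kd xd27 yd12 zd54) (kd xd31 yd54 zd0) (kd xd26 yd2 zd2) (kd xd27 yd36 zd57) (kd xd29 yd55 zd26) (kd xd31 yd11 zd1) (kd xd27 yd4 zd15) (kd xd24 yd34 zd38) (kd xd32 yd18 zd34) (kd xd27 yd26 zd15) (kd xd30 yd11 zd14) (kd xd32 yd50 zd29) (kd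 xd29 yd15 zd58) (kd xd24 yd34 zd59) (kd xd30 yd53 zd47) (kd xd25 yd43 zd49) (kd xd29 yd26 zd30) (kd xd24 yd35 zd8) (kd xd32 yd49 zd11) (kd xd32 yd57 zd29) (kd xd24 yd35 zd14) (kd xd29 yd9 zd21) (kd xd24 yd35 zd17)) (@D3.rec (fun _ => Pt) (kd xd32 yd23 zd9) (kd xd32 yd19 zd45) (kd xd24 yd35 zd18) (kd xd32 yd34 zd23) (kd xd31 yd34 zd29) (kd xd24 yd35 zd25) (kd xd24 yd35 zd27) (kd xd29 yd50 zd59) (kd xd25 yd35 zd49) (kd xd25 yd35 zd36) (kd xd24 yd36 zd35) (kd xd25 yd35 zd34) (kd xd27 yd14 zd34) (kd xd27 yd14 zd33) (kd xd31 yd38 zd14) (kd xd26 yd45 zd59) (kd xd24 yd35 zd46) (kd xd25 yd58 zd45) (kd xd31 yd58 zd20) (kd xd24 yd35 zd59) (kd xd31 yd18 zd37) (kd xd27 yd47 zd24) (kd xd24 yd36 zd8) (kd xd30 yd8 zd50) (kd xd26 yd42 zd21) (kd xd26 yd28 zd39) (kd xd29 yd30 zd50) (kd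 xd24 yd36 zd25) (kd xd26 yd51 zd59) (kd xd24 yd36 zd27) (kd xd32 yd1 zd56) (kd xd32 yd48 zd37) (kd xd24 yd36 zd32) (kd xd24 yd36 zd33) (kd xd24 yd36 zd38) (kd xd28 yd58 zd32) (kd xd25 yd37 zd41) (kd xd25 yd37 zd43) (kd xd24 yd36 zd40) (kd xd25 yd5 zd42) (kd xd25 yd48 zd34) (kd xd25 yd50 zd38) (kd xd24 yd36 zd58) (kd xd24 yd36 zd59) (kd xd24 yd36 zd61) (kd xd25 yd49 zd6) (kd xd25 yd34 zd30) (kd xd24 yd37 zd5) (kd xd32 yd44 zd34) (kd xd32 yd27 zd49) (kd xd31 yd37 zd38) (kd xd31 yd4 zd50) (kd xd28 yd23 zd48) (kd xd30 yd46 zd9) (kd xd31 yd57 zd5) (kd xd24 yd37 zd12) (kd xd25 yd43 zd13) (kd xd27 yd2 zd61) (kd xd28 yd48 zd18) (kd xd27 yd46 zd1) (kd xd25 yd55 zd22) (kd xd24 yd37 zd22)) (@D3.rec (fun _ => Pt) (kd xd25 yd15 zd10) (kd xd24 yd37 zd23) (kd xd25 yd49 zd15) (kd xd32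 yd42 zd35) (kd xd30 yd26 zd40) (kd xd30 yd18 zd58) (kd xd29 yd47 zd48) (kd xd31 yd48 zd8) (kd xd24 yd42 zd52) (kd xd30 yd40 zd31) (kd xd32 yd32 zd42) (kd xd28 yd11 zd55) (kd xd30 yd6 zd2) (kd xd30 yd26 zd48) (kd xd28 yd54 zd6) (kd xd29 yd3 zd38) (kd xd24 yd38 zd0) (kd xd31 yd27 zd56) (kd xd24 yd38 zd1) (kd xd28 yd57 zd36) (kd xd30 yd26 zd46) (kd xd28 yd19 zd26) (kd xd24 yd38 zd11) (kd xd31 yd2 zd42) (kd xd29 yd13 zd52) (kd xd29 yd13 zd49) (kd xd24 yd38 zd20) (kd xd29 yd59 zd12) (kd xd24 yd38 zd23) (kd xd27 yd42 zd42) (kd xd32 yd53 zd14) (kd xd32 yd57 zd31) (kd xd25 yd57 zd16) (kd xd29 yd10 zd17) (kd xd24 yd38 zd29) (kd xd25 yd41 zd27) (kd xd29 yd50 zd11) (kd xd29 yd4 zd21) (kd xd28 yd16 zd61) (kd xd32 yd41 zd60) (kd xd25 yd27 zd7) (kd xd24 yd39 zd1) (kd xd32 yd56 zd46)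 (kd xd25 yd11 zd27) (kd xd28 yd57 zd9) (kd xd24 yd39 zd20) (kd xd31 yd9 zd20) (kd xd31 yd4 zd29) (kd xd31 yd37 zd44) (kd xd27 yd17 zd18) (kd xd24 yd39 zd45) (kd xd32 yd17 zd31) (kd xd31 yd28 zd48) (kd xd24 yd39 zd56) (kd xd32 yd57 zd11) (kd xd24 yd41 zd43) (kd xd24 yd48 zd40) (kd xd31 yd40 zd19) (kd xd32 yd56 zd49) (kd xd32 yd21 zd7) (kd xd25 yd20 zd29) (kd xd30 yd42 zd13)) (@D3.rec (fun _ => Pt) (kd xd24 yd40 zd2) (kd xd30 yd4 zd28) (kd xd31 yd6 zd49) (kd xd24 yd40 zd8) (kd xd24 yd40 zd10) (kd xd24 yd40 zd11) (kd xd32 yd55 zd28) (kd xd32 yd55 zd32) (kd xd27 yd27 zd5) (kd xd32 yd9 zd53) (kd xd31 yd1 zd26) (kd xd24 yd40 zd17) (kd xd30 yd50 zd4) (kd xd24 yd40 zd30) (kd xd31 yd25 zd8) (kd xd30 yd49 zd14) (kd xd26 yd42 zd53) (kd xd26 yd25 zd8) (kd xd30 yd7 zd42) (kd xd24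 yd43 zd11) (kd xd26 yd12 zd30) (kd xd27 yd57 zd5) (kd xd30 yd3 zd43) (kd xd24 yd41 zd12) (kd xd31 yd58 zd6) (kd xd31 yd3 zd45) (kd xd28 yd58 zd40) (kd xd26 yd42 zd1) (kd xd24 yd41 zd44) (kd xd30 yd26 zd51) (kd xd24 yd41 zd46) (kd xd31 yd11 zd24) (kd xd31 yd45 zd1) (kd xd24 yd41 zd56) (kd xd24 yd42 zd0) (kd xd31 yd6 zd0) (kd xd29 yd24 zd49) (kd xd31 yd14 zd55) (kd xd31 yd35 zd50) (kd xd28 yd42 zd45) (kd xd27 yd50 zd12) (kd xd26 yd40 zd32) (kd xd31 yd43 zd33) (kd xd24 yd54 zd32) (kd xd31 yd36 zd48) (kd xd29 yd12 zd23) (kd xd32 yd28 zd14) (kd xd31 yd12 zd12) (kd xd26 yd47 zd57) (kd xd25 yd38 zd31) (kd xd24 yd42 zd37) (kd xd31 yd7 zd61) (kd xd31 yd53 zd39) (kd xd29 yd43 zd0) (kd xd31 yd12 zd26) (kd xd24 yd42 zd49) (kd xd27 yd25 zd45) (kd xd27 yd25 zd44) (kd xd24 yd52 zd21)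 (kd xd24 yd43 zd24) (kd xd31 yd8 zd12) (kd xd31 yd8 zd11)) (@D3.rec (fun _ => Pt) (kd xd24 yd43 zd41) (kd xd26 yd27 zd22) (kd xd31 yd34 zd31) (kd xd29 yd31 zd41) (kd xd24 yd57 zd37) (kd xd27 yd23 zd61) (kd xd32 yd16 zd15) (kd xd30 yd45 zd42) (kd xd26 yd29 zd16) (kd xd24 yd44 zd16) (kd xd28 yd21 zd39) (kd xd27 yd48 zd58) (kd xd28 yd2 zd31) (kd xd24 yd52 zd28) (kd xd31 yd35 zd14) (kd xd32 yd25 zd30) (kd xd32 yd9 zd27) (kd xd24 yd44 zd56) (kd xd25 yd8 zd30) (kd xd24 yd44 zd58) (kd xd24 yd44 zd61) (kd xd24 yd58 zd34) (kd xd24 yd59 zd2) (kd xd24 yd45 zd15) (kd xd24 yd45 zd16) (kd xd24 yd45 zd23) (kd xd24 yd45 zd25) (kd xd26 yd16 zd60) (kd xd26 yd18 zd1) (kd xd26 yd4 zd35) (kd xd29 yd25 zd11) (kd xd27 yd29 zd9) (kd xd27 yd29 zd10) (kd xd29 yd17 zd20) (kd xd27 yd30 zd58) (kd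 xd32 yd7 zd43) (kd xd26 yd18 zd50) (kd xd32 yd27 zd56) (kd xd31 yd30 zd22) (kd xd27 yd57 zd34) (kd xd31 yd54 zd55) (kd xd24 yd45 zd56) (kd xd32 yd57 zd36) (kd xd26 yd24 zd43) (kd xd26 yd17 zd60) (kd xd24 yd45 zd61) (kd xd29 yd53 zd23) (kd xd32 yd20 zd48) (kd xd32 yd47 zd4) (kd xd24 yd46 zd10) (kd xd32 yd44 zd58) (kd xd24 yd46 zd11) (kd xd26 yd11 zd3) (kd xd31 yd1 zd49) (kd xd24 yd46 zd17) (kd xd26 yd43 zd55) (kd xd32 yd43 zd20) (kd xd24 yd46 zd23) (kd xd24 yd46 zd24) (kd xd31 yd27 zd44) (kd xd24 yd46 zd36) (kd xd27 yd46 zd48)) (@D3.rec (fun _ => Pt) (kd xd27 yd28 zd60) (kd xd27 yd53 zd9) (kd xd32 yd24 zd54) (kd xd30 yd57 zd35) (kd xd25 yd16 zd15) (kd xd32 yd46 zd39) (kd xd24 yd47 zd27) (kd xd32 yd56 zd24) (kd xd31 yd27 zd49) (kd xd24 yd47 zd33) (kd xd24 yd47 zd38) (kd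 xd25 yd3 zd20) (kd xd32 yd54 zd17) (kd xd24 yd47 zd58) (kd xd29 yd20 zd52) (kd xd31 yd51 zd16) (kd xd24 yd48 zd2) (kd xd32 yd31 zd7) (kd xd26 yd7 zd42) (kd xd32 yd8 zd0) (kd xd31 yd15 zd6) (kd xd30 yd35 zd49) (kd xd32 yd29 zd4) (kd xd28 yd6 zd49) (kd xd24 yd48 zd9) (kd xd26 yd32 zd7) (kd xd31 yd53 zd44) (kd xd24 yd48 zd17) (kd xd32 yd25 zd61) (kd xd28 yd9 zd4) (kd xd24 yd48 zd21) (kd xd28 yd5 zd11) (kd xd28 yd22 zd4) (kd xd28 yd4 zd54) (kd xd26 yd36 zd46) (kd xd29 yd24 zd51) (kd xd32 yd19 zd31) (kd xd24 yd48 zd35) (kd xd25 yd19 zd26) (kd xd29 yd2 zd41) (kd xd24 yd48 zd38) (kd xd24 yd48 zd39) (kd xd28 yd49 zd8) (kd xd24 yd51 zd4) (kd xd27 yd37 zd41) (kd xd28 yd36 zd37) (kd xd24 yd48 zd47) (kd xd31 yd50 zd52) (kd xd31 yd50 zd55) (kd xd25 yd38 zd48) (kd xd24 yd48 zd58)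 (kd xd28 yd47 zd2) (kd xd32 yd43 zd37) (kd xd28 yd58 zd44) (kd xd28 yd31 zd5) (kd xd24 yd49 zd2) (kd xd29 yd13 zd26) (kd xd32 yd11 zd59) (kd xd32 yd36 zd10) (kd xd24 yd49 zd8) (kd xd31 yd1 zd14) (kd xd31 yd15 zd31)) (@D3.rec (fun _ => Pt) (kd xd30 yd6 zd54) (kd xd32 yd57 zd37) (kd xd32 yd51 zd31) (kd xd24 yd49 zd19) (kd xd32 yd57 zd38) (kd xd24 yd49 zd20) (kd xd31 yd20 zd5) (kd xd24 yd49 zd23) (kd xd32 yd57 zd39) (kd xd24 yd49 zd24) (kd xd32 yd52 zd38) (kd xd30 yd21 zd34) (kd xd32 yd57 zd42) (kd xd24 yd49 zd29) (kd xd32 yd52 zd39) (kd xd24 yd49 zd30) (kd xd25 yd19 zd19) (kd xd26 yd50 zd1) (kd xd24 yd49 zd32) (kd xd31 yd36 zd57) (kd xd32 yd49 zd38) (kd xd31 yd40 zd59) (kd xd30 yd19 zd23) (kd xd24 yd49 zd36) (kd xd28 yd51 zd38) (kd xd31 yd17 zd52) (kd xd32 yd57 zd46)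 (kd xd32 yd57 zd47) (kd xd24 yd49 zd40) (kd xd32 yd56 zd12) (kd xd31 yd52 zd0) (kd xd32 yd17 zd28) (kd xd24 yd49 zd43) (kd xd24 yd49 zd44) (kd xd28 yd37 zd9) (kd xd24 yd49 zd49) (kd xd32 yd57 zd49) (kd xd27 yd36 zd55) (kd xd25 yd17 zd44) (kd xd27 yd36 zd53) (kd xd32 yd32 zd8) (kd xd30 yd20 zd22) (kd xd31 yd32 zd10) (kd xd32 yd46 zd23) (kd xd31 yd19 zd56) (kd xd32 yd20 zd42) (kd xd24 yd50 zd10) (kd xd32 yd11 zd3) (kd xd24 yd50 zd50) (kd xd24 yd50 zd13) (kd xd24 yd50 zd14) (kd xd31 yd52 zd60) (kd xd26 yd40 zd57) (kd xd24 yd50 zd17) (kd xd29 yd2 zd36) (kd xd24 yd50 zd18) (kd xd27 yd4 zd14) (kd xd24 yd50 zd19) (kd xd29 yd47 zd30) (kd xd31 yd40 zd21) (kd xd24 yd50 zd21) (kd xd27 yd29 zd16)) (@D3.rec (fun _ => Pt) (kd xd31 yd50 zd38) (kd xd25 yd20 zd54) (kd xd30 yd0 zd7)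 (kd xd31 yd51 zd48) (kd xd29 yd17 zd6) (kd xd25 yd21 zd36) (kd xd31 yd56 zd20) (kd xd32 yd21 zd52) (kd xd24 yd51 zd38) (kd xd32 yd27 zd22) (kd xd30 yd3 zd20) (kd xd32 yd17 zd29) (kd xd32 yd56 zd36) (kd xd24 yd50 zd42) (kd xd32 yd57 zd50) (kd xd32 yd39 zd33) (kd xd24 yd50 zd55) (kd xd24 yd50 zd56) (kd xd31 yd20 zd4) (kd xd24 yd51 zd1) (kd xd29 yd13 zd14) (kd xd25 yd8 zd5) (kd xd32 yd57 zd51) (kd xd28 yd58 zd3) (kd xd29 yd34 zd50) (kd xd25 yd10 zd13) (kd xd32 yd46 zd12) (kd xd24 yd51 zd25) (kd xd31 yd28 zd18) (kd xd25 yd20 zd19) (kd xd24 yd51 zd32) (kd xd31 yd51 zd22) (kd xd32 yd39 zd32) (kd xd24 yd51 zd34) (kd xd31 yd21 zd34) (kd xd26 yd34 zd15) (kd xd32 yd56 zd14) (kd xd30 yd27 zd11) (kd xd31 yd51 zd21) (kd xd26 yd54 zd49) (kd xd31 yd45 zd61) (kd xd24 yd51 zd42) (kd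 xd31 yd51 zd12) (kd xd24 yd51 zd43) (kd xd32 yd45 zd20) (kd xd31 yd47 zd50) (kd xd25 yd20 zd11) (kd xd26 yd37 zd7) (kd xd26 yd37 zd6) (kd xd24 yd51 zd58) (kd xd31 yd11 zd52) (kd xd27 yd12 zd9) (kd xd27 yd11 zd50) (kd xd29 yd13 zd25) (kd xd28 yd59 zd31) (kd xd27 yd21 zd49) (kd xd29 yd14 zd25) (kd xd32 yd4 zd48) (kd xd25 yd0 zd28) (kd xd32 yd4 zd60) (kd xd30 yd20 zd53) (kd xd24 yd52 zd45)) (@D3.rec (fun _ => Pt) (kd xd26 yd23 zd23) (kd xd24 yd52 zd50) (kd xd24 yd53 zd3) (kd xd26 yd26 zd3) (kd xd24 yd53 zd21) (kd xd32 yd15 zd50) (kd xd27 yd52 zd28) (kd xd24 yd53 zd48) (kd xd26 yd23 zd15) (kd xd24 yd53 zd49) (kd xd24 yd53 zd50) (kd xd32 yd57 zd53) (kd xd24 yd53 zd51) (kd xd32 yd19 zd57) (kd xd32 yd19 zd58) (kd xd24 yd53 zd53) (kd xd32 yd2 zd47) (kd xd27 yd55 zd11) (kd xd24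 yd53 zd54) (kd xd32 yd27 zd36) (kd xd32 yd12 zd61) (kd xd26 yd30 zd19) (kd xd26 yd32 zd4) (kd xd27 yd55 zd35) (kd xd24 yd54 zd5) (kd xd32 yd8 zd1) (kd xd28 yd4 zd13) (kd xd31 yd42 zd43) (kd xd24 yd54 zd18) (kd xd29 yd5 zd3) (kd xd32 yd31 zd33) (kd xd31 yd4 zd45) (kd xd32 yd57 zd6) (kd xd24 yd54 zd27) (kd xd28 yd28 zd44) (kd xd30 yd41 zd30) (kd xd32 yd57 zd34) (kd xd26 yd17 zd52) (kd xd27 yd33 zd15) (kd xd27 yd52 zd3) (kd xd24 yd54 zd55) (kd xd32 yd3 zd55) (kd xd25 yd3 zd31) (kd xd31 yd42 zd27) (kd xd28 yd1 zd59) (kd xd31 yd45 zd16) (kd xd24 yd55 zd4) (kd xd29 yd53 zd15) (kd xd32 yd24 zd53) (kd xd32 yd6 zd51) (kd xd26 yd31 zd3) (kd xd27 yd34 zd41) (kd xd26 yd25 zd9) (kd xd27 yd53 zd11) (kd xd29 yd53 zd13) (kd xd32 yd7 zd31) (kd xd32 yd31 zd40) (kd xd26 yd14 zd55) (kd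 xd32 yd5 zd59) (kd xd24 yd55 zd18) (kd xd32 yd5 zd60) (kd xd24 yd55 zd20)) (@D3.rec (fun _ => Pt) (kd xd24 yd55 zd25) (kd xd24 yd55 zd26) (kd xd27 yd57 zd32) (kd xd24 yd55 zd33) (kd xd24 yd55 zd38) (kd xd28 yd43 zd61) (kd xd30 yd45 zd60) (kd xd24 yd55 zd53) (kd xd24 yd55 zd58) (kd xd24 yd55 zd59) (kd xd25 yd2 zd48) (kd xd25 yd43 zd2) (kd xd24 yd56 zd17) (kd xd27 yd28 zd14) (kd xd32 yd10 zd7) (kd xd29 yd25 zd13) (kd xd32 yd10 zd8) (kd xd30 yd56 zd58) (kd xd26 yd25 zd21) (kd xd26 yd25 zd40) (kd xd26 yd27 zd38) (kd xd24 yd59 zd36) (kd xd30 yd30 zd45) (kd xd31 yd58 zd10) (kd xd32 yd52 zd5) (kd xd30 yd49 zd59) (kd xd32 yd52 zd58) (kd xd24 yd57 zd14) (kd xd27 yd56 zd42) (kd xd26 yd9 zd18) (kd xd27 yd56 zd43) (kd xd32 yd42 zd21) (kd xd32 yd6 zd4) (kd xd31 yd37 zd42) (kd xd32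 yd26 zd49) (kd xd32 yd57 zd7) (kd xd27 yd50 zd22) (kd xd25 yd21 zd9) (kd xd27 yd17 zd21) (kd xd28 yd9 zd49) (kd xd32 yd1 zd12) (kd xd25 yd22 zd52) (kd xd24 yd57 zd61) (kd xd30 yd55 zd36) (kd xd31 yd47 zd11) (kd xd25 yd34 zd3) (kd xd25 yd52 zd29) (kd xd31 yd27 zd3) (kd xd27 yd30 zd4) (kd xd25 yd15 zd24) (kd xd24 yd58 zd18) (kd xd24 yd58 zd20) (kd xd28 yd23 zd59) (kd xd32 yd57 zd13) (kd xd24 yd58 zd26) (kd xd24 yd58 zd40) (kd xd31 yd47 zd47) (kd xd24 yd58 zd43) (kd xd32 yd28 zd31) (kd xd28 yd7 zd5) (kd xd28 yd12 zd31) (kd xd27 yd48 zd12)) (@D3.rec (fun _ => Pt) (kd xd24 yd59 zd3) (kd xd27 yd20 zd30) (kd xd32 yd23 zd35) (kd xd28 yd27 zd10) (kd xd29 yd54 zd24) (kd xd32 yd29 zd44) (kd xd31 yd44 zd48) (kd xd30 yd19 zd15) (kd xd27 yd3 zd27) (kd xd26 yd17 zd47) (kd xd28 yd2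 zd56) (kd xd24 yd59 zd58) (kd xd30 yd55 zd12) (kd xd30 yd55 zd17) (kd xd27 yd54 zd48) (kd xd25 yd16 zd21) (kd xd30 yd44 zd24) (kd xd32 yd57 zd24) (kd xd30 yd44 zd37) (kd xd28 yd10 zd0) (kd xd31 yd34 zd5) (kd xd26 yd32 zd59) (kd xd25 yd0 zd22) (kd xd25 yd0 zd23) (kd xd29 yd29 zd55) (kd xd25 yd0 zd26) (kd xd26 yd10 zd28) (kd xd32 yd53 zd60) (kd xd29 yd16 zd22) (kd xd25 yd0 zd40) (kd xd29 yd16 zd21) (kd xd25 yd23 zd3) (kd xd30 yd40 zd18) (kd xd31 yd47 zd27) (kd xd25 yd1 zd2) (kd xd25 yd1 zd5) (kd xd30 yd2 zd54) (kd xd25 yd3 zd61) (kd xd27 yd26 zd35) (kd xd25 yd1 zd25) (kd xd27 yd27 zd30) (kd xd26 yd10 zd51) (kd xd27 yd31 zd60) (kd xd27 yd41 zd43) (kd xd32 yd32 zd26) (kd xd27 yd25 zd49) (kd xd31 yd57 zd12) (kd xd28 yd34 zd45) (kd xd31 yd44 zd6) (kd xd25 yd1 zd56) (kd xd29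 yd27 zd10) (kd xd30 yd57 zd59) (kd xd25 yd1 zd60) (kd xd30 yd1 zd4) (kd xd28 yd28 zd11) (kd xd28 yd21 zd14) (kd xd26 yd33 zd2) (kd xd27 yd48 zd30) (kd xd25 yd2 zd16) (kd xd32 yd57 zd57) (kd xd25 yd2 zd18) (kd xd31 yd9 zd32)) (@D3.rec (fun _ => Pt) (kd xd30 yd24 zd32) (kd xd31 yd37 zd32) (kd xd29 yd12 zd19) (kd xd25 yd2 zd45) (kd xd30 yd59 zd31) (kd xd25 yd2 zd55) (kd xd32 yd38 zd22) (kd xd26 yd9 zd34) (kd xd29 yd48 zd1) (kd xd30 yd55 zd7) (kd xd27 yd34 zd32) (kd xd32 yd34 zd46) (kd xd32 yd25 zd25) (kd xd27 yd40 zd10) (kd xd25 yd3 zd50) (kd xd25 yd3 zd51) (kd xd31 yd42 zd45) (kd xd28 yd15 zd32) (kd xd26 yd30 zd21) (kd xd27 yd33 zd16) (kd xd25 yd4 zd0) (kd xd32 yd48 zd46) (kd xd25 yd4 zd6) (kd xd28 yd17 zd49) (kd xd27 yd17 zd14) (kd xd25 yd58 zd34) (kd xd26 yd34 zd54)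 (kd xd25 yd4 zd28) (kd xd27 yd9 zd55) (kd xd31 yd48 zd53) (kd xd25 yd4 zd31) (kd xd25 yd24 zd45) (kd xd32 yd7 zd20) (kd xd28 yd46 zd1) (kd xd31 yd15 zd27) (kd xd25 yd4 zd45) (kd xd25 yd4 zd49) (kd xd25 yd4 zd50) (kd xd27 yd36 zd30) (kd xd29 yd0 zd18) (kd xd27 yd6 zd15) (kd xd25 yd57 zd44) (kd xd31 yd56 zd5) (kd xd31 yd24 zd45) (kd xd25 yd24 zd19) (kd xd25 yd5 zd10) (kd xd27 yd21 zd30) (kd xd25 yd5 zd13) (kd xd25 yd5 zd25) (kd xd29 yd16 zd19) (kd xd27 yd11 zd20) (kd xd28 yd46 zd55) (kd xd27 yd15 zd32) (kd xd32 yd28 zd45) (kd xd27 yd33 zd48) (kd xd27 yd15 zd31) (kd xd25 yd5 zd40) (kd xd25 yd9 zd34) (kd xd27 yd19 zd25) (kd xd29 yd3 zd61) (kd xd29 yd26 zd29) (kd xd31 yd41 zd40)) (@D3.rec (fun _ => Pt) (kd xd32 yd36 zd41) (kd xd32 yd0 zd21) (kd xd25 yd11 zd18) (kd xd25 yd11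 zd6) (kd xd25 yd6 zd26) (kd xd25 yd6 zd28) (kd xd25 yd54 zd29) (kd xd32 yd7 zd58) (kd xd32 yd31 zd17) (kd xd32 yd0 zd41) (kd xd32 yd31 zd18) (kd xd25 yd9 zd2) (kd xd32 yd25 zd39) (kd xd32 yd28 zd21) (kd xd32 yd6 zd28) (kd xd32 yd49 zd51) (kd xd25 yd6 zd33) (kd xd29 yd16 zd34) (kd xd25 yd6 zd39) (kd xd31 yd59 zd17) (kd xd32 yd55 zd3) (kd xd25 yd6 zd41) (kd xd25 yd13 zd56) (kd xd29 yd15 zd54) (kd xd32 yd3 zd57) (kd xd25 yd11 zd46) (kd xd32 yd38 zd55) (kd xd29 yd41 zd57) (kd xd29 yd48 zd40) (kd xd32 yd0 zd16) (kd xd25 yd7 zd1) (kd xd25 yd7 zd2) (kd xd25 yd29 zd14) (kd xd29 yd20 zd5) (kd xd30 yd44 zd40) (kd xd25 yd7 zd7) (kd xd27 yd46 zd27) (kd xd31 yd54 zd9) (kd xd25 yd29 zd20) (kd xd25 yd29 zd48) (kd xd25 yd7 zd13) (kd xd27 yd14 zd23) (kd xd32 yd2 zd25) (kd xd28 yd25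 zd28) (kd xd32 yd22 zd20) (kd xd31 yd12 zd14) (kd xd25 yd7 zd31) (kd xd25 yd7 zd32) (kd xd25 yd7 zd36) (kd xd30 yd19 zd61) (kd xd29 yd56 zd2) (kd xd32 yd8 zd38) (kd xd25 yd7 zd39) (kd xd32 yd0 zd15) (kd xd25 yd48 zd20) (kd xd27 yd14 zd43) (kd xd25 yd8 zd0) (kd xd31 yd47 zd46) (kd xd25 yd8 zd7) (kd xd25 yd8 zd8) (kd xd32 yd44 zd37) (kd xd25 yd8 zd13)) (@D3.rec (fun _ => Pt) (kd xd25 yd8 zd14) (kd xd32 yd21 zd47) (kd xd29 yd49 zd0) (kd xd28 yd40 zd44) (kd xd31 yd33 zd19) (kd xd26 yd36 zd44) (kd xd26 yd37 zd34) (kd xd25 yd8 zd20) (kd xd32 yd2 zd21) (kd xd25 yd55 zd15) (kd xd25 yd55 zd23) (kd xd31 yd43 zd44) (kd xd25 yd8 zd24) (kd xd26 yd13 zd39) (kd xd25 yd8 zd27) (kd xd26 yd4 zd38) (kd xd29 yd16 zd24) (kd xd25 yd8 zd36) (kd xd32 yd23 zd46) (kd xd25 yd8 zd37) (kd xd31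 yd4 zd9) (kd xd25 yd32 zd9) (kd xd25 yd8 zd38) (kd xd30 yd9 zd51) (kd xd25 yd8 zd40) (kd xd28 yd6 zd29) (kd xd31 yd59 zd60) (kd xd31 yd44 zd33) (kd xd27 yd54 zd30) (kd xd25 yd13 zd20) (kd xd25 yd8 zd46) (kd xd32 yd10 zd36) (kd xd27 yd14 zd46) (kd xd32 yd52 zd49) (kd xd32 yd15 zd10) (kd xd25 yd8 zd55) (kd xd25 yd8 zd58) (kd xd30 yd13 zd11) (kd xd31 yd49 zd4) (kd xd25 yd13 zd12) (kd xd28 yd11 zd58) (kd xd26 yd54 zd0) (kd xd30 yd10 zd54) (kd xd25 yd9 zd17) (kd xd31 yd52 zd14) (kd xd29 yd36 zd0) (kd xd31 yd46 zd57) (kd xd31 yd43 zd56) (kd xd29 yd35 zd60) (kd xd25 yd9 zd22) (kd xd31 yd41 zd45) (kd xd32 yd42 zd11) (kd xd32 yd47 zd29) (kd xd25 yd9 zd31) (kd xd25 yd9 zd32) (kd xd29 yd6 zd50) (kd xd29 yd44 zd50) (kd xd29 yd44 zd47) (kd xd25 yd27 zd3) (kd xd25 yd9 zd36) (kd xd32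 yd58 zd2) (kd xd32 yd58 zd3)) (@D3.rec (fun _ => Pt) (kd xd32 yd58 zd4) (kd xd25 yd9 zd38) (kd xd32 yd20 zd46) (kd xd25 yd11 zd19) (kd xd26 yd48 zd18) (kd xd32 yd47 zd23) (kd xd31 yd19 zd33) (kd xd27 yd0 zd41) (kd xd31 yd36 zd7) (kd xd25 yd10 zd30) (kd xd25 yd10 zd35) (kd xd31 yd10 zd21) (kd xd29 yd15 zd41) (kd xd27 yd46 zd54) (kd xd27 yd46 zd59) (kd xd32 yd42 zd60) (kd xd28 yd41 zd59) (kd xd32 yd25 zd2) (kd xd25 yd10 zd52) (kd xd27 yd25 zd6) (kd xd29 yd56 zd40) (kd xd25 yd11 zd0) (kd xd32 yd58 zd7) (kd xd31 yd19 zd39) (kd xd31 yd55 zd61) (kd xd32 yd12 zd55) (kd xd25 yd11 zd9) (kd xd25 yd11 zd10) (kd xd32 yd21 zd53) (kd xd27 yd38 zd10) (kd xd25 yd11 zd25) (kd xd32 yd20 zd34) (kd xd25 yd11 zd28) (kd xd28 yd23 zd28) (kd xd29 yd49 zd26) (kd xd29 yd17 zd5) (kd xd25 yd11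 zd32) (kd xd25 yd11 zd33) (kd xd28 yd8 zd51) (kd xd28 yd42 zd19) (kd xd29 yd38 zd20) (kd xd31 yd26 zd29) (kd xd28 yd26 zd30) (kd xd32 yd1 zd59) (kd xd30 yd8 zd47) (kd xd25 yd12 zd26) (kd xd31 yd49 zd52) (kd xd26 yd6 zd55) (kd xd32 yd42 zd19) (kd xd27 yd22 zd32) (kd xd30 yd47 zd50) (kd xd25 yd12 zd25) (kd xd25 yd12 zd29) (kd xd31 yd45 zd29) (kd xd27 yd22 zd44) (kd xd32 yd23 zd7) (kd xd25 yd12 zd36) (kd xd27 yd15 zd14) (kd xd25 yd36 zd28) (kd xd25 yd12 zd39) (kd xd28 yd58 zd16) (kd xd27 yd30 zd29)) (@D3.rec (fun _ => Pt) (kd xd27 yd19 zd60) (kd xd25 yd12 zd52) (kd xd25 yd35 zd44) (kd xd25 yd13 zd10) (kd xd31 yd47 zd38) (kd xd31 yd10 zd4) (kd xd29 yd28 zd41) (kd xd29 yd0 zd23) (kd xd28 yd58 zd6) (kd xd29 yd41 zd55) (kd xd27 yd19 zd59) (kd xd32 yd47 zd1) (kd xd30 yd55 zd0)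 (kd xd25 yd13 zd52) (kd xd30 yd33 zd5) (kd xd25 yd58 zd27) (kd xd25 yd13 zd53) (kd xd28 yd39 zd21) (kd xd25 yd49 zd3) (kd xd25 yd48 zd56) (kd xd32 yd47 zd57) (kd xd27 yd39 zd48) (kd xd25 yd14 zd2) (kd xd25 yd14 zd5) (kd xd31 yd16 zd53) (kd xd32 yd57 zd21) (kd xd25 yd14 zd6) (kd xd25 yd14 zd9) (kd xd29 yd47 zd54) (kd xd27 yd34 zd35) (kd xd29 yd16 zd11) (kd xd30 yd10 zd0) (kd xd30 yd9 zd61) (kd xd27 yd6 zd16) (kd xd25 yd14 zd28) (kd xd30 yd0 zd46) (kd xd25 yd14 zd33) (kd xd25 yd14 zd34) (kd xd31 yd6 zd26) (kd xd27 yd5 zd1) (kd xd25 yd36 zd22) (kd xd32 yd55 zd41) (kd xd25 yd14 zd50) (kd xd31 yd4 zd44) (kd xd32 yd22 zd25) (kd xd30 yd49 zd35) (kd xd25 yd14 zd56) (kd xd32 yd22 zd26) (kd xd31 yd5 zd51) (kd xd25 yd14 zd61) (kd xd30 yd0 zd11) (kd xd25 yd15 zd0) (kd xd31 yd48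 zd46) (kd xd32 yd25 zd24) (kd xd25 yd15 zd21) (kd xd25 yd15 zd22) (kd xd32 yd0 zd40) (kd xd30 yd17 zd14) (kd xd27 yd27 zd23) (kd xd26 yd5 zd5) (kd xd25 yd49 zd36) (kd xd25 yd15 zd50)) (@D3.rec (fun _ => Pt) (kd xd28 yd8 zd3) (kd xd26 yd20 zd23) (kd xd32 yd6 zd12) (kd xd25 yd16 zd40) (kd xd26 yd5 zd37) (kd xd32 yd24 zd20) (kd xd27 yd31 zd38) (kd xd25 yd44 zd36) (kd xd27 yd36 zd43) (kd xd29 yd52 zd24) (kd xd26 yd6 zd12) (kd xd28 yd16 zd39) (kd xd29 yd22 zd20) (kd xd32 yd52 zd40) (kd xd30 yd21 zd54) (kd xd32 yd46 zd2) (kd xd25 yd17 zd49) (kd xd25 yd17 zd61) (kd xd27 yd47 zd54) (kd xd27 yd45 zd18) (kd xd32 yd46 zd61) (kd xd25 yd18 zd2) (kd xd27 yd47 zd45) (kd xd26 yd5 zd6) (kd xd30 yd33 zd49) (kd xd25 yd18 zd26) (kd xd28 yd14 zd60) (kd xd25 yd18 zd32) (kd xd30 yd12 zd21)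 (kd xd29 yd7 zd1) (kd xd28 yd47 zd54) (kd xd28 yd47 zd45) (kd xd25 yd48 zd1) (kd xd28 yd15 zd8) (kd xd28 yd42 zd6) (kd xd32 yd18 zd37) (kd xd25 yd18 zd57) (kd xd32 yd8 zd5) (kd xd31 yd41 zd0) (kd xd30 yd7 zd7) (kd xd29 yd13 zd20) (kd xd32 yd20 zd45) (kd xd30 yd19 zd17) (kd xd30 yd21 zd16) (kd xd25 yd19 zd15) (kd xd25 yd19 zd16) (kd xd32 yd58 zd9) (kd xd32 yd57 zd44) (kd xd25 yd19 zd17) (kd xd26 yd6 zd9) (kd xd31 yd19 zd29) (kd xd32 yd53 zd22) (kd xd31 yd39 zd47) (kd xd25 yd29 zd5) (kd xd25 yd29 zd1) (kd xd31 yd39 zd48) (kd xd25 yd19 zd31) (kd xd32 yd58 zd10) (kd xd32 yd38 zd59) (kd xd31 yd24 zd21) (kd xd30 yd0 zd10) (kd xd26 yd33 zd8)) (@D3.rec (fun _ => Pt) (kd xd26 yd40 zd4) (kd xd25 yd19 zd56) (kd xd25 yd19 zd58) (kd xd32 yd51 zd44) (kd xd26 yd44 zd53) (kd xd30 yd28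 zd28) (kd xd28 yd54 zd33) (kd xd26 yd35 zd19) (kd xd28 yd45 zd32) (kd xd27 yd7 zd22) (kd xd32 yd12 zd60) (kd xd25 yd20 zd26) (kd xd31 yd41 zd42) (kd xd28 yd45 zd14) (kd xd31 yd51 zd39) (kd xd32 yd23 zd30) (kd xd31 yd39 zd15) (kd xd31 yd51 zd51) (kd xd30 yd18 zd9) (kd xd32 yd52 zd30) (kd xd31 yd28 zd35) (kd xd31 yd41 zd38) (kd xd31 yd41 zd31) (kd xd25 yd20 zd41) (kd xd32 yd58 zd13) (kd xd25 yd20 zd47) (kd xd32 yd33 zd60) (kd xd32 yd57 zd43) (kd xd25 yd20 zd48) (kd xd32 yd17 zd11) (kd xd25 yd20 zd49) (kd xd25 yd20 zd50) (kd xd29 yd5 zd52) (kd xd28 yd15 zd56) (kd xd25 yd20 zd52) (kd xd25 yd22 zd11) (kd xd31 yd20 zd47) (kd xd32 yd51 zd34) (kd xd25 yd20 zd55) (kd xd31 yd51 zd14) (kd xd25 yd20 zd56) (kd xd26 yd35 zd21) (kd xd32 yd40 zd52) (kd xd29 yd47 zd8) (kd xd25 yd20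 zd58) (kd xd25 yd20 zd59) (kd xd25 yd20 zd61) (kd xd30 yd0 zd15) (kd xd31 yd41 zd3) (kd xd29 yd11 zd20) (kd xd25 yd31 zd13) (kd xd31 yd51 zd17) (kd xd26 yd5 zd36) (kd xd26 yd4 zd5) (kd xd32 yd27 zd21) (kd xd32 yd58 zd18) (kd xd25 yd21 zd12) (kd xd29 yd14 zd10) (kd xd25 yd21 zd14) (kd xd26 yd53 zd34) (kd xd26 yd35 zd46) (kd xd26 yd35 zd43)) (@D3.rec (fun _ => Pt) (kd xd31 yd40 zd30) (kd xd28 yd36 zd54) (kd xd25 yd21 zd21) (kd xd28 yd36 zd53) (kd xd31 yd24 zd34) (kd xd32 yd57 zd45) (kd xd32 yd58 zd19) (kd xd25 yd21 zd30) (kd xd32 yd58 zd21) (kd xd25 yd55 zd21) (kd xd25 yd21 zd31) (kd xd32 yd4 zd24) (kd xd25 yd21 zd32) (kd xd25 yd37 zd29) (kd xd31 yd47 zd44) (kd xd30 yd5 zd47) (kd xd25 yd21 zd34) (kd xd31 yd32 zd16) (kd xd32 yd51 zd49) (kd xd25 yd21 zd37) (kd xd32 yd50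 zd12) (kd xd25 yd21 zd38) (kd xd29 yd13 zd8) (kd xd32 yd10 zd60) (kd xd25 yd21 zd40) (kd xd29 yd13 zd35) (kd xd31 yd55 zd14) (kd xd26 yd4 zd13) (kd xd29 yd14 zd23) (kd xd25 yd21 zd44) (kd xd31 yd52 zd53) (kd xd25 yd21 zd45) (kd xd26 yd47 zd38) (kd xd29 yd14 zd16) (kd xd29 yd14 zd17) (kd xd32 yd17 zd27) (kd xd25 yd21 zd47) (kd xd32 yd47 zd30) (kd xd25 yd21 zd53) (kd xd30 yd1 zd49) (kd xd32 yd50 zd13) (kd xd25 yd21 zd55) (kd xd32 yd34 zd33) (kd xd25 yd21 zd56) (kd xd29 yd14 zd57) (kd xd28 yd47 zd1) (kd xd25 yd22 zd8) (kd xd25 yd47 zd53) (kd xd29 yd2 zd47) (kd xd29 yd17 zd53) (kd xd31 yd55 zd58) (kd xd25 yd22 zd15) (kd xd32 yd37 zd61) (kd xd31 yd52 zd30) (kd xd25 yd22 zd18) (kd xd28 yd27 zd58) (kd xd32 yd47 zd25) (kd xd30 yd17 zd30) (kd xd25 yd22 zd34) (kd xd27 yd35 zd49)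 (kd xd31 yd40 zd51) (kd xd27 yd0 zd59)) (@D3.rec (fun _ => Pt) (kd xd25 yd22 zd59) (kd xd25 yd22 zd60) (kd xd27 yd7 zd44) (kd xd25 yd28 zd26) (kd xd28 yd36 zd30) (kd xd25 yd23 zd0) (kd xd32 yd31 zd20) (kd xd30 yd9 zd52) (kd xd32 yd30 zd36) (kd xd25 yd49 zd26) (kd xd32 yd58 zd29) (kd xd25 yd23 zd24) (kd xd28 yd41 zd22) (kd xd25 yd23 zd28) (kd xd32 yd58 zd30) (kd xd25 yd23 zd33) (kd xd25 yd23 zd34) (kd xd32 yd8 zd60) (kd xd25 yd23 zd36) (kd xd32 yd18 zd39) (kd xd32 yd8 zd58) (kd xd32 yd28 zd20) (kd xd26 yd50 zd42) (kd xd32 yd11 zd11) (kd xd30 yd18 zd31) (kd xd29 yd5 zd10) (kd xd29 yd14 zd7) (kd xd31 yd1 zd57) (kd xd25 yd25 zd43) (kd xd25 yd58 zd31) (kd xd30 yd16 zd57) (kd xd25 yd24 zd49) (kd xd25 yd34 zd41) (kd xd25 yd40 zd17) (kd xd31 yd10 zd44) (kd xd32 yd48 zd9) (kd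 xd30 yd20 zd4) (kd xd31 yd56 zd26) (kd xd27 yd0 zd28) (kd xd31 yd37 zd52) (kd xd25 yd25 zd24) (kd xd27 yd29 zd50) (kd xd30 yd36 zd19) (kd xd28 yd16 zd14) (kd xd31 yd39 zd26) (kd xd28 yd51 zd17) (kd xd25 yd57 zd6) (kd xd28 yd5 zd32) (kd xd27 yd34 zd4) (kd xd29 yd42 zd8) (kd xd27 yd34 zd3) (kd xd29 yd42 zd15) (kd xd27 yd32 zd6) (kd xd28 yd9 zd13) (kd xd31 yd10 zd18) (kd xd29 yd5 zd12) (kd xd25 yd26 zd25) (kd xd28 yd8 zd30) (kd xd28 yd48 zd22) (kd xd28 yd7 zd46) (kd xd32 yd48 zd40) (kd xd30 yd40 zd44)) (@D3.rec (fun _ => Pt) (kd xd31 yd34 zd40) (kd xd32 yd14 zd42) (kd xd25 yd26 zd44) (kd xd25 yd35 zd60) (kd xd27 yd18 zd28) (kd xd31 yd3 zd15) (kd xd29 yd16 zd36) (kd xd25 yd30 zd56) (kd xd25 yd27 zd10) (kd xd31 yd46 zd37) (kd xd25 yd30 zd38) (kd xd25 yd55 zd20) (kd xd25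 yd33 zd53) (kd xd27 yd24 zd44) (kd xd25 yd43 zd40) (kd xd25 yd28 zd3) (kd xd25 yd28 zd13) (kd xd25 yd28 zd14) (kd xd25 yd28 zd18) (kd xd25 yd28 zd22) (kd xd27 yd37 zd53) (kd xd32 yd1 zd46) (kd xd32 yd58 zd27) (kd xd25 yd28 zd31) (kd xd28 yd57 zd44) (kd xd30 yd51 zd42) (kd xd25 yd28 zd40) (kd xd25 yd28 zd42) (kd xd30 yd50 zd22) (kd xd27 yd39 zd31) (kd xd31 yd6 zd23) (kd xd31 yd19 zd58) (kd xd29 yd20 zd29) (kd xd26 yd17 zd28) (kd xd25 yd29 zd22) (kd xd31 yd3 zd36) (kd xd25 yd29 zd25) (kd xd28 yd42 zd10) (kd xd25 yd56 zd60) (kd xd25 yd29 zd40) (kd xd25 yd58 zd38) (kd xd26 yd42 zd26) (kd xd25 yd29 zd51) (kd xd27 yd30 zd34) (kd xd29 yd48 zd48) (kd xd25 yd29 zd57) (kd xd31 yd4 zd38) (kd xd31 yd4 zd37) (kd xd25 yd29 zd59) (kd xd25 yd29 zd60) (kd xd26 yd18 zd59) (kd xd30 yd46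 zd58) (kd xd31 yd4 zd8) (kd xd32 yd55 zd50) (kd xd27 yd13 zd1) (kd xd31 yd38 zd40) (kd xd25 yd30 zd9) (kd xd32 yd25 zd22) (kd xd25 yd30 zd23) (kd xd25 yd56 zd51) (kd xd25 yd57 zd50) (kd xd28 yd13 zd19)) (@D3.rec (fun _ => Pt) (kd xd31 yd12 zd15) (kd xd29 yd58 zd20) (kd xd32 yd0 zd9) (kd xd25 yd30 zd32) (kd xd27 yd18 zd13) (kd xd32 yd1 zd28) (kd xd32 yd1 zd24) (kd xd30 yd36 zd44) (kd xd30 yd53 zd37) (kd xd25 yd30 zd49) (kd xd30 yd40 zd40) (kd xd32 yd48 zd17) (kd xd31 yd16 zd2) (kd xd27 yd59 zd46) (kd xd31 yd52 zd26) (kd xd25 yd31 zd3) (kd xd29 yd57 zd24) (kd xd32 yd26 zd25) (kd xd32 yd26 zd26) (kd xd29 yd20 zd6) (kd xd32 yd18 zd6) (kd xd25 yd31 zd46) (kd xd27 yd7 zd56) (kd xd32 yd0 zd53) (kd xd30 yd15 zd38) (kd xd28 yd48 zd53) (kd xd28 yd48 zd58) (kd xd25 yd32 zd2) (kd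 xd25 yd32 zd4) (kd xd25 yd32 zd5) (kd xd26 yd43 zd18) (kd xd32 yd0 zd50) (kd xd27 yd16 zd27) (kd xd32 yd39 zd2) (kd xd28 yd30 zd28) (kd xd28 yd39 zd3) (kd xd32 yd53 zd43) (kd xd26 yd57 zd2) (kd xd32 yd56 zd13) (kd xd25 yd32 zd24) (kd xd32 yd46 zd44) (kd xd32 yd56 zd33) (kd xd25 yd32 zd25) (kd xd25 yd52 zd60) (kd xd29 yd34 zd22) (kd xd25 yd32 zd28) (kd xd26 yd42 zd19) (kd xd32 yd37 zd31) (kd xd27 yd26 zd61) (kd xd26 yd10 zd57) (kd xd30 yd4 zd18) (kd xd32 yd31 zd0) (kd xd29 yd4 zd55) (kd xd32 yd35 zd34) (kd xd25 yd32 zd60) (kd xd27 yd23 zd22) (kd xd29 yd48 zd41) (kd xd27 yd26 zd33) (kd xd31 yd52 zd50) (kd xd30 yd56 zd34) (kd xd25 yd33 zd27) (kd xd31 yd48 zd24)) (@D3.rec (fun _ => Pt) (kd xd29 yd4 zd51) (kd xd29 yd48 zd38) (kd xd29 yd48 zd39) (kd xd32 yd51 zd43) (kd xd27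 yd16 zd52) (kd xd31 yd45 zd42) (kd xd27 yd34 zd50) (kd xd29 yd59 zd1) (kd xd32 yd26 zd51) (kd xd28 yd14 zd0) (kd xd32 yd43 zd7) (kd xd32 yd34 zd56) (kd xd31 yd26 zd20) (kd xd31 yd31 zd11) (kd xd31 yd0 zd48) (kd xd32 yd43 zd57) (kd xd25 yd34 zd52) (kd xd32 yd41 zd34) (kd xd31 yd26 zd44) (kd xd29 yd52 zd10) (kd xd31 yd41 zd6) (kd xd28 yd44 zd51) (kd xd28 yd57 zd59) (kd xd31 yd5 zd50) (kd xd25 yd50 zd55) (kd xd27 yd18 zd53) (kd xd31 yd53 zd37) (kd xd30 yd37 zd6) (kd xd31 yd3 zd47) (kd xd27 yd14 zd57) (kd xd27 yd36 zd14) (kd xd25 yd36 zd15) (kd xd25 yd36 zd16) (kd xd31 yd57 zd7) (kd xd29 yd3 zd30) (kd xd29 yd3 zd37) (kd xd32 yd38 zd12) (kd xd30 yd8 zd34) (kd xd25 yd36 zd45) (kd xd31 yd24 zd24) (kd xd26 yd8 zd27) (kd xd26 yd8 zd28) (kd xd29 yd10 zd57) (kd xd25 yd37 zd11)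 (kd xd25 yd37 zd12) (kd xd31 yd19 zd43) (kd xd26 yd3 zd22) (kd xd31 yd8 zd54) (kd xd25 yd42 zd16) (kd xd28 yd26 zd12) (kd xd25 yd40 zd15) (kd xd28 yd11 zd18) (kd xd30 yd52 zd27) (kd xd27 yd11 zd61) (kd xd32 yd47 zd9) (kd xd29 yd47 zd29) (kd xd32 yd32 zd59) (kd xd32 yd58 zd20) (kd xd32 yd36 zd38) (kd xd25 yd37 zd31) (kd xd32 yd44 zd42) (kd xd25 yd37 zd32)) (@D3.rec (fun _ => Pt) (kd xd25 yd37 zd33) (kd xd32 yd30 zd51) (kd xd25 yd37 zd35) (kd xd31 yd11 zd21) (kd xd25 yd37 zd58) (kd xd31 yd35 zd54) (kd xd28 yd29 zd45) (kd xd31 yd56 zd33) (kd xd32 yd8 zd31) (kd xd25 yd38 zd4) (kd xd25 yd38 zd7) (kd xd25 yd38 zd8) (kd xd31 yd44 zd46) (kd xd26 yd2 zd35) (kd xd32 yd43 zd9) (kd xd25 yd38 zd25) (kd xd25 yd38 zd28) (kd xd31 yd29 zd37) (kd xd25 yd38 zd33) (kd xd28 yd33 zd55) (kd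 xd28 yd33 zd50) (kd xd31 yd30 zd3) (kd xd31 yd18 zd29) (kd xd31 yd57 zd61) (kd xd29 yd10 zd58) (kd xd25 yd38 zd47) (kd xd25 yd38 zd50) (kd xd26 yd58 zd32) (kd xd31 yd57 zd41) (kd xd31 yd27 zd40) (kd xd31 yd8 zd55) (kd xd25 yd38 zd55) (kd xd25 yd38 zd58) (kd xd28 yd47 zd5) (kd xd26 yd2 zd21) (kd xd28 yd47 zd10) (kd xd31 yd0 zd59) (kd xd30 yd42 zd36) (kd xd31 yd2 zd13) (kd xd31 yd59 zd0) (kd xd25 yd42 zd43) (kd xd31 yd57 zd28) (kd xd26 yd32 zd58) (kd xd29 yd13 zd54) (kd xd30 yd40 zd7) (kd xd32 yd48 zd15) (kd xd25 yd42 zd46) (kd xd27 yd51 zd37) (kd xd30 yd16 zd58) (kd xd30 yd31 zd42) (kd xd25 yd39 zd9) (kd xd31 yd1 zd43) (kd xd30 yd0 zd57) (kd xd27 yd50 zd41) (kd xd27 yd50 zd33) (kd xd26 yd16 zd26) (kd xd28 yd45 zd60) (kd xd30 yd43 zd34) (kd xd25 yd39 zd39) (kd xd25 yd39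 zd53) (kd xd32 yd28 zd56) (kd xd31 yd57 zd23)) (@D3.rec (fun _ => Pt) (kd xd32 yd7 zd8) (kd xd32 yd7 zd5) (kd xd26 yd48 zd26) (kd xd31 yd25 zd49) (kd xd32 yd32 zd16) (kd xd25 yd40 zd9) (kd xd31 yd37 zd24) (kd xd25 yd40 zd13) (kd xd32 yd48 zd13) (kd xd32 yd26 zd60) (kd xd31 yd43 zd23) (kd xd32 yd35 zd12) (kd xd29 yd21 zd18) (kd xd31 yd6 zd43) (kd xd25 yd40 zd44) (kd xd28 yd53 zd55) (kd xd25 yd41 zd2) (kd xd30 yd20 zd13) (kd xd32 yd3 zd38) (kd xd25 yd41 zd28) (kd xd31 yd35 zd18) (kd xd30 yd8 zd6) (kd xd25 yd41 zd30) (kd xd27 yd57 zd22) (kd xd31 yd32 zd20) (kd xd27 yd23 zd35) (kd xd29 yd6 zd10) (kd xd28 yd38 zd44) (kd xd31 yd59 zd43) (kd xd29 yd21 zd42) (kd xd30 yd27 zd8) (kd xd30 yd59 zd0) (kd xd32 yd31 zd34) (kd xd25 yd42 zd20) (kd xd25 yd42 zd22) (kd xd25 yd42 zd23)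 (kd xd25 yd42 zd25) (kd xd25 yd42 zd27) (kd xd32 yd3 zd30) (kd xd28 yd8 zd39) (kd xd28 yd1 zd4) (kd xd32 yd53 zd57) (kd xd25 yd42 zd45) (kd xd31 yd7 zd36) (kd xd29 yd51 zd39) (kd xd31 yd2 zd48) (kd xd28 yd19 zd5) (kd xd31 yd16 zd38) (kd xd25 yd42 zd55) (kd xd25 yd42 zd57) (kd xd30 yd59 zd29) (kd xd29 yd26 zd57) (kd xd28 yd24 zd5) (kd xd30 yd18 zd44) (kd xd25 yd43 zd34) (kd xd28 yd24 zd6) (kd xd26 yd44 zd3) (kd xd25 yd43 zd47) (kd xd25 yd43 zd48) (kd xd27 yd18 zd2) (kd xd26 yd42 zd7) (kd xd25 yd44 zd1)) (@D3.rec (fun _ => Pt) (kd xd31 yd57 zd39) (kd xd32 yd3 zd47) (kd xd30 yd2 zd1) (kd xd25 yd44 zd14) (kd xd25 yd44 zd15) (kd xd31 yd2 zd38) (kd xd28 yd42 zd60) (kd xd25 yd51 zd0) (kd xd25 yd44 zd31) (kd xd32 yd43 zd23) (kd xd25 yd44 zd60) (kd xd32 yd24 zd1) (kd xd25 yd45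 zd18) (kd xd28 yd6 zd38) (kd xd25 yd45 zd47) (kd xd26 yd30 zd32) (kd xd26 yd31 zd25) (kd xd31 yd46 zd19) (kd xd28 yd36 zd24) (kd xd28 yd52 zd50) (kd xd27 yd30 zd27) (kd xd31 yd59 zd25) (kd xd26 yd0 zd41) (kd xd26 yd2 zd16) (kd xd25 yd46 zd26) (kd xd31 yd59 zd21) (kd xd29 yd22 zd6) (kd xd31 yd33 zd46) (kd xd27 yd25 zd61) (kd xd25 yd46 zd37) (kd xd32 yd55 zd59) (kd xd31 yd8 zd16) (kd xd31 yd8 zd15) (kd xd32 yd16 zd60) (kd xd25 yd56 zd40) (kd xd32 yd37 zd42) (kd xd29 yd26 zd5) (kd xd30 yd46 zd59) (kd xd29 yd36 zd44) (kd xd25 yd50 zd52) (kd xd25 yd47 zd33) (kd xd29 yd40 zd29) (kd xd28 yd48 zd10) (kd xd31 yd58 zd28) (kd xd25 yd47 zd49) (kd xd25 yd47 zd51) (kd xd31 yd16 zd31) (kd xd28 yd15 zd40) (kd xd26 yd16 zd18) (kd xd32 yd7 zd23) (kd xd32 yd7 zd14) (kd xd32 yd17 zd0)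 (kd xd25 yd54 zd55) (kd xd27 yd37 zd59) (kd xd32 yd41 zd40) (kd xd29 yd16 zd40) (kd xd28 yd29 zd24) (kd xd28 yd52 zd38) (kd xd25 yd48 zd43) (kd xd25 yd48 zd35) (kd xd31 yd47 zd26) (kd xd25 yd55 zd9))
def f_d_32 : D2 → D3 → Pt := @D2.rec (fun _ => D3 → Pt) (@D3.rec (fun _ => Pt) (kd xd25 yd55 zd43) (kd xd27 yd55 zd26) (kd xd30 yd46 zd4) (kd xd27 yd55 zd27) (kd xd25 yd48 zd57) (kd xd25 yd48 zd61) (kd xd25 yd57 zd19) (kd xd27 yd15 zd13) (kd xd29 yd56 zd59) (kd xd31 yd55 zd2) (kd xd25 yd49 zd19) (kd xd29 yd56 zd60) (kd xd25 yd49 zd45) (kd xd29 yd22 zd28) (kd xd30 yd17 zd1) (kd xd31 yd46 zd53) (kd xd31 yd46 zd29) (kd xd29 yd49 zd19) (kd xd29 yd49 zd21) (kd xd30 yd53 zd24) (kd xd25 yd50 zd13) (kd xd31 yd46 zd1) (kd xd29 yd17 zd49) (kd xd32 yd41 zd13) (kd xd25 yd50 zd17) (kd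 xd28 yd21 zd30) (kd xd32 yd36 zd24) (kd xd30 yd11 zd34) (kd xd26 yd39 zd16) (kd xd32 yd44 zd29) (kd xd25 yd50 zd45) (kd xd32 yd27 zd27) (kd xd25 yd50 zd48) (kd xd27 yd24 zd25) (kd xd31 yd24 zd54) (kd xd32 yd0 zd47) (kd xd32 yd35 zd35) (kd xd31 yd9 zd5) (kd xd31 yd20 zd57) (kd xd32 yd55 zd30) (kd xd31 yd49 zd56) (kd xd31 yd46 zd9) (kd xd29 yd4 zd28) (kd xd31 yd10 zd48) (kd xd31 yd26 zd48) (kd xd26 yd5 zd1) (kd xd29 yd7 zd36) (kd xd32 yd0 zd35) (kd xd32 yd34 zd34) (kd xd25 yd51 zd28) (kd xd31 yd55 zd31) (kd xd31 yd19 zd32) (kd xd25 yd51 zd40) (kd xd31 yd55 zd23) (kd xd30 yd57 zd21) (kd xd29 yd1 zd19) (kd xd30 yd19 zd19) (kd xd32 yd43 zd55) (kd xd32 yd56 zd3) (kd xd32 yd20 zd54) (kd xd27 yd37 zd20) (kd xd25 yd52 zd45)) (@D3.rec (fun _ => Pt) (kd xd26 yd4 zd52) (kd xd26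 yd39 zd28) (kd xd26 yd44 zd13) (kd xd29 yd1 zd42) (kd xd32 yd58 zd42) (kd xd32 yd52 zd50) (kd xd25 yd53 zd3) (kd xd32 yd58 zd43) (kd xd25 yd53 zd7) (kd xd32 yd19 zd12) (kd xd25 yd53 zd14) (kd xd32 yd13 zd27) (kd xd31 yd43 zd40) (kd xd32 yd45 zd3) (kd xd25 yd53 zd39) (kd xd32 yd53 zd5) (kd xd32 yd21 zd3) (kd xd25 yd54 zd11) (kd xd25 yd53 zd53) (kd xd25 yd53 zd57) (kd xd25 yd54 zd3) (kd xd27 yd24 zd12) (kd xd30 yd55 zd21) (kd xd25 yd54 zd7) (kd xd31 yd55 zd6) (kd xd25 yd54 zd13) (kd xd29 yd56 zd32) (kd xd30 yd13 zd1) (kd xd31 yd55 zd5) (kd xd25 yd54 zd18) (kd xd25 yd54 zd21) (kd xd26 yd12 zd32) (kd xd32 yd8 zd39) (kd xd27 yd53 zd14) (kd xd26 yd17 zd33) (kd xd32 yd42 zd26) (kd xd25 yd54 zd30) (kd xd29 yd19 zd48) (kd xd32 yd55 zd48) (kd xd25 yd54 zd34) (kd xd30 yd54 zd55)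 (kd xd29 yd22 zd36) (kd xd29 yd24 zd54) (kd xd26 yd42 zd8) (kd xd25 yd54 zd43) (kd xd25 yd54 zd44) (kd xd31 yd54 zd21) (kd xd30 yd19 zd52) (kd xd27 yd49 zd53) (kd xd27 yd16 zd19) (kd xd27 yd7 zd50) (kd xd32 yd48 zd59) (kd xd31 yd31 zd59) (kd xd29 yd19 zd44) (kd xd29 yd39 zd8) (kd xd32 yd54 zd49) (kd xd31 yd35 zd30) (kd xd26 yd41 zd42) (kd xd29 yd18 zd32) (kd xd31 yd48 zd43) (kd xd32 yd22 zd8) (kd xd25 yd55 zd58)) (@D3.rec (fun _ => Pt) (kd xd29 yd16 zd29) (kd xd27 yd8 zd41) (kd xd28 yd0 zd17) (kd xd32 yd56 zd0) (kd xd30 yd28 zd5) (kd xd32 yd52 zd16) (kd xd25 yd56 zd30) (kd xd31 yd32 zd3) (kd xd32 yd36 zd55) (kd xd32 yd56 zd17) (kd xd28 yd20 zd48) (kd xd30 yd26 zd38) (kd xd31 yd20 zd21) (kd xd29 yd16 zd44) (kd xd25 yd56 zd43) (kd xd32 yd56 zd18) (kd xd31 yd19 zd61) (kd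 xd31 yd20 zd3) (kd xd26 yd16 zd52) (kd xd25 yd56 zd52) (kd xd27 yd37 zd60) (kd xd31 yd47 zd8) (kd xd32 yd42 zd37) (kd xd29 yd37 zd20) (kd xd32 yd38 zd47) (kd xd31 yd46 zd42) (kd xd25 yd57 zd33) (kd xd29 yd42 zd11) (kd xd30 yd33 zd21) (kd xd30 yd20 zd12) (kd xd30 yd43 zd18) (kd xd30 yd54 zd32) (kd xd27 yd15 zd26) (kd xd26 yd1 zd4) (kd xd27 yd17 zd40) (kd xd26 yd30 zd30) (kd xd25 yd59 zd7) (kd xd31 yd16 zd1) (kd xd32 yd34 zd27) (kd xd30 yd35 zd19) (kd xd28 yd17 zd9) (kd xd32 yd30 zd20) (kd xd29 yd59 zd14) (kd xd27 yd41 zd13) (kd xd30 yd14 zd5) (kd xd28 yd9 zd45) (kd xd26 yd20 zd38) (kd xd31 yd42 zd16) (kd xd26 yd18 zd58) (kd xd32 yd48 zd52) (kd xd32 yd55 zd56) (kd xd31 yd4 zd31) (kd xd26 yd16 zd50) (kd xd26 yd16 zd49) (kd xd25 yd58 zd52) (kd xd32 yd6 zd55) (kd xd25 yd58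 zd58) (kd xd25 yd58 zd59) (kd xd30 yd32 zd11) (kd xd29 yd59 zd21) (kd xd31 yd5 zd57) (kd xd28 yd23 zd57)) (@D3.rec (fun _ => Pt) (kd xd32 yd42 zd38) (kd xd25 yd59 zd25) (kd xd30 yd55 zd42) (kd xd26 yd43 zd22) (kd xd29 yd7 zd46) (kd xd28 yd29 zd23) (kd xd27 yd9 zd57) (kd xd26 yd0 zd1) (kd xd29 yd44 zd35) (kd xd26 yd0 zd34) (kd xd27 yd57 zd30) (kd xd27 yd57 zd58) (kd xd30 yd0 zd27) (kd xd29 yd22 zd22) (kd xd26 yd1 zd28) (kd xd26 yd6 zd36) (kd xd26 yd10 zd2) (kd xd26 yd1 zd30) (kd xd26 yd1 zd31) (kd xd26 yd1 zd44) (kd xd32 yd36 zd47) (kd xd26 yd1 zd49) (kd xd26 yd1 zd54) (kd xd26 yd37 zd38) (kd xd26 yd1 zd61) (kd xd26 yd2 zd0) (kd xd32 yd58 zd48) (kd xd30 yd40 zd0) (kd xd26 yd37 zd25) (kd xd26 yd2 zd17) (kd xd31 yd58 zd38) (kd xd26 yd2 zd37) (kd xd32 yd43 zd5) (kd xd29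 yd2 zd32) (kd xd26 yd38 zd57) (kd xd27 yd44 zd48) (kd xd26 yd37 zd17) (kd xd26 yd37 zd18) (kd xd31 yd58 zd18) (kd xd26 yd9 zd58) (kd xd27 yd38 zd18) (kd xd32 yd36 zd11) (kd xd29 yd28 zd24) (kd xd26 yd3 zd32) (kd xd30 yd14 zd24) (kd xd26 yd3 zd44) (kd xd27 yd24 zd32) (kd xd31 yd59 zd1) (kd xd28 yd33 zd44) (kd xd28 yd10 zd11) (kd xd31 yd1 zd31) (kd xd31 yd11 zd5) (kd xd26 yd4 zd28) (kd xd28 yd16 zd50) (kd xd26 yd4 zd32) (kd xd31 yd42 zd41) (kd xd26 yd29 zd7) (kd xd31 yd46 zd24) (kd xd26 yd4 zd41) (kd xd27 yd16 zd30) (kd xd32 yd4 zd9) (kd xd26 yd4 zd43)) (@D3.rec (fun _ => Pt) (kd xd32 yd35 zd42) (kd xd32 yd38 zd60) (kd xd32 yd51 zd0) (kd xd26 yd4 zd45) (kd xd30 yd29 zd38) (kd xd27 yd14 zd1) (kd xd27 yd14 zd2) (kd xd30 yd14 zd60) (kd xd32 yd4 zd10) (kd xd32 yd3 zd60) (kd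 xd32 yd4 zd8) (kd xd32 yd49 zd13) (kd xd32 yd58 zd41) (kd xd29 yd56 zd15) (kd xd26 yd23 zd22) (kd xd26 yd5 zd31) (kd xd29 yd28 zd56) (kd xd26 yd6 zd7) (kd xd31 yd19 zd26) (kd xd26 yd6 zd10) (kd xd28 yd49 zd52) (kd xd26 yd6 zd15) (kd xd29 yd36 zd5) (kd xd32 yd32 zd7) (kd xd31 yd52 zd11) (kd xd31 yd29 zd35) (kd xd26 yd6 zd22) (kd xd26 yd6 zd20) (kd xd32 yd57 zd35) (kd xd26 yd6 zd21) (kd xd32 yd5 zd16) (kd xd30 yd4 zd31) (kd xd26 yd48 zd14) (kd xd26 yd6 zd40) (kd xd32 yd49 zd20) (kd xd26 yd6 zd43) (kd xd29 yd57 zd51) (kd xd32 yd54 zd12) (kd xd26 yd6 zd51) (kd xd26 yd6 zd58) (kd xd26 yd6 zd60) (kd xd27 yd57 zd7) (kd xd26 yd7 zd12) (kd xd26 yd7 zd15) (kd xd27 yd0 zd2) (kd xd26 yd7 zd39) (kd xd26 yd7 zd58) (kd xd26 yd30 zd12) (kd xd31 yd41 zd57) (kd xd30 yd2 zd29) (kd xd32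 yd15 zd39) (kd xd26 yd47 zd27) (kd xd26 yd8 zd11) (kd xd26 yd8 zd17) (kd xd26 yd47 zd21) (kd xd28 yd3 zd19) (kd xd26 yd8 zd19) (kd xd29 yd7 zd21) (kd xd31 yd12 zd8) (kd xd26 yd8 zd34) (kd xd31 yd41 zd59) (kd xd30 yd57 zd58)) (@D3.rec (fun _ => Pt) (kd xd31 yd6 zd18) (kd xd30 yd0 zd45) (kd xd31 yd3 zd55) (kd xd32 yd48 zd27) (kd xd28 yd11 zd30) (kd xd26 yd9 zd2) (kd xd29 yd10 zd13) (kd xd32 yd53 zd11) (kd xd26 yd9 zd15) (kd xd26 yd9 zd17) (kd xd26 yd9 zd24) (kd xd30 yd34 zd9) (kd xd30 yd57 zd24) (kd xd31 yd30 zd20) (kd xd26 yd9 zd35) (kd xd32 yd31 zd2) (kd xd32 yd4 zd30) (kd xd32 yd40 zd50) (kd xd26 yd9 zd46) (kd xd32 yd58 zd14) (kd xd26 yd9 zd57) (kd xd26 yd9 zd59) (kd xd26 yd10 zd0) (kd xd29 yd51 zd58) (kd xd26 yd10 zd30) (kd xd28 yd35 zd19) (kd xd30 yd11 zd6) (kd xd30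 yd59 zd12) (kd xd26 yd10 zd55) (kd xd30 yd1 zd25) (kd xd26 yd13 zd17) (kd xd26 yd11 zd32) (kd xd28 yd15 zd23) (kd xd27 yd20 zd55) (kd xd27 yd46 zd15) (kd xd30 yd59 zd46) (kd xd31 yd34 zd1) (kd xd30 yd59 zd59) (kd xd28 yd41 zd6) (kd xd26 yd11 zd42) (kd xd31 yd14 zd32) (kd xd30 yd12 zd15) (kd xd32 yd49 zd22) (kd xd31 yd33 zd54) (kd xd32 yd55 zd12) (kd xd26 yd11 zd50) (kd xd31 yd33 zd59) (kd xd26 yd15 zd61) (kd xd32 yd9 zd50) (kd xd32 yd9 zd48) (kd xd28 yd41 zd36) (kd xd32 yd38 zd7) (kd xd30 yd58 zd43) (kd xd28 yd43 zd43) (kd xd28 yd43 zd45) (kd xd32 yd25 zd8) (kd xd26 yd11 zd60) (kd xd31 yd33 zd57) (kd xd28 yd41 zd34) (kd xd31 yd42 zd58) (kd xd31 yd42 zd60) (kd xd26 yd21 zd15)) (@D3.rec (fun _ => Pt) (kd xd32 yd25 zd0) (kd xd26 yd12 zd40) (kd xd27 yd46 zd21) (kd xd26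 yd13 zd2) (kd xd31 yd43 zd32) (kd xd32 yd58 zd50) (kd xd31 yd2 zd3) (kd xd26 yd13 zd33) (kd xd32 yd42 zd15) (kd xd26 yd23 zd60) (kd xd32 yd58 zd47) (kd xd30 yd45 zd56) (kd xd31 yd50 zd2) (kd xd27 yd25 zd14) (kd xd26 yd13 zd54) (kd xd29 yd37 zd24) (kd xd29 yd37 zd42) (kd xd26 yd13 zd59) (kd xd30 yd8 zd44) (kd xd32 yd24 zd11) (kd xd28 yd8 zd38) (kd xd31 yd3 zd42) (kd xd28 yd4 zd17) (kd xd32 yd26 zd10) (kd xd26 yd24 zd4) (kd xd26 yd15 zd19) (kd xd26 yd21 zd24) (kd xd26 yd15 zd22) (kd xd31 yd46 zd14) (kd xd26 yd15 zd25) (kd xd26 yd15 zd26) (kd xd30 yd12 zd60) (kd xd29 yd57 zd37) (kd xd32 yd8 zd23) (kd xd32 yd7 zd22) (kd xd26 yd16 zd17) (kd xd28 yd1 zd60) (kd xd27 yd25 zd37) (kd xd30 yd58 zd35) (kd xd30 yd58 zd36) (kd xd30 yd58 zd51) (kd xd30 yd58 zd6) (kd xd28 yd41 zd5)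 (kd xd28 yd46 zd51) (kd xd32 yd58 zd51) (kd xd32 yd54 zd15) (kd xd32 yd44 zd40) (kd xd26 yd16 zd23) (kd xd32 yd26 zd53) (kd xd30 yd0 zd58) (kd xd28 yd6 zd44) (kd xd31 yd42 zd49) (kd xd26 yd29 zd20) (kd xd26 yd16 zd48) (kd xd30 yd36 zd40) (kd xd32 yd2 zd55) (kd xd29 yd21 zd36) (kd xd29 yd21 zd37) (kd xd32 yd27 zd23) (kd xd26 yd17 zd24) (kd xd29 yd25 zd10) (kd xd32 yd29 zd33)) (@D3.rec (fun _ => Pt) (kd xd26 yd17 zd30) (kd xd26 yd17 zd37) (kd xd27 yd0 zd60) (kd xd32 yd43 zd26) (kd xd32 yd58 zd52) (kd xd31 yd58 zd1) (kd xd26 yd17 zd49) (kd xd26 yd17 zd53) (kd xd31 yd58 zd0) (kd xd26 yd17 zd54) (kd xd26 yd20 zd30) (kd xd26 yd20 zd32) (kd xd32 yd27 zd31) (kd xd26 yd17 zd57) (kd xd31 yd59 zd50) (kd xd32 yd26 zd28) (kd xd26 yd18 zd5) (kd xd30 yd1 zd9) (kd xd30 yd39 zd35) (kd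 xd31 yd25 zd44) (kd xd31 yd45 zd32) (kd xd31 yd15 zd22) (kd xd32 yd6 zd34) (kd xd31 yd59 zd49) (kd xd27 yd31 zd24) (kd xd27 yd55 zd17) (kd xd26 yd31 zd16) (kd xd27 yd55 zd15) (kd xd27 yd34 zd40) (kd xd28 yd28 zd49) (kd xd26 yd19 zd10) (kd xd31 yd42 zd55) (kd xd28 yd32 zd7) (kd xd28 yd7 zd30) (kd xd30 yd53 zd17) (kd xd26 yd19 zd33) (kd xd32 yd36 zd53) (kd xd28 yd8 zd37) (kd xd32 yd8 zd61) (kd xd26 yd20 zd16) (kd xd30 yd37 zd8) (kd xd32 yd55 zd22) (kd xd26 yd20 zd34) (kd xd31 yd38 zd35) (kd xd32 yd25 zd29) (kd xd29 yd32 zd26) (kd xd28 yd5 zd3) (kd xd30 yd44 zd26) (kd xd26 yd20 zd54) (kd xd31 yd7 zd22) (kd xd26 yd29 zd4) (kd xd29 yd25 zd6) (kd xd32 yd29 zd32) (kd xd28 yd31 zd51) (kd xd32 yd44 zd3) (kd xd29 yd19 zd45) (kd xd27 yd47 zd38) (kd xd26 yd56 zd25) (kd xd31 yd46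 zd7) (kd xd26 yd21 zd29) (kd xd28 yd46 zd52) (kd xd26 yd21 zd30)) (@D3.rec (fun _ => Pt) (kd xd31 yd39 zd19) (kd xd31 yd42 zd25) (kd xd30 yd49 zd49) (kd xd26 yd59 zd60) (kd xd31 yd0 zd18) (kd xd31 yd50 zd37) (kd xd26 yd22 zd6) (kd xd28 yd41 zd27) (kd xd26 yd22 zd11) (kd xd32 yd9 zd20) (kd xd26 yd22 zd19) (kd xd30 yd3 zd60) (kd xd28 yd35 zd22) (kd xd32 yd17 zd18) (kd xd32 yd36 zd33) (kd xd29 yd24 zd35) (kd xd32 yd54 zd61) (kd xd26 yd22 zd45) (kd xd27 yd29 zd58) (kd xd27 yd46 zd0) (kd xd26 yd23 zd19) (kd xd26 yd23 zd41) (kd xd26 yd23 zd48) (kd xd32 yd6 zd33) (kd xd27 yd40 zd5) (kd xd27 yd40 zd7) (kd xd27 yd37 zd34) (kd xd29 yd20 zd28) (kd xd28 yd22 zd38) (kd xd30 yd18 zd34) (kd xd26 yd24 zd16) (kd xd31 yd57 zd8) (kd xd32 yd30 zd33) (kd xd32 yd19 zd21) (kd xd26 yd24 zd26)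 (kd xd32 yd58 zd53) (kd xd26 yd24 zd29) (kd xd32 yd58 zd28) (kd xd31 yd46 zd51) (kd xd32 yd1 zd32) (kd xd29 yd53 zd0) (kd xd26 yd48 zd22) (kd xd32 yd35 zd45) (kd xd26 yd29 zd31) (kd xd29 yd11 zd33) (kd xd32 yd57 zd56) (kd xd26 yd41 zd33) (kd xd27 yd58 zd27) (kd xd32 yd30 zd57) (kd xd32 yd23 zd33) (kd xd32 yd24 zd47) (kd xd32 yd42 zd22) (kd xd26 yd26 zd8) (kd xd32 yd45 zd16) (kd xd26 yd26 zd17) (kd xd26 yd26 zd19) (kd xd26 yd26 zd44) (kd xd26 yd56 zd52) (kd xd31 yd53 zd20) (kd xd31 yd6 zd47) (kd xd31 yd53 zd17) (kd xd32 yd7 zd38)) (@D3.rec (fun _ => Pt) (kd xd26 yd27 zd23) (kd xd32 yd35 zd54) (kd xd26 yd27 zd26) (kd xd32 yd17 zd20) (kd xd26 yd27 zd29) (kd xd26 yd27 zd30) (kd xd26 yd27 zd33) (kd xd26 yd27 zd35) (kd xd26 yd27 zd36) (kd xd27 yd15 zd18) (kd xd32 yd54 zd47)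 (kd xd26 yd27 zd40) (kd xd29 yd53 zd28) (kd xd30 yd2 zd35) (kd xd29 yd24 zd22) (kd xd31 yd25 zd1) (kd xd26 yd27 zd60) (kd xd32 yd37 zd54) (kd xd32 yd52 zd36) (kd xd31 yd6 zd44) (kd xd32 yd8 zd9) (kd xd27 yd5 zd16) (kd xd26 yd56 zd56) (kd xd28 yd38 zd52) (kd xd32 yd36 zd3) (kd xd30 yd44 zd41) (kd xd29 yd54 zd23) (kd xd31 yd38 zd16) (kd xd32 yd16 zd42) (kd xd28 yd38 zd31) (kd xd26 yd28 zd60) (kd xd26 yd28 zd61) (kd xd26 yd29 zd5) (kd xd28 yd9 zd8) (kd xd28 yd25 zd35) (kd xd31 yd15 zd8) (kd xd28 yd37 zd18) (kd xd28 yd8 zd58) (kd xd27 yd37 zd18) (kd xd26 yd29 zd17) (kd xd29 yd24 zd53) (kd xd31 yd3 zd57) (kd xd27 yd50 zd57) (kd xd27 yd49 zd13) (kd xd29 yd25 zd1) (kd xd27 yd40 zd21) (kd xd28 yd3 zd48) (kd xd28 yd4 zd9) (kd xd32 yd5 zd49) (kd xd26 yd30 zd1) (kd xd32 yd5 zd48)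 (kd xd26 yd30 zd7) (kd xd32 yd55 zd51) (kd xd31 yd37 zd9) (kd xd31 yd11 zd9) (kd xd26 yd50 zd53) (kd xd29 yd29 zd52) (kd xd32 yd25 zd48) (kd xd28 yd8 zd60) (kd xd26 yd30 zd37) (kd xd28 yd7 zd61) (kd xd32 yd30 zd26)) (@D3.rec (fun _ => Pt) (kd xd32 yd49 zd27) (kd xd27 yd32 zd55) (kd xd26 yd30 zd41) (kd xd26 yd30 zd42) (kd xd32 yd23 zd16) (kd xd30 yd35 zd38) (kd xd27 yd52 zd0) (kd xd31 yd43 zd14) (kd xd31 yd43 zd16) (kd xd27 yd51 zd49) (kd xd26 yd30 zd50) (kd xd27 yd45 zd61) (kd xd26 yd30 zd52) (kd xd32 yd58 zd46) (kd xd32 yd25 zd46) (kd xd26 yd31 zd27) (kd xd32 yd29 zd30) (kd xd26 yd32 zd45) (kd xd32 yd44 zd12) (kd xd29 yd24 zd52) (kd xd26 yd31 zd48) (kd xd26 yd31 zd50) (kd xd26 yd31 zd51) (kd xd32 yd32 zd27) (kd xd31 yd14 zd38) (kd xd28 yd5 zd30) (kd xd26 yd32 zd19)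 (kd xd32 yd43 zd3) (kd xd26 yd32 zd30) (kd xd28 yd55 zd15) (kd xd32 yd47 zd38) (kd xd32 yd22 zd14) (kd xd29 yd46 zd4) (kd xd32 yd10 zd61) (kd xd29 yd43 zd59) (kd xd29 yd7 zd35) (kd xd31 yd47 zd31) (kd xd32 yd47 zd40) (kd xd26 yd33 zd35) (kd xd32 yd47 zd17) (kd xd26 yd33 zd36) (kd xd32 yd57 zd3) (kd xd26 yd33 zd37) (kd xd29 yd47 zd4) (kd xd29 yd47 zd3) (kd xd26 yd33 zd39) (kd xd26 yd59 zd33) (kd xd26 yd34 zd0) (kd xd26 yd34 zd1) (kd xd32 yd47 zd55) (kd xd26 yd34 zd6) (kd xd26 yd34 zd7) (kd xd29 yd44 zd13) (kd xd29 yd44 zd12) (kd xd32 yd45 zd40) (kd xd26 yd34 zd9) (kd xd29 yd47 zd32) (kd xd32 yd20 zd58) (kd xd32 yd39 zd47) (kd xd26 yd34 zd17) (kd xd31 yd52 zd23) (kd xd32 yd10 zd33)) (@D3.rec (fun _ => Pt) (kd xd26 yd34 zd20) (kd xd26 yd34 zd21) (kd xd26 yd34 zd22) (kd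 xd31 yd40 zd47) (kd xd26 yd34 zd28) (kd xd32 yd45 zd22) (kd xd32 yd22 zd17) (kd xd27 yd16 zd28) (kd xd32 yd52 zd32) (kd xd32 yd38 zd58) (kd xd26 yd34 zd32) (kd xd31 yd53 zd23) (kd xd26 yd34 zd33) (kd xd32 yd37 zd52) (kd xd26 yd34 zd35) (kd xd29 yd44 zd14) (kd xd26 yd34 zd45) (kd xd26 yd34 zd48) (kd xd26 yd34 zd49) (kd xd27 yd0 zd16) (kd xd26 yd34 zd51) (kd xd32 yd14 zd16) (kd xd30 yd14 zd55) (kd xd32 yd20 zd56) (kd xd32 yd45 zd45) (kd xd29 yd40 zd31) (kd xd29 yd45 zd46) (kd xd26 yd35 zd2) (kd xd26 yd35 zd3) (kd xd30 yd9 zd27) (kd xd31 yd19 zd25) (kd xd26 yd35 zd8) (kd xd27 yd14 zd45) (kd xd30 yd28 zd55) (kd xd26 yd35 zd13) (kd xd26 yd35 zd16) (kd xd32 yd12 zd2) (kd xd30 yd21 zd57) (kd xd32 yd56 zd32) (kd xd26 yd35 zd22) (kd xd26 yd35 zd23) (kd xd27 yd19 zd4) (kd xd27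 yd0 zd25) (kd xd32 yd38 zd61) (kd xd32 yd50 zd56) (kd xd32 yd23 zd28) (kd xd28 yd40 zd22) (kd xd26 yd37 zd61) (kd xd26 yd35 zd35) (kd xd26 yd52 zd19) (kd xd26 yd52 zd20) (kd xd26 yd55 zd50) (kd xd32 yd36 zd18) (kd xd32 yd56 zd48) (kd xd26 yd56 zd49) (kd xd29 yd33 zd26) (kd xd28 yd40 zd24) (kd xd29 yd55 zd45) (kd xd29 yd10 zd35) (kd xd31 yd39 zd57) (kd xd29 yd53 zd26) (kd xd26 yd38 zd4)) (@D3.rec (fun _ => Pt) (kd xd26 yd35 zd54) (kd xd31 yd33 zd3) (kd xd32 yd11 zd36) (kd xd31 yd33 zd5) (kd xd26 yd35 zd58) (kd xd29 yd33 zd47) (kd xd30 yd15 zd13) (kd xd26 yd35 zd61) (kd xd29 yd42 zd38) (kd xd32 yd47 zd5) (kd xd31 yd19 zd4) (kd xd32 yd45 zd52) (kd xd26 yd36 zd2) (kd xd31 yd33 zd17) (kd xd26 yd36 zd4) (kd xd26 yd36 zd7) (kd xd26 yd36 zd8) (kd xd26 yd57 zd30) (kd xd30 yd15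 zd45) (kd xd32 yd35 zd27) (kd xd28 yd40 zd19) (kd xd32 yd47 zd26) (kd xd31 yd33 zd1) (kd xd29 yd2 zd8) (kd xd28 yd39 zd43) (kd xd32 yd19 zd7) (kd xd32 yd19 zd6) (kd xd29 yd45 zd12) (kd xd28 yd39 zd50) (kd xd31 yd29 zd47) (kd xd32 yd37 zd49) (kd xd28 yd34 zd24) (kd xd32 yd19 zd38) (kd xd28 yd55 zd57) (kd xd28 yd55 zd52) (kd xd28 yd29 zd22) (kd xd29 yd0 zd61) (kd xd26 yd36 zd27) (kd xd28 yd39 zd42) (kd xd28 yd54 zd43) (kd xd32 yd35 zd32) (kd xd26 yd36 zd34) (kd xd29 yd34 zd27) (kd xd28 yd39 zd39) (kd xd28 yd33 zd5) (kd xd32 yd47 zd33) (kd xd32 yd47 zd34) (kd xd32 yd41 zd5) (kd xd32 yd50 zd33) (kd xd31 yd27 zd26) (kd xd26 yd36 zd54) (kd xd26 yd37 zd9) (kd xd26 yd38 zd48) (kd xd26 yd37 zd2) (kd xd30 yd17 zd37) (kd xd31 yd48 zd25) (kd xd32 yd13 zd2) (kd xd26 yd37 zd39) (kd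 xd26 yd47 zd39) (kd xd29 yd11 zd11) (kd xd31 yd51 zd10) (kd xd31 yd42 zd20)) (@D3.rec (fun _ => Pt) (kd xd30 yd30 zd58) (kd xd26 yd41 zd29) (kd xd32 yd12 zd56) (kd xd30 yd17 zd24) (kd xd28 yd54 zd51) (kd xd26 yd37 zd53) (kd xd29 yd37 zd60) (kd xd26 yd37 zd59) (kd xd30 yd0 zd16) (kd xd31 yd14 zd3) (kd xd29 yd27 zd52) (kd xd30 yd28 zd50) (kd xd30 yd29 zd59) (kd xd26 yd38 zd5) (kd xd26 yd38 zd7) (kd xd32 yd37 zd56) (kd xd29 yd46 zd52) (kd xd32 yd47 zd37) (kd xd32 yd46 zd45) (kd xd32 yd46 zd48) (kd xd27 yd0 zd42) (kd xd29 yd46 zd7) (kd xd32 yd39 zd30) (kd xd26 yd39 zd33) (kd xd29 yd46 zd50) (kd xd29 yd32 zd22) (kd xd29 yd33 zd58) (kd xd32 yd1 zd11) (kd xd26 yd38 zd37) (kd xd26 yd38 zd38) (kd xd26 yd38 zd43) (kd xd26 yd38 zd44) (kd xd26 yd38 zd46) (kd xd28 yd44 zd27) (kd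 xd27 yd19 zd16) (kd xd32 yd38 zd28) (kd xd31 yd31 zd42) (kd xd31 yd31 zd43) (kd xd32 yd19 zd16) (kd xd26 yd58 zd50) (kd xd26 yd58 zd48) (kd xd32 yd19 zd13) (kd xd28 yd44 zd21) (kd xd26 yd59 zd57) (kd xd32 yd37 zd28) (kd xd32 yd47 zd54) (kd xd32 yd41 zd10) (kd xd32 yd45 zd35) (kd xd31 yd26 zd12) (kd xd32 yd45 zd39) (kd xd27 yd37 zd21) (kd xd28 yd24 zd7) (kd xd27 yd35 zd56) (kd xd30 yd35 zd51) (kd xd27 yd54 zd4) (kd xd26 yd39 zd36) (kd xd26 yd39 zd46) (kd xd32 yd14 zd24) (kd xd31 yd29 zd21) (kd xd26 yd40 zd1) (kd xd31 yd21 zd29) (kd xd28 yd39 zd49)) (@D3.rec (fun _ => Pt) (kd xd26 yd40 zd7) (kd xd32 yd47 zd59) (kd xd29 yd44 zd39) (kd xd29 yd44 zd38) (kd xd32 yd38 zd18) (kd xd30 yd29 zd34) (kd xd29 yd46 zd51) (kd xd32 yd20 zd60) (kd xd26 yd40 zd23) (kd xd32 yd40 zd26)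 (kd xd29 yd46 zd55) (kd xd32 yd53 zd31) (kd xd26 yd40 zd25) (kd xd31 yd29 zd27) (kd xd32 yd40 zd11) (kd xd26 yd40 zd41) (kd xd32 yd11 zd21) (kd xd27 yd13 zd52) (kd xd27 yd0 zd15) (kd xd32 yd24 zd14) (kd xd26 yd40 zd46) (kd xd30 yd15 zd25) (kd xd29 yd47 zd15) (kd xd27 yd36 zd39) (kd xd32 yd13 zd57) (kd xd26 yd54 zd51) (kd xd29 yd47 zd26) (kd xd32 yd20 zd57) (kd xd29 yd46 zd31) (kd xd31 yd20 zd13) (kd xd31 yd20 zd36) (kd xd26 yd41 zd14) (kd xd32 yd41 zd2) (kd xd29 yd45 zd1) (kd xd26 yd41 zd24) (kd xd26 yd41 zd27) (kd xd31 yd7 zd30) (kd xd30 yd4 zd9) (kd xd29 yd51 zd51) (kd xd26 yd41 zd60) (kd xd26 yd42 zd18) (kd xd26 yd42 zd33) (kd xd31 yd54 zd1) (kd xd31 yd28 zd37) (kd xd29 yd17 zd54) (kd xd32 yd17 zd39) (kd xd30 yd37 zd52) (kd xd26 yd42 zd51) (kd xd30 yd27 zd23) (kd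 xd30 yd37 zd51) (kd xd31 yd13 zd30) (kd xd31 yd3 zd39) (kd xd31 yd3 zd40) (kd xd27 yd16 zd55) (kd xd32 yd51 zd51) (kd xd26 yd42 zd60) (kd xd32 yd51 zd41) (kd xd32 yd46 zd36) (kd xd26 yd42 zd61) (kd xd28 yd16 zd37) (kd xd30 yd56 zd52) (kd xd32 yd56 zd5)) (@D3.rec (fun _ => Pt) (kd xd26 yd43 zd2) (kd xd26 yd43 zd6) (kd xd32 yd58 zd16) (kd xd26 yd43 zd8) (kd xd27 yd10 zd44) (kd xd29 yd8 zd26) (kd xd26 yd43 zd11) (kd xd26 yd43 zd13) (kd xd30 yd28 zd2) (kd xd32 yd37 zd39) (kd xd31 yd47 zd34) (kd xd32 yd21 zd30) (kd xd29 yd38 zd10) (kd xd29 yd40 zd14) (kd xd29 yd40 zd7) (kd xd28 yd14 zd30) (kd xd28 yd52 zd18) (kd xd28 yd43 zd32) (kd xd28 yd30 zd18) (kd xd30 yd22 zd57) (kd xd31 yd13 zd29) (kd xd26 yd43 zd45) (kd xd32 yd46 zd32) (kd xd26 yd43 zd57) (kd xd26 yd43 zd58) (kd xd26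 yd51 zd22) (kd xd30 yd27 zd36) (kd xd32 yd35 zd3) (kd xd29 yd8 zd25) (kd xd28 yd34 zd5) (kd xd32 yd46 zd57) (kd xd26 yd44 zd19) (kd xd30 yd0 zd9) (kd xd32 yd33 zd34) (kd xd26 yd44 zd28) (kd xd26 yd44 zd43) (kd xd28 yd15 zd60) (kd xd26 yd51 zd2) (kd xd28 yd19 zd25) (kd xd32 yd4 zd50) (kd xd28 yd47 zd60) (kd xd28 yd14 zd35) (kd xd28 yd48 zd7) (kd xd26 yd45 zd38) (kd xd32 yd46 zd49) (kd xd32 yd40 zd29) (kd xd26 yd46 zd13) (kd xd26 yd46 zd16) (kd xd26 yd46 zd17) (kd xd26 yd46 zd21) (kd xd31 yd42 zd5) (kd xd27 yd3 zd43) (kd xd29 yd9 zd29) (kd xd29 yd54 zd2) (kd xd26 yd46 zd47) (kd xd27 yd14 zd32) (kd xd26 yd46 zd48) (kd xd26 yd47 zd8) (kd xd32 yd55 zd27) (kd xd30 yd16 zd45) (kd xd26 yd47 zd9) (kd xd29 yd16 zd61)) (@D3.rec (fun _ => Pt) (kd xd29 yd9 zd44) (kd xd27 yd44 zd57)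 (kd xd29 yd9 zd56) (kd xd32 yd55 zd46) (kd xd32 yd55 zd44) (kd xd26 yd47 zd23) (kd xd26 yd47 zd24) (kd xd26 yd47 zd25) (kd xd32 yd54 zd30) (kd xd31 yd3 zd54) (kd xd31 yd12 zd10) (kd xd26 yd47 zd31) (kd xd27 yd18 zd32) (kd xd26 yd47 zd44) (kd xd26 yd47 zd45) (kd xd31 yd38 zd6) (kd xd29 yd12 zd18) (kd xd29 yd12 zd15) (kd xd29 yd12 zd20) (kd xd26 yd47 zd60) (kd xd26 yd48 zd24) (kd xd26 yd48 zd25) (kd xd27 yd1 zd2) (kd xd29 yd0 zd12) (kd xd32 yd35 zd22) (kd xd28 yd29 zd7) (kd xd32 yd51 zd13) (kd xd32 yd54 zd55) (kd xd26 yd52 zd4) (kd xd26 yd49 zd18) (kd xd32 yd37 zd12) (kd xd32 yd19 zd40) (kd xd28 yd8 zd33) (kd xd30 yd28 zd46) (kd xd28 yd47 zd39) (kd xd26 yd49 zd28) (kd xd29 yd19 zd35) (kd xd26 yd50 zd5) (kd xd26 yd50 zd16) (kd xd29 yd22 zd15) (kd xd26 yd50 zd24) (kd xd26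 yd50 zd32) (kd xd32 yd9 zd28) (kd xd27 yd2 zd9) (kd xd29 yd47 zd0) (kd xd26 yd50 zd55) (kd xd26 yd51 zd0) (kd xd29 yd3 zd2) (kd xd26 yd51 zd30) (kd xd32 yd37 zd53) (kd xd26 yd51 zd33) (kd xd29 yd33 zd12) (kd xd29 yd30 zd21) (kd xd27 yd8 zd28) (kd xd26 yd51 zd52) (kd xd32 yd47 zd56) (kd xd32 yd35 zd48) (kd xd32 yd22 zd59) (kd xd32 yd57 zd25) (kd xd31 yd12 zd29) (kd xd31 yd59 zd33) (kd xd28 yd23 zd50)) (@D3.rec (fun _ => Pt) (kd xd31 yd59 zd51) (kd xd30 yd25 zd52) (kd xd26 yd52 zd18) (kd xd28 yd54 zd57) (kd xd26 yd52 zd27) (kd xd29 yd45 zd18) (kd xd26 yd52 zd25) (kd xd32 yd52 zd45) (kd xd32 yd34 zd25) (kd xd32 yd52 zd41) (kd xd31 yd28 zd41) (kd xd31 yd51 zd29) (kd xd31 yd18 zd10) (kd xd32 yd30 zd28) (kd xd29 yd21 zd1) (kd xd32 yd38 zd17) (kd xd26 yd52 zd46) (kd xd30 yd28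 zd6) (kd xd32 yd8 zd13) (kd xd32 yd34 zd13) (kd xd32 yd9 zd3) (kd xd31 yd23 zd34) (kd xd26 yd53 zd25) (kd xd26 yd53 zd30) (kd xd26 yd54 zd19) (kd xd26 yd53 zd54) (kd xd26 yd53 zd36) (kd xd31 yd52 zd35) (kd xd31 yd40 zd31) (kd xd31 yd41 zd11) (kd xd27 yd37 zd17) (kd xd31 yd36 zd51) (kd xd26 yd53 zd44) (kd xd30 yd25 zd55) (kd xd26 yd53 zd51) (kd xd32 yd40 zd16) (kd xd31 yd30 zd5) (kd xd28 yd45 zd28) (kd xd29 yd3 zd24) (kd xd32 yd14 zd45) (kd xd28 yd39 zd46) (kd xd31 yd29 zd23) (kd xd26 yd54 zd1) (kd xd29 yd2 zd34) (kd xd32 yd51 zd60) (kd xd26 yd54 zd25) (kd xd30 yd21 zd59) (kd xd32 yd59 zd1) (kd xd26 yd54 zd26) (kd xd32 yd59 zd3) (kd xd28 yd28 zd23) (kd xd27 yd37 zd12) (kd xd27 yd37 zd11) (kd xd26 yd54 zd31) (kd xd26 yd54 zd36) (kd xd26 yd54 zd37) (kd xd29 yd42 zd29)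 (kd xd31 yd21 zd61) (kd xd29 yd41 zd39) (kd xd29 yd15 zd13) (kd xd32 yd51 zd59) (kd xd32 yd59 zd4)) (@D3.rec (fun _ => Pt) (kd xd32 yd56 zd42) (kd xd26 yd54 zd43) (kd xd32 yd59 zd6) (kd xd29 yd35 zd34) (kd xd28 yd45 zd16) (kd xd28 yd57 zd38) (kd xd31 yd55 zd20) (kd xd32 yd22 zd9) (kd xd29 yd29 zd47) (kd xd26 yd55 zd43) (kd xd31 yd18 zd5) (kd xd32 yd18 zd31) (kd xd29 yd28 zd19) (kd xd29 yd8 zd38) (kd xd29 yd8 zd7) (kd xd28 yd38 zd29) (kd xd29 yd1 zd53) (kd xd31 yd30 zd49) (kd xd32 yd59 zd0) (kd xd26 yd56 zd18) (kd xd32 yd19 zd15) (kd xd32 yd46 zd54) (kd xd26 yd56 zd27) (kd xd26 yd56 zd30) (kd xd31 yd22 zd25) (kd xd29 yd44 zd28) (kd xd26 yd56 zd38) (kd xd26 yd56 zd46) (kd xd26 yd56 zd48) (kd xd30 yd45 zd14) (kd xd30 yd31 zd6) (kd xd32 yd18 zd11) (kd xd28 yd38 zd20) (kd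 xd26 yd57 zd8) (kd xd31 yd34 zd47) (kd xd31 yd29 zd44) (kd xd32 yd39 zd16) (kd xd31 yd50 zd35) (kd xd30 yd26 zd17) (kd xd31 yd53 zd19) (kd xd32 yd41 zd46) (kd xd28 yd29 zd25) (kd xd32 yd40 zd30) (kd xd29 yd37 zd0) (kd xd32 yd39 zd41) (kd xd26 yd57 zd36) (kd xd32 yd52 zd55) (kd xd29 yd32 zd20) (kd xd32 yd33 zd37) (kd xd31 yd33 zd44) (kd xd29 yd22 zd60) (kd xd32 yd44 zd36) (kd xd29 yd37 zd39) (kd xd32 yd24 zd35) (kd xd31 yd29 zd52) (kd xd27 yd0 zd10) (kd xd27 yd16 zd12) (kd xd27 yd16 zd13) (kd xd31 yd33 zd7) (kd xd31 yd33 zd9) (kd xd32 yd23 zd3) (kd xd27 yd0 zd20)) (@D3.rec (fun _ => Pt) (kd xd27 yd0 zd22) (kd xd27 yd0 zd23) (kd xd32 yd47 zd39) (kd xd30 yd45 zd11) (kd xd27 yd14 zd51) (kd xd32 yd47 zd45) (kd xd32 yd12 zd26) (kd xd32 yd12 zd25) (kd xd27 yd0 zd26) (kd xd27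 yd11 zd43) (kd xd27 yd0 zd29) (kd xd29 yd37 zd32) (kd xd32 yd1 zd9) (kd xd32 yd13 zd41) (kd xd32 yd34 zd36) (kd xd32 yd18 zd20) (kd xd32 yd13 zd38) (kd xd31 yd29 zd43) (kd xd27 yd0 zd39) (kd xd29 yd32 zd30) (kd xd28 yd50 zd9) (kd xd32 yd8 zd33) (kd xd28 yd34 zd34) (kd xd30 yd52 zd32) (kd xd32 yd24 zd26) (kd xd27 yd6 zd44) (kd xd27 yd6 zd42) (kd xd28 yd26 zd43) (kd xd28 yd26 zd44) (kd xd32 yd31 zd12) (kd xd30 yd5 zd5) (kd xd31 yd39 zd36) (kd xd30 yd25 zd45) (kd xd27 yd6 zd46) (kd xd28 yd20 zd59) (kd xd27 yd5 zd61) (kd xd27 yd2 zd49) (kd xd30 yd15 zd22) (kd xd32 yd12 zd32) (kd xd27 yd2 zd59) (kd xd32 yd16 zd31) (kd xd32 yd46 zd5) (kd xd27 yd3 zd1) (kd xd30 yd55 zd14) (kd xd31 yd30 zd30) (kd xd31 yd35 zd1) (kd xd28 yd13 zd5) (kd xd28 yd1 zd58) (kd xd31 yd12 zd9) (kd xd27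 yd4 zd28) (kd xd30 yd12 zd57) (kd xd30 yd13 zd4) (kd xd27 yd4 zd39) (kd xd32 yd19 zd54) (kd xd32 yd19 zd53) (kd xd28 yd59 zd26) (kd xd32 yd21 zd19) (kd xd31 yd42 zd13) (kd xd31 yd42 zd14) (kd xd27 yd5 zd39) (kd xd30 yd6 zd23) (kd xd27 yd5 zd60)) (@D3.rec (fun _ => Pt) (kd xd27 yd59 zd58) (kd xd32 yd27 zd53) (kd xd32 yd54 zd18) (kd xd27 yd15 zd10) (kd xd27 yd15 zd48) (kd xd27 yd15 zd46) (kd xd31 yd31 zd1) (kd xd30 yd25 zd56) (kd xd31 yd31 zd2) (kd xd30 yd19 zd12) (kd xd30 yd19 zd13) (kd xd29 yd9 zd13) (kd xd29 yd9 zd23) (kd xd28 yd26 zd42) (kd xd32 yd20 zd53) (kd xd32 yd51 zd28) (kd xd32 yd58 zd37) (kd xd27 yd30 zd19) (kd xd27 yd15 zd20) (kd xd32 yd20 zd25) (kd xd27 yd13 zd42) (kd xd31 yd33 zd8) (kd xd27 yd7 zd8) (kd xd28 yd16 zd43) (kd xd31 yd19 zd53) (kd xd32 yd20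 zd19) (kd xd28 yd33 zd11) (kd xd31 yd31 zd18) (kd xd27 yd7 zd3) (kd xd32 yd20 zd32) (kd xd32 yd20 zd52) (kd xd29 yd1 zd61) (kd xd32 yd20 zd29) (kd xd32 yd20 zd40) (kd xd31 yd48 zd31) (kd xd32 yd22 zd11) (kd xd32 yd49 zd55) (kd xd27 yd7 zd9) (kd xd27 yd7 zd10) (kd xd32 yd59 zd10) (kd xd32 yd20 zd33) (kd xd27 yd7 zd15) (kd xd31 yd40 zd45) (kd xd32 yd39 zd13) (kd xd31 yd0 zd21) (kd xd31 yd50 zd41) (kd xd31 yd48 zd2) (kd xd28 yd45 zd33) (kd xd31 yd38 zd47) (kd xd28 yd22 zd46) (kd xd28 yd20 zd52) (kd xd30 yd5 zd48) (kd xd32 yd20 zd30) (kd xd32 yd20 zd14) (kd xd32 yd0 zd59) (kd xd29 yd10 zd40) (kd xd32 yd11 zd23) (kd xd32 yd14 zd27) (kd xd32 yd10 zd57) (kd xd29 yd3 zd23) (kd xd32 yd14 zd7) (kd xd28 yd54 zd24)) (@D3.rec (fun _ => Pt) (kd xd29 yd44 zd20) (kd xd32 yd22 zd18)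 (kd xd30 yd59 zd33) (kd xd32 yd1 zd16) (kd xd27 yd7 zd47) (kd xd30 yd47 zd54) (kd xd28 yd43 zd44) (kd xd31 yd36 zd59) (kd xd30 yd57 zd31) (kd xd31 yd25 zd48) (kd xd30 yd57 zd9) (kd xd30 yd57 zd8) (kd xd32 yd21 zd51) (kd xd32 yd33 zd42) (kd xd28 yd18 zd55) (kd xd32 yd48 zd43) (kd xd30 yd25 zd17) (kd xd27 yd8 zd22) (kd xd28 yd56 zd7) (kd xd32 yd19 zd56) (kd xd31 yd12 zd37) (kd xd29 yd8 zd6) (kd xd30 yd27 zd26) (kd xd32 yd57 zd8) (kd xd29 yd44 zd2) (kd xd30 yd21 zd51) (kd xd28 yd53 zd2) (kd xd30 yd38 zd43) (kd xd31 yd13 zd52) (kd xd27 yd8 zd59) (kd xd32 yd15 zd11) (kd xd27 yd55 zd7) (kd xd31 yd12 zd39) (kd xd27 yd9 zd43) (kd xd28 yd49 zd51) (kd xd27 yd59 zd42) (kd xd27 yd9 zd53) (kd xd30 yd56 zd13) (kd xd29 yd59 zd8) (kd xd27 yd10 zd2) (kd xd30 yd39 zd39) (kd xd30 yd39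 zd38) (kd xd29 yd44 zd5) (kd xd32 yd52 zd12) (kd xd30 yd17 zd17) (kd xd27 yd51 zd61) (kd xd27 yd11 zd26) (kd xd31 yd47 zd1) (kd xd32 yd52 zd42) (kd xd28 yd49 zd10) (kd xd32 yd58 zd57) (kd xd32 yd21 zd12) (kd xd31 yd41 zd7) (kd xd31 yd48 zd28) (kd xd29 yd19 zd32) (kd xd28 yd0 zd5) (kd xd29 yd35 zd26) (kd xd27 yd12 zd21) (kd xd27 yd12 zd36) (kd xd32 yd55 zd55) (kd xd28 yd53 zd17) (kd xd29 yd4 zd22)) (@D3.rec (fun _ => Pt) (kd xd29 yd8 zd40) (kd xd30 yd35 zd7) (kd xd32 yd54 zd7) (kd xd32 yd54 zd8) (kd xd27 yd13 zd22) (kd xd29 yd37 zd2) (kd xd27 yd13 zd16) (kd xd27 yd13 zd18) (kd xd32 yd1 zd60) (kd xd32 yd18 zd7) (kd xd31 yd9 zd30) (kd xd32 yd20 zd35) (kd xd32 yd50 zd14) (kd xd29 yd58 zd61) (kd xd32 yd10 zd31) (kd xd28 yd37 zd15) (kd xd32 yd48 zd36) (kd xd32 yd11 zd6) (kd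 xd32 yd21 zd1) (kd xd28 yd33 zd24) (kd xd31 yd46 zd44) (kd xd32 yd43 zd54) (kd xd27 yd14 zd13) (kd xd27 yd14 zd25) (kd xd31 yd24 zd16) (kd xd31 yd49 zd44) (kd xd31 yd49 zd47) (kd xd32 yd44 zd50) (kd xd30 yd36 zd21) (kd xd32 yd57 zd4) (kd xd31 yd20 zd59) (kd xd28 yd18 zd21) (kd xd27 yd16 zd34) (kd xd28 yd51 zd43) (kd xd30 yd49 zd15) (kd xd27 yd15 zd9) (kd xd32 yd28 zd4) (kd xd27 yd15 zd12) (kd xd32 yd58 zd5) (kd xd27 yd15 zd16) (kd xd28 yd51 zd56) (kd xd31 yd27 zd24) (kd xd32 yd58 zd22) (kd xd31 yd13 zd56) (kd xd28 yd17 zd10) (kd xd27 yd15 zd22) (kd xd30 yd48 zd22) (kd xd27 yd50 zd51) (kd xd32 yd48 zd48) (kd xd30 yd26 zd28) (kd xd28 yd6 zd47) (kd xd29 yd37 zd18) (kd xd28 yd19 zd34) (kd xd30 yd49 zd58) (kd xd32 yd45 zd44) (kd xd32 yd37 zd47) (kd xd27 yd16 zd1) (kd xd28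 yd54 zd37) (kd xd32 yd58 zd55) (kd xd32 yd16 zd57) (kd xd32 yd55 zd2) (kd xd31 yd30 zd59)) (@D3.rec (fun _ => Pt) (kd xd27 yd16 zd5) (kd xd31 yd28 zd13) (kd xd32 yd47 zd14) (kd xd32 yd18 zd60) (kd xd27 yd16 zd15) (kd xd30 yd28 zd17) (kd xd30 yd16 zd19) (kd xd31 yd48 zd55) (kd xd28 yd58 zd31) (kd xd31 yd35 zd0) (kd xd29 yd46 zd30) (kd xd29 yd46 zd27) (kd xd27 yd57 zd59) (kd xd30 yd49 zd46) (kd xd32 yd25 zd34) (kd xd28 yd7 zd17) (kd xd32 yd10 zd4) (kd xd27 yd16 zd46) (kd xd29 yd20 zd56) (kd xd30 yd22 zd61) (kd xd27 yd16 zd51) (kd xd32 yd36 zd56) (kd xd32 yd56 zd6) (kd xd27 yd16 zd58) (kd xd31 yd33 zd11) (kd xd27 yd17 zd5) (kd xd27 yd29 zd57) (kd xd28 yd39 zd4) (kd xd32 yd11 zd45) (kd xd27 yd17 zd13) (kd xd31 yd51 zd15) (kd xd27 yd17 zd38) (kd xd29 yd55 zd59) (kd xd32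 yd8 zd49) (kd xd30 yd19 zd49) (kd xd31 yd44 zd2) (kd xd29 yd11 zd40) (kd xd30 yd19 zd50) (kd xd29 yd11 zd49) (kd xd32 yd53 zd40) (kd xd30 yd33 zd31) (kd xd30 yd31 zd39) (kd xd30 yd0 zd31) (kd xd27 yd18 zd4) (kd xd30 yd36 zd42) (kd xd27 yd59 zd29) (kd xd31 yd47 zd18) (kd xd30 yd43 zd5) (kd xd30 yd43 zd4) (kd xd30 yd20 zd8) (kd xd30 yd59 zd39) (kd xd30 yd59 zd38) (kd xd30 yd58 zd31) (kd xd30 yd59 zd36) (kd xd31 yd23 zd21) (kd xd30 yd59 zd35) (kd xd31 yd20 zd29) (kd xd27 yd18 zd46) (kd xd30 yd38 zd45) (kd xd30 yd39 zd25) (kd xd29 yd36 zd31) (kd xd31 yd28 zd30)) (@D3.rec (fun _ => Pt) (kd xd30 yd15 zd59) (kd xd31 yd59 zd11) (kd xd29 yd40 zd28) (kd xd32 yd46 zd30) (kd xd32 yd45 zd43) (kd xd28 yd58 zd33) (kd xd32 yd58 zd59) (kd xd27 yd19 zd28) (kd xd31 yd20 zd44) (kd xd27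 yd19 zd45) (kd xd31 yd20 zd26) (kd xd32 yd6 zd19) (kd xd30 yd53 zd39) (kd xd30 yd48 zd35) (kd xd32 yd14 zd19) (kd xd31 yd15 zd53) (kd xd31 yd17 zd1) (kd xd32 yd44 zd24) (kd xd29 yd20 zd3) (kd xd27 yd22 zd22) (kd xd31 yd50 zd5) (kd xd27 yd23 zd0) (kd xd29 yd41 zd40) (kd xd27 yd23 zd8) (kd xd27 yd23 zd9) (kd xd30 yd27 zd32) (kd xd32 yd19 zd24) (kd xd27 yd23 zd16) (kd xd27 yd23 zd23) (kd xd29 yd11 zd14) (kd xd29 yd11 zd24) (kd xd31 yd27 zd1) (kd xd27 yd23 zd28) (kd xd29 yd57 zd35) (kd xd30 yd34 zd53) (kd xd32 yd18 zd53) (kd xd31 yd13 zd37) (kd xd27 yd23 zd50) (kd xd32 yd28 zd23) (kd xd32 yd28 zd22) (kd xd27 yd34 zd61) (kd xd29 yd42 zd19) (kd xd32 yd50 zd4) (kd xd27 yd24 zd11) (kd xd32 yd43 zd51) (kd xd27 yd24 zd14) (kd xd27 yd24 zd19) (kd xd32 yd8 zd50) (kd xd32 yd31 zd27)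 (kd xd27 yd24 zd41) (kd xd27 yd27 zd17) (kd xd27 yd24 zd42) (kd xd27 yd26 zd39) (kd xd31 yd42 zd48) (kd xd31 yd39 zd2) (kd xd30 yd1 zd15) (kd xd27 yd55 zd0) (kd xd30 yd45 zd40) (kd xd27 yd25 zd26) (kd xd30 yd59 zd2) (kd xd28 yd41 zd1) (kd xd28 yd30 zd43)) (@D3.rec (fun _ => Pt) (kd xd32 yd6 zd0) (kd xd32 yd55 zd29) (kd xd31 yd48 zd17) (kd xd31 yd0 zd2) (kd xd27 yd26 zd22) (kd xd31 yd14 zd26) (kd xd31 yd33 zd53) (kd xd31 yd32 zd49) (kd xd32 yd5 zd55) (kd xd30 yd41 zd55) (kd xd27 yd35 zd41) (kd xd27 yd38 zd25) (kd xd27 yd35 zd53) (kd xd27 yd38 zd46) (kd xd28 yd43 zd48) (kd xd27 yd28 zd31) (kd xd27 yd29 zd61) (kd xd27 yd29 zd32) (kd xd30 yd58 zd0) (kd xd30 yd57 zd61) (kd xd27 yd30 zd7) (kd xd32 yd59 zd12) (kd xd31 yd54 zd57) (kd xd27 yd30 zd17) (kd xd31 yd49 zd53) (kd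 xd31 yd45 zd12) (kd xd32 yd53 zd58) (kd xd32 yd55 zd21) (kd xd27 yd31 zd21) (kd xd32 yd7 zd44) (kd xd31 yd38 zd15) (kd xd30 yd23 zd15) (kd xd27 yd32 zd4) (kd xd27 yd54 zd8) (kd xd32 yd23 zd14) (kd xd27 yd32 zd7) (kd xd32 yd29 zd53) (kd xd32 yd53 zd61) (kd xd27 yd40 zd15) (kd xd31 yd46 zd12) (kd xd27 yd32 zd19) (kd xd31 yd2 zd1) (kd xd27 yd32 zd21) (kd xd28 yd7 zd36) (kd xd28 yd7 zd48) (kd xd32 yd31 zd30) (kd xd32 yd10 zd14) (kd xd27 yd32 zd26) (kd xd32 yd9 zd57) (kd xd27 yd32 zd27) (kd xd27 yd51 zd43) (kd xd31 yd25 zd7) (kd xd27 yd32 zd28) (kd xd32 yd30 zd15) (kd xd28 yd7 zd44) (kd xd27 yd32 zd41) (kd xd27 yd32 zd43) (kd xd30 yd40 zd17) (kd xd32 yd47 zd50) (kd xd32 yd59 zd16) (kd xd27 yd32 zd48) (kd xd31 yd39 zd28)) (@D3.rec (fun _ => Pt) (kd xd27 yd55 zd33) (kd xd27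 yd52 zd15) (kd xd27 yd34 zd18) (kd xd32 yd43 zd25) (kd xd27 yd33 zd1) (kd xd30 yd24 zd51) (kd xd30 yd24 zd43) (kd xd27 yd33 zd8) (kd xd27 yd33 zd10) (kd xd27 yd33 zd13) (kd xd32 yd6 zd23) (kd xd27 yd33 zd19) (kd xd30 yd44 zd33) (kd xd28 yd31 zd53) (kd xd27 yd52 zd10) (kd xd27 yd34 zd46) (kd xd29 yd20 zd60) (kd xd27 yd33 zd29) (kd xd28 yd36 zd22) (kd xd27 yd33 zd31) (kd xd27 yd51 zd31) (kd xd32 yd31 zd42) (kd xd31 yd5 zd52) (kd xd30 yd40 zd32) (kd xd31 yd11 zd22) (kd xd31 yd55 zd17) (kd xd31 yd55 zd18) (kd xd31 yd8 zd36) (kd xd32 yd7 zd15) (kd xd27 yd33 zd46) (kd xd27 yd33 zd47) (kd xd32 yd30 zd21) (kd xd28 yd4 zd49) (kd xd27 yd33 zd59) (kd xd30 yd41 zd29) (kd xd31 yd3 zd4) (kd xd27 yd34 zd11) (kd xd28 yd8 zd50) (kd xd28 yd25 zd37) (kd xd27 yd34 zd23) (kd xd29 yd15 zd51)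 (kd xd32 yd55 zd53) (kd xd27 yd34 zd45) (kd xd27 yd34 zd49) (kd xd27 yd34 zd57) (kd xd27 yd35 zd0) (kd xd31 yd14 zd61) (kd xd29 yd10 zd44) (kd xd27 yd35 zd10) (kd xd31 yd43 zd34) (kd xd27 yd35 zd12) (kd xd31 yd56 zd8) (kd xd27 yd35 zd14) (kd xd32 yd6 zd48) (kd xd30 yd41 zd53) (kd xd32 yd29 zd41) (kd xd32 yd28 zd42) (kd xd31 yd11 zd19) (kd xd31 yd8 zd47) (kd xd27 yd56 zd31) (kd xd31 yd58 zd9) (kd xd28 yd28 zd43)) (@D3.rec (fun _ => Pt) (kd xd28 yd28 zd41) (kd xd32 yd32 zd10) (kd xd30 yd23 zd18) (kd xd27 yd36 zd33) (kd xd27 yd35 zd52) (kd xd27 yd35 zd55) (kd xd32 yd53 zd51) (kd xd27 yd36 zd0) (kd xd27 yd36 zd5) (kd xd30 yd21 zd25) (kd xd31 yd1 zd42) (kd xd27 yd36 zd36) (kd xd31 yd25 zd16) (kd xd32 yd36 zd42) (kd xd27 yd36 zd58) (kd xd31 yd17 zd11) (kd xd32 yd44 zd47)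 (kd xd28 yd38 zd61) (kd xd27 yd37 zd5) (kd xd29 yd15 zd6) (kd xd27 yd37 zd13) (kd xd31 yd51 zd54) (kd xd31 yd41 zd9) (kd xd32 yd6 zd58) (kd xd29 yd13 zd13) (kd xd27 yd38 zd16) (kd xd28 yd3 zd43) (kd xd32 yd0 zd31) (kd xd27 yd38 zd57) (kd xd27 yd38 zd60) (kd xd27 yd39 zd41) (kd xd32 yd7 zd12) (kd xd27 yd39 zd49) (kd xd29 yd16 zd10) (kd xd32 yd55 zd58) (kd xd28 yd36 zd32) (kd xd31 yd42 zd19) (kd xd28 yd7 zd13) (kd xd32 yd53 zd28) (kd xd32 yd42 zd24) (kd xd29 yd53 zd56) (kd xd27 yd51 zd35) (kd xd27 yd40 zd53) (kd xd30 yd31 zd43) (kd xd27 yd50 zd13) (kd xd32 yd30 zd29) (kd xd30 yd5 zd1) (kd xd28 yd1 zd1) (kd xd27 yd51 zd32) (kd xd31 yd35 zd49) (kd xd29 yd9 zd48) (kd xd30 yd13 zd9) (kd xd27 yd41 zd23) (kd xd32 yd20 zd1) (kd xd28 yd19 zd15) (kd xd27 yd53 zd48) (kd xd31 yd38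 zd37) (kd xd32 yd58 zd0) (kd xd32 yd55 zd47) (kd xd30 yd50 zd28) (kd xd29 yd47 zd50) (kd xd30 yd25 zd41)) (@D3.rec (fun _ => Pt) (kd xd27 yd42 zd45) (kd xd27 yd42 zd46) (kd xd30 yd55 zd52) (kd xd31 yd3 zd17) (kd xd32 yd22 zd36) (kd xd32 yd38 zd15) (kd xd32 yd44 zd52) (kd xd31 yd19 zd36) (kd xd27 yd44 zd23) (kd xd28 yd44 zd6) (kd xd27 yd44 zd28) (kd xd27 yd44 zd33) (kd xd31 yd7 zd6) (kd xd27 yd44 zd38) (kd xd31 yd37 zd46) (kd xd30 yd0 zd41) (kd xd27 yd44 zd43) (kd xd31 yd3 zd3) (kd xd31 yd2 zd54) (kd xd29 yd11 zd2) (kd xd31 yd53 zd21) (kd xd31 yd46 zd13) (kd xd32 yd24 zd39) (kd xd32 yd24 zd38) (kd xd32 yd42 zd16) (kd xd27 yd46 zd26) (kd xd29 yd21 zd46) (kd xd27 yd46 zd55) (kd xd27 yd46 zd57) (kd xd30 yd13 zd32) (kd xd27 yd47 zd31) (kd xd31 yd43 zd58) (kd xd31 yd14 zd44)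 (kd xd32 yd54 zd20) (kd xd27 yd47 zd41) (kd xd27 yd47 zd48) (kd xd28 yd2 zd26) (kd xd29 yd25 zd16) (kd xd29 yd25 zd15) (kd xd27 yd50 zd19) (kd xd27 yd52 zd20) (kd xd29 yd53 zd7) (kd xd32 yd26 zd56) (kd xd27 yd49 zd22) (kd xd27 yd49 zd24) (kd xd31 yd45 zd53) (kd xd27 yd49 zd27) (kd xd31 yd25 zd17) (kd xd31 yd15 zd30) (kd xd28 yd9 zd27) (kd xd28 yd51 zd34) (kd xd32 yd29 zd45) (kd xd27 yd49 zd46) (kd xd28 yd46 zd60) (kd xd27 yd49 zd49) (kd xd27 yd49 zd50) (kd xd31 yd57 zd60) (kd xd32 yd32 zd33) (kd xd27 yd49 zd57) (kd xd32 yd54 zd2) (kd xd27 yd49 zd60) (kd xd31 yd27 zd51)) (@D3.rec (fun _ => Pt) (kd xd27 yd50 zd9) (kd xd28 yd8 zd20) (kd xd32 yd57 zd33) (kd xd27 yd50 zd16) (kd xd31 yd39 zd22) (kd xd27 yd50 zd24) (kd xd31 yd5 zd30) (kd xd27 yd50 zd25) (kd xd32 yd30 zd30)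 (kd xd27 yd50 zd39) (kd xd32 yd30 zd38) (kd xd27 yd50 zd54) (kd xd27 yd51 zd13) (kd xd31 yd5 zd10) (kd xd27 yd51 zd28) (kd xd27 yd52 zd6) (kd xd32 yd30 zd11) (kd xd27 yd51 zd34) (kd xd32 yd55 zd60) (kd xd28 yd17 zd61) (kd xd28 yd23 zd15) (kd xd28 yd46 zd58) (kd xd30 yd44 zd58) (kd xd30 yd53 zd34) (kd xd27 yd54 zd34) (kd xd32 yd33 zd43) (kd xd32 yd54 zd3) (kd xd27 yd51 zd50) (kd xd31 yd25 zd42) (kd xd30 yd35 zd14) (kd xd32 yd10 zd16) (kd xd28 yd7 zd58) (kd xd32 yd7 zd52) (kd xd32 yd6 zd61) (kd xd32 yd54 zd19) (kd xd30 yd44 zd29) (kd xd28 yd9 zd34) (kd xd29 yd25 zd7) (kd xd27 yd52 zd12) (kd xd27 yd52 zd13) (kd xd27 yd52 zd19) (kd xd32 yd26 zd55) (kd xd27 yd52 zd22) (kd xd27 yd52 zd24) (kd xd31 yd44 zd5) (kd xd32 yd28 zd51) (kd xd28 yd10 zd36) (kd xd32 yd31 zd36) (kd xd30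 yd44 zd46) (kd xd27 yd52 zd48) (kd xd28 yd5 zd58) (kd xd27 yd52 zd57) (kd xd32 yd54 zd25) (kd xd32 yd25 zd36) (kd xd32 yd46 zd53) (kd xd32 yd33 zd6) (kd xd29 yd20 zd38) (kd xd31 yd14 zd30) (kd xd30 yd20 zd16) (kd xd28 yd7 zd27) (kd xd27 yd59 zd13) (kd xd27 yd53 zd17)) (@D3.rec (fun _ => Pt) (kd xd27 yd53 zd21) (kd xd27 yd53 zd25) (kd xd30 yd15 zd2) (kd xd32 yd31 zd43) (kd xd30 yd31 zd14) (kd xd32 yd32 zd28) (kd xd27 yd53 zd42) (kd xd27 yd53 zd43) (kd xd32 yd30 zd23) (kd xd32 yd30 zd16) (kd xd27 yd54 zd23) (kd xd32 yd29 zd16) (kd xd27 yd59 zd16) (kd xd28 yd22 zd39) (kd xd28 yd6 zd1) (kd xd32 yd25 zd53) (kd xd32 yd30 zd9) (kd xd28 yd13 zd44) (kd xd29 yd20 zd27) (kd xd27 yd54 zd58) (kd xd32 yd2 zd41) (kd xd32 yd26 zd31) (kd xd31 yd7 zd45) (kd xd32 yd30 zd8) (kd xd27 yd55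 zd19) (kd xd28 yd5 zd13) (kd xd32 yd9 zd61) (kd xd30 yd43 zd45) (kd xd32 yd17 zd13) (kd xd32 yd27 zd45) (kd xd32 yd29 zd8) (kd xd32 yd32 zd29) (kd xd28 yd13 zd21) (kd xd32 yd8 zd32) (kd xd32 yd52 zd24) (kd xd32 yd31 zd50) (kd xd31 yd53 zd8) (kd xd27 yd56 zd34) (kd xd32 yd29 zd10) (kd xd27 yd57 zd0) (kd xd32 yd56 zd30) (kd xd27 yd57 zd60) (kd xd30 yd12 zd58) (kd xd27 yd58 zd1) (kd xd27 yd58 zd2) (kd xd29 yd9 zd60) (kd xd31 yd6 zd34) (kd xd30 yd3 zd32) (kd xd29 yd19 zd56) (kd xd31 yd29 zd58) (kd xd27 yd59 zd0) (kd xd31 yd57 zd1) (kd xd29 yd5 zd9) (kd xd32 yd41 zd11) (kd xd27 yd59 zd40) (kd xd29 yd19 zd55) (kd xd31 yd3 zd48) (kd xd32 yd8 zd48) (kd xd29 yd37 zd61) (kd xd29 yd19 zd61) (kd xd29 yd58 zd54) (kd xd29 yd15 zd30)) (@D3.rec (fun _ => Pt) (kd xd31 yd55 zd51) (kd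 xd32 yd54 zd29) (kd xd32 yd5 zd15) (kd xd28 yd2 zd6) (kd xd32 yd52 zd18) (kd xd28 yd2 zd11) (kd xd28 yd2 zd13) (kd xd31 yd39 zd17) (kd xd29 yd39 zd16) (kd xd32 yd50 zd40) (kd xd28 yd2 zd39) (kd xd28 yd2 zd45) (kd xd32 yd19 zd29) (kd xd32 yd55 zd13) (kd xd28 yd18 zd61) (kd xd30 yd4 zd59) (kd xd28 yd3 zd11) (kd xd31 yd46 zd8) (kd xd31 yd46 zd10) (kd xd32 yd56 zd21) (kd xd31 yd53 zd6) (kd xd28 yd3 zd33) (kd xd28 yd3 zd34) (kd xd28 yd5 zd47) (kd xd30 yd24 zd61) (kd xd28 yd3 zd59) (kd xd32 yd38 zd21) (kd xd32 yd24 zd48) (kd xd28 yd4 zd5) (kd xd31 yd11 zd42) (kd xd32 yd25 zd45) (kd xd32 yd51 zd32) (kd xd28 yd4 zd35) (kd xd31 yd42 zd30) (kd xd31 yd58 zd32) (kd xd28 yd4 zd39) (kd xd32 yd29 zd47) (kd xd28 yd22 zd20) (kd xd32 yd54 zd16) (kd xd31 yd10 zd15) (kd xd31 yd42 zd56)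 (kd xd28 yd4 zd59) (kd xd32 yd26 zd21) (kd xd32 yd30 zd3) (kd xd32 yd34 zd58) (kd xd28 yd46 zd34) (kd xd28 yd27 zd25) (kd xd28 yd8 zd23) (kd xd32 yd43 zd52) (kd xd32 yd57 zd55) (kd xd32 yd30 zd35) (kd xd28 yd5 zd48) (kd xd28 yd5 zd49) (kd xd32 yd52 zd25) (kd xd28 yd19 zd4) (kd xd28 yd5 zd51) (kd xd28 yd5 zd52) (kd xd28 yd5 zd53) (kd xd28 yd5 zd56) (kd xd28 yd5 zd60) (kd xd31 yd1 zd60) (kd xd32 yd48 zd45)) (@D3.rec (fun _ => Pt) (kd xd32 yd43 zd10) (kd xd32 yd55 zd34) (kd xd30 yd41 zd32) (kd xd28 yd6 zd21) (kd xd28 yd48 zd0) (kd xd28 yd7 zd32) (kd xd28 yd7 zd42) (kd xd32 yd4 zd23) (kd xd31 yd40 zd40) (kd xd31 yd9 zd54) (kd xd32 yd27 zd1) (kd xd30 yd50 zd9) (kd xd28 yd8 zd24) (kd xd28 yd8 zd26) (kd xd30 yd5 zd0) (kd xd31 yd10 zd32) (kd xd31 yd58 zd4) (kd xd29 yd7 zd49)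 (kd xd28 yd9 zd9) (kd xd28 yd9 zd16) (kd xd30 yd10 zd12) (kd xd31 yd3 zd2) (kd xd32 yd44 zd0) (kd xd30 yd26 zd37) (kd xd31 yd12 zd24) (kd xd28 yd9 zd58) (kd xd31 yd44 zd44) (kd xd32 yd10 zd23) (kd xd32 yd30 zd5) (kd xd32 yd30 zd31) (kd xd29 yd10 zd46) (kd xd31 yd14 zd59) (kd xd31 yd14 zd49) (kd xd32 yd28 zd57) (kd xd28 yd10 zd55) (kd xd31 yd18 zd41) (kd xd32 yd42 zd23) (kd xd30 yd29 zd0) (kd xd31 yd7 zd47) (kd xd28 yd11 zd45) (kd xd31 yd8 zd23) (kd xd28 yd11 zd52) (kd xd31 yd36 zd10) (kd xd31 yd14 zd56) (kd xd28 yd42 zd43) (kd xd31 yd23 zd23) (kd xd30 yd3 zd13) (kd xd28 yd13 zd18) (kd xd29 yd51 zd40) (kd xd30 yd2 zd30) (kd xd32 yd49 zd4) (kd xd32 yd37 zd58) (kd xd29 yd29 zd46) (kd xd29 yd3 zd10) (kd xd28 yd14 zd25) (kd xd28 yd21 zd52) (kd xd28 yd14 zd41) (kd xd28 yd14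 zd43) (kd xd28 yd19 zd48) (kd xd31 yd56 zd56) (kd xd28 yd14 zd45) (kd xd32 yd41 zd43)) (@D3.rec (fun _ => Pt) (kd xd28 yd15 zd0) (kd xd32 yd53 zd15) (kd xd28 yd15 zd45) (kd xd28 yd15 zd46) (kd xd29 yd3 zd13) (kd xd29 yd2 zd28) (kd xd32 yd29 zd55) (kd xd28 yd16 zd4) (kd xd28 yd16 zd10) (kd xd28 yd16 zd11) (kd xd29 yd47 zd20) (kd xd32 yd44 zd31) (kd xd32 yd44 zd61) (kd xd28 yd20 zd58) (kd xd32 yd59 zd21) (kd xd32 yd58 zd36) (kd xd30 yd39 zd22) (kd xd28 yd17 zd27) (kd xd30 yd38 zd42) (kd xd32 yd46 zd0) (kd xd30 yd38 zd44) (kd xd28 yd17 zd41) (kd xd28 yd17 zd42) (kd xd28 yd17 zd52) (kd xd32 yd35 zd41) (kd xd28 yd17 zd54) (kd xd32 yd54 zd22) (kd xd28 yd47 zd3) (kd xd32 yd33 zd35) (kd xd29 yd33 zd25) (kd xd32 yd33 zd32) (kd xd29 yd43 zd19) (kd xd32 yd33 zd30) (kd xd29 yd37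 zd55) (kd xd32 yd15 zd33) (kd xd32 yd33 zd28) (kd xd28 yd29 zd46) (kd xd32 yd18 zd48) (kd xd29 yd45 zd17) (kd xd30 yd47 zd43) (kd xd32 yd44 zd51) (kd xd32 yd38 zd45) (kd xd32 yd21 zd13) (kd xd32 yd29 zd25) (kd xd32 yd37 zd1) (kd xd28 yd20 zd9) (kd xd31 yd18 zd40) (kd xd28 yd21 zd12) (kd xd30 yd46 zd55) (kd xd28 yd20 zd34) (kd xd28 yd25 zd6) (kd xd29 yd50 zd56) (kd xd32 yd58 zd26) (kd xd31 yd6 zd31) (kd xd28 yd33 zd30) (kd xd28 yd29 zd41) (kd xd31 yd0 zd29) (kd xd28 yd38 zd4) (kd xd28 yd21 zd38) (kd xd30 yd21 zd60) (kd xd31 yd51 zd26) (kd xd28 yd21 zd55)) (@D3.rec (fun _ => Pt) (kd xd28 yd22 zd6) (kd xd28 yd22 zd7) (kd xd29 yd10 zd55) (kd xd30 yd44 zd42) (kd xd28 yd49 zd58) (kd xd28 yd22 zd22) (kd xd31 yd28 zd9) (kd xd32 yd49 zd59) (kd xd30 yd38 zd16) (kd xd28 yd22 zd29)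 (kd xd32 yd46 zd35) (kd xd28 yd22 zd41) (kd xd28 yd22 zd50) (kd xd32 yd17 zd19) (kd xd28 yd23 zd10) (kd xd31 yd15 zd18) (kd xd28 yd28 zd21) (kd xd29 yd7 zd3) (kd xd32 yd36 zd48) (kd xd30 yd56 zd29) (kd xd30 yd9 zd19) (kd xd28 yd53 zd9) (kd xd29 yd43 zd9) (kd xd31 yd35 zd3) (kd xd30 yd15 zd1) (kd xd32 yd17 zd8) (kd xd32 yd35 zd17) (kd xd32 yd2 zd38) (kd xd30 yd16 zd3) (kd xd29 yd39 zd55) (kd xd28 yd24 zd43) (kd xd28 yd24 zd49) (kd xd29 yd42 zd31) (kd xd31 yd52 zd42) (kd xd32 yd0 zd48) (kd xd29 yd47 zd2) (kd xd32 yd19 zd14) (kd xd29 yd40 zd32) (kd xd28 yd25 zd20) (kd xd31 yd30 zd9) (kd xd31 yd22 zd26) (kd xd32 yd47 zd48) (kd xd31 yd30 zd28) (kd xd30 yd42 zd57) (kd xd32 yd57 zd20) (kd xd32 yd58 zd61) (kd xd31 yd45 zd11) (kd xd28 yd33 zd10) (kd xd28 yd26 zd35) (kd xd31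 yd23 zd2) (kd xd31 yd15 zd47) (kd xd28 yd26 zd50) (kd xd28 yd26 zd60) (kd xd28 yd27 zd13) (kd xd31 yd0 zd12) (kd xd28 yd27 zd23) (kd xd31 yd56 zd11) (kd xd30 yd28 zd16) (kd xd32 yd31 zd44) (kd xd32 yd40 zd48) (kd xd30 yd57 zd1) (kd xd28 yd28 zd39)) (@D3.rec (fun _ => Pt) (kd xd28 yd36 zd12) (kd xd32 yd44 zd5) (kd xd32 yd44 zd6) (kd xd32 yd15 zd27) (kd xd32 yd53 zd39) (kd xd28 yd30 zd31) (kd xd31 yd10 zd55) (kd xd28 yd30 zd52) (kd xd28 yd29 zd3) (kd xd29 yd5 zd57) (kd xd32 yd59 zd13) (kd xd28 yd29 zd8) (kd xd31 yd58 zd11) (kd xd30 yd12 zd43) (kd xd28 yd36 zd5) (kd xd32 yd47 zd31) (kd xd28 yd29 zd21) (kd xd32 yd34 zd26) (kd xd30 yd35 zd20) (kd xd28 yd29 zd49) (kd xd28 yd29 zd50) (kd xd32 yd35 zd38) (kd xd32 yd16 zd24) (kd xd28 yd29 zd53) (kd xd28 yd40 zd61) (kd xd29 yd42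 zd13) (kd xd32 yd38 zd31) (kd xd32 yd12 zd19) (kd xd28 yd34 zd23) (kd xd32 yd36 zd23) (kd xd32 yd47 zd41) (kd xd30 yd16 zd29) (kd xd32 yd12 zd40) (kd xd31 yd26 zd59) (kd xd31 yd55 zd53) (kd xd32 yd0 zd36) (kd xd30 yd29 zd26) (kd xd28 yd43 zd41) (kd xd32 yd35 zd21) (kd xd30 yd56 zd54) (kd xd28 yd30 zd53) (kd xd32 yd33 zd24) (kd xd32 yd4 zd0) (kd xd30 yd24 zd50) (kd xd29 yd59 zd41) (kd xd32 yd8 zd42) (kd xd28 yd31 zd58) (kd xd29 yd38 zd39) (kd xd32 yd16 zd56) (kd xd28 yd32 zd55) (kd xd28 yd33 zd51) (kd xd28 yd32 zd56) (kd xd30 yd35 zd40) (kd xd31 yd15 zd54) (kd xd32 yd9 zd1) (kd xd28 yd45 zd31) (kd xd30 yd14 zd44) (kd xd28 yd33 zd1) (kd xd29 yd8 zd4) (kd xd29 yd8 zd3) (kd xd29 yd48 zd12) (kd xd31 yd26 zd40)) (@D3.rec (fun _ => Pt) (kd xd29 yd11 zd18) (kd xd30 yd55 zd41)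 (kd xd32 yd39 zd19) (kd xd32 yd9 zd24) (kd xd32 yd58 zd1) (kd xd28 yd33 zd52) (kd xd32 yd57 zd26) (kd xd32 yd47 zd53) (kd xd32 yd37 zd36) (kd xd32 yd37 zd37) (kd xd31 yd39 zd58) (kd xd32 yd3 zd41) (kd xd28 yd35 zd1) (kd xd28 yd40 zd0) (kd xd28 yd40 zd21) (kd xd31 yd21 zd47) (kd xd31 yd16 zd23) (kd xd32 yd59 zd29) (kd xd32 yd11 zd52) (kd xd30 yd16 zd30) (kd xd31 yd33 zd38) (kd xd30 yd16 zd32) (kd xd32 yd50 zd58) (kd xd32 yd35 zd29) (kd xd32 yd0 zd26) (kd xd32 yd43 zd50) (kd xd31 yd14 zd36) (kd xd32 yd52 zd11) (kd xd30 yd21 zd20) (kd xd28 yd35 zd47) (kd xd28 yd46 zd32) (kd xd30 yd25 zd54) (kd xd31 yd25 zd38) (kd xd32 yd8 zd14) (kd xd28 yd36 zd44) (kd xd29 yd41 zd35) (kd xd31 yd11 zd58) (kd xd28 yd36 zd60) (kd xd31 yd56 zd58) (kd xd30 yd26 zd59) (kd xd28 yd37 zd11) (kd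 xd31 yd46 zd0) (kd xd32 yd27 zd13) (kd xd28 yd37 zd10) (kd xd32 yd50 zd37) (kd xd31 yd18 zd50) (kd xd28 yd43 zd22) (kd xd32 yd3 zd20) (kd xd32 yd34 zd18) (kd xd32 yd56 zd37) (kd xd28 yd37 zd36) (kd xd31 yd32 zd27) (kd xd28 yd37 zd42) (kd xd32 yd7 zd36) (kd xd31 yd30 zd47) (kd xd32 yd2 zd8) (kd xd32 yd23 zd21) (kd xd31 yd32 zd4) (kd xd28 yd38 zd16) (kd xd29 yd29 zd32) (kd xd28 yd38 zd24) (kd xd29 yd48 zd6)) (@D3.rec (fun _ => Pt) (kd xd28 yd38 zd28) (kd xd32 yd33 zd44) (kd xd31 yd16 zd3) (kd xd32 yd42 zd46) (kd xd28 yd38 zd32) (kd xd30 yd9 zd9) (kd xd29 yd54 zd55) (kd xd28 yd38 zd35) (kd xd32 yd39 zd34) (kd xd30 yd27 zd29) (kd xd28 yd46 zd28) (kd xd28 yd50 zd24) (kd xd32 yd16 zd30) (kd xd31 yd15 zd13) (kd xd31 yd15 zd10) (kd xd30 yd15 zd57) (kd xd28 yd38 zd56) (kd xd28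 yd39 zd12) (kd xd31 yd22 zd58) (kd xd29 yd32 zd57) (kd xd31 yd30 zd46) (kd xd32 yd47 zd3) (kd xd32 yd38 zd30) (kd xd32 yd37 zd29) (kd xd28 yd39 zd29) (kd xd31 yd25 zd23) (kd xd32 yd59 zd7) (kd xd32 yd38 zd32) (kd xd32 yd13 zd44) (kd xd32 yd37 zd23) (kd xd28 yd39 zd40) (kd xd31 yd55 zd47) (kd xd32 yd59 zd24) (kd xd28 yd39 zd45) (kd xd31 yd21 zd46) (kd xd28 yd39 zd52) (kd xd32 yd36 zd8) (kd xd32 yd36 zd9) (kd xd31 yd31 zd36) (kd xd32 yd15 zd9) (kd xd32 yd41 zd4) (kd xd31 yd19 zd44) (kd xd31 yd59 zd35) (kd xd28 yd40 zd4) (kd xd30 yd31 zd7) (kd xd32 yd59 zd26) (kd xd31 yd31 zd17) (kd xd32 yd22 zd55) (kd xd29 yd31 zd34) (kd xd32 yd12 zd30) (kd xd29 yd31 zd38) (kd xd30 yd28 zd15) (kd xd32 yd11 zd13) (kd xd32 yd16 zd49) (kd xd32 yd9 zd17) (kd xd32 yd37 zd57) (kd xd32 yd13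 zd15) (kd xd32 yd37 zd55) (kd xd32 yd32 zd51) (kd xd28 yd40 zd40) (kd xd28 yd40 zd41) (kd xd31 yd52 zd52)) (@D3.rec (fun _ => Pt) (kd xd28 yd40 zd43) (kd xd32 yd38 zd29) (kd xd28 yd40 zd47) (kd xd31 yd32 zd59) (kd xd28 yd40 zd54) (kd xd28 yd40 zd58) (kd xd31 yd9 zd28) (kd xd32 yd5 zd51) (kd xd28 yd41 zd3) (kd xd28 yd43 zd47) (kd xd32 yd49 zd24) (kd xd29 yd50 zd47) (kd xd31 yd56 zd36) (kd xd30 yd51 zd38) (kd xd30 yd42 zd15) (kd xd32 yd28 zd5) (kd xd28 yd51 zd36) (kd xd32 yd17 zd15) (kd xd32 yd14 zd4) (kd xd32 yd59 zd19) (kd xd31 yd11 zd45) (kd xd32 yd31 zd26) (kd xd31 yd45 zd6) (kd xd30 yd35 zd54) (kd xd28 yd44 zd1) (kd xd28 yd44 zd22) (kd xd29 yd26 zd15) (kd xd28 yd44 zd29) (kd xd32 yd13 zd35) (kd xd32 yd38 zd1) (kd xd32 yd37 zd22) (kd xd32 yd35 zd26) (kd xd32 yd37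 zd27) (kd xd29 yd43 zd36) (kd xd30 yd21 zd32) (kd xd31 yd19 zd60) (kd xd28 yd45 zd19) (kd xd30 yd30 zd18) (kd xd28 yd46 zd2) (kd xd29 yd1 zd51) (kd xd28 yd46 zd24) (kd xd28 yd46 zd37) (kd xd29 yd54 zd5) (kd xd28 yd46 zd42) (kd xd28 yd46 zd44) (kd xd32 yd33 zd41) (kd xd32 yd46 zd41) (kd xd32 yd2 zd24) (kd xd29 yd50 zd41) (kd xd28 yd47 zd11) (kd xd32 yd50 zd46) (kd xd32 yd50 zd49) (kd xd28 yd47 zd12) (kd xd28 yd56 zd4) (kd xd28 yd57 zd41) (kd xd31 yd46 zd26) (kd xd28 yd48 zd51) (kd xd31 yd20 zd20) (kd xd32 yd11 zd9) (kd xd31 yd50 zd58) (kd xd32 yd4 zd1) (kd xd32 yd11 zd43)) (@D3.rec (fun _ => Pt) (kd xd29 yd10 zd37) (kd xd29 yd10 zd36) (kd xd31 yd55 zd33) (kd xd32 yd51 zd56) (kd xd32 yd58 zd25) (kd xd28 yd49 zd6) (kd xd28 yd49 zd9) (kd xd28 yd55 zd10) (kd xd28 yd55 zd9)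 (kd xd31 yd23 zd35) (kd xd28 yd49 zd40) (kd xd31 yd29 zd9) (kd xd28 yd49 zd50) (kd xd32 yd20 zd43) (kd xd28 yd55 zd12) (kd xd31 yd13 zd24) (kd xd32 yd18 zd36) (kd xd32 yd51 zd7) (kd xd31 yd17 zd42) (kd xd32 yd36 zd2) (kd xd31 yd21 zd35) (kd xd31 yd13 zd38) (kd xd28 yd50 zd45) (kd xd32 yd52 zd56) (kd xd28 yd50 zd49) (kd xd30 yd49 zd53) (kd xd32 yd59 zd27) (kd xd29 yd33 zd21) (kd xd32 yd47 zd21) (kd xd28 yd51 zd7) (kd xd32 yd13 zd22) (kd xd32 yd43 zd1) (kd xd31 yd41 zd32) (kd xd31 yd41 zd15) (kd xd32 yd37 zd8) (kd xd32 yd52 zd1) (kd xd28 yd51 zd40) (kd xd28 yd51 zd42) (kd xd28 yd51 zd47) (kd xd31 yd31 zd48) (kd xd32 yd52 zd21) (kd xd32 yd18 zd44) (kd xd32 yd51 zd29) (kd xd30 yd19 zd11) (kd xd28 yd51 zd59) (kd xd32 yd59 zd35) (kd xd32 yd44 zd46) (kd xd32 yd10 zd58) (kd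 xd30 yd39 zd40) (kd xd28 yd52 zd16) (kd xd28 yd52 zd24) (kd xd28 yd52 zd28) (kd xd28 yd52 zd32) (kd xd30 yd53 zd0) (kd xd31 yd27 zd28) (kd xd28 yd52 zd39) (kd xd30 yd48 zd41) (kd xd30 yd25 zd53) (kd xd28 yd52 zd59) (kd xd28 yd52 zd61) (kd xd29 yd40 zd11) (kd xd30 yd53 zd1)) (@D3.rec (fun _ => Pt) (kd xd32 yd53 zd56) (kd xd30 yd27 zd21) (kd xd30 yd27 zd20) (kd xd28 yd53 zd22) (kd xd30 yd25 zd33) (kd xd28 yd53 zd27) (kd xd31 yd32 zd21) (kd xd29 yd7 zd27) (kd xd31 yd27 zd60) (kd xd32 yd46 zd33) (kd xd28 yd53 zd43) (kd xd32 yd14 zd14) (kd xd28 yd54 zd14) (kd xd30 yd16 zd28) (kd xd29 yd47 zd24) (kd xd28 yd54 zd21) (kd xd32 yd17 zd35) (kd xd29 yd46 zd58) (kd xd32 yd56 zd15) (kd xd29 yd31 zd36) (kd xd30 yd16 zd6) (kd xd28 yd54 zd30) (kd xd29 yd3 zd21) (kd xd30 yd29 zd6) (kd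 xd31 yd19 zd34) (kd xd32 yd50 zd22) (kd xd32 yd14 zd9) (kd xd28 yd54 zd47) (kd xd32 yd51 zd5) (kd xd32 yd15 zd45) (kd xd32 yd18 zd42) (kd xd28 yd55 zd3) (kd xd30 yd34 zd21) (kd xd28 yd55 zd8) (kd xd32 yd51 zd45) (kd xd29 yd32 zd16) (kd xd28 yd55 zd13) (kd xd28 yd55 zd14) (kd xd28 yd55 zd18) (kd xd32 yd52 zd0) (kd xd28 yd55 zd19) (kd xd28 yd56 zd0) (kd xd32 yd58 zd31) (kd xd28 yd55 zd21) (kd xd32 yd43 zd22) (kd xd31 yd21 zd20) (kd xd29 yd32 zd1) (kd xd29 yd27 zd31) (kd xd32 yd34 zd59) (kd xd29 yd32 zd17) (kd xd32 yd5 zd17) (kd xd28 yd55 zd28) (kd xd31 yd51 zd42) (kd xd32 yd56 zd34) (kd xd28 yd55 zd29) (kd xd29 yd32 zd19) (kd xd28 yd55 zd41) (kd xd31 yd25 zd22) (kd xd28 yd55 zd45) (kd xd28 yd56 zd9) (kd xd29 yd7 zd34) (kd xd30 yd27 zd27)) (@D3.rec (fun _ => Pt) (kd xd30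 yd44 zd51) (kd xd28 yd56 zd25) (kd xd32 yd14 zd32) (kd xd29 yd45 zd35) (kd xd32 yd37 zd40) (kd xd32 yd12 zd47) (kd xd29 yd47 zd25) (kd xd29 yd44 zd21) (kd xd29 yd21 zd16) (kd xd32 yd50 zd61) (kd xd32 yd13 zd46) (kd xd32 yd30 zd53) (kd xd28 yd56 zd42) (kd xd32 yd0 zd23) (kd xd29 yd23 zd1) (kd xd30 yd37 zd46) (kd xd29 yd35 zd27) (kd xd31 yd17 zd40) (kd xd32 yd43 zd45) (kd xd29 yd44 zd55) (kd xd28 yd59 zd30) (kd xd31 yd20 zd18) (kd xd29 yd55 zd32) (kd xd31 yd33 zd42) (kd xd32 yd49 zd25) (kd xd30 yd3 zd53) (kd xd29 yd37 zd11) (kd xd32 yd54 zd57) (kd xd28 yd59 zd33) (kd xd29 yd43 zd43) (kd xd31 yd5 zd38) (kd xd32 yd52 zd31) (kd xd28 yd59 zd53) (kd xd28 yd59 zd55) (kd xd31 yd56 zd17) (kd xd29 yd0 zd3) (kd xd29 yd0 zd13) (kd xd31 yd24 zd22) (kd xd30 yd12 zd9) (kd xd30 yd49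 zd39) (kd xd31 yd59 zd54) (kd xd30 yd30 zd14) (kd xd29 yd20 zd41) (kd xd32 yd32 zd61) (kd xd32 yd47 zd44) (kd xd29 yd33 zd50) (kd xd32 yd18 zd40) (kd xd32 yd45 zd29) (kd xd32 yd57 zd17) (kd xd32 yd45 zd27) (kd xd29 yd2 zd20) (kd xd30 yd5 zd51) (kd xd29 yd2 zd40) (kd xd29 yd3 zd8) (kd xd29 yd3 zd20) (kd xd32 yd56 zd35) (kd xd29 yd3 zd26) (kd xd29 yd51 zd25) (kd xd30 yd44 zd28) (kd xd31 yd23 zd19) (kd xd31 yd36 zd39) (kd xd29 yd4 zd5)) (@D3.rec (fun _ => Pt) (kd xd32 yd46 zd58) (kd xd29 yd4 zd9) (kd xd29 yd48 zd33) (kd xd30 yd47 zd44) (kd xd29 yd4 zd24) (kd xd29 yd4 zd25) (kd xd29 yd4 zd26) (kd xd29 yd41 zd22) (kd xd29 yd41 zd23) (kd xd30 yd40 zd28) (kd xd31 yd26 zd35) (kd xd31 yd47 zd51) (kd xd29 yd17 zd33) (kd xd30 yd19 zd48) (kd xd29 yd4 zd42) (kd xd32 yd6 zd8) (kd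 xd32 yd28 zd24) (kd xd31 yd31 zd33) (kd xd29 yd4 zd49) (kd xd31 yd48 zd48) (kd xd29 yd4 zd53) (kd xd31 yd43 zd31) (kd xd32 yd8 zd51) (kd xd32 yd32 zd36) (kd xd32 yd27 zd39) (kd xd32 yd58 zd32) (kd xd32 yd1 zd35) (kd xd30 yd48 zd33) (kd xd29 yd51 zd4) (kd xd30 yd35 zd61) (kd xd30 yd41 zd2) (kd xd32 yd56 zd59) (kd xd29 yd5 zd26) (kd xd31 yd32 zd26) (kd xd31 yd28 zd56) (kd xd31 yd36 zd3) (kd xd29 yd6 zd53) (kd xd32 yd2 zd22) (kd xd32 yd3 zd0) (kd xd30 yd26 zd39) (kd xd29 yd35 zd46) (kd xd32 yd53 zd52) (kd xd29 yd8 zd20) (kd xd29 yd9 zd17) (kd xd29 yd8 zd29) (kd xd29 yd8 zd31) (kd xd32 yd37 zd3) (kd xd29 yd8 zd37) (kd xd29 yd8 zd43) (kd xd30 yd49 zd26) (kd xd29 yd28 zd21) (kd xd32 yd47 zd42) (kd xd29 yd9 zd22) (kd xd31 yd8 zd42) (kd xd29 yd11 zd58) (kd xd29 yd9 zd57) (kd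 xd30 yd4 zd56) (kd xd31 yd30 zd6) (kd xd30 yd0 zd29) (kd xd31 yd18 zd20) (kd xd31 yd48 zd15) (kd xd30 yd40 zd55)) (@D3.rec (fun _ => Pt) (kd xd29 yd10 zd34) (kd xd32 yd39 zd31) (kd xd32 yd57 zd28) (kd xd32 yd10 zd27) (kd xd29 yd10 zd43) (kd xd32 yd3 zd32) (kd xd29 yd10 zd50) (kd xd31 yd56 zd10) (kd xd29 yd10 zd52) (kd xd31 yd57 zd14) (kd xd32 yd32 zd0) (kd xd31 yd4 zd55) (kd xd29 yd11 zd13) (kd xd29 yd11 zd17) (kd xd29 yd11 zd25) (kd xd32 yd48 zd14) (kd xd30 yd33 zd16) (kd xd30 yd33 zd20) (kd xd29 yd58 zd1) (kd xd30 yd52 zd33) (kd xd31 yd38 zd56) (kd xd31 yd16 zd32) (kd xd32 yd40 zd44) (kd xd31 yd59 zd9) (kd xd29 yd13 zd19) (kd xd32 yd26 zd3) (kd xd32 yd7 zd3) (kd xd30 yd17 zd43) (kd xd29 yd14 zd11) (kd xd32 yd59 zd22) (kd xd32 yd53 zd20) (kd xd30 yd18 zd53) (kd xd30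 yd19 zd7) (kd xd32 yd58 zd23) (kd xd32 yd59 zd43) (kd xd32 yd54 zd52) (kd xd32 yd58 zd24) (kd xd31 yd39 zd52) (kd xd32 yd48 zd11) (kd xd31 yd26 zd46) (kd xd32 yd53 zd24) (kd xd32 yd51 zd47) (kd xd29 yd15 zd14) (kd xd31 yd17 zd53) (kd xd31 yd24 zd33) (kd xd32 yd41 zd18) (kd xd30 yd45 zd58) (kd xd29 yd53 zd50) (kd xd32 yd57 zd58) (kd xd31 yd16 zd48) (kd xd32 yd36 zd25) (kd xd32 yd24 zd44) (kd xd32 yd31 zd48) (kd xd32 yd58 zd33) (kd xd32 yd22 zd21) (kd xd32 yd0 zd57) (kd xd29 yd17 zd30) (kd xd31 yd56 zd15) (kd xd29 yd17 zd35) (kd xd31 yd28 zd20) (kd xd29 yd18 zd47) (kd xd29 yd21 zd11)) (@D3.rec (fun _ => Pt) (kd xd32 yd32 zd22) (kd xd30 yd44 zd7) (kd xd29 yd19 zd41) (kd xd32 yd7 zd54) (kd xd29 yd20 zd23) (kd xd32 yd35 zd1) (kd xd32 yd35 zd2) (kd xd31 yd16 zd22) (kd xd29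 yd21 zd22) (kd xd29 yd52 zd25) (kd xd29 yd42 zd32) (kd xd29 yd21 zd29) (kd xd32 yd10 zd18) (kd xd29 yd21 zd39) (kd xd29 yd21 zd56) (kd xd31 yd0 zd34) (kd xd29 yd23 zd24) (kd xd29 yd23 zd32) (kd xd30 yd3 zd27) (kd xd31 yd11 zd26) (kd xd31 yd14 zd6) (kd xd29 yd24 zd23) (kd xd29 yd52 zd43) (kd xd29 yd24 zd25) (kd xd32 yd24 zd17) (kd xd32 yd53 zd29) (kd xd31 yd13 zd40) (kd xd29 yd25 zd21) (kd xd29 yd25 zd33) (kd xd32 yd0 zd29) (kd xd31 yd31 zd10) (kd xd32 yd33 zd11) (kd xd32 yd57 zd14) (kd xd32 yd52 zd43) (kd xd31 yd35 zd48) (kd xd29 yd33 zd4) (kd xd32 yd18 zd51) (kd xd31 yd46 zd60) (kd xd29 yd33 zd1) (kd xd30 yd13 zd18) (kd xd32 yd6 zd46) (kd xd32 yd49 zd52) (kd xd31 yd56 zd60) (kd xd31 yd21 zd22) (kd xd32 yd59 zd2) (kd xd29 yd27 zd22) (kd xd32 yd39 zd46) (kd xd32 yd27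 zd16) (kd xd32 yd59 zd44) (kd xd32 yd56 zd45) (kd xd32 yd22 zd27) (kd xd32 yd33 zd40) (kd xd32 yd28 zd6) (kd xd31 yd3 zd58) (kd xd30 yd22 zd19) (kd xd29 yd28 zd40) (kd xd29 yd53 zd4) (kd xd31 yd30 zd35) (kd xd31 yd38 zd50) (kd xd30 yd47 zd4) (kd xd30 yd57 zd55) (kd xd32 yd33 zd12)) (@D3.rec (fun _ => Pt) (kd xd30 yd11 zd41) (kd xd29 yd55 zd51) (kd xd29 yd30 zd43) (kd xd32 yd1 zd13) (kd xd30 yd14 zd53) (kd xd29 yd44 zd16) (kd xd29 yd44 zd15) (kd xd29 yd31 zd32) (kd xd32 yd51 zd1) (kd xd32 yd46 zd50) (kd xd32 yd52 zd34) (kd xd30 yd22 zd29) (kd xd29 yd32 zd24) (kd xd29 yd42 zd3) (kd xd32 yd56 zd16) (kd xd31 yd13 zd49) (kd xd32 yd8 zd53) (kd xd32 yd52 zd28) (kd xd30 yd21 zd33) (kd xd30 yd0 zd1) (kd xd31 yd41 zd44) (kd xd30 yd8 zd38) (kd xd32 yd11 zd5) (kd xd29 yd33 zd6)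 (kd xd30 yd31 zd4) (kd xd29 yd33 zd11) (kd xd29 yd33 zd14) (kd xd32 yd41 zd49) (kd xd30 yd14 zd51) (kd xd32 yd41 zd47) (kd xd30 yd15 zd47) (kd xd30 yd15 zd42) (kd xd30 yd14 zd49) (kd xd31 yd19 zd59) (kd xd32 yd57 zd30) (kd xd32 yd13 zd47) (kd xd32 yd59 zd30) (kd xd32 yd53 zd45) (kd xd29 yd33 zd36) (kd xd32 yd13 zd49) (kd xd32 yd10 zd54) (kd xd31 yd31 zd12) (kd xd30 yd15 zd44) (kd xd32 yd24 zd4) (kd xd32 yd22 zd54) (kd xd32 yd11 zd24) (kd xd29 yd33 zd61) (kd xd29 yd34 zd0) (kd xd29 yd46 zd34) (kd xd29 yd34 zd20) (kd xd29 yd47 zd22) (kd xd32 yd46 zd28) (kd xd32 yd12 zd11) (kd xd29 yd34 zd18) (kd xd29 yd34 zd19) (kd xd29 yd34 zd48) (kd xd29 yd34 zd49) (kd xd30 yd54 zd21) (kd xd32 yd51 zd57) (kd xd30 yd44 zd57) (kd xd32 yd53 zd19) (kd xd30 yd19 zd5)) (@D3.rec (fun _ =>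 Pt) (kd xd32 yd33 zd19) (kd xd31 yd21 zd18) (kd xd31 yd50 zd15) (kd xd31 yd13 zd58) (kd xd31 yd34 zd25) (kd xd32 yd19 zd41) (kd xd31 yd16 zd45) (kd xd32 yd50 zd1) (kd xd32 yd59 zd51) (kd xd30 yd18 zd25) (kd xd32 yd57 zd16) (kd xd30 yd19 zd0) (kd xd31 yd41 zd26) (kd xd32 yd59 zd5) (kd xd32 yd51 zd53) (kd xd29 yd36 zd17) (kd xd32 yd55 zd9) (kd xd29 yd36 zd26) (kd xd31 yd19 zd50) (kd xd30 yd39 zd18) (kd xd30 yd49 zd48) (kd xd32 yd58 zd11) (kd xd29 yd54 zd54) (kd xd31 yd40 zd43) (kd xd32 yd51 zd22) (kd xd29 yd37 zd35) (kd xd32 yd59 zd14) (kd xd30 yd27 zd47) (kd xd32 yd45 zd51) (kd xd29 yd45 zd11) (kd xd32 yd24 zd3) (kd xd31 yd33 zd36) (kd xd32 yd15 zd22) (kd xd32 yd40 zd9) (kd xd30 yd27 zd5) (kd xd32 yd34 zd10) (kd xd32 yd14 zd57) (kd xd30 yd53 zd13) (kd xd31 yd15 zd29)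 (kd xd31 yd39 zd5) (kd xd31 yd20 zd32) (kd xd32 yd38 zd46) (kd xd31 yd21 zd54) (kd xd29 yd55 zd42) (kd xd31 yd55 zd40) (kd xd32 yd13 zd18) (kd xd29 yd49 zd6) (kd xd29 yd49 zd7) (kd xd32 yd13 zd19) (kd xd32 yd15 zd44) (kd xd32 yd45 zd9) (kd xd29 yd40 zd38) (kd xd29 yd40 zd51) (kd xd32 yd29 zd54) (kd xd32 yd18 zd21) (kd xd29 yd41 zd15) (kd xd32 yd53 zd21) (kd xd32 yd15 zd30) (kd xd32 yd42 zd0) (kd xd32 yd54 zd51) (kd xd30 yd45 zd7) (kd xd31 yd50 zd20)) (@D3.rec (fun _ => Pt) (kd xd29 yd41 zd44) (kd xd31 yd49 zd11) (kd xd29 yd42 zd4) (kd xd32 yd37 zd21) (kd xd31 yd38 zd48) (kd xd32 yd12 zd9) (kd xd29 yd43 zd23) (kd xd31 yd30 zd58) (kd xd29 yd43 zd40) (kd xd31 yd56 zd54) (kd xd29 yd43 zd49) (kd xd29 yd50 zd52) (kd xd29 yd45 zd6) (kd xd31 yd26 zd2) (kd xd32 yd23 zd2) (kd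 xd32 yd58 zd60) (kd xd29 yd44 zd32) (kd xd32 yd10 zd39) (kd xd29 yd44 zd48) (kd xd31 yd28 zd15) (kd xd29 yd45 zd3) (kd xd32 yd39 zd28) (kd xd29 yd45 zd9) (kd xd31 yd48 zd5) (kd xd29 yd45 zd59) (kd xd31 yd52 zd56) (kd xd32 yd12 zd21) (kd xd29 yd45 zd39) (kd xd29 yd45 zd41) (kd xd31 yd47 zd52) (kd xd31 yd52 zd37) (kd xd32 yd35 zd15) (kd xd31 yd31 zd41) (kd xd32 yd12 zd45) (kd xd32 yd12 zd46) (kd xd29 yd46 zd0) (kd xd29 yd46 zd2) (kd xd32 yd13 zd17) (kd xd32 yd10 zd30) (kd xd32 yd19 zd2) (kd xd32 yd10 zd37) (kd xd32 yd35 zd30) (kd xd32 yd42 zd51) (kd xd32 yd58 zd58) (kd xd32 yd41 zd44) (kd xd32 yd19 zd5) (kd xd29 yd46 zd17) (kd xd30 yd31 zd8) (kd xd32 yd34 zd41) (kd xd29 yd46 zd29) (kd xd32 yd25 zd58) (kd xd29 yd46 zd46) (kd xd30 yd17 zd23) (kd xd32 yd36 zd7) (kd xd32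 yd13 zd45) (kd xd32 yd10 zd49) (kd xd32 yd16 zd55) (kd xd31 yd49 zd20) (kd xd29 yd47 zd12) (kd xd32 yd14 zd1) (kd xd29 yd47 zd21) (kd xd30 yd22 zd7)) (@D3.rec (fun _ => Pt) (kd xd29 yd48 zd13) (kd xd30 yd16 zd0) (kd xd32 yd50 zd15) (kd xd32 yd59 zd46) (kd xd29 yd48 zd26) (kd xd30 yd29 zd31) (kd xd30 yd31 zd30) (kd xd30 yd56 zd46) (kd xd29 yd49 zd13) (kd xd31 yd53 zd35) (kd xd29 yd49 zd30) (kd xd32 yd43 zd38) (kd xd29 yd49 zd45) (kd xd31 yd58 zd8) (kd xd32 yd43 zd15) (kd xd31 yd57 zd45) (kd xd29 yd50 zd22) (kd xd31 yd55 zd11) (kd xd29 yd50 zd36) (kd xd32 yd59 zd20) (kd xd30 yd58 zd40) (kd xd30 yd59 zd24) (kd xd32 yd55 zd36) (kd xd31 yd8 zd52) (kd xd29 yd51 zd19) (kd xd30 yd8 zd59) (kd xd30 yd8 zd10) (kd xd32 yd5 zd3) (kd xd32 yd49 zd40) (kd xd31 yd26 zd0) (kd xd31 yd20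 zd0) (kd xd32 yd59 zd31) (kd xd30 yd46 zd19) (kd xd32 yd57 zd61) (kd xd29 yd53 zd27) (kd xd29 yd53 zd33) (kd xd32 yd22 zd16) (kd xd31 yd35 zd31) (kd xd32 yd49 zd33) (kd xd32 yd55 zd35) (kd xd31 yd53 zd60) (kd xd30 yd23 zd3) (kd xd30 yd22 zd41) (kd xd32 yd21 zd15) (kd xd29 yd55 zd1) (kd xd32 yd31 zd61) (kd xd31 yd45 zd21) (kd xd30 yd52 zd25) (kd xd32 yd22 zd48) (kd xd30 yd52 zd29) (kd xd29 yd56 zd61) (kd xd29 yd56 zd27) (kd xd32 yd2 zd49) (kd xd32 yd50 zd34) (kd xd30 yd50 zd27) (kd xd29 yd57 zd14) (kd xd29 yd58 zd0) (kd xd30 yd13 zd38) (kd xd29 yd57 zd30) (kd xd32 yd1 zd51) (kd xd30 yd33 zd18) (kd xd30 yd20 zd14)) (@D3.rec (fun _ => Pt) (kd xd31 yd2 zd11) (kd xd31 yd29 zd0) (kd xd30 yd1 zd39) (kd xd30 yd14 zd2) (kd xd32 yd32 zd50) (kd xd32 yd58 zd6) (kd xd30 yd0 zd33)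 (kd xd30 yd54 zd50) (kd xd29 yd58 zd30) (kd xd29 yd58 zd33) (kd xd29 yd58 zd35) (kd xd31 yd34 zd57) (kd xd30 yd31 zd45) (kd xd32 yd4 zd11) (kd xd29 yd59 zd18) (kd xd30 yd37 zd15) (kd xd30 yd4 zd47) (kd xd31 yd32 zd15) (kd xd30 yd47 zd7) (kd xd31 yd9 zd33) (kd xd32 yd4 zd34) (kd xd31 yd9 zd4) (kd xd32 yd5 zd42) (kd xd31 yd1 zd1) (kd xd32 yd38 zd10) (kd xd32 yd41 zd24) (kd xd31 yd16 zd58) (kd xd32 yd10 zd0) (kd xd30 yd1 zd45) (kd xd30 yd1 zd50) (kd xd30 yd1 zd57) (kd xd31 yd1 zd0) (kd xd31 yd7 zd21) (kd xd32 yd48 zd38) (kd xd31 yd9 zd61) (kd xd30 yd3 zd7) (kd xd30 yd3 zd8) (kd xd30 yd3 zd9) (kd xd31 yd40 zd20) (kd xd30 yd17 zd45) (kd xd32 yd48 zd28) (kd xd30 yd28 zd44) (kd xd32 yd51 zd40) (kd xd31 yd32 zd22) (kd xd30 yd4 zd13) (kd xd30 yd36 zd55) (kd xd32 yd53 zd41) (kd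 xd30 yd12 zd55) (kd xd30 yd12 zd56) (kd xd31 yd4 zd42) (kd xd30 yd7 zd19) (kd xd31 yd46 zd15) (kd xd32 yd44 zd41) (kd xd32 yd52 zd61) (kd xd31 yd33 zd32) (kd xd32 yd20 zd36) (kd xd30 yd5 zd38) (kd xd32 yd56 zd7) (kd xd30 yd36 zd5) (kd xd32 yd34 zd7) (kd xd31 yd25 zd50) (kd xd32 yd59 zd47)) (@D3.rec (fun _ => Pt) (kd xd30 yd5 zd43) (kd xd32 yd46 zd7) (kd xd30 yd5 zd49) (kd xd32 yd52 zd2) (kd xd32 yd24 zd42) (kd xd32 yd57 zd15) (kd xd32 yd54 zd21) (kd xd30 yd56 zd17) (kd xd30 yd54 zd52) (kd xd30 yd6 zd28) (kd xd30 yd6 zd46) (kd xd30 yd6 zd49) (kd xd31 yd52 zd20) (kd xd31 yd52 zd40) (kd xd32 yd22 zd12) (kd xd32 yd48 zd2) (kd xd30 yd7 zd3) (kd xd30 yd7 zd18) (kd xd32 yd54 zd11) (kd xd30 yd7 zd20) (kd xd30 yd57 zd30) (kd xd30 yd20 zd36) (kd xd32 yd40 zd25) (kd xd30 yd16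 zd39) (kd xd31 yd14 zd4) (kd xd30 yd7 zd50) (kd xd30 yd8 zd2) (kd xd31 yd28 zd32) (kd xd30 yd25 zd29) (kd xd31 yd34 zd50) (kd xd30 yd9 zd28) (kd xd32 yd58 zd40) (kd xd31 yd31 zd54) (kd xd32 yd12 zd48) (kd xd32 yd48 zd53) (kd xd30 yd36 zd36) (kd xd32 yd53 zd18) (kd xd32 yd36 zd44) (kd xd31 yd15 zd16) (kd xd31 yd13 zd6) (kd xd32 yd31 zd9) (kd xd30 yd12 zd24) (kd xd30 yd12 zd26) (kd xd30 yd13 zd13) (kd xd30 yd13 zd14) (kd xd30 yd13 zd17) (kd xd32 yd38 zd50) (kd xd30 yd13 zd36) (kd xd31 yd6 zd53) (kd xd32 yd38 zd51) (kd xd30 yd13 zd46) (kd xd30 yd13 zd48) (kd xd31 yd0 zd60) (kd xd32 yd58 zd35) (kd xd30 yd13 zd60) (kd xd30 yd14 zd52) (kd xd32 yd11 zd44) (kd xd32 yd58 zd54) (kd xd32 yd36 zd22) (kd xd30 yd15 zd23) (kd xd32 yd58 zd56) (kd xd32 yd41 zd9)) (@D3.rec (fun _ =>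 Pt) (kd xd32 yd4 zd2) (kd xd32 yd45 zd8) (kd xd31 yd21 zd4) (kd xd30 yd17 zd15) (kd xd30 yd17 zd25) (kd xd32 yd40 zd28) (kd xd30 yd17 zd33) (kd xd32 yd39 zd17) (kd xd30 yd18 zd19) (kd xd32 yd58 zd38) (kd xd32 yd59 zd56) (kd xd32 yd59 zd40) (kd xd30 yd19 zd14) (kd xd32 yd16 zd26) (kd xd30 yd18 zd32) (kd xd30 yd26 zd5) (kd xd30 yd54 zd8) (kd xd31 yd27 zd58) (kd xd32 yd58 zd39) (kd xd30 yd18 zd56) (kd xd30 yd18 zd60) (kd xd30 yd43 zd20) (kd xd32 yd46 zd24) (kd xd30 yd19 zd2) (kd xd30 yd19 zd3) (kd xd32 yd59 zd42) (kd xd30 yd19 zd4) (kd xd32 yd59 zd36) (kd xd32 yd20 zd15) (kd xd32 yd39 zd42) (kd xd32 yd53 zd53) (kd xd31 yd40 zd2) (kd xd32 yd31 zd31) (kd xd30 yd28 zd43) (kd xd31 yd51 zd37) (kd xd30 yd25 zd22) (kd xd30 yd21 zd0) (kd xd32 yd57 zd54) (kd xd30 yd21 zd1) (kd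 xd30 yd52 zd4) (kd xd32 yd49 zd42) (kd xd32 yd14 zd56) (kd xd30 yd21 zd18) (kd xd31 yd56 zd3) (kd xd31 yd51 zd3) (kd xd32 yd40 zd34) (kd xd32 yd57 zd40) (kd xd32 yd43 zd41) (kd xd30 yd21 zd36) (kd xd31 yd52 zd18) (kd xd31 yd20 zd38) (kd xd32 yd14 zd54) (kd xd32 yd58 zd8) (kd xd32 yd46 zd14) (kd xd31 yd22 zd50) (kd xd32 yd57 zd41) (kd xd32 yd39 zd3) (kd xd32 yd45 zd58) (kd xd32 yd56 zd39) (kd xd32 yd17 zd60) (kd xd32 yd17 zd44) (kd xd32 yd59 zd17)) (@D3.rec (fun _ => Pt) (kd xd32 yd40 zd39) (kd xd32 yd39 zd35) (kd xd32 yd50 zd3) (kd xd30 yd29 zd30) (kd xd30 yd29 zd47) (kd xd31 yd43 zd24) (kd xd30 yd29 zd45) (kd xd32 yd55 zd39) (kd xd31 yd12 zd30) (kd xd30 yd44 zd49) (kd xd31 yd33 zd35) (kd xd32 yd36 zd27) (kd xd32 yd21 zd43) (kd xd31 yd30 zd2) (kd xd31 yd17 zd50) (kd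 xd31 yd6 zd59) (kd xd32 yd2 zd5) (kd xd30 yd24 zd30) (kd xd32 yd31 zd4) (kd xd31 yd23 zd0) (kd xd30 yd25 zd26) (kd xd32 yd39 zd40) (kd xd31 yd14 zd50) (kd xd30 yd26 zd21) (kd xd32 yd30 zd34) (kd xd32 yd31 zd53) (kd xd30 yd26 zd34) (kd xd32 yd53 zd38) (kd xd32 yd45 zd17) (kd xd30 yd28 zd4) (kd xd31 yd51 zd19) (kd xd32 yd41 zd31) (kd xd32 yd11 zd8) (kd xd30 yd28 zd18) (kd xd32 yd45 zd10) (kd xd30 yd28 zd22) (kd xd32 yd9 zd18) (kd xd32 yd56 zd47) (kd xd31 yd40 zd10) (kd xd31 yd40 zd14) (kd xd31 yd50 zd13) (kd xd32 yd17 zd9) (kd xd32 yd21 zd48) (kd xd32 yd44 zd33) (kd xd32 yd59 zd25) (kd xd32 yd17 zd7) (kd xd30 yd29 zd17) (kd xd30 yd29 zd4) (kd xd30 yd29 zd5) (kd xd31 yd47 zd33) (kd xd32 yd1 zd5) (kd xd32 yd59 zd32) (kd xd31 yd21 zd36) (kd xd31 yd33 zd15) (kd xd31 yd22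 zd38) (kd xd32 yd18 zd46) (kd xd32 yd39 zd23) (kd xd31 yd22 zd5) (kd xd31 yd43 zd26) (kd xd30 yd30 zd53) (kd xd30 yd31 zd13) (kd xd32 yd49 zd53)) (@D3.rec (fun _ => Pt) (kd xd30 yd31 zd15) (kd xd30 yd31 zd17) (kd xd30 yd48 zd38) (kd xd31 yd21 zd13) (kd xd30 yd31 zd40) (kd xd32 yd1 zd15) (kd xd30 yd46 zd25) (kd xd31 yd16 zd5) (kd xd30 yd32 zd58) (kd xd30 yd33 zd2) (kd xd30 yd33 zd7) (kd xd32 yd5 zd7) (kd xd30 yd56 zd38) (kd xd30 yd33 zd24) (kd xd31 yd36 zd30) (kd xd32 yd33 zd1) (kd xd30 yd48 zd27) (kd xd30 yd33 zd43) (kd xd32 yd50 zd36) (kd xd32 yd45 zd60) (kd xd32 yd43 zd30) (kd xd32 yd46 zd56) (kd xd31 yd50 zd51) (kd xd30 yd44 zd50) (kd xd32 yd43 zd40) (kd xd31 yd31 zd28) (kd xd30 yd34 zd47) (kd xd30 yd34 zd57) (kd xd32 yd27 zd38) (kd xd32 yd44 zd25) (kd xd32 yd55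 zd20) (kd xd32 yd14 zd11) (kd xd30 yd35 zd27) (kd xd32 yd58 zd49) (kd xd31 yd29 zd20) (kd xd30 yd39 zd20) (kd xd30 yd36 zd17) (kd xd32 yd59 zd15) (kd xd32 yd52 zd27) (kd xd32 yd35 zd4) (kd xd32 yd23 zd39) (kd xd32 yd49 zd46) (kd xd31 yd1 zd29) (kd xd31 yd55 zd36) (kd xd30 yd52 zd6) (kd xd32 yd45 zd37) (kd xd31 yd25 zd9) (kd xd31 yd17 zd22) (kd xd30 yd54 zd3) (kd xd32 yd57 zd12) (kd xd30 yd49 zd54) (kd xd32 yd27 zd6) (kd xd32 yd42 zd41) (kd xd32 yd51 zd30) (kd xd30 yd48 zd44) (kd xd31 yd12 zd53) (kd xd32 yd40 zd0) (kd xd31 yd58 zd41) (kd xd32 yd25 zd26) (kd xd30 yd56 zd37) (kd xd31 yd44 zd27) (kd xd32 yd25 zd37)) (@D3.rec (fun _ => Pt) (kd xd31 yd29 zd2) (kd xd31 yd29 zd31) (kd xd32 yd28 zd59) (kd xd32 yd29 zd26) (kd xd31 yd2 zd17) (kd xd32 yd57 zd5) (kd xd30 yd40 zd27)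 (kd xd32 yd22 zd2) (kd xd32 yd22 zd3) (kd xd30 yd40 zd48) (kd xd30 yd40 zd50) (kd xd32 yd50 zd18) (kd xd32 yd4 zd37) (kd xd31 yd11 zd20) (kd xd30 yd42 zd35) (kd xd32 yd6 zd45) (kd xd32 yd31 zd38) (kd xd31 yd39 zd12) (kd xd32 yd20 zd2) (kd xd32 yd29 zd34) (kd xd32 yd28 zd33) (kd xd32 yd50 zd6) (kd xd32 yd33 zd26) (kd xd31 yd28 zd60) (kd xd30 yd42 zd22) (kd xd32 yd29 zd52) (kd xd30 yd43 zd10) (kd xd30 yd43 zd21) (kd xd30 yd44 zd0) (kd xd32 yd31 zd1) (kd xd32 yd16 zd8) (kd xd31 yd29 zd16) (kd xd32 yd55 zd43) (kd xd30 yd45 zd13) (kd xd30 yd46 zd36) (kd xd30 yd47 zd11) (kd xd30 yd54 zd47) (kd xd30 yd47 zd56) (kd xd30 yd48 zd0) (kd xd32 yd59 zd39) (kd xd32 yd59 zd54) (kd xd32 yd58 zd15) (kd xd30 yd48 zd42) (kd xd30 yd48 zd43) (kd xd30 yd53 zd55) (kd xd30 yd49 zd40) (kd xd31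 yd22 zd57) (kd xd32 yd9 zd10) (kd xd30 yd49 zd55) (kd xd32 yd1 zd55) (kd xd32 yd55 zd4) (kd xd32 yd46 zd59) (kd xd32 yd43 zd35) (kd xd30 yd50 zd40) (kd xd30 yd50 zd29) (kd xd32 yd16 zd27) (kd xd30 yd51 zd20) (kd xd32 yd41 zd27) (kd xd30 yd52 zd23) (kd xd30 yd52 zd24) (kd xd30 yd52 zd26) (kd xd32 yd8 zd16)) (@D3.rec (fun _ => Pt) (kd xd31 yd15 zd57) (kd xd31 yd28 zd3) (kd xd32 yd22 zd60) (kd xd31 yd46 zd20) (kd xd32 yd54 zd50) (kd xd32 yd58 zd45) (kd xd31 yd8 zd37) (kd xd30 yd56 zd30) (kd xd31 yd26 zd42) (kd xd32 yd46 zd16) (kd xd30 yd58 zd50) (kd xd30 yd59 zd40) (kd xd32 yd5 zd44) (kd xd32 yd31 zd13) (kd xd31 yd0 zd8) (kd xd31 yd6 zd14) (kd xd32 yd57 zd23) (kd xd31 yd25 zd30) (kd xd31 yd1 zd22) (kd xd31 yd8 zd24) (kd xd32 yd53 zd30) (kd xd32 yd25 zd27) (kd xd32 yd7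 zd41) (kd xd31 yd25 zd46) (kd xd31 yd26 zd31) (kd xd31 yd29 zd1) (kd xd31 yd18 zd35) (kd xd32 yd15 zd58) (kd xd31 yd37 zd6) (kd xd32 yd25 zd1) (kd xd32 yd0 zd39) (kd xd31 yd18 zd21) (kd xd31 yd37 zd7) (kd xd31 yd6 zd32) (kd xd32 yd32 zd1) (kd xd32 yd48 zd39) (kd xd32 yd48 zd22) (kd xd32 yd57 zd32) (kd xd31 yd32 zd51) (kd xd32 yd52 zd7) (kd xd31 yd7 zd50) (kd xd31 yd49 zd41) (kd xd31 yd34 zd8) (kd xd32 yd54 zd32) (kd xd32 yd16 zd4) (kd xd31 yd9 zd25) (kd xd32 yd16 zd3) (kd xd32 yd27 zd58) (kd xd32 yd1 zd38) (kd xd32 yd57 zd60) (kd xd31 yd54 zd53) (kd xd32 yd9 zd52) (kd xd31 yd10 zd43) (kd xd32 yd26 zd41) (kd xd31 yd11 zd16) (kd xd32 yd21 zd59) (kd xd32 yd2 zd50) (kd xd31 yd11 zd46) (kd xd32 yd27 zd34) (kd xd31 yd59 zd30) (kd xd32 yd29 zd18) (kd xd31 yd34 zd15)) (@D3.rec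 (fun _ => Pt) (kd xd32 yd2 zd3) (kd xd32 yd59 zd23) (kd xd31 yd13 zd26) (kd xd32 yd0 zd58) (kd xd31 yd13 zd53) (kd xd32 yd14 zd61) (kd xd32 yd23 zd22) (kd xd32 yd49 zd57) (kd xd32 yd59 zd50) (kd xd31 yd32 zd52) (kd xd31 yd14 zd54) (kd xd31 yd14 zd57) (kd xd31 yd40 zd29) (kd xd31 yd55 zd38) (kd xd31 yd41 zd36) (kd xd32 yd40 zd18) (kd xd32 yd45 zd14) (kd xd32 yd2 zd9) (kd xd32 yd2 zd15) (kd xd31 yd16 zd29) (kd xd31 yd16 zd35) (kd xd32 yd31 zd19) (kd xd31 yd16 zd56) (kd xd31 yd25 zd59) (kd xd31 yd39 zd7) (kd xd31 yd18 zd33) (kd xd31 yd18 zd49) (kd xd32 yd59 zd33) (kd xd31 yd19 zd11) (kd xd31 yd19 zd28) (kd xd32 yd30 zd40) (kd xd31 yd19 zd47) (kd xd32 yd11 zd38) (kd xd31 yd55 zd41) (kd xd32 yd40 zd53) (kd xd32 yd41 zd55) (kd xd31 yd41 zd12) (kd xd32 yd36 zd49) (kd xd31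 yd20 zd42) (kd xd32 yd51 zd58) (kd xd31 yd21 zd15) (kd xd31 yd21 zd24) (kd xd32 yd18 zd0) (kd xd31 yd25 zd25) (kd xd31 yd22 zd36) (kd xd32 yd44 zd49) (kd xd31 yd36 zd42) (kd xd32 yd52 zd37) (kd xd32 yd11 zd53) (kd xd31 yd36 zd58) (kd xd31 yd24 zd41) (kd xd32 yd59 zd37) (kd xd31 yd24 zd43) (kd xd31 yd25 zd29) (kd xd32 yd58 zd34) (kd xd31 yd25 zd35) (kd xd31 yd25 zd36) (kd xd31 yd26 zd14) (kd xd31 yd27 zd8) (kd xd32 yd42 zd31) (kd xd31 yd26 zd32) (kd xd31 yd27 zd7)) (@D3.rec (fun _ => Pt) (kd xd31 yd27 zd25) (kd xd32 yd57 zd18) (kd xd31 yd27 zd21) (kd xd32 yd10 zd41) (kd xd32 yd22 zd29) (kd xd32 yd54 zd5) (kd xd31 yd42 zd32) (kd xd31 yd43 zd35) (kd xd32 yd21 zd23) (kd xd32 yd59 zd9) (kd xd31 yd32 zd23) (kd xd31 yd36 zd54) (kd xd32 yd53 zd49) (kd xd31 yd43 zd53) (kd xd32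 yd44 zd32) (kd xd32 yd50 zd5) (kd xd32 yd46 zd10) (kd xd32 yd41 zd48) (kd xd32 yd57 zd1) (kd xd31 yd31 zd60) (kd xd32 yd34 zd44) (kd xd31 yd49 zd25) (kd xd31 yd32 zd54) (kd xd32 yd55 zd16) (kd xd31 yd44 zd17) (kd xd32 yd16 zd58) (kd xd32 yd36 zd6) (kd xd31 yd33 zd60) (kd xd32 yd43 zd2) (kd xd31 yd34 zd58) (kd xd32 yd45 zd34) (kd xd31 yd36 zd31) (kd xd32 yd55 zd37) (kd xd32 yd29 zd2) (kd xd31 yd42 zd36) (kd xd32 yd4 zd28) (kd xd31 yd38 zd42) (kd xd31 yd40 zd1) (kd xd31 yd40 zd4) (kd xd31 yd40 zd8) (kd xd32 yd51 zd46) (kd xd32 yd51 zd55) (kd xd31 yd40 zd12) (kd xd31 yd51 zd27) (kd xd31 yd50 zd47) (kd xd31 yd52 zd5) (kd xd31 yd40 zd26) (kd xd31 yd40 zd27) (kd xd32 yd59 zd59) (kd xd31 yd40 zd36) (kd xd31 yd41 zd14) (kd xd31 yd41 zd22) (kd xd32 yd59 zd53) (kd xd31 yd42 zd11)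 (kd xd32 yd51 zd37) (kd xd32 yd31 zd49) (kd xd32 yd8 zd45) (kd xd31 yd44 zd59) (kd xd32 yd43 zd48) (kd xd32 yd58 zd44) (kd xd32 yd55 zd49) (kd xd32 yd48 zd33)) (@D3.rec (fun _ => Pt) (kd xd32 yd27 zd57) (kd xd32 yd36 zd4) (kd xd31 yd47 zd60) (kd xd31 yd47 zd61) (kd xd31 yd48 zd0) (kd xd32 yd22 zd38) (kd xd32 yd49 zd5) (kd xd31 yd48 zd22) (kd xd32 yd51 zd52) (kd xd31 yd50 zd46) (kd xd31 yd50 zd57) (kd xd32 yd46 zd21) (kd xd32 yd59 zd11) (kd xd31 yd51 zd24) (kd xd32 yd5 zd19) (kd xd32 yd54 zd41) (kd xd32 yd15 zd2) (kd xd32 yd59 zd18) (kd xd31 yd51 zd55) (kd xd31 yd52 zd6) (kd xd31 yd56 zd57) (kd xd31 yd52 zd8) (kd xd32 yd22 zd42) (kd xd32 yd43 zd33) (kd xd32 yd43 zd36) (kd xd32 yd39 zd4) (kd xd32 yd33 zd52) (kd xd31 yd54 zd22) (kd xd32 yd8 zd37) (kd xd31 yd53 zd10) (kd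 xd31 yd53 zd14) (kd xd32 yd40 zd42) (kd xd32 yd42 zd25) (kd xd32 yd43 zd53) (kd xd32 yd56 zd54) (kd xd32 yd50 zd53) (kd xd32 yd33 zd15) (kd xd32 yd20 zd16) (kd xd32 yd51 zd9) (kd xd32 yd51 zd18) (kd xd32 yd50 zd31) (kd xd32 yd4 zd12) (kd xd32 yd1 zd4) (kd xd32 yd1 zd7) (kd xd32 yd57 zd59) (kd xd32 yd55 zd5) (kd xd32 yd10 zd13) (kd xd32 yd6 zd10) (kd xd32 yd3 zd26) (kd xd32 yd53 zd33) (kd xd32 yd6 zd5) (kd xd32 yd6 zd44) (kd xd32 yd7 zd4) (kd xd32 yd8 zd35) (kd xd32 yd50 zd57) (kd xd32 yd22 zd58) (kd xd32 yd50 zd60) (kd xd32 yd21 zd50) (kd xd32 yd47 zd43) (kd xd32 yd24 zd6) (kd xd32 yd47 zd15) (kd xd32 yd34 zd45)) (@D3.rec (fun _ => Pt) (kd xd32 yd18 zd18) (kd xd32 yd17 zd47) (kd xd32 yd44 zd44) (kd xd32 yd17 zd49) (kd xd32 yd17 zd61) (kd xd32 yd46 zd13) (kd xd32 yd18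 zd2) (kd xd32 yd37 zd26) (kd xd32 yd59 zd48) (kd xd32 yd57 zd9) (kd xd32 yd20 zd39) (kd xd32 yd58 zd12) (kd xd32 yd25 zd21) (kd xd32 yd35 zd10) (kd xd32 yd46 zd26) (kd xd32 yd53 zd37) (kd xd32 yd25 zd59) (kd xd32 yd51 zd61) (kd xd32 yd58 zd17) (kd xd32 yd38 zd19) (kd xd32 yd48 zd19) (kd xd32 yd33 zd14) (kd xd32 yd43 zd29) (kd xd32 yd56 zd1) (kd xd32 yd37 zd32) (kd xd32 yd52 zd44) (kd xd32 yd37 zd45) (kd xd32 yd39 zd26) (kd xd32 yd59 zd34) (kd xd32 yd36 zd17) (kd xd32 yd45 zd36) (kd xd32 yd48 zd31) (kd xd32 yd52 zd51) (kd xd32 yd56 zd27) (kd xd32 yd59 zd28) (kd xd32 yd39 zd45) (kd xd32 yd51 zd27) (kd xd32 yd56 zd51) (kd xd32 yd59 zd45) (kd xd32 yd54 zd39) (kd xd32 yd51 zd11) (kd xd32 yd59 zd57) (kd xd32 yd51 zd25) (kd xd32 yd43 zd34) (kd xd32 yd44 zd48) (kd xd32 yd59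 zd38) (kd xd32 yd48 zd3) (kd xd32 yd49 zd61) (kd xd32 yd59 zd8) (kd xd32 yd59 zd58) (kd xd32 yd56 zd8) (kd xd32 yd46 zd8) (kd xd32 yd59 zd60) (kd xd32 yd57 zd52) (kd xd32 yd54 zd40) (kd xd32 yd59 zd61) (kd xd32 yd51 zd10) (kd xd32 yd59 zd41) (kd xd32 yd59 zd49) (kd xd32 yd57 zd48) (kd xd32 yd59 zd52) (kd xd32 yd59 zd55))
def f_d : Pt → Pt := @Pt.rec (fun _ => Pt) (@D1.rec (fun _ => D2 → D3 → Pt) f_d_0 f_d_1 f_d_2 f_d_3 f_d_4 f_d_5 f_d_6 f_d_7 f_d_8 f_d_9 f_d_10 f_d_11 f_d_12 f_d_13 f_d_14 f_d_15 f_d_16 f_d_17 f_d_18 f_d_19 f_d_20 f_d_21 f_d_22 f_d_23 f_d_24 f_d_25 f_d_26 f_d_27 f_d_28 f_d_29 f_d_30 f_d_31 f_d_32)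
def fi_d : Pt → Pt := f_d

theorem inv_chk_d : chkInv allPts beqPt f_d fi_d = true := by decide +kernel

end

end Cfsg.Agent.Helper28.S1692
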