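import Cfsg.Agent.Lib.Helper28.S1692.Defs

set_option autoImplicit false
set_option maxRecDepth 100000
set_option linter.all false

namespace Cfsg.Agent.Helper28.S1692

open Cfsg.Agent.Helper28
open Cfsg.Spor.ON (Gen)

noncomputable section

abbrev ke := Pt.mk
abbrev xe0 := D1.c0
abbrev xe1 := D1.c1
abbrev xe2 := D1.c2
abbrev xe3 := D1.c3
abbrev xe4 := D1.c4
abbrev xe5 := D1.c5
abbrev xe6 := D1.c6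
abbrev xe7 := D1.c7
abbrev xe8 := D1.c8
abbrev xe9 := D1.c9
abbrev xe10 := D1.c10
abbrev xe11 := D1.c11
abbrev xe12 := D1.c12
abbrev xe13 := D1.c13
abbrev xe14 := D1.c14
abbrev xe15 := D1.c15
abbrev xe16 := D1.c16
abbrev xe17 := D1.c17
abbrev xe18 := D1.c18
abbrev xe19 := D1.c19
abbrev xe20 := D1.c20
abbrev xe21 := D1.c21
abbrev xe22 := D1.c22
abbrev xe23 := D1.c23
abbrev xe24 := D1.c24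
abbrev xe25 := D1.c25
abbrev xe26 := D1.c26
abbrev xe27 := D1.c27
abbrev xe28 := D1.c28
abbrev xe29 := D1.c29
abbrev xe30 := D1.c30
abbrev xe31 := D1.c31
abbrev xe32 := D1.c32
abbrev ye0 := D2.c0
abbrev ye1 := D2.c1
abbrev ye2 := D2.c2
abbrev ye3 := D2.c3
abbrev ye4 := D2.c4
abbrev ye5 := D2.c5
abbrev ye6 := D2.c6
abbrev ye7 := D2.c7
abbrev ye8 := D2.c8
abbrev ye9 := D2.c9
abbrev ye10 := D2.c10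
abbrev ye11 := D2.c11
abbrev ye12 := D2.c12
abbrev ye13 := D2.c13
abbrev ye14 := D2.c14
abbrev ye15 := D2.c15
abbrev ye16 := D2.c16
abbrev ye17 := D2.c17
abbrev ye18 := D2.c18
abbrev ye19 := D2.c19
abbrev ye20 := D2.c20
abbrev ye21 := D2.c21
abbrev ye22 := D2.c22
abbrev ye23 := D2.c23
abbrev ye24 := D2.c24
abbrev ye25 := D2.c25
abbrev ye26 := D2.c26
abbrev ye27 := D2.c27
abbrev ye28 := D2.c28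
abbrev ye29 := D2.c29
abbrev ye30 := D2.c30
abbrev ye31 := D2.c31
abbrev ye32 := D2.c32
abbrev ye33 := D2.c33
abbrev ye34 := D2.c34
abbrev ye35 := D2.c35
abbrev ye36 := D2.c36
abbrev ye37 := D2.c37
abbrev ye38 := D2.c38
abbrev ye39 := D2.c39
abbrev ye40 := D2.c40
abbrev ye41 := D2.c41
abbrev ye42 := D2.c42
abbrev ye43 := D2.c43
abbrev ye44 := D2.c44
abbrev ye45 := D2.c45
abbrev ye46 := D2.c46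
abbrev ye47 := D2.c47
abbrev ye48 := D2.c48
abbrev ye49 := D2.c49
abbrev ye50 := D2.c50
abbrev ye51 := D2.c51
abbrev ye52 := D2.c52
abbrev ye53 := D2.c53
abbrev ye54 := D2.c54
abbrev ye55 := D2.c55
abbrev ye56 := D2.c56
abbrev ye57 := D2.c57
abbrev ye58 := D2.c58
abbrev ye59 := D2.c59
abbrev ze0 := D3.c0
abbrev ze1 := D3.c1
abbrev ze2 := D3.c2
abbrev ze3 := D3.c3
abbrev ze4 := D3.c4
abbrev ze5 := D3.c5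
abbrev ze6 := D3.c6
abbrev ze7 := D3.c7
abbrev ze8 := D3.c8
abbrev ze9 := D3.c9
abbrev ze10 := D3.c10
abbrev ze11 := D3.c11
abbrev ze12 := D3.c12
abbrev ze13 := D3.c13
abbrev ze14 := D3.c14
abbrev ze15 := D3.c15
abbrev ze16 := D3.c16
abbrev ze17 := D3.c17
abbrev ze18 := D3.c18
abbrev ze19 := D3.c19
abbrev ze20 := D3.c20
abbrev ze21 := D3.c21
abbrev ze22 := D3.c22
abbrev ze23 := D3.c23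
abbrev ze24 := D3.c24
abbrev ze25 := D3.c25
abbrev ze26 := D3.c26
abbrev ze27 := D3.c27
abbrev ze28 := D3.c28
abbrev ze29 := D3.c29
abbrev ze30 := D3.c30
abbrev ze31 := D3.c31
abbrev ze32 := D3.c32
abbrev ze33 := D3.c33
abbrev ze34 := D3.c34
abbrev ze35 := D3.c35
abbrev ze36 := D3.c36
abbrev ze37 := D3.c37
abbrev ze38 := D3.c38
abbrev ze39 := D3.c39
abbrev ze40 := D3.c40
abbrev ze41 := D3.c41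
abbrev ze42 := D3.c42
abbrev ze43 := D3.c43
abbrev ze44 := D3.c44
abbrev ze45 := D3.c45
abbrev ze46 := D3.c46
abbrev ze47 := D3.c47
abbrev ze48 := D3.c48
abbrev ze49 := D3.c49
abbrev ze50 := D3.c50
abbrev ze51 := D3.c51
abbrev ze52 := D3.c52
abbrev ze53 := D3.c53
abbrev ze54 := D3.c54
abbrev ze55 := D3.c55
abbrev ze56 := D3.c56
abbrev ze57 := D3.c57
abbrev ze58 := D3.c58
abbrev ze59 := D3.c59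
abbrev ze60 := D3.c60
abbrev ze61 := D3.c61
def f_e_0 : D2 → D3 → Pt := @D2.rec (fun _ => D3 → Pt) (@D3.rec (fun _ => Pt) (ke xe0 ye0 ze0) (ke xe0 ye0 ze5) (ke xe0 ye0 ze11) (ke xe0 ye0 ze15) (ke xe0 ye0 ze17) (ke xe0 ye0 ze1) (ke xe0 ye0 ze6) (ke xe0 ye0 ze7) (ke xe0 ye0 ze26) (ke xe0 ye0 ze31) (ke xe0 ye0 ze35) (ke xe0 ye0 ze2) (ke xe0 ye0 ze12) (ke xe0 ye0 ze44) (ke xe0 ye0 ze46) (ke xe0 ye0 ze3) (ke xe0 ye0 ze51) (ke xe0 ye0 ze4) (ke xe0 ye0 ze19) (ke xe0 ye0 ze18) (ke xe0 ye0 ze53) (ke xe0 ye0 ze21) (ke xe0 ye0 ze22) (ke xe0 ye0 ze23) (ke xe0 ye1 ze6) (ke xe0 ye1 ze8) (ke xe0 ye0 ze8) (ke xe0 ye0 ze27) (ke xe0 ye0 ze28) (ke xe0 ye1 ze17) (ke xe0 ye1 ze21) (ke xe0 ye0 ze9) (ke xe0 ye1 ze27) (ke xe0 ye1 ze29) (ke xe0 ye1 ze34) (ke xe0 ye0 ze10) (ke xe0 ye1 ze10)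 (ke xe0 ye1 ze9) (ke xe0 ye1 ze36) (ke xe0 ye0 ze39) (ke xe0 ye0 ze40) (ke xe0 ye0 ze41) (ke xe0 ye1 ze47) (ke xe0 ye1 ze50) (ke xe0 ye0 ze13) (ke xe0 ye1 ze55) (ke xe0 ye0 ze14) (ke xe0 ye0 ze48) (ke xe0 ye0 ze47) (ke xe0 ye1 ze57) (ke xe0 ye0 ze50) (ke xe0 ye0 ze16) (ke xe0 ye0 ze52) (ke xe0 ye0 ze20) (ke xe0 ye0 ze54) (ke xe0 ye2 ze7) (ke xe0 ye2 ze9) (ke xe0 ye0 ze57) (ke xe0 ye2 ze12) (ke xe0 ye2 ze4) (ke xe0 ye2 ze18) (ke xe0 ye2 ze21)) (@D3.rec (fun _ => Pt) (ke xe0 ye1 ze0) (ke xe0 ye2 ze29) (ke xe0 ye1 ze2) (ke xe0 ye2 ze33) (ke xe0 ye2 ze35) (ke xe0 ye2 ze37) (ke xe0 ye0 ze24) (ke xe0 ye2 ze44) (ke xe0 ye0 ze25) (ke xe0 ye0 ze37) (ke xe0 ye0 ze36) (ke xe0 ye2 ze46) (ke xe0 ye1 ze12) (ke xe0 ye2 ze57) (ke xe0 ye1 ze14) (ke xe0 ye2 ze61) (ke xe0 ye3 ze3) (ke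 xe0 ye0 ze29) (ke xe0 ye3 ze7) (ke xe0 ye3 ze10) (ke xe0 ye3 ze15) (ke xe0 ye0 ze30) (ke xe0 ye2 ze39) (ke xe0 ye2 ze38) (ke xe0 ye3 ze18) (ke xe0 ye1 ze25) (ke xe0 ye3 ze30) (ke xe0 ye0 ze32) (ke xe0 ye3 ze32) (ke xe0 ye0 ze33) (ke xe0 ye3 ze33) (ke xe0 ye3 ze35) (ke xe0 ye3 ze36) (ke xe0 ye3 ze38) (ke xe0 ye0 ze34) (ke xe0 ye1 ze35) (ke xe0 ye0 ze38) (ke xe0 ye1 ze37) (ke xe0 ye2 ze50) (ke xe0 ye3 ze50) (ke xe0 ye2 ze48) (ke xe0 ye3 ze54) (ke xe0 ye1 ze42) (ke xe0 ye3 ze57) (ke xe0 ye3 ze43) (ke xe0 ye4 ze1) (ke xe0 ye4 ze2) (ke xe0 ye0 ze42) (ke xe0 ye4 ze5) (ke xe0 ye4 ze6) (ke xe0 ye0 ze43) (ke xe0 ye3 ze22) (ke xe0 ye1 ze59) (ke xe0 ye4 ze8) (ke xe0 ye1 ze54) (ke xe0 ye0 ze45) (ke xe0 ye1 ze56) (ke xe0 ye0 ze49) (ke xe0 ye1 ze58) (ke xe0 ye1 ze52) (ke xe0 ye4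 ze21) (ke xe0 ye4 ze23)) (@D3.rec (fun _ => Pt) (ke xe0 ye2 ze0) (ke xe0 ye4 ze25) (ke xe0 ye4 ze17) (ke xe0 ye4 ze29) (ke xe0 ye0 ze59) (ke xe0 ye4 ze33) (ke xe0 ye4 ze37) (ke xe0 ye0 ze55) (ke xe0 ye4 ze43) (ke xe0 ye0 ze56) (ke xe0 ye2 ze10) (ke xe0 ye4 ze49) (ke xe0 ye0 ze58) (ke xe0 ye2 ze13) (ke xe0 ye4 ze55) (ke xe0 ye4 ze30) (ke xe0 ye5 ze2) (ke xe0 ye5 ze4) (ke xe0 ye0 ze60) (ke xe0 ye5 ze6) (ke xe0 ye5 ze8) (ke xe0 ye0 ze61) (ke xe0 ye5 ze11) (ke xe0 ye5 ze13) (ke xe0 ye2 ze24) (ke xe0 ye5 ze18) (ke xe0 ye5 ze21) (ke xe0 ye5 ze23) (ke xe0 ye5 ze25) (ke xe0 ye1 ze1) (ke xe0 ye2 ze30) (ke xe0 ye5 ze32) (ke xe0 ye5 ze34) (ke xe0 ye1 ze3) (ke xe0 ye5 ze41) (ke xe0 ye1 ze4) (ke xe0 ye5 ze47) (ke xe0 ye1 ze5) (ke xe0 ye1 ze23) (ke xe0 ye1 ze22) (ke xe0 ye5 ze50)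 (ke xe0 ye2 ze41) (ke xe0 ye5 ze61) (ke xe0 ye6 ze0) (ke xe0 ye1 ze7) (ke xe0 ye2 ze45) (ke xe0 ye1 ze11) (ke xe0 ye2 ze47) (ke xe0 ye1 ze40) (ke xe0 ye6 ze8) (ke xe0 ye1 ze38) (ke xe0 ye6 ze12) (ke xe0 ye2 ze52) (ke xe0 ye6 ze15) (ke xe0 ye6 ze5) (ke xe0 ye6 ze21) (ke xe0 ye6 ze23) (ke xe0 ye1 ze13) (ke xe0 ye6 ze28) (ke xe0 ye6 ze30) (ke xe0 ye6 ze32) (ke xe0 ye1 ze15)) (@D3.rec (fun _ => Pt) (ke xe0 ye6 ze37) (ke xe0 ye6 ze38) (ke xe0 ye6 ze40) (ke xe0 ye1 ze16) (ke xe0 ye6 ze43) (ke xe0 ye3 ze5) (ke xe0 ye6 ze50) (ke xe0 ye1 ze18) (ke xe0 ye6 ze55) (ke xe0 ye6 ze57) (ke xe0 ye1 ze19) (ke xe0 ye7 ze1) (ke xe0 ye7 ze3) (ke xe0 ye7 ze8) (ke xe0 ye7 ze9) (ke xe0 ye1 ze20) (ke xe0 ye7 ze16) (ke xe0 ye7 ze20) (ke xe0 ye1 ze24) (ke xe0 ye3 ze19) (ke xe0 ye7 ze27) (ke xe0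 ye5 ze52) (ke xe0 ye1 ze51) (ke xe0 ye7 ze32) (ke xe0 ye6 ze53) (ke xe0 ye7 ze36) (ke xe0 ye7 ze23) (ke xe0 ye7 ze42) (ke xe0 ye7 ze43) (ke xe0 ye7 ze47) (ke xe0 ye1 ze26) (ke xe0 ye7 ze49) (ke xe0 ye1 ze28) (ke xe0 ye1 ze30) (ke xe0 ye7 ze53) (ke xe0 ye1 ze31) (ke xe0 ye1 ze32) (ke xe0 ye7 ze56) (ke xe0 ye1 ze33) (ke xe0 ye3 ze39) (ke xe0 ye7 ze59) (ke xe0 ye3 ze41) (ke xe0 ye3 ze42) (ke xe0 ye1 ze44) (ke xe0 ye8 ze8) (ke xe0 ye3 ze45) (ke xe0 ye6 ze9) (ke xe0 ye8 ze16) (ke xe0 ye8 ze18) (ke xe0 ye8 ze23) (ke xe0 ye1 ze39) (ke xe0 ye5 ze42) (ke xe0 ye8 ze29) (ke xe0 ye8 ze32) (ke xe0 ye1 ze41) (ke xe0 ye3 ze55) (ke xe0 ye8 ze39) (ke xe0 ye1 ze43) (ke xe0 ye3 ze58) (ke xe0 ye8 ze47) (ke xe0 ye8 ze5) (ke xe0 ye8 ze56)) (@D3.rec (fun _ => Pt) (ke xe0 ye8 ze58) (ke xe0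 ye1 ze45) (ke xe0 ye1 ze46) (ke xe0 ye8 ze59) (ke xe0 ye4 ze4) (ke xe0 ye1 ze48) (ke xe0 ye1 ze49) (ke xe0 ye4 ze7) (ke xe0 ye1 ze53) (ke xe0 ye4 ze9) (ke xe0 ye9 ze4) (ke xe0 ye9 ze6) (ke xe0 ye4 ze12) (ke xe0 ye9 ze7) (ke xe0 ye8 ze20) (ke xe0 ye9 ze11) (ke xe0 ye4 ze16) (ke xe0 ye2 ze2) (ke xe0 ye9 ze14) (ke xe0 ye9 ze15) (ke xe0 ye9 ze17) (ke xe0 ye1 ze60) (ke xe0 ye9 ze22) (ke xe0 ye1 ze61) (ke xe0 ye4 ze24) (ke xe0 ye2 ze1) (ke xe0 ye9 ze12) (ke xe0 ye9 ze30) (ke xe0 ye9 ze31) (ke xe0 ye2 ze3) (ke xe0 ye2 ze15) (ke xe0 ye9 ze38) (ke xe0 ye9 ze40) (ke xe0 ye2 ze5) (ke xe0 ye9 ze42) (ke xe0 ye9 ze47) (ke xe0 ye9 ze48) (ke xe0 ye2 ze6) (ke xe0 ye4 ze50) (ke xe0 ye4 ze39) (ke xe0 ye4 ze44) (ke xe0 ye9 ze60) (ke xe0 ye9 ze61) (ke xe0 ye2 ze8) (ke xe0 ye4 ze40) (ke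 xe0 ye4 ze45) (ke xe0 ye10 ze6) (ke xe0 ye10 ze11) (ke xe0 ye10 ze12) (ke xe0 ye2 ze11) (ke xe0 ye4 ze38) (ke xe0 ye4 ze51) (ke xe0 ye10 ze19) (ke xe0 ye10 ze25) (ke xe0 ye10 ze26) (ke xe0 ye2 ze14) (ke xe0 ye4 ze56) (ke xe0 ye10 ze36) (ke xe0 ye9 ze34) (ke xe0 ye10 ze41) (ke xe0 ye10 ze43) (ke xe0 ye10 ze45)) (@D3.rec (fun _ => Pt) (ke xe0 ye10 ze47) (ke xe0 ye10 ze49) (ke xe0 ye2 ze16) (ke xe0 ye10 ze53) (ke xe0 ye2 ze17) (ke xe0 ye10 ze57) (ke xe0 ye2 ze19) (ke xe0 ye10 ze61) (ke xe0 ye2 ze20) (ke xe0 ye11 ze2) (ke xe0 ye11 ze6) (ke xe0 ye2 ze22) (ke xe0 ye11 ze9) (ke xe0 ye2 ze23) (ke xe0 ye11 ze14) (ke xe0 ye11 ze15) (ke xe0 ye11 ze17) (ke xe0 ye11 ze22) (ke xe0 ye2 ze25) (ke xe0 ye11 ze26) (ke xe0 ye11 ze28) (ke xe0 ye2 ze26) (ke xe0 ye11 ze34) (ke xe0 ye2 ze27)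 (ke xe0 ye11 ze42) (ke xe0 ye2 ze28) (ke xe0 ye11 ze50) (ke xe0 ye11 ze53) (ke xe0 ye5 ze28) (ke xe0 ye11 ze55) (ke xe0 ye11 ze56) (ke xe0 ye11 ze59) (ke xe0 ye2 ze31) (ke xe0 ye12 ze3) (ke xe0 ye2 ze32) (ke xe0 ye12 ze10) (ke xe0 ye12 ze14) (ke xe0 ye5 ze37) (ke xe0 ye12 ze16) (ke xe0 ye12 ze18) (ke xe0 ye12 ze23) (ke xe0 ye2 ze34) (ke xe0 ye3 ze51) (ke xe0 ye10 ze58) (ke xe0 ye12 ze26) (ke xe0 ye5 ze45) (ke xe0 ye12 ze37) (ke xe0 ye2 ze36) (ke xe0 ye12 ze45) (ke xe0 ye12 ze48) (ke xe0 ye2 ze40) (ke xe0 ye5 ze51) (ke xe0 ye3 ze21) (ke xe0 ye12 ze55) (ke xe0 ye12 ze57) (ke xe0 ye6 ze60) (ke xe0 ye12 ze61) (ke xe0 ye12 ze51) (ke xe0 ye13 ze5) (ke xe0 ye13 ze6) (ke xe0 ye13 ze7) (ke xe0 ye2 ze42)) (@D3.rec (fun _ => Pt) (ke xe0 ye2 ze43) (ke xe0 ye6 ze1) (ke xe0 ye13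 ze13) (ke xe0 ye6 ze3) (ke xe0 ye6 ze4) (ke xe0 ye2 ze54) (ke xe0 ye13 ze22) (ke xe0 ye13 ze27) (ke xe0 ye2 ze49) (ke xe0 ye3 ze46) (ke xe0 ye13 ze32) (ke xe0 ye13 ze35) (ke xe0 ye2 ze51) (ke xe0 ye6 ze13) (ke xe0 ye13 ze41) (ke xe0 ye2 ze53) (ke xe0 ye6 ze16) (ke xe0 ye13 ze45) (ke xe0 ye13 ze17) (ke xe0 ye13 ze54) (ke xe0 ye13 ze56) (ke xe0 ye2 ze55) (ke xe0 ye13 ze59) (ke xe0 ye2 ze56) (ke xe0 ye14 ze2) (ke xe0 ye14 ze4) (ke xe0 ye6 ze26) (ke xe0 ye14 ze5) (ke xe0 ye2 ze58) (ke xe0 ye14 ze7) (ke xe0 ye2 ze59) (ke xe0 ye14 ze11) (ke xe0 ye2 ze60) (ke xe0 ye14 ze15) (ke xe0 ye14 ze17) (ke xe0 ye6 ze35) (ke xe0 ye14 ze18) (ke xe0 ye3 ze0) (ke xe0 ye3 ze1) (ke xe0 ye14 ze30) (ke xe0 ye3 ze2) (ke xe0 ye14 ze35) (ke xe0 ye14 ze38) (ke xe0 ye3 ze4) (ke xe0 ye6 ze44) (ke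 xe0 ye14 ze21) (ke xe0 ye14 ze45) (ke xe0 ye14 ze41) (ke xe0 ye14 ze49) (ke xe0 ye14 ze53) (ke xe0 ye3 ze6) (ke xe0 ye14 ze16) (ke xe0 ye15 ze1) (ke xe0 ye3 ze24) (ke xe0 ye6 ze54) (ke xe0 ye3 ze8) (ke xe0 ye15 ze10) (ke xe0 ye3 ze9) (ke xe0 ye14 ze3) (ke xe0 ye15 ze20) (ke xe0 ye5 ze55) (ke xe0 ye6 ze61)) (@D3.rec (fun _ => Pt) (ke xe0 ye15 ze28) (ke xe0 ye3 ze11) (ke xe0 ye15 ze34) (ke xe0 ye3 ze12) (ke xe0 ye15 ze39) (ke xe0 ye15 ze41) (ke xe0 ye15 ze43) (ke xe0 ye15 ze47) (ke xe0 ye3 ze13) (ke xe0 ye3 ze14) (ke xe0 ye15 ze58) (ke xe0 ye15 ze61) (ke xe0 ye15 ze54) (ke xe0 ye7 ze13) (ke xe0 ye16 ze6) (ke xe0 ye16 ze10) (ke xe0 ye3 ze16) (ke xe0 ye16 ze16) (ke xe0 ye16 ze19) (ke xe0 ye16 ze21) (ke xe0 ye3 ze17) (ke xe0 ye16 ze25) (ke xe0 ye16 ze29) (ke xe0 ye3 ze26)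 (ke xe0 ye16 ze35) (ke xe0 ye16 ze38) (ke xe0 ye16 ze43) (ke xe0 ye3 ze20) (ke xe0 ye7 ze28) (ke xe0 ye16 ze50) (ke xe0 ye16 ze51) (ke xe0 ye16 ze52) (ke xe0 ye3 ze23) (ke xe0 ye15 ze4) (ke xe0 ye16 ze60) (ke xe0 ye17 ze1) (ke xe0 ye3 ze25) (ke xe0 ye17 ze7) (ke xe0 ye17 ze10) (ke xe0 ye16 ze32) (ke xe0 ye17 ze18) (ke xe0 ye17 ze19) (ke xe0 ye3 ze27) (ke xe0 ye3 ze28) (ke xe0 ye17 ze22) (ke xe0 ye17 ze23) (ke xe0 ye17 ze24) (ke xe0 ye3 ze29) (ke xe0 ye7 ze48) (ke xe0 ye3 ze31) (ke xe0 ye7 ze50) (ke xe0 ye14 ze25) (ke xe0 ye17 ze27) (ke xe0 ye3 ze34) (ke xe0 ye11 ze37) (ke xe0 ye17 ze33) (ke xe0 ye3 ze37) (ke xe0 ye17 ze40) (ke xe0 ye17 ze44) (ke xe0 ye3 ze40) (ke xe0 ye7 ze60) (ke xe0 ye17 ze47)) (@D3.rec (fun _ => Pt) (ke xe0 ye17 ze52) (ke xe0 ye8 ze1) (ke xe0 ye17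 ze56) (ke xe0 ye17 ze58) (ke xe0 ye17 ze60) (ke xe0 ye3 ze60) (ke xe0 ye18 ze5) (ke xe0 ye18 ze7) (ke xe0 ye3 ze44) (ke xe0 ye8 ze9) (ke xe0 ye18 ze10) (ke xe0 ye8 ze11) (ke xe0 ye11 ze10) (ke xe0 ye18 ze16) (ke xe0 ye18 ze19) (ke xe0 ye18 ze21) (ke xe0 ye3 ze47) (ke xe0 ye18 ze27) (ke xe0 ye3 ze48) (ke xe0 ye18 ze30) (ke xe0 ye4 ze14) (ke xe0 ye18 ze37) (ke xe0 ye18 ze39) (ke xe0 ye3 ze49) (ke xe0 ye8 ze41) (ke xe0 ye8 ze25) (ke xe0 ye13 ze36) (ke xe0 ye18 ze48) (ke xe0 ye18 ze50) (ke xe0 ye3 ze52) (ke xe0 ye18 ze58) (ke xe0 ye18 ze59) (ke xe0 ye3 ze53) (ke xe0 ye13 ze29) (ke xe0 ye18 ze61) (ke xe0 ye8 ze35) (ke xe0 ye19 ze9) (ke xe0 ye19 ze14) (ke xe0 ye19 ze13) (ke xe0 ye3 ze56) (ke xe0 ye9 ze53) (ke xe0 ye8 ze24) (ke xe0 ye8 ze42) (ke xe0 ye19 ze23) (ke xe0 ye19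 ze28) (ke xe0 ye19 ze29) (ke xe0 ye19 ze30) (ke xe0 ye3 ze59) (ke xe0 ye8 ze48) (ke xe0 ye19 ze41) (ke xe0 ye18 ze1) (ke xe0 ye19 ze46) (ke xe0 ye19 ze48) (ke xe0 ye19 ze50) (ke xe0 ye19 ze52) (ke xe0 ye19 ze54) (ke xe0 ye3 ze61) (ke xe0 ye19 ze58) (ke xe0 ye4 ze0) (ke xe0 ye4 ze3) (ke xe0 ye8 ze60) (ke xe0 ye13 ze24)) (@D3.rec (fun _ => Pt) (ke xe0 ye20 ze2) (ke xe0 ye20 ze3) (ke xe0 ye20 ze4) (ke xe0 ye20 ze6) (ke xe0 ye4 ze10) (ke xe0 ye19 ze59) (ke xe0 ye4 ze11) (ke xe0 ye4 ze13) (ke xe0 ye18 ze31) (ke xe0 ye20 ze20) (ke xe0 ye20 ze22) (ke xe0 ye4 ze15) (ke xe0 ye4 ze26) (ke xe0 ye20 ze27) (ke xe0 ye4 ze18) (ke xe0 ye4 ze19) (ke xe0 ye20 ze34) (ke xe0 ye4 ze20) (ke xe0 ye9 ze24) (ke xe0 ye9 ze19) (ke xe0 ye9 ze23) (ke xe0 ye20 ze40) (ke xe0 ye4 ze22) (ke xe0 ye9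 ze20) (ke xe0 ye9 ze18) (ke xe0 ye9 ze25) (ke xe0 ye20 ze51) (ke xe0 ye20 ze25) (ke xe0 ye20 ze56) (ke xe0 ye20 ze57) (ke xe0 ye4 ze27) (ke xe0 ye4 ze28) (ke xe0 ye21 ze4) (ke xe0 ye21 ze8) (ke xe0 ye4 ze58) (ke xe0 ye21 ze13) (ke xe0 ye21 ze15) (ke xe0 ye21 ze17) (ke xe0 ye4 ze31) (ke xe0 ye21 ze21) (ke xe0 ye4 ze32) (ke xe0 ye21 ze27) (ke xe0 ye4 ze34) (ke xe0 ye21 ze32) (ke xe0 ye10 ze3) (ke xe0 ye21 ze37) (ke xe0 ye21 ze41) (ke xe0 ye4 ze35) (ke xe0 ye4 ze36) (ke xe0 ye10 ze13) (ke xe0 ye9 ze50) (ke xe0 ye21 ze48) (ke xe0 ye10 ze1) (ke xe0 ye8 ze40) (ke xe0 ye10 ze14) (ke xe0 ye9 ze55) (ke xe0 ye10 ze7) (ke xe0 ye22 ze3) (ke xe0 ye22 ze5) (ke xe0 ye22 ze9) (ke xe0 ye4 ze41) (ke xe0 ye4 ze42)) (@D3.rec (fun _ => Pt) (ke xe0 ye22 ze15) (ke xe0 ye9 ze52) (ke xe0 ye22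 ze21) (ke xe0 ye9 ze44) (ke xe0 ye10 ze4) (ke xe0 ye22 ze26) (ke xe0 ye4 ze46) (ke xe0 ye9 ze56) (ke xe0 ye22 ze10) (ke xe0 ye22 ze34) (ke xe0 ye22 ze36) (ke xe0 ye4 ze47) (ke xe0 ye4 ze48) (ke xe0 ye9 ze49) (ke xe0 ye9 ze54) (ke xe0 ye22 ze44) (ke xe0 ye20 ze32) (ke xe0 ye10 ze17) (ke xe0 ye22 ze52) (ke xe0 ye4 ze52) (ke xe0 ye20 ze37) (ke xe0 ye22 ze61) (ke xe0 ye23 ze2) (ke xe0 ye23 ze6) (ke xe0 ye23 ze10) (ke xe0 ye4 ze53) (ke xe0 ye4 ze54) (ke xe0 ye23 ze14) (ke xe0 ye10 ze28) (ke xe0 ye10 ze29) (ke xe0 ye10 ze30) (ke xe0 ye23 ze28) (ke xe0 ye23 ze29) (ke xe0 ye23 ze32) (ke xe0 ye23 ze35) (ke xe0 ye23 ze37) (ke xe0 ye4 ze57) (ke xe0 ye23 ze42) (ke xe0 ye23 ze45) (ke xe0 ye23 ze48) (ke xe0 ye23 ze53) (ke xe0 ye4 ze59) (ke xe0 ye23 ze58) (ke xe0 ye4 ze60) (ke xe0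 ye24 ze2) (ke xe0 ye4 ze61) (ke xe0 ye24 ze8) (ke xe0 ye5 ze0) (ke xe0 ye24 ze15) (ke xe0 ye5 ze1) (ke xe0 ye24 ze23) (ke xe0 ye24 ze26) (ke xe0 ye24 ze27) (ke xe0 ye5 ze3) (ke xe0 ye20 ze36) (ke xe0 ye24 ze28) (ke xe0 ye24 ze33) (ke xe0 ye5 ze5) (ke xe0 ye5 ze43) (ke xe0 ye24 ze35) (ke xe0 ye24 ze43) (ke xe0 ye5 ze7)) (@D3.rec (fun _ => Pt) (ke xe0 ye24 ze47) (ke xe0 ye24 ze50) (ke xe0 ye5 ze9) (ke xe0 ye11 ze3) (ke xe0 ye24 ze53) (ke xe0 ye24 ze57) (ke xe0 ye5 ze10) (ke xe0 ye24 ze59) (ke xe0 ye25 ze1) (ke xe0 ye5 ze12) (ke xe0 ye8 ze12) (ke xe0 ye25 ze3) (ke xe0 ye11 ze12) (ke xe0 ye25 ze11) (ke xe0 ye5 ze14) (ke xe0 ye5 ze15) (ke xe0 ye25 ze19) (ke xe0 ye5 ze16) (ke xe0 ye25 ze24) (ke xe0 ye25 ze26) (ke xe0 ye25 ze27) (ke xe0 ye25 ze28) (ke xe0 ye5 ze17) (ke xe0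 ye25 ze35) (ke xe0 ye25 ze38) (ke xe0 ye11 ze25) (ke xe0 ye5 ze19) (ke xe0 ye25 ze46) (ke xe0 ye5 ze20) (ke xe0 ye25 ze51) (ke xe0 ye25 ze53) (ke xe0 ye13 ze20) (ke xe0 ye11 ze32) (ke xe0 ye25 ze61) (ke xe0 ye5 ze22) (ke xe0 ye26 ze5) (ke xe0 ye26 ze7) (ke xe0 ye7 ze54) (ke xe0 ye11 ze38) (ke xe0 ye26 ze13) (ke xe0 ye26 ze16) (ke xe0 ye26 ze17) (ke xe0 ye5 ze24) (ke xe0 ye26 ze24) (ke xe0 ye26 ze27) (ke xe0 ye12 ze6) (ke xe0 ye11 ze46) (ke xe0 ye26 ze34) (ke xe0 ye26 ze37) (ke xe0 ye26 ze40) (ke xe0 ye5 ze26) (ke xe0 ye26 ze46) (ke xe0 ye14 ze23) (ke xe0 ye5 ze27) (ke xe0 ye26 ze52) (ke xe0 ye5 ze29) (ke xe0 ye5 ze30) (ke xe0 ye26 ze60) (ke xe0 ye26 ze61) (ke xe0 ye5 ze31) (ke xe0 ye27 ze4) (ke xe0 ye11 ze61)) (@D3.rec (fun _ => Pt) (ke xe0 ye27 ze5) (ke xe0 ye27 ze7)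 (ke xe0 ye27 ze8) (ke xe0 ye5 ze33) (ke xe0 ye27 ze15) (ke xe0 ye27 ze18) (ke xe0 ye11 ze45) (ke xe0 ye12 ze7) (ke xe0 ye27 ze25) (ke xe0 ye27 ze28) (ke xe0 ye5 ze35) (ke xe0 ye27 ze34) (ke xe0 ye27 ze37) (ke xe0 ye14 ze19) (ke xe0 ye5 ze36) (ke xe0 ye27 ze42) (ke xe0 ye5 ze38) (ke xe0 ye27 ze47) (ke xe0 ye5 ze39) (ke xe0 ye27 ze52) (ke xe0 ye27 ze55) (ke xe0 ye27 ze59) (ke xe0 ye27 ze60) (ke xe0 ye5 ze40) (ke xe0 ye28 ze5) (ke xe0 ye28 ze8) (ke xe0 ye5 ze44) (ke xe0 ye12 ze27) (ke xe0 ye28 ze14) (ke xe0 ye28 ze16) (ke xe0 ye27 ze44) (ke xe0 ye28 ze20) (ke xe0 ye28 ze11) (ke xe0 ye28 ze26) (ke xe0 ye28 ze28) (ke xe0 ye28 ze29) (ke xe0 ye28 ze30) (ke xe0 ye5 ze46) (ke xe0 ye28 ze37) (ke xe0 ye28 ze40) (ke xe0 ye17 ze36) (ke xe0 ye12 ze41) (ke xe0 ye28 ze46) (ke xe0 ye28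 ze48) (ke xe0 ye28 ze52) (ke xe0 ye5 ze48) (ke xe0 ye28 ze57) (ke xe0 ye17 ze45) (ke xe0 ye5 ze49) (ke xe0 ye29 ze1) (ke xe0 ye29 ze3) (ke xe0 ye5 ze57) (ke xe0 ye29 ze9) (ke xe0 ye29 ze11) (ke xe0 ye29 ze14) (ke xe0 ye5 ze53) (ke xe0 ye29 ze20) (ke xe0 ye5 ze54) (ke xe0 ye15 ze8) (ke xe0 ye15 ze23) (ke xe0 ye29 ze29) (ke xe0 ye5 ze56)) (@D3.rec (fun _ => Pt) (ke xe0 ye29 ze35) (ke xe0 ye29 ze38) (ke xe0 ye29 ze6) (ke xe0 ye29 ze46) (ke xe0 ye29 ze47) (ke xe0 ye5 ze58) (ke xe0 ye5 ze59) (ke xe0 ye5 ze60) (ke xe0 ye13 ze8) (ke xe0 ye26 ze54) (ke xe0 ye13 ze10) (ke xe0 ye16 ze28) (ke xe0 ye29 ze54) (ke xe0 ye6 ze2) (ke xe0 ye13 ze14) (ke xe0 ye13 ze15) (ke xe0 ye29 ze55) (ke xe0 ye6 ze18) (ke xe0 ye30 ze2) (ke xe0 ye30 ze3) (ke xe0 ye11 ze31) (ke xe0 ye30 ze5) (ke xe0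 ye6 ze6) (ke xe0 ye18 ze60) (ke xe0 ye8 ze61) (ke xe0 ye30 ze14) (ke xe0 ye30 ze15) (ke xe0 ye6 ze7) (ke xe0 ye13 ze28) (ke xe0 ye8 ze33) (ke xe0 ye30 ze24) (ke xe0 ye30 ze26) (ke xe0 ye6 ze10) (ke xe0 ye30 ze34) (ke xe0 ye30 ze35) (ke xe0 ye6 ze11) (ke xe0 ye8 ze26) (ke xe0 ye13 ze37) (ke xe0 ye30 ze42) (ke xe0 ye30 ze47) (ke xe0 ye30 ze48) (ke xe0 ye6 ze14) (ke xe0 ye13 ze42) (ke xe0 ye30 ze54) (ke xe0 ye30 ze55) (ke xe0 ye6 ze17) (ke xe0 ye13 ze46) (ke xe0 ye31 ze4) (ke xe0 ye29 ze61) (ke xe0 ye31 ze9) (ke xe0 ye31 ze11) (ke xe0 ye31 ze13) (ke xe0 ye31 ze15) (ke xe0 ye31 ze17) (ke xe0 ye6 ze19) (ke xe0 ye31 ze21) (ke xe0 ye6 ze20) (ke xe0 ye31 ze25) (ke xe0 ye31 ze26) (ke xe0 ye6 ze22) (ke xe0 ye14 ze12) (ke xe0 ye13 ze61)) (@D3.rec (fun _ => Pt) (ke xe0 ye31 ze37)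 (ke xe0 ye28 ze53) (ke xe0 ye6 ze24) (ke xe0 ye6 ze58) (ke xe0 ye6 ze25) (ke xe0 ye6 ze27) (ke xe0 ye31 ze43) (ke xe0 ye6 ze29) (ke xe0 ye31 ze48) (ke xe0 ye31 ze50) (ke xe0 ye14 ze10) (ke xe0 ye6 ze31) (ke xe0 ye13 ze60) (ke xe0 ye14 ze13) (ke xe0 ye16 ze11) (ke xe0 ye6 ze33) (ke xe0 ye6 ze51) (ke xe0 ye6 ze34) (ke xe0 ye6 ze36) (ke xe0 ye12 ze13) (ke xe0 ye32 ze6) (ke xe0 ye6 ze45) (ke xe0 ye14 ze22) (ke xe0 ye11 ze52) (ke xe0 ye32 ze11) (ke xe0 ye7 ze51) (ke xe0 ye14 ze26) (ke xe0 ye32 ze16) (ke xe0 ye32 ze18) (ke xe0 ye32 ze19) (ke xe0 ye6 ze39) (ke xe0 ye25 ze47) (ke xe0 ye14 ze32) (ke xe0 ye32 ze29) (ke xe0 ye32 ze32) (ke xe0 ye6 ze41) (ke xe0 ye32 ze36) (ke xe0 ye25 ze54) (ke xe0 ye6 ze42) (ke xe0 ye32 ze39) (ke xe0 ye32 ze41) (ke xe0 ye6 ze47) (ke xe0 ye32 ze45)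 (ke xe0 ye32 ze2) (ke xe0 ye32 ze47) (ke xe0 ye6 ze46) (ke xe0 ye32 ze42) (ke xe0 ye32 ze56) (ke xe0 ye32 ze58) (ke xe0 ye6 ze48) (ke xe0 ye33 ze0) (ke xe0 ye33 ze2) (ke xe0 ye33 ze3) (ke xe0 ye6 ze49) (ke xe0 ye26 ze47) (ke xe0 ye33 ze12) (ke xe0 ye15 ze13) (ke xe0 ye14 ze57) (ke xe0 ye27 ze3) (ke xe0 ye31 ze60) (ke xe0 ye16 ze7) (ke xe0 ye33 ze26)) (@D3.rec (fun _ => Pt) (ke xe0 ye16 ze54) (ke xe0 ye6 ze52) (ke xe0 ye33 ze31) (ke xe0 ye33 ze33) (ke xe0 ye7 ze33) (ke xe0 ye29 ze32) (ke xe0 ye31 ze49) (ke xe0 ye33 ze42) (ke xe0 ye12 ze58) (ke xe0 ye15 ze9) (ke xe0 ye6 ze56) (ke xe0 ye27 ze38) (ke xe0 ye33 ze55) (ke xe0 ye14 ze56) (ke xe0 ye15 ze14) (ke xe0 ye31 ze41) (ke xe0 ye28 ze49) (ke xe0 ye34 ze5) (ke xe0 ye34 ze8) (ke xe0 ye29 ze21) (ke xe0 ye6 ze59) (ke xe0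 ye34 ze12) (ke xe0 ye34 ze15) (ke xe0 ye12 ze59) (ke xe0 ye17 ze4) (ke xe0 ye34 ze22) (ke xe0 ye34 ze25) (ke xe0 ye34 ze26) (ke xe0 ye7 ze0) (ke xe0 ye15 ze35) (ke xe0 ye15 ze30) (ke xe0 ye34 ze36) (ke xe0 ye34 ze38) (ke xe0 ye34 ze41) (ke xe0 ye7 ze2) (ke xe0 ye15 ze29) (ke xe0 ye15 ze36) (ke xe0 ye34 ze50) (ke xe0 ye34 ze51) (ke xe0 ye7 ze4) (ke xe0 ye34 ze55) (ke xe0 ye7 ze5) (ke xe0 ye34 ze59) (ke xe0 ye7 ze6) (ke xe0 ye35 ze2) (ke xe0 ye35 ze3) (ke xe0 ye35 ze5) (ke xe0 ye7 ze7) (ke xe0 ye35 ze13) (ke xe0 ye35 ze17) (ke xe0 ye35 ze8) (ke xe0 ye15 ze51) (ke xe0 ye35 ze24) (ke xe0 ye35 ze27) (ke xe0 ye7 ze12) (ke xe0 ye15 ze55) (ke xe0 ye35 ze35) (ke xe0 ye35 ze39) (ke xe0 ye7 ze10) (ke xe0 ye35 ze46) (ke xe0 ye35 ze48) (ke xe0 ye7 ze11)) (@D3.rec (fun _ => Pt) (ke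 xe0 ye35 ze54) (ke xe0 ye35 ze57) (ke xe0 ye35 ze30) (ke xe0 ye36 ze1) (ke xe0 ye36 ze5) (ke xe0 ye36 ze9) (ke xe0 ye7 ze14) (ke xe0 ye14 ze60) (ke xe0 ye29 ze22) (ke xe0 ye36 ze20) (ke xe0 ye7 ze15) (ke xe0 ye14 ze14) (ke xe0 ye36 ze23) (ke xe0 ye28 ze59) (ke xe0 ye16 ze14) (ke xe0 ye36 ze29) (ke xe0 ye7 ze17) (ke xe0 ye36 ze33) (ke xe0 ye36 ze35) (ke xe0 ye7 ze18) (ke xe0 ye36 ze40) (ke xe0 ye7 ze19) (ke xe0 ye28 ze54) (ke xe0 ye36 ze43) (ke xe0 ye31 ze39) (ke xe0 ye7 ze21) (ke xe0 ye36 ze51) (ke xe0 ye36 ze54) (ke xe0 ye13 ze11) (ke xe0 ye7 ze22) (ke xe0 ye36 ze61) (ke xe0 ye37 ze2) (ke xe0 ye7 ze39) (ke xe0 ye37 ze11) (ke xe0 ye37 ze13) (ke xe0 ye7 ze24) (ke xe0 ye37 ze15) (ke xe0 ye37 ze17) (ke xe0 ye7 ze25) (ke xe0 ye37 ze22) (ke xe0 ye25 ze56) (ke xe0 ye37 ze29)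 (ke xe0 ye37 ze30) (ke xe0 ye7 ze26) (ke xe0 ye36 ze21) (ke xe0 ye37 ze40) (ke xe0 ye29 ze23) (ke xe0 ye37 ze42) (ke xe0 ye31 ze45) (ke xe0 ye37 ze45) (ke xe0 ye7 ze29) (ke xe0 ye7 ze30) (ke xe0 ye7 ze31) (ke xe0 ye37 ze50) (ke xe0 ye15 ze0) (ke xe0 ye28 ze50) (ke xe0 ye29 ze17) (ke xe0 ye33 ze36) (ke xe0 ye37 ze60) (ke xe0 ye38 ze1) (ke xe0 ye7 ze34) (ke xe0 ye38 ze9)) (@D3.rec (fun _ => Pt) (ke xe0 ye38 ze10) (ke xe0 ye7 ze35) (ke xe0 ye37 ze39) (ke xe0 ye36 ze45) (ke xe0 ye15 ze24) (ke xe0 ye38 ze23) (ke xe0 ye38 ze24) (ke xe0 ye7 ze37) (ke xe0 ye38 ze32) (ke xe0 ye38 ze33) (ke xe0 ye7 ze38) (ke xe0 ye38 ze41) (ke xe0 ye38 ze46) (ke xe0 ye37 ze5) (ke xe0 ye38 ze51) (ke xe0 ye38 ze52) (ke xe0 ye38 ze54) (ke xe0 ye38 ze56) (ke xe0 ye7 ze40) (ke xe0 ye7 ze41) (ke xe0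 ye29 ze53) (ke xe0 ye37 ze61) (ke xe0 ye7 ze44) (ke xe0 ye7 ze45) (ke xe0 ye7 ze46) (ke xe0 ye17 ze25) (ke xe0 ye17 ze26) (ke xe0 ye7 ze52) (ke xe0 ye17 ze28) (ke xe0 ye26 ze10) (ke xe0 ye39 ze6) (ke xe0 ye39 ze7) (ke xe0 ye39 ze8) (ke xe0 ye7 ze55) (ke xe0 ye39 ze15) (ke xe0 ye39 ze18) (ke xe0 ye12 ze40) (ke xe0 ye17 ze37) (ke xe0 ye39 ze25) (ke xe0 ye39 ze27) (ke xe0 ye7 ze57) (ke xe0 ye39 ze29) (ke xe0 ye39 ze32) (ke xe0 ye29 ze48) (ke xe0 ye7 ze58) (ke xe0 ye12 ze47) (ke xe0 ye39 ze37) (ke xe0 ye7 ze61) (ke xe0 ye39 ze43) (ke xe0 ye39 ze40) (ke xe0 ye39 ze49) (ke xe0 ye39 ze50) (ke xe0 ye8 ze0) (ke xe0 ye17 ze53) (ke xe0 ye17 ze54) (ke xe0 ye39 ze54) (ke xe0 ye8 ze2) (ke xe0 ye39 ze61) (ke xe0 ye8 ze3) (ke xe0 ye40 ze5) (ke xe0 ye8 ze4) (ke xe0 ye40 ze11)) (@D3.rec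 (fun _ => Pt) (ke xe0 ye40 ze15) (ke xe0 ye8 ze50) (ke xe0 ye40 ze20) (ke xe0 ye40 ze22) (ke xe0 ye40 ze24) (ke xe0 ye8 ze6) (ke xe0 ye40 ze28) (ke xe0 ye8 ze7) (ke xe0 ye40 ze31) (ke xe0 ye40 ze33) (ke xe0 ye8 ze10) (ke xe0 ye40 ze38) (ke xe0 ye40 ze40) (ke xe0 ye40 ze42) (ke xe0 ye25 ze22) (ke xe0 ye40 ze47) (ke xe0 ye8 ze13) (ke xe0 ye40 ze51) (ke xe0 ye40 ze53) (ke xe0 ye8 ze14) (ke xe0 ye40 ze60) (ke xe0 ye8 ze15) (ke xe0 ye41 ze4) (ke xe0 ye41 ze7) (ke xe0 ye30 ze29) (ke xe0 ye41 ze12) (ke xe0 ye41 ze13) (ke xe0 ye8 ze17) (ke xe0 ye41 ze19) (ke xe0 ye41 ze20) (ke xe0 ye8 ze19) (ke xe0 ye9 ze8) (ke xe0 ye41 ze26) (ke xe0 ye41 ze30) (ke xe0 ye19 ze4) (ke xe0 ye41 ze35) (ke xe0 ye41 ze39) (ke xe0 ye8 ze21) (ke xe0 ye41 ze45) (ke xe0 ye8 ze22) (ke xe0 ye19 ze16) (ke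 xe0 ye18 ze41) (ke xe0 ye41 ze48) (ke xe0 ye30 ze37) (ke xe0 ye19 ze18) (ke xe0 ye18 ze45) (ke xe0 ye25 ze41) (ke xe0 ye42 ze3) (ke xe0 ye8 ze27) (ke xe0 ye42 ze9) (ke xe0 ye8 ze28) (ke xe0 ye32 ze5) (ke xe0 ye42 ze17) (ke xe0 ye30 ze8) (ke xe0 ye19 ze10) (ke xe0 ye42 ze24) (ke xe0 ye42 ze26) (ke xe0 ye42 ze30) (ke xe0 ye8 ze30) (ke xe0 ye8 ze31) (ke xe0 ye13 ze23) (ke xe0 ye8 ze34)) (@D3.rec (fun _ => Pt) (ke xe0 ye42 ze37) (ke xe0 ye30 ze19) (ke xe0 ye42 ze41) (ke xe0 ye42 ze50) (ke xe0 ye18 ze34) (ke xe0 ye19 ze5) (ke xe0 ye42 ze57) (ke xe0 ye42 ze59) (ke xe0 ye42 ze61) (ke xe0 ye8 ze36) (ke xe0 ye18 ze54) (ke xe0 ye42 ze32) (ke xe0 ye30 ze49) (ke xe0 ye8 ze38) (ke xe0 ye8 ze37) (ke xe0 ye30 ze16) (ke xe0 ye18 ze40) (ke xe0 ye21 ze55) (ke xe0 ye18 ze44) (ke xe0 ye43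 ze18) (ke xe0 ye39 ze59) (ke xe0 ye19 ze21) (ke xe0 ye43 ze25) (ke xe0 ye8 ze43) (ke xe0 ye40 ze2) (ke xe0 ye43 ze33) (ke xe0 ye43 ze35) (ke xe0 ye31 ze3) (ke xe0 ye8 ze44) (ke xe0 ye8 ze45) (ke xe0 ye8 ze46) (ke xe0 ye31 ze1) (ke xe0 ye43 ze46) (ke xe0 ye19 ze33) (ke xe0 ye19 ze34) (ke xe0 ye19 ze35) (ke xe0 ye43 ze57) (ke xe0 ye43 ze58) (ke xe0 ye44 ze0) (ke xe0 ye44 ze2) (ke xe0 ye44 ze4) (ke xe0 ye8 ze49) (ke xe0 ye44 ze10) (ke xe0 ye44 ze13) (ke xe0 ye44 ze16) (ke xe0 ye44 ze21) (ke xe0 ye8 ze51) (ke xe0 ye44 ze26) (ke xe0 ye8 ze52) (ke xe0 ye44 ze32) (ke xe0 ye8 ze53) (ke xe0 ye44 ze39) (ke xe0 ye8 ze54) (ke xe0 ye44 ze47) (ke xe0 ye8 ze55) (ke xe0 ye44 ze55) (ke xe0 ye44 ze59) (ke xe0 ye44 ze60) (ke xe0 ye8 ze57) (ke xe0 ye9 ze5) (ke xe0 ye41 ze57) (ke xe0 ye45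 ze1)) (@D3.rec (fun _ => Pt) (ke xe0 ye30 ze9) (ke xe0 ye45 ze12) (ke xe0 ye9 ze0) (ke xe0 ye9 ze1) (ke xe0 ye9 ze2) (ke xe0 ye45 ze16) (ke xe0 ye9 ze3) (ke xe0 ye20 ze13) (ke xe0 ye20 ze8) (ke xe0 ye37 ze46) (ke xe0 ye45 ze2) (ke xe0 ye20 ze30) (ke xe0 ye20 ze28) (ke xe0 ye20 ze7) (ke xe0 ye20 ze14) (ke xe0 ye45 ze25) (ke xe0 ye41 ze24) (ke xe0 ye45 ze30) (ke xe0 ye45 ze32) (ke xe0 ye45 ze34) (ke xe0 ye9 ze9) (ke xe0 ye45 ze38) (ke xe0 ye9 ze10) (ke xe0 ye45 ze41) (ke xe0 ye45 ze44) (ke xe0 ye9 ze27) (ke xe0 ye45 ze49) (ke xe0 ye9 ze13) (ke xe0 ye20 ze12) (ke xe0 ye20 ze29) (ke xe0 ye20 ze11) (ke xe0 ye45 ze54) (ke xe0 ye10 ze16) (ke xe0 ye45 ze56) (ke xe0 ye9 ze16) (ke xe0 ye22 ze13) (ke xe0 ye10 ze54) (ke xe0 ye10 ze20) (ke xe0 ye46 ze3) (ke xe0 ye46 ze4) (ke xe0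 ye9 ze21) (ke xe0 ye24 ze10) (ke xe0 ye46 ze6) (ke xe0 ye20 ze43) (ke xe0 ye20 ze44) (ke xe0 ye20 ze45) (ke xe0 ye46 ze15) (ke xe0 ye46 ze16) (ke xe0 ye46 ze21) (ke xe0 ye46 ze23) (ke xe0 ye46 ze25) (ke xe0 ye9 ze26) (ke xe0 ye46 ze28) (ke xe0 ye46 ze31) (ke xe0 ye46 ze34) (ke xe0 ye46 ze38) (ke xe0 ye9 ze28) (ke xe0 ye9 ze29) (ke xe0 ye46 ze47) (ke xe0 ye46 ze49) (ke xe0 ye24 ze19) (ke xe0 ye24 ze18)) (@D3.rec (fun _ => Pt) (ke xe0 ye46 ze52) (ke xe0 ye46 ze55) (ke xe0 ye46 ze59) (ke xe0 ye47 ze3) (ke xe0 ye9 ze32) (ke xe0 ye23 ze59) (ke xe0 ye47 ze9) (ke xe0 ye47 ze12) (ke xe0 ye9 ze33) (ke xe0 ye47 ze15) (ke xe0 ye47 ze18) (ke xe0 ye47 ze21) (ke xe0 ye47 ze26) (ke xe0 ye9 ze35) (ke xe0 ye47 ze31) (ke xe0 ye9 ze36) (ke xe0 ye47 ze35) (ke xe0 ye9 ze37) (ke xe0 ye47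 ze42) (ke xe0 ye47 ze46) (ke xe0 ye47 ze47) (ke xe0 ye9 ze39) (ke xe0 ye24 ze17) (ke xe0 ye46 ze42) (ke xe0 ye47 ze51) (ke xe0 ye47 ze53) (ke xe0 ye42 ze39) (ke xe0 ye9 ze41) (ke xe0 ye24 ze25) (ke xe0 ye47 ze59) (ke xe0 ye48 ze0) (ke xe0 ye48 ze2) (ke xe0 ye9 ze43) (ke xe0 ye22 ze22) (ke xe0 ye22 ze23) (ke xe0 ye48 ze10) (ke xe0 ye48 ze12) (ke xe0 ye9 ze45) (ke xe0 ye48 ze19) (ke xe0 ye48 ze22) (ke xe0 ye48 ze26) (ke xe0 ye9 ze46) (ke xe0 ye22 ze37) (ke xe0 ye21 ze43) (ke xe0 ye48 ze29) (ke xe0 ye22 ze12) (ke xe0 ye21 ze53) (ke xe0 ye48 ze43) (ke xe0 ye9 ze51) (ke xe0 ye22 ze16) (ke xe0 ye22 ze41) (ke xe0 ye21 ze51) (ke xe0 ye22 ze55) (ke xe0 ye21 ze46) (ke xe0 ye48 ze52) (ke xe0 ye19 ze17) (ke xe0 ye22 ze39) (ke xe0 ye21 ze57) (ke xe0 ye22 ze28) (ke xe0 ye22 ze29)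 (ke xe0 ye22 ze30) (ke xe0 ye49 ze2)) (@D3.rec (fun _ => Pt) (ke xe0 ye49 ze6) (ke xe0 ye49 ze8) (ke xe0 ye49 ze10) (ke xe0 ye9 ze57) (ke xe0 ye49 ze13) (ke xe0 ye9 ze58) (ke xe0 ye49 ze17) (ke xe0 ye49 ze20) (ke xe0 ye49 ze24) (ke xe0 ye9 ze59) (ke xe0 ye10 ze8) (ke xe0 ye49 ze27) (ke xe0 ye21 ze45) (ke xe0 ye20 ze35) (ke xe0 ye49 ze36) (ke xe0 ye10 ze0) (ke xe0 ye21 ze49) (ke xe0 ye49 ze38) (ke xe0 ye49 ze41) (ke xe0 ye49 ze42) (ke xe0 ye49 ze45) (ke xe0 ye10 ze2) (ke xe0 ye21 ze33) (ke xe0 ye21 ze34) (ke xe0 ye49 ze50) (ke xe0 ye49 ze54) (ke xe0 ye10 ze5) (ke xe0 ye49 ze59) (ke xe0 ye21 ze58) (ke xe0 ye21 ze59) (ke xe0 ye21 ze60) (ke xe0 ye49 ze29) (ke xe0 ye49 ze30) (ke xe0 ye50 ze2) (ke xe0 ye10 ze9) (ke xe0 ye50 ze6) (ke xe0 ye10 ze10) (ke xe0 ye21 ze42) (ke xe0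 ye48 ze13) (ke xe0 ye21 ze56) (ke xe0 ye50 ze14) (ke xe0 ye21 ze50) (ke xe0 ye50 ze17) (ke xe0 ye50 ze19) (ke xe0 ye10 ze15) (ke xe0 ye45 ze55) (ke xe0 ye42 ze18) (ke xe0 ye50 ze25) (ke xe0 ye50 ze27) (ke xe0 ye50 ze29) (ke xe0 ye50 ze32) (ke xe0 ye50 ze36) (ke xe0 ye10 ze18) (ke xe0 ye50 ze42) (ke xe0 ye50 ze44) (ke xe0 ye21 ze52) (ke xe0 ye46 ze0) (ke xe0 ye50 ze49) (ke xe0 ye50 ze52) (ke xe0 ye50 ze54) (ke xe0 ye50 ze56) (ke xe0 ye10 ze21)) (@D3.rec (fun _ => Pt) (ke xe0 ye50 ze60) (ke xe0 ye51 ze0) (ke xe0 ye10 ze22) (ke xe0 ye45 ze18) (ke xe0 ye51 ze5) (ke xe0 ye51 ze9) (ke xe0 ye10 ze23) (ke xe0 ye51 ze14) (ke xe0 ye51 ze17) (ke xe0 ye51 ze21) (ke xe0 ye10 ze24) (ke xe0 ye45 ze57) (ke xe0 ye51 ze27) (ke xe0 ye51 ze29) (ke xe0 ye10 ze27) (ke xe0 ye23 ze15) (ke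 xe0 ye23 ze16) (ke xe0 ye46 ze56) (ke xe0 ye23 ze18) (ke xe0 ye23 ze19) (ke xe0 ye51 ze38) (ke xe0 ye51 ze39) (ke xe0 ye51 ze41) (ke xe0 ye47 ze0) (ke xe0 ye23 ze24) (ke xe0 ye51 ze48) (ke xe0 ye51 ze50) (ke xe0 ye51 ze55) (ke xe0 ye10 ze31) (ke xe0 ye10 ze32) (ke xe0 ye51 ze59) (ke xe0 ye51 ze61) (ke xe0 ye10 ze33) (ke xe0 ye52 ze1) (ke xe0 ye52 ze3) (ke xe0 ye10 ze34) (ke xe0 ye52 ze9) (ke xe0 ye10 ze35) (ke xe0 ye47 ze5) (ke xe0 ye52 ze13) (ke xe0 ye52 ze16) (ke xe0 ye52 ze21) (ke xe0 ye10 ze37) (ke xe0 ye52 ze27) (ke xe0 ye52 ze32) (ke xe0 ye10 ze38) (ke xe0 ye52 ze38) (ke xe0 ye52 ze41) (ke xe0 ye10 ze39) (ke xe0 ye52 ze48) (ke xe0 ye52 ze52) (ke xe0 ye52 ze56) (ke xe0 ye52 ze60) (ke xe0 ye10 ze40) (ke xe0 ye53 ze4) (ke xe0 ye53 ze8) (ke xe0 ye53 ze12) (ke xe0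 ye53 ze13) (ke xe0 ye10 ze42) (ke xe0 ye21 ze5) (ke xe0 ye48 ze55) (ke xe0 ye53 ze16)) (@D3.rec (fun _ => Pt) (ke xe0 ye53 ze24) (ke xe0 ye53 ze28) (ke xe0 ye10 ze44) (ke xe0 ye45 ze61) (ke xe0 ye53 ze35) (ke xe0 ye24 ze11) (ke xe0 ye53 ze37) (ke xe0 ye53 ze41) (ke xe0 ye10 ze46) (ke xe0 ye53 ze47) (ke xe0 ye20 ze41) (ke xe0 ye24 ze5) (ke xe0 ye53 ze52) (ke xe0 ye53 ze55) (ke xe0 ye53 ze56) (ke xe0 ye10 ze48) (ke xe0 ye54 ze0) (ke xe0 ye21 ze22) (ke xe0 ye20 ze61) (ke xe0 ye20 ze60) (ke xe0 ye54 ze8) (ke xe0 ye54 ze3) (ke xe0 ye46 ze50) (ke xe0 ye10 ze50) (ke xe0 ye54 ze13) (ke xe0 ye21 ze28) (ke xe0 ye10 ze51) (ke xe0 ye10 ze52) (ke xe0 ye10 ze55) (ke xe0 ye45 ze60) (ke xe0 ye54 ze18) (ke xe0 ye46 ze46) (ke xe0 ye54 ze20) (ke xe0 ye10 ze56) (ke xe0 ye54 ze27) (ke xe0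 ye10 ze59) (ke xe0 ye24 ze36) (ke xe0 ye54 ze32) (ke xe0 ye27 ze49) (ke xe0 ye54 ze29) (ke xe0 ye54 ze38) (ke xe0 ye54 ze39) (ke xe0 ye54 ze40) (ke xe0 ye10 ze60) (ke xe0 ye26 ze2) (ke xe0 ye24 ze45) (ke xe0 ye54 ze50) (ke xe0 ye11 ze0) (ke xe0 ye54 ze53) (ke xe0 ye26 ze8) (ke xe0 ye11 ze1) (ke xe0 ye54 ze55) (ke xe0 ye54 ze57) (ke xe0 ye11 ze4) (ke xe0 ye40 ze36) (ke xe0 ye54 ze58) (ke xe0 ye55 ze3) (ke xe0 ye11 ze5) (ke xe0 ye55 ze8) (ke xe0 ye11 ze7) (ke xe0 ye24 ze60) (ke xe0 ye55 ze5)) (@D3.rec (fun _ => Pt) (ke xe0 ye55 ze10) (ke xe0 ye11 ze8) (ke xe0 ye55 ze17) (ke xe0 ye11 ze11) (ke xe0 ye25 ze4) (ke xe0 ye55 ze22) (ke xe0 ye55 ze23) (ke xe0 ye55 ze19) (ke xe0 ye55 ze27) (ke xe0 ye55 ze28) (ke xe0 ye55 ze29) (ke xe0 ye11 ze13) (ke xe0 ye55 ze33) (ke xe0 ye55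 ze35) (ke xe0 ye25 ze14) (ke xe0 ye55 ze38) (ke xe0 ye55 ze41) (ke xe0 ye30 ze21) (ke xe0 ye25 ze18) (ke xe0 ye11 ze16) (ke xe0 ye55 ze52) (ke xe0 ye55 ze55) (ke xe0 ye18 ze14) (ke xe0 ye25 ze23) (ke xe0 ye11 ze18) (ke xe0 ye56 ze0) (ke xe0 ye11 ze19) (ke xe0 ye11 ze20) (ke xe0 ye11 ze21) (ke xe0 ye56 ze12) (ke xe0 ye56 ze15) (ke xe0 ye56 ze8) (ke xe0 ye25 ze32) (ke xe0 ye56 ze21) (ke xe0 ye56 ze24) (ke xe0 ye11 ze23) (ke xe0 ye56 ze30) (ke xe0 ye55 ze4) (ke xe0 ye11 ze24) (ke xe0 ye56 ze36) (ke xe0 ye56 ze38) (ke xe0 ye18 ze46) (ke xe0 ye25 ze42) (ke xe0 ye56 ze45) (ke xe0 ye56 ze46) (ke xe0 ye56 ze47) (ke xe0 ye11 ze27) (ke xe0 ye14 ze31) (ke xe0 ye25 ze48) (ke xe0 ye56 ze57) (ke xe0 ye56 ze61) (ke xe0 ye11 ze29) (ke xe0 ye32 ze59) (ke xe0 ye11 ze30) (ke xe0 ye14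 ze37) (ke xe0 ye57 ze5) (ke xe0 ye16 ze40) (ke xe0 ye40 ze56) (ke xe0 ye57 ze11) (ke xe0 ye57 ze12) (ke xe0 ye57 ze13) (ke xe0 ye11 ze33)) (@D3.rec (fun _ => Pt) (ke xe0 ye36 ze55) (ke xe0 ye57 ze22) (ke xe0 ye24 ze44) (ke xe0 ye26 ze3) (ke xe0 ye57 ze29) (ke xe0 ye11 ze35) (ke xe0 ye40 ze34) (ke xe0 ye11 ze36) (ke xe0 ye24 ze49) (ke xe0 ye57 ze32) (ke xe0 ye17 ze29) (ke xe0 ye57 ze36) (ke xe0 ye57 ze38) (ke xe0 ye11 ze39) (ke xe0 ye57 ze42) (ke xe0 ye57 ze43) (ke xe0 ye11 ze40) (ke xe0 ye11 ze41) (ke xe0 ye57 ze54) (ke xe0 ye57 ze58) (ke xe0 ye27 ze11) (ke xe0 ye26 ze21) (ke xe0 ye58 ze5) (ke xe0 ye58 ze8) (ke xe0 ye11 ze43) (ke xe0 ye58 ze14) (ke xe0 ye58 ze16) (ke xe0 ye11 ze44) (ke xe0 ye58 ze21) (ke xe0 ye58 ze24) (ke xe0 ye27 ze21) (ke xe0 ye58 ze30) (ke xe0 ye26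 ze32) (ke xe0 ye58 ze33) (ke xe0 ye11 ze47) (ke xe0 ye58 ze41) (ke xe0 ye58 ze45) (ke xe0 ye11 ze48) (ke xe0 ye54 ze51) (ke xe0 ye36 ze10) (ke xe0 ye11 ze49) (ke xe0 ye26 ze48) (ke xe0 ye56 ze59) (ke xe0 ye27 ze41) (ke xe0 ye58 ze55) (ke xe0 ye58 ze57) (ke xe0 ye11 ze51) (ke xe0 ye14 ze54) (ke xe0 ye26 ze41) (ke xe0 ye32 ze9) (ke xe0 ye27 ze31) (ke xe0 ye59 ze0) (ke xe0 ye11 ze54) (ke xe0 ye58 ze34) (ke xe0 ye13 ze9) (ke xe0 ye26 ze55) (ke xe0 ye59 ze7) (ke xe0 ye59 ze9) (ke xe0 ye59 ze10) (ke xe0 ye59 ze11) (ke xe0 ye11 ze57) (ke xe0 ye11 ze58)) (@D3.rec (fun _ => Pt) (ke xe0 ye59 ze20) (ke xe0 ye59 ze17) (ke xe0 ye27 ze2) (ke xe0 ye14 ze58) (ke xe0 ye11 ze60) (ke xe0 ye12 ze0) (ke xe0 ye59 ze32) (ke xe0 ye12 ze1) (ke xe0 ye12 ze2) (ke xe0 ye59 ze41) (ke xe0 ye59 ze45)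 (ke xe0 ye26 ze20) (ke xe0 ye27 ze12) (ke xe0 ye59 ze53) (ke xe0 ye59 ze57) (ke xe0 ye12 ze4) (ke xe1 ye0 ze1) (ke xe1 ye0 ze3) (ke xe0 ye12 ze5) (ke xe1 ye0 ze8) (ke xe1 ye0 ze11) (ke xe0 ye26 ze30) (ke xe1 ye0 ze15) (ke xe1 ye0 ze19) (ke xe1 ye0 ze22) (ke xe0 ye12 ze8) (ke xe0 ye32 ze33) (ke xe1 ye0 ze28) (ke xe0 ye12 ze9) (ke xe0 ye27 ze39) (ke xe0 ye57 ze27) (ke xe0 ye26 ze50) (ke xe1 ye0 ze31) (ke xe0 ye27 ze43) (ke xe0 ye12 ze11) (ke xe1 ye0 ze39) (ke xe1 ye0 ze41) (ke xe0 ye12 ze12) (ke xe0 ye15 ze11) (ke xe0 ye27 ze29) (ke xe0 ye32 ze4) (ke xe0 ye26 ze43) (ke xe0 ye12 ze15) (ke xe0 ye27 ze33) (ke xe0 ye12 ze30) (ke xe0 ye27 ze45) (ke xe1 ye0 ze54) (ke xe0 ye12 ze17) (ke xe1 ye0 ze60) (ke xe0 ye24 ze38) (ke xe0 ye27 ze50) (ke xe1 ye1 ze1) (ke xe0 ye12 ze19) (ke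 xe1 ye1 ze4) (ke xe1 ye1 ze5) (ke xe0 ye12 ze20) (ke xe1 ye1 ze8) (ke xe1 ye1 ze9) (ke xe1 ye1 ze10) (ke xe0 ye12 ze21) (ke xe0 ye12 ze22) (ke xe1 ye1 ze18)) (@D3.rec (fun _ => Pt) (ke xe1 ye1 ze21) (ke xe1 ye1 ze15) (ke xe0 ye28 ze2) (ke xe1 ye1 ze28) (ke xe1 ye1 ze31) (ke xe0 ye12 ze24) (ke xe1 ye1 ze36) (ke xe0 ye56 ze39) (ke xe0 ye12 ze25) (ke xe1 ye1 ze39) (ke xe1 ye1 ze41) (ke xe0 ye12 ze32) (ke xe1 ye1 ze47) (ke xe1 ye1 ze52) (ke xe0 ye12 ze28) (ke xe1 ye1 ze57) (ke xe0 ye12 ze29) (ke xe1 ye0 ze52) (ke xe1 ye2 ze2) (ke xe0 ye28 ze19) (ke xe0 ye12 ze31) (ke xe1 ye2 ze7) (ke xe1 ye2 ze10) (ke xe1 ye1 ze44) (ke xe1 ye2 ze18) (ke xe1 ye2 ze20) (ke xe0 ye12 ze33) (ke xe1 ye2 ze23) (ke xe0 ye12 ze34) (ke xe0 ye12 ze35) (ke xe0 ye12 ze36) (ke xe1 ye2 ze35) (ke xe1 ye2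 ze37) (ke xe0 ye39 ze11) (ke xe0 ye28 ze34) (ke xe1 ye2 ze43) (ke xe1 ye2 ze46) (ke xe0 ye12 ze38) (ke xe1 ye2 ze51) (ke xe1 ye2 ze53) (ke xe0 ye12 ze39) (ke xe1 ye2 ze56) (ke xe1 ye2 ze59) (ke xe0 ye39 ze21) (ke xe1 ye3 ze3) (ke xe1 ye3 ze5) (ke xe0 ye12 ze42) (ke xe1 ye3 ze10) (ke xe0 ye12 ze43) (ke xe0 ye15 ze16) (ke xe0 ye16 ze55) (ke xe1 ye3 ze17) (ke xe0 ye12 ze44) (ke xe0 ye14 ze1) (ke xe0 ye16 ze22) (ke xe1 ye3 ze22) (ke xe1 ye3 ze24) (ke xe0 ye12 ze46) (ke xe0 ye39 ze34) (ke xe0 ye16 ze13) (ke xe1 ye3 ze27) (ke xe1 ye3 ze29)) (@D3.rec (fun _ => Pt) (ke xe0 ye31 ze58) (ke xe0 ye12 ze49) (ke xe1 ye3 ze36) (ke xe0 ye12 ze50) (ke xe1 ye3 ze41) (ke xe1 ye3 ze44) (ke xe0 ye13 ze2) (ke xe1 ye3 ze53) (ke xe1 ye3 ze55) (ke xe0 ye12 ze52) (ke xe1 ye3 ze56) (ke xe0 ye12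 ze53) (ke xe1 ye3 ze61) (ke xe1 ye4 ze0) (ke xe0 ye12 ze54) (ke xe1 ye3 ze18) (ke xe1 ye4 ze6) (ke xe0 ye16 ze56) (ke xe1 ye4 ze9) (ke xe1 ye4 ze11) (ke xe0 ye12 ze56) (ke xe0 ye15 ze19) (ke xe0 ye16 ze8) (ke xe0 ye16 ze46) (ke xe0 ye33 ze45) (ke xe0 ye34 ze18) (ke xe1 ye4 ze19) (ke xe1 ye4 ze24) (ke xe1 ye4 ze25) (ke xe0 ye12 ze60) (ke xe1 ye4 ze5) (ke xe1 ye3 ze31) (ke xe0 ye15 ze5) (ke xe1 ye4 ze36) (ke xe1 ye4 ze37) (ke xe0 ye13 ze0) (ke xe1 ye4 ze45) (ke xe1 ye4 ze46) (ke xe0 ye13 ze1) (ke xe1 ye4 ze54) (ke xe1 ye4 ze59) (ke xe1 ye3 ze47) (ke xe1 ye5 ze2) (ke xe1 ye5 ze3) (ke xe1 ye5 ze5) (ke xe1 ye5 ze7) (ke xe0 ye13 ze3) (ke xe0 ye13 ze4) (ke xe0 ye17 ze43) (ke xe1 ye5 ze19) (ke xe0 ye59 ze4) (ke xe0 ye36 ze50) (ke xe0 ye36 ze57) (ke xe0 ye17 ze20) (ke xe0 ye13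 ze12) (ke xe0 ye13 ze16) (ke xe0 ye37 ze19) (ke xe1 ye5 ze23) (ke xe1 ye5 ze29) (ke xe1 ye5 ze31) (ke xe1 ye5 ze34) (ke xe0 ye13 ze48)) (@D3.rec (fun _ => Pt) (ke xe1 ye5 ze39) (ke xe1 ye5 ze41) (ke xe0 ye13 ze18) (ke xe0 ye13 ze19) (ke xe1 ye5 ze50) (ke xe0 ye13 ze21) (ke xe1 ye5 ze54) (ke xe1 ye5 ze57) (ke xe0 ye18 ze53) (ke xe0 ye20 ze0) (ke xe0 ye42 ze31) (ke xe0 ye30 ze39) (ke xe1 ye6 ze2) (ke xe1 ye6 ze6) (ke xe0 ye13 ze25) (ke xe0 ye13 ze26) (ke xe0 ye19 ze15) (ke xe0 ye30 ze17) (ke xe1 ye6 ze13) (ke xe0 ye19 ze1) (ke xe0 ye30 ze20) (ke xe0 ye25 ze17) (ke xe1 ye6 ze22) (ke xe1 ye6 ze25) (ke xe0 ye13 ze30) (ke xe1 ye6 ze32) (ke xe0 ye13 ze31) (ke xe0 ye32 ze10) (ke xe0 ye32 ze30) (ke xe0 ye18 ze24) (ke xe0 ye30 ze43) (ke xe1 ye6 ze41) (ke xe1 ye6 ze43) (ke xe1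 ye6 ze47) (ke xe0 ye13 ze33) (ke xe0 ye13 ze34) (ke xe1 ye6 ze53) (ke xe0 ye18 ze43) (ke xe1 ye6 ze58) (ke xe0 ye30 ze11) (ke xe0 ye30 ze40) (ke xe1 ye6 ze61) (ke xe0 ye13 ze38) (ke xe0 ye30 ze30) (ke xe1 ye6 ze48) (ke xe1 ye7 ze7) (ke xe1 ye7 ze6) (ke xe0 ye13 ze39) (ke xe0 ye13 ze40) (ke xe0 ye19 ze12) (ke xe1 ye7 ze13) (ke xe0 ye45 ze14) (ke xe0 ye30 ze52) (ke xe1 ye7 ze20) (ke xe0 ye13 ze43) (ke xe0 ye13 ze44) (ke xe0 ye43 ze60) (ke xe1 ye7 ze28) (ke xe0 ye30 ze58) (ke xe0 ye30 ze59) (ke xe0 ye30 ze60) (ke xe1 ye7 ze36)) (@D3.rec (fun _ => Pt) (ke xe1 ye7 ze37) (ke xe0 ye19 ze31) (ke xe1 ye7 ze39) (ke xe0 ye19 ze27) (ke xe0 ye13 ze47) (ke xe1 ye7 ze45) (ke xe1 ye7 ze48) (ke xe1 ye7 ze51) (ke xe1 ye7 ze56) (ke xe0 ye13 ze49) (ke xe1 ye7 ze61) (ke xe0 ye13 ze50) (ke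 xe1 ye8 ze5) (ke xe0 ye13 ze51) (ke xe1 ye8 ze12) (ke xe0 ye13 ze52) (ke xe1 ye8 ze20) (ke xe0 ye13 ze53) (ke xe0 ye44 ze58) (ke xe1 ye8 ze30) (ke xe1 ye8 ze31) (ke xe0 ye13 ze55) (ke xe0 ye40 ze1) (ke xe1 ye8 ze34) (ke xe1 ye8 ze39) (ke xe0 ye13 ze57) (ke xe0 ye13 ze58) (ke xe1 ye8 ze50) (ke xe1 ye8 ze54) (ke xe0 ye31 ze51) (ke xe0 ye31 ze30) (ke xe1 ye8 ze60) (ke xe1 ye9 ze0) (ke xe0 ye31 ze55) (ke xe1 ye9 ze4) (ke xe1 ye9 ze6) (ke xe1 ye1 ze32) (ke xe0 ye14 ze0) (ke xe1 ye2 ze47) (ke xe0 ye16 ze24) (ke xe0 ye31 ze61) (ke xe0 ye15 ze15) (ke xe0 ye31 ze59) (ke xe0 ye14 ze6) (ke xe1 ye9 ze12) (ke xe0 ye16 ze48) (ke xe0 ye31 ze46) (ke xe1 ye3 ze6) (ke xe0 ye14 ze8) (ke xe0 ye15 ze6) (ke xe0 ye14 ze9) (ke xe0 ye31 ze29) (ke xe0 ye31 ze52) (ke xe1 ye9 ze23) (ke xe1 ye9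 ze25) (ke xe0 ye31 ze33) (ke xe1 ye9 ze27) (ke xe0 ye35 ze40) (ke xe0 ye29 ze0) (ke xe0 ye31 ze42) (ke xe0 ye14 ze59) (ke xe0 ye31 ze40)) (@D3.rec (fun _ => Pt) (ke xe0 ye55 ze34) (ke xe1 ye9 ze32) (ke xe0 ye14 ze43) (ke xe0 ye32 ze3) (ke xe0 ye27 ze40) (ke xe0 ye18 ze51) (ke xe0 ye14 ze20) (ke xe0 ye42 ze16) (ke xe0 ye39 ze57) (ke xe0 ye26 ze49) (ke xe0 ye30 ze27) (ke xe0 ye14 ze24) (ke xe1 ye6 ze36) (ke xe0 ye32 ze50) (ke xe1 ye9 ze40) (ke xe1 ye9 ze41) (ke xe0 ye14 ze27) (ke xe1 ye9 ze45) (ke xe0 ye14 ze28) (ke xe0 ye14 ze29) (ke xe1 ye9 ze56) (ke xe1 ye9 ze60) (ke xe0 ye56 ze50) (ke xe0 ye32 ze23) (ke xe1 ye10 ze4) (ke xe1 ye10 ze6) (ke xe0 ye56 ze54) (ke xe1 ye10 ze10) (ke xe1 ye10 ze14) (ke xe0 ye14 ze33) (ke xe0 ye30 ze28) (ke xe1 ye10 ze19) (ke xe0 ye14 ze34)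 (ke xe0 ye27 ze26) (ke xe1 ye10 ze22) (ke xe0 ye57 ze2) (ke xe0 ye14 ze36) (ke xe0 ye57 ze3) (ke xe1 ye10 ze26) (ke xe0 ye14 ze39) (ke xe1 ye10 ze31) (ke xe0 ye14 ze40) (ke xe0 ye14 ze46) (ke xe1 ye10 ze39) (ke xe1 ye10 ze41) (ke xe0 ye14 ze42) (ke xe1 ye10 ze43) (ke xe0 ye14 ze44) (ke xe0 ye41 ze6) (ke xe1 ye10 ze27) (ke xe0 ye32 ze13) (ke xe1 ye10 ze51) (ke xe1 ye10 ze56) (ke xe1 ye10 ze35) (ke xe1 ye10 ze61) (ke xe1 ye11 ze1) (ke xe0 ye14 ze47) (ke xe1 ye11 ze5) (ke xe0 ye14 ze48) (ke xe0 ye25 ze52) (ke xe1 ye11 ze11) (ke xe1 ye11 ze12)) (@D3.rec (fun _ => Pt) (ke xe0 ye14 ze50) (ke xe1 ye11 ze14) (ke xe0 ye14 ze51) (ke xe0 ye14 ze52) (ke xe1 ye11 ze23) (ke xe1 ye11 ze27) (ke xe0 ye33 ze49) (ke xe0 ye33 ze7) (ke xe0 ye58 ze60) (ke xe1 ye11 ze36) (ke xe1 ye11 ze40)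 (ke xe1 ye11 ze42) (ke xe0 ye14 ze55) (ke xe1 ye11 ze46) (ke xe1 ye11 ze49) (ke xe0 ye33 ze58) (ke xe1 ye11 ze55) (ke xe0 ye59 ze25) (ke xe0 ye36 ze13) (ke xe1 ye9 ze29) (ke xe1 ye12 ze3) (ke xe1 ye5 ze16) (ke xe0 ye36 ze47) (ke xe0 ye36 ze14) (ke xe1 ye12 ze12) (ke xe1 ye12 ze14) (ke xe0 ye14 ze61) (ke xe0 ye37 ze51) (ke xe0 ye36 ze56) (ke xe1 ye12 ze20) (ke xe1 ye12 ze23) (ke xe0 ye15 ze2) (ke xe1 ye12 ze26) (ke xe0 ye15 ze3) (ke xe1 ye12 ze29) (ke xe1 ye12 ze32) (ke xe0 ye16 ze57) (ke xe1 ye12 ze41) (ke xe1 ye4 ze29) (ke xe0 ye36 ze27) (ke xe1 ye10 ze15) (ke xe0 ye37 ze43) (ke xe0 ye15 ze7) (ke xe1 ye12 ze46) (ke xe1 ye12 ze47) (ke xe0 ye29 ze24) (ke xe0 ye38 ze4) (ke xe1 ye12 ze50) (ke xe1 ye12 ze53) (ke xe0 ye33 ze6) (ke xe0 ye33 ze50) (ke xe1 ye0 ze44) (ke xe1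 ye13 ze3) (ke xe1 ye13 ze5) (ke xe1 ye13 ze7) (ke xe0 ye15 ze12) (ke xe1 ye13 ze11) (ke xe1 ye13 ze14) (ke xe0 ye33 ze15) (ke xe1 ye13 ze20) (ke xe1 ye9 ze11) (ke xe1 ye13 ze25)) (@D3.rec (fun _ => Pt) (ke xe0 ye39 ze2) (ke xe0 ye39 ze52) (ke xe1 ye3 ze12) (ke xe1 ye13 ze34) (ke xe1 ye1 ze58) (ke xe0 ye15 ze17) (ke xe1 ye13 ze40) (ke xe1 ye13 ze42) (ke xe0 ye15 ze18) (ke xe1 ye4 ze13) (ke xe1 ye3 ze37) (ke xe1 ye13 ze49) (ke xe0 ye15 ze21) (ke xe1 ye13 ze51) (ke xe1 ye13 ze54) (ke xe0 ye15 ze22) (ke xe1 ye13 ze57) (ke xe1 ye13 ze60) (ke xe0 ye29 ze25) (ke xe1 ye14 ze4) (ke xe0 ye38 ze14) (ke xe1 ye14 ze6) (ke xe0 ye15 ze25) (ke xe1 ye14 ze8) (ke xe1 ye14 ze9) (ke xe0 ye15 ze26) (ke xe0 ye15 ze27) (ke xe1 ye14 ze18) (ke xe1 ye14 ze22) (ke xe0 ye34 ze44) (ke xe0 ye34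 ze30) (ke xe1 ye14 ze28) (ke xe1 ye14 ze30) (ke xe0 ye34 ze48) (ke xe1 ye14 ze34) (ke xe1 ye14 ze35) (ke xe0 ye15 ze31) (ke xe1 ye14 ze37) (ke xe0 ye15 ze32) (ke xe1 ye14 ze42) (ke xe1 ye14 ze43) (ke xe0 ye15 ze33) (ke xe1 ye14 ze49) (ke xe1 ye14 ze52) (ke xe0 ye34 ze29) (ke xe0 ye34 ze45) (ke xe1 ye14 ze58) (ke xe1 ye14 ze60) (ke xe0 ye34 ze33) (ke xe1 ye15 ze2) (ke xe0 ye15 ze37) (ke xe0 ye15 ze38) (ke xe1 ye15 ze11) (ke xe1 ye2 ze25) (ke xe0 ye34 ze54) (ke xe0 ye15 ze40) (ke xe1 ye15 ze18) (ke xe1 ye2 ze28) (ke xe0 ye34 ze58) (ke xe0 ye15 ze42) (ke xe1 ye15 ze27) (ke xe1 ye15 ze30)) (@D3.rec (fun _ => Pt) (ke xe1 ye15 ze23) (ke xe0 ye35 ze1) (ke xe0 ye15 ze44) (ke xe0 ye15 ze45) (ke xe1 ye15 ze37) (ke xe0 ye15 ze46) (ke xe1 ye15 ze43) (ke xe1 ye15 ze45) (ke xe0 ye15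 ze50) (ke xe0 ye35 ze9) (ke xe1 ye15 ze52) (ke xe1 ye15 ze56) (ke xe1 ye15 ze60) (ke xe0 ye15 ze48) (ke xe1 ye16 ze5) (ke xe1 ye16 ze7) (ke xe1 ye16 ze9) (ke xe0 ye15 ze49) (ke xe1 ye16 ze15) (ke xe1 ye16 ze19) (ke xe1 ye15 ze48) (ke xe1 ye16 ze25) (ke xe1 ye16 ze27) (ke xe1 ye16 ze30) (ke xe0 ye15 ze52) (ke xe1 ye16 ze32) (ke xe1 ye16 ze34) (ke xe0 ye15 ze53) (ke xe1 ye16 ze37) (ke xe1 ye16 ze40) (ke xe0 ye16 ze2) (ke xe1 ye16 ze46) (ke xe0 ye35 ze32) (ke xe1 ye16 ze50) (ke xe1 ye16 ze54) (ke xe0 ye15 ze56) (ke xe1 ye16 ze60) (ke xe1 ye17 ze0) (ke xe1 ye17 ze5) (ke xe0 ye15 ze57) (ke xe0 ye31 ze57) (ke xe1 ye0 ze26) (ke xe0 ye35 ze42) (ke xe1 ye17 ze13) (ke xe1 ye17 ze16) (ke xe1 ye17 ze20) (ke xe0 ye15 ze59) (ke xe1 ye17 ze27) (ke xe0 ye15 ze60) (ke xe1 ye17 ze30)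 (ke xe1 ye2 ze48) (ke xe1 ye17 ze36) (ke xe1 ye17 ze40) (ke xe0 ye58 ze9) (ke xe0 ye16 ze0) (ke xe1 ye17 ze47) (ke xe1 ye17 ze50) (ke xe0 ye16 ze1) (ke xe1 ye17 ze56) (ke xe1 ye17 ze59) (ke xe1 ye16 ze43) (ke xe1 ye18 ze5)) (@D3.rec (fun _ => Pt) (ke xe1 ye18 ze6) (ke xe0 ye16 ze3) (ke xe0 ye36 ze2) (ke xe1 ye18 ze13) (ke xe1 ye18 ze17) (ke xe0 ye16 ze4) (ke xe1 ye18 ze24) (ke xe1 ye18 ze27) (ke xe1 ye18 ze29) (ke xe0 ye16 ze5) (ke xe0 ye26 ze39) (ke xe1 ye18 ze32) (ke xe0 ye58 ze49) (ke xe0 ye33 ze18) (ke xe0 ye33 ze23) (ke xe1 ye4 ze14) (ke xe1 ye9 ze38) (ke xe0 ye42 ze15) (ke xe1 ye18 ze49) (ke xe1 ye18 ze50) (ke xe0 ye16 ze9) (ke xe0 ye16 ze44) (ke xe1 ye18 ze58) (ke xe0 ye16 ze12) (ke xe1 ye18 ze54) (ke xe1 ye19 ze0) (ke xe0 ye37 ze44) (ke xe0 ye33 ze39) (ke xe1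 ye12 ze43) (ke xe0 ye16 ze15) (ke xe1 ye3 ze7) (ke xe0 ye36 ze31) (ke xe1 ye19 ze8) (ke xe0 ye16 ze17) (ke xe1 ye19 ze14) (ke xe0 ye16 ze18) (ke xe1 ye19 ze17) (ke xe1 ye3 ze11) (ke xe1 ye13 ze27) (ke xe1 ye19 ze23) (ke xe0 ye16 ze20) (ke xe1 ye19 ze27) (ke xe1 ye19 ze31) (ke xe0 ye16 ze23) (ke xe1 ye0 ze23) (ke xe0 ye17 ze3) (ke xe1 ye4 ze3) (ke xe0 ye33 ze22) (ke xe1 ye3 ze38) (ke xe0 ye38 ze0) (ke xe0 ye29 ze51) (ke xe0 ye16 ze26) (ke xe1 ye19 ze42) (ke xe1 ye19 ze43) (ke xe0 ye16 ze27) (ke xe0 ye26 ze0) (ke xe0 ye33 ze28) (ke xe0 ye29 ze52) (ke xe1 ye3 ze33) (ke xe1 ye19 ze53) (ke xe1 ye19 ze56) (ke xe0 ye16 ze30)) (@D3.rec (fun _ => Pt) (ke xe1 ye20 ze2) (ke xe1 ye20 ze3) (ke xe0 ye16 ze31) (ke xe1 ye20 ze8) (ke xe1 ye20 ze15) (ke xe0 ye17 ze13) (ke xe1 ye20 ze20)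 (ke xe1 ye20 ze22) (ke xe1 ye20 ze24) (ke xe1 ye20 ze26) (ke xe1 ye20 ze28) (ke xe0 ye16 ze33) (ke xe1 ye20 ze32) (ke xe0 ye16 ze34) (ke xe1 ye20 ze36) (ke xe0 ye16 ze36) (ke xe1 ye20 ze43) (ke xe0 ye16 ze37) (ke xe0 ye39 ze3) (ke xe0 ye29 ze56) (ke xe1 ye20 ze52) (ke xe1 ye20 ze53) (ke xe0 ye16 ze39) (ke xe0 ye57 ze6) (ke xe1 ye20 ze60) (ke xe1 ye18 ze46) (ke xe1 ye21 ze5) (ke xe1 ye21 ze7) (ke xe1 ye21 ze11) (ke xe0 ye16 ze41) (ke xe0 ye16 ze42) (ke xe1 ye18 ze51) (ke xe1 ye21 ze22) (ke xe1 ye21 ze16) (ke xe1 ye3 ze59) (ke xe1 ye18 ze55) (ke xe1 ye18 ze56) (ke xe1 ye3 ze32) (ke xe1 ye21 ze34) (ke xe0 ye17 ze2) (ke xe0 ye16 ze45) (ke xe0 ye38 ze2) (ke xe0 ye16 ze47) (ke xe0 ye33 ze41) (ke xe0 ye36 ze26) (ke xe0 ye16 ze49) (ke xe0 ye20 ze9) (ke xe1 ye9 ze39) (ke xe1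 ye3 ze14) (ke xe1 ye21 ze45) (ke xe0 ye16 ze53) (ke xe0 ye33 ze27) (ke xe1 ye1 ze29) (ke xe1 ye3 ze13) (ke xe1 ye21 ze55) (ke xe1 ye19 ze26) (ke xe1 ye12 ze35) (ke xe1 ye22 ze0) (ke xe1 ye22 ze2) (ke xe1 ye22 ze4) (ke xe0 ye16 ze58) (ke xe0 ye17 ze21)) (@D3.rec (fun _ => Pt) (ke xe0 ye36 ze49) (ke xe0 ye16 ze59) (ke xe0 ye37 ze41) (ke xe1 ye18 ze61) (ke xe0 ye33 ze46) (ke xe1 ye19 ze33) (ke xe1 ye4 ze26) (ke xe1 ye5 ze17) (ke xe1 ye22 ze19) (ke xe0 ye16 ze61) (ke xe0 ye17 ze0) (ke xe1 ye4 ze15) (ke xe1 ye19 ze32) (ke xe1 ye22 ze23) (ke xe0 ye34 ze20) (ke xe1 ye21 ze35) (ke xe1 ye19 ze37) (ke xe1 ye19 ze38) (ke xe1 ye22 ze40) (ke xe1 ye19 ze49) (ke xe1 ye22 ze46) (ke xe1 ye22 ze50) (ke xe1 ye22 ze53) (ke xe0 ye17 ze5) (ke xe0 ye17 ze6) (ke xe1 ye22 ze60) (ke xe1 ye4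 ze48) (ke xe1 ye19 ze59) (ke xe1 ye23 ze6) (ke xe1 ye23 ze9) (ke xe1 ye23 ze13) (ke xe1 ye23 ze17) (ke xe0 ye17 ze8) (ke xe0 ye17 ze9) (ke xe1 ye23 ze23) (ke xe1 ye4 ze39) (ke xe1 ye23 ze27) (ke xe1 ye23 ze30) (ke xe1 ye23 ze33) (ke xe1 ye23 ze38) (ke xe1 ye23 ze42) (ke xe0 ye17 ze11) (ke xe1 ye23 ze47) (ke xe1 ye23 ze51) (ke xe1 ye23 ze53) (ke xe1 ye23 ze55) (ke xe0 ye17 ze12) (ke xe1 ye23 ze60) (ke xe1 ye24 ze1) (ke xe1 ye24 ze4) (ke xe1 ye24 ze8) (ke xe0 ye17 ze14) (ke xe0 ye17 ze15) (ke xe1 ye24 ze17) (ke xe0 ye17 ze16) (ke xe1 ye24 ze24) (ke xe0 ye17 ze17) (ke xe1 ye24 ze32) (ke xe1 ye24 ze36) (ke xe1 ye8 ze24) (ke xe0 ye57 ze0) (ke xe1 ye4 ze56)) (@D3.rec (fun _ => Pt) (ke xe1 ye8 ze23) (ke xe1 ye5 ze22) (ke xe0 ye34 ze0) (ke xe0 ye37 ze18) (ke xe0 ye57 ze33)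 (ke xe1 ye24 ze51) (ke xe0 ye17 ze30) (ke xe0 ye17 ze31) (ke xe0 ye17 ze32) (ke xe1 ye24 ze61) (ke xe1 ye25 ze3) (ke xe0 ye28 ze33) (ke xe0 ye39 ze12) (ke xe1 ye25 ze9) (ke xe1 ye25 ze11) (ke xe0 ye17 ze34) (ke xe1 ye25 ze14) (ke xe1 ye25 ze16) (ke xe0 ye17 ze35) (ke xe1 ye25 ze19) (ke xe1 ye25 ze22) (ke xe0 ye28 ze43) (ke xe1 ye25 ze28) (ke xe1 ye25 ze30) (ke xe1 ye25 ze32) (ke xe0 ye17 ze38) (ke xe1 ye4 ze17) (ke xe0 ye17 ze39) (ke xe1 ye5 ze14) (ke xe0 ye17 ze41) (ke xe1 ye25 ze36) (ke xe1 ye25 ze38) (ke xe0 ye17 ze42) (ke xe1 ye5 ze15) (ke xe0 ye28 ze58) (ke xe1 ye25 ze42) (ke xe1 ye25 ze44) (ke xe0 ye17 ze46) (ke xe0 ye54 ze54) (ke xe1 ye25 ze49) (ke xe0 ye17 ze49) (ke xe1 ye25 ze58) (ke xe1 ye25 ze60) (ke xe0 ye17 ze48) (ke xe1 ye26 ze3) (ke xe1 ye26 ze7) (ke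 xe1 ye25 ze52) (ke xe1 ye26 ze9) (ke xe1 ye26 ze10) (ke xe0 ye17 ze50) (ke xe0 ye17 ze51) (ke xe1 ye5 ze18) (ke xe0 ye34 ze1) (ke xe1 ye26 ze19) (ke xe0 ye17 ze55) (ke xe1 ye5 ze56) (ke xe1 ye26 ze23) (ke xe0 ye32 ze8) (ke xe1 ye26 ze24) (ke xe0 ye19 ze20) (ke xe1 ye26 ze26) (ke xe0 ye17 ze57)) (@D3.rec (fun _ => Pt) (ke xe0 ye44 ze35) (ke xe0 ye31 ze22) (ke xe0 ye19 ze24) (ke xe1 ye26 ze34) (ke xe1 ye26 ze35) (ke xe0 ye17 ze59) (ke xe0 ye44 ze42) (ke xe1 ye26 ze40) (ke xe1 ye26 ze42) (ke xe1 ye26 ze45) (ke xe1 ye26 ze47) (ke xe0 ye17 ze61) (ke xe0 ye44 ze27) (ke xe1 ye26 ze53) (ke xe1 ye26 ze54) (ke xe0 ye18 ze0) (ke xe1 ye26 ze57) (ke xe1 ye26 ze58) (ke xe1 ye27 ze0) (ke xe1 ye27 ze5) (ke xe0 ye18 ze2) (ke xe1 ye27 ze10) (ke xe0 ye18 ze3) (ke xe1 ye27 ze14) (ke xe0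 ye18 ze4) (ke xe1 ye27 ze22) (ke xe1 ye27 ze26) (ke xe1 ye27 ze27) (ke xe0 ye18 ze6) (ke xe1 ye27 ze30) (ke xe1 ye27 ze33) (ke xe0 ye18 ze8) (ke xe1 ye27 ze39) (ke xe0 ye18 ze9) (ke xe0 ye26 ze6) (ke xe1 ye27 ze45) (ke xe0 ye24 ze54) (ke xe1 ye27 ze48) (ke xe0 ye18 ze11) (ke xe1 ye27 ze53) (ke xe0 ye18 ze12) (ke xe1 ye27 ze59) (ke xe0 ye18 ze13) (ke xe0 ye55 ze58) (ke xe1 ye28 ze5) (ke xe1 ye28 ze10) (ke xe1 ye28 ze11) (ke xe0 ye18 ze15) (ke xe1 ye28 ze17) (ke xe1 ye28 ze20) (ke xe1 ye6 ze28) (ke xe0 ye18 ze17) (ke xe1 ye28 ze27) (ke xe0 ye18 ze18) (ke xe1 ye11 ze10) (ke xe0 ye58 ze51) (ke xe0 ye25 ze57) (ke xe1 ye28 ze34) (ke xe1 ye28 ze38) (ke xe1 ye28 ze39) (ke xe0 ye18 ze20) (ke xe1 ye24 ze20)) (@D3.rec (fun _ => Pt) (ke xe1 ye6 ze34) (ke xe1 ye28 ze50) (ke xe1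 ye28 ze53) (ke xe1 ye28 ze54) (ke xe0 ye18 ze22) (ke xe1 ye28 ze57) (ke xe0 ye32 ze48) (ke xe0 ye18 ze23) (ke xe1 ye8 ze0) (ke xe1 ye29 ze0) (ke xe1 ye29 ze2) (ke xe1 ye29 ze4) (ke xe0 ye18 ze25) (ke xe0 ye18 ze26) (ke xe1 ye29 ze9) (ke xe1 ye29 ze14) (ke xe1 ye29 ze17) (ke xe1 ye29 ze19) (ke xe1 ye29 ze22) (ke xe0 ye18 ze28) (ke xe0 ye18 ze29) (ke xe1 ye29 ze28) (ke xe1 ye29 ze31) (ke xe1 ye29 ze33) (ke xe0 ye20 ze16) (ke xe1 ye29 ze36) (ke xe0 ye18 ze32) (ke xe1 ye29 ze42) (ke xe1 ye29 ze44) (ke xe1 ye29 ze46) (ke xe0 ye18 ze33) (ke xe0 ye42 ze51) (ke xe0 ye42 ze52) (ke xe1 ye29 ze52) (ke xe1 ye29 ze54) (ke xe0 ye18 ze35) (ke xe1 ye29 ze61) (ke xe1 ye30 ze2) (ke xe1 ye30 ze6) (ke xe0 ye18 ze36) (ke xe1 ye7 ze9) (ke xe0 ye41 ze41) (ke xe1 ye30 ze9) (ke xe1 ye6 ze50)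 (ke xe1 ye30 ze22) (ke xe0 ye18 ze38) (ke xe1 ye30 ze28) (ke xe1 ye30 ze32) (ke xe0 ye18 ze42) (ke xe1 ye6 ze54) (ke xe0 ye43 ze11) (ke xe1 ye30 ze41) (ke xe0 ye41 ze52) (ke xe1 ye30 ze46) (ke xe1 ye30 ze49) (ke xe1 ye30 ze35) (ke xe1 ye30 ze53) (ke xe0 ye19 ze60) (ke xe0 ye43 ze14) (ke xe1 ye30 ze59) (ke xe0 ye41 ze60) (ke xe1 ye31 ze2)) (@D3.rec (fun _ => Pt) (ke xe0 ye56 ze41) (ke xe1 ye31 ze8) (ke xe1 ye31 ze9) (ke xe0 ye18 ze47) (ke xe1 ye0 ze59) (ke xe1 ye1 ze54) (ke xe1 ye13 ze44) (ke xe1 ye31 ze20) (ke xe1 ye20 ze40) (ke xe0 ye18 ze49) (ke xe1 ye24 ze27) (ke xe1 ye5 ze52) (ke xe1 ye9 ze37) (ke xe0 ye56 ze58) (ke xe1 ye10 ze23) (ke xe0 ye36 ze17) (ke xe0 ye32 ze7) (ke xe0 ye18 ze52) (ke xe0 ye22 ze46) (ke xe0 ye43 ze3) (ke xe1 ye31 ze36) (ke xe1 ye31 ze37) (ke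 xe1 ye31 ze39) (ke xe1 ye31 ze40) (ke xe0 ye18 ze55) (ke xe1 ye24 ze34) (ke xe0 ye18 ze56) (ke xe1 ye31 ze45) (ke xe1 ye6 ze51) (ke xe1 ye5 ze9) (ke xe0 ye18 ze57) (ke xe0 ye30 ze10) (ke xe0 ye19 ze11) (ke xe1 ye31 ze51) (ke xe1 ye6 ze10) (ke xe1 ye6 ze3) (ke xe1 ye32 ze5) (ke xe0 ye19 ze0) (ke xe1 ye6 ze14) (ke xe0 ye21 ze26) (ke xe1 ye32 ze14) (ke xe0 ye19 ze2) (ke xe1 ye30 ze23) (ke xe1 ye32 ze8) (ke xe1 ye32 ze20) (ke xe1 ye32 ze23) (ke xe0 ye42 ze46) (ke xe1 ye32 ze16) (ke xe1 ye32 ze25) (ke xe1 ye32 ze28) (ke xe0 ye19 ze3) (ke xe0 ye41 ze31) (ke xe0 ye41 ze32) (ke xe1 ye32 ze33) (ke xe1 ye32 ze36) (ke xe1 ye32 ze39) (ke xe1 ye32 ze43) (ke xe0 ye19 ze6) (ke xe1 ye32 ze47) (ke xe0 ye19 ze7) (ke xe1 ye32 ze53) (ke xe0 ye19 ze8)) (@D3.rec (fun _ => Pt) (ke xe1 ye32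 ze60) (ke xe1 ye33 ze2) (ke xe1 ye6 ze59) (ke xe0 ye42 ze19) (ke xe1 ye31 ze55) (ke xe1 ye31 ze56) (ke xe1 ye33 ze8) (ke xe1 ye33 ze11) (ke xe1 ye6 ze7) (ke xe1 ye33 ze14) (ke xe0 ye48 ze46) (ke xe0 ye41 ze50) (ke xe0 ye48 ze53) (ke xe1 ye30 ze12) (ke xe0 ye41 ze58) (ke xe1 ye33 ze18) (ke xe1 ye33 ze20) (ke xe1 ye33 ze22) (ke xe0 ye19 ze19) (ke xe1 ye26 ze25) (ke xe1 ye33 ze27) (ke xe1 ye33 ze29) (ke xe1 ye33 ze32) (ke xe1 ye33 ze35) (ke xe1 ye33 ze39) (ke xe0 ye19 ze22) (ke xe1 ye33 ze45) (ke xe1 ye33 ze48) (ke xe1 ye7 ze26) (ke xe1 ye26 ze32) (ke xe1 ye33 ze51) (ke xe1 ye33 ze53) (ke xe1 ye33 ze55) (ke xe0 ye19 ze25) (ke xe1 ye5 ze36) (ke xe0 ye19 ze26) (ke xe1 ye33 ze60) (ke xe1 ye34 ze1) (ke xe1 ye7 ze40) (ke xe1 ye34 ze6) (ke xe1 ye34 ze9) (ke xe1 ye34 ze11) (ke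 xe1 ye34 ze12) (ke xe1 ye7 ze23) (ke xe0 ye43 ze59) (ke xe1 ye34 ze14) (ke xe0 ye19 ze32) (ke xe0 ye43 ze47) (ke xe1 ye26 ze43) (ke xe0 ye43 ze49) (ke xe1 ye34 ze19) (ke xe1 ye34 ze20) (ke xe1 ye34 ze22) (ke xe0 ye43 ze53) (ke xe1 ye34 ze26) (ke xe1 ye34 ze28) (ke xe1 ye34 ze33) (ke xe0 ye19 ze36) (ke xe0 ye19 ze37) (ke xe0 ye43 ze44) (ke xe0 ye30 ze56) (ke xe1 ye34 ze35)) (@D3.rec (fun _ => Pt) (ke xe0 ye19 ze38) (ke xe1 ye34 ze39) (ke xe0 ye19 ze39) (ke xe1 ye34 ze43) (ke xe0 ye19 ze40) (ke xe1 ye26 ze48) (ke xe1 ye32 ze21) (ke xe1 ye34 ze46) (ke xe1 ye34 ze49) (ke xe1 ye34 ze54) (ke xe0 ye19 ze42) (ke xe1 ye34 ze60) (ke xe1 ye35 ze3) (ke xe0 ye19 ze43) (ke xe1 ye35 ze10) (ke xe1 ye35 ze13) (ke xe0 ye19 ze44) (ke xe1 ye35 ze20) (ke xe1 ye35 ze23) (ke xe1 ye35 ze28)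 (ke xe1 ye35 ze32) (ke xe0 ye19 ze45) (ke xe1 ye35 ze38) (ke xe1 ye35 ze39) (ke xe1 ye35 ze45) (ke xe1 ye35 ze46) (ke xe0 ye19 ze47) (ke xe0 ye40 ze12) (ke xe1 ye30 ze60) (ke xe1 ye35 ze49) (ke xe1 ye35 ze59) (ke xe1 ye36 ze1) (ke xe0 ye19 ze49) (ke xe1 ye36 ze8) (ke xe1 ye36 ze10) (ke xe0 ye40 ze0) (ke xe1 ye8 ze16) (ke xe1 ye36 ze16) (ke xe1 ye36 ze20) (ke xe0 ye19 ze51) (ke xe1 ye32 ze27) (ke xe1 ye36 ze27) (ke xe0 ye40 ze6) (ke xe1 ye8 ze9) (ke xe1 ye36 ze34) (ke xe1 ye36 ze36) (ke xe1 ye36 ze37) (ke xe0 ye19 ze53) (ke xe1 ye36 ze44) (ke xe1 ye36 ze47) (ke xe1 ye5 ze13) (ke xe1 ye5 ze10) (ke xe1 ye36 ze56) (ke xe1 ye36 ze60) (ke xe1 ye37 ze2) (ke xe0 ye19 ze55) (ke xe1 ye37 ze8) (ke xe1 ye37 ze11) (ke xe0 ye31 ze18) (ke xe0 ye19 ze56) (ke xe0 ye19 ze57) (ke xe1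 ye37 ze18)) (@D3.rec (fun _ => Pt) (ke xe1 ye7 ze49) (ke xe0 ye19 ze61) (ke xe0 ye20 ze10) (ke xe1 ye8 ze15) (ke xe1 ye30 ze54) (ke xe1 ye37 ze27) (ke xe1 ye37 ze30) (ke xe1 ye37 ze22) (ke xe0 ye45 ze8) (ke xe0 ye52 ze6) (ke xe1 ye5 ze60) (ke xe1 ye37 ze37) (ke xe0 ye20 ze1) (ke xe1 ye26 ze36) (ke xe0 ye30 ze51) (ke xe1 ye37 ze42) (ke xe0 ye20 ze5) (ke xe1 ye8 ze8) (ke xe0 ye23 ze3) (ke xe1 ye37 ze47) (ke xe1 ye33 ze23) (ke xe1 ye37 ze49) (ke xe1 ye37 ze51) (ke xe1 ye37 ze53) (ke xe1 ye37 ze55) (ke xe0 ye20 ze15) (ke xe1 ye37 ze60) (ke xe1 ye38 ze1) (ke xe1 ye38 ze4) (ke xe1 ye38 ze9) (ke xe0 ye20 ze17) (ke xe1 ye38 ze14) (ke xe0 ye20 ze18) (ke xe1 ye38 ze20) (ke xe0 ye20 ze19) (ke xe1 ye38 ze24) (ke xe1 ye38 ze27) (ke xe1 ye38 ze28) (ke xe0 ye20 ze21) (ke xe1 ye38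 ze30) (ke xe1 ye38 ze34) (ke xe0 ye20 ze23) (ke xe1 ye38 ze36) (ke xe1 ye38 ze38) (ke xe0 ye20 ze24) (ke xe1 ye38 ze41) (ke xe1 ye38 ze43) (ke xe1 ye38 ze46) (ke xe1 ye38 ze49) (ke xe0 ye20 ze26) (ke xe1 ye38 ze55) (ke xe0 ye53 ze48) (ke xe0 ye47 ze38) (ke xe1 ye38 ze59) (ke xe0 ye20 ze31) (ke xe0 ye22 ze45) (ke xe0 ye20 ze33) (ke xe0 ye23 ze11) (ke xe0 ye45 ze58) (ke xe0 ye49 ze34) (ke xe0 ye24 ze29) (ke xe0 ye24 ze3)) (@D3.rec (fun _ => Pt) (ke xe0 ye22 ze56) (ke xe1 ye39 ze13) (ke xe1 ye31 ze52) (ke xe0 ye20 ze38) (ke xe0 ye20 ze39) (ke xe0 ye53 ze44) (ke xe0 ye20 ze42) (ke xe0 ye46 ze7) (ke xe0 ye48 ze5) (ke xe1 ye39 ze21) (ke xe1 ye39 ze23) (ke xe0 ye46 ze11) (ke xe1 ye33 ze42) (ke xe0 ye51 ze12) (ke xe1 ye39 ze30) (ke xe0 ye20 ze46) (ke xe0 ye20 ze47) (ke xe0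 ye48 ze59) (ke xe1 ye39 ze35) (ke xe1 ye37 ze56) (ke xe1 ye39 ze38) (ke xe0 ye20 ze48) (ke xe0 ye50 ze59) (ke xe0 ye20 ze49) (ke xe1 ye39 ze45) (ke xe0 ye20 ze50) (ke xe0 ye48 ze45) (ke xe1 ye39 ze49) (ke xe0 ye20 ze52) (ke xe1 ye39 ze53) (ke xe1 ye39 ze58) (ke xe0 ye20 ze53) (ke xe1 ye40 ze1) (ke xe1 ye40 ze4) (ke xe0 ye20 ze54) (ke xe1 ye40 ze10) (ke xe1 ye40 ze13) (ke xe1 ye40 ze17) (ke xe0 ye20 ze55) (ke xe1 ye40 ze25) (ke xe1 ye40 ze29) (ke xe0 ye53 ze60) (ke xe0 ye21 ze23) (ke xe0 ye48 ze47) (ke xe0 ye53 ze59) (ke xe1 ye40 ze39) (ke xe0 ye24 ze31) (ke xe0 ye20 ze58) (ke xe1 ye40 ze43) (ke xe0 ye20 ze59) (ke xe0 ye24 ze22) (ke xe1 ye40 ze46) (ke xe0 ye21 ze0) (ke xe1 ye40 ze48) (ke xe1 ye40 ze49) (ke xe0 ye21 ze1) (ke xe0 ye23 ze17) (ke xe1 ye40 ze52) (ke xe1 ye40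 ze54) (ke xe0 ye21 ze2) (ke xe0 ye53 ze17) (ke xe1 ye40 ze60)) (@D3.rec (fun _ => Pt) (ke xe0 ye23 ze23) (ke xe1 ye41 ze0) (ke xe1 ye41 ze2) (ke xe0 ye21 ze3) (ke xe0 ye53 ze18) (ke xe0 ye23 ze38) (ke xe0 ye49 ze25) (ke xe0 ye47 ze32) (ke xe1 ye41 ze10) (ke xe0 ye21 ze6) (ke xe1 ye38 ze15) (ke xe1 ye41 ze12) (ke xe0 ye21 ze7) (ke xe0 ye52 ze43) (ke xe1 ye41 ze17) (ke xe0 ye21 ze9) (ke xe1 ye41 ze23) (ke xe1 ye41 ze28) (ke xe0 ye21 ze10) (ke xe1 ye41 ze31) (ke xe1 ye41 ze34) (ke xe0 ye21 ze11) (ke xe1 ye41 ze39) (ke xe1 ye41 ze42) (ke xe1 ye41 ze46) (ke xe1 ye41 ze48) (ke xe0 ye21 ze12) (ke xe1 ye41 ze54) (ke xe1 ye41 ze58) (ke xe1 ye42 ze0) (ke xe1 ye42 ze1) (ke xe0 ye21 ze14) (ke xe0 ye47 ze7) (ke xe0 ye54 ze1) (ke xe1 ye42 ze8) (ke xe0 ye21 ze16) (ke xe1 ye38 ze57)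 (ke xe0 ye53 ze33) (ke xe0 ye45 ze52) (ke xe1 ye42 ze19) (ke xe0 ye47 ze45) (ke xe0 ye48 ze42) (ke xe0 ye21 ze18) (ke xe1 ye42 ze28) (ke xe0 ye48 ze40) (ke xe0 ye47 ze40) (ke xe0 ye21 ze19) (ke xe0 ye21 ze20) (ke xe1 ye40 ze30) (ke xe1 ye42 ze32) (ke xe1 ye42 ze33) (ke xe0 ye21 ze24) (ke xe1 ye32 ze11) (ke xe0 ye21 ze25) (ke xe0 ye48 ze44) (ke xe0 ye54 ze14) (ke xe1 ye42 ze41) (ke xe1 ye42 ze42) (ke xe1 ye42 ze43) (ke xe0 ye21 ze29) (ke xe1 ye42 ze46) (ke xe1 ye42 ze47)) (@D3.rec (fun _ => Pt) (ke xe0 ye21 ze30) (ke xe1 ye42 ze53) (ke xe0 ye21 ze31) (ke xe0 ye48 ze16) (ke xe1 ye42 ze55) (ke xe0 ye46 ze8) (ke xe0 ye49 ze47) (ke xe1 ye42 ze59) (ke xe1 ye42 ze60) (ke xe1 ye43 ze1) (ke xe0 ye21 ze35) (ke xe1 ye43 ze6) (ke xe0 ye21 ze36) (ke xe0 ye22 ze38) (ke xe0 ye48 ze14)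 (ke xe1 ye43 ze9) (ke xe0 ye48 ze3) (ke xe1 ye43 ze15) (ke xe1 ye43 ze19) (ke xe0 ye21 ze38) (ke xe1 ye43 ze24) (ke xe1 ye43 ze27) (ke xe0 ye21 ze39) (ke xe1 ye43 ze30) (ke xe1 ye43 ze33) (ke xe1 ye43 ze37) (ke xe0 ye21 ze40) (ke xe1 ye43 ze45) (ke xe1 ye43 ze49) (ke xe0 ye21 ze44) (ke xe0 ye49 ze28) (ke xe0 ye50 ze9) (ke xe0 ye50 ze10) (ke xe0 ye48 ze33) (ke xe0 ye48 ze34) (ke xe1 ye41 ze36) (ke xe1 ye44 ze4) (ke xe1 ye43 ze51) (ke xe1 ye44 ze10) (ke xe0 ye48 ze50) (ke xe0 ye47 ze44) (ke xe1 ye44 ze18) (ke xe0 ye47 ze41) (ke xe0 ye21 ze47) (ke xe0 ye47 ze54) (ke xe0 ye46 ze26) (ke xe0 ye43 ze10) (ke xe0 ye46 ze43) (ke xe0 ye48 ze48) (ke xe0 ye50 ze39) (ke xe0 ye48 ze39) (ke xe0 ye54 ze15) (ke xe0 ye21 ze54) (ke xe0 ye43 ze12) (ke xe1 ye44 ze32) (ke xe0 ye23 ze60) (ke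 xe0 ye48 ze56) (ke xe0 ye49 ze57) (ke xe1 ye42 ze44) (ke xe0 ye46 ze17) (ke xe1 ye44 ze38) (ke xe1 ye44 ze40)) (@D3.rec (fun _ => Pt) (ke xe1 ye44 ze41) (ke xe1 ye44 ze45) (ke xe0 ye21 ze61) (ke xe1 ye35 ze51) (ke xe1 ye44 ze49) (ke xe1 ye44 ze50) (ke xe0 ye22 ze0) (ke xe1 ye44 ze53) (ke xe0 ye22 ze1) (ke xe1 ye44 ze57) (ke xe0 ye22 ze2) (ke xe0 ye53 ze15) (ke xe1 ye45 ze0) (ke xe0 ye22 ze4) (ke xe1 ye45 ze3) (ke xe1 ye45 ze6) (ke xe1 ye45 ze11) (ke xe0 ye22 ze6) (ke xe1 ye45 ze12) (ke xe1 ye45 ze15) (ke xe0 ye22 ze7) (ke xe1 ye45 ze20) (ke xe1 ye45 ze23) (ke xe1 ye45 ze26) (ke xe0 ye22 ze8) (ke xe0 ye47 ze6) (ke xe1 ye45 ze36) (ke xe0 ye22 ze11) (ke xe0 ye48 ze30) (ke xe0 ye22 ze31) (ke xe0 ye22 ze32) (ke xe0 ye51 ze57) (ke xe1 ye45 ze39) (ke xe1 ye45 ze49) (ke xe0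 ye45 ze59) (ke xe1 ye45 ze54) (ke xe0 ye22 ze14) (ke xe1 ye42 ze23) (ke xe0 ye22 ze17) (ke xe1 ye42 ze22) (ke xe1 ye45 ze57) (ke xe0 ye22 ze18) (ke xe0 ye22 ze19) (ke xe1 ye45 ze61) (ke xe1 ye46 ze0) (ke xe0 ye22 ze20) (ke xe1 ye43 ze21) (ke xe0 ye48 ze6) (ke xe1 ye46 ze4) (ke xe1 ye46 ze7) (ke xe0 ye22 ze24) (ke xe1 ye46 ze12) (ke xe1 ye46 ze14) (ke xe1 ye46 ze16) (ke xe0 ye22 ze25) (ke xe1 ye46 ze24) (ke xe1 ye46 ze28) (ke xe0 ye48 ze57) (ke xe1 ye46 ze32) (ke xe0 ye22 ze27) (ke xe0 ye49 ze60) (ke xe1 ye46 ze34)) (@D3.rec (fun _ => Pt) (ke xe1 ye46 ze35) (ke xe1 ye46 ze37) (ke xe0 ye22 ze33) (ke xe1 ye46 ze39) (ke xe1 ye46 ze41) (ke xe1 ye46 ze42) (ke xe0 ye22 ze35) (ke xe1 ye46 ze48) (ke xe1 ye46 ze51) (ke xe0 ye48 ze31) (ke xe0 ye48 ze32) (ke xe1 ye43 ze11) (ke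 xe1 ye39 ze2) (ke xe1 ye46 ze54) (ke xe0 ye22 ze40) (ke xe0 ye50 ze15) (ke xe1 ye46 ze58) (ke xe0 ye22 ze42) (ke xe1 ye47 ze3) (ke xe0 ye22 ze43) (ke xe1 ye47 ze5) (ke xe1 ye31 ze34) (ke xe1 ye47 ze10) (ke xe1 ye47 ze11) (ke xe1 ye47 ze14) (ke xe0 ye22 ze47) (ke xe1 ye47 ze17) (ke xe0 ye22 ze48) (ke xe1 ye47 ze24) (ke xe0 ye22 ze49) (ke xe1 ye47 ze26) (ke xe1 ye47 ze29) (ke xe0 ye22 ze50) (ke xe1 ye47 ze34) (ke xe1 ye47 ze37) (ke xe1 ye47 ze41) (ke xe0 ye22 ze51) (ke xe1 ye47 ze49) (ke xe1 ye47 ze53) (ke xe0 ye48 ze49) (ke xe1 ye47 ze56) (ke xe0 ye54 ze2) (ke xe0 ye22 ze53) (ke xe1 ye47 ze58) (ke xe0 ye22 ze54) (ke xe0 ye50 ze45) (ke xe1 ye47 ze61) (ke xe1 ye48 ze3) (ke xe1 ye48 ze8) (ke xe0 ye22 ze57) (ke xe1 ye48 ze9) (ke xe1 ye48 ze11) (ke xe0 ye22 ze58) (ke xe1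 ye31 ze61) (ke xe0 ye22 ze59) (ke xe1 ye48 ze20) (ke xe0 ye22 ze60) (ke xe1 ye39 ze1) (ke xe1 ye48 ze22) (ke xe0 ye46 ze22) (ke xe0 ye23 ze0) (ke xe1 ye48 ze30)) (@D3.rec (fun _ => Pt) (ke xe0 ye23 ze1) (ke xe1 ye6 ze0) (ke xe1 ye48 ze33) (ke xe1 ye48 ze35) (ke xe1 ye48 ze37) (ke xe0 ye23 ze4) (ke xe1 ye48 ze40) (ke xe1 ye48 ze43) (ke xe1 ye48 ze48) (ke xe0 ye23 ze5) (ke xe1 ye26 ze27) (ke xe1 ye43 ze54) (ke xe0 ye46 ze13) (ke xe1 ye48 ze54) (ke xe0 ye23 ze7) (ke xe1 ye48 ze58) (ke xe1 ye48 ze61) (ke xe0 ye23 ze8) (ke xe1 ye49 ze2) (ke xe1 ye49 ze5) (ke xe1 ye49 ze9) (ke xe0 ye23 ze9) (ke xe1 ye49 ze15) (ke xe1 ye49 ze18) (ke xe1 ye39 ze3) (ke xe1 ye40 ze55) (ke xe1 ye49 ze19) (ke xe0 ye23 ze12) (ke xe1 ye49 ze21) (ke xe0 ye23 ze13) (ke xe1 ye49 ze23) (ke xe1 ye49 ze26)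 (ke xe1 ye49 ze27) (ke xe1 ye49 ze28) (ke xe0 ye51 ze34) (ke xe1 ye49 ze31) (ke xe1 ye49 ze32) (ke xe1 ye49 ze35) (ke xe0 ye23 ze20) (ke xe0 ye23 ze21) (ke xe1 ye49 ze40) (ke xe0 ye23 ze22) (ke xe1 ye49 ze43) (ke xe1 ye49 ze46) (ke xe1 ye49 ze48) (ke xe1 ye49 ze50) (ke xe1 ye49 ze52) (ke xe1 ye49 ze54) (ke xe0 ye23 ze25) (ke xe1 ye32 ze22) (ke xe0 ye23 ze26) (ke xe1 ye49 ze59) (ke xe1 ye50 ze0) (ke xe1 ye50 ze3) (ke xe1 ye50 ze6) (ke xe0 ye23 ze27) (ke xe1 ye50 ze13) (ke xe0 ye49 ze31) (ke xe1 ye50 ze14) (ke xe0 ye23 ze30) (ke xe1 ye50 ze17) (ke xe0 ye23 ze31)) (@D3.rec (fun _ => Pt) (ke xe1 ye47 ze60) (ke xe0 ye23 ze33) (ke xe1 ye50 ze22) (ke xe0 ye23 ze34) (ke xe1 ye50 ze23) (ke xe1 ye41 ze4) (ke xe0 ye45 ze9) (ke xe1 ye50 ze28) (ke xe1 ye50 ze29) (ke xe0 ye23 ze36)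 (ke xe1 ye50 ze34) (ke xe1 ye50 ze35) (ke xe1 ye50 ze39) (ke xe0 ye23 ze39) (ke xe1 ye50 ze41) (ke xe1 ye50 ze44) (ke xe0 ye23 ze40) (ke xe1 ye50 ze47) (ke xe1 ye50 ze50) (ke xe1 ye50 ze55) (ke xe1 ye50 ze56) (ke xe0 ye23 ze41) (ke xe0 ye53 ze11) (ke xe1 ye51 ze4) (ke xe1 ye49 ze24) (ke xe1 ye51 ze5) (ke xe1 ye51 ze8) (ke xe0 ye23 ze43) (ke xe1 ye51 ze13) (ke xe1 ye51 ze15) (ke xe1 ye51 ze19) (ke xe1 ye51 ze22) (ke xe0 ye23 ze44) (ke xe1 ye51 ze29) (ke xe1 ye51 ze32) (ke xe1 ye43 ze50) (ke xe1 ye51 ze33) (ke xe1 ye51 ze36) (ke xe0 ye23 ze46) (ke xe1 ye51 ze45) (ke xe1 ye51 ze46) (ke xe0 ye23 ze47) (ke xe1 ye51 ze52) (ke xe0 ye47 ze13) (ke xe1 ye45 ze35) (ke xe1 ye52 ze0) (ke xe1 ye52 ze1) (ke xe1 ye52 ze3) (ke xe0 ye23 ze49) (ke xe1 ye52 ze11) (ke xe1 ye52 ze12) (ke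 xe1 ye52 ze13) (ke xe0 ye23 ze50) (ke xe1 ye52 ze18) (ke xe1 ye52 ze20) (ke xe1 ye52 ze23) (ke xe0 ye23 ze51) (ke xe1 ye52 ze29) (ke xe1 ye52 ze31) (ke xe1 ye52 ze33) (ke xe0 ye23 ze52) (ke xe1 ye52 ze38)) (@D3.rec (fun _ => Pt) (ke xe1 ye52 ze42) (ke xe1 ye52 ze46) (ke xe1 ye52 ze36) (ke xe1 ye52 ze51) (ke xe0 ye23 ze54) (ke xe1 ye52 ze59) (ke xe1 ye53 ze1) (ke xe1 ye53 ze5) (ke xe0 ye23 ze55) (ke xe1 ye53 ze10) (ke xe1 ye53 ze13) (ke xe0 ye52 ze22) (ke xe0 ye23 ze56) (ke xe0 ye23 ze57) (ke xe1 ye53 ze19) (ke xe0 ye49 ze11) (ke xe0 ye23 ze61) (ke xe0 ye46 ze60) (ke xe0 ye47 ze4) (ke xe1 ye44 ze33) (ke xe1 ye44 ze34) (ke xe1 ye53 ze29) (ke xe1 ye53 ze23) (ke xe1 ye53 ze36) (ke xe0 ye24 ze0) (ke xe1 ye53 ze41) (ke xe1 ye53 ze43) (ke xe1 ye53 ze45) (ke xe0 ye24 ze1) (ke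 xe1 ye53 ze53) (ke xe1 ye53 ze57) (ke xe0 ye53 ze45) (ke xe1 ye39 ze8) (ke xe0 ye47 ze37) (ke xe1 ye38 ze54) (ke xe0 ye24 ze4) (ke xe1 ye54 ze0) (ke xe0 ye24 ze6) (ke xe1 ye54 ze6) (ke xe1 ye54 ze8) (ke xe1 ye54 ze10) (ke xe0 ye24 ze7) (ke xe1 ye38 ze35) (ke xe1 ye54 ze19) (ke xe0 ye46 ze5) (ke xe0 ye53 ze31) (ke xe1 ye53 ze3) (ke xe0 ye24 ze9) (ke xe0 ye45 ze51) (ke xe1 ye46 ze33) (ke xe1 ye45 ze55) (ke xe1 ye54 ze28) (ke xe0 ye24 ze12) (ke xe1 ye54 ze29) (ke xe1 ye54 ze32) (ke xe0 ye24 ze13) (ke xe0 ye24 ze14) (ke xe1 ye54 ze38) (ke xe1 ye39 ze14) (ke xe0 ye46 ze44) (ke xe0 ye46 ze41) (ke xe1 ye53 ze16)) (@D3.rec (fun _ => Pt) (ke xe0 ye24 ze16) (ke xe0 ye47 ze33) (ke xe0 ye50 ze41) (ke xe0 ye24 ze21) (ke xe1 ye47 ze6) (ke xe1 ye54 ze50) (ke xe1 ye54 ze54) (ke xe1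 ye40 ze44) (ke xe0 ye24 ze20) (ke xe1 ye54 ze43) (ke xe1 ye48 ze23) (ke xe1 ye54 ze61) (ke xe1 ye55 ze3) (ke xe0 ye24 ze24) (ke xe0 ye47 ze55) (ke xe0 ye48 ze51) (ke xe1 ye26 ze30) (ke xe1 ye55 ze7) (ke xe0 ye24 ze30) (ke xe1 ye40 ze38) (ke xe0 ye24 ze32) (ke xe1 ye55 ze14) (ke xe1 ye55 ze16) (ke xe1 ye55 ze10) (ke xe0 ye54 ze24) (ke xe1 ye55 ze23) (ke xe1 ye55 ze25) (ke xe0 ye24 ze34) (ke xe1 ye55 ze28) (ke xe0 ye24 ze39) (ke xe1 ye27 ze35) (ke xe1 ye55 ze36) (ke xe0 ye24 ze37) (ke xe1 ye0 ze61) (ke xe1 ye55 ze41) (ke xe1 ye55 ze31) (ke xe1 ye55 ze46) (ke xe1 ye55 ze47) (ke xe0 ye24 ze40) (ke xe0 ye24 ze41) (ke xe0 ye24 ze42) (ke xe1 ye55 ze57) (ke xe1 ye55 ze60) (ke xe0 ye57 ze16) (ke xe0 ye54 ze44) (ke xe1 ye56 ze4) (ke xe1 ye56 ze5) (ke xe0 ye57 ze24) (ke xe1 ye56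 ze8) (ke xe1 ye56 ze10) (ke xe0 ye24 ze46) (ke xe0 ye26 ze38) (ke xe0 ye55 ze56) (ke xe0 ye24 ze48) (ke xe0 ye39 ze38) (ke xe0 ye24 ze51) (ke xe1 ye56 ze13) (ke xe0 ye24 ze52) (ke xe0 ye24 ze55) (ke xe1 ye56 ze20) (ke xe1 ye27 ze41) (ke xe1 ye56 ze25)) (@D3.rec (fun _ => Pt) (ke xe1 ye56 ze29) (ke xe1 ye56 ze16) (ke xe1 ye56 ze34) (ke xe0 ye24 ze56) (ke xe0 ye25 ze37) (ke xe0 ye24 ze61) (ke xe0 ye55 ze6) (ke xe1 ye56 ze42) (ke xe0 ye24 ze58) (ke xe1 ye56 ze45) (ke xe0 ye25 ze0) (ke xe1 ye27 ze50) (ke xe1 ye56 ze46) (ke xe1 ye56 ze53) (ke xe1 ye8 ze45) (ke xe0 ye55 ze15) (ke xe0 ye55 ze42) (ke xe0 ye25 ze2) (ke xe1 ye56 ze59) (ke xe0 ye25 ze7) (ke xe1 ye57 ze1) (ke xe1 ye57 ze3) (ke xe0 ye25 ze5) (ke xe0 ye25 ze6) (ke xe1 ye56 ze60) (ke xe1 ye57 ze14) (ke xe1 ye57 ze15)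 (ke xe0 ye25 ze8) (ke xe0 ye25 ze9) (ke xe0 ye25 ze10) (ke xe1 ye57 ze19) (ke xe0 ye55 ze31) (ke xe1 ye10 ze16) (ke xe0 ye25 ze12) (ke xe0 ye32 ze0) (ke xe0 ye25 ze13) (ke xe1 ye57 ze30) (ke xe1 ye57 ze34) (ke xe0 ye25 ze15) (ke xe1 ye57 ze36) (ke xe1 ye11 ze7) (ke xe0 ye25 ze16) (ke xe0 ye55 ze16) (ke xe1 ye57 ze41) (ke xe1 ye1 ze49) (ke xe1 ye28 ze0) (ke xe1 ye19 ze10) (ke xe1 ye57 ze50) (ke xe1 ye11 ze18) (ke xe0 ye55 ze49) (ke xe1 ye57 ze56) (ke xe1 ye57 ze60) (ke xe0 ye25 ze20) (ke xe1 ye58 ze0) (ke xe1 ye27 ze49) (ke xe0 ye25 ze21) (ke xe0 ye54 ze52) (ke xe1 ye58 ze5) (ke xe0 ye40 ze43) (ke xe1 ye58 ze11) (ke xe1 ye15 ze15) (ke xe0 ye55 ze61)) (@D3.rec (fun _ => Pt) (ke xe0 ye25 ze25) (ke xe1 ye58 ze17) (ke xe0 ye56 ze2) (ke xe1 ye58 ze25) (ke xe0 ye57 ze40) (ke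 xe0 ye56 ze5) (ke xe1 ye58 ze30) (ke xe1 ye58 ze33) (ke xe0 ye25 ze31) (ke xe0 ye56 ze9) (ke xe1 ye58 ze39) (ke xe1 ye58 ze43) (ke xe0 ye25 ze29) (ke xe1 ye58 ze50) (ke xe1 ye58 ze52) (ke xe0 ye25 ze30) (ke xe1 ye58 ze58) (ke xe1 ye58 ze61) (ke xe1 ye58 ze36) (ke xe1 ye59 ze5) (ke xe1 ye59 ze9) (ke xe0 ye25 ze33) (ke xe1 ye56 ze43) (ke xe1 ye59 ze15) (ke xe0 ye25 ze34) (ke xe0 ye56 ze32) (ke xe1 ye57 ze32) (ke xe1 ye57 ze28) (ke xe1 ye59 ze19) (ke xe1 ye59 ze21) (ke xe0 ye25 ze36) (ke xe1 ye0 ze46) (ke xe0 ye56 ze25) (ke xe1 ye56 ze38) (ke xe1 ye57 ze27) (ke xe1 ye59 ze30) (ke xe0 ye25 ze39) (ke xe1 ye2 ze21) (ke xe0 ye25 ze40) (ke xe0 ye28 ze7) (ke xe1 ye59 ze32) (ke xe0 ye42 ze0) (ke xe1 ye28 ze23) (ke xe1 ye59 ze36) (ke xe1 ye59 ze37) (ke xe0 ye25 ze43) (ke xe0 ye25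 ze44) (ke xe0 ye25 ze45) (ke xe1 ye59 ze47) (ke xe1 ye59 ze50) (ke xe0 ye32 ze22) (ke xe0 ye56 ze51) (ke xe1 ye59 ze56) (ke xe1 ye59 ze57) (ke xe0 ye32 ze26) (ke xe1 ye59 ze61) (ke xe2 ye0 ze2) (ke xe0 ye25 ze49) (ke xe0 ye42 ze13) (ke xe0 ye26 ze42) (ke xe2 ye0 ze5) (ke xe0 ye25 ze50)) (@D3.rec (fun _ => Pt) (ke xe0 ye38 ze60) (ke xe1 ye11 ze8) (ke xe0 ye32 ze35) (ke xe0 ye32 ze37) (ke xe2 ye0 ze12) (ke xe0 ye25 ze55) (ke xe0 ye37 ze23) (ke xe2 ye0 ze19) (ke xe1 ye28 ze29) (ke xe2 ye0 ze21) (ke xe2 ye0 ze22) (ke xe0 ye25 ze58) (ke xe0 ye25 ze59) (ke xe0 ye25 ze60) (ke xe2 ye0 ze32) (ke xe2 ye0 ze36) (ke xe0 ye54 ze43) (ke xe0 ye57 ze17) (ke xe1 ye19 ze46) (ke xe2 ye0 ze44) (ke xe2 ye0 ze46) (ke xe2 ye0 ze48) (ke xe0 ye26 ze1) (ke xe2 ye0 ze50) (ke xe0 ye54 ze47) (ke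 xe2 ye0 ze54) (ke xe1 ye6 ze35) (ke xe0 ye27 ze30) (ke xe2 ye0 ze56) (ke xe0 ye26 ze4) (ke xe1 ye5 ze11) (ke xe1 ye27 ze42) (ke xe0 ye26 ze9) (ke xe0 ye39 ze4) (ke xe2 ye1 ze3) (ke xe1 ye19 ze20) (ke xe0 ye26 ze11) (ke xe2 ye1 ze5) (ke xe0 ye26 ze12) (ke xe2 ye1 ze11) (ke xe0 ye56 ze4) (ke xe0 ye57 ze41) (ke xe0 ye26 ze14) (ke xe0 ye26 ze15) (ke xe2 ye1 ze22) (ke xe1 ye14 ze36) (ke xe0 ye57 ze46) (ke xe2 ye1 ze29) (ke xe2 ye1 ze31) (ke xe0 ye59 ze38) (ke xe0 ye57 ze50) (ke xe2 ye1 ze37) (ke xe2 ye1 ze40) (ke xe2 ye1 ze44) (ke xe0 ye26 ze18) (ke xe2 ye1 ze52) (ke xe2 ye1 ze55) (ke xe2 ye1 ze57) (ke xe0 ye26 ze19) (ke xe2 ye2 ze1) (ke xe2 ye2 ze5) (ke xe0 ye59 ze48)) (@D3.rec (fun _ => Pt) (ke xe2 ye2 ze11) (ke xe0 ye58 ze1) (ke xe2 ye2 ze14) (ke xe2 ye2 ze17) (ke xe2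 ye2 ze21) (ke xe0 ye26 ze22) (ke xe2 ye2 ze26) (ke xe2 ye2 ze29) (ke xe0 ye26 ze23) (ke xe0 ye35 ze53) (ke xe1 ye0 ze5) (ke xe0 ye58 ze11) (ke xe2 ye2 ze36) (ke xe2 ye2 ze39) (ke xe0 ye26 ze25) (ke xe2 ye2 ze43) (ke xe0 ye26 ze26) (ke xe2 ye2 ze45) (ke xe0 ye59 ze59) (ke xe2 ye2 ze50) (ke xe2 ye2 ze52) (ke xe0 ye26 ze28) (ke xe2 ye2 ze59) (ke xe2 ye2 ze61) (ke xe0 ye26 ze29) (ke xe2 ye3 ze4) (ke xe1 ye30 ze19) (ke xe1 ye0 ze14) (ke xe2 ye3 ze10) (ke xe2 ye3 ze11) (ke xe0 ye26 ze31) (ke xe1 ye55 ze26) (ke xe2 ye3 ze15) (ke xe0 ye26 ze33) (ke xe0 ye26 ze53) (ke xe0 ye59 ze26) (ke xe1 ye59 ze28) (ke xe1 ye0 ze35) (ke xe0 ye58 ze38) (ke xe2 ye3 ze22) (ke xe2 ye3 ze26) (ke xe0 ye26 ze35) (ke xe2 ye3 ze32) (ke xe2 ye3 ze35) (ke xe2 ye3 ze37) (ke xe0 ye26 ze36) (ke xe0 ye58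 ze58) (ke xe1 ye0 ze43) (ke xe1 ye1 ze33) (ke xe0 ye36 ze12) (ke xe1 ye18 ze34) (ke xe0 ye40 ze55) (ke xe0 ye58 ze52) (ke xe2 ye3 ze47) (ke xe2 ye3 ze51) (ke xe0 ye26 ze44) (ke xe2 ye3 ze56) (ke xe0 ye26 ze45) (ke xe0 ye58 ze46) (ke xe1 ye0 ze24) (ke xe0 ye33 ze8) (ke xe2 ye4 ze0)) (@D3.rec (fun _ => Pt) (ke xe0 ye26 ze51) (ke xe1 ye8 ze41) (ke xe1 ye27 ze34) (ke xe2 ye4 ze4) (ke xe0 ye29 ze50) (ke xe1 ye20 ze39) (ke xe2 ye4 ze8) (ke xe0 ye26 ze56) (ke xe2 ye4 ze12) (ke xe0 ye26 ze57) (ke xe0 ye26 ze58) (ke xe0 ye26 ze59) (ke xe2 ye4 ze23) (ke xe2 ye4 ze27) (ke xe2 ye4 ze19) (ke xe0 ye59 ze15) (ke xe1 ye59 ze25) (ke xe0 ye27 ze1) (ke xe0 ye59 ze18) (ke xe2 ye4 ze37) (ke xe0 ye27 ze0) (ke xe2 ye4 ze42) (ke xe2 ye4 ze44) (ke xe2 ye4 ze34) (ke xe2 ye4 ze48) (ke xe0 ye33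 ze17) (ke xe0 ye58 ze35) (ke xe1 ye9 ze9) (ke xe2 ye4 ze51) (ke xe1 ye14 ze7) (ke xe0 ye59 ze30) (ke xe2 ye4 ze55) (ke xe0 ye27 ze6) (ke xe2 ye4 ze59) (ke xe1 ye14 ze10) (ke xe0 ye59 ze35) (ke xe2 ye5 ze3) (ke xe2 ye5 ze5) (ke xe0 ye57 ze49) (ke xe0 ye59 ze39) (ke xe2 ye5 ze13) (ke xe0 ye27 ze9) (ke xe2 ye5 ze19) (ke xe2 ye5 ze21) (ke xe2 ye5 ze23) (ke xe0 ye27 ze10) (ke xe2 ye5 ze27) (ke xe2 ye5 ze30) (ke xe0 ye57 ze61) (ke xe2 ye5 ze36) (ke xe0 ye59 ze50) (ke xe2 ye5 ze40) (ke xe2 ye5 ze44) (ke xe0 ye27 ze13) (ke xe2 ye5 ze50) (ke xe2 ye5 ze52) (ke xe2 ye5 ze54) (ke xe0 ye27 ze14) (ke xe1 ye0 ze4) (ke xe0 ye58 ze18) (ke xe0 ye59 ze60) (ke xe2 ye5 ze60))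
def f_e_1 : D2 → D3 → Pt := @D2.rec (fun _ => D3 → Pt) (@D3.rec (fun _ => Pt) (ke xe2 ye6 ze2) (ke xe0 ye27 ze16) (ke xe2 ye6 ze7) (ke xe0 ye27 ze17) (ke xe0 ye59 ze58) (ke xe0 ye58 ze10) (ke xe2 ye6 ze12) (ke xe2 ye6 ze14) (ke xe0 ye27 ze19) (ke xe2 ye6 ze20) (ke xe2 ye6 ze22) (ke xe0 ye27 ze20) (ke xe2 ye6 ze27) (ke xe2 ye6 ze29) (ke xe0 ye58 ze27) (ke xe0 ye27 ze22) (ke xe1 ye0 ze16) (ke xe2 ye6 ze38) (ke xe2 ye6 ze42) (ke xe0 ye27 ze23) (ke xe2 ye6 ze47) (ke xe2 ye6 ze49) (ke xe0 ye27 ze24) (ke xe0 ye36 ze44) (ke xe0 ye58 ze59) (ke xe1 ye10 ze17) (ke xe0 ye35 ze41) (ke xe2 ye6 ze58) (ke xe0 ye27 ze27) (ke xe1 ye5 ze46) (ke xe2 ye7 ze0) (ke xe0 ye27 ze32) (ke xe1 ye0 ze49) (ke xe1 ye9 ze8) (ke xe1 ye0 ze50) (ke xe0 ye58 ze37) (ke xe1 ye0 ze36) (ke xe2 ye7 ze8) (ke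 xe2 ye7 ze12) (ke xe0 ye27 ze35) (ke xe2 ye7 ze18) (ke xe0 ye27 ze36) (ke xe2 ye7 ze20) (ke xe0 ye58 ze47) (ke xe0 ye33 ze51) (ke xe1 ye9 ze36) (ke xe0 ye56 ze31) (ke xe1 ye11 ze13) (ke xe1 ye0 ze48) (ke xe1 ye0 ze32) (ke xe1 ye0 ze34) (ke xe1 ye31 ze29) (ke xe0 ye28 ze17) (ke xe1 ye10 ze45) (ke xe0 ye27 ze46) (ke xe2 ye7 ze40) (ke xe1 ye11 ze15) (ke xe1 ye0 ze57) (ke xe2 ye7 ze44) (ke xe0 ye42 ze4) (ke xe0 ye27 ze48) (ke xe0 ye54 ze33)) (@D3.rec (fun _ => Pt) (ke xe1 ye2 ze5) (ke xe0 ye27 ze51) (ke xe2 ye7 ze51) (ke xe1 ye1 ze3) (ke xe0 ye27 ze53) (ke xe0 ye27 ze54) (ke xe2 ye7 ze58) (ke xe1 ye1 ze7) (ke xe0 ye27 ze56) (ke xe0 ye27 ze57) (ke xe0 ye27 ze58) (ke xe2 ye8 ze6) (ke xe2 ye8 ze3) (ke xe1 ye1 ze13) (ke xe2 ye8 ze11) (ke xe0 ye28 ze1) (ke xe1 ye1 ze16) (ke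 xe2 ye8 ze17) (ke xe0 ye27 ze61) (ke xe2 ye8 ze21) (ke xe2 ye8 ze23) (ke xe0 ye28 ze0) (ke xe2 ye8 ze25) (ke xe2 ye8 ze28) (ke xe2 ye8 ze13) (ke xe2 ye8 ze34) (ke xe2 ye8 ze36) (ke xe2 ye8 ze38) (ke xe0 ye28 ze3) (ke xe0 ye37 ze52) (ke xe2 ye8 ze44) (ke xe0 ye28 ze4) (ke xe0 ye31 ze36) (ke xe0 ye58 ze48) (ke xe2 ye8 ze47) (ke xe2 ye8 ze49) (ke xe0 ye28 ze6) (ke xe1 ye58 ze6) (ke xe2 ye8 ze54) (ke xe0 ye28 ze9) (ke xe2 ye8 ze60) (ke xe0 ye28 ze10) (ke xe2 ye9 ze2) (ke xe2 ye9 ze5) (ke xe0 ye28 ze23) (ke xe2 ye9 ze14) (ke xe2 ye9 ze16) (ke xe0 ye28 ze12) (ke xe2 ye9 ze19) (ke xe0 ye55 ze44) (ke xe2 ye9 ze26) (ke xe2 ye9 ze27) (ke xe0 ye28 ze13) (ke xe2 ye9 ze33) (ke xe0 ye42 ze5) (ke xe2 ye9 ze38) (ke xe2 ye9 ze39) (ke xe0 ye28 ze15) (ke xe0 ye34 ze4) (ke xe1 ye28 ze48)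 (ke xe2 ye7 ze34) (ke xe2 ye9 ze48)) (@D3.rec (fun _ => Pt) (ke xe2 ye9 ze53) (ke xe2 ye9 ze54) (ke xe0 ye28 ze18) (ke xe2 ye9 ze32) (ke xe2 ye8 ze55) (ke xe1 ye1 ze0) (ke xe2 ye9 ze61) (ke xe0 ye28 ze21) (ke xe2 ye10 ze6) (ke xe2 ye10 ze7) (ke xe0 ye28 ze22) (ke xe2 ye10 ze15) (ke xe2 ye10 ze20) (ke xe2 ye9 ze8) (ke xe2 ye10 ze25) (ke xe2 ye10 ze27) (ke xe2 ye10 ze29) (ke xe2 ye10 ze31) (ke xe0 ye28 ze24) (ke xe2 ye10 ze35) (ke xe0 ye28 ze25) (ke xe0 ye56 ze37) (ke xe2 ye10 ze43) (ke xe0 ye28 ze27) (ke xe2 ye10 ze49) (ke xe0 ye34 ze53) (ke xe1 ye2 ze26) (ke xe2 ye10 ze54) (ke xe0 ye34 ze57) (ke xe1 ye2 ze29) (ke xe2 ye10 ze59) (ke xe1 ye24 ze56) (ke xe1 ye2 ze32) (ke xe2 ye11 ze2) (ke xe2 ye11 ze6) (ke xe0 ye28 ze31) (ke xe2 ye11 ze11) (ke xe0 ye28 ze32) (ke xe2 ye11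 ze15) (ke xe2 ye11 ze17) (ke xe1 ye25 ze6) (ke xe2 ye11 ze23) (ke xe2 ye11 ze27) (ke xe0 ye28 ze35) (ke xe2 ye11 ze32) (ke xe1 ye22 ze30) (ke xe0 ye28 ze36) (ke xe0 ye31 ze38) (ke xe0 ye35 ze50) (ke xe1 ye2 ze49) (ke xe2 ye11 ze42) (ke xe0 ye28 ze38) (ke xe2 ye11 ze45) (ke xe0 ye28 ze39) (ke xe2 ye11 ze49) (ke xe2 ye11 ze52) (ke xe0 ye28 ze41) (ke xe2 ye11 ze59) (ke xe2 ye12 ze0) (ke xe0 ye28 ze42) (ke xe2 ye12 ze6) (ke xe2 ye12 ze9)) (@D3.rec (fun _ => Pt) (ke xe1 ye25 ze25) (ke xe2 ye12 ze17) (ke xe2 ye12 ze18) (ke xe0 ye28 ze44) (ke xe1 ye22 ze8) (ke xe0 ye28 ze45) (ke xe0 ye31 ze47) (ke xe0 ye36 ze30) (ke xe2 ye12 ze22) (ke xe2 ye12 ze24) (ke xe0 ye28 ze47) (ke xe0 ye36 ze37) (ke xe0 ye34 ze2) (ke xe0 ye37 ze53) (ke xe0 ye37 ze48) (ke xe1 ye24 ze47) (ke xe2 ye12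 ze32) (ke xe0 ye28 ze51) (ke xe0 ye29 ze15) (ke xe1 ye24 ze45) (ke xe1 ye3 ze20) (ke xe2 ye12 ze41) (ke xe0 ye28 ze55) (ke xe2 ye12 ze45) (ke xe0 ye28 ze56) (ke xe1 ye25 ze40) (ke xe2 ye12 ze53) (ke xe0 ye28 ze60) (ke xe1 ye9 ze15) (ke xe0 ye28 ze61) (ke xe2 ye12 ze57) (ke xe0 ye29 ze31) (ke xe0 ye37 ze37) (ke xe0 ye36 ze58) (ke xe2 ye13 ze2) (ke xe2 ye13 ze3) (ke xe0 ye29 ze2) (ke xe0 ye34 ze10) (ke xe0 ye36 ze48) (ke xe2 ye13 ze11) (ke xe2 ye13 ze12) (ke xe0 ye29 ze4) (ke xe2 ye13 ze20) (ke xe2 ye13 ze21) (ke xe0 ye29 ze5) (ke xe2 ye13 ze9) (ke xe2 ye13 ze31) (ke xe0 ye29 ze41) (ke xe2 ye13 ze36) (ke xe2 ye13 ze38) (ke xe2 ye13 ze40) (ke xe2 ye13 ze42) (ke xe2 ye13 ze44) (ke xe0 ye29 ze7) (ke xe2 ye13 ze48) (ke xe0 ye29 ze8) (ke xe0 ye29 ze10) (ke xe1 ye22 ze12) (ke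 xe2 ye13 ze50) (ke xe0 ye37 ze34) (ke xe2 ye13 ze55) (ke xe0 ye29 ze12)) (@D3.rec (fun _ => Pt) (ke xe0 ye29 ze13) (ke xe2 ye13 ze57) (ke xe2 ye12 ze35) (ke xe0 ye36 ze46) (ke xe2 ye14 ze5) (ke xe0 ye29 ze30) (ke xe0 ye29 ze16) (ke xe2 ye14 ze9) (ke xe2 ye12 ze49) (ke xe0 ye29 ze18) (ke xe2 ye14 ze15) (ke xe0 ye29 ze19) (ke xe2 ye14 ze16) (ke xe0 ye34 ze9) (ke xe0 ye36 ze15) (ke xe0 ye38 ze11) (ke xe2 ye12 ze55) (ke xe0 ye39 ze26) (ke xe2 ye14 ze25) (ke xe0 ye29 ze26) (ke xe2 ye12 ze60) (ke xe2 ye14 ze29) (ke xe2 ye14 ze31) (ke xe2 ye14 ze33) (ke xe0 ye29 ze27) (ke xe0 ye29 ze28) (ke xe0 ye38 ze6) (ke xe2 ye12 ze54) (ke xe2 ye14 ze37) (ke xe0 ye33 ze38) (ke xe2 ye14 ze6) (ke xe2 ye12 ze58) (ke xe2 ye14 ze45) (ke xe2 ye13 ze8) (ke xe2 ye14 ze54) (ke xe2 ye14 ze56) (ke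 xe0 ye29 ze33) (ke xe0 ye29 ze34) (ke xe2 ye15 ze1) (ke xe0 ye38 ze35) (ke xe2 ye13 ze15) (ke xe2 ye15 ze10) (ke xe2 ye15 ze13) (ke xe2 ye15 ze17) (ke xe2 ye15 ze19) (ke xe0 ye29 ze36) (ke xe0 ye29 ze37) (ke xe2 ye15 ze26) (ke xe0 ye38 ze26) (ke xe2 ye15 ze30) (ke xe2 ye0 ze3) (ke xe2 ye15 ze37) (ke xe2 ye15 ze43) (ke xe2 ye15 ze47) (ke xe0 ye29 ze39) (ke xe2 ye15 ze52) (ke xe0 ye38 ze61) (ke xe2 ye15 ze57) (ke xe2 ye15 ze59) (ke xe0 ye29 ze40) (ke xe2 ye16 ze2) (ke xe2 ye16 ze5)) (@D3.rec (fun _ => Pt) (ke xe2 ye16 ze7) (ke xe2 ye16 ze11) (ke xe0 ye29 ze42) (ke xe0 ye29 ze43) (ke xe2 ye16 ze19) (ke xe0 ye29 ze44) (ke xe2 ye16 ze26) (ke xe0 ye29 ze45) (ke xe2 ye16 ze33) (ke xe0 ye42 ze29) (ke xe0 ye44 ze51) (ke xe0 ye57 ze30) (ke xe2 ye15 ze53) (ke xe0 ye44 ze50) (ke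 xe0 ye39 ze28) (ke xe0 ye39 ze33) (ke xe0 ye33 ze21) (ke xe0 ye38 ze7) (ke xe0 ye39 ze51) (ke xe0 ye29 ze49) (ke xe2 ye4 ze5) (ke xe2 ye16 ze51) (ke xe0 ye39 ze1) (ke xe0 ye29 ze57) (ke xe2 ye16 ze59) (ke xe1 ye20 ze47) (ke xe2 ye17 ze1) (ke xe2 ye16 ze55) (ke xe2 ye17 ze3) (ke xe0 ye29 ze58) (ke xe2 ye17 ze9) (ke xe0 ye29 ze59) (ke xe2 ye17 ze11) (ke xe2 ye17 ze13) (ke xe0 ye29 ze60) (ke xe2 ye17 ze16) (ke xe0 ye43 ze34) (ke xe2 ye17 ze19) (ke xe2 ye17 ze24) (ke xe0 ye30 ze0) (ke xe2 ye17 ze29) (ke xe0 ye30 ze1) (ke xe2 ye17 ze37) (ke xe2 ye17 ze41) (ke xe1 ye29 ze10) (ke xe1 ye27 ze44) (ke xe1 ye0 ze29) (ke xe2 ye12 ze29) (ke xe2 ye17 ze46) (ke xe2 ye17 ze47) (ke xe0 ye30 ze4) (ke xe2 ye16 ze22) (ke xe0 ye42 ze11) (ke xe1 ye10 ze28) (ke xe0 ye30 ze6) (ke xe2 ye17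 ze57) (ke xe0 ye39 ze55) (ke xe0 ye30 ze7) (ke xe2 ye17 ze59) (ke xe1 ye29 ze24) (ke xe0 ye45 ze10) (ke xe1 ye31 ze53)) (@D3.rec (fun _ => Pt) (ke xe0 ye51 ze1) (ke xe2 ye17 ze61) (ke xe0 ye30 ze12) (ke xe0 ye42 ze35) (ke xe2 ye18 ze5) (ke xe2 ye18 ze9) (ke xe0 ye30 ze13) (ke xe0 ye43 ze8) (ke xe1 ye6 ze8) (ke xe2 ye18 ze12) (ke xe0 ye42 ze34) (ke xe1 ye33 ze1) (ke xe2 ye18 ze11) (ke xe0 ye30 ze18) (ke xe0 ye42 ze38) (ke xe2 ye18 ze15) (ke xe1 ye6 ze16) (ke xe2 ye18 ze33) (ke xe2 ye18 ze26) (ke xe2 ye18 ze36) (ke xe1 ye6 ze20) (ke xe2 ye18 ze41) (ke xe0 ye30 ze22) (ke xe2 ye18 ze47) (ke xe2 ye18 ze48) (ke xe0 ye30 ze23) (ke xe1 ye12 ze44) (ke xe1 ye10 ze12) (ke xe0 ye40 ze50) (ke xe2 ye18 ze54) (ke xe2 ye18 ze57) (ke xe2 ye18 ze58) (ke xe0 ye30 ze25) (ke xe2 ye16 ze29)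 (ke xe0 ye41 ze0) (ke xe0 ye57 ze26) (ke xe0 ye32 ze12) (ke xe1 ye7 ze2) (ke xe1 ye7 ze3) (ke xe2 ye19 ze4) (ke xe2 ye19 ze5) (ke xe0 ye30 ze31) (ke xe2 ye19 ze8) (ke xe0 ye30 ze32) (ke xe2 ye19 ze12) (ke xe2 ye19 ze15) (ke xe2 ye19 ze19) (ke xe0 ye30 ze33) (ke xe0 ye30 ze44) (ke xe2 ye19 ze21) (ke xe0 ye41 ze43) (ke xe0 ye42 ze28) (ke xe2 ye19 ze31) (ke xe0 ye30 ze36) (ke xe0 ye41 ze49) (ke xe2 ye19 ze34) (ke xe2 ye3 ze36) (ke xe2 ye19 ze38) (ke xe0 ye30 ze38) (ke xe0 ye43 ze2) (ke xe2 ye15 ze27) (ke xe0 ye30 ze41)) (@D3.rec (fun _ => Pt) (ke xe2 ye19 ze43) (ke xe2 ye19 ze45) (ke xe1 ye6 ze37) (ke xe1 ye6 ze38) (ke xe2 ye19 ze23) (ke xe2 ye19 ze24) (ke xe0 ye30 ze46) (ke xe0 ye30 ze45) (ke xe2 ye19 ze48) (ke xe0 ye41 ze40) (ke xe1 ye29 ze55) (ke xe2 ye19 ze54) (ke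 xe2 ye19 ze56) (ke xe0 ye30 ze50) (ke xe1 ye37 ze41) (ke xe2 ye19 ze60) (ke xe2 ye20 ze0) (ke xe2 ye20 ze2) (ke xe2 ye20 ze5) (ke xe2 ye20 ze8) (ke xe0 ye30 ze53) (ke xe2 ye20 ze12) (ke xe2 ye20 ze13) (ke xe0 ye43 ze43) (ke xe2 ye20 ze14) (ke xe2 ye20 ze16) (ke xe0 ye43 ze28) (ke xe2 ye20 ze18) (ke xe0 ye30 ze57) (ke xe1 ye7 ze29) (ke xe1 ye7 ze30) (ke xe2 ye20 ze22) (ke xe2 ye20 ze24) (ke xe2 ye20 ze27) (ke xe2 ye20 ze29) (ke xe2 ye20 ze34) (ke xe0 ye30 ze61) (ke xe0 ye31 ze0) (ke xe1 ye49 ze47) (ke xe0 ye31 ze2) (ke xe0 ye43 ze38) (ke xe1 ye30 ze56) (ke xe2 ye20 ze41) (ke xe2 ye20 ze43) (ke xe2 ye20 ze48) (ke xe0 ye31 ze5) (ke xe2 ye20 ze52) (ke xe2 ye20 ze57) (ke xe0 ye31 ze6) (ke xe0 ye45 ze0) (ke xe2 ye21 ze4) (ke xe0 ye31 ze7) (ke xe2 ye21 ze10) (ke xe2 ye21 ze13)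 (ke xe2 ye21 ze18) (ke xe2 ye21 ze22) (ke xe0 ye31 ze8) (ke xe2 ye21 ze28) (ke xe2 ye21 ze31) (ke xe2 ye21 ze33) (ke xe2 ye21 ze34) (ke xe0 ye31 ze10)) (@D3.rec (fun _ => Pt) (ke xe0 ye41 ze8) (ke xe2 ye18 ze37) (ke xe2 ye21 ze36) (ke xe2 ye21 ze45) (ke xe2 ye21 ze49) (ke xe0 ye31 ze12) (ke xe1 ye33 ze47) (ke xe2 ye21 ze57) (ke xe0 ye45 ze17) (ke xe0 ye44 ze43) (ke xe2 ye22 ze1) (ke xe2 ye22 ze3) (ke xe0 ye31 ze14) (ke xe2 ye19 ze47) (ke xe1 ye37 ze0) (ke xe0 ye45 ze3) (ke xe0 ye44 ze36) (ke xe2 ye22 ze17) (ke xe2 ye22 ze20) (ke xe2 ye22 ze21) (ke xe0 ye31 ze16) (ke xe2 ye22 ze28) (ke xe2 ye22 ze31) (ke xe0 ye39 ze0) (ke xe0 ye38 ze59) (ke xe1 ye37 ze7) (ke xe1 ye37 ze12) (ke xe1 ye37 ze14) (ke xe2 ye22 ze45) (ke xe2 ye22 ze48) (ke xe0 ye31 ze19) (ke xe0 ye31 ze20)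 (ke xe2 ye22 ze51) (ke xe2 ye21 ze0) (ke xe0 ye31 ze23) (ke xe2 ye22 ze58) (ke xe2 ye22 ze61) (ke xe2 ye22 ze56) (ke xe2 ye23 ze1) (ke xe0 ye31 ze24) (ke xe2 ye23 ze7) (ke xe0 ye59 ze1) (ke xe1 ye8 ze42) (ke xe2 ye23 ze13) (ke xe2 ye23 ze15) (ke xe0 ye55 ze14) (ke xe1 ye8 ze46) (ke xe2 ye23 ze21) (ke xe2 ye23 ze23) (ke xe2 ye23 ze26) (ke xe0 ye31 ze27) (ke xe2 ye23 ze31) (ke xe2 ye23 ze33) (ke xe2 ye23 ze35) (ke xe0 ye31 ze28) (ke xe2 ye23 ze39) (ke xe2 ye23 ze42) (ke xe1 ye9 ze20) (ke xe2 ye23 ze48) (ke xe2 ye23 ze51) (ke xe0 ye31 ze31) (ke xe2 ye23 ze57)) (@D3.rec (fun _ => Pt) (ke xe0 ye31 ze32) (ke xe1 ye9 ze26) (ke xe2 ye24 ze4) (ke xe2 ye24 ze5) (ke xe0 ye31 ze34) (ke xe2 ye24 ze8) (ke xe0 ye31 ze35) (ke xe2 ye8 ze18) (ke xe1 ye0 ze33) (ke xe0 ye59 ze27) (ke xe2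 ye11 ze7) (ke xe0 ye33 ze60) (ke xe0 ye31 ze44) (ke xe2 ye24 ze14) (ke xe1 ye19 ze2) (ke xe1 ye3 ze28) (ke xe1 ye9 ze17) (ke xe1 ye9 ze16) (ke xe2 ye24 ze18) (ke xe2 ye24 ze20) (ke xe1 ye8 ze57) (ke xe2 ye24 ze26) (ke xe2 ye24 ze29) (ke xe0 ye31 ze53) (ke xe2 ye24 ze35) (ke xe0 ye31 ze54) (ke xe1 ye9 ze1) (ke xe0 ye31 ze56) (ke xe1 ye15 ze61) (ke xe0 ye33 ze19) (ke xe1 ye10 ze11) (ke xe1 ye57 ze4) (ke xe0 ye32 ze1) (ke xe2 ye24 ze46) (ke xe1 ye57 ze58) (ke xe1 ye26 ze21) (ke xe1 ye0 ze45) (ke xe0 ye42 ze12) (ke xe0 ye36 ze16) (ke xe0 ye37 ze47) (ke xe0 ye32 ze14) (ke xe0 ye32 ze15) (ke xe2 ye3 ze61) (ke xe1 ye55 ze48) (ke xe1 ye9 ze44) (ke xe0 ye32 ze17) (ke xe2 ye25 ze4) (ke xe1 ye55 ze49) (ke xe1 ye9 ze48) (ke xe2 ye25 ze9) (ke xe2 ye3 ze59) (ke xe1 ye59 ze42) (ke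 xe1 ye9 ze52) (ke xe2 ye25 ze16) (ke xe2 ye25 ze19) (ke xe2 ye25 ze22) (ke xe0 ye32 ze20) (ke xe2 ye25 ze27) (ke xe2 ye25 ze29) (ke xe2 ye25 ze31) (ke xe0 ye32 ze21) (ke xe2 ye25 ze34)) (@D3.rec (fun _ => Pt) (ke xe2 ye25 ze37) (ke xe1 ye59 ze53) (ke xe2 ye25 ze43) (ke xe2 ye25 ze44) (ke xe0 ye32 ze24) (ke xe2 ye25 ze51) (ke xe0 ye32 ze25) (ke xe1 ye59 ze58) (ke xe2 ye25 ze60) (ke xe2 ye25 ze61) (ke xe0 ye32 ze27) (ke xe1 ye9 ze30) (ke xe1 ye6 ze27) (ke xe2 ye26 ze5) (ke xe0 ye32 ze28) (ke xe0 ye33 ze40) (ke xe0 ye55 ze32) (ke xe1 ye0 ze25) (ke xe2 ye26 ze11) (ke xe0 ye32 ze31) (ke xe1 ye28 ze58) (ke xe2 ye26 ze15) (ke xe0 ye32 ze34) (ke xe0 ye42 ze14) (ke xe1 ye57 ze42) (ke xe2 ye0 ze8) (ke xe0 ye32 ze38) (ke xe0 ye32 ze49) (ke xe1 ye5 ze53) (ke xe1 ye31 ze26) (ke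 xe2 ye26 ze25) (ke xe0 ye32 ze40) (ke xe1 ye28 ze30) (ke xe2 ye26 ze30) (ke xe2 ye26 ze36) (ke xe0 ye32 ze53) (ke xe2 ye26 ze41) (ke xe2 ye26 ze43) (ke xe2 ye26 ze45) (ke xe0 ye32 ze43) (ke xe2 ye26 ze49) (ke xe0 ye32 ze44) (ke xe2 ye26 ze51) (ke xe0 ye32 ze46) (ke xe2 ye17 ze56) (ke xe1 ye0 ze53) (ke xe2 ye26 ze59) (ke xe2 ye27 ze0) (ke xe2 ye27 ze3) (ke xe2 ye27 ze7) (ke xe2 ye27 ze11) (ke xe0 ye32 ze51) (ke xe2 ye27 ze16) (ke xe2 ye27 ze21) (ke xe2 ye27 ze23) (ke xe2 ye27 ze25) (ke xe0 ye32 ze52) (ke xe2 ye27 ze32) (ke xe2 ye27 ze35) (ke xe2 ye27 ze38) (ke xe2 ye27 ze42) (ke xe0 ye32 ze54)) (@D3.rec (fun _ => Pt) (ke xe2 ye27 ze47) (ke xe0 ye32 ze55) (ke xe2 ye27 ze52) (ke xe2 ye21 ze1) (ke xe2 ye22 ze38) (ke xe0 ye32 ze57) (ke xe2 ye27 ze55) (ke xe0 ye55 ze40) (ke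 xe0 ye57 ze1) (ke xe2 ye28 ze1) (ke xe0 ye40 ze54) (ke xe0 ye32 ze60) (ke xe0 ye32 ze61) (ke xe1 ye0 ze47) (ke xe0 ye33 ze1) (ke xe1 ye0 ze56) (ke xe2 ye12 ze43) (ke xe1 ye18 ze18) (ke xe0 ye55 ze48) (ke xe1 ye11 ze19) (ke xe2 ye28 ze14) (ke xe2 ye28 ze16) (ke xe2 ye28 ze20) (ke xe0 ye33 ze4) (ke xe2 ye28 ze22) (ke xe2 ye28 ze24) (ke xe2 ye28 ze26) (ke xe0 ye33 ze5) (ke xe2 ye28 ze30) (ke xe2 ye28 ze33) (ke xe1 ye12 ze56) (ke xe2 ye28 ze39) (ke xe2 ye28 ze43) (ke xe2 ye28 ze46) (ke xe2 ye28 ze48) (ke xe2 ye28 ze53) (ke xe0 ye33 ze9) (ke xe1 ye11 ze37) (ke xe2 ye28 ze59) (ke xe2 ye29 ze1) (ke xe0 ye33 ze10) (ke xe2 ye29 ze7) (ke xe0 ye33 ze11) (ke xe2 ye29 ze9) (ke xe2 ye29 ze13) (ke xe2 ye29 ze16) (ke xe0 ye33 ze13) (ke xe2 ye29 ze22) (ke xe2 ye29 ze25) (ke xe0 ye33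 ze14) (ke xe2 ye29 ze31) (ke xe2 ye29 ze34) (ke xe1 ye13 ze17) (ke xe2 ye29 ze42) (ke xe2 ye29 ze43) (ke xe0 ye33 ze16) (ke xe2 ye4 ze49) (ke xe2 ye29 ze49) (ke xe2 ye10 ze40) (ke xe1 ye20 ze38) (ke xe1 ye18 ze36) (ke xe2 ye29 ze60)) (@D3.rec (fun _ => Pt) (ke xe2 ye30 ze1) (ke xe1 ye17 ze43) (ke xe2 ye30 ze5) (ke xe0 ye33 ze20) (ke xe2 ye16 ze42) (ke xe2 ye16 ze44) (ke xe1 ye19 ze21) (ke xe2 ye30 ze13) (ke xe1 ye20 ze45) (ke xe1 ye18 ze37) (ke xe2 ye30 ze19) (ke xe2 ye30 ze23) (ke xe0 ye33 ze24) (ke xe2 ye30 ze26) (ke xe0 ye33 ze25) (ke xe2 ye30 ze28) (ke xe1 ye21 ze49) (ke xe2 ye30 ze35) (ke xe1 ye19 ze47) (ke xe2 ye30 ze40) (ke xe0 ye33 ze29) (ke xe2 ye30 ze42) (ke xe2 ye30 ze45) (ke xe0 ye33 ze30) (ke xe2 ye30 ze49) (ke xe2 ye30 ze50) (ke xe0 ye33 ze32) (ke xe2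 ye30 ze53) (ke xe2 ye30 ze56) (ke xe0 ye33 ze34) (ke xe2 ye30 ze61) (ke xe2 ye31 ze0) (ke xe0 ye33 ze35) (ke xe2 ye31 ze6) (ke xe2 ye31 ze7) (ke xe0 ye37 ze56) (ke xe2 ye31 ze15) (ke xe2 ye14 ze36) (ke xe2 ye31 ze18) (ke xe2 ye31 ze20) (ke xe2 ye31 ze22) (ke xe0 ye33 ze37) (ke xe2 ye31 ze26) (ke xe0 ye36 ze28) (ke xe1 ye6 ze26) (ke xe1 ye19 ze40) (ke xe0 ye33 ze43) (ke xe0 ye33 ze44) (ke xe2 ye31 ze28) (ke xe2 ye31 ze32) (ke xe0 ye33 ze47) (ke xe2 ye31 ze34) (ke xe2 ye31 ze36) (ke xe0 ye33 ze48) (ke xe2 ye31 ze40) (ke xe2 ye31 ze43) (ke xe1 ye11 ze30) (ke xe2 ye31 ze49) (ke xe1 ye12 ze58) (ke xe2 ye7 ze24) (ke xe2 ye6 ze4) (ke xe2 ye31 ze57)) (@D3.rec (fun _ => Pt) (ke xe2 ye31 ze60) (ke xe2 ye25 ze47) (ke xe2 ye32 ze2) (ke xe0 ye33 ze52) (ke xe2 ye32 ze9) (ke xe0 ye33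 ze53) (ke xe2 ye32 ze13) (ke xe0 ye33 ze54) (ke xe2 ye32 ze15) (ke xe2 ye32 ze20) (ke xe2 ye32 ze23) (ke xe0 ye33 ze56) (ke xe2 ye32 ze28) (ke xe2 ye32 ze31) (ke xe0 ye33 ze57) (ke xe2 ye32 ze37) (ke xe2 ye32 ze40) (ke xe1 ye11 ze52) (ke xe2 ye32 ze48) (ke xe2 ye32 ze49) (ke xe0 ye33 ze59) (ke xe2 ye32 ze54) (ke xe2 ye32 ze56) (ke xe2 ye11 ze55) (ke xe2 ye32 ze59) (ke xe0 ye33 ze61) (ke xe1 ye24 ze46) (ke xe0 ye36 ze38) (ke xe2 ye27 ze60) (ke xe1 ye26 ze15) (ke xe2 ye12 ze28) (ke xe2 ye33 ze8) (ke xe2 ye33 ze10) (ke xe2 ye33 ze14) (ke xe0 ye34 ze3) (ke xe1 ye28 ze22) (ke xe2 ye33 ze18) (ke xe2 ye9 ze43) (ke xe2 ye8 ze61) (ke xe2 ye33 ze27) (ke xe0 ye34 ze6) (ke xe2 ye33 ze30) (ke xe0 ye34 ze7) (ke xe2 ye33 ze32) (ke xe0 ye42 ze6) (ke xe2 ye33 ze37) (ke xe2 ye13 ze6)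 (ke xe2 ye33 ze40) (ke xe2 ye33 ze41) (ke xe0 ye34 ze11) (ke xe2 ye33 ze45) (ke xe0 ye34 ze13) (ke xe2 ye33 ze48) (ke xe2 ye33 ze49) (ke xe0 ye34 ze14) (ke xe2 ye33 ze56) (ke xe2 ye33 ze57) (ke xe0 ye34 ze16) (ke xe2 ye33 ze61) (ke xe2 ye34 ze0) (ke xe0 ye34 ze17) (ke xe1 ye19 ze44)) (@D3.rec (fun _ => Pt) (ke xe2 ye34 ze5) (ke xe2 ye34 ze7) (ke xe2 ye34 ze9) (ke xe2 ye34 ze11) (ke xe0 ye34 ze19) (ke xe2 ye34 ze15) (ke xe0 ye34 ze21) (ke xe0 ye59 ze29) (ke xe0 ye34 ze23) (ke xe0 ye34 ze24) (ke xe0 ye59 ze34) (ke xe2 ye2 ze4) (ke xe1 ye16 ze55) (ke xe1 ye14 ze40) (ke xe1 ye14 ze14) (ke xe2 ye34 ze28) (ke xe2 ye34 ze31) (ke xe2 ye34 ze34) (ke xe0 ye34 ze27) (ke xe2 ye34 ze36) (ke xe2 ye34 ze39) (ke xe2 ye34 ze41) (ke xe0 ye34 ze28) (ke xe2 ye34 ze45) (ke xe2 ye34 ze48)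 (ke xe1 ye14 ze55) (ke xe2 ye34 ze54) (ke xe2 ye34 ze56) (ke xe0 ye34 ze31) (ke xe2 ye34 ze61) (ke xe0 ye34 ze32) (ke xe1 ye14 ze61) (ke xe2 ye35 ze8) (ke xe2 ye35 ze9) (ke xe0 ye34 ze34) (ke xe0 ye34 ze35) (ke xe0 ye57 ze45) (ke xe0 ye34 ze37) (ke xe1 ye17 ze22) (ke xe2 ye11 ze28) (ke xe1 ye14 ze13) (ke xe1 ye14 ze41) (ke xe0 ye34 ze39) (ke xe0 ye34 ze40) (ke xe2 ye35 ze23) (ke xe2 ye35 ze26) (ke xe2 ye28 ze3) (ke xe1 ye14 ze47) (ke xe2 ye35 ze33) (ke xe0 ye34 ze42) (ke xe2 ye35 ze35) (ke xe2 ye35 ze37) (ke xe0 ye34 ze43) (ke xe2 ye35 ze40) (ke xe2 ye35 ze43) (ke xe1 ye14 ze25) (ke xe2 ye35 ze49) (ke xe2 ye35 ze51) (ke xe0 ye34 ze46) (ke xe2 ye35 ze56) (ke xe0 ye34 ze47) (ke xe1 ye14 ze31)) (@D3.rec (fun _ => Pt) (ke xe2 ye36 ze3) (ke xe2 ye36 ze4) (ke xe0 ye34 ze49)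 (ke xe2 ye36 ze7) (ke xe2 ye36 ze9) (ke xe2 ye10 ze46) (ke xe1 ye15 ze6) (ke xe2 ye36 ze15) (ke xe1 ye15 ze39) (ke xe1 ye15 ze9) (ke xe2 ye36 ze20) (ke xe0 ye34 ze52) (ke xe2 ye36 ze23) (ke xe2 ye10 ze51) (ke xe2 ye36 ze29) (ke xe0 ye55 ze60) (ke xe1 ye15 ze16) (ke xe2 ye36 ze35) (ke xe0 ye34 ze56) (ke xe2 ye36 ze40) (ke xe2 ye10 ze56) (ke xe2 ye36 ze46) (ke xe2 ye2 ze22) (ke xe0 ye35 ze0) (ke xe1 ye15 ze24) (ke xe2 ye36 ze52) (ke xe2 ye36 ze55) (ke xe0 ye34 ze60) (ke xe2 ye36 ze57) (ke xe2 ye36 ze59) (ke xe0 ye34 ze61) (ke xe2 ye37 ze1) (ke xe2 ye37 ze4) (ke xe2 ye36 ze49) (ke xe2 ye37 ze10) (ke xe1 ye24 ze52) (ke xe1 ye24 ze53) (ke xe0 ye35 ze4) (ke xe2 ye37 ze15) (ke xe1 ye15 ze8) (ke xe1 ye15 ze40) (ke xe2 ye37 ze20) (ke xe2 ye37 ze24) (ke xe0 ye35 ze6) (ke xe2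 ye37 ze26) (ke xe0 ye35 ze7) (ke xe2 ye37 ze29) (ke xe2 ye37 ze31) (ke xe0 ye35 ze20) (ke xe2 ye37 ze37) (ke xe1 ye15 ze50) (ke xe2 ye37 ze42) (ke xe0 ye35 ze10) (ke xe1 ye15 ze53) (ke xe2 ye37 ze48) (ke xe2 ye37 ze52) (ke xe0 ye35 ze11) (ke xe2 ye37 ze57) (ke xe2 ye37 ze59) (ke xe2 ye38 ze2) (ke xe0 ye35 ze12) (ke xe1 ye9 ze28)) (@D3.rec (fun _ => Pt) (ke xe2 ye38 ze5) (ke xe2 ye24 ze42) (ke xe1 ye16 ze2) (ke xe2 ye38 ze11) (ke xe2 ye38 ze15) (ke xe0 ye35 ze14) (ke xe2 ye38 ze20) (ke xe0 ye35 ze15) (ke xe2 ye38 ze26) (ke xe0 ye35 ze16) (ke xe2 ye38 ze29) (ke xe2 ye36 ze36) (ke xe2 ye38 ze35) (ke xe2 ye38 ze40) (ke xe2 ye38 ze43) (ke xe0 ye35 ze18) (ke xe2 ye38 ze50) (ke xe2 ye38 ze53) (ke xe1 ye24 ze54) (ke xe0 ye35 ze19) (ke xe2 ye39 ze0) (ke xe2 ye39 ze4) (ke xe2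 ye37 ze34) (ke xe2 ye39 ze13) (ke xe2 ye39 ze15) (ke xe0 ye35 ze21) (ke xe2 ye39 ze21) (ke xe0 ye35 ze22) (ke xe2 ye2 ze55) (ke xe2 ye39 ze26) (ke xe0 ye35 ze23) (ke xe2 ye39 ze32) (ke xe0 ye35 ze25) (ke xe2 ye39 ze35) (ke xe0 ye35 ze26) (ke xe2 ye39 ze39) (ke xe2 ye39 ze42) (ke xe0 ye35 ze28) (ke xe2 ye39 ze47) (ke xe2 ye14 ze40) (ke xe0 ye35 ze29) (ke xe2 ye39 ze55) (ke xe1 ye22 ze33) (ke xe0 ye35 ze60) (ke xe2 ye40 ze2) (ke xe2 ye40 ze3) (ke xe0 ye35 ze31) (ke xe1 ye16 ze47) (ke xe2 ye40 ze6) (ke xe2 ye40 ze8) (ke xe0 ye35 ze33) (ke xe2 ye40 ze12) (ke xe2 ye40 ze15) (ke xe2 ye40 ze20) (ke xe0 ye35 ze34) (ke xe1 ye14 ze12) (ke xe2 ye40 ze29) (ke xe2 ye6 ze55) (ke xe2 ye40 ze31) (ke xe2 ye40 ze34) (ke xe0 ye35 ze36) (ke xe2 ye40 ze40)) (@D3.rec (fun _ => Pt) (ke xe0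 ye35 ze37) (ke xe2 ye40 ze43) (ke xe2 ye40 ze46) (ke xe2 ye40 ze51) (ke xe1 ye28 ze52) (ke xe0 ye35 ze38) (ke xe2 ye39 ze27) (ke xe2 ye40 ze53) (ke xe2 ye11 ze47) (ke xe1 ye17 ze29) (ke xe2 ye40 ze56) (ke xe2 ye40 ze58) (ke xe2 ye40 ze60) (ke xe0 ye35 ze43) (ke xe1 ye17 ze14) (ke xe2 ye41 ze6) (ke xe0 ye35 ze44) (ke xe2 ye41 ze13) (ke xe2 ye41 ze15) (ke xe2 ye41 ze20) (ke xe0 ye35 ze45) (ke xe2 ye41 ze25) (ke xe1 ye14 ze38) (ke xe2 ye41 ze23) (ke xe2 ye11 ze30) (ke xe2 ye41 ze31) (ke xe2 ye41 ze32) (ke xe0 ye35 ze47) (ke xe2 ye41 ze38) (ke xe1 ye17 ze9) (ke xe0 ye35 ze49) (ke xe2 ye11 ze37) (ke xe2 ye41 ze43) (ke xe2 ye41 ze48) (ke xe2 ye41 ze52) (ke xe2 ye1 ze45) (ke xe0 ye35 ze51) (ke xe2 ye41 ze59) (ke xe2 ye42 ze2) (ke xe2 ye42 ze5) (ke xe0 ye35 ze52) (ke xe2 ye39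 ze51) (ke xe2 ye42 ze15) (ke xe1 ye12 ze1) (ke xe2 ye12 ze3) (ke xe2 ye42 ze18) (ke xe2 ye42 ze23) (ke xe0 ye35 ze55) (ke xe2 ye42 ze31) (ke xe2 ye42 ze32) (ke xe0 ye35 ze56) (ke xe2 ye42 ze37) (ke xe2 ye39 ze43) (ke xe2 ye11 ze56) (ke xe2 ye42 ze45) (ke xe2 ye42 ze48) (ke xe0 ye35 ze58) (ke xe2 ye42 ze56) (ke xe2 ye42 ze57) (ke xe0 ye35 ze59) (ke xe2 ye43 ze2) (ke xe2 ye43 ze7)) (@D3.rec (fun _ => Pt) (ke xe2 ye39 ze60) (ke xe2 ye43 ze12) (ke xe2 ye43 ze13) (ke xe1 ye21 ze30) (ke xe2 ye43 ze16) (ke xe0 ye35 ze61) (ke xe0 ye36 ze0) (ke xe2 ye43 ze26) (ke xe2 ye43 ze30) (ke xe1 ye18 ze9) (ke xe1 ye18 ze10) (ke xe2 ye43 ze34) (ke xe2 ye43 ze36) (ke xe0 ye36 ze3) (ke xe2 ye43 ze41) (ke xe2 ye43 ze44) (ke xe2 ye43 ze49) (ke xe0 ye36 ze4) (ke xe1 ye11 ze17) (ke xe2 ye43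 ze60) (ke xe2 ye43 ze52) (ke xe2 ye3 ze41) (ke xe2 ye44 ze1) (ke xe2 ye44 ze3) (ke xe0 ye36 ze6) (ke xe2 ye44 ze9) (ke xe2 ye44 ze11) (ke xe0 ye36 ze7) (ke xe2 ye44 ze17) (ke xe0 ye36 ze8) (ke xe2 ye44 ze19) (ke xe2 ye44 ze21) (ke xe0 ye36 ze11) (ke xe2 ye12 ze48) (ke xe0 ye58 ze50) (ke xe1 ye19 ze16) (ke xe1 ye11 ze60) (ke xe1 ye12 ze9) (ke xe2 ye44 ze34) (ke xe2 ye14 ze20) (ke xe2 ye44 ze39) (ke xe2 ye24 ze49) (ke xe2 ye44 ze44) (ke xe1 ye31 ze30) (ke xe2 ye44 ze50) (ke xe2 ye44 ze54) (ke xe0 ye37 ze25) (ke xe2 ye44 ze59) (ke xe2 ye45 ze1) (ke xe0 ye36 ze18) (ke xe0 ye36 ze19) (ke xe0 ye37 ze31) (ke xe2 ye45 ze11) (ke xe2 ye42 ze6) (ke xe0 ye36 ze24) (ke xe0 ye37 ze35) (ke xe0 ye37 ze36) (ke xe2 ye45 ze17) (ke xe0 ye36 ze22) (ke xe2 ye45 ze5) (ke xe2 ye45 ze20) (ke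 xe0 ye38 ze3)) (@D3.rec (fun _ => Pt) (ke xe0 ye36 ze25) (ke xe1 ye21 ze37) (ke xe1 ye9 ze14) (ke xe1 ye19 ze3) (ke xe2 ye45 ze22) (ke xe2 ye45 ze25) (ke xe2 ye45 ze28) (ke xe2 ye45 ze32) (ke xe0 ye36 ze32) (ke xe2 ye3 ze16) (ke xe0 ye55 ze46) (ke xe2 ye45 ze35) (ke xe1 ye59 ze12) (ke xe2 ye45 ze43) (ke xe0 ye36 ze34) (ke xe2 ye45 ze48) (ke xe1 ye18 ze35) (ke xe0 ye36 ze36) (ke xe2 ye12 ze27) (ke xe2 ye45 ze53) (ke xe0 ye57 ze35) (ke xe1 ye12 ze6) (ke xe2 ye46 ze0) (ke xe0 ye36 ze39) (ke xe2 ye46 ze3) (ke xe2 ye14 ze34) (ke xe0 ye37 ze55) (ke xe0 ye36 ze41) (ke xe2 ye46 ze13) (ke xe2 ye46 ze15) (ke xe2 ye46 ze17) (ke xe0 ye36 ze42) (ke xe0 ye38 ze12) (ke xe0 ye38 ze5) (ke xe2 ye46 ze20) (ke xe2 ye13 ze5) (ke xe2 ye6 ze53) (ke xe0 ye38 ze16) (ke xe0 ye38 ze17) (ke xe2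 ye14 ze2) (ke xe1 ye12 ze45) (ke xe2 ye46 ze34) (ke xe0 ye36 ze52) (ke xe0 ye36 ze53) (ke xe1 ye13 ze61) (ke xe2 ye46 ze38) (ke xe0 ye57 ze18) (ke xe1 ye12 ze18) (ke xe2 ye46 ze45) (ke xe0 ye38 ze19) (ke xe2 ye13 ze25) (ke xe2 ye46 ze54) (ke xe2 ye46 ze58) (ke xe0 ye36 ze59) (ke xe2 ye47 ze1) (ke xe2 ye47 ze3) (ke xe0 ye36 ze60) (ke xe2 ye47 ze6) (ke xe2 ye13 ze23) (ke xe0 ye38 ze27) (ke xe2 ye15 ze60) (ke xe2 ye47 ze18)) (@D3.rec (fun _ => Pt) (ke xe2 ye47 ze22) (ke xe2 ye47 ze26) (ke xe0 ye37 ze0) (ke xe0 ye37 ze1) (ke xe2 ye47 ze31) (ke xe2 ye13 ze14) (ke xe2 ye47 ze36) (ke xe1 ye20 ze9) (ke xe0 ye37 ze3) (ke xe1 ye20 ze7) (ke xe2 ye47 ze47) (ke xe2 ye47 ze49) (ke xe2 ye47 ze53) (ke xe2 ye47 ze55) (ke xe2 ye47 ze57) (ke xe0 ye37 ze4) (ke xe2 ye48 ze2) (ke xe2 ye48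 ze5) (ke xe2 ye48 ze8) (ke xe2 ye48 ze13) (ke xe0 ye37 ze6) (ke xe2 ye48 ze18) (ke xe0 ye37 ze7) (ke xe2 ye48 ze23) (ke xe0 ye37 ze8) (ke xe2 ye48 ze30) (ke xe0 ye37 ze9) (ke xe2 ye48 ze37) (ke xe0 ye37 ze10) (ke xe2 ye48 ze45) (ke xe2 ye48 ze49) (ke xe2 ye48 ze50) (ke xe0 ye37 ze12) (ke xe2 ye48 ze53) (ke xe2 ye48 ze59) (ke xe2 ye48 ze60) (ke xe0 ye37 ze14) (ke xe2 ye28 ze0) (ke xe1 ye11 ze59) (ke xe0 ye59 ze5) (ke xe0 ye42 ze8) (ke xe2 ye17 ze50) (ke xe2 ye49 ze7) (ke xe0 ye37 ze16) (ke xe2 ye28 ze2) (ke xe1 ye12 ze8) (ke xe1 ye27 ze17) (ke xe1 ye5 ze25) (ke xe2 ye49 ze18) (ke xe2 ye49 ze21) (ke xe2 ye49 ze23) (ke xe2 ye49 ze25) (ke xe0 ye37 ze20) (ke xe0 ye37 ze21) (ke xe2 ye49 ze29) (ke xe2 ye49 ze33) (ke xe2 ye49 ze36) (ke xe2 ye0 ze15) (ke xe1 ye59 ze33) (ke xe2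 ye49 ze45) (ke xe0 ye37 ze24) (ke xe2 ye44 ze55)) (@D3.rec (fun _ => Pt) (ke xe2 ye44 ze56) (ke xe2 ye49 ze56) (ke xe2 ye49 ze61) (ke xe2 ye50 ze1) (ke xe2 ye50 ze3) (ke xe0 ye37 ze26) (ke xe2 ye50 ze6) (ke xe0 ye37 ze27) (ke xe2 ye50 ze10) (ke xe2 ye50 ze13) (ke xe2 ye50 ze17) (ke xe0 ye37 ze28) (ke xe2 ye45 ze2) (ke xe2 ye50 ze20) (ke xe1 ye31 ze47) (ke xe2 ye50 ze31) (ke xe0 ye37 ze33) (ke xe2 ye14 ze17) (ke xe2 ye45 ze9) (ke xe2 ye11 ze34) (ke xe2 ye50 ze43) (ke xe2 ye50 ze44) (ke xe0 ye37 ze32) (ke xe2 ye50 ze48) (ke xe2 ye50 ze51) (ke xe2 ye46 ze18) (ke xe2 ye50 ze55) (ke xe2 ye45 ze14) (ke xe2 ye8 ze56) (ke xe2 ye45 ze15) (ke xe1 ye18 ze3) (ke xe2 ye12 ze59) (ke xe2 ye51 ze2) (ke xe2 ye51 ze4) (ke xe0 ye37 ze38) (ke xe0 ye38 ze15) (ke xe1 ye22 ze9) (ke xe1 ye19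 ze1) (ke xe2 ye24 ze50) (ke xe2 ye51 ze10) (ke xe2 ye12 ze30) (ke xe2 ye51 ze14) (ke xe2 ye51 ze17) (ke xe2 ye39 ze49) (ke xe2 ye51 ze21) (ke xe0 ye37 ze49) (ke xe2 ye51 ze27) (ke xe2 ye51 ze30) (ke xe2 ye13 ze58) (ke xe1 ye12 ze16) (ke xe2 ye51 ze35) (ke xe2 ye8 ze40) (ke xe2 ye51 ze39) (ke xe2 ye51 ze41) (ke xe2 ye51 ze44) (ke xe0 ye37 ze54) (ke xe2 ye46 ze7) (ke xe2 ye46 ze8) (ke xe2 ye51 ze49) (ke xe2 ye51 ze52) (ke xe2 ye51 ze55) (ke xe2 ye20 ze37)) (@D3.rec (fun _ => Pt) (ke xe0 ye37 ze57) (ke xe2 ye52 ze1) (ke xe0 ye37 ze58) (ke xe2 ye52 ze7) (ke xe0 ye37 ze59) (ke xe2 ye52 ze12) (ke xe2 ye52 ze15) (ke xe2 ye14 ze38) (ke xe1 ye3 ze4) (ke xe1 ye21 ze36) (ke xe2 ye52 ze16) (ke xe2 ye26 ze21) (ke xe1 ye3 ze57) (ke xe2 ye46 ze23) (ke xe2 ye14 ze39) (ke xe2 ye52 ze19)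 (ke xe2 ye52 ze22) (ke xe2 ye52 ze25) (ke xe2 ye52 ze29) (ke xe0 ye38 ze8) (ke xe2 ye52 ze32) (ke xe2 ye52 ze38) (ke xe2 ye52 ze40) (ke xe0 ye38 ze13) (ke xe2 ye14 ze26) (ke xe2 ye14 ze22) (ke xe1 ye25 ze21) (ke xe2 ye46 ze22) (ke xe2 ye52 ze49) (ke xe2 ye52 ze51) (ke xe1 ye2 ze45) (ke xe2 ye52 ze53) (ke xe1 ye23 ze34) (ke xe1 ye16 ze42) (ke xe2 ye46 ze29) (ke xe2 ye13 ze7) (ke xe2 ye53 ze1) (ke xe2 ye53 ze3) (ke xe2 ye53 ze6) (ke xe2 ye53 ze8) (ke xe0 ye38 ze18) (ke xe2 ye46 ze46) (ke xe2 ye46 ze47) (ke xe2 ye53 ze15) (ke xe2 ye53 ze18) (ke xe2 ye53 ze19) (ke xe0 ye38 ze20) (ke xe2 ye53 ze26) (ke xe2 ye46 ze52) (ke xe2 ye53 ze32) (ke xe0 ye38 ze21) (ke xe2 ye53 ze38) (ke xe2 ye53 ze41) (ke xe0 ye38 ze22) (ke xe2 ye53 ze48) (ke xe2 ye53 ze49) (ke xe2 ye53 ze44) (ke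 xe2 ye15 ze23) (ke xe2 ye53 ze58) (ke xe2 ye53 ze61) (ke xe0 ye38 ze25) (ke xe2 ye54 ze2)) (@D3.rec (fun _ => Pt) (ke xe2 ye54 ze4) (ke xe2 ye47 ze11) (ke xe2 ye54 ze8) (ke xe2 ye52 ze55) (ke xe2 ye54 ze11) (ke xe2 ye54 ze13) (ke xe0 ye38 ze28) (ke xe2 ye54 ze16) (ke xe2 ye54 ze18) (ke xe0 ye38 ze29) (ke xe2 ye47 ze19) (ke xe2 ye54 ze25) (ke xe2 ye54 ze29) (ke xe0 ye38 ze30) (ke xe2 ye54 ze35) (ke xe2 ye54 ze38) (ke xe2 ye54 ze42) (ke xe0 ye38 ze31) (ke xe2 ye13 ze24) (ke xe2 ye54 ze45) (ke xe2 ye14 ze60) (ke xe2 ye54 ze54) (ke xe2 ye54 ze57) (ke xe0 ye38 ze34) (ke xe2 ye15 ze2) (ke xe2 ye45 ze45) (ke xe2 ye55 ze0) (ke xe0 ye38 ze36) (ke xe2 ye55 ze3) (ke xe2 ye55 ze5) (ke xe0 ye38 ze37) (ke xe2 ye46 ze31) (ke xe2 ye55 ze10) (ke xe0 ye38 ze38) (ke xe1 ye22 ze32) (ke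 xe2 ye47 ze41) (ke xe2 ye55 ze18) (ke xe2 ye55 ze21) (ke xe0 ye38 ze39) (ke xe1 ye24 ze13) (ke xe2 ye55 ze27) (ke xe2 ye55 ze32) (ke xe0 ye38 ze40) (ke xe2 ye55 ze37) (ke xe2 ye47 ze58) (ke xe2 ye55 ze35) (ke xe2 ye52 ze54) (ke xe0 ye38 ze42) (ke xe2 ye47 ze50) (ke xe2 ye55 ze45) (ke xe2 ye55 ze47) (ke xe0 ye38 ze43) (ke xe2 ye55 ze52) (ke xe0 ye38 ze44) (ke xe2 ye55 ze56) (ke xe0 ye38 ze45) (ke xe2 ye47 ze13) (ke xe2 ye55 ze58) (ke xe2 ye30 ze46) (ke xe2 ye56 ze4) (ke xe0 ye38 ze47) (ke xe2 ye56 ze10)) (@D3.rec (fun _ => Pt) (ke xe2 ye56 ze15) (ke xe0 ye38 ze48) (ke xe2 ye56 ze22) (ke xe2 ye56 ze25) (ke xe0 ye38 ze49) (ke xe2 ye56 ze33) (ke xe2 ye56 ze37) (ke xe2 ye56 ze41) (ke xe0 ye38 ze50) (ke xe2 ye56 ze49) (ke xe2 ye56 ze53) (ke xe2 ye22 ze25) (ke xe2 ye55 ze13)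 (ke xe1 ye23 ze39) (ke xe2 ye22 ze24) (ke xe2 ye56 ze60) (ke xe2 ye16 ze34) (ke xe0 ye38 ze53) (ke xe2 ye18 ze6) (ke xe2 ye57 ze9) (ke xe0 ye40 ze61) (ke xe2 ye16 ze30) (ke xe2 ye57 ze13) (ke xe2 ye57 ze17) (ke xe0 ye38 ze55) (ke xe2 ye57 ze22) (ke xe2 ye57 ze25) (ke xe0 ye42 ze10) (ke xe2 ye16 ze23) (ke xe2 ye57 ze33) (ke xe2 ye18 ze13) (ke xe2 ye57 ze38) (ke xe0 ye38 ze57) (ke xe2 ye57 ze45) (ke xe0 ye42 ze25) (ke xe2 ye57 ze48) (ke xe0 ye38 ze58) (ke xe2 ye0 ze6) (ke xe2 ye57 ze55) (ke xe2 ye57 ze57) (ke xe2 ye57 ze60) (ke xe2 ye58 ze1) (ke xe2 ye22 ze34) (ke xe2 ye16 ze52) (ke xe2 ye58 ze8) (ke xe1 ye3 ze19) (ke xe1 ye13 ze26) (ke xe1 ye3 ze15) (ke xe2 ye58 ze17) (ke xe2 ye58 ze19) (ke xe2 ye0 ze60) (ke xe0 ye39 ze5) (ke xe1 ye15 ze35) (ke xe1 ye15 ze36) (ke xe1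 ye16 ze18) (ke xe2 ye5 ze45) (ke xe1 ye2 ze31) (ke xe1 ye24 ze57) (ke xe2 ye38 ze54) (ke xe2 ye58 ze30) (ke xe2 ye58 ze32) (ke xe0 ye39 ze9)) (@D3.rec (fun _ => Pt) (ke xe2 ye58 ze34) (ke xe2 ye58 ze36) (ke xe2 ye58 ze38) (ke xe0 ye39 ze10) (ke xe2 ye58 ze41) (ke xe2 ye58 ze44) (ke xe1 ye2 ze40) (ke xe2 ye58 ze50) (ke xe2 ye58 ze52) (ke xe0 ye39 ze13) (ke xe2 ye52 ze42) (ke xe0 ye39 ze14) (ke xe2 ye58 ze60) (ke xe2 ye59 ze1) (ke xe0 ye39 ze16) (ke xe2 ye59 ze4) (ke xe0 ye39 ze17) (ke xe2 ye59 ze8) (ke xe2 ye59 ze11) (ke xe0 ye39 ze19) (ke xe2 ye59 ze16) (ke xe1 ye22 ze26) (ke xe0 ye39 ze20) (ke xe2 ye59 ze24) (ke xe2 ye14 ze46) (ke xe1 ye3 ze0) (ke xe2 ye59 ze34) (ke xe2 ye59 ze35) (ke xe0 ye39 ze22) (ke xe2 ye59 ze37) (ke xe0 ye39 ze23) (ke xe2 ye59 ze39) (ke xe0 ye39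 ze24) (ke xe1 ye31 ze27) (ke xe2 ye59 ze44) (ke xe2 ye59 ze47) (ke xe0 ye39 ze30) (ke xe2 ye59 ze49) (ke xe0 ye39 ze31) (ke xe2 ye59 ze52) (ke xe1 ye3 ze25) (ke xe2 ye51 ze20) (ke xe0 ye39 ze35) (ke xe2 ye59 ze55) (ke xe0 ye39 ze36) (ke xe1 ye56 ze12) (ke xe2 ye59 ze61) (ke xe3 ye0 ze2) (ke xe3 ye0 ze3) (ke xe0 ye39 ze39) (ke xe3 ye0 ze8) (ke xe3 ye0 ze12) (ke xe0 ye39 ze46) (ke xe3 ye0 ze16) (ke xe3 ye0 ze18) (ke xe3 ye0 ze20) (ke xe3 ye0 ze22) (ke xe3 ye0 ze24) (ke xe0 ye39 ze41) (ke xe3 ye0 ze28) (ke xe0 ye39 ze42) (ke xe3 ye0 ze29)) (@D3.rec (fun _ => Pt) (ke xe3 ye0 ze30) (ke xe3 ye0 ze31) (ke xe2 ye50 ze61) (ke xe0 ye39 ze44) (ke xe1 ye26 ze6) (ke xe2 ye49 ze52) (ke xe1 ye26 ze4) (ke xe0 ye39 ze45) (ke xe3 ye0 ze39) (ke xe0 ye39 ze47) (ke xe0 ye39 ze48) (ke xe3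 ye0 ze48) (ke xe3 ye0 ze51) (ke xe2 ye17 ze33) (ke xe3 ye0 ze54) (ke xe1 ye13 ze29) (ke xe2 ye17 ze32) (ke xe2 ye16 ze46) (ke xe3 ye0 ze59) (ke xe0 ye39 ze53) (ke xe3 ye1 ze1) (ke xe1 ye9 ze35) (ke xe2 ye17 ze58) (ke xe0 ye39 ze56) (ke xe0 ye39 ze58) (ke xe0 ye43 ze19) (ke xe0 ye39 ze60) (ke xe0 ye51 ze10) (ke xe1 ye26 ze28) (ke xe1 ye36 ze4) (ke xe0 ye54 ze16) (ke xe1 ye36 ze13) (ke xe0 ye43 ze29) (ke xe3 ye1 ze13) (ke xe0 ye40 ze3) (ke xe0 ye40 ze4) (ke xe0 ye45 ze13) (ke xe1 ye36 ze22) (ke xe1 ye36 ze30) (ke xe3 ye1 ze23) (ke xe0 ye40 ze7) (ke xe3 ye1 ze25) (ke xe0 ye40 ze8) (ke xe0 ye43 ze48) (ke xe3 ye1 ze27) (ke xe0 ye40 ze9) (ke xe1 ye35 ze50) (ke xe0 ye40 ze10) (ke xe0 ye44 ze5) (ke xe1 ye35 ze6) (ke xe1 ye27 ze11) (ke xe3 ye1 ze38) (ke xe3 ye1 ze39) (ke xe0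 ye40 ze13) (ke xe0 ye40 ze14) (ke xe1 ye35 ze16) (ke xe3 ye1 ze44) (ke xe0 ye40 ze16) (ke xe0 ye40 ze17) (ke xe3 ye1 ze48) (ke xe3 ye1 ze53) (ke xe3 ye1 ze56)) (@D3.rec (fun _ => Pt) (ke xe0 ye40 ze18) (ke xe3 ye1 ze61) (ke xe3 ye2 ze2) (ke xe3 ye2 ze7) (ke xe3 ye2 ze8) (ke xe0 ye40 ze19) (ke xe3 ye2 ze14) (ke xe3 ye2 ze17) (ke xe3 ye2 ze21) (ke xe3 ye2 ze22) (ke xe0 ye40 ze21) (ke xe1 ye26 ze50) (ke xe3 ye2 ze25) (ke xe3 ye2 ze29) (ke xe0 ye40 ze23) (ke xe2 ye48 ze48) (ke xe3 ye2 ze38) (ke xe1 ye20 ze46) (ke xe2 ye17 ze6) (ke xe3 ye2 ze47) (ke xe3 ye2 ze50) (ke xe3 ye2 ze53) (ke xe0 ye40 ze25) (ke xe3 ye2 ze59) (ke xe3 ye3 ze0) (ke xe1 ye29 ze7) (ke xe0 ye40 ze26) (ke xe0 ye40 ze27) (ke xe2 ye17 ze40) (ke xe3 ye3 ze10) (ke xe0 ye40 ze29) (ke xe3 ye3 ze13) (ke xe3 ye3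 ze17) (ke xe0 ye40 ze30) (ke xe0 ye59 ze2) (ke xe0 ye54 ze30) (ke xe3 ye3 ze24) (ke xe2 ye33 ze52) (ke xe3 ye3 ze27) (ke xe0 ye40 ze32) (ke xe1 ye38 ze21) (ke xe0 ye54 ze60) (ke xe0 ye57 ze31) (ke xe2 ye24 ze15) (ke xe1 ye5 ze45) (ke xe0 ye40 ze35) (ke xe2 ye9 ze55) (ke xe3 ye3 ze38) (ke xe0 ye40 ze37) (ke xe0 ye55 ze54) (ke xe0 ye55 ze11) (ke xe1 ye43 ze35) (ke xe3 ye3 ze46) (ke xe0 ye40 ze39) (ke xe3 ye1 ze0) (ke xe3 ye3 ze48) (ke xe1 ye57 ze5) (ke xe2 ye8 ze41) (ke xe3 ye3 ze50) (ke xe0 ye40 ze41) (ke xe3 ye3 ze55) (ke xe1 ye59 ze16)) (@D3.rec (fun _ => Pt) (ke xe0 ye55 ze45) (ke xe1 ye58 ze8) (ke xe3 ye3 ze61) (ke xe3 ye4 ze3) (ke xe3 ye4 ze4) (ke xe0 ye40 ze44) (ke xe3 ye4 ze9) (ke xe3 ye4 ze11) (ke xe3 ye4 ze13) (ke xe3 ye4 ze15) (ke xe0 ye40 ze45) (ke xe0 ye40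 ze46) (ke xe3 ye4 ze25) (ke xe3 ye4 ze28) (ke xe3 ye4 ze22) (ke xe2 ye18 ze50) (ke xe3 ye4 ze34) (ke xe0 ye40 ze48) (ke xe3 ye4 ze37) (ke xe1 ye57 ze6) (ke xe0 ye40 ze49) (ke xe2 ye10 ze42) (ke xe1 ye13 ze35) (ke xe0 ye56 ze42) (ke xe2 ye58 ze18) (ke xe3 ye4 ze45) (ke xe3 ye4 ze46) (ke xe0 ye40 ze52) (ke xe2 ye52 ze8) (ke xe0 ye57 ze8) (ke xe1 ye10 ze32) (ke xe3 ye4 ze53) (ke xe3 ye4 ze58) (ke xe3 ye4 ze60) (ke xe0 ye40 ze57) (ke xe3 ye5 ze4) (ke xe3 ye5 ze6) (ke xe3 ye5 ze8) (ke xe0 ye40 ze58) (ke xe0 ye40 ze59) (ke xe3 ye5 ze19) (ke xe3 ye5 ze22) (ke xe2 ye57 ze4) (ke xe2 ye18 ze61) (ke xe3 ye5 ze28) (ke xe3 ye5 ze30) (ke xe2 ye47 ze4) (ke xe3 ye5 ze35) (ke xe1 ye1 ze59) (ke xe3 ye5 ze37) (ke xe0 ye41 ze1) (ke xe3 ye5 ze41) (ke xe1 ye17 ze4) (ke xe0 ye41 ze2) (ke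 xe0 ye41 ze3) (ke xe3 ye5 ze45) (ke xe3 ye5 ze47) (ke xe0 ye41 ze5) (ke xe1 ye10 ze20) (ke xe2 ye21 ze37) (ke xe3 ye5 ze49) (ke xe3 ye5 ze51)) (@D3.rec (fun _ => Pt) (ke xe0 ye41 ze9) (ke xe3 ye5 ze54) (ke xe0 ye41 ze10) (ke xe3 ye5 ze57) (ke xe0 ye41 ze11) (ke xe1 ye30 ze55) (ke xe3 ye5 ze60) (ke xe1 ye27 ze25) (ke xe3 ye6 ze8) (ke xe0 ye41 ze14) (ke xe1 ye5 ze44) (ke xe3 ye6 ze11) (ke xe3 ye6 ze15) (ke xe3 ye6 ze17) (ke xe0 ye41 ze15) (ke xe3 ye6 ze19) (ke xe3 ye6 ze21) (ke xe0 ye41 ze16) (ke xe3 ye6 ze24) (ke xe0 ye41 ze17) (ke xe1 ye49 ze56) (ke xe3 ye6 ze29) (ke xe0 ye41 ze18) (ke xe1 ye30 ze37) (ke xe1 ye5 ze59) (ke xe3 ye6 ze32) (ke xe3 ye6 ze41) (ke xe3 ye6 ze44) (ke xe0 ye41 ze21) (ke xe1 ye32 ze50) (ke xe3 ye6 ze46) (ke xe0 ye41 ze22) (ke xe3 ye6 ze50) (ke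 xe0 ye41 ze23) (ke xe3 ye6 ze53) (ke xe3 ye6 ze55) (ke xe0 ye41 ze25) (ke xe3 ye6 ze61) (ke xe3 ye6 ze39) (ke xe1 ye32 ze56) (ke xe3 ye1 ze16) (ke xe3 ye7 ze0) (ke xe0 ye41 ze27) (ke xe3 ye7 ze3) (ke xe0 ye41 ze28) (ke xe3 ye7 ze7) (ke xe0 ye41 ze29) (ke xe1 ye29 ze58) (ke xe3 ye7 ze9) (ke xe1 ye32 ze30) (ke xe3 ye7 ze11) (ke xe3 ye7 ze14) (ke xe0 ye41 ze33) (ke xe3 ye7 ze19) (ke xe0 ye41 ze34) (ke xe1 ye7 ze10) (ke xe1 ye29 ze56) (ke xe3 ye7 ze22) (ke xe1 ye29 ze47) (ke xe3 ye7 ze27) (ke xe3 ye7 ze29) (ke xe0 ye41 ze36)) (@D3.rec (fun _ => Pt) (ke xe3 ye7 ze33) (ke xe3 ye7 ze36) (ke xe0 ye41 ze37) (ke xe3 ye7 ze41) (ke xe3 ye7 ze44) (ke xe3 ye7 ze47) (ke xe0 ye41 ze38) (ke xe3 ye7 ze55) (ke xe3 ye7 ze21) (ke xe0 ye41 ze42) (ke xe2 ye19 ze22) (ke xe1 ye34 ze8) (ke xe0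 ye43 ze13) (ke xe2 ye19 ze26) (ke xe1 ye30 ze14) (ke xe1 ye30 ze15) (ke xe3 ye8 ze8) (ke xe3 ye8 ze10) (ke xe2 ye23 ze54) (ke xe0 ye58 ze26) (ke xe3 ye8 ze13) (ke xe3 ye8 ze16) (ke xe0 ye41 ze44) (ke xe0 ye42 ze42) (ke xe1 ye37 ze40) (ke xe3 ye8 ze28) (ke xe3 ye8 ze31) (ke xe3 ye8 ze35) (ke xe0 ye41 ze46) (ke xe3 ye8 ze41) (ke xe3 ye8 ze44) (ke xe3 ye8 ze46) (ke xe0 ye41 ze47) (ke xe1 ye32 ze4) (ke xe1 ye31 ze54) (ke xe0 ye41 ze55) (ke xe2 ye6 ze26) (ke xe1 ye29 ze23) (ke xe1 ye33 ze16) (ke xe3 ye9 ze0) (ke xe3 ye9 ze2) (ke xe0 ye41 ze51) (ke xe1 ye38 ze16) (ke xe1 ye30 ze43) (ke xe3 ye9 ze8) (ke xe3 ye9 ze10) (ke xe0 ye41 ze53) (ke xe3 ye9 ze16) (ke xe3 ye9 ze18) (ke xe0 ye41 ze54) (ke xe3 ye8 ze55) (ke xe3 ye9 ze27) (ke xe3 ye9 ze28) (ke xe0 ye41 ze56) (ke xe0 ye45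 ze4) (ke xe1 ye29 ze5) (ke xe1 ye7 ze41) (ke xe3 ye9 ze35) (ke xe3 ye9 ze37) (ke xe0 ye41 ze59) (ke xe0 ye44 ze28) (ke xe1 ye30 ze61)) (@D3.rec (fun _ => Pt) (ke xe3 ye9 ze43) (ke xe3 ye9 ze45) (ke xe0 ye41 ze61) (ke xe3 ye9 ze49) (ke xe3 ye9 ze53) (ke xe3 ye9 ze56) (ke xe2 ye49 ze5) (ke xe3 ye9 ze59) (ke xe0 ye42 ze1) (ke xe0 ye42 ze2) (ke xe2 ye24 ze45) (ke xe3 ye10 ze2) (ke xe2 ye9 ze31) (ke xe2 ye7 ze45) (ke xe2 ye0 ze0) (ke xe2 ye33 ze21) (ke xe3 ye10 ze14) (ke xe2 ye44 ze37) (ke xe3 ye10 ze16) (ke xe3 ye10 ze18) (ke xe0 ye42 ze7) (ke xe3 ye10 ze20) (ke xe2 ye59 ze26) (ke xe2 ye57 ze28) (ke xe3 ye10 ze23) (ke xe2 ye24 ze48) (ke xe1 ye10 ze29) (ke xe1 ye25 ze33) (ke xe2 ye26 ze16) (ke xe1 ye0 ze51) (ke xe1 ye18 ze43) (ke xe1 ye46 ze59) (ke xe3 ye10 ze30) (ke xe3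 ye10 ze32) (ke xe0 ye50 ze21) (ke xe3 ye10 ze33) (ke xe0 ye42 ze20) (ke xe0 ye42 ze21) (ke xe3 ye10 ze36) (ke xe0 ye42 ze22) (ke xe0 ye42 ze23) (ke xe2 ye18 ze25) (ke xe2 ye57 ze46) (ke xe2 ye18 ze2) (ke xe3 ye10 ze44) (ke xe0 ye42 ze27) (ke xe2 ye19 ze27) (ke xe1 ye21 ze14) (ke xe3 ye10 ze47) (ke xe2 ye16 ze20) (ke xe3 ye10 ze51) (ke xe0 ye42 ze33) (ke xe0 ye46 ze2) (ke xe1 ye5 ze61) (ke xe1 ye30 ze34) (ke xe0 ye43 ze4) (ke xe0 ye43 ze5) (ke xe2 ye19 ze28) (ke xe3 ye9 ze13) (ke xe3 ye10 ze53) (ke xe3 ye11 ze6) (ke xe0 ye50 ze53)) (@D3.rec (fun _ => Pt) (ke xe2 ye18 ze3) (ke xe2 ye19 ze39) (ke xe3 ye11 ze19) (ke xe3 ye11 ze22) (ke xe1 ye30 ze33) (ke xe0 ye42 ze36) (ke xe3 ye11 ze28) (ke xe3 ye11 ze31) (ke xe0 ye42 ze43) (ke xe3 ye11 ze37) (ke xe1 ye44 ze21) (ke xe0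 ye47 ze52) (ke xe3 ye11 ze43) (ke xe3 ye11 ze45) (ke xe0 ye42 ze40) (ke xe2 ye18 ze29) (ke xe0 ye42 ze47) (ke xe3 ye8 ze18) (ke xe3 ye8 ze22) (ke xe3 ye11 ze34) (ke xe0 ye42 ze44) (ke xe0 ye44 ze6) (ke xe0 ye51 ze49) (ke xe0 ye42 ze45) (ke xe3 ye11 ze59) (ke xe0 ye42 ze48) (ke xe3 ye12 ze1) (ke xe0 ye44 ze40) (ke xe0 ye42 ze49) (ke xe3 ye7 ze30) (ke xe1 ye29 ze49) (ke xe1 ye36 ze61) (ke xe3 ye12 ze4) (ke xe0 ye42 ze53) (ke xe3 ye12 ze6) (ke xe3 ye12 ze10) (ke xe0 ye42 ze54) (ke xe3 ye12 ze16) (ke xe3 ye12 ze19) (ke xe0 ye42 ze55) (ke xe3 ye12 ze26) (ke xe3 ye12 ze29) (ke xe2 ye15 ze3) (ke xe0 ye42 ze56) (ke xe3 ye12 ze34) (ke xe3 ye12 ze36) (ke xe3 ye12 ze38) (ke xe0 ye42 ze58) (ke xe3 ye12 ze43) (ke xe3 ye12 ze45) (ke xe1 ye29 ze29) (ke xe3 ye12 ze47) (ke xe3 ye12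 ze49) (ke xe0 ye42 ze60) (ke xe3 ye12 ze44) (ke xe3 ye12 ze56) (ke xe1 ye29 ze39) (ke xe3 ye12 ze60) (ke xe3 ye13 ze0) (ke xe3 ye13 ze4) (ke xe0 ye43 ze0) (ke xe3 ye13 ze11)) (@D3.rec (fun _ => Pt) (ke xe3 ye13 ze14) (ke xe1 ye6 ze11) (ke xe0 ye43 ze1) (ke xe1 ye33 ze3) (ke xe3 ye13 ze18) (ke xe3 ye13 ze19) (ke xe3 ye13 ze20) (ke xe3 ye13 ze23) (ke xe0 ye43 ze6) (ke xe3 ye13 ze25) (ke xe3 ye13 ze28) (ke xe0 ye43 ze7) (ke xe2 ye18 ze14) (ke xe3 ye1 ze6) (ke xe0 ye43 ze9) (ke xe1 ye44 ze20) (ke xe1 ye30 ze38) (ke xe3 ye8 ze2) (ke xe0 ye43 ze15) (ke xe3 ye13 ze31) (ke xe0 ye43 ze16) (ke xe3 ye13 ze37) (ke xe0 ye43 ze17) (ke xe0 ye45 ze20) (ke xe3 ye13 ze39) (ke xe3 ye13 ze44) (ke xe3 ye13 ze47) (ke xe0 ye43 ze20) (ke xe3 ye13 ze49) (ke xe0 ye43 ze21) (ke xe3 ye13 ze52)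 (ke xe3 ye13 ze57) (ke xe0 ye43 ze22) (ke xe3 ye13 ze59) (ke xe3 ye14 ze0) (ke xe0 ye43 ze23) (ke xe3 ye14 ze6) (ke xe3 ye14 ze9) (ke xe3 ye14 ze12) (ke xe0 ye43 ze24) (ke xe3 ye14 ze20) (ke xe3 ye14 ze23) (ke xe0 ye46 ze12) (ke xe3 ye14 ze26) (ke xe3 ye14 ze28) (ke xe0 ye43 ze26) (ke xe3 ye14 ze32) (ke xe1 ye8 ze6) (ke xe0 ye43 ze27) (ke xe3 ye14 ze35) (ke xe3 ye14 ze38) (ke xe0 ye43 ze30) (ke xe3 ye14 ze40) (ke xe0 ye43 ze31) (ke xe3 ye14 ze44) (ke xe0 ye43 ze32) (ke xe3 ye9 ze31) (ke xe3 ye14 ze45) (ke xe2 ye17 ze17) (ke xe3 ye14 ze53) (ke xe0 ye43 ze36) (ke xe3 ye14 ze58)) (@D3.rec (fun _ => Pt) (ke xe3 ye14 ze61) (ke xe0 ye43 ze37) (ke xe3 ye15 ze1) (ke xe3 ye15 ze2) (ke xe3 ye15 ze4) (ke xe3 ye7 ze61) (ke xe0 ye43 ze39) (ke xe3 ye1 ze28) (ke xe1 ye30 ze11) (ke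 xe0 ye43 ze40) (ke xe3 ye15 ze6) (ke xe0 ye43 ze41) (ke xe0 ye43 ze42) (ke xe3 ye15 ze8) (ke xe0 ye43 ze45) (ke xe3 ye15 ze11) (ke xe3 ye15 ze15) (ke xe3 ye1 ze58) (ke xe3 ye15 ze18) (ke xe0 ye43 ze50) (ke xe0 ye43 ze51) (ke xe3 ye15 ze19) (ke xe0 ye43 ze52) (ke xe3 ye15 ze21) (ke xe3 ye15 ze22) (ke xe3 ye15 ze24) (ke xe0 ye43 ze54) (ke xe1 ye43 ze57) (ke xe0 ye43 ze55) (ke xe3 ye15 ze29) (ke xe3 ye15 ze32) (ke xe3 ye15 ze35) (ke xe3 ye15 ze38) (ke xe0 ye43 ze56) (ke xe3 ye15 ze44) (ke xe0 ye43 ze61) (ke xe3 ye15 ze45) (ke xe3 ye7 ze6) (ke xe1 ye45 ze45) (ke xe0 ye44 ze1) (ke xe3 ye1 ze32) (ke xe3 ye15 ze54) (ke xe3 ye15 ze55) (ke xe0 ye44 ze3) (ke xe3 ye15 ze58) (ke xe3 ye15 ze61) (ke xe0 ye44 ze7) (ke xe3 ye15 ze10) (ke xe3 ye16 ze6) (ke xe0 ye44 ze8) (ke xe3 ye16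 ze9) (ke xe3 ye16 ze12) (ke xe3 ye16 ze17) (ke xe3 ye16 ze18) (ke xe0 ye44 ze9) (ke xe1 ye35 ze44) (ke xe3 ye16 ze27) (ke xe3 ye15 ze12) (ke xe3 ye16 ze29) (ke xe3 ye16 ze33) (ke xe0 ye44 ze11) (ke xe3 ye16 ze39)) (@D3.rec (fun _ => Pt) (ke xe3 ye16 ze41) (ke xe3 ye16 ze45) (ke xe3 ye16 ze48) (ke xe0 ye44 ze12) (ke xe3 ye16 ze55) (ke xe3 ye16 ze35) (ke xe1 ye26 ze49) (ke xe3 ye16 ze8) (ke xe3 ye17 ze1) (ke xe3 ye17 ze4) (ke xe0 ye44 ze14) (ke xe3 ye17 ze12) (ke xe3 ye17 ze13) (ke xe0 ye44 ze15) (ke xe3 ye12 ze0) (ke xe3 ye17 ze22) (ke xe1 ye26 ze55) (ke xe3 ye16 ze2) (ke xe3 ye17 ze32) (ke xe3 ye17 ze33) (ke xe0 ye44 ze17) (ke xe3 ye17 ze37) (ke xe3 ye17 ze38) (ke xe0 ye44 ze18) (ke xe3 ye17 ze44) (ke xe3 ye17 ze47) (ke xe3 ye17 ze49) (ke xe3 ye17 ze53) (ke xe0 ye44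 ze19) (ke xe3 ye17 ze59) (ke xe3 ye17 ze60) (ke xe3 ye18 ze0) (ke xe0 ye44 ze20) (ke xe3 ye18 ze5) (ke xe3 ye18 ze9) (ke xe3 ye18 ze13) (ke xe3 ye18 ze3) (ke xe3 ye18 ze18) (ke xe0 ye44 ze22) (ke xe0 ye44 ze23) (ke xe3 ye18 ze22) (ke xe3 ye18 ze29) (ke xe3 ye18 ze34) (ke xe3 ye18 ze37) (ke xe1 ye34 ze55) (ke xe0 ye44 ze24) (ke xe0 ye44 ze25) (ke xe3 ye16 ze37) (ke xe3 ye6 ze14) (ke xe0 ye44 ze29) (ke xe1 ye26 ze46) (ke xe0 ye49 ze3) (ke xe3 ye16 ze7) (ke xe3 ye9 ze40) (ke xe1 ye43 ze58) (ke xe2 ye5 ze53) (ke xe2 ye6 ze21) (ke xe3 ye18 ze48) (ke xe3 ye18 ze58) (ke xe0 ye44 ze30) (ke xe3 ye19 ze2) (ke xe3 ye19 ze4)) (@D3.rec (fun _ => Pt) (ke xe3 ye19 ze7) (ke xe0 ye44 ze31) (ke xe3 ye19 ze15) (ke xe3 ye19 ze16) (ke xe1 ye26 ze29) (ke xe2 ye22 ze7) (ke xe3 ye19 ze25)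 (ke xe3 ye19 ze28) (ke xe0 ye44 ze33) (ke xe3 ye19 ze30) (ke xe0 ye44 ze34) (ke xe1 ye36 ze26) (ke xe3 ye7 ze5) (ke xe1 ye26 ze31) (ke xe3 ye19 ze41) (ke xe3 ye19 ze44) (ke xe0 ye44 ze37) (ke xe3 ye19 ze47) (ke xe3 ye19 ze48) (ke xe3 ye19 ze50) (ke xe0 ye44 ze38) (ke xe2 ye20 ze50) (ke xe1 ye26 ze37) (ke xe2 ye21 ze53) (ke xe3 ye12 ze2) (ke xe2 ye22 ze36) (ke xe1 ye36 ze11) (ke xe0 ye44 ze41) (ke xe3 ye20 ze6) (ke xe3 ye20 ze8) (ke xe1 ye26 ze38) (ke xe3 ye20 ze14) (ke xe3 ye20 ze17) (ke xe3 ye20 ze21) (ke xe0 ye44 ze44) (ke xe3 ye20 ze26) (ke xe0 ye44 ze45) (ke xe0 ye44 ze46) (ke xe3 ye20 ze36) (ke xe3 ye20 ze40) (ke xe2 ye16 ze16) (ke xe2 ye16 ze14) (ke xe3 ye20 ze46) (ke xe3 ye20 ze50) (ke xe0 ye44 ze48) (ke xe3 ye20 ze57) (ke xe3 ye20 ze59) (ke xe0 ye44 ze49) (ke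 xe3 ye21 ze3) (ke xe3 ye21 ze6) (ke xe2 ye16 ze41) (ke xe3 ye21 ze12) (ke xe3 ye13 ze40) (ke xe2 ye21 ze29) (ke xe3 ye21 ze17) (ke xe3 ye21 ze21) (ke xe0 ye44 ze52) (ke xe1 ye56 ze37) (ke xe3 ye21 ze26) (ke xe3 ye21 ze30) (ke xe0 ye44 ze53) (ke xe1 ye32 ze31)) (@D3.rec (fun _ => Pt) (ke xe1 ye8 ze14) (ke xe3 ye21 ze38) (ke xe0 ye44 ze54) (ke xe2 ye19 ze46) (ke xe2 ye21 ze5) (ke xe3 ye21 ze41) (ke xe3 ye21 ze45) (ke xe1 ye8 ze25) (ke xe0 ye44 ze56) (ke xe3 ye21 ze51) (ke xe3 ye21 ze53) (ke xe0 ye44 ze57) (ke xe1 ye8 ze26) (ke xe3 ye19 ze33) (ke xe1 ye8 ze27) (ke xe3 ye3 ze5) (ke xe3 ye21 ze61) (ke xe3 ye22 ze2) (ke xe0 ye44 ze61) (ke xe3 ye9 ze38) (ke xe3 ye22 ze6) (ke xe3 ye20 ze0) (ke xe0 ye45 ze7) (ke xe2 ye22 ze6) (ke xe2 ye22 ze13) (ke xe3 ye22 ze19) (ke xe3 ye22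 ze21) (ke xe0 ye45 ze5) (ke xe3 ye22 ze24) (ke xe3 ye22 ze26) (ke xe0 ye45 ze6) (ke xe3 ye22 ze31) (ke xe3 ye22 ze11) (ke xe3 ye22 ze35) (ke xe3 ye22 ze37) (ke xe3 ye22 ze39) (ke xe3 ye22 ze41) (ke xe0 ye45 ze11) (ke xe1 ye38 ze26) (ke xe3 ye13 ze2) (ke xe1 ye30 ze24) (ke xe1 ye7 ze14) (ke xe0 ye45 ze15) (ke xe1 ye37 ze43) (ke xe2 ye21 ze52) (ke xe2 ye21 ze60) (ke xe3 ye22 ze50) (ke xe0 ye45 ze19) (ke xe3 ye22 ze53) (ke xe0 ye45 ze21) (ke xe3 ye22 ze55) (ke xe0 ye45 ze22) (ke xe2 ye20 ze28) (ke xe0 ye45 ze23) (ke xe3 ye22 ze61) (ke xe0 ye45 ze24) (ke xe0 ye46 ze19) (ke xe3 ye23 ze2) (ke xe3 ye23 ze4) (ke xe3 ye23 ze7) (ke xe0 ye45 ze26) (ke xe3 ye23 ze11)) (@D3.rec (fun _ => Pt) (ke xe3 ye23 ze15) (ke xe0 ye45 ze27) (ke xe3 ye23 ze21) (ke xe3 ye23 ze24) (ke xe0 ye45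 ze28) (ke xe3 ye23 ze30) (ke xe3 ye23 ze33) (ke xe3 ye23 ze38) (ke xe3 ye23 ze41) (ke xe0 ye45 ze29) (ke xe3 ye23 ze46) (ke xe3 ye23 ze50) (ke xe3 ye23 ze54) (ke xe3 ye23 ze55) (ke xe0 ye45 ze31) (ke xe0 ye47 ze10) (ke xe1 ye30 ze42) (ke xe3 ye23 ze61) (ke xe3 ye24 ze2) (ke xe3 ye24 ze3) (ke xe0 ye45 ze33) (ke xe1 ye27 ze40) (ke xe3 ye24 ze11) (ke xe3 ye8 ze36) (ke xe0 ye45 ze35) (ke xe3 ye13 ze1) (ke xe1 ye37 ze38) (ke xe0 ye45 ze36) (ke xe0 ye45 ze37) (ke xe3 ye24 ze16) (ke xe0 ye45 ze39) (ke xe3 ye10 ze56) (ke xe3 ye13 ze30) (ke xe3 ye24 ze19) (ke xe0 ye45 ze40) (ke xe0 ye53 ze42) (ke xe0 ye45 ze42) (ke xe3 ye24 ze24) (ke xe0 ye45 ze43) (ke xe1 ye40 ze6) (ke xe3 ye24 ze29) (ke xe0 ye45 ze45) (ke xe3 ye24 ze36) (ke xe0 ye45 ze46) (ke xe3 ye24 ze37) (ke xe3 ye24 ze40)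 (ke xe0 ye45 ze47) (ke xe3 ye24 ze42) (ke xe3 ye24 ze44) (ke xe0 ye45 ze48) (ke xe3 ye24 ze52) (ke xe3 ye24 ze56) (ke xe1 ye42 ze11) (ke xe3 ye24 ze59) (ke xe0 ye53 ze34) (ke xe0 ye45 ze50) (ke xe1 ye51 ze53) (ke xe0 ye47 ze36) (ke xe3 ye25 ze0) (ke xe0 ye45 ze53) (ke xe1 ye48 ze56) (ke xe1 ye38 ze61)) (@D3.rec (fun _ => Pt) (ke xe1 ye45 ze51) (ke xe0 ye50 ze57) (ke xe0 ye50 ze12) (ke xe0 ye51 ze24) (ke xe1 ye39 ze4) (ke xe1 ye39 ze5) (ke xe1 ye46 ze29) (ke xe1 ye45 ze52) (ke xe0 ye53 ze32) (ke xe3 ye25 ze14) (ke xe1 ye48 ze15) (ke xe3 ye25 ze15) (ke xe1 ye48 ze12) (ke xe0 ye46 ze1) (ke xe0 ye53 ze58) (ke xe1 ye54 ze3) (ke xe1 ye39 ze32) (ke xe1 ye54 ze22) (ke xe1 ye54 ze34) (ke xe3 ye25 ze24) (ke xe3 ye25 ze25) (ke xe0 ye46 ze9) (ke xe2 ye22 ze4) (ke xe0 ye46 ze10)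 (ke xe3 ye25 ze32) (ke xe3 ye14 ze16) (ke xe3 ye25 ze36) (ke xe3 ye25 ze38) (ke xe3 ye25 ze43) (ke xe3 ye25 ze46) (ke xe0 ye46 ze14) (ke xe3 ye25 ze53) (ke xe1 ye39 ze16) (ke xe3 ye25 ze54) (ke xe3 ye25 ze55) (ke xe0 ye46 ze18) (ke xe3 ye25 ze56) (ke xe3 ye25 ze59) (ke xe0 ye46 ze20) (ke xe1 ye43 ze53) (ke xe1 ye48 ze27) (ke xe3 ye26 ze1) (ke xe3 ye24 ze20) (ke xe3 ye26 ze5) (ke xe3 ye26 ze6) (ke xe0 ye46 ze24) (ke xe3 ye26 ze11) (ke xe3 ye26 ze13) (ke xe2 ye56 ze43) (ke xe0 ye46 ze27) (ke xe1 ye40 ze28) (ke xe1 ye44 ze26) (ke xe1 ye54 ze35) (ke xe0 ye46 ze29) (ke xe3 ye26 ze25) (ke xe3 ye26 ze26) (ke xe3 ye26 ze30) (ke xe3 ye26 ze32) (ke xe0 ye46 ze30) (ke xe1 ye44 ze28) (ke xe1 ye45 ze50) (ke xe3 ye26 ze39)) (@D3.rec (fun _ => Pt) (ke xe3 ye26 ze42) (ke xe0 ye46 ze32)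 (ke xe3 ye26 ze50) (ke xe3 ye26 ze51) (ke xe0 ye46 ze33) (ke xe3 ye26 ze57) (ke xe1 ye38 ze39) (ke xe1 ye44 ze14) (ke xe3 ye27 ze4) (ke xe3 ye27 ze6) (ke xe0 ye46 ze35) (ke xe3 ye27 ze12) (ke xe3 ye27 ze13) (ke xe0 ye46 ze36) (ke xe3 ye27 ze17) (ke xe3 ye27 ze18) (ke xe3 ye27 ze20) (ke xe0 ye46 ze37) (ke xe3 ye27 ze24) (ke xe3 ye27 ze27) (ke xe3 ye27 ze21) (ke xe1 ye52 ze27) (ke xe3 ye27 ze34) (ke xe3 ye27 ze38) (ke xe3 ye27 ze41) (ke xe0 ye46 ze39) (ke xe3 ye27 ze46) (ke xe3 ye27 ze49) (ke xe1 ye39 ze50) (ke xe0 ye46 ze40) (ke xe0 ye47 ze48) (ke xe1 ye43 ze52) (ke xe1 ye44 ze23) (ke xe1 ye54 ze58) (ke xe1 ye54 ze42) (ke xe1 ye43 ze22) (ke xe3 ye28 ze0) (ke xe3 ye28 ze3) (ke xe0 ye54 ze19) (ke xe0 ye46 ze45) (ke xe1 ye45 ze17) (ke xe3 ye28 ze9) (ke xe3 ye28 ze12) (ke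 xe0 ye46 ze48) (ke xe0 ye54 ze7) (ke xe3 ye28 ze16) (ke xe0 ye46 ze51) (ke xe1 ye45 ze16) (ke xe0 ye46 ze53) (ke xe0 ye46 ze54) (ke xe1 ye45 ze1) (ke xe3 ye28 ze24) (ke xe0 ye46 ze57) (ke xe3 ye28 ze27) (ke xe0 ye46 ze58) (ke xe0 ye51 ze25) (ke xe1 ye40 ze56) (ke xe1 ye45 ze31) (ke xe1 ye42 ze4) (ke xe3 ye28 ze32) (ke xe0 ye46 ze61) (ke xe3 ye28 ze35)) (@D3.rec (fun _ => Pt) (ke xe0 ye47 ze1) (ke xe1 ye53 ze24) (ke xe0 ye47 ze2) (ke xe3 ye28 ze43) (ke xe0 ye52 ze5) (ke xe1 ye41 ze5) (ke xe3 ye28 ze41) (ke xe1 ye42 ze5) (ke xe1 ye45 ze32) (ke xe3 ye28 ze4) (ke xe0 ye47 ze8) (ke xe1 ye51 ze39) (ke xe0 ye47 ze11) (ke xe3 ye28 ze56) (ke xe1 ye51 ze55) (ke xe3 ye29 ze4) (ke xe3 ye29 ze5) (ke xe0 ye47 ze14) (ke xe3 ye29 ze13) (ke xe1 ye45 ze37) (ke xe3 ye28 ze19) (ke xe3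 ye29 ze17) (ke xe3 ye25 ze21) (ke xe0 ye47 ze16) (ke xe3 ye29 ze21) (ke xe3 ye29 ze23) (ke xe3 ye29 ze24) (ke xe3 ye29 ze27) (ke xe0 ye47 ze17) (ke xe3 ye29 ze30) (ke xe3 ye29 ze33) (ke xe0 ye47 ze19) (ke xe3 ye29 ze41) (ke xe3 ye29 ze42) (ke xe0 ye47 ze20) (ke xe3 ye29 ze48) (ke xe0 ye48 ze35) (ke xe3 ye29 ze54) (ke xe3 ye29 ze55) (ke xe0 ye47 ze22) (ke xe3 ye29 ze61) (ke xe3 ye30 ze0) (ke xe0 ye47 ze23) (ke xe3 ye30 ze4) (ke xe3 ye30 ze5) (ke xe3 ye30 ze7) (ke xe0 ye47 ze24) (ke xe3 ye30 ze13) (ke xe0 ye47 ze25) (ke xe3 ye30 ze18) (ke xe3 ye30 ze22) (ke xe3 ye30 ze26) (ke xe3 ye30 ze16) (ke xe3 ye30 ze31) (ke xe0 ye47 ze27) (ke xe3 ye30 ze39) (ke xe3 ye30 ze43) (ke xe3 ye30 ze46) (ke xe0 ye47 ze28) (ke xe3 ye30 ze54) (ke xe3 ye30 ze57) (ke xe3 ye28 ze17)) (@D3.rec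 (fun _ => Pt) (ke xe0 ye47 ze29) (ke xe0 ye47 ze30) (ke xe3 ye29 ze16) (ke xe3 ye31 ze3) (ke xe1 ye40 ze58) (ke xe1 ye41 ze7) (ke xe3 ye31 ze6) (ke xe1 ye54 ze45) (ke xe0 ye47 ze34) (ke xe3 ye31 ze16) (ke xe3 ye31 ze19) (ke xe1 ye38 ze52) (ke xe3 ye24 ze61) (ke xe1 ye44 ze13) (ke xe1 ye53 ze59) (ke xe1 ye48 ze57) (ke xe3 ye31 ze25) (ke xe3 ye31 ze29) (ke xe1 ye44 ze17) (ke xe0 ye47 ze39) (ke xe1 ye42 ze27) (ke xe1 ye42 ze30) (ke xe0 ye49 ze39) (ke xe0 ye49 ze37) (ke xe1 ye47 ze31) (ke xe3 ye31 ze40) (ke xe3 ye31 ze44) (ke xe1 ye42 ze20) (ke xe0 ye47 ze43) (ke xe1 ye44 ze12) (ke xe1 ye42 ze21) (ke xe2 ye22 ze52) (ke xe0 ye47 ze49) (ke xe0 ye47 ze50) (ke xe1 ye54 ze1) (ke xe1 ye48 ze21) (ke xe1 ye44 ze19) (ke xe3 ye31 ze45) (ke xe1 ye54 ze55) (ke xe1 ye55 ze1) (ke xe3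 ye31 ze60) (ke xe0 ye47 ze56) (ke xe0 ye47 ze57) (ke xe0 ye47 ze58) (ke xe0 ye48 ze58) (ke xe3 ye32 ze5) (ke xe0 ye47 ze60) (ke xe0 ye47 ze61) (ke xe1 ye43 ze55) (ke xe3 ye32 ze11) (ke xe3 ye32 ze16) (ke xe3 ye32 ze19) (ke xe1 ye55 ze34) (ke xe0 ye48 ze1) (ke xe3 ye32 ze27) (ke xe0 ye48 ze4) (ke xe1 ye44 ze47) (ke xe1 ye53 ze2) (ke xe3 ye32 ze28) (ke xe0 ye48 ze7) (ke xe0 ye48 ze8) (ke xe3 ye32 ze38)) (@D3.rec (fun _ => Pt) (ke xe3 ye32 ze39) (ke xe0 ye48 ze9) (ke xe3 ye32 ze44) (ke xe1 ye44 ze59) (ke xe3 ye32 ze47) (ke xe3 ye32 ze48) (ke xe0 ye48 ze11) (ke xe1 ye46 ze27) (ke xe3 ye30 ze48) (ke xe0 ye48 ze15) (ke xe1 ye45 ze4) (ke xe0 ye50 ze11) (ke xe1 ye43 ze12) (ke xe1 ye43 ze13) (ke xe3 ye32 ze56) (ke xe0 ye48 ze17) (ke xe3 ye33 ze3) (ke xe3 ye33 ze6) (ke xe3 ye33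 ze8) (ke xe0 ye48 ze18) (ke xe3 ye33 ze14) (ke xe0 ye49 ze46) (ke xe1 ye40 ze35) (ke xe3 ye33 ze18) (ke xe0 ye48 ze20) (ke xe3 ye33 ze22) (ke xe3 ye33 ze23) (ke xe0 ye48 ze21) (ke xe3 ye33 ze31) (ke xe3 ye33 ze32) (ke xe0 ye48 ze23) (ke xe3 ye33 ze38) (ke xe3 ye33 ze39) (ke xe0 ye48 ze24) (ke xe3 ye33 ze42) (ke xe1 ye27 ze51) (ke xe3 ye33 ze44) (ke xe0 ye48 ze25) (ke xe3 ye33 ze52) (ke xe3 ye33 ze56) (ke xe3 ye33 ze47) (ke xe1 ye45 ze30) (ke xe3 ye34 ze3) (ke xe3 ye34 ze7) (ke xe3 ye28 ze18) (ke xe0 ye48 ze27) (ke xe3 ye34 ze12) (ke xe3 ye34 ze15) (ke xe3 ye29 ze12) (ke xe0 ye48 ze28) (ke xe0 ye52 ze35) (ke xe0 ye48 ze37) (ke xe1 ye40 ze31) (ke xe1 ye39 ze39) (ke xe0 ye51 ze11) (ke xe1 ye42 ze48) (ke xe1 ye46 ze52) (ke xe1 ye34 ze27) (ke xe1 ye35 ze54) (ke xe1 ye43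 ze59) (ke xe1 ye43 ze60) (ke xe3 ye29 ze36)) (@D3.rec (fun _ => Pt) (ke xe3 ye25 ze28) (ke xe3 ye29 ze46) (ke xe3 ye34 ze31) (ke xe3 ye34 ze34) (ke xe0 ye48 ze36) (ke xe3 ye34 ze39) (ke xe3 ye34 ze42) (ke xe1 ye44 ze11) (ke xe3 ye34 ze50) (ke xe3 ye34 ze52) (ke xe0 ye48 ze38) (ke xe1 ye44 ze7) (ke xe1 ye42 ze29) (ke xe1 ye42 ze13) (ke xe1 ye40 ze7) (ke xe3 ye34 ze61) (ke xe3 ye35 ze2) (ke xe1 ye42 ze18) (ke xe0 ye48 ze41) (ke xe1 ye42 ze36) (ke xe1 ye33 ze15) (ke xe1 ye32 ze10) (ke xe3 ye35 ze9) (ke xe1 ye40 ze32) (ke xe1 ye47 ze20) (ke xe1 ye47 ze45) (ke xe1 ye39 ze51) (ke xe3 ye26 ze19) (ke xe1 ye39 ze59) (ke xe1 ye55 ze4) (ke xe3 ye35 ze20) (ke xe3 ye35 ze22) (ke xe0 ye48 ze54) (ke xe0 ye53 ze19) (ke xe0 ye53 ze20) (ke xe1 ye46 ze10) (ke xe1 ye46 ze20) (ke xe3 ye35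 ze31) (ke xe0 ye48 ze60) (ke xe3 ye35 ze35) (ke xe0 ye48 ze61) (ke xe0 ye49 ze0) (ke xe3 ye35 ze40) (ke xe3 ye35 ze44) (ke xe3 ye35 ze47) (ke xe0 ye49 ze1) (ke xe3 ye35 ze54) (ke xe1 ye42 ze56) (ke xe3 ye35 ze55) (ke xe0 ye49 ze4) (ke xe0 ye49 ze5) (ke xe3 ye1 ze34) (ke xe1 ye53 ze20) (ke xe0 ye49 ze7) (ke xe3 ye36 ze1) (ke xe3 ye36 ze6) (ke xe3 ye36 ze7) (ke xe0 ye49 ze9) (ke xe1 ye51 ze28) (ke xe1 ye43 ze3) (ke xe1 ye53 ze21) (ke xe3 ye36 ze18)) (@D3.rec (fun _ => Pt) (ke xe0 ye49 ze12) (ke xe1 ye40 ze50) (ke xe3 ye28 ze6) (ke xe0 ye49 ze14) (ke xe1 ye43 ze10) (ke xe3 ye36 ze27) (ke xe0 ye49 ze15) (ke xe3 ye36 ze32) (ke xe3 ye36 ze34) (ke xe3 ye36 ze38) (ke xe2 ye8 ze58) (ke xe0 ye49 ze16) (ke xe0 ye49 ze18) (ke xe3 ye36 ze47) (ke xe3 ye36 ze48) (ke xe0 ye49 ze19)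 (ke xe1 ye40 ze47) (ke xe1 ye40 ze40) (ke xe3 ye36 ze58) (ke xe3 ye36 ze59) (ke xe0 ye49 ze21) (ke xe3 ye37 ze0) (ke xe2 ye9 ze3) (ke xe0 ye49 ze22) (ke xe3 ye3 ze44) (ke xe3 ye37 ze3) (ke xe0 ye49 ze23) (ke xe1 ye53 ze30) (ke xe3 ye37 ze12) (ke xe3 ye37 ze6) (ke xe1 ye43 ze41) (ke xe1 ye40 ze57) (ke xe1 ye41 ze8) (ke xe3 ye37 ze24) (ke xe3 ye37 ze27) (ke xe0 ye52 ze44) (ke xe0 ye49 ze26) (ke xe1 ye41 ze19) (ke xe3 ye37 ze36) (ke xe0 ye49 ze32) (ke xe3 ye31 ze36) (ke xe3 ye37 ze42) (ke xe1 ye49 ze38) (ke xe1 ye50 ze10) (ke xe3 ye37 ze49) (ke xe1 ye34 ze38) (ke xe3 ye37 ze39) (ke xe3 ye37 ze55) (ke xe3 ye37 ze57) (ke xe0 ye49 ze33) (ke xe1 ye39 ze60) (ke xe1 ye39 ze0) (ke xe1 ye39 ze7) (ke xe3 ye38 ze1) (ke xe0 ye49 ze35) (ke xe0 ye53 ze50) (ke xe3 ye31 ze34) (ke xe0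 ye49 ze40) (ke xe3 ye32 ze1) (ke xe3 ye33 ze1) (ke xe3 ye38 ze5) (ke xe0 ye49 ze43)) (@D3.rec (fun _ => Pt) (ke xe0 ye49 ze44) (ke xe3 ye38 ze7) (ke xe3 ye33 ze16) (ke xe3 ye38 ze11) (ke xe0 ye49 ze48) (ke xe3 ye38 ze14) (ke xe3 ye38 ze15) (ke xe0 ye49 ze49) (ke xe3 ye37 ze35) (ke xe3 ye38 ze23) (ke xe1 ye44 ze35) (ke xe3 ye38 ze26) (ke xe0 ye49 ze51) (ke xe3 ye38 ze29) (ke xe0 ye49 ze52) (ke xe3 ye38 ze33) (ke xe0 ye49 ze53) (ke xe3 ye38 ze40) (ke xe3 ye38 ze43) (ke xe3 ye38 ze36) (ke xe1 ye44 ze36) (ke xe3 ye38 ze52) (ke xe3 ye38 ze56) (ke xe1 ye53 ze22) (ke xe0 ye49 ze55) (ke xe3 ye38 ze59) (ke xe3 ye39 ze0) (ke xe1 ye43 ze7) (ke xe0 ye49 ze56) (ke xe1 ye39 ze6) (ke xe3 ye39 ze6) (ke xe3 ye39 ze9) (ke xe0 ye49 ze58) (ke xe0 ye53 ze49) (ke xe0 ye49 ze61) (ke xe0 ye50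 ze0) (ke xe3 ye39 ze18) (ke xe0 ye50 ze1) (ke xe3 ye39 ze23) (ke xe0 ye50 ze3) (ke xe3 ye39 ze28) (ke xe0 ye50 ze4) (ke xe0 ye50 ze5) (ke xe3 ye39 ze37) (ke xe3 ye39 ze40) (ke xe3 ye39 ze33) (ke xe3 ye39 ze44) (ke xe3 ye39 ze47) (ke xe0 ye50 ze7) (ke xe3 ye39 ze48) (ke xe3 ye39 ze51) (ke xe0 ye50 ze8) (ke xe1 ye43 ze56) (ke xe3 ye39 ze53) (ke xe0 ye50 ze13) (ke xe3 ye22 ze57) (ke xe3 ye23 ze57) (ke xe3 ye39 ze57) (ke xe0 ye50 ze16) (ke xe1 ye31 ze31) (ke xe3 ye39 ze61) (ke xe3 ye39 ze58)) (@D3.rec (fun _ => Pt) (ke xe3 ye40 ze4) (ke xe3 ye40 ze9) (ke xe3 ye40 ze11) (ke xe0 ye50 ze18) (ke xe3 ye40 ze17) (ke xe0 ye50 ze20) (ke xe0 ye54 ze4) (ke xe3 ye40 ze19) (ke xe3 ye21 ze18) (ke xe3 ye40 ze26) (ke xe0 ye50 ze22) (ke xe0 ye50 ze23) (ke xe3 ye40 ze32) (ke xe3 ye40 ze33)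 (ke xe0 ye50 ze24) (ke xe3 ye40 ze38) (ke xe3 ye40 ze39) (ke xe0 ye50 ze26) (ke xe3 ye34 ze55) (ke xe3 ye31 ze32) (ke xe1 ye44 ze24) (ke xe3 ye40 ze46) (ke xe3 ye40 ze50) (ke xe3 ye40 ze53) (ke xe0 ye50 ze28) (ke xe3 ye40 ze58) (ke xe0 ye50 ze30) (ke xe3 ye41 ze3) (ke xe3 ye41 ze4) (ke xe0 ye50 ze31) (ke xe3 ye26 ze38) (ke xe1 ye42 ze24) (ke xe3 ye41 ze14) (ke xe3 ye41 ze15) (ke xe0 ye50 ze33) (ke xe3 ye41 ze21) (ke xe3 ye41 ze22) (ke xe0 ye50 ze34) (ke xe3 ye41 ze26) (ke xe3 ye41 ze28) (ke xe3 ye41 ze30) (ke xe0 ye50 ze35) (ke xe3 ye41 ze37) (ke xe3 ye41 ze40) (ke xe3 ye41 ze33) (ke xe1 ye44 ze25) (ke xe3 ye41 ze46) (ke xe3 ye41 ze50) (ke xe1 ye54 ze41) (ke xe0 ye50 ze37) (ke xe3 ye41 ze55) (ke xe3 ye41 ze58) (ke xe1 ye53 ze37) (ke xe0 ye50 ze38) (ke xe3 ye41 ze61)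 (ke xe1 ye54 ze46) (ke xe0 ye50 ze40) (ke xe3 ye42 ze2) (ke xe0 ye50 ze43) (ke xe3 ye13 ze7) (ke xe0 ye52 ze0) (ke xe0 ye50 ze46)) (@D3.rec (fun _ => Pt) (ke xe3 ye42 ze3) (ke xe3 ye42 ze4) (ke xe3 ye42 ze7) (ke xe0 ye50 ze47) (ke xe3 ye42 ze10) (ke xe3 ye42 ze12) (ke xe3 ye42 ze17) (ke xe3 ye42 ze21) (ke xe0 ye50 ze48) (ke xe0 ye50 ze50) (ke xe3 ye42 ze25) (ke xe0 ye50 ze51) (ke xe1 ye39 ze12) (ke xe3 ye42 ze27) (ke xe3 ye11 ze8) (ke xe1 ye39 ze10) (ke xe3 ye25 ze5) (ke xe3 ye11 ze9) (ke xe3 ye42 ze39) (ke xe3 ye42 ze40) (ke xe0 ye50 ze55) (ke xe1 ye42 ze35) (ke xe0 ye50 ze58) (ke xe0 ye54 ze10) (ke xe3 ye1 ze5) (ke xe3 ye27 ze39) (ke xe3 ye42 ze46) (ke xe1 ye39 ze40) (ke xe3 ye42 ze56) (ke xe3 ye42 ze57) (ke xe0 ye50 ze61) (ke xe3 ye42 ze59) (ke xe3 ye43 ze0) (ke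 xe0 ye51 ze2) (ke xe3 ye43 ze1) (ke xe0 ye51 ze3) (ke xe3 ye43 ze5) (ke xe0 ye51 ze4) (ke xe3 ye43 ze6) (ke xe3 ye43 ze12) (ke xe0 ye51 ze6) (ke xe2 ye55 ze40) (ke xe3 ye43 ze18) (ke xe0 ye51 ze7) (ke xe3 ye43 ze22) (ke xe3 ye43 ze24) (ke xe3 ye43 ze26) (ke xe3 ye43 ze27) (ke xe0 ye51 ze8) (ke xe3 ye43 ze29) (ke xe3 ye43 ze31) (ke xe3 ye43 ze32) (ke xe3 ye43 ze37) (ke xe3 ye43 ze38) (ke xe0 ye51 ze13) (ke xe3 ye31 ze39) (ke xe1 ye38 ze60) (ke xe1 ye42 ze15) (ke xe0 ye51 ze15) (ke xe3 ye43 ze49) (ke xe3 ye43 ze50) (ke xe0 ye51 ze16)) (@D3.rec (fun _ => Pt) (ke xe3 ye43 ze58) (ke xe3 ye43 ze59) (ke xe0 ye51 ze18) (ke xe3 ye44 ze3) (ke xe3 ye44 ze4) (ke xe0 ye51 ze19) (ke xe3 ye44 ze7) (ke xe3 ye44 ze9) (ke xe3 ye44 ze11) (ke xe0 ye51 ze20) (ke xe3 ye44 ze18) (ke xe3 ye44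 ze21) (ke xe3 ye44 ze14) (ke xe3 ye44 ze25) (ke xe3 ye44 ze29) (ke xe0 ye51 ze22) (ke xe3 ye44 ze30) (ke xe3 ye44 ze33) (ke xe0 ye51 ze23) (ke xe0 ye51 ze26) (ke xe3 ye44 ze36) (ke xe0 ye51 ze28) (ke xe3 ye34 ze36) (ke xe0 ye51 ze30) (ke xe0 ye52 ze24) (ke xe3 ye44 ze41) (ke xe0 ye51 ze31) (ke xe0 ye51 ze32) (ke xe0 ye51 ze33) (ke xe3 ye44 ze48) (ke xe3 ye44 ze51) (ke xe0 ye51 ze35) (ke xe0 ye51 ze36) (ke xe3 ye44 ze57) (ke xe3 ye44 ze59) (ke xe0 ye51 ze37) (ke xe3 ye45 ze0) (ke xe3 ye45 ze3) (ke xe1 ye45 ze42) (ke xe3 ye45 ze6) (ke xe0 ye51 ze40) (ke xe3 ye45 ze7) (ke xe3 ye45 ze11) (ke xe0 ye51 ze42) (ke xe3 ye45 ze12) (ke xe3 ye45 ze15) (ke xe0 ye51 ze43) (ke xe1 ye7 ze38) (ke xe0 ye51 ze44) (ke xe3 ye45 ze19) (ke xe0 ye51 ze45) (ke xe3 ye45 ze24) (ke xe0 ye51 ze46)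 (ke xe3 ye45 ze32) (ke xe0 ye51 ze47) (ke xe3 ye45 ze37) (ke xe1 ye29 ze20) (ke xe3 ye45 ze42) (ke xe3 ye45 ze43) (ke xe0 ye51 ze51) (ke xe3 ye45 ze48) (ke xe3 ye45 ze49)) (@D3.rec (fun _ => Pt) (ke xe0 ye51 ze52) (ke xe3 ye45 ze53) (ke xe3 ye45 ze54) (ke xe0 ye51 ze53) (ke xe3 ye45 ze60) (ke xe3 ye46 ze0) (ke xe0 ye51 ze54) (ke xe3 ye46 ze7) (ke xe3 ye46 ze10) (ke xe3 ye46 ze3) (ke xe1 ye45 ze43) (ke xe3 ye46 ze17) (ke xe3 ye33 ze15) (ke xe0 ye51 ze56) (ke xe0 ye51 ze58) (ke xe3 ye46 ze23) (ke xe3 ye46 ze24) (ke xe0 ye51 ze60) (ke xe3 ye46 ze26) (ke xe3 ye46 ze27) (ke xe3 ye13 ze53) (ke xe3 ye46 ze30) (ke xe0 ye52 ze2) (ke xe0 ye52 ze4) (ke xe3 ye46 ze34) (ke xe3 ye46 ze36) (ke xe3 ye46 ze37) (ke xe3 ye46 ze41) (ke xe0 ye52 ze7) (ke xe0 ye52 ze8) (ke xe3 ye46 ze51)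 (ke xe3 ye46 ze54) (ke xe3 ye46 ze47) (ke xe3 ye46 ze58) (ke xe0 ye52 ze10) (ke xe0 ye52 ze11) (ke xe3 ye46 ze60) (ke xe3 ye47 ze2) (ke xe3 ye47 ze3) (ke xe0 ye52 ze12) (ke xe3 ye34 ze35) (ke xe0 ye52 ze14) (ke xe3 ye47 ze10) (ke xe3 ye47 ze11) (ke xe0 ye52 ze15) (ke xe3 ye47 ze18) (ke xe3 ye47 ze19) (ke xe0 ye52 ze17) (ke xe3 ye47 ze26) (ke xe3 ye47 ze27) (ke xe0 ye52 ze18) (ke xe3 ye47 ze32) (ke xe3 ye47 ze36) (ke xe3 ye47 ze38) (ke xe3 ye47 ze42) (ke xe0 ye52 ze19) (ke xe0 ye52 ze20) (ke xe3 ye47 ze53) (ke xe3 ye47 ze57) (ke xe3 ye47 ze49) (ke xe3 ye44 ze39) (ke xe1 ye53 ze9)) (@D3.rec (fun _ => Pt) (ke xe1 ye53 ze14) (ke xe1 ye53 ze15) (ke xe3 ye48 ze5) (ke xe3 ye48 ze8) (ke xe0 ye52 ze23) (ke xe0 ye52 ze25) (ke xe3 ye48 ze13) (ke xe3 ye48 ze14) (ke xe0 ye52 ze26)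 (ke xe3 ye41 ze54) (ke xe3 ye48 ze19) (ke xe3 ye34 ze18) (ke xe3 ye48 ze23) (ke xe0 ye52 ze28) (ke xe3 ye48 ze28) (ke xe0 ye52 ze29) (ke xe3 ye48 ze31) (ke xe3 ye48 ze32) (ke xe3 ye48 ze33) (ke xe0 ye52 ze30) (ke xe3 ye48 ze39) (ke xe3 ye48 ze41) (ke xe0 ye52 ze31) (ke xe3 ye48 ze48) (ke xe3 ye48 ze51) (ke xe3 ye48 ze44) (ke xe3 ye34 ze19) (ke xe3 ye48 ze58) (ke xe1 ye44 ze58) (ke xe0 ye52 ze33) (ke xe3 ye48 ze61) (ke xe3 ye24 ze58) (ke xe0 ye52 ze34) (ke xe0 ye52 ze36) (ke xe3 ye49 ze8) (ke xe3 ye49 ze9) (ke xe0 ye52 ze37) (ke xe3 ye1 ze33) (ke xe3 ye49 ze12) (ke xe1 ye41 ze11) (ke xe3 ye37 ze23) (ke xe3 ye49 ze18) (ke xe3 ye49 ze19) (ke xe3 ye49 ze21) (ke xe3 ye49 ze25) (ke xe0 ye52 ze39) (ke xe0 ye52 ze40) (ke xe3 ye32 ze31) (ke xe3 ye49 ze39) (ke xe3 ye49 ze32)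 (ke xe3 ye37 ze28) (ke xe3 ye49 ze46) (ke xe0 ye52 ze42) (ke xe1 ye38 ze56) (ke xe3 ye49 ze49) (ke xe1 ye41 ze14) (ke xe3 ye37 ze29) (ke xe3 ye49 ze57) (ke xe3 ye49 ze61) (ke xe3 ye50 ze1) (ke xe3 ye50 ze3) (ke xe3 ye50 ze6)) (@D3.rec (fun _ => Pt) (ke xe0 ye52 ze45) (ke xe0 ye52 ze46) (ke xe3 ye50 ze14) (ke xe0 ye52 ze47) (ke xe3 ye50 ze17) (ke xe3 ye34 ze21) (ke xe3 ye50 ze23) (ke xe3 ye50 ze26) (ke xe3 ye50 ze28) (ke xe3 ye50 ze31) (ke xe3 ye50 ze34) (ke xe0 ye52 ze49) (ke xe0 ye52 ze50) (ke xe0 ye52 ze51) (ke xe3 ye50 ze41) (ke xe3 ye47 ze21) (ke xe3 ye50 ze50) (ke xe3 ye50 ze51) (ke xe0 ye52 ze53) (ke xe3 ye50 ze53) (ke xe0 ye52 ze54) (ke xe3 ye50 ze59) (ke xe3 ye51 ze0) (ke xe0 ye52 ze55) (ke xe3 ye51 ze7) (ke xe3 ye32 ze8) (ke xe3 ye51 ze3) (ke xe1 ye40 ze21)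 (ke xe3 ye51 ze16) (ke xe0 ye52 ze57) (ke xe3 ye51 ze22) (ke xe0 ye52 ze58) (ke xe3 ye51 ze30) (ke xe0 ye52 ze59) (ke xe3 ye51 ze38) (ke xe3 ye51 ze42) (ke xe0 ye53 ze2) (ke xe3 ye51 ze47) (ke xe0 ye52 ze61) (ke xe3 ye51 ze55) (ke xe3 ye51 ze59) (ke xe3 ye52 ze1) (ke xe0 ye53 ze0) (ke xe3 ye52 ze7) (ke xe3 ye35 ze15) (ke xe2 ye38 ze51) (ke xe0 ye53 ze1) (ke xe3 ye52 ze14) (ke xe3 ye52 ze18) (ke xe3 ye51 ze45) (ke xe3 ye52 ze24) (ke xe0 ye53 ze3) (ke xe3 ye52 ze28) (ke xe3 ye32 ze57) (ke xe3 ye51 ze50) (ke xe3 ye42 ze28) (ke xe3 ye52 ze35) (ke xe3 ye52 ze38) (ke xe3 ye52 ze42) (ke xe0 ye53 ze5) (ke xe3 ye48 ze25) (ke xe3 ye52 ze50)) (@D3.rec (fun _ => Pt) (ke xe3 ye52 ze54) (ke xe0 ye53 ze6) (ke xe1 ye42 ze57) (ke xe0 ye53 ze46) (ke xe3 ye53 ze1) (ke xe0 ye53 ze7) (ke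 xe3 ye39 ze16) (ke xe3 ye53 ze3) (ke xe3 ye53 ze6) (ke xe1 ye50 ze61) (ke xe0 ye53 ze9) (ke xe3 ye53 ze16) (ke xe3 ye53 ze18) (ke xe0 ye53 ze10) (ke xe1 ye51 ze0) (ke xe1 ye51 ze1) (ke xe0 ye53 ze61) (ke xe3 ye53 ze25) (ke xe3 ye53 ze28) (ke xe0 ye53 ze14) (ke xe1 ye44 ze52) (ke xe1 ye44 ze60) (ke xe1 ye46 ze23) (ke xe0 ye53 ze22) (ke xe1 ye41 ze1) (ke xe3 ye53 ze37) (ke xe3 ye53 ze39) (ke xe3 ye53 ze40) (ke xe3 ye53 ze43) (ke xe0 ye53 ze21) (ke xe1 ye45 ze27) (ke xe3 ye53 ze48) (ke xe3 ye28 ze5) (ke xe3 ye53 ze53) (ke xe3 ye53 ze55) (ke xe3 ye53 ze56) (ke xe0 ye53 ze23) (ke xe1 ye47 ze52) (ke xe3 ye54 ze1) (ke xe1 ye54 ze4) (ke xe3 ye54 ze5) (ke xe0 ye53 ze25) (ke xe3 ye54 ze11) (ke xe0 ye53 ze26) (ke xe3 ye54 ze14) (ke xe0 ye53 ze27) (ke xe3 ye54 ze21) (ke xe3 ye54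 ze24) (ke xe3 ye54 ze17) (ke xe1 ye54 ze14) (ke xe3 ye53 ze11) (ke xe3 ye54 ze33) (ke xe3 ye31 ze11) (ke xe0 ye53 ze29) (ke xe3 ye54 ze38) (ke xe3 ye54 ze41) (ke xe3 ye54 ze43) (ke xe0 ye53 ze30) (ke xe3 ye25 ze12) (ke xe1 ye42 ze14) (ke xe3 ye54 ze49) (ke xe3 ye54 ze50)) (@D3.rec (fun _ => Pt) (ke xe0 ye53 ze36) (ke xe1 ye42 ze34) (ke xe1 ye54 ze57) (ke xe1 ye39 ze15) (ke xe1 ye53 ze39) (ke xe3 ye54 ze61) (ke xe0 ye53 ze38) (ke xe3 ye55 ze4) (ke xe0 ye53 ze39) (ke xe3 ye55 ze8) (ke xe0 ye53 ze40) (ke xe3 ye27 ze55) (ke xe3 ye55 ze17) (ke xe3 ye55 ze11) (ke xe1 ye53 ze49) (ke xe3 ye24 ze17) (ke xe3 ye24 ze22) (ke xe3 ye52 ze43) (ke xe3 ye55 ze27) (ke xe0 ye53 ze43) (ke xe3 ye24 ze31) (ke xe3 ye55 ze32) (ke xe1 ye39 ze17) (ke xe3 ye38 ze2) (ke xe3 ye52 ze58) (ke xe3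 ye39 ze2) (ke xe3 ye55 ze40) (ke xe3 ye55 ze42) (ke xe0 ye53 ze51) (ke xe0 ye53 ze53) (ke xe3 ye55 ze47) (ke xe3 ye55 ze49) (ke xe0 ye53 ze54) (ke xe3 ye35 ze5) (ke xe1 ye39 ze18) (ke xe1 ye39 ze52) (ke xe3 ye55 ze54) (ke xe3 ye55 ze58) (ke xe0 ye53 ze57) (ke xe3 ye25 ze16) (ke xe3 ye25 ze17) (ke xe1 ye47 ze48) (ke xe1 ye40 ze34) (ke xe0 ye54 ze9) (ke xe3 ye53 ze24) (ke xe1 ye42 ze7) (ke xe1 ye47 ze55) (ke xe3 ye40 ze15) (ke xe3 ye56 ze11) (ke xe3 ye28 ze14) (ke xe0 ye54 ze5) (ke xe3 ye54 ze7) (ke xe3 ye56 ze3) (ke xe3 ye56 ze20) (ke xe0 ye54 ze6) (ke xe1 ye42 ze38) (ke xe3 ye27 ze57) (ke xe1 ye54 ze2) (ke xe1 ye40 ze33) (ke xe3 ye42 ze44) (ke xe3 ye56 ze33) (ke xe0 ye54 ze11)) (@D3.rec (fun _ => Pt) (ke xe3 ye55 ze6) (ke xe1 ye42 ze39) (ke xe3 ye56 ze40) (ke xe0 ye54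 ze12) (ke xe1 ye44 ze29) (ke xe3 ye56 ze46) (ke xe3 ye56 ze49) (ke xe0 ye54 ze17) (ke xe3 ye34 ze17) (ke xe3 ye27 ze61) (ke xe0 ye54 ze23) (ke xe1 ye55 ze11) (ke xe3 ye56 ze57) (ke xe3 ye56 ze60) (ke xe0 ye54 ze21) (ke xe3 ye57 ze1) (ke xe0 ye54 ze22) (ke xe3 ye57 ze3) (ke xe3 ye57 ze4) (ke xe3 ye56 ze54) (ke xe3 ye57 ze10) (ke xe3 ye57 ze13) (ke xe3 ye57 ze15) (ke xe0 ye54 ze25) (ke xe3 ye57 ze19) (ke xe0 ye54 ze26) (ke xe0 ye58 ze31) (ke xe3 ye57 ze22) (ke xe0 ye54 ze28) (ke xe3 ye57 ze25) (ke xe3 ye57 ze27) (ke xe0 ye54 ze35) (ke xe3 ye57 ze35) (ke xe3 ye3 ze21) (ke xe1 ye42 ze52) (ke xe3 ye57 ze40) (ke xe0 ye54 ze31) (ke xe2 ye7 ze48) (ke xe3 ye57 ze45) (ke xe3 ye38 ze35) (ke xe3 ye57 ze49) (ke xe0 ye54 ze34) (ke xe3 ye57 ze53) (ke xe3 ye57 ze56) (ke xe3 ye57 ze29)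 (ke xe3 ye57 ze61) (ke xe0 ye54 ze36) (ke xe0 ye54 ze37) (ke xe1 ye9 ze43) (ke xe1 ye9 ze47) (ke xe2 ye29 ze3) (ke xe2 ye7 ze22) (ke xe2 ye0 ze27) (ke xe1 ye55 ze53) (ke xe3 ye58 ze13) (ke xe3 ye58 ze15) (ke xe3 ye58 ze18) (ke xe0 ye54 ze41) (ke xe3 ye58 ze21) (ke xe3 ye58 ze23) (ke xe0 ye54 ze42) (ke xe3 ye58 ze26)) (@D3.rec (fun _ => Pt) (ke xe3 ye58 ze29) (ke xe2 ye0 ze39) (ke xe3 ye58 ze35) (ke xe3 ye58 ze37) (ke xe0 ye54 ze45) (ke xe0 ye54 ze46) (ke xe2 ye0 ze51) (ke xe3 ye58 ze48) (ke xe0 ye54 ze48) (ke xe3 ye58 ze51) (ke xe0 ye54 ze49) (ke xe1 ye58 ze3) (ke xe1 ye25 ze45) (ke xe0 ye54 ze56) (ke xe3 ye58 ze61) (ke xe3 ye59 ze4) (ke xe0 ye55 ze1) (ke xe3 ye59 ze9) (ke xe3 ye3 ze31) (ke xe3 ye59 ze12) (ke xe0 ye54 ze59) (ke xe3 ye59 ze16) (ke xe3 ye59 ze18) (ke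 xe3 ye59 ze23) (ke xe3 ye59 ze25) (ke xe0 ye54 ze61) (ke xe3 ye59 ze30) (ke xe3 ye59 ze33) (ke xe3 ye59 ze35) (ke xe0 ye55 ze0) (ke xe3 ye59 ze40) (ke xe3 ye59 ze43) (ke xe3 ye59 ze46) (ke xe3 ye59 ze49) (ke xe0 ye55 ze2) (ke xe3 ye59 ze55) (ke xe3 ye10 ze42) (ke xe1 ye36 ze57) (ke xe0 ye56 ze33) (ke xe2 ye18 ze52) (ke xe1 ye57 ze7) (ke xe3 ye59 ze60) (ke xe0 ye55 ze7) (ke xe0 ye56 ze22) (ke xe1 ye57 ze26) (ke xe0 ye55 ze9) (ke xe0 ye55 ze12) (ke xe4 ye0 ze4) (ke xe3 ye3 ze40) (ke xe2 ye0 ze1) (ke xe2 ye10 ze41) (ke xe4 ye0 ze0) (ke xe4 ye0 ze10) (ke xe0 ye55 ze13) (ke xe4 ye0 ze15) (ke xe4 ye0 ze17) (ke xe2 ye23 ze18) (ke xe4 ye0 ze21) (ke xe1 ye57 ze39) (ke xe0 ye55 ze18) (ke xe0 ye55 ze24) (ke xe4 ye0 ze31)) (@D3.rec (fun _ => Pt) (ke xe4 ye0 ze33) (ke xe0 ye55 ze20)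 (ke xe4 ye0 ze37) (ke xe0 ye55 ze21) (ke xe1 ye9 ze31) (ke xe1 ye27 ze56) (ke xe1 ye28 ze19) (ke xe1 ye56 ze40) (ke xe4 ye0 ze43) (ke xe4 ye0 ze47) (ke xe4 ye0 ze27) (ke xe4 ye0 ze51) (ke xe4 ye0 ze53) (ke xe4 ye0 ze54) (ke xe0 ye55 ze25) (ke xe0 ye55 ze26) (ke xe2 ye51 ze6) (ke xe2 ye8 ze0) (ke xe4 ye1 ze0) (ke xe0 ye55 ze30) (ke xe1 ye57 ze20) (ke xe4 ye1 ze6) (ke xe4 ye1 ze8) (ke xe4 ye1 ze2) (ke xe4 ye1 ze10) (ke xe2 ye26 ze7) (ke xe1 ye56 ze44) (ke xe0 ye56 ze34) (ke xe0 ye56 ze27) (ke xe4 ye1 ze13) (ke xe0 ye55 ze36) (ke xe4 ye0 ze23) (ke xe0 ye56 ze26) (ke xe4 ye1 ze18) (ke xe0 ye55 ze37) (ke xe4 ye1 ze20) (ke xe0 ye55 ze39) (ke xe2 ye10 ze36) (ke xe2 ye27 ze59) (ke xe1 ye56 ze58) (ke xe4 ye1 ze27) (ke xe0 ye55 ze43) (ke xe1 ye10 ze24) (ke xe4 ye1 ze32) (ke xe2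 ye9 ze20) (ke xe4 ye1 ze37) (ke xe3 ye3 ze52) (ke xe2 ye45 ze38) (ke xe4 ye1 ze42) (ke xe4 ye1 ze44) (ke xe0 ye55 ze47) (ke xe4 ye1 ze48) (ke xe4 ye1 ze51) (ke xe2 ye28 ze10) (ke xe4 ye1 ze57) (ke xe4 ye1 ze61) (ke xe0 ye55 ze50) (ke xe2 ye18 ze51) (ke xe1 ye9 ze34) (ke xe3 ye57 ze51) (ke xe0 ye55 ze51) (ke xe4 ye2 ze5)) (@D3.rec (fun _ => Pt) (ke xe0 ye55 ze53) (ke xe3 ye3 ze18) (ke xe3 ye3 ze41) (ke xe1 ye56 ze11) (ke xe4 ye2 ze11) (ke xe0 ye55 ze57) (ke xe1 ye1 ze37) (ke xe4 ye2 ze15) (ke xe1 ye28 ze1) (ke xe4 ye2 ze24) (ke xe4 ye2 ze26) (ke xe0 ye55 ze59) (ke xe4 ye2 ze27) (ke xe4 ye2 ze28) (ke xe2 ye36 ze32) (ke xe4 ye2 ze32) (ke xe2 ye43 ze55) (ke xe0 ye56 ze1) (ke xe1 ye58 ze18) (ke xe4 ye2 ze37) (ke xe4 ye2 ze38) (ke xe4 ye2 ze35) (ke xe4 ye2 ze42) (ke xe4 ye2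 ze44) (ke xe4 ye2 ze46) (ke xe0 ye56 ze3) (ke xe4 ye2 ze50) (ke xe2 ye1 ze13) (ke xe4 ye2 ze56) (ke xe4 ye2 ze60) (ke xe0 ye56 ze6) (ke xe4 ye3 ze2) (ke xe4 ye3 ze4) (ke xe0 ye56 ze7) (ke xe4 ye3 ze10) (ke xe4 ye3 ze12) (ke xe0 ye56 ze18) (ke xe4 ye3 ze18) (ke xe4 ye3 ze21) (ke xe0 ye56 ze10) (ke xe4 ye3 ze25) (ke xe4 ye3 ze27) (ke xe4 ye3 ze29) (ke xe0 ye56 ze11) (ke xe1 ye58 ze53) (ke xe4 ye3 ze32) (ke xe2 ye7 ze3) (ke xe1 ye58 ze47) (ke xe4 ye3 ze37) (ke xe4 ye3 ze41) (ke xe0 ye56 ze13) (ke xe4 ye3 ze47) (ke xe0 ye56 ze14) (ke xe1 ye58 ze44) (ke xe4 ye3 ze50) (ke xe2 ye24 ze10) (ke xe4 ye3 ze54) (ke xe4 ye3 ze56) (ke xe0 ye56 ze16) (ke xe4 ye4 ze1) (ke xe4 ye4 ze3) (ke xe0 ye56 ze17)) (@D3.rec (fun _ => Pt) (ke xe4 ye4 ze8) (ke xe4 ye4 ze10) (ke xe4 ye3 ze15) (ke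 xe4 ye4 ze16) (ke xe4 ye4 ze17) (ke xe0 ye56 ze19) (ke xe4 ye4 ze21) (ke xe4 ye4 ze24) (ke xe4 ye4 ze26) (ke xe0 ye56 ze20) (ke xe1 ye59 ze22) (ke xe4 ye4 ze29) (ke xe1 ye19 ze12) (ke xe3 ye56 ze61) (ke xe2 ye8 ze39) (ke xe0 ye56 ze23) (ke xe1 ye27 ze61) (ke xe4 ye1 ze15) (ke xe4 ye4 ze37) (ke xe0 ye56 ze28) (ke xe4 ye4 ze40) (ke xe0 ye56 ze29) (ke xe1 ye59 ze10) (ke xe4 ye4 ze43) (ke xe2 ye4 ze39) (ke xe0 ye59 ze16) (ke xe4 ye4 ze47) (ke xe3 ye59 ze58) (ke xe0 ye58 ze36) (ke xe3 ye3 ze35) (ke xe0 ye56 ze35) (ke xe2 ye10 ze39) (ke xe0 ye56 ze40) (ke xe1 ye20 ze58) (ke xe4 ye4 ze58) (ke xe3 ye4 ze6) (ke xe0 ye56 ze43) (ke xe0 ye56 ze44) (ke xe2 ye0 ze23) (ke xe2 ye0 ze24) (ke xe2 ye7 ze14) (ke xe2 ye3 ze27) (ke xe1 ye9 ze51) (ke xe1 ye59 ze43) (ke xe4 ye5 ze8) (ke xe4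 ye5 ze10) (ke xe4 ye5 ze13) (ke xe0 ye56 ze48) (ke xe2 ye40 ze24) (ke xe4 ye5 ze16) (ke xe0 ye56 ze49) (ke xe4 ye5 ze19) (ke xe4 ye5 ze22) (ke xe1 ye10 ze1) (ke xe4 ye5 ze27) (ke xe4 ye5 ze28) (ke xe0 ye56 ze52) (ke xe0 ye56 ze53) (ke xe1 ye10 ze7) (ke xe4 ye5 ze33) (ke xe4 ye5 ze34) (ke xe0 ye56 ze55))
def f_e_2 : D2 → D3 → Pt := @D2.rec (fun _ => D3 → Pt) (@D3.rec (fun _ => Pt) (ke xe1 ye31 ze14) (ke xe1 ye56 ze49) (ke xe0 ye56 ze56) (ke xe1 ye4 ze50) (ke xe4 ye5 ze37) (ke xe0 ye56 ze60) (ke xe1 ye24 ze37) (ke xe4 ye5 ze42) (ke xe1 ye10 ze25) (ke xe2 ye48 ze32) (ke xe4 ye5 ze45) (ke xe4 ye5 ze46) (ke xe0 ye57 ze4) (ke xe4 ye5 ze52) (ke xe4 ye5 ze57) (ke xe1 ye20 ze57) (ke xe4 ye6 ze0) (ke xe3 ye4 ze50) (ke xe4 ye6 ze3) (ke xe0 ye57 ze7) (ke xe4 ye6 ze7) (ke xe0 ye57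 ze9) (ke xe0 ye57 ze10) (ke xe1 ye59 ze38) (ke xe1 ye59 ze39) (ke xe2 ye3 ze53) (ke xe2 ye6 ze43) (ke xe1 ye55 ze52) (ke xe2 ye0 ze28) (ke xe4 ye6 ze18) (ke xe4 ye6 ze21) (ke xe4 ye6 ze25) (ke xe0 ye57 ze14) (ke xe4 ye6 ze27) (ke xe4 ye6 ze29) (ke xe4 ye6 ze31) (ke xe0 ye57 ze15) (ke xe4 ye6 ze34) (ke xe4 ye6 ze37) (ke xe1 ye56 ze1) (ke xe4 ye6 ze43) (ke xe4 ye6 ze45) (ke xe2 ye12 ze47) (ke xe2 ye54 ze59) (ke xe0 ye57 ze19) (ke xe4 ye6 ze51) (ke xe0 ye57 ze20) (ke xe4 ye6 ze53) (ke xe0 ye57 ze21) (ke xe4 ye6 ze55) (ke xe0 ye57 ze23) (ke xe1 ye56 ze6) (ke xe4 ye7 ze2) (ke xe4 ye7 ze3) (ke xe0 ye57 ze25) (ke xe2 ye15 ze34) (ke xe0 ye57 ze28) (ke xe2 ye16 ze0) (ke xe2 ye44 ze40) (ke xe4 ye7 ze14) (ke xe1 ye24 ze50) (ke xe4 ye7 ze19)) (@D3.rec (fun _ => Pt) (ke xe2 ye45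 ze56) (ke xe4 ye7 ze22) (ke xe4 ye7 ze24) (ke xe0 ye57 ze34) (ke xe4 ye7 ze28) (ke xe0 ye57 ze37) (ke xe4 ye7 ze31) (ke xe2 ye43 ze54) (ke xe2 ye4 ze10) (ke xe2 ye1 ze9) (ke xe4 ye7 ze38) (ke xe0 ye57 ze39) (ke xe4 ye7 ze40) (ke xe1 ye58 ze27) (ke xe4 ye7 ze46) (ke xe4 ye7 ze48) (ke xe2 ye35 ze11) (ke xe2 ye1 ze17) (ke xe4 ye7 ze54) (ke xe2 ye4 ze14) (ke xe2 ye1 ze20) (ke xe4 ye7 ze59) (ke xe0 ye57 ze44) (ke xe4 ye8 ze1) (ke xe2 ye35 ze12) (ke xe4 ye8 ze7) (ke xe4 ye8 ze9) (ke xe4 ye8 ze11) (ke xe4 ye8 ze14) (ke xe0 ye57 ze47) (ke xe4 ye8 ze16) (ke xe0 ye57 ze48) (ke xe4 ye8 ze19) (ke xe4 ye8 ze21) (ke xe2 ye5 ze8) (ke xe4 ye8 ze27) (ke xe4 ye8 ze30) (ke xe0 ye57 ze51) (ke xe2 ye1 ze38) (ke xe4 ye8 ze35) (ke xe0 ye57 ze52) (ke xe4 ye8 ze39) (ke xe4 ye8 ze41) (ke xe4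 ye8 ze46) (ke xe0 ye57 ze53) (ke xe1 ye17 ze35) (ke xe4 ye8 ze49) (ke xe2 ye41 ze53) (ke xe2 ye1 ze48) (ke xe4 ye8 ze54) (ke xe4 ye8 ze56) (ke xe4 ye8 ze60) (ke xe0 ye57 ze55) (ke xe4 ye9 ze1) (ke xe4 ye9 ze3) (ke xe0 ye57 ze56) (ke xe4 ye9 ze9) (ke xe0 ye57 ze57) (ke xe4 ye9 ze12) (ke xe4 ye7 ze60) (ke xe4 ye9 ze17) (ke xe4 ye9 ze22)) (@D3.rec (fun _ => Pt) (ke xe2 ye40 ze9) (ke xe0 ye57 ze59) (ke xe4 ye9 ze31) (ke xe4 ye9 ze34) (ke xe1 ye14 ze11) (ke xe0 ye57 ze60) (ke xe4 ye9 ze43) (ke xe4 ye9 ze46) (ke xe2 ye5 ze33) (ke xe4 ye9 ze55) (ke xe4 ye9 ze57) (ke xe0 ye58 ze0) (ke xe4 ye9 ze61) (ke xe4 ye10 ze1) (ke xe0 ye58 ze2) (ke xe2 ye2 ze15) (ke xe4 ye10 ze7) (ke xe0 ye58 ze3) (ke xe4 ye10 ze12) (ke xe4 ye10 ze14) (ke xe4 ye10 ze19) (ke xe0 ye58 ze4) (ke xe1 ye15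 ze22) (ke xe2 ye3 ze14) (ke xe2 ye6 ze5) (ke xe4 ye10 ze24) (ke xe0 ye58 ze6) (ke xe4 ye10 ze26) (ke xe4 ye10 ze30) (ke xe0 ye58 ze7) (ke xe2 ye5 ze55) (ke xe4 ye10 ze35) (ke xe2 ye6 ze9) (ke xe2 ye2 ze33) (ke xe4 ye10 ze38) (ke xe4 ye10 ze40) (ke xe0 ye58 ze12) (ke xe4 ye10 ze43) (ke xe4 ye10 ze48) (ke xe0 ye58 ze13) (ke xe4 ye10 ze50) (ke xe2 ye5 ze47) (ke xe3 ye17 ze26) (ke xe0 ye58 ze15) (ke xe2 ye41 ze44) (ke xe0 ye58 ze17) (ke xe2 ye5 ze57) (ke xe4 ye10 ze60) (ke xe4 ye11 ze2) (ke xe4 ye11 ze7) (ke xe0 ye58 ze19) (ke xe4 ye11 ze15) (ke xe0 ye58 ze20) (ke xe2 ye6 ze24) (ke xe4 ye11 ze22) (ke xe1 ye16 ze28) (ke xe2 ye6 ze25) (ke xe4 ye11 ze25) (ke xe4 ye11 ze30) (ke xe0 ye58 ze22) (ke xe4 ye11 ze37) (ke xe0 ye58 ze23)) (@D3.rec (fun _ => Pt) (ke xe4 ye11 ze40) (ke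 xe2 ye6 ze15) (ke xe2 ye6 ze17) (ke xe3 ye6 ze45) (ke xe0 ye58 ze25) (ke xe4 ye11 ze51) (ke xe4 ye11 ze56) (ke xe2 ye6 ze32) (ke xe4 ye11 ze61) (ke xe4 ye12 ze0) (ke xe0 ye58 ze28) (ke xe0 ye58 ze29) (ke xe4 ye12 ze6) (ke xe3 ye57 ze16) (ke xe2 ye2 ze23) (ke xe0 ye58 ze32) (ke xe1 ye19 ze9) (ke xe4 ye1 ze16) (ke xe2 ye3 ze18) (ke xe2 ye3 ze19) (ke xe4 ye12 ze13) (ke xe4 ye12 ze15) (ke xe0 ye58 ze39) (ke xe4 ye12 ze20) (ke xe4 ye12 ze23) (ke xe4 ye12 ze28) (ke xe0 ye58 ze40) (ke xe1 ye59 ze41) (ke xe4 ye12 ze34) (ke xe2 ye7 ze16) (ke xe4 ye12 ze36) (ke xe4 ye12 ze38) (ke xe0 ye58 ze42) (ke xe4 ye12 ze43) (ke xe4 ye12 ze45) (ke xe0 ye58 ze43) (ke xe1 ye6 ze56) (ke xe0 ye58 ze44) (ke xe2 ye6 ze50) (ke xe4 ye12 ze52) (ke xe2 ye7 ze21) (ke xe1 ye18 ze21) (ke xe2 ye29 ze2)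 (ke xe2 ye44 ze26) (ke xe2 ye3 ze44) (ke xe4 ye12 ze57) (ke xe4 ye12 ze59) (ke xe0 ye58 ze53) (ke xe4 ye13 ze2) (ke xe4 ye13 ze5) (ke xe4 ye13 ze10) (ke xe0 ye58 ze54) (ke xe4 ye13 ze15) (ke xe2 ye0 ze25) (ke xe2 ye6 ze45) (ke xe3 ye24 ze15) (ke xe0 ye58 ze56) (ke xe4 ye12 ze41) (ke xe2 ye6 ze52) (ke xe1 ye9 ze50) (ke xe4 ye13 ze23) (ke xe1 ye9 ze42)) (@D3.rec (fun _ => Pt) (ke xe0 ye58 ze61) (ke xe2 ye23 ze4) (ke xe2 ye23 ze9) (ke xe3 ye3 ze22) (ke xe0 ye59 ze3) (ke xe1 ye5 ze20) (ke xe4 ye13 ze34) (ke xe2 ye49 ze2) (ke xe0 ye59 ze6) (ke xe4 ye13 ze38) (ke xe2 ye1 ze8) (ke xe2 ye4 ze11) (ke xe0 ye59 ze8) (ke xe4 ye13 ze45) (ke xe2 ye1 ze19) (ke xe2 ye4 ze15) (ke xe4 ye13 ze50) (ke xe4 ye13 ze36) (ke xe2 ye4 ze18) (ke xe0 ye59 ze14) (ke xe2 ye4 ze20) (ke xe4 ye13 ze59)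 (ke xe4 ye14 ze0) (ke xe0 ye59 ze12) (ke xe4 ye14 ze3) (ke xe4 ye14 ze5) (ke xe4 ye14 ze7) (ke xe0 ye59 ze13) (ke xe4 ye14 ze10) (ke xe4 ye14 ze13) (ke xe4 ye13 ze56) (ke xe4 ye14 ze18) (ke xe4 ye14 ze20) (ke xe4 ye14 ze22) (ke xe0 ye59 ze23) (ke xe4 ye14 ze26) (ke xe4 ye14 ze28) (ke xe0 ye59 ze19) (ke xe4 ye14 ze31) (ke xe1 ye59 ze24) (ke xe4 ye14 ze35) (ke xe4 ye14 ze37) (ke xe0 ye59 ze21) (ke xe4 ye14 ze42) (ke xe0 ye59 ze22) (ke xe4 ye14 ze23) (ke xe4 ye14 ze51) (ke xe4 ye14 ze52) (ke xe0 ye59 ze24) (ke xe1 ye11 ze56) (ke xe4 ye14 ze56) (ke xe0 ye59 ze28) (ke xe4 ye14 ze58) (ke xe2 ye34 ze17) (ke xe4 ye15 ze2) (ke xe0 ye59 ze31) (ke xe2 ye34 ze18) (ke xe2 ye4 ze57) (ke xe4 ye15 ze8) (ke xe0 ye59 ze33) (ke xe4 ye15 ze12) (ke xe2 ye34 ze20)) (@D3.rec (fun _ => Pt)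 (ke xe4 ye15 ze18) (ke xe4 ye15 ze20) (ke xe4 ye15 ze23) (ke xe0 ye59 ze36) (ke xe4 ye15 ze25) (ke xe0 ye59 ze37) (ke xe4 ye15 ze28) (ke xe4 ye15 ze30) (ke xe2 ye1 ze34) (ke xe4 ye15 ze36) (ke xe4 ye15 ze38) (ke xe4 ye15 ze40) (ke xe4 ye15 ze45) (ke xe0 ye59 ze40) (ke xe2 ye5 ze24) (ke xe4 ye15 ze48) (ke xe2 ye41 ze12) (ke xe4 ye15 ze52) (ke xe4 ye15 ze55) (ke xe0 ye59 ze42) (ke xe4 ye15 ze58) (ke xe0 ye59 ze43) (ke xe4 ye15 ze61) (ke xe0 ye59 ze44) (ke xe2 ye5 ze14) (ke xe4 ye15 ze9) (ke xe4 ye16 ze7) (ke xe0 ye59 ze46) (ke xe4 ye16 ze13) (ke xe4 ye16 ze16) (ke xe0 ye59 ze47) (ke xe4 ye16 ze24) (ke xe4 ye16 ze28) (ke xe2 ye2 ze8) (ke xe4 ye16 ze36) (ke xe4 ye16 ze38) (ke xe0 ye59 ze49) (ke xe2 ye5 ze37) (ke xe4 ye16 ze43) (ke xe4 ye16 ze45) (ke xe0 ye59 ze51) (ke xe4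 ye16 ze47) (ke xe4 ye16 ze50) (ke xe4 ye16 ze55) (ke xe0 ye59 ze52) (ke xe1 ye24 ze55) (ke xe2 ye37 ze0) (ke xe2 ye2 ze41) (ke xe4 ye17 ze0) (ke xe3 ye7 ze58) (ke xe0 ye59 ze54) (ke xe4 ye17 ze6) (ke xe0 ye59 ze55) (ke xe1 ye35 ze55) (ke xe0 ye59 ze56) (ke xe2 ye2 ze30) (ke xe4 ye17 ze11) (ke xe2 ye2 ze46) (ke xe4 ye17 ze13) (ke xe4 ye17 ze15) (ke xe0 ye59 ze61) (ke xe4 ye17 ze19)) (@D3.rec (fun _ => Pt) (ke xe4 ye17 ze21) (ke xe4 ye17 ze26) (ke xe1 ye0 ze0) (ke xe4 ye10 ze2) (ke xe1 ye12 ze60) (ke xe2 ye2 ze24) (ke xe4 ye17 ze33) (ke xe1 ye0 ze2) (ke xe4 ye17 ze4) (ke xe2 ye2 ze32) (ke xe4 ye17 ze38) (ke xe4 ye17 ze43) (ke xe1 ye0 ze6) (ke xe4 ye17 ze50) (ke xe1 ye0 ze7) (ke xe2 ye3 ze1) (ke xe4 ye17 ze59) (ke xe2 ye3 ze2) (ke xe4 ye17 ze61) (ke xe4 ye18 ze4) (ke xe1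 ye0 ze9) (ke xe1 ye35 ze56) (ke xe1 ye0 ze10) (ke xe4 ye18 ze13) (ke xe2 ye2 ze53) (ke xe2 ye2 ze56) (ke xe1 ye30 ze36) (ke xe1 ye0 ze12) (ke xe3 ye10 ze58) (ke xe1 ye0 ze13) (ke xe4 ye18 ze26) (ke xe4 ye18 ze30) (ke xe2 ye3 ze7) (ke xe4 ye18 ze34) (ke xe2 ye6 ze34) (ke xe2 ye6 ze35) (ke xe4 ye18 ze38) (ke xe4 ye18 ze40) (ke xe1 ye0 ze17) (ke xe4 ye18 ze44) (ke xe4 ye18 ze46) (ke xe4 ye18 ze51) (ke xe1 ye0 ze18) (ke xe2 ye0 ze26) (ke xe4 ye12 ze60) (ke xe2 ye3 ze54) (ke xe4 ye18 ze61) (ke xe1 ye0 ze20) (ke xe3 ye9 ze3) (ke xe1 ye0 ze21) (ke xe2 ye3 ze38) (ke xe4 ye19 ze3) (ke xe2 ye3 ze58) (ke xe1 ye19 ze36) (ke xe2 ye8 ze19) (ke xe1 ye16 ze57) (ke xe2 ye25 ze24) (ke xe4 ye19 ze8) (ke xe1 ye0 ze27) (ke xe4 ye19 ze9) (ke xe4 ye19 ze10) (ke xe4 ye19 ze12)) (@D3.rec (fun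 _ => Pt) (ke xe1 ye0 ze30) (ke xe2 ye24 ze9) (ke xe4 ye19 ze15) (ke xe1 ye58 ze46) (ke xe2 ye7 ze31) (ke xe2 ye7 ze5) (ke xe4 ye19 ze23) (ke xe4 ye19 ze25) (ke xe1 ye0 ze37) (ke xe4 ye19 ze29) (ke xe4 ye19 ze32) (ke xe4 ye19 ze37) (ke xe1 ye0 ze38) (ke xe4 ye12 ze16) (ke xe1 ye59 ze40) (ke xe4 ye19 ze39) (ke xe2 ye3 ze29) (ke xe2 ye19 ze35) (ke xe1 ye0 ze40) (ke xe2 ye45 ze54) (ke xe1 ye0 ze42) (ke xe2 ye3 ze40) (ke xe1 ye55 ze51) (ke xe2 ye44 ze25) (ke xe1 ye12 ze59) (ke xe2 ye24 ze47) (ke xe4 ye19 ze55) (ke xe4 ye19 ze57) (ke xe2 ye28 ze4) (ke xe4 ye20 ze1) (ke xe4 ye20 ze3) (ke xe2 ye7 ze4) (ke xe3 ye10 ze28) (ke xe4 ye20 ze9) (ke xe1 ye1 ze60) (ke xe4 ye20 ze17) (ke xe2 ye26 ze55) (ke xe2 ye28 ze5) (ke xe2 ye7 ze38) (ke xe4 ye20 ze24) (ke xe1 ye0 ze55) (ke xe2 ye28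 ze6) (ke xe4 ye20 ze29) (ke xe4 ye20 ze31) (ke xe1 ye0 ze58) (ke xe1 ye31 ze13) (ke xe4 ye20 ze34) (ke xe4 ye2 ze1) (ke xe1 ye55 ze37) (ke xe4 ye20 ze44) (ke xe2 ye9 ze58) (ke xe1 ye1 ze2) (ke xe4 ye20 ze47) (ke xe4 ye20 ze48) (ke xe4 ye20 ze46) (ke xe4 ye20 ze52) (ke xe2 ye37 ze13) (ke xe2 ye7 ze57) (ke xe1 ye1 ze6) (ke xe4 ye20 ze57) (ke xe4 ye20 ze56) (ke xe4 ye20 ze61)) (@D3.rec (fun _ => Pt) (ke xe1 ye57 ze17) (ke xe2 ye8 ze1) (ke xe2 ye58 ze20) (ke xe1 ye1 ze12) (ke xe4 ye21 ze5) (ke xe4 ye21 ze7) (ke xe1 ye1 ze11) (ke xe4 ye21 ze12) (ke xe4 ye21 ze3) (ke xe4 ye21 ze17) (ke xe4 ye21 ze19) (ke xe1 ye1 ze14) (ke xe4 ye21 ze24) (ke xe1 ye1 ze24) (ke xe4 ye21 ze28) (ke xe4 ye21 ze30) (ke xe4 ye21 ze34) (ke xe1 ye1 ze17) (ke xe1 ye9 ze7) (ke xe2 ye6 ze54) (ke xe4 ye21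 ze40) (ke xe1 ye1 ze19) (ke xe4 ye21 ze43) (ke xe1 ye1 ze20) (ke xe4 ye21 ze49) (ke xe1 ye1 ze22) (ke xe4 ye21 ze55) (ke xe4 ye21 ze58) (ke xe1 ye1 ze23) (ke xe4 ye22 ze2) (ke xe4 ye22 ze5) (ke xe4 ye21 ze25) (ke xe4 ye22 ze13) (ke xe4 ye22 ze14) (ke xe1 ye1 ze25) (ke xe4 ye22 ze19) (ke xe1 ye1 ze26) (ke xe4 ye22 ze23) (ke xe1 ye1 ze27) (ke xe1 ye59 ze14) (ke xe1 ye21 ze51) (ke xe1 ye27 ze57) (ke xe4 ye22 ze33) (ke xe4 ye22 ze34) (ke xe1 ye1 ze30) (ke xe2 ye58 ze9) (ke xe4 ye22 ze41) (ke xe1 ye1 ze34) (ke xe4 ye22 ze43) (ke xe1 ye1 ze35) (ke xe4 ye2 ze12) (ke xe4 ye22 ze50) (ke xe4 ye22 ze55) (ke xe4 ye22 ze58) (ke xe1 ye1 ze38) (ke xe1 ye2 ze4) (ke xe1 ye21 ze28) (ke xe2 ye26 ze26) (ke xe1 ye45 ze10) (ke xe4 ye23 ze5) (ke xe1 ye1 ze40) (ke xe1 ye13 ze38)) (@D3.rec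 (fun _ => Pt) (ke xe3 ye4 ze40) (ke xe4 ye23 ze9) (ke xe1 ye1 ze42) (ke xe1 ye45 ze22) (ke xe4 ye23 ze15) (ke xe1 ye1 ze43) (ke xe4 ye23 ze21) (ke xe4 ye23 ze26) (ke xe1 ye2 ze13) (ke xe4 ye23 ze31) (ke xe4 ye23 ze33) (ke xe4 ye23 ze35) (ke xe4 ye23 ze37) (ke xe4 ye23 ze39) (ke xe1 ye1 ze45) (ke xe4 ye23 ze43) (ke xe1 ye1 ze46) (ke xe4 ye23 ze49) (ke xe4 ye23 ze50) (ke xe1 ye1 ze48) (ke xe1 ye57 ze44) (ke xe4 ye23 ze53) (ke xe4 ye23 ze55) (ke xe4 ye23 ze57) (ke xe3 ye36 ze5) (ke xe4 ye24 ze0) (ke xe1 ye1 ze50) (ke xe1 ye1 ze51) (ke xe4 ye22 ze35) (ke xe4 ye24 ze9) (ke xe4 ye24 ze6) (ke xe1 ye31 ze12) (ke xe1 ye2 ze3) (ke xe1 ye1 ze53) (ke xe4 ye24 ze13) (ke xe4 ye24 ze16) (ke xe4 ye24 ze18) (ke xe4 ye24 ze22) (ke xe1 ye1 ze55) (ke xe1 ye1 ze56) (ke xe2 ye26 ze3) (ke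 xe4 ye24 ze26) (ke xe3 ye5 ze36) (ke xe1 ye13 ze37) (ke xe4 ye24 ze34) (ke xe4 ye22 ze52) (ke xe4 ye20 ze12) (ke xe4 ye24 ze37) (ke xe1 ye1 ze61) (ke xe4 ye23 ze2) (ke xe4 ye24 ze43) (ke xe4 ye24 ze45) (ke xe4 ye24 ze49) (ke xe1 ye2 ze0) (ke xe1 ye2 ze1) (ke xe1 ye27 ze46) (ke xe4 ye22 ze59) (ke xe4 ye24 ze56) (ke xe2 ye7 ze50) (ke xe4 ye24 ze10) (ke xe4 ye23 ze0) (ke xe1 ye2 ze6)) (@D3.rec (fun _ => Pt) (ke xe4 ye25 ze9) (ke xe3 ye0 ze61) (ke xe4 ye23 ze12) (ke xe4 ye25 ze19) (ke xe4 ye25 ze21) (ke xe4 ye25 ze25) (ke xe1 ye2 ze8) (ke xe1 ye2 ze9) (ke xe4 ye25 ze32) (ke xe2 ye33 ze42) (ke xe4 ye25 ze39) (ke xe4 ye25 ze42) (ke xe4 ye25 ze45) (ke xe4 ye25 ze49) (ke xe4 ye25 ze53) (ke xe1 ye2 ze11) (ke xe4 ye25 ze58) (ke xe4 ye25 ze60) (ke xe4 ye26 ze0) (ke xe4 ye26 ze2)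 (ke xe1 ye2 ze12) (ke xe4 ye26 ze9) (ke xe4 ye26 ze12) (ke xe4 ye26 ze15) (ke xe4 ye26 ze20) (ke xe1 ye2 ze14) (ke xe4 ye26 ze25) (ke xe1 ye2 ze15) (ke xe4 ye26 ze30) (ke xe1 ye2 ze16) (ke xe4 ye26 ze38) (ke xe1 ye2 ze17) (ke xe4 ye26 ze46) (ke xe4 ye26 ze50) (ke xe4 ye26 ze51) (ke xe1 ye2 ze19) (ke xe1 ye57 ze37) (ke xe4 ye26 ze58) (ke xe4 ye26 ze54) (ke xe1 ye59 ze31) (ke xe1 ye11 ze58) (ke xe1 ye56 ze50) (ke xe1 ye28 ze21) (ke xe1 ye2 ze22) (ke xe4 ye3 ze43) (ke xe4 ye10 ze8) (ke xe1 ye15 ze5) (ke xe2 ye10 ze47) (ke xe4 ye27 ze13) (ke xe1 ye2 ze24) (ke xe4 ye27 ze15) (ke xe1 ye15 ze13) (ke xe4 ye27 ze21) (ke xe4 ye27 ze23) (ke xe1 ye2 ze27) (ke xe4 ye27 ze25) (ke xe1 ye15 ze20) (ke xe4 ye27 ze31) (ke xe4 ye27 ze33) (ke xe1 ye2 ze30) (ke xe4 ye27 ze35) (ke xe2 ye58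 ze26)) (@D3.rec (fun _ => Pt) (ke xe4 ye27 ze41) (ke xe4 ye27 ze43) (ke xe1 ye2 ze33) (ke xe4 ye27 ze47) (ke xe4 ye27 ze49) (ke xe4 ye27 ze54) (ke xe1 ye2 ze34) (ke xe1 ye9 ze10) (ke xe4 ye27 ze57) (ke xe2 ye24 ze12) (ke xe4 ye28 ze0) (ke xe1 ye2 ze36) (ke xe4 ye3 ze23) (ke xe4 ye28 ze5) (ke xe4 ye28 ze10) (ke xe1 ye2 ze38) (ke xe4 ye28 ze17) (ke xe1 ye2 ze39) (ke xe4 ye28 ze25) (ke xe4 ye28 ze29) (ke xe2 ye58 ze47) (ke xe4 ye28 ze38) (ke xe4 ye28 ze40) (ke xe1 ye2 ze41) (ke xe4 ye28 ze44) (ke xe4 ye28 ze46) (ke xe4 ye28 ze51) (ke xe1 ye2 ze42) (ke xe1 ye14 ze39) (ke xe2 ye40 ze61) (ke xe1 ye17 ze24) (ke xe4 ye28 ze56) (ke xe1 ye2 ze44) (ke xe2 ye52 ze52) (ke xe1 ye21 ze19) (ke xe2 ye58 ze56) (ke xe4 ye29 ze0) (ke xe1 ye17 ze31) (ke xe2 ye11 ze38) (ke xe4 ye29 ze3)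 (ke xe4 ye29 ze6) (ke xe4 ye29 ze11) (ke xe1 ye2 ze50) (ke xe4 ye29 ze19) (ke xe4 ye29 ze20) (ke xe1 ye2 ze52) (ke xe4 ye29 ze23) (ke xe1 ye17 ze8) (ke xe4 ye29 ze28) (ke xe1 ye2 ze54) (ke xe4 ye29 ze37) (ke xe4 ye29 ze38) (ke xe1 ye2 ze55) (ke xe2 ye59 ze20) (ke xe4 ye29 ze47) (ke xe1 ye13 ze23) (ke xe1 ye17 ze53) (ke xe4 ye29 ze49) (ke xe4 ye29 ze52) (ke xe1 ye2 ze57) (ke xe4 ye29 ze60) (ke xe2 ye50 ze33)) (@D3.rec (fun _ => Pt) (ke xe1 ye2 ze58) (ke xe4 ye30 ze1) (ke xe2 ye59 ze12) (ke xe1 ye17 ze44) (ke xe4 ye30 ze8) (ke xe4 ye30 ze9) (ke xe1 ye2 ze60) (ke xe4 ye30 ze17) (ke xe4 ye30 ze18) (ke xe1 ye2 ze61) (ke xe4 ye30 ze24) (ke xe4 ye30 ze29) (ke xe2 ye59 ze29) (ke xe4 ye30 ze34) (ke xe4 ye30 ze35) (ke xe2 ye14 ze1) (ke xe4 ye30 ze38) (ke xe1 ye3 ze1) (ke xe1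 ye3 ze2) (ke xe4 ye30 ze48) (ke xe4 ye17 ze58) (ke xe4 ye30 ze54) (ke xe1 ye3 ze8) (ke xe4 ye30 ze58) (ke xe1 ye3 ze9) (ke xe2 ye59 ze40) (ke xe4 ye30 ze61) (ke xe1 ye19 ze18) (ke xe1 ye13 ze30) (ke xe1 ye5 ze47) (ke xe1 ye21 ze40) (ke xe4 ye31 ze9) (ke xe1 ye3 ze16) (ke xe2 ye58 ze11) (ke xe4 ye29 ze39) (ke xe1 ye4 ze2) (ke xe2 ye58 ze10) (ke xe4 ye31 ze17) (ke xe4 ye31 ze19) (ke xe4 ye31 ze22) (ke xe4 ye31 ze27) (ke xe1 ye3 ze21) (ke xe2 ye43 ze37) (ke xe1 ye11 ze16) (ke xe4 ye31 ze34) (ke xe1 ye3 ze23) (ke xe4 ye31 ze38) (ke xe2 ye0 ze42) (ke xe1 ye18 ze33) (ke xe1 ye4 ze8) (ke xe2 ye59 ze53) (ke xe2 ye30 ze10) (ke xe4 ye25 ze52) (ke xe1 ye3 ze26) (ke xe1 ye4 ze27) (ke xe1 ye4 ze16) (ke xe4 ye31 ze50) (ke xe1 ye3 ze30) (ke xe1 ye4 ze31) (ke xe1 ye21 ze31) (ke xe1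 ye4 ze20) (ke xe4 ye31 ze58)) (@D3.rec (fun _ => Pt) (ke xe4 ye31 ze60) (ke xe4 ye32 ze0) (ke xe1 ye3 ze34) (ke xe1 ye3 ze35) (ke xe4 ye32 ze5) (ke xe1 ye19 ze35) (ke xe1 ye13 ze46) (ke xe1 ye22 ze35) (ke xe1 ye4 ze33) (ke xe1 ye3 ze45) (ke xe4 ye32 ze15) (ke xe1 ye3 ze39) (ke xe1 ye3 ze40) (ke xe4 ye32 ze19) (ke xe1 ye20 ze5) (ke xe1 ye4 ze40) (ke xe4 ye32 ze27) (ke xe4 ye32 ze30) (ke xe4 ye32 ze34) (ke xe4 ye32 ze38) (ke xe1 ye3 ze42) (ke xe1 ye3 ze43) (ke xe4 ye32 ze45) (ke xe1 ye19 ze58) (ke xe1 ye23 ze18) (ke xe1 ye19 ze50) (ke xe4 ye22 ze53) (ke xe4 ye32 ze59) (ke xe4 ye32 ze61) (ke xe4 ye33 ze1) (ke xe4 ye33 ze3) (ke xe1 ye3 ze46) (ke xe4 ye33 ze9) (ke xe4 ye33 ze12) (ke xe4 ye33 ze14) (ke xe4 ye33 ze19) (ke xe1 ye3 ze48) (ke xe4 ye33 ze24) (ke xe1 ye3 ze49)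 (ke xe4 ye33 ze28) (ke xe1 ye3 ze50) (ke xe4 ye33 ze34) (ke xe1 ye3 ze51) (ke xe4 ye33 ze39) (ke xe1 ye3 ze52) (ke xe4 ye33 ze47) (ke xe4 ye33 ze51) (ke xe4 ye33 ze52) (ke xe1 ye3 ze54) (ke xe4 ye33 ze55) (ke xe1 ye3 ze58) (ke xe4 ye33 ze57) (ke xe2 ye59 ze18) (ke xe4 ye33 ze60) (ke xe4 ye34 ze0) (ke xe1 ye3 ze60) (ke xe4 ye34 ze3) (ke xe1 ye4 ze1) (ke xe1 ye21 ze48) (ke xe4 ye34 ze9) (ke xe2 ye57 ze37) (ke xe4 ye31 ze51)) (@D3.rec (fun _ => Pt) (ke xe4 ye31 ze14) (ke xe2 ye12 ze15) (ke xe1 ye19 ze39) (ke xe4 ye34 ze17) (ke xe4 ye34 ze18) (ke xe1 ye4 ze4) (ke xe1 ye4 ze30) (ke xe4 ye34 ze20) (ke xe4 ye34 ze22) (ke xe1 ye4 ze7) (ke xe4 ye31 ze40) (ke xe4 ye34 ze26) (ke xe4 ye34 ze28) (ke xe4 ye34 ze30) (ke xe4 ye34 ze32) (ke xe1 ye4 ze10) (ke xe1 ye4 ze12) (ke xe1 ye21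 ze17) (ke xe4 ye34 ze38) (ke xe4 ye34 ze41) (ke xe1 ye18 ze39) (ke xe4 ye34 ze42) (ke xe1 ye22 ze25) (ke xe4 ye31 ze48) (ke xe4 ye34 ze43) (ke xe1 ye4 ze18) (ke xe1 ye22 ze24) (ke xe4 ye31 ze56) (ke xe4 ye34 ze47) (ke xe1 ye4 ze21) (ke xe4 ye34 ze50) (ke xe1 ye4 ze22) (ke xe4 ye34 ze53) (ke xe1 ye4 ze23) (ke xe1 ye19 ze25) (ke xe4 ye34 ze56) (ke xe1 ye12 ze37) (ke xe1 ye4 ze28) (ke xe1 ye22 ze7) (ke xe1 ye22 ze14) (ke xe1 ye16 ze39) (ke xe4 ye31 ze47) (ke xe4 ye35 ze8) (ke xe2 ye41 ze36) (ke xe4 ye35 ze10) (ke xe1 ye4 ze32) (ke xe1 ye25 ze24) (ke xe2 ye47 ze40) (ke xe4 ye35 ze14) (ke xe4 ye25 ze3) (ke xe4 ye35 ze17) (ke xe4 ye32 ze10) (ke xe4 ye35 ze20) (ke xe4 ye35 ze22) (ke xe1 ye4 ze34) (ke xe4 ye35 ze28) (ke xe1 ye4 ze35) (ke xe4 ye32 ze7) (ke xe2 ye33 ze46) (ke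 xe4 ye35 ze31) (ke xe1 ye23 ze20) (ke xe4 ye35 ze41)) (@D3.rec (fun _ => Pt) (ke xe4 ye35 ze43) (ke xe1 ye4 ze38) (ke xe1 ye23 ze24) (ke xe1 ye32 ze42) (ke xe4 ye35 ze47) (ke xe4 ye32 ze22) (ke xe4 ye35 ze50) (ke xe4 ye35 ze53) (ke xe4 ye35 ze55) (ke xe4 ye35 ze57) (ke xe1 ye4 ze41) (ke xe4 ye35 ze61) (ke xe4 ye36 ze1) (ke xe1 ye4 ze42) (ke xe4 ye32 ze31) (ke xe2 ye52 ze46) (ke xe4 ye36 ze9) (ke xe1 ye4 ze43) (ke xe4 ye36 ze17) (ke xe1 ye4 ze44) (ke xe2 ye51 ze42) (ke xe4 ye32 ze24) (ke xe4 ye36 ze20) (ke xe1 ye22 ze57) (ke xe4 ye36 ze30) (ke xe4 ye36 ze32) (ke xe1 ye4 ze47) (ke xe1 ye6 ze60) (ke xe4 ye31 ze36) (ke xe4 ye36 ze36) (ke xe1 ye4 ze49) (ke xe4 ye5 ze35) (ke xe4 ye36 ze40) (ke xe4 ye32 ze49) (ke xe2 ye0 ze55) (ke xe4 ye36 ze45) (ke xe4 ye36 ze48) (ke xe1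 ye4 ze51) (ke xe4 ye35 ze58) (ke xe4 ye36 ze52) (ke xe4 ye32 ze54) (ke xe4 ye36 ze56) (ke xe4 ye36 ze61) (ke xe1 ye4 ze52) (ke xe4 ye37 ze5) (ke xe4 ye37 ze7) (ke xe4 ye37 ze12) (ke xe1 ye4 ze53) (ke xe4 ye37 ze17) (ke xe4 ye33 ze4) (ke xe4 ye37 ze15) (ke xe4 ye35 ze11) (ke xe1 ye4 ze55) (ke xe1 ye5 ze12) (ke xe4 ye37 ze24) (ke xe2 ye27 ze61) (ke xe4 ye37 ze27) (ke xe1 ye4 ze57) (ke xe4 ye37 ze32) (ke xe1 ye4 ze58) (ke xe1 ye19 ze60) (ke xe4 ye37 ze34)) (@D3.rec (fun _ => Pt) (ke xe2 ye0 ze57) (ke xe4 ye37 ze42) (ke xe1 ye4 ze60) (ke xe4 ye37 ze47) (ke xe4 ye37 ze50) (ke xe1 ye4 ze61) (ke xe4 ye37 ze57) (ke xe1 ye5 ze0) (ke xe4 ye38 ze2) (ke xe4 ye38 ze6) (ke xe4 ye38 ze10) (ke xe1 ye5 ze1) (ke xe4 ye38 ze18) (ke xe4 ye38 ze22) (ke xe1 ye36 ze41) (ke xe4 ye35 ze25)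 (ke xe1 ye36 ze40) (ke xe4 ye38 ze29) (ke xe4 ye38 ze33) (ke xe1 ye5 ze4) (ke xe1 ye31 ze49) (ke xe3 ye21 ze34) (ke xe1 ye5 ze51) (ke xe1 ye24 ze28) (ke xe4 ye38 ze44) (ke xe4 ye38 ze48) (ke xe1 ye5 ze6) (ke xe3 ye14 ze33) (ke xe4 ye38 ze56) (ke xe1 ye6 ze33) (ke xe1 ye24 ze21) (ke xe4 ye39 ze3) (ke xe2 ye50 ze50) (ke xe1 ye5 ze8) (ke xe1 ye24 ze16) (ke xe4 ye39 ze12) (ke xe4 ye39 ze15) (ke xe4 ye35 ze51) (ke xe4 ye39 ze19) (ke xe4 ye39 ze22) (ke xe4 ye39 ze25) (ke xe1 ye36 ze50) (ke xe1 ye12 ze4) (ke xe4 ye39 ze31) (ke xe1 ye12 ze5) (ke xe4 ye39 ze33) (ke xe1 ye26 ze17) (ke xe4 ye39 ze35) (ke xe3 ye10 ze11) (ke xe4 ye13 ze30) (ke xe4 ye39 ze37) (ke xe1 ye5 ze21) (ke xe1 ye24 ze43) (ke xe2 ye44 ze30) (ke xe4 ye39 ze48) (ke xe1 ye5 ze27) (ke xe4 ye39 ze50) (ke xe2 ye49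 ze10) (ke xe4 ye39 ze52) (ke xe1 ye5 ze24) (ke xe4 ye39 ze55) (ke xe3 ye5 ze15)) (@D3.rec (fun _ => Pt) (ke xe3 ye32 ze37) (ke xe1 ye5 ze26) (ke xe4 ye39 ze61) (ke xe1 ye5 ze28) (ke xe4 ye40 ze5) (ke xe4 ye40 ze8) (ke xe1 ye27 ze18) (ke xe4 ye40 ze9) (ke xe4 ye40 ze10) (ke xe1 ye5 ze30) (ke xe2 ye20 ze60) (ke xe1 ye5 ze32) (ke xe4 ye40 ze14) (ke xe1 ye5 ze33) (ke xe2 ye21 ze6) (ke xe4 ye40 ze19) (ke xe1 ye5 ze35) (ke xe1 ye33 ze58) (ke xe4 ye40 ze28) (ke xe1 ye5 ze37) (ke xe3 ye22 ze58) (ke xe4 ye40 ze34) (ke xe4 ye40 ze38) (ke xe4 ye40 ze40) (ke xe1 ye5 ze38) (ke xe4 ye40 ze48) (ke xe3 ye6 ze4) (ke xe3 ye5 ze61) (ke xe4 ye40 ze50) (ke xe1 ye5 ze40) (ke xe4 ye33 ze50) (ke xe4 ye40 ze59) (ke xe1 ye26 ze16) (ke xe1 ye26 ze13) (ke xe4 ye41 ze3) (ke xe4 ye41 ze6) (ke xe4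 ye41 ze8) (ke xe1 ye5 ze42) (ke xe4 ye41 ze12) (ke xe4 ye41 ze15) (ke xe1 ye27 ze28) (ke xe1 ye5 ze43) (ke xe3 ye3 ze34) (ke xe4 ye22 ze26) (ke xe2 ye30 ze33) (ke xe4 ye41 ze22) (ke xe1 ye5 ze48) (ke xe1 ye5 ze49) (ke xe4 ye41 ze27) (ke xe4 ye38 ze36) (ke xe1 ye20 ze41) (ke xe4 ye41 ze33) (ke xe4 ye41 ze34) (ke xe4 ye32 ze17) (ke xe4 ye41 ze38) (ke xe4 ye41 ze39) (ke xe1 ye10 ze44) (ke xe1 ye5 ze55) (ke xe1 ye26 ze22) (ke xe1 ye5 ze58) (ke xe4 ye39 ze7) (ke xe1 ye6 ze1)) (@D3.rec (fun _ => Pt) (ke xe2 ye18 ze0) (ke xe3 ye11 ze46) (ke xe1 ye31 ze43) (ke xe1 ye32 ze0) (ke xe3 ye21 ze31) (ke xe1 ye6 ze4) (ke xe1 ye24 ze18) (ke xe3 ye21 ze33) (ke xe4 ye41 ze49) (ke xe1 ye6 ze5) (ke xe2 ye19 ze42) (ke xe1 ye6 ze12) (ke xe1 ye6 ze9) (ke xe1 ye24 ze30) (ke xe1 ye33 ze12) (ke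 xe1 ye6 ze15) (ke xe2 ye18 ze16) (ke xe4 ye41 ze57) (ke xe4 ye41 ze54) (ke xe4 ye18 ze21) (ke xe3 ye13 ze10) (ke xe3 ye13 ze16) (ke xe3 ye28 ze40) (ke xe4 ye12 ze46) (ke xe2 ye19 ze30) (ke xe1 ye31 ze41) (ke xe1 ye6 ze18) (ke xe4 ye18 ze17) (ke xe4 ye41 ze55) (ke xe1 ye32 ze15) (ke xe2 ye18 ze30) (ke xe4 ye42 ze19) (ke xe4 ye42 ze21) (ke xe1 ye6 ze17) (ke xe4 ye42 ze13) (ke xe4 ye12 ze26) (ke xe1 ye6 ze19) (ke xe1 ye8 ze1) (ke xe2 ye18 ze38) (ke xe4 ye42 ze29) (ke xe4 ye42 ze31) (ke xe1 ye6 ze21) (ke xe2 ye29 ze51) (ke xe4 ye42 ze35) (ke xe2 ye44 ze48) (ke xe2 ye49 ze40) (ke xe4 ye42 ze38) (ke xe1 ye6 ze23) (ke xe1 ye6 ze24) (ke xe4 ye42 ze41) (ke xe1 ye28 ze15) (ke xe1 ye57 ze57) (ke xe1 ye56 ze39) (ke xe4 ye42 ze49) (ke xe1 ye6 ze29) (ke xe2 ye26 ze9) (ke xe4 ye42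 ze53) (ke xe1 ye6 ze30) (ke xe1 ye6 ze31) (ke xe4 ye42 ze58) (ke xe4 ye38 ze51) (ke xe1 ye28 ze43)) (@D3.rec (fun _ => Pt) (ke xe4 ye42 ze59) (ke xe2 ye39 ze57) (ke xe4 ye38 ze59) (ke xe4 ye42 ze61) (ke xe1 ye6 ze39) (ke xe1 ye6 ze40) (ke xe3 ye12 ze22) (ke xe4 ye43 ze3) (ke xe1 ye6 ze42) (ke xe4 ye13 ze19) (ke xe4 ye43 ze5) (ke xe4 ye43 ze6) (ke xe1 ye6 ze44) (ke xe4 ye43 ze7) (ke xe4 ye43 ze9) (ke xe1 ye6 ze45) (ke xe4 ye43 ze12) (ke xe4 ye43 ze13) (ke xe4 ye43 ze14) (ke xe1 ye6 ze46) (ke xe3 ye24 ze10) (ke xe1 ye6 ze49) (ke xe1 ye30 ze10) (ke xe1 ye7 ze4) (ke xe1 ye7 ze5) (ke xe4 ye43 ze23) (ke xe1 ye30 ze13) (ke xe1 ye31 ze46) (ke xe1 ye31 ze57) (ke xe3 ye40 ze28) (ke xe2 ye18 ze24) (ke xe1 ye6 ze52) (ke xe4 ye13 ze16) (ke xe4 ye41 ze52) (ke xe1 ye6 ze55) (ke xe2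 ye7 ze17) (ke xe4 ye43 ze37) (ke xe4 ye43 ze43) (ke xe1 ye6 ze57) (ke xe1 ye32 ze1) (ke xe4 ye43 ze46) (ke xe4 ye43 ze48) (ke xe2 ye18 ze10) (ke xe1 ye7 ze0) (ke xe4 ye43 ze51) (ke xe1 ye7 ze1) (ke xe1 ye37 ze3) (ke xe1 ye8 ze13) (ke xe1 ye7 ze8) (ke xe4 ye43 ze55) (ke xe4 ye43 ze56) (ke xe4 ye43 ze57) (ke xe3 ye7 ze24) (ke xe4 ye43 ze58) (ke xe1 ye7 ze11) (ke xe4 ye43 ze60) (ke xe1 ye7 ze12) (ke xe4 ye44 ze0) (ke xe3 ye18 ze26) (ke xe4 ye44 ze4) (ke xe1 ye7 ze15) (ke xe4 ye44 ze6)) (@D3.rec (fun _ => Pt) (ke xe1 ye7 ze16) (ke xe4 ye44 ze7) (ke xe1 ye7 ze17) (ke xe4 ye44 ze9) (ke xe4 ye44 ze11) (ke xe1 ye7 ze18) (ke xe4 ye44 ze15) (ke xe4 ye44 ze16) (ke xe1 ye7 ze19) (ke xe4 ye44 ze21) (ke xe4 ye44 ze23) (ke xe4 ye44 ze25) (ke xe1 ye7 ze21) (ke xe1 ye7 ze22) (ke xe1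 ye7 ze24) (ke xe4 ye44 ze27) (ke xe1 ye7 ze25) (ke xe4 ye44 ze29) (ke xe1 ye7 ze27) (ke xe4 ye44 ze30) (ke xe3 ye45 ze17) (ke xe4 ye44 ze33) (ke xe1 ye7 ze31) (ke xe4 ye44 ze35) (ke xe1 ye7 ze32) (ke xe4 ye44 ze37) (ke xe4 ye44 ze39) (ke xe1 ye7 ze33) (ke xe1 ye37 ze52) (ke xe1 ye7 ze34) (ke xe4 ye44 ze42) (ke xe4 ye44 ze45) (ke xe4 ye44 ze50) (ke xe4 ye44 ze53) (ke xe1 ye7 ze35) (ke xe3 ye14 ze52) (ke xe4 ye40 ze11) (ke xe1 ye21 ze61) (ke xe4 ye44 ze60) (ke xe4 ye44 ze61) (ke xe4 ye45 ze2) (ke xe1 ye7 ze42) (ke xe4 ye45 ze8) (ke xe1 ye7 ze43) (ke xe4 ye45 ze12) (ke xe4 ye45 ze15) (ke xe4 ye45 ze20) (ke xe4 ye45 ze21) (ke xe1 ye7 ze44) (ke xe4 ye45 ze27) (ke xe1 ye36 ze21) (ke xe4 ye45 ze29) (ke xe1 ye7 ze46) (ke xe4 ye45 ze35) (ke xe4 ye45 ze37) (ke xe4 ye45 ze42)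 (ke xe4 ye45 ze45) (ke xe1 ye7 ze47) (ke xe4 ye45 ze52) (ke xe4 ye45 ze55) (ke xe2 ye17 ze10) (ke xe4 ye43 ze61)) (@D3.rec (fun _ => Pt) (ke xe1 ye8 ze33) (ke xe1 ye11 ze3) (ke xe4 ye46 ze3) (ke xe4 ye46 ze4) (ke xe1 ye7 ze50) (ke xe1 ye37 ze4) (ke xe2 ye17 ze14) (ke xe4 ye45 ze5) (ke xe4 ye46 ze20) (ke xe4 ye46 ze21) (ke xe1 ye7 ze52) (ke xe4 ye46 ze29) (ke xe4 ye46 ze30) (ke xe1 ye7 ze53) (ke xe4 ye46 ze36) (ke xe4 ye46 ze39) (ke xe4 ye46 ze41) (ke xe4 ye46 ze45) (ke xe1 ye7 ze54) (ke xe4 ye46 ze51) (ke xe4 ye46 ze53) (ke xe4 ye46 ze55) (ke xe1 ye7 ze55) (ke xe4 ye46 ze60) (ke xe4 ye47 ze2) (ke xe4 ye47 ze6) (ke xe4 ye46 ze58) (ke xe4 ye47 ze11) (ke xe1 ye7 ze57) (ke xe1 ye36 ze53) (ke xe4 ye47 ze19) (ke xe1 ye7 ze58) (ke xe4 ye47 ze22) (ke xe1 ye7 ze59) (ke xe1 ye7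 ze60) (ke xe4 ye47 ze27) (ke xe1 ye8 ze2) (ke xe1 ye28 ze59) (ke xe4 ye45 ze9) (ke xe3 ye13 ze29) (ke xe3 ye8 ze3) (ke xe4 ye47 ze35) (ke xe4 ye47 ze38) (ke xe4 ye47 ze30) (ke xe4 ye47 ze44) (ke xe1 ye8 ze3) (ke xe4 ye46 ze5) (ke xe4 ye47 ze48) (ke xe4 ye47 ze49) (ke xe1 ye8 ze4) (ke xe3 ye14 ze25) (ke xe4 ye45 ze3) (ke xe1 ye37 ze44) (ke xe1 ye36 ze23) (ke xe3 ye14 ze31) (ke xe3 ye14 ze34) (ke xe4 ye48 ze6) (ke xe1 ye8 ze7) (ke xe2 ye22 ze10) (ke xe4 ye43 ze1) (ke xe1 ye37 ze45) (ke xe3 ye22 ze29)) (@D3.rec (fun _ => Pt) (ke xe4 ye48 ze13) (ke xe1 ye8 ze10) (ke xe4 ye48 ze16) (ke xe1 ye8 ze11) (ke xe1 ye39 ze22) (ke xe3 ye21 ze19) (ke xe1 ye37 ze23) (ke xe1 ye36 ze5) (ke xe4 ye43 ze21) (ke xe3 ye18 ze27) (ke xe2 ye21 ze58) (ke xe4 ye48 ze35) (ke xe4 ye48 ze37) (ke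 xe1 ye37 ze24) (ke xe4 ye48 ze41) (ke xe4 ye48 ze42) (ke xe4 ye48 ze47) (ke xe1 ye8 ze17) (ke xe4 ye48 ze52) (ke xe4 ye48 ze55) (ke xe1 ye8 ze18) (ke xe1 ye8 ze19) (ke xe4 ye49 ze4) (ke xe4 ye49 ze8) (ke xe1 ye24 ze14) (ke xe1 ye24 ze11) (ke xe4 ye49 ze15) (ke xe4 ye49 ze20) (ke xe1 ye8 ze21) (ke xe4 ye49 ze25) (ke xe4 ye49 ze27) (ke xe1 ye8 ze22) (ke xe4 ye49 ze32) (ke xe4 ye49 ze35) (ke xe1 ye24 ze42) (ke xe4 ye49 ze41) (ke xe1 ye36 ze25) (ke xe3 ye21 ze46) (ke xe1 ye11 ze4) (ke xe3 ye21 ze56) (ke xe4 ye49 ze54) (ke xe3 ye21 ze55) (ke xe3 ye43 ze7) (ke xe4 ye49 ze59) (ke xe4 ye49 ze60) (ke xe1 ye8 ze28) (ke xe4 ye50 ze0) (ke xe4 ye50 ze2) (ke xe1 ye8 ze29) (ke xe3 ye6 ze12) (ke xe4 ye50 ze6) (ke xe1 ye8 ze32) (ke xe1 ye42 ze31) (ke xe3 ye35 ze23) (ke xe4 ye50 ze12)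 (ke xe4 ye48 ze30) (ke xe1 ye8 ze37) (ke xe4 ye50 ze20) (ke xe1 ye8 ze35) (ke xe2 ye24 ze0) (ke xe4 ye50 ze24) (ke xe1 ye8 ze36)) (@D3.rec (fun _ => Pt) (ke xe4 ye50 ze17) (ke xe1 ye8 ze38) (ke xe4 ye50 ze32) (ke xe4 ye18 ze55) (ke xe2 ye4 ze1) (ke xe2 ye23 ze5) (ke xe4 ye50 ze39) (ke xe1 ye8 ze40) (ke xe4 ye50 ze40) (ke xe2 ye4 ze2) (ke xe4 ye50 ze46) (ke xe4 ye50 ze48) (ke xe4 ye50 ze50) (ke xe1 ye8 ze43) (ke xe4 ye50 ze52) (ke xe1 ye8 ze44) (ke xe4 ye50 ze55) (ke xe4 ye50 ze57) (ke xe1 ye56 ze56) (ke xe4 ye50 ze61) (ke xe4 ye51 ze2) (ke xe1 ye8 ze47) (ke xe4 ye51 ze6) (ke xe1 ye8 ze48) (ke xe4 ye51 ze9) (ke xe4 ye51 ze14) (ke xe1 ye8 ze49) (ke xe4 ye51 ze16) (ke xe2 ye46 ze27) (ke xe4 ye19 ze49) (ke xe4 ye51 ze22) (ke xe1 ye8 ze51) (ke xe4 ye51 ze25) (ke xe1 ye8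 ze52) (ke xe4 ye51 ze28) (ke xe1 ye8 ze53) (ke xe4 ye19 ze4) (ke xe4 ye51 ze31) (ke xe4 ye51 ze35) (ke xe1 ye8 ze55) (ke xe4 ye51 ze41) (ke xe4 ye51 ze44) (ke xe1 ye8 ze56) (ke xe4 ye51 ze51) (ke xe4 ye51 ze54) (ke xe2 ye24 ze23) (ke xe4 ye52 ze1) (ke xe4 ye52 ze3) (ke xe1 ye8 ze58) (ke xe4 ye52 ze7) (ke xe4 ye52 ze11) (ke xe1 ye8 ze59) (ke xe2 ye24 ze37) (ke xe4 ye52 ze18) (ke xe1 ye30 ze18) (ke xe4 ye52 ze20) (ke xe4 ye52 ze23) (ke xe1 ye8 ze61) (ke xe4 ye52 ze27) (ke xe2 ye24 ze30) (ke xe2 ye24 ze32) (ke xe4 ye52 ze34)) (@D3.rec (fun _ => Pt) (ke xe2 ye22 ze59) (ke xe2 ye24 ze40) (ke xe4 ye52 ze41) (ke xe4 ye52 ze42) (ke xe1 ye9 ze2) (ke xe1 ye9 ze3) (ke xe4 ye52 ze45) (ke xe4 ye52 ze47) (ke xe1 ye9 ze5) (ke xe2 ye7 ze1) (ke xe1 ye58 ze55) (ke xe4 ye21 ze8) (ke xe2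 ye11 ze9) (ke xe4 ye3 ze22) (ke xe1 ye9 ze13) (ke xe1 ye27 ze43) (ke xe2 ye26 ze22) (ke xe4 ye52 ze54) (ke xe1 ye9 ze18) (ke xe4 ye52 ze61) (ke xe1 ye9 ze19) (ke xe4 ye53 ze5) (ke xe4 ye53 ze8) (ke xe2 ye23 ze45) (ke xe4 ye53 ze15) (ke xe4 ye53 ze16) (ke xe1 ye9 ze21) (ke xe4 ye53 ze19) (ke xe4 ye53 ze21) (ke xe1 ye9 ze22) (ke xe2 ye23 ze59) (ke xe4 ye53 ze28) (ke xe2 ye23 ze60) (ke xe4 ye53 ze30) (ke xe3 ye9 ze26) (ke xe1 ye9 ze24) (ke xe4 ye53 ze35) (ke xe2 ye23 ze52) (ke xe4 ye53 ze40) (ke xe3 ye35 ze6) (ke xe2 ye24 ze1) (ke xe4 ye53 ze46) (ke xe1 ye16 ze1) (ke xe2 ye36 ze38) (ke xe2 ye26 ze2) (ke xe1 ye31 ze10) (ke xe1 ye9 ze33) (ke xe2 ye7 ze25) (ke xe1 ye31 ze25) (ke xe1 ye18 ze41) (ke xe1 ye21 ze38) (ke xe4 ye19 ze43) (ke xe4 ye12 ze32) (ke xe2 ye25 ze1) (ke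 xe2 ye24 ze54) (ke xe4 ye54 ze1) (ke xe4 ye13 ze42) (ke xe2 ye24 ze57) (ke xe4 ye54 ze6) (ke xe4 ye54 ze8) (ke xe3 ye58 ze4) (ke xe4 ye54 ze14)) (@D3.rec (fun _ => Pt) (ke xe4 ye54 ze16) (ke xe2 ye24 ze53) (ke xe2 ye25 ze2) (ke xe4 ye54 ze21) (ke xe1 ye9 ze46) (ke xe4 ye54 ze23) (ke xe3 ye58 ze5) (ke xe4 ye54 ze29) (ke xe4 ye54 ze31) (ke xe1 ye9 ze49) (ke xe4 ye54 ze33) (ke xe4 ye54 ze35) (ke xe4 ye54 ze37) (ke xe4 ye5 ze5) (ke xe4 ye54 ze42) (ke xe4 ye54 ze45) (ke xe1 ye9 ze53) (ke xe2 ye25 ze17) (ke xe4 ye54 ze51) (ke xe1 ye9 ze54) (ke xe4 ye54 ze55) (ke xe4 ye54 ze60) (ke xe1 ye9 ze55) (ke xe4 ye55 ze0) (ke xe2 ye6 ze56) (ke xe4 ye55 ze4) (ke xe4 ye55 ze7) (ke xe1 ye9 ze57) (ke xe4 ye55 ze10) (ke xe1 ye9 ze58) (ke xe4 ye55 ze13) (ke xe1 ye9 ze59) (ke xe4 ye55 ze16)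 (ke xe4 ye55 ze20) (ke xe1 ye9 ze61) (ke xe4 ye55 ze26) (ke xe4 ye55 ze29) (ke xe1 ye10 ze0) (ke xe4 ye55 ze36) (ke xe4 ye55 ze39) (ke xe3 ye21 ze7) (ke xe4 ye55 ze48) (ke xe4 ye55 ze50) (ke xe1 ye10 ze2) (ke xe1 ye10 ze3) (ke xe2 ye45 ze12) (ke xe4 ye55 ze60) (ke xe1 ye13 ze1) (ke xe3 ye58 ze43) (ke xe4 ye56 ze1) (ke xe4 ye56 ze4) (ke xe1 ye10 ze5) (ke xe4 ye56 ze8) (ke xe4 ye5 ze29) (ke xe3 ye58 ze40) (ke xe4 ye56 ze15) (ke xe4 ye56 ze20) (ke xe3 ye24 ze7) (ke xe4 ye56 ze22) (ke xe4 ye56 ze23) (ke xe1 ye10 ze8) (ke xe1 ye10 ze9)) (@D3.rec (fun _ => Pt) (ke xe4 ye56 ze30) (ke xe4 ye53 ze27) (ke xe2 ye24 ze44) (ke xe2 ye9 ze40) (ke xe4 ye56 ze36) (ke xe1 ye10 ze13) (ke xe3 ye4 ze38) (ke xe1 ye57 ze25) (ke xe4 ye56 ze40) (ke xe2 ye18 ze55) (ke xe4 ye56 ze42) (ke xe1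 ye10 ze18) (ke xe2 ye48 ze26) (ke xe4 ye51 ze29) (ke xe4 ye56 ze48) (ke xe1 ye10 ze21) (ke xe1 ye31 ze28) (ke xe4 ye1 ze28) (ke xe4 ye56 ze56) (ke xe4 ye39 ze41) (ke xe2 ye33 ze35) (ke xe1 ye22 ze11) (ke xe2 ye24 ze16) (ke xe3 ye10 ze25) (ke xe4 ye56 ze60) (ke xe1 ye10 ze30) (ke xe2 ye8 ze57) (ke xe4 ye57 ze2) (ke xe3 ye58 ze58) (ke xe4 ye57 ze6) (ke xe1 ye10 ze33) (ke xe4 ye57 ze12) (ke xe4 ye57 ze14) (ke xe4 ye57 ze19) (ke xe4 ye57 ze21) (ke xe4 ye57 ze23) (ke xe1 ye10 ze34) (ke xe4 ye57 ze29) (ke xe4 ye57 ze32) (ke xe3 ye14 ze11) (ke xe4 ye57 ze37) (ke xe1 ye10 ze36) (ke xe4 ye57 ze42) (ke xe1 ye10 ze37) (ke xe4 ye57 ze49) (ke xe1 ye10 ze38) (ke xe4 ye57 ze54) (ke xe4 ye57 ze56) (ke xe4 ye57 ze57) (ke xe1 ye10 ze40) (ke xe4 ye57 ze60) (ke xe1 ye10 ze42) (ke xe3 ye3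 ze36) (ke xe4 ye0 ze2) (ke xe4 ye58 ze2) (ke xe2 ye7 ze36) (ke xe4 ye36 ze6) (ke xe4 ye27 ze2) (ke xe4 ye58 ze14) (ke xe1 ye10 ze46) (ke xe4 ye58 ze17) (ke xe4 ye58 ze19)) (@D3.rec (fun _ => Pt) (ke xe1 ye10 ze47) (ke xe4 ye57 ze4) (ke xe4 ye58 ze23) (ke xe1 ye10 ze48) (ke xe4 ye35 ze5) (ke xe4 ye58 ze30) (ke xe3 ye30 ze6) (ke xe1 ye10 ze49) (ke xe4 ye57 ze43) (ke xe4 ye58 ze36) (ke xe4 ye58 ze41) (ke xe1 ye10 ze50) (ke xe4 ye58 ze46) (ke xe4 ye57 ze24) (ke xe4 ye58 ze44) (ke xe4 ye35 ze4) (ke xe1 ye10 ze52) (ke xe4 ye57 ze15) (ke xe3 ye3 ze29) (ke xe4 ye58 ze55) (ke xe4 ye58 ze58) (ke xe1 ye10 ze53) (ke xe4 ye58 ze60) (ke xe1 ye10 ze54) (ke xe4 ye59 ze2) (ke xe1 ye10 ze55) (ke xe4 ye57 ze7) (ke xe4 ye59 ze4) (ke xe2 ye33 ze58) (ke xe4 ye59 ze12) (ke xe4 ye59 ze14)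 (ke xe4 ye59 ze17) (ke xe1 ye10 ze57) (ke xe4 ye59 ze21) (ke xe4 ye59 ze26) (ke xe1 ye10 ze58) (ke xe4 ye59 ze32) (ke xe4 ye59 ze35) (ke xe1 ye10 ze59) (ke xe4 ye59 ze41) (ke xe4 ye59 ze44) (ke xe4 ye59 ze47) (ke xe1 ye10 ze60) (ke xe4 ye59 ze53) (ke xe4 ye59 ze57) (ke xe4 ye59 ze61) (ke xe4 ye49 ze46) (ke xe1 ye11 ze0) (ke xe4 ye58 ze34) (ke xe5 ye0 ze2) (ke xe5 ye0 ze12) (ke xe4 ye34 ze12) (ke xe1 ye11 ze2) (ke xe4 ye45 ze59) (ke xe5 ye0 ze21) (ke xe1 ye11 ze6) (ke xe5 ye0 ze24) (ke xe5 ye0 ze26) (ke xe5 ye0 ze23) (ke xe1 ye57 ze38) (ke xe1 ye13 ze28) (ke xe2 ye15 ze55)) (@D3.rec (fun _ => Pt) (ke xe1 ye20 ze37) (ke xe1 ye11 ze9) (ke xe1 ye20 ze44) (ke xe1 ye14 ze46) (ke xe2 ye7 ze28) (ke xe2 ye7 ze37) (ke xe2 ye7 ze41) (ke xe4 ye51 ze47) (ke xe5 ye0 ze48) (ke xe5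 ye0 ze50) (ke xe1 ye57 ze53) (ke xe5 ye0 ze56) (ke xe2 ye41 ze8) (ke xe5 ye0 ze61) (ke xe1 ye11 ze20) (ke xe5 ye1 ze2) (ke xe1 ye11 ze21) (ke xe5 ye1 ze4) (ke xe5 ye1 ze6) (ke xe5 ye1 ze11) (ke xe1 ye11 ze22) (ke xe5 ye1 ze18) (ke xe1 ye11 ze24) (ke xe5 ye1 ze22) (ke xe1 ye11 ze25) (ke xe5 ye1 ze26) (ke xe1 ye11 ze26) (ke xe5 ye1 ze28) (ke xe5 ye1 ze32) (ke xe5 ye1 ze36) (ke xe1 ye11 ze28) (ke xe5 ye1 ze40) (ke xe5 ye1 ze43) (ke xe1 ye11 ze29) (ke xe5 ye1 ze49) (ke xe5 ye1 ze52) (ke xe2 ye31 ze46) (ke xe5 ye1 ze61) (ke xe5 ye2 ze1) (ke xe1 ye11 ze31) (ke xe5 ye2 ze5) (ke xe5 ye2 ze8) (ke xe5 ye2 ze13) (ke xe1 ye11 ze32) (ke xe5 ye2 ze18) (ke xe5 ye2 ze21) (ke xe1 ye11 ze33) (ke xe5 ye2 ze27) (ke xe1 ye11 ze34) (ke xe5 ye2 ze30) (ke xe4 ye29 ze48) (ke xe5 ye2 ze37) (ke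 xe5 ye2 ze38) (ke xe1 ye11 ze35) (ke xe2 ye32 ze3) (ke xe5 ye2 ze45) (ke xe2 ye32 ze16) (ke xe5 ye2 ze47) (ke xe5 ye2 ze49) (ke xe1 ye11 ze38) (ke xe5 ye2 ze52) (ke xe5 ye2 ze54)) (@D3.rec (fun _ => Pt) (ke xe5 ye2 ze59) (ke xe1 ye11 ze39) (ke xe2 ye3 ze42) (ke xe1 ye55 ze50) (ke xe5 ye2 ze61) (ke xe5 ye3 ze8) (ke xe5 ye3 ze9) (ke xe1 ye11 ze41) (ke xe5 ye2 ze24) (ke xe1 ye11 ze43) (ke xe2 ye32 ze5) (ke xe5 ye3 ze16) (ke xe5 ye3 ze20) (ke xe1 ye11 ze44) (ke xe5 ye3 ze28) (ke xe5 ye3 ze31) (ke xe1 ye11 ze45) (ke xe2 ye32 ze33) (ke xe5 ye3 ze41) (ke xe2 ye32 ze34) (ke xe5 ye3 ze43) (ke xe5 ye3 ze47) (ke xe1 ye11 ze47) (ke xe5 ye3 ze55) (ke xe5 ye3 ze56) (ke xe1 ye11 ze48) (ke xe5 ye3 ze61) (ke xe2 ye32 ze24) (ke xe2 ye32 ze26) (ke xe5 ye4 ze6) (ke xe5 ye4 ze9) (ke xe1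 ye11 ze50) (ke xe5 ye4 ze17) (ke xe5 ye4 ze18) (ke xe1 ye11 ze51) (ke xe5 ye4 ze26) (ke xe5 ye4 ze31) (ke xe2 ye32 ze43) (ke xe5 ye4 ze36) (ke xe5 ye4 ze37) (ke xe5 ye4 ze38) (ke xe5 ye4 ze40) (ke xe1 ye11 ze53) (ke xe1 ye11 ze54) (ke xe4 ye55 ze59) (ke xe5 ye4 ze52) (ke xe5 ye4 ze54) (ke xe5 ye4 ze57) (ke xe5 ye5 ze0) (ke xe1 ye11 ze57) (ke xe4 ye27 ze3) (ke xe2 ye18 ze42) (ke xe2 ye49 ze4) (ke xe5 ye0 ze30) (ke xe2 ye49 ze0) (ke xe2 ye44 ze28) (ke xe5 ye5 ze16) (ke xe5 ye5 ze19) (ke xe5 ye5 ze21) (ke xe5 ye5 ze26) (ke xe1 ye11 ze61) (ke xe5 ye5 ze31)) (@D3.rec (fun _ => Pt) (ke xe5 ye5 ze33) (ke xe1 ye12 ze0) (ke xe2 ye41 ze56) (ke xe2 ye42 ze16) (ke xe5 ye5 ze43) (ke xe1 ye12 ze2) (ke xe2 ye32 ze60) (ke xe5 ye5 ze50) (ke xe2 ye33 ze33) (ke xe5 ye5 ze51) (ke xe2 ye12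 ze51) (ke xe5 ye5 ze53) (ke xe5 ye5 ze54) (ke xe1 ye12 ze7) (ke xe2 ye49 ze12) (ke xe5 ye5 ze56) (ke xe5 ye5 ze59) (ke xe2 ye44 ze32) (ke xe5 ye5 ze61) (ke xe1 ye12 ze10) (ke xe2 ye38 ze46) (ke xe5 ye6 ze7) (ke xe5 ye6 ze12) (ke xe1 ye12 ze11) (ke xe5 ye6 ze14) (ke xe5 ye6 ze20) (ke xe1 ye12 ze13) (ke xe5 ye5 ze36) (ke xe1 ye12 ze15) (ke xe2 ye33 ze0) (ke xe5 ye6 ze26) (ke xe5 ye6 ze29) (ke xe5 ye6 ze31) (ke xe2 ye17 ze44) (ke xe5 ye6 ze35) (ke xe1 ye12 ze17) (ke xe2 ye46 ze41) (ke xe5 ye6 ze41) (ke xe5 ye6 ze43) (ke xe5 ye6 ze47) (ke xe1 ye12 ze19) (ke xe5 ye6 ze50) (ke xe1 ye12 ze21) (ke xe5 ye6 ze52) (ke xe5 ye6 ze54) (ke xe1 ye12 ze22) (ke xe1 ye23 ze58) (ke xe2 ye55 ze23) (ke xe3 ye23 ze48) (ke xe1 ye12 ze24) (ke xe1 ye12 ze25) (ke xe5 ye7 ze0) (ke xe5 ye7 ze6)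 (ke xe1 ye12 ze27) (ke xe5 ye7 ze7) (ke xe5 ye7 ze9) (ke xe1 ye12 ze28) (ke xe3 ye59 ze38) (ke xe5 ye7 ze17) (ke xe2 ye53 ze34) (ke xe5 ye7 ze23) (ke xe1 ye12 ze30)) (@D3.rec (fun _ => Pt) (ke xe1 ye12 ze31) (ke xe5 ye7 ze28) (ke xe4 ye32 ze1) (ke xe5 ye7 ze34) (ke xe5 ye7 ze38) (ke xe5 ye7 ze41) (ke xe1 ye12 ze33) (ke xe1 ye12 ze34) (ke xe5 ye7 ze35) (ke xe5 ye7 ze39) (ke xe5 ye7 ze48) (ke xe5 ye7 ze51) (ke xe5 ye7 ze54) (ke xe5 ye7 ze57) (ke xe5 ye8 ze0) (ke xe1 ye12 ze36) (ke xe5 ye8 ze5) (ke xe5 ye8 ze7) (ke xe1 ye12 ze38) (ke xe5 ye8 ze13) (ke xe1 ye12 ze39) (ke xe5 ye8 ze20) (ke xe1 ye12 ze40) (ke xe5 ye8 ze22) (ke xe5 ye8 ze24) (ke xe5 ye8 ze25) (ke xe1 ye12 ze42) (ke xe5 ye8 ze31) (ke xe1 ye12 ze48) (ke xe5 ye8 ze33) (ke xe4 ye55 ze55) (ke xe5 ye8 ze39) (ke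 xe1 ye12 ze49) (ke xe5 ye8 ze46) (ke xe1 ye12 ze51) (ke xe5 ye8 ze50) (ke xe1 ye12 ze52) (ke xe5 ye8 ze53) (ke xe5 ye8 ze57) (ke xe5 ye8 ze60) (ke xe1 ye12 ze54) (ke xe5 ye9 ze2) (ke xe5 ye9 ze5) (ke xe1 ye12 ze55) (ke xe5 ye9 ze11) (ke xe5 ye9 ze14) (ke xe2 ye28 ze36) (ke xe5 ye9 ze22) (ke xe5 ye9 ze23) (ke xe1 ye12 ze57) (ke xe2 ye31 ze50) (ke xe5 ye9 ze28) (ke xe5 ye9 ze30) (ke xe4 ye28 ze20) (ke xe5 ye9 ze34) (ke xe5 ye9 ze37) (ke xe5 ye9 ze42) (ke xe1 ye12 ze61) (ke xe5 ye9 ze47) (ke xe5 ye9 ze49) (ke xe1 ye13 ze0) (ke xe4 ye55 ze61)) (@D3.rec (fun _ => Pt) (ke xe5 ye9 ze58) (ke xe5 ye9 ze59) (ke xe1 ye13 ze2) (ke xe2 ye28 ze54) (ke xe5 ye10 ze2) (ke xe2 ye29 ze10) (ke xe4 ye55 ze23) (ke xe5 ye10 ze6) (ke xe5 ye10 ze11) (ke xe1 ye13 ze4) (ke xe5 ye10 ze13) (ke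 xe5 ye10 ze20) (ke xe5 ye10 ze21) (ke xe1 ye13 ze6) (ke xe5 ye9 ze52) (ke xe1 ye13 ze8) (ke xe2 ye28 ze56) (ke xe5 ye10 ze26) (ke xe5 ye10 ze29) (ke xe5 ye10 ze33) (ke xe1 ye13 ze9) (ke xe5 ye10 ze41) (ke xe5 ye10 ze42) (ke xe1 ye13 ze10) (ke xe2 ye29 ze27) (ke xe5 ye10 ze51) (ke xe2 ye29 ze28) (ke xe5 ye10 ze55) (ke xe1 ye13 ze12) (ke xe5 ye11 ze1) (ke xe5 ye11 ze2) (ke xe1 ye13 ze13) (ke xe5 ye11 ze7) (ke xe2 ye29 ze17) (ke xe2 ye29 ze19) (ke xe5 ye11 ze15) (ke xe5 ye11 ze16) (ke xe1 ye13 ze15) (ke xe5 ye11 ze24) (ke xe5 ye11 ze25) (ke xe1 ye13 ze16) (ke xe5 ye11 ze33) (ke xe5 ye11 ze38) (ke xe2 ye29 ze37) (ke xe5 ye11 ze43) (ke xe5 ye11 ze44) (ke xe5 ye11 ze46) (ke xe5 ye11 ze48) (ke xe1 ye13 ze18) (ke xe1 ye13 ze19) (ke xe5 ye11 ze57) (ke xe5 ye11 ze60) (ke xe5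 ye12 ze0) (ke xe5 ye12 ze5) (ke xe1 ye13 ze21) (ke xe5 ye12 ze10) (ke xe1 ye13 ze22) (ke xe4 ye29 ze31) (ke xe5 ye12 ze19) (ke xe1 ye13 ze24) (ke xe2 ye30 ze6) (ke xe5 ye12 ze24)) (@D3.rec (fun _ => Pt) (ke xe2 ye30 ze29) (ke xe2 ye58 ze12) (ke xe5 ye0 ze31) (ke xe3 ye0 ze55) (ke xe5 ye12 ze28) (ke xe3 ye0 ze44) (ke xe4 ye31 ze1) (ke xe5 ye12 ze30) (ke xe1 ye13 ze31) (ke xe5 ye12 ze37) (ke xe1 ye13 ze32) (ke xe4 ye21 ze52) (ke xe5 ye12 ze42) (ke xe5 ye12 ze46) (ke xe1 ye13 ze33) (ke xe5 ye12 ze49) (ke xe3 ye4 ze41) (ke xe5 ye12 ze55) (ke xe1 ye13 ze36) (ke xe3 ye3 ze56) (ke xe5 ye12 ze57) (ke xe1 ye31 ze15) (ke xe5 ye13 ze1) (ke xe4 ye23 ze7) (ke xe4 ye28 ze13) (ke xe5 ye13 ze6) (ke xe5 ye13 ze11) (ke xe1 ye13 ze39) (ke xe5 ye13 ze13) (ke xe5 ye13 ze19) (ke xe1 ye13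 ze41) (ke xe5 ye12 ze13) (ke xe1 ye13 ze43) (ke xe2 ye30 ze8) (ke xe5 ye13 ze25) (ke xe2 ye26 ze20) (ke xe5 ye13 ze29) (ke xe1 ye13 ze45) (ke xe5 ye13 ze33) (ke xe5 ye13 ze34) (ke xe1 ye13 ze47) (ke xe1 ye13 ze48) (ke xe2 ye10 ze9) (ke xe5 ye13 ze41) (ke xe5 ye13 ze43) (ke xe1 ye13 ze50) (ke xe2 ye14 ze58) (ke xe5 ye13 ze47) (ke xe1 ye13 ze52) (ke xe1 ye13 ze53) (ke xe5 ye13 ze50) (ke xe2 ye52 ze44) (ke xe1 ye27 ze37) (ke xe5 ye13 ze60) (ke xe5 ye14 ze0) (ke xe5 ye14 ze4) (ke xe1 ye13 ze55) (ke xe1 ye13 ze56) (ke xe2 ye27 ze28) (ke xe5 ye14 ze13) (ke xe5 ye14 ze17) (ke xe1 ye13 ze58)) (@D3.rec (fun _ => Pt) (ke xe1 ye13 ze59) (ke xe5 ye14 ze20) (ke xe2 ye46 ze40) (ke xe5 ye14 ze26) (ke xe5 ye14 ze28) (ke xe1 ye14 ze0) (ke xe5 ye14 ze33) (ke xe1 ye14 ze1) (ke xe5 ye14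 ze39) (ke xe1 ye14 ze2) (ke xe5 ye14 ze46) (ke xe1 ye14 ze3) (ke xe5 ye14 ze48) (ke xe5 ye14 ze50) (ke xe5 ye14 ze51) (ke xe1 ye14 ze5) (ke xe2 ye35 ze20) (ke xe2 ye4 ze53) (ke xe2 ye4 ze56) (ke xe2 ye35 ze21) (ke xe2 ye4 ze61) (ke xe4 ye9 ze35) (ke xe4 ye9 ze38) (ke xe5 ye15 ze3) (ke xe5 ye15 ze5) (ke xe2 ye35 ze18) (ke xe5 ye15 ze10) (ke xe5 ye15 ze13) (ke xe1 ye14 ze15) (ke xe2 ye34 ze29) (ke xe5 ye15 ze19) (ke xe1 ye14 ze16) (ke xe5 ye15 ze22) (ke xe5 ye15 ze27) (ke xe1 ye14 ze17) (ke xe5 ye15 ze32) (ke xe1 ye14 ze19) (ke xe4 ye18 ze56) (ke xe5 ye15 ze35) (ke xe1 ye14 ze20) (ke xe5 ye15 ze39) (ke xe1 ye14 ze21) (ke xe5 ye15 ze41) (ke xe5 ye15 ze44) (ke xe5 ye15 ze48) (ke xe1 ye14 ze23) (ke xe5 ye15 ze53) (ke xe5 ye15 ze56) (ke xe1 ye14 ze24) (ke xe5 ye16 ze0) (ke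 xe5 ye16 ze3) (ke xe2 ye35 ze46) (ke xe5 ye16 ze12) (ke xe5 ye16 ze14) (ke xe1 ye14 ze26) (ke xe5 ye16 ze19) (ke xe1 ye14 ze27) (ke xe2 ye35 ze58) (ke xe5 ye16 ze25) (ke xe2 ye35 ze59) (ke xe5 ye16 ze28) (ke xe1 ye14 ze29)) (@D3.rec (fun _ => Pt) (ke xe5 ye16 ze32) (ke xe2 ye35 ze52) (ke xe2 ye35 ze54) (ke xe5 ye16 ze39) (ke xe5 ye16 ze44) (ke xe2 ye36 ze0) (ke xe5 ye16 ze49) (ke xe5 ye16 ze50) (ke xe1 ye14 ze32) (ke xe1 ye14 ze33) (ke xe4 ye29 ze46) (ke xe2 ye1 ze16) (ke xe2 ye1 ze24) (ke xe4 ye7 ze29) (ke xe2 ye35 ze14) (ke xe4 ye16 ze19) (ke xe5 ye17 ze3) (ke xe5 ye17 ze5) (ke xe2 ye34 ze25) (ke xe5 ye17 ze10) (ke xe2 ye34 ze16) (ke xe2 ye34 ze19) (ke xe5 ye17 ze16) (ke xe1 ye14 ze44) (ke xe5 ye17 ze18) (ke xe5 ye17 ze20) (ke xe1 ye14 ze45) (ke xe5 ye17 ze22) (ke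 xe5 ye17 ze24) (ke xe4 ye29 ze25) (ke xe5 ye17 ze28) (ke xe5 ye17 ze30) (ke xe5 ye17 ze35) (ke xe1 ye14 ze48) (ke xe5 ye17 ze40) (ke xe1 ye14 ze50) (ke xe5 ye17 ze44) (ke xe1 ye14 ze51) (ke xe5 ye17 ze46) (ke xe5 ye17 ze52) (ke xe1 ye14 ze53) (ke xe5 ye17 ze56) (ke xe5 ye17 ze59) (ke xe1 ye14 ze54) (ke xe5 ye18 ze3) (ke xe5 ye18 ze6) (ke xe2 ye34 ze51) (ke xe5 ye18 ze15) (ke xe5 ye18 ze17) (ke xe1 ye14 ze56) (ke xe5 ye18 ze22) (ke xe1 ye14 ze57) (ke xe2 ye35 ze1) (ke xe5 ye18 ze28) (ke xe2 ye35 ze2) (ke xe5 ye18 ze32) (ke xe1 ye14 ze59) (ke xe5 ye18 ze36) (ke xe2 ye34 ze57) (ke xe2 ye34 ze59) (ke xe5 ye18 ze43) (ke xe5 ye18 ze48)) (@D3.rec (fun _ => Pt) (ke xe2 ye35 ze5) (ke xe5 ye18 ze53) (ke xe5 ye18 ze54) (ke xe1 ye15 ze0) (ke xe1 ye15 ze1) (ke xe2 ye42 ze14) (ke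 xe5 ye19 ze0) (ke xe1 ye15 ze3) (ke xe5 ye19 ze2) (ke xe1 ye15 ze4) (ke xe5 ye19 ze4) (ke xe5 ye19 ze5) (ke xe4 ye27 ze10) (ke xe5 ye19 ze7) (ke xe5 ye19 ze9) (ke xe1 ye15 ze7) (ke xe5 ye19 ze11) (ke xe2 ye37 ze17) (ke xe5 ye19 ze14) (ke xe5 ye19 ze17) (ke xe1 ye15 ze10) (ke xe5 ye19 ze23) (ke xe2 ye38 ze41) (ke xe1 ye15 ze12) (ke xe5 ye19 ze30) (ke xe5 ye19 ze33) (ke xe4 ye27 ze18) (ke xe5 ye19 ze40) (ke xe5 ye19 ze41) (ke xe1 ye15 ze14) (ke xe5 ye19 ze43) (ke xe5 ye19 ze44) (ke xe1 ye58 ze14) (ke xe5 ye19 ze47) (ke xe5 ye19 ze50) (ke xe1 ye15 ze17) (ke xe1 ye16 ze11) (ke xe5 ye19 ze52) (ke xe2 ye24 ze43) (ke xe5 ye19 ze58) (ke xe1 ye15 ze19) (ke xe5 ye20 ze2) (ke xe5 ye20 ze5) (ke xe4 ye27 ze28) (ke xe5 ye20 ze12) (ke xe5 ye20 ze13) (ke xe1 ye15 ze21) (ke xe5 ye20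 ze16) (ke xe5 ye20 ze18) (ke xe1 ye15 ze33) (ke xe5 ye20 ze24) (ke xe5 ye20 ze26) (ke xe1 ye15 ze25) (ke xe5 ye19 ze26) (ke xe5 ye20 ze32) (ke xe1 ye15 ze26) (ke xe5 ye20 ze36) (ke xe1 ye15 ze28) (ke xe5 ye20 ze39) (ke xe1 ye15 ze29) (ke xe5 ye20 ze42) (ke xe5 ye20 ze46)) (@D3.rec (fun _ => Pt) (ke xe2 ye5 ze46) (ke xe1 ye15 ze31) (ke xe5 ye20 ze49) (ke xe5 ye20 ze52) (ke xe1 ye15 ze32) (ke xe5 ye20 ze57) (ke xe5 ye20 ze61) (ke xe5 ye20 ze21) (ke xe5 ye21 ze7) (ke xe5 ye21 ze8) (ke xe1 ye15 ze34) (ke xe2 ye58 ze21) (ke xe2 ye58 ze22) (ke xe2 ye7 ze56) (ke xe5 ye21 ze20) (ke xe1 ye15 ze38) (ke xe5 ye21 ze22) (ke xe2 ye36 ze17) (ke xe5 ye21 ze25) (ke xe5 ye21 ze27) (ke xe1 ye15 ze41) (ke xe5 ye21 ze29) (ke xe4 ye11 ze10) (ke xe5 ye21 ze35) (ke xe1 ye15 ze42) (ke xe5 ye21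 ze41) (ke xe1 ye15 ze44) (ke xe5 ye21 ze45) (ke xe5 ye21 ze50) (ke xe1 ye15 ze46) (ke xe5 ye21 ze56) (ke xe1 ye15 ze47) (ke xe5 ye22 ze0) (ke xe5 ye22 ze3) (ke xe1 ye16 ze22) (ke xe5 ye22 ze12) (ke xe5 ye22 ze14) (ke xe1 ye15 ze49) (ke xe5 ye22 ze15) (ke xe5 ye22 ze16) (ke xe5 ye22 ze17) (ke xe5 ye22 ze21) (ke xe1 ye15 ze51) (ke xe4 ye19 ze17) (ke xe5 ye22 ze24) (ke xe2 ye38 ze23) (ke xe5 ye22 ze27) (ke xe5 ye22 ze29) (ke xe1 ye15 ze54) (ke xe5 ye22 ze33) (ke xe5 ye22 ze35) (ke xe5 ye22 ze37) (ke xe1 ye15 ze55) (ke xe2 ye38 ze21) (ke xe5 ye22 ze40) (ke xe4 ye53 ze47) (ke xe5 ye22 ze47) (ke xe1 ye15 ze57) (ke xe5 ye22 ze53) (ke xe1 ye15 ze58) (ke xe5 ye22 ze56) (ke xe5 ye22 ze60)) (@D3.rec (fun _ => Pt) (ke xe5 ye23 ze3) (ke xe5 ye23 ze6) (ke xe1 ye15 ze59) (ke xe5 ye21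 ze36) (ke xe5 ye23 ze14) (ke xe1 ye16 ze0) (ke xe5 ye20 ze41) (ke xe2 ye41 ze39) (ke xe5 ye23 ze17) (ke xe5 ye23 ze23) (ke xe5 ye23 ze25) (ke xe1 ye16 ze3) (ke xe5 ye12 ze48) (ke xe5 ye23 ze26) (ke xe5 ye23 ze29) (ke xe1 ye16 ze4) (ke xe5 ye22 ze30) (ke xe5 ye23 ze31) (ke xe4 ye3 ze9) (ke xe5 ye23 ze34) (ke xe1 ye16 ze6) (ke xe2 ye37 ze53) (ke xe5 ye23 ze37) (ke xe2 ye37 ze45) (ke xe5 ye23 ze44) (ke xe5 ye23 ze45) (ke xe1 ye16 ze8) (ke xe5 ye23 ze51) (ke xe5 ye9 ze31) (ke xe1 ye16 ze10) (ke xe5 ye20 ze34) (ke xe5 ye23 ze55) (ke xe5 ye23 ze61) (ke xe5 ye24 ze2) (ke xe4 ye16 ze60) (ke xe1 ye16 ze12) (ke xe5 ye24 ze8) (ke xe5 ye21 ze47) (ke xe5 ye24 ze14) (ke xe5 ye24 ze17) (ke xe1 ye16 ze13) (ke xe2 ye36 ze22) (ke xe5 ye24 ze22) (ke xe1 ye16 ze14) (ke xe5 ye21 ze58) (ke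 xe5 ye24 ze27) (ke xe2 ye30 ze20) (ke xe5 ye20 ze54) (ke xe5 ye24 ze29) (ke xe5 ye24 ze32) (ke xe1 ye16 ze16) (ke xe1 ye52 ze45) (ke xe5 ye24 ze40) (ke xe1 ye16 ze17) (ke xe1 ye24 ze58) (ke xe5 ye24 ze45) (ke xe5 ye21 ze51) (ke xe2 ye58 ze23) (ke xe5 ye20 ze48) (ke xe5 ye24 ze56) (ke xe5 ye24 ze58) (ke xe5 ye24 ze61)) (@D3.rec (fun _ => Pt) (ke xe1 ye16 ze20) (ke xe5 ye25 ze6) (ke xe5 ye25 ze7) (ke xe5 ye25 ze8) (ke xe1 ye16 ze21) (ke xe5 ye25 ze16) (ke xe5 ye25 ze21) (ke xe5 ye22 ze6) (ke xe5 ye25 ze26) (ke xe5 ye25 ze28) (ke xe5 ye25 ze30) (ke xe5 ye25 ze32) (ke xe5 ye25 ze34) (ke xe1 ye16 ze23) (ke xe5 ye25 ze38) (ke xe1 ye16 ze24) (ke xe5 ye25 ze45) (ke xe5 ye25 ze49) (ke xe5 ye25 ze51) (ke xe4 ye29 ze13) (ke xe5 ye25 ze57) (ke xe1 ye16 ze26) (ke xe4 ye11 ze23)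 (ke xe2 ye45 ze50) (ke xe5 ye26 ze4) (ke xe2 ye51 ze26) (ke xe1 ye16 ze29) (ke xe1 ye17 ze6) (ke xe5 ye26 ze5) (ke xe2 ye59 ze6) (ke xe4 ye9 ze27) (ke xe5 ye26 ze11) (ke xe1 ye16 ze31) (ke xe5 ye26 ze18) (ke xe4 ye34 ze45) (ke xe1 ye16 ze33) (ke xe4 ye10 ze61) (ke xe2 ye58 ze58) (ke xe5 ye26 ze26) (ke xe1 ye16 ze35) (ke xe5 ye26 ze34) (ke xe5 ye0 ze8) (ke xe1 ye16 ze36) (ke xe1 ye17 ze52) (ke xe5 ye26 ze42) (ke xe2 ye59 ze21) (ke xe5 ye26 ze45) (ke xe1 ye16 ze38) (ke xe4 ye35 ze6) (ke xe1 ye21 ze43) (ke xe5 ye26 ze53) (ke xe1 ye17 ze41) (ke xe2 ye59 ze14) (ke xe5 ye26 ze57) (ke xe5 ye26 ze58) (ke xe1 ye16 ze41) (ke xe2 ye52 ze56) (ke xe2 ye19 ze1) (ke xe5 ye27 ze8) (ke xe5 ye27 ze13) (ke xe1 ye18 ze0) (ke xe5 ye27 ze18)) (@D3.rec (fun _ => Pt) (ke xe5 ye27 ze19) (ke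 xe4 ye38 ze53) (ke xe1 ye16 ze44) (ke xe1 ye16 ze45) (ke xe5 ye27 ze25) (ke xe5 ye27 ze28) (ke xe1 ye16 ze48) (ke xe5 ye27 ze32) (ke xe1 ye16 ze49) (ke xe2 ye2 ze0) (ke xe4 ye9 ze23) (ke xe5 ye27 ze39) (ke xe1 ye16 ze51) (ke xe5 ye27 ze44) (ke xe5 ye27 ze47) (ke xe1 ye16 ze52) (ke xe5 ye27 ze52) (ke xe5 ye27 ze55) (ke xe5 ye27 ze60) (ke xe5 ye27 ze61) (ke xe1 ye16 ze53) (ke xe5 ye25 ze58) (ke xe5 ye28 ze10) (ke xe4 ye29 ze14) (ke xe1 ye59 ze48) (ke xe5 ye28 ze13) (ke xe5 ye28 ze15) (ke xe5 ye28 ze17) (ke xe2 ye41 ze22) (ke xe1 ye16 ze56) (ke xe5 ye28 ze22) (ke xe1 ye16 ze58) (ke xe5 ye28 ze30) (ke xe5 ye28 ze31) (ke xe1 ye16 ze59) (ke xe2 ye43 ze29) (ke xe5 ye6 ze25) (ke xe2 ye59 ze5) (ke xe5 ye28 ze43) (ke xe5 ye28 ze44) (ke xe1 ye16 ze61) (ke xe5 ye28 ze52) (ke xe5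 ye28 ze53) (ke xe1 ye17 ze1) (ke xe5 ye28 ze61) (ke xe5 ye29 ze0) (ke xe1 ye17 ze2) (ke xe5 ye29 ze5) (ke xe5 ye29 ze9) (ke xe5 ye29 ze11) (ke xe3 ye5 ze40) (ke xe1 ye17 ze3) (ke xe5 ye24 ze47) (ke xe1 ye17 ze7) (ke xe2 ye41 ze40) (ke xe5 ye29 ze19) (ke xe1 ye17 ze10) (ke xe5 ye29 ze22) (ke xe1 ye17 ze11) (ke xe5 ye29 ze27) (ke xe1 ye17 ze12) (ke xe2 ye11 ze29)) (@D3.rec (fun _ => Pt) (ke xe4 ye2 ze47) (ke xe2 ye41 ze1) (ke xe5 ye29 ze32) (ke xe5 ye29 ze34) (ke xe5 ye29 ze37) (ke xe5 ye29 ze39) (ke xe1 ye17 ze15) (ke xe4 ye18 ze57) (ke xe2 ye28 ze12) (ke xe5 ye29 ze42) (ke xe4 ye22 ze21) (ke xe5 ye29 ze47) (ke xe2 ye5 ze16) (ke xe1 ye17 ze17) (ke xe5 ye29 ze50) (ke xe1 ye17 ze18) (ke xe5 ye29 ze56) (ke xe5 ye29 ze59) (ke xe5 ye30 ze2) (ke xe5 ye30 ze5) (ke xe1 ye17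 ze19) (ke xe5 ye30 ze11) (ke xe2 ye40 ze28) (ke xe1 ye17 ze23) (ke xe4 ye28 ze54) (ke xe1 ye17 ze21) (ke xe5 ye30 ze16) (ke xe5 ye30 ze24) (ke xe5 ye30 ze28) (ke xe5 ye30 ze30) (ke xe5 ye30 ze34) (ke xe1 ye17 ze25) (ke xe1 ye17 ze26) (ke xe5 ye30 ze42) (ke xe2 ye58 ze53) (ke xe5 ye28 ze57) (ke xe2 ye14 ze43) (ke xe5 ye30 ze49) (ke xe1 ye17 ze28) (ke xe2 ye38 ze7) (ke xe2 ye40 ze54) (ke xe4 ye12 ze5) (ke xe4 ye17 ze3) (ke xe1 ye17 ze32) (ke xe2 ye2 ze44) (ke xe5 ye30 ze58) (ke xe5 ye31 ze0) (ke xe4 ye7 ze61) (ke xe1 ye17 ze33) (ke xe5 ye31 ze5) (ke xe5 ye31 ze10) (ke xe5 ye31 ze13) (ke xe1 ye17 ze34) (ke xe2 ye1 ze47) (ke xe5 ye31 ze21) (ke xe5 ye31 ze25) (ke xe2 ye30 ze2) (ke xe4 ye29 ze55) (ke xe5 ye31 ze31) (ke xe1 ye17 ze37) (ke xe5 ye31 ze35) (ke xe5 ye26 ze31))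 (@D3.rec (fun _ => Pt) (ke xe5 ye31 ze39) (ke xe5 ye31 ze43) (ke xe1 ye17 ze38) (ke xe5 ye31 ze49) (ke xe5 ye31 ze51) (ke xe1 ye17 ze39) (ke xe1 ye18 ze53) (ke xe5 ye31 ze57) (ke xe2 ye46 ze36) (ke xe3 ye13 ze13) (ke xe5 ye23 ze16) (ke xe2 ye52 ze58) (ke xe4 ye29 ze44) (ke xe5 ye32 ze4) (ke xe2 ye36 ze5) (ke xe1 ye17 ze42) (ke xe2 ye30 ze3) (ke xe5 ye32 ze10) (ke xe1 ye17 ze45) (ke xe5 ye16 ze61) (ke xe5 ye32 ze16) (ke xe5 ye32 ze21) (ke xe5 ye32 ze24) (ke xe1 ye17 ze46) (ke xe5 ye32 ze30) (ke xe5 ye32 ze33) (ke xe4 ye29 ze32) (ke xe5 ye26 ze49) (ke xe5 ye32 ze38) (ke xe5 ye32 ze40) (ke xe5 ye32 ze44) (ke xe1 ye17 ze48) (ke xe1 ye17 ze49) (ke xe5 ye32 ze49) (ke xe5 ye26 ze35) (ke xe4 ye29 ze42) (ke xe5 ye32 ze52) (ke xe1 ye17 ze51) (ke xe5 ye26 ze38) (ke xe5 ye26 ze39)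 (ke xe5 ye32 ze58) (ke xe3 ye21 ze0) (ke xe5 ye33 ze1) (ke xe5 ye33 ze5) (ke xe5 ye33 ze9) (ke xe1 ye17 ze54) (ke xe5 ye33 ze15) (ke xe5 ye33 ze17) (ke xe1 ye17 ze55) (ke xe4 ye32 ze43) (ke xe2 ye54 ze56) (ke xe5 ye26 ze60) (ke xe5 ye33 ze31) (ke xe5 ye33 ze34) (ke xe5 ye33 ze37) (ke xe5 ye33 ze41) (ke xe1 ye17 ze57) (ke xe1 ye17 ze58) (ke xe4 ye30 ze11) (ke xe5 ye33 ze45) (ke xe5 ye33 ze49) (ke xe5 ye33 ze54)) (@D3.rec (fun _ => Pt) (ke xe5 ye33 ze60) (ke xe5 ye34 ze2) (ke xe1 ye17 ze60) (ke xe5 ye34 ze7) (ke xe5 ye34 ze12) (ke xe5 ye34 ze15) (ke xe5 ye34 ze17) (ke xe1 ye17 ze61) (ke xe5 ye34 ze22) (ke xe3 ye5 ze18) (ke xe5 ye34 ze25) (ke xe5 ye34 ze30) (ke xe1 ye18 ze1) (ke xe1 ye18 ze2) (ke xe2 ye50 ze59) (ke xe5 ye34 ze41) (ke xe1 ye18 ze4) (ke xe5 ye34 ze47) (ke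 xe5 ye34 ze50) (ke xe4 ye33 ze43) (ke xe5 ye34 ze53) (ke xe5 ye34 ze56) (ke xe4 ye33 ze42) (ke xe5 ye35 ze0) (ke xe5 ye35 ze2) (ke xe5 ye13 ze23) (ke xe1 ye18 ze7) (ke xe5 ye35 ze7) (ke xe5 ye35 ze9) (ke xe2 ye40 ze35) (ke xe1 ye18 ze8) (ke xe5 ye35 ze11) (ke xe5 ye35 ze13) (ke xe5 ye35 ze16) (ke xe1 ye18 ze11) (ke xe5 ye35 ze20) (ke xe1 ye18 ze12) (ke xe2 ye12 ze42) (ke xe4 ye4 ze38) (ke xe5 ye35 ze24) (ke xe5 ye35 ze27) (ke xe1 ye18 ze14) (ke xe5 ye35 ze32) (ke xe5 ye35 ze35) (ke xe1 ye18 ze15) (ke xe5 ye35 ze40) (ke xe5 ye35 ze43) (ke xe5 ye35 ze48) (ke xe5 ye35 ze52) (ke xe1 ye18 ze16) (ke xe5 ye35 ze59) (ke xe5 ye36 ze0) (ke xe1 ye18 ze20) (ke xe4 ye31 ze30) (ke xe2 ye1 ze7) (ke xe1 ye58 ze16) (ke xe5 ye36 ze7) (ke xe5 ye36 ze9) (ke xe4 ye9 ze16) (ke xe2 ye45 ze34)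 (ke xe1 ye18 ze19) (ke xe5 ye36 ze3)) (@D3.rec (fun _ => Pt) (ke xe5 ye36 ze14) (ke xe1 ye18 ze22) (ke xe5 ye36 ze21) (ke xe1 ye18 ze23) (ke xe5 ye36 ze27) (ke xe5 ye3 ze15) (ke xe2 ye59 ze50) (ke xe5 ye36 ze29) (ke xe5 ye36 ze33) (ke xe1 ye18 ze25) (ke xe5 ye36 ze40) (ke xe1 ye18 ze26) (ke xe2 ye59 ze42) (ke xe4 ye19 ze48) (ke xe5 ye36 ze48) (ke xe5 ye36 ze52) (ke xe4 ye37 ze37) (ke xe1 ye18 ze28) (ke xe5 ye36 ze54) (ke xe1 ye18 ze30) (ke xe5 ye36 ze58) (ke xe1 ye18 ze31) (ke xe5 ye37 ze0) (ke xe3 ye58 ze38) (ke xe4 ye5 ze31) (ke xe2 ye7 ze23) (ke xe2 ye3 ze43) (ke xe2 ye45 ze49) (ke xe2 ye29 ze55) (ke xe5 ye37 ze10) (ke xe2 ye16 ze53) (ke xe5 ye0 ze34) (ke xe2 ye30 ze17) (ke xe5 ye37 ze15) (ke xe1 ye18 ze38) (ke xe5 ye37 ze19) (ke xe3 ye0 ze6) (ke xe1 ye31 ze17) (ke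 xe5 ye37 ze22) (ke xe1 ye18 ze40) (ke xe2 ye0 ze58) (ke xe5 ye37 ze29) (ke xe4 ye53 ze52) (ke xe5 ye37 ze32) (ke xe1 ye18 ze42) (ke xe5 ye37 ze37) (ke xe4 ye5 ze48) (ke xe3 ye4 ze7) (ke xe2 ye18 ze44) (ke xe5 ye37 ze46) (ke xe1 ye18 ze44) (ke xe5 ye37 ze53) (ke xe5 ye37 ze57) (ke xe5 ye37 ze59) (ke xe1 ye18 ze45) (ke xe1 ye20 ze61) (ke xe1 ye21 ze0) (ke xe5 ye38 ze3) (ke xe5 ye38 ze5) (ke xe1 ye18 ze47) (ke xe5 ye38 ze10) (ke xe5 ye38 ze13)) (@D3.rec (fun _ => Pt) (ke xe5 ye38 ze17) (ke xe1 ye18 ze48) (ke xe1 ye21 ze12) (ke xe5 ye38 ze7) (ke xe5 ye31 ze55) (ke xe1 ye18 ze59) (ke xe5 ye38 ze31) (ke xe5 ye38 ze33) (ke xe2 ye51 ze3) (ke xe1 ye21 ze18) (ke xe5 ye38 ze38) (ke xe1 ye18 ze52) (ke xe2 ye25 ze45) (ke xe5 ye38 ze40) (ke xe1 ye21 ze27) (ke xe1 ye21 ze29) (ke xe5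 ye38 ze45) (ke xe1 ye18 ze57) (ke xe5 ye38 ze47) (ke xe5 ye38 ze48) (ke xe1 ye18 ze60) (ke xe5 ye38 ze51) (ke xe1 ye19 ze4) (ke xe5 ye38 ze53) (ke xe5 ye38 ze55) (ke xe1 ye19 ze5) (ke xe5 ye38 ze57) (ke xe5 ye38 ze59) (ke xe1 ye19 ze6) (ke xe5 ye39 ze1) (ke xe5 ye39 ze3) (ke xe5 ye39 ze7) (ke xe1 ye19 ze7) (ke xe5 ye39 ze14) (ke xe2 ye43 ze59) (ke xe1 ye19 ze11) (ke xe4 ye4 ze30) (ke xe4 ye12 ze8) (ke xe1 ye57 ze47) (ke xe5 ye39 ze19) (ke xe5 ye39 ze26) (ke xe5 ye39 ze30) (ke xe5 ye39 ze31) (ke xe1 ye19 ze13) (ke xe5 ye34 ze44) (ke xe1 ye23 ze25) (ke xe5 ye39 ze42) (ke xe5 ye39 ze45) (ke xe1 ye19 ze15) (ke xe2 ye44 ze27) (ke xe2 ye39 ze23) (ke xe4 ye52 ze44) (ke xe4 ye12 ze40) (ke xe1 ye19 ze19) (ke xe2 ye7 ze19) (ke xe5 ye39 ze53) (ke xe2 ye1 ze0) (ke xe5 ye39 ze60)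 (ke xe5 ye40 ze0) (ke xe5 ye40 ze3) (ke xe5 ye40 ze6) (ke xe5 ye40 ze10)) (@D3.rec (fun _ => Pt) (ke xe1 ye19 ze22) (ke xe5 ye40 ze15) (ke xe5 ye40 ze16) (ke xe1 ye19 ze24) (ke xe4 ye31 ze12) (ke xe4 ye34 ze58) (ke xe2 ye55 ze48) (ke xe1 ye21 ze56) (ke xe1 ye21 ze57) (ke xe5 ye40 ze22) (ke xe5 ye40 ze25) (ke xe5 ye40 ze28) (ke xe5 ye40 ze32) (ke xe1 ye19 ze28) (ke xe5 ye40 ze37) (ke xe1 ye19 ze29) (ke xe5 ye40 ze43) (ke xe1 ye19 ze30) (ke xe1 ye21 ze25) (ke xe5 ye40 ze49) (ke xe1 ye19 ze34) (ke xe4 ye32 ze6) (ke xe1 ye22 ze27) (ke xe1 ye22 ze13) (ke xe5 ye40 ze56) (ke xe5 ye40 ze52) (ke xe5 ye40 ze59) (ke xe2 ye23 ze28) (ke xe4 ye19 ze5) (ke xe1 ye22 ze34) (ke xe5 ye40 ze61) (ke xe1 ye23 ze31) (ke xe5 ye41 ze1) (ke xe5 ye41 ze2) (ke xe1 ye19 ze41) (ke xe5 ye41 ze5)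 (ke xe2 ye42 ze8) (ke xe5 ye0 ze14) (ke xe1 ye19 ze45) (ke xe4 ye31 ze53) (ke xe2 ye34 ze2) (ke xe2 ye30 ze36) (ke xe5 ye41 ze19) (ke xe5 ye41 ze22) (ke xe5 ye41 ze24) (ke xe1 ye19 ze48) (ke xe1 ye22 ze41) (ke xe1 ye22 ze42) (ke xe5 ye41 ze30) (ke xe4 ye32 ze50) (ke xe5 ye41 ze34) (ke xe5 ye41 ze37) (ke xe1 ye22 ze48) (ke xe5 ye41 ze43) (ke xe1 ye19 ze51) (ke xe5 ye41 ze48) (ke xe5 ye41 ze51) (ke xe5 ye41 ze55) (ke xe1 ye19 ze52) (ke xe4 ye36 ze2) (ke xe5 ye41 ze58) (ke xe4 ye32 ze42)) (@D3.rec (fun _ => Pt) (ke xe5 ye42 ze3) (ke xe1 ye19 ze54) (ke xe5 ye42 ze9) (ke xe1 ye19 ze55) (ke xe1 ye28 ze46) (ke xe5 ye42 ze16) (ke xe1 ye19 ze57) (ke xe4 ye32 ze46) (ke xe5 ye42 ze22) (ke xe5 ye42 ze19) (ke xe5 ye42 ze26) (ke xe1 ye23 ze1) (ke xe5 ye42 ze29) (ke xe1 ye23 ze56)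 (ke xe4 ye26 ze3) (ke xe5 ye42 ze33) (ke xe3 ye33 ze21) (ke xe5 ye42 ze36) (ke xe1 ye19 ze61) (ke xe1 ye23 ze10) (ke xe4 ye37 ze28) (ke xe5 ye42 ze45) (ke xe1 ye20 ze0) (ke xe5 ye42 ze49) (ke xe5 ye42 ze52) (ke xe5 ye42 ze56) (ke xe1 ye20 ze1) (ke xe4 ye35 ze23) (ke xe5 ye42 ze59) (ke xe4 ye30 ze10) (ke xe4 ye39 ze5) (ke xe1 ye20 ze4) (ke xe4 ye32 ze20) (ke xe5 ye43 ze5) (ke xe5 ye43 ze9) (ke xe5 ye43 ze11) (ke xe1 ye20 ze6) (ke xe2 ye47 ze42) (ke xe5 ye43 ze15) (ke xe5 ye43 ze17) (ke xe2 ye14 ze47) (ke xe1 ye23 ze35) (ke xe2 ye47 ze37) (ke xe5 ye43 ze24) (ke xe2 ye47 ze60) (ke xe5 ye43 ze27) (ke xe5 ye43 ze32) (ke xe1 ye20 ze10) (ke xe5 ye43 ze36) (ke xe1 ye20 ze11) (ke xe1 ye23 ze48) (ke xe5 ye43 ze40) (ke xe5 ye43 ze42) (ke xe1 ye20 ze12) (ke xe5 ye43 ze46) (ke xe1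 ye20 ze13) (ke xe5 ye43 ze50) (ke xe1 ye20 ze14) (ke xe1 ye23 ze44) (ke xe5 ye43 ze52) (ke xe2 ye47 ze44) (ke xe5 ye43 ze60)) (@D3.rec (fun _ => Pt) (ke xe5 ye44 ze1) (ke xe5 ye44 ze6) (ke xe1 ye20 ze16) (ke xe5 ye44 ze12) (ke xe5 ye44 ze17) (ke xe1 ye20 ze17) (ke xe4 ye36 ze60) (ke xe5 ye44 ze25) (ke xe1 ye20 ze18) (ke xe5 ye44 ze32) (ke xe5 ye44 ze36) (ke xe5 ye44 ze41) (ke xe5 ye44 ze45) (ke xe1 ye20 ze19) (ke xe5 ye44 ze51) (ke xe5 ye44 ze55) (ke xe5 ye44 ze59) (ke xe5 ye44 ze60) (ke xe1 ye20 ze21) (ke xe2 ye55 ze25) (ke xe5 ye45 ze1) (ke xe5 ye45 ze8) (ke xe5 ye45 ze12) (ke xe1 ye20 ze23) (ke xe5 ye45 ze19) (ke xe5 ye45 ze21) (ke xe2 ye26 ze12) (ke xe3 ye5 ze46) (ke xe5 ye45 ze23) (ke xe5 ye45 ze27) (ke xe1 ye20 ze25) (ke xe5 ye45 ze34) (ke xe2 ye0 ze9) (ke xe4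 ye33 ze31) (ke xe4 ye30 ze37) (ke xe5 ye43 ze0) (ke xe5 ye45 ze38) (ke xe1 ye20 ze27) (ke xe5 ye45 ze45) (ke xe2 ye57 ze7) (ke xe4 ye30 ze44) (ke xe4 ye30 ze41) (ke xe5 ye45 ze53) (ke xe5 ye45 ze57) (ke xe5 ye45 ze59) (ke xe1 ye20 ze29) (ke xe5 ye46 ze5) (ke xe3 ye11 ze11) (ke xe1 ye27 ze15) (ke xe1 ye20 ze30) (ke xe1 ye20 ze31) (ke xe5 ye46 ze13) (ke xe5 ye46 ze17) (ke xe1 ye20 ze33) (ke xe5 ye46 ze20) (ke xe4 ye41 ze18) (ke xe5 ye46 ze23) (ke xe5 ye46 ze25) (ke xe5 ye46 ze27) (ke xe1 ye20 ze34) (ke xe1 ye20 ze35) (ke xe5 ye46 ze37)) (@D3.rec (fun _ => Pt) (ke xe2 ye29 ze54) (ke xe5 ye46 ze34) (ke xe2 ye4 ze7) (ke xe5 ye0 ze33) (ke xe2 ye29 ze52) (ke xe1 ye31 ze6) (ke xe4 ye24 ze3) (ke xe1 ye20 ze42) (ke xe5 ye46 ze49) (ke xe3 ye2 ze32) (ke xe2 ye16 ze57) (ke xe5 ye46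 ze51) (ke xe2 ye30 ze14) (ke xe5 ye46 ze55) (ke xe5 ye46 ze57) (ke xe3 ye2 ze41) (ke xe5 ye46 ze60) (ke xe4 ye34 ze19) (ke xe1 ye20 ze48) (ke xe3 ye5 ze38) (ke xe3 ye5 ze42) (ke xe1 ye20 ze49) (ke xe5 ye47 ze1) (ke xe1 ye20 ze50) (ke xe5 ye47 ze4) (ke xe1 ye20 ze51) (ke xe5 ye47 ze9) (ke xe4 ye5 ze49) (ke xe5 ye47 ze7) (ke xe1 ye20 ze54) (ke xe2 ye52 ze4) (ke xe5 ye47 ze12) (ke xe5 ye47 ze16) (ke xe1 ye20 ze55) (ke xe4 ye34 ze23) (ke xe4 ye42 ze47) (ke xe1 ye20 ze56) (ke xe4 ye4 ze54) (ke xe5 ye47 ze21) (ke xe3 ye4 ze19) (ke xe2 ye18 ze45) (ke xe5 ye47 ze25) (ke xe5 ye47 ze27) (ke xe5 ye47 ze30) (ke xe5 ye47 ze33) (ke xe1 ye20 ze59) (ke xe3 ye3 ze1) (ke xe5 ye47 ze41) (ke xe2 ye52 ze9) (ke xe5 ye47 ze43) (ke xe5 ye37 ze61) (ke xe5 ye47 ze46) (ke xe1 ye26 ze5) (ke xe5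 ye47 ze47) (ke xe3 ye58 ze53) (ke xe5 ye47 ze48) (ke xe1 ye21 ze1) (ke xe5 ye47 ze51) (ke xe5 ye47 ze53) (ke xe5 ye47 ze54) (ke xe5 ye47 ze56) (ke xe1 ye21 ze2)) (@D3.rec (fun _ => Pt) (ke xe5 ye47 ze60) (ke xe1 ye21 ze3) (ke xe5 ye48 ze1) (ke xe1 ye21 ze4) (ke xe5 ye48 ze3) (ke xe5 ye48 ze7) (ke xe1 ye21 ze6) (ke xe5 ye38 ze6) (ke xe5 ye48 ze10) (ke xe5 ye48 ze15) (ke xe1 ye21 ze8) (ke xe5 ye48 ze16) (ke xe5 ye48 ze17) (ke xe1 ye21 ze9) (ke xe5 ye48 ze19) (ke xe5 ye48 ze20) (ke xe5 ye48 ze21) (ke xe1 ye21 ze10) (ke xe5 ye48 ze29) (ke xe5 ye48 ze33) (ke xe1 ye21 ze13) (ke xe4 ye34 ze35) (ke xe5 ye38 ze21) (ke xe5 ye38 ze22) (ke xe5 ye48 ze44) (ke xe5 ye48 ze47) (ke xe5 ye48 ze36) (ke xe3 ye10 ze45) (ke xe4 ye33 ze49) (ke xe5 ye48 ze57) (ke xe5 ye48 ze58) (ke xe1 ye21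 ze15) (ke xe5 ye41 ze11) (ke xe2 ye11 ze61) (ke xe5 ye49 ze1) (ke xe2 ye58 ze16) (ke xe5 ye38 ze35) (ke xe4 ye28 ze60) (ke xe5 ye49 ze7) (ke xe3 ye10 ze29) (ke xe5 ye49 ze11) (ke xe5 ye49 ze12) (ke xe5 ye49 ze16) (ke xe1 ye21 ze20) (ke xe1 ye21 ze21) (ke xe5 ye28 ze56) (ke xe5 ye49 ze23) (ke xe5 ye37 ze16) (ke xe1 ye21 ze23) (ke xe5 ye49 ze29) (ke xe2 ye16 ze32) (ke xe1 ye21 ze24) (ke xe5 ye40 ze44) (ke xe3 ye59 ze54) (ke xe5 ye49 ze35) (ke xe1 ye21 ze26) (ke xe5 ye38 ze41) (ke xe5 ye49 ze40) (ke xe4 ye23 ze1) (ke xe2 ye43 ze14) (ke xe5 ye49 ze45) (ke xe1 ye26 ze2)) (@D3.rec (fun _ => Pt) (ke xe5 ye49 ze49) (ke xe5 ye49 ze51) (ke xe1 ye21 ze32) (ke xe2 ye45 ze8) (ke xe1 ye21 ze33) (ke xe5 ye49 ze57) (ke xe1 ye57 ze16) (ke xe4 ye53 ze55) (ke xe5 ye49 ze61) (ke xe2 ye57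 ze40) (ke xe1 ye21 ze39) (ke xe4 ye31 ze5) (ke xe5 ye50 ze5) (ke xe5 ye50 ze7) (ke xe1 ye21 ze41) (ke xe5 ye50 ze10) (ke xe5 ye50 ze12) (ke xe1 ye21 ze42) (ke xe5 ye26 ze52) (ke xe5 ye50 ze14) (ke xe1 ye25 ze41) (ke xe1 ye21 ze44) (ke xe5 ye50 ze23) (ke xe5 ye50 ze26) (ke xe4 ye34 ze4) (ke xe5 ye50 ze31) (ke xe2 ye39 ze25) (ke xe1 ye21 ze46) (ke xe5 ye50 ze36) (ke xe5 ye50 ze38) (ke xe1 ye21 ze47) (ke xe5 ye50 ze41) (ke xe5 ye50 ze43) (ke xe5 ye50 ze44) (ke xe4 ye6 ze5) (ke xe1 ye21 ze50) (ke xe3 ye3 ze47) (ke xe5 ye50 ze52) (ke xe5 ye50 ze54) (ke xe1 ye21 ze52) (ke xe5 ye50 ze57) (ke xe1 ye21 ze53) (ke xe2 ye15 ze20) (ke xe5 ye50 ze60) (ke xe1 ye21 ze54) (ke xe4 ye6 ze60) (ke xe5 ye40 ze19) (ke xe5 ye51 ze2) (ke xe4 ye44 ze58) (ke xe1 ye21 ze58) (ke xe5 ye51 ze8) (ke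 xe5 ye51 ze10) (ke xe1 ye21 ze59) (ke xe5 ye51 ze15) (ke xe5 ye51 ze17) (ke xe1 ye21 ze60) (ke xe5 ye51 ze21) (ke xe5 ye51 ze22) (ke xe5 ye51 ze24) (ke xe5 ye51 ze28) (ke xe5 ye51 ze32) (ke xe4 ye34 ze57)) (@D3.rec (fun _ => Pt) (ke xe5 ye51 ze35) (ke xe1 ye22 ze1) (ke xe4 ye7 ze23) (ke xe5 ye51 ze41) (ke xe2 ye49 ze30) (ke xe5 ye51 ze43) (ke xe3 ye59 ze26) (ke xe1 ye22 ze3) (ke xe1 ye28 ze28) (ke xe2 ye49 ze48) (ke xe5 ye51 ze52) (ke xe5 ye51 ze55) (ke xe1 ye22 ze5) (ke xe5 ye51 ze60) (ke xe5 ye51 ze61) (ke xe1 ye22 ze6) (ke xe1 ye22 ze10) (ke xe5 ye0 ze29) (ke xe5 ye52 ze2) (ke xe1 ye22 ze15) (ke xe5 ye52 ze6) (ke xe5 ye52 ze8) (ke xe1 ye22 ze16) (ke xe5 ye52 ze11) (ke xe3 ye0 ze26) (ke xe1 ye22 ze17) (ke xe5 ye52 ze16) (ke xe4 ye7 ze26) (ke xe5 ye52 ze18) (ke xe1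 ye22 ze18) (ke xe5 ye52 ze26) (ke xe5 ye52 ze30) (ke xe1 ye22 ze20) (ke xe4 ye34 ze46) (ke xe5 ye52 ze37) (ke xe5 ye36 ze19) (ke xe5 ye52 ze33) (ke xe5 ye52 ze45) (ke xe1 ye22 ze21) (ke xe5 ye52 ze49) (ke xe1 ye22 ze22) (ke xe5 ye36 ze41) (ke xe1 ye25 ze10) (ke xe5 ye52 ze54) (ke xe2 ye33 ze51) (ke xe2 ye53 ze24) (ke xe2 ye15 ze15) (ke xe2 ye59 ze17) (ke xe5 ye53 ze3) (ke xe1 ye22 ze28) (ke xe5 ye53 ze6) (ke xe1 ye22 ze29) (ke xe2 ye11 ze33) (ke xe1 ye22 ze31) (ke xe1 ye23 ze46) (ke xe1 ye23 ze3) (ke xe2 ye39 ze56) (ke xe5 ye53 ze14) (ke xe2 ye42 ze11) (ke xe4 ye32 ze8) (ke xe5 ye53 ze18) (ke xe5 ye53 ze21)) (@D3.rec (fun _ => Pt) (ke xe4 ye6 ze58) (ke xe1 ye22 ze36) (ke xe5 ye53 ze25) (ke xe1 ye22 ze37) (ke xe5 ye53 ze28) (ke xe5 ye53 ze32) (ke xe1 ye22 ze38) (ke xe5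 ye53 ze35) (ke xe1 ye22 ze39) (ke xe4 ye5 ze40) (ke xe5 ye53 ze36) (ke xe5 ye41 ze26) (ke xe5 ye53 ze43) (ke xe5 ye53 ze45) (ke xe5 ye53 ze48) (ke xe1 ye22 ze43) (ke xe5 ye53 ze50) (ke xe5 ye53 ze52) (ke xe1 ye22 ze44) (ke xe1 ye22 ze45) (ke xe4 ye32 ze40) (ke xe4 ye5 ze38) (ke xe5 ye53 ze56) (ke xe4 ye36 ze4) (ke xe2 ye52 ze45) (ke xe5 ye54 ze5) (ke xe1 ye22 ze47) (ke xe5 ye41 ze38) (ke xe5 ye54 ze8) (ke xe5 ye54 ze10) (ke xe5 ye54 ze12) (ke xe5 ye54 ze15) (ke xe1 ye22 ze49) (ke xe5 ye54 ze22) (ke xe2 ye30 ze59) (ke xe5 ye54 ze18) (ke xe4 ye36 ze13) (ke xe5 ye54 ze28) (ke xe1 ye22 ze51) (ke xe5 ye54 ze33) (ke xe5 ye54 ze36) (ke xe1 ye22 ze52) (ke xe5 ye54 ze42) (ke xe5 ye54 ze45) (ke xe1 ye22 ze56) (ke xe5 ye43 ze43) (ke xe5 ye54 ze52) (ke xe5 ye54 ze55) (ke xe1 ye22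 ze54) (ke xe1 ye22 ze55) (ke xe5 ye54 ze57) (ke xe5 ye55 ze0) (ke xe5 ye55 ze3) (ke xe5 ye55 ze5) (ke xe5 ye54 ze48) (ke xe5 ye55 ze10) (ke xe5 ye55 ze13) (ke xe5 ye55 ze14) (ke xe1 ye22 ze58) (ke xe5 ye55 ze17) (ke xe5 ye55 ze18) (ke xe1 ye22 ze59)) (@D3.rec (fun _ => Pt) (ke xe5 ye55 ze21) (ke xe5 ye55 ze22) (ke xe1 ye22 ze61) (ke xe5 ye55 ze23) (ke xe1 ye23 ze0) (ke xe5 ye55 ze30) (ke xe5 ye55 ze33) (ke xe5 ye55 ze37) (ke xe1 ye23 ze2) (ke xe5 ye55 ze38) (ke xe5 ye55 ze40) (ke xe1 ye23 ze4) (ke xe5 ye55 ze44) (ke xe1 ye23 ze5) (ke xe5 ye55 ze45) (ke xe5 ye55 ze48) (ke xe1 ye23 ze7) (ke xe5 ye55 ze53) (ke xe1 ye23 ze8) (ke xe5 ye55 ze56) (ke xe5 ye42 ze38) (ke xe5 ye42 ze39) (ke xe5 ye56 ze2) (ke xe4 ye36 ze21) (ke xe5 ye56 ze5) (ke xe1 ye23 ze11) (ke xe5 ye13 ze10)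 (ke xe5 ye56 ze11) (ke xe5 ye56 ze16) (ke xe1 ye23 ze12) (ke xe4 ye24 ze42) (ke xe4 ye32 ze53) (ke xe5 ye56 ze19) (ke xe4 ye20 ze14) (ke xe5 ye56 ze31) (ke xe1 ye23 ze14) (ke xe5 ye56 ze34) (ke xe5 ye56 ze37) (ke xe1 ye23 ze15) (ke xe5 ye56 ze42) (ke xe5 ye56 ze43) (ke xe4 ye35 ze46) (ke xe1 ye23 ze16) (ke xe5 ye56 ze52) (ke xe5 ye56 ze56) (ke xe1 ye23 ze19) (ke xe4 ye35 ze32) (ke xe4 ye23 ze16) (ke xe5 ye57 ze2) (ke xe5 ye57 ze5) (ke xe5 ye28 ze27) (ke xe5 ye56 ze59) (ke xe5 ye57 ze13) (ke xe5 ye57 ze17) (ke xe1 ye23 ze21) (ke xe5 ye57 ze22) (ke xe2 ye42 ze50) (ke xe1 ye23 ze22) (ke xe5 ye28 ze45) (ke xe2 ye0 ze43) (ke xe5 ye57 ze25) (ke xe5 ye39 ze35)) (@D3.rec (fun _ => Pt) (ke xe1 ye23 ze26) (ke xe4 ye48 ze61) (ke xe5 ye57 ze31) (ke xe1 ye23 ze28) (ke xe3 ye25 ze37)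 (ke xe1 ye23 ze29) (ke xe3 ye25 ze31) (ke xe5 ye57 ze36) (ke xe5 ye57 ze37) (ke xe5 ye57 ze40) (ke xe1 ye23 ze32) (ke xe5 ye41 ze17) (ke xe5 ye57 ze43) (ke xe1 ye24 ze12) (ke xe5 ye27 ze2) (ke xe5 ye43 ze19) (ke xe5 ye57 ze52) (ke xe5 ye57 ze53) (ke xe1 ye23 ze36) (ke xe5 ye57 ze56) (ke xe5 ye57 ze58) (ke xe1 ye23 ze37) (ke xe5 ye58 ze1) (ke xe2 ye30 ze47) (ke xe5 ye57 ze61) (ke xe2 ye48 ze19) (ke xe5 ye58 ze6) (ke xe1 ye23 ze40) (ke xe5 ye58 ze13) (ke xe5 ye58 ze15) (ke xe5 ye58 ze20) (ke xe5 ye58 ze24) (ke xe1 ye23 ze41) (ke xe5 ye58 ze26) (ke xe5 ye58 ze27) (ke xe1 ye23 ze45) (ke xe5 ye57 ze14) (ke xe1 ye23 ze43) (ke xe5 ye58 ze29) (ke xe5 ye58 ze31) (ke xe1 ye48 ze41) (ke xe5 ye58 ze34) (ke xe5 ye58 ze28) (ke xe5 ye58 ze36) (ke xe5 ye58 ze37) (ke xe1 ye23 ze49)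 (ke xe5 ye58 ze41) (ke xe1 ye23 ze50) (ke xe2 ye46 ze6) (ke xe5 ye58 ze44) (ke xe5 ye6 ze57) (ke xe5 ye58 ze52) (ke xe1 ye23 ze52) (ke xe5 ye58 ze55) (ke xe5 ye58 ze61) (ke xe5 ye59 ze0) (ke xe1 ye23 ze54) (ke xe5 ye59 ze7) (ke xe1 ye23 ze57) (ke xe5 ye55 ze16) (ke xe5 ye59 ze12) (ke xe4 ye30 ze57)) (@D3.rec (fun _ => Pt) (ke xe5 ye59 ze9) (ke xe5 ye59 ze20) (ke xe5 ye59 ze22) (ke xe5 ye59 ze23) (ke xe1 ye23 ze59) (ke xe5 ye59 ze30) (ke xe5 ye59 ze34) (ke xe4 ye49 ze0) (ke xe5 ye59 ze35) (ke xe5 ye59 ze38) (ke xe1 ye23 ze61) (ke xe5 ye59 ze44) (ke xe5 ye59 ze45) (ke xe5 ye59 ze50) (ke xe5 ye59 ze53) (ke xe1 ye24 ze0) (ke xe3 ye44 ze50) (ke xe5 ye59 ze60) (ke xe3 ye0 ze34) (ke xe4 ye48 ze49) (ke xe6 ye0 ze2) (ke xe6 ye0 ze4) (ke xe1 ye24 ze2) (ke xe6 ye0 ze11) (ke xe6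 ye0 ze12) (ke xe1 ye24 ze3) (ke xe6 ye0 ze19) (ke xe6 ye0 ze22) (ke xe3 ye0 ze35) (ke xe4 ye48 ze58) (ke xe3 ye51 ze18) (ke xe6 ye0 ze32) (ke xe6 ye0 ze34) (ke xe1 ye24 ze5) (ke xe6 ye0 ze42) (ke xe4 ye59 ze37) (ke xe6 ye0 ze43) (ke xe1 ye24 ze6) (ke xe3 ye30 ze10) (ke xe6 ye0 ze46) (ke xe6 ye0 ze48) (ke xe1 ye24 ze7) (ke xe3 ye51 ze4) (ke xe1 ye39 ze48) (ke xe6 ye0 ze51) (ke xe4 ye46 ze49) (ke xe6 ye1 ze4) (ke xe6 ye1 ze8) (ke xe6 ye1 ze12) (ke xe1 ye24 ze9) (ke xe6 ye1 ze20) (ke xe3 ye25 ze45) (ke xe6 ye1 ze24) (ke xe1 ye24 ze10) (ke xe6 ye1 ze28) (ke xe6 ye1 ze30) (ke xe6 ye1 ze32) (ke xe6 ye1 ze35) (ke xe4 ye49 ze11) (ke xe4 ye39 ze9) (ke xe1 ye24 ze15) (ke xe6 ye1 ze47)) (@D3.rec (fun _ => Pt) (ke xe6 ye1 ze42) (ke xe6 ye1 ze51) (ke xe4 ye38 ze45) (ke xe6 ye1 ze58)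 (ke xe1 ye28 ze42) (ke xe4 ye38 ze52) (ke xe4 ye41 ze47) (ke xe2 ye48 ze39) (ke xe6 ye2 ze6) (ke xe1 ye24 ze19) (ke xe5 ye33 ze20) (ke xe6 ye2 ze10) (ke xe6 ye2 ze13) (ke xe1 ye24 ze22) (ke xe6 ye2 ze18) (ke xe6 ye2 ze19) (ke xe6 ye2 ze22) (ke xe1 ye24 ze23) (ke xe6 ye2 ze29) (ke xe6 ye2 ze32) (ke xe4 ye38 ze37) (ke xe2 ye59 ze32) (ke xe1 ye24 ze25) (ke xe6 ye2 ze37) (ke xe6 ye2 ze39) (ke xe1 ye24 ze26) (ke xe6 ye2 ze42) (ke xe6 ye2 ze43) (ke xe1 ye31 ze23) (ke xe6 ye2 ze49) (ke xe4 ye49 ze13) (ke xe6 ye2 ze52) (ke xe6 ye2 ze56) (ke xe1 ye24 ze29) (ke xe4 ye13 ze18) (ke xe5 ye33 ze24) (ke xe4 ye32 ze44) (ke xe2 ye13 ze60) (ke xe1 ye24 ze31) (ke xe3 ye14 ze27) (ke xe2 ye51 ze9) (ke xe4 ye49 ze21) (ke xe6 ye1 ze40) (ke xe4 ye43 ze2) (ke xe6 ye3 ze16) (ke xe1 ye24 ze33)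 (ke xe1 ye31 ze42) (ke xe6 ye3 ze22) (ke xe1 ye24 ze35) (ke xe6 ye3 ze23) (ke xe4 ye1 ze21) (ke xe6 ye3 ze28) (ke xe6 ye3 ze29) (ke xe5 ye39 ze38) (ke xe6 ye3 ze32) (ke xe1 ye24 ze38) (ke xe6 ye3 ze37) (ke xe1 ye24 ze39) (ke xe6 ye3 ze42) (ke xe6 ye3 ze44) (ke xe1 ye24 ze40) (ke xe6 ye3 ze49)) (@D3.rec (fun _ => Pt) (ke xe6 ye3 ze51) (ke xe1 ye24 ze41) (ke xe6 ye3 ze56) (ke xe6 ye3 ze58) (ke xe4 ye49 ze38) (ke xe6 ye4 ze1) (ke xe6 ye4 ze3) (ke xe6 ye4 ze5) (ke xe1 ye24 ze44) (ke xe2 ye8 ze45) (ke xe2 ye12 ze36) (ke xe2 ye12 ze33) (ke xe2 ye33 ze1) (ke xe6 ye4 ze12) (ke xe6 ye4 ze13) (ke xe6 ye4 ze14) (ke xe2 ye50 ze35) (ke xe1 ye24 ze48) (ke xe1 ye28 ze24) (ke xe1 ye24 ze49) (ke xe2 ye8 ze2) (ke xe2 ye37 ze11) (ke xe2 ye37 ze12) (ke xe2 ye38 ze57) (ke xe6 ye4 ze25)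 (ke xe6 ye4 ze27) (ke xe2 ye10 ze61) (ke xe6 ye4 ze33) (ke xe6 ye4 ze35) (ke xe6 ye4 ze37) (ke xe1 ye24 ze59) (ke xe6 ye4 ze41) (ke xe1 ye24 ze60) (ke xe6 ye4 ze47) (ke xe1 ye25 ze0) (ke xe6 ye4 ze49) (ke xe1 ye25 ze1) (ke xe6 ye4 ze52) (ke xe1 ye25 ze2) (ke xe6 ye4 ze57) (ke xe6 ye4 ze60) (ke xe1 ye25 ze4) (ke xe6 ye5 ze2) (ke xe6 ye5 ze5) (ke xe1 ye25 ze5) (ke xe6 ye5 ze11) (ke xe6 ye5 ze14) (ke xe2 ye11 ze20) (ke xe6 ye5 ze23) (ke xe6 ye5 ze25) (ke xe1 ye25 ze7) (ke xe6 ye5 ze32) (ke xe1 ye25 ze8) (ke xe2 ye41 ze34) (ke xe5 ye52 ze53) (ke xe3 ye8 ze30) (ke xe2 ye11 ze35) (ke xe5 ye35 ze3) (ke xe2 ye39 ze37) (ke xe6 ye5 ze43) (ke xe1 ye25 ze12) (ke xe4 ye16 ze10)) (@D3.rec (fun _ => Pt) (ke xe6 ye5 ze50) (ke xe1 ye25 ze13) (ke xe6 ye5 ze56) (ke xe5 ye54 ze34) (ke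 xe1 ye25 ze15) (ke xe2 ye40 ze37) (ke xe2 ye39 ze29) (ke xe6 ye6 ze0) (ke xe1 ye25 ze17) (ke xe6 ye6 ze8) (ke xe6 ye6 ze9) (ke xe1 ye25 ze18) (ke xe2 ye12 ze2) (ke xe6 ye6 ze15) (ke xe2 ye39 ze52) (ke xe6 ye6 ze20) (ke xe1 ye25 ze20) (ke xe2 ye52 ze47) (ke xe2 ye13 ze52) (ke xe6 ye6 ze28) (ke xe2 ye11 ze53) (ke xe2 ye39 ze45) (ke xe6 ye6 ze35) (ke xe6 ye6 ze36) (ke xe1 ye25 ze23) (ke xe4 ye35 ze12) (ke xe1 ye31 ze22) (ke xe6 ye6 ze43) (ke xe4 ye36 ze37) (ke xe2 ye12 ze12) (ke xe6 ye6 ze49) (ke xe6 ye6 ze50) (ke xe2 ye57 ze21) (ke xe6 ye6 ze52) (ke xe1 ye25 ze26) (ke xe1 ye25 ze27) (ke xe6 ye6 ze61) (ke xe1 ye25 ze29) (ke xe6 ye7 ze6) (ke xe1 ye25 ze31) (ke xe2 ye12 ze25) (ke xe6 ye7 ze9) (ke xe2 ye44 ze12) (ke xe3 ye10 ze26) (ke xe1 ye25 ze34) (ke xe4 ye52 ze57) (ke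 xe6 ye7 ze14) (ke xe1 ye25 ze35) (ke xe6 ye7 ze19) (ke xe1 ye25 ze37) (ke xe2 ye44 ze6) (ke xe4 ye6 ze48) (ke xe1 ye25 ze39) (ke xe2 ye12 ze50) (ke xe5 ye50 ze15) (ke xe1 ye25 ze43) (ke xe6 ye7 ze29) (ke xe3 ye5 ze1) (ke xe3 ye58 ze55) (ke xe3 ye58 ze52) (ke xe6 ye7 ze39) (ke xe1 ye25 ze46))
def f_e_3 : D2 → D3 → Pt := @D2.rec (fun _ => D3 → Pt) (@D3.rec (fun _ => Pt) (ke xe6 ye7 ze42) (ke xe6 ye7 ze44) (ke xe1 ye25 ze47) (ke xe1 ye25 ze48) (ke xe6 ye7 ze48) (ke xe4 ye56 ze57) (ke xe2 ye44 ze36) (ke xe3 ye13 ze45) (ke xe1 ye25 ze50) (ke xe6 ye7 ze53) (ke xe6 ye7 ze55) (ke xe6 ye7 ze57) (ke xe1 ye25 ze51) (ke xe5 ye58 ze9) (ke xe6 ye8 ze1) (ke xe6 ye8 ze5) (ke xe1 ye25 ze53) (ke xe6 ye8 ze10) (ke xe1 ye25 ze54) (ke xe5 ye54 ze32) (ke xe1 ye25 ze55) (ke xe6 ye8 ze16)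 (ke xe1 ye25 ze56) (ke xe6 ye8 ze22) (ke xe1 ye25 ze57) (ke xe6 ye8 ze27) (ke xe2 ye52 ze24) (ke xe6 ye8 ze29) (ke xe1 ye25 ze59) (ke xe1 ye25 ze61) (ke xe1 ye26 ze0) (ke xe1 ye26 ze1) (ke xe5 ye49 ze46) (ke xe5 ye59 ze14) (ke xe2 ye56 ze18) (ke xe2 ye56 ze28) (ke xe6 ye8 ze35) (ke xe3 ye27 ze5) (ke xe6 ye8 ze38) (ke xe1 ye26 ze8) (ke xe6 ye8 ze46) (ke xe6 ye8 ze50) (ke xe4 ye40 ze54) (ke xe6 ye8 ze51) (ke xe2 ye33 ze5) (ke xe4 ye40 ze53) (ke xe6 ye8 ze56) (ke xe6 ye2 ze45) (ke xe1 ye26 ze11) (ke xe6 ye8 ze60) (ke xe6 ye9 ze0) (ke xe1 ye26 ze12) (ke xe6 ye9 ze2) (ke xe6 ye9 ze4) (ke xe1 ye26 ze14) (ke xe2 ye33 ze3) (ke xe6 ye9 ze7) (ke xe4 ye40 ze61) (ke xe6 ye9 ze10) (ke xe1 ye26 ze18) (ke xe6 ye9 ze13) (ke xe2 ye10 ze1)) (@D3.rec (fun _ => Pt) (ke xe1 ye27 ze54) (ke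 xe1 ye26 ze20) (ke xe3 ye43 ze14) (ke xe3 ye1 ze3) (ke xe3 ye18 ze61) (ke xe1 ye48 ze24) (ke xe1 ye33 ze13) (ke xe6 ye9 ze21) (ke xe3 ye1 ze8) (ke xe6 ye9 ze24) (ke xe3 ye19 ze21) (ke xe3 ye19 ze38) (ke xe6 ye9 ze31) (ke xe1 ye26 ze33) (ke xe4 ye44 ze13) (ke xe3 ye19 ze45) (ke xe1 ye29 ze40) (ke xe3 ye14 ze55) (ke xe6 ye9 ze38) (ke xe3 ye9 ze33) (ke xe3 ye19 ze59) (ke xe3 ye20 ze11) (ke xe6 ye9 ze49) (ke xe1 ye26 ze39) (ke xe6 ye9 ze52) (ke xe1 ye26 ze41) (ke xe3 ye16 ze1) (ke xe1 ye26 ze44) (ke xe1 ye34 ze7) (ke xe3 ye1 ze29) (ke xe3 ye16 ze36) (ke xe3 ye2 ze26) (ke xe1 ye34 ze40) (ke xe1 ye51 ze37) (ke xe1 ye44 ze51) (ke xe6 ye9 ze39) (ke xe3 ye16 ze60) (ke xe4 ye18 ze10) (ke xe1 ye26 ze51) (ke xe1 ye26 ze52) (ke xe3 ye17 ze6) (ke xe3 ye17 ze25) (ke xe6 ye10 ze12)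 (ke xe6 ye10 ze13) (ke xe1 ye26 ze56) (ke xe6 ye10 ze19) (ke xe6 ye10 ze22) (ke xe6 ye9 ze53) (ke xe1 ye26 ze59) (ke xe6 ye10 ze23) (ke xe6 ye10 ze25) (ke xe6 ye10 ze26) (ke xe5 ye11 ze53) (ke xe1 ye26 ze60) (ke xe6 ye10 ze33) (ke xe6 ye10 ze34) (ke xe1 ye26 ze61) (ke xe6 ye10 ze38) (ke xe1 ye34 ze17) (ke xe6 ye10 ze44) (ke xe6 ye10 ze45) (ke xe1 ye27 ze1)) (@D3.rec (fun _ => Pt) (ke xe6 ye10 ze47) (ke xe6 ye10 ze48) (ke xe1 ye27 ze2) (ke xe6 ye10 ze52) (ke xe6 ye10 ze54) (ke xe6 ye10 ze56) (ke xe6 ye10 ze58) (ke xe1 ye27 ze3) (ke xe1 ye27 ze4) (ke xe6 ye11 ze5) (ke xe6 ye11 ze8) (ke xe6 ye11 ze10) (ke xe6 ye11 ze3) (ke xe6 ye11 ze12) (ke xe1 ye27 ze6) (ke xe6 ye11 ze18) (ke xe6 ye11 ze21) (ke xe1 ye27 ze7) (ke xe6 ye11 ze28) (ke xe6 ye11 ze31) (ke xe6 ye9 ze50) (ke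 xe1 ye27 ze8) (ke xe1 ye27 ze9) (ke xe6 ye10 ze20) (ke xe6 ye11 ze42) (ke xe1 ye27 ze12) (ke xe3 ye1 ze31) (ke xe4 ye17 ze9) (ke xe6 ye11 ze43) (ke xe1 ye27 ze13) (ke xe6 ye11 ze54) (ke xe6 ye11 ze58) (ke xe2 ye49 ze9) (ke xe4 ye40 ze2) (ke xe5 ye46 ze4) (ke xe5 ye46 ze8) (ke xe6 ye8 ze54) (ke xe6 ye12 ze7) (ke xe1 ye27 ze16) (ke xe6 ye12 ze10) (ke xe6 ye12 ze13) (ke xe2 ye49 ze15) (ke xe6 ye12 ze17) (ke xe3 ye43 ze15) (ke xe6 ye12 ze19) (ke xe6 ye12 ze22) (ke xe6 ye12 ze24) (ke xe1 ye27 ze19) (ke xe6 ye12 ze29) (ke xe6 ye12 ze32) (ke xe1 ye27 ze20) (ke xe3 ye19 ze35) (ke xe5 ye52 ze46) (ke xe1 ye27 ze21) (ke xe3 ye20 ze5) (ke xe4 ye41 ze17) (ke xe4 ye44 ze14) (ke xe3 ye5 ze58) (ke xe6 ye12 ze38) (ke xe1 ye27 ze23) (ke xe6 ye12 ze41) (ke xe6 ye12 ze43)) (@D3.rec (fun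 _ => Pt) (ke xe1 ye27 ze24) (ke xe2 ye49 ze46) (ke xe3 ye21 ze35) (ke xe3 ye6 ze5) (ke xe4 ye41 ze10) (ke xe1 ye37 ze15) (ke xe4 ye7 ze18) (ke xe4 ye41 ze16) (ke xe6 ye12 ze51) (ke xe4 ye42 ze32) (ke xe1 ye27 ze29) (ke xe6 ye12 ze55) (ke xe6 ye12 ze58) (ke xe1 ye27 ze31) (ke xe6 ye12 ze61) (ke xe4 ye39 ze16) (ke xe4 ye36 ze10) (ke xe1 ye27 ze32) (ke xe1 ye58 ze1) (ke xe4 ye52 ze53) (ke xe4 ye26 ze41) (ke xe1 ye55 ze33) (ke xe2 ye4 ze3) (ke xe6 ye13 ze15) (ke xe1 ye27 ze36) (ke xe5 ye13 ze55) (ke xe5 ye13 ze56) (ke xe1 ye27 ze38) (ke xe5 ye14 ze10) (ke xe2 ye27 ze18) (ke xe3 ye24 ze6) (ke xe1 ye56 ze18) (ke xe3 ye24 ze9) (ke xe6 ye13 ze30) (ke xe2 ye17 ze42) (ke xe1 ye59 ze29) (ke xe2 ye26 ze52) (ke xe6 ye13 ze33) (ke xe1 ye27 ze47) (ke xe6 ye13 ze36) (ke xe1 ye56 ze48)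 (ke xe1 ye58 ze2) (ke xe6 ye13 ze44) (ke xe6 ye13 ze47) (ke xe1 ye45 ze24) (ke xe3 ye39 ze29) (ke xe1 ye27 ze52) (ke xe2 ye51 ze36) (ke xe1 ye27 ze55) (ke xe6 ye13 ze56) (ke xe1 ye27 ze58) (ke xe6 ye13 ze59) (ke xe1 ye57 ze46) (ke xe6 ye14 ze5) (ke xe4 ye0 ze24) (ke xe1 ye27 ze60) (ke xe2 ye33 ze19) (ke xe6 ye14 ze9) (ke xe4 ye23 ze45) (ke xe4 ye2 ze18) (ke xe6 ye14 ze11) (ke xe1 ye28 ze2)) (@D3.rec (fun _ => Pt) (ke xe3 ye33 ze41) (ke xe6 ye14 ze16) (ke xe6 ye14 ze18) (ke xe1 ye28 ze3) (ke xe1 ye28 ze4) (ke xe6 ye14 ze24) (ke xe1 ye59 ze35) (ke xe2 ye44 ze47) (ke xe6 ye14 ze29) (ke xe1 ye28 ze6) (ke xe6 ye14 ze34) (ke xe1 ye28 ze7) (ke xe6 ye14 ze38) (ke xe1 ye28 ze8) (ke xe6 ye14 ze41) (ke xe1 ye28 ze9) (ke xe6 ye14 ze47) (ke xe6 ye14 ze48) (ke xe6 ye14 ze44) (ke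 xe2 ye49 ze39) (ke xe6 ye14 ze51) (ke xe6 ye14 ze54) (ke xe1 ye28 ze14) (ke xe4 ye42 ze42) (ke xe6 ye14 ze59) (ke xe1 ye28 ze12) (ke xe6 ye15 ze0) (ke xe6 ye15 ze1) (ke xe1 ye28 ze13) (ke xe6 ye15 ze3) (ke xe6 ye15 ze5) (ke xe6 ye14 ze57) (ke xe6 ye15 ze7) (ke xe6 ye15 ze8) (ke xe1 ye28 ze16) (ke xe6 ye15 ze10) (ke xe6 ye15 ze11) (ke xe1 ye28 ze18) (ke xe2 ye26 ze6) (ke xe4 ye27 ze6) (ke xe2 ye9 ze0) (ke xe2 ye33 ze16) (ke xe3 ye4 ze54) (ke xe6 ye15 ze18) (ke xe6 ye15 ze20) (ke xe1 ye28 ze25) (ke xe1 ye28 ze26) (ke xe6 ye15 ze28) (ke xe4 ye53 ze48) (ke xe5 ye51 ze47) (ke xe2 ye0 ze17) (ke xe5 ye51 ze49) (ke xe6 ye15 ze35) (ke xe1 ye28 ze31) (ke xe3 ye4 ze42) (ke xe5 ye49 ze8) (ke xe4 ye22 ze30) (ke xe6 ye15 ze42) (ke xe1 ye28 ze32) (ke xe6 ye15 ze47) (ke xe1 ye28 ze33)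 (ke xe6 ye15 ze51)) (@D3.rec (fun _ => Pt) (ke xe6 ye15 ze49) (ke xe2 ye59 ze57) (ke xe6 ye15 ze56) (ke xe6 ye15 ze58) (ke xe1 ye28 ze35) (ke xe6 ye15 ze60) (ke xe1 ye28 ze36) (ke xe6 ye16 ze4) (ke xe1 ye28 ze37) (ke xe6 ye16 ze9) (ke xe6 ye16 ze6) (ke xe4 ye42 ze56) (ke xe6 ye16 ze14) (ke xe6 ye16 ze17) (ke xe6 ye1 ze44) (ke xe2 ye16 ze61) (ke xe6 ye16 ze22) (ke xe6 ye16 ze23) (ke xe2 ye43 ze9) (ke xe1 ye28 ze40) (ke xe6 ye16 ze28) (ke xe6 ye16 ze30) (ke xe1 ye28 ze41) (ke xe6 ye16 ze35) (ke xe6 ye16 ze37) (ke xe6 ye1 ze60) (ke xe6 ye16 ze43) (ke xe6 ye16 ze45) (ke xe1 ye28 ze44) (ke xe6 ye16 ze49) (ke xe1 ye28 ze45) (ke xe5 ye42 ze10) (ke xe5 ye42 ze12) (ke xe6 ye16 ze56) (ke xe6 ye16 ze57) (ke xe1 ye28 ze47) (ke xe2 ye9 ze42) (ke xe1 ye28 ze49) (ke xe2 ye49 ze19)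 (ke xe6 ye17 ze1) (ke xe2 ye40 ze50) (ke xe1 ye28 ze51) (ke xe2 ye49 ze20) (ke xe6 ye17 ze9) (ke xe6 ye17 ze11) (ke xe1 ye28 ze55) (ke xe2 ye48 ze27) (ke xe1 ye28 ze56) (ke xe6 ye17 ze15) (ke xe1 ye28 ze60) (ke xe6 ye17 ze17) (ke xe1 ye28 ze61) (ke xe4 ye45 ze4) (ke xe6 ye17 ze21) (ke xe1 ye29 ze1) (ke xe4 ye47 ze60) (ke xe6 ye17 ze25) (ke xe1 ye29 ze3) (ke xe3 ye2 ze57) (ke xe6 ye17 ze35) (ke xe1 ye29 ze6) (ke xe2 ye17 ze27)) (@D3.rec (fun _ => Pt) (ke xe3 ye9 ze32) (ke xe6 ye17 ze39) (ke xe6 ye17 ze41) (ke xe6 ye17 ze36) (ke xe2 ye17 ze26) (ke xe3 ye3 ze3) (ke xe6 ye17 ze51) (ke xe3 ye9 ze46) (ke xe1 ye29 ze8) (ke xe6 ye17 ze16) (ke xe6 ye17 ze56) (ke xe1 ye29 ze11) (ke xe2 ye22 ze49) (ke xe6 ye17 ze58) (ke xe1 ye35 ze48) (ke xe1 ye29 ze12) (ke xe6 ye18 ze5) (ke xe1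 ye29 ze13) (ke xe6 ye18 ze6) (ke xe1 ye29 ze15) (ke xe6 ye18 ze10) (ke xe1 ye29 ze16) (ke xe6 ye18 ze11) (ke xe6 ye18 ze15) (ke xe1 ye29 ze18) (ke xe6 ye18 ze18) (ke xe3 ye45 ze34) (ke xe6 ye10 ze36) (ke xe6 ye18 ze27) (ke xe1 ye29 ze21) (ke xe3 ye45 ze21) (ke xe6 ye18 ze37) (ke xe1 ye29 ze25) (ke xe3 ye12 ze41) (ke xe3 ye8 ze58) (ke xe6 ye18 ze42) (ke xe6 ye18 ze44) (ke xe4 ye18 ze27) (ke xe6 ye18 ze39) (ke xe1 ye29 ze38) (ke xe3 ye8 ze32) (ke xe1 ye29 ze26) (ke xe6 ye18 ze51) (ke xe3 ye9 ze11) (ke xe1 ye29 ze27) (ke xe2 ye3 ze3) (ke xe1 ye29 ze30) (ke xe3 ye8 ze23) (ke xe6 ye18 ze53) (ke xe3 ye23 ze17) (ke xe1 ye29 ze32) (ke xe3 ye23 ze26) (ke xe4 ye7 ze16) (ke xe1 ye29 ze34) (ke xe3 ye59 ze17) (ke xe1 ye29 ze35) (ke xe6 ye19 ze3) (ke xe6 ye19 ze6) (ke xe3 ye12 ze52)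 (ke xe6 ye19 ze8) (ke xe3 ye13 ze5) (ke xe1 ye29 ze37)) (@D3.rec (fun _ => Pt) (ke xe1 ye29 ze41) (ke xe3 ye7 ze60) (ke xe6 ye19 ze11) (ke xe1 ye29 ze43) (ke xe3 ye8 ze1) (ke xe1 ye36 ze12) (ke xe1 ye34 ze37) (ke xe1 ye29 ze45) (ke xe3 ye12 ze12) (ke xe1 ye29 ze48) (ke xe3 ye12 ze13) (ke xe1 ye29 ze50) (ke xe6 ye19 ze28) (ke xe6 ye19 ze29) (ke xe1 ye29 ze51) (ke xe3 ye12 ze20) (ke xe3 ye12 ze23) (ke xe6 ye19 ze37) (ke xe6 ye19 ze38) (ke xe1 ye29 ze53) (ke xe3 ye12 ze33) (ke xe1 ye30 ze8) (ke xe1 ye29 ze57) (ke xe3 ye24 ze14) (ke xe2 ye19 ze52) (ke xe3 ye7 ze25) (ke xe3 ye7 ze26) (ke xe1 ye29 ze59) (ke xe6 ye19 ze51) (ke xe1 ye29 ze60) (ke xe1 ye32 ze29) (ke xe6 ye19 ze56) (ke xe6 ye19 ze59) (ke xe1 ye30 ze0) (ke xe6 ye20 ze0) (ke xe6 ye20 ze1) (ke xe1 ye30 ze1) (ke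 xe6 ye20 ze6) (ke xe4 ye43 ze4) (ke xe6 ye20 ze12) (ke xe6 ye20 ze13) (ke xe1 ye30 ze3) (ke xe6 ye20 ze17) (ke xe6 ye20 ze18) (ke xe1 ye30 ze4) (ke xe6 ye20 ze22) (ke xe6 ye20 ze23) (ke xe1 ye30 ze5) (ke xe6 ye20 ze30) (ke xe6 ye19 ze40) (ke xe6 ye20 ze26) (ke xe4 ye43 ze17) (ke xe6 ye20 ze40) (ke xe6 ye20 ze43) (ke xe4 ye10 ze57) (ke xe1 ye30 ze7) (ke xe6 ye19 ze46) (ke xe6 ye19 ze47) (ke xe2 ye5 ze49) (ke xe6 ye20 ze51) (ke xe3 ye7 ze1) (ke xe1 ye34 ze5)) (@D3.rec (fun _ => Pt) (ke xe4 ye43 ze24) (ke xe3 ye7 ze4) (ke xe1 ye33 ze17) (ke xe2 ye21 ze40) (ke xe3 ye8 ze4) (ke xe6 ye20 ze56) (ke xe3 ye8 ze6) (ke xe4 ye42 ze34) (ke xe1 ye30 ze16) (ke xe6 ye20 ze60) (ke xe1 ye30 ze17) (ke xe4 ye52 ze14) (ke xe3 ye17 ze14) (ke xe1 ye30 ze20) (ke xe3 ye18 ze44) (ke xe6 ye21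 ze9) (ke xe1 ye30 ze21) (ke xe3 ye28 ze42) (ke xe1 ye32 ze17) (ke xe3 ye22 ze44) (ke xe6 ye21 ze18) (ke xe4 ye43 ze28) (ke xe1 ye32 ze18) (ke xe3 ye6 ze47) (ke xe4 ye43 ze25) (ke xe3 ye45 ze36) (ke xe6 ye21 ze29) (ke xe6 ye21 ze33) (ke xe1 ye30 ze25) (ke xe6 ye21 ze39) (ke xe2 ye58 ze55) (ke xe1 ye30 ze26) (ke xe3 ye6 ze40) (ke xe4 ye42 ze23) (ke xe6 ye21 ze48) (ke xe1 ye30 ze27) (ke xe1 ye38 ze23) (ke xe3 ye23 ze27) (ke xe6 ye21 ze53) (ke xe3 ye19 ze9) (ke xe6 ye21 ze60) (ke xe1 ye30 ze29) (ke xe6 ye22 ze3) (ke xe4 ye34 ze44) (ke xe1 ye30 ze30) (ke xe6 ye22 ze9) (ke xe1 ye30 ze31) (ke xe4 ye13 ze17) (ke xe3 ye11 ze18) (ke xe3 ye11 ze23) (ke xe3 ye11 ze24) (ke xe3 ye10 ze54) (ke xe3 ye10 ze59) (ke xe3 ye20 ze4) (ke xe4 ye41 ze58) (ke xe1 ye30 ze50) (ke xe6 ye22 ze30)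 (ke xe4 ye18 ze18) (ke xe3 ye6 ze34) (ke xe3 ye28 ze44) (ke xe6 ye22 ze34) (ke xe6 ye10 ze5)) (@D3.rec (fun _ => Pt) (ke xe1 ye30 ze39) (ke xe6 ye22 ze42) (ke xe1 ye30 ze40) (ke xe2 ye6 ze48) (ke xe6 ye22 ze46) (ke xe6 ye22 ze48) (ke xe6 ye22 ze50) (ke xe6 ye22 ze55) (ke xe1 ye30 ze44) (ke xe6 ye23 ze0) (ke xe1 ye30 ze45) (ke xe3 ye6 ze43) (ke xe4 ye42 ze3) (ke xe1 ye31 ze58) (ke xe6 ye23 ze9) (ke xe6 ye23 ze14) (ke xe1 ye30 ze47) (ke xe6 ye23 ze21) (ke xe1 ye30 ze48) (ke xe6 ye23 ze24) (ke xe3 ye11 ze13) (ke xe3 ye11 ze48) (ke xe6 ye23 ze30) (ke xe6 ye23 ze35) (ke xe6 ye22 ze25) (ke xe6 ye23 ze40) (ke xe2 ye24 ze34) (ke xe1 ye30 ze51) (ke xe1 ye30 ze52) (ke xe4 ye18 ze19) (ke xe6 ye23 ze51) (ke xe1 ye33 ze56) (ke xe3 ye6 ze0) (ke xe3 ye1 ze19) (ke xe6 ye23 ze58) (ke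 xe1 ye30 ze57) (ke xe6 ye24 ze0) (ke xe1 ye30 ze58) (ke xe1 ye37 ze19) (ke xe6 ye24 ze2) (ke xe1 ye35 ze53) (ke xe6 ye24 ze4) (ke xe6 ye24 ze8) (ke xe1 ye31 ze0) (ke xe6 ye24 ze15) (ke xe1 ye31 ze1) (ke xe3 ye6 ze7) (ke xe4 ye48 ze3) (ke xe3 ye35 ze25) (ke xe1 ye31 ze3) (ke xe6 ye24 ze25) (ke xe6 ye24 ze26) (ke xe6 ye24 ze28) (ke xe1 ye31 ze4) (ke xe6 ye24 ze32) (ke xe6 ye24 ze34) (ke xe1 ye31 ze5) (ke xe6 ye24 ze38) (ke xe6 ye24 ze40) (ke xe1 ye31 ze7) (ke xe6 ye24 ze46) (ke xe6 ye24 ze43)) (@D3.rec (fun _ => Pt) (ke xe6 ye24 ze49) (ke xe6 ye24 ze52) (ke xe1 ye31 ze11) (ke xe4 ye24 ze7) (ke xe6 ye24 ze57) (ke xe6 ye24 ze59) (ke xe6 ye24 ze54) (ke xe6 ye25 ze0) (ke xe6 ye25 ze2) (ke xe4 ye2 ze2) (ke xe5 ye49 ze38) (ke xe2 ye16 ze48) (ke xe6 ye25 ze6) (ke xe6 ye25 ze9)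 (ke xe1 ye31 ze16) (ke xe6 ye25 ze13) (ke xe1 ye31 ze18) (ke xe6 ye25 ze17) (ke xe1 ye31 ze19) (ke xe6 ye25 ze19) (ke xe1 ye31 ze21) (ke xe6 ye7 ze49) (ke xe6 ye2 ze46) (ke xe1 ye31 ze24) (ke xe4 ye53 ze50) (ke xe2 ye26 ze23) (ke xe2 ye59 ze43) (ke xe6 ye25 ze35) (ke xe2 ye7 ze32) (ke xe2 ye50 ze39) (ke xe1 ye31 ze32) (ke xe6 ye25 ze38) (ke xe1 ye31 ze33) (ke xe1 ye31 ze35) (ke xe3 ye13 ze24) (ke xe3 ye45 ze27) (ke xe1 ye31 ze38) (ke xe4 ye11 ze16) (ke xe3 ye13 ze15) (ke xe3 ye19 ze37) (ke xe6 ye3 ze20) (ke xe6 ye22 ze5) (ke xe1 ye56 ze36) (ke xe6 ye25 ze52) (ke xe1 ye31 ze44) (ke xe2 ye50 ze27) (ke xe6 ye25 ze60) (ke xe1 ye31 ze48) (ke xe4 ye38 ze38) (ke xe6 ye26 ze0) (ke xe6 ye26 ze1) (ke xe1 ye31 ze50) (ke xe4 ye12 ze47) (ke xe1 ye31 ze59) (ke xe3 ye8 ze51) (ke xe4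 ye11 ze38) (ke xe1 ye38 ze31) (ke xe4 ye17 ze51) (ke xe2 ye6 ze28) (ke xe3 ye8 ze52) (ke xe4 ye43 ze26) (ke xe6 ye26 ze16)) (@D3.rec (fun _ => Pt) (ke xe4 ye43 ze29) (ke xe6 ye22 ze58) (ke xe6 ye23 ze4) (ke xe6 ye24 ze16) (ke xe6 ye26 ze9) (ke xe6 ye26 ze25) (ke xe1 ye31 ze60) (ke xe3 ye23 ze18) (ke xe1 ye48 ze14) (ke xe1 ye48 ze17) (ke xe4 ye41 ze45) (ke xe2 ye48 ze47) (ke xe6 ye23 ze6) (ke xe3 ye9 ze20) (ke xe4 ye43 ze44) (ke xe4 ye42 ze5) (ke xe6 ye26 ze47) (ke xe3 ye18 ze23) (ke xe3 ye8 ze48) (ke xe1 ye32 ze2) (ke xe6 ye26 ze58) (ke xe6 ye26 ze60) (ke xe1 ye32 ze3) (ke xe3 ye8 ze49) (ke xe3 ye8 ze50) (ke xe6 ye27 ze6) (ke xe6 ye27 ze8) (ke xe3 ye13 ze17) (ke xe1 ye32 ze6) (ke xe6 ye27 ze11) (ke xe6 ye27 ze14) (ke xe1 ye32 ze7) (ke xe6 ye27 ze16) (ke xe6 ye27 ze19)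 (ke xe1 ye32 ze19) (ke xe6 ye23 ze46) (ke xe6 ye23 ze43) (ke xe1 ye32 ze9) (ke xe3 ye28 ze26) (ke xe6 ye27 ze30) (ke xe6 ye27 ze32) (ke xe6 ye27 ze35) (ke xe6 ye27 ze40) (ke xe1 ye32 ze12) (ke xe6 ye27 ze47) (ke xe1 ye32 ze13) (ke xe2 ye18 ze1) (ke xe4 ye11 ze44) (ke xe3 ye9 ze21) (ke xe6 ye21 ze6) (ke xe6 ye27 ze52) (ke xe6 ye27 ze54) (ke xe6 ye21 ze16) (ke xe6 ye21 ze19) (ke xe6 ye28 ze2) (ke xe6 ye26 ze23) (ke xe6 ye27 ze22) (ke xe6 ye2 ze60) (ke xe6 ye10 ze50) (ke xe1 ye32 ze24) (ke xe3 ye28 ze38) (ke xe6 ye19 ze49)) (@D3.rec (fun _ => Pt) (ke xe1 ye35 ze14) (ke xe1 ye32 ze26) (ke xe1 ye36 ze24) (ke xe5 ye56 ze48) (ke xe1 ye32 ze32) (ke xe6 ye28 ze16) (ke xe1 ye32 ze34) (ke xe5 ye4 ze45) (ke xe6 ye28 ze21) (ke xe6 ye28 ze24) (ke xe1 ye32 ze35) (ke xe6 ye28 ze29)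 (ke xe3 ye7 ze8) (ke xe3 ye7 ze10) (ke xe6 ye28 ze31) (ke xe6 ye28 ze33) (ke xe1 ye32 ze37) (ke xe6 ye28 ze41) (ke xe6 ye28 ze42) (ke xe1 ye32 ze38) (ke xe3 ye7 ze15) (ke xe6 ye28 ze49) (ke xe2 ye19 ze6) (ke xe3 ye7 ze16) (ke xe6 ye28 ze55) (ke xe6 ye28 ze56) (ke xe1 ye32 ze40) (ke xe6 ye28 ze61) (ke xe6 ye29 ze0) (ke xe1 ye32 ze41) (ke xe6 ye29 ze5) (ke xe6 ye29 ze9) (ke xe6 ye29 ze12) (ke xe3 ye7 ze20) (ke xe1 ye32 ze44) (ke xe6 ye29 ze17) (ke xe1 ye32 ze45) (ke xe6 ye29 ze23) (ke xe1 ye32 ze46) (ke xe6 ye29 ze30) (ke xe6 ye29 ze33) (ke xe3 ye6 ze33) (ke xe4 ye43 ze50) (ke xe1 ye32 ze48) (ke xe1 ye32 ze54) (ke xe1 ye32 ze49) (ke xe6 ye29 ze35) (ke xe1 ye32 ze51) (ke xe6 ye29 ze39) (ke xe1 ye32 ze52) (ke xe6 ye29 ze31) (ke xe6 ye29 ze49) (ke xe3 ye6 ze58) (ke xe4 ye42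 ze2) (ke xe4 ye43 ze52) (ke xe4 ye42 ze22) (ke xe1 ye32 ze55) (ke xe6 ye29 ze53) (ke xe6 ye29 ze56) (ke xe6 ye29 ze60) (ke xe1 ye32 ze57) (ke xe6 ye30 ze4)) (@D3.rec (fun _ => Pt) (ke xe1 ye32 ze58) (ke xe1 ye38 ze25) (ke xe1 ye37 ze39) (ke xe5 ye0 ze15) (ke xe1 ye32 ze59) (ke xe3 ye6 ze60) (ke xe4 ye43 ze53) (ke xe1 ye47 ze59) (ke xe6 ye30 ze9) (ke xe6 ye30 ze12) (ke xe2 ye18 ze20) (ke xe1 ye32 ze61) (ke xe6 ye30 ze23) (ke xe2 ye42 ze9) (ke xe1 ye33 ze0) (ke xe3 ye10 ze38) (ke xe2 ye18 ze21) (ke xe3 ye11 ze27) (ke xe1 ye33 ze4) (ke xe1 ye33 ze5) (ke xe1 ye33 ze6) (ke xe6 ye30 ze33) (ke xe6 ye30 ze35) (ke xe1 ye33 ze7) (ke xe3 ye10 ze34) (ke xe1 ye33 ze9) (ke xe6 ye30 ze40) (ke xe6 ye30 ze41) (ke xe1 ye33 ze10) (ke xe2 ye21 ze39) (ke xe1 ye38 ze32) (ke xe1 ye33 ze19)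 (ke xe6 ye30 ze43) (ke xe6 ye30 ze47) (ke xe6 ye30 ze49) (ke xe6 ye30 ze51) (ke xe6 ye30 ze54) (ke xe1 ye33 ze21) (ke xe4 ye45 ze33) (ke xe1 ye33 ze24) (ke xe1 ye36 ze52) (ke xe4 ye48 ze15) (ke xe6 ye30 ze60) (ke xe6 ye31 ze7) (ke xe1 ye33 ze25) (ke xe3 ye0 ze7) (ke xe5 ye43 ze61) (ke xe1 ye33 ze26) (ke xe6 ye31 ze12) (ke xe1 ye33 ze28) (ke xe6 ye31 ze17) (ke xe6 ye12 ze25) (ke xe1 ye33 ze30) (ke xe1 ye50 ze20) (ke xe6 ye30 ze7) (ke xe6 ye31 ze24) (ke xe6 ye31 ze27) (ke xe1 ye33 ze31) (ke xe6 ye31 ze31) (ke xe1 ye33 ze33) (ke xe6 ye1 ze14) (ke xe6 ye1 ze3)) (@D3.rec (fun _ => Pt) (ke xe1 ye33 ze34) (ke xe6 ye31 ze42) (ke xe3 ye22 ze51) (ke xe3 ye43 ze20) (ke xe6 ye31 ze49) (ke xe6 ye31 ze50) (ke xe1 ye33 ze36) (ke xe6 ye31 ze56) (ke xe6 ye31 ze57) (ke xe1 ye33 ze37)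 (ke xe6 ye31 ze61) (ke xe2 ye26 ze39) (ke xe1 ye33 ze38) (ke xe6 ye32 ze7) (ke xe6 ye32 ze9) (ke xe6 ye32 ze3) (ke xe1 ye39 ze25) (ke xe6 ye32 ze15) (ke xe6 ye32 ze18) (ke xe6 ye32 ze21) (ke xe1 ye33 ze40) (ke xe6 ye32 ze26) (ke xe3 ye18 ze59) (ke xe1 ye33 ze41) (ke xe6 ye32 ze31) (ke xe2 ye21 ze50) (ke xe1 ye33 ze43) (ke xe2 ye57 ze39) (ke xe1 ye33 ze44) (ke xe4 ye41 ze9) (ke xe6 ye32 ze37) (ke xe2 ye21 ze54) (ke xe1 ye33 ze46) (ke xe2 ye16 ze27) (ke xe2 ye21 ze55) (ke xe1 ye33 ze49) (ke xe6 ye32 ze45) (ke xe4 ye47 ze13) (ke xe1 ye33 ze50) (ke xe6 ye32 ze50) (ke xe1 ye33 ze52) (ke xe6 ye32 ze51) (ke xe6 ye32 ze56) (ke xe6 ye32 ze57) (ke xe1 ye33 ze54) (ke xe1 ye33 ze57) (ke xe6 ye33 ze0) (ke xe6 ye33 ze2) (ke xe6 ye32 ze60) (ke xe4 ye40 ze24) (ke xe6 ye33 ze10) (ke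 xe6 ye32 ze29) (ke xe2 ye20 ze35) (ke xe1 ye33 ze59) (ke xe4 ye40 ze21) (ke xe3 ye1 ze17) (ke xe4 ye41 ze1) (ke xe6 ye33 ze21) (ke xe1 ye33 ze61) (ke xe6 ye33 ze24) (ke xe6 ye33 ze25) (ke xe1 ye34 ze0)) (@D3.rec (fun _ => Pt) (ke xe6 ye33 ze29) (ke xe1 ye34 ze2) (ke xe1 ye34 ze3) (ke xe6 ye33 ze33) (ke xe1 ye34 ze4) (ke xe6 ye33 ze38) (ke xe1 ye34 ze10) (ke xe6 ye33 ze41) (ke xe1 ye34 ze13) (ke xe6 ye33 ze45) (ke xe1 ye34 ze47) (ke xe1 ye34 ze15) (ke xe1 ye34 ze57) (ke xe6 ye33 ze49) (ke xe6 ye33 ze54) (ke xe1 ye34 ze16) (ke xe6 ye33 ze58) (ke xe6 ye33 ze59) (ke xe1 ye34 ze18) (ke xe1 ye34 ze21) (ke xe6 ye33 ze61) (ke xe1 ye34 ze23) (ke xe1 ye34 ze24) (ke xe6 ye34 ze8) (ke xe1 ye34 ze25) (ke xe6 ye34 ze11) (ke xe3 ye28 ze53) (ke xe6 ye34 ze15) (ke xe6 ye34 ze16) (ke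 xe1 ye34 ze29) (ke xe6 ye34 ze19) (ke xe6 ye34 ze20) (ke xe1 ye34 ze30) (ke xe6 ye34 ze24) (ke xe6 ye34 ze25) (ke xe1 ye34 ze31) (ke xe6 ye34 ze30) (ke xe6 ye34 ze31) (ke xe1 ye34 ze32) (ke xe6 ye34 ze37) (ke xe6 ye34 ze40) (ke xe6 ye34 ze34) (ke xe6 ye34 ze46) (ke xe3 ye16 ze34) (ke xe1 ye34 ze34) (ke xe1 ye34 ze36) (ke xe6 ye19 ze18) (ke xe5 ye11 ze51) (ke xe3 ye37 ze50) (ke xe6 ye34 ze56) (ke xe6 ye34 ze58) (ke xe6 ye34 ze60) (ke xe6 ye34 ze61) (ke xe6 ye35 ze3) (ke xe1 ye34 ze41) (ke xe1 ye34 ze42) (ke xe6 ye35 ze9) (ke xe6 ye35 ze12) (ke xe1 ye34 ze44) (ke xe6 ye35 ze16) (ke xe6 ye35 ze17) (ke xe1 ye34 ze45)) (@D3.rec (fun _ => Pt) (ke xe4 ye47 ze56) (ke xe3 ye1 ze26) (ke xe1 ye35 ze17) (ke xe6 ye33 ze46) (ke xe6 ye35 ze27) (ke xe6 ye35 ze28) (ke xe1 ye34 ze48)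 (ke xe1 ye35 ze52) (ke xe1 ye35 ze7) (ke xe1 ye34 ze50) (ke xe6 ye35 ze39) (ke xe6 ye35 ze40) (ke xe1 ye34 ze51) (ke xe6 ye35 ze45) (ke xe6 ye35 ze49) (ke xe6 ye35 ze51) (ke xe6 ye35 ze54) (ke xe1 ye34 ze52) (ke xe1 ye34 ze53) (ke xe5 ye4 ze5) (ke xe6 ye36 ze4) (ke xe6 ye35 ze61) (ke xe6 ye33 ze43) (ke xe3 ye18 ze33) (ke xe3 ye18 ze38) (ke xe3 ye18 ze40) (ke xe6 ye36 ze15) (ke xe1 ye34 ze56) (ke xe6 ye36 ze17) (ke xe1 ye34 ze58) (ke xe6 ye36 ze21) (ke xe6 ye36 ze25) (ke xe6 ye36 ze26) (ke xe1 ye34 ze59) (ke xe3 ye15 ze43) (ke xe1 ye35 ze5) (ke xe3 ye1 ze30) (ke xe1 ye35 ze47) (ke xe5 ye48 ze49) (ke xe1 ye34 ze61) (ke xe6 ye36 ze42) (ke xe1 ye35 ze0) (ke xe6 ye36 ze45) (ke xe6 ye36 ze46) (ke xe6 ye36 ze47) (ke xe1 ye35 ze1) (ke xe6 ye36 ze53) (ke xe6 ye36 ze55) (ke xe1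 ye35 ze2) (ke xe6 ye29 ze59) (ke xe6 ye36 ze27) (ke xe6 ye36 ze58) (ke xe6 ye35 ze31) (ke xe6 ye37 ze9) (ke xe6 ye37 ze12) (ke xe1 ye35 ze4) (ke xe6 ye36 ze32) (ke xe4 ye17 ze7) (ke xe3 ye17 ze21) (ke xe6 ye19 ze16) (ke xe3 ye1 ze36) (ke xe4 ye11 ze14)) (@D3.rec (fun _ => Pt) (ke xe6 ye37 ze24) (ke xe1 ye35 ze8) (ke xe6 ye37 ze29) (ke xe6 ye37 ze30) (ke xe1 ye35 ze9) (ke xe6 ye30 ze27) (ke xe3 ye1 ze40) (ke xe4 ye11 ze18) (ke xe6 ye37 ze36) (ke xe6 ye37 ze37) (ke xe6 ye37 ze39) (ke xe6 ye37 ze42) (ke xe1 ye35 ze11) (ke xe1 ye35 ze12) (ke xe3 ye8 ze12) (ke xe6 ye37 ze54) (ke xe6 ye37 ze49) (ke xe6 ye35 ze21) (ke xe6 ye18 ze3) (ke xe6 ye9 ze58) (ke xe6 ye38 ze3) (ke xe3 ye16 ze58) (ke xe1 ye35 ze15) (ke xe4 ye17 ze30) (ke xe6 ye36 ze31) (ke xe3 ye1 ze41) (ke xe2 ye2 ze42)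 (ke xe6 ye38 ze16) (ke xe6 ye38 ze20) (ke xe6 ye38 ze21) (ke xe6 ye38 ze22) (ke xe6 ye38 ze24) (ke xe1 ye35 ze18) (ke xe1 ye35 ze19) (ke xe6 ye38 ze31) (ke xe6 ye21 ze12) (ke xe6 ye38 ze38) (ke xe1 ye35 ze21) (ke xe1 ye35 ze22) (ke xe6 ye38 ze45) (ke xe6 ye35 ze36) (ke xe6 ye38 ze54) (ke xe6 ye38 ze55) (ke xe6 ye38 ze58) (ke xe1 ye35 ze24) (ke xe6 ye39 ze1) (ke xe6 ye39 ze2) (ke xe1 ye35 ze25) (ke xe6 ye39 ze6) (ke xe1 ye35 ze26) (ke xe6 ye39 ze13) (ke xe6 ye39 ze15) (ke xe6 ye39 ze17) (ke xe1 ye35 ze27) (ke xe6 ye39 ze25) (ke xe6 ye39 ze29) (ke xe6 ye39 ze20) (ke xe4 ye38 ze14) (ke xe6 ye39 ze35) (ke xe1 ye35 ze29) (ke xe1 ye35 ze30) (ke xe6 ye39 ze46)) (@D3.rec (fun _ => Pt) (ke xe1 ye35 ze31) (ke xe6 ye10 ze43) (ke xe6 ye39 ze55) (ke xe1 ye35 ze36) (ke xe6 ye39 ze60)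 (ke xe1 ye35 ze33) (ke xe6 ye40 ze6) (ke xe3 ye22 ze42) (ke xe6 ye40 ze11) (ke xe1 ye35 ze34) (ke xe6 ye40 ze16) (ke xe6 ye21 ze35) (ke xe6 ye40 ze19) (ke xe1 ye35 ze35) (ke xe6 ye40 ze25) (ke xe6 ye40 ze28) (ke xe6 ye39 ze58) (ke xe6 ye40 ze34) (ke xe1 ye35 ze37) (ke xe6 ye21 ze22) (ke xe3 ye22 ze38) (ke xe6 ye40 ze1) (ke xe1 ye35 ze40) (ke xe3 ye11 ze17) (ke xe6 ye40 ze43) (ke xe6 ye40 ze52) (ke xe2 ye19 ze58) (ke xe2 ye22 ze9) (ke xe6 ye40 ze57) (ke xe1 ye35 ze41) (ke xe6 ye30 ze28) (ke xe6 ye40 ze59) (ke xe6 ye41 ze0) (ke xe3 ye16 ze23) (ke xe1 ye35 ze42) (ke xe6 ye41 ze5) (ke xe6 ye41 ze7) (ke xe1 ye35 ze43) (ke xe3 ye16 ze24) (ke xe6 ye36 ze18) (ke xe3 ye16 ze25) (ke xe6 ye11 ze36) (ke xe6 ye36 ze29) (ke xe4 ye17 ze32) (ke xe3 ye8 ze14) (ke xe6 ye18 ze2) (ke xe6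 ye41 ze22) (ke xe6 ye37 ze61) (ke xe1 ye35 ze57) (ke xe6 ye33 ze47) (ke xe6 ye35 ze33) (ke xe4 ye16 ze53) (ke xe4 ye18 ze2) (ke xe6 ye41 ze39) (ke xe6 ye41 ze42) (ke xe6 ye41 ze27) (ke xe6 ye41 ze50) (ke xe6 ye41 ze53) (ke xe1 ye35 ze58) (ke xe3 ye14 ze22) (ke xe4 ye45 ze31) (ke xe3 ye1 ze4)) (@D3.rec (fun _ => Pt) (ke xe4 ye47 ze24) (ke xe6 ye42 ze5) (ke xe1 ye35 ze60) (ke xe5 ye14 ze1) (ke xe1 ye35 ze61) (ke xe4 ye59 ze56) (ke xe6 ye42 ze13) (ke xe1 ye36 ze0) (ke xe6 ye42 ze21) (ke xe3 ye8 ze39) (ke xe6 ye42 ze16) (ke xe4 ye48 ze20) (ke xe6 ye41 ze1) (ke xe6 ye42 ze29) (ke xe6 ye42 ze33) (ke xe1 ye36 ze2) (ke xe1 ye36 ze3) (ke xe6 ye42 ze34) (ke xe5 ye39 ze56) (ke xe6 ye42 ze41) (ke xe6 ye42 ze43) (ke xe3 ye1 ze10) (ke xe4 ye52 ze30) (ke xe6 ye42 ze49) (ke xe6 ye42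 ze51) (ke xe1 ye36 ze6) (ke xe4 ye42 ze33) (ke xe6 ye26 ze8) (ke xe1 ye36 ze7) (ke xe6 ye23 ze41) (ke xe1 ye36 ze9) (ke xe3 ye24 ze18) (ke xe6 ye42 ze55) (ke xe1 ye37 ze13) (ke xe3 ye20 ze3) (ke xe3 ye2 ze51) (ke xe4 ye43 ze32) (ke xe3 ye10 ze39) (ke xe3 ye1 ze11) (ke xe6 ye43 ze7) (ke xe6 ye43 ze9) (ke xe1 ye36 ze14) (ke xe6 ye43 ze13) (ke xe6 ye43 ze14) (ke xe1 ye36 ze15) (ke xe3 ye1 ze15) (ke xe6 ye43 ze21) (ke xe1 ye36 ze17) (ke xe1 ye36 ze18) (ke xe6 ye43 ze24) (ke xe1 ye36 ze19) (ke xe4 ye44 ze34) (ke xe4 ye47 ze16) (ke xe6 ye43 ze27) (ke xe4 ye47 ze53) (ke xe4 ye45 ze25) (ke xe6 ye43 ze40) (ke xe6 ye43 ze43) (ke xe4 ye45 ze51) (ke xe3 ye1 ze20) (ke xe6 ye43 ze51) (ke xe6 ye24 ze18)) (@D3.rec (fun _ => Pt) (ke xe1 ye37 ze21) (ke xe6 ye28 ze10) (ke xe4 ye49 ze42)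 (ke xe3 ye19 ze34) (ke xe3 ye8 ze53) (ke xe3 ye2 ze54) (ke xe1 ye36 ze28) (ke xe4 ye47 ze55) (ke xe1 ye36 ze29) (ke xe6 ye43 ze61) (ke xe6 ye44 ze2) (ke xe3 ye1 ze21) (ke xe6 ye44 ze10) (ke xe6 ye44 ze12) (ke xe1 ye36 ze31) (ke xe6 ye44 ze14) (ke xe6 ye44 ze15) (ke xe1 ye36 ze32) (ke xe6 ye44 ze20) (ke xe6 ye44 ze22) (ke xe6 ye44 ze25) (ke xe1 ye36 ze33) (ke xe6 ye44 ze31) (ke xe4 ye37 ze54) (ke xe6 ye44 ze33) (ke xe6 ye44 ze35) (ke xe1 ye36 ze35) (ke xe6 ye44 ze41) (ke xe4 ye41 ze31) (ke xe4 ye37 ze60) (ke xe6 ye44 ze46) (ke xe6 ye44 ze50) (ke xe4 ye37 ze45) (ke xe5 ye7 ze22) (ke xe5 ye3 ze27) (ke xe6 ye44 ze59) (ke xe1 ye36 ze38) (ke xe6 ye45 ze0) (ke xe6 ye45 ze3) (ke xe5 ye30 ze51) (ke xe1 ye36 ze39) (ke xe4 ye38 ze27) (ke xe4 ye38 ze61) (ke xe6 ye45 ze15) (ke xe6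 ye45 ze17) (ke xe6 ye45 ze20) (ke xe1 ye36 ze42) (ke xe6 ye45 ze27) (ke xe6 ye3 ze39) (ke xe6 ye45 ze33) (ke xe1 ye36 ze43) (ke xe6 ye45 ze36) (ke xe4 ye49 ze28) (ke xe4 ye39 ze8) (ke xe6 ye45 ze43) (ke xe6 ye45 ze45) (ke xe6 ye45 ze49) (ke xe1 ye36 ze45) (ke xe6 ye45 ze53) (ke xe1 ye36 ze46) (ke xe4 ye39 ze6) (ke xe3 ye24 ze13)) (@D3.rec (fun _ => Pt) (ke xe2 ye42 ze41) (ke xe6 ye45 ze58) (ke xe5 ye57 ze18) (ke xe1 ye36 ze48) (ke xe6 ye46 ze2) (ke xe6 ye22 ze14) (ke xe1 ye36 ze49) (ke xe2 ye25 ze40) (ke xe6 ye22 ze20) (ke xe4 ye39 ze28) (ke xe6 ye46 ze13) (ke xe6 ye46 ze14) (ke xe1 ye36 ze51) (ke xe6 ye30 ze56) (ke xe4 ye47 ze15) (ke xe6 ye32 ze19) (ke xe6 ye42 ze7) (ke xe1 ye36 ze54) (ke xe1 ye47 ze8) (ke xe2 ye22 ze5) (ke xe6 ye46 ze23) (ke xe1 ye36 ze55) (ke xe4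 ye48 ze14) (ke xe3 ye59 ze52) (ke xe6 ye46 ze31) (ke xe6 ye46 ze32) (ke xe1 ye36 ze58) (ke xe6 ye46 ze37) (ke xe5 ye52 ze32) (ke xe6 ye46 ze40) (ke xe1 ye36 ze59) (ke xe2 ye18 ze4) (ke xe6 ye46 ze43) (ke xe2 ye18 ze7) (ke xe2 ye16 ze21) (ke xe3 ye3 ze2) (ke xe6 ye46 ze54) (ke xe6 ye46 ze55) (ke xe1 ye37 ze1) (ke xe4 ye46 ze9) (ke xe6 ye46 ze60) (ke xe1 ye37 ze5) (ke xe4 ye46 ze6) (ke xe6 ye47 ze5) (ke xe6 ye47 ze9) (ke xe1 ye37 ze6) (ke xe2 ye22 ze37) (ke xe4 ye47 ze45) (ke xe5 ye0 ze17) (ke xe6 ye47 ze19) (ke xe6 ye47 ze23) (ke xe1 ye37 ze9) (ke xe6 ye47 ze29) (ke xe1 ye37 ze10) (ke xe6 ye47 ze30) (ke xe2 ye22 ze41) (ke xe2 ye22 ze39) (ke xe6 ye47 ze36) (ke xe6 ye12 ze46) (ke xe6 ye47 ze39) (ke xe6 ye47 ze42) (ke xe1 ye37 ze16)) (@D3.rec (fun _ => Pt) (ke xe4 ye50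 ze21) (ke xe6 ye47 ze44) (ke xe1 ye37 ze17) (ke xe5 ye4 ze19) (ke xe6 ye47 ze47) (ke xe6 ye47 ze48) (ke xe1 ye37 ze20) (ke xe4 ye47 ze29) (ke xe6 ye43 ze54) (ke xe6 ye47 ze56) (ke xe6 ye26 ze38) (ke xe1 ye37 ze32) (ke xe6 ye17 ze59) (ke xe6 ye48 ze3) (ke xe6 ye48 ze4) (ke xe4 ye48 ze27) (ke xe4 ye48 ze38) (ke xe6 ye48 ze14) (ke xe6 ye48 ze19) (ke xe1 ye37 ze25) (ke xe6 ye48 ze25) (ke xe1 ye37 ze26) (ke xe4 ye50 ze4) (ke xe6 ye48 ze31) (ke xe1 ye37 ze28) (ke xe6 ye48 ze38) (ke xe1 ye37 ze29) (ke xe6 ye48 ze43) (ke xe6 ye47 ze49) (ke xe2 ye21 ze61) (ke xe6 ye48 ze49) (ke xe1 ye37 ze31) (ke xe6 ye48 ze55) (ke xe6 ye48 ze59) (ke xe6 ye47 ze61) (ke xe1 ye37 ze33) (ke xe6 ye49 ze1) (ke xe1 ye37 ze34) (ke xe3 ye18 ze20) (ke xe1 ye37 ze35) (ke xe6 ye49 ze4) (ke xe1 ye37 ze36)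 (ke xe3 ye18 ze7) (ke xe6 ye29 ze58) (ke xe3 ye8 ze19) (ke xe6 ye29 ze13) (ke xe4 ye47 ze46) (ke xe3 ye22 ze47) (ke xe4 ye47 ze61) (ke xe4 ye48 ze9) (ke xe1 ye37 ze46) (ke xe3 ye14 ze2) (ke xe4 ye48 ze17) (ke xe1 ye37 ze48) (ke xe6 ye49 ze20) (ke xe1 ye37 ze50) (ke xe6 ye49 ze24) (ke xe1 ye46 ze55) (ke xe2 ye17 ze20) (ke xe6 ye49 ze28) (ke xe6 ye49 ze29) (ke xe1 ye37 ze54)) (@D3.rec (fun _ => Pt) (ke xe6 ye49 ze31) (ke xe6 ye49 ze33) (ke xe1 ye37 ze57) (ke xe6 ye49 ze34) (ke xe1 ye37 ze58) (ke xe4 ye50 ze7) (ke xe6 ye49 ze40) (ke xe1 ye37 ze59) (ke xe3 ye23 ze53) (ke xe6 ye30 ze13) (ke xe6 ye49 ze18) (ke xe1 ye37 ze61) (ke xe6 ye49 ze47) (ke xe6 ye46 ze19) (ke xe6 ye49 ze49) (ke xe1 ye38 ze0) (ke xe6 ye30 ze8) (ke xe3 ye6 ze49) (ke xe3 ye11 ze7) (ke xe6 ye49 ze59) (ke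 xe6 ye49 ze61) (ke xe1 ye38 ze2) (ke xe6 ye50 ze5) (ke xe6 ye50 ze6) (ke xe1 ye38 ze3) (ke xe3 ye42 ze8) (ke xe3 ye6 ze51) (ke xe3 ye8 ze37) (ke xe5 ye50 ze39) (ke xe5 ye50 ze35) (ke xe1 ye38 ze5) (ke xe6 ye50 ze20) (ke xe6 ye50 ze21) (ke xe1 ye38 ze6) (ke xe6 ye50 ze24) (ke xe6 ye50 ze25) (ke xe6 ye50 ze27) (ke xe6 ye50 ze30) (ke xe1 ye38 ze7) (ke xe6 ye50 ze35) (ke xe6 ye50 ze36) (ke xe1 ye38 ze8) (ke xe6 ye0 ze56) (ke xe6 ye50 ze43) (ke xe6 ye50 ze39) (ke xe4 ye48 ze18) (ke xe1 ye38 ze10) (ke xe6 ye40 ze17) (ke xe2 ye30 ze48) (ke xe6 ye50 ze46) (ke xe1 ye38 ze11) (ke xe6 ye50 ze49) (ke xe6 ye50 ze51) (ke xe3 ye23 ze8) (ke xe1 ye38 ze12) (ke xe1 ye38 ze13) (ke xe6 ye50 ze54) (ke xe1 ye46 ze56) (ke xe6 ye49 ze35) (ke xe6 ye50 ze59) (ke xe6 ye50 ze61) (ke xe1 ye38 ze17))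 (@D3.rec (fun _ => Pt) (ke xe6 ye51 ze0) (ke xe6 ye51 ze3) (ke xe1 ye38 ze18) (ke xe1 ye38 ze19) (ke xe6 ye51 ze9) (ke xe6 ye51 ze13) (ke xe3 ye3 ze30) (ke xe2 ye25 ze57) (ke xe6 ye51 ze16) (ke xe3 ye3 ze32) (ke xe2 ye19 ze20) (ke xe1 ye38 ze22) (ke xe6 ye51 ze19) (ke xe3 ye20 ze61) (ke xe3 ye7 ze23) (ke xe2 ye3 ze55) (ke xe1 ye38 ze29) (ke xe1 ye54 ze15) (ke xe3 ye19 ze31) (ke xe1 ye38 ze33) (ke xe1 ye39 ze42) (ke xe6 ye12 ze53) (ke xe1 ye54 ze16) (ke xe3 ye26 ze45) (ke xe1 ye38 ze37) (ke xe6 ye51 ze28) (ke xe3 ye26 ze59) (ke xe6 ye51 ze33) (ke xe6 ye51 ze34) (ke xe1 ye38 ze40) (ke xe3 ye39 ze11) (ke xe1 ye54 ze20) (ke xe3 ye31 ze12) (ke xe6 ye51 ze40) (ke xe6 ye51 ze42) (ke xe6 ye51 ze43) (ke xe1 ye38 ze42) (ke xe1 ye38 ze44) (ke xe6 ye51 ze47) (ke xe6 ye51 ze48)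 (ke xe1 ye38 ze45) (ke xe6 ye51 ze53) (ke xe1 ye38 ze47) (ke xe6 ye51 ze56) (ke xe1 ye38 ze48) (ke xe6 ye51 ze60) (ke xe6 ye52 ze1) (ke xe6 ye51 ze57) (ke xe3 ye30 ze11) (ke xe6 ye52 ze7) (ke xe6 ye52 ze11) (ke xe3 ye54 ze0) (ke xe1 ye38 ze50) (ke xe6 ye52 ze15) (ke xe6 ye52 ze18) (ke xe3 ye31 ze10) (ke xe1 ye38 ze51) (ke xe6 ye52 ze21) (ke xe1 ye51 ze31) (ke xe1 ye38 ze53) (ke xe3 ye49 ze47) (ke xe1 ye42 ze12)) (@D3.rec (fun _ => Pt) (ke xe1 ye38 ze58) (ke xe6 ye22 ze15) (ke xe3 ye43 ze45) (ke xe3 ye25 ze3) (ke xe3 ye37 ze59) (ke xe1 ye48 ze16) (ke xe3 ye35 ze7) (ke xe3 ye25 ze7) (ke xe3 ye38 ze48) (ke xe3 ye39 ze4) (ke xe3 ye50 ze55) (ke xe6 ye52 ze39) (ke xe1 ye53 ze58) (ke xe6 ye52 ze43) (ke xe1 ye39 ze9) (ke xe1 ye39 ze11) (ke xe1 ye54 ze39) (ke xe1 ye54 ze40)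 (ke xe3 ye54 ze56) (ke xe3 ye25 ze50) (ke xe3 ye37 ze52) (ke xe1 ye41 ze22) (ke xe6 ye52 ze58) (ke xe3 ye55 ze53) (ke xe1 ye39 ze19) (ke xe1 ye39 ze20) (ke xe6 ye53 ze1) (ke xe6 ye53 ze3) (ke xe1 ye44 ze0) (ke xe4 ye48 ze21) (ke xe4 ye48 ze22) (ke xe2 ye55 ze6) (ke xe1 ye39 ze24) (ke xe5 ye52 ze22) (ke xe6 ye53 ze8) (ke xe6 ye53 ze9) (ke xe1 ye39 ze26) (ke xe2 ye55 ze4) (ke xe1 ye39 ze27) (ke xe6 ye53 ze13) (ke xe6 ye53 ze15) (ke xe6 ye53 ze16) (ke xe6 ye53 ze17) (ke xe1 ye39 ze28) (ke xe6 ye53 ze23) (ke xe2 ye56 ze51) (ke xe1 ye39 ze29) (ke xe6 ye53 ze30) (ke xe6 ye53 ze32) (ke xe6 ye53 ze26) (ke xe3 ye25 ze19) (ke xe6 ye53 ze39) (ke xe3 ye40 ze18) (ke xe1 ye39 ze31) (ke xe1 ye39 ze33) (ke xe1 ye39 ze34) (ke xe1 ye39 ze36) (ke xe6 ye53 ze48) (ke xe6 ye53 ze50) (ke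 xe1 ye39 ze37) (ke xe6 ye53 ze52) (ke xe6 ye53 ze53)) (@D3.rec (fun _ => Pt) (ke xe3 ye42 ze53) (ke xe1 ye39 ze41) (ke xe6 ye53 ze58) (ke xe6 ye53 ze60) (ke xe6 ye54 ze1) (ke xe1 ye39 ze43) (ke xe1 ye39 ze44) (ke xe6 ye54 ze9) (ke xe6 ye54 ze12) (ke xe6 ye54 ze5) (ke xe6 ye54 ze18) (ke xe1 ye39 ze46) (ke xe6 ye0 ze55) (ke xe1 ye39 ze47) (ke xe3 ye34 ze43) (ke xe6 ye0 ze57) (ke xe3 ye50 ze57) (ke xe3 ye27 ze45) (ke xe3 ye27 ze50) (ke xe1 ye44 ze27) (ke xe3 ye35 ze16) (ke xe3 ye38 ze58) (ke xe6 ye54 ze39) (ke xe3 ye37 ze21) (ke xe6 ye54 ze42) (ke xe1 ye39 ze54) (ke xe1 ye39 ze55) (ke xe6 ye54 ze45) (ke xe6 ye54 ze47) (ke xe6 ye54 ze48) (ke xe1 ye39 ze56) (ke xe5 ye59 ze4) (ke xe1 ye39 ze57) (ke xe6 ye54 ze59) (ke xe6 ye54 ze61) (ke xe6 ye54 ze55) (ke xe3 ye37 ze58) (ke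 xe3 ye34 ze45) (ke xe1 ye47 ze30) (ke xe1 ye39 ze61) (ke xe6 ye55 ze14) (ke xe6 ye55 ze15) (ke xe1 ye40 ze0) (ke xe3 ye28 ze25) (ke xe6 ye55 ze17) (ke xe3 ye24 ze23) (ke xe3 ye33 ze61) (ke xe6 ye55 ze22) (ke xe6 ye55 ze23) (ke xe6 ye55 ze25) (ke xe1 ye40 ze2) (ke xe1 ye40 ze3) (ke xe3 ye42 ze49) (ke xe6 ye55 ze37) (ke xe6 ye55 ze31) (ke xe3 ye34 ze58) (ke xe6 ye55 ze44) (ke xe1 ye40 ze5) (ke xe6 ye55 ze46) (ke xe3 ye24 ze26) (ke xe3 ye31 ze46) (ke xe6 ye55 ze53)) (@D3.rec (fun _ => Pt) (ke xe6 ye55 ze56) (ke xe6 ye55 ze57) (ke xe6 ye55 ze58) (ke xe6 ye56 ze0) (ke xe1 ye40 ze8) (ke xe3 ye0 ze37) (ke xe1 ye40 ze9) (ke xe6 ye56 ze8) (ke xe3 ye37 ze60) (ke xe6 ye56 ze14) (ke xe6 ye56 ze15) (ke xe6 ye56 ze16) (ke xe1 ye40 ze11) (ke xe1 ye40 ze12) (ke xe6 ye56 ze23) (ke xe3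 ye35 ze0) (ke xe6 ye56 ze30) (ke xe1 ye40 ze14) (ke xe1 ye40 ze15) (ke xe6 ye56 ze39) (ke xe1 ye40 ze16) (ke xe1 ye40 ze20) (ke xe6 ye56 ze50) (ke xe6 ye56 ze54) (ke xe1 ye40 ze18) (ke xe6 ye56 ze60) (ke xe6 ye57 ze0) (ke xe1 ye40 ze19) (ke xe6 ye57 ze5) (ke xe6 ye57 ze9) (ke xe6 ye56 ze45) (ke xe6 ye57 ze15) (ke xe3 ye36 ze43) (ke xe6 ye57 ze18) (ke xe1 ye40 ze22) (ke xe3 ye55 ze55) (ke xe6 ye57 ze25) (ke xe6 ye57 ze28) (ke xe1 ye40 ze23) (ke xe1 ye48 ze25) (ke xe6 ye57 ze36) (ke xe1 ye40 ze24) (ke xe3 ye33 ze2) (ke xe6 ye57 ze38) (ke xe6 ye57 ze41) (ke xe3 ye26 ze17) (ke xe1 ye40 ze26) (ke xe6 ye57 ze49) (ke xe6 ye57 ze51) (ke xe1 ye40 ze27) (ke xe3 ye26 ze18) (ke xe4 ye50 ze8) (ke xe6 ye57 ze58) (ke xe3 ye52 ze39) (ke xe3 ye56 ze28) (ke xe1 ye54 ze11) (ke xe3 ye56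 ze22) (ke xe1 ye54 ze56) (ke xe6 ye58 ze7) (ke xe3 ye33 ze12) (ke xe6 ye58 ze12) (ke xe1 ye55 ze9)) (@D3.rec (fun _ => Pt) (ke xe1 ye40 ze36) (ke xe3 ye33 ze34) (ke xe6 ye58 ze19) (ke xe1 ye40 ze37) (ke xe1 ye41 ze9) (ke xe1 ye53 ze32) (ke xe1 ye45 ze2) (ke xe3 ye36 ze52) (ke xe6 ye58 ze30) (ke xe1 ye40 ze41) (ke xe3 ye37 ze2) (ke xe6 ye58 ze36) (ke xe1 ye40 ze42) (ke xe3 ye54 ze44) (ke xe1 ye54 ze49) (ke xe6 ye58 ze43) (ke xe1 ye40 ze45) (ke xe1 ye41 ze61) (ke xe1 ye43 ze44) (ke xe1 ye41 ze20) (ke xe3 ye36 ze53) (ke xe3 ye36 ze23) (ke xe6 ye49 ze44) (ke xe3 ye36 ze24) (ke xe1 ye40 ze51) (ke xe3 ye26 ze43) (ke xe3 ye11 ze38) (ke xe1 ye40 ze53) (ke xe6 ye34 ze2) (ke xe6 ye58 ze56) (ke xe3 ye37 ze17) (ke xe6 ye57 ze43) (ke xe1 ye40 ze59) (ke xe6 ye58 ze59) (ke xe6 ye59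 ze0) (ke xe1 ye40 ze61) (ke xe3 ye28 ze36) (ke xe6 ye59 ze2) (ke xe3 ye11 ze60) (ke xe6 ye29 ze52) (ke xe2 ye18 ze22) (ke xe1 ye41 ze6) (ke xe3 ye8 ze17) (ke xe1 ye41 ze3) (ke xe3 ye8 ze59) (ke xe6 ye59 ze9) (ke xe4 ye11 ze53) (ke xe3 ye36 ze50) (ke xe6 ye59 ze14) (ke xe3 ye37 ze19) (ke xe6 ye59 ze21) (ke xe6 ye58 ze22) (ke xe3 ye49 ze2) (ke xe3 ye15 ze26) (ke xe3 ye49 ze15) (ke xe6 ye48 ze60) (ke xe1 ye41 ze13) (ke xe6 ye49 ze45) (ke xe6 ye59 ze28) (ke xe6 ye59 ze33) (ke xe3 ye49 ze52) (ke xe6 ye59 ze41)) (@D3.rec (fun _ => Pt) (ke xe6 ye59 ze44) (ke xe6 ye59 ze47) (ke xe6 ye59 ze48) (ke xe6 ye59 ze50) (ke xe1 ye41 ze15) (ke xe1 ye41 ze16) (ke xe6 ye59 ze61) (ke xe3 ye37 ze37) (ke xe6 ye59 ze57) (ke xe6 ye58 ze47) (ke xe7 ye0 ze6) (ke xe7 ye0 ze10) (ke xe1 ye43 ze48)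 (ke xe1 ye41 ze18) (ke xe3 ye37 ze30) (ke xe3 ye37 ze31) (ke xe1 ye42 ze2) (ke xe1 ye41 ze21) (ke xe6 ye52 ze55) (ke xe7 ye0 ze15) (ke xe7 ye0 ze19) (ke xe1 ye41 ze24) (ke xe7 ye0 ze22) (ke xe1 ye41 ze25) (ke xe1 ye41 ze26) (ke xe7 ye0 ze28) (ke xe7 ye0 ze30) (ke xe1 ye41 ze27) (ke xe7 ye0 ze36) (ke xe7 ye0 ze33) (ke xe1 ye41 ze29) (ke xe7 ye0 ze44) (ke xe7 ye0 ze45) (ke xe1 ye41 ze30) (ke xe7 ye0 ze47) (ke xe7 ye0 ze48) (ke xe1 ye43 ze61) (ke xe7 ye0 ze50) (ke xe7 ye0 ze51) (ke xe7 ye0 ze52) (ke xe7 ye0 ze53) (ke xe1 ye41 ze32) (ke xe1 ye41 ze33) (ke xe7 ye1 ze2) (ke xe7 ye1 ze5) (ke xe7 ye0 ze60) (ke xe1 ye44 ze1) (ke xe7 ye1 ze12) (ke xe1 ye41 ze35) (ke xe7 ye1 ze14) (ke xe7 ye1 ze17) (ke xe7 ye1 ze19) (ke xe7 ye1 ze21) (ke xe7 ye1 ze23) (ke xe1 ye41 ze37) (ke xe1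 ye41 ze38) (ke xe7 ye1 ze29) (ke xe7 ye1 ze32) (ke xe7 ye1 ze34) (ke xe7 ye1 ze35) (ke xe7 ye1 ze36) (ke xe1 ye41 ze40)) (@D3.rec (fun _ => Pt) (ke xe1 ye41 ze41) (ke xe7 ye1 ze43) (ke xe3 ye34 ze27) (ke xe7 ye1 ze51) (ke xe1 ye41 ze43) (ke xe1 ye41 ze44) (ke xe2 ye27 ze6) (ke xe1 ye41 ze45) (ke xe7 ye1 ze60) (ke xe7 ye2 ze1) (ke xe2 ye56 ze38) (ke xe3 ye24 ze48) (ke xe6 ye25 ze8) (ke xe1 ye41 ze47) (ke xe7 ye2 ze12) (ke xe7 ye2 ze16) (ke xe1 ye41 ze52) (ke xe7 ye2 ze21) (ke xe1 ye41 ze49) (ke xe7 ye2 ze29) (ke xe7 ye2 ze32) (ke xe7 ye2 ze36) (ke xe1 ye41 ze50) (ke xe7 ye2 ze44) (ke xe3 ye55 ze28) (ke xe7 ye2 ze47) (ke xe1 ye41 ze51) (ke xe7 ye2 ze51) (ke xe7 ye2 ze54) (ke xe7 ye2 ze19) (ke xe7 ye2 ze60) (ke xe1 ye41 ze53) (ke xe7 ye3 ze2) (ke xe7 ye3 ze5) (ke xe7 ye2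 ze24) (ke xe3 ye40 ze61) (ke xe7 ye3 ze10) (ke xe7 ye3 ze13) (ke xe7 ye3 ze16) (ke xe1 ye41 ze55) (ke xe7 ye0 ze21) (ke xe7 ye3 ze23) (ke xe7 ye3 ze27) (ke xe1 ye41 ze56) (ke xe3 ye36 ze28) (ke xe7 ye3 ze35) (ke xe1 ye41 ze57) (ke xe3 ye34 ze57) (ke xe1 ye43 ze8) (ke xe3 ye36 ze26) (ke xe3 ye36 ze2) (ke xe7 ye3 ze38) (ke xe7 ye3 ze41) (ke xe3 ye35 ze61) (ke xe1 ye41 ze59) (ke xe7 ye3 ze50) (ke xe7 ye3 ze52) (ke xe1 ye41 ze60) (ke xe6 ye58 ze48) (ke xe3 ye39 ze3) (ke xe7 ye0 ze12) (ke xe7 ye0 ze14)) (@D3.rec (fun _ => Pt) (ke xe3 ye37 ze32) (ke xe6 ye54 ze36) (ke xe7 ye4 ze2) (ke xe1 ye42 ze3) (ke xe7 ye4 ze3) (ke xe7 ye4 ze6) (ke xe1 ye42 ze6) (ke xe6 ye58 ze23) (ke xe3 ye36 ze19) (ke xe7 ye4 ze11) (ke xe3 ye24 ze55) (ke xe1 ye53 ze52) (ke xe3 ye24 ze32) (ke xe7 ye2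 ze45) (ke xe7 ye4 ze18) (ke xe3 ye34 ze54) (ke xe1 ye42 ze9) (ke xe3 ye48 ze16) (ke xe7 ye4 ze22) (ke xe1 ye42 ze10) (ke xe6 ye52 ze25) (ke xe3 ye54 ze46) (ke xe3 ye43 ze42) (ke xe7 ye4 ze29) (ke xe3 ye34 ze60) (ke xe1 ye42 ze16) (ke xe3 ye43 ze61) (ke xe3 ye31 ze47) (ke xe7 ye4 ze38) (ke xe1 ye42 ze17) (ke xe3 ye31 ze48) (ke xe3 ye35 ze4) (ke xe1 ye47 ze19) (ke xe3 ye35 ze3) (ke xe1 ye45 ze56) (ke xe3 ye31 ze49) (ke xe1 ye45 ze40) (ke xe3 ye41 ze8) (ke xe7 ye4 ze55) (ke xe1 ye48 ze55) (ke xe1 ye42 ze25) (ke xe3 ye41 ze24) (ke xe3 ye34 ze56) (ke xe7 ye5 ze1) (ke xe1 ye42 ze26) (ke xe1 ye42 ze37) (ke xe3 ye26 ze60) (ke xe3 ye31 ze27) (ke xe3 ye31 ze30) (ke xe3 ye31 ze35) (ke xe3 ye47 ze8) (ke xe4 ye45 ze32) (ke xe3 ye54 ze54) (ke xe3 ye42 ze45) (ke xe4 ye53 ze43) (ke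 xe7 ye5 ze5) (ke xe3 ye53 ze8) (ke xe3 ye56 ze24) (ke xe3 ye56 ze25) (ke xe7 ye5 ze26) (ke xe1 ye42 ze40) (ke xe3 ye31 ze61)) (@D3.rec (fun _ => Pt) (ke xe3 ye49 ze11) (ke xe1 ye45 ze58) (ke xe6 ye53 ze42) (ke xe6 ye52 ze14) (ke xe7 ye5 ze28) (ke xe1 ye42 ze45) (ke xe3 ye35 ze34) (ke xe6 ye55 ze8) (ke xe1 ye52 ze25) (ke xe3 ye33 ze0) (ke xe7 ye3 ze37) (ke xe1 ye42 ze49) (ke xe3 ye35 ze38) (ke xe6 ye57 ze19) (ke xe7 ye5 ze33) (ke xe7 ye5 ze34) (ke xe1 ye42 ze50) (ke xe7 ye5 ze36) (ke xe7 ye5 ze38) (ke xe1 ye42 ze51) (ke xe7 ye5 ze42) (ke xe7 ye3 ze44) (ke xe7 ye5 ze47) (ke xe3 ye57 ze39) (ke xe3 ye35 ze51) (ke xe7 ye5 ze54) (ke xe3 ye34 ze8) (ke xe1 ye42 ze54) (ke xe1 ye42 ze58) (ke xe3 ye52 ze57) (ke xe3 ye52 ze59) (ke xe1 ye51 ze47) (ke xe6 ye43 ze26) (ke xe7 ye6 ze3)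 (ke xe3 ye35 ze59) (ke xe7 ye6 ze4) (ke xe7 ye6 ze5) (ke xe2 ye17 ze0) (ke xe1 ye42 ze61) (ke xe1 ye43 ze0) (ke xe7 ye6 ze12) (ke xe7 ye6 ze9) (ke xe3 ye36 ze11) (ke xe7 ye6 ze19) (ke xe1 ye43 ze2) (ke xe7 ye6 ze23) (ke xe7 ye6 ze25) (ke xe1 ye43 ze4) (ke xe1 ye43 ze5) (ke xe6 ye58 ze38) (ke xe7 ye6 ze38) (ke xe7 ye6 ze32) (ke xe3 ye36 ze22) (ke xe3 ye39 ze1) (ke xe7 ye3 ze18) (ke xe7 ye3 ze36) (ke xe1 ye43 ze14) (ke xe1 ye52 ze53) (ke xe7 ye6 ze54) (ke xe7 ye6 ze48) (ke xe7 ye6 ze59) (ke xe7 ye6 ze60)) (@D3.rec (fun _ => Pt) (ke xe3 ye32 ze9) (ke xe1 ye45 ze59) (ke xe3 ye27 ze42) (ke xe1 ye43 ze16) (ke xe7 ye7 ze1) (ke xe3 ye59 ze61) (ke xe1 ye43 ze17) (ke xe7 ye7 ze7) (ke xe1 ye43 ze18) (ke xe7 ye7 ze14) (ke xe6 ye58 ze51) (ke xe7 ye7 ze10) (ke xe3 ye27 ze59) (ke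 xe7 ye7 ze23) (ke xe1 ye43 ze20) (ke xe1 ye50 ze12) (ke xe1 ye46 ze2) (ke xe7 ye7 ze31) (ke xe1 ye43 ze23) (ke xe7 ye7 ze33) (ke xe7 ye7 ze34) (ke xe2 ye47 ze16) (ke xe1 ye43 ze25) (ke xe1 ye43 ze26) (ke xe7 ye7 ze43) (ke xe7 ye7 ze40) (ke xe7 ye7 ze48) (ke xe7 ye7 ze50) (ke xe7 ye7 ze51) (ke xe7 ye7 ze52) (ke xe4 ye32 ze28) (ke xe1 ye43 ze28) (ke xe1 ye43 ze29) (ke xe7 ye7 ze59) (ke xe3 ye28 ze1) (ke xe7 ye8 ze2) (ke xe7 ye8 ze3) (ke xe6 ye14 ze6) (ke xe1 ye43 ze31) (ke xe1 ye43 ze32) (ke xe7 ye8 ze9) (ke xe3 ye4 ze0) (ke xe1 ye43 ze34) (ke xe7 ye8 ze16) (ke xe1 ye43 ze36) (ke xe7 ye8 ze24) (ke xe3 ye59 ze59) (ke xe1 ye43 ze40) (ke xe3 ye37 ze7) (ke xe7 ye8 ze35) (ke xe7 ye8 ze38) (ke xe7 ye8 ze42) (ke xe1 ye43 ze38) (ke xe7 ye8 ze48) (ke xe7 ye8 ze50) (ke xe7 ye8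 ze52) (ke xe1 ye43 ze39) (ke xe7 ye8 ze58) (ke xe7 ye9 ze0) (ke xe7 ye8 ze29) (ke xe7 ye9 ze6) (ke xe3 ye26 ze46)) (@D3.rec (fun _ => Pt) (ke xe7 ye9 ze8) (ke xe3 ye56 ze42) (ke xe3 ye40 ze60) (ke xe1 ye43 ze42) (ke xe3 ye37 ze18) (ke xe7 ye9 ze19) (ke xe7 ye9 ze23) (ke xe1 ye43 ze43) (ke xe3 ye32 ze26) (ke xe6 ye58 ze49) (ke xe7 ye9 ze32) (ke xe7 ye0 ze5) (ke xe1 ye43 ze46) (ke xe7 ye9 ze39) (ke xe7 ye9 ze41) (ke xe1 ye43 ze47) (ke xe7 ye0 ze11) (ke xe1 ye55 ze8) (ke xe1 ye51 ze11) (ke xe1 ye51 ze26) (ke xe6 ye52 ze22) (ke xe1 ye52 ze5) (ke xe7 ye9 ze57) (ke xe7 ye0 ze39) (ke xe7 ye9 ze58) (ke xe7 ye3 ze42) (ke xe3 ye38 ze53) (ke xe3 ye30 ze2) (ke xe7 ye0 ze57) (ke xe7 ye10 ze4) (ke xe7 ye10 ze6) (ke xe1 ye44 ze2) (ke xe7 ye10 ze13) (ke xe7 ye10 ze14) (ke xe1 ye44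 ze3) (ke xe1 ye50 ze40) (ke xe1 ye49 ze22) (ke xe7 ye10 ze24) (ke xe7 ye10 ze25) (ke xe1 ye44 ze5) (ke xe7 ye10 ze31) (ke xe7 ye10 ze32) (ke xe1 ye44 ze6) (ke xe3 ye26 ze14) (ke xe3 ye52 ze41) (ke xe3 ye26 ze37) (ke xe7 ye10 ze44) (ke xe3 ye56 ze44) (ke xe7 ye10 ze47) (ke xe7 ye10 ze49) (ke xe1 ye44 ze8) (ke xe7 ye10 ze53) (ke xe1 ye44 ze9) (ke xe7 ye10 ze57) (ke xe3 ye31 ze15) (ke xe1 ye47 ze18) (ke xe3 ye31 ze42) (ke xe3 ye30 ze47) (ke xe3 ye26 ze55) (ke xe7 ye11 ze6) (ke xe3 ye31 ze24) (ke xe1 ye44 ze15)) (@D3.rec (fun _ => Pt) (ke xe3 ye27 ze15) (ke xe7 ye11 ze13) (ke xe1 ye44 ze16) (ke xe3 ye31 ze33) (ke xe3 ye31 ze31) (ke xe1 ye54 ze33) (ke xe2 ye24 ze39) (ke xe3 ye25 ze6) (ke xe6 ye48 ze7) (ke xe1 ye44 ze22) (ke xe4 ye52 ze38) (ke xe3 ye40 ze42) (ke xe7 ye5 ze7)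 (ke xe7 ye5 ze3) (ke xe7 ye11 ze29) (ke xe1 ye52 ze44) (ke xe3 ye26 ze20) (ke xe6 ye54 ze30) (ke xe6 ye54 ze34) (ke xe7 ye11 ze40) (ke xe1 ye44 ze30) (ke xe7 ye11 ze44) (ke xe1 ye44 ze31) (ke xe2 ye22 ze53) (ke xe7 ye11 ze45) (ke xe3 ye9 ze48) (ke xe7 ye11 ze46) (ke xe3 ye38 ze19) (ke xe7 ye11 ze50) (ke xe7 ye8 ze61) (ke xe7 ye11 ze53) (ke xe1 ye44 ze37) (ke xe7 ye11 ze55) (ke xe7 ye11 ze57) (ke xe3 ye32 ze6) (ke xe1 ye44 ze39) (ke xe3 ye49 ze35) (ke xe7 ye11 ze59) (ke xe3 ye32 ze12) (ke xe6 ye59 ze35) (ke xe1 ye44 ze42) (ke xe7 ye11 ze61) (ke xe7 ye12 ze1) (ke xe7 ye12 ze2) (ke xe1 ye44 ze43) (ke xe7 ye12 ze7) (ke xe7 ye12 ze9) (ke xe1 ye44 ze44) (ke xe7 ye12 ze14) (ke xe3 ye49 ze50) (ke xe7 ye12 ze11) (ke xe3 ye32 ze24) (ke xe7 ye12 ze23) (ke xe3 ye47 ze7) (ke xe1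 ye44 ze46) (ke xe1 ye44 ze48) (ke xe3 ye39 ze15) (ke xe7 ye12 ze26) (ke xe3 ye54 ze29) (ke xe3 ye32 ze34) (ke xe7 ye12 ze27) (ke xe3 ye30 ze53)) (@D3.rec (fun _ => Pt) (ke xe7 ye12 ze29) (ke xe1 ye44 ze54) (ke xe3 ye30 ze50) (ke xe7 ye12 ze30) (ke xe7 ye12 ze31) (ke xe2 ye9 ze24) (ke xe1 ye44 ze55) (ke xe1 ye44 ze56) (ke xe7 ye12 ze38) (ke xe7 ye12 ze41) (ke xe7 ye12 ze35) (ke xe3 ye32 ze42) (ke xe3 ye48 ze59) (ke xe3 ye52 ze55) (ke xe3 ye47 ze12) (ke xe3 ye53 ze29) (ke xe7 ye12 ze54) (ke xe7 ye12 ze57) (ke xe1 ye44 ze61) (ke xe3 ye31 ze8) (ke xe6 ye58 ze20) (ke xe7 ye8 ze19) (ke xe3 ye32 ze52) (ke xe3 ye28 ze21) (ke xe3 ye28 ze23) (ke xe6 ye58 ze25) (ke xe3 ye30 ze49) (ke xe1 ye45 ze5) (ke xe3 ye30 ze44) (ke xe7 ye13 ze15) (ke xe7 ye13 ze21) (ke xe7 ye13 ze25) (ke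 xe1 ye45 ze7) (ke xe7 ye13 ze27) (ke xe1 ye45 ze8) (ke xe7 ye13 ze29) (ke xe7 ye13 ze31) (ke xe7 ye13 ze32) (ke xe1 ye45 ze9) (ke xe3 ye53 ze9) (ke xe7 ye13 ze39) (ke xe4 ye23 ze4) (ke xe7 ye13 ze43) (ke xe3 ye27 ze32) (ke xe7 ye13 ze44) (ke xe7 ye13 ze45) (ke xe4 ye32 ze57) (ke xe1 ye45 ze13) (ke xe1 ye45 ze14) (ke xe7 ye13 ze53) (ke xe3 ye28 ze47) (ke xe7 ye13 ze50) (ke xe3 ye28 ze7) (ke xe3 ye28 ze20) (ke xe7 ye14 ze1) (ke xe7 ye14 ze4) (ke xe7 ye14 ze6) (ke xe3 ye57 ze28) (ke xe1 ye45 ze18) (ke xe1 ye45 ze19) (ke xe7 ye14 ze14) (ke xe7 ye14 ze19)) (@D3.rec (fun _ => Pt) (ke xe1 ye45 ze21) (ke xe4 ye23 ze14) (ke xe3 ye28 ze10) (ke xe1 ye45 ze25) (ke xe7 ye14 ze32) (ke xe6 ye14 ze3) (ke xe1 ye45 ze29) (ke xe3 ye33 ze48) (ke xe3 ye53 ze44) (ke xe7 ye14 ze45) (ke xe7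 ye14 ze50) (ke xe7 ye14 ze52) (ke xe1 ye45 ze28) (ke xe7 ye14 ze57) (ke xe7 ye14 ze61) (ke xe7 ye14 ze37) (ke xe7 ye15 ze5) (ke xe3 ye28 ze30) (ke xe3 ye34 ze4) (ke xe3 ye28 ze49) (ke xe7 ye15 ze16) (ke xe3 ye26 ze23) (ke xe6 ye57 ze16) (ke xe1 ye51 ze40) (ke xe1 ye45 ze33) (ke xe7 ye15 ze21) (ke xe7 ye15 ze23) (ke xe1 ye45 ze34) (ke xe1 ye51 ze50) (ke xe1 ye51 ze56) (ke xe3 ye29 ze14) (ke xe3 ye29 ze15) (ke xe3 ye31 ze0) (ke xe7 ye15 ze35) (ke xe7 ye15 ze38) (ke xe1 ye46 ze8) (ke xe1 ye45 ze38) (ke xe3 ye29 ze7) (ke xe7 ye15 ze44) (ke xe1 ye45 ze46) (ke xe7 ye15 ze50) (ke xe7 ye4 ze50) (ke xe1 ye45 ze41) (ke xe3 ye44 ze47) (ke xe3 ye39 ze7) (ke xe3 ye45 ze58) (ke xe7 ye15 ze57) (ke xe7 ye16 ze1) (ke xe7 ye16 ze2) (ke xe1 ye45 ze44) (ke xe3 ye15 ze48) (ke xe3 ye51 ze25)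 (ke xe3 ye25 ze20) (ke xe7 ye16 ze11) (ke xe7 ye16 ze13) (ke xe1 ye45 ze47) (ke xe7 ye16 ze17) (ke xe1 ye45 ze48) (ke xe3 ye26 ze36) (ke xe3 ye25 ze4) (ke xe3 ye27 ze8) (ke xe7 ye16 ze28)) (@D3.rec (fun _ => Pt) (ke xe7 ye16 ze32) (ke xe1 ye45 ze53) (ke xe1 ye54 ze23) (ke xe7 ye4 ze42) (ke xe3 ye52 ze44) (ke xe1 ye45 ze60) (ke xe7 ye16 ze37) (ke xe1 ye46 ze1) (ke xe3 ye39 ze13) (ke xe7 ye7 ze26) (ke xe7 ye16 ze43) (ke xe1 ye46 ze3) (ke xe7 ye16 ze46) (ke xe7 ye16 ze47) (ke xe1 ye46 ze5) (ke xe1 ye46 ze6) (ke xe7 ye14 ze60) (ke xe7 ye16 ze58) (ke xe7 ye16 ze52) (ke xe3 ye35 ze27) (ke xe7 ye15 ze39) (ke xe7 ye17 ze2) (ke xe7 ye17 ze5) (ke xe1 ye46 ze9) (ke xe7 ye17 ze7) (ke xe7 ye17 ze10) (ke xe1 ye46 ze11) (ke xe6 ye13 ze48) (ke xe3 ye39 ze25) (ke xe1 ye46 ze13) (ke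 xe7 ye14 ze28) (ke xe3 ye39 ze30) (ke xe7 ye17 ze24) (ke xe1 ye46 ze15) (ke xe7 ye17 ze30) (ke xe1 ye55 ze39) (ke xe1 ye46 ze19) (ke xe3 ye39 ze34) (ke xe7 ye17 ze39) (ke xe7 ye17 ze42) (ke xe1 ye46 ze17) (ke xe7 ye17 ze47) (ke xe7 ye17 ze49) (ke xe1 ye46 ze18) (ke xe7 ye17 ze55) (ke xe7 ye17 ze58) (ke xe7 ye17 ze34) (ke xe7 ye18 ze2) (ke xe3 ye25 ze8) (ke xe7 ye18 ze3) (ke xe7 ye10 ze61) (ke xe3 ye53 ze31) (ke xe1 ye46 ze21) (ke xe3 ye34 ze26) (ke xe7 ye18 ze11) (ke xe7 ye18 ze15) (ke xe1 ye46 ze22) (ke xe3 ye53 ze32) (ke xe3 ye26 ze21) (ke xe1 ye46 ze25) (ke xe7 ye18 ze24) (ke xe7 ye18 ze26)) (@D3.rec (fun _ => Pt) (ke xe1 ye46 ze26) (ke xe3 ye32 ze53) (ke xe1 ye54 ze25) (ke xe3 ye30 ze59) (ke xe3 ye25 ze9) (ke xe7 ye18 ze36) (ke xe1 ye46 ze30) (ke xe3 ye37 ze44)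 (ke xe7 ye18 ze40) (ke xe1 ye46 ze31) (ke xe3 ye41 ze52) (ke xe3 ye24 ze30) (ke xe3 ye53 ze2) (ke xe3 ye38 ze8) (ke xe7 ye10 ze8) (ke xe3 ye35 ze56) (ke xe1 ye53 ze6) (ke xe7 ye18 ze49) (ke xe1 ye46 ze36) (ke xe7 ye17 ze26) (ke xe7 ye18 ze54) (ke xe7 ye18 ze56) (ke xe7 ye18 ze57) (ke xe1 ye46 ze38) (ke xe7 ye8 ze14) (ke xe3 ye38 ze28) (ke xe7 ye19 ze5) (ke xe7 ye19 ze6) (ke xe1 ye46 ze40) (ke xe3 ye3 ze45) (ke xe3 ye38 ze31) (ke xe7 ye19 ze15) (ke xe7 ye19 ze17) (ke xe1 ye46 ze45) (ke xe3 ye38 ze37) (ke xe7 ye19 ze25) (ke xe7 ye19 ze26) (ke xe1 ye46 ze43) (ke xe7 ye19 ze30) (ke xe7 ye19 ze31) (ke xe1 ye46 ze44) (ke xe7 ye19 ze35) (ke xe7 ye19 ze38) (ke xe7 ye19 ze20) (ke xe1 ye46 ze46) (ke xe7 ye19 ze46) (ke xe7 ye19 ze47) (ke xe1 ye46 ze47) (ke xe1 ye46 ze49) (ke xe7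 ye19 ze53) (ke xe7 ye19 ze54) (ke xe1 ye46 ze50) (ke xe7 ye19 ze59) (ke xe1 ye46 ze53) (ke xe6 ye49 ze22) (ke xe6 ye50 ze55) (ke xe7 ye20 ze2) (ke xe1 ye46 ze57) (ke xe1 ye46 ze61) (ke xe6 ye50 ze56) (ke xe7 ye20 ze8) (ke xe1 ye46 ze60)) (@D3.rec (fun _ => Pt) (ke xe7 ye20 ze10) (ke xe7 ye20 ze12) (ke xe7 ye20 ze5) (ke xe7 ye20 ze15) (ke xe1 ye47 ze0) (ke xe7 ye20 ze18) (ke xe7 ye20 ze21) (ke xe7 ye20 ze23) (ke xe7 ye20 ze24) (ke xe1 ye47 ze1) (ke xe7 ye20 ze30) (ke xe1 ye47 ze2) (ke xe7 ye20 ze37) (ke xe7 ye5 ze13) (ke xe7 ye20 ze33) (ke xe1 ye54 ze47) (ke xe7 ye20 ze46) (ke xe1 ye47 ze4) (ke xe3 ye25 ze52) (ke xe1 ye47 ze7) (ke xe3 ye55 ze43) (ke xe6 ye57 ze29) (ke xe7 ye20 ze49) (ke xe7 ye20 ze60) (ke xe7 ye21 ze3) (ke xe5 ye59 ze32) (ke xe1 ye47 ze9) (ke xe6 ye30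 ze14) (ke xe2 ye19 ze29) (ke xe7 ye21 ze7) (ke xe7 ye21 ze9) (ke xe7 ye21 ze11) (ke xe1 ye47 ze12) (ke xe1 ye47 ze13) (ke xe7 ye21 ze19) (ke xe7 ye21 ze16) (ke xe7 ye21 ze25) (ke xe7 ye21 ze27) (ke xe1 ye47 ze15) (ke xe1 ye47 ze16) (ke xe7 ye4 ze39) (ke xe7 ye21 ze34) (ke xe3 ye35 ze11) (ke xe7 ye10 ze59) (ke xe7 ye4 ze46) (ke xe7 ye21 ze46) (ke xe1 ye47 ze21) (ke xe7 ye21 ze48) (ke xe7 ye21 ze50) (ke xe7 ye21 ze51) (ke xe1 ye47 ze22) (ke xe7 ye21 ze56) (ke xe7 ye21 ze58) (ke xe1 ye47 ze23) (ke xe7 ye22 ze3) (ke xe6 ye55 ze47) (ke xe7 ye21 ze61) (ke xe7 ye22 ze11) (ke xe1 ye47 ze25) (ke xe7 ye22 ze13) (ke xe3 ye34 ze2) (ke xe3 ye30 ze35)) (@D3.rec (fun _ => Pt) (ke xe7 ye22 ze14) (ke xe7 ye22 ze16) (ke xe7 ye22 ze19) (ke xe1 ye47 ze27) (ke xe1 ye47 ze28) (ke xe7 ye22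 ze29) (ke xe7 ye22 ze32) (ke xe7 ye22 ze25) (ke xe3 ye31 ze37) (ke xe6 ye55 ze6) (ke xe7 ye22 ze41) (ke xe7 ye22 ze45) (ke xe7 ye22 ze47) (ke xe7 ye22 ze51) (ke xe1 ye47 ze32) (ke xe1 ye47 ze33) (ke xe7 ye22 ze57) (ke xe7 ye23 ze0) (ke xe7 ye23 ze2) (ke xe7 ye23 ze4) (ke xe7 ye23 ze7) (ke xe1 ye47 ze35) (ke xe1 ye47 ze36) (ke xe7 ye23 ze14) (ke xe3 ye31 ze41) (ke xe7 ye23 ze21) (ke xe1 ye47 ze38) (ke xe7 ye23 ze25) (ke xe1 ye47 ze39) (ke xe7 ye23 ze33) (ke xe1 ye47 ze40) (ke xe7 ye23 ze40) (ke xe7 ye23 ze44) (ke xe1 ye47 ze44) (ke xe3 ye44 ze15) (ke xe7 ye23 ze52) (ke xe7 ye23 ze55) (ke xe1 ye47 ze42) (ke xe7 ye23 ze60) (ke xe7 ye24 ze0) (ke xe1 ye47 ze43) (ke xe7 ye24 ze4) (ke xe7 ye24 ze7) (ke xe7 ye23 ze47) (ke xe7 ye24 ze13) (ke xe3 ye55 ze61) (ke xe1 ye47 ze46)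 (ke xe3 ye44 ze26) (ke xe7 ye24 ze19) (ke xe7 ye24 ze23) (ke xe1 ye47 ze47) (ke xe3 ye56 ze0) (ke xe3 ye39 ze10) (ke xe7 ye24 ze32) (ke xe1 ye51 ze9) (ke xe1 ye47 ze50) (ke xe7 ye24 ze36) (ke xe7 ye24 ze38) (ke xe1 ye47 ze51) (ke xe3 ye53 ze60) (ke xe7 ye24 ze46) (ke xe1 ye47 ze54)) (@D3.rec (fun _ => Pt) (ke xe3 ye56 ze6) (ke xe7 ye24 ze53) (ke xe1 ye47 ze57) (ke xe1 ye48 ze0) (ke xe1 ye48 ze1) (ke xe7 ye24 ze60) (ke xe4 ye57 ze27) (ke xe1 ye48 ze2) (ke xe3 ye23 ze25) (ke xe7 ye25 ze2) (ke xe1 ye48 ze4) (ke xe7 ye25 ze4) (ke xe1 ye48 ze5) (ke xe7 ye25 ze7) (ke xe7 ye25 ze9) (ke xe7 ye25 ze11) (ke xe7 ye25 ze14) (ke xe1 ye48 ze6) (ke xe7 ye25 ze19) (ke xe7 ye25 ze20) (ke xe7 ye25 ze22) (ke xe1 ye48 ze7) (ke xe6 ye57 ze44) (ke xe7 ye24 ze26) (ke xe7 ye25 ze25) (ke xe1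 ye48 ze10) (ke xe7 ye25 ze34) (ke xe1 ye48 ze13) (ke xe1 ye52 ze55) (ke xe7 ye25 ze36) (ke xe6 ye26 ze28) (ke xe7 ye24 ze55) (ke xe7 ye25 ze44) (ke xe6 ye27 ze41) (ke xe7 ye25 ze45) (ke xe6 ye26 ze32) (ke xe7 ye25 ze49) (ke xe7 ye25 ze51) (ke xe7 ye25 ze54) (ke xe1 ye48 ze18) (ke xe1 ye48 ze19) (ke xe7 ye26 ze1) (ke xe6 ye51 ze23) (ke xe7 ye25 ze60) (ke xe1 ye54 ze59) (ke xe3 ye31 ze53) (ke xe1 ye48 ze26) (ke xe7 ye26 ze14) (ke xe6 ye57 ze31) (ke xe3 ye26 ze52) (ke xe6 ye57 ze32) (ke xe7 ye26 ze11) (ke xe7 ye26 ze26) (ke xe3 ye26 ze0) (ke xe7 ye26 ze32) (ke xe7 ye26 ze34) (ke xe1 ye48 ze28) (ke xe1 ye48 ze29) (ke xe7 ye26 ze40) (ke xe1 ye48 ze31) (ke xe7 ye26 ze45) (ke xe6 ye8 ze52)) (@D3.rec (fun _ => Pt) (ke xe1 ye48 ze32) (ke xe1 ye48 ze34) (ke xe7 ye26 ze46) (ke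 xe7 ye26 ze51) (ke xe7 ye26 ze52) (ke xe1 ye48 ze36) (ke xe1 ye48 ze38) (ke xe2 ye22 ze42) (ke xe4 ye52 ze35) (ke xe7 ye26 ze55) (ke xe7 ye26 ze61) (ke xe7 ye27 ze0) (ke xe1 ye48 ze39) (ke xe5 ye58 ze32) (ke xe3 ye1 ze2) (ke xe3 ye2 ze43) (ke xe5 ye57 ze47) (ke xe7 ye27 ze12) (ke xe1 ye48 ze42) (ke xe6 ye17 ze30) (ke xe3 ye14 ze3) (ke xe7 ye27 ze21) (ke xe1 ye48 ze44) (ke xe7 ye27 ze26) (ke xe1 ye48 ze45) (ke xe5 ye14 ze29) (ke xe1 ye48 ze46) (ke xe1 ye48 ze47) (ke xe7 ye27 ze32) (ke xe1 ye48 ze49) (ke xe7 ye27 ze38) (ke xe1 ye48 ze50) (ke xe1 ye48 ze51) (ke xe7 ye27 ze41) (ke xe7 ye27 ze43) (ke xe7 ye27 ze45) (ke xe7 ye27 ze46) (ke xe1 ye48 ze52) (ke xe1 ye48 ze53) (ke xe7 ye27 ze57) (ke xe7 ye27 ze60) (ke xe7 ye27 ze53) (ke xe3 ye31 ze22) (ke xe7 ye4 ze56) (ke xe3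 ye54 ze34) (ke xe3 ye25 ze2) (ke xe7 ye28 ze9) (ke xe7 ye28 ze11) (ke xe7 ye28 ze12) (ke xe1 ye48 ze59) (ke xe1 ye48 ze60) (ke xe7 ye28 ze20) (ke xe7 ye28 ze23) (ke xe7 ye28 ze17) (ke xe7 ye28 ze29) (ke xe7 ye28 ze32) (ke xe7 ye28 ze34) (ke xe7 ye28 ze38) (ke xe1 ye49 ze0) (ke xe1 ye49 ze1) (ke xe7 ye28 ze45) (ke xe3 ye31 ze26)) (@D3.rec (fun _ => Pt) (ke xe7 ye28 ze52) (ke xe7 ye28 ze53) (ke xe7 ye28 ze54) (ke xe1 ye49 ze3) (ke xe1 ye49 ze4) (ke xe7 ye28 ze60) (ke xe7 ye29 ze4) (ke xe1 ye49 ze6) (ke xe7 ye29 ze10) (ke xe1 ye49 ze7) (ke xe7 ye29 ze14) (ke xe1 ye49 ze8) (ke xe7 ye29 ze22) (ke xe7 ye29 ze26) (ke xe1 ye49 ze12) (ke xe3 ye41 ze34) (ke xe7 ye29 ze34) (ke xe7 ye29 ze36) (ke xe1 ye49 ze10) (ke xe7 ye29 ze41) (ke xe7 ye29 ze43) (ke xe1 ye49 ze11) (ke xe7 ye29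 ze46) (ke xe7 ye29 ze49) (ke xe7 ye29 ze29) (ke xe1 ye49 ze13) (ke xe3 ye41 ze47) (ke xe7 ye29 ze58) (ke xe7 ye30 ze0) (ke xe1 ye49 ze14) (ke xe1 ye49 ze16) (ke xe7 ye30 ze6) (ke xe7 ye30 ze8) (ke xe1 ye49 ze17) (ke xe7 ye30 ze14) (ke xe7 ye30 ze17) (ke xe1 ye49 ze20) (ke xe7 ye10 ze34) (ke xe6 ye39 ze49) (ke xe1 ye50 ze60) (ke xe7 ye10 ze17) (ke xe1 ye49 ze25) (ke xe7 ye30 ze29) (ke xe7 ye30 ze34) (ke xe7 ye10 ze36) (ke xe7 ye5 ze29) (ke xe7 ye9 ze12) (ke xe3 ye37 ze43) (ke xe1 ye49 ze29) (ke xe7 ye30 ze40) (ke xe2 ye56 ze16) (ke xe1 ye49 ze30) (ke xe7 ye9 ze7) (ke xe6 ye58 ze55) (ke xe7 ye30 ze44) (ke xe7 ye30 ze45) (ke xe7 ye30 ze46) (ke xe1 ye49 ze33) (ke xe6 ye46 ze47) (ke xe1 ye49 ze34) (ke xe7 ye30 ze52) (ke xe7 ye6 ze61)) (@D3.rec (fun _ => Pt) (ke xe1 ye49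 ze36) (ke xe7 ye30 ze56) (ke xe3 ye48 ze9) (ke xe1 ye49 ze37) (ke xe7 ye30 ze59) (ke xe7 ye30 ze60) (ke xe1 ye49 ze39) (ke xe1 ye49 ze41) (ke xe7 ye31 ze0) (ke xe7 ye31 ze7) (ke xe7 ye31 ze8) (ke xe1 ye49 ze42) (ke xe1 ye49 ze44) (ke xe7 ye31 ze14) (ke xe7 ye31 ze15) (ke xe1 ye49 ze45) (ke xe7 ye31 ze19) (ke xe2 ye20 ze20) (ke xe7 ye31 ze23) (ke xe1 ye49 ze49) (ke xe6 ye30 ze0) (ke xe3 ye6 ze30) (ke xe6 ye58 ze60) (ke xe7 ye31 ze28) (ke xe1 ye49 ze51) (ke xe6 ye29 ze19) (ke xe7 ye31 ze33) (ke xe3 ye10 ze35) (ke xe6 ye26 ze54) (ke xe7 ye31 ze38) (ke xe6 ye11 ze15) (ke xe7 ye31 ze41) (ke xe1 ye49 ze53) (ke xe6 ye39 ze38) (ke xe3 ye6 ze26) (ke xe7 ye31 ze52) (ke xe3 ye8 ze25) (ke xe1 ye49 ze55) (ke xe7 ye31 ze56) (ke xe7 ye31 ze58) (ke xe7 ye31 ze60) (ke xe7 ye32 ze2)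 (ke xe1 ye49 ze57) (ke xe1 ye49 ze58) (ke xe7 ye32 ze7) (ke xe7 ye32 ze11) (ke xe7 ye32 ze12) (ke xe7 ye32 ze14) (ke xe1 ye49 ze60) (ke xe1 ye49 ze61) (ke xe7 ye32 ze21) (ke xe7 ye0 ze7) (ke xe7 ye32 ze28) (ke xe1 ye50 ze1) (ke xe1 ye50 ze2) (ke xe7 ye32 ze38) (ke xe7 ye32 ze41) (ke xe6 ye43 ze23) (ke xe3 ye37 ze45) (ke xe7 ye32 ze47) (ke xe1 ye50 ze4) (ke xe7 ye32 ze52)) (@D3.rec (fun _ => Pt) (ke xe1 ye50 ze5) (ke xe7 ye32 ze60) (ke xe7 ye33 ze2) (ke xe1 ye50 ze9) (ke xe6 ye46 ze61) (ke xe7 ye33 ze10) (ke xe7 ye33 ze13) (ke xe1 ye50 ze7) (ke xe7 ye33 ze17) (ke xe7 ye33 ze19) (ke xe1 ye50 ze8) (ke xe7 ye33 ze24) (ke xe7 ye33 ze28) (ke xe7 ye33 ze5) (ke xe5 ye18 ze4) (ke xe7 ye33 ze36) (ke xe7 ye33 ze38) (ke xe1 ye50 ze11) (ke xe7 ye7 ze24) (ke xe7 ye33 ze43) (ke xe7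 ye33 ze44) (ke xe7 ye33 ze45) (ke xe5 ye53 ze57) (ke xe1 ye50 ze15) (ke xe1 ye50 ze16) (ke xe7 ye33 ze51) (ke xe1 ye50 ze18) (ke xe1 ye50 ze19) (ke xe6 ye31 ze19) (ke xe7 ye33 ze53) (ke xe1 ye50 ze21) (ke xe6 ye39 ze42) (ke xe7 ye33 ze58) (ke xe7 ye33 ze60) (ke xe1 ye50 ze24) (ke xe5 ye57 ze34) (ke xe1 ye50 ze25) (ke xe1 ye50 ze26) (ke xe7 ye34 ze6) (ke xe6 ye1 ze21) (ke xe7 ye34 ze8) (ke xe1 ye50 ze27) (ke xe7 ye34 ze15) (ke xe7 ye34 ze17) (ke xe7 ye34 ze11) (ke xe7 ye34 ze24) (ke xe7 ye34 ze28) (ke xe1 ye50 ze32) (ke xe7 ye0 ze61) (ke xe7 ye34 ze34) (ke xe7 ye34 ze35) (ke xe1 ye50 ze30) (ke xe7 ye34 ze39) (ke xe7 ye34 ze40) (ke xe1 ye50 ze31) (ke xe7 ye34 ze42) (ke xe7 ye34 ze44) (ke xe7 ye34 ze46) (ke xe1 ye50 ze33) (ke xe7 ye34 ze48) (ke xe1 ye50 ze36) (ke xe7 ye34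 ze50)) (@D3.rec (fun _ => Pt) (ke xe7 ye34 ze51) (ke xe7 ye34 ze53) (ke xe1 ye50 ze37) (ke xe1 ye50 ze38) (ke xe7 ye33 ze27) (ke xe7 ye34 ze59) (ke xe7 ye10 ze18) (ke xe3 ye35 ze53) (ke xe3 ye31 ze50) (ke xe3 ye52 ze40) (ke xe1 ye50 ze42) (ke xe1 ye50 ze43) (ke xe3 ye36 ze14) (ke xe3 ye52 ze60) (ke xe7 ye35 ze12) (ke xe7 ye35 ze22) (ke xe7 ye35 ze23) (ke xe7 ye35 ze24) (ke xe1 ye50 ze45) (ke xe1 ye50 ze46) (ke xe7 ye35 ze31) (ke xe1 ye52 ze15) (ke xe7 ye35 ze35) (ke xe7 ye35 ze38) (ke xe7 ye35 ze39) (ke xe7 ye35 ze41) (ke xe1 ye50 ze48) (ke xe1 ye50 ze49) (ke xe7 ye35 ze47) (ke xe7 ye35 ze54) (ke xe7 ye35 ze55) (ke xe7 ye35 ze56) (ke xe1 ye50 ze51) (ke xe7 ye35 ze61) (ke xe7 ye36 ze0) (ke xe7 ye36 ze1) (ke xe1 ye50 ze52) (ke xe7 ye36 ze5) (ke xe1 ye50 ze53) (ke xe7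 ye36 ze12) (ke xe7 ye36 ze15) (ke xe7 ye36 ze19) (ke xe1 ye50 ze54) (ke xe7 ye36 ze27) (ke xe7 ye36 ze30) (ke xe7 ye36 ze22) (ke xe7 ye30 ze21) (ke xe7 ye36 ze38) (ke xe7 ye36 ze42) (ke xe1 ye50 ze59) (ke xe6 ye39 ze50) (ke xe7 ye36 ze49) (ke xe7 ye36 ze52) (ke xe1 ye50 ze57) (ke xe7 ye36 ze56) (ke xe7 ye11 ze30) (ke xe5 ye24 ze38) (ke xe1 ye50 ze58) (ke xe7 ye36 ze60) (ke xe7 ye37 ze1) (ke xe7 ye36 ze45) (ke xe7 ye37 ze5)) (@D3.rec (fun _ => Pt) (ke xe3 ye53 ze12) (ke xe7 ye5 ze56) (ke xe3 ye53 ze22) (ke xe7 ye37 ze15) (ke xe3 ye53 ze21) (ke xe1 ye51 ze2) (ke xe7 ye37 ze20) (ke xe7 ye37 ze22) (ke xe1 ye51 ze3) (ke xe3 ye45 ze2) (ke xe7 ye9 ze46) (ke xe7 ye37 ze24) (ke xe7 ye37 ze25) (ke xe1 ye51 ze6) (ke xe1 ye51 ze7) (ke xe7 ye37 ze31) (ke xe3 ye31 ze17) (ke xe7 ye37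 ze38) (ke xe7 ye37 ze39) (ke xe1 ye51 ze10) (ke xe7 ye37 ze43) (ke xe7 ye37 ze45) (ke xe7 ye37 ze46) (ke xe1 ye51 ze12) (ke xe7 ye32 ze48) (ke xe1 ye52 ze60) (ke xe7 ye37 ze55) (ke xe7 ye37 ze56) (ke xe1 ye51 ze14) (ke xe7 ye32 ze55) (ke xe7 ye38 ze0) (ke xe1 ye51 ze16) (ke xe1 ye51 ze17) (ke xe1 ye51 ze18) (ke xe7 ye38 ze10) (ke xe7 ye38 ze14) (ke xe7 ye38 ze5) (ke xe7 ye9 ze48) (ke xe7 ye38 ze17) (ke xe1 ye51 ze20) (ke xe7 ye38 ze23) (ke xe1 ye51 ze21) (ke xe7 ye38 ze29) (ke xe7 ye38 ze33) (ke xe1 ye51 ze25) (ke xe7 ye35 ze13) (ke xe7 ye38 ze41) (ke xe7 ye38 ze44) (ke xe1 ye51 ze23) (ke xe7 ye38 ze49) (ke xe7 ye38 ze51) (ke xe1 ye51 ze24) (ke xe7 ye38 ze55) (ke xe7 ye38 ze58) (ke xe7 ye38 ze36) (ke xe5 ye27 ze30) (ke xe7 ye39 ze0) (ke xe7 ye39 ze3) (ke xe1 ye51 ze27)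 (ke xe3 ye36 ze12) (ke xe7 ye39 ze7) (ke xe1 ye51 ze30)) (@D3.rec (fun _ => Pt) (ke xe6 ye52 ze23) (ke xe3 ye53 ze7) (ke xe3 ye28 ze52) (ke xe7 ye8 ze36) (ke xe7 ye39 ze11) (ke xe7 ye39 ze12) (ke xe7 ye39 ze13) (ke xe7 ye39 ze14) (ke xe1 ye51 ze34) (ke xe1 ye51 ze35) (ke xe7 ye39 ze18) (ke xe3 ye32 ze0) (ke xe1 ye51 ze38) (ke xe6 ye34 ze3) (ke xe7 ye18 ze43) (ke xe3 ye28 ze54) (ke xe7 ye15 ze17) (ke xe7 ye39 ze24) (ke xe1 ye51 ze41) (ke xe1 ye51 ze42) (ke xe7 ye39 ze30) (ke xe1 ye51 ze43) (ke xe7 ye39 ze36) (ke xe7 ye39 ze38) (ke xe7 ye39 ze40) (ke xe1 ye51 ze44) (ke xe7 ye10 ze9) (ke xe7 ye39 ze48) (ke xe7 ye39 ze43) (ke xe7 ye15 ze26) (ke xe7 ye39 ze56) (ke xe7 ye39 ze60) (ke xe1 ye51 ze49) (ke xe7 ye34 ze60) (ke xe7 ye5 ze60) (ke xe3 ye35 ze36) (ke xe7 ye40 ze6)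 (ke xe7 ye40 ze10) (ke xe7 ye40 ze12) (ke xe1 ye51 ze48) (ke xe7 ye40 ze16) (ke xe7 ye40 ze19) (ke xe7 ye40 ze1) (ke xe7 ye40 ze24) (ke xe7 ye40 ze26) (ke xe7 ye40 ze27) (ke xe1 ye51 ze51) (ke xe3 ye24 ze60) (ke xe7 ye40 ze31) (ke xe1 ye51 ze54) (ke xe3 ye35 ze49) (ke xe7 ye40 ze36) (ke xe3 ye28 ze60) (ke xe7 ye40 ze42) (ke xe7 ye15 ze28) (ke xe7 ye40 ze47) (ke xe7 ye40 ze48) (ke xe1 ye51 ze57) (ke xe7 ye40 ze53) (ke xe7 ye40 ze55) (ke xe7 ye40 ze56) (ke xe1 ye51 ze58)) (@D3.rec (fun _ => Pt) (ke xe7 ye40 ze59) (ke xe1 ye51 ze59) (ke xe7 ye41 ze3) (ke xe1 ye51 ze60) (ke xe7 ye41 ze9) (ke xe7 ye31 ze31) (ke xe1 ye51 ze61) (ke xe7 ye41 ze19) (ke xe7 ye41 ze23) (ke xe7 ye41 ze14) (ke xe7 ye9 ze51) (ke xe6 ye53 ze2) (ke xe7 ye9 ze52) (ke xe7 ye41 ze29) (ke xe1 ye52 ze2)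 (ke xe7 ye41 ze36) (ke xe7 ye41 ze39) (ke xe1 ye52 ze4) (ke xe7 ye35 ze48) (ke xe7 ye41 ze45) (ke xe7 ye41 ze42) (ke xe7 ye41 ze50) (ke xe7 ye41 ze51) (ke xe1 ye52 ze6) (ke xe7 ye41 ze55) (ke xe7 ye41 ze56) (ke xe1 ye52 ze7) (ke xe7 ye41 ze60) (ke xe1 ye52 ze8) (ke xe7 ye42 ze3) (ke xe7 ye42 ze4) (ke xe1 ye52 ze9) (ke xe7 ye42 ze8) (ke xe7 ye42 ze9) (ke xe1 ye52 ze10) (ke xe7 ye10 ze27) (ke xe7 ye42 ze18) (ke xe7 ye42 ze12) (ke xe7 ye35 ze28) (ke xe7 ye42 ze24) (ke xe7 ye42 ze27) (ke xe1 ye52 ze14) (ke xe7 ye35 ze32) (ke xe7 ye42 ze32) (ke xe7 ye42 ze34) (ke xe7 ye42 ze30) (ke xe7 ye42 ze39) (ke xe7 ye42 ze41) (ke xe7 ye42 ze42) (ke xe7 ye42 ze44) (ke xe1 ye52 ze16) (ke xe1 ye52 ze17) (ke xe7 ye42 ze49) (ke xe1 ye52 ze19) (ke xe7 ye11 ze15) (ke xe3 ye25 ze10) (ke xe7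 ye42 ze55) (ke xe3 ye26 ze16) (ke xe7 ye43 ze4) (ke xe1 ye52 ze21) (ke xe7 ye43 ze8) (ke xe7 ye43 ze12)) (@D3.rec (fun _ => Pt) (ke xe1 ye52 ze22) (ke xe7 ye43 ze20) (ke xe7 ye43 ze24) (ke xe1 ye52 ze26) (ke xe2 ye56 ze42) (ke xe7 ye43 ze31) (ke xe7 ye43 ze35) (ke xe1 ye52 ze24) (ke xe7 ye5 ze30) (ke xe7 ye43 ze41) (ke xe7 ye43 ze44) (ke xe7 ye43 ze47) (ke xe7 ye43 ze26) (ke xe7 ye43 ze53) (ke xe7 ye43 ze54) (ke xe7 ye43 ze58) (ke xe1 ye52 ze28) (ke xe7 ye44 ze3) (ke xe2 ye56 ze30) (ke xe6 ye34 ze9) (ke xe7 ye1 ze30) (ke xe7 ye44 ze9) (ke xe1 ye52 ze30) (ke xe7 ye44 ze15) (ke xe7 ye44 ze17) (ke xe3 ye37 ze51) (ke xe7 ye1 ze44) (ke xe7 ye44 ze23) (ke xe7 ye44 ze25) (ke xe7 ye44 ze26) (ke xe1 ye52 ze32) (ke xe7 ye44 ze32) (ke xe7 ye44 ze33) (ke xe6 ye33 ze42) (ke xe6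 ye36 ze0) (ke xe7 ye44 ze43) (ke xe7 ye44 ze47) (ke xe7 ye44 ze51) (ke xe1 ye52 ze34) (ke xe7 ye44 ze58) (ke xe7 ye44 ze60) (ke xe7 ye45 ze0) (ke xe1 ye52 ze35) (ke xe7 ye45 ze7) (ke xe7 ye45 ze11) (ke xe1 ye52 ze49) (ke xe7 ye45 ze17) (ke xe1 ye52 ze37) (ke xe7 ye45 ze22) (ke xe7 ye45 ze26) (ke xe1 ye52 ze54) (ke xe7 ye40 ze51) (ke xe7 ye45 ze33) (ke xe7 ye45 ze35) (ke xe7 ye45 ze39) (ke xe1 ye52 ze39) (ke xe6 ye34 ze0) (ke xe6 ye57 ze37) (ke xe7 ye45 ze45) (ke xe1 ye52 ze40) (ke xe7 ye45 ze48) (ke xe7 ye45 ze50)) (@D3.rec (fun _ => Pt) (ke xe7 ye45 ze54) (ke xe1 ye52 ze41) (ke xe7 ye45 ze57) (ke xe7 ye24 ze50) (ke xe7 ye41 ze59) (ke xe7 ye46 ze0) (ke xe7 ye11 ze33) (ke xe1 ye52 ze43) (ke xe5 ye24 ze30) (ke xe5 ye24 ze39) (ke xe6 ye57 ze17) (ke xe7 ye46 ze9) (ke xe7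 ye46 ze13) (ke xe7 ye33 ze39) (ke xe1 ye52 ze47) (ke xe7 ye46 ze21) (ke xe7 ye46 ze23) (ke xe6 ye58 ze44) (ke xe1 ye52 ze48) (ke xe7 ye46 ze29) (ke xe7 ye46 ze31) (ke xe7 ye45 ze14) (ke xe7 ye46 ze37) (ke xe7 ye46 ze38) (ke xe1 ye52 ze50) (ke xe7 ye46 ze41) (ke xe7 ye46 ze44) (ke xe7 ye46 ze48) (ke xe1 ye52 ze52) (ke xe7 ye6 ze50) (ke xe7 ye46 ze52) (ke xe7 ye46 ze55) (ke xe7 ye46 ze58) (ke xe7 ye45 ze29) (ke xe7 ye30 ze55) (ke xe1 ye52 ze56) (ke xe7 ye47 ze4) (ke xe6 ye56 ze53) (ke xe1 ye52 ze57) (ke xe3 ye27 ze53) (ke xe3 ye47 ze9) (ke xe3 ye34 ze44) (ke xe1 ye52 ze58) (ke xe1 ye54 ze17) (ke xe3 ye38 ze4) (ke xe7 ye37 ze50) (ke xe7 ye47 ze14) (ke xe6 ye43 ze28) (ke xe7 ye47 ze19) (ke xe7 ye47 ze23) (ke xe1 ye52 ze61) (ke xe7 ye47 ze29) (ke xe7 ye47 ze33) (ke xe7 ye47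 ze35) (ke xe1 ye53 ze0) (ke xe3 ye36 ze13) (ke xe7 ye47 ze38) (ke xe3 ye32 ze29) (ke xe1 ye54 ze24) (ke xe3 ye32 ze30) (ke xe3 ye47 ze13) (ke xe7 ye47 ze54)) (@D3.rec (fun _ => Pt) (ke xe7 ye47 ze55) (ke xe1 ye53 ze4) (ke xe3 ye39 ze12) (ke xe1 ye53 ze7) (ke xe7 ye47 ze60) (ke xe7 ye48 ze2) (ke xe1 ye53 ze8) (ke xe3 ye49 ze1) (ke xe3 ye31 ze56) (ke xe3 ye36 ze39) (ke xe7 ye10 ze7) (ke xe1 ye53 ze50) (ke xe3 ye48 ze0) (ke xe7 ye39 ze28) (ke xe7 ye48 ze7) (ke xe7 ye48 ze11) (ke xe1 ye53 ze11) (ke xe7 ye48 ze16) (ke xe1 ye53 ze12) (ke xe7 ye10 ze15) (ke xe7 ye48 ze19) (ke xe3 ye48 ze4) (ke xe3 ye48 ze2) (ke xe7 ye48 ze27) (ke xe1 ye54 ze44) (ke xe1 ye53 ze17) (ke xe7 ye48 ze29) (ke xe7 ye48 ze33) (ke xe1 ye53 ze18) (ke xe3 ye36 ze15) (ke xe7 ye48 ze37) (ke xe3 ye38 ze51)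 (ke xe3 ye38 ze57) (ke xe6 ye58 ze37) (ke xe7 ye48 ze44) (ke xe7 ye48 ze46) (ke xe7 ye48 ze48) (ke xe1 ye53 ze25) (ke xe7 ye48 ze51) (ke xe1 ye53 ze26) (ke xe1 ye53 ze27) (ke xe7 ye48 ze59) (ke xe7 ye48 ze60) (ke xe1 ye53 ze28) (ke xe3 ye37 ze8) (ke xe7 ye49 ze4) (ke xe7 ye49 ze9) (ke xe7 ye49 ze10) (ke xe1 ye53 ze31) (ke xe7 ye8 ze54) (ke xe6 ye58 ze13) (ke xe7 ye49 ze15) (ke xe7 ye49 ze17) (ke xe1 ye53 ze33) (ke xe7 ye49 ze22) (ke xe1 ye53 ze34) (ke xe1 ye53 ze35) (ke xe7 ye49 ze32) (ke xe7 ye49 ze29) (ke xe3 ye54 ze53) (ke xe3 ye41 ze59) (ke xe7 ye49 ze39)) (@D3.rec (fun _ => Pt) (ke xe3 ye24 ze51) (ke xe1 ye53 ze38) (ke xe7 ye49 ze42) (ke xe7 ye49 ze43) (ke xe7 ye49 ze44) (ke xe1 ye53 ze40) (ke xe7 ye23 ze23) (ke xe1 ye54 ze51) (ke xe7 ye49 ze52) (ke xe7 ye49 ze53)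 (ke xe7 ye49 ze54) (ke xe1 ye53 ze42) (ke xe7 ye23 ze28) (ke xe7 ye50 ze0) (ke xe1 ye53 ze44) (ke xe7 ye50 ze7) (ke xe5 ye43 ze23) (ke xe1 ye53 ze48) (ke xe3 ye55 ze12) (ke xe7 ye50 ze17) (ke xe7 ye50 ze20) (ke xe1 ye53 ze46) (ke xe7 ye50 ze24) (ke xe7 ye50 ze26) (ke xe1 ye53 ze47) (ke xe7 ye50 ze30) (ke xe7 ye50 ze33) (ke xe7 ye50 ze12) (ke xe7 ye50 ze39) (ke xe3 ye35 ze58) (ke xe3 ye55 ze22) (ke xe7 ye50 ze45) (ke xe7 ye50 ze49) (ke xe1 ye53 ze51) (ke xe3 ye43 ze44) (ke xe7 ye4 ze13) (ke xe7 ye26 ze10) (ke xe7 ye11 ze54) (ke xe1 ye53 ze54) (ke xe7 ye51 ze1) (ke xe7 ye51 ze3) (ke xe1 ye53 ze55) (ke xe7 ye51 ze9) (ke xe1 ye53 ze56) (ke xe3 ye28 ze13) (ke xe7 ye51 ze11) (ke xe3 ye31 ze21) (ke xe7 ye51 ze14) (ke xe7 ye51 ze15) (ke xe1 ye53 ze60) (ke xe1 ye53 ze61) (ke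 xe3 ye56 ze21) (ke xe7 ye51 ze22) (ke xe3 ye53 ze59) (ke xe3 ye31 ze52) (ke xe3 ye56 ze27) (ke xe3 ye25 ze18) (ke xe6 ye52 ze12) (ke xe7 ye51 ze34) (ke xe7 ye51 ze36) (ke xe7 ye51 ze37) (ke xe1 ye54 ze5)) (@D3.rec (fun _ => Pt) (ke xe7 ye29 ze7) (ke xe7 ye51 ze44) (ke xe7 ye51 ze45) (ke xe7 ye51 ze46) (ke xe1 ye54 ze7) (ke xe7 ye29 ze11) (ke xe1 ye55 ze0) (ke xe7 ye51 ze58) (ke xe1 ye54 ze9) (ke xe7 ye52 ze4) (ke xe7 ye52 ze8) (ke xe1 ye54 ze13) (ke xe3 ye54 ze18) (ke xe6 ye57 ze61) (ke xe7 ye52 ze17) (ke xe7 ye52 ze21) (ke xe7 ye52 ze23) (ke xe1 ye54 ze12) (ke xe7 ye52 ze26) (ke xe5 ye35 ze18) (ke xe7 ye52 ze11) (ke xe7 ye52 ze33) (ke xe3 ye54 ze30) (ke xe6 ye51 ze25) (ke xe7 ye52 ze42) (ke xe7 ye52 ze44) (ke xe7 ye52 ze46) (ke xe1 ye54 ze18) (ke xe3 ye30 ze24) (ke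 xe6 ye51 ze39) (ke xe7 ye52 ze52) (ke xe7 ye52 ze55) (ke xe1 ye54 ze21) (ke xe6 ye51 ze35) (ke xe7 ye52 ze58) (ke xe7 ye52 ze60) (ke xe7 ye16 ze34) (ke xe7 ye53 ze2) (ke xe7 ye17 ze50) (ke xe7 ye53 ze4) (ke xe1 ye54 ze26) (ke xe7 ye53 ze6) (ke xe1 ye54 ze27) (ke xe3 ye40 ze20) (ke xe6 ye57 ze33) (ke xe7 ye53 ze9) (ke xe7 ye53 ze17) (ke xe1 ye54 ze30) (ke xe5 ye26 ze17) (ke xe1 ye54 ze31) (ke xe7 ye11 ze32) (ke xe7 ye53 ze21) (ke xe7 ye11 ze20) (ke xe3 ye25 ze23) (ke xe1 ye54 ze36) (ke xe3 ye27 ze35) (ke xe7 ye53 ze33) (ke xe7 ye53 ze37) (ke xe1 ye54 ze37) (ke xe6 ye52 ze47) (ke xe7 ye53 ze41) (ke xe3 ye41 ze45)) (@D3.rec (fun _ => Pt) (ke xe3 ye41 ze51) (ke xe3 ye56 ze41) (ke xe7 ye53 ze47) (ke xe1 ye54 ze52) (ke xe7 ye53 ze51) (ke xe7 ye53 ze54) (ke xe3 ye42 ze0) (ke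 xe7 ye20 ze28) (ke xe7 ye53 ze61) (ke xe7 ye54 ze2) (ke xe3 ye56 ze19) (ke xe1 ye54 ze48) (ke xe6 ye58 ze4) (ke xe7 ye49 ze48) (ke xe6 ye30 ze44) (ke xe7 ye54 ze9) (ke xe7 ye54 ze13) (ke xe7 ye54 ze16) (ke xe7 ye54 ze19) (ke xe3 ye56 ze10) (ke xe1 ye54 ze53) (ke xe3 ye54 ze51) (ke xe3 ye27 ze56) (ke xe7 ye54 ze26) (ke xe3 ye31 ze57) (ke xe3 ye31 ze58) (ke xe7 ye54 ze35) (ke xe3 ye54 ze55) (ke xe3 ye27 ze54) (ke xe7 ye25 ze57) (ke xe7 ye54 ze45) (ke xe7 ye54 ze48) (ke xe7 ye54 ze49) (ke xe1 ye54 ze60) (ke xe7 ye51 ze50) (ke xe7 ye54 ze55) (ke xe7 ye54 ze58) (ke xe7 ye54 ze61) (ke xe7 ye55 ze2) (ke xe7 ye55 ze5) (ke xe1 ye55 ze2) (ke xe3 ye56 ze1) (ke xe3 ye34 ze1) (ke xe7 ye55 ze8) (ke xe3 ye34 ze47) (ke xe7 ye55 ze16) (ke xe1 ye55 ze5) (ke xe7 ye11 ze14) (ke xe7 ye55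 ze21) (ke xe1 ye55 ze6) (ke xe7 ye9 ze35) (ke xe7 ye9 ze43) (ke xe7 ye55 ze25) (ke xe7 ye55 ze26) (ke xe1 ye55 ze19) (ke xe7 ye55 ze29) (ke xe7 ye55 ze31) (ke xe1 ye55 ze12) (ke xe7 ye55 ze32) (ke xe7 ye55 ze34) (ke xe1 ye55 ze13) (ke xe1 ye59 ze13)) (@D3.rec (fun _ => Pt) (ke xe7 ye55 ze39) (ke xe1 ye55 ze15) (ke xe7 ye55 ze44) (ke xe1 ye55 ze17) (ke xe1 ye55 ze18) (ke xe7 ye55 ze52) (ke xe7 ye55 ze55) (ke xe7 ye55 ze27) (ke xe7 ye55 ze61) (ke xe7 ye56 ze0) (ke xe1 ye55 ze20) (ke xe7 ye56 ze4) (ke xe7 ye56 ze6) (ke xe1 ye55 ze21) (ke xe7 ye56 ze9) (ke xe1 ye55 ze22) (ke xe2 ye3 ze13) (ke xe7 ye8 ze25) (ke xe7 ye56 ze16) (ke xe1 ye55 ze24) (ke xe7 ye7 ze11) (ke xe7 ye56 ze19) (ke xe1 ye55 ze27) (ke xe7 ye8 ze10) (ke xe7 ye56 ze21) (ke xe1 ye55 ze29) (ke xe7 ye56 ze22)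 (ke xe1 ye55 ze30) (ke xe3 ye36 ze57) (ke xe1 ye55 ze44) (ke xe7 ye56 ze28) (ke xe4 ye36 ze11) (ke xe7 ye56 ze31) (ke xe7 ye56 ze33) (ke xe7 ye56 ze35) (ke xe1 ye55 ze32) (ke xe7 ye56 ze39) (ke xe7 ye56 ze40) (ke xe7 ye56 ze41) (ke xe3 ye32 ze23) (ke xe1 ye55 ze35) (ke xe7 ye56 ze49) (ke xe7 ye7 ze38) (ke xe4 ye20 ze38) (ke xe7 ye56 ze52) (ke xe1 ye55 ze38) (ke xe7 ye56 ze57) (ke xe7 ye7 ze57) (ke xe7 ye56 ze61) (ke xe1 ye55 ze40) (ke xe7 ye57 ze2) (ke xe1 ye57 ze59) (ke xe7 ye57 ze5) (ke xe1 ye55 ze42) (ke xe7 ye57 ze9) (ke xe7 ye57 ze11) (ke xe1 ye55 ze43) (ke xe7 ye57 ze14) (ke xe7 ye57 ze15) (ke xe7 ye57 ze18) (ke xe7 ye57 ze21) (ke xe1 ye55 ze45)) (@D3.rec (fun _ => Pt) (ke xe7 ye57 ze27) (ke xe7 ye57 ze30) (ke xe4 ye26 ze42) (ke xe4 ye13 ze24) (ke xe2 ye24 ze60)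 (ke xe2 ye25 ze6) (ke xe7 ye57 ze38) (ke xe7 ye57 ze40) (ke xe7 ye57 ze42) (ke xe7 ye57 ze44) (ke xe4 ye6 ze15) (ke xe7 ye57 ze48) (ke xe7 ye57 ze50) (ke xe1 ye55 ze54) (ke xe7 ye57 ze52) (ke xe1 ye55 ze55) (ke xe7 ye57 ze55) (ke xe7 ye57 ze60) (ke xe1 ye55 ze56) (ke xe7 ye58 ze0) (ke xe7 ye58 ze4) (ke xe1 ye55 ze58) (ke xe7 ye58 ze7) (ke xe1 ye55 ze59) (ke xe7 ye58 ze10) (ke xe7 ye58 ze14) (ke xe1 ye55 ze61) (ke xe7 ye58 ze18) (ke xe7 ye58 ze21) (ke xe1 ye56 ze0) (ke xe7 ye58 ze28) (ke xe7 ye58 ze31) (ke xe4 ye6 ze40) (ke xe7 ye58 ze39) (ke xe7 ye58 ze41) (ke xe1 ye56 ze2) (ke xe7 ye58 ze45) (ke xe1 ye56 ze3) (ke xe2 ye44 ze23) (ke xe7 ye58 ze51) (ke xe2 ye25 ze54) (ke xe7 ye58 ze52) (ke xe4 ye6 ze56) (ke xe2 ye25 ze48) (ke xe7 ye58 ze57) (ke xe7 ye58 ze61) (ke xe4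 ye6 ze61) (ke xe7 ye59 ze3) (ke xe1 ye56 ze7) (ke xe5 ye3 ze40) (ke xe4 ye52 ze17) (ke xe1 ye56 ze9) (ke xe2 ye59 ze59) (ke xe2 ye49 ze54) (ke xe5 ye12 ze25) (ke xe2 ye59 ze58) (ke xe6 ye13 ze19) (ke xe7 ye59 ze11) (ke xe2 ye26 ze28) (ke xe7 ye59 ze14) (ke xe7 ye59 ze18) (ke xe1 ye56 ze14)) (@D3.rec (fun _ => Pt) (ke xe5 ye14 ze5) (ke xe7 ye59 ze23) (ke xe7 ye59 ze26) (ke xe7 ye59 ze28) (ke xe1 ye56 ze15) (ke xe7 ye59 ze32) (ke xe7 ye59 ze35) (ke xe7 ye23 ze30) (ke xe7 ye59 ze40) (ke xe1 ye56 ze17) (ke xe7 ye59 ze45) (ke xe7 ye59 ze46) (ke xe1 ye56 ze19) (ke xe7 ye59 ze48) (ke xe6 ye2 ze4) (ke xe7 ye59 ze50) (ke xe1 ye56 ze21) (ke xe3 ye6 ze54) (ke xe1 ye56 ze22) (ke xe7 ye59 ze54) (ke xe7 ye59 ze13) (ke xe7 ye59 ze56) (ke xe7 ye59 ze58) (ke xe1 ye56 ze23) (ke xe8 ye0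 ze3) (ke xe1 ye56 ze24) (ke xe2 ye52 ze6) (ke xe8 ye0 ze4) (ke xe8 ye0 ze6) (ke xe8 ye0 ze7) (ke xe1 ye56 ze26) (ke xe8 ye0 ze10) (ke xe4 ye33 ze33) (ke xe1 ye56 ze27) (ke xe8 ye0 ze16) (ke xe1 ye56 ze28) (ke xe5 ye41 ze35) (ke xe8 ye0 ze17) (ke xe2 ye30 ze57) (ke xe8 ye0 ze21) (ke xe1 ye56 ze30) (ke xe8 ye0 ze25) (ke xe8 ye0 ze28) (ke xe1 ye56 ze31) (ke xe8 ye0 ze32) (ke xe8 ye0 ze35) (ke xe1 ye56 ze32) (ke xe8 ye0 ze38) (ke xe8 ye0 ze23) (ke xe1 ye56 ze33) (ke xe8 ye0 ze47) (ke xe6 ye25 ze50) (ke xe3 ye21 ze23) (ke xe8 ye0 ze55) (ke xe2 ye50 ze53) (ke xe1 ye56 ze35) (ke xe6 ye25 ze49) (ke xe5 ye37 ze33) (ke xe1 ye59 ze27) (ke xe3 ye33 ze46) (ke xe1 ye56 ze41) (ke xe3 ye33 ze5))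
def f_e_4 : D2 → D3 → Pt := @D2.rec (fun _ => D3 → Pt) (@D3.rec (fun _ => Pt) (ke xe1 ye56 ze51) (ke xe8 ye1 ze6) (ke xe2 ye26 ze53) (ke xe8 ye1 ze9) (ke xe1 ye56 ze47) (ke xe8 ye1 ze13) (ke xe8 ye1 ze14) (ke xe4 ye27 ze4) (ke xe8 ye1 ze16) (ke xe8 ye1 ze17) (ke xe1 ye56 ze52) (ke xe8 ye1 ze23) (ke xe8 ye1 ze26) (ke xe6 ye13 ze37) (ke xe8 ye1 ze28) (ke xe1 ye56 ze54) (ke xe8 ye1 ze31) (ke xe1 ye56 ze55) (ke xe4 ye50 ze58) (ke xe8 ye1 ze39) (ke xe8 ye1 ze40) (ke xe1 ye56 ze57) (ke xe4 ye1 ze23) (ke xe1 ye57 ze31) (ke xe3 ye3 ze54) (ke xe8 ye1 ze45) (ke xe8 ye1 ze51) (ke xe1 ye57 ze10) (ke xe8 ye1 ze56) (ke xe8 ye1 ze58) (ke xe8 ye1 ze60) (ke xe1 ye56 ze61) (ke xe8 ye2 ze2) (ke xe1 ye57 ze0) (ke xe8 ye2 ze4) (ke xe8 ye2 ze6) (ke xe5 ye47 ze22) (ke xe1 ye57 ze2) (ke xe4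 ye26 ze33) (ke xe4 ye58 ze4) (ke xe8 ye2 ze10) (ke xe8 ye2 ze13) (ke xe8 ye2 ze14) (ke xe1 ye57 ze8) (ke xe6 ye13 ze23) (ke xe8 ye2 ze18) (ke xe8 ye2 ze19) (ke xe1 ye57 ze9) (ke xe8 ye2 ze23) (ke xe8 ye2 ze24) (ke xe8 ye2 ze26) (ke xe1 ye57 ze11) (ke xe8 ye2 ze30) (ke xe1 ye57 ze12) (ke xe1 ye57 ze13) (ke xe8 ye2 ze36) (ke xe8 ye2 ze39) (ke xe8 ye2 ze33) (ke xe8 ye2 ze32) (ke xe8 ye2 ze43) (ke xe4 ye21 ze0) (ke xe8 ye2 ze47)) (@D3.rec (fun _ => Pt) (ke xe1 ye57 ze18) (ke xe8 ye2 ze48) (ke xe1 ye57 ze23) (ke xe8 ye2 ze52) (ke xe8 ye2 ze53) (ke xe8 ye2 ze55) (ke xe1 ye57 ze21) (ke xe8 ye2 ze61) (ke xe1 ye57 ze22) (ke xe8 ye2 ze49) (ke xe1 ye57 ze24) (ke xe4 ye3 ze59) (ke xe8 ye3 ze10) (ke xe1 ye57 ze29) (ke xe4 ye56 ze61) (ke xe1 ye59 ze17) (ke xe2 ye3 ze17) (ke xe8 ye3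 ze17) (ke xe1 ye57 ze33) (ke xe8 ye3 ze19) (ke xe1 ye57 ze35) (ke xe2 ye57 ze50) (ke xe8 ye3 ze24) (ke xe4 ye0 ze22) (ke xe8 ye3 ze29) (ke xe8 ye3 ze31) (ke xe8 ye3 ze32) (ke xe1 ye57 ze40) (ke xe2 ye26 ze17) (ke xe8 ye3 ze37) (ke xe8 ye3 ze41) (ke xe8 ye3 ze42) (ke xe1 ye57 ze43) (ke xe8 ye3 ze45) (ke xe8 ye3 ze47) (ke xe8 ye3 ze49) (ke xe8 ye3 ze51) (ke xe1 ye57 ze45) (ke xe8 ye3 ze55) (ke xe8 ye3 ze58) (ke xe4 ye14 ze40) (ke xe8 ye4 ze0) (ke xe1 ye57 ze48) (ke xe8 ye4 ze5) (ke xe1 ye57 ze49) (ke xe8 ye4 ze7) (ke xe8 ye4 ze9) (ke xe8 ye4 ze12) (ke xe1 ye57 ze51) (ke xe8 ye4 ze15) (ke xe8 ye4 ze18) (ke xe1 ye57 ze52) (ke xe8 ye4 ze23) (ke xe8 ye4 ze26) (ke xe5 ye0 ze53) (ke xe8 ye4 ze34) (ke xe8 ye4 ze35) (ke xe1 ye57 ze54) (ke xe8 ye4 ze36) (ke xe8 ye2 ze58) (ke xe8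 ye4 ze38) (ke xe1 ye57 ze55)) (@D3.rec (fun _ => Pt) (ke xe4 ye23 ze6) (ke xe2 ye7 ze47) (ke xe3 ye10 ze9) (ke xe8 ye4 ze43) (ke xe8 ye4 ze45) (ke xe1 ye57 ze61) (ke xe6 ye13 ze5) (ke xe8 ye4 ze50) (ke xe8 ye4 ze51) (ke xe7 ye6 ze30) (ke xe8 ye4 ze53) (ke xe1 ye58 ze4) (ke xe2 ye8 ze50) (ke xe8 ye4 ze57) (ke xe8 ye4 ze58) (ke xe1 ye58 ze7) (ke xe8 ye5 ze2) (ke xe8 ye5 ze7) (ke xe3 ye3 ze59) (ke xe8 ye5 ze12) (ke xe8 ye5 ze14) (ke xe8 ye5 ze16) (ke xe8 ye5 ze18) (ke xe8 ye5 ze20) (ke xe1 ye58 ze9) (ke xe8 ye5 ze24) (ke xe1 ye58 ze10) (ke xe1 ye58 ze12) (ke xe1 ye58 ze13) (ke xe5 ye19 ze45) (ke xe8 ye5 ze37) (ke xe8 ye5 ze38) (ke xe1 ye58 ze15) (ke xe8 ye5 ze42) (ke xe8 ye5 ze43) (ke xe1 ye58 ze21) (ke xe8 ye5 ze47) (ke xe1 ye58 ze19) (ke xe1 ye58 ze20) (ke xe8 ye5 ze44)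 (ke xe8 ye5 ze59) (ke xe8 ye5 ze60) (ke xe1 ye58 ze22) (ke xe8 ye6 ze2) (ke xe1 ye58 ze23) (ke xe8 ye6 ze6) (ke xe1 ye58 ze24) (ke xe2 ye41 ze0) (ke xe8 ye6 ze10) (ke xe4 ye15 ze10) (ke xe1 ye58 ze26) (ke xe8 ye6 ze16) (ke xe8 ye6 ze19) (ke xe4 ye7 ze43) (ke xe8 ye6 ze28) (ke xe8 ye6 ze30) (ke xe1 ye58 ze28) (ke xe8 ye6 ze32) (ke xe4 ye19 ze14) (ke xe8 ye6 ze36) (ke xe1 ye58 ze29) (ke xe4 ye3 ze5)) (@D3.rec (fun _ => Pt) (ke xe4 ye16 ze59) (ke xe8 ye6 ze41) (ke xe1 ye58 ze31) (ke xe8 ye6 ze44) (ke xe1 ye58 ze32) (ke xe4 ye2 ze61) (ke xe8 ye6 ze46) (ke xe4 ye21 ze20) (ke xe8 ye6 ze51) (ke xe2 ye38 ze18) (ke xe1 ye58 ze34) (ke xe8 ye6 ze57) (ke xe1 ye58 ze35) (ke xe8 ye7 ze0) (ke xe8 ye7 ze3) (ke xe1 ye59 ze2) (ke xe8 ye7 ze11) (ke xe8 ye7 ze13) (ke xe1 ye58 ze37) (ke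 xe6 ye4 ze54) (ke xe8 ye7 ze18) (ke xe1 ye58 ze38) (ke xe2 ye24 ze13) (ke xe2 ye11 ze12) (ke xe8 ye7 ze22) (ke xe1 ye58 ze40) (ke xe8 ye7 ze27) (ke xe1 ye58 ze41) (ke xe8 ye7 ze31) (ke xe1 ye58 ze42) (ke xe8 ye6 ze37) (ke xe8 ye7 ze39) (ke xe1 ye58 ze45) (ke xe4 ye19 ze16) (ke xe8 ye7 ze42) (ke xe8 ye7 ze45) (ke xe8 ye7 ze46) (ke xe1 ye58 ze48) (ke xe8 ye7 ze47) (ke xe8 ye7 ze48) (ke xe8 ye7 ze51) (ke xe1 ye58 ze49) (ke xe4 ye27 ze44) (ke xe2 ye10 ze44) (ke xe8 ye7 ze54) (ke xe4 ye10 ze10) (ke xe8 ye7 ze59) (ke xe1 ye58 ze51) (ke xe8 ye8 ze2) (ke xe6 ye4 ze45) (ke xe1 ye58 ze54) (ke xe4 ye52 ze50) (ke xe8 ye8 ze6) (ke xe8 ye8 ze13) (ke xe1 ye58 ze56) (ke xe8 ye8 ze19) (ke xe1 ye58 ze57) (ke xe8 ye6 ze59) (ke xe8 ye8 ze29) (ke xe4 ye1 ze11) (ke xe8 ye3 ze2) (ke xe8 ye8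 ze33)) (@D3.rec (fun _ => Pt) (ke xe8 ye8 ze36) (ke xe1 ye58 ze59) (ke xe8 ye8 ze43) (ke xe1 ye58 ze60) (ke xe8 ye8 ze50) (ke xe8 ye6 ze52) (ke xe8 ye2 ze59) (ke xe8 ye8 ze57) (ke xe1 ye59 ze0) (ke xe8 ye9 ze2) (ke xe1 ye59 ze1) (ke xe8 ye9 ze10) (ke xe8 ye9 ze15) (ke xe8 ye7 ze6) (ke xe8 ye9 ze20) (ke xe8 ye9 ze21) (ke xe1 ye59 ze3) (ke xe1 ye59 ze4) (ke xe8 ye9 ze30) (ke xe8 ye9 ze34) (ke xe8 ye9 ze36) (ke xe1 ye59 ze6) (ke xe8 ye9 ze40) (ke xe8 ye9 ze42) (ke xe1 ye59 ze7) (ke xe8 ye9 ze48) (ke xe1 ye59 ze8) (ke xe6 ye7 ze0) (ke xe8 ye9 ze55) (ke xe1 ye59 ze11) (ke xe2 ye45 ze36) (ke xe4 ye4 ze45) (ke xe4 ye31 ze29) (ke xe8 ye9 ze58) (ke xe5 ye19 ze10) (ke xe8 ye10 ze0) (ke xe8 ye10 ze2) (ke xe1 ye59 ze18) (ke xe2 ye43 ze38) (ke xe8 ye10 ze8) (ke xe1 ye59 ze20) (ke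 xe8 ye10 ze14) (ke xe4 ye6 ze49) (ke xe1 ye59 ze23) (ke xe4 ye14 ze32) (ke xe4 ye4 ze31) (ke xe8 ye10 ze19) (ke xe1 ye59 ze26) (ke xe8 ye0 ze60) (ke xe8 ye10 ze29) (ke xe4 ye36 ze54) (ke xe4 ye27 ze0) (ke xe5 ye46 ze52) (ke xe7 ye14 ze29) (ke xe2 ye49 ze37) (ke xe8 ye10 ze38) (ke xe6 ye14 ze21) (ke xe8 ye10 ze41) (ke xe1 ye59 ze34) (ke xe8 ye10 ze45) (ke xe4 ye6 ze8) (ke xe4 ye15 ze3)) (@D3.rec (fun _ => Pt) (ke xe4 ye6 ze10) (ke xe4 ye6 ze11) (ke xe7 ye58 ze24) (ke xe8 ye10 ze54) (ke xe8 ye10 ze56) (ke xe2 ye25 ze13) (ke xe8 ye10 ze61) (ke xe8 ye11 ze2) (ke xe1 ye59 ze44) (ke xe8 ye11 ze5) (ke xe1 ye59 ze45) (ke xe8 ye11 ze8) (ke xe8 ye11 ze13) (ke xe1 ye59 ze46) (ke xe8 ye11 ze18) (ke xe8 ye11 ze21) (ke xe1 ye59 ze49) (ke xe8 ye11 ze24) (ke xe8 ye11 ze28) (ke xe1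 ye59 ze51) (ke xe8 ye11 ze32) (ke xe8 ye11 ze35) (ke xe1 ye59 ze52) (ke xe8 ye11 ze41) (ke xe8 ye11 ze44) (ke xe8 ye11 ze48) (ke xe8 ye11 ze50) (ke xe1 ye59 ze54) (ke xe1 ye59 ze55) (ke xe2 ye25 ze53) (ke xe8 ye11 ze58) (ke xe2 ye44 ze24) (ke xe8 ye11 ze59) (ke xe1 ye59 ze59) (ke xe1 ye59 ze60) (ke xe2 ye15 ze31) (ke xe7 ye30 ze36) (ke xe2 ye0 ze4) (ke xe2 ye53 ze21) (ke xe8 ye12 ze5) (ke xe2 ye53 ze9) (ke xe8 ye12 ze7) (ke xe2 ye0 ze7) (ke xe5 ye45 ze30) (ke xe8 ye12 ze13) (ke xe2 ye0 ze10) (ke xe2 ye0 ze11) (ke xe6 ye15 ze25) (ke xe2 ye44 ze46) (ke xe2 ye49 ze27) (ke xe8 ye12 ze22) (ke xe6 ye41 ze52) (ke xe2 ye0 ze13) (ke xe6 ye17 ze5) (ke xe8 ye12 ze28) (ke xe8 ye12 ze30) (ke xe8 ye12 ze32) (ke xe2 ye0 ze14) (ke xe8 ye12 ze37) (ke xe6 ye53 ze55) (ke xe8 ye12 ze41)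 (ke xe8 ye12 ze45)) (@D3.rec (fun _ => Pt) (ke xe2 ye0 ze16) (ke xe8 ye12 ze50) (ke xe5 ye51 ze11) (ke xe2 ye0 ze18) (ke xe8 ye12 ze54) (ke xe2 ye51 ze34) (ke xe8 ye12 ze55) (ke xe2 ye0 ze20) (ke xe4 ye4 ze60) (ke xe4 ye50 ze30) (ke xe4 ye5 ze0) (ke xe4 ye5 ze1) (ke xe4 ye55 ze32) (ke xe5 ye36 ze34) (ke xe8 ye13 ze5) (ke xe3 ye58 ze10) (ke xe8 ye13 ze9) (ke xe8 ye13 ze12) (ke xe2 ye0 ze29) (ke xe4 ye6 ze19) (ke xe8 ye13 ze16) (ke xe2 ye0 ze30) (ke xe8 ye13 ze18) (ke xe4 ye31 ze39) (ke xe8 ye13 ze24) (ke xe2 ye0 ze31) (ke xe8 ye13 ze30) (ke xe2 ye0 ze33) (ke xe8 ye13 ze32) (ke xe2 ye0 ze34) (ke xe8 ye13 ze35) (ke xe2 ye0 ze35) (ke xe8 ye13 ze36) (ke xe8 ye13 ze40) (ke xe2 ye0 ze37) (ke xe8 ye13 ze44) (ke xe8 ye13 ze47) (ke xe2 ye0 ze38) (ke xe8 ye13 ze52) (ke xe8 ye13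 ze54) (ke xe3 ye58 ze32) (ke xe8 ye14 ze1) (ke xe8 ye14 ze3) (ke xe2 ye0 ze40) (ke xe8 ye14 ze8) (ke xe2 ye0 ze41) (ke xe5 ye57 ze24) (ke xe5 ye36 ze60) (ke xe2 ye59 ze51) (ke xe4 ye4 ze42) (ke xe8 ye14 ze15) (ke xe2 ye0 ze45) (ke xe8 ye14 ze19) (ke xe2 ye0 ze47) (ke xe8 ye14 ze21) (ke xe2 ye0 ze49) (ke xe3 ye58 ze42) (ke xe5 ye39 ze50) (ke xe2 ye53 ze0) (ke xe8 ye14 ze31) (ke xe2 ye51 ze45) (ke xe3 ye58 ze46)) (@D3.rec (fun _ => Pt) (ke xe8 ye14 ze39) (ke xe8 ye14 ze40) (ke xe2 ye0 ze52) (ke xe2 ye0 ze53) (ke xe4 ye32 ze39) (ke xe6 ye8 ze13) (ke xe5 ye39 ze57) (ke xe4 ye31 ze4) (ke xe5 ye37 ze26) (ke xe5 ye37 ze27) (ke xe5 ye38 ze34) (ke xe5 ye49 ze17) (ke xe8 ye14 ze49) (ke xe4 ye43 ze30) (ke xe2 ye0 ze59) (ke xe7 ye27 ze4) (ke xe3 ye6 ze52) (ke xe6 ye29 ze43) (ke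 xe3 ye3 ze6) (ke xe2 ye0 ze61) (ke xe8 ye14 ze52) (ke xe8 ye14 ze54) (ke xe2 ye1 ze1) (ke xe2 ye52 ze2) (ke xe2 ye1 ze2) (ke xe8 ye14 ze58) (ke xe2 ye52 ze27) (ke xe8 ye14 ze60) (ke xe2 ye1 ze4) (ke xe2 ye35 ze13) (ke xe8 ye15 ze2) (ke xe2 ye1 ze6) (ke xe8 ye15 ze4) (ke xe8 ye15 ze6) (ke xe8 ye15 ze7) (ke xe4 ye13 ze40) (ke xe8 ye15 ze10) (ke xe8 ye15 ze13) (ke xe2 ye1 ze10) (ke xe8 ye15 ze19) (ke xe2 ye1 ze12) (ke xe8 ye15 ze24) (ke xe8 ye15 ze27) (ke xe4 ye2 ze53) (ke xe8 ye15 ze36) (ke xe8 ye15 ze38) (ke xe2 ye1 ze14) (ke xe8 ye15 ze40) (ke xe2 ye1 ze15) (ke xe8 ye15 ze42) (ke xe8 ye15 ze43) (ke xe5 ye16 ze55) (ke xe8 ye15 ze46) (ke xe8 ye15 ze48) (ke xe2 ye1 ze18) (ke xe8 ye15 ze51) (ke xe4 ye13 ze47) (ke xe8 ye15 ze55) (ke xe8 ye15 ze58) (ke xe2 ye1 ze21) (ke xe2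 ye1 ze59) (ke xe2 ye41 ze47)) (@D3.rec (fun _ => Pt) (ke xe8 ye16 ze1) (ke xe2 ye1 ze23) (ke xe8 ye16 ze7) (ke xe8 ye16 ze10) (ke xe5 ye16 ze58) (ke xe8 ye16 ze19) (ke xe8 ye16 ze21) (ke xe2 ye1 ze25) (ke xe8 ye16 ze23) (ke xe2 ye1 ze26) (ke xe8 ye16 ze25) (ke xe2 ye1 ze27) (ke xe4 ye16 ze1) (ke xe8 ye16 ze29) (ke xe2 ye1 ze28) (ke xe8 ye16 ze34) (ke xe2 ye1 ze30) (ke xe8 ye16 ze37) (ke xe8 ye16 ze40) (ke xe2 ye1 ze32) (ke xe8 ye16 ze45) (ke xe2 ye1 ze33) (ke xe8 ye16 ze50) (ke xe8 ye16 ze53) (ke xe4 ye15 ze33) (ke xe8 ye16 ze61) (ke xe8 ye17 ze0) (ke xe2 ye1 ze35) (ke xe7 ye55 ze41) (ke xe8 ye17 ze4) (ke xe2 ye1 ze36) (ke xe8 ye17 ze8) (ke xe8 ye17 ze10) (ke xe8 ye17 ze11) (ke xe8 ye17 ze13) (ke xe2 ye1 ze39) (ke xe4 ye9 ze4) (ke xe4 ye19 ze50) (ke xe8 ye17 ze19) (ke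 xe2 ye1 ze41) (ke xe8 ye17 ze25) (ke xe2 ye1 ze42) (ke xe8 ye17 ze28) (ke xe8 ye17 ze31) (ke xe8 ye17 ze36) (ke xe8 ye17 ze39) (ke xe2 ye1 ze43) (ke xe4 ye15 ze46) (ke xe8 ye17 ze47) (ke xe2 ye1 ze46) (ke xe8 ye16 ze36) (ke xe8 ye17 ze49) (ke xe8 ye17 ze54) (ke xe8 ye17 ze56) (ke xe2 ye1 ze49) (ke xe8 ye17 ze58) (ke xe2 ye1 ze50) (ke xe8 ye17 ze59) (ke xe8 ye17 ze60) (ke xe8 ye18 ze1) (ke xe2 ye1 ze51) (ke xe8 ye15 ze41)) (@D3.rec (fun _ => Pt) (ke xe8 ye18 ze6) (ke xe2 ye1 ze53) (ke xe8 ye18 ze8) (ke xe2 ye1 ze54) (ke xe4 ye8 ze36) (ke xe8 ye18 ze11) (ke xe8 ye15 ze49) (ke xe8 ye18 ze18) (ke xe8 ye18 ze19) (ke xe2 ye1 ze56) (ke xe5 ye30 ze17) (ke xe4 ye15 ze21) (ke xe2 ye1 ze58) (ke xe8 ye16 ze31) (ke xe8 ye18 ze28) (ke xe8 ye18 ze34) (ke xe2 ye43 ze58) (ke xe2 ye1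 ze60) (ke xe8 ye18 ze38) (ke xe4 ye16 ze4) (ke xe8 ye18 ze44) (ke xe8 ye18 ze47) (ke xe2 ye1 ze61) (ke xe2 ye40 ze10) (ke xe4 ye12 ze33) (ke xe4 ye16 ze18) (ke xe8 ye18 ze56) (ke xe2 ye39 ze30) (ke xe8 ye16 ze47) (ke xe8 ye18 ze58) (ke xe8 ye18 ze61) (ke xe2 ye2 ze2) (ke xe8 ye19 ze8) (ke xe8 ye19 ze9) (ke xe2 ye2 ze3) (ke xe2 ye34 ze21) (ke xe8 ye19 ze15) (ke xe4 ye16 ze8) (ke xe2 ye34 ze22) (ke xe8 ye16 ze42) (ke xe8 ye19 ze25) (ke xe8 ye19 ze26) (ke xe8 ye19 ze29) (ke xe2 ye2 ze6) (ke xe8 ye19 ze36) (ke xe8 ye19 ze37) (ke xe2 ye2 ze7) (ke xe8 ye19 ze44) (ke xe6 ye33 ze1) (ke xe4 ye16 ze31) (ke xe8 ye19 ze51) (ke xe8 ye19 ze53) (ke xe8 ye19 ze55) (ke xe8 ye19 ze57) (ke xe8 ye19 ze59) (ke xe2 ye2 ze9) (ke xe8 ye20 ze1) (ke xe2 ye2 ze10) (ke xe8 ye20 ze7) (ke xe8 ye20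 ze11) (ke xe8 ye20 ze13) (ke xe2 ye2 ze12)) (@D3.rec (fun _ => Pt) (ke xe8 ye20 ze17) (ke xe2 ye2 ze13) (ke xe2 ye6 ze3) (ke xe4 ye17 ze16) (ke xe8 ye20 ze22) (ke xe8 ye20 ze24) (ke xe8 ye20 ze26) (ke xe2 ye2 ze16) (ke xe2 ye10 ze45) (ke xe8 ye20 ze28) (ke xe4 ye3 ze45) (ke xe8 ye20 ze32) (ke xe2 ye2 ze18) (ke xe8 ye20 ze37) (ke xe2 ye2 ze19) (ke xe8 ye20 ze42) (ke xe8 ye20 ze45) (ke xe8 ye20 ze50) (ke xe8 ye20 ze53) (ke xe2 ye2 ze20) (ke xe4 ye16 ze56) (ke xe8 ye20 ze61) (ke xe4 ye17 ze28) (ke xe8 ye21 ze3) (ke xe2 ye2 ze25) (ke xe4 ye48 ze25) (ke xe2 ye2 ze27) (ke xe6 ye36 ze33) (ke xe6 ye35 ze32) (ke xe6 ye11 ze44) (ke xe2 ye2 ze28) (ke xe4 ye12 ze49) (ke xe8 ye21 ze9) (ke xe4 ye17 ze35) (ke xe4 ye17 ze10) (ke xe2 ye2 ze31) (ke xe8 ye21 ze11) (ke xe8 ye21 ze14) (ke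 xe2 ye2 ze34) (ke xe8 ye21 ze17) (ke xe2 ye2 ze35) (ke xe8 ye18 ze3) (ke xe7 ye49 ze47) (ke xe2 ye2 ze37) (ke xe8 ye21 ze20) (ke xe8 ye21 ze23) (ke xe6 ye38 ze12) (ke xe8 ye21 ze31) (ke xe2 ye2 ze38) (ke xe8 ye20 ze34) (ke xe2 ye2 ze40) (ke xe4 ye16 ze58) (ke xe8 ye21 ze38) (ke xe6 ye41 ze16) (ke xe6 ye35 ze23) (ke xe6 ye35 ze34) (ke xe5 ye39 ze55) (ke xe3 ye7 ze54) (ke xe4 ye30 ze51) (ke xe5 ye13 ze24) (ke xe2 ye2 ze47) (ke xe2 ye39 ze36)) (@D3.rec (fun _ => Pt) (ke xe8 ye21 ze49) (ke xe8 ye21 ze57) (ke xe2 ye2 ze48) (ke xe8 ye22 ze0) (ke xe4 ye17 ze40) (ke xe8 ye22 ze6) (ke xe8 ye22 ze9) (ke xe2 ye2 ze49) (ke xe8 ye22 ze17) (ke xe8 ye22 ze19) (ke xe2 ye37 ze22) (ke xe4 ye18 ze7) (ke xe8 ye22 ze22) (ke xe4 ye17 ze48) (ke xe3 ye16 ze61) (ke xe2 ye2 ze51) (ke xe3 ye10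 ze37) (ke xe6 ye37 ze34) (ke xe3 ye17 ze7) (ke xe4 ye18 ze12) (ke xe4 ye18 ze14) (ke xe5 ye18 ze27) (ke xe2 ye2 ze54) (ke xe2 ye39 ze22) (ke xe8 ye22 ze33) (ke xe2 ye2 ze57) (ke xe4 ye18 ze0) (ke xe8 ye22 ze38) (ke xe6 ye18 ze46) (ke xe8 ye22 ze46) (ke xe2 ye2 ze58) (ke xe8 ye22 ze52) (ke xe8 ye21 ze58) (ke xe4 ye17 ze46) (ke xe4 ye18 ze8) (ke xe8 ye22 ze57) (ke xe6 ye9 ze60) (ke xe2 ye2 ze60) (ke xe3 ye10 ze55) (ke xe4 ye17 ze54) (ke xe2 ye3 ze0) (ke xe4 ye17 ze55) (ke xe8 ye22 ze61) (ke xe4 ye18 ze16) (ke xe3 ye11 ze47) (ke xe6 ye17 ze57) (ke xe8 ye23 ze6) (ke xe8 ye23 ze10) (ke xe6 ye21 ze50) (ke xe8 ye23 ze19) (ke xe8 ye23 ze23) (ke xe2 ye3 ze5) (ke xe6 ye19 ze14) (ke xe3 ye28 ze46) (ke xe8 ye23 ze31) (ke xe6 ye20 ze53) (ke xe2 ye3 ze6) (ke xe8 ye23 ze34) (ke xe6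 ye23 ze52) (ke xe8 ye23 ze38) (ke xe8 ye23 ze42) (ke xe2 ye3 ze8)) (@D3.rec (fun _ => Pt) (ke xe2 ye3 ze9) (ke xe6 ye19 ze54) (ke xe6 ye20 ze61) (ke xe8 ye23 ze50) (ke xe8 ye23 ze53) (ke xe2 ye41 ze41) (ke xe2 ye3 ze12) (ke xe7 ye56 ze7) (ke xe2 ye45 ze37) (ke xe8 ye23 ze58) (ke xe8 ye23 ze59) (ke xe8 ye23 ze60) (ke xe8 ye24 ze1) (ke xe2 ye3 ze20) (ke xe8 ye24 ze5) (ke xe2 ye3 ze21) (ke xe2 ye7 ze13) (ke xe4 ye19 ze26) (ke xe8 ye24 ze9) (ke xe8 ye24 ze12) (ke xe2 ye3 ze23) (ke xe8 ye24 ze17) (ke xe8 ye24 ze20) (ke xe2 ye3 ze24) (ke xe8 ye24 ze25) (ke xe8 ye24 ze28) (ke xe2 ye18 ze35) (ke xe8 ye24 ze35) (ke xe2 ye3 ze25) (ke xe4 ye18 ze52) (ke xe8 ye24 ze44) (ke xe4 ye19 ze40) (ke xe2 ye24 ze52) (ke xe4 ye9 ze24) (ke xe2 ye3 ze28) (ke xe8 ye24 ze48) (ke xe2 ye3 ze30)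 (ke xe8 ye24 ze53) (ke xe2 ye3 ze31) (ke xe4 ye53 ze45) (ke xe2 ye45 ze52) (ke xe2 ye3 ze57) (ke xe8 ye24 ze59) (ke xe2 ye3 ze33) (ke xe8 ye24 ze60) (ke xe2 ye3 ze34) (ke xe2 ye18 ze23) (ke xe3 ye10 ze52) (ke xe4 ye19 ze1) (ke xe4 ye10 ze31) (ke xe8 ye25 ze4) (ke xe8 ye25 ze5) (ke xe2 ye3 ze39) (ke xe5 ye3 ze1) (ke xe5 ye3 ze2) (ke xe8 ye25 ze6) (ke xe8 ye25 ze9) (ke xe2 ye3 ze45) (ke xe8 ye25 ze12) (ke xe2 ye3 ze46) (ke xe2 ye6 ze44) (ke xe4 ye18 ze41)) (@D3.rec (fun _ => Pt) (ke xe8 ye25 ze13) (ke xe8 ye25 ze17) (ke xe2 ye3 ze48) (ke xe8 ye25 ze18) (ke xe8 ye25 ze21) (ke xe2 ye3 ze49) (ke xe8 ye25 ze26) (ke xe8 ye25 ze29) (ke xe6 ye51 ze22) (ke xe8 ye25 ze36) (ke xe2 ye3 ze50) (ke xe8 ye24 ze15) (ke xe4 ye18 ze54) (ke xe5 ye28 ze14) (ke xe5 ye28 ze16) (ke xe2 ye3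 ze52) (ke xe2 ye19 ze32) (ke xe3 ye8 ze47) (ke xe2 ye57 ze34) (ke xe2 ye19 ze9) (ke xe8 ye24 ze51) (ke xe8 ye24 ze56) (ke xe4 ye14 ze1) (ke xe2 ye3 ze60) (ke xe3 ye58 ze3) (ke xe4 ye50 ze36) (ke xe4 ye50 ze43) (ke xe6 ye13 ze12) (ke xe5 ye37 ze5) (ke xe8 ye25 ze57) (ke xe2 ye16 ze49) (ke xe8 ye26 ze0) (ke xe5 ye46 ze31) (ke xe8 ye26 ze3) (ke xe2 ye4 ze6) (ke xe8 ye26 ze7) (ke xe2 ye4 ze17) (ke xe8 ye26 ze10) (ke xe2 ye4 ze9) (ke xe8 ye26 ze11) (ke xe4 ye7 ze35) (ke xe8 ye26 ze14) (ke xe2 ye24 ze56) (ke xe4 ye13 ze43) (ke xe8 ye26 ze17) (ke xe2 ye4 ze13) (ke xe8 ye26 ze18) (ke xe4 ye7 ze56) (ke xe8 ye26 ze21) (ke xe8 ye26 ze22) (ke xe2 ye4 ze16) (ke xe8 ye26 ze23) (ke xe6 ye6 ze16) (ke xe8 ye26 ze26) (ke xe8 ye26 ze27) (ke xe8 ye26 ze28) (ke xe2 ye4 ze30) (ke xe8 ye26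 ze31) (ke xe8 ye26 ze33) (ke xe2 ye4 ze21) (ke xe8 ye26 ze34) (ke xe8 ye26 ze37)) (@D3.rec (fun _ => Pt) (ke xe2 ye4 ze22) (ke xe4 ye13 ze22) (ke xe8 ye26 ze41) (ke xe2 ye4 ze24) (ke xe8 ye26 ze43) (ke xe2 ye4 ze25) (ke xe8 ye26 ze46) (ke xe2 ye4 ze26) (ke xe8 ye23 ze55) (ke xe8 ye26 ze51) (ke xe2 ye4 ze28) (ke xe8 ye26 ze56) (ke xe8 ye26 ze59) (ke xe2 ye4 ze29) (ke xe8 ye27 ze4) (ke xe8 ye26 ze29) (ke xe8 ye27 ze12) (ke xe8 ye27 ze14) (ke xe2 ye4 ze31) (ke xe8 ye27 ze19) (ke xe2 ye4 ze32) (ke xe8 ye27 ze25) (ke xe2 ye4 ze33) (ke xe2 ye4 ze45) (ke xe8 ye27 ze34) (ke xe8 ye27 ze35) (ke xe2 ye4 ze35) (ke xe7 ye52 ze27) (ke xe2 ye4 ze36) (ke xe8 ye27 ze20) (ke xe8 ye27 ze44) (ke xe2 ye4 ze38) (ke xe4 ye4 ze44) (ke xe8 ye27 ze47) (ke xe8 ye27 ze53) (ke xe2 ye4 ze40) (ke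 xe8 ye27 ze60) (ke xe2 ye4 ze41) (ke xe5 ye36 ze2) (ke xe8 ye28 ze6) (ke xe4 ye1 ze40) (ke xe8 ye10 ze25) (ke xe2 ye4 ze43) (ke xe8 ye28 ze14) (ke xe8 ye27 ze26) (ke xe4 ye55 ze56) (ke xe8 ye28 ze21) (ke xe8 ye28 ze26) (ke xe8 ye27 ze31) (ke xe8 ye28 ze30) (ke xe8 ye28 ze31) (ke xe2 ye4 ze46) (ke xe2 ye4 ze47) (ke xe8 ye28 ze37) (ke xe8 ye28 ze39) (ke xe8 ye28 ze42) (ke xe2 ye4 ze50) (ke xe8 ye28 ze48) (ke xe2 ye4 ze52) (ke xe8 ye28 ze54) (ke xe8 ye28 ze57) (ke xe5 ye14 ze55)) (@D3.rec (fun _ => Pt) (ke xe4 ye46 ze57) (ke xe8 ye29 ze5) (ke xe2 ye4 ze54) (ke xe4 ye4 ze61) (ke xe8 ye29 ze7) (ke xe5 ye14 ze57) (ke xe8 ye29 ze10) (ke xe8 ye29 ze13) (ke xe2 ye4 ze58) (ke xe2 ye5 ze25) (ke xe4 ye2 ze49) (ke xe8 ye29 ze16) (ke xe2 ye4 ze60) (ke xe8 ye29 ze21) (ke xe8 ye29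 ze24) (ke xe5 ye14 ze60) (ke xe8 ye29 ze32) (ke xe8 ye29 ze33) (ke xe2 ye5 ze0) (ke xe8 ye29 ze34) (ke xe2 ye5 ze1) (ke xe4 ye9 ze11) (ke xe8 ye29 ze38) (ke xe2 ye5 ze2) (ke xe8 ye29 ze43) (ke xe2 ye5 ze4) (ke xe8 ye29 ze46) (ke xe8 ye29 ze50) (ke xe2 ye5 ze6) (ke xe8 ye29 ze55) (ke xe2 ye5 ze7) (ke xe8 ye29 ze60) (ke xe8 ye30 ze1) (ke xe4 ye8 ze24) (ke xe8 ye30 ze9) (ke xe8 ye30 ze10) (ke xe2 ye5 ze9) (ke xe8 ye30 ze13) (ke xe2 ye5 ze10) (ke xe8 ye30 ze19) (ke xe2 ye5 ze11) (ke xe8 ye30 ze22) (ke xe8 ye30 ze25) (ke xe8 ye30 ze30) (ke xe8 ye30 ze33) (ke xe2 ye5 ze12) (ke xe4 ye8 ze47) (ke xe8 ye30 ze40) (ke xe2 ye5 ze15) (ke xe8 ye29 ze45) (ke xe8 ye30 ze42) (ke xe8 ye30 ze46) (ke xe2 ye5 ze17) (ke xe8 ye30 ze47) (ke xe8 ye30 ze50) (ke xe2 ye5 ze18) (ke xe5 ye19 ze3)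 (ke xe8 ye30 ze55) (ke xe2 ye5 ze20) (ke xe8 ye31 ze0) (ke xe8 ye31 ze1) (ke xe2 ye5 ze22)) (@D3.rec (fun _ => Pt) (ke xe8 ye31 ze7) (ke xe4 ye8 ze12) (ke xe8 ye29 ze40) (ke xe8 ye31 ze10) (ke xe4 ye9 ze19) (ke xe8 ye31 ze16) (ke xe8 ye31 ze19) (ke xe2 ye5 ze26) (ke xe4 ye9 ze37) (ke xe8 ye31 ze28) (ke xe2 ye58 ze61) (ke xe8 ye29 ze57) (ke xe8 ye31 ze32) (ke xe2 ye5 ze28) (ke xe8 ye31 ze40) (ke xe8 ye31 ze41) (ke xe2 ye5 ze29) (ke xe8 ye31 ze47) (ke xe4 ye9 ze25) (ke xe2 ye35 ze15) (ke xe8 ye29 ze52) (ke xe8 ye31 ze56) (ke xe8 ye31 ze58) (ke xe8 ye31 ze60) (ke xe2 ye5 ze31) (ke xe8 ye32 ze6) (ke xe8 ye32 ze7) (ke xe8 ye32 ze8) (ke xe2 ye5 ze32) (ke xe8 ye31 ze61) (ke xe6 ye17 ze40) (ke xe4 ye9 ze49) (ke xe8 ye32 ze19) (ke xe8 ye32 ze21) (ke xe8 ye32 ze23) (ke xe8 ye32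 ze25) (ke xe2 ye5 ze34) (ke xe8 ye32 ze29) (ke xe2 ye5 ze35) (ke xe8 ye32 ze35) (ke xe8 ye32 ze39) (ke xe8 ye32 ze40) (ke xe8 ye32 ze43) (ke xe2 ye5 ze38) (ke xe8 ye32 ze46) (ke xe2 ye5 ze39) (ke xe8 ye32 ze53) (ke xe2 ye5 ze41) (ke xe4 ye21 ze45) (ke xe8 ye32 ze60) (ke xe2 ye5 ze42) (ke xe8 ye33 ze2) (ke xe8 ye33 ze4) (ke xe3 ye18 ze51) (ke xe8 ye33 ze11) (ke xe2 ye5 ze43) (ke xe4 ye10 ze20) (ke xe8 ye33 ze21) (ke xe4 ye10 ze51) (ke xe4 ye3 ze0) (ke xe2 ye38 ze34) (ke xe8 ye33 ze23)) (@D3.rec (fun _ => Pt) (ke xe2 ye5 ze48) (ke xe6 ye20 ze47) (ke xe4 ye18 ze33) (ke xe2 ye41 ze42) (ke xe2 ye6 ze8) (ke xe8 ye33 ze28) (ke xe2 ye5 ze51) (ke xe3 ye16 ze57) (ke xe8 ye33 ze33) (ke xe3 ye2 ze27) (ke xe4 ye10 ze34) (ke xe2 ye5 ze56) (ke xe8 ye33 ze37) (ke xe2 ye5 ze58) (ke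 xe8 ye33 ze40) (ke xe2 ye5 ze59) (ke xe4 ye10 ze3) (ke xe8 ye30 ze52) (ke xe8 ye33 ze45) (ke xe2 ye5 ze61) (ke xe8 ye33 ze48) (ke xe2 ye6 ze0) (ke xe8 ye33 ze52) (ke xe8 ye33 ze54) (ke xe8 ye33 ze59) (ke xe8 ye34 ze1) (ke xe2 ye6 ze1) (ke xe8 ye32 ze56) (ke xe4 ye10 ze22) (ke xe8 ye7 ze20) (ke xe3 ye17 ze23) (ke xe8 ye34 ze10) (ke xe3 ye18 ze43) (ke xe2 ye6 ze6) (ke xe4 ye17 ze53) (ke xe4 ye10 ze33) (ke xe6 ye19 ze45) (ke xe8 ye34 ze14) (ke xe2 ye6 ze10) (ke xe8 ye34 ze19) (ke xe4 ye11 ze4) (ke xe8 ye34 ze25) (ke xe8 ye34 ze27) (ke xe2 ye6 ze11) (ke xe8 ye34 ze35) (ke xe8 ye34 ze39) (ke xe4 ye11 ze33) (ke xe8 ye34 ze41) (ke xe4 ye11 ze13) (ke xe6 ye36 ze36) (ke xe2 ye6 ze13) (ke xe3 ye10 ze57) (ke xe8 ye34 ze44) (ke xe4 ye17 ze34) (ke xe4 ye11 ze39) (ke xe4 ye11 ze41)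 (ke xe5 ye16 ze24) (ke xe4 ye43 ze20) (ke xe2 ye12 ze20) (ke xe2 ye6 ze16) (ke xe8 ye34 ze53) (ke xe2 ye6 ze18)) (@D3.rec (fun _ => Pt) (ke xe4 ye11 ze26) (ke xe8 ye34 ze58) (ke xe3 ye18 ze52) (ke xe8 ye35 ze2) (ke xe2 ye6 ze19) (ke xe8 ye35 ze9) (ke xe8 ye34 ze15) (ke xe4 ye11 ze11) (ke xe4 ye11 ze34) (ke xe8 ye35 ze14) (ke xe3 ye1 ze37) (ke xe8 ye35 ze15) (ke xe4 ye11 ze19) (ke xe2 ye6 ze23) (ke xe4 ye11 ze20) (ke xe8 ye35 ze19) (ke xe4 ye11 ze43) (ke xe2 ye18 ze27) (ke xe3 ye8 ze57) (ke xe3 ye9 ze29) (ke xe8 ye35 ze27) (ke xe2 ye18 ze19) (ke xe6 ye26 ze12) (ke xe6 ye27 ze42) (ke xe8 ye31 ze22) (ke xe8 ye35 ze40) (ke xe2 ye6 ze30) (ke xe3 ye6 ze37) (ke xe4 ye47 ze40) (ke xe4 ye47 ze33) (ke xe2 ye6 ze31) (ke xe8 ye35 ze51) (ke xe8 ye35 ze53) (ke xe4 ye17 ze2) (ke xe2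 ye6 ze33) (ke xe8 ye35 ze54) (ke xe8 ye35 ze55) (ke xe8 ye35 ze58) (ke xe2 ye6 ze36) (ke xe8 ye35 ze61) (ke xe2 ye6 ze37) (ke xe4 ye12 ze61) (ke xe8 ye36 ze3) (ke xe8 ye36 ze6) (ke xe2 ye6 ze39) (ke xe8 ye36 ze11) (ke xe2 ye6 ze40) (ke xe8 ye36 ze16) (ke xe8 ye36 ze17) (ke xe6 ye22 ze44) (ke xe8 ye36 ze22) (ke xe2 ye6 ze41) (ke xe4 ye12 ze29) (ke xe8 ye36 ze32) (ke xe4 ye13 ze12) (ke xe2 ye23 ze3) (ke xe2 ye34 ze37) (ke xe2 ye41 ze7) (ke xe4 ye19 ze41) (ke xe4 ye22 ze44) (ke xe8 ye36 ze35) (ke xe2 ye6 ze46)) (@D3.rec (fun _ => Pt) (ke xe4 ye41 ze53) (ke xe4 ye12 ze48) (ke xe8 ye36 ze41) (ke xe2 ye6 ze51) (ke xe2 ye23 ze36) (ke xe2 ye46 ze28) (ke xe4 ye54 ze47) (ke xe4 ye54 ze53) (ke xe2 ye6 ze57) (ke xe2 ye6 ze59) (ke xe2 ye6 ze60) (ke xe8 ye36 ze50) (ke xe2 ye6 ze61)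 (ke xe8 ye36 ze55) (ke xe4 ye2 ze58) (ke xe2 ye7 ze2) (ke xe4 ye3 ze33) (ke xe2 ye37 ze43) (ke xe8 ye36 ze58) (ke xe4 ye20 ze4) (ke xe8 ye37 ze2) (ke xe8 ye37 ze3) (ke xe8 ye37 ze6) (ke xe2 ye7 ze6) (ke xe8 ye37 ze9) (ke xe2 ye7 ze7) (ke xe4 ye12 ze17) (ke xe8 ye37 ze10) (ke xe8 ye37 ze13) (ke xe2 ye7 ze9) (ke xe8 ye37 ze14) (ke xe8 ye37 ze17) (ke xe2 ye7 ze10) (ke xe8 ye37 ze22) (ke xe8 ye37 ze25) (ke xe4 ye43 ze39) (ke xe8 ye37 ze27) (ke xe2 ye7 ze11) (ke xe8 ye36 ze8) (ke xe2 ye7 ze15) (ke xe4 ye12 ze31) (ke xe4 ye18 ze58) (ke xe4 ye54 ze46) (ke xe2 ye24 ze51) (ke xe8 ye37 ze34) (ke xe5 ye39 ze20) (ke xe4 ye56 ze32) (ke xe5 ye10 ze25) (ke xe2 ye44 ze13) (ke xe2 ye23 ze29) (ke xe4 ye8 ze37) (ke xe5 ye37 ze2) (ke xe6 ye17 ze6) (ke xe4 ye53 ze49) (ke xe8 ye37 ze44)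 (ke xe2 ye7 ze26) (ke xe8 ye37 ze49) (ke xe2 ye7 ze27) (ke xe8 ye37 ze54) (ke xe7 ye50 ze44) (ke xe5 ye0 ze39) (ke xe8 ye37 ze61)) (@D3.rec (fun _ => Pt) (ke xe8 ye38 ze0) (ke xe2 ye7 ze29) (ke xe8 ye38 ze3) (ke xe2 ye7 ze30) (ke xe4 ye19 ze19) (ke xe8 ye38 ze8) (ke xe8 ye38 ze9) (ke xe8 ye38 ze11) (ke xe8 ye38 ze12) (ke xe2 ye7 ze33) (ke xe7 ye7 ze6) (ke xe5 ye7 ze44) (ke xe2 ye9 ze46) (ke xe8 ye38 ze21) (ke xe2 ye54 ze33) (ke xe8 ye38 ze24) (ke xe8 ye38 ze26) (ke xe2 ye7 ze35) (ke xe8 ye38 ze30) (ke xe8 ye38 ze31) (ke xe8 ye38 ze32) (ke xe5 ye0 ze41) (ke xe8 ye38 ze35) (ke xe8 ye38 ze38) (ke xe2 ye7 ze39) (ke xe8 ye38 ze40) (ke xe5 ye0 ze43) (ke xe8 ye38 ze46) (ke xe8 ye38 ze47) (ke xe2 ye7 ze42) (ke xe8 ye38 ze49) (ke xe2 ye7 ze43) (ke xe8 ye38 ze53) (ke xe8 ye38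 ze54) (ke xe2 ye7 ze46) (ke xe8 ye4 ze42) (ke xe8 ye38 ze57) (ke xe8 ye10 ze30) (ke xe3 ye57 ze43) (ke xe8 ye39 ze1) (ke xe4 ye24 ze53) (ke xe8 ye39 ze3) (ke xe8 ye39 ze4) (ke xe8 ye39 ze6) (ke xe2 ye7 ze49) (ke xe8 ye39 ze10) (ke xe2 ye7 ze54) (ke xe2 ye7 ze52) (ke xe2 ye7 ze53) (ke xe8 ye39 ze11) (ke xe8 ye39 ze23) (ke xe8 ye39 ze24) (ke xe2 ye7 ze55) (ke xe5 ye21 ze18) (ke xe8 ye39 ze29) (ke xe8 ye39 ze30) (ke xe2 ye7 ze60) (ke xe2 ye7 ze59) (ke xe8 ye39 ze31) (ke xe8 ye39 ze41) (ke xe8 ye39 ze42) (ke xe2 ye7 ze61)) (@D3.rec (fun _ => Pt) (ke xe4 ye0 ze60) (ke xe8 ye39 ze48) (ke xe4 ye52 ze9) (ke xe2 ye8 ze8) (ke xe8 ye39 ze52) (ke xe2 ye8 ze4) (ke xe8 ye39 ze55) (ke xe2 ye8 ze5) (ke xe2 ye24 ze11) (ke xe8 ye39 ze57) (ke xe4 ye52 ze51) (ke xe8 ye39 ze61) (ke xe2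 ye8 ze7) (ke xe8 ye40 ze4) (ke xe8 ye39 ze50) (ke xe8 ye40 ze11) (ke xe8 ye40 ze12) (ke xe2 ye8 ze9) (ke xe8 ye40 ze16) (ke xe2 ye8 ze10) (ke xe4 ye3 ze7) (ke xe8 ye40 ze18) (ke xe4 ye51 ze7) (ke xe8 ye40 ze22) (ke xe2 ye8 ze12) (ke xe2 ye8 ze31) (ke xe8 ye40 ze31) (ke xe8 ye40 ze32) (ke xe2 ye8 ze14) (ke xe8 ye40 ze34) (ke xe2 ye8 ze15) (ke xe8 ye40 ze37) (ke xe8 ye40 ze42) (ke xe8 ye40 ze43) (ke xe2 ye8 ze16) (ke xe8 ye17 ze5) (ke xe8 ye40 ze51) (ke xe7 ye55 ze42) (ke xe8 ye40 ze52) (ke xe8 ye40 ze55) (ke xe2 ye8 ze20) (ke xe8 ye40 ze61) (ke xe8 ye41 ze0) (ke xe2 ye8 ze22) (ke xe8 ye41 ze6) (ke xe4 ye16 ze48) (ke xe7 ye55 ze37) (ke xe8 ye41 ze12) (ke xe8 ye41 ze13) (ke xe2 ye8 ze24) (ke xe8 ye22 ze53) (ke xe8 ye41 ze22) (ke xe2 ye33 ze11) (ke xe7 ye55 ze50) (ke xe8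 ye41 ze28) (ke xe2 ye8 ze26) (ke xe8 ye41 ze34) (ke xe8 ye41 ze35) (ke xe2 ye8 ze27) (ke xe8 ye41 ze42) (ke xe8 ye18 ze35) (ke xe7 ye55 ze47)) (@D3.rec (fun _ => Pt) (ke xe8 ye41 ze49) (ke xe8 ye41 ze50) (ke xe2 ye8 ze29) (ke xe8 ye41 ze58) (ke xe8 ye41 ze59) (ke xe2 ye8 ze30) (ke xe8 ye42 ze5) (ke xe8 ye42 ze10) (ke xe8 ye40 ze27) (ke xe8 ye42 ze15) (ke xe8 ye42 ze16) (ke xe8 ye42 ze18) (ke xe8 ye42 ze20) (ke xe2 ye8 ze32) (ke xe2 ye8 ze33) (ke xe8 ye42 ze29) (ke xe8 ye42 ze32) (ke xe8 ye42 ze33) (ke xe8 ye42 ze35) (ke xe2 ye8 ze35) (ke xe5 ye29 ze23) (ke xe2 ye41 ze10) (ke xe8 ye42 ze42) (ke xe2 ye8 ze37) (ke xe4 ye51 ze15) (ke xe4 ye56 ze50) (ke xe2 ye17 ze43) (ke xe8 ye42 ze50) (ke xe8 ye42 ze51) (ke xe8 ye42 ze53) (ke xe3 ye4 ze56) (ke xe8 ye42 ze55) (ke xe8 ye42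 ze59) (ke xe2 ye8 ze42) (ke xe2 ye8 ze43) (ke xe2 ye9 ze28) (ke xe8 ye43 ze6) (ke xe8 ye43 ze3) (ke xe6 ye4 ze9) (ke xe8 ye43 ze9) (ke xe8 ye43 ze12) (ke xe2 ye8 ze46) (ke xe8 ye43 ze18) (ke xe2 ye8 ze48) (ke xe4 ye18 ze59) (ke xe7 ye56 ze11) (ke xe7 ye12 ze10) (ke xe8 ye43 ze25) (ke xe8 ye4 ze55) (ke xe8 ye43 ze30) (ke xe2 ye8 ze51) (ke xe8 ye43 ze34) (ke xe2 ye9 ze45) (ke xe2 ye13 ze26) (ke xe8 ye43 ze39) (ke xe2 ye8 ze52) (ke xe8 ye43 ze43) (ke xe8 ye43 ze44) (ke xe2 ye8 ze53) (ke xe2 ye9 ze56) (ke xe8 ye43 ze47) (ke xe4 ye57 ze0)) (@D3.rec (fun _ => Pt) (ke xe2 ye9 ze60) (ke xe2 ye50 ze58) (ke xe2 ye9 ze49) (ke xe8 ye43 ze53) (ke xe3 ye36 ze41) (ke xe2 ye8 ze59) (ke xe4 ye2 ze0) (ke xe2 ye33 ze23) (ke xe8 ye43 ze61) (ke xe2 ye9 ze1) (ke xe8 ye44 ze2) (ke xe6 ye25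 ze29) (ke xe2 ye10 ze2) (ke xe8 ye44 ze8) (ke xe3 ye37 ze1) (ke xe2 ye9 ze4) (ke xe2 ye54 ze47) (ke xe8 ye44 ze16) (ke xe8 ye1 ze46) (ke xe7 ye59 ze9) (ke xe5 ye11 ze61) (ke xe2 ye9 ze6) (ke xe8 ye44 ze24) (ke xe8 ye44 ze26) (ke xe8 ye44 ze28) (ke xe8 ye44 ze29) (ke xe2 ye9 ze7) (ke xe8 ye44 ze34) (ke xe8 ye44 ze37) (ke xe8 ye44 ze40) (ke xe8 ye44 ze45) (ke xe2 ye9 ze9) (ke xe8 ye44 ze49) (ke xe2 ye9 ze10) (ke xe8 ye44 ze54) (ke xe2 ye9 ze11) (ke xe8 ye44 ze61) (ke xe2 ye9 ze12) (ke xe8 ye45 ze6) (ke xe2 ye9 ze13) (ke xe8 ye45 ze14) (ke xe8 ye45 ze18) (ke xe8 ye45 ze19) (ke xe2 ye9 ze15) (ke xe8 ye45 ze22) (ke xe3 ye3 ze58) (ke xe8 ye45 ze25) (ke xe4 ye56 ze33) (ke xe8 ye45 ze27) (ke xe2 ye9 ze17) (ke xe2 ye9 ze18) (ke xe8 ye45 ze31) (ke xe8 ye45 ze34) (ke xe2 ye9 ze21)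 (ke xe7 ye56 ze13) (ke xe2 ye9 ze22) (ke xe8 ye12 ze19) (ke xe2 ye9 ze23) (ke xe7 ye12 ze33) (ke xe8 ye45 ze43) (ke xe8 ye45 ze45) (ke xe8 ye45 ze49)) (@D3.rec (fun _ => Pt) (ke xe2 ye9 ze25) (ke xe8 ye42 ze60) (ke xe8 ye45 ze53) (ke xe2 ye49 ze6) (ke xe8 ye45 ze56) (ke xe8 ye45 ze59) (ke xe2 ye9 ze30) (ke xe3 ye10 ze3) (ke xe8 ye43 ze5) (ke xe2 ye9 ze29) (ke xe2 ye9 ze59) (ke xe8 ye46 ze3) (ke xe8 ye46 ze5) (ke xe2 ye9 ze34) (ke xe4 ye56 ze51) (ke xe8 ye46 ze8) (ke xe2 ye9 ze35) (ke xe8 ye46 ze12) (ke xe2 ye9 ze36) (ke xe8 ye46 ze15) (ke xe8 ye46 ze18) (ke xe8 ye46 ze20) (ke xe2 ye9 ze37) (ke xe8 ye46 ze23) (ke xe8 ye46 ze29) (ke xe8 ye46 ze32) (ke xe2 ye9 ze41) (ke xe7 ye56 ze47) (ke xe8 ye46 ze36) (ke xe8 ye46 ze37) (ke xe8 ye46 ze34) (ke xe7 ye12 ze5) (ke xe8 ye46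 ze38) (ke xe8 ye46 ze39) (ke xe2 ye9 ze44) (ke xe8 ye46 ze43) (ke xe8 ye46 ze45) (ke xe2 ye9 ze47) (ke xe8 ye46 ze51) (ke xe8 ye46 ze54) (ke xe4 ye58 ze3) (ke xe7 ye7 ze8) (ke xe2 ye54 ze30) (ke xe2 ye9 ze50) (ke xe8 ye46 ze58) (ke xe2 ye9 ze51) (ke xe8 ye47 ze0) (ke xe8 ye47 ze2) (ke xe8 ye47 ze5) (ke xe2 ye9 ze52) (ke xe7 ye56 ze48) (ke xe7 ye7 ze9) (ke xe8 ye47 ze8) (ke xe4 ye20 ze40) (ke xe8 ye47 ze18) (ke xe8 ye47 ze21) (ke xe2 ye9 ze57) (ke xe7 ye56 ze55) (ke xe8 ye47 ze27) (ke xe8 ye1 ze44) (ke xe8 ye47 ze30) (ke xe8 ye47 ze33)) (@D3.rec (fun _ => Pt) (ke xe8 ye47 ze36) (ke xe8 ye47 ze24) (ke xe8 ye47 ze42) (ke xe2 ye14 ze49) (ke xe8 ye47 ze46) (ke xe4 ye32 ze32) (ke xe8 ye47 ze49) (ke xe8 ye47 ze52) (ke xe8 ye47 ze55) (ke xe2 ye10 ze0) (ke xe6 ye9 ze14) (ke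 xe8 ye47 ze58) (ke xe8 ye47 ze61) (ke xe7 ye8 ze7) (ke xe7 ye14 ze12) (ke xe8 ye48 ze3) (ke xe8 ye48 ze5) (ke xe4 ye25 ze26) (ke xe8 ye48 ze8) (ke xe2 ye10 ze3) (ke xe8 ye48 ze11) (ke xe2 ye10 ze4) (ke xe6 ye40 ze30) (ke xe8 ye48 ze18) (ke xe8 ye48 ze21) (ke xe2 ye10 ze5) (ke xe4 ye25 ze17) (ke xe7 ye8 ze8) (ke xe8 ye48 ze24) (ke xe5 ye13 ze37) (ke xe8 ye48 ze33) (ke xe8 ye48 ze35) (ke xe2 ye10 ze8) (ke xe7 ye57 ze3) (ke xe8 ye48 ze41) (ke xe8 ye48 ze43) (ke xe8 ye48 ze38) (ke xe8 ye48 ze49) (ke xe8 ye48 ze51) (ke xe2 ye10 ze10) (ke xe8 ye48 ze53) (ke xe8 ye48 ze55) (ke xe2 ye10 ze11) (ke xe8 ye44 ze17) (ke xe8 ye48 ze59) (ke xe2 ye10 ze12) (ke xe5 ye56 ze21) (ke xe5 ye14 ze22) (ke xe8 ye49 ze1) (ke xe2 ye10 ze13) (ke xe6 ye13 ze22) (ke xe8 ye49 ze6) (ke xe2 ye12 ze52)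 (ke xe2 ye10 ze14) (ke xe8 ye49 ze11) (ke xe8 ye44 ze30) (ke xe8 ye49 ze10) (ke xe8 ye47 ze43) (ke xe2 ye10 ze16) (ke xe8 ye49 ze18) (ke xe2 ye10 ze17) (ke xe8 ye49 ze20)) (@D3.rec (fun _ => Pt) (ke xe2 ye10 ze18) (ke xe8 ye49 ze26) (ke xe2 ye10 ze19) (ke xe2 ye47 ze14) (ke xe8 ye49 ze28) (ke xe5 ye13 ze38) (ke xe8 ye49 ze36) (ke xe8 ye49 ze37) (ke xe8 ye49 ze40) (ke xe2 ye10 ze21) (ke xe8 ye49 ze44) (ke xe8 ye49 ze47) (ke xe2 ye10 ze22) (ke xe8 ye49 ze53) (ke xe8 ye49 ze56) (ke xe2 ye10 ze23) (ke xe8 ye49 ze61) (ke xe8 ye50 ze0) (ke xe5 ye41 ze56) (ke xe8 ye50 ze4) (ke xe2 ye10 ze24) (ke xe8 ye50 ze9) (ke xe8 ye50 ze12) (ke xe5 ye40 ze21) (ke xe8 ye50 ze15) (ke xe2 ye10 ze26) (ke xe8 ye50 ze21) (ke xe8 ye50 ze18) (ke xe8 ye50 ze26) (ke xe8 ye50 ze30) (ke xe2 ye10 ze28)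 (ke xe8 ye50 ze36) (ke xe8 ye50 ze39) (ke xe4 ye0 ze38) (ke xe6 ye13 ze54) (ke xe8 ye50 ze44) (ke xe7 ye18 ze60) (ke xe8 ye50 ze46) (ke xe2 ye10 ze30) (ke xe8 ye50 ze53) (ke xe8 ye50 ze56) (ke xe3 ye3 ze20) (ke xe3 ye58 ze2) (ke xe8 ye51 ze3) (ke xe8 ye51 ze6) (ke xe8 ye51 ze10) (ke xe2 ye10 ze32) (ke xe8 ye51 ze17) (ke xe8 ye51 ze20) (ke xe8 ye51 ze22) (ke xe2 ye10 ze33) (ke xe2 ye10 ze34) (ke xe8 ye51 ze29) (ke xe8 ye51 ze32) (ke xe2 ye10 ze38) (ke xe8 ye51 ze39) (ke xe7 ye57 ze7) (ke xe8 ye51 ze42) (ke xe2 ye10 ze37) (ke xe8 ye51 ze45) (ke xe8 ye51 ze47) (ke xe8 ye51 ze35)) (@D3.rec (fun _ => Pt) (ke xe4 ye4 ze51) (ke xe8 ye51 ze54) (ke xe2 ye26 ze57) (ke xe2 ye29 ze50) (ke xe4 ye0 ze7) (ke xe8 ye51 ze59) (ke xe3 ye4 ze39) (ke xe8 ye19 ze2) (ke xe8 ye52 ze0) (ke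 xe8 ye52 ze1) (ke xe2 ye36 ze12) (ke xe8 ye52 ze4) (ke xe8 ye52 ze7) (ke xe2 ye10 ze48) (ke xe8 ye52 ze11) (ke xe2 ye10 ze50) (ke xe8 ye52 ze17) (ke xe8 ye52 ze20) (ke xe2 ye36 ze26) (ke xe8 ye52 ze27) (ke xe8 ye52 ze28) (ke xe2 ye10 ze52) (ke xe6 ye24 ze35) (ke xe2 ye10 ze53) (ke xe8 ye52 ze34) (ke xe2 ye10 ze55) (ke xe8 ye52 ze40) (ke xe8 ye52 ze43) (ke xe2 ye36 ze43) (ke xe8 ye52 ze52) (ke xe8 ye44 ze47) (ke xe2 ye10 ze57) (ke xe8 ye52 ze55) (ke xe2 ye10 ze58) (ke xe8 ye52 ze60) (ke xe2 ye10 ze60) (ke xe8 ye53 ze3) (ke xe8 ye53 ze6) (ke xe6 ye4 ze30) (ke xe8 ye53 ze14) (ke xe8 ye53 ze15) (ke xe2 ye11 ze0) (ke xe8 ye53 ze17) (ke xe2 ye11 ze1) (ke xe4 ye3 ze42) (ke xe4 ye52 ze52) (ke xe8 ye53 ze23) (ke xe2 ye11 ze3) (ke xe8 ye53 ze29) (ke xe2 ye11 ze4) (ke xe8 ye53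 ze32) (ke xe8 ye53 ze35) (ke xe8 ye53 ze40) (ke xe8 ye53 ze43) (ke xe2 ye11 ze5) (ke xe6 ye4 ze42) (ke xe8 ye53 ze50) (ke xe2 ye11 ze8) (ke xe8 ye52 ze57) (ke xe8 ye53 ze52) (ke xe8 ye53 ze61) (ke xe8 ye54 ze0)) (@D3.rec (fun _ => Pt) (ke xe2 ye11 ze10) (ke xe8 ye54 ze6) (ke xe5 ye19 ze55) (ke xe8 ye7 ze19) (ke xe8 ye54 ze9) (ke xe2 ye11 ze13) (ke xe8 ye54 ze15) (ke xe6 ye4 ze59) (ke xe8 ye54 ze21) (ke xe8 ye54 ze24) (ke xe2 ye11 ze14) (ke xe6 ye5 ze7) (ke xe8 ye54 ze33) (ke xe2 ye33 ze24) (ke xe8 ye53 ze0) (ke xe8 ye54 ze39) (ke xe8 ye54 ze40) (ke xe2 ye11 ze16) (ke xe8 ye54 ze46) (ke xe6 ye4 ze61) (ke xe2 ye31 ze53) (ke xe8 ye8 ze15) (ke xe8 ye54 ze53) (ke xe8 ye54 ze54) (ke xe8 ye53 ze1) (ke xe2 ye11 ze18) (ke xe8 ye55 ze0) (ke xe8 ye55 ze1) (ke xe8 ye55 ze2) (ke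 xe2 ye11 ze19) (ke xe8 ye55 ze10) (ke xe8 ye55 ze15) (ke xe6 ye5 ze17) (ke xe8 ye55 ze20) (ke xe8 ye55 ze22) (ke xe8 ye55 ze24) (ke xe8 ye55 ze26) (ke xe8 ye55 ze28) (ke xe2 ye11 ze21) (ke xe8 ye55 ze32) (ke xe2 ye11 ze22) (ke xe8 ye55 ze39) (ke xe8 ye34 ze38) (ke xe8 ye55 ze44) (ke xe2 ye11 ze24) (ke xe8 ye55 ze49) (ke xe2 ye11 ze25) (ke xe8 ye55 ze51) (ke xe8 ye55 ze53) (ke xe5 ye53 ze7) (ke xe8 ye55 ze60) (ke xe2 ye11 ze26) (ke xe6 ye5 ze33) (ke xe8 ye56 ze5) (ke xe2 ye41 ze24) (ke xe8 ye56 ze9) (ke xe2 ye11 ze31) (ke xe8 ye56 ze13) (ke xe8 ye56 ze16) (ke xe4 ye59 ze7) (ke xe2 ye50 ze37) (ke xe6 ye5 ze41)) (@D3.rec (fun _ => Pt) (ke xe2 ye11 ze36) (ke xe8 ye56 ze22) (ke xe8 ye56 ze25) (ke xe2 ye11 ze39) (ke xe8 ye38 ze51) (ke xe8 ye56 ze28) (ke xe2 ye11 ze40) (ke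 xe8 ye56 ze30) (ke xe8 ye56 ze32) (ke xe8 ye56 ze37) (ke xe8 ye56 ze38) (ke xe2 ye11 ze41) (ke xe8 ye56 ze42) (ke xe2 ye39 ze19) (ke xe2 ye40 ze23) (ke xe8 ye56 ze45) (ke xe8 ye56 ze48) (ke xe8 ye56 ze50) (ke xe8 ye56 ze54) (ke xe2 ye11 ze43) (ke xe2 ye11 ze44) (ke xe5 ye36 ze18) (ke xe8 ye56 ze60) (ke xe2 ye11 ze46) (ke xe8 ye57 ze0) (ke xe2 ye35 ze29) (ke xe8 ye57 ze6) (ke xe8 ye57 ze7) (ke xe2 ye11 ze48) (ke xe8 ye16 ze3) (ke xe8 ye57 ze17) (ke xe2 ye32 ze57) (ke xe2 ye42 ze26) (ke xe8 ye57 ze21) (ke xe6 ye6 ze5) (ke xe8 ye57 ze25) (ke xe8 ye57 ze27) (ke xe2 ye11 ze50) (ke xe2 ye11 ze51) (ke xe2 ye12 ze34) (ke xe8 ye57 ze33) (ke xe4 ye32 ze3) (ke xe2 ye42 ze35) (ke xe6 ye6 ze29) (ke xe2 ye42 ze12) (ke xe8 ye57 ze42) (ke xe2 ye35 ze10) (ke xe2 ye11 ze54) (ke xe2 ye28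 ze50) (ke xe2 ye11 ze57) (ke xe8 ye57 ze52) (ke xe8 ye57 ze53) (ke xe2 ye11 ze58) (ke xe8 ye57 ze59) (ke xe8 ye28 ze49) (ke xe2 ye41 ze57) (ke xe6 ye6 ze24) (ke xe8 ye58 ze3) (ke xe8 ye58 ze5) (ke xe5 ye49 ze0) (ke xe2 ye11 ze60) (ke xe6 ye6 ze10)) (@D3.rec (fun _ => Pt) (ke xe8 ye58 ze11) (ke xe2 ye12 ze1) (ke xe6 ye6 ze13) (ke xe5 ye53 ze24) (ke xe8 ye58 ze17) (ke xe6 ye6 ze31) (ke xe8 ye58 ze22) (ke xe8 ye58 ze24) (ke xe2 ye12 ze4) (ke xe2 ye12 ze5) (ke xe2 ye47 ze29) (ke xe2 ye42 ze58) (ke xe6 ye6 ze38) (ke xe8 ye58 ze40) (ke xe8 ye58 ze43) (ke xe8 ye58 ze47) (ke xe8 ye58 ze49) (ke xe2 ye12 ze7) (ke xe2 ye12 ze8) (ke xe8 ye58 ze52) (ke xe8 ye58 ze56) (ke xe6 ye3 ze53) (ke xe8 ye54 ze20) (ke xe8 ye59 ze3) (ke xe2 ye12 ze10) (ke xe5 ye56 ze51) (ke xe8 ye59 ze12) (ke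 xe8 ye59 ze15) (ke xe8 ye59 ze17) (ke xe2 ye12 ze11) (ke xe8 ye59 ze20) (ke xe4 ye34 ze16) (ke xe8 ye59 ze24) (ke xe8 ye59 ze28) (ke xe2 ye12 ze13) (ke xe2 ye12 ze14) (ke xe4 ye34 ze14) (ke xe2 ye48 ze34) (ke xe2 ye12 ze16) (ke xe8 ye59 ze37) (ke xe8 ye59 ze39) (ke xe2 ye48 ze41) (ke xe8 ye59 ze41) (ke xe8 ye59 ze43) (ke xe2 ye48 ze40) (ke xe8 ye59 ze49) (ke xe8 ye59 ze51) (ke xe5 ye6 ze24) (ke xe2 ye12 ze19) (ke xe8 ye31 ze27) (ke xe8 ye34 ze50) (ke xe4 ye10 ze58) (ke xe8 ye11 ze22) (ke xe8 ye59 ze57) (ke xe2 ye12 ze21) (ke xe8 ye59 ze60) (ke xe9 ye0 ze1) (ke xe2 ye55 ze61) (ke xe2 ye12 ze23) (ke xe6 ye7 ze7) (ke xe9 ye0 ze6) (ke xe2 ye12 ze26)) (@D3.rec (fun _ => Pt) (ke xe6 ye7 ze59) (ke xe2 ye33 ze6) (ke xe9 ye0 ze7) (ke xe9 ye0 ze9) (ke xe4 ye7 ze7) (ke xe2 ye51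 ze11) (ke xe9 ye0 ze12) (ke xe9 ye0 ze15) (ke xe9 ye0 ze18) (ke xe2 ye12 ze31) (ke xe9 ye0 ze23) (ke xe9 ye0 ze26) (ke xe2 ye46 ze4) (ke xe6 ye4 ze10) (ke xe2 ye14 ze0) (ke xe5 ye57 ze4) (ke xe9 ye0 ze31) (ke xe2 ye12 ze37) (ke xe9 ye0 ze34) (ke xe2 ye12 ze38) (ke xe9 ye0 ze35) (ke xe9 ye0 ze38) (ke xe2 ye12 ze39) (ke xe9 ye0 ze43) (ke xe9 ye0 ze46) (ke xe9 ye0 ze51) (ke xe9 ye0 ze53) (ke xe2 ye12 ze40) (ke xe9 ye0 ze58) (ke xe4 ye4 ze32) (ke xe2 ye43 ze53) (ke xe9 ye1 ze1) (ke xe9 ye1 ze4) (ke xe9 ye1 ze5) (ke xe2 ye12 ze44) (ke xe8 ye59 ze35) (ke xe2 ye15 ze28) (ke xe9 ye1 ze16) (ke xe2 ye12 ze46) (ke xe4 ye6 ze23) (ke xe2 ye14 ze10) (ke xe6 ye7 ze26) (ke xe6 ye7 ze27) (ke xe8 ye48 ze54) (ke xe9 ye1 ze24) (ke xe9 ye1 ze27) (ke xe9 ye1 ze28) (ke xe2 ye14 ze41) (ke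 xe2 ye14 ze23) (ke xe9 ye1 ze29) (ke xe2 ye12 ze56) (ke xe2 ye13 ze61) (ke xe9 ye1 ze37) (ke xe2 ye46 ze39) (ke xe9 ye1 ze38) (ke xe9 ye1 ze39) (ke xe2 ye14 ze27) (ke xe5 ye56 ze23) (ke xe2 ye12 ze61) (ke xe9 ye1 ze42) (ke xe2 ye13 ze0) (ke xe9 ye1 ze46)) (@D3.rec (fun _ => Pt) (ke xe2 ye13 ze1) (ke xe2 ye31 ze2) (ke xe9 ye1 ze49) (ke xe4 ye29 ze41) (ke xe8 ye0 ze56) (ke xe2 ye13 ze4) (ke xe2 ye46 ze21) (ke xe2 ye14 ze57) (ke xe2 ye52 ze59) (ke xe9 ye1 ze59) (ke xe2 ye14 ze51) (ke xe9 ye2 ze0) (ke xe9 ye2 ze2) (ke xe9 ye2 ze4) (ke xe9 ye2 ze8) (ke xe2 ye13 ze10) (ke xe9 ye2 ze11) (ke xe2 ye17 ze53) (ke xe9 ye2 ze18) (ke xe2 ye13 ze13) (ke xe2 ye47 ze32) (ke xe6 ye43 ze60) (ke xe2 ye15 ze5) (ke xe9 ye2 ze25) (ke xe2 ye15 ze21) (ke xe8 ye0 ze11) (ke xe9 ye2 ze29) (ke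 xe2 ye13 ze16) (ke xe3 ye33 ze30) (ke xe9 ye2 ze33) (ke xe2 ye13 ze17) (ke xe2 ye15 ze14) (ke xe4 ye25 ze5) (ke xe9 ye2 ze38) (ke xe2 ye13 ze18) (ke xe9 ye2 ze40) (ke xe9 ye2 ze42) (ke xe9 ye2 ze45) (ke xe2 ye13 ze19) (ke xe4 ye7 ze4) (ke xe2 ye53 ze20) (ke xe9 ye2 ze48) (ke xe2 ye46 ze61) (ke xe2 ye42 ze49) (ke xe2 ye57 ze36) (ke xe2 ye13 ze22) (ke xe2 ye47 ze7) (ke xe9 ye2 ze55) (ke xe9 ye2 ze59) (ke xe2 ye15 ze33) (ke xe2 ye46 ze49) (ke xe9 ye3 ze1) (ke xe7 ye14 ze8) (ke xe2 ye54 ze31) (ke xe2 ye15 ze40) (ke xe7 ye7 ze41) (ke xe5 ye6 ze8) (ke xe3 ye36 ze46) (ke xe9 ye3 ze12) (ke xe2 ye13 ze27) (ke xe9 ye3 ze16) (ke xe2 ye13 ze28)) (@D3.rec (fun _ => Pt) (ke xe9 ye3 ze18) (ke xe2 ye13 ze29) (ke xe9 ye3 ze20) (ke xe2 ye13 ze30) (ke xe2 ye15 ze49) (ke xe9 ye3 ze22)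 (ke xe9 ye3 ze27) (ke xe9 ye3 ze30) (ke xe9 ye3 ze34) (ke xe2 ye13 ze32) (ke xe9 ye3 ze39) (ke xe9 ye3 ze44) (ke xe2 ye13 ze33) (ke xe9 ye3 ze50) (ke xe2 ye13 ze34) (ke xe9 ye3 ze56) (ke xe9 ye3 ze60) (ke xe9 ye4 ze3) (ke xe9 ye4 ze5) (ke xe2 ye13 ze35) (ke xe9 ye4 ze10) (ke xe9 ye4 ze14) (ke xe9 ye4 ze18) (ke xe9 ye4 ze19) (ke xe2 ye13 ze37) (ke xe9 ye4 ze22) (ke xe9 ye4 ze26) (ke xe9 ye4 ze30) (ke xe2 ye13 ze39) (ke xe9 ye4 ze36) (ke xe9 ye4 ze38) (ke xe2 ye48 ze33) (ke xe9 ye4 ze40) (ke xe3 ye59 ze32) (ke xe2 ye13 ze41) (ke xe9 ye4 ze46) (ke xe9 ye4 ze49) (ke xe6 ye16 ze13) (ke xe9 ye4 ze51) (ke xe2 ye13 ze43) (ke xe9 ye4 ze58) (ke xe4 ye38 ze39) (ke xe2 ye43 ze22) (ke xe2 ye43 ze19) (ke xe6 ye11 ze57) (ke xe9 ye5 ze4) (ke xe6 ye25 ze44) (ke xe2 ye13 ze45) (ke xe9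 ye5 ze11) (ke xe2 ye50 ze28) (ke xe2 ye17 ze30) (ke xe2 ye13 ze46) (ke xe2 ye13 ze47) (ke xe9 ye5 ze17) (ke xe9 ye5 ze20) (ke xe2 ye13 ze49) (ke xe9 ye5 ze24) (ke xe2 ye13 ze51) (ke xe6 ye6 ze27) (ke xe9 ye5 ze28) (ke xe2 ye13 ze53) (ke xe5 ye38 ze50)) (@D3.rec (fun _ => Pt) (ke xe2 ye13 ze54) (ke xe5 ye53 ze46) (ke xe6 ye46 ze52) (ke xe2 ye13 ze56) (ke xe2 ye51 ze24) (ke xe9 ye5 ze38) (ke xe5 ye31 ze54) (ke xe9 ye5 ze39) (ke xe9 ye5 ze42) (ke xe2 ye13 ze59) (ke xe6 ye3 ze6) (ke xe5 ye37 ze34) (ke xe2 ye27 ze51) (ke xe9 ye1 ze33) (ke xe4 ye30 ze36) (ke xe5 ye57 ze8) (ke xe4 ye30 ze31) (ke xe2 ye14 ze3) (ke xe2 ye14 ze4) (ke xe2 ye49 ze17) (ke xe2 ye14 ze7) (ke xe9 ye5 ze47) (ke xe2 ye14 ze8) (ke xe2 ye49 ze34) (ke xe9 ye1 ze19) (ke xe9 ye5 ze50) (ke xe2 ye14 ze11) (ke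 xe9 ye5 ze53) (ke xe2 ye14 ze12) (ke xe9 ye5 ze54) (ke xe2 ye14 ze13) (ke xe9 ye5 ze55) (ke xe2 ye14 ze14) (ke xe9 ye6 ze0) (ke xe9 ye6 ze2) (ke xe2 ye50 ze21) (ke xe9 ye6 ze4) (ke xe6 ye8 ze57) (ke xe2 ye14 ze18) (ke xe9 ye5 ze27) (ke xe9 ye6 ze8) (ke xe2 ye14 ze19) (ke xe2 ye14 ze21) (ke xe2 ye14 ze24) (ke xe3 ye8 ze43) (ke xe2 ye39 ze34) (ke xe2 ye52 ze33) (ke xe2 ye14 ze28) (ke xe8 ye14 ze32) (ke xe9 ye6 ze16) (ke xe2 ye14 ze30) (ke xe9 ye6 ze19) (ke xe9 ye6 ze22) (ke xe2 ye14 ze32) (ke xe9 ye6 ze30) (ke xe9 ye6 ze34) (ke xe2 ye14 ze35) (ke xe2 ye51 ze61) (ke xe2 ye46 ze5) (ke xe9 ye6 ze41) (ke xe9 ye6 ze44) (ke xe5 ye28 ze48)) (@D3.rec (fun _ => Pt) (ke xe9 ye6 ze37) (ke xe9 ye6 ze51) (ke xe5 ye26 ze21) (ke xe9 ye6 ze53) (ke xe2 ye27 ze15) (ke xe2 ye27 ze4) (ke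 xe2 ye39 ze48) (ke xe9 ye6 ze61) (ke xe2 ye14 ze42) (ke xe5 ye30 ze38) (ke xe2 ye14 ze44) (ke xe2 ye15 ze51) (ke xe2 ye59 ze25) (ke xe9 ye7 ze7) (ke xe2 ye14 ze48) (ke xe9 ye7 ze8) (ke xe9 ye7 ze10) (ke xe2 ye14 ze50) (ke xe9 ye7 ze11) (ke xe9 ye7 ze14) (ke xe2 ye14 ze52) (ke xe9 ye7 ze15) (ke xe2 ye14 ze53) (ke xe2 ye47 ze27) (ke xe9 ye7 ze18) (ke xe2 ye16 ze15) (ke xe9 ye7 ze24) (ke xe9 ye7 ze26) (ke xe2 ye14 ze55) (ke xe6 ye2 ze36) (ke xe9 ye7 ze32) (ke xe2 ye14 ze59) (ke xe2 ye54 ze46) (ke xe8 ye43 ze60) (ke xe9 ye7 ze38) (ke xe5 ye13 ze39) (ke xe9 ye7 ze41) (ke xe9 ye7 ze43) (ke xe9 ye7 ze45) (ke xe9 ye7 ze35) (ke xe9 ye7 ze51) (ke xe2 ye14 ze61) (ke xe9 ye7 ze54) (ke xe2 ye15 ze0) (ke xe5 ye45 ze47) (ke xe9 ye7 ze55) (ke xe2 ye54 ze41) (ke xe2 ye15 ze4) (ke xe9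 ye7 ze61) (ke xe9 ye8 ze2) (ke xe2 ye15 ze6) (ke xe2 ye16 ze37) (ke xe5 ye27 ze12) (ke xe2 ye15 ze7) (ke xe9 ye8 ze3) (ke xe2 ye15 ze8) (ke xe9 ye8 ze6) (ke xe2 ye15 ze9) (ke xe2 ye15 ze38) (ke xe5 ye27 ze10) (ke xe9 ye8 ze11) (ke xe2 ye15 ze11)) (@D3.rec (fun _ => Pt) (ke xe9 ye8 ze15) (ke xe2 ye15 ze12) (ke xe2 ye46 ze59) (ke xe9 ye8 ze17) (ke xe2 ye53 ze23) (ke xe9 ye8 ze24) (ke xe2 ye26 ze56) (ke xe9 ye8 ze26) (ke xe9 ye8 ze27) (ke xe2 ye15 ze16) (ke xe3 ye3 ze16) (ke xe3 ye57 ze31) (ke xe9 ye8 ze30) (ke xe2 ye53 ze36) (ke xe9 ye8 ze39) (ke xe9 ye8 ze40) (ke xe9 ye8 ze42) (ke xe2 ye15 ze18) (ke xe9 ye8 ze46) (ke xe9 ye8 ze48) (ke xe2 ye15 ze22) (ke xe2 ye54 ze23) (ke xe5 ye27 ze9) (ke xe7 ye59 ze12) (ke xe9 ye8 ze57) (ke xe9 ye8 ze60) (ke xe8 ye21 ze53) (ke xe9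 ye8 ze51) (ke xe9 ye9 ze4) (ke xe9 ye9 ze8) (ke xe2 ye15 ze24) (ke xe9 ye9 ze11) (ke xe2 ye15 ze25) (ke xe6 ye7 ze21) (ke xe9 ye9 ze13) (ke xe9 ye1 ze9) (ke xe2 ye15 ze29) (ke xe2 ye59 ze28) (ke xe9 ye9 ze19) (ke xe9 ye9 ze22) (ke xe2 ye15 ze32) (ke xe9 ye9 ze23) (ke xe9 ye9 ze24) (ke xe7 ye17 ze25) (ke xe9 ye9 ze27) (ke xe2 ye15 ze35) (ke xe9 ye9 ze29) (ke xe6 ye31 ze53) (ke xe2 ye15 ze36) (ke xe9 ye9 ze31) (ke xe8 ye0 ze0) (ke xe9 ye9 ze33) (ke xe2 ye15 ze39) (ke xe9 ye9 ze36) (ke xe4 ye4 ze50) (ke xe9 ye9 ze40) (ke xe2 ye15 ze41) (ke xe8 ye46 ze55) (ke xe9 ye9 ze44) (ke xe9 ye9 ze46) (ke xe2 ye48 ze6) (ke xe2 ye15 ze42)) (@D3.rec (fun _ => Pt) (ke xe9 ye9 ze50) (ke xe7 ye7 ze35) (ke xe8 ye38 ze15) (ke xe9 ye9 ze48) (ke xe8 ye46 ze40) (ke xe2 ye15 ze44) (ke xe9 ye9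 ze58) (ke xe2 ye15 ze45) (ke xe9 ye10 ze0) (ke xe9 ye10 ze1) (ke xe9 ye10 ze2) (ke xe9 ye10 ze5) (ke xe2 ye15 ze46) (ke xe9 ye10 ze10) (ke xe6 ye2 ze31) (ke xe2 ye15 ze50) (ke xe9 ye9 ze5) (ke xe2 ye15 ze48) (ke xe9 ye10 ze14) (ke xe9 ye10 ze16) (ke xe7 ye37 ze54) (ke xe9 ye10 ze20) (ke xe9 ye10 ze12) (ke xe9 ye10 ze23) (ke xe2 ye15 ze54) (ke xe9 ye10 ze27) (ke xe9 ye10 ze28) (ke xe2 ye15 ze56) (ke xe2 ye47 ze20) (ke xe9 ye10 ze31) (ke xe9 ye10 ze38) (ke xe9 ye10 ze39) (ke xe2 ye15 ze58) (ke xe9 ye10 ze46) (ke xe2 ye15 ze61) (ke xe9 ye7 ze52) (ke xe9 ye10 ze51) (ke xe2 ye44 ze16) (ke xe9 ye10 ze48) (ke xe9 ye10 ze56) (ke xe9 ye10 ze57) (ke xe9 ye10 ze58) (ke xe2 ye16 ze1) (ke xe9 ye11 ze4) (ke xe9 ye11 ze8) (ke xe3 ye20 ze32) (ke xe9 ye11 ze9) (ke xe2 ye16 ze3) (ke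 xe9 ye11 ze15) (ke xe9 ye11 ze16) (ke xe2 ye16 ze4) (ke xe7 ye30 ze39) (ke xe6 ye46 ze49) (ke xe4 ye39 ze57) (ke xe3 ye20 ze23) (ke xe9 ye11 ze28) (ke xe9 ye11 ze29) (ke xe2 ye16 ze6) (ke xe6 ye32 ze40) (ke xe9 ye11 ze38) (ke xe3 ye20 ze29) (ke xe4 ye59 ze59)) (@D3.rec (fun _ => Pt) (ke xe9 ye11 ze43) (ke xe9 ye11 ze44) (ke xe2 ye16 ze8) (ke xe9 ye11 ze50) (ke xe9 ye11 ze51) (ke xe9 ye11 ze52) (ke xe2 ye16 ze9) (ke xe9 ye11 ze56) (ke xe6 ye7 ze28) (ke xe9 ye11 ze57) (ke xe2 ye16 ze10) (ke xe9 ye12 ze3) (ke xe9 ye12 ze7) (ke xe9 ye11 ze60) (ke xe3 ye17 ze57) (ke xe9 ye12 ze16) (ke xe9 ye12 ze20) (ke xe9 ye12 ze24) (ke xe2 ye16 ze12) (ke xe9 ye12 ze30) (ke xe9 ye12 ze33) (ke xe9 ye12 ze35) (ke xe2 ye16 ze13) (ke xe8 ye38 ze13) (ke xe9 ye12 ze39) (ke xe9 ye12 ze41) (ke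 xe5 ye32 ze1) (ke xe3 ye20 ze41) (ke xe9 ye12 ze48) (ke xe2 ye16 ze17) (ke xe9 ye12 ze54) (ke xe9 ye12 ze55) (ke xe9 ye12 ze57) (ke xe2 ye16 ze18) (ke xe7 ye44 ze22) (ke xe9 ye13 ze3) (ke xe2 ye17 ze49) (ke xe2 ye57 ze20) (ke xe3 ye10 ze48) (ke xe4 ye33 ze41) (ke xe9 ye13 ze11) (ke xe8 ye58 ze30) (ke xe9 ye13 ze13) (ke xe9 ye13 ze16) (ke xe2 ye16 ze24) (ke xe2 ye57 ze2) (ke xe9 ye13 ze21) (ke xe9 ye13 ze22) (ke xe2 ye16 ze25) (ke xe9 ye13 ze28) (ke xe9 ye13 ze24) (ke xe2 ye18 ze60) (ke xe2 ye57 ze5) (ke xe2 ye40 ze1) (ke xe7 ye43 ze22) (ke xe9 ye13 ze37) (ke xe2 ye16 ze28) (ke xe9 ye13 ze39) (ke xe9 ye13 ze41) (ke xe2 ye19 ze2) (ke xe9 ye13 ze44) (ke xe3 ye20 ze42)) (@D3.rec (fun _ => Pt) (ke xe9 ye13 ze48) (ke xe9 ye13 ze51) (ke xe5 ye49 ze30) (ke xe2 ye16 ze31) (ke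 xe8 ye58 ze34) (ke xe2 ye47 ze30) (ke xe3 ye20 ze60) (ke xe2 ye17 ze60) (ke xe3 ye20 ze53) (ke xe2 ye56 ze59) (ke xe9 ye14 ze5) (ke xe5 ye49 ze26) (ke xe2 ye16 ze35) (ke xe9 ye1 ze12) (ke xe6 ye22 ze8) (ke xe2 ye16 ze36) (ke xe3 ye3 ze15) (ke xe9 ye14 ze13) (ke xe9 ye14 ze15) (ke xe2 ye16 ze38) (ke xe9 ye14 ze20) (ke xe9 ye14 ze22) (ke xe2 ye16 ze39) (ke xe9 ye14 ze27) (ke xe9 ye14 ze29) (ke xe2 ye16 ze40) (ke xe9 ye14 ze34) (ke xe9 ye14 ze36) (ke xe3 ye21 ze9) (ke xe5 ye30 ze46) (ke xe6 ye22 ze28) (ke xe2 ye16 ze43) (ke xe9 ye14 ze43) (ke xe2 ye16 ze45) (ke xe7 ye6 ze24) (ke xe2 ye16 ze47) (ke xe9 ye14 ze48) (ke xe2 ye16 ze50) (ke xe9 ye14 ze54) (ke xe9 ye14 ze57) (ke xe5 ye46 ze35) (ke xe2 ye26 ze19) (ke xe4 ye42 ze54) (ke xe5 ye37 ze11) (ke xe9 ye15 ze1) (ke xe5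 ye38 ze43) (ke xe8 ye51 ze56) (ke xe9 ye15 ze5) (ke xe2 ye16 ze54) (ke xe9 ye15 ze10) (ke xe2 ye16 ze56) (ke xe9 ye9 ze59) (ke xe2 ye16 ze58) (ke xe9 ye15 ze18) (ke xe9 ye15 ze19) (ke xe2 ye16 ze60) (ke xe7 ye6 ze7) (ke xe4 ye37 ze53) (ke xe9 ye15 ze24) (ke xe9 ye15 ze25) (ke xe9 ye15 ze26) (ke xe2 ye17 ze2)) (@D3.rec (fun _ => Pt) (ke xe9 ye15 ze15) (ke xe9 ye15 ze36) (ke xe3 ye2 ze33) (ke xe9 ye15 ze39) (ke xe5 ye50 ze25) (ke xe2 ye17 ze4) (ke xe9 ye15 ze42) (ke xe9 ye15 ze44) (ke xe2 ye17 ze5) (ke xe2 ye17 ze7) (ke xe2 ye17 ze8) (ke xe2 ye20 ze36) (ke xe8 ye35 ze42) (ke xe4 ye45 ze57) (ke xe2 ye17 ze12) (ke xe9 ye15 ze52) (ke xe4 ye46 ze13) (ke xe9 ye16 ze1) (ke xe9 ye16 ze2) (ke xe2 ye17 ze15) (ke xe9 ye16 ze8) (ke xe3 ye14 ze54) (ke xe6 ye17 ze23) (ke xe9 ye16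 ze10) (ke xe3 ye14 ze49) (ke xe9 ye16 ze13) (ke xe9 ye6 ze26) (ke xe9 ye16 ze18) (ke xe2 ye17 ze18) (ke xe6 ye43 ze45) (ke xe6 ye49 ze25) (ke xe9 ye16 ze25) (ke xe9 ye16 ze28) (ke xe9 ye16 ze29) (ke xe2 ye17 ze21) (ke xe9 ye16 ze32) (ke xe9 ye16 ze33) (ke xe9 ye16 ze35) (ke xe2 ye17 ze22) (ke xe9 ye16 ze41) (ke xe2 ye17 ze23) (ke xe9 ye16 ze48) (ke xe9 ye16 ze51) (ke xe9 ye16 ze44) (ke xe6 ye17 ze29) (ke xe9 ye16 ze56) (ke xe9 ye16 ze59) (ke xe9 ye16 ze61) (ke xe2 ye17 ze25) (ke xe6 ye17 ze46) (ke xe2 ye17 ze28) (ke xe9 ye17 ze10) (ke xe9 ye17 ze13) (ke xe3 ye0 ze45) (ke xe3 ye0 ze42) (ke xe9 ye5 ze10) (ke xe9 ye5 ze14) (ke xe9 ye17 ze23) (ke xe9 ye17 ze25) (ke xe2 ye17 ze31) (ke xe9 ye17 ze27) (ke xe3 ye0 ze57)) (@D3.rec (fun _ => Pt) (ke xe9 ye17 ze30) (ke xe3 ye14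 ze56) (ke xe9 ye17 ze35) (ke xe2 ye17 ze34) (ke xe9 ye17 ze38) (ke xe9 ye17 ze40) (ke xe2 ye17 ze35) (ke xe6 ye30 ze5) (ke xe2 ye17 ze36) (ke xe3 ye14 ze29) (ke xe3 ye3 ze4) (ke xe6 ye29 ze40) (ke xe2 ye17 ze38) (ke xe5 ye50 ze33) (ke xe4 ye57 ze52) (ke xe2 ye17 ze39) (ke xe3 ye3 ze7) (ke xe3 ye2 ze55) (ke xe2 ye48 ze55) (ke xe6 ye14 ze60) (ke xe8 ye52 ze50) (ke xe9 ye17 ze45) (ke xe2 ye17 ze45) (ke xe5 ye56 ze39) (ke xe9 ye12 ze51) (ke xe9 ye17 ze49) (ke xe5 ye34 ze37) (ke xe2 ye17 ze48) (ke xe9 ye17 ze52) (ke xe9 ye17 ze54) (ke xe9 ye13 ze5) (ke xe3 ye20 ze28) (ke xe9 ye17 ze59) (ke xe2 ye17 ze51) (ke xe2 ye17 ze52) (ke xe9 ye2 ze14) (ke xe9 ye18 ze3) (ke xe9 ye18 ze4) (ke xe2 ye17 ze54) (ke xe2 ye17 ze55) (ke xe9 ye13 ze57) (ke xe5 ye6 ze61) (ke xe4 ye41 ze42) (ke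 xe6 ye12 ze59) (ke xe5 ye0 ze16) (ke xe3 ye11 ze10) (ke xe6 ye46 ze45) (ke xe2 ye57 ze6) (ke xe9 ye18 ze14) (ke xe2 ye18 ze8) (ke xe4 ye43 ze47) (ke xe4 ye43 ze49) (ke xe2 ye19 ze33) (ke xe4 ye19 ze0) (ke xe2 ye18 ze18) (ke xe2 ye18 ze28) (ke xe9 ye18 ze22) (ke xe2 ye18 ze17) (ke xe3 ye8 ze54) (ke xe4 ye48 ze31) (ke xe9 ye18 ze19) (ke xe8 ye35 ze28)) (@D3.rec (fun _ => Pt) (ke xe6 ye30 ze15) (ke xe6 ye30 ze18) (ke xe3 ye12 ze53) (ke xe3 ye9 ze12) (ke xe6 ye30 ze26) (ke xe3 ye11 ze15) (ke xe6 ye37 ze1) (ke xe6 ye35 ze19) (ke xe8 ye25 ze0) (ke xe6 ye48 ze26) (ke xe4 ye43 ze31) (ke xe4 ye48 ze34) (ke xe9 ye18 ze8) (ke xe2 ye18 ze34) (ke xe8 ye24 ze31) (ke xe6 ye48 ze51) (ke xe9 ye18 ze20) (ke xe9 ye18 ze56) (ke xe9 ye18 ze59) (ke xe2 ye18 ze31) (ke xe9 ye19 ze3) (ke xe2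 ye18 ze32) (ke xe3 ye12 ze55) (ke xe3 ye8 ze33) (ke xe9 ye19 ze8) (ke xe9 ye19 ze11) (ke xe9 ye18 ze48) (ke xe9 ye19 ze13) (ke xe9 ye19 ze17) (ke xe2 ye18 ze39) (ke xe9 ye19 ze21) (ke xe2 ye18 ze40) (ke xe3 ye3 ze9) (ke xe3 ye19 ze26) (ke xe3 ye8 ze7) (ke xe2 ye18 ze43) (ke xe9 ye19 ze27) (ke xe9 ye19 ze28) (ke xe2 ye18 ze46) (ke xe9 ye19 ze34) (ke xe9 ye19 ze37) (ke xe2 ye18 ze49) (ke xe3 ye4 ze23) (ke xe9 ye19 ze41) (ke xe9 ye19 ze42) (ke xe9 ye19 ze43) (ke xe6 ye16 ze60) (ke xe2 ye49 ze35) (ke xe9 ye19 ze44) (ke xe2 ye18 ze53) (ke xe5 ye54 ze30) (ke xe4 ye56 ze41) (ke xe9 ye19 ze47) (ke xe2 ye18 ze56) (ke xe4 ye39 ze42) (ke xe5 ye54 ze38) (ke xe3 ye5 ze11) (ke xe9 ye19 ze52) (ke xe2 ye18 ze59) (ke xe2 ye19 ze0) (ke xe9 ye13 ze42) (ke xe2 ye19 ze3)) (@D3.rec (fun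 _ => Pt) (ke xe6 ye28 ze36) (ke xe2 ye21 ze59) (ke xe2 ye57 ze43) (ke xe2 ye19 ze7) (ke xe3 ye7 ze38) (ke xe2 ye19 ze10) (ke xe2 ye19 ze11) (ke xe2 ye19 ze13) (ke xe6 ye35 ze59) (ke xe2 ye19 ze14) (ke xe9 ye19 ze59) (ke xe6 ye47 ze55) (ke xe2 ye19 ze16) (ke xe2 ye19 ze17) (ke xe2 ye19 ze18) (ke xe6 ye51 ze20) (ke xe9 ye20 ze0) (ke xe3 ye7 ze51) (ke xe6 ye47 ze0) (ke xe6 ye40 ze60) (ke xe4 ye17 ze57) (ke xe2 ye22 ze8) (ke xe9 ye20 ze9) (ke xe2 ye19 ze25) (ke xe3 ye8 ze0) (ke xe3 ye8 ze24) (ke xe3 ye10 ze60) (ke xe9 ye19 ze4) (ke xe3 ye8 ze21) (ke xe3 ye11 ze0) (ke xe4 ye7 ze13) (ke xe4 ye42 ze10) (ke xe3 ye19 ze36) (ke xe8 ye25 ze42) (ke xe9 ye18 ze15) (ke xe8 ye25 ze30) (ke xe9 ye20 ze25) (ke xe2 ye19 ze36) (ke xe6 ye48 ze50) (ke xe4 ye19 ze35) (ke xe9 ye20 ze33) (ke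 xe9 ye20 ze35) (ke xe9 ye20 ze27) (ke xe2 ye19 ze37) (ke xe3 ye11 ze14) (ke xe5 ye18 ze57) (ke xe2 ye19 ze40) (ke xe4 ye41 ze50) (ke xe2 ye19 ze41) (ke xe4 ye41 ze51) (ke xe3 ye12 ze42) (ke xe2 ye19 ze44) (ke xe3 ye12 ze54) (ke xe3 ye13 ze6) (ke xe9 ye20 ze45) (ke xe2 ye19 ze49) (ke xe2 ye19 ze50) (ke xe2 ye19 ze51) (ke xe2 ye19 ze53) (ke xe9 ye20 ze48) (ke xe2 ye19 ze55) (ke xe2 ye20 ze61)) (@D3.rec (fun _ => Pt) (ke xe2 ye19 ze57) (ke xe9 ye20 ze54) (ke xe6 ye40 ze53) (ke xe9 ye20 ze60) (ke xe2 ye19 ze59) (ke xe9 ye21 ze3) (ke xe2 ye19 ze61) (ke xe2 ye20 ze1) (ke xe9 ye21 ze10) (ke xe2 ye20 ze3) (ke xe9 ye21 ze12) (ke xe2 ye20 ze4) (ke xe9 ye17 ze1) (ke xe3 ye1 ze14) (ke xe3 ye2 ze56) (ke xe2 ye20 ze6) (ke xe2 ye20 ze7) (ke xe9 ye21 ze25) (ke xe9 ye21 ze27) (ke xe9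 ye21 ze21) (ke xe9 ye21 ze32) (ke xe2 ye20 ze9) (ke xe9 ye21 ze35) (ke xe2 ye20 ze10) (ke xe9 ye21 ze37) (ke xe2 ye20 ze11) (ke xe9 ye21 ze41) (ke xe2 ye20 ze15) (ke xe9 ye21 ze44) (ke xe2 ye20 ze17) (ke xe2 ye20 ze19) (ke xe9 ye21 ze48) (ke xe9 ye21 ze53) (ke xe2 ye20 ze21) (ke xe3 ye19 ze51) (ke xe2 ye20 ze23) (ke xe9 ye21 ze56) (ke xe2 ye20 ze25) (ke xe9 ye22 ze1) (ke xe2 ye20 ze26) (ke xe9 ye22 ze4) (ke xe9 ye22 ze5) (ke xe2 ye20 ze30) (ke xe9 ye22 ze7) (ke xe9 ye22 ze8) (ke xe2 ye20 ze31) (ke xe5 ye54 ze1) (ke xe9 ye22 ze13) (ke xe9 ye22 ze14) (ke xe9 ye22 ze15) (ke xe2 ye20 ze32) (ke xe9 ye22 ze20) (ke xe9 ye22 ze22) (ke xe2 ye20 ze33) (ke xe9 ye22 ze25) (ke xe6 ye10 ze42) (ke xe9 ye22 ze33) (ke xe9 ye22 ze35) (ke xe2 ye51 ze48) (ke xe9 ye22 ze40) (ke xe2 ye20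 ze38) (ke xe2 ye20 ze39)) (@D3.rec (fun _ => Pt) (ke xe9 ye22 ze47) (ke xe9 ye22 ze48) (ke xe2 ye20 ze40) (ke xe2 ye21 ze51) (ke xe3 ye5 ze52) (ke xe2 ye21 ze7) (ke xe9 ye22 ze55) (ke xe9 ye22 ze56) (ke xe2 ye20 ze42) (ke xe2 ye21 ze38) (ke xe9 ye23 ze2) (ke xe9 ye23 ze3) (ke xe2 ye20 ze44) (ke xe9 ye23 ze9) (ke xe9 ye23 ze10) (ke xe2 ye20 ze45) (ke xe9 ye23 ze14) (ke xe9 ye23 ze18) (ke xe9 ye23 ze20) (ke xe9 ye23 ze23) (ke xe2 ye20 ze46) (ke xe2 ye20 ze47) (ke xe9 ye20 ze61) (ke xe9 ye23 ze34) (ke xe9 ye23 ze29) (ke xe3 ye19 ze55) (ke xe9 ye23 ze41) (ke xe2 ye20 ze49) (ke xe9 ye23 ze44) (ke xe2 ye20 ze51) (ke xe6 ye31 ze16) (ke xe3 ye18 ze60) (ke xe3 ye31 ze51) (ke xe3 ye13 ze38) (ke xe9 ye23 ze51) (ke xe2 ye20 ze53) (ke xe9 ye23 ze54) (ke xe2 ye20 ze54) (ke xe9 ye23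 ze57) (ke xe9 ye23 ze59) (ke xe9 ye23 ze60) (ke xe9 ye23 ze61) (ke xe2 ye20 ze55) (ke xe9 ye24 ze5) (ke xe9 ye24 ze6) (ke xe2 ye20 ze56) (ke xe9 ye24 ze10) (ke xe9 ye24 ze13) (ke xe6 ye5 ze46) (ke xe9 ye20 ze51) (ke xe9 ye24 ze16) (ke xe3 ye19 ze58) (ke xe2 ye20 ze58) (ke xe7 ye43 ze21) (ke xe9 ye24 ze20) (ke xe2 ye20 ze59) (ke xe4 ye46 ze10) (ke xe4 ye40 ze13) (ke xe4 ye53 ze37) (ke xe2 ye27 ze53) (ke xe9 ye24 ze32) (ke xe9 ye24 ze35)) (@D3.rec (fun _ => Pt) (ke xe9 ye24 ze36) (ke xe9 ye24 ze38) (ke xe9 ye24 ze41) (ke xe2 ye21 ze2) (ke xe2 ye21 ze3) (ke xe2 ye21 ze46) (ke xe3 ye21 ze42) (ke xe5 ye12 ze9) (ke xe9 ye22 ze50) (ke xe3 ye21 ze39) (ke xe4 ye45 ze56) (ke xe9 ye24 ze55) (ke xe9 ye24 ze57) (ke xe4 ye40 ze16) (ke xe9 ye25 ze1) (ke xe9 ye25 ze5) (ke xe9 ye25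 ze9) (ke xe9 ye25 ze12) (ke xe9 ye25 ze15) (ke xe9 ye25 ze18) (ke xe2 ye21 ze8) (ke xe2 ye21 ze9) (ke xe5 ye25 ze52) (ke xe9 ye20 ze49) (ke xe9 ye25 ze28) (ke xe7 ye45 ze19) (ke xe7 ye43 ze60) (ke xe9 ye25 ze34) (ke xe9 ye25 ze37) (ke xe2 ye21 ze11) (ke xe2 ye21 ze12) (ke xe9 ye25 ze39) (ke xe9 ye23 ze4) (ke xe7 ye45 ze1) (ke xe9 ye25 ze48) (ke xe9 ye25 ze50) (ke xe2 ye21 ze14) (ke xe9 ye25 ze56) (ke xe9 ye25 ze58) (ke xe2 ye21 ze15) (ke xe9 ye25 ze60) (ke xe2 ye21 ze16) (ke xe9 ye26 ze4) (ke xe7 ye1 ze55) (ke xe9 ye26 ze8) (ke xe2 ye21 ze17) (ke xe7 ye30 ze50) (ke xe9 ye26 ze18) (ke xe9 ye26 ze11) (ke xe2 ye56 ze45) (ke xe9 ye26 ze25) (ke xe2 ye21 ze19) (ke xe9 ye26 ze30) (ke xe2 ye21 ze20) (ke xe9 ye26 ze36) (ke xe2 ye21 ze21) (ke xe9 ye26 ze44) (ke xe4 ye15 ze0)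 (ke xe2 ye21 ze26) (ke xe9 ye26 ze52) (ke xe2 ye21 ze23) (ke xe9 ye26 ze58)) (@D3.rec (fun _ => Pt) (ke xe6 ye49 ze41) (ke xe9 ye27 ze0) (ke xe2 ye21 ze24) (ke xe9 ye27 ze6) (ke xe9 ye27 ze7) (ke xe9 ye27 ze9) (ke xe2 ye21 ze25) (ke xe9 ye27 ze14) (ke xe9 ye27 ze17) (ke xe9 ye26 ze50) (ke xe9 ye27 ze23) (ke xe2 ye21 ze27) (ke xe9 ye27 ze27) (ke xe3 ye14 ze37) (ke xe9 ye26 ze55) (ke xe3 ye21 ze14) (ke xe3 ye19 ze52) (ke xe9 ye27 ze39) (ke xe8 ye32 ze18) (ke xe2 ye21 ze30) (ke xe9 ye27 ze44) (ke xe9 ye27 ze46) (ke xe2 ye21 ze32) (ke xe4 ye47 ze59) (ke xe3 ye19 ze0) (ke xe9 ye27 ze54) (ke xe9 ye27 ze56) (ke xe2 ye21 ze35) (ke xe9 ye27 ze60) (ke xe3 ye22 ze7) (ke xe2 ye21 ze43) (ke xe9 ye28 ze4) (ke xe9 ye22 ze60) (ke xe4 ye18 ze29) (ke xe9 ye28 ze10) (ke xe2 ye21 ze41)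 (ke xe9 ye28 ze11) (ke xe8 ye23 ze39) (ke xe2 ye21 ze42) (ke xe9 ye28 ze17) (ke xe4 ye18 ze28) (ke xe9 ye28 ze2) (ke xe9 ye28 ze27) (ke xe9 ye28 ze30) (ke xe2 ye21 ze44) (ke xe3 ye21 ze47) (ke xe3 ye22 ze46) (ke xe9 ye24 ze45) (ke xe2 ye21 ze47) (ke xe2 ye21 ze48) (ke xe9 ye27 ze47) (ke xe6 ye20 ze46) (ke xe9 ye28 ze35) (ke xe3 ye19 ze54) (ke xe6 ye32 ze32) (ke xe3 ye20 ze7) (ke xe3 ye16 ze0) (ke xe9 ye22 ze51) (ke xe8 ye34 ze8) (ke xe4 ye47 ze23) (ke xe3 ye5 ze55) (ke xe3 ye22 ze48)) (@D3.rec (fun _ => Pt) (ke xe6 ye48 ze34) (ke xe6 ye32 ze38) (ke xe6 ye32 ze39) (ke xe3 ye9 ze47) (ke xe6 ye32 ze41) (ke xe8 ye24 ze29) (ke xe2 ye21 ze56) (ke xe9 ye29 ze0) (ke xe4 ye48 ze33) (ke xe3 ye22 ze49) (ke xe9 ye29 ze8) (ke xe6 ye48 ze40) (ke xe9 ye29 ze10) (ke xe2 ye22 ze0) (ke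 xe3 ye21 ze22) (ke xe3 ye13 ze41) (ke xe2 ye22 ze2) (ke xe3 ye22 ze52) (ke xe3 ye23 ze45) (ke xe9 ye29 ze18) (ke xe3 ye19 ze11) (ke xe3 ye25 ze29) (ke xe3 ye25 ze30) (ke xe6 ye46 ze20) (ke xe6 ye41 ze61) (ke xe4 ye10 ze25) (ke xe9 ye23 ze46) (ke xe3 ye22 ze15) (ke xe7 ye55 ze18) (ke xe9 ye19 ze23) (ke xe2 ye22 ze55) (ke xe4 ye41 ze59) (ke xe6 ye40 ze54) (ke xe4 ye48 ze8) (ke xe4 ye42 ze11) (ke xe2 ye22 ze11) (ke xe9 ye29 ze46) (ke xe2 ye22 ze12) (ke xe3 ye22 ze16) (ke xe6 ye48 ze39) (ke xe9 ye29 ze53) (ke xe2 ye22 ze14) (ke xe2 ye22 ze15) (ke xe9 ye29 ze58) (ke xe9 ye29 ze60) (ke xe9 ye30 ze1) (ke xe9 ye30 ze2) (ke xe2 ye22 ze16) (ke xe9 ye30 ze8) (ke xe2 ye56 ze19) (ke xe9 ye30 ze9) (ke xe9 ye30 ze11) (ke xe2 ye22 ze18) (ke xe9 ye30 ze17) (ke xe9 ye30 ze19) (ke xe2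 ye22 ze19) (ke xe9 ye30 ze22) (ke xe6 ye8 ze32) (ke xe2 ye56 ze29) (ke xe9 ye30 ze28) (ke xe9 ye30 ze32) (ke xe2 ye55 ze1)) (@D3.rec (fun _ => Pt) (ke xe2 ye56 ze7) (ke xe9 ye30 ze40) (ke xe6 ye53 ze24) (ke xe9 ye30 ze47) (ke xe2 ye22 ze22) (ke xe9 ye30 ze54) (ke xe9 ye30 ze57) (ke xe9 ye30 ze59) (ke xe2 ye22 ze23) (ke xe5 ye33 ze25) (ke xe9 ye31 ze5) (ke xe2 ye56 ze58) (ke xe9 ye31 ze10) (ke xe2 ye57 ze30) (ke xe9 ye31 ze13) (ke xe2 ye22 ze26) (ke xe9 ye31 ze19) (ke xe9 ye31 ze22) (ke xe9 ye14 ze17) (ke xe9 ye31 ze25) (ke xe2 ye22 ze27) (ke xe2 ye57 ze41) (ke xe9 ye31 ze31) (ke xe9 ye31 ze34) (ke xe9 ye1 ze7) (ke xe2 ye22 ze29) (ke xe9 ye31 ze40) (ke xe2 ye22 ze30) (ke xe3 ye20 ze52) (ke xe5 ye34 ze8) (ke xe9 ye31 ze44) (ke xe9 ye9 ze9) (ke xe2 ye22 ze32) (ke xe9 ye31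 ze48) (ke xe6 ye42 ze59) (ke xe2 ye22 ze33) (ke xe4 ye55 ze42) (ke xe9 ye18 ze43) (ke xe2 ye58 ze4) (ke xe9 ye31 ze59) (ke xe9 ye31 ze60) (ke xe2 ye22 ze35) (ke xe3 ye20 ze2) (ke xe9 ye22 ze57) (ke xe6 ye47 ze14) (ke xe8 ye19 ze50) (ke xe2 ye27 ze46) (ke xe9 ye32 ze12) (ke xe8 ye0 ze51) (ke xe6 ye47 ze34) (ke xe9 ye32 ze17) (ke xe9 ye32 ze19) (ke xe9 ye14 ze45) (ke xe9 ye32 ze22) (ke xe2 ye22 ze40) (ke xe6 ye47 ze27) (ke xe9 ye32 ze29) (ke xe6 ye50 ze7) (ke xe9 ye32 ze31) (ke xe2 ye22 ze43) (ke xe2 ye22 ze44) (ke xe9 ye32 ze33)) (@D3.rec (fun _ => Pt) (ke xe2 ye22 ze46) (ke xe9 ye32 ze35) (ke xe2 ye22 ze47) (ke xe6 ye17 ze60) (ke xe3 ye22 ze22) (ke xe9 ye32 ze40) (ke xe2 ye22 ze50) (ke xe3 ye23 ze5) (ke xe3 ye27 ze51) (ke xe5 ye11 ze26) (ke xe9 ye32 ze44) (ke xe6 ye20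 ze3) (ke xe2 ye22 ze54) (ke xe9 ye29 ze27) (ke xe6 ye26 ze40) (ke xe6 ye20 ze19) (ke xe9 ye20 ze15) (ke xe2 ye23 ze0) (ke xe6 ye13 ze0) (ke xe9 ye33 ze0) (ke xe2 ye22 ze57) (ke xe3 ye22 ze0) (ke xe4 ye52 ze36) (ke xe9 ye33 ze6) (ke xe2 ye22 ze60) (ke xe6 ye48 ze46) (ke xe9 ye32 ze46) (ke xe9 ye33 ze10) (ke xe9 ye33 ze13) (ke xe9 ye32 ze56) (ke xe4 ye6 ze9) (ke xe9 ye33 ze15) (ke xe2 ye23 ze2) (ke xe9 ye33 ze17) (ke xe9 ye33 ze18) (ke xe9 ye33 ze19) (ke xe4 ye13 ze25) (ke xe9 ye33 ze22) (ke xe9 ye33 ze24) (ke xe2 ye23 ze6) (ke xe2 ye23 ze8) (ke xe9 ye33 ze30) (ke xe9 ye33 ze33) (ke xe4 ye13 ze26) (ke xe8 ye28 ze35) (ke xe8 ye28 ze34) (ke xe2 ye23 ze10) (ke xe9 ye33 ze43) (ke xe2 ye23 ze11) (ke xe9 ye33 ze47) (ke xe2 ye23 ze12) (ke xe9 ye33 ze50) (ke xe2 ye23 ze14) (ke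 xe9 ye33 ze51) (ke xe9 ye33 ze54) (ke xe2 ye23 ze16) (ke xe9 ye33 ze57) (ke xe2 ye23 ze17) (ke xe4 ye0 ze18) (ke xe9 ye34 ze3) (ke xe9 ye34 ze4) (ke xe2 ye23 ze19)) (@D3.rec (fun _ => Pt) (ke xe5 ye29 ze41) (ke xe9 ye34 ze6) (ke xe2 ye23 ze20) (ke xe5 ye15 ze20) (ke xe9 ye34 ze10) (ke xe9 ye34 ze12) (ke xe2 ye23 ze22) (ke xe4 ye21 ze22) (ke xe9 ye34 ze17) (ke xe2 ye23 ze24) (ke xe9 ye34 ze23) (ke xe9 ye34 ze26) (ke xe9 ye34 ze31) (ke xe9 ye34 ze33) (ke xe2 ye23 ze25) (ke xe4 ye22 ze24) (ke xe2 ye23 ze27) (ke xe8 ye37 ze37) (ke xe9 ye34 ze40) (ke xe9 ye34 ze44) (ke xe9 ye34 ze45) (ke xe9 ye34 ze48) (ke xe2 ye23 ze30) (ke xe7 ye57 ze53) (ke xe9 ye34 ze52) (ke xe2 ye23 ze32) (ke xe9 ye34 ze59) (ke xe9 ye34 ze60) (ke xe2 ye23 ze34) (ke xe2 ye26 ze13) (ke xe8 ye36 ze38)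 (ke xe2 ye23 ze37) (ke xe9 ye35 ze7) (ke xe9 ye35 ze12) (ke xe9 ye35 ze15) (ke xe2 ye23 ze38) (ke xe4 ye53 ze1) (ke xe9 ye35 ze23) (ke xe9 ye33 ze59) (ke xe9 ye35 ze24) (ke xe9 ye35 ze27) (ke xe2 ye23 ze40) (ke xe9 ye35 ze36) (ke xe9 ye35 ze37) (ke xe2 ye23 ze41) (ke xe9 ye35 ze42) (ke xe4 ye52 ze55) (ke xe2 ye28 ze7) (ke xe8 ye10 ze13) (ke xe9 ye35 ze50) (ke xe9 ye35 ze52) (ke xe2 ye23 ze43) (ke xe9 ye35 ze59) (ke xe9 ye35 ze60) (ke xe2 ye23 ze44) (ke xe9 ye36 ze4) (ke xe6 ye31 ze2) (ke xe4 ye53 ze11) (ke xe9 ye36 ze12) (ke xe9 ye36 ze14) (ke xe9 ye36 ze16) (ke xe9 ye36 ze18)) (@D3.rec (fun _ => Pt) (ke xe9 ye36 ze20) (ke xe2 ye23 ze46) (ke xe9 ye36 ze24) (ke xe2 ye23 ze47) (ke xe9 ye36 ze29) (ke xe9 ye36 ze33) (ke xe9 ye36 ze35) (ke xe2 ye23 ze49) (ke xe9 ye36 ze40)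 (ke xe4 ye21 ze2) (ke xe9 ye36 ze42) (ke xe2 ye23 ze50) (ke xe9 ye36 ze49) (ke xe9 ye36 ze53) (ke xe3 ye8 ze11) (ke xe4 ye53 ze36) (ke xe5 ye10 ze49) (ke xe3 ye58 ze50) (ke xe2 ye23 ze53) (ke xe9 ye36 ze58) (ke xe2 ye23 ze55) (ke xe9 ye37 ze0) (ke xe9 ye37 ze1) (ke xe2 ye23 ze56) (ke xe9 ye37 ze7) (ke xe9 ye36 ze36) (ke xe4 ye53 ze24) (ke xe2 ye23 ze58) (ke xe4 ye53 ze25) (ke xe9 ye37 ze10) (ke xe3 ye19 ze22) (ke xe9 ye27 ze57) (ke xe9 ye37 ze16) (ke xe9 ye27 ze51) (ke xe2 ye23 ze61) (ke xe3 ye43 ze8) (ke xe4 ye50 ze22) (ke xe9 ye37 ze22) (ke xe3 ye35 ze10) (ke xe6 ye17 ze54) (ke xe9 ye37 ze25) (ke xe2 ye24 ze2) (ke xe2 ye24 ze3) (ke xe9 ye37 ze31) (ke xe2 ye45 ze51) (ke xe2 ye24 ze6) (ke xe9 ye37 ze35) (ke xe2 ye24 ze7) (ke xe9 ye37 ze39) (ke xe9 ye37 ze41) (ke xe4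 ye3 ze51) (ke xe4 ye21 ze10) (ke xe4 ye27 ze45) (ke xe3 ye3 ze19) (ke xe2 ye24 ze17) (ke xe4 ye51 ze46) (ke xe9 ye37 ze50) (ke xe2 ye59 ze45) (ke xe8 ye1 ze33) (ke xe9 ye37 ze52) (ke xe9 ye37 ze54) (ke xe2 ye24 ze19)) (@D3.rec (fun _ => Pt) (ke xe9 ye37 ze59) (ke xe4 ye51 ze36) (ke xe8 ye1 ze30) (ke xe9 ye38 ze4) (ke xe9 ye38 ze5) (ke xe2 ye24 ze21) (ke xe9 ye38 ze12) (ke xe9 ye38 ze13) (ke xe2 ye24 ze22) (ke xe9 ye38 ze18) (ke xe6 ye22 ze45) (ke xe4 ye51 ze57) (ke xe9 ye38 ze25) (ke xe9 ye38 ze27) (ke xe9 ye38 ze29) (ke xe2 ye24 ze24) (ke xe2 ye24 ze25) (ke xe9 ye38 ze38) (ke xe9 ye38 ze41) (ke xe2 ye24 ze27) (ke xe9 ye38 ze45) (ke xe2 ye24 ze28) (ke xe6 ye21 ze1) (ke xe9 ye38 ze55) (ke xe4 ye52 ze26) (ke xe4 ye52 ze28) (ke xe5 ye3 ze38) (ke xe2 ye26 ze1) (ke xe2 ye24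 ze31) (ke xe6 ye23 ze25) (ke xe2 ye24 ze33) (ke xe9 ye38 ze60) (ke xe6 ye27 ze23) (ke xe9 ye39 ze1) (ke xe9 ye38 ze42) (ke xe2 ye24 ze36) (ke xe4 ye52 ze15) (ke xe4 ye45 ze58) (ke xe9 ye39 ze10) (ke xe6 ye30 ze58) (ke xe2 ye24 ze38) (ke xe6 ye19 ze17) (ke xe6 ye27 ze36) (ke xe3 ye31 ze54) (ke xe9 ye39 ze17) (ke xe4 ye12 ze39) (ke xe2 ye24 ze41) (ke xe2 ye37 ze55) (ke xe3 ye4 ze48) (ke xe4 ye19 ze53) (ke xe3 ye10 ze24) (ke xe6 ye17 ze12) (ke xe2 ye44 ze42) (ke xe6 ye15 ze23) (ke xe9 ye39 ze19) (ke xe2 ye51 ze7) (ke xe9 ye35 ze30) (ke xe9 ye39 ze23) (ke xe9 ye39 ze24) (ke xe9 ye39 ze25) (ke xe4 ye54 ze18) (ke xe9 ye39 ze28)) (@D3.rec (fun _ => Pt) (ke xe9 ye39 ze30) (ke xe2 ye24 ze55) (ke xe9 ye39 ze31) (ke xe5 ye18 ze29) (ke xe9 ye39 ze34) (ke xe9 ye39 ze37) (ke xe2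 ye24 ze58) (ke xe9 ye39 ze41) (ke xe2 ye24 ze59) (ke xe9 ye39 ze47) (ke xe9 ye39 ze50) (ke xe7 ye57 ze33) (ke xe9 ye39 ze59) (ke xe9 ye39 ze61) (ke xe2 ye24 ze61) (ke xe9 ye40 ze2) (ke xe2 ye25 ze0) (ke xe9 ye40 ze3) (ke xe4 ye53 ze60) (ke xe9 ye40 ze6) (ke xe9 ye40 ze9) (ke xe2 ye25 ze3) (ke xe9 ye40 ze14) (ke xe2 ye25 ze5) (ke xe9 ye40 ze20) (ke xe9 ye40 ze23) (ke xe7 ye57 ze35) (ke xe9 ye40 ze32) (ke xe9 ye40 ze34) (ke xe2 ye25 ze7) (ke xe9 ye40 ze38) (ke xe2 ye25 ze8) (ke xe9 ye40 ze41) (ke xe2 ye25 ze10) (ke xe9 ye40 ze44) (ke xe2 ye25 ze11) (ke xe9 ye40 ze48) (ke xe2 ye25 ze12) (ke xe9 ye40 ze53) (ke xe8 ye10 ze58) (ke xe9 ye40 ze60) (ke xe9 ye40 ze61) (ke xe2 ye25 ze14) (ke xe9 ye41 ze0) (ke xe9 ye41 ze2) (ke xe2 ye25 ze15) (ke xe4 ye19 ze42) (ke xe4 ye19 ze6)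 (ke xe9 ye41 ze6) (ke xe9 ye41 ze7) (ke xe9 ye41 ze9) (ke xe2 ye25 ze18) (ke xe9 ye41 ze11) (ke xe4 ye19 ze7) (ke xe9 ye41 ze15) (ke xe2 ye25 ze20) (ke xe9 ye41 ze21) (ke xe9 ye41 ze24) (ke xe9 ye41 ze29) (ke xe9 ye41 ze31) (ke xe2 ye25 ze21) (ke xe8 ye11 ze14)) (@D3.rec (fun _ => Pt) (ke xe2 ye25 ze23) (ke xe9 ye1 ze13) (ke xe9 ye41 ze38) (ke xe9 ye41 ze42) (ke xe2 ye25 ze25) (ke xe9 ye41 ze43) (ke xe9 ye41 ze46) (ke xe2 ye25 ze26) (ke xe8 ye23 ze56) (ke xe9 ye41 ze50) (ke xe2 ye25 ze28) (ke xe9 ye41 ze57) (ke xe9 ye41 ze58) (ke xe2 ye25 ze30) (ke xe5 ye37 ze3) (ke xe9 ye0 ze3) (ke xe2 ye25 ze32) (ke xe9 ye42 ze7) (ke xe8 ye18 ze60) (ke xe9 ye42 ze14) (ke xe2 ye25 ze33) (ke xe8 ye11 ze37) (ke xe9 ye42 ze22) (ke xe2 ye32 ze6) (ke xe9 ye40 ze50) (ke xe9 ye42 ze26) (ke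 xe2 ye25 ze35) (ke xe9 ye42 ze34) (ke xe9 ye42 ze35) (ke xe2 ye25 ze36) (ke xe9 ye42 ze41) (ke xe8 ye11 ze29) (ke xe4 ye6 ze12) (ke xe9 ye40 ze46) (ke xe9 ye42 ze51) (ke xe9 ye42 ze53) (ke xe2 ye25 ze38) (ke xe9 ye42 ze60) (ke xe9 ye42 ze61) (ke xe2 ye25 ze39) (ke xe9 ye43 ze4) (ke xe9 ye43 ze6) (ke xe4 ye49 ze36) (ke xe5 ye3 ze33) (ke xe6 ye22 ze22) (ke xe9 ye43 ze12) (ke xe9 ye43 ze14) (ke xe9 ye43 ze16) (ke xe2 ye25 ze41) (ke xe9 ye43 ze19) (ke xe2 ye25 ze42) (ke xe9 ye43 ze25) (ke xe9 ye38 ze54) (ke xe9 ye33 ze26) (ke xe9 ye43 ze33) (ke xe2 ye31 ze30) (ke xe4 ye14 ze45) (ke xe5 ye38 ze39) (ke xe7 ye58 ze50) (ke xe2 ye29 ze44) (ke xe2 ye25 ze46) (ke xe2 ye31 ze61)) (@D3.rec (fun _ => Pt) (ke xe9 ye43 ze42) (ke xe2 ye25 ze49) (ke xe9 ye43 ze47) (ke xe9 ye43 ze48)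 (ke xe2 ye25 ze50) (ke xe9 ye43 ze55) (ke xe8 ye37 ze50) (ke xe7 ye58 ze48) (ke xe2 ye25 ze52) (ke xe8 ye11 ze56) (ke xe9 ye43 ze59) (ke xe9 ye44 ze1) (ke xe9 ye44 ze4) (ke xe9 ye44 ze7) (ke xe9 ye44 ze9) (ke xe2 ye25 ze55) (ke xe5 ye52 ze25) (ke xe9 ye44 ze17) (ke xe9 ye44 ze19) (ke xe9 ye5 ze37) (ke xe2 ye25 ze56) (ke xe5 ye48 ze52) (ke xe2 ye25 ze58) (ke xe2 ye25 ze59) (ke xe9 ye44 ze24) (ke xe9 ye1 ze54) (ke xe5 ye45 ze54) (ke xe5 ye14 ze8) (ke xe9 ye44 ze30) (ke xe5 ye3 ze14) (ke xe2 ye26 ze0) (ke xe9 ye37 ze49) (ke xe4 ye19 ze46) (ke xe4 ye23 ze47) (ke xe8 ye10 ze31) (ke xe9 ye44 ze35) (ke xe2 ye26 ze4) (ke xe8 ye44 ze57) (ke xe6 ye15 ze13) (ke xe9 ye44 ze43) (ke xe2 ye26 ze8) (ke xe4 ye42 ze51) (ke xe2 ye26 ze10) (ke xe6 ye16 ze32) (ke xe5 ye45 ze15) (ke xe9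 ye35 ze0) (ke xe9 ye44 ze53) (ke xe9 ye44 ze54) (ke xe2 ye26 ze14) (ke xe9 ye34 ze20) (ke xe4 ye22 ze25) (ke xe4 ye24 ze14) (ke xe9 ye14 ze58) (ke xe5 ye13 ze27) (ke xe9 ye44 ze60) (ke xe9 ye45 ze0) (ke xe2 ye26 ze18) (ke xe3 ye0 ze5) (ke xe8 ye25 ze52) (ke xe9 ye45 ze6) (ke xe2 ye26 ze24) (ke xe4 ye1 ze14)) (@D3.rec (fun _ => Pt) (ke xe4 ye22 ze61) (ke xe9 ye45 ze11) (ke xe2 ye26 ze27) (ke xe9 ye29 ze17) (ke xe2 ye27 ze1) (ke xe9 ye45 ze17) (ke xe2 ye26 ze29) (ke xe2 ye27 ze26) (ke xe9 ye45 ze21) (ke xe6 ye25 ze30) (ke xe9 ye45 ze23) (ke xe9 ye45 ze28) (ke xe2 ye26 ze31) (ke xe9 ye45 ze30) (ke xe2 ye26 ze32) (ke xe2 ye27 ze17) (ke xe5 ye14 ze6) (ke xe9 ye45 ze34) (ke xe9 ye45 ze37) (ke xe2 ye26 ze33) (ke xe9 ye45 ze39) (ke xe2 ye26 ze34) (ke xe9 ye45 ze42) (ke xe2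 ye26 ze35) (ke xe2 ye27 ze13) (ke xe9 ye45 ze44) (ke xe9 ye45 ze46) (ke xe3 ye42 ze6) (ke xe9 ye45 ze48) (ke xe2 ye26 ze37) (ke xe9 ye45 ze52) (ke xe7 ye21 ze17) (ke xe2 ye26 ze38) (ke xe6 ye32 ze0) (ke xe7 ye23 ze29) (ke xe9 ye46 ze1) (ke xe9 ye46 ze4) (ke xe2 ye26 ze40) (ke xe9 ye46 ze9) (ke xe7 ye23 ze35) (ke xe9 ye46 ze16) (ke xe9 ye46 ze17) (ke xe2 ye26 ze42) (ke xe2 ye27 ze8) (ke xe5 ye13 ze52) (ke xe9 ye46 ze20) (ke xe7 ye59 ze1) (ke xe5 ye48 ze13) (ke xe9 ye46 ze30) (ke xe2 ye26 ze44) (ke xe5 ye31 ze32) (ke xe7 ye59 ze4) (ke xe4 ye41 ze14) (ke xe6 ye30 ze36) (ke xe2 ye26 ze46) (ke xe9 ye46 ze43) (ke xe2 ye26 ze47) (ke xe2 ye26 ze48) (ke xe9 ye46 ze47) (ke xe9 ye46 ze50) (ke xe2 ye26 ze50) (ke xe9 ye46 ze53)) (@D3.rec (fun _ => Pt) (ke xe9 ye46 ze57) (ke xe9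 ye46 ze60) (ke xe2 ye26 ze54) (ke xe4 ye24 ze40) (ke xe4 ye0 ze39) (ke xe9 ye47 ze6) (ke xe9 ye47 ze8) (ke xe9 ye47 ze10) (ke xe9 ye47 ze11) (ke xe9 ye47 ze1) (ke xe9 ye47 ze15) (ke xe9 ye47 ze17) (ke xe8 ye51 ze55) (ke xe9 ye47 ze19) (ke xe2 ye26 ze58) (ke xe9 ye47 ze20) (ke xe5 ye54 ze27) (ke xe2 ye26 ze60) (ke xe6 ye10 ze51) (ke xe2 ye26 ze61) (ke xe9 ye47 ze22) (ke xe9 ye47 ze24) (ke xe9 ye47 ze25) (ke xe2 ye27 ze2) (ke xe9 ye1 ze51) (ke xe9 ye47 ze31) (ke xe9 ye47 ze28) (ke xe8 ye49 ze23) (ke xe9 ye47 ze37) (ke xe7 ye1 ze57) (ke xe2 ye27 ze5) (ke xe9 ye47 ze39) (ke xe9 ye47 ze40) (ke xe6 ye25 ze31) (ke xe2 ye27 ze48) (ke xe9 ye47 ze42) (ke xe2 ye27 ze9) (ke xe9 ye47 ze47) (ke xe9 ye47 ze49) (ke xe9 ye7 ze13) (ke xe9 ye47 ze54) (ke xe2 ye27 ze10) (ke xe9 ye47 ze57)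 (ke xe9 ye47 ze58) (ke xe2 ye27 ze14) (ke xe6 ye30 ze2) (ke xe2 ye27 ze12) (ke xe9 ye48 ze2) (ke xe9 ye48 ze4) (ke xe9 ye47 ze60) (ke xe9 ye48 ze6) (ke xe9 ye48 ze0) (ke xe6 ye1 ze53) (ke xe9 ye48 ze8) (ke xe9 ye48 ze10) (ke xe2 ye27 ze19) (ke xe9 ye48 ze12) (ke xe9 ye48 ze14) (ke xe2 ye27 ze20) (ke xe9 ye48 ze17) (ke xe2 ye27 ze22) (ke xe9 ye48 ze23)) (@D3.rec (fun _ => Pt) (ke xe9 ye48 ze29) (ke xe7 ye2 ze4) (ke xe2 ye27 ze24) (ke xe9 ye48 ze36) (ke xe2 ye27 ze27) (ke xe6 ye30 ze37) (ke xe9 ye48 ze41) (ke xe4 ye28 ze59) (ke xe9 ye48 ze38) (ke xe9 ye48 ze48) (ke xe9 ye48 ze49) (ke xe9 ye48 ze51) (ke xe2 ye27 ze29) (ke xe9 ye48 ze53) (ke xe2 ye27 ze30) (ke xe6 ye0 ze25) (ke xe9 ye48 ze57) (ke xe2 ye27 ze31) (ke xe6 ye31 ze58) (ke xe6 ye25 ze54) (ke xe9 ye32 ze9) (ke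 xe2 ye27 ze33) (ke xe9 ye49 ze8) (ke xe9 ye49 ze10) (ke xe9 ye49 ze12) (ke xe9 ye49 ze15) (ke xe2 ye27 ze34) (ke xe6 ye25 ze56) (ke xe6 ye4 ze15) (ke xe6 ye21 ze36) (ke xe8 ye0 ze36) (ke xe9 ye49 ze26) (ke xe2 ye27 ze36) (ke xe9 ye49 ze32) (ke xe9 ye49 ze33) (ke xe2 ye27 ze37) (ke xe9 ye23 ze45) (ke xe2 ye56 ze35) (ke xe6 ye26 ze55) (ke xe9 ye49 ze45) (ke xe9 ye49 ze46) (ke xe2 ye27 ze39) (ke xe9 ye49 ze52) (ke xe9 ye49 ze53) (ke xe2 ye27 ze40) (ke xe9 ye49 ze57) (ke xe9 ye49 ze59) (ke xe2 ye27 ze41) (ke xe9 ye50 ze2) (ke xe9 ye50 ze5) (ke xe7 ye31 ze4) (ke xe9 ye50 ze0) (ke xe9 ye32 ze10) (ke xe2 ye27 ze43) (ke xe9 ye50 ze17) (ke xe9 ye50 ze21) (ke xe3 ye19 ze5) (ke xe2 ye27 ze44) (ke xe5 ye53 ze34) (ke xe4 ye37 ze61) (ke xe9 ye50 ze30) (ke xe2 ye27 ze45))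
def f_e_5 : D2 → D3 → Pt := @D2.rec (fun _ => D3 → Pt) (@D3.rec (fun _ => Pt) (ke xe9 ye50 ze34) (ke xe9 ye50 ze37) (ke xe2 ye27 ze49) (ke xe9 ye47 ze38) (ke xe6 ye42 ze24) (ke xe9 ye50 ze45) (ke xe9 ye50 ze47) (ke xe9 ye50 ze40) (ke xe2 ye39 ze41) (ke xe9 ye50 ze53) (ke xe9 ye50 ze54) (ke xe9 ye5 ze45) (ke xe2 ye27 ze50) (ke xe5 ye31 ze60) (ke xe2 ye46 ze37) (ke xe3 ye13 ze3) (ke xe4 ye41 ze44) (ke xe3 ye21 ze48) (ke xe9 ye24 ze30) (ke xe9 ye51 ze3) (ke xe9 ye17 ze61) (ke xe2 ye27 ze54) (ke xe9 ye51 ze5) (ke xe2 ye27 ze58) (ke xe2 ye27 ze56) (ke xe9 ye51 ze12) (ke xe2 ye27 ze57) (ke xe9 ye51 ze6) (ke xe9 ye51 ze19) (ke xe2 ye52 ze17) (ke xe2 ye29 ze53) (ke xe2 ye33 ze2) (ke xe9 ye51 ze25) (ke xe2 ye49 ze3) (ke xe2 ye44 ze31) (ke xe9 ye51 ze27) (ke xe9 ye51 ze28) (ke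 xe9 ye51 ze31) (ke xe9 ye51 ze34) (ke xe4 ye19 ze60) (ke xe9 ye51 ze41) (ke xe4 ye20 ze21) (ke xe9 ye51 ze45) (ke xe4 ye20 ze26) (ke xe9 ye51 ze51) (ke xe5 ye8 ze52) (ke xe9 ye35 ze44) (ke xe9 ye51 ze58) (ke xe2 ye28 ze8) (ke xe9 ye51 ze61) (ke xe2 ye28 ze9) (ke xe9 ye52 ze4) (ke xe9 ye52 ze7) (ke xe4 ye1 ze54) (ke xe9 ye52 ze15) (ke xe9 ye52 ze16) (ke xe2 ye28 ze11) (ke xe8 ye27 ze0) (ke xe9 ye52 ze18) (ke xe9 ye52 ze19) (ke xe9 ye52 ze23) (ke xe2 ye28 ze13)) (@D3.rec (fun _ => Pt) (ke xe8 ye4 ze47) (ke xe9 ye52 ze28) (ke xe2 ye28 ze15) (ke xe9 ye52 ze32) (ke xe2 ye28 ze17) (ke xe9 ye52 ze38) (ke xe2 ye28 ze18) (ke xe9 ye52 ze41) (ke xe9 ye52 ze44) (ke xe9 ye52 ze49) (ke xe9 ye52 ze51) (ke xe2 ye28 ze19) (ke xe5 ye8 ze40) (ke xe9 ye52 ze56) (ke xe8 ye28 ze7) (ke xe9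 ye52 ze57) (ke xe9 ye52 ze58) (ke xe8 ye42 ze49) (ke xe2 ye28 ze21) (ke xe8 ye11 ze6) (ke xe9 ye52 ze61) (ke xe9 ye53 ze2) (ke xe2 ye28 ze23) (ke xe9 ye53 ze3) (ke xe8 ye36 ze61) (ke xe9 ye53 ze8) (ke xe2 ye28 ze25) (ke xe9 ye53 ze12) (ke xe2 ye28 ze27) (ke xe9 ye35 ze45) (ke xe9 ye53 ze15) (ke xe9 ye24 ze47) (ke xe2 ye28 ze28) (ke xe9 ye53 ze24) (ke xe9 ye53 ze29) (ke xe9 ye53 ze32) (ke xe2 ye28 ze29) (ke xe5 ye9 ze7) (ke xe9 ye53 ze41) (ke xe9 ye34 ze41) (ke xe2 ye28 ze31) (ke xe9 ye53 ze49) (ke xe9 ye53 ze50) (ke xe2 ye28 ze32) (ke xe9 ye53 ze56) (ke xe5 ye8 ze61) (ke xe9 ye52 ze1) (ke xe9 ye54 ze1) (ke xe9 ye54 ze4) (ke xe2 ye28 ze34) (ke xe9 ye54 ze11) (ke xe9 ye54 ze12) (ke xe2 ye28 ze35) (ke xe9 ye54 ze20) (ke xe9 ye54 ze25) (ke xe5 ye9 ze17) (ke xe9 ye54 ze30)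 (ke xe9 ye54 ze32) (ke xe9 ye54 ze34) (ke xe9 ye54 ze36) (ke xe9 ye54 ze38) (ke xe2 ye28 ze37)) (@D3.rec (fun _ => Pt) (ke xe9 ye54 ze42) (ke xe2 ye28 ze38) (ke xe9 ye54 ze49) (ke xe8 ye44 ze43) (ke xe9 ye54 ze53) (ke xe2 ye28 ze40) (ke xe8 ye26 ze54) (ke xe9 ye54 ze60) (ke xe2 ye28 ze41) (ke xe9 ye55 ze3) (ke xe9 ye55 ze6) (ke xe9 ye55 ze11) (ke xe9 ye55 ze12) (ke xe2 ye28 ze42) (ke xe5 ye9 ze43) (ke xe9 ye55 ze21) (ke xe5 ye10 ze14) (ke xe9 ye55 ze24) (ke xe2 ye28 ze44) (ke xe9 ye55 ze31) (ke xe9 ye55 ze32) (ke xe2 ye28 ze45) (ke xe5 ye4 ze48) (ke xe5 ye9 ze51) (ke xe2 ye29 ze8) (ke xe9 ye55 ze44) (ke xe6 ye38 ze40) (ke xe2 ye28 ze47) (ke xe9 ye55 ze51) (ke xe9 ye55 ze52) (ke xe2 ye28 ze49) (ke xe8 ye57 ze44) (ke xe9 ye55 ze60) (ke xe9 ye56 ze2) (ke xe9 ye56 ze6)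 (ke xe9 ye56 ze7) (ke xe9 ye56 ze10) (ke xe2 ye28 ze51) (ke xe2 ye28 ze52) (ke xe5 ye5 ze47) (ke xe9 ye56 ze18) (ke xe5 ye10 ze22) (ke xe5 ye9 ze61) (ke xe5 ye10 ze0) (ke xe9 ye56 ze22) (ke xe2 ye28 ze55) (ke xe9 ye56 ze25) (ke xe2 ye28 ze57) (ke xe9 ye56 ze28) (ke xe2 ye28 ze58) (ke xe9 ye52 ze60) (ke xe9 ye56 ze31) (ke xe2 ye28 ze60) (ke xe9 ye56 ze34) (ke xe2 ye28 ze61) (ke xe9 ye56 ze39) (ke xe9 ye56 ze42) (ke xe9 ye56 ze47) (ke xe9 ye56 ze48) (ke xe2 ye29 ze0) (ke xe9 ye54 ze56) (ke xe2 ye29 ze4)) (@D3.rec (fun _ => Pt) (ke xe5 ye9 ze45) (ke xe4 ye12 ze53) (ke xe4 ye12 ze54) (ke xe9 ye56 ze56) (ke xe9 ye56 ze61) (ke xe9 ye57 ze3) (ke xe9 ye57 ze5) (ke xe9 ye57 ze9) (ke xe2 ye29 ze5) (ke xe2 ye29 ze6) (ke xe9 ye55 ze54) (ke xe9 ye57 ze15) (ke xe5 ye9 ze60) (ke xe9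 ye55 ze36) (ke xe4 ye56 ze29) (ke xe2 ye44 ze5) (ke xe2 ye29 ze11) (ke xe9 ye57 ze23) (ke xe9 ye57 ze28) (ke xe9 ye57 ze30) (ke xe2 ye29 ze12) (ke xe9 ye57 ze38) (ke xe9 ye57 ze42) (ke xe5 ye10 ze58) (ke xe9 ye57 ze45) (ke xe5 ye10 ze38) (ke xe9 ye57 ze49) (ke xe3 ye20 ze34) (ke xe2 ye29 ze14) (ke xe9 ye57 ze57) (ke xe9 ye57 ze59) (ke xe2 ye29 ze15) (ke xe5 ye11 ze4) (ke xe4 ye55 ze43) (ke xe9 ye57 ze60) (ke xe5 ye11 ze5) (ke xe5 ye11 ze8) (ke xe5 ye11 ze9) (ke xe4 ye53 ze26) (ke xe9 ye58 ze12) (ke xe3 ye58 ze49) (ke xe2 ye29 ze18) (ke xe9 ye58 ze15) (ke xe2 ye29 ze20) (ke xe9 ye58 ze19) (ke xe9 ye58 ze24) (ke xe9 ye58 ze27) (ke xe2 ye29 ze21) (ke xe9 ye58 ze34) (ke xe9 ye39 ze42) (ke xe5 ye10 ze36) (ke xe5 ye10 ze59) (ke xe9 ye58 ze41) (ke xe9 ye58 ze43) (ke xe9 ye58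 ze47) (ke xe2 ye29 ze23) (ke xe2 ye29 ze24) (ke xe9 ye58 ze51) (ke xe5 ye10 ze43) (ke xe5 ye10 ze46) (ke xe9 ye58 ze54) (ke xe2 ye29 ze26)) (@D3.rec (fun _ => Pt) (ke xe5 ye10 ze47) (ke xe5 ye10 ze48) (ke xe5 ye11 ze11) (ke xe9 ye58 ze59) (ke xe7 ye7 ze42) (ke xe3 ye16 ze19) (ke xe2 ye29 ze29) (ke xe9 ye59 ze5) (ke xe9 ye59 ze7) (ke xe2 ye29 ze30) (ke xe9 ye59 ze10) (ke xe5 ye11 ze27) (ke xe5 ye11 ze19) (ke xe9 ye59 ze20) (ke xe9 ye59 ze22) (ke xe9 ye59 ze26) (ke xe9 ye59 ze29) (ke xe2 ye29 ze32) (ke xe2 ye29 ze33) (ke xe3 ye22 ze3) (ke xe5 ye11 ze18) (ke xe9 ye59 ze34) (ke xe9 ye59 ze38) (ke xe9 ye59 ze43) (ke xe9 ye59 ze49) (ke xe9 ye59 ze52) (ke xe2 ye29 ze35) (ke xe9 ye59 ze57) (ke xe10 ye0 ze0) (ke xe10 ye0 ze3) (ke xe10 ye0 ze4) (ke xe2 ye29 ze36) (ke xe10 ye0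 ze9) (ke xe10 ye0 ze12) (ke xe10 ye0 ze14) (ke xe6 ye0 ze18) (ke xe2 ye29 ze38) (ke xe2 ye29 ze39) (ke xe2 ye29 ze40) (ke xe10 ye0 ze27) (ke xe2 ye29 ze41) (ke xe10 ye0 ze32) (ke xe10 ye0 ze35) (ke xe5 ye14 ze47) (ke xe8 ye57 ze43) (ke xe3 ye12 ze7) (ke xe9 ye42 ze21) (ke xe9 ye43 ze38) (ke xe5 ye2 ze22) (ke xe10 ye0 ze42) (ke xe5 ye30 ze12) (ke xe10 ye0 ze45) (ke xe2 ye29 ze45) (ke xe10 ye0 ze51) (ke xe2 ye29 ze46) (ke xe10 ye0 ze55) (ke xe10 ye0 ze58) (ke xe2 ye29 ze47) (ke xe10 ye0 ze61) (ke xe9 ye0 ze60) (ke xe10 ye1 ze6) (ke xe10 ye1 ze7)) (@D3.rec (fun _ => Pt) (ke xe2 ye29 ze48) (ke xe5 ye28 ze4) (ke xe10 ye1 ze15) (ke xe5 ye12 ze50) (ke xe10 ye1 ze16) (ke xe5 ye46 ze45) (ke xe10 ye1 ze19) (ke xe9 ye51 ze20) (ke xe10 ye1 ze21) (ke xe5 ye46 ze38) (ke xe10 ye1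 ze26) (ke xe10 ye1 ze29) (ke xe5 ye46 ze29) (ke xe5 ye37 ze7) (ke xe10 ye1 ze32) (ke xe10 ye1 ze34) (ke xe2 ye29 ze56) (ke xe10 ye1 ze38) (ke xe10 ye1 ze41) (ke xe2 ye29 ze57) (ke xe10 ye1 ze47) (ke xe2 ye29 ze58) (ke xe10 ye1 ze50) (ke xe10 ye1 ze53) (ke xe10 ye1 ze57) (ke xe10 ye1 ze59) (ke xe2 ye29 ze59) (ke xe5 ye12 ze6) (ke xe10 ye2 ze5) (ke xe5 ye13 ze14) (ke xe10 ye2 ze8) (ke xe2 ye29 ze61) (ke xe10 ye2 ze15) (ke xe2 ye30 ze0) (ke xe5 ye16 ze54) (ke xe5 ye12 ze12) (ke xe2 ye30 ze27) (ke xe5 ye17 ze45) (ke xe5 ye31 ze26) (ke xe5 ye32 ze6) (ke xe10 ye2 ze26) (ke xe10 ye2 ze29) (ke xe10 ye2 ze30) (ke xe2 ye30 ze4) (ke xe6 ye17 ze53) (ke xe5 ye13 ze21) (ke xe5 ye12 ze22) (ke xe5 ye2 ze39) (ke xe10 ye2 ze38) (ke xe10 ye2 ze40) (ke xe2 ye30 ze7) (ke xe2 ye30 ze9) (ke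 xe6 ye39 ze12) (ke xe2 ye30 ze11) (ke xe2 ye30 ze12) (ke xe7 ye36 ze17) (ke xe2 ye30 ze15) (ke xe10 ye2 ze52) (ke xe10 ye2 ze54) (ke xe2 ye30 ze16) (ke xe10 ye2 ze57) (ke xe2 ye30 ze18)) (@D3.rec (fun _ => Pt) (ke xe10 ye3 ze2) (ke xe10 ye3 ze5) (ke xe5 ye13 ze32) (ke xe5 ye24 ze5) (ke xe5 ye24 ze28) (ke xe10 ye3 ze7) (ke xe10 ye3 ze10) (ke xe2 ye30 ze21) (ke xe4 ye32 ze56) (ke xe10 ye3 ze17) (ke xe10 ye3 ze22) (ke xe10 ye3 ze23) (ke xe2 ye30 ze22) (ke xe10 ye1 ze44) (ke xe2 ye30 ze24) (ke xe5 ye12 ze8) (ke xe10 ye3 ze31) (ke xe10 ye3 ze38) (ke xe10 ye3 ze42) (ke xe10 ye3 ze43) (ke xe2 ye30 ze25) (ke xe5 ye12 ze21) (ke xe10 ye2 ze11) (ke xe10 ye2 ze18) (ke xe4 ye30 ze47) (ke xe2 ye40 ze36) (ke xe2 ye30 ze30) (ke xe10 ye3 ze51) (ke xe10 ye3 ze53) (ke xe2 ye30 ze31) (ke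 xe10 ye3 ze54) (ke xe2 ye30 ze32) (ke xe6 ye31 ze37) (ke xe10 ye3 ze56) (ke xe6 ye30 ze29) (ke xe2 ye30 ze34) (ke xe10 ye3 ze60) (ke xe10 ye4 ze1) (ke xe5 ye12 ze33) (ke xe10 ye4 ze2) (ke xe10 ye4 ze4) (ke xe2 ye30 ze37) (ke xe10 ye4 ze10) (ke xe2 ye30 ze38) (ke xe10 ye4 ze12) (ke xe10 ye4 ze14) (ke xe10 ye4 ze18) (ke xe2 ye30 ze39) (ke xe9 ye25 ze13) (ke xe10 ye4 ze23) (ke xe2 ye30 ze41) (ke xe6 ye25 ze25) (ke xe2 ye30 ze43) (ke xe10 ye4 ze32) (ke xe2 ye30 ze44) (ke xe10 ye4 ze36) (ke xe5 ye13 ze51) (ke xe2 ye55 ze50) (ke xe6 ye49 ze42) (ke xe6 ye50 ze45) (ke xe6 ye26 ze4) (ke xe4 ye41 ze41)) (@D3.rec (fun _ => Pt) (ke xe2 ye30 ze51) (ke xe5 ye13 ze36) (ke xe10 ye4 ze42) (ke xe10 ye4 ze46) (ke xe10 ye4 ze47) (ke xe10 ye4 ze49) (ke xe2 ye30 ze52) (ke xe2 ye30 ze54)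 (ke xe10 ye4 ze56) (ke xe2 ye30 ze55) (ke xe10 ye4 ze60) (ke xe5 ye14 ze21) (ke xe8 ye0 ze9) (ke xe8 ye0 ze13) (ke xe10 ye5 ze2) (ke xe5 ye53 ze53) (ke xe6 ye50 ze31) (ke xe2 ye30 ze58) (ke xe5 ye53 ze37) (ke xe10 ye5 ze8) (ke xe5 ye48 ze55) (ke xe6 ye42 ze10) (ke xe3 ye20 ze33) (ke xe2 ye30 ze60) (ke xe6 ye13 ze17) (ke xe10 ye5 ze13) (ke xe10 ye5 ze17) (ke xe6 ye30 ze34) (ke xe2 ye31 ze1) (ke xe5 ye14 ze9) (ke xe10 ye5 ze22) (ke xe10 ye5 ze24) (ke xe5 ye42 ze47) (ke xe10 ye5 ze27) (ke xe2 ye31 ze3) (ke xe2 ye31 ze8) (ke xe5 ye45 ze2) (ke xe10 ye5 ze32) (ke xe2 ye31 ze4) (ke xe2 ye31 ze9) (ke xe10 ye5 ze37) (ke xe2 ye31 ze5) (ke xe10 ye5 ze42) (ke xe10 ye5 ze40) (ke xe4 ye20 ze11) (ke xe10 ye5 ze46) (ke xe10 ye5 ze48) (ke xe10 ye5 ze50) (ke xe2 ye31 ze10) (ke xe10 ye5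 ze54) (ke xe10 ye5 ze59) (ke xe2 ye31 ze11) (ke xe10 ye6 ze3) (ke xe10 ye6 ze8) (ke xe2 ye31 ze12) (ke xe10 ye6 ze13) (ke xe10 ye6 ze15) (ke xe2 ye31 ze13) (ke xe10 ye6 ze21) (ke xe10 ye6 ze24) (ke xe6 ye34 ze51) (ke xe10 ye6 ze32)) (@D3.rec (fun _ => Pt) (ke xe2 ye31 ze14) (ke xe10 ye6 ze38) (ke xe10 ye6 ze40) (ke xe10 ye6 ze41) (ke xe10 ye6 ze42) (ke xe2 ye31 ze16) (ke xe10 ye6 ze45) (ke xe2 ye31 ze17) (ke xe10 ye6 ze50) (ke xe10 ye6 ze52) (ke xe5 ye14 ze42) (ke xe10 ye6 ze54) (ke xe10 ye6 ze57) (ke xe2 ye31 ze19) (ke xe10 ye7 ze0) (ke xe5 ye50 ze45) (ke xe5 ye14 ze36) (ke xe10 ye7 ze3) (ke xe10 ye7 ze6) (ke xe10 ye7 ze7) (ke xe2 ye31 ze21) (ke xe10 ye7 ze10) (ke xe2 ye31 ze23) (ke xe10 ye7 ze13) (ke xe2 ye31 ze24) (ke xe2 ye31 ze25) (ke xe10 ye7 ze16) (ke xe10 ye7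 ze18) (ke xe10 ye7 ze19) (ke xe10 ye7 ze20) (ke xe10 ye7 ze23) (ke xe2 ye31 ze27) (ke xe10 ye7 ze29) (ke xe2 ye31 ze29) (ke xe9 ye43 ze34) (ke xe10 ye7 ze37) (ke xe10 ye7 ze40) (ke xe10 ye7 ze45) (ke xe10 ye7 ze46) (ke xe2 ye31 ze31) (ke xe5 ye1 ze12) (ke xe10 ye7 ze53) (ke xe8 ye4 ze8) (ke xe9 ye3 ze6) (ke xe10 ye7 ze54) (ke xe10 ye7 ze55) (ke xe2 ye31 ze33) (ke xe10 ye7 ze57) (ke xe10 ye8 ze0) (ke xe10 ye8 ze1) (ke xe2 ye31 ze35) (ke xe10 ye8 ze7) (ke xe5 ye0 ze45) (ke xe2 ye31 ze37) (ke xe8 ye4 ze2) (ke xe10 ye8 ze11) (ke xe10 ye8 ze16) (ke xe2 ye31 ze38) (ke xe10 ye8 ze24) (ke xe10 ye8 ze27) (ke xe2 ye31 ze39) (ke xe5 ye1 ze45)) (@D3.rec (fun _ => Pt) (ke xe10 ye8 ze35) (ke xe8 ye4 ze20) (ke xe2 ye31 ze41) (ke xe10 ye8 ze43) (ke xe10 ye8 ze44) (ke xe2 ye31 ze42)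 (ke xe10 ye8 ze48) (ke xe5 ye1 ze37) (ke xe8 ye4 ze14) (ke xe10 ye8 ze53) (ke xe8 ye10 ze40) (ke xe2 ye31 ze44) (ke xe10 ye8 ze61) (ke xe10 ye9 ze0) (ke xe2 ye31 ze45) (ke xe10 ye9 ze7) (ke xe10 ye9 ze12) (ke xe5 ye1 ze55) (ke xe10 ye9 ze17) (ke xe10 ye9 ze18) (ke xe10 ye9 ze20) (ke xe10 ye9 ze22) (ke xe2 ye31 ze47) (ke xe2 ye31 ze48) (ke xe8 ye28 ze5) (ke xe10 ye9 ze35) (ke xe10 ye9 ze36) (ke xe10 ye9 ze39) (ke xe2 ye31 ze51) (ke xe10 ye9 ze42) (ke xe2 ye31 ze52) (ke xe2 ye38 ze28) (ke xe7 ye36 ze58) (ke xe10 ye9 ze50) (ke xe2 ye31 ze54) (ke xe10 ye9 ze55) (ke xe10 ye9 ze58) (ke xe2 ye31 ze55) (ke xe10 ye9 ze60) (ke xe10 ye10 ze0) (ke xe10 ye10 ze5) (ke xe10 ye10 ze8) (ke xe2 ye31 ze56) (ke xe5 ye2 ze14) (ke xe10 ye10 ze17) (ke xe5 ye3 ze0) (ke xe10 ye10 ze19) (ke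 xe2 ye31 ze58) (ke xe10 ye10 ze25) (ke xe2 ye31 ze59) (ke xe5 ye11 ze56) (ke xe5 ye2 ze23) (ke xe2 ye32 ze14) (ke xe9 ye43 ze39) (ke xe10 ye10 ze35) (ke xe10 ye10 ze38) (ke xe10 ye10 ze40) (ke xe10 ye10 ze43) (ke xe2 ye32 ze0) (ke xe2 ye32 ze1) (ke xe5 ye3 ze12) (ke xe5 ye2 ze42)) (@D3.rec (fun _ => Pt) (ke xe5 ye2 ze43) (ke xe10 ye10 ze51) (ke xe2 ye32 ze4) (ke xe9 ye42 ze4) (ke xe9 ye42 ze23) (ke xe10 ye10 ze56) (ke xe2 ye32 ze7) (ke xe10 ye10 ze60) (ke xe10 ye10 ze61) (ke xe10 ye11 ze4) (ke xe10 ye11 ze5) (ke xe2 ye32 ze8) (ke xe10 ye9 ze53) (ke xe2 ye32 ze10) (ke xe5 ye2 ze16) (ke xe10 ye11 ze12) (ke xe10 ye11 ze17) (ke xe10 ye11 ze20) (ke xe10 ye11 ze22) (ke xe10 ye11 ze24) (ke xe2 ye32 ze11) (ke xe2 ye32 ze12) (ke xe5 ye2 ze41) (ke xe10 ye10 ze28) (ke xe5 ye36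 ze59) (ke xe4 ye19 ze47) (ke xe2 ye32 ze17) (ke xe10 ye11 ze31) (ke xe10 ye11 ze34) (ke xe2 ye32 ze18) (ke xe10 ye11 ze39) (ke xe10 ye11 ze44) (ke xe10 ye11 ze45) (ke xe2 ye32 ze19) (ke xe9 ye40 ze16) (ke xe10 ye11 ze56) (ke xe5 ye3 ze50) (ke xe10 ye11 ze58) (ke xe5 ye3 ze25) (ke xe10 ye12 ze0) (ke xe9 ye7 ze40) (ke xe2 ye32 ze21) (ke xe2 ye32 ze22) (ke xe5 ye3 ze58) (ke xe9 ye43 ze7) (ke xe10 ye12 ze5) (ke xe5 ye3 ze59) (ke xe5 ye4 ze0) (ke xe5 ye4 ze1) (ke xe4 ye52 ze16) (ke xe10 ye12 ze19) (ke xe2 ye32 ze25) (ke xe10 ye12 ze20) (ke xe10 ye12 ze25) (ke xe10 ye12 ze26) (ke xe2 ye32 ze27) (ke xe10 ye12 ze33) (ke xe10 ye11 ze35) (ke xe5 ye3 ze23) (ke xe5 ye3 ze51) (ke xe10 ye12 ze39) (ke xe10 ye12 ze41)) (@D3.rec (fun _ => Pt) (ke xe10 ye12 ze42) (ke xe2 ye32 ze29) (ke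 xe2 ye32 ze30) (ke xe9 ye43 ze10) (ke xe5 ye3 ze32) (ke xe5 ye3 ze35) (ke xe10 ye12 ze48) (ke xe2 ye32 ze32) (ke xe5 ye3 ze36) (ke xe5 ye3 ze37) (ke xe10 ye12 ze54) (ke xe5 ye4 ze2) (ke xe10 ye12 ze59) (ke xe10 ye13 ze1) (ke xe6 ye40 ze3) (ke xe2 ye32 ze35) (ke xe2 ye32 ze36) (ke xe10 ye13 ze7) (ke xe5 ye4 ze20) (ke xe5 ye4 ze12) (ke xe10 ye13 ze14) (ke xe10 ye13 ze16) (ke xe10 ye13 ze20) (ke xe6 ye40 ze22) (ke xe2 ye32 ze38) (ke xe2 ye32 ze39) (ke xe4 ye50 ze9) (ke xe5 ye4 ze11) (ke xe10 ye13 ze26) (ke xe10 ye13 ze30) (ke xe10 ye13 ze35) (ke xe10 ye13 ze41) (ke xe10 ye13 ze45) (ke xe2 ye32 ze41) (ke xe10 ye13 ze50) (ke xe10 ye13 ze55) (ke xe10 ye13 ze58) (ke xe10 ye13 ze60) (ke xe2 ye32 ze42) (ke xe10 ye14 ze3) (ke xe10 ye14 ze6) (ke xe10 ye14 ze9) (ke xe10 ye14 ze13)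 (ke xe2 ye32 ze44) (ke xe2 ye32 ze45) (ke xe10 ye14 ze21) (ke xe2 ye32 ze46) (ke xe10 ye14 ze25) (ke xe2 ye32 ze47) (ke xe10 ye14 ze32) (ke xe10 ye14 ze35) (ke xe3 ye15 ze47) (ke xe5 ye32 ze5) (ke xe3 ye1 ze52) (ke xe10 ye14 ze39) (ke xe9 ye43 ze9) (ke xe5 ye9 ze50) (ke xe2 ye32 ze50) (ke xe10 ye14 ze42) (ke xe10 ye14 ze44) (ke xe2 ye32 ze51) (ke xe4 ye23 ze20)) (@D3.rec (fun _ => Pt) (ke xe2 ye32 ze52) (ke xe10 ye14 ze52) (ke xe8 ye43 ze41) (ke xe10 ye14 ze57) (ke xe10 ye14 ze58) (ke xe2 ye32 ze53) (ke xe5 ye5 ze27) (ke xe10 ye15 ze4) (ke xe5 ye6 ze15) (ke xe4 ye46 ze7) (ke xe2 ye32 ze55) (ke xe5 ye18 ze59) (ke xe5 ye5 ze35) (ke xe2 ye33 ze31) (ke xe5 ye15 ze40) (ke xe8 ye57 ze18) (ke xe10 ye15 ze12) (ke xe10 ye15 ze15) (ke xe10 ye15 ze16) (ke xe2 ye32 ze58) (ke xe6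 ye12 ze54) (ke xe5 ye6 ze21) (ke xe5 ye5 ze46) (ke xe10 ye15 ze22) (ke xe2 ye32 ze61) (ke xe3 ye58 ze54) (ke xe9 ye51 ze22) (ke xe6 ye9 ze5) (ke xe2 ye33 ze4) (ke xe5 ye37 ze54) (ke xe2 ye33 ze7) (ke xe10 ye15 ze30) (ke xe10 ye15 ze32) (ke xe5 ye6 ze38) (ke xe5 ye23 ze36) (ke xe10 ye15 ze33) (ke xe10 ye15 ze37) (ke xe2 ye33 ze9) (ke xe10 ye15 ze39) (ke xe8 ye41 ze24) (ke xe10 ye15 ze43) (ke xe10 ye15 ze45) (ke xe2 ye33 ze12) (ke xe9 ye37 ze51) (ke xe10 ye15 ze54) (ke xe10 ye15 ze55) (ke xe2 ye33 ze13) (ke xe10 ye15 ze61) (ke xe2 ye38 ze12) (ke xe2 ye33 ze15) (ke xe5 ye5 ze3) (ke xe10 ye16 ze2) (ke xe10 ye16 ze5) (ke xe10 ye16 ze8) (ke xe10 ye16 ze9) (ke xe2 ye33 ze17) (ke xe7 ye8 ze17) (ke xe2 ye33 ze20) (ke xe10 ye16 ze12) (ke xe10 ye16 ze13) (ke xe10 ye16 ze16) (ke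 xe10 ye16 ze18)) (@D3.rec (fun _ => Pt) (ke xe10 ye16 ze20) (ke xe2 ye33 ze22) (ke xe10 ye16 ze24) (ke xe8 ye54 ze12) (ke xe8 ye54 ze34) (ke xe10 ye16 ze29) (ke xe2 ye33 ze25) (ke xe10 ye16 ze34) (ke xe10 ye16 ze37) (ke xe8 ye43 ze55) (ke xe2 ye54 ze26) (ke xe2 ye33 ze26) (ke xe10 ye14 ze47) (ke xe2 ye33 ze28) (ke xe5 ye5 ze29) (ke xe10 ye16 ze48) (ke xe10 ye16 ze54) (ke xe10 ye16 ze57) (ke xe10 ye16 ze58) (ke xe2 ye33 ze29) (ke xe10 ye14 ze28) (ke xe5 ye5 ze45) (ke xe10 ye15 ze7) (ke xe2 ye43 ze25) (ke xe4 ye10 ze59) (ke xe2 ye33 ze34) (ke xe10 ye17 ze6) (ke xe4 ye56 ze53) (ke xe10 ye17 ze13) (ke xe2 ye33 ze36) (ke xe10 ye17 ze18) (ke xe10 ye17 ze21) (ke xe5 ye6 ze2) (ke xe2 ye33 ze38) (ke xe2 ye33 ze39) (ke xe10 ye17 ze27) (ke xe5 ye7 ze1) (ke xe4 ye25 ze29) (ke xe4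 ye26 ze5) (ke xe4 ye35 ze35) (ke xe10 ye17 ze31) (ke xe2 ye33 ze43) (ke xe10 ye17 ze34) (ke xe2 ye33 ze44) (ke xe10 ye17 ze37) (ke xe10 ye17 ze39) (ke xe10 ye17 ze43) (ke xe2 ye33 ze47) (ke xe10 ye17 ze46) (ke xe10 ye17 ze50) (ke xe2 ye33 ze50) (ke xe5 ye6 ze56) (ke xe4 ye57 ze44) (ke xe5 ye52 ze55) (ke xe10 ye17 ze55) (ke xe3 ye3 ze25) (ke xe3 ye3 ze26) (ke xe5 ye51 ze42) (ke xe7 ye14 ze7) (ke xe10 ye17 ze60) (ke xe2 ye33 ze53) (ke xe10 ye18 ze1)) (@D3.rec (fun _ => Pt) (ke xe2 ye33 ze54) (ke xe3 ye19 ze3) (ke xe10 ye18 ze4) (ke xe10 ye18 ze7) (ke xe2 ye33 ze55) (ke xe3 ye59 ze0) (ke xe4 ye57 ze16) (ke xe10 ye18 ze13) (ke xe4 ye56 ze27) (ke xe5 ye7 ze29) (ke xe3 ye3 ze28) (ke xe10 ye18 ze15) (ke xe9 ye27 ze33) (ke xe2 ye33 ze59) (ke xe10 ye18 ze17) (ke xe10 ye18 ze19)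 (ke xe5 ye58 ze2) (ke xe2 ye33 ze60) (ke xe10 ye18 ze21) (ke xe5 ye51 ze54) (ke xe2 ye34 ze1) (ke xe5 ye7 ze11) (ke xe4 ye25 ze47) (ke xe5 ye41 ze15) (ke xe5 ye41 ze16) (ke xe10 ye18 ze26) (ke xe2 ye34 ze3) (ke xe5 ye57 ze42) (ke xe2 ye34 ze4) (ke xe3 ye43 ze25) (ke xe6 ye7 ze25) (ke xe10 ye18 ze35) (ke xe10 ye18 ze37) (ke xe2 ye34 ze6) (ke xe10 ye18 ze43) (ke xe10 ye18 ze44) (ke xe5 ye8 ze16) (ke xe10 ye18 ze46) (ke xe10 ye18 ze48) (ke xe2 ye34 ze8) (ke xe10 ye18 ze51) (ke xe10 ye18 ze53) (ke xe5 ye8 ze10) (ke xe10 ye18 ze56) (ke xe10 ye18 ze59) (ke xe10 ye18 ze60) (ke xe2 ye34 ze10) (ke xe5 ye4 ze43) (ke xe2 ye34 ze12) (ke xe10 ye19 ze4) (ke xe2 ye34 ze13) (ke xe2 ye34 ze14) (ke xe10 ye19 ze7) (ke xe10 ye19 ze9) (ke xe5 ye17 ze11) (ke xe4 ye14 ze61) (ke xe9 ye26 ze47)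 (ke xe4 ye15 ze5) (ke xe10 ye19 ze19) (ke xe10 ye19 ze21) (ke xe4 ye15 ze15) (ke xe10 ye19 ze27)) (@D3.rec (fun _ => Pt) (ke xe10 ye19 ze29) (ke xe8 ye19 ze18) (ke xe10 ye19 ze34) (ke xe2 ye34 ze23) (ke xe10 ye19 ze37) (ke xe2 ye34 ze24) (ke xe10 ye19 ze42) (ke xe5 ye17 ze7) (ke xe10 ye19 ze49) (ke xe10 ye19 ze50) (ke xe2 ye34 ze26) (ke xe8 ye3 ze21) (ke xe10 ye19 ze52) (ke xe2 ye34 ze27) (ke xe5 ye22 ze31) (ke xe10 ye19 ze56) (ke xe10 ye19 ze57) (ke xe8 ye10 ze15) (ke xe10 ye19 ze59) (ke xe2 ye34 ze30) (ke xe4 ye51 ze3) (ke xe9 ye22 ze58) (ke xe2 ye34 ze32) (ke xe9 ye23 ze11) (ke xe10 ye20 ze7) (ke xe6 ye52 ze38) (ke xe9 ye26 ze31) (ke xe2 ye34 ze33) (ke xe5 ye17 ze36) (ke xe10 ye3 ze46) (ke xe10 ye20 ze17) (ke xe10 ye20 ze20) (ke xe2 ye34 ze35) (ke xe10 ye20 ze23)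 (ke xe10 ye20 ze25) (ke xe2 ye34 ze38) (ke xe10 ye20 ze27) (ke xe10 ye20 ze34) (ke xe10 ye20 ze35) (ke xe2 ye34 ze40) (ke xe5 ye12 ze14) (ke xe2 ye34 ze42) (ke xe8 ye19 ze19) (ke xe10 ye20 ze42) (ke xe2 ye34 ze43) (ke xe10 ye20 ze49) (ke xe10 ye20 ze54) (ke xe10 ye20 ze56) (ke xe2 ye34 ze44) (ke xe5 ye17 ze61) (ke xe10 ye21 ze2) (ke xe8 ye17 ze50) (ke xe10 ye21 ze5) (ke xe2 ye34 ze46) (ke xe10 ye21 ze13) (ke xe10 ye21 ze14) (ke xe2 ye34 ze47) (ke xe10 ye21 ze20) (ke xe5 ye17 ze53) (ke xe10 ye19 ze39) (ke xe10 ye21 ze26) (ke xe10 ye21 ze28)) (@D3.rec (fun _ => Pt) (ke xe2 ye34 ze49) (ke xe10 ye21 ze35) (ke xe10 ye21 ze36) (ke xe2 ye34 ze50) (ke xe10 ye21 ze42) (ke xe10 ye21 ze46) (ke xe5 ye18 ze9) (ke xe10 ye21 ze50) (ke xe10 ye21 ze52) (ke xe9 ye22 ze41) (ke xe10 ye21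 ze55) (ke xe10 ye21 ze57) (ke xe2 ye34 ze52) (ke xe10 ye21 ze61) (ke xe2 ye34 ze53) (ke xe10 ye22 ze5) (ke xe8 ye57 ze16) (ke xe10 ye22 ze10) (ke xe10 ye22 ze11) (ke xe2 ye34 ze55) (ke xe5 ye19 ze60) (ke xe10 ye22 ze20) (ke xe5 ye18 ze35) (ke xe5 ye18 ze37) (ke xe4 ye17 ze56) (ke xe2 ye34 ze58) (ke xe10 ye22 ze25) (ke xe10 ye22 ze26) (ke xe2 ye34 ze60) (ke xe10 ye22 ze33) (ke xe8 ye52 ze12) (ke xe5 ye18 ze25) (ke xe2 ye35 ze0) (ke xe5 ye18 ze26) (ke xe10 ye22 ze35) (ke xe10 ye22 ze37) (ke xe10 ye22 ze40) (ke xe10 ye22 ze45) (ke xe6 ye40 ze48) (ke xe2 ye35 ze3) (ke xe10 ye22 ze52) (ke xe10 ye22 ze56) (ke xe10 ye22 ze59) (ke xe10 ye22 ze60) (ke xe2 ye35 ze4) (ke xe10 ye23 ze3) (ke xe10 ye23 ze6) (ke xe9 ye43 ze0) (ke xe10 ye23 ze11) (ke xe2 ye35 ze6) (ke xe2 ye35 ze7)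 (ke xe10 ye23 ze17) (ke xe10 ye23 ze19) (ke xe8 ye54 ze32) (ke xe5 ye5 ze34) (ke xe4 ye7 ze51) (ke xe10 ye23 ze25) (ke xe10 ye23 ze28) (ke xe4 ye8 ze4) (ke xe10 ye23 ze35) (ke xe10 ye23 ze36) (ke xe2 ye42 ze19)) (@D3.rec (fun _ => Pt) (ke xe10 ye23 ze39) (ke xe8 ye31 ze49) (ke xe10 ye23 ze44) (ke xe2 ye35 ze16) (ke xe9 ye24 ze52) (ke xe2 ye35 ze17) (ke xe10 ye23 ze51) (ke xe5 ye15 ze7) (ke xe10 ye23 ze59) (ke xe10 ye23 ze61) (ke xe2 ye35 ze19) (ke xe5 ye14 ze54) (ke xe10 ye24 ze2) (ke xe10 ye24 ze3) (ke xe9 ye37 ze44) (ke xe10 ye24 ze5) (ke xe2 ye35 ze22) (ke xe10 ye24 ze9) (ke xe2 ye35 ze24) (ke xe10 ye24 ze11) (ke xe2 ye35 ze25) (ke xe9 ye25 ze43) (ke xe2 ye35 ze27) (ke xe10 ye24 ze18) (ke xe2 ye35 ze28) (ke xe8 ye57 ze1) (ke xe10 ye24 ze27) (ke xe10 ye24 ze28) (ke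 xe2 ye35 ze30) (ke xe10 ye24 ze33) (ke xe2 ye35 ze31) (ke xe10 ye24 ze39) (ke xe10 ye24 ze42) (ke xe10 ye24 ze47) (ke xe10 ye24 ze48) (ke xe2 ye35 ze32) (ke xe5 ye15 ze28) (ke xe10 ye17 ze1) (ke xe10 ye24 ze54) (ke xe10 ye24 ze56) (ke xe2 ye35 ze34) (ke xe10 ye24 ze58) (ke xe10 ye25 ze2) (ke xe10 ye25 ze3) (ke xe2 ye35 ze36) (ke xe5 ye5 ze37) (ke xe2 ye35 ze38) (ke xe8 ye31 ze50) (ke xe10 ye25 ze10) (ke xe10 ye25 ze14) (ke xe10 ye25 ze19) (ke xe9 ye31 ze61) (ke xe2 ye35 ze39) (ke xe5 ye15 ze58) (ke xe10 ye25 ze27) (ke xe8 ye30 ze43) (ke xe2 ye35 ze41) (ke xe10 ye25 ze35) (ke xe10 ye25 ze36) (ke xe2 ye35 ze42) (ke xe10 ye25 ze42) (ke xe5 ye15 ze49)) (@D3.rec (fun _ => Pt) (ke xe10 ye23 ze48) (ke xe10 ye25 ze48) (ke xe9 ye32 ze1) (ke xe2 ye35 ze44) (ke xe3 ye46 ze14)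 (ke xe7 ye15 ze56) (ke xe2 ye35 ze45) (ke xe10 ye25 ze56) (ke xe10 ye25 ze60) (ke xe5 ye16 ze6) (ke xe10 ye26 ze3) (ke xe10 ye26 ze5) (ke xe10 ye26 ze7) (ke xe10 ye26 ze9) (ke xe10 ye26 ze11) (ke xe2 ye35 ze47) (ke xe10 ye26 ze15) (ke xe2 ye35 ze48) (ke xe10 ye26 ze21) (ke xe5 ye31 ze24) (ke xe10 ye26 ze26) (ke xe10 ye26 ze27) (ke xe2 ye35 ze50) (ke xe8 ye52 ze36) (ke xe8 ye44 ze36) (ke xe5 ye16 ze31) (ke xe5 ye16 ze33) (ke xe4 ye11 ze21) (ke xe2 ye35 ze53) (ke xe4 ye54 ze3) (ke xe10 ye26 ze42) (ke xe10 ye26 ze44) (ke xe2 ye35 ze55) (ke xe8 ye44 ze39) (ke xe5 ye19 ze24) (ke xe5 ye16 ze22) (ke xe2 ye35 ze57) (ke xe5 ye16 ze23) (ke xe10 ye26 ze52) (ke xe10 ye26 ze56) (ke xe10 ye26 ze58) (ke xe10 ye27 ze1) (ke xe10 ye27 ze5) (ke xe2 ye35 ze60) (ke xe10 ye27 ze10) (ke xe10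 ye27 ze15) (ke xe10 ye27 ze18) (ke xe10 ye27 ze20) (ke xe2 ye35 ze61) (ke xe10 ye27 ze25) (ke xe10 ye27 ze28) (ke xe10 ye27 ze31) (ke xe10 ye27 ze35) (ke xe2 ye36 ze1) (ke xe2 ye36 ze2) (ke xe10 ye27 ze43) (ke xe10 ye27 ze46) (ke xe4 ye43 ze45) (ke xe5 ye24 ze26) (ke xe5 ye12 ze11) (ke xe10 ye27 ze50) (ke xe10 ye27 ze52)) (@D3.rec (fun _ => Pt) (ke xe2 ye36 ze6) (ke xe10 ye27 ze57) (ke xe2 ye36 ze8) (ke xe4 ye15 ze56) (ke xe2 ye36 ze10) (ke xe2 ye36 ze11) (ke xe8 ye52 ze2) (ke xe2 ye36 ze13) (ke xe10 ye28 ze4) (ke xe2 ye36 ze14) (ke xe4 ye4 ze34) (ke xe2 ye36 ze16) (ke xe5 ye21 ze23) (ke xe10 ye28 ze12) (ke xe2 ye36 ze18) (ke xe10 ye28 ze18) (ke xe10 ye28 ze19) (ke xe2 ye36 ze19) (ke xe8 ye33 ze20) (ke xe10 ye28 ze26) (ke xe5 ye19 ze53) (ke xe10 ye28 ze31) (ke xe10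 ye28 ze32) (ke xe2 ye36 ze21) (ke xe5 ye18 ze34) (ke xe10 ye28 ze40) (ke xe2 ye36 ze53) (ke xe5 ye19 ze61) (ke xe10 ye28 ze48) (ke xe10 ye28 ze49) (ke xe2 ye36 ze24) (ke xe10 ye28 ze56) (ke xe10 ye28 ze57) (ke xe2 ye36 ze25) (ke xe10 ye28 ze61) (ke xe10 ye29 ze1) (ke xe8 ye52 ze23) (ke xe10 ye29 ze3) (ke xe10 ye29 ze5) (ke xe10 ye29 ze6) (ke xe2 ye36 ze27) (ke xe2 ye36 ze28) (ke xe10 ye29 ze14) (ke xe2 ye36 ze30) (ke xe2 ye36 ze31) (ke xe4 ye2 ze29) (ke xe10 ye29 ze24) (ke xe2 ye36 ze33) (ke xe10 ye29 ze29) (ke xe10 ye29 ze30) (ke xe2 ye36 ze34) (ke xe10 ye16 ze31) (ke xe2 ye36 ze37) (ke xe5 ye19 ze20) (ke xe10 ye29 ze37) (ke xe4 ye28 ze2) (ke xe10 ye29 ze46) (ke xe10 ye29 ze47) (ke xe2 ye36 ze39) (ke xe10 ye29 ze53) (ke xe5 ye16 ze20) (ke xe5 ye19 ze27)) (@D3.rec (fun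 _ => Pt) (ke xe10 ye29 ze59) (ke xe10 ye29 ze60) (ke xe2 ye36 ze41) (ke xe10 ye30 ze4) (ke xe10 ye30 ze5) (ke xe2 ye36 ze42) (ke xe10 ye30 ze12) (ke xe10 ye30 ze17) (ke xe8 ye52 ze46) (ke xe10 ye30 ze19) (ke xe10 ye30 ze20) (ke xe10 ye30 ze22) (ke xe2 ye36 ze44) (ke xe2 ye36 ze45) (ke xe10 ye30 ze29) (ke xe10 ye30 ze31) (ke xe2 ye36 ze47) (ke xe10 ye30 ze34) (ke xe2 ye36 ze48) (ke xe10 ye30 ze39) (ke xe10 ye30 ze42) (ke xe2 ye37 ze7) (ke xe10 ye30 ze50) (ke xe10 ye30 ze52) (ke xe2 ye36 ze50) (ke xe10 ye30 ze54) (ke xe2 ye36 ze51) (ke xe10 ye28 ze42) (ke xe10 ye30 ze58) (ke xe10 ye30 ze60) (ke xe7 ye46 ze40) (ke xe10 ye31 ze4) (ke xe2 ye36 ze54) (ke xe10 ye31 ze10) (ke xe2 ye38 ze30) (ke xe10 ye31 ze12) (ke xe2 ye36 ze56) (ke xe10 ye31 ze18) (ke xe10 ye31 ze19) (ke xe2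 ye36 ze58) (ke xe10 ye31 ze25) (ke xe2 ye38 ze6) (ke xe2 ye36 ze60) (ke xe10 ye31 ze30) (ke xe10 ye31 ze35) (ke xe10 ye31 ze36) (ke xe2 ye36 ze61) (ke xe10 ye31 ze41) (ke xe2 ye38 ze58) (ke xe2 ye37 ze2) (ke xe10 ye31 ze48) (ke xe10 ye31 ze49) (ke xe2 ye37 ze3) (ke xe10 ye31 ze54) (ke xe2 ye38 ze47) (ke xe10 ye31 ze59) (ke xe10 ye31 ze60) (ke xe2 ye37 ze5) (ke xe7 ye28 ze8) (ke xe10 ye32 ze2) (ke xe10 ye32 ze3) (ke xe2 ye37 ze6)) (@D3.rec (fun _ => Pt) (ke xe10 ye32 ze9) (ke xe7 ye37 ze19) (ke xe10 ye30 ze45) (ke xe10 ye21 ze19) (ke xe10 ye32 ze16) (ke xe10 ye32 ze18) (ke xe10 ye32 ze20) (ke xe2 ye37 ze8) (ke xe2 ye37 ze9) (ke xe10 ye26 ze36) (ke xe10 ye32 ze31) (ke xe10 ye32 ze34) (ke xe10 ye32 ze37) (ke xe6 ye4 ze18) (ke xe10 ye32 ze44) (ke xe10 ye32 ze46) (ke xe6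 ye4 ze21) (ke xe10 ye32 ze53) (ke xe4 ye20 ze53) (ke xe10 ye32 ze58) (ke xe2 ye37 ze14) (ke xe10 ye33 ze0) (ke xe2 ye37 ze16) (ke xe5 ye19 ze12) (ke xe10 ye33 ze7) (ke xe2 ye37 ze18) (ke xe10 ye33 ze9) (ke xe2 ye37 ze19) (ke xe10 ye33 ze15) (ke xe2 ye37 ze21) (ke xe8 ye22 ze20) (ke xe10 ye33 ze22) (ke xe10 ye31 ze21) (ke xe7 ye46 ze7) (ke xe10 ye33 ze30) (ke xe2 ye37 ze23) (ke xe2 ye38 ze3) (ke xe10 ye33 ze34) (ke xe10 ye28 ze41) (ke xe7 ye46 ze27) (ke xe10 ye33 ze36) (ke xe2 ye37 ze25) (ke xe8 ye21 ze39) (ke xe7 ye46 ze19) (ke xe10 ye33 ze41) (ke xe2 ye37 ze27) (ke xe10 ye33 ze46) (ke xe2 ye38 ze37) (ke xe10 ye33 ze52) (ke xe10 ye33 ze55) (ke xe2 ye37 ze28) (ke xe2 ye38 ze56) (ke xe10 ye34 ze1) (ke xe8 ye53 ze53) (ke xe10 ye34 ze6) (ke xe10 ye34 ze7) (ke xe2 ye37 ze30)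 (ke xe10 ye34 ze13) (ke xe2 ye38 ze44) (ke xe10 ye30 ze36) (ke xe10 ye34 ze19) (ke xe10 ye34 ze21)) (@D3.rec (fun _ => Pt) (ke xe2 ye37 ze32) (ke xe10 ye34 ze28) (ke xe10 ye34 ze29) (ke xe2 ye37 ze33) (ke xe10 ye34 ze37) (ke xe6 ye13 ze27) (ke xe2 ye39 ze7) (ke xe10 ye34 ze45) (ke xe10 ye34 ze47) (ke xe10 ye34 ze49) (ke xe10 ye34 ze51) (ke xe10 ye34 ze53) (ke xe2 ye37 ze35) (ke xe10 ye34 ze57) (ke xe2 ye37 ze36) (ke xe2 ye37 ze38) (ke xe2 ye37 ze39) (ke xe2 ye37 ze40) (ke xe10 ye35 ze2) (ke xe10 ye35 ze7) (ke xe10 ye35 ze8) (ke xe2 ye37 ze41) (ke xe10 ye33 ze10) (ke xe10 ye35 ze12) (ke xe2 ye37 ze44) (ke xe5 ye23 ze38) (ke xe10 ye35 ze17) (ke xe2 ye37 ze46) (ke xe10 ye35 ze20) (ke xe2 ye37 ze47) (ke xe2 ye38 ze16) (ke xe5 ye15 ze14) (ke xe10 ye35 ze23) (ke xe2 ye37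 ze49) (ke xe10 ye35 ze28) (ke xe2 ye37 ze50) (ke xe10 ye35 ze34) (ke xe2 ye37 ze51) (ke xe10 ye0 ze46) (ke xe10 ye35 ze39) (ke xe2 ye37 ze54) (ke xe10 ye31 ze13) (ke xe5 ye23 ze39) (ke xe8 ye7 ze53) (ke xe10 ye35 ze42) (ke xe10 ye35 ze50) (ke xe9 ye55 ze58) (ke xe2 ye37 ze56) (ke xe5 ye25 ze48) (ke xe10 ye33 ze17) (ke xe10 ye28 ze43) (ke xe10 ye36 ze0) (ke xe10 ye36 ze1) (ke xe2 ye37 ze58) (ke xe10 ye36 ze9) (ke xe10 ye36 ze10) (ke xe2 ye37 ze60) (ke xe10 ye36 ze17) (ke xe10 ye36 ze18) (ke xe10 ye36 ze19) (ke xe2 ye37 ze61) (ke xe10 ye36 ze24)) (@D3.rec (fun _ => Pt) (ke xe10 ye36 ze28) (ke xe10 ye36 ze30) (ke xe10 ye36 ze33) (ke xe2 ye38 ze0) (ke xe10 ye36 ze39) (ke xe10 ye36 ze41) (ke xe2 ye38 ze1) (ke xe7 ye45 ze60) (ke xe10 ye36 ze51) (ke xe10 ye36 ze44) (ke xe10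 ye31 ze23) (ke xe10 ye33 ze32) (ke xe10 ye36 ze60) (ke xe10 ye37 ze0) (ke xe2 ye38 ze4) (ke xe10 ye37 ze2) (ke xe2 ye42 ze10) (ke xe2 ye38 ze8) (ke xe6 ye5 ze1) (ke xe5 ye30 ze50) (ke xe10 ye37 ze12) (ke xe10 ye37 ze6) (ke xe10 ye37 ze19) (ke xe2 ye38 ze9) (ke xe10 ye37 ze21) (ke xe2 ye38 ze10) (ke xe2 ye38 ze13) (ke xe10 ye37 ze27) (ke xe10 ye37 ze28) (ke xe2 ye38 ze14) (ke xe10 ye15 ze48) (ke xe2 ye38 ze17) (ke xe10 ye30 ze55) (ke xe10 ye37 ze38) (ke xe2 ye38 ze19) (ke xe10 ye37 ze43) (ke xe5 ye12 ze34) (ke xe2 ye38 ze22) (ke xe5 ye22 ze25) (ke xe5 ye22 ze42) (ke xe7 ye46 ze24) (ke xe10 ye37 ze54) (ke xe10 ye37 ze56) (ke xe10 ye37 ze60) (ke xe2 ye38 ze24) (ke xe2 ye38 ze25) (ke xe10 ye38 ze10) (ke xe10 ye9 ze46) (ke xe10 ye38 ze5) (ke xe10 ye31 ze8) (ke xe10 ye38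 ze20) (ke xe2 ye38 ze27) (ke xe10 ye9 ze44) (ke xe8 ye23 ze49) (ke xe8 ye33 ze49) (ke xe2 ye38 ze31) (ke xe8 ye33 ze0) (ke xe10 ye38 ze32) (ke xe10 ye38 ze35) (ke xe10 ye38 ze27) (ke xe10 ye38 ze41) (ke xe2 ye38 ze32)) (@D3.rec (fun _ => Pt) (ke xe10 ye38 ze47) (ke xe10 ye38 ze48) (ke xe2 ye38 ze33) (ke xe10 ye38 ze54) (ke xe10 ye38 ze56) (ke xe5 ye6 ze3) (ke xe10 ye31 ze43) (ke xe10 ye38 ze61) (ke xe2 ye38 ze36) (ke xe10 ye33 ze47) (ke xe10 ye39 ze6) (ke xe10 ye33 ze49) (ke xe10 ye39 ze10) (ke xe10 ye39 ze14) (ke xe2 ye38 ze38) (ke xe10 ye39 ze20) (ke xe10 ye39 ze22) (ke xe2 ye38 ze39) (ke xe10 ye34 ze9) (ke xe10 ye39 ze29) (ke xe10 ye39 ze25) (ke xe10 ye31 ze52) (ke xe2 ye38 ze42) (ke xe10 ye34 ze14) (ke xe8 ye54 ze30) (ke xe10 ye39 ze36) (ke xe5 ye18 ze58) (ke xe2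 ye38 ze45) (ke xe5 ye6 ze4) (ke xe2 ye38 ze48) (ke xe3 ye52 ze8) (ke xe10 ye39 ze44) (ke xe2 ye38 ze49) (ke xe10 ye39 ze49) (ke xe8 ye39 ze33) (ke xe10 ye31 ze28) (ke xe10 ye34 ze2) (ke xe10 ye39 ze54) (ke xe3 ye47 ze56) (ke xe3 ye52 ze9) (ke xe2 ye38 ze52) (ke xe10 ye40 ze3) (ke xe10 ye33 ze56) (ke xe10 ye31 ze39) (ke xe10 ye40 ze8) (ke xe2 ye38 ze55) (ke xe10 ye33 ze60) (ke xe2 ye40 ze52) (ke xe10 ye40 ze13) (ke xe6 ye4 ze23) (ke xe6 ye4 ze55) (ke xe10 ye40 ze22) (ke xe10 ye34 ze16) (ke xe10 ye40 ze28) (ke xe10 ye40 ze32) (ke xe10 ye40 ze36) (ke xe2 ye38 ze59) (ke xe10 ye40 ze39) (ke xe2 ye38 ze60) (ke xe10 ye40 ze41) (ke xe10 ye40 ze43) (ke xe2 ye38 ze61)) (@D3.rec (fun _ => Pt) (ke xe7 ye53 ze32) (ke xe10 ye34 ze24) (ke xe10 ye40 ze51) (ke xe7 ye53 ze39) (ke xe10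 ye40 ze57) (ke xe10 ye40 ze61) (ke xe2 ye39 ze1) (ke xe2 ye39 ze2) (ke xe2 ye39 ze3) (ke xe10 ye41 ze7) (ke xe9 ye3 ze11) (ke xe10 ye41 ze10) (ke xe10 ye41 ze13) (ke xe10 ye41 ze17) (ke xe10 ye41 ze22) (ke xe10 ye41 ze26) (ke xe2 ye39 ze5) (ke xe10 ye41 ze31) (ke xe10 ye41 ze35) (ke xe10 ye41 ze37) (ke xe10 ye41 ze39) (ke xe2 ye39 ze6) (ke xe10 ye41 ze46) (ke xe10 ye41 ze49) (ke xe10 ye41 ze52) (ke xe10 ye41 ze56) (ke xe2 ye39 ze8) (ke xe10 ye41 ze61) (ke xe2 ye39 ze9) (ke xe10 ye42 ze5) (ke xe2 ye39 ze10) (ke xe10 ye42 ze11) (ke xe2 ye39 ze11) (ke xe10 ye42 ze17) (ke xe2 ye39 ze12) (ke xe10 ye42 ze22) (ke xe10 ye21 ze43) (ke xe10 ye42 ze26) (ke xe2 ye39 ze14) (ke xe10 ye42 ze33) (ke xe10 ye42 ze37) (ke xe10 ye42 ze29) (ke xe10 ye42 ze43) (ke xe10 ye42 ze46) (ke xe10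 ye16 ze46) (ke xe2 ye39 ze16) (ke xe10 ye42 ze51) (ke xe10 ye42 ze52) (ke xe5 ye22 ze48) (ke xe2 ye39 ze17) (ke xe10 ye42 ze56) (ke xe2 ye39 ze18) (ke xe4 ye46 ze22) (ke xe10 ye42 ze60) (ke xe8 ye56 ze40) (ke xe10 ye43 ze3) (ke xe10 ye21 ze58) (ke xe2 ye39 ze20) (ke xe2 ye40 ze21) (ke xe10 ye43 ze12) (ke xe6 ye5 ze52) (ke xe8 ye22 ze29)) (@D3.rec (fun _ => Pt) (ke xe10 ye43 ze19) (ke xe8 ye56 ze56) (ke xe10 ye43 ze24) (ke xe5 ye50 ze30) (ke xe2 ye39 ze24) (ke xe2 ye39 ze28) (ke xe8 ye18 ze57) (ke xe10 ye43 ze33) (ke xe10 ye43 ze36) (ke xe10 ye43 ze39) (ke xe8 ye19 ze49) (ke xe2 ye39 ze31) (ke xe8 ye55 ze46) (ke xe6 ye5 ze35) (ke xe10 ye43 ze47) (ke xe10 ye43 ze49) (ke xe6 ye50 ze22) (ke xe3 ye55 ze48) (ke xe2 ye39 ze33) (ke xe5 ye36 ze25) (ke xe6 ye49 ze36) (ke xe4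 ye35 ze2) (ke xe8 ye21 ze51) (ke xe10 ye43 ze58) (ke xe10 ye44 ze0) (ke xe10 ye44 ze2) (ke xe2 ye39 ze38) (ke xe8 ye57 ze46) (ke xe10 ye44 ze11) (ke xe6 ye6 ze23) (ke xe10 ye44 ze13) (ke xe2 ye41 ze61) (ke xe10 ye44 ze17) (ke xe6 ye1 ze56) (ke xe2 ye39 ze40) (ke xe2 ye42 ze34) (ke xe10 ye44 ze24) (ke xe9 ye46 ze36) (ke xe2 ye42 ze38) (ke xe2 ye42 ze39) (ke xe6 ye6 ze14) (ke xe10 ye44 ze31) (ke xe2 ye39 ze44) (ke xe9 ye6 ze58) (ke xe10 ye44 ze38) (ke xe2 ye39 ze46) (ke xe10 ye44 ze44) (ke xe8 ye6 ze11) (ke xe6 ye6 ze3) (ke xe2 ye42 ze27) (ke xe10 ye44 ze48) (ke xe9 ye6 ze55) (ke xe2 ye51 ze18) (ke xe2 ye39 ze50) (ke xe10 ye44 ze51) (ke xe10 ye44 ze53) (ke xe10 ye44 ze57) (ke xe2 ye39 ze53) (ke xe2 ye39 ze54) (ke xe10 ye44 ze61) (ke xe2 ye42 ze51) (ke xe10 ye45 ze4))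 (@D3.rec (fun _ => Pt) (ke xe5 ye53 ze9) (ke xe5 ye53 ze12) (ke xe2 ye55 ze14) (ke xe10 ye45 ze10) (ke xe10 ye45 ze12) (ke xe10 ye45 ze17) (ke xe10 ye45 ze23) (ke xe10 ye45 ze26) (ke xe2 ye39 ze58) (ke xe4 ye36 ze22) (ke xe4 ye35 ze59) (ke xe10 ye45 ze33) (ke xe4 ye35 ze52) (ke xe2 ye39 ze59) (ke xe10 ye45 ze36) (ke xe9 ye13 ze27) (ke xe5 ye54 ze43) (ke xe10 ye45 ze42) (ke xe2 ye39 ze61) (ke xe2 ye40 ze0) (ke xe9 ye11 ze35) (ke xe5 ye56 ze49) (ke xe10 ye45 ze52) (ke xe6 ye8 ze25) (ke xe6 ye8 ze24) (ke xe2 ye40 ze4) (ke xe10 ye45 ze59) (ke xe10 ye45 ze60) (ke xe2 ye40 ze5) (ke xe10 ye46 ze4) (ke xe3 ye48 ze55) (ke xe10 ye46 ze9) (ke xe2 ye40 ze7) (ke xe8 ye28 ze43) (ke xe10 ye46 ze14) (ke xe8 ye30 ze57) (ke xe10 ye46 ze16) (ke xe10 ye46 ze21) (ke xe10 ye46 ze22) (ke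 xe2 ye40 ze11) (ke xe10 ye46 ze29) (ke xe10 ye3 ze50) (ke xe6 ye5 ze51) (ke xe10 ye46 ze33) (ke xe2 ye40 ze13) (ke xe10 ye46 ze40) (ke xe10 ye46 ze41) (ke xe2 ye40 ze14) (ke xe8 ye28 ze45) (ke xe8 ye18 ze29) (ke xe10 ye46 ze50) (ke xe10 ye46 ze51) (ke xe2 ye40 ze16) (ke xe10 ye46 ze58) (ke xe10 ye46 ze59) (ke xe2 ye40 ze17) (ke xe10 ye47 ze3) (ke xe10 ye47 ze6) (ke xe10 ye47 ze8) (ke xe10 ye47 ze12) (ke xe2 ye40 ze18) (ke xe2 ye40 ze19)) (@D3.rec (fun _ => Pt) (ke xe10 ye43 ze5) (ke xe10 ye47 ze23) (ke xe10 ye47 ze17) (ke xe6 ye33 ze30) (ke xe5 ye5 ze1) (ke xe10 ye43 ze9) (ke xe10 ye47 ze29) (ke xe10 ye47 ze31) (ke xe10 ye47 ze34) (ke xe8 ye15 ze14) (ke xe2 ye40 ze22) (ke xe8 ye18 ze52) (ke xe10 ye47 ze38) (ke xe2 ye40 ze25) (ke xe4 ye13 ze13) (ke xe2 ye40 ze26) (ke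 xe4 ye13 ze14) (ke xe2 ye40 ze27) (ke xe5 ye30 ze13) (ke xe10 ye47 ze43) (ke xe10 ye47 ze48) (ke xe10 ye47 ze49) (ke xe2 ye40 ze30) (ke xe10 ye47 ze57) (ke xe10 ye3 ze30) (ke xe6 ye4 ze53) (ke xe9 ye1 ze8) (ke xe2 ye54 ze50) (ke xe10 ye48 ze2) (ke xe10 ye48 ze4) (ke xe2 ye40 ze32) (ke xe2 ye40 ze33) (ke xe9 ye9 ze17) (ke xe5 ye45 ze18) (ke xe10 ye48 ze10) (ke xe6 ye5 ze58) (ke xe5 ye35 ze6) (ke xe5 ye35 ze10) (ke xe9 ye0 ze22) (ke xe6 ye16 ze26) (ke xe10 ye48 ze26) (ke xe10 ye48 ze27) (ke xe10 ye48 ze29) (ke xe2 ye40 ze38) (ke xe2 ye40 ze39) (ke xe2 ye54 ze58) (ke xe10 ye48 ze33) (ke xe10 ye48 ze40) (ke xe4 ye34 ze61) (ke xe10 ye48 ze45) (ke xe10 ye48 ze49) (ke xe10 ye48 ze51) (ke xe2 ye40 ze41) (ke xe2 ye40 ze42) (ke xe10 ye48 ze57) (ke xe5 ye36 ze43) (ke xe2 ye50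 ze45) (ke xe2 ye41 ze35) (ke xe10 ye49 ze2) (ke xe10 ye49 ze5) (ke xe6 ye3 ze4) (ke xe2 ye40 ze44)) (@D3.rec (fun _ => Pt) (ke xe2 ye40 ze45) (ke xe10 ye49 ze8) (ke xe10 ye49 ze15) (ke xe10 ye49 ze20) (ke xe10 ye49 ze22) (ke xe2 ye40 ze47) (ke xe10 ye49 ze30) (ke xe10 ye49 ze33) (ke xe10 ye49 ze35) (ke xe2 ye40 ze48) (ke xe6 ye17 ze0) (ke xe2 ye40 ze49) (ke xe10 ye49 ze42) (ke xe10 ye49 ze45) (ke xe6 ye17 ze4) (ke xe10 ye43 ze27) (ke xe10 ye49 ze52) (ke xe10 ye40 ze11) (ke xe10 ye49 ze58) (ke xe2 ye40 ze55) (ke xe10 ye50 ze2) (ke xe10 ye50 ze4) (ke xe2 ye40 ze57) (ke xe4 ye22 ze20) (ke xe8 ye6 ze3) (ke xe10 ye50 ze11) (ke xe10 ye50 ze12) (ke xe2 ye40 ze59) (ke xe10 ye20 ze43) (ke xe8 ye6 ze7) (ke xe10 ye50 ze17) (ke xe10 ye50 ze20) (ke xe2 ye41 ze2) (ke xe8 ye31 ze3)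 (ke xe2 ye41 ze3) (ke xe10 ye50 ze24) (ke xe10 ye50 ze26) (ke xe2 ye41 ze4) (ke xe10 ye50 ze33) (ke xe2 ye41 ze5) (ke xe10 ye50 ze38) (ke xe4 ye51 ze0) (ke xe2 ye41 ze9) (ke xe8 ye42 ze38) (ke xe8 ye15 ze50) (ke xe10 ye50 ze47) (ke xe6 ye33 ze6) (ke xe2 ye41 ze11) (ke xe10 ye50 ze54) (ke xe8 ye17 ze30) (ke xe2 ye41 ze14) (ke xe10 ye20 ze41) (ke xe8 ye15 ze59) (ke xe10 ye51 ze2) (ke xe10 ye24 ze13) (ke xe10 ye51 ze3) (ke xe2 ye41 ze16) (ke xe10 ye51 ze9) (ke xe8 ye19 ze27) (ke xe2 ye41 ze17) (ke xe10 ye51 ze14) (ke xe10 ye51 ze17)) (@D3.rec (fun _ => Pt) (ke xe10 ye51 ze19) (ke xe10 ye51 ze23) (ke xe2 ye41 ze18) (ke xe10 ye51 ze29) (ke xe10 ye51 ze31) (ke xe2 ye41 ze19) (ke xe10 ye51 ze39) (ke xe6 ye5 ze29) (ke xe10 ye51 ze34) (ke xe8 ye56 ze2) (ke xe10 ye51 ze49) (ke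 xe2 ye41 ze21) (ke xe5 ye4 ze50) (ke xe5 ye28 ze18) (ke xe8 ye20 ze6) (ke xe8 ye33 ze25) (ke xe2 ye41 ze26) (ke xe4 ye9 ze10) (ke xe10 ye52 ze1) (ke xe10 ye51 ze59) (ke xe10 ye52 ze6) (ke xe10 ye52 ze10) (ke xe10 ye52 ze15) (ke xe10 ye52 ze17) (ke xe2 ye41 ze27) (ke xe10 ye52 ze23) (ke xe10 ye52 ze26) (ke xe10 ye52 ze28) (ke xe2 ye41 ze28) (ke xe10 ye52 ze33) (ke xe2 ye41 ze29) (ke xe10 ye52 ze39) (ke xe10 ye52 ze42) (ke xe10 ye52 ze45) (ke xe2 ye41 ze30) (ke xe10 ye52 ze50) (ke xe6 ye5 ze38) (ke xe10 ye49 ze0) (ke xe4 ye35 ze9) (ke xe10 ye52 ze58) (ke xe6 ye46 ze44) (ke xe9 ye46 ze51) (ke xe2 ye41 ze33) (ke xe6 ye5 ze36) (ke xe10 ye53 ze3) (ke xe10 ye49 ze1) (ke xe4 ye39 ze29) (ke xe10 ye53 ze8) (ke xe5 ye46 ze18) (ke xe2 ye41 ze37) (ke xe5 ye23 ze19) (ke xe3 ye20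 ze39) (ke xe10 ye53 ze19) (ke xe8 ye23 ze54) (ke xe8 ye32 ze55) (ke xe8 ye24 ze55) (ke xe6 ye20 ze58) (ke xe5 ye39 ze52) (ke xe2 ye41 ze45) (ke xe10 ye53 ze24) (ke xe10 ye53 ze29) (ke xe10 ye53 ze30)) (@D3.rec (fun _ => Pt) (ke xe2 ye41 ze46) (ke xe6 ye6 ze22) (ke xe10 ye53 ze38) (ke xe8 ye57 ze47) (ke xe10 ye53 ze42) (ke xe2 ye41 ze49) (ke xe10 ye53 ze46) (ke xe10 ye43 ze59) (ke xe10 ye53 ze49) (ke xe10 ye53 ze53) (ke xe2 ye41 ze50) (ke xe10 ye53 ze59) (ke xe10 ye53 ze61) (ke xe2 ye41 ze51) (ke xe10 ye54 ze6) (ke xe10 ye54 ze9) (ke xe10 ye54 ze2) (ke xe8 ye57 ze57) (ke xe8 ye7 ze41) (ke xe10 ye54 ze17) (ke xe8 ye57 ze13) (ke xe2 ye41 ze54) (ke xe10 ye54 ze22) (ke xe10 ye54 ze25) (ke xe5 ye18 ze19) (ke xe2 ye41 ze55) (ke xe5 ye5 ze38) (ke xe9 ye6 ze29) (ke xe10 ye54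 ze35) (ke xe10 ye54 ze37) (ke xe10 ye54 ze40) (ke xe2 ye41 ze58) (ke xe4 ye57 ze50) (ke xe10 ye54 ze48) (ke xe10 ye54 ze52) (ke xe2 ye41 ze60) (ke xe10 ye44 ze14) (ke xe10 ye44 ze15) (ke xe10 ye54 ze60) (ke xe2 ye42 ze0) (ke xe10 ye55 ze5) (ke xe10 ye55 ze8) (ke xe10 ye55 ze12) (ke xe2 ye42 ze1) (ke xe9 ye6 ze59) (ke xe10 ye55 ze19) (ke xe5 ye41 ze7) (ke xe6 ye30 ze22) (ke xe10 ye55 ze23) (ke xe2 ye42 ze3) (ke xe5 ye41 ze8) (ke xe2 ye42 ze4) (ke xe8 ye57 ze36) (ke xe5 ye49 ze32) (ke xe4 ye34 ze6) (ke xe2 ye45 ze4) (ke xe9 ye51 ze10) (ke xe2 ye42 ze7) (ke xe5 ye40 ze39) (ke xe10 ye55 ze37) (ke xe5 ye0 ze13) (ke xe10 ye37 ze3)) (@D3.rec (fun _ => Pt) (ke xe8 ye57 ze39) (ke xe4 ye38 ze26) (ke xe8 ye57 ze40) (ke xe10 ye55 ze45) (ke xe2 ye42 ze13) (ke xe5 ye11 ze52) (ke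 xe5 ye5 ze39) (ke xe10 ye55 ze54) (ke xe10 ye55 ze59) (ke xe10 ye55 ze60) (ke xe2 ye42 ze17) (ke xe10 ye51 ze56) (ke xe6 ye6 ze1) (ke xe8 ye6 ze13) (ke xe10 ye23 ze37) (ke xe10 ye56 ze11) (ke xe2 ye42 ze20) (ke xe10 ye44 ze32) (ke xe10 ye56 ze15) (ke xe10 ye56 ze17) (ke xe10 ye56 ze21) (ke xe2 ye42 ze21) (ke xe8 ye17 ze24) (ke xe10 ye56 ze28) (ke xe2 ye42 ze22) (ke xe10 ye56 ze36) (ke xe10 ye56 ze40) (ke xe10 ye56 ze31) (ke xe8 ye57 ze11) (ke xe10 ye56 ze48) (ke xe2 ye42 ze24) (ke xe10 ye33 ze42) (ke xe10 ye56 ze51) (ke xe2 ye42 ze25) (ke xe10 ye44 ze46) (ke xe9 ye31 ze6) (ke xe10 ye56 ze59) (ke xe10 ye56 ze61) (ke xe2 ye42 ze28) (ke xe10 ye57 ze3) (ke xe2 ye42 ze29) (ke xe10 ye57 ze8) (ke xe6 ye32 ze8) (ke xe10 ye57 ze14) (ke xe2 ye42 ze30) (ke xe10 ye57 ze19) (ke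 xe10 ye57 ze23) (ke xe8 ye57 ze31) (ke xe5 ye39 ze47) (ke xe2 ye42 ze33) (ke xe10 ye44 ze22) (ke xe10 ye57 ze29) (ke xe2 ye42 ze36) (ke xe10 ye44 ze26) (ke xe10 ye44 ze28) (ke xe10 ye57 ze34) (ke xe10 ye57 ze39) (ke xe10 ye57 ze41) (ke xe2 ye42 ze40) (ke xe6 ye45 ze54) (ke xe10 ye57 ze47) (ke xe10 ye57 ze50)) (@D3.rec (fun _ => Pt) (ke xe10 ye57 ze52) (ke xe2 ye42 ze42) (ke xe10 ye57 ze58) (ke xe10 ye44 ze55) (ke xe10 ye58 ze2) (ke xe2 ye42 ze43) (ke xe10 ye58 ze9) (ke xe10 ye58 ze11) (ke xe10 ye58 ze15) (ke xe2 ye42 ze44) (ke xe5 ye53 ze19) (ke xe10 ye58 ze23) (ke xe9 ye2 ze52) (ke xe5 ye57 ze21) (ke xe10 ye58 ze29) (ke xe2 ye42 ze46) (ke xe10 ye58 ze32) (ke xe2 ye42 ze47) (ke xe8 ye58 ze33) (ke xe9 ye13 ze60) (ke xe2 ye57 ze10) (ke xe5 ye37 ze24) (ke xe10 ye58 ze41)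 (ke xe8 ye58 ze28) (ke xe2 ye57 ze35) (ke xe4 ye49 ze9) (ke xe10 ye45 ze1) (ke xe10 ye58 ze52) (ke xe10 ye58 ze57) (ke xe10 ye58 ze60) (ke xe10 ye59 ze0) (ke xe2 ye42 ze52) (ke xe10 ye59 ze2) (ke xe9 ye30 ze23) (ke xe2 ye42 ze53) (ke xe10 ye45 ze6) (ke xe10 ye59 ze7) (ke xe2 ye42 ze54) (ke xe10 ye59 ze14) (ke xe10 ye59 ze17) (ke xe10 ye59 ze21) (ke xe2 ye42 ze55) (ke xe10 ye59 ze24) (ke xe10 ye59 ze27) (ke xe8 ye58 ze27) (ke xe2 ye42 ze59) (ke xe10 ye59 ze31) (ke xe10 ye59 ze34) (ke xe10 ye59 ze36) (ke xe2 ye42 ze60) (ke xe10 ye45 ze13) (ke xe10 ye59 ze41) (ke xe10 ye59 ze44) (ke xe10 ye59 ze47) (ke xe2 ye42 ze61) (ke xe10 ye59 ze53) (ke xe10 ye59 ze56) (ke xe10 ye45 ze20) (ke xe10 ye59 ze61) (ke xe11 ye0 ze4) (ke xe2 ye43 ze0) (ke xe11 ye0 ze10)) (@D3.rec (fun _ =>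 Pt) (ke xe11 ye0 ze12) (ke xe11 ye0 ze17) (ke xe2 ye43 ze1) (ke xe11 ye0 ze21) (ke xe9 ye44 ze45) (ke xe9 ye2 ze46) (ke xe10 ye57 ze27) (ke xe2 ye43 ze3) (ke xe4 ye49 ze29) (ke xe11 ye0 ze28) (ke xe11 ye0 ze31) (ke xe11 ye0 ze33) (ke xe2 ye43 ze4) (ke xe11 ye0 ze39) (ke xe11 ye0 ze41) (ke xe2 ye43 ze5) (ke xe11 ye0 ze47) (ke xe2 ye43 ze6) (ke xe10 ye45 ze27) (ke xe11 ye0 ze49) (ke xe10 ye55 ze43) (ke xe11 ye0 ze54) (ke xe2 ye43 ze8) (ke xe6 ye16 ze21) (ke xe6 ye16 ze25) (ke xe2 ye43 ze10) (ke xe11 ye1 ze1) (ke xe11 ye1 ze7) (ke xe8 ye56 ze53) (ke xe11 ye1 ze12) (ke xe2 ye43 ze11) (ke xe11 ye1 ze20) (ke xe11 ye1 ze22) (ke xe9 ye4 ze55) (ke xe11 ye1 ze26) (ke xe11 ye1 ze30) (ke xe9 ye4 ze54) (ke xe4 ye41 ze26) (ke xe5 ye49 ze43) (ke xe8 ye59 ze22) (ke xe11 ye1 ze42) (ke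 xe2 ye43 ze15) (ke xe6 ye2 ze3) (ke xe11 ye1 ze45) (ke xe2 ye45 ze44) (ke xe11 ye1 ze50) (ke xe11 ye1 ze52) (ke xe2 ye43 ze17) (ke xe11 ye1 ze59) (ke xe11 ye1 ze61) (ke xe2 ye43 ze18) (ke xe11 ye2 ze3) (ke xe11 ye2 ze4) (ke xe2 ye43 ze20) (ke xe11 ye2 ze8) (ke xe11 ye2 ze9) (ke xe2 ye43 ze21) (ke xe6 ye26 ze2) (ke xe7 ye20 ze1) (ke xe9 ye4 ze59) (ke xe11 ye2 ze16) (ke xe10 ye17 ze4)) (@D3.rec (fun _ => Pt) (ke xe2 ye43 ze23) (ke xe11 ye2 ze19) (ke xe2 ye43 ze24) (ke xe2 ye58 ze57) (ke xe5 ye38 ze32) (ke xe11 ye2 ze25) (ke xe5 ye28 ze36) (ke xe2 ye43 ze27) (ke xe11 ye2 ze28) (ke xe2 ye43 ze28) (ke xe5 ye28 ze37) (ke xe2 ye43 ze31) (ke xe11 ye2 ze34) (ke xe2 ye43 ze32) (ke xe11 ye2 ze38) (ke xe8 ye39 ze5) (ke xe2 ye43 ze33) (ke xe11 ye2 ze44) (ke xe3 ye55 ze19) (ke xe11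 ye2 ze49) (ke xe2 ye43 ze35) (ke xe8 ye37 ze45) (ke xe11 ye2 ze55) (ke xe8 ye10 ze4) (ke xe2 ye43 ze39) (ke xe11 ye3 ze1) (ke xe11 ye3 ze2) (ke xe2 ye43 ze40) (ke xe11 ye3 ze9) (ke xe9 ye57 ze21) (ke xe6 ye7 ze15) (ke xe11 ye3 ze12) (ke xe2 ye43 ze42) (ke xe11 ye3 ze19) (ke xe11 ye3 ze20) (ke xe2 ye43 ze43) (ke xe8 ye37 ze47) (ke xe9 ye0 ze40) (ke xe11 ye3 ze30) (ke xe11 ye3 ze31) (ke xe2 ye43 ze45) (ke xe11 ye3 ze38) (ke xe11 ye3 ze39) (ke xe2 ye43 ze46) (ke xe11 ye3 ze43) (ke xe11 ye3 ze46) (ke xe9 ye10 ze52) (ke xe11 ye3 ze49) (ke xe2 ye43 ze47) (ke xe11 ye3 ze54) (ke xe11 ye3 ze56) (ke xe11 ye3 ze58) (ke xe2 ye43 ze48) (ke xe11 ye4 ze2) (ke xe11 ye4 ze5) (ke xe11 ye3 ze61) (ke xe9 ye0 ze56) (ke xe11 ye4 ze11) (ke xe10 ye1 ze8) (ke xe2 ye43 ze50) (ke xe11 ye4 ze15)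 (ke xe11 ye4 ze18)) (@D3.rec (fun _ => Pt) (ke xe2 ye43 ze51) (ke xe11 ye4 ze23) (ke xe4 ye14 ze38) (ke xe2 ye43 ze61) (ke xe8 ye11 ze55) (ke xe11 ye4 ze30) (ke xe11 ye4 ze33) (ke xe2 ye43 ze56) (ke xe5 ye39 ze15) (ke xe2 ye43 ze57) (ke xe5 ye39 ze16) (ke xe11 ye4 ze39) (ke xe11 ye4 ze40) (ke xe11 ye4 ze41) (ke xe2 ye44 ze0) (ke xe11 ye4 ze49) (ke xe9 ye56 ze55) (ke xe6 ye7 ze22) (ke xe4 ye29 ze21) (ke xe2 ye52 ze35) (ke xe9 ye46 ze49) (ke xe2 ye44 ze2) (ke xe8 ye59 ze56) (ke xe5 ye38 ze30) (ke xe10 ye55 ze26) (ke xe5 ye26 ze19) (ke xe8 ye28 ze38) (ke xe2 ye44 ze4) (ke xe11 ye5 ze2) (ke xe2 ye44 ze7) (ke xe11 ye5 ze6) (ke xe11 ye5 ze11) (ke xe11 ye5 ze12) (ke xe2 ye44 ze8) (ke xe4 ye6 ze13) (ke xe9 ye42 ze45) (ke xe8 ye37 ze35) (ke xe5 ye38 ze23) (ke xe11 ye5 ze24)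 (ke xe11 ye5 ze25) (ke xe2 ye44 ze10) (ke xe2 ye52 ze41) (ke xe5 ye52 ze20) (ke xe5 ye28 ze55) (ke xe6 ye7 ze2) (ke xe11 ye5 ze37) (ke xe11 ye5 ze42) (ke xe11 ye5 ze44) (ke xe2 ye44 ze14) (ke xe11 ye5 ze49) (ke xe11 ye5 ze52) (ke xe11 ye5 ze54) (ke xe2 ye44 ze15) (ke xe11 ye5 ze58) (ke xe2 ye44 ze18) (ke xe7 ye58 ze9) (ke xe11 ye5 ze61) (ke xe11 ye6 ze2) (ke xe2 ye44 ze20) (ke xe5 ye10 ze24) (ke xe4 ye6 ze47) (ke xe11 ye6 ze7)) (@D3.rec (fun _ => Pt) (ke xe2 ye44 ze22) (ke xe7 ye58 ze49) (ke xe4 ye19 ze51) (ke xe4 ye55 ze14) (ke xe5 ye39 ze46) (ke xe4 ye13 ze28) (ke xe11 ye6 ze11) (ke xe5 ye5 ze13) (ke xe11 ye6 ze12) (ke xe11 ye6 ze13) (ke xe2 ye44 ze29) (ke xe4 ye39 ze43) (ke xe9 ye51 ze26) (ke xe11 ye6 ze19) (ke xe11 ye6 ze21) (ke xe2 ye44 ze33) (ke xe2 ye50 ze47)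 (ke xe5 ye42 ze6) (ke xe5 ye49 ze52) (ke xe2 ye44 ze35) (ke xe5 ye47 ze61) (ke xe11 ye6 ze29) (ke xe2 ye44 ze38) (ke xe11 ye6 ze35) (ke xe5 ye33 ze21) (ke xe5 ye42 ze11) (ke xe4 ye7 ze8) (ke xe4 ye7 ze9) (ke xe6 ye17 ze13) (ke xe2 ye44 ze41) (ke xe11 ye6 ze38) (ke xe7 ye28 ze43) (ke xe2 ye44 ze43) (ke xe3 ye59 ze57) (ke xe4 ye34 ze11) (ke xe5 ye40 ze40) (ke xe11 ye6 ze45) (ke xe2 ye44 ze45) (ke xe8 ye12 ze16) (ke xe8 ye4 ze61) (ke xe11 ye6 ze47) (ke xe11 ye6 ze48) (ke xe8 ye10 ze32) (ke xe11 ye6 ze52) (ke xe11 ye6 ze54) (ke xe11 ye6 ze57) (ke xe2 ye44 ze49) (ke xe11 ye7 ze0) (ke xe8 ye57 ze34) (ke xe5 ye40 ze45) (ke xe11 ye7 ze2) (ke xe11 ye7 ze4) (ke xe11 ye7 ze6) (ke xe2 ye44 ze51) (ke xe5 ye12 ze29) (ke xe11 ye7 ze7) (ke xe11 ye7 ze8) (ke xe2 ye44 ze52) (ke xe11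 ye7 ze13) (ke xe2 ye44 ze53) (ke xe11 ye7 ze16) (ke xe2 ye49 ze50)) (@D3.rec (fun _ => Pt) (ke xe11 ye7 ze18) (ke xe11 ye7 ze19) (ke xe11 ye7 ze22) (ke xe2 ye44 ze57) (ke xe8 ye49 ze29) (ke xe2 ye44 ze58) (ke xe2 ye50 ze7) (ke xe2 ye45 ze3) (ke xe11 ye7 ze32) (ke xe11 ye7 ze36) (ke xe2 ye44 ze60) (ke xe11 ye7 ze40) (ke xe11 ye7 ze43) (ke xe2 ye44 ze61) (ke xe11 ye7 ze46) (ke xe11 ye7 ze48) (ke xe11 ye7 ze52) (ke xe2 ye45 ze0) (ke xe11 ye7 ze57) (ke xe11 ye7 ze61) (ke xe5 ye49 ze54) (ke xe2 ye50 ze22) (ke xe2 ye50 ze23) (ke xe5 ye36 ze37) (ke xe11 ye7 ze29) (ke xe11 ye7 ze30) (ke xe10 ye53 ze0) (ke xe10 ye55 ze31) (ke xe11 ye8 ze15) (ke xe11 ye8 ze17) (ke xe5 ye36 ze23) (ke xe2 ye45 ze6) (ke xe5 ye35 ze4) (ke xe2 ye45 ze7) (ke xe4 ye7 ze10) (ke xe2 ye50 ze36) (ke xe11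 ye8 ze21) (ke xe9 ye44 ze36) (ke xe2 ye45 ze10) (ke xe4 ye55 ze57) (ke xe2 ye45 ze13) (ke xe2 ye50 ze56) (ke xe11 ye8 ze25) (ke xe4 ye39 ze45) (ke xe10 ye15 ze24) (ke xe2 ye45 ze16) (ke xe11 ye8 ze30) (ke xe2 ye45 ze18) (ke xe2 ye45 ze19) (ke xe9 ye18 ze17) (ke xe4 ye33 ze61) (ke xe2 ye45 ze21) (ke xe11 ye8 ze38) (ke xe2 ye45 ze23) (ke xe11 ye8 ze42) (ke xe2 ye45 ze24) (ke xe8 ye9 ze39) (ke xe2 ye45 ze26) (ke xe11 ye8 ze51) (ke xe2 ye45 ze27) (ke xe9 ye53 ze14) (ke xe8 ye9 ze44)) (@D3.rec (fun _ => Pt) (ke xe11 ye8 ze61) (ke xe2 ye45 ze29) (ke xe11 ye9 ze5) (ke xe2 ye45 ze30) (ke xe11 ye9 ze10) (ke xe11 ye9 ze12) (ke xe11 ye9 ze13) (ke xe2 ye45 ze31) (ke xe11 ye9 ze19) (ke xe6 ye6 ze58) (ke xe8 ye28 ze1) (ke xe8 ye9 ze50) (ke xe11 ye9 ze27) (ke xe11 ye9 ze30) (ke xe2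 ye45 ze33) (ke xe5 ye36 ze8) (ke xe5 ye36 ze10) (ke xe9 ye36 ze28) (ke xe8 ye24 ze50) (ke xe2 ye45 ze39) (ke xe4 ye19 ze45) (ke xe11 ye9 ze40) (ke xe11 ye9 ze47) (ke xe11 ye9 ze49) (ke xe11 ye9 ze54) (ke xe11 ye9 ze56) (ke xe2 ye45 ze40) (ke xe11 ye10 ze2) (ke xe11 ye10 ze4) (ke xe11 ye10 ze6) (ke xe2 ye45 ze41) (ke xe2 ye45 ze42) (ke xe11 ye10 ze17) (ke xe6 ye7 ze4) (ke xe11 ye1 ze44) (ke xe2 ye54 ze61) (ke xe9 ye31 ze28) (ke xe10 ye55 ze53) (ke xe2 ye57 ze53) (ke xe7 ye58 ze1) (ke xe11 ye10 ze29) (ke xe11 ye10 ze33) (ke xe2 ye45 ze46) (ke xe11 ye10 ze38) (ke xe11 ye10 ze41) (ke xe2 ye45 ze47) (ke xe5 ye37 ze4) (ke xe5 ye32 ze48) (ke xe9 ye37 ze30) (ke xe8 ye23 ze47) (ke xe4 ye6 ze57) (ke xe8 ye24 ze14) (ke xe5 ye30 ze57) (ke xe2 ye45 ze55) (ke xe8 ye22 ze25) (ke xe4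 ye10 ze56) (ke xe3 ye19 ze18) (ke xe4 ye7 ze6) (ke xe11 ye10 ze50) (ke xe11 ye10 ze52) (ke xe2 ye45 ze57) (ke xe11 ye10 ze55)) (@D3.rec (fun _ => Pt) (ke xe2 ye45 ze58) (ke xe11 ye10 ze57) (ke xe11 ye10 ze59) (ke xe2 ye45 ze59) (ke xe11 ye10 ze60) (ke xe11 ye11 ze0) (ke xe2 ye45 ze60) (ke xe11 ye11 ze2) (ke xe11 ye11 ze4) (ke xe11 ye11 ze5) (ke xe2 ye45 ze61) (ke xe11 ye11 ze12) (ke xe6 ye12 ze30) (ke xe9 ye0 ze21) (ke xe11 ye11 ze15) (ke xe2 ye46 ze1) (ke xe2 ye46 ze2) (ke xe8 ye49 ze21) (ke xe11 ye11 ze17) (ke xe2 ye51 ze46) (ke xe11 ye11 ze19) (ke xe4 ye26 ze23) (ke xe2 ye46 ze9) (ke xe11 ye11 ze26) (ke xe11 ye11 ze30) (ke xe2 ye46 ze10) (ke xe11 ye11 ze34) (ke xe11 ye11 ze37) (ke xe2 ye46 ze11) (ke xe11 ye11 ze42) (ke xe11 ye11 ze45) (ke xe11 ye11 ze47) (ke xe2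 ye46 ze12) (ke xe9 ye9 ze35) (ke xe11 ye11 ze53) (ke xe9 ye1 ze50) (ke xe11 ye11 ze56) (ke xe2 ye46 ze14) (ke xe11 ye11 ze60) (ke xe5 ye31 ze58) (ke xe5 ye37 ze35) (ke xe11 ye12 ze0) (ke xe9 ye50 ze59) (ke xe2 ye46 ze16) (ke xe2 ye50 ze52) (ke xe5 ye37 ze49) (ke xe9 ye5 ze31) (ke xe11 ye12 ze8) (ke xe9 ye0 ze19) (ke xe2 ye46 ze19) (ke xe11 ye12 ze14) (ke xe10 ye48 ze21) (ke xe2 ye46 ze25) (ke xe11 ye12 ze20) (ke xe11 ye12 ze21) (ke xe11 ye12 ze23) (ke xe2 ye46 ze24) (ke xe11 ye12 ze27) (ke xe11 ye12 ze19) (ke xe2 ye46 ze26) (ke xe11 ye12 ze34) (ke xe2 ye46 ze30)) (@D3.rec (fun _ => Pt) (ke xe11 ye12 ze35) (ke xe2 ye46 ze32) (ke xe2 ye46 ze33) (ke xe9 ye44 ze11) (ke xe9 ye50 ze56) (ke xe2 ye46 ze35) (ke xe9 ye1 ze32) (ke xe5 ye31 ze46) (ke xe5 ye31 ze50) (ke xe9 ye50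 ze23) (ke xe6 ye3 ze5) (ke xe2 ye50 ze32) (ke xe5 ye46 ze15) (ke xe5 ye52 ze21) (ke xe11 ye12 ze42) (ke xe5 ye14 ze23) (ke xe5 ye14 ze24) (ke xe2 ye55 ze11) (ke xe11 ye12 ze52) (ke xe2 ye46 ze42) (ke xe7 ye59 ze10) (ke xe11 ye12 ze57) (ke xe2 ye46 ze43) (ke xe11 ye12 ze61) (ke xe2 ye46 ze44) (ke xe11 ye13 ze1) (ke xe2 ye53 ze11) (ke xe11 ye13 ze6) (ke xe11 ye13 ze8) (ke xe11 ye13 ze11) (ke xe2 ye46 ze48) (ke xe7 ye14 ze15) (ke xe11 ye13 ze14) (ke xe11 ye13 ze17) (ke xe2 ye46 ze50) (ke xe3 ye59 ze36) (ke xe11 ye13 ze24) (ke xe2 ye46 ze51) (ke xe2 ye53 ze27) (ke xe11 ye13 ze28) (ke xe11 ye13 ze31) (ke xe11 ye13 ze33) (ke xe11 ye13 ze37) (ke xe2 ye46 ze53) (ke xe5 ye56 ze61) (ke xe11 ye13 ze39) (ke xe7 ye14 ze5) (ke xe11 ye13 ze46) (ke xe2 ye46 ze55) (ke xe11 ye13 ze50)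 (ke xe11 ye13 ze53) (ke xe2 ye46 ze56) (ke xe11 ye13 ze59) (ke xe11 ye14 ze0) (ke xe11 ye14 ze4) (ke xe2 ye46 ze57) (ke xe4 ye26 ze18) (ke xe11 ye14 ze13) (ke xe2 ye46 ze60) (ke xe9 ye2 ze49) (ke xe9 ye8 ze18) (ke xe11 ye14 ze19)) (@D3.rec (fun _ => Pt) (ke xe11 ye14 ze15) (ke xe11 ye14 ze22) (ke xe11 ye14 ze23) (ke xe2 ye47 ze0) (ke xe11 ye14 ze28) (ke xe8 ye58 ze31) (ke xe5 ye37 ze17) (ke xe11 ye14 ze30) (ke xe11 ye14 ze32) (ke xe2 ye47 ze2) (ke xe3 ye5 ze31) (ke xe5 ye37 ze25) (ke xe3 ye5 ze32) (ke xe11 ye14 ze40) (ke xe11 ye14 ze45) (ke xe11 ye14 ze46) (ke xe2 ye47 ze5) (ke xe11 ye14 ze48) (ke xe11 ye14 ze50) (ke xe2 ye47 ze9) (ke xe11 ye14 ze54) (ke xe11 ye14 ze55) (ke xe2 ye47 ze8) (ke xe11 ye14 ze53) (ke xe11 ye15 ze1) (ke xe11 ye15 ze2) (ke xe2 ye47 ze10) (ke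 xe10 ye29 ze7) (ke xe11 ye15 ze11) (ke xe2 ye47 ze12) (ke xe11 ye15 ze12) (ke xe11 ye15 ze14) (ke xe11 ye15 ze17) (ke xe2 ye47 ze15) (ke xe7 ye7 ze37) (ke xe11 ye15 ze22) (ke xe2 ye47 ze17) (ke xe11 ye15 ze25) (ke xe2 ye54 ze20) (ke xe2 ye54 ze21) (ke xe11 ye15 ze31) (ke xe11 ye15 ze33) (ke xe11 ye15 ze36) (ke xe11 ye15 ze38) (ke xe11 ye15 ze43) (ke xe2 ye47 ze21) (ke xe8 ye12 ze1) (ke xe5 ye7 ze32) (ke xe11 ye15 ze52) (ke xe2 ye47 ze23) (ke xe9 ye17 ze6) (ke xe11 ye15 ze57) (ke xe2 ye47 ze24) (ke xe11 ye15 ze61) (ke xe11 ye16 ze2) (ke xe11 ye16 ze6) (ke xe2 ye47 ze25) (ke xe8 ye59 ze6) (ke xe9 ye13 ze53) (ke xe2 ye47 ze28) (ke xe9 ye2 ze12) (ke xe5 ye54 ze20)) (@D3.rec (fun _ => Pt) (ke xe2 ye48 ze35) (ke xe11 ye16 ze16) (ke xe8 ye58 ze26) (ke xe9 ye12 ze22) (ke xe11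 ye1 ze55) (ke xe2 ye47 ze33) (ke xe11 ye16 ze29) (ke xe11 ye16 ze28) (ke xe11 ye16 ze31) (ke xe2 ye47 ze34) (ke xe11 ye16 ze33) (ke xe2 ye47 ze35) (ke xe11 ye16 ze36) (ke xe11 ye16 ze39) (ke xe11 ye16 ze43) (ke xe2 ye47 ze38) (ke xe7 ye49 ze28) (ke xe2 ye47 ze39) (ke xe11 ye16 ze45) (ke xe2 ye55 ze15) (ke xe11 ye16 ze47) (ke xe8 ye50 ze6) (ke xe11 ye16 ze49) (ke xe3 ye54 ze16) (ke xe2 ye47 ze43) (ke xe11 ye16 ze54) (ke xe11 ye16 ze57) (ke xe2 ye47 ze45) (ke xe11 ye17 ze1) (ke xe11 ye17 ze4) (ke xe11 ye17 ze5) (ke xe11 ye17 ze8) (ke xe2 ye47 ze46) (ke xe11 ye17 ze13) (ke xe9 ye18 ze1) (ke xe11 ye16 ze22) (ke xe2 ye47 ze48) (ke xe11 ye17 ze16) (ke xe11 ye17 ze17) (ke xe11 ye17 ze18) (ke xe2 ye47 ze51) (ke xe11 ye17 ze22) (ke xe2 ye47 ze52) (ke xe2 ye53 ze45) (ke xe11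 ye17 ze25) (ke xe11 ye17 ze29) (ke xe2 ye47 ze54) (ke xe11 ye17 ze32) (ke xe11 ye17 ze38) (ke xe11 ye17 ze39) (ke xe2 ye47 ze56) (ke xe11 ye17 ze46) (ke xe2 ye47 ze59) (ke xe11 ye14 ze41) (ke xe11 ye17 ze51) (ke xe8 ye59 ze33) (ke xe11 ye17 ze48) (ke xe11 ye17 ze52) (ke xe11 ye17 ze53) (ke xe11 ye17 ze58) (ke xe2 ye47 ze61) (ke xe3 ye13 ze46)) (@D3.rec (fun _ => Pt) (ke xe11 ye18 ze0) (ke xe2 ye48 ze0) (ke xe11 ye18 ze3) (ke xe11 ye18 ze6) (ke xe11 ye18 ze11) (ke xe11 ye18 ze14) (ke xe2 ye48 ze1) (ke xe11 ye18 ze22) (ke xe11 ye18 ze25) (ke xe11 ye16 ze37) (ke xe11 ye18 ze26) (ke xe7 ye29 ze8) (ke xe2 ye48 ze3) (ke xe11 ye18 ze31) (ke xe11 ye18 ze33) (ke xe11 ye18 ze34) (ke xe7 ye49 ze50) (ke xe2 ye48 ze4) (ke xe11 ye18 ze43) (ke xe11 ye18 ze46) (ke xe9 ye7 ze5) (ke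 xe7 ye26 ze50) (ke xe7 ye26 ze44) (ke xe9 ye9 ze39) (ke xe11 ye18 ze54) (ke xe2 ye48 ze7) (ke xe11 ye18 ze59) (ke xe6 ye7 ze50) (ke xe11 ye17 ze61) (ke xe11 ye19 ze4) (ke xe11 ye19 ze5) (ke xe7 ye20 ze42) (ke xe2 ye48 ze9) (ke xe11 ye19 ze12) (ke xe11 ye19 ze13) (ke xe11 ye19 ze14) (ke xe2 ye48 ze10) (ke xe11 ye19 ze20) (ke xe11 ye16 ze20) (ke xe11 ye19 ze23) (ke xe11 ye19 ze26) (ke xe2 ye48 ze11) (ke xe11 ye19 ze32) (ke xe11 ye19 ze33) (ke xe11 ye19 ze35) (ke xe2 ye48 ze12) (ke xe6 ye18 ze56) (ke xe11 ye19 ze42) (ke xe11 ye19 ze46) (ke xe11 ye19 ze37) (ke xe11 ye19 ze51) (ke xe2 ye48 ze14) (ke xe11 ye19 ze59) (ke xe11 ye20 ze1) (ke xe11 ye20 ze4) (ke xe2 ye48 ze15) (ke xe11 ye20 ze12) (ke xe11 ye20 ze15) (ke xe9 ye17 ze4) (ke xe2 ye48 ze16) (ke xe2 ye48 ze17) (ke xe11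 ye20 ze23)) (@D3.rec (fun _ => Pt) (ke xe11 ye20 ze27) (ke xe2 ye48 ze20) (ke xe5 ye7 ze36) (ke xe11 ye20 ze33) (ke xe11 ye18 ze29) (ke xe11 ye20 ze37) (ke xe11 ye20 ze30) (ke xe11 ye20 ze44) (ke xe2 ye48 ze21) (ke xe11 ye20 ze48) (ke xe11 ye20 ze50) (ke xe11 ye20 ze54) (ke xe2 ye48 ze22) (ke xe11 ye21 ze0) (ke xe11 ye21 ze4) (ke xe4 ye56 ze44) (ke xe6 ye17 ze14) (ke xe11 ye21 ze8) (ke xe5 ye28 ze33) (ke xe2 ye48 ze24) (ke xe5 ye57 ze28) (ke xe2 ye48 ze25) (ke xe11 ye21 ze13) (ke xe2 ye48 ze28) (ke xe11 ye21 ze17) (ke xe11 ye21 ze19) (ke xe11 ye21 ze23) (ke xe2 ye48 ze29) (ke xe11 ye21 ze29) (ke xe11 ye21 ze31) (ke xe4 ye5 ze43) (ke xe9 ye4 ze33) (ke xe11 ye21 ze34) (ke xe6 ye8 ze11) (ke xe2 ye48 ze31) (ke xe8 ye59 ze34) (ke xe5 ye49 ze48) (ke xe11 ye16 ze18) (ke xe2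 ye48 ze36) (ke xe11 ye16 ze26) (ke xe11 ye1 ze48) (ke xe8 ye59 ze32) (ke xe8 ye59 ze29) (ke xe11 ye21 ze55) (ke xe7 ye19 ze61) (ke xe2 ye48 ze38) (ke xe6 ye2 ze1) (ke xe4 ye35 ze44) (ke xe8 ye59 ze46) (ke xe11 ye13 ze2) (ke xe10 ye6 ze56) (ke xe11 ye22 ze7) (ke xe9 ye15 ze40) (ke xe2 ye48 ze42) (ke xe4 ye56 ze26) (ke xe11 ye22 ze16) (ke xe10 ye7 ze12) (ke xe2 ye48 ze43) (ke xe6 ye2 ze9) (ke xe2 ye48 ze44) (ke xe11 ye2 ze0) (ke xe9 ye13 ze35)) (@D3.rec (fun _ => Pt) (ke xe6 ye26 ze59) (ke xe11 ye15 ze18) (ke xe11 ye22 ze24) (ke xe11 ye22 ze28) (ke xe3 ye2 ze34) (ke xe2 ye48 ze46) (ke xe6 ye26 ze35) (ke xe11 ye21 ze10) (ke xe3 ye2 ze35) (ke xe9 ye5 ze6) (ke xe11 ye22 ze40) (ke xe11 ye22 ze42) (ke xe11 ye22 ze46) (ke xe2 ye48 ze51) (ke xe11 ye22 ze48) (ke xe5 ye41 ze12)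 (ke xe9 ye1 ze2) (ke xe2 ye48 ze52) (ke xe5 ye30 ze48) (ke xe11 ye22 ze55) (ke xe2 ye48 ze54) (ke xe11 ye22 ze58) (ke xe8 ye45 ze24) (ke xe2 ye48 ze56) (ke xe11 ye23 ze3) (ke xe2 ye48 ze57) (ke xe11 ye23 ze4) (ke xe2 ye48 ze58) (ke xe11 ye23 ze10) (ke xe5 ye5 ze12) (ke xe11 ye23 ze7) (ke xe4 ye13 ze32) (ke xe11 ye23 ze16) (ke xe11 ye23 ze19) (ke xe2 ye49 ze1) (ke xe4 ye39 ze40) (ke xe11 ye23 ze25) (ke xe2 ye48 ze61) (ke xe5 ye5 ze9) (ke xe11 ye23 ze29) (ke xe11 ye23 ze31) (ke xe11 ye23 ze34) (ke xe11 ye23 ze22) (ke xe11 ye23 ze40) (ke xe11 ye23 ze42) (ke xe5 ye5 ze5) (ke xe11 ye23 ze45) (ke xe11 ye23 ze46) (ke xe11 ye23 ze47) (ke xe2 ye49 ze8) (ke xe6 ye11 ze61) (ke xe2 ye49 ze11) (ke xe4 ye4 ze52) (ke xe11 ye23 ze56) (ke xe11 ye23 ze58) (ke xe2 ye49 ze13) (ke xe11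 ye24 ze0) (ke xe2 ye49 ze14) (ke xe6 ye12 ze16) (ke xe11 ye24 ze8) (ke xe2 ye49 ze16) (ke xe9 ye48 ze52)) (@D3.rec (fun _ => Pt) (ke xe11 ye24 ze13) (ke xe2 ye49 ze22) (ke xe11 ye24 ze16) (ke xe11 ye24 ze18) (ke xe2 ye49 ze24) (ke xe11 ye24 ze26) (ke xe11 ye24 ze30) (ke xe2 ye49 ze28) (ke xe5 ye51 ze38) (ke xe2 ye49 ze26) (ke xe11 ye24 ze34) (ke xe11 ye24 ze35) (ke xe2 ye49 ze31) (ke xe11 ye10 ze54) (ke xe11 ye24 ze36) (ke xe11 ye24 ze40) (ke xe2 ye49 ze32) (ke xe8 ye0 ze29) (ke xe11 ye24 ze42) (ke xe11 ye24 ze43) (ke xe11 ye24 ze45) (ke xe2 ye49 ze38) (ke xe4 ye0 ze36) (ke xe9 ye45 ze56) (ke xe11 ye22 ze9) (ke xe2 ye49 ze41) (ke xe11 ye24 ze53) (ke xe2 ye49 ze42) (ke xe11 ye24 ze54) (ke xe11 ye24 ze49) (ke xe2 ye49 ze43) (ke xe11 ye24 ze57) (ke xe5 ye52 ze42) (ke xe2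 ye49 ze44) (ke xe11 ye25 ze2) (ke xe11 ye25 ze6) (ke xe5 ye51 ze48) (ke xe6 ye12 ze44) (ke xe5 ye50 ze17) (ke xe8 ye11 ze61) (ke xe10 ye4 ze59) (ke xe2 ye49 ze47) (ke xe11 ye25 ze10) (ke xe2 ye49 ze49) (ke xe11 ye25 ze13) (ke xe11 ye25 ze14) (ke xe2 ye49 ze51) (ke xe2 ye49 ze53) (ke xe2 ye49 ze55) (ke xe11 ye25 ze23) (ke xe5 ye51 ze13) (ke xe2 ye49 ze57) (ke xe11 ye25 ze25) (ke xe2 ye49 ze58) (ke xe2 ye49 ze59) (ke xe11 ye25 ze27) (ke xe2 ye49 ze60) (ke xe6 ye15 ze29) (ke xe11 ye8 ze5) (ke xe11 ye25 ze30) (ke xe2 ye50 ze0) (ke xe5 ye37 ze20)) (@D3.rec (fun _ => Pt) (ke xe11 ye25 ze35) (ke xe2 ye50 ze2) (ke xe11 ye25 ze43) (ke xe2 ye50 ze4) (ke xe5 ye51 ze19) (ke xe11 ye25 ze44) (ke xe11 ye25 ze49) (ke xe2 ye50 ze5) (ke xe9 ye24 ze29) (ke xe6 ye47 ze32) (ke xe2 ye50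 ze8) (ke xe9 ye5 ze52) (ke xe11 ye7 ze28) (ke xe4 ye57 ze47) (ke xe11 ye26 ze0) (ke xe2 ye50 ze9) (ke xe2 ye50 ze11) (ke xe2 ye50 ze12) (ke xe11 ye26 ze6) (ke xe2 ye50 ze14) (ke xe2 ye50 ze15) (ke xe2 ye50 ze16) (ke xe9 ye22 ze43) (ke xe9 ye27 ze41) (ke xe11 ye26 ze9) (ke xe9 ye5 ze59) (ke xe7 ye43 ze9) (ke xe11 ye26 ze24) (ke xe11 ye26 ze28) (ke xe2 ye50 ze18) (ke xe11 ye26 ze30) (ke xe11 ye26 ze33) (ke xe11 ye26 ze35) (ke xe2 ye50 ze19) (ke xe11 ye26 ze40) (ke xe7 ye58 ze60) (ke xe2 ye50 ze26) (ke xe11 ye25 ze59) (ke xe11 ye8 ze0) (ke xe11 ye8 ze1) (ke xe11 ye19 ze21) (ke xe11 ye0 ze58) (ke xe11 ye26 ze51) (ke xe11 ye26 ze53) (ke xe2 ye50 ze24) (ke xe11 ye26 ze56) (ke xe11 ye26 ze59) (ke xe2 ye50 ze25) (ke xe11 ye27 ze2) (ke xe3 ye16 ze38) (ke xe9 ye5 ze12) (ke xe11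 ye22 ze12) (ke xe4 ye56 ze21) (ke xe6 ye22 ze1) (ke xe10 ye18 ze3) (ke xe5 ye7 ze20) (ke xe11 ye27 ze15) (ke xe2 ye50 ze29) (ke xe2 ye50 ze30) (ke xe11 ye27 ze19) (ke xe11 ye12 ze47) (ke xe5 ye52 ze51)) (@D3.rec (fun _ => Pt) (ke xe4 ye29 ze59) (ke xe2 ye50 ze34) (ke xe11 ye27 ze26) (ke xe8 ye56 ze17) (ke xe11 ye27 ze28) (ke xe11 ye27 ze30) (ke xe8 ye56 ze20) (ke xe2 ye50 ze38) (ke xe3 ye4 ze55) (ke xe11 ye27 ze32) (ke xe11 ye1 ze5) (ke xe2 ye50 ze40) (ke xe2 ye50 ze41) (ke xe11 ye27 ze35) (ke xe11 ye27 ze36) (ke xe9 ye4 ze0) (ke xe2 ye50 ze42) (ke xe4 ye7 ze11) (ke xe6 ye15 ze22) (ke xe10 ye48 ze60) (ke xe10 ye48 ze61) (ke xe11 ye27 ze44) (ke xe11 ye27 ze45) (ke xe2 ye50 ze46) (ke xe11 ye6 ze25) (ke xe10 ye48 ze58) (ke xe4 ye39 ze11) (ke xe11 ye27 ze48) (ke xe11 ye27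 ze49) (ke xe2 ye50 ze49) (ke xe4 ye39 ze2) (ke xe9 ye44 ze8) (ke xe5 ye31 ze53) (ke xe11 ye12 ze4) (ke xe8 ye0 ze54) (ke xe2 ye50 ze54) (ke xe10 ye48 ze56) (ke xe9 ye44 ze10) (ke xe3 ye10 ze10) (ke xe11 ye27 ze61) (ke xe2 ye50 ze57) (ke xe11 ye28 ze2) (ke xe11 ye28 ze5) (ke xe5 ye34 ze38) (ke xe11 ye28 ze10) (ke xe2 ye50 ze60) (ke xe3 ye0 ze32) (ke xe11 ye28 ze13) (ke xe5 ye45 ze36) (ke xe2 ye51 ze0) (ke xe11 ye28 ze15) (ke xe2 ye51 ze1) (ke xe5 ye37 ze18) (ke xe11 ye28 ze18) (ke xe5 ye38 ze20) (ke xe11 ye28 ze22) (ke xe9 ye13 ze9) (ke xe2 ye51 ze5) (ke xe10 ye49 ze3) (ke xe11 ye28 ze24) (ke xe6 ye15 ze45) (ke xe2 ye51 ze8)) (@D3.rec (fun _ => Pt) (ke xe8 ye12 ze2) (ke xe6 ye2 ze59) (ke xe5 ye52 ze10) (ke xe11 ye28 ze30) (ke xe11 ye28 ze32) (ke xe2 ye51 ze12) (ke xe11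 ye28 ze38) (ke xe2 ye51 ze13) (ke xe6 ye21 ze41) (ke xe5 ye52 ze14) (ke xe2 ye51 ze15) (ke xe11 ye28 ze43) (ke xe2 ye51 ze16) (ke xe10 ye2 ze42) (ke xe2 ye51 ze19) (ke xe2 ye59 ze54) (ke xe10 ye18 ze14) (ke xe5 ye47 ze38) (ke xe11 ye27 ze57) (ke xe9 ye5 ze32) (ke xe11 ye28 ze48) (ke xe10 ye17 ze22) (ke xe5 ye52 ze0) (ke xe2 ye51 ze22) (ke xe7 ye43 ze14) (ke xe4 ye40 ze4) (ke xe2 ye51 ze23) (ke xe6 ye26 ze33) (ke xe11 ye28 ze54) (ke xe10 ye18 ze8) (ke xe5 ye26 ze3) (ke xe2 ye51 ze25) (ke xe11 ye28 ze61) (ke xe4 ye41 ze13) (ke xe11 ye29 ze1) (ke xe3 ye23 ze29) (ke xe2 ye51 ze28) (ke xe8 ye12 ze4) (ke xe2 ye51 ze29) (ke xe3 ye23 ze28) (ke xe11 ye29 ze6) (ke xe2 ye51 ze31) (ke xe11 ye29 ze9) (ke xe2 ye51 ze32) (ke xe2 ye51 ze33) (ke xe5 ye8 ze15) (ke xe6 ye6 ze55) (ke xe9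 ye6 ze11) (ke xe7 ye17 ze19) (ke xe11 ye29 ze12) (ke xe11 ye29 ze14) (ke xe11 ye29 ze15) (ke xe2 ye51 ze37) (ke xe11 ye29 ze21) (ke xe2 ye51 ze38) (ke xe11 ye29 ze23) (ke xe6 ye8 ze23) (ke xe2 ye51 ze40) (ke xe8 ye49 ze4) (ke xe8 ye14 ze33) (ke xe2 ye51 ze43) (ke xe10 ye45 ze18)) (@D3.rec (fun _ => Pt) (ke xe8 ye14 ze34) (ke xe11 ye29 ze36) (ke xe2 ye51 ze47) (ke xe9 ye16 ze11) (ke xe11 ye29 ze39) (ke xe8 ye14 ze37) (ke xe9 ye6 ze20) (ke xe11 ye29 ze42) (ke xe2 ye51 ze50) (ke xe11 ye29 ze46) (ke xe2 ye51 ze51) (ke xe4 ye6 ze2) (ke xe11 ye29 ze55) (ke xe5 ye47 ze50) (ke xe9 ye56 ze8) (ke xe2 ye51 ze53) (ke xe11 ye29 ze60) (ke xe2 ye51 ze54) (ke xe11 ye30 ze5) (ke xe5 ye48 ze4) (ke xe11 ye30 ze6) (ke xe2 ye51 ze56) (ke xe2 ye51 ze57) (ke xe11 ye30 ze11) (ke xe2 ye51 ze58)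 (ke xe11 ye30 ze17) (ke xe11 ye30 ze19) (ke xe11 ye30 ze22) (ke xe2 ye51 ze59) (ke xe11 ye30 ze27) (ke xe11 ye30 ze29) (ke xe11 ye8 ze31) (ke xe2 ye51 ze60) (ke xe11 ye30 ze31) (ke xe11 ye30 ze32) (ke xe2 ye52 ze0) (ke xe10 ye0 ze11) (ke xe11 ye30 ze39) (ke xe5 ye47 ze8) (ke xe9 ye6 ze7) (ke xe10 ye18 ze27) (ke xe2 ye52 ze3) (ke xe5 ye13 ze57) (ke xe2 ye52 ze5) (ke xe7 ye27 ze23) (ke xe11 ye30 ze46) (ke xe11 ye30 ze49) (ke xe3 ye4 ze49) (ke xe5 ye47 ze36) (ke xe3 ye4 ze51) (ke xe11 ye12 ze25) (ke xe11 ye30 ze57) (ke xe2 ye52 ze10) (ke xe11 ye6 ze43) (ke xe5 ye14 ze19) (ke xe2 ye52 ze11) (ke xe6 ye30 ze24) (ke xe6 ye27 ze2) (ke xe6 ye30 ze20) (ke xe11 ye31 ze0) (ke xe2 ye52 ze13) (ke xe2 ye52 ze14)) (@D3.rec (fun _ => Pt) (ke xe5 ye50 ze22) (ke xe11 ye31 ze4) (ke xe2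 ye52 ze18) (ke xe8 ye14 ze41) (ke xe10 ye48 ze37) (ke xe9 ye6 ze12) (ke xe2 ye52 ze20) (ke xe10 ye45 ze39) (ke xe2 ye52 ze21) (ke xe11 ye31 ze14) (ke xe5 ye50 ze2) (ke xe2 ye52 ze23) (ke xe6 ye8 ze28) (ke xe8 ye14 ze43) (ke xe5 ye50 ze9) (ke xe11 ye31 ze19) (ke xe2 ye52 ze26) (ke xe8 ye14 ze59) (ke xe2 ye52 ze28) (ke xe8 ye14 ze61) (ke xe5 ye36 ze42) (ke xe5 ye41 ze13) (ke xe3 ye25 ze33) (ke xe11 ye31 ze23) (ke xe6 ye8 ze30) (ke xe4 ye56 ze16) (ke xe2 ye52 ze30) (ke xe11 ye31 ze26) (ke xe8 ye56 ze10) (ke xe9 ye51 ze13) (ke xe2 ye52 ze31) (ke xe11 ye31 ze33) (ke xe3 ye21 ze28) (ke xe2 ye52 ze36) (ke xe9 ye14 ze41) (ke xe11 ye31 ze40) (ke xe11 ye31 ze42) (ke xe2 ye52 ze34) (ke xe11 ye4 ze54) (ke xe10 ye55 ze42) (ke xe11 ye10 ze26) (ke xe10 ye55 ze52) (ke xe5 ye47 ze32)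 (ke xe11 ye31 ze49) (ke xe11 ye31 ze51) (ke xe2 ye52 ze37) (ke xe3 ye2 ze52) (ke xe6 ye30 ze25) (ke xe11 ye31 ze57) (ke xe2 ye52 ze39) (ke xe8 ye57 ze37) (ke xe5 ye48 ze61) (ke xe11 ye5 ze30) (ke xe2 ye58 ze54) (ke xe2 ye52 ze43) (ke xe5 ye13 ze53) (ke xe11 ye32 ze3) (ke xe6 ye6 ze26) (ke xe11 ye32 ze7) (ke xe11 ye32 ze9) (ke xe10 ye54 ze61) (ke xe6 ye6 ze18)) (@D3.rec (fun _ => Pt) (ke xe8 ye57 ze28) (ke xe9 ye20 ze17) (ke xe11 ye32 ze15) (ke xe2 ye52 ze48) (ke xe11 ye32 ze17) (ke xe11 ye32 ze19) (ke xe2 ye52 ze50) (ke xe4 ye28 ze49) (ke xe11 ye32 ze24) (ke xe5 ye27 ze0) (ke xe11 ye32 ze27) (ke xe11 ye17 ze60) (ke xe5 ye27 ze1) (ke xe11 ye32 ze32) (ke xe2 ye52 ze57) (ke xe11 ye32 ze35) (ke xe11 ye32 ze38) (ke xe11 ye32 ze40) (ke xe2 ye52 ze60) (ke xe5 ye33 ze10) (ke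 xe11 ye32 ze49) (ke xe2 ye52 ze61) (ke xe8 ye14 ze24) (ke xe11 ye32 ze53) (ke xe4 ye30 ze3) (ke xe2 ye53 ze2) (ke xe11 ye32 ze55) (ke xe11 ye32 ze57) (ke xe2 ye53 ze4) (ke xe11 ye32 ze60) (ke xe11 ye33 ze0) (ke xe11 ye33 ze2) (ke xe2 ye53 ze5) (ke xe11 ye33 ze5) (ke xe4 ye59 ze58) (ke xe2 ye53 ze7) (ke xe2 ye53 ze10) (ke xe5 ye7 ze18) (ke xe11 ye33 ze14) (ke xe11 ye33 ze16) (ke xe11 ye33 ze12) (ke xe11 ye33 ze20) (ke xe11 ye33 ze23) (ke xe2 ye53 ze12) (ke xe11 ye33 ze24) (ke xe2 ye53 ze13) (ke xe4 ye34 ze1) (ke xe11 ye33 ze29) (ke xe2 ye53 ze14) (ke xe11 ye33 ze32) (ke xe2 ye53 ze16) (ke xe11 ye33 ze35) (ke xe2 ye53 ze17) (ke xe5 ye7 ze15) (ke xe11 ye33 ze38) (ke xe9 ye8 ze13) (ke xe2 ye53 ze22) (ke xe3 ye46 ze22) (ke xe11 ye33 ze44) (ke xe7 ye59 ze60) (ke xe11 ye33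 ze47) (ke xe11 ye13 ze55)) (@D3.rec (fun _ => Pt) (ke xe11 ye33 ze50) (ke xe4 ye44 ze46) (ke xe11 ye33 ze53) (ke xe11 ye33 ze54) (ke xe11 ye33 ze57) (ke xe2 ye53 ze25) (ke xe11 ye33 ze59) (ke xe6 ye59 ze53) (ke xe2 ye53 ze28) (ke xe11 ye34 ze6) (ke xe2 ye53 ze29) (ke xe11 ye34 ze12) (ke xe2 ye53 ze30) (ke xe11 ye34 ze15) (ke xe11 ye34 ze16) (ke xe2 ye53 ze31) (ke xe11 ye34 ze24) (ke xe11 ye34 ze28) (ke xe2 ye53 ze35) (ke xe9 ye8 ze31) (ke xe5 ye42 ze61) (ke xe11 ye34 ze36) (ke xe2 ye53 ze33) (ke xe11 ye34 ze38) (ke xe11 ye34 ze41) (ke xe11 ye34 ze31) (ke xe11 ye34 ze47) (ke xe4 ye58 ze16) (ke xe2 ye53 ze37) (ke xe11 ye34 ze50) (ke xe4 ye42 ze50) (ke xe6 ye15 ze50) (ke xe3 ye0 ze19) (ke xe2 ye53 ze39) (ke xe2 ye59 ze3) (ke xe11 ye34 ze54) (ke xe2 ye53 ze40) (ke xe11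 ye34 ze48) (ke xe4 ye42 ze55) (ke xe6 ye16 ze7) (ke xe11 ye35 ze1) (ke xe11 ye35 ze2) (ke xe2 ye53 ze42) (ke xe5 ye27 ze16) (ke xe11 ye35 ze4) (ke xe2 ye53 ze43) (ke xe6 ye59 ze49) (ke xe11 ye35 ze7) (ke xe2 ye53 ze54) (ke xe11 ye35 ze9) (ke xe6 ye13 ze20) (ke xe11 ye35 ze12) (ke xe2 ye53 ze46) (ke xe11 ye35 ze14) (ke xe11 ye35 ze16) (ke xe2 ye53 ze47) (ke xe11 ye35 ze18) (ke xe2 ye53 ze50) (ke xe6 ye51 ze7) (ke xe8 ye25 ze51) (ke xe11 ye35 ze24) (ke xe11 ye35 ze26)) (@D3.rec (fun _ => Pt) (ke xe2 ye53 ze51) (ke xe11 ye35 ze29) (ke xe11 ye35 ze34) (ke xe2 ye53 ze52) (ke xe11 ye35 ze38) (ke xe2 ye53 ze53) (ke xe11 ye35 ze42) (ke xe11 ye35 ze8) (ke xe11 ye35 ze50) (ke xe11 ye35 ze52) (ke xe2 ye53 ze55) (ke xe11 ye35 ze56) (ke xe11 ye35 ze57) (ke xe2 ye53 ze56) (ke xe2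 ye53 ze57) (ke xe6 ye45 ze29) (ke xe2 ye55 ze59) (ke xe2 ye53 ze59) (ke xe2 ye53 ze60) (ke xe6 ye2 ze41) (ke xe11 ye28 ze36) (ke xe2 ye54 ze0) (ke xe2 ye54 ze1) (ke xe2 ye54 ze3) (ke xe11 ye36 ze9) (ke xe11 ye36 ze12) (ke xe11 ye36 ze6) (ke xe11 ye36 ze14) (ke xe11 ye36 ze15) (ke xe11 ye36 ze17) (ke xe2 ye54 ze5) (ke xe11 ye36 ze19) (ke xe11 ye36 ze22) (ke xe2 ye54 ze6) (ke xe11 ye36 ze26) (ke xe11 ye36 ze27) (ke xe9 ye47 ze50) (ke xe2 ye54 ze7) (ke xe2 ye54 ze9) (ke xe11 ye36 ze31) (ke xe2 ye54 ze10) (ke xe11 ye36 ze34) (ke xe11 ye36 ze38) (ke xe11 ye36 ze39) (ke xe2 ye54 ze12) (ke xe2 ye54 ze14) (ke xe11 ye36 ze43) (ke xe11 ye36 ze45) (ke xe2 ye54 ze15) (ke xe8 ye43 ze40) (ke xe11 ye36 ze48) (ke xe11 ye36 ze55) (ke xe9 ye7 ze58) (ke xe2 ye54 ze17) (ke xe11 ye36 ze59)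 (ke xe11 ye22 ze29) (ke xe2 ye54 ze19) (ke xe9 ye7 ze19) (ke xe10 ye53 ze15) (ke xe8 ye56 ze6) (ke xe11 ye37 ze2) (ke xe11 ye37 ze11)) (@D3.rec (fun _ => Pt) (ke xe11 ye37 ze12) (ke xe11 ye37 ze15) (ke xe2 ye54 ze22) (ke xe11 ye14 ze5) (ke xe11 ye37 ze21) (ke xe2 ye54 ze24) (ke xe11 ye37 ze24) (ke xe10 ye16 ze41) (ke xe10 ye16 ze44) (ke xe11 ye37 ze33) (ke xe11 ye37 ze35) (ke xe2 ye54 ze27) (ke xe8 ye11 ze12) (ke xe11 ye37 ze41) (ke xe11 ye37 ze44) (ke xe11 ye37 ze45) (ke xe2 ye54 ze28) (ke xe11 ye37 ze53) (ke xe11 ye37 ze56) (ke xe2 ye54 ze32) (ke xe8 ye46 ze48) (ke xe4 ye25 ze46) (ke xe11 ye38 ze2) (ke xe4 ye31 ze57) (ke xe11 ye38 ze5) (ke xe11 ye38 ze9) (ke xe11 ye38 ze12) (ke xe11 ye37 ze59) (ke xe11 ye38 ze18) (ke xe7 ye2 ze8) (ke xe11 ye38 ze19) (ke xe2 ye54 ze34)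 (ke xe11 ye22 ze23) (ke xe6 ye25 ze11) (ke xe2 ye54 ze36) (ke xe11 ye38 ze29) (ke xe11 ye38 ze30) (ke xe2 ye54 ze37) (ke xe11 ye38 ze37) (ke xe4 ye41 ze23) (ke xe6 ye25 ze20) (ke xe11 ye38 ze41) (ke xe2 ye54 ze39) (ke xe2 ye54 ze40) (ke xe11 ye37 ze20) (ke xe9 ye7 ze48) (ke xe11 ye38 ze49) (ke xe11 ye38 ze53) (ke xe3 ye12 ze3) (ke xe5 ye27 ze21) (ke xe11 ye38 ze58) (ke xe4 ye30 ze25) (ke xe2 ye54 ze43) (ke xe11 ye39 ze3) (ke xe11 ye39 ze6) (ke xe11 ye39 ze8) (ke xe2 ye54 ze44) (ke xe11 ye39 ze10) (ke xe10 ye3 ze52) (ke xe2 ye54 ze51) (ke xe11 ye39 ze17) (ke xe5 ye41 ze44)) (@D3.rec (fun _ => Pt) (ke xe11 ye39 ze20) (ke xe11 ye39 ze23) (ke xe2 ye54 ze48) (ke xe11 ye39 ze30) (ke xe4 ye31 ze15) (ke xe2 ye54 ze49) (ke xe10 ye47 ze61) (ke xe10 ye48 ze0) (ke xe4 ye34 ze15)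 (ke xe11 ye39 ze38) (ke xe10 ye47 ze45) (ke xe11 ye39 ze44) (ke xe11 ye39 ze46) (ke xe2 ye54 ze52) (ke xe2 ye55 ze36) (ke xe11 ye39 ze51) (ke xe11 ye39 ze53) (ke xe2 ye54 ze53) (ke xe3 ye21 ze2) (ke xe6 ye3 ze3) (ke xe11 ye39 ze59) (ke xe5 ye33 ze13) (ke xe2 ye54 ze55) (ke xe10 ye48 ze34) (ke xe4 ye6 ze46) (ke xe2 ye54 ze60) (ke xe11 ye10 ze13) (ke xe11 ye9 ze16) (ke xe5 ye45 ze20) (ke xe8 ye21 ze47) (ke xe9 ye30 ze35) (ke xe2 ye55 ze2) (ke xe6 ye28 ze53) (ke xe11 ye40 ze9) (ke xe3 ye46 ze35) (ke xe6 ye53 ze11) (ke xe2 ye55 ze7) (ke xe2 ye55 ze8) (ke xe11 ye40 ze17) (ke xe11 ye40 ze18) (ke xe2 ye55 ze9) (ke xe6 ye0 ze21) (ke xe5 ye14 ze27) (ke xe2 ye55 ze12) (ke xe5 ye58 ze56) (ke xe11 ye40 ze24) (ke xe11 ye40 ze25) (ke xe3 ye43 ze16) (ke xe11 ye40 ze26) (ke xe9 ye59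 ze6) (ke xe6 ye56 ze40) (ke xe11 ye40 ze30) (ke xe2 ye55 ze16) (ke xe2 ye55 ze17) (ke xe11 ye40 ze32) (ke xe11 ye40 ze35) (ke xe2 ye55 ze19) (ke xe11 ye36 ze4) (ke xe2 ye55 ze20) (ke xe9 ye13 ze36) (ke xe10 ye18 ze31) (ke xe2 ye55 ze24)) (@D3.rec (fun _ => Pt) (ke xe11 ye40 ze46) (ke xe2 ye55 ze22) (ke xe5 ye14 ze16) (ke xe7 ye27 ze10) (ke xe11 ye40 ze50) (ke xe11 ye40 ze51) (ke xe2 ye55 ze26) (ke xe9 ye31 ze4) (ke xe11 ye39 ze54) (ke xe3 ye0 ze13) (ke xe9 ye17 ze7) (ke xe11 ye41 ze2) (ke xe11 ye41 ze3) (ke xe2 ye55 ze28) (ke xe11 ye41 ze6) (ke xe2 ye55 ze29) (ke xe11 ye41 ze12) (ke xe11 ye41 ze15) (ke xe7 ye39 ze34) (ke xe11 ye41 ze18) (ke xe2 ye55 ze30) (ke xe11 ye41 ze20) (ke xe11 ye41 ze22) (ke xe11 ye41 ze23) (ke xe2 ye55 ze31) (ke xe11 ye41 ze25) (ke xe2 ye55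 ze33) (ke xe2 ye55 ze34) (ke xe2 ye55 ze42) (ke xe2 ye55 ze38) (ke xe6 ye30 ze17) (ke xe2 ye55 ze39) (ke xe3 ye43 ze13) (ke xe6 ye31 ze33) (ke xe2 ye55 ze41) (ke xe11 ye41 ze30) (ke xe2 ye55 ze43) (ke xe2 ye55 ze44) (ke xe11 ye41 ze40) (ke xe11 ye41 ze46) (ke xe11 ye41 ze47) (ke xe2 ye55 ze46) (ke xe11 ye41 ze54) (ke xe11 ye41 ze56) (ke xe2 ye55 ze49) (ke xe11 ye34 ze61) (ke xe11 ye41 ze61) (ke xe11 ye42 ze0) (ke xe10 ye48 ze22) (ke xe11 ye41 ze59) (ke xe11 ye42 ze4) (ke xe11 ye42 ze8) (ke xe2 ye55 ze51) (ke xe11 ye42 ze11) (ke xe11 ye42 ze14) (ke xe2 ye55 ze53) (ke xe5 ye57 ze44) (ke xe11 ye42 ze20) (ke xe11 ye42 ze17) (ke xe11 ye42 ze23) (ke xe11 ye42 ze24) (ke xe2 ye55 ze54)) (@D3.rec (fun _ => Pt) (ke xe2 ye55 ze55) (ke xe11 ye42 ze33) (ke xe11 ye42 ze36) (ke xe11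 ye42 ze29) (ke xe3 ye26 ze31) (ke xe11 ye42 ze43) (ke xe11 ye18 ze47) (ke xe2 ye55 ze57) (ke xe6 ye7 ze5) (ke xe2 ye56 ze0) (ke xe11 ye42 ze51) (ke xe11 ye42 ze54) (ke xe2 ye55 ze60) (ke xe8 ye9 ze47) (ke xe3 ye0 ze33) (ke xe11 ye43 ze1) (ke xe11 ye9 ze50) (ke xe11 ye42 ze48) (ke xe11 ye43 ze11) (ke xe11 ye43 ze13) (ke xe2 ye56 ze1) (ke xe11 ye43 ze16) (ke xe2 ye56 ze2) (ke xe2 ye56 ze3) (ke xe7 ye42 ze56) (ke xe11 ye43 ze23) (ke xe9 ye26 ze2) (ke xe11 ye43 ze33) (ke xe11 ye43 ze36) (ke xe9 ye18 ze0) (ke xe2 ye56 ze5) (ke xe11 ye43 ze40) (ke xe3 ye40 ze25) (ke xe11 ye14 ze33) (ke xe2 ye56 ze6) (ke xe2 ye56 ze8) (ke xe11 ye43 ze48) (ke xe11 ye43 ze49) (ke xe2 ye56 ze9) (ke xe11 ye43 ze54) (ke xe11 ye43 ze55) (ke xe6 ye8 ze33) (ke xe9 ye29 ze55) (ke xe8 ye12 ze10) (ke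 xe2 ye56 ze11) (ke xe2 ye56 ze12) (ke xe11 ye44 ze2) (ke xe11 ye44 ze4) (ke xe11 ye44 ze5) (ke xe11 ye44 ze6) (ke xe2 ye56 ze13) (ke xe11 ye44 ze12) (ke xe9 ye3 ze48) (ke xe2 ye56 ze14) (ke xe6 ye53 ze27) (ke xe11 ye44 ze15) (ke xe9 ye30 ze6) (ke xe7 ye30 ze41) (ke xe7 ye30 ze53) (ke xe11 ye44 ze27) (ke xe2 ye56 ze17) (ke xe11 ye17 ze45))
def f_e_6 : D2 → D3 → Pt := @D2.rec (fun _ => D3 → Pt) (@D3.rec (fun _ => Pt) (ke xe11 ye43 ze58) (ke xe11 ye44 ze31) (ke xe2 ye56 ze20) (ke xe11 ye44 ze37) (ke xe2 ye56 ze21) (ke xe11 ye44 ze41) (ke xe11 ye44 ze43) (ke xe9 ye30 ze15) (ke xe11 ye44 ze44) (ke xe11 ye44 ze46) (ke xe11 ye44 ze47) (ke xe2 ye56 ze23) (ke xe2 ye56 ze24) (ke xe11 ye44 ze58) (ke xe11 ye44 ze61) (ke xe11 ye44 ze53) (ke xe6 ye54 ze4) (ke xe11 ye45 ze4) (ke xe5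 ye4 ze35) (ke xe2 ye56 ze26) (ke xe7 ye42 ze54) (ke xe5 ye57 ze41) (ke xe2 ye56 ze27) (ke xe11 ye45 ze12) (ke xe11 ye45 ze13) (ke xe4 ye59 ze15) (ke xe11 ye43 ze45) (ke xe11 ye45 ze19) (ke xe6 ye39 ze47) (ke xe7 ye1 ze42) (ke xe6 ye39 ze41) (ke xe11 ye45 ze24) (ke xe2 ye56 ze31) (ke xe11 ye45 ze27) (ke xe2 ye56 ze32) (ke xe10 ye20 ze8) (ke xe9 ye25 ze53) (ke xe11 ye45 ze36) (ke xe11 ye45 ze37) (ke xe11 ye45 ze38) (ke xe11 ye45 ze39) (ke xe11 ye45 ze40) (ke xe2 ye56 ze34) (ke xe2 ye56 ze36) (ke xe11 ye45 ze47) (ke xe7 ye43 ze5) (ke xe2 ye56 ze39) (ke xe11 ye45 ze59) (ke xe2 ye56 ze40) (ke xe11 ye46 ze5) (ke xe11 ye46 ze8) (ke xe2 ye56 ze44) (ke xe9 ye26 ze12) (ke xe7 ye43 ze16) (ke xe11 ye46 ze19) (ke xe3 ye26 ze12) (ke xe3 ye23 ze42) (ke xe3 ye26 ze15) (ke xe11 ye46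 ze28) (ke xe11 ye46 ze32) (ke xe11 ye46 ze11) (ke xe11 ye46 ze38)) (@D3.rec (fun _ => Pt) (ke xe9 ye30 ze37) (ke xe7 ye27 ze2) (ke xe11 ye46 ze41) (ke xe3 ye13 ze61) (ke xe2 ye56 ze46) (ke xe9 ye30 ze41) (ke xe11 ye46 ze51) (ke xe11 ye46 ze55) (ke xe2 ye56 ze47) (ke xe11 ye46 ze59) (ke xe9 ye2 ze53) (ke xe11 ye47 ze4) (ke xe2 ye56 ze48) (ke xe6 ye32 ze35) (ke xe3 ye13 ze60) (ke xe6 ye31 ze6) (ke xe9 ye30 ze50) (ke xe11 ye47 ze9) (ke xe11 ye47 ze13) (ke xe11 ye47 ze17) (ke xe2 ye56 ze50) (ke xe3 ye46 ze39) (ke xe6 ye54 ze44) (ke xe11 ye47 ze25) (ke xe2 ye56 ze52) (ke xe11 ye43 ze38) (ke xe11 ye10 ze22) (ke xe11 ye47 ze29) (ke xe2 ye56 ze54) (ke xe11 ye47 ze35) (ke xe2 ye56 ze55) (ke xe11 ye47 ze41) (ke xe2 ye56 ze56) (ke xe11 ye47 ze45) (ke xe11 ye47 ze48) (ke xe2 ye56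 ze57) (ke xe11 ye47 ze54) (ke xe11 ye47 ze57) (ke xe8 ye16 ze12) (ke xe11 ye48 ze2) (ke xe2 ye57 ze42) (ke xe11 ye48 ze4) (ke xe2 ye57 ze0) (ke xe9 ye31 ze15) (ke xe3 ye5 ze14) (ke xe9 ye13 ze19) (ke xe11 ye48 ze9) (ke xe2 ye56 ze61) (ke xe9 ye11 ze10) (ke xe11 ye48 ze13) (ke xe11 ye48 ze15) (ke xe2 ye57 ze1) (ke xe9 ye13 ze20) (ke xe4 ye58 ze52) (ke xe11 ye48 ze24) (ke xe8 ye12 ze12) (ke xe5 ye26 ze33) (ke xe11 ye48 ze27) (ke xe2 ye57 ze3) (ke xe11 ye0 ze20) (ke xe3 ye5 ze25) (ke xe11 ye48 ze36)) (@D3.rec (fun _ => Pt) (ke xe9 ye18 ze12) (ke xe5 ye45 ze46) (ke xe11 ye48 ze41) (ke xe5 ye34 ze42) (ke xe3 ye59 ze14) (ke xe11 ye31 ze13) (ke xe2 ye57 ze8) (ke xe11 ye48 ze44) (ke xe10 ye58 ze18) (ke xe5 ye45 ze58) (ke xe2 ye57 ze11) (ke xe11 ye48 ze49) (ke xe11 ye48 ze50)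 (ke xe2 ye57 ze12) (ke xe9 ye31 ze37) (ke xe9 ye13 ze55) (ke xe9 ye12 ze52) (ke xe11 ye48 ze58) (ke xe2 ye57 ze14) (ke xe2 ye57 ze15) (ke xe11 ye48 ze61) (ke xe11 ye49 ze2) (ke xe2 ye57 ze16) (ke xe11 ye49 ze8) (ke xe11 ye49 ze10) (ke xe9 ye42 ze40) (ke xe9 ye12 ze61) (ke xe11 ye49 ze16) (ke xe6 ye6 ze46) (ke xe2 ye57 ze18) (ke xe7 ye44 ze28) (ke xe4 ye37 ze14) (ke xe2 ye57 ze19) (ke xe11 ye49 ze23) (ke xe6 ye11 ze55) (ke xe11 ye49 ze24) (ke xe4 ye35 ze29) (ke xe2 ye57 ze23) (ke xe6 ye7 ze11) (ke xe2 ye57 ze24) (ke xe11 ye49 ze30) (ke xe5 ye55 ze19) (ke xe2 ye57 ze26) (ke xe2 ye57 ze27) (ke xe10 ye4 ze5) (ke xe3 ye0 ze47) (ke xe3 ye10 ze22) (ke xe11 ye49 ze40) (ke xe11 ye49 ze41) (ke xe2 ye57 ze29) (ke xe9 ye31 ze11) (ke xe7 ye57 ze19) (ke xe2 ye57 ze31) (ke xe11 ye0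 ze24) (ke xe9 ye2 ze47) (ke xe6 ye15 ze19) (ke xe2 ye57 ze32) (ke xe9 ye13 ze18) (ke xe11 ye49 ze53) (ke xe5 ye50 ze1) (ke xe3 ye11 ze57) (ke xe8 ye25 ze32)) (@D3.rec (fun _ => Pt) (ke xe10 ye58 ze27) (ke xe10 ye58 ze45) (ke xe8 ye58 ze29) (ke xe5 ye57 ze19) (ke xe5 ye28 ze60) (ke xe5 ye41 ze10) (ke xe4 ye34 ze10) (ke xe8 ye12 ze14) (ke xe9 ye31 ze29) (ke xe9 ye12 ze47) (ke xe11 ye15 ze53) (ke xe9 ye31 ze32) (ke xe11 ye50 ze11) (ke xe11 ye15 ze24) (ke xe11 ye50 ze15) (ke xe11 ye50 ze20) (ke xe2 ye57 ze44) (ke xe11 ye50 ze23) (ke xe9 ye12 ze49) (ke xe11 ye50 ze21) (ke xe3 ye10 ze40) (ke xe11 ye50 ze29) (ke xe2 ye57 ze47) (ke xe2 ye57 ze49) (ke xe11 ye50 ze33) (ke xe11 ye5 ze35) (ke xe11 ye50 ze36) (ke xe11 ye50 ze38) (ke xe2 ye57 ze51) (ke xe2 ye57 ze52) (ke xe6 ye20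 ze49) (ke xe11 ye50 ze45) (ke xe2 ye57 ze54) (ke xe9 ye31 ze26) (ke xe11 ye22 ze44) (ke xe9 ye14 ze18) (ke xe11 ye50 ze47) (ke xe2 ye57 ze56) (ke xe11 ye50 ze51) (ke xe3 ye20 ze48) (ke xe9 ye14 ze9) (ke xe11 ye50 ze53) (ke xe2 ye57 ze58) (ke xe11 ye50 ze60) (ke xe2 ye57 ze59) (ke xe9 ye31 ze51) (ke xe11 ye2 ze10) (ke xe9 ye14 ze32) (ke xe11 ye51 ze10) (ke xe2 ye57 ze61) (ke xe11 ye51 ze12) (ke xe2 ye58 ze0) (ke xe11 ye51 ze17) (ke xe4 ye30 ze21) (ke xe9 ye14 ze25) (ke xe11 ye51 ze23) (ke xe2 ye58 ze2) (ke xe10 ye38 ze49) (ke xe2 ye58 ze3) (ke xe11 ye51 ze32) (ke xe11 ye51 ze35) (ke xe9 ye31 ze56)) (@D3.rec (fun _ => Pt) (ke xe11 ye51 ze40) (ke xe2 ye58 ze5) (ke xe11 ye51 ze45) (ke xe2 ye58 ze6) (ke xe11 ye51 ze51) (ke xe2 ye58 ze7) (ke xe9 ye32 ze23) (ke xe11 ye4 ze55)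 (ke xe9 ye14 ze46) (ke xe4 ye22 ze38) (ke xe4 ye31 ze13) (ke xe11 ye51 ze55) (ke xe2 ye58 ze13) (ke xe2 ye58 ze14) (ke xe2 ye58 ze15) (ke xe4 ye59 ze28) (ke xe11 ye52 ze0) (ke xe11 ye52 ze3) (ke xe5 ye21 ze13) (ke xe11 ye52 ze4) (ke xe11 ye52 ze5) (ke xe5 ye21 ze16) (ke xe11 ye52 ze11) (ke xe5 ye24 ze49) (ke xe11 ye52 ze17) (ke xe2 ye58 ze24) (ke xe11 ye52 ze21) (ke xe2 ye58 ze25) (ke xe11 ye52 ze26) (ke xe11 ye52 ze29) (ke xe4 ye27 ze38) (ke xe11 ye52 ze37) (ke xe11 ye52 ze38) (ke xe2 ye58 ze27) (ke xe11 ye52 ze41) (ke xe2 ye58 ze28) (ke xe11 ye52 ze45) (ke xe2 ye58 ze29) (ke xe11 ye52 ze49) (ke xe11 ye52 ze51) (ke xe11 ye52 ze54) (ke xe2 ye58 ze31) (ke xe4 ye27 ze55) (ke xe11 ye2 ze21) (ke xe11 ye52 ze19) (ke xe4 ye3 ze49) (ke xe11 ye8 ze43) (ke xe2 ye58 ze33) (ke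 xe11 ye53 ze0) (ke xe2 ye58 ze35) (ke xe11 ye53 ze4) (ke xe11 ye53 ze5) (ke xe2 ye58 ze37) (ke xe5 ye28 ze25) (ke xe4 ye3 ze19) (ke xe5 ye24 ze50) (ke xe11 ye53 ze11) (ke xe2 ye58 ze39) (ke xe11 ye53 ze16) (ke xe4 ye28 ze7) (ke xe2 ye58 ze40) (ke xe4 ye28 ze19)) (@D3.rec (fun _ => Pt) (ke xe11 ye53 ze25) (ke xe5 ye23 ze18) (ke xe2 ye58 ze42) (ke xe11 ye53 ze33) (ke xe11 ye53 ze34) (ke xe2 ye58 ze43) (ke xe11 ye53 ze40) (ke xe4 ye28 ze11) (ke xe11 ye52 ze23) (ke xe11 ye53 ze45) (ke xe11 ye53 ze47) (ke xe2 ye58 ze45) (ke xe11 ye53 ze55) (ke xe11 ye53 ze56) (ke xe2 ye58 ze46) (ke xe11 ye54 ze2) (ke xe11 ye54 ze5) (ke xe4 ye28 ze32) (ke xe11 ye54 ze10) (ke xe11 ye54 ze12) (ke xe11 ye54 ze14) (ke xe11 ye54 ze16) (ke xe11 ye54 ze18) (ke xe2 ye58 ze48) (ke xe11 ye54 ze22)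 (ke xe2 ye58 ze49) (ke xe11 ye54 ze28) (ke xe10 ye22 ze19) (ke xe11 ye54 ze32) (ke xe5 ye30 ze7) (ke xe11 ye32 ze0) (ke xe11 ye54 ze38) (ke xe2 ye58 ze51) (ke xe4 ye28 ze52) (ke xe11 ye2 ze26) (ke xe5 ye26 ze13) (ke xe5 ye30 ze43) (ke xe11 ye54 ze48) (ke xe5 ye30 ze36) (ke xe9 ye48 ze37) (ke xe6 ye21 ze38) (ke xe4 ye28 ze61) (ke xe11 ye54 ze56) (ke xe2 ye58 ze59) (ke xe11 ye54 ze58) (ke xe8 ye31 ze29) (ke xe4 ye45 ze48) (ke xe10 ye54 ze29) (ke xe11 ye55 ze4) (ke xe11 ye55 ze7) (ke xe2 ye59 ze0) (ke xe5 ye27 ze42) (ke xe5 ye25 ze60) (ke xe11 ye32 ze20) (ke xe11 ye55 ze15) (ke xe11 ye55 ze16) (ke xe2 ye59 ze2) (ke xe11 ye34 ze53) (ke xe5 ye28 ze35) (ke xe11 ye55 ze21) (ke xe11 ye55 ze24) (ke xe11 ye55 ze25)) (@D3.rec (fun _ => Pt) (ke xe2 ye59 ze7) (ke xe5 ye32 ze12)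 (ke xe11 ye55 ze35) (ke xe5 ye26 ze48) (ke xe11 ye55 ze38) (ke xe4 ye29 ze34) (ke xe11 ye55 ze41) (ke xe6 ye56 ze41) (ke xe2 ye59 ze9) (ke xe2 ye59 ze10) (ke xe4 ye29 ze61) (ke xe11 ye10 ze45) (ke xe11 ye55 ze45) (ke xe4 ye30 ze2) (ke xe5 ye26 ze40) (ke xe2 ye59 ze13) (ke xe4 ye13 ze52) (ke xe11 ye55 ze55) (ke xe5 ye52 ze61) (ke xe11 ye55 ze59) (ke xe2 ye59 ze15) (ke xe11 ye56 ze1) (ke xe5 ye31 ze1) (ke xe5 ye26 ze29) (ke xe4 ye29 ze56) (ke xe11 ye56 ze7) (ke xe5 ye52 ze57) (ke xe4 ye33 ze58) (ke xe2 ye59 ze19) (ke xe4 ye29 ze43) (ke xe6 ye42 ze37) (ke xe4 ye30 ze5) (ke xe11 ye42 ze57) (ke xe11 ye56 ze16) (ke xe11 ye40 ze11) (ke xe2 ye59 ze22) (ke xe2 ye59 ze23) (ke xe11 ye12 ze36) (ke xe4 ye30 ze12) (ke xe9 ye7 ze4) (ke xe11 ye56 ze24) (ke xe11 ye39 ze25) (ke xe11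 ye56 ze30) (ke xe2 ye59 ze27) (ke xe9 ye9 ze18) (ke xe11 ye56 ze34) (ke xe6 ye2 ze28) (ke xe6 ye50 ze4) (ke xe11 ye56 ze40) (ke xe2 ye59 ze30) (ke xe2 ye59 ze31) (ke xe9 ye7 ze17) (ke xe2 ye59 ze33) (ke xe9 ye10 ze24) (ke xe11 ye56 ze47) (ke xe5 ye50 ze46) (ke xe9 ye15 ze16) (ke xe11 ye56 ze49) (ke xe5 ye39 ze9) (ke xe11 ye56 ze55) (ke xe11 ye56 ze56) (ke xe2 ye59 ze36)) (@D3.rec (fun _ => Pt) (ke xe4 ye4 ze27) (ke xe11 ye57 ze3) (ke xe5 ye36 ze44) (ke xe11 ye57 ze5) (ke xe5 ye39 ze33) (ke xe5 ye59 ze8) (ke xe2 ye59 ze38) (ke xe4 ye30 ze59) (ke xe11 ye57 ze12) (ke xe2 ye59 ze41) (ke xe11 ye31 ze6) (ke xe6 ye2 ze38) (ke xe11 ye57 ze17) (ke xe11 ye57 ze18) (ke xe2 ye59 ze46) (ke xe5 ye35 ze30) (ke xe8 ye14 ze10) (ke xe11 ye57 ze23) (ke xe11 ye57 ze24) (ke xe2 ye59 ze48)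 (ke xe11 ye56 ze45) (ke xe4 ye36 ze33) (ke xe5 ye36 ze17) (ke xe10 ye49 ze9) (ke xe9 ye17 ze41) (ke xe5 ye14 ze30) (ke xe4 ye31 ze41) (ke xe4 ye31 ze42) (ke xe4 ye38 ze8) (ke xe2 ye59 ze56) (ke xe6 ye15 ze44) (ke xe11 ye57 ze37) (ke xe6 ye14 ze19) (ke xe11 ye57 ze38) (ke xe6 ye14 ze32) (ke xe11 ye57 ze41) (ke xe11 ye57 ze42) (ke xe11 ye57 ze43) (ke xe8 ye0 ze2) (ke xe2 ye59 ze60) (ke xe6 ye24 ze36) (ke xe11 ye57 ze47) (ke xe3 ye0 ze0) (ke xe11 ye46 ze46) (ke xe3 ye0 ze1) (ke xe11 ye57 ze53) (ke xe10 ye18 ze33) (ke xe9 ye13 ze61) (ke xe3 ye0 ze4) (ke xe3 ye10 ze21) (ke xe5 ye44 ze27) (ke xe6 ye31 ze5) (ke xe11 ye57 ze58) (ke xe3 ye0 ze9) (ke xe11 ye57 ze59) (ke xe3 ye0 ze10) (ke xe11 ye57 ze61) (ke xe3 ye0 ze11) (ke xe11 ye58 ze1) (ke xe4 ye31 ze0) (ke xe10 ye19 ze8)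 (ke xe11 ye58 ze3)) (@D3.rec (fun _ => Pt) (ke xe11 ye40 ze60) (ke xe3 ye0 ze14) (ke xe7 ye43 ze15) (ke xe11 ye24 ze59) (ke xe11 ye58 ze12) (ke xe3 ye0 ze15) (ke xe11 ye58 ze16) (ke xe10 ye18 ze47) (ke xe6 ye31 ze36) (ke xe11 ye58 ze18) (ke xe3 ye0 ze17) (ke xe5 ye45 ze33) (ke xe11 ye58 ze22) (ke xe4 ye7 ze5) (ke xe6 ye22 ze4) (ke xe11 ye58 ze24) (ke xe3 ye0 ze21) (ke xe11 ye58 ze26) (ke xe11 ye28 ze40) (ke xe6 ye51 ze2) (ke xe11 ye58 ze31) (ke xe9 ye15 ze31) (ke xe3 ye0 ze23) (ke xe5 ye50 ze56) (ke xe5 ye27 ze24) (ke xe5 ye27 ze23) (ke xe11 ye58 ze30) (ke xe3 ye0 ze25) (ke xe5 ye52 ze12) (ke xe3 ye0 ze27) (ke xe5 ye52 ze24) (ke xe11 ye55 ze19) (ke xe4 ye48 ze57) (ke xe5 ye59 ze41) (ke xe11 ye58 ze40) (ke xe3 ye0 ze36) (ke xe6 ye56 ze5) (ke xe11 ye58 ze45) (ke xe3 ye0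 ze38) (ke xe6 ye56 ze7) (ke xe11 ye58 ze54) (ke xe11 ye58 ze48) (ke xe9 ye16 ze39) (ke xe10 ye0 ze15) (ke xe7 ye53 ze20) (ke xe6 ye42 ze36) (ke xe3 ye0 ze40) (ke xe11 ye59 ze0) (ke xe11 ye59 ze3) (ke xe11 ye59 ze5) (ke xe3 ye0 ze41) (ke xe3 ye0 ze43) (ke xe3 ye42 ze61) (ke xe9 ye17 ze16) (ke xe3 ye2 ze36) (ke xe11 ye49 ze34) (ke xe3 ye0 ze46) (ke xe4 ye34 ze37) (ke xe11 ye59 ze9) (ke xe11 ye59 ze12) (ke xe3 ye0 ze49) (ke xe11 ye59 ze13)) (@D3.rec (fun _ => Pt) (ke xe3 ye0 ze50) (ke xe7 ye59 ze34) (ke xe3 ye0 ze52) (ke xe11 ye18 ze1) (ke xe3 ye0 ze53) (ke xe5 ye12 ze27) (ke xe11 ye59 ze18) (ke xe3 ye0 ze56) (ke xe9 ye17 ze29) (ke xe11 ye59 ze25) (ke xe3 ye0 ze58) (ke xe11 ye59 ze30) (ke xe11 ye59 ze33) (ke xe3 ye0 ze60) (ke xe4 ye25 ze10) (ke xe11 ye59 ze38) (ke xe11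 ye59 ze36) (ke xe11 ye59 ze40) (ke xe7 ye27 ze6) (ke xe6 ye42 ze1) (ke xe11 ye59 ze43) (ke xe3 ye1 ze7) (ke xe11 ye59 ze45) (ke xe11 ye59 ze48) (ke xe3 ye1 ze9) (ke xe11 ye59 ze51) (ke xe6 ye42 ze45) (ke xe11 ye59 ze58) (ke xe11 ye59 ze61) (ke xe12 ye0 ze2) (ke xe6 ye43 ze2) (ke xe3 ye1 ze12) (ke xe6 ye35 ze24) (ke xe9 ye21 ze17) (ke xe6 ye43 ze18) (ke xe7 ye31 ze11) (ke xe6 ye33 ze18) (ke xe12 ye0 ze15) (ke xe3 ye1 ze18) (ke xe3 ye1 ze35) (ke xe6 ye23 ze53) (ke xe12 ye0 ze22) (ke xe9 ye15 ze56) (ke xe6 ye43 ze48) (ke xe12 ye0 ze30) (ke xe12 ye0 ze32) (ke xe12 ye0 ze35) (ke xe6 ye44 ze5) (ke xe12 ye0 ze38) (ke xe3 ye1 ze22) (ke xe3 ye2 ze20) (ke xe9 ye21 ze38) (ke xe3 ye1 ze24) (ke xe3 ye1 ze47) (ke xe12 ye0 ze43) (ke xe6 ye35 ze25) (ke xe6 ye36 ze19) (ke xe6 ye24 ze11)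 (ke xe3 ye17 ze19) (ke xe6 ye36 ze35) (ke xe4 ye11 ze36) (ke xe12 ye0 ze17)) (@D3.rec (fun _ => Pt) (ke xe7 ye31 ze35) (ke xe6 ye37 ze20) (ke xe12 ye0 ze59) (ke xe8 ye34 ze61) (ke xe12 ye0 ze61) (ke xe3 ye8 ze61) (ke xe6 ye38 ze10) (ke xe12 ye1 ze7) (ke xe12 ye1 ze10) (ke xe12 ye1 ze13) (ke xe12 ye1 ze15) (ke xe12 ye1 ze16) (ke xe3 ye1 ze42) (ke xe3 ye1 ze43) (ke xe6 ye18 ze32) (ke xe12 ye0 ze41) (ke xe12 ye1 ze21) (ke xe12 ye1 ze24) (ke xe9 ye21 ze39) (ke xe3 ye1 ze45) (ke xe3 ye2 ze23) (ke xe12 ye1 ze28) (ke xe3 ye1 ze46) (ke xe3 ye1 ze49) (ke xe12 ye1 ze31) (ke xe3 ye1 ze50) (ke xe3 ye1 ze51) (ke xe10 ye14 ze18) (ke xe8 ye21 ze44) (ke xe12 ye1 ze35) (ke xe12 ye1 ze36) (ke xe12 ye1 ze37) (ke xe12 ye1 ze38) (ke xe3 ye1 ze54) (ke xe3 ye1 ze55) (ke xe12 ye1 ze43) (ke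 xe3 ye6 ze27) (ke xe12 ye1 ze51) (ke xe3 ye1 ze57) (ke xe12 ye0 ze40) (ke xe10 ye12 ze53) (ke xe12 ye1 ze56) (ke xe4 ye44 ze55) (ke xe3 ye18 ze1) (ke xe3 ye1 ze59) (ke xe3 ye1 ze60) (ke xe12 ye1 ze60) (ke xe3 ye2 ze0) (ke xe3 ye2 ze1) (ke xe12 ye2 ze5) (ke xe3 ye11 ze58) (ke xe4 ye58 ze18) (ke xe3 ye2 ze3) (ke xe12 ye2 ze11) (ke xe3 ye2 ze4) (ke xe12 ye2 ze13) (ke xe3 ye2 ze5) (ke xe12 ye2 ze17) (ke xe3 ye2 ze6) (ke xe12 ye2 ze23) (ke xe12 ye2 ze26) (ke xe12 ye2 ze20)) (@D3.rec (fun _ => Pt) (ke xe9 ye15 ze30) (ke xe12 ye2 ze29) (ke xe12 ye2 ze31) (ke xe3 ye2 ze12) (ke xe6 ye28 ze38) (ke xe3 ye2 ze9) (ke xe12 ye2 ze35) (ke xe12 ye2 ze36) (ke xe3 ye2 ze10) (ke xe6 ye18 ze16) (ke xe3 ye2 ze11) (ke xe12 ye2 ze33) (ke xe3 ye2 ze13) (ke xe12 ye2 ze46) (ke xe12 ye2 ze48)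 (ke xe3 ye45 ze30) (ke xe6 ye37 ze16) (ke xe12 ye2 ze52) (ke xe3 ye2 ze15) (ke xe7 ye31 ze32) (ke xe9 ye42 ze59) (ke xe3 ye2 ze16) (ke xe6 ye38 ze6) (ke xe9 ye29 ze41) (ke xe9 ye21 ze11) (ke xe6 ye25 ze43) (ke xe6 ye25 ze41) (ke xe6 ye28 ze43) (ke xe3 ye2 ze18) (ke xe12 ye2 ze61) (ke xe12 ye3 ze1) (ke xe3 ye2 ze19) (ke xe7 ye31 ze29) (ke xe6 ye40 ze55) (ke xe10 ye53 ze21) (ke xe12 ye1 ze26) (ke xe3 ye18 ze41) (ke xe6 ye29 ze25) (ke xe9 ye28 ze57) (ke xe12 ye3 ze11) (ke xe12 ye3 ze14) (ke xe12 ye3 ze16) (ke xe3 ye2 ze24) (ke xe3 ye2 ze28) (ke xe4 ye10 ze29) (ke xe8 ye33 ze7) (ke xe8 ye23 ze28) (ke xe12 ye3 ze25) (ke xe12 ye3 ze19) (ke xe12 ye3 ze30) (ke xe9 ye4 ze17) (ke xe11 ye35 ze58) (ke xe9 ye9 ze61) (ke xe12 ye3 ze36) (ke xe3 ye2 ze30) (ke xe6 ye2 ze34) (ke xe12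 ye3 ze37) (ke xe4 ye33 ze44) (ke xe3 ye2 ze31) (ke xe12 ye3 ze40) (ke xe10 ye58 ze39) (ke xe5 ye46 ze50)) (@D3.rec (fun _ => Pt) (ke xe11 ye15 ze54) (ke xe11 ye22 ze31) (ke xe11 ye22 ze33) (ke xe11 ye36 ze1) (ke xe6 ye27 ze1) (ke xe12 ye3 ze56) (ke xe9 ye58 ze11) (ke xe3 ye2 ze37) (ke xe12 ye3 ze60) (ke xe12 ye4 ze0) (ke xe3 ye2 ze39) (ke xe11 ye6 ze53) (ke xe12 ye4 ze3) (ke xe3 ye2 ze40) (ke xe12 ye4 ze8) (ke xe12 ye4 ze9) (ke xe5 ye46 ze58) (ke xe3 ye2 ze42) (ke xe7 ye27 ze3) (ke xe3 ye2 ze44) (ke xe7 ye27 ze22) (ke xe10 ye49 ze10) (ke xe3 ye2 ze45) (ke xe6 ye42 ze40) (ke xe3 ye2 ze46) (ke xe3 ye13 ze51) (ke xe12 ye4 ze20) (ke xe7 ye27 ze34) (ke xe9 ye13 ze10) (ke xe3 ye2 ze48) (ke xe5 ye40 ze12) (ke xe6 ye27 ze26) (ke xe3 ye2 ze49) (ke xe9 ye21 ze15) (ke xe6 ye17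 ze31) (ke xe7 ye38 ze6) (ke xe12 ye4 ze33) (ke xe12 ye4 ze34) (ke xe3 ye2 ze58) (ke xe6 ye17 ze47) (ke xe12 ye4 ze38) (ke xe3 ye2 ze60) (ke xe9 ye58 ze1) (ke xe3 ye2 ze61) (ke xe5 ye47 ze37) (ke xe6 ye17 ze48) (ke xe3 ye21 ze58) (ke xe9 ye17 ze43) (ke xe6 ye21 ze44) (ke xe12 ye4 ze47) (ke xe9 ye19 ze19) (ke xe3 ye3 ze8) (ke xe6 ye23 ze1) (ke xe3 ye24 ze21) (ke xe5 ye12 ze20) (ke xe3 ye3 ze11) (ke xe8 ye32 ze12) (ke xe12 ye4 ze52) (ke xe3 ye3 ze12) (ke xe4 ye41 ze43) (ke xe8 ye23 ze2) (ke xe3 ye3 ze14)) (@D3.rec (fun _ => Pt) (ke xe4 ye50 ze18) (ke xe12 ye4 ze61) (ke xe12 ye5 ze2) (ke xe12 ye4 ze56) (ke xe8 ye50 ze49) (ke xe4 ye2 ze6) (ke xe12 ye5 ze8) (ke xe12 ye5 ze10) (ke xe12 ye5 ze13) (ke xe12 ye5 ze15) (ke xe8 ye50 ze59) (ke xe12 ye5 ze19) (ke xe4 ye13 ze27) (ke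 xe12 ye5 ze24) (ke xe9 ye4 ze39) (ke xe3 ye3 ze23) (ke xe11 ye20 ze58) (ke xe5 ye7 ze24) (ke xe6 ye51 ze5) (ke xe3 ye58 ze56) (ke xe5 ye54 ze50) (ke xe12 ye5 ze33) (ke xe4 ye25 ze50) (ke xe4 ye0 ze44) (ke xe12 ye5 ze37) (ke xe11 ye27 ze12) (ke xe12 ye5 ze41) (ke xe5 ye22 ze5) (ke xe12 ye5 ze46) (ke xe6 ye51 ze17) (ke xe3 ye3 ze33) (ke xe12 ye5 ze50) (ke xe12 ye5 ze51) (ke xe3 ye3 ze37) (ke xe12 ye5 ze56) (ke xe12 ye5 ze59) (ke xe3 ye3 ze39) (ke xe4 ye0 ze13) (ke xe12 ye6 ze2) (ke xe12 ye6 ze4) (ke xe12 ye6 ze0) (ke xe12 ye6 ze8) (ke xe8 ye1 ze41) (ke xe8 ye1 ze0) (ke xe3 ye3 ze42) (ke xe12 ye6 ze13) (ke xe10 ye16 ze10) (ke xe3 ye3 ze43) (ke xe3 ye38 ze27) (ke xe12 ye6 ze17) (ke xe12 ye6 ze19) (ke xe7 ye19 ze11) (ke xe11 ye11 ze43) (ke xe12 ye6 ze24) (ke xe4 ye26 ze34)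 (ke xe12 ye6 ze25) (ke xe3 ye3 ze49) (ke xe12 ye6 ze29) (ke xe12 ye6 ze32) (ke xe3 ye3 ze51) (ke xe8 ye45 ze37) (ke xe12 ye6 ze36)) (@D3.rec (fun _ => Pt) (ke xe12 ye6 ze38) (ke xe12 ye6 ze34) (ke xe12 ye6 ze43) (ke xe3 ye37 ze5) (ke xe12 ye6 ze46) (ke xe3 ye3 ze53) (ke xe3 ye33 ze37) (ke xe12 ye6 ze48) (ke xe7 ye8 ze15) (ke xe3 ye3 ze57) (ke xe12 ye6 ze49) (ke xe3 ye3 ze60) (ke xe12 ye6 ze55) (ke xe12 ye6 ze58) (ke xe8 ye45 ze32) (ke xe12 ye6 ze60) (ke xe3 ye4 ze1) (ke xe12 ye6 ze61) (ke xe3 ye4 ze2) (ke xe6 ye7 ze32) (ke xe12 ye7 ze2) (ke xe4 ye4 ze56) (ke xe8 ye45 ze17) (ke xe12 ye7 ze8) (ke xe3 ye4 ze5) (ke xe6 ye24 ze23) (ke xe7 ye8 ze6) (ke xe12 ye7 ze11) (ke xe12 ye7 ze15) (ke xe3 ye4 ze8) (ke xe12 ye7 ze19) (ke xe12 ye7 ze16) (ke xe6 ye7 ze34) (ke xe12 ye7 ze22)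 (ke xe3 ye4 ze10) (ke xe7 ye8 ze21) (ke xe12 ye7 ze24) (ke xe12 ye7 ze28) (ke xe3 ye4 ze12) (ke xe12 ye7 ze32) (ke xe12 ye7 ze33) (ke xe3 ye4 ze14) (ke xe12 ye7 ze41) (ke xe12 ye7 ze45) (ke xe3 ye4 ze18) (ke xe9 ye19 ze31) (ke xe11 ye39 ze34) (ke xe3 ye4 ze16) (ke xe3 ye4 ze17) (ke xe12 ye7 ze54) (ke xe12 ye7 ze57) (ke xe3 ye4 ze20) (ke xe12 ye8 ze3) (ke xe7 ye8 ze4) (ke xe3 ye4 ze21) (ke xe12 ye8 ze10) (ke xe12 ye8 ze13) (ke xe3 ye4 ze31) (ke xe12 ye8 ze18) (ke xe3 ye4 ze24) (ke xe4 ye41 ze19) (ke xe12 ye8 ze20)) (@D3.rec (fun _ => Pt) (ke xe3 ye4 ze26) (ke xe3 ye4 ze27) (ke xe12 ye8 ze24) (ke xe3 ye4 ze29) (ke xe12 ye8 ze28) (ke xe3 ye4 ze30) (ke xe12 ye8 ze31) (ke xe3 ye4 ze32) (ke xe3 ye4 ze33) (ke xe12 ye8 ze34) (ke xe3 ye4 ze35) (ke xe3 ye4 ze36) (ke xe12 ye8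 ze39) (ke xe4 ye56 ze38) (ke xe7 ye14 ze33) (ke xe12 ye8 ze46) (ke xe12 ye8 ze48) (ke xe12 ye8 ze49) (ke xe3 ye4 ze43) (ke xe6 ye2 ze55) (ke xe3 ye4 ze44) (ke xe6 ye51 ze4) (ke xe5 ye49 ze18) (ke xe4 ye53 ze53) (ke xe11 ye30 ze43) (ke xe4 ye5 ze47) (ke xe12 ye8 ze53) (ke xe12 ye8 ze55) (ke xe3 ye4 ze47) (ke xe5 ye47 ze57) (ke xe6 ye15 ze61) (ke xe7 ye57 ze10) (ke xe12 ye8 ze58) (ke xe11 ye30 ze52) (ke xe11 ye30 ze54) (ke xe3 ye4 ze52) (ke xe11 ye28 ze19) (ke xe12 ye9 ze3) (ke xe12 ye9 ze5) (ke xe12 ye9 ze6) (ke xe12 ye9 ze7) (ke xe12 ye9 ze9) (ke xe3 ye4 ze57) (ke xe12 ye9 ze12) (ke xe6 ye7 ze30) (ke xe5 ye49 ze60) (ke xe9 ye48 ze18) (ke xe3 ye4 ze59) (ke xe12 ye9 ze20) (ke xe3 ye5 ze0) (ke xe5 ye54 ze31) (ke xe3 ye4 ze61) (ke xe12 ye9 ze24) (ke xe12 ye9 ze22) (ke xe12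 ye9 ze26) (ke xe12 ye9 ze28) (ke xe3 ye5 ze2) (ke xe12 ye9 ze31) (ke xe3 ye5 ze3) (ke xe12 ye9 ze34) (ke xe3 ye5 ze5) (ke xe6 ye15 ze30)) (@D3.rec (fun _ => Pt) (ke xe11 ye27 ze40) (ke xe12 ye9 ze37) (ke xe9 ye19 ze49) (ke xe12 ye9 ze43) (ke xe3 ye5 ze7) (ke xe12 ye9 ze48) (ke xe3 ye5 ze10) (ke xe5 ye54 ze39) (ke xe12 ye9 ze50) (ke xe3 ye5 ze9) (ke xe12 ye9 ze51) (ke xe12 ye9 ze49) (ke xe12 ye9 ze53) (ke xe4 ye33 ze37) (ke xe3 ye5 ze12) (ke xe12 ye9 ze54) (ke xe12 ye9 ze55) (ke xe3 ye5 ze13) (ke xe12 ye9 ze56) (ke xe11 ye48 ze8) (ke xe9 ye11 ze12) (ke xe5 ye34 ze23) (ke xe3 ye5 ze16) (ke xe3 ye5 ze17) (ke xe12 ye10 ze0) (ke xe5 ye34 ze24) (ke xe5 ye28 ze39) (ke xe9 ye51 ze21) (ke xe3 ye5 ze20) (ke xe12 ye10 ze5) (ke xe3 ye5 ze21) (ke xe12 ye10 ze7) (ke xe4 ye56 ze43)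 (ke xe12 ye10 ze9) (ke xe12 ye10 ze11) (ke xe3 ye5 ze23) (ke xe12 ye10 ze15) (ke xe3 ye5 ze24) (ke xe12 ye10 ze19) (ke xe12 ye10 ze22) (ke xe11 ye14 ze37) (ke xe7 ye42 ze7) (ke xe12 ye10 ze29) (ke xe3 ye5 ze26) (ke xe12 ye10 ze32) (ke xe3 ye5 ze27) (ke xe10 ye58 ze36) (ke xe8 ye0 ze59) (ke xe12 ye10 ze34) (ke xe3 ye5 ze29) (ke xe11 ye14 ze36) (ke xe12 ye10 ze42) (ke xe9 ye11 ze3) (ke xe9 ye3 ze14) (ke xe12 ye10 ze47) (ke xe12 ye10 ze48) (ke xe3 ye5 ze33) (ke xe3 ye5 ze34) (ke xe10 ye58 ze33) (ke xe10 ye58 ze42) (ke xe4 ye42 ze46) (ke xe12 ye10 ze52)) (@D3.rec (fun _ => Pt) (ke xe5 ye29 ze10) (ke xe3 ye5 ze39) (ke xe12 ye10 ze54) (ke xe12 ye10 ze56) (ke xe5 ye29 ze14) (ke xe4 ye5 ze53) (ke xe4 ye19 ze52) (ke xe12 ye10 ze60) (ke xe12 ye10 ze61) (ke xe3 ye5 ze43) (ke xe12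 ye11 ze1) (ke xe3 ye5 ze44) (ke xe4 ye53 ze51) (ke xe5 ye37 ze28) (ke xe5 ye45 ze16) (ke xe3 ye5 ze48) (ke xe3 ye6 ze9) (ke xe3 ye5 ze50) (ke xe12 ye11 ze5) (ke xe9 ye22 ze53) (ke xe12 ye11 ze11) (ke xe3 ye5 ze53) (ke xe6 ye32 ze33) (ke xe4 ye40 ze22) (ke xe9 ye28 ze51) (ke xe3 ye5 ze56) (ke xe6 ye33 ze27) (ke xe12 ye11 ze26) (ke xe12 ye11 ze21) (ke xe4 ye40 ze44) (ke xe3 ye43 ze19) (ke xe6 ye12 ze34) (ke xe6 ye33 ze17) (ke xe12 ye11 ze36) (ke xe6 ye24 ze19) (ke xe3 ye5 ze59) (ke xe3 ye6 ze3) (ke xe8 ye21 ze0) (ke xe12 ye11 ze44) (ke xe3 ye6 ze1) (ke xe4 ye16 ze30) (ke xe3 ye6 ze2) (ke xe8 ye23 ze35) (ke xe12 ye11 ze51) (ke xe12 ye11 ze40) (ke xe12 ye11 ze57) (ke xe4 ye40 ze49) (ke xe6 ye12 ze39) (ke xe6 ye12 ze45) (ke xe12 ye12 ze0) (ke xe6 ye24 ze17) (ke xe3 ye6 ze6)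 (ke xe6 ye19 ze31) (ke xe5 ye5 ze44) (ke xe4 ye52 ze39) (ke xe12 ye12 ze6) (ke xe3 ye6 ze10) (ke xe4 ye11 ze45) (ke xe3 ye6 ze13) (ke xe3 ye22 ze12) (ke xe4 ye50 ze3) (ke xe12 ye12 ze15)) (@D3.rec (fun _ => Pt) (ke xe12 ye12 ze18) (ke xe12 ye12 ze9) (ke xe3 ye18 ze45) (ke xe3 ye17 ze18) (ke xe12 ye12 ze19) (ke xe3 ye6 ze16) (ke xe3 ye6 ze18) (ke xe12 ye12 ze21) (ke xe10 ye0 ze34) (ke xe12 ye12 ze28) (ke xe3 ye6 ze20) (ke xe3 ye6 ze22) (ke xe12 ye12 ze30) (ke xe12 ye12 ze37) (ke xe12 ye12 ze38) (ke xe3 ye6 ze23) (ke xe6 ye11 ze9) (ke xe6 ye29 ze61) (ke xe3 ye6 ze25) (ke xe6 ye29 ze20) (ke xe6 ye37 ze19) (ke xe7 ye31 ze45) (ke xe12 ye12 ze45) (ke xe12 ye1 ze42) (ke xe12 ye12 ze50) (ke xe12 ye12 ze52) (ke xe12 ye12 ze54) (ke xe3 ye6 ze28) (ke xe12 ye2 ze57) (ke xe12 ye12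 ze57) (ke xe6 ye29 ze27) (ke xe6 ye28 ze18) (ke xe6 ye10 ze14) (ke xe6 ye21 ze30) (ke xe6 ye30 ze16) (ke xe12 ye13 ze5) (ke xe12 ye13 ze7) (ke xe3 ye6 ze31) (ke xe12 ye13 ze9) (ke xe3 ye6 ze38) (ke xe6 ye21 ze17) (ke xe12 ye13 ze14) (ke xe3 ye6 ze35) (ke xe12 ye13 ze19) (ke xe3 ye6 ze36) (ke xe8 ye35 ze44) (ke xe4 ye11 ze28) (ke xe12 ye13 ze10) (ke xe12 ye13 ze30) (ke xe6 ye21 ze42) (ke xe12 ye13 ze32) (ke xe3 ye6 ze42) (ke xe6 ye23 ze5) (ke xe3 ye6 ze48) (ke xe6 ye23 ze22) (ke xe6 ye21 ze21) (ke xe5 ye44 ze46) (ke xe12 ye13 ze43) (ke xe12 ye13 ze35) (ke xe6 ye49 ze57) (ke xe6 ye50 ze0) (ke xe6 ye50 ze12)) (@D3.rec (fun _ => Pt) (ke xe8 ye14 ze51) (ke xe6 ye29 ze38) (ke xe12 ye13 ze53) (ke xe3 ye6 ze56) (ke xe6 ye28 ze34) (ke xe6 ye29 ze36) (ke xe3 ye6 ze57) (ke xe12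 ye13 ze56) (ke xe3 ye6 ze59) (ke xe9 ye21 ze58) (ke xe12 ye13 ze59) (ke xe3 ye7 ze2) (ke xe6 ye28 ze19) (ke xe8 ye23 ze24) (ke xe4 ye11 ze52) (ke xe12 ye13 ze60) (ke xe3 ye16 ze59) (ke xe4 ye53 ze41) (ke xe3 ye15 ze46) (ke xe6 ye28 ze26) (ke xe12 ye14 ze3) (ke xe6 ye38 ze41) (ke xe6 ye28 ze27) (ke xe6 ye28 ze30) (ke xe12 ye14 ze8) (ke xe7 ye31 ze10) (ke xe6 ye28 ze37) (ke xe12 ye1 ze20) (ke xe3 ye7 ze12) (ke xe3 ye7 ze13) (ke xe12 ye14 ze15) (ke xe6 ye17 ze52) (ke xe6 ye28 ze46) (ke xe6 ye28 ze47) (ke xe9 ye12 ze58) (ke xe12 ye14 ze19) (ke xe12 ye14 ze20) (ke xe3 ye7 ze17) (ke xe3 ye7 ze18) (ke xe10 ye14 ze41) (ke xe3 ye7 ze49) (ke xe12 ye14 ze24) (ke xe6 ye51 ze21) (ke xe6 ye29 ze8) (ke xe6 ye29 ze14) (ke xe4 ye17 ze36) (ke xe3 ye7 ze56) (ke xe3 ye7 ze57) (ke xe8 ye35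 ze41) (ke xe3 ye11 ze61) (ke xe12 ye14 ze33) (ke xe3 ye7 ze28) (ke xe8 ye34 ze45) (ke xe7 ye33 ze56) (ke xe4 ye12 ze1) (ke xe6 ye21 ze0) (ke xe3 ye7 ze31) (ke xe12 ye14 ze40) (ke xe12 ye14 ze41) (ke xe3 ye7 ze32) (ke xe6 ye43 ze31) (ke xe12 ye14 ze44)) (@D3.rec (fun _ => Pt) (ke xe3 ye7 ze34) (ke xe3 ye7 ze35) (ke xe6 ye23 ze3) (ke xe4 ye50 ze11) (ke xe6 ye37 ze31) (ke xe12 ye14 ze55) (ke xe3 ye7 ze37) (ke xe12 ye14 ze56) (ke xe12 ye14 ze58) (ke xe12 ye14 ze60) (ke xe9 ye29 ze26) (ke xe12 ye12 ze35) (ke xe3 ye7 ze39) (ke xe3 ye7 ze40) (ke xe12 ye15 ze5) (ke xe12 ye15 ze9) (ke xe12 ye15 ze1) (ke xe3 ye7 ze42) (ke xe3 ye7 ze43) (ke xe4 ye50 ze15) (ke xe9 ye19 ze55) (ke xe12 ye15 ze17) (ke xe3 ye7 ze45) (ke xe3 ye7 ze46) (ke xe10 ye27 ze42) (ke xe12 ye15 ze24) (ke xe3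 ye7 ze50) (ke xe9 ye20 ze1) (ke xe12 ye15 ze30) (ke xe6 ye32 ze14) (ke xe3 ye7 ze48) (ke xe12 ye14 ze27) (ke xe9 ye14 ze7) (ke xe12 ye15 ze36) (ke xe12 ye15 ze19) (ke xe11 ye51 ze41) (ke xe6 ye50 ze1) (ke xe7 ye31 ze18) (ke xe6 ye47 ze11) (ke xe8 ye21 ze45) (ke xe3 ye7 ze52) (ke xe6 ye37 ze33) (ke xe10 ye55 ze47) (ke xe3 ye7 ze53) (ke xe9 ye15 ze53) (ke xe6 ye59 ze1) (ke xe4 ye47 ze51) (ke xe4 ye17 ze1) (ke xe6 ye40 ze0) (ke xe6 ye3 ze30) (ke xe12 ye15 ze55) (ke xe3 ye7 ze59) (ke xe9 ye15 ze46) (ke xe4 ye11 ze55) (ke xe12 ye15 ze57) (ke xe12 ye15 ze59) (ke xe3 ye8 ze5) (ke xe9 ye19 ze22) (ke xe5 ye30 ze56) (ke xe12 ye16 ze2) (ke xe3 ye8 ze9) (ke xe4 ye12 ze2)) (@D3.rec (fun _ => Pt) (ke xe6 ye19 ze55) (ke xe4 ye53 ze22) (ke xe11 ye4 ze52) (ke xe9 ye36 ze38) (ke xe6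 ye37 ze51) (ke xe12 ye16 ze10) (ke xe3 ye11 ze49) (ke xe6 ye41 ze18) (ke xe12 ye16 ze17) (ke xe3 ye8 ze15) (ke xe12 ye16 ze20) (ke xe6 ye59 ze3) (ke xe3 ye17 ze35) (ke xe12 ye16 ze29) (ke xe12 ye16 ze32) (ke xe9 ye20 ze12) (ke xe3 ye11 ze52) (ke xe6 ye18 ze40) (ke xe3 ye8 ze20) (ke xe3 ye11 ze53) (ke xe6 ye27 ze48) (ke xe6 ye18 ze55) (ke xe3 ye18 ze19) (ke xe8 ye23 ze36) (ke xe6 ye41 ze8) (ke xe6 ye59 ze27) (ke xe6 ye33 ze44) (ke xe12 ye16 ze52) (ke xe12 ye16 ze55) (ke xe3 ye8 ze26) (ke xe6 ye18 ze33) (ke xe9 ye18 ze61) (ke xe6 ye38 ze9) (ke xe3 ye8 ze27) (ke xe6 ye40 ze7) (ke xe3 ye18 ze11) (ke xe4 ye59 ze29) (ke xe12 ye17 ze6) (ke xe6 ye5 ze40) (ke xe3 ye8 ze29) (ke xe9 ye46 ze38) (ke xe5 ye50 ze8) (ke xe6 ye18 ze49) (ke xe9 ye19 ze5) (ke xe6 ye12 ze48) (ke xe6 ye24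 ze20) (ke xe12 ye17 ze19) (ke xe12 ye17 ze20) (ke xe3 ye8 ze34) (ke xe6 ye50 ze9) (ke xe4 ye11 ze48) (ke xe6 ye41 ze55) (ke xe12 ye17 ze26) (ke xe3 ye8 ze38) (ke xe6 ye30 ze57) (ke xe6 ye42 ze22) (ke xe10 ye18 ze58) (ke xe12 ye17 ze33) (ke xe12 ye17 ze35) (ke xe12 ye17 ze39) (ke xe3 ye8 ze40) (ke xe6 ye49 ze17)) (@D3.rec (fun _ => Pt) (ke xe8 ye25 ze43) (ke xe5 ye48 ze53) (ke xe12 ye17 ze46) (ke xe3 ye8 ze42) (ke xe6 ye8 ze14) (ke xe3 ye10 ze41) (ke xe6 ye50 ze16) (ke xe12 ye17 ze53) (ke xe4 ye39 ze14) (ke xe3 ye8 ze45) (ke xe8 ye25 ze44) (ke xe6 ye26 ze46) (ke xe6 ye26 ze52) (ke xe6 ye27 ze0) (ke xe3 ye21 ze5) (ke xe3 ye25 ze1) (ke xe6 ye26 ze10) (ke xe6 ye26 ze14) (ke xe9 ye44 ze5) (ke xe6 ye43 ze57) (ke xe3 ye21 ze8) (ke xe9 ye18 ze23) (ke xe4 ye55 ze44) (ke xe12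 ye18 ze17) (ke xe9 ye37 ze3) (ke xe3 ye9 ze24) (ke xe12 ye18 ze24) (ke xe12 ye18 ze26) (ke xe4 ye39 ze30) (ke xe6 ye45 ze34) (ke xe3 ye8 ze56) (ke xe12 ye18 ze31) (ke xe6 ye41 ze32) (ke xe12 ye18 ze36) (ke xe3 ye8 ze60) (ke xe6 ye41 ze20) (ke xe8 ye20 ze48) (ke xe12 ye1 ze0) (ke xe12 ye18 ze47) (ke xe12 ye18 ze50) (ke xe12 ye18 ze53) (ke xe12 ye18 ze54) (ke xe3 ye9 ze1) (ke xe12 ye18 ze58) (ke xe4 ye18 ze49) (ke xe4 ye53 ze10) (ke xe3 ye9 ze4) (ke xe12 ye19 ze1) (ke xe3 ye9 ze5) (ke xe12 ye19 ze6) (ke xe3 ye9 ze6) (ke xe9 ye39 ze14) (ke xe12 ye19 ze11) (ke xe12 ye19 ze16) (ke xe12 ye19 ze19) (ke xe3 ye9 ze7) (ke xe12 ye16 ze57) (ke xe9 ye18 ze29) (ke xe3 ye11 ze1) (ke xe12 ye19 ze30) (ke xe12 ye19 ze33) (ke xe12 ye19 ze34)) (@D3.rec (fun _ => Pt) (ke xe3 ye9 ze9) (ke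 xe6 ye12 ze52) (ke xe6 ye42 ze52) (ke xe6 ye20 ze2) (ke xe3 ye11 ze2) (ke xe6 ye18 ze52) (ke xe3 ye11 ze12) (ke xe9 ye18 ze32) (ke xe12 ye19 ze45) (ke xe3 ye9 ze14) (ke xe12 ye4 ze49) (ke xe9 ye37 ze23) (ke xe12 ye19 ze54) (ke xe12 ye19 ze55) (ke xe3 ye9 ze15) (ke xe12 ye19 ze61) (ke xe6 ye26 ze31) (ke xe6 ye27 ze43) (ke xe12 ye18 ze1) (ke xe8 ye41 ze26) (ke xe12 ye20 ze4) (ke xe3 ye9 ze17) (ke xe6 ye18 ze54) (ke xe6 ye27 ze49) (ke xe3 ye9 ze19) (ke xe4 ye53 ze29) (ke xe12 ye20 ze10) (ke xe12 ye20 ze15) (ke xe12 ye20 ze19) (ke xe12 ye20 ze21) (ke xe3 ye9 ze22) (ke xe12 ye20 ze24) (ke xe12 ye20 ze29) (ke xe12 ye20 ze30) (ke xe12 ye20 ze32) (ke xe3 ye9 ze23) (ke xe8 ye24 ze3) (ke xe12 ye20 ze39) (ke xe12 ye20 ze42) (ke xe12 ye20 ze44) (ke xe3 ye9 ze25) (ke xe3 ye19 ze29)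 (ke xe9 ye32 ze37) (ke xe3 ye11 ze36) (ke xe8 ye35 ze29) (ke xe12 ye15 ze14) (ke xe3 ye11 ze35) (ke xe8 ye35 ze23) (ke xe8 ye35 ze24) (ke xe12 ye20 ze54) (ke xe12 ye14 ze14) (ke xe3 ye9 ze30) (ke xe4 ye11 ze58) (ke xe6 ye9 ze40) (ke xe12 ye20 ze60) (ke xe8 ye35 ze47) (ke xe12 ye21 ze4) (ke xe12 ye21 ze6) (ke xe3 ye9 ze34) (ke xe12 ye21 ze10) (ke xe12 ye21 ze13) (ke xe12 ye21 ze14)) (@D3.rec (fun _ => Pt) (ke xe3 ye9 ze36) (ke xe12 ye21 ze18) (ke xe3 ye9 ze39) (ke xe12 ye21 ze20) (ke xe3 ye9 ze41) (ke xe12 ye21 ze24) (ke xe12 ye21 ze29) (ke xe12 ye21 ze30) (ke xe3 ye9 ze42) (ke xe12 ye0 ze42) (ke xe9 ye28 ze58) (ke xe6 ye9 ze57) (ke xe12 ye21 ze40) (ke xe12 ye21 ze43) (ke xe12 ye21 ze44) (ke xe3 ye9 ze44) (ke xe3 ye11 ze3) (ke xe6 ye17 ze50) (ke xe3 ye19 ze61) (ke xe6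 ye17 ze34) (ke xe6 ye21 ze45) (ke xe12 ye21 ze55) (ke xe12 ye21 ze57) (ke xe6 ye14 ze25) (ke xe12 ye21 ze58) (ke xe3 ye9 ze50) (ke xe3 ye9 ze51) (ke xe12 ye21 ze59) (ke xe3 ye9 ze52) (ke xe12 ye21 ze61) (ke xe8 ye43 ze23) (ke xe12 ye22 ze3) (ke xe3 ye9 ze54) (ke xe8 ye11 ze45) (ke xe3 ye9 ze55) (ke xe4 ye27 ze22) (ke xe6 ye7 ze40) (ke xe12 ye22 ze7) (ke xe3 ye9 ze57) (ke xe12 ye22 ze11) (ke xe3 ye9 ze58) (ke xe12 ye22 ze19) (ke xe12 ye22 ze21) (ke xe3 ye9 ze61) (ke xe8 ye45 ze52) (ke xe12 ye22 ze25) (ke xe3 ye9 ze60) (ke xe10 ye57 ze12) (ke xe12 ye22 ze33) (ke xe3 ye10 ze0) (ke xe12 ye22 ze38) (ke xe12 ye22 ze40) (ke xe3 ye10 ze1) (ke xe12 ye22 ze46) (ke xe3 ye10 ze6) (ke xe12 ye22 ze51) (ke xe12 ye22 ze52) (ke xe3 ye10 ze4) (ke xe12 ye22 ze57) (ke xe3 ye10 ze5) (ke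 xe12 ye23 ze1) (ke xe12 ye23 ze2)) (@D3.rec (fun _ => Pt) (ke xe3 ye10 ze7) (ke xe12 ye23 ze5) (ke xe3 ye10 ze8) (ke xe12 ye23 ze9) (ke xe12 ye23 ze10) (ke xe12 ye23 ze12) (ke xe3 ye10 ze12) (ke xe12 ye23 ze17) (ke xe3 ye30 ze12) (ke xe3 ye10 ze13) (ke xe10 ye44 ze50) (ke xe5 ye56 ze33) (ke xe12 ye23 ze24) (ke xe3 ye10 ze15) (ke xe9 ye39 ze22) (ke xe12 ye23 ze25) (ke xe12 ye23 ze26) (ke xe3 ye10 ze17) (ke xe11 ye49 ze25) (ke xe3 ye10 ze19) (ke xe5 ye56 ze40) (ke xe12 ye23 ze33) (ke xe10 ye17 ze20) (ke xe11 ye57 ze54) (ke xe12 ye23 ze42) (ke xe5 ye6 ze51) (ke xe11 ye49 ze37) (ke xe11 ye58 ze21) (ke xe12 ye23 ze44) (ke xe4 ye23 ze11) (ke xe4 ye57 ze9) (ke xe4 ye58 ze33) (ke xe12 ye23 ze47) (ke xe12 ye23 ze48) (ke xe12 ye23 ze50) (ke xe3 ye10 ze27) (ke xe9 ye50 ze27) (ke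 xe6 ye30 ze31) (ke xe3 ye10 ze31) (ke xe12 ye23 ze54) (ke xe6 ye34 ze49) (ke xe6 ye11 ze26) (ke xe12 ye23 ze55) (ke xe6 ye11 ze25) (ke xe4 ye33 ze46) (ke xe9 ye39 ze12) (ke xe6 ye42 ze60) (ke xe8 ye25 ze39) (ke xe12 ye17 ze48) (ke xe3 ye59 ze56) (ke xe3 ye59 ze51) (ke xe10 ye5 ze10) (ke xe3 ye10 ze43) (ke xe10 ye19 ze0) (ke xe4 ye59 ze19) (ke xe12 ye24 ze5) (ke xe4 ye59 ze27) (ke xe9 ye12 ze27) (ke xe12 ye24 ze8) (ke xe12 ye24 ze10) (ke xe3 ye10 ze46) (ke xe11 ye57 ze51)) (@D3.rec (fun _ => Pt) (ke xe3 ye10 ze49) (ke xe3 ye10 ze50) (ke xe5 ye34 ze57) (ke xe6 ye30 ze45) (ke xe5 ye6 ze60) (ke xe8 ye25 ze1) (ke xe6 ye48 ze27) (ke xe8 ye24 ze30) (ke xe3 ye19 ze27) (ke xe3 ye11 ze4) (ke xe6 ye22 ze16) (ke xe6 ye42 ze0) (ke xe4 ye18 ze22) (ke xe12 ye24 ze26) (ke xe6 ye22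 ze17) (ke xe9 ye20 ze13) (ke xe3 ye10 ze61) (ke xe9 ye20 ze16) (ke xe12 ye19 ze3) (ke xe12 ye19 ze23) (ke xe12 ye19 ze38) (ke xe9 ye31 ze33) (ke xe12 ye24 ze43) (ke xe3 ye11 ze55) (ke xe12 ye24 ze22) (ke xe3 ye11 ze5) (ke xe6 ye49 ze53) (ke xe12 ye17 ze40) (ke xe3 ye42 ze30) (ke xe8 ye57 ze29) (ke xe12 ye19 ze25) (ke xe6 ye23 ze16) (ke xe3 ye42 ze35) (ke xe5 ye50 ze27) (ke xe6 ye50 ze28) (ke xe5 ye46 ze6) (ke xe12 ye25 ze8) (ke xe12 ye19 ze42) (ke xe3 ye22 ze10) (ke xe12 ye14 ze53) (ke xe4 ye50 ze14) (ke xe9 ye20 ze36) (ke xe10 ye12 ze15) (ke xe9 ye18 ze34) (ke xe12 ye18 ze38) (ke xe6 ye36 ze9) (ke xe6 ye22 ze11) (ke xe3 ye11 ze16) (ke xe6 ye40 ze45) (ke xe12 ye25 ze29) (ke xe12 ye16 ze12) (ke xe12 ye25 ze32) (ke xe6 ye22 ze12) (ke xe6 ye29 ze57) (ke xe3 ye45 ze28)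 (ke xe4 ye59 ze38) (ke xe12 ye25 ze36) (ke xe12 ye25 ze40) (ke xe3 ye11 ze20) (ke xe5 ye46 ze0) (ke xe3 ye11 ze21) (ke xe12 ye25 ze45)) (@D3.rec (fun _ => Pt) (ke xe6 ye22 ze13) (ke xe6 ye12 ze4) (ke xe5 ye51 ze57) (ke xe12 ye25 ze52) (ke xe12 ye25 ze55) (ke xe6 ye30 ze19) (ke xe3 ye11 ze25) (ke xe12 ye25 ze58) (ke xe3 ye11 ze26) (ke xe6 ye59 ze5) (ke xe12 ye25 ze60) (ke xe3 ye11 ze29) (ke xe12 ye26 ze2) (ke xe12 ye26 ze3) (ke xe3 ye11 ze30) (ke xe11 ye21 ze38) (ke xe3 ye11 ze32) (ke xe12 ye26 ze10) (ke xe11 ye12 ze39) (ke xe3 ye11 ze33) (ke xe12 ye26 ze16) (ke xe12 ye26 ze20) (ke xe3 ye11 ze56) (ke xe4 ye53 ze32) (ke xe12 ye20 ze47) (ke xe10 ye12 ze7) (ke xe6 ye12 ze31) (ke xe12 ye26 ze28) (ke xe12 ye26 ze29) (ke xe12 ye26 ze31) (ke xe3 ye11 ze39) (ke xe9 ye37 ze24)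 (ke xe3 ye11 ze40) (ke xe8 ye23 ze26) (ke xe12 ye26 ze36) (ke xe3 ye11 ze41) (ke xe4 ye53 ze42) (ke xe9 ye23 ze47) (ke xe12 ye26 ze43) (ke xe12 ye26 ze44) (ke xe3 ye11 ze42) (ke xe3 ye42 ze33) (ke xe4 ye18 ze23) (ke xe6 ye23 ze17) (ke xe12 ye26 ze51) (ke xe12 ye26 ze54) (ke xe12 ye26 ze55) (ke xe3 ye11 ze44) (ke xe6 ye21 ze20) (ke xe6 ye23 ze23) (ke xe12 ye16 ze13) (ke xe12 ye3 ze17) (ke xe3 ye11 ze50) (ke xe12 ye27 ze4) (ke xe3 ye11 ze51) (ke xe12 ye27 ze8) (ke xe8 ye22 ze41) (ke xe12 ye16 ze36) (ke xe12 ye27 ze15) (ke xe11 ye19 ze38) (ke xe9 ye46 ze3) (ke xe12 ye16 ze40)) (@D3.rec (fun _ => Pt) (ke xe12 ye27 ze22) (ke xe10 ye6 ze29) (ke xe3 ye11 ze54) (ke xe12 ye24 ze44) (ke xe12 ye24 ze45) (ke xe6 ye59 ze26) (ke xe6 ye47 ze43) (ke xe9 ye32 ze50) (ke xe12 ye27 ze37)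 (ke xe10 ye51 ze4) (ke xe3 ye20 ze1) (ke xe12 ye27 ze42) (ke xe12 ye27 ze45) (ke xe12 ye27 ze47) (ke xe12 ye27 ze48) (ke xe12 ye27 ze49) (ke xe3 ye12 ze5) (ke xe12 ye27 ze50) (ke xe6 ye18 ze31) (ke xe6 ye19 ze12) (ke xe10 ye0 ze22) (ke xe3 ye12 ze8) (ke xe12 ye27 ze55) (ke xe9 ye59 ze9) (ke xe3 ye12 ze9) (ke xe12 ye27 ze56) (ke xe6 ye19 ze19) (ke xe6 ye19 ze22) (ke xe12 ye27 ze59) (ke xe3 ye12 ze11) (ke xe6 ye19 ze23) (ke xe3 ye12 ze14) (ke xe12 ye28 ze0) (ke xe3 ye12 ze15) (ke xe6 ye19 ze4) (ke xe12 ye28 ze1) (ke xe4 ye43 ze0) (ke xe6 ye19 ze26) (ke xe6 ye11 ze4) (ke xe12 ye28 ze2) (ke xe12 ye28 ze3) (ke xe3 ye12 ze17) (ke xe3 ye12 ze18) (ke xe6 ye11 ze27) (ke xe12 ye28 ze13) (ke xe12 ye28 ze9) (ke xe6 ye19 ze32) (ke xe6 ye19 ze33) (ke xe12 ye28 ze15) (ke xe3 ye12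 ze21) (ke xe6 ye44 ze23) (ke xe12 ye28 ze17) (ke xe10 ye6 ze5) (ke xe5 ye57 ze32) (ke xe12 ye28 ze19) (ke xe3 ye12 ze24) (ke xe3 ye12 ze25) (ke xe6 ye29 ze51) (ke xe9 ye20 ze46) (ke xe12 ye28 ze22) (ke xe9 ye20 ze44) (ke xe3 ye12 ze27)) (@D3.rec (fun _ => Pt) (ke xe3 ye12 ze28) (ke xe11 ye51 ze5) (ke xe9 ye20 ze47) (ke xe12 ye28 ze31) (ke xe10 ye2 ze16) (ke xe3 ye12 ze30) (ke xe12 ye28 ze34) (ke xe12 ye28 ze36) (ke xe6 ye19 ze43) (ke xe3 ye12 ze31) (ke xe12 ye28 ze43) (ke xe9 ye55 ze33) (ke xe3 ye12 ze32) (ke xe3 ye22 ze45) (ke xe6 ye19 ze44) (ke xe8 ye33 ze29) (ke xe12 ye28 ze50) (ke xe3 ye12 ze35) (ke xe9 ye20 ze42) (ke xe3 ye45 ze25) (ke xe6 ye18 ze19) (ke xe12 ye28 ze54) (ke xe12 ye28 ze55) (ke xe3 ye12 ze37) (ke xe12 ye29 ze0) (ke xe6 ye11 ze37) (ke xe12 ye28 ze58)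 (ke xe6 ye18 ze30) (ke xe12 ye28 ze40) (ke xe12 ye29 ze6) (ke xe3 ye12 ze39) (ke xe3 ye12 ze50) (ke xe10 ye14 ze33) (ke xe3 ye12 ze40) (ke xe12 ye29 ze9) (ke xe3 ye12 ze46) (ke xe6 ye19 ze5) (ke xe9 ye20 ze38) (ke xe6 ye19 ze1) (ke xe3 ye12 ze48) (ke xe4 ye41 ze11) (ke xe12 ye29 ze18) (ke xe12 ye29 ze14) (ke xe4 ye7 ze17) (ke xe7 ye27 ze14) (ke xe9 ye18 ze28) (ke xe12 ye28 ze39) (ke xe12 ye29 ze24) (ke xe12 ye19 ze2) (ke xe3 ye12 ze51) (ke xe9 ye18 ze31) (ke xe6 ye28 ze57) (ke xe3 ye28 ze39) (ke xe3 ye12 ze57) (ke xe12 ye29 ze32) (ke xe12 ye29 ze36) (ke xe3 ye12 ze58) (ke xe6 ye26 ze53) (ke xe3 ye22 ze43) (ke xe3 ye16 ze49) (ke xe3 ye12 ze59) (ke xe6 ye18 ze17)) (@D3.rec (fun _ => Pt) (ke xe3 ye45 ze20) (ke xe9 ye20 ze43) (ke xe4 ye58 ze45) (ke xe12 ye29 ze44) (ke xe3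 ye12 ze61) (ke xe4 ye41 ze7) (ke xe9 ye50 ze24) (ke xe3 ye13 ze54) (ke xe3 ye23 ze16) (ke xe3 ye13 ze8) (ke xe10 ye18 ze38) (ke xe12 ye29 ze58) (ke xe3 ye13 ze9) (ke xe3 ye23 ze9) (ke xe3 ye40 ze27) (ke xe4 ye42 ze0) (ke xe6 ye18 ze34) (ke xe5 ye58 ze30) (ke xe4 ye42 ze1) (ke xe6 ye27 ze5) (ke xe5 ye51 ze58) (ke xe12 ye30 ze4) (ke xe5 ye31 ze47) (ke xe3 ye13 ze12) (ke xe5 ye51 ze56) (ke xe5 ye52 ze47) (ke xe4 ye42 ze4) (ke xe3 ye17 ze5) (ke xe3 ye18 ze30) (ke xe5 ye6 ze34) (ke xe12 ye29 ze51) (ke xe6 ye25 ze37) (ke xe12 ye30 ze13) (ke xe3 ye13 ze21) (ke xe5 ye7 ze27) (ke xe3 ye13 ze22) (ke xe4 ye57 ze53) (ke xe4 ye59 ze5) (ke xe12 ye30 ze17) (ke xe12 ye30 ze19) (ke xe3 ye13 ze26) (ke xe3 ye13 ze27) (ke xe12 ye30 ze20) (ke xe3 ye13 ze32) (ke xe3 ye56 ze14) (ke xe6 ye26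 ze3) (ke xe11 ye16 ze51) (ke xe3 ye13 ze33) (ke xe12 ye30 ze23) (ke xe3 ye13 ze34) (ke xe12 ye30 ze24) (ke xe3 ye13 ze35) (ke xe12 ye30 ze29) (ke xe12 ye30 ze30) (ke xe3 ye13 ze36) (ke xe11 ye47 ze51) (ke xe3 ye21 ze13) (ke xe6 ye21 ze54) (ke xe4 ye53 ze39) (ke xe9 ye37 ze26) (ke xe3 ye13 ze42) (ke xe7 ye27 ze7)) (@D3.rec (fun _ => Pt) (ke xe9 ye29 ze15) (ke xe12 ye26 ze47) (ke xe4 ye51 ze56) (ke xe12 ye30 ze36) (ke xe12 ye30 ze49) (ke xe6 ye7 ze51) (ke xe6 ye1 ze15) (ke xe3 ye13 ze43) (ke xe12 ye30 ze52) (ke xe12 ye30 ze53) (ke xe12 ye30 ze55) (ke xe12 ye30 ze57) (ke xe3 ye13 ze48) (ke xe10 ye52 ze18) (ke xe7 ye29 ze17) (ke xe10 ye15 ze25) (ke xe4 ye45 ze30) (ke xe3 ye13 ze50) (ke xe12 ye4 ze21) (ke xe3 ye46 ze28) (ke xe12 ye29 ze50) (ke xe11 ye24 ze55) (ke xe11 ye40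 ze48) (ke xe12 ye31 ze6) (ke xe3 ye13 ze55) (ke xe12 ye31 ze10) (ke xe11 ye16 ze44) (ke xe3 ye13 ze56) (ke xe12 ye31 ze14) (ke xe12 ye29 ze13) (ke xe11 ye47 ze6) (ke xe3 ye13 ze58) (ke xe12 ye4 ze15) (ke xe5 ye58 ze33) (ke xe12 ye31 ze18) (ke xe11 ye40 ze43) (ke xe6 ye8 ze8) (ke xe5 ye6 ze32) (ke xe10 ye15 ze27) (ke xe7 ye27 ze16) (ke xe12 ye31 ze20) (ke xe12 ye21 ze48) (ke xe3 ye14 ze1) (ke xe6 ye49 ze15) (ke xe7 ye26 ze56) (ke xe10 ye6 ze39) (ke xe12 ye31 ze29) (ke xe12 ye31 ze31) (ke xe12 ye31 ze34) (ke xe3 ye14 ze4) (ke xe3 ye14 ze5) (ke xe12 ye31 ze38) (ke xe11 ye31 ze50) (ke xe4 ye36 ze47) (ke xe10 ye6 ze59) (ke xe12 ye31 ze40) (ke xe3 ye14 ze7) (ke xe3 ye14 ze8) (ke xe4 ye59 ze18) (ke xe7 ye27 ze28) (ke xe12 ye31 ze46) (ke xe3 ye14 ze10)) (@D3.rec (fun _ => Pt)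 (ke xe4 ye57 ze33) (ke xe12 ye31 ze52) (ke xe12 ye31 ze56) (ke xe3 ye14 ze15) (ke xe7 ye27 ze33) (ke xe12 ye32 ze1) (ke xe12 ye32 ze3) (ke xe3 ye14 ze13) (ke xe5 ye32 ze42) (ke xe3 ye14 ze14) (ke xe11 ye27 ze4) (ke xe10 ye49 ze40) (ke xe12 ye31 ze58) (ke xe11 ye22 ze41) (ke xe6 ye20 ze29) (ke xe3 ye14 ze17) (ke xe12 ye32 ze17) (ke xe12 ye32 ze20) (ke xe3 ye14 ze18) (ke xe3 ye21 ze15) (ke xe12 ye32 ze24) (ke xe3 ye14 ze19) (ke xe12 ye12 ze1) (ke xe12 ye4 ze14) (ke xe11 ye9 ze58) (ke xe11 ye9 ze48) (ke xe3 ye14 ze21) (ke xe6 ye41 ze58) (ke xe6 ye41 ze59) (ke xe3 ye14 ze51) (ke xe12 ye32 ze36) (ke xe3 ye14 ze24) (ke xe4 ye47 ze54) (ke xe6 ye17 ze22) (ke xe6 ye43 ze42) (ke xe6 ye1 ze13) (ke xe12 ye32 ze49) (ke xe3 ye14 ze30) (ke xe4 ye48 ze1) (ke xe4 ye48 ze2) (ke xe4 ye37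 ze58) (ke xe4 ye48 ze4) (ke xe6 ye49 ze6) (ke xe9 ye15 ze51) (ke xe12 ye32 ze56) (ke xe3 ye14 ze36) (ke xe9 ye27 ze11) (ke xe7 ye30 ze49) (ke xe12 ye33 ze1) (ke xe12 ye33 ze2) (ke xe3 ye14 ze39) (ke xe3 ye14 ze41) (ke xe12 ye33 ze4) (ke xe11 ye43 ze18) (ke xe12 ye33 ze8) (ke xe12 ye33 ze9) (ke xe3 ye14 ze42) (ke xe3 ye14 ze43) (ke xe10 ye25 ze40) (ke xe9 ye17 ze0) (ke xe3 ye14 ze48) (ke xe10 ye52 ze3)) (@D3.rec (fun _ => Pt) (ke xe3 ye14 ze46) (ke xe4 ye9 ze48) (ke xe3 ye14 ze47) (ke xe12 ye33 ze24) (ke xe8 ye23 ze20) (ke xe12 ye33 ze17) (ke xe5 ye29 ze46) (ke xe12 ye33 ze34) (ke xe12 ye33 ze36) (ke xe12 ye33 ze37) (ke xe3 ye14 ze50) (ke xe12 ye32 ze31) (ke xe9 ye16 ze4) (ke xe12 ye33 ze47) (ke xe6 ye56 ze19) (ke xe9 ye17 ze31) (ke xe9 ye16 ze9) (ke xe6 ye17 ze32) (ke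 xe6 ye9 ze36) (ke xe12 ye33 ze53) (ke xe12 ye33 ze54) (ke xe3 ye14 ze57) (ke xe9 ye15 ze59) (ke xe12 ye33 ze56) (ke xe3 ye14 ze59) (ke xe3 ye14 ze60) (ke xe12 ye32 ze38) (ke xe6 ye17 ze26) (ke xe12 ye34 ze0) (ke xe3 ye15 ze0) (ke xe5 ye28 ze3) (ke xe9 ye17 ze32) (ke xe7 ye35 ze9) (ke xe3 ye15 ze3) (ke xe12 ye34 ze10) (ke xe7 ye15 ze31) (ke xe9 ye21 ze22) (ke xe12 ye34 ze12) (ke xe3 ye15 ze5) (ke xe12 ye34 ze15) (ke xe12 ye34 ze18) (ke xe3 ye15 ze7) (ke xe3 ye51 ze33) (ke xe3 ye16 ze22) (ke xe6 ye21 ze26) (ke xe3 ye15 ze9) (ke xe3 ye16 ze3) (ke xe3 ye18 ze49) (ke xe8 ye35 ze52) (ke xe3 ye15 ze13) (ke xe6 ye36 ze34) (ke xe12 ye34 ze30) (ke xe12 ye34 ze37) (ke xe12 ye34 ze38) (ke xe3 ye15 ze14) (ke xe12 ye34 ze39) (ke xe12 ye34 ze40) (ke xe12 ye34 ze41) (ke xe3 ye15 ze16)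 (ke xe3 ye15 ze17) (ke xe12 ye34 ze46) (ke xe3 ye15 ze20)) (@D3.rec (fun _ => Pt) (ke xe3 ye51 ze56) (ke xe7 ye30 ze42) (ke xe3 ye28 ze28) (ke xe3 ye49 ze13) (ke xe6 ye53 ze0) (ke xe12 ye34 ze50) (ke xe12 ye34 ze52) (ke xe12 ye34 ze53) (ke xe3 ye15 ze23) (ke xe3 ye51 ze19) (ke xe7 ye16 ze38) (ke xe3 ye15 ze25) (ke xe11 ye31 ze55) (ke xe12 ye34 ze60) (ke xe12 ye35 ze1) (ke xe3 ye15 ze27) (ke xe3 ye15 ze28) (ke xe12 ye35 ze5) (ke xe12 ye35 ze7) (ke xe3 ye15 ze30) (ke xe3 ye15 ze31) (ke xe7 ye40 ze58) (ke xe7 ye31 ze25) (ke xe12 ye35 ze12) (ke xe3 ye15 ze33) (ke xe3 ye15 ze34) (ke xe12 ye35 ze14) (ke xe12 ye35 ze18) (ke xe11 ye48 ze59) (ke xe12 ye35 ze21) (ke xe3 ye15 ze36) (ke xe3 ye15 ze37) (ke xe12 ye35 ze29) (ke xe12 ye35 ze32) (ke xe3 ye15 ze41) (ke xe11 ye50 ze5)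 (ke xe12 ye35 ze39) (ke xe3 ye15 ze39) (ke xe12 ye35 ze43) (ke xe12 ye35 ze45) (ke xe3 ye15 ze40) (ke xe12 ye35 ze49) (ke xe12 ye20 ze16) (ke xe12 ye35 ze35) (ke xe12 ye35 ze58) (ke xe12 ye35 ze60) (ke xe3 ye15 ze42) (ke xe6 ye36 ze30) (ke xe12 ye1 ze25) (ke xe6 ye25 ze40) (ke xe12 ye36 ze2) (ke xe5 ye7 ze60) (ke xe12 ye14 ze0) (ke xe10 ye14 ze15) (ke xe12 ye36 ze5) (ke xe7 ye16 ze6) (ke xe3 ye15 ze49) (ke xe6 ye36 ze52) (ke xe3 ye15 ze50) (ke xe12 ye36 ze8) (ke xe3 ye15 ze51) (ke xe3 ye15 ze52)) (@D3.rec (fun _ => Pt) (ke xe12 ye36 ze10) (ke xe12 ye36 ze11) (ke xe12 ye36 ze12) (ke xe3 ye15 ze53) (ke xe12 ye36 ze16) (ke xe12 ye36 ze18) (ke xe11 ye17 ze9) (ke xe12 ye36 ze22) (ke xe12 ye36 ze9) (ke xe3 ye15 ze56) (ke xe12 ye1 ze44) (ke xe12 ye36 ze30) (ke xe3 ye15 ze57)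 (ke xe12 ye36 ze31) (ke xe12 ye36 ze32) (ke xe12 ye36 ze33) (ke xe3 ye15 ze59) (ke xe3 ye15 ze60) (ke xe12 ye29 ze27) (ke xe4 ye42 ze7) (ke xe12 ye36 ze38) (ke xe3 ye17 ze17) (ke xe9 ye28 ze46) (ke xe4 ye10 ze54) (ke xe6 ye9 ze32) (ke xe6 ye9 ze55) (ke xe11 ye49 ze4) (ke xe3 ye16 ze4) (ke xe3 ye16 ze5) (ke xe6 ye40 ze56) (ke xe12 ye36 ze58) (ke xe3 ye16 ze52) (ke xe4 ye10 ze28) (ke xe3 ye18 ze50) (ke xe4 ye10 ze55) (ke xe12 ye19 ze39) (ke xe3 ye17 ze40) (ke xe12 ye37 ze14) (ke xe12 ye37 ze16) (ke xe3 ye16 ze10) (ke xe3 ye16 ze11) (ke xe12 ye37 ze22) (ke xe12 ye37 ze27) (ke xe12 ye37 ze29) (ke xe10 ye5 ze57) (ke xe3 ye16 ze13) (ke xe12 ye37 ze35) (ke xe12 ye37 ze37) (ke xe12 ye37 ze38) (ke xe3 ye16 ze14) (ke xe12 ye37 ze42) (ke xe3 ye16 ze15) (ke xe12 ye37 ze48) (ke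 xe12 ye37 ze49) (ke xe3 ye16 ze16) (ke xe12 ye37 ze55) (ke xe12 ye37 ze59) (ke xe12 ye37 ze50) (ke xe12 ye34 ze22) (ke xe4 ye43 ze8) (ke xe12 ye38 ze3) (ke xe3 ye16 ze21)) (@D3.rec (fun _ => Pt) (ke xe3 ye51 ze34) (ke xe9 ye59 ze2) (ke xe12 ye38 ze14) (ke xe12 ye38 ze15) (ke xe3 ye16 ze20) (ke xe12 ye38 ze19) (ke xe11 ye37 ze29) (ke xe12 ye38 ze6) (ke xe12 ye38 ze23) (ke xe6 ye26 ze45) (ke xe6 ye41 ze11) (ke xe12 ye38 ze30) (ke xe6 ye41 ze10) (ke xe12 ye38 ze35) (ke xe11 ye17 ze35) (ke xe3 ye16 ze26) (ke xe12 ye38 ze40) (ke xe3 ye16 ze28) (ke xe3 ye18 ze39) (ke xe6 ye9 ze56) (ke xe9 ye58 ze44) (ke xe3 ye16 ze30) (ke xe12 ye36 ze54) (ke xe12 ye38 ze43) (ke xe12 ye38 ze44) (ke xe3 ye16 ze31) (ke xe3 ye16 ze32) (ke xe3 ye16 ze50) (ke xe12 ye38 ze50) (ke xe3 ye18 ze42)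 (ke xe6 ye34 ze47) (ke xe3 ye17 ze24) (ke xe3 ye16 ze56) (ke xe4 ye10 ze27) (ke xe6 ye33 ze50) (ke xe6 ye9 ze59) (ke xe4 ye17 ze49) (ke xe9 ye48 ze58) (ke xe12 ye39 ze9) (ke xe9 ye49 ze20) (ke xe12 ye35 ze22) (ke xe12 ye39 ze11) (ke xe3 ye16 ze40) (ke xe12 ye35 ze26) (ke xe12 ye39 ze16) (ke xe3 ye16 ze42) (ke xe3 ye16 ze43) (ke xe3 ye16 ze44) (ke xe6 ye48 ze0) (ke xe12 ye38 ze46) (ke xe12 ye39 ze22) (ke xe12 ye36 ze57) (ke xe6 ye34 ze57) (ke xe3 ye16 ze46) (ke xe12 ye39 ze34) (ke xe3 ye16 ze47) (ke xe12 ye39 ze41) (ke xe12 ye39 ze43) (ke xe3 ye16 ze51) (ke xe12 ye36 ze59) (ke xe12 ye29 ze40) (ke xe12 ye39 ze50)) (@D3.rec (fun _ => Pt) (ke xe12 ye38 ze52) (ke xe4 ye42 ze6) (ke xe12 ye39 ze56) (ke xe12 ye39 ze59) (ke xe12 ye40 ze0) (ke xe12 ye39 ze45) (ke xe12 ye40 ze6)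 (ke xe12 ye40 ze8) (ke xe6 ye48 ze36) (ke xe3 ye16 ze53) (ke xe12 ye21 ze21) (ke xe12 ye40 ze15) (ke xe3 ye16 ze54) (ke xe12 ye40 ze17) (ke xe8 ye33 ze30) (ke xe6 ye38 ze4) (ke xe6 ye11 ze16) (ke xe12 ye12 ze31) (ke xe12 ye16 ze38) (ke xe6 ye18 ze20) (ke xe6 ye10 ze1) (ke xe12 ye40 ze35) (ke xe8 ye22 ze4) (ke xe12 ye40 ze38) (ke xe3 ye17 ze0) (ke xe12 ye40 ze40) (ke xe12 ye40 ze42) (ke xe12 ye40 ze43) (ke xe12 ye40 ze44) (ke xe3 ye17 ze2) (ke xe3 ye17 ze3) (ke xe6 ye20 ze4) (ke xe12 ye40 ze49) (ke xe6 ye20 ze41) (ke xe4 ye11 ze17) (ke xe12 ye40 ze53) (ke xe3 ye17 ze8) (ke xe3 ye17 ze9) (ke xe12 ye40 ze58) (ke xe3 ye17 ze10) (ke xe12 ye41 ze1) (ke xe12 ye39 ze31) (ke xe3 ye17 ze11) (ke xe12 ye38 ze37) (ke xe12 ye41 ze11) (ke xe12 ye41 ze4) (ke xe12 ye36 ze37) (ke xe12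 ye41 ze18) (ke xe12 ye41 ze21) (ke xe3 ye17 ze16) (ke xe12 ye36 ze39) (ke xe6 ye21 ze4) (ke xe12 ye41 ze31) (ke xe12 ye41 ze33) (ke xe3 ye17 ze15) (ke xe12 ye41 ze37) (ke xe12 ye41 ze40) (ke xe12 ye41 ze24) (ke xe12 ye41 ze46) (ke xe12 ye41 ze50) (ke xe12 ye21 ze36) (ke xe3 ye18 ze47)) (@D3.rec (fun _ => Pt) (ke xe12 ye0 ze46) (ke xe12 ye41 ze55) (ke xe9 ye41 ze22) (ke xe3 ye17 ze20) (ke xe6 ye37 ze15) (ke xe8 ye34 ze7) (ke xe6 ye11 ze22) (ke xe12 ye38 ze59) (ke xe8 ye33 ze55) (ke xe6 ye21 ze32) (ke xe6 ye10 ze6) (ke xe12 ye42 ze10) (ke xe4 ye10 ze46) (ke xe12 ye42 ze12) (ke xe12 ye42 ze13) (ke xe12 ye42 ze14) (ke xe3 ye17 ze27) (ke xe9 ye15 ze0) (ke xe12 ye42 ze19) (ke xe12 ye1 ze59) (ke xe3 ye17 ze28) (ke xe3 ye17 ze29) (ke xe3 ye17 ze30) (ke xe12 ye42 ze26) (ke xe3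 ye17 ze31) (ke xe12 ye42 ze33) (ke xe12 ye42 ze37) (ke xe12 ye42 ze28) (ke xe12 ye16 ze26) (ke xe12 ye42 ze44) (ke xe12 ye28 ze4) (ke xe3 ye17 ze34) (ke xe12 ye37 ze23) (ke xe6 ye44 ze4) (ke xe8 ye25 ze19) (ke xe12 ye42 ze48) (ke xe12 ye42 ze55) (ke xe12 ye42 ze57) (ke xe3 ye17 ze36) (ke xe12 ye12 ze25) (ke xe5 ye2 ze26) (ke xe6 ye19 ze21) (ke xe12 ye11 ze61) (ke xe10 ye6 ze22) (ke xe12 ye43 ze8) (ke xe3 ye17 ze39) (ke xe12 ye27 ze53) (ke xe9 ye51 ze15) (ke xe12 ye43 ze15) (ke xe12 ye43 ze11) (ke xe12 ye43 ze21) (ke xe12 ye43 ze23) (ke xe12 ye43 ze24) (ke xe12 ye43 ze26) (ke xe3 ye17 ze41) (ke xe3 ye17 ze42) (ke xe10 ye6 ze34) (ke xe12 ye43 ze31) (ke xe3 ye17 ze43) (ke xe12 ye43 ze35) (ke xe12 ye43 ze33) (ke xe9 ye11 ze46)) (@D3.rec (fun _ => Pt) (ke xe12 ye43 ze39)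 (ke xe3 ye17 ze45) (ke xe3 ye17 ze46) (ke xe12 ye43 ze47) (ke xe12 ye43 ze44) (ke xe9 ye11 ze54) (ke xe3 ye17 ze48) (ke xe12 ye43 ze57) (ke xe12 ye43 ze61) (ke xe12 ye43 ze53) (ke xe9 ye11 ze0) (ke xe12 ye44 ze5) (ke xe5 ye5 ze52) (ke xe3 ye17 ze50) (ke xe11 ye8 ze33) (ke xe3 ye17 ze51) (ke xe12 ye44 ze13) (ke xe3 ye17 ze52) (ke xe12 ye40 ze41) (ke xe12 ye44 ze22) (ke xe3 ye17 ze56) (ke xe9 ye11 ze61) (ke xe9 ye59 ze37) (ke xe12 ye44 ze30) (ke xe12 ye44 ze34) (ke xe3 ye17 ze54) (ke xe12 ye44 ze39) (ke xe12 ye44 ze41) (ke xe12 ye44 ze43) (ke xe3 ye17 ze55) (ke xe12 ye44 ze50) (ke xe12 ye44 ze54) (ke xe12 ye44 ze25) (ke xe12 ye44 ze60) (ke xe12 ye44 ze61) (ke xe3 ye17 ze58) (ke xe12 ye45 ze0) (ke xe12 ye45 ze6) (ke xe3 ye45 ze33) (ke xe12 ye1 ze61) (ke xe12 ye45 ze12)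 (ke xe6 ye0 ze30) (ke xe3 ye46 ze31) (ke xe12 ye2 ze6) (ke xe8 ye12 ze24) (ke xe12 ye45 ze19) (ke xe3 ye17 ze61) (ke xe6 ye0 ze28) (ke xe12 ye45 ze27) (ke xe3 ye44 ze38) (ke xe3 ye47 ze50) (ke xe9 ye23 ze50) (ke xe11 ye37 ze10) (ke xe9 ye27 ze34) (ke xe12 ye45 ze38) (ke xe3 ye18 ze2) (ke xe12 ye45 ze43) (ke xe12 ye45 ze45) (ke xe3 ye18 ze16) (ke xe12 ye45 ze51) (ke xe3 ye18 ze4) (ke xe12 ye45 ze56)) (@D3.rec (fun _ => Pt) (ke xe6 ye20 ze48) (ke xe3 ye18 ze21) (ke xe12 ye42 ze17) (ke xe5 ye11 ze14) (ke xe9 ye23 ze31) (ke xe12 ye46 ze7) (ke xe3 ye18 ze6) (ke xe6 ye21 ze34) (ke xe12 ye46 ze10) (ke xe12 ye46 ze13) (ke xe7 ye12 ze18) (ke xe3 ye18 ze8) (ke xe12 ye17 ze1) (ke xe12 ye42 ze60) (ke xe9 ye32 ze39) (ke xe12 ye46 ze20) (ke xe3 ye18 ze10) (ke xe3 ye23 ze47) (ke xe12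 ye46 ze22) (ke xe3 ye18 ze12) (ke xe12 ye12 ze29) (ke xe12 ye46 ze25) (ke xe5 ye11 ze23) (ke xe12 ye46 ze30) (ke xe12 ye46 ze33) (ke xe3 ye18 ze14) (ke xe11 ye11 ze11) (ke xe9 ye9 ze38) (ke xe3 ye18 ze15) (ke xe12 ye46 ze42) (ke xe4 ye25 ze22) (ke xe12 ye45 ze48) (ke xe10 ye12 ze56) (ke xe12 ye46 ze45) (ke xe3 ye18 ze17) (ke xe12 ye46 ze48) (ke xe12 ye16 ze43) (ke xe12 ye46 ze53) (ke xe6 ye49 ze2) (ke xe12 ye46 ze55) (ke xe12 ye46 ze58) (ke xe10 ye16 ze60) (ke xe12 ye45 ze59) (ke xe3 ye18 ze24) (ke xe6 ye58 ze18) (ke xe6 ye26 ze48) (ke xe12 ye47 ze4) (ke xe11 ye49 ze5) (ke xe5 ye16 ze38) (ke xe12 ye47 ze10) (ke xe12 ye47 ze13) (ke xe7 ye19 ze10) (ke xe3 ye18 ze25) (ke xe4 ye44 ze2) (ke xe4 ye48 ze32) (ke xe6 ye11 ze33) (ke xe6 ye35 ze29) (ke xe3 ye18 ze28) (ke xe12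 ye28 ze46) (ke xe3 ye18 ze31) (ke xe4 ye43 ze19) (ke xe12 ye47 ze22)) (@D3.rec (fun _ => Pt) (ke xe3 ye18 ze32) (ke xe3 ye19 ze12) (ke xe12 ye40 ze57) (ke xe12 ye47 ze27) (ke xe12 ye47 ze31) (ke xe3 ye18 ze35) (ke xe12 ye47 ze37) (ke xe3 ye18 ze36) (ke xe6 ye21 ze24) (ke xe12 ye47 ze38) (ke xe6 ye36 ze12) (ke xe6 ye36 ze10) (ke xe12 ye47 ze43) (ke xe12 ye3 ze8) (ke xe12 ye38 ze47) (ke xe12 ye47 ze49) (ke xe4 ye10 ze53) (ke xe8 ye33 ze57) (ke xe6 ye21 ze7) (ke xe12 ye47 ze54) (ke xe6 ye22 ze35) (ke xe12 ye47 ze56) (ke xe3 ye18 ze46) (ke xe11 ye55 ze52) (ke xe12 ye41 ze52) (ke xe12 ye47 ze60) (ke xe12 ye16 ze33) (ke xe3 ye18 ze55) (ke xe12 ye48 ze7) (ke xe12 ye21 ze22) (ke xe12 ye34 ze28) (ke xe12 ye48 ze10) (ke xe6 ye22 ze32) (ke xe12 ye37 ze7) (ke xe12 ye48 ze17) (ke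 xe12 ye48 ze18) (ke xe12 ye48 ze19) (ke xe12 ye48 ze24) (ke xe12 ye48 ze25) (ke xe3 ye18 ze53) (ke xe10 ye32 ze48) (ke xe12 ye48 ze32) (ke xe3 ye18 ze54) (ke xe12 ye48 ze38) (ke xe12 ye48 ze41) (ke xe12 ye48 ze2) (ke xe12 ye48 ze46) (ke xe12 ye48 ze48) (ke xe12 ye48 ze50) (ke xe12 ye48 ze52) (ke xe3 ye18 ze56) (ke xe12 ye48 ze57) (ke xe4 ye5 ze51) (ke xe3 ye18 ze57) (ke xe9 ye20 ze37) (ke xe6 ye21 ze51) (ke xe7 ye51 ze61) (ke xe9 ye27 ze50) (ke xe6 ye32 ze27) (ke xe6 ye32 ze28) (ke xe6 ye49 ze51) (ke xe4 ye48 ze24)) (@D3.rec (fun _ => Pt) (ke xe6 ye26 ze11) (ke xe6 ye9 ze19) (ke xe12 ye49 ze10) (ke xe12 ye49 ze13) (ke xe12 ye49 ze14) (ke xe3 ye19 ze1) (ke xe12 ye31 ze48) (ke xe3 ye21 ze16) (ke xe12 ye49 ze25) (ke xe8 ye0 ze41) (ke xe5 ye7 ze21) (ke xe9 ye50 ze16) (ke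 xe12 ye49 ze29) (ke xe3 ye19 ze6) (ke xe11 ye11 ze57) (ke xe12 ye49 ze38) (ke xe3 ye19 ze10) (ke xe9 ye1 ze35) (ke xe12 ye49 ze45) (ke xe6 ye49 ze23) (ke xe10 ye54 ze47) (ke xe3 ye19 ze8) (ke xe6 ye21 ze55) (ke xe9 ye50 ze39) (ke xe5 ye0 ze4) (ke xe12 ye49 ze40) (ke xe12 ye49 ze59) (ke xe6 ye50 ze52) (ke xe12 ye50 ze0) (ke xe3 ye19 ze13) (ke xe7 ye27 ze5) (ke xe9 ye19 ze24) (ke xe12 ye50 ze4) (ke xe3 ye19 ze14) (ke xe3 ye19 ze17) (ke xe8 ye24 ze52) (ke xe6 ye8 ze45) (ke xe6 ye6 ze30) (ke xe11 ye9 ze45) (ke xe12 ye50 ze14) (ke xe6 ye12 ze23) (ke xe3 ye19 ze19) (ke xe12 ye13 ze44) (ke xe3 ye19 ze20) (ke xe12 ye50 ze20) (ke xe6 ye9 ze26) (ke xe12 ye50 ze29) (ke xe9 ye37 ze11) (ke xe12 ye50 ze32) (ke xe3 ye19 ze23) (ke xe12 ye50 ze37) (ke xe3 ye19 ze24) (ke xe6 ye23 ze2)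 (ke xe12 ye24 ze19) (ke xe12 ye20 ze48) (ke xe3 ye19 ze32) (ke xe8 ye25 ze31) (ke xe6 ye43 ze56) (ke xe9 ye20 ze19) (ke xe4 ye49 ze34) (ke xe6 ye25 ze46) (ke xe10 ye17 ze0)) (@D3.rec (fun _ => Pt) (ke xe12 ye50 ze58) (ke xe12 ye51 ze1) (ke xe6 ye9 ze30) (ke xe12 ye51 ze6) (ke xe12 ye51 ze8) (ke xe11 ye50 ze50) (ke xe6 ye46 ze41) (ke xe3 ye19 ze39) (ke xe12 ye51 ze13) (ke xe3 ye19 ze40) (ke xe11 ye35 ze13) (ke xe12 ye51 ze15) (ke xe12 ye51 ze16) (ke xe3 ye19 ze42) (ke xe3 ye19 ze43) (ke xe6 ye47 ze13) (ke xe12 ye51 ze20) (ke xe8 ye33 ze31) (ke xe6 ye9 ze34) (ke xe12 ye51 ze32) (ke xe11 ye47 ze20) (ke xe3 ye19 ze46) (ke xe12 ye34 ze6) (ke xe3 ye45 ze57) (ke xe3 ye19 ze49) (ke xe12 ye51 ze42) (ke xe3 ye32 ze32) (ke xe3 ye19 ze53) (ke xe3 ye52 ze47) (ke xe9 ye21 ze55) (ke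 xe12 ye51 ze52) (ke xe6 ye19 ze60) (ke xe12 ye51 ze54) (ke xe12 ye51 ze58) (ke xe12 ye51 ze61) (ke xe12 ye51 ze46) (ke xe12 ye52 ze5) (ke xe9 ye23 ze27) (ke xe12 ye52 ze8) (ke xe12 ye52 ze11) (ke xe3 ye19 ze56) (ke xe12 ye52 ze16) (ke xe6 ye32 ze34) (ke xe3 ye19 ze57) (ke xe9 ye24 ze17) (ke xe4 ye40 ze29) (ke xe12 ye52 ze24) (ke xe12 ye52 ze26) (ke xe6 ye9 ze43) (ke xe12 ye52 ze35) (ke xe10 ye52 ze2) (ke xe3 ye19 ze60) (ke xe9 ye37 ze27) (ke xe12 ye21 ze50) (ke xe3 ye22 ze8) (ke xe12 ye27 ze38) (ke xe6 ye42 ze57) (ke xe6 ye22 ze19) (ke xe9 ye28 ze45) (ke xe11 ye18 ze2) (ke xe4 ye32 ze21) (ke xe3 ye20 ze9)) (@D3.rec (fun _ => Pt) (ke xe12 ye52 ze56) (ke xe12 ye52 ze57) (ke xe3 ye20 ze10) (ke xe8 ye36 ze9) (ke xe6 ye38 ze33) (ke xe6 ye9 ze47) (ke xe12 ye53 ze8) (ke xe12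 ye53 ze10) (ke xe9 ye58 ze8) (ke xe9 ye17 ze20) (ke xe3 ye20 ze12) (ke xe12 ye53 ze12) (ke xe3 ye20 ze13) (ke xe12 ye53 ze13) (ke xe3 ye20 ze15) (ke xe3 ye20 ze16) (ke xe12 ye53 ze15) (ke xe12 ye53 ze16) (ke xe9 ye11 ze13) (ke xe12 ye53 ze17) (ke xe3 ye20 ze18) (ke xe12 ye53 ze19) (ke xe3 ye20 ze19) (ke xe6 ye28 ze50) (ke xe12 ye53 ze21) (ke xe3 ye20 ze20) (ke xe12 ye53 ze27) (ke xe12 ye53 ze29) (ke xe12 ye19 ze41) (ke xe9 ye11 ze20) (ke xe10 ye45 ze49) (ke xe3 ye20 ze22) (ke xe12 ye53 ze35) (ke xe3 ye20 ze24) (ke xe11 ye58 ze17) (ke xe3 ye20 ze25) (ke xe12 ye53 ze42) (ke xe9 ye57 ze50) (ke xe12 ye53 ze38) (ke xe9 ye11 ze33) (ke xe12 ye53 ze50) (ke xe3 ye20 ze27) (ke xe8 ye58 ze42) (ke xe9 ye17 ze58) (ke xe9 ye13 ze6) (ke xe9 ye57 ze48) (ke xe3 ye20 ze30) (ke xe12 ye53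 ze59) (ke xe12 ye53 ze61) (ke xe10 ye53 ze16) (ke xe3 ye20 ze31) (ke xe9 ye12 ze12) (ke xe10 ye5 ze4) (ke xe12 ye54 ze3) (ke xe9 ye12 ze17) (ke xe9 ye57 ze54) (ke xe12 ye54 ze10) (ke xe11 ye37 ze1) (ke xe12 ye54 ze16) (ke xe3 ye20 ze35) (ke xe12 ye54 ze19) (ke xe12 ye53 ze32)) (@D3.rec (fun _ => Pt) (ke xe3 ye20 ze37) (ke xe12 ye54 ze23) (ke xe12 ye54 ze25) (ke xe3 ye20 ze38) (ke xe10 ye53 ze13) (ke xe9 ye12 ze25) (ke xe10 ye53 ze17) (ke xe12 ye24 ze11) (ke xe10 ye54 ze56) (ke xe12 ye54 ze35) (ke xe9 ye12 ze45) (ke xe12 ye54 ze43) (ke xe9 ye13 ze45) (ke xe12 ye54 ze45) (ke xe12 ye54 ze47) (ke xe3 ye20 ze43) (ke xe9 ye13 ze49) (ke xe3 ye20 ze44) (ke xe9 ye10 ze47) (ke xe12 ye54 ze56) (ke xe3 ye20 ze45) (ke xe9 ye12 ze50) (ke xe7 ye44 ze24) (ke xe12 ye54 ze59) (ke xe9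 ye31 ze38) (ke xe12 ye55 ze3) (ke xe12 ye55 ze6) (ke xe3 ye20 ze47) (ke xe11 ye31 ze37) (ke xe5 ye55 ze15) (ke xe12 ye55 ze10) (ke xe11 ye50 ze49) (ke xe12 ye55 ze14) (ke xe3 ye20 ze49) (ke xe6 ye22 ze29) (ke xe11 ye22 ze43) (ke xe3 ye20 ze51) (ke xe9 ye1 ze10) (ke xe12 ye55 ze16) (ke xe9 ye14 ze0) (ke xe12 ye55 ze21) (ke xe11 ye0 ze51) (ke xe12 ye55 ze22) (ke xe3 ye20 ze54) (ke xe12 ye55 ze23) (ke xe3 ye20 ze55) (ke xe12 ye55 ze27) (ke xe12 ye55 ze29) (ke xe11 ye44 ze49) (ke xe3 ye20 ze56) (ke xe9 ye13 ze23) (ke xe9 ye13 ze17) (ke xe11 ye45 ze1) (ke xe3 ye20 ze58) (ke xe5 ye32 ze59) (ke xe11 ye38 ze61) (ke xe12 ye55 ze42) (ke xe12 ye55 ze46) (ke xe3 ye21 ze1) (ke xe9 ye14 ze31) (ke xe11 ye38 ze54) (ke xe9 ye31 ze52)) (@D3.rec (fun _ => Pt) (ke xe12 ye55 ze48) (ke xe12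 ye55 ze51) (ke xe3 ye21 ze4) (ke xe12 ye17 ze59) (ke xe12 ye55 ze57) (ke xe9 ye14 ze23) (ke xe9 ye31 ze46) (ke xe12 ye18 ze8) (ke xe12 ye56 ze5) (ke xe12 ye56 ze9) (ke xe9 ye14 ze39) (ke xe12 ye56 ze14) (ke xe12 ye56 ze15) (ke xe3 ye21 ze10) (ke xe3 ye21 ze11) (ke xe12 ye30 ze28) (ke xe9 ye27 ze32) (ke xe12 ye49 ze18) (ke xe9 ye29 ze11) (ke xe3 ye23 ze13) (ke xe4 ye48 ze23) (ke xe11 ye8 ze35) (ke xe10 ye4 ze52) (ke xe3 ye21 ze20) (ke xe9 ye29 ze13) (ke xe11 ye28 ze59) (ke xe11 ye27 ze17) (ke xe8 ye0 ze24) (ke xe8 ye0 ze43) (ke xe12 ye56 ze27) (ke xe12 ye56 ze29) (ke xe3 ye21 ze24) (ke xe3 ye21 ze25) (ke xe9 ye5 ze26) (ke xe7 ye27 ze29) (ke xe12 ye56 ze32) (ke xe12 ye56 ze34) (ke xe3 ye21 ze27) (ke xe11 ye31 ze34) (ke xe11 ye31 ze35) (ke xe3 ye21 ze29) (ke xe6 ye43 ze6)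 (ke xe11 ye4 ze56) (ke xe3 ye21 ze32) (ke xe5 ye30 ze40) (ke xe4 ye41 ze46) (ke xe12 ye56 ze45) (ke xe3 ye44 ze58) (ke xe11 ye23 ze59) (ke xe4 ye37 ze52) (ke xe12 ye56 ze51) (ke xe9 ye8 ze5) (ke xe4 ye34 ze2) (ke xe12 ye56 ze53) (ke xe3 ye21 ze36) (ke xe3 ye21 ze37) (ke xe9 ye24 ze51) (ke xe10 ye23 ze46) (ke xe12 ye56 ze56) (ke xe12 ye56 ze58) (ke xe3 ye21 ze40) (ke xe3 ye46 ze4)) (@D3.rec (fun _ => Pt) (ke xe4 ye43 ze18) (ke xe9 ye53 ze19) (ke xe9 ye24 ze42) (ke xe12 ye57 ze2) (ke xe12 ye57 ze6) (ke xe3 ye21 ze43) (ke xe12 ye57 ze13) (ke xe10 ye26 ze13) (ke xe12 ye57 ze19) (ke xe3 ye21 ze44) (ke xe9 ye22 ze49) (ke xe6 ye20 ze38) (ke xe12 ye57 ze22) (ke xe6 ye43 ze15) (ke xe4 ye49 ze44) (ke xe12 ye57 ze35) (ke xe9 ye28 ze32) (ke xe9 ye50 ze15) (ke xe9 ye50 ze60) (ke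 xe3 ye21 ze49) (ke xe9 ye6 ze36) (ke xe11 ye5 ze26) (ke xe12 ye57 ze50) (ke xe3 ye21 ze50) (ke xe12 ye57 ze54) (ke xe9 ye5 ze51) (ke xe12 ye57 ze51) (ke xe4 ye49 ze55) (ke xe11 ye59 ze8) (ke xe3 ye21 ze52) (ke xe3 ye21 ze54) (ke xe9 ye32 ze25) (ke xe5 ye48 ze9) (ke xe12 ye24 ze0) (ke xe4 ye49 ze49) (ke xe12 ye58 ze7) (ke xe3 ye21 ze57) (ke xe12 ye4 ze42) (ke xe9 ye6 ze52) (ke xe3 ye21 ze59) (ke xe7 ye55 ze17) (ke xe12 ye58 ze17) (ke xe3 ye21 ze60) (ke xe6 ye28 ze6) (ke xe3 ye22 ze1) (ke xe9 ye59 ze32) (ke xe12 ye58 ze24) (ke xe3 ye22 ze4) (ke xe3 ye22 ze5) (ke xe3 ye22 ze28) (ke xe6 ye48 ze42) (ke xe9 ye27 ze61) (ke xe12 ye52 ze38) (ke xe12 ye27 ze35) (ke xe9 ye39 ze15) (ke xe4 ye43 ze11) (ke xe3 ye22 ze9) (ke xe12 ye25 ze11) (ke xe12 ye58 ze41) (ke xe12 ye58 ze44)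 (ke xe12 ye52 ze40) (ke xe3 ye22 ze34)) (@D3.rec (fun _ => Pt) (ke xe6 ye36 ze48) (ke xe10 ye12 ze6) (ke xe12 ye58 ze50) (ke xe3 ye22 ze13) (ke xe3 ye22 ze14) (ke xe12 ye13 ze49) (ke xe12 ye58 ze54) (ke xe3 ye35 ze8) (ke xe9 ye29 ze36) (ke xe12 ye58 ze61) (ke xe12 ye59 ze2) (ke xe12 ye59 ze5) (ke xe9 ye29 ze49) (ke xe12 ye59 ze8) (ke xe3 ye22 ze17) (ke xe9 ye28 ze5) (ke xe12 ye59 ze12) (ke xe12 ye59 ze16) (ke xe12 ye59 ze17) (ke xe3 ye22 ze18) (ke xe9 ye24 ze21) (ke xe9 ye22 ze59) (ke xe12 ye59 ze22) (ke xe12 ye59 ze25) (ke xe12 ye59 ze26) (ke xe3 ye22 ze20) (ke xe4 ye42 ze9) (ke xe6 ye26 ze6) (ke xe12 ye58 ze26) (ke xe12 ye59 ze36) (ke xe12 ye59 ze38) (ke xe3 ye22 ze23) (ke xe9 ye28 ze14) (ke xe12 ye59 ze40) (ke xe4 ye48 ze0) (ke xe12 ye58 ze30) (ke xe6 ye37 ze8) (ke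 xe12 ye59 ze44) (ke xe3 ye22 ze25) (ke xe4 ye48 ze39) (ke xe4 ye48 ze11) (ke xe8 ye23 ze4) (ke xe6 ye47 ze50) (ke xe3 ye22 ze27) (ke xe12 ye58 ze25) (ke xe12 ye13 ze55) (ke xe4 ye50 ze25) (ke xe9 ye38 ze59) (ke xe12 ye59 ze56) (ke xe3 ye22 ze30) (ke xe4 ye43 ze38) (ke xe4 ye42 ze15) (ke xe13 ye0 ze4) (ke xe13 ye0 ze9) (ke xe13 ye0 ze11) (ke xe3 ye22 ze32) (ke xe13 ye0 ze19) (ke xe13 ye0 ze22) (ke xe13 ye0 ze24) (ke xe3 ye22 ze33) (ke xe3 ye28 ze55) (ke xe12 ye2 ze45)) (@D3.rec (fun _ => Pt) (ke xe12 ye38 ze20) (ke xe3 ye22 ze36) (ke xe6 ye40 ze38) (ke xe13 ye0 ze29) (ke xe3 ye22 ze40) (ke xe13 ye0 ze32) (ke xe6 ye32 ze42) (ke xe12 ye28 ze45) (ke xe9 ye28 ze33) (ke xe9 ye24 ze24) (ke xe9 ye28 ze54) (ke xe13 ye0 ze40) (ke xe9 ye28 ze56) (ke xe13 ye0 ze44) (ke xe9 ye29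 ze5) (ke xe6 ye31 ze43) (ke xe9 ye29 ze19) (ke xe6 ye21 ze61) (ke xe3 ye23 ze10) (ke xe13 ye0 ze50) (ke xe3 ye22 ze54) (ke xe9 ye13 ze7) (ke xe3 ye39 ze54) (ke xe6 ye42 ze19) (ke xe3 ye22 ze56) (ke xe4 ye40 ze30) (ke xe13 ye0 ze54) (ke xe11 ye29 ze4) (ke xe3 ye22 ze59) (ke xe3 ye22 ze60) (ke xe13 ye0 ze55) (ke xe3 ye23 ze0) (ke xe11 ye49 ze21) (ke xe3 ye23 ze1) (ke xe3 ye23 ze3) (ke xe3 ye23 ze58) (ke xe5 ye26 ze20) (ke xe13 ye0 ze59) (ke xe12 ye49 ze16) (ke xe13 ye1 ze0) (ke xe3 ye23 ze6) (ke xe4 ye47 ze0) (ke xe5 ye6 ze58) (ke xe10 ye17 ze25) (ke xe3 ye28 ze22) (ke xe3 ye28 ze57) (ke xe13 ye1 ze4) (ke xe3 ye23 ze12) (ke xe12 ye56 ze20) (ke xe3 ye23 ze14) (ke xe10 ye17 ze24) (ke xe6 ye41 ze60) (ke xe9 ye13 ze40) (ke xe6 ye26 ze26) (ke xe9 ye32 ze32) (ke xe12 ye29 ze52)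 (ke xe6 ye50 ze10) (ke xe6 ye18 ze59) (ke xe8 ye23 ze12) (ke xe3 ye23 ze19) (ke xe13 ye1 ze16) (ke xe3 ye23 ze20)) (@D3.rec (fun _ => Pt) (ke xe6 ye18 ze60) (ke xe6 ye20 ze36) (ke xe10 ye17 ze45) (ke xe13 ye1 ze20) (ke xe6 ye6 ze47) (ke xe3 ye23 ze22) (ke xe3 ye23 ze23) (ke xe4 ye49 ze57) (ke xe9 ye30 ze44) (ke xe6 ye21 ze49) (ke xe6 ye49 ze56) (ke xe12 ye49 ze46) (ke xe6 ye18 ze61) (ke xe8 ye23 ze14) (ke xe9 ye5 ze29) (ke xe10 ye18 ze23) (ke xe6 ye22 ze6) (ke xe9 ye50 ze58) (ke xe13 ye1 ze33) (ke xe13 ye1 ze34) (ke xe3 ye23 ze31) (ke xe3 ye23 ze32) (ke xe5 ye26 ze16) (ke xe13 ye1 ze37) (ke xe3 ye23 ze34) (ke xe3 ye23 ze35) (ke xe13 ye1 ze39) (ke xe3 ye23 ze36) (ke xe6 ye26 ze34) (ke xe13 ye1 ze41) (ke xe3 ye23 ze37) (ke xe5 ye7 ze16) (ke xe10 ye18 ze10) (ke xe8 ye12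 ze47) (ke xe9 ye5 ze25) (ke xe3 ye23 ze39) (ke xe3 ye23 ze40) (ke xe13 ye1 ze52) (ke xe9 ye49 ze39) (ke xe3 ye23 ze44) (ke xe8 ye0 ze44) (ke xe13 ye1 ze55) (ke xe13 ye1 ze56) (ke xe3 ye23 ze43) (ke xe11 ye46 ze23) (ke xe5 ye6 ze59) (ke xe3 ye23 ze49) (ke xe12 ye28 ze38) (ke xe12 ye32 ze41) (ke xe3 ye23 ze51) (ke xe13 ye1 ze61) (ke xe3 ye23 ze52) (ke xe6 ye42 ze27) (ke xe13 ye2 ze1) (ke xe3 ye23 ze56) (ke xe3 ye39 ze55) (ke xe3 ye39 ze59) (ke xe13 ye0 ze56) (ke xe13 ye2 ze7) (ke xe3 ye23 ze59) (ke xe9 ye13 ze31) (ke xe3 ye23 ze60)) (@D3.rec (fun _ => Pt) (ke xe3 ye24 ze0) (ke xe13 ye2 ze10) (ke xe6 ye8 ze19) (ke xe3 ye24 ze1) (ke xe6 ye15 ze21) (ke xe6 ye13 ze18) (ke xe13 ye1 ze47) (ke xe5 ye54 ze58) (ke xe13 ye2 ze13) (ke xe3 ye24 ze4) (ke xe13 ye2 ze16) (ke xe13 ye2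 ze19) (ke xe13 ye2 ze21) (ke xe3 ye24 ze5) (ke xe8 ye57 ze22) (ke xe13 ye2 ze25) (ke xe3 ye24 ze8) (ke xe6 ye13 ze29) (ke xe13 ye2 ze30) (ke xe3 ye24 ze12) (ke xe4 ye43 ze15) (ke xe6 ye19 ze42) (ke xe4 ye13 ze8) (ke xe3 ye42 ze42) (ke xe7 ye51 ze4) (ke xe3 ye55 ze23) (ke xe13 ye2 ze40) (ke xe6 ye55 ze20) (ke xe3 ye24 ze25) (ke xe7 ye21 ze42) (ke xe6 ye55 ze49) (ke xe13 ye2 ze46) (ke xe13 ye2 ze48) (ke xe3 ye24 ze27) (ke xe3 ye24 ze28) (ke xe3 ye55 ze33) (ke xe13 ye2 ze53) (ke xe7 ye1 ze56) (ke xe7 ye18 ze45) (ke xe3 ye55 ze29) (ke xe3 ye24 ze33) (ke xe13 ye3 ze0) (ke xe3 ye24 ze34) (ke xe3 ye24 ze35) (ke xe13 ye3 ze4) (ke xe13 ye3 ze3) (ke xe13 ye3 ze5) (ke xe3 ye24 ze38) (ke xe3 ye24 ze39) (ke xe7 ye50 ze54) (ke xe13 ye3 ze9) (ke xe13 ye3 ze15) (ke xe13 ye3 ze16) (ke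 xe3 ye24 ze41) (ke xe7 ye43 ze6) (ke xe13 ye3 ze20) (ke xe3 ye24 ze43) (ke xe3 ye24 ze47) (ke xe13 ye3 ze28) (ke xe13 ye3 ze31) (ke xe3 ye24 ze45) (ke xe13 ye3 ze35)) (@D3.rec (fun _ => Pt) (ke xe13 ye3 ze37) (ke xe3 ye24 ze46) (ke xe13 ye3 ze40) (ke xe13 ye3 ze42) (ke xe13 ye3 ze24) (ke xe13 ye3 ze48) (ke xe7 ye8 ze49) (ke xe3 ye24 ze49) (ke xe7 ye4 ze15) (ke xe13 ye3 ze54) (ke xe13 ye3 ze58) (ke xe3 ye24 ze50) (ke xe3 ye54 ze57) (ke xe7 ye49 ze40) (ke xe3 ye32 ze3) (ke xe3 ye24 ze53) (ke xe13 ye4 ze6) (ke xe13 ye4 ze8) (ke xe3 ye24 ze54) (ke xe7 ye4 ze12) (ke xe12 ye45 ze47) (ke xe3 ye24 ze57) (ke xe3 ye34 ze20) (ke xe3 ye49 ze0) (ke xe8 ye48 ze22) (ke xe3 ye31 ze20) (ke xe6 ye52 ze45) (ke xe7 ye28 ze7) (ke xe10 ye32 ze1) (ke xe7 ye16 ze21) (ke xe13 ye4 ze23) (ke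 xe7 ye11 ze21) (ke xe12 ye21 ze47) (ke xe7 ye18 ze32) (ke xe13 ye4 ze26) (ke xe7 ye42 ze59) (ke xe13 ye4 ze32) (ke xe13 ye4 ze36) (ke xe5 ye15 ze25) (ke xe3 ye25 ze11) (ke xe13 ye4 ze38) (ke xe8 ye30 ze44) (ke xe13 ye4 ze40) (ke xe3 ye25 ze13) (ke xe9 ye20 ze39) (ke xe6 ye52 ze26) (ke xe7 ye54 ze33) (ke xe3 ye55 ze59) (ke xe13 ye4 ze48) (ke xe7 ye51 ze32) (ke xe13 ye4 ze52) (ke xe6 ye53 ze21) (ke xe10 ye25 ze58) (ke xe7 ye16 ze8) (ke xe13 ye4 ze60) (ke xe3 ye29 ze18) (ke xe6 ye56 ze35) (ke xe13 ye5 ze3) (ke xe3 ye25 ze22) (ke xe7 ye53 ze28) (ke xe13 ye5 ze10) (ke xe7 ye8 ze37)) (@D3.rec (fun _ => Pt) (ke xe6 ye34 ze4) (ke xe3 ye25 ze26) (ke xe3 ye50 ze11) (ke xe3 ye25 ze27) (ke xe9 ye29 ze28) (ke xe13 ye5 ze12) (ke xe13 ye5 ze13) (ke xe13 ye5 ze14) (ke xe3 ye25 ze34)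 (ke xe3 ye25 ze35) (ke xe13 ye5 ze18) (ke xe5 ye57 ze35) (ke xe13 ye2 ze58) (ke xe3 ye25 ze39) (ke xe13 ye5 ze25) (ke xe3 ye25 ze40) (ke xe3 ye25 ze41) (ke xe3 ye25 ze42) (ke xe13 ye5 ze35) (ke xe13 ye5 ze38) (ke xe13 ye5 ze33) (ke xe6 ye52 ze51) (ke xe13 ye5 ze43) (ke xe3 ye25 ze44) (ke xe4 ye49 ze2) (ke xe13 ye5 ze48) (ke xe3 ye25 ze49) (ke xe5 ye59 ze54) (ke xe13 ye5 ze55) (ke xe13 ye5 ze58) (ke xe3 ye25 ze47) (ke xe13 ye5 ze60) (ke xe3 ye25 ze48) (ke xe13 ye6 ze2) (ke xe13 ye6 ze4) (ke xe13 ye5 ze51) (ke xe13 ye6 ze9) (ke xe13 ye6 ze11) (ke xe13 ye6 ze13) (ke xe3 ye25 ze51) (ke xe7 ye20 ze47) (ke xe7 ye11 ze56) (ke xe3 ye32 ze2) (ke xe7 ye4 ze32) (ke xe13 ye6 ze18) (ke xe13 ye6 ze20) (ke xe13 ye6 ze22) (ke xe13 ye6 ze25) (ke xe3 ye25 ze57) (ke xe13 ye6 ze29) (ke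 xe3 ye25 ze58) (ke xe13 ye6 ze30) (ke xe3 ye25 ze60) (ke xe3 ye25 ze61) (ke xe13 ye6 ze34) (ke xe4 ye5 ze59) (ke xe7 ye26 ze29) (ke xe13 ye6 ze36) (ke xe3 ye26 ze2) (ke xe13 ye6 ze40) (ke xe3 ye26 ze3) (ke xe13 ye6 ze42)) (@D3.rec (fun _ => Pt) (ke xe13 ye6 ze43) (ke xe3 ye26 ze4) (ke xe13 ye6 ze48) (ke xe13 ye6 ze45) (ke xe6 ye0 ze16) (ke xe3 ye26 ze9) (ke xe13 ye3 ze10) (ke xe13 ye6 ze58) (ke xe13 ye6 ze59) (ke xe3 ye26 ze7) (ke xe13 ye7 ze1) (ke xe13 ye7 ze2) (ke xe3 ye26 ze8) (ke xe13 ye7 ze5) (ke xe13 ye7 ze8) (ke xe13 ye6 ze55) (ke xe13 ye7 ze11) (ke xe13 ye7 ze12) (ke xe3 ye26 ze10) (ke xe11 ye46 ze21) (ke xe13 ye7 ze17) (ke xe7 ye6 ze55) (ke xe11 ye46 ze22) (ke xe7 ye36 ze9) (ke xe7 ye10 ze35) (ke xe13 ye7 ze29) (ke xe13 ye7 ze32) (ke xe13 ye7 ze35) (ke xe11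 ye46 ze24) (ke xe13 ye7 ze39) (ke xe3 ye35 ze17) (ke xe7 ye28 ze6) (ke xe6 ye57 ze54) (ke xe13 ye7 ze46) (ke xe3 ye35 ze18) (ke xe13 ye7 ze49) (ke xe3 ye31 ze1) (ke xe13 ye7 ze51) (ke xe7 ye11 ze58) (ke xe3 ye26 ze22) (ke xe13 ye7 ze52) (ke xe13 ye7 ze53) (ke xe3 ye26 ze24) (ke xe13 ye5 ze44) (ke xe6 ye1 ze22) (ke xe3 ye26 ze27) (ke xe13 ye7 ze61) (ke xe3 ye26 ze28) (ke xe3 ye26 ze29) (ke xe13 ye8 ze7) (ke xe13 ye8 ze11) (ke xe11 ye30 ze9) (ke xe7 ye16 ze19) (ke xe13 ye8 ze18) (ke xe11 ye40 ze56) (ke xe3 ye26 ze35) (ke xe7 ye53 ze10) (ke xe13 ye8 ze26) (ke xe13 ye8 ze29) (ke xe3 ye26 ze33) (ke xe13 ye8 ze31) (ke xe3 ye26 ze34)) (@D3.rec (fun _ => Pt) (ke xe13 ye8 ze35) (ke xe13 ye8 ze37) (ke xe13 ye8 ze22) (ke xe13 ye8 ze40) (ke xe7 ye6 ze57) (ke xe13 ye8 ze43) (ke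 xe3 ye41 ze9) (ke xe6 ye57 ze42) (ke xe3 ye32 ze7) (ke xe7 ye5 ze27) (ke xe13 ye8 ze47) (ke xe13 ye8 ze48) (ke xe13 ye8 ze50) (ke xe13 ye8 ze52) (ke xe3 ye26 ze40) (ke xe3 ye26 ze41) (ke xe13 ye8 ze56) (ke xe3 ye26 ze44) (ke xe6 ye58 ze54) (ke xe7 ye3 ze19) (ke xe6 ye51 ze27) (ke xe7 ye3 ze14) (ke xe3 ye26 ze47) (ke xe3 ye26 ze48) (ke xe13 ye9 ze2) (ke xe3 ye26 ze49) (ke xe7 ye26 ze21) (ke xe13 ye9 ze4) (ke xe7 ye11 ze2) (ke xe9 ye17 ze12) (ke xe11 ye20 ze3) (ke xe3 ye26 ze54) (ke xe7 ye53 ze22) (ke xe7 ye26 ze17) (ke xe13 ye9 ze15) (ke xe13 ye9 ze19) (ke xe13 ye9 ze20) (ke xe3 ye26 ze53) (ke xe13 ye9 ze22) (ke xe13 ye9 ze25) (ke xe13 ye9 ze13) (ke xe13 ye9 ze30) (ke xe13 ye9 ze32) (ke xe13 ye9 ze33) (ke xe3 ye26 ze56) (ke xe13 ye9 ze36) (ke xe3 ye26 ze58) (ke xe3 ye40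 ze55) (ke xe13 ye9 ze39) (ke xe6 ye51 ze30) (ke xe13 ye9 ze45) (ke xe7 ye5 ze6) (ke xe13 ye9 ze47) (ke xe3 ye26 ze61) (ke xe13 ye9 ze49) (ke xe13 ye9 ze50) (ke xe3 ye27 ze0) (ke xe3 ye27 ze1) (ke xe3 ye27 ze2) (ke xe12 ye11 ze10) (ke xe13 ye9 ze57) (ke xe13 ye9 ze60)) (@D3.rec (fun _ => Pt) (ke xe3 ye27 ze3) (ke xe13 ye10 ze5) (ke xe13 ye10 ze9) (ke xe13 ye10 ze1) (ke xe7 ye16 ze23) (ke xe6 ye8 ze36) (ke xe13 ye10 ze17) (ke xe6 ye8 ze39) (ke xe3 ye27 ze7) (ke xe7 ye42 ze50) (ke xe13 ye10 ze22) (ke xe13 ye10 ze19) (ke xe13 ye10 ze27) (ke xe13 ye10 ze28) (ke xe3 ye27 ze9) (ke xe3 ye27 ze10) (ke xe3 ye27 ze11) (ke xe13 ye4 ze33) (ke xe13 ye10 ze35) (ke xe6 ye33 ze14) (ke xe7 ye11 ze8) (ke xe13 ye10 ze37) (ke xe13 ye10 ze40) (ke xe3 ye27 ze14) (ke xe7 ye37 ze32) (ke xe13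 ye10 ze42) (ke xe13 ye10 ze44) (ke xe13 ye10 ze41) (ke xe8 ye26 ze35) (ke xe13 ye10 ze46) (ke xe3 ye27 ze16) (ke xe9 ye25 ze61) (ke xe13 ye10 ze50) (ke xe7 ye1 ze52) (ke xe7 ye43 ze7) (ke xe6 ye52 ze56) (ke xe13 ye10 ze58) (ke xe11 ye26 ze19) (ke xe8 ye0 ze48) (ke xe3 ye27 ze19) (ke xe5 ye57 ze50) (ke xe6 ye6 ze7) (ke xe9 ye29 ze20) (ke xe13 ye11 ze8) (ke xe6 ye57 ze3) (ke xe3 ye27 ze30) (ke xe7 ye43 ze28) (ke xe13 ye11 ze18) (ke xe13 ye11 ze19) (ke xe13 ye11 ze23) (ke xe3 ye27 ze22) (ke xe13 ye11 ze30) (ke xe13 ye11 ze32) (ke xe3 ye52 ze37) (ke xe3 ye27 ze23) (ke xe13 ye11 ze38) (ke xe7 ye10 ze38) (ke xe7 ye43 ze37) (ke xe13 ye11 ze41) (ke xe13 ye11 ze45) (ke xe3 ye27 ze25) (ke xe13 ye11 ze50)) (@D3.rec (fun _ => Pt) (ke xe3 ye27 ze26) (ke xe13 ye11 ze52) (ke xe13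 ye11 ze58) (ke xe6 ye56 ze44) (ke xe13 ye6 ze14) (ke xe3 ye27 ze28) (ke xe13 ye12 ze7) (ke xe13 ye12 ze9) (ke xe7 ye1 ze53) (ke xe3 ye27 ze29) (ke xe13 ye12 ze13) (ke xe13 ye12 ze15) (ke xe13 ye11 ze13) (ke xe13 ye12 ze21) (ke xe13 ye12 ze22) (ke xe3 ye27 ze31) (ke xe3 ye37 ze22) (ke xe3 ye52 ze10) (ke xe3 ye27 ze33) (ke xe3 ye32 ze13) (ke xe7 ye53 ze29) (ke xe13 ye12 ze31) (ke xe7 ye47 ze15) (ke xe13 ye12 ze35) (ke xe13 ye12 ze38) (ke xe3 ye27 ze36) (ke xe13 ye12 ze43) (ke xe13 ye12 ze46) (ke xe3 ye27 ze37) (ke xe3 ye40 ze21) (ke xe13 ye3 ze44) (ke xe3 ye42 ze48) (ke xe3 ye42 ze50) (ke xe3 ye55 ze44) (ke xe13 ye12 ze60) (ke xe13 ye12 ze61) (ke xe3 ye27 ze40) (ke xe3 ye51 ze57) (ke xe3 ye27 ze43) (ke xe13 ye13 ze3) (ke xe13 ye13 ze7) (ke xe3 ye27 ze44) (ke xe6 ye55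 ze7) (ke xe3 ye28 ze31) (ke xe3 ye42 ze22) (ke xe7 ye25 ze35) (ke xe7 ye37 ze7) (ke xe13 ye13 ze12) (ke xe13 ye13 ze16) (ke xe3 ye27 ze47) (ke xe13 ye13 ze20) (ke xe3 ye27 ze48) (ke xe7 ye26 ze9) (ke xe13 ye13 ze23) (ke xe6 ye54 ze32) (ke xe13 ye12 ze49) (ke xe9 ye32 ze41) (ke xe13 ye13 ze31) (ke xe3 ye27 ze52) (ke xe7 ye54 ze39) (ke xe13 ye13 ze36) (ke xe3 ye55 ze13)) (@D3.rec (fun _ => Pt) (ke xe13 ye13 ze41) (ke xe7 ye54 ze29) (ke xe13 ye13 ze46) (ke xe7 ye48 ze38) (ke xe3 ye56 ze12) (ke xe13 ye13 ze50) (ke xe13 ye13 ze52) (ke xe3 ye27 ze58) (ke xe7 ye7 ze5) (ke xe10 ye14 ze53) (ke xe13 ye14 ze0) (ke xe12 ye2 ze42) (ke xe3 ye27 ze60) (ke xe3 ye53 ze50) (ke xe7 ye7 ze56) (ke xe10 ye3 ze40) (ke xe13 ye14 ze8) (ke xe13 ye14 ze11) (ke xe6 ye40 ze44) (ke xe3 ye28 ze2)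 (ke xe3 ye36 ze20) (ke xe12 ye38 ze29) (ke xe3 ye28 ze51) (ke xe3 ye31 ze7) (ke xe13 ye14 ze19) (ke xe3 ye36 ze25) (ke xe7 ye13 ze48) (ke xe10 ye3 ze19) (ke xe13 ye14 ze28) (ke xe13 ye14 ze30) (ke xe3 ye28 ze8) (ke xe7 ye14 ze22) (ke xe10 ye15 ze11) (ke xe13 ye14 ze36) (ke xe13 ye14 ze38) (ke xe13 ye14 ze42) (ke xe3 ye28 ze11) (ke xe3 ye53 ze33) (ke xe3 ye32 ze49) (ke xe13 ye14 ze45) (ke xe7 ye51 ze6) (ke xe13 ye4 ze50) (ke xe7 ye13 ze19) (ke xe3 ye28 ze15) (ke xe3 ye52 ze17) (ke xe7 ye24 ze47) (ke xe7 ye41 ze32) (ke xe3 ye29 ze9) (ke xe3 ye30 ze58) (ke xe3 ye34 ze9) (ke xe7 ye13 ze60) (ke xe3 ye33 ze10) (ke xe7 ye13 ze9) (ke xe13 ye15 ze9) (ke xe6 ye55 ze18) (ke xe3 ye44 ze53) (ke xe3 ye28 ze29) (ke xe7 ye15 ze6) (ke xe9 ye20 ze41) (ke xe3 ye28 ze33) (ke xe3 ye45 ze22)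 (ke xe12 ye39 ze1)) (@D3.rec (fun _ => Pt) (ke xe3 ye28 ze34) (ke xe6 ye20 ze45) (ke xe3 ye28 ze37) (ke xe6 ye21 ze11) (ke xe13 ye15 ze16) (ke xe6 ye27 ze9) (ke xe7 ye48 ze52) (ke xe6 ye59 ze25) (ke xe8 ye23 ze7) (ke xe3 ye28 ze45) (ke xe7 ye13 ze54) (ke xe13 ye15 ze24) (ke xe13 ye15 ze28) (ke xe13 ye15 ze29) (ke xe3 ye28 ze48) (ke xe13 ye15 ze35) (ke xe8 ye45 ze55) (ke xe7 ye15 ze11) (ke xe13 ye15 ze43) (ke xe13 ye14 ze15) (ke xe13 ye15 ze46) (ke xe3 ye28 ze50) (ke xe13 ye15 ze50) (ke xe7 ye39 ze23) (ke xe13 ye15 ze55) (ke xe6 ye59 ze7) (ke xe6 ye28 ze5) (ke xe6 ye21 ze25) (ke xe3 ye28 ze58) (ke xe7 ye48 ze54) (ke xe13 ye15 ze57) (ke xe13 ye16 ze2) (ke xe7 ye19 ze50) (ke xe3 ye28 ze59) (ke xe13 ye16 ze4) (ke xe3 ye35 ze39) (ke xe7 ye40 ze39) (ke xe13 ye16 ze14) (ke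 xe13 ye16 ze16) (ke xe13 ye16 ze18) (ke xe13 ye16 ze20) (ke xe3 ye28 ze61) (ke xe13 ye16 ze24) (ke xe13 ye16 ze25) (ke xe3 ye29 ze0) (ke xe13 ye16 ze28) (ke xe13 ye16 ze29) (ke xe3 ye29 ze1) (ke xe3 ye29 ze2) (ke xe5 ye54 ze46) (ke xe3 ye29 ze3) (ke xe13 ye16 ze42) (ke xe13 ye16 ze46) (ke xe5 ye54 ze7) (ke xe13 ye14 ze55) (ke xe7 ye45 ze10) (ke xe13 ye16 ze50) (ke xe3 ye29 ze8) (ke xe7 ye41 ze33) (ke xe13 ye16 ze56) (ke xe13 ye16 ze58) (ke xe3 ye29 ze6))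
def f_e_7 : D2 → D3 → Pt := @D2.rec (fun _ => D3 → Pt) (@D3.rec (fun _ => Pt) (ke xe7 ye15 ze40) (ke xe13 ye17 ze1) (ke xe13 ye17 ze4) (ke xe12 ye23 ze0) (ke xe13 ye17 ze6) (ke xe3 ye34 ze11) (ke xe3 ye29 ze10) (ke xe3 ye45 ze51) (ke xe13 ye17 ze10) (ke xe13 ye17 ze12) (ke xe3 ye29 ze11) (ke xe3 ye34 ze16) (ke xe3 ye30 ze60) (ke xe13 ye17 ze18) (ke xe3 ye30 ze61) (ke xe3 ye29 ze19) (ke xe13 ye17 ze21) (ke xe13 ye15 ze52) (ke xe13 ye17 ze23) (ke xe3 ye29 ze20) (ke xe7 ye38 ze20) (ke xe3 ye30 ze40) (ke xe3 ye29 ze22) (ke xe7 ye38 ze24) (ke xe13 ye17 ze35) (ke xe13 ye17 ze38) (ke xe9 ye28 ze34) (ke xe13 ye17 ze43) (ke xe3 ye29 ze25) (ke xe13 ye17 ze46) (ke xe3 ye29 ze26) (ke xe13 ye17 ze50) (ke xe13 ye17 ze53) (ke xe3 ye29 ze29) (ke xe13 ye17 ze59) (ke xe13 ye17 ze60)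 (ke xe3 ye29 ze28) (ke xe13 ye18 ze0) (ke xe13 ye18 ze2) (ke xe3 ye34 ze23) (ke xe11 ye49 ze50) (ke xe13 ye18 ze3) (ke xe13 ye18 ze4) (ke xe7 ye59 ze59) (ke xe3 ye29 ze31) (ke xe3 ye29 ze32) (ke xe13 ye18 ze8) (ke xe3 ye29 ze34) (ke xe3 ye29 ze35) (ke xe13 ye18 ze10) (ke xe3 ye29 ze37) (ke xe3 ye29 ze38) (ke xe3 ye29 ze39) (ke xe3 ye29 ze40) (ke xe13 ye18 ze23) (ke xe13 ye18 ze25) (ke xe13 ye18 ze19) (ke xe3 ye34 ze28) (ke xe13 ye18 ze32) (ke xe9 ye23 ze48) (ke xe3 ye29 ze45) (ke xe3 ye46 ze48)) (@D3.rec (fun _ => Pt) (ke xe13 ye18 ze39) (ke xe13 ye18 ze41) (ke xe3 ye29 ze43) (ke xe13 ye18 ze45) (ke xe13 ye18 ze47) (ke xe3 ye29 ze44) (ke xe13 ye18 ze50) (ke xe13 ye18 ze53) (ke xe13 ye18 ze36) (ke xe10 ye25 ze52) (ke xe13 ye18 ze58) (ke xe13 ye18 ze60) (ke xe3 ye29 ze47)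 (ke xe13 ye19 ze0) (ke xe3 ye29 ze49) (ke xe13 ye19 ze4) (ke xe13 ye19 ze6) (ke xe3 ye29 ze50) (ke xe13 ye19 ze8) (ke xe3 ye29 ze51) (ke xe13 ye19 ze11) (ke xe3 ye29 ze52) (ke xe13 ye19 ze13) (ke xe3 ye29 ze53) (ke xe13 ye19 ze20) (ke xe12 ye48 ze6) (ke xe13 ye19 ze15) (ke xe13 ye19 ze27) (ke xe13 ye19 ze29) (ke xe3 ye29 ze56) (ke xe3 ye51 ze20) (ke xe11 ye48 ze34) (ke xe3 ye29 ze57) (ke xe13 ye19 ze33) (ke xe3 ye29 ze58) (ke xe3 ye29 ze59) (ke xe3 ye29 ze60) (ke xe13 ye19 ze44) (ke xe13 ye19 ze46) (ke xe13 ye19 ze41) (ke xe7 ye9 ze61) (ke xe13 ye19 ze52) (ke xe6 ye0 ze29) (ke xe3 ye30 ze1) (ke xe3 ye51 ze26) (ke xe13 ye19 ze59) (ke xe13 ye19 ze61) (ke xe13 ye19 ze57) (ke xe13 ye20 ze3) (ke xe13 ye20 ze4) (ke xe13 ye20 ze5) (ke xe3 ye30 ze3) (ke xe6 ye56 ze33) (ke xe6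 ye57 ze8) (ke xe7 ye15 ze45) (ke xe4 ye46 ze43) (ke xe6 ye51 ze37) (ke xe4 ye58 ze29) (ke xe13 ye20 ze19) (ke xe13 ye20 ze22) (ke xe3 ye30 ze8) (ke xe13 ye20 ze26)) (@D3.rec (fun _ => Pt) (ke xe11 ye45 ze45) (ke xe3 ye30 ze9) (ke xe13 ye20 ze30) (ke xe13 ye20 ze33) (ke xe4 ye59 ze1) (ke xe13 ye20 ze38) (ke xe11 ye49 ze27) (ke xe13 ye20 ze40) (ke xe5 ye56 ze29) (ke xe13 ye20 ze41) (ke xe13 ye20 ze42) (ke xe13 ye20 ze43) (ke xe3 ye30 ze14) (ke xe13 ye20 ze46) (ke xe13 ye20 ze47) (ke xe13 ye20 ze48) (ke xe3 ye30 ze15) (ke xe13 ye20 ze53) (ke xe13 ye20 ze54) (ke xe3 ye30 ze29) (ke xe13 ye20 ze57) (ke xe3 ye30 ze17) (ke xe13 ye20 ze61) (ke xe13 ye21 ze1) (ke xe3 ye30 ze34) (ke xe13 ye19 ze3) (ke xe13 ye21 ze8) (ke xe13 ye21 ze10) (ke xe13 ye21 ze14) (ke xe3 ye30 ze19) (ke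 xe7 ye37 ze40) (ke xe7 ye37 ze37) (ke xe3 ye30 ze20) (ke xe13 ye21 ze21) (ke xe13 ye21 ze23) (ke xe13 ye21 ze27) (ke xe3 ye30 ze21) (ke xe7 ye11 ze1) (ke xe13 ye21 ze30) (ke xe7 ye13 ze14) (ke xe13 ye19 ze36) (ke xe13 ye21 ze36) (ke xe7 ye52 ze50) (ke xe13 ye21 ze42) (ke xe3 ye30 ze23) (ke xe3 ye31 ze13) (ke xe13 ye21 ze47) (ke xe3 ye30 ze25) (ke xe13 ye21 ze50) (ke xe13 ye21 ze55) (ke xe13 ye21 ze57) (ke xe3 ye30 ze27) (ke xe9 ye45 ze16) (ke xe9 ye45 ze26) (ke xe3 ye30 ze28) (ke xe13 ye22 ze5) (ke xe13 ye22 ze6) (ke xe7 ye22 ze49) (ke xe13 ye22 ze11) (ke xe13 ye22 ze12) (ke xe3 ye30 ze30) (ke xe13 ye22 ze15)) (@D3.rec (fun _ => Pt) (ke xe13 ye22 ze18) (ke xe13 ye22 ze21) (ke xe3 ye30 ze32) (ke xe13 ye22 ze23) (ke xe13 ye22 ze25) (ke xe3 ye30 ze33) (ke xe13 ye22 ze28)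 (ke xe13 ye22 ze31) (ke xe13 ye21 ze4) (ke xe13 ye7 ze50) (ke xe3 ye30 ze36) (ke xe13 ye22 ze38) (ke xe13 ye22 ze40) (ke xe3 ye30 ze37) (ke xe6 ye55 ze21) (ke xe7 ye15 ze46) (ke xe3 ye30 ze38) (ke xe13 ye22 ze42) (ke xe3 ye32 ze54) (ke xe6 ye55 ze19) (ke xe13 ye17 ze27) (ke xe13 ye22 ze48) (ke xe13 ye22 ze52) (ke xe3 ye30 ze41) (ke xe13 ye22 ze58) (ke xe11 ye15 ze15) (ke xe13 ye22 ze61) (ke xe3 ye30 ze42) (ke xe7 ye40 ze15) (ke xe13 ye23 ze2) (ke xe7 ye13 ze13) (ke xe7 ye13 ze17) (ke xe7 ye15 ze30) (ke xe13 ye23 ze13) (ke xe13 ye23 ze14) (ke xe3 ye30 ze45) (ke xe3 ye32 ze55) (ke xe3 ye32 ze10) (ke xe3 ye30 ze51) (ke xe13 ye23 ze20) (ke xe11 ye20 ze49) (ke xe3 ye30 ze52) (ke xe3 ye34 ze25) (ke xe7 ye5 ze10) (ke xe3 ye32 ze21) (ke xe7 ye48 ze3) (ke xe7 ye12 ze28) (ke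 xe13 ye18 ze14) (ke xe11 ye32 ze13) (ke xe13 ye23 ze26) (ke xe3 ye30 ze55) (ke xe13 ye23 ze30) (ke xe3 ye30 ze56) (ke xe7 ye47 ze32) (ke xe13 ye23 ze33) (ke xe13 ye15 ze0) (ke xe13 ye23 ze41) (ke xe7 ye18 ze29) (ke xe7 ye15 ze29) (ke xe13 ye17 ze19) (ke xe13 ye23 ze48) (ke xe7 ye15 ze33)) (@D3.rec (fun _ => Pt) (ke xe13 ye23 ze52) (ke xe13 ye23 ze54) (ke xe3 ye31 ze2) (ke xe3 ye31 ze4) (ke xe13 ye23 ze60) (ke xe13 ye23 ze61) (ke xe3 ye31 ze5) (ke xe13 ye14 ze17) (ke xe7 ye13 ze0) (ke xe13 ye24 ze7) (ke xe13 ye24 ze9) (ke xe3 ye31 ze9) (ke xe6 ye52 ze19) (ke xe3 ye54 ze35) (ke xe7 ye9 ze33) (ke xe6 ye52 ze8) (ke xe13 ye24 ze18) (ke xe13 ye24 ze21) (ke xe3 ye31 ze14) (ke xe7 ye10 ze58) (ke xe13 ye24 ze26) (ke xe13 ye24 ze28) (ke xe3 ye31 ze18) (ke xe13 ye24 ze33) (ke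 xe13 ye24 ze35) (ke xe7 ye27 ze50) (ke xe13 ye24 ze38) (ke xe13 ye24 ze41) (ke xe13 ye24 ze43) (ke xe3 ye31 ze23) (ke xe7 ye11 ze7) (ke xe7 ye28 ze42) (ke xe6 ye53 ze43) (ke xe13 ye24 ze51) (ke xe13 ye24 ze55) (ke xe13 ye24 ze58) (ke xe13 ye24 ze61) (ke xe13 ye25 ze4) (ke xe3 ye31 ze28) (ke xe3 ye40 ze40) (ke xe7 ye11 ze18) (ke xe12 ye18 ze49) (ke xe3 ye38 ze3) (ke xe7 ye5 ze11) (ke xe7 ye5 ze2) (ke xe13 ye25 ze14) (ke xe3 ye40 ze44) (ke xe7 ye9 ze11) (ke xe7 ye11 ze17) (ke xe7 ye5 ze12) (ke xe3 ye37 ze41) (ke xe7 ye22 ze22) (ke xe13 ye25 ze22) (ke xe13 ye25 ze25) (ke xe13 ye25 ze27) (ke xe3 ye31 ze38) (ke xe3 ye43 ze43) (ke xe7 ye23 ze11) (ke xe13 ye25 ze34) (ke xe13 ye25 ze36) (ke xe13 ye25 ze39) (ke xe13 ye25 ze42)) (@D3.rec (fun _ => Pt) (ke xe13 ye25 ze47) (ke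 xe3 ye31 ze43) (ke xe7 ye4 ze44) (ke xe3 ye35 ze13) (ke xe13 ye25 ze50) (ke xe3 ye31 ze55) (ke xe6 ye55 ze51) (ke xe3 ye35 ze12) (ke xe7 ye16 ze35) (ke xe13 ye25 ze61) (ke xe7 ye3 ze43) (ke xe7 ye4 ze43) (ke xe7 ye4 ze49) (ke xe3 ye40 ze13) (ke xe7 ye41 ze4) (ke xe13 ye26 ze6) (ke xe7 ye26 ze7) (ke xe13 ye26 ze10) (ke xe13 ye25 ze56) (ke xe13 ye26 ze14) (ke xe7 ye54 ze30) (ke xe13 ye26 ze19) (ke xe7 ye54 ze32) (ke xe13 ye26 ze24) (ke xe13 ye26 ze26) (ke xe13 ye26 ze28) (ke xe3 ye31 ze59) (ke xe6 ye55 ze9) (ke xe3 ye32 ze4) (ke xe3 ye44 ze45) (ke xe3 ye51 ze8) (ke xe13 ye26 ze35) (ke xe12 ye34 ze58) (ke xe3 ye32 ze14) (ke xe3 ye32 ze15) (ke xe13 ye26 ze37) (ke xe3 ye32 ze17) (ke xe13 ye26 ze39) (ke xe3 ye32 ze18) (ke xe13 ye26 ze41) (ke xe13 ye26 ze43) (ke xe7 ye12 ze6)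 (ke xe3 ye32 ze20) (ke xe13 ye23 ze22) (ke xe13 ye26 ze51) (ke xe13 ye26 ze55) (ke xe13 ye26 ze57) (ke xe3 ye32 ze22) (ke xe13 ye26 ze61) (ke xe13 ye27 ze2) (ke xe7 ye56 ze44) (ke xe8 ye46 ze24) (ke xe13 ye27 ze9) (ke xe13 ye27 ze11) (ke xe3 ye32 ze25) (ke xe7 ye9 ze26) (ke xe3 ye48 ze1) (ke xe13 ye27 ze16) (ke xe7 ye47 ze43) (ke xe7 ye47 ze46) (ke xe3 ye49 ze34) (ke xe7 ye47 ze50)) (@D3.rec (fun _ => Pt) (ke xe7 ye38 ze8) (ke xe12 ye51 ze19) (ke xe13 ye27 ze30) (ke xe3 ye32 ze33) (ke xe3 ye32 ze35) (ke xe3 ye32 ze36) (ke xe13 ye27 ze36) (ke xe4 ye39 ze56) (ke xe7 ye12 ze34) (ke xe3 ye32 ze41) (ke xe13 ye27 ze40) (ke xe13 ye27 ze42) (ke xe3 ye32 ze40) (ke xe13 ye27 ze43) (ke xe12 ye38 ze10) (ke xe13 ye27 ze38) (ke xe13 ye27 ze46) (ke xe13 ye27 ze48) (ke xe13 ye27 ze50)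 (ke xe3 ye32 ze43) (ke xe13 ye27 ze52) (ke xe13 ye27 ze53) (ke xe13 ye27 ze55) (ke xe3 ye32 ze45) (ke xe4 ye39 ze34) (ke xe3 ye32 ze46) (ke xe13 ye15 ze4) (ke xe13 ye28 ze5) (ke xe13 ye27 ze59) (ke xe7 ye12 ze61) (ke xe4 ye2 ze9) (ke xe8 ye1 ze1) (ke xe3 ye32 ze51) (ke xe7 ye8 ze20) (ke xe13 ye14 ze48) (ke xe13 ye28 ze17) (ke xe13 ye28 ze21) (ke xe13 ye28 ze23) (ke xe3 ye32 ze50) (ke xe13 ye28 ze26) (ke xe13 ye28 ze29) (ke xe13 ye28 ze13) (ke xe13 ye28 ze34) (ke xe7 ye13 ze8) (ke xe7 ye18 ze30) (ke xe13 ye28 ze40) (ke xe13 ye23 ze16) (ke xe13 ye28 ze43) (ke xe3 ye32 ze59) (ke xe13 ye28 ze47) (ke xe3 ye52 ze29) (ke xe13 ye28 ze52) (ke xe13 ye28 ze57) (ke xe13 ye28 ze58) (ke xe3 ye32 ze58) (ke xe6 ye54 ze21) (ke xe13 ye29 ze3) (ke xe6 ye55 ze4) (ke xe13 ye29 ze7) (ke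 xe3 ye32 ze60) (ke xe3 ye32 ze61) (ke xe3 ye44 ze61)) (@D3.rec (fun _ => Pt) (ke xe13 ye26 ze45) (ke xe3 ye33 ze4) (ke xe8 ye45 ze58) (ke xe13 ye15 ze31) (ke xe8 ye1 ze3) (ke xe6 ye58 ze8) (ke xe4 ye20 ze10) (ke xe3 ye33 ze7) (ke xe4 ye24 ze41) (ke xe4 ye24 ze51) (ke xe3 ye33 ze11) (ke xe3 ye57 ze20) (ke xe13 ye29 ze29) (ke xe13 ye29 ze31) (ke xe3 ye33 ze9) (ke xe13 ye4 ze30) (ke xe13 ye29 ze34) (ke xe13 ye29 ze37) (ke xe13 ye29 ze40) (ke xe10 ye39 ze11) (ke xe13 ye29 ze45) (ke xe13 ye29 ze47) (ke xe13 ye29 ze48) (ke xe3 ye33 ze13) (ke xe3 ye46 ze18) (ke xe7 ye33 ze23) (ke xe3 ye38 ze9) (ke xe13 ye29 ze56) (ke xe13 ye29 ze57) (ke xe13 ye29 ze58) (ke xe13 ye29 ze59) (ke xe3 ye33 ze17) (ke xe13 ye17 ze44) (ke xe3 ye33 ze19) (ke xe3 ye33 ze20) (ke xe4 ye37 ze1) (ke xe13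 ye30 ze3) (ke xe5 ye42 ze34) (ke xe3 ye57 ze42) (ke xe12 ye5 ze20) (ke xe3 ye33 ze25) (ke xe4 ye32 ze55) (ke xe5 ye4 ze4) (ke xe3 ye33 ze24) (ke xe13 ye30 ze12) (ke xe13 ye30 ze15) (ke xe13 ye30 ze8) (ke xe13 ye30 ze19) (ke xe3 ye33 ze26) (ke xe13 ye30 ze21) (ke xe3 ye33 ze27) (ke xe3 ye33 ze28) (ke xe3 ye33 ze29) (ke xe13 ye30 ze29) (ke xe13 ye24 ze1) (ke xe9 ye2 ze31) (ke xe6 ye58 ze14) (ke xe3 ye57 ze47) (ke xe8 ye48 ze28) (ke xe3 ye33 ze33) (ke xe13 ye30 ze42) (ke xe13 ye30 ze43)) (@D3.rec (fun _ => Pt) (ke xe13 ye30 ze40) (ke xe13 ye30 ze48) (ke xe3 ye33 ze35) (ke xe3 ye33 ze36) (ke xe6 ye14 ze53) (ke xe13 ye30 ze53) (ke xe6 ye14 ze26) (ke xe4 ye25 ze13) (ke xe4 ye25 ze27) (ke xe3 ye33 ze40) (ke xe3 ye57 ze23) (ke xe13 ye31 ze0) (ke xe13 ye31 ze2) (ke xe10 ye16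 ze59) (ke xe3 ye39 ze24) (ke xe6 ye14 ze8) (ke xe3 ye33 ze43) (ke xe5 ye12 ze56) (ke xe12 ye6 ze10) (ke xe3 ye36 ze21) (ke xe7 ye6 ze33) (ke xe6 ye14 ze35) (ke xe8 ye3 ze39) (ke xe13 ye31 ze20) (ke xe3 ye33 ze45) (ke xe3 ye57 ze17) (ke xe13 ye31 ze24) (ke xe13 ye31 ze26) (ke xe13 ye31 ze28) (ke xe3 ye33 ze59) (ke xe13 ye31 ze32) (ke xe7 ye14 ze39) (ke xe13 ye31 ze36) (ke xe7 ye12 ze51) (ke xe13 ye31 ze41) (ke xe3 ye33 ze49) (ke xe3 ye49 ze3) (ke xe6 ye52 ze61) (ke xe3 ye33 ze50) (ke xe13 ye31 ze47) (ke xe13 ye31 ze49) (ke xe13 ye31 ze54) (ke xe3 ye33 ze51) (ke xe13 ye31 ze57) (ke xe7 ye14 ze46) (ke xe13 ye32 ze1) (ke xe13 ye32 ze3) (ke xe13 ye32 ze6) (ke xe3 ye33 ze53) (ke xe6 ye52 ze6) (ke xe3 ye33 ze54) (ke xe13 ye32 ze13) (ke xe3 ye33 ze55) (ke xe13 ye21 ze13) (ke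 xe3 ye53 ze49) (ke xe13 ye32 ze20) (ke xe13 ye32 ze24) (ke xe13 ye4 ze16) (ke xe3 ye33 ze57) (ke xe13 ye32 ze31) (ke xe13 ye32 ze34) (ke xe3 ye35 ze29)) (@D3.rec (fun _ => Pt) (ke xe3 ye33 ze58) (ke xe13 ye32 ze39) (ke xe13 ye32 ze42) (ke xe11 ye41 ze36) (ke xe13 ye32 ze49) (ke xe13 ye32 ze50) (ke xe3 ye33 ze60) (ke xe3 ye44 ze52) (ke xe3 ye34 ze0) (ke xe7 ye55 ze11) (ke xe13 ye32 ze57) (ke xe7 ye4 ze47) (ke xe3 ye44 ze46) (ke xe7 ye45 ze44) (ke xe7 ye15 ze8) (ke xe13 ye33 ze1) (ke xe7 ye15 ze10) (ke xe13 ye33 ze5) (ke xe13 ye33 ze9) (ke xe3 ye34 ze5) (ke xe13 ye33 ze14) (ke xe13 ye33 ze17) (ke xe13 ye33 ze19) (ke xe3 ye34 ze6) (ke xe7 ye15 ze24) (ke xe13 ye33 ze22) (ke xe7 ye5 ze55) (ke xe13 ye17 ze13) (ke xe9 ye21 ze20) (ke xe13 ye33 ze31) (ke xe13 ye33 ze35) (ke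 xe13 ye33 ze37) (ke xe3 ye34 ze10) (ke xe7 ye4 ze14) (ke xe13 ye17 ze7) (ke xe3 ye56 ze50) (ke xe7 ye15 ze18) (ke xe13 ye33 ze42) (ke xe13 ye33 ze46) (ke xe3 ye34 ze13) (ke xe13 ye33 ze51) (ke xe3 ye34 ze14) (ke xe13 ye33 ze54) (ke xe3 ye56 ze51) (ke xe13 ye17 ze15) (ke xe13 ye33 ze61) (ke xe3 ye48 ze10) (ke xe13 ye4 ze3) (ke xe3 ye48 ze37) (ke xe10 ye46 ze8) (ke xe13 ye4 ze15) (ke xe3 ye50 ze10) (ke xe3 ye50 ze12) (ke xe13 ye34 ze5) (ke xe13 ye34 ze7) (ke xe13 ye34 ze9) (ke xe13 ye34 ze11) (ke xe3 ye34 ze22) (ke xe3 ye34 ze24) (ke xe7 ye18 ze6) (ke xe13 ye34 ze19) (ke xe7 ye1 ze40)) (@D3.rec (fun _ => Pt) (ke xe13 ye23 ze37) (ke xe13 ye23 ze28) (ke xe13 ye18 ze17) (ke xe13 ye34 ze31) (ke xe3 ye34 ze29) (ke xe13 ye34 ze38) (ke xe3 ye34 ze30) (ke xe3 ye53 ze10) (ke xe3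 ye39 ze14) (ke xe3 ye49 ze26) (ke xe7 ye48 ze24) (ke xe13 ye34 ze41) (ke xe13 ye34 ze43) (ke xe3 ye34 ze32) (ke xe3 ye34 ze33) (ke xe3 ye53 ze19) (ke xe13 ye34 ze49) (ke xe3 ye44 ze40) (ke xe3 ye47 ze6) (ke xe13 ye34 ze55) (ke xe13 ye34 ze2) (ke xe13 ye34 ze60) (ke xe7 ye20 ze38) (ke xe13 ye35 ze4) (ke xe3 ye34 ze37) (ke xe3 ye34 ze38) (ke xe13 ye35 ze9) (ke xe3 ye50 ze35) (ke xe13 ye35 ze18) (ke xe13 ye35 ze20) (ke xe13 ye35 ze24) (ke xe3 ye34 ze40) (ke xe3 ye34 ze41) (ke xe13 ye35 ze31) (ke xe3 ye44 ze37) (ke xe6 ye54 ze24) (ke xe3 ye44 ze44) (ke xe13 ye35 ze39) (ke xe6 ye56 ze56) (ke xe7 ye47 ze7) (ke xe13 ye35 ze44) (ke xe13 ye35 ze46) (ke xe13 ye35 ze49) (ke xe13 ye35 ze51) (ke xe3 ye34 ze46) (ke xe13 ye35 ze56) (ke xe13 ye35 ze59) (ke xe3 ye34 ze48) (ke xe13 ye36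 ze4) (ke xe3 ye34 ze49) (ke xe13 ye36 ze12) (ke xe13 ye36 ze16) (ke xe13 ye36 ze17) (ke xe3 ye34 ze51) (ke xe13 ye36 ze22) (ke xe13 ye36 ze25) (ke xe8 ye57 ze5) (ke xe3 ye34 ze53) (ke xe7 ye4 ze19) (ke xe3 ye40 ze43) (ke xe13 ye24 ze44) (ke xe3 ye38 ze50)) (@D3.rec (fun _ => Pt) (ke xe13 ye36 ze37) (ke xe7 ye2 ze37) (ke xe6 ye55 ze28) (ke xe13 ye36 ze42) (ke xe13 ye36 ze44) (ke xe13 ye36 ze46) (ke xe3 ye34 ze59) (ke xe7 ye4 ze30) (ke xe6 ye56 ze20) (ke xe13 ye36 ze51) (ke xe13 ye36 ze54) (ke xe13 ye36 ze57) (ke xe13 ye37 ze0) (ke xe3 ye35 ze1) (ke xe3 ye56 ze47) (ke xe3 ye50 ze54) (ke xe13 ye37 ze2) (ke xe7 ye4 ze48) (ke xe7 ye4 ze40) (ke xe13 ye37 ze10) (ke xe3 ye55 ze52) (ke xe6 ye52 ze31) (ke xe12 ye58 ze55) (ke xe13 ye37 ze17) (ke xe7 ye21 ze31) (ke xe13 ye37 ze19)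 (ke xe13 ye25 ze58) (ke xe13 ye25 ze53) (ke xe13 ye37 ze25) (ke xe3 ye35 ze14) (ke xe3 ye47 ze55) (ke xe7 ye20 ze48) (ke xe3 ye55 ze50) (ke xe3 ye52 ze6) (ke xe13 ye37 ze34) (ke xe7 ye54 ze36) (ke xe13 ye7 ze47) (ke xe13 ye37 ze39) (ke xe13 ye37 ze44) (ke xe13 ye37 ze45) (ke xe3 ye35 ze19) (ke xe13 ye37 ze49) (ke xe13 ye37 ze52) (ke xe13 ye37 ze53) (ke xe3 ye35 ze21) (ke xe3 ye35 ze24) (ke xe3 ye35 ze26) (ke xe7 ye16 ze51) (ke xe13 ye37 ze58) (ke xe13 ye37 ze61) (ke xe3 ye35 ze28) (ke xe13 ye32 ze30) (ke xe13 ye38 ze3) (ke xe3 ye35 ze30) (ke xe3 ye54 ze37) (ke xe3 ye35 ze32) (ke xe6 ye53 ze41) (ke xe3 ye35 ze33) (ke xe6 ye54 ze38) (ke xe3 ye35 ze37) (ke xe13 ye29 ze22) (ke xe3 ye35 ze41)) (@D3.rec (fun _ => Pt) (ke xe13 ye38 ze8) (ke xe3 ye35 ze42) (ke xe3 ye35 ze43)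 (ke xe13 ye38 ze17) (ke xe13 ye38 ze21) (ke xe4 ye24 ze31) (ke xe7 ye5 ze41) (ke xe3 ye35 ze45) (ke xe13 ye38 ze28) (ke xe3 ye35 ze46) (ke xe4 ye22 ze46) (ke xe3 ye35 ze50) (ke xe13 ye38 ze34) (ke xe12 ye45 ze44) (ke xe3 ye35 ze48) (ke xe7 ye40 ze32) (ke xe11 ye37 ze50) (ke xe13 ye38 ze40) (ke xe6 ye40 ze10) (ke xe13 ye38 ze30) (ke xe13 ye38 ze42) (ke xe13 ye38 ze45) (ke xe13 ye38 ze47) (ke xe3 ye35 ze52) (ke xe7 ye35 ze6) (ke xe7 ye39 ze22) (ke xe3 ye35 ze57) (ke xe3 ye35 ze60) (ke xe7 ye3 ze46) (ke xe3 ye36 ze0) (ke xe3 ye36 ze3) (ke xe3 ye36 ze4) (ke xe13 ye38 ze52) (ke xe4 ye23 ze58) (ke xe7 ye6 ze8) (ke xe3 ye36 ze10) (ke xe13 ye38 ze57) (ke xe13 ye38 ze59) (ke xe3 ye36 ze8) (ke xe13 ye39 ze1) (ke xe8 ye47 ze6) (ke xe3 ye36 ze9) (ke xe11 ye7 ze11) (ke xe13 ye39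 ze6) (ke xe11 ye41 ze17) (ke xe13 ye39 ze9) (ke xe7 ye39 ze5) (ke xe13 ye39 ze12) (ke xe7 ye47 ze40) (ke xe7 ye35 ze14) (ke xe13 ye39 ze18) (ke xe7 ye8 ze33) (ke xe7 ye39 ze26) (ke xe13 ye39 ze21) (ke xe3 ye36 ze16) (ke xe13 ye39 ze25) (ke xe8 ye1 ze49) (ke xe3 ye36 ze17) (ke xe7 ye30 ze30) (ke xe13 ye39 ze32) (ke xe13 ye31 ze10) (ke xe7 ye6 ze29)) (@D3.rec (fun _ => Pt) (ke xe7 ye4 ze8) (ke xe13 ye39 ze40) (ke xe13 ye14 ze14) (ke xe13 ye39 ze45) (ke xe13 ye39 ze48) (ke xe13 ye39 ze51) (ke xe13 ye31 ze14) (ke xe13 ye39 ze57) (ke xe7 ye6 ze43) (ke xe6 ye58 ze52) (ke xe13 ye40 ze1) (ke xe13 ye14 ze20) (ke xe13 ye40 ze6) (ke xe7 ye3 ze30) (ke xe7 ye2 ze39) (ke xe3 ye36 ze29) (ke xe13 ye40 ze14) (ke xe7 ye3 ze31) (ke xe7 ye33 ze34) (ke xe6 ye58 ze42) (ke xe13 ye40 ze20)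 (ke xe3 ye36 ze30) (ke xe13 ye40 ze24) (ke xe13 ye40 ze25) (ke xe13 ye40 ze26) (ke xe3 ye36 ze31) (ke xe13 ye38 ze26) (ke xe3 ye36 ze33) (ke xe8 ye47 ze13) (ke xe3 ye36 ze35) (ke xe13 ye40 ze35) (ke xe3 ye36 ze36) (ke xe3 ye36 ze37) (ke xe13 ye40 ze38) (ke xe13 ye40 ze42) (ke xe7 ye48 ze4) (ke xe9 ye58 ze58) (ke xe7 ye48 ze56) (ke xe13 ye40 ze49) (ke xe3 ye36 ze40) (ke xe13 ye40 ze52) (ke xe13 ye40 ze54) (ke xe8 ye43 ze56) (ke xe3 ye36 ze42) (ke xe3 ye36 ze44) (ke xe3 ye36 ze45) (ke xe13 ye40 ze58) (ke xe9 ye3 ze7) (ke xe6 ye58 ze26) (ke xe8 ye46 ze59) (ke xe3 ye36 ze51) (ke xe13 ye41 ze2) (ke xe13 ye41 ze6) (ke xe3 ye36 ze49) (ke xe6 ye59 ze10) (ke xe13 ye41 ze11) (ke xe13 ye41 ze12) (ke xe13 ye41 ze14) (ke xe10 ye36 ze27) (ke xe10 ye14 ze50) (ke xe6 ye58 ze50) (ke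 xe13 ye41 ze22)) (@D3.rec (fun _ => Pt) (ke xe13 ye41 ze24) (ke xe3 ye36 ze54) (ke xe13 ye41 ze26) (ke xe13 ye41 ze28) (ke xe3 ye36 ze55) (ke xe5 ye41 ze46) (ke xe3 ye36 ze56) (ke xe5 ye13 ze58) (ke xe4 ye32 ze52) (ke xe12 ye7 ze44) (ke xe13 ye41 ze37) (ke xe7 ye56 ze23) (ke xe4 ye25 ze14) (ke xe8 ye48 ze13) (ke xe3 ye36 ze60) (ke xe5 ye41 ze31) (ke xe13 ye41 ze47) (ke xe13 ye41 ze48) (ke xe13 ye41 ze44) (ke xe3 ye36 ze61) (ke xe13 ye41 ze55) (ke xe7 ye49 ze6) (ke xe6 ye58 ze31) (ke xe13 ye41 ze57) (ke xe13 ye41 ze59) (ke xe8 ye44 ze11) (ke xe13 ye42 ze1) (ke xe10 ye1 ze23) (ke xe3 ye38 ze30) (ke xe4 ye4 ze53) (ke xe10 ye16 ze6) (ke xe13 ye42 ze7) (ke xe3 ye37 ze4) (ke xe6 ye15 ze14) (ke xe13 ye42 ze10) (ke xe13 ye42 ze12) (ke xe13 ye42 ze14) (ke xe3 ye37 ze15) (ke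 xe13 ye42 ze17) (ke xe7 ye8 ze31) (ke xe7 ye49 ze2) (ke xe13 ye42 ze22) (ke xe13 ye42 ze25) (ke xe13 ye42 ze27) (ke xe13 ye42 ze31) (ke xe3 ye37 ze9) (ke xe7 ye8 ze44) (ke xe12 ye7 ze55) (ke xe7 ye54 ze37) (ke xe8 ye50 ze57) (ke xe3 ye37 ze10) (ke xe13 ye42 ze44) (ke xe3 ye37 ze11) (ke xe13 ye42 ze47) (ke xe13 ye42 ze52) (ke xe13 ye42 ze55) (ke xe13 ye38 ze48) (ke xe3 ye37 ze13) (ke xe13 ye43 ze1) (ke xe13 ye43 ze4) (ke xe3 ye38 ze16) (ke xe3 ye37 ze14)) (@D3.rec (fun _ => Pt) (ke xe13 ye43 ze11) (ke xe13 ye43 ze14) (ke xe11 ye47 ze28) (ke xe13 ye43 ze21) (ke xe13 ye43 ze22) (ke xe3 ye37 ze16) (ke xe6 ye58 ze57) (ke xe8 ye27 ze49) (ke xe7 ye9 ze14) (ke xe13 ye43 ze32) (ke xe7 ye9 ze16) (ke xe6 ye59 ze17) (ke xe13 ye43 ze38) (ke xe13 ye43 ze41) (ke xe13 ye43 ze44) (ke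 xe13 ye43 ze46) (ke xe3 ye37 ze20) (ke xe3 ye49 ze16) (ke xe7 ye9 ze36) (ke xe13 ye43 ze52) (ke xe13 ye43 ze56) (ke xe3 ye37 ze25) (ke xe13 ye43 ze60) (ke xe3 ye37 ze26) (ke xe7 ye9 ze24) (ke xe13 ye44 ze1) (ke xe3 ye49 ze29) (ke xe10 ye46 ze7) (ke xe3 ye49 ze54) (ke xe7 ye3 ze58) (ke xe7 ye3 ze32) (ke xe6 ye33 ze35) (ke xe8 ye29 ze14) (ke xe7 ye3 ze61) (ke xe13 ye24 ze15) (ke xe3 ye37 ze33) (ke xe13 ye44 ze10) (ke xe13 ye44 ze11) (ke xe3 ye37 ze34) (ke xe3 ye38 ze20) (ke xe7 ye0 ze0) (ke xe13 ye44 ze17) (ke xe13 ye44 ze23) (ke xe13 ye44 ze24) (ke xe3 ye37 ze38) (ke xe7 ye1 ze54) (ke xe7 ye3 ze15) (ke xe13 ye44 ze28) (ke xe13 ye44 ze30) (ke xe13 ye44 ze32) (ke xe3 ye37 ze40) (ke xe13 ye44 ze36) (ke xe7 ye18 ze37) (ke xe13 ye44 ze37) (ke xe10 ye47 ze20) (ke xe7 ye32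 ze35) (ke xe5 ye18 ze5) (ke xe3 ye37 ze46) (ke xe13 ye44 ze47) (ke xe13 ye44 ze14) (ke xe13 ye44 ze52) (ke xe7 ye30 ze3)) (@D3.rec (fun _ => Pt) (ke xe13 ye44 ze58) (ke xe3 ye37 ze47) (ke xe3 ye37 ze48) (ke xe13 ye45 ze2) (ke xe13 ye44 ze18) (ke xe10 ye40 ze5) (ke xe6 ye34 ze55) (ke xe7 ye44 ze12) (ke xe6 ye52 ze53) (ke xe13 ye45 ze13) (ke xe13 ye45 ze15) (ke xe3 ye37 ze53) (ke xe13 ye45 ze22) (ke xe3 ye37 ze54) (ke xe13 ye45 ze29) (ke xe13 ye45 ze33) (ke xe13 ye45 ze34) (ke xe3 ye37 ze56) (ke xe13 ye45 ze37) (ke xe6 ye54 ze52) (ke xe13 ye45 ze42) (ke xe6 ye52 ze29) (ke xe13 ye45 ze46) (ke xe6 ye56 ze4) (ke xe13 ye45 ze52) (ke xe13 ye45 ze54) (ke xe13 ye45 ze56) (ke xe13 ye45 ze60) (ke xe3 ye37 ze61) (ke xe13 ye12 ze2) (ke xe8 ye29 ze22) (ke xe13 ye46 ze7) (ke xe3 ye38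 ze0) (ke xe13 ye46 ze10) (ke xe3 ye55 ze36) (ke xe7 ye5 ze8) (ke xe13 ye46 ze15) (ke xe3 ye38 ze6) (ke xe6 ye34 ze10) (ke xe7 ye35 ze7) (ke xe7 ye47 ze25) (ke xe13 ye29 ze54) (ke xe12 ye57 ze21) (ke xe3 ye38 ze10) (ke xe13 ye46 ze24) (ke xe13 ye46 ze25) (ke xe3 ye38 ze12) (ke xe3 ye38 ze13) (ke xe13 ye46 ze33) (ke xe13 ye46 ze37) (ke xe13 ye46 ze28) (ke xe7 ye11 ze47) (ke xe3 ye38 ze18) (ke xe7 ye17 ze27) (ke xe13 ye43 ze0) (ke xe13 ye43 ze7) (ke xe13 ye46 ze48) (ke xe13 ye46 ze50) (ke xe3 ye38 ze17) (ke xe13 ye46 ze53) (ke xe13 ye46 ze42) (ke xe13 ye46 ze56)) (@D3.rec (fun _ => Pt) (ke xe13 ye44 ze12) (ke xe13 ye46 ze60) (ke xe3 ye38 ze21) (ke xe13 ye47 ze0) (ke xe13 ye47 ze2) (ke xe3 ye38 ze22) (ke xe13 ye47 ze4) (ke xe3 ye38 ze24) (ke xe13 ye47 ze5) (ke xe13 ye40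 ze17) (ke xe3 ye38 ze25) (ke xe13 ye47 ze8) (ke xe13 ye47 ze12) (ke xe7 ye18 ze61) (ke xe13 ye47 ze14) (ke xe12 ye6 ze16) (ke xe13 ye47 ze16) (ke xe13 ye47 ze19) (ke xe13 ye47 ze21) (ke xe5 ye50 ze48) (ke xe7 ye19 ze9) (ke xe13 ye47 ze25) (ke xe9 ye25 ze30) (ke xe13 ye47 ze28) (ke xe3 ye38 ze32) (ke xe4 ye36 ze43) (ke xe3 ye39 ze19) (ke xe7 ye16 ze53) (ke xe8 ye46 ze61) (ke xe13 ye47 ze36) (ke xe3 ye38 ze34) (ke xe13 ye47 ze38) (ke xe13 ye47 ze40) (ke xe13 ye47 ze42) (ke xe3 ye38 ze46) (ke xe13 ye47 ze48) (ke xe7 ye19 ze22) (ke xe13 ye47 ze52) (ke xe13 ye47 ze56) (ke xe3 ye38 ze38) (ke xe13 ye47 ze61) (ke xe13 ye48 ze3) (ke xe3 ye38 ze39) (ke xe7 ye19 ze27) (ke xe13 ye48 ze10) (ke xe13 ye25 ze15) (ke xe13 ye48 ze16) (ke xe3 ye38 ze41) (ke xe13 ye48 ze21) (ke xe3 ye38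 ze42) (ke xe3 ye55 ze38) (ke xe13 ye48 ze24) (ke xe7 ye39 ze4) (ke xe13 ye48 ze29) (ke xe13 ye48 ze32) (ke xe3 ye38 ze44) (ke xe13 ye48 ze39) (ke xe13 ye48 ze41) (ke xe3 ye38 ze45) (ke xe13 ye48 ze46) (ke xe13 ye48 ze48) (ke xe13 ye47 ze45)) (@D3.rec (fun _ => Pt) (ke xe13 ye48 ze54) (ke xe13 ye48 ze55) (ke xe3 ye38 ze47) (ke xe3 ye38 ze49) (ke xe11 ye2 ze51) (ke xe11 ye2 ze48) (ke xe7 ye9 ze59) (ke xe13 ye49 ze2) (ke xe7 ye19 ze43) (ke xe11 ye4 ze8) (ke xe13 ye49 ze8) (ke xe3 ye38 ze54) (ke xe13 ye49 ze14) (ke xe13 ye49 ze16) (ke xe13 ye49 ze18) (ke xe3 ye38 ze55) (ke xe7 ye19 ze55) (ke xe13 ye49 ze21) (ke xe7 ye37 ze6) (ke xe7 ye48 ze39) (ke xe13 ye49 ze27) (ke xe7 ye39 ze9) (ke xe13 ye49 ze29) (ke xe13 ye49 ze32) (ke xe3 ye38 ze60) (ke xe13 ye49 ze36) (ke xe3 ye38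 ze61) (ke xe7 ye19 ze48) (ke xe13 ye49 ze39) (ke xe7 ye3 ze57) (ke xe7 ye6 ze44) (ke xe13 ye49 ze46) (ke xe6 ye52 ze33) (ke xe13 ye49 ze48) (ke xe13 ye49 ze49) (ke xe13 ye49 ze51) (ke xe3 ye39 ze5) (ke xe7 ye15 ze52) (ke xe13 ye49 ze56) (ke xe13 ye49 ze58) (ke xe3 ye39 ze8) (ke xe7 ye51 ze31) (ke xe13 ye49 ze61) (ke xe3 ye49 ze14) (ke xe7 ye24 ze29) (ke xe6 ye51 ze38) (ke xe7 ye47 ze56) (ke xe8 ye49 ze49) (ke xe13 ye50 ze7) (ke xe3 ye39 ze17) (ke xe13 ye50 ze11) (ke xe13 ye50 ze15) (ke xe13 ye47 ze29) (ke xe13 ye50 ze19) (ke xe3 ye39 ze20) (ke xe13 ye50 ze21) (ke xe3 ye39 ze21) (ke xe3 ye39 ze22) (ke xe13 ye50 ze27) (ke xe13 ye50 ze29) (ke xe4 ye26 ze36) (ke xe7 ye17 ze13)) (@D3.rec (fun _ => Pt) (ke xe13 ye50 ze33) (ke xe13 ye50 ze34) (ke xe13 ye31 ze7) (ke xe13 ye50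 ze38) (ke xe13 ye50 ze39) (ke xe3 ye39 ze26) (ke xe3 ye39 ze27) (ke xe13 ye50 ze42) (ke xe13 ye50 ze43) (ke xe7 ye17 ze20) (ke xe6 ye40 ze51) (ke xe6 ye13 ze51) (ke xe8 ye50 ze34) (ke xe12 ye5 ze21) (ke xe13 ye50 ze48) (ke xe3 ye39 ze31) (ke xe13 ye50 ze50) (ke xe3 ye39 ze32) (ke xe13 ye50 ze52) (ke xe13 ye50 ze54) (ke xe3 ye39 ze43) (ke xe13 ye38 ze6) (ke xe7 ye17 ze36) (ke xe13 ye51 ze1) (ke xe13 ye51 ze5) (ke xe3 ye39 ze35) (ke xe3 ye39 ze36) (ke xe7 ye17 ze43) (ke xe13 ye51 ze13) (ke xe13 ye51 ze17) (ke xe3 ye39 ze38) (ke xe3 ye39 ze39) (ke xe7 ye53 ze3) (ke xe13 ye51 ze26) (ke xe13 ye51 ze28) (ke xe3 ye39 ze41) (ke xe13 ye51 ze35) (ke xe13 ye51 ze37) (ke xe3 ye39 ze42) (ke xe13 ye51 ze42) (ke xe13 ye51 ze44) (ke xe13 ye50 ze57) (ke xe13 ye23 ze43) (ke xe7 ye18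 ze8) (ke xe13 ye51 ze50) (ke xe13 ye51 ze52) (ke xe3 ye39 ze45) (ke xe3 ye39 ze46) (ke xe7 ye18 ze27) (ke xe13 ye51 ze58) (ke xe6 ye59 ze32) (ke xe13 ye52 ze1) (ke xe13 ye52 ze5) (ke xe3 ye39 ze49) (ke xe3 ye39 ze50) (ke xe7 ye18 ze16) (ke xe13 ye52 ze10) (ke xe10 ye20 ze10) (ke xe13 ye52 ze15) (ke xe3 ye39 ze52) (ke xe13 ye52 ze18) (ke xe5 ye45 ze44)) (@D3.rec (fun _ => Pt) (ke xe13 ye2 ze2) (ke xe5 ye34 ze58) (ke xe3 ye39 ze56) (ke xe13 ye52 ze23) (ke xe12 ye13 ze54) (ke xe3 ye40 ze2) (ke xe13 ye2 ze4) (ke xe13 ye52 ze31) (ke xe3 ye39 ze60) (ke xe12 ye50 ze12) (ke xe3 ye40 ze0) (ke xe9 ye36 ze5) (ke xe3 ye40 ze1) (ke xe13 ye52 ze25) (ke xe13 ye52 ze39) (ke xe3 ye40 ze3) (ke xe13 ye52 ze41) (ke xe7 ye25 ze6) (ke xe3 ye40 ze5) (ke xe13 ye52 ze44) (ke xe13 ye52 ze45)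 (ke xe3 ye40 ze6) (ke xe13 ye52 ze46) (ke xe3 ye40 ze7) (ke xe3 ye40 ze8) (ke xe13 ye52 ze54) (ke xe13 ye26 ze16) (ke xe13 ye52 ze51) (ke xe3 ye56 ze7) (ke xe13 ye53 ze0) (ke xe3 ye40 ze10) (ke xe13 ye53 ze7) (ke xe13 ye53 ze10) (ke xe3 ye40 ze14) (ke xe7 ye25 ze26) (ke xe13 ye53 ze16) (ke xe13 ye53 ze18) (ke xe3 ye40 ze12) (ke xe7 ye10 ze22) (ke xe13 ye53 ze21) (ke xe13 ye53 ze24) (ke xe12 ye18 ze42) (ke xe5 ye44 ze31) (ke xe13 ye53 ze27) (ke xe13 ye53 ze29) (ke xe13 ye53 ze30) (ke xe3 ye40 ze16) (ke xe6 ye53 ze40) (ke xe7 ye11 ze31) (ke xe3 ye40 ze22) (ke xe13 ye53 ze38) (ke xe7 ye53 ze11) (ke xe13 ye12 ze47) (ke xe7 ye38 ze7) (ke xe13 ye12 ze40) (ke xe13 ye53 ze36) (ke xe10 ye40 ze45) (ke xe13 ye53 ze47) (ke xe13 ye53 ze48) (ke xe13 ye53 ze50) (ke xe3 ye40 ze23)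 (ke xe13 ye53 ze52)) (@D3.rec (fun _ => Pt) (ke xe13 ye53 ze53) (ke xe13 ye53 ze54) (ke xe11 ye43 ze41) (ke xe3 ye40 ze24) (ke xe11 ye43 ze42) (ke xe12 ye28 ze37) (ke xe7 ye32 ze10) (ke xe3 ye40 ze29) (ke xe13 ye54 ze0) (ke xe3 ye40 ze30) (ke xe13 ye54 ze3) (ke xe3 ye40 ze31) (ke xe13 ye54 ze8) (ke xe13 ye54 ze5) (ke xe13 ye54 ze14) (ke xe13 ye54 ze16) (ke xe3 ye40 ze35) (ke xe4 ye57 ze31) (ke xe13 ye54 ze20) (ke xe3 ye40 ze34) (ke xe13 ye54 ze22) (ke xe13 ye54 ze25) (ke xe13 ye54 ze18) (ke xe13 ye54 ze27) (ke xe13 ye54 ze28) (ke xe3 ye40 ze36) (ke xe13 ye54 ze31) (ke xe3 ye40 ze37) (ke xe13 ye54 ze39) (ke xe12 ye48 ze3) (ke xe13 ye54 ze34) (ke xe7 ye11 ze24) (ke xe13 ye54 ze48) (ke xe11 ye19 ze57) (ke xe3 ye40 ze41) (ke xe7 ye26 ze41) (ke xe13 ye25 ze8) (ke xe13 ye54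 ze59) (ke xe13 ye55 ze0) (ke xe13 ye55 ze3) (ke xe13 ye54 ze53) (ke xe13 ye55 ze7) (ke xe6 ye51 ze29) (ke xe13 ye36 ze33) (ke xe13 ye55 ze12) (ke xe13 ye55 ze14) (ke xe3 ye40 ze45) (ke xe13 ye53 ze3) (ke xe3 ye40 ze47) (ke xe13 ye55 ze18) (ke xe3 ye40 ze48) (ke xe3 ye40 ze49) (ke xe13 ye55 ze25) (ke xe13 ye55 ze28) (ke xe13 ye55 ze22) (ke xe13 ye55 ze34) (ke xe3 ye40 ze51) (ke xe13 ye17 ze33) (ke xe3 ye40 ze52) (ke xe13 ye55 ze46) (ke xe13 ye55 ze50) (ke xe3 ye40 ze56)) (@D3.rec (fun _ => Pt) (ke xe7 ye27 ze54) (ke xe13 ye55 ze58) (ke xe13 ye55 ze60) (ke xe3 ye40 ze54) (ke xe13 ye9 ze37) (ke xe13 ye56 ze3) (ke xe13 ye56 ze6) (ke xe13 ye56 ze9) (ke xe13 ye55 ze53) (ke xe13 ye56 ze11) (ke xe13 ye56 ze12) (ke xe3 ye40 ze57) (ke xe7 ye37 ze36) (ke xe3 ye40 ze59) (ke xe3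 ye41 ze0) (ke xe13 ye56 ze16) (ke xe3 ye41 ze1) (ke xe13 ye56 ze19) (ke xe13 ye56 ze20) (ke xe3 ye41 ze2) (ke xe13 ye56 ze25) (ke xe13 ye56 ze22) (ke xe7 ye4 ze51) (ke xe11 ye16 ze48) (ke xe13 ye56 ze34) (ke xe3 ye41 ze7) (ke xe7 ye28 ze18) (ke xe13 ye56 ze40) (ke xe13 ye56 ze44) (ke xe3 ye41 ze5) (ke xe13 ye56 ze48) (ke xe13 ye56 ze50) (ke xe3 ye41 ze6) (ke xe13 ye56 ze53) (ke xe13 ye56 ze56) (ke xe13 ye56 ze37) (ke xe13 ye56 ze59) (ke xe13 ye8 ze44) (ke xe13 ye57 ze0) (ke xe13 ye57 ze1) (ke xe13 ye57 ze2) (ke xe3 ye41 ze10) (ke xe13 ye57 ze4) (ke xe13 ye57 ze5) (ke xe13 ye57 ze6) (ke xe3 ye41 ze11) (ke xe13 ye57 ze9) (ke xe3 ye41 ze12) (ke xe13 ye57 ze12) (ke xe7 ye2 ze57) (ke xe11 ye47 ze2) (ke xe3 ye41 ze13) (ke xe13 ye57 ze20) (ke xe13 ye57 ze24) (ke xe13 ye57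 ze16) (ke xe13 ye57 ze30) (ke xe13 ye57 ze32) (ke xe3 ye41 ze16) (ke xe7 ye28 ze46) (ke xe13 ye57 ze38) (ke xe13 ye57 ze35) (ke xe13 ye57 ze41)) (@D3.rec (fun _ => Pt) (ke xe3 ye41 ze17) (ke xe13 ye57 ze43) (ke xe3 ye41 ze18) (ke xe13 ye38 ze24) (ke xe3 ye41 ze19) (ke xe13 ye57 ze48) (ke xe13 ye57 ze49) (ke xe3 ye41 ze20) (ke xe13 ye57 ze56) (ke xe11 ye4 ze6) (ke xe13 ye57 ze52) (ke xe7 ye4 ze57) (ke xe11 ye6 ze37) (ke xe13 ye58 ze3) (ke xe3 ye41 ze23) (ke xe7 ye28 ze61) (ke xe13 ye58 ze9) (ke xe13 ye58 ze6) (ke xe13 ye58 ze14) (ke xe8 ye32 ze59) (ke xe8 ye25 ze28) (ke xe3 ye41 ze25) (ke xe13 ye58 ze19) (ke xe3 ye54 ze6) (ke xe13 ye58 ze21) (ke xe3 ye41 ze27) (ke xe13 ye58 ze27) (ke xe13 ye58 ze30) (ke xe3 ye54 ze12) (ke xe4 ye57 ze34) (ke xe3 ye59 ze7) (ke xe11 ye23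 ze55) (ke xe13 ye58 ze38) (ke xe3 ye41 ze29) (ke xe13 ye58 ze42) (ke xe4 ye57 ze39) (ke xe7 ye29 ze18) (ke xe13 ye58 ze49) (ke xe13 ye58 ze51) (ke xe13 ye58 ze55) (ke xe3 ye41 ze31) (ke xe13 ye59 ze1) (ke xe11 ye19 ze56) (ke xe13 ye59 ze4) (ke xe3 ye41 ze32) (ke xe13 ye59 ze11) (ke xe13 ye59 ze15) (ke xe3 ye41 ze43) (ke xe13 ye59 ze21) (ke xe7 ye29 ze31) (ke xe11 ye3 ze52) (ke xe11 ye3 ze47) (ke xe3 ye41 ze35) (ke xe13 ye59 ze31) (ke xe13 ye59 ze35) (ke xe3 ye41 ze36) (ke xe11 ye2 ze47) (ke xe7 ye29 ze38) (ke xe13 ye59 ze40) (ke xe13 ye59 ze42) (ke xe3 ye41 ze38) (ke xe13 ye59 ze47)) (@D3.rec (fun _ => Pt) (ke xe3 ye41 ze39) (ke xe13 ye59 ze50) (ke xe13 ye59 ze55) (ke xe13 ye59 ze59) (ke xe3 ye41 ze41) (ke xe14 ye0 ze4) (ke xe14 ye0 ze6) (ke xe3 ye41 ze42) (ke xe14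 ye0 ze11) (ke xe14 ye0 ze13) (ke xe13 ye59 ze18) (ke xe14 ye0 ze19) (ke xe14 ye0 ze20) (ke xe3 ye41 ze44) (ke xe7 ye29 ze53) (ke xe14 ye0 ze28) (ke xe7 ye29 ze55) (ke xe14 ye0 ze30) (ke xe14 ye0 ze33) (ke xe3 ye41 ze48) (ke xe14 ye0 ze39) (ke xe14 ye0 ze42) (ke xe14 ye0 ze44) (ke xe3 ye41 ze49) (ke xe7 ye30 ze9) (ke xe14 ye0 ze47) (ke xe3 ye42 ze23) (ke xe7 ye53 ze42) (ke xe14 ye0 ze53) (ke xe7 ye18 ze44) (ke xe14 ye0 ze56) (ke xe14 ye0 ze58) (ke xe3 ye41 ze53) (ke xe13 ye8 ze45) (ke xe14 ye0 ze60) (ke xe12 ye1 ze6) (ke xe3 ye41 ze56) (ke xe14 ye1 ze2) (ke xe3 ye41 ze57) (ke xe7 ye30 ze1) (ke xe12 ye24 ze30) (ke xe7 ye49 ze36) (ke xe14 ye1 ze8) (ke xe10 ye39 ze55) (ke xe14 ye1 ze12) (ke xe14 ye1 ze16) (ke xe3 ye41 ze60) (ke xe6 ye58 ze45) (ke xe7 ye34 ze47) (ke xe14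 ye1 ze19) (ke xe3 ye52 ze3) (ke xe13 ye21 ze60) (ke xe14 ye1 ze28) (ke xe3 ye42 ze1) (ke xe14 ye1 ze31) (ke xe3 ye42 ze31) (ke xe14 ye1 ze35) (ke xe14 ye1 ze37) (ke xe10 ye5 ze9) (ke xe9 ye3 ze58) (ke xe3 ye42 ze5) (ke xe14 ye1 ze42)) (@D3.rec (fun _ => Pt) (ke xe14 ye1 ze44) (ke xe14 ye1 ze45) (ke xe3 ye42 ze9) (ke xe13 ye55 ze37) (ke xe3 ye42 ze11) (ke xe13 ye55 ze41) (ke xe7 ye20 ze17) (ke xe3 ye42 ze13) (ke xe14 ye1 ze50) (ke xe3 ye42 ze14) (ke xe14 ye1 ze52) (ke xe3 ye42 ze15) (ke xe14 ye1 ze54) (ke xe14 ye1 ze56) (ke xe3 ye42 ze16) (ke xe14 ye2 ze0) (ke xe13 ye15 ze33) (ke xe14 ye1 ze59) (ke xe14 ye2 ze7) (ke xe3 ye42 ze18) (ke xe3 ye42 ze19) (ke xe14 ye2 ze16) (ke xe3 ye42 ze20) (ke xe14 ye2 ze17) (ke xe14 ye2 ze20) (ke xe3 ye42 ze24) (ke xe7 ye20 ze34) (ke xe13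 ye13 ze9) (ke xe14 ye2 ze27) (ke xe13 ye13 ze33) (ke xe14 ye2 ze31) (ke xe8 ye33 ze38) (ke xe12 ye48 ze8) (ke xe14 ye2 ze22) (ke xe3 ye42 ze26) (ke xe6 ye57 ze45) (ke xe3 ye42 ze29) (ke xe14 ye2 ze34) (ke xe14 ye2 ze40) (ke xe14 ye2 ze42) (ke xe14 ye2 ze43) (ke xe12 ye24 ze51) (ke xe14 ye1 ze34) (ke xe11 ye9 ze44) (ke xe3 ye42 ze32) (ke xe3 ye42 ze34) (ke xe9 ye37 ze17) (ke xe12 ye24 ze60) (ke xe14 ye2 ze52) (ke xe3 ye42 ze36) (ke xe14 ye2 ze56) (ke xe3 ye42 ze37) (ke xe14 ye2 ze58) (ke xe9 ye3 ze57) (ke xe3 ye42 ze38) (ke xe14 ye2 ze59) (ke xe8 ye33 ze6) (ke xe3 ye56 ze29) (ke xe14 ye3 ze0) (ke xe14 ye3 ze3) (ke xe3 ye42 ze43) (ke xe14 ye3 ze7)) (@D3.rec (fun _ => Pt) (ke xe14 ye3 ze9) (ke xe3 ye42 ze41) (ke xe13 ye2 ze33) (ke xe14 ye3 ze14) (ke xe14 ye3 ze17) (ke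 xe14 ye3 ze20) (ke xe14 ye3 ze21) (ke xe7 ye5 ze16) (ke xe14 ye3 ze22) (ke xe6 ye57 ze52) (ke xe3 ye54 ze36) (ke xe3 ye42 ze51) (ke xe14 ye3 ze28) (ke xe14 ye3 ze30) (ke xe3 ye42 ze47) (ke xe13 ye12 ze50) (ke xe14 ye3 ze34) (ke xe6 ye55 ze33) (ke xe14 ye3 ze37) (ke xe13 ye12 ze52) (ke xe14 ye3 ze42) (ke xe6 ye55 ze26) (ke xe13 ye13 ze26) (ke xe14 ye3 ze25) (ke xe14 ye3 ze48) (ke xe14 ye3 ze50) (ke xe3 ye42 ze52) (ke xe8 ye12 ze48) (ke xe9 ye48 ze5) (ke xe6 ye53 ze56) (ke xe14 ye3 ze55) (ke xe14 ye3 ze56) (ke xe3 ye42 ze54) (ke xe9 ye45 ze60) (ke xe3 ye42 ze55) (ke xe14 ye4 ze2) (ke xe14 ye4 ze6) (ke xe14 ye3 ze60) (ke xe14 ye4 ze13) (ke xe14 ye4 ze17) (ke xe3 ye42 ze58) (ke xe7 ye21 ze35) (ke xe14 ye4 ze21) (ke xe10 ye5 ze30) (ke xe5 ye44 ze22) (ke xe3 ye42 ze60) (ke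 xe3 ye43 ze2) (ke xe14 ye4 ze22) (ke xe14 ye4 ze25) (ke xe11 ye58 ze2) (ke xe5 ye44 ze21) (ke xe3 ye43 ze3) (ke xe3 ye43 ze4) (ke xe14 ye4 ze27) (ke xe12 ye50 ze15) (ke xe3 ye43 ze9) (ke xe6 ye31 ze44) (ke xe14 ye4 ze31) (ke xe14 ye4 ze38) (ke xe14 ye4 ze39) (ke xe11 ye35 ze6) (ke xe3 ye43 ze10)) (@D3.rec (fun _ => Pt) (ke xe3 ye43 ze11) (ke xe11 ye41 ze32) (ke xe6 ye1 ze1) (ke xe6 ye12 ze18) (ke xe4 ye7 ze15) (ke xe6 ye42 ze30) (ke xe6 ye9 ze18) (ke xe6 ye30 ze61) (ke xe11 ye40 ze22) (ke xe14 ye4 ze47) (ke xe5 ye58 ze3) (ke xe9 ye29 ze30) (ke xe3 ye43 ze17) (ke xe14 ye4 ze51) (ke xe6 ye29 ze44) (ke xe9 ye29 ze29) (ke xe6 ye31 ze39) (ke xe12 ye11 ze31) (ke xe14 ye4 ze53) (ke xe12 ye29 ze8) (ke xe14 ye4 ze55) (ke xe3 ye43 ze21) (ke xe6 ye12 ze20) (ke xe5 ye51 ze44) (ke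 xe12 ye29 ze54) (ke xe11 ye58 ze8) (ke xe3 ye43 ze23) (ke xe12 ye49 ze31) (ke xe6 ye31 ze59) (ke xe6 ye46 ze34) (ke xe14 ye4 ze60) (ke xe9 ye45 ze49) (ke xe3 ye43 ze28) (ke xe6 ye32 ze4) (ke xe6 ye12 ze27) (ke xe14 ye5 ze1) (ke xe14 ye5 ze2) (ke xe14 ye5 ze3) (ke xe3 ye43 ze30) (ke xe14 ye2 ze10) (ke xe14 ye2 ze14) (ke xe3 ye43 ze33) (ke xe14 ye5 ze9) (ke xe3 ye43 ze34) (ke xe8 ye50 ze42) (ke xe3 ye43 ze35) (ke xe3 ye43 ze36) (ke xe14 ye5 ze18) (ke xe14 ye5 ze21) (ke xe14 ye5 ze15) (ke xe7 ye4 ze25) (ke xe9 ye45 ze25) (ke xe14 ye5 ze30) (ke xe3 ye43 ze41) (ke xe7 ye22 ze0) (ke xe14 ye5 ze38) (ke xe14 ye5 ze40) (ke xe3 ye43 ze39) (ke xe14 ye5 ze42) (ke xe14 ye5 ze44) (ke xe3 ye43 ze40) (ke xe14 ye5 ze47)) (@D3.rec (fun _ => Pt) (ke xe14 ye5 ze49) (ke xe14 ye5 ze33) (ke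 xe14 ye5 ze55) (ke xe13 ye25 ze28) (ke xe14 ye5 ze58) (ke xe7 ye50 ze52) (ke xe6 ye54 ze31) (ke xe6 ye52 ze27) (ke xe5 ye20 ze58) (ke xe3 ye43 ze46) (ke xe14 ye6 ze3) (ke xe3 ye43 ze47) (ke xe3 ye43 ze48) (ke xe12 ye47 ze55) (ke xe14 ye6 ze6) (ke xe14 ye6 ze13) (ke xe14 ye6 ze16) (ke xe3 ye43 ze53) (ke xe7 ye22 ze26) (ke xe14 ye6 ze22) (ke xe3 ye43 ze51) (ke xe14 ye6 ze26) (ke xe14 ye6 ze28) (ke xe3 ye43 ze52) (ke xe14 ye6 ze30) (ke xe13 ye56 ze8) (ke xe14 ye6 ze19) (ke xe14 ye6 ze33) (ke xe14 ye6 ze34) (ke xe3 ye43 ze54) (ke xe14 ye6 ze37) (ke xe14 ye6 ze39) (ke xe3 ye43 ze55) (ke xe14 ye6 ze42) (ke xe3 ye43 ze56) (ke xe13 ye22 ze8) (ke xe14 ye6 ze47) (ke xe14 ye6 ze50) (ke xe3 ye43 ze57) (ke xe14 ye6 ze57) (ke xe14 ye6 ze61) (ke xe14 ye6 ze53) (ke xe7 ye4 ze31) (ke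 xe5 ye37 ze31) (ke xe14 ye7 ze7) (ke xe3 ye43 ze60) (ke xe7 ye22 ze58) (ke xe14 ye7 ze13) (ke xe14 ye7 ze14) (ke xe14 ye7 ze10) (ke xe14 ye7 ze18) (ke xe14 ye7 ze19) (ke xe3 ye44 ze0) (ke xe3 ye44 ze1) (ke xe3 ye44 ze2) (ke xe14 ye7 ze25) (ke xe14 ye7 ze27) (ke xe12 ye22 ze49) (ke xe14 ye7 ze31) (ke xe11 ye12 ze46) (ke xe3 ye44 ze5) (ke xe7 ye23 ze15)) (@D3.rec (fun _ => Pt) (ke xe7 ye54 ze23) (ke xe14 ye7 ze35) (ke xe14 ye7 ze40) (ke xe14 ye7 ze42) (ke xe3 ye44 ze6) (ke xe14 ye7 ze48) (ke xe14 ye7 ze49) (ke xe3 ye55 ze0) (ke xe5 ye44 ze11) (ke xe14 ye7 ze54) (ke xe3 ye44 ze8) (ke xe3 ye55 ze5) (ke xe7 ye59 ze38) (ke xe7 ye59 ze30) (ke xe3 ye44 ze10) (ke xe9 ye46 ze19) (ke xe14 ye8 ze7) (ke xe6 ye31 ze14) (ke xe7 ye23 ze36) (ke xe14 ye8 ze14) (ke xe14 ye8 ze17) (ke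 xe14 ye8 ze21) (ke xe3 ye44 ze12) (ke xe14 ye8 ze28) (ke xe14 ye8 ze31) (ke xe14 ye8 ze33) (ke xe3 ye44 ze13) (ke xe14 ye8 ze39) (ke xe14 ye8 ze43) (ke xe3 ye44 ze24) (ke xe13 ye37 ze28) (ke xe7 ye23 ze49) (ke xe14 ye8 ze52) (ke xe14 ye8 ze56) (ke xe3 ye44 ze16) (ke xe14 ye8 ze61) (ke xe3 ye44 ze17) (ke xe14 ye9 ze2) (ke xe7 ye23 ze57) (ke xe14 ye9 ze7) (ke xe14 ye9 ze9) (ke xe3 ye44 ze19) (ke xe14 ye9 ze13) (ke xe3 ye44 ze20) (ke xe14 ye9 ze19) (ke xe12 ye26 ze42) (ke xe3 ye44 ze22) (ke xe8 ye27 ze50) (ke xe14 ye9 ze26) (ke xe3 ye44 ze23) (ke xe14 ye9 ze31) (ke xe14 ye9 ze33) (ke xe14 ye8 ze46) (ke xe7 ye24 ze14) (ke xe14 ye9 ze42) (ke xe7 ye24 ze16) (ke xe14 ye9 ze45) (ke xe9 ye51 ze50) (ke xe3 ye44 ze27) (ke xe14 ye9 ze52) (ke xe14 ye9 ze55) (ke xe14 ye9 ze57)) (@D3.rec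 (fun _ => Pt) (ke xe3 ye44 ze28) (ke xe7 ye24 ze39) (ke xe10 ye35 ze19) (ke xe7 ye15 ze61) (ke xe14 ye10 ze2) (ke xe14 ye10 ze6) (ke xe3 ye44 ze31) (ke xe14 ye10 ze10) (ke xe3 ye44 ze32) (ke xe7 ye24 ze24) (ke xe12 ye0 ze53) (ke xe14 ye10 ze13) (ke xe14 ye10 ze14) (ke xe14 ye10 ze15) (ke xe3 ye44 ze34) (ke xe14 ye10 ze17) (ke xe14 ye10 ze18) (ke xe3 ye44 ze35) (ke xe14 ye10 ze23) (ke xe13 ye27 ze18) (ke xe12 ye45 ze22) (ke xe3 ye47 ze46) (ke xe13 ye35 ze28) (ke xe14 ye10 ze33) (ke xe14 ye10 ze36) (ke xe12 ye45 ze30) (ke xe14 ye10 ze40) (ke xe13 ye34 ze46) (ke xe14 ye10 ze43) (ke xe3 ye44 ze42) (ke xe7 ye12 ze58) (ke xe14 ye10 ze44) (ke xe13 ye14 ze1) (ke xe14 ye10 ze51) (ke xe3 ye44 ze43) (ke xe7 ye37 ze41) (ke xe4 ye5 ze36) (ke xe14 ye10 ze54) (ke xe11 ye21 ze61) (ke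 xe4 ye37 ze51) (ke xe3 ye44 ze49) (ke xe5 ye59 ze57) (ke xe6 ye34 ze1) (ke xe14 ye10 ze57) (ke xe3 ye44 ze54) (ke xe3 ye44 ze55) (ke xe3 ye44 ze56) (ke xe14 ye11 ze0) (ke xe14 ye11 ze2) (ke xe6 ye32 ze47) (ke xe4 ye46 ze46) (ke xe14 ye11 ze8) (ke xe3 ye44 ze60) (ke xe5 ye59 ze58) (ke xe14 ye11 ze11) (ke xe3 ye52 ze34) (ke xe3 ye45 ze1) (ke xe14 ye11 ze14) (ke xe14 ye11 ze15) (ke xe3 ye45 ze4) (ke xe3 ye45 ze5) (ke xe14 ye11 ze19)) (@D3.rec (fun _ => Pt) (ke xe3 ye45 ze8) (ke xe14 ye11 ze21) (ke xe14 ye0 ze59) (ke xe14 ye11 ze27) (ke xe4 ye59 ze50) (ke xe14 ye11 ze29) (ke xe14 ye11 ze32) (ke xe3 ye45 ze9) (ke xe3 ye45 ze10) (ke xe14 ye11 ze36) (ke xe6 ye19 ze25) (ke xe6 ye9 ze35) (ke xe12 ye0 ze4) (ke xe14 ye11 ze39) (ke xe3 ye45 ze13) (ke xe3 ye45 ze14) (ke xe14 ye11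 ze43) (ke xe14 ye11 ze46) (ke xe6 ye20 ze37) (ke xe3 ye45 ze16) (ke xe12 ye28 ze48) (ke xe12 ye58 ze36) (ke xe9 ye57 ze7) (ke xe3 ye45 ze18) (ke xe12 ye39 ze37) (ke xe6 ye34 ze22) (ke xe12 ye29 ze29) (ke xe14 ye11 ze50) (ke xe3 ye45 ze23) (ke xe6 ye11 ze32) (ke xe14 ye11 ze55) (ke xe3 ye50 ze5) (ke xe6 ye11 ze19) (ke xe3 ye45 ze26) (ke xe12 ye27 ze6) (ke xe6 ye10 ze0) (ke xe14 ye11 ze57) (ke xe14 ye11 ze58) (ke xe3 ye45 ze29) (ke xe9 ye15 ze29) (ke xe12 ye2 ze49) (ke xe3 ye45 ze31) (ke xe14 ye12 ze3) (ke xe14 ye12 ze7) (ke xe12 ye45 ze2) (ke xe6 ye18 ze21) (ke xe14 ye12 ze10) (ke xe9 ye33 ze3) (ke xe12 ye45 ze9) (ke xe14 ye12 ze17) (ke xe14 ye12 ze20) (ke xe8 ye37 ze20) (ke xe3 ye45 ze35) (ke xe12 ye29 ze28) (ke xe13 ye40 ze18) (ke xe14 ye12 ze23) (ke xe3 ye45 ze38)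 (ke xe14 ye12 ze26) (ke xe3 ye45 ze39) (ke xe12 ye1 ze9) (ke xe3 ye45 ze40) (ke xe14 ye12 ze30)) (@D3.rec (fun _ => Pt) (ke xe14 ye12 ze32) (ke xe12 ye0 ze37) (ke xe3 ye45 ze41) (ke xe14 ye12 ze37) (ke xe14 ye12 ze39) (ke xe14 ye12 ze33) (ke xe14 ye12 ze43) (ke xe3 ye45 ze44) (ke xe7 ye38 ze21) (ke xe14 ye12 ze44) (ke xe7 ye21 ze6) (ke xe3 ye45 ze45) (ke xe3 ye45 ze46) (ke xe14 ye12 ze53) (ke xe3 ye45 ze47) (ke xe13 ye50 ze5) (ke xe14 ye12 ze59) (ke xe14 ye12 ze55) (ke xe13 ye17 ze8) (ke xe14 ye13 ze3) (ke xe14 ye13 ze5) (ke xe3 ye45 ze50) (ke xe7 ye38 ze25) (ke xe14 ye13 ze11) (ke xe14 ye13 ze8) (ke xe14 ye13 ze14) (ke xe14 ye13 ze15) (ke xe14 ye13 ze16) (ke xe3 ye45 ze52) (ke xe13 ye33 ze29) (ke xe9 ye21 ze4) (ke xe12 ye33 ze39) (ke xe13 ye33 ze28) (ke xe13 ye22 ze53)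 (ke xe9 ye24 ze46) (ke xe7 ye15 ze55) (ke xe14 ye13 ze27) (ke xe10 ye2 ze35) (ke xe3 ye45 ze55) (ke xe14 ye13 ze33) (ke xe14 ye13 ze34) (ke xe3 ye45 ze56) (ke xe10 ye26 ze37) (ke xe10 ye54 ze5) (ke xe9 ye53 ze22) (ke xe14 ye13 ze39) (ke xe12 ye34 ze20) (ke xe3 ye45 ze59) (ke xe3 ye48 ze24) (ke xe13 ye17 ze45) (ke xe14 ye13 ze48) (ke xe14 ye13 ze51) (ke xe3 ye45 ze61) (ke xe12 ye57 ze25) (ke xe14 ye13 ze58) (ke xe3 ye48 ze29) (ke xe12 ye45 ze32) (ke xe14 ye14 ze4) (ke xe14 ye14 ze7) (ke xe14 ye14 ze11) (ke xe3 ye46 ze1) (ke xe11 ye43 ze60)) (@D3.rec (fun _ => Pt) (ke xe14 ye14 ze20) (ke xe14 ye14 ze22) (ke xe3 ye46 ze2) (ke xe14 ye14 ze26) (ke xe14 ye14 ze29) (ke xe3 ye46 ze13) (ke xe9 ye53 ze18) (ke xe13 ye15 ze51) (ke xe14 ye14 ze36) (ke xe14 ye14 ze40) (ke xe3 ye46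 ze5) (ke xe10 ye7 ze21) (ke xe14 ye14 ze44) (ke xe3 ye46 ze6) (ke xe13 ye17 ze56) (ke xe14 ye14 ze50) (ke xe14 ye14 ze52) (ke xe3 ye46 ze8) (ke xe14 ye14 ze56) (ke xe3 ye46 ze9) (ke xe14 ye14 ze59) (ke xe14 ye15 ze3) (ke xe14 ye15 ze5) (ke xe7 ye7 ze25) (ke xe3 ye46 ze11) (ke xe14 ye15 ze11) (ke xe14 ye15 ze13) (ke xe3 ye47 ze4) (ke xe3 ye46 ze12) (ke xe14 ye15 ze18) (ke xe8 ye42 ze12) (ke xe9 ye53 ze36) (ke xe14 ye15 ze21) (ke xe9 ye34 ze42) (ke xe7 ye13 ze18) (ke xe14 ye15 ze28) (ke xe3 ye46 ze15) (ke xe14 ye15 ze32) (ke xe3 ye46 ze16) (ke xe3 ye52 ze13) (ke xe13 ye29 ze49) (ke xe14 ye15 ze38) (ke xe14 ye15 ze39) (ke xe3 ye46 ze19) (ke xe3 ye46 ze20) (ke xe3 ye46 ze21) (ke xe8 ye1 ze48) (ke xe7 ye59 ze16) (ke xe14 ye15 ze42) (ke xe14 ye15 ze45) (ke xe11 ye33 ze42)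 (ke xe3 ye46 ze25) (ke xe14 ye15 ze50) (ke xe3 ye46 ze29) (ke xe10 ye14 ze23) (ke xe14 ye15 ze53) (ke xe6 ye19 ze53) (ke xe14 ye15 ze58) (ke xe3 ye46 ze32) (ke xe14 ye16 ze1) (ke xe3 ye46 ze33) (ke xe13 ye23 ze39)) (@D3.rec (fun _ => Pt) (ke xe14 ye16 ze2) (ke xe13 ye17 ze9) (ke xe11 ye27 ze31) (ke xe12 ye51 ze37) (ke xe14 ye16 ze8) (ke xe14 ye16 ze9) (ke xe3 ye46 ze38) (ke xe11 ye47 ze11) (ke xe3 ye46 ze40) (ke xe14 ye16 ze12) (ke xe14 ye16 ze20) (ke xe3 ye46 ze44) (ke xe13 ye18 ze20) (ke xe14 ye16 ze26) (ke xe14 ye16 ze28) (ke xe3 ye46 ze42) (ke xe14 ye16 ze30) (ke xe3 ye46 ze43) (ke xe14 ye16 ze33) (ke xe14 ye16 ze35) (ke xe14 ye16 ze23) (ke xe10 ye5 ze45) (ke xe10 ye5 ze49) (ke xe14 ye16 ze45) (ke xe3 ye46 ze45) (ke xe14 ye16 ze52) (ke xe14 ye16 ze55) (ke xe13 ye46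 ze21) (ke xe3 ye46 ze46) (ke xe14 ye17 ze0) (ke xe14 ye17 ze2) (ke xe13 ye34 ze34) (ke xe14 ye17 ze4) (ke xe14 ye17 ze7) (ke xe3 ye46 ze49) (ke xe3 ye46 ze50) (ke xe13 ye18 ze42) (ke xe14 ye17 ze15) (ke xe14 ye17 ze19) (ke xe3 ye46 ze52) (ke xe3 ye46 ze53) (ke xe11 ye15 ze16) (ke xe3 ye46 ze55) (ke xe14 ye17 ze30) (ke xe3 ye46 ze56) (ke xe13 ye4 ze49) (ke xe3 ye46 ze57) (ke xe7 ye24 ze48) (ke xe3 ye46 ze59) (ke xe13 ye17 ze47) (ke xe3 ye46 ze61) (ke xe3 ye47 ze0) (ke xe14 ye17 ze43) (ke xe3 ye47 ze1) (ke xe14 ye3 ze36) (ke xe13 ye12 ze54) (ke xe14 ye17 ze46) (ke xe14 ye17 ze51) (ke xe14 ye17 ze54) (ke xe3 ye47 ze5) (ke xe3 ye49 ze33) (ke xe13 ye4 ze45)) (@D3.rec (fun _ => Pt) (ke xe14 ye15 ze15) (ke xe14 ye17 ze61) (ke xe14 ye18 ze1) (ke xe14 ye17 ze56) (ke xe13 ye34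 ze52) (ke xe14 ye18 ze4) (ke xe7 ye12 ze24) (ke xe7 ye16 ze39) (ke xe7 ye47 ze51) (ke xe6 ye33 ze32) (ke xe14 ye18 ze12) (ke xe14 ye18 ze14) (ke xe3 ye47 ze14) (ke xe3 ye48 ze45) (ke xe7 ye12 ze49) (ke xe14 ye17 ze33) (ke xe7 ye47 ze48) (ke xe14 ye18 ze24) (ke xe14 ye18 ze26) (ke xe14 ye18 ze28) (ke xe14 ye18 ze16) (ke xe14 ye18 ze31) (ke xe3 ye47 ze15) (ke xe3 ye47 ze16) (ke xe3 ye47 ze17) (ke xe13 ye35 ze13) (ke xe13 ye35 ze26) (ke xe11 ye29 ze49) (ke xe3 ye50 ze38) (ke xe14 ye18 ze45) (ke xe14 ye18 ze48) (ke xe3 ye47 ze20) (ke xe3 ye50 ze42) (ke xe14 ye18 ze51) (ke xe14 ye18 ze55) (ke xe3 ye47 ze22) (ke xe14 ye18 ze57) (ke xe14 ye18 ze58) (ke xe3 ye47 ze23) (ke xe3 ye47 ze24) (ke xe14 ye18 ze61) (ke xe3 ye47 ze25) (ke xe13 ye28 ze53) (ke xe14 ye19 ze7) (ke xe14 ye19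 ze0) (ke xe14 ye19 ze13) (ke xe11 ye58 ze50) (ke xe3 ye47 ze28) (ke xe3 ye50 ze18) (ke xe14 ye19 ze19) (ke xe8 ye15 ze31) (ke xe14 ye19 ze20) (ke xe14 ye19 ze21) (ke xe14 ye19 ze22) (ke xe3 ye47 ze29) (ke xe3 ye47 ze30) (ke xe3 ye47 ze31) (ke xe14 ye19 ze30) (ke xe13 ye28 ze44) (ke xe14 ye19 ze35) (ke xe14 ye19 ze36) (ke xe3 ye47 ze33)) (@D3.rec (fun _ => Pt) (ke xe3 ye47 ze34) (ke xe3 ye47 ze35) (ke xe14 ye19 ze45) (ke xe13 ye45 ze43) (ke xe11 ye1 ze32) (ke xe3 ye47 ze37) (ke xe14 ye19 ze57) (ke xe14 ye3 ze32) (ke xe14 ye19 ze53) (ke xe6 ye54 ze23) (ke xe14 ye20 ze2) (ke xe14 ye20 ze4) (ke xe3 ye47 ze39) (ke xe14 ye20 ze8) (ke xe8 ye12 ze17) (ke xe3 ye47 ze40) (ke xe14 ye20 ze10) (ke xe5 ye5 ze55) (ke xe14 ye20 ze13) (ke xe3 ye47 ze41) (ke xe14 ye20 ze17) (ke xe14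 ye20 ze20) (ke xe3 ye47 ze45) (ke xe12 ye45 ze23) (ke xe14 ye20 ze28) (ke xe14 ye20 ze30) (ke xe11 ye0 ze9) (ke xe3 ye47 ze43) (ke xe14 ye20 ze35) (ke xe14 ye20 ze36) (ke xe3 ye47 ze44) (ke xe14 ye20 ze39) (ke xe14 ye20 ze42) (ke xe14 ye20 ze23) (ke xe12 ye5 ze36) (ke xe14 ye20 ze46) (ke xe14 ye20 ze47) (ke xe14 ye20 ze50) (ke xe3 ye47 ze47) (ke xe12 ye16 ze54) (ke xe14 ye20 ze58) (ke xe14 ye20 ze60) (ke xe3 ye47 ze48) (ke xe14 ye21 ze4) (ke xe14 ye21 ze7) (ke xe3 ye47 ze60) (ke xe14 ye21 ze13) (ke xe14 ye10 ze30) (ke xe14 ye21 ze15) (ke xe3 ye47 ze51) (ke xe14 ye21 ze18) (ke xe14 ye21 ze19) (ke xe3 ye47 ze52) (ke xe13 ye35 ze5) (ke xe14 ye21 ze24) (ke xe10 ye31 ze46) (ke xe3 ye47 ze54) (ke xe10 ye39 ze42) (ke xe5 ye9 ze32) (ke xe8 ye38 ze2) (ke xe3 ye47 ze58) (ke xe14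 ye21 ze31)) (@D3.rec (fun _ => Pt) (ke xe14 ye21 ze33) (ke xe3 ye47 ze59) (ke xe14 ye21 ze38) (ke xe14 ye21 ze40) (ke xe14 ye21 ze10) (ke xe3 ye47 ze61) (ke xe7 ye18 ze18) (ke xe6 ye57 ze46) (ke xe14 ye21 ze50) (ke xe14 ye10 ze41) (ke xe7 ye48 ze25) (ke xe14 ye21 ze57) (ke xe14 ye21 ze59) (ke xe14 ye21 ze61) (ke xe14 ye22 ze1) (ke xe3 ye48 ze3) (ke xe7 ye48 ze14) (ke xe7 ye47 ze16) (ke xe14 ye22 ze9) (ke xe5 ye21 ze1) (ke xe3 ye48 ze6) (ke xe14 ye22 ze15) (ke xe3 ye48 ze7) (ke xe14 ye22 ze18) (ke xe3 ye48 ze11) (ke xe3 ye48 ze12) (ke xe13 ye35 ze40) (ke xe14 ye22 ze26) (ke xe9 ye21 ze7) (ke xe14 ye22 ze29) (ke xe11 ye40 ze52) (ke xe3 ye48 ze15) (ke xe6 ye56 ze24) (ke xe14 ye22 ze35) (ke xe14 ye22 ze37) (ke xe14 ye22 ze32) (ke xe7 ye22 ze12) (ke xe7 ye2 ze31) (ke xe3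 ye48 ze17) (ke xe3 ye48 ze18) (ke xe7 ye2 ze30) (ke xe7 ye30 ze35) (ke xe14 ye22 ze38) (ke xe3 ye48 ze20) (ke xe14 ye22 ze40) (ke xe3 ye48 ze21) (ke xe3 ye48 ze22) (ke xe14 ye22 ze48) (ke xe13 ye27 ze20) (ke xe14 ye13 ze42) (ke xe3 ye52 ze45) (ke xe14 ye22 ze56) (ke xe14 ye13 ze45) (ke xe14 ye22 ze59) (ke xe4 ye37 ze20) (ke xe3 ye48 ze26) (ke xe3 ye48 ze27) (ke xe13 ye37 ze11) (ke xe13 ye4 ze46) (ke xe14 ye13 ze53) (ke xe14 ye13 ze61) (ke xe14 ye23 ze5)) (@D3.rec (fun _ => Pt) (ke xe3 ye48 ze30) (ke xe9 ye28 ze31) (ke xe13 ye46 ze16) (ke xe14 ye23 ze11) (ke xe14 ye23 ze14) (ke xe3 ye48 ze36) (ke xe6 ye12 ze35) (ke xe7 ye20 ze53) (ke xe7 ye6 ze0) (ke xe10 ye53 ze31) (ke xe3 ye48 ze34) (ke xe14 ye23 ze22) (ke xe7 ye47 ze24) (ke xe14 ye23 ze25) (ke xe3 ye48 ze35) (ke xe14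 ye23 ze28) (ke xe14 ye23 ze29) (ke xe3 ye48 ze38) (ke xe14 ye23 ze36) (ke xe14 ye23 ze38) (ke xe7 ye0 ze20) (ke xe7 ye32 ze8) (ke xe14 ye23 ze44) (ke xe3 ye48 ze40) (ke xe7 ye0 ze23) (ke xe7 ye32 ze22) (ke xe11 ye35 ze44) (ke xe14 ye23 ze55) (ke xe14 ye23 ze59) (ke xe3 ye48 ze42) (ke xe14 ye24 ze4) (ke xe14 ye24 ze7) (ke xe14 ye24 ze9) (ke xe3 ye48 ze43) (ke xe14 ye24 ze15) (ke xe14 ye24 ze18) (ke xe3 ye48 ze54) (ke xe8 ye30 ze54) (ke xe14 ye18 ze18) (ke xe14 ye3 ze43) (ke xe14 ye24 ze28) (ke xe3 ye48 ze46) (ke xe14 ye24 ze32) (ke xe14 ye24 ze34) (ke xe3 ye48 ze47) (ke xe13 ye36 ze39) (ke xe13 ye13 ze25) (ke xe14 ye24 ze43) (ke xe14 ye24 ze47) (ke xe3 ye48 ze49) (ke xe14 ye24 ze50) (ke xe3 ye48 ze50) (ke xe14 ye24 ze53) (ke xe14 ye24 ze58) (ke xe14 ye24 ze60) (ke xe3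 ye48 ze52) (ke xe14 ye25 ze4) (ke xe14 ye25 ze6) (ke xe3 ye48 ze53) (ke xe10 ye50 ze15) (ke xe8 ye6 ze4) (ke xe14 ye25 ze13)) (@D3.rec (fun _ => Pt) (ke xe3 ye48 ze56) (ke xe14 ye25 ze16) (ke xe14 ye25 ze18) (ke xe3 ye48 ze57) (ke xe7 ye17 ze52) (ke xe7 ye12 ze46) (ke xe14 ye25 ze25) (ke xe3 ye48 ze60) (ke xe14 ye25 ze28) (ke xe7 ye18 ze21) (ke xe12 ye36 ze6) (ke xe3 ye49 ze4) (ke xe3 ye49 ze5) (ke xe3 ye49 ze6) (ke xe3 ye49 ze7) (ke xe13 ye34 ze35) (ke xe14 ye25 ze38) (ke xe14 ye25 ze35) (ke xe3 ye49 ze10) (ke xe13 ye38 ze27) (ke xe14 ye25 ze44) (ke xe14 ye25 ze42) (ke xe7 ye12 ze25) (ke xe6 ye59 ze23) (ke xe3 ye49 ze17) (ke xe14 ye16 ze10) (ke xe7 ye12 ze52) (ke xe11 ye47 ze21) (ke xe3 ye53 ze13) (ke xe14 ye25 ze58) (ke xe3 ye49 ze20) (ke xe7 ye48 ze23) (ke xe14 ye25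 ze61) (ke xe10 ye47 ze14) (ke xe5 ye58 ze18) (ke xe12 ye33 ze55) (ke xe3 ye49 ze22) (ke xe14 ye26 ze7) (ke xe3 ye49 ze23) (ke xe14 ye26 ze9) (ke xe3 ye49 ze24) (ke xe14 ye26 ze16) (ke xe14 ye26 ze19) (ke xe3 ye49 ze28) (ke xe14 ye17 ze47) (ke xe13 ye34 ze39) (ke xe14 ye26 ze28) (ke xe14 ye26 ze30) (ke xe3 ye49 ze27) (ke xe14 ye26 ze34) (ke xe14 ye26 ze36) (ke xe14 ye26 ze22) (ke xe10 ye47 ze7) (ke xe14 ye26 ze44) (ke xe14 ye26 ze46) (ke xe14 ye26 ze50) (ke xe3 ye49 ze30) (ke xe14 ye26 ze57) (ke xe14 ye26 ze60) (ke xe14 ye27 ze0) (ke xe3 ye49 ze31) (ke xe14 ye27 ze6)) (@D3.rec (fun _ => Pt) (ke xe14 ye27 ze9) (ke xe3 ye49 ze42) (ke xe14 ye27 ze15) (ke xe13 ye27 ze23) (ke xe14 ye27 ze19) (ke xe14 ye27 ze22) (ke xe3 ye49 ze36) (ke xe13 ye33 ze32) (ke xe14 ye27 ze29) (ke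 xe14 ye27 ze32) (ke xe3 ye49 ze37) (ke xe14 ye27 ze35) (ke xe3 ye49 ze38) (ke xe14 ye27 ze41) (ke xe14 ye27 ze42) (ke xe7 ye3 ze28) (ke xe3 ye49 ze40) (ke xe14 ye27 ze48) (ke xe14 ye27 ze49) (ke xe3 ye49 ze41) (ke xe14 ye27 ze55) (ke xe14 ye27 ze58) (ke xe14 ye27 ze12) (ke xe14 ye28 ze1) (ke xe3 ye49 ze43) (ke xe14 ye28 ze7) (ke xe3 ye49 ze44) (ke xe3 ye49 ze45) (ke xe14 ye28 ze11) (ke xe14 ye28 ze13) (ke xe14 ye28 ze14) (ke xe3 ye49 ze48) (ke xe7 ye12 ze15) (ke xe14 ye28 ze17) (ke xe14 ye28 ze20) (ke xe14 ye28 ze21) (ke xe3 ye49 ze51) (ke xe13 ye26 ze53) (ke xe13 ye52 ze12) (ke xe6 ye59 ze36) (ke xe14 ye28 ze30) (ke xe13 ye44 ze6) (ke xe3 ye49 ze53) (ke xe14 ye28 ze35) (ke xe14 ye28 ze36) (ke xe14 ye28 ze37) (ke xe14 ye28 ze38) (ke xe3 ye49 ze55) (ke xe3 ye49 ze56)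 (ke xe14 ye28 ze47) (ke xe14 ye28 ze44) (ke xe3 ye51 ze51) (ke xe14 ye28 ze51) (ke xe3 ye49 ze58) (ke xe14 ye28 ze53) (ke xe3 ye49 ze59) (ke xe3 ye49 ze60) (ke xe14 ye28 ze56) (ke xe6 ye34 ze21) (ke xe3 ye50 ze0) (ke xe14 ye21 ze27) (ke xe14 ye29 ze2)) (@D3.rec (fun _ => Pt) (ke xe14 ye28 ze58) (ke xe13 ye34 ze3) (ke xe14 ye29 ze7) (ke xe3 ye50 ze2) (ke xe7 ye5 ze14) (ke xe14 ye29 ze14) (ke xe14 ye29 ze10) (ke xe7 ye50 ze60) (ke xe9 ye16 ze23) (ke xe3 ye50 ze4) (ke xe14 ye29 ze17) (ke xe11 ye40 ze16) (ke xe9 ye16 ze49) (ke xe14 ye29 ze22) (ke xe3 ye50 ze9) (ke xe14 ye19 ze1) (ke xe13 ye26 ze33) (ke xe14 ye29 ze29) (ke xe10 ye54 ze15) (ke xe3 ye50 ze7) (ke xe14 ye29 ze35) (ke xe14 ye29 ze37) (ke xe14 ye29 ze39) (ke xe3 ye50 ze8) (ke xe14 ye29 ze42) (ke xe14 ye29 ze45)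 (ke xe14 ye29 ze25) (ke xe10 ye46 ze18) (ke xe14 ye29 ze51) (ke xe3 ye50 ze13) (ke xe14 ye29 ze57) (ke xe14 ye29 ze59) (ke xe6 ye58 ze46) (ke xe6 ye59 ze58) (ke xe11 ye33 ze49) (ke xe14 ye30 ze4) (ke xe3 ye50 ze15) (ke xe11 ye46 ze27) (ke xe14 ye30 ze8) (ke xe3 ye50 ze16) (ke xe14 ye30 ze12) (ke xe14 ye30 ze14) (ke xe3 ye50 ze20) (ke xe14 ye30 ze20) (ke xe14 ye30 ze22) (ke xe3 ye50 ze19) (ke xe14 ye30 ze26) (ke xe14 ye30 ze28) (ke xe14 ye30 ze17) (ke xe14 ye30 ze33) (ke xe3 ye50 ze21) (ke xe3 ye50 ze22) (ke xe11 ye44 ze38) (ke xe14 ye30 ze38) (ke xe14 ye30 ze39) (ke xe3 ye50 ze24) (ke xe3 ye50 ze25) (ke xe13 ye28 ze50) (ke xe14 ye30 ze41) (ke xe3 ye52 ze4) (ke xe3 ye50 ze27) (ke xe13 ye28 ze49)) (@D3.rec (fun _ => Pt) (ke xe14 ye21 ze16) (ke xe11 ye30 ze1) (ke xe14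 ye18 ze37) (ke xe3 ye50 ze29) (ke xe3 ye50 ze30) (ke xe13 ye12 ze57) (ke xe14 ye30 ze54) (ke xe6 ye16 ze41) (ke xe3 ye50 ze32) (ke xe3 ye50 ze33) (ke xe14 ye31 ze1) (ke xe14 ye31 ze3) (ke xe3 ye50 ze37) (ke xe11 ye29 ze50) (ke xe13 ye35 ze12) (ke xe14 ye31 ze11) (ke xe14 ye31 ze14) (ke xe14 ye31 ze16) (ke xe3 ye50 ze36) (ke xe14 ye31 ze20) (ke xe14 ye31 ze24) (ke xe14 ye31 ze6) (ke xe14 ye31 ze30) (ke xe14 ye31 ze34) (ke xe3 ye50 ze39) (ke xe14 ye31 ze39) (ke xe14 ye31 ze41) (ke xe3 ye50 ze40) (ke xe14 ye31 ze44) (ke xe14 ye31 ze46) (ke xe3 ye50 ze45) (ke xe14 ye31 ze51) (ke xe3 ye50 ze43) (ke xe14 ye31 ze57) (ke xe3 ye50 ze44) (ke xe14 ye31 ze61) (ke xe14 ye32 ze0) (ke xe14 ye31 ze49) (ke xe14 ye32 ze5) (ke xe3 ye50 ze46) (ke xe14 ye32 ze9) (ke xe3 ye50 ze47) (ke xe3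 ye50 ze48) (ke xe14 ye32 ze14) (ke xe3 ye50 ze49) (ke xe14 ye32 ze21) (ke xe14 ye32 ze24) (ke xe14 ye32 ze17) (ke xe9 ye16 ze37) (ke xe3 ye50 ze52) (ke xe6 ye56 ze9) (ke xe14 ye32 ze32) (ke xe14 ye32 ze29) (ke xe12 ye32 ze42) (ke xe6 ye0 ze20) (ke xe3 ye50 ze56) (ke xe5 ye59 ze24) (ke xe13 ye37 ze5) (ke xe14 ye32 ze40) (ke xe6 ye52 ze35) (ke xe14 ye32 ze43) (ke xe14 ye32 ze46)) (@D3.rec (fun _ => Pt) (ke xe14 ye32 ze49) (ke xe14 ye32 ze38) (ke xe14 ye32 ze54) (ke xe14 ye32 ze56) (ke xe3 ye50 ze58) (ke xe6 ye0 ze45) (ke xe6 ye51 ze54) (ke xe6 ye56 ze34) (ke xe3 ye50 ze60) (ke xe5 ye48 ze26) (ke xe14 ye33 ze6) (ke xe14 ye33 ze7) (ke xe3 ye50 ze61) (ke xe14 ye33 ze13) (ke xe5 ye50 ze24) (ke xe6 ye8 ze2) (ke xe6 ye0 ze53) (ke xe14 ye33 ze20) (ke xe12 ye32 ze46) (ke xe14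 ye33 ze26) (ke xe3 ye51 ze1) (ke xe4 ye45 ze53) (ke xe4 ye38 ze54) (ke xe14 ye33 ze33) (ke xe3 ye51 ze2) (ke xe14 ye33 ze37) (ke xe3 ye51 ze12) (ke xe14 ye33 ze43) (ke xe6 ye56 ze46) (ke xe14 ye33 ze47) (ke xe14 ye33 ze50) (ke xe3 ye51 ze5) (ke xe14 ye33 ze54) (ke xe14 ye33 ze56) (ke xe14 ye33 ze60) (ke xe3 ye51 ze6) (ke xe14 ye34 ze1) (ke xe6 ye56 ze57) (ke xe13 ye26 ze34) (ke xe14 ye34 ze9) (ke xe14 ye34 ze11) (ke xe3 ye51 ze9) (ke xe14 ye34 ze15) (ke xe14 ye34 ze19) (ke xe3 ye51 ze10) (ke xe14 ye34 ze25) (ke xe14 ye34 ze28) (ke xe3 ye51 ze11) (ke xe14 ye34 ze34) (ke xe14 ye34 ze37) (ke xe14 ye33 ze40) (ke xe14 ye34 ze43) (ke xe14 ye34 ze44) (ke xe3 ye51 ze13) (ke xe3 ye51 ze14) (ke xe9 ye50 ze6) (ke xe14 ye34 ze50) (ke xe14 ye34 ze52) (ke xe3 ye51 ze15) (ke xe14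 ye34 ze58) (ke xe4 ye46 ze26) (ke xe12 ye34 ze56)) (@D3.rec (fun _ => Pt) (ke xe13 ye19 ze16) (ke xe14 ye35 ze6) (ke xe14 ye35 ze10) (ke xe3 ye51 ze17) (ke xe14 ye35 ze12) (ke xe10 ye37 ze58) (ke xe14 ye35 ze15) (ke xe12 ye34 ze57) (ke xe14 ye35 ze21) (ke xe3 ye51 ze21) (ke xe14 ye35 ze26) (ke xe14 ye35 ze29) (ke xe7 ye16 ze7) (ke xe11 ye47 ze10) (ke xe14 ye35 ze37) (ke xe3 ye51 ze23) (ke xe14 ye35 ze40) (ke xe3 ye51 ze24) (ke xe14 ye35 ze42) (ke xe14 ye35 ze44) (ke xe13 ye36 ze0) (ke xe12 ye43 ze51) (ke xe4 ye38 ze34) (ke xe3 ye51 ze27) (ke xe6 ye45 ze22) (ke xe3 ye51 ze28) (ke xe3 ye51 ze29) (ke xe14 ye35 ze60) (ke xe6 ye2 ze30) (ke xe12 ye34 ze21) (ke xe12 ye37 ze51) (ke xe14 ye36 ze7) (ke xe3 ye51 ze31) (ke xe3 ye51 ze32) (ke xe14 ye36 ze11) (ke xe14 ye36 ze13)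 (ke xe12 ye37 ze19) (ke xe7 ye45 ze37) (ke xe14 ye36 ze20) (ke xe14 ye28 ze45) (ke xe14 ye36 ze22) (ke xe14 ye36 ze25) (ke xe14 ye36 ze28) (ke xe3 ye51 ze35) (ke xe12 ye35 ze27) (ke xe14 ye36 ze36) (ke xe10 ye37 ze37) (ke xe3 ye51 ze36) (ke xe10 ye34 ze3) (ke xe10 ye31 ze31) (ke xe14 ye36 ze50) (ke xe3 ye51 ze37) (ke xe14 ye31 ze43) (ke xe14 ye36 ze53) (ke xe14 ye21 ze1) (ke xe14 ye30 ze42) (ke xe14 ye36 ze58) (ke xe14 ye36 ze59) (ke xe3 ye51 ze39) (ke xe14 ye37 ze3) (ke xe3 ye51 ze40) (ke xe14 ye37 ze7)) (@D3.rec (fun _ => Pt) (ke xe3 ye51 ze41) (ke xe4 ye46 ze33) (ke xe14 ye37 ze9) (ke xe14 ye20 ze52) (ke xe14 ye37 ze16) (ke xe14 ye37 ze21) (ke xe14 ye30 ze5) (ke xe3 ye51 ze43) (ke xe9 ye3 ze59) (ke xe14 ye37 ze28) (ke xe6 ye59 ze55) (ke xe3 ye51 ze44) (ke xe14 ye37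 ze35) (ke xe14 ye37 ze38) (ke xe3 ye52 ze21) (ke xe14 ye37 ze46) (ke xe14 ye37 ze48) (ke xe3 ye51 ze46) (ke xe14 ye37 ze49) (ke xe4 ye46 ze25) (ke xe14 ye34 ze51) (ke xe14 ye37 ze56) (ke xe3 ye51 ze48) (ke xe12 ye58 ze1) (ke xe14 ye37 ze59) (ke xe14 ye37 ze61) (ke xe3 ye51 ze49) (ke xe14 ye38 ze3) (ke xe14 ye38 ze6) (ke xe3 ye52 ze33) (ke xe14 ye28 ze42) (ke xe14 ye38 ze11) (ke xe10 ye39 ze18) (ke xe3 ye51 ze52) (ke xe12 ye16 ze35) (ke xe3 ye51 ze53) (ke xe14 ye38 ze16) (ke xe7 ye44 ze37) (ke xe14 ye38 ze20) (ke xe3 ye51 ze54) (ke xe13 ye34 ze1) (ke xe13 ye28 ze54) (ke xe14 ye38 ze21) (ke xe14 ye1 ze24) (ke xe7 ye9 ze13) (ke xe3 ye51 ze58) (ke xe14 ye38 ze28) (ke xe14 ye38 ze31) (ke xe3 ye51 ze60) (ke xe14 ye38 ze37) (ke xe3 ye51 ze61) (ke xe14 ye38 ze39) (ke xe14 ye38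 ze41) (ke xe14 ye38 ze45) (ke xe3 ye52 ze0) (ke xe14 ye36 ze51) (ke xe14 ye38 ze52) (ke xe3 ye52 ze2) (ke xe10 ye31 ze33) (ke xe14 ye38 ze55) (ke xe5 ye23 ze7) (ke xe13 ye37 ze31)) (@D3.rec (fun _ => Pt) (ke xe3 ye52 ze5) (ke xe13 ye12 ze32) (ke xe14 ye39 ze4) (ke xe13 ye35 ze25) (ke xe14 ye18 ze34) (ke xe13 ye12 ze25) (ke xe10 ye39 ze58) (ke xe5 ye21 ze33) (ke xe14 ye15 ze36) (ke xe3 ye52 ze11) (ke xe13 ye53 ze60) (ke xe14 ye37 ze18) (ke xe10 ye1 ze4) (ke xe3 ye52 ze12) (ke xe14 ye37 ze31) (ke xe14 ye39 ze24) (ke xe7 ye52 ze61) (ke xe14 ye21 ze36) (ke xe14 ye39 ze29) (ke xe5 ye21 ze43) (ke xe13 ye14 ze56) (ke xe3 ye52 ze15) (ke xe11 ye3 ze21) (ke xe3 ye52 ze16) (ke xe5 ye23 ze40) (ke xe14 ye37 ze23) (ke xe13 ye14 ze57) (ke xe5 ye21 ze39) (ke xe14 ye39 ze50) (ke xe3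 ye52 ze19) (ke xe14 ye39 ze56) (ke xe3 ye52 ze20) (ke xe14 ye40 ze2) (ke xe14 ye40 ze7) (ke xe14 ye37 ze41) (ke xe14 ye40 ze12) (ke xe14 ye40 ze13) (ke xe3 ye52 ze22) (ke xe3 ye52 ze23) (ke xe14 ye40 ze21) (ke xe5 ye20 ze30) (ke xe3 ye52 ze25) (ke xe14 ye40 ze26) (ke xe14 ye40 ze31) (ke xe3 ye52 ze26) (ke xe14 ye40 ze35) (ke xe14 ye31 ze54) (ke xe14 ye37 ze51) (ke xe3 ye52 ze27) (ke xe14 ye40 ze40) (ke xe14 ye40 ze45) (ke xe14 ye40 ze47) (ke xe3 ye52 ze30) (ke xe14 ye40 ze52) (ke xe13 ye21 ze17) (ke xe3 ye52 ze31) (ke xe14 ye40 ze56) (ke xe14 ye40 ze59) (ke xe3 ye52 ze32) (ke xe14 ye41 ze2) (ke xe14 ye41 ze5) (ke xe14 ye38 ze9)) (@D3.rec (fun _ => Pt) (ke xe14 ye41 ze10) (ke xe14 ye22 ze21) (ke xe14 ye41 ze14) (ke xe13 ye11 ze35) (ke xe3 ye52 ze36) (ke xe14 ye41 ze22)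 (ke xe13 ye8 ze46) (ke xe7 ye10 ze39) (ke xe14 ye41 ze27) (ke xe14 ye24 ze29) (ke xe14 ye27 ze34) (ke xe14 ye22 ze45) (ke xe14 ye41 ze34) (ke xe14 ye1 ze48) (ke xe3 ye52 ze46) (ke xe6 ye57 ze22) (ke xe7 ye37 ze17) (ke xe10 ye36 ze57) (ke xe14 ye41 ze42) (ke xe3 ye52 ze48) (ke xe14 ye41 ze45) (ke xe14 ye41 ze49) (ke xe14 ye41 ze54) (ke xe3 ye52 ze49) (ke xe7 ye38 ze12) (ke xe7 ye16 ze40) (ke xe14 ye41 ze57) (ke xe14 ye42 ze3) (ke xe14 ye42 ze5) (ke xe3 ye52 ze51) (ke xe14 ye42 ze12) (ke xe14 ye42 ze14) (ke xe7 ye3 ze53) (ke xe3 ye52 ze52) (ke xe14 ye42 ze21) (ke xe3 ye52 ze53) (ke xe14 ye42 ze26) (ke xe14 ye42 ze29) (ke xe3 ye52 ze56) (ke xe14 ye22 ze19) (ke xe7 ye12 ze48) (ke xe14 ye42 ze35) (ke xe14 ye42 ze32) (ke xe7 ye5 ze58) (ke xe13 ye36 ze7) (ke xe14 ye42 ze39)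 (ke xe7 ye5 ze59) (ke xe14 ye42 ze44) (ke xe7 ye35 ze16) (ke xe14 ye42 ze48) (ke xe7 ye5 ze61) (ke xe7 ye35 ze8) (ke xe14 ye42 ze52) (ke xe10 ye7 ze22) (ke xe3 ye52 ze61) (ke xe3 ye53 ze0) (ke xe7 ye18 ze46) (ke xe13 ye41 ze7) (ke xe14 ye42 ze57) (ke xe14 ye42 ze61) (ke xe3 ye53 ze4) (ke xe14 ye43 ze3)) (@D3.rec (fun _ => Pt) (ke xe14 ye43 ze5) (ke xe14 ye43 ze7) (ke xe3 ye53 ze5) (ke xe7 ye3 ze45) (ke xe7 ye13 ze35) (ke xe14 ye43 ze14) (ke xe14 ye43 ze16) (ke xe3 ye53 ze14) (ke xe14 ye43 ze20) (ke xe14 ye43 ze22) (ke xe10 ye53 ze39) (ke xe3 ye53 ze15) (ke xe13 ye34 ze44) (ke xe14 ye43 ze29) (ke xe7 ye37 ze16) (ke xe14 ye43 ze37) (ke xe3 ye53 ze17) (ke xe14 ye43 ze42) (ke xe14 ye43 ze45) (ke xe3 ye53 ze20) (ke xe14 ye22 ze4) (ke xe14 ye43 ze48) (ke xe14 ye43 ze51) (ke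 xe7 ye39 ze31) (ke xe7 ye10 ze10) (ke xe7 ye37 ze10) (ke xe11 ye0 ze18) (ke xe3 ye53 ze23) (ke xe14 ye43 ze61) (ke xe3 ye53 ze26) (ke xe14 ye44 ze3) (ke xe14 ye27 ze45) (ke xe14 ye44 ze7) (ke xe3 ye53 ze27) (ke xe14 ye44 ze10) (ke xe14 ye44 ze15) (ke xe14 ye44 ze17) (ke xe3 ye53 ze30) (ke xe6 ye58 ze3) (ke xe7 ye18 ze19) (ke xe14 ye44 ze24) (ke xe13 ye14 ze47) (ke xe13 ye48 ze35) (ke xe14 ye44 ze29) (ke xe3 ye53 ze34) (ke xe12 ye52 ze13) (ke xe3 ye53 ze35) (ke xe14 ye44 ze38) (ke xe3 ye53 ze36) (ke xe12 ye18 ze37) (ke xe10 ye38 ze37) (ke xe3 ye53 ze38) (ke xe6 ye59 ze6) (ke xe9 ye20 ze20) (ke xe6 ye59 ze29) (ke xe13 ye33 ze47) (ke xe7 ye13 ze37) (ke xe14 ye44 ze48) (ke xe14 ye44 ze50) (ke xe3 ye53 ze41) (ke xe3 ye53 ze42) (ke xe14 ye44 ze54)) (@D3.rec (fun _ => Pt)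 (ke xe13 ye30 ze24) (ke xe14 ye44 ze25) (ke xe7 ye14 ze40) (ke xe14 ye45 ze1) (ke xe3 ye53 ze45) (ke xe13 ye32 ze7) (ke xe7 ye14 ze21) (ke xe14 ye45 ze9) (ke xe9 ye14 ze56) (ke xe3 ye53 ze46) (ke xe3 ye53 ze47) (ke xe9 ye14 ze55) (ke xe13 ye32 ze10) (ke xe14 ye45 ze19) (ke xe14 ye45 ze21) (ke xe3 ye53 ze51) (ke xe14 ye45 ze28) (ke xe3 ye53 ze52) (ke xe13 ye47 ze30) (ke xe14 ye45 ze37) (ke xe13 ye24 ze12) (ke xe14 ye45 ze38) (ke xe3 ye53 ze54) (ke xe13 ye26 ze8) (ke xe14 ye45 ze44) (ke xe11 ye26 ze46) (ke xe7 ye51 ze19) (ke xe14 ye8 ze42) (ke xe5 ye43 ze16) (ke xe3 ye53 ze58) (ke xe7 ye51 ze23) (ke xe14 ye45 ze54) (ke xe3 ye53 ze57) (ke xe14 ye45 ze56) (ke xe14 ye45 ze51) (ke xe14 ye45 ze59) (ke xe7 ye24 ze41) (ke xe14 ye46 ze0) (ke xe14 ye46 ze2) (ke xe3 ye53 ze61)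 (ke xe6 ye52 ze13) (ke xe14 ye46 ze5) (ke xe3 ye54 ze2) (ke xe3 ye54 ze3) (ke xe3 ye54 ze4) (ke xe14 ye46 ze13) (ke xe13 ye26 ze21) (ke xe4 ye10 ze42) (ke xe3 ye56 ze13) (ke xe14 ye46 ze17) (ke xe5 ye44 ze16) (ke xe14 ye46 ze19) (ke xe3 ye54 ze8) (ke xe3 ye54 ze9) (ke xe3 ye54 ze10) (ke xe14 ye46 ze22) (ke xe14 ye45 ze7) (ke xe13 ye58 ze24) (ke xe14 ye46 ze28) (ke xe13 ye58 ze33) (ke xe11 ye12 ze2) (ke xe8 ye0 ze46)) (@D3.rec (fun _ => Pt) (ke xe3 ye54 ze13) (ke xe9 ye45 ze45) (ke xe9 ye29 ze12) (ke xe7 ye52 ze0) (ke xe14 ye46 ze43) (ke xe11 ye17 ze33) (ke xe14 ye46 ze47) (ke xe3 ye54 ze15) (ke xe11 ye16 ze50) (ke xe14 ye46 ze51) (ke xe14 ye46 ze54) (ke xe14 ye46 ze56) (ke xe3 ye54 ze27) (ke xe14 ye46 ze61) (ke xe7 ye52 ze13) (ke xe14 ye3 ze44) (ke xe8 ye39 ze37) (ke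 xe3 ye54 ze19) (ke xe14 ye47 ze10) (ke xe14 ye47 ze13) (ke xe3 ye54 ze20) (ke xe7 ye52 ze18) (ke xe14 ye47 ze19) (ke xe14 ye47 ze23) (ke xe3 ye54 ze22) (ke xe14 ye47 ze28) (ke xe3 ye54 ze23) (ke xe14 ye47 ze31) (ke xe14 ye47 ze35) (ke xe14 ye47 ze38) (ke xe3 ye54 ze25) (ke xe14 ye47 ze44) (ke xe14 ye47 ze46) (ke xe3 ye54 ze26) (ke xe14 ye47 ze50) (ke xe10 ye35 ze33) (ke xe14 ye46 ze58) (ke xe12 ye41 ze12) (ke xe14 ye47 ze57) (ke xe3 ye54 ze28) (ke xe7 ye52 ze34) (ke xe14 ye48 ze1) (ke xe7 ye52 ze36) (ke xe14 ye48 ze2) (ke xe4 ye19 ze59) (ke xe3 ye54 ze31) (ke xe14 ye48 ze8) (ke xe14 ye48 ze10) (ke xe14 ye48 ze11) (ke xe3 ye54 ze32) (ke xe7 ye52 ze47) (ke xe14 ye48 ze13) (ke xe7 ye28 ze5) (ke xe13 ye25 ze17) (ke xe6 ye51 ze49) (ke xe11 ye30 ze13) (ke xe14 ye48 ze20)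 (ke xe14 ye3 ze23) (ke xe14 ye48 ze23) (ke xe13 ye25 ze55) (ke xe7 ye41 ze7) (ke xe14 ye48 ze28)) (@D3.rec (fun _ => Pt) (ke xe14 ye48 ze32) (ke xe3 ye54 ze39) (ke xe14 ye48 ze37) (ke xe3 ye54 ze40) (ke xe6 ye51 ze24) (ke xe14 ye48 ze40) (ke xe6 ye58 ze40) (ke xe14 ye14 ze53) (ke xe14 ye48 ze43) (ke xe3 ye54 ze42) (ke xe14 ye48 ze45) (ke xe3 ye54 ze45) (ke xe14 ye48 ze50) (ke xe14 ye48 ze51) (ke xe3 ye54 ze47) (ke xe3 ye54 ze48) (ke xe13 ye5 ze6) (ke xe14 ye49 ze0) (ke xe14 ye48 ze55) (ke xe7 ye49 ze26) (ke xe13 ye59 ze14) (ke xe14 ye49 ze11) (ke xe3 ye54 ze52) (ke xe7 ye49 ze30) (ke xe7 ye54 ze28) (ke xe14 ye49 ze16) (ke xe14 ye49 ze18) (ke xe14 ye49 ze13) (ke xe14 ye49 ze22) (ke xe14 ye49 ze24) (ke xe14 ye49 ze26) (ke xe7 ye18 ze41) (ke xe6 ye52 ze49) (ke xe13 ye3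 ze61) (ke xe3 ye54 ze58) (ke xe14 ye49 ze31) (ke xe3 ye54 ze59) (ke xe3 ye54 ze60) (ke xe14 ye49 ze35) (ke xe14 ye49 ze36) (ke xe14 ye7 ze45) (ke xe14 ye49 ze41) (ke xe14 ye7 ze52) (ke xe14 ye49 ze43) (ke xe3 ye55 ze1) (ke xe3 ye55 ze2) (ke xe3 ye55 ze3) (ke xe12 ye8 ze4) (ke xe13 ye13 ze43) (ke xe14 ye7 ze57) (ke xe3 ye56 ze34) (ke xe14 ye49 ze53) (ke xe14 ye49 ze55) (ke xe11 ye17 ze57) (ke xe14 ye49 ze58) (ke xe14 ye49 ze60) (ke xe14 ye50 ze1) (ke xe14 ye50 ze2) (ke xe3 ye55 ze7) (ke xe14 ye50 ze8) (ke xe14 ye50 ze11) (ke xe6 ye41 ze56)) (@D3.rec (fun _ => Pt) (ke xe7 ye50 ze3) (ke xe14 ye50 ze19) (ke xe9 ye17 ze14) (ke xe14 ye50 ze25) (ke xe3 ye55 ze9) (ke xe14 ye50 ze31) (ke xe14 ye50 ze33) (ke xe14 ye50 ze35) (ke xe3 ye55 ze10) (ke xe14 ye50 ze41) (ke xe8 ye37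 ze43) (ke xe3 ye55 ze20) (ke xe14 ye50 ze48) (ke xe7 ye50 ze14) (ke xe13 ye13 ze39) (ke xe14 ye50 ze51) (ke xe14 ye50 ze54) (ke xe3 ye55 ze14) (ke xe7 ye50 ze21) (ke xe14 ye50 ze58) (ke xe14 ye50 ze61) (ke xe3 ye55 ze15) (ke xe14 ye51 ze3) (ke xe3 ye55 ze16) (ke xe14 ye51 ze7) (ke xe14 ye51 ze9) (ke xe3 ye55 ze18) (ke xe4 ye14 ze27) (ke xe14 ye51 ze15) (ke xe14 ye51 ze17) (ke xe14 ye50 ze45) (ke xe14 ye51 ze22) (ke xe14 ye51 ze23) (ke xe3 ye55 ze21) (ke xe7 ye50 ze40) (ke xe14 ye51 ze29) (ke xe7 ye50 ze42) (ke xe13 ye2 ze37) (ke xe8 ye37 ze57) (ke xe14 ye51 ze37) (ke xe14 ye51 ze40) (ke xe14 ye51 ze42) (ke xe3 ye55 ze24) (ke xe14 ye51 ze49) (ke xe3 ye55 ze25) (ke xe14 ye51 ze53) (ke xe3 ye55 ze26) (ke xe7 ye50 ze50) (ke xe14 ye51 ze56) (ke xe13 ye4 ze0) (ke xe7 ye2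 ze42) (ke xe14 ye52 ze1) (ke xe3 ye55 ze30) (ke xe14 ye52 ze4) (ke xe14 ye52 ze5) (ke xe3 ye55 ze31) (ke xe13 ye2 ze54) (ke xe14 ye52 ze12) (ke xe3 ye55 ze34) (ke xe14 ye52 ze14) (ke xe3 ye55 ze35) (ke xe7 ye46 ze16)) (@D3.rec (fun _ => Pt) (ke xe14 ye52 ze20) (ke xe14 ye52 ze24) (ke xe3 ye55 ze37) (ke xe7 ye19 ze32) (ke xe3 ye55 ze39) (ke xe14 ye52 ze29) (ke xe3 ye55 ze41) (ke xe14 ye52 ze33) (ke xe14 ye52 ze35) (ke xe3 ye55 ze45) (ke xe6 ye54 ze56) (ke xe7 ye20 ze51) (ke xe14 ye52 ze40) (ke xe14 ye52 ze41) (ke xe14 ye52 ze43) (ke xe14 ye52 ze44) (ke xe14 ye52 ze36) (ke xe3 ye55 ze46) (ke xe14 ye52 ze45) (ke xe14 ye52 ze48) (ke xe6 ye8 ze44) (ke xe3 ye55 ze51) (ke xe6 ye55 ze32) (ke xe14 ye52 ze54) (ke xe14 ye52 ze55) (ke xe14 ye52 ze57) (ke xe14 ye52 ze51) (ke xe14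 ye52 ze58) (ke xe6 ye52 ze59) (ke xe6 ye57 ze20) (ke xe14 ye53 ze0) (ke xe14 ye53 ze1) (ke xe5 ye25 ze0) (ke xe3 ye55 ze56) (ke xe14 ye53 ze7) (ke xe14 ye53 ze9) (ke xe14 ye53 ze11) (ke xe3 ye55 ze57) (ke xe14 ye53 ze14) (ke xe5 ye25 ze3) (ke xe14 ye53 ze17) (ke xe3 ye55 ze60) (ke xe7 ye24 ze27) (ke xe14 ye53 ze21) (ke xe7 ye55 ze10) (ke xe14 ye0 ze0) (ke xe14 ye53 ze26) (ke xe3 ye56 ze2) (ke xe14 ye53 ze32) (ke xe14 ye53 ze35) (ke xe14 ye53 ze39) (ke xe3 ye56 ze4) (ke xe13 ye42 ze58) (ke xe14 ye53 ze48) (ke xe3 ye56 ze5) (ke xe14 ye53 ze52) (ke xe14 ye48 ze5) (ke xe14 ye53 ze56) (ke xe13 ye52 ze48) (ke xe14 ye53 ze61) (ke xe14 ye54 ze1) (ke xe3 ye56 ze8)) (@D3.rec (fun _ => Pt) (ke xe7 ye54 ze46) (ke xe7 ye54 ze22) (ke xe3 ye56 ze9) (ke xe13 ye5 ze8) (ke xe14 ye47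 ze6) (ke xe14 ye54 ze13) (ke xe14 ye46 ze10) (ke xe14 ye54 ze18) (ke xe14 ye54 ze20) (ke xe3 ye56 ze15) (ke xe14 ye54 ze26) (ke xe14 ye54 ze29) (ke xe14 ye54 ze32) (ke xe3 ye56 ze16) (ke xe14 ye54 ze38) (ke xe14 ye54 ze40) (ke xe3 ye56 ze17) (ke xe14 ye54 ze46) (ke xe12 ye40 ze27) (ke xe3 ye56 ze18) (ke xe14 ye54 ze52) (ke xe14 ye54 ze54) (ke xe7 ye54 ze1) (ke xe7 ye29 ze0) (ke xe14 ye54 ze59) (ke xe14 ye54 ze61) (ke xe3 ye56 ze23) (ke xe7 ye55 ze9) (ke xe7 ye51 ze24) (ke xe6 ye58 ze1) (ke xe7 ye5 ze20) (ke xe14 ye55 ze7) (ke xe7 ye5 ze22) (ke xe6 ye52 ze46) (ke xe14 ye55 ze11) (ke xe3 ye56 ze26) (ke xe7 ye11 ze35) (ke xe7 ye14 ze48) (ke xe14 ye55 ze18) (ke xe6 ye57 ze59) (ke xe14 ye55 ze21) (ke xe13 ye34 ze58) (ke xe14 ye2 ze28) (ke xe12 ye40 ze32) (ke xe14 ye55 ze27)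 (ke xe3 ye56 ze30) (ke xe7 ye54 ze0) (ke xe14 ye55 ze35) (ke xe3 ye56 ze31) (ke xe3 ye56 ze32) (ke xe14 ye55 ze40) (ke xe14 ye51 ze1) (ke xe14 ye49 ze47) (ke xe14 ye55 ze46) (ke xe14 ye55 ze48) (ke xe3 ye56 ze35) (ke xe14 ye51 ze12) (ke xe14 ye55 ze56) (ke xe3 ye56 ze36) (ke xe14 ye56 ze0) (ke xe14 ye56 ze2) (ke xe3 ye56 ze37)) (@D3.rec (fun _ => Pt) (ke xe14 ye56 ze8) (ke xe14 ye56 ze10) (ke xe3 ye56 ze38) (ke xe14 ye56 ze17) (ke xe14 ye56 ze18) (ke xe3 ye56 ze39) (ke xe14 ye56 ze23) (ke xe14 ye56 ze27) (ke xe3 ye56 ze43) (ke xe7 ye54 ze27) (ke xe7 ye53 ze44) (ke xe7 ye9 ze9) (ke xe14 ye56 ze30) (ke xe14 ye56 ze38) (ke xe14 ye56 ze42) (ke xe14 ye15 ze31) (ke xe3 ye56 ze45) (ke xe6 ye47 ze40) (ke xe4 ye48 ze28) (ke xe13 ye37 ze4) (ke xe14 ye56 ze50) (ke xe3 ye56 ze48)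 (ke xe14 ye56 ze52) (ke xe13 ye33 ze49) (ke xe14 ye56 ze56) (ke xe3 ye56 ze52) (ke xe3 ye56 ze53) (ke xe3 ye57 ze7) (ke xe14 ye57 ze2) (ke xe3 ye56 ze55) (ke xe14 ye57 ze5) (ke xe3 ye56 ze56) (ke xe3 ye56 ze58) (ke xe14 ye57 ze11) (ke xe3 ye56 ze59) (ke xe9 ye34 ze13) (ke xe14 ye57 ze16) (ke xe4 ye21 ze46) (ke xe14 ye57 ze20) (ke xe3 ye57 ze0) (ke xe10 ye37 ze34) (ke xe4 ye8 ze28) (ke xe4 ye21 ze37) (ke xe14 ye57 ze24) (ke xe3 ye57 ze2) (ke xe12 ye20 ze17) (ke xe14 ye57 ze29) (ke xe4 ye21 ze61) (ke xe14 ye57 ze31) (ke xe14 ye56 ze57) (ke xe4 ye21 ze53) (ke xe14 ye57 ze37) (ke xe3 ye57 ze5) (ke xe14 ye57 ze44) (ke xe14 ye57 ze45) (ke xe3 ye57 ze6) (ke xe14 ye57 ze52) (ke xe14 ye57 ze56) (ke xe14 ye57 ze0) (ke xe14 ye57 ze60) (ke xe14 ye57 ze61) (ke xe3 ye57 ze8)) (@D3.rec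 (fun _ => Pt) (ke xe3 ye57 ze9) (ke xe14 ye58 ze6) (ke xe14 ye58 ze8) (ke xe14 ye58 ze9) (ke xe3 ye57 ze11) (ke xe14 ye58 ze10) (ke xe3 ye57 ze12) (ke xe4 ye12 ze7) (ke xe14 ye58 ze17) (ke xe3 ye57 ze14) (ke xe14 ye58 ze20) (ke xe4 ye22 ze45) (ke xe10 ye1 ze17) (ke xe4 ye23 ze54) (ke xe13 ye28 ze10) (ke xe14 ye58 ze23) (ke xe3 ye57 ze18) (ke xe14 ye58 ze26) (ke xe10 ye3 ze18) (ke xe3 ye57 ze21) (ke xe14 ye58 ze34) (ke xe3 ye57 ze24) (ke xe3 ye57 ze26) (ke xe7 ye14 ze11) (ke xe14 ye58 ze43) (ke xe14 ye58 ze45) (ke xe14 ye58 ze48) (ke xe14 ye58 ze53) (ke xe3 ye57 ze30) (ke xe14 ye58 ze58) (ke xe14 ye58 ze61) (ke xe3 ye57 ze32) (ke xe14 ye59 ze4) (ke xe3 ye57 ze33) (ke xe14 ye59 ze11) (ke xe3 ye57 ze34) (ke xe14 ye59 ze19) (ke xe10 ye28 ze44) (ke xe14 ye59 ze22) (ke xe3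 ye57 ze36) (ke xe3 ye57 ze37) (ke xe3 ye57 ze38) (ke xe14 ye59 ze26) (ke xe14 ye59 ze28) (ke xe7 ye5 ze50) (ke xe14 ye59 ze30) (ke xe14 ye59 ze33) (ke xe4 ye24 ze27) (ke xe4 ye24 ze50) (ke xe3 ye57 ze41) (ke xe14 ye59 ze35) (ke xe14 ye59 ze37) (ke xe3 ye57 ze44) (ke xe12 ye22 ze37) (ke xe14 ye59 ze42) (ke xe4 ye24 ze57) (ke xe8 ye48 ze12) (ke xe3 ye57 ze46) (ke xe13 ye30 ze36) (ke xe14 ye59 ze43) (ke xe12 ye38 ze22) (ke xe3 ye57 ze48)) (@D3.rec (fun _ => Pt) (ke xe14 ye59 ze49) (ke xe14 ye59 ze51) (ke xe3 ye57 ze50) (ke xe4 ye25 ze33) (ke xe14 ye59 ze53) (ke xe3 ye57 ze52) (ke xe14 ye59 ze56) (ke xe4 ye26 ze56) (ke xe14 ye59 ze60) (ke xe3 ye57 ze54) (ke xe6 ye15 ze31) (ke xe3 ye57 ze55) (ke xe14 ye59 ze61) (ke xe15 ye0 ze0) (ke xe3 ye57 ze57) (ke xe3 ye57 ze58) (ke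 xe15 ye0 ze4) (ke xe15 ye0 ze5) (ke xe3 ye57 ze59) (ke xe6 ye2 ze51) (ke xe15 ye0 ze8) (ke xe3 ye57 ze60) (ke xe15 ye0 ze15) (ke xe15 ye0 ze19) (ke xe8 ye50 ze50) (ke xe15 ye0 ze23) (ke xe15 ye0 ze27) (ke xe3 ye58 ze0) (ke xe15 ye0 ze32) (ke xe11 ye6 ze14) (ke xe3 ye58 ze1) (ke xe15 ye0 ze37) (ke xe15 ye0 ze40) (ke xe4 ye54 ze11) (ke xe15 ye0 ze47) (ke xe4 ye54 ze26) (ke xe15 ye0 ze53) (ke xe15 ye0 ze56) (ke xe3 ye58 ze6) (ke xe15 ye0 ze59) (ke xe3 ye58 ze7) (ke xe15 ye1 ze0) (ke xe3 ye58 ze8) (ke xe15 ye1 ze4) (ke xe3 ye58 ze9) (ke xe8 ye13 ze6) (ke xe15 ye1 ze12) (ke xe15 ye1 ze13) (ke xe3 ye58 ze11) (ke xe15 ye1 ze15) (ke xe3 ye58 ze12) (ke xe15 ye1 ze18) (ke xe3 ye58 ze14) (ke xe4 ye51 ze23) (ke xe15 ye1 ze23) (ke xe3 ye58 ze16) (ke xe15 ye1 ze29) (ke xe15 ye1 ze32)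 (ke xe15 ye1 ze37) (ke xe15 ye1 ze39) (ke xe3 ye58 ze17) (ke xe8 ye13 ze25)) (@D3.rec (fun _ => Pt) (ke xe3 ye58 ze19) (ke xe5 ye39 ze39) (ke xe15 ye1 ze46) (ke xe15 ye1 ze50) (ke xe3 ye58 ze20) (ke xe15 ye1 ze56) (ke xe15 ye1 ze57) (ke xe3 ye58 ze22) (ke xe8 ye13 ze1) (ke xe5 ye36 ze55) (ke xe3 ye58 ze24) (ke xe15 ye2 ze3) (ke xe15 ye2 ze8) (ke xe15 ye2 ze10) (ke xe3 ye58 ze25) (ke xe8 ye13 ze48) (ke xe15 ye2 ze17) (ke xe15 ye1 ze6) (ke xe3 ye58 ze27) (ke xe15 ye2 ze23) (ke xe15 ye2 ze24) (ke xe3 ye58 ze28) (ke xe15 ye2 ze30) (ke xe8 ye13 ze41) (ke xe4 ye5 ze2) (ke xe15 ye1 ze2) (ke xe15 ye2 ze37) (ke xe15 ye2 ze38) (ke xe3 ye58 ze30) (ke xe15 ye2 ze45) (ke xe15 ye2 ze46) (ke xe3 ye58 ze31) (ke xe15 ye2 ze51) (ke xe15 ye2 ze54) (ke xe8 ye13 ze57) (ke xe15 ye1 ze7)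 (ke xe15 ye2 ze60) (ke xe15 ye3 ze0) (ke xe15 ye3 ze2) (ke xe3 ye58 ze33) (ke xe15 ye3 ze6) (ke xe3 ye58 ze34) (ke xe15 ye3 ze12) (ke xe9 ye36 ze52) (ke xe15 ye3 ze14) (ke xe3 ye58 ze36) (ke xe8 ye27 ze46) (ke xe15 ye3 ze24) (ke xe4 ye56 ze7) (ke xe5 ye37 ze1) (ke xe4 ye55 ze58) (ke xe3 ye58 ze39) (ke xe3 ye58 ze41) (ke xe8 ye14 ze25) (ke xe15 ye3 ze28) (ke xe15 ye3 ze31) (ke xe15 ye3 ze33) (ke xe3 ye58 ze44) (ke xe15 ye3 ze36) (ke xe15 ye3 ze39) (ke xe5 ye48 ze35) (ke xe3 ye58 ze45)) (@D3.rec (fun _ => Pt) (ke xe11 ye26 ze26) (ke xe4 ye57 ze46) (ke xe15 ye3 ze45) (ke xe3 ye58 ze47) (ke xe4 ye57 ze51) (ke xe9 ye53 ze40) (ke xe9 ye0 ze28) (ke xe8 ye12 ze18) (ke xe15 ye3 ze50) (ke xe4 ye23 ze19) (ke xe5 ye41 ze20) (ke xe3 ye58 ze57) (ke xe4 ye36 ze23) (ke xe3 ye59 ze20)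 (ke xe3 ye58 ze59) (ke xe15 ye3 ze55) (ke xe7 ye33 ze47) (ke xe15 ye3 ze57) (ke xe3 ye58 ze60) (ke xe15 ye3 ze58) (ke xe12 ye23 ze45) (ke xe13 ye27 ze51) (ke xe15 ye3 ze61) (ke xe3 ye59 ze1) (ke xe13 ye27 ze54) (ke xe15 ye4 ze2) (ke xe3 ye59 ze2) (ke xe11 ye34 ze58) (ke xe3 ye59 ze3) (ke xe9 ye3 ze38) (ke xe7 ye29 ze13) (ke xe15 ye4 ze9) (ke xe3 ye59 ze5) (ke xe15 ye4 ze13) (ke xe6 ye9 ze1) (ke xe3 ye59 ze6) (ke xe13 ye58 ze35) (ke xe13 ye58 ze36) (ke xe7 ye29 ze12) (ke xe11 ye2 ze22) (ke xe3 ye59 ze8) (ke xe15 ye4 ze24) (ke xe13 ye58 ze40) (ke xe15 ye4 ze29) (ke xe15 ye4 ze30) (ke xe3 ye59 ze10) (ke xe3 ye59 ze11) (ke xe11 ye30 ze4) (ke xe3 ye59 ze13) (ke xe11 ye48 ze42) (ke xe3 ye59 ze15) (ke xe10 ye6 ze51) (ke xe11 ye12 ze45) (ke xe15 ye4 ze37) (ke xe3 ye59 ze19)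 (ke xe15 ye4 ze39) (ke xe3 ye59 ze21) (ke xe11 ye20 ze47) (ke xe3 ye59 ze22) (ke xe7 ye0 ze43) (ke xe5 ye53 ze59) (ke xe15 ye4 ze41))
def f_e_8 : D2 → D3 → Pt := @D2.rec (fun _ => D3 → Pt) (@D3.rec (fun _ => Pt) (ke xe4 ye36 ze50) (ke xe13 ye10 ze14) (ke xe6 ye7 ze38) (ke xe3 ye59 ze24) (ke xe3 ye59 ze27) (ke xe15 ye4 ze46) (ke xe3 ye59 ze28) (ke xe3 ye59 ze29) (ke xe15 ye4 ze48) (ke xe5 ye7 ze12) (ke xe3 ye59 ze31) (ke xe4 ye32 ze25) (ke xe9 ye4 ze43) (ke xe5 ye7 ze13) (ke xe12 ye32 ze14) (ke xe11 ye1 ze19) (ke xe3 ye59 ze34) (ke xe3 ye59 ze37) (ke xe15 ye4 ze58) (ke xe15 ye4 ze57) (ke xe15 ye4 ze61) (ke xe3 ye59 ze39) (ke xe12 ye17 ze47) (ke xe3 ye59 ze48) (ke xe6 ye46 ze27) (ke xe3 ye59 ze41) (ke xe10 ye45 ze34) (ke xe15 ye5 ze7) (ke xe3 ye59 ze42) (ke xe5 ye47 ze17)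 (ke xe15 ye5 ze11) (ke xe15 ye5 ze12) (ke xe3 ye59 ze44) (ke xe15 ye5 ze13) (ke xe15 ye5 ze14) (ke xe3 ye59 ze45) (ke xe4 ye59 ze30) (ke xe15 ye5 ze16) (ke xe3 ye59 ze47) (ke xe15 ye5 ze4) (ke xe15 ye5 ze19) (ke xe6 ye42 ze9) (ke xe15 ye5 ze5) (ke xe6 ye46 ze28) (ke xe6 ye50 ze40) (ke xe15 ye5 ze26) (ke xe7 ye49 ze61) (ke xe3 ye59 ze50) (ke xe6 ye56 ze38) (ke xe8 ye50 ze3) (ke xe15 ye5 ze0) (ke xe4 ye49 ze48) (ke xe15 ye5 ze34) (ke xe15 ye5 ze37) (ke xe5 ye49 ze34) (ke xe3 ye59 ze53) (ke xe4 ye32 ze4) (ke xe11 ye33 ze28) (ke xe11 ye6 ze42) (ke xe6 ye16 ze47) (ke xe4 ye4 ze48) (ke xe10 ye1 ze22)) (@D3.rec (fun _ => Pt) (ke xe6 ye13 ze43) (ke xe7 ye6 ze31) (ke xe14 ye59 ze1) (ke xe7 ye7 ze4) (ke xe12 ye22 ze60) (ke xe15 ye5 ze47) (ke xe4 ye0 ze1) (ke xe15 ye5 ze52) (ke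 xe15 ye5 ze56) (ke xe4 ye0 ze3) (ke xe15 ye5 ze61) (ke xe15 ye6 ze2) (ke xe15 ye6 ze3) (ke xe4 ye0 ze5) (ke xe4 ye0 ze6) (ke xe15 ye6 ze9) (ke xe4 ye0 ze8) (ke xe4 ye0 ze9) (ke xe15 ye6 ze18) (ke xe15 ye6 ze21) (ke xe12 ye5 ze54) (ke xe15 ye6 ze24) (ke xe15 ye6 ze28) (ke xe4 ye0 ze11) (ke xe15 ye6 ze33) (ke xe15 ye6 ze35) (ke xe4 ye0 ze12) (ke xe15 ye6 ze39) (ke xe4 ye0 ze14) (ke xe11 ye3 ze8) (ke xe4 ye53 ze2) (ke xe4 ye0 ze16) (ke xe11 ye8 ze57) (ke xe4 ye52 ze58) (ke xe15 ye6 ze51) (ke xe15 ye6 ze56) (ke xe9 ye34 ze0) (ke xe15 ye6 ze61) (ke xe9 ye53 ze31) (ke xe4 ye0 ze19) (ke xe4 ye0 ze20) (ke xe6 ye13 ze42) (ke xe10 ye16 ze11) (ke xe8 ye3 ze26) (ke xe4 ye24 ze59) (ke xe4 ye0 ze25) (ke xe4 ye23 ze18) (ke xe15 ye7 ze9) (ke xe7 ye33 ze46) (ke xe7 ye12 ze56) (ke xe15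 ye7 ze13) (ke xe4 ye0 ze26) (ke xe15 ye7 ze17) (ke xe15 ye7 ze20) (ke xe15 ye7 ze22) (ke xe15 ye7 ze27) (ke xe4 ye0 ze28) (ke xe15 ye7 ze32) (ke xe4 ye0 ze29) (ke xe15 ye7 ze37) (ke xe4 ye0 ze30) (ke xe15 ye7 ze42)) (@D3.rec (fun _ => Pt) (ke xe15 ye7 ze44) (ke xe15 ye7 ze45) (ke xe4 ye0 ze32) (ke xe15 ye7 ze48) (ke xe4 ye0 ze34) (ke xe15 ye7 ze50) (ke xe4 ye0 ze35) (ke xe8 ye50 ze33) (ke xe15 ye7 ze51) (ke xe15 ye7 ze52) (ke xe4 ye0 ze40) (ke xe15 ye7 ze53) (ke xe15 ye7 ze54) (ke xe4 ye0 ze41) (ke xe4 ye0 ze42) (ke xe9 ye45 ze10) (ke xe15 ye7 ze56) (ke xe9 ye47 ze3) (ke xe4 ye0 ze45) (ke xe4 ye0 ze46) (ke xe15 ye8 ze0) (ke xe8 ye38 ze55) (ke xe15 ye8 ze3) (ke xe4 ye0 ze48) (ke xe4 ye0 ze49) (ke xe15 ye8 ze9) (ke xe4 ye0 ze50) (ke xe15 ye8 ze13) (ke xe15 ye8 ze17) (ke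 xe15 ye8 ze18) (ke xe4 ye0 ze52) (ke xe15 ye8 ze20) (ke xe4 ye0 ze58) (ke xe4 ye0 ze57) (ke xe15 ye8 ze32) (ke xe15 ye8 ze36) (ke xe4 ye0 ze55) (ke xe15 ye8 ze43) (ke xe15 ye8 ze45) (ke xe4 ye0 ze56) (ke xe15 ye8 ze50) (ke xe15 ye8 ze52) (ke xe15 ye8 ze26) (ke xe4 ye0 ze59) (ke xe8 ye39 ze45) (ke xe15 ye8 ze60) (ke xe15 ye9 ze0) (ke xe4 ye0 ze61) (ke xe4 ye1 ze1) (ke xe4 ye1 ze9) (ke xe8 ye9 ze27) (ke xe8 ye9 ze24) (ke xe4 ye1 ze3) (ke xe4 ye1 ze4) (ke xe15 ye9 ze13) (ke xe4 ye1 ze5) (ke xe11 ye53 ze27) (ke xe15 ye9 ze18) (ke xe4 ye1 ze59) (ke xe4 ye4 ze6) (ke xe15 ye9 ze24) (ke xe4 ye1 ze7)) (@D3.rec (fun _ => Pt) (ke xe15 ye9 ze29) (ke xe11 ye55 ze30) (ke xe4 ye3 ze60) (ke xe15 ye9 ze32) (ke xe15 ye9 ze35) (ke xe15 ye9 ze6) (ke xe15 ye9 ze38) (ke xe15 ye9 ze40) (ke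 xe8 ye8 ze31) (ke xe15 ye9 ze45) (ke xe4 ye1 ze12) (ke xe8 ye40 ze50) (ke xe15 ye9 ze51) (ke xe8 ye4 ze48) (ke xe13 ye38 ze10) (ke xe15 ye9 ze52) (ke xe15 ye9 ze53) (ke xe4 ye1 ze17) (ke xe15 ye9 ze59) (ke xe4 ye1 ze19) (ke xe15 ye10 ze1) (ke xe5 ye15 ze11) (ke xe8 ye4 ze41) (ke xe15 ye10 ze3) (ke xe4 ye1 ze22) (ke xe12 ye6 ze12) (ke xe8 ye1 ze43) (ke xe15 ye10 ze8) (ke xe12 ye8 ze27) (ke xe4 ye1 ze24) (ke xe8 ye10 ze37) (ke xe4 ye1 ze25) (ke xe4 ye1 ze26) (ke xe15 ye10 ze14) (ke xe15 ye10 ze18) (ke xe14 ye56 ze36) (ke xe13 ye26 ze38) (ke xe4 ye1 ze29) (ke xe8 ye42 ze52) (ke xe7 ye8 ze22) (ke xe15 ye10 ze26) (ke xe4 ye1 ze30) (ke xe4 ye1 ze31) (ke xe15 ye10 ze30) (ke xe15 ye10 ze33) (ke xe4 ye1 ze33) (ke xe15 ye10 ze38) (ke xe4 ye1 ze34) (ke xe15 ye10 ze43) (ke xe4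 ye1 ze35) (ke xe15 ye10 ze49) (ke xe4 ye1 ze36) (ke xe14 ye0 ze15) (ke xe15 ye10 ze58) (ke xe15 ye10 ze59) (ke xe4 ye1 ze38) (ke xe15 ye11 ze0) (ke xe15 ye11 ze1) (ke xe4 ye1 ze39) (ke xe8 ye28 ze8) (ke xe15 ye11 ze9) (ke xe15 ye11 ze8)) (@D3.rec (fun _ => Pt) (ke xe4 ye1 ze41) (ke xe15 ye11 ze12) (ke xe5 ye8 ze54) (ke xe15 ye11 ze17) (ke xe15 ye11 ze18) (ke xe4 ye1 ze43) (ke xe9 ye52 ze35) (ke xe4 ye1 ze45) (ke xe5 ye8 ze42) (ke xe4 ye1 ze46) (ke xe15 ye11 ze30) (ke xe15 ye11 ze31) (ke xe4 ye1 ze47) (ke xe15 ye11 ze37) (ke xe5 ye9 ze8) (ke xe4 ye1 ze49) (ke xe15 ye11 ze45) (ke xe15 ye11 ze46) (ke xe4 ye1 ze50) (ke xe15 ye11 ze50) (ke xe5 ye9 ze1) (ke xe15 ye11 ze55) (ke xe15 ye11 ze56) (ke xe4 ye1 ze52) (ke xe15 ye12 ze1) (ke xe15 ye12 ze2) (ke xe4 ye1 ze53) (ke xe15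 ye12 ze9) (ke xe15 ye12 ze14) (ke xe9 ye52 ze10) (ke xe15 ye12 ze19) (ke xe15 ye12 ze20) (ke xe15 ye12 ze22) (ke xe15 ye12 ze24) (ke xe4 ye1 ze55) (ke xe4 ye1 ze56) (ke xe4 ye1 ze58) (ke xe15 ye12 ze35) (ke xe4 ye1 ze60) (ke xe10 ye19 ze53) (ke xe15 ye12 ze38) (ke xe8 ye3 ze22) (ke xe4 ye20 ze35) (ke xe4 ye2 ze3) (ke xe15 ye12 ze45) (ke xe4 ye2 ze4) (ke xe15 ye12 ze49) (ke xe5 ye1 ze0) (ke xe8 ye3 ze13) (ke xe15 ye12 ze52) (ke xe4 ye2 ze7) (ke xe4 ye2 ze8) (ke xe11 ye23 ze26) (ke xe4 ye2 ze10) (ke xe12 ye8 ze42) (ke xe4 ye22 ze48) (ke xe15 ye13 ze4) (ke xe4 ye2 ze13) (ke xe4 ye2 ze14) (ke xe15 ye13 ze10) (ke xe9 ye44 ze34) (ke xe5 ye37 ze39)) (@D3.rec (fun _ => Pt) (ke xe15 ye13 ze17) (ke xe15 ye13 ze19) (ke xe4 ye2 ze16) (ke xe15 ye13 ze21) (ke xe14 ye25 ze34) (ke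 xe13 ye31 ze8) (ke xe15 ye13 ze25) (ke xe4 ye2 ze17) (ke xe15 ye13 ze29) (ke xe15 ye13 ze31) (ke xe15 ye13 ze33) (ke xe15 ye13 ze36) (ke xe4 ye2 ze19) (ke xe15 ye13 ze41) (ke xe4 ye2 ze20) (ke xe15 ye13 ze44) (ke xe4 ye2 ze21) (ke xe15 ye13 ze48) (ke xe4 ye2 ze22) (ke xe15 ye13 ze55) (ke xe4 ye2 ze23) (ke xe15 ye14 ze0) (ke xe15 ye14 ze3) (ke xe15 ye14 ze4) (ke xe4 ye2 ze25) (ke xe15 ye14 ze7) (ke xe10 ye29 ze18) (ke xe15 ye14 ze10) (ke xe8 ye5 ze53) (ke xe15 ye14 ze11) (ke xe10 ye29 ze15) (ke xe8 ye5 ze50) (ke xe15 ye14 ze16) (ke xe15 ye14 ze20) (ke xe10 ye29 ze22) (ke xe13 ye6 ze32) (ke xe15 ye14 ze22) (ke xe4 ye2 ze30) (ke xe4 ye2 ze31) (ke xe15 ye9 ze17) (ke xe15 ye14 ze29) (ke xe15 ye14 ze31) (ke xe4 ye2 ze33) (ke xe4 ye2 ze34) (ke xe4 ye2 ze39) (ke xe15 ye14 ze39)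 (ke xe15 ye14 ze40) (ke xe4 ye2 ze36) (ke xe8 ye41 ze44) (ke xe15 ye14 ze42) (ke xe8 ye5 ze31) (ke xe15 ye14 ze43) (ke xe10 ye20 ze46) (ke xe8 ye5 ze28) (ke xe15 ye14 ze48) (ke xe15 ye14 ze52) (ke xe15 ye14 ze35) (ke xe15 ye14 ze56) (ke xe10 ye8 ze55) (ke xe4 ye2 ze40) (ke xe4 ye2 ze41) (ke xe8 ye8 ze28)) (@D3.rec (fun _ => Pt) (ke xe15 ye15 ze0) (ke xe15 ye15 ze2) (ke xe4 ye2 ze43) (ke xe5 ye29 ze24) (ke xe7 ye38 ze60) (ke xe8 ye19 ze60) (ke xe4 ye2 ze45) (ke xe5 ye29 ze29) (ke xe15 ye15 ze15) (ke xe15 ye15 ze16) (ke xe4 ye2 ze48) (ke xe5 ye26 ze47) (ke xe15 ye15 ze24) (ke xe5 ye32 ze13) (ke xe15 ye15 ze29) (ke xe15 ye15 ze30) (ke xe4 ye2 ze51) (ke xe14 ye6 ze1) (ke xe15 ye15 ze36) (ke xe4 ye2 ze52) (ke xe15 ye15 ze43) (ke xe15 ye15 ze48) (ke xe8 ye15 ze30) (ke xe13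 ye28 ze25) (ke xe15 ye15 ze52) (ke xe15 ye15 ze54) (ke xe15 ye15 ze56) (ke xe15 ye15 ze58) (ke xe4 ye2 ze54) (ke xe15 ye15 ze61) (ke xe4 ye2 ze55) (ke xe15 ye16 ze5) (ke xe4 ye2 ze57) (ke xe8 ye10 ze16) (ke xe15 ye16 ze14) (ke xe15 ye16 ze15) (ke xe4 ye2 ze59) (ke xe4 ye3 ze30) (ke xe15 ye16 ze20) (ke xe8 ye36 ze42) (ke xe11 ye5 ze13) (ke xe4 ye3 ze1) (ke xe15 ye16 ze29) (ke xe15 ye16 ze30) (ke xe4 ye3 ze3) (ke xe8 ye36 ze46) (ke xe4 ye3 ze6) (ke xe15 ye9 ze2) (ke xe15 ye16 ze35) (ke xe15 ye16 ze38) (ke xe8 ye30 ze6) (ke xe4 ye3 ze8) (ke xe4 ye4 ze5) (ke xe15 ye16 ze47) (ke xe11 ye53 ze28) (ke xe15 ye16 ze52) (ke xe15 ye16 ze53) (ke xe4 ye3 ze11) (ke xe15 ye16 ze57) (ke xe4 ye3 ze57) (ke xe8 ye41 ze5) (ke xe15 ye17 ze0)) (@D3.rec (fun _ => Pt) (ke xe4 ye3 ze13) (ke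 xe13 ye43 ze26) (ke xe15 ye17 ze6) (ke xe4 ye3 ze14) (ke xe15 ye17 ze13) (ke xe15 ye17 ze18) (ke xe4 ye4 ze13) (ke xe15 ye17 ze22) (ke xe15 ye17 ze23) (ke xe15 ye17 ze25) (ke xe15 ye17 ze27) (ke xe4 ye3 ze16) (ke xe12 ye40 ze3) (ke xe4 ye3 ze17) (ke xe11 ye53 ze10) (ke xe15 ye17 ze34) (ke xe15 ye17 ze39) (ke xe15 ye17 ze41) (ke xe4 ye3 ze20) (ke xe4 ye28 ze3) (ke xe4 ye17 ze29) (ke xe15 ye17 ze46) (ke xe4 ye3 ze24) (ke xe8 ye9 ze33) (ke xe15 ye16 ze7) (ke xe8 ye36 ze43) (ke xe15 ye17 ze56) (ke xe4 ye3 ze26) (ke xe15 ye17 ze60) (ke xe15 ye18 ze1) (ke xe15 ye18 ze2) (ke xe4 ye3 ze28) (ke xe15 ye16 ze16) (ke xe15 ye18 ze10) (ke xe8 ye8 ze46) (ke xe8 ye36 ze52) (ke xe11 ye56 ze57) (ke xe15 ye18 ze16) (ke xe15 ye18 ze19) (ke xe4 ye3 ze31) (ke xe15 ye18 ze20) (ke xe5 ye31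 ze18) (ke xe4 ye3 ze34) (ke xe8 ye39 ze14) (ke xe15 ye18 ze23) (ke xe4 ye3 ze35) (ke xe4 ye3 ze36) (ke xe4 ye3 ze38) (ke xe4 ye3 ze39) (ke xe15 ye18 ze36) (ke xe15 ye18 ze37) (ke xe4 ye3 ze40) (ke xe15 ye18 ze39) (ke xe5 ye22 ze43) (ke xe4 ye3 ze44) (ke xe8 ye20 ze29) (ke xe15 ye18 ze44) (ke xe15 ye18 ze47) (ke xe10 ye51 ze38) (ke xe4 ye3 ze46) (ke xe8 ye8 ze22) (ke xe9 ye37 ze37)) (@D3.rec (fun _ => Pt) (ke xe15 ye18 ze55) (ke xe14 ye56 ze59) (ke xe4 ye3 ze48) (ke xe8 ye14 ze11) (ke xe14 ye58 ze7) (ke xe15 ye18 ze61) (ke xe4 ye3 ze52) (ke xe8 ye40 ze17) (ke xe15 ye19 ze0) (ke xe9 ye53 ze6) (ke xe15 ye19 ze8) (ke xe15 ye19 ze13) (ke xe15 ye19 ze14) (ke xe4 ye3 ze53) (ke xe15 ye19 ze20) (ke xe4 ye28 ze21) (ke xe15 ye19 ze23) (ke xe15 ye16 ze37) (ke xe15 ye19 ze26) (ke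 xe4 ye3 ze55) (ke xe11 ye4 ze25) (ke xe15 ye19 ze34) (ke xe8 ye7 ze60) (ke xe15 ye9 ze28) (ke xe15 ye16 ze58) (ke xe15 ye16 ze59) (ke xe15 ye19 ze45) (ke xe15 ye19 ze48) (ke xe8 ye5 ze61) (ke xe4 ye3 ze58) (ke xe10 ye19 ze55) (ke xe8 ye3 ze8) (ke xe15 ye12 ze31) (ke xe4 ye3 ze61) (ke xe15 ye19 ze61) (ke xe15 ye20 ze0) (ke xe4 ye4 ze0) (ke xe15 ye20 ze4) (ke xe11 ye53 ze12) (ke xe15 ye9 ze10) (ke xe15 ye16 ze48) (ke xe15 ye20 ze8) (ke xe15 ye20 ze9) (ke xe4 ye4 ze2) (ke xe15 ye20 ze15) (ke xe15 ye16 ze39) (ke xe8 ye7 ze34) (ke xe15 ye9 ze15) (ke xe15 ye20 ze23) (ke xe15 ye20 ze25) (ke xe4 ye4 ze4) (ke xe15 ye16 ze43) (ke xe15 ye16 ze44) (ke xe8 ye39 ze12) (ke xe12 ye49 ze49) (ke xe11 ye56 ze14) (ke xe15 ye20 ze33) (ke xe4 ye4 ze7) (ke xe8 ye10 ze9) (ke xe8 ye28 ze13)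 (ke xe15 ye17 ze3) (ke xe15 ye20 ze46)) (@D3.rec (fun _ => Pt) (ke xe14 ye50 ze24) (ke xe14 ye49 ze7) (ke xe4 ye4 ze9) (ke xe8 ye9 ze49) (ke xe8 ye28 ze2) (ke xe15 ye20 ze56) (ke xe15 ye20 ze59) (ke xe15 ye21 ze1) (ke xe15 ye21 ze7) (ke xe15 ye21 ze10) (ke xe4 ye4 ze11) (ke xe15 ye21 ze14) (ke xe15 ye21 ze19) (ke xe15 ye21 ze22) (ke xe15 ye21 ze24) (ke xe4 ye4 ze12) (ke xe15 ye21 ze29) (ke xe15 ye21 ze32) (ke xe15 ye21 ze35) (ke xe15 ye21 ze38) (ke xe4 ye4 ze14) (ke xe4 ye4 ze15) (ke xe15 ye21 ze47) (ke xe15 ye21 ze49) (ke xe8 ye2 ze51) (ke xe15 ye21 ze52) (ke xe15 ye21 ze55) (ke xe8 ye2 ze50) (ke xe15 ye21 ze61) (ke xe15 ye22 ze2) (ke xe4 ye4 ze18) (ke xe15 ye22 ze5) (ke xe15 ye22 ze8) (ke xe8 ye7 ze23) (ke xe4 ye4 ze19) (ke xe15 ye22 ze13) (ke xe4 ye4 ze20) (ke xe11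 ye8 ze37) (ke xe10 ye11 ze30) (ke xe5 ye38 ze56) (ke xe4 ye4 ze22) (ke xe15 ye22 ze24) (ke xe4 ye4 ze23) (ke xe8 ye27 ze22) (ke xe5 ye38 ze61) (ke xe15 ye22 ze29) (ke xe15 ye22 ze31) (ke xe5 ye59 ze13) (ke xe4 ye4 ze25) (ke xe8 ye9 ze3) (ke xe5 ye39 ze11) (ke xe11 ye56 ze61) (ke xe11 ye57 ze0) (ke xe15 ye22 ze39) (ke xe15 ye22 ze42) (ke xe4 ye4 ze28) (ke xe15 ye22 ze43) (ke xe8 ye27 ze54) (ke xe4 ye4 ze33) (ke xe9 ye0 ze59) (ke xe14 ye9 ze24) (ke xe15 ye22 ze45)) (@D3.rec (fun _ => Pt) (ke xe4 ye4 ze35) (ke xe15 ye22 ze52) (ke xe4 ye4 ze36) (ke xe10 ye8 ze12) (ke xe5 ye35 ze23) (ke xe15 ye22 ze59) (ke xe15 ye23 ze0) (ke xe15 ye23 ze1) (ke xe4 ye4 ze39) (ke xe8 ye8 ze58) (ke xe8 ye27 ze42) (ke xe15 ye23 ze11) (ke xe15 ye23 ze14) (ke xe4 ye51 ze48) (ke xe4 ye4 ze41) (ke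 xe5 ye15 ze17) (ke xe8 ye6 ze33) (ke xe9 ye38 ze40) (ke xe9 ye34 ze19) (ke xe4 ye4 ze46) (ke xe8 ye37 ze38) (ke xe15 ye23 ze23) (ke xe15 ye23 ze30) (ke xe11 ye9 ze37) (ke xe8 ye11 ze53) (ke xe4 ye14 ze41) (ke xe15 ye13 ze26) (ke xe15 ye23 ze33) (ke xe15 ye23 ze35) (ke xe4 ye4 ze49) (ke xe4 ye20 ze37) (ke xe4 ye56 ze34) (ke xe5 ye37 ze42) (ke xe15 ye23 ze39) (ke xe15 ye23 ze41) (ke xe15 ye23 ze43) (ke xe15 ye23 ze45) (ke xe8 ye3 ze30) (ke xe4 ye4 ze55) (ke xe15 ye23 ze52) (ke xe5 ye9 ze10) (ke xe4 ye4 ze57) (ke xe15 ye23 ze56) (ke xe15 ye23 ze58) (ke xe15 ye23 ze59) (ke xe4 ye4 ze59) (ke xe15 ye24 ze1) (ke xe15 ye24 ze4) (ke xe8 ye12 ze59) (ke xe15 ye24 ze11) (ke xe8 ye12 ze61) (ke xe15 ye24 ze16) (ke xe15 ye2 ze32) (ke xe15 ye24 ze19) (ke xe4 ye5 ze3) (ke xe15 ye24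 ze22) (ke xe4 ye5 ze4) (ke xe11 ye51 ze26) (ke xe4 ye54 ze39) (ke xe15 ye24 ze27) (ke xe15 ye24 ze28) (ke xe4 ye5 ze6)) (@D3.rec (fun _ => Pt) (ke xe15 ye24 ze29) (ke xe15 ye24 ze31) (ke xe4 ye5 ze7) (ke xe8 ye36 ze33) (ke xe15 ye24 ze36) (ke xe4 ye5 ze9) (ke xe5 ye1 ze19) (ke xe15 ye24 ze41) (ke xe4 ye5 ze11) (ke xe15 ye24 ze47) (ke xe10 ye37 ze44) (ke xe9 ye12 ze6) (ke xe5 ye56 ze12) (ke xe4 ye5 ze12) (ke xe4 ye54 ze61) (ke xe11 ye57 ze28) (ke xe8 ye26 ze47) (ke xe15 ye24 ze59) (ke xe4 ye5 ze14) (ke xe15 ye25 ze1) (ke xe15 ye25 ze2) (ke xe4 ye5 ze15) (ke xe4 ye30 ze52) (ke xe11 ye57 ze9) (ke xe4 ye5 ze17) (ke xe15 ye25 ze10) (ke xe15 ye25 ze15) (ke xe15 ye25 ze18) (ke xe4 ye5 ze18) (ke xe4 ye55 ze31) (ke xe15 ye25 ze26) (ke xe15 ye1 ze47) (ke xe4 ye5 ze20) (ke xe13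 ye46 ze4) (ke xe15 ye25 ze31) (ke xe4 ye5 ze21) (ke xe15 ye25 ze36) (ke xe4 ye55 ze21) (ke xe15 ye24 ze24) (ke xe15 ye25 ze39) (ke xe11 ye12 ze28) (ke xe4 ye5 ze23) (ke xe15 ye25 ze46) (ke xe15 ye25 ze47) (ke xe4 ye5 ze24) (ke xe6 ye24 ze33) (ke xe15 ye25 ze50) (ke xe15 ye25 ze51) (ke xe4 ye5 ze25) (ke xe15 ye25 ze55) (ke xe4 ye5 ze26) (ke xe15 ye25 ze59) (ke xe9 ye57 ze41) (ke xe8 ye10 ze24) (ke xe15 ye23 ze20) (ke xe5 ye36 ze4) (ke xe4 ye56 ze9) (ke xe8 ye14 ze26) (ke xe4 ye5 ze30) (ke xe4 ye5 ze32) (ke xe11 ye31 ze30) (ke xe5 ye47 ze39)) (@D3.rec (fun _ => Pt) (ke xe8 ye14 ze57) (ke xe5 ye42 ze46) (ke xe5 ye50 ze0) (ke xe11 ye1 ze54) (ke xe5 ye50 ze37) (ke xe4 ye5 ze39) (ke xe12 ye9 ze33) (ke xe4 ye5 ze41) (ke xe10 ye48 ze35) (ke xe11 ye22 ze20) (ke xe5 ye59 ze43)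 (ke xe12 ye10 ze13) (ke xe6 ye1 ze55) (ke xe4 ye5 ze44) (ke xe6 ye3 ze7) (ke xe15 ye26 ze17) (ke xe5 ye37 ze38) (ke xe7 ye36 ze14) (ke xe7 ye59 ze7) (ke xe4 ye23 ze56) (ke xe9 ye44 ze40) (ke xe15 ye26 ze23) (ke xe4 ye5 ze50) (ke xe12 ye10 ze57) (ke xe6 ye39 ze44) (ke xe13 ye1 ze35) (ke xe12 ye11 ze4) (ke xe15 ye26 ze30) (ke xe4 ye5 ze54) (ke xe15 ye26 ze34) (ke xe4 ye5 ze55) (ke xe15 ye26 ze39) (ke xe4 ye5 ze56) (ke xe15 ye26 ze40) (ke xe9 ye21 ze51) (ke xe15 ye26 ze42) (ke xe12 ye33 ze48) (ke xe4 ye5 ze58) (ke xe11 ye58 ze43) (ke xe15 ye26 ze47) (ke xe15 ye26 ze50) (ke xe4 ye5 ze60) (ke xe15 ye26 ze55) (ke xe11 ye29 ze51) (ke xe15 ye26 ze61) (ke xe4 ye5 ze61) (ke xe15 ye27 ze4) (ke xe6 ye50 ze33) (ke xe7 ye26 ze27) (ke xe15 ye27 ze6) (ke xe4 ye6 ze1) (ke xe11 ye30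 ze24) (ke xe8 ye14 ze44) (ke xe15 ye27 ze11) (ke xe4 ye6 ze4) (ke xe4 ye6 ze6) (ke xe11 ye27 ze47) (ke xe10 ye43 ze54) (ke xe15 ye27 ze16) (ke xe8 ye10 ze48) (ke xe15 ye27 ze21) (ke xe8 ye10 ze50)) (@D3.rec (fun _ => Pt) (ke xe15 ye27 ze25) (ke xe7 ye58 ze8) (ke xe9 ye42 ze44) (ke xe11 ye5 ze17) (ke xe15 ye27 ze32) (ke xe4 ye6 ze14) (ke xe7 ye57 ze45) (ke xe15 ye27 ze40) (ke xe15 ye27 ze41) (ke xe4 ye6 ze16) (ke xe9 ye41 ze51) (ke xe15 ye27 ze43) (ke xe4 ye6 ze17) (ke xe15 ye27 ze45) (ke xe15 ye27 ze46) (ke xe15 ye27 ze48) (ke xe4 ye6 ze20) (ke xe15 ye27 ze54) (ke xe4 ye6 ze22) (ke xe9 ye1 ze17) (ke xe15 ye27 ze58) (ke xe15 ye27 ze61) (ke xe15 ye28 ze4) (ke xe15 ye28 ze6) (ke xe4 ye6 ze24) (ke xe7 ye57 ze61) (ke xe11 ye6 ze5) (ke xe11 ye5 ze3) (ke xe8 ye18 ze10) (ke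 xe10 ye50 ze48) (ke xe4 ye6 ze26) (ke xe15 ye28 ze16) (ke xe4 ye6 ze28) (ke xe15 ye28 ze21) (ke xe15 ye28 ze22) (ke xe4 ye6 ze30) (ke xe4 ye6 ze32) (ke xe15 ye28 ze29) (ke xe15 ye28 ze34) (ke xe15 ye28 ze37) (ke xe4 ye6 ze33) (ke xe7 ye58 ze23) (ke xe11 ye10 ze44) (ke xe9 ye41 ze39) (ke xe4 ye6 ze35) (ke xe15 ye28 ze52) (ke xe15 ye28 ze53) (ke xe4 ye6 ze36) (ke xe7 ye58 ze15) (ke xe15 ye27 ze34) (ke xe15 ye29 ze0) (ke xe15 ye29 ze2) (ke xe4 ye6 ze38) (ke xe15 ye29 ze5) (ke xe4 ye6 ze39) (ke xe15 ye29 ze11) (ke xe11 ye29 ze31) (ke xe7 ye58 ze34) (ke xe15 ye29 ze19) (ke xe15 ye29 ze21) (ke xe15 ye29 ze23) (ke xe15 ye29 ze24)) (@D3.rec (fun _ => Pt) (ke xe15 ye29 ze26) (ke xe4 ye6 ze41) (ke xe15 ye29 ze30) (ke xe4 ye6 ze42) (ke xe15 ye29 ze35) (ke xe10 ye11 ze55) (ke xe11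 ye40 ze2) (ke xe15 ye29 ze41) (ke xe4 ye6 ze44) (ke xe11 ye4 ze20) (ke xe6 ye7 ze16) (ke xe8 ye8 ze3) (ke xe15 ye29 ze47) (ke xe15 ye29 ze52) (ke xe15 ye29 ze53) (ke xe4 ye6 ze50) (ke xe11 ye10 ze11) (ke xe15 ye29 ze58) (ke xe11 ye9 ze57) (ke xe4 ye6 ze52) (ke xe15 ye29 ze59) (ke xe4 ye6 ze54) (ke xe9 ye43 ze44) (ke xe15 ye30 ze7) (ke xe5 ye53 ze22) (ke xe7 ye58 ze53) (ke xe8 ye11 ze57) (ke xe15 ye30 ze10) (ke xe15 ye30 ze13) (ke xe15 ye30 ze15) (ke xe15 ye30 ze18) (ke xe4 ye6 ze59) (ke xe4 ye34 ze48) (ke xe5 ye50 ze59) (ke xe5 ye51 ze0) (ke xe12 ye29 ze47) (ke xe9 ye5 ze61) (ke xe5 ye51 ze5) (ke xe15 ye30 ze32) (ke xe4 ye7 ze0) (ke xe4 ye7 ze1) (ke xe5 ye52 ze3) (ke xe15 ye30 ze38) (ke xe5 ye52 ze13) (ke xe8 ye12 ze52) (ke xe9 ye2 ze50) (ke xe12 ye29 ze59) (ke xe8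 ye42 ze48) (ke xe9 ye1 ze18) (ke xe4 ye7 ze12) (ke xe12 ye29 ze12) (ke xe6 ye19 ze0) (ke xe4 ye7 ze20) (ke xe15 ye30 ze42) (ke xe4 ye7 ze21) (ke xe11 ye5 ze31) (ke xe11 ye28 ze41) (ke xe8 ye12 ze0) (ke xe4 ye7 ze25) (ke xe5 ye52 ze17) (ke xe4 ye7 ze27) (ke xe5 ye52 ze19)) (@D3.rec (fun _ => Pt) (ke xe11 ye5 ze33) (ke xe15 ye30 ze50) (ke xe4 ye7 ze30) (ke xe15 ye30 ze54) (ke xe4 ye7 ze32) (ke xe15 ye30 ze57) (ke xe4 ye7 ze33) (ke xe4 ye7 ze34) (ke xe8 ye26 ze12) (ke xe15 ye31 ze4) (ke xe4 ye7 ze36) (ke xe15 ye31 ze10) (ke xe15 ye31 ze11) (ke xe4 ye7 ze37) (ke xe5 ye28 ze9) (ke xe15 ye31 ze18) (ke xe8 ye15 ze60) (ke xe15 ye31 ze23) (ke xe15 ye31 ze24) (ke xe4 ye7 ze39) (ke xe10 ye51 ze53) (ke xe8 ye16 ze4) (ke xe15 ye31 ze32) (ke xe13 ye44 ze42) (ke xe4 ye7 ze41) (ke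 xe15 ye31 ze37) (ke xe15 ye31 ze38) (ke xe4 ye7 ze42) (ke xe15 ye31 ze44) (ke xe15 ye31 ze48) (ke xe8 ye6 ze22) (ke xe7 ye35 ze50) (ke xe15 ye31 ze50) (ke xe15 ye31 ze52) (ke xe15 ye31 ze54) (ke xe15 ye31 ze56) (ke xe4 ye7 ze44) (ke xe15 ye31 ze60) (ke xe4 ye7 ze45) (ke xe15 ye32 ze1) (ke xe4 ye7 ze47) (ke xe4 ye8 ze61) (ke xe4 ye7 ze49) (ke xe4 ye7 ze50) (ke xe10 ye23 ze22) (ke xe15 ye32 ze9) (ke xe4 ye7 ze52) (ke xe10 ye54 ze11) (ke xe4 ye7 ze53) (ke xe4 ye9 ze6) (ke xe5 ye29 ze44) (ke xe4 ye7 ze55) (ke xe8 ye26 ze19) (ke xe15 ye32 ze17) (ke xe15 ye32 ze18) (ke xe4 ye7 ze57) (ke xe15 ye32 ze24) (ke xe15 ye32 ze25) (ke xe4 ye7 ze58) (ke xe5 ye29 ze52) (ke xe8 ye15 ze16) (ke xe13 ye43 ze13)) (@D3.rec (fun _ => Pt) (ke xe15 ye32 ze31) (ke xe4 ye8 ze0) (ke xe15 ye32 ze36)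 (ke xe4 ye29 ze29) (ke xe8 ye15 ze21) (ke xe15 ye32 ze42) (ke xe15 ye32 ze43) (ke xe4 ye8 ze2) (ke xe15 ye32 ze50) (ke xe12 ye56 ze61) (ke xe4 ye8 ze3) (ke xe15 ye32 ze58) (ke xe6 ye1 ze38) (ke xe10 ye23 ze31) (ke xe14 ye32 ze3) (ke xe15 ye33 ze3) (ke xe15 ye33 ze5) (ke xe15 ye33 ze7) (ke xe15 ye33 ze9) (ke xe4 ye8 ze5) (ke xe15 ye33 ze13) (ke xe4 ye8 ze6) (ke xe15 ye33 ze16) (ke xe4 ye8 ze8) (ke xe15 ye33 ze20) (ke xe4 ye8 ze10) (ke xe8 ye31 ze8) (ke xe15 ye33 ze28) (ke xe15 ye33 ze29) (ke xe4 ye8 ze13) (ke xe15 ye33 ze35) (ke xe4 ye9 ze13) (ke xe15 ye33 ze40) (ke xe15 ye33 ze41) (ke xe4 ye8 ze15) (ke xe8 ye30 ze16) (ke xe4 ye8 ze50) (ke xe4 ye8 ze17) (ke xe15 ye33 ze50) (ke xe15 ye33 ze51) (ke xe4 ye8 ze18) (ke xe15 ye33 ze57) (ke xe4 ye9 ze39) (ke xe15 ye34 ze0)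 (ke xe15 ye34 ze1) (ke xe4 ye8 ze20) (ke xe15 ye34 ze7) (ke xe4 ye9 ze28) (ke xe15 ye34 ze12) (ke xe15 ye34 ze13) (ke xe4 ye8 ze22) (ke xe15 ye34 ze19) (ke xe13 ye34 ze10) (ke xe4 ye8 ze23) (ke xe15 ye34 ze26) (ke xe15 ye34 ze31) (ke xe8 ye30 ze4) (ke xe15 ye34 ze36) (ke xe9 ye33 ze32) (ke xe15 ye34 ze38) (ke xe15 ye34 ze40) (ke xe4 ye8 ze25)) (@D3.rec (fun _ => Pt) (ke xe4 ye8 ze26) (ke xe8 ye43 ze21) (ke xe15 ye34 ze48) (ke xe15 ye34 ze49) (ke xe4 ye8 ze29) (ke xe4 ye21 ze35) (ke xe15 ye34 ze53) (ke xe9 ye34 ze54) (ke xe4 ye8 ze31) (ke xe15 ye34 ze54) (ke xe4 ye8 ze32) (ke xe4 ye8 ze33) (ke xe15 ye34 ze61) (ke xe4 ye8 ze34) (ke xe10 ye24 ze6) (ke xe15 ye35 ze4) (ke xe15 ye1 ze51) (ke xe15 ye35 ze9) (ke xe12 ye0 ze28) (ke xe4 ye8 ze38) (ke xe8 ye20 ze10) (ke xe8 ye30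 ze15) (ke xe8 ye29 ze44) (ke xe12 ye51 ze27) (ke xe5 ye32 ze22) (ke xe4 ye8 ze40) (ke xe12 ye40 ze2) (ke xe12 ye0 ze7) (ke xe4 ye8 ze42) (ke xe15 ye35 ze27) (ke xe5 ye29 ze49) (ke xe4 ye8 ze43) (ke xe15 ye35 ze31) (ke xe15 ye35 ze35) (ke xe15 ye35 ze37) (ke xe15 ye35 ze41) (ke xe4 ye8 ze44) (ke xe15 ye35 ze47) (ke xe15 ye35 ze49) (ke xe4 ye8 ze45) (ke xe8 ye30 ze34) (ke xe15 ye35 ze58) (ke xe15 ye35 ze52) (ke xe15 ye33 ze43) (ke xe8 ye30 ze38) (ke xe15 ye36 ze5) (ke xe15 ye36 ze7) (ke xe4 ye8 ze48) (ke xe15 ye36 ze9) (ke xe4 ye8 ze51) (ke xe5 ye15 ze51) (ke xe15 ye36 ze17) (ke xe15 ye36 ze12) (ke xe15 ye36 ze21) (ke xe4 ye8 ze52) (ke xe15 ye36 ze23) (ke xe4 ye8 ze53) (ke xe15 ye36 ze26) (ke xe4 ye8 ze55) (ke xe4 ye8 ze57) (ke xe4 ye8 ze58) (ke xe15 ye36 ze34)) (@D3.rec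 (fun _ => Pt) (ke xe15 ye36 ze35) (ke xe4 ye8 ze59) (ke xe15 ye36 ze40) (ke xe4 ye10 ze41) (ke xe15 ye33 ze18) (ke xe15 ye36 ze42) (ke xe4 ye9 ze0) (ke xe15 ye36 ze46) (ke xe4 ye9 ze2) (ke xe15 ye36 ze49) (ke xe8 ye13 ze28) (ke xe4 ye9 ze5) (ke xe15 ye33 ze22) (ke xe15 ye36 ze52) (ke xe15 ye36 ze58) (ke xe15 ye37 ze0) (ke xe15 ye37 ze2) (ke xe15 ye37 ze6) (ke xe4 ye9 ze7) (ke xe4 ye9 ze8) (ke xe15 ye37 ze16) (ke xe8 ye24 ze16) (ke xe15 ye37 ze12) (ke xe15 ye33 ze33) (ke xe10 ye51 ze61) (ke xe8 ye29 ze35) (ke xe8 ye59 ze54) (ke xe10 ye25 ze9) (ke xe4 ye9 ze14) (ke xe5 ye27 ze49) (ke xe15 ye37 ze31) (ke xe15 ye37 ze38) (ke xe15 ye37 ze43) (ke xe15 ye37 ze44) (ke xe4 ye9 ze15) (ke xe4 ye21 ze60) (ke xe15 ye17 ze52) (ke xe15 ye17 ze17) (ke xe4 ye9 ze18) (ke xe8 ye31 ze11)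 (ke xe15 ye37 ze56) (ke xe8 ye31 ze13) (ke xe15 ye37 ze60) (ke xe15 ye38 ze2) (ke xe4 ye9 ze20) (ke xe8 ye55 ze43) (ke xe12 ye0 ze11) (ke xe4 ye9 ze21) (ke xe8 ye31 ze43) (ke xe15 ye38 ze17) (ke xe15 ye38 ze11) (ke xe15 ye34 ze5) (ke xe5 ye28 ze11) (ke xe8 ye31 ze48) (ke xe10 ye25 ze25) (ke xe15 ye38 ze26) (ke xe4 ye9 ze26) (ke xe5 ye26 ze6) (ke xe4 ye9 ze29) (ke xe15 ye38 ze33) (ke xe4 ye55 ze18) (ke xe4 ye9 ze30)) (@D3.rec (fun _ => Pt) (ke xe15 ye38 ze38) (ke xe8 ye34 ze32) (ke xe4 ye27 ze7) (ke xe10 ye37 ze42) (ke xe8 ye31 ze36) (ke xe15 ye38 ze46) (ke xe15 ye38 ze48) (ke xe15 ye38 ze52) (ke xe4 ye9 ze32) (ke xe4 ye9 ze33) (ke xe15 ye38 ze61) (ke xe8 ye31 ze20) (ke xe15 ye33 ze11) (ke xe15 ye33 ze55) (ke xe15 ye39 ze4) (ke xe4 ye9 ze36) (ke xe8 ye31 ze24) (ke xe15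 ye39 ze8) (ke xe5 ye15 ze1) (ke xe5 ye15 ze42) (ke xe15 ye39 ze16) (ke xe8 ye31 ze52) (ke xe15 ye39 ze22) (ke xe15 ye39 ze26) (ke xe15 ye39 ze29) (ke xe4 ye9 ze40) (ke xe4 ye9 ze41) (ke xe5 ye29 ze58) (ke xe12 ye13 ze61) (ke xe4 ye9 ze42) (ke xe15 ye39 ze40) (ke xe15 ye34 ze21) (ke xe8 ye32 ze1) (ke xe15 ye39 ze52) (ke xe15 ye39 ze54) (ke xe15 ye39 ze58) (ke xe4 ye9 ze44) (ke xe4 ye9 ze45) (ke xe15 ye40 ze3) (ke xe15 ye34 ze15) (ke xe15 ye16 ze51) (ke xe15 ye40 ze12) (ke xe15 ye40 ze16) (ke xe15 ye40 ze19) (ke xe4 ye9 ze47) (ke xe12 ye33 ze19) (ke xe15 ye40 ze27) (ke xe15 ye40 ze30) (ke xe15 ye40 ze33) (ke xe5 ye26 ze10) (ke xe4 ye49 ze45) (ke xe4 ye9 ze50) (ke xe15 ye40 ze40) (ke xe4 ye9 ze51) (ke xe15 ye40 ze45) (ke xe4 ye9 ze52) (ke xe15 ye40 ze52) (ke xe4 ye9 ze53)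 (ke xe15 ye40 ze59) (ke xe4 ye9 ze54) (ke xe8 ye6 ze5) (ke xe10 ye51 ze35)) (@D3.rec (fun _ => Pt) (ke xe15 ye41 ze4) (ke xe4 ye9 ze56) (ke xe15 ye41 ze10) (ke xe15 ye41 ze13) (ke xe15 ye41 ze6) (ke xe15 ye41 ze16) (ke xe5 ye30 ze14) (ke xe4 ye9 ze58) (ke xe15 ye41 ze21) (ke xe15 ye41 ze24) (ke xe8 ye17 ze20) (ke xe4 ye9 ze59) (ke xe14 ye55 ze57) (ke xe4 ye9 ze60) (ke xe15 ye41 ze34) (ke xe15 ye41 ze38) (ke xe15 ye41 ze39) (ke xe4 ye10 ze0) (ke xe8 ye32 ze47) (ke xe15 ye41 ze46) (ke xe8 ye32 ze61) (ke xe15 ye41 ze49) (ke xe4 ye10 ze4) (ke xe15 ye41 ze50) (ke xe4 ye10 ze5) (ke xe15 ye41 ze56) (ke xe4 ye10 ze6) (ke xe11 ye52 ze46) (ke xe4 ye10 ze9) (ke xe8 ye7 ze55) (ke xe15 ye42 ze3) (ke xe15 ye42 ze4) (ke xe4 ye10 ze11) (ke xe15 ye42 ze11) (ke xe4 ye10 ze49) (ke xe15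 ye42 ze16) (ke xe15 ye42 ze17) (ke xe4 ye10 ze13) (ke xe8 ye32 ze49) (ke xe8 ye33 ze50) (ke xe15 ye42 ze25) (ke xe15 ye42 ze26) (ke xe4 ye10 ze15) (ke xe15 ye42 ze33) (ke xe15 ye42 ze34) (ke xe4 ye10 ze16) (ke xe15 ye42 ze37) (ke xe12 ye37 ze5) (ke xe6 ye22 ze36) (ke xe15 ye42 ze41) (ke xe4 ye10 ze17) (ke xe15 ye42 ze43) (ke xe15 ye42 ze45) (ke xe4 ye10 ze18) (ke xe8 ye33 ze12) (ke xe15 ye42 ze56) (ke xe15 ye42 ze48) (ke xe8 ye34 ze4) (ke xe8 ye33 ze15) (ke xe8 ye33 ze16) (ke xe15 ye43 ze4) (ke xe4 ye10 ze21)) (@D3.rec (fun _ => Pt) (ke xe6 ye17 ze37) (ke xe15 ye43 ze7) (ke xe12 ye52 ze22) (ke xe4 ye10 ze23) (ke xe9 ye29 ze14) (ke xe9 ye29 ze32) (ke xe8 ye24 ze61) (ke xe12 ye38 ze61) (ke xe12 ye37 ze4) (ke xe4 ye10 ze32) (ke xe8 ye33 ze34) (ke xe4 ye10 ze36) (ke xe15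 ye43 ze23) (ke xe15 ye43 ze24) (ke xe4 ye10 ze37) (ke xe14 ye2 ze32) (ke xe13 ye55 ze43) (ke xe4 ye10 ze39) (ke xe15 ye43 ze31) (ke xe14 ye1 ze43) (ke xe4 ye10 ze44) (ke xe15 ye43 ze35) (ke xe15 ye43 ze36) (ke xe4 ye10 ze45) (ke xe12 ye47 ze51) (ke xe13 ye15 ze18) (ke xe12 ye37 ze9) (ke xe13 ye56 ze21) (ke xe15 ye43 ze43) (ke xe15 ye43 ze44) (ke xe15 ye43 ze46) (ke xe4 ye10 ze47) (ke xe15 ye42 ze28) (ke xe15 ye43 ze49) (ke xe15 ye36 ze29) (ke xe15 ye42 ze8) (ke xe10 ye32 ze30) (ke xe10 ye16 ze47) (ke xe4 ye10 ze52) (ke xe5 ye21 ze42) (ke xe15 ye44 ze4) (ke xe12 ye47 ze50) (ke xe9 ye22 ze52) (ke xe12 ye36 ze48) (ke xe6 ye10 ze28) (ke xe6 ye20 ze39) (ke xe10 ye17 ze5) (ke xe5 ye57 ze29) (ke xe9 ye4 ze35) (ke xe4 ye11 ze0) (ke xe10 ye58 ze35) (ke xe5 ye26 ze22) (ke xe15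 ye44 ze24) (ke xe4 ye36 ze26) (ke xe15 ye44 ze19) (ke xe15 ye44 ze30) (ke xe15 ye44 ze31) (ke xe4 ye11 ze1) (ke xe4 ye11 ze32) (ke xe15 ye43 ze60) (ke xe8 ye34 ze55) (ke xe15 ye44 ze41)) (@D3.rec (fun _ => Pt) (ke xe4 ye11 ze3) (ke xe8 ye34 ze20) (ke xe15 ye44 ze46) (ke xe8 ye34 ze22) (ke xe6 ye37 ze22) (ke xe15 ye44 ze52) (ke xe4 ye11 ze5) (ke xe15 ye44 ze55) (ke xe15 ye44 ze57) (ke xe4 ye11 ze6) (ke xe15 ye45 ze3) (ke xe15 ye45 ze7) (ke xe15 ye44 ze60) (ke xe8 ye35 ze6) (ke xe8 ye31 ze34) (ke xe15 ye45 ze16) (ke xe10 ye26 ze34) (ke xe4 ye11 ze8) (ke xe15 ye45 ze20) (ke xe4 ye11 ze9) (ke xe5 ye21 ze30) (ke xe15 ye45 ze25) (ke xe4 ye11 ze12) (ke xe8 ye34 ze42) (ke xe8 ye34 ze43) (ke xe5 ye39 ze54) (ke xe8 ye35 ze16) (ke xe10 ye26 ze38) (ke xe10 ye26 ze39) (ke xe5 ye25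 ze61) (ke xe15 ye45 ze33) (ke xe15 ye45 ze36) (ke xe15 ye45 ze37) (ke xe4 ye11 ze24) (ke xe15 ye44 ze1) (ke xe8 ye34 ze17) (ke xe8 ye34 ze56) (ke xe15 ye45 ze48) (ke xe4 ye11 ze27) (ke xe8 ye34 ze59) (ke xe15 ye45 ze52) (ke xe6 ye27 ze56) (ke xe15 ye45 ze55) (ke xe15 ye45 ze56) (ke xe11 ye26 ze52) (ke xe15 ye45 ze58) (ke xe4 ye11 ze29) (ke xe15 ye46 ze2) (ke xe15 ye44 ze32) (ke xe15 ye45 ze61) (ke xe8 ye34 ze31) (ke xe15 ye46 ze10) (ke xe4 ye11 ze31) (ke xe4 ye21 ze50) (ke xe15 ye44 ze36) (ke xe8 ye35 ze11) (ke xe15 ye46 ze16) (ke xe4 ye11 ze35) (ke xe8 ye34 ze46) (ke xe15 ye46 ze18) (ke xe12 ye2 ze58) (ke xe4 ye11 ze42)) (@D3.rec (fun _ => Pt) (ke xe8 ye35 ze20) (ke xe8 ye35 ze21) (ke xe6 ye12 ze60) (ke xe12 ye15 ze15) (ke xe6 ye48 ze41) (ke xe15 ye46 ze24) (ke xe4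 ye11 ze46) (ke xe6 ye59 ze8) (ke xe12 ye11 ze39) (ke xe12 ye16 ze25) (ke xe4 ye11 ze47) (ke xe8 ye35 ze32) (ke xe6 ye49 ze58) (ke xe12 ye17 ze23) (ke xe6 ye50 ze13) (ke xe15 ye46 ze33) (ke xe8 ye35 ze37) (ke xe15 ye46 ze38) (ke xe15 ye46 ze43) (ke xe4 ye11 ze49) (ke xe6 ye33 ze4) (ke xe15 ye46 ze47) (ke xe12 ye52 ze12) (ke xe4 ye11 ze50) (ke xe6 ye19 ze13) (ke xe8 ye35 ze48) (ke xe6 ye27 ze33) (ke xe8 ye35 ze43) (ke xe6 ye11 ze46) (ke xe15 ye46 ze54) (ke xe15 ye46 ze56) (ke xe4 ye11 ze54) (ke xe12 ye15 ze56) (ke xe15 ye47 ze0) (ke xe4 ye11 ze57) (ke xe6 ye17 ze42) (ke xe6 ye21 ze23) (ke xe12 ye33 ze51) (ke xe4 ye11 ze59) (ke xe4 ye47 ze37) (ke xe9 ye24 ze27) (ke xe15 ye47 ze12) (ke xe4 ye11 ze60) (ke xe12 ye14 ze31) (ke xe12 ye16 ze30) (ke xe12 ye16 ze3) (ke xe15 ye47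 ze23) (ke xe5 ye39 ze49) (ke xe15 ye47 ze26) (ke xe5 ye23 ze53) (ke xe4 ye12 ze3) (ke xe9 ye29 ze42) (ke xe8 ye24 ze54) (ke xe4 ye12 ze4) (ke xe5 ye30 ze53) (ke xe4 ye14 ze8) (ke xe4 ye55 ze8) (ke xe15 ye47 ze30) (ke xe4 ye12 ze9) (ke xe4 ye12 ze10) (ke xe4 ye12 ze11) (ke xe15 ye47 ze40)) (@D3.rec (fun _ => Pt) (ke xe15 ye47 ze41) (ke xe4 ye12 ze12) (ke xe15 ye47 ze47) (ke xe6 ye23 ze36) (ke xe15 ye47 ze51) (ke xe4 ye12 ze14) (ke xe8 ye36 ze0) (ke xe15 ye47 ze53) (ke xe8 ye36 ze12) (ke xe4 ye12 ze18) (ke xe15 ye47 ze60) (ke xe15 ye47 ze61) (ke xe4 ye12 ze19) (ke xe15 ye48 ze6) (ke xe5 ye39 ze51) (ke xe4 ye13 ze11) (ke xe8 ye18 ze21) (ke xe4 ye12 ze21) (ke xe12 ye58 ze19) (ke xe15 ye48 ze10) (ke xe4 ye12 ze22) (ke xe8 ye36 ze2) (ke xe8 ye37 ze19) (ke xe15 ye48 ze19)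 (ke xe11 ye51 ze37) (ke xe4 ye12 ze24) (ke xe15 ye48 ze26) (ke xe15 ye48 ze27) (ke xe4 ye12 ze25) (ke xe4 ye48 ze5) (ke xe6 ye26 ze7) (ke xe4 ye42 ze14) (ke xe15 ye48 ze31) (ke xe15 ye48 ze33) (ke xe15 ye48 ze35) (ke xe4 ye12 ze27) (ke xe8 ye36 ze23) (ke xe15 ye48 ze41) (ke xe8 ye36 ze26) (ke xe8 ye36 ze27) (ke xe15 ye48 ze47) (ke xe15 ye48 ze49) (ke xe15 ye48 ze50) (ke xe8 ye36 ze31) (ke xe4 ye12 ze30) (ke xe15 ye48 ze52) (ke xe15 ye48 ze56) (ke xe15 ye48 ze57) (ke xe4 ye12 ze35) (ke xe9 ye38 ze37) (ke xe5 ye39 ze18) (ke xe4 ye13 ze20) (ke xe6 ye42 ze35) (ke xe4 ye12 ze37) (ke xe8 ye23 ze52) (ke xe5 ye30 ze55) (ke xe4 ye13 ze21) (ke xe9 ye39 ze16) (ke xe13 ye1 ze26) (ke xe4 ye12 ze42) (ke xe4 ye12 ze44) (ke xe8 ye21 ze6)) (@D3.rec (fun _ => Pt) (ke xe4 ye42 ze8) (ke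 xe6 ye26 ze5) (ke xe8 ye36 ze37) (ke xe15 ye49 ze10) (ke xe4 ye12 ze50) (ke xe4 ye12 ze51) (ke xe4 ye12 ze55) (ke xe15 ye49 ze12) (ke xe15 ye49 ze13) (ke xe4 ye12 ze56) (ke xe12 ye54 ze27) (ke xe12 ye54 ze22) (ke xe4 ye12 ze58) (ke xe4 ye13 ze0) (ke xe15 ye49 ze20) (ke xe15 ye49 ze23) (ke xe15 ye49 ze24) (ke xe4 ye13 ze1) (ke xe4 ye13 ze3) (ke xe6 ye38 ze34) (ke xe11 ye35 ze55) (ke xe4 ye13 ze4) (ke xe8 ye37 ze18) (ke xe8 ye36 ze13) (ke xe15 ye49 ze39) (ke xe15 ye49 ze40) (ke xe4 ye13 ze6) (ke xe15 ye49 ze42) (ke xe7 ye23 ze20) (ke xe4 ye13 ze7) (ke xe4 ye43 ze35) (ke xe6 ye42 ze56) (ke xe6 ye2 ze61) (ke xe11 ye12 ze37) (ke xe12 ye56 ze11) (ke xe15 ye49 ze49) (ke xe4 ye13 ze9) (ke xe15 ye48 ze21) (ke xe12 ye39 ze12) (ke xe6 ye25 ze47) (ke xe15 ye47 ze55) (ke xe15 ye48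 ze3) (ke xe4 ye43 ze33) (ke xe6 ye22 ze0) (ke xe6 ye22 ze10) (ke xe15 ye48 ze61) (ke xe9 ye33 ze20) (ke xe15 ye50 ze1) (ke xe15 ye50 ze3) (ke xe15 ye50 ze4) (ke xe9 ye33 ze36) (ke xe5 ye54 ze59) (ke xe4 ye56 ze58) (ke xe11 ye6 ze9) (ke xe15 ye50 ze8) (ke xe11 ye8 ze23) (ke xe15 ye50 ze10) (ke xe4 ye13 ze29) (ke xe15 ye50 ze14) (ke xe15 ye50 ze16) (ke xe15 ye50 ze17) (ke xe15 ye50 ze22)) (@D3.rec (fun _ => Pt) (ke xe4 ye13 ze31) (ke xe15 ye50 ze27) (ke xe15 ye50 ze31) (ke xe4 ye13 ze33) (ke xe15 ye50 ze34) (ke xe15 ye50 ze36) (ke xe15 ye50 ze37) (ke xe4 ye13 ze35) (ke xe10 ye50 ze39) (ke xe15 ye50 ze41) (ke xe4 ye13 ze37) (ke xe4 ye13 ze39) (ke xe8 ye15 ze8) (ke xe15 ye50 ze50) (ke xe4 ye13 ze41) (ke xe15 ye50 ze51) (ke xe10 ye32 ze8) (ke xe4 ye13 ze44) (ke xe4 ye13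 ze46) (ke xe8 ye15 ze52) (ke xe15 ye50 ze60) (ke xe4 ye13 ze48) (ke xe4 ye13 ze49) (ke xe4 ye13 ze51) (ke xe11 ye55 ze53) (ke xe15 ye51 ze6) (ke xe4 ye13 ze53) (ke xe4 ye13 ze54) (ke xe4 ye13 ze55) (ke xe4 ye14 ze15) (ke xe15 ye51 ze16) (ke xe4 ye13 ze57) (ke xe15 ye51 ze18) (ke xe4 ye13 ze58) (ke xe4 ye13 ze60) (ke xe6 ye56 ze28) (ke xe13 ye36 ze49) (ke xe4 ye13 ze61) (ke xe10 ye19 ze60) (ke xe15 ye51 ze25) (ke xe9 ye41 ze48) (ke xe4 ye14 ze2) (ke xe15 ye51 ze29) (ke xe4 ye14 ze4) (ke xe15 ye51 ze33) (ke xe12 ye4 ze28) (ke xe4 ye14 ze6) (ke xe8 ye11 ze16) (ke xe15 ye50 ze61) (ke xe13 ye46 ze0) (ke xe15 ye51 ze38) (ke xe4 ye14 ze9) (ke xe15 ye51 ze10) (ke xe15 ye51 ze42) (ke xe5 ye2 ze6) (ke xe9 ye42 ze29) (ke xe4 ye14 ze11) (ke xe15 ye51 ze48) (ke xe15 ye51 ze49) (ke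 xe4 ye14 ze12) (ke xe15 ye51 ze53) (ke xe15 ye51 ze8)) (@D3.rec (fun _ => Pt) (ke xe5 ye0 ze57) (ke xe15 ye51 ze1) (ke xe15 ye52 ze0) (ke xe15 ye52 ze1) (ke xe4 ye14 ze14) (ke xe15 ye52 ze9) (ke xe15 ye52 ze13) (ke xe15 ye51 ze14) (ke xe15 ye52 ze18) (ke xe10 ye38 ze22) (ke xe12 ye4 ze31) (ke xe15 ye52 ze22) (ke xe4 ye14 ze16) (ke xe15 ye52 ze26) (ke xe4 ye14 ze17) (ke xe15 ye52 ze29) (ke xe15 ye52 ze31) (ke xe14 ye50 ze42) (ke xe15 ye52 ze36) (ke xe4 ye14 ze19) (ke xe4 ye14 ze29) (ke xe15 ye52 ze41) (ke xe8 ye9 ze43) (ke xe15 ye52 ze46) (ke xe15 ye52 ze47) (ke xe4 ye14 ze21) (ke xe4 ye14 ze44) (ke xe11 ye9 ze34) (ke xe9 ye33 ze27) (ke xe15 ye52 ze58) (ke xe15 ye53 ze1) (ke xe4 ye14 ze48) (ke xe12 ye39 ze29) (ke xe15 ye53 ze5) (ke xe4 ye14 ze24) (ke xe4 ye14 ze25) (ke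 xe15 ye53 ze12) (ke xe15 ye53 ze15) (ke xe11 ye42 ze58) (ke xe15 ye52 ze37) (ke xe15 ye53 ze20) (ke xe8 ye28 ze12) (ke xe8 ye10 ze10) (ke xe14 ye38 ze58) (ke xe4 ye14 ze30) (ke xe15 ye53 ze26) (ke xe7 ye58 ze46) (ke xe4 ye14 ze33) (ke xe8 ye37 ze52) (ke xe7 ye15 ze7) (ke xe7 ye29 ze47) (ke xe15 ye53 ze34) (ke xe15 ye53 ze35) (ke xe4 ye14 ze34) (ke xe8 ye9 ze57) (ke xe15 ye53 ze43) (ke xe9 ye43 ze45) (ke xe15 ye53 ze46) (ke xe15 ye52 ze43) (ke xe15 ye53 ze49) (ke xe4 ye14 ze36) (ke xe11 ye4 ze27)) (@D3.rec (fun _ => Pt) (ke xe15 ye53 ze58) (ke xe5 ye39 ze10) (ke xe8 ye9 ze4) (ke xe11 ye4 ze24) (ke xe15 ye53 ze40) (ke xe5 ye9 ze24) (ke xe4 ye14 ze39) (ke xe5 ye1 ze14) (ke xe8 ye3 ze59) (ke xe10 ye7 ze32) (ke xe15 ye54 ze7) (ke xe15 ye52 ze48) (ke xe8 ye27 ze41) (ke xe8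 ye8 ze59) (ke xe4 ye14 ze43) (ke xe15 ye28 ze25) (ke xe15 ye54 ze14) (ke xe15 ye54 ze17) (ke xe15 ye54 ze19) (ke xe15 ye54 ze23) (ke xe15 ye54 ze26) (ke xe4 ye14 ze46) (ke xe15 ye54 ze30) (ke xe15 ye54 ze35) (ke xe15 ye54 ze37) (ke xe15 ye54 ze39) (ke xe4 ye14 ze47) (ke xe15 ye54 ze43) (ke xe15 ye54 ze46) (ke xe15 ye54 ze48) (ke xe4 ye14 ze49) (ke xe4 ye14 ze50) (ke xe15 ye54 ze55) (ke xe15 ye54 ze58) (ke xe4 ye50 ze45) (ke xe4 ye50 ze44) (ke xe11 ye4 ze34) (ke xe4 ye14 ze53) (ke xe5 ye36 ze26) (ke xe4 ye14 ze54) (ke xe15 ye55 ze6) (ke xe15 ye55 ze7) (ke xe4 ye14 ze55) (ke xe5 ye27 ze33) (ke xe11 ye2 ze17) (ke xe5 ye27 ze48) (ke xe15 ye55 ze18) (ke xe15 ye55 ze19) (ke xe4 ye14 ze57) (ke xe4 ye29 ze54) (ke xe15 ye55 ze26) (ke xe8 ye29 ze18) (ke xe15 ye55 ze31) (ke xe15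 ye55 ze32) (ke xe4 ye14 ze59) (ke xe15 ye55 ze39) (ke xe15 ye55 ze40) (ke xe4 ye14 ze60) (ke xe15 ye55 ze48) (ke xe13 ye44 ze16) (ke xe10 ye19 ze14) (ke xe9 ye26 ze45)) (@D3.rec (fun _ => Pt) (ke xe15 ye55 ze57) (ke xe15 ye55 ze59) (ke xe9 ye26 ze26) (ke xe9 ye26 ze46) (ke xe15 ye56 ze0) (ke xe4 ye15 ze1) (ke xe15 ye56 ze4) (ke xe4 ye15 ze4) (ke xe10 ye19 ze17) (ke xe15 ye56 ze10) (ke xe4 ye15 ze6) (ke xe15 ye56 ze14) (ke xe9 ye22 ze23) (ke xe4 ye15 ze7) (ke xe7 ye15 ze32) (ke xe12 ye34 ze11) (ke xe4 ye15 ze11) (ke xe10 ye54 ze27) (ke xe8 ye28 ze51) (ke xe15 ye56 ze23) (ke xe15 ye56 ze24) (ke xe4 ye15 ze13) (ke xe7 ye16 ze30) (ke xe13 ye20 ze25) (ke xe4 ye15 ze14) (ke xe15 ye56 ze34) (ke xe11 ye33 ze17) (ke xe10 ye19 ze24) (ke xe11 ye50 ze16) (ke xe15 ye56 ze39) (ke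 xe15 ye56 ze41) (ke xe15 ye56 ze43) (ke xe4 ye15 ze16) (ke xe4 ye15 ze17) (ke xe4 ye15 ze19) (ke xe8 ye18 ze25) (ke xe15 ye56 ze53) (ke xe15 ye56 ze54) (ke xe4 ye15 ze22) (ke xe15 ye41 ze17) (ke xe4 ye16 ze2) (ke xe15 ye57 ze0) (ke xe15 ye57 ze1) (ke xe4 ye15 ze24) (ke xe8 ye17 ze22) (ke xe4 ye15 ze49) (ke xe4 ye15 ze26) (ke xe15 ye57 ze8) (ke xe15 ye57 ze13) (ke xe15 ye47 ze4) (ke xe4 ye15 ze27) (ke xe10 ye46 ze28) (ke xe4 ye16 ze20) (ke xe15 ye57 ze22) (ke xe15 ye57 ze23) (ke xe4 ye15 ze29) (ke xe10 ye50 ze59) (ke xe4 ye16 ze11) (ke xe15 ye57 ze33) (ke xe15 ye47 ze8) (ke xe4 ye15 ze31) (ke xe15 ye57 ze38)) (@D3.rec (fun _ => Pt) (ke xe15 ye57 ze39) (ke xe4 ye15 ze32) (ke xe15 ye57 ze46) (ke xe15 ye57 ze51) (ke xe8 ye16 ze56) (ke xe15 ye57 ze56) (ke xe8 ye6 ze50) (ke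 xe15 ye57 ze58) (ke xe15 ye57 ze60) (ke xe4 ye15 ze34) (ke xe4 ye15 ze35) (ke xe15 ye54 ze60) (ke xe15 ye58 ze6) (ke xe4 ye15 ze37) (ke xe8 ye32 ze38) (ke xe8 ye17 ze21) (ke xe8 ye16 ze35) (ke xe15 ye58 ze14) (ke xe15 ye58 ze15) (ke xe4 ye15 ze39) (ke xe15 ye58 ze21) (ke xe15 ye58 ze22) (ke xe4 ye15 ze41) (ke xe15 ye58 ze27) (ke xe15 ye58 ze28) (ke xe4 ye15 ze42) (ke xe15 ye58 ze33) (ke xe15 ye58 ze37) (ke xe15 ye58 ze39) (ke xe15 ye58 ze43) (ke xe4 ye15 ze43) (ke xe15 ye58 ze49) (ke xe15 ye58 ze51) (ke xe4 ye15 ze44) (ke xe8 ye17 ze40) (ke xe15 ye58 ze53) (ke xe12 ye51 ze38) (ke xe15 ye32 ze44) (ke xe8 ye17 ze44) (ke xe15 ye58 ze58) (ke xe4 ye15 ze47) (ke xe10 ye54 ze18) (ke xe4 ye15 ze50) (ke xe5 ye17 ze55) (ke xe6 ye52 ze41) (ke xe13 ye35 ze47) (ke xe4 ye15 ze51)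 (ke xe4 ye15 ze53) (ke xe15 ye59 ze4) (ke xe15 ye59 ze5) (ke xe4 ye15 ze54) (ke xe15 ye18 ze42) (ke xe4 ye17 ze17) (ke xe15 ye56 ze47) (ke xe7 ye38 ze37) (ke xe4 ye15 ze57) (ke xe10 ye25 ze11) (ke xe5 ye27 ze35) (ke xe15 ye59 ze13) (ke xe15 ye59 ze16) (ke xe15 ye59 ze18) (ke xe15 ye59 ze22)) (@D3.rec (fun _ => Pt) (ke xe4 ye15 ze59) (ke xe4 ye15 ze60) (ke xe12 ye50 ze46) (ke xe5 ye29 ze33) (ke xe15 ye32 ze52) (ke xe15 ye56 ze56) (ke xe15 ye59 ze31) (ke xe4 ye16 ze0) (ke xe8 ye16 ze26) (ke xe15 ye59 ze36) (ke xe4 ye16 ze3) (ke xe8 ye18 ze39) (ke xe15 ye59 ze42) (ke xe8 ye18 ze41) (ke xe15 ye59 ze46) (ke xe15 ye59 ze50) (ke xe4 ye16 ze5) (ke xe15 ye59 ze56) (ke xe15 ye59 ze58) (ke xe4 ye16 ze6) (ke xe8 ye19 ze11) (ke xe16 ye0 ze2) (ke xe4 ye18 ze24) (ke xe15 ye57 ze27)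 (ke xe8 ye19 ze16) (ke xe10 ye21 ze0) (ke xe16 ye0 ze6) (ke xe4 ye30 ze49) (ke xe4 ye16 ze9) (ke xe6 ye5 ze45) (ke xe16 ye0 ze11) (ke xe16 ye0 ze12) (ke xe4 ye16 ze12) (ke xe16 ye0 ze15) (ke xe8 ye22 ze14) (ke xe15 ye57 ze6) (ke xe8 ye19 ze4) (ke xe16 ye0 ze18) (ke xe9 ye28 ze21) (ke xe16 ye0 ze23) (ke xe4 ye16 ze14) (ke xe4 ye16 ze15) (ke xe16 ye0 ze32) (ke xe8 ye18 ze48) (ke xe16 ye0 ze27) (ke xe15 ye57 ze16) (ke xe16 ye0 ze38) (ke xe4 ye16 ze17) (ke xe8 ye18 ze53) (ke xe5 ye17 ze1) (ke xe5 ye17 ze47) (ke xe16 ye0 ze49) (ke xe8 ye19 ze21) (ke xe16 ye0 ze55) (ke xe16 ye0 ze59) (ke xe16 ye1 ze1) (ke xe4 ye16 ze21) (ke xe16 ye1 ze6) (ke xe4 ye16 ze22) (ke xe16 ye1 ze10) (ke xe4 ye16 ze23) (ke xe4 ye16 ze29)) (@D3.rec (fun _ => Pt) (ke xe15 ye57 ze41) (ke xe8 ye19 ze32)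 (ke xe16 ye1 ze18) (ke xe16 ye1 ze21) (ke xe16 ye1 ze25) (ke xe16 ye1 ze28) (ke xe4 ye16 ze25) (ke xe4 ye16 ze26) (ke xe4 ye16 ze27) (ke xe16 ye0 ze35) (ke xe9 ye24 ze26) (ke xe16 ye1 ze4) (ke xe6 ye12 ze56) (ke xe12 ye11 ze45) (ke xe16 ye1 ze38) (ke xe12 ye57 ze34) (ke xe15 ye58 ze0) (ke xe16 ye1 ze52) (ke xe4 ye47 ze18) (ke xe4 ye16 ze32) (ke xe16 ye1 ze58) (ke xe4 ye16 ze33) (ke xe11 ye32 ze14) (ke xe4 ye16 ze34) (ke xe16 ye2 ze3) (ke xe4 ye16 ze35) (ke xe16 ye2 ze11) (ke xe15 ye47 ze10) (ke xe16 ye2 ze15) (ke xe4 ye16 ze37) (ke xe16 ye2 ze20) (ke xe16 ye2 ze22) (ke xe16 ye2 ze18) (ke xe16 ye2 ze27) (ke xe8 ye33 ze24) (ke xe4 ye16 ze39) (ke xe16 ye2 ze30) (ke xe16 ye2 ze33) (ke xe8 ye30 ze14) (ke xe4 ye16 ze40) (ke xe4 ye16 ze41) (ke xe16 ye2 ze36) (ke xe16 ye2 ze37)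 (ke xe4 ye16 ze42) (ke xe16 ye2 ze42) (ke xe16 ye2 ze43) (ke xe4 ye16 ze44) (ke xe8 ye20 ze18) (ke xe15 ye47 ze27) (ke xe8 ye20 ze38) (ke xe16 ye2 ze48) (ke xe16 ye2 ze49) (ke xe14 ye7 ze46) (ke xe4 ye16 ze46) (ke xe15 ye41 ze33) (ke xe5 ye30 ze54) (ke xe4 ye17 ze27) (ke xe8 ye41 ze7) (ke xe14 ye49 ze46) (ke xe7 ye23 ze19) (ke xe4 ye16 ze49) (ke xe8 ye20 ze20)) (@D3.rec (fun _ => Pt) (ke xe5 ye23 ze56) (ke xe15 ye45 ze8) (ke xe4 ye16 ze51) (ke xe16 ye3 ze8) (ke xe4 ye16 ze52) (ke xe16 ye3 ze10) (ke xe7 ye25 ze56) (ke xe6 ye11 ze45) (ke xe16 ye3 ze13) (ke xe16 ye3 ze15) (ke xe16 ye3 ze17) (ke xe4 ye16 ze54) (ke xe8 ye20 ze54) (ke xe16 ye3 ze26) (ke xe16 ye3 ze20) (ke xe8 ye20 ze58) (ke xe8 ye20 ze59) (ke xe16 ye3 ze34) (ke xe16 ye3 ze36) (ke xe16 ye3 ze38) (ke xe5 ye19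 ze18) (ke xe4 ye16 ze57) (ke xe12 ye15 ze50) (ke xe4 ye16 ze61) (ke xe8 ye32 ze34) (ke xe5 ye30 ze15) (ke xe12 ye15 ze45) (ke xe8 ye35 ze50) (ke xe4 ye17 ze5) (ke xe6 ye29 ze15) (ke xe6 ye37 ze14) (ke xe6 ye43 ze17) (ke xe16 ye3 ze56) (ke xe4 ye17 ze8) (ke xe8 ye21 ze10) (ke xe16 ye4 ze1) (ke xe16 ye4 ze2) (ke xe4 ye17 ze12) (ke xe7 ye25 ze31) (ke xe16 ye4 ze6) (ke xe4 ye17 ze14) (ke xe16 ye4 ze9) (ke xe16 ye2 ze60) (ke xe16 ye4 ze14) (ke xe16 ye4 ze15) (ke xe4 ye17 ze18) (ke xe16 ye4 ze22) (ke xe16 ye4 ze23) (ke xe4 ye17 ze20) (ke xe5 ye23 ze54) (ke xe8 ye20 ze39) (ke xe16 ye4 ze33) (ke xe4 ye17 ze22) (ke xe16 ye4 ze38) (ke xe4 ye17 ze23) (ke xe6 ye38 ze8) (ke xe9 ye18 ze39) (ke xe6 ye41 ze17) (ke xe14 ye48 ze29) (ke xe4 ye17 ze24) (ke xe16 ye4 ze44) (ke xe16 ye4 ze46))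 (@D3.rec (fun _ => Pt) (ke xe16 ye4 ze48) (ke xe4 ye17 ze25) (ke xe16 ye3 ze4) (ke xe16 ye4 ze51) (ke xe8 ye20 ze57) (ke xe10 ye37 ze47) (ke xe16 ye2 ze53) (ke xe6 ye38 ze5) (ke xe4 ye47 ze58) (ke xe16 ye5 ze1) (ke xe4 ye17 ze31) (ke xe12 ye14 ze29) (ke xe16 ye5 ze4) (ke xe12 ye26 ze24) (ke xe4 ye17 ze37) (ke xe4 ye18 ze6) (ke xe10 ye47 ze56) (ke xe8 ye22 ze35) (ke xe16 ye5 ze15) (ke xe4 ye17 ze39) (ke xe8 ye22 ze1) (ke xe16 ye5 ze21) (ke xe8 ye22 ze3) (ke xe12 ye39 ze4) (ke xe16 ye5 ze22) (ke xe4 ye17 ze41) (ke xe12 ye26 ze21) (ke xe4 ye17 ze42) (ke xe16 ye5 ze31) (ke xe16 ye5 ze34) (ke xe16 ye5 ze27) (ke xe8 ye22 ze50) (ke xe8 ye19 ze1) (ke xe16 ye5 ze42) (ke xe10 ye22 ze17) (ke xe4 ye17 ze44) (ke xe16 ye5 ze45) (ke xe16 ye5 ze48) (ke xe4 ye28 ze42) (ke xe4 ye17 ze45)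 (ke xe16 ye5 ze53) (ke xe4 ye17 ze47) (ke xe8 ye22 ze23) (ke xe8 ye22 ze24) (ke xe4 ye17 ze52) (ke xe6 ye19 ze52) (ke xe8 ye22 ze58) (ke xe10 ye22 ze22) (ke xe10 ye22 ze23) (ke xe9 ye20 ze7) (ke xe4 ye30 ze50) (ke xe16 ye6 ze2) (ke xe16 ye6 ze3) (ke xe4 ye17 ze60) (ke xe10 ye47 ze59) (ke xe8 ye21 ze60) (ke xe8 ye22 ze36) (ke xe16 ye6 ze14) (ke xe4 ye18 ze1) (ke xe8 ye22 ze39) (ke xe16 ye6 ze18) (ke xe6 ye10 ze3)) (@D3.rec (fun _ => Pt) (ke xe14 ye39 ze15) (ke xe16 ye6 ze22) (ke xe4 ye18 ze3) (ke xe16 ye6 ze28) (ke xe16 ye5 ze5) (ke xe16 ye6 ze25) (ke xe8 ye22 ze13) (ke xe16 ye6 ze34) (ke xe14 ye54 ze24) (ke xe4 ye18 ze5) (ke xe16 ye5 ze9) (ke xe8 ye22 ze55) (ke xe16 ye6 ze40) (ke xe16 ye6 ze42) (ke xe4 ye18 ze9) (ke xe4 ye18 ze11) (ke xe8 ye22 ze26) (ke xe16 ye6 ze44)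 (ke xe12 ye14 ze51) (ke xe4 ye18 ze15) (ke xe8 ye23 ze0) (ke xe8 ye23 ze1) (ke xe16 ye6 ze48) (ke xe6 ye23 ze47) (ke xe6 ye23 ze48) (ke xe16 ye6 ze49) (ke xe12 ye14 ze52) (ke xe4 ye18 ze20) (ke xe4 ye41 ze61) (ke xe6 ye23 ze44) (ke xe12 ye14 ze17) (ke xe8 ye58 ze57) (ke xe8 ye23 ze11) (ke xe12 ye26 ze32) (ke xe12 ye26 ze48) (ke xe12 ye30 ze0) (ke xe16 ye6 ze58) (ke xe8 ye23 ze16) (ke xe15 ye59 ze53) (ke xe16 ye7 ze1) (ke xe4 ye18 ze25) (ke xe6 ye19 ze48) (ke xe4 ye40 ze12) (ke xe8 ye23 ze27) (ke xe6 ye18 ze45) (ke xe9 ye28 ze18) (ke xe16 ye0 ze28) (ke xe6 ye23 ze55) (ke xe8 ye23 ze25) (ke xe16 ye7 ze9) (ke xe8 ye33 ze27) (ke xe4 ye18 ze31) (ke xe6 ye33 ze48) (ke xe4 ye18 ze32) (ke xe4 ye18 ze35) (ke xe4 ye18 ze36) (ke xe16 ye7 ze13) (ke xe16 ye7 ze14) (ke xe4 ye18 ze37)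 (ke xe16 ye7 ze17) (ke xe12 ye20 ze36) (ke xe4 ye18 ze39)) (@D3.rec (fun _ => Pt) (ke xe8 ye24 ze6) (ke xe16 ye7 ze22) (ke xe8 ye24 ze21) (ke xe4 ye18 ze42) (ke xe16 ye7 ze29) (ke xe16 ye7 ze30) (ke xe4 ye18 ze43) (ke xe15 ye47 ze46) (ke xe4 ye19 ze38) (ke xe6 ye44 ze3) (ke xe16 ye7 ze36) (ke xe4 ye18 ze45) (ke xe8 ye24 ze8) (ke xe8 ye25 ze23) (ke xe16 ye7 ze41) (ke xe13 ye58 ze15) (ke xe4 ye18 ze47) (ke xe4 ye18 ze48) (ke xe9 ye29 ze1) (ke xe10 ye12 ze11) (ke xe16 ye7 ze45) (ke xe16 ye7 ze46) (ke xe4 ye18 ze50) (ke xe8 ye24 ze36) (ke xe16 ye7 ze50) (ke xe10 ye12 ze4) (ke xe8 ye24 ze38) (ke xe8 ye24 ze39) (ke xe16 ye7 ze59) (ke xe16 ye7 ze60) (ke xe16 ye8 ze1) (ke xe8 ye24 ze43) (ke xe4 ye18 ze53) (ke xe8 ye11 ze3) (ke xe16 ye8 ze3) (ke xe4 ye18 ze60) (ke xe9 ye18 ze18)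 (ke xe8 ye25 ze2) (ke xe4 ye51 ze30) (ke xe16 ye8 ze6) (ke xe16 ye8 ze8) (ke xe4 ye19 ze2) (ke xe8 ye6 ze39) (ke xe8 ye7 ze25) (ke xe15 ye9 ze39) (ke xe16 ye8 ze9) (ke xe8 ye6 ze45) (ke xe16 ye8 ze12) (ke xe16 ye8 ze15) (ke xe16 ye8 ze16) (ke xe4 ye19 ze11) (ke xe15 ye9 ze14) (ke xe8 ye7 ze35) (ke xe16 ye8 ze25) (ke xe8 ye40 ze24) (ke xe4 ye19 ze13) (ke xe8 ye42 ze31) (ke xe10 ye37 ze33) (ke xe4 ye19 ze18) (ke xe9 ye34 ze53) (ke xe16 ye8 ze27) (ke xe5 ye1 ze24)) (@D3.rec (fun _ => Pt) (ke xe16 ye8 ze34) (ke xe16 ye8 ze36) (ke xe4 ye19 ze20) (ke xe4 ye19 ze21) (ke xe12 ye42 ze46) (ke xe16 ye8 ze43) (ke xe4 ye19 ze22) (ke xe12 ye26 ze11) (ke xe16 ye8 ze45) (ke xe4 ye19 ze24) (ke xe4 ye19 ze27) (ke xe16 ye8 ze52) (ke xe16 ye8 ze53) (ke xe4 ye19 ze28) (ke xe4 ye19 ze30)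 (ke xe16 ye8 ze61) (ke xe16 ye9 ze0) (ke xe4 ye19 ze31) (ke xe8 ye25 ze22) (ke xe8 ye24 ze22) (ke xe7 ye31 ze51) (ke xe16 ye9 ze10) (ke xe4 ye19 ze33) (ke xe16 ye9 ze15) (ke xe9 ye14 ze38) (ke xe4 ye19 ze34) (ke xe16 ye9 ze17) (ke xe4 ye19 ze36) (ke xe12 ye53 ze30) (ke xe16 ye9 ze20) (ke xe16 ye7 ze25) (ke xe12 ye43 ze36) (ke xe15 ye29 ze34) (ke xe10 ye11 ze11) (ke xe4 ye19 ze44) (ke xe5 ye36 ze36) (ke xe16 ye9 ze38) (ke xe4 ye51 ze17) (ke xe8 ye10 ze20) (ke xe11 ye9 ze42) (ke xe9 ye44 ze32) (ke xe12 ye10 ze58) (ke xe12 ye10 ze59) (ke xe7 ye52 ze10) (ke xe4 ye19 ze54) (ke xe5 ye35 ze21) (ke xe16 ye9 ze51) (ke xe5 ye35 ze36) (ke xe14 ye51 ze6) (ke xe4 ye19 ze56) (ke xe4 ye56 ze6) (ke xe15 ye49 ze1) (ke xe8 ye27 ze48) (ke xe16 ye9 ze61) (ke xe4 ye19 ze58) (ke xe14 ye48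 ze7) (ke xe16 ye10 ze7) (ke xe7 ye52 ze38) (ke xe9 ye51 ze37) (ke xe16 ye10 ze15) (ke xe11 ye2 ze41) (ke xe4 ye19 ze61)) (@D3.rec (fun _ => Pt) (ke xe4 ye20 ze0) (ke xe15 ye6 ze43) (ke xe7 ye36 ze59) (ke xe4 ye20 ze2) (ke xe9 ye37 ze40) (ke xe16 ye10 ze24) (ke xe8 ye38 ze52) (ke xe16 ye10 ze26) (ke xe4 ye20 ze5) (ke xe4 ye20 ze6) (ke xe16 ye10 ze29) (ke xe4 ye20 ze7) (ke xe4 ye20 ze8) (ke xe4 ye38 ze23) (ke xe13 ye16 ze9) (ke xe4 ye37 ze2) (ke xe16 ye10 ze34) (ke xe16 ye10 ze36) (ke xe16 ye10 ze38) (ke xe16 ye10 ze40) (ke xe16 ye10 ze42) (ke xe4 ye20 ze13) (ke xe16 ye10 ze46) (ke xe16 ye10 ze48) (ke xe4 ye20 ze15) (ke xe16 ye10 ze55) (ke xe4 ye20 ze16) (ke xe16 ye10 ze61) (ke xe16 ye11 ze1) (ke xe16 ye11 ze2) (ke xe4 ye20 ze18) (ke xe4 ye20 ze19) (ke xe4 ye20 ze20)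 (ke xe9 ye51 ze42) (ke xe16 ye11 ze13) (ke xe4 ye20 ze22) (ke xe16 ye11 ze17) (ke xe16 ye11 ze18) (ke xe4 ye20 ze23) (ke xe16 ye11 ze23) (ke xe4 ye20 ze25) (ke xe16 ye11 ze30) (ke xe16 ye11 ze35) (ke xe9 ye51 ze48) (ke xe16 ye11 ze40) (ke xe16 ye11 ze41) (ke xe4 ye20 ze27) (ke xe4 ye20 ze28) (ke xe14 ye39 ze37) (ke xe4 ye20 ze30) (ke xe16 ye11 ze47) (ke xe4 ye29 ze4) (ke xe8 ye38 ze6) (ke xe4 ye20 ze32) (ke xe4 ye20 ze33) (ke xe8 ye2 ze21) (ke xe13 ye59 ze30) (ke xe4 ye20 ze36) (ke xe16 ye11 ze56) (ke xe16 ye11 ze60) (ke xe13 ye52 ze9) (ke xe16 ye12 ze1)) (@D3.rec (fun _ => Pt) (ke xe11 ye3 ze55) (ke xe4 ye20 ze39) (ke xe16 ye12 ze8) (ke xe4 ye20 ze41) (ke xe4 ye20 ze42) (ke xe5 ye35 ze15) (ke xe4 ye20 ze43) (ke xe16 ye12 ze20) (ke xe13 ye15 ze39) (ke xe16 ye12 ze23)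 (ke xe4 ye20 ze45) (ke xe4 ye20 ze49) (ke xe8 ye8 ze53) (ke xe16 ye12 ze29) (ke xe8 ye7 ze43) (ke xe16 ye12 ze30) (ke xe10 ye31 ze26) (ke xe8 ye39 ze35) (ke xe16 ye12 ze36) (ke xe14 ye29 ze28) (ke xe16 ye12 ze27) (ke xe16 ye12 ze4) (ke xe16 ye12 ze45) (ke xe4 ye20 ze50) (ke xe4 ye20 ze51) (ke xe16 ye12 ze51) (ke xe10 ye32 ze54) (ke xe16 ye12 ze56) (ke xe16 ye12 ze58) (ke xe4 ye20 ze54) (ke xe4 ye20 ze55) (ke xe4 ye20 ze58) (ke xe16 ye13 ze1) (ke xe5 ye24 ze34) (ke xe16 ye13 ze3) (ke xe8 ye39 ze17) (ke xe16 ye13 ze9) (ke xe7 ye50 ze16) (ke xe16 ye12 ze61) (ke xe16 ye13 ze17) (ke xe16 ye13 ze18) (ke xe4 ye20 ze59) (ke xe4 ye20 ze60) (ke xe8 ye41 ze21) (ke xe16 ye13 ze25) (ke xe8 ye2 ze44) (ke xe16 ye13 ze29) (ke xe16 ye13 ze31) (ke xe4 ye21 ze1) (ke xe9 ye36 ze41) (ke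 xe4 ye21 ze14) (ke xe16 ye13 ze37) (ke xe4 ye21 ze4) (ke xe9 ye18 ze53) (ke xe16 ye13 ze41) (ke xe4 ye21 ze6) (ke xe16 ye13 ze42) (ke xe4 ye21 ze9) (ke xe15 ye36 ze24) (ke xe12 ye26 ze57) (ke xe9 ye12 ze8) (ke xe4 ye21 ze11)) (@D3.rec (fun _ => Pt) (ke xe16 ye13 ze50) (ke xe15 ye38 ze29) (ke xe16 ye13 ze54) (ke xe16 ye13 ze55) (ke xe4 ye21 ze13) (ke xe16 ye14 ze0) (ke xe16 ye14 ze5) (ke xe11 ye17 ze37) (ke xe16 ye14 ze10) (ke xe12 ye35 ze34) (ke xe16 ye14 ze12) (ke xe4 ye21 ze15) (ke xe4 ye21 ze16) (ke xe16 ye14 ze17) (ke xe16 ye14 ze22) (ke xe16 ye14 ze23) (ke xe4 ye21 ze18) (ke xe8 ye8 ze7) (ke xe4 ye21 ze21) (ke xe9 ye34 ze14) (ke xe16 ye14 ze30) (ke xe16 ye14 ze31) (ke xe4 ye21 ze23) (ke xe16 ye14 ze32) (ke xe8 ye36 ze54) (ke xe12 ye50 ze25) (ke xe16 ye14 ze39)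 (ke xe4 ye22 ze8) (ke xe16 ye14 ze44) (ke xe16 ye14 ze46) (ke xe16 ye14 ze47) (ke xe4 ye21 ze26) (ke xe4 ye21 ze27) (ke xe14 ye12 ze21) (ke xe4 ye21 ze29) (ke xe16 ye14 ze59) (ke xe16 ye14 ze60) (ke xe4 ye21 ze31) (ke xe16 ye15 ze3) (ke xe12 ye30 ze37) (ke xe16 ye15 ze7) (ke xe16 ye15 ze11) (ke xe4 ye21 ze32) (ke xe4 ye21 ze33) (ke xe16 ye15 ze19) (ke xe10 ye7 ze51) (ke xe14 ye57 ze22) (ke xe9 ye34 ze34) (ke xe16 ye15 ze23) (ke xe16 ye15 ze24) (ke xe8 ye3 ze11) (ke xe4 ye21 ze36) (ke xe4 ye21 ze38) (ke xe16 ye15 ze28) (ke xe16 ye15 ze29) (ke xe4 ye21 ze39) (ke xe14 ye57 ze7) (ke xe16 ye15 ze34) (ke xe16 ye15 ze38) (ke xe16 ye15 ze40) (ke xe16 ye15 ze44) (ke xe4 ye21 ze41)) (@D3.rec (fun _ => Pt) (ke xe4 ye21 ze42) (ke xe16 ye15 ze55) (ke xe16 ye15 ze51) (ke xe14 ye57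 ze12) (ke xe16 ye16 ze0) (ke xe8 ye6 ze60) (ke xe4 ye21 ze44) (ke xe8 ye32 ze57) (ke xe16 ye16 ze6) (ke xe15 ye37 ze40) (ke xe16 ye16 ze10) (ke xe16 ye16 ze12) (ke xe4 ye21 ze47) (ke xe4 ye21 ze48) (ke xe9 ye39 ze4) (ke xe16 ye16 ze24) (ke xe16 ye16 ze19) (ke xe9 ye38 ze15) (ke xe9 ye35 ze39) (ke xe16 ye16 ze31) (ke xe16 ye16 ze34) (ke xe8 ye39 ze43) (ke xe4 ye21 ze51) (ke xe10 ye35 ze21) (ke xe5 ye12 ze39) (ke xe10 ye0 ze54) (ke xe6 ye23 ze19) (ke xe16 ye16 ze39) (ke xe4 ye21 ze54) (ke xe14 ye57 ze25) (ke xe16 ye14 ze26) (ke xe16 ye16 ze45) (ke xe12 ye26 ze50) (ke xe16 ye16 ze49) (ke xe4 ye21 ze56) (ke xe4 ye21 ze57) (ke xe16 ye16 ze59) (ke xe9 ye38 ze56) (ke xe16 ye16 ze55) (ke xe9 ye38 ze7) (ke xe16 ye17 ze2) (ke xe15 ye19 ze43) (ke xe4 ye21 ze59) (ke xe9 ye35 ze16)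 (ke xe8 ye5 ze48) (ke xe16 ye17 ze8) (ke xe9 ye35 ze9) (ke xe12 ye50 ze13) (ke xe16 ye17 ze16) (ke xe4 ye22 ze0) (ke xe4 ye22 ze1) (ke xe16 ye17 ze21) (ke xe14 ye57 ze47) (ke xe9 ye35 ze32) (ke xe16 ye17 ze31) (ke xe16 ye17 ze34) (ke xe16 ye17 ze38) (ke xe16 ye17 ze42) (ke xe4 ye22 ze3) (ke xe4 ye22 ze4) (ke xe16 ye17 ze46) (ke xe14 ye57 ze39)) (@D3.rec (fun _ => Pt) (ke xe16 ye17 ze49) (ke xe16 ye17 ze53) (ke xe12 ye12 ze4) (ke xe12 ye12 ze5) (ke xe16 ye17 ze61) (ke xe4 ye22 ze6) (ke xe12 ye26 ze37) (ke xe16 ye18 ze5) (ke xe16 ye18 ze7) (ke xe15 ye11 ze13) (ke xe4 ye22 ze7) (ke xe16 ye18 ze13) (ke xe7 ye33 ze30) (ke xe16 ye18 ze16) (ke xe16 ye18 ze19) (ke xe4 ye22 ze9) (ke xe4 ye22 ze10) (ke xe16 ye18 ze28) (ke xe4 ye22 ze11) (ke xe16 ye18 ze32) (ke xe4 ye22 ze12)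 (ke xe16 ye18 ze39) (ke xe16 ye18 ze42) (ke xe14 ye59 ze15) (ke xe16 ye18 ze45) (ke xe16 ye18 ze48) (ke xe14 ye59 ze14) (ke xe16 ye18 ze53) (ke xe16 ye3 ze44) (ke xe4 ye22 ze15) (ke xe16 ye18 ze56) (ke xe8 ye36 ze56) (ke xe4 ye22 ze16) (ke xe4 ye22 ze17) (ke xe16 ye19 ze0) (ke xe4 ye22 ze18) (ke xe9 ye34 ze7) (ke xe16 ye19 ze2) (ke xe5 ye29 ze43) (ke xe16 ye19 ze6) (ke xe16 ye19 ze10) (ke xe16 ye19 ze11) (ke xe4 ye22 ze22) (ke xe10 ye7 ze47) (ke xe9 ye44 ze57) (ke xe9 ye34 ze38) (ke xe16 ye19 ze18) (ke xe16 ye19 ze19) (ke xe8 ye14 ze47) (ke xe5 ye1 ze17) (ke xe4 ye22 ze27) (ke xe4 ye22 ze28) (ke xe8 ye3 ze38) (ke xe4 ye22 ze29) (ke xe16 ye19 ze27) (ke xe4 ye22 ze31) (ke xe16 ye19 ze30) (ke xe16 ye19 ze32) (ke xe16 ye19 ze36) (ke xe4 ye22 ze32) (ke xe4 ye24 ze1) (ke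 xe11 ye8 ze7)) (@D3.rec (fun _ => Pt) (ke xe16 ye19 ze38) (ke xe16 ye19 ze44) (ke xe16 ye19 ze48) (ke xe4 ye22 ze37) (ke xe9 ye45 ze3) (ke xe4 ye24 ze8) (ke xe4 ye22 ze36) (ke xe16 ye19 ze51) (ke xe11 ye39 ze31) (ke xe4 ye22 ze39) (ke xe16 ye19 ze58) (ke xe14 ye6 ze51) (ke xe4 ye22 ze40) (ke xe16 ye19 ze61) (ke xe14 ye58 ze13) (ke xe13 ye52 ze59) (ke xe16 ye20 ze3) (ke xe16 ye20 ze4) (ke xe4 ye22 ze42) (ke xe16 ye18 ze35) (ke xe14 ye58 ze19) (ke xe8 ye17 ze1) (ke xe10 ye16 ze40) (ke xe6 ye24 ze30) (ke xe16 ye20 ze15) (ke xe4 ye22 ze47) (ke xe16 ye20 ze17) (ke xe16 ye20 ze19) (ke xe16 ye20 ze22) (ke xe16 ye20 ze24) (ke xe4 ye22 ze49) (ke xe16 ye20 ze29) (ke xe16 ye20 ze33) (ke xe14 ye58 ze27) (ke xe4 ye22 ze51) (ke xe10 ye3 ze14) (ke xe16 ye20 ze37) (ke xe16 ye20 ze39)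 (ke xe9 ye54 ze52) (ke xe4 ye22 ze54) (ke xe5 ye55 ze49) (ke xe5 ye12 ze2) (ke xe16 ye20 ze43) (ke xe4 ye22 ze56) (ke xe4 ye22 ze57) (ke xe16 ye20 ze52) (ke xe16 ye20 ze56) (ke xe4 ye22 ze60) (ke xe9 ye45 ze9) (ke xe16 ye20 ze59) (ke xe9 ye56 ze29) (ke xe16 ye20 ze61) (ke xe16 ye21 ze1) (ke xe4 ye23 ze3) (ke xe16 ye21 ze4) (ke xe5 ye13 ze9) (ke xe7 ye13 ze42) (ke xe16 ye21 ze8) (ke xe15 ye8 ze34) (ke xe14 ye58 ze32) (ke xe4 ye35 ze33) (ke xe4 ye23 ze8)) (@D3.rec (fun _ => Pt) (ke xe16 ye21 ze17) (ke xe16 ye21 ze18) (ke xe4 ye23 ze10) (ke xe14 ye58 ze40) (ke xe16 ye21 ze20) (ke xe16 ye21 ze23) (ke xe15 ye7 ze59) (ke xe16 ye21 ze26) (ke xe4 ye23 ze13) (ke xe16 ye21 ze27) (ke xe16 ye21 ze29) (ke xe7 ye14 ze25) (ke xe16 ye21 ze33) (ke xe15 ye0 ze25) (ke xe14 ye58 ze37)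 (ke xe16 ye21 ze36) (ke xe4 ye23 ze17) (ke xe4 ye25 ze43) (ke xe10 ye14 ze48) (ke xe11 ye36 ze50) (ke xe16 ye21 ze41) (ke xe10 ye18 ze11) (ke xe16 ye21 ze42) (ke xe10 ye14 ze49) (ke xe4 ye23 ze22) (ke xe16 ye21 ze45) (ke xe4 ye23 ze23) (ke xe16 ye21 ze46) (ke xe4 ye23 ze24) (ke xe4 ye23 ze25) (ke xe4 ye25 ze55) (ke xe10 ye28 ze39) (ke xe16 ye21 ze50) (ke xe16 ye21 ze54) (ke xe4 ye23 ze27) (ke xe16 ye21 ze57) (ke xe5 ye18 ze24) (ke xe4 ye23 ze28) (ke xe16 ye22 ze0) (ke xe5 ye18 ze33) (ke xe4 ye23 ze29) (ke xe16 ye22 ze8) (ke xe10 ye12 ze31) (ke xe5 ye2 ze3) (ke xe16 ye22 ze11) (ke xe4 ye23 ze30) (ke xe16 ye22 ze13) (ke xe4 ye27 ze30) (ke xe16 ye22 ze16) (ke xe4 ye23 ze32) (ke xe10 ye17 ze28) (ke xe16 ye22 ze19) (ke xe16 ye22 ze25) (ke xe14 ye42 ze58) (ke xe4 ye23 ze34)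 (ke xe10 ye28 ze46) (ke xe16 ye22 ze34) (ke xe4 ye56 ze37) (ke xe14 ye59 ze7) (ke xe16 ye22 ze40) (ke xe16 ye22 ze44) (ke xe4 ye23 ze36)) (@D3.rec (fun _ => Pt) (ke xe16 ye22 ze48) (ke xe16 ye22 ze51) (ke xe14 ye59 ze2) (ke xe10 ye8 ze29) (ke xe16 ye22 ze55) (ke xe10 ye9 ze30) (ke xe4 ye23 ze38) (ke xe16 ye22 ze59) (ke xe10 ye8 ze40) (ke xe14 ye58 ze3) (ke xe14 ye58 ze2) (ke xe16 ye23 ze8) (ke xe16 ye23 ze11) (ke xe16 ye23 ze14) (ke xe4 ye23 ze40) (ke xe16 ye23 ze18) (ke xe16 ye23 ze20) (ke xe6 ye14 ze22) (ke xe4 ye23 ze41) (ke xe4 ye23 ze42) (ke xe16 ye23 ze26) (ke xe14 ye53 ze33) (ke xe4 ye23 ze44) (ke xe16 ye23 ze30) (ke xe5 ye46 ze22) (ke xe4 ye23 ze46) (ke xe16 ye23 ze32) (ke xe4 ye23 ze48) (ke xe16 ye23 ze34) (ke xe15 ye6 ze1) (ke xe16 ye23 ze39) (ke xe4 ye23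 ze51) (ke xe6 ye14 ze14) (ke xe16 ye23 ze41) (ke xe4 ye23 ze52) (ke xe16 ye23 ze21) (ke xe14 ye44 ze23) (ke xe6 ye13 ze60) (ke xe16 ye23 ze49) (ke xe11 ye37 ze38) (ke xe13 ye38 ze54) (ke xe16 ye23 ze52) (ke xe16 ye23 ze53) (ke xe4 ye23 ze59) (ke xe16 ye23 ze58) (ke xe4 ye23 ze60) (ke xe11 ye36 ze30) (ke xe16 ye23 ze59) (ke xe16 ye23 ze60) (ke xe4 ye23 ze61) (ke xe16 ye24 ze3) (ke xe8 ye52 ze10) (ke xe6 ye24 ze44) (ke xe4 ye24 ze2) (ke xe11 ye9 ze55) (ke xe6 ye59 ze16) (ke xe4 ye24 ze4) (ke xe16 ye24 ze9) (ke xe7 ye7 ze2) (ke xe4 ye24 ze5) (ke xe16 ye21 ze11) (ke xe13 ye49 ze9)) (@D3.rec (fun _ => Pt) (ke xe13 ye38 ze14) (ke xe13 ye40 ze34) (ke xe16 ye24 ze16) (ke xe4 ye24 ze11) (ke xe16 ye24 ze18) (ke xe4 ye24 ze12) (ke xe16 ye24 ze20) (ke xe16 ye24 ze23) (ke xe4 ye24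 ze15) (ke xe9 ye14 ze59) (ke xe16 ye24 ze25) (ke xe16 ye24 ze29) (ke xe4 ye24 ze17) (ke xe16 ye24 ze32) (ke xe16 ye24 ze34) (ke xe4 ye24 ze19) (ke xe16 ye24 ze35) (ke xe13 ye19 ze7) (ke xe4 ye24 ze20) (ke xe16 ye24 ze40) (ke xe4 ye24 ze21) (ke xe16 ye24 ze48) (ke xe16 ye24 ze52) (ke xe4 ye24 ze23) (ke xe7 ye5 ze51) (ke xe16 ye24 ze56) (ke xe16 ye24 ze55) (ke xe16 ye24 ze58) (ke xe16 ye25 ze0) (ke xe4 ye24 ze24) (ke xe16 ye25 ze4) (ke xe15 ye6 ze6) (ke xe4 ye24 ze25) (ke xe16 ye25 ze7) (ke xe4 ye24 ze30) (ke xe13 ye38 ze25) (ke xe4 ye24 ze28) (ke xe4 ye24 ze29) (ke xe4 ye24 ze32) (ke xe4 ye24 ze33) (ke xe4 ye37 ze4) (ke xe16 ye23 ze55) (ke xe16 ye25 ze23) (ke xe4 ye24 ze35) (ke xe16 ye25 ze27) (ke xe4 ye24 ze36) (ke xe16 ye25 ze35) (ke xe16 ye25 ze38) (ke xe5 ye56 ze20)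 (ke xe12 ye32 ze10) (ke xe16 ye25 ze42) (ke xe4 ye24 ze38) (ke xe16 ye25 ze48) (ke xe16 ye25 ze50) (ke xe4 ye24 ze39) (ke xe4 ye36 ze57) (ke xe16 ye24 ze38) (ke xe16 ye25 ze58) (ke xe4 ye24 ze44) (ke xe7 ye13 ze49) (ke xe16 ye25 ze60) (ke xe7 ye17 ze28)) (@D3.rec (fun _ => Pt) (ke xe4 ye24 ze46) (ke xe16 ye26 ze7) (ke xe4 ye24 ze47) (ke xe16 ye26 ze11) (ke xe16 ye26 ze12) (ke xe4 ye24 ze48) (ke xe7 ye12 ze40) (ke xe16 ye26 ze21) (ke xe4 ye24 ze52) (ke xe14 ye59 ze39) (ke xe13 ye44 ze0) (ke xe16 ye26 ze28) (ke xe16 ye26 ze31) (ke xe7 ye13 ze28) (ke xe16 ye26 ze24) (ke xe16 ye26 ze38) (ke xe16 ye26 ze42) (ke xe13 ye43 ze35) (ke xe4 ye24 ze54) (ke xe16 ye26 ze48) (ke xe16 ye19 ze49) (ke xe4 ye24 ze55) (ke xe16 ye26 ze53) (ke xe16 ye26 ze56) (ke xe4 ye25 ze1) (ke xe16 ye27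 ze0) (ke xe15 ye20 ze19) (ke xe4 ye24 ze58) (ke xe16 ye27 ze5) (ke xe16 ye27 ze7) (ke xe4 ye24 ze60) (ke xe16 ye27 ze12) (ke xe16 ye27 ze14) (ke xe4 ye24 ze61) (ke xe16 ye27 ze19) (ke xe15 ye18 ze7) (ke xe4 ye25 ze0) (ke xe16 ye27 ze24) (ke xe15 ye53 ze17) (ke xe16 ye26 ze59) (ke xe16 ye27 ze30) (ke xe16 ye27 ze31) (ke xe4 ye25 ze2) (ke xe4 ye25 ze57) (ke xe16 ye27 ze37) (ke xe15 ye54 ze11) (ke xe4 ye25 ze4) (ke xe16 ye27 ze41) (ke xe16 ye27 ze42) (ke xe4 ye25 ze6) (ke xe16 ye27 ze47) (ke xe16 ye27 ze50) (ke xe4 ye25 ze7) (ke xe16 ye27 ze53) (ke xe16 ye27 ze55) (ke xe4 ye25 ze8) (ke xe16 ye27 ze60) (ke xe13 ye48 ze13) (ke xe4 ye25 ze11) (ke xe16 ye28 ze2) (ke xe16 ye27 ze61) (ke xe4 ye25 ze12)) (@D3.rec (fun _ => Pt) (ke xe16 ye28 ze8) (ke xe16 ye28 ze9) (ke xe14 ye37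 ze52) (ke xe4 ye25 ze15) (ke xe9 ye49 ze23) (ke xe4 ye25 ze16) (ke xe16 ye28 ze11) (ke xe16 ye28 ze12) (ke xe4 ye25 ze18) (ke xe13 ye42 ze46) (ke xe16 ye28 ze17) (ke xe4 ye25 ze20) (ke xe7 ye56 ze56) (ke xe7 ye14 ze13) (ke xe12 ye46 ze43) (ke xe12 ye3 ze6) (ke xe16 ye28 ze24) (ke xe16 ye28 ze25) (ke xe4 ye25 ze23) (ke xe12 ye46 ze37) (ke xe16 ye28 ze27) (ke xe4 ye25 ze24) (ke xe6 ye52 ze24) (ke xe12 ye45 ze46) (ke xe4 ye25 ze28) (ke xe14 ye59 ze47) (ke xe16 ye28 ze37) (ke xe13 ye30 ze58) (ke xe7 ye7 ze58) (ke xe16 ye28 ze41) (ke xe15 ye35 ze46) (ke xe16 ye28 ze46) (ke xe16 ye28 ze50) (ke xe4 ye25 ze30) (ke xe16 ye22 ze35) (ke xe4 ye25 ze31) (ke xe16 ye28 ze54) (ke xe16 ye28 ze56) (ke xe4 ye25 ze36) (ke xe16 ye28 ze59) (ke xe16 ye28 ze61) (ke xe4 ye25 ze34) (ke xe13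 ye30 ze20) (ke xe4 ye25 ze35) (ke xe16 ye29 ze4) (ke xe15 ye22 ze38) (ke xe8 ye55 ze59) (ke xe10 ye24 ze25) (ke xe16 ye29 ze8) (ke xe4 ye25 ze37) (ke xe16 ye29 ze11) (ke xe4 ye25 ze38) (ke xe16 ye29 ze14) (ke xe4 ye25 ze40) (ke xe4 ye31 ze43) (ke xe4 ye25 ze41) (ke xe11 ye7 ze51) (ke xe16 ye29 ze17) (ke xe16 ye29 ze18) (ke xe4 ye25 ze44) (ke xe13 ye46 ze29) (ke xe16 ye29 ze21)) (@D3.rec (fun _ => Pt) (ke xe15 ye7 ze61) (ke xe4 ye25 ze48) (ke xe11 ye15 ze47) (ke xe14 ye12 ze50) (ke xe5 ye50 ze58) (ke xe16 ye29 ze28) (ke xe4 ye25 ze51) (ke xe16 ye29 ze33) (ke xe12 ye4 ze37) (ke xe16 ye29 ze35) (ke xe4 ye25 ze56) (ke xe4 ye25 ze54) (ke xe16 ye29 ze38) (ke xe16 ye29 ze40) (ke xe11 ye7 ze25) (ke xe16 ye29 ze45) (ke xe16 ye29 ze36) (ke xe16 ye29 ze48) (ke xe4 ye25 ze59) (ke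 xe16 ye29 ze51) (ke xe4 ye25 ze61) (ke xe5 ye40 ze17) (ke xe16 ye29 ze58) (ke xe4 ye58 ze27) (ke xe11 ye59 ze28) (ke xe16 ye30 ze0) (ke xe4 ye26 ze1) (ke xe16 ye30 ze4) (ke xe4 ye26 ze4) (ke xe5 ye38 ze4) (ke xe16 ye30 ze8) (ke xe16 ye30 ze9) (ke xe16 ye30 ze6) (ke xe16 ye30 ze15) (ke xe16 ye30 ze16) (ke xe11 ye11 ze38) (ke xe4 ye26 ze6) (ke xe4 ye26 ze7) (ke xe11 ye43 ze32) (ke xe11 ye14 ze14) (ke xe4 ye26 ze8) (ke xe16 ye30 ze25) (ke xe16 ye29 ze15) (ke xe13 ye46 ze26) (ke xe4 ye26 ze10) (ke xe16 ye30 ze28) (ke xe11 ye11 ze22) (ke xe4 ye26 ze11) (ke xe9 ye1 ze43) (ke xe7 ye18 ze47) (ke xe9 ye51 ze2) (ke xe16 ye30 ze19) (ke xe16 ye30 ze33) (ke xe4 ye26 ze13) (ke xe9 ye50 ze52) (ke xe10 ye18 ze52) (ke xe4 ye26 ze14) (ke xe16 ye30 ze38) (ke xe16 ye30 ze40) (ke xe12 ye7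 ze61) (ke xe11 ye14 ze34) (ke xe4 ye26 ze16)) (@D3.rec (fun _ => Pt) (ke xe4 ye26 ze17) (ke xe11 ye13 ze54) (ke xe11 ye13 ze18) (ke xe8 ye0 ze49) (ke xe4 ye26 ze19) (ke xe11 ye17 ze26) (ke xe5 ye43 ze21) (ke xe16 ye30 ze43) (ke xe16 ye30 ze50) (ke xe4 ye26 ze21) (ke xe16 ye30 ze55) (ke xe10 ye15 ze3) (ke xe4 ye26 ze22) (ke xe11 ye11 ze20) (ke xe16 ye3 ze33) (ke xe4 ye26 ze24) (ke xe16 ye31 ze5) (ke xe16 ye31 ze9) (ke xe4 ye26 ze27) (ke xe13 ye46 ze27) (ke xe16 ye31 ze15) (ke xe4 ye26 ze26) (ke xe16 ye31 ze18) (ke xe16 ye31 ze20) (ke xe16 ye31 ze12) (ke xe16 ye31 ze25) (ke xe4 ye26 ze28) (ke xe12 ye38 ze0) (ke xe16 ye31 ze28) (ke xe12 ye37 ze17) (ke xe4 ye26 ze29) (ke xe16 ye31 ze36) (ke xe16 ye31 ze39) (ke xe8 ye2 ze7) (ke xe7 ye19 ze12) (ke xe16 ye31 ze45) (ke xe4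 ye26 ze31) (ke xe16 ye31 ze49) (ke xe16 ye31 ze51) (ke xe4 ye26 ze32) (ke xe16 ye31 ze54) (ke xe16 ye31 ze55) (ke xe7 ye27 ze44) (ke xe13 ye47 ze23) (ke xe4 ye26 ze35) (ke xe13 ye50 ze30) (ke xe4 ye26 ze37) (ke xe16 ye32 ze2) (ke xe11 ye13 ze43) (ke xe6 ye13 ze4) (ke xe7 ye57 ze24) (ke xe16 ye32 ze12) (ke xe16 ye32 ze15) (ke xe4 ye26 ze39) (ke xe16 ye32 ze22) (ke xe16 ye32 ze24) (ke xe4 ye26 ze40) (ke xe7 ye14 ze49) (ke xe16 ye32 ze30) (ke xe6 ye13 ze10) (ke xe16 ye32 ze36) (ke xe11 ye33 ze60)) (@D3.rec (fun _ => Pt) (ke xe16 ye32 ze40) (ke xe16 ye32 ze44) (ke xe16 ye32 ze48) (ke xe4 ye26 ze43) (ke xe16 ye32 ze55) (ke xe16 ye32 ze58) (ke xe4 ye26 ze44) (ke xe16 ye33 ze1) (ke xe14 ye58 ze39) (ke xe16 ye33 ze8) (ke xe4 ye26 ze45) (ke xe16 ye28 ze53) (ke xe12 ye7 ze58)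 (ke xe16 ye28 ze14) (ke xe16 ye33 ze13) (ke xe12 ye46 ze24) (ke xe16 ye33 ze18) (ke xe4 ye26 ze47) (ke xe16 ye33 ze22) (ke xe16 ye33 ze24) (ke xe4 ye26 ze48) (ke xe16 ye33 ze27) (ke xe4 ye26 ze49) (ke xe12 ye8 ze7) (ke xe16 ye33 ze28) (ke xe15 ye0 ze29) (ke xe16 ye23 ze23) (ke xe16 ye33 ze34) (ke xe16 ye33 ze38) (ke xe4 ye26 ze52) (ke xe16 ye33 ze41) (ke xe16 ye33 ze43) (ke xe4 ye26 ze53) (ke xe13 ye42 ze37) (ke xe16 ye33 ze48) (ke xe4 ye26 ze61) (ke xe13 ye30 ze49) (ke xe16 ye29 ze2) (ke xe16 ye33 ze57) (ke xe4 ye26 ze55) (ke xe16 ye34 ze0) (ke xe16 ye34 ze2) (ke xe4 ye26 ze57) (ke xe16 ye34 ze6) (ke xe16 ye34 ze8) (ke xe4 ye26 ze59) (ke xe16 ye34 ze13) (ke xe4 ye26 ze60) (ke xe16 ye34 ze18) (ke xe16 ye34 ze20) (ke xe16 ye33 ze51) (ke xe16 ye34 ze25) (ke xe16 ye34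 ze27) (ke xe16 ye34 ze29) (ke xe4 ye27 ze1) (ke xe4 ye58 ze12) (ke xe4 ye39 ze46) (ke xe16 ye34 ze35) (ke xe16 ye34 ze37) (ke xe4 ye27 ze5) (ke xe15 ye38 ze40) (ke xe16 ye34 ze42)) (@D3.rec (fun _ => Pt) (ke xe4 ye27 ze8) (ke xe4 ye27 ze9) (ke xe5 ye19 ze6) (ke xe16 ye34 ze47) (ke xe4 ye27 ze11) (ke xe16 ye34 ze51) (ke xe11 ye37 ze39) (ke xe4 ye27 ze12) (ke xe8 ye52 ze31) (ke xe16 ye34 ze60) (ke xe8 ye45 ze51) (ke xe4 ye27 ze14) (ke xe5 ye16 ze30) (ke xe16 ye35 ze5) (ke xe8 ye52 ze37) (ke xe13 ye41 ze54) (ke xe16 ye35 ze9) (ke xe4 ye27 ze16) (ke xe16 ye35 ze14) (ke xe16 ye35 ze15) (ke xe4 ye27 ze17) (ke xe16 ye35 ze21) (ke xe16 ye35 ze25) (ke xe5 ye19 ze36) (ke xe10 ye29 ze11) (ke xe10 ye29 ze9) (ke xe12 ye23 ze15) (ke xe4 ye27 ze19) (ke xe4 ye27 ze20) (ke xe12 ye22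 ze4) (ke xe10 ye3 ze12) (ke xe8 ye52 ze8) (ke xe16 ye35 ze37) (ke xe16 ye35 ze38) (ke xe4 ye27 ze24) (ke xe10 ye39 ze34) (ke xe5 ye18 ze23) (ke xe8 ye52 ze14) (ke xe16 ye35 ze47) (ke xe16 ye35 ze48) (ke xe4 ye27 ze26) (ke xe14 ye59 ze6) (ke xe16 ye35 ze51) (ke xe4 ye27 ze27) (ke xe13 ye29 ze46) (ke xe16 ye35 ze61) (ke xe5 ye20 ze8) (ke xe16 ye36 ze4) (ke xe16 ye22 ze14) (ke xe16 ye36 ze6) (ke xe4 ye41 ze20) (ke xe16 ye36 ze8) (ke xe4 ye27 ze29) (ke xe16 ye36 ze12) (ke xe16 ye36 ze16) (ke xe4 ye27 ze32) (ke xe10 ye29 ze38) (ke xe4 ye27 ze58) (ke xe16 ye36 ze25) (ke xe16 ye36 ze26) (ke xe4 ye27 ze34) (ke xe16 ye4 ze29)) (@D3.rec (fun _ => Pt) (ke xe4 ye28 ze14) (ke xe4 ye28 ze24) (ke xe16 ye36 ze34) (ke xe4 ye27 ze36) (ke xe16 ye36 ze40) (ke xe16 ye36 ze41) (ke xe4 ye27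 ze37) (ke xe16 ye36 ze49) (ke xe16 ye36 ze54) (ke xe11 ye52 ze32) (ke xe16 ye36 ze59) (ke xe16 ye36 ze60) (ke xe16 ye37 ze0) (ke xe16 ye37 ze2) (ke xe4 ye27 ze39) (ke xe4 ye27 ze40) (ke xe16 ye37 ze10) (ke xe4 ye27 ze42) (ke xe11 ye52 ze42) (ke xe16 ye37 ze12) (ke xe15 ye18 ze29) (ke xe16 ye37 ze17) (ke xe16 ye37 ze18) (ke xe4 ye27 ze46) (ke xe8 ye55 ze41) (ke xe10 ye29 ze36) (ke xe11 ye52 ze18) (ke xe16 ye37 ze29) (ke xe16 ye37 ze30) (ke xe4 ye27 ze48) (ke xe16 ye37 ze38) (ke xe16 ye37 ze39) (ke xe4 ye27 ze50) (ke xe16 ye37 ze46) (ke xe16 ye37 ze47) (ke xe4 ye27 ze51) (ke xe16 ye37 ze52) (ke xe16 ye37 ze56) (ke xe16 ye37 ze58) (ke xe16 ye37 ze61) (ke xe4 ye27 ze52) (ke xe16 ye38 ze5) (ke xe16 ye38 ze7) (ke xe4 ye27 ze53) (ke xe11 ye52 ze55) (ke xe16 ye38 ze16) (ke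 xe16 ye38 ze10) (ke xe16 ye36 ze19) (ke xe11 ye52 ze59) (ke xe16 ye38 ze25) (ke xe4 ye27 ze56) (ke xe16 ye38 ze27) (ke xe4 ye27 ze59) (ke xe5 ye21 ze53) (ke xe16 ye38 ze33) (ke xe16 ye38 ze29) (ke xe16 ye38 ze38) (ke xe16 ye38 ze42) (ke xe16 ye38 ze45) (ke xe16 ye38 ze47) (ke xe16 ye38 ze51) (ke xe4 ye27 ze60)) (@D3.rec (fun _ => Pt) (ke xe4 ye27 ze61) (ke xe16 ye39 ze0) (ke xe11 ye52 ze13) (ke xe16 ye38 ze58) (ke xe15 ye17 ze44) (ke xe16 ye39 ze8) (ke xe4 ye28 ze1) (ke xe10 ye29 ze41) (ke xe16 ye39 ze14) (ke xe4 ye28 ze4) (ke xe10 ye35 ze41) (ke xe16 ye39 ze19) (ke xe5 ye13 ze3) (ke xe15 ye19 ze56) (ke xe16 ye39 ze23) (ke xe4 ye28 ze6) (ke xe11 ye53 ze17) (ke xe16 ye39 ze30) (ke xe10 ye37 ze17) (ke xe16 ye39 ze34) (ke xe4 ye30 ze22) (ke xe4 ye28 ze8) (ke xe16 ye39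 ze40) (ke xe16 ye39 ze42) (ke xe4 ye28 ze9) (ke xe11 ye53 ze36) (ke xe16 ye39 ze50) (ke xe16 ye39 ze44) (ke xe16 ye36 ze30) (ke xe11 ye53 ze41) (ke xe5 ye24 ze24) (ke xe16 ye39 ze60) (ke xe5 ye16 ze53) (ke xe4 ye28 ze12) (ke xe5 ye13 ze4) (ke xe11 ye53 ze29) (ke xe16 ye40 ze4) (ke xe16 ye40 ze6) (ke xe16 ye40 ze9) (ke xe4 ye28 ze15) (ke xe4 ye28 ze16) (ke xe16 ye40 ze20) (ke xe11 ye53 ze18) (ke xe16 ye40 ze16) (ke xe15 ye19 ze18) (ke xe16 ye40 ze28) (ke xe4 ye28 ze18) (ke xe11 ye53 ze22) (ke xe10 ye42 ze47) (ke xe16 ye40 ze32) (ke xe11 ye53 ze43) (ke xe16 ye36 ze35) (ke xe16 ye40 ze40) (ke xe4 ye28 ze22) (ke xe4 ye28 ze23) (ke xe16 ye40 ze47) (ke xe16 ye36 ze43) (ke xe11 ye53 ze50) (ke xe16 ye40 ze52) (ke xe16 ye40 ze54) (ke xe9 ye12 ze9) (ke xe16 ye40 ze59)) (@D3.rec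 (fun _ => Pt) (ke xe4 ye28 ze26) (ke xe4 ye28 ze27) (ke xe4 ye28 ze28) (ke xe16 ye41 ze4) (ke xe16 ye36 ze36) (ke xe16 ye41 ze9) (ke xe16 ye41 ze12) (ke xe16 ye41 ze11) (ke xe16 ye41 ze21) (ke xe16 ye41 ze14) (ke xe4 ye28 ze30) (ke xe16 ye41 ze27) (ke xe16 ye41 ze31) (ke xe16 ye41 ze33) (ke xe16 ye41 ze35) (ke xe4 ye28 ze31) (ke xe16 ye41 ze42) (ke xe16 ye41 ze44) (ke xe16 ye41 ze47) (ke xe16 ye41 ze52) (ke xe4 ye28 ze33) (ke xe16 ye41 ze57) (ke xe4 ye28 ze34) (ke xe10 ye47 ze51) (ke xe4 ye28 ze35) (ke xe16 ye42 ze7) (ke xe4 ye28 ze36) (ke xe16 ye42 ze14) (ke xe4 ye28 ze37) (ke xe16 ye42 ze20) (ke xe16 ye42 ze24) (ke xe16 ye42 ze25) (ke xe4 ye28 ze39) (ke xe16 ye42 ze30) (ke xe16 ye42 ze32) (ke xe16 ye42 ze27) (ke xe16 ye42 ze37) (ke xe16 ye42 ze40) (ke xe10 ye3 ze29)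 (ke xe4 ye28 ze41) (ke xe16 ye5 ze49) (ke xe8 ye53 ze24) (ke xe16 ye42 ze49) (ke xe8 ye18 ze45) (ke xe4 ye28 ze43) (ke xe10 ye50 ze1) (ke xe5 ye26 ze12) (ke xe16 ye42 ze58) (ke xe9 ye20 ze57) (ke xe4 ye28 ze45) (ke xe16 ye43 ze1) (ke xe4 ye28 ze47) (ke xe16 ye43 ze5) (ke xe4 ye28 ze48) (ke xe16 ye43 ze8) (ke xe16 ye43 ze10) (ke xe9 ye48 ze42) (ke xe16 ye43 ze15) (ke xe10 ye26 ze10) (ke xe8 ye48 ze46) (ke xe4 ye28 ze50) (ke xe11 ye54 ze39)) (@D3.rec (fun _ => Pt) (ke xe16 ye43 ze19) (ke xe16 ye43 ze16) (ke xe5 ye30 ze9) (ke xe11 ye54 ze43) (ke xe16 ye43 ze27) (ke xe4 ye28 ze53) (ke xe5 ye55 ze59) (ke xe16 ye43 ze31) (ke xe16 ye43 ze32) (ke xe4 ye28 ze55) (ke xe5 ye52 ze28) (ke xe16 ye43 ze37) (ke xe16 ye43 ze42) (ke xe4 ye28 ze57) (ke xe16 ye43 ze49) (ke xe16 ye43 ze51)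 (ke xe4 ye28 ze58) (ke xe5 ye49 ze3) (ke xe16 ye43 ze54) (ke xe16 ye43 ze57) (ke xe5 ye49 ze6) (ke xe11 ye54 ze54) (ke xe4 ye29 ze1) (ke xe16 ye44 ze4) (ke xe16 ye44 ze5) (ke xe4 ye29 ze2) (ke xe16 ye44 ze11) (ke xe16 ye44 ze12) (ke xe4 ye29 ze5) (ke xe16 ye44 ze18) (ke xe4 ye29 ze7) (ke xe16 ye44 ze23) (ke xe4 ye29 ze8) (ke xe16 ye44 ze28) (ke xe16 ye44 ze30) (ke xe16 ye44 ze32) (ke xe16 ye44 ze36) (ke xe4 ye29 ze9) (ke xe4 ye29 ze10) (ke xe16 ye44 ze40) (ke xe5 ye25 ze54) (ke xe16 ye44 ze43) (ke xe4 ye29 ze12) (ke xe16 ye44 ze45) (ke xe16 ye44 ze50) (ke xe4 ye29 ze15) (ke xe16 ye44 ze55) (ke xe16 ye44 ze58) (ke xe4 ye29 ze16) (ke xe16 ye45 ze1) (ke xe4 ye29 ze17) (ke xe16 ye45 ze4) (ke xe16 ye45 ze7) (ke xe5 ye34 ze28) (ke xe4 ye29 ze18) (ke xe11 ye14 ze21) (ke xe5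 ye26 ze1) (ke xe11 ye4 ze53) (ke xe16 ye45 ze22) (ke xe9 ye5 ze21) (ke xe4 ye29 ze22) (ke xe16 ye45 ze25)) (@D3.rec (fun _ => Pt) (ke xe4 ye29 ze24) (ke xe5 ye17 ze25) (ke xe16 ye45 ze32) (ke xe9 ye31 ze0) (ke xe16 ye45 ze34) (ke xe7 ye10 ze56) (ke xe4 ye29 ze26) (ke xe4 ye29 ze27) (ke xe15 ye32 ze33) (ke xe16 ye45 ze46) (ke xe16 ye45 ze40) (ke xe5 ye32 ze28) (ke xe15 ye32 ze37) (ke xe5 ye31 ze20) (ke xe16 ye45 ze55) (ke xe12 ye52 ze48) (ke xe5 ye16 ze16) (ke xe4 ye29 ze30) (ke xe5 ye12 ze15) (ke xe16 ye45 ze59) (ke xe16 ye46 ze1) (ke xe4 ye29 ze33) (ke xe6 ye51 ze14) (ke xe11 ye55 ze39) (ke xe16 ye46 ze5) (ke xe4 ye29 ze35) (ke xe16 ye46 ze12) (ke xe4 ye29 ze36) (ke xe5 ye53 ze0) (ke xe6 ye26 ze29) (ke xe9 ye1 ze52) (ke xe5 ye32 ze47) (ke xe16 ye46 ze22) (ke xe4 ye29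 ze40) (ke xe5 ye37 ze48) (ke xe11 ye12 ze10) (ke xe5 ye31 ze52) (ke xe5 ye52 ze50) (ke xe11 ye56 ze8) (ke xe5 ye32 ze0) (ke xe5 ye32 ze2) (ke xe16 ye46 ze25) (ke xe4 ye29 ze45) (ke xe5 ye4 ze44) (ke xe5 ye2 ze31) (ke xe16 ye0 ze5) (ke xe5 ye26 ze27) (ke xe5 ye31 ze3) (ke xe9 ye31 ze42) (ke xe16 ye46 ze31) (ke xe16 ye46 ze33) (ke xe16 ye46 ze35) (ke xe4 ye29 ze50) (ke xe4 ye29 ze51) (ke xe12 ye33 ze49) (ke xe15 ye55 ze20) (ke xe15 ye40 ze36) (ke xe5 ye31 ze17) (ke xe16 ye46 ze52) (ke xe4 ye29 ze53) (ke xe15 ye55 ze24) (ke xe11 ye56 ze3)) (@D3.rec (fun _ => Pt) (ke xe11 ye56 ze4) (ke xe16 ye46 ze57) (ke xe16 ye46 ze59) (ke xe4 ye29 ze57) (ke xe11 ye27 ze23) (ke xe4 ye29 ze58) (ke xe11 ye27 ze24) (ke xe16 ye47 ze6) (ke xe16 ye47 ze9) (ke xe11 ye55 ze46) (ke xe16 ye47 ze10)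 (ke xe4 ye30 ze0) (ke xe11 ye55 ze50) (ke xe11 ye32 ze54) (ke xe16 ye47 ze12) (ke xe16 ye47 ze14) (ke xe12 ye32 ze29) (ke xe4 ye30 ze4) (ke xe11 ye56 ze10) (ke xe11 ye56 ze11) (ke xe16 ye47 ze19) (ke xe16 ye47 ze21) (ke xe4 ye30 ze6) (ke xe16 ye47 ze25) (ke xe4 ye30 ze7) (ke xe16 ye47 ze30) (ke xe5 ye43 ze2) (ke xe5 ye33 ze44) (ke xe5 ye33 ze23) (ke xe6 ye3 ze2) (ke xe4 ye38 ze41) (ke xe5 ye42 ze5) (ke xe11 ye27 ze60) (ke xe5 ye33 ze18) (ke xe4 ye39 ze4) (ke xe9 ye31 ze41) (ke xe11 ye56 ze19) (ke xe16 ye47 ze43) (ke xe16 ye47 ze46) (ke xe16 ye47 ze48) (ke xe4 ye30 ze13) (ke xe14 ye50 ze18) (ke xe6 ye44 ze42) (ke xe4 ye30 ze14) (ke xe11 ye56 ze21) (ke xe16 ye47 ze54) (ke xe15 ye50 ze15) (ke xe4 ye30 ze15) (ke xe16 ye47 ze59) (ke xe4 ye30 ze16) (ke xe16 ye5 ze36) (ke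 xe11 ye22 ze53) (ke xe4 ye30 ze19) (ke xe11 ye47 ze50) (ke xe16 ye39 ze33) (ke xe16 ye48 ze3) (ke xe4 ye30 ze20) (ke xe8 ye35 ze31) (ke xe10 ye48 ze9) (ke xe16 ye48 ze6) (ke xe11 ye56 ze27) (ke xe16 ye39 ze21)) (@D3.rec (fun _ => Pt) (ke xe11 ye38 ze60) (ke xe16 ye48 ze12) (ke xe12 ye56 ze48) (ke xe4 ye30 ze23) (ke xe11 ye39 ze0) (ke xe9 ye4 ze23) (ke xe5 ye42 ze57) (ke xe11 ye36 ze61) (ke xe9 ye30 ze33) (ke xe16 ye48 ze20) (ke xe16 ye48 ze23) (ke xe16 ye48 ze26) (ke xe4 ye30 ze26) (ke xe16 ye48 ze29) (ke xe14 ye41 ze52) (ke xe4 ye30 ze27) (ke xe16 ye48 ze34) (ke xe4 ye30 ze28) (ke xe11 ye39 ze24) (ke xe16 ye48 ze39) (ke xe4 ye30 ze30) (ke xe9 ye5 ze46) (ke xe5 ye34 ze39) (ke xe16 ye48 ze44) (ke xe4 ye30 ze32) (ke xe16 ye48 ze47) (ke xe16 ye48 ze48) (ke xe12 ye13 ze39)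 (ke xe4 ye30 ze33) (ke xe5 ye45 ze42) (ke xe11 ye51 ze2) (ke xe16 ye39 ze5) (ke xe5 ye45 ze41) (ke xe5 ye43 ze55) (ke xe5 ye45 ze35) (ke xe4 ye31 ze35) (ke xe16 ye48 ze61) (ke xe4 ye30 ze39) (ke xe16 ye49 ze1) (ke xe4 ye30 ze40) (ke xe16 ye49 ze3) (ke xe4 ye30 ze42) (ke xe16 ye49 ze5) (ke xe4 ye30 ze43) (ke xe11 ye21 ze9) (ke xe10 ye2 ze49) (ke xe5 ye45 ze48) (ke xe16 ye49 ze9) (ke xe10 ye3 ze49) (ke xe4 ye30 ze45) (ke xe12 ye4 ze18) (ke xe4 ye30 ze46) (ke xe9 ye0 ze25) (ke xe9 ye24 ze12) (ke xe8 ye18 ze26) (ke xe16 ye5 ze59) (ke xe5 ye36 ze22) (ke xe4 ye30 ze53) (ke xe16 ye49 ze18) (ke xe16 ye49 ze22) (ke xe4 ye30 ze55) (ke xe16 ye49 ze28))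
def f_e_9 : D2 → D3 → Pt := @D2.rec (fun _ => D3 → Pt) (@D3.rec (fun _ => Pt) (ke xe16 ye49 ze29) (ke xe4 ye30 ze56) (ke xe11 ye57 ze8) (ke xe4 ye55 ze15) (ke xe16 ye49 ze34) (ke xe12 ye18 ze27) (ke xe4 ye30 ze60) (ke xe4 ye31 ze2) (ke xe16 ye49 ze35) (ke xe4 ye31 ze3) (ke xe16 ye49 ze36) (ke xe16 ye49 ze38) (ke xe4 ye31 ze6) (ke xe16 ye49 ze39) (ke xe16 ye49 ze41) (ke xe4 ye31 ze7) (ke xe9 ye20 ze4) (ke xe16 ye49 ze44) (ke xe4 ye31 ze8) (ke xe5 ye40 ze48) (ke xe16 ye49 ze47) (ke xe5 ye40 ze13) (ke xe5 ye28 ze38) (ke xe4 ye31 ze10) (ke xe16 ye49 ze49) (ke xe8 ye59 ze52) (ke xe4 ye31 ze11) (ke xe11 ye51 ze53) (ke xe7 ye59 ze6) (ke xe16 ye49 ze54) (ke xe16 ye12 ze17) (ke xe4 ye31 ze16) (ke xe16 ye49 ze60) (ke xe16 ye49 ze61) (ke xe4 ye31 ze18) (ke xe4 ye31 ze20) (ke xe16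 ye50 ze8) (ke xe16 ye50 ze9) (ke xe4 ye31 ze21) (ke xe10 ye8 ze10) (ke xe5 ye35 ze37) (ke xe16 ye50 ze20) (ke xe16 ye50 ze21) (ke xe4 ye31 ze23) (ke xe16 ye50 ze27) (ke xe16 ye50 ze28) (ke xe4 ye31 ze24) (ke xe16 ye50 ze32) (ke xe16 ye50 ze34) (ke xe16 ye5 ze41) (ke xe16 ye6 ze38) (ke xe4 ye31 ze25) (ke xe16 ye50 ze40) (ke xe4 ye31 ze26) (ke xe16 ye50 ze44) (ke xe16 ye6 ze37) (ke xe5 ye35 ze56) (ke xe16 ye50 ze49) (ke xe4 ye31 ze28) (ke xe8 ye9 ze59) (ke xe5 ye4 ze59) (ke xe16 ye50 ze53)) (@D3.rec (fun _ => Pt) (ke xe16 ye50 ze58) (ke xe4 ye31 ze31) (ke xe5 ye46 ze16) (ke xe16 ye51 ze0) (ke xe4 ye31 ze32) (ke xe4 ye31 ze33) (ke xe16 ye51 ze8) (ke xe4 ye49 ze24) (ke xe5 ye28 ze26) (ke xe4 ye36 ze35) (ke xe6 ye45 ze37) (ke xe10 ye49 ze4) (ke xe4 ye39 ze13) (ke xe4 ye55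 ze1) (ke xe15 ye24 ze44) (ke xe16 ye51 ze15) (ke xe4 ye31 ze37) (ke xe8 ye13 ze19) (ke xe8 ye14 ze48) (ke xe4 ye34 ze24) (ke xe11 ye57 ze34) (ke xe16 ye51 ze18) (ke xe16 ye51 ze19) (ke xe16 ye51 ze22) (ke xe4 ye31 ze44) (ke xe16 ye51 ze23) (ke xe16 ye51 ze26) (ke xe4 ye31 ze45) (ke xe4 ye31 ze46) (ke xe4 ye31 ze49) (ke xe16 ye51 ze28) (ke xe11 ye4 ze60) (ke xe5 ye41 ze6) (ke xe4 ye34 ze13) (ke xe16 ye51 ze31) (ke xe6 ye42 ze17) (ke xe11 ye59 ze26) (ke xe4 ye31 ze52) (ke xe4 ye31 ze54) (ke xe4 ye31 ze55) (ke xe15 ye30 ze21) (ke xe16 ye51 ze35) (ke xe4 ye31 ze59) (ke xe8 ye49 ze48) (ke xe16 ye51 ze40) (ke xe13 ye59 ze34) (ke xe4 ye31 ze61) (ke xe15 ye3 ze34) (ke xe15 ye5 ze39) (ke xe4 ye32 ze2) (ke xe5 ye40 ze35) (ke xe4 ye58 ze24) (ke xe8 ye57 ze30) (ke xe15 ye5 ze28)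 (ke xe4 ye56 ze25) (ke xe11 ye31 ze5) (ke xe11 ye22 ze17) (ke xe16 ye51 ze54) (ke xe16 ye51 ze58) (ke xe4 ye32 ze9) (ke xe10 ye30 ze23) (ke xe16 ye52 ze0)) (@D3.rec (fun _ => Pt) (ke xe4 ye32 ze11) (ke xe16 ye52 ze3) (ke xe4 ye32 ze12) (ke xe16 ye52 ze9) (ke xe4 ye32 ze13) (ke xe15 ye50 ze49) (ke xe16 ye52 ze14) (ke xe16 ye52 ze18) (ke xe4 ye32 ze14) (ke xe11 ye27 ze52) (ke xe16 ye52 ze26) (ke xe4 ye32 ze16) (ke xe5 ye42 ze60) (ke xe14 ye53 ze4) (ke xe4 ye41 ze35) (ke xe16 ye52 ze32) (ke xe16 ye52 ze35) (ke xe11 ye59 ze14) (ke xe4 ye32 ze18) (ke xe12 ye30 ze21) (ke xe10 ye48 ze15) (ke xe11 ye24 ze3) (ke xe12 ye52 ze51) (ke xe16 ye52 ze39) (ke xe16 ye52 ze41) (ke xe4 ye32 ze23) (ke xe16 ye52 ze42) (ke xe16 ye52 ze43) (ke xe16 ye52 ze45) (ke xe4 ye32 ze26) (ke xe16 ye52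 ze47) (ke xe7 ye7 ze55) (ke xe16 ye52 ze53) (ke xe4 ye32 ze29) (ke xe16 ye52 ze58) (ke xe11 ye13 ze23) (ke xe16 ye52 ze60) (ke xe16 ye53 ze3) (ke xe4 ye32 ze33) (ke xe9 ye19 ze32) (ke xe4 ye32 ze35) (ke xe16 ye53 ze11) (ke xe4 ye32 ze36) (ke xe16 ye53 ze13) (ke xe11 ye13 ze36) (ke xe4 ye32 ze37) (ke xe5 ye34 ze5) (ke xe6 ye2 ze54) (ke xe4 ye32 ze41) (ke xe5 ye41 ze59) (ke xe8 ye14 ze45) (ke xe16 ye53 ze26) (ke xe5 ye33 ze12) (ke xe6 ye1 ze10) (ke xe16 ye49 ze0) (ke xe4 ye32 ze47) (ke xe11 ye28 ze11) (ke xe16 ye53 ze34) (ke xe16 ye53 ze37) (ke xe4 ye32 ze48) (ke xe16 ye53 ze41) (ke xe16 ye53 ze43)) (@D3.rec (fun _ => Pt) (ke xe16 ye53 ze46) (ke xe4 ye32 ze51) (ke xe16 ye39 ze57) (ke xe10 ye27 ze47) (ke xe10 ye3 ze13) (ke xe10 ye2 ze1) (ke xe5 ye8 ze43) (ke xe7 ye13 ze47)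 (ke xe16 ye53 ze51) (ke xe16 ye53 ze53) (ke xe16 ye53 ze58) (ke xe5 ye25 ze10) (ke xe4 ye32 ze58) (ke xe16 ye54 ze0) (ke xe6 ye16 ze53) (ke xe16 ye53 ze29) (ke xe4 ye32 ze60) (ke xe16 ye54 ze3) (ke xe4 ye33 ze0) (ke xe16 ye54 ze8) (ke xe4 ye33 ze2) (ke xe16 ye54 ze13) (ke xe4 ye33 ze5) (ke xe16 ye52 ze28) (ke xe16 ye54 ze18) (ke xe16 ye54 ze15) (ke xe16 ye54 ze23) (ke xe4 ye33 ze6) (ke xe14 ye7 ze60) (ke xe9 ye22 ze32) (ke xe4 ye33 ze7) (ke xe16 ye54 ze29) (ke xe16 ye54 ze32) (ke xe16 ye54 ze36) (ke xe4 ye33 ze8) (ke xe9 ye17 ze22) (ke xe16 ye54 ze45) (ke xe16 ye53 ze40) (ke xe7 ye59 ze29) (ke xe4 ye33 ze10) (ke xe16 ye54 ze48) (ke xe16 ye54 ze50) (ke xe11 ye15 ze7) (ke xe15 ye44 ze3) (ke xe4 ye33 ze11) (ke xe16 ye52 ze25) (ke xe16 ye55 ze0) (ke xe12 ye23 ze41) (ke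 xe5 ye59 ze52) (ke xe16 ye55 ze4) (ke xe4 ye33 ze13) (ke xe12 ye3 ze49) (ke xe10 ye58 ze22) (ke xe16 ye55 ze9) (ke xe16 ye55 ze10) (ke xe10 ye35 ze57) (ke xe4 ye33 ze15) (ke xe7 ye25 ze53) (ke xe7 ye24 ze59) (ke xe7 ye45 ze8) (ke xe4 ye33 ze16) (ke xe16 ye45 ze0)) (@D3.rec (fun _ => Pt) (ke xe5 ye49 ze15) (ke xe16 ye55 ze18) (ke xe16 ye55 ze21) (ke xe4 ye33 ze17) (ke xe16 ye55 ze26) (ke xe4 ye33 ze18) (ke xe16 ye55 ze28) (ke xe13 ye16 ze55) (ke xe10 ye36 ze53) (ke xe16 ye55 ze34) (ke xe4 ye33 ze20) (ke xe11 ye34 ze57) (ke xe16 ye55 ze44) (ke xe11 ye49 ze17) (ke xe4 ye33 ze21) (ke xe11 ye22 ze37) (ke xe13 ye24 ze17) (ke xe6 ye11 ze50) (ke xe4 ye33 ze22) (ke xe4 ye33 ze23) (ke xe16 ye55 ze52) (ke xe16 ye55 ze54) (ke xe4 ye33 ze25) (ke xe8 ye59 ze5) (ke xe16 ye55 ze56)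 (ke xe16 ye56 ze1) (ke xe4 ye33 ze26) (ke xe16 ye56 ze6) (ke xe16 ye56 ze8) (ke xe16 ye56 ze10) (ke xe4 ye33 ze27) (ke xe16 ye52 ze34) (ke xe16 ye56 ze16) (ke xe5 ye45 ze31) (ke xe16 ye56 ze19) (ke xe8 ye21 ze48) (ke xe4 ye33 ze29) (ke xe9 ye9 ze16) (ke xe4 ye33 ze30) (ke xe6 ye13 ze14) (ke xe4 ye33 ze32) (ke xe16 ye56 ze22) (ke xe16 ye56 ze24) (ke xe8 ye0 ze12) (ke xe11 ye57 ze44) (ke xe16 ye56 ze27) (ke xe4 ye33 ze35) (ke xe16 ye56 ze30) (ke xe16 ye56 ze35) (ke xe4 ye33 ze36) (ke xe9 ye22 ze6) (ke xe4 ye33 ze38) (ke xe16 ye56 ze42) (ke xe11 ye48 ze5) (ke xe5 ye34 ze36) (ke xe5 ye34 ze33) (ke xe16 ye56 ze51) (ke xe11 ye36 ze2) (ke xe4 ye33 ze40) (ke xe5 ye34 ze59) (ke xe10 ye44 ze60) (ke xe12 ye3 ze32)) (@D3.rec (fun _ => Pt) (ke xe12 ye3 ze38) (ke xe11 ye49 ze26)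 (ke xe16 ye57 ze1) (ke xe10 ye19 ze1) (ke xe4 ye33 ze45) (ke xe16 ye49 ze2) (ke xe5 ye46 ze9) (ke xe16 ye52 ze48) (ke xe16 ye57 ze4) (ke xe16 ye57 ze6) (ke xe4 ye40 ze55) (ke xe4 ye33 ze48) (ke xe5 ye48 ze50) (ke xe16 ye56 ze20) (ke xe4 ye40 ze56) (ke xe16 ye57 ze14) (ke xe16 ye57 ze16) (ke xe4 ye33 ze53) (ke xe16 ye57 ze19) (ke xe10 ye58 ze44) (ke xe4 ye33 ze54) (ke xe8 ye56 ze59) (ke xe16 ye57 ze24) (ke xe16 ye57 ze25) (ke xe4 ye33 ze56) (ke xe6 ye50 ze34) (ke xe6 ye46 ze33) (ke xe4 ye34 ze39) (ke xe4 ye33 ze59) (ke xe6 ye50 ze14) (ke xe10 ye5 ze19) (ke xe5 ye40 ze46) (ke xe5 ye50 ze19) (ke xe11 ye33 ze21) (ke xe12 ye56 ze52) (ke xe10 ye17 ze51) (ke xe10 ye55 ze24) (ke xe4 ye56 ze19) (ke xe4 ye34 ze5) (ke xe4 ye34 ze7) (ke xe10 ye55 ze15) (ke xe16 ye57 ze32) (ke xe4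 ye34 ze8) (ke xe10 ye55 ze27) (ke xe11 ye50 ze0) (ke xe5 ye0 ze11) (ke xe8 ye59 ze21) (ke xe4 ye34 ze21) (ke xe16 ye57 ze37) (ke xe16 ye57 ze39) (ke xe4 ye34 ze25) (ke xe6 ye47 ze25) (ke xe5 ye48 ze11) (ke xe4 ye34 ze27) (ke xe4 ye34 ze29) (ke xe4 ye34 ze31) (ke xe16 ye57 ze43) (ke xe16 ye57 ze44) (ke xe13 ye7 ze60) (ke xe5 ye48 ze25) (ke xe16 ye57 ze48) (ke xe8 ye14 ze36)) (@D3.rec (fun _ => Pt) (ke xe4 ye34 ze33) (ke xe16 ye57 ze51) (ke xe4 ye34 ze34) (ke xe16 ye57 ze52) (ke xe4 ye34 ze36) (ke xe9 ye13 ze30) (ke xe11 ye8 ze34) (ke xe5 ye51 ze39) (ke xe4 ye34 ze40) (ke xe16 ye57 ze26) (ke xe16 ye57 ze55) (ke xe5 ye50 ze47) (ke xe5 ye52 ze5) (ke xe11 ye54 ze4) (ke xe15 ye28 ze51) (ke xe16 ye57 ze59) (ke xe4 ye34 ze49) (ke xe11 ye26 ze43) (ke xe16 ye58 ze2) (ke xe4 ye34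 ze51) (ke xe5 ye51 ze6) (ke xe16 ye58 ze4) (ke xe4 ye34 ze52) (ke xe16 ye58 ze14) (ke xe16 ye58 ze16) (ke xe13 ye5 ze24) (ke xe4 ye40 ze26) (ke xe16 ye58 ze21) (ke xe16 ye58 ze23) (ke xe5 ye31 ze27) (ke xe4 ye34 ze54) (ke xe16 ye58 ze26) (ke xe16 ye58 ze29) (ke xe16 ye46 ze20) (ke xe4 ye34 ze55) (ke xe16 ye58 ze34) (ke xe6 ye47 ze20) (ke xe4 ye35 ze0) (ke xe16 ye58 ze41) (ke xe16 ye58 ze43) (ke xe16 ye58 ze46) (ke xe4 ye34 ze59) (ke xe16 ye58 ze47) (ke xe16 ye58 ze50) (ke xe4 ye34 ze60) (ke xe10 ye48 ze41) (ke xe10 ye48 ze42) (ke xe16 ye58 ze55) (ke xe10 ye48 ze47) (ke xe16 ye58 ze60) (ke xe16 ye59 ze0) (ke xe4 ye35 ze1) (ke xe6 ye47 ze38) (ke xe4 ye35 ze3) (ke xe16 ye59 ze6) (ke xe5 ye26 ze51) (ke xe12 ye49 ze21) (ke xe16 ye46 ze6) (ke xe5 ye26 ze43) (ke xe5 ye31 ze44)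 (ke xe16 ye59 ze9) (ke xe4 ye35 ze7)) (@D3.rec (fun _ => Pt) (ke xe10 ye52 ze36) (ke xe10 ye51 ze27) (ke xe16 ye59 ze13) (ke xe16 ye59 ze15) (ke xe6 ye6 ze39) (ke xe5 ye44 ze20) (ke xe16 ye59 ze21) (ke xe4 ye35 ze13) (ke xe4 ye35 ze15) (ke xe12 ye45 ze13) (ke xe4 ye35 ze16) (ke xe4 ye35 ze18) (ke xe12 ye40 ze45) (ke xe4 ye58 ze39) (ke xe4 ye35 ze19) (ke xe4 ye35 ze21) (ke xe9 ye11 ze37) (ke xe6 ye6 ze51) (ke xe4 ye35 ze24) (ke xe5 ye55 ze57) (ke xe15 ye49 ze52) (ke xe16 ye52 ze11) (ke xe16 ye59 ze28) (ke xe16 ye59 ze35) (ke xe4 ye35 ze26) (ke xe16 ye59 ze39) (ke xe4 ye35 ze27) (ke xe16 ye59 ze41) (ke xe16 ye59 ze42) (ke xe10 ye27 ze38) (ke xe11 ye49 ze28) (ke xe16 ye59 ze43) (ke xe4 ye35 ze30) (ke xe11 ye21 ze33) (ke xe11 ye21 ze49) (ke xe4 ye35 ze39) (ke xe16 ye59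 ze46) (ke xe16 ye59 ze48) (ke xe4 ye35 ze34) (ke xe16 ye3 ze29) (ke xe5 ye10 ze40) (ke xe4 ye35 ze36) (ke xe16 ye59 ze54) (ke xe4 ye35 ze37) (ke xe10 ye27 ze44) (ke xe4 ye35 ze38) (ke xe16 ye59 ze61) (ke xe17 ye0 ze2) (ke xe5 ye56 ze45) (ke xe17 ye0 ze7) (ke xe17 ye0 ze9) (ke xe4 ye35 ze40) (ke xe4 ye37 ze35) (ke xe17 ye0 ze13) (ke xe4 ye35 ze42) (ke xe4 ye35 ze45) (ke xe17 ye0 ze16) (ke xe17 ye0 ze17) (ke xe5 ye55 ze52) (ke xe17 ye0 ze18) (ke xe17 ye0 ze19) (ke xe4 ye35 ze48)) (@D3.rec (fun _ => Pt) (ke xe9 ye50 ze26) (ke xe15 ye5 ze15) (ke xe4 ye35 ze49) (ke xe4 ye35 ze54) (ke xe17 ye0 ze27) (ke xe6 ye46 ze51) (ke xe4 ye35 ze56) (ke xe17 ye0 ze33) (ke xe10 ye58 ze19) (ke xe10 ye45 ze30) (ke xe17 ye0 ze37) (ke xe4 ye35 ze60) (ke xe17 ye0 ze40) (ke xe5 ye53 ze55) (ke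 xe17 ye0 ze45) (ke xe4 ye36 ze0) (ke xe11 ye49 ze44) (ke xe4 ye36 ze3) (ke xe5 ye41 ze60) (ke xe10 ye45 ze29) (ke xe15 ye45 ze30) (ke xe17 ye0 ze47) (ke xe17 ye0 ze55) (ke xe13 ye16 ze33) (ke xe4 ye36 ze5) (ke xe17 ye0 ze56) (ke xe4 ye36 ze7) (ke xe4 ye36 ze8) (ke xe13 ye47 ze11) (ke xe17 ye1 ze5) (ke xe4 ye36 ze12) (ke xe5 ye54 ze19) (ke xe16 ye31 ze61) (ke xe17 ye1 ze12) (ke xe17 ye1 ze15) (ke xe13 ye41 ze25) (ke xe17 ye1 ze8) (ke xe17 ye1 ze22) (ke xe17 ye1 ze23) (ke xe4 ye36 ze14) (ke xe4 ye36 ze15) (ke xe17 ye1 ze24) (ke xe4 ye36 ze16) (ke xe17 ye1 ze25) (ke xe17 ye1 ze27) (ke xe17 ye1 ze29) (ke xe4 ye36 ze18) (ke xe17 ye1 ze32) (ke xe4 ye36 ze19) (ke xe17 ye1 ze34) (ke xe10 ye17 ze8) (ke xe4 ye36 ze27) (ke xe17 ye1 ze41) (ke xe17 ye1 ze43) (ke xe10 ye45 ze24)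 (ke xe17 ye1 ze47) (ke xe17 ye1 ze50) (ke xe4 ye36 ze24) (ke xe17 ye1 ze51) (ke xe17 ye1 ze54) (ke xe4 ye36 ze25) (ke xe15 ye44 ze25)) (@D3.rec (fun _ => Pt) (ke xe17 ye1 ze60) (ke xe15 ye44 ze8) (ke xe17 ye2 ze4) (ke xe17 ye2 ze6) (ke xe4 ye36 ze28) (ke xe4 ye37 ze16) (ke xe12 ye53 ze52) (ke xe17 ye2 ze12) (ke xe4 ye36 ze29) (ke xe4 ye49 ze31) (ke xe13 ye11 ze10) (ke xe4 ye36 ze31) (ke xe11 ye57 ze27) (ke xe4 ye36 ze34) (ke xe16 ye51 ze4) (ke xe16 ye5 ze47) (ke xe9 ye4 ze37) (ke xe5 ye28 ze32) (ke xe6 ye6 ze44) (ke xe4 ye36 ze38) (ke xe17 ye2 ze21) (ke xe17 ye2 ze22) (ke xe4 ye36 ze39) (ke xe4 ye36 ze41) (ke xe4 ye36 ze42) (ke xe14 ye45 ze33) (ke xe17 ye2 ze24) (ke xe4 ye36 ze44) (ke xe14 ye45 ze31) (ke xe4 ye36 ze46) (ke xe17 ye1 ze30) (ke xe4 ye36 ze49) (ke xe17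 ye2 ze27) (ke xe4 ye36 ze51) (ke xe17 ye2 ze30) (ke xe5 ye40 ze33) (ke xe4 ye36 ze53) (ke xe17 ye2 ze35) (ke xe6 ye40 ze27) (ke xe5 ye44 ze23) (ke xe4 ye36 ze55) (ke xe17 ye2 ze39) (ke xe17 ye2 ze37) (ke xe17 ye2 ze41) (ke xe4 ye36 ze58) (ke xe12 ye58 ze5) (ke xe4 ye36 ze59) (ke xe17 ye2 ze49) (ke xe4 ye37 ze3) (ke xe17 ye2 ze51) (ke xe4 ye37 ze0) (ke xe13 ye38 ze50) (ke xe17 ye2 ze55) (ke xe17 ye2 ze58) (ke xe17 ye2 ze50) (ke xe17 ye2 ze61) (ke xe17 ye2 ze52) (ke xe17 ye3 ze0) (ke xe4 ye37 ze6) (ke xe4 ye39 ze51) (ke xe17 ye2 ze13) (ke xe6 ye11 ze52)) (@D3.rec (fun _ => Pt) (ke xe4 ye37 ze8) (ke xe4 ye37 ze9) (ke xe4 ye37 ze10) (ke xe14 ye14 ze18) (ke xe17 ye3 ze11) (ke xe4 ye37 ze11) (ke xe16 ye7 ze42) (ke xe17 ye3 ze16) (ke xe17 ye3 ze14) (ke xe12 ye58 ze40) (ke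 xe4 ye37 ze13) (ke xe11 ye49 ze20) (ke xe4 ye37 ze22) (ke xe17 ye3 ze21) (ke xe4 ye37 ze18) (ke xe17 ye3 ze23) (ke xe4 ye37 ze19) (ke xe17 ye3 ze28) (ke xe14 ye22 ze60) (ke xe14 ye24 ze0) (ke xe4 ye37 ze21) (ke xe17 ye3 ze19) (ke xe11 ye21 ze46) (ke xe4 ye37 ze23) (ke xe6 ye6 ze53) (ke xe11 ye5 ze32) (ke xe10 ye18 ze32) (ke xe4 ye37 ze25) (ke xe4 ye37 ze26) (ke xe13 ye26 ze54) (ke xe17 ye3 ze39) (ke xe4 ye37 ze29) (ke xe11 ye7 ze33) (ke xe17 ye3 ze45) (ke xe17 ye3 ze47) (ke xe13 ye30 ze1) (ke xe17 ye3 ze42) (ke xe17 ye3 ze50) (ke xe4 ye37 ze30) (ke xe4 ye37 ze31) (ke xe17 ye3 ze55) (ke xe17 ye3 ze58) (ke xe17 ye3 ze51) (ke xe17 ye0 ze11) (ke xe17 ye4 ze0) (ke xe10 ye57 ze55) (ke xe4 ye37 ze33) (ke xe6 ye45 ze18) (ke xe4 ye37 ze38) (ke xe17 ye4 ze5) (ke xe17 ye4 ze6)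 (ke xe4 ye37 ze36) (ke xe5 ye35 ze46) (ke xe16 ye5 ze33) (ke xe16 ye50 ze54) (ke xe17 ye4 ze12) (ke xe4 ye37 ze39) (ke xe4 ye37 ze40) (ke xe4 ye37 ze41) (ke xe17 ye4 ze23) (ke xe9 ye48 ze50) (ke xe17 ye4 ze19)) (@D3.rec (fun _ => Pt) (ke xe6 ye39 ze10) (ke xe10 ye4 ze0) (ke xe17 ye4 ze32) (ke xe6 ye16 ze52) (ke xe4 ye37 ze43) (ke xe12 ye49 ze26) (ke xe17 ye4 ze37) (ke xe11 ye6 ze22) (ke xe4 ye37 ze44) (ke xe4 ye37 ze46) (ke xe6 ye1 ze48) (ke xe10 ye18 ze5) (ke xe6 ye16 ze20) (ke xe6 ye44 ze18) (ke xe17 ye4 ze45) (ke xe4 ye37 ze48) (ke xe4 ye37 ze49) (ke xe17 ye4 ze50) (ke xe9 ye56 ze5) (ke xe12 ye28 ze24) (ke xe6 ye44 ze29) (ke xe9 ye49 ze29) (ke xe11 ye21 ze59) (ke xe12 ye47 ze18) (ke xe11 ye16 ze14) (ke xe16 ye54 ze12) (ke xe9 ye15 ze22) (ke xe16 ye48 ze35) (ke xe4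 ye37 ze55) (ke xe4 ye37 ze56) (ke xe17 ye5 ze9) (ke xe17 ye5 ze11) (ke xe17 ye5 ze6) (ke xe6 ye44 ze39) (ke xe12 ye32 ze51) (ke xe5 ye27 ze20) (ke xe17 ye5 ze17) (ke xe9 ye7 ze16) (ke xe4 ye37 ze59) (ke xe17 ye5 ze20) (ke xe9 ye49 ze16) (ke xe9 ye49 ze1) (ke xe17 ye5 ze22) (ke xe4 ye38 ze0) (ke xe4 ye38 ze1) (ke xe17 ye5 ze27) (ke xe6 ye38 ze61) (ke xe17 ye5 ze34) (ke xe17 ye5 ze35) (ke xe17 ye5 ze36) (ke xe4 ye38 ze3) (ke xe4 ye38 ze4) (ke xe4 ye38 ze5) (ke xe17 ye5 ze41) (ke xe6 ye39 ze5) (ke xe17 ye5 ze44) (ke xe4 ye38 ze7) (ke xe4 ye38 ze9) (ke xe17 ye5 ze53) (ke xe17 ye5 ze54) (ke xe4 ye38 ze13) (ke xe6 ye39 ze21)) (@D3.rec (fun _ => Pt) (ke xe9 ye49 ze37) (ke xe17 ye6 ze0) (ke xe17 ye6 ze4) (ke xe4 ye38 ze11) (ke xe9 ye49 ze11) (ke xe12 ye24 ze4) (ke xe8 ye11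 ze11) (ke xe4 ye38 ze12) (ke xe8 ye39 ze60) (ke xe8 ye54 ze60) (ke xe17 ye5 ze57) (ke xe17 ye6 ze14) (ke xe6 ye44 ze51) (ke xe17 ye6 ze16) (ke xe12 ye49 ze50) (ke xe14 ye20 ze11) (ke xe4 ye38 ze15) (ke xe6 ye44 ze54) (ke xe10 ye23 ze16) (ke xe17 ye6 ze28) (ke xe4 ye38 ze16) (ke xe17 ye6 ze32) (ke xe5 ye43 ze3) (ke xe17 ye6 ze38) (ke xe4 ye38 ze17) (ke xe6 ye45 ze5) (ke xe14 ye11 ze60) (ke xe6 ye25 ze57) (ke xe17 ye6 ze41) (ke xe11 ye24 ze9) (ke xe4 ye38 ze19) (ke xe12 ye16 ze8) (ke xe17 ye6 ze46) (ke xe4 ye38 ze20) (ke xe17 ye6 ze50) (ke xe4 ye38 ze21) (ke xe17 ye4 ze34) (ke xe17 ye6 ze52) (ke xe17 ye6 ze55) (ke xe4 ye38 ze24) (ke xe17 ye7 ze0) (ke xe4 ye38 ze25) (ke xe10 ye55 ze38) (ke xe17 ye7 ze7) (ke xe16 ye37 ze55) (ke xe6 ye45 ze10) (ke xe17 ye7 ze16) (ke xe6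 ye3 ze9) (ke xe4 ye38 ze28) (ke xe6 ye3 ze18) (ke xe6 ye45 ze21) (ke xe4 ye41 ze24) (ke xe6 ye2 ze16) (ke xe17 ye7 ze20) (ke xe4 ye38 ze30) (ke xe4 ye38 ze31) (ke xe17 ye7 ze22) (ke xe4 ye38 ze32) (ke xe6 ye19 ze34) (ke xe17 ye7 ze27) (ke xe17 ye7 ze23) (ke xe6 ye2 ze26)) (@D3.rec (fun _ => Pt) (ke xe17 ye7 ze31) (ke xe14 ye35 ze52) (ke xe17 ye7 ze34) (ke xe4 ye38 ze35) (ke xe16 ye48 ze16) (ke xe4 ye41 ze30) (ke xe6 ye44 ze44) (ke xe6 ye49 ze21) (ke xe11 ye1 ze53) (ke xe5 ye49 ze56) (ke xe6 ye12 ze28) (ke xe4 ye38 ze40) (ke xe16 ye47 ze27) (ke xe4 ye38 ze42) (ke xe17 ye7 ze44) (ke xe11 ye35 ze27) (ke xe4 ye38 ze43) (ke xe6 ye45 ze51) (ke xe6 ye2 ze57) (ke xe6 ye1 ze45) (ke xe6 ye1 ze52) (ke xe4 ye38 ze46) (ke xe4 ye38 ze47) (ke xe6 ye45 ze50) (ke xe4 ye38 ze50) (ke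 xe17 ye7 ze50) (ke xe17 ye7 ze52) (ke xe5 ye27 ze15) (ke xe4 ye38 ze49) (ke xe17 ye6 ze19) (ke xe9 ye6 ze5) (ke xe6 ye50 ze60) (ke xe17 ye7 ze55) (ke xe17 ye4 ze39) (ke xe17 ye7 ze56) (ke xe5 ye45 ze61) (ke xe5 ye57 ze59) (ke xe4 ye38 ze55) (ke xe17 ye7 ze59) (ke xe4 ye38 ze57) (ke xe6 ye49 ze52) (ke xe4 ye38 ze58) (ke xe4 ye42 ze60) (ke xe17 ye8 ze1) (ke xe4 ye38 ze60) (ke xe6 ye45 ze12) (ke xe17 ye8 ze4) (ke xe11 ye27 ze53) (ke xe4 ye39 ze0) (ke xe6 ye45 ze16) (ke xe17 ye8 ze11) (ke xe4 ye39 ze1) (ke xe16 ye48 ze18) (ke xe5 ye42 ze58) (ke xe9 ye25 ze8) (ke xe6 ye2 ze15) (ke xe17 ye8 ze19) (ke xe4 ye41 ze40) (ke xe16 ye47 ze33) (ke xe11 ye5 ze48) (ke xe5 ye33 ze19) (ke xe6 ye7 ze47)) (@D3.rec (fun _ => Pt) (ke xe6 ye45 ze39) (ke xe16 ye53 ze8) (ke xe16 ye52 ze55) (ke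 xe17 ye8 ze24) (ke xe17 ye8 ze25) (ke xe4 ye39 ze10) (ke xe11 ye27 ze46) (ke xe6 ye20 ze32) (ke xe12 ye17 ze52) (ke xe6 ye3 ze40) (ke xe17 ye8 ze31) (ke xe17 ye1 ze55) (ke xe17 ye8 ze32) (ke xe4 ye39 ze17) (ke xe17 ye8 ze35) (ke xe4 ye39 ze18) (ke xe17 ye8 ze36) (ke xe4 ye49 ze18) (ke xe6 ye3 ze35) (ke xe17 ye8 ze39) (ke xe4 ye39 ze20) (ke xe17 ye8 ze41) (ke xe4 ye39 ze21) (ke xe6 ye46 ze5) (ke xe10 ye53 ze9) (ke xe6 ye3 ze54) (ke xe10 ye53 ze54) (ke xe4 ye39 ze23) (ke xe17 ye8 ze47) (ke xe4 ye39 ze24) (ke xe17 ye3 ze34) (ke xe6 ye45 ze59) (ke xe6 ye3 ze47) (ke xe17 ye8 ze53) (ke xe4 ye39 ze26) (ke xe17 ye8 ze59) (ke xe4 ye39 ze27) (ke xe12 ye41 ze34) (ke xe8 ye37 ze24) (ke xe6 ye46 ze10) (ke xe10 ye52 ze57) (ke xe5 ye52 ze34) (ke xe17 ye9 ze3) (ke xe4 ye39 ze32) (ke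 xe10 ye49 ze6) (ke xe4 ye49 ze52) (ke xe6 ye4 ze8) (ke xe15 ye50 ze5) (ke xe4 ye39 ze36) (ke xe17 ye9 ze11) (ke xe17 ye9 ze14) (ke xe11 ye23 ze8) (ke xe17 ye9 ze17) (ke xe17 ye9 ze19) (ke xe4 ye39 ze38) (ke xe7 ye49 ze11) (ke xe7 ye49 ze8) (ke xe4 ye39 ze39) (ke xe4 ye56 ze52) (ke xe8 ye46 ze9) (ke xe17 ye9 ze22) (ke xe11 ye8 ze26)) (@D3.rec (fun _ => Pt) (ke xe6 ye38 ze17) (ke xe4 ye39 ze44) (ke xe17 ye9 ze28) (ke xe17 ye9 ze30) (ke xe17 ye9 ze33) (ke xe4 ye39 ze47) (ke xe11 ye24 ze12) (ke xe17 ye9 ze36) (ke xe17 ye3 ze5) (ke xe13 ye58 ze17) (ke xe4 ye39 ze49) (ke xe17 ye9 ze47) (ke xe12 ye10 ze44) (ke xe16 ye59 ze56) (ke xe11 ye48 ze54) (ke xe4 ye40 ze0) (ke xe6 ye6 ze56) (ke xe17 ye9 ze50) (ke xe4 ye39 ze53) (ke xe4 ye39 ze54) (ke xe11 ye31 ze7) (ke xe10 ye43 ze56)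 (ke xe9 ye11 ze26) (ke xe9 ye48 ze33) (ke xe4 ye39 ze58) (ke xe4 ye39 ze59) (ke xe4 ye39 ze60) (ke xe17 ye9 ze57) (ke xe17 ye9 ze60) (ke xe7 ye31 ze39) (ke xe6 ye11 ze0) (ke xe6 ye8 ze21) (ke xe17 ye9 ze38) (ke xe17 ye10 ze3) (ke xe17 ye10 ze5) (ke xe10 ye4 ze35) (ke xe4 ye40 ze1) (ke xe12 ye14 ze16) (ke xe11 ye28 ze50) (ke xe4 ye40 ze3) (ke xe5 ye45 ze52) (ke xe17 ye10 ze9) (ke xe4 ye40 ze6) (ke xe9 ye32 ze34) (ke xe4 ye40 ze7) (ke xe12 ye28 ze33) (ke xe6 ye20 ze52) (ke xe9 ye28 ze53) (ke xe17 ye10 ze14) (ke xe9 ye24 ze25) (ke xe16 ye1 ze39) (ke xe6 ye32 ze43) (ke xe4 ye40 ze15) (ke xe6 ye20 ze44) (ke xe17 ye10 ze22) (ke xe15 ye16 ze28) (ke xe6 ye9 ze42) (ke xe9 ye24 ze60) (ke xe17 ye10 ze29) (ke xe6 ye33 ze22) (ke xe17 ye10 ze30) (ke xe17 ye10 ze31)) (@D3.rec (fun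 _ => Pt) (ke xe17 ye10 ze32) (ke xe4 ye40 ze17) (ke xe4 ye40 ze18) (ke xe17 ye10 ze40) (ke xe6 ye33 ze12) (ke xe17 ye10 ze36) (ke xe12 ye11 ze15) (ke xe17 ye10 ze45) (ke xe4 ye40 ze20) (ke xe6 ye33 ze16) (ke xe4 ye40 ze23) (ke xe5 ye51 ze3) (ke xe17 ye10 ze47) (ke xe4 ye40 ze25) (ke xe15 ye30 ze30) (ke xe10 ye42 ze38) (ke xe16 ye58 ze1) (ke xe17 ye10 ze49) (ke xe4 ye40 ze27) (ke xe17 ye10 ze50) (ke xe12 ye52 ze20) (ke xe17 ye10 ze58) (ke xe17 ye10 ze59) (ke xe7 ye41 ze8) (ke xe17 ye11 ze0) (ke xe4 ye40 ze31) (ke xe17 ye11 ze3) (ke xe17 ye11 ze4) (ke xe4 ye40 ze32) (ke xe4 ye40 ze33) (ke xe17 ye11 ze7) (ke xe17 ye11 ze11) (ke xe4 ye40 ze35) (ke xe4 ye40 ze36) (ke xe17 ye11 ze17) (ke xe4 ye40 ze37) (ke xe17 ye11 ze22) (ke xe7 ye42 ze48) (ke xe17 ye11 ze20) (ke xe6 ye8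 ze42) (ke xe17 ye11 ze27) (ke xe4 ye40 ze39) (ke xe17 ye11 ze33) (ke xe17 ye11 ze37) (ke xe4 ye40 ze43) (ke xe12 ye11 ze22) (ke xe17 ye11 ze44) (ke xe17 ye11 ze46) (ke xe4 ye40 ze41) (ke xe7 ye41 ze12) (ke xe16 ye46 ze51) (ke xe4 ye40 ze42) (ke xe17 ye11 ze56) (ke xe17 ye11 ze58) (ke xe17 ye11 ze39) (ke xe17 ye11 ze61) (ke xe4 ye40 ze45) (ke xe12 ye11 ze32) (ke xe17 ye12 ze1) (ke xe4 ye40 ze46) (ke xe17 ye12 ze5) (ke xe4 ye40 ze47)) (@D3.rec (fun _ => Pt) (ke xe6 ye32 ze59) (ke xe4 ye44 ze12) (ke xe11 ye25 ze7) (ke xe17 ye12 ze9) (ke xe5 ye44 ze58) (ke xe13 ye1 ze6) (ke xe5 ye42 ze50) (ke xe5 ye58 ze10) (ke xe17 ye12 ze15) (ke xe17 ye12 ze18) (ke xe4 ye40 ze51) (ke xe17 ye12 ze19) (ke xe6 ye55 ze29) (ke xe4 ye40 ze52) (ke xe7 ye52 ze2) (ke xe17 ye12 ze22) (ke xe6 ye8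 ze53) (ke xe13 ye56 ze32) (ke xe16 ye57 ze7) (ke xe16 ye57 ze10) (ke xe6 ye44 ze9) (ke xe12 ye14 ze7) (ke xe9 ye3 ze35) (ke xe4 ye40 ze57) (ke xe10 ye12 ze18) (ke xe4 ye40 ze58) (ke xe12 ye14 ze36) (ke xe4 ye40 ze60) (ke xe17 ye12 ze34) (ke xe6 ye9 ze8) (ke xe4 ye41 ze0) (ke xe6 ye33 ze15) (ke xe6 ye33 ze31) (ke xe17 ye12 ze38) (ke xe17 ye12 ze40) (ke xe4 ye41 ze2) (ke xe12 ye51 ze26) (ke xe17 ye12 ze43) (ke xe4 ye41 ze4) (ke xe9 ye20 ze30) (ke xe4 ye41 ze5) (ke xe6 ye7 ze24) (ke xe17 ye12 ze45) (ke xe6 ye12 ze47) (ke xe9 ye46 ze37) (ke xe4 ye41 ze21) (ke xe17 ye12 ze50) (ke xe11 ye38 ze39) (ke xe14 ye35 ze48) (ke xe4 ye41 ze25) (ke xe11 ye1 ze34) (ke xe17 ye12 ze56) (ke xe4 ye41 ze28) (ke xe17 ye12 ze58) (ke xe4 ye41 ze29) (ke xe17 ye12 ze61) (ke xe17 ye13 ze1) (ke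 xe16 ye52 ze30) (ke xe6 ye44 ze43) (ke xe4 ye41 ze32) (ke xe10 ye48 ze11) (ke xe5 ye0 ze20)) (@D3.rec (fun _ => Pt) (ke xe5 ye59 ze29) (ke xe5 ye43 ze34) (ke xe17 ye13 ze9) (ke xe4 ye41 ze36) (ke xe4 ye41 ze37) (ke xe10 ye48 ze8) (ke xe10 ye55 ze36) (ke xe10 ye4 ze39) (ke xe4 ye42 ze12) (ke xe9 ye38 ze48) (ke xe9 ye50 ze25) (ke xe12 ye56 ze47) (ke xe6 ye2 ze0) (ke xe17 ye13 ze16) (ke xe4 ye41 ze48) (ke xe4 ye43 ze34) (ke xe9 ye20 ze40) (ke xe5 ye38 ze49) (ke xe8 ye36 ze36) (ke xe4 ye41 ze60) (ke xe4 ye42 ze16) (ke xe17 ye13 ze26) (ke xe4 ye41 ze56) (ke xe6 ye22 ze21) (ke xe9 ye29 ze39) (ke xe17 ye13 ze35) (ke xe17 ye13 ze38) (ke xe17 ye13 ze20) (ke xe6 ye29 ze45) (ke xe6 ye22 ze57) (ke xe9 ye29 ze35) (ke xe6 ye29 ze50) (ke xe6 ye23 ze7) (ke xe12 ye30 ze12) (ke xe6 ye26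 ze43) (ke xe12 ye13 ze15) (ke xe17 ye13 ze48) (ke xe13 ye15 ze19) (ke xe12 ye12 ze39) (ke xe8 ye33 ze56) (ke xe12 ye59 ze28) (ke xe9 ye20 ze18) (ke xe9 ye29 ze44) (ke xe4 ye49 ze37) (ke xe17 ye13 ze11) (ke xe9 ye43 ze2) (ke xe17 ye14 ze4) (ke xe12 ye59 ze55) (ke xe4 ye42 ze26) (ke xe12 ye59 ze60) (ke xe11 ye31 ze38) (ke xe17 ye14 ze9) (ke xe11 ye19 ze54) (ke xe8 ye39 ze53) (ke xe17 ye13 ze23) (ke xe17 ye14 ze14) (ke xe4 ye42 ze17) (ke xe17 ye14 ze18) (ke xe17 ye14 ze19) (ke xe4 ye42 ze18) (ke xe12 ye12 ze41) (ke xe6 ye21 ze31)) (@D3.rec (fun _ => Pt) (ke xe17 ye14 ze26) (ke xe12 ye52 ze50) (ke xe17 ye14 ze27) (ke xe4 ye42 ze20) (ke xe4 ye43 ze27) (ke xe6 ye21 ze43) (ke xe12 ye36 ze41) (ke xe17 ye14 ze35) (ke xe4 ye42 ze24) (ke xe17 ye14 ze37) (ke xe17 ye14 ze40) (ke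 xe4 ye42 ze25) (ke xe17 ye14 ze42) (ke xe4 ye42 ze27) (ke xe15 ye43 ze5) (ke xe17 ye14 ze47) (ke xe17 ye14 ze48) (ke xe4 ye42 ze28) (ke xe12 ye11 ze17) (ke xe6 ye12 ze50) (ke xe17 ye14 ze56) (ke xe4 ye42 ze30) (ke xe6 ye20 ze57) (ke xe4 ye48 ze29) (ke xe6 ye42 ze31) (ke xe11 ye34 ze9) (ke xe17 ye14 ze61) (ke xe4 ye42 ze36) (ke xe4 ye42 ze37) (ke xe17 ye15 ze10) (ke xe17 ye15 ze12) (ke xe6 ye14 ze45) (ke xe9 ye2 ze39) (ke xe17 ye15 ze17) (ke xe4 ye42 ze39) (ke xe16 ye51 ze42) (ke xe17 ye15 ze20) (ke xe4 ye42 ze40) (ke xe17 ye15 ze22) (ke xe17 ye15 ze24) (ke xe17 ye15 ze25) (ke xe4 ye42 ze43) (ke xe4 ye42 ze44) (ke xe4 ye42 ze45) (ke xe4 ye42 ze48) (ke xe17 ye15 ze35) (ke xe12 ye46 ze39) (ke xe4 ye42 ze52) (ke xe17 ye15 ze40) (ke xe6 ye16 ze2) (ke xe11 ye34 ze59) (ke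 xe17 ye15 ze46) (ke xe4 ye42 ze57) (ke xe17 ye15 ze47) (ke xe11 ye26 ze20) (ke xe6 ye20 ze20) (ke xe17 ye13 ze17) (ke xe14 ye15 ze52) (ke xe17 ye3 ze13) (ke xe4 ye43 ze10) (ke xe17 ye3 ze10) (ke xe9 ye32 ze58)) (@D3.rec (fun _ => Pt) (ke xe4 ye43 ze16) (ke xe6 ye20 ze27) (ke xe13 ye2 ze31) (ke xe12 ye25 ze10) (ke xe9 ye0 ze16) (ke xe17 ye15 ze61) (ke xe17 ye16 ze0) (ke xe8 ye34 ze49) (ke xe11 ye14 ze52) (ke xe4 ye43 ze22) (ke xe12 ye13 ze16) (ke xe15 ye47 ze20) (ke xe6 ye21 ze15) (ke xe6 ye26 ze15) (ke xe12 ye15 ze16) (ke xe4 ye50 ze16) (ke xe6 ye26 ze17) (ke xe5 ye53 ze1) (ke xe9 ye18 ze41) (ke xe6 ye42 ze58) (ke xe7 ye48 ze53) (ke xe17 ye13 ze18) (ke xe15 ye49 ze45) (ke xe17 ye16 ze17) (ke xe17 ye16 ze18) (ke xe4 ye43 ze36) (ke xe15 ye49 ze44) (ke xe4 ye43 ze42) (ke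 xe12 ye59 ze59) (ke xe9 ye58 ze0) (ke xe9 ye17 ze39) (ke xe17 ye16 ze24) (ke xe14 ye16 ze42) (ke xe4 ye43 ze40) (ke xe17 ye16 ze30) (ke xe4 ye43 ze41) (ke xe6 ye26 ze41) (ke xe6 ye41 ze54) (ke xe6 ye29 ze37) (ke xe6 ye52 ze44) (ke xe9 ye18 ze16) (ke xe6 ye58 ze58) (ke xe6 ye29 ze18) (ke xe6 ye30 ze1) (ke xe6 ye28 ze60) (ke xe4 ye43 ze54) (ke xe6 ye28 ze58) (ke xe6 ye29 ze2) (ke xe4 ye43 ze59) (ke xe4 ye46 ze23) (ke xe13 ye5 ze1) (ke xe4 ye45 ze49) (ke xe9 ye39 ze5) (ke xe17 ye14 ze53) (ke xe4 ye44 ze1) (ke xe12 ye11 ze38) (ke xe17 ye16 ze52) (ke xe8 ye55 ze48) (ke xe12 ye47 ze17) (ke xe17 ye16 ze58) (ke xe4 ye44 ze3) (ke xe4 ye45 ze22)) (@D3.rec (fun _ => Pt) (ke xe14 ye10 ze59) (ke xe17 ye17 ze0) (ke xe17 ye17 ze1) (ke xe4 ye44 ze5) (ke xe7 ye32 ze30) (ke xe17 ye17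 ze6) (ke xe12 ye11 ze12) (ke xe7 ye37 ze28) (ke xe17 ye17 ze9) (ke xe16 ye48 ze45) (ke xe4 ye44 ze8) (ke xe6 ye11 ze24) (ke xe4 ye44 ze10) (ke xe17 ye11 ze48) (ke xe13 ye10 ze32) (ke xe6 ye12 ze33) (ke xe12 ye0 ze16) (ke xe6 ye9 ze33) (ke xe10 ye47 ze18) (ke xe17 ye17 ze21) (ke xe7 ye9 ze28) (ke xe4 ye44 ze19) (ke xe6 ye33 ze36) (ke xe17 ye17 ze27) (ke xe17 ye17 ze29) (ke xe4 ye44 ze17) (ke xe17 ye17 ze31) (ke xe4 ye44 ze18) (ke xe17 ye17 ze34) (ke xe17 ye17 ze36) (ke xe17 ye17 ze24) (ke xe17 ye17 ze42) (ke xe4 ye44 ze20) (ke xe17 ye17 ze45) (ke xe17 ye17 ze47) (ke xe4 ye44 ze22) (ke xe17 ye17 ze49) (ke xe4 ye44 ze24) (ke xe6 ye9 ze51) (ke xe6 ye10 ze18) (ke xe17 ye17 ze50) (ke xe4 ye44 ze26) (ke xe14 ye32 ze58) (ke xe17 ye17 ze52) (ke xe4 ye44 ze28) (ke xe13 ye15 ze15)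 (ke xe9 ye26 ze39) (ke xe17 ye14 ze55) (ke xe4 ye44 ze31) (ke xe17 ye17 ze61) (ke xe17 ye18 ze5) (ke xe8 ye12 ze34) (ke xe17 ye18 ze6) (ke xe4 ye44 ze32) (ke xe14 ye33 ze4) (ke xe6 ye43 ze29) (ke xe4 ye44 ze36) (ke xe9 ye26 ze59) (ke xe6 ye19 ze9) (ke xe12 ye27 ze61) (ke xe15 ye26 ze45) (ke xe17 ye18 ze12)) (@D3.rec (fun _ => Pt) (ke xe17 ye18 ze13) (ke xe4 ye44 ze38) (ke xe9 ye26 ze28) (ke xe17 ye18 ze18) (ke xe4 ye44 ze40) (ke xe4 ye44 ze41) (ke xe9 ye4 ze50) (ke xe4 ye44 ze43) (ke xe4 ye44 ze44) (ke xe17 ye18 ze27) (ke xe12 ye57 ze12) (ke xe11 ye33 ze51) (ke xe17 ye18 ze30) (ke xe4 ye44 ze47) (ke xe4 ye44 ze48) (ke xe4 ye44 ze49) (ke xe17 ye18 ze38) (ke xe17 ye18 ze41) (ke xe17 ye18 ze34) (ke xe17 ye18 ze45) (ke xe4 ye44 ze51) (ke xe17 ye18 ze48) (ke xe4 ye44 ze52)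 (ke xe8 ye29 ze12) (ke xe17 ye18 ze56) (ke xe4 ye44 ze54) (ke xe14 ye41 ze61) (ke xe17 ye18 ze59) (ke xe17 ye19 ze0) (ke xe17 ye19 ze1) (ke xe17 ye19 ze3) (ke xe11 ye44 ze42) (ke xe9 ye3 ze29) (ke xe4 ye44 ze56) (ke xe17 ye19 ze5) (ke xe4 ye44 ze57) (ke xe13 ye5 ze27) (ke xe17 ye19 ze7) (ke xe17 ye4 ze33) (ke xe17 ye19 ze8) (ke xe4 ye44 ze59) (ke xe5 ye16 ze9) (ke xe17 ye10 ze51) (ke xe5 ye48 ze22) (ke xe12 ye57 ze31) (ke xe17 ye19 ze11) (ke xe17 ye19 ze12) (ke xe4 ye45 ze0) (ke xe4 ye45 ze1) (ke xe6 ye47 ze10) (ke xe4 ye46 ze8) (ke xe4 ye47 ze57) (ke xe8 ye21 ze42) (ke xe6 ye17 ze19) (ke xe17 ye19 ze19) (ke xe4 ye45 ze6) (ke xe4 ye45 ze7) (ke xe4 ye49 ze43) (ke xe5 ye15 ze21) (ke xe6 ye48 ze21) (ke xe4 ye47 ze32) (ke xe14 ye28 ze43)) (@D3.rec (fun _ => Pt) (ke xe17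 ye19 ze30) (ke xe17 ye19 ze31) (ke xe4 ye45 ze10) (ke xe4 ye45 ze11) (ke xe4 ye46 ze32) (ke xe10 ye17 ze41) (ke xe17 ye19 ze34) (ke xe14 ye34 ze59) (ke xe17 ye19 ze36) (ke xe4 ye45 ze13) (ke xe4 ye45 ze14) (ke xe5 ye15 ze23) (ke xe17 ye19 ze40) (ke xe12 ye44 ze52) (ke xe4 ye45 ze16) (ke xe11 ye47 ze7) (ke xe17 ye19 ze46) (ke xe17 ye19 ze48) (ke xe4 ye45 ze17) (ke xe17 ye19 ze50) (ke xe4 ye45 ze18) (ke xe17 ye19 ze55) (ke xe17 ye19 ze57) (ke xe4 ye45 ze19) (ke xe17 ye16 ze59) (ke xe17 ye20 ze5) (ke xe17 ye19 ze60) (ke xe6 ye43 ze37) (ke xe17 ye20 ze12) (ke xe4 ye45 ze24) (ke xe9 ye26 ze40) (ke xe6 ye40 ze4) (ke xe17 ye20 ze20) (ke xe17 ye20 ze22) (ke xe4 ye45 ze23) (ke xe17 ye20 ze25) (ke xe17 ye20 ze27) (ke xe17 ye20 ze15) (ke xe17 ye20 ze30) (ke xe17 ye20 ze34) (ke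 xe17 ye20 ze35) (ke xe4 ye45 ze26) (ke xe17 ye20 ze37) (ke xe17 ye20 ze38) (ke xe4 ye45 ze28) (ke xe4 ye59 ze36) (ke xe4 ye48 ze26) (ke xe6 ye27 ze37) (ke xe7 ye0 ze59) (ke xe17 ye20 ze44) (ke xe6 ye39 ze51) (ke xe4 ye45 ze34) (ke xe17 ye18 ze46) (ke xe17 ye20 ze48) (ke xe4 ye45 ze36) (ke xe17 ye18 ze50) (ke xe17 ye20 ze53) (ke xe4 ye45 ze38) (ke xe17 ye20 ze57) (ke xe4 ye45 ze39) (ke xe4 ye45 ze40) (ke xe4 ye45 ze41)) (@D3.rec (fun _ => Pt) (ke xe17 ye21 ze7) (ke xe17 ye21 ze10) (ke xe11 ye54 ze61) (ke xe17 ye16 ze47) (ke xe17 ye21 ze14) (ke xe4 ye45 ze43) (ke xe4 ye45 ze44) (ke xe10 ye21 ze27) (ke xe17 ye21 ze22) (ke xe17 ye21 ze23) (ke xe4 ye45 ze46) (ke xe17 ye21 ze26) (ke xe8 ye59 ze53) (ke xe4 ye45 ze47) (ke xe17 ye21 ze30) (ke xe17 ye21 ze32) (ke xe4 ye45 ze50)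 (ke xe6 ye43 ze44) (ke xe15 ye56 ze1) (ke xe15 ye36 ze59) (ke xe4 ye45 ze54) (ke xe6 ye48 ze20) (ke xe9 ye24 ze53) (ke xe12 ye58 ze27) (ke xe6 ye49 ze9) (ke xe9 ye15 ze49) (ke xe8 ye32 ze10) (ke xe8 ye23 ze40) (ke xe9 ye32 ze26) (ke xe5 ye48 ze8) (ke xe5 ye0 ze18) (ke xe12 ye44 ze17) (ke xe4 ye45 ze60) (ke xe10 ye4 ze21) (ke xe17 ye21 ze46) (ke xe4 ye45 ze61) (ke xe4 ye46 ze0) (ke xe17 ye21 ze49) (ke xe4 ye46 ze1) (ke xe16 ye54 ze59) (ke xe17 ye21 ze52) (ke xe4 ye46 ze2) (ke xe6 ye47 ze2) (ke xe9 ye55 ze49) (ke xe10 ye44 ze1) (ke xe4 ye47 ze47) (ke xe7 ye32 ze34) (ke xe5 ye1 ze31) (ke xe17 ye21 ze61) (ke xe17 ye22 ze2) (ke xe10 ye17 ze3) (ke xe6 ye46 ze56) (ke xe5 ye17 ze4) (ke xe9 ye24 ze22) (ke xe17 ye22 ze6) (ke xe4 ye46 ze11) (ke xe17 ye22 ze9) (ke xe4 ye46 ze12)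 (ke xe15 ye46 ze46) (ke xe12 ye15 ze42) (ke xe9 ye15 ze57) (ke xe15 ye31 ze15)) (@D3.rec (fun _ => Pt) (ke xe16 ye3 ze40) (ke xe4 ye46 ze14) (ke xe12 ye45 ze20) (ke xe17 ye22 ze21) (ke xe17 ye22 ze22) (ke xe4 ye46 ze15) (ke xe17 ye22 ze26) (ke xe15 ye26 ze18) (ke xe9 ye13 ze54) (ke xe4 ye46 ze16) (ke xe16 ye49 ze6) (ke xe17 ye22 ze28) (ke xe4 ye46 ze17) (ke xe5 ye6 ze48) (ke xe17 ye22 ze33) (ke xe4 ye46 ze18) (ke xe17 ye22 ze36) (ke xe17 ye22 ze37) (ke xe4 ye46 ze19) (ke xe17 ye22 ze44) (ke xe17 ye22 ze48) (ke xe10 ye42 ze58) (ke xe17 ye16 ze43) (ke xe10 ye20 ze55) (ke xe17 ye22 ze53) (ke xe12 ye58 ze4) (ke xe17 ye22 ze55) (ke xe17 ye22 ze56) (ke xe4 ye46 ze24) (ke xe12 ye41 ze6) (ke xe7 ye17 ze22) (ke xe14 ye34 ze60) (ke xe10 ye3 ze41) (ke xe17 ye22 ze59) (ke xe4 ye46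 ze27) (ke xe17 ye23 ze0) (ke xe17 ye23 ze1) (ke xe4 ye46 ze28) (ke xe17 ye23 ze4) (ke xe4 ye46 ze31) (ke xe10 ye42 ze55) (ke xe17 ye23 ze10) (ke xe17 ye23 ze12) (ke xe5 ye17 ze21) (ke xe10 ye25 ze4) (ke xe14 ye35 ze38) (ke xe14 ye20 ze61) (ke xe17 ye23 ze17) (ke xe4 ye46 ze34) (ke xe17 ye23 ze18) (ke xe4 ye46 ze35) (ke xe14 ye33 ze29) (ke xe17 ye23 ze20) (ke xe6 ye0 ze36) (ke xe17 ye23 ze24) (ke xe13 ye19 ze53) (ke xe4 ye46 ze37) (ke xe17 ye23 ze26) (ke xe4 ye46 ze38) (ke xe17 ye23 ze28) (ke xe4 ye46 ze40) (ke xe6 ye56 ze31)) (@D3.rec (fun _ => Pt) (ke xe14 ye33 ze27) (ke xe17 ye23 ze34) (ke xe5 ye59 ze26) (ke xe17 ye23 ze38) (ke xe4 ye46 ze42) (ke xe13 ye20 ze14) (ke xe13 ye5 ze22) (ke xe17 ye23 ze44) (ke xe4 ye46 ze44) (ke xe17 ye23 ze52) (ke xe17 ye23 ze56) (ke xe4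 ye46 ze48) (ke xe6 ye0 ze52) (ke xe14 ye4 ze61) (ke xe16 ye43 ze14) (ke xe17 ye24 ze2) (ke xe17 ye24 ze3) (ke xe17 ye24 ze5) (ke xe4 ye46 ze47) (ke xe17 ye24 ze8) (ke xe17 ye24 ze11) (ke xe17 ye23 ze58) (ke xe17 ye24 ze17) (ke xe17 ye24 ze18) (ke xe17 ye24 ze20) (ke xe4 ye46 ze50) (ke xe8 ye29 ze2) (ke xe17 ye24 ze27) (ke xe9 ye22 ze2) (ke xe17 ye11 ze2) (ke xe4 ye46 ze52) (ke xe5 ye15 ze26) (ke xe17 ye24 ze34) (ke xe17 ye11 ze8) (ke xe17 ye24 ze35) (ke xe17 ye24 ze38) (ke xe4 ye46 ze54) (ke xe17 ye24 ze44) (ke xe10 ye20 ze12) (ke xe9 ye21 ze46) (ke xe9 ye23 ze30) (ke xe17 ye24 ze53) (ke xe10 ye21 ze60) (ke xe17 ye24 ze60) (ke xe4 ye46 ze56) (ke xe8 ye28 ze61) (ke xe8 ye29 ze3) (ke xe5 ye14 ze56) (ke xe17 ye25 ze8) (ke xe17 ye25 ze12) (ke xe4 ye47 ze9) (ke xe17 ye25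 ze18) (ke xe4 ye46 ze59) (ke xe11 ye15 ze59) (ke xe15 ye36 ze16) (ke xe4 ye47 ze14) (ke xe17 ye22 ze25) (ke xe17 ye25 ze31) (ke xe4 ye46 ze61) (ke xe9 ye21 ze57) (ke xe9 ye41 ze45) (ke xe17 ye25 ze36)) (@D3.rec (fun _ => Pt) (ke xe4 ye47 ze1) (ke xe17 ye25 ze37) (ke xe12 ye45 ze25) (ke xe14 ye36 ze30) (ke xe17 ye25 ze43) (ke xe17 ye25 ze46) (ke xe4 ye47 ze3) (ke xe4 ye47 ze4) (ke xe17 ye25 ze49) (ke xe4 ye47 ze5) (ke xe17 ye25 ze52) (ke xe6 ye32 ze46) (ke xe17 ye25 ze56) (ke xe17 ye25 ze60) (ke xe4 ye47 ze7) (ke xe17 ye26 ze2) (ke xe17 ye26 ze4) (ke xe4 ye47 ze8) (ke xe16 ye1 ze36) (ke xe17 ye26 ze11) (ke xe17 ye25 ze15) (ke xe17 ye26 ze17) (ke xe17 ye26 ze18) (ke xe4 ye47 ze10) (ke xe17 ye26 ze20) (ke xe17 ye26 ze23) (ke xe17 ye26 ze27) (ke xe4 ye47 ze12) (ke xe14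 ye22 ze22) (ke xe17 ye26 ze32) (ke xe17 ye26 ze35) (ke xe17 ye25 ze26) (ke xe6 ye46 ze16) (ke xe5 ye14 ze12) (ke xe6 ye39 ze53) (ke xe17 ye26 ze44) (ke xe17 ye20 ze56) (ke xe10 ye5 ze15) (ke xe16 ye1 ze55) (ke xe4 ye47 ze17) (ke xe15 ye40 ze29) (ke xe5 ye48 ze23) (ke xe17 ye26 ze57) (ke xe17 ye26 ze60) (ke xe4 ye47 ze20) (ke xe17 ye27 ze2) (ke xe4 ye47 ze21) (ke xe4 ye47 ze50) (ke xe17 ye27 ze5) (ke xe9 ye28 ze50) (ke xe6 ye41 ze57) (ke xe4 ye52 ze33) (ke xe17 ye27 ze15) (ke xe17 ye27 ze17) (ke xe4 ye47 ze25) (ke xe15 ye58 ze12) (ke xe4 ye47 ze26) (ke xe4 ye52 ze31) (ke xe9 ye37 ze28) (ke xe15 ye47 ze14) (ke xe4 ye47 ze28) (ke xe6 ye47 ze51)) (@D3.rec (fun _ => Pt) (ke xe15 ye47 ze18) (ke xe17 ye16 ze51) (ke xe4 ye47 ze41) (ke xe17 ye27 ze39) (ke xe4 ye47 ze31) (ke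 xe6 ye48 ze15) (ke xe17 ye19 ze28) (ke xe17 ye27 ze46) (ke xe17 ye27 ze51) (ke xe17 ye27 ze52) (ke xe4 ye47 ze34) (ke xe4 ye47 ze36) (ke xe15 ye47 ze5) (ke xe17 ye27 ze57) (ke xe6 ye48 ze32) (ke xe17 ye28 ze0) (ke xe17 ye28 ze1) (ke xe4 ye47 ze39) (ke xe8 ye35 ze45) (ke xe17 ye28 ze6) (ke xe17 ye28 ze9) (ke xe8 ye31 ze38) (ke xe17 ye27 ze34) (ke xe17 ye28 ze16) (ke xe17 ye28 ze18) (ke xe17 ye28 ze20) (ke xe17 ye28 ze22) (ke xe4 ye47 ze42) (ke xe17 ye19 ze20) (ke xe10 ye2 ze48) (ke xe4 ye47 ze43) (ke xe7 ye38 ze1) (ke xe6 ye47 ze16) (ke xe6 ye49 ze8) (ke xe7 ye0 ze26) (ke xe4 ye47 ze52) (ke xe17 ye27 ze7) (ke xe17 ye28 ze41) (ke xe12 ye15 ze46) (ke xe17 ye28 ze44) (ke xe17 ye28 ze47) (ke xe17 ye21 ze15) (ke xe17 ye28 ze36) (ke xe17 ye28 ze55) (ke xe17 ye28 ze57) (ke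 xe6 ye43 ze58) (ke xe6 ye35 ze22) (ke xe17 ye19 ze15) (ke xe17 ye29 ze4) (ke xe16 ye4 ze61) (ke xe9 ye27 ze49) (ke xe6 ye17 ze24) (ke xe17 ye29 ze11) (ke xe9 ye15 ze47) (ke xe6 ye49 ze10) (ke xe15 ye18 ze3) (ke xe6 ye49 ze12) (ke xe6 ye11 ze38) (ke xe6 ye24 ze10) (ke xe12 ye32 ze52) (ke xe12 ye32 ze53) (ke xe15 ye36 ze60)) (@D3.rec (fun _ => Pt) (ke xe4 ye48 ze7) (ke xe8 ye36 ze18) (ke xe9 ye29 ze43) (ke xe17 ye29 ze36) (ke xe17 ye29 ze40) (ke xe6 ye49 ze14) (ke xe17 ye29 ze45) (ke xe12 ye59 ze47) (ke xe4 ye48 ze10) (ke xe17 ye29 ze47) (ke xe4 ye48 ze12) (ke xe6 ye46 ze18) (ke xe7 ye50 ze2) (ke xe6 ye46 ze24) (ke xe8 ye21 ze4) (ke xe6 ye31 ze0) (ke xe16 ye51 ze50) (ke xe4 ye57 ze3) (ke xe4 ye48 ze19) (ke xe6 ye49 ze16) (ke xe6 ye56 ze42) (ke xe14 ye49 ze61) (ke xe17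 ye30 ze8) (ke xe17 ye30 ze10) (ke xe17 ye30 ze0) (ke xe16 ye49 ze46) (ke xe6 ye20 ze10) (ke xe4 ye50 ze13) (ke xe6 ye53 ze4) (ke xe7 ye27 ze15) (ke xe7 ye27 ze11) (ke xe12 ye49 ze4) (ke xe8 ye21 ze5) (ke xe17 ye20 ze40) (ke xe17 ye30 ze25) (ke xe9 ye18 ze30) (ke xe6 ye48 ze8) (ke xe17 ye30 ze35) (ke xe14 ye56 ze45) (ke xe9 ye18 ze24) (ke xe17 ye30 ze43) (ke xe6 ye11 ze23) (ke xe8 ye23 ze51) (ke xe9 ye29 ze2) (ke xe9 ye18 ze42) (ke xe17 ye30 ze51) (ke xe4 ye48 ze36) (ke xe17 ye30 ze57) (ke xe12 ye42 ze38) (ke xe6 ye48 ze12) (ke xe12 ye59 ze46) (ke xe17 ye31 ze5) (ke xe16 ye57 ze27) (ke xe4 ye48 ze40) (ke xe17 ye31 ze7) (ke xe5 ye59 ze42) (ke xe17 ye31 ze9) (ke xe17 ye31 ze10) (ke xe4 ye48 ze43) (ke xe17 ye31 ze12) (ke xe4 ye48 ze44) (ke xe17 ye31 ze14)) (@D3.rec (fun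 _ => Pt) (ke xe17 ye31 ze15) (ke xe4 ye48 ze45) (ke xe4 ye48 ze46) (ke xe17 ye31 ze24) (ke xe13 ye1 ze53) (ke xe17 ye31 ze20) (ke xe5 ye59 ze56) (ke xe10 ye0 ze8) (ke xe4 ye48 ze48) (ke xe4 ye48 ze50) (ke xe17 ye31 ze29) (ke xe4 ye48 ze51) (ke xe15 ye4 ze55) (ke xe17 ye26 ze54) (ke xe11 ye25 ze18) (ke xe6 ye0 ze7) (ke xe17 ye31 ze36) (ke xe4 ye48 ze53) (ke xe17 ye31 ze38) (ke xe4 ye48 ze54) (ke xe14 ye3 ze51) (ke xe16 ye36 ze3) (ke xe4 ye48 ze56) (ke xe5 ye33 ze33) (ke xe17 ye31 ze46) (ke xe17 ye31 ze48) (ke xe13 ye3 ze7) (ke xe17 ye31 ze50) (ke xe4 ye48 ze59) (ke xe17 ye31 ze51) (ke xe17 ye31 ze53) (ke xe17 ye31 ze54) (ke xe4 ye48 ze60) (ke xe8 ye59 ze8) (ke xe12 ye50 ze8) (ke xe5 ye57 ze30) (ke xe17 ye31 ze58) (ke xe6 ye1 ze0) (ke xe17 ye31 ze59) (ke xe12 ye47 ze0)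 (ke xe4 ye49 ze1) (ke xe6 ye1 ze5) (ke xe13 ye5 ze45) (ke xe17 ye32 ze5) (ke xe6 ye50 ze8) (ke xe11 ye42 ze16) (ke xe17 ye32 ze10) (ke xe4 ye49 ze3) (ke xe17 ye32 ze13) (ke xe12 ye32 ze45) (ke xe6 ye1 ze16) (ke xe17 ye32 ze15) (ke xe17 ye32 ze18) (ke xe17 ye32 ze22) (ke xe4 ye49 ze5) (ke xe17 ye32 ze27) (ke xe17 ye32 ze29) (ke xe4 ye49 ze6) (ke xe17 ye32 ze34) (ke xe4 ye49 ze7) (ke xe17 ye32 ze35) (ke xe12 ye56 ze49)) (@D3.rec (fun _ => Pt) (ke xe8 ye57 ze3) (ke xe17 ye32 ze40) (ke xe17 ye32 ze43) (ke xe17 ye32 ze46) (ke xe5 ye58 ze7) (ke xe4 ye49 ze10) (ke xe5 ye32 ze35) (ke xe17 ye32 ze53) (ke xe17 ye32 ze57) (ke xe17 ye32 ze59) (ke xe4 ye49 ze12) (ke xe6 ye2 ze50) (ke xe17 ye33 ze1) (ke xe4 ye49 ze14) (ke xe15 ye4 ze3) (ke xe6 ye1 ze43) (ke xe17 ye33 ze3) (ke xe17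 ye1 ze35) (ke xe17 ye33 ze7) (ke xe4 ye49 ze16) (ke xe16 ye43 ze33) (ke xe17 ye33 ze12) (ke xe4 ye49 ze17) (ke xe17 ye8 ze37) (ke xe17 ye33 ze17) (ke xe4 ye49 ze19) (ke xe6 ye3 ze33) (ke xe11 ye14 ze47) (ke xe5 ye39 ze36) (ke xe6 ye3 ze8) (ke xe17 ye33 ze23) (ke xe4 ye49 ze22) (ke xe6 ye3 ze11) (ke xe6 ye26 ze21) (ke xe4 ye49 ze23) (ke xe16 ye51 ze9) (ke xe14 ye35 ze58) (ke xe6 ye2 ze14) (ke xe6 ye45 ze24) (ke xe17 ye33 ze39) (ke xe4 ye49 ze26) (ke xe8 ye58 ze35) (ke xe8 ye57 ze48) (ke xe17 ye33 ze42) (ke xe4 ye49 ze30) (ke xe17 ye3 ze33) (ke xe6 ye46 ze6) (ke xe17 ye33 ze45) (ke xe4 ye49 ze33) (ke xe12 ye50 ze50) (ke xe10 ye53 ze10) (ke xe6 ye3 ze45) (ke xe6 ye45 ze61) (ke xe9 ye40 ze56) (ke xe17 ye33 ze54) (ke xe17 ye33 ze59) (ke xe6 ye3 ze61) (ke xe17 ye34 ze2) (ke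 xe17 ye34 ze3) (ke xe4 ye49 ze39) (ke xe4 ye49 ze40) (ke xe5 ye17 ze51)) (@D3.rec (fun _ => Pt) (ke xe17 ye19 ze23) (ke xe5 ye18 ze2) (ke xe15 ye5 ze35) (ke xe12 ye57 ze32) (ke xe15 ye40 ze38) (ke xe17 ye21 ze19) (ke xe17 ye34 ze16) (ke xe10 ye57 ze18) (ke xe12 ye25 ze42) (ke xe4 ye59 ze20) (ke xe4 ye59 ze52) (ke xe17 ye34 ze24) (ke xe4 ye49 ze47) (ke xe11 ye50 ze6) (ke xe17 ye34 ze27) (ke xe16 ye57 ze50) (ke xe17 ye34 ze33) (ke xe4 ye49 ze50) (ke xe17 ye34 ze37) (ke xe4 ye49 ze51) (ke xe14 ye20 ze43) (ke xe17 ye34 ze42) (ke xe4 ye49 ze53) (ke xe6 ye4 ze6) (ke xe11 ye12 ze11) (ke xe6 ye47 ze31) (ke xe9 ye24 ze28) (ke xe12 ye57 ze41) (ke xe17 ye34 ze46) (ke xe4 ye49 ze56) (ke xe17 ye34 ze47) (ke xe4 ye49 ze58) (ke xe6 ye49 ze54) (ke xe4 ye49 ze61) (ke xe9 ye15 ze43)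 (ke xe4 ye50 ze1) (ke xe12 ye12 ze10) (ke xe6 ye23 ze42) (ke xe16 ye7 ze33) (ke xe6 ye40 ze14) (ke xe4 ye50 ze5) (ke xe6 ye57 ze56) (ke xe10 ye13 ze23) (ke xe15 ye47 ze13) (ke xe4 ye50 ze10) (ke xe12 ye14 ze47) (ke xe4 ye50 ze26) (ke xe9 ye33 ze7) (ke xe17 ye30 ze16) (ke xe12 ye25 ze14) (ke xe6 ye28 ze7) (ke xe12 ye15 ze10) (ke xe17 ye16 ze3) (ke xe12 ye15 ze6) (ke xe17 ye35 ze3) (ke xe17 ye30 ze38) (ke xe4 ye50 ze29) (ke xe12 ye4 ze57) (ke xe9 ye19 ze61) (ke xe12 ye27 ze31) (ke xe12 ye45 ze4) (ke xe17 ye35 ze13)) (@D3.rec (fun _ => Pt) (ke xe4 ye50 ze19) (ke xe9 ye37 ze19) (ke xe17 ye35 ze17) (ke xe7 ye31 ze47) (ke xe12 ye42 ze32) (ke xe16 ye14 ze37) (ke xe4 ye50 ze23) (ke xe9 ye32 ze47) (ke xe17 ye35 ze23) (ke xe17 ye35 ze28) (ke xe4 ye50 ze27) (ke xe17 ye35 ze33)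 (ke xe15 ye57 ze48) (ke xe4 ye50 ze28) (ke xe17 ye35 ze39) (ke xe4 ye50 ze31) (ke xe17 ye35 ze43) (ke xe4 ye50 ze33) (ke xe4 ye50 ze34) (ke xe4 ye50 ze35) (ke xe8 ye25 ze46) (ke xe17 ye35 ze51) (ke xe4 ye50 ze37) (ke xe17 ye35 ze56) (ke xe4 ye50 ze38) (ke xe17 ye35 ze59) (ke xe4 ye55 ze53) (ke xe8 ye27 ze28) (ke xe17 ye36 ze1) (ke xe15 ye46 ze60) (ke xe4 ye50 ze41) (ke xe17 ye36 ze3) (ke xe8 ye16 ze58) (ke xe4 ye50 ze42) (ke xe17 ye36 ze11) (ke xe17 ye36 ze16) (ke xe8 ye25 ze50) (ke xe15 ye54 ze54) (ke xe15 ye54 ze51) (ke xe12 ye0 ze20) (ke xe17 ye36 ze23) (ke xe15 ye54 ze61) (ke xe15 ye21 ze58) (ke xe4 ye50 ze47) (ke xe17 ye36 ze25) (ke xe17 ye36 ze30) (ke xe17 ye36 ze31) (ke xe4 ye50 ze49) (ke xe17 ye36 ze38) (ke xe17 ye36 ze39) (ke xe4 ye50 ze51) (ke xe4 ye50 ze53)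 (ke xe17 ye36 ze46) (ke xe17 ye36 ze47) (ke xe4 ye50 ze54) (ke xe15 ye22 ze18) (ke xe17 ye36 ze50) (ke xe4 ye50 ze56) (ke xe16 ye50 ze15) (ke xe4 ye51 ze38) (ke xe17 ye36 ze58) (ke xe17 ye37 ze1)) (@D3.rec (fun _ => Pt) (ke xe8 ye1 ze36) (ke xe17 ye37 ze6) (ke xe9 ye52 ze43) (ke xe4 ye50 ze59) (ke xe4 ye50 ze60) (ke xe17 ye37 ze13) (ke xe4 ye51 ze1) (ke xe8 ye42 ze36) (ke xe17 ye37 ze16) (ke xe10 ye50 ze22) (ke xe4 ye51 ze4) (ke xe17 ye14 ze12) (ke xe4 ye51 ze5) (ke xe7 ye55 ze35) (ke xe8 ye40 ze19) (ke xe17 ye37 ze25) (ke xe17 ye37 ze26) (ke xe4 ye51 ze8) (ke xe9 ye36 ze32) (ke xe8 ye10 ze18) (ke xe4 ye56 ze49) (ke xe17 ye37 ze36) (ke xe17 ye37 ze37) (ke xe4 ye51 ze10) (ke xe17 ye37 ze43) (ke xe17 ye37 ze44) (ke xe4 ye51 ze11) (ke xe17 ye37 ze49) (ke xe17 ye37 ze53)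 (ke xe17 ye37 ze55) (ke xe17 ye37 ze59) (ke xe4 ye51 ze12) (ke xe17 ye38 ze3) (ke xe4 ye51 ze13) (ke xe8 ye40 ze47) (ke xe17 ye38 ze10) (ke xe17 ye38 ze6) (ke xe16 ye9 ze39) (ke xe8 ye42 ze45) (ke xe16 ye22 ze10) (ke xe4 ye51 ze18) (ke xe5 ye1 ze39) (ke xe7 ye33 ze33) (ke xe17 ye38 ze21) (ke xe4 ye51 ze19) (ke xe4 ye51 ze20) (ke xe14 ye55 ze44) (ke xe17 ye38 ze25) (ke xe4 ye51 ze21) (ke xe17 ye38 ze27) (ke xe16 ye7 ze54) (ke xe17 ye38 ze31) (ke xe4 ye51 ze24) (ke xe8 ye36 ze59) (ke xe8 ye17 ze7) (ke xe17 ye38 ze36) (ke xe9 ye35 ze53) (ke xe17 ye38 ze39) (ke xe17 ye38 ze43) (ke xe4 ye51 ze26) (ke xe4 ye51 ze27) (ke xe15 ye19 ze2)) (@D3.rec (fun _ => Pt) (ke xe4 ye56 ze45) (ke xe17 ye37 ze32) (ke xe16 ye8 ze5) (ke xe9 ye39 ze2) (ke xe17 ye38 ze57) (ke xe16 ye1 ze35) (ke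 xe17 ye38 ze61) (ke xe4 ye51 ze32) (ke xe17 ye39 ze3) (ke xe8 ye41 ze46) (ke xe17 ye39 ze7) (ke xe17 ye39 ze11) (ke xe4 ye51 ze33) (ke xe17 ye39 ze16) (ke xe17 ye36 ze57) (ke xe4 ye51 ze34) (ke xe8 ye41 ze43) (ke xe17 ye39 ze25) (ke xe17 ye39 ze20) (ke xe17 ye36 ze52) (ke xe9 ye37 ze60) (ke xe10 ye8 ze33) (ke xe17 ye39 ze33) (ke xe4 ye51 ze37) (ke xe4 ye51 ze39) (ke xe17 ye39 ze38) (ke xe10 ye15 ze44) (ke xe4 ye51 ze40) (ke xe17 ye39 ze40) (ke xe9 ye38 ze49) (ke xe4 ye53 ze56) (ke xe15 ye23 ze10) (ke xe8 ye41 ze53) (ke xe17 ye39 ze47) (ke xe13 ye52 ze36) (ke xe17 ye39 ze51) (ke xe4 ye51 ze42) (ke xe4 ye51 ze43) (ke xe17 ye39 ze56) (ke xe8 ye41 ze18) (ke xe17 ye39 ze54) (ke xe15 ye23 ze15) (ke xe4 ye51 ze45) (ke xe9 ye37 ze46) (ke xe5 ye0 ze46) (ke xe5 ye1 ze29) (ke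 xe17 ye40 ze0) (ke xe9 ye38 ze0) (ke xe12 ye17 ze38) (ke xe17 ye40 ze8) (ke xe4 ye51 ze49) (ke xe17 ye40 ze12) (ke xe4 ye51 ze50) (ke xe9 ye34 ze56) (ke xe12 ye30 ze44) (ke xe9 ye38 ze8) (ke xe17 ye40 ze20) (ke xe17 ye40 ze22) (ke xe17 ye40 ze24) (ke xe4 ye51 ze52) (ke xe4 ye51 ze53) (ke xe17 ye40 ze30)) (@D3.rec (fun _ => Pt) (ke xe15 ye18 ze56) (ke xe17 ye40 ze33) (ke xe17 ye40 ze37) (ke xe17 ye39 ze9) (ke xe4 ye51 ze55) (ke xe7 ye20 ze11) (ke xe12 ye30 ze42) (ke xe17 ye40 ze46) (ke xe17 ye40 ze50) (ke xe17 ye40 ze53) (ke xe17 ye40 ze56) (ke xe17 ye40 ze61) (ke xe4 ye51 ze58) (ke xe17 ye41 ze4) (ke xe4 ye51 ze59) (ke xe17 ye41 ze10) (ke xe4 ye51 ze60) (ke xe17 ye40 ze48) (ke xe4 ye51 ze61) (ke xe17 ye41 ze21) (ke xe4 ye52 ze0) (ke xe17 ye37 ze5) (ke xe17 ye41 ze31)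 (ke xe17 ye41 ze32) (ke xe4 ye52 ze2) (ke xe17 ye41 ze35) (ke xe17 ye41 ze40) (ke xe17 ye41 ze43) (ke xe5 ye39 ze17) (ke xe4 ye52 ze4) (ke xe17 ye41 ze46) (ke xe17 ye41 ze49) (ke xe9 ye34 ze18) (ke xe4 ye52 ze5) (ke xe17 ye13 ze61) (ke xe4 ye52 ze6) (ke xe4 ye52 ze25) (ke xe16 ye9 ze31) (ke xe6 ye21 ze3) (ke xe17 ye41 ze57) (ke xe4 ye52 ze8) (ke xe8 ye39 ze49) (ke xe4 ye52 ze10) (ke xe17 ye13 ze12) (ke xe17 ye42 ze5) (ke xe17 ye42 ze0) (ke xe9 ye37 ze56) (ke xe15 ye38 ze35) (ke xe10 ye11 ze52) (ke xe4 ye52 ze12) (ke xe17 ye42 ze14) (ke xe17 ye42 ze16) (ke xe7 ye58 ze43) (ke xe4 ye52 ze13) (ke xe10 ye12 ze13) (ke xe10 ye12 ze16) (ke xe12 ye59 ze53) (ke xe17 ye42 ze23) (ke xe4 ye52 ze19) (ke xe16 ye9 ze33) (ke xe9 ye38 ze44) (ke xe17 ye42 ze28)) (@D3.rec (fun _ => Pt)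 (ke xe4 ye52 ze21) (ke xe4 ye52 ze22) (ke xe17 ye42 ze32) (ke xe6 ye22 ze24) (ke xe10 ye11 ze26) (ke xe17 ye42 ze36) (ke xe17 ye42 ze39) (ke xe4 ye52 ze24) (ke xe9 ye37 ze42) (ke xe17 ye41 ze52) (ke xe4 ye52 ze29) (ke xe6 ye42 ze47) (ke xe17 ye42 ze45) (ke xe9 ye39 ze7) (ke xe17 ye42 ze49) (ke xe17 ye42 ze52) (ke xe4 ye52 ze32) (ke xe7 ye25 ze46) (ke xe17 ye27 ze13) (ke xe9 ye33 ze1) (ke xe17 ye42 ze59) (ke xe17 ye42 ze60) (ke xe4 ye52 ze37) (ke xe6 ye23 ze11) (ke xe6 ye27 ze31) (ke xe4 ye52 ze40) (ke xe6 ye30 ze59) (ke xe6 ye43 ze52) (ke xe9 ye27 ze58) (ke xe12 ye25 ze9) (ke xe5 ye39 ze48) (ke xe4 ye52 ze43) (ke xe17 ye43 ze7) (ke xe17 ye43 ze10) (ke xe17 ye43 ze11) (ke xe4 ye52 ze46) (ke xe15 ye9 ze27) (ke xe8 ye7 ze61) (ke xe17 ye43 ze18) (ke xe4 ye52 ze48) (ke xe8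 ye38 ze4) (ke xe4 ye52 ze49) (ke xe9 ye37 ze8) (ke xe17 ye43 ze22) (ke xe5 ye17 ze14) (ke xe15 ye6 ze45) (ke xe9 ye35 ze43) (ke xe9 ye53 ze38) (ke xe17 ye43 ze26) (ke xe4 ye56 ze31) (ke xe4 ye52 ze56) (ke xe5 ye12 ze43) (ke xe4 ye52 ze59) (ke xe17 ye43 ze32) (ke xe4 ye52 ze60) (ke xe17 ye43 ze34) (ke xe9 ye36 ze46) (ke xe15 ye6 ze42) (ke xe17 ye30 ze17) (ke xe4 ye53 ze0) (ke xe9 ye35 ze20) (ke xe17 ye43 ze40)) (@D3.rec (fun _ => Pt) (ke xe9 ye35 ze47) (ke xe17 ye43 ze46) (ke xe12 ye18 ze2) (ke xe17 ye43 ze49) (ke xe4 ye53 ze3) (ke xe4 ye53 ze4) (ke xe17 ye43 ze54) (ke xe8 ye41 ze39) (ke xe9 ye35 ze55) (ke xe17 ye44 ze1) (ke xe17 ye44 ze3) (ke xe15 ye9 ze56) (ke xe4 ye53 ze6) (ke xe4 ye53 ze7) (ke xe17 ye44 ze9) (ke xe8 ye41 ze17) (ke xe17 ye44 ze14) (ke xe17 ye44 ze17)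 (ke xe4 ye53 ze9) (ke xe12 ye18 ze59) (ke xe17 ye44 ze22) (ke xe17 ye44 ze23) (ke xe17 ye44 ze26) (ke xe17 ye44 ze29) (ke xe17 ye44 ze32) (ke xe4 ye53 ze12) (ke xe17 ye44 ze36) (ke xe4 ye53 ze13) (ke xe17 ye44 ze39) (ke xe4 ye53 ze14) (ke xe17 ye44 ze43) (ke xe17 ye44 ze46) (ke xe15 ye7 ze39) (ke xe17 ye44 ze49) (ke xe17 ye44 ze50) (ke xe15 ye7 ze38) (ke xe17 ye44 ze55) (ke xe8 ye24 ze49) (ke xe4 ye53 ze17) (ke xe17 ye44 ze58) (ke xe8 ye10 ze17) (ke xe4 ye53 ze18) (ke xe4 ye53 ze34) (ke xe11 ye4 ze48) (ke xe9 ye36 ze60) (ke xe4 ye53 ze20) (ke xe12 ye20 ze35) (ke xe16 ye55 ze46) (ke xe9 ye18 ze9) (ke xe9 ye35 ze29) (ke xe12 ye16 ze5) (ke xe9 ye57 ze37) (ke xe17 ye45 ze6) (ke xe17 ye45 ze7) (ke xe4 ye55 ze52) (ke xe4 ye53 ze23) (ke xe8 ye41 ze37) (ke xe9 ye58 ze6) (ke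 xe9 ye58 ze9) (ke xe6 ye48 ze47) (ke xe4 ye53 ze31) (ke xe17 ye45 ze14)) (@D3.rec (fun _ => Pt) (ke xe17 ye45 ze16) (ke xe4 ye53 ze33) (ke xe9 ye35 ze3) (ke xe17 ye5 ze12) (ke xe8 ye41 ze14) (ke xe9 ye20 ze52) (ke xe17 ye45 ze19) (ke xe9 ye37 ze13) (ke xe17 ye45 ze22) (ke xe17 ye45 ze26) (ke xe4 ye53 ze38) (ke xe12 ye30 ze34) (ke xe6 ye25 ze45) (ke xe17 ye45 ze31) (ke xe6 ye22 ze51) (ke xe6 ye47 ze54) (ke xe8 ye24 ze57) (ke xe4 ye53 ze44) (ke xe17 ye45 ze33) (ke xe4 ye53 ze54) (ke xe17 ye23 ze15) (ke xe17 ye39 ze42) (ke xe6 ye25 ze14) (ke xe4 ye53 ze57) (ke xe4 ye53 ze58) (ke xe4 ye53 ze59) (ke xe9 ye40 ze4) (ke xe17 ye45 ze42) (ke xe4 ye53 ze61) (ke xe17 ye45 ze44) (ke xe4 ye54 ze0) (ke xe4 ye54 ze2) (ke xe10 ye26 ze40) (ke xe17 ye45 ze50) (ke xe4 ye54 ze4) (ke xe17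 ye45 ze55) (ke xe17 ye45 ze56) (ke xe4 ye54 ze5) (ke xe9 ye40 ze11) (ke xe17 ye46 ze3) (ke xe17 ye46 ze4) (ke xe4 ye54 ze7) (ke xe5 ye3 ze49) (ke xe17 ye46 ze12) (ke xe9 ye40 ze17) (ke xe17 ye46 ze17) (ke xe17 ye46 ze18) (ke xe4 ye54 ze9) (ke xe17 ye46 ze24) (ke xe12 ye7 ze14) (ke xe4 ye54 ze10) (ke xe17 ye46 ze30) (ke xe17 ye46 ze35) (ke xe15 ye0 ze43) (ke xe17 ye46 ze37) (ke xe17 ye46 ze38) (ke xe17 ye46 ze40) (ke xe17 ye46 ze41) (ke xe17 ye46 ze43) (ke xe4 ye54 ze12) (ke xe17 ye46 ze45) (ke xe4 ye54 ze13)) (@D3.rec (fun _ => Pt) (ke xe17 ye46 ze51) (ke xe17 ye46 ze53) (ke xe4 ye54 ze15) (ke xe4 ye54 ze17) (ke xe9 ye39 ze26) (ke xe15 ye7 ze43) (ke xe4 ye54 ze19) (ke xe17 ye47 ze3) (ke xe17 ye47 ze4) (ke xe4 ye54 ze20) (ke xe9 ye56 ze36) (ke xe9 ye39 ze38) (ke xe17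 ye47 ze13) (ke xe17 ye47 ze14) (ke xe4 ye54 ze22) (ke xe17 ye47 ze20) (ke xe5 ye10 ze34) (ke xe9 ye39 ze44) (ke xe17 ye47 ze25) (ke xe17 ye47 ze26) (ke xe4 ye54 ze24) (ke xe17 ye47 ze33) (ke xe17 ye47 ze34) (ke xe4 ye54 ze25) (ke xe17 ye47 ze42) (ke xe17 ye47 ze47) (ke xe15 ye0 ze50) (ke xe9 ye58 ze38) (ke xe17 ye47 ze49) (ke xe17 ye47 ze50) (ke xe17 ye47 ze52) (ke xe17 ye47 ze53) (ke xe4 ye54 ze27) (ke xe17 ye47 ze57) (ke xe4 ye54 ze28) (ke xe17 ye48 ze1) (ke xe11 ye50 ze43) (ke xe17 ye48 ze6) (ke xe4 ye54 ze30) (ke xe17 ye48 ze12) (ke xe17 ye48 ze13) (ke xe4 ye54 ze32) (ke xe17 ye48 ze17) (ke xe17 ye48 ze18) (ke xe4 ye54 ze34) (ke xe17 ye48 ze20) (ke xe4 ye55 ze33) (ke xe17 ye48 ze21) (ke xe4 ye54 ze36) (ke xe15 ye49 ze35) (ke xe4 ye55 ze24) (ke xe17 ye48 ze30) (ke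 xe9 ye55 ze46) (ke xe4 ye54 ze38) (ke xe17 ye48 ze35) (ke xe17 ye48 ze39) (ke xe9 ye31 ze53) (ke xe17 ye48 ze43) (ke xe17 ye48 ze44) (ke xe10 ye27 ze39) (ke xe4 ye54 ze40) (ke xe4 ye54 ze41)) (@D3.rec (fun _ => Pt) (ke xe4 ye54 ze43) (ke xe17 ye48 ze51) (ke xe4 ye54 ze44) (ke xe15 ye24 ze32) (ke xe17 ye48 ze53) (ke xe15 ye36 ze27) (ke xe4 ye54 ze48) (ke xe4 ye54 ze49) (ke xe17 ye48 ze59) (ke xe4 ye54 ze50) (ke xe17 ye35 ze40) (ke xe4 ye54 ze52) (ke xe15 ye23 ze9) (ke xe17 ye49 ze5) (ke xe17 ye49 ze6) (ke xe4 ye54 ze54) (ke xe9 ye43 ze28) (ke xe15 ye24 ze43) (ke xe11 ye57 ze29) (ke xe17 ye49 ze16) (ke xe17 ye49 ze17) (ke xe4 ye54 ze56) (ke xe6 ye38 ze2) (ke xe10 ye2 ze27) (ke xe4 ye54 ze57) (ke xe17 ye49 ze25) (ke xe17 ye49 ze29) (ke xe17 ye49 ze31) (ke xe17 ye49 ze35)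 (ke xe4 ye54 ze58) (ke xe17 ye49 ze41) (ke xe4 ye54 ze59) (ke xe15 ye24 ze54) (ke xe17 ye49 ze50) (ke xe17 ye49 ze44) (ke xe16 ye51 ze12) (ke xe15 ye24 ze57) (ke xe17 ye49 ze56) (ke xe4 ye55 ze2) (ke xe8 ye13 ze43) (ke xe17 ye49 ze59) (ke xe17 ye50 ze3) (ke xe4 ye55 ze3) (ke xe4 ye55 ze5) (ke xe11 ye45 ze49) (ke xe9 ye26 ze60) (ke xe4 ye55 ze6) (ke xe17 ye50 ze8) (ke xe8 ye26 ze40) (ke xe17 ye50 ze12) (ke xe4 ye55 ze9) (ke xe8 ye13 ze10) (ke xe15 ye1 ze16) (ke xe17 ye50 ze17) (ke xe11 ye19 ze48) (ke xe17 ye50 ze19) (ke xe10 ye14 ze16) (ke xe4 ye55 ze11) (ke xe4 ye55 ze12) (ke xe17 ye50 ze29) (ke xe10 ye0 ze43) (ke xe17 ye33 ze35)) (@D3.rec (fun _ => Pt) (ke xe13 ye10 ze45) (ke xe10 ye15 ze34) (ke xe15 ye22 ze44) (ke xe17 ye50 ze37) (ke xe5 ye10 ze3) (ke xe16 ye41 ze3)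 (ke xe17 ye42 ze11) (ke xe4 ye55 ze17) (ke xe17 ye50 ze43) (ke xe15 ye25 ze12) (ke xe15 ye24 ze3) (ke xe15 ye38 ze36) (ke xe17 ye50 ze51) (ke xe17 ye50 ze53) (ke xe4 ye55 ze19) (ke xe15 ye25 ze33) (ke xe12 ye43 ze14) (ke xe17 ye48 ze24) (ke xe11 ye51 ze28) (ke xe15 ye2 ze15) (ke xe17 ye51 ze2) (ke xe5 ye4 ze46) (ke xe4 ye55 ze22) (ke xe5 ye10 ze4) (ke xe17 ye51 ze11) (ke xe17 ye51 ze12) (ke xe4 ye55 ze25) (ke xe17 ye51 ze14) (ke xe15 ye26 ze0) (ke xe8 ye26 ze55) (ke xe15 ye25 ze28) (ke xe12 ye50 ze52) (ke xe17 ye51 ze18) (ke xe10 ye10 ze22) (ke xe4 ye55 ze27) (ke xe4 ye55 ze28) (ke xe17 ye51 ze25) (ke xe15 ye25 ze19) (ke xe10 ye18 ze54) (ke xe17 ye48 ze19) (ke xe6 ye2 ze25) (ke xe4 ye55 ze30) (ke xe15 ye25 ze23) (ke xe17 ye51 ze35) (ke xe8 ye13 ze2) (ke xe5 ye36 ze35)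 (ke xe17 ye51 ze43) (ke xe15 ye25 ze37) (ke xe17 ye51 ze49) (ke xe17 ye51 ze52) (ke xe17 ye51 ze56) (ke xe4 ye55 ze34) (ke xe9 ye55 ze57) (ke xe4 ye55 ze35) (ke xe17 ye51 ze60) (ke xe17 ye48 ze31) (ke xe15 ye25 ze43) (ke xe17 ye52 ze4) (ke xe12 ye25 ze26) (ke xe6 ye11 ze20) (ke xe4 ye55 ze37) (ke xe4 ye55 ze38)) (@D3.rec (fun _ => Pt) (ke xe5 ye16 ze47) (ke xe10 ye38 ze52) (ke xe9 ye18 ze45) (ke xe17 ye52 ze13) (ke xe4 ye55 ze40) (ke xe17 ye44 ze61) (ke xe4 ye55 ze41) (ke xe5 ye10 ze44) (ke xe9 ye43 ze37) (ke xe5 ye11 ze55) (ke xe5 ye11 ze3) (ke xe17 ye52 ze20) (ke xe4 ye55 ze45) (ke xe17 ye52 ze21) (ke xe4 ye55 ze46) (ke xe10 ye25 ze26) (ke xe4 ye55 ze47) (ke xe10 ye27 ze23) (ke xe9 ye58 ze52) (ke xe4 ye55 ze49) (ke xe17 ye52 ze30) (ke xe17 ye52 ze32) (ke xe17 ye52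 ze34) (ke xe17 ye52 ze37) (ke xe9 ye56 ze54) (ke xe4 ye55 ze51) (ke xe17 ye21 ze36) (ke xe17 ye45 ze8) (ke xe9 ye41 ze16) (ke xe14 ye23 ze18) (ke xe17 ye35 ze60) (ke xe15 ye3 ze21) (ke xe17 ye52 ze49) (ke xe4 ye55 ze54) (ke xe5 ye8 ze34) (ke xe11 ye8 ze12) (ke xe15 ye3 ze25) (ke xe9 ye43 ze8) (ke xe5 ye4 ze47) (ke xe5 ye9 ze53) (ke xe17 ye52 ze57) (ke xe13 ye59 ze12) (ke xe4 ye56 ze0) (ke xe15 ye49 ze4) (ke xe8 ye14 ze22) (ke xe8 ye27 ze56) (ke xe17 ye52 ze61) (ke xe4 ye56 ze2) (ke xe4 ye56 ze3) (ke xe17 ye53 ze7) (ke xe16 ye9 ze52) (ke xe17 ye53 ze3) (ke xe15 ye3 ze18) (ke xe17 ye53 ze10) (ke xe17 ye53 ze13) (ke xe4 ye56 ze5) (ke xe15 ye25 ze6) (ke xe16 ye9 ze55) (ke xe15 ye26 ze5) (ke xe4 ye56 ze10) (ke xe17 ye53 ze18) (ke xe17 ye8 ze49)) (@D3.rec (fun _ => Pt) (ke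 xe10 ye55 ze25) (ke xe4 ye56 ze11) (ke xe12 ye56 ze26) (ke xe17 ye53 ze21) (ke xe4 ye56 ze12) (ke xe6 ye22 ze18) (ke xe17 ye53 ze29) (ke xe4 ye56 ze13) (ke xe5 ye49 ze31) (ke xe4 ye56 ze14) (ke xe5 ye49 ze37) (ke xe5 ye41 ze3) (ke xe10 ye57 ze24) (ke xe9 ye50 ze38) (ke xe17 ye53 ze31) (ke xe17 ye53 ze34) (ke xe16 ye57 ze30) (ke xe4 ye56 ze17) (ke xe17 ye53 ze39) (ke xe4 ye56 ze18) (ke xe9 ye46 ze52) (ke xe9 ye51 ze8) (ke xe10 ye52 ze61) (ke xe17 ye53 ze44) (ke xe4 ye56 ze24) (ke xe12 ye31 ze59) (ke xe11 ye8 ze18) (ke xe10 ye2 ze43) (ke xe10 ye13 ze25) (ke xe9 ye53 ze13) (ke xe4 ye56 ze28) (ke xe17 ye43 ze27) (ke xe8 ye37 ze40) (ke xe12 ye8 ze35) (ke xe8 ye4 ze60) (ke xe4 ye56 ze35) (ke xe5 ye38 ze37) (ke xe16 ye22 ze29) (ke xe16 ye22 ze37) (ke xe12 ye8 ze37) (ke xe8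 ye12 ze20) (ke xe11 ye27 ze41) (ke xe17 ye53 ze54) (ke xe4 ye56 ze39) (ke xe16 ye35 ze32) (ke xe5 ye34 ze4) (ke xe12 ye10 ze4) (ke xe11 ye21 ze5) (ke xe17 ye38 ze51) (ke xe17 ye53 ze60) (ke xe17 ye54 ze0) (ke xe17 ye54 ze2) (ke xe17 ye54 ze6) (ke xe4 ye56 ze46) (ke xe4 ye56 ze47) (ke xe17 ye37 ze38) (ke xe17 ye54 ze11) (ke xe8 ye42 ze44) (ke xe17 ye54 ze20) (ke xe17 ye54 ze23) (ke xe4 ye56 ze54) (ke xe17 ye54 ze30)) (@D3.rec (fun _ => Pt) (ke xe4 ye56 ze55) (ke xe13 ye40 ze41) (ke xe17 ye54 ze36) (ke xe8 ye43 ze4) (ke xe17 ye54 ze37) (ke xe16 ye15 ze56) (ke xe4 ye56 ze59) (ke xe17 ye54 ze45) (ke xe15 ye6 ze26) (ke xe8 ye43 ze48) (ke xe8 ye2 ze15) (ke xe4 ye57 ze1) (ke xe17 ye54 ze48) (ke xe13 ye55 ze36) (ke xe17 ye54 ze53) (ke xe17 ye54 ze54) (ke xe7 ye2 ze52) (ke xe4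 ye57 ze5) (ke xe17 ye54 ze57) (ke xe17 ye54 ze58) (ke xe17 ye54 ze60) (ke xe4 ye57 ze8) (ke xe14 ye50 ze26) (ke xe4 ye57 ze10) (ke xe17 ye12 ze12) (ke xe7 ye27 ze51) (ke xe7 ye2 ze53) (ke xe15 ye44 ze47) (ke xe4 ye57 ze11) (ke xe17 ye55 ze4) (ke xe4 ye57 ze13) (ke xe11 ye48 ze20) (ke xe17 ye55 ze5) (ke xe17 ye55 ze7) (ke xe4 ye57 ze17) (ke xe17 ye55 ze8) (ke xe17 ye55 ze11) (ke xe4 ye57 ze18) (ke xe12 ye4 ze2) (ke xe4 ye57 ze20) (ke xe17 ye55 ze22) (ke xe17 ye55 ze23) (ke xe4 ye57 ze22) (ke xe12 ye31 ze42) (ke xe4 ye57 ze25) (ke xe7 ye50 ze1) (ke xe4 ye57 ze26) (ke xe12 ye13 ze40) (ke xe4 ye57 ze28) (ke xe7 ye27 ze31) (ke xe17 ye55 ze32) (ke xe17 ye54 ze49) (ke xe4 ye57 ze30) (ke xe13 ye54 ze6) (ke xe17 ye55 ze35) (ke xe17 ye55 ze37) (ke xe5 ye47 ze23) (ke xe13 ye58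 ze25) (ke xe17 ye55 ze40) (ke xe15 ye3 ze43) (ke xe7 ye26 ze33) (ke xe17 ye55 ze44)) (@D3.rec (fun _ => Pt) (ke xe17 ye55 ze46) (ke xe4 ye57 ze35) (ke xe10 ye32 ze40) (ke xe6 ye27 ze60) (ke xe4 ye57 ze36) (ke xe17 ye55 ze55) (ke xe13 ye58 ze58) (ke xe17 ye55 ze54) (ke xe17 ye55 ze59) (ke xe4 ye57 ze38) (ke xe13 ye58 ze43) (ke xe13 ye53 ze2) (ke xe17 ye56 ze6) (ke xe17 ye56 ze10) (ke xe17 ye56 ze13) (ke xe11 ye24 ze14) (ke xe4 ye57 ze40) (ke xe4 ye57 ze41) (ke xe17 ye56 ze18) (ke xe7 ye29 ze15) (ke xe4 ye57 ze45) (ke xe17 ye56 ze21) (ke xe12 ye29 ze21) (ke xe17 ye56 ze22) (ke xe17 ye56 ze23) (ke xe17 ye56 ze20) (ke xe15 ye3 ze41) (ke xe15 ye3 ze42) (ke xe11 ye25 ze60) (ke xe11 ye25 ze61) (ke xe4 ye57 ze48) (ke xe16 ye51 ze48) (ke xe11 ye25 ze54) (ke xe10 ye54 ze43) (ke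 xe11 ye26 ze25) (ke xe10 ye54 ze46) (ke xe5 ye26 ze37) (ke xe9 ye17 ze44) (ke xe6 ye21 ze40) (ke xe11 ye31 ze21) (ke xe15 ye30 ze20) (ke xe17 ye56 ze46) (ke xe16 ye22 ze15) (ke xe4 ye57 ze55) (ke xe16 ye49 ze50) (ke xe15 ye27 ze13) (ke xe10 ye43 ze53) (ke xe4 ye57 ze58) (ke xe17 ye9 ze9) (ke xe5 ye36 ze20) (ke xe4 ye57 ze59) (ke xe5 ye30 ze41) (ke xe9 ye44 ze20) (ke xe4 ye57 ze61) (ke xe17 ye56 ze52) (ke xe17 ye56 ze57) (ke xe17 ye56 ze61) (ke xe4 ye58 ze0) (ke xe17 ye57 ze3) (ke xe17 ye57 ze5) (ke xe4 ye58 ze1) (ke xe17 ye57 ze8)) (@D3.rec (fun _ => Pt) (ke xe17 ye57 ze10) (ke xe4 ye58 ze9) (ke xe17 ye57 ze14) (ke xe8 ye2 ze17) (ke xe17 ye57 ze19) (ke xe17 ye57 ze21) (ke xe4 ye58 ze5) (ke xe15 ye34 ze30) (ke xe4 ye58 ze6) (ke xe13 ye49 ze57) (ke xe4 ye58 ze7) (ke xe4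 ye58 ze8) (ke xe17 ye57 ze35) (ke xe15 ye18 ze15) (ke xe10 ye56 ze58) (ke xe4 ye58 ze10) (ke xe15 ye20 ze53) (ke xe4 ye58 ze11) (ke xe9 ye57 ze2) (ke xe4 ye58 ze13) (ke xe4 ye58 ze15) (ke xe17 ye36 ze13) (ke xe4 ye58 ze20) (ke xe17 ye57 ze43) (ke xe4 ye58 ze21) (ke xe4 ye58 ze22) (ke xe17 ye57 ze48) (ke xe17 ye57 ze49) (ke xe4 ye58 ze26) (ke xe12 ye29 ze41) (ke xe17 ye57 ze50) (ke xe4 ye58 ze25) (ke xe17 ye57 ze51) (ke xe17 ye57 ze52) (ke xe17 ye57 ze53) (ke xe12 ye33 ze40) (ke xe17 ye57 ze54) (ke xe4 ye58 ze28) (ke xe5 ye0 ze3) (ke xe4 ye58 ze31) (ke xe4 ye58 ze32) (ke xe17 ye57 ze57) (ke xe4 ye58 ze35) (ke xe12 ye29 ze45) (ke xe11 ye24 ze17) (ke xe17 ye58 ze1) (ke xe11 ye18 ze4) (ke xe4 ye58 ze37) (ke xe11 ye59 ze17) (ke xe4 ye58 ze38) (ke xe5 ye55 ze36) (ke xe17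 ye58 ze6) (ke xe17 ye58 ze7) (ke xe17 ye58 ze8) (ke xe4 ye58 ze40) (ke xe11 ye45 ze9) (ke xe12 ye29 ze42) (ke xe4 ye58 ze42) (ke xe4 ye58 ze43) (ke xe14 ye4 ze58) (ke xe4 ye58 ze49) (ke xe11 ye58 ze13)) (@D3.rec (fun _ => Pt) (ke xe4 ye58 ze51) (ke xe17 ye58 ze14) (ke xe4 ye58 ze47) (ke xe17 ye58 ze17) (ke xe4 ye58 ze48) (ke xe7 ye26 ze28) (ke xe4 ye58 ze50) (ke xe17 ye58 ze13) (ke xe4 ye58 ze53) (ke xe11 ye21 ze11) (ke xe4 ye58 ze54) (ke xe17 ye58 ze24) (ke xe4 ye58 ze56) (ke xe17 ye58 ze28) (ke xe4 ye58 ze57) (ke xe17 ye58 ze30) (ke xe17 ye58 ze32) (ke xe4 ye58 ze59) (ke xe6 ye15 ze46) (ke xe17 ye58 ze33) (ke xe14 ye20 ze0) (ke xe15 ye30 ze36) (ke xe17 ye58 ze36) (ke xe4 ye58 ze61) (ke xe10 ye49 ze12) (ke xe17 ye58 ze38) (ke xe11 ye56 ze36) (ke xe11 ye39 ze57) (ke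 xe13 ye20 ze35) (ke xe4 ye59 ze0) (ke xe17 ye58 ze43) (ke xe17 ye58 ze46) (ke xe13 ye20 ze36) (ke xe9 ye15 ze23) (ke xe17 ye58 ze49) (ke xe16 ye46 ze8) (ke xe4 ye59 ze3) (ke xe6 ye5 ze39) (ke xe4 ye59 ze8) (ke xe17 ye58 ze54) (ke xe17 ye58 ze55) (ke xe4 ye59 ze6) (ke xe8 ye55 ze56) (ke xe17 ye58 ze58) (ke xe10 ye52 ze11) (ke xe14 ye32 ze53) (ke xe17 ye59 ze5) (ke xe17 ye59 ze7) (ke xe4 ye59 ze9) (ke xe4 ye59 ze10) (ke xe9 ye10 ze60) (ke xe4 ye59 ze11) (ke xe5 ye46 ze61) (ke xe4 ye59 ze13) (ke xe11 ye45 ze15) (ke xe14 ye11 ze17) (ke xe17 ye59 ze15) (ke xe4 ye59 ze16) (ke xe6 ye36 ze37) (ke xe17 ye23 ze47) (ke xe17 ye34 ze18) (ke xe12 ye31 ze41)) (@D3.rec (fun _ => Pt) (ke xe12 ye31 ze43) (ke xe9 ye11 ze41) (ke xe11 ye6 ze40) (ke xe14 ye12 ze52) (ke xe17 ye59 ze29) (ke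 xe11 ye51 ze59) (ke xe12 ye17 ze2) (ke xe17 ye59 ze35) (ke xe4 ye59 ze22) (ke xe12 ye28 ze8) (ke xe4 ye59 ze23) (ke xe9 ye12 ze4) (ke xe4 ye59 ze24) (ke xe17 ye59 ze39) (ke xe17 ye59 ze41) (ke xe4 ye59 ze25) (ke xe9 ye11 ze40) (ke xe12 ye44 ze27) (ke xe12 ye55 ze34) (ke xe12 ye17 ze3) (ke xe6 ye36 ze39) (ke xe16 ye57 ze12) (ke xe17 ye55 ze27) (ke xe8 ye48 ze4) (ke xe17 ye59 ze56) (ke xe17 ye59 ze57) (ke xe4 ye59 ze31) (ke xe12 ye55 ze32) (ke xe11 ye33 ze30) (ke xe9 ye11 ze21) (ke xe17 ye59 ze60) (ke xe17 ye0 ze1) (ke xe4 ye59 ze33) (ke xe4 ye59 ze34) (ke xe18 ye0 ze4) (ke xe12 ye43 ze27) (ke xe17 ye0 ze0) (ke xe9 ye12 ze0) (ke xe17 ye20 ze39) (ke xe6 ye50 ze38) (ke xe12 ye25 ze0) (ke xe18 ye0 ze12) (ke xe18 ye0 ze14) (ke xe18 ye0 ze15) (ke xe18 ye0 ze16) (ke xe4 ye59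 ze39) (ke xe4 ye59 ze40) (ke xe18 ye0 ze23) (ke xe11 ye45 ze17) (ke xe17 ye4 ze48) (ke xe18 ye0 ze29) (ke xe12 ye3 ze9) (ke xe4 ye59 ze42) (ke xe4 ye59 ze43) (ke xe12 ye3 ze5) (ke xe11 ye43 ze52) (ke xe17 ye7 ze25) (ke xe4 ye59 ze45) (ke xe18 ye0 ze34) (ke xe4 ye59 ze46) (ke xe18 ye0 ze37) (ke xe18 ye0 ze40)) (@D3.rec (fun _ => Pt) (ke xe4 ye59 ze51) (ke xe18 ye0 ze45) (ke xe4 ye59 ze48) (ke xe18 ye0 ze51) (ke xe17 ye52 ze29) (ke xe4 ye59 ze49) (ke xe7 ye43 ze55) (ke xe18 ye0 ze60) (ke xe14 ye46 ze57) (ke xe18 ye1 ze5) (ke xe18 ye0 ze43) (ke xe10 ye35 ze32) (ke xe14 ye11 ze33) (ke xe18 ye1 ze12) (ke xe18 ye0 ze48) (ke xe6 ye47 ze17) (ke xe6 ye42 ze11) (ke xe4 ye59 ze54) (ke xe9 ye59 ze51) (ke xe18 ye1 ze24) (ke xe18 ye1 ze27) (ke xe4 ye59 ze55) (ke xe18 ye1 ze29) (ke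 xe5 ye41 ze9) (ke xe6 ye30 ze6) (ke xe9 ye18 ze10) (ke xe9 ye8 ze0) (ke xe6 ye25 ze36) (ke xe18 ye1 ze33) (ke xe18 ye1 ze35) (ke xe4 ye59 ze60) (ke xe18 ye1 ze36) (ke xe18 ye1 ze38) (ke xe18 ye1 ze39) (ke xe5 ye0 ze0) (ke xe18 ye1 ze41) (ke xe10 ye52 ze55) (ke xe5 ye0 ze1) (ke xe9 ye44 ze13) (ke xe6 ye42 ze23) (ke xe5 ye0 ze7) (ke xe12 ye49 ze53) (ke xe12 ye49 ze54) (ke xe18 ye1 ze46) (ke xe18 ye1 ze49) (ke xe5 ye0 ze5) (ke xe18 ye1 ze55) (ke xe5 ye0 ze6) (ke xe18 ye1 ze61) (ke xe11 ye18 ze48) (ke xe18 ye1 ze42) (ke xe18 ye2 ze6) (ke xe8 ye49 ze54) (ke xe5 ye0 ze9) (ke xe5 ye0 ze10) (ke xe12 ye56 ze43) (ke xe5 ye41 ze4) (ke xe16 ye57 ze34) (ke xe6 ye50 ze17) (ke xe5 ye40 ze42) (ke xe6 ye47 ze18) (ke xe11 ye7 ze14)) (@D3.rec (fun _ => Pt) (ke xe16 ye51 ze37) (ke xe18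 ye2 ze12) (ke xe8 ye49 ze50) (ke xe5 ye0 ze19) (ke xe17 ye13 ze7) (ke xe5 ye0 ze22) (ke xe5 ye0 ze27) (ke xe18 ye2 ze16) (ke xe9 ye44 ze21) (ke xe11 ye2 ze29) (ke xe5 ye31 ze56) (ke xe18 ye2 ze21) (ke xe5 ye0 ze25) (ke xe5 ye52 ze29) (ke xe11 ye51 ze58) (ke xe6 ye38 ze47) (ke xe18 ye2 ze28) (ke xe16 ye13 ze26) (ke xe18 ye2 ze33) (ke xe5 ye0 ze28) (ke xe5 ye5 ze7) (ke xe6 ye16 ze27) (ke xe5 ye12 ze26) (ke xe17 ye57 ze32) (ke xe18 ye2 ze36) (ke xe5 ye0 ze32) (ke xe5 ye37 ze12) (ke xe5 ye0 ze35) (ke xe5 ye0 ze36) (ke xe15 ye42 ze40) (ke xe18 ye2 ze43) (ke xe5 ye0 ze37) (ke xe18 ye2 ze48) (ke xe18 ye2 ze49) (ke xe5 ye0 ze38) (ke xe18 ye2 ze54) (ke xe18 ye2 ze57) (ke xe8 ye37 ze58) (ke xe16 ye10 ze18) (ke xe14 ye9 ze44) (ke xe14 ye9 ze48) (ke xe5 ye0 ze40) (ke xe8 ye38 ze33)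 (ke xe18 ye3 ze3) (ke xe18 ye3 ze4) (ke xe5 ye0 ze42) (ke xe16 ye4 ze45) (ke xe18 ye3 ze9) (ke xe8 ye38 ze43) (ke xe18 ye3 ze14) (ke xe7 ye29 ze57) (ke xe5 ye0 ze44) (ke xe10 ye8 ze8) (ke xe10 ye8 ze3) (ke xe17 ye39 ze59) (ke xe16 ye16 ze29) (ke xe18 ye3 ze28) (ke xe18 ye3 ze29) (ke xe5 ye0 ze47) (ke xe18 ye3 ze33) (ke xe18 ye3 ze34) (ke xe5 ye0 ze49)) (@D3.rec (fun _ => Pt) (ke xe18 ye3 ze40) (ke xe5 ye1 ze46) (ke xe18 ye3 ze45) (ke xe18 ye3 ze46) (ke xe5 ye0 ze51) (ke xe18 ye3 ze53) (ke xe18 ye3 ze54) (ke xe5 ye0 ze52) (ke xe18 ye3 ze59) (ke xe18 ye4 ze2) (ke xe8 ye4 ze29) (ke xe17 ye37 ze61) (ke xe18 ye4 ze7) (ke xe16 ye16 ze21) (ke xe18 ye4 ze10) (ke xe5 ye0 ze54) (ke xe5 ye0 ze55) (ke xe14 ye34 ze32) (ke xe5 ye0 ze58) (ke xe5 ye0 ze59) (ke xe10 ye20 ze40) (ke xe14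 ye14 ze46) (ke xe15 ye40 ze37) (ke xe5 ye0 ze60) (ke xe10 ye7 ze24) (ke xe18 ye4 ze25) (ke xe15 ye30 ze56) (ke xe18 ye4 ze29) (ke xe5 ye1 ze1) (ke xe15 ye9 ze19) (ke xe18 ye4 ze35) (ke xe18 ye4 ze36) (ke xe5 ye1 ze3) (ke xe9 ye54 ze50) (ke xe10 ye7 ze31) (ke xe8 ye4 ze6) (ke xe18 ye4 ze48) (ke xe18 ye4 ze49) (ke xe5 ye1 ze5) (ke xe18 ye4 ze53) (ke xe15 ye6 ze46) (ke xe5 ye1 ze7) (ke xe17 ye41 ze24) (ke xe9 ye34 ze2) (ke xe5 ye1 ze8) (ke xe18 ye4 ze59) (ke xe18 ye5 ze1) (ke xe18 ye5 ze3) (ke xe18 ye5 ze7) (ke xe5 ye1 ze9) (ke xe11 ye59 ze46) (ke xe5 ye1 ze10) (ke xe18 ye5 ze12) (ke xe14 ye57 ze26) (ke xe15 ye19 ze51) (ke xe18 ye5 ze14) (ke xe5 ye1 ze13) (ke xe5 ye1 ze15) (ke xe5 ye1 ze16) (ke xe13 ye40 ze60) (ke xe5 ye2 ze50) (ke xe5 ye1 ze20)) (@D3.rec (fun _ => Pt)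 (ke xe17 ye39 ze43) (ke xe16 ye16 ze11) (ke xe5 ye1 ze21) (ke xe5 ye1 ze23) (ke xe18 ye5 ze23) (ke xe18 ye5 ze25) (ke xe8 ye8 ze9) (ke xe16 ye8 ze28) (ke xe5 ye1 ze25) (ke xe18 ye5 ze34) (ke xe16 ye19 ze16) (ke xe18 ye5 ze36) (ke xe5 ye1 ze27) (ke xe9 ye44 ze29) (ke xe5 ye38 ze60) (ke xe5 ye1 ze30) (ke xe18 ye5 ze41) (ke xe18 ye5 ze46) (ke xe7 ye33 ze6) (ke xe6 ye47 ze1) (ke xe10 ye12 ze34) (ke xe16 ye22 ze5) (ke xe7 ye32 ze44) (ke xe18 ye5 ze54) (ke xe5 ye1 ze33) (ke xe18 ye5 ze58) (ke xe10 ye8 ze21) (ke xe18 ye5 ze61) (ke xe12 ye1 ze47) (ke xe5 ye1 ze34) (ke xe17 ye36 ze53) (ke xe8 ye1 ze38) (ke xe5 ye1 ze35) (ke xe10 ye8 ze45) (ke xe18 ye6 ze13) (ke xe18 ye6 ze7) (ke xe7 ye33 ze31) (ke xe10 ye8 ze49) (ke xe9 ye37 ze47) (ke xe18 ye6 ze20) (ke xe7 ye59 ze5) (ke xe5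 ye1 ze38) (ke xe16 ye21 ze52) (ke xe10 ye11 ze50) (ke xe17 ye45 ze37) (ke xe10 ye8 ze39) (ke xe14 ye59 ze12) (ke xe14 ye15 ze20) (ke xe18 ye6 ze29) (ke xe5 ye1 ze41) (ke xe5 ye1 ze42) (ke xe14 ye57 ze58) (ke xe10 ye8 ze28) (ke xe18 ye6 ze31) (ke xe18 ye3 ze38) (ke xe18 ye6 ze39) (ke xe5 ye1 ze44) (ke xe10 ye8 ze32) (ke xe18 ye6 ze45) (ke xe10 ye8 ze51) (ke xe18 ye6 ze51) (ke xe18 ye6 ze54)) (@D3.rec (fun _ => Pt) (ke xe18 ye6 ze57) (ke xe5 ye1 ze47) (ke xe18 ye6 ze61) (ke xe18 ye7 ze1) (ke xe5 ye1 ze48) (ke xe18 ye7 ze4) (ke xe18 ye3 ze55) (ke xe10 ye8 ze57) (ke xe18 ye7 ze16) (ke xe18 ye7 ze18) (ke xe18 ye7 ze22) (ke xe5 ye1 ze50) (ke xe5 ye1 ze51) (ke xe18 ye7 ze27) (ke xe18 ye3 ze48) (ke xe18 ye7 ze30) (ke xe18 ye7 ze33) (ke xe18 ye7 ze35) (ke xe18 ye7 ze37) (ke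 xe18 ye7 ze40) (ke xe5 ye1 ze53) (ke xe18 ye7 ze43) (ke xe13 ye20 ze2) (ke xe18 ye7 ze46) (ke xe18 ye7 ze48) (ke xe5 ye1 ze54) (ke xe18 ye7 ze53) (ke xe18 ye7 ze56) (ke xe18 ye7 ze59) (ke xe18 ye8 ze1) (ke xe5 ye1 ze56) (ke xe18 ye8 ze5) (ke xe5 ye1 ze57) (ke xe18 ye8 ze11) (ke xe5 ye1 ze58) (ke xe18 ye8 ze16) (ke xe5 ye1 ze59) (ke xe16 ye19 ze13) (ke xe5 ye1 ze60) (ke xe18 ye8 ze31) (ke xe18 ye8 ze34) (ke xe18 ye8 ze35) (ke xe5 ye2 ze0) (ke xe18 ye8 ze41) (ke xe15 ye19 ze49) (ke xe18 ye8 ze38) (ke xe18 ye8 ze47) (ke xe18 ye8 ze50) (ke xe9 ye55 ze25) (ke xe5 ye2 ze2) (ke xe9 ye52 ze33) (ke xe18 ye8 ze56) (ke xe8 ye43 ze38) (ke xe5 ye2 ze4) (ke xe17 ye48 ze0) (ke xe10 ye9 ze52) (ke xe5 ye2 ze60) (ke xe10 ye25 ze5) (ke xe18 ye9 ze6) (ke xe18 ye9 ze7) (ke xe5 ye2 ze7)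 (ke xe10 ye9 ze43)) (@D3.rec (fun _ => Pt) (ke xe10 ye10 ze58) (ke xe18 ye9 ze14) (ke xe16 ye21 ze43) (ke xe5 ye2 ze9) (ke xe18 ye9 ze17) (ke xe18 ye9 ze18) (ke xe5 ye2 ze10) (ke xe18 ye9 ze24) (ke xe18 ye9 ze27) (ke xe18 ye9 ze29) (ke xe18 ye9 ze33) (ke xe5 ye2 ze11) (ke xe5 ye2 ze12) (ke xe10 ye10 ze9) (ke xe18 ye9 ze45) (ke xe18 ye9 ze39) (ke xe10 ye11 ze8) (ke xe10 ye10 ze13) (ke xe10 ye10 ze14) (ke xe18 ye9 ze53) (ke xe18 ye9 ze56) (ke xe5 ye2 ze15) (ke xe17 ye30 ze32) (ke xe13 ye26 ze27) (ke xe5 ye2 ze17) (ke xe9 ye54 ze48) (ke xe10 ye10 ze21) (ke xe18 ye10 ze5) (ke xe18 ye10 ze8) (ke xe18 ye10 ze9) (ke xe12 ye44 ze4) (ke xe5 ye2 ze19) (ke xe5 ye2 ze20) (ke xe6 ye29 ze11) (ke xe10 ye10 ze27) (ke xe14 ye15 ze54) (ke xe5 ye3 ze13) (ke xe10 ye0 ze38) (ke xe10 ye0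 ze40) (ke xe10 ye2 ze17) (ke xe18 ye10 ze18) (ke xe17 ye51 ze17) (ke xe18 ye10 ze20) (ke xe12 ye43 ze1) (ke xe5 ye2 ze25) (ke xe12 ye43 ze2) (ke xe9 ye40 ze52) (ke xe18 ye10 ze24) (ke xe18 ye10 ze25) (ke xe9 ye24 ze43) (ke xe12 ye36 ze52) (ke xe5 ye2 ze28) (ke xe5 ye2 ze29) (ke xe16 ye30 ze32) (ke xe5 ye3 ze10) (ke xe18 ye10 ze32) (ke xe18 ye10 ze35) (ke xe9 ye42 ze52) (ke xe5 ye22 ze46) (ke xe16 ye49 ze17) (ke xe5 ye2 ze32) (ke xe13 ye14 ze25)) (@D3.rec (fun _ => Pt) (ke xe18 ye10 ze44) (ke xe17 ye22 ze54) (ke xe5 ye2 ze33) (ke xe18 ye10 ze48) (ke xe18 ye10 ze51) (ke xe9 ye11 ze18) (ke xe5 ye2 ze34) (ke xe5 ye2 ze35) (ke xe5 ye51 ze14) (ke xe18 ye10 ze56) (ke xe5 ye2 ze36) (ke xe10 ye10 ze44) (ke xe18 ye11 ze0) (ke xe18 ye11 ze2) (ke xe12 ye15 ze3) (ke xe10 ye11 ze27)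 (ke xe10 ye2 ze36) (ke xe17 ye33 ze30) (ke xe5 ye2 ze40) (ke xe10 ye10 ze48) (ke xe10 ye10 ze49) (ke xe18 ye11 ze13) (ke xe5 ye2 ze44) (ke xe18 ye11 ze18) (ke xe18 ye11 ze19) (ke xe5 ye2 ze46) (ke xe18 ye11 ze25) (ke xe18 ye11 ze26) (ke xe5 ye2 ze48) (ke xe8 ye43 ze50) (ke xe18 ye11 ze32) (ke xe5 ye2 ze51) (ke xe18 ye11 ze39) (ke xe18 ye11 ze40) (ke xe5 ye2 ze53) (ke xe10 ye10 ze57) (ke xe9 ye40 ze10) (ke xe18 ye11 ze51) (ke xe18 ye11 ze52) (ke xe5 ye2 ze55) (ke xe18 ye11 ze58) (ke xe18 ye11 ze59) (ke xe5 ye2 ze56) (ke xe18 ye12 ze3) (ke xe18 ye12 ze6) (ke xe18 ye12 ze8) (ke xe18 ye12 ze12) (ke xe5 ye2 ze57) (ke xe5 ye2 ze58) (ke xe18 ye9 ze16) (ke xe18 ye12 ze18) (ke xe10 ye10 ze12) (ke xe18 ye5 ze16) (ke xe18 ye8 ze60) (ke xe9 ye43 ze24) (ke xe5 ye36 ze16) (ke xe5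 ye3 ze3) (ke xe18 ye12 ze34) (ke xe18 ye12 ze35) (ke xe18 ye12 ze40) (ke xe12 ye36 ze60) (ke xe5 ye3 ze4)) (@D3.rec (fun _ => Pt) (ke xe11 ye46 ze0) (ke xe18 ye12 ze46) (ke xe9 ye47 ze18) (ke xe5 ye3 ze5) (ke xe18 ye12 ze50) (ke xe5 ye3 ze6) (ke xe12 ye35 ze8) (ke xe7 ye31 ze22) (ke xe18 ye12 ze54) (ke xe5 ye3 ze7) (ke xe13 ye30 ze18) (ke xe18 ye12 ze56) (ke xe10 ye10 ze46) (ke xe12 ye15 ze13) (ke xe11 ye51 ze24) (ke xe5 ye3 ze11) (ke xe10 ye10 ze47) (ke xe18 ye10 ze28) (ke xe17 ye56 ze51) (ke xe18 ye10 ze12) (ke xe16 ye57 ze20) (ke xe5 ye35 ze29) (ke xe18 ye13 ze6) (ke xe5 ye3 ze17) (ke xe18 ye13 ze9) (ke xe10 ye11 ze41) (ke xe18 ye13 ze12) (ke xe18 ye13 ze16) (ke xe5 ye3 ze18) (ke xe18 ye13 ze21) (ke xe5 ye3 ze19) (ke xe18 ye13 ze27) (ke xe18 ye13 ze29) (ke xe18 ye13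 ze23) (ke xe10 ye12 ze30) (ke xe10 ye8 ze37) (ke xe18 ye13 ze37) (ke xe9 ye38 ze51) (ke xe5 ye3 ze21) (ke xe18 ye13 ze40) (ke xe18 ye13 ze43) (ke xe8 ye11 ze52) (ke xe5 ye3 ze22) (ke xe18 ye13 ze46) (ke xe18 ye13 ze48) (ke xe5 ye3 ze24) (ke xe10 ye11 ze59) (ke xe10 ye11 ze60) (ke xe6 ye44 ze45) (ke xe5 ye3 ze26) (ke xe6 ye44 ze37) (ke xe14 ye6 ze49) (ke xe16 ye7 ze51) (ke xe18 ye14 ze1) (ke xe6 ye44 ze55) (ke xe10 ye12 ze45) (ke xe18 ye14 ze6) (ke xe5 ye3 ze29) (ke xe14 ye12 ze22) (ke xe5 ye3 ze30) (ke xe5 ye3 ze34) (ke xe10 ye12 ze46)) (@D3.rec (fun _ => Pt) (ke xe9 ye20 ze29) (ke xe6 ye12 ze42) (ke xe17 ye34 ze5) (ke xe11 ye24 ze2) (ke xe12 ye24 ze47) (ke xe10 ye12 ze49) (ke xe9 ye38 ze57) (ke xe10 ye12 ze50) (ke xe6 ye44 ze8) (ke xe9 ye38 ze58) (ke xe18 ye14 ze17)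 (ke xe6 ye12 ze6) (ke xe5 ye3 ze39) (ke xe18 ye14 ze22) (ke xe18 ye14 ze23) (ke xe5 ye3 ze42) (ke xe17 ye51 ze0) (ke xe10 ye11 ze37) (ke xe18 ye14 ze31) (ke xe5 ye3 ze44) (ke xe10 ye12 ze21) (ke xe18 ye14 ze35) (ke xe18 ye14 ze37) (ke xe18 ye14 ze41) (ke xe5 ye3 ze45) (ke xe18 ye14 ze46) (ke xe18 ye14 ze48) (ke xe5 ye3 ze46) (ke xe18 ye14 ze54) (ke xe17 ye46 ze5) (ke xe18 ye14 ze51) (ke xe10 ye11 ze49) (ke xe18 ye14 ze60) (ke xe18 ye15 ze2) (ke xe5 ye3 ze48) (ke xe10 ye8 ze17) (ke xe17 ye46 ze9) (ke xe10 ye12 ze36) (ke xe9 ye40 ze27) (ke xe18 ye15 ze8) (ke xe18 ye15 ze10) (ke xe5 ye3 ze52) (ke xe18 ye15 ze12) (ke xe5 ye3 ze53) (ke xe6 ye36 ze20) (ke xe17 ye59 ze18) (ke xe11 ye21 ze50) (ke xe5 ye3 ze54) (ke xe18 ye15 ze19) (ke xe18 ye13 ze51) (ke xe10 ye42 ze16) (ke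 xe5 ye3 ze57) (ke xe9 ye43 ze18) (ke xe17 ye50 ze21) (ke xe5 ye3 ze60) (ke xe10 ye12 ze12) (ke xe10 ye12 ze14) (ke xe10 ye12 ze55) (ke xe7 ye13 ze36) (ke xe5 ye4 ze3) (ke xe15 ye7 ze40) (ke xe10 ye12 ze61)) (@D3.rec (fun _ => Pt) (ke xe18 ye15 ze28) (ke xe15 ye8 ze59) (ke xe6 ye36 ze1) (ke xe10 ye13 ze24) (ke xe18 ye15 ze30) (ke xe5 ye4 ze7) (ke xe5 ye57 ze49) (ke xe5 ye4 ze8) (ke xe18 ye15 ze34) (ke xe6 ye28 ze23) (ke xe5 ye4 ze10) (ke xe18 ye15 ze31) (ke xe18 ye15 ze37) (ke xe11 ye12 ze32) (ke xe18 ye15 ze39) (ke xe10 ye13 ze10) (ke xe10 ye13 ze11) (ke xe12 ye2 ze43) (ke xe17 ye50 ze24) (ke xe18 ye15 ze46) (ke xe5 ye4 ze13) (ke xe18 ye15 ze48) (ke xe5 ye4 ze14) (ke xe10 ye13 ze17) (ke xe18 ye15 ze54) (ke xe18 ye15 ze56) (ke xe5 ye4 ze15) (ke xe11 ye44 ze1) (ke xe18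 ye16 ze1) (ke xe5 ye4 ze16) (ke xe18 ye16 ze5) (ke xe13 ye14 ze7) (ke xe6 ye47 ze45) (ke xe10 ye13 ze6) (ke xe5 ye4 ze21) (ke xe18 ye16 ze9) (ke xe18 ye16 ze11) (ke xe6 ye39 ze22) (ke xe5 ye4 ze22) (ke xe10 ye13 ze31) (ke xe18 ye16 ze15) (ke xe18 ye16 ze18) (ke xe18 ye16 ze19) (ke xe5 ye4 ze23) (ke xe18 ye16 ze24) (ke xe18 ye16 ze27) (ke xe10 ye13 ze38) (ke xe18 ye16 ze32) (ke xe18 ye16 ze35) (ke xe5 ye4 ze24) (ke xe18 ye16 ze40) (ke xe9 ye50 ze18) (ke xe5 ye4 ze25) (ke xe18 ye16 ze44) (ke xe10 ye13 ze61) (ke xe18 ye16 ze42) (ke xe18 ye15 ze22) (ke xe5 ye4 ze27) (ke xe10 ye13 ze51) (ke xe18 ye16 ze47) (ke xe18 ye16 ze50) (ke xe18 ye16 ze53))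
def f_e_10 : D2 → D3 → Pt := @D2.rec (fun _ => D3 → Pt) (@D3.rec (fun _ => Pt) (ke xe5 ye4 ze28) (ke xe18 ye16 ze55) (ke xe18 ye16 ze56) (ke xe5 ye4 ze29) (ke xe5 ye4 ze30) (ke xe10 ye13 ze47) (ke xe18 ye16 ze61) (ke xe18 ye14 ze15) (ke xe9 ye30 ze7) (ke xe5 ye4 ze32) (ke xe18 ye17 ze4) (ke xe5 ye51 ze36) (ke xe5 ye4 ze33) (ke xe12 ye29 ze46) (ke xe5 ye4 ze34) (ke xe6 ye8 ze43) (ke xe18 ye17 ze9) (ke xe17 ye56 ze5) (ke xe11 ye24 ze28) (ke xe10 ye18 ze61) (ke xe18 ye17 ze15) (ke xe17 ye50 ze18) (ke xe6 ye28 ze20) (ke xe18 ye17 ze22) (ke xe11 ye29 ze5) (ke xe10 ye14 ze29) (ke xe18 ye17 ze24) (ke xe5 ye4 ze39) (ke xe12 ye2 ze2) (ke xe11 ye51 ze0) (ke xe10 ye14 ze24) (ke xe12 ye24 ze14) (ke xe5 ye4 ze41) (ke xe18 ye17 ze31) (ke xe6 ye18 ze8) (ke xe5 ye4 ze42) (ke xe16 ye46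 ze26) (ke xe17 ye51 ze3) (ke xe9 ye55 ze37) (ke xe17 ye52 ze55) (ke xe9 ye55 ze38) (ke xe18 ye17 ze39) (ke xe5 ye4 ze49) (ke xe9 ye41 ze60) (ke xe18 ye17 ze46) (ke xe5 ye4 ze51) (ke xe5 ye22 ze38) (ke xe18 ye17 ze51) (ke xe10 ye15 ze40) (ke xe18 ye17 ze56) (ke xe18 ye17 ze57) (ke xe5 ye4 ze53) (ke xe16 ye13 ze24) (ke xe10 ye37 ze22) (ke xe8 ye41 ze25) (ke xe5 ye4 ze55) (ke xe18 ye18 ze5) (ke xe18 ye18 ze6) (ke xe5 ye4 ze56) (ke xe18 ye18 ze12) (ke xe18 ye18 ze13) (ke xe5 ye4 ze58)) (@D3.rec (fun _ => Pt) (ke xe16 ye50 ze50) (ke xe18 ye18 ze20) (ke xe18 ye18 ze22) (ke xe18 ye18 ze25) (ke xe7 ye46 ze12) (ke xe18 ye18 ze30) (ke xe5 ye4 ze60) (ke xe5 ye4 ze61) (ke xe5 ye35 ze58) (ke xe18 ye18 ze40) (ke xe18 ye18 ze36) (ke xe10 ye15 ze58) (ke xe10 ye47 ze25) (ke xe18 ye18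 ze44) (ke xe18 ye18 ze46) (ke xe5 ye5 ze2) (ke xe5 ye5 ze4) (ke xe7 ye56 ze12) (ke xe18 ye18 ze50) (ke xe5 ye5 ze6) (ke xe18 ye18 ze55) (ke xe5 ye5 ze8) (ke xe8 ye0 ze61) (ke xe7 ye14 ze27) (ke xe11 ye6 ze49) (ke xe18 ye18 ze60) (ke xe5 ye5 ze10) (ke xe13 ye27 ze57) (ke xe18 ye19 ze4) (ke xe5 ye5 ze11) (ke xe18 ye19 ze6) (ke xe18 ye19 ze9) (ke xe5 ye5 ze14) (ke xe18 ye19 ze16) (ke xe5 ye5 ze15) (ke xe13 ye48 ze9) (ke xe18 ye19 ze26) (ke xe10 ye16 ze23) (ke xe5 ye5 ze17) (ke xe18 ye19 ze32) (ke xe11 ye36 ze32) (ke xe5 ye5 ze18) (ke xe10 ye29 ze13) (ke xe10 ye14 ze46) (ke xe5 ye6 ze13) (ke xe18 ye19 ze43) (ke xe18 ye19 ze44) (ke xe5 ye5 ze20) (ke xe17 ye23 ze8) (ke xe16 ye23 ze54) (ke xe5 ye5 ze22) (ke xe18 ye19 ze52) (ke xe18 ye19 ze53) (ke xe5 ye5 ze23) (ke xe18 ye19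 ze55) (ke xe18 ye19 ze57) (ke xe18 ye19 ze58) (ke xe5 ye5 ze24) (ke xe18 ye19 ze61) (ke xe5 ye5 ze25) (ke xe10 ye14 ze59) (ke xe18 ye20 ze5)) (@D3.rec (fun _ => Pt) (ke xe18 ye20 ze0) (ke xe9 ye3 ze5) (ke xe10 ye15 ze1) (ke xe10 ye15 ze2) (ke xe11 ye11 ze48) (ke xe5 ye5 ze28) (ke xe18 ye20 ze18) (ke xe18 ye20 ze19) (ke xe5 ye5 ze30) (ke xe10 ye22 ze4) (ke xe10 ye15 ze6) (ke xe5 ye6 ze22) (ke xe10 ye55 ze48) (ke xe18 ye20 ze28) (ke xe18 ye20 ze29) (ke xe5 ye5 ze32) (ke xe6 ye29 ze4) (ke xe9 ye55 ze39) (ke xe5 ye6 ze23) (ke xe10 ye23 ze21) (ke xe10 ye25 ze8) (ke xe10 ye54 ze28) (ke xe17 ye51 ze61) (ke xe10 ye55 ze50) (ke xe18 ye20 ze39) (ke xe18 ye20 ze40) (ke xe5 ye5 ze40) (ke xe9 ye41 ze23) (ke xe18 ye20 ze46) (ke xe5 ye5 ze41) (ke xe5 ye5 ze42) (ke xe10 ye15 ze17)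 (ke xe18 ye20 ze57) (ke xe12 ye2 ze41) (ke xe10 ye16 ze61) (ke xe7 ye32 ze37) (ke xe9 ye56 ze16) (ke xe18 ye21 ze1) (ke xe5 ye5 ze48) (ke xe18 ye21 ze2) (ke xe5 ye5 ze49) (ke xe11 ye30 ze61) (ke xe5 ye50 ze13) (ke xe9 ye44 ze27) (ke xe12 ye15 ze23) (ke xe10 ye4 ze58) (ke xe11 ye35 ze60) (ke xe10 ye4 ze29) (ke xe9 ye28 ze29) (ke xe8 ye59 ze45) (ke xe10 ye4 ze34) (ke xe18 ye21 ze8) (ke xe5 ye5 ze57) (ke xe18 ye21 ze10) (ke xe5 ye5 ze58) (ke xe18 ye21 ze13) (ke xe18 ye21 ze17) (ke xe5 ye5 ze60) (ke xe14 ye10 ze55) (ke xe18 ye21 ze27) (ke xe10 ye17 ze15) (ke xe18 ye21 ze30)) (@D3.rec (fun _ => Pt) (ke xe12 ye32 ze54) (ke xe11 ye16 ze27) (ke xe5 ye6 ze0) (ke xe18 ye21 ze34) (ke xe17 ye8 ze54) (ke xe5 ye6 ze1) (ke xe10 ye39 ze38) (ke xe5 ye6 ze5) (ke xe18 ye21 ze42) (ke xe18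 ye21 ze43) (ke xe5 ye6 ze6) (ke xe10 ye16 ze30) (ke xe8 ye52 ze30) (ke xe9 ye3 ze4) (ke xe8 ye43 ze35) (ke xe18 ye21 ze50) (ke xe11 ye15 ze46) (ke xe5 ye6 ze9) (ke xe7 ye56 ze18) (ke xe6 ye58 ze27) (ke xe18 ye21 ze53) (ke xe18 ye21 ze55) (ke xe5 ye6 ze10) (ke xe5 ye6 ze11) (ke xe18 ye19 ze51) (ke xe18 ye21 ze60) (ke xe10 ye15 ze0) (ke xe18 ye19 ze29) (ke xe18 ye19 ze36) (ke xe8 ye55 ze38) (ke xe5 ye28 ze24) (ke xe5 ye6 ze16) (ke xe16 ye37 ze31) (ke xe18 ye22 ze12) (ke xe18 ye22 ze14) (ke xe17 ye50 ze47) (ke xe11 ye23 ze32) (ke xe12 ye37 ze18) (ke xe5 ye6 ze17) (ke xe12 ye22 ze14) (ke xe6 ye58 ze15) (ke xe9 ye25 ze32) (ke xe5 ye6 ze18) (ke xe5 ye6 ze19) (ke xe18 ye20 ze42) (ke xe10 ye15 ze20) (ke xe5 ye15 ze29) (ke xe10 ye24 ze36) (ke xe18 ye20 ze22) (ke xe8 ye59 ze48)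 (ke xe5 ye27 ze41) (ke xe5 ye6 ze27) (ke xe5 ye56 ze58) (ke xe5 ye6 ze28) (ke xe5 ye6 ze30) (ke xe18 ye22 ze30) (ke xe5 ye6 ze33) (ke xe18 ye22 ze33) (ke xe18 ye22 ze35) (ke xe18 ye22 ze36) (ke xe5 ye6 ze36) (ke xe17 ye3 ze9)) (@D3.rec (fun _ => Pt) (ke xe9 ye11 ze1) (ke xe5 ye6 ze37) (ke xe5 ye6 ze39) (ke xe18 ye22 ze41) (ke xe5 ye6 ze40) (ke xe6 ye2 ze44) (ke xe10 ye4 ze43) (ke xe18 ye22 ze43) (ke xe18 ye22 ze45) (ke xe18 ye22 ze47) (ke xe5 ye6 ze42) (ke xe18 ye22 ze52) (ke xe5 ye6 ze44) (ke xe18 ye22 ze57) (ke xe5 ye6 ze45) (ke xe18 ye22 ze61) (ke xe18 ye23 ze1) (ke xe18 ye23 ze4) (ke xe5 ye6 ze46) (ke xe18 ye23 ze6) (ke xe10 ye17 ze38) (ke xe9 ye24 ze33) (ke xe18 ye23 ze9) (ke xe5 ye6 ze49) (ke xe11 ye38 ze36) (ke xe11 ye49 ze33) (ke xe10 ye17 ze47) (ke xe12 ye23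 ze43) (ke xe11 ye50 ze30) (ke xe10 ye2 ze47) (ke xe18 ye23 ze17) (ke xe17 ye19 ze21) (ke xe5 ye6 ze53) (ke xe11 ye58 ze35) (ke xe10 ye2 ze50) (ke xe9 ye15 ze35) (ke xe5 ye6 ze55) (ke xe11 ye48 ze17) (ke xe12 ye14 ze25) (ke xe9 ye18 ze7) (ke xe12 ye10 ze50) (ke xe13 ye1 ze19) (ke xe5 ye7 ze2) (ke xe10 ye4 ze6) (ke xe17 ye19 ze33) (ke xe11 ye30 ze56) (ke xe5 ye7 ze3) (ke xe5 ye7 ze4) (ke xe11 ye18 ze60) (ke xe5 ye7 ze5) (ke xe18 ye23 ze32) (ke xe10 ye57 ze1) (ke xe6 ye46 ze22) (ke xe10 ye54 ze45) (ke xe18 ye23 ze34) (ke xe17 ye5 ze48) (ke xe5 ye7 ze8) (ke xe12 ye30 ze16) (ke xe10 ye2 ze45) (ke xe5 ye47 ze40) (ke xe5 ye7 ze10) (ke xe18 ye23 ze38)) (@D3.rec (fun _ => Pt) (ke xe18 ye23 ze40) (ke xe11 ye24 ze48) (ke xe5 ye7 ze14) (ke xe18 ye23 ze43) (ke xe6 ye44 ze52) (ke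 xe18 ye23 ze45) (ke xe18 ye23 ze47) (ke xe18 ye23 ze52) (ke xe5 ye7 ze19) (ke xe7 ye24 ze58) (ke xe6 ye25 ze51) (ke xe11 ye24 ze56) (ke xe11 ye0 ze22) (ke xe5 ye7 ze25) (ke xe12 ye5 ze26) (ke xe9 ye27 ze37) (ke xe16 ye30 ze29) (ke xe5 ye7 ze26) (ke xe12 ye30 ze15) (ke xe9 ye5 ze30) (ke xe10 ye18 ze28) (ke xe18 ye24 ze2) (ke xe5 ye7 ze30) (ke xe18 ye24 ze3) (ke xe5 ye7 ze31) (ke xe13 ye27 ze34) (ke xe16 ye15 ze30) (ke xe5 ye7 ze33) (ke xe13 ye1 ze1) (ke xe18 ye24 ze8) (ke xe7 ye26 ze43) (ke xe18 ye24 ze10) (ke xe5 ye7 ze37) (ke xe18 ye24 ze13) (ke xe18 ye24 ze16) (ke xe18 ye24 ze19) (ke xe12 ye20 ze43) (ke xe5 ye7 ze40) (ke xe18 ye24 ze24) (ke xe11 ye29 ze54) (ke xe5 ye7 ze43) (ke xe18 ye23 ze59) (ke xe5 ye7 ze42) (ke xe18 ye24 ze26) (ke xe18 ye24 ze29) (ke xe7 ye34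 ze21) (ke xe5 ye7 ze45) (ke xe18 ye24 ze34) (ke xe5 ye7 ze46) (ke xe7 ye34 ze22) (ke xe5 ye7 ze47) (ke xe13 ye1 ze30) (ke xe17 ye56 ze40) (ke xe18 ye24 ze40) (ke xe5 ye7 ze49) (ke xe18 ye24 ze43) (ke xe17 ye5 ze25) (ke xe6 ye35 ze44) (ke xe18 ye24 ze50) (ke xe5 ye7 ze50) (ke xe11 ye29 ze19) (ke xe18 ye24 ze51)) (@D3.rec (fun _ => Pt) (ke xe11 ye49 ze29) (ke xe18 ye24 ze52) (ke xe18 ye24 ze55) (ke xe5 ye7 ze52) (ke xe17 ye16 ze42) (ke xe6 ye28 ze52) (ke xe18 ye25 ze0) (ke xe12 ye59 ze58) (ke xe5 ye7 ze53) (ke xe18 ye25 ze8) (ke xe18 ye25 ze11) (ke xe11 ye25 ze45) (ke xe18 ye25 ze13) (ke xe5 ye7 ze55) (ke xe17 ye42 ze21) (ke xe5 ye7 ze56) (ke xe18 ye24 ze38) (ke xe18 ye24 ze41) (ke xe18 ye25 ze20) (ke xe18 ye25 ze21) (ke xe18 ye25 ze22) (ke xe5 ye7 ze58) (ke xe6 ye38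 ze43) (ke xe18 ye25 ze25) (ke xe5 ye7 ze59) (ke xe18 ye25 ze28) (ke xe18 ye25 ze31) (ke xe12 ye1 ze32) (ke xe18 ye25 ze33) (ke xe6 ye28 ze1) (ke xe12 ye59 ze0) (ke xe18 ye25 ze36) (ke xe5 ye7 ze61) (ke xe18 ye25 ze41) (ke xe6 ye38 ze56) (ke xe12 ye2 ze21) (ke xe18 ye25 ze39) (ke xe18 ye25 ze42) (ke xe5 ye8 ze1) (ke xe6 ye31 ze45) (ke xe5 ye8 ze2) (ke xe5 ye8 ze3) (ke xe5 ye8 ze4) (ke xe18 ye25 ze49) (ke xe18 ye25 ze51) (ke xe5 ye8 ze6) (ke xe18 ye25 ze57) (ke xe18 ye25 ze61) (ke xe10 ye18 ze50) (ke xe10 ye55 ze29) (ke xe5 ye8 ze8) (ke xe7 ye59 ze51) (ke xe5 ye8 ze9) (ke xe17 ye7 ze54) (ke xe5 ye8 ze11) (ke xe11 ye58 ze32) (ke xe5 ye45 ze50) (ke xe5 ye8 ze12) (ke xe11 ye58 ze9) (ke xe6 ye31 ze54) (ke xe10 ye18 ze40) (ke xe13 ye1 ze31)) (@D3.rec (fun _ => Pt) (ke xe5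 ye8 ze14) (ke xe18 ye26 ze6) (ke xe18 ye26 ze10) (ke xe5 ye8 ze17) (ke xe18 ye26 ze16) (ke xe18 ye26 ze17) (ke xe5 ye8 ze18) (ke xe5 ye8 ze19) (ke xe12 ye39 ze32) (ke xe18 ye26 ze20) (ke xe5 ye8 ze21) (ke xe18 ye24 ze0) (ke xe5 ye45 ze56) (ke xe5 ye8 ze23) (ke xe18 ye26 ze1) (ke xe18 ye26 ze23) (ke xe5 ye8 ze26) (ke xe11 ye58 ze10) (ke xe5 ye8 ze27) (ke xe5 ye8 ze28) (ke xe5 ye8 ze29) (ke xe7 ye33 ze11) (ke xe7 ye47 ze53) (ke xe5 ye8 ze30) (ke xe9 ye52 ze24) (ke xe18 ye26 ze27) (ke xe11 ye54 ze59) (ke xe18 ye26 ze32) (ke xe18 ye26 ze33) (ke xe5 ye8 ze32) (ke xe10 ye9 ze34) (ke xe9 ye52 ze34) (ke xe8 ye28 ze9) (ke xe17 ye52 ze50) (ke xe18 ye26 ze44) (ke xe18 ye26 ze49) (ke xe18 ye26 ze50) (ke xe5 ye8 ze35) (ke xe18 ye26 ze56) (ke xe18 ye26 ze57) (ke xe5 ye8 ze36) (ke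 xe18 ye26 ze61) (ke xe16 ye18 ze0) (ke xe14 ye1 ze14) (ke xe18 ye27 ze2) (ke xe5 ye8 ze37) (ke xe5 ye8 ze38) (ke xe8 ye42 ze43) (ke xe18 ye27 ze11) (ke xe15 ye11 ze7) (ke xe15 ye11 ze20) (ke xe8 ye40 ze45) (ke xe18 ye27 ze16) (ke xe5 ye8 ze41) (ke xe5 ye8 ze44) (ke xe5 ye8 ze45) (ke xe18 ye27 ze19) (ke xe5 ye8 ze47) (ke xe15 ye11 ze4) (ke xe16 ye17 ze22) (ke xe18 ye27 ze24) (ke xe18 ye27 ze25)) (@D3.rec (fun _ => Pt) (ke xe5 ye8 ze48) (ke xe5 ye8 ze49) (ke xe18 ye27 ze35) (ke xe9 ye51 ze53) (ke xe18 ye27 ze32) (ke xe15 ye11 ze10) (ke xe18 ye27 ze39) (ke xe5 ye8 ze51) (ke xe9 ye51 ze52) (ke xe11 ye4 ze19) (ke xe9 ye0 ze39) (ke xe5 ye8 ze55) (ke xe8 ye10 ze3) (ke xe18 ye27 ze44) (ke xe14 ye15 ze7) (ke xe18 ye27 ze54) (ke xe5 ye8 ze56) (ke xe9 ye58 ze35) (ke xe18 ye27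 ze61) (ke xe15 ye11 ze40) (ke xe18 ye28 ze2) (ke xe9 ye53 ze26) (ke xe18 ye28 ze6) (ke xe18 ye28 ze10) (ke xe5 ye8 ze58) (ke xe18 ye28 ze15) (ke xe18 ye28 ze17) (ke xe5 ye8 ze59) (ke xe9 ye53 ze52) (ke xe8 ye45 ze3) (ke xe18 ye28 ze20) (ke xe15 ye11 ze49) (ke xe9 ye53 ze57) (ke xe9 ye35 ze21) (ke xe18 ye28 ze34) (ke xe5 ye9 ze0) (ke xe18 ye28 ze35) (ke xe9 ye57 ze35) (ke xe15 ye11 ze25) (ke xe9 ye53 ze45) (ke xe8 ye45 ze8) (ke xe18 ye28 ze38) (ke xe18 ye28 ze42) (ke xe5 ye9 ze3) (ke xe5 ye9 ze4) (ke xe9 ye53 ze33) (ke xe15 ye11 ze35) (ke xe18 ye28 ze50) (ke xe5 ye9 ze6) (ke xe9 ye53 ze37) (ke xe18 ye28 ze55) (ke xe9 ye53 ze59) (ke xe15 ye14 ze26) (ke xe5 ye9 ze9) (ke xe14 ye9 ze25) (ke xe8 ye5 ze58) (ke xe15 ye12 ze3) (ke xe9 ye54 ze7) (ke xe18 ye29 ze9) (ke xe12 ye58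 ze52) (ke xe14 ye9 ze20) (ke xe5 ye9 ze12)) (@D3.rec (fun _ => Pt) (ke xe5 ye9 ze13) (ke xe15 ye11 ze58) (ke xe18 ye29 ze14) (ke xe18 ye29 ze17) (ke xe18 ye29 ze19) (ke xe18 ye29 ze21) (ke xe18 ye29 ze25) (ke xe5 ye9 ze15) (ke xe18 ye29 ze30) (ke xe18 ye29 ze35) (ke xe18 ye29 ze37) (ke xe18 ye29 ze39) (ke xe5 ye9 ze16) (ke xe18 ye29 ze44) (ke xe14 ye8 ze44) (ke xe18 ye29 ze48) (ke xe18 ye29 ze51) (ke xe5 ye9 ze18) (ke xe5 ye9 ze19) (ke xe18 ye28 ze19) (ke xe5 ye9 ze20) (ke xe18 ye30 ze1) (ke xe5 ye9 ze21) (ke xe18 ye30 ze7) (ke xe18 ye30 ze10) (ke xe15 ye13 ze59) (ke xe18 ye30 ze13) (ke xe18 ye30 ze16) (ke xe15 ye13 ze58) (ke xe15 ye51 ze41) (ke xe8 ye45 ze5) (ke xe10 ye10 ze20) (ke xe18 ye30 ze25) (ke xe18 ye30 ze27) (ke xe10 ye7 ze30) (ke xe5 ye9 ze25) (ke xe5 ye9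 ze26) (ke xe18 ye30 ze33) (ke xe18 ye30 ze34) (ke xe5 ye9 ze27) (ke xe18 ye30 ze40) (ke xe18 ye30 ze41) (ke xe5 ye9 ze29) (ke xe9 ye54 ze61) (ke xe5 ye23 ze52) (ke xe11 ye6 ze20) (ke xe5 ye23 ze47) (ke xe13 ye34 ze8) (ke xe18 ye30 ze52) (ke xe18 ye30 ze53) (ke xe5 ye9 ze33) (ke xe17 ye46 ze50) (ke xe9 ye54 ze55) (ke xe5 ye10 ze12) (ke xe10 ye20 ze37) (ke xe5 ye9 ze35) (ke xe18 ye31 ze3) (ke xe18 ye31 ze4) (ke xe5 ye9 ze36) (ke xe18 ye31 ze10) (ke xe5 ye9 ze38) (ke xe18 ye31 ze15)) (@D3.rec (fun _ => Pt) (ke xe5 ye9 ze39) (ke xe18 ye31 ze19) (ke xe18 ye31 ze21) (ke xe18 ye14 ze59) (ke xe18 ye31 ze26) (ke xe5 ye9 ze40) (ke xe18 ye31 ze28) (ke xe18 ye31 ze30) (ke xe5 ye9 ze41) (ke xe9 ye55 ze13) (ke xe18 ye31 ze39) (ke xe18 ye31 ze33) (ke xe9 ye56 ze51) (ke xe9 ye55 ze17)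 (ke xe9 ye55 ze18) (ke xe18 ye31 ze46) (ke xe18 ye31 ze49) (ke xe5 ye9 ze44) (ke xe18 ye31 ze53) (ke xe5 ye9 ze46) (ke xe10 ye9 ze31) (ke xe9 ye55 ze26) (ke xe9 ye42 ze33) (ke xe18 ye32 ze2) (ke xe18 ye32 ze3) (ke xe5 ye9 ze48) (ke xe10 ye27 ze49) (ke xe9 ye55 ze34) (ke xe5 ye10 ze23) (ke xe10 ye14 ze38) (ke xe18 ye32 ze12) (ke xe18 ye32 ze15) (ke xe17 ye50 ze16) (ke xe18 ye32 ze16) (ke xe18 ye32 ze21) (ke xe5 ye9 ze54) (ke xe17 ye51 ze53) (ke xe18 ye32 ze27) (ke xe5 ye9 ze55) (ke xe18 ye32 ze32) (ke xe5 ye9 ze56) (ke xe17 ye9 ze42) (ke xe17 ye0 ze10) (ke xe5 ye9 ze57) (ke xe9 ye56 ze11) (ke xe18 ye24 ze22) (ke xe9 ye57 ze12) (ke xe9 ye57 ze16) (ke xe9 ye56 ze19) (ke xe9 ye56 ze20) (ke xe18 ye32 ze46) (ke xe5 ye10 ze1) (ke xe17 ye51 ze5) (ke xe18 ye32 ze49) (ke xe18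 ye32 ze51) (ke xe16 ye20 ze35) (ke xe5 ye10 ze5) (ke xe9 ye56 ze35) (ke xe9 ye55 ze0) (ke xe18 ye32 ze59) (ke xe5 ye10 ze7) (ke xe5 ye10 ze8)) (@D3.rec (fun _ => Pt) (ke xe18 ye33 ze3) (ke xe18 ye33 ze5) (ke xe18 ye33 ze7) (ke xe18 ye33 ze10) (ke xe5 ye10 ze9) (ke xe5 ye10 ze10) (ke xe18 ye31 ze11) (ke xe18 ye33 ze16) (ke xe9 ye55 ze16) (ke xe18 ye30 ze57) (ke xe11 ye6 ze3) (ke xe8 ye37 ze33) (ke xe5 ye10 ze15) (ke xe18 ye33 ze32) (ke xe15 ye2 ze41) (ke xe17 ye52 ze6) (ke xe18 ye33 ze36) (ke xe5 ye10 ze16) (ke xe18 ye33 ze41) (ke xe18 ye33 ze43) (ke xe5 ye10 ze17) (ke xe16 ye55 ze48) (ke xe5 ye10 ze18) (ke xe17 ye3 ze8) (ke xe5 ye10 ze19) (ke xe18 ye32 ze23) (ke xe9 ye37 ze4) (ke xe9 ye56 ze15) (ke xe18 ye32 ze6) (ke xe11 ye22 ze50) (ke xe8 ye9 ze38) (ke xe5 ye10 ze27)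 (ke xe18 ye33 ze61) (ke xe18 ye34 ze0) (ke xe5 ye10 ze28) (ke xe5 ye10 ze57) (ke xe18 ye33 ze27) (ke xe9 ye58 ze17) (ke xe18 ye29 ze1) (ke xe5 ye10 ze30) (ke xe18 ye34 ze14) (ke xe9 ye57 ze25) (ke xe18 ye34 ze17) (ke xe18 ye34 ze19) (ke xe5 ye10 ze31) (ke xe5 ye10 ze32) (ke xe17 ye47 ze16) (ke xe18 ye34 ze32) (ke xe18 ye34 ze26) (ke xe9 ye58 ze31) (ke xe9 ye53 ze43) (ke xe17 ye47 ze21) (ke xe9 ye36 ze48) (ke xe18 ye34 ze42) (ke xe18 ye34 ze45) (ke xe8 ye14 ze5) (ke xe5 ye10 ze35) (ke xe18 ye34 ze49) (ke xe5 ye10 ze37) (ke xe9 ye57 ze46) (ke xe9 ye57 ze47) (ke xe10 ye17 ze48)) (@D3.rec (fun _ => Pt) (ke xe5 ye10 ze39) (ke xe18 ye34 ze59) (ke xe18 ye35 ze1) (ke xe15 ye49 ze51) (ke xe8 ye36 ze25) (ke xe5 ye10 ze45) (ke xe6 ye48 ze1) (ke xe6 ye27 ze25) (ke xe17 ye48 ze40)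 (ke xe12 ye56 ze17) (ke xe11 ye15 ze4) (ke xe8 ye36 ze19) (ke xe9 ye58 ze55) (ke xe9 ye36 ze54) (ke xe9 ye58 ze56) (ke xe6 ye26 ze42) (ke xe9 ye36 ze55) (ke xe18 ye35 ze14) (ke xe9 ye17 ze24) (ke xe5 ye10 ze50) (ke xe5 ye10 ze52) (ke xe9 ye58 ze20) (ke xe18 ye35 ze18) (ke xe18 ye9 ze49) (ke xe18 ye35 ze21) (ke xe5 ye10 ze53) (ke xe5 ye10 ze54) (ke xe18 ye35 ze26) (ke xe18 ye34 ze1) (ke xe18 ye35 ze23) (ke xe9 ye57 ze34) (ke xe8 ye44 ze42) (ke xe18 ye35 ze32) (ke xe5 ye10 ze56) (ke xe9 ye53 ze20) (ke xe18 ye34 ze5) (ke xe9 ye58 ze37) (ke xe18 ye35 ze35) (ke xe18 ye35 ze36) (ke xe5 ye10 ze60) (ke xe12 ye54 ze28) (ke xe5 ye10 ze61) (ke xe5 ye11 ze0) (ke xe18 ye35 ze39) (ke xe18 ye34 ze53) (ke xe9 ye57 ze55) (ke xe9 ye57 ze61) (ke xe18 ye35 ze43) (ke xe5 ye11 ze6) (ke xe9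 ye58 ze5) (ke xe9 ye58 ze7) (ke xe18 ye35 ze47) (ke xe18 ye35 ze51) (ke xe6 ye10 ze40) (ke xe5 ye11 ze10) (ke xe9 ye58 ze57) (ke xe6 ye40 ze32) (ke xe18 ye35 ze58) (ke xe18 ye35 ze59) (ke xe5 ye11 ze12) (ke xe15 ye6 ze0) (ke xe9 ye58 ze61)) (@D3.rec (fun _ => Pt) (ke xe18 ye36 ze1) (ke xe5 ye11 ze13) (ke xe12 ye46 ze0) (ke xe18 ye36 ze10) (ke xe18 ye36 ze14) (ke xe12 ye46 ze1) (ke xe9 ye59 ze33) (ke xe5 ye11 ze17) (ke xe18 ye36 ze19) (ke xe18 ye36 ze20) (ke xe9 ye59 ze15) (ke xe9 ye59 ze16) (ke xe18 ye36 ze23) (ke xe18 ye36 ze24) (ke xe5 ye11 ze20) (ke xe14 ye43 ze9) (ke xe5 ye11 ze21) (ke xe9 ye59 ze23) (ke xe18 ye36 ze29) (ke xe18 ye36 ze30) (ke xe5 ye11 ze22) (ke xe18 ye36 ze34) (ke xe18 ye35 ze60) (ke xe9 ye32 ze42) (ke xe9 ye59 ze3) (ke xe9 ye44 ze28) (ke xe5 ye11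 ze28) (ke xe18 ye36 ze40) (ke xe18 ye36 ze42) (ke xe18 ye36 ze44) (ke xe5 ye11 ze29) (ke xe9 ye59 ze39) (ke xe18 ye36 ze47) (ke xe10 ye42 ze27) (ke xe12 ye37 ze43) (ke xe5 ye11 ze30) (ke xe18 ye36 ze53) (ke xe18 ye36 ze56) (ke xe9 ye59 ze46) (ke xe18 ye36 ze61) (ke xe18 ye29 ze8) (ke xe5 ye11 ze31) (ke xe18 ye37 ze6) (ke xe18 ye1 ze21) (ke xe18 ye37 ze10) (ke xe5 ye11 ze32) (ke xe18 ye37 ze13) (ke xe10 ye0 ze5) (ke xe18 ye37 ze12) (ke xe18 ye35 ze41) (ke xe5 ye11 ze34) (ke xe9 ye59 ze58) (ke xe18 ye37 ze18) (ke xe18 ye37 ze21) (ke xe18 ye37 ze23) (ke xe5 ye11 ze35) (ke xe18 ye37 ze29) (ke xe18 ye37 ze30) (ke xe5 ye11 ze36) (ke xe18 ye37 ze36) (ke xe5 ye11 ze37) (ke xe9 ye59 ze54)) (@D3.rec (fun _ => Pt) (ke xe18 ye37 ze38) (ke xe18 ye35 ze11) (ke xe18 ye37 ze43) (ke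 xe5 ye11 ze39) (ke xe14 ye23 ze51) (ke xe14 ye23 ze53) (ke xe5 ye11 ze40) (ke xe18 ye37 ze51) (ke xe11 ye17 ze11) (ke xe5 ye11 ze41) (ke xe12 ye28 ze11) (ke xe18 ye37 ze58) (ke xe12 ye17 ze16) (ke xe5 ye11 ze42) (ke xe18 ye38 ze4) (ke xe6 ye34 ze53) (ke xe9 ye41 ze56) (ke xe18 ye38 ze10) (ke xe6 ye10 ze27) (ke xe12 ye13 ze1) (ke xe18 ye38 ze13) (ke xe5 ye11 ze45) (ke xe18 ye38 ze18) (ke xe7 ye33 ze54) (ke xe10 ye0 ze30) (ke xe5 ye11 ze47) (ke xe12 ye14 ze49) (ke xe17 ye8 ze42) (ke xe5 ye13 ze20) (ke xe10 ye0 ze25) (ke xe18 ye38 ze24) (ke xe12 ye25 ze19) (ke xe5 ye11 ze49) (ke xe6 ye29 ze32) (ke xe12 ye12 ze26) (ke xe5 ye11 ze50) (ke xe10 ye55 ze46) (ke xe18 ye38 ze34) (ke xe10 ye10 ze29) (ke xe5 ye11 ze54) (ke xe17 ye52 ze17) (ke xe6 ye19 ze39) (ke xe5 ye11 ze58) (ke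 xe18 ye38 ze40) (ke xe5 ye11 ze59) (ke xe10 ye30 ze28) (ke xe10 ye1 ze43) (ke xe5 ye13 ze12) (ke xe8 ye44 ze18) (ke xe8 ye44 ze23) (ke xe7 ye13 ze59) (ke xe13 ye14 ze24) (ke xe5 ye12 ze1) (ke xe6 ye58 ze9) (ke xe13 ye30 ze9) (ke xe18 ye38 ze45) (ke xe18 ye38 ze47) (ke xe5 ye12 ze3) (ke xe5 ye12 ze4) (ke xe10 ye1 ze60) (ke xe18 ye38 ze60) (ke xe18 ye38 ze54)) (@D3.rec (fun _ => Pt) (ke xe10 ye3 ze26) (ke xe10 ye2 ze2) (ke xe10 ye2 ze3) (ke xe8 ye50 ze11) (ke xe5 ye12 ze7) (ke xe10 ye26 ze20) (ke xe10 ye2 ze10) (ke xe5 ye13 ze22) (ke xe10 ye27 ze48) (ke xe18 ye39 ze9) (ke xe18 ye39 ze11) (ke xe6 ye58 ze32) (ke xe5 ye12 ze16) (ke xe18 ye39 ze18) (ke xe13 ye41 ze45) (ke xe5 ye12 ze17) (ke xe5 ye12 ze18) (ke xe10 ye2 ze31) (ke xe18 ye39 ze29) (ke xe12 ye4 ze50) (ke xe10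 ye3 ze45) (ke xe18 ye39 ze31) (ke xe5 ye12 ze23) (ke xe18 ye39 ze33) (ke xe5 ye38 ze44) (ke xe6 ye31 ze15) (ke xe18 ye39 ze37) (ke xe6 ye31 ze38) (ke xe17 ye18 ze39) (ke xe10 ye58 ze38) (ke xe5 ye12 ze31) (ke xe18 ye39 ze42) (ke xe5 ye12 ze32) (ke xe5 ye12 ze35) (ke xe9 ye42 ze1) (ke xe17 ye59 ze21) (ke xe18 ye39 ze48) (ke xe5 ye12 ze36) (ke xe10 ye35 ze26) (ke xe5 ye12 ze38) (ke xe10 ye0 ze48) (ke xe16 ye16 ze37) (ke xe15 ye2 ze7) (ke xe5 ye12 ze40) (ke xe9 ye35 ze26) (ke xe5 ye12 ze41) (ke xe16 ye12 ze50) (ke xe15 ye43 ze61) (ke xe5 ye23 ze30) (ke xe17 ye43 ze28) (ke xe18 ye40 ze4) (ke xe18 ye40 ze7) (ke xe18 ye1 ze3) (ke xe18 ye40 ze12) (ke xe5 ye12 ze44) (ke xe5 ye12 ze45) (ke xe11 ye3 ze6) (ke xe18 ye40 ze18) (ke xe10 ye1 ze11) (ke xe16 ye50 ze30) (ke xe10 ye29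 ze19) (ke xe5 ye12 ze47)) (@D3.rec (fun _ => Pt) (ke xe15 ye14 ze28) (ke xe15 ye16 ze34) (ke xe5 ye12 ze51) (ke xe15 ye9 ze20) (ke xe18 ye40 ze29) (ke xe5 ye12 ze52) (ke xe7 ye14 ze30) (ke xe18 ye40 ze39) (ke xe5 ye12 ze53) (ke xe5 ye12 ze54) (ke xe6 ye13 ze46) (ke xe8 ye1 ze42) (ke xe5 ye12 ze58) (ke xe5 ye12 ze59) (ke xe16 ye29 ze44) (ke xe18 ye40 ze45) (ke xe5 ye12 ze60) (ke xe18 ye40 ze50) (ke xe5 ye12 ze61) (ke xe18 ye40 ze56) (ke xe5 ye13 ze0) (ke xe18 ye41 ze1) (ke xe18 ye41 ze5) (ke xe10 ye1 ze37) (ke xe5 ye13 ze2) (ke xe16 ye40 ze1) (ke xe18 ye41 ze9) (ke xe18 ye41 ze14) (ke xe16 ye59 ze23) (ke xe5 ye13 ze5) (ke xe10 ye3 ze11) (ke xe5 ye19 ze51) (ke xe18 ye41 ze23) (ke xe18 ye41 ze24) (ke xe5 ye13 ze7) (ke xe18 ye41 ze26) (ke xe11 ye37 ze22) (ke xe5 ye13 ze8)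 (ke xe18 ye41 ze29) (ke xe18 ye41 ze31) (ke xe8 ye43 ze22) (ke xe5 ye56 ze7) (ke xe18 ye41 ze32) (ke xe18 ye41 ze33) (ke xe5 ye56 ze8) (ke xe18 ye38 ze39) (ke xe5 ye25 ze44) (ke xe8 ye21 ze37) (ke xe5 ye13 ze15) (ke xe10 ye36 ze2) (ke xe18 ye41 ze34) (ke xe18 ye41 ze38) (ke xe18 ye41 ze40) (ke xe18 ye41 ze43) (ke xe5 ye13 ze16) (ke xe18 ye41 ze47) (ke xe18 ye41 ze49) (ke xe5 ye13 ze17) (ke xe5 ye13 ze18) (ke xe7 ye8 ze13) (ke xe6 ye40 ze41) (ke xe10 ye2 ze34)) (@D3.rec (fun _ => Pt) (ke xe6 ye42 ze61) (ke xe5 ye17 ze37) (ke xe10 ye20 ze4) (ke xe9 ye24 ze50) (ke xe5 ye34 ze61) (ke xe8 ye21 ze46) (ke xe5 ye13 ze26) (ke xe10 ye48 ze30) (ke xe9 ye8 ze50) (ke xe18 ye42 ze0) (ke xe13 ye0 ze52) (ke xe18 ye42 ze4) (ke xe18 ye42 ze6) (ke xe5 ye13 ze28) (ke xe18 ye42 ze11) (ke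 xe10 ye2 ze60) (ke xe18 ye12 ze52) (ke xe17 ye6 ze43) (ke xe5 ye13 ze30) (ke xe14 ye29 ze49) (ke xe6 ye25 ze22) (ke xe5 ye13 ze31) (ke xe5 ye50 ze21) (ke xe10 ye17 ze53) (ke xe6 ye49 ze50) (ke xe6 ye49 ze43) (ke xe18 ye42 ze18) (ke xe5 ye13 ze35) (ke xe8 ye44 ze50) (ke xe18 ye42 ze20) (ke xe18 ye42 ze23) (ke xe5 ye13 ze40) (ke xe18 ye42 ze26) (ke xe18 ye42 ze31) (ke xe5 ye13 ze42) (ke xe18 ye42 ze39) (ke xe16 ye33 ze30) (ke xe5 ye13 ze44) (ke xe10 ye4 ze20) (ke xe5 ye13 ze45) (ke xe18 ye42 ze48) (ke xe9 ye23 ze5) (ke xe18 ye42 ze50) (ke xe5 ye13 ze46) (ke xe18 ye42 ze53) (ke xe6 ye50 ze2) (ke xe5 ye13 ze48) (ke xe10 ye4 ze26) (ke xe10 ye11 ze61) (ke xe18 ye42 ze57) (ke xe5 ye13 ze49) (ke xe9 ye5 ze35) (ke xe15 ye5 ze6) (ke xe10 ye17 ze23) (ke xe18 ye42 ze59) (ke xe5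 ye13 ze54) (ke xe11 ye30 ze41) (ke xe18 ye43 ze0) (ke xe13 ye50 ze22) (ke xe18 ye43 ze2) (ke xe5 ye13 ze59) (ke xe15 ye23 ze42)) (@D3.rec (fun _ => Pt) (ke xe18 ye43 ze8) (ke xe5 ye13 ze61) (ke xe18 ye43 ze9) (ke xe5 ye48 ze54) (ke xe5 ye14 ze2) (ke xe9 ye11 ze11) (ke xe15 ye0 ze9) (ke xe5 ye14 ze3) (ke xe5 ye50 ze29) (ke xe16 ye46 ze61) (ke xe6 ye50 ze32) (ke xe8 ye44 ze21) (ke xe11 ye25 ze42) (ke xe5 ye14 ze7) (ke xe5 ye50 ze16) (ke xe5 ye14 ze11) (ke xe18 ye43 ze18) (ke xe5 ye14 ze14) (ke xe12 ye30 ze18) (ke xe5 ye14 ze15) (ke xe11 ye1 ze60) (ke xe5 ye14 ze18) (ke xe11 ye30 ze21) (ke xe6 ye50 ze15) (ke xe13 ye50 ze20) (ke xe18 ye43 ze23) (ke xe5 ye14 ze25) (ke xe5 ye51 ze40) (ke xe10 ye5 ze20) (ke xe18 ye43 ze28) (ke xe11 ye38 ze25) (ke xe5 ye57 ze60) (ke xe9 ye10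 ze26) (ke xe6 ye7 ze46) (ke xe18 ye43 ze30) (ke xe5 ye14 ze31) (ke xe18 ye43 ze35) (ke xe5 ye14 ze32) (ke xe6 ye30 ze10) (ke xe18 ye43 ze39) (ke xe10 ye6 ze60) (ke xe18 ye43 ze42) (ke xe11 ye12 ze49) (ke xe5 ye14 ze34) (ke xe5 ye14 ze35) (ke xe15 ye26 ze12) (ke xe5 ye14 ze37) (ke xe6 ye8 ze7) (ke xe5 ye14 ze38) (ke xe12 ye30 ze56) (ke xe10 ye6 ze48) (ke xe5 ye14 ze40) (ke xe8 ye49 ze55) (ke xe5 ye14 ze41) (ke xe9 ye42 ze38) (ke xe18 ye43 ze48) (ke xe5 ye14 ze43) (ke xe18 ye43 ze51) (ke xe6 ye21 ze56) (ke xe5 ye14 ze44) (ke xe5 ye14 ze45) (ke xe10 ye0 ze19)) (@D3.rec (fun _ => Pt) (ke xe6 ye25 ze53) (ke xe9 ye5 ze3) (ke xe18 ye43 ze17) (ke xe18 ye43 ze54) (ke xe5 ye14 ze49) (ke xe10 ye49 ze7) (ke xe18 ye43 ze57) (ke xe5 ye14 ze52) (ke xe6 ye7 ze60) (ke xe5 ye14 ze53)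 (ke xe10 ye24 ze0) (ke xe18 ye44 ze0) (ke xe18 ye44 ze3) (ke xe18 ye44 ze7) (ke xe8 ye28 ze60) (ke xe17 ye25 ze2) (ke xe17 ye25 ze4) (ke xe8 ye29 ze8) (ke xe18 ye44 ze17) (ke xe5 ye14 ze58) (ke xe18 ye44 ze19) (ke xe5 ye14 ze59) (ke xe18 ye44 ze23) (ke xe18 ye44 ze26) (ke xe8 ye29 ze27) (ke xe18 ye44 ze30) (ke xe18 ye44 ze32) (ke xe5 ye14 ze61) (ke xe18 ye44 ze36) (ke xe5 ye15 ze0) (ke xe15 ye39 ze11) (ke xe17 ye11 ze1) (ke xe18 ye44 ze46) (ke xe17 ye24 ze61) (ke xe5 ye15 ze2) (ke xe18 ye44 ze52) (ke xe18 ye44 ze53) (ke xe5 ye15 ze4) (ke xe18 ye44 ze57) (ke xe5 ye15 ze59) (ke xe18 ye45 ze0) (ke xe18 ye45 ze1) (ke xe5 ye15 ze6) (ke xe18 ye45 ze8) (ke xe18 ye45 ze13) (ke xe10 ye23 ze54) (ke xe18 ye45 ze17) (ke xe18 ye45 ze18) (ke xe18 ye45 ze20) (ke xe5 ye15 ze8) (ke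 xe5 ye15 ze9) (ke xe11 ye59 ze41) (ke xe5 ye15 ze12) (ke xe8 ye4 ze39) (ke xe18 ye45 ze26) (ke xe8 ye8 ze30) (ke xe5 ye15 ze15) (ke xe5 ye15 ze16) (ke xe17 ye59 ze46) (ke xe5 ye15 ze18) (ke xe8 ye26 ze38) (ke xe18 ye45 ze32)) (@D3.rec (fun _ => Pt) (ke xe15 ye24 ze61) (ke xe17 ye19 ze22) (ke xe10 ye22 ze8) (ke xe10 ye24 ze35) (ke xe10 ye17 ze2) (ke xe17 ye19 ze38) (ke xe18 ye45 ze41) (ke xe5 ye15 ze24) (ke xe6 ye0 ze35) (ke xe18 ye45 ze45) (ke xe7 ye19 ze57) (ke xe13 ye4 ze37) (ke xe9 ye26 ze38) (ke xe10 ye24 ze49) (ke xe18 ye45 ze52) (ke xe18 ye22 ze23) (ke xe10 ye24 ze53) (ke xe5 ye15 ze30) (ke xe18 ye45 ze58) (ke xe18 ye45 ze59) (ke xe5 ye15 ze31) (ke xe18 ye45 ze61) (ke xe15 ye38 ze41) (ke xe5 ye15 ze33) (ke xe18 ye46 ze3) (ke xe5 ye15 ze34) (ke xe10 ye50 ze42)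 (ke xe5 ye15 ze36) (ke xe18 ye44 ze38) (ke xe18 ye46 ze6) (ke xe18 ye46 ze11) (ke xe17 ye19 ze49) (ke xe18 ye46 ze14) (ke xe18 ye46 ze17) (ke xe5 ye15 ze37) (ke xe5 ye15 ze38) (ke xe13 ye41 ze17) (ke xe10 ye9 ze54) (ke xe18 ye46 ze20) (ke xe15 ye39 ze12) (ke xe9 ye52 ze20) (ke xe5 ye29 ze51) (ke xe5 ye15 ze43) (ke xe5 ye29 ze28) (ke xe18 ye46 ze29) (ke xe18 ye46 ze36) (ke xe8 ye5 ze52) (ke xe18 ye39 ze61) (ke xe18 ye46 ze39) (ke xe5 ye15 ze45) (ke xe18 ye46 ze43) (ke xe10 ye25 ze16) (ke xe18 ye46 ze46) (ke xe18 ye46 ze48) (ke xe5 ye15 ze46) (ke xe9 ye25 ze23) (ke xe5 ye15 ze47) (ke xe10 ye25 ze38) (ke xe18 ye46 ze59) (ke xe17 ye24 ze29) (ke xe15 ye36 ze14) (ke xe10 ye25 ze43)) (@D3.rec (fun _ => Pt) (ke xe8 ye31 ze25) (ke xe10 ye54 ze8) (ke xe5 ye15 ze50) (ke xe18 ye47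 ze9) (ke xe18 ye47 ze10) (ke xe5 ye15 ze52) (ke xe18 ye47 ze12) (ke xe10 ye26 ze32) (ke xe16 ye34 ze44) (ke xe10 ye25 ze31) (ke xe18 ye47 ze16) (ke xe18 ye47 ze18) (ke xe18 ye47 ze22) (ke xe5 ye15 ze54) (ke xe5 ye15 ze55) (ke xe18 ye47 ze31) (ke xe10 ye25 ze22) (ke xe17 ye24 ze57) (ke xe18 ye44 ze56) (ke xe5 ye21 ze3) (ke xe5 ye15 ze57) (ke xe10 ye25 ze24) (ke xe18 ye47 ze40) (ke xe10 ye25 ze45) (ke xe18 ye47 ze45) (ke xe11 ye1 ze21) (ke xe5 ye15 ze60) (ke xe9 ye24 ze7) (ke xe5 ye15 ze61) (ke xe17 ye18 ze58) (ke xe18 ye45 ze3) (ke xe10 ye25 ze50) (ke xe18 ye48 ze2) (ke xe18 ye48 ze4) (ke xe18 ye48 ze8) (ke xe5 ye16 ze1) (ke xe5 ye16 ze2) (ke xe15 ye52 ze24) (ke xe18 ye27 ze57) (ke xe18 ye48 ze18) (ke xe18 ye48 ze20) (ke xe18 ye48 ze23) (ke xe5 ye16 ze4) (ke xe5 ye25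 ze36) (ke xe18 ye48 ze29) (ke xe18 ye48 ze31) (ke xe5 ye16 ze5) (ke xe18 ye48 ze34) (ke xe16 ye53 ze61) (ke xe18 ye48 ze39) (ke xe5 ye16 ze7) (ke xe17 ye6 ze35) (ke xe5 ye16 ze8) (ke xe17 ye19 ze9) (ke xe14 ye42 ze33) (ke xe5 ye16 ze10) (ke xe18 ye48 ze52) (ke xe5 ye16 ze11) (ke xe5 ye25 ze56) (ke xe14 ye42 ze0) (ke xe9 ye26 ze42) (ke xe5 ye16 ze13)) (@D3.rec (fun _ => Pt) (ke xe18 ye49 ze0) (ke xe17 ye52 ze23) (ke xe18 ye48 ze59) (ke xe18 ye49 ze8) (ke xe10 ye2 ze9) (ke xe5 ye16 ze15) (ke xe16 ye45 ze54) (ke xe16 ye45 ze58) (ke xe10 ye20 ze2) (ke xe18 ye49 ze16) (ke xe5 ye16 ze17) (ke xe5 ye16 ze18) (ke xe10 ye29 ze49) (ke xe18 ye49 ze20) (ke xe10 ye26 ze48) (ke xe10 ye25 ze29) (ke xe10 ye29 ze54) (ke xe8 ye34 ze34) (ke xe18 ye49 ze27) (ke xe6 ye5 ze27) (ke xe5 ye16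 ze21) (ke xe10 ye26 ze51) (ke xe8 ye34 ze47) (ke xe8 ye34 ze48) (ke xe18 ye49 ze31) (ke xe5 ye16 ze26) (ke xe5 ye16 ze27) (ke xe18 ye49 ze38) (ke xe16 ye34 ze61) (ke xe18 ye49 ze35) (ke xe10 ye26 ze31) (ke xe18 ye49 ze42) (ke xe18 ye49 ze44) (ke xe5 ye16 ze29) (ke xe16 ye35 ze2) (ke xe5 ye16 ze34) (ke xe14 ye53 ze38) (ke xe5 ye16 ze35) (ke xe10 ye26 ze57) (ke xe12 ye38 ze27) (ke xe5 ye16 ze36) (ke xe18 ye49 ze54) (ke xe10 ye26 ze60) (ke xe18 ye49 ze59) (ke xe16 ye55 ze36) (ke xe5 ye16 ze37) (ke xe18 ye50 ze5) (ke xe12 ye36 ze55) (ke xe18 ye50 ze6) (ke xe10 ye27 ze21) (ke xe12 ye47 ze7) (ke xe17 ye52 ze28) (ke xe5 ye16 ze40) (ke xe10 ye27 ze11) (ke xe18 ye50 ze11) (ke xe13 ye14 ze46) (ke xe5 ye16 ze41) (ke xe18 ye50 ze15) (ke xe18 ye50 ze17) (ke xe5 ye16 ze42) (ke xe5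 ye16 ze43) (ke xe10 ye27 ze7)) (@D3.rec (fun _ => Pt) (ke xe18 ye50 ze22) (ke xe13 ye14 ze41) (ke xe18 ye50 ze27) (ke xe5 ye16 ze45) (ke xe18 ye50 ze28) (ke xe16 ye59 ze40) (ke xe5 ye16 ze46) (ke xe17 ye52 ze9) (ke xe18 ye50 ze37) (ke xe17 ye51 ze30) (ke xe17 ye4 ze59) (ke xe5 ye16 ze48) (ke xe18 ye50 ze47) (ke xe12 ye29 ze1) (ke xe17 ye48 ze41) (ke xe18 ye50 ze51) (ke xe9 ye12 ze18) (ke xe5 ye16 ze51) (ke xe18 ye10 ze29) (ke xe5 ye16 ze52) (ke xe16 ye39 ze61) (ke xe10 ye2 ze19) (ke xe8 ye15 ze44) (ke xe18 ye36 ze51) (ke xe18 ye50 ze61) (ke xe5 ye16 ze56) (ke xe18 ye51 ze6) (ke xe18 ye51 ze7) (ke xe5 ye16 ze57) (ke xe18 ye51 ze11) (ke xe18 ye51 ze13) (ke xe8 ye16 ze13) (ke xe18 ye51 ze18) (ke xe18 ye51 ze20) (ke xe18 ye51 ze22) (ke xe5 ye16 ze59) (ke xe5 ye16 ze60)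 (ke xe5 ye32 ze14) (ke xe18 ye51 ze30) (ke xe5 ye17 ze0) (ke xe16 ye0 ze43) (ke xe15 ye40 ze35) (ke xe18 ye51 ze39) (ke xe18 ye51 ze40) (ke xe5 ye17 ze2) (ke xe17 ye22 ze3) (ke xe6 ye46 ze57) (ke xe18 ye51 ze46) (ke xe5 ye18 ze0) (ke xe18 ye51 ze51) (ke xe13 ye44 ze39) (ke xe5 ye17 ze6) (ke xe18 ye51 ze57) (ke xe18 ye52 ze0) (ke xe10 ye19 ze45) (ke xe18 ye52 ze5) (ke xe18 ye52 ze7) (ke xe16 ye46 ze48) (ke xe18 ye52 ze10) (ke xe5 ye17 ze8) (ke xe18 ye52 ze13) (ke xe5 ye17 ze9)) (@D3.rec (fun _ => Pt) (ke xe10 ye19 ze10) (ke xe18 ye52 ze19) (ke xe5 ye17 ze12) (ke xe5 ye17 ze13) (ke xe18 ye52 ze26) (ke xe5 ye17 ze15) (ke xe8 ye17 ze14) (ke xe18 ye52 ze29) (ke xe11 ye5 ze18) (ke xe5 ye17 ze17) (ke xe18 ye52 ze35) (ke xe5 ye17 ze19) (ke xe11 ye2 ze58) (ke xe5 ye29 ze54)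 (ke xe15 ye51 ze57) (ke xe15 ye51 ze55) (ke xe18 ye52 ze37) (ke xe15 ye28 ze47) (ke xe5 ye17 ze23) (ke xe18 ye52 ze40) (ke xe16 ye45 ze42) (ke xe18 ye51 ze27) (ke xe18 ye52 ze46) (ke xe18 ye52 ze51) (ke xe16 ye45 ze29) (ke xe8 ye48 ze47) (ke xe18 ye52 ze54) (ke xe5 ye17 ze26) (ke xe5 ye17 ze27) (ke xe17 ye42 ze13) (ke xe18 ye5 ze51) (ke xe18 ye53 ze2) (ke xe18 ye53 ze3) (ke xe5 ye17 ze29) (ke xe10 ye26 ze24) (ke xe10 ye20 ze3) (ke xe10 ye3 ze47) (ke xe18 ye53 ze13) (ke xe18 ye53 ze14) (ke xe5 ye17 ze31) (ke xe10 ye39 ze12) (ke xe18 ye53 ze20) (ke xe5 ye17 ze32) (ke xe18 ye53 ze25) (ke xe18 ye53 ze29) (ke xe18 ye53 ze31) (ke xe18 ye53 ze35) (ke xe5 ye17 ze33) (ke xe5 ye17 ze34) (ke xe10 ye20 ze13) (ke xe18 ye53 ze42) (ke xe16 ye1 ze47) (ke xe15 ye51 ze39) (ke xe10 ye20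 ze16) (ke xe5 ye17 ze38) (ke xe18 ye53 ze47) (ke xe5 ye17 ze39) (ke xe18 ye39 ze52) (ke xe5 ye17 ze41) (ke xe10 ye27 ze55) (ke xe18 ye53 ze54) (ke xe18 ye53 ze57)) (@D3.rec (fun _ => Pt) (ke xe18 ye53 ze59) (ke xe18 ye54 ze1) (ke xe5 ye17 ze42) (ke xe5 ye17 ze43) (ke xe9 ye25 ze44) (ke xe9 ye54 ze57) (ke xe15 ye51 ze51) (ke xe16 ye0 ze45) (ke xe10 ye2 ze20) (ke xe8 ye18 ze27) (ke xe5 ye17 ze48) (ke xe8 ye30 ze56) (ke xe18 ye54 ze14) (ke xe18 ye54 ze20) (ke xe5 ye17 ze49) (ke xe18 ye54 ze24) (ke xe10 ye20 ze51) (ke xe14 ye33 ze3) (ke xe14 ye11 ze12) (ke xe5 ye17 ze50) (ke xe18 ye54 ze32) (ke xe18 ye54 ze34) (ke xe10 ye21 ze16) (ke xe18 ye54 ze36) (ke xe10 ye21 ze21) (ke xe8 ye18 ze54) (ke xe9 ye43 ze15) (ke xe5 ye17 ze54) (ke xe18 ye54 ze38) (ke xe10 ye22 ze15) (ke xe10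 ye27 ze61) (ke xe10 ye21 ze9) (ke xe18 ye54 ze42) (ke xe13 ye4 ze59) (ke xe18 ye54 ze47) (ke xe5 ye17 ze57) (ke xe5 ye17 ze58) (ke xe10 ye54 ze16) (ke xe10 ye20 ze57) (ke xe13 ye49 ze53) (ke xe6 ye32 ze58) (ke xe18 ye54 ze52) (ke xe5 ye17 ze60) (ke xe10 ye20 ze61) (ke xe18 ye54 ze56) (ke xe10 ye21 ze23) (ke xe18 ye54 ze61) (ke xe17 ye34 ze6) (ke xe5 ye18 ze1) (ke xe18 ye55 ze6) (ke xe10 ye21 ze31) (ke xe18 ye55 ze11) (ke xe7 ye1 ze9) (ke xe10 ye42 ze6) (ke xe18 ye55 ze16) (ke xe17 ye34 ze8) (ke xe5 ye18 ze7) (ke xe18 ye55 ze21) (ke xe6 ye52 ze52) (ke xe13 ye5 ze42) (ke xe5 ye18 ze8) (ke xe18 ye55 ze26)) (@D3.rec (fun _ => Pt) (ke xe18 ye55 ze29) (ke xe18 ye55 ze32) (ke xe15 ye35 ze48) (ke xe5 ye18 ze10) (ke xe18 ye55 ze39) (ke xe5 ye18 ze11) (ke xe18 ye55 ze43) (ke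 xe5 ye18 ze12) (ke xe18 ye55 ze45) (ke xe5 ye18 ze13) (ke xe8 ye55 ze58) (ke xe5 ye18 ze14) (ke xe18 ye55 ze50) (ke xe6 ye47 ze7) (ke xe18 ye55 ze53) (ke xe5 ye18 ze16) (ke xe10 ye32 ze14) (ke xe18 ye55 ze60) (ke xe18 ye55 ze55) (ke xe18 ye56 ze3) (ke xe10 ye15 ze5) (ke xe5 ye18 ze18) (ke xe10 ye54 ze21) (ke xe10 ye54 ze26) (ke xe10 ye24 ze34) (ke xe18 ye56 ze8) (ke xe5 ye18 ze20) (ke xe5 ye18 ze21) (ke xe16 ye35 ze40) (ke xe11 ye6 ze18) (ke xe18 ye56 ze12) (ke xe10 ye22 ze30) (ke xe10 ye21 ze7) (ke xe16 ye22 ze4) (ke xe8 ye22 ze16) (ke xe16 ye21 ze58) (ke xe5 ye21 ze9) (ke xe7 ye32 ze42) (ke xe8 ye22 ze27) (ke xe8 ye22 ze28) (ke xe9 ye39 ze32) (ke xe15 ye5 ze49) (ke xe5 ye18 ze30) (ke xe18 ye56 ze33) (ke xe5 ye18 ze31) (ke xe11 ye6 ze17) (ke xe10 ye28 ze33) (ke xe16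 ye10 ze43) (ke xe10 ye22 ze14) (ke xe16 ye22 ze1) (ke xe10 ye28 ze37) (ke xe10 ye22 ze21) (ke xe5 ye18 ze38) (ke xe18 ye56 ze44) (ke xe18 ye2 ze8) (ke xe17 ye20 ze0) (ke xe5 ye18 ze39) (ke xe10 ye22 ze38) (ke xe5 ye18 ze40) (ke xe10 ye36 ze43) (ke xe10 ye22 ze42) (ke xe13 ye19 ze58)) (@D3.rec (fun _ => Pt) (ke xe14 ye35 ze33) (ke xe5 ye18 ze41) (ke xe13 ye19 ze50) (ke xe18 ye0 ze49) (ke xe17 ye19 ze51) (ke xe5 ye18 ze42) (ke xe18 ye57 ze0) (ke xe10 ye22 ze61) (ke xe18 ye56 ze61) (ke xe13 ye19 ze49) (ke xe5 ye18 ze44) (ke xe10 ye22 ze53) (ke xe18 ye57 ze5) (ke xe18 ye57 ze8) (ke xe18 ye57 ze10) (ke xe5 ye18 ze45) (ke xe18 ye57 ze16) (ke xe13 ye35 ze57) (ke xe5 ye18 ze46) (ke xe18 ye57 ze20) (ke xe5 ye18 ze47) (ke xe10 ye22 ze49) (ke xe18 ye57 ze22) (ke xe9 ye43 ze17)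 (ke xe18 ye57 ze27) (ke xe5 ye18 ze49) (ke xe11 ye30 ze33) (ke xe14 ye32 ze15) (ke xe5 ye18 ze50) (ke xe18 ye57 ze36) (ke xe18 ye57 ze38) (ke xe5 ye18 ze51) (ke xe14 ye23 ze50) (ke xe18 ye57 ze45) (ke xe18 ye57 ze48) (ke xe5 ye18 ze52) (ke xe18 ye57 ze54) (ke xe18 ye57 ze56) (ke xe9 ye7 ze29) (ke xe9 ye40 ze59) (ke xe10 ye42 ze15) (ke xe18 ye57 ze61) (ke xe6 ye20 ze24) (ke xe5 ye18 ze55) (ke xe9 ye7 ze44) (ke xe18 ye14 ze7) (ke xe5 ye18 ze56) (ke xe9 ye3 ze3) (ke xe10 ye15 ze8) (ke xe10 ye10 ze26) (ke xe5 ye18 ze60) (ke xe18 ye58 ze11) (ke xe5 ye18 ze61) (ke xe15 ye9 ze48) (ke xe18 ye58 ze13) (ke xe10 ye24 ze59) (ke xe18 ye58 ze14) (ke xe5 ye19 ze1) (ke xe10 ye28 ze6) (ke xe12 ye20 ze18) (ke xe18 ye58 ze17) (ke xe10 ye25 ze30)) (@D3.rec (fun _ => Pt) (ke xe15 ye14 ze8)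 (ke xe10 ye28 ze8) (ke xe16 ye39 ze18) (ke xe18 ye58 ze20) (ke xe5 ye19 ze8) (ke xe18 ye58 ze23) (ke xe10 ye27 ze58) (ke xe18 ye58 ze25) (ke xe10 ye28 ze1) (ke xe18 ye58 ze27) (ke xe18 ye58 ze29) (ke xe10 ye33 ze5) (ke xe5 ye19 ze13) (ke xe10 ye38 ze55) (ke xe14 ye42 ze55) (ke xe11 ye12 ze54) (ke xe18 ye58 ze37) (ke xe18 ye58 ze39) (ke xe5 ye19 ze15) (ke xe5 ye19 ze16) (ke xe16 ye34 ze52) (ke xe18 ye58 ze50) (ke xe18 ye58 ze46) (ke xe10 ye29 ze33) (ke xe16 ye3 ze39) (ke xe16 ye30 ze24) (ke xe5 ye19 ze19) (ke xe18 ye58 ze61) (ke xe16 ye34 ze57) (ke xe18 ye59 ze3) (ke xe18 ye59 ze6) (ke xe5 ye19 ze21) (ke xe5 ye19 ze22) (ke xe10 ye26 ze46) (ke xe16 ye22 ze6) (ke xe18 ye59 ze13) (ke xe10 ye29 ze51) (ke xe10 ye26 ze50) (ke xe10 ye40 ze9) (ke xe8 ye44 ze31) (ke xe5 ye19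 ze25) (ke xe5 ye21 ze38) (ke xe5 ye20 ze27) (ke xe5 ye22 ze50) (ke xe7 ye56 ze37) (ke xe16 ye35 ze6) (ke xe8 ye44 ze55) (ke xe18 ye59 ze35) (ke xe5 ye19 ze28) (ke xe5 ye19 ze29) (ke xe18 ye59 ze38) (ke xe10 ye30 ze7) (ke xe12 ye46 ze44) (ke xe18 ye59 ze48) (ke xe18 ye59 ze50) (ke xe18 ye59 ze53) (ke xe5 ye19 ze31) (ke xe5 ye19 ze32) (ke xe18 ye59 ze59) (ke xe10 ye30 ze0) (ke xe19 ye0 ze4) (ke xe5 ye19 ze34)) (@D3.rec (fun _ => Pt) (ke xe19 ye0 ze11) (ke xe5 ye19 ze35) (ke xe19 ye0 ze15) (ke xe5 ye19 ze37) (ke xe16 ye22 ze27) (ke xe5 ye19 ze38) (ke xe5 ye19 ze39) (ke xe5 ye42 ze27) (ke xe19 ye0 ze30) (ke xe8 ye52 ze25) (ke xe19 ye0 ze32) (ke xe8 ye52 ze24) (ke xe11 ye11 ze18) (ke xe10 ye1 ze42) (ke xe5 ye19 ze42) (ke xe8 ye5 ze30) (ke xe15 ye14 ze32) (ke xe16 ye22 ze54)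 (ke xe8 ye5 ze26) (ke xe10 ye15 ze60) (ke xe19 ye0 ze38) (ke xe19 ye0 ze41) (ke xe8 ye5 ze34) (ke xe11 ye59 ze44) (ke xe5 ye19 ze46) (ke xe15 ye3 ze53) (ke xe19 ye0 ze51) (ke xe16 ye53 ze0) (ke xe19 ye0 ze55) (ke xe5 ye19 ze48) (ke xe5 ye19 ze49) (ke xe18 ye41 ze28) (ke xe19 ye0 ze57) (ke xe10 ye28 ze23) (ke xe18 ye41 ze18) (ke xe11 ye54 ze30) (ke xe8 ye53 ze25) (ke xe5 ye19 ze54) (ke xe8 ye52 ze56) (ke xe19 ye1 ze6) (ke xe19 ye1 ze11) (ke xe8 ye54 ze7) (ke xe16 ye35 ze33) (ke xe16 ye23 ze6) (ke xe19 ye1 ze15) (ke xe19 ye1 ze17) (ke xe5 ye19 ze56) (ke xe5 ye19 ze57) (ke xe19 ye1 ze28) (ke xe10 ye22 ze12) (ke xe19 ye1 ze24) (ke xe10 ye28 ze36) (ke xe16 ye22 ze17) (ke xe5 ye19 ze59) (ke xe10 ye22 ze16) (ke xe14 ye58 ze56) (ke xe16 ye35 ze44) (ke xe16 ye22 ze31) (ke xe12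 ye7 ze4) (ke xe5 ye20 ze0) (ke xe5 ye20 ze1) (ke xe19 ye1 ze38)) (@D3.rec (fun _ => Pt) (ke xe10 ye28 ze59) (ke xe16 ye23 ze15) (ke xe19 ye1 ze44) (ke xe19 ye1 ze45) (ke xe5 ye20 ze3) (ke xe5 ye20 ze4) (ke xe19 ye1 ze49) (ke xe10 ye28 ze51) (ke xe19 ye1 ze53) (ke xe19 ye1 ze56) (ke xe19 ye1 ze60) (ke xe19 ye2 ze1) (ke xe5 ye20 ze6) (ke xe19 ye2 ze5) (ke xe19 ye2 ze7) (ke xe19 ye2 ze8) (ke xe19 ye2 ze10) (ke xe5 ye20 ze7) (ke xe19 ye2 ze15) (ke xe5 ye20 ze9) (ke xe5 ye20 ze10) (ke xe19 ye2 ze21) (ke xe5 ye20 ze11) (ke xe9 ye1 ze60) (ke xe19 ye2 ze29) (ke xe16 ye35 ze18) (ke xe11 ye23 ze5) (ke xe19 ye2 ze32) (ke xe10 ye14 ze45) (ke xe5 ye20 ze14) (ke xe19 ye2 ze34) (ke xe5 ye20 ze15) (ke xe19 ye2 ze40) (ke xe19 ye2 ze41) (ke xe5 ye20 ze17) (ke xe16 ye2 ze55) (ke xe5 ye21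 ze59) (ke xe19 ye2 ze51) (ke xe19 ye2 ze52) (ke xe5 ye20 ze19) (ke xe19 ye2 ze59) (ke xe19 ye2 ze60) (ke xe5 ye20 ze20) (ke xe19 ye3 ze5) (ke xe19 ye3 ze9) (ke xe5 ye21 ze2) (ke xe10 ye54 ze1) (ke xe12 ye4 ze35) (ke xe19 ye3 ze15) (ke xe19 ye3 ze17) (ke xe5 ye20 ze22) (ke xe12 ye4 ze32) (ke xe5 ye20 ze23) (ke xe14 ye40 ze22) (ke xe5 ye20 ze25) (ke xe5 ye23 ze32) (ke xe18 ye59 ze28) (ke xe19 ye3 ze30) (ke xe5 ye20 ze28) (ke xe19 ye3 ze36) (ke xe5 ye20 ze29) (ke xe14 ye37 ze24)) (@D3.rec (fun _ => Pt) (ke xe14 ye21 ze34) (ke xe14 ye21 ze45) (ke xe19 ye3 ze45) (ke xe19 ye3 ze47) (ke xe5 ye20 ze31) (ke xe14 ye21 ze14) (ke xe14 ye36 ze57) (ke xe19 ye3 ze49) (ke xe5 ye23 ze49) (ke xe16 ye57 ze46) (ke xe5 ye20 ze33) (ke xe19 ye4 ze0) (ke xe5 ye20 ze35) (ke xe5 ye22 ze41) (ke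 xe19 ye4 ze2) (ke xe19 ye4 ze3) (ke xe14 ye36 ze39) (ke xe19 ye4 ze6) (ke xe5 ye20 ze37) (ke xe5 ye20 ze38) (ke xe12 ye23 ze36) (ke xe5 ye21 ze32) (ke xe19 ye4 ze12) (ke xe5 ye23 ze10) (ke xe16 ye54 ze55) (ke xe5 ye20 ze40) (ke xe8 ye39 ze16) (ke xe18 ye40 ze28) (ke xe5 ye24 ze35) (ke xe19 ye4 ze25) (ke xe5 ye20 ze43) (ke xe7 ye44 ze49) (ke xe19 ye2 ze37) (ke xe7 ye45 ze58) (ke xe19 ye4 ze31) (ke xe5 ye20 ze44) (ke xe5 ye20 ze45) (ke xe19 ye4 ze34) (ke xe19 ye4 ze32) (ke xe5 ye24 ze43) (ke xe19 ye4 ze35) (ke xe5 ye20 ze47) (ke xe19 ye4 ze36) (ke xe5 ye24 ze6) (ke xe16 ye38 ze34) (ke xe19 ye4 ze38) (ke xe7 ye36 ze55) (ke xe19 ye4 ze40) (ke xe5 ye20 ze50) (ke xe5 ye20 ze51) (ke xe19 ye4 ze43) (ke xe19 ye2 ze42) (ke xe5 ye24 ze21) (ke xe19 ye4 ze46) (ke xe5 ye20 ze53)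 (ke xe19 ye4 ze49) (ke xe19 ye2 ze48) (ke xe19 ye4 ze53) (ke xe19 ye4 ze57) (ke xe5 ye20 ze55) (ke xe5 ye20 ze56) (ke xe19 ye2 ze55)) (@D3.rec (fun _ => Pt) (ke xe11 ye59 ze2) (ke xe6 ye52 ze28) (ke xe5 ye20 ze59) (ke xe5 ye20 ze60) (ke xe19 ye5 ze2) (ke xe14 ye41 ze58) (ke xe19 ye5 ze5) (ke xe19 ye5 ze7) (ke xe8 ye26 ze16) (ke xe5 ye21 ze0) (ke xe14 ye22 ze8) (ke xe14 ye22 ze12) (ke xe14 ye22 ze13) (ke xe15 ye36 ze8) (ke xe10 ye26 ze16) (ke xe19 ye5 ze14) (ke xe5 ye21 ze4) (ke xe19 ye5 ze17) (ke xe5 ye21 ze5) (ke xe19 ye5 ze21) (ke xe5 ye21 ze6) (ke xe18 ye48 ze27) (ke xe17 ye52 ze26) (ke xe19 ye5 ze29) (ke xe19 ye5 ze31) (ke xe17 ye52 ze25) (ke xe18 ye56 ze24) (ke xe10 ye33 ze16) (ke xe19 ye5 ze34) (ke xe19 ye5 ze36) (ke xe8 ye21 ze36) (ke xe5 ye21 ze10) (ke xe19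 ye5 ze40) (ke xe16 ye50 ze42) (ke xe5 ye21 ze11) (ke xe12 ye34 ze34) (ke xe18 ye39 ze59) (ke xe5 ye21 ze12) (ke xe19 ye5 ze48) (ke xe19 ye5 ze52) (ke xe9 ye46 ze2) (ke xe14 ye45 ze50) (ke xe19 ye5 ze55) (ke xe14 ye47 ze4) (ke xe5 ye21 ze14) (ke xe19 ye5 ze59) (ke xe5 ye21 ze15) (ke xe19 ye6 ze1) (ke xe6 ye41 ze40) (ke xe11 ye52 ze8) (ke xe19 ye6 ze6) (ke xe19 ye6 ze8) (ke xe19 ye6 ze10) (ke xe5 ye21 ze17) (ke xe8 ye39 ze26) (ke xe19 ye6 ze16) (ke xe19 ye6 ze20) (ke xe19 ye6 ze21) (ke xe5 ye21 ze19) (ke xe19 ye6 ze24) (ke xe10 ye38 ze57) (ke xe19 ye6 ze25)) (@D3.rec (fun _ => Pt) (ke xe5 ye21 ze21) (ke xe19 ye6 ze29) (ke xe16 ye13 ze43) (ke xe19 ye6 ze33) (ke xe19 ye6 ze37) (ke xe10 ye28 ze11) (ke xe19 ye6 ze38) (ke xe5 ye21 ze24) (ke xe12 ye34 ze27) (ke xe5 ye21 ze26)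 (ke xe5 ye22 ze22) (ke xe19 ye6 ze48) (ke xe10 ye35 ze29) (ke xe19 ye6 ze53) (ke xe19 ye6 ze54) (ke xe5 ye21 ze28) (ke xe10 ye32 ze27) (ke xe5 ye22 ze49) (ke xe15 ye45 ze22) (ke xe19 ye6 ze58) (ke xe19 ye7 ze0) (ke xe19 ye7 ze1) (ke xe5 ye21 ze31) (ke xe17 ye21 ze13) (ke xe19 ye7 ze6) (ke xe19 ye7 ze10) (ke xe19 ye4 ze8) (ke xe19 ye7 ze17) (ke xe14 ye31 ze2) (ke xe19 ye7 ze20) (ke xe5 ye21 ze34) (ke xe19 ye7 ze21) (ke xe5 ye23 ze11) (ke xe16 ye57 ze40) (ke xe5 ye21 ze37) (ke xe19 ye7 ze25) (ke xe5 ye21 ze40) (ke xe19 ye3 ze32) (ke xe19 ye7 ze28) (ke xe15 ye44 ze6) (ke xe19 ye7 ze39) (ke xe5 ye21 ze44) (ke xe5 ye32 ze31) (ke xe19 ye7 ze44) (ke xe15 ye32 ze4) (ke xe19 ye7 ze48) (ke xe5 ye21 ze46) (ke xe5 ye24 ze9) (ke xe19 ye7 ze53) (ke xe5 ye24 ze11) (ke xe19 ye7 ze56)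 (ke xe19 ye7 ze60) (ke xe5 ye21 ze48) (ke xe19 ye8 ze4) (ke xe19 ye8 ze6) (ke xe5 ye21 ze49) (ke xe5 ye24 ze42) (ke xe19 ye8 ze15) (ke xe19 ye8 ze9) (ke xe16 ye38 ze31) (ke xe5 ye24 ze46) (ke xe11 ye53 ze23)) (@D3.rec (fun _ => Pt) (ke xe19 ye8 ze23) (ke xe5 ye21 ze52) (ke xe5 ye24 ze36) (ke xe7 ye44 ze48) (ke xe19 ye8 ze28) (ke xe14 ye31 ze53) (ke xe5 ye21 ze54) (ke xe5 ye21 ze55) (ke xe19 ye8 ze40) (ke xe5 ye24 ze18) (ke xe19 ye8 ze37) (ke xe19 ye2 ze45) (ke xe19 ye8 ze45) (ke xe5 ye21 ze57) (ke xe5 ye24 ze23) (ke xe11 ye58 ze60) (ke xe5 ye24 ze52) (ke xe19 ye8 ze55) (ke xe19 ye8 ze59) (ke xe5 ye21 ze60) (ke xe15 ye52 ze19) (ke xe5 ye21 ze61) (ke xe19 ye9 ze3) (ke xe19 ye3 ze0) (ke xe5 ye25 ze1) (ke xe19 ye9 ze13) (ke xe19 ye9 ze15) (ke xe19 ye9 ze19) (ke xe5 ye22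 ze1) (ke xe5 ye22 ze2) (ke xe19 ye9 ze26) (ke xe19 ye2 ze54) (ke xe19 ye9 ze31) (ke xe19 ye9 ze34) (ke xe19 ye9 ze37) (ke xe19 ye9 ze38) (ke xe19 ye9 ze40) (ke xe5 ye22 ze4) (ke xe12 ye5 ze29) (ke xe12 ye5 ze43) (ke xe14 ye19 ze48) (ke xe19 ye9 ze51) (ke xe19 ye9 ze54) (ke xe19 ye9 ze57) (ke xe19 ye10 ze0) (ke xe5 ye22 ze7) (ke xe19 ye10 ze1) (ke xe5 ye22 ze8) (ke xe13 ye8 ze27) (ke xe5 ye22 ze9) (ke xe19 ye10 ze10) (ke xe5 ye22 ze10) (ke xe19 ye10 ze15) (ke xe5 ye22 ze11) (ke xe19 ye10 ze22) (ke xe19 ye10 ze26) (ke xe19 ye9 ze60) (ke xe5 ye22 ze13) (ke xe11 ye30 ze3) (ke xe18 ye58 ze24) (ke xe19 ye10 ze30) (ke xe18 ye39 ze45)) (@D3.rec (fun _ => Pt) (ke xe10 ye35 ze30) (ke xe19 ye10 ze33) (ke xe5 ye22 ze18) (ke xe19 ye10 ze36) (ke xe19 ye10 ze37) (ke xe14 ye47 ze51)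 (ke xe19 ye10 ze40) (ke xe5 ye22 ze19) (ke xe5 ye22 ze20) (ke xe19 ye10 ze43) (ke xe19 ye10 ze31) (ke xe10 ye37 ze40) (ke xe5 ye22 ze23) (ke xe19 ye10 ze45) (ke xe15 ye9 ze9) (ke xe11 ye53 ze14) (ke xe19 ye10 ze46) (ke xe5 ye22 ze26) (ke xe16 ye13 ze49) (ke xe7 ye30 ze2) (ke xe5 ye22 ze28) (ke xe8 ye41 ze23) (ke xe19 ye10 ze51) (ke xe5 ye22 ze32) (ke xe19 ye5 ze33) (ke xe18 ye17 ze41) (ke xe10 ye15 ze38) (ke xe12 ye43 ze46) (ke xe5 ye22 ze34) (ke xe10 ye33 ze12) (ke xe10 ye35 ze0) (ke xe19 ye11 ze1) (ke xe9 ye50 ze11) (ke xe7 ye50 ze35) (ke xe5 ye22 ze36) (ke xe17 ye49 ze2) (ke xe16 ye51 ze14) (ke xe18 ye17 ze49) (ke xe19 ye11 ze9) (ke xe5 ye22 ze39) (ke xe19 ye11 ze10) (ke xe8 ye54 ze10) (ke xe5 ye22 ze44) (ke xe15 ye36 ze39) (ke xe15 ye1 ze59) (ke xe19 ye11 ze11)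 (ke xe19 ye11 ze18) (ke xe19 ye11 ze21) (ke xe19 ye11 ze24) (ke xe19 ye11 ze25) (ke xe5 ye22 ze45) (ke xe16 ye57 ze45) (ke xe16 ye54 ze22) (ke xe18 ye10 ze38) (ke xe18 ye59 ze30) (ke xe10 ye42 ze50) (ke xe10 ye42 ze53) (ke xe9 ye3 ze55) (ke xe17 ye0 ze51) (ke xe16 ye45 ze19) (ke xe19 ye11 ze39) (ke xe19 ye11 ze41)) (@D3.rec (fun _ => Pt) (ke xe5 ye22 ze51) (ke xe5 ye22 ze52) (ke xe10 ye16 ze49) (ke xe19 ye7 ze23) (ke xe19 ye11 ze47) (ke xe19 ye11 ze59) (ke xe19 ye12 ze1) (ke xe19 ye12 ze2) (ke xe18 ye51 ze32) (ke xe5 ye22 ze54) (ke xe5 ye22 ze55) (ke xe19 ye12 ze9) (ke xe14 ye39 ze32) (ke xe17 ye1 ze56) (ke xe19 ye12 ze18) (ke xe19 ye12 ze20) (ke xe19 ye12 ze23) (ke xe5 ye22 ze57) (ke xe5 ye22 ze58) (ke xe5 ye22 ze59) (ke xe19 ye12 ze29) (ke xe19 ye12 ze38) (ke xe19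 ye12 ze41) (ke xe18 ye53 ze18) (ke xe5 ye22 ze61) (ke xe19 ye12 ze47) (ke xe19 ye12 ze48) (ke xe7 ye13 ze58) (ke xe5 ye23 ze0) (ke xe19 ye12 ze51) (ke xe5 ye23 ze1) (ke xe19 ye12 ze55) (ke xe18 ye47 ze29) (ke xe5 ye23 ze2) (ke xe14 ye21 ze23) (ke xe14 ye36 ze21) (ke xe14 ye37 ze60) (ke xe14 ye37 ze2) (ke xe19 ye13 ze8) (ke xe5 ye23 ze4) (ke xe19 ye13 ze13) (ke xe5 ye23 ze5) (ke xe18 ye47 ze15) (ke xe10 ye26 ze59) (ke xe5 ye23 ze9) (ke xe19 ye4 ze13) (ke xe14 ye33 ze45) (ke xe14 ye30 ze46) (ke xe19 ye13 ze30) (ke xe19 ye13 ze31) (ke xe19 ye13 ze33) (ke xe5 ye23 ze8) (ke xe19 ye13 ze36) (ke xe9 ye4 ze8) (ke xe19 ye13 ze20) (ke xe19 ye13 ze44) (ke xe15 ye45 ze21) (ke xe7 ye47 ze17) (ke xe13 ye12 ze33) (ke xe19 ye13 ze53) (ke xe5 ye23 ze12) (ke xe19 ye13 ze55)) (@D3.rec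 (fun _ => Pt) (ke xe5 ye23 ze13) (ke xe19 ye13 ze58) (ke xe5 ye23 ze15) (ke xe5 ye31 ze61) (ke xe19 ye13 ze61) (ke xe15 ye19 ze15) (ke xe5 ye23 ze21) (ke xe19 ye14 ze9) (ke xe11 ye53 ze21) (ke xe19 ye14 ze11) (ke xe19 ye14 ze15) (ke xe19 ye14 ze16) (ke xe5 ye23 ze20) (ke xe16 ye36 ze21) (ke xe19 ye14 ze19) (ke xe19 ye14 ze3) (ke xe19 ye14 ze21) (ke xe8 ye54 ze18) (ke xe19 ye14 ze23) (ke xe5 ye23 ze22) (ke xe19 ye14 ze29) (ke xe5 ye23 ze24) (ke xe10 ye0 ze53) (ke xe14 ye39 ze34) (ke xe19 ye14 ze36) (ke xe19 ye14 ze38) (ke xe19 ye14 ze42) (ke xe5 ye23 ze27) (ke xe5 ye23 ze28) (ke xe18 ye27 ze46) (ke xe19 ye14 ze49) (ke xe11 ye4 ze12) (ke xe14 ye58 ze5) (ke xe8 ye36 ze57) (ke xe7 ye55 ze40) (ke xe19 ye14 ze59) (ke xe19 ye14 ze61) (ke xe7 ye44 ze46) (ke xe5 ye23 ze33) (ke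 xe17 ye33 ze29) (ke xe10 ye35 ze11) (ke xe19 ye15 ze4) (ke xe8 ye19 ze3) (ke xe5 ye23 ze35) (ke xe8 ye11 ze10) (ke xe16 ye2 ze29) (ke xe15 ye36 ze28) (ke xe8 ye34 ze5) (ke xe14 ye34 ze29) (ke xe14 ye39 ze38) (ke xe19 ye15 ze16) (ke xe19 ye15 ze17) (ke xe19 ye15 ze19) (ke xe19 ye15 ze21) (ke xe5 ye23 ze41) (ke xe19 ye15 ze24) (ke xe5 ye23 ze42) (ke xe19 ye15 ze28) (ke xe7 ye44 ze5) (ke xe19 ye15 ze33) (ke xe5 ye23 ze43) (ke xe14 ye37 ze30)) (@D3.rec (fun _ => Pt) (ke xe14 ye21 ze30) (ke xe19 ye15 ze34) (ke xe14 ye21 ze44) (ke xe19 ye15 ze47) (ke xe18 ye50 ze2) (ke xe5 ye23 ze48) (ke xe18 ye50 ze50) (ke xe19 ye15 ze58) (ke xe19 ye15 ze60) (ke xe19 ye16 ze2) (ke xe5 ye23 ze46) (ke xe18 ye30 ze47) (ke xe19 ye16 ze7) (ke xe19 ye16 ze10) (ke xe19 ye16 ze13) (ke xe19 ye15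 ze53) (ke xe19 ye16 ze19) (ke xe16 ye43 ze60) (ke xe19 ye16 ze24) (ke xe19 ye16 ze28) (ke xe5 ye23 ze50) (ke xe18 ye30 ze45) (ke xe8 ye27 ze9) (ke xe15 ye47 ze28) (ke xe16 ye4 ze28) (ke xe19 ye16 ze33) (ke xe16 ye4 ze25) (ke xe5 ye23 ze59) (ke xe19 ye16 ze43) (ke xe16 ye3 ze0) (ke xe19 ye16 ze48) (ke xe19 ye16 ze49) (ke xe5 ye23 ze57) (ke xe19 ye16 ze55) (ke xe19 ye16 ze56) (ke xe5 ye23 ze58) (ke xe19 ye16 ze61) (ke xe7 ye48 ze50) (ke xe19 ye16 ze38) (ke xe19 ye17 ze2) (ke xe19 ye17 ze3) (ke xe5 ye23 ze60) (ke xe15 ye8 ze55) (ke xe19 ye17 ze6) (ke xe17 ye33 ze51) (ke xe19 ye17 ze7) (ke xe19 ye17 ze8) (ke xe5 ye24 ze0) (ke xe5 ye24 ze1) (ke xe6 ye3 ze57) (ke xe19 ye17 ze14) (ke xe17 ye13 ze31) (ke xe9 ye43 ze1) (ke xe16 ye39 ze17) (ke xe5 ye24 ze3) (ke xe10 ye28 ze13)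 (ke xe5 ye24 ze4) (ke xe10 ye32 ze60) (ke xe19 ye17 ze21) (ke xe19 ye17 ze23) (ke xe19 ye17 ze24) (ke xe5 ye24 ze7)) (@D3.rec (fun _ => Pt) (ke xe19 ye13 ze9) (ke xe11 ye1 ze9) (ke xe19 ye17 ze33) (ke xe19 ye7 ze51) (ke xe19 ye17 ze35) (ke xe12 ye51 ze0) (ke xe5 ye24 ze10) (ke xe19 ye7 ze54) (ke xe13 ye2 ze26) (ke xe18 ye45 ze39) (ke xe5 ye24 ze12) (ke xe7 ye7 ze19) (ke xe10 ye24 ze40) (ke xe19 ye17 ze45) (ke xe5 ye24 ze13) (ke xe19 ye17 ze50) (ke xe19 ye17 ze53) (ke xe19 ye17 ze46) (ke xe7 ye45 ze32) (ke xe19 ye17 ze59) (ke xe5 ye24 ze15) (ke xe19 ye18 ze4) (ke xe5 ye24 ze16) (ke xe19 ye18 ze6) (ke xe11 ye47 ze12) (ke xe5 ye24 ze20) (ke xe19 ye4 ze41) (ke xe19 ye8 ze41) (ke xe19 ye18 ze12) (ke xe5 ye24 ze19) (ke xe19 ye18 ze14) (ke xe18 ye48 ze36) (ke xe13 ye22 ze0)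 (ke xe19 ye8 ze46) (ke xe8 ye52 ze35) (ke xe19 ye18 ze17) (ke xe5 ye24 ze25) (ke xe19 ye18 ze20) (ke xe10 ye3 ze6) (ke xe15 ye12 ze48) (ke xe15 ye18 ze25) (ke xe19 ye18 ze22) (ke xe7 ye36 ze57) (ke xe19 ye18 ze27) (ke xe5 ye24 ze31) (ke xe19 ye18 ze34) (ke xe15 ye30 ze3) (ke xe19 ye18 ze30) (ke xe18 ye2 ze44) (ke xe5 ye24 ze33) (ke xe19 ye8 ze24) (ke xe19 ye8 ze25) (ke xe19 ye18 ze42) (ke xe19 ye18 ze44) (ke xe5 ye24 ze37) (ke xe7 ye24 ze43) (ke xe18 ye4 ze61) (ke xe19 ye18 ze49) (ke xe7 ye46 ze6) (ke xe19 ye18 ze54) (ke xe19 ye18 ze57) (ke xe18 ye20 ze38)) (@D3.rec (fun _ => Pt) (ke xe19 ye18 ze61) (ke xe19 ye19 ze0) (ke xe13 ye21 ze43) (ke xe5 ye24 ze41) (ke xe19 ye8 ze11) (ke xe7 ye16 ze5) (ke xe19 ye19 ze7) (ke xe19 ye19 ze10) (ke xe5 ye24 ze44) (ke xe10 ye28 ze38)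 (ke xe13 ye5 ze30) (ke xe5 ye29 ze17) (ke xe17 ye28 ze52) (ke xe5 ye24 ze48) (ke xe15 ye17 ze42) (ke xe19 ye19 ze21) (ke xe11 ye52 ze14) (ke xe19 ye19 ze27) (ke xe11 ye53 ze8) (ke xe19 ye19 ze30) (ke xe19 ye19 ze35) (ke xe19 ye19 ze36) (ke xe5 ye24 ze51) (ke xe19 ye8 ze51) (ke xe19 ye8 ze52) (ke xe19 ye19 ze41) (ke xe19 ye19 ze43) (ke xe14 ye3 ze53) (ke xe5 ye24 ze53) (ke xe19 ye19 ze46) (ke xe15 ye32 ze39) (ke xe19 ye19 ze49) (ke xe5 ye24 ze54) (ke xe13 ye41 ze60) (ke xe19 ye19 ze55) (ke xe19 ye19 ze58) (ke xe5 ye24 ze55) (ke xe19 ye19 ze61) (ke xe19 ye20 ze2) (ke xe5 ye24 ze57) (ke xe14 ye53 ze2) (ke xe5 ye24 ze59) (ke xe19 ye20 ze8) (ke xe5 ye24 ze60) (ke xe17 ye21 ze50) (ke xe7 ye20 ze56) (ke xe19 ye9 ze8) (ke xe19 ye20 ze9) (ke xe19 ye20 ze12) (ke xe19 ye20 ze13)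 (ke xe19 ye20 ze14) (ke xe5 ye25 ze2) (ke xe14 ye53 ze15) (ke xe13 ye4 ze47) (ke xe17 ye50 ze0) (ke xe19 ye20 ze20) (ke xe15 ye1 ze58) (ke xe5 ye25 ze4) (ke xe19 ye20 ze28) (ke xe19 ye20 ze31) (ke xe19 ye20 ze33) (ke xe5 ye25 ze5)) (@D3.rec (fun _ => Pt) (ke xe19 ye20 ze36) (ke xe16 ye53 ze57) (ke xe19 ye20 ze37) (ke xe17 ye35 ze44) (ke xe15 ye2 ze1) (ke xe19 ye20 ze39) (ke xe18 ye20 ze58) (ke xe5 ye25 ze9) (ke xe18 ye20 ze35) (ke xe19 ye20 ze41) (ke xe5 ye25 ze11) (ke xe19 ye20 ze44) (ke xe18 ye45 ze33) (ke xe5 ye25 ze12) (ke xe19 ye9 ze35) (ke xe19 ye20 ze49) (ke xe19 ye20 ze52) (ke xe5 ye25 ze13) (ke xe14 ye41 ze28) (ke xe19 ye20 ze57) (ke xe18 ye1 ze57) (ke xe19 ye20 ze61) (ke xe5 ye25 ze14) (ke xe17 ye58 ze29) (ke xe19 ye21 ze4) (ke xe19 ye21 ze9) (ke xe5 ye25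 ze15) (ke xe19 ye21 ze11) (ke xe12 ye5 ze42) (ke xe18 ye45 ze15) (ke xe19 ye19 ze5) (ke xe5 ye25 ze17) (ke xe19 ye9 ze45) (ke xe19 ye21 ze17) (ke xe19 ye21 ze19) (ke xe5 ye25 ze18) (ke xe11 ye27 ze59) (ke xe5 ye25 ze19) (ke xe19 ye21 ze25) (ke xe5 ye25 ze20) (ke xe19 ye9 ze42) (ke xe19 ye21 ze26) (ke xe19 ye18 ze15) (ke xe19 ye21 ze30) (ke xe19 ye21 ze33) (ke xe14 ye13 ze37) (ke xe5 ye25 ze22) (ke xe19 ye21 ze38) (ke xe19 ye21 ze43) (ke xe5 ye25 ze23) (ke xe19 ye21 ze47) (ke xe19 ye21 ze50) (ke xe5 ye25 ze24) (ke xe19 ye21 ze46) (ke xe19 ye21 ze56) (ke xe19 ye21 ze59) (ke xe5 ye25 ze25) (ke xe19 ye22 ze3) (ke xe19 ye22 ze7) (ke xe18 ye45 ze9) (ke xe19 ye22 ze11) (ke xe5 ye25 ze27)) (@D3.rec (fun _ => Pt) (ke xe19 ye22 ze17) (ke xe19 ye22 ze21) (ke xe19 ye22 ze14) (ke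 xe19 ye22 ze23) (ke xe19 ye22 ze25) (ke xe5 ye25 ze29) (ke xe10 ye25 ze53) (ke xe17 ye48 ze60) (ke xe19 ye5 ze24) (ke xe19 ye22 ze36) (ke xe19 ye22 ze39) (ke xe5 ye25 ze31) (ke xe18 ye35 ze3) (ke xe17 ye50 ze13) (ke xe18 ye48 ze44) (ke xe10 ye27 ze40) (ke xe9 ye58 ze50) (ke xe5 ye25 ze33) (ke xe12 ye18 ze12) (ke xe19 ye22 ze56) (ke xe18 ye16 ze23) (ke xe19 ye22 ze61) (ke xe5 ye25 ze35) (ke xe17 ye47 ze45) (ke xe18 ye15 ze43) (ke xe19 ye23 ze6) (ke xe5 ye25 ze37) (ke xe10 ye13 ze33) (ke xe19 ye23 ze10) (ke xe5 ye25 ze41) (ke xe19 ye23 ze15) (ke xe19 ye23 ze17) (ke xe12 ye57 ze8) (ke xe5 ye25 ze39) (ke xe19 ye23 ze20) (ke xe19 ye23 ze22) (ke xe19 ye23 ze23) (ke xe5 ye25 ze40) (ke xe9 ye16 ze15) (ke xe15 ye26 ze56) (ke xe19 ye23 ze13) (ke xe19 ye23 ze26) (ke xe18 ye17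 ze40) (ke xe5 ye25 ze42) (ke xe19 ye23 ze28) (ke xe12 ye57 ze56) (ke xe5 ye25 ze43) (ke xe8 ye54 ze48) (ke xe16 ye54 ze31) (ke xe19 ye23 ze34) (ke xe10 ye35 ze55) (ke xe5 ye25 ze46) (ke xe5 ye25 ze47) (ke xe10 ye35 ze56) (ke xe19 ye23 ze42) (ke xe9 ye25 ze40) (ke xe5 ye25 ze50) (ke xe10 ye46 ze3) (ke xe9 ye25 ze21) (ke xe19 ye23 ze52) (ke xe5 ye25 ze53) (ke xe16 ye44 ze41)) (@D3.rec (fun _ => Pt) (ke xe16 ye44 ze38) (ke xe19 ye23 ze59) (ke xe18 ye48 ze55) (ke xe5 ye25 ze55) (ke xe18 ye48 ze49) (ke xe5 ye28 ze0) (ke xe19 ye24 ze7) (ke xe18 ye48 ze56) (ke xe11 ye55 ze10) (ke xe5 ye28 ze5) (ke xe19 ye24 ze11) (ke xe19 ye24 ze13) (ke xe5 ye25 ze59) (ke xe14 ye20 ze38) (ke xe15 ye5 ze8) (ke xe15 ye45 ze31) (ke xe19 ye24 ze15) (ke xe19 ye24 ze18) (ke xe17 ye0 ze31) (ke xe5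 ye26 ze0) (ke xe16 ye45 ze15) (ke xe16 ye45 ze16) (ke xe19 ye24 ze22) (ke xe11 ye28 ze53) (ke xe5 ye26 ze2) (ke xe11 ye28 ze25) (ke xe19 ye24 ze24) (ke xe5 ye29 ze15) (ke xe19 ye24 ze28) (ke xe15 ye38 ze27) (ke xe19 ye24 ze33) (ke xe19 ye24 ze37) (ke xe19 ye24 ze38) (ke xe5 ye26 ze7) (ke xe15 ye19 ze38) (ke xe19 ye24 ze44) (ke xe5 ye26 ze8) (ke xe13 ye1 ze36) (ke xe15 ye40 ze34) (ke xe5 ye26 ze9) (ke xe15 ye59 ze30) (ke xe15 ye35 ze16) (ke xe11 ye54 ze42) (ke xe16 ye42 ze52) (ke xe19 ye24 ze54) (ke xe19 ye24 ze58) (ke xe19 ye24 ze59) (ke xe5 ye26 ze14) (ke xe19 ye25 ze1) (ke xe5 ye26 ze15) (ke xe19 ye25 ze5) (ke xe11 ye24 ze61) (ke xe16 ye43 ze45) (ke xe9 ye46 ze46) (ke xe8 ye12 ze57) (ke xe15 ye44 ze21) (ke xe9 ye15 ze21) (ke xe19 ye25 ze15) (ke xe5 ye26 ze23) (ke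 xe5 ye31 ze7) (ke xe19 ye25 ze19) (ke xe19 ye25 ze22)) (@D3.rec (fun _ => Pt) (ke xe5 ye26 ze24) (ke xe9 ye24 ze44) (ke xe5 ye26 ze25) (ke xe15 ye51 ze54) (ke xe12 ye4 ze46) (ke xe19 ye25 ze29) (ke xe11 ye55 ze61) (ke xe16 ye46 ze28) (ke xe11 ye55 ze32) (ke xe19 ye25 ze42) (ke xe17 ye17 ze15) (ke xe5 ye26 ze28) (ke xe19 ye15 ze57) (ke xe5 ye26 ze30) (ke xe5 ye31 ze36) (ke xe5 ye31 ze37) (ke xe11 ye48 ze6) (ke xe5 ye26 ze32) (ke xe11 ye33 ze10) (ke xe12 ye30 ze5) (ke xe19 ye25 ze50) (ke xe11 ye48 ze25) (ke xe5 ye32 ze50) (ke xe10 ye55 ze35) (ke xe5 ye26 ze36) (ke xe17 ye56 ze42) (ke xe5 ye32 ze53) (ke xe11 ye55 ze51) (ke xe5 ye32 ze54) (ke xe19 ye25 ze56) (ke xe12 ye4 ze6) (ke xe5 ye26 ze41) (ke xe5 ye32 ze17) (ke xe19 ye25 ze59) (ke xe11 ye47 ze38) (ke xe19 ye26 ze2)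 (ke xe19 ye26 ze4) (ke xe19 ye26 ze6) (ke xe5 ye26 ze44) (ke xe19 ye26 ze8) (ke xe15 ye15 ze17) (ke xe17 ye17 ze8) (ke xe11 ye55 ze29) (ke xe19 ye26 ze14) (ke xe5 ye26 ze46) (ke xe15 ye15 ze21) (ke xe5 ye32 ze34) (ke xe19 ye26 ze17) (ke xe5 ye26 ze50) (ke xe19 ye26 ze21) (ke xe6 ye25 ze10) (ke xe5 ye26 ze54) (ke xe19 ye26 ze24) (ke xe5 ye26 ze55) (ke xe19 ye26 ze26) (ke xe5 ye33 ze3) (ke xe19 ye26 ze32) (ke xe5 ye26 ze56) (ke xe11 ye39 ze60) (ke xe16 ye45 ze21) (ke xe9 ye4 ze60) (ke xe5 ye26 ze59)) (@D3.rec (fun _ => Pt) (ke xe17 ye9 ze53) (ke xe5 ye33 ze26) (ke xe19 ye26 ze44) (ke xe19 ye26 ze46) (ke xe5 ye26 ze61) (ke xe11 ye32 ze25) (ke xe5 ye33 ze35) (ke xe12 ye49 ze52) (ke xe15 ye33 ze59) (ke xe19 ye26 ze51) (ke xe5 ye27 ze3) (ke xe19 ye26 ze54) (ke xe5 ye27 ze4)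 (ke xe5 ye33 ze50) (ke xe19 ye26 ze57) (ke xe19 ye26 ze60) (ke xe11 ye41 ze38) (ke xe5 ye27 ze5) (ke xe5 ye50 ze61) (ke xe19 ye27 ze4) (ke xe5 ye33 ze57) (ke xe19 ye27 ze9) (ke xe19 ye27 ze13) (ke xe5 ye27 ze6) (ke xe9 ye8 ze54) (ke xe19 ye27 ze20) (ke xe5 ye27 ze7) (ke xe5 ye34 ze18) (ke xe19 ye27 ze21) (ke xe9 ye8 ze19) (ke xe9 ye8 ze9) (ke xe19 ye27 ze28) (ke xe19 ye27 ze29) (ke xe5 ye27 ze11) (ke xe8 ye0 ze26) (ke xe19 ye27 ze33) (ke xe5 ye27 ze14) (ke xe17 ye7 ze49) (ke xe11 ye34 ze51) (ke xe5 ye52 ze7) (ke xe17 ye59 ze58) (ke xe15 ye26 ze51) (ke xe5 ye27 ze17) (ke xe11 ye41 ze52) (ke xe19 ye27 ze47) (ke xe11 ye58 ze34) (ke xe19 ye27 ze50) (ke xe19 ye27 ze52) (ke xe11 ye58 ze33) (ke xe6 ye44 ze30) (ke xe17 ye5 ze14) (ke xe19 ye27 ze57) (ke xe5 ye27 ze22) (ke xe11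 ye58 ze36) (ke xe19 ye27 ze60) (ke xe19 ye28 ze1) (ke xe19 ye28 ze4) (ke xe19 ye28 ze6) (ke xe19 ye7 ze13) (ke xe5 ye27 ze26) (ke xe5 ye27 ze27) (ke xe19 ye28 ze17)) (@D3.rec (fun _ => Pt) (ke xe17 ye19 ze16) (ke xe19 ye7 ze11) (ke xe19 ye28 ze24) (ke xe10 ye42 ze57) (ke xe5 ye27 ze29) (ke xe19 ye28 ze29) (ke xe19 ye28 ze33) (ke xe7 ye15 ze27) (ke xe7 ye9 ze49) (ke xe5 ye27 ze31) (ke xe15 ye55 ze8) (ke xe19 ye28 ze40) (ke xe15 ye55 ze12) (ke xe19 ye28 ze43) (ke xe5 ye27 ze34) (ke xe19 ye28 ze46) (ke xe5 ye27 ze36) (ke xe19 ye28 ze49) (ke xe7 ye41 ze27) (ke xe19 ye28 ze52) (ke xe19 ye28 ze54) (ke xe5 ye27 ze37) (ke xe5 ye27 ze38) (ke xe19 ye28 ze61) (ke xe19 ye23 ze44) (ke xe19 ye28 ze59) (ke xe11 ye55 ze11) (ke xe19 ye29 ze7) (ke xe8 ye29 ze51) (ke xe5 ye27 ze40) (ke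 xe18 ye22 ze27) (ke xe19 ye29 ze15) (ke xe19 ye29 ze16) (ke xe5 ye27 ze43) (ke xe11 ye52 ze43) (ke xe15 ye18 ze31) (ke xe19 ye29 ze22) (ke xe19 ye29 ze24) (ke xe19 ye29 ze26) (ke xe19 ye29 ze30) (ke xe5 ye27 ze45) (ke xe5 ye27 ze46) (ke xe18 ye45 ze31) (ke xe19 ye29 ze37) (ke xe15 ye37 ze33) (ke xe15 ye55 ze11) (ke xe17 ye21 ze11) (ke xe19 ye29 ze51) (ke xe19 ye29 ze53) (ke xe19 ye29 ze57) (ke xe5 ye27 ze50) (ke xe5 ye27 ze51) (ke xe19 ye30 ze2) (ke xe11 ye55 ze8) (ke xe19 ye30 ze9) (ke xe19 ye30 ze11) (ke xe19 ye30 ze13) (ke xe19 ye10 ze12) (ke xe5 ye27 ze53) (ke xe5 ye27 ze54) (ke xe19 ye30 ze22) (ke xe16 ye44 ze25)) (@D3.rec (fun _ => Pt) (ke xe19 ye30 ze29) (ke xe16 ye57 ze18) (ke xe19 ye30 ze31) (ke xe5 ye27 ze56) (ke xe19 ye30 ze38) (ke xe19 ye30 ze40) (ke xe5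 ye27 ze57) (ke xe7 ye39 ze52) (ke xe5 ye27 ze58) (ke xe18 ye55 ze42) (ke xe19 ye30 ze48) (ke xe19 ye30 ze52) (ke xe5 ye27 ze59) (ke xe19 ye30 ze54) (ke xe7 ye39 ze33) (ke xe18 ye48 ze15) (ke xe19 ye30 ze56) (ke xe5 ye28 ze2) (ke xe9 ye21 ze18) (ke xe19 ye24 ze3) (ke xe7 ye15 ze54) (ke xe19 ye30 ze61) (ke xe13 ye23 ze10) (ke xe5 ye28 ze1) (ke xe13 ye10 ze33) (ke xe10 ye1 ze12) (ke xe19 ye24 ze10) (ke xe13 ye19 ze17) (ke xe19 ye31 ze7) (ke xe5 ye28 ze6) (ke xe19 ye31 ze10) (ke xe5 ye28 ze7) (ke xe19 ye31 ze16) (ke xe19 ye31 ze18) (ke xe5 ye28 ze8) (ke xe15 ye31 ze16) (ke xe19 ye31 ze26) (ke xe19 ye31 ze27) (ke xe5 ye28 ze12) (ke xe15 ye16 ze4) (ke xe10 ye51 ze50) (ke xe19 ye31 ze36) (ke xe19 ye31 ze39) (ke xe5 ye28 ze19) (ke xe19 ye31 ze42) (ke xe5 ye57 ze10) (ke xe19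 ye31 ze45) (ke xe19 ye31 ze47) (ke xe5 ye28 ze20) (ke xe5 ye28 ze21) (ke xe19 ye31 ze58) (ke xe8 ye55 ze23) (ke xe19 ye31 ze54) (ke xe11 ye53 ze9) (ke xe19 ye31 ze12) (ke xe19 ye32 ze6) (ke xe8 ye34 ze16) (ke xe5 ye28 ze23) (ke xe18 ye22 ze10) (ke xe8 ye34 ze54) (ke xe16 ye51 ze10) (ke xe5 ye57 ze6)) (@D3.rec (fun _ => Pt) (ke xe5 ye57 ze7) (ke xe10 ye58 ze16) (ke xe5 ye28 ze28) (ke xe19 ye32 ze17) (ke xe5 ye28 ze29) (ke xe11 ye49 ze38) (ke xe18 ye22 ze28) (ke xe11 ye55 ze18) (ke xe9 ye18 ze5) (ke xe8 ye58 ze58) (ke xe5 ye28 ze34) (ke xe9 ye17 ze60) (ke xe13 ye52 ze21) (ke xe12 ye31 ze9) (ke xe11 ye21 ze7) (ke xe9 ye2 ze20) (ke xe11 ye58 ze39) (ke xe11 ye2 ze27) (ke xe11 ye2 ze30) (ke xe14 ye15 ze56) (ke xe15 ye4 ze20) (ke xe5 ye40 ze51) (ke xe5 ye58 ze48) (ke xe12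 ye10 ze2) (ke xe19 ye32 ze31) (ke xe19 ye32 ze32) (ke xe5 ye28 ze40) (ke xe5 ye28 ze41) (ke xe19 ye32 ze35) (ke xe5 ye28 ze42) (ke xe10 ye17 ze7) (ke xe14 ye20 ze41) (ke xe19 ye32 ze36) (ke xe5 ye28 ze46) (ke xe5 ye57 ze23) (ke xe8 ye12 ze8) (ke xe11 ye28 ze39) (ke xe5 ye52 ze4) (ke xe19 ye32 ze44) (ke xe19 ye32 ze48) (ke xe5 ye28 ze47) (ke xe9 ye6 ze45) (ke xe9 ye6 ze46) (ke xe19 ye32 ze53) (ke xe10 ye55 ze28) (ke xe5 ye28 ze49) (ke xe19 ye32 ze59) (ke xe9 ye6 ze48) (ke xe19 ye33 ze1) (ke xe5 ye28 ze50) (ke xe19 ye33 ze9) (ke xe5 ye28 ze51) (ke xe11 ye51 ze47) (ke xe18 ye33 ze56) (ke xe19 ye33 ze10) (ke xe11 ye5 ze29) (ke xe5 ye49 ze36) (ke xe5 ye28 ze54) (ke xe5 ye49 ze25) (ke xe15 ye30 ze48) (ke xe5 ye49 ze19) (ke xe5 ye49 ze20)) (@D3.rec (fun _ => Pt) (ke xe5 ye30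 ze37) (ke xe5 ye30 ze45) (ke xe5 ye28 ze58) (ke xe5 ye49 ze58) (ke xe9 ye1 ze11) (ke xe5 ye28 ze59) (ke xe9 ye14 ze44) (ke xe10 ye19 ze5) (ke xe5 ye29 ze1) (ke xe6 ye7 ze23) (ke xe6 ye12 ze21) (ke xe11 ye29 ze10) (ke xe9 ye48 ze24) (ke xe14 ye50 ze13) (ke xe14 ye8 ze4) (ke xe5 ye29 ze2) (ke xe19 ye33 ze27) (ke xe11 ye50 ze34) (ke xe19 ye33 ze32) (ke xe19 ye33 ze36) (ke xe5 ye29 ze3) (ke xe18 ye47 ze43) (ke xe5 ye29 ze4) (ke xe19 ye33 ze47) (ke xe14 ye8 ze3) (ke xe11 ye55 ze17) (ke xe19 ye33 ze51) (ke xe19 ye33 ze54) (ke xe19 ye33 ze55) (ke xe19 ye33 ze57) (ke xe5 ye29 ze6) (ke xe19 ye34 ze1) (ke xe19 ye34 ze3) (ke xe5 ye29 ze7) (ke xe19 ye34 ze10) (ke xe5 ye29 ze8) (ke xe11 ye31 ze60) (ke xe17 ye18 ze7) (ke xe16 ye44 ze61) (ke xe12 ye10 ze53) (ke xe6 ye32 ze11) (ke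 xe19 ye34 ze18) (ke xe5 ye29 ze12) (ke xe19 ye34 ze20) (ke xe14 ye43 ze55) (ke xe5 ye29 ze13) (ke xe19 ye34 ze25) (ke xe19 ye34 ze28) (ke xe19 ye34 ze32) (ke xe19 ye24 ze25) (ke xe19 ye34 ze35) (ke xe19 ye34 ze38) (ke xe5 ye29 ze16) (ke xe16 ye39 ze7) (ke xe19 ye34 ze44) (ke xe19 ye34 ze47) (ke xe19 ye34 ze49) (ke xe19 ye34 ze50) (ke xe5 ye29 ze18) (ke xe19 ye34 ze55) (ke xe19 ye34 ze58) (ke xe15 ye40 ze60)) (@D3.rec (fun _ => Pt) (ke xe19 ye35 ze2) (ke xe8 ye55 ze45) (ke xe5 ye29 ze20) (ke xe19 ye35 ze7) (ke xe5 ye29 ze21) (ke xe15 ye36 ze53) (ke xe15 ye15 ze4) (ke xe19 ye35 ze13) (ke xe19 ye35 ze17) (ke xe19 ye35 ze19) (ke xe19 ye35 ze22) (ke xe5 ye29 ze25) (ke xe5 ye29 ze26) (ke xe15 ye19 ze28) (ke xe19 ye35 ze28) (ke xe7 ye38 ze59) (ke xe18 ye46 ze31) (ke xe5 ye29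 ze30) (ke xe19 ye35 ze39) (ke xe19 ye35 ze40) (ke xe5 ye29 ze31) (ke xe12 ye52 ze60) (ke xe9 ye34 ze9) (ke xe15 ye49 ze28) (ke xe5 ye29 ze35) (ke xe19 ye35 ze49) (ke xe5 ye29 ze36) (ke xe17 ye41 ze39) (ke xe15 ye36 ze51) (ke xe15 ye59 ze29) (ke xe19 ye35 ze54) (ke xe19 ye35 ze58) (ke xe19 ye35 ze59) (ke xe5 ye29 ze38) (ke xe15 ye40 ze54) (ke xe15 ye36 ze1) (ke xe15 ye58 ze23) (ke xe15 ye25 ze27) (ke xe5 ye29 ze40) (ke xe8 ye26 ze8) (ke xe17 ye52 ze40) (ke xe19 ye36 ze10) (ke xe10 ye20 ze26) (ke xe19 ye36 ze13) (ke xe19 ye36 ze16) (ke xe19 ye36 ze18) (ke xe12 ye33 ze30) (ke xe5 ye29 ze45) (ke xe8 ye13 ze29) (ke xe19 ye36 ze26) (ke xe19 ye36 ze29) (ke xe19 ye36 ze30) (ke xe19 ye36 ze32) (ke xe15 ye35 ze26) (ke xe5 ye29 ze48) (ke xe19 ye36 ze39) (ke xe18 ye46 ze28) (ke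 xe12 ye52 ze43) (ke xe18 ye46 ze26) (ke xe8 ye29 ze56) (ke xe19 ye36 ze45) (ke xe19 ye36 ze49)) (@D3.rec (fun _ => Pt) (ke xe19 ye36 ze2) (ke xe15 ye39 ze3) (ke xe5 ye29 ze53) (ke xe5 ye29 ze55) (ke xe6 ye28 ze9) (ke xe16 ye8 ze22) (ke xe19 ye36 ze58) (ke xe19 ye36 ze60) (ke xe15 ye39 ze36) (ke xe5 ye29 ze57) (ke xe15 ye32 ze26) (ke xe19 ye37 ze6) (ke xe19 ye37 ze8) (ke xe19 ye37 ze10) (ke xe5 ye29 ze60) (ke xe19 ye37 ze15) (ke xe15 ye39 ze56) (ke xe5 ye29 ze61) (ke xe19 ye37 ze21) (ke xe5 ye30 ze0) (ke xe19 ye37 ze27) (ke xe19 ye37 ze30) (ke xe19 ye37 ze34) (ke xe5 ye30 ze1) (ke xe19 ye37 ze40) (ke xe11 ye54 ze35) (ke xe17 ye32 ze37) (ke xe9 ye7 ze1) (ke xe19 ye37 ze47) (ke xe5 ye30 ze3) (ke xe19 ye37 ze51) (ke xe5 ye30 ze4) (ke xe19 ye37 ze57) (ke xe12 ye0 ze21) (ke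 xe5 ye30 ze8) (ke xe8 ye19 ze61) (ke xe19 ye38 ze3) (ke xe18 ye52 ze22) (ke xe8 ye7 ze58) (ke xe5 ye30 ze6) (ke xe11 ye54 ze33) (ke xe17 ye43 ze14) (ke xe15 ye38 ze25) (ke xe19 ye38 ze14) (ke xe19 ye38 ze0) (ke xe19 ye38 ze20) (ke xe15 ye35 ze1) (ke xe19 ye38 ze26) (ke xe19 ye38 ze30) (ke xe5 ye30 ze10) (ke xe10 ye47 ze40) (ke xe19 ye38 ze36) (ke xe15 ye41 ze18) (ke xe8 ye15 ze20) (ke xe15 ye18 ze41) (ke xe16 ye3 ze46) (ke xe5 ye32 ze11) (ke xe19 ye38 ze44) (ke xe16 ye3 ze43) (ke xe5 ye30 ze19) (ke xe19 ye38 ze49) (ke xe8 ye18 ze24)) (@D3.rec (fun _ => Pt) (ke xe19 ye38 ze53) (ke xe5 ye30 ze18) (ke xe6 ye43 ze50) (ke xe6 ye32 ze61) (ke xe19 ye38 ze47) (ke xe19 ye38 ze58) (ke xe5 ye30 ze20) (ke xe19 ye39 ze1) (ke xe19 ye39 ze3) (ke xe19 ye39 ze5) (ke xe5 ye30 ze21) (ke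 xe9 ye48 ze44) (ke xe11 ye10 ze21) (ke xe19 ye39 ze15) (ke xe19 ye39 ze17) (ke xe5 ye30 ze22) (ke xe19 ye39 ze23) (ke xe5 ye30 ze23) (ke xe6 ye31 ze13) (ke xe16 ye45 ze2) (ke xe19 ye39 ze24) (ke xe19 ye39 ze27) (ke xe10 ye55 ze13) (ke xe5 ye30 ze25) (ke xe19 ye39 ze33) (ke xe19 ye39 ze34) (ke xe5 ye30 ze26) (ke xe19 ye39 ze41) (ke xe5 ye30 ze27) (ke xe17 ye55 ze36) (ke xe19 ye39 ze43) (ke xe12 ye58 ze12) (ke xe19 ye39 ze49) (ke xe5 ye30 ze29) (ke xe19 ye25 ze3) (ke xe16 ye44 ze44) (ke xe9 ye7 ze0) (ke xe19 ye39 ze55) (ke xe19 ye39 ze57) (ke xe5 ye30 ze31) (ke xe19 ye39 ze59) (ke xe13 ye39 ze10) (ke xe5 ye30 ze32) (ke xe19 ye40 ze0) (ke xe19 ye40 ze3) (ke xe5 ye30 ze33) (ke xe12 ye25 ze37) (ke xe19 ye40 ze9) (ke xe15 ye53 ze52) (ke xe14 ye50 ze10) (ke xe5 ye30 ze35)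 (ke xe11 ye54 ze49) (ke xe11 ye54 ze50) (ke xe16 ye47 ze4) (ke xe19 ye40 ze20) (ke xe9 ye50 ze36) (ke xe16 ye49 ze19) (ke xe9 ye14 ze40) (ke xe5 ye30 ze39) (ke xe12 ye56 ze39) (ke xe11 ye51 ze57) (ke xe9 ye44 ze22)) (@D3.rec (fun _ => Pt) (ke xe5 ye38 ze26) (ke xe11 ye54 ze45) (ke xe12 ye57 ze40) (ke xe5 ye30 ze44) (ke xe16 ye6 ze51) (ke xe19 ye10 ze49) (ke xe19 ye40 ze34) (ke xe11 ye22 ze51) (ke xe5 ye30 ze47) (ke xe9 ye14 ze24) (ke xe9 ye31 ze50) (ke xe11 ye22 ze52) (ke xe16 ye38 ze21) (ke xe6 ye45 ze4) (ke xe19 ye40 ze45) (ke xe5 ye55 ze58) (ke xe6 ye44 ze49) (ke xe6 ye45 ze6) (ke xe18 ye38 ze21) (ke xe5 ye30 ze52) (ke xe16 ye2 ze56) (ke xe6 ye11 ze34) (ke xe12 ye15 ze60) (ke xe12 ye15 ze49) (ke xe5 ye30 ze59) (ke xe19 ye40 ze53) (ke xe15 ye55 ze15) (ke xe19 ye40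 ze57) (ke xe19 ye40 ze60) (ke xe5 ye30 ze60) (ke xe5 ye30 ze61) (ke xe7 ye38 ze9) (ke xe19 ye41 ze5) (ke xe18 ye4 ze24) (ke xe15 ye52 ze3) (ke xe11 ye56 ze2) (ke xe15 ye15 ze22) (ke xe19 ye41 ze10) (ke xe5 ye31 ze2) (ke xe7 ye48 ze10) (ke xe19 ye41 ze15) (ke xe19 ye41 ze16) (ke xe5 ye31 ze4) (ke xe16 ye2 ze6) (ke xe19 ye41 ze25) (ke xe12 ye55 ze54) (ke xe5 ye31 ze6) (ke xe19 ye25 ze17) (ke xe14 ye16 ze37) (ke xe5 ye31 ze8) (ke xe19 ye41 ze36) (ke xe19 ye41 ze39) (ke xe19 ye41 ze43) (ke xe5 ye31 ze9) (ke xe9 ye14 ze26) (ke xe19 ye41 ze46) (ke xe19 ye41 ze44) (ke xe12 ye30 ze7) (ke xe19 ye41 ze51) (ke xe5 ye31 ze11) (ke xe19 ye41 ze58) (ke xe5 ye31 ze12)) (@D3.rec (fun _ => Pt) (ke xe17 ye12 ze4) (ke xe10 ye30 ze46) (ke xe5 ye31 ze16) (ke xe16 ye7 ze5) (ke xe19 ye42 ze2)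 (ke xe7 ye32 ze43) (ke xe5 ye31 ze14) (ke xe19 ye42 ze6) (ke xe10 ye21 ze1) (ke xe5 ye31 ze15) (ke xe15 ye30 ze52) (ke xe8 ye15 ze47) (ke xe14 ye50 ze59) (ke xe15 ye9 ze16) (ke xe16 ye46 ze49) (ke xe7 ye41 ze18) (ke xe10 ye25 ze37) (ke xe5 ye31 ze19) (ke xe8 ye30 ze41) (ke xe16 ye45 ze52) (ke xe19 ye42 ze18) (ke xe10 ye26 ze22) (ke xe5 ye31 ze22) (ke xe19 ye42 ze24) (ke xe18 ye13 ze39) (ke xe5 ye31 ze23) (ke xe10 ye26 ze23) (ke xe8 ye29 ze17) (ke xe10 ye2 ze21) (ke xe6 ye5 ze47) (ke xe16 ye58 ze24) (ke xe11 ye25 ze58) (ke xe19 ye42 ze34) (ke xe18 ye44 ze16) (ke xe19 ye42 ze37) (ke xe5 ye31 ze28) (ke xe19 ye42 ze41) (ke xe5 ye31 ze29) (ke xe19 ye42 ze43) (ke xe19 ye42 ze45) (ke xe5 ye31 ze30) (ke xe19 ye42 ze51) (ke xe19 ye40 ze28) (ke xe9 ye46 ze33) (ke xe12 ye15 ze22)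 (ke xe10 ye4 ze53) (ke xe9 ye46 ze35) (ke xe6 ye42 ze20) (ke xe5 ye31 ze33) (ke xe19 ye42 ze59) (ke xe19 ye4 ze16) (ke xe19 ye7 ze5) (ke xe5 ye31 ze34) (ke xe19 ye43 ze0) (ke xe17 ye16 ze35) (ke xe15 ye30 ze14) (ke xe6 ye45 ze8) (ke xe15 ye55 ze35) (ke xe19 ye43 ze4) (ke xe19 ye43 ze7) (ke xe5 ye31 ze38) (ke xe5 ye52 ze60)) (@D3.rec (fun _ => Pt) (ke xe19 ye43 ze14) (ke xe11 ye12 ze44) (ke xe12 ye30 ze3) (ke xe17 ye8 ze27) (ke xe19 ye43 ze19) (ke xe5 ye31 ze40) (ke xe19 ye43 ze24) (ke xe19 ye43 ze27) (ke xe5 ye31 ze41) (ke xe19 ye43 ze34) (ke xe19 ye43 ze37) (ke xe19 ye43 ze39) (ke xe5 ye31 ze42) (ke xe10 ye52 ze22) (ke xe11 ye27 ze51) (ke xe9 ye5 ze40) (ke xe16 ye59 ze8) (ke xe19 ye43 ze47) (ke xe19 ye43 ze49) (ke xe5 ye31 ze45) (ke xe19 ye43 ze51) (ke xe11 ye26 ze60)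 (ke xe14 ye7 ze4) (ke xe5 ye31 ze48) (ke xe9 ye5 ze36) (ke xe9 ye44 ze0) (ke xe5 ye36 ze24) (ke xe9 ye5 ze43) (ke xe10 ye48 ze44) (ke xe10 ye6 ze49) (ke xe12 ye57 ze57) (ke xe5 ye38 ze27) (ke xe17 ye8 ze55) (ke xe11 ye11 ze31) (ke xe10 ye58 ze34) (ke xe10 ye44 ze23) (ke xe9 ye18 ze6) (ke xe5 ye31 ze59) (ke xe9 ye12 ze42) (ke xe19 ye44 ze4) (ke xe16 ye20 ze20) (ke xe16 ye20 ze21) (ke xe5 ye52 ze39) (ke xe5 ye34 ze20) (ke xe19 ye44 ze9) (ke xe5 ye32 ze3) (ke xe10 ye14 ze36) (ke xe6 ye20 ze42) (ke xe10 ye2 ze12) (ke xe18 ye11 ze5) (ke xe10 ye2 ze23) (ke xe19 ye44 ze16) (ke xe5 ye52 ze41) (ke xe5 ye39 ze37) (ke xe5 ye32 ze7) (ke xe15 ye32 ze27) (ke xe19 ye44 ze23) (ke xe19 ye44 ze25) (ke xe19 ye44 ze29) (ke xe5 ye32 ze8) (ke xe5 ye32 ze9) (ke xe19 ye38 ze13)) (@D3.rec (fun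 _ => Pt) (ke xe11 ye55 ze26) (ke xe19 ye44 ze36) (ke xe15 ye15 ze20) (ke xe19 ye38 ze42) (ke xe11 ye55 ze31) (ke xe19 ye44 ze52) (ke xe14 ye34 ze10) (ke xe18 ye51 ze29) (ke xe19 ye44 ze57) (ke xe17 ye52 ze46) (ke xe19 ye44 ze60) (ke xe5 ye32 ze15) (ke xe19 ye37 ze52) (ke xe19 ye25 ze57) (ke xe19 ye45 ze8) (ke xe5 ye32 ze18) (ke xe19 ye45 ze12) (ke xe5 ye32 ze19) (ke xe19 ye35 ze53) (ke xe19 ye45 ze20) (ke xe13 ye37 ze3) (ke xe5 ye32 ze20) (ke xe19 ye45 ze28) (ke xe19 ye45 ze31) (ke xe19 ye45 ze25) (ke xe16 ye45 ze37) (ke xe15 ye35 ze17) (ke xe19 ye45 ze39) (ke xe5 ye32 ze23) (ke xe19 ye45 ze43) (ke xe19 ye45 ze47) (ke xe5 ye32 ze27) (ke xe13 ye36 ze60) (ke xe19 ye45 ze55) (ke xe19 ye45 ze56) (ke xe19 ye45 ze58) (ke xe5 ye32 ze25) (ke xe19 ye46 ze0) (ke xe15 ye30 ze2)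 (ke xe19 ye46 ze2) (ke xe5 ye32 ze26) (ke xe19 ye46 ze3) (ke xe19 ye46 ze7) (ke xe19 ye45 ze50) (ke xe19 ye46 ze13) (ke xe15 ye15 ze32) (ke xe19 ye46 ze19) (ke xe19 ye46 ze23) (ke xe5 ye32 ze29) (ke xe19 ye46 ze29) (ke xe16 ye0 ze31) (ke xe5 ye32 ze32) (ke xe15 ye39 ze5) (ke xe19 ye46 ze33) (ke xe15 ye30 ze22) (ke xe19 ye46 ze36) (ke xe19 ye46 ze38) (ke xe17 ye32 ze50) (ke xe9 ye47 ze14) (ke xe5 ye32 ze36) (ke xe19 ye46 ze40) (ke xe5 ye32 ze37)) (@D3.rec (fun _ => Pt) (ke xe19 ye46 ze44) (ke xe10 ye4 ze51) (ke xe15 ye8 ze19) (ke xe5 ye32 ze39) (ke xe19 ye40 ze21) (ke xe11 ye55 ze42) (ke xe19 ye46 ze51) (ke xe19 ye46 ze56) (ke xe5 ye32 ze41) (ke xe11 ye27 ze50) (ke xe12 ye32 ze6) (ke xe19 ye47 ze1) (ke xe6 ye24 ze47) (ke xe13 ye35 ze45) (ke xe5 ye32 ze43) (ke xe19 ye47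 ze4) (ke xe19 ye47 ze7) (ke xe19 ye47 ze11) (ke xe9 ye32 ze7) (ke xe5 ye32 ze45) (ke xe19 ye47 ze13) (ke xe19 ye47 ze15) (ke xe12 ye56 ze46) (ke xe5 ye32 ze46) (ke xe9 ye44 ze12) (ke xe15 ye30 ze19) (ke xe19 ye25 ze53) (ke xe5 ye34 ze6) (ke xe19 ye47 ze20) (ke xe5 ye32 ze51) (ke xe19 ye25 ze54) (ke xe19 ye47 ze24) (ke xe17 ye15 ze45) (ke xe19 ye47 ze26) (ke xe5 ye32 ze55) (ke xe19 ye47 ze29) (ke xe19 ye47 ze31) (ke xe19 ye47 ze34) (ke xe19 ye47 ze38) (ke xe5 ye32 ze56) (ke xe19 ye47 ze44) (ke xe5 ye32 ze57) (ke xe19 ye47 ze46) (ke xe17 ye3 ze22) (ke xe12 ye55 ze39) (ke xe19 ye47 ze50) (ke xe19 ye47 ze51) (ke xe5 ye32 ze60) (ke xe19 ye47 ze53) (ke xe19 ye47 ze55) (ke xe5 ye32 ze61) (ke xe19 ye48 ze0) (ke xe5 ye33 ze0) (ke xe19 ye48 ze3) (ke xe16 ye53 ze30) (ke xe9 ye10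 ze45) (ke xe19 ye48 ze6) (ke xe16 ye28 ze5) (ke xe5 ye33 ze2) (ke xe19 ye26 ze27) (ke xe19 ye48 ze12) (ke xe19 ye48 ze15)) (@D3.rec (fun _ => Pt) (ke xe19 ye48 ze18) (ke xe19 ye48 ze23) (ke xe5 ye33 ze4) (ke xe11 ye32 ze45) (ke xe19 ye48 ze33) (ke xe19 ye48 ze26) (ke xe11 ye39 ze61) (ke xe19 ye48 ze36) (ke xe15 ye25 ze21) (ke xe5 ye33 ze6) (ke xe19 ye48 ze41) (ke xe5 ye33 ze7) (ke xe15 ye25 ze41) (ke xe19 ye48 ze43) (ke xe11 ye37 ze30) (ke xe5 ye33 ze8) (ke xe10 ye48 ze1) (ke xe17 ye12 ze57) (ke xe6 ye2 ze8) (ke xe9 ye8 ze8) (ke xe11 ye32 ze44) (ke xe19 ye48 ze51) (ke xe9 ye3 ze52) (ke xe5 ye33 ze11) (ke xe12 ye23 ze32) (ke xe19 ye48 ze52) (ke xe16 ye53 ze31) (ke xe6 ye3 ze0) (ke xe19 ye48 ze57) (ke xe5 ye33 ze14) (ke xe19 ye48 ze48) (ke xe19 ye25 ze44) (ke xe5 ye33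 ze16) (ke xe6 ye16 ze58) (ke xe10 ye55 ze34) (ke xe8 ye21 ze50) (ke xe6 ye16 ze46) (ke xe17 ye8 ze21) (ke xe10 ye15 ze29) (ke xe6 ye11 ze60) (ke xe15 ye0 ze10) (ke xe5 ye33 ze22) (ke xe6 ye16 ze59) (ke xe16 ye47 ze34) (ke xe9 ye5 ze19) (ke xe6 ye3 ze1) (ke xe11 ye44 ze24) (ke xe19 ye49 ze10) (ke xe19 ye49 ze11) (ke xe19 ye26 ze42) (ke xe19 ye49 ze15) (ke xe19 ye49 ze17) (ke xe5 ye33 ze27) (ke xe11 ye41 ze53) (ke xe19 ye49 ze19) (ke xe19 ye49 ze22) (ke xe19 ye49 ze24) (ke xe5 ye33 ze28) (ke xe19 ye49 ze26) (ke xe19 ye49 ze27) (ke xe5 ye33 ze29) (ke xe16 ye25 ze3)) (@D3.rec (fun _ => Pt) (ke xe5 ye33 ze30) (ke xe19 ye49 ze33) (ke xe5 ye33 ze32) (ke xe17 ye31 ze45) (ke xe11 ye42 ze56) (ke xe19 ye26 ze47) (ke xe19 ye49 ze42) (ke xe5 ye33 ze36) (ke xe19 ye49 ze46) (ke xe19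 ye49 ze49) (ke xe13 ye36 ze21) (ke xe15 ye20 ze37) (ke xe16 ye47 ze26) (ke xe19 ye49 ze54) (ke xe5 ye33 ze38) (ke xe19 ye49 ze59) (ke xe15 ye8 ze7) (ke xe5 ye33 ze39) (ke xe16 ye35 ze60) (ke xe13 ye50 ze32) (ke xe19 ye50 ze4) (ke xe5 ye33 ze40) (ke xe19 ye50 ze8) (ke xe19 ye37 ze23) (ke xe5 ye33 ze42) (ke xe19 ye26 ze61) (ke xe19 ye50 ze14) (ke xe5 ye33 ze43) (ke xe16 ye56 ze38) (ke xe19 ye50 ze15) (ke xe19 ye23 ze61) (ke xe5 ye33 ze46) (ke xe13 ye2 ze22) (ke xe19 ye50 ze18) (ke xe5 ye33 ze47) (ke xe18 ye45 ze19) (ke xe5 ye33 ze48) (ke xe16 ye52 ze54) (ke xe15 ye30 ze17) (ke xe19 ye50 ze25) (ke xe19 ye50 ze26) (ke xe5 ye33 ze51) (ke xe19 ye50 ze28) (ke xe15 ye27 ze52) (ke xe5 ye33 ze52) (ke xe19 ye50 ze34) (ke xe19 ye50 ze35) (ke xe5 ye33 ze53) (ke xe17 ye31 ze33) (ke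 xe11 ye32 ze28) (ke xe12 ye30 ze27) (ke xe16 ye53 ze19) (ke xe11 ye41 ze55) (ke xe5 ye33 ze55) (ke xe11 ye58 ze53) (ke xe19 ye50 ze46) (ke xe5 ye33 ze56) (ke xe19 ye50 ze48) (ke xe19 ye27 ze6) (ke xe19 ye50 ze51) (ke xe18 ye45 ze36) (ke xe5 ye33 ze58))
def f_e_11 : D2 → D3 → Pt := @D2.rec (fun _ => D3 → Pt) (@D3.rec (fun _ => Pt) (ke xe19 ye50 ze55) (ke xe19 ye50 ze58) (ke xe19 ye50 ze60) (ke xe19 ye51 ze0) (ke xe5 ye33 ze59) (ke xe14 ye15 ze25) (ke xe19 ye27 ze31) (ke xe19 ye51 ze6) (ke xe19 ye51 ze3) (ke xe7 ye36 ze26) (ke xe5 ye33 ze61) (ke xe19 ye51 ze14) (ke xe5 ye34 ze0) (ke xe19 ye51 ze19) (ke xe12 ye55 ze50) (ke xe18 ye48 ze47) (ke xe14 ye43 ze30) (ke xe5 ye34 ze1) (ke xe7 ye48 ze26) (ke xe11 ye5 ze36) (ke xe6 ye1 ze59) (ke xe5 ye34 ze3) (ke xe10 ye5 ze12) (ke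 xe16 ye53 ze20) (ke xe6 ye2 ze53) (ke xe11 ye48 ze22) (ke xe19 ye51 ze26) (ke xe17 ye4 ze42) (ke xe5 ye34 ze9) (ke xe19 ye51 ze31) (ke xe19 ye51 ze33) (ke xe5 ye34 ze10) (ke xe17 ye18 ze54) (ke xe5 ye34 ze11) (ke xe15 ye45 ze32) (ke xe19 ye26 ze36) (ke xe19 ye27 ze34) (ke xe19 ye44 ze7) (ke xe19 ye51 ze41) (ke xe5 ye34 ze13) (ke xe19 ye51 ze43) (ke xe5 ye34 ze14) (ke xe19 ye51 ze45) (ke xe19 ye27 ze15) (ke xe19 ye44 ze8) (ke xe14 ye41 ze43) (ke xe14 ye21 ze53) (ke xe5 ye34 ze16) (ke xe17 ye4 ze44) (ke xe5 ye34 ze19) (ke xe16 ye53 ze23) (ke xe6 ye45 ze41) (ke xe19 ye51 ze50) (ke xe19 ye51 ze51) (ke xe5 ye34 ze21) (ke xe16 ye56 ze43) (ke xe16 ye53 ze24) (ke xe16 ye56 ze39) (ke xe5 ye48 ze41) (ke xe19 ye51 ze58) (ke xe19 ye51 ze59) (ke xe12 ye10 ze1)) (@D3.rec (fun _ =>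 Pt) (ke xe19 ye52 ze1) (ke xe5 ye34 ze26) (ke xe17 ye21 ze20) (ke xe19 ye52 ze3) (ke xe11 ye32 ze56) (ke xe5 ye49 ze10) (ke xe19 ye52 ze9) (ke xe5 ye34 ze27) (ke xe19 ye52 ze10) (ke xe10 ye39 ze1) (ke xe19 ye52 ze12) (ke xe19 ye52 ze13) (ke xe5 ye34 ze29) (ke xe19 ye52 ze20) (ke xe19 ye52 ze23) (ke xe19 ye52 ze16) (ke xe16 ye55 ze25) (ke xe19 ye52 ze30) (ke xe19 ye52 ze34) (ke xe8 ye0 ze15) (ke xe5 ye34 ze31) (ke xe10 ye21 ze25) (ke xe5 ye34 ze32) (ke xe19 ye52 ze41) (ke xe19 ye52 ze43) (ke xe14 ye31 ze37) (ke xe5 ye34 ze34) (ke xe19 ye40 ze36) (ke xe19 ye52 ze48) (ke xe19 ye52 ze49) (ke xe5 ye34 ze35) (ke xe11 ye48 ze16) (ke xe7 ye36 ze4) (ke xe16 ye56 ze46) (ke xe9 ye17 ze50) (ke xe19 ye52 ze53) (ke xe19 ye52 ze54) (ke xe19 ye52 ze56) (ke xe16 ye48 ze41) (ke xe19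 ye52 ze57) (ke xe12 ye32 ze9) (ke xe19 ye53 ze0) (ke xe5 ye34 ze40) (ke xe19 ye53 ze2) (ke xe5 ye39 ze34) (ke xe5 ye34 ze43) (ke xe17 ye33 ze13) (ke xe16 ye56 ze47) (ke xe5 ye45 ze40) (ke xe19 ye53 ze6) (ke xe5 ye34 ze45) (ke xe13 ye0 ze57) (ke xe5 ye34 ze46) (ke xe9 ye13 ze8) (ke xe8 ye12 ze3) (ke xe5 ye43 ze4) (ke xe12 ye32 ze23) (ke xe19 ye53 ze11) (ke xe17 ye9 ze8) (ke xe5 ye34 ze48) (ke xe10 ye18 ze20) (ke xe5 ye34 ze49)) (@D3.rec (fun _ => Pt) (ke xe5 ye45 ze60) (ke xe19 ye53 ze17) (ke xe19 ye53 ze19) (ke xe5 ye34 ze51) (ke xe5 ye34 ze52) (ke xe11 ye29 ze22) (ke xe19 ye53 ze22) (ke xe17 ye16 ze36) (ke xe5 ye34 ze54) (ke xe5 ye34 ze55) (ke xe6 ye3 ze46) (ke xe12 ye24 ze13) (ke xe16 ye56 ze53) (ke xe12 ye12 ze12) (ke xe19 ye53 ze27) (ke xe19 ye53 ze30) (ke xe5 ye34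 ze60) (ke xe8 ye28 ze44) (ke xe18 ye41 ze55) (ke xe5 ye35 ze1) (ke xe11 ye31 ze12) (ke xe6 ye4 ze43) (ke xe7 ye59 ze39) (ke xe19 ye53 ze38) (ke xe19 ye53 ze42) (ke xe5 ye35 ze5) (ke xe6 ye5 ze34) (ke xe10 ye48 ze17) (ke xe5 ye35 ze8) (ke xe9 ye51 ze9) (ke xe10 ye48 ze18) (ke xe18 ye34 ze41) (ke xe17 ye43 ze21) (ke xe19 ye53 ze53) (ke xe5 ye35 ze12) (ke xe19 ye53 ze56) (ke xe19 ye53 ze59) (ke xe16 ye11 ze45) (ke xe5 ye35 ze14) (ke xe19 ye54 ze1) (ke xe16 ye16 ze35) (ke xe8 ye37 ze60) (ke xe19 ye54 ze8) (ke xe15 ye11 ze22) (ke xe5 ye35 ze17) (ke xe19 ye54 ze11) (ke xe19 ye54 ze14) (ke xe7 ye23 ze56) (ke xe7 ye18 ze5) (ke xe5 ye35 ze19) (ke xe19 ye54 ze20) (ke xe7 ye18 ze4) (ke xe15 ye22 ze55) (ke xe16 ye9 ze49) (ke xe19 ye54 ze24) (ke xe5 ye35 ze22) (ke xe18 ye52 ze58)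 (ke xe19 ye54 ze26) (ke xe10 ye24 ze12) (ke xe19 ye54 ze28) (ke xe14 ye0 ze36) (ke xe19 ye54 ze30)) (@D3.rec (fun _ => Pt) (ke xe19 ye54 ze31) (ke xe5 ye35 ze25) (ke xe5 ye35 ze26) (ke xe19 ye23 ze35) (ke xe18 ye18 ze0) (ke xe19 ye54 ze38) (ke xe10 ye15 ze56) (ke xe19 ye54 ze49) (ke xe8 ye1 ze29) (ke xe5 ye35 ze28) (ke xe18 ye13 ze3) (ke xe19 ye54 ze54) (ke xe5 ye35 ze31) (ke xe15 ye24 ze34) (ke xe16 ye50 ze3) (ke xe19 ye54 ze60) (ke xe19 ye54 ze61) (ke xe19 ye55 ze1) (ke xe19 ye55 ze5) (ke xe5 ye35 ze33) (ke xe5 ye35 ze34) (ke xe7 ye46 ze22) (ke xe19 ye55 ze12) (ke xe16 ye50 ze13) (ke xe16 ye9 ze48) (ke xe19 ye55 ze24) (ke xe14 ye8 ze59) (ke xe19 ye55 ze28) (ke xe19 ye55 ze32) (ke xe19 ye55 ze36) (ke xe5 ye35 ze38) (ke xe5 ye35 ze39) (ke xe19 ye55 ze42) (ke xe11 ye57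 ze19) (ke xe19 ye55 ze49) (ke xe19 ye55 ze50) (ke xe19 ye55 ze52) (ke xe19 ye55 ze56) (ke xe5 ye35 ze41) (ke xe5 ye35 ze42) (ke xe19 ye55 ze61) (ke xe19 ye56 ze4) (ke xe18 ye56 ze39) (ke xe5 ye35 ze44) (ke xe19 ye56 ze9) (ke xe19 ye56 ze10) (ke xe5 ye35 ze45) (ke xe7 ye23 ze51) (ke xe19 ye56 ze15) (ke xe5 ye35 ze47) (ke xe13 ye22 ze9) (ke xe19 ye56 ze19) (ke xe7 ye23 ze50) (ke xe19 ye56 ze22) (ke xe5 ye35 ze49) (ke xe8 ye39 ze0) (ke xe5 ye35 ze50) (ke xe13 ye59 ze51) (ke xe5 ye35 ze51) (ke xe19 ye56 ze31) (ke xe19 ye56 ze33) (ke xe5 ye35 ze55)) (@D3.rec (fun _ => Pt) (ke xe13 ye59 ze41) (ke xe19 ye56 ze35) (ke xe5 ye35 ze53) (ke xe14 ye37 ze47) (ke xe13 ye32 ze53) (ke xe5 ye35 ze54) (ke xe7 ye23 ze9) (ke xe14 ye9 ze10) (ke xe7 ye18 ze9) (ke xe19 ye56 ze43) (ke xe15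 ye31 ze12) (ke xe5 ye35 ze57) (ke xe10 ye37 ze31) (ke xe15 ye6 ze14) (ke xe19 ye56 ze48) (ke xe5 ye35 ze60) (ke xe19 ye56 ze54) (ke xe13 ye33 ze2) (ke xe5 ye35 ze61) (ke xe10 ye8 ze9) (ke xe8 ye14 ze9) (ke xe19 ye56 ze57) (ke xe19 ye56 ze59) (ke xe5 ye36 ze1) (ke xe8 ye28 ze3) (ke xe8 ye8 ze20) (ke xe19 ye57 ze0) (ke xe8 ye27 ze61) (ke xe19 ye57 ze2) (ke xe15 ye17 ze2) (ke xe5 ye36 ze5) (ke xe19 ye57 ze9) (ke xe19 ye57 ze10) (ke xe5 ye36 ze6) (ke xe8 ye28 ze36) (ke xe11 ye9 ze31) (ke xe19 ye57 ze19) (ke xe19 ye57 ze21) (ke xe19 ye57 ze23) (ke xe5 ye36 ze11) (ke xe5 ye36 ze12) (ke xe5 ye36 ze13) (ke xe19 ye57 ze30) (ke xe18 ye12 ze33) (ke xe18 ye35 ze4) (ke xe11 ye57 ze30) (ke xe19 ye56 ze50) (ke xe19 ye57 ze36) (ke xe9 ye38 ze43) (ke xe5 ye36 ze15) (ke xe18 ye12 ze30)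 (ke xe18 ye12 ze31) (ke xe6 ye21 ze2) (ke xe8 ye56 ze57) (ke xe5 ye52 ze38) (ke xe6 ye4 ze7) (ke xe6 ye46 ze42) (ke xe16 ye49 ze15) (ke xe11 ye27 ze54) (ke xe11 ye8 ze16) (ke xe9 ye1 ze31) (ke xe15 ye55 ze1)) (@D3.rec (fun _ => Pt) (ke xe19 ye57 ze50) (ke xe19 ye57 ze51) (ke xe5 ye36 ze28) (ke xe8 ye13 ze27) (ke xe15 ye1 ze26) (ke xe19 ye57 ze58) (ke xe5 ye36 ze30) (ke xe16 ye58 ze7) (ke xe19 ye58 ze0) (ke xe19 ye58 ze2) (ke xe19 ye58 ze4) (ke xe5 ye36 ze31) (ke xe5 ye36 ze32) (ke xe8 ye6 ze40) (ke xe19 ye58 ze17) (ke xe19 ye58 ze11) (ke xe16 ye9 ze37) (ke xe8 ye13 ze3) (ke xe10 ye24 ze8) (ke xe17 ye51 ze40) (ke xe11 ye8 ze2) (ke xe11 ye8 ze4) (ke xe19 ye58 ze29) (ke xe19 ye58 ze31) (ke xe5 ye36 ze38) (ke xe5 ye36 ze39) (ke xe6 ye47 ze21) (ke xe16 ye58 ze3) (ke xe11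 ye31 ze22) (ke xe10 ye48 ze55) (ke xe5 ye52 ze52) (ke xe8 ye14 ze55) (ke xe9 ye10 ze25) (ke xe8 ye15 ze0) (ke xe11 ye56 ze60) (ke xe6 ye3 ze25) (ke xe11 ye0 ze19) (ke xe5 ye36 ze45) (ke xe16 ye5 ze30) (ke xe17 ye3 ze32) (ke xe19 ye58 ze51) (ke xe19 ye58 ze55) (ke xe5 ye36 ze46) (ke xe19 ye59 ze2) (ke xe5 ye36 ze47) (ke xe17 ye4 ze13) (ke xe19 ye59 ze3) (ke xe11 ye57 ze25) (ke xe9 ye13 ze59) (ke xe5 ye36 ze49) (ke xe19 ye59 ze7) (ke xe19 ye59 ze9) (ke xe5 ye36 ze50) (ke xe19 ye59 ze16) (ke xe5 ye36 ze51) (ke xe17 ye2 ze15) (ke xe19 ye59 ze17) (ke xe16 ye51 ze2) (ke xe5 ye36 ze53) (ke xe15 ye1 ze61) (ke xe19 ye59 ze23) (ke xe5 ye36 ze56)) (@D3.rec (fun _ => Pt) (ke xe16 ye51 ze16) (ke xe16 ye58 ze49) (ke xe5 ye36 ze57) (ke xe10 ye11 ze10) (ke xe15 ye1 ze24) (ke xe8 ye13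 ze26) (ke xe19 ye59 ze35) (ke xe5 ye36 ze61) (ke xe19 ye59 ze36) (ke xe8 ye25 ze53) (ke xe12 ye8 ze21) (ke xe5 ye37 ze6) (ke xe5 ye37 ze8) (ke xe5 ye37 ze9) (ke xe7 ye57 ze29) (ke xe19 ye59 ze47) (ke xe16 ye19 ze22) (ke xe10 ye26 ze45) (ke xe10 ye26 ze29) (ke xe5 ye37 ze13) (ke xe10 ye9 ze45) (ke xe5 ye37 ze14) (ke xe9 ye11 ze7) (ke xe12 ye10 ze39) (ke xe11 ye14 ze25) (ke xe5 ye49 ze24) (ke xe19 ye59 ze55) (ke xe19 ye59 ze56) (ke xe19 ye59 ze57) (ke xe5 ye37 ze21) (ke xe14 ye50 ze21) (ke xe19 ye59 ze61) (ke xe11 ye14 ze35) (ke xe20 ye0 ze0) (ke xe17 ye7 ze60) (ke xe5 ye37 ze23) (ke xe18 ye23 ze26) (ke xe7 ye23 ze12) (ke xe5 ye37 ze30) (ke xe20 ye0 ze1) (ke xe9 ye49 ze2) (ke xe11 ye11 ze59) (ke xe8 ye0 ze58) (ke xe5 ye51 ze53) (ke xe20 ye0 ze4) (ke xe5 ye37 ze36) (ke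 xe20 ye0 ze5) (ke xe5 ye37 ze40) (ke xe5 ye37 ze41) (ke xe10 ye1 ze24) (ke xe13 ye41 ze30) (ke xe20 ye0 ze10) (ke xe5 ye37 ze43) (ke xe6 ye12 ze11) (ke xe5 ye37 ze44) (ke xe20 ye0 ze13) (ke xe20 ye0 ze15) (ke xe5 ye37 ze45) (ke xe20 ye0 ze18) (ke xe11 ye12 ze1) (ke xe11 ye12 ze3) (ke xe16 ye31 ze3)) (@D3.rec (fun _ => Pt) (ke xe5 ye37 ze47) (ke xe20 ye0 ze20) (ke xe5 ye37 ze50) (ke xe20 ye0 ze21) (ke xe5 ye37 ze51) (ke xe20 ye0 ze22) (ke xe5 ye37 ze52) (ke xe5 ye37 ze55) (ke xe5 ye37 ze56) (ke xe20 ye0 ze30) (ke xe20 ye0 ze33) (ke xe7 ye12 ze42) (ke xe13 ye15 ze27) (ke xe5 ye37 ze58) (ke xe9 ye50 ze61) (ke xe11 ye11 ze32) (ke xe5 ye37 ze60) (ke xe20 ye0 ze37) (ke xe5 ye38 ze0) (ke xe5 ye38 ze1) (ke xe20 ye0 ze46) (ke xe20 ye0 ze47) (ke xe5 ye38 ze2) (ke xe11 ye11 ze39)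 (ke xe16 ye29 ze52) (ke xe8 ye49 ze14) (ke xe17 ye56 ze49) (ke xe20 ye0 ze54) (ke xe5 ye48 ze12) (ke xe5 ye38 ze24) (ke xe5 ye38 ze25) (ke xe20 ye0 ze55) (ke xe5 ye38 ze8) (ke xe9 ye10 ze32) (ke xe20 ye1 ze0) (ke xe20 ye1 ze2) (ke xe5 ye38 ze9) (ke xe20 ye1 ze8) (ke xe15 ye4 ze33) (ke xe20 ye1 ze9) (ke xe5 ye38 ze11) (ke xe20 ye1 ze13) (ke xe20 ye1 ze14) (ke xe5 ye38 ze12) (ke xe20 ye1 ze17) (ke xe20 ye1 ze18) (ke xe5 ye38 ze14) (ke xe20 ye1 ze21) (ke xe5 ye38 ze15) (ke xe20 ye1 ze23) (ke xe20 ye1 ze24) (ke xe8 ye48 ze56) (ke xe5 ye38 ze16) (ke xe20 ye1 ze26) (ke xe20 ye1 ze30) (ke xe20 ye1 ze31) (ke xe19 ye32 ze56) (ke xe5 ye38 ze18) (ke xe20 ye1 ze35) (ke xe20 ye1 ze38) (ke xe11 ye51 ze46) (ke xe5 ye38 ze19)) (@D3.rec (fun _ => Pt) (ke xe5 ye48 ze38) (ke xe5 ye48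 ze39) (ke xe11 ye5 ze20) (ke xe16 ye49 ze25) (ke xe11 ye5 ze21) (ke xe5 ye47 ze58) (ke xe15 ye26 ze31) (ke xe8 ye42 ze61) (ke xe19 ye40 ze5) (ke xe19 ye40 ze26) (ke xe15 ye29 ze12) (ke xe20 ye1 ze48) (ke xe9 ye43 ze35) (ke xe20 ye1 ze53) (ke xe20 ye1 ze55) (ke xe5 ye38 ze28) (ke xe11 ye4 ze59) (ke xe5 ye38 ze29) (ke xe9 ye44 ze26) (ke xe11 ye27 ze7) (ke xe12 ye7 ze50) (ke xe5 ye38 ze36) (ke xe20 ye1 ze58) (ke xe8 ye25 ze55) (ke xe20 ye1 ze59) (ke xe5 ye38 ze42) (ke xe9 ye14 ze61) (ke xe20 ye2 ze0) (ke xe20 ye2 ze2) (ke xe20 ye2 ze3) (ke xe5 ye38 ze46) (ke xe5 ye51 ze31) (ke xe20 ye2 ze7) (ke xe6 ye39 ze14) (ke xe9 ye6 ze6) (ke xe6 ye46 ze21) (ke xe17 ye13 ze19) (ke xe8 ye9 ze37) (ke xe5 ye38 ze52) (ke xe20 ye2 ze11) (ke xe20 ye2 ze13) (ke xe20 ye2 ze14) (ke xe5 ye38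 ze54) (ke xe6 ye4 ze46) (ke xe20 ye2 ze23) (ke xe15 ye22 ze26) (ke xe15 ye22 ze17) (ke xe20 ye2 ze29) (ke xe16 ye22 ze9) (ke xe15 ye22 ze20) (ke xe20 ye2 ze30) (ke xe5 ye38 ze58) (ke xe15 ye22 ze9) (ke xe18 ye5 ze40) (ke xe15 ye22 ze16) (ke xe15 ye22 ze27) (ke xe18 ye5 ze38) (ke xe8 ye1 ze32) (ke xe20 ye2 ze46) (ke xe19 ye38 ze25) (ke xe17 ye30 ze42) (ke xe5 ye39 ze0)) (@D3.rec (fun _ => Pt) (ke xe15 ye17 ze58) (ke xe15 ye17 ze50) (ke xe20 ye2 ze57) (ke xe20 ye2 ze59) (ke xe20 ye2 ze60) (ke xe5 ye39 ze2) (ke xe15 ye17 ze49) (ke xe15 ye16 ze32) (ke xe20 ye3 ze7) (ke xe20 ye3 ze8) (ke xe5 ye39 ze4) (ke xe20 ye3 ze14) (ke xe5 ye39 ze5) (ke xe5 ye39 ze6) (ke xe20 ye3 ze22) (ke xe11 ye56 ze52) (ke xe5 ye57 ze27) (ke xe20 ye3 ze28) (ke xe20 ye3 ze32) (ke xe5 ye39 ze8) (ke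 xe11 ye56 ze50) (ke xe20 ye3 ze37) (ke xe14 ye30 ze31) (ke xe19 ye39 ze12) (ke xe15 ye53 ze61) (ke xe19 ye24 ze56) (ke xe18 ye41 ze54) (ke xe5 ye39 ze12) (ke xe20 ye3 ze48) (ke xe20 ye3 ze52) (ke xe5 ye39 ze13) (ke xe11 ye4 ze35) (ke xe20 ye3 ze57) (ke xe17 ye41 ze44) (ke xe8 ye27 ze27) (ke xe15 ye49 ze2) (ke xe15 ye49 ze3) (ke xe8 ye10 ze23) (ke xe16 ye18 ze57) (ke xe15 ye48 ze59) (ke xe5 ye39 ze21) (ke xe20 ye4 ze10) (ke xe8 ye37 ze39) (ke xe13 ye2 ze0) (ke xe7 ye25 ze43) (ke xe6 ye42 ze38) (ke xe20 ye4 ze15) (ke xe5 ye39 ze22) (ke xe6 ye32 ze25) (ke xe5 ye39 ze23) (ke xe5 ye59 ze16) (ke xe19 ye37 ze39) (ke xe20 ye4 ze23) (ke xe20 ye4 ze24) (ke xe5 ye39 ze24) (ke xe8 ye45 ze54) (ke xe5 ye39 ze25) (ke xe8 ye14 ze18) (ke xe6 ye32 ze24) (ke xe16 ye49 ze24) (ke xe20 ye4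 ze32) (ke xe20 ye4 ze33)) (@D3.rec (fun _ => Pt) (ke xe20 ye4 ze35) (ke xe20 ye4 ze37) (ke xe5 ye39 ze27) (ke xe20 ye4 ze41) (ke xe5 ye39 ze28) (ke xe20 ye4 ze47) (ke xe5 ye39 ze29) (ke xe11 ye18 ze42) (ke xe14 ye4 ze11) (ke xe16 ye49 ze32) (ke xe20 ye4 ze53) (ke xe8 ye14 ze16) (ke xe16 ye43 ze29) (ke xe5 ye57 ze26) (ke xe17 ye32 ze14) (ke xe20 ye4 ze57) (ke xe11 ye20 ze28) (ke xe5 ye39 ze32) (ke xe11 ye57 ze6) (ke xe11 ye57 ze7) (ke xe16 ye48 ze27) (ke xe10 ye52 ze12) (ke xe6 ye1 ze26) (ke xe15 ye3 ze56) (ke xe12 ye18 ze29) (ke xe19 ye44 ze18) (ke xe5 ye52 ze40) (ke xe15 ye1 ze43) (ke xe20 ye5 ze10) (ke xe5 ye39 ze40) (ke xe15 ye41 ze58) (ke xe20 ye5 ze13) (ke xe20 ye5 ze17) (ke xe5 ye39 ze41) (ke xe15 ye1 ze25) (ke xe15 ye29 ze37) (ke xe17 ye34 ze34) (ke xe20 ye5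 ze26) (ke xe5 ye39 ze43) (ke xe11 ye57 ze32) (ke xe11 ye22 ze56) (ke xe5 ye39 ze44) (ke xe16 ye56 ze60) (ke xe17 ye14 ze29) (ke xe8 ye13 ze42) (ke xe6 ye6 ze11) (ke xe15 ye48 ze7) (ke xe11 ye59 ze49) (ke xe13 ye1 ze58) (ke xe20 ye5 ze33) (ke xe5 ye39 ze58) (ke xe20 ye5 ze36) (ke xe5 ye39 ze59) (ke xe11 ye27 ze55) (ke xe5 ye47 ze13) (ke xe5 ye39 ze61) (ke xe11 ye22 ze18) (ke xe5 ye40 ze1) (ke xe13 ye23 ze21) (ke xe5 ye40 ze2) (ke xe5 ye40 ze4) (ke xe20 ye5 ze45)) (@D3.rec (fun _ => Pt) (ke xe5 ye40 ze5) (ke xe20 ye5 ze47) (ke xe5 ye40 ze7) (ke xe20 ye5 ze51) (ke xe5 ye40 ze8) (ke xe5 ye40 ze9) (ke xe18 ye58 ze4) (ke xe12 ye3 ze51) (ke xe18 ye58 ze3) (ke xe12 ye59 ze61) (ke xe20 ye5 ze52) (ke xe6 ye40 ze26) (ke xe5 ye40 ze11) (ke xe12 ye4 ze24) (ke xe12 ye4 ze25) (ke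 xe5 ye40 ze14) (ke xe12 ye4 ze23) (ke xe5 ye40 ze18) (ke xe10 ye29 ze12) (ke xe5 ye40 ze20) (ke xe8 ye50 ze13) (ke xe18 ye59 ze61) (ke xe8 ye49 ze46) (ke xe19 ye33 ze16) (ke xe16 ye51 ze38) (ke xe17 ye57 ze46) (ke xe5 ye40 ze23) (ke xe16 ye30 ze46) (ke xe20 ye6 ze4) (ke xe20 ye6 ze5) (ke xe5 ye40 ze24) (ke xe10 ye55 ze33) (ke xe11 ye7 ze15) (ke xe20 ye6 ze12) (ke xe5 ye40 ze26) (ke xe20 ye6 ze19) (ke xe13 ye49 ze30) (ke xe5 ye40 ze27) (ke xe8 ye49 ze35) (ke xe11 ye7 ze23) (ke xe20 ye6 ze25) (ke xe20 ye6 ze26) (ke xe5 ye40 ze29) (ke xe6 ye13 ze52) (ke xe20 ye6 ze28) (ke xe5 ye40 ze30) (ke xe18 ye42 ze25) (ke xe5 ye40 ze31) (ke xe10 ye2 ze4) (ke xe17 ye2 ze33) (ke xe20 ye1 ze40) (ke xe20 ye6 ze37) (ke xe17 ye2 ze31) (ke xe5 ye40 ze34) (ke xe20 ye6 ze40) (ke xe20 ye6 ze41)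 (ke xe5 ye40 ze36) (ke xe6 ye42 ze14) (ke xe19 ye25 ze2) (ke xe11 ye6 ze41) (ke xe5 ye40 ze38) (ke xe15 ye5 ze27)) (@D3.rec (fun _ => Pt) (ke xe5 ye40 ze41) (ke xe11 ye6 ze59) (ke xe7 ye49 ze60) (ke xe11 ye6 ze60) (ke xe5 ye49 ze33) (ke xe12 ye4 ze39) (ke xe15 ye4 ze5) (ke xe14 ye50 ze5) (ke xe5 ye40 ze47) (ke xe16 ye49 ze45) (ke xe8 ye57 ze35) (ke xe9 ye32 ze24) (ke xe12 ye36 ze20) (ke xe12 ye27 ze36) (ke xe5 ye40 ze50) (ke xe19 ye32 ze30) (ke xe12 ye40 ze50) (ke xe20 ye6 ze53) (ke xe17 ye15 ze48) (ke xe5 ye40 ze58) (ke xe5 ye40 ze53) (ke xe5 ye40 ze54) (ke xe16 ye31 ze29) (ke xe5 ye40 ze55) (ke xe15 ye5 ze41) (ke xe5 ye51 ze50) (ke xe20 ye7 ze2) (ke xe5 ye40 ze57) (ke xe8 ye11 ze40) (ke xe16 ye24 ze2) (ke xe20 ye6 ze56) (ke xe12 ye56 ze44) (ke xe9 ye59 ze13) (ke xe20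 ye7 ze6) (ke xe5 ye40 ze60) (ke xe5 ye41 ze0) (ke xe6 ye6 ze37) (ke xe8 ye25 ze33) (ke xe12 ye15 ze4) (ke xe6 ye27 ze18) (ke xe17 ye53 ze24) (ke xe18 ye2 ze7) (ke xe5 ye41 ze14) (ke xe15 ye3 ze59) (ke xe10 ye55 ze1) (ke xe7 ye59 ze52) (ke xe7 ye28 ze59) (ke xe5 ye48 ze60) (ke xe11 ye49 ze59) (ke xe10 ye18 ze42) (ke xe11 ye22 ze49) (ke xe17 ye3 ze35) (ke xe5 ye41 ze18) (ke xe20 ye7 ze19) (ke xe10 ye28 ze15) (ke xe20 ye7 ze23) (ke xe18 ye59 ze8) (ke xe5 ye41 ze21) (ke xe20 ye7 ze26) (ke xe17 ye2 ze25) (ke xe20 ye7 ze31) (ke xe5 ye41 ze23)) (@D3.rec (fun _ => Pt) (ke xe20 ye7 ze36) (ke xe5 ye41 ze25) (ke xe5 ye45 ze49) (ke xe20 ye7 ze38) (ke xe20 ye7 ze42) (ke xe20 ye7 ze44) (ke xe5 ye41 ze27) (ke xe20 ye7 ze46) (ke xe5 ye41 ze28) (ke xe20 ye7 ze49) (ke xe20 ye7 ze27)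 (ke xe5 ye41 ze29) (ke xe18 ye39 ze19) (ke xe16 ye35 ze30) (ke xe5 ye41 ze32) (ke xe17 ye0 ze26) (ke xe20 ye7 ze54) (ke xe5 ye41 ze33) (ke xe8 ye50 ze2) (ke xe15 ye0 ze12) (ke xe16 ye52 ze56) (ke xe19 ye33 ze48) (ke xe20 ye7 ze59) (ke xe9 ye2 ze35) (ke xe5 ye41 ze36) (ke xe20 ye7 ze61) (ke xe17 ye15 ze28) (ke xe16 ye23 ze4) (ke xe5 ye41 ze39) (ke xe18 ye41 ze7) (ke xe11 ye13 ze38) (ke xe5 ye41 ze40) (ke xe20 ye8 ze11) (ke xe5 ye41 ze41) (ke xe20 ye8 ze16) (ke xe20 ye8 ze21) (ke xe9 ye2 ze44) (ke xe5 ye41 ze42) (ke xe11 ye13 ze30) (ke xe5 ye41 ze45) (ke xe16 ye53 ze6) (ke xe20 ye8 ze25) (ke xe18 ye46 ze8) (ke xe8 ye50 ze48) (ke xe15 ye0 ze28) (ke xe20 ye8 ze29) (ke xe5 ye41 ze47) (ke xe16 ye47 ze36) (ke xe16 ye31 ze47) (ke xe20 ye8 ze32) (ke xe5 ye41 ze49) (ke xe16 ye30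 ze18) (ke xe20 ye8 ze36) (ke xe5 ye41 ze50) (ke xe8 ye50 ze1) (ke xe5 ye53 ze61) (ke xe15 ye26 ze10) (ke xe20 ye8 ze44) (ke xe20 ye8 ze45) (ke xe5 ye41 ze52) (ke xe16 ye24 ze53) (ke xe20 ye8 ze51)) (@D3.rec (fun _ => Pt) (ke xe5 ye41 ze53) (ke xe20 ye8 ze54) (ke xe13 ye33 ze12) (ke xe20 ye8 ze56) (ke xe5 ye41 ze54) (ke xe5 ye56 ze3) (ke xe20 ye9 ze1) (ke xe13 ye45 ze14) (ke xe16 ye53 ze18) (ke xe15 ye5 ze31) (ke xe20 ye9 ze8) (ke xe15 ye0 ze3) (ke xe11 ye14 ze18) (ke xe5 ye41 ze57) (ke xe8 ye49 ze39) (ke xe5 ye42 ze0) (ke xe20 ye0 ze17) (ke xe20 ye9 ze15) (ke xe11 ye14 ze12) (ke xe5 ye41 ze61) (ke xe20 ye9 ze12) (ke xe8 ye56 ze55) (ke xe5 ye42 ze1) (ke xe5 ye42 ze2) (ke xe20 ye9 ze26) (ke xe11 ye6 ze24) (ke xe20 ye9 ze28) (ke xe11 ye49 ze31) (ke xe5 ye42 ze4) (ke xe20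 ye9 ze30) (ke xe5 ye42 ze7) (ke xe17 ye13 ze24) (ke xe5 ye42 ze8) (ke xe5 ye59 ze33) (ke xe8 ye49 ze60) (ke xe11 ye6 ze32) (ke xe6 ye16 ze50) (ke xe6 ye16 ze40) (ke xe20 ye9 ze36) (ke xe12 ye3 ze58) (ke xe5 ye42 ze13) (ke xe5 ye43 ze53) (ke xe20 ye9 ze41) (ke xe20 ye9 ze43) (ke xe13 ye54 ze15) (ke xe5 ye42 ze14) (ke xe5 ye42 ze15) (ke xe9 ye31 ze27) (ke xe5 ye42 ze17) (ke xe20 ye9 ze50) (ke xe5 ye42 ze18) (ke xe20 ye9 ze52) (ke xe9 ye20 ze8) (ke xe5 ye42 ze23) (ke xe5 ye42 ze20) (ke xe5 ye42 ze21) (ke xe17 ye6 ze40) (ke xe20 ye9 ze49) (ke xe11 ye16 ze24) (ke xe11 ye46 ze58) (ke xe20 ye9 ze55) (ke xe11 ye19 ze1)) (@D3.rec (fun _ => Pt) (ke xe17 ye58 ze4) (ke xe5 ye42 ze24) (ke xe5 ye42 ze25) (ke xe11 ye51 ze18) (ke xe10 ye12 ze10) (ke xe19 ye0 ze22) (ke xe19 ye0 ze28)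 (ke xe9 ye3 ze42) (ke xe11 ye44 ze11) (ke xe20 ye10 ze10) (ke xe20 ye10 ze14) (ke xe5 ye42 ze28) (ke xe5 ye42 ze30) (ke xe20 ye10 ze19) (ke xe5 ye42 ze31) (ke xe7 ye3 ze25) (ke xe7 ye34 ze41) (ke xe5 ye42 ze32) (ke xe5 ye46 ze1) (ke xe13 ye30 ze5) (ke xe20 ye10 ze28) (ke xe20 ye10 ze29) (ke xe5 ye42 ze35) (ke xe16 ye48 ze4) (ke xe6 ye3 ze13) (ke xe5 ye42 ze37) (ke xe16 ye52 ze6) (ke xe20 ye10 ze32) (ke xe20 ye10 ze36) (ke xe20 ye10 ze37) (ke xe19 ye2 ze22) (ke xe5 ye42 ze40) (ke xe20 ye10 ze46) (ke xe5 ye42 ze41) (ke xe20 ye10 ze50) (ke xe20 ye10 ze54) (ke xe5 ye42 ze42) (ke xe18 ye11 ze54) (ke xe5 ye42 ze43) (ke xe20 ye11 ze2) (ke xe20 ye11 ze5) (ke xe20 ye11 ze10) (ke xe20 ye11 ze11) (ke xe5 ye42 ze44) (ke xe20 ye11 ze16) (ke xe20 ye11 ze19) (ke xe10 ye3 ze16) (ke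 xe8 ye49 ze2) (ke xe20 ye11 ze21) (ke xe20 ye11 ze23) (ke xe20 ye11 ze28) (ke xe20 ye11 ze31) (ke xe5 ye42 ze48) (ke xe6 ye3 ze10) (ke xe6 ye12 ze0) (ke xe14 ye42 ze54) (ke xe20 ye11 ze42) (ke xe5 ye42 ze51) (ke xe16 ye52 ze12) (ke xe9 ye26 ze53) (ke xe20 ye11 ze49) (ke xe5 ye42 ze53)) (@D3.rec (fun _ => Pt) (ke xe20 ye11 ze55) (ke xe20 ye11 ze56) (ke xe5 ye42 ze54) (ke xe20 ye11 ze58) (ke xe20 ye11 ze60) (ke xe18 ye32 ze54) (ke xe5 ye42 ze55) (ke xe17 ye8 ze17) (ke xe20 ye12 ze2) (ke xe16 ye52 ze21) (ke xe16 ye48 ze17) (ke xe13 ye55 ze48) (ke xe17 ye8 ze16) (ke xe16 ye48 ze36) (ke xe9 ye11 ze24) (ke xe16 ye56 ze48) (ke xe5 ye43 ze1) (ke xe16 ye54 ze16) (ke xe5 ye45 ze37) (ke xe19 ye47 ze42) (ke xe5 ye44 ze38) (ke xe20 ye12 ze17) (ke xe5 ye43 ze35) (ke xe16 ye47 ze22)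 (ke xe11 ye14 ze58) (ke xe17 ye6 ze33) (ke xe5 ye45 ze39) (ke xe10 ye3 ze1) (ke xe5 ye43 ze7) (ke xe5 ye43 ze6) (ke xe20 ye12 ze28) (ke xe5 ye43 ze8) (ke xe20 ye12 ze31) (ke xe5 ye43 ze10) (ke xe18 ye39 ze36) (ke xe14 ye8 ze16) (ke xe5 ye43 ze12) (ke xe5 ye44 ze9) (ke xe20 ye12 ze37) (ke xe5 ye43 ze13) (ke xe20 ye12 ze39) (ke xe20 ye12 ze41) (ke xe18 ye26 ze9) (ke xe5 ye43 ze14) (ke xe6 ye31 ze26) (ke xe5 ye43 ze18) (ke xe13 ye11 ze0) (ke xe5 ye43 ze20) (ke xe7 ye22 ze23) (ke xe5 ye43 ze22) (ke xe7 ye50 ze8) (ke xe6 ye30 ze46) (ke xe14 ye50 ze20) (ke xe20 ye12 ze46) (ke xe5 ye43 ze25) (ke xe12 ye43 ze60) (ke xe20 ye12 ze51) (ke xe5 ye43 ze26) (ke xe20 ye9 ze46) (ke xe16 ye47 ze31) (ke xe20 ye9 ze31) (ke xe20 ye12 ze61)) (@D3.rec (fun _ => Pt) (ke xe20 ye13 ze0) (ke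 xe5 ye43 ze28) (ke xe18 ye57 ze3) (ke xe20 ye13 ze4) (ke xe5 ye43 ze29) (ke xe5 ye43 ze30) (ke xe20 ye13 ze8) (ke xe20 ye13 ze10) (ke xe5 ye43 ze31) (ke xe6 ye35 ze6) (ke xe20 ye13 ze14) (ke xe10 ye14 ze8) (ke xe20 ye12 ze22) (ke xe5 ye43 ze33) (ke xe17 ye13 ze4) (ke xe20 ye13 ze21) (ke xe5 ye43 ze37) (ke xe5 ye43 ze38) (ke xe5 ye43 ze39) (ke xe20 ye13 ze25) (ke xe20 ye13 ze29) (ke xe20 ye13 ze30) (ke xe5 ye43 ze41) (ke xe17 ye15 ze44) (ke xe17 ye8 ze23) (ke xe5 ye43 ze44) (ke xe8 ye50 ze5) (ke xe20 ye13 ze38) (ke xe20 ye13 ze36) (ke xe5 ye43 ze45) (ke xe20 ye13 ze40) (ke xe11 ye46 ze43) (ke xe5 ye43 ze47) (ke xe7 ye50 ze5) (ke xe13 ye14 ze18) (ke xe6 ye36 ze14) (ke xe20 ye13 ze43) (ke xe8 ye40 ze7) (ke xe5 ye43 ze48) (ke xe5 ye43 ze49) (ke xe20 ye7 ze3) (ke xe20 ye13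 ze52) (ke xe20 ye13 ze48) (ke xe20 ye9 ze38) (ke xe20 ye13 ze55) (ke xe5 ye59 ze61) (ke xe5 ye43 ze51) (ke xe20 ye13 ze58) (ke xe5 ye43 ze56) (ke xe20 ye14 ze0) (ke xe20 ye14 ze1) (ke xe5 ye43 ze54) (ke xe5 ye43 ze57) (ke xe5 ye43 ze58) (ke xe20 ye14 ze2) (ke xe20 ye14 ze3) (ke xe20 ye14 ze6) (ke xe7 ye51 ze53) (ke xe5 ye43 ze59) (ke xe20 ye14 ze13) (ke xe5 ye53 ze11) (ke xe5 ye44 ze28)) (@D3.rec (fun _ => Pt) (ke xe5 ye44 ze0) (ke xe6 ye9 ze3) (ke xe6 ye43 ze59) (ke xe5 ye44 ze2) (ke xe9 ye47 ze46) (ke xe20 ye14 ze16) (ke xe5 ye44 ze3) (ke xe20 ye14 ze20) (ke xe20 ye14 ze24) (ke xe20 ye14 ze26) (ke xe20 ye14 ze29) (ke xe5 ye44 ze4) (ke xe18 ye25 ze27) (ke xe20 ye14 ze34) (ke xe5 ye44 ze5) (ke xe20 ye14 ze38) (ke xe20 ye14 ze42) (ke xe20 ye14 ze35) (ke xe20 ye12 ze33)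 (ke xe20 ye14 ze49) (ke xe12 ye47 ze2) (ke xe13 ye1 ze7) (ke xe5 ye44 ze7) (ke xe20 ye9 ze44) (ke xe20 ye14 ze55) (ke xe5 ye44 ze8) (ke xe5 ye44 ze10) (ke xe20 ye9 ze40) (ke xe20 ye14 ze58) (ke xe5 ye45 ze4) (ke xe20 ye14 ze61) (ke xe5 ye44 ze13) (ke xe20 ye15 ze2) (ke xe5 ye44 ze14) (ke xe5 ye44 ze15) (ke xe20 ye15 ze5) (ke xe20 ye15 ze7) (ke xe20 ye15 ze11) (ke xe20 ye15 ze13) (ke xe13 ye20 ze32) (ke xe12 ye36 ze17) (ke xe20 ye15 ze18) (ke xe11 ye10 ze7) (ke xe5 ye44 ze18) (ke xe20 ye15 ze21) (ke xe11 ye40 ze5) (ke xe5 ye44 ze19) (ke xe5 ye59 ze6) (ke xe9 ye50 ze49) (ke xe14 ye4 ze26) (ke xe20 ye15 ze30) (ke xe20 ye15 ze31) (ke xe16 ye28 ze22) (ke xe20 ye15 ze33) (ke xe5 ye44 ze24) (ke xe15 ye25 ze49) (ke xe20 ye15 ze38) (ke xe20 ye14 ze10) (ke xe20 ye15 ze40) (ke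 xe5 ye44 ze26) (ke xe10 ye4 ze48) (ke xe14 ye56 ze37)) (@D3.rec (fun _ => Pt) (ke xe20 ye15 ze43) (ke xe11 ye14 ze61) (ke xe20 ye15 ze47) (ke xe12 ye25 ze57) (ke xe5 ye44 ze29) (ke xe5 ye44 ze30) (ke xe12 ye18 ze56) (ke xe13 ye20 ze34) (ke xe17 ye59 ze38) (ke xe20 ye15 ze54) (ke xe17 ye59 ze40) (ke xe11 ye23 ze60) (ke xe5 ye44 ze33) (ke xe5 ye44 ze34) (ke xe5 ye44 ze35) (ke xe18 ye37 ze48) (ke xe11 ye23 ze57) (ke xe20 ye5 ze43) (ke xe19 ye39 ze0) (ke xe20 ye15 ze59) (ke xe5 ye44 ze37) (ke xe5 ye48 ze40) (ke xe20 ye15 ze61) (ke xe5 ye44 ze39) (ke xe20 ye16 ze3) (ke xe20 ye16 ze6) (ke xe5 ye44 ze40) (ke xe20 ye16 ze12) (ke xe20 ye16 ze16) (ke xe17 ye52 ze43) (ke xe16 ye48 ze52) (ke xe20 ye16 ze18) (ke xe5 ye44 ze42) (ke xe5 ye44 ze43) (ke xe14 ye54 ze48) (ke xe5 ye44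 ze44) (ke xe12 ye23 ze59) (ke xe5 ye44 ze49) (ke xe6 ye27 ze59) (ke xe18 ye0 ze1) (ke xe20 ye16 ze38) (ke xe20 ye16 ze42) (ke xe5 ye44 ze47) (ke xe12 ye14 ze35) (ke xe17 ye29 ze61) (ke xe19 ye40 ze40) (ke xe5 ye44 ze48) (ke xe20 ye16 ze53) (ke xe9 ye41 ze54) (ke xe20 ye16 ze29) (ke xe20 ye16 ze59) (ke xe5 ye44 ze50) (ke xe17 ye30 ze7) (ke xe17 ye12 ze29) (ke xe9 ye18 ze52) (ke xe20 ye4 ze49) (ke xe7 ye23 ze42) (ke xe7 ye21 ze33) (ke xe11 ye45 ze5) (ke xe5 ye44 ze52) (ke xe20 ye15 ze1) (ke xe20 ye17 ze8)) (@D3.rec (fun _ => Pt) (ke xe20 ye17 ze12) (ke xe5 ye44 ze53) (ke xe11 ye44 ze30) (ke xe6 ye55 ze30) (ke xe5 ye44 ze54) (ke xe19 ye53 ze15) (ke xe17 ye7 ze57) (ke xe20 ye14 ze56) (ke xe20 ye7 ze20) (ke xe20 ye17 ze21) (ke xe18 ye49 ze17) (ke xe12 ye9 ze1) (ke xe5 ye44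 ze56) (ke xe20 ye17 ze30) (ke xe20 ye17 ze32) (ke xe5 ye44 ze57) (ke xe17 ye12 ze10) (ke xe12 ye30 ze22) (ke xe13 ye54 ze46) (ke xe20 ye14 ze53) (ke xe20 ye17 ze37) (ke xe20 ye17 ze40) (ke xe20 ye4 ze19) (ke xe5 ye44 ze61) (ke xe17 ye9 ze5) (ke xe20 ye17 ze45) (ke xe16 ye43 ze7) (ke xe5 ye45 ze0) (ke xe11 ye10 ze16) (ke xe20 ye17 ze50) (ke xe5 ye45 ze6) (ke xe20 ye17 ze54) (ke xe20 ye17 ze56) (ke xe5 ye45 ze3) (ke xe20 ye14 ze60) (ke xe20 ye17 ze61) (ke xe20 ye18 ze2) (ke xe5 ye45 ze5) (ke xe16 ye46 ze14) (ke xe17 ye16 ze4) (ke xe20 ye17 ze52) (ke xe20 ye18 ze10) (ke xe20 ye1 ze10) (ke xe20 ye18 ze14) (ke xe5 ye45 ze7) (ke xe16 ye57 ze9) (ke xe20 ye18 ze18) (ke xe7 ye59 ze57) (ke xe5 ye45 ze9) (ke xe7 ye3 ze40) (ke xe5 ye45 ze10) (ke xe20 ye18 ze23) (ke xe20 ye18 ze26)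 (ke xe20 ye18 ze30) (ke xe5 ye45 ze11) (ke xe20 ye18 ze36) (ke xe20 ye18 ze40) (ke xe20 ye18 ze33) (ke xe6 ye13 ze16) (ke xe20 ye17 ze25) (ke xe20 ye18 ze46) (ke xe20 ye18 ze48)) (@D3.rec (fun _ => Pt) (ke xe5 ye45 ze13) (ke xe15 ye5 ze25) (ke xe20 ye18 ze51) (ke xe20 ye18 ze52) (ke xe5 ye45 ze14) (ke xe9 ye44 ze47) (ke xe13 ye21 ze39) (ke xe10 ye48 ze14) (ke xe5 ye45 ze17) (ke xe8 ye59 ze44) (ke xe5 ye46 ze7) (ke xe9 ye48 ze9) (ke xe20 ye18 ze57) (ke xe5 ye45 ze22) (ke xe20 ye12 ze14) (ke xe12 ye3 ze34) (ke xe16 ye56 ze4) (ke xe5 ye45 ze24) (ke xe13 ye21 ze12) (ke xe5 ye45 ze25) (ke xe15 ye31 ze3) (ke xe20 ye19 ze4) (ke xe18 ye32 ze20) (ke xe5 ye45 ze26) (ke xe20 ye19 ze9) (ke xe16 ye55 ze15) (ke xe16 ye56 ze52) (ke xe20 ye19 ze10) (ke xe16 ye56 ze50) (ke xe5 ye45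 ze28) (ke xe20 ye19 ze11) (ke xe5 ye45 ze29) (ke xe20 ye19 ze13) (ke xe9 ye7 ze33) (ke xe5 ye45 ze32) (ke xe11 ye50 ze22) (ke xe20 ye19 ze16) (ke xe20 ye19 ze17) (ke xe6 ye27 ze15) (ke xe11 ye28 ze14) (ke xe11 ye37 ze31) (ke xe20 ye19 ze23) (ke xe16 ye54 ze14) (ke xe11 ye49 ze35) (ke xe11 ye48 ze38) (ke xe12 ye47 ze6) (ke xe9 ye10 ze22) (ke xe11 ye43 ze53) (ke xe19 ye53 ze4) (ke xe9 ye7 ze34) (ke xe9 ye58 ze46) (ke xe16 ye48 ze56) (ke xe16 ye48 ze59) (ke xe20 ye12 ze13) (ke xe20 ye19 ze37) (ke xe5 ye45 ze43) (ke xe18 ye39 ze43) (ke xe11 ye59 ze19) (ke xe11 ye48 ze40) (ke xe9 ye11 ze22) (ke xe11 ye48 ze39) (ke xe7 ye30 ze38)) (@D3.rec (fun _ => Pt) (ke xe12 ye38 ze45) (ke xe20 ye7 ze34) (ke xe18 ye26 ze4) (ke xe12 ye9 ze46) (ke xe20 ye18 ze20) (ke xe20 ye13 ze60) (ke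 xe13 ye15 ze20) (ke xe5 ye45 ze51) (ke xe11 ye48 ze31) (ke xe5 ye47 ze24) (ke xe19 ye52 ze38) (ke xe12 ye25 ze44) (ke xe5 ye48 ze51) (ke xe19 ye39 ze58) (ke xe20 ye19 ze55) (ke xe18 ye26 ze22) (ke xe5 ye45 ze55) (ke xe9 ye1 ze56) (ke xe11 ye10 ze56) (ke xe11 ye48 ze47) (ke xe8 ye12 ze9) (ke xe14 ye42 ze47) (ke xe20 ye20 ze2) (ke xe5 ye56 ze32) (ke xe5 ye46 ze2) (ke xe20 ye19 ze0) (ke xe12 ye25 ze6) (ke xe20 ye20 ze12) (ke xe5 ye46 ze3) (ke xe5 ye55 ze55) (ke xe20 ye20 ze18) (ke xe6 ye12 ze1) (ke xe16 ye56 ze2) (ke xe6 ye12 ze2) (ke xe12 ye3 ze31) (ke xe19 ye34 ze23) (ke xe12 ye25 ze3) (ke xe9 ye4 ze15) (ke xe20 ye20 ze29) (ke xe20 ye20 ze30) (ke xe5 ye46 ze10) (ke xe6 ye32 ze13) (ke xe5 ye46 ze11) (ke xe6 ye45 ze35) (ke xe6 ye3 ze34) (ke xe12 ye43 ze0) (ke xe5 ye46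 ze12) (ke xe15 ye56 ze37) (ke xe5 ye46 ze14) (ke xe11 ye12 ze50) (ke xe10 ye11 ze29) (ke xe10 ye53 ze7) (ke xe10 ye53 ze11) (ke xe8 ye58 ze51) (ke xe17 ye53 ze40) (ke xe5 ye46 ze19) (ke xe11 ye10 ze40) (ke xe12 ye15 ze26) (ke xe5 ye46 ze21) (ke xe20 ye20 ze45) (ke xe12 ye53 ze45) (ke xe20 ye20 ze41)) (@D3.rec (fun _ => Pt) (ke xe15 ye5 ze43) (ke xe16 ye30 ze17) (ke xe20 ye20 ze46) (ke xe5 ye46 ze24) (ke xe5 ye46 ze26) (ke xe10 ye30 ze26) (ke xe20 ye20 ze51) (ke xe5 ye46 ze30) (ke xe9 ye14 ze51) (ke xe13 ye31 ze9) (ke xe5 ye46 ze28) (ke xe20 ye20 ze54) (ke xe20 ye20 ze52) (ke xe20 ye20 ze56) (ke xe20 ye20 ze57) (ke xe18 ye59 ze33) (ke xe5 ye46 ze32) (ke xe20 ye20 ze59) (ke xe20 ye20 ze60) (ke xe5 ye46 ze33) (ke xe20 ye21 ze1) (ke xe20 ye21 ze2) (ke xe5 ye46 ze42) (ke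 xe20 ye21 ze4) (ke xe20 ye21 ze6) (ke xe5 ye46 ze36) (ke xe8 ye4 ze52) (ke xe13 ye14 ze44) (ke xe20 ye21 ze11) (ke xe5 ye46 ze39) (ke xe20 ye21 ze16) (ke xe5 ye46 ze40) (ke xe10 ye3 ze36) (ke xe18 ye31 ze20) (ke xe5 ye46 ze41) (ke xe20 ye21 ze20) (ke xe18 ye11 ze30) (ke xe20 ye21 ze3) (ke xe20 ye21 ze27) (ke xe20 ye21 ze28) (ke xe5 ye46 ze43) (ke xe20 ye21 ze32) (ke xe5 ye46 ze44) (ke xe20 ye21 ze34) (ke xe20 ye21 ze35) (ke xe5 ye46 ze46) (ke xe5 ye46 ze47) (ke xe5 ye46 ze48) (ke xe20 ye21 ze39) (ke xe20 ye21 ze42) (ke xe12 ye3 ze44) (ke xe20 ye21 ze47) (ke xe20 ye9 ze37) (ke xe11 ye59 ze20) (ke xe20 ye21 ze49) (ke xe7 ye23 ze31) (ke xe5 ye46 ze53) (ke xe11 ye19 ze16) (ke xe5 ye46 ze54) (ke xe6 ye46 ze48) (ke xe11 ye19 ze11) (ke xe20 ye21 ze51)) (@D3.rec (fun _ => Pt)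 (ke xe5 ye46 ze56) (ke xe12 ye4 ze5) (ke xe9 ye58 ze3) (ke xe9 ye2 ze21) (ke xe12 ye54 ze6) (ke xe16 ye7 ze43) (ke xe12 ye4 ze12) (ke xe20 ye21 ze59) (ke xe5 ye46 ze59) (ke xe9 ye12 ze29) (ke xe20 ye21 ze60) (ke xe17 ye59 ze10) (ke xe9 ye15 ze6) (ke xe5 ye47 ze0) (ke xe9 ye46 ze15) (ke xe11 ye30 ze58) (ke xe5 ye47 ze2) (ke xe9 ye47 ze44) (ke xe5 ye47 ze3) (ke xe20 ye22 ze7) (ke xe20 ye22 ze9) (ke xe20 ye22 ze4) (ke xe11 ye30 ze36) (ke xe20 ye22 ze11) (ke xe20 ye22 ze13) (ke xe17 ye29 ze60) (ke xe5 ye47 ze5) (ke xe12 ye9 ze44) (ke xe10 ye0 ze18) (ke xe15 ye4 ze25) (ke xe5 ye47 ze6) (ke xe20 ye22 ze16) (ke xe19 ye43 ze50) (ke xe13 ye1 ze57) (ke xe5 ye47 ze10) (ke xe5 ye47 ze11) (ke xe5 ye47 ze14) (ke xe20 ye22 ze22) (ke xe20 ye22 ze24) (ke xe20 ye22 ze20) (ke xe5 ye47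 ze15) (ke xe15 ye5 ze10) (ke xe5 ye47 ze18) (ke xe5 ye47 ze19) (ke xe20 ye22 ze27) (ke xe5 ye47 ze20) (ke xe11 ye31 ze2) (ke xe11 ye31 ze52) (ke xe10 ye5 ze1) (ke xe5 ye47 ze29) (ke xe20 ye22 ze31) (ke xe14 ye44 ze27) (ke xe12 ye7 ze3) (ke xe5 ye47 ze26) (ke xe5 ye47 ze28) (ke xe6 ye31 ze21) (ke xe10 ye5 ze11) (ke xe5 ye47 ze31) (ke xe11 ye31 ze46) (ke xe6 ye8 ze3) (ke xe11 ye31 ze47) (ke xe10 ye43 ze51)) (@D3.rec (fun _ => Pt) (ke xe19 ye27 ze38) (ke xe12 ye48 ze59) (ke xe5 ye47 ze34) (ke xe20 ye22 ze35) (ke xe19 ye32 ze40) (ke xe20 ye22 ze37) (ke xe5 ye47 ze35) (ke xe9 ye17 ze2) (ke xe11 ye28 ze46) (ke xe11 ye49 ze32) (ke xe5 ye47 ze42) (ke xe20 ye0 ze36) (ke xe20 ye22 ze40) (ke xe5 ye47 ze44) (ke xe5 ye47 ze45) (ke xe20 ye22 ze47) (ke xe20 ye22 ze48) (ke xe11 ye29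 ze45) (ke xe9 ye30 ze14) (ke xe20 ye17 ze20) (ke xe16 ye57 ze38) (ke xe19 ye23 ze7) (ke xe11 ye48 ze43) (ke xe5 ye47 ze49) (ke xe17 ye5 ze23) (ke xe5 ye47 ze52) (ke xe20 ye22 ze50) (ke xe5 ye47 ze55) (ke xe20 ye22 ze55) (ke xe20 ye22 ze56) (ke xe5 ye47 ze59) (ke xe11 ye29 ze59) (ke xe20 ye22 ze59) (ke xe17 ye32 ze42) (ke xe20 ye22 ze61) (ke xe5 ye48 ze0) (ke xe12 ye9 ze4) (ke xe18 ye57 ze31) (ke xe20 ye23 ze5) (ke xe14 ye18 ze36) (ke xe11 ye30 ze2) (ke xe20 ye23 ze11) (ke xe10 ye18 ze12) (ke xe5 ye48 ze2) (ke xe5 ye48 ze5) (ke xe10 ye6 ze11) (ke xe20 ye23 ze16) (ke xe18 ye0 ze8) (ke xe16 ye13 ze51) (ke xe5 ye48 ze6) (ke xe12 ye57 ze30) (ke xe13 ye8 ze0) (ke xe16 ye57 ze41) (ke xe17 ye19 ze29) (ke xe9 ye46 ze32) (ke xe12 ye58 ze0) (ke xe20 ye23 ze29) (ke xe16 ye51 ze47)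 (ke xe10 ye54 ze31) (ke xe5 ye48 ze37) (ke xe9 ye46 ze28) (ke xe9 ye46 ze29)) (@D3.rec (fun _ => Pt) (ke xe5 ye48 ze14) (ke xe20 ye23 ze34) (ke xe20 ye23 ze35) (ke xe14 ye36 ze61) (ke xe13 ye19 ze39) (ke xe18 ye42 ze46) (ke xe5 ye48 ze18) (ke xe13 ye5 ze31) (ke xe13 ye3 ze2) (ke xe5 ye48 ze24) (ke xe17 ye19 ze10) (ke xe17 ye6 ze37) (ke xe17 ye26 ze53) (ke xe20 ye23 ze49) (ke xe20 ye23 ze53) (ke xe13 ye12 ze12) (ke xe19 ye19 ze16) (ke xe19 ye3 ze58) (ke xe12 ye17 ze43) (ke xe6 ye56 ze37) (ke xe9 ye19 ze54) (ke xe20 ye16 ze14) (ke xe11 ye44 ze39) (ke xe20 ye24 ze7) (ke xe5 ye48 ze27) (ke xe9 ye46 ze34) (ke xe7 ye59 ze0) (ke xe20 ye24 ze14) (ke xe5 ye48 ze28) (ke xe20 ye24 ze16) (ke xe5 ye48 ze30) (ke xe17 ye20 ze17) (ke xe20 ye24 ze20) (ke xe5 ye48 ze31) (ke xe20 ye24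 ze23) (ke xe5 ye48 ze32) (ke xe20 ye24 ze24) (ke xe20 ye24 ze29) (ke xe20 ye24 ze34) (ke xe18 ye2 ze10) (ke xe5 ye48 ze34) (ke xe15 ye3 ze35) (ke xe15 ye3 ze40) (ke xe9 ye6 ze17) (ke xe20 ye24 ze42) (ke xe19 ye33 ze7) (ke xe7 ye49 ze25) (ke xe14 ye48 ze56) (ke xe16 ye48 ze46) (ke xe20 ye24 ze46) (ke xe20 ye24 ze47) (ke xe5 ye48 ze42) (ke xe8 ye22 ze44) (ke xe5 ye48 ze43) (ke xe20 ye24 ze48) (ke xe20 ye24 ze50) (ke xe5 ye48 ze45) (ke xe20 ye24 ze31) (ke xe15 ye43 ze48) (ke xe5 ye48 ze46) (ke xe10 ye55 ze21) (ke xe19 ye33 ze11)) (@D3.rec (fun _ => Pt) (ke xe18 ye24 ze27) (ke xe20 ye24 ze57) (ke xe5 ye48 ze48) (ke xe20 ye25 ze1) (ke xe6 ye32 ze10) (ke xe12 ye11 ze3) (ke xe16 ye57 ze5) (ke xe11 ye8 ze19) (ke xe12 ye17 ze44) (ke xe20 ye25 ze7) (ke xe20 ye25 ze8) (ke xe12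 ye17 ze30) (ke xe6 ye13 ze25) (ke xe16 ye43 ze55) (ke xe20 ye25 ze15) (ke xe5 ye48 ze56) (ke xe17 ye16 ze37) (ke xe6 ye46 ze26) (ke xe20 ye25 ze17) (ke xe5 ye48 ze59) (ke xe12 ye38 ze17) (ke xe20 ye7 ze14) (ke xe11 ye31 ze59) (ke xe8 ye58 ze4) (ke xe8 ye58 ze6) (ke xe19 ye50 ze5) (ke xe5 ye49 ze2) (ke xe16 ye36 ze2) (ke xe5 ye49 ze4) (ke xe20 ye25 ze26) (ke xe5 ye49 ze5) (ke xe7 ye34 ze2) (ke xe5 ye49 ze9) (ke xe16 ye43 ze46) (ke xe18 ye47 ze47) (ke xe5 ye49 ze13) (ke xe5 ye49 ze14) (ke xe19 ye24 ze21) (ke xe20 ye25 ze29) (ke xe12 ye25 ze5) (ke xe6 ye16 ze0) (ke xe9 ye44 ze41) (ke xe15 ye26 ze52) (ke xe19 ye33 ze20) (ke xe5 ye49 ze21) (ke xe5 ye49 ze22) (ke xe9 ye14 ze6) (ke xe8 ye12 ze56) (ke xe5 ye49 ze27) (ke xe5 ye49 ze28) (ke xe10 ye57 ze9) (ke xe10 ye55 ze14)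 (ke xe9 ye2 ze9) (ke xe9 ye13 ze47) (ke xe11 ye4 ze58) (ke xe11 ye10 ze53) (ke xe17 ye34 ze4) (ke xe5 ye50 ze18) (ke xe19 ye33 ze18) (ke xe10 ye41 ze36) (ke xe8 ye58 ze32) (ke xe5 ye49 ze39)) (@D3.rec (fun _ => Pt) (ke xe20 ye25 ze41) (ke xe12 ye8 ze25) (ke xe5 ye49 ze41) (ke xe20 ye25 ze44) (ke xe12 ye44 ze51) (ke xe5 ye49 ze42) (ke xe18 ye50 ze32) (ke xe20 ye25 ze46) (ke xe20 ye25 ze47) (ke xe20 ye25 ze48) (ke xe5 ye49 ze44) (ke xe9 ye2 ze56) (ke xe17 ye31 ze27) (ke xe5 ye49 ze47) (ke xe11 ye21 ze39) (ke xe5 ye49 ze50) (ke xe20 ye25 ze52) (ke xe17 ye7 ze40) (ke xe5 ye49 ze53) (ke xe6 ye15 ze36) (ke xe16 ye43 ze39) (ke xe20 ye25 ze54) (ke xe5 ye49 ze55) (ke xe19 ye33 ze21) (ke xe5 ye49 ze59) (ke xe10 ye43 ze25) (ke xe20 ye25 ze57) (ke xe11 ye31 ze10) (ke xe12 ye30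 ze2) (ke xe11 ye49 ze43) (ke xe5 ye50 ze3) (ke xe20 ye25 ze59) (ke xe5 ye50 ze4) (ke xe20 ye25 ze61) (ke xe12 ye17 ze8) (ke xe11 ye31 ze17) (ke xe5 ye55 ze20) (ke xe20 ye26 ze0) (ke xe5 ye50 ze6) (ke xe10 ye48 ze36) (ke xe6 ye8 ze18) (ke xe8 ye14 ze56) (ke xe13 ye2 ze11) (ke xe5 ye50 ze11) (ke xe19 ye42 ze55) (ke xe20 ye26 ze3) (ke xe11 ye25 ze8) (ke xe11 ye31 ze3) (ke xe5 ye50 ze20) (ke xe18 ye42 ze16) (ke xe9 ye15 ze38) (ke xe12 ye25 ze1) (ke xe18 ye43 ze3) (ke xe10 ye43 ze23) (ke xe5 ye50 ze28) (ke xe12 ye24 ze50) (ke xe20 ye26 ze9) (ke xe20 ye26 ze10) (ke xe11 ye31 ze9) (ke xe6 ye46 ze25) (ke xe12 ye24 ze2) (ke xe5 ye50 ze32)) (@D3.rec (fun _ => Pt) (ke xe12 ye47 ze32) (ke xe5 ye50 ze34) (ke xe13 ye58 ze44) (ke xe20 ye26 ze17) (ke xe6 ye49 ze27) (ke xe10 ye0 ze24)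 (ke xe5 ye50 ze40) (ke xe19 ye27 ze55) (ke xe11 ye40 ze13) (ke xe5 ye50 ze42) (ke xe10 ye49 ze11) (ke xe11 ye56 ze44) (ke xe5 ye50 ze49) (ke xe20 ye26 ze20) (ke xe5 ye50 ze50) (ke xe5 ye50 ze51) (ke xe20 ye26 ze24) (ke xe16 ye31 ze43) (ke xe16 ye25 ze18) (ke xe10 ye5 ze60) (ke xe17 ye56 ze37) (ke xe5 ye50 ze53) (ke xe11 ye2 ze5) (ke xe5 ye50 ze55) (ke xe15 ye30 ze23) (ke xe20 ye26 ze29) (ke xe20 ye26 ze30) (ke xe16 ye46 ze13) (ke xe12 ye55 ze38) (ke xe20 ye26 ze31) (ke xe20 ye26 ze32) (ke xe8 ye13 ze56) (ke xe20 ye26 ze37) (ke xe19 ye50 ze38) (ke xe15 ye30 ze24) (ke xe20 ye26 ze45) (ke xe5 ye51 ze1) (ke xe19 ye23 ze32) (ke xe20 ye22 ze39) (ke xe5 ye51 ze4) (ke xe15 ye30 ze28) (ke xe18 ye23 ze36) (ke xe5 ye51 ze7) (ke xe20 ye26 ze49) (ke xe20 ye26 ze51) (ke xe11 ye25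 ze17) (ke xe5 ye51 ze9) (ke xe20 ye26 ze54) (ke xe20 ye26 ze56) (ke xe7 ye35 ze27) (ke xe7 ye42 ze13) (ke xe8 ye12 ze43) (ke xe15 ye30 ze35) (ke xe20 ye27 ze2) (ke xe10 ye5 ze39) (ke xe5 ye51 ze12) (ke xe18 ye10 ze55) (ke xe20 ye27 ze4) (ke xe20 ye27 ze6) (ke xe11 ye25 ze31) (ke xe5 ye51 ze16) (ke xe20 ye27 ze9)) (@D3.rec (fun _ => Pt) (ke xe20 ye27 ze12) (ke xe7 ye42 ze1) (ke xe11 ye25 ze40) (ke xe10 ye34 ze58) (ke xe7 ye59 ze47) (ke xe5 ye51 ze18) (ke xe5 ye51 ze20) (ke xe14 ye30 ze47) (ke xe16 ye58 ze11) (ke xe6 ye54 ze51) (ke xe14 ye30 ze55) (ke xe5 ye51 ze23) (ke xe20 ye27 ze27) (ke xe7 ye50 ze55) (ke xe13 ye3 ze51) (ke xe12 ye30 ze1) (ke xe20 ye27 ze28) (ke xe5 ye51 ze25) (ke xe11 ye41 ze51) (ke xe5 ye51 ze26) (ke xe19 ye53 ze8) (ke xe10 ye18 ze22) (ke xe5 ye51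 ze27) (ke xe12 ye30 ze11) (ke xe8 ye12 ze51) (ke xe11 ye56 ze38) (ke xe20 ye2 ze5) (ke xe5 ye51 ze29) (ke xe16 ye55 ze12) (ke xe5 ye51 ze30) (ke xe20 ye27 ze35) (ke xe5 ye51 ze33) (ke xe5 ye51 ze34) (ke xe10 ye27 ze26) (ke xe20 ye27 ze44) (ke xe20 ye27 ze39) (ke xe11 ye24 ze22) (ke xe18 ye17 ze5) (ke xe18 ye17 ze7) (ke xe5 ye51 ze37) (ke xe17 ye7 ze61) (ke xe10 ye17 ze56) (ke xe12 ye30 ze9) (ke xe6 ye15 ze24) (ke xe20 ye16 ze46) (ke xe20 ye27 ze49) (ke xe5 ye51 ze45) (ke xe20 ye27 ze29) (ke xe20 ye27 ze51) (ke xe5 ye51 ze46) (ke xe14 ye50 ze6) (ke xe20 ye27 ze53) (ke xe6 ye15 ze33) (ke xe20 ye6 ze57) (ke xe6 ye15 ze34) (ke xe20 ye0 ze3) (ke xe10 ye4 ze45) (ke xe5 ye51 ze51) (ke xe11 ye24 ze15) (ke xe17 ye55 ze30) (ke xe12 ye25 ze49) (ke xe10 ye2 ze41)) (@D3.rec (fun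 _ => Pt) (ke xe5 ye51 ze59) (ke xe20 ye25 ze13) (ke xe11 ye24 ze46) (ke xe11 ye28 ze47) (ke xe5 ye52 ze1) (ke xe9 ye1 ze55) (ke xe6 ye7 ze10) (ke xe9 ye15 ze20) (ke xe17 ye56 ze9) (ke xe11 ye28 ze58) (ke xe11 ye28 ze27) (ke xe11 ye58 ze29) (ke xe11 ye2 ze20) (ke xe6 ye2 ze5) (ke xe5 ye52 ze9) (ke xe11 ye54 ze52) (ke xe20 ye28 ze5) (ke xe11 ye28 ze35) (ke xe11 ye38 ze38) (ke xe5 ye52 ze15) (ke xe18 ye25 ze47) (ke xe9 ye46 ze39) (ke xe11 ye5 ze28) (ke xe5 ye52 ze23) (ke xe11 ye58 ze37) (ke xe18 ye1 ze56) (ke xe5 ye52 ze27) (ke xe16 ye43 ze35) (ke xe11 ye51 ze13) (ke xe12 ye58 ze8) (ke xe8 ye11 ze60) (ke xe20 ye25 ze9) (ke xe18 ye38 ze26) (ke xe5 ye52 ze31) (ke xe6 ye46 ze38) (ke xe6 ye46 ze39) (ke xe18 ye58 ze1) (ke xe6 ye45 ze28) (ke xe9 ye18 ze50) (ke xe20 ye28 ze15)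 (ke xe5 ye52 ze35) (ke xe12 ye45 ze57) (ke xe5 ye52 ze36) (ke xe17 ye49 ze20) (ke xe20 ye5 ze5) (ke xe19 ye44 ze17) (ke xe11 ye24 ze58) (ke xe11 ye24 ze60) (ke xe19 ye27 ze41) (ke xe5 ye52 ze43) (ke xe6 ye31 ze52) (ke xe5 ye52 ze44) (ke xe11 ye24 ze47) (ke xe20 ye27 ze59) (ke xe12 ye30 ze10) (ke xe6 ye34 ze12) (ke xe15 ye48 ze24) (ke xe5 ye52 ze48) (ke xe16 ye46 ze19) (ke xe11 ye27 ze22) (ke xe10 ye49 ze36) (ke xe19 ye58 ze42)) (@D3.rec (fun _ => Pt) (ke xe6 ye5 ze30) (ke xe20 ye28 ze42) (ke xe20 ye28 ze44) (ke xe5 ye52 ze56) (ke xe11 ye55 ze57) (ke xe20 ye28 ze45) (ke xe20 ye28 ze48) (ke xe5 ye52 ze58) (ke xe20 ye28 ze53) (ke xe5 ye52 ze59) (ke xe19 ye43 ze11) (ke xe19 ye43 ze12) (ke xe19 ye41 ze31) (ke xe7 ye3 ze48) (ke xe8 ye32 ze22) (ke xe5 ye53 ze2) (ke xe19 ye40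 ze19) (ke xe5 ye53 ze4) (ke xe20 ye28 ze37) (ke xe5 ye53 ze5) (ke xe6 ye5 ze53) (ke xe16 ye53 ze45) (ke xe20 ye29 ze9) (ke xe20 ye29 ze12) (ke xe5 ye53 ze8) (ke xe10 ye45 ze5) (ke xe20 ye29 ze16) (ke xe5 ye53 ze10) (ke xe10 ye59 ze49) (ke xe20 ye14 ze14) (ke xe20 ye29 ze19) (ke xe20 ye29 ze22) (ke xe5 ye53 ze13) (ke xe16 ye21 ze59) (ke xe20 ye29 ze27) (ke xe5 ye53 ze15) (ke xe20 ye29 ze32) (ke xe20 ye29 ze33) (ke xe5 ye53 ze16) (ke xe20 ye29 ze38) (ke xe5 ye53 ze17) (ke xe20 ye29 ze45) (ke xe16 ye28 ze48) (ke xe16 ye27 ze40) (ke xe10 ye58 ze20) (ke xe10 ye58 ze3) (ke xe20 ye29 ze50) (ke xe15 ye30 ze1) (ke xe14 ye55 ze1) (ke xe5 ye53 ze20) (ke xe20 ye29 ze56) (ke xe20 ye29 ze58) (ke xe12 ye55 ze17) (ke xe5 ye53 ze23) (ke xe8 ye58 ze13) (ke xe5 ye53 ze26) (ke xe11 ye1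 ze4) (ke xe5 ye53 ze27) (ke xe20 ye29 ze61) (ke xe20 ye30 ze2) (ke xe5 ye53 ze29) (ke xe20 ye30 ze5)) (@D3.rec (fun _ => Pt) (ke xe5 ye53 ze30) (ke xe20 ye30 ze7) (ke xe5 ye53 ze31) (ke xe20 ye30 ze13) (ke xe19 ye46 ze46) (ke xe5 ye53 ze33) (ke xe17 ye0 ze21) (ke xe20 ye30 ze20) (ke xe20 ye30 ze21) (ke xe20 ye30 ze18) (ke xe10 ye44 ze18) (ke xe19 ye47 ze12) (ke xe5 ye53 ze40) (ke xe20 ye30 ze24) (ke xe5 ye53 ze38) (ke xe20 ye30 ze29) (ke xe5 ye53 ze39) (ke xe8 ye29 ze26) (ke xe20 ye30 ze37) (ke xe19 ye57 ze43) (ke xe5 ye53 ze41) (ke xe9 ye5 ze33) (ke xe17 ye2 ze23) (ke xe5 ye53 ze42) (ke xe5 ye53 ze44) (ke xe20 ye30 ze43) (ke xe20 ye6 ze15) (ke xe17 ye0 ze28) (ke xe8 ye0 ze57) (ke xe5 ye53 ze47) (ke xe9 ye49 ze28) (ke xe20 ye14 ze21) (ke xe5 ye53 ze49) (ke xe14 ye45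 ze22) (ke xe20 ye14 ze22) (ke xe5 ye53 ze51) (ke xe16 ye31 ze48) (ke xe20 ye30 ze56) (ke xe5 ye53 ze54) (ke xe17 ye0 ze41) (ke xe13 ye51 ze4) (ke xe20 ye30 ze59) (ke xe7 ye33 ze50) (ke xe20 ye31 ze5) (ke xe5 ye53 ze58) (ke xe20 ye31 ze7) (ke xe20 ye31 ze9) (ke xe5 ye53 ze60) (ke xe20 ye8 ze39) (ke xe7 ye41 ze34) (ke xe5 ye54 ze0) (ke xe9 ye22 ze11) (ke xe17 ye0 ze59) (ke xe5 ye54 ze2) (ke xe5 ye54 ze3) (ke xe20 ye31 ze15) (ke xe20 ye31 ze16) (ke xe5 ye54 ze4) (ke xe20 ye31 ze22) (ke xe5 ye54 ze6) (ke xe8 ye50 ze61) (ke xe20 ye31 ze26)) (@D3.rec (fun _ => Pt) (ke xe20 ye31 ze27) (ke xe20 ye31 ze24) (ke xe20 ye31 ze31) (ke xe16 ye32 ze18) (ke xe19 ye34 ze14) (ke xe19 ye52 ze6) (ke xe5 ye54 ze9) (ke xe20 ye31 ze39) (ke xe20 ye31 ze42) (ke xe9 ye19 ze25) (ke xe12 ye7 ze17)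 (ke xe13 ye21 ze49) (ke xe5 ye54 ze11) (ke xe20 ye31 ze50) (ke xe12 ye7 ze25) (ke xe5 ye54 ze13) (ke xe5 ye54 ze14) (ke xe20 ye31 ze53) (ke xe20 ye31 ze54) (ke xe20 ye31 ze52) (ke xe17 ye0 ze60) (ke xe16 ye30 ze39) (ke xe20 ye31 ze61) (ke xe17 ye2 ze26) (ke xe5 ye54 ze16) (ke xe20 ye32 ze4) (ke xe20 ye32 ze5) (ke xe20 ye32 ze7) (ke xe5 ye54 ze17) (ke xe20 ye32 ze13) (ke xe20 ye32 ze16) (ke xe5 ye54 ze25) (ke xe20 ye32 ze20) (ke xe20 ye32 ze22) (ke xe20 ye32 ze24) (ke xe20 ye32 ze28) (ke xe5 ye54 ze21) (ke xe13 ye51 ze0) (ke xe5 ye54 ze23) (ke xe20 ye32 ze36) (ke xe20 ye32 ze38) (ke xe5 ye54 ze24) (ke xe20 ye32 ze44) (ke xe15 ye13 ze22) (ke xe16 ye25 ze37) (ke xe20 ye32 ze52) (ke xe20 ye32 ze53) (ke xe5 ye54 ze26) (ke xe5 ye54 ze37) (ke xe20 ye32 ze56) (ke xe5 ye54 ze29)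 (ke xe10 ye45 ze38) (ke xe20 ye32 ze57) (ke xe6 ye5 ze57) (ke xe5 ye54 ze35) (ke xe20 ye32 ze58) (ke xe20 ye22 ze53) (ke xe9 ye4 ze11) (ke xe7 ye59 ze27) (ke xe9 ye19 ze50) (ke xe20 ye8 ze35) (ke xe5 ye58 ze45)) (@D3.rec (fun _ => Pt) (ke xe20 ye33 ze0) (ke xe5 ye54 ze40) (ke xe5 ye54 ze41) (ke xe12 ye55 ze26) (ke xe5 ye54 ze44) (ke xe12 ye53 ze14) (ke xe7 ye26 ze60) (ke xe5 ye54 ze47) (ke xe5 ye55 ze7) (ke xe5 ye54 ze49) (ke xe20 ye33 ze7) (ke xe20 ye33 ze9) (ke xe5 ye54 ze51) (ke xe6 ye43 ze10) (ke xe5 ye54 ze53) (ke xe20 ye33 ze16) (ke xe5 ye54 ze54) (ke xe17 ye21 ze5) (ke xe5 ye54 ze56) (ke xe13 ye2 ze18) (ke xe20 ye33 ze21) (ke xe20 ye33 ze23) (ke xe20 ye33 ze25) (ke xe20 ye33 ze27) (ke xe5 ye54 ze60) (ke xe20 ye33 ze31) (ke xe5 ye54 ze61) (ke xe9 ye13 ze15) (ke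 xe16 ye56 ze45) (ke xe5 ye55 ze1) (ke xe20 ye33 ze36) (ke xe13 ye16 ze37) (ke xe20 ye33 ze38) (ke xe20 ye33 ze40) (ke xe5 ye55 ze2) (ke xe20 ye33 ze3) (ke xe18 ye22 ze31) (ke xe20 ye33 ze47) (ke xe5 ye55 ze4) (ke xe12 ye33 ze33) (ke xe18 ye21 ze31) (ke xe20 ye33 ze50) (ke xe5 ye55 ze6) (ke xe20 ye33 ze55) (ke xe7 ye38 ze26) (ke xe11 ye41 ze13) (ke xe20 ye33 ze60) (ke xe20 ye33 ze61) (ke xe20 ye34 ze0) (ke xe20 ye34 ze2) (ke xe5 ye55 ze8) (ke xe20 ye34 ze5) (ke xe5 ye55 ze9) (ke xe20 ye34 ze9) (ke xe20 ye34 ze11) (ke xe8 ye25 ze20) (ke xe5 ye55 ze11) (ke xe5 ye55 ze12) (ke xe6 ye11 ze51) (ke xe16 ye54 ze42) (ke xe10 ye2 ze46) (ke xe11 ye45 ze11)) (@D3.rec (fun _ => Pt) (ke xe18 ye22 ze37) (ke xe6 ye12 ze3) (ke xe9 ye4 ze57) (ke xe18 ye21 ze36) (ke xe5 ye57 ze57) (ke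 xe20 ye34 ze13) (ke xe5 ye55 ze26) (ke xe20 ye34 ze14) (ke xe20 ye34 ze16) (ke xe5 ye55 ze24) (ke xe20 ye34 ze21) (ke xe17 ye17 ze10) (ke xe5 ye55 ze25) (ke xe20 ye34 ze27) (ke xe5 ye55 ze27) (ke xe5 ye55 ze28) (ke xe19 ye47 ze61) (ke xe5 ye55 ze29) (ke xe20 ye34 ze28) (ke xe5 ye55 ze31) (ke xe20 ye34 ze30) (ke xe20 ye34 ze31) (ke xe5 ye55 ze32) (ke xe20 ye34 ze37) (ke xe16 ye59 ze24) (ke xe12 ye44 ze10) (ke xe5 ye55 ze34) (ke xe5 ye55 ze35) (ke xe20 ye34 ze39) (ke xe14 ye35 ze56) (ke xe8 ye45 ze46) (ke xe5 ye55 ze39) (ke xe10 ye1 ze40) (ke xe20 ye34 ze48) (ke xe5 ye55 ze41) (ke xe16 ye30 ze60) (ke xe20 ye34 ze51) (ke xe20 ye34 ze53) (ke xe5 ye55 ze42) (ke xe5 ye55 ze43) (ke xe12 ye45 ze3) (ke xe20 ye34 ze57) (ke xe14 ye55 ze34) (ke xe5 ye55 ze46) (ke xe20 ye12 ze29)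 (ke xe5 ye55 ze47) (ke xe20 ye34 ze61) (ke xe20 ye35 ze2) (ke xe5 ye55 ze50) (ke xe16 ye25 ze26) (ke xe8 ye44 ze19) (ke xe19 ye44 ze5) (ke xe20 ye35 ze9) (ke xe13 ye9 ze55) (ke xe20 ye35 ze4) (ke xe5 ye55 ze51) (ke xe20 ye35 ze16) (ke xe20 ye20 ze19) (ke xe20 ye35 ze20) (ke xe5 ye55 ze54) (ke xe20 ye20 ze16) (ke xe8 ye59 ze7)) (@D3.rec (fun _ => Pt) (ke xe16 ye43 ze34) (ke xe6 ye44 ze57) (ke xe5 ye55 ze60) (ke xe17 ye6 ze57) (ke xe19 ye40 ze46) (ke xe16 ye43 ze28) (ke xe19 ye40 ze42) (ke xe16 ye37 ze25) (ke xe20 ye35 ze28) (ke xe20 ye35 ze44) (ke xe6 ye39 ze52) (ke xe5 ye55 ze61) (ke xe5 ye56 ze0) (ke xe20 ye35 ze48) (ke xe18 ye57 ze2) (ke xe5 ye56 ze1) (ke xe20 ye35 ze50) (ke xe16 ye23 ze56) (ke xe20 ye8 ze60) (ke xe20 ye12 ze42) (ke xe5 ye56 ze44) (ke xe5 ye56 ze4)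 (ke xe10 ye16 ze36) (ke xe20 ye8 ze40) (ke xe5 ye56 ze6) (ke xe15 ye8 ze39) (ke xe20 ye35 ze58) (ke xe18 ye59 ze18) (ke xe20 ye20 ze7) (ke xe6 ye36 ze6) (ke xe10 ye58 ze14) (ke xe11 ye21 ze40) (ke xe18 ye23 ze56) (ke xe5 ye56 ze9) (ke xe20 ye36 ze0) (ke xe5 ye56 ze10) (ke xe20 ye36 ze5) (ke xe20 ye36 ze8) (ke xe8 ye45 ze39) (ke xe8 ye52 ze6) (ke xe15 ye24 ze52) (ke xe5 ye56 ze13) (ke xe20 ye36 ze12) (ke xe18 ye38 ze15) (ke xe5 ye56 ze14) (ke xe5 ye56 ze15) (ke xe20 ye36 ze17) (ke xe20 ye36 ze18) (ke xe20 ye36 ze16) (ke xe16 ye25 ze31) (ke xe7 ye12 ze16) (ke xe20 ye36 ze25) (ke xe13 ye43 ze54) (ke xe5 ye56 ze17) (ke xe20 ye36 ze30) (ke xe20 ye36 ze32) (ke xe5 ye56 ze18) (ke xe20 ye36 ze38) (ke xe20 ye36 ze40) (ke xe5 ye56 ze27) (ke xe20 ye36 ze45) (ke xe20 ye36 ze46))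 (@D3.rec (fun _ => Pt) (ke xe20 ye36 ze47) (ke xe20 ye36 ze52) (ke xe5 ye56 ze22) (ke xe20 ye36 ze55) (ke xe20 ye36 ze58) (ke xe5 ye56 ze24) (ke xe20 ye36 ze61) (ke xe20 ye37 ze4) (ke xe16 ye34 ze33) (ke xe5 ye56 ze25) (ke xe20 ye37 ze8) (ke xe20 ye37 ze11) (ke xe5 ye56 ze26) (ke xe20 ye37 ze16) (ke xe20 ye37 ze19) (ke xe19 ye37 ze31) (ke xe20 ye37 ze24) (ke xe20 ye37 ze25) (ke xe5 ye56 ze28) (ke xe5 ye56 ze30) (ke xe17 ye50 ze28) (ke xe17 ye5 ze39) (ke xe12 ye23 ze21) (ke xe20 ye20 ze3) (ke xe20 ye20 ze4) (ke xe10 ye18 ze30) (ke xe20 ye37 ze35) (ke xe11 ye40 ze37) (ke xe18 ye16 ze8) (ke xe5 ye56 ze35) (ke xe5 ye56 ze36) (ke xe18 ye24 ze46) (ke xe20 ye37 ze43) (ke xe20 ye37 ze39) (ke xe12 ye23 ze30) (ke xe20 ye37 ze47) (ke xe10 ye4 ze24) (ke xe5 ye56 ze38) (ke xe11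 ye31 ze18) (ke xe9 ye17 ze47) (ke xe17 ye3 ze26) (ke xe5 ye56 ze41) (ke xe12 ye39 ze20) (ke xe16 ye59 ze37) (ke xe12 ye36 ze56) (ke xe12 ye39 ze23) (ke xe20 ye37 ze60) (ke xe20 ye38 ze0) (ke xe18 ye20 ze30) (ke xe5 ye56 ze46) (ke xe20 ye38 ze6) (ke xe20 ye38 ze8) (ke xe20 ye38 ze10) (ke xe5 ye56 ze47) (ke xe6 ye45 ze60) (ke xe12 ye1 ze14) (ke xe18 ye25 ze6) (ke xe20 ye38 ze15) (ke xe5 ye56 ze50) (ke xe20 ye38 ze19) (ke xe8 ye59 ze0) (ke xe6 ye45 ze55)) (@D3.rec (fun _ => Pt) (ke xe8 ye59 ze4) (ke xe11 ye50 ze13) (ke xe20 ye14 ze59) (ke xe5 ye56 ze53) (ke xe20 ye38 ze26) (ke xe20 ye38 ze28) (ke xe5 ye56 ze54) (ke xe20 ye38 ze33) (ke xe5 ye56 ze55) (ke xe20 ye38 ze36) (ke xe5 ye56 ze57) (ke xe17 ye31 ze49) (ke xe18 ye22 ze29) (ke xe20 ye38 ze41) (ke xe11 ye54 ze13) (ke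 xe20 ye38 ze46) (ke xe20 ye38 ze48) (ke xe5 ye56 ze60) (ke xe20 ye38 ze50) (ke xe20 ye38 ze52) (ke xe5 ye57 ze0) (ke xe20 ye38 ze58) (ke xe20 ye38 ze59) (ke xe5 ye57 ze1) (ke xe8 ye59 ze18) (ke xe6 ye6 ze41) (ke xe20 ye39 ze4) (ke xe20 ye38 ze35) (ke xe20 ye39 ze10) (ke xe20 ye39 ze13) (ke xe5 ye57 ze3) (ke xe8 ye43 ze8) (ke xe16 ye37 ze42) (ke xe20 ye39 ze19) (ke xe6 ye14 ze46) (ke xe20 ye39 ze23) (ke xe20 ye39 ze24) (ke xe20 ye39 ze27) (ke xe5 ye57 ze9) (ke xe19 ye31 ze43) (ke xe20 ye39 ze33) (ke xe20 ye39 ze35) (ke xe20 ye39 ze37) (ke xe20 ye39 ze39) (ke xe5 ye57 ze11) (ke xe20 ye39 ze43) (ke xe5 ye57 ze12) (ke xe17 ye33 ze18) (ke xe19 ye32 ze14) (ke xe12 ye31 ze16) (ke xe20 ye39 ze51) (ke xe5 ye57 ze15) (ke xe20 ye39 ze55) (ke xe5 ye57 ze16) (ke xe5 ye58 ze8) (ke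 xe13 ye1 ze21) (ke xe11 ye46 ze61) (ke xe9 ye48 ze27) (ke xe20 ye40 ze0) (ke xe5 ye57 ze20) (ke xe10 ye44 ze58) (ke xe10 ye58 ze6)) (@D3.rec (fun _ => Pt) (ke xe16 ye49 ze30) (ke xe19 ye32 ze42) (ke xe8 ye14 ze6) (ke xe19 ye40 ze16) (ke xe19 ye24 ze57) (ke xe11 ye18 ze45) (ke xe15 ye44 ze15) (ke xe17 ye31 ze55) (ke xe20 ye40 ze14) (ke xe5 ye57 ze33) (ke xe12 ye39 ze5) (ke xe6 ye6 ze34) (ke xe11 ye45 ze6) (ke xe11 ye29 ze8) (ke xe20 ye40 ze17) (ke xe20 ye40 ze18) (ke xe7 ye41 ze11) (ke xe5 ye57 ze38) (ke xe5 ye57 ze39) (ke xe12 ye41 ze7) (ke xe11 ye45 ze10) (ke xe11 ye57 ze56) (ke xe7 ye27 ze8) (ke xe12 ye32 ze26) (ke xe5 ye57 ze45) (ke xe5 ye57 ze46) (ke xe5 ye57 ze48) (ke xe18 ye15 ze36) (ke xe20 ye40 ze27) (ke xe20 ye40 ze28) (ke xe5 ye57 ze51) (ke xe11 ye58 ze28)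 (ke xe5 ye57 ze54) (ke xe11 ye41 ze41) (ke xe20 ye40 ze30) (ke xe5 ye57 ze55) (ke xe20 ye40 ze31) (ke xe11 ye38 ze27) (ke xe20 ye34 ze24) (ke xe14 ye29 ze18) (ke xe17 ye7 ze24) (ke xe14 ye33 ze31) (ke xe20 ye4 ze31) (ke xe6 ye31 ze35) (ke xe20 ye19 ze32) (ke xe11 ye58 ze6) (ke xe5 ye58 ze0) (ke xe11 ye56 ze46) (ke xe6 ye31 ze22) (ke xe16 ye54 ze34) (ke xe5 ye58 ze4) (ke xe5 ye58 ze5) (ke xe7 ye37 ze30) (ke xe20 ye39 ze56) (ke xe20 ye40 ze39) (ke xe17 ye11 ze15) (ke xe6 ye54 ze54) (ke xe12 ye50 ze7) (ke xe20 ye39 ze58) (ke xe18 ye22 ze39) (ke xe6 ye8 ze0) (ke xe20 ye40 ze24)) (@D3.rec (fun _ => Pt) (ke xe20 ye40 ze44) (ke xe20 ye40 ze45) (ke xe5 ye58 ze11) (ke xe5 ye58 ze12) (ke xe20 ye40 ze50) (ke xe17 ye12 ze16) (ke xe5 ye58 ze14) (ke xe20 ye40 ze52) (ke xe20 ye40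 ze16) (ke xe20 ye40 ze57) (ke xe20 ye40 ze58) (ke xe20 ye40 ze60) (ke xe5 ye58 ze16) (ke xe11 ye35 ze45) (ke xe20 ye41 ze2) (ke xe5 ye58 ze17) (ke xe20 ye41 ze5) (ke xe7 ye12 ze44) (ke xe5 ye58 ze19) (ke xe20 ye41 ze9) (ke xe5 ye58 ze21) (ke xe20 ye41 ze12) (ke xe5 ye58 ze22) (ke xe5 ye58 ze23) (ke xe20 ye41 ze17) (ke xe5 ye58 ze25) (ke xe20 ye41 ze23) (ke xe20 ye17 ze16) (ke xe20 ye41 ze20) (ke xe13 ye1 ze22) (ke xe5 ye58 ze35) (ke xe12 ye4 ze22) (ke xe7 ye27 ze1) (ke xe19 ye37 ze42) (ke xe15 ye54 ze34) (ke xe20 ye41 ze30) (ke xe7 ye9 ze3) (ke xe14 ye4 ze41) (ke xe10 ye45 ze16) (ke xe20 ye17 ze23) (ke xe5 ye58 ze38) (ke xe11 ye40 ze33) (ke xe20 ye41 ze40) (ke xe20 ye41 ze44) (ke xe20 ye41 ze45) (ke xe20 ye41 ze46) (ke xe5 ye58 ze39) (ke xe5 ye58 ze40) (ke xe20 ye24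 ze39) (ke xe20 ye41 ze54) (ke xe20 ye41 ze50) (ke xe11 ye30 ze18) (ke xe10 ye45 ze43) (ke xe10 ye58 ze53) (ke xe5 ye58 ze42) (ke xe10 ye59 ze52) (ke xe5 ye58 ze43) (ke xe20 ye42 ze0) (ke xe17 ye32 ze19) (ke xe5 ye58 ze49) (ke xe20 ye42 ze6) (ke xe5 ye58 ze46)) (@D3.rec (fun _ => Pt) (ke xe5 ye58 ze47) (ke xe20 ye42 ze3) (ke xe20 ye42 ze15) (ke xe20 ye42 ze16) (ke xe5 ye58 ze50) (ke xe20 ye42 ze18) (ke xe20 ye42 ze19) (ke xe20 ye42 ze20) (ke xe5 ye58 ze51) (ke xe14 ye3 ze8) (ke xe18 ye43 ze49) (ke xe5 ye58 ze53) (ke xe20 ye42 ze27) (ke xe11 ye47 ze49) (ke xe5 ye58 ze54) (ke xe13 ye1 ze25) (ke xe9 ye30 ze45) (ke xe5 ye58 ze58) (ke xe11 ye47 ze32) (ke xe19 ye40 ze10) (ke xe5 ye58 ze57) (ke xe20 ye42 ze32) (ke xe20 ye42 ze38) (ke xe5 ye58 ze59) (ke xe5 ye58 ze60) (ke xe20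 ye42 ze43) (ke xe20 ye42 ze41) (ke xe20 ye42 ze49) (ke xe20 ye21 ze40) (ke xe5 ye59 ze3) (ke xe13 ye5 ze23) (ke xe20 ye42 ze56) (ke xe20 ye42 ze60) (ke xe5 ye59 ze1) (ke xe20 ye43 ze1) (ke xe20 ye43 ze3) (ke xe5 ye59 ze2) (ke xe20 ye43 ze5) (ke xe20 ye43 ze8) (ke xe20 ye42 ze54) (ke xe13 ye2 ze61) (ke xe20 ye43 ze15) (ke xe20 ye43 ze17) (ke xe5 ye59 ze5) (ke xe20 ye15 ze23) (ke xe11 ye56 ze53) (ke xe20 ye4 ze26) (ke xe12 ye56 ze37) (ke xe5 ye59 ze17) (ke xe20 ye43 ze31) (ke xe20 ye43 ze33) (ke xe5 ye59 ze10) (ke xe20 ye43 ze34) (ke xe20 ye43 ze35) (ke xe5 ye59 ze11) (ke xe20 ye43 ze41) (ke xe10 ye59 ze4) (ke xe6 ye6 ze32) (ke xe8 ye27 ze38) (ke xe20 ye43 ze43) (ke xe20 ye3 ze53) (ke xe19 ye39 ze53)) (@D3.rec (fun _ => Pt) (ke xe17 ye32 ze33) (ke xe5 ye59 ze15) (ke xe20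 ye4 ze20) (ke xe20 ye43 ze50) (ke xe19 ye24 ze39) (ke xe20 ye43 ze25) (ke xe18 ye52 ze55) (ke xe20 ye43 ze57) (ke xe20 ye43 ze59) (ke xe20 ye43 ze61) (ke xe13 ye43 ze17) (ke xe5 ye59 ze18) (ke xe20 ye44 ze3) (ke xe5 ye59 ze19) (ke xe16 ye49 ze23) (ke xe20 ye44 ze7) (ke xe5 ye59 ze21) (ke xe14 ye33 ze16) (ke xe6 ye32 ze53) (ke xe20 ye44 ze10) (ke xe17 ye19 ze54) (ke xe20 ye44 ze20) (ke xe18 ye45 ze46) (ke xe5 ye59 ze25) (ke xe17 ye23 ze35) (ke xe14 ye19 ze54) (ke xe20 ye44 ze29) (ke xe11 ye46 ze33) (ke xe20 ye44 ze33) (ke xe20 ye44 ze25) (ke xe20 ye44 ze36) (ke xe20 ye44 ze39) (ke xe8 ye49 ze38) (ke xe5 ye59 ze27) (ke xe17 ye28 ze37) (ke xe20 ye44 ze47) (ke xe5 ye59 ze28) (ke xe17 ye13 ze8) (ke xe6 ye1 ze25) (ke xe14 ye4 ze49) (ke xe5 ye59 ze31) (ke xe7 ye21 ze2) (ke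 xe7 ye21 ze4) (ke xe20 ye9 ze32) (ke xe12 ye42 ze56) (ke xe6 ye0 ze26) (ke xe14 ye34 ze54) (ke xe20 ye44 ze57) (ke xe5 ye59 ze36) (ke xe5 ye59 ze37) (ke xe12 ye47 ze1) (ke xe20 ye44 ze61) (ke xe9 ye49 ze55) (ke xe11 ye21 ze47) (ke xe5 ye59 ze39) (ke xe5 ye59 ze40) (ke xe19 ye49 ze55) (ke xe16 ye48 ze19) (ke xe6 ye0 ze0) (ke xe20 ye45 ze7) (ke xe7 ye32 ze61) (ke xe20 ye41 ze13)) (@D3.rec (fun _ => Pt) (ke xe20 ye41 ze16) (ke xe9 ye59 ze27) (ke xe5 ye59 ze46) (ke xe20 ye45 ze12) (ke xe5 ye59 ze47) (ke xe5 ye59 ze48) (ke xe5 ye59 ze49) (ke xe12 ye37 ze15) (ke xe12 ye45 ze60) (ke xe20 ye45 ze18) (ke xe17 ye31 ze18) (ke xe11 ye15 ze8) (ke xe5 ye59 ze51) (ke xe20 ye45 ze34) (ke xe20 ye45 ze36) (ke xe5 ye59 ze55) (ke xe17 ye31 ze21) (ke xe13 ye1 ze49) (ke xe18 ye36 ze48) (ke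 xe20 ye45 ze40) (ke xe20 ye45 ze42) (ke xe18 ye45 ze23) (ke xe20 ye45 ze48) (ke xe20 ye45 ze51) (ke xe10 ye58 ze46) (ke xe14 ye10 ze56) (ke xe16 ye36 ze0) (ke xe5 ye59 ze59) (ke xe20 ye45 ze53) (ke xe20 ye13 ze56) (ke xe11 ye20 ze2) (ke xe6 ye0 ze1) (ke xe20 ye44 ze41) (ke xe17 ye31 ze28) (ke xe20 ye45 ze56) (ke xe20 ye45 ze57) (ke xe20 ye45 ze58) (ke xe6 ye0 ze3) (ke xe7 ye41 ze52) (ke xe11 ye26 ze22) (ke xe19 ye27 ze37) (ke xe6 ye0 ze5) (ke xe9 ye22 ze31) (ke xe6 ye0 ze6) (ke xe6 ye0 ze8) (ke xe19 ye23 ze57) (ke xe6 ye0 ze9) (ke xe6 ye0 ze10) (ke xe20 ye46 ze6) (ke xe6 ye45 ze48) (ke xe13 ye6 ze51) (ke xe13 ye24 ze14) (ke xe20 ye46 ze10) (ke xe6 ye0 ze15) (ke xe17 ye31 ze41) (ke xe17 ye26 ze61) (ke xe20 ye46 ze14) (ke xe12 ye41 ze14) (ke xe6 ye0 ze13) (ke xe17 ye10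 ze8) (ke xe20 ye46 ze19) (ke xe6 ye0 ze14)) (@D3.rec (fun _ => Pt) (ke xe19 ye30 ze10) (ke xe6 ye45 ze52) (ke xe20 ye46 ze22) (ke xe13 ye46 ze9) (ke xe6 ye0 ze17) (ke xe11 ye19 ze58) (ke xe11 ye40 ze12) (ke xe14 ye32 ze36) (ke xe20 ye46 ze26) (ke xe9 ye47 ze55) (ke xe11 ye40 ze20) (ke xe11 ye35 ze61) (ke xe6 ye0 ze23) (ke xe6 ye0 ze24) (ke xe20 ye46 ze31) (ke xe9 ye48 ze54) (ke xe18 ye50 ze31) (ke xe9 ye49 ze48) (ke xe18 ye24 ze36) (ke xe6 ye0 ze27) (ke xe12 ye35 ze24) (ke xe20 ye46 ze34) (ke xe20 ye46 ze35) (ke xe20 ye46 ze36) (ke xe6 ye0 ze31) (ke xe12 ye17 ze4) (ke xe20 ye46 ze40) (ke xe6 ye0 ze33) (ke xe20 ye46 ze44) (ke xe20 ye46 ze45) (ke xe17 ye23 ze21) (ke xe20 ye46 ze47) (ke xe20 ye46 ze48) (ke xe18 ye45 ze42) (ke xe20 ye46 ze54) (ke xe20 ye46 ze55) (ke xe6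 ye0 ze37) (ke xe6 ye0 ze38) (ke xe6 ye0 ze39) (ke xe6 ye0 ze40) (ke xe6 ye0 ze41) (ke xe20 ye47 ze2) (ke xe14 ye19 ze52) (ke xe20 ye46 ze60) (ke xe14 ye20 ze5) (ke xe7 ye2 ze0) (ke xe20 ye47 ze8) (ke xe6 ye0 ze44) (ke xe17 ye23 ze29) (ke xe9 ye41 ze44) (ke xe20 ye47 ze10) (ke xe20 ye47 ze14) (ke xe15 ye56 ze42) (ke xe20 ye47 ze18) (ke xe17 ye11 ze12) (ke xe13 ye20 ze15) (ke xe20 ye6 ze52) (ke xe14 ye12 ze42) (ke xe18 ye14 ze2) (ke xe6 ye0 ze47) (ke xe20 ye13 ze42) (ke xe20 ye47 ze25)) (@D3.rec (fun _ => Pt) (ke xe9 ye57 ze0) (ke xe17 ye23 ze48) (ke xe20 ye47 ze33) (ke xe20 ye47 ze35) (ke xe20 ye47 ze38) (ke xe6 ye0 ze49) (ke xe20 ye47 ze44) (ke xe20 ye47 ze46) (ke xe6 ye0 ze50) (ke xe13 ye11 ze33) (ke xe20 ye47 ze53) (ke xe6 ye0 ze60) (ke xe20 ye47 ze58) (ke xe11 ye55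 ze40) (ke xe14 ye33 ze11) (ke xe20 ye47 ze61) (ke xe13 ye7 ze31) (ke xe20 ye48 ze2) (ke xe20 ye48 ze5) (ke xe6 ye0 ze54) (ke xe17 ye23 ze61) (ke xe6 ye54 ze19) (ke xe6 ye54 ze22) (ke xe6 ye50 ze44) (ke xe6 ye54 ze28) (ke xe20 ye48 ze14) (ke xe20 ye48 ze18) (ke xe7 ye41 ze37) (ke xe6 ye0 ze58) (ke xe20 ye48 ze21) (ke xe20 ye48 ze23) (ke xe17 ye11 ze13) (ke xe6 ye0 ze59) (ke xe11 ye43 ze27) (ke xe13 ye11 ze51) (ke xe20 ye47 ze55) (ke xe20 ye48 ze33) (ke xe20 ye48 ze34) (ke xe6 ye0 ze61) (ke xe14 ye36 ze23) (ke xe20 ye48 ze40) (ke xe6 ye1 ze2) (ke xe20 ye48 ze41) (ke xe11 ye17 ze31) (ke xe20 ye46 ze28) (ke xe12 ye30 ze50) (ke xe6 ye7 ze43) (ke xe20 ye48 ze44) (ke xe17 ye26 ze45) (ke xe20 ye48 ze47) (ke xe20 ye48 ze51) (ke xe6 ye1 ze6) (ke xe13 ye7 ze36) (ke xe20 ye48 ze55)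 (ke xe20 ye48 ze57) (ke xe6 ye1 ze7) (ke xe17 ye32 ze30) (ke xe20 ye48 ze60) (ke xe11 ye14 ze59) (ke xe6 ye1 ze9) (ke xe16 ye53 ze32) (ke xe11 ye39 ze56)) (@D3.rec (fun _ => Pt) (ke xe20 ye49 ze6) (ke xe20 ye13 ze19) (ke xe7 ye22 ze50) (ke xe20 ye49 ze11) (ke xe6 ye1 ze11) (ke xe15 ye26 ze16) (ke xe6 ye31 ze30) (ke xe9 ye23 ze15) (ke xe20 ye0 ze26) (ke xe6 ye1 ze17) (ke xe7 ye44 ze13) (ke xe7 ye34 ze7) (ke xe10 ye39 ze24) (ke xe6 ye1 ze18) (ke xe20 ye13 ze24) (ke xe19 ye50 ze43) (ke xe13 ye27 ze37) (ke xe6 ye1 ze19) (ke xe20 ye44 ze42) (ke xe12 ye57 ze28) (ke xe6 ye43 ze20) (ke xe7 ye39 ze27) (ke xe13 ye7 ze59) (ke xe13 ye27 ze45) (ke xe19 ye10 ze34) (ke xe6 ye1 ze23) (ke xe19 ye37 ze24) (ke xe20 ye49 ze30) (ke xe7 ye15 ze2) (ke xe6 ye1 ze27) (ke xe17 ye32 ze11) (ke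 xe20 ye17 ze41) (ke xe11 ye42 ze18) (ke xe20 ye49 ze43) (ke xe20 ye49 ze44) (ke xe6 ye1 ze29) (ke xe12 ye24 ze48) (ke xe20 ye17 ze58) (ke xe10 ye44 ze34) (ke xe20 ye49 ze51) (ke xe20 ye49 ze52) (ke xe6 ye1 ze31) (ke xe17 ye32 ze48) (ke xe19 ye53 ze23) (ke xe20 ye49 ze60) (ke xe6 ye1 ze33) (ke xe20 ye50 ze3) (ke xe20 ye50 ze4) (ke xe6 ye1 ze34) (ke xe11 ye42 ze13) (ke xe8 ye58 ze53) (ke xe6 ye30 ze55) (ke xe20 ye50 ze14) (ke xe15 ye58 ze36) (ke xe6 ye1 ze36) (ke xe19 ye19 ze50) (ke xe20 ye50 ze20) (ke xe6 ye1 ze37) (ke xe20 ye50 ze24) (ke xe20 ye50 ze28) (ke xe15 ye32 ze59) (ke xe20 ye50 ze33)) (@D3.rec (fun _ => Pt) (ke xe20 ye50 ze35) (ke xe20 ye50 ze37) (ke xe6 ye1 ze39) (ke xe20 ye11 ze37) (ke xe6 ye1 ze41) (ke xe9 ye4 ze53) (ke xe10 ye44 ze16) (ke xe20 ye25 ze49)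 (ke xe6 ye16 ze19) (ke xe6 ye1 ze46) (ke xe13 ye16 ze35) (ke xe17 ye6 ze21) (ke xe12 ye30 ze26) (ke xe6 ye1 ze49) (ke xe14 ye13 ze40) (ke xe6 ye1 ze50) (ke xe11 ye1 ze31) (ke xe10 ye4 ze37) (ke xe20 ye50 ze51) (ke xe17 ye7 ze51) (ke xe9 ye45 ze31) (ke xe20 ye50 ze53) (ke xe11 ye0 ze25) (ke xe20 ye50 ze55) (ke xe6 ye1 ze54) (ke xe10 ye44 ze21) (ke xe11 ye55 ze58) (ke xe6 ye1 ze57) (ke xe20 ye50 ze56) (ke xe19 ye50 ze37) (ke xe18 ye48 ze46) (ke xe11 ye22 ze8) (ke xe20 ye51 ze0) (ke xe19 ye21 ze21) (ke xe7 ye1 ze31) (ke xe20 ye51 ze5) (ke xe6 ye1 ze61) (ke xe20 ye51 ze9) (ke xe11 ye21 ze44) (ke xe11 ye21 ze60) (ke xe11 ye21 ze58) (ke xe6 ye2 ze2) (ke xe7 ye59 ze49) (ke xe11 ye25 ze22) (ke xe6 ye2 ze7) (ke xe17 ye15 ze53) (ke xe19 ye48 ze47) (ke xe11 ye22 ze19) (ke xe18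 ye0 ze17) (ke xe6 ye2 ze11) (ke xe6 ye2 ze12) (ke xe17 ye8 ze12) (ke xe17 ye48 ze25) (ke xe17 ye7 ze19) (ke xe9 ye15 ze14) (ke xe14 ye35 ze54) (ke xe20 ye51 ze23) (ke xe20 ye51 ze24) (ke xe6 ye2 ze17) (ke xe6 ye34 ze28) (ke xe18 ye17 ze47) (ke xe6 ye2 ze20)) (@D3.rec (fun _ => Pt) (ke xe20 ye51 ze32) (ke xe20 ye51 ze33) (ke xe6 ye2 ze21) (ke xe18 ye57 ze53) (ke xe6 ye35 ze26) (ke xe6 ye40 ze47) (ke xe20 ye51 ze37) (ke xe20 ye51 ze40) (ke xe6 ye2 ze23) (ke xe20 ye51 ze41) (ke xe6 ye2 ze24) (ke xe15 ye25 ze56) (ke xe20 ye51 ze46) (ke xe15 ye25 ze25) (ke xe14 ye35 ze47) (ke xe20 ye51 ze49) (ke xe6 ye2 ze27) (ke xe9 ye4 ze13) (ke xe11 ye56 ze35) (ke xe14 ye35 ze61) (ke xe9 ye10 ze11) (ke xe6 ye49 ze32) (ke xe20 ye51 ze52) (ke xe6 ye2 ze33) (ke xe6 ye2 ze35) (ke xe6 ye25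 ze18) (ke xe9 ye5 ze1) (ke xe7 ye2 ze6) (ke xe9 ye7 ze30) (ke xe10 ye6 ze0) (ke xe6 ye2 ze40) (ke xe11 ye14 ze27) (ke xe11 ye25 ze9) (ke xe10 ye4 ze25) (ke xe6 ye8 ze55) (ke xe11 ye21 ze43) (ke xe17 ye3 ze6) (ke xe6 ye25 ze26) (ke xe10 ye48 ze5) (ke xe20 ye51 ze60) (ke xe6 ye2 ze47) (ke xe6 ye2 ze48) (ke xe20 ye7 ze16) (ke xe11 ye28 ze29) (ke xe9 ye8 ze16) (ke xe16 ye53 ze21) (ke xe16 ye53 ze22) (ke xe19 ye27 ze46) (ke xe20 ye52 ze4) (ke xe16 ye53 ze17) (ke xe7 ye0 ze40) (ke xe13 ye1 ze38) (ke xe20 ye52 ze5) (ke xe6 ye2 ze58) (ke xe20 ye52 ze6) (ke xe15 ye49 ze17) (ke xe19 ye43 ze31) (ke xe19 ye43 ze32) (ke xe16 ye47 ze35) (ke xe11 ye12 ze48) (ke xe19 ye43 ze15) (ke xe12 ye31 ze55)) (@D3.rec (fun _ => Pt) (ke xe9 ye5 ze44) (ke xe17 ye33 ze19) (ke xe20 ye52 ze10) (ke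 xe20 ye36 ze1) (ke xe20 ye11 ze36) (ke xe6 ye34 ze35) (ke xe9 ye32 ze13) (ke xe20 ye6 ze55) (ke xe16 ye25 ze36) (ke xe20 ye52 ze19) (ke xe17 ye12 ze48) (ke xe6 ye3 ze12) (ke xe20 ye10 ze31) (ke xe11 ye39 ze1) (ke xe20 ye52 ze29) (ke xe6 ye3 ze14) (ke xe8 ye29 ze28) (ke xe20 ye52 ze34) (ke xe20 ye52 ze38) (ke xe20 ye52 ze40) (ke xe6 ye3 ze15) (ke xe6 ye3 ze19) (ke xe11 ye21 ze35) (ke xe6 ye3 ze17) (ke xe11 ye57 ze26) (ke xe17 ye5 ze18) (ke xe19 ye43 ze9) (ke xe19 ye20 ze59) (ke xe19 ye43 ze20) (ke xe6 ye3 ze21) (ke xe10 ye4 ze28) (ke xe13 ye41 ze29) (ke xe20 ye52 ze47) (ke xe6 ye3 ze24) (ke xe10 ye49 ze17) (ke xe20 ye52 ze52) (ke xe6 ye3 ze26) (ke xe13 ye23 ze38) (ke xe6 ye3 ze27) (ke xe17 ye33 ze8) (ke xe19 ye58 ze44) (ke xe17 ye8 ze34) (ke xe12 ye15 ze52) (ke xe9 ye40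 ze36) (ke xe20 ye16 ze28) (ke xe6 ye3 ze31) (ke xe20 ye52 ze61) (ke xe6 ye3 ze36) (ke xe18 ye17 ze29) (ke xe6 ye45 ze31) (ke xe6 ye43 ze5) (ke xe6 ye3 ze38) (ke xe20 ye53 ze2) (ke xe6 ye3 ze41) (ke xe20 ye53 ze10) (ke xe19 ye52 ze50) (ke xe17 ye8 ze46) (ke xe20 ye49 ze4) (ke xe15 ye25 ze29) (ke xe20 ye53 ze13) (ke xe6 ye3 ze43) (ke xe12 ye17 ze12)) (@D3.rec (fun _ => Pt) (ke xe10 ye0 ze29) (ke xe12 ye59 ze30) (ke xe8 ye59 ze30) (ke xe12 ye17 ze10) (ke xe18 ye42 ze13) (ke xe6 ye29 ze1) (ke xe16 ye11 ze32) (ke xe20 ye53 ze23) (ke xe20 ye53 ze24) (ke xe20 ye53 ze27) (ke xe6 ye3 ze48) (ke xe20 ye53 ze29) (ke xe6 ye3 ze50) (ke xe11 ye31 ze28) (ke xe12 ye43 ze3) (ke xe12 ye15 ze25) (ke xe18 ye35 ze5) (ke xe6 ye3 ze52) (ke xe11 ye15 ze3) (ke xe20 ye53 ze34) (ke xe17 ye33 ze49)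 (ke xe20 ye53 ze38) (ke xe20 ye53 ze42) (ke xe6 ye3 ze55) (ke xe9 ye57 ze14) (ke xe15 ye48 ze29) (ke xe8 ye10 ze57) (ke xe19 ye7 ze42) (ke xe9 ye42 ze18) (ke xe20 ye53 ze49) (ke xe20 ye53 ze54) (ke xe20 ye53 ze57) (ke xe6 ye3 ze59) (ke xe20 ye53 ze60) (ke xe15 ye48 ze37) (ke xe6 ye3 ze60) (ke xe20 ye54 ze2) (ke xe8 ye24 ze24) (ke xe20 ye54 ze5) (ke xe20 ye54 ze8) (ke xe6 ye4 ze0) (ke xe6 ye20 ze35) (ke xe17 ye52 ze15) (ke xe20 ye54 ze15) (ke xe20 ye54 ze16) (ke xe6 ye4 ze2) (ke xe11 ye7 ze60) (ke xe10 ye48 ze52) (ke xe16 ye58 ze5) (ke xe20 ye51 ze42) (ke xe20 ye54 ze29) (ke xe6 ye4 ze4) (ke xe19 ye57 ze40) (ke xe9 ye0 ze27) (ke xe20 ye54 ze32) (ke xe6 ye4 ze11) (ke xe11 ye57 ze33) (ke xe10 ye52 ze60) (ke xe9 ye51 ze14) (ke xe9 ye49 ze5) (ke xe20 ye54 ze40) (ke xe20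 ye54 ze41)) (@D3.rec (fun _ => Pt) (ke xe6 ye4 ze16) (ke xe20 ye54 ze46) (ke xe20 ye54 ze47) (ke xe6 ye4 ze17) (ke xe6 ye4 ze19) (ke xe6 ye4 ze20) (ke xe20 ye54 ze54) (ke xe12 ye27 ze2) (ke xe10 ye32 ze49) (ke xe14 ye40 ze9) (ke xe20 ye54 ze58) (ke xe6 ye4 ze22) (ke xe20 ye54 ze60) (ke xe8 ye54 ze2) (ke xe10 ye40 ze16) (ke xe20 ye55 ze2) (ke xe20 ye55 ze3) (ke xe6 ye4 ze24) (ke xe8 ye53 ze26) (ke xe6 ye4 ze44) (ke xe20 ye55 ze8) (ke xe6 ye4 ze26) (ke xe15 ye42 ze10) (ke xe6 ye5 ze8) (ke xe20 ye55 ze18) (ke xe20 ye55 ze19) (ke xe6 ye4 ze28) (ke xe20 ye55 ze21) (ke xe20 ye55 ze22) (ke xe6 ye4 ze29) (ke xe20 ye55 ze29) (ke xe20 ye55 ze34) (ke xe8 ye53 ze9) (ke xe20 ye55 ze39) (ke xe20 ye55 ze40) (ke xe20 ye55 ze42) (ke xe20 ye55 ze43) (ke xe6 ye4 ze31) (ke xe6 ye4 ze32)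 (ke xe15 ye2 ze0) (ke xe20 ye55 ze49) (ke xe6 ye4 ze34) (ke xe8 ye53 ze18) (ke xe10 ye46 ze34) (ke xe20 ye55 ze54) (ke xe6 ye4 ze36) (ke xe8 ye20 ze27) (ke xe15 ye16 ze24) (ke xe16 ye48 ze5) (ke xe6 ye4 ze38) (ke xe20 ye56 ze2) (ke xe6 ye4 ze39) (ke xe16 ye38 ze4) (ke xe20 ye56 ze4) (ke xe6 ye4 ze40) (ke xe8 ye53 ze44) (ke xe20 ye56 ze11) (ke xe20 ye56 ze7) (ke xe19 ye54 ze55) (ke xe8 ye53 ze48) (ke xe19 ye53 ze36) (ke xe20 ye2 ze19)) (@D3.rec (fun _ => Pt) (ke xe6 ye4 ze48) (ke xe20 ye56 ze18) (ke xe20 ye56 ze20) (ke xe20 ye56 ze21) (ke xe6 ye4 ze50) (ke xe6 ye4 ze51) (ke xe20 ye56 ze32) (ke xe20 ye56 ze28) (ke xe10 ye40 ze18) (ke xe10 ye47 ze53) (ke xe8 ye7 ze14) (ke xe6 ye4 ze56) (ke xe8 ye8 ze38) (ke xe20 ye56 ze46) (ke xe10 ye35 ze15) (ke xe16 ye39 ze24) (ke xe6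 ye4 ze58) (ke xe8 ye54 ze16) (ke xe8 ye54 ze42) (ke xe20 ye56 ze56) (ke xe19 ye14 ze4) (ke xe10 ye37 ze8) (ke xe8 ye54 ze47) (ke xe10 ye33 ze61) (ke xe20 ye57 ze1) (ke xe6 ye5 ze0) (ke xe20 ye57 ze2) (ke xe8 ye2 ze56) (ke xe8 ye6 ze54) (ke xe8 ye54 ze35) (ke xe20 ye57 ze5) (ke xe20 ye57 ze6) (ke xe20 ye57 ze7) (ke xe6 ye5 ze3) (ke xe6 ye5 ze4) (ke xe20 ye57 ze16) (ke xe8 ye54 ze25) (ke xe20 ye57 ze13) (ke xe20 ye55 ze12) (ke xe20 ye57 ze22) (ke xe6 ye5 ze6) (ke xe8 ye54 ze29) (ke xe20 ye57 ze26) (ke xe8 ye54 ze50) (ke xe20 ye57 ze29) (ke xe6 ye5 ze9) (ke xe16 ye41 ze28) (ke xe6 ye5 ze10) (ke xe20 ye57 ze37) (ke xe20 ye55 ze23) (ke xe8 ye54 ze57) (ke xe16 ye41 ze60) (ke xe20 ye57 ze43) (ke xe20 ye57 ze47) (ke xe20 ye57 ze50) (ke xe6 ye5 ze12) (ke xe6 ye5 ze13) (ke xe20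 ye57 ze55) (ke xe20 ye55 ze20) (ke xe20 ye57 ze59) (ke xe20 ye57 ze60) (ke xe20 ye58 ze0)) (@D3.rec (fun _ => Pt) (ke xe20 ye58 ze2) (ke xe20 ye58 ze3) (ke xe6 ye5 ze15) (ke xe17 ye6 ze59) (ke xe9 ye6 ze13) (ke xe6 ye5 ze16) (ke xe20 ye58 ze8) (ke xe20 ye58 ze10) (ke xe20 ye58 ze11) (ke xe20 ye58 ze16) (ke xe6 ye5 ze18) (ke xe16 ye40 ze51) (ke xe6 ye5 ze19) (ke xe11 ye39 ze14) (ke xe6 ye5 ze20) (ke xe20 ye58 ze27) (ke xe6 ye5 ze21) (ke xe20 ye58 ze35) (ke xe6 ye5 ze22) (ke xe20 ye58 ze40) (ke xe20 ye58 ze42) (ke xe20 ye58 ze43) (ke xe6 ye5 ze24) (ke xe20 ye58 ze47) (ke xe20 ye58 ze50) (ke xe16 ye40 ze49) (ke xe20 ye58 ze54) (ke xe20 ye58 ze57) (ke xe6 ye5 ze26) (ke xe18 ye49 ze28) (ke xe10 ye29 ze35) (ke xe20 ye59 ze2) (ke xe6 ye5 ze28) (ke xe10 ye51 ze40) (ke xe20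 ye59 ze7) (ke xe10 ye51 ze25) (ke xe17 ye58 ze51) (ke xe20 ye59 ze11) (ke xe6 ye5 ze31) (ke xe8 ye55 ze61) (ke xe19 ye53 ze45) (ke xe20 ye59 ze14) (ke xe10 ye43 ze42) (ke xe8 ye56 ze3) (ke xe19 ye53 ze43) (ke xe10 ye53 ze1) (ke xe20 ye59 ze25) (ke xe20 ye59 ze27) (ke xe6 ye5 ze37) (ke xe10 ye52 ze51) (ke xe10 ye52 ze52) (ke xe12 ye17 ze5) (ke xe11 ye31 ze15) (ke xe20 ye59 ze31) (ke xe8 ye56 ze21) (ke xe20 ye59 ze35) (ke xe6 ye5 ze42) (ke xe18 ye4 ze17) (ke xe6 ye5 ze44) (ke xe10 ye7 ze26) (ke xe14 ye29 ze23) (ke xe9 ye24 ze2)) (@D3.rec (fun _ => Pt) (ke xe19 ye22 ze44) (ke xe20 ye59 ze46) (ke xe20 ye59 ze48) (ke xe20 ye59 ze50) (ke xe6 ye5 ze48) (ke xe17 ye25 ze22) (ke xe20 ye59 ze55) (ke xe6 ye5 ze49) (ke xe10 ye46 ze53) (ke xe20 ye59 ze56) (ke xe10 ye43 ze8) (ke xe10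 ye46 ze26) (ke xe20 ye29 ze3) (ke xe21 ye0 ze6) (ke xe20 ye8 ze26) (ke xe6 ye5 ze54) (ke xe6 ye5 ze55) (ke xe10 ye49 ze25) (ke xe10 ye48 ze7) (ke xe6 ye8 ze31) (ke xe16 ye45 ze26) (ke xe6 ye5 ze59) (ke xe21 ye0 ze16) (ke xe21 ye0 ze18) (ke xe6 ye5 ze60) (ke xe6 ye5 ze61) (ke xe10 ye56 ze0) (ke xe21 ye0 ze24) (ke xe15 ye58 ze56) (ke xe10 ye44 ze42) (ke xe8 ye3 ze1) (ke xe10 ye56 ze4) (ke xe10 ye44 ze8) (ke xe19 ye15 ze5) (ke xe21 ye0 ze29) (ke xe6 ye6 ze2) (ke xe21 ye0 ze30) (ke xe21 ye0 ze33) (ke xe6 ye6 ze4) (ke xe8 ye57 ze23) (ke xe11 ye46 ze13) (ke xe6 ye6 ze6) (ke xe10 ye57 ze5) (ke xe21 ye0 ze39) (ke xe13 ye11 ze1) (ke xe6 ye6 ze12) (ke xe8 ye58 ze9) (ke xe20 ye5 ze22) (ke xe12 ye58 ze9) (ke xe18 ye32 ze8) (ke xe8 ye58 ze12) (ke xe10 ye44 ze27) (ke xe6 ye41 ze23)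 (ke xe8 ye26 ze24) (ke xe19 ye4 ze22) (ke xe6 ye6 ze17) (ke xe21 ye0 ze50) (ke xe11 ye32 ze4) (ke xe11 ye48 ze26) (ke xe6 ye6 ze19) (ke xe12 ye33 ze38) (ke xe10 ye44 ze6)) (@D3.rec (fun _ => Pt) (ke xe21 ye0 ze52) (ke xe6 ye6 ze21) (ke xe10 ye53 ze35) (ke xe8 ye57 ze61) (ke xe8 ye58 ze0) (ke xe21 ye0 ze56) (ke xe21 ye0 ze58) (ke xe6 ye6 ze25) (ke xe8 ye57 ze38) (ke xe12 ye50 ze9) (ke xe8 ye58 ze18) (ke xe8 ye58 ze19) (ke xe20 ye43 ze39) (ke xe21 ye1 ze1) (ke xe8 ye8 ze55) (ke xe15 ye57 ze19) (ke xe6 ye6 ze33) (ke xe20 ye7 ze11) (ke xe17 ye56 ze43) (ke xe8 ye58 ze36) (ke xe20 ye35 ze21) (ke xe8 ye58 ze44) (ke xe21 ye1 ze12) (ke xe21 ye1 ze16) (ke xe6 ye6 ze40) (ke xe20 ye39 ze1) (ke xe21 ye1 ze19) (ke xe8 ye58 ze60) (ke xe21 ye1 ze22) (ke xe21 ye1 ze25) (ke xe6 ye6 ze42)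 (ke xe17 ye2 ze19) (ke xe21 ye1 ze28) (ke xe21 ye1 ze30) (ke xe6 ye6 ze45) (ke xe11 ye49 ze18) (ke xe9 ye48 ze26) (ke xe17 ye45 ze1) (ke xe11 ye30 ze25) (ke xe21 ye1 ze35) (ke xe6 ye6 ze48) (ke xe16 ye55 ze45) (ke xe21 ye1 ze39) (ke xe17 ye7 ze1) (ke xe11 ye29 ze11) (ke xe6 ye7 ze20) (ke xe11 ye40 ze47) (ke xe6 ye6 ze54) (ke xe21 ye1 ze44) (ke xe6 ye6 ze57) (ke xe11 ye9 ze20) (ke xe21 ye1 ze48) (ke xe11 ye9 ze15) (ke xe11 ye42 ze45) (ke xe15 ye58 ze45) (ke xe6 ye6 ze59) (ke xe6 ye6 ze60) (ke xe8 ye7 ze36) (ke xe21 ye1 ze59) (ke xe21 ye1 ze55) (ke xe11 ye5 ze34) (ke xe8 ye9 ze51)) (@D3.rec (fun _ => Pt) (ke xe8 ye9 ze52) (ke xe21 ye2 ze1) (ke xe21 ye2 ze4) (ke xe6 ye7 ze1) (ke xe21 ye2 ze7) (ke xe6 ye7 ze3) (ke xe11 ye10 ze18) (ke xe11 ye10 ze19) (ke xe9 ye0 ze2) (ke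 xe8 ye11 ze23) (ke xe17 ye52 ze38) (ke xe17 ye14 ze8) (ke xe6 ye7 ze8) (ke xe21 ye2 ze12) (ke xe21 ye2 ze14) (ke xe21 ye2 ze16) (ke xe21 ye2 ze18) (ke xe6 ye7 ze12) (ke xe6 ye7 ze13) (ke xe11 ye3 ze33) (ke xe21 ye2 ze22) (ke xe15 ye29 ze44) (ke xe21 ye2 ze32) (ke xe6 ye7 ze17) (ke xe6 ye7 ze18) (ke xe11 ye5 ze47) (ke xe11 ye50 ze24) (ke xe9 ye9 ze12) (ke xe8 ye11 ze15) (ke xe9 ye41 ze18) (ke xe11 ye4 ze45) (ke xe19 ye33 ze24) (ke xe11 ye10 ze39) (ke xe11 ye51 ze56) (ke xe9 ye1 ze20) (ke xe12 ye2 ze12) (ke xe21 ye2 ze37) (ke xe6 ye7 ze31) (ke xe6 ye7 ze33) (ke xe21 ye2 ze39) (ke xe21 ye2 ze42) (ke xe6 ye7 ze35) (ke xe6 ye7 ze36) (ke xe6 ye7 ze37) (ke xe9 ye4 ze44) (ke xe13 ye26 ze36) (ke xe20 ye36 ze4) (ke xe6 ye7 ze41) (ke xe21 ye2 ze51) (ke xe21 ye2 ze56) (ke xe21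 ye2 ze58) (ke xe6 ye25 ze61) (ke xe12 ye17 ze21) (ke xe6 ye7 ze45) (ke xe6 ye25 ze23) (ke xe21 ye2 ze61) (ke xe11 ye40 ze21) (ke xe17 ye6 ze39) (ke xe6 ye7 ze52) (ke xe6 ye7 ze54) (ke xe12 ye44 ze14) (ke xe6 ye7 ze56)) (@D3.rec (fun _ => Pt) (ke xe14 ye33 ze22) (ke xe6 ye7 ze58) (ke xe7 ye26 ze49) (ke xe6 ye7 ze61) (ke xe20 ye23 ze0) (ke xe21 ye3 ze8) (ke xe11 ye40 ze45) (ke xe14 ye33 ze10) (ke xe7 ye27 ze25) (ke xe10 ye6 ze58) (ke xe10 ye7 ze17) (ke xe19 ye34 ze11) (ke xe6 ye8 ze4) (ke xe9 ye47 ze61) (ke xe12 ye24 ze54) (ke xe21 ye3 ze15) (ke xe6 ye8 ze6) (ke xe6 ye44 ze34) (ke xe6 ye8 ze9) (ke xe12 ye31 ze2) (ke xe21 ye3 ze17) (ke xe6 ye25 ze27) (ke xe6 ye8 ze12) (ke xe21 ye3 ze19) (ke xe6 ye8 ze15) (ke xe12 ye31 ze15) (ke xe6 ye8 ze17) (ke xe18 ye32 ze31) (ke xe11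 ye40 ze31) (ke xe11 ye31 ze11) (ke xe6 ye8 ze26) (ke xe6 ye8 ze20) (ke xe10 ye6 ze55) (ke xe10 ye45 ze48) (ke xe10 ye45 ze45) (ke xe10 ye4 ze33) (ke xe10 ye45 ze53) (ke xe11 ye31 ze24) (ke xe19 ye49 ze1) (ke xe10 ye48 ze16) (ke xe6 ye8 ze34) (ke xe17 ye23 ze41) (ke xe21 ye3 ze24) (ke xe8 ye12 ze38) (ke xe21 ye3 ze27) (ke xe6 ye8 ze37) (ke xe21 ye3 ze32) (ke xe21 ye3 ze33) (ke xe6 ye8 ze41) (ke xe17 ye11 ze21) (ke xe7 ye35 ze46) (ke xe21 ye3 ze39) (ke xe21 ye3 ze40) (ke xe10 ye59 ze54) (ke xe6 ye8 ze40) (ke xe21 ye3 ze43) (ke xe21 ye3 ze36) (ke xe21 ye3 ze46) (ke xe12 ye35 ze2) (ke xe14 ye52 ze49) (ke xe10 ye34 ze15) (ke xe18 ye24 ze11)) (@D3.rec (fun _ => Pt) (ke xe6 ye8 ze47) (ke xe21 ye3 ze53) (ke xe10 ye32 ze0) (ke xe6 ye8 ze48) (ke xe18 ye22 ze40) (ke xe6 ye8 ze49)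 (ke xe17 ye12 ze25) (ke xe21 ye3 ze57) (ke xe6 ye47 ze28) (ke xe6 ye8 ze58) (ke xe18 ye21 ze5) (ke xe21 ye4 ze1) (ke xe6 ye8 ze59) (ke xe6 ye8 ze61) (ke xe9 ye2 ze17) (ke xe21 ye3 ze22) (ke xe16 ye35 ze39) (ke xe9 ye47 ze48) (ke xe6 ye9 ze6) (ke xe11 ye21 ze57) (ke xe11 ye23 ze53) (ke xe21 ye4 ze4) (ke xe21 ye4 ze7) (ke xe17 ye12 ze36) (ke xe20 ye36 ze23) (ke xe6 ye9 ze9) (ke xe9 ye1 ze36) (ke xe21 ye4 ze9) (ke xe8 ye49 ze24) (ke xe13 ye32 ze5) (ke xe6 ye9 ze11) (ke xe19 ye0 ze33) (ke xe21 ye4 ze15) (ke xe6 ye9 ze12) (ke xe21 ye4 ze16) (ke xe21 ye4 ze18) (ke xe6 ye9 ze16) (ke xe21 ye4 ze19) (ke xe6 ye9 ze15) (ke xe19 ye37 ze46) (ke xe6 ye9 ze17) (ke xe10 ye19 ze51) (ke xe12 ye49 ze6) (ke xe6 ye9 ze20) (ke xe10 ye29 ze23) (ke xe6 ye9 ze22) (ke xe9 ye52 ze50) (ke xe14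 ye33 ze2) (ke xe6 ye9 ze23) (ke xe11 ye10 ze47) (ke xe20 ye4 ze3) (ke xe6 ye9 ze25) (ke xe16 ye18 ze1) (ke xe12 ye35 ze50) (ke xe12 ye50 ze23) (ke xe18 ye6 ze2) (ke xe15 ye14 ze49) (ke xe21 ye4 ze38) (ke xe6 ye9 ze27) (ke xe17 ye14 ze6) (ke xe21 ye4 ze45) (ke xe6 ye9 ze28))
def f_e_12 : D2 → D3 → Pt := @D2.rec (fun _ => D3 → Pt) (@D3.rec (fun _ => Pt) (ke xe21 ye4 ze49) (ke xe21 ye4 ze52) (ke xe6 ye9 ze29) (ke xe21 ye4 ze53) (ke xe7 ye31 ze12) (ke xe12 ye36 ze49) (ke xe17 ye17 ze17) (ke xe8 ye17 ze27) (ke xe12 ye51 ze29) (ke xe21 ye5 ze2) (ke xe12 ye33 ze52) (ke xe8 ye18 ze46) (ke xe15 ye46 ze50) (ke xe21 ye5 ze10) (ke xe21 ye5 ze11) (ke xe6 ye9 ze37) (ke xe9 ye21 ze16) (ke xe6 ye9 ze61) (ke xe12 ye20 ze57) (ke xe19 ye37 ze59) (ke xe9 ye33 ze39) (ke xe10 ye51 ze33)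 (ke xe6 ye9 ze41) (ke xe15 ye40 ze47) (ke xe21 ye5 ze27) (ke xe17 ye10 ze25) (ke xe12 ye52 ze29) (ke xe14 ye31 ze33) (ke xe8 ye17 ze18) (ke xe16 ye2 ze14) (ke xe6 ye9 ze44) (ke xe21 ye5 ze40) (ke xe6 ye9 ze45) (ke xe21 ye5 ze44) (ke xe21 ye5 ze47) (ke xe6 ye9 ze46) (ke xe21 ye5 ze49) (ke xe7 ye32 ze1) (ke xe6 ye9 ze48) (ke xe17 ye16 ze39) (ke xe6 ye10 ze39) (ke xe6 ye10 ze15) (ke xe6 ye24 ze9) (ke xe6 ye9 ze54) (ke xe21 ye5 ze54) (ke xe12 ye21 ze34) (ke xe6 ye38 ze0) (ke xe12 ye39 ze2) (ke xe21 ye6 ze2) (ke xe21 ye5 ze16) (ke xe12 ye50 ze51) (ke xe21 ye6 ze9) (ke xe21 ye6 ze14) (ke xe7 ye30 ze10) (ke xe12 ye40 ze29) (ke xe21 ye6 ze21) (ke xe16 ye6 ze0) (ke xe21 ye6 ze23) (ke xe21 ye6 ze25) (ke xe6 ye10 ze2) (ke xe21 ye6 ze32) (ke xe6 ye10 ze4)) (@D3.rec (fun _ => Pt)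 (ke xe6 ye22 ze37) (ke xe21 ye6 ze37) (ke xe15 ye41 ze40) (ke xe12 ye42 ze5) (ke xe21 ye6 ze43) (ke xe21 ye6 ze45) (ke xe7 ye24 ze35) (ke xe6 ye10 ze7) (ke xe16 ye59 ze44) (ke xe7 ye31 ze59) (ke xe6 ye10 ze8) (ke xe21 ye6 ze51) (ke xe14 ye23 ze33) (ke xe6 ye10 ze9) (ke xe11 ye38 ze55) (ke xe6 ye10 ze10) (ke xe6 ye10 ze11) (ke xe21 ye6 ze54) (ke xe21 ye5 ze52) (ke xe21 ye6 ze56) (ke xe6 ye19 ze27) (ke xe6 ye10 ze16) (ke xe21 ye6 ze57) (ke xe17 ye52 ze5) (ke xe6 ye10 ze17) (ke xe6 ye34 ze48) (ke xe6 ye11 ze35) (ke xe21 ye6 ze58) (ke xe6 ye10 ze21) (ke xe18 ye22 ze38) (ke xe18 ye50 ze29) (ke xe6 ye10 ze24) (ke xe10 ye6 ze27) (ke xe18 ye38 ze1) (ke xe18 ye36 ze38) (ke xe6 ye10 ze29) (ke xe6 ye10 ze30) (ke xe6 ye10 ze31) (ke xe6 ye10 ze32) (ke xe21 ye7 ze4) (ke xe21 ye7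 ze6) (ke xe18 ye7 ze21) (ke xe6 ye18 ze23) (ke xe6 ye10 ze35) (ke xe6 ye35 ze10) (ke xe21 ye7 ze11) (ke xe13 ye0 ze15) (ke xe9 ye53 ze28) (ke xe21 ye7 ze13) (ke xe21 ye7 ze15) (ke xe21 ye7 ze17) (ke xe6 ye10 ze37) (ke xe21 ye5 ze51) (ke xe21 ye5 ze53) (ke xe18 ye35 ze46) (ke xe18 ye35 ze52) (ke xe6 ye10 ze41) (ke xe16 ye59 ze32) (ke xe12 ye15 ze51) (ke xe6 ye38 ze19) (ke xe6 ye10 ze46) (ke xe6 ye39 ze39)) (@D3.rec (fun _ => Pt) (ke xe21 ye7 ze24) (ke xe18 ye38 ze25) (ke xe10 ye0 ze28) (ke xe12 ye14 ze45) (ke xe21 ye7 ze28) (ke xe6 ye10 ze49) (ke xe6 ye39 ze43) (ke xe12 ye42 ze36) (ke xe16 ye18 ze23) (ke xe17 ye5 ze47) (ke xe18 ye43 ze44) (ke xe6 ye10 ze53) (ke xe11 ye57 ze35) (ke xe6 ye10 ze55) (ke xe17 ye6 ze12) (ke xe21 ye7 ze39) (ke xe17 ye3 ze4) (ke xe6 ye10 ze57)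 (ke xe18 ye43 ze40) (ke xe19 ye58 ze40) (ke xe6 ye10 ze61) (ke xe10 ye6 ze35) (ke xe21 ye7 ze46) (ke xe6 ye10 ze59) (ke xe18 ye50 ze43) (ke xe21 ye7 ze47) (ke xe6 ye10 ze60) (ke xe21 ye7 ze48) (ke xe13 ye30 ze14) (ke xe6 ye11 ze1) (ke xe18 ye32 ze7) (ke xe6 ye11 ze2) (ke xe21 ye7 ze56) (ke xe6 ye11 ze11) (ke xe21 ye7 ze60) (ke xe6 ye11 ze6) (ke xe6 ye11 ze7) (ke xe12 ye41 ze59) (ke xe18 ye41 ze52) (ke xe12 ye12 ze40) (ke xe12 ye46 ze12) (ke xe10 ye2 ze33) (ke xe6 ye58 ze11) (ke xe9 ye59 ze17) (ke xe17 ye11 ze51) (ke xe6 ye48 ze61) (ke xe6 ye11 ze13) (ke xe12 ye42 ze15) (ke xe6 ye11 ze14) (ke xe7 ye31 ze40) (ke xe12 ye13 ze0) (ke xe21 ye8 ze7) (ke xe6 ye11 ze17) (ke xe14 ye11 ze53) (ke xe21 ye8 ze8) (ke xe12 ye6 ze11) (ke xe12 ye41 ze36) (ke xe6 ye18 ze28) (ke xe8 ye22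 ze60) (ke xe20 ye46 ze32) (ke xe21 ye8 ze10) (ke xe6 ye11 ze29)) (@D3.rec (fun _ => Pt) (ke xe21 ye8 ze15) (ke xe6 ye11 ze30) (ke xe12 ye28 ze52) (ke xe21 ye8 ze17) (ke xe12 ye29 ze37) (ke xe9 ye49 ze54) (ke xe8 ye48 ze15) (ke xe12 ye16 ze59) (ke xe6 ye41 ze13) (ke xe9 ye49 ze51) (ke xe17 ye29 ze20) (ke xe6 ye11 ze39) (ke xe21 ye8 ze27) (ke xe14 ye34 ze53) (ke xe6 ye11 ze40) (ke xe21 ye8 ze29) (ke xe6 ye11 ze41) (ke xe6 ye27 ze51) (ke xe16 ye5 ze50) (ke xe6 ye11 ze48) (ke xe16 ye50 ze23) (ke xe13 ye54 ze17) (ke xe21 ye8 ze42) (ke xe15 ye46 ze51) (ke xe21 ye8 ze47) (ke xe6 ye11 ze47) (ke xe21 ye8 ze52) (ke xe21 ye8 ze54) (ke xe21 ye8 ze35) (ke xe21 ye8 ze59) (ke xe6 ye11 ze49) (ke xe11 ye22 ze34) (ke xe9 ye4 ze61) (ke xe21 ye9 ze1) (ke xe11 ye21 ze15) (ke xe21 ye9 ze5)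 (ke xe6 ye11 ze53) (ke xe6 ye11 ze56) (ke xe9 ye5 ze0) (ke xe21 ye9 ze9) (ke xe6 ye11 ze59) (ke xe19 ye49 ze5) (ke xe21 ye9 ze13) (ke xe21 ye9 ze16) (ke xe11 ye23 ze50) (ke xe18 ye55 ze13) (ke xe20 ye11 ze35) (ke xe12 ye59 ze51) (ke xe21 ye9 ze26) (ke xe9 ye3 ze51) (ke xe20 ye20 ze24) (ke xe11 ye11 ze7) (ke xe21 ye9 ze31) (ke xe18 ye43 ze53) (ke xe12 ye25 ze48) (ke xe15 ye4 ze21) (ke xe6 ye12 ze5) (ke xe17 ye30 ze9) (ke xe11 ye14 ze39) (ke xe20 ye42 ze46) (ke xe6 ye12 ze8) (ke xe20 ye42 ze47)) (@D3.rec (fun _ => Pt) (ke xe6 ye12 ze9) (ke xe18 ye21 ze6) (ke xe9 ye45 ze38) (ke xe6 ye12 ze12) (ke xe17 ye6 ze42) (ke xe11 ye24 ze1) (ke xe10 ye44 ze30) (ke xe17 ye7 ze36) (ke xe6 ye12 ze14) (ke xe6 ye12 ze15) (ke xe21 ye9 ze43) (ke xe21 ye9 ze46) (ke xe11 ye24 ze6) (ke xe14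 ye4 ze42) (ke xe6 ye32 ze23) (ke xe6 ye31 ze32) (ke xe14 ye4 ze57) (ke xe12 ye29 ze60) (ke xe8 ye59 ze50) (ke xe12 ye29 ze10) (ke xe6 ye12 ze26) (ke xe6 ye31 ze18) (ke xe11 ye41 ze31) (ke xe11 ye11 ze16) (ke xe11 ye11 ze13) (ke xe11 ye11 ze14) (ke xe12 ye26 ze27) (ke xe17 ye17 ze13) (ke xe8 ye26 ze45) (ke xe12 ye11 ze33) (ke xe21 ye9 ze54) (ke xe8 ye27 ze10) (ke xe10 ye30 ze51) (ke xe6 ye12 ze36) (ke xe6 ye12 ze37) (ke xe10 ye30 ze47) (ke xe12 ye11 ze59) (ke xe8 ye49 ze8) (ke xe6 ye12 ze40) (ke xe11 ye12 ze5) (ke xe12 ye11 ze60) (ke xe12 ye43 ze4) (ke xe6 ye47 ze37) (ke xe17 ye12 ze46) (ke xe12 ye17 ze11) (ke xe12 ye28 ze10) (ke xe10 ye44 ze4) (ke xe6 ye12 ze49) (ke xe17 ye14 ze54) (ke xe6 ye23 ze10) (ke xe10 ye15 ze19) (ke xe16 ye1 ze42) (ke xe6 ye12 ze57) (ke xe15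 ye46 ze22) (ke xe19 ye22 ze50) (ke xe16 ye13 ze59) (ke xe6 ye13 ze3) (ke xe9 ye32 ze57) (ke xe12 ye28 ze27) (ke xe21 ye10 ze12) (ke xe16 ye6 ze11) (ke xe6 ye13 ze1)) (@D3.rec (fun _ => Pt) (ke xe21 ye10 ze19) (ke xe21 ye10 ze21) (ke xe6 ye13 ze2) (ke xe15 ye23 ze48) (ke xe21 ye10 ze23) (ke xe16 ye32 ze7) (ke xe21 ye4 ze22) (ke xe21 ye10 ze29) (ke xe6 ye13 ze6) (ke xe21 ye10 ze34) (ke xe6 ye13 ze7) (ke xe21 ye10 ze39) (ke xe21 ye10 ze41) (ke xe6 ye13 ze8) (ke xe21 ye10 ze46) (ke xe6 ye13 ze9) (ke xe21 ye10 ze51) (ke xe21 ye10 ze53) (ke xe16 ye32 ze33) (ke xe6 ye13 ze11) (ke xe7 ye7 ze39) (ke xe7 ye19 ze13) (ke xe21 ye11 ze0) (ke xe21 ye11 ze2) (ke xe6 ye13 ze13) (ke xe16 ye56 ze21) (ke xe10 ye5 ze14) (ke xe18 ye43 ze11) (ke xe17 ye53 ze22) (ke xe10 ye34 ze38) (ke xe21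 ye11 ze10) (ke xe21 ye11 ze13) (ke xe21 ye3 ze41) (ke xe6 ye13 ze21) (ke xe20 ye22 ze52) (ke xe21 ye11 ze18) (ke xe7 ye36 ze34) (ke xe6 ye13 ze24) (ke xe20 ye25 ze11) (ke xe19 ye48 ze29) (ke xe19 ye50 ze19) (ke xe6 ye13 ze26) (ke xe10 ye41 ze28) (ke xe10 ye34 ze39) (ke xe21 ye11 ze32) (ke xe21 ye11 ze33) (ke xe6 ye13 ze28) (ke xe21 ye11 ze37) (ke xe19 ye17 ze48) (ke xe13 ye2 ze28) (ke xe6 ye13 ze31) (ke xe6 ye13 ze32) (ke xe21 ye11 ze41) (ke xe21 ye11 ze44) (ke xe8 ye1 ze20) (ke xe21 ye11 ze48) (ke xe6 ye13 ze34) (ke xe21 ye11 ze51) (ke xe21 ye11 ze53) (ke xe6 ye13 ze35) (ke xe21 ye11 ze54) (ke xe21 ye11 ze56)) (@D3.rec (fun _ => Pt) (ke xe6 ye13 ze40) (ke xe21 ye11 ze60) (ke xe6 ye13 ze38) (ke xe21 ye12 ze3) (ke xe6 ye13 ze39) (ke xe21 ye11 ze57) (ke xe21 ye12 ze12)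 (ke xe21 ye12 ze13) (ke xe6 ye13 ze41) (ke xe21 ye12 ze16) (ke xe7 ye8 ze18) (ke xe12 ye2 ze55) (ke xe8 ye3 ze25) (ke xe6 ye13 ze45) (ke xe21 ye12 ze18) (ke xe16 ye28 ze26) (ke xe7 ye17 ze15) (ke xe6 ye13 ze49) (ke xe21 ye12 ze22) (ke xe6 ye13 ze50) (ke xe20 ye9 ze51) (ke xe14 ye45 ze16) (ke xe21 ye12 ze24) (ke xe13 ye14 ze32) (ke xe6 ye13 ze53) (ke xe6 ye13 ze55) (ke xe21 ye12 ze30) (ke xe16 ye24 ze60) (ke xe16 ye23 ze46) (ke xe6 ye13 ze57) (ke xe21 ye12 ze32) (ke xe21 ye12 ze33) (ke xe6 ye13 ze58) (ke xe21 ye12 ze35) (ke xe6 ye14 ze1) (ke xe21 ye12 ze38) (ke xe6 ye13 ze61) (ke xe18 ye21 ze46) (ke xe6 ye14 ze0) (ke xe13 ye30 ze56) (ke xe18 ye9 ze12) (ke xe21 ye12 ze45) (ke xe21 ye12 ze46) (ke xe6 ye14 ze2) (ke xe21 ye12 ze48) (ke xe21 ye12 ze50) (ke xe6 ye14 ze4) (ke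 xe21 ye12 ze54) (ke xe6 ye14 ze7) (ke xe6 ye14 ze10) (ke xe12 ye25 ze39) (ke xe20 ye19 ze46) (ke xe16 ye23 ze35) (ke xe21 ye12 ze61) (ke xe21 ye13 ze1) (ke xe6 ye14 ze12) (ke xe21 ye13 ze4) (ke xe21 ye13 ze5) (ke xe6 ye14 ze13) (ke xe21 ye13 ze7) (ke xe6 ye14 ze15) (ke xe6 ye14 ze17)) (@D3.rec (fun _ => Pt) (ke xe19 ye33 ze49) (ke xe21 ye13 ze15) (ke xe6 ye14 ze20) (ke xe11 ye24 ze52) (ke xe10 ye29 ze58) (ke xe16 ye23 ze22) (ke xe21 ye13 ze18) (ke xe21 ye13 ze20) (ke xe6 ye14 ze23) (ke xe20 ye29 ze47) (ke xe21 ye13 ze22) (ke xe6 ye14 ze27) (ke xe21 ye13 ze23) (ke xe13 ye29 ze20) (ke xe9 ye39 ze49) (ke xe6 ye14 ze28) (ke xe6 ye14 ze31) (ke xe11 ye34 ze10) (ke xe21 ye13 ze29) (ke xe6 ye14 ze30) (ke xe15 ye32 ze10) (ke xe21 ye13 ze30) (ke xe6 ye14 ze33) (ke xe21 ye13 ze33)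 (ke xe6 ye14 ze36) (ke xe11 ye34 ze14) (ke xe21 ye13 ze35) (ke xe21 ye13 ze37) (ke xe6 ye14 ze37) (ke xe20 ye32 ze15) (ke xe16 ye35 ze46) (ke xe17 ye15 ze2) (ke xe6 ye14 ze39) (ke xe6 ye14 ze40) (ke xe20 ye6 ze11) (ke xe20 ye59 ze53) (ke xe19 ye9 ze59) (ke xe17 ye15 ze6) (ke xe20 ye5 ze56) (ke xe19 ye51 ze7) (ke xe13 ye31 ze43) (ke xe6 ye14 ze42) (ke xe21 ye13 ze61) (ke xe21 ye14 ze2) (ke xe7 ye14 ze9) (ke xe6 ye14 ze43) (ke xe21 ye14 ze9) (ke xe13 ye51 ze6) (ke xe13 ye50 ze25) (ke xe13 ye30 ze22) (ke xe11 ye8 ze20) (ke xe16 ye31 ze58) (ke xe16 ye51 ze39) (ke xe13 ye24 ze0) (ke xe6 ye14 ze49) (ke xe7 ye14 ze47) (ke xe13 ye15 ze11) (ke xe6 ye14 ze50) (ke xe8 ye51 ze12) (ke xe14 ye0 ze32) (ke xe16 ye32 ze16) (ke xe8 ye49 ze59)) (@D3.rec (fun _ => Pt) (ke xe20 ye6 ze27)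 (ke xe20 ye0 ze42) (ke xe13 ye30 ze50) (ke xe6 ye14 ze52) (ke xe7 ye51 ze47) (ke xe16 ye32 ze25) (ke xe13 ye30 ze51) (ke xe8 ye51 ze23) (ke xe14 ye9 ze11) (ke xe16 ye23 ze12) (ke xe6 ye14 ze55) (ke xe21 ye14 ze25) (ke xe19 ye54 ze21) (ke xe6 ye14 ze56) (ke xe21 ye14 ze31) (ke xe14 ye9 ze49) (ke xe21 ye14 ze36) (ke xe14 ye5 ze12) (ke xe6 ye14 ze58) (ke xe21 ye14 ze38) (ke xe6 ye14 ze61) (ke xe11 ye6 ze10) (ke xe21 ye14 ze39) (ke xe13 ye24 ze5) (ke xe6 ye15 ze2) (ke xe11 ye28 ze1) (ke xe21 ye14 ze42) (ke xe8 ye3 ze28) (ke xe6 ye15 ze4) (ke xe21 ye14 ze48) (ke xe13 ye38 ze0) (ke xe6 ye15 ze6) (ke xe13 ye51 ze19) (ke xe21 ye14 ze54) (ke xe6 ye15 ze9) (ke xe9 ye44 ze33) (ke xe21 ye14 ze55) (ke xe9 ye44 ze39) (ke xe16 ye24 ze7) (ke xe6 ye15 ze12) (ke xe13 ye40 ze2) (ke xe21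 ye14 ze60) (ke xe8 ye4 ze54) (ke xe13 ye26 ze44) (ke xe21 ye15 ze2) (ke xe21 ye15 ze3) (ke xe6 ye15 ze15) (ke xe18 ye35 ze30) (ke xe6 ye15 ze16) (ke xe6 ye15 ze17) (ke xe13 ye2 ze9) (ke xe21 ye11 ze24) (ke xe21 ye15 ze9) (ke xe6 ye15 ze26) (ke xe14 ye59 ze57) (ke xe6 ye15 ze27) (ke xe14 ye1 ze38) (ke xe21 ye15 ze12) (ke xe6 ye15 ze32) (ke xe20 ye27 ze54) (ke xe12 ye38 ze8) (ke xe16 ye33 ze39)) (@D3.rec (fun _ => Pt) (ke xe20 ye27 ze58) (ke xe11 ye20 ze11) (ke xe20 ye46 ze3) (ke xe6 ye15 ze37) (ke xe11 ye25 ze36) (ke xe6 ye15 ze38) (ke xe6 ye15 ze39) (ke xe6 ye15 ze40) (ke xe21 ye9 ze28) (ke xe6 ye15 ze41) (ke xe21 ye15 ze26) (ke xe21 ye15 ze27) (ke xe6 ye15 ze43) (ke xe17 ye15 ze36) (ke xe14 ye25 ze32) (ke xe18 ye58 ze35) (ke xe21 ye15 ze30) (ke xe21 ye15 ze35) (ke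 xe19 ye51 ze48) (ke xe20 ye9 ze5) (ke xe6 ye15 ze48) (ke xe19 ye27 ze22) (ke xe6 ye15 ze53) (ke xe20 ye52 ze0) (ke xe6 ye15 ze52) (ke xe17 ye6 ze17) (ke xe6 ye15 ze54) (ke xe12 ye24 ze3) (ke xe6 ye15 ze55) (ke xe18 ye43 ze6) (ke xe19 ye51 ze39) (ke xe6 ye15 ze57) (ke xe19 ye27 ze36) (ke xe8 ye12 ze6) (ke xe6 ye15 ze59) (ke xe21 ye15 ze37) (ke xe20 ye19 ze43) (ke xe6 ye16 ze1) (ke xe17 ye15 ze41) (ke xe21 ye15 ze43) (ke xe20 ye31 ze0) (ke xe21 ye15 ze41) (ke xe13 ye48 ze28) (ke xe6 ye16 ze3) (ke xe11 ye24 ze27) (ke xe21 ye15 ze45) (ke xe11 ye22 ze3) (ke xe18 ye23 ze13) (ke xe6 ye16 ze5) (ke xe6 ye16 ze11) (ke xe6 ye16 ze8) (ke xe6 ye16 ze10) (ke xe17 ye55 ze28) (ke xe6 ye16 ze12) (ke xe6 ye16 ze15) (ke xe6 ye16 ze16) (ke xe6 ye16 ze18) (ke xe21 ye15 ze47) (ke xe17 ye4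 ze43) (ke xe14 ye25 ze33) (ke xe15 ye26 ze35) (ke xe21 ye15 ze49)) (@D3.rec (fun _ => Pt) (ke xe6 ye16 ze24) (ke xe11 ye0 ze61) (ke xe10 ye48 ze23) (ke xe13 ye40 ze29) (ke xe9 ye44 ze46) (ke xe6 ye16 ze29) (ke xe20 ye50 ze41) (ke xe6 ye16 ze31) (ke xe16 ye44 ze46) (ke xe6 ye16 ze33) (ke xe21 ye15 ze57) (ke xe6 ye16 ze34) (ke xe19 ye48 ze61) (ke xe8 ye12 ze11) (ke xe20 ye33 ze22) (ke xe6 ye16 ze36) (ke xe19 ye49 ze2) (ke xe19 ye51 ze15) (ke xe21 ye16 ze1) (ke xe6 ye16 ze38) (ke xe20 ye9 ze33) (ke xe21 ye16 ze3) (ke xe6 ye16 ze39) (ke xe21 ye16 ze5) (ke xe18 ye1 ze18) (ke xe16 ye54 ze1) (ke xe21 ye16 ze7) (ke xe21 ye16 ze8) (ke xe21 ye16 ze9) (ke xe6 ye16 ze42) (ke xe19 ye48 ze59) (ke xe17 ye59 ze32) (ke xe6 ye16 ze44) (ke xe15 ye5 ze42) (ke xe6 ye16 ze48) (ke xe21 ye9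 ze10) (ke xe16 ye52 ze4) (ke xe16 ye52 ze10) (ke xe21 ye9 ze35) (ke xe11 ye6 ze23) (ke xe20 ye8 ze34) (ke xe18 ye12 ze53) (ke xe6 ye16 ze51) (ke xe17 ye4 ze29) (ke xe9 ye15 ze12) (ke xe20 ye52 ze42) (ke xe17 ye9 ze35) (ke xe6 ye16 ze54) (ke xe6 ye16 ze55) (ke xe13 ye1 ze46) (ke xe10 ye4 ze40) (ke xe13 ye18 ze11) (ke xe6 ye16 ze61) (ke xe10 ye49 ze39) (ke xe6 ye17 ze2) (ke xe21 ye16 ze14) (ke xe6 ye17 ze3) (ke xe8 ye12 ze23) (ke xe8 ye37 ze41) (ke xe8 ye37 ze42) (ke xe6 ye17 ze7) (ke xe6 ye17 ze8)) (@D3.rec (fun _ => Pt) (ke xe21 ye16 ze17) (ke xe6 ye17 ze10) (ke xe12 ye31 ze0) (ke xe11 ye27 ze5) (ke xe8 ye12 ze26) (ke xe6 ye17 ze18) (ke xe15 ye40 ze20) (ke xe17 ye19 ze18) (ke xe21 ye16 ze25) (ke xe21 ye16 ze26) (ke xe6 ye55 ze59) (ke xe6 ye17 ze20) (ke xe9 ye21 ze6)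 (ke xe12 ye32 ze37) (ke xe17 ye11 ze30) (ke xe9 ye16 ze6) (ke xe12 ye32 ze44) (ke xe9 ye19 ze18) (ke xe17 ye29 ze9) (ke xe21 ye16 ze39) (ke xe21 ye16 ze40) (ke xe6 ye17 ze28) (ke xe9 ye16 ze45) (ke xe21 ye16 ze45) (ke xe21 ye16 ze47) (ke xe18 ye46 ze23) (ke xe6 ye17 ze27) (ke xe14 ye22 ze20) (ke xe19 ye13 ze0) (ke xe21 ye16 ze42) (ke xe21 ye16 ze53) (ke xe7 ye27 ze17) (ke xe9 ye16 ze57) (ke xe12 ye4 ze29) (ke xe19 ye3 ze1) (ke xe12 ye33 ze50) (ke xe6 ye17 ze33) (ke xe12 ye21 ze51) (ke xe9 ye20 ze55) (ke xe8 ye23 ze8) (ke xe6 ye17 ze44) (ke xe21 ye17 ze10) (ke xe21 ye17 ze15) (ke xe21 ye17 ze16) (ke xe6 ye17 ze38) (ke xe8 ye32 ze13) (ke xe21 ye17 ze21) (ke xe15 ye47 ze1) (ke xe21 ye17 ze26) (ke xe21 ye17 ze30) (ke xe16 ye0 ze36) (ke xe6 ye17 ze43) (ke xe21 ye17 ze33)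 (ke xe21 ye17 ze5) (ke xe21 ye17 ze38) (ke xe21 ye17 ze40) (ke xe19 ye46 ze20) (ke xe6 ye17 ze45) (ke xe15 ye51 ze52) (ke xe12 ye4 ze36) (ke xe12 ye4 ze40) (ke xe6 ye38 ze42)) (@D3.rec (fun _ => Pt) (ke xe6 ye17 ze49) (ke xe6 ye32 ze22) (ke xe12 ye21 ze49) (ke xe12 ye14 ze11) (ke xe8 ye42 ze2) (ke xe8 ye42 ze3) (ke xe6 ye17 ze55) (ke xe17 ye13 ze30) (ke xe19 ye17 ze16) (ke xe6 ye18 ze1) (ke xe9 ye32 ze36) (ke xe12 ye15 ze20) (ke xe11 ye2 ze13) (ke xe17 ye41 ze59) (ke xe21 ye17 ze60) (ke xe6 ye17 ze61) (ke xe21 ye18 ze0) (ke xe21 ye18 ze3) (ke xe6 ye18 ze0) (ke xe6 ye18 ze4) (ke xe21 ye18 ze7) (ke xe6 ye18 ze7) (ke xe21 ye18 ze13) (ke xe14 ye49 ze38) (ke xe21 ye18 ze18) (ke xe6 ye38 ze39) (ke xe10 ye14 ze34) (ke xe12 ye46 ze38) (ke xe6 ye18 ze9) (ke xe6 ye40 ze20) (ke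 xe6 ye18 ze12) (ke xe6 ye37 ze17) (ke xe21 ye18 ze20) (ke xe21 ye18 ze26) (ke xe14 ye12 ze18) (ke xe6 ye20 ze11) (ke xe21 ye18 ze27) (ke xe6 ye18 ze13) (ke xe6 ye18 ze14) (ke xe9 ye18 ze38) (ke xe12 ye2 ze39) (ke xe9 ye18 ze60) (ke xe12 ye40 ze25) (ke xe21 ye18 ze33) (ke xe12 ye58 ze33) (ke xe6 ye18 ze22) (ke xe21 ye8 ze21) (ke xe21 ye8 ze12) (ke xe21 ye7 ze1) (ke xe21 ye18 ze36) (ke xe6 ye18 ze24) (ke xe21 ye18 ze40) (ke xe6 ye18 ze25) (ke xe20 ye5 ze48) (ke xe6 ye18 ze26) (ke xe21 ye18 ze47) (ke xe21 ye18 ze48) (ke xe6 ye18 ze29) (ke xe12 ye28 ze59) (ke xe17 ye52 ze10) (ke xe21 ye18 ze52) (ke xe19 ye35 ze55)) (@D3.rec (fun _ => Pt) (ke xe12 ye2 ze50) (ke xe10 ye14 ze19) (ke xe18 ye20 ze50) (ke xe13 ye23 ze56) (ke xe12 ye16 ze56) (ke xe6 ye18 ze35) (ke xe12 ye21 ze32)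 (ke xe6 ye18 ze36) (ke xe12 ye48 ze34) (ke xe6 ye18 ze38) (ke xe6 ye18 ze47) (ke xe14 ye56 ze1) (ke xe21 ye19 ze6) (ke xe21 ye19 ze7) (ke xe6 ye18 ze41) (ke xe9 ye18 ze35) (ke xe9 ye20 ze10) (ke xe21 ye19 ze11) (ke xe21 ye19 ze12) (ke xe6 ye18 ze43) (ke xe16 ye7 ze2) (ke xe21 ye19 ze17) (ke xe21 ye19 ze18) (ke xe14 ye2 ze61) (ke xe21 ye19 ze23) (ke xe21 ye19 ze0) (ke xe13 ye24 ze60) (ke xe21 ye19 ze26) (ke xe13 ye56 ze39) (ke xe21 ye19 ze28) (ke xe6 ye18 ze48) (ke xe12 ye17 ze9) (ke xe6 ye18 ze50) (ke xe12 ye24 ze31) (ke xe19 ye5 ze47) (ke xe6 ye18 ze58) (ke xe12 ye20 ze7) (ke xe12 ye16 ze42) (ke xe15 ye30 ze39) (ke xe8 ye59 ze27) (ke xe9 ye45 ze47) (ke xe21 ye19 ze48) (ke xe21 ye19 ze51) (ke xe6 ye18 ze57) (ke xe6 ye42 ze42) (ke xe13 ye1 ze13) (ke xe21 ye19 ze58) (ke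 xe13 ye1 ze18) (ke xe19 ye0 ze42) (ke xe6 ye48 ze5) (ke xe13 ye1 ze27) (ke xe21 ye20 ze2) (ke xe21 ye20 ze4) (ke xe6 ye19 ze2) (ke xe7 ye20 ze4) (ke xe6 ye48 ze45) (ke xe6 ye19 ze7) (ke xe12 ye15 ze40) (ke xe12 ye15 ze61) (ke xe6 ye19 ze10) (ke xe6 ye19 ze15) (ke xe8 ye19 ze28)) (@D3.rec (fun _ => Pt) (ke xe6 ye34 ze52) (ke xe12 ye27 ze57) (ke xe21 ye20 ze8) (ke xe6 ye19 ze20) (ke xe12 ye42 ze59) (ke xe16 ye57 ze21) (ke xe12 ye17 ze14) (ke xe9 ye17 ze21) (ke xe6 ye19 ze24) (ke xe21 ye7 ze50) (ke xe12 ye37 ze20) (ke xe12 ye12 ze3) (ke xe12 ye28 ze7) (ke xe21 ye20 ze14) (ke xe6 ye23 ze50) (ke xe6 ye19 ze30) (ke xe9 ye15 ze37) (ke xe8 ye35 ze30) (ke xe21 ye20 ze17) (ke xe6 ye19 ze35) (ke xe6 ye19 ze36) (ke xe17 ye33 ze28) (ke xe21 ye20 ze18) (ke xe17 ye59 ze12) (ke xe6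 ye19 ze41) (ke xe10 ye4 ze38) (ke xe18 ye38 ze36) (ke xe6 ye20 ze31) (ke xe12 ye18 ze9) (ke xe8 ye34 ze11) (ke xe12 ye28 ze47) (ke xe8 ye23 ze43) (ke xe12 ye16 ze4) (ke xe6 ye19 ze50) (ke xe16 ye5 ze55) (ke xe11 ye19 ze43) (ke xe9 ye17 ze26) (ke xe12 ye20 ze56) (ke xe14 ye14 ze13) (ke xe21 ye20 ze30) (ke xe6 ye19 ze57) (ke xe6 ye19 ze58) (ke xe21 ye20 ze32) (ke xe21 ye20 ze34) (ke xe6 ye19 ze61) (ke xe12 ye2 ze3) (ke xe14 ye36 ze8) (ke xe9 ye32 ze45) (ke xe18 ye17 ze28) (ke xe10 ye14 ze26) (ke xe12 ye19 ze37) (ke xe8 ye35 ze18) (ke xe8 ye35 ze26) (ke xe6 ye26 ze39) (ke xe17 ye33 ze31) (ke xe6 ye20 ze5) (ke xe6 ye20 ze7) (ke xe21 ye20 ze40) (ke xe6 ye20 ze8) (ke xe16 ye30 ze42) (ke xe6 ye20 ze9) (ke xe14 ye35 ze49)) (@D3.rec (fun _ => Pt) (ke xe21 ye20 ze23) (ke xe6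 ye20 ze16) (ke xe17 ye23 ze42) (ke xe9 ye56 ze14) (ke xe11 ye12 ze38) (ke xe6 ye20 ze14) (ke xe9 ye32 ze53) (ke xe12 ye59 ze52) (ke xe21 ye20 ze44) (ke xe6 ye20 ze15) (ke xe9 ye32 ze51) (ke xe17 ye3 ze15) (ke xe18 ye50 ze52) (ke xe9 ye57 ze13) (ke xe6 ye23 ze45) (ke xe8 ye23 ze3) (ke xe9 ye20 ze14) (ke xe6 ye20 ze21) (ke xe18 ye0 ze13) (ke xe6 ye20 ze34) (ke xe12 ye12 ze11) (ke xe18 ye57 ze60) (ke xe10 ye54 ze44) (ke xe10 ye2 ze44) (ke xe6 ye20 ze25) (ke xe11 ye51 ze15) (ke xe11 ye22 ze57) (ke xe17 ye3 ze12) (ke xe21 ye20 ze50) (ke xe12 ye32 ze22) (ke xe6 ye20 ze28) (ke xe17 ye15 ze56) (ke xe21 ye20 ze26) (ke xe13 ye1 ze8) (ke xe17 ye8 ze29) (ke xe20 ye5 ze29) (ke xe6 ye20 ze33) (ke xe21 ye20 ze47) (ke xe14 ye11 ze47) (ke xe21 ye20 ze61) (ke xe12 ye13 ze57) (ke xe15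 ye47 ze22) (ke xe9 ye24 ze59) (ke xe12 ye40 ze48) (ke xe12 ye51 ze11) (ke xe8 ye33 ze26) (ke xe9 ye28 ze38) (ke xe15 ye52 ze27) (ke xe15 ye47 ze19) (ke xe10 ye53 ze23) (ke xe8 ye33 ze22) (ke xe12 ye1 ze58) (ke xe11 ye50 ze42) (ke xe17 ye18 ze10) (ke xe17 ye27 ze22) (ke xe6 ye20 ze50) (ke xe8 ye23 ze32) (ke xe6 ye20 ze54) (ke xe21 ye21 ze8) (ke xe6 ye20 ze55) (ke xe10 ye53 ze22) (ke xe12 ye13 ze58)) (@D3.rec (fun _ => Pt) (ke xe17 ye14 ze58) (ke xe21 ye21 ze11) (ke xe6 ye20 ze59) (ke xe8 ye23 ze45) (ke xe12 ye14 ze32) (ke xe9 ye38 ze50) (ke xe19 ye57 ze38) (ke xe19 ye57 ze39) (ke xe9 ye12 ze31) (ke xe17 ye10 ze1) (ke xe6 ye21 ze5) (ke xe17 ye14 ze23) (ke xe6 ye26 ze50) (ke xe6 ye27 ze50) (ke xe18 ye49 ze48) (ke xe12 ye40 ze59) (ke xe12 ye40 ze55) (ke xe6 ye21 ze8) (ke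 xe21 ye21 ze20) (ke xe12 ye46 ze6) (ke xe6 ye21 ze10) (ke xe13 ye0 ze33) (ke xe21 ye21 ze28) (ke xe21 ye21 ze31) (ke xe21 ye21 ze24) (ke xe8 ye23 ze9) (ke xe6 ye38 ze28) (ke xe21 ye21 ze40) (ke xe16 ye3 ze50) (ke xe6 ye21 ze13) (ke xe8 ye23 ze44) (ke xe21 ye21 ze45) (ke xe6 ye21 ze14) (ke xe6 ye41 ze26) (ke xe15 ye47 ze24) (ke xe7 ye45 ze34) (ke xe6 ye27 ze57) (ke xe21 ye21 ze56) (ke xe6 ye37 ze18) (ke xe20 ye16 ze20) (ke xe6 ye27 ze61) (ke xe12 ye26 ze58) (ke xe12 ye13 ze37) (ke xe6 ye40 ze36) (ke xe21 ye21 ze59) (ke xe15 ye46 ze13) (ke xe12 ye47 ze39) (ke xe17 ye5 ze10) (ke xe12 ye37 ze6) (ke xe12 ye34 ze25) (ke xe21 ye22 ze3) (ke xe21 ye22 ze6) (ke xe6 ye21 ze27) (ke xe21 ye22 ze11) (ke xe7 ye36 ze39) (ke xe6 ye21 ze28) (ke xe12 ye13 ze4) (ke xe6 ye22 ze56) (ke xe17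 ye14 ze22) (ke xe12 ye3 ze7) (ke xe12 ye21 ze35) (ke xe12 ye42 ze2)) (@D3.rec (fun _ => Pt) (ke xe21 ye22 ze24) (ke xe6 ye40 ze12) (ke xe9 ye49 ze6) (ke xe9 ye49 ze19) (ke xe11 ye45 ze25) (ke xe11 ye54 ze51) (ke xe6 ye21 ze37) (ke xe20 ye16 ze37) (ke xe11 ye28 ze34) (ke xe12 ye13 ze31) (ke xe11 ye51 ze3) (ke xe12 ye4 ze44) (ke xe11 ye50 ze61) (ke xe12 ye21 ze52) (ke xe12 ye14 ze6) (ke xe21 ye22 ze41) (ke xe10 ye14 ze12) (ke xe20 ye42 ze26) (ke xe17 ye59 ze45) (ke xe6 ye21 ze46) (ke xe6 ye21 ze47) (ke xe11 ye57 ze52) (ke xe20 ye42 ze30) (ke xe8 ye23 ze13) (ke xe12 ye39 ze53) (ke xe17 ye38 ze37) (ke xe6 ye21 ze52) (ke xe13 ye52 ze32) (ke xe12 ye30 ze32) (ke xe12 ye29 ze49) (ke xe11 ye27 ze11) (ke xe12 ye49 ze51) (ke xe19 ye0 ze44) (ke xe6 ye21 ze57) (ke xe20 ye4 ze7)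 (ke xe6 ye21 ze58) (ke xe12 ye50 ze1) (ke xe21 ye22 ze61) (ke xe9 ye35 ze48) (ke xe6 ye21 ze59) (ke xe6 ye26 ze27) (ke xe13 ye0 ze49) (ke xe15 ye49 ze56) (ke xe11 ye26 ze18) (ke xe11 ye27 ze8) (ke xe17 ye0 ze23) (ke xe6 ye22 ze2) (ke xe8 ye0 ze22) (ke xe6 ye25 ze48) (ke xe21 ye23 ze7) (ke xe21 ye23 ze10) (ke xe21 ye23 ze12) (ke xe9 ye14 ze8) (ke xe6 ye22 ze7) (ke xe15 ye49 ze57) (ke xe12 ye25 ze24) (ke xe12 ye25 ze33) (ke xe14 ye29 ze4) (ke xe12 ye25 ze47) (ke xe6 ye46 ze3) (ke xe12 ye28 ze14) (ke xe12 ye24 ze23)) (@D3.rec (fun _ => Pt) (ke xe21 ye23 ze28) (ke xe6 ye23 ze18) (ke xe9 ye38 ze2) (ke xe12 ye24 ze29) (ke xe17 ye53 ze26) (ke xe20 ye13 ze9) (ke xe12 ye52 ze46) (ke xe12 ye52 ze42) (ke xe6 ye46 ze7) (ke xe12 ye14 ze28) (ke xe17 ye8 ze43) (ke xe13 ye0 ze27) (ke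 xe10 ye42 ze18) (ke xe17 ye13 ze29) (ke xe21 ye23 ze52) (ke xe21 ye23 ze53) (ke xe17 ye33 ze55) (ke xe6 ye22 ze23) (ke xe17 ye42 ze33) (ke xe18 ye12 ze60) (ke xe15 ye47 ze50) (ke xe21 ye24 ze2) (ke xe17 ye9 ze1) (ke xe21 ye24 ze9) (ke xe6 ye22 ze26) (ke xe21 ye24 ze15) (ke xe6 ye22 ze27) (ke xe9 ye0 ze5) (ke xe12 ye55 ze15) (ke xe11 ye10 ze24) (ke xe20 ye9 ze48) (ke xe6 ye22 ze31) (ke xe12 ye48 ze11) (ke xe21 ye24 ze22) (ke xe16 ye4 ze19) (ke xe21 ye24 ze27) (ke xe6 ye22 ze33) (ke xe7 ye48 ze49) (ke xe6 ye26 ze44) (ke xe14 ye6 ze8) (ke xe15 ye41 ze36) (ke xe21 ye24 ze32) (ke xe7 ye20 ze41) (ke xe21 ye24 ze36) (ke xe21 ye6 ze35) (ke xe21 ye24 ze39) (ke xe21 ye24 ze41) (ke xe6 ye22 ze38) (ke xe21 ye24 ze45) (ke xe7 ye4 ze41) (ke xe6 ye22 ze39) (ke xe21 ye24 ze50) (ke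 xe16 ye4 ze11) (ke xe6 ye22 ze40) (ke xe6 ye22 ze41) (ke xe21 ye22 ze46) (ke xe11 ye19 ze6) (ke xe15 ye49 ze30) (ke xe6 ye22 ze43) (ke xe9 ye38 ze19) (ke xe21 ye25 ze1) (ke xe21 ye25 ze2)) (@D3.rec (fun _ => Pt) (ke xe21 ye25 ze5) (ke xe6 ye22 ze47) (ke xe6 ye29 ze48) (ke xe6 ye26 ze18) (ke xe19 ye17 ze0) (ke xe21 ye25 ze10) (ke xe6 ye22 ze49) (ke xe17 ye37 ze39) (ke xe21 ye25 ze14) (ke xe21 ye25 ze16) (ke xe21 ye25 ze15) (ke xe6 ye22 ze52) (ke xe21 ye25 ze19) (ke xe21 ye25 ze22) (ke xe18 ye7 ze12) (ke xe21 ye25 ze27) (ke xe6 ye22 ze53) (ke xe21 ye25 ze29) (ke xe21 ye25 ze31) (ke xe6 ye22 ze54) (ke xe12 ye50 ze2) (ke xe12 ye31 ze21) (ke xe21 ye25 ze34) (ke xe6 ye26 ze19) (ke xe20 ye4 ze6) (ke xe6 ye26 ze30) (ke xe17 ye13 ze40) (ke xe12 ye19 ze46) (ke xe21 ye25 ze43)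 (ke xe17 ye37 ze19) (ke xe6 ye22 ze59) (ke xe15 ye49 ze25) (ke xe21 ye25 ze49) (ke xe6 ye22 ze60) (ke xe6 ye22 ze61) (ke xe21 ye23 ze16) (ke xe17 ye13 ze45) (ke xe12 ye14 ze50) (ke xe6 ye26 ze20) (ke xe6 ye35 ze35) (ke xe12 ye50 ze38) (ke xe6 ye44 ze28) (ke xe6 ye26 ze37) (ke xe17 ye13 ze43) (ke xe18 ye9 ze61) (ke xe6 ye23 ze8) (ke xe12 ye19 ze27) (ke xe12 ye26 ze33) (ke xe16 ye18 ze2) (ke xe16 ye1 ze45) (ke xe21 ye23 ze24) (ke xe14 ye57 ze54) (ke xe21 ye26 ze3) (ke xe21 ye26 ze6) (ke xe6 ye23 ze12) (ke xe6 ye23 ze13) (ke xe17 ye43 ze4) (ke xe12 ye24 ze59) (ke xe18 ye9 ze59) (ke xe12 ye26 ze46) (ke xe17 ye41 ze5) (ke xe6 ye23 ze15)) (@D3.rec (fun _ => Pt) (ke xe12 ye24 ze57) (ke xe12 ye24 ze58) (ke xe21 ye23 ze29) (ke xe21 ye23 ze30) (ke xe6 ye23 ze20) (ke xe21 ye26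 ze23) (ke xe12 ye25 ze16) (ke xe12 ye13 ze36) (ke xe12 ye26 ze59) (ke xe21 ye26 ze28) (ke xe6 ye23 ze26) (ke xe21 ye23 ze49) (ke xe14 ye36 ze24) (ke xe21 ye26 ze30) (ke xe21 ye26 ze31) (ke xe6 ye23 ze27) (ke xe6 ye34 ze42) (ke xe7 ye55 ze45) (ke xe10 ye27 ze59) (ke xe6 ye23 ze28) (ke xe21 ye26 ze38) (ke xe6 ye23 ze29) (ke xe17 ye13 ze13) (ke xe12 ye58 ze34) (ke xe6 ye23 ze31) (ke xe21 ye23 ze57) (ke xe20 ye42 ze23) (ke xe14 ye54 ze33) (ke xe21 ye26 ze40) (ke xe6 ye23 ze32) (ke xe6 ye23 ze33) (ke xe21 ye26 ze43) (ke xe6 ye23 ze34) (ke xe21 ye23 ze56) (ke xe17 ye5 ze2) (ke xe9 ye38 ze46) (ke xe8 ye35 ze60) (ke xe21 ye26 ze45) (ke xe15 ye48 ze45) (ke xe6 ye23 ze37) (ke xe21 ye26 ze51) (ke xe18 ye24 ze48) (ke xe6 ye23 ze38) (ke xe10 ye5 ze36) (ke xe6 ye23 ze39) (ke xe21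 ye22 ze26) (ke xe17 ye3 ze54) (ke xe6 ye27 ze24) (ke xe6 ye42 ze54) (ke xe17 ye34 ze52) (ke xe16 ye6 ze52) (ke xe20 ye51 ze26) (ke xe17 ye15 ze51) (ke xe16 ye29 ze47) (ke xe6 ye23 ze49) (ke xe21 ye20 ze13) (ke xe12 ye14 ze37) (ke xe12 ye0 ze18) (ke xe21 ye27 ze5) (ke xe21 ye27 ze9) (ke xe6 ye23 ze54) (ke xe15 ye35 ze23)) (@D3.rec (fun _ => Pt) (ke xe15 ye37 ze10) (ke xe15 ye33 ze26) (ke xe21 ye27 ze14) (ke xe21 ye27 ze16) (ke xe6 ye23 ze56) (ke xe21 ye27 ze21) (ke xe6 ye23 ze57) (ke xe15 ye35 ze51) (ke xe14 ye3 ze19) (ke xe21 ye27 ze29) (ke xe6 ye23 ze59) (ke xe21 ye27 ze30) (ke xe21 ye27 ze33) (ke xe6 ye23 ze60) (ke xe6 ye23 ze61) (ke xe21 ye27 ze37) (ke xe21 ye27 ze40) (ke xe21 ye27 ze42) (ke xe6 ye24 ze1) (ke xe21 ye27 ze46) (ke xe6 ye24 ze3) (ke xe6 ye37 ze10) (ke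 xe6 ye41 ze29) (ke xe21 ye27 ze52) (ke xe6 ye24 ze5) (ke xe19 ye33 ze8) (ke xe21 ye27 ze56) (ke xe21 ye27 ze58) (ke xe21 ye27 ze60) (ke xe6 ye24 ze6) (ke xe6 ye24 ze7) (ke xe17 ye13 ze49) (ke xe12 ye13 ze6) (ke xe21 ye28 ze3) (ke xe12 ye0 ze45) (ke xe12 ye16 ze60) (ke xe6 ye37 ze60) (ke xe17 ye29 ze21) (ke xe21 ye28 ze17) (ke xe16 ye3 ze5) (ke xe6 ye24 ze12) (ke xe21 ye28 ze22) (ke xe21 ye28 ze25) (ke xe6 ye24 ze13) (ke xe6 ye24 ze14) (ke xe21 ye28 ze29) (ke xe17 ye29 ze25) (ke xe6 ye52 ze32) (ke xe6 ye31 ze41) (ke xe12 ye12 ze2) (ke xe6 ye43 ze53) (ke xe12 ye11 ze37) (ke xe12 ye17 ze13) (ke xe21 ye28 ze36) (ke xe21 ye28 ze38) (ke xe6 ye24 ze21) (ke xe14 ye45 ze8) (ke xe6 ye24 ze22) (ke xe6 ye24 ze24) (ke xe6 ye24 ze27) (ke xe21 ye28 ze44) (ke xe6 ye24 ze29)) (@D3.rec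 (fun _ => Pt) (ke xe21 ye28 ze46) (ke xe18 ye20 ze9) (ke xe21 ye28 ze48) (ke xe6 ye24 ze31) (ke xe8 ye52 ze29) (ke xe16 ye34 ze55) (ke xe21 ye28 ze50) (ke xe6 ye24 ze37) (ke xe16 ye53 ze12) (ke xe21 ye28 ze55) (ke xe13 ye38 ze55) (ke xe6 ye24 ze39) (ke xe21 ye28 ze57) (ke xe21 ye28 ze58) (ke xe10 ye3 ze39) (ke xe16 ye24 ze1) (ke xe20 ye8 ze49) (ke xe20 ye13 ze2) (ke xe20 ye1 ze6) (ke xe6 ye24 ze41) (ke xe20 ye8 ze46) (ke xe6 ye24 ze42) (ke xe21 ye29 ze4) (ke xe16 ye51 ze46) (ke xe20 ye6 ze20) (ke xe6 ye24 ze45) (ke xe21 ye29 ze8) (ke xe15 ye8 ze8) (ke xe16 ye46 ze9) (ke xe19 ye53 ze9) (ke xe21 ye29 ze13) (ke xe13 ye58 ze61) (ke xe17 ye53 ze15) (ke xe6 ye24 ze48) (ke xe16 ye24 ze10) (ke xe15 ye8 ze37) (ke xe21 ye29 ze22) (ke xe7 ye56 ze53) (ke xe6 ye24 ze50) (ke xe14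 ye1 ze57) (ke xe6 ye24 ze51) (ke xe15 ye8 ze48) (ke xe21 ye29 ze29) (ke xe16 ye25 ze2) (ke xe21 ye29 ze34) (ke xe21 ye13 ze2) (ke xe6 ye24 ze53) (ke xe21 ye29 ze38) (ke xe21 ye29 ze41) (ke xe7 ye28 ze57) (ke xe13 ye57 ze53) (ke xe6 ye24 ze55) (ke xe6 ye24 ze56) (ke xe21 ye29 ze18) (ke xe21 ye29 ze50) (ke xe16 ye25 ze13) (ke xe17 ye31 ze34) (ke xe6 ye24 ze58) (ke xe21 ye29 ze24) (ke xe20 ye5 ze61) (ke xe8 ye1 ze4) (ke xe16 ye25 ze15)) (@D3.rec (fun _ => Pt) (ke xe7 ye0 ze3) (ke xe6 ye24 ze60) (ke xe6 ye24 ze61) (ke xe19 ye49 ze60) (ke xe21 ye29 ze61) (ke xe6 ye25 ze1) (ke xe21 ye30 ze4) (ke xe21 ye30 ze6) (ke xe12 ye23 ze53) (ke xe6 ye25 ze3) (ke xe6 ye25 ze4) (ke xe21 ye30 ze10) (ke xe6 ye25 ze5) (ke xe20 ye52 ze11) (ke xe21 ye30 ze15) (ke xe8 ye52 ze26) (ke xe21 ye7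 ze40) (ke xe6 ye25 ze7) (ke xe19 ye27 ze54) (ke xe21 ye30 ze19) (ke xe12 ye43 ze41) (ke xe11 ye38 ze22) (ke xe19 ye26 ze22) (ke xe17 ye22 ze34) (ke xe6 ye25 ze12) (ke xe6 ye25 ze15) (ke xe6 ye25 ze16) (ke xe21 ye30 ze25) (ke xe19 ye15 ze3) (ke xe21 ye30 ze23) (ke xe11 ye38 ze34) (ke xe20 ye51 ze54) (ke xe10 ye58 ze24) (ke xe6 ye25 ze21) (ke xe19 ye59 ze48) (ke xe21 ye30 ze35) (ke xe10 ye31 ze20) (ke xe18 ye42 ze15) (ke xe20 ye52 ze46) (ke xe18 ye21 ze11) (ke xe21 ye30 ze41) (ke xe9 ye3 ze47) (ke xe6 ye25 ze24) (ke xe10 ye4 ze27) (ke xe6 ye25 ze28) (ke xe7 ye59 ze20) (ke xe21 ye30 ze42) (ke xe6 ye25 ze32) (ke xe6 ye25 ze33) (ke xe21 ye30 ze46) (ke xe6 ye25 ze34) (ke xe21 ye30 ze51) (ke xe17 ye15 ze15) (ke xe12 ye23 ze8) (ke xe6 ye25 ze39) (ke xe6 ye25 ze42) (ke xe16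 ye17 ze58) (ke xe19 ye5 ze50) (ke xe18 ye26 ze18) (ke xe11 ye19 ze36) (ke xe17 ye16 ze27) (ke xe15 ye48 ze14)) (@D3.rec (fun _ => Pt) (ke xe6 ye47 ze33) (ke xe18 ye25 ze18) (ke xe11 ye28 ze60) (ke xe12 ye9 ze27) (ke xe9 ye12 ze5) (ke xe6 ye25 ze55) (ke xe17 ye6 ze30) (ke xe18 ye16 ze51) (ke xe6 ye25 ze58) (ke xe21 ye30 ze55) (ke xe6 ye25 ze59) (ke xe6 ye45 ze7) (ke xe21 ye2 ze59) (ke xe11 ye2 ze11) (ke xe10 ye0 ze31) (ke xe13 ye2 ze8) (ke xe15 ye49 ze8) (ke xe12 ye59 ze29) (ke xe15 ye48 ze28) (ke xe6 ye42 ze53) (ke xe15 ye47 ze49) (ke xe21 ye22 ze27) (ke xe6 ye26 ze24) (ke xe12 ye17 ze61) (ke xe12 ye49 ze5) (ke xe15 ye24 ze13) (ke xe6 ye26 ze13) (ke xe21 ye31 ze15) (ke xe18 ye43 ze52) (ke xe12 ye18 ze3) (ke xe7 ye24 ze40) (ke xe12 ye13 ze33) (ke xe20 ye16 ze22) (ke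 xe14 ye54 ze30) (ke xe18 ye7 ze15) (ke xe21 ye31 ze28) (ke xe21 ye25 ze52) (ke xe20 ye19 ze18) (ke xe17 ye33 ze22) (ke xe17 ye33 ze27) (ke xe21 ye31 ze37) (ke xe18 ye24 ze49) (ke xe21 ye31 ze38) (ke xe6 ye26 ze22) (ke xe6 ye28 ze3) (ke xe6 ye28 ze4) (ke xe17 ye16 ze31) (ke xe9 ye58 ze4) (ke xe11 ye47 ze36) (ke xe15 ye48 ze53) (ke xe11 ye28 ze55) (ke xe7 ye25 ze41) (ke xe16 ye46 ze15) (ke xe16 ye5 ze58) (ke xe11 ye58 ze14) (ke xe16 ye46 ze16) (ke xe17 ye43 ze0) (ke xe12 ye20 ze0) (ke xe12 ye20 ze1) (ke xe12 ye19 ze57) (ke xe7 ye25 ze47) (ke xe15 ye58 ze35)) (@D3.rec (fun _ => Pt) (ke xe9 ye49 ze40) (ke xe11 ye28 ze51) (ke xe19 ye47 ze2) (ke xe11 ye22 ze36) (ke xe21 ye31 ze58) (ke xe11 ye27 ze39) (ke xe11 ye22 ze26) (ke xe17 ye56 ze34) (ke xe6 ye26 ze36) (ke xe9 ye37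 ze29) (ke xe9 ye20 ze3) (ke xe6 ye47 ze57) (ke xe21 ye32 ze7) (ke xe12 ye45 ze39) (ke xe9 ye32 ze49) (ke xe21 ye32 ze16) (ke xe12 ye20 ze6) (ke xe17 ye16 ze34) (ke xe18 ye35 ze9) (ke xe10 ye14 ze31) (ke xe21 ye32 ze21) (ke xe16 ye4 ze58) (ke xe12 ye38 ze24) (ke xe21 ye32 ze24) (ke xe12 ye17 ze55) (ke xe20 ye14 ze51) (ke xe9 ye42 ze58) (ke xe19 ye17 ze12) (ke xe21 ye32 ze32) (ke xe6 ye26 ze49) (ke xe17 ye30 ze44) (ke xe21 ye32 ze35) (ke xe6 ye26 ze51) (ke xe12 ye17 ze56) (ke xe13 ye37 ze7) (ke xe21 ye16 ze18) (ke xe6 ye26 ze56) (ke xe10 ye52 ze46) (ke xe12 ye29 ze61) (ke xe12 ye6 ze50) (ke xe6 ye26 ze57) (ke xe12 ye29 ze48) (ke xe9 ye32 ze8) (ke xe21 ye32 ze43) (ke xe11 ye22 ze11) (ke xe6 ye26 ze61) (ke xe20 ye16 ze19) (ke xe12 ye17 ze58) (ke xe12 ye3 ze54) (ke xe11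 ye30 ze60) (ke xe21 ye32 ze48) (ke xe12 ye29 ze53) (ke xe6 ye27 ze3) (ke xe21 ye32 ze52) (ke xe21 ye32 ze53) (ke xe6 ye27 ze4) (ke xe21 ye23 ze15) (ke xe11 ye19 ze3) (ke xe6 ye27 ze7) (ke xe13 ye15 ze17) (ke xe6 ye27 ze10) (ke xe21 ye24 ze55)) (@D3.rec (fun _ => Pt) (ke xe21 ye32 ze58) (ke xe21 ye32 ze59) (ke xe6 ye27 ze12) (ke xe6 ye27 ze13) (ke xe21 ye26 ze59) (ke xe16 ye48 ze43) (ke xe16 ye4 ze59) (ke xe21 ye26 ze61) (ke xe21 ye33 ze7) (ke xe17 ye28 ze60) (ke xe6 ye27 ze17) (ke xe8 ye37 ze7) (ke xe15 ye49 ze15) (ke xe21 ye33 ze16) (ke xe21 ye33 ze19) (ke xe20 ye6 ze61) (ke xe6 ye27 ze20) (ke xe21 ye33 ze23) (ke xe21 ye33 ze27) (ke xe21 ye33 ze28) (ke xe6 ye27 ze21) (ke xe8 ye34 ze26) (ke xe18 ye34 ze58) (ke xe12 ye56 ze8) (ke xe8 ye34 ze13) (ke xe17 ye42 ze1) (ke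 xe15 ye25 ze54) (ke xe12 ye4 ze26) (ke xe6 ye27 ze27) (ke xe6 ye27 ze28) (ke xe21 ye33 ze40) (ke xe6 ye27 ze29) (ke xe8 ye35 ze33) (ke xe12 ye19 ze47) (ke xe15 ye54 ze3) (ke xe12 ye26 ze45) (ke xe6 ye27 ze34) (ke xe8 ye42 ze6) (ke xe17 ye20 ze41) (ke xe21 ye33 ze53) (ke xe21 ye33 ze56) (ke xe13 ye1 ze14) (ke xe7 ye29 ze45) (ke xe6 ye27 ze38) (ke xe6 ye27 ze39) (ke xe12 ye26 ze35) (ke xe12 ye19 ze59) (ke xe6 ye31 ze1) (ke xe8 ye35 ze34) (ke xe16 ye0 ze9) (ke xe8 ye41 ze32) (ke xe6 ye27 ze44) (ke xe21 ye34 ze7) (ke xe17 ye43 ze53) (ke xe6 ye27 ze45) (ke xe6 ye27 ze46) (ke xe17 ye16 ze32) (ke xe8 ye39 ze59) (ke xe12 ye16 ze41) (ke xe12 ye20 ze8) (ke xe15 ye26 ze8) (ke xe21 ye21 ze15)) (@D3.rec (fun _ => Pt) (ke xe21 ye8 ze30) (ke xe21 ye34 ze19) (ke xe11 ye52 ze7) (ke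 xe21 ye34 ze24) (ke xe6 ye27 ze53) (ke xe21 ye21 ze46) (ke xe7 ye31 ze34) (ke xe21 ye34 ze26) (ke xe6 ye27 ze55) (ke xe13 ye54 ze13) (ke xe21 ye34 ze30) (ke xe21 ye34 ze33) (ke xe13 ye53 ze6) (ke xe21 ye21 ze52) (ke xe21 ye34 ze38) (ke xe6 ye27 ze58) (ke xe20 ye16 ze8) (ke xe20 ye16 ze25) (ke xe17 ye55 ze51) (ke xe21 ye33 ze12) (ke xe21 ye34 ze45) (ke xe21 ye34 ze48) (ke xe6 ye28 ze0) (ke xe21 ye34 ze52) (ke xe20 ye39 ze61) (ke xe18 ye25 ze34) (ke xe21 ye34 ze57) (ke xe17 ye5 ze3) (ke xe20 ye15 ze0) (ke xe21 ye31 ze40) (ke xe18 ye29 ze41) (ke xe9 ye32 ze59) (ke xe18 ye20 ze52) (ke xe12 ye58 ze18) (ke xe18 ye38 ze29) (ke xe6 ye47 ze53) (ke xe11 ye12 ze13) (ke xe6 ye28 ze8) (ke xe6 ye43 ze55) (ke xe18 ye24 ze60) (ke xe21 ye34 ze61) (ke xe21 ye35 ze0) (ke xe6 ye28 ze11)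 (ke xe14 ye37 ze29) (ke xe21 ye35 ze2) (ke xe6 ye28 ze12) (ke xe18 ye25 ze2) (ke xe6 ye28 ze13) (ke xe6 ye28 ze14) (ke xe6 ye28 ze15) (ke xe6 ye28 ze17) (ke xe21 ye35 ze4) (ke xe20 ye37 ze40) (ke xe6 ye38 ze46) (ke xe21 ye35 ze5) (ke xe6 ye28 ze22) (ke xe6 ye28 ze25) (ke xe12 ye14 ze1) (ke xe20 ye38 ze3) (ke xe6 ye28 ze28) (ke xe21 ye20 ze28) (ke xe9 ye21 ze59)) (@D3.rec (fun _ => Pt) (ke xe6 ye28 ze32) (ke xe6 ye28 ze35) (ke xe6 ye28 ze39) (ke xe6 ye28 ze40) (ke xe6 ye38 ze30) (ke xe21 ye35 ze10) (ke xe21 ye35 ze9) (ke xe12 ye14 ze12) (ke xe9 ye49 ze9) (ke xe6 ye28 ze45) (ke xe12 ye4 ze45) (ke xe10 ye14 ze10) (ke xe21 ye35 ze14) (ke xe6 ye28 ze44) (ke xe12 ye17 ze60) (ke xe6 ye28 ze48) (ke xe20 ye37 ze57) (ke xe6 ye28 ze51) (ke xe21 ye7 ze42) (ke xe6 ye28 ze54) (ke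 xe12 ye29 ze26) (ke xe12 ye39 ze38) (ke xe6 ye28 ze59) (ke xe18 ye25 ze5) (ke xe9 ye11 ze19) (ke xe12 ye53 ze24) (ke xe12 ye38 ze42) (ke xe12 ye4 ze58) (ke xe21 ye35 ze19) (ke xe21 ye9 ze48) (ke xe18 ye20 ze32) (ke xe6 ye29 ze3) (ke xe15 ye43 ze11) (ke xe9 ye15 ze45) (ke xe6 ye29 ze6) (ke xe21 ye35 ze27) (ke xe6 ye29 ze7) (ke xe7 ye21 ze5) (ke xe6 ye50 ze47) (ke xe6 ye29 ze46) (ke xe6 ye29 ze28) (ke xe16 ye3 ze48) (ke xe13 ye31 ze4) (ke xe6 ye29 ze10) (ke xe16 ye3 ze49) (ke xe6 ye49 ze7) (ke xe6 ye40 ze58) (ke xe12 ye14 ze30) (ke xe7 ye31 ze20) (ke xe12 ye35 ze41) (ke xe6 ye29 ze16) (ke xe21 ye4 ze2) (ke xe12 ye3 ze2) (ke xe17 ye16 ze40) (ke xe6 ye29 ze21) (ke xe6 ye29 ze22) (ke xe21 ye35 ze40) (ke xe21 ye35 ze42) (ke xe6 ye29 ze26) (ke xe12 ye12 ze58) (ke xe21 ye35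 ze47) (ke xe21 ye35 ze48)) (@D3.rec (fun _ => Pt) (ke xe6 ye29 ze24) (ke xe10 ye23 ze13) (ke xe14 ye59 ze44) (ke xe21 ye15 ze13) (ke xe21 ye35 ze51) (ke xe21 ye35 ze53) (ke xe6 ye29 ze29) (ke xe12 ye31 ze60) (ke xe7 ye27 ze19) (ke xe6 ye29 ze34) (ke xe12 ye4 ze19) (ke xe13 ye3 ze21) (ke xe8 ye14 ze50) (ke xe6 ye31 ze29) (ke xe6 ye29 ze42) (ke xe20 ye54 ze36) (ke xe21 ye35 ze60) (ke xe21 ye36 ze0) (ke xe6 ye29 ze41) (ke xe21 ye36 ze1) (ke xe21 ye1 ze51) (ke xe9 ye46 ze22) (ke xe17 ye13 ze39) (ke xe21 ye36 ze7) (ke xe6 ye29 ze47) (ke xe19 ye0 ze43) (ke xe12 ye28 ze20) (ke xe6 ye35 ze18) (ke xe7 ye31 ze53) (ke xe7 ye31 ze26) (ke xe21 ye36 ze10) (ke xe21 ye36 ze13) (ke xe6 ye29 ze54) (ke xe21 ye36 ze18) (ke xe16 ye7 ze38) (ke xe21 ye36 ze22) (ke xe6 ye29 ze55) (ke xe12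 ye3 ze4) (ke xe21 ye36 ze25) (ke xe12 ye35 ze40) (ke xe6 ye36 ze60) (ke xe9 ye47 ze29) (ke xe9 ye47 ze56) (ke xe21 ye3 ze13) (ke xe6 ye30 ze3) (ke xe9 ye47 ze43) (ke xe10 ye0 ze13) (ke xe8 ye14 ze35) (ke xe12 ye25 ze41) (ke xe12 ye17 ze29) (ke xe6 ye31 ze20) (ke xe6 ye30 ze30) (ke xe6 ye49 ze55) (ke xe12 ye25 ze51) (ke xe7 ye27 ze24) (ke xe18 ye43 ze31) (ke xe17 ye8 ze28) (ke xe21 ye36 ze36) (ke xe6 ye30 ze11) (ke xe8 ye14 ze46) (ke xe12 ye4 ze17) (ke xe12 ye25 ze38)) (@D3.rec (fun _ => Pt) (ke xe8 ye35 ze35) (ke xe11 ye30 ze15) (ke xe11 ye28 ze28) (ke xe10 ye55 ze2) (ke xe6 ye30 ze21) (ke xe10 ye44 ze19) (ke xe21 ye36 ze42) (ke xe10 ye53 ze57) (ke xe20 ye26 ze4) (ke xe11 ye30 ze42) (ke xe11 ye31 ze54) (ke xe11 ye30 ze23) (ke xe9 ye18 ze33) (ke xe6 ye30 ze32) (ke xe21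 ye36 ze40) (ke xe10 ye5 ze18) (ke xe10 ye4 ze57) (ke xe6 ye30 ze38) (ke xe10 ye18 ze18) (ke xe6 ye30 ze39) (ke xe6 ye30 ze42) (ke xe9 ye2 ze19) (ke xe11 ye20 ze17) (ke xe6 ye30 ze48) (ke xe6 ye30 ze50) (ke xe21 ye20 ze51) (ke xe11 ye48 ze12) (ke xe10 ye59 ze50) (ke xe6 ye46 ze15) (ke xe6 ye30 ze52) (ke xe6 ye30 ze53) (ke xe20 ye50 ze7) (ke xe12 ye17 ze28) (ke xe16 ye59 ze3) (ke xe9 ye39 ze11) (ke xe17 ye43 ze3) (ke xe6 ye31 ze3) (ke xe8 ye40 ze39) (ke xe14 ye4 ze46) (ke xe17 ye29 ze56) (ke xe21 ye34 ze1) (ke xe21 ye37 ze9) (ke xe9 ye36 ze6) (ke xe21 ye37 ze13) (ke xe9 ye35 ze54) (ke xe21 ye36 ze61) (ke xe15 ye19 ze50) (ke xe16 ye33 ze25) (ke xe21 ye37 ze15) (ke xe6 ye31 ze4) (ke xe11 ye46 ze45) (ke xe21 ye37 ze17) (ke xe6 ye31 ze8) (ke xe6 ye31 ze9) (ke xe21 ye37 ze19)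 (ke xe6 ye31 ze10) (ke xe10 ye18 ze49) (ke xe6 ye31 ze11) (ke xe21 ye37 ze22) (ke xe16 ye44 ze51) (ke xe14 ye8 ze1) (ke xe19 ye39 ze8)) (@D3.rec (fun _ => Pt) (ke xe12 ye11 ze2) (ke xe14 ye8 ze9) (ke xe11 ye58 ze19) (ke xe21 ye37 ze26) (ke xe19 ye37 ze7) (ke xe18 ye42 ze14) (ke xe6 ye31 ze23) (ke xe21 ye37 ze27) (ke xe19 ye52 ze40) (ke xe10 ye48 ze13) (ke xe6 ye31 ze25) (ke xe17 ye12 ze13) (ke xe14 ye4 ze43) (ke xe17 ye8 ze44) (ke xe6 ye31 ze28) (ke xe11 ye58 ze25) (ke xe11 ye39 ze49) (ke xe20 ye19 ze25) (ke xe6 ye31 ze34) (ke xe21 ye37 ze28) (ke xe6 ye31 ze40) (ke xe12 ye19 ze21) (ke xe13 ye0 ze45) (ke xe21 ye37 ze32) (ke xe14 ye4 ze33) (ke xe18 ye25 ze45) (ke xe21 ye9 ze59) (ke xe21 ye37 ze34) (ke xe21 ye37 ze35) (ke xe6 ye31 ze46) (ke xe21 ye37 ze36) (ke xe6 ye31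 ze47) (ke xe21 ye37 ze37) (ke xe19 ye59 ze50) (ke xe6 ye31 ze48) (ke xe21 ye37 ze41) (ke xe21 ye37 ze43) (ke xe21 ye37 ze39) (ke xe6 ye31 ze51) (ke xe20 ye19 ze54) (ke xe6 ye31 ze55) (ke xe9 ye48 ze61) (ke xe9 ye45 ze43) (ke xe9 ye49 ze0) (ke xe21 ye37 ze45) (ke xe21 ye37 ze46) (ke xe6 ye31 ze60) (ke xe21 ye37 ze48) (ke xe6 ye42 ze6) (ke xe21 ye37 ze53) (ke xe21 ye37 ze56) (ke xe17 ye53 ze35) (ke xe6 ye32 ze1) (ke xe21 ye37 ze57) (ke xe21 ye37 ze59) (ke xe11 ye49 ze61) (ke xe6 ye32 ze2) (ke xe20 ye19 ze57) (ke xe6 ye32 ze12) (ke xe9 ye44 ze25) (ke xe12 ye29 ze7) (ke xe18 ye24 ze56)) (@D3.rec (fun _ => Pt) (ke xe21 ye38 ze2) (ke xe6 ye32 ze5) (ke xe21 ye38 ze4) (ke xe6 ye32 ze6) (ke xe21 ye38 ze5) (ke xe19 ye25 ze8) (ke xe10 ye57 ze10) (ke xe20 ye24 ze15) (ke xe20 ye25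 ze2) (ke xe11 ye1 ze40) (ke xe8 ye46 ze49) (ke xe21 ye28 ze49) (ke xe21 ye38 ze12) (ke xe20 ye20 ze27) (ke xe8 ye0 ze14) (ke xe21 ye38 ze14) (ke xe21 ye38 ze16) (ke xe6 ye32 ze16) (ke xe18 ye23 ze30) (ke xe21 ye38 ze20) (ke xe6 ye32 ze17) (ke xe20 ye12 ze27) (ke xe12 ye15 ze29) (ke xe11 ye1 ze56) (ke xe6 ye32 ze20) (ke xe21 ye17 ze46) (ke xe11 ye40 ze23) (ke xe16 ye49 ze31) (ke xe12 ye49 ze2) (ke xe8 ye58 ze16) (ke xe12 ye49 ze3) (ke xe6 ye33 ze11) (ke xe14 ye10 ze58) (ke xe21 ye38 ze31) (ke xe21 ye38 ze34) (ke xe21 ye38 ze38) (ke xe6 ye32 ze30) (ke xe12 ye11 ze13) (ke xe6 ye33 ze26) (ke xe18 ye53 ze8) (ke xe12 ye52 ze17) (ke xe6 ye50 ze48) (ke xe7 ye42 ze53) (ke xe21 ye38 ze45) (ke xe12 ye11 ze16) (ke xe9 ye30 ze49) (ke xe7 ye43 ze18) (ke xe18 ye36 ze26) (ke xe21 ye38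 ze50) (ke xe6 ye32 ze36) (ke xe12 ye51 ze3) (ke xe9 ye11 ze34) (ke xe9 ye28 ze59) (ke xe9 ye28 ze60) (ke xe10 ye3 ze0) (ke xe17 ye25 ze33) (ke xe6 ye32 ze44) (ke xe14 ye36 ze29) (ke xe21 ye38 ze54) (ke xe14 ye11 ze5) (ke xe17 ye4 ze15) (ke xe21 ye38 ze56)) (@D3.rec (fun _ => Pt) (ke xe21 ye38 ze57) (ke xe6 ye32 ze48) (ke xe6 ye32 ze49) (ke xe21 ye38 ze60) (ke xe6 ye32 ze52) (ke xe21 ye39 ze0) (ke xe21 ye39 ze5) (ke xe20 ye44 ze13) (ke xe6 ye32 ze54) (ke xe6 ye32 ze55) (ke xe17 ye19 ze43) (ke xe18 ye54 ze50) (ke xe19 ye31 ze4) (ke xe21 ye39 ze12) (ke xe17 ye12 ze6) (ke xe15 ye47 ze21) (ke xe17 ye17 ze60) (ke xe6 ye33 ze5) (ke xe19 ye38 ze55) (ke xe8 ye19 ze45) (ke xe16 ye29 ze6) (ke xe17 ye27 ze25) (ke xe21 ye39 ze30) (ke xe21 ye39 ze31) (ke xe6 ye33 ze3) (ke xe15 ye46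 ze39) (ke xe18 ye51 ze23) (ke xe21 ye39 ze40) (ke xe21 ye39 ze43) (ke xe21 ye39 ze19) (ke xe10 ye50 ze46) (ke xe21 ye39 ze49) (ke xe21 ye39 ze51) (ke xe11 ye35 ze39) (ke xe6 ye33 ze7) (ke xe21 ye39 ze54) (ke xe6 ye33 ze8) (ke xe6 ye33 ze9) (ke xe11 ye55 ze60) (ke xe7 ye32 ze31) (ke xe9 ye47 ze35) (ke xe21 ye39 ze57) (ke xe20 ye19 ze42) (ke xe17 ye10 ze41) (ke xe16 ye46 ze27) (ke xe21 ye39 ze60) (ke xe15 ye55 ze25) (ke xe6 ye33 ze13) (ke xe8 ye12 ze36) (ke xe8 ye57 ze54) (ke xe12 ye11 ze35) (ke xe8 ye23 ze37) (ke xe12 ye0 ze10) (ke xe6 ye33 ze19) (ke xe6 ye33 ze20) (ke xe7 ye39 ze35) (ke xe6 ye33 ze23) (ke xe21 ye40 ze7) (ke xe20 ye40 ze34) (ke xe13 ye9 ze53) (ke xe13 ye11 ze47) (ke xe21 ye40 ze13)) (@D3.rec (fun _ => Pt) (ke xe6 ye33 ze28) (ke xe13 ye43 ze12) (ke xe14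 ye26 ze11) (ke xe21 ye40 ze21) (ke xe14 ye26 ze0) (ke xe14 ye18 ze9) (ke xe6 ye43 ze22) (ke xe21 ye40 ze23) (ke xe21 ye40 ze25) (ke xe19 ye25 ze30) (ke xe6 ye33 ze34) (ke xe8 ye29 ze15) (ke xe6 ye33 ze37) (ke xe21 ye40 ze29) (ke xe21 ye40 ze30) (ke xe6 ye33 ze39) (ke xe21 ye40 ze31) (ke xe21 ye40 ze32) (ke xe6 ye33 ze40) (ke xe21 ye40 ze38) (ke xe7 ye32 ze46) (ke xe7 ye44 ze29) (ke xe6 ye35 ze58) (ke xe21 ye40 ze45) (ke xe21 ye40 ze46) (ke xe12 ye16 ze49) (ke xe21 ye40 ze49) (ke xe10 ye33 ze8) (ke xe6 ye41 ze30) (ke xe16 ye7 ze7) (ke xe6 ye33 ze51) (ke xe13 ye44 ze46) (ke xe12 ye39 ze0) (ke xe21 ye18 ze57) (ke xe10 ye32 ze35) (ke xe21 ye40 ze52) (ke xe21 ye41 ze0) (ke xe6 ye33 ze52) (ke xe6 ye33 ze53) (ke xe6 ye33 ze55) (ke xe6 ye33 ze56) (ke xe6 ye33 ze57) (ke xe17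 ye52 ze7) (ke xe21 ye41 ze6) (ke xe21 ye41 ze8) (ke xe21 ye41 ze9) (ke xe6 ye33 ze60) (ke xe20 ye52 ze14) (ke xe18 ye6 ze4) (ke xe21 ye41 ze12) (ke xe6 ye34 ze5) (ke xe21 ye41 ze13) (ke xe6 ye34 ze6) (ke xe6 ye34 ze7) (ke xe21 ye41 ze20) (ke xe21 ye41 ze23) (ke xe7 ye43 ze61) (ke xe7 ye44 ze7) (ke xe7 ye5 ze32) (ke xe18 ye37 ze8) (ke xe6 ye34 ze13) (ke xe21 ye41 ze27)) (@D3.rec (fun _ => Pt) (ke xe21 ye41 ze28) (ke xe6 ye34 ze14) (ke xe11 ye58 ze58) (ke xe21 ye41 ze29) (ke xe21 ye41 ze31) (ke xe6 ye34 ze17) (ke xe12 ye39 ze33) (ke xe6 ye34 ze18) (ke xe9 ye57 ze6) (ke xe21 ye41 ze34) (ke xe18 ye33 ze46) (ke xe21 ye41 ze35) (ke xe6 ye34 ze23) (ke xe21 ye41 ze36) (ke xe6 ye34 ze26) (ke xe20 ye34 ze17) (ke xe21 ye41 ze39) (ke xe17 ye29 ze26) (ke xe6 ye34 ze27) (ke xe20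 ye51 ze28) (ke xe21 ye41 ze42) (ke xe6 ye34 ze29) (ke xe6 ye36 ze40) (ke xe14 ye11 ze37) (ke xe11 ye45 ze20) (ke xe21 ye41 ze49) (ke xe6 ye36 ze43) (ke xe7 ye44 ze44) (ke xe17 ye16 ze26) (ke xe6 ye34 ze32) (ke xe21 ye20 ze52) (ke xe21 ye30 ze53) (ke xe6 ye34 ze33) (ke xe17 ye41 ze56) (ke xe8 ye40 ze9) (ke xe6 ye34 ze43) (ke xe21 ye41 ze11) (ke xe18 ye50 ze13) (ke xe16 ye14 ze53) (ke xe6 ye34 ze36) (ke xe12 ye29 ze39) (ke xe12 ye28 ze49) (ke xe21 ye42 ze4) (ke xe6 ye34 ze38) (ke xe21 ye42 ze6) (ke xe6 ye34 ze39) (ke xe21 ye24 ze0) (ke xe21 ye42 ze9) (ke xe21 ye42 ze10) (ke xe6 ye34 ze41) (ke xe11 ye59 ze53) (ke xe21 ye42 ze12) (ke xe17 ye35 ze18) (ke xe21 ye42 ze0) (ke xe21 ye42 ze16) (ke xe13 ye9 ze58) (ke xe21 ye42 ze19) (ke xe17 ye50 ze59) (ke xe6 ye34 ze44) (ke xe21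 ye42 ze25) (ke xe6 ye34 ze45) (ke xe18 ye38 ze19)) (@D3.rec (fun _ => Pt) (ke xe12 ye38 ze57) (ke xe18 ye0 ze7) (ke xe6 ye34 ze50) (ke xe21 ye19 ze40) (ke xe20 ye15 ze57) (ke xe6 ye34 ze54) (ke xe7 ye39 ze10) (ke xe18 ye49 ze47) (ke xe6 ye34 ze59) (ke xe6 ye35 ze8) (ke xe6 ye35 ze0) (ke xe6 ye35 ze1) (ke xe6 ye35 ze2) (ke xe21 ye41 ze43) (ke xe14 ye11 ze28) (ke xe21 ye7 ze2) (ke xe6 ye35 ze4) (ke xe11 ye18 ze40) (ke xe6 ye35 ze5) (ke xe13 ye27 ze44) (ke xe11 ye12 ze12) (ke xe21 ye42 ze38) (ke xe6 ye35 ze7) (ke xe12 ye38 ze48) (ke xe21 ye9 ze40) (ke xe20 ye12 ze58) (ke xe21 ye18 ze39) (ke xe21 ye42 ze43) (ke xe21 ye25 ze57) (ke xe21 ye42 ze44) (ke xe6 ye35 ze11) (ke xe6 ye35 ze13) (ke xe6 ye35 ze14) (ke xe6 ye35 ze15) (ke xe21 ye42 ze50) (ke xe20 ye46 ze30) (ke xe21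 ye42 ze48) (ke xe6 ye37 ze46) (ke xe6 ye35 ze20) (ke xe6 ye37 ze50) (ke xe18 ye15 ze15) (ke xe9 ye19 ze6) (ke xe21 ye42 ze54) (ke xe21 ye33 ze17) (ke xe21 ye42 ze51) (ke xe21 ye42 ze59) (ke xe17 ye29 ze0) (ke xe12 ye58 ze31) (ke xe8 ye21 ze43) (ke xe12 ye0 ze5) (ke xe13 ye15 ze56) (ke xe21 ye43 ze6) (ke xe9 ye55 ze50) (ke xe20 ye51 ze29) (ke xe6 ye36 ze22) (ke xe10 ye22 ze47) (ke xe11 ye38 ze44) (ke xe6 ye36 ze51) (ke xe6 ye35 ze30) (ke xe6 ye36 ze59) (ke xe9 ye56 ze60) (ke xe21 ye43 ze16)) (@D3.rec (fun _ => Pt) (ke xe21 ye43 ze17) (ke xe16 ye9 ze9) (ke xe21 ye43 ze12) (ke xe21 ye43 ze23) (ke xe8 ye21 ze8) (ke xe8 ye20 ze47) (ke xe12 ye16 ze48) (ke xe6 ye41 ze33) (ke xe21 ye43 ze32) (ke xe8 ye21 ze26) (ke xe12 ye53 ze0) (ke xe15 ye49 ze31) (ke xe21 ye25 ze58) (ke xe21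 ye43 ze36) (ke xe6 ye35 ze37) (ke xe11 ye44 ze7) (ke xe6 ye35 ze38) (ke xe8 ye50 ze29) (ke xe10 ye3 ze37) (ke xe7 ye44 ze36) (ke xe12 ye14 ze10) (ke xe21 ye35 ze30) (ke xe6 ye35 ze41) (ke xe6 ye38 ze32) (ke xe17 ye56 ze54) (ke xe21 ye43 ze49) (ke xe21 ye43 ze46) (ke xe6 ye35 ze42) (ke xe20 ye58 ze15) (ke xe6 ye35 ze43) (ke xe21 ye43 ze55) (ke xe18 ye24 ze47) (ke xe21 ye38 ze58) (ke xe21 ye43 ze59) (ke xe21 ye43 ze60) (ke xe6 ye35 ze46) (ke xe21 ye44 ze1) (ke xe6 ye35 ze47) (ke xe6 ye35 ze48) (ke xe21 ye44 ze5) (ke xe21 ye44 ze4) (ke xe21 ye40 ze34) (ke xe6 ye35 ze50) (ke xe10 ye13 ze34) (ke xe21 ye44 ze10) (ke xe21 ye44 ze7) (ke xe17 ye4 ze17) (ke xe18 ye24 ze37) (ke xe6 ye35 ze52) (ke xe6 ye35 ze53) (ke xe6 ye35 ze57) (ke xe7 ye44 ze30) (ke xe21 ye44 ze15) (ke xe21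 ye44 ze18) (ke xe21 ye28 ze52) (ke xe6 ye35 ze55) (ke xe21 ye26 ze27) (ke xe21 ye44 ze25) (ke xe21 ye44 ze27) (ke xe6 ye35 ze56) (ke xe15 ye24 ze18) (ke xe21 ye44 ze30)) (@D3.rec (fun _ => Pt) (ke xe8 ye50 ze27) (ke xe17 ye26 ze42) (ke xe21 ye44 ze33) (ke xe6 ye35 ze60) (ke xe16 ye49 ze37) (ke xe13 ye27 ze41) (ke xe6 ye36 ze7) (ke xe21 ye44 ze39) (ke xe12 ye8 ze60) (ke xe12 ye53 ze3) (ke xe7 ye6 ze14) (ke xe17 ye22 ze60) (ke xe17 ye34 ze54) (ke xe21 ye44 ze45) (ke xe6 ye36 ze2) (ke xe6 ye36 ze3) (ke xe21 ye44 ze48) (ke xe11 ye27 ze20) (ke xe21 ye44 ze51) (ke xe6 ye36 ze5) (ke xe6 ye49 ze0) (ke xe21 ye28 ze34) (ke xe7 ye56 ze60) (ke xe6 ye36 ze8) (ke xe12 ye25 ze22) (ke xe21 ye44 ze56) (ke xe21 ye40 ze47) (ke xe10 ye22 ze39) (ke xe18 ye0 ze47) (ke xe6 ye58 ze21) (ke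 xe6 ye36 ze11) (ke xe12 ye47 ze35) (ke xe17 ye51 ze33) (ke xe12 ye58 ze47) (ke xe16 ye48 ze14) (ke xe6 ye36 ze13) (ke xe19 ye50 ze0) (ke xe6 ye37 ze43) (ke xe12 ye47 ze42) (ke xe21 ye22 ze4) (ke xe6 ye36 ze16) (ke xe20 ye22 ze8) (ke xe12 ye28 ze26) (ke xe6 ye36 ze23) (ke xe6 ye36 ze24) (ke xe11 ye22 ze0) (ke xe6 ye36 ze49) (ke xe6 ye41 ze14) (ke xe12 ye36 ze23) (ke xe21 ye45 ze2) (ke xe6 ye36 ze28) (ke xe12 ye46 ze29) (ke xe6 ye37 ze0) (ke xe21 ye45 ze6) (ke xe18 ye57 ze4) (ke xe20 ye41 ze3) (ke xe21 ye45 ze9) (ke xe12 ye36 ze0) (ke xe12 ye42 ze22) (ke xe6 ye38 ze7) (ke xe21 ye45 ze12) (ke xe8 ye21 ze7)) (@D3.rec (fun _ => Pt) (ke xe12 ye34 ze32) (ke xe6 ye58 ze61) (ke xe12 ye0 ze47) (ke xe21 ye45 ze26) (ke xe8 ye34 ze23) (ke xe11 ye40 ze10) (ke xe21 ye45 ze28) (ke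 xe21 ye22 ze13) (ke xe20 ye23 ze17) (ke xe6 ye36 ze38) (ke xe21 ye41 ze45) (ke xe6 ye36 ze41) (ke xe8 ye25 ze38) (ke xe21 ye20 ze39) (ke xe21 ye41 ze52) (ke xe21 ye45 ze31) (ke xe6 ye36 ze44) (ke xe17 ye7 ze18) (ke xe12 ye58 ze46) (ke xe19 ye53 ze25) (ke xe11 ye38 ze42) (ke xe20 ye51 ze31) (ke xe6 ye36 ze50) (ke xe11 ye38 ze45) (ke xe12 ye58 ze48) (ke xe21 ye45 ze1) (ke xe17 ye5 ze38) (ke xe17 ye34 ze51) (ke xe20 ye19 ze21) (ke xe8 ye27 ze32) (ke xe17 ye29 ze28) (ke xe6 ye37 ze41) (ke xe10 ye7 ze8) (ke xe12 ye35 ze6) (ke xe6 ye36 ze54) (ke xe21 ye45 ze43) (ke xe21 ye45 ze46) (ke xe7 ye31 ze24) (ke xe12 ye28 ze21) (ke xe21 ye45 ze49) (ke xe21 ye45 ze53) (ke xe6 ye36 ze56) (ke xe21 ye45 ze57) (ke xe6 ye36 ze57) (ke xe21 ye31 ze35) (ke xe6 ye37 ze5) (ke xe21 ye46 ze1)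 (ke xe21 ye26 ze41) (ke xe21 ye10 ze10) (ke xe13 ye0 ze36) (ke xe6 ye36 ze61) (ke xe17 ye59 ze16) (ke xe18 ye0 ze10) (ke xe12 ye17 ze24) (ke xe17 ye34 ze61) (ke xe21 ye46 ze10) (ke xe6 ye37 ze2) (ke xe21 ye33 ze24) (ke xe21 ye46 ze14) (ke xe6 ye37 ze3) (ke xe15 ye49 ze16) (ke xe21 ye46 ze18)) (@D3.rec (fun _ => Pt) (ke xe6 ye37 ze4) (ke xe12 ye53 ze2) (ke xe8 ye17 ze26) (ke xe8 ye7 ze12) (ke xe21 ye46 ze27) (ke xe21 ye46 ze28) (ke xe6 ye37 ze6) (ke xe12 ye59 ze42) (ke xe6 ye37 ze7) (ke xe15 ye24 ze12) (ke xe12 ye59 ze43) (ke xe21 ye27 ze48) (ke xe17 ye13 ze50) (ke xe17 ye14 ze21) (ke xe21 ye46 ze38) (ke xe6 ye37 ze11) (ke xe21 ye46 ze39) (ke xe6 ye37 ze13) (ke xe16 ye3 ze51) (ke xe19 ye16 ze45) (ke xe12 ye41 ze56) (ke xe21 ye4 ze54) (ke xe21 ye46 ze43) (ke xe21 ye21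 ze54) (ke xe21 ye46 ze49) (ke xe12 ye12 ze42) (ke xe21 ye46 ze54) (ke xe7 ye54 ze18) (ke xe21 ye34 ze28) (ke xe12 ye0 ze54) (ke xe21 ye46 ze58) (ke xe15 ye44 ze28) (ke xe7 ye54 ze43) (ke xe21 ye46 ze61) (ke xe21 ye47 ze0) (ke xe6 ye37 ze21) (ke xe21 ye47 ze4) (ke xe21 ye47 ze5) (ke xe6 ye37 ze23) (ke xe18 ye15 ze35) (ke xe6 ye37 ze25) (ke xe6 ye39 ze18) (ke xe6 ye37 ze26) (ke xe6 ye37 ze27) (ke xe6 ye37 ze28) (ke xe9 ye7 ze12) (ke xe18 ye15 ze29) (ke xe18 ye0 ze0) (ke xe12 ye15 ze43) (ke xe6 ye37 ze32) (ke xe11 ye12 ze16) (ke xe20 ye16 ze45) (ke xe18 ye0 ze57) (ke xe6 ye37 ze35) (ke xe21 ye42 ze30) (ke xe12 ye16 ze16) (ke xe21 ye42 ze31) (ke xe6 ye41 ze2) (ke xe6 ye37 ze38) (ke xe12 ye16 ze15) (ke xe12 ye47 ze41) (ke xe21 ye47 ze18)) (@D3.rec (fun _ => Pt) (ke xe21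 ye42 ze47) (ke xe6 ye37 ze40) (ke xe14 ye26 ze58) (ke xe21 ye47 ze25) (ke xe6 ye37 ze45) (ke xe18 ye37 ze45) (ke xe9 ye25 ze29) (ke xe11 ye40 ze19) (ke xe20 ye44 ze51) (ke xe18 ye37 ze7) (ke xe21 ye47 ze33) (ke xe6 ye37 ze44) (ke xe7 ye50 ze37) (ke xe21 ye47 ze37) (ke xe11 ye44 ze57) (ke xe21 ye47 ze42) (ke xe16 ye14 ze15) (ke xe15 ye48 ze30) (ke xe6 ye37 ze47) (ke xe21 ye47 ze50) (ke xe21 ye47 ze52) (ke xe6 ye37 ze48) (ke xe21 ye47 ze57) (ke xe21 ye47 ze60) (ke xe6 ye37 ze57) (ke xe21 ye48 ze4) (ke xe17 ye5 ze4) (ke xe21 ye48 ze9) (ke xe21 ye48 ze11) (ke xe21 ye48 ze12) (ke xe21 ye48 ze17) (ke xe6 ye37 ze52) (ke xe20 ye4 ze22) (ke xe6 ye37 ze53) (ke xe9 ye14 ze37) (ke xe21 ye48 ze27) (ke xe12 ye2 ze56) (ke xe6 ye37 ze55) (ke xe17 ye51 ze57) (ke xe21 ye48 ze34) (ke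 xe6 ye37 ze56) (ke xe18 ye2 ze23) (ke xe15 ye53 ze56) (ke xe21 ye48 ze1) (ke xe21 ye48 ze45) (ke xe15 ye21 ze39) (ke xe6 ye37 ze58) (ke xe12 ye46 ze49) (ke xe12 ye55 ze9) (ke xe21 ye48 ze49) (ke xe6 ye37 ze59) (ke xe21 ye28 ze15) (ke xe6 ye41 ze24) (ke xe21 ye5 ze59) (ke xe21 ye48 ze56) (ke xe6 ye38 ze1) (ke xe12 ye40 ze20) (ke xe21 ye48 ze60) (ke xe21 ye49 ze1) (ke xe12 ye2 ze37) (ke xe21 ye45 ze10) (ke xe21 ye49 ze5)) (@D3.rec (fun _ => Pt) (ke xe16 ye4 ze41) (ke xe21 ye49 ze10) (ke xe12 ye16 ze61) (ke xe21 ye49 ze15) (ke xe16 ye4 ze40) (ke xe12 ye1 ze3) (ke xe21 ye49 ze22) (ke xe21 ye49 ze24) (ke xe21 ye49 ze26) (ke xe21 ye49 ze28) (ke xe6 ye38 ze11) (ke xe21 ye49 ze32) (ke xe6 ye38 ze13) (ke xe6 ye38 ze14) (ke xe6 ye38 ze15) (ke xe12 ye2 ze47) (ke xe21 ye43 ze44)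 (ke xe6 ye40 ze2) (ke xe17 ye5 ze46) (ke xe6 ye38 ze18) (ke xe21 ye7 ze20) (ke xe18 ye16 ze2) (ke xe12 ye38 ze58) (ke xe21 ye21 ze37) (ke xe14 ye18 ze56) (ke xe21 ye49 ze40) (ke xe6 ye38 ze23) (ke xe16 ye33 ze15) (ke xe6 ye38 ze27) (ke xe21 ye35 ze8) (ke xe21 ye49 ze44) (ke xe21 ye49 ze47) (ke xe9 ye33 ze4) (ke xe6 ye38 ze25) (ke xe17 ye10 ze2) (ke xe21 ye49 ze50) (ke xe12 ye2 ze7) (ke xe6 ye38 ze26) (ke xe9 ye29 ze48) (ke xe21 ye49 ze54) (ke xe18 ye7 ze57) (ke xe21 ye22 ze31) (ke xe20 ye38 ze16) (ke xe12 ye59 ze45) (ke xe6 ye38 ze29) (ke xe18 ye25 ze44) (ke xe8 ye37 ze4) (ke xe18 ye20 ze56) (ke xe6 ye38 ze35) (ke xe21 ye22 ze36) (ke xe12 ye53 ze1) (ke xe12 ye52 ze28) (ke xe18 ye7 ze58) (ke xe21 ye50 ze11) (ke xe21 ye50 ze13) (ke xe6 ye38 ze36) (ke xe11 ye43 ze44) (ke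 xe6 ye38 ze37) (ke xe13 ye0 ze28) (ke xe12 ye14 ze4) (ke xe6 ye40 ze13) (ke xe17 ye5 ze43)) (@D3.rec (fun _ => Pt) (ke xe11 ye22 ze45) (ke xe9 ye55 ze43) (ke xe9 ye55 ze45) (ke xe11 ye51 ze14) (ke xe12 ye4 ze41) (ke xe21 ye50 ze18) (ke xe20 ye38 ze29) (ke xe15 ye24 ze48) (ke xe6 ye38 ze44) (ke xe21 ye43 ze38) (ke xe21 ye50 ze21) (ke xe6 ye38 ze49) (ke xe21 ye22 ze37) (ke xe18 ye2 ze22) (ke xe9 ye42 ze16) (ke xe6 ye38 ze48) (ke xe18 ye2 ze2) (ke xe21 ye50 ze33) (ke xe19 ye37 ze44) (ke xe21 ye50 ze38) (ke xe21 ye50 ze40) (ke xe6 ye38 ze50) (ke xe12 ye55 ze0) (ke xe6 ye38 ze51) (ke xe6 ye38 ze52) (ke xe21 ye50 ze41) (ke xe6 ye38 ze53) (ke xe9 ye49 ze35) (ke xe21 ye25 ze50) (ke xe21 ye50 ze44) (ke xe17 ye5 ze24) (ke xe6 ye38 ze57) (ke xe21 ye50 ze45) (ke xe6 ye38 ze60)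 (ke xe17 ye5 ze28) (ke xe6 ye38 ze59) (ke xe8 ye37 ze31) (ke xe16 ye14 ze16) (ke xe15 ye48 ze1) (ke xe6 ye39 ze0) (ke xe18 ye15 ze61) (ke xe12 ye23 ze20) (ke xe17 ye5 ze40) (ke xe18 ye25 ze24) (ke xe6 ye39 ze4) (ke xe17 ye5 ze42) (ke xe10 ye35 ze27) (ke xe6 ye39 ze3) (ke xe21 ye50 ze58) (ke xe21 ye50 ze55) (ke xe21 ye51 ze1) (ke xe7 ye44 ze21) (ke xe18 ye23 ze61) (ke xe6 ye39 ze9) (ke xe17 ye4 ze20) (ke xe18 ye16 ze14) (ke xe21 ye51 ze10) (ke xe6 ye39 ze7) (ke xe18 ye17 ze0) (ke xe21 ye51 ze11) (ke xe11 ye16 ze55) (ke xe6 ye39 ze8)) (@D3.rec (fun _ => Pt) (ke xe21 ye51 ze14) (ke xe20 ye15 ze39) (ke xe14 ye12 ze38) (ke xe20 ye14 ze30) (ke xe9 ye55 ze30) (ke xe6 ye39 ze11) (ke xe20 ye54 ze26) (ke xe21 ye51 ze21) (ke xe17 ye9 ze55) (ke xe21 ye51 ze23) (ke xe11 ye36 ze25)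 (ke xe13 ye57 ze11) (ke xe18 ye23 ze20) (ke xe6 ye39 ze16) (ke xe11 ye57 ze60) (ke xe16 ye30 ze21) (ke xe17 ye5 ze51) (ke xe9 ye24 ze31) (ke xe17 ye19 ze56) (ke xe12 ye54 ze61) (ke xe18 ye23 ze60) (ke xe21 ye51 ze36) (ke xe6 ye39 ze19) (ke xe20 ye15 ze16) (ke xe21 ye51 ze40) (ke xe6 ye39 ze32) (ke xe20 ye14 ze31) (ke xe9 ye49 ze17) (ke xe18 ye16 ze12) (ke xe17 ye5 ze60) (ke xe6 ye39 ze23) (ke xe21 ye51 ze44) (ke xe21 ye51 ze46) (ke xe17 ye19 ze59) (ke xe6 ye39 ze24) (ke xe17 ye6 ze7) (ke xe21 ye51 ze51) (ke xe21 ye51 ze52) (ke xe19 ye32 ze13) (ke xe6 ye39 ze26) (ke xe21 ye51 ze57) (ke xe6 ye39 ze27) (ke xe21 ye30 ze39) (ke xe6 ye39 ze28) (ke xe17 ye6 ze5) (ke xe21 ye51 ze61) (ke xe18 ye16 ze46) (ke xe21 ye9 ze33) (ke xe18 ye47 ze20) (ke xe21 ye52 ze4) (ke xe6 ye39 ze30)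 (ke xe11 ye28 ze4) (ke xe9 ye23 ze13) (ke xe17 ye3 ze1) (ke xe6 ye39 ze31) (ke xe21 ye52 ze10) (ke xe20 ye30 ze50) (ke xe21 ye51 ze42) (ke xe14 ye24 ze25) (ke xe21 ye52 ze13) (ke xe6 ye39 ze33) (ke xe6 ye39 ze34)) (@D3.rec (fun _ => Pt) (ke xe6 ye39 ze36) (ke xe21 ye35 ze33) (ke xe7 ye31 ze44) (ke xe11 ye36 ze40) (ke xe9 ye32 ze60) (ke xe18 ye36 ze37) (ke xe6 ye39 ze37) (ke xe17 ye35 ze22) (ke xe16 ye17 ze55) (ke xe7 ye31 ze48) (ke xe21 ye52 ze19) (ke xe21 ye52 ze20) (ke xe6 ye39 ze40) (ke xe9 ye7 ze9) (ke xe21 ye43 ze37) (ke xe20 ye22 ze18) (ke xe20 ye22 ze23) (ke xe20 ye9 ze53) (ke xe15 ye26 ze26) (ke xe6 ye39 ze45) (ke xe9 ye25 ze2) (ke xe20 ye33 ze32) (ke xe7 ye30 ze20) (ke xe7 ye36 ze23) (ke xe21 ye52 ze33) (ke xe9 ye27 ze2) (ke xe21 ye52 ze37) (ke xe6 ye39 ze48)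 (ke xe21 ye52 ze41) (ke xe21 ye52 ze44) (ke xe7 ye30 ze25) (ke xe21 ye52 ze49) (ke xe7 ye32 ze56) (ke xe21 ye52 ze53) (ke xe21 ye52 ze54) (ke xe21 ye44 ze47) (ke xe21 ye52 ze56) (ke xe20 ye8 ze61) (ke xe6 ye39 ze54) (ke xe12 ye25 ze13) (ke xe20 ye5 ze44) (ke xe20 ye35 ze0) (ke xe21 ye49 ze60) (ke xe6 ye39 ze56) (ke xe7 ye12 ze13) (ke xe6 ye39 ze57) (ke xe8 ye48 ze23) (ke xe6 ye52 ze20) (ke xe6 ye40 ze31) (ke xe18 ye35 ze56) (ke xe21 ye53 ze6) (ke xe6 ye39 ze59) (ke xe21 ye53 ze7) (ke xe21 ye7 ze55) (ke xe21 ye53 ze10) (ke xe21 ye53 ze14) (ke xe6 ye39 ze61) (ke xe11 ye31 ze41) (ke xe21 ye53 ze17) (ke xe6 ye40 ze42) (ke xe11 ye44 ze8) (ke xe20 ye16 ze9)) (@D3.rec (fun _ => Pt) (ke xe10 ye13 ze2) (ke xe10 ye13 ze5) (ke xe14 ye34 ze49) (ke xe21 ye53 ze26) (ke xe16 ye28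 ze28) (ke xe21 ye34 ze60) (ke xe12 ye16 ze19) (ke xe6 ye40 ze5) (ke xe21 ye53 ze30) (ke xe21 ye53 ze31) (ke xe6 ye40 ze8) (ke xe16 ye32 ze10) (ke xe12 ye2 ze40) (ke xe6 ye40 ze9) (ke xe20 ye8 ze48) (ke xe21 ye53 ze33) (ke xe21 ye53 ze34) (ke xe21 ye44 ze49) (ke xe20 ye14 ze36) (ke xe17 ye34 ze55) (ke xe6 ye40 ze15) (ke xe21 ye53 ze35) (ke xe6 ye40 ze18) (ke xe21 ye53 ze39) (ke xe8 ye51 ze15) (ke xe6 ye40 ze21) (ke xe13 ye38 ze39) (ke xe21 ye53 ze41) (ke xe21 ye9 ze30) (ke xe12 ye38 ze51) (ke xe6 ye40 ze23) (ke xe21 ye53 ze43) (ke xe21 ye52 ze60) (ke xe6 ye40 ze24) (ke xe14 ye45 ze15) (ke xe21 ye53 ze48) (ke xe17 ye30 ze40) (ke xe8 ye48 ze19) (ke xe12 ye12 ze27) (ke xe9 ye19 ze46) (ke xe18 ye38 ze28) (ke xe21 ye53 ze54) (ke xe6 ye40 ze29) (ke xe8 ye48 ze14) (ke xe10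 ye28 ze52) (ke xe6 ye40 ze33) (ke xe21 ye54 ze1) (ke xe20 ye15 ze53) (ke xe6 ye40 ze35) (ke xe12 ye41 ze47) (ke xe21 ye54 ze10) (ke xe18 ye2 ze24) (ke xe21 ye54 ze14) (ke xe6 ye40 ze37) (ke xe21 ye54 ze19) (ke xe6 ye40 ze39) (ke xe21 ye50 ze28) (ke xe21 ye54 ze23) (ke xe6 ye40 ze40) (ke xe21 ye53 ze20) (ke xe13 ye44 ze13) (ke xe21 ye36 ze29)) (@D3.rec (fun _ => Pt) (ke xe9 ye30 ze39) (ke xe11 ye43 ze50) (ke xe11 ye18 ze20) (ke xe21 ye54 ze28) (ke xe6 ye40 ze46) (ke xe20 ye37 ze38) (ke xe11 ye21 ze45) (ke xe10 ye22 ze50) (ke xe17 ye4 ze58) (ke xe20 ye24 ze51) (ke xe6 ye40 ze49) (ke xe21 ye33 ze21) (ke xe21 ye54 ze39) (ke xe6 ye40 ze50) (ke xe13 ye50 ze44) (ke xe20 ye49 ze25) (ke xe20 ye12 ze40) (ke xe9 ye20 ze58) (ke xe9 ye11 ze23) (ke xe21 ye35 ze32) (ke xe21 ye47 ze6)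 (ke xe21 ye54 ze43) (ke xe6 ye40 ze61) (ke xe17 ye4 ze30) (ke xe17 ye8 ze6) (ke xe21 ye54 ze45) (ke xe21 ye54 ze47) (ke xe6 ye41 ze3) (ke xe13 ye20 ze29) (ke xe20 ye15 ze15) (ke xe21 ye54 ze53) (ke xe6 ye41 ze4) (ke xe11 ye29 ze0) (ke xe17 ye5 ze8) (ke xe21 ye54 ze56) (ke xe12 ye38 ze31) (ke xe14 ye44 ze32) (ke xe6 ye41 ze6) (ke xe6 ye41 ze9) (ke xe12 ye16 ze46) (ke xe21 ye55 ze2) (ke xe12 ye40 ze60) (ke xe12 ye38 ze38) (ke xe6 ye41 ze12) (ke xe21 ye8 ze23) (ke xe21 ye55 ze7) (ke xe16 ye49 ze16) (ke xe21 ye48 ze30) (ke xe21 ye55 ze9) (ke xe6 ye41 ze15) (ke xe8 ye21 ze41) (ke xe8 ye21 ze24) (ke xe13 ye9 ze41) (ke xe18 ye17 ze45) (ke xe6 ye41 ze19) (ke xe7 ye28 ze13) (ke xe6 ye41 ze21) (ke xe21 ye0 ze43) (ke xe21 ye55 ze17) (ke xe21 ye55 ze18) (ke xe6 ye41 ze25) (ke xe21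 ye21 ze47)) (@D3.rec (fun _ => Pt) (ke xe21 ye14 ze20) (ke xe21 ye55 ze23) (ke xe6 ye41 ze45) (ke xe7 ye21 ze29) (ke xe21 ye55 ze27) (ke xe14 ye7 ze23) (ke xe7 ye1 ze25) (ke xe6 ye41 ze28) (ke xe7 ye25 ze32) (ke xe21 ye55 ze35) (ke xe6 ye41 ze31) (ke xe12 ye18 ze32) (ke xe21 ye55 ze40) (ke xe21 ye55 ze44) (ke xe21 ye55 ze31) (ke xe13 ye54 ze24) (ke xe21 ye55 ze50) (ke xe6 ye41 ze34) (ke xe6 ye41 ze35) (ke xe6 ye41 ze36) (ke xe21 ye55 ze58) (ke xe14 ye54 ze36) (ke xe21 ye56 ze1) (ke xe21 ye56 ze5) (ke xe6 ye41 ze37) (ke xe6 ye41 ze38) (ke xe21 ye56 ze9) (ke xe15 ye46 ze25) (ke xe21 ye55 ze20) (ke xe15 ye22 ze54) (ke xe16 ye3 ze59) (ke xe21 ye56 ze18) (ke xe6 ye41 ze41) (ke xe21 ye56 ze21) (ke xe12 ye13 ze8) (ke xe21 ye56 ze26) (ke xe21 ye56 ze27) (ke xe21 ye2 ze17) (ke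 xe6 ye41 ze43) (ke xe21 ye56 ze32) (ke xe21 ye56 ze34) (ke xe6 ye41 ze44) (ke xe14 ye4 ze5) (ke xe21 ye56 ze40) (ke xe21 ye56 ze42) (ke xe21 ye56 ze47) (ke xe6 ye41 ze46) (ke xe21 ye56 ze51) (ke xe6 ye41 ze47) (ke xe21 ye56 ze56) (ke xe6 ye41 ze48) (ke xe21 ye56 ze61) (ke xe6 ye41 ze49) (ke xe21 ye57 ze5) (ke xe21 ye57 ze8) (ke xe19 ye55 ze48) (ke xe21 ye57 ze9) (ke xe6 ye41 ze51) (ke xe18 ye43 ze25) (ke xe11 ye25 ze1) (ke xe14 ye50 ze4) (ke xe17 ye27 ze11)) (@D3.rec (fun _ => Pt) (ke xe17 ye34 ze22) (ke xe14 ye50 ze14) (ke xe12 ye32 ze28) (ke xe12 ye32 ze30) (ke xe9 ye29 ze31) (ke xe12 ye24 ze24) (ke xe11 ye59 ze42) (ke xe21 ye57 ze21) (ke xe21 ye57 ze22) (ke xe17 ye54 ze55) (ke xe6 ye42 ze2) (ke xe21 ye57 ze24) (ke xe21 ye57 ze25) (ke xe6 ye42 ze3) (ke xe6 ye42 ze4)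 (ke xe21 ye57 ze31) (ke xe6 ye49 ze38) (ke xe19 ye48 ze31) (ke xe6 ye46 ze17) (ke xe21 ye57 ze39) (ke xe21 ye37 ze49) (ke xe9 ye6 ze56) (ke xe19 ye46 ze45) (ke xe18 ye22 ze32) (ke xe19 ye33 ze46) (ke xe6 ye42 ze8) (ke xe9 ye11 ze5) (ke xe16 ye51 ze27) (ke xe17 ye5 ze61) (ke xe6 ye42 ze12) (ke xe17 ye55 ze1) (ke xe7 ye27 ze27) (ke xe20 ye6 ze43) (ke xe17 ye12 ze23) (ke xe20 ye28 ze7) (ke xe21 ye57 ze50) (ke xe21 ye57 ze52) (ke xe19 ye39 ze51) (ke xe6 ye42 ze15) (ke xe21 ye57 ze55) (ke xe6 ye42 ze25) (ke xe12 ye56 ze41) (ke xe17 ye30 ze1) (ke xe18 ye43 ze15) (ke xe16 ye41 ze18) (ke xe6 ye42 ze18) (ke xe6 ye50 ze11) (ke xe18 ye1 ze50) (ke xe19 ye40 ze12) (ke xe8 ye8 ze54) (ke xe9 ye12 ze14) (ke xe12 ye17 ze31) (ke xe10 ye45 ze7) (ke xe9 ye50 ze41) (ke xe9 ye50 ze42) (ke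 xe20 ye39 ze49) (ke xe21 ye57 ze56) (ke xe21 ye58 ze14) (ke xe21 ye58 ze15) (ke xe6 ye42 ze26) (ke xe16 ye30 ze44) (ke xe20 ye33 ze4)) (@D3.rec (fun _ => Pt) (ke xe6 ye42 ze28) (ke xe12 ye17 ze36) (ke xe12 ye19 ze20) (ke xe21 ye58 ze21) (ke xe6 ye42 ze32) (ke xe15 ye48 ze54) (ke xe17 ye30 ze19) (ke xe11 ye40 ze57) (ke xe9 ye30 ze34) (ke xe11 ye56 ze9) (ke xe15 ye23 ze28) (ke xe18 ye8 ze21) (ke xe7 ye20 ze9) (ke xe8 ye41 ze47) (ke xe6 ye42 ze39) (ke xe7 ye26 ze54) (ke xe21 ye19 ze53) (ke xe21 ye58 ze29) (ke xe18 ye7 ze7) (ke xe21 ye58 ze33) (ke xe6 ye42 ze44) (ke xe21 ye58 ze38) (ke xe21 ye33 ze49) (ke xe11 ye59 ze54) (ke xe17 ye30 ze60) (ke xe8 ye40 ze25) (ke xe21 ye58 ze46) (ke xe21 ye25 ze40) (ke xe19 ye35 ze60) (ke xe6 ye42 ze46) (ke xe21 ye58 ze51) (ke xe18 ye27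 ze58) (ke xe6 ye42 ze48) (ke xe21 ye58 ze52) (ke xe17 ye28 ze58) (ke xe17 ye14 ze50) (ke xe21 ye31 ze4) (ke xe6 ye42 ze50) (ke xe12 ye19 ze40) (ke xe21 ye33 ze9) (ke xe17 ye14 ze57) (ke xe21 ye31 ze3) (ke xe17 ye33 ze25) (ke xe21 ye59 ze7) (ke xe21 ye26 ze60) (ke xe15 ye49 ze46) (ke xe8 ye31 ze2) (ke xe17 ye43 ze44) (ke xe17 ye16 ze9) (ke xe17 ye16 ze5) (ke xe9 ye31 ze49) (ke xe12 ye0 ze50) (ke xe9 ye42 ze31) (ke xe21 ye59 ze18) (ke xe21 ye32 ze12) (ke xe21 ye59 ze24) (ke xe21 ye59 ze27) (ke xe21 ye59 ze29) (ke xe6 ye43 ze0) (ke xe18 ye36 ze33) (ke xe21 ye59 ze36) (ke xe21 ye59 ze39)) (@D3.rec (fun _ => Pt) (ke xe10 ye39 ze5) (ke xe6 ye43 ze1) (ke xe21 ye59 ze42) (ke xe12 ye32 ze50) (ke xe18 ye2 ze27) (ke xe16 ye26 ze15) (ke xe6 ye43 ze3) (ke xe21 ye54 ze3) (ke xe6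 ye43 ze4) (ke xe20 ye53 ze0) (ke xe12 ye56 ze40) (ke xe12 ye15 ze44) (ke xe20 ye6 ze50) (ke xe6 ye43 ze8) (ke xe21 ye44 ze2) (ke xe6 ye43 ze11) (ke xe6 ye43 ze12) (ke xe17 ye20 ze31) (ke xe21 ye59 ze56) (ke xe7 ye6 ze1) (ke xe6 ye43 ze16) (ke xe22 ye0 ze4) (ke xe18 ye49 ze4) (ke xe22 ye0 ze8) (ke xe22 ye0 ze2) (ke xe16 ye3 ze53) (ke xe9 ye17 ze36) (ke xe8 ye17 ze23) (ke xe21 ye10 ze3) (ke xe12 ye0 ze8) (ke xe21 ye0 ze14) (ke xe22 ye0 ze24) (ke xe6 ye43 ze19) (ke xe20 ye44 ze53) (ke xe20 ye49 ze15) (ke xe17 ye20 ze49) (ke xe22 ye0 ze31) (ke xe7 ye34 ze3) (ke xe8 ye30 ze36) (ke xe22 ye0 ze39) (ke xe17 ye24 ze33) (ke xe22 ye0 ze43) (ke xe6 ye43 ze25) (ke xe22 ye0 ze45) (ke xe19 ye25 ze37) (ke xe22 ye0 ze49) (ke xe6 ye43 ze35) (ke xe19 ye13 ze48) (ke xe21 ye15 ze60) (ke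 xe22 ye0 ze59) (ke xe22 ye0 ze60) (ke xe22 ye1 ze1) (ke xe6 ye43 ze30) (ke xe22 ye1 ze7) (ke xe6 ye43 ze32) (ke xe22 ye1 ze13) (ke xe22 ye1 ze17) (ke xe17 ye21 ze60) (ke xe6 ye43 ze33) (ke xe22 ye1 ze19) (ke xe22 ye1 ze22) (ke xe6 ye43 ze34)) (@D3.rec (fun _ => Pt) (ke xe22 ye1 ze28) (ke xe22 ye1 ze31) (ke xe22 ye0 ze52) (ke xe22 ye1 ze37) (ke xe22 ye1 ze38) (ke xe6 ye43 ze36) (ke xe22 ye1 ze42) (ke xe22 ye1 ze44) (ke xe6 ye43 ze38) (ke xe22 ye1 ze52) (ke xe22 ye1 ze53) (ke xe6 ye43 ze39) (ke xe8 ye23 ze22) (ke xe7 ye48 ze45) (ke xe15 ye33 ze25) (ke xe22 ye1 ze61) (ke xe6 ye43 ze41) (ke xe12 ye32 ze40) (ke xe17 ye21 ze35) (ke xe22 ye2 ze5) (ke xe9 ye16 ze20) (ke xe22 ye2 ze9) (ke xe8 ye21 ze2) (ke xe16 ye43 ze0) (ke xe6 ye43 ze46) (ke xe19 ye24 ze51) (ke xe6 ye43 ze47)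 (ke xe22 ye2 ze13) (ke xe12 ye42 ze51) (ke xe12 ye0 ze26) (ke xe22 ye2 ze20) (ke xe19 ye38 ze54) (ke xe22 ye2 ze23) (ke xe22 ye2 ze24) (ke xe20 ye55 ze33) (ke xe6 ye43 ze49) (ke xe22 ye2 ze26) (ke xe21 ye7 ze31) (ke xe6 ye47 ze52) (ke xe12 ye54 ze50) (ke xe6 ye47 ze60) (ke xe18 ye50 ze23) (ke xe12 ye18 ze7) (ke xe10 ye50 ze57) (ke xe17 ye34 ze49) (ke xe22 ye2 ze44) (ke xe12 ye18 ze6) (ke xe15 ye43 ze6) (ke xe8 ye57 ze15) (ke xe22 ye2 ze50) (ke xe9 ye19 ze1) (ke xe9 ye2 ze22) (ke xe15 ye36 ze22) (ke xe22 ye2 ze54) (ke xe21 ye22 ze55) (ke xe20 ye12 ze52) (ke xe6 ye44 ze0) (ke xe6 ye44 ze1) (ke xe16 ye8 ze58) (ke xe16 ye7 ze34) (ke xe10 ye50 ze21) (ke xe20 ye6 ze58)) (@D3.rec (fun _ => Pt) (ke xe12 ye37 ze10) (ke xe12 ye42 ze50) (ke xe12 ye40 ze1) (ke xe12 ye38 ze9) (ke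 xe20 ye36 ze13) (ke xe18 ye15 ze27) (ke xe21 ye28 ze35) (ke xe17 ye2 ze36) (ke xe6 ye44 ze6) (ke xe21 ye44 ze54) (ke xe6 ye44 ze7) (ke xe18 ye14 ze13) (ke xe6 ye44 ze11) (ke xe6 ye44 ze13) (ke xe11 ye35 ze5) (ke xe6 ye44 ze16) (ke xe6 ye44 ze17) (ke xe6 ye44 ze19) (ke xe21 ye20 ze45) (ke xe6 ye44 ze21) (ke xe21 ye20 ze43) (ke xe6 ye44 ze24) (ke xe22 ye3 ze13) (ke xe16 ye42 ze16) (ke xe12 ye28 ze25) (ke xe22 ye3 ze14) (ke xe12 ye57 ze55) (ke xe6 ye44 ze26) (ke xe22 ye3 ze16) (ke xe6 ye44 ze27) (ke xe8 ye37 ze28) (ke xe18 ye37 ze41) (ke xe6 ye44 ze61) (ke xe14 ye33 ze21) (ke xe21 ye3 ze7) (ke xe6 ye44 ze32) (ke xe21 ye20 ze58) (ke xe22 ye3 ze20) (ke xe6 ye44 ze38) (ke xe17 ye5 ze7) (ke xe13 ye10 ze59) (ke xe20 ye49 ze10) (ke xe6 ye44 ze36) (ke xe18 ye13 ze55) (ke xe18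 ye33 ze37) (ke xe11 ye22 ze60) (ke xe22 ye3 ze31) (ke xe22 ye3 ze21) (ke xe22 ye3 ze35) (ke xe16 ye36 ze7) (ke xe6 ye44 ze40) (ke xe16 ye47 ze51) (ke xe9 ye9 ze6) (ke xe18 ye50 ze26) (ke xe19 ye48 ze37) (ke xe17 ye13 ze5) (ke xe22 ye3 ze42) (ke xe17 ye7 ze33) (ke xe18 ye13 ze53) (ke xe6 ye44 ze47) (ke xe22 ye3 ze45) (ke xe6 ye44 ze48)) (@D3.rec (fun _ => Pt) (ke xe19 ye40 ze43) (ke xe15 ye5 ze23) (ke xe20 ye31 ze55) (ke xe6 ye44 ze53) (ke xe17 ye6 ze22) (ke xe22 ye3 ze48) (ke xe11 ye24 ze4) (ke xe17 ye16 ze19) (ke xe18 ye14 ze4) (ke xe22 ye3 ze53) (ke xe6 ye44 ze56) (ke xe20 ye35 ze25) (ke xe22 ye3 ze56) (ke xe20 ye35 ze27) (ke xe22 ye3 ze61) (ke xe22 ye4 ze0) (ke xe6 ye44 ze58) (ke xe17 ye6 ze56) (ke xe19 ye32 ze15) (ke xe6 ye44 ze60) (ke xe16 ye45 ze20) (ke xe19 ye50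 ze53) (ke xe8 ye25 ze11) (ke xe6 ye45 ze1) (ke xe22 ye4 ze8) (ke xe6 ye45 ze2) (ke xe17 ye6 ze29) (ke xe8 ye25 ze10) (ke xe10 ye12 ze40) (ke xe16 ye36 ze37) (ke xe16 ye5 ze7) (ke xe19 ye43 ze1) (ke xe22 ye4 ze14) (ke xe21 ye46 ze6) (ke xe22 ye4 ze15) (ke xe6 ye45 ze9) (ke xe17 ye50 ze45) (ke xe22 ye4 ze18) (ke xe17 ye7 ze11) (ke xe22 ye4 ze19) (ke xe22 ye4 ze20) (ke xe16 ye39 ze52) (ke xe22 ye4 ze21) (ke xe6 ye45 ze11) (ke xe22 ye4 ze26) (ke xe6 ye45 ze13) (ke xe22 ye4 ze29) (ke xe6 ye45 ze14) (ke xe16 ye48 ze37) (ke xe13 ye10 ze60) (ke xe12 ye52 ze39) (ke xe17 ye7 ze17) (ke xe14 ye21 ze41) (ke xe19 ye59 ze10) (ke xe17 ye4 ze3) (ke xe22 ye4 ze40) (ke xe6 ye45 ze19) (ke xe17 ye2 ze18) (ke xe16 ye51 ze1) (ke xe6 ye45 ze23) (ke xe16 ye51 ze3) (ke xe12 ye44 ze19)) (@D3.rec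 (fun _ => Pt) (ke xe12 ye43 ze22) (ke xe22 ye4 ze45) (ke xe22 ye4 ze50) (ke xe6 ye45 ze25) (ke xe22 ye4 ze53) (ke xe22 ye4 ze54) (ke xe6 ye45 ze26) (ke xe17 ye4 ze36) (ke xe20 ye5 ze39) (ke xe12 ye41 ze48) (ke xe6 ye45 ze30) (ke xe22 ye5 ze0) (ke xe14 ye46 ze55) (ke xe22 ye5 ze3) (ke xe6 ye45 ze32) (ke xe12 ye18 ze28) (ke xe6 ye45 ze38) (ke xe11 ye32 ze52) (ke xe22 ye5 ze7) (ke xe20 ye5 ze54) (ke xe22 ye5 ze13) (ke xe6 ye45 ze40) (ke xe6 ye45 ze42) (ke xe6 ye45 ze44) (ke xe20 ye41 ze39) (ke xe22 ye5 ze14) (ke xe11 ye35 ze3) (ke xe6 ye45 ze46) (ke xe22 ye5 ze17) (ke xe6 ye45 ze47) (ke xe16 ye50 ze52) (ke xe17 ye7 ze48) (ke xe9 ye49 ze27) (ke xe17 ye7 ze45) (ke xe9 ye49 ze18) (ke xe22 ye5 ze21) (ke xe17 ye31 ze26) (ke xe22 ye5 ze22) (ke xe11 ye29 ze28) (ke xe10 ye57 ze44)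 (ke xe22 ye5 ze27) (ke xe22 ye5 ze30) (ke xe6 ye45 ze56) (ke xe22 ye5 ze32) (ke xe13 ye32 ze56) (ke xe17 ye51 ze15) (ke xe6 ye45 ze57) (ke xe17 ye8 ze50) (ke xe6 ye46 ze0) (ke xe21 ye23 ze23) (ke xe11 ye0 ze14) (ke xe6 ye46 ze1) (ke xe22 ye5 ze40) (ke xe20 ye30 ze30) (ke xe10 ye53 ze45) (ke xe20 ye49 ze2) (ke xe21 ye23 ze21) (ke xe6 ye46 ze4) (ke xe14 ye4 ze29) (ke xe17 ye8 ze56) (ke xe22 ye5 ze45) (ke xe21 ye23 ze37)) (@D3.rec (fun _ => Pt) (ke xe21 ye23 ze41) (ke xe22 ye5 ze46) (ke xe17 ye42 ze30) (ke xe22 ye5 ze53) (ke xe22 ye5 ze57) (ke xe6 ye46 ze8) (ke xe17 ye14 ze3) (ke xe22 ye6 ze1) (ke xe12 ye26 ze23) (ke xe6 ye46 ze9) (ke xe20 ye49 ze8) (ke xe8 ye25 ze34) (ke xe14 ye46 ze41) (ke xe13 ye56 ze31) (ke xe6 ye46 ze11) (ke xe6 ye46 ze12) (ke xe20 ye25 ze37) (ke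 xe10 ye12 ze9) (ke xe22 ye6 ze8) (ke xe17 ye29 ze50) (ke xe6 ye49 ze48) (ke xe16 ye30 ze41) (ke xe20 ye26 ze12) (ke xe22 ye6 ze9) (ke xe15 ye5 ze1) (ke xe18 ye43 ze4) (ke xe9 ye44 ze2) (ke xe6 ye46 ze29) (ke xe21 ye54 ze5) (ke xe6 ye46 ze30) (ke xe15 ye5 ze17) (ke xe22 ye6 ze14) (ke xe6 ye46 ze35) (ke xe22 ye6 ze17) (ke xe6 ye46 ze36) (ke xe15 ye4 ze36) (ke xe17 ye58 ze37) (ke xe11 ye42 ze47) (ke xe20 ye28 ze11) (ke xe10 ye52 ze59) (ke xe12 ye51 ze10) (ke xe12 ye49 ze41) (ke xe19 ye57 ze41) (ke xe9 ye50 ze55) (ke xe11 ye12 ze31) (ke xe6 ye46 ze46) (ke xe10 ye57 ze22) (ke xe9 ye18 ze11) (ke xe8 ye59 ze2) (ke xe9 ye30 ze61) (ke xe20 ye12 ze12) (ke xe6 ye46 ze50) (ke xe9 ye5 ze34) (ke xe6 ye46 ze53) (ke xe14 ye32 ze60) (ke xe18 ye51 ze45) (ke xe6 ye46 ze58) (ke xe20 ye43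 ze54) (ke xe6 ye46 ze59) (ke xe22 ye6 ze37) (ke xe13 ye44 ze45) (ke xe8 ye16 ze9)) (@D3.rec (fun _ => Pt) (ke xe18 ye36 ze49) (ke xe22 ye6 ze42) (ke xe6 ye47 ze3) (ke xe19 ye11 ze29) (ke xe18 ye55 ze37) (ke xe22 ye6 ze48) (ke xe6 ye47 ze4) (ke xe17 ye19 ze13) (ke xe10 ye42 ze32) (ke xe22 ye6 ze51) (ke xe22 ye6 ze59) (ke xe22 ye6 ze60) (ke xe9 ye22 ze10) (ke xe6 ye47 ze6) (ke xe18 ye55 ze51) (ke xe18 ye55 ze52) (ke xe22 ye7 ze3) (ke xe18 ye55 ze47) (ke xe22 ye7 ze5) (ke xe6 ye47 ze8) (ke xe18 ye55 ze54) (ke xe7 ye16 ze42) (ke xe6 ye47 ze12) (ke xe15 ye40 ze39) (ke xe17 ye19 ze14) (ke xe7 ye32 ze53) (ke xe22 ye7 ze19) (ke xe22 ye7 ze14) (ke xe11 ye47 ze19) (ke xe19 ye30 ze1) (ke xe11 ye25 ze50) (ke xe9 ye22 ze44) (ke xe9 ye32 ze3) (ke xe22 ye7 ze24) (ke xe8 ye32 ze15)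 (ke xe6 ye47 ze15) (ke xe14 ye33 ze17) (ke xe22 ye7 ze30) (ke xe18 ye56 ze45) (ke xe15 ye5 ze40) (ke xe10 ye53 ze2) (ke xe9 ye32 ze27) (ke xe16 ye58 ze35) (ke xe16 ye58 ze36) (ke xe19 ye58 ze34) (ke xe19 ye58 ze35) (ke xe16 ye58 ze38) (ke xe19 ye58 ze5) (ke xe21 ye3 ze59) (ke xe22 ye7 ze42) (ke xe6 ye47 ze22) (ke xe6 ye47 ze26) (ke xe14 ye33 ze8) (ke xe14 ye37 ze1) (ke xe6 ye47 ze24) (ke xe12 ye53 ze26) (ke xe10 ye42 ze45) (ke xe10 ye55 ze30) (ke xe22 ye7 ze43) (ke xe18 ye0 ze19) (ke xe21 ye21 ze29) (ke xe17 ye50 ze33)) (@D3.rec (fun _ => Pt) (ke xe11 ye25 ze55) (ke xe7 ye45 ze23) (ke xe22 ye7 ze58) (ke xe14 ye23 ze43) (ke xe9 ye25 ze25) (ke xe9 ye9 ze45) (ke xe22 ye7 ze61) (ke xe6 ye47 ze35) (ke xe11 ye31 ze29) (ke xe11 ye55 ze48) (ke xe17 ye30 ze47) (ke xe21 ye10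 ze0) (ke xe10 ye52 ze31) (ke xe16 ye59 ze4) (ke xe14 ye56 ze46) (ke xe21 ye58 ze1) (ke xe22 ye8 ze12) (ke xe6 ye47 ze41) (ke xe12 ye27 ze33) (ke xe8 ye24 ze18) (ke xe21 ye9 ze60) (ke xe18 ye15 ze50) (ke xe13 ye1 ze12) (ke xe22 ye8 ze18) (ke xe6 ye47 ze46) (ke xe6 ye48 ze44) (ke xe6 ye48 ze28) (ke xe9 ye24 ze23) (ke xe17 ye27 ze26) (ke xe15 ye16 ze3) (ke xe6 ye48 ze35) (ke xe12 ye36 ze47) (ke xe22 ye2 ze30) (ke xe12 ye12 ze44) (ke xe12 ye20 ze23) (ke xe15 ye47 ze45) (ke xe7 ye31 ze21) (ke xe18 ye58 ze0) (ke xe21 ye10 ze5) (ke xe21 ye32 ze5) (ke xe9 ye10 ze9) (ke xe6 ye47 ze58) (ke xe22 ye8 ze32) (ke xe22 ye8 ze35) (ke xe6 ye47 ze59) (ke xe22 ye2 ze34) (ke xe12 ye39 ze18) (ke xe12 ye38 ze33) (ke xe12 ye39 ze24) (ke xe13 ye10 ze57) (ke xe6 ye48 ze2) (ke xe19 ye0 ze47)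 (ke xe10 ye8 ze59) (ke xe22 ye8 ze46) (ke xe6 ye48 ze6) (ke xe7 ye11 ze22) (ke xe18 ye37 ze0) (ke xe21 ye41 ze55) (ke xe22 ye8 ze51) (ke xe17 ye30 ze29) (ke xe22 ye8 ze52) (ke xe6 ye48 ze9)) (@D3.rec (fun _ => Pt) (ke xe10 ye6 ze30) (ke xe18 ye5 ze4) (ke xe6 ye48 ze10) (ke xe22 ye9 ze0) (ke xe22 ye9 ze3) (ke xe6 ye48 ze11) (ke xe22 ye9 ze8) (ke xe22 ye9 ze9) (ke xe6 ye48 ze13) (ke xe17 ye27 ze40) (ke xe22 ye9 ze14) (ke xe19 ye35 ze27) (ke xe6 ye48 ze16) (ke xe17 ye27 ze47) (ke xe22 ye9 ze19) (ke xe22 ye9 ze23) (ke xe6 ye48 ze17) (ke xe6 ye48 ze18) (ke xe17 ye21 ze37) (ke xe17 ye19 ze26) (ke xe16 ye7 ze20) (ke xe15 ye35 ze54) (ke xe6 ye48 ze22) (ke xe20 ye34 ze54) (ke xe15 ye17 ze20) (ke xe6 ye48 ze23) (ke xe6 ye48 ze24) (ke xe14 ye12 ze2) (ke xe9 ye18 ze40) (ke xe12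 ye24 ze17) (ke xe11 ye51 ze1) (ke xe22 ye8 ze21) (ke xe22 ye8 ze22) (ke xe21 ye42 ze52) (ke xe22 ye9 ze44) (ke xe14 ye1 ze23) (ke xe6 ye48 ze29) (ke xe14 ye52 ze13) (ke xe6 ye48 ze30) (ke xe22 ye9 ze48) (ke xe6 ye48 ze33) (ke xe22 ye8 ze25) (ke xe12 ye40 ze7) (ke xe12 ye40 ze10) (ke xe6 ye48 ze37) (ke xe12 ye42 ze43) (ke xe9 ye29 ze50) (ke xe9 ye29 ze7) (ke xe22 ye9 ze53) (ke xe15 ye46 ze23) (ke xe22 ye8 ze20) (ke xe12 ye3 ze47) (ke xe12 ye15 ze7) (ke xe9 ye36 ze56) (ke xe21 ye32 ze3) (ke xe9 ye18 ze47) (ke xe6 ye48 ze48) (ke xe16 ye13 ze52) (ke xe10 ye6 ze7) (ke xe9 ye20 ze28) (ke xe9 ye18 ze49) (ke xe11 ye11 ze9))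
def f_e_13 : D2 → D3 → Pt := @D2.rec (fun _ => D3 → Pt) (@D3.rec (fun _ => Pt) (ke xe22 ye10 ze3) (ke xe22 ye8 ze30) (ke xe22 ye10 ze5) (ke xe16 ye9 ze12) (ke xe6 ye48 ze52) (ke xe21 ye46 ze33) (ke xe22 ye8 ze34) (ke xe22 ye10 ze17) (ke xe22 ye10 ze21) (ke xe6 ye48 ze53) (ke xe22 ye10 ze29) (ke xe6 ye48 ze54) (ke xe17 ye30 ze49) (ke xe18 ye12 ze32) (ke xe21 ye10 ze17) (ke xe12 ye1 ze46) (ke xe16 ye13 ze35) (ke xe22 ye10 ze35) (ke xe22 ye10 ze36) (ke xe6 ye48 ze56) (ke xe18 ye27 ze45) (ke xe18 ye22 ze60) (ke xe6 ye48 ze57) (ke xe22 ye10 ze40) (ke xe6 ye48 ze58) (ke xe22 ye8 ze36) (ke xe20 ye51 ze12) (ke xe12 ye18 ze11) (ke xe12 ye42 ze58) (ke xe6 ye49 ze3) (ke xe20 ye5 ze32) (ke xe22 ye10 ze42) (ke xe6 ye49 ze5) (ke xe12 ye16 ze21) (ke xe17 ye28 ze31) (ke xe17 ye21 ze39)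 (ke xe12 ye39 ze49) (ke xe22 ye10 ze51) (ke xe17 ye29 ze15) (ke xe22 ye10 ze54) (ke xe6 ye49 ze11) (ke xe15 ye59 ze61) (ke xe22 ye10 ze59) (ke xe22 ye11 ze0) (ke xe6 ye49 ze13) (ke xe12 ye31 ze22) (ke xe18 ye45 ze25) (ke xe21 ye57 ze28) (ke xe22 ye11 ze4) (ke xe12 ye17 ze41) (ke xe6 ye49 ze19) (ke xe17 ye7 ze41) (ke xe10 ye17 ze10) (ke xe22 ye11 ze5) (ke xe6 ye49 ze26) (ke xe6 ye49 ze30) (ke xe6 ye50 ze57) (ke xe11 ye1 ze51) (ke xe17 ye9 ze56) (ke xe6 ye49 ze37) (ke xe21 ye57 ze32) (ke xe21 ye57 ze33)) (@D3.rec (fun _ => Pt) (ke xe6 ye49 ze39) (ke xe10 ye5 ze28) (ke xe21 ye58 ze0) (ke xe21 ye3 ze3) (ke xe6 ye49 ze46) (ke xe18 ye23 ze29) (ke xe9 ye17 ze5) (ke xe11 ye18 ze21) (ke xe12 ye15 ze33) (ke xe17 ye8 ze0) (ke xe17 ye34 ze48) (ke xe17 ye29 ze55) (ke xe12 ye58 ze22)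 (ke xe12 ye13 ze45) (ke xe12 ye26 ze41) (ke xe22 ye11 ze18) (ke xe6 ye49 ze60) (ke xe13 ye10 ze29) (ke xe12 ye13 ze47) (ke xe10 ye4 ze41) (ke xe6 ye50 ze3) (ke xe11 ye39 ze55) (ke xe11 ye41 ze29) (ke xe20 ye12 ze35) (ke xe17 ye32 ze6) (ke xe11 ye42 ze15) (ke xe8 ye24 ze58) (ke xe12 ye13 ze50) (ke xe22 ye11 ze31) (ke xe15 ye43 ze9) (ke xe10 ye5 ze51) (ke xe10 ye6 ze61) (ke xe22 ye11 ze33) (ke xe6 ye50 ze18) (ke xe6 ye50 ze19) (ke xe8 ye12 ze25) (ke xe10 ye43 ze37) (ke xe6 ye50 ze23) (ke xe11 ye49 ze51) (ke xe6 ye50 ze26) (ke xe15 ye26 ze44) (ke xe6 ye50 ze29) (ke xe17 ye16 ze38) (ke xe18 ye43 ze26) (ke xe19 ye53 ze35) (ke xe14 ye19 ze31) (ke xe12 ye10 ze49) (ke xe6 ye51 ze6) (ke xe22 ye11 ze36) (ke xe11 ye44 ze17) (ke xe22 ye11 ze37) (ke xe18 ye21 ze3) (ke xe6 ye50 ze37)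 (ke xe9 ye30 ze4) (ke xe17 ye29 ze48) (ke xe6 ye50 ze41) (ke xe6 ye50 ze42) (ke xe11 ye24 ze33) (ke xe11 ye10 ze48) (ke xe20 ye16 ze54) (ke xe21 ye38 ze43) (ke xe6 ye50 ze50)) (@D3.rec (fun _ => Pt) (ke xe11 ye9 ze43) (ke xe6 ye50 ze53) (ke xe7 ye20 ze0) (ke xe20 ye12 ze44) (ke xe7 ye20 ze6) (ke xe22 ye11 ze7) (ke xe22 ye11 ze51) (ke xe6 ye50 ze58) (ke xe12 ye24 ze15) (ke xe12 ye8 ze50) (ke xe6 ye51 ze1) (ke xe11 ye28 ze42) (ke xe22 ye11 ze53) (ke xe6 ye51 ze8) (ke xe22 ye11 ze54) (ke xe22 ye11 ze56) (ke xe6 ye51 ze10) (ke xe18 ye24 ze12) (ke xe11 ye35 ze19) (ke xe6 ye51 ze11) (ke xe19 ye15 ze39) (ke xe6 ye51 ze12) (ke xe10 ye59 ze32) (ke xe22 ye11 ze60) (ke xe14 ye36 ze43) (ke xe6 ye51 ze15) (ke xe10 ye39 ze8) (ke xe21 ye59 ze21) (ke xe12 ye5 ze49) (ke xe22 ye12 ze5)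 (ke xe6 ye51 ze18) (ke xe9 ye20 ze2) (ke xe20 ye20 ze39) (ke xe7 ye26 ze2) (ke xe14 ye48 ze42) (ke xe13 ye40 ze40) (ke xe14 ye53 ze18) (ke xe7 ye52 ze37) (ke xe16 ye10 ze10) (ke xe18 ye29 ze13) (ke xe6 ye51 ze26) (ke xe13 ye8 ze60) (ke xe13 ye44 ze50) (ke xe13 ye9 ze42) (ke xe22 ye12 ze23) (ke xe22 ye12 ze24) (ke xe6 ye51 ze31) (ke xe20 ye28 ze24) (ke xe6 ye51 ze32) (ke xe14 ye17 ze38) (ke xe14 ye15 ze29) (ke xe22 ye12 ze27) (ke xe13 ye16 ze34) (ke xe6 ye51 ze36) (ke xe7 ye52 ze56) (ke xe20 ye43 ze16) (ke xe22 ye12 ze35) (ke xe20 ye47 ze22) (ke xe6 ye53 ze12) (ke xe22 ye12 ze42) (ke xe20 ye43 ze2) (ke xe11 ye42 ze40)) (@D3.rec (fun _ => Pt) (ke xe6 ye51 ze41) (ke xe19 ye19 ze13) (ke xe11 ye26 ze8) (ke xe6 ye51 ze45) (ke xe6 ye51 ze44) (ke xe6 ye51 ze46) (ke xe22 ye12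 ze46) (ke xe9 ye30 ze26) (ke xe21 ye38 ze48) (ke xe6 ye51 ze50) (ke xe6 ye54 ze6) (ke xe22 ye12 ze53) (ke xe22 ye12 ze55) (ke xe22 ye12 ze58) (ke xe22 ye12 ze50) (ke xe6 ye51 ze51) (ke xe6 ye51 ze52) (ke xe22 ye13 ze0) (ke xe22 ye13 ze3) (ke xe14 ye32 ze59) (ke xe6 ye51 ze55) (ke xe12 ye29 ze11) (ke xe22 ye13 ze7) (ke xe22 ye13 ze8) (ke xe6 ye52 ze4) (ke xe13 ye20 ze16) (ke xe22 ye13 ze16) (ke xe22 ye13 ze20) (ke xe6 ye51 ze58) (ke xe22 ye13 ze24) (ke xe22 ye13 ze28) (ke xe6 ye51 ze59) (ke xe13 ye20 ze23) (ke xe21 ye0 ze51) (ke xe22 ye13 ze37) (ke xe6 ye51 ze61) (ke xe17 ye2 ze14) (ke xe6 ye52 ze0) (ke xe22 ye13 ze42) (ke xe22 ye13 ze45) (ke xe6 ye52 ze2) (ke xe22 ye13 ze50) (ke xe6 ye52 ze3) (ke xe22 ye13 ze52) (ke xe6 ye57 ze30) (ke xe22 ye13 ze11) (ke xe22 ye13 ze59)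 (ke xe22 ye13 ze60) (ke xe6 ye52 ze5) (ke xe13 ye24 ze16) (ke xe22 ye14 ze1) (ke xe11 ye30 ze14) (ke xe22 ye14 ze4) (ke xe22 ye14 ze8) (ke xe6 ye52 ze9) (ke xe22 ye14 ze11) (ke xe22 ye14 ze14) (ke xe22 ye14 ze16) (ke xe6 ye52 ze10) (ke xe13 ye9 ze21) (ke xe22 ye14 ze19) (ke xe7 ye51 ze33)) (@D3.rec (fun _ => Pt) (ke xe7 ye52 ze49) (ke xe14 ye46 ze3) (ke xe20 ye48 ze3) (ke xe7 ye9 ze47) (ke xe13 ye13 ze8) (ke xe22 ye14 ze26) (ke xe6 ye52 ze16) (ke xe20 ye41 ze24) (ke xe6 ye52 ze17) (ke xe13 ye12 ze45) (ke xe22 ye14 ze31) (ke xe13 ye17 ze30) (ke xe22 ye14 ze32) (ke xe22 ye3 ze7) (ke xe21 ye41 ze51) (ke xe7 ye9 ze50) (ke xe7 ye8 ze57) (ke xe13 ye51 ze31) (ke xe16 ye28 ze30) (ke xe13 ye12 ze56) (ke xe13 ye8 ze5) (ke xe14 ye20 ze32) (ke xe19 ye50 ze47) (ke xe6 ye52 ze30)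 (ke xe13 ye37 ze12) (ke xe22 ye14 ze52) (ke xe6 ye52 ze34) (ke xe22 ye14 ze57) (ke xe13 ye45 ze48) (ke xe14 ye32 ze10) (ke xe7 ye7 ze15) (ke xe19 ye12 ze3) (ke xe6 ye52 ze36) (ke xe6 ye56 ze17) (ke xe14 ye41 ze19) (ke xe22 ye15 ze3) (ke xe6 ye52 ze37) (ke xe10 ye20 ze11) (ke xe6 ye52 ze40) (ke xe22 ye15 ze11) (ke xe6 ye52 ze42) (ke xe20 ye47 ze56) (ke xe22 ye15 ze20) (ke xe14 ye56 ze53) (ke xe22 ye15 ze22) (ke xe7 ye34 ze61) (ke xe7 ye37 ze58) (ke xe10 ye40 ze53) (ke xe6 ye52 ze48) (ke xe7 ye34 ze45) (ke xe6 ye58 ze41) (ke xe14 ye15 ze27) (ke xe6 ye52 ze50) (ke xe22 ye15 ze25) (ke xe14 ye51 ze60) (ke xe13 ye5 ze32) (ke xe22 ye15 ze27) (ke xe14 ye52 ze7) (ke xe13 ye16 ze7) (ke xe10 ye25 ze33) (ke xe6 ye52 ze54) (ke xe14 ye52 ze9)) (@D3.rec (fun _ => Pt) (ke xe22 ye15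 ze33) (ke xe9 ye20 ze50) (ke xe22 ye15 ze37) (ke xe6 ye52 ze57) (ke xe22 ye15 ze45) (ke xe13 ye52 ze19) (ke xe7 ye51 ze16) (ke xe14 ye52 ze59) (ke xe7 ye54 ze3) (ke xe14 ye9 ze18) (ke xe6 ye52 ze60) (ke xe22 ye15 ze51) (ke xe6 ye53 ze5) (ke xe6 ye53 ze6) (ke xe6 ye53 ze7) (ke xe22 ye15 ze59) (ke xe22 ye16 ze0) (ke xe22 ye15 ze56) (ke xe6 ye53 ze10) (ke xe22 ye16 ze5) (ke xe22 ye16 ze4) (ke xe20 ye15 ze51) (ke xe9 ye26 ze6) (ke xe11 ye42 ze30) (ke xe9 ye6 ze25) (ke xe6 ye53 ze14) (ke xe14 ye48 ze18) (ke xe9 ye22 ze36) (ke xe13 ye21 ze37) (ke xe14 ye48 ze17) (ke xe10 ye40 ze10) (ke xe11 ye26 ze7) (ke xe13 ye4 ze55) (ke xe6 ye53 ze20) (ke xe22 ye16 ze25) (ke xe6 ye53 ze18) (ke xe22 ye16 ze27) (ke xe21 ye0 ze42) (ke xe6 ye53 ze19) (ke xe22 ye16 ze29) (ke xe22 ye16 ze32)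 (ke xe22 ye16 ze22) (ke xe10 ye25 ze59) (ke xe6 ye53 ze22) (ke xe6 ye54 ze43) (ke xe9 ye30 ze42) (ke xe22 ye16 ze40) (ke xe22 ye16 ze42) (ke xe6 ye53 ze25) (ke xe22 ye16 ze45) (ke xe22 ye16 ze47) (ke xe6 ye53 ze35) (ke xe22 ye16 ze53) (ke xe22 ye12 ze18) (ke xe22 ye16 ze59) (ke xe6 ye53 ze28) (ke xe17 ye57 ze29) (ke xe22 ye17 ze1) (ke xe6 ye53 ze29) (ke xe22 ye17 ze6) (ke xe6 ye53 ze31) (ke xe22 ye17 ze9)) (@D3.rec (fun _ => Pt) (ke xe22 ye17 ze12) (ke xe22 ye17 ze14) (ke xe6 ye53 ze33) (ke xe22 ye17 ze19) (ke xe6 ye53 ze34) (ke xe22 ye17 ze23) (ke xe22 ye16 ze50) (ke xe22 ye17 ze29) (ke xe22 ye17 ze30) (ke xe6 ye53 ze36) (ke xe22 ye17 ze34) (ke xe6 ye53 ze37) (ke xe22 ye17 ze37) (ke xe6 ye53 ze38) (ke xe6 ye57 ze4) (ke xe13 ye53 ze31) (ke xe22 ye17 ze41) (ke xe22 ye17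 ze42) (ke xe6 ye53 ze44) (ke xe22 ye17 ze44) (ke xe6 ye53 ze45) (ke xe17 ye9 ze41) (ke xe6 ye53 ze46) (ke xe15 ye43 ze30) (ke xe16 ye59 ze57) (ke xe6 ye53 ze47) (ke xe20 ye53 ze25) (ke xe22 ye17 ze52) (ke xe15 ye50 ze23) (ke xe6 ye53 ze49) (ke xe6 ye53 ze51) (ke xe14 ye2 ze11) (ke xe8 ye5 ze35) (ke xe22 ye17 ze57) (ke xe6 ye53 ze54) (ke xe14 ye4 ze54) (ke xe6 ye53 ze57) (ke xe14 ye14 ze54) (ke xe21 ye16 ze13) (ke xe14 ye12 ze49) (ke xe6 ye53 ze59) (ke xe19 ye23 ze8) (ke xe6 ye53 ze61) (ke xe6 ye54 ze0) (ke xe22 ye18 ze3) (ke xe6 ye54 ze3) (ke xe14 ye16 ze39) (ke xe22 ye18 ze7) (ke xe6 ye54 ze2) (ke xe22 ye18 ze10) (ke xe22 ye18 ze4) (ke xe11 ye44 ze50) (ke xe22 ye18 ze17) (ke xe19 ye4 ze61) (ke xe19 ye22 ze52) (ke xe6 ye54 ze15) (ke xe22 ye14 ze55) (ke xe22 ye18 ze27)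 (ke xe6 ye54 ze7) (ke xe6 ye54 ze8) (ke xe14 ye0 ze54) (ke xe22 ye18 ze34)) (@D3.rec (fun _ => Pt) (ke xe16 ye33 ze17) (ke xe6 ye54 ze10) (ke xe6 ye54 ze11) (ke xe18 ye47 ze48) (ke xe22 ye18 ze44) (ke xe6 ye54 ze13) (ke xe22 ye18 ze49) (ke xe22 ye18 ze51) (ke xe6 ye54 ze14) (ke xe16 ye23 ze10) (ke xe22 ye18 ze58) (ke xe6 ye54 ze16) (ke xe6 ye54 ze17) (ke xe16 ye53 ze47) (ke xe22 ye19 ze2) (ke xe22 ye19 ze4) (ke xe22 ye19 ze6) (ke xe6 ye54 ze20) (ke xe13 ye28 ze59) (ke xe13 ye28 ze60) (ke xe22 ye19 ze11) (ke xe22 ye19 ze14) (ke xe22 ye19 ze17) (ke xe20 ye48 ze11) (ke xe17 ye58 ze34) (ke xe14 ye32 ze12) (ke xe13 ye35 ze35) (ke xe22 ye19 ze27) (ke xe13 ye11 ze53) (ke xe6 ye54 ze25) (ke xe19 ye29 ze2) (ke xe11 ye46 ze16) (ke xe6 ye54 ze26) (ke xe22 ye19 ze33) (ke xe22 ye19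 ze35) (ke xe6 ye54 ze27) (ke xe11 ye46 ze52) (ke xe22 ye19 ze38) (ke xe20 ye48 ze12) (ke xe6 ye54 ze29) (ke xe22 ye19 ze42) (ke xe14 ye21 ze48) (ke xe13 ye13 ze27) (ke xe22 ye19 ze45) (ke xe20 ye47 ze48) (ke xe22 ye19 ze47) (ke xe6 ye54 ze33) (ke xe7 ye11 ze36) (ke xe22 ye19 ze50) (ke xe6 ye54 ze35) (ke xe7 ye3 ze9) (ke xe6 ye54 ze37) (ke xe6 ye54 ze40) (ke xe6 ye54 ze41) (ke xe22 ye19 ze54) (ke xe14 ye3 ze39) (ke xe22 ye16 ze37) (ke xe22 ye19 ze55) (ke xe21 ye3 ze44) (ke xe11 ye47 ze22) (ke xe9 ye5 ze58) (ke xe6 ye54 ze46)) (@D3.rec (fun _ => Pt) (ke xe11 ye25 ze51) (ke xe13 ye37 ze30) (ke xe14 ye41 ze59) (ke xe16 ye58 ze10) (ke xe13 ye45 ze39) (ke xe13 ye4 ze20) (ke xe22 ye20 ze4) (ke xe6 ye54 ze49) (ke xe22 ye20 ze7) (ke xe13 ye12 ze39) (ke xe22 ye20 ze9) (ke xe6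 ye54 ze50) (ke xe22 ye20 ze12) (ke xe22 ye20 ze15) (ke xe20 ye27 ze22) (ke xe22 ye20 ze19) (ke xe22 ye20 ze21) (ke xe22 ye20 ze22) (ke xe6 ye54 ze53) (ke xe22 ye20 ze23) (ke xe22 ye20 ze26) (ke xe22 ye20 ze28) (ke xe6 ye55 ze2) (ke xe22 ye20 ze31) (ke xe14 ye52 ze37) (ke xe22 ye20 ze37) (ke xe6 ye54 ze57) (ke xe10 ye34 ze48) (ke xe19 ye39 ze16) (ke xe6 ye54 ze58) (ke xe22 ye20 ze43) (ke xe6 ye54 ze60) (ke xe22 ye20 ze45) (ke xe22 ye20 ze49) (ke xe17 ye57 ze37) (ke xe6 ye55 ze0) (ke xe22 ye20 ze55) (ke xe6 ye55 ze1) (ke xe22 ye20 ze29) (ke xe22 ye21 ze1) (ke xe6 ye55 ze3) (ke xe22 ye21 ze5) (ke xe16 ye45 ze33) (ke xe6 ye55 ze5) (ke xe7 ye22 ze37) (ke xe7 ye24 ze33) (ke xe7 ye47 ze6) (ke xe6 ye55 ze10) (ke xe6 ye55 ze11) (ke xe14 ye12 ze45) (ke xe6 ye55 ze12) (ke xe22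 ye21 ze9) (ke xe6 ye55 ze13) (ke xe14 ye2 ze35) (ke xe22 ye21 ze13) (ke xe22 ye21 ze10) (ke xe6 ye55 ze16) (ke xe13 ye55 ze38) (ke xe21 ye23 ze20) (ke xe22 ye21 ze18) (ke xe13 ye2 ze41) (ke xe22 ye17 ze61)) (@D3.rec (fun _ => Pt) (ke xe20 ye27 ze18) (ke xe22 ye21 ze26) (ke xe6 ye55 ze24) (ke xe18 ye57 ze42) (ke xe6 ye55 ze27) (ke xe22 ye21 ze33) (ke xe22 ye21 ze36) (ke xe22 ye21 ze31) (ke xe22 ye21 ze42) (ke xe22 ye21 ze43) (ke xe20 ye17 ze17) (ke xe22 ye21 ze45) (ke xe22 ye21 ze47) (ke xe6 ye55 ze40) (ke xe22 ye21 ze50) (ke xe6 ye55 ze34) (ke xe14 ye26 ze24) (ke xe22 ye21 ze55) (ke xe22 ye21 ze58) (ke xe6 ye55 ze35) (ke xe6 ye55 ze36) (ke xe13 ye3 ze59) (ke xe6 ye55 ze38) (ke xe22 ye22 ze3) (ke xe17 ye59 ze44) (ke xe6 ye55 ze39) (ke xe21 ye24 ze3) (ke xe20 ye45 ze2)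 (ke xe22 ye21 ze48) (ke xe22 ye22 ze6) (ke xe6 ye55 ze41) (ke xe22 ye22 ze8) (ke xe6 ye55 ze42) (ke xe6 ye55 ze43) (ke xe21 ye55 ze24) (ke xe22 ye22 ze13) (ke xe6 ye55 ze45) (ke xe7 ye22 ze4) (ke xe22 ye22 ze16) (ke xe6 ye55 ze48) (ke xe13 ye25 ze18) (ke xe12 ye47 ze52) (ke xe13 ye2 ze43) (ke xe19 ye3 ze23) (ke xe13 ye25 ze57) (ke xe6 ye55 ze50) (ke xe22 ye22 ze22) (ke xe6 ye55 ze52) (ke xe21 ye39 ze6) (ke xe6 ye55 ze54) (ke xe6 ye55 ze55) (ke xe20 ye44 ze14) (ke xe13 ye35 ze34) (ke xe12 ye33 ze59) (ke xe13 ye45 ze49) (ke xe11 ye36 ze53) (ke xe17 ye35 ze6) (ke xe6 ye55 ze60) (ke xe12 ye35 ze55) (ke xe17 ye56 ze30) (ke xe6 ye55 ze61) (ke xe22 ye22 ze30)) (@D3.rec (fun _ => Pt) (ke xe18 ye57 ze55) (ke xe6 ye56 ze3) (ke xe14 ye32 ze18) (ke xe22 ye22 ze36) (ke xe22 ye22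 ze38) (ke xe6 ye56 ze1) (ke xe22 ye22 ze41) (ke xe21 ye14 ze18) (ke xe22 ye22 ze44) (ke xe6 ye56 ze2) (ke xe20 ye35 ze12) (ke xe22 ye22 ze47) (ke xe22 ye22 ze33) (ke xe22 ye22 ze48) (ke xe8 ye0 ze1) (ke xe22 ye22 ze51) (ke xe22 ye22 ze53) (ke xe6 ye56 ze6) (ke xe22 ye22 ze55) (ke xe6 ye56 ze11) (ke xe22 ye22 ze59) (ke xe22 ye22 ze61) (ke xe6 ye56 ze10) (ke xe22 ye23 ze0) (ke xe22 ye23 ze2) (ke xe22 ye22 ze56) (ke xe22 ye23 ze3) (ke xe6 ye56 ze12) (ke xe6 ye56 ze13) (ke xe13 ye1 ze17) (ke xe13 ye15 ze14) (ke xe14 ye41 ze18) (ke xe9 ye21 ze14) (ke xe10 ye47 ze24) (ke xe22 ye15 ze2) (ke xe6 ye56 ze18) (ke xe22 ye23 ze10) (ke xe6 ye56 ze21) (ke xe22 ye23 ze12) (ke xe20 ye17 ze31) (ke xe6 ye56 ze22) (ke xe6 ye56 ze27) (ke xe6 ye56 ze25) (ke xe22 ye23 ze16) (ke xe6 ye56 ze26)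 (ke xe9 ye42 ze0) (ke xe6 ye56 ze29) (ke xe13 ye20 ze8) (ke xe19 ye40 ze2) (ke xe22 ye23 ze23) (ke xe6 ye56 ze32) (ke xe20 ye48 ze24) (ke xe22 ye23 ze25) (ke xe13 ye20 ze9) (ke xe18 ye54 ze27) (ke xe22 ye23 ze31) (ke xe22 ye23 ze33) (ke xe12 ye58 ze49) (ke xe6 ye56 ze36) (ke xe12 ye53 ze40) (ke xe12 ye54 ze49) (ke xe17 ye30 ze2)) (@D3.rec (fun _ => Pt) (ke xe11 ye16 ze46) (ke xe11 ye55 ze44) (ke xe17 ye55 ze16) (ke xe22 ye8 ze1) (ke xe17 ye30 ze4) (ke xe22 ye23 ze41) (ke xe13 ye12 ze11) (ke xe20 ye45 ze55) (ke xe6 ye56 ze43) (ke xe13 ye11 ze61) (ke xe9 ye9 ze10) (ke xe22 ye23 ze45) (ke xe13 ye53 ze58) (ke xe6 ye57 ze12) (ke xe22 ye23 ze52) (ke xe14 ye33 ze44) (ke xe19 ye13 ze24) (ke xe22 ye23 ze53) (ke xe6 ye56 ze47) (ke xe6 ye56 ze48) (ke xe22 ye23 ze58) (ke xe20 ye37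 ze18) (ke xe22 ye24 ze1) (ke xe6 ye56 ze49) (ke xe13 ye45 ze47) (ke xe14 ye56 ze47) (ke xe22 ye24 ze4) (ke xe13 ye35 ze37) (ke xe22 ye24 ze12) (ke xe22 ye24 ze14) (ke xe6 ye56 ze51) (ke xe22 ye24 ze19) (ke xe6 ye56 ze52) (ke xe11 ye46 ze9) (ke xe22 ye24 ze22) (ke xe7 ye47 ze3) (ke xe20 ye44 ze23) (ke xe22 ye24 ze27) (ke xe6 ye56 ze55) (ke xe22 ye24 ze29) (ke xe22 ye24 ze31) (ke xe6 ye56 ze58) (ke xe22 ye1 ze46) (ke xe22 ye24 ze36) (ke xe22 ye24 ze41) (ke xe6 ye56 ze59) (ke xe22 ye15 ze4) (ke xe12 ye33 ze60) (ke xe22 ye24 ze43) (ke xe22 ye24 ze51) (ke xe6 ye56 ze61) (ke xe11 ye46 ze34) (ke xe6 ye57 ze1) (ke xe13 ye7 ze28) (ke xe13 ye28 ze9) (ke xe22 ye24 ze57) (ke xe22 ye25 ze0) (ke xe14 ye28 ze27) (ke xe6 ye57 ze2) (ke xe22 ye25 ze7) (ke xe13 ye12 ze0) (ke xe13 ye11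 ze9)) (@D3.rec (fun _ => Pt) (ke xe13 ye11 ze60) (ke xe22 ye25 ze15) (ke xe7 ye16 ze29) (ke xe20 ye47 ze36) (ke xe22 ye25 ze18) (ke xe22 ye25 ze21) (ke xe13 ye20 ze10) (ke xe6 ye57 ze6) (ke xe22 ye25 ze28) (ke xe6 ye57 ze7) (ke xe13 ye20 ze11) (ke xe13 ye11 ze6) (ke xe11 ye26 ze15) (ke xe6 ye57 ze10) (ke xe22 ye25 ze41) (ke xe6 ye57 ze11) (ke xe22 ye25 ze48) (ke xe22 ye25 ze52) (ke xe22 ye23 ze49) (ke xe22 ye25 ze57) (ke xe22 ye25 ze58) (ke xe6 ye57 ze13) (ke xe6 ye57 ze14) (ke xe22 ye26 ze4) (ke xe22 ye26 ze7) (ke xe7 ye46 ze5) (ke xe22 ye20 ze38) (ke xe22 ye21 ze60) (ke xe14 ye21 ze51) (ke xe22 ye26 ze16) (ke xe22 ye26 ze18) (ke xe6 ye57 ze21) (ke xe7 ye46 ze1) (ke xe10 ye36 ze58) (ke xe22 ye26 ze21) (ke xe6 ye57 ze23) (ke xe22 ye26 ze24) (ke xe22 ye26 ze27) (ke xe6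 ye57 ze24) (ke xe13 ye8 ze9) (ke xe7 ye20 ze54) (ke xe22 ye13 ze53) (ke xe22 ye26 ze35) (ke xe6 ye57 ze26) (ke xe22 ye26 ze39) (ke xe13 ye4 ze9) (ke xe6 ye57 ze27) (ke xe7 ye20 ze52) (ke xe20 ye42 ze55) (ke xe6 ye57 ze55) (ke xe7 ye26 ze15) (ke xe22 ye26 ze47) (ke xe7 ye26 ze19) (ke xe22 ye26 ze52) (ke xe7 ye34 ze55) (ke xe22 ye26 ze55) (ke xe13 ye4 ze19) (ke xe7 ye42 ze5) (ke xe22 ye26 ze59) (ke xe22 ye26 ze61) (ke xe6 ye57 ze34) (ke xe6 ye57 ze35)) (@D3.rec (fun _ => Pt) (ke xe14 ye3 ze10) (ke xe22 ye27 ze3) (ke xe16 ye2 ze41) (ke xe6 ye57 ze39) (ke xe22 ye27 ze7) (ke xe21 ye6 ze15) (ke xe22 ye27 ze10) (ke xe6 ye57 ze40) (ke xe13 ye4 ze4) (ke xe7 ye25 ze27) (ke xe22 ye27 ze16) (ke xe22 ye27 ze17) (ke xe6 ye57 ze47) (ke xe22 ye27 ze22) (ke xe22 ye27 ze24) (ke xe22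 ye27 ze28) (ke xe6 ye57 ze48) (ke xe14 ye3 ze24) (ke xe22 ye27 ze31) (ke xe22 ye27 ze32) (ke xe6 ye57 ze50) (ke xe20 ye44 ze32) (ke xe22 ye27 ze42) (ke xe6 ye57 ze53) (ke xe22 ye27 ze45) (ke xe7 ye38 ze46) (ke xe7 ye26 ze22) (ke xe13 ye7 ze42) (ke xe22 ye26 ze44) (ke xe17 ye34 ze56) (ke xe22 ye27 ze56) (ke xe6 ye57 ze57) (ke xe14 ye48 ze33) (ke xe7 ye25 ze29) (ke xe14 ye55 ze19) (ke xe22 ye28 ze0) (ke xe6 ye57 ze60) (ke xe14 ye46 ze9) (ke xe14 ye53 ze22) (ke xe7 ye52 ze14) (ke xe20 ye34 ze58) (ke xe6 ye58 ze0) (ke xe14 ye47 ze24) (ke xe7 ye51 ze48) (ke xe14 ye55 ze3) (ke xe22 ye28 ze13) (ke xe6 ye58 ze2) (ke xe14 ye44 ze21) (ke xe22 ye28 ze19) (ke xe22 ye28 ze21) (ke xe6 ye58 ze5) (ke xe22 ye28 ze28) (ke xe6 ye58 ze6) (ke xe14 ye4 ze16) (ke xe15 ye12 ze18) (ke xe13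 ye26 ze31) (ke xe13 ye15 ze32) (ke xe22 ye28 ze37) (ke xe13 ye29 ze14) (ke xe18 ye10 ze41) (ke xe13 ye14 ze26) (ke xe16 ye35 ze54)) (@D3.rec (fun _ => Pt) (ke xe6 ye58 ze10) (ke xe7 ye30 ze32) (ke xe13 ye31 ze42) (ke xe21 ye13 ze44) (ke xe13 ye30 ze25) (ke xe18 ye22 ze19) (ke xe22 ye28 ze49) (ke xe9 ye59 ze31) (ke xe6 ye58 ze16) (ke xe20 ye7 ze8) (ke xe22 ye28 ze55) (ke xe6 ye58 ze17) (ke xe22 ye28 ze60) (ke xe22 ye28 ze61) (ke xe7 ye13 ze2) (ke xe6 ye59 ze19) (ke xe21 ye53 ze44) (ke xe7 ye4 ze7) (ke xe11 ye17 ze34) (ke xe6 ye58 ze24) (ke xe7 ye13 ze11) (ke xe22 ye29 ze6) (ke xe13 ye49 ze43) (ke xe13 ye40 ze47) (ke xe10 ye14 ze51) (ke xe9 ye55 ze61) (ke xe13 ye13 ze60) (ke xe22 ye29 ze13) (ke xe6 ye58 ze28) (ke xe22 ye29 ze14) (ke xe6 ye58 ze29) (ke xe22 ye29 ze20)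 (ke xe12 ye6 ze23) (ke xe13 ye41 ze52) (ke xe18 ye39 ze14) (ke xe22 ye29 ze25) (ke xe6 ye58 ze33) (ke xe22 ye29 ze31) (ke xe6 ye58 ze34) (ke xe22 ye29 ze33) (ke xe18 ye57 ze12) (ke xe10 ye23 ze1) (ke xe6 ye58 ze35) (ke xe22 ye29 ze38) (ke xe11 ye23 ze27) (ke xe6 ye58 ze39) (ke xe10 ye22 ze55) (ke xe7 ye48 ze41) (ke xe7 ye6 ze34) (ke xe22 ye29 ze41) (ke xe14 ye48 ze35) (ke xe22 ye29 ze45) (ke xe22 ye29 ze48) (ke xe14 ye49 ze28) (ke xe14 ye29 ze54) (ke xe6 ye59 ze54) (ke xe7 ye46 ze20) (ke xe7 ye46 ze26) (ke xe14 ye1 ze21) (ke xe22 ye29 ze57) (ke xe14 ye29 ze61) (ke xe22 ye29 ze59)) (@D3.rec (fun _ => Pt) (ke xe7 ye3 ze55) (ke xe22 ye30 ze0) (ke xe22 ye30 ze2) (ke xe22 ye28 ze42) (ke xe7 ye6 ze26) (ke xe13 ye40 ze48) (ke xe13 ye44 ze3) (ke xe13 ye39 ze60) (ke xe22 ye30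 ze9) (ke xe6 ye58 ze53) (ke xe14 ye49 ze45) (ke xe12 ye7 ze56) (ke xe13 ye43 ze25) (ke xe21 ye45 ze17) (ke xe13 ye10 ze30) (ke xe9 ye21 ze45) (ke xe6 ye59 ze4) (ke xe12 ye25 ze59) (ke xe8 ye21 ze25) (ke xe9 ye18 ze37) (ke xe11 ye22 ze6) (ke xe13 ye43 ze28) (ke xe13 ye41 ze8) (ke xe22 ye30 ze24) (ke xe6 ye59 ze11) (ke xe22 ye23 ze56) (ke xe13 ye43 ze57) (ke xe11 ye7 ze12) (ke xe6 ye59 ze12) (ke xe6 ye59 ze13) (ke xe22 ye29 ze0) (ke xe7 ye7 ze3) (ke xe13 ye13 ze56) (ke xe7 ye25 ze16) (ke xe22 ye30 ze33) (ke xe6 ye59 ze15) (ke xe14 ye59 ze29) (ke xe16 ye24 ze6) (ke xe14 ye55 ze15) (ke xe8 ye39 ze8) (ke xe22 ye30 ze40) (ke xe16 ye11 ze54) (ke xe22 ye30 ze42) (ke xe6 ye59 ze18) (ke xe22 ye30 ze46) (ke xe19 ye1 ze51) (ke xe6 ye59 ze20) (ke xe22 ye30 ze53) (ke xe22 ye30 ze55)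 (ke xe22 ye30 ze56) (ke xe6 ye59 ze22) (ke xe7 ye33 ze7) (ke xe7 ye0 ze17) (ke xe14 ye25 ze48) (ke xe22 ye31 ze4) (ke xe6 ye59 ze24) (ke xe12 ye36 ze50) (ke xe6 ye59 ze30) (ke xe22 ye31 ze12) (ke xe14 ye44 ze44) (ke xe22 ye31 ze15) (ke xe21 ye19 ze8)) (@D3.rec (fun _ => Pt) (ke xe22 ye31 ze9) (ke xe22 ye31 ze19) (ke xe6 ye59 ze31) (ke xe14 ye28 ze15) (ke xe6 ye59 ze34) (ke xe22 ye30 ze50) (ke xe13 ye34 ze17) (ke xe13 ye4 ze58) (ke xe22 ye31 ze26) (ke xe8 ye38 ze14) (ke xe22 ye31 ze29) (ke xe22 ye31 ze32) (ke xe19 ye48 ze14) (ke xe22 ye31 ze36) (ke xe6 ye59 ze37) (ke xe22 ye31 ze42) (ke xe6 ye59 ze38) (ke xe22 ye31 ze48) (ke xe6 ye59 ze39) (ke xe22 ye31 ze52) (ke xe6 ye59 ze40) (ke xe18 ye40 ze44) (ke xe22 ye31 ze60) (ke xe13 ye52 ze11) (ke xe6 ye59 ze42) (ke xe6 ye59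 ze43) (ke xe15 ye26 ze27) (ke xe20 ye50 ze45) (ke xe6 ye59 ze45) (ke xe6 ye59 ze46) (ke xe21 ye52 ze23) (ke xe22 ye32 ze6) (ke xe13 ye40 ze9) (ke xe9 ye8 ze23) (ke xe13 ye2 ze52) (ke xe11 ye48 ze10) (ke xe22 ye32 ze8) (ke xe11 ye35 ze31) (ke xe14 ye29 ze55) (ke xe22 ye32 ze11) (ke xe22 ye32 ze13) (ke xe22 ye32 ze16) (ke xe6 ye59 ze51) (ke xe17 ye0 ze35) (ke xe22 ye32 ze18) (ke xe20 ye46 ze58) (ke xe6 ye59 ze52) (ke xe21 ye9 ze7) (ke xe22 ye32 ze20) (ke xe22 ye32 ze21) (ke xe6 ye59 ze56) (ke xe13 ye47 ze26) (ke xe22 ye32 ze22) (ke xe20 ye41 ze51) (ke xe22 ye32 ze24) (ke xe9 ye4 ze7) (ke xe6 ye59 ze59) (ke xe22 ye32 ze31) (ke xe6 ye59 ze60) (ke xe21 ye41 ze16) (ke xe13 ye44 ze15) (ke xe15 ye55 ze51)) (@D3.rec (fun _ => Pt) (ke xe22 ye32 ze40) (ke xe7 ye0 ze1) (ke xe20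 ye12 ze25) (ke xe22 ye32 ze43) (ke xe7 ye0 ze2) (ke xe22 ye32 ze47) (ke xe7 ye0 ze4) (ke xe7 ye9 ze34) (ke xe7 ye32 ze18) (ke xe7 ye34 ze1) (ke xe7 ye0 ze8) (ke xe22 ye32 ze54) (ke xe7 ye0 ze9) (ke xe7 ye9 ze27) (ke xe22 ye32 ze57) (ke xe7 ye9 ze44) (ke xe22 ye33 ze0) (ke xe22 ye33 ze2) (ke xe7 ye0 ze13) (ke xe7 ye3 ze59) (ke xe22 ye33 ze5) (ke xe7 ye0 ze16) (ke xe22 ye33 ze7) (ke xe7 ye0 ze18) (ke xe22 ye33 ze13) (ke xe22 ye33 ze15) (ke xe14 ye23 ze32) (ke xe7 ye3 ze20) (ke xe14 ye23 ze41) (ke xe22 ye33 ze22) (ke xe13 ye4 ze11) (ke xe22 ye33 ze23) (ke xe14 ye23 ze46) (ke xe7 ye21 ze57) (ke xe16 ye46 ze46) (ke xe7 ye0 ze24) (ke xe19 ye21 ze28) (ke xe22 ye6 ze61) (ke xe7 ye0 ze25) (ke xe19 ye36 ze53) (ke xe22 ye33 ze27) (ke xe17 ye28 ze33) (ke xe22 ye33 ze28) (ke xe7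 ye0 ze27) (ke xe7 ye7 ze32) (ke xe7 ye32 ze49) (ke xe7 ye0 ze29) (ke xe7 ye34 ze49) (ke xe21 ye44 ze8) (ke xe22 ye33 ze36) (ke xe7 ye0 ze31) (ke xe22 ye33 ze38) (ke xe13 ye34 ze47) (ke xe7 ye0 ze32) (ke xe22 ye33 ze40) (ke xe22 ye33 ze42) (ke xe7 ye33 ze14) (ke xe19 ye20 ze35) (ke xe22 ye33 ze45) (ke xe7 ye0 ze34) (ke xe7 ye0 ze35) (ke xe22 ye33 ze52)) (@D3.rec (fun _ => Pt) (ke xe7 ye0 ze37) (ke xe22 ye33 ze56) (ke xe7 ye0 ze38) (ke xe7 ye0 ze41) (ke xe7 ye0 ze42) (ke xe22 ye33 ze61) (ke xe22 ye34 ze1) (ke xe15 ye4 ze42) (ke xe7 ye0 ze46) (ke xe22 ye34 ze5) (ke xe7 ye0 ze49) (ke xe12 ye10 ze51) (ke xe22 ye34 ze10) (ke xe14 ye26 ze8) (ke xe7 ye3 ze47) (ke xe22 ye32 ze52) (ke xe17 ye21 ze56) (ke xe7 ye10 ze2) (ke xe17 ye21 ze24) (ke xe7 ye0 ze56) (ke xe7 ye34 ze12) (ke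 xe22 ye21 ze23) (ke xe22 ye34 ze19) (ke xe7 ye0 ze54) (ke xe22 ye34 ze21) (ke xe7 ye0 ze55) (ke xe22 ye34 ze24) (ke xe14 ye58 ze50) (ke xe22 ye28 ze44) (ke xe18 ye51 ze49) (ke xe20 ye46 ze15) (ke xe22 ye34 ze31) (ke xe7 ye0 ze58) (ke xe18 ye26 ze25) (ke xe22 ye34 ze34) (ke xe22 ye34 ze36) (ke xe7 ye1 ze8) (ke xe18 ye5 ze49) (ke xe22 ye34 ze40) (ke xe7 ye1 ze0) (ke xe22 ye34 ze42) (ke xe7 ye1 ze1) (ke xe7 ye34 ze36) (ke xe22 ye34 ze48) (ke xe22 ye34 ze52) (ke xe7 ye1 ze3) (ke xe22 ye34 ze56) (ke xe7 ye1 ze4) (ke xe22 ye34 ze61) (ke xe22 ye35 ze1) (ke xe7 ye1 ze6) (ke xe22 ye35 ze8) (ke xe22 ye35 ze10) (ke xe7 ye1 ze7) (ke xe22 ye35 ze12) (ke xe14 ye59 ze9) (ke xe22 ye34 ze37) (ke xe22 ye35 ze15) (ke xe7 ye1 ze10) (ke xe22 ye35 ze17) (ke xe7 ye1 ze11) (ke xe22 ye35 ze21))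 (@D3.rec (fun _ => Pt) (ke xe7 ye1 ze13) (ke xe21 ye54 ze27) (ke xe14 ye11 ze42) (ke xe7 ye2 ze25) (ke xe7 ye1 ze15) (ke xe22 ye35 ze29) (ke xe7 ye1 ze16) (ke xe8 ye46 ze17) (ke xe7 ye1 ze18) (ke xe22 ye35 ze32) (ke xe22 ye33 ze4) (ke xe7 ye1 ze20) (ke xe22 ye35 ze35) (ke xe7 ye1 ze22) (ke xe22 ye35 ze40) (ke xe7 ye1 ze26) (ke xe7 ye44 ze0) (ke xe10 ye47 ze27) (ke xe22 ye35 ze45) (ke xe22 ye35 ze47) (ke xe7 ye1 ze24) (ke xe21 ye55 ze28) (ke xe22 ye35 ze50) (ke xe22 ye35 ze53) (ke xe22 ye35 ze56) (ke xe22 ye35 ze43) (ke xe22 ye35 ze61) (ke xe7 ye1 ze27) (ke xe13 ye35 ze29) (ke xe7 ye1 ze28) (ke xe22 ye36 ze2) (ke xe22 ye36 ze3) (ke xe13 ye45 ze3) (ke xe7 ye1 ze33) (ke xe22 ye36 ze5) (ke xe14 ye30 ze59) (ke xe7 ye2 ze40) (ke xe14 ye31 ze23) (ke xe22 ye32 ze28) (ke xe11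 ye26 ze4) (ke xe13 ye34 ze22) (ke xe7 ye1 ze39) (ke xe22 ye36 ze11) (ke xe22 ye36 ze12) (ke xe7 ye1 ze37) (ke xe22 ye36 ze13) (ke xe7 ye1 ze38) (ke xe18 ye50 ze1) (ke xe19 ye4 ze10) (ke xe10 ye27 ze9) (ke xe10 ye27 ze2) (ke xe16 ye17 ze60) (ke xe7 ye1 ze41) (ke xe9 ye25 ze55) (ke xe18 ye26 ze59) (ke xe19 ye3 ze42) (ke xe21 ye4 ze36) (ke xe7 ye1 ze47) (ke xe10 ye26 ze61) (ke xe7 ye1 ze45) (ke xe19 ye21 ze40) (ke xe7 ye1 ze46)) (@D3.rec (fun _ => Pt) (ke xe21 ye26 ze11) (ke xe18 ye7 ze45) (ke xe9 ye54 ze22) (ke xe7 ye1 ze48) (ke xe7 ye1 ze49) (ke xe7 ye1 ze50) (ke xe22 ye36 ze33) (ke xe22 ye36 ze36) (ke xe13 ye10 ze47) (ke xe13 ye10 ze53) (ke xe13 ye12 ze6) (ke xe13 ye12 ze10) (ke xe13 ye44 ze25) (ke xe17 ye23 ze19) (ke xe9 ye26 ze5) (ke xe11 ye45 ze55) (ke xe13 ye3 ze25)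 (ke xe22 ye36 ze47) (ke xe22 ye36 ze50) (ke xe7 ye1 ze58) (ke xe22 ye36 ze51) (ke xe22 ye36 ze53) (ke xe7 ye1 ze59) (ke xe13 ye3 ze32) (ke xe15 ye55 ze41) (ke xe8 ye29 ze23) (ke xe7 ye1 ze61) (ke xe18 ye0 ze21) (ke xe21 ye9 ze41) (ke xe12 ye47 ze28) (ke xe7 ye2 ze2) (ke xe18 ye48 ze53) (ke xe11 ye18 ze39) (ke xe7 ye2 ze3) (ke xe11 ye19 ze7) (ke xe9 ye48 ze28) (ke xe9 ye48 ze32) (ke xe21 ye47 ze9) (ke xe7 ye2 ze5) (ke xe20 ye51 ze55) (ke xe7 ye2 ze7) (ke xe7 ye2 ze9) (ke xe7 ye2 ze10) (ke xe7 ye2 ze11) (ke xe14 ye31 ze36) (ke xe14 ye30 ze60) (ke xe7 ye2 ze13) (ke xe7 ye2 ze14) (ke xe7 ye2 ze15) (ke xe14 ye30 ze10) (ke xe22 ye37 ze15) (ke xe14 ye21 ze3) (ke xe16 ye31 ze41) (ke xe7 ye2 ze17) (ke xe7 ye2 ze18) (ke xe22 ye37 ze22) (ke xe22 ye37 ze23) (ke xe7 ye2 ze20) (ke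 xe22 ye37 ze24) (ke xe22 ye37 ze27) (ke xe22 ye37 ze29) (ke xe7 ye2 ze22)) (@D3.rec (fun _ => Pt) (ke xe22 ye37 ze31) (ke xe7 ye2 ze23) (ke xe22 ye37 ze34) (ke xe22 ye37 ze36) (ke xe7 ye3 ze8) (ke xe22 ye35 ze23) (ke xe22 ye37 ze42) (ke xe22 ye37 ze44) (ke xe7 ye2 ze26) (ke xe22 ye37 ze50) (ke xe7 ye2 ze27) (ke xe22 ye37 ze53) (ke xe11 ye21 ze18) (ke xe7 ye8 ze53) (ke xe7 ye2 ze28) (ke xe13 ye44 ze59) (ke xe22 ye37 ze60) (ke xe7 ye46 ze54) (ke xe13 ye40 ze8) (ke xe22 ye38 ze1) (ke xe22 ye38 ze3) (ke xe7 ye2 ze33) (ke xe15 ye39 ze25) (ke xe7 ye2 ze34) (ke xe22 ye38 ze8) (ke xe22 ye38 ze10) (ke xe22 ye38 ze11) (ke xe7 ye2 ze35) (ke xe22 ye37 ze7) (ke xe22 ye38 ze20) (ke xe7 ye2 ze38) (ke xe22 ye32 ze42) (ke xe22 ye38 ze23) (ke xe22 ye38 ze25) (ke xe14 ye51 ze61) (ke xe22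 ye38 ze28) (ke xe7 ye2 ze41) (ke xe13 ye5 ze28) (ke xe22 ye38 ze32) (ke xe11 ye21 ze6) (ke xe22 ye38 ze33) (ke xe14 ye4 ze59) (ke xe7 ye2 ze43) (ke xe10 ye40 ze2) (ke xe13 ye34 ze21) (ke xe22 ye38 ze37) (ke xe14 ye2 ze8) (ke xe7 ye2 ze46) (ke xe20 ye46 ze39) (ke xe11 ye34 ze11) (ke xe7 ye2 ze48) (ke xe22 ye32 ze34) (ke xe15 ye31 ze46) (ke xe22 ye38 ze51) (ke xe22 ye38 ze55) (ke xe7 ye2 ze49) (ke xe14 ye29 ze11) (ke xe7 ye2 ze50) (ke xe22 ye37 ze20) (ke xe22 ye39 ze3) (ke xe7 ye24 ze51) (ke xe14 ye38 ze56)) (@D3.rec (fun _ => Pt) (ke xe10 ye39 ze32) (ke xe22 ye39 ze6) (ke xe22 ye37 ze17) (ke xe22 ye32 ze46) (ke xe22 ye39 ze9) (ke xe7 ye2 ze55) (ke xe7 ye2 ze56) (ke xe22 ye39 ze11) (ke xe7 ye28 ze35) (ke xe11 ye3 ze50) (ke xe20 ye54 ze50) (ke xe7 ye2 ze58) (ke xe7 ye2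 ze59) (ke xe22 ye39 ze19) (ke xe22 ye39 ze21) (ke xe7 ye2 ze61) (ke xe22 ye39 ze23) (ke xe22 ye39 ze27) (ke xe7 ye3 ze0) (ke xe22 ye39 ze30) (ke xe22 ye26 ze51) (ke xe7 ye3 ze1) (ke xe22 ye39 ze38) (ke xe7 ye3 ze3) (ke xe22 ye39 ze40) (ke xe7 ye3 ze4) (ke xe22 ye39 ze45) (ke xe22 ye39 ze47) (ke xe7 ye3 ze6) (ke xe22 ye39 ze52) (ke xe22 ye39 ze54) (ke xe7 ye3 ze7) (ke xe22 ye39 ze58) (ke xe22 ye39 ze60) (ke xe22 ye37 ze39) (ke xe22 ye40 ze3) (ke xe22 ye11 ze6) (ke xe22 ye40 ze9) (ke xe7 ye3 ze11) (ke xe22 ye40 ze12) (ke xe7 ye3 ze12) (ke xe13 ye44 ze26) (ke xe7 ye3 ze17) (ke xe14 ye25 ze46) (ke xe22 ye34 ze54) (ke xe22 ye33 ze11) (ke xe22 ye40 ze22) (ke xe22 ye40 ze24) (ke xe7 ye3 ze21) (ke xe18 ye48 ze12) (ke xe17 ye18 ze20) (ke xe18 ye48 ze14) (ke xe7 ye3 ze22) (ke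 xe7 ye32 ze33) (ke xe19 ye31 ze0) (ke xe13 ye40 ze7) (ke xe22 ye40 ze34) (ke xe22 ye40 ze36) (ke xe7 ye3 ze24) (ke xe13 ye53 ze8) (ke xe22 ye40 ze42) (ke xe7 ye3 ze26)) (@D3.rec (fun _ => Pt) (ke xe15 ye45 ze54) (ke xe22 ye40 ze50) (ke xe7 ye3 ze29) (ke xe15 ye55 ze17) (ke xe14 ye27 ze40) (ke xe22 ye40 ze56) (ke xe22 ye40 ze53) (ke xe22 ye40 ze59) (ke xe13 ye40 ze12) (ke xe13 ye44 ze7) (ke xe10 ye47 ze22) (ke xe22 ye41 ze1) (ke xe19 ye6 ze50) (ke xe7 ye3 ze33) (ke xe7 ye3 ze34) (ke xe22 ye41 ze6) (ke xe7 ye6 ze46) (ke xe22 ye41 ze9) (ke xe13 ye38 ze60) (ke xe20 ye28 ze57) (ke xe7 ye3 ze39) (ke xe11 ye10 ze58) (ke xe7 ye5 ze43) (ke xe20 ye25 ze6) (ke xe16 ye45 ze3) (ke xe20 ye20 ze26) (ke xe7 ye3 ze49) (ke xe14 ye43 ze19) (ke xe7 ye10 ze1) (ke xe14 ye3 ze58) (ke xe7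 ye3 ze51) (ke xe18 ye48 ze6) (ke xe13 ye54 ze2) (ke xe7 ye3 ze54) (ke xe22 ye32 ze58) (ke xe14 ye42 ze11) (ke xe15 ye32 ze29) (ke xe7 ye10 ze0) (ke xe11 ye50 ze37) (ke xe7 ye33 ze61) (ke xe22 ye41 ze25) (ke xe7 ye3 ze56) (ke xe13 ye49 ze34) (ke xe7 ye19 ze42) (ke xe22 ye41 ze34) (ke xe22 ye41 ze37) (ke xe22 ye35 ze4) (ke xe22 ye41 ze39) (ke xe7 ye3 ze60) (ke xe13 ye44 ze8) (ke xe22 ye41 ze46) (ke xe22 ye41 ze49) (ke xe7 ye4 ze0) (ke xe22 ye41 ze52) (ke xe7 ye4 ze1) (ke xe22 ye41 ze55) (ke xe12 ye13 ze3) (ke xe13 ye38 ze11) (ke xe22 ye41 ze58) (ke xe16 ye10 ze49) (ke xe7 ye4 ze4) (ke xe7 ye4 ze5)) (@D3.rec (fun _ => Pt) (ke xe12 ye7 ze53) (ke xe7 ye7 ze54) (ke xe22 ye29 ze2) (ke xe13 ye41 ze51) (ke xe22 ye42 ze7) (ke xe12 ye8 ze23) (ke xe22 ye42 ze10) (ke xe7 ye4 ze9)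 (ke xe22 ye42 ze16) (ke xe7 ye4 ze10) (ke xe22 ye42 ze22) (ke xe15 ye50 ze35) (ke xe7 ye49 ze20) (ke xe22 ye42 ze24) (ke xe11 ye44 ze51) (ke xe7 ye15 ze34) (ke xe13 ye3 ze49) (ke xe9 ye4 ze16) (ke xe7 ye4 ze16) (ke xe22 ye42 ze28) (ke xe19 ye34 ze21) (ke xe7 ye4 ze17) (ke xe22 ye42 ze32) (ke xe13 ye36 ze31) (ke xe21 ye23 ze19) (ke xe22 ye42 ze37) (ke xe7 ye4 ze20) (ke xe17 ye59 ze42) (ke xe7 ye4 ze21) (ke xe22 ye42 ze39) (ke xe22 ye37 ze43) (ke xe22 ye42 ze42) (ke xe22 ye42 ze44) (ke xe7 ye4 ze23) (ke xe22 ye42 ze48) (ke xe7 ye4 ze24) (ke xe22 ye42 ze50) (ke xe22 ye42 ze52) (ke xe7 ye4 ze26) (ke xe13 ye25 ze23) (ke xe22 ye42 ze61) (ke xe7 ye4 ze27) (ke xe22 ye43 ze1) (ke xe7 ye4 ze28) (ke xe7 ye10 ze60) (ke xe13 ye36 ze47) (ke xe14 ye8 ze57) (ke xe22 ye43 ze5) (ke xe14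 ye6 ze46) (ke xe22 ye43 ze10) (ke xe22 ye43 ze12) (ke xe7 ye4 ze33) (ke xe22 ye43 ze18) (ke xe22 ye43 ze21) (ke xe22 ye43 ze24) (ke xe7 ye4 ze34) (ke xe22 ye43 ze29) (ke xe22 ye43 ze31) (ke xe7 ye4 ze35) (ke xe22 ye43 ze37) (ke xe12 ye13 ze26) (ke xe7 ye4 ze36)) (@D3.rec (fun _ => Pt) (ke xe22 ye43 ze40) (ke xe22 ye43 ze2) (ke xe22 ye43 ze46) (ke xe22 ye43 ze47) (ke xe7 ye4 ze37) (ke xe13 ye25 ze43) (ke xe22 ye43 ze52) (ke xe13 ye25 ze51) (ke xe7 ye21 ze36) (ke xe13 ye37 ze8) (ke xe13 ye26 ze0) (ke xe21 ye45 ze19) (ke xe13 ye25 ze52) (ke xe13 ye58 ze32) (ke xe7 ye4 ze45) (ke xe7 ye17 ze45) (ke xe21 ye31 ze20) (ke xe7 ye50 ze53) (ke xe13 ye9 ze40) (ke xe13 ye55 ze61) (ke xe22 ye44 ze7) (ke xe22 ye44 ze9) (ke xe7 ye4 ze52) (ke xe13 ye24 ze39) (ke xe22 ye44 ze19) (ke xe7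 ye4 ze53) (ke xe13 ye57 ze29) (ke xe7 ye4 ze54) (ke xe7 ye28 ze3) (ke xe22 ye44 ze27) (ke xe13 ye59 ze44) (ke xe13 ye57 ze46) (ke xe22 ye44 ze33) (ke xe22 ye44 ze35) (ke xe7 ye4 ze58) (ke xe22 ye44 ze41) (ke xe7 ye4 ze59) (ke xe22 ye44 ze46) (ke xe21 ye19 ze24) (ke xe7 ye4 ze60) (ke xe19 ye55 ze44) (ke xe22 ye44 ze52) (ke xe7 ye4 ze61) (ke xe13 ye25 ze5) (ke xe22 ye44 ze58) (ke xe13 ye58 ze0) (ke xe14 ye7 ze51) (ke xe7 ye5 ze0) (ke xe22 ye45 ze5) (ke xe22 ye45 ze1) (ke xe7 ye5 ze4) (ke xe13 ye25 ze7) (ke xe13 ye25 ze12) (ke xe7 ye11 ze27) (ke xe18 ye0 ze53) (ke xe7 ye50 ze59) (ke xe7 ye5 ze18) (ke xe13 ye9 ze44) (ke xe7 ye11 ze26) (ke xe13 ye46 ze13) (ke xe21 ye27 ze55) (ke xe7 ye5 ze9)) (@D3.rec (fun _ => Pt) (ke xe13 ye25 ze10) (ke xe22 ye45 ze25) (ke xe14 ye2 ze29)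 (ke xe14 ye38 ze15) (ke xe14 ye2 ze53) (ke xe22 ye45 ze28) (ke xe7 ye5 ze15) (ke xe14 ye54 ze9) (ke xe7 ye49 ze23) (ke xe22 ye45 ze37) (ke xe7 ye5 ze17) (ke xe13 ye48 ze11) (ke xe22 ye45 ze15) (ke xe22 ye45 ze44) (ke xe7 ye5 ze19) (ke xe22 ye45 ze45) (ke xe7 ye20 ze26) (ke xe14 ye55 ze5) (ke xe22 ye45 ze49) (ke xe7 ye5 ze21) (ke xe22 ye45 ze55) (ke xe7 ye49 ze46) (ke xe14 ye55 ze9) (ke xe22 ye31 ze49) (ke xe7 ye5 ze23) (ke xe16 ye11 ze0) (ke xe7 ye5 ze24) (ke xe9 ye55 ze23) (ke xe7 ye5 ze25) (ke xe22 ye46 ze8) (ke xe22 ye46 ze11) (ke xe13 ye13 ze55) (ke xe14 ye41 ze23) (ke xe7 ye41 ze16) (ke xe7 ye43 ze38) (ke xe7 ye5 ze31) (ke xe11 ye57 ze45) (ke xe7 ye5 ze35) (ke xe8 ye3 ze36) (ke xe7 ye5 ze37) (ke xe17 ye57 ze6) (ke xe7 ye5 ze39) (ke xe22 ye46 ze16) (ke xe7 ye5 ze40)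 (ke xe12 ye8 ze43) (ke xe7 ye7 ze0) (ke xe13 ye31 ze17) (ke xe13 ye38 ze31) (ke xe22 ye41 ze14) (ke xe22 ye46 ze21) (ke xe22 ye46 ze23) (ke xe7 ye5 ze44) (ke xe13 ye38 ze35) (ke xe7 ye40 ze37) (ke xe9 ye10 ze29) (ke xe7 ye5 ze45) (ke xe19 ye17 ze49) (ke xe7 ye5 ze46) (ke xe22 ye46 ze29) (ke xe20 ye6 ze17) (ke xe22 ye46 ze30) (ke xe7 ye5 ze48)) (@D3.rec (fun _ => Pt) (ke xe20 ye6 ze9) (ke xe22 ye46 ze32) (ke xe7 ye5 ze49) (ke xe19 ye43 ze17) (ke xe22 ye46 ze35) (ke xe22 ye46 ze36) (ke xe16 ye24 ze44) (ke xe13 ye38 ze43) (ke xe20 ye45 ze52) (ke xe7 ye5 ze52) (ke xe22 ye46 ze42) (ke xe7 ye5 ze53) (ke xe13 ye33 ze25) (ke xe22 ye46 ze47) (ke xe22 ye46 ze49) (ke xe22 ye46 ze51) (ke xe7 ye5 ze57) (ke xe22 ye26 ze45) (ke xe7 ye30 ze19) (ke xe22 ye46 ze59) (ke xe7 ye37 ze48)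 (ke xe14 ye42 ze42) (ke xe22 ye19 ze48) (ke xe7 ye40 ze3) (ke xe13 ye53 ze35) (ke xe14 ye23 ze27) (ke xe14 ye19 ze41) (ke xe22 ye47 ze1) (ke xe22 ye47 ze2) (ke xe19 ye24 ze4) (ke xe7 ye6 ze2) (ke xe14 ye16 ze56) (ke xe22 ye47 ze9) (ke xe13 ye46 ze23) (ke xe10 ye5 ze25) (ke xe20 ye6 ze35) (ke xe7 ye6 ze6) (ke xe11 ye47 ze16) (ke xe7 ye6 ze15) (ke xe22 ye47 ze12) (ke xe7 ye6 ze10) (ke xe12 ye38 ze5) (ke xe7 ye6 ze11) (ke xe7 ye6 ze13) (ke xe12 ye36 ze19) (ke xe11 ye47 ze23) (ke xe7 ye6 ze16) (ke xe16 ye43 ze53) (ke xe7 ye6 ze17) (ke xe22 ye47 ze18) (ke xe7 ye6 ze18) (ke xe7 ye59 ze21) (ke xe7 ye6 ze20) (ke xe7 ye6 ze21) (ke xe7 ye59 ze24) (ke xe7 ye6 ze22) (ke xe20 ye20 ze53) (ke xe10 ye1 ze27) (ke xe15 ye23 ze31) (ke xe7 ye6 ze28) (ke xe13 ye31 ze11) (ke xe22 ye30 ze5))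 (@D3.rec (fun _ => Pt) (ke xe22 ye30 ze6) (ke xe22 ye16 ze44) (ke xe22 ye47 ze30) (ke xe22 ye47 ze32) (ke xe22 ye47 ze33) (ke xe7 ye6 ze27) (ke xe22 ye47 ze35) (ke xe22 ye47 ze37) (ke xe22 ye47 ze23) (ke xe13 ye11 ze54) (ke xe7 ye56 ze14) (ke xe22 ye47 ze43) (ke xe22 ye47 ze45) (ke xe7 ye6 ze41) (ke xe22 ye47 ze48) (ke xe22 ye47 ze50) (ke xe22 ye47 ze51) (ke xe7 ye6 ze35) (ke xe13 ye39 ze41) (ke xe14 ye43 ze53) (ke xe22 ye47 ze60) (ke xe7 ye6 ze36) (ke xe22 ye48 ze0) (ke xe7 ye6 ze37) (ke xe22 ye48 ze3) (ke xe8 ye6 ze23) (ke xe7 ye6 ze39) (ke xe22 ye48 ze9) (ke xe22 ye48 ze11) (ke xe7 ye6 ze40) (ke xe22 ye48 ze16) (ke xe22 ye48 ze18) (ke xe20 ye43 ze53) (ke xe22 ye48 ze19) (ke xe7 ye6 ze42) (ke xe22 ye48 ze22) (ke xe13 ye39 ze59) (ke xe13 ye49 ze44) (ke xe21 ye2 ze57)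 (ke xe22 ye48 ze26) (ke xe7 ye6 ze45) (ke xe15 ye8 ze24) (ke xe22 ye48 ze34) (ke xe7 ye6 ze47) (ke xe7 ye35 ze58) (ke xe22 ye48 ze39) (ke xe22 ye48 ze41) (ke xe7 ye6 ze49) (ke xe22 ye26 ze8) (ke xe7 ye41 ze61) (ke xe7 ye41 ze57) (ke xe22 ye48 ze50) (ke xe7 ye6 ze51) (ke xe7 ye35 ze42) (ke xe7 ye45 ze41) (ke xe22 ye48 ze57) (ke xe22 ye48 ze59) (ke xe7 ye6 ze52) (ke xe7 ye6 ze53) (ke xe13 ye7 ze18) (ke xe13 ye7 ze19) (ke xe22 ye49 ze6)) (@D3.rec (fun _ => Pt) (ke xe21 ye13 ze58) (ke xe22 ye49 ze11) (ke xe22 ye49 ze13) (ke xe7 ye6 ze56) (ke xe22 ye49 ze15) (ke xe22 ye49 ze18) (ke xe22 ye49 ze22) (ke xe7 ye6 ze58) (ke xe22 ye49 ze28) (ke xe22 ye49 ze31) (ke xe13 ye36 ze8) (ke xe22 ye49 ze32) (ke xe16 ye28 ze43) (ke xe14 ye59 ze32) (ke xe13 ye13 ze58) (ke xe16 ye24 ze11)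 (ke xe22 ye30 ze28) (ke xe21 ye15 ze7) (ke xe22 ye49 ze41) (ke xe22 ye49 ze45) (ke xe12 ye7 ze13) (ke xe18 ye21 ze49) (ke xe7 ye11 ze60) (ke xe22 ye49 ze52) (ke xe22 ye49 ze53) (ke xe22 ye49 ze54) (ke xe13 ye40 ze43) (ke xe22 ye49 ze57) (ke xe22 ye49 ze61) (ke xe7 ye7 ze12) (ke xe18 ye45 ze6) (ke xe7 ye7 ze13) (ke xe17 ye54 ze24) (ke xe22 ye50 ze5) (ke xe7 ye7 ze16) (ke xe22 ye50 ze10) (ke xe22 ye50 ze12) (ke xe7 ye7 ze17) (ke xe22 ye50 ze16) (ke xe22 ye50 ze18) (ke xe7 ye7 ze18) (ke xe17 ye23 ze7) (ke xe22 ye50 ze23) (ke xe19 ye17 ze44) (ke xe22 ye50 ze28) (ke xe7 ye7 ze20) (ke xe8 ye52 ze44) (ke xe7 ye7 ze21) (ke xe7 ye7 ze22) (ke xe7 ye33 ze40) (ke xe22 ye50 ze34) (ke xe14 ye15 ze2) (ke xe14 ye15 ze8) (ke xe13 ye46 ze18) (ke xe7 ye16 ze41) (ke xe22 ye7 ze11) (ke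 xe7 ye7 ze27) (ke xe7 ye7 ze28) (ke xe7 ye7 ze29) (ke xe7 ye7 ze30) (ke xe14 ye42 ze40) (ke xe22 ye50 ze48)) (@D3.rec (fun _ => Pt) (ke xe22 ye33 ze30) (ke xe9 ye10 ze35) (ke xe22 ye50 ze54) (ke xe7 ye7 ze36) (ke xe22 ye50 ze56) (ke xe11 ye15 ze19) (ke xe18 ye38 ze31) (ke xe22 ye51 ze0) (ke xe7 ye7 ze46) (ke xe10 ye14 ze54) (ke xe18 ye19 ze38) (ke xe18 ye10 ze13) (ke xe7 ye7 ze44) (ke xe22 ye51 ze5) (ke xe12 ye2 ze28) (ke xe7 ye7 ze45) (ke xe22 ye10 ze44) (ke xe21 ye41 ze30) (ke xe9 ye57 ze10) (ke xe7 ye7 ze47) (ke xe8 ye48 ze42) (ke xe7 ye7 ze49) (ke xe12 ye7 ze49) (ke xe20 ye52 ze1) (ke xe7 ye49 ze0) (ke xe13 ye14 ze4) (ke xe22 ye0 ze25) (ke xe20 ye51 ze2) (ke xe19 ye0 ze21) (ke xe7 ye7 ze53) (ke xe22 ye42 ze2) (ke xe22 ye51 ze15) (ke xe22 ye51 ze18) (ke xe22 ye51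 ze21) (ke xe16 ye52 ze50) (ke xe18 ye59 ze51) (ke xe7 ye56 ze58) (ke xe21 ye12 ze23) (ke xe22 ye51 ze28) (ke xe22 ye51 ze30) (ke xe7 ye8 ze0) (ke xe22 ye51 ze33) (ke xe7 ye7 ze60) (ke xe7 ye7 ze61) (ke xe20 ye45 ze24) (ke xe22 ye51 ze40) (ke xe22 ye51 ze31) (ke xe22 ye51 ze45) (ke xe7 ye8 ze1) (ke xe8 ye51 ze36) (ke xe12 ye8 ze2) (ke xe12 ye8 ze6) (ke xe21 ye12 ze55) (ke xe7 ye8 ze5) (ke xe22 ye51 ze51) (ke xe22 ye51 ze52) (ke xe12 ye6 ze39) (ke xe22 ye51 ze57) (ke xe8 ye48 ze27) (ke xe22 ye29 ze26) (ke xe22 ye51 ze59) (ke xe18 ye41 ze42)) (@D3.rec (fun _ => Pt) (ke xe7 ye8 ze11) (ke xe22 ye52 ze2) (ke xe7 ye8 ze12) (ke xe18 ye41 ze50) (ke xe12 ye28 ze42) (ke xe17 ye49 ze24) (ke xe22 ye38 ze53) (ke xe7 ye19 ze2) (ke xe8 ye5 ze5) (ke xe11 ye23 ze9) (ke xe7 ye12 ze60)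 (ke xe13 ye27 ze60) (ke xe22 ye52 ze14) (ke xe22 ye52 ze16) (ke xe7 ye13 ze6) (ke xe22 ye52 ze18) (ke xe22 ye52 ze20) (ke xe13 ye26 ze46) (ke xe22 ye52 ze22) (ke xe22 ye52 ze27) (ke xe7 ye8 ze23) (ke xe22 ye52 ze30) (ke xe22 ye52 ze34) (ke xe22 ye52 ze36) (ke xe7 ye8 ze26) (ke xe22 ye52 ze42) (ke xe7 ye8 ze27) (ke xe22 ye52 ze48) (ke xe7 ye8 ze28) (ke xe22 ye52 ze54) (ke xe22 ye52 ze56) (ke xe22 ye52 ze57) (ke xe7 ye8 ze30) (ke xe13 ye42 ze18) (ke xe22 ye52 ze60) (ke xe22 ye53 ze0) (ke xe7 ye8 ze32) (ke xe22 ye53 ze3) (ke xe22 ye53 ze5) (ke xe22 ye53 ze7) (ke xe22 ye53 ze12) (ke xe7 ye8 ze34) (ke xe13 ye14 ze2) (ke xe12 ye7 ze40) (ke xe22 ye53 ze15) (ke xe22 ye53 ze20) (ke xe22 ye9 ze47) (ke xe7 ye8 ze39) (ke xe22 ye53 ze24) (ke xe7 ye8 ze40) (ke xe22 ye53 ze25) (ke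 xe22 ye53 ze26) (ke xe22 ye53 ze31) (ke xe22 ye53 ze32) (ke xe7 ye8 ze41) (ke xe22 ye52 ze28) (ke xe22 ye53 ze42) (ke xe7 ye8 ze43) (ke xe22 ye48 ze2) (ke xe22 ye53 ze45) (ke xe21 ye4 ze23) (ke xe22 ye53 ze48)) (@D3.rec (fun _ => Pt) (ke xe16 ye27 ze38) (ke xe7 ye8 ze45) (ke xe16 ye11 ze25) (ke xe7 ye8 ze46) (ke xe16 ye22 ze36) (ke xe11 ye59 ze29) (ke xe7 ye8 ze47) (ke xe7 ye49 ze5) (ke xe13 ye41 ze31) (ke xe22 ye37 ze56) (ke xe7 ye49 ze12) (ke xe22 ye53 ze56) (ke xe22 ye53 ze57) (ke xe7 ye8 ze51) (ke xe22 ye54 ze1) (ke xe16 ye28 ze20) (ke xe22 ye47 ze54) (ke xe22 ye54 ze6) (ke xe22 ye54 ze11) (ke xe22 ye14 ze37) (ke xe7 ye8 ze55) (ke xe21 ye39 ze42) (ke xe22 ye52 ze39) (ke xe18 ye51 ze14) (ke xe7 ye8 ze56) (ke xe22 ye52 ze50) (ke xe22 ye54 ze26) (ke xe22 ye48 ze14)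 (ke xe22 ye54 ze29) (ke xe22 ye54 ze30) (ke xe7 ye11 ze51) (ke xe7 ye8 ze59) (ke xe22 ye54 ze34) (ke xe22 ye54 ze35) (ke xe7 ye8 ze60) (ke xe22 ye54 ze42) (ke xe22 ye52 ze43) (ke xe22 ye48 ze6) (ke xe22 ye54 ze47) (ke xe7 ye9 ze1) (ke xe22 ye54 ze53) (ke xe19 ye28 ze36) (ke xe7 ye9 ze2) (ke xe19 ye19 ze40) (ke xe19 ye24 ze46) (ke xe20 ye41 ze31) (ke xe22 ye54 ze59) (ke xe22 ye54 ze61) (ke xe22 ye55 ze1) (ke xe7 ye9 ze4) (ke xe7 ye9 ze5) (ke xe22 ye55 ze11) (ke xe22 ye55 ze13) (ke xe11 ye4 ze4) (ke xe14 ye56 ze35) (ke xe22 ye55 ze20) (ke xe12 ye55 ze44) (ke xe7 ye9 ze10) (ke xe22 ye50 ze0) (ke xe14 ye43 ze1) (ke xe13 ye43 ze29) (ke xe22 ye55 ze25)) (@D3.rec (fun _ => Pt) (ke xe22 ye55 ze26) (ke xe7 ye9 ze15) (ke xe11 ye4 ze17) (ke xe22 ye55 ze33) (ke xe22 ye55 ze35)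 (ke xe7 ye9 ze17) (ke xe16 ye26 ze41) (ke xe21 ye12 ze5) (ke xe22 ye55 ze44) (ke xe7 ye9 ze18) (ke xe21 ye29 ze60) (ke xe22 ye55 ze47) (ke xe11 ye14 ze2) (ke xe22 ye55 ze50) (ke xe7 ye9 ze20) (ke xe22 ye55 ze54) (ke xe22 ye55 ze55) (ke xe7 ye9 ze21) (ke xe22 ye55 ze60) (ke xe7 ye9 ze22) (ke xe22 ye31 ze59) (ke xe22 ye56 ze7) (ke xe7 ye9 ze25) (ke xe21 ye11 ze55) (ke xe22 ye56 ze10) (ke xe13 ye27 ze12) (ke xe22 ye32 ze59) (ke xe21 ye40 ze26) (ke xe7 ye32 ze32) (ke xe7 ye32 ze29) (ke xe19 ye30 ze21) (ke xe7 ye9 ze29) (ke xe7 ye40 ze7) (ke xe22 ye27 ze47) (ke xe22 ye56 ze26) (ke xe7 ye9 ze30) (ke xe22 ye56 ze28) (ke xe7 ye9 ze31) (ke xe22 ye32 ze50) (ke xe22 ye56 ze35) (ke xe22 ye56 ze37) (ke xe20 ye35 ze55) (ke xe7 ye9 ze37) (ke xe22 ye56 ze41) (ke xe17 ye3 ze36) (ke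 xe22 ye56 ze47) (ke xe7 ye9 ze38) (ke xe7 ye48 ze55) (ke xe22 ye56 ze48) (ke xe7 ye55 ze23) (ke xe19 ye45 ze24) (ke xe7 ye9 ze40) (ke xe22 ye56 ze53) (ke xe14 ye59 ze34) (ke xe7 ye9 ze42) (ke xe22 ye48 ze29) (ke xe22 ye56 ze57) (ke xe16 ye26 ze8) (ke xe22 ye26 ze38) (ke xe22 ye32 ze60) (ke xe22 ye56 ze61) (ke xe7 ye9 ze45)) (@D3.rec (fun _ => Pt) (ke xe22 ye14 ze36) (ke xe7 ye45 ze40) (ke xe7 ye10 ze20) (ke xe7 ye41 ze1) (ke xe19 ye28 ze8) (ke xe7 ye9 ze53) (ke xe22 ye57 ze17) (ke xe7 ye9 ze54) (ke xe10 ye9 ze47) (ke xe7 ye9 ze55) (ke xe8 ye16 ze52) (ke xe7 ye9 ze56) (ke xe22 ye57 ze29) (ke xe22 ye57 ze33) (ke xe14 ye52 ze27) (ke xe22 ye41 ze12) (ke xe22 ye41 ze11) (ke xe13 ye16 ze6) (ke xe20 ye33 ze30) (ke xe7 ye9 ze60) (ke xe14 ye39 ze30) (ke xe13 ye21 ze44) (ke xe13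 ye19 ze40) (ke xe21 ye32 ze31) (ke xe22 ye41 ze21) (ke xe22 ye57 ze40) (ke xe22 ye57 ze42) (ke xe18 ye51 ze50) (ke xe22 ye57 ze46) (ke xe19 ye34 ze22) (ke xe22 ye57 ze50) (ke xe7 ye10 ze3) (ke xe22 ye57 ze53) (ke xe22 ye57 ze56) (ke xe7 ye34 ze31) (ke xe7 ye39 ze15) (ke xe14 ye43 ze11) (ke xe22 ye57 ze58) (ke xe7 ye10 ze5) (ke xe7 ye39 ze45) (ke xe14 ye26 ze35) (ke xe7 ye10 ze11) (ke xe14 ye26 ze4) (ke xe7 ye10 ze12) (ke xe7 ye48 ze12) (ke xe22 ye58 ze4) (ke xe7 ye30 ze27) (ke xe13 ye17 ze52) (ke xe22 ye58 ze10) (ke xe7 ye10 ze16) (ke xe13 ye39 ze24) (ke xe22 ye58 ze13) (ke xe7 ye35 ze4) (ke xe22 ye58 ze16) (ke xe22 ye58 ze20) (ke xe7 ye10 ze19) (ke xe22 ye57 ze7) (ke xe14 ye48 ze57) (ke xe7 ye54 ze41) (ke xe22 ye58 ze25) (ke xe7 ye10 ze21) (ke xe13 ye53 ze59)) (@D3.rec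 (fun _ => Pt) (ke xe22 ye58 ze28) (ke xe22 ye58 ze30) (ke xe22 ye58 ze33) (ke xe22 ye58 ze37) (ke xe7 ye10 ze23) (ke xe7 ye36 ze53) (ke xe22 ye58 ze39) (ke xe22 ye36 ze0) (ke xe22 ye58 ze48) (ke xe7 ye10 ze26) (ke xe22 ye49 ze0) (ke xe22 ye58 ze51) (ke xe7 ye42 ze14) (ke xe7 ye35 ze25) (ke xe22 ye58 ze57) (ke xe22 ye58 ze60) (ke xe22 ye58 ze61) (ke xe22 ye59 ze1) (ke xe7 ye10 ze28) (ke xe22 ye59 ze3) (ke xe7 ye10 ze29) (ke xe22 ye59 ze9) (ke xe19 ye8 ze12) (ke xe22 ye59 ze13) (ke xe7 ye10 ze30) (ke xe7 ye46 ze3) (ke xe7 ye35 ze26) (ke xe22 ye59 ze15) (ke xe7 ye30 ze22) (ke xe13 ye19 ze28) (ke xe22 ye59 ze23) (ke xe7 ye10 ze33) (ke xe22 ye48 ze53) (ke xe22 ye59 ze26) (ke xe13 ye9 ze52) (ke xe13 ye7 ze26) (ke xe22 ye59 ze32) (ke xe13 ye11 ze27) (ke xe13 ye39 ze36) (ke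 xe7 ye10 ze37) (ke xe7 ye37 ze26) (ke xe14 ye41 ze24) (ke xe22 ye59 ze36) (ke xe22 ye47 ze24) (ke xe7 ye10 ze40) (ke xe10 ye57 ze13) (ke xe7 ye10 ze41) (ke xe8 ye30 ze45) (ke xe22 ye59 ze42) (ke xe7 ye10 ze42) (ke xe22 ye59 ze46) (ke xe7 ye10 ze43) (ke xe22 ye59 ze49) (ke xe22 ye59 ze53) (ke xe22 ye53 ze19) (ke xe22 ye59 ze55) (ke xe7 ye10 ze45) (ke xe10 ye27 ze17) (ke xe22 ye59 ze59) (ke xe7 ye10 ze46) (ke xe22 ye59 ze61) (ke xe19 ye15 ze22)) (@D3.rec (fun _ => Pt) (ke xe7 ye44 ze20) (ke xe23 ye0 ze3) (ke xe14 ye20 ze9) (ke xe23 ye0 ze6) (ke xe7 ye10 ze48) (ke xe23 ye0 ze11) (ke xe23 ye0 ze13) (ke xe7 ye47 ze44) (ke xe13 ye29 ze10) (ke xe23 ye0 ze21) (ke xe23 ye0 ze24) (ke xe23 ye0 ze28) (ke xe7 ye10 ze50) (ke xe23 ye0 ze34) (ke xe23 ye0 ze35) (ke xe23 ye0 ze37) (ke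 xe7 ye10 ze51) (ke xe7 ye10 ze52) (ke xe23 ye0 ze43) (ke xe23 ye0 ze46) (ke xe23 ye0 ze47) (ke xe10 ye59 ze10) (ke xe7 ye10 ze54) (ke xe23 ye0 ze50) (ke xe23 ye0 ze51) (ke xe7 ye10 ze55) (ke xe20 ye43 ze28) (ke xe23 ye0 ze56) (ke xe16 ye45 ze36) (ke xe23 ye0 ze59) (ke xe17 ye51 ze10) (ke xe13 ye24 ze23) (ke xe23 ye1 ze2) (ke xe7 ye21 ze43) (ke xe23 ye1 ze4) (ke xe22 ye40 ze55) (ke xe21 ye50 ze29) (ke xe7 ye11 ze0) (ke xe14 ye42 ze46) (ke xe7 ye38 ze45) (ke xe23 ye1 ze8) (ke xe15 ye39 ze51) (ke xe7 ye11 ze3) (ke xe23 ye1 ze12) (ke xe7 ye11 ze4) (ke xe23 ye1 ze14) (ke xe7 ye11 ze5) (ke xe13 ye24 ze45) (ke xe23 ye1 ze16) (ke xe8 ye26 ze36) (ke xe23 ye1 ze17) (ke xe7 ye11 ze9) (ke xe23 ye1 ze21) (ke xe23 ye1 ze22) (ke xe7 ye11 ze10) (ke xe19 ye29 ze36) (ke xe19 ye49 ze36)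 (ke xe7 ye11 ze11) (ke xe19 ye10 ze7) (ke xe23 ye1 ze31) (ke xe10 ye56 ze32) (ke xe23 ye1 ze35)) (@D3.rec (fun _ => Pt) (ke xe7 ye11 ze12) (ke xe23 ye1 ze41) (ke xe7 ye11 ze16) (ke xe10 ye56 ze20) (ke xe7 ye55 ze19) (ke xe7 ye42 ze57) (ke xe20 ye16 ze31) (ke xe12 ye25 ze34) (ke xe13 ye25 ze9) (ke xe23 ye1 ze48) (ke xe7 ye11 ze19) (ke xe7 ye37 ze57) (ke xe13 ye4 ze24) (ke xe22 ye2 ze55) (ke xe23 ye1 ze55) (ke xe18 ye37 ze33) (ke xe18 ye37 ze3) (ke xe7 ye11 ze23) (ke xe23 ye1 ze60) (ke xe7 ye11 ze25) (ke xe13 ye54 ze55) (ke xe22 ye45 ze18) (ke xe13 ye48 ze58) (ke xe22 ye45 ze12) (ke xe15 ye14 ze51) (ke xe7 ye11 ze28) (ke xe23 ye2 ze10) (ke xe23 ye2 ze14) (ke xe7 ye29 ze30) (ke xe13 ye53 ze33) (ke xe13 ye8 ze1) (ke xe7 ye45 ze61) (ke xe23 ye2 ze16) (ke xe23 ye2 ze17) (ke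 xe7 ye11 ze34) (ke xe14 ye55 ze14) (ke xe23 ye2 ze23) (ke xe23 ye2 ze25) (ke xe17 ye57 ze28) (ke xe7 ye11 ze37) (ke xe23 ye2 ze27) (ke xe23 ye2 ze29) (ke xe23 ye2 ze30) (ke xe23 ye2 ze32) (ke xe7 ye11 ze38) (ke xe7 ye11 ze39) (ke xe23 ye2 ze38) (ke xe23 ye2 ze40) (ke xe23 ye2 ze43) (ke xe7 ye11 ze41) (ke xe16 ye9 ze7) (ke xe15 ye43 ze33) (ke xe7 ye11 ze42) (ke xe7 ye11 ze43) (ke xe21 ye38 ze51) (ke xe23 ye2 ze53) (ke xe23 ye2 ze54) (ke xe13 ye59 ze33) (ke xe7 ye11 ze48) (ke xe13 ye46 ze46) (ke xe23 ye2 ze58) (ke xe7 ye11 ze49)) (@D3.rec (fun _ => Pt) (ke xe12 ye8 ze30) (ke xe22 ye54 ze28) (ke xe23 ye3 ze2) (ke xe7 ye11 ze52) (ke xe23 ye3 ze9) (ke xe23 ye3 ze13) (ke xe7 ye19 ze21) (ke xe22 ye49 ze51) (ke xe7 ye12 ze0) (ke xe23 ye3 ze18) (ke xe8 ye3 ze14) (ke xe13 ye23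 ze57) (ke xe22 ye49 ze44) (ke xe13 ye51 ze53) (ke xe8 ye46 ze0) (ke xe22 ye45 ze14) (ke xe23 ye3 ze25) (ke xe7 ye12 ze3) (ke xe23 ye3 ze27) (ke xe14 ye0 ze34) (ke xe16 ye26 ze40) (ke xe7 ye12 ze4) (ke xe23 ye3 ze30) (ke xe23 ye3 ze32) (ke xe7 ye23 ze3) (ke xe8 ye46 ze35) (ke xe7 ye13 ze26) (ke xe7 ye39 ze19) (ke xe7 ye12 ze8) (ke xe23 ye3 ze36) (ke xe7 ye12 ze19) (ke xe13 ye26 ze47) (ke xe23 ye3 ze38) (ke xe19 ye25 ze52) (ke xe7 ye12 ze12) (ke xe13 ye26 ze52) (ke xe14 ye28 ze16) (ke xe20 ye5 ze42) (ke xe23 ye3 ze42) (ke xe12 ye46 ze26) (ke xe7 ye12 ze17) (ke xe14 ye6 ze41) (ke xe7 ye12 ze20) (ke xe13 ye27 ze7) (ke xe23 ye3 ze48) (ke xe7 ye12 ze21) (ke xe23 ye3 ze50) (ke xe7 ye12 ze22) (ke xe7 ye14 ze56) (ke xe14 ye18 ze5) (ke xe9 ye9 ze51) (ke xe20 ye36 ze35) (ke xe7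 ye12 ze32) (ke xe23 ye3 ze54) (ke xe8 ye45 ze40) (ke xe12 ye22 ze10) (ke xe23 ye3 ze61) (ke xe7 ye12 ze36) (ke xe23 ye4 ze1) (ke xe7 ye12 ze37) (ke xe13 ye23 ze18) (ke xe14 ye28 ze23)) (@D3.rec (fun _ => Pt) (ke xe16 ye26 ze17) (ke xe7 ye12 ze39) (ke xe16 ye26 ze18) (ke xe16 ye52 ze13) (ke xe23 ye4 ze14) (ke xe22 ye38 ze56) (ke xe7 ye12 ze43) (ke xe20 ye41 ze6) (ke xe23 ye4 ze20) (ke xe7 ye12 ze45) (ke xe10 ye52 ze41) (ke xe16 ye26 ze13) (ke xe7 ye12 ze47) (ke xe14 ye22 ze43) (ke xe22 ye50 ze35) (ke xe14 ye18 ze19) (ke xe23 ye4 ze24) (ke xe14 ye44 ze26) (ke xe7 ye12 ze50) (ke xe23 ye4 ze26) (ke xe23 ye4 ze30) (ke xe7 ye12 ze53) (ke xe18 ye55 ze10) (ke xe23 ye4 ze38) (ke xe13 ye34 ze50) (ke xe7 ye12 ze55) (ke xe15 ye7 ze11) (ke xe14 ye10 ze45) (ke xe14 ye10 ze46) (ke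 xe22 ye23 ze26) (ke xe23 ye4 ze46) (ke xe23 ye4 ze48) (ke xe7 ye12 ze59) (ke xe23 ye4 ze50) (ke xe23 ye4 ze52) (ke xe22 ye52 ze11) (ke xe13 ye35 ze38) (ke xe23 ye4 ze57) (ke xe23 ye4 ze58) (ke xe23 ye4 ze60) (ke xe7 ye13 ze1) (ke xe13 ye28 ze18) (ke xe21 ye13 ze57) (ke xe20 ye31 ze23) (ke xe23 ye5 ze2) (ke xe7 ye13 ze3) (ke xe16 ye23 ze27) (ke xe23 ye5 ze7) (ke xe7 ye13 ze4) (ke xe23 ye5 ze11) (ke xe23 ye5 ze12) (ke xe7 ye13 ze5) (ke xe15 ye57 ze59) (ke xe23 ye5 ze16) (ke xe22 ye52 ze17) (ke xe23 ye5 ze22) (ke xe23 ye5 ze23) (ke xe7 ye13 ze7) (ke xe23 ye5 ze26) (ke xe13 ye28 ze36) (ke xe13 ye15 ze7) (ke xe23 ye5 ze28)) (@D3.rec (fun _ => Pt) (ke xe23 ye5 ze29) (ke xe7 ye13 ze10) (ke xe12 ye8 ze40) (ke xe22 ye29 ze4) (ke xe15 ye20 ze54) (ke xe23 ye5 ze34) (ke xe7 ye13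 ze12) (ke xe13 ye22 ze55) (ke xe13 ye21 ze18) (ke xe13 ye16 ze32) (ke xe22 ye18 ze59) (ke xe14 ye43 ze13) (ke xe13 ye23 ze8) (ke xe23 ye5 ze45) (ke xe7 ye13 ze16) (ke xe14 ye15 ze22) (ke xe14 ye15 ze23) (ke xe7 ye17 ze9) (ke xe7 ye31 ze54) (ke xe23 ye5 ze53) (ke xe7 ye13 ze20) (ke xe22 ye57 ze32) (ke xe23 ye5 ze61) (ke xe13 ye45 ze25) (ke xe7 ye13 ze22) (ke xe7 ye13 ze23) (ke xe7 ye13 ze24) (ke xe23 ye6 ze0) (ke xe22 ye57 ze60) (ke xe12 ye10 ze3) (ke xe16 ye26 ze32) (ke xe23 ye6 ze3) (ke xe23 ye6 ze4) (ke xe16 ye26 ze33) (ke xe8 ye46 ze1) (ke xe7 ye13 ze30) (ke xe22 ye53 ze51) (ke xe23 ye6 ze11) (ke xe7 ye13 ze33) (ke xe23 ye6 ze13) (ke xe13 ye2 ze35) (ke xe9 ye45 ze1) (ke xe7 ye13 ze34) (ke xe13 ye29 ze26) (ke xe14 ye43 ze12) (ke xe16 ye34 ze58) (ke xe23 ye6 ze19)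 (ke xe13 ye14 ze23) (ke xe13 ye15 ze5) (ke xe7 ye13 ze38) (ke xe23 ye6 ze20) (ke xe22 ye51 ze22) (ke xe7 ye13 ze40) (ke xe18 ye50 ze56) (ke xe7 ye13 ze41) (ke xe23 ye6 ze26) (ke xe21 ye45 ze42) (ke xe16 ye17 ze15) (ke xe7 ye13 ze46) (ke xe18 ye41 ze19) (ke xe9 ye52 ze59) (ke xe23 ye6 ze28)) (@D3.rec (fun _ => Pt) (ke xe16 ye26 ze5) (ke xe23 ye6 ze31) (ke xe7 ye13 ze51) (ke xe23 ye6 ze33) (ke xe23 ye6 ze34) (ke xe23 ye6 ze36) (ke xe7 ye13 ze52) (ke xe7 ye47 ze57) (ke xe13 ye15 ze22) (ke xe23 ye6 ze43) (ke xe23 ye6 ze45) (ke xe7 ye13 ze55) (ke xe7 ye13 ze56) (ke xe23 ye6 ze52) (ke xe7 ye13 ze57) (ke xe23 ye6 ze56) (ke xe23 ye6 ze58) (ke xe10 ye20 ze36) (ke xe19 ye12 ze49) (ke xe18 ye38 ze44) (ke xe23 ye6 ze60) (ke xe23 ye6 ze61) (ke xe7 ye13 ze61) (ke xe18 ye42 ze1) (ke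 xe7 ye14 ze0) (ke xe9 ye8 ze35) (ke xe7 ye14 ze2) (ke xe23 ye7 ze2) (ke xe7 ye14 ze3) (ke xe11 ye50 ze31) (ke xe11 ye6 ze50) (ke xe13 ye32 ze8) (ke xe21 ye14 ze3) (ke xe16 ye35 ze45) (ke xe23 ye4 ze23) (ke xe22 ye46 ze56) (ke xe22 ye34 ze14) (ke xe7 ye14 ze10) (ke xe23 ye7 ze8) (ke xe23 ye7 ze9) (ke xe14 ye58 ze41) (ke xe21 ye7 ze58) (ke xe22 ye28 ze56) (ke xe23 ye7 ze11) (ke xe7 ye14 ze18) (ke xe10 ye15 ze14) (ke xe23 ye7 ze14) (ke xe7 ye14 ze16) (ke xe7 ye14 ze17) (ke xe23 ye7 ze12) (ke xe16 ye31 ze32) (ke xe13 ye24 ze3) (ke xe13 ye14 ze33) (ke xe23 ye7 ze22) (ke xe8 ye52 ze15) (ke xe7 ye14 ze20) (ke xe14 ye59 ze5) (ke xe7 ye14 ze23) (ke xe23 ye7 ze28) (ke xe7 ye14 ze24) (ke xe10 ye40 ze33) (ke xe23 ye7 ze34)) (@D3.rec (fun _ => Pt) (ke xe23 ye7 ze35) (ke xe7 ye14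 ze26) (ke xe23 ye7 ze37) (ke xe23 ye7 ze38) (ke xe23 ye7 ze41) (ke xe21 ye12 ze21) (ke xe23 ye7 ze44) (ke xe7 ye14 ze31) (ke xe23 ye7 ze47) (ke xe23 ye7 ze52) (ke xe7 ye14 ze34) (ke xe23 ye7 ze57) (ke xe7 ye14 ze35) (ke xe23 ye8 ze1) (ke xe7 ye14 ze36) (ke xe16 ye2 ze8) (ke xe23 ye8 ze5) (ke xe7 ye14 ze38) (ke xe13 ye31 ze33) (ke xe23 ye8 ze6) (ke xe23 ye8 ze7) (ke xe16 ye52 ze40) (ke xe7 ye14 ze41) (ke xe19 ye39 ze60) (ke xe23 ye8 ze13) (ke xe7 ye14 ze42) (ke xe23 ye8 ze18) (ke xe7 ye14 ze43) (ke xe15 ye59 ze55) (ke xe23 ye8 ze20) (ke xe23 ye8 ze21) (ke xe7 ye14 ze44) (ke xe23 ye7 ze45) (ke xe23 ye8 ze30) (ke xe23 ye5 ze4) (ke xe23 ye8 ze32) (ke xe14 ye55 ze16) (ke xe8 ye51 ze33) (ke xe23 ye8 ze36) (ke xe21 ye10 ze48) (ke xe23 ye8 ze41) (ke xe16 ye32 ze26) (ke xe16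 ye32 ze27) (ke xe23 ye8 ze46) (ke xe7 ye14 ze51) (ke xe23 ye8 ze52) (ke xe8 ye48 ze9) (ke xe7 ye14 ze53) (ke xe23 ye5 ze0) (ke xe22 ye3 ze4) (ke xe23 ye8 ze57) (ke xe22 ye41 ze22) (ke xe7 ye14 ze54) (ke xe23 ye8 ze61) (ke xe23 ye9 ze0) (ke xe7 ye14 ze55) (ke xe23 ye8 ze3) (ke xe23 ye9 ze8) (ke xe7 ye53 ze52) (ke xe23 ye5 ze15) (ke xe23 ye9 ze12) (ke xe23 ye9 ze13)) (@D3.rec (fun _ => Pt) (ke xe7 ye16 ze54) (ke xe7 ye14 ze58) (ke xe23 ye9 ze20) (ke xe23 ye9 ze21) (ke xe7 ye14 ze59) (ke xe23 ye9 ze27) (ke xe23 ye7 ze58) (ke xe7 ye16 ze55) (ke xe23 ye5 ze10) (ke xe16 ye1 ze59) (ke xe23 ye9 ze35) (ke xe7 ye15 ze0) (ke xe12 ye34 ze1) (ke xe8 ye15 ze61) (ke xe7 ye15 ze1) (ke xe16 ye1 ze50) (ke xe23 ye9 ze40) (ke xe11 ye43 ze10) (ke xe20 ye49 ze34) (ke xe23 ye9 ze45) (ke xe15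 ye15 ze7) (ke xe7 ye15 ze3) (ke xe7 ye15 ze4) (ke xe23 ye9 ze55) (ke xe16 ye33 ze40) (ke xe13 ye15 ze12) (ke xe8 ye7 ze1) (ke xe14 ye43 ze10) (ke xe13 ye15 ze21) (ke xe13 ye32 ze60) (ke xe23 ye5 ze52) (ke xe23 ye10 ze2) (ke xe7 ye15 ze9) (ke xe16 ye27 ze17) (ke xe23 ye10 ze5) (ke xe8 ye47 ze17) (ke xe23 ye10 ze7) (ke xe23 ye10 ze8) (ke xe7 ye15 ze12) (ke xe23 ye10 ze12) (ke xe23 ye10 ze14) (ke xe7 ye15 ze13) (ke xe23 ye10 ze19) (ke xe23 ye10 ze21) (ke xe7 ye15 ze14) (ke xe23 ye10 ze24) (ke xe7 ye15 ze15) (ke xe23 ye10 ze30) (ke xe23 ye10 ze31) (ke xe23 ye5 ze37) (ke xe20 ye37 ze7) (ke xe23 ye10 ze32) (ke xe7 ye15 ze19) (ke xe23 ye10 ze33) (ke xe11 ye37 ze52) (ke xe23 ye10 ze34) (ke xe7 ye15 ze20) (ke xe13 ye15 ze26) (ke xe20 ye1 ze3) (ke xe23 ye10 ze37) (ke xe7 ye15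 ze22) (ke xe23 ye10 ze43)) (@D3.rec (fun _ => Pt) (ke xe8 ye47 ze10) (ke xe7 ye15 ze25) (ke xe23 ye5 ze32) (ke xe13 ye15 ze6) (ke xe23 ye10 ze47) (ke xe22 ye26 ze53) (ke xe7 ye40 ze41) (ke xe13 ye23 ze9) (ke xe13 ye23 ze49) (ke xe23 ye10 ze51) (ke xe7 ye15 ze36) (ke xe7 ye15 ze37) (ke xe7 ye17 ze0) (ke xe12 ye46 ze60) (ke xe7 ye15 ze59) (ke xe13 ye16 ze60) (ke xe8 ye28 ze59) (ke xe7 ye15 ze41) (ke xe7 ye16 ze4) (ke xe14 ye39 ze31) (ke xe23 ye11 ze4) (ke xe13 ye50 ze3) (ke xe23 ye11 ze7) (ke xe7 ye15 ze42) (ke xe7 ye15 ze43) (ke xe13 ye20 ze12) (ke xe13 ye22 ze41) (ke xe18 ye0 ze25) (ke xe7 ye15 ze47) (ke xe19 ye33 ze29) (ke xe7 ye15 ze48) (ke xe23 ye11 ze18) (ke xe7 ye15 ze49) (ke xe23 ye11 ze26) (ke xe23 ye11 ze29) (ke xe19 ye15 ze42) (ke xe7 ye15 ze51) (ke xe7 ye15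 ze53) (ke xe19 ye30 ze58) (ke xe10 ye23 ze50) (ke xe23 ye11 ze30) (ke xe23 ye11 ze32) (ke xe8 ye15 ze23) (ke xe23 ye11 ze34) (ke xe23 ye11 ze36) (ke xe12 ye56 ze60) (ke xe12 ye34 ze31) (ke xe7 ye15 ze58) (ke xe23 ye10 ze56) (ke xe23 ye10 ze57) (ke xe13 ye2 ze42) (ke xe18 ye57 ze15) (ke xe7 ye15 ze60) (ke xe22 ye22 ze14) (ke xe15 ye10 ze7) (ke xe23 ye11 ze42) (ke xe20 ye11 ze59) (ke xe23 ye11 ze47) (ke xe7 ye16 ze0) (ke xe13 ye21 ze15) (ke xe23 ye11 ze51) (ke xe15 ye32 ze13)) (@D3.rec (fun _ => Pt) (ke xe23 ye11 ze55) (ke xe23 ye11 ze56) (ke xe7 ye16 ze3) (ke xe13 ye19 ze32) (ke xe19 ye34 ze34) (ke xe19 ye19 ze4) (ke xe14 ye35 ze23) (ke xe20 ye18 ze54) (ke xe23 ye11 ze60) (ke xe14 ye35 ze32) (ke xe23 ye11 ze10) (ke xe18 ye54 ze43) (ke xe23 ye12 ze3) (ke xe7 ye16 ze9)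 (ke xe11 ye14 ze7) (ke xe7 ye16 ze10) (ke xe23 ye12 ze12) (ke xe18 ye51 ze38) (ke xe13 ye50 ze0) (ke xe22 ye52 ze59) (ke xe17 ye1 ze14) (ke xe23 ye12 ze17) (ke xe7 ye16 ze12) (ke xe23 ye12 ze23) (ke xe22 ye35 ze59) (ke xe13 ye40 ze23) (ke xe23 ye12 ze28) (ke xe23 ye12 ze31) (ke xe18 ye44 ze4) (ke xe7 ye16 ze14) (ke xe23 ye12 ze38) (ke xe17 ye34 ze14) (ke xe14 ye25 ze19) (ke xe7 ye16 ze15) (ke xe7 ye16 ze16) (ke xe23 ye12 ze44) (ke xe14 ye35 ze35) (ke xe7 ye16 ze18) (ke xe23 ye12 ze46) (ke xe13 ye8 ze4) (ke xe16 ye44 ze21) (ke xe23 ye12 ze50) (ke xe7 ye16 ze20) (ke xe7 ye36 ze3) (ke xe23 ye12 ze53) (ke xe23 ye12 ze55) (ke xe7 ye16 ze22) (ke xe13 ye11 ze24) (ke xe13 ye4 ze28) (ke xe13 ye9 ze54) (ke xe19 ye28 ze45) (ke xe17 ye48 ze4) (ke xe7 ye16 ze24) (ke xe15 ye55 ze37)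 (ke xe7 ye16 ze25) (ke xe15 ye55 ze34) (ke xe7 ye16 ze26) (ke xe23 ye13 ze0) (ke xe20 ye49 ze7) (ke xe23 ye13 ze1) (ke xe7 ye16 ze27) (ke xe23 ye13 ze6)) (@D3.rec (fun _ => Pt) (ke xe8 ye26 ze49) (ke xe13 ye46 ze11) (ke xe22 ye25 ze4) (ke xe20 ye16 ze39) (ke xe8 ye11 ze33) (ke xe20 ye17 ze9) (ke xe22 ye5 ze41) (ke xe7 ye16 ze31) (ke xe23 ye13 ze16) (ke xe11 ye45 ze3) (ke xe7 ye16 ze33) (ke xe13 ye46 ze1) (ke xe23 ye13 ze20) (ke xe13 ye25 ze59) (ke xe23 ye13 ze26) (ke xe7 ye16 ze36) (ke xe7 ye38 ze2) (ke xe14 ye41 ze60) (ke xe13 ye29 ze53) (ke xe22 ye6 ze36) (ke xe22 ye7 ze10) (ke xe7 ye34 ze27) (ke xe23 ye13 ze37) (ke xe13 ye27 ze33) (ke xe7 ye16 ze44) (ke xe7 ye16 ze45) (ke xe8 ye49 ze43) (ke xe8 ye50 ze19) (ke xe7 ye16 ze50) (ke xe8 ye48 ze60) (ke xe23 ye13 ze42)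 (ke xe23 ye13 ze44) (ke xe23 ye13 ze46) (ke xe7 ye16 ze48) (ke xe23 ye13 ze48) (ke xe23 ye13 ze50) (ke xe23 ye13 ze52) (ke xe7 ye16 ze49) (ke xe23 ye13 ze54) (ke xe23 ye13 ze56) (ke xe23 ye13 ze39) (ke xe14 ye0 ze41) (ke xe7 ye16 ze60) (ke xe23 ye14 ze2) (ke xe23 ye9 ze17) (ke xe23 ye9 ze33) (ke xe13 ye37 ze59) (ke xe20 ye32 ze39) (ke xe7 ye16 ze56) (ke xe23 ye14 ze7) (ke xe7 ye16 ze57) (ke xe23 ye14 ze11) (ke xe23 ye14 ze13) (ke xe7 ye16 ze59) (ke xe23 ye14 ze18) (ke xe23 ye13 ze61) (ke xe7 ye16 ze61) (ke xe23 ye14 ze24) (ke xe23 ye3 ze43) (ke xe23 ye14 ze27) (ke xe7 ye17 ze1) (ke xe15 ye14 ze5)) (@D3.rec (fun _ => Pt) (ke xe7 ye17 ze3) (ke xe23 ye14 ze34) (ke xe7 ye17 ze4) (ke xe23 ye14 ze38) (ke xe7 ye17 ze6) (ke xe7 ye17 ze8) (ke xe23 ye14 ze41) (ke xe22 ye38 ze0)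 (ke xe7 ye17 ze11) (ke xe23 ye14 ze44) (ke xe23 ye14 ze46) (ke xe9 ye8 ze28) (ke xe7 ye17 ze12) (ke xe16 ye47 ze23) (ke xe7 ye17 ze14) (ke xe21 ye12 ze20) (ke xe7 ye17 ze16) (ke xe23 ye14 ze49) (ke xe23 ye14 ze51) (ke xe7 ye17 ze17) (ke xe21 ye30 ze44) (ke xe7 ye17 ze18) (ke xe23 ye14 ze53) (ke xe8 ye50 ze43) (ke xe16 ye35 ze56) (ke xe7 ye17 ze21) (ke xe13 ye16 ze51) (ke xe17 ye25 ze1) (ke xe7 ye17 ze23) (ke xe7 ye18 ze52) (ke xe7 ye49 ze18) (ke xe23 ye2 ze57) (ke xe23 ye14 ze58) (ke xe23 ye14 ze61) (ke xe23 ye14 ze9) (ke xe23 ye15 ze5) (ke xe7 ye17 ze29) (ke xe23 ye15 ze11) (ke xe7 ye17 ze31) (ke xe23 ye15 ze15) (ke xe7 ye17 ze32) (ke xe23 ye15 ze20) (ke xe7 ye17 ze33) (ke xe23 ye15 ze24) (ke xe23 ye15 ze27) (ke xe7 ye17 ze61) (ke xe23 ye15 ze35) (ke xe23 ye15 ze37)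 (ke xe7 ye17 ze35) (ke xe13 ye50 ze60) (ke xe20 ye32 ze34) (ke xe23 ye15 ze41) (ke xe7 ye17 ze37) (ke xe22 ye34 ze26) (ke xe20 ye30 ze58) (ke xe23 ye15 ze48) (ke xe7 ye17 ze38) (ke xe13 ye50 ze24) (ke xe23 ye15 ze53) (ke xe23 ye15 ze55) (ke xe23 ye15 ze57) (ke xe7 ye17 ze40)) (@D3.rec (fun _ => Pt) (ke xe23 ye16 ze0) (ke xe23 ye16 ze2) (ke xe23 ye16 ze6) (ke xe7 ye17 ze41) (ke xe23 ye15 ze6) (ke xe23 ye16 ze15) (ke xe23 ye14 ze10) (ke xe15 ye47 ze33) (ke xe22 ye44 ze1) (ke xe10 ye1 ze35) (ke xe7 ye17 ze44) (ke xe13 ye26 ze11) (ke xe23 ye16 ze18) (ke xe8 ye47 ze57) (ke xe23 ye16 ze19) (ke xe23 ye16 ze21) (ke xe7 ye17 ze46) (ke xe19 ye56 ze40) (ke xe19 ye1 ze46) (ke xe14 ye25 ze22) (ke xe23 ye16 ze26) (ke xe7 ye17 ze48) (ke xe23 ye16 ze32) (ke xe18 ye40 ze43) (ke xe7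 ye17 ze51) (ke xe23 ye9 ze34) (ke xe14 ye3 ze41) (ke xe21 ye2 ze36) (ke xe12 ye9 ze42) (ke xe7 ye17 ze53) (ke xe23 ye16 ze38) (ke xe23 ye15 ze2) (ke xe7 ye17 ze54) (ke xe23 ye9 ze30) (ke xe23 ye16 ze48) (ke xe7 ye48 ze42) (ke xe22 ye53 ze46) (ke xe23 ye16 ze51) (ke xe23 ye16 ze53) (ke xe7 ye17 ze56) (ke xe23 ye16 ze59) (ke xe7 ye17 ze57) (ke xe23 ye17 ze2) (ke xe23 ye15 ze16) (ke xe23 ye14 ze16) (ke xe23 ye17 ze9) (ke xe7 ye17 ze59) (ke xe23 ye13 ze60) (ke xe7 ye17 ze60) (ke xe23 ye17 ze20) (ke xe23 ye17 ze25) (ke xe23 ye15 ze30) (ke xe23 ye17 ze30) (ke xe23 ye17 ze19) (ke xe7 ye18 ze0) (ke xe7 ye18 ze1) (ke xe23 ye17 ze37) (ke xe23 ye17 ze40) (ke xe13 ye37 ze22) (ke xe19 ye54 ze17) (ke xe23 ye3 ze39) (ke xe23 ye4 ze11)) (@D3.rec (fun _ => Pt) (ke xe23 ye17 ze48) (ke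 xe23 ye17 ze50) (ke xe7 ye18 ze7) (ke xe23 ye17 ze54) (ke xe23 ye17 ze56) (ke xe16 ye20 ze28) (ke xe15 ye13 ze46) (ke xe23 ye18 ze1) (ke xe7 ye18 ze10) (ke xe8 ye45 ze61) (ke xe17 ye54 ze44) (ke xe23 ye18 ze4) (ke xe23 ye18 ze8) (ke xe23 ye18 ze10) (ke xe7 ye18 ze12) (ke xe23 ye18 ze15) (ke xe7 ye18 ze13) (ke xe23 ye18 ze21) (ke xe7 ye18 ze14) (ke xe23 ye18 ze25) (ke xe23 ye18 ze28) (ke xe7 ye18 ze17) (ke xe23 ye14 ze37) (ke xe14 ye21 ze46) (ke xe22 ye29 ze3) (ke xe14 ye44 ze22) (ke xe16 ye23 ze48) (ke xe7 ye18 ze20) (ke xe18 ye20 ze7) (ke xe7 ye18 ze22) (ke xe11 ye11 ze36) (ke xe23 ye18 ze36) (ke xe7 ye18 ze23) (ke xe14 ye28 ze26) (ke xe13 ye23 ze42) (ke xe23 ye18 ze40) (ke xe7 ye18 ze25) (ke xe23 ye18 ze46) (ke xe15 ye13 ze1) (ke xe7 ye18 ze28) (ke xe23 ye14 ze30)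 (ke xe13 ye51 ze60) (ke xe21 ye41 ze24) (ke xe13 ye14 ze22) (ke xe13 ye28 ze37) (ke xe18 ye22 ze46) (ke xe7 ye18 ze31) (ke xe23 ye18 ze52) (ke xe7 ye18 ze33) (ke xe7 ye18 ze34) (ke xe23 ye18 ze56) (ke xe7 ye18 ze35) (ke xe22 ye40 ze10) (ke xe10 ye25 ze39) (ke xe23 ye19 ze0) (ke xe22 ye52 ze12) (ke xe7 ye18 ze38) (ke xe9 ye47 ze9) (ke xe7 ye18 ze39) (ke xe23 ye19 ze9) (ke xe17 ye11 ze24) (ke xe7 ye18 ze42)) (@D3.rec (fun _ => Pt) (ke xe13 ye45 ze18) (ke xe14 ye49 ze27) (ke xe23 ye19 ze13) (ke xe13 ye44 ze21) (ke xe17 ye35 ze38) (ke xe7 ye32 ze15) (ke xe23 ye19 ze19) (ke xe7 ye18 ze48) (ke xe23 ye19 ze21) (ke xe23 ye19 ze23) (ke xe23 ye19 ze25) (ke xe7 ye18 ze50) (ke xe23 ye19 ze27) (ke xe23 ye19 ze29) (ke xe23 ye19 ze31) (ke xe7 ye18 ze51) (ke xe23 ye19 ze33) (ke xe13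 ye59 ze3) (ke xe23 ye14 ze55) (ke xe7 ye18 ze53) (ke xe10 ye18 ze24) (ke xe7 ye18 ze55) (ke xe10 ye17 ze58) (ke xe23 ye2 ze60) (ke xe13 ye47 ze57) (ke xe12 ye7 ze48) (ke xe23 ye19 ze41) (ke xe7 ye18 ze58) (ke xe23 ye19 ze42) (ke xe7 ye18 ze59) (ke xe8 ye50 ze45) (ke xe15 ye0 ze7) (ke xe10 ye59 ze19) (ke xe7 ye19 ze0) (ke xe7 ye19 ze1) (ke xe21 ye16 ze6) (ke xe23 ye19 ze47) (ke xe23 ye19 ze48) (ke xe7 ye19 ze3) (ke xe7 ye19 ze4) (ke xe23 ye19 ze49) (ke xe16 ye33 ze3) (ke xe7 ye19 ze7) (ke xe7 ye19 ze8) (ke xe12 ye47 ze14) (ke xe23 ye19 ze51) (ke xe22 ye42 ze12) (ke xe18 ye40 ze55) (ke xe7 ye19 ze14) (ke xe23 ye19 ze59) (ke xe7 ye19 ze16) (ke xe23 ye11 ze38) (ke xe7 ye19 ze18) (ke xe23 ye20 ze5) (ke xe7 ye19 ze19) (ke xe23 ye20 ze9) (ke xe23 ye20 ze12) (ke xe7 ye19 ze41)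 (ke xe21 ye27 ze47) (ke xe23 ye3 ze6) (ke xe13 ye47 ze49) (ke xe18 ye23 ze55)) (@D3.rec (fun _ => Pt) (ke xe11 ye34 ze37) (ke xe7 ye19 ze23) (ke xe23 ye20 ze18) (ke xe20 ye1 ze22) (ke xe11 ye33 ze40) (ke xe7 ye19 ze24) (ke xe12 ye7 ze47) (ke xe23 ye20 ze23) (ke xe23 ye19 ze55) (ke xe23 ye20 ze27) (ke xe22 ye42 ze13) (ke xe23 ye20 ze28) (ke xe15 ye50 ze38) (ke xe7 ye19 ze28) (ke xe15 ye12 ze40) (ke xe23 ye20 ze34) (ke xe15 ye12 ze25) (ke xe7 ye19 ze29) (ke xe23 ye8 ze39) (ke xe12 ye8 ze32) (ke xe14 ye52 ze28) (ke xe23 ye20 ze37) (ke xe15 ye12 ze50) (ke xe22 ye42 ze19) (ke xe20 ye31 ze41) (ke xe23 ye20 ze43) (ke xe7 ye19 ze33) (ke xe23 ye20 ze47) (ke xe7 ye19 ze34) (ke xe22 ye54 ze43) (ke xe23 ye20 ze56) (ke xe13 ye4 ze17) (ke xe14 ye45 ze4) (ke xe23 ye20 ze58) (ke xe23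 ye20 ze60) (ke xe7 ye19 ze36) (ke xe22 ye45 ze29) (ke xe7 ye19 ze37) (ke xe23 ye21 ze3) (ke xe23 ye20 ze0) (ke xe14 ye45 ze14) (ke xe23 ye21 ze9) (ke xe7 ye19 ze39) (ke xe21 ye1 ze13) (ke xe7 ye19 ze40) (ke xe21 ye28 ze8) (ke xe23 ye21 ze20) (ke xe23 ye20 ze13) (ke xe15 ye22 ze48) (ke xe23 ye21 ze21) (ke xe7 ye19 ze44) (ke xe23 ye21 ze22) (ke xe7 ye19 ze45) (ke xe13 ye38 ze13) (ke xe22 ye41 ze43) (ke xe23 ye21 ze25) (ke xe23 ye21 ze31) (ke xe23 ye21 ze35) (ke xe7 ye19 ze49) (ke xe22 ye41 ze61) (ke xe13 ye49 ze41) (ke xe23 ye21 ze40)) (@D3.rec (fun _ => Pt) (ke xe23 ye21 ze42) (ke xe7 ye19 ze51) (ke xe16 ye10 ze44) (ke xe18 ye56 ze40) (ke xe22 ye17 ze53) (ke xe7 ye19 ze52) (ke xe22 ye41 ze29) (ke xe18 ye58 ze45) (ke xe21 ye53 ze46) (ke xe8 ye38 ze60) (ke xe7 ye19 ze56)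 (ke xe13 ye16 ze23) (ke xe7 ye40 ze38) (ke xe18 ye44 ze41) (ke xe23 ye21 ze59) (ke xe7 ye19 ze58) (ke xe23 ye22 ze4) (ke xe17 ye23 ze9) (ke xe7 ye19 ze60) (ke xe13 ye5 ze5) (ke xe23 ye22 ze6) (ke xe10 ye48 ze12) (ke xe17 ye41 ze6) (ke xe7 ye20 ze3) (ke xe21 ye20 ze5) (ke xe7 ye20 ze13) (ke xe23 ye22 ze17) (ke xe22 ye11 ze43) (ke xe23 ye22 ze22) (ke xe23 ye22 ze26) (ke xe23 ye22 ze27) (ke xe7 ye20 ze7) (ke xe12 ye17 ze27) (ke xe21 ye58 ze24) (ke xe17 ye40 ze38) (ke xe23 ye22 ze35) (ke xe9 ye35 ze34) (ke xe23 ye22 ze14) (ke xe23 ye22 ze41) (ke xe7 ye20 ze14) (ke xe17 ye55 ze26) (ke xe7 ye20 ze16) (ke xe13 ye55 ze42) (ke xe23 ye22 ze42) (ke xe7 ye20 ze19) (ke xe7 ye20 ze20) (ke xe7 ye20 ze22) (ke xe15 ye43 ze39) (ke xe7 ye53 ze58) (ke xe21 ye29 ze27) (ke xe23 ye22 ze49)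 (ke xe7 ye20 ze27) (ke xe14 ye1 ze60) (ke xe23 ye22 ze54) (ke xe7 ye20 ze25) (ke xe22 ye45 ze46) (ke xe23 ye22 ze56) (ke xe23 ye22 ze58) (ke xe21 ye24 ze18) (ke xe8 ye43 ze15) (ke xe23 ye23 ze0) (ke xe23 ye23 ze1)) (@D3.rec (fun _ => Pt) (ke xe7 ye20 ze29) (ke xe18 ye18 ze32) (ke xe9 ye46 ze11) (ke xe7 ye21 ze47) (ke xe14 ye2 ze15) (ke xe23 ye23 ze11) (ke xe12 ye27 ze12) (ke xe7 ye20 ze31) (ke xe13 ye22 ze59) (ke xe21 ye23 ze18) (ke xe7 ye20 ze32) (ke xe23 ye23 ze17) (ke xe23 ye23 ze18) (ke xe14 ye2 ze24) (ke xe23 ye23 ze21) (ke xe23 ye23 ze25) (ke xe7 ye20 ze35) (ke xe20 ye27 ze36) (ke xe7 ye20 ze36) (ke xe23 ye23 ze31) (ke xe20 ye13 ze11) (ke xe7 ye20 ze39) (ke xe15 ye42 ze21) (ke xe15 ye48 ze23) (ke xe7 ye20 ze40) (ke xe21 ye24 ze33) (ke xe17 ye16 ze28) (ke xe7 ye20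 ze43) (ke xe14 ye54 ze56) (ke xe7 ye20 ze44) (ke xe7 ye20 ze45) (ke xe13 ye6 ze15) (ke xe17 ye11 ze19) (ke xe13 ye37 ze29) (ke xe20 ye45 ze29) (ke xe13 ye27 ze24) (ke xe7 ye20 ze55) (ke xe16 ye54 ze10) (ke xe7 ye20 ze50) (ke xe14 ye25 ze50) (ke xe23 ye23 ze46) (ke xe14 ye17 ze48) (ke xe19 ye5 ze22) (ke xe22 ye26 ze30) (ke xe18 ye48 ze25) (ke xe17 ye51 ze24) (ke xe23 ye23 ze52) (ke xe7 ye20 ze57) (ke xe7 ye20 ze58) (ke xe18 ye10 ze17) (ke xe7 ye20 ze59) (ke xe23 ye24 ze1) (ke xe7 ye20 ze61) (ke xe7 ye21 ze0) (ke xe7 ye21 ze1) (ke xe22 ye26 ze48) (ke xe22 ye46 ze60) (ke xe20 ye44 ze54) (ke xe13 ye11 ze12) (ke xe13 ye34 ze61) (ke xe7 ye46 ze10) (ke xe14 ye2 ze55)) (@D3.rec (fun _ => Pt) (ke xe7 ye21 ze8) (ke xe23 ye24 ze11) (ke xe13 ye23 ze32) (ke xe7 ye21 ze10) (ke xe23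 ye24 ze16) (ke xe7 ye21 ze13) (ke xe9 ye45 ze53) (ke xe23 ye24 ze20) (ke xe7 ye21 ze12) (ke xe23 ye24 ze22) (ke xe23 ye24 ze18) (ke xe22 ye38 ze12) (ke xe23 ye24 ze25) (ke xe12 ye27 ze9) (ke xe7 ye21 ze14) (ke xe11 ye14 ze44) (ke xe7 ye21 ze15) (ke xe12 ye3 ze21) (ke xe7 ye21 ze22) (ke xe14 ye55 ze30) (ke xe7 ye21 ze18) (ke xe14 ye2 ze21) (ke xe7 ye21 ze20) (ke xe15 ye41 ze43) (ke xe12 ye48 ze15) (ke xe7 ye21 ze21) (ke xe23 ye24 ze30) (ke xe7 ye21 ze23) (ke xe7 ye21 ze24) (ke xe23 ye24 ze36) (ke xe23 ye24 ze39) (ke xe7 ye21 ze26) (ke xe22 ye41 ze18) (ke xe23 ye24 ze46) (ke xe7 ye21 ze30) (ke xe14 ye3 ze61) (ke xe23 ye24 ze53) (ke xe23 ye24 ze55) (ke xe23 ye24 ze57) (ke xe7 ye21 ze28) (ke xe21 ye55 ze25) (ke xe23 ye24 ze61) (ke xe23 ye25 ze1) (ke xe23 ye24 ze49) (ke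 xe23 ye25 ze6) (ke xe23 ye25 ze8) (ke xe11 ye20 ze18) (ke xe23 ye25 ze11) (ke xe7 ye21 ze32) (ke xe20 ye17 ze1) (ke xe22 ye28 ze22) (ke xe14 ye56 ze26) (ke xe19 ye52 ze61) (ke xe7 ye21 ze40) (ke xe23 ye25 ze21) (ke xe13 ye37 ze20) (ke xe22 ye43 ze53) (ke xe16 ye6 ze36) (ke xe23 ye25 ze24) (ke xe7 ye21 ze37) (ke xe19 ye55 ze60) (ke xe23 ye25 ze29)) (@D3.rec (fun _ => Pt) (ke xe7 ye21 ze38) (ke xe16 ye13 ze12) (ke xe23 ye25 ze36) (ke xe7 ye21 ze39) (ke xe23 ye25 ze40) (ke xe15 ye13 ze38) (ke xe16 ye12 ze25) (ke xe7 ye21 ze41) (ke xe23 ye25 ze46) (ke xe23 ye25 ze47) (ke xe23 ye25 ze48) (ke xe23 ye25 ze50) (ke xe7 ye21 ze44) (ke xe23 ye25 ze54) (ke xe7 ye21 ze45) (ke xe23 ye23 ze3) (ke xe23 ye23 ze8) (ke xe21 ye12 ze27) (ke xe7 ye21 ze49) (ke xe21 ye29 ze45) (ke xe23 ye26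 ze0) (ke xe23 ye26 ze3) (ke xe7 ye21 ze54) (ke xe14 ye5 ze16) (ke xe23 ye26 ze9) (ke xe7 ye21 ze52) (ke xe23 ye26 ze11) (ke xe18 ye40 ze23) (ke xe7 ye21 ze53) (ke xe23 ye26 ze12) (ke xe23 ye26 ze14) (ke xe23 ye26 ze6) (ke xe23 ye26 ze16) (ke xe21 ye32 ze6) (ke xe7 ye21 ze55) (ke xe23 ye26 ze20) (ke xe9 ye45 ze13) (ke xe7 ye25 ze3) (ke xe13 ye8 ze57) (ke xe23 ye26 ze22) (ke xe23 ye26 ze25) (ke xe7 ye25 ze5) (ke xe13 ye52 ze42) (ke xe8 ye21 ze16) (ke xe20 ye50 ze9) (ke xe13 ye56 ze2) (ke xe7 ye21 ze59) (ke xe23 ye26 ze36) (ke xe11 ye16 ze11) (ke xe23 ye26 ze38) (ke xe7 ye21 ze60) (ke xe23 ye26 ze42) (ke xe21 ye19 ze20) (ke xe7 ye22 ze8) (ke xe22 ye42 ze55) (ke xe14 ye5 ze35) (ke xe23 ye26 ze53) (ke xe23 ye26 ze57) (ke xe7 ye22 ze1) (ke xe23 ye26 ze60) (ke xe7 ye22 ze2)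 (ke xe13 ye25 ze19)) (@D3.rec (fun _ => Pt) (ke xe22 ye22 ze15) (ke xe23 ye27 ze4) (ke xe13 ye55 ze45) (ke xe7 ye22 ze5) (ke xe23 ye27 ze9) (ke xe23 ye13 ze59) (ke xe7 ye22 ze6) (ke xe21 ye21 ze50) (ke xe7 ye28 ze25) (ke xe7 ye22 ze7) (ke xe23 ye26 ze47) (ke xe7 ye22 ze9) (ke xe7 ye22 ze10) (ke xe23 ye27 ze20) (ke xe23 ye27 ze22) (ke xe23 ye24 ze13) (ke xe7 ye22 ze15) (ke xe23 ye27 ze23) (ke xe22 ye40 ze26) (ke xe7 ye22 ze17) (ke xe7 ye22 ze18) (ke xe8 ye21 ze27) (ke xe7 ye22 ze21) (ke xe14 ye6 ze7) (ke xe23 ye27 ze33) (ke xe7 ye22 ze20) (ke xe23 ye27 ze35) (ke xe23 ye27 ze30) (ke xe23 ye27 ze41) (ke xe20 ye12 ze45) (ke xe23 ye27 ze47) (ke xe12 ye56 ze13) (ke xe9 ye17 ze17) (ke xe23 ye27 ze52) (ke xe7 ye22 ze24) (ke xe23 ye27 ze57) (ke xe23 ye27 ze60) (ke xe7 ye22 ze35)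 (ke xe23 ye28 ze4) (ke xe12 ye13 ze28) (ke xe7 ye22 ze27) (ke xe23 ye28 ze6) (ke xe23 ye28 ze7) (ke xe23 ye28 ze9) (ke xe7 ye22 ze28) (ke xe14 ye6 ze23) (ke xe22 ye22 ze18) (ke xe23 ye28 ze18) (ke xe7 ye22 ze30) (ke xe23 ye28 ze22) (ke xe7 ye22 ze31) (ke xe21 ye24 ze43) (ke xe23 ye28 ze28) (ke xe7 ye22 ze33) (ke xe23 ye28 ze34) (ke xe23 ye28 ze36) (ke xe7 ye22 ze34) (ke xe23 ye28 ze1) (ke xe23 ye28 ze39) (ke xe7 ye22 ze36) (ke xe23 ye28 ze43) (ke xe23 ye28 ze45)) (@D3.rec (fun _ => Pt) (ke xe7 ye22 ze38) (ke xe7 ye22 ze39) (ke xe7 ye22 ze40) (ke xe23 ye28 ze50) (ke xe7 ye22 ze42) (ke xe7 ye22 ze43) (ke xe7 ye22 ze44) (ke xe16 ye10 ze37) (ke xe20 ye49 ze9) (ke xe7 ye22 ze46) (ke xe23 ye28 ze56) (ke xe12 ye44 ze11) (ke xe7 ye22 ze48) (ke xe21 ye33 ze20) (ke xe23 ye28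 ze61) (ke xe23 ye29 ze3) (ke xe7 ye22 ze54) (ke xe14 ye6 ze54) (ke xe23 ye29 ze8) (ke xe23 ye29 ze9) (ke xe7 ye22 ze52) (ke xe23 ye29 ze11) (ke xe23 ye5 ze40) (ke xe23 ye29 ze13) (ke xe7 ye22 ze53) (ke xe23 ye29 ze16) (ke xe23 ye27 ze15) (ke xe23 ye29 ze6) (ke xe19 ye43 ze52) (ke xe13 ye25 ze26) (ke xe7 ye22 ze55) (ke xe22 ye43 ze38) (ke xe7 ye22 ze56) (ke xe23 ye29 ze25) (ke xe21 ye19 ze46) (ke xe7 ye22 ze60) (ke xe22 ye43 ze15) (ke xe23 ye29 ze31) (ke xe7 ye22 ze59) (ke xe23 ye19 ze37) (ke xe19 ye55 ze15) (ke xe7 ye22 ze61) (ke xe21 ye30 ze48) (ke xe7 ye23 ze1) (ke xe23 ye29 ze39) (ke xe23 ye3 ze34) (ke xe13 ye25 ze31) (ke xe14 ye40 ze15) (ke xe7 ye23 ze5) (ke xe7 ye23 ze6) (ke xe20 ye54 ze56) (ke xe23 ye29 ze45) (ke xe7 ye23 ze10) (ke xe12 ye22 ze50) (ke xe23 ye29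 ze51) (ke xe23 ye29 ze53) (ke xe7 ye23 ze8) (ke xe23 ye29 ze54) (ke xe23 ye29 ze56) (ke xe23 ye29 ze57) (ke xe23 ye29 ze48) (ke xe23 ye29 ze61)) (@D3.rec (fun _ => Pt) (ke xe13 ye25 ze45) (ke xe23 ye30 ze4) (ke xe23 ye30 ze6) (ke xe7 ye23 ze13) (ke xe23 ye30 ze7) (ke xe23 ye30 ze9) (ke xe7 ye23 ze17) (ke xe23 ye30 ze14) (ke xe23 ye30 ze16) (ke xe7 ye23 ze16) (ke xe23 ye30 ze20) (ke xe19 ye45 ze32) (ke xe23 ye30 ze12) (ke xe23 ye30 ze26) (ke xe7 ye23 ze18) (ke xe8 ye36 ze15) (ke xe22 ye4 ze56) (ke xe9 ye15 ze9) (ke xe15 ye49 ze43) (ke xe7 ye23 ze22) (ke xe22 ye45 ze0) (ke xe7 ye23 ze24) (ke xe23 ye14 ze52) (ke xe23 ye30 ze32) (ke xe7 ye49 ze57) (ke xe9 ye45 ze57) (ke xe21 ye19 ze45) (ke xe7 ye23 ze26) (ke xe20 ye24 ze9) (ke xe14 ye56 ze3) (ke xe7 ye23 ze27) (ke xe23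 ye30 ze37) (ke xe13 ye25 ze13) (ke xe7 ye49 ze59) (ke xe14 ye55 ze51) (ke xe7 ye59 ze36) (ke xe7 ye59 ze37) (ke xe20 ye21 ze50) (ke xe7 ye23 ze32) (ke xe23 ye30 ze43) (ke xe7 ye59 ze42) (ke xe14 ye8 ze2) (ke xe7 ye23 ze34) (ke xe9 ye46 ze10) (ke xe11 ye29 ze2) (ke xe14 ye8 ze11) (ke xe23 ye30 ze48) (ke xe23 ye30 ze50) (ke xe16 ye28 ze4) (ke xe7 ye23 ze37) (ke xe14 ye8 ze15) (ke xe7 ye23 ze38) (ke xe23 ye30 ze58) (ke xe23 ye25 ze25) (ke xe23 ye30 ze61) (ke xe7 ye23 ze39) (ke xe14 ye8 ze34) (ke xe23 ye31 ze2) (ke xe9 ye46 ze6) (ke xe14 ye8 ze25) (ke xe23 ye31 ze7) (ke xe12 ye22 ze31)) (@D3.rec (fun _ => Pt) (ke xe23 ye31 ze10) (ke xe7 ye23 ze41) (ke xe20 ye13 ze22) (ke xe13 ye50 ze17) (ke xe7 ye23 ze43) (ke xe14 ye8 ze22) (ke xe23 ye31 ze15) (ke xe23 ye25 ze13) (ke xe23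 ye31 ze19) (ke xe16 ye29 ze25) (ke xe23 ye29 ze22) (ke xe7 ye23 ze45) (ke xe9 ye43 ze41) (ke xe19 ye48 ze21) (ke xe7 ye51 ze20) (ke xe7 ye23 ze46) (ke xe15 ye13 ze27) (ke xe19 ye40 ze4) (ke xe7 ye24 ze10) (ke xe23 ye31 ze25) (ke xe23 ye31 ze26) (ke xe7 ye23 ze48) (ke xe14 ye8 ze49) (ke xe23 ye31 ze28) (ke xe23 ye31 ze30) (ke xe18 ye39 ze0) (ke xe19 ye56 ze14) (ke xe14 ye6 ze44) (ke xe21 ye55 ze26) (ke xe19 ye26 ze31) (ke xe8 ye38 ze56) (ke xe7 ye23 ze53) (ke xe23 ye13 ze40) (ke xe13 ye37 ze57) (ke xe9 ye1 ze45) (ke xe7 ye23 ze54) (ke xe23 ye31 ze0) (ke xe23 ye31 ze42) (ke xe23 ye25 ze26) (ke xe23 ye31 ze44) (ke xe7 ye23 ze58) (ke xe11 ye4 ze0) (ke xe7 ye23 ze59) (ke xe23 ye13 ze23) (ke xe13 ye25 ze30) (ke xe21 ye8 ze45) (ke xe23 ye31 ze48) (ke xe7 ye23 ze61) (ke xe23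 ye31 ze53) (ke xe20 ye6 ze42) (ke xe7 ye24 ze1) (ke xe11 ye3 ze57) (ke xe23 ye31 ze55) (ke xe23 ye31 ze57) (ke xe23 ye31 ze59) (ke xe7 ye24 ze2) (ke xe23 ye32 ze1) (ke xe23 ye31 ze21) (ke xe23 ye32 ze6) (ke xe7 ye24 ze3) (ke xe19 ye54 ze13) (ke xe23 ye32 ze15))
def f_e_14 : D2 → D3 → Pt := @D2.rec (fun _ => D3 → Pt) (@D3.rec (fun _ => Pt) (ke xe7 ye53 ze45) (ke xe23 ye25 ze38) (ke xe23 ye32 ze18) (ke xe23 ye32 ze19) (ke xe7 ye24 ze5) (ke xe15 ye50 ze24) (ke xe7 ye24 ze6) (ke xe23 ye32 ze27) (ke xe15 ye13 ze28) (ke xe23 ye25 ze32) (ke xe23 ye32 ze33) (ke xe7 ye24 ze8) (ke xe21 ye15 ze39) (ke xe7 ye24 ze9) (ke xe23 ye32 ze45) (ke xe8 ye3 ze52) (ke xe15 ye13 ze50) (ke xe23 ye21 ze24) (ke xe23 ye18 ze3) (ke xe7 ye24 ze11) (ke xe7 ye24 ze12) (ke xe23 ye19 ze24) (ke xe23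 ye33 ze0) (ke xe23 ye26 ze58) (ke xe23 ye28 ze20) (ke xe14 ye9 ze39) (ke xe23 ye33 ze7) (ke xe23 ye33 ze9) (ke xe7 ye24 ze15) (ke xe16 ye10 ze57) (ke xe7 ye24 ze17) (ke xe18 ye19 ze17) (ke xe12 ye7 ze59) (ke xe7 ye24 ze18) (ke xe13 ye38 ze19) (ke xe22 ye43 ze55) (ke xe11 ye2 ze60) (ke xe23 ye33 ze19) (ke xe16 ye29 ze22) (ke xe7 ye24 ze20) (ke xe23 ye17 ze29) (ke xe13 ye46 ze41) (ke xe7 ye24 ze21) (ke xe23 ye33 ze20) (ke xe7 ye24 ze22) (ke xe18 ye18 ze27) (ke xe23 ye33 ze23) (ke xe7 ye24 ze25) (ke xe23 ye25 ze57) (ke xe23 ye33 ze25) (ke xe17 ye53 ze33) (ke xe14 ye53 ze19) (ke xe23 ye33 ze26) (ke xe7 ye24 ze28) (ke xe13 ye6 ze60) (ke xe23 ye33 ze33) (ke xe7 ye24 ze30) (ke xe23 ye33 ze35) (ke xe7 ye24 ze31) (ke xe7 ye31 ze2) (ke xe7 ye24 ze34) (ke xe23 ye33 ze40)) (@D3.rec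 (fun _ => Pt) (ke xe22 ye22 ze21) (ke xe22 ye30 ze23) (ke xe7 ye24 ze37) (ke xe23 ye33 ze47) (ke xe17 ye12 ze26) (ke xe23 ye25 ze53) (ke xe14 ye9 ze61) (ke xe18 ye23 ze3) (ke xe7 ye24 ze42) (ke xe19 ye4 ze39) (ke xe19 ye18 ze45) (ke xe23 ye33 ze54) (ke xe7 ye24 ze44) (ke xe23 ye33 ze56) (ke xe10 ye7 ze43) (ke xe22 ye15 ze36) (ke xe7 ye24 ze45) (ke xe23 ye33 ze61) (ke xe23 ye34 ze2) (ke xe7 ye24 ze49) (ke xe14 ye1 ze32) (ke xe13 ye14 ze58) (ke xe14 ye17 ze39) (ke xe12 ye59 ze35) (ke xe7 ye45 ze43) (ke xe22 ye38 ze57) (ke xe22 ye39 ze4) (ke xe23 ye34 ze13) (ke xe7 ye24 ze52) (ke xe23 ye6 ze57) (ke xe22 ye36 ze18) (ke xe7 ye24 ze54) (ke xe14 ye1 ze20) (ke xe23 ye34 ze24) (ke xe7 ye25 ze42) (ke xe7 ye24 ze56) (ke xe23 ye34 ze29) (ke xe7 ye24 ze57) (ke xe12 ye8 ze56) (ke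 xe23 ye34 ze33) (ke xe23 ye34 ze34) (ke xe17 ye56 ze31) (ke xe7 ye24 ze61) (ke xe8 ye21 ze19) (ke xe7 ye25 ze0) (ke xe7 ye25 ze1) (ke xe22 ye58 ze21) (ke xe23 ye34 ze36) (ke xe7 ye47 ze13) (ke xe23 ye26 ze28) (ke xe7 ye25 ze8) (ke xe21 ye29 ze53) (ke xe7 ye25 ze10) (ke xe23 ye34 ze41) (ke xe7 ye25 ze12) (ke xe23 ye34 ze46) (ke xe7 ye25 ze13) (ke xe12 ye22 ze39) (ke xe19 ye18 ze33) (ke xe7 ye25 ze17) (ke xe13 ye52 ze52) (ke xe23 ye34 ze56)) (@D3.rec (fun _ => Pt) (ke xe7 ye25 ze15) (ke xe22 ye30 ze30) (ke xe23 ye34 ze58) (ke xe23 ye34 ze60) (ke xe23 ye35 ze1) (ke xe23 ye34 ze52) (ke xe23 ye35 ze3) (ke xe7 ye25 ze18) (ke xe13 ye21 ze46) (ke xe17 ye55 ze29) (ke xe7 ye27 ze39) (ke xe13 ye6 ze31) (ke xe17 ye56 ze19) (ke xe23 ye35 ze16) (ke xe7 ye27 ze40) (ke xe13 ye53 ze4)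 (ke xe7 ye25 ze21) (ke xe7 ye25 ze23) (ke xe23 ye35 ze23) (ke xe21 ye45 ze23) (ke xe7 ye25 ze24) (ke xe13 ye54 ze21) (ke xe7 ye25 ze33) (ke xe14 ye54 ze4) (ke xe13 ye53 ze13) (ke xe22 ye27 ze15) (ke xe19 ye8 ze20) (ke xe7 ye25 ze28) (ke xe7 ye54 ze42) (ke xe13 ye26 ze2) (ke xe23 ye35 ze28) (ke xe7 ye25 ze30) (ke xe8 ye21 ze15) (ke xe17 ye38 ze22) (ke xe7 ye25 ze37) (ke xe13 ye8 ze53) (ke xe22 ye27 ze14) (ke xe23 ye35 ze33) (ke xe23 ye35 ze37) (ke xe23 ye35 ze39) (ke xe7 ye25 ze38) (ke xe21 ye3 ze1) (ke xe7 ye25 ze39) (ke xe7 ye25 ze40) (ke xe23 ye34 ze27) (ke xe20 ye4 ze12) (ke xe21 ye25 ze39) (ke xe15 ye40 ze24) (ke xe21 ye33 ze57) (ke xe23 ye35 ze55) (ke xe21 ye31 ze56) (ke xe16 ye17 ze13) (ke xe7 ye25 ze48) (ke xe13 ye26 ze4) (ke xe23 ye27 ze26) (ke xe13 ye53 ze61)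 (ke xe7 ye25 ze50) (ke xe18 ye48 ze5) (ke xe7 ye25 ze52) (ke xe7 ye25 ze55) (ke xe23 ye36 ze2) (ke xe12 ye13 ze23)) (@D3.rec (fun _ => Pt) (ke xe7 ye25 ze58) (ke xe23 ye36 ze4) (ke xe21 ye59 ze15) (ke xe7 ye25 ze59) (ke xe21 ye55 ze32) (ke xe21 ye49 ze12) (ke xe23 ye36 ze9) (ke xe7 ye25 ze61) (ke xe11 ye42 ze9) (ke xe7 ye26 ze0) (ke xe13 ye13 ze0) (ke xe22 ye12 ze8) (ke xe23 ye36 ze16) (ke xe23 ye36 ze17) (ke xe7 ye26 ze3) (ke xe23 ye36 ze20) (ke xe16 ye9 ze11) (ke xe7 ye26 ze4) (ke xe23 ye36 ze26) (ke xe12 ye21 ze8) (ke xe7 ye26 ze5) (ke xe7 ye26 ze6) (ke xe7 ye26 ze8) (ke xe7 ye50 ze57) (ke xe13 ye13 ze17) (ke xe7 ye26 ze23) (ke xe20 ye11 ze43) (ke xe23 ye36 ze32) (ke xe7 ye26 ze12) (ke xe23 ye36 ze36) (ke xe7 ye26 ze13) (ke xe14 ye42 ze37) (ke xe7 ye36 ze7) (ke xe23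 ye36 ze40) (ke xe7 ye26 ze16) (ke xe14 ye22 ze5) (ke xe7 ye34 ze54) (ke xe7 ye26 ze18) (ke xe23 ye36 ze29) (ke xe13 ye7 ze55) (ke xe22 ye26 ze50) (ke xe13 ye48 ze26) (ke xe7 ye26 ze20) (ke xe7 ye38 ze39) (ke xe7 ye50 ze15) (ke xe23 ye36 ze51) (ke xe21 ye9 ze12) (ke xe18 ye9 ze3) (ke xe7 ye26 ze24) (ke xe17 ye41 ze36) (ke xe7 ye26 ze25) (ke xe9 ye30 ze20) (ke xe23 ye37 ze3) (ke xe10 ye40 ze27) (ke xe15 ye27 ze5) (ke xe7 ye26 ze30) (ke xe7 ye26 ze31) (ke xe20 ye24 ze58) (ke xe13 ye23 ze29) (ke xe17 ye55 ze47) (ke xe7 ye26 ze37) (ke xe13 ye54 ze35)) (@D3.rec (fun _ => Pt) (ke xe23 ye37 ze15) (ke xe23 ye37 ze17) (ke xe7 ye26 ze35) (ke xe23 ye37 ze19) (ke xe23 ye37 ze21) (ke xe12 ye48 ze42) (ke xe7 ye26 ze36) (ke xe23 ye37 ze25) (ke xe23 ye37 ze28) (ke xe23 ye37 ze12) (ke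 xe16 ye9 ze47) (ke xe11 ye10 ze8) (ke xe15 ye10 ze32) (ke xe7 ye26 ze38) (ke xe23 ye37 ze36) (ke xe21 ye3 ze16) (ke xe13 ye13 ze53) (ke xe7 ye26 ze39) (ke xe23 ye37 ze42) (ke xe23 ye37 ze44) (ke xe23 ye2 ze1) (ke xe7 ye26 ze42) (ke xe7 ye26 ze47) (ke xe18 ye6 ze30) (ke xe18 ye37 ze2) (ke xe7 ye26 ze48) (ke xe11 ye18 ze49) (ke xe7 ye26 ze53) (ke xe20 ye4 ze58) (ke xe12 ye55 ze58) (ke xe16 ye45 ze35) (ke xe7 ye26 ze57) (ke xe14 ye57 ze17) (ke xe12 ye31 ze24) (ke xe21 ye58 ze28) (ke xe17 ye36 ze59) (ke xe18 ye6 ze6) (ke xe23 ye37 ze61) (ke xe7 ye26 ze58) (ke xe7 ye26 ze59) (ke xe20 ye33 ze35) (ke xe11 ye41 ze37) (ke xe12 ye4 ze13) (ke xe12 ye31 ze12) (ke xe14 ye11 ze26) (ke xe18 ye4 ze8) (ke xe12 ye30 ze38) (ke xe7 ye27 ze9) (ke xe17 ye30 ze20) (ke xe11 ye43 ze39) (ke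 xe23 ye38 ze6) (ke xe7 ye27 ze13) (ke xe23 ye38 ze7) (ke xe7 ye27 ze18) (ke xe13 ye6 ze35) (ke xe7 ye27 ze20) (ke xe23 ye38 ze9) (ke xe12 ye4 ze16) (ke xe9 ye47 ze59) (ke xe13 ye21 ze41) (ke xe7 ye27 ze30) (ke xe9 ye26 ze13)) (@D3.rec (fun _ => Pt) (ke xe23 ye38 ze10) (ke xe7 ye27 ze35) (ke xe7 ye27 ze36) (ke xe7 ye27 ze37) (ke xe23 ye38 ze15) (ke xe23 ye38 ze17) (ke xe23 ye35 ze6) (ke xe15 ye14 ze21) (ke xe23 ye34 ze44) (ke xe7 ye27 ze42) (ke xe19 ye18 ze28) (ke xe16 ye31 ze56) (ke xe12 ye8 ze17) (ke xe17 ye55 ze18) (ke xe23 ye38 ze26) (ke xe7 ye27 ze49) (ke xe13 ye55 ze23) (ke xe23 ye38 ze29) (ke xe7 ye27 ze47) (ke xe23 ye38 ze31) (ke xe23 ye38 ze33) (ke xe7 ye27 ze48) (ke xe23 ye38 ze35) (ke xe23 ye38 ze38) (ke xe23 ye29 ze41) (ke xe23 ye38 ze44) (ke xe17 ye55 ze3)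 (ke xe23 ye38 ze50) (ke xe22 ye38 ze59) (ke xe23 ye38 ze56) (ke xe7 ye27 ze52) (ke xe23 ye38 ze59) (ke xe21 ye34 ze29) (ke xe7 ye28 ze1) (ke xe23 ye39 ze3) (ke xe13 ye55 ze55) (ke xe16 ye4 ze57) (ke xe23 ye39 ze8) (ke xe7 ye27 ze55) (ke xe23 ye39 ze10) (ke xe7 ye27 ze56) (ke xe23 ye39 ze16) (ke xe7 ye27 ze58) (ke xe23 ye39 ze18) (ke xe7 ye27 ze59) (ke xe23 ye39 ze21) (ke xe23 ye39 ze24) (ke xe7 ye27 ze61) (ke xe23 ye39 ze29) (ke xe7 ye28 ze0) (ke xe23 ye39 ze34) (ke xe23 ye39 ze35) (ke xe23 ye39 ze0) (ke xe23 ye39 ze41) (ke xe23 ye39 ze42) (ke xe7 ye28 ze2) (ke xe23 ye39 ze46) (ke xe23 ye39 ze48) (ke xe7 ye28 ze4) (ke xe14 ye48 ze14) (ke xe23 ye39 ze52) (ke xe23 ye39 ze53)) (@D3.rec (fun _ => Pt) (ke xe23 ye39 ze54) (ke xe8 ye6 ze17) (ke xe23 ye35 ze61) (ke xe7 ye28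 ze10) (ke xe23 ye39 ze56) (ke xe23 ye39 ze60) (ke xe7 ye28 ze14) (ke xe13 ye56 ze23) (ke xe12 ye18 ze39) (ke xe23 ye40 ze3) (ke xe23 ye40 ze0) (ke xe15 ye43 ze40) (ke xe14 ye6 ze27) (ke xe7 ye28 ze15) (ke xe23 ye40 ze10) (ke xe23 ye40 ze11) (ke xe7 ye28 ze16) (ke xe23 ye40 ze14) (ke xe21 ye34 ze35) (ke xe7 ye28 ze26) (ke xe22 ye44 ze12) (ke xe23 ye40 ze18) (ke xe7 ye28 ze19) (ke xe13 ye56 ze45) (ke xe23 ye40 ze21) (ke xe23 ye40 ze24) (ke xe7 ye28 ze21) (ke xe14 ye6 ze12) (ke xe7 ye28 ze22) (ke xe23 ye40 ze27) (ke xe7 ye28 ze24) (ke xe23 ye27 ze13) (ke xe23 ye40 ze16) (ke xe7 ye28 ze27) (ke xe7 ye28 ze28) (ke xe23 ye40 ze36) (ke xe23 ye40 ze38) (ke xe7 ye28 ze30) (ke xe23 ye40 ze40) (ke xe7 ye28 ze31) (ke xe23 ye40 ze41) (ke xe13 ye38 ze41) (ke xe7 ye28 ze33) (ke xe22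 ye45 ze17) (ke xe13 ye59 ze27) (ke xe23 ye40 ze43) (ke xe13 ye24 ze48) (ke xe7 ye28 ze36) (ke xe23 ye40 ze53) (ke xe9 ye57 ze51) (ke xe7 ye28 ze37) (ke xe8 ye43 ze11) (ke xe23 ye40 ze58) (ke xe7 ye28 ze41) (ke xe13 ye57 ze17) (ke xe23 ye41 ze2) (ke xe23 ye41 ze5) (ke xe7 ye28 ze39) (ke xe23 ye41 ze7) (ke xe23 ye41 ze9) (ke xe23 ye41 ze11) (ke xe7 ye28 ze40)) (@D3.rec (fun _ => Pt) (ke xe23 ye41 ze13) (ke xe23 ye41 ze17) (ke xe23 ye40 ze61) (ke xe23 ye41 ze22) (ke xe10 ye55 ze22) (ke xe22 ye44 ze61) (ke xe23 ye41 ze27) (ke xe7 ye28 ze44) (ke xe23 ye41 ze29) (ke xe23 ye41 ze30) (ke xe7 ye28 ze49) (ke xe23 ye41 ze34) (ke xe23 ye41 ze36) (ke xe7 ye28 ze47) (ke xe7 ye28 ze48) (ke xe23 ye41 ze31) (ke xe23 ye41 ze47) (ke xe23 ye41 ze48) (ke xe7 ye28 ze50) (ke xe7 ye28 ze51)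 (ke xe21 ye30 ze0) (ke xe17 ye53 ze1) (ke xe16 ye25 ze10) (ke xe12 ye48 ze5) (ke xe21 ye19 ze10) (ke xe7 ye28 ze55) (ke xe23 ye41 ze54) (ke xe7 ye28 ze56) (ke xe23 ye41 ze56) (ke xe23 ye40 ze33) (ke xe21 ye14 ze37) (ke xe7 ye28 ze58) (ke xe20 ye7 ze13) (ke xe22 ye44 ze48) (ke xe23 ye42 ze0) (ke xe7 ye29 ze1) (ke xe22 ye44 ze38) (ke xe14 ye54 ze57) (ke xe23 ye42 ze1) (ke xe20 ye21 ze56) (ke xe7 ye29 ze2) (ke xe22 ye5 ze55) (ke xe7 ye29 ze3) (ke xe23 ye42 ze12) (ke xe23 ye42 ze16) (ke xe7 ye51 ze40) (ke xe8 ye32 ze52) (ke xe23 ye42 ze21) (ke xe7 ye29 ze5) (ke xe7 ye29 ze6) (ke xe23 ye2 ze28) (ke xe13 ye25 ze46) (ke xe7 ye51 ze42) (ke xe14 ye54 ze23) (ke xe7 ye29 ze9) (ke xe16 ye31 ze50) (ke xe17 ye53 ze6) (ke xe7 ye51 ze49) (ke xe23 ye42 ze26) (ke xe15 ye4 ze18) (ke xe9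 ye3 ze28) (ke xe15 ye4 ze7)) (@D3.rec (fun _ => Pt) (ke xe15 ye4 ze32) (ke xe12 ye30 ze60) (ke xe13 ye58 ze41) (ke xe10 ye49 ze24) (ke xe10 ye49 ze14) (ke xe23 ye42 ze31) (ke xe17 ye8 ze26) (ke xe7 ye29 ze16) (ke xe21 ye16 ze19) (ke xe12 ye31 ze1) (ke xe17 ye53 ze46) (ke xe13 ye58 ze45) (ke xe20 ye40 ze6) (ke xe22 ye4 ze33) (ke xe7 ye29 ze19) (ke xe13 ye58 ze50) (ke xe11 ye16 ze35) (ke xe7 ye29 ze20) (ke xe23 ye42 ze47) (ke xe22 ye45 ze61) (ke xe15 ye10 ze48) (ke xe7 ye29 ze21) (ke xe13 ye59 ze5) (ke xe16 ye9 ze46) (ke xe23 ye37 ze40) (ke xe13 ye58 ze59) (ke xe23 ye42 ze56) (ke xe23 ye42 ze57) (ke xe7 ye29 ze23) (ke xe21 ye51 ze28) (ke xe17 ye13 ze6) (ke xe7 ye29 ze24) (ke xe23 ye43 ze3) (ke xe7 ye29 ze25) (ke xe13 ye58 ze56) (ke xe23 ye43 ze4) (ke xe17 ye55 ze60) (ke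 xe16 ye2 ze40) (ke xe23 ye43 ze10) (ke xe7 ye29 ze27) (ke xe23 ye43 ze15) (ke xe23 ye43 ze17) (ke xe7 ye49 ze27) (ke xe7 ye29 ze28) (ke xe10 ye9 ze14) (ke xe23 ye43 ze25) (ke xe7 ye29 ze52) (ke xe18 ye7 ze34) (ke xe23 ye2 ze6) (ke xe13 ye59 ze22) (ke xe23 ye43 ze34) (ke xe23 ye43 ze36) (ke xe7 ye29 ze32) (ke xe23 ye43 ze39) (ke xe23 ye43 ze41) (ke xe23 ye43 ze45) (ke xe7 ye29 ze33) (ke xe13 ye24 ze46) (ke xe23 ye43 ze50) (ke xe11 ye3 ze26) (ke xe23 ye43 ze56) (ke xe7 ye29 ze35)) (@D3.rec (fun _ => Pt) (ke xe23 ye42 ze51) (ke xe23 ye44 ze2) (ke xe7 ye29 ze37) (ke xe22 ye46 ze0) (ke xe23 ye44 ze3) (ke xe23 ye44 ze5) (ke xe23 ye44 ze6) (ke xe7 ye29 ze39) (ke xe23 ye44 ze7) (ke xe7 ye29 ze40) (ke xe11 ye4 ze7) (ke xe12 ye8 ze8) (ke xe23 ye44 ze14) (ke xe7 ye29 ze42) (ke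 xe22 ye43 ze48) (ke xe23 ye37 ze33) (ke xe22 ye46 ze3) (ke xe23 ye44 ze22) (ke xe13 ye5 ze9) (ke xe7 ye29 ze44) (ke xe10 ye8 ze60) (ke xe23 ye43 ze19) (ke xe23 ye44 ze29) (ke xe22 ye28 ze10) (ke xe8 ye9 ze60) (ke xe10 ye8 ze54) (ke xe7 ye29 ze48) (ke xe23 ye44 ze33) (ke xe23 ye43 ze11) (ke xe22 ye28 ze16) (ke xe23 ye43 ze54) (ke xe7 ye29 ze50) (ke xe18 ye27 ze1) (ke xe7 ye29 ze51) (ke xe17 ye43 ze37) (ke xe15 ye10 ze50) (ke xe23 ye43 ze27) (ke xe16 ye4 ze55) (ke xe17 ye4 ze11) (ke xe14 ye0 ze25) (ke xe23 ye44 ze44) (ke xe18 ye29 ze10) (ke xe7 ye29 ze54) (ke xe23 ye44 ze48) (ke xe9 ye51 ze39) (ke xe7 ye29 ze56) (ke xe23 ye44 ze49) (ke xe23 ye44 ze51) (ke xe9 ye51 ze40) (ke xe12 ye8 ze15) (ke xe22 ye42 ze34) (ke xe23 ye44 ze56) (ke xe7 ye29 ze59) (ke xe23 ye44 ze60) (ke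 xe23 ye44 ze61) (ke xe7 ye29 ze60) (ke xe23 ye45 ze4) (ke xe7 ye29 ze61) (ke xe23 ye45 ze7) (ke xe18 ye30 ze0) (ke xe21 ye6 ze13) (ke xe14 ye1 ze6)) (@D3.rec (fun _ => Pt) (ke xe23 ye45 ze9) (ke xe23 ye45 ze10) (ke xe7 ye30 ze4) (ke xe23 ye45 ze13) (ke xe21 ye55 ze16) (ke xe23 ye45 ze16) (ke xe7 ye30 ze5) (ke xe23 ye1 ze46) (ke xe21 ye6 ze16) (ke xe23 ye45 ze24) (ke xe7 ye30 ze7) (ke xe23 ye45 ze26) (ke xe22 ye12 ze26) (ke xe7 ye30 ze11) (ke xe7 ye30 ze12) (ke xe7 ye30 ze13) (ke xe23 ye45 ze28) (ke xe7 ye30 ze15) (ke xe7 ye30 ze16) (ke xe23 ye45 ze31) (ke xe23 ye45 ze34) (ke xe23 ye45 ze36) (ke xe23 ye45 ze38) (ke xe7 ye30 ze18) (ke xe22 ye46 ze57) (ke xe23 ye45 ze41) (ke xe23 ye45 ze44) (ke xe23 ye45 ze47) (ke xe20 ye47 ze43) (ke xe21 ye11 ze19) (ke xe7 ye36 ze47)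 (ke xe22 ye59 ze6) (ke xe23 ye45 ze57) (ke xe7 ye30 ze23) (ke xe23 ye45 ze61) (ke xe22 ye37 ze46) (ke xe7 ye30 ze24) (ke xe22 ye26 ze13) (ke xe20 ye47 ze45) (ke xe23 ye46 ze5) (ke xe7 ye30 ze26) (ke xe7 ye37 ze9) (ke xe23 ye46 ze10) (ke xe7 ye30 ze28) (ke xe7 ye30 ze31) (ke xe13 ye39 ze27) (ke xe13 ye39 ze28) (ke xe23 ye46 ze14) (ke xe20 ye19 ze47) (ke xe19 ye52 ze59) (ke xe23 ye46 ze23) (ke xe7 ye30 ze33) (ke xe23 ye19 ze57) (ke xe21 ye57 ze2) (ke xe7 ye30 ze37) (ke xe10 ye2 ze58) (ke xe11 ye44 ze25) (ke xe7 ye30 ze43) (ke xe12 ye32 ze32) (ke xe9 ye21 ze0) (ke xe23 ye46 ze33) (ke xe23 ye46 ze34)) (@D3.rec (fun _ => Pt) (ke xe7 ye30 ze47) (ke xe23 ye46 ze35) (ke xe7 ye30 ze48) (ke xe23 ye46 ze37) (ke xe23 ye46 ze38) (ke xe12 ye32 ze59) (ke xe23 ye46 ze41) (ke xe23 ye19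 ze1) (ke xe7 ye30 ze51) (ke xe23 ye46 ze44) (ke xe23 ye46 ze46) (ke xe7 ye30 ze54) (ke xe10 ye25 ze18) (ke xe22 ye47 ze53) (ke xe7 ye30 ze57) (ke xe7 ye30 ze58) (ke xe17 ye10 ze4) (ke xe9 ye48 ze55) (ke xe21 ye35 ze15) (ke xe7 ye30 ze61) (ke xe23 ye46 ze54) (ke xe7 ye31 ze1) (ke xe21 ye46 ze50) (ke xe18 ye18 ze14) (ke xe22 ye44 ze2) (ke xe23 ye16 ze16) (ke xe14 ye4 ze44) (ke xe7 ye31 ze3) (ke xe12 ye36 ze14) (ke xe7 ye31 ze5) (ke xe21 ye55 ze5) (ke xe21 ye40 ze39) (ke xe7 ye31 ze6) (ke xe9 ye50 ze12) (ke xe21 ye22 ze8) (ke xe20 ye17 ze33) (ke xe7 ye31 ze9) (ke xe12 ye35 ze23) (ke xe17 ye10 ze21) (ke xe7 ye31 ze13) (ke xe23 ye47 ze6) (ke xe23 ye47 ze9) (ke xe13 ye19 ze2) (ke xe7 ye31 ze16) (ke xe23 ye47 ze12) (ke xe23 ye47 ze16) (ke xe7 ye31 ze17) (ke xe12 ye15 ze38)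 (ke xe21 ye35 ze25) (ke xe17 ye35 ze2) (ke xe7 ye31 ze27) (ke xe20 ye21 ze61) (ke xe20 ye17 ze4) (ke xe12 ye2 ze53) (ke xe23 ye47 ze18) (ke xe7 ye31 ze30) (ke xe19 ye28 ze48) (ke xe7 ye31 ze36) (ke xe7 ye31 ze37) (ke xe17 ye3 ze3) (ke xe9 ye12 ze26) (ke xe23 ye47 ze20)) (@D3.rec (fun _ => Pt) (ke xe21 ye7 ze61) (ke xe23 ye47 ze22) (ke xe12 ye59 ze27) (ke xe7 ye31 ze42) (ke xe23 ye47 ze26) (ke xe23 ye47 ze28) (ke xe21 ye22 ze34) (ke xe7 ye31 ze43) (ke xe21 ye52 ze15) (ke xe23 ye47 ze34) (ke xe7 ye31 ze46) (ke xe17 ye13 ze37) (ke xe16 ye16 ze32) (ke xe17 ye35 ze15) (ke xe18 ye7 ze32) (ke xe21 ye32 ze13) (ke xe23 ye47 ze35) (ke xe7 ye31 ze49) (ke xe12 ye12 ze34) (ke xe23 ye47 ze36) (ke xe7 ye31 ze50) (ke xe8 ye40 ze33) (ke xe9 ye57 ze58) (ke xe7 ye31 ze55) (ke xe23 ye47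 ze39) (ke xe23 ye47 ze41) (ke xe7 ye31 ze57) (ke xe18 ye13 ze32) (ke xe21 ye6 ze50) (ke xe18 ye11 ze3) (ke xe7 ye31 ze61) (ke xe23 ye47 ze43) (ke xe7 ye32 ze0) (ke xe7 ye32 ze5) (ke xe23 ye47 ze46) (ke xe23 ye47 ze48) (ke xe23 ye47 ze49) (ke xe7 ye32 ze3) (ke xe12 ye44 ze2) (ke xe7 ye32 ze4) (ke xe23 ye47 ze52) (ke xe23 ye47 ze53) (ke xe11 ye45 ze57) (ke xe7 ye32 ze6) (ke xe7 ye32 ze9) (ke xe13 ye8 ze49) (ke xe20 ye23 ze38) (ke xe22 ye33 ze46) (ke xe22 ye21 ze27) (ke xe13 ye6 ze39) (ke xe8 ye49 ze3) (ke xe21 ye3 ze12) (ke xe9 ye49 ze3) (ke xe7 ye32 ze13) (ke xe18 ye21 ze23) (ke xe7 ye32 ze17) (ke xe14 ye23 ze47) (ke xe23 ye48 ze8) (ke xe23 ye48 ze10) (ke xe7 ye32 ze16) (ke xe23 ye48 ze13) (ke xe23 ye48 ze15)) (@D3.rec (fun _ => Pt) (ke xe23 ye48 ze5) (ke xe23 ye48 ze21)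 (ke xe23 ye48 ze24) (ke xe7 ye32 ze19) (ke xe23 ye48 ze26) (ke xe7 ye32 ze20) (ke xe23 ye48 ze27) (ke xe23 ye48 ze28) (ke xe7 ye32 ze24) (ke xe23 ye48 ze33) (ke xe22 ye25 ze54) (ke xe7 ye32 ze23) (ke xe23 ye48 ze30) (ke xe23 ye48 ze42) (ke xe7 ye32 ze25) (ke xe7 ye32 ze26) (ke xe7 ye32 ze27) (ke xe23 ye48 ze48) (ke xe23 ye48 ze50) (ke xe17 ye17 ze4) (ke xe21 ye39 ze56) (ke xe23 ye48 ze55) (ke xe23 ye48 ze57) (ke xe17 ye17 ze5) (ke xe17 ye18 ze60) (ke xe22 ye56 ze15) (ke xe15 ye30 ze59) (ke xe7 ye32 ze36) (ke xe18 ye22 ze25) (ke xe18 ye20 ze59) (ke xe14 ye17 ze36) (ke xe23 ye48 ze61) (ke xe23 ye49 ze1) (ke xe7 ye32 ze39) (ke xe7 ye32 ze40) (ke xe23 ye49 ze5) (ke xe18 ye14 ze8) (ke xe10 ye41 ze45) (ke xe19 ye42 ze15) (ke xe7 ye32 ze45) (ke xe11 ye48 ze14) (ke xe21 ye44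 ze16) (ke xe7 ye37 ze49) (ke xe22 ye33 ze31) (ke xe23 ye49 ze15) (ke xe7 ye37 ze52) (ke xe23 ye49 ze18) (ke xe23 ye49 ze19) (ke xe7 ye32 ze50) (ke xe23 ye49 ze21) (ke xe18 ye24 ze32) (ke xe7 ye32 ze51) (ke xe20 ye46 ze16) (ke xe7 ye37 ze59) (ke xe20 ye23 ze42) (ke xe23 ye49 ze30) (ke xe17 ye21 ze25) (ke xe23 ye49 ze33) (ke xe7 ye32 ze54) (ke xe23 ye12 ze39) (ke xe19 ye51 ze60) (ke xe7 ye37 ze60)) (@D3.rec (fun _ => Pt) (ke xe23 ye49 ze36) (ke xe18 ye10 ze39) (ke xe21 ye43 ze54) (ke xe23 ye49 ze41) (ke xe7 ye32 ze57) (ke xe14 ye36 ze34) (ke xe23 ye49 ze47) (ke xe7 ye32 ze58) (ke xe23 ye49 ze49) (ke xe22 ye34 ze58) (ke xe23 ye49 ze55) (ke xe7 ye32 ze59) (ke xe23 ye49 ze58) (ke xe12 ye14 ze38) (ke xe17 ye34 ze7) (ke xe17 ye21 ze45) (ke xe17 ye22 ze18) (ke xe23 ye50 ze2)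 (ke xe9 ye10 ze3) (ke xe21 ye35 ze34) (ke xe7 ye33 ze0) (ke xe23 ye50 ze6) (ke xe7 ye33 ze1) (ke xe23 ye50 ze9) (ke xe23 ye50 ze11) (ke xe14 ye27 ze3) (ke xe7 ye33 ze3) (ke xe23 ye50 ze16) (ke xe23 ye50 ze17) (ke xe7 ye33 ze4) (ke xe16 ye18 ze21) (ke xe21 ye4 ze33) (ke xe21 ye42 ze1) (ke xe22 ye30 ze59) (ke xe18 ye51 ze59) (ke xe23 ye50 ze28) (ke xe7 ye33 ze8) (ke xe19 ye20 ze53) (ke xe23 ye50 ze31) (ke xe23 ye50 ze35) (ke xe7 ye33 ze9) (ke xe22 ye33 ze9) (ke xe22 ye40 ze61) (ke xe23 ye50 ze45) (ke xe7 ye33 ze12) (ke xe23 ye49 ze56) (ke xe9 ye52 ze21) (ke xe22 ye34 ze59) (ke xe18 ye55 ze17) (ke xe23 ye50 ze53) (ke xe7 ye33 ze15) (ke xe23 ye50 ze56) (ke xe7 ye33 ze16) (ke xe7 ye51 ze7) (ke xe13 ye6 ze37) (ke xe23 ye51 ze2) (ke xe7 ye33 ze18) (ke xe23 ye51 ze8) (ke xe22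 ye34 ze29) (ke xe7 ye33 ze20) (ke xe22 ye34 ze45) (ke xe23 ye51 ze12)) (@D3.rec (fun _ => Pt) (ke xe23 ye51 ze15) (ke xe23 ye51 ze17) (ke xe13 ye29 ze51) (ke xe7 ye33 ze21) (ke xe23 ye51 ze24) (ke xe7 ye33 ze22) (ke xe23 ye50 ze18) (ke xe10 ye8 ze14) (ke xe13 ye29 ze52) (ke xe16 ye18 ze17) (ke xe23 ye51 ze40) (ke xe7 ye33 ze25) (ke xe23 ye51 ze46) (ke xe7 ye33 ze26) (ke xe18 ye55 ze58) (ke xe7 ye35 ze0) (ke xe22 ye35 ze5) (ke xe22 ye18 ze23) (ke xe7 ye33 ze29) (ke xe14 ye56 ze44) (ke xe9 ye53 ze47) (ke xe7 ye33 ze32) (ke xe13 ye40 ze15) (ke xe13 ye40 ze16) (ke xe18 ye45 ze11) (ke xe11 ye0 ze5) (ke xe23 ye52 ze0) (ke xe13 ye4 ze51) (ke xe7 ye33 ze35) (ke xe13 ye2 ze50) (ke xe22 ye40 ze60) (ke xe7 ye55 ze15) (ke xe7 ye33 ze37) (ke xe23 ye52 ze12) (ke xe23 ye52 ze15) (ke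 xe22 ye35 ze20) (ke xe7 ye46 ze8) (ke xe23 ye52 ze18) (ke xe7 ye33 ze41) (ke xe7 ye33 ze42) (ke xe15 ye4 ze60) (ke xe23 ye52 ze24) (ke xe7 ye33 ze48) (ke xe23 ye52 ze26) (ke xe23 ye52 ze27) (ke xe7 ye33 ze49) (ke xe16 ye10 ze25) (ke xe23 ye52 ze29) (ke xe20 ye31 ze3) (ke xe23 ye52 ze32) (ke xe7 ye33 ze52) (ke xe23 ye52 ze33) (ke xe9 ye19 ze57) (ke xe7 ye33 ze55) (ke xe9 ye55 ze35) (ke xe20 ye5 ze37) (ke xe10 ye48 ze19) (ke xe23 ye52 ze38) (ke xe7 ye33 ze57) (ke xe21 ye54 ze13) (ke xe22 ye21 ze21) (ke xe23 ye52 ze39)) (@D3.rec (fun _ => Pt) (ke xe22 ye32 ze51) (ke xe7 ye33 ze59) (ke xe7 ye34 ze0) (ke xe23 ye52 ze48) (ke xe23 ye52 ze50) (ke xe22 ye12 ze30) (ke xe23 ye52 ze56) (ke xe22 ye0 ze34) (ke xe7 ye34 ze4) (ke xe7 ye34 ze5) (ke xe7 ye39 ze25) (ke xe20 ye44 ze44)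 (ke xe7 ye34 ze9) (ke xe21 ye15 ze58) (ke xe20 ye44 ze43) (ke xe17 ye32 ze2) (ke xe23 ye53 ze2) (ke xe23 ye53 ze10) (ke xe23 ye53 ze12) (ke xe23 ye53 ze14) (ke xe7 ye34 ze10) (ke xe23 ye53 ze18) (ke xe23 ye53 ze20) (ke xe7 ye34 ze20) (ke xe18 ye54 ze60) (ke xe23 ye53 ze22) (ke xe7 ye34 ze13) (ke xe23 ye53 ze28) (ke xe7 ye34 ze14) (ke xe23 ye53 ze33) (ke xe7 ye34 ze16) (ke xe23 ye53 ze35) (ke xe23 ye53 ze40) (ke xe7 ye34 ze18) (ke xe19 ye42 ze58) (ke xe7 ye34 ze19) (ke xe23 ye53 ze48) (ke xe10 ye53 ze48) (ke xe23 ye53 ze51) (ke xe13 ye6 ze46) (ke xe15 ye26 ze13) (ke xe23 ye53 ze56) (ke xe9 ye20 ze32) (ke xe22 ye33 ze48) (ke xe20 ye11 ze41) (ke xe7 ye34 ze23) (ke xe23 ye53 ze60) (ke xe22 ye7 ze16) (ke xe20 ye45 ze21) (ke xe23 ye54 ze0) (ke xe21 ye44 ze29) (ke xe23 ye13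 ze33) (ke xe7 ye34 ze25) (ke xe23 ye54 ze5) (ke xe23 ye54 ze7) (ke xe7 ye34 ze26) (ke xe13 ye27 ze31) (ke xe17 ye21 ze21) (ke xe23 ye13 ze34) (ke xe17 ye26 ze41) (ke xe23 ye54 ze15) (ke xe14 ye24 ze12)) (@D3.rec (fun _ => Pt) (ke xe7 ye34 ze29) (ke xe23 ye54 ze20) (ke xe7 ye34 ze30) (ke xe23 ye54 ze25) (ke xe7 ye34 ze32) (ke xe23 ye54 ze28) (ke xe23 ye54 ze32) (ke xe7 ye34 ze33) (ke xe16 ye4 ze56) (ke xe23 ye53 ze58) (ke xe18 ye55 ze44) (ke xe22 ye33 ze49) (ke xe21 ye14 ze46) (ke xe23 ye54 ze41) (ke xe23 ye54 ze43) (ke xe7 ye34 ze37) (ke xe23 ye54 ze45) (ke xe23 ye54 ze47) (ke xe23 ye54 ze50) (ke xe7 ye34 ze38) (ke xe22 ye56 ze13) (ke xe22 ye33 ze8) (ke xe22 ye31 ze6) (ke xe16 ye51 ze57) (ke xe20 ye10 ze3) (ke xe23 ye54 ze22) (ke xe23 ye54 ze61) (ke xe22 ye33 ze59)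 (ke xe23 ye55 ze1) (ke xe23 ye55 ze4) (ke xe7 ye34 ze43) (ke xe23 ye55 ze9) (ke xe23 ye54 ze16) (ke xe7 ye35 ze15) (ke xe22 ye33 ze53) (ke xe22 ye15 ze24) (ke xe14 ye13 ze30) (ke xe14 ye49 ze29) (ke xe13 ye2 ze49) (ke xe14 ye1 ze22) (ke xe22 ye33 ze34) (ke xe22 ye33 ze35) (ke xe14 ye25 ze56) (ke xe7 ye34 ze52) (ke xe23 ye55 ze25) (ke xe23 ye55 ze27) (ke xe7 ye34 ze56) (ke xe7 ye39 ze44) (ke xe13 ye53 ze41) (ke xe23 ye55 ze29) (ke xe23 ye55 ze32) (ke xe7 ye34 ze57) (ke xe23 ye55 ze37) (ke xe23 ye55 ze39) (ke xe7 ye34 ze58) (ke xe15 ye55 ze3) (ke xe7 ye35 ze3) (ke xe15 ye59 ze9) (ke xe23 ye51 ze42) (ke xe23 ye51 ze52) (ke xe23 ye55 ze47) (ke xe7 ye35 ze1)) (@D3.rec (fun _ => Pt) (ke xe23 ye55 ze53) (ke xe7 ye35 ze2) (ke xe23 ye55 ze57) (ke xe23 ye55 ze59) (ke xe7 ye35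 ze5) (ke xe13 ye38 ze49) (ke xe23 ye56 ze2) (ke xe14 ye42 ze50) (ke xe23 ye56 ze5) (ke xe12 ye34 ze5) (ke xe23 ye56 ze10) (ke xe23 ye56 ze13) (ke xe7 ye35 ze10) (ke xe22 ye57 ze0) (ke xe7 ye35 ze11) (ke xe23 ye56 ze16) (ke xe7 ye35 ze20) (ke xe15 ye52 ze20) (ke xe7 ye38 ze38) (ke xe13 ye39 ze15) (ke xe20 ye36 ze28) (ke xe23 ye55 ze13) (ke xe20 ye19 ze61) (ke xe23 ye56 ze22) (ke xe7 ye35 ze17) (ke xe20 ye35 ze10) (ke xe7 ye35 ze18) (ke xe23 ye56 ze28) (ke xe7 ye35 ze19) (ke xe14 ye51 ze20) (ke xe17 ye32 ze39) (ke xe7 ye35 ze21) (ke xe17 ye31 ze30) (ke xe19 ye23 ze30) (ke xe7 ye46 ze4) (ke xe22 ye59 ze4) (ke xe11 ye25 ze39) (ke xe7 ye42 ze2) (ke xe22 ye58 ze55) (ke xe19 ye15 ze46) (ke xe23 ye56 ze34) (ke xe19 ye4 ze18) (ke xe23 ye56 ze37) (ke xe20 ye3 ze45) (ke xe23 ye56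 ze41) (ke xe7 ye35 ze29) (ke xe20 ye33 ze44) (ke xe23 ye56 ze44) (ke xe7 ye35 ze30) (ke xe23 ye56 ze45) (ke xe23 ye56 ze47) (ke xe7 ye35 ze33) (ke xe23 ye11 ze14) (ke xe23 ye56 ze48) (ke xe16 ye3 ze55) (ke xe7 ye35 ze34) (ke xe12 ye42 ze24) (ke xe7 ye35 ze36) (ke xe7 ye35 ze37) (ke xe22 ye35 ze38) (ke xe20 ye27 ze7) (ke xe7 ye35 ze40)) (@D3.rec (fun _ => Pt) (ke xe7 ye35 ze44) (ke xe7 ye41 ze15) (ke xe22 ye48 ze54) (ke xe23 ye56 ze59) (ke xe23 ye56 ze60) (ke xe23 ye57 ze0) (ke xe23 ye57 ze2) (ke xe7 ye35 ze43) (ke xe23 ye57 ze4) (ke xe23 ye57 ze6) (ke xe15 ye31 ze55) (ke xe23 ye57 ze10) (ke xe23 ye57 ze12) (ke xe7 ye35 ze45) (ke xe22 ye57 ze21) (ke xe23 ye57 ze16) (ke xe23 ye0 ze26) (ke xe22 ye57 ze14) (ke xe22 ye22 ze60) (ke xe7 ye35 ze49) (ke xe7 ye35 ze51) (ke xe7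 ye35 ze52) (ke xe7 ye35 ze53) (ke xe23 ye35 ze34) (ke xe23 ye57 ze21) (ke xe23 ye57 ze20) (ke xe16 ye30 ze13) (ke xe19 ye22 ze1) (ke xe21 ye39 ze52) (ke xe22 ye20 ze5) (ke xe7 ye35 ze57) (ke xe13 ye1 ze45) (ke xe23 ye57 ze29) (ke xe23 ye57 ze26) (ke xe19 ye29 ze20) (ke xe7 ye35 ze59) (ke xe7 ye35 ze60) (ke xe22 ye49 ze7) (ke xe23 ye57 ze39) (ke xe23 ye57 ze35) (ke xe21 ye15 ze55) (ke xe13 ye27 ze26) (ke xe21 ye39 ze55) (ke xe14 ye23 ze19) (ke xe20 ye34 ze10) (ke xe7 ye36 ze2) (ke xe20 ye33 ze48) (ke xe23 ye52 ze2) (ke xe10 ye34 ze40) (ke xe23 ye57 ze53) (ke xe20 ye9 ze11) (ke xe20 ye33 ze18) (ke xe11 ye45 ze42) (ke xe7 ye36 ze8) (ke xe11 ye43 ze25) (ke xe23 ye57 ze57) (ke xe23 ye57 ze58) (ke xe7 ye36 ze6) (ke xe23 ye36 ze38) (ke xe18 ye41 ze61) (ke xe23 ye57 ze61) (ke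 xe21 ye11 ze16)) (@D3.rec (fun _ => Pt) (ke xe9 ye48 ze20) (ke xe23 ye58 ze0) (ke xe7 ye36 ze10) (ke xe18 ye23 ze28) (ke xe7 ye36 ze11) (ke xe11 ye45 ze44) (ke xe19 ye22 ze5) (ke xe15 ye26 ze28) (ke xe7 ye36 ze13) (ke xe13 ye36 ze2) (ke xe7 ye36 ze16) (ke xe9 ye12 ze15) (ke xe15 ye5 ze29) (ke xe7 ye36 ze18) (ke xe15 ye44 ze17) (ke xe23 ye58 ze8) (ke xe18 ye23 ze33) (ke xe7 ye36 ze20) (ke xe23 ye52 ze60) (ke xe20 ye22 ze29) (ke xe7 ye36 ze21) (ke xe23 ye58 ze12) (ke xe19 ye52 ze7) (ke xe7 ye36 ze33) (ke xe20 ye25 ze30) (ke xe22 ye58 ze41) (ke xe23 ye58 ze16) (ke xe19 ye50 ze54) (ke xe7 ye36 ze24) (ke xe14 ye38 ze61) (ke xe7 ye36 ze25) (ke xe19 ye51 ze10) (ke xe13 ye4 ze21) (ke xe23 ye6 ze37) (ke xe14 ye44 ze57) (ke xe7 ye36 ze28) (ke xe7 ye36 ze29) (ke xe23 ye58 ze27)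 (ke xe10 ye43 ze13) (ke xe7 ye36 ze31) (ke xe23 ye58 ze31) (ke xe10 ye48 ze31) (ke xe7 ye36 ze32) (ke xe9 ye32 ze20) (ke xe21 ye31 ze42) (ke xe23 ye58 ze13) (ke xe7 ye36 ze35) (ke xe7 ye36 ze36) (ke xe19 ye2 ze36) (ke xe23 ye40 ze6) (ke xe7 ye36 ze37) (ke xe21 ye52 ze14) (ke xe7 ye45 ze3) (ke xe21 ye52 ze34) (ke xe21 ye22 ze0) (ke xe14 ye36 ze15) (ke xe21 ye22 ze5) (ke xe23 ye58 ze50) (ke xe7 ye36 ze40) (ke xe23 ye58 ze54) (ke xe7 ye36 ze41) (ke xe9 ye25 ze46)) (@D3.rec (fun _ => Pt) (ke xe23 ye58 ze56) (ke xe7 ye44 ze54) (ke xe19 ye54 ze40) (ke xe13 ye20 ze51) (ke xe7 ye36 ze43) (ke xe23 ye59 ze1) (ke xe15 ye44 ze50) (ke xe7 ye36 ze44) (ke xe23 ye59 ze8) (ke xe15 ye43 ze14) (ke xe7 ye37 ze4) (ke xe22 ye39 ze16) (ke xe22 ye39 ze15) (ke xe7 ye36 ze46) (ke xe10 ye31 ze5)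 (ke xe7 ye36 ze48) (ke xe7 ye42 ze0) (ke xe23 ye59 ze19) (ke xe7 ye36 ze50) (ke xe7 ye36 ze51) (ke xe23 ye58 ze43) (ke xe19 ye8 ze33) (ke xe14 ye55 ze31) (ke xe10 ye36 ze34) (ke xe7 ye36 ze54) (ke xe19 ye7 ze61) (ke xe22 ye48 ze60) (ke xe7 ye40 ze60) (ke xe18 ye2 ze46) (ke xe21 ye56 ze23) (ke xe10 ye38 ze0) (ke xe7 ye36 ze61) (ke xe23 ye59 ze25) (ke xe7 ye37 ze0) (ke xe10 ye31 ze0) (ke xe23 ye58 ze61) (ke xe7 ye46 ze17) (ke xe18 ye17 ze53) (ke xe7 ye37 ze2) (ke xe23 ye59 ze39) (ke xe7 ye37 ze3) (ke xe12 ye54 ze52) (ke xe21 ye2 ze21) (ke xe23 ye59 ze13) (ke xe10 ye38 ze2) (ke xe10 ye31 ze1) (ke xe13 ye49 ze23) (ke xe14 ye42 ze45) (ke xe13 ye7 ze41) (ke xe23 ye59 ze47) (ke xe7 ye37 ze8) (ke xe13 ye12 ze28) (ke xe22 ye23 ze15) (ke xe11 ye0 ze46) (ke xe23 ye59 ze52) (ke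 xe20 ye52 ze55) (ke xe19 ye42 ze1) (ke xe7 ye37 ze11) (ke xe23 ye59 ze60) (ke xe7 ye37 ze12) (ke xe24 ye0 ze4) (ke xe7 ye37 ze13)) (@D3.rec (fun _ => Pt) (ke xe24 ye0 ze9) (ke xe7 ye37 ze14) (ke xe24 ye0 ze11) (ke xe24 ye0 ze13) (ke xe7 ye48 ze20) (ke xe14 ye3 ze35) (ke xe14 ye41 ze38) (ke xe17 ye0 ze52) (ke xe10 ye32 ze10) (ke xe7 ye37 ze18) (ke xe19 ye31 ze1) (ke xe24 ye0 ze17) (ke xe10 ye32 ze11) (ke xe10 ye32 ze12) (ke xe24 ye0 ze24) (ke xe7 ye37 ze21) (ke xe24 ye0 ze26) (ke xe23 ye49 ze28) (ke xe7 ye37 ze23) (ke xe7 ye47 ze39) (ke xe12 ye11 ze27) (ke xe7 ye47 ze1) (ke xe9 ye27 ze28) (ke xe22 ye49 ze1) (ke xe24 ye0 ze34) (ke xe17 ye20 ze13) (ke xe7 ye37 ze27) (ke xe24 ye0 ze35) (ke xe24 ye0 ze36) (ke xe7 ye37 ze29) (ke xe24 ye0 ze37) (ke xe24 ye0 ze39) (ke xe7 ye37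 ze35) (ke xe17 ye50 ze7) (ke xe22 ye54 ze50) (ke xe7 ye37 ze33) (ke xe24 ye0 ze45) (ke xe7 ye37 ze34) (ke xe7 ye37 ze42) (ke xe24 ye0 ze49) (ke xe7 ye37 ze44) (ke xe24 ye0 ze51) (ke xe22 ye56 ze27) (ke xe13 ye39 ze13) (ke xe23 ye49 ze8) (ke xe7 ye47 ze11) (ke xe24 ye0 ze57) (ke xe24 ye0 ze60) (ke xe7 ye37 ze47) (ke xe22 ye42 ze4) (ke xe24 ye1 ze0) (ke xe24 ye1 ze3) (ke xe14 ye41 ze1) (ke xe20 ye58 ze30) (ke xe24 ye1 ze6) (ke xe24 ye1 ze8) (ke xe7 ye37 ze51) (ke xe23 ye49 ze16) (ke xe24 ye1 ze15) (ke xe7 ye37 ze53) (ke xe9 ye10 ze18) (ke xe23 ye49 ze20)) (@D3.rec (fun _ => Pt) (ke xe24 ye1 ze20) (ke xe24 ye1 ze22) (ke xe19 ye11 ze51) (ke xe23 ye49 ze26) (ke xe23 ye49 ze34) (ke xe7 ye37 ze61) (ke xe17 ye28 ze27) (ke xe24 ye1 ze32) (ke xe17 ye28 ze29) (ke xe23 ye13 ze29)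 (ke xe19 ye42 ze8) (ke xe7 ye38 ze3) (ke xe20 ye33 ze52) (ke xe15 ye55 ze21) (ke xe7 ye38 ze4) (ke xe19 ye41 ze3) (ke xe16 ye46 ze39) (ke xe15 ye55 ze23) (ke xe9 ye43 ze29) (ke xe14 ye19 ze43) (ke xe22 ye26 ze57) (ke xe24 ye1 ze44) (ke xe7 ye38 ze11) (ke xe24 ye1 ze48) (ke xe24 ye1 ze49) (ke xe7 ye38 ze13) (ke xe24 ye1 ze50) (ke xe13 ye27 ze25) (ke xe7 ye38 ze15) (ke xe7 ye38 ze16) (ke xe24 ye1 ze56) (ke xe24 ye1 ze58) (ke xe13 ye17 ze26) (ke xe12 ye1 ze12) (ke xe24 ye2 ze2) (ke xe24 ye2 ze4) (ke xe7 ye38 ze18) (ke xe24 ye2 ze6) (ke xe7 ye38 ze19) (ke xe24 ye2 ze9) (ke xe24 ye2 ze11) (ke xe13 ye17 ze28) (ke xe24 ye2 ze15) (ke xe12 ye58 ze3) (ke xe7 ye38 ze22) (ke xe24 ye2 ze16) (ke xe13 ye17 ze32) (ke xe14 ye12 ze56) (ke xe24 ye2 ze18) (ke xe23 ye56 ze7) (ke xe10 ye27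 ze32) (ke xe10 ye14 ze4) (ke xe24 ye2 ze25) (ke xe10 ye14 ze5) (ke xe24 ye2 ze30) (ke xe7 ye38 ze27) (ke xe24 ye2 ze33) (ke xe22 ye56 ze30) (ke xe24 ye2 ze38) (ke xe7 ye38 ze28) (ke xe21 ye16 ze54) (ke xe23 ye55 ze41)) (@D3.rec (fun _ => Pt) (ke xe9 ye10 ze19) (ke xe24 ye2 ze43) (ke xe24 ye2 ze44) (ke xe24 ye2 ze48) (ke xe7 ye38 ze30) (ke xe21 ye35 ze23) (ke xe24 ye2 ze54) (ke xe7 ye38 ze31) (ke xe24 ye2 ze60) (ke xe7 ye38 ze32) (ke xe23 ye49 ze51) (ke xe24 ye2 ze61) (ke xe14 ye16 ze61) (ke xe20 ye58 ze7) (ke xe24 ye3 ze4) (ke xe7 ye38 ze34) (ke xe24 ye3 ze7) (ke xe24 ye3 ze9) (ke xe7 ye38 ze35) (ke xe15 ye32 ze20) (ke xe24 ye3 ze15) (ke xe23 ye10 ze38) (ke xe22 ye47 ze25) (ke xe19 ye29 ze49) (ke xe24 ye3 ze22) (ke xe12 ye44 ze58) (ke xe24 ye3 ze26) (ke xe24 ye3 ze29)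 (ke xe7 ye38 ze40) (ke xe7 ye47 ze9) (ke xe14 ye42 ze41) (ke xe24 ye3 ze33) (ke xe7 ye38 ze42) (ke xe24 ye3 ze34) (ke xe7 ye38 ze43) (ke xe23 ye54 ze38) (ke xe22 ye56 ze31) (ke xe14 ye48 ze0) (ke xe19 ye30 ze7) (ke xe22 ye27 ze48) (ke xe24 ye3 ze44) (ke xe14 ye49 ze15) (ke xe24 ye3 ze47) (ke xe7 ye38 ze47) (ke xe24 ye3 ze49) (ke xe24 ye3 ze51) (ke xe24 ye3 ze56) (ke xe7 ye38 ze48) (ke xe24 ye3 ze59) (ke xe24 ye4 ze2) (ke xe7 ye38 ze50) (ke xe19 ye28 ze22) (ke xe23 ye55 ze30) (ke xe7 ye38 ze52) (ke xe19 ye40 ze61) (ke xe23 ye47 ze27) (ke xe24 ye4 ze12) (ke xe24 ye4 ze16) (ke xe7 ye38 ze53) (ke xe24 ye4 ze22) (ke xe7 ye38 ze54) (ke xe16 ye18 ze18)) (@D3.rec (fun _ => Pt) (ke xe19 ye29 ze5) (ke xe23 ye55 ze55) (ke xe24 ye4 ze30) (ke xe24 ye4 ze34) (ke xe7 ye38 ze56) (ke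 xe24 ye4 ze40) (ke xe7 ye38 ze57) (ke xe19 ye29 ze45) (ke xe15 ye55 ze4) (ke xe23 ye55 ze50) (ke xe24 ye4 ze47) (ke xe24 ye4 ze48) (ke xe23 ye59 ze58) (ke xe7 ye38 ze61) (ke xe24 ye4 ze54) (ke xe24 ye4 ze56) (ke xe7 ye39 ze1) (ke xe24 ye5 ze0) (ke xe7 ye39 ze2) (ke xe13 ye45 ze32) (ke xe19 ye28 ze2) (ke xe23 ye56 ze0) (ke xe13 ye48 ze19) (ke xe22 ye46 ze40) (ke xe22 ye3 ze26) (ke xe7 ye39 ze6) (ke xe24 ye5 ze17) (ke xe14 ye37 ze12) (ke xe7 ye39 ze8) (ke xe14 ye48 ze48) (ke xe23 ye47 ze8) (ke xe15 ye7 ze10) (ke xe12 ye9 ze14) (ke xe12 ye9 ze59) (ke xe8 ye5 ze4) (ke xe7 ye39 ze17) (ke xe24 ye5 ze28) (ke xe24 ye5 ze30) (ke xe7 ye39 ze16) (ke xe24 ye5 ze32) (ke xe24 ye5 ze34) (ke xe17 ye1 ze18) (ke xe7 ye39 ze21) (ke xe18 ye22 ze2) (ke xe7 ye39 ze20) (ke xe24 ye5 ze37)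 (ke xe13 ye22 ze43) (ke xe24 ye5 ze45) (ke xe13 ye15 ze53) (ke xe23 ye36 ze30) (ke xe13 ye53 ze39) (ke xe21 ye59 ze46) (ke xe24 ye5 ze47) (ke xe23 ye53 ze0) (ke xe24 ye5 ze52) (ke xe14 ye41 ze6) (ke xe14 ye17 ze42) (ke xe24 ye5 ze56) (ke xe7 ye39 ze29) (ke xe24 ye5 ze59) (ke xe23 ye55 ze21) (ke xe7 ye39 ze32)) (@D3.rec (fun _ => Pt) (ke xe12 ye34 ze4) (ke xe14 ye43 ze52) (ke xe24 ye6 ze1) (ke xe24 ye6 ze2) (ke xe13 ye34 ze42) (ke xe24 ye5 ze60) (ke xe20 ye33 ze37) (ke xe7 ye39 ze37) (ke xe13 ye18 ze13) (ke xe7 ye39 ze39) (ke xe24 ye6 ze12) (ke xe12 ye34 ze2) (ke xe24 ye6 ze11) (ke xe23 ye55 ze22) (ke xe24 ye6 ze13) (ke xe24 ye6 ze16) (ke xe7 ye39 ze41) (ke xe20 ye26 ze52) (ke xe18 ye55 ze2) (ke xe7 ye39 ze42) (ke xe24 ye6 ze21) (ke xe24 ye6 ze22) (ke xe7 ye39 ze51)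 (ke xe16 ye44 ze31) (ke xe13 ye9 ze16) (ke xe24 ye6 ze29) (ke xe24 ye6 ze31) (ke xe23 ye53 ze42) (ke xe7 ye39 ze46) (ke xe20 ye28 ze38) (ke xe7 ye39 ze47) (ke xe24 ye6 ze43) (ke xe23 ye4 ze33) (ke xe23 ye10 ze52) (ke xe7 ye39 ze49) (ke xe13 ye34 ze40) (ke xe7 ye39 ze50) (ke xe24 ye6 ze50) (ke xe24 ye6 ze53) (ke xe17 ye32 ze17) (ke xe24 ye6 ze61) (ke xe19 ye30 ze44) (ke xe24 ye7 ze2) (ke xe24 ye7 ze3) (ke xe7 ye39 ze53) (ke xe24 ye7 ze10) (ke xe7 ye39 ze54) (ke xe24 ye7 ze13) (ke xe23 ye56 ze24) (ke xe24 ye7 ze17) (ke xe7 ye39 ze55) (ke xe21 ye53 ze0) (ke xe21 ye35 ze6) (ke xe23 ye55 ze33) (ke xe24 ye7 ze22) (ke xe24 ye7 ze24) (ke xe24 ye7 ze28) (ke xe7 ye39 ze57) (ke xe12 ye41 ze2) (ke xe24 ye7 ze33) (ke xe7 ye39 ze58) (ke xe24 ye7 ze35)) (@D3.rec (fun _ => Pt) (ke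 xe7 ye39 ze59) (ke xe21 ye49 ze42) (ke xe24 ye7 ze36) (ke xe14 ye14 ze25) (ke xe24 ye7 ze38) (ke xe24 ye7 ze40) (ke xe7 ye39 ze61) (ke xe20 ye36 ze37) (ke xe24 ye7 ze45) (ke xe7 ye40 ze0) (ke xe24 ye7 ze48) (ke xe24 ye7 ze51) (ke xe7 ye40 ze22) (ke xe22 ye54 ze48) (ke xe19 ye35 ze20) (ke xe7 ye40 ze2) (ke xe24 ye7 ze58) (ke xe24 ye7 ze59) (ke xe19 ye3 ze14) (ke xe7 ye40 ze4) (ke xe24 ye8 ze2) (ke xe14 ye39 ze26) (ke xe7 ye40 ze5) (ke xe23 ye50 ze50) (ke xe24 ye8 ze11) (ke xe23 ye56 ze25) (ke xe20 ye25 ze39) (ke xe24 ye8 ze13) (ke xe24 ye8 ze14) (ke xe7 ye40 ze8) (ke xe19 ye9 ze52) (ke xe24 ye8 ze15) (ke xe7 ye40 ze9) (ke xe23 ye36 ze49) (ke xe7 ye47 ze10) (ke xe7 ye40 ze11) (ke xe24 ye8 ze24) (ke xe21 ye20 ze31) (ke xe23 ye55 ze14) (ke xe20 ye37 ze9) (ke xe13 ye23 ze4)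 (ke xe7 ye40 ze13) (ke xe7 ye40 ze14) (ke xe23 ye55 ze10) (ke xe24 ye8 ze35) (ke xe7 ye48 ze31) (ke xe23 ye56 ze30) (ke xe24 ye8 ze38) (ke xe7 ye40 ze17) (ke xe7 ye40 ze18) (ke xe24 ye8 ze42) (ke xe24 ye7 ze41) (ke xe20 ye37 ze2) (ke xe22 ye10 ze56) (ke xe24 ye8 ze44) (ke xe7 ye40 ze20) (ke xe24 ye8 ze47) (ke xe24 ye8 ze48) (ke xe7 ye40 ze21) (ke xe24 ye8 ze52) (ke xe24 ye8 ze54) (ke xe24 ye7 ze52)) (@D3.rec (fun _ => Pt) (ke xe24 ye8 ze55) (ke xe7 ye40 ze23) (ke xe24 ye8 ze58) (ke xe24 ye8 ze60) (ke xe23 ye58 ze28) (ke xe24 ye9 ze2) (ke xe24 ye9 ze6) (ke xe7 ye40 ze25) (ke xe24 ye9 ze12) (ke xe20 ye46 ze33) (ke xe22 ye48 ze44) (ke xe7 ye40 ze28) (ke xe24 ye9 ze19) (ke xe7 ye40 ze29) (ke xe7 ye40 ze30) (ke xe13 ye16 ze3) (ke xe13 ye38 ze36) (ke xe7 ye40 ze33) (ke xe22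 ye41 ze13) (ke xe23 ye21 ze50) (ke xe7 ye40 ze34) (ke xe7 ye40 ze35) (ke xe22 ye47 ze13) (ke xe13 ye38 ze61) (ke xe22 ye36 ze28) (ke xe20 ye1 ze37) (ke xe13 ye49 ze33) (ke xe13 ye11 ze57) (ke xe19 ye9 ze18) (ke xe19 ye9 ze14) (ke xe7 ye40 ze40) (ke xe24 ye9 ze35) (ke xe24 ye9 ze39) (ke xe20 ye18 ze24) (ke xe24 ye9 ze42) (ke xe7 ye40 ze43) (ke xe7 ye40 ze44) (ke xe7 ye40 ze45) (ke xe7 ye40 ze46) (ke xe24 ye9 ze47) (ke xe22 ye45 ze56) (ke xe16 ye3 ze54) (ke xe7 ye45 ze30) (ke xe9 ye22 ze61) (ke xe7 ye40 ze50) (ke xe7 ye44 ze39) (ke xe24 ye9 ze55) (ke xe7 ye40 ze49) (ke xe24 ye9 ze57) (ke xe24 ye9 ze52) (ke xe24 ye10 ze0) (ke xe7 ye40 ze52) (ke xe24 ye10 ze1) (ke xe7 ye40 ze54) (ke xe24 ye10 ze4) (ke xe22 ye30 ze12) (ke xe7 ye40 ze57) (ke xe17 ye11 ze50) (ke xe7 ye41 ze0)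 (ke xe18 ye38 ze12) (ke xe22 ye45 ze34) (ke xe19 ye42 ze13)) (@D3.rec (fun _ => Pt) (ke xe24 ye10 ze10) (ke xe24 ye10 ze12) (ke xe7 ye40 ze61) (ke xe14 ye36 ze18) (ke xe12 ye17 ze57) (ke xe16 ye44 ze7) (ke xe24 ye10 ze13) (ke xe7 ye41 ze2) (ke xe24 ye10 ze15) (ke xe24 ye10 ze17) (ke xe7 ye41 ze6) (ke xe13 ye21 ze56) (ke xe24 ye10 ze22) (ke xe24 ye10 ze23) (ke xe7 ye41 ze5) (ke xe19 ye28 ze50) (ke xe24 ye10 ze24) (ke xe7 ye41 ze10) (ke xe11 ye40 ze39) (ke xe16 ye46 ze50) (ke xe24 ye10 ze28) (ke xe24 ye10 ze29) (ke xe7 ye41 ze13) (ke xe11 ye54 ze60) (ke xe24 ye10 ze34) (ke xe7 ye41 ze26) (ke xe16 ye44 ze8) (ke xe22 ye55 ze14) (ke xe8 ye39 ze19) (ke xe7 ye41 ze17) (ke xe15 ye55 ze49) (ke xe19 ye42 ze9) (ke xe19 ye42 ze14) (ke xe22 ye27 ze13) (ke xe24 ye10 ze39) (ke xe7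 ye41 ze20) (ke xe24 ye10 ze43) (ke xe7 ye41 ze21) (ke xe24 ye10 ze47) (ke xe7 ye41 ze22) (ke xe24 ye10 ze49) (ke xe23 ye34 ze6) (ke xe7 ye41 ze24) (ke xe24 ye10 ze54) (ke xe14 ye39 ze53) (ke xe7 ye41 ze25) (ke xe24 ye10 ze35) (ke xe21 ye32 ze26) (ke xe19 ye27 ze19) (ke xe10 ye17 ze19) (ke xe24 ye10 ze57) (ke xe7 ye41 ze28) (ke xe20 ye33 ze41) (ke xe19 ye34 ze12) (ke xe13 ye14 ze54) (ke xe13 ye16 ze38) (ke xe24 ye11 ze2) (ke xe7 ye41 ze30) (ke xe24 ye5 ze24) (ke xe7 ye41 ze31) (ke xe24 ye5 ze20) (ke xe13 ye14 ze60)) (@D3.rec (fun _ => Pt) (ke xe24 ye11 ze7) (ke xe23 ye59 ze53) (ke xe23 ye55 ze61) (ke xe19 ye44 ze30) (ke xe7 ye41 ze35) (ke xe7 ye45 ze6) (ke xe20 ye48 ze19) (ke xe24 ye11 ze11) (ke xe7 ye41 ze38) (ke xe23 ye57 ze13) (ke xe13 ye20 ze49) (ke xe20 ye31 ze48)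 (ke xe7 ye41 ze40) (ke xe24 ye11 ze15) (ke xe7 ye41 ze41) (ke xe24 ye11 ze20) (ke xe24 ye11 ze23) (ke xe7 ye41 ze48) (ke xe23 ye8 ze49) (ke xe24 ye11 ze29) (ke xe7 ye41 ze43) (ke xe24 ye11 ze33) (ke xe7 ye41 ze44) (ke xe24 ye11 ze38) (ke xe23 ye5 ze48) (ke xe24 ye11 ze43) (ke xe7 ye41 ze46) (ke xe24 ye11 ze49) (ke xe7 ye41 ze47) (ke xe24 ye11 ze53) (ke xe14 ye34 ze42) (ke xe11 ye9 ze22) (ke xe24 ye11 ze54) (ke xe7 ye41 ze49) (ke xe24 ye11 ze59) (ke xe24 ye11 ze60) (ke xe20 ye45 ze61) (ke xe20 ye46 ze1) (ke xe7 ye41 ze53) (ke xe7 ye41 ze54) (ke xe24 ye12 ze0) (ke xe7 ye41 ze58) (ke xe7 ye44 ze55) (ke xe24 ye12 ze5) (ke xe23 ye46 ze0) (ke xe24 ye12 ze2) (ke xe10 ye36 ze47) (ke xe11 ye30 ze7) (ke xe24 ye12 ze10) (ke xe24 ye12 ze12) (ke xe24 ye12 ze14) (ke xe24 ye12 ze16)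 (ke xe20 ye27 ze15) (ke xe24 ye12 ze20) (ke xe7 ye42 ze6) (ke xe11 ye30 ze10) (ke xe24 ye12 ze24) (ke xe24 ye12 ze26) (ke xe24 ye12 ze22) (ke xe13 ye19 ze35) (ke xe13 ye20 ze45) (ke xe24 ye12 ze32)) (@D3.rec (fun _ => Pt) (ke xe24 ye12 ze35) (ke xe7 ye42 ze10) (ke xe10 ye33 ze28) (ke xe7 ye42 ze11) (ke xe24 ye12 ze39) (ke xe24 ye12 ze41) (ke xe7 ye42 ze21) (ke xe24 ye12 ze44) (ke xe24 ye12 ze47) (ke xe24 ye12 ze48) (ke xe24 ye12 ze51) (ke xe7 ye42 ze15) (ke xe24 ye12 ze55) (ke xe24 ye12 ze56) (ke xe7 ye42 ze16) (ke xe24 ye12 ze58) (ke xe7 ye42 ze17) (ke xe24 ye13 ze0) (ke xe24 ye13 ze3) (ke xe19 ye19 ze1) (ke xe7 ye42 ze19) (ke xe24 ye13 ze7) (ke xe24 ye13 ze10) (ke xe13 ye19 ze37) (ke xe7 ye42 ze20) (ke xe24 ye13 ze14) (ke xe24 ye13 ze18) (ke xe24 ye12 ze42) (ke xe24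 ye13 ze27) (ke xe24 ye13 ze29) (ke xe7 ye42 ze22) (ke xe24 ye13 ze31) (ke xe14 ye52 ze26) (ke xe12 ye0 ze27) (ke xe7 ye42 ze23) (ke xe21 ye52 ze40) (ke xe13 ye20 ze44) (ke xe11 ye1 ze25) (ke xe22 ye11 ze61) (ke xe7 ye42 ze25) (ke xe24 ye13 ze35) (ke xe7 ye42 ze26) (ke xe14 ye35 ze14) (ke xe7 ye44 ze52) (ke xe7 ye42 ze28) (ke xe24 ye13 ze40) (ke xe7 ye42 ze29) (ke xe24 ye13 ze41) (ke xe24 ye13 ze43) (ke xe7 ye42 ze37) (ke xe24 ye13 ze46) (ke xe7 ye42 ze31) (ke xe22 ye49 ze30) (ke xe10 ye34 ze5) (ke xe7 ye46 ze46) (ke xe22 ye10 ze53) (ke xe24 ye13 ze57) (ke xe7 ye42 ze33) (ke xe24 ye14 ze0) (ke xe24 ye13 ze36) (ke xe23 ye57 ze18) (ke xe7 ye42 ze35)) (@D3.rec (fun _ => Pt) (ke xe7 ye42 ze36) (ke xe24 ye14 ze9) (ke xe24 ye14 ze13) (ke xe8 ye16 ze14) (ke xe24 ye14 ze14)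 (ke xe7 ye42 ze38) (ke xe14 ye39 ze23) (ke xe24 ye14 ze18) (ke xe18 ye50 ze48) (ke xe7 ye42 ze40) (ke xe13 ye4 ze29) (ke xe24 ye14 ze19) (ke xe13 ye7 ze25) (ke xe17 ye17 ze12) (ke xe7 ye42 ze43) (ke xe10 ye27 ze27) (ke xe24 ye14 ze29) (ke xe7 ye42 ze47) (ke xe13 ye10 ze2) (ke xe23 ye46 ze16) (ke xe24 ye14 ze36) (ke xe7 ye42 ze45) (ke xe24 ye14 ze37) (ke xe24 ye14 ze38) (ke xe7 ye42 ze46) (ke xe19 ye16 ze11) (ke xe24 ye14 ze42) (ke xe24 ye14 ze32) (ke xe20 ye25 ze0) (ke xe7 ye42 ze52) (ke xe17 ye50 ze6) (ke xe24 ye14 ze48) (ke xe7 ye42 ze51) (ke xe24 ye14 ze46) (ke xe24 ye14 ze53) (ke xe24 ye14 ze55) (ke xe11 ye45 ze7) (ke xe24 ye14 ze57) (ke xe7 ye43 ze1) (ke xe24 ye15 ze1) (ke xe7 ye42 ze58) (ke xe15 ye49 ze60) (ke xe19 ye19 ze31) (ke xe7 ye42 ze60) (ke xe24 ye15 ze6)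 (ke xe24 ye15 ze8) (ke xe7 ye42 ze61) (ke xe24 ye15 ze12) (ke xe24 ye15 ze14) (ke xe7 ye43 ze0) (ke xe24 ye15 ze18) (ke xe19 ye36 ze25) (ke xe24 ye14 ze60) (ke xe9 ye48 ze45) (ke xe7 ye43 ze2) (ke xe24 ye15 ze21) (ke xe7 ye43 ze3) (ke xe24 ye15 ze23) (ke xe9 ye21 ze42) (ke xe13 ye3 ze19) (ke xe12 ye56 ze54) (ke xe24 ye15 ze28)) (@D3.rec (fun _ => Pt) (ke xe19 ye50 ze44) (ke xe24 ye15 ze31) (ke xe11 ye59 ze47) (ke xe10 ye25 ze17) (ke xe9 ye21 ze54) (ke xe18 ye13 ze56) (ke xe7 ye43 ze10) (ke xe7 ye43 ze11) (ke xe12 ye57 ze52) (ke xe20 ye51 ze19) (ke xe11 ye58 ze7) (ke xe11 ye46 ze14) (ke xe18 ye23 ze27) (ke xe7 ye43 ze13) (ke xe17 ye58 ze20) (ke xe18 ye26 ze21) (ke xe11 ye43 ze17) (ke xe12 ye57 ze36) (ke xe21 ye42 ze29) (ke xe24 ye15 ze36) (ke xe7 ye43 ze17) (ke xe12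 ye53 ze33) (ke xe11 ye58 ze0) (ke xe19 ye27 ze2) (ke xe19 ye4 ze27) (ke xe24 ye15 ze44) (ke xe7 ye43 ze19) (ke xe9 ye26 ze0) (ke xe24 ye15 ze47) (ke xe9 ye25 ze51) (ke xe24 ye15 ze51) (ke xe11 ye40 ze41) (ke xe24 ye15 ze52) (ke xe7 ye43 ze23) (ke xe24 ye15 ze54) (ke xe24 ye15 ze59) (ke xe24 ye15 ze61) (ke xe7 ye43 ze25) (ke xe19 ye36 ze37) (ke xe24 ye16 ze5) (ke xe7 ye43 ze50) (ke xe21 ye36 ze31) (ke xe24 ye16 ze12) (ke xe7 ye43 ze27) (ke xe13 ye11 ze15) (ke xe10 ye36 ze46) (ke xe19 ye18 ze10) (ke xe7 ye43 ze29) (ke xe24 ye16 ze16) (ke xe24 ye16 ze20) (ke xe7 ye43 ze30) (ke xe22 ye58 ze58) (ke xe21 ye30 ze38) (ke xe24 ye16 ze21) (ke xe7 ye43 ze32) (ke xe24 ye16 ze26) (ke xe7 ye43 ze33) (ke xe24 ye16 ze28) (ke xe24 ye16 ze29) (ke xe24 ye16 ze33) (ke xe7 ye43 ze34) (ke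 xe24 ye15 ze45)) (@D3.rec (fun _ => Pt) (ke xe24 ye16 ze36) (ke xe7 ye43 ze36) (ke xe19 ye17 ze22) (ke xe20 ye14 ze9) (ke xe24 ye16 ze40) (ke xe16 ye36 ze52) (ke xe19 ye31 ze20) (ke xe24 ye16 ze41) (ke xe16 ye36 ze50) (ke xe7 ye43 ze39) (ke xe10 ye56 ze6) (ke xe7 ye43 ze40) (ke xe24 ye15 ze2) (ke xe24 ye16 ze47) (ke xe24 ye16 ze51) (ke xe7 ye43 ze42) (ke xe23 ye5 ze44) (ke xe24 ye16 ze58) (ke xe24 ye16 ze59) (ke xe7 ye43 ze43) (ke xe21 ye3 ze35) (ke xe24 ye17 ze5) (ke xe24 ye15 ze16) (ke xe24 ye17 ze7) (ke xe24 ye17 ze10) (ke xe7 ye43 ze45) (ke xe19 ye36 ze4) (ke xe23 ye32 ze16) (ke xe7 ye43 ze46) (ke xe10 ye37 ze48) (ke xe24 ye16 ze0) (ke xe24 ye15 ze10) (ke xe9 ye52 ze17) (ke xe24 ye17 ze24) (ke xe7 ye43 ze48) (ke xe24 ye17 ze29) (ke xe24 ye17 ze30) (ke xe7 ye43 ze49)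 (ke xe24 ye17 ze37) (ke xe24 ye17 ze42) (ke xe24 ye16 ze8) (ke xe24 ye17 ze43) (ke xe14 ye30 ze30) (ke xe7 ye43 ze51) (ke xe7 ye43 ze52) (ke xe24 ye17 ze54) (ke xe24 ye17 ze57) (ke xe21 ye8 ze4) (ke xe21 ye41 ze17) (ke xe12 ye46 ze2) (ke xe7 ye43 ze56) (ke xe7 ye45 ze20) (ke xe7 ye43 ze57) (ke xe12 ye3 ze13) (ke xe11 ye43 ze46) (ke xe21 ye43 ze11) (ke xe21 ye44 ze57) (ke xe18 ye54 ze8) (ke xe7 ye43 ze59) (ke xe9 ye23 ze7) (ke xe9 ye25 ze31) (ke xe24 ye18 ze8)) (@D3.rec (fun _ => Pt) (ke xe19 ye4 ze5) (ke xe24 ye18 ze10) (ke xe21 ye41 ze26) (ke xe19 ye1 ze55) (ke xe20 ye33 ze1) (ke xe19 ye50 ze57) (ke xe7 ye44 ze1) (ke xe24 ye18 ze16) (ke xe22 ye35 ze19) (ke xe16 ye17 ze52) (ke xe7 ye44 ze2) (ke xe15 ye11 ze14) (ke xe7 ye44 ze4) (ke xe19 ye15 ze29) (ke xe14 ye31 ze42)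 (ke xe7 ye44 ze6) (ke xe19 ye15 ze31) (ke xe24 ye18 ze27) (ke xe18 ye7 ze50) (ke xe16 ye18 ze24) (ke xe19 ye1 ze59) (ke xe7 ye44 ze8) (ke xe22 ye7 ze56) (ke xe13 ye45 ze6) (ke xe22 ye0 ze26) (ke xe24 ye18 ze38) (ke xe7 ye44 ze10) (ke xe24 ye15 ze37) (ke xe24 ye6 ze55) (ke xe7 ye44 ze11) (ke xe24 ye18 ze43) (ke xe24 ye18 ze45) (ke xe13 ye45 ze9) (ke xe10 ye27 ze0) (ke xe24 ye18 ze50) (ke xe13 ye45 ze36) (ke xe24 ye18 ze52) (ke xe7 ye44 ze14) (ke xe9 ye25 ze45) (ke xe22 ye48 ze51) (ke xe7 ye44 ze16) (ke xe24 ye18 ze55) (ke xe7 ye44 ze18) (ke xe24 ye18 ze58) (ke xe7 ye44 ze19) (ke xe24 ye18 ze61) (ke xe19 ye53 ze7) (ke xe11 ye49 ze14) (ke xe9 ye17 ze48) (ke xe12 ye14 ze61) (ke xe24 ye19 ze0) (ke xe21 ye6 ze53) (ke xe9 ye13 ze1) (ke xe24 ye19 ze4) (ke xe11 ye48 ze55) (ke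 xe17 ye4 ze16) (ke xe11 ye36 ze29) (ke xe18 ye24 ze25) (ke xe9 ye31 ze36) (ke xe24 ye19 ze9) (ke xe7 ye44 ze27) (ke xe11 ye49 ze19)) (@D3.rec (fun _ => Pt) (ke xe14 ye47 ze37) (ke xe24 ye19 ze14) (ke xe21 ye40 ze43) (ke xe24 ye19 ze20) (ke xe16 ye8 ze42) (ke xe21 ye54 ze21) (ke xe19 ye11 ze38) (ke xe7 ye44 ze31) (ke xe12 ye14 ze46) (ke xe20 ye52 ze60) (ke xe24 ye19 ze29) (ke xe7 ye44 ze34) (ke xe19 ye22 ze18) (ke xe7 ye44 ze35) (ke xe21 ye43 ze43) (ke xe14 ye20 ze55) (ke xe24 ye19 ze34) (ke xe14 ye38 ze17) (ke xe14 ye29 ze3) (ke xe24 ye19 ze42) (ke xe7 ye44 ze38) (ke xe10 ye36 ze35) (ke xe7 ye44 ze40) (ke xe11 ye46 ze39) (ke xe12 ye20 ze12) (ke xe7 ye44 ze41) (ke xe16 ye38 ze35) (ke xe20 ye48 ze37) (ke xe7 ye44 ze42) (ke xe12 ye32 ze57) (ke xe9 ye27 ze3) (ke xe24 ye19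 ze50) (ke xe17 ye13 ze47) (ke xe24 ye19 ze56) (ke xe14 ye14 ze5) (ke xe19 ye3 ze61) (ke xe7 ye44 ze45) (ke xe24 ye20 ze0) (ke xe21 ye55 ze14) (ke xe10 ye31 ze16) (ke xe21 ye41 ze56) (ke xe16 ye20 ze23) (ke xe21 ye42 ze39) (ke xe13 ye2 ze24) (ke xe19 ye8 ze26) (ke xe19 ye4 ze28) (ke xe15 ye18 ze26) (ke xe14 ye43 ze44) (ke xe20 ye48 ze39) (ke xe24 ye20 ze11) (ke xe7 ye44 ze50) (ke xe7 ye45 ze55) (ke xe19 ye8 ze32) (ke xe7 ye44 ze53) (ke xe23 ye58 ze57) (ke xe24 ye13 ze38) (ke xe22 ye13 ze61) (ke xe10 ye31 ze6) (ke xe7 ye44 ze56) (ke xe7 ye44 ze57) (ke xe20 ye19 ze12) (ke xe11 ye26 ze3)) (@D3.rec (fun _ => Pt) (ke xe19 ye23 ze36) (ke xe12 ye57 ze53) (ke xe10 ye36 ze37) (ke xe7 ye44 ze59) (ke xe20 ye54 ze27) (ke xe21 ye41 ze58) (ke xe24 ye20 ze24) (ke xe7 ye44 ze61) (ke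 xe23 ye12 ze42) (ke xe7 ye45 ze2) (ke xe23 ye58 ze45) (ke xe24 ye20 ze31) (ke xe14 ye25 ze27) (ke xe24 ye20 ze37) (ke xe24 ye20 ze41) (ke xe17 ye11 ze49) (ke xe7 ye45 ze4) (ke xe23 ye24 ze10) (ke xe7 ye46 ze11) (ke xe24 ye20 ze49) (ke xe24 ye20 ze52) (ke xe7 ye45 ze5) (ke xe21 ye47 ze45) (ke xe7 ye46 ze25) (ke xe10 ye30 ze61) (ke xe23 ye59 ze5) (ke xe18 ye17 ze61) (ke xe21 ye45 ze24) (ke xe7 ye45 ze9) (ke xe12 ye27 ze43) (ke xe10 ye37 ze61) (ke xe7 ye46 ze14) (ke xe23 ye12 ze22) (ke xe24 ye21 ze4) (ke xe24 ye21 ze6) (ke xe7 ye45 ze12) (ke xe24 ye21 ze9) (ke xe24 ye21 ze10) (ke xe7 ye45 ze13) (ke xe24 ye21 ze13) (ke xe24 ye21 ze16) (ke xe7 ye46 ze34) (ke xe15 ye29 ze42) (ke xe22 ye55 ze15) (ke xe24 ye21 ze17) (ke xe24 ye21 ze18) (ke xe7 ye45 ze15) (ke xe11 ye4 ze3) (ke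 xe7 ye45 ze16) (ke xe7 ye45 ze18) (ke xe24 ye21 ze19) (ke xe7 ye46 ze47) (ke xe8 ye48 ze2) (ke xe22 ye26 ze34) (ke xe22 ye58 ze50) (ke xe24 ye21 ze28) (ke xe7 ye45 ze21) (ke xe24 ye21 ze34) (ke xe21 ye54 ze40) (ke xe7 ye45 ze24) (ke xe10 ye36 ze36) (ke xe7 ye45 ze25)) (@D3.rec (fun _ => Pt) (ke xe24 ye21 ze35) (ke xe21 ye52 ze43) (ke xe24 ye21 ze37) (ke xe7 ye45 ze27) (ke xe24 ye21 ze40) (ke xe24 ye9 ze51) (ke xe7 ye45 ze28) (ke xe22 ye19 ze40) (ke xe24 ye21 ze47) (ke xe7 ye46 ze61) (ke xe24 ye21 ze53) (ke xe7 ye45 ze31) (ke xe19 ye17 ze57) (ke xe22 ye27 ze59) (ke xe22 ye12 ze9) (ke xe13 ye26 ze3) (ke xe7 ye45 ze36) (ke xe14 ye36 ze17) (ke xe23 ye5 ze38) (ke xe24 ye21 ze58) (ke xe7 ye45 ze38) (ke xe7 ye45 ze42) (ke xe22 ye57 ze5) (ke xe22 ye48 ze55) (ke xe22 ye45 ze32)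 (ke xe24 ye22 ze3) (ke xe24 ye21 ze60) (ke xe21 ye11 ze34) (ke xe7 ye45 ze46) (ke xe19 ye26 ze33) (ke xe24 ye22 ze6) (ke xe7 ye45 ze47) (ke xe19 ye8 ze35) (ke xe19 ye2 ze38) (ke xe23 ye58 ze55) (ke xe24 ye22 ze17) (ke xe23 ye0 ze15) (ke xe7 ye45 ze49) (ke xe24 ye22 ze24) (ke xe7 ye45 ze51) (ke xe24 ye22 ze28) (ke xe7 ye45 ze52) (ke xe24 ye22 ze32) (ke xe24 ye22 ze34) (ke xe24 ye22 ze35) (ke xe7 ye45 ze53) (ke xe14 ye51 ze38) (ke xe18 ye2 ze41) (ke xe24 ye20 ze14) (ke xe24 ye22 ze38) (ke xe24 ye22 ze39) (ke xe22 ye32 ze32) (ke xe7 ye45 ze56) (ke xe24 ye22 ze41) (ke xe17 ye23 ze49) (ke xe7 ye45 ze59) (ke xe13 ye21 ze61) (ke xe24 ye22 ze43) (ke xe8 ye27 ze43) (ke xe24 ye22 ze44) (ke xe22 ye26 ze9) (ke xe14 ye20 ze29)) (@D3.rec (fun _ => Pt) (ke xe16 ye43 ze61) (ke xe24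 ye22 ze45) (ke xe19 ye22 ze32) (ke xe24 ye22 ze48) (ke xe7 ye46 ze2) (ke xe22 ye59 ze17) (ke xe17 ye51 ze55) (ke xe23 ye52 ze16) (ke xe24 ye22 ze55) (ke xe24 ye19 ze22) (ke xe14 ye52 ze18) (ke xe23 ye59 ze24) (ke xe22 ye21 ze8) (ke xe24 ye20 ze46) (ke xe21 ye59 ze53) (ke xe8 ye35 ze0) (ke xe24 ye23 ze4) (ke xe22 ye38 ze43) (ke xe23 ye59 ze29) (ke xe24 ye20 ze61) (ke xe15 ye46 ze52) (ke xe24 ye23 ze6) (ke xe24 ye23 ze8) (ke xe14 ye32 ze6) (ke xe7 ye46 ze15) (ke xe22 ye9 ze22) (ke xe14 ye27 ze21) (ke xe22 ye57 ze20) (ke xe20 ye27 ze25) (ke xe7 ye46 ze18) (ke xe13 ye34 ze20) (ke xe13 ye44 ze19) (ke xe10 ye36 ze12) (ke xe22 ye29 ze53) (ke xe10 ye37 ze23) (ke xe24 ye20 ze53) (ke xe22 ye38 ze14) (ke xe8 ye38 ze48) (ke xe10 ye37 ze49) (ke xe22 ye40 ze0) (ke xe24 ye20 ze57)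 (ke xe24 ye20 ze58) (ke xe22 ye39 ze48) (ke xe24 ye23 ze26) (ke xe24 ye23 ze29) (ke xe22 ye29 ze54) (ke xe22 ye39 ze43) (ke xe24 ye21 ze1) (ke xe24 ye23 ze32) (ke xe24 ye23 ze34) (ke xe7 ye46 ze28) (ke xe21 ye56 ze57) (ke xe23 ye59 ze41) (ke xe14 ye29 ze44) (ke xe24 ye23 ze43) (ke xe24 ye23 ze46) (ke xe7 ye46 ze30) (ke xe22 ye40 ze43) (ke xe23 ye59 ze37) (ke xe14 ye49 ze44) (ke xe24 ye23 ze54) (ke xe18 ye18 ze1)) (@D3.rec (fun _ => Pt) (ke xe19 ye24 ze41) (ke xe21 ye30 ze47) (ke xe7 ye46 ze32) (ke xe24 ye24 ze3) (ke xe22 ye45 ze8) (ke xe24 ye24 ze7) (ke xe23 ye31 ze12) (ke xe7 ye46 ze33) (ke xe14 ye50 ze27) (ke xe11 ye52 ze9) (ke xe23 ye43 ze14) (ke xe24 ye24 ze12) (ke xe7 ye46 ze35) (ke xe7 ye46 ze36) (ke xe24 ye24 ze14) (ke xe13 ye57 ze47) (ke xe24 ye24 ze16) (ke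 xe24 ye24 ze19) (ke xe23 ye58 ze49) (ke xe24 ye24 ze21) (ke xe22 ye58 ze44) (ke xe7 ye46 ze39) (ke xe10 ye30 ze53) (ke xe24 ye24 ze25) (ke xe24 ye24 ze28) (ke xe24 ye24 ze30) (ke xe7 ye46 ze42) (ke xe24 ye24 ze33) (ke xe24 ye3 ze1) (ke xe24 ye24 ze40) (ke xe24 ye21 ze26) (ke xe7 ye46 ze43) (ke xe24 ye24 ze43) (ke xe22 ye24 ze11) (ke xe22 ye24 ze13) (ke xe7 ye46 ze45) (ke xe24 ye13 ze53) (ke xe24 ye24 ze49) (ke xe24 ye21 ze29) (ke xe24 ye24 ze23) (ke xe7 ye46 ze49) (ke xe22 ye58 ze52) (ke xe24 ye13 ze5) (ke xe24 ye24 ze58) (ke xe24 ye24 ze60) (ke xe7 ye46 ze50) (ke xe24 ye25 ze2) (ke xe7 ye46 ze51) (ke xe20 ye48 ze27) (ke xe21 ye52 ze31) (ke xe23 ye45 ze59) (ke xe22 ye38 ze24) (ke xe7 ye46 ze53) (ke xe24 ye25 ze11) (ke xe24 ye21 ze43) (ke xe24 ye25 ze15) (ke xe7 ye46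 ze56) (ke xe24 ye25 ze18) (ke xe15 ye55 ze47) (ke xe7 ye46 ze57) (ke xe22 ye58 ze47) (ke xe22 ye19 ze20)) (@D3.rec (fun _ => Pt) (ke xe23 ye46 ze1) (ke xe14 ye22 ze52) (ke xe7 ye46 ze59) (ke xe24 ye25 ze28) (ke xe24 ye25 ze29) (ke xe7 ye46 ze60) (ke xe14 ye25 ze55) (ke xe22 ye23 ze47) (ke xe24 ye21 ze49) (ke xe24 ye25 ze38) (ke xe7 ye47 ze0) (ke xe23 ye36 ze11) (ke xe24 ye25 ze44) (ke xe22 ye24 ze25) (ke xe7 ye47 ze2) (ke xe24 ye25 ze48) (ke xe24 ye25 ze50) (ke xe22 ye24 ze0) (ke xe13 ye10 ze31) (ke xe13 ye4 ze34) (ke xe24 ye25 ze54) (ke xe24 ye25 ze56) (ke xe7 ye47 ze5) (ke xe13 ye26 ze32) (ke xe13 ye35 ze41) (ke xe24 ye25 ze61) (ke xe24 ye26 ze1) (ke xe7 ye47 ze8) (ke xe10 ye41 ze18) (ke xe24 ye26 ze5) (ke xe24 ye26 ze7) (ke xe24 ye26 ze8) (ke xe24 ye26 ze10) (ke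 xe23 ye34 ze37) (ke xe7 ye47 ze12) (ke xe24 ye26 ze16) (ke xe19 ye11 ze22) (ke xe22 ye33 ze33) (ke xe14 ye22 ze6) (ke xe24 ye26 ze20) (ke xe16 ye38 ze22) (ke xe24 ye26 ze24) (ke xe7 ye47 ze18) (ke xe11 ye0 ze45) (ke xe20 ye56 ze60) (ke xe7 ye47 ze20) (ke xe24 ye26 ze32) (ke xe24 ye26 ze34) (ke xe19 ye28 ze39) (ke xe7 ye47 ze21) (ke xe24 ye26 ze38) (ke xe24 ye26 ze40) (ke xe8 ye59 ze14) (ke xe24 ye26 ze47) (ke xe7 ye47 ze22) (ke xe24 ye26 ze51) (ke xe21 ye11 ze25) (ke xe7 ye47 ze26) (ke xe10 ye32 ze5) (ke xe13 ye8 ze2) (ke xe13 ye46 ze17) (ke xe9 ye22 ze26)) (@D3.rec (fun _ => Pt) (ke xe10 ye21 ze59) (ke xe24 ye26 ze58) (ke xe24 ye26 ze61) (ke xe7 ye47 ze27) (ke xe24 ye27 ze4) (ke xe7 ye47 ze28) (ke xe24 ye27 ze9) (ke xe24 ye27 ze11) (ke xe24 ye0 ze6) (ke xe24 ye27 ze14)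 (ke xe24 ye27 ze19) (ke xe13 ye23 ze35) (ke xe7 ye47 ze30) (ke xe24 ye27 ze26) (ke xe7 ye47 ze31) (ke xe17 ye28 ze42) (ke xe24 ye27 ze33) (ke xe24 ye0 ze1) (ke xe24 ye27 ze36) (ke xe24 ye27 ze38) (ke xe24 ye27 ze39) (ke xe7 ye47 ze34) (ke xe19 ye18 ze39) (ke xe24 ye27 ze45) (ke xe24 ye27 ze47) (ke xe24 ye27 ze49) (ke xe7 ye47 ze36) (ke xe24 ye27 ze53) (ke xe22 ye32 ze55) (ke xe7 ye47 ze37) (ke xe22 ye4 ze7) (ke xe20 ye52 ze27) (ke xe7 ye47 ze42) (ke xe10 ye21 ze54) (ke xe16 ye52 ze24) (ke xe7 ye47 ze41) (ke xe24 ye27 ze58) (ke xe14 ye3 ze31) (ke xe17 ye1 ze3) (ke xe7 ye47 ze45) (ke xe13 ye29 ze60) (ke xe14 ye24 ze30) (ke xe13 ye27 ze21) (ke xe24 ye28 ze2) (ke xe7 ye47 ze47) (ke xe14 ye21 ze47) (ke xe13 ye36 ze38) (ke xe11 ye22 ze21) (ke xe7 ye47 ze49) (ke xe17 ye21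 ze18) (ke xe14 ye18 ze7) (ke xe24 ye28 ze8) (ke xe7 ye47 ze52) (ke xe24 ye28 ze11) (ke xe11 ye15 ze55) (ke xe10 ye28 ze14) (ke xe24 ye28 ze14) (ke xe7 ye47 ze58) (ke xe8 ye44 ze53) (ke xe24 ye28 ze18) (ke xe24 ye28 ze21) (ke xe7 ye47 ze59)) (@D3.rec (fun _ => Pt) (ke xe22 ye57 ze59) (ke xe13 ye32 ze59) (ke xe20 ye10 ze48) (ke xe7 ye47 ze61) (ke xe24 ye28 ze27) (ke xe7 ye48 ze0) (ke xe18 ye15 ze51) (ke xe7 ye48 ze1) (ke xe24 ye28 ze30) (ke xe10 ye13 ze15) (ke xe13 ye43 ze27) (ke xe13 ye34 ze36) (ke xe13 ye40 ze44) (ke xe13 ye40 ze11) (ke xe7 ye48 ze5) (ke xe15 ye51 ze3) (ke xe7 ye48 ze6) (ke xe24 ye28 ze36) (ke xe20 ye33 ze49) (ke xe13 ye23 ze27) (ke xe7 ye48 ze8) (ke xe24 ye28 ze44) (ke xe7 ye48 ze9) (ke xe15 ye27 ze2) (ke xe19 ye25 ze31) (ke xe19 ye41 ze11) (ke xe24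 ye28 ze55) (ke xe24 ye28 ze58) (ke xe21 ye3 ze52) (ke xe7 ye48 ze13) (ke xe11 ye0 ze16) (ke xe24 ye29 ze4) (ke xe24 ye29 ze1) (ke xe24 ye29 ze10) (ke xe21 ye8 ze32) (ke xe24 ye29 ze14) (ke xe17 ye52 ze58) (ke xe7 ye48 ze15) (ke xe22 ye39 ze10) (ke xe16 ye6 ze41) (ke xe16 ye9 ze59) (ke xe23 ye50 ze19) (ke xe7 ye48 ze17) (ke xe24 ye29 ze25) (ke xe14 ye36 ze47) (ke xe7 ye48 ze18) (ke xe18 ye4 ze20) (ke xe24 ye29 ze30) (ke xe7 ye48 ze21) (ke xe20 ye59 ze34) (ke xe24 ye29 ze31) (ke xe7 ye48 ze22) (ke xe14 ye26 ze1) (ke xe13 ye28 ze19) (ke xe24 ye29 ze36) (ke xe10 ye49 ze44) (ke xe24 ye29 ze37) (ke xe23 ye27 ze28) (ke xe24 ye29 ze40) (ke xe22 ye1 ze9) (ke xe24 ye29 ze44) (ke xe7 ye48 ze28)) (@D3.rec (fun _ => Pt) (ke xe24 ye29 ze47) (ke xe24 ye29 ze50) (ke xe24 ye29 ze52)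 (ke xe7 ye48 ze30) (ke xe24 ye8 ze26) (ke xe19 ye13 ze4) (ke xe24 ye29 ze59) (ke xe7 ye48 ze32) (ke xe24 ye30 ze1) (ke xe24 ye30 ze4) (ke xe7 ye48 ze34) (ke xe22 ye46 ze54) (ke xe24 ye6 ze48) (ke xe24 ye30 ze11) (ke xe24 ye30 ze14) (ke xe7 ye48 ze35) (ke xe24 ye30 ze21) (ke xe7 ye48 ze36) (ke xe24 ye30 ze26) (ke xe21 ye52 ze51) (ke xe23 ye46 ze13) (ke xe13 ye13 ze47) (ke xe13 ye49 ze25) (ke xe8 ye45 ze36) (ke xe7 ye48 ze40) (ke xe7 ye49 ze1) (ke xe13 ye39 ze17) (ke xe11 ye24 ze51) (ke xe24 ye30 ze33) (ke xe7 ye48 ze43) (ke xe15 ye0 ze16) (ke xe24 ye30 ze41) (ke xe12 ye47 ze36) (ke xe22 ye1 ze56) (ke xe17 ye10 ze10) (ke xe24 ye30 ze46) (ke xe21 ye18 ze15) (ke xe24 ye30 ze49) (ke xe7 ye48 ze47) (ke xe21 ye56 ze54) (ke xe21 ye24 ze23) (ke xe24 ye30 ze54) (ke xe16 ye2 ze58)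 (ke xe21 ye56 ze59) (ke xe13 ye15 ze59) (ke xe20 ye52 ze3) (ke xe22 ye23 ze55) (ke xe24 ye30 ze56) (ke xe7 ye48 ze57) (ke xe24 ye30 ze59) (ke xe7 ye48 ze58) (ke xe17 ye2 ze43) (ke xe24 ye31 ze3) (ke xe24 ye31 ze5) (ke xe7 ye48 ze61) (ke xe22 ye30 ze11) (ke xe24 ye31 ze6) (ke xe14 ye20 ze34) (ke xe16 ye30 ze30) (ke xe20 ye50 ze61) (ke xe24 ye31 ze10) (ke xe24 ye31 ze11)) (@D3.rec (fun _ => Pt) (ke xe23 ye15 ze50) (ke xe7 ye49 ze3) (ke xe24 ye31 ze18) (ke xe24 ye31 ze20) (ke xe13 ye51 ze32) (ke xe22 ye53 ze54) (ke xe14 ye51 ze0) (ke xe7 ye49 ze56) (ke xe12 ye21 ze56) (ke xe7 ye49 ze7) (ke xe18 ye42 ze44) (ke xe17 ye9 ze20) (ke xe24 ye31 ze24) (ke xe24 ye31 ze26) (ke xe13 ye51 ze40) (ke xe12 ye46 ze34) (ke xe12 ye6 ze21) (ke xe22 ye53 ze50) (ke xe24 ye31 ze28) (ke xe7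 ye49 ze13) (ke xe24 ye31 ze34) (ke xe7 ye49 ze14) (ke xe11 ye33 ze33) (ke xe24 ye31 ze41) (ke xe22 ye29 ze42) (ke xe24 ye31 ze44) (ke xe24 ye31 ze47) (ke xe24 ye31 ze48) (ke xe7 ye49 ze16) (ke xe24 ye23 ze39) (ke xe21 ye41 ze2) (ke xe9 ye9 ze28) (ke xe23 ye14 ze56) (ke xe9 ye9 ze25) (ke xe15 ye12 ze55) (ke xe18 ye40 ze54) (ke xe23 ye4 ze21) (ke xe7 ye49 ze19) (ke xe7 ye49 ze21) (ke xe23 ye24 ze40) (ke xe22 ye45 ze35) (ke xe24 ye31 ze55) (ke xe24 ye31 ze57) (ke xe24 ye31 ze59) (ke xe7 ye49 ze24) (ke xe24 ye32 ze0) (ke xe24 ye32 ze2) (ke xe20 ye24 ze44) (ke xe24 ye21 ze0) (ke xe23 ye43 ze20) (ke xe10 ye32 ze41) (ke xe7 ye49 ze34) (ke xe24 ye32 ze7) (ke xe24 ye32 ze8) (ke xe7 ye49 ze31) (ke xe20 ye3 ze40) (ke xe7 ye49 ze33) (ke xe23 ye58 ze48) (ke xe17 ye6 ze26) (ke xe7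 ye49 ze35) (ke xe15 ye18 ze27) (ke xe20 ye13 ze51)) (@D3.rec (fun _ => Pt) (ke xe7 ye49 ze37) (ke xe24 ye32 ze17) (ke xe7 ye49 ze38) (ke xe13 ye4 ze1) (ke xe24 ye32 ze19) (ke xe7 ye49 ze41) (ke xe22 ye39 ze12) (ke xe23 ye40 ze52) (ke xe23 ye41 ze16) (ke xe13 ye13 ze37) (ke xe7 ye54 ze6) (ke xe24 ye32 ze25) (ke xe24 ye32 ze27) (ke xe7 ye49 ze45) (ke xe15 ye41 ze30) (ke xe24 ye32 ze29) (ke xe24 ye32 ze30) (ke xe7 ye49 ze49) (ke xe24 ye32 ze31) (ke xe7 ye49 ze51) (ke xe19 ye16 ze52) (ke xe24 ye32 ze34) (ke xe7 ye49 ze55) (ke xe24 ye32 ze35) (ke xe17 ye38 ze24) (ke xe24 ye32 ze36) (ke xe23 ye30 ze33) (ke xe21 ye31 ze32) (ke xe7 ye49 ze58) (ke xe23 ye30 ze39) (ke xe20 ye6 ze45) (ke xe15 ye5 ze22) (ke xe17 ye29 ze49) (ke xe17 ye55 ze14) (ke xe17 ye55 ze17) (ke xe20 ye22 ze2)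 (ke xe20 ye14 ze40) (ke xe17 ye29 ze53) (ke xe20 ye15 ze48) (ke xe14 ye50 ze16) (ke xe24 ye32 ze48) (ke xe12 ye56 ze12) (ke xe16 ye12 ze60) (ke xe7 ye50 ze4) (ke xe24 ye32 ze54) (ke xe24 ye32 ze10) (ke xe24 ye32 ze57) (ke xe7 ye50 ze6) (ke xe14 ye50 ze36) (ke xe19 ye6 ze3) (ke xe24 ye33 ze1) (ke xe7 ye50 ze9) (ke xe24 ye33 ze3) (ke xe24 ye33 ze6) (ke xe7 ye50 ze10) (ke xe12 ye55 ze12) (ke xe7 ye50 ze11) (ke xe9 ye50 ze8) (ke xe7 ye50 ze36) (ke xe21 ye47 ze35) (ke xe24 ye33 ze16) (ke xe7 ye50 ze13)) (@D3.rec (fun _ => Pt) (ke xe14 ye50 ze49) (ke xe24 ye33 ze18) (ke xe16 ye13 ze10) (ke xe24 ye33 ze21) (ke xe10 ye32 ze43) (ke xe16 ye13 ze11) (ke xe7 ye54 ze4) (ke xe14 ye55 ze8) (ke xe24 ye33 ze26) (ke xe20 ye48 ze38) (ke xe7 ye50 ze18) (ke xe24 ye33 ze29) (ke xe24 ye33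 ze31) (ke xe7 ye50 ze19) (ke xe24 ye32 ze58) (ke xe24 ye33 ze35) (ke xe24 ye32 ze11) (ke xe24 ye21 ze11) (ke xe24 ye33 ze37) (ke xe7 ye50 ze22) (ke xe19 ye6 ze5) (ke xe24 ye33 ze39) (ke xe24 ye33 ze43) (ke xe7 ye50 ze23) (ke xe13 ye13 ze42) (ke xe14 ye49 ze33) (ke xe24 ye33 ze46) (ke xe24 ye33 ze51) (ke xe7 ye50 ze25) (ke xe24 ye33 ze57) (ke xe24 ye27 ze34) (ke xe7 ye50 ze27) (ke xe22 ye55 ze23) (ke xe24 ye34 ze1) (ke xe24 ye34 ze5) (ke xe7 ye50 ze28) (ke xe21 ye23 ze11) (ke xe14 ye36 ze0) (ke xe7 ye50 ze29) (ke xe23 ye32 ze29) (ke xe24 ye34 ze12) (ke xe23 ye44 ze4) (ke xe19 ye36 ze57) (ke xe16 ye43 ze2) (ke xe7 ye50 ze31) (ke xe17 ye49 ze13) (ke xe7 ye50 ze32) (ke xe24 ye34 ze18) (ke xe24 ye33 ze7) (ke xe24 ye32 ze15) (ke xe7 ye50 ze34) (ke xe10 ye35 ze5) (ke xe23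 ye58 ze51) (ke xe15 ye21 ze23) (ke xe24 ye33 ze10) (ke xe21 ye47 ze34) (ke xe24 ye34 ze21) (ke xe7 ye50 ze38) (ke xe15 ye42 ze2) (ke xe24 ye34 ze24) (ke xe23 ye23 ze26) (ke xe22 ye27 ze5)) (@D3.rec (fun _ => Pt) (ke xe14 ye24 ze37) (ke xe7 ye50 ze41) (ke xe7 ye50 ze43) (ke xe24 ye34 ze25) (ke xe15 ye53 ze39) (ke xe7 ye53 ze56) (ke xe14 ye55 ze4) (ke xe8 ye37 ze55) (ke xe7 ye50 ze46) (ke xe24 ye34 ze29) (ke xe7 ye50 ze47) (ke xe7 ye50 ze48) (ke xe24 ye20 ze6) (ke xe7 ye50 ze51) (ke xe14 ye5 ze59) (ke xe21 ye32 ze36) (ke xe19 ye4 ze45) (ke xe13 ye5 ze29) (ke xe13 ye5 ze26) (ke xe15 ye51 ze13) (ke xe7 ye50 ze56) (ke xe24 ye34 ze36) (ke xe24 ye34 ze38) (ke xe7 ye50 ze58) (ke xe16 ye4 ze7) (ke xe16 ye4 ze5) (ke xe23 ye58 ze59) (ke xe24 ye22 ze11) (ke xe7 ye50 ze61) (ke xe8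 ye33 ze58) (ke xe24 ye20 ze12) (ke xe23 ye12 ze45) (ke xe7 ye51 ze0) (ke xe13 ye13 ze32) (ke xe24 ye34 ze45) (ke xe13 ye14 ze50) (ke xe21 ye32 ze33) (ke xe7 ye51 ze2) (ke xe21 ye45 ze22) (ke xe23 ye59 ze21) (ke xe7 ye51 ze5) (ke xe16 ye11 ze22) (ke xe13 ye2 ze34) (ke xe7 ye51 ze8) (ke xe24 ye34 ze55) (ke xe7 ye51 ze10) (ke xe23 ye5 ze60) (ke xe15 ye54 ze21) (ke xe14 ye25 ze29) (ke xe24 ye35 ze0) (ke xe7 ye51 ze12) (ke xe7 ye51 ze13) (ke xe15 ye44 ze10) (ke xe24 ye35 ze5) (ke xe19 ye43 ze53) (ke xe7 ye51 ze18) (ke xe11 ye26 ze47) (ke xe13 ye34 ze57) (ke xe22 ye15 ze46) (ke xe24 ye35 ze9) (ke xe24 ye35 ze11) (ke xe24 ye35 ze13)) (@D3.rec (fun _ => Pt) (ke xe7 ye51 ze17) (ke xe24 ye35 ze15) (ke xe19 ye55 ze47) (ke xe24 ye35 ze6) (ke xe24 ye35 ze21) (ke xe23 ye31 ze22)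 (ke xe17 ye12 ze11) (ke xe8 ye9 ze1) (ke xe21 ye4 ze6) (ke xe24 ye35 ze24) (ke xe23 ye1 ze49) (ke xe7 ye51 ze21) (ke xe19 ye55 ze19) (ke xe7 ye51 ze27) (ke xe24 ye35 ze31) (ke xe14 ye24 ze41) (ke xe7 ye51 ze25) (ke xe15 ye23 ze5) (ke xe7 ye51 ze26) (ke xe24 ye35 ze37) (ke xe24 ye35 ze28) (ke xe24 ye35 ze40) (ke xe7 ye51 ze28) (ke xe15 ye52 ze60) (ke xe7 ye51 ze29) (ke xe24 ye35 ze46) (ke xe7 ye51 ze30) (ke xe13 ye50 ze1) (ke xe13 ye14 ze53) (ke xe14 ye17 ze37) (ke xe22 ye14 ze21) (ke xe7 ye51 ze35) (ke xe23 ye42 ze8) (ke xe14 ye47 ze25) (ke xe24 ye35 ze54) (ke xe7 ye51 ze38) (ke xe7 ye51 ze39) (ke xe24 ye35 ze57) (ke xe12 ye12 ze23) (ke xe23 ye42 ze19) (ke xe24 ye36 ze1) (ke xe7 ye51 ze41) (ke xe23 ye42 ze23) (ke xe7 ye51 ze43) (ke xe14 ye39 ze59) (ke xe13 ye15 ze10)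 (ke xe8 ye32 ze58) (ke xe7 ye54 ze52) (ke xe24 ye36 ze7) (ke xe15 ye42 ze13) (ke xe21 ye19 ze9) (ke xe23 ye42 ze25) (ke xe24 ye36 ze11) (ke xe7 ye51 ze51) (ke xe23 ye2 ze33) (ke xe7 ye51 ze52) (ke xe15 ye49 ze37) (ke xe20 ye15 ze36) (ke xe7 ye51 ze54) (ke xe24 ye36 ze17) (ke xe7 ye51 ze55) (ke xe9 ye29 ze21)) (@D3.rec (fun _ => Pt) (ke xe17 ye6 ze15) (ke xe7 ye51 ze56) (ke xe7 ye51 ze57) (ke xe20 ye0 ze6) (ke xe12 ye48 ze60) (ke xe11 ye12 ze7) (ke xe11 ye30 ze50) (ke xe17 ye53 ze38) (ke xe7 ye51 ze59) (ke xe24 ye36 ze29) (ke xe10 ye52 ze49) (ke xe7 ye51 ze60) (ke xe21 ye0 ze9) (ke xe10 ye49 ze13) (ke xe12 ye49 ze1) (ke xe22 ye6 ze22) (ke xe14 ye46 ze39) (ke xe21 ye54 ze37) (ke xe8 ye58 ze41) (ke xe7 ye52 ze1) (ke xe11 ye16 ze52) (ke xe11 ye6 ze30) (ke xe24 ye36 ze39)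 (ke xe24 ye35 ze33) (ke xe8 ye9 ze0) (ke xe7 ye52 ze3) (ke xe9 ye45 ze22) (ke xe14 ye40 ze8) (ke xe24 ye36 ze42) (ke xe24 ye36 ze44) (ke xe15 ye53 ze38) (ke xe7 ye52 ze5) (ke xe19 ye50 ze41) (ke xe7 ye52 ze6) (ke xe15 ye53 ze53) (ke xe7 ye52 ze7) (ke xe14 ye46 ze48) (ke xe24 ye36 ze51) (ke xe17 ye12 ze21) (ke xe19 ye56 ze11) (ke xe24 ye36 ze53) (ke xe7 ye52 ze9) (ke xe8 ye27 ze17) (ke xe24 ye36 ze58) (ke xe24 ye36 ze61) (ke xe7 ye52 ze30) (ke xe22 ye53 ze23) (ke xe24 ye37 ze5) (ke xe7 ye52 ze12) (ke xe14 ye47 ze0) (ke xe24 ye37 ze7) (ke xe7 ye52 ze15) (ke xe24 ye37 ze12) (ke xe15 ye53 ze50) (ke xe7 ye52 ze16) (ke xe15 ye53 ze32) (ke xe24 ye37 ze19) (ke xe24 ye35 ze34) (ke xe7 ye52 ze19) (ke xe10 ye54 ze12) (ke xe24 ye37 ze20) (ke xe7 ye52 ze20)) (@D3.rec (fun _ => Pt)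 (ke xe14 ye45 ze6) (ke xe7 ye54 ze51) (ke xe15 ye52 ze51) (ke xe7 ye52 ze22) (ke xe24 ye37 ze27) (ke xe24 ye35 ze23) (ke xe8 ye37 ze48) (ke xe7 ye52 ze24) (ke xe24 ye37 ze31) (ke xe7 ye52 ze25) (ke xe16 ye9 ze45) (ke xe24 ye37 ze35) (ke xe7 ye54 ze56) (ke xe15 ye22 ze51) (ke xe24 ye3 ze12) (ke xe7 ye52 ze28) (ke xe15 ye22 ze11) (ke xe7 ye52 ze29) (ke xe24 ye19 ze26) (ke xe24 ye37 ze0) (ke xe14 ye18 ze29) (ke xe21 ye58 ze9) (ke xe7 ye52 ze31) (ke xe7 ye52 ze32) (ke xe24 ye37 ze45) (ke xe19 ye54 ze47) (ke xe22 ye12 ze7) (ke xe24 ye37 ze50) (ke xe24 ye37 ze52) (ke xe7 ye52 ze35) (ke xe24 ye37 ze56) (ke xe16 ye10 ze8) (ke xe24 ye37 ze57) (ke xe24 ye37 ze59) (ke xe16 ye10 ze9) (ke xe24 ye37 ze60) (ke xe24 ye38 ze0) (ke xe7 ye52 ze39) (ke xe14 ye38 ze46) (ke xe24 ye38 ze5)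 (ke xe7 ye52 ze40) (ke xe24 ye38 ze9) (ke xe7 ye52 ze41) (ke xe15 ye20 ze43) (ke xe24 ye38 ze14) (ke xe24 ye35 ze48) (ke xe19 ye48 ze49) (ke xe24 ye38 ze15) (ke xe24 ye38 ze16) (ke xe7 ye52 ze43) (ke xe22 ye12 ze10) (ke xe24 ye38 ze19) (ke xe24 ye38 ze21) (ke xe7 ye52 ze45) (ke xe24 ye38 ze26) (ke xe24 ye27 ze3) (ke xe7 ye52 ze48) (ke xe24 ye35 ze45) (ke xe22 ye14 ze22) (ke xe19 ye19 ze9) (ke xe13 ye4 ze54) (ke xe13 ye21 ze34)) (@D3.rec (fun _ => Pt) (ke xe24 ye38 ze35) (ke xe7 ye52 ze51) (ke xe24 ye27 ze20) (ke xe24 ye38 ze39) (ke xe7 ye52 ze53) (ke xe7 ye52 ze54) (ke xe22 ye25 ze1) (ke xe13 ye4 ze57) (ke xe22 ye12 ze37) (ke xe13 ye4 ze61) (ke xe22 ye25 ze22) (ke xe24 ye38 ze45) (ke xe7 ye52 ze57) (ke xe12 ye59 ze37) (ke xe7 ye52 ze59) (ke xe24 ye38 ze51) (ke xe24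 ye38 ze55) (ke xe24 ye0 ze43) (ke xe14 ye39 ze10) (ke xe19 ye7 ze29) (ke xe7 ye53 ze0) (ke xe24 ye38 ze61) (ke xe24 ye39 ze1) (ke xe15 ye39 ze41) (ke xe7 ye53 ze1) (ke xe24 ye39 ze6) (ke xe14 ye31 ze32) (ke xe13 ye34 ze14) (ke xe13 ye51 ze20) (ke xe7 ye53 ze5) (ke xe24 ye39 ze8) (ke xe20 ye31 ze12) (ke xe24 ye39 ze12) (ke xe7 ye53 ze7) (ke xe20 ye16 ze47) (ke xe7 ye53 ze8) (ke xe7 ye53 ze16) (ke xe13 ye8 ze24) (ke xe24 ye39 ze14) (ke xe24 ye39 ze15) (ke xe7 ye53 ze12) (ke xe7 ye53 ze13) (ke xe24 ye39 ze19) (ke xe7 ye53 ze14) (ke xe7 ye53 ze15) (ke xe7 ye53 ze18) (ke xe24 ye39 ze25) (ke xe23 ye52 ze57) (ke xe7 ye53 ze19) (ke xe11 ye58 ze59) (ke xe19 ye8 ze50) (ke xe7 ye53 ze26) (ke xe23 ye1 ze10) (ke xe19 ye46 ze35) (ke xe7 ye53 ze23) (ke xe7 ye53 ze24) (ke xe22 ye58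 ze24) (ke xe7 ye53 ze25) (ke xe7 ye53 ze27) (ke xe13 ye5 ze7) (ke xe24 ye39 ze38) (ke xe24 ye39 ze40)) (@D3.rec (fun _ => Pt) (ke xe7 ye53 ze30) (ke xe7 ye53 ze31) (ke xe10 ye40 ze40) (ke xe22 ye14 ze41) (ke xe9 ye2 ze13) (ke xe24 ye39 ze42) (ke xe24 ye39 ze44) (ke xe7 ye53 ze34) (ke xe24 ye11 ze8) (ke xe7 ye53 ze35) (ke xe18 ye51 ze1) (ke xe7 ye53 ze36) (ke xe24 ye39 ze53) (ke xe24 ye4 ze51) (ke xe7 ye53 ze38) (ke xe10 ye40 ze52) (ke xe18 ye51 ze4) (ke xe7 ye53 ze40) (ke xe13 ye2 ze36) (ke xe14 ye0 ze51) (ke xe24 ye40 ze3) (ke xe7 ye53 ze43) (ke xe13 ye13 ze38) (ke xe14 ye56 ze33) (ke xe23 ye31 ze60) (ke xe24 ye40 ze9) (ke xe7 ye53 ze46) (ke xe24 ye40 ze16) (ke xe24 ye40 ze20) (ke xe14 ye55 ze10) (ke xe24 ye40 ze21) (ke xe22 ye34 ze22) (ke xe7 ye53 ze48) (ke xe8 ye45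 ze21) (ke xe24 ye40 ze25) (ke xe7 ye53 ze49) (ke xe23 ye11 ze52) (ke xe24 ye40 ze29) (ke xe10 ye22 ze36) (ke xe7 ye53 ze50) (ke xe21 ye53 ze5) (ke xe18 ye35 ze50) (ke xe14 ye53 ze50) (ke xe20 ye7 ze60) (ke xe23 ye9 ze10) (ke xe24 ye40 ze36) (ke xe18 ye50 ze20) (ke xe24 ye40 ze38) (ke xe7 ye53 ze53) (ke xe24 ye18 ze11) (ke xe14 ye53 ze42) (ke xe24 ye40 ze41) (ke xe7 ye53 ze55) (ke xe24 ye40 ze46) (ke xe24 ye40 ze47) (ke xe24 ye40 ze49) (ke xe7 ye53 ze57) (ke xe24 ye40 ze51) (ke xe24 ye40 ze52) (ke xe24 ye40 ze54) (ke xe24 ye40 ze58) (ke xe7 ye53 ze59)) (@D3.rec (fun _ => Pt) (ke xe24 ye41 ze2) (ke xe7 ye53 ze60) (ke xe24 ye41 ze5) (ke xe24 ye41 ze6) (ke xe14 ye2 ze23) (ke xe14 ye55 ze32) (ke xe17 ye29 ze22) (ke xe24 ye41 ze9) (ke xe14 ye54 ze31) (ke xe13 ye26 ze7) (ke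 xe24 ye31 ze7) (ke xe24 ye41 ze13) (ke xe24 ye41 ze15) (ke xe7 ye54 ze5) (ke xe19 ye16 ze44) (ke xe21 ye18 ze16) (ke xe19 ye48 ze30) (ke xe19 ye16 ze17) (ke xe7 ye54 ze7) (ke xe24 ye41 ze24) (ke xe7 ye54 ze8) (ke xe24 ye41 ze28) (ke xe24 ye41 ze29) (ke xe14 ye7 ze53) (ke xe8 ye35 ze8) (ke xe24 ye41 ze30) (ke xe7 ye54 ze10) (ke xe24 ye41 ze34) (ke xe24 ye41 ze36) (ke xe7 ye54 ze11) (ke xe12 ye24 ze33) (ke xe14 ye54 ze8) (ke xe7 ye54 ze12) (ke xe12 ye20 ze27) (ke xe24 ye41 ze41) (ke xe14 ye55 ze59) (ke xe12 ye48 ze21) (ke xe24 ye41 ze46) (ke xe7 ye54 ze14) (ke xe24 ye41 ze49) (ke xe7 ye54 ze15) (ke xe24 ye41 ze51) (ke xe19 ye5 ze49) (ke xe14 ye56 ze5) (ke xe24 ye41 ze52) (ke xe20 ye4 ze0) (ke xe7 ye54 ze17) (ke xe21 ye46 ze55) (ke xe11 ye19 ze34) (ke xe24 ye42 ze3) (ke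 xe14 ye56 ze12) (ke xe24 ye42 ze6) (ke xe7 ye54 ze20) (ke xe15 ye45 ze15) (ke xe7 ye54 ze21) (ke xe21 ye23 ze48) (ke xe13 ye53 ze28) (ke xe14 ye7 ze37) (ke xe21 ye19 ze13) (ke xe7 ye54 ze24) (ke xe24 ye42 ze20) (ke xe7 ye54 ze25)) (@D3.rec (fun _ => Pt) (ke xe14 ye56 ze32) (ke xe11 ye32 ze48) (ke xe14 ye56 ze34) (ke xe13 ye13 ze44) (ke xe14 ye48 ze6) (ke xe13 ye26 ze17) (ke xe24 ye42 ze28) (ke xe7 ye54 ze31) (ke xe14 ye47 ze7) (ke xe13 ye26 ze22) (ke xe14 ye53 ze29) (ke xe7 ye54 ze34) (ke xe24 ye42 ze32) (ke xe21 ye24 ze38) (ke xe13 ye37 ze35) (ke xe13 ye15 ze38) (ke xe13 ye42 ze36) (ke xe24 ye42 ze36) (ke xe7 ye54 ze38) (ke xe13 ye13 ze34) (ke xe24 ye42 ze40) (ke xe7 ye54 ze40) (ke xe24 ye42 ze42) (ke xe21 ye43 ze3) (ke xe24 ye42 ze44) (ke xe21 ye46 ze9) (ke xe24 ye42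 ze49) (ke xe7 ye54 ze44) (ke xe21 ye8 ze25) (ke xe24 ye42 ze53) (ke xe13 ye54 ze19) (ke xe14 ye21 ze22) (ke xe14 ye54 ze5) (ke xe24 ye42 ze56) (ke xe11 ye36 ze42) (ke xe7 ye54 ze47) (ke xe24 ye43 ze0) (ke xe20 ye16 ze23) (ke xe21 ye57 ze7) (ke xe24 ye43 ze3) (ke xe7 ye54 ze50) (ke xe18 ye7 ze8) (ke xe24 ye43 ze5) (ke xe24 ye43 ze8) (ke xe9 ye34 ze46) (ke xe24 ye43 ze11) (ke xe7 ye54 ze53) (ke xe24 ye43 ze18) (ke xe7 ye54 ze54) (ke xe24 ye34 ze11) (ke xe24 ye43 ze22) (ke xe13 ye58 ze34) (ke xe16 ye5 ze11) (ke xe17 ye42 ze4) (ke xe17 ye33 ze20) (ke xe17 ye58 ze11) (ke xe7 ye54 ze57) (ke xe8 ye20 ze12) (ke xe16 ye2 ze35) (ke xe14 ye54 ze35) (ke xe24 ye43 ze27) (ke xe24 ye43 ze31)) (@D3.rec (fun _ => Pt) (ke xe7 ye54 ze59) (ke xe12 ye13 ze11) (ke xe7 ye54 ze60) (ke xe13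 ye58 ze29) (ke xe21 ye34 ze42) (ke xe14 ye54 ze43) (ke xe21 ye55 ze59) (ke xe24 ye43 ze35) (ke xe7 ye55 ze0) (ke xe24 ye43 ze39) (ke xe7 ye55 ze1) (ke xe24 ye42 ze1) (ke xe14 ye54 ze50) (ke xe17 ye13 ze57) (ke xe24 ye43 ze43) (ke xe22 ye4 ze25) (ke xe24 ye43 ze47) (ke xe7 ye55 ze3) (ke xe7 ye55 ze4) (ke xe24 ye43 ze50) (ke xe19 ye47 ze58) (ke xe16 ye5 ze2) (ke xe19 ye47 ze52) (ke xe7 ye55 ze6) (ke xe20 ye54 ze37) (ke xe16 ye5 ze61) (ke xe13 ye54 ze51) (ke xe7 ye55 ze7) (ke xe24 ye43 ze61) (ke xe24 ye44 ze2) (ke xe7 ye55 ze12) (ke xe22 ye28 ze24) (ke xe14 ye55 ze0) (ke xe14 ye53 ze23) (ke xe14 ye55 ze2) (ke xe13 ye32 ze54) (ke xe8 ye3 ze35) (ke xe11 ye18 ze61) (ke xe7 ye55 ze13) (ke xe21 ye25 ze11) (ke xe23 ye53 ze57) (ke xe15 ye19 ze4) (ke xe7 ye55 ze14) (ke xe21 ye22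 ze51) (ke xe14 ye15 ze19) (ke xe9 ye29 ze38) (ke xe12 ye58 ze14) (ke xe13 ye11 ze25) (ke xe23 ye1 ze44) (ke xe24 ye44 ze12) (ke xe7 ye55 ze20) (ke xe24 ye44 ze19) (ke xe7 ye55 ze22) (ke xe13 ye4 ze43) (ke xe22 ye14 ze17) (ke xe20 ye36 ze7) (ke xe7 ye55 ze24) (ke xe7 ye55 ze49) (ke xe24 ye44 ze27) (ke xe8 ye8 ze1) (ke xe24 ye44 ze31) (ke xe23 ye35 ze53)) (@D3.rec (fun _ => Pt) (ke xe7 ye55 ze58) (ke xe24 ye44 ze34) (ke xe7 ye55 ze28) (ke xe17 ye13 ze22) (ke xe20 ye47 ze34) (ke xe7 ye55 ze30) (ke xe24 ye44 ze38) (ke xe8 ye40 ze56) (ke xe20 ye27 ze47) (ke xe24 ye44 ze41) (ke xe21 ye31 ze27) (ke xe7 ye55 ze33) (ke xe8 ye41 ze3) (ke xe15 ye56 ze45) (ke xe17 ye36 ze32) (ke xe24 ye44 ze44) (ke xe7 ye55 ze36) (ke xe14 ye4 ze32) (ke xe24 ye44 ze48) (ke xe24 ye44 ze49) (ke xe7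 ye55 ze38) (ke xe17 ye44 ze40) (ke xe8 ye40 ze46) (ke xe24 ye44 ze58) (ke xe7 ye55 ze43) (ke xe8 ye41 ze29) (ke xe9 ye52 ze53) (ke xe19 ye0 ze35) (ke xe24 ye45 ze1) (ke xe7 ye55 ze46) (ke xe24 ye45 ze2) (ke xe7 ye55 ze48) (ke xe15 ye57 ze4) (ke xe17 ye36 ze48) (ke xe24 ye45 ze3) (ke xe17 ye36 ze43) (ke xe17 ye39 ze32) (ke xe7 ye55 ze51) (ke xe17 ye54 ze41) (ke xe8 ye41 ze61) (ke xe16 ye1 ze22) (ke xe18 ye4 ze34) (ke xe24 ye45 ze6) (ke xe24 ye45 ze8) (ke xe7 ye55 ze53) (ke xe7 ye55 ze54) (ke xe18 ye28 ze40) (ke xe8 ye41 ze52) (ke xe24 ye45 ze12) (ke xe24 ye45 ze15) (ke xe24 ye45 ze17) (ke xe24 ye45 ze21) (ke xe7 ye55 ze56) (ke xe24 ye45 ze26) (ke xe12 ye19 ze51) (ke xe21 ye10 ze14) (ke xe7 ye55 ze57) (ke xe24 ye45 ze29) (ke xe9 ye53 ze51) (ke xe15 ye11 ze33) (ke xe7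 ye55 ze59) (ke xe7 ye55 ze60)) (@D3.rec (fun _ => Pt) (ke xe18 ye28 ze43) (ke xe24 ye45 ze39) (ke xe8 ye45 ze10) (ke xe8 ye45 ze9) (ke xe20 ye56 ze45) (ke xe10 ye37 ze32) (ke xe7 ye56 ze1) (ke xe8 ye8 ze4) (ke xe7 ye56 ze2) (ke xe7 ye56 ze3) (ke xe7 ye56 ze5) (ke xe15 ye42 ze51) (ke xe24 ye45 ze47) (ke xe8 ye43 ze14) (ke xe24 ye45 ze49) (ke xe17 ye38 ze45) (ke xe22 ye14 ze49) (ke xe7 ye56 ze8) (ke xe15 ye9 ze49) (ke xe8 ye43 ze20) (ke xe7 ye56 ze10) (ke xe18 ye36 ze3) (ke xe24 ye45 ze50) (ke xe7 ye56 ze15) (ke xe24 ye45 ze52) (ke xe24 ye45 ze55) (ke xe7 ye56 ze17) (ke xe8 ye43 ze33) (ke xe24 ye45 ze56) (ke xe18 ye21 ze51) (ke xe24 ye45 ze59) (ke xe24 ye45 ze61) (ke xe8 ye43 ze59) (ke xe24 ye46 ze0) (ke xe7 ye56 ze20) (ke xe24 ye46 ze1) (ke xe24 ye46 ze2) (ke xe8 ye44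 ze14) (ke xe24 ye46 ze3) (ke xe8 ye51 ze8) (ke xe8 ye44 ze3) (ke xe13 ye41 ze40) (ke xe18 ye48 ze60) (ke xe7 ye56 ze24) (ke xe24 ye46 ze10) (ke xe7 ye56 ze25) (ke xe22 ye29 ze16) (ke xe24 ye46 ze13) (ke xe7 ye56 ze26) (ke xe18 ye47 ze49) (ke xe13 ye18 ze27) (ke xe24 ye46 ze15) (ke xe24 ye46 ze17) (ke xe7 ye56 ze27) (ke xe24 ye46 ze22) (ke xe16 ye35 ze11) (ke xe10 ye29 ze55) (ke xe24 ye46 ze25) (ke xe7 ye56 ze29) (ke xe24 ye46 ze28) (ke xe24 ye46 ze29) (ke xe7 ye56 ze30)) (@D3.rec (fun _ => Pt) (ke xe24 ye46 ze33) (ke xe8 ye1 ze2) (ke xe8 ye45 ze2) (ke xe24 ye46 ze36) (ke xe7 ye56 ze32) (ke xe13 ye41 ze56) (ke xe8 ye52 ze41) (ke xe8 ye44 ze58) (ke xe18 ye28 ze11) (ke xe13 ye18 ze55) (ke xe18 ye30 ze21) (ke xe7 ye56 ze34) (ke xe9 ye53 ze46) (ke xe15 ye11 ze26) (ke xe8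 ye42 ze26) (ke xe8 ye42 ze23) (ke xe22 ye50 ze30) (ke xe24 ye46 ze53) (ke xe20 ye20 ze61) (ke xe7 ye56 ze36) (ke xe18 ye59 ze31) (ke xe18 ye59 ze32) (ke xe7 ye56 ze38) (ke xe18 ye19 ze25) (ke xe24 ye40 ze24) (ke xe16 ye26 ze9) (ke xe7 ye56 ze42) (ke xe24 ye46 ze58) (ke xe7 ye56 ze43) (ke xe13 ye15 ze36) (ke xe7 ye56 ze45) (ke xe24 ye46 ze61) (ke xe13 ye29 ze13) (ke xe7 ye56 ze46) (ke xe13 ye33 ze53) (ke xe7 ye56 ze50) (ke xe24 ye47 ze0) (ke xe7 ye56 ze51) (ke xe24 ye47 ze5) (ke xe8 ye47 ze9) (ke xe21 ye29 ze25) (ke xe18 ye18 ze47) (ke xe7 ye56 ze54) (ke xe7 ye56 ze59) (ke xe12 ye29 ze2) (ke xe21 ye53 ze58) (ke xe23 ye8 ze55) (ke xe8 ye48 ze25) (ke xe24 ye47 ze11) (ke xe7 ye57 ze0) (ke xe18 ye18 ze56) (ke xe7 ye57 ze1) (ke xe24 ye47 ze12) (ke xe7 ye57 ze4) (ke xe18 ye40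 ze53) (ke xe24 ye47 ze13) (ke xe7 ye57 ze6) (ke xe12 ye8 ze54) (ke xe20 ye30 ze53) (ke xe16 ye54 ze30) (ke xe7 ye57 ze8) (ke xe7 ye57 ze12))
def f_e_15 : D2 → D3 → Pt := @D2.rec (fun _ => D3 → Pt) (@D3.rec (fun _ => Pt) (ke xe7 ye57 ze13) (ke xe24 ye47 ze22) (ke xe20 ye6 ze23) (ke xe11 ye14 ze11) (ke xe7 ye57 ze16) (ke xe7 ye57 ze17) (ke xe24 ye47 ze25) (ke xe13 ye50 ze31) (ke xe7 ye57 ze20) (ke xe10 ye18 ze6) (ke xe10 ye58 ze40) (ke xe20 ye30 ze26) (ke xe11 ye13 ze19) (ke xe24 ye47 ze30) (ke xe24 ye29 ze5) (ke xe7 ye57 ze22) (ke xe14 ye44 ze30) (ke xe24 ye47 ze37) (ke xe24 ye47 ze39) (ke xe7 ye57 ze23) (ke xe16 ye32 ze9) (ke xe24 ye47 ze41) (ke xe22 ye42 ze23) (ke xe7 ye57 ze25) (ke xe24 ye47 ze45) (ke xe8 ye44 ze13) (ke xe18 ye6 ze41) (ke xe7 ye57 ze26) (ke xe11 ye13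 ze44) (ke xe8 ye51 ze25) (ke xe24 ye47 ze51) (ke xe19 ye59 ze41) (ke xe7 ye57 ze28) (ke xe19 ye59 ze42) (ke xe19 ye59 ze43) (ke xe24 ye47 ze60) (ke xe24 ye47 ze61) (ke xe7 ye57 ze31) (ke xe24 ye48 ze4) (ke xe24 ye48 ze5) (ke xe7 ye57 ze32) (ke xe24 ye48 ze8) (ke xe24 ye48 ze11) (ke xe9 ye39 ze53) (ke xe24 ye48 ze15) (ke xe24 ye48 ze17) (ke xe16 ye34 ze17) (ke xe7 ye57 ze34) (ke xe24 ye48 ze23) (ke xe23 ye50 ze51) (ke xe9 ye40 ze26) (ke xe18 ye15 ze7) (ke xe20 ye27 ze11) (ke xe7 ye57 ze36) (ke xe24 ye48 ze35) (ke xe24 ye33 ze22) (ke xe7 ye57 ze37) (ke xe24 ye48 ze38) (ke xe24 ye48 ze39) (ke xe7 ye57 ze39) (ke xe24 ye48 ze45) (ke xe24 ye48 ze46)) (@D3.rec (fun _ => Pt) (ke xe7 ye57 ze41) (ke xe18 ye9 ze0) (ke xe7 ye58 ze25) (ke xe24 ye48 ze47) (ke xe7 ye57 ze43) (ke xe16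 ye9 ze6) (ke xe7 ye58 ze17) (ke xe7 ye58 ze35) (ke xe24 ye48 ze58) (ke xe15 ye27 ze37) (ke xe24 ye49 ze1) (ke xe24 ye49 ze2) (ke xe7 ye57 ze46) (ke xe7 ye57 ze47) (ke xe24 ye49 ze8) (ke xe7 ye57 ze49) (ke xe9 ye41 ze52) (ke xe24 ye49 ze12) (ke xe7 ye57 ze51) (ke xe24 ye49 ze14) (ke xe16 ye8 ze47) (ke xe24 ye49 ze18) (ke xe24 ye49 ze19) (ke xe7 ye57 ze54) (ke xe11 ye6 ze4) (ke xe11 ye10 ze34) (ke xe11 ye5 ze4) (ke xe24 ye49 ze29) (ke xe24 ye49 ze30) (ke xe7 ye57 ze56) (ke xe24 ye49 ze36) (ke xe24 ye49 ze37) (ke xe7 ye57 ze57) (ke xe24 ye49 ze40) (ke xe22 ye7 ze50) (ke xe24 ye49 ze42) (ke xe17 ye49 ze58) (ke xe7 ye57 ze58) (ke xe24 ye49 ze48) (ke xe7 ye57 ze59) (ke xe15 ye28 ze7) (ke xe24 ye49 ze53) (ke xe24 ye49 ze50) (ke xe11 ye10 ze27) (ke xe15 ye28 ze11) (ke xe18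 ye11 ze46) (ke xe7 ye58 ze2) (ke xe8 ye11 ze31) (ke xe23 ye3 ze55) (ke xe24 ye50 ze4) (ke xe7 ye58 ze3) (ke xe8 ye17 ze16) (ke xe24 ye50 ze7) (ke xe24 ye50 ze9) (ke xe24 ye50 ze10) (ke xe24 ye50 ze13) (ke xe7 ye58 ze5) (ke xe7 ye58 ze6) (ke xe10 ye40 ze56) (ke xe10 ye35 ze44) (ke xe24 ye50 ze20) (ke xe11 ye5 ze59)) (@D3.rec (fun _ => Pt) (ke xe11 ye52 ze39) (ke xe10 ye41 ze4) (ke xe24 ye50 ze33) (ke xe7 ye58 ze11) (ke xe24 ye50 ze36) (ke xe15 ye28 ze31) (ke xe24 ye50 ze38) (ke xe10 ye15 ze42) (ke xe7 ye58 ze12) (ke xe24 ye50 ze42) (ke xe7 ye58 ze13) (ke xe15 ye28 ze55) (ke xe24 ye50 ze46) (ke xe24 ye48 ze51) (ke xe15 ye28 ze58) (ke xe9 ye42 ze19) (ke xe24 ye50 ze49) (ke xe7 ye58 ze16) (ke xe18 ye2 ze39) (ke xe15 ye28 ze48) (ke xe20 ye5 ze15) (ke xe24 ye39 ze57) (ke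 xe24 ye50 ze55) (ke xe7 ye58 ze19) (ke xe7 ye58 ze20) (ke xe24 ye51 ze4) (ke xe15 ye28 ze38) (ke xe24 ye51 ze0) (ke xe19 ye20 ze19) (ke xe24 ye51 ze11) (ke xe7 ye58 ze22) (ke xe15 ye28 ze42) (ke xe8 ye10 ze52) (ke xe24 ye51 ze16) (ke xe15 ye28 ze60) (ke xe24 ye51 ze17) (ke xe24 ye51 ze22) (ke xe7 ye58 ze26) (ke xe7 ye58 ze27) (ke xe24 ye51 ze26) (ke xe15 ye20 ze3) (ke xe10 ye11 ze14) (ke xe24 ye51 ze32) (ke xe24 ye51 ze34) (ke xe24 ye51 ze38) (ke xe7 ye58 ze29) (ke xe7 ye58 ze30) (ke xe24 ye51 ze44) (ke xe16 ye39 ze16) (ke xe24 ye51 ze50) (ke xe17 ye34 ze31) (ke xe7 ye58 ze32) (ke xe24 ye27 ze16) (ke xe20 ye5 ze8) (ke xe7 ye58 ze33) (ke xe24 ye48 ze52) (ke xe17 ye8 ze58) (ke xe24 ye51 ze54) (ke xe24 ye48 ze53) (ke xe24 ye51 ze58) (ke xe7 ye58 ze36) (ke xe24 ye51 ze61))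 (@D3.rec (fun _ => Pt) (ke xe7 ye58 ze37) (ke xe24 ye32 ze60) (ke xe7 ye58 ze38) (ke xe24 ye52 ze7) (ke xe24 ye52 ze8) (ke xe24 ye32 ze51) (ke xe7 ye58 ze40) (ke xe24 ye52 ze13) (ke xe24 ye52 ze16) (ke xe24 ye52 ze10) (ke xe24 ye52 ze18) (ke xe24 ye52 ze20) (ke xe7 ye58 ze42) (ke xe17 ye42 ze17) (ke xe7 ye58 ze44) (ke xe15 ye53 ze28) (ke xe24 ye52 ze27) (ke xe24 ye52 ze23) (ke xe9 ye43 ze52) (ke xe15 ye28 ze46) (ke xe15 ye18 ze22) (ke xe9 ye43 ze31) (ke xe24 ye52 ze30) (ke xe24 ye52 ze33) (ke xe7 ye58 ze47) (ke xe9 ye43 ze36) (ke xe15 ye30 ze8) (ke xe24 ye52 ze35) (ke xe7 ye58 ze54) (ke xe24 ye52 ze40) (ke xe24 ye52 ze44) (ke xe7 ye58 ze55) (ke xe24 ye52 ze45) (ke xe7 ye58 ze56) (ke xe9 ye1 ze47) (ke xe11 ye26 ze41) (ke xe7 ye58 ze58) (ke xe24 ye52 ze48) (ke xe24 ye52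 ze49) (ke xe7 ye58 ze59) (ke xe11 ye26 ze42) (ke xe9 ye46 ze26) (ke xe9 ye46 ze27) (ke xe9 ye45 ze59) (ke xe24 ye52 ze54) (ke xe7 ye59 ze2) (ke xe18 ye6 ze21) (ke xe16 ye19 ze54) (ke xe24 ye52 ze55) (ke xe24 ye52 ze56) (ke xe7 ye59 ze8) (ke xe24 ye52 ze59) (ke xe24 ye52 ze61) (ke xe10 ye29 ze25) (ke xe24 ye53 ze1) (ke xe7 ye59 ze15) (ke xe11 ye10 ze23) (ke xe7 ye59 ze17) (ke xe7 ye59 ze19) (ke xe11 ye12 ze43) (ke xe16 ye31 ze60) (ke xe7 ye59 ze22)) (@D3.rec (fun _ => Pt) (ke xe23 ye4 ze39) (ke xe22 ye18 ze15) (ke xe7 ye59 ze25) (ke xe9 ye31 ze14) (ke xe21 ye37 ze44) (ke xe11 ye12 ze6) (ke xe16 ye54 ze46) (ke xe14 ye7 ze61) (ke xe19 ye53 ze37) (ke xe7 ye59 ze31) (ke xe20 ye28 ze2) (ke xe24 ye53 ze11) (ke xe24 ye52 ze58) (ke xe7 ye59 ze33) (ke xe20 ye7 ze58) (ke xe20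 ye45 ze27) (ke xe17 ye21 ze51) (ke xe20 ye30 ze32) (ke xe14 ye7 ze59) (ke xe19 ye53 ze34) (ke xe10 ye48 ze20) (ke xe12 ye3 ze55) (ke xe24 ye52 ze57) (ke xe20 ye25 ze5) (ke xe7 ye59 ze41) (ke xe11 ye24 ze29) (ke xe23 ye30 ze44) (ke xe24 ye53 ze17) (ke xe16 ye55 ze49) (ke xe7 ye59 ze43) (ke xe7 ye59 ze44) (ke xe24 ye53 ze7) (ke xe14 ye8 ze0) (ke xe11 ye7 ze38) (ke xe20 ye20 ze47) (ke xe18 ye25 ze10) (ke xe12 ye56 ze35) (ke xe7 ye59 ze53) (ke xe23 ye10 ze44) (ke xe7 ye59 ze55) (ke xe21 ye15 ze23) (ke xe7 ye59 ze61) (ke xe13 ye18 ze7) (ke xe24 ye53 ze23) (ke xe20 ye1 ze12) (ke xe20 ye22 ze45) (ke xe8 ye0 ze5) (ke xe21 ye30 ze8) (ke xe8 ye0 ze8) (ke xe24 ye53 ze24) (ke xe16 ye43 ze59) (ke xe24 ye53 ze26) (ke xe24 ye53 ze27) (ke xe16 ye56 ze25) (ke xe20 ye18 ze34) (ke xe9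 ye30 ze12) (ke xe19 ye27 ze45) (ke xe8 ye0 ze19) (ke xe8 ye0 ze18) (ke xe24 ye53 ze31) (ke xe14 ye15 ze40) (ke xe8 ye0 ze20)) (@D3.rec (fun _ => Pt) (ke xe8 ye0 ze50) (ke xe12 ye56 ze24) (ke xe21 ye23 ze3) (ke xe20 ye26 ze6) (ke xe8 ye0 ze39) (ke xe8 ye0 ze42) (ke xe10 ye17 ze52) (ke xe8 ye0 ze27) (ke xe10 ye43 ze14) (ke xe19 ye43 ze10) (ke xe11 ye24 ze41) (ke xe8 ye0 ze30) (ke xe8 ye0 ze31) (ke xe8 ye0 ze33) (ke xe8 ye0 ze34) (ke xe9 ye8 ze1) (ke xe8 ye0 ze37) (ke xe12 ye56 ze30) (ke xe20 ye49 ze12) (ke xe8 ye0 ze40) (ke xe20 ye0 ze7) (ke xe20 ye8 ze33) (ke xe14 ye46 ze31) (ke xe12 ye54 ze1) (ke xe19 ye27 ze53) (ke xe11 ye21 ze1) (ke xe8 ye0 ze45) (ke xe11 ye11 ze61) (ke xe9 ye1 ze53) (ke xe14 ye20 ze12) (ke xe20 ye0 ze23) (ke xe11 ye14 ze9) (ke xe17 ye4 ze35) (ke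 xe24 ye53 ze40) (ke xe8 ye0 ze52) (ke xe9 ye32 ze2) (ke xe18 ye13 ze2) (ke xe8 ye0 ze53) (ke xe19 ye43 ze59) (ke xe9 ye1 ze48) (ke xe12 ye57 ze39) (ke xe11 ye12 ze24) (ke xe12 ye10 ze33) (ke xe11 ye23 ze0) (ke xe19 ye45 ze44) (ke xe21 ye29 ze58) (ke xe24 ye53 ze49) (ke xe8 ye1 ze5) (ke xe24 ye53 ze54) (ke xe10 ye26 ze41) (ke xe18 ye49 ze30) (ke xe24 ye53 ze57) (ke xe8 ye1 ze7) (ke xe24 ye54 ze0) (ke xe24 ye54 ze3) (ke xe18 ye4 ze54) (ke xe8 ye1 ze8) (ke xe15 ye7 ze3) (ke xe15 ye7 ze2) (ke xe24 ye54 ze6) (ke xe16 ye25 ze43) (ke xe8 ye1 ze10)) (@D3.rec (fun _ => Pt) (ke xe10 ye12 ze60) (ke xe8 ye45 ze29) (ke xe8 ye1 ze11) (ke xe8 ye1 ze12) (ke xe24 ye54 ze9) (ke xe23 ye6 ze9) (ke xe8 ye46 ze31) (ke xe16 ye26 ze39) (ke xe24 ye54 ze12) (ke xe8 ye1 ze15) (ke xe24 ye54 ze14)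 (ke xe16 ye25 ze44) (ke xe24 ye54 ze15) (ke xe24 ye54 ze17) (ke xe11 ye4 ze13) (ke xe21 ye11 ze39) (ke xe24 ye54 ze21) (ke xe18 ye38 ze58) (ke xe8 ye1 ze18) (ke xe21 ye53 ze36) (ke xe24 ye54 ze27) (ke xe8 ye1 ze19) (ke xe21 ye44 ze20) (ke xe18 ye49 ze34) (ke xe8 ye1 ze21) (ke xe24 ye54 ze34) (ke xe9 ye45 ze8) (ke xe18 ye27 ze13) (ke xe8 ye1 ze22) (ke xe16 ye24 ze39) (ke xe20 ye6 ze1) (ke xe24 ye30 ze34) (ke xe24 ye54 ze40) (ke xe8 ye1 ze24) (ke xe24 ye54 ze42) (ke xe8 ye1 ze25) (ke xe16 ye24 ze12) (ke xe24 ye54 ze43) (ke xe15 ye8 ze38) (ke xe8 ye1 ze27) (ke xe17 ye39 ze34) (ke xe19 ye57 ze34) (ke xe9 ye37 ze57) (ke xe8 ye38 ze1) (ke xe16 ye1 ze7) (ke xe9 ye37 ze45) (ke xe9 ye52 ze40) (ke xe24 ye54 ze50) (ke xe21 ye58 ze37) (ke xe15 ye48 ze60) (ke xe23 ye49 ze54) (ke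 xe8 ye1 ze34) (ke xe23 ye37 ze48) (ke xe24 ye54 ze61) (ke xe24 ye55 ze1) (ke xe24 ye55 ze3) (ke xe8 ye1 ze35) (ke xe24 ye55 ze5) (ke xe22 ye35 ze9) (ke xe24 ye55 ze9) (ke xe24 ye55 ze13) (ke xe8 ye1 ze37)) (@D3.rec (fun _ => Pt) (ke xe22 ye18 ze50) (ke xe24 ye55 ze20) (ke xe15 ye5 ze58) (ke xe15 ye5 ze57) (ke xe15 ye13 ze15) (ke xe24 ye55 ze22) (ke xe18 ye58 ze33) (ke xe18 ye38 ze43) (ke xe24 ye55 ze29) (ke xe8 ye1 ze47) (ke xe14 ye25 ze31) (ke xe13 ye39 ze26) (ke xe24 ye55 ze33) (ke xe8 ye1 ze50) (ke xe24 ye55 ze35) (ke xe24 ye55 ze37) (ke xe24 ye55 ze41) (ke xe8 ye1 ze52) (ke xe24 ye55 ze45) (ke xe24 ye55 ze50) (ke xe8 ye1 ze53) (ke xe24 ye55 ze55) (ke xe8 ye1 ze54) (ke xe24 ye55 ze61) (ke xe24 ye56 ze2) (ke xe24 ye56 ze6) (ke xe24 ye56 ze9) (ke xe8 ye1 ze55) (ke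 xe24 ye56 ze13) (ke xe23 ye42 ze35) (ke xe19 ye1 ze13) (ke xe24 ye56 ze16) (ke xe8 ye1 ze57) (ke xe24 ye56 ze18) (ke xe24 ye56 ze22) (ke xe24 ye56 ze25) (ke xe24 ye56 ze26) (ke xe8 ye1 ze59) (ke xe9 ye38 ze35) (ke xe9 ye38 ze32) (ke xe9 ye58 ze60) (ke xe21 ye12 ze34) (ke xe8 ye1 ze61) (ke xe9 ye40 ze5) (ke xe8 ye2 ze0) (ke xe8 ye2 ze1) (ke xe24 ye56 ze38) (ke xe24 ye56 ze41) (ke xe8 ye2 ze3) (ke xe24 ye47 ze8) (ke xe8 ye2 ze5) (ke xe8 ye2 ze8) (ke xe8 ye2 ze9) (ke xe8 ye2 ze11) (ke xe8 ye2 ze12) (ke xe24 ye56 ze46) (ke xe8 ye2 ze16) (ke xe23 ye3 ze15) (ke xe24 ye56 ze48) (ke xe8 ye44 ze6) (ke xe20 ye25 ze51) (ke xe8 ye49 ze0)) (@D3.rec (fun _ => Pt) (ke xe8 ye2 ze20) (ke xe19 ye37 ze33) (ke xe22 ye23 ze22) (ke xe8 ye2 ze22) (ke xe24 ye56 ze54) (ke xe17 ye53 ze36) (ke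 xe20 ye25 ze19) (ke xe10 ye59 ze16) (ke xe12 ye22 ze27) (ke xe8 ye2 ze25) (ke xe24 ye46 ze59) (ke xe18 ye23 ze51) (ke xe24 ye57 ze2) (ke xe8 ye2 ze27) (ke xe20 ye0 ze43) (ke xe17 ye53 ze30) (ke xe24 ye57 ze5) (ke xe8 ye2 ze28) (ke xe8 ye2 ze29) (ke xe10 ye57 ze2) (ke xe8 ye2 ze31) (ke xe24 ye57 ze10) (ke xe24 ye55 ze52) (ke xe24 ye57 ze8) (ke xe13 ye28 ze41) (ke xe24 ye57 ze17) (ke xe8 ye2 ze42) (ke xe24 ye56 ze35) (ke xe16 ye32 ze52) (ke xe24 ye57 ze22) (ke xe24 ye57 ze25) (ke xe24 ye57 ze26) (ke xe8 ye2 ze34) (ke xe24 ye57 ze30) (ke xe8 ye43 ze58) (ke xe18 ye6 ze36) (ke xe8 ye2 ze35) (ke xe12 ye22 ze35) (ke xe15 ye6 ze38) (ke xe11 ye37 ze25) (ke xe24 ye57 ze36) (ke xe20 ye15 ze60) (ke xe24 ye57 ze38) (ke xe8 ye2 ze37) (ke xe19 ye59 ze38) (ke xe8 ye2 ze38) (ke xe16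 ye32 ze59) (ke xe24 ye57 ze42) (ke xe12 ye22 ze41) (ke xe24 ye57 ze44) (ke xe8 ye2 ze40) (ke xe18 ye56 ze16) (ke xe8 ye2 ze41) (ke xe24 ye57 ze18) (ke xe19 ye15 ze6) (ke xe10 ye38 ze42) (ke xe21 ye50 ze27) (ke xe21 ye8 ze1) (ke xe16 ye13 ze27) (ke xe9 ye59 ze1) (ke xe8 ye2 ze45) (ke xe19 ye37 ze60)) (@D3.rec (fun _ => Pt) (ke xe8 ye2 ze46) (ke xe15 ye22 ze0) (ke xe8 ye6 ze47) (ke xe16 ye8 ze26) (ke xe24 ye57 ze60) (ke xe24 ye58 ze3) (ke xe8 ye3 ze5) (ke xe15 ye21 ze44) (ke xe15 ye21 ze41) (ke xe10 ye35 ze14) (ke xe8 ye8 ze39) (ke xe17 ye36 ze0) (ke xe24 ye58 ze9) (ke xe8 ye2 ze54) (ke xe8 ye36 ze51) (ke xe8 ye8 ze47) (ke xe10 ye54 ze13) (ke xe8 ye5 ze39) (ke xe8 ye2 ze57) (ke xe9 ye52 ze29) (ke xe10 ye16 ze3) (ke xe16 ye2 ze24) (ke xe21 ye16 ze60) (ke xe24 ye58 ze21)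 (ke xe8 ye2 ze60) (ke xe20 ye4 ze1) (ke xe15 ye26 ze1) (ke xe9 ye37 ze36) (ke xe8 ye8 ze23) (ke xe8 ye3 ze0) (ke xe24 ye58 ze32) (ke xe16 ye14 ze4) (ke xe8 ye3 ze3) (ke xe24 ye58 ze41) (ke xe24 ye18 ze3) (ke xe8 ye3 ze4) (ke xe19 ye6 ze28) (ke xe15 ye16 ze6) (ke xe8 ye3 ze6) (ke xe8 ye36 ze44) (ke xe8 ye3 ze7) (ke xe15 ye19 ze52) (ke xe17 ye54 ze16) (ke xe24 ye54 ze60) (ke xe23 ye50 ze61) (ke xe8 ye3 ze9) (ke xe16 ye16 ze53) (ke xe15 ye12 ze47) (ke xe10 ye27 ze53) (ke xe14 ye58 ze18) (ke xe24 ye58 ze54) (ke xe8 ye3 ze12) (ke xe8 ye3 ze15) (ke xe8 ye3 ze16) (ke xe17 ye38 ze13) (ke xe22 ye42 ze6) (ke xe9 ye38 ze11) (ke xe24 ye59 ze2) (ke xe24 ye59 ze3) (ke xe8 ye3 ze18) (ke xe18 ye30 ze3) (ke xe15 ye12 ze37)) (@D3.rec (fun _ => Pt) (ke xe18 ye4 ze55) (ke xe8 ye3 ze20)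 (ke xe24 ye59 ze9) (ke xe8 ye3 ze23) (ke xe24 ye59 ze16) (ke xe24 ye59 ze19) (ke xe15 ye12 ze41) (ke xe13 ye44 ze54) (ke xe8 ye3 ze27) (ke xe24 ye59 ze22) (ke xe24 ye59 ze24) (ke xe15 ye13 ze0) (ke xe20 ye32 ze3) (ke xe16 ye33 ze11) (ke xe8 ye3 ze33) (ke xe15 ye12 ze58) (ke xe24 ye59 ze31) (ke xe22 ye46 ze13) (ke xe8 ye3 ze34) (ke xe24 ye59 ze37) (ke xe24 ye59 ze38) (ke xe15 ye13 ze11) (ke xe23 ye14 ze36) (ke xe24 ye59 ze40) (ke xe24 ye59 ze41) (ke xe24 ye59 ze42) (ke xe8 ye3 ze40) (ke xe24 ye59 ze44) (ke xe16 ye25 ze47) (ke xe21 ye13 ze0) (ke xe8 ye3 ze43) (ke xe15 ye13 ze7) (ke xe14 ye4 ze12) (ke xe8 ye3 ze44) (ke xe23 ye25 ze42) (ke xe24 ye59 ze56) (ke xe16 ye12 ze11) (ke xe20 ye0 ze35) (ke xe8 ye3 ze46) (ke xe16 ye20 ze32) (ke xe23 ye14 ze31) (ke xe15 ye13 ze51)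 (ke xe24 ye59 ze58) (ke xe8 ye3 ze48) (ke xe23 ye18 ze2) (ke xe15 ye13 ze47) (ke xe23 ye45 ze6) (ke xe15 ye12 ze21) (ke xe14 ye8 ze20) (ke xe8 ye3 ze50) (ke xe14 ye9 ze35) (ke xe16 ye16 ze58) (ke xe15 ye12 ze28) (ke xe15 ye12 ze27) (ke xe23 ye32 ze46) (ke xe23 ye32 ze47) (ke xe23 ye18 ze12) (ke xe16 ye17 ze1) (ke xe8 ye3 ze53) (ke xe8 ye3 ze54) (ke xe23 ye3 ze17) (ke xe23 ye18 ze5)) (@D3.rec (fun _ => Pt) (ke xe8 ye3 ze56) (ke xe8 ye3 ze57) (ke xe17 ye39 ze41) (ke xe25 ye0 ze13) (ke xe10 ye7 ze58) (ke xe15 ye54 ze2) (ke xe17 ye54 ze42) (ke xe10 ye7 ze49) (ke xe8 ye3 ze61) (ke xe8 ye3 ze60) (ke xe10 ye8 ze5) (ke xe25 ye0 ze17) (ke xe8 ye4 ze1) (ke xe8 ye42 ze9) (ke xe14 ye35 ze11) (ke xe24 ye29 ze33) (ke xe25 ye0 ze23) (ke xe8 ye4 ze3) (ke xe8 ye4 ze4) (ke xe25 ye0 ze25)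 (ke xe10 ye7 ze50) (ke xe18 ye4 ze40) (ke xe11 ye2 ze43) (ke xe17 ye45 ze38) (ke xe16 ye21 ze51) (ke xe10 ye8 ze38) (ke xe14 ye59 ze13) (ke xe18 ye3 ze30) (ke xe16 ye18 ze33) (ke xe25 ye0 ze34) (ke xe8 ye4 ze10) (ke xe8 ye4 ze11) (ke xe17 ye38 ze17) (ke xe14 ye57 ze59) (ke xe25 ye0 ze36) (ke xe10 ye8 ze46) (ke xe24 ye56 ze20) (ke xe8 ye4 ze13) (ke xe25 ye0 ze46) (ke xe15 ye30 ze58) (ke xe10 ye8 ze19) (ke xe17 ye38 ze18) (ke xe25 ye0 ze48) (ke xe21 ye4 ze34) (ke xe23 ye44 ze37) (ke xe8 ye4 ze16) (ke xe8 ye4 ze17) (ke xe24 ye56 ze0) (ke xe18 ye3 ze35) (ke xe10 ye8 ze31) (ke xe8 ye4 ze19) (ke xe16 ye23 ze19) (ke xe18 ye3 ze42) (ke xe24 ye15 ze32) (ke xe15 ye50 ze30) (ke xe8 ye4 ze21) (ke xe8 ye4 ze22) (ke xe15 ye14 ze44) (ke xe10 ye9 ze1) (ke xe18 ye3 ze49) (ke xe25 ye0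 ze35) (ke xe22 ye8 ze43)) (@D3.rec (fun _ => Pt) (ke xe15 ye14 ze59) (ke xe8 ye4 ze24) (ke xe8 ye4 ze25) (ke xe10 ye8 ze56) (ke xe24 ye56 ze27) (ke xe25 ye0 ze60) (ke xe16 ye22 ze61) (ke xe25 ye1 ze4) (ke xe25 ye1 ze6) (ke xe8 ye4 ze27) (ke xe25 ye1 ze9) (ke xe25 ye1 ze11) (ke xe23 ye51 ze56) (ke xe23 ye20 ze59) (ke xe8 ye4 ze28) (ke xe25 ye1 ze16) (ke xe25 ye1 ze17) (ke xe23 ye43 ze57) (ke xe13 ye13 ze54) (ke xe8 ye4 ze30) (ke xe8 ye4 ze31) (ke xe15 ye10 ze47) (ke xe8 ye4 ze32) (ke xe25 ye1 ze21) (ke xe8 ye4 ze33) (ke xe13 ye51 ze16) (ke xe18 ye26 ze55) (ke xe15 ye10 ze53) (ke xe15 ye10 ze52) (ke xe15 ye14 ze61) (ke xe18 ye21 ze38) (ke xe8 ye8 ze32) (ke xe25 ye1 ze30) (ke xe17 ye44 ze2) (ke xe25 ye1 ze32) (ke xe8 ye4 ze37) (ke xe16 ye20 ze50) (ke xe15 ye9 ze61) (ke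 xe8 ye4 ze40) (ke xe16 ye22 ze50) (ke xe13 ye51 ze14) (ke xe15 ye10 ze6) (ke xe25 ye1 ze40) (ke xe16 ye20 ze10) (ke xe25 ye1 ze43) (ke xe8 ye4 ze44) (ke xe25 ye1 ze24) (ke xe15 ye9 ze47) (ke xe10 ye39 ze39) (ke xe8 ye4 ze46) (ke xe13 ye51 ze22) (ke xe18 ye19 ze13) (ke xe8 ye4 ze49) (ke xe25 ye1 ze54) (ke xe25 ye1 ze56) (ke xe14 ye45 ze34) (ke xe23 ye21 ze0) (ke xe25 ye1 ze57) (ke xe15 ye10 ze15) (ke xe19 ye59 ze37) (ke xe25 ye1 ze59) (ke xe18 ye29 ze58)) (@D3.rec (fun _ => Pt) (ke xe15 ye10 ze11) (ke xe13 ye49 ze38) (ke xe23 ye17 ze14) (ke xe23 ye17 ze53) (ke xe8 ye4 ze56) (ke xe25 ye2 ze1) (ke xe25 ye2 ze3) (ke xe15 ye10 ze31) (ke xe25 ye2 ze6) (ke xe21 ye29 ze31) (ke xe8 ye4 ze59) (ke xe15 ye10 ze21) (ke xe25 ye2 ze9) (ke xe24 ye55 ze57) (ke xe25 ye2 ze13) (ke xe15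 ye7 ze4) (ke xe25 ye2 ze14) (ke xe8 ye5 ze0) (ke xe25 ye2 ze18) (ke xe8 ye5 ze1) (ke xe25 ye2 ze22) (ke xe8 ye5 ze3) (ke xe11 ye34 ze43) (ke xe25 ye2 ze23) (ke xe25 ye2 ze26) (ke xe8 ye5 ze6) (ke xe8 ye10 ze26) (ke xe13 ye59 ze16) (ke xe14 ye0 ze8) (ke xe8 ye5 ze8) (ke xe25 ye2 ze36) (ke xe8 ye5 ze9) (ke xe23 ye35 ze10) (ke xe8 ye5 ze10) (ke xe22 ye28 ze9) (ke xe24 ye42 ze50) (ke xe8 ye5 ze11) (ke xe25 ye2 ze42) (ke xe13 ye55 ze5) (ke xe25 ye2 ze44) (ke xe25 ye2 ze45) (ke xe8 ye5 ze13) (ke xe25 ye2 ze47) (ke xe24 ye31 ze35) (ke xe8 ye5 ze15) (ke xe17 ye54 ze35) (ke xe13 ye49 ze6) (ke xe15 ye10 ze45) (ke xe8 ye5 ze17) (ke xe25 ye2 ze53) (ke xe14 ye0 ze16) (ke xe15 ye10 ze41) (ke xe25 ye2 ze55) (ke xe21 ye25 ze32) (ke xe23 ye42 ze50) (ke xe8 ye5 ze19) (ke xe16 ye17 ze44)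 (ke xe17 ye43 ze35) (ke xe10 ye9 ze28) (ke xe10 ye9 ze25) (ke xe25 ye3 ze3) (ke xe25 ye3 ze5)) (@D3.rec (fun _ => Pt) (ke xe8 ye5 ze21) (ke xe25 ye3 ze7) (ke xe17 ye38 ze11) (ke xe8 ye5 ze22) (ke xe8 ye5 ze23) (ke xe13 ye46 ze61) (ke xe25 ye3 ze12) (ke xe8 ye5 ze25) (ke xe10 ye28 ze0) (ke xe15 ye20 ze26) (ke xe8 ye5 ze27) (ke xe8 ye5 ze29) (ke xe24 ye56 ze11) (ke xe25 ye1 ze18) (ke xe25 ye3 ze17) (ke xe25 ye3 ze18) (ke xe8 ye5 ze32) (ke xe25 ye3 ze22) (ke xe25 ye3 ze24) (ke xe24 ye55 ze56) (ke xe8 ye5 ze33) (ke xe14 ye5 ze7) (ke xe8 ye5 ze36) (ke xe25 ye3 ze29) (ke xe25 ye3 ze31) (ke xe15 ye50 ze32) (ke xe10 ye8 ze52) (ke xe18 ye21 ze37) (ke xe10 ye16 ze0) (ke xe8 ye5 ze40) (ke xe25 ye3 ze39) (ke xe8 ye5 ze41) (ke xe10 ye29 ze16) (ke xe25 ye3 ze42) (ke xe25 ye3 ze45)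 (ke xe8 ye5 ze56) (ke xe15 ye34 ze50) (ke xe18 ye29 ze2) (ke xe16 ye15 ze18) (ke xe8 ye5 ze45) (ke xe8 ye5 ze46) (ke xe15 ye37 ze47) (ke xe8 ye5 ze49) (ke xe8 ye5 ze51) (ke xe15 ye11 ze57) (ke xe24 ye46 ze55) (ke xe25 ye3 ze53) (ke xe18 ye29 ze59) (ke xe8 ye5 ze54) (ke xe11 ye59 ze56) (ke xe25 ye3 ze56) (ke xe13 ye37 ze24) (ke xe8 ye5 ze55) (ke xe16 ye8 ze7) (ke xe25 ye3 ze59) (ke xe25 ye3 ze61) (ke xe8 ye5 ze57) (ke xe23 ye14 ze32) (ke xe25 ye0 ze6) (ke xe15 ye12 ze0) (ke xe15 ye16 ze33) (ke xe15 ye12 ze29)) (@D3.rec (fun _ => Pt) (ke xe8 ye6 ze0) (ke xe25 ye4 ze6) (ke xe8 ye6 ze1) (ke xe15 ye51 ze19) (ke xe10 ye50 ze6) (ke xe25 ye4 ze9) (ke xe25 ye4 ze11) (ke xe13 ye43 ze20) (ke xe15 ye40 ze61) (ke xe19 ye53 ze44) (ke xe15 ye41 ze0) (ke xe25 ye4 ze16) (ke xe15 ye31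 ze20) (ke xe24 ye34 ze57) (ke xe25 ye4 ze21) (ke xe8 ye6 ze8) (ke xe8 ye6 ze9) (ke xe10 ye44 ze40) (ke xe17 ye22 ze12) (ke xe25 ye4 ze23) (ke xe10 ye56 ze2) (ke xe10 ye44 ze45) (ke xe10 ye53 ze36) (ke xe17 ye22 ze8) (ke xe8 ye6 ze12) (ke xe25 ye4 ze36) (ke xe15 ye31 ze30) (ke xe25 ye4 ze40) (ke xe25 ye4 ze44) (ke xe8 ye6 ze14) (ke xe8 ye6 ze15) (ke xe25 ye4 ze51) (ke xe10 ye56 ze45) (ke xe15 ye31 ze33) (ke xe24 ye15 ze42) (ke xe25 ye4 ze59) (ke xe8 ye6 ze18) (ke xe25 ye5 ze0) (ke xe25 ye5 ze5) (ke xe25 ye5 ze7) (ke xe15 ye53 ze55) (ke xe25 ye5 ze10) (ke xe25 ye5 ze12) (ke xe8 ye6 ze20) (ke xe25 ye5 ze15) (ke xe25 ye5 ze20) (ke xe25 ye5 ze22) (ke xe22 ye56 ze52) (ke xe8 ye6 ze21) (ke xe25 ye5 ze27) (ke xe25 ye5 ze28) (ke xe22 ye54 ze39) (ke xe8 ye6 ze24) (ke xe25 ye5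 ze34) (ke xe8 ye6 ze25) (ke xe25 ye5 ze39) (ke xe8 ye6 ze26) (ke xe17 ye36 ze4) (ke xe8 ye6 ze27) (ke xe15 ye46 ze57) (ke xe25 ye5 ze47) (ke xe8 ye6 ze29)) (@D3.rec (fun _ => Pt) (ke xe22 ye2 ze47) (ke xe25 ye5 ze54) (ke xe25 ye5 ze50) (ke xe12 ye58 ze29) (ke xe10 ye47 ze39) (ke xe8 ye6 ze31) (ke xe15 ye9 ze37) (ke xe8 ye7 ze24) (ke xe15 ye23 ze16) (ke xe25 ye6 ze3) (ke xe25 ye6 ze6) (ke xe16 ye8 ze18) (ke xe25 ye6 ze9) (ke xe15 ye56 ze57) (ke xe8 ye6 ze34) (ke xe8 ye6 ze35) (ke xe8 ye7 ze32) (ke xe25 ye6 ze16) (ke xe25 ye6 ze14) (ke xe15 ye22 ze25) (ke xe8 ye6 ze38) (ke xe19 ye58 ze13) (ke xe25 ye6 ze20) (ke xe15 ye41 ze52) (ke xe11 ye52 ze47) (ke xe19 ye38 ze5) (ke xe25 ye6 ze24) (ke xe25 ye6 ze25) (ke xe9 ye15 ze55) (ke xe8 ye6 ze42) (ke xe8 ye6 ze43) (ke xe25 ye6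 ze29) (ke xe11 ye9 ze7) (ke xe15 ye14 ze60) (ke xe10 ye16 ze1) (ke xe8 ye6 ze48) (ke xe21 ye16 ze58) (ke xe8 ye8 ze17) (ke xe8 ye6 ze49) (ke xe8 ye8 ze45) (ke xe20 ye3 ze60) (ke xe15 ye52 ze21) (ke xe17 ye36 ze5) (ke xe8 ye8 ze51) (ke xe8 ye8 ze52) (ke xe16 ye12 ze28) (ke xe24 ye11 ze24) (ke xe8 ye6 ze53) (ke xe8 ye8 ze40) (ke xe25 ye6 ze52) (ke xe25 ye6 ze53) (ke xe8 ye19 ze40) (ke xe8 ye6 ze55) (ke xe8 ye6 ze56) (ke xe25 ye5 ze45) (ke xe16 ye16 ze1) (ke xe25 ye6 ze58) (ke xe8 ye6 ze58) (ke xe8 ye8 ze24) (ke xe8 ye8 ze25) (ke xe25 ye6 ze60) (ke xe25 ye7 ze0)) (@D3.rec (fun _ => Pt) (ke xe8 ye6 ze61) (ke xe25 ye7 ze3) (ke xe11 ye4 ze29) (ke xe8 ye8 ze60) (ke xe25 ye7 ze9) (ke xe16 ye17 ze6) (ke xe8 ye7 ze2) (ke xe25 ye7 ze12) (ke xe25 ye7 ze14) (ke xe22 ye2 ze19) (ke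 xe25 ye7 ze18) (ke xe22 ye2 ze16) (ke xe15 ye59 ze35) (ke xe8 ye7 ze4) (ke xe22 ye52 ze41) (ke xe25 ye7 ze26) (ke xe20 ye49 ze48) (ke xe8 ye18 ze37) (ke xe8 ye7 ze5) (ke xe25 ye7 ze28) (ke xe12 ye59 ze24) (ke xe25 ye7 ze31) (ke xe8 ye7 ze7) (ke xe8 ye7 ze8) (ke xe25 ye7 ze35) (ke xe8 ye7 ze9) (ke xe21 ye59 ze2) (ke xe8 ye7 ze10) (ke xe25 ye7 ze49) (ke xe25 ye7 ze52) (ke xe21 ye46 ze25) (ke xe21 ye46 ze24) (ke xe20 ye56 ze39) (ke xe25 ye7 ze59) (ke xe8 ye7 ze15) (ke xe25 ye8 ze0) (ke xe20 ye56 ze23) (ke xe25 ye8 ze2) (ke xe25 ye8 ze6) (ke xe8 ye7 ze16) (ke xe25 ye8 ze12) (ke xe8 ye7 ze17) (ke xe10 ye40 ze14) (ke xe25 ye8 ze15) (ke xe8 ye54 ze4) (ke xe25 ye8 ze20) (ke xe8 ye7 ze21) (ke xe20 ye2 ze9) (ke xe18 ye33 ze54) (ke xe11 ye9 ze6) (ke xe11 ye9 ze1) (ke xe15 ye22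 ze4) (ke xe8 ye18 ze36) (ke xe25 ye8 ze33) (ke xe24 ye11 ze22) (ke xe25 ye8 ze36) (ke xe8 ye7 ze26) (ke xe15 ye52 ze40) (ke xe11 ye9 ze0) (ke xe25 ye8 ze49) (ke xe8 ye7 ze28) (ke xe21 ye43 ze15)) (@D3.rec (fun _ => Pt) (ke xe25 ye8 ze55) (ke xe8 ye7 ze29) (ke xe8 ye7 ze30) (ke xe9 ye28 ze55) (ke xe15 ye20 ze11) (ke xe16 ye8 ze20) (ke xe24 ye16 ze13) (ke xe8 ye47 ze35) (ke xe19 ye16 ze15) (ke xe25 ye8 ze61) (ke xe8 ye7 ze33) (ke xe25 ye9 ze2) (ke xe16 ye26 ze45) (ke xe25 ye9 ze4) (ke xe21 ye1 ze57) (ke xe9 ye47 ze13) (ke xe8 ye7 ze37) (ke xe25 ye9 ze7) (ke xe25 ye9 ze8) (ke xe8 ye7 ze38) (ke xe8 ye7 ze40) (ke xe25 ye9 ze11) (ke xe15 ye3 ze20) (ke xe8 ye7 ze44) (ke xe16 ye10 ze1) (ke xe10 ye39 ze40) (ke xe14 ye36 ze46) (ke xe14 ye45 ze60) (ke xe18 ye53 ze50) (ke xe8 ye53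 ze20) (ke xe18 ye53 ze49) (ke xe10 ye46 ze35) (ke xe25 ye9 ze15) (ke xe25 ye9 ze17) (ke xe19 ye38 ze6) (ke xe25 ye9 ze21) (ke xe8 ye7 ze49) (ke xe8 ye7 ze50) (ke xe25 ye9 ze25) (ke xe8 ye7 ze52) (ke xe24 ye45 ze43) (ke xe10 ye51 ze54) (ke xe8 ye30 ze51) (ke xe25 ye9 ze34) (ke xe8 ye7 ze56) (ke xe25 ye9 ze36) (ke xe25 ye9 ze38) (ke xe8 ye7 ze57) (ke xe25 ye9 ze43) (ke xe24 ye57 ze54) (ke xe24 ye32 ze12) (ke xe16 ye43 ze3) (ke xe15 ye19 ze37) (ke xe25 ye9 ze50) (ke xe25 ye9 ze54) (ke xe8 ye8 ze0) (ke xe9 ye36 ze0) (ke xe15 ye29 ze45) (ke xe25 ye9 ze60) (ke xe24 ye45 ze45) (ke xe17 ye37 ze28) (ke xe8 ye8 ze5)) (@D3.rec (fun _ => Pt) (ke xe8 ye8 ze8) (ke xe18 ye5 ze26) (ke xe9 ye34 ze61) (ke xe17 ye30 ze31) (ke xe14 ye56 ze41) (ke xe25 ye10 ze1) (ke xe18 ye3 ze26) (ke xe25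 ye10 ze6) (ke xe8 ye8 ze10) (ke xe25 ye10 ze10) (ke xe20 ye55 ze7) (ke xe25 ye10 ze12) (ke xe25 ye10 ze4) (ke xe8 ye8 ze11) (ke xe8 ye8 ze12) (ke xe10 ye37 ze5) (ke xe25 ye10 ze20) (ke xe25 ye10 ze16) (ke xe8 ye54 ze44) (ke xe22 ye24 ze61) (ke xe8 ye8 ze14) (ke xe25 ye10 ze22) (ke xe25 ye10 ze26) (ke xe8 ye8 ze16) (ke xe22 ye5 ze51) (ke xe20 ye57 ze40) (ke xe8 ye8 ze18) (ke xe21 ye50 ze31) (ke xe10 ye50 ze13) (ke xe24 ye58 ze25) (ke xe19 ye56 ze60) (ke xe16 ye45 ze27) (ke xe25 ye10 ze37) (ke xe19 ye45 ze59) (ke xe8 ye8 ze21) (ke xe25 ye10 ze40) (ke xe25 ye10 ze42) (ke xe15 ye18 ze52) (ke xe10 ye43 ze34) (ke xe18 ye2 ze25) (ke xe24 ye58 ze8) (ke xe18 ye2 ze26) (ke xe18 ye2 ze53) (ke xe8 ye41 ze41) (ke xe25 ye10 ze49) (ke xe8 ye8 ze26) (ke xe25 ye10 ze52) (ke xe25 ye10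 ze54) (ke xe8 ye8 ze27) (ke xe9 ye54 ze44) (ke xe12 ye30 ze46) (ke xe9 ye52 ze54) (ke xe15 ye9 ze41) (ke xe18 ye26 ze51) (ke xe25 ye9 ze30) (ke xe15 ye56 ze5) (ke xe8 ye54 ze13) (ke xe19 ye11 ze15) (ke xe25 ye10 ze60) (ke xe25 ye11 ze0) (ke xe25 ye11 ze4) (ke xe8 ye8 ze34)) (@D3.rec (fun _ => Pt) (ke xe8 ye8 ze35) (ke xe25 ye11 ze15) (ke xe25 ye11 ze11) (ke xe15 ye2 ze40) (ke xe8 ye8 ze37) (ke xe25 ye6 ze49) (ke xe25 ye11 ze21) (ke xe25 ye11 ze23) (ke xe8 ye8 ze41) (ke xe8 ye8 ze42) (ke xe25 ye11 ze26) (ke xe15 ye18 ze4) (ke xe24 ye58 ze13) (ke xe25 ye11 ze31) (ke xe16 ye26 ze55) (ke xe8 ye8 ze44) (ke xe25 ye6 ze39) (ke xe25 ye11 ze36) (ke xe15 ye34 ze25) (ke xe8 ye47 ze26) (ke xe25 ye11 ze39) (ke xe24 ye11 ze28) (ke xe17 ye57 ze12) (ke xe8 ye8 ze48) (ke xe25 ye11 ze43)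 (ke xe8 ye8 ze49) (ke xe15 ye14 ze9) (ke xe20 ye16 ze11) (ke xe25 ye6 ze46) (ke xe25 ye11 ze46) (ke xe15 ye29 ze60) (ke xe21 ye58 ze3) (ke xe21 ye1 ze2) (ke xe8 ye8 ze56) (ke xe16 ye59 ze18) (ke xe23 ye39 ze1) (ke xe15 ye23 ze4) (ke xe10 ye59 ze11) (ke xe25 ye11 ze54) (ke xe24 ye16 ze7) (ke xe15 ye23 ze7) (ke xe25 ye11 ze56) (ke xe25 ye7 ze5) (ke xe14 ye51 ze43) (ke xe25 ye11 ze59) (ke xe24 ye20 ze4) (ke xe8 ye8 ze61) (ke xe15 ye53 ze29) (ke xe25 ye12 ze1) (ke xe25 ye12 ze2) (ke xe24 ye37 ze23) (ke xe15 ye22 ze34) (ke xe20 ye29 ze41) (ke xe9 ye47 ze16) (ke xe13 ye40 ze4) (ke xe25 ye12 ze8) (ke xe8 ye9 ze5) (ke xe19 ye38 ze31) (ke xe25 ye12 ze12) (ke xe8 ye9 ze6) (ke xe25 ye7 ze15) (ke xe25 ye12 ze13)) (@D3.rec (fun _ => Pt) (ke xe25 ye12 ze14) (ke xe8 ye9 ze7) (ke xe24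 ye15 ze3) (ke xe25 ye12 ze19) (ke xe17 ye32 ze38) (ke xe20 ye15 ze27) (ke xe25 ye12 ze23) (ke xe8 ye9 ze8) (ke xe24 ye15 ze4) (ke xe21 ye47 ze43) (ke xe8 ye9 ze9) (ke xe25 ye7 ze27) (ke xe19 ye38 ze24) (ke xe24 ye16 ze18) (ke xe8 ye9 ze11) (ke xe20 ye57 ze3) (ke xe25 ye12 ze33) (ke xe25 ye12 ze36) (ke xe25 ye12 ze38) (ke xe8 ye9 ze12) (ke xe24 ye16 ze44) (ke xe23 ye27 ze39) (ke xe8 ye9 ze13) (ke xe14 ye47 ze53) (ke xe8 ye9 ze14) (ke xe25 ye7 ze22) (ke xe25 ye12 ze45) (ke xe25 ye10 ze50) (ke xe25 ye12 ze48) (ke xe8 ye9 ze16) (ke xe25 ye12 ze52) (ke xe25 ye12 ze56) (ke xe8 ye9 ze17) (ke xe25 ye12 ze61) (ke xe25 ye13 ze0) (ke xe8 ye9 ze18) (ke xe16 ye18 ze6) (ke xe18 ye15 ze49) (ke xe8 ye9 ze19) (ke xe12 ye41 ze45) (ke xe25 ye13 ze8) (ke xe15 ye9 ze8) (ke xe25 ye13 ze10)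 (ke xe24 ye11 ze26) (ke xe15 ye9 ze7) (ke xe25 ye13 ze17) (ke xe25 ye13 ze20) (ke xe8 ye9 ze22) (ke xe25 ye13 ze22) (ke xe8 ye9 ze23) (ke xe25 ye13 ze24) (ke xe25 ye13 ze28) (ke xe8 ye9 ze25) (ke xe25 ye13 ze30) (ke xe25 ye13 ze32) (ke xe8 ye9 ze26) (ke xe25 ye13 ze34) (ke xe25 ye13 ze36) (ke xe9 ye33 ze42) (ke xe25 ye13 ze39) (ke xe21 ye16 ze20) (ke xe8 ye9 ze28)) (@D3.rec (fun _ => Pt) (ke xe15 ye9 ze1) (ke xe19 ye57 ze11) (ke xe8 ye9 ze29) (ke xe25 ye13 ze44) (ke xe15 ye17 ze51) (ke xe8 ye9 ze31) (ke xe19 ye35 ze30) (ke xe25 ye13 ze47) (ke xe8 ye9 ze32) (ke xe11 ye8 ze52) (ke xe25 ye13 ze50) (ke xe14 ye51 ze16) (ke xe25 ye13 ze52) (ke xe8 ye9 ze35) (ke xe24 ye58 ze46) (ke xe19 ye57 ze12) (ke xe11 ye8 ze54) (ke xe11 ye8 ze46) (ke xe9 ye33 ze55) (ke xe15 ye27 ze44)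 (ke xe11 ye8 ze49) (ke xe25 ye14 ze2) (ke xe25 ye14 ze4) (ke xe25 ye14 ze5) (ke xe8 ye9 ze41) (ke xe15 ye16 ze19) (ke xe11 ye8 ze45) (ke xe11 ye8 ze55) (ke xe25 ye14 ze16) (ke xe8 ye9 ze45) (ke xe25 ye14 ze20) (ke xe8 ye9 ze46) (ke xe21 ye1 ze50) (ke xe21 ye36 ze5) (ke xe15 ye20 ze51) (ke xe25 ye14 ze28) (ke xe21 ye4 ze11) (ke xe21 ye2 ze0) (ke xe8 ye48 ze45) (ke xe8 ye9 ze53) (ke xe25 ye14 ze31) (ke xe25 ye14 ze32) (ke xe8 ye9 ze54) (ke xe8 ye9 ze56) (ke xe9 ye42 ze2) (ke xe8 ye9 ze61) (ke xe25 ye14 ze37) (ke xe24 ye47 ze6) (ke xe13 ye51 ze48) (ke xe25 ye14 ze39) (ke xe25 ye14 ze42) (ke xe14 ye51 ze13) (ke xe8 ye10 ze1) (ke xe18 ye17 ze60) (ke xe12 ye48 ze29) (ke xe11 ye2 ze52) (ke xe18 ye27 ze21) (ke xe25 ye14 ze47) (ke xe25 ye14 ze50) (ke xe8 ye10 ze5) (ke xe25 ye14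 ze56) (ke xe25 ye14 ze58)) (@D3.rec (fun _ => Pt) (ke xe8 ye10 ze6) (ke xe8 ye10 ze7) (ke xe25 ye15 ze6) (ke xe15 ye52 ze33) (ke xe15 ye20 ze36) (ke xe14 ye49 ze17) (ke xe25 ye15 ze14) (ke xe15 ye20 ze40) (ke xe25 ye15 ze19) (ke xe9 ye41 ze12) (ke xe9 ye35 ze31) (ke xe8 ye10 ze11) (ke xe25 ye15 ze24) (ke xe19 ye45 ze0) (ke xe8 ye10 ze12) (ke xe9 ye35 ze41) (ke xe15 ye16 ze8) (ke xe25 ye15 ze31) (ke xe17 ye44 ze57) (ke xe17 ye44 ze59) (ke xe8 ye11 ze54) (ke xe16 ye8 ze57) (ke xe17 ye37 ze31) (ke xe8 ye10 ze21) (ke xe25 ye15 ze40) (ke xe16 ye9 ze40) (ke xe25 ye15 ze44) (ke xe18 ye8 ze29) (ke xe12 ye50 ze10) (ke xe24 ye45 ze40) (ke xe8 ye10 ze22) (ke xe13 ye27 ze58) (ke xe25 ye15 ze52) (ke xe8 ye10 ze27) (ke xe25 ye15 ze56) (ke xe8 ye10 ze28) (ke xe24 ye54 ze37) (ke xe16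 ye20 ze46) (ke xe25 ye15 ze61) (ke xe8 ye10 ze33) (ke xe25 ye16 ze3) (ke xe8 ye10 ze34) (ke xe10 ye17 ze61) (ke xe8 ye10 ze35) (ke xe25 ye16 ze7) (ke xe8 ye10 ze36) (ke xe20 ye1 ze16) (ke xe23 ye20 ze44) (ke xe12 ye5 ze3) (ke xe21 ye2 ze45) (ke xe23 ye20 ze40) (ke xe25 ye16 ze16) (ke xe8 ye10 ze39) (ke xe25 ye16 ze19) (ke xe25 ye16 ze21) (ke xe25 ye16 ze24) (ke xe8 ye10 ze42) (ke xe25 ye16 ze28) (ke xe8 ye10 ze43) (ke xe8 ye10 ze44) (ke xe25 ye16 ze31) (ke xe25 ye16 ze35)) (@D3.rec (fun _ => Pt) (ke xe17 ye4 ze26) (ke xe8 ye10 ze46) (ke xe17 ye16 ze33) (ke xe9 ye42 ze10) (ke xe8 ye10 ze47) (ke xe21 ye46 ze32) (ke xe25 ye16 ze40) (ke xe15 ye27 ze18) (ke xe25 ye16 ze42) (ke xe25 ye16 ze43) (ke xe25 ye16 ze45) (ke xe8 ye10 ze49) (ke xe12 ye40 ze9) (ke xe12 ye24 ze25) (ke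 xe15 ye27 ze23) (ke xe21 ye54 ze20) (ke xe8 ye10 ze51) (ke xe25 ye16 ze47) (ke xe12 ye37 ze60) (ke xe8 ye10 ze53) (ke xe20 ye16 ze40) (ke xe19 ye59 ze15) (ke xe8 ye10 ze55) (ke xe16 ye7 ze31) (ke xe8 ye11 ze38) (ke xe16 ye24 ze5) (ke xe25 ye16 ze50) (ke xe8 ye10 ze59) (ke xe8 ye10 ze60) (ke xe8 ye11 ze0) (ke xe17 ye6 ze9) (ke xe8 ye11 ze1) (ke xe9 ye41 ze3) (ke xe25 ye16 ze52) (ke xe11 ye3 ze13) (ke xe25 ye16 ze53) (ke xe8 ye11 ze4) (ke xe25 ye16 ze55) (ke xe17 ye45 ze34) (ke xe19 ye50 ze29) (ke xe25 ye16 ze56) (ke xe8 ye11 ze7) (ke xe15 ye25 ze61) (ke xe9 ye41 ze17) (ke xe9 ye1 ze14) (ke xe25 ye17 ze1) (ke xe25 ye17 ze2) (ke xe8 ye11 ze9) (ke xe12 ye43 ze7) (ke xe20 ye34 ze42) (ke xe25 ye17 ze5) (ke xe17 ye4 ze25) (ke xe11 ye37 ze40) (ke xe25 ye17 ze9) (ke xe9 ye41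 ze32) (ke xe25 ye17 ze11) (ke xe19 ye10 ze58) (ke xe9 ye41 ze36) (ke xe25 ye17 ze13) (ke xe8 ye11 ze17) (ke xe15 ye51 ze22) (ke xe10 ye20 ze0)) (@D3.rec (fun _ => Pt) (ke xe25 ye17 ze15) (ke xe8 ye11 ze19) (ke xe8 ye11 ze20) (ke xe19 ye10 ze53) (ke xe22 ye22 ze27) (ke xe21 ye2 ze10) (ke xe9 ye43 ze56) (ke xe25 ye17 ze21) (ke xe16 ye11 ze8) (ke xe25 ye17 ze25) (ke xe8 ye11 ze25) (ke xe21 ye59 ze23) (ke xe9 ye42 ze9) (ke xe25 ye17 ze28) (ke xe25 ye17 ze31) (ke xe8 ye11 ze26) (ke xe20 ye34 ze41) (ke xe25 ye17 ze36) (ke xe8 ye11 ze27) (ke xe9 ye42 ze37) (ke xe21 ye50 ze20) (ke xe10 ye58 ze8) (ke xe24 ye50 ze0) (ke xe9 ye42 ze42) (ke xe15 ye28 ze43) (ke xe11 ye49 ze13) (ke xe8 ye11 ze30) (ke xe10 ye50 ze37) (ke xe9 ye42 ze30) (ke xe11 ye50 ze58) (ke xe17 ye23 ze54) (ke xe8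 ye11 ze34) (ke xe21 ye43 ze48) (ke xe9 ye42 ze15) (ke xe25 ye17 ze41) (ke xe25 ye16 ze49) (ke xe8 ye11 ze36) (ke xe9 ye42 ze47) (ke xe24 ye34 ze48) (ke xe8 ye11 ze39) (ke xe20 ye35 ze52) (ke xe10 ye58 ze12) (ke xe17 ye8 ze51) (ke xe9 ye42 ze56) (ke xe21 ye23 ze51) (ke xe20 ye53 ze47) (ke xe8 ye11 ze42) (ke xe8 ye11 ze43) (ke xe25 ye17 ze48) (ke xe11 ye18 ze55) (ke xe8 ye11 ze46) (ke xe8 ye11 ze47) (ke xe17 ye8 ze8) (ke xe16 ye25 ze33) (ke xe12 ye26 ze26) (ke xe8 ye11 ze49) (ke xe11 ye49 ze11) (ke xe24 ye54 ze46) (ke xe25 ye17 ze58) (ke xe8 ye11 ze51) (ke xe18 ye13 ze44) (ke xe15 ye24 ze42)) (@D3.rec (fun _ => Pt) (ke xe9 ye42 ze28) (ke xe15 ye9 ze26) (ke xe15 ye30 ze4) (ke xe25 ye15 ze32) (ke xe25 ye15 ze35) (ke xe9 ye43 ze58) (ke xe15 ye30 ze9) (ke xe20 ye28 ze8) (ke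 xe12 ye26 ze60) (ke xe16 ye56 ze28) (ke xe11 ye13 ze56) (ke xe19 ye32 ze43) (ke xe10 ye18 ze45) (ke xe14 ye16 ze40) (ke xe25 ye18 ze8) (ke xe25 ye18 ze10) (ke xe11 ye47 ze5) (ke xe8 ye12 ze15) (ke xe9 ye25 ze7) (ke xe23 ye21 ze52) (ke xe18 ye23 ze48) (ke xe25 ye18 ze11) (ke xe23 ye20 ze42) (ke xe8 ye12 ze21) (ke xe25 ye18 ze16) (ke xe25 ye18 ze14) (ke xe12 ye45 ze18) (ke xe13 ye16 ze26) (ke xe14 ye20 ze7) (ke xe25 ye18 ze18) (ke xe8 ye12 ze27) (ke xe11 ye8 ze6) (ke xe25 ye18 ze20) (ke xe25 ye18 ze22) (ke xe8 ye12 ze29) (ke xe12 ye9 ze60) (ke xe25 ye18 ze25) (ke xe25 ye18 ze29) (ke xe25 ye18 ze30) (ke xe8 ye12 ze31) (ke xe8 ye12 ze33) (ke xe25 ye18 ze32) (ke xe8 ye12 ze35) (ke xe25 ye18 ze33) (ke xe13 ye1 ze40) (ke xe9 ye21 ze60) (ke xe20 ye18 ze56) (ke xe8 ye12 ze39)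 (ke xe25 ye18 ze34) (ke xe23 ye12 ze19) (ke xe8 ye12 ze40) (ke xe10 ye45 ze41) (ke xe11 ye27 ze42) (ke xe20 ye41 ze0) (ke xe25 ye18 ze36) (ke xe8 ye12 ze42) (ke xe10 ye42 ze39) (ke xe25 ye18 ze39) (ke xe23 ye5 ze50) (ke xe18 ye51 ze56) (ke xe25 ye18 ze41) (ke xe8 ye12 ze44)) (@D3.rec (fun _ => Pt) (ke xe22 ye52 ze19) (ke xe21 ye9 ze52) (ke xe14 ye43 ze23) (ke xe25 ye18 ze48) (ke xe8 ye12 ze46) (ke xe14 ye3 ze54) (ke xe8 ye12 ze49) (ke xe17 ye18 ze8) (ke xe19 ye34 ze13) (ke xe20 ye27 ze31) (ke xe19 ye23 ze37) (ke xe8 ye12 ze53) (ke xe19 ye33 ze19) (ke xe9 ye46 ze45) (ke xe25 ye18 ze57) (ke xe25 ye18 ze58) (ke xe8 ye12 ze58) (ke xe21 ye8 ze50) (ke xe15 ye24 ze7) (ke xe25 ye18 ze61) (ke xe21 ye28 ze56) (ke xe8 ye12 ze60) (ke xe17 ye29 ze32) (ke xe15 ye24 ze14) (ke xe22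 ye12 ze2) (ke xe8 ye13 ze0) (ke xe17 ye51 ze38) (ke xe25 ye19 ze7) (ke xe19 ye58 ze22) (ke xe25 ye19 ze11) (ke xe25 ye19 ze15) (ke xe25 ye19 ze16) (ke xe8 ye13 ze4) (ke xe15 ye48 ze5) (ke xe8 ye13 ze49) (ke xe25 ye19 ze22) (ke xe25 ye19 ze26) (ke xe15 ye1 ze9) (ke xe25 ye19 ze30) (ke xe25 ye19 ze31) (ke xe8 ye13 ze7) (ke xe8 ye13 ze8) (ke xe23 ye59 ze45) (ke xe8 ye13 ze11) (ke xe15 ye22 ze19) (ke xe8 ye13 ze13) (ke xe8 ye13 ze14) (ke xe25 ye19 ze40) (ke xe8 ye13 ze15) (ke xe15 ye35 ze2) (ke xe19 ye56 ze51) (ke xe17 ye48 ze46) (ke xe10 ye59 ze43) (ke xe16 ye39 ze12) (ke xe8 ye13 ze17) (ke xe25 ye19 ze42) (ke xe25 ye19 ze47) (ke xe24 ye52 ze37) (ke xe8 ye13 ze20) (ke xe25 ye19 ze49) (ke xe25 ye19 ze50) (ke xe8 ye13 ze21)) (@D3.rec (fun _ => Pt) (ke xe25 ye19 ze53) (ke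 xe25 ye19 ze56) (ke xe24 ye1 ze21) (ke xe25 ye19 ze58) (ke xe8 ye13 ze22) (ke xe25 ye20 ze0) (ke xe8 ye13 ze23) (ke xe15 ye1 ze40) (ke xe25 ye20 ze7) (ke xe25 ye20 ze3) (ke xe19 ye29 ze17) (ke xe15 ye1 ze44) (ke xe19 ye59 ze30) (ke xe19 ye36 ze24) (ke xe15 ye34 ze57) (ke xe25 ye20 ze16) (ke xe8 ye13 ze31) (ke xe25 ye20 ze19) (ke xe25 ye20 ze20) (ke xe25 ye20 ze21) (ke xe20 ye42 ze2) (ke xe8 ye13 ze33) (ke xe8 ye13 ze34) (ke xe25 ye20 ze31) (ke xe25 ye20 ze27) (ke xe8 ye28 ze15) (ke xe25 ye20 ze37) (ke xe17 ye35 ze46) (ke xe25 ye20 ze41) (ke xe8 ye13 ze37) (ke xe25 ye20 ze44) (ke xe15 ye2 ze5) (ke xe25 ye20 ze47) (ke xe25 ye20 ze48) (ke xe8 ye13 ze38) (ke xe25 ye20 ze54) (ke xe16 ye39 ze32) (ke xe8 ye13 ze39) (ke xe15 ye2 ze26) (ke xe25 ye21 ze1) (ke xe25 ye20 ze57)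 (ke xe17 ye49 ze61) (ke xe15 ye2 ze31) (ke xe15 ye25 ze24) (ke xe20 ye5 ze30) (ke xe25 ye21 ze8) (ke xe15 ye3 ze19) (ke xe10 ye24 ze17) (ke xe15 ye2 ze19) (ke xe25 ye21 ze10) (ke xe25 ye21 ze11) (ke xe9 ye6 ze14) (ke xe8 ye13 ze45) (ke xe8 ye13 ze46) (ke xe25 ye21 ze20) (ke xe15 ye2 ze11) (ke xe25 ye21 ze17) (ke xe25 ye19 ze19) (ke xe15 ye2 ze14) (ke xe25 ye21 ze28) (ke xe15 ye2 ze34) (ke xe25 ye21 ze30)) (@D3.rec (fun _ => Pt) (ke xe8 ye13 ze50) (ke xe25 ye21 ze36) (ke xe8 ye13 ze51) (ke xe25 ye21 ze39) (ke xe19 ye11 ze13) (ke xe8 ye13 ze53) (ke xe25 ye21 ze46) (ke xe20 ye56 ze43) (ke xe25 ye21 ze51) (ke xe25 ye21 ze53) (ke xe25 ye21 ze55) (ke xe8 ye13 ze55) (ke xe11 ye8 ze10) (ke xe20 ye26 ze33) (ke xe25 ye21 ze61) (ke xe25 ye22 ze0) (ke xe25 ye22 ze3) (ke xe25 ye22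 ze6) (ke xe25 ye22 ze8) (ke xe8 ye13 ze58) (ke xe25 ye22 ze11) (ke xe8 ye13 ze59) (ke xe25 ye22 ze14) (ke xe8 ye13 ze60) (ke xe8 ye13 ze61) (ke xe25 ye10 ze25) (ke xe8 ye14 ze0) (ke xe25 ye22 ze31) (ke xe25 ye22 ze34) (ke xe25 ye22 ze35) (ke xe8 ye14 ze2) (ke xe25 ye22 ze41) (ke xe25 ye22 ze38) (ke xe25 ye22 ze44) (ke xe8 ye37 ze32) (ke xe8 ye14 ze4) (ke xe18 ye34 ze46) (ke xe11 ye10 ze35) (ke xe25 ye22 ze47) (ke xe16 ye50 ze38) (ke xe23 ye42 ze39) (ke xe8 ye14 ze7) (ke xe14 ye37 ze42) (ke xe21 ye29 ze47) (ke xe11 ye57 ze21) (ke xe15 ye18 ze57) (ke xe25 ye22 ze56) (ke xe8 ye14 ze12) (ke xe20 ye3 ze19) (ke xe25 ye22 ze58) (ke xe20 ye3 ze9) (ke xe15 ye35 ze43) (ke xe8 ye14 ze13) (ke xe8 ye14 ze14) (ke xe25 ye22 ze61) (ke xe19 ye40 ze23) (ke xe25 ye23 ze7) (ke xe25 ye23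 ze9) (ke xe8 ye14 ze17) (ke xe8 ye14 ze20) (ke xe15 ye20 ze30) (ke xe25 ye23 ze16)) (@D3.rec (fun _ => Pt) (ke xe25 ye23 ze10) (ke xe11 ye32 ze47) (ke xe10 ye56 ze38) (ke xe10 ye39 ze46) (ke xe15 ye26 ze2) (ke xe25 ye23 ze23) (ke xe25 ye23 ze26) (ke xe8 ye14 ze23) (ke xe15 ye3 ze26) (ke xe15 ye26 ze6) (ke xe8 ye14 ze27) (ke xe25 ye23 ze27) (ke xe25 ye23 ze28) (ke xe8 ye14 ze28) (ke xe10 ye54 ze55) (ke xe8 ye14 ze29) (ke xe25 ye23 ze32) (ke xe10 ye59 ze38) (ke xe8 ye14 ze30) (ke xe10 ye57 ze25) (ke xe9 ye46 ze40) (ke xe9 ye1 ze40) (ke xe10 ye56 ze54) (ke xe11 ye29 ze24) (ke xe11 ye29 ze34) (ke xe21 ye36 ze32) (ke xe16 ye57 ze47) (ke xe16 ye57 ze49) (ke xe11 ye29 ze40) (ke xe19 ye5 ze32) (ke xe9 ye16 ze14) (ke xe25 ye23 ze41) (ke xe8 ye14 ze38) (ke xe20 ye5 ze24) (ke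 xe20 ye54 ze33) (ke xe11 ye29 ze52) (ke xe9 ye48 ze21) (ke xe25 ye23 ze47) (ke xe8 ye14 ze42) (ke xe12 ye13 ze38) (ke xe22 ye33 ze60) (ke xe16 ye22 ze3) (ke xe8 ye14 ze53) (ke xe19 ye58 ze38) (ke xe20 ye26 ze28) (ke xe17 ye58 ze21) (ke xe19 ye43 ze56) (ke xe19 ye58 ze41) (ke xe10 ye48 ze59) (ke xe23 ye53 ze47) (ke xe8 ye15 ze1) (ke xe15 ye50 ze42) (ke xe10 ye54 ze10) (ke xe23 ye49 ze57) (ke xe8 ye15 ze3) (ke xe18 ye26 ze24) (ke xe9 ye52 ze26) (ke xe8 ye15 ze5) (ke xe15 ye11 ze39) (ke xe14 ye13 ze26) (ke xe25 ye23 ze57) (ke xe15 ye50 ze44)) (@D3.rec (fun _ => Pt) (ke xe25 ye23 ze61) (ke xe23 ye31 ze27) (ke xe15 ye50 ze48) (ke xe11 ye21 ze20) (ke xe8 ye15 ze9) (ke xe19 ye5 ze11) (ke xe25 ye24 ze9) (ke xe19 ye35 ze24) (ke xe23 ye11 ze20) (ke xe25 ye24 ze12) (ke xe8 ye15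 ze11) (ke xe8 ye15 ze12) (ke xe11 ye4 ze10) (ke xe25 ye24 ze17) (ke xe25 ye24 ze16) (ke xe9 ye24 ze61) (ke xe10 ye47 ze35) (ke xe25 ye24 ze21) (ke xe8 ye15 ze15) (ke xe25 ye24 ze23) (ke xe15 ye15 ze12) (ke xe25 ye24 ze26) (ke xe25 ye24 ze29) (ke xe8 ye15 ze17) (ke xe8 ye15 ze18) (ke xe19 ye38 ze10) (ke xe15 ye43 ze17) (ke xe15 ye32 ze34) (ke xe19 ye38 ze39) (ke xe25 ye24 ze35) (ke xe15 ye15 ze26) (ke xe25 ye24 ze37) (ke xe8 ye15 ze22) (ke xe15 ye15 ze33) (ke xe21 ye3 ze38) (ke xe20 ye50 ze15) (ke xe17 ye24 ze13) (ke xe8 ye15 ze25) (ke xe8 ye15 ze26) (ke xe15 ye32 ze45) (ke xe25 ye24 ze45) (ke xe25 ye24 ze47) (ke xe25 ye24 ze48) (ke xe25 ye24 ze49) (ke xe8 ye15 ze28) (ke xe23 ye8 ze0) (ke xe13 ye21 ze52) (ke xe22 ye52 ze53) (ke xe8 ye15 ze29) (ke xe25 ye24 ze53) (ke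 xe8 ye15 ze32) (ke xe25 ye24 ze58) (ke xe8 ye15 ze33) (ke xe25 ye25 ze2) (ke xe8 ye15 ze34) (ke xe14 ye19 ze10) (ke xe8 ye15 ze35) (ke xe25 ye25 ze12) (ke xe15 ye34 ze4) (ke xe25 ye25 ze13) (ke xe8 ye15 ze37) (ke xe25 ye25 ze16)) (@D3.rec (fun _ => Pt) (ke xe21 ye55 ze11) (ke xe8 ye15 ze39) (ke xe15 ye41 ze61) (ke xe25 ye25 ze19) (ke xe10 ye33 ze44) (ke xe25 ye25 ze23) (ke xe22 ye55 ze21) (ke xe18 ye50 ze59) (ke xe25 ye25 ze28) (ke xe8 ye15 ze45) (ke xe12 ye7 ze20) (ke xe17 ye23 ze16) (ke xe24 ye17 ze61) (ke xe13 ye44 ze61) (ke xe15 ye50 ze58) (ke xe25 ye25 ze39) (ke xe19 ye12 ze57) (ke xe8 ye15 ze53) (ke xe8 ye15 ze54) (ke xe16 ye21 ze53) (ke xe14 ye24 ze19) (ke xe25 ye25 ze44) (ke xe22 ye11 ze34) (ke xe25 ye25 ze47) (ke xe8 ye15 ze56) (ke xe8 ye15 ze57) (ke xe10 ye51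 ze10) (ke xe10 ye55 ze55) (ke xe25 ye25 ze50) (ke xe13 ye23 ze36) (ke xe22 ye53 ze38) (ke xe8 ye16 ze0) (ke xe17 ye22 ze11) (ke xe8 ye57 ze8) (ke xe15 ye31 ze27) (ke xe17 ye22 ze5) (ke xe8 ye16 ze2) (ke xe8 ye57 ze12) (ke xe19 ye46 ze43) (ke xe10 ye40 ze30) (ke xe25 ye25 ze61) (ke xe25 ye26 ze1) (ke xe8 ye16 ze5) (ke xe8 ye16 ze6) (ke xe8 ye30 ze37) (ke xe15 ye31 ze39) (ke xe18 ye51 ze2) (ke xe19 ye34 ze53) (ke xe25 ye26 ze6) (ke xe18 ye56 ze57) (ke xe8 ye16 ze8) (ke xe17 ye17 ze18) (ke xe8 ye31 ze4) (ke xe25 ye26 ze10) (ke xe25 ye26 ze12) (ke xe17 ye27 ze37) (ke xe25 ye26 ze16) (ke xe21 ye39 ze48) (ke xe8 ye16 ze11) (ke xe11 ye47 ze60) (ke xe25 ye26 ze23) (ke xe25 ye26 ze25)) (@D3.rec (fun _ => Pt) (ke xe15 ye37 ze1) (ke xe24 ye13 ze21) (ke xe25 ye26 ze32) (ke xe8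 ye16 ze15) (ke xe25 ye26 ze37) (ke xe8 ye16 ze16) (ke xe25 ye26 ze40) (ke xe8 ye16 ze17) (ke xe25 ye26 ze44) (ke xe8 ye16 ze18) (ke xe22 ye7 ze8) (ke xe8 ye19 ze12) (ke xe25 ye26 ze49) (ke xe8 ye16 ze20) (ke xe25 ye26 ze50) (ke xe21 ye25 ze42) (ke xe8 ye16 ze22) (ke xe25 ye26 ze52) (ke xe8 ye18 ze4) (ke xe17 ye59 ze0) (ke xe8 ye16 ze24) (ke xe25 ye26 ze55) (ke xe8 ye18 ze12) (ke xe15 ye59 ze32) (ke xe25 ye26 ze59) (ke xe12 ye52 ze14) (ke xe12 ye21 ze1) (ke xe25 ye27 ze1) (ke xe8 ye16 ze27) (ke xe8 ye16 ze28) (ke xe15 ye56 ze55) (ke xe25 ye7 ze30) (ke xe25 ye27 ze2) (ke xe8 ye18 ze23) (ke xe17 ye36 ze22) (ke xe8 ye16 ze30) (ke xe25 ye27 ze11) (ke xe25 ye27 ze13) (ke xe25 ye27 ze15) (ke xe25 ye27 ze18) (ke xe8 ye16 ze32) (ke xe8 ye16 ze33) (ke xe25 ye27 ze20) (ke xe8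 ye17 ze43) (ke xe15 ye58 ze9) (ke xe19 ye10 ze54) (ke xe25 ye27 ze27) (ke xe15 ye57 ze10) (ke xe21 ye17 ze4) (ke xe25 ye27 ze29) (ke xe8 ye16 ze38) (ke xe8 ye16 ze39) (ke xe15 ye57 ze25) (ke xe25 ye24 ze32) (ke xe25 ye27 ze31) (ke xe8 ye19 ze13) (ke xe21 ye0 ze23) (ke xe8 ye16 ze41) (ke xe15 ye57 ze18) (ke xe10 ye45 ze8) (ke xe25 ye27 ze40) (ke xe25 ye27 ze42)) (@D3.rec (fun _ => Pt) (ke xe8 ye16 ze43) (ke xe8 ye16 ze44) (ke xe25 ye27 ze48) (ke xe15 ye57 ze14) (ke xe15 ye31 ze58) (ke xe8 ye18 ze51) (ke xe25 ye27 ze50) (ke xe8 ye16 ze46) (ke xe25 ye27 ze53) (ke xe15 ye57 ze30) (ke xe21 ye58 ze8) (ke xe20 ye43 ze32) (ke xe8 ye16 ze48) (ke xe8 ye16 ze49) (ke xe20 ye43 ze27) (ke xe8 ye19 ze39) (ke xe15 ye57 ze34) (ke xe25 ye28 ze6) (ke xe22 ye55 ze7) (ke xe8 ye16 ze51)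 (ke xe18 ye52 ze56) (ke xe8 ye19 ze31) (ke xe25 ye28 ze12) (ke xe25 ye28 ze16) (ke xe25 ye28 ze20) (ke xe15 ye20 ze18) (ke xe8 ye16 ze54) (ke xe22 ye9 ze40) (ke xe25 ye28 ze24) (ke xe25 ye28 ze26) (ke xe9 ye47 ze7) (ke xe8 ye16 ze55) (ke xe25 ye28 ze28) (ke xe25 ye28 ze31) (ke xe25 ye28 ze34) (ke xe22 ye54 ze33) (ke xe8 ye16 ze57) (ke xe25 ye28 ze40) (ke xe8 ye16 ze59) (ke xe23 ye56 ze18) (ke xe8 ye16 ze60) (ke xe19 ye35 ze29) (ke xe22 ye10 ze55) (ke xe16 ye20 ze13) (ke xe17 ye39 ze13) (ke xe24 ye44 ze51) (ke xe21 ye25 ze45) (ke xe25 ye28 ze55) (ke xe8 ye17 ze2) (ke xe8 ye17 ze3) (ke xe15 ye14 ze36) (ke xe25 ye1 ze22) (ke xe15 ye49 ze6) (ke xe8 ye17 ze6) (ke xe8 ye17 ze9) (ke xe19 ye53 ze50) (ke xe18 ye33 ze28) (ke xe15 ye28 ze14) (ke xe25 ye29 ze3) (ke xe25 ye29 ze7)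 (ke xe24 ye11 ze39) (ke xe8 ye17 ze12)) (@D3.rec (fun _ => Pt) (ke xe25 ye5 ze36) (ke xe10 ye51 ze46) (ke xe15 ye27 ze49) (ke xe25 ye29 ze10) (ke xe8 ye17 ze15) (ke xe25 ye29 ze13) (ke xe21 ye27 ze31) (ke xe25 ye7 ze44) (ke xe21 ye5 ze33) (ke xe8 ye17 ze17) (ke xe25 ye6 ze10) (ke xe15 ye58 ze8) (ke xe15 ye57 ze3) (ke xe15 ye41 ze20) (ke xe15 ye41 ze25) (ke xe15 ye58 ze11) (ke xe10 ye43 ze41) (ke xe10 ye56 ze26) (ke xe25 ye29 ze22) (ke xe25 ye29 ze25) (ke xe21 ye42 ze56) (ke xe21 ye4 ze59) (ke xe15 ye57 ze2) (ke xe12 ye20 ze61) (ke xe24 ye35 ze56) (ke xe25 ye29 ze32) (ke xe10 ye50 ze53) (ke xe8 ye17 ze29) (ke xe25 ye29 ze39) (ke xe25 ye29 ze43) (ke xe25 ye29 ze44) (ke xe8 ye17 ze32) (ke xe25 ye29 ze51) (ke xe25 ye29 ze53) (ke xe19 ye19 ze48) (ke xe8 ye17 ze33) (ke xe25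 ye29 ze59) (ke xe8 ye17 ze34) (ke xe20 ye28 ze58) (ke xe25 ye30 ze3) (ke xe25 ye30 ze5) (ke xe8 ye17 ze35) (ke xe15 ye58 ze44) (ke xe15 ye29 ze51) (ke xe25 ye30 ze8) (ke xe25 ye27 ze19) (ke xe8 ye48 ze30) (ke xe8 ye17 ze37) (ke xe10 ye26 ze2) (ke xe8 ye17 ze38) (ke xe25 ye5 ze40) (ke xe12 ye21 ze7) (ke xe8 ye17 ze42) (ke xe25 ye5 ze49) (ke xe12 ye59 ze21) (ke xe19 ye46 ze9) (ke xe25 ye30 ze30) (ke xe25 ye30 ze32) (ke xe8 ye17 ze41) (ke xe19 ye44 ze49) (ke xe25 ye30 ze38) (ke xe25 ye30 ze21)) (@D3.rec (fun _ => Pt) (ke xe25 ye30 ze44) (ke xe10 ye50 ze35) (ke xe15 ye58 ze57) (ke xe19 ye46 ze6) (ke xe23 ye49 ze6) (ke xe8 ye17 ze45) (ke xe25 ye30 ze50) (ke xe8 ye17 ze46) (ke xe10 ye32 ze13) (ke xe8 ye17 ze48) (ke xe25 ye30 ze52) (ke xe17 ye16 ze46) (ke xe8 ye17 ze52) (ke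 xe18 ye44 ze34) (ke xe10 ye20 ze60) (ke xe25 ye30 ze57) (ke xe9 ye26 ze54) (ke xe8 ye17 ze51) (ke xe15 ye58 ze61) (ke xe25 ye30 ze60) (ke xe24 ye38 ze50) (ke xe8 ye17 ze53) (ke xe12 ye52 ze52) (ke xe8 ye17 ze55) (ke xe8 ye39 ze58) (ke xe16 ye37 ze4) (ke xe8 ye17 ze57) (ke xe9 ye41 ze5) (ke xe10 ye37 ze46) (ke xe8 ye21 ze34) (ke xe21 ye33 ze18) (ke xe25 ye31 ze5) (ke xe21 ye32 ze54) (ke xe17 ye49 ze11) (ke xe8 ye17 ze61) (ke xe8 ye18 ze0) (ke xe15 ye49 ze33) (ke xe25 ye31 ze10) (ke xe15 ye48 ze43) (ke xe10 ye35 ze43) (ke xe8 ye18 ze2) (ke xe25 ye31 ze16) (ke xe8 ye18 ze5) (ke xe25 ye31 ze18) (ke xe25 ye29 ze56) (ke xe25 ye15 ze11) (ke xe8 ye18 ze7) (ke xe25 ye5 ze41) (ke xe19 ye31 ze5) (ke xe8 ye18 ze9) (ke xe17 ye44 ze54) (ke xe10 ye50 ze28) (ke xe8 ye18 ze13) (ke xe10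 ye50 ze5) (ke xe25 ye31 ze24) (ke xe25 ye31 ze31) (ke xe25 ye31 ze32) (ke xe25 ye29 ze2) (ke xe8 ye18 ze14) (ke xe9 ye24 ze19) (ke xe9 ye28 ze61) (ke xe25 ye31 ze35)) (@D3.rec (fun _ => Pt) (ke xe8 ye18 ze15) (ke xe15 ye33 ze0) (ke xe8 ye18 ze16) (ke xe25 ye31 ze42) (ke xe25 ye31 ze43) (ke xe25 ye31 ze45) (ke xe8 ye18 ze17) (ke xe25 ye31 ze48) (ke xe15 ye56 ze50) (ke xe18 ye46 ze32) (ke xe12 ye21 ze0) (ke xe18 ye51 ze25) (ke xe8 ye18 ze22) (ke xe25 ye27 ze3) (ke xe25 ye31 ze54) (ke xe25 ye31 ze58) (ke xe8 ye18 ze20) (ke xe15 ye48 ze8) (ke xe20 ye40 ze10) (ke xe21 ye58 ze58) (ke xe25 ye32 ze3) (ke xe20 ye56 ze0) (ke xe25 ye32 ze8) (ke xe16 ye3 ze57) (ke xe25 ye4 ze26) (ke xe15 ye56 ze48) (ke xe25 ye32 ze17) (ke xe16 ye49 ze14) (ke xe18 ye54 ze11) (ke xe25 ye32 ze23)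 (ke xe18 ye54 ze13) (ke xe8 ye18 ze30) (ke xe25 ye32 ze31) (ke xe10 ye46 ze44) (ke xe17 ye22 ze49) (ke xe20 ye52 ze51) (ke xe25 ye32 ze26) (ke xe22 ye56 ze42) (ke xe8 ye18 ze31) (ke xe25 ye32 ze40) (ke xe8 ye41 ze9) (ke xe21 ye22 ze60) (ke xe25 ye32 ze45) (ke xe8 ye18 ze32) (ke xe8 ye18 ze33) (ke xe25 ye14 ze0) (ke xe17 ye36 ze26) (ke xe15 ye14 ze41) (ke xe17 ye35 ze32) (ke xe25 ye32 ze52) (ke xe21 ye49 ze59) (ke xe21 ye17 ze1) (ke xe25 ye32 ze58) (ke xe15 ye59 ze39) (ke xe24 ye37 ze14) (ke xe18 ye4 ze47) (ke xe8 ye18 ze40) (ke xe15 ye59 ze43) (ke xe15 ye59 ze44) (ke xe25 ye33 ze1) (ke xe8 ye18 ze42) (ke xe19 ye39 ze32)) (@D3.rec (fun _ => Pt) (ke xe25 ye33 ze6) (ke xe25 ye33 ze9) (ke xe8 ye18 ze43) (ke xe25 ye33 ze14) (ke xe25 ye33 ze15) (ke xe25 ye33 ze11) (ke xe25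 ye27 ze46) (ke xe16 ye42 ze48) (ke xe21 ye5 ze5) (ke xe25 ye33 ze22) (ke xe25 ye4 ze49) (ke xe8 ye18 ze50) (ke xe25 ye26 ze48) (ke xe16 ye0 ze33) (ke xe25 ye33 ze31) (ke xe25 ye33 ze35) (ke xe25 ye33 ze37) (ke xe8 ye18 ze49) (ke xe25 ye33 ze40) (ke xe25 ye33 ze43) (ke xe25 ye33 ze27) (ke xe24 ye37 ze51) (ke xe16 ye0 ze39) (ke xe25 ye33 ze48) (ke xe17 ye34 ze60) (ke xe10 ye51 ze42) (ke xe8 ye18 ze55) (ke xe10 ye43 ze29) (ke xe25 ye33 ze54) (ke xe8 ye40 ze1) (ke xe16 ye0 ze7) (ke xe20 ye37 ze28) (ke xe21 ye31 ze13) (ke xe8 ye18 ze59) (ke xe25 ye33 ze57) (ke xe9 ye36 ze47) (ke xe9 ye42 ze11) (ke xe17 ye45 ze3) (ke xe8 ye19 ze0) (ke xe25 ye33 ze60) (ke xe8 ye51 ze60) (ke xe10 ye20 ze22) (ke xe16 ye0 ze16) (ke xe16 ye0 ze17) (ke xe25 ye34 ze3) (ke xe17 ye12 ze30) (ke xe8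 ye19 ze5) (ke xe25 ye34 ze6) (ke xe8 ye19 ze6) (ke xe25 ye34 ze8) (ke xe25 ye4 ze42) (ke xe25 ye34 ze12) (ke xe8 ye19 ze7) (ke xe25 ye34 ze15) (ke xe21 ye17 ze3) (ke xe25 ye4 ze61) (ke xe25 ye34 ze18) (ke xe25 ye27 ze32) (ke xe25 ye34 ze20) (ke xe19 ye36 ze9) (ke xe25 ye34 ze21) (ke xe8 ye19 ze10)) (@D3.rec (fun _ => Pt) (ke xe25 ye34 ze23) (ke xe25 ye34 ze25) (ke xe25 ye26 ze38) (ke xe10 ye51 ze1) (ke xe8 ye19 ze14) (ke xe10 ye56 ze52) (ke xe16 ye0 ze3) (ke xe22 ye9 ze49) (ke xe8 ye19 ze17) (ke xe16 ye0 ze41) (ke xe25 ye34 ze29) (ke xe10 ye19 ze30) (ke xe10 ye20 ze39) (ke xe18 ye1 ze43) (ke xe25 ye34 ze34) (ke xe18 ye2 ze5) (ke xe8 ye19 ze20) (ke xe16 ye0 ze50) (ke xe16 ye0 ze51) (ke xe25 ye34 ze39) (ke xe24 ye22 ze20) (ke xe22 ye55 ze4) (ke xe8 ye19 ze22) (ke xe25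 ye34 ze44) (ke xe16 ye0 ze57) (ke xe13 ye21 ze22) (ke xe8 ye19 ze23) (ke xe19 ye44 ze26) (ke xe22 ye9 ze21) (ke xe8 ye19 ze24) (ke xe25 ye34 ze52) (ke xe25 ye34 ze56) (ke xe25 ye34 ze49) (ke xe25 ye28 ze9) (ke xe16 ye1 ze34) (ke xe18 ye52 ze20) (ke xe10 ye51 ze8) (ke xe16 ye6 ze43) (ke xe25 ye34 ze61) (ke xe16 ye45 ze38) (ke xe8 ye19 ze30) (ke xe14 ye52 ze23) (ke xe20 ye2 ze35) (ke xe25 ye35 ze2) (ke xe25 ye35 ze1) (ke xe17 ye43 ze12) (ke xe16 ye1 ze12) (ke xe16 ye1 ze13) (ke xe22 ye20 ze30) (ke xe21 ye45 ze52) (ke xe25 ye35 ze10) (ke xe13 ye36 ze41) (ke xe8 ye19 ze33) (ke xe22 ye48 ze40) (ke xe8 ye19 ze34) (ke xe25 ye35 ze17) (ke xe10 ye51 ze16) (ke xe25 ye35 ze21) (ke xe8 ye19 ze35) (ke xe25 ye35 ze24) (ke xe21 ye46 ze2) (ke xe20 ye44 ze2)) (@D3.rec (fun _ => Pt)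 (ke xe20 ye44 ze5) (ke xe19 ye44 ze35) (ke xe22 ye9 ze26) (ke xe8 ye19 ze38) (ke xe20 ye43 ze26) (ke xe25 ye35 ze30) (ke xe25 ye24 ze14) (ke xe25 ye25 ze9) (ke xe20 ye43 ze56) (ke xe25 ye6 ze55) (ke xe25 ye35 ze34) (ke xe25 ye35 ze36) (ke xe8 ye19 ze41) (ke xe16 ye1 ze40) (ke xe25 ye35 ze40) (ke xe25 ye35 ze42) (ke xe8 ye19 ze42) (ke xe19 ye45 ze36) (ke xe25 ye35 ze48) (ke xe8 ye19 ze43) (ke xe12 ye11 ze6) (ke xe25 ye6 ze11) (ke xe16 ye1 ze43) (ke xe21 ye39 ze25) (ke xe14 ye2 ze47) (ke xe25 ye35 ze57) (ke xe25 ye35 ze60) (ke xe8 ye19 ze46) (ke xe20 ye59 ze15) (ke xe9 ye27 ze40) (ke xe8 ye19 ze47) (ke xe25 ye36 ze5) (ke xe17 ye51 ze13) (ke xe8 ye19 ze48) (ke xe10 ye43 ze38) (ke xe10 ye23 ze41) (ke xe8 ye57 ze56) (ke xe9 ye52 ze22) (ke xe9 ye32 ze4) (ke xe12 ye57 ze23)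 (ke xe8 ye19 ze52) (ke xe17 ye17 ze58) (ke xe17 ye16 ze49) (ke xe25 ye36 ze15) (ke xe24 ye13 ze39) (ke xe8 ye19 ze54) (ke xe19 ye35 ze26) (ke xe12 ye0 ze23) (ke xe25 ye4 ze7) (ke xe15 ye41 ze2) (ke xe24 ye7 ze49) (ke xe24 ye17 ze4) (ke xe8 ye19 ze56) (ke xe19 ye37 ze49) (ke xe10 ye50 ze34) (ke xe25 ye28 ze42) (ke xe25 ye36 ze28) (ke xe25 ye36 ze31) (ke xe25 ye24 ze34) (ke xe8 ye19 ze58) (ke xe10 ye49 ze61) (ke xe15 ye15 ze8)) (@D3.rec (fun _ => Pt) (ke xe15 ye15 ze10) (ke xe19 ye37 ze37) (ke xe15 ye40 ze49) (ke xe25 ye36 ze34) (ke xe8 ye20 ze0) (ke xe19 ye37 ze48) (ke xe8 ye20 ze4) (ke xe25 ye36 ze39) (ke xe25 ye36 ze41) (ke xe25 ye36 ze43) (ke xe8 ye20 ze2) (ke xe25 ye36 ze45) (ke xe25 ye36 ze47) (ke xe8 ye20 ze3) (ke xe25 ye36 ze49) (ke xe25 ye36 ze52) (ke xe8 ye20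 ze5) (ke xe8 ye29 ze39) (ke xe10 ye51 ze52) (ke xe25 ye36 ze54) (ke xe15 ye35 ze13) (ke xe8 ye20 ze8) (ke xe22 ye3 ze33) (ke xe25 ye36 ze58) (ke xe8 ye20 ze9) (ke xe15 ye35 ze14) (ke xe21 ye8 ze49) (ke xe24 ye43 ze21) (ke xe23 ye36 ze27) (ke xe25 ye37 ze1) (ke xe14 ye46 ze14) (ke xe24 ye52 ze4) (ke xe22 ye27 ze9) (ke xe8 ye32 ze54) (ke xe8 ye20 ze14) (ke xe24 ye41 ze27) (ke xe12 ye18 ze40) (ke xe24 ye38 ze3) (ke xe8 ye20 ze15) (ke xe8 ye20 ze16) (ke xe12 ye1 ze2) (ke xe25 ye37 ze15) (ke xe25 ye37 ze13) (ke xe13 ye54 ze23) (ke xe16 ye2 ze45) (ke xe25 ye37 ze21) (ke xe8 ye20 ze19) (ke xe25 ye37 ze24) (ke xe25 ye37 ze25) (ke xe8 ye20 ze21) (ke xe8 ye20 ze23) (ke xe18 ye39 ze56) (ke xe15 ye16 ze23) (ke xe25 ye37 ze29) (ke xe25 ye37 ze30) (ke xe25 ye37 ze31) (ke xe8 ye20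 ze25) (ke xe24 ye51 ze59) (ke xe11 ye10 ze30) (ke xe17 ye51 ze36) (ke xe19 ye17 ze19) (ke xe15 ye32 ze2)) (@D3.rec (fun _ => Pt) (ke xe17 ye14 ze25) (ke xe25 ye37 ze41) (ke xe14 ye47 ze58) (ke xe8 ye20 ze30) (ke xe8 ye20 ze31) (ke xe25 ye37 ze48) (ke xe16 ye2 ze51) (ke xe25 ye37 ze46) (ke xe8 ye21 ze35) (ke xe25 ye37 ze53) (ke xe11 ye52 ze22) (ke xe8 ye20 ze33) (ke xe21 ye24 ze25) (ke xe14 ye49 ze49) (ke xe25 ye37 ze56) (ke xe25 ye37 ze58) (ke xe8 ye20 ze35) (ke xe8 ye20 ze36) (ke xe16 ye3 ze30) (ke xe25 ye37 ze61) (ke xe16 ye4 ze27) (ke xe13 ye53 ze22) (ke xe25 ye38 ze7) (ke xe25 ye38 ze8) (ke xe25 ye38 ze9) (ke xe8 ye20 ze40) (ke xe8 ye20 ze41) (ke xe25 ye38 ze14) (ke xe8 ye21 ze32) (ke xe21 ye31 ze30) (ke xe25 ye38 ze23) (ke xe25 ye38 ze25) (ke xe25 ye38 ze28) (ke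 xe8 ye20 ze43) (ke xe8 ye20 ze44) (ke xe25 ye38 ze32) (ke xe17 ye40 ze14) (ke xe8 ye20 ze46) (ke xe21 ye43 ze26) (ke xe24 ye20 ze56) (ke xe9 ye51 ze29) (ke xe8 ye20 ze49) (ke xe16 ye47 ze38) (ke xe8 ye20 ze51) (ke xe25 ye38 ze42) (ke xe8 ye20 ze52) (ke xe25 ye38 ze46) (ke xe25 ye38 ze50) (ke xe8 ye20 ze56) (ke xe16 ye4 ze52) (ke xe16 ye3 ze22) (ke xe14 ye58 ze11) (ke xe25 ye38 ze57) (ke xe25 ye38 ze61) (ke xe25 ye39 ze0) (ke xe25 ye39 ze2) (ke xe8 ye20 ze55) (ke xe25 ye39 ze6) (ke xe25 ye39 ze9) (ke xe25 ye38 ze53) (ke xe23 ye39 ze5) (ke xe16 ye2 ze61)) (@D3.rec (fun _ => Pt) (ke xe16 ye3 ze31) (ke xe24 ye42 ze31) (ke xe25 ye39 ze18) (ke xe25 ye39 ze20) (ke xe8 ye20 ze60) (ke xe9 ye19 ze14) (ke xe12 ye52 ze47) (ke xe8 ye21 ze1) (ke xe17 ye29 ze54) (ke xe13 ye1 ze29)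 (ke xe25 ye39 ze24) (ke xe12 ye28 ze32) (ke xe17 ye16 ze1) (ke xe21 ye45 ze13) (ke xe14 ye21 ze9) (ke xe21 ye43 ze24) (ke xe25 ye39 ze31) (ke xe15 ye31 ze26) (ke xe20 ye59 ze12) (ke xe21 ye34 ze22) (ke xe16 ye50 ze46) (ke xe24 ye43 ze25) (ke xe25 ye39 ze34) (ke xe8 ye21 ze12) (ke xe8 ye21 ze13) (ke xe23 ye43 ze6) (ke xe23 ye26 ze30) (ke xe25 ye39 ze40) (ke xe25 ye39 ze44) (ke xe23 ye34 ze35) (ke xe13 ye6 ze23) (ke xe8 ye21 ze18) (ke xe21 ye32 ze61) (ke xe13 ye37 ze51) (ke xe25 ye39 ze47) (ke xe8 ye21 ze21) (ke xe8 ye21 ze22) (ke xe16 ye3 ze3) (ke xe15 ye49 ze53) (ke xe13 ye52 ze47) (ke xe14 ye6 ze11) (ke xe25 ye39 ze51) (ke xe23 ye26 ze18) (ke xe8 ye21 ze28) (ke xe8 ye21 ze29) (ke xe25 ye39 ze56) (ke xe8 ye21 ze30) (ke xe23 ye27 ze48) (ke xe11 ye26 ze58) (ke xe8 ye21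 ze33) (ke xe16 ye3 ze21) (ke xe25 ye38 ze12) (ke xe25 ye40 ze7) (ke xe25 ye40 ze11) (ke xe25 ye40 ze15) (ke xe25 ye40 ze1) (ke xe16 ye9 ze16) (ke xe25 ye37 ze43) (ke xe25 ye40 ze21) (ke xe19 ye5 ze37) (ke xe8 ye21 ze59) (ke xe10 ye15 ze47)) (@D3.rec (fun _ => Pt) (ke xe16 ye54 ze28) (ke xe8 ye22 ze34) (ke xe25 ye40 ze27) (ke xe9 ye3 ze43) (ke xe8 ye21 ze40) (ke xe18 ye55 ze18) (ke xe10 ye33 ze39) (ke xe25 ye40 ze35) (ke xe9 ye9 ze1) (ke xe25 ye40 ze31) (ke xe14 ye48 ze52) (ke xe16 ye0 ze0) (ke xe21 ye43 ze0) (ke xe24 ye9 ze45) (ke xe18 ye41 ze56) (ke xe11 ye40 ze6) (ke xe16 ye56 ze18) (ke xe14 ye20 ze14) (ke xe18 ye41 ze58) (ke xe8 ye21 ze54) (ke xe19 ye48 ze60) (ke xe10 ye43 ze55) (ke xe25 ye40 ze43) (ke xe25 ye40 ze46) (ke xe8 ye21 ze52) (ke xe9 ye8 ze61) (ke xe22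 ye27 ze11) (ke xe16 ye5 ze3) (ke xe12 ye40 ze31) (ke xe25 ye15 ze4) (ke xe8 ye21 ze55) (ke xe8 ye21 ze56) (ke xe8 ye22 ze48) (ke xe25 ye40 ze10) (ke xe25 ye40 ze53) (ke xe16 ye6 ze6) (ke xe8 ye22 ze54) (ke xe25 ye40 ze23) (ke xe25 ye41 ze3) (ke xe25 ye41 ze6) (ke xe25 ye41 ze7) (ke xe8 ye21 ze61) (ke xe25 ye38 ze41) (ke xe22 ye10 ze25) (ke xe16 ye5 ze19) (ke xe25 ye41 ze15) (ke xe8 ye22 ze2) (ke xe9 ye45 ze27) (ke xe19 ye14 ze43) (ke xe25 ye41 ze19) (ke xe14 ye21 ze6) (ke xe25 ye41 ze22) (ke xe8 ye22 ze5) (ke xe25 ye41 ze23) (ke xe25 ye41 ze26) (ke xe8 ye22 ze7) (ke xe25 ye41 ze31) (ke xe8 ye22 ze8) (ke xe24 ye37 ze49) (ke xe25 ye41 ze39) (ke xe8 ye22 ze12) (ke xe16 ye6 ze26)) (@D3.rec (fun _ => Pt) (ke xe25 ye41 ze44) (ke xe17 ye43 ze30) (ke xe25 ye41 ze46) (ke xe8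 ye22 ze10) (ke xe25 ye41 ze48) (ke xe25 ye41 ze49) (ke xe25 ye41 ze51) (ke xe8 ye22 ze11) (ke xe8 ye33 ze1) (ke xe23 ye23 ze19) (ke xe25 ye41 ze41) (ke xe17 ye36 ze20) (ke xe18 ye56 ze20) (ke xe16 ye6 ze35) (ke xe17 ye55 ze53) (ke xe14 ye54 ze53) (ke xe8 ye22 ze15) (ke xe18 ye56 ze23) (ke xe25 ye41 ze61) (ke xe21 ye19 ze14) (ke xe8 ye22 ze18) (ke xe10 ye36 ze56) (ke xe10 ye33 ze18) (ke xe15 ye52 ze4) (ke xe24 ye42 ze58) (ke xe8 ye22 ze21) (ke xe15 ye46 ze26) (ke xe16 ye5 ze54) (ke xe18 ye56 ze26) (ke xe18 ye56 ze27) (ke xe9 ye8 ze20) (ke xe10 ye43 ze15) (ke xe11 ye0 ze34) (ke xe8 ye22 ze30) (ke xe16 ye5 ze60) (ke xe22 ye27 ze12) (ke xe8 ye22 ze31) (ke xe8 ye22 ze32) (ke xe25 ye40 ze14) (ke xe23 ye27 ze58) (ke xe16 ye5 ze8) (ke xe25 ye40 ze24) (ke xe25 ye42 ze21) (ke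 xe25 ye42 ze23) (ke xe16 ye6 ze10) (ke xe25 ye42 ze25) (ke xe21 ye10 ze7) (ke xe25 ye42 ze26) (ke xe8 ye22 ze37) (ke xe25 ye39 ze54) (ke xe16 ye6 ze16) (ke xe23 ye23 ze34) (ke xe8 ye22 ze40) (ke xe23 ye23 ze13) (ke xe13 ye23 ze0) (ke xe8 ye22 ze42) (ke xe8 ye22 ze43) (ke xe25 ye42 ze32) (ke xe8 ye22 ze45) (ke xe22 ye17 ze48) (ke xe20 ye24 ze12) (ke xe8 ye22 ze49)) (@D3.rec (fun _ => Pt) (ke xe16 ye5 ze28) (ke xe25 ye42 ze44) (ke xe8 ye22 ze47) (ke xe22 ye10 ze23) (ke xe25 ye42 ze49) (ke xe25 ye42 ze51) (ke xe23 ye27 ze14) (ke xe23 ye29 ze15) (ke xe16 ye5 ze39) (ke xe25 ye42 ze57) (ke xe8 ye22 ze51) (ke xe25 ye40 ze59) (ke xe25 ye42 ze60) (ke xe12 ye16 ze45) (ke xe16 ye6 ze39) (ke xe18 ye48 ze48) (ke xe8 ye22 ze56) (ke xe25 ye43 ze0) (ke xe8 ye22 ze59) (ke xe18 ye37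 ze56) (ke xe16 ye6 ze46) (ke xe16 ye6 ze47) (ke xe12 ye4 ze53) (ke xe12 ye59 ze49) (ke xe8 ye23 ze5) (ke xe12 ye48 ze27) (ke xe15 ye45 ze26) (ke xe25 ye43 ze7) (ke xe21 ye21 ze36) (ke xe21 ye22 ze48) (ke xe25 ye43 ze11) (ke xe24 ye58 ze2) (ke xe25 ye43 ze13) (ke xe8 ye23 ze15) (ke xe17 ye25 ze39) (ke xe16 ye6 ze60) (ke xe21 ye36 ze4) (ke xe19 ye49 ze50) (ke xe8 ye23 ze17) (ke xe12 ye33 ze25) (ke xe25 ye43 ze19) (ke xe15 ye58 ze55) (ke xe25 ye43 ze21) (ke xe8 ye23 ze18) (ke xe25 ye43 ze26) (ke xe25 ye43 ze24) (ke xe9 ye24 ze58) (ke xe8 ye23 ze21) (ke xe22 ye1 ze55) (ke xe25 ye43 ze32) (ke xe12 ye0 ze12) (ke xe12 ye3 ze23) (ke xe14 ye39 ze20) (ke xe24 ye14 ze12) (ke xe8 ye23 ze29) (ke xe25 ye43 ze34) (ke xe8 ye23 ze30) (ke xe15 ye15 ze59) (ke xe21 ye21 ze7) (ke xe25 ye43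 ze37) (ke xe9 ye33 ze29) (ke xe25 ye43 ze39)) (@D3.rec (fun _ => Pt) (ke xe8 ye23 ze33) (ke xe12 ye11 ze47) (ke xe25 ye43 ze43) (ke xe21 ye40 ze1) (ke xe8 ye29 ze49) (ke xe9 ye28 ze12) (ke xe25 ye43 ze51) (ke xe17 ye21 ze44) (ke xe8 ye29 ze59) (ke xe25 ye43 ze55) (ke xe8 ye32 ze27) (ke xe25 ye43 ze58) (ke xe8 ye23 ze41) (ke xe9 ye32 ze43) (ke xe9 ye27 ze59) (ke xe25 ye43 ze60) (ke xe17 ye16 ze50) (ke xe17 ye17 ze59) (ke xe9 ye28 ze0) (ke xe12 ye15 ze48) (ke xe9 ye20 ze11) (ke xe12 ye33 ze15) (ke xe12 ye15 ze41) (ke xe8 ye23 ze46) (ke xe12 ye16 ze34) (ke xe25 ye44 ze10) (ke xe8 ye23 ze48) (ke xe8 ye32 ze48) (ke xe10 ye38 ze23) (ke xe23 ye33 ze29) (ke xe8 ye23 ze57) (ke xe19 ye59 ze46) (ke xe16 ye27 ze48) (ke xe13 ye48 ze7) (ke xe25 ye20 ze36) (ke xe25 ye44 ze19) (ke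 xe21 ye30 ze52) (ke xe25 ye44 ze21) (ke xe25 ye44 ze23) (ke xe21 ye30 ze17) (ke xe8 ye23 ze61) (ke xe8 ye24 ze0) (ke xe25 ye44 ze25) (ke xe25 ye44 ze26) (ke xe21 ye30 ze16) (ke xe12 ye58 ze35) (ke xe8 ye36 ze7) (ke xe8 ye24 ze2) (ke xe25 ye44 ze27) (ke xe12 ye24 ze20) (ke xe12 ye18 ze20) (ke xe8 ye24 ze4) (ke xe25 ye44 ze35) (ke xe8 ye24 ze7) (ke xe16 ye7 ze24) (ke xe8 ye25 ze40) (ke xe22 ye2 ze48) (ke xe21 ye27 ze54) (ke xe25 ye44 ze37) (ke xe19 ye11 ze8) (ke xe8 ye24 ze10) (ke xe8 ye24 ze11)) (@D3.rec (fun _ => Pt) (ke xe25 ye36 ze56) (ke xe12 ye43 ze38) (ke xe19 ye11 ze7) (ke xe8 ye25 ze41) (ke xe25 ye44 ze47) (ke xe15 ye27 ze33) (ke xe8 ye24 ze13) (ke xe11 ye10 ze46) (ke xe15 ye37 ze17) (ke xe21 ye43 ze42) (ke xe8 ye24 ze19) (ke xe16 ye7 ze55) (ke xe25 ye44 ze53)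 (ke xe16 ye9 ze4) (ke xe12 ye23 ze61) (ke xe25 ye44 ze59) (ke xe23 ye2 ze45) (ke xe21 ye36 ze26) (ke xe20 ye54 ze3) (ke xe8 ye24 ze23) (ke xe20 ye28 ze19) (ke xe8 ye25 ze37) (ke xe22 ye10 ze4) (ke xe13 ye53 ze23) (ke xe11 ye31 ze56) (ke xe18 ye0 ze52) (ke xe8 ye24 ze26) (ke xe8 ye24 ze27) (ke xe12 ye24 ze18) (ke xe11 ye51 ze25) (ke xe12 ye41 ze17) (ke xe8 ye24 ze32) (ke xe18 ye17 ze43) (ke xe8 ye24 ze33) (ke xe20 ye39 ze47) (ke xe8 ye24 ze34) (ke xe17 ye6 ze25) (ke xe11 ye51 ze34) (ke xe16 ye9 ze21) (ke xe16 ye7 ze48) (ke xe25 ye45 ze15) (ke xe8 ye24 ze37) (ke xe25 ye45 ze16) (ke xe15 ye36 ze38) (ke xe16 ye7 ze56) (ke xe12 ye20 ze38) (ke xe25 ye45 ze18) (ke xe8 ye24 ze40) (ke xe25 ye36 ze53) (ke xe8 ye24 ze41) (ke xe8 ye24 ze42) (ke xe16 ye8 ze2) (ke xe8 ye24 ze45)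 (ke xe12 ye24 ze49) (ke xe12 ye50 ze5) (ke xe25 ye45 ze22) (ke xe8 ye24 ze46) (ke xe8 ye24 ze47) (ke xe24 ye45 ze44) (ke xe11 ye9 ze39) (ke xe15 ye6 ze49) (ke xe8 ye25 ze45)) (@D3.rec (fun _ => Pt) (ke xe17 ye44 ze56) (ke xe8 ye37 ze51) (ke xe11 ye9 ze35) (ke xe11 ye9 ze36) (ke xe9 ye43 ze43) (ke xe21 ye36 ze38) (ke xe15 ye34 ze52) (ke xe23 ye22 ze31) (ke xe12 ye24 ze16) (ke xe16 ye9 ze41) (ke xe8 ye25 ze3) (ke xe21 ye7 ze22) (ke xe8 ye25 ze7) (ke xe8 ye25 ze8) (ke xe25 ye45 ze34) (ke xe12 ye26 ze12) (ke xe12 ye39 ze60) (ke xe11 ye49 ze55) (ke xe24 ye45 ze46) (ke xe25 ye45 ze37) (ke xe8 ye25 ze14) (ke xe19 ye22 ze57) (ke xe21 ye51 ze54) (ke xe8 ye25 ze15) (ke xe8 ye25 ze16) (ke xe12 ye19 ze31) (ke xe25 ye45 ze41) (ke xe19 ye27 ze59) (ke xe10 ye50 ze23) (ke xe17 ye34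 ze53) (ke xe12 ye18 ze57) (ke xe12 ye37 ze11) (ke xe16 ye9 ze2) (ke xe15 ye36 ze36) (ke xe16 ye9 ze5) (ke xe9 ye40 ze49) (ke xe22 ye29 ze35) (ke xe14 ye49 ze56) (ke xe25 ye45 ze49) (ke xe8 ye25 ze24) (ke xe8 ye25 ze25) (ke xe20 ye21 ze57) (ke xe8 ye25 ze27) (ke xe13 ye58 ze18) (ke xe9 ye20 ze26) (ke xe9 ye20 ze22) (ke xe12 ye50 ze45) (ke xe17 ye15 ze52) (ke xe17 ye55 ze24) (ke xe8 ye25 ze35) (ke xe20 ye7 ze0) (ke xe10 ye12 ze3) (ke xe9 ye7 ze20) (ke xe15 ye43 ze38) (ke xe25 ye44 ze38) (ke xe19 ye59 ze18) (ke xe12 ye17 ze42) (ke xe12 ye17 ze54) (ke xe25 ye46 ze1) (ke xe25 ye46 ze2) (ke xe14 ye32 ze41) (ke xe17 ye35 ze49)) (@D3.rec (fun _ => Pt) (ke xe25 ye46 ze7) (ke xe8 ye25 ze47) (ke xe25 ye46 ze10) (ke xe8 ye25 ze48) (ke xe8 ye25 ze49) (ke xe9 ye14 ze47) (ke xe25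 ye46 ze13) (ke xe25 ye46 ze14) (ke xe8 ye25 ze54) (ke xe25 ye46 ze16) (ke xe8 ye25 ze56) (ke xe20 ye1 ze25) (ke xe25 ye46 ze19) (ke xe25 ye46 ze23) (ke xe8 ye25 ze58) (ke xe8 ye58 ze46) (ke xe8 ye25 ze59) (ke xe8 ye25 ze60) (ke xe19 ye58 ze53) (ke xe25 ye46 ze29) (ke xe23 ye44 ze47) (ke xe23 ye35 ze7) (ke xe8 ye25 ze61) (ke xe13 ye6 ze28) (ke xe14 ye0 ze5) (ke xe18 ye58 ze58) (ke xe23 ye31 ze58) (ke xe8 ye26 ze1) (ke xe25 ye46 ze37) (ke xe25 ye3 ze58) (ke xe15 ye11 ze54) (ke xe8 ye26 ze2) (ke xe15 ye14 ze25) (ke xe25 ye46 ze39) (ke xe8 ye26 ze4) (ke xe13 ye24 ze11) (ke xe8 ye26 ze5) (ke xe8 ye26 ze6) (ke xe13 ye51 ze12) (ke xe25 ye46 ze45) (ke xe22 ye18 ze25) (ke xe8 ye26 ze9) (ke xe15 ye30 ze51) (ke xe15 ye50 ze54) (ke xe15 ye30 ze61) (ke xe15 ye50 ze56) (ke xe25 ye46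 ze48) (ke xe25 ye46 ze49) (ke xe15 ye31 ze2) (ke xe9 ye2 ze5) (ke xe8 ye26 ze13) (ke xe8 ye26 ze15) (ke xe19 ye5 ze4) (ke xe18 ye46 ze7) (ke xe15 ye50 ze43) (ke xe25 ye46 ze51) (ke xe15 ye50 ze45) (ke xe25 ye46 ze53) (ke xe15 ye32 ze14) (ke xe20 ye11 ze53) (ke xe8 ye26 ze20) (ke xe8 ye26 ze48)) (@D3.rec (fun _ => Pt) (ke xe25 ye46 ze54) (ke xe8 ye27 ze1) (ke xe19 ye21 ze58) (ke xe14 ye43 ze15) (ke xe21 ye0 ze46) (ke xe21 ye13 ze46) (ke xe8 ye26 ze25) (ke xe18 ye27 ze60) (ke xe8 ye26 ze61) (ke xe19 ye35 ze50) (ke xe8 ye26 ze52) (ke xe19 ye35 ze9) (ke xe25 ye47 ze5) (ke xe14 ye48 ze19) (ke xe8 ye27 ze7) (ke xe25 ye47 ze8) (ke xe8 ye26 ze30) (ke xe25 ye47 ze12) (ke xe8 ye26 ze32) (ke xe15 ye15 ze3) (ke xe16 ye18 ze58) (ke xe15 ye52 ze30) (ke xe15 ye24 ze60) (ke xe22 ye25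 ze14) (ke xe25 ye47 ze16) (ke xe8 ye26 ze39) (ke xe25 ye19 ze39) (ke xe16 ye13 ze38) (ke xe20 ye28 ze60) (ke xe8 ye26 ze42) (ke xe25 ye47 ze20) (ke xe24 ye14 ze33) (ke xe21 ye9 ze51) (ke xe8 ye26 ze44) (ke xe25 ye47 ze24) (ke xe15 ye55 ze28) (ke xe23 ye12 ze56) (ke xe25 ye47 ze25) (ke xe8 ye26 ze50) (ke xe10 ye24 ze52) (ke xe25 ye47 ze26) (ke xe10 ye9 ze29) (ke xe8 ye26 ze53) (ke xe25 ye47 ze27) (ke xe16 ye40 ze45) (ke xe19 ye16 ze5) (ke xe25 ye47 ze29) (ke xe25 ye47 ze31) (ke xe8 ye26 ze57) (ke xe8 ye26 ze58) (ke xe25 ye36 ze1) (ke xe10 ye25 ze6) (ke xe12 ye11 ze58) (ke xe8 ye26 ze60) (ke xe10 ye44 ze3) (ke xe10 ye24 ze15) (ke xe25 ye47 ze40) (ke xe10 ye24 ze14) (ke xe15 ye56 ze16) (ke xe25 ye47 ze42) (ke xe25 ye47 ze43) (ke xe23 ye55 ze12)) (@D3.rec (fun _ => Pt)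 (ke xe8 ye27 ze2) (ke xe8 ye27 ze3) (ke xe25 ye36 ze2) (ke xe10 ye53 ze34) (ke xe15 ye45 ze23) (ke xe25 ye47 ze47) (ke xe25 ye47 ze51) (ke xe25 ye47 ze53) (ke xe19 ye3 ze18) (ke xe8 ye27 ze5) (ke xe25 ye47 ze57) (ke xe25 ye47 ze60) (ke xe25 ye48 ze0) (ke xe8 ye27 ze6) (ke xe25 ye48 ze6) (ke xe17 ye3 ze49) (ke xe20 ye27 ze23) (ke xe25 ye48 ze12) (ke xe8 ye27 ze8) (ke xe10 ye34 ze20) (ke xe14 ye18 ze17) (ke xe15 ye16 ze41) (ke xe8 ye27 ze11) (ke xe25 ye48 ze22) (ke xe10 ye21 ze37) (ke xe19 ye6 ze52) (ke xe8 ye27 ze13) (ke xe12 ye15 ze47) (ke xe19 ye57 ze4) (ke xe8 ye27 ze15) (ke xe15 ye51 ze21) (ke xe8 ye27 ze16) (ke xe25 ye48 ze30) (ke xe15 ye23 ze3) (ke xe20 ye43 ze20) (ke xe25 ye48 ze34) (ke xe8 ye27 ze18) (ke xe8 ye27 ze39) (ke xe25 ye13 ze42) (ke xe25 ye48 ze37)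 (ke xe15 ye17 ze57) (ke xe8 ye27 ze21) (ke xe25 ye13 ze14) (ke xe8 ye27 ze58) (ke xe25 ye48 ze45) (ke xe17 ye39 ze2) (ke xe8 ye27 ze23) (ke xe8 ye27 ze24) (ke xe8 ye28 ze11) (ke xe20 ye3 ze39) (ke xe25 ye48 ze48) (ke xe14 ye51 ze2) (ke xe16 ye9 ze56) (ke xe19 ye16 ze27) (ke xe25 ye48 ze56) (ke xe25 ye48 ze57) (ke xe25 ye48 ze59) (ke xe25 ye48 ze61) (ke xe8 ye27 ze29) (ke xe22 ye38 ze40) (ke xe14 ye49 ze23) (ke xe22 ye38 ze29)) (@D3.rec (fun _ => Pt) (ke xe25 ye27 ze51) (ke xe8 ye27 ze30) (ke xe21 ye45 ze34) (ke xe21 ye34 ze46) (ke xe21 ye27 ze25) (ke xe8 ye27 ze33) (ke xe25 ye27 ze24) (ke xe15 ye58 ze4) (ke xe25 ye7 ze46) (ke xe25 ye7 ze45) (ke xe25 ye49 ze9) (ke xe25 ye49 ze12) (ke xe8 ye27 ze36) (ke xe25 ye49 ze19) (ke xe24 ye23 ze18) (ke xe8 ye27 ze37) (ke xe25 ye48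 ze39) (ke xe8 ye47 ze38) (ke xe25 ye49 ze24) (ke xe25 ye49 ze25) (ke xe8 ye27 ze40) (ke xe25 ye49 ze26) (ke xe16 ye28 ze49) (ke xe15 ye54 ze12) (ke xe25 ye49 ze28) (ke xe25 ye49 ze29) (ke xe8 ye27 ze45) (ke xe25 ye49 ze30) (ke xe15 ye3 ze15) (ke xe15 ye20 ze47) (ke xe25 ye49 ze32) (ke xe25 ye49 ze33) (ke xe14 ye50 ze55) (ke xe24 ye42 ze61) (ke xe8 ye27 ze51) (ke xe8 ye27 ze52) (ke xe25 ye49 ze37) (ke xe24 ye42 ze60) (ke xe14 ye50 ze30) (ke xe14 ye48 ze4) (ke xe8 ye28 ze4) (ke xe25 ye49 ze39) (ke xe25 ye49 ze41) (ke xe8 ye27 ze55) (ke xe19 ye38 ze38) (ke xe25 ye49 ze42) (ke xe8 ye27 ze57) (ke xe25 ye48 ze43) (ke xe24 ye35 ze43) (ke xe8 ye27 ze59) (ke xe14 ye50 ze53) (ke xe25 ye49 ze45) (ke xe10 ye52 ze48) (ke xe14 ye50 ze34) (ke xe19 ye57 ze1) (ke xe15 ye15 ze40) (ke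 xe12 ye41 ze42) (ke xe25 ye49 ze50) (ke xe8 ye28 ze0) (ke xe25 ye49 ze53) (ke xe25 ye49 ze56) (ke xe11 ye9 ze24)) (@D3.rec (fun _ => Pt) (ke xe20 ye59 ze26) (ke xe18 ye4 ze30) (ke xe15 ye11 ze5) (ke xe12 ye26 ze34) (ke xe18 ye26 ze36) (ke xe25 ye50 ze0) (ke xe16 ye26 ze58) (ke xe8 ye28 ze10) (ke xe25 ye48 ze49) (ke xe25 ye50 ze3) (ke xe25 ye50 ze5) (ke xe8 ye47 ze45) (ke xe15 ye53 ze23) (ke xe25 ye50 ze6) (ke xe8 ye28 ze16) (ke xe25 ye50 ze8) (ke xe25 ye50 ze10) (ke xe8 ye28 ze17) (ke xe25 ye50 ze13) (ke xe8 ye28 ze18) (ke xe25 ye48 ze58) (ke xe14 ye48 ze47) (ke xe25 ye50 ze22) (ke xe8 ye28 ze19) (ke xe25 ye50 ze25) (ke xe25 ye50 ze29) (ke xe8 ye28 ze20) (ke xe25 ye49 ze5) (ke xe25 ye50 ze30) (ke xe25 ye11 ze27) (ke xe8 ye28 ze22) (ke xe25 ye49 ze4) (ke xe25 ye50 ze36)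 (ke xe21 ye57 ze49) (ke xe11 ye41 ze34) (ke xe8 ye28 ze23) (ke xe25 ye50 ze43) (ke xe8 ye28 ze24) (ke xe25 ye50 ze48) (ke xe8 ye28 ze25) (ke xe25 ye49 ze1) (ke xe25 ye50 ze49) (ke xe25 ye10 ze34) (ke xe8 ye28 ze27) (ke xe25 ye50 ze57) (ke xe22 ye50 ze47) (ke xe8 ye28 ze28) (ke xe20 ye15 ze25) (ke xe8 ye28 ze29) (ke xe25 ye51 ze4) (ke xe25 ye51 ze7) (ke xe9 ye33 ze38) (ke xe25 ye51 ze10) (ke xe25 ye51 ze13) (ke xe9 ye33 ze37) (ke xe8 ye28 ze32) (ke xe25 ye51 ze15) (ke xe25 ye51 ze17) (ke xe8 ye28 ze33) (ke xe25 ye51 ze18) (ke xe8 ye30 ze11) (ke xe9 ye33 ze41)) (@D3.rec (fun _ => Pt) (ke xe19 ye57 ze14) (ke xe11 ye4 ze61) (ke xe25 ye51 ze21) (ke xe14 ye17 ze55) (ke xe14 ye25 ze8) (ke xe20 ye11 ze38) (ke xe8 ye28 ze40) (ke xe8 ye28 ze41) (ke xe10 ye46 ze10) (ke xe19 ye53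 ze33) (ke xe23 ye54 ze60) (ke xe10 ye46 ze45) (ke xe10 ye46 ze12) (ke xe19 ye53 ze32) (ke xe25 ye51 ze31) (ke xe10 ye53 ze26) (ke xe23 ye10 ze54) (ke xe13 ye23 ze3) (ke xe8 ye28 ze46) (ke xe8 ye28 ze47) (ke xe8 ye57 ze55) (ke xe14 ye23 ze13) (ke xe25 ye51 ze35) (ke xe14 ye23 ze17) (ke xe8 ye57 ze60) (ke xe12 ye33 ze46) (ke xe8 ye28 ze50) (ke xe25 ye51 ze45) (ke xe15 ye51 ze35) (ke xe22 ye25 ze16) (ke xe22 ye25 ze33) (ke xe8 ye28 ze52) (ke xe8 ye28 ze53) (ke xe22 ye25 ze24) (ke xe13 ye45 ze55) (ke xe10 ye54 ze57) (ke xe25 ye51 ze49) (ke xe13 ye45 ze53) (ke xe25 ye51 ze50) (ke xe8 ye28 ze55) (ke xe8 ye28 ze56) (ke xe13 ye20 ze24) (ke xe15 ye56 ze26) (ke xe25 ye51 ze54) (ke xe25 ye51 ze56) (ke xe25 ye51 ze57) (ke xe24 ye38 ze20) (ke xe14 ye40 ze58) (ke xe8 ye28 ze58) (ke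 xe14 ye29 ze30) (ke xe23 ye10 ze58) (ke xe13 ye16 ze61) (ke xe16 ye24 ze50) (ke xe25 ye52 ze4) (ke xe25 ye52 ze7) (ke xe16 ye24 ze31) (ke xe19 ye17 ze55) (ke xe8 ye29 ze0) (ke xe20 ye47 ze39) (ke xe8 ye29 ze1) (ke xe17 ye24 ze24) (ke xe17 ye15 ze4)) (@D3.rec (fun _ => Pt) (ke xe8 ye29 ze4) (ke xe9 ye24 ze18) (ke xe25 ye52 ze21) (ke xe25 ye52 ze18) (ke xe8 ye29 ze6) (ke xe15 ye19 ze55) (ke xe25 ye52 ze28) (ke xe24 ye3 ze50) (ke xe18 ye44 ze15) (ke xe19 ye42 ze35) (ke xe8 ye29 ze9) (ke xe24 ye3 ze10) (ke xe25 ye52 ze37) (ke xe17 ye18 ze52) (ke xe8 ye29 ze11) (ke xe17 ye18 ze53) (ke xe15 ye51 ze58) (ke xe25 ye52 ze42) (ke xe19 ye42 ze26) (ke xe25 ye52 ze43) (ke xe16 ye40 ze38) (ke xe25 ye52 ze44) (ke xe25 ye52 ze45) (ke xe8 ye29 ze19) (ke xe8 ye29 ze20) (ke xe25 ye52 ze50)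 (ke xe15 ye55 ze42) (ke xe17 ye51 ze7) (ke xe25 ye52 ze58) (ke xe25 ye52 ze59) (ke xe25 ye52 ze60) (ke xe25 ye53 ze1) (ke xe25 ye53 ze3) (ke xe25 ye53 ze6) (ke xe8 ye29 ze25) (ke xe20 ye30 ze35) (ke xe20 ye1 ze46) (ke xe11 ye22 ze47) (ke xe20 ye52 ze30) (ke xe8 ye29 ze29) (ke xe25 ye53 ze14) (ke xe8 ye29 ze30) (ke xe11 ye45 ze52) (ke xe8 ye29 ze31) (ke xe18 ye48 ze54) (ke xe14 ye57 ze13) (ke xe25 ye36 ze55) (ke xe8 ye30 ze53) (ke xe15 ye37 ze25) (ke xe21 ye45 ze38) (ke xe15 ye37 ze8) (ke xe21 ye27 ze18) (ke xe25 ye53 ze27) (ke xe8 ye29 ze36) (ke xe8 ye29 ze37) (ke xe15 ye33 ze30) (ke xe8 ye31 ze5) (ke xe15 ye16 ze13) (ke xe23 ye22 ze16) (ke xe25 ye13 ze35) (ke xe25 ye53 ze29) (ke xe22 ye54 ze55)) (@D3.rec (fun _ => Pt) (ke xe8 ye29 ze41) (ke xe8 ye29 ze42) (ke xe15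 ye35 ze22) (ke xe15 ye35 ze12) (ke xe14 ye57 ze32) (ke xe19 ye32 ze3) (ke xe8 ye31 ze35) (ke xe25 ye53 ze34) (ke xe8 ye29 ze47) (ke xe25 ye53 ze37) (ke xe15 ye33 ze47) (ke xe21 ye40 ze2) (ke xe25 ye43 ze46) (ke xe8 ye29 ze48) (ke xe15 ye34 ze3) (ke xe25 ye53 ze40) (ke xe8 ye31 ze45) (ke xe19 ye29 ze8) (ke xe15 ye33 ze58) (ke xe11 ye56 ze15) (ke xe17 ye28 ze10) (ke xe25 ye53 ze43) (ke xe8 ye29 ze53) (ke xe8 ye29 ze54) (ke xe21 ye0 ze27) (ke xe15 ye33 ze52) (ke xe25 ye53 ze49) (ke xe8 ye31 ze23) (ke xe19 ye36 ze42) (ke xe25 ye53 ze56) (ke xe15 ye34 ze9) (ke xe25 ye53 ze59) (ke xe25 ye43 ze53) (ke xe8 ye29 ze58) (ke xe15 ye34 ze16) (ke xe25 ye54 ze5) (ke xe25 ye54 ze7) (ke xe25 ye54 ze11) (ke xe8 ye29 ze61) (ke xe8 ye30 ze0) (ke xe25 ye53 ze51) (ke xe8 ye32 ze0) (ke xe25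 ye54 ze20) (ke xe25 ye54 ze23) (ke xe25 ye13 ze26) (ke xe25 ye54 ze19) (ke xe8 ye30 ze2) (ke xe25 ye54 ze29) (ke xe9 ye33 ze12) (ke xe25 ye54 ze32) (ke xe25 ye54 ze34) (ke xe8 ye30 ze3) (ke xe22 ye7 ze25) (ke xe25 ye54 ze39) (ke xe25 ye54 ze42) (ke xe18 ye14 ze45) (ke xe8 ye30 ze5) (ke xe25 ye54 ze48) (ke xe8 ye30 ze7) (ke xe13 ye39 ze52) (ke xe8 ye30 ze8) (ke xe25 ye54 ze51)) (@D3.rec (fun _ => Pt) (ke xe8 ye32 ze16) (ke xe25 ye48 ze18) (ke xe25 ye54 ze54) (ke xe21 ye5 ze22) (ke xe15 ye53 ze7) (ke xe20 ye2 ze36) (ke xe8 ye30 ze12) (ke xe25 ye54 ze60) (ke xe15 ye35 ze11) (ke xe15 ye33 ze44) (ke xe16 ye2 ze34) (ke xe15 ye35 ze15) (ke xe9 ye27 ze55) (ke xe16 ye43 ze20) (ke xe8 ye30 ze17) (ke xe8 ye30 ze18) (ke xe19 ye26 ze7) (ke xe22 ye2 ze59) (ke xe22 ye9 ze29) (ke xe25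 ye55 ze15) (ke xe25 ye55 ze18) (ke xe8 ye30 ze20) (ke xe8 ye30 ze21) (ke xe10 ye50 ze36) (ke xe25 ye55 ze25) (ke xe25 ye55 ze27) (ke xe25 ye55 ze30) (ke xe8 ye30 ze23) (ke xe8 ye30 ze24) (ke xe25 ye55 ze34) (ke xe25 ye55 ze38) (ke xe25 ye55 ze40) (ke xe25 ye55 ze41) (ke xe8 ye30 ze26) (ke xe25 ye55 ze45) (ke xe12 ye24 ze61) (ke xe11 ye47 ze53) (ke xe8 ye30 ze27) (ke xe25 ye55 ze46) (ke xe8 ye30 ze28) (ke xe25 ye55 ze51) (ke xe25 ye55 ze54) (ke xe19 ye24 ze47) (ke xe8 ye30 ze29) (ke xe15 ye35 ze42) (ke xe11 ye56 ze54) (ke xe22 ye0 ze37) (ke xe25 ye26 ze3) (ke xe25 ye56 ze2) (ke xe8 ye30 ze31) (ke xe18 ye55 ze35) (ke xe8 ye30 ze32) (ke xe25 ye56 ze8) (ke xe8 ye30 ze35) (ke xe25 ye56 ze9) (ke xe15 ye46 ze41) (ke xe11 ye55 ze28) (ke xe15 ye36 ze2) (ke xe8 ye30 ze39) (ke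 xe19 ye41 ze7) (ke xe18 ye44 ze54) (ke xe15 ye36 ze18)) (@D3.rec (fun _ => Pt) (ke xe25 ye56 ze16) (ke xe22 ye3 ze38) (ke xe21 ye44 ze28) (ke xe21 ye44 ze9) (ke xe8 ye30 ze48) (ke xe8 ye30 ze49) (ke xe17 ye9 ze25) (ke xe25 ye56 ze22) (ke xe25 ye56 ze24) (ke xe14 ye17 ze57) (ke xe25 ye56 ze27) (ke xe17 ye16 ze12) (ke xe25 ye56 ze29) (ke xe8 ye30 ze58) (ke xe17 ye29 ze30) (ke xe25 ye56 ze31) (ke xe8 ye30 ze59) (ke xe24 ye5 ze41) (ke xe8 ye30 ze60) (ke xe25 ye56 ze38) (ke xe25 ye56 ze40) (ke xe25 ye56 ze43) (ke xe8 ye30 ze61) (ke xe21 ye58 ze57) (ke xe25 ye26 ze9) (ke xe21 ye27 ze17) (ke xe25 ye56 ze48) (ke xe23 ye6 ze5) (ke xe21 ye23 ze38) (ke xe10 ye50 ze29) (ke xe10 ye43 ze40) (ke xe8 ye31 ze6) (ke xe15 ye33 ze23) (ke xe25 ye56 ze51) (ke xe25 ye56 ze54) (ke xe15 ye17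 ze12) (ke xe8 ye31 ze9) (ke xe25 ye56 ze3) (ke xe17 ye28 ze4) (ke xe15 ye37 ze53) (ke xe25 ye48 ze44) (ke xe18 ye7 ze0) (ke xe8 ye31 ze12) (ke xe15 ye37 ze57) (ke xe15 ye37 ze58) (ke xe25 ye33 ze7) (ke xe8 ye31 ze14) (ke xe20 ye18 ze6) (ke xe25 ye57 ze2) (ke xe25 ye34 ze47) (ke xe8 ye31 ze15) (ke xe25 ye57 ze6) (ke xe25 ye57 ze9) (ke xe8 ye35 ze38) (ke xe25 ye53 ze47) (ke xe13 ye42 ze28) (ke xe8 ye31 ze17) (ke xe25 ye57 ze15) (ke xe8 ye31 ze18) (ke xe19 ye26 ze13) (ke xe17 ye25 ze10) (ke xe13 ye0 ze41))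
def f_e_16 : D2 → D3 → Pt := @D2.rec (fun _ => D3 → Pt) (@D3.rec (fun _ => Pt) (ke xe15 ye44 ze11) (ke xe25 ye57 ze25) (ke xe8 ye31 ze21) (ke xe15 ye39 ze6) (ke xe16 ye3 ze41) (ke xe8 ye57 ze45) (ke xe8 ye31 ze26) (ke xe15 ye38 ze30) (ke xe21 ye30 ze24) (ke xe12 ye26 ze49) (ke xe25 ye57 ze28) (ke xe8 ye31 ze30) (ke xe8 ye31 ze31) (ke xe25 ye57 ze31) (ke xe17 ye42 ze9) (ke xe8 ye31 ze33) (ke xe15 ye38 ze42) (ke xe15 ye38 ze43) (ke xe8 ye31 ze37) (ke xe25 ye57 ze35) (ke xe25 ye57 ze37) (ke xe20 ye50 ze23) (ke xe22 ye36 ze38) (ke xe8 ye31 ze39) (ke xe25 ye57 ze39) (ke xe17 ye20 ze24) (ke xe25 ye57 ze44) (ke xe8 ye31 ze44) (ke xe8 ye35 ze46) (ke xe25 ye57 ze48) (ke xe19 ye54 ze25) (ke xe10 ye56 ze50) (ke xe8 ye31 ze42) (ke xe15 ye38 ze13) (ke xe21 ye49 ze27) (ke xe8 ye32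 ze9) (ke xe12 ye11 ze50) (ke xe19 ye44 ze41) (ke xe8 ye31 ze46) (ke xe15 ye38 ze22) (ke xe25 ye57 ze58) (ke xe15 ye39 ze9) (ke xe25 ye57 ze61) (ke xe10 ye23 ze40) (ke xe25 ye36 ze9) (ke xe10 ye25 ze7) (ke xe25 ye58 ze6) (ke xe25 ye58 ze9) (ke xe25 ye58 ze10) (ke xe8 ye31 ze51) (ke xe15 ye39 ze17) (ke xe15 ye39 ze18) (ke xe25 ye58 ze15) (ke xe21 ye46 ze36) (ke xe25 ye58 ze18) (ke xe8 ye31 ze53) (ke xe25 ye58 ze21) (ke xe15 ye39 ze24) (ke xe21 ye8 ze37) (ke xe8 ye31 ze54) (ke xe20 ye49 ze50) (ke xe25 ye58 ze27)) (@D3.rec (fun _ => Pt) (ke xe25 ye58 ze29) (ke xe8 ye31 ze55) (ke xe25 ye58 ze31) (ke xe24 ye43 ze29) (ke xe8 ye32 ze11) (ke xe25 ye54 ze15) (ke xe8 ye31 ze57) (ke xe15 ye6 ze44) (ke xe18 ye44 ze18) (ke xe25 ye58 ze33) (ke xe8 ye31 ze59) (ke xe23 ye56 ze1) (ke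 xe15 ye39 ze46) (ke xe15 ye39 ze47) (ke xe19 ye24 ze48) (ke xe24 ye7 ze32) (ke xe25 ye58 ze43) (ke xe25 ye58 ze45) (ke xe8 ye32 ze2) (ke xe23 ye22 ze36) (ke xe25 ye58 ze48) (ke xe8 ye32 ze3) (ke xe14 ye57 ze40) (ke xe18 ye6 ze60) (ke xe24 ye56 ze1) (ke xe8 ye32 ze4) (ke xe24 ye36 ze34) (ke xe24 ye34 ze61) (ke xe8 ye32 ze5) (ke xe25 ye59 ze0) (ke xe25 ye59 ze2) (ke xe25 ye57 ze53) (ke xe17 ye21 ze43) (ke xe25 ye29 ze0) (ke xe15 ye39 ze34) (ke xe9 ye35 ze5) (ke xe9 ye27 ze18) (ke xe19 ye3 ze13) (ke xe8 ye32 ze14) (ke xe9 ye15 ze50) (ke xe15 ye40 ze13) (ke xe21 ye46 ze34) (ke xe12 ye4 ze51) (ke xe15 ye40 ze22) (ke xe21 ye17 ze19) (ke xe12 ye19 ze49) (ke xe25 ye58 ze60) (ke xe10 ye24 ze51) (ke xe25 ye54 ze52) (ke xe19 ye28 ze13) (ke xe13 ye43 ze15) (ke xe25 ye59 ze18) (ke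 xe8 ye32 ze17) (ke xe25 ye48 ze26) (ke xe25 ye59 ze24) (ke xe9 ye27 ze38) (ke xe25 ye59 ze29) (ke xe25 ye59 ze33) (ke xe8 ye32 ze20) (ke xe13 ye43 ze9) (ke xe25 ye59 ze36) (ke xe25 ye59 ze20)) (@D3.rec (fun _ => Pt) (ke xe25 ye59 ze40) (ke xe23 ye57 ze46) (ke xe19 ye6 ze57) (ke xe8 ye32 ze24) (ke xe25 ye59 ze44) (ke xe22 ye7 ze26) (ke xe10 ye53 ze43) (ke xe25 ye47 ze0) (ke xe13 ye42 ze15) (ke xe25 ye59 ze51) (ke xe21 ye5 ze36) (ke xe8 ye32 ze26) (ke xe25 ye43 ze56) (ke xe25 ye35 ze47) (ke xe12 ye0 ze29) (ke xe8 ye32 ze28) (ke xe25 ye9 ze40) (ke xe25 ye30 ze56) (ke xe8 ye32 ze32) (ke xe26 ye0 ze2) (ke xe8 ye32 ze30) (ke xe26 ye0 ze3) (ke xe8 ye32 ze31) (ke xe21 ye9 ze58) (ke xe15 ye9 ze21) (ke xe26 ye0 ze7) (ke xe26 ye0 ze9) (ke xe8 ye32 ze33) (ke xe16 ye3 ze45) (ke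 xe10 ye37 ze45) (ke xe8 ye32 ze36) (ke xe17 ye27 ze32) (ke xe26 ye0 ze11) (ke xe8 ye32 ze37) (ke xe15 ye58 ze10) (ke xe14 ye55 ze58) (ke xe8 ye32 ze41) (ke xe8 ye32 ze42) (ke xe24 ye32 ze23) (ke xe26 ye0 ze13) (ke xe14 ye8 ze37) (ke xe13 ye13 ze2) (ke xe8 ye32 ze44) (ke xe8 ye32 ze45) (ke xe18 ye42 ze28) (ke xe15 ye41 ze44) (ke xe25 ye44 ze12) (ke xe21 ye6 ze4) (ke xe8 ye32 ze50) (ke xe8 ye32 ze51) (ke xe26 ye0 ze22) (ke xe15 ye42 ze6) (ke xe23 ye42 ze20) (ke xe8 ye34 ze6) (ke xe25 ye37 ze7) (ke xe10 ye30 ze35) (ke xe10 ye53 ze20) (ke xe16 ye16 ze2) (ke xe14 ye44 ze42) (ke xe22 ye31 ze10) (ke xe8 ye33 ze42) (ke xe15 ye42 ze61)) (@D3.rec (fun _ => Pt) (ke xe10 ye38 ze29) (ke xe26 ye0 ze29) (ke xe26 ye0 ze31) (ke xe15 ye43 ze37) (ke xe8 ye34 ze2) (ke xe12 ye21 ze39) (ke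 xe26 ye0 ze34) (ke xe24 ye35 ze4) (ke xe8 ye33 ze3) (ke xe26 ye0 ze35) (ke xe8 ye33 ze5) (ke xe26 ye0 ze36) (ke xe22 ye38 ze61) (ke xe8 ye33 ze8) (ke xe25 ye45 ze57) (ke xe8 ye33 ze9) (ke xe20 ye23 ze32) (ke xe8 ye33 ze10) (ke xe26 ye0 ze40) (ke xe21 ye3 ze55) (ke xe8 ye33 ze14) (ke xe15 ye43 ze50) (ke xe15 ye42 ze50) (ke xe26 ye0 ze46) (ke xe26 ye0 ze47) (ke xe25 ye46 ze32) (ke xe8 ye33 ze13) (ke xe22 ye17 ze51) (ke xe26 ye0 ze52) (ke xe9 ye7 ze39) (ke xe15 ye42 ze18) (ke xe15 ye43 ze0) (ke xe26 ye0 ze58) (ke xe8 ye50 ze14) (ke xe8 ye33 ze17) (ke xe26 ye0 ze59) (ke xe8 ye33 ze18) (ke xe25 ye46 ze35) (ke xe8 ye33 ze19) (ke xe10 ye28 ze24) (ke xe9 ye25 ze0) (ke xe16 ye0 ze4) (ke xe25 ye56 ze11) (ke xe10 ye51 ze58) (ke xe8 ye42 ze28) (ke xe16 ye2 ze28) (ke xe10 ye51 ze55)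 (ke xe16 ye7 ze10) (ke xe12 ye28 ze41) (ke xe12 ye28 ze44) (ke xe12 ye16 ze28) (ke xe12 ye40 ze18) (ke xe17 ye55 ze41) (ke xe12 ye51 ze25) (ke xe14 ye28 ze41) (ke xe14 ye18 ze54) (ke xe8 ye33 ze32) (ke xe15 ye37 ze23) (ke xe26 ye1 ze6) (ke xe12 ye48 ze30) (ke xe21 ye18 ze58) (ke xe26 ye1 ze7)) (@D3.rec (fun _ => Pt) (ke xe19 ye44 ze59) (ke xe8 ye33 ze35) (ke xe8 ye33 ze36) (ke xe19 ye55 ze33) (ke xe24 ye43 ze20) (ke xe14 ye48 ze25) (ke xe8 ye33 ze39) (ke xe14 ye48 ze24) (ke xe26 ye1 ze20) (ke xe8 ye33 ze41) (ke xe26 ye0 ze27) (ke xe12 ye18 ze52) (ke xe20 ye28 ze33) (ke xe26 ye1 ze27) (ke xe8 ye33 ze43) (ke xe8 ye33 ze44) (ke xe26 ye0 ze16) (ke xe26 ye1 ze29) (ke xe24 ye35 ze55) (ke xe12 ye18 ze34) (ke xe26 ye1 ze36) (ke xe17 ye53 ze50) (ke xe8 ye33 ze46) (ke xe8 ye33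 ze47) (ke xe26 ye0 ze60) (ke xe10 ye38 ze26) (ke xe16 ye49 ze4) (ke xe15 ye42 ze20) (ke xe10 ye38 ze24) (ke xe8 ye52 ze61) (ke xe21 ye24 ze34) (ke xe23 ye23 ze36) (ke xe26 ye1 ze44) (ke xe8 ye33 ze51) (ke xe25 ye41 ze29) (ke xe24 ye40 ze53) (ke xe23 ye2 ze52) (ke xe26 ye1 ze49) (ke xe8 ye33 ze53) (ke xe19 ye47 ze40) (ke xe12 ye42 ze4) (ke xe12 ye42 ze0) (ke xe17 ye13 ze51) (ke xe26 ye1 ze56) (ke xe8 ye33 ze60) (ke xe9 ye51 ze46) (ke xe8 ye33 ze61) (ke xe26 ye1 ze61) (ke xe8 ye34 ze0) (ke xe22 ye5 ze23) (ke xe26 ye2 ze3) (ke xe8 ye34 ze3) (ke xe15 ye42 ze49) (ke xe25 ye40 ze56) (ke xe20 ye53 ze26) (ke xe14 ye9 ze37) (ke xe14 ye17 ze8) (ke xe14 ye5 ze36) (ke xe12 ye25 ze21) (ke xe12 ye26 ze6) (ke xe24 ye21 ze8) (ke xe9 ye28 ze49)) (@D3.rec (fun _ => Pt) (ke xe26 ye2 ze9)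 (ke xe8 ye34 ze9) (ke xe14 ye56 ze21) (ke xe15 ye44 ze27) (ke xe8 ye34 ze12) (ke xe8 ye35 ze4) (ke xe23 ye35 ze27) (ke xe12 ye54 ze30) (ke xe15 ye45 ze40) (ke xe8 ye35 ze10) (ke xe16 ye35 ze3) (ke xe14 ye55 ze52) (ke xe21 ye34 ze34) (ke xe26 ye2 ze15) (ke xe26 ye2 ze16) (ke xe8 ye34 ze18) (ke xe16 ye11 ze39) (ke xe26 ye2 ze19) (ke xe26 ye2 ze21) (ke xe15 ye44 ze44) (ke xe26 ye2 ze23) (ke xe8 ye34 ze21) (ke xe8 ye34 ze24) (ke xe26 ye2 ze27) (ke xe17 ye16 ze20) (ke xe26 ye2 ze32) (ke xe23 ye35 ze4) (ke xe8 ye34 ze30) (ke xe15 ye46 ze0) (ke xe26 ye2 ze36) (ke xe11 ye5 ze38) (ke xe8 ye34 ze28) (ke xe21 ye41 ze40) (ke xe9 ye10 ze53) (ke xe8 ye34 ze29) (ke xe26 ye2 ze44) (ke xe8 ye58 ze50) (ke xe20 ye29 ze54) (ke xe18 ye49 ze21) (ke xe15 ye46 ze8) (ke xe24 ye41 ze31) (ke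 xe9 ye0 ze49) (ke xe8 ye34 ze33) (ke xe18 ye49 ze24) (ke xe26 ye2 ze51) (ke xe8 ye34 ze36) (ke xe24 ye41 ze32) (ke xe9 ye9 ze15) (ke xe8 ye34 ze37) (ke xe8 ye55 ze40) (ke xe12 ye3 ze18) (ke xe24 ye43 ze48) (ke xe26 ye2 ze55) (ke xe8 ye34 ze40) (ke xe15 ye45 ze27) (ke xe12 ye14 ze34) (ke xe26 ye2 ze60) (ke xe18 ye49 ze29) (ke xe12 ye24 ze53) (ke xe8 ye59 ze55) (ke xe15 ye45 ze34) (ke xe14 ye56 ze25)) (@D3.rec (fun _ => Pt) (ke xe12 ye0 ze56) (ke xe25 ye48 ze29) (ke xe8 ye34 ze51) (ke xe8 ye34 ze52) (ke xe23 ye35 ze26) (ke xe26 ye3 ze3) (ke xe15 ye44 ze35) (ke xe19 ye32 ze9) (ke xe19 ye16 ze31) (ke xe26 ye3 ze7) (ke xe15 ye45 ze44) (ke xe12 ye4 ze60) (ke xe21 ye23 ze45) (ke xe26 ye3 ze9) (ke xe8 ye34 ze57) (ke xe18 ye3 ze13) (ke xe15 ye45 ze50) (ke xe23 ye36 ze18) (ke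 xe8 ye34 ze60) (ke xe16 ye10 ze21) (ke xe24 ye23 ze1) (ke xe26 ye3 ze18) (ke xe8 ye35 ze1) (ke xe26 ye3 ze22) (ke xe24 ye22 ze60) (ke xe8 ye35 ze5) (ke xe15 ye44 ze61) (ke xe23 ye36 ze14) (ke xe8 ye35 ze3) (ke xe26 ye2 ze11) (ke xe26 ye3 ze32) (ke xe26 ye3 ze35) (ke xe26 ye3 ze26) (ke xe21 ye32 ze0) (ke xe8 ye35 ze7) (ke xe15 ye45 ze13) (ke xe13 ye54 ze57) (ke xe9 ye0 ze55) (ke xe9 ye0 ze50) (ke xe15 ye46 ze14) (ke xe8 ye35 ze12) (ke xe14 ye43 ze39) (ke xe8 ye35 ze13) (ke xe15 ye39 ze37) (ke xe8 ye35 ze17) (ke xe17 ye15 ze49) (ke xe15 ye46 ze20) (ke xe15 ye46 ze21) (ke xe8 ye35 ze22) (ke xe8 ye35 ze25) (ke xe21 ye20 ze38) (ke xe10 ye53 ze4) (ke xe12 ye20 ze50) (ke xe21 ye20 ze16) (ke xe21 ye34 ze3) (ke xe17 ye37 ze48) (ke xe26 ye3 ze43) (ke xe26 ye3 ze44) (ke xe8 ye35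 ze36) (ke xe17 ye20 ze19) (ke xe15 ye46 ze35) (ke xe25 ye56 ze61)) (@D3.rec (fun _ => Pt) (ke xe26 ye3 ze47) (ke xe8 ye35 ze39) (ke xe12 ye13 ze20) (ke xe26 ye3 ze49) (ke xe25 ye57 ze40) (ke xe10 ye54 ze3) (ke xe25 ye24 ze61) (ke xe12 ye34 ze29) (ke xe23 ye33 ze17) (ke xe8 ye35 ze49) (ke xe16 ye3 ze47) (ke xe24 ye32 ze28) (ke xe17 ye7 ze38) (ke xe8 ye35 ze56) (ke xe8 ye35 ze57) (ke xe26 ye3 ze58) (ke xe21 ye32 ze1) (ke xe8 ye35 ze59) (ke xe21 ye33 ze30) (ke xe18 ye34 ze56) (ke xe12 ye59 ze20) (ke xe21 ye50 ze46) (ke xe8 ye36 ze1) (ke xe17 ye41 ze45) (ke xe15 ye47 ze54) (ke xe8 ye37 ze30) (ke xe24 ye36 ze0) (ke xe21 ye34 ze50) (ke xe21 ye43 ze34) (ke xe8 ye36 ze4) (ke xe8 ye36 ze5) (ke xe15 ye24 ze23) (ke xe21 ye5 ze48) (ke xe9 ye32 ze38) (ke xe12 ye52 ze59) (ke xe26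 ye4 ze2) (ke xe8 ye36 ze10) (ke xe26 ye4 ze3) (ke xe12 ye29 ze34) (ke xe26 ye4 ze9) (ke xe26 ye4 ze11) (ke xe8 ye36 ze14) (ke xe9 ye10 ze6) (ke xe11 ye24 ze5) (ke xe24 ye54 ze25) (ke xe8 ye36 ze20) (ke xe8 ye36 ze21) (ke xe26 ye4 ze14) (ke xe15 ye48 ze39) (ke xe18 ye37 ze35) (ke xe8 ye36 ze24) (ke xe9 ye57 ze52) (ke xe26 ye4 ze20) (ke xe18 ye34 ze23) (ke xe9 ye34 ze50) (ke xe15 ye48 ze11) (ke xe15 ye48 ze44) (ke xe21 ye26 ze48) (ke xe26 ye4 ze28) (ke xe8 ye36 ze28) (ke xe8 ye36 ze29) (ke xe21 ye5 ze41)) (@D3.rec (fun _ => Pt) (ke xe26 ye4 ze29) (ke xe8 ye36 ze30) (ke xe15 ye48 ze51) (ke xe8 ye36 ze34) (ke xe26 ye4 ze34) (ke xe9 ye35 ze2) (ke xe8 ye36 ze39) (ke xe15 ye14 ze53) (ke xe8 ye36 ze40) (ke xe8 ye36 ze45) (ke xe26 ye4 ze40) (ke xe26 ye4 ze45) (ke xe8 ye36 ze47)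 (ke xe26 ye4 ze50) (ke xe26 ye4 ze52) (ke xe8 ye36 ze48) (ke xe8 ye36 ze49) (ke xe26 ye4 ze60) (ke xe15 ye16 ze11) (ke xe24 ye58 ze12) (ke xe15 ye18 ze5) (ke xe26 ye5 ze6) (ke xe10 ye51 ze5) (ke xe24 ye58 ze15) (ke xe20 ye59 ze5) (ke xe8 ye36 ze53) (ke xe15 ye9 ze3) (ke xe8 ye36 ze60) (ke xe9 ye53 ze7) (ke xe17 ye36 ze40) (ke xe23 ye34 ze59) (ke xe26 ye5 ze18) (ke xe26 ye5 ze12) (ke xe23 ye50 ze47) (ke xe8 ye37 ze0) (ke xe23 ye50 ze48) (ke xe8 ye37 ze1) (ke xe16 ye33 ze10) (ke xe16 ye21 ze14) (ke xe26 ye5 ze26) (ke xe21 ye31 ze12) (ke xe21 ye20 ze35) (ke xe14 ye36 ze4) (ke xe8 ye37 ze5) (ke xe26 ye5 ze32) (ke xe8 ye37 ze8) (ke xe26 ye5 ze34) (ke xe15 ye1 ze20) (ke xe17 ye14 ze24) (ke xe26 ye5 ze38) (ke xe21 ye41 ze38) (ke xe26 ye5 ze40) (ke xe8 ye37 ze11) (ke xe8 ye37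 ze12) (ke xe18 ye37 ze26) (ke xe18 ye21 ze28) (ke xe25 ye36 ze40) (ke xe15 ye23 ze21) (ke xe12 ye52 ze58) (ke xe21 ye22 ze35) (ke xe18 ye2 ze30) (ke xe8 ye37 ze15)) (@D3.rec (fun _ => Pt) (ke xe8 ye37 ze16) (ke xe21 ye25 ze53) (ke xe15 ye49 ze32) (ke xe24 ye34 ze15) (ke xe15 ye48 ze13) (ke xe15 ye49 ze34) (ke xe15 ye1 ze5) (ke xe13 ye37 ze50) (ke xe24 ye36 ze14) (ke xe12 ye37 ze1) (ke xe8 ye37 ze21) (ke xe14 ye3 ze16) (ke xe13 ye0 ze3) (ke xe26 ye5 ze55) (ke xe17 ye9 ze0) (ke xe8 ye37 ze23) (ke xe15 ye43 ze56) (ke xe8 ye37 ze26) (ke xe18 ye33 ze50) (ke xe17 ye59 ze17) (ke xe8 ye37 ze29) (ke xe15 ye48 ze38) (ke xe22 ye3 ze17) (ke xe22 ye3 ze43) (ke xe26 ye6 ze3) (ke xe26 ye6 ze5) (ke xe26 ye5 ze61) (ke xe21 ye43 ze56) (ke xe21 ye51 ze8) (ke xe19 ye23 ze21) (ke xe25 ye22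 ze45) (ke xe9 ye36 ze37) (ke xe18 ye33 ze29) (ke xe9 ye36 ze59) (ke xe25 ye13 ze45) (ke xe18 ye33 ze31) (ke xe26 ye6 ze19) (ke xe11 ye5 ze16) (ke xe8 ye37 ze36) (ke xe9 ye34 ze37) (ke xe15 ye23 ze25) (ke xe15 ye49 ze9) (ke xe22 ye11 ze12) (ke xe17 ye53 ze51) (ke xe26 ye6 ze29) (ke xe14 ye51 ze10) (ke xe14 ye8 ze23) (ke xe14 ye4 ze10) (ke xe11 ye3 ze24) (ke xe11 ye2 ze53) (ke xe26 ye6 ze33) (ke xe8 ye37 ze46) (ke xe9 ye43 ze50) (ke xe26 ye6 ze38) (ke xe25 ye14 ze35) (ke xe9 ye43 ze57) (ke xe15 ye52 ze52) (ke xe25 ye45 ze28) (ke xe23 ye58 ze41) (ke xe14 ye43 ze40) (ke xe24 ye22 ze13) (ke xe8 ye37 ze53)) (@D3.rec (fun _ => Pt) (ke xe18 ye42 ze34) (ke xe15 ye18 ze24) (ke xe16 ye49 ze55) (ke xe26 ye6 ze49) (ke xe26 ye6 ze51) (ke xe26 ye6 ze54) (ke xe26 ye6 ze58) (ke xe8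 ye37 ze56) (ke xe14 ye51 ze31) (ke xe14 ye51 ze34) (ke xe13 ye2 ze38) (ke xe18 ye3 ze17) (ke xe26 ye7 ze5) (ke xe26 ye7 ze7) (ke xe26 ye7 ze10) (ke xe8 ye37 ze59) (ke xe26 ye7 ze12) (ke xe26 ye7 ze15) (ke xe9 ye51 ze38) (ke xe26 ye7 ze17) (ke xe24 ye54 ze47) (ke xe16 ye6 ze19) (ke xe19 ye14 ze44) (ke xe18 ye40 ze59) (ke xe8 ye38 ze5) (ke xe14 ye15 ze46) (ke xe8 ye38 ze7) (ke xe26 ye7 ze21) (ke xe16 ye11 ze50) (ke xe8 ye38 ze10) (ke xe26 ye7 ze24) (ke xe22 ye31 ze27) (ke xe26 ye7 ze26) (ke xe19 ye16 ze57) (ke xe8 ye38 ze16) (ke xe23 ye40 ze37) (ke xe8 ye38 ze17) (ke xe13 ye57 ze7) (ke xe8 ye38 ze18) (ke xe26 ye7 ze30) (ke xe8 ye38 ze19) (ke xe26 ye7 ze35) (ke xe8 ye38 ze20) (ke xe10 ye26 ze47) (ke xe13 ye52 ze2) (ke xe26 ye7 ze36) (ke xe8 ye38 ze22) (ke xe21 ye56 ze25)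 (ke xe8 ye38 ze23) (ke xe13 ye23 ze59) (ke xe26 ye7 ze42) (ke xe16 ye12 ze14) (ke xe23 ye40 ze42) (ke xe26 ye7 ze44) (ke xe16 ye49 ze53) (ke xe8 ye38 ze25) (ke xe26 ye7 ze45) (ke xe14 ye0 ze29) (ke xe16 ye11 ze44) (ke xe23 ye32 ze11) (ke xe26 ye7 ze46) (ke xe8 ye38 ze27)) (@D3.rec (fun _ => Pt) (ke xe13 ye26 ze25) (ke xe8 ye38 ze28) (ke xe8 ye38 ze29) (ke xe26 ye7 ze49) (ke xe23 ye25 ze43) (ke xe16 ye41 ze2) (ke xe17 ye49 ze0) (ke xe16 ye40 ze44) (ke xe15 ye25 ze8) (ke xe26 ye7 ze53) (ke xe24 ye31 ze54) (ke xe18 ye3 ze1) (ke xe26 ye7 ze57) (ke xe8 ye38 ze34) (ke xe24 ye35 ze35) (ke xe26 ye8 ze1) (ke xe24 ye36 ze54) (ke xe8 ye38 ze36) (ke xe8 ye38 ze37) (ke xe26 ye8 ze2) (ke xe21 ye59 ze14) (ke xe17 ye51 ze50) (ke xe14 ye48 ze41) (ke xe8 ye38 ze39) (ke xe25 ye44 ze16)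 (ke xe13 ye32 ze2) (ke xe26 ye8 ze9) (ke xe26 ye8 ze11) (ke xe26 ye8 ze13) (ke xe22 ye31 ze34) (ke xe8 ye38 ze41) (ke xe24 ye31 ze53) (ke xe11 ye51 ze6) (ke xe26 ye8 ze21) (ke xe26 ye8 ze22) (ke xe8 ye38 ze42) (ke xe25 ye42 ze29) (ke xe26 ye8 ze24) (ke xe23 ye28 ze51) (ke xe16 ye5 ze16) (ke xe8 ye38 ze44) (ke xe8 ye38 ze45) (ke xe26 ye8 ze33) (ke xe26 ye8 ze34) (ke xe16 ye10 ze58) (ke xe11 ye2 ze37) (ke xe18 ye19 ze19) (ke xe8 ye38 ze50) (ke xe26 ye8 ze39) (ke xe26 ye8 ze40) (ke xe16 ye10 ze28) (ke xe21 ye29 ze49) (ke xe26 ye8 ze41) (ke xe16 ye25 ze40) (ke xe13 ye15 ze41) (ke xe26 ye8 ze45) (ke xe8 ye38 ze58) (ke xe22 ye41 ze60) (ke xe26 ye8 ze46) (ke xe19 ye56 ze27) (ke xe8 ye38 ze59) (ke xe21 ye6 ze47)) (@D3.rec (fun _ => Pt) (ke xe26 ye8 ze51) (ke xe8 ye38 ze61)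 (ke xe21 ye56 ze53) (ke xe26 ye8 ze56) (ke xe8 ye39 ze21) (ke xe24 ye23 ze40) (ke xe22 ye30 ze25) (ke xe26 ye8 ze58) (ke xe8 ye39 ze2) (ke xe22 ye30 ze32) (ke xe23 ye21 ze26) (ke xe15 ye10 ze36) (ke xe23 ye32 ze49) (ke xe26 ye9 ze0) (ke xe16 ye10 ze51) (ke xe26 ye9 ze2) (ke xe26 ye9 ze4) (ke xe9 ye0 ze30) (ke xe21 ye6 ze44) (ke xe23 ye44 ze10) (ke xe8 ye39 ze7) (ke xe22 ye30 ze36) (ke xe22 ye30 ze38) (ke xe8 ye39 ze9) (ke xe23 ye21 ze23) (ke xe13 ye55 ze6) (ke xe26 ye9 ze10) (ke xe8 ye39 ze20) (ke xe15 ye16 ze45) (ke xe8 ye39 ze13) (ke xe8 ye39 ze15) (ke xe24 ye21 ze5) (ke xe26 ye9 ze15) (ke xe26 ye9 ze17) (ke xe26 ye9 ze20) (ke xe26 ye9 ze24) (ke xe8 ye39 ze18) (ke xe24 ye10 ze7) (ke xe23 ye56 ze57) (ke xe24 ye10 ze36) (ke xe24 ye10 ze37) (ke xe23 ye20 ze16) (ke xe26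 ye9 ze32) (ke xe26 ye9 ze35) (ke xe23 ye15 ze4) (ke xe8 ye39 ze22) (ke xe26 ye9 ze39) (ke xe26 ye9 ze42) (ke xe24 ye47 ze15) (ke xe24 ye47 ze14) (ke xe10 ye15 ze46) (ke xe8 ye39 ze25) (ke xe26 ye9 ze46) (ke xe20 ye26 ze41) (ke xe19 ye6 ze14) (ke xe26 ye9 ze47) (ke xe8 ye39 ze27) (ke xe26 ye9 ze50) (ke xe8 ye39 ze28) (ke xe25 ye1 ze28) (ke xe14 ye46 ze42) (ke xe8 ye39 ze38)) (@D3.rec (fun _ => Pt) (ke xe26 ye9 ze52) (ke xe8 ye39 ze32) (ke xe21 ye0 ze25) (ke xe8 ye39 ze34) (ke xe19 ye48 ze8) (ke xe26 ye9 ze54) (ke xe26 ye9 ze57) (ke xe26 ye9 ze59) (ke xe26 ye10 ze0) (ke xe8 ye39 ze36) (ke xe14 ye47 ze2) (ke xe14 ye47 ze5) (ke xe13 ye55 ze1) (ke xe26 ye10 ze7) (ke xe23 ye30 ze47) (ke xe26 ye10 ze8) (ke xe24 ye30 ze60) (ke xe8 ye39 ze39) (ke xe8 ye39 ze40) (ke xe26 ye10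 ze15) (ke xe23 ye25 ze3) (ke xe16 ye28 ze1) (ke xe16 ye28 ze0) (ke xe16 ye14 ze25) (ke xe10 ye0 ze52) (ke xe8 ye39 ze44) (ke xe9 ye51 ze17) (ke xe15 ye8 ze58) (ke xe25 ye13 ze4) (ke xe8 ye39 ze46) (ke xe22 ye3 ze8) (ke xe8 ye39 ze47) (ke xe26 ye10 ze26) (ke xe26 ye10 ze27) (ke xe21 ye23 ze44) (ke xe13 ye0 ze16) (ke xe24 ye4 ze13) (ke xe8 ye39 ze51) (ke xe15 ye51 ze27) (ke xe21 ye30 ze61) (ke xe21 ye19 ze52) (ke xe8 ye39 ze54) (ke xe8 ye39 ze56) (ke xe10 ye33 ze2) (ke xe17 ye43 ze47) (ke xe21 ye23 ze0) (ke xe17 ye6 ze10) (ke xe17 ye6 ze11) (ke xe21 ye31 ze16) (ke xe10 ye35 ze18) (ke xe8 ye40 ze0) (ke xe11 ye25 ze48) (ke xe12 ye59 ze57) (ke xe23 ye46 ze51) (ke xe8 ye40 ze2) (ke xe8 ye40 ze3) (ke xe26 ye10 ze43) (ke xe21 ye7 ze9) (ke xe21 ye26 ze33) (ke xe12 ye4 ze55)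 (ke xe26 ye10 ze50) (ke xe26 ye10 ze52)) (@D3.rec (fun _ => Pt) (ke xe8 ye40 ze5) (ke xe26 ye10 ze54) (ke xe26 ye10 ze59) (ke xe26 ye10 ze61) (ke xe15 ye9 ze31) (ke xe8 ye40 ze6) (ke xe20 ye13 ze46) (ke xe26 ye11 ze5) (ke xe21 ye21 ze22) (ke xe25 ye36 ze38) (ke xe8 ye40 ze8) (ke xe25 ye36 ze42) (ke xe8 ye40 ze10) (ke xe26 ye11 ze16) (ke xe21 ye20 ze55) (ke xe12 ye41 ze16) (ke xe12 ye43 ze37) (ke xe8 ye40 ze13) (ke xe26 ye11 ze19) (ke xe26 ye11 ze21) (ke xe21 ye32 ze55) (ke xe26 ye11 ze26) (ke xe8 ye40 ze14) (ke xe8 ye40 ze15) (ke xe19 ye16 ze59) (ke xe16 ye13 ze23) (ke xe8 ye41 ze30) (ke xe26 ye11 ze33) (ke xe21 ye31 ze14) (ke xe26 ye11 ze37) (ke xe8 ye40 ze20) (ke xe8 ye40 ze21) (ke xe8 ye40 ze23) (ke xe21 ye41 ze61) (ke xe21 ye58 ze35) (ke xe26 ye11 ze43) (ke xe23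 ye35 ze50) (ke xe9 ye33 ze5) (ke xe26 ye11 ze46) (ke xe8 ye40 ze26) (ke xe26 ye11 ze51) (ke xe26 ye11 ze53) (ke xe26 ye11 ze49) (ke xe26 ye11 ze60) (ke xe8 ye40 ze28) (ke xe26 ye12 ze2) (ke xe8 ye40 ze29) (ke xe8 ye40 ze30) (ke xe26 ye12 ze11) (ke xe26 ye12 ze13) (ke xe26 ye12 ze8) (ke xe26 ye12 ze7) (ke xe26 ye12 ze16) (ke xe12 ye35 ze38) (ke xe26 ye5 ze22) (ke xe22 ye8 ze42) (ke xe26 ye12 ze23) (ke xe22 ye8 ze6) (ke xe26 ye12 ze24) (ke xe8 ye40 ze35) (ke xe8 ye40 ze36) (ke xe21 ye37 ze6)) (@D3.rec (fun _ => Pt) (ke xe26 ye12 ze30) (ke xe26 ye12 ze33) (ke xe18 ye5 ze19) (ke xe8 ye40 ze38) (ke xe21 ye37 ze0) (ke xe20 ye49 ze55) (ke xe26 ye12 ze37) (ke xe8 ye40 ze40) (ke xe26 ye12 ze43) (ke xe22 ye15 ze18) (ke xe26 ye12 ze44) (ke xe8 ye40 ze41) (ke xe25 ye28 ze56) (ke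 xe18 ye16 ze26) (ke xe18 ye27 ze14) (ke xe24 ye44 ze53) (ke xe26 ye12 ze52) (ke xe17 ye44 ze41) (ke xe15 ye14 ze38) (ke xe8 ye40 ze44) (ke xe26 ye12 ze53) (ke xe17 ye38 ze8) (ke xe26 ye12 ze56) (ke xe8 ye40 ze48) (ke xe8 ye40 ze49) (ke xe17 ye58 ze2) (ke xe21 ye30 ze60) (ke xe26 ye12 ze59) (ke xe8 ye40 ze53) (ke xe8 ye40 ze54) (ke xe10 ye5 ze26) (ke xe26 ye13 ze0) (ke xe26 ye13 ze2) (ke xe26 ye13 ze4) (ke xe8 ye40 ze57) (ke xe26 ye13 ze8) (ke xe17 ye57 ze59) (ke xe21 ye28 ze32) (ke xe8 ye40 ze58) (ke xe26 ye13 ze11) (ke xe8 ye40 ze59) (ke xe26 ye13 ze17) (ke xe26 ye13 ze20) (ke xe24 ye28 ze15) (ke xe8 ye40 ze60) (ke xe21 ye57 ze18) (ke xe17 ye37 ze18) (ke xe26 ye13 ze23) (ke xe18 ye37 ze40) (ke xe26 ye13 ze28) (ke xe26 ye13 ze31) (ke xe8 ye41 ze2) (ke xe17 ye44 ze37)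 (ke xe18 ye5 ze30) (ke xe26 ye13 ze38) (ke xe8 ye41 ze1) (ke xe9 ye45 ze5) (ke xe25 ye2 ze58) (ke xe26 ye13 ze33) (ke xe26 ye13 ze45) (ke xe21 ye49 ze55) (ke xe26 ye13 ze48)) (@D3.rec (fun _ => Pt) (ke xe8 ye41 ze4) (ke xe15 ye16 ze55) (ke xe16 ye2 ze57) (ke xe26 ye13 ze52) (ke xe18 ye5 ze24) (ke xe26 ye13 ze56) (ke xe8 ye41 ze8) (ke xe25 ye32 ze41) (ke xe25 ye28 ze0) (ke xe26 ye13 ze59) (ke xe8 ye41 ze10) (ke xe9 ye53 ze1) (ke xe8 ye41 ze11) (ke xe26 ye14 ze6) (ke xe21 ye58 ze22) (ke xe26 ye14 ze4) (ke xe17 ye44 ze8) (ke xe26 ye14 ze13) (ke xe24 ye47 ze48) (ke xe8 ye41 ze16) (ke xe17 ye44 ze10) (ke xe9 ye52 ze13) (ke xe24 ye43 ze10) (ke xe26 ye14 ze20) (ke xe8 ye41 ze15) (ke xe26 ye14 ze22) (ke xe26 ye14 ze16) (ke xe26 ye14 ze27) (ke xe17 ye39 ze57) (ke xe9 ye51 ze55)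 (ke xe26 ye14 ze30) (ke xe8 ye41 ze19) (ke xe14 ye12 ze12) (ke xe26 ye14 ze32) (ke xe8 ye41 ze20) (ke xe11 ye2 ze40) (ke xe19 ye10 ze48) (ke xe10 ye15 ze41) (ke xe26 ye14 ze38) (ke xe8 ye41 ze27) (ke xe22 ye2 ze51) (ke xe25 ye53 ze57) (ke xe26 ye10 ze55) (ke xe18 ye4 ze58) (ke xe18 ye24 ze61) (ke xe8 ye41 ze31) (ke xe25 ye1 ze31) (ke xe19 ye2 ze0) (ke xe26 ye14 ze47) (ke xe8 ye41 ze33) (ke xe26 ye14 ze50) (ke xe21 ye10 ze4) (ke xe26 ye14 ze48) (ke xe15 ye9 ze46) (ke xe26 ye14 ze55) (ke xe8 ye41 ze38) (ke xe17 ye43 ze55) (ke xe26 ye14 ze60) (ke xe15 ye10 ze51) (ke xe8 ye41 ze36) (ke xe23 ye2 ze2) (ke xe26 ye14 ze61)) (@D3.rec (fun _ => Pt) (ke xe23 ye50 ze5) (ke xe15 ye10 ze57) (ke xe8 ye41 ze40) (ke xe16 ye50 ze47) (ke xe25 ye3 ze28) (ke xe21 ye1 ze4) (ke xe15 ye17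 ze5) (ke xe18 ye38 ze5) (ke xe8 ye41 ze45) (ke xe17 ye39 ze4) (ke xe17 ye39 ze5) (ke xe26 ye15 ze5) (ke xe21 ye58 ze27) (ke xe14 ye2 ze51) (ke xe18 ye10 ze19) (ke xe13 ye40 ze57) (ke xe8 ye41 ze48) (ke xe26 ye15 ze11) (ke xe26 ye15 ze13) (ke xe26 ye15 ze15) (ke xe24 ye47 ze46) (ke xe8 ye41 ze51) (ke xe10 ye7 ze59) (ke xe17 ye36 ze54) (ke xe22 ye11 ze1) (ke xe18 ye6 ze5) (ke xe17 ye39 ze44) (ke xe17 ye39 ze45) (ke xe26 ye15 ze20) (ke xe26 ye15 ze21) (ke xe26 ye15 ze23) (ke xe8 ye41 ze54) (ke xe26 ye15 ze25) (ke xe25 ye0 ze2) (ke xe8 ye41 ze55) (ke xe17 ye39 ze36) (ke xe24 ye43 ze56) (ke xe23 ye42 ze59) (ke xe8 ye41 ze56) (ke xe26 ye15 ze32) (ke xe26 ye15 ze35) (ke xe18 ye8 ze55) (ke xe8 ye41 ze57) (ke xe18 ye7 ze6) (ke xe15 ye13 ze56) (ke xe17 ye39 ze30) (ke xe8 ye41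 ze60) (ke xe18 ye28 ze21) (ke xe26 ye15 ze42) (ke xe8 ye42 ze0) (ke xe26 ye15 ze44) (ke xe21 ye17 ze50) (ke xe14 ye35 ze9) (ke xe8 ye42 ze1) (ke xe26 ye15 ze47) (ke xe12 ye45 ze8) (ke xe21 ye59 ze51) (ke xe20 ye28 ze9) (ke xe12 ye23 ze56) (ke xe18 ye5 ze9) (ke xe13 ye19 ze51) (ke xe8 ye42 ze4)) (@D3.rec (fun _ => Pt) (ke xe10 ye7 ze42) (ke xe11 ye59 ze52) (ke xe12 ye19 ze48) (ke xe17 ye42 ze46) (ke xe18 ye53 ze27) (ke xe8 ye42 ze7) (ke xe15 ye21 ze36) (ke xe8 ye42 ze8) (ke xe23 ye33 ze55) (ke xe21 ye58 ze39) (ke xe18 ye28 ze7) (ke xe21 ye59 ze38) (ke xe19 ye5 ze12) (ke xe8 ye42 ze11) (ke xe24 ye15 ze29) (ke xe23 ye52 ze20) (ke xe8 ye42 ze13) (ke xe14 ye15 ze9) (ke xe14 ye24 ze61) (ke xe8 ye42 ze14) (ke xe26 ye11 ze47) (ke xe14 ye14 ze30) (ke xe24 ye46 ze42) (ke xe12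 ye2 ze8) (ke xe14 ye35 ze19) (ke xe24 ye46 ze41) (ke xe26 ye16 ze10) (ke xe26 ye16 ze13) (ke xe8 ye42 ze17) (ke xe17 ye54 ze12) (ke xe18 ye30 ze18) (ke xe26 ye16 ze20) (ke xe8 ye42 ze19) (ke xe15 ye11 ze28) (ke xe18 ye28 ze45) (ke xe8 ye43 ze19) (ke xe17 ye54 ze31) (ke xe18 ye37 ze31) (ke xe24 ye44 ze33) (ke xe8 ye42 ze21) (ke xe16 ye20 ze14) (ke xe17 ye40 ze11) (ke xe8 ye42 ze22) (ke xe26 ye16 ze35) (ke xe26 ye16 ze38) (ke xe8 ye42 ze24) (ke xe18 ye7 ze9) (ke xe26 ye12 ze51) (ke xe8 ye42 ze25) (ke xe25 ye15 ze46) (ke xe26 ye16 ze40) (ke xe24 ye46 ze49) (ke xe23 ye22 ze11) (ke xe8 ye42 ze27) (ke xe17 ye37 ze27) (ke xe26 ye16 ze45) (ke xe8 ye42 ze30) (ke xe11 ye9 ze38) (ke xe15 ye51 ze20) (ke xe26 ye16 ze47) (ke xe19 ye37 ze18) (ke xe26 ye16 ze48)) (@D3.rec (fun _ =>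 Pt) (ke xe8 ye42 ze34) (ke xe25 ye28 ze41) (ke xe8 ye42 ze37) (ke xe26 ye16 ze53) (ke xe26 ye16 ze56) (ke xe18 ye31 ze61) (ke xe8 ye42 ze39) (ke xe26 ye17 ze2) (ke xe19 ye39 ze37) (ke xe23 ye35 ze56) (ke xe8 ye42 ze40) (ke xe8 ye42 ze41) (ke xe17 ye37 ze60) (ke xe9 ye54 ze37) (ke xe18 ye27 ze9) (ke xe17 ye54 ze9) (ke xe9 ye53 ze10) (ke xe17 ye38 ze15) (ke xe8 ye42 ze46) (ke xe8 ye42 ze47) (ke xe26 ye17 ze11) (ke xe26 ye17 ze14) (ke xe11 ye6 ze16) (ke xe26 ye17 ze16) (ke xe26 ye17 ze17) (ke xe16 ye20 ze48) (ke xe26 ye17 ze19) (ke xe8 ye42 ze54) (ke xe26 ye17 ze20) (ke xe26 ye17 ze24) (ke xe8 ye42 ze56) (ke xe19 ye0 ze25) (ke xe8 ye42 ze57) (ke xe26 ye17 ze32) (ke xe19 ye2 ze26) (ke xe18 ye12 ze45) (ke xe8 ye42 ze58) (ke xe18 ye58 ze47) (ke xe8 ye43 ze0) (ke xe17 ye54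 ze26) (ke xe23 ye1 ze39) (ke xe19 ye0 ze37) (ke xe25 ye0 ze59) (ke xe25 ye28 ze30) (ke xe8 ye43 ze1) (ke xe26 ye17 ze47) (ke xe26 ye17 ze48) (ke xe16 ye27 ze32) (ke xe8 ye43 ze2) (ke xe8 ye47 ze20) (ke xe23 ye5 ze33) (ke xe8 ye43 ze7) (ke xe25 ye2 ze10) (ke xe23 ye1 ze40) (ke xe15 ye3 ze47) (ke xe19 ye16 ze39) (ke xe23 ye35 ze29) (ke xe16 ye25 ze8) (ke xe8 ye43 ze10) (ke xe23 ye40 ze54) (ke xe18 ye52 ze39) (ke xe8 ye43 ze13)) (@D3.rec (fun _ => Pt) (ke xe21 ye32 ze50) (ke xe26 ye18 ze3) (ke xe26 ye18 ze5) (ke xe8 ye43 ze16) (ke xe8 ye43 ze17) (ke xe25 ye9 ze56) (ke xe17 ye36 ze27) (ke xe25 ye4 ze3) (ke xe22 ye14 ze48) (ke xe26 ye18 ze12) (ke xe15 ye12 ze43) (ke xe26 ye16 ze23) (ke xe26 ye18 ze18) (ke xe15 ye34 ze43) (ke xe16 ye18 ze40) (ke xe8 ye43 ze24) (ke xe18 ye15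 ze17) (ke xe8 ye43 ze26) (ke xe18 ye35 ze53) (ke xe8 ye43 ze27) (ke xe10 ye55 ze40) (ke xe10 ye55 ze41) (ke xe8 ye43 ze28) (ke xe14 ye36 ze41) (ke xe8 ye43 ze29) (ke xe18 ye36 ze2) (ke xe22 ye30 ze34) (ke xe26 ye18 ze26) (ke xe13 ye49 ze5) (ke xe8 ye43 ze31) (ke xe25 ye3 ze19) (ke xe18 ye3 ze61) (ke xe15 ye10 ze39) (ke xe8 ye43 ze32) (ke xe26 ye17 ze26) (ke xe10 ye10 ze55) (ke xe18 ye31 ze13) (ke xe8 ye43 ze36) (ke xe26 ye18 ze33) (ke xe8 ye43 ze37) (ke xe26 ye18 ze37) (ke xe18 ye8 ze59) (ke xe18 ye26 ze45) (ke xe8 ye43 ze42) (ke xe26 ye18 ze43) (ke xe26 ye18 ze44) (ke xe15 ye23 ze37) (ke xe24 ye57 ze33) (ke xe16 ye19 ze25) (ke xe26 ye18 ze46) (ke xe15 ye12 ze36) (ke xe26 ye18 ze48) (ke xe8 ye43 ze45) (ke xe26 ye18 ze50) (ke xe26 ye18 ze52) (ke xe21 ye15 ze4) (ke xe8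 ye43 ze46) (ke xe26 ye18 ze57) (ke xe26 ye18 ze58) (ke xe8 ye43 ze49) (ke xe20 ye10 ze18) (ke xe8 ye43 ze51)) (@D3.rec (fun _ => Pt) (ke xe26 ye19 ze3) (ke xe8 ye43 ze52) (ke xe26 ye18 ze22) (ke xe18 ye20 ze51) (ke xe8 ye43 ze54) (ke xe21 ye8 ze18) (ke xe26 ye19 ze7) (ke xe19 ye56 ze41) (ke xe8 ye43 ze57) (ke xe24 ye57 ze0) (ke xe16 ye33 ze5) (ke xe8 ye45 ze60) (ke xe26 ye19 ze16) (ke xe26 ye19 ze18) (ke xe16 ye8 ze38) (ke xe24 ye29 ze9) (ke xe26 ye19 ze19) (ke xe8 ye44 ze0) (ke xe8 ye44 ze1) (ke xe26 ye19 ze23) (ke xe8 ye44 ze4) (ke xe20 ye21 ze19) (ke xe18 ye46 ze9) (ke xe8 ye44 ze5) (ke xe26 ye19 ze31) (ke xe26 ye19 ze32) (ke xe8 ye44 ze7) (ke xe8 ye44 ze9) (ke xe18 ye41 ze10) (ke xe8 ye44 ze10) (ke xe26 ye19 ze36) (ke xe26 ye19 ze37) (ke xe18 ye41 ze16) (ke xe8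 ye44 ze12) (ke xe24 ye47 ze32) (ke xe26 ye19 ze40) (ke xe8 ye44 ze15) (ke xe19 ye2 ze16) (ke xe26 ye19 ze41) (ke xe18 ye3 ze19) (ke xe26 ye19 ze43) (ke xe8 ye44 ze20) (ke xe8 ye44 ze22) (ke xe9 ye55 ze2) (ke xe26 ye19 ze48) (ke xe8 ye44 ze25) (ke xe8 ye44 ze27) (ke xe20 ye6 ze31) (ke xe18 ye59 ze25) (ke xe26 ye19 ze49) (ke xe8 ye44 ze32) (ke xe15 ye11 ze24) (ke xe9 ye53 ze42) (ke xe15 ye32 ze19) (ke xe8 ye44 ze33) (ke xe26 ye19 ze51) (ke xe26 ye19 ze53) (ke xe8 ye44 ze35) (ke xe10 ye26 ze35) (ke xe11 ye32 ze33) (ke xe26 ye19 ze59) (ke xe26 ye20 ze0)) (@D3.rec (fun _ => Pt) (ke xe8 ye44 ze38) (ke xe10 ye26 ze49) (ke xe16 ye35 ze10) (ke xe15 ye30 ze41) (ke xe10 ye26 ze33) (ke xe9 ye53 ze21) (ke xe10 ye28 ze34) (ke xe19 ye23 ze16) (ke xe8 ye44 ze41) (ke xe11 ye8 ze48)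 (ke xe9 ye34 ze39) (ke xe8 ye44 ze44) (ke xe18 ye4 ze41) (ke xe8 ye44 ze46) (ke xe8 ye52 ze48) (ke xe9 ye46 ze42) (ke xe8 ye44 ze48) (ke xe10 ye29 ze52) (ke xe16 ye35 ze4) (ke xe8 ye44 ze51) (ke xe25 ye46 ze27) (ke xe26 ye20 ze14) (ke xe26 ye20 ze15) (ke xe25 ye47 ze19) (ke xe23 ye6 ze18) (ke xe8 ye44 ze52) (ke xe21 ye11 ze7) (ke xe10 ye29 ze4) (ke xe26 ye20 ze23) (ke xe9 ye44 ze37) (ke xe24 ye46 ze38) (ke xe10 ye29 ze57) (ke xe26 ye20 ze31) (ke xe16 ye29 ze9) (ke xe8 ye44 ze56) (ke xe8 ye48 ze34) (ke xe13 ye32 ze4) (ke xe9 ye44 ze38) (ke xe24 ye59 ze32) (ke xe22 ye35 ze58) (ke xe8 ye44 ze59) (ke xe24 ye21 ze52) (ke xe26 ye20 ze38) (ke xe26 ye20 ze39) (ke xe8 ye44 ze60) (ke xe22 ye50 ze32) (ke xe24 ye46 ze31) (ke xe22 ye42 ze5) (ke xe8 ye45 ze0) (ke xe16 ye35 ze12)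 (ke xe15 ye12 ze39) (ke xe8 ye45 ze1) (ke xe18 ye28 ze24) (ke xe26 ye20 ze49) (ke xe10 ye29 ze17) (ke xe8 ye45 ze4) (ke xe24 ye45 ze34) (ke xe26 ye20 ze55) (ke xe26 ye20 ze58) (ke xe8 ye45 ze7) (ke xe18 ye28 ze36) (ke xe15 ye12 ze6)) (@D3.rec (fun _ => Pt) (ke xe25 ye0 ze39) (ke xe26 ye21 ze3) (ke xe24 ye45 ze42) (ke xe26 ye21 ze7) (ke xe11 ye13 ze27) (ke xe18 ye58 ze60) (ke xe10 ye29 ze43) (ke xe20 ye32 ze2) (ke xe8 ye45 ze11) (ke xe19 ye1 ze58) (ke xe13 ye7 ze9) (ke xe8 ye45 ze12) (ke xe12 ye8 ze9) (ke xe16 ye26 ze46) (ke xe8 ye45 ze13) (ke xe10 ye30 ze1) (ke xe24 ye40 ze26) (ke xe26 ye21 ze14) (ke xe8 ye45 ze15) (ke xe15 ye11 ze51) (ke xe8 ye45 ze16) (ke xe8 ye45 ze35) (ke xe12 ye7 ze5) (ke xe8 ye51 ze26) (ke xe26 ye21 ze17) (ke xe26 ye21 ze21) (ke xe8 ye45 ze20)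 (ke xe13 ye39 ze46) (ke xe26 ye21 ze25) (ke xe26 ye21 ze28) (ke xe8 ye45 ze23) (ke xe26 ye21 ze31) (ke xe8 ye45 ze26) (ke xe17 ye53 ze47) (ke xe8 ye45 ze28) (ke xe12 ye6 ze52) (ke xe23 ye43 ze16) (ke xe23 ye4 ze2) (ke xe17 ye46 ze59) (ke xe8 ye45 ze30) (ke xe26 ye21 ze40) (ke xe8 ye45 ze33) (ke xe25 ye3 ze10) (ke xe26 ye21 ze41) (ke xe26 ye6 ze30) (ke xe22 ye29 ze1) (ke xe12 ye6 ze28) (ke xe21 ye2 ze48) (ke xe13 ye49 ze26) (ke xe8 ye45 ze38) (ke xe20 ye36 ze10) (ke xe23 ye3 ze56) (ke xe8 ye45 ze41) (ke xe8 ye45 ze42) (ke xe10 ye1 ze49) (ke xe8 ye46 ze41) (ke xe11 ye37 ze17) (ke xe26 ye21 ze50) (ke xe8 ye45 ze44) (ke xe8 ye45 ze47) (ke xe8 ye45 ze48) (ke xe19 ye59 ze1)) (@D3.rec (fun _ => Pt) (ke xe26 ye21 ze51) (ke xe12 ye22 ze15) (ke xe11 ye12 ze29) (ke xe8 ye45 ze50)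 (ke xe16 ye34 ze59) (ke xe15 ye24 ze25) (ke xe13 ye15 ze37) (ke xe12 ye8 ze38) (ke xe26 ye21 ze59) (ke xe8 ye45 ze57) (ke xe12 ye22 ze34) (ke xe13 ye29 ze15) (ke xe15 ye6 ze36) (ke xe26 ye19 ze11) (ke xe16 ye26 ze50) (ke xe23 ye6 ze7) (ke xe8 ye46 ze2) (ke xe20 ye18 ze61) (ke xe8 ye46 ze4) (ke xe22 ye56 ze58) (ke xe8 ye46 ze6) (ke xe16 ye26 ze6) (ke xe26 ye22 ze0) (ke xe8 ye46 ze7) (ke xe26 ye22 ze4) (ke xe8 ye46 ze10) (ke xe16 ye26 ze10) (ke xe18 ye56 ze35) (ke xe26 ye22 ze5) (ke xe8 ye46 ze11) (ke xe26 ye22 ze9) (ke xe15 ye55 ze55) (ke xe8 ye46 ze13) (ke xe20 ye44 ze50) (ke xe8 ye46 ze14) (ke xe8 ye46 ze16) (ke xe22 ye35 ze28) (ke xe26 ye22 ze14) (ke xe8 ye46 ze56) (ke xe15 ye6 ze29) (ke xe8 ye46 ze19) (ke xe19 ye51 ze17) (ke xe26 ye22 ze17) (ke xe20 ye45 ze11) (ke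 xe13 ye27 ze6) (ke xe26 ye22 ze24) (ke xe26 ye22 ze26) (ke xe22 ye3 ze11) (ke xe8 ye46 ze21) (ke xe20 ye13 ze32) (ke xe15 ye55 ze52) (ke xe16 ye25 ze32) (ke xe8 ye46 ze22) (ke xe11 ye13 ze60) (ke xe26 ye22 ze33) (ke xe8 ye46 ze26) (ke xe8 ye46 ze25) (ke xe16 ye25 ze53) (ke xe8 ye46 ze27) (ke xe24 ye24 ze8) (ke xe12 ye6 ze27) (ke xe19 ye18 ze36)) (@D3.rec (fun _ => Pt) (ke xe8 ye46 ze28) (ke xe16 ye32 ze60) (ke xe12 ye22 ze43) (ke xe10 ye58 ze61) (ke xe8 ye46 ze30) (ke xe23 ye34 ze40) (ke xe24 ye54 ze11) (ke xe8 ye46 ze33) (ke xe16 ye19 ze57) (ke xe26 ye22 ze47) (ke xe14 ye7 ze22) (ke xe23 ye3 ze35) (ke xe24 ye24 ze0) (ke xe12 ye22 ze55) (ke xe21 ye54 ze38) (ke xe12 ye22 ze61) (ke xe18 ye18 ze41) (ke xe22 ye42 ze41) (ke xe11 ye29 ze18) (ke xe23 ye5 ze36) (ke xe26 ye22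 ze53) (ke xe17 ye25 ze5) (ke xe26 ye22 ze54) (ke xe8 ye46 ze42) (ke xe21 ye29 ze5) (ke xe26 ye22 ze58) (ke xe11 ye36 ze49) (ke xe8 ye46 ze44) (ke xe25 ye25 ze30) (ke xe26 ye22 ze59) (ke xe21 ye51 ze53) (ke xe11 ye37 ze49) (ke xe16 ye24 ze51) (ke xe15 ye25 ze53) (ke xe24 ye30 ze61) (ke xe8 ye46 ze46) (ke xe11 ye50 ze8) (ke xe11 ye34 ze44) (ke xe8 ye46 ze47) (ke xe26 ye23 ze7) (ke xe16 ye11 ze53) (ke xe23 ye43 ze13) (ke xe8 ye46 ze50) (ke xe15 ye5 ze60) (ke xe15 ye6 ze11) (ke xe21 ye29 ze20) (ke xe17 ye53 ze12) (ke xe15 ye10 ze28) (ke xe8 ye46 ze52) (ke xe26 ye23 ze13) (ke xe8 ye46 ze53) (ke xe17 ye57 ze0) (ke xe26 ye23 ze14) (ke xe16 ye24 ze57) (ke xe26 ye23 ze16) (ke xe24 ye9 ze26) (ke xe22 ye53 ze59) (ke xe26 ye23 ze19) (ke xe8 ye46 ze57) (ke xe22 ye46 ze26) (ke xe8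 ye46 ze60) (ke xe20 ye0 ze59)) (@D3.rec (fun _ => Pt) (ke xe26 ye23 ze25) (ke xe26 ye23 ze26) (ke xe25 ye43 ze54) (ke xe25 ye59 ze48) (ke xe22 ye46 ze24) (ke xe13 ye41 ze0) (ke xe16 ye24 ze21) (ke xe8 ye47 ze1) (ke xe13 ye33 ze57) (ke xe14 ye59 ze25) (ke xe16 ye24 ze26) (ke xe8 ye47 ze3) (ke xe8 ye47 ze4) (ke xe13 ye39 ze11) (ke xe26 ye23 ze37) (ke xe12 ye51 ze5) (ke xe24 ye47 ze3) (ke xe13 ye39 ze0) (ke xe13 ye39 ze2) (ke xe26 ye23 ze42) (ke xe23 ye10 ze23) (ke xe8 ye47 ze7) (ke xe20 ye34 ze1) (ke xe26 ye23 ze44) (ke xe8 ye47 ze14) (ke xe26 ye23 ze45) (ke xe23 ye10 ze45) (ke xe25 ye57 ze20) (ke xe8 ye47 ze11) (ke xe23 ye12 ze5) (ke xe26 ye23 ze48) (ke xe8 ye47 ze12) (ke xe13 ye40 ze30) (ke xe13 ye40 ze33) (ke xe26 ye23 ze52) (ke xe25 ye59 ze17) (ke xe26 ye23 ze55)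 (ke xe25 ye59 ze47) (ke xe8 ye47 ze15) (ke xe15 ye6 ze7) (ke xe13 ye38 ze20) (ke xe13 ye33 ze6) (ke xe8 ye47 ze16) (ke xe22 ye17 ze25) (ke xe17 ye57 ze26) (ke xe15 ye18 ze12) (ke xe16 ye23 ze13) (ke xe26 ye17 ze52) (ke xe8 ye47 ze19) (ke xe26 ye17 ze53) (ke xe16 ye24 ze14) (ke xe26 ye24 ze5) (ke xe26 ye24 ze7) (ke xe8 ye47 ze22) (ke xe23 ye12 ze7) (ke xe15 ye20 ze14) (ke xe8 ye47 ze23) (ke xe26 ye24 ze13) (ke xe15 ye54 ze6) (ke xe8 ye47 ze39) (ke xe25 ye25 ze58) (ke xe26 ye24 ze14)) (@D3.rec (fun _ => Pt) (ke xe8 ye47 ze25) (ke xe25 ye11 ze38) (ke xe23 ye10 ze10) (ke xe17 ye57 ze27) (ke xe22 ye17 ze16) (ke xe8 ye47 ze28) (ke xe26 ye24 ze22) (ke xe8 ye47 ze29) (ke xe22 ye17 ze24) (ke xe17 ye56 ze59) (ke xe17 ye57 ze23) (ke xe26 ye24 ze26) (ke xe8 ye47 ze31) (ke xe26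 ye24 ze28) (ke xe8 ye47 ze32) (ke xe21 ye1 ze60) (ke xe26 ye24 ze33) (ke xe13 ye43 ze33) (ke xe23 ye2 ze20) (ke xe8 ye47 ze34) (ke xe25 ye8 ze59) (ke xe26 ye24 ze37) (ke xe26 ye24 ze8) (ke xe17 ye57 ze33) (ke xe8 ye47 ze37) (ke xe21 ye39 ze36) (ke xe17 ye58 ze40) (ke xe25 ye4 ze55) (ke xe25 ye25 ze59) (ke xe17 ye32 ze51) (ke xe8 ye47 ze40) (ke xe8 ye47 ze41) (ke xe16 ye19 ze47) (ke xe26 ye24 ze47) (ke xe26 ye24 ze48) (ke xe26 ye24 ze49) (ke xe18 ye59 ze26) (ke xe8 ye47 ze44) (ke xe13 ye32 ze0) (ke xe26 ye24 ze52) (ke xe11 ye32 ze43) (ke xe8 ye47 ze47) (ke xe8 ye47 ze48) (ke xe26 ye24 ze56) (ke xe21 ye4 ze10) (ke xe17 ye57 ze42) (ke xe26 ye24 ze59) (ke xe8 ye47 ze50) (ke xe15 ye47 ze32) (ke xe26 ye25 ze2) (ke xe8 ye47 ze51) (ke xe21 ye28 ze39) (ke xe26 ye25 ze4) (ke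 xe8 ye47 ze53) (ke xe26 ye25 ze8) (ke xe8 ye47 ze54) (ke xe21 ye4 ze12) (ke xe23 ye9 ze15) (ke xe16 ye31 ze53) (ke xe26 ye25 ze11) (ke xe8 ye47 ze56) (ke xe8 ye47 ze60)) (@D3.rec (fun _ => Pt) (ke xe16 ye13 ze22) (ke xe16 ye13 ze21) (ke xe8 ye47 ze59) (ke xe26 ye25 ze15) (ke xe13 ye58 ze48) (ke xe10 ye57 ze57) (ke xe25 ye18 ze21) (ke xe26 ye25 ze18) (ke xe8 ye48 ze0) (ke xe8 ye48 ze1) (ke xe17 ye59 ze54) (ke xe8 ye48 ze6) (ke xe8 ye48 ze7) (ke xe26 ye25 ze24) (ke xe8 ye51 ze13) (ke xe23 ye8 ze53) (ke xe26 ye25 ze26) (ke xe8 ye48 ze10) (ke xe21 ye44 ze37) (ke xe20 ye30 ze47) (ke xe13 ye32 ze15) (ke xe25 ye12 ze22) (ke xe11 ye18 ze52) (ke xe26 ye25 ze29) (ke xe8 ye48 ze16) (ke xe8 ye48 ze17) (ke xe12 ye6 ze15) (ke xe8 ye48 ze20) (ke xe12 ye46 ze4) (ke xe20 ye36 ze15)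 (ke xe13 ye4 ze18) (ke xe21 ye41 ze50) (ke xe24 ye9 ze21) (ke xe22 ye48 ze13) (ke xe26 ye25 ze38) (ke xe22 ye52 ze51) (ke xe26 ye25 ze39) (ke xe8 ye48 ze26) (ke xe26 ye25 ze41) (ke xe25 ye58 ze24) (ke xe25 ye12 ze11) (ke xe8 ye48 ze29) (ke xe21 ye39 ze39) (ke xe13 ye29 ze12) (ke xe21 ye51 ze30) (ke xe26 ye25 ze48) (ke xe8 ye48 ze31) (ke xe26 ye25 ze52) (ke xe11 ye32 ze42) (ke xe15 ye53 ze22) (ke xe8 ye48 ze32) (ke xe26 ye17 ze55) (ke xe26 ye25 ze55) (ke xe8 ye51 ze11) (ke xe8 ye48 ze36) (ke xe26 ye25 ze56) (ke xe8 ye48 ze37) (ke xe25 ye28 ze38) (ke xe24 ye58 ze27) (ke xe8 ye48 ze39) (ke xe26 ye25 ze60) (ke xe8 ye48 ze40)) (@D3.rec (fun _ => Pt) (ke xe25 ye6 ze17) (ke xe26 ye26 ze6) (ke xe8 ye51 ze37) (ke xe20 ye1 ze61) (ke xe8 ye48 ze44) (ke xe22 ye20 ze59) (ke xe12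 ye33 ze20) (ke xe19 ye37 ze53) (ke xe8 ye48 ze48) (ke xe16 ye22 ze33) (ke xe25 ye28 ze36) (ke xe8 ye48 ze50) (ke xe17 ye34 ze45) (ke xe26 ye26 ze14) (ke xe8 ye48 ze52) (ke xe8 ye49 ze42) (ke xe26 ye26 ze17) (ke xe8 ye48 ze57) (ke xe8 ye48 ze58) (ke xe21 ye36 ze35) (ke xe20 ye25 ze3) (ke xe8 ye48 ze61) (ke xe14 ye0 ze38) (ke xe23 ye16 ze33) (ke xe26 ye25 ze31) (ke xe13 ye59 ze9) (ke xe25 ye45 ze53) (ke xe26 ye26 ze22) (ke xe8 ye49 ze5) (ke xe19 ye33 ze17) (ke xe26 ye25 ze49) (ke xe20 ye20 ze48) (ke xe26 ye26 ze25) (ke xe8 ye49 ze7) (ke xe26 ye26 ze26) (ke xe8 ye49 ze9) (ke xe8 ye49 ze16) (ke xe26 ye26 ze28) (ke xe8 ye49 ze12) (ke xe26 ye26 ze31) (ke xe8 ye49 ze13) (ke xe23 ye32 ze4) (ke xe19 ye47 ze54) (ke xe16 ye30 ze7) (ke xe10 ye16 ze14) (ke xe8 ye49 ze15) (ke xe25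 ye32 ze35) (ke xe12 ye20 ze53) (ke xe8 ye49 ze17) (ke xe26 ye26 ze38) (ke xe16 ye36 ze9) (ke xe8 ye49 ze19) (ke xe11 ye7 ze24) (ke xe26 ye26 ze1) (ke xe22 ye51 ze8) (ke xe26 ye26 ze42) (ke xe20 ye24 ze36) (ke xe26 ye26 ze47) (ke xe8 ye49 ze22) (ke xe26 ye26 ze48) (ke xe16 ye43 ze36) (ke xe26 ye26 ze49)) (@D3.rec (fun _ => Pt) (ke xe8 ye49 ze25) (ke xe20 ye54 ze35) (ke xe16 ye30 ze49) (ke xe26 ye19 ze56) (ke xe8 ye49 ze27) (ke xe26 ye26 ze53) (ke xe8 ye49 ze32) (ke xe16 ye29 ze43) (ke xe8 ye49 ze30) (ke xe8 ye49 ze31) (ke xe26 ye26 ze61) (ke xe23 ye6 ze2) (ke xe26 ye26 ze55) (ke xe14 ye19 ze26) (ke xe17 ye25 ze28) (ke xe8 ye49 ze33) (ke xe8 ye49 ze34) (ke xe11 ye23 ze1) (ke xe11 ye13 ze51) (ke xe8 ye49 ze51) (ke xe20 ye13 ze26) (ke xe12 ye44 ze15) (ke xe24 ye36 ze47)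 (ke xe26 ye27 ze4) (ke xe10 ye28 ze25) (ke xe8 ye49 ze41) (ke xe18 ye2 ze13) (ke xe26 ye27 ze5) (ke xe8 ye49 ze45) (ke xe10 ye5 ze16) (ke xe14 ye44 ze58) (ke xe23 ye3 ze45) (ke xe9 ye55 ze53) (ke xe8 ye49 ze52) (ke xe26 ye27 ze6) (ke xe26 ye27 ze7) (ke xe21 ye13 ze51) (ke xe26 ye27 ze8) (ke xe8 ye49 ze57) (ke xe11 ye34 ze21) (ke xe8 ye49 ze58) (ke xe12 ye56 ze21) (ke xe12 ye14 ze59) (ke xe8 ye50 ze7) (ke xe12 ye49 ze60) (ke xe20 ye13 ze34) (ke xe11 ye11 ze27) (ke xe21 ye15 ze18) (ke xe23 ye47 ze47) (ke xe16 ye30 ze2) (ke xe8 ye50 ze8) (ke xe20 ye0 ze41) (ke xe23 ye37 ze45) (ke xe17 ye59 ze55) (ke xe18 ye39 ze5) (ke xe8 ye50 ze10) (ke xe18 ye41 ze15) (ke xe18 ye38 ze41) (ke xe19 ye50 ze42) (ke xe18 ye39 ze6) (ke xe11 ye36 ze35) (ke xe19 ye49 ze37)) (@D3.rec (fun _ =>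 Pt) (ke xe23 ye31 ze33) (ke xe26 ye20 ze9) (ke xe21 ye54 ze41) (ke xe11 ye6 ze61) (ke xe26 ye27 ze27) (ke xe8 ye50 ze16) (ke xe26 ye27 ze29) (ke xe22 ye8 ze0) (ke xe26 ye27 ze31) (ke xe8 ye50 ze17) (ke xe22 ye22 ze42) (ke xe26 ye27 ze34) (ke xe8 ye50 ze24) (ke xe26 ye27 ze39) (ke xe26 ye27 ze42) (ke xe8 ye50 ze20) (ke xe26 ye27 ze47) (ke xe24 ye7 ze26) (ke xe8 ye50 ze22) (ke xe24 ye8 ze16) (ke xe8 ye50 ze23) (ke xe17 ye20 ze9) (ke xe26 ye27 ze36) (ke xe26 ye28 ze0) (ke xe26 ye28 ze1) (ke xe8 ye50 ze25) (ke xe19 ye39 ze21) (ke xe23 ye20 ze55) (ke xe8 ye50 ze28) (ke xe11 ye12 ze22) (ke xe26 ye10 ze22) (ke xe21 ye43 ze39) (ke xe13 ye41 ze50) (ke xe26 ye28 ze9) (ke xe21 ye35 ze43) (ke xe22 ye37 ze54) (ke xe8 ye50 ze31) (ke xe20 ye13 ze45) (ke xe19 ye52 ze58) (ke xe8 ye50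 ze32) (ke xe26 ye28 ze16) (ke xe13 ye20 ze52) (ke xe26 ye28 ze18) (ke xe11 ye29 ze17) (ke xe25 ye11 ze47) (ke xe8 ye50 ze35) (ke xe16 ye32 ze17) (ke xe11 ye13 ze48) (ke xe11 ye33 ze36) (ke xe8 ye50 ze37) (ke xe14 ye7 ze55) (ke xe8 ye50 ze38) (ke xe26 ye28 ze22) (ke xe16 ye27 ze58) (ke xe8 ye50 ze40) (ke xe8 ye50 ze41) (ke xe14 ye5 ze11) (ke xe21 ye14 ze50) (ke xe12 ye7 ze51) (ke xe26 ye28 ze27) (ke xe15 ye3 ze60) (ke xe9 ye8 ze32)) (@D3.rec (fun _ => Pt) (ke xe26 ye19 ze17) (ke xe26 ye28 ze35) (ke xe8 ye50 ze47) (ke xe20 ye8 ze27) (ke xe26 ye28 ze38) (ke xe22 ye47 ze56) (ke xe22 ye53 ze16) (ke xe12 ye5 ze5) (ke xe26 ye28 ze45) (ke xe15 ye0 ze20) (ke xe12 ye46 ze11) (ke xe26 ye28 ze49) (ke xe8 ye50 ze51) (ke xe16 ye34 ze4) (ke xe26 ye28 ze53) (ke xe8 ye50 ze52) (ke xe12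 ye7 ze60) (ke xe16 ye31 ze46) (ke xe11 ye34 ze3) (ke xe26 ye28 ze58) (ke xe26 ye28 ze60) (ke xe26 ye29 ze0) (ke xe8 ye50 ze54) (ke xe26 ye29 ze5) (ke xe8 ye50 ze55) (ke xe12 ye8 ze5) (ke xe13 ye42 ze41) (ke xe13 ye42 ze42) (ke xe26 ye29 ze9) (ke xe26 ye29 ze11) (ke xe8 ye50 ze58) (ke xe22 ye48 ze32) (ke xe24 ye48 ze13) (ke xe12 ye5 ze18) (ke xe26 ye21 ze32) (ke xe26 ye29 ze20) (ke xe8 ye50 ze60) (ke xe20 ye31 ze20) (ke xe25 ye52 ze16) (ke xe26 ye29 ze21) (ke xe8 ye51 ze0) (ke xe20 ye30 ze10) (ke xe24 ye25 ze40) (ke xe22 ye14 ze43) (ke xe8 ye51 ze1) (ke xe26 ye29 ze28) (ke xe16 ye53 ze5) (ke xe26 ye29 ze31) (ke xe8 ye51 ze2) (ke xe17 ye15 ze1) (ke xe26 ye29 ze35) (ke xe21 ye13 ze59) (ke xe15 ye8 ze28) (ke xe18 ye19 ze49) (ke xe26 ye29 ze40) (ke xe8 ye51 ze4) (ke xe16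 ye34 ze38) (ke xe26 ye29 ze44) (ke xe8 ye51 ze5) (ke xe15 ye8 ze46) (ke xe16 ye25 ze1) (ke xe26 ye29 ze48)) (@D3.rec (fun _ => Pt) (ke xe26 ye29 ze49) (ke xe8 ye51 ze7) (ke xe17 ye54 ze40) (ke xe13 ye50 ze41) (ke xe26 ye20 ze61) (ke xe16 ye21 ze10) (ke xe26 ye29 ze55) (ke xe18 ye14 ze11) (ke xe8 ye51 ze9) (ke xe26 ye19 ze22) (ke xe16 ye8 ze37) (ke xe15 ye10 ze13) (ke xe26 ye19 ze33) (ke xe8 ye51 ze14) (ke xe21 ye53 ze40) (ke xe12 ye42 ze27) (ke xe22 ye51 ze35) (ke xe13 ye7 ze0) (ke xe8 ye51 ze16) (ke xe26 ye29 ze60) (ke xe24 ye47 ze43) (ke xe26 ye30 ze5) (ke xe8 ye51 ze18) (ke xe26 ye30 ze7) (ke xe8 ye51 ze19) (ke xe12 ye30 ze47) (ke xe26 ye30 ze10) (ke xe8 ye51 ze21) (ke xe8 ye51 ze24) (ke xe26 ye30 ze12) (ke xe10 ye17 ze36) (ke xe26 ye21 ze15) (ke xe26 ye30 ze15)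 (ke xe26 ye30 ze17) (ke xe8 ye51 ze27) (ke xe26 ye30 ze20) (ke xe21 ye10 ze36) (ke xe26 ye30 ze22) (ke xe8 ye51 ze28) (ke xe12 ye8 ze61) (ke xe13 ye43 ze24) (ke xe8 ye51 ze30) (ke xe26 ye30 ze30) (ke xe8 ye51 ze31) (ke xe26 ye30 ze31) (ke xe20 ye30 ze22) (ke xe21 ye10 ze45) (ke xe26 ye30 ze34) (ke xe8 ye51 ze34) (ke xe26 ye30 ze37) (ke xe26 ye30 ze40) (ke xe8 ye51 ze50) (ke xe26 ye30 ze46) (ke xe22 ye51 ze47) (ke xe26 ye26 ze8) (ke xe26 ye30 ze50) (ke xe26 ye30 ze52) (ke xe8 ye51 ze38) (ke xe26 ye30 ze24) (ke xe26 ye21 ze19) (ke xe21 ye10 ze37) (ke xe25 ye55 ze11)) (@D3.rec (fun _ => Pt) (ke xe8 ye51 ze40) (ke xe25 ye54 ze44) (ke xe8 ye51 ze41) (ke xe26 ye31 ze7) (ke xe16 ye32 ze13) (ke xe21 ye10 ze32) (ke xe8 ye51 ze43) (ke xe26 ye31 ze12) (ke xe8 ye51 ze44) (ke xe25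 ye1 ze55) (ke xe26 ye31 ze22) (ke xe21 ye10 ze49) (ke xe26 ye31 ze25) (ke xe8 ye51 ze46) (ke xe26 ye31 ze32) (ke xe23 ye4 ze55) (ke xe21 ye10 ze44) (ke xe15 ye0 ze46) (ke xe8 ye51 ze48) (ke xe26 ye31 ze38) (ke xe8 ye51 ze49) (ke xe24 ye48 ze31) (ke xe26 ye30 ze35) (ke xe26 ye30 ze42) (ke xe26 ye31 ze49) (ke xe8 ye51 ze51) (ke xe26 ye31 ze52) (ke xe8 ye51 ze52) (ke xe26 ye31 ze53) (ke xe8 ye51 ze53) (ke xe26 ye31 ze58) (ke xe26 ye31 ze60) (ke xe18 ye2 ze38) (ke xe11 ye38 ze8) (ke xe22 ye55 ze29) (ke xe8 ye51 ze57) (ke xe26 ye32 ze2) (ke xe8 ye51 ze58) (ke xe16 ye32 ze56) (ke xe21 ye11 ze5) (ke xe25 ye33 ze61) (ke xe26 ye15 ze36) (ke xe8 ye51 ze61) (ke xe26 ye32 ze10) (ke xe10 ye21 ze8) (ke xe22 ye50 ze53) (ke xe26 ye32 ze13) (ke xe8 ye52 ze3) (ke xe22 ye51 ze26) (ke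 xe26 ye32 ze18) (ke xe20 ye35 ze61) (ke xe8 ye52 ze5) (ke xe10 ye28 ze20) (ke xe26 ye32 ze22) (ke xe20 ye36 ze11) (ke xe12 ye22 ze5) (ke xe26 ye32 ze24) (ke xe10 ye28 ze28) (ke xe13 ye40 ze45) (ke xe16 ye24 ze4) (ke xe8 ye52 ze9) (ke xe10 ye22 ze28)) (@D3.rec (fun _ => Pt) (ke xe26 ye32 ze26) (ke xe16 ye35 ze42) (ke xe10 ye22 ze34) (ke xe16 ye5 ze10) (ke xe16 ye22 ze18) (ke xe8 ye52 ze13) (ke xe10 ye28 ze45) (ke xe23 ye7 ze4) (ke xe17 ye15 ze32) (ke xe8 ye52 ze16) (ke xe16 ye22 ze2) (ke xe14 ye58 ze55) (ke xe16 ye22 ze49) (ke xe20 ye32 ze12) (ke xe8 ye52 ze18) (ke xe8 ye52 ze19) (ke xe19 ye58 ze54) (ke xe16 ye35 ze49) (ke xe10 ye30 ze25) (ke xe26 ye32 ze34) (ke xe26 ye32 ze36) (ke xe8 ye52 ze21) (ke xe26 ye32 ze39) (ke xe26 ye32 ze40) (ke xe26 ye32 ze42) (ke xe8 ye52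 ze22) (ke xe21 ye30 ze7) (ke xe26 ye32 ze49) (ke xe25 ye17 ze51) (ke xe17 ye56 ze45) (ke xe11 ye13 ze13) (ke xe26 ye32 ze50) (ke xe9 ye44 ze44) (ke xe10 ye29 ze42) (ke xe20 ye7 ze47) (ke xe24 ye28 ze23) (ke xe26 ye32 ze51) (ke xe8 ye52 ze32) (ke xe8 ye52 ze33) (ke xe11 ye59 ze16) (ke xe10 ye26 ze28) (ke xe19 ye48 ze17) (ke xe16 ye35 ze1) (ke xe24 ye46 ze8) (ke xe10 ye29 ze56) (ke xe13 ye41 ze33) (ke xe12 ye7 ze30) (ke xe8 ye52 ze38) (ke xe8 ye52 ze39) (ke xe16 ye35 ze17) (ke xe24 ye58 ze58) (ke xe8 ye52 ze42) (ke xe19 ye48 ze20) (ke xe19 ye2 ze18) (ke xe13 ye13 ze61) (ke xe22 ye50 ze29) (ke xe13 ye47 ze24) (ke xe26 ye20 ze42) (ke xe22 ye29 ze17) (ke xe26 ye33 ze1) (ke xe10 ye59 ze18) (ke xe8 ye52 ze45)) (@D3.rec (fun _ => Pt) (ke xe11 ye44 ze26) (ke xe26 ye33 ze4) (ke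 xe11 ye27 ze27) (ke xe9 ye30 ze21) (ke xe8 ye52 ze47) (ke xe20 ye19 ze36) (ke xe8 ye52 ze49) (ke xe12 ye53 ze49) (ke xe8 ye52 ze51) (ke xe16 ye29 ze50) (ke xe23 ye14 ze48) (ke xe23 ye46 ze28) (ke xe8 ye52 ze53) (ke xe20 ye56 ze27) (ke xe26 ye33 ze10) (ke xe26 ye7 ze58) (ke xe8 ye52 ze54) (ke xe20 ye55 ze60) (ke xe21 ye1 ze38) (ke xe8 ye53 ze47) (ke xe16 ye40 ze35) (ke xe10 ye37 ze13) (ke xe26 ye33 ze18) (ke xe26 ye33 ze19) (ke xe20 ye35 ze23) (ke xe8 ye52 ze58) (ke xe8 ye52 ze59) (ke xe26 ye2 ze47) (ke xe20 ye55 ze9) (ke xe26 ye33 ze24) (ke xe8 ye54 ze28) (ke xe26 ye1 ze42) (ke xe26 ye33 ze27) (ke xe20 ye55 ze15) (ke xe8 ye53 ze2) (ke xe8 ye54 ze51) (ke xe8 ye55 ze4) (ke xe12 ye54 ze29) (ke xe26 ye33 ze34) (ke xe26 ye33 ze35) (ke xe8 ye53 ze4) (ke xe8 ye53 ze5) (ke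 xe26 ye33 ze42) (ke xe8 ye54 ze56) (ke xe26 ye33 ze44) (ke xe26 ye33 ze46) (ke xe26 ye33 ze48) (ke xe26 ye33 ze50) (ke xe25 ye10 ze23) (ke xe8 ye53 ze7) (ke xe14 ye34 ze8) (ke xe26 ye33 ze55) (ke xe14 ye34 ze5) (ke xe26 ye33 ze56) (ke xe8 ye53 ze8) (ke xe26 ye4 ze58) (ke xe26 ye33 ze59) (ke xe26 ye33 ze61) (ke xe26 ye4 ze55) (ke xe8 ye53 ze10) (ke xe8 ye53 ze11) (ke xe26 ye34 ze5)) (@D3.rec (fun _ => Pt) (ke xe8 ye53 ze12) (ke xe26 ye34 ze10) (ke xe8 ye53 ze13) (ke xe24 ye14 ze44) (ke xe15 ye36 ze25) (ke xe25 ye20 ze14) (ke xe20 ye57 ze48) (ke xe26 ye34 ze17) (ke xe26 ye34 ze19) (ke xe26 ye34 ze20) (ke xe8 ye53 ze16) (ke xe26 ye2 ze1) (ke xe8 ye53 ze19) (ke xe26 ye34 ze26) (ke xe26 ye34 ze28) (ke xe26 ye34 ze30) (ke xe26 ye34 ze31) (ke xe8 ye53 ze21) (ke xe8 ye53 ze22)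 (ke xe26 ye34 ze38) (ke xe16 ye41 ze61) (ke xe26 ye34 ze37) (ke xe20 ye55 ze5) (ke xe16 ye42 ze44) (ke xe19 ye1 ze5) (ke xe11 ye37 ze7) (ke xe19 ye40 ze44) (ke xe26 ye34 ze45) (ke xe26 ye34 ze47) (ke xe8 ye53 ze27) (ke xe8 ye53 ze28) (ke xe10 ye3 ze32) (ke xe20 ye56 ze14) (ke xe26 ye34 ze52) (ke xe26 ye34 ze56) (ke xe24 ye35 ze16) (ke xe26 ye34 ze58) (ke xe26 ye34 ze60) (ke xe8 ye53 ze30) (ke xe8 ye53 ze31) (ke xe26 ye35 ze4) (ke xe19 ye54 ze57) (ke xe11 ye39 ze32) (ke xe26 ye35 ze10) (ke xe25 ye32 ze4) (ke xe26 ye35 ze13) (ke xe8 ye53 ze33) (ke xe8 ye53 ze34) (ke xe26 ye35 ze15) (ke xe16 ye38 ze8) (ke xe26 ye35 ze21) (ke xe26 ye35 ze22) (ke xe8 ye53 ze36) (ke xe26 ye35 ze28) (ke xe25 ye20 ze2) (ke xe9 ye12 ze44) (ke xe8 ye53 ze37) (ke xe19 ye32 ze20) (ke xe8 ye53 ze38)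 (ke xe21 ye0 ze5) (ke xe20 ye39 ze15) (ke xe8 ye53 ze39)) (@D3.rec (fun _ => Pt) (ke xe20 ye56 ze5) (ke xe26 ye35 ze48) (ke xe26 ye35 ze41) (ke xe26 ye7 ze59) (ke xe11 ye52 ze52) (ke xe8 ye53 ze41) (ke xe25 ye52 ze24) (ke xe8 ye53 ze42) (ke xe16 ye37 ze49) (ke xe26 ye35 ze61) (ke xe8 ye53 ze46) (ke xe25 ye45 ze11) (ke xe20 ye56 ze9) (ke xe26 ye36 ze6) (ke xe26 ye36 ze10) (ke xe26 ye36 ze12) (ke xe8 ye53 ze45) (ke xe26 ye36 ze16) (ke xe26 ye36 ze19) (ke xe26 ye36 ze2) (ke xe26 ye36 ze25) (ke xe10 ye53 ze12) (ke xe14 ye41 ze40) (ke xe19 ye34 ze43) (ke xe26 ye36 ze31) (ke xe8 ye53 ze49) (ke xe26 ye36 ze36) (ke xe8 ye53 ze51) (ke xe26 ye36 ze38) (ke xe8 ye53 ze55) (ke xe26 ye36 ze45) (ke xe10 ye33 ze59) (ke xe26 ye36 ze47) (ke xe8 ye53 ze54) (ke xe10 ye31 ze44) (ke xe14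 ye36 ze26) (ke xe26 ye36 ze41) (ke xe26 ye36 ze49) (ke xe8 ye53 ze56) (ke xe26 ye36 ze51) (ke xe26 ye36 ze52) (ke xe19 ye14 ze0) (ke xe8 ye53 ze57) (ke xe26 ye36 ze54) (ke xe26 ye36 ze56) (ke xe8 ye53 ze58) (ke xe26 ye36 ze61) (ke xe8 ye53 ze59) (ke xe16 ye38 ze60) (ke xe26 ye37 ze5) (ke xe19 ye34 ze57) (ke xe8 ye53 ze60) (ke xe26 ye37 ze16) (ke xe20 ye55 ze0) (ke xe26 ye37 ze11) (ke xe25 ye8 ze10) (ke xe26 ye37 ze22) (ke xe20 ye39 ze6) (ke xe8 ye54 ze3) (ke xe25 ye8 ze16) (ke xe16 ye38 ze48) (ke xe21 ye51 ze56)) (@D3.rec (fun _ => Pt) (ke xe8 ye54 ze1) (ke xe18 ye18 ze18) (ke xe25 ye45 ze7) (ke xe20 ye38 ze60) (ke xe20 ye38 ze20) (ke xe8 ye59 ze31) (ke xe26 ye37 ze34) (ke xe10 ye49 ze53) (ke xe8 ye54 ze5) (ke xe19 ye1 ze10) (ke xe22 ye4 ze4) (ke xe26 ye37 ze39) (ke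 xe15 ye27 ze53) (ke xe26 ye37 ze40) (ke xe8 ye54 ze8) (ke xe26 ye37 ze44) (ke xe15 ye2 ze48) (ke xe10 ye38 ze53) (ke xe10 ye28 ze2) (ke xe8 ye54 ze11) (ke xe24 ye0 ze20) (ke xe8 ye58 ze61) (ke xe19 ye14 ze17) (ke xe8 ye54 ze14) (ke xe11 ye53 ze15) (ke xe25 ye10 ze11) (ke xe26 ye37 ze51) (ke xe20 ye56 ze51) (ke xe26 ye37 ze52) (ke xe26 ye37 ze55) (ke xe8 ye54 ze17) (ke xe19 ye14 ze22) (ke xe15 ye28 ze36) (ke xe8 ye58 ze54) (ke xe8 ye54 ze19) (ke xe16 ye55 ze58) (ke xe26 ye37 ze59) (ke xe26 ye37 ze61) (ke xe26 ye38 ze1) (ke xe26 ye33 ze22) (ke xe8 ye54 ze22) (ke xe26 ye38 ze3) (ke xe8 ye54 ze23) (ke xe21 ye1 ze20) (ke xe8 ye54 ze27) (ke xe20 ye38 ze22) (ke xe20 ye57 ze17) (ke xe26 ye38 ze14) (ke xe25 ye32 ze13) (ke xe26 ye38 ze15) (ke xe8 ye54 ze26) (ke xe26 ye38 ze16)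 (ke xe12 ye54 ze41) (ke xe24 ye3 ze31) (ke xe26 ye38 ze19) (ke xe20 ye57 ze23) (ke xe26 ye38 ze21) (ke xe9 ye3 ze2) (ke xe26 ye38 ze25) (ke xe26 ye38 ze27) (ke xe8 ye54 ze31) (ke xe10 ye23 ze20)) (@D3.rec (fun _ => Pt) (ke xe18 ye58 ze54) (ke xe10 ye16 ze25) (ke xe26 ye38 ze33) (ke xe21 ye57 ze61) (ke xe8 ye54 ze36) (ke xe20 ye38 ze31) (ke xe8 ye54 ze37) (ke xe20 ye38 ze54) (ke xe26 ye38 ze43) (ke xe8 ye54 ze38) (ke xe26 ye38 ze48) (ke xe26 ye38 ze50) (ke xe26 ye38 ze45) (ke xe25 ye10 ze15) (ke xe26 ye38 ze55) (ke xe26 ye38 ze57) (ke xe8 ye54 ze43) (ke xe25 ye10 ze17) (ke xe26 ye37 ze18) (ke xe26 ye39 ze1) (ke xe8 ye54 ze41) (ke xe20 ye56 ze52) (ke xe26 ye39 ze3) (ke xe26 ye39 ze5) (ke xe26 ye38 ze60) (ke xe26 ye39 ze6) (ke xe26 ye39 ze9) (ke xe26 ye39 ze8) (ke xe8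 ye54 ze45) (ke xe26 ye39 ze11) (ke xe26 ye39 ze13) (ke xe26 ye39 ze16) (ke xe8 ye54 ze49) (ke xe20 ye57 ze27) (ke xe20 ye57 ze28) (ke xe16 ye36 ze20) (ke xe26 ye33 ze31) (ke xe26 ye39 ze22) (ke xe15 ye56 ze20) (ke xe26 ye39 ze24) (ke xe8 ye54 ze52) (ke xe24 ye3 ze21) (ke xe26 ye39 ze28) (ke xe26 ye33 ze39) (ke xe16 ye11 ze7) (ke xe15 ye51 ze44) (ke xe26 ye39 ze29) (ke xe8 ye54 ze55) (ke xe26 ye39 ze32) (ke xe11 ye54 ze25) (ke xe17 ye14 ze7) (ke xe11 ye54 ze11) (ke xe8 ye54 ze58) (ke xe17 ye4 ze27) (ke xe8 ye54 ze59) (ke xe20 ye57 ze44) (ke xe26 ye39 ze42) (ke xe18 ye41 ze39) (ke xe26 ye39 ze44) (ke xe8 ye54 ze61) (ke xe26 ye39 ze48) (ke xe26 ye39 ze50)) (@D3.rec (fun _ => Pt) (ke xe26 ye39 ze45) (ke xe25 ye45 ze29) (ke xe16 ye11 ze5) (ke xe9 ye42 ze5) (ke xe8 ye55 ze3)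 (ke xe20 ye23 ze24) (ke xe19 ye13 ze50) (ke xe26 ye33 ze38) (ke xe26 ye39 ze53) (ke xe8 ye55 ze5) (ke xe26 ye39 ze55) (ke xe8 ye55 ze7) (ke xe8 ye55 ze6) (ke xe20 ye57 ze61) (ke xe8 ye55 ze9) (ke xe26 ye1 ze57) (ke xe26 ye39 ze12) (ke xe26 ye39 ze58) (ke xe12 ye49 ze44) (ke xe26 ye39 ze59) (ke xe26 ye39 ze60) (ke xe8 ye55 ze8) (ke xe20 ye37 ze61) (ke xe26 ye40 ze1) (ke xe26 ye40 ze2) (ke xe16 ye55 ze57) (ke xe26 ye39 ze7) (ke xe8 ye55 ze11) (ke xe11 ye53 ze46) (ke xe26 ye40 ze5) (ke xe26 ye40 ze7) (ke xe8 ye55 ze12) (ke xe20 ye23 ze31) (ke xe8 ye55 ze13) (ke xe20 ye24 ze38) (ke xe8 ye55 ze14) (ke xe20 ye39 ze2) (ke xe20 ye23 ze56) (ke xe26 ye38 ze22) (ke xe26 ye40 ze15) (ke xe20 ye58 ze46) (ke xe26 ye40 ze18) (ke xe8 ye55 ze16) (ke xe26 ye40 ze21) (ke xe8 ye55 ze17)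 (ke xe20 ye39 ze44) (ke xe26 ye40 ze27) (ke xe8 ye55 ze18) (ke xe26 ye40 ze32) (ke xe23 ye59 ze9) (ke xe24 ye32 ze14) (ke xe21 ye56 ze30) (ke xe8 ye55 ze19) (ke xe24 ye23 ze35) (ke xe20 ye39 ze21) (ke xe19 ye31 ze41) (ke xe26 ye40 ze39) (ke xe8 ye55 ze21) (ke xe26 ye40 ze41) (ke xe25 ye31 ze2) (ke xe11 ye53 ze51) (ke xe16 ye37 ze20)) (@D3.rec (fun _ => Pt) (ke xe16 ye50 ze2) (ke xe17 ye48 ze48) (ke xe26 ye40 ze46) (ke xe26 ye10 ze31) (ke xe26 ye34 ze11) (ke xe26 ye40 ze52) (ke xe26 ye40 ze56) (ke xe8 ye55 ze25) (ke xe26 ye40 ze60) (ke xe26 ye40 ze61) (ke xe26 ye34 ze9) (ke xe26 ye41 ze1) (ke xe22 ye10 ze9) (ke xe24 ye2 ze27) (ke xe8 ye55 ze27) (ke xe26 ye41 ze3) (ke xe12 ye53 ze23) (ke xe22 ye4 ze55) (ke xe17 ye49 ze39) (ke xe26 ye41 ze6) (ke xe8 ye55 ze29) (ke xe19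 ye31 ze38) (ke xe17 ye48 ze10) (ke xe26 ye41 ze10) (ke xe8 ye55 ze30) (ke xe8 ye55 ze31) (ke xe26 ye41 ze11) (ke xe8 ye55 ze35) (ke xe26 ye41 ze14) (ke xe26 ye40 ze25) (ke xe8 ye55 ze33) (ke xe20 ye58 ze39) (ke xe8 ye55 ze34) (ke xe26 ye41 ze8) (ke xe26 ye41 ze17) (ke xe26 ye41 ze12) (ke xe18 ye22 ze8) (ke xe8 ye55 ze36) (ke xe26 ye41 ze24) (ke xe26 ye41 ze27) (ke xe8 ye55 ze37) (ke xe18 ye22 ze9) (ke xe26 ye2 ze53) (ke xe26 ye40 ze33) (ke xe16 ye37 ze23) (ke xe25 ye15 ze13) (ke xe23 ye7 ze43) (ke xe26 ye41 ze32) (ke xe15 ye38 ze7) (ke xe8 ye55 ze42) (ke xe26 ye41 ze37) (ke xe19 ye31 ze29) (ke xe10 ye43 ze43) (ke xe19 ye35 ze3) (ke xe26 ye41 ze42) (ke xe20 ye5 ze2) (ke xe26 ye41 ze44) (ke xe17 ye16 ze55) (ke xe8 ye55 ze47) (ke xe18 ye52 ze28) (ke xe26 ye5 ze2) (ke xe26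 ye41 ze51)) (@D3.rec (fun _ => Pt) (ke xe12 ye52 ze23) (ke xe8 ye55 ze50) (ke xe14 ye47 ze43) (ke xe15 ye18 ze51) (ke xe26 ye41 ze54) (ke xe8 ye55 ze52) (ke xe26 ye41 ze59) (ke xe11 ye20 ze26) (ke xe8 ye55 ze54) (ke xe26 ye42 ze1) (ke xe8 ye55 ze55) (ke xe24 ye0 ze38) (ke xe19 ye8 ze58) (ke xe22 ye48 ze15) (ke xe9 ye26 ze14) (ke xe8 ye55 ze57) (ke xe8 ye56 ze1) (ke xe20 ye59 ze16) (ke xe26 ye42 ze9) (ke xe8 ye56 ze0) (ke xe15 ye58 ze13) (ke xe26 ye42 ze11) (ke xe19 ye38 ze60) (ke xe20 ye59 ze19) (ke xe26 ye42 ze12) (ke xe25 ye44 ze44) (ke xe26 ye42 ze14) (ke xe8 ye56 ze4) (ke xe11 ye37 ze5) (ke xe11 ye10 ze12) (ke xe26 ye2 ze54) (ke xe8 ye56 ze7) (ke xe8 ye56 ze8) (ke xe9 ye31 ze20) (ke xe11 ye37 ze0) (ke xe11 ye31 ze27) (ke xe16 ye29 ze60) (ke xe8 ye56 ze11) (ke xe20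 ye4 ze54) (ke xe11 ye28 ze20) (ke xe26 ye42 ze26) (ke xe26 ye42 ze27) (ke xe8 ye56 ze12) (ke xe17 ye59 ze8) (ke xe19 ye46 ze58) (ke xe10 ye43 ze52) (ke xe11 ye27 ze33) (ke xe22 ye6 ze16) (ke xe26 ye42 ze33) (ke xe8 ye56 ze14) (ke xe25 ye55 ze61) (ke xe8 ye56 ze15) (ke xe26 ye42 ze35) (ke xe13 ye27 ze47) (ke xe8 ye56 ze18) (ke xe11 ye27 ze13) (ke xe26 ye33 ze5) (ke xe8 ye56 ze19) (ke xe23 ye3 ze26) (ke xe15 ye4 ze50) (ke xe10 ye38 ze17) (ke xe14 ye39 ze0)) (@D3.rec (fun _ => Pt) (ke xe26 ye42 ze41) (ke xe26 ye42 ze42) (ke xe26 ye42 ze43) (ke xe26 ye42 ze44) (ke xe8 ye56 ze23) (ke xe8 ye56 ze24) (ke xe26 ye42 ze48) (ke xe14 ye29 ze5) (ke xe14 ye29 ze26) (ke xe26 ye42 ze51) (ke xe26 ye42 ze53) (ke xe8 ye56 ze26) (ke xe8 ye56 ze27) (ke xe25 ye51 ze28) (ke xe26 ye42 ze59)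 (ke xe23 ye57 ze25) (ke xe25 ye18 ze45) (ke xe26 ye43 ze6) (ke xe8 ye56 ze29) (ke xe19 ye41 ze54) (ke xe20 ye27 ze20) (ke xe13 ye45 ze40) (ke xe26 ye43 ze13) (ke xe8 ye56 ze31) (ke xe19 ye41 ze60) (ke xe10 ye46 ze61) (ke xe26 ye43 ze19) (ke xe26 ye43 ze20) (ke xe8 ye56 ze33) (ke xe26 ye43 ze24) (ke xe8 ye56 ze34) (ke xe14 ye26 ze23) (ke xe8 ye56 ze35) (ke xe26 ye43 ze28) (ke xe26 ye43 ze31) (ke xe26 ye43 ze35) (ke xe8 ye56 ze36) (ke xe24 ye46 ze16) (ke xe10 ye43 ze0) (ke xe26 ye43 ze38) (ke xe8 ye56 ze39) (ke xe10 ye42 ze61) (ke xe26 ye43 ze39) (ke xe8 ye56 ze41) (ke xe10 ye52 ze35) (ke xe8 ye56 ze43) (ke xe12 ye10 ze8) (ke xe22 ye5 ze18) (ke xe26 ye43 ze44) (ke xe26 ye43 ze45) (ke xe8 ye56 ze44) (ke xe12 ye30 ze59) (ke xe26 ye43 ze49) (ke xe24 ye36 ze31) (ke xe26 ye35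 ze39) (ke xe8 ye56 ze46) (ke xe26 ye43 ze54) (ke xe20 ye38 ze51) (ke xe8 ye56 ze47) (ke xe20 ye9 ze20) (ke xe19 ye43 ze29) (ke xe10 ye49 ze38)) (@D3.rec (fun _ => Pt) (ke xe9 ye3 ze61) (ke xe8 ye56 ze49) (ke xe10 ye52 ze19) (ke xe13 ye23 ze24) (ke xe8 ye56 ze51) (ke xe26 ye43 ze61) (ke xe26 ye44 ze1) (ke xe8 ye56 ze52) (ke xe20 ye50 ze54) (ke xe26 ye44 ze5) (ke xe26 ye44 ze7) (ke xe26 ye44 ze8) (ke xe20 ye9 ze19) (ke xe20 ye9 ze21) (ke xe20 ye9 ze13) (ke xe10 ye43 ze20) (ke xe10 ye43 ze21) (ke xe19 ye51 ze44) (ke xe22 ye6 ze20) (ke xe10 ye35 ze59) (ke xe12 ye54 ze20) (ke xe10 ye44 ze59) (ke xe8 ye56 ze58) (ke xe26 ye44 ze15) (ke xe18 ye52 ze57) (ke xe8 ye56 ze61) (ke xe11 ye55 ze20) (ke xe15 ye19 ze31) (ke xe26 ye44 ze19) (ke xe10 ye24 ze24) (ke xe26 ye44 ze21) (ke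 xe17 ye32 ze49) (ke xe8 ye57 ze2) (ke xe13 ye8 ze42) (ke xe8 ye57 ze4) (ke xe14 ye4 ze30) (ke xe13 ye36 ze28) (ke xe10 ye56 ze25) (ke xe15 ye39 ze39) (ke xe21 ye5 ze35) (ke xe8 ye57 ze10) (ke xe25 ye25 ze54) (ke xe10 ye24 ze20) (ke xe26 ye4 ze53) (ke xe26 ye44 ze33) (ke xe17 ye29 ze17) (ke xe8 ye57 ze9) (ke xe26 ye44 ze36) (ke xe26 ye44 ze28) (ke xe26 ye44 ze37) (ke xe25 ye25 ze56) (ke xe26 ye44 ze40) (ke xe10 ye54 ze19) (ke xe21 ye44 ze6) (ke xe10 ye22 ze6) (ke xe8 ye57 ze14) (ke xe21 ye33 ze8) (ke xe17 ye28 ze61) (ke xe10 ye22 ze7) (ke xe8 ye57 ze19) (ke xe26 ye44 ze46) (ke xe26 ye10 ze19)) (@D3.rec (fun _ => Pt) (ke xe25 ye24 ze42) (ke xe8 ye57 ze20) (ke xe17 ye58 ze16) (ke xe17 ye57 ze38) (ke xe26 ye44 ze48) (ke xe8 ye57 ze24) (ke xe9 ye6 ze57) (ke xe16 ye51 ze51)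 (ke xe9 ye48 ze35) (ke xe12 ye22 ze28) (ke xe24 ye57 ze3) (ke xe20 ye8 ze20) (ke xe8 ye57 ze26) (ke xe11 ye29 ze27) (ke xe11 ye20 ze38) (ke xe12 ye24 ze52) (ke xe12 ye24 ze55) (ke xe17 ye55 ze0) (ke xe16 ye51 ze52) (ke xe11 ye31 ze58) (ke xe9 ye6 ze33) (ke xe26 ye44 ze53) (ke xe8 ye57 ze32) (ke xe20 ye6 ze38) (ke xe17 ye7 ze3) (ke xe8 ye57 ze41) (ke xe10 ye0 ze36) (ke xe12 ye33 ze44) (ke xe10 ye44 ze7) (ke xe17 ye33 ze40) (ke xe26 ye44 ze60) (ke xe8 ye57 ze49) (ke xe24 ye6 ze35) (ke xe8 ye57 ze50) (ke xe26 ye44 ze4) (ke xe8 ye57 ze51) (ke xe21 ye40 ze17) (ke xe26 ye45 ze4) (ke xe25 ye36 ze10) (ke xe14 ye23 ze16) (ke xe26 ye45 ze7) (ke xe21 ye39 ze61) (ke xe17 ye10 ze46) (ke xe25 ye51 ze36) (ke xe26 ye45 ze11) (ke xe26 ye45 ze13) (ke xe13 ye17 ze34) (ke xe25 ye25 ze5)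 (ke xe10 ye23 ze57) (ke xe10 ye54 ze14) (ke xe14 ye29 ze19) (ke xe9 ye16 ze50) (ke xe8 ye57 ze58) (ke xe25 ye51 ze40) (ke xe26 ye45 ze24) (ke xe21 ye0 ze54) (ke xe26 ye45 ze26) (ke xe8 ye58 ze1) (ke xe26 ye45 ze27) (ke xe8 ye58 ze2) (ke xe26 ye3 ze0) (ke xe10 ye18 ze9)) (@D3.rec (fun _ => Pt) (ke xe20 ye25 ze22) (ke xe26 ye45 ze32) (ke xe26 ye45 ze34) (ke xe24 ye12 ze46) (ke xe10 ye52 ze53) (ke xe26 ye45 ze37) (ke xe8 ye58 ze7) (ke xe25 ye23 ze29) (ke xe26 ye45 ze40) (ke xe8 ye58 ze8) (ke xe8 ye58 ze10) (ke xe20 ye29 ze59) (ke xe8 ye58 ze14) (ke xe26 ye45 ze41) (ke xe8 ye58 ze15) (ke xe18 ye25 ze53) (ke xe21 ye1 ze0) (ke xe20 ye50 ze49) (ke xe21 ye32 ze39) (ke xe8 ye58 ze20) (ke xe26 ye45 ze44) (ke xe8 ye58 ze21) (ke xe11 ye16 ze23) (ke xe13 ye47 ze13) (ke xe23 ye42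 ze29) (ke xe8 ye58 ze23) (ke xe10 ye59 ze12) (ke xe9 ye13 ze12) (ke xe21 ye36 ze51) (ke xe23 ye41 ze32) (ke xe8 ye58 ze25) (ke xe11 ye16 ze59) (ke xe26 ye45 ze49) (ke xe9 ye13 ze58) (ke xe10 ye58 ze43) (ke xe11 ye49 ze58) (ke xe11 ye13 ze47) (ke xe19 ye26 ze39) (ke xe15 ye42 ze42) (ke xe26 ye2 ze34) (ke xe21 ye1 ze8) (ke xe26 ye45 ze55) (ke xe26 ye45 ze57) (ke xe8 ye58 ze37) (ke xe21 ye23 ze33) (ke xe26 ye45 ze59) (ke xe8 ye58 ze38) (ke xe26 ye46 ze0) (ke xe8 ye58 ze39) (ke xe25 ye37 ze51) (ke xe23 ye25 ze19) (ke xe12 ye53 ze51) (ke xe21 ye1 ze10) (ke xe26 ye46 ze2) (ke xe8 ye58 ze45) (ke xe20 ye54 ze51) (ke xe20 ye29 ze52) (ke xe22 ye6 ze26) (ke xe19 ye7 ze41) (ke xe8 ye58 ze48) (ke xe25 ye42 ze11) (ke xe20 ye20 ze35)) (@D3.rec (fun _ => Pt) (ke xe20 ye4 ze48) (ke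 xe18 ye2 ze61) (ke xe22 ye6 ze28) (ke xe8 ye58 ze55) (ke xe11 ye15 ze23) (ke xe11 ye52 ze48) (ke xe8 ye58 ze59) (ke xe26 ye46 ze9) (ke xe26 ye46 ze10) (ke xe26 ye9 ze8) (ke xe24 ye26 ze43) (ke xe26 ye46 ze11) (ke xe8 ye59 ze1) (ke xe18 ye50 ze10) (ke xe12 ye38 ze34) (ke xe20 ye38 ze24) (ke xe9 ye13 ze4) (ke xe11 ye16 ze10) (ke xe9 ye13 ze52) (ke xe11 ye43 ze57) (ke xe8 ye59 ze9) (ke xe26 ye46 ze16) (ke xe26 ye46 ze17) (ke xe8 ye59 ze10) (ke xe20 ye17 ze46) (ke xe20 ye34 ze45) (ke xe8 ye59 ze11) (ke xe11 ye10 ze20) (ke xe17 ye32 ze60) (ke xe8 ye59 ze13) (ke xe26 ye33 ze14) (ke xe20 ye38 ze61) (ke xe20 ye23 ze51) (ke xe20 ye34 ze46) (ke xe8 ye59 ze16) (ke xe9 ye11 ze27) (ke xe11 ye16 ze13) (ke xe12 ye54 ze48) (ke xe25 ye31 ze14) (ke xe8 ye59 ze19) (ke xe19 ye57 ze29)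 (ke xe11 ye1 ze38) (ke xe21 ye4 ze8) (ke xe12 ye26 ze5) (ke xe8 ye59 ze23) (ke xe9 ye21 ze9) (ke xe11 ye26 ze48) (ke xe8 ye59 ze25) (ke xe8 ye59 ze26) (ke xe26 ye46 ze35) (ke xe26 ye46 ze36) (ke xe17 ye14 ze10) (ke xe11 ye19 ze30) (ke xe20 ye53 ze19) (ke xe26 ye37 ze32) (ke xe26 ye46 ze38) (ke xe11 ye21 ze51) (ke xe17 ye7 ze28) (ke xe22 ye47 ze17) (ke xe11 ye21 ze52) (ke xe22 ye46 ze38) (ke xe8 ye59 ze36)) (@D3.rec (fun _ => Pt) (ke xe9 ye2 ze54) (ke xe8 ye59 ze38) (ke xe9 ye5 ze5) (ke xe8 ye59 ze40) (ke xe16 ye4 ze26) (ke xe8 ye59 ze42) (ke xe9 ye25 ze10) (ke xe20 ye49 ze53) (ke xe22 ye2 ze10) (ke xe8 ye59 ze47) (ke xe18 ye22 ze26) (ke xe16 ye49 ze48) (ke xe17 ye21 ze27) (ke xe17 ye21 ze28) (ke xe15 ye37 ze27) (ke xe11 ye4 ze57) (ke xe12 ye47 ze46) (ke xe9 ye55 ze59)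 (ke xe8 ye59 ze58) (ke xe10 ye52 ze56) (ke xe26 ye46 ze47) (ke xe26 ye46 ze48) (ke xe8 ye59 ze59) (ke xe11 ye43 ze14) (ke xe11 ye9 ze59) (ke xe11 ye8 ze3) (ke xe26 ye46 ze50) (ke xe26 ye46 ze51) (ke xe8 ye59 ze61) (ke xe9 ye0 ze0) (ke xe11 ye40 ze0) (ke xe12 ye32 ze27) (ke xe11 ye10 ze9) (ke xe26 ye46 ze59) (ke xe9 ye0 ze4) (ke xe9 ye0 ze8) (ke xe9 ye0 ze10) (ke xe12 ye38 ze4) (ke xe9 ye0 ze11) (ke xe9 ye0 ze13) (ke xe26 ye46 ze61) (ke xe9 ye0 ze14) (ke xe17 ye15 ze59) (ke xe26 ye47 ze2) (ke xe9 ye0 ze17) (ke xe11 ye12 ze9) (ke xe9 ye29 ze25) (ke xe9 ye0 ze20) (ke xe16 ye49 ze11) (ke xe9 ye0 ze24) (ke xe9 ye46 ze44) (ke xe20 ye24 ze33) (ke xe26 ye8 ze31) (ke xe16 ye10 ze54) (ke xe9 ye0 ze29) (ke xe16 ye10 ze2) (ke xe23 ye33 ze13) (ke xe25 ye9 ze48) (ke xe26 ye47 ze8)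 (ke xe18 ye42 ze33) (ke xe9 ye0 ze32) (ke xe9 ye0 ze33)) (@D3.rec (fun _ => Pt) (ke xe26 ye47 ze12) (ke xe25 ye44 ze18) (ke xe16 ye42 ze0) (ke xe11 ye3 ze14) (ke xe25 ye41 ze36) (ke xe26 ye47 ze19) (ke xe26 ye47 ze21) (ke xe26 ye47 ze23) (ke xe9 ye0 ze36) (ke xe9 ye0 ze37) (ke xe26 ye10 ze20) (ke xe18 ye27 ze43) (ke xe26 ye47 ze30) (ke xe11 ye3 ze23) (ke xe18 ye17 ze59) (ke xe9 ye33 ze58) (ke xe23 ye43 ze37) (ke xe24 ye34 ze6) (ke xe26 ye47 ze41) (ke xe23 ye44 ze24) (ke xe9 ye0 ze41) (ke xe9 ye0 ze42) (ke xe26 ye47 ze46) (ke xe12 ye3 ze20) (ke xe24 ye24 ze17) (ke xe26 ye47 ze52) (ke xe23 ye3 ze3) (ke xe9 ye0 ze44) (ke xe9 ye0 ze45) (ke xe26 ye47 ze59) (ke xe10 ye15 ze59) (ke xe23 ye59 ze30) (ke xe9 ye0 ze47) (ke xe26 ye48 ze2) (ke xe9 ye0 ze48) (ke xe26 ye2 ze46) (ke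 xe23 ye17 ze42) (ke xe26 ye48 ze7) (ke xe15 ye29 ze39) (ke xe26 ye48 ze8) (ke xe9 ye0 ze52) (ke xe26 ye48 ze11) (ke xe10 ye32 ze33) (ke xe26 ye48 ze13) (ke xe9 ye0 ze54) (ke xe21 ye18 ze24) (ke xe15 ye43 ze20) (ke xe16 ye17 ze3) (ke xe24 ye40 ze59) (ke xe9 ye0 ze57) (ke xe10 ye1 ze0) (ke xe26 ye48 ze19) (ke xe12 ye55 ze30) (ke xe9 ye0 ze61) (ke xe9 ye10 ze54) (ke xe26 ye2 ze12) (ke xe26 ye48 ze24) (ke xe23 ye21 ze45) (ke xe9 ye1 ze0) (ke xe19 ye48 ze39) (ke xe26 ye48 ze29) (ke xe26 ye32 ze58)) (@D3.rec (fun _ => Pt) (ke xe9 ye1 ze3) (ke xe12 ye54 ze58) (ke xe11 ye5 ze57) (ke xe12 ye54 ze60) (ke xe9 ye9 ze14) (ke xe20 ye0 ze14) (ke xe25 ye41 ze5) (ke xe16 ye55 ze55) (ke xe9 ye1 ze6) (ke xe9 ye31 ze35) (ke xe10 ye47 ze60) (ke xe19 ye33 ze22) (ke xe9 ye41 ze35) (ke xe25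 ye16 ze58) (ke xe10 ye35 ze36) (ke xe9 ye1 ze15) (ke xe11 ye6 ze0) (ke xe26 ye48 ze38) (ke xe9 ye1 ze21) (ke xe9 ye1 ze22) (ke xe26 ye22 ze32) (ke xe26 ye48 ze40) (ke xe9 ye1 ze23) (ke xe9 ye1 ze25) (ke xe26 ye48 ze43) (ke xe26 ye48 ze44) (ke xe9 ye1 ze26) (ke xe12 ye49 ze27) (ke xe9 ye1 ze30) (ke xe19 ye57 ze45) (ke xe26 ye48 ze49) (ke xe9 ye1 ze34) (ke xe20 ye15 ze9) (ke xe25 ye23 ze36) (ke xe26 ye48 ze50) (ke xe9 ye1 ze41) (ke xe19 ye42 ze38) (ke xe9 ye51 ze0) (ke xe11 ye11 ze24) (ke xe12 ye7 ze52) (ke xe9 ye1 ze44) (ke xe16 ye53 ze9) (ke xe9 ye19 ze35) (ke xe24 ye52 ze36) (ke xe24 ye52 ze46) (ke xe24 ye53 ze43) (ke xe12 ye22 ze23) (ke xe11 ye25 ze57) (ke xe9 ye46 ze31) (ke xe20 ye19 ze59) (ke xe9 ye29 ze16) (ke xe16 ye46 ze7) (ke xe16 ye46 ze18) (ke xe20 ye28 ze0)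 (ke xe9 ye1 ze57) (ke xe16 ye54 ze53) (ke xe21 ye51 ze41) (ke xe14 ye17 ze23) (ke xe9 ye1 ze58) (ke xe26 ye49 ze2) (ke xe24 ye28 ze6) (ke xe26 ye49 ze3)) (@D3.rec (fun _ => Pt) (ke xe9 ye1 ze61) (ke xe20 ye31 ze18) (ke xe26 ye49 ze9) (ke xe9 ye2 ze1) (ke xe12 ye10 ze36) (ke xe19 ye32 ze26) (ke xe11 ye15 ze26) (ke xe23 ye27 ze42) (ke xe22 ye47 ze7) (ke xe9 ye2 ze3) (ke xe12 ye10 ze37) (ke xe9 ye7 ze21) (ke xe11 ye15 ze58) (ke xe13 ye39 ze3) (ke xe9 ye2 ze6) (ke xe23 ye46 ze36) (ke xe26 ye49 ze18) (ke xe24 ye12 ze49) (ke xe9 ye2 ze7) (ke xe24 ye22 ze2) (ke xe26 ye49 ze21) (ke xe11 ye16 ze9) (ke xe20 ye25 ze36) (ke xe26 ye49 ze30) (ke xe14 ye42 ze34) (ke xe9 ye3 ze45) (ke xe9 ye2 ze10) (ke xe19 ye32 ze21) (ke xe9 ye3 ze23) (ke xe20 ye59 ze54) (ke xe9 ye17 ze57) (ke xe21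 ye37 ze18) (ke xe9 ye2 ze15) (ke xe26 ye49 ze32) (ke xe9 ye4 ze31) (ke xe9 ye2 ze16) (ke xe22 ye5 ze8) (ke xe17 ye23 ze50) (ke xe19 ye2 ze31) (ke xe9 ye2 ze23) (ke xe13 ye42 ze21) (ke xe9 ye2 ze24) (ke xe9 ye2 ze26) (ke xe9 ye2 ze27) (ke xe26 ye49 ze38) (ke xe9 ye2 ze28) (ke xe19 ye51 ze23) (ke xe9 ye2 ze30) (ke xe9 ye5 ze7) (ke xe26 ye49 ze41) (ke xe13 ye30 ze34) (ke xe26 ye49 ze45) (ke xe16 ye53 ze16) (ke xe9 ye2 ze32) (ke xe10 ye59 ze37) (ke xe9 ye14 ze2) (ke xe11 ye13 ze20) (ke xe20 ye8 ze4) (ke xe9 ye2 ze34) (ke xe26 ye29 ze32) (ke xe9 ye2 ze36) (ke xe18 ye58 ze43)) (@D3.rec (fun _ => Pt) (ke xe10 ye29 ze27) (ke xe23 ye19 ze4) (ke xe20 ye8 ze59) (ke xe9 ye2 ze37) (ke xe22 ye51 ze16) (ke xe16 ye32 ze46) (ke xe11 ye13 ze40) (ke xe26 ye49 ze54) (ke xe9 ye14 ze1) (ke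 xe16 ye51 ze41) (ke xe26 ye49 ze55) (ke xe9 ye2 ze41) (ke xe12 ye22 ze8) (ke xe9 ye2 ze43) (ke xe20 ye8 ze0) (ke xe26 ye49 ze57) (ke xe16 ye52 ze52) (ke xe11 ye49 ze49) (ke xe11 ye14 ze8) (ke xe10 ye59 ze51) (ke xe11 ye0 ze23) (ke xe11 ye49 ze45) (ke xe11 ye49 ze46) (ke xe11 ye0 ze50) (ke xe11 ye0 ze56) (ke xe20 ye28 ze25) (ke xe9 ye2 ze51) (ke xe20 ye25 ze50) (ke xe19 ye18 ze8) (ke xe9 ye3 ze15) (ke xe10 ye57 ze54) (ke xe10 ye58 ze26) (ke xe11 ye46 ze60) (ke xe23 ye38 ze5) (ke xe9 ye2 ze57) (ke xe26 ye49 ze61) (ke xe26 ye50 ze1) (ke xe9 ye2 ze58) (ke xe18 ye21 ze26) (ke xe18 ye48 ze22) (ke xe9 ye3 ze37) (ke xe9 ye2 ze60) (ke xe26 ye50 ze8) (ke xe9 ye2 ze61) (ke xe26 ye50 ze12) (ke xe11 ye32 ze21) (ke xe9 ye3 ze0) (ke xe13 ye7 ze13) (ke xe20 ye9 ze7) (ke xe20 ye32 ze59)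 (ke xe26 ye50 ze15) (ke xe9 ye3 ze8) (ke xe17 ye25 ze20) (ke xe9 ye3 ze9) (ke xe20 ye10 ze30) (ke xe17 ye8 ze15) (ke xe22 ye16 ze7) (ke xe10 ye41 ze1) (ke xe9 ye3 ze10) (ke xe20 ye11 ze44) (ke xe26 ye50 ze18) (ke xe10 ye21 ze48)) (@D3.rec (fun _ => Pt) (ke xe9 ye3 ze13) (ke xe12 ye10 ze25) (ke xe26 ye50 ze20) (ke xe9 ye3 ze17) (ke xe19 ye2 ze33) (ke xe26 ye50 ze24) (ke xe22 ye5 ze36) (ke xe21 ye9 ze14) (ke xe9 ye3 ze19) (ke xe26 ye50 ze26) (ke xe13 ye53 ze37) (ke xe26 ye50 ze27) (ke xe9 ye11 ze25) (ke xe9 ye3 ze21) (ke xe11 ye21 ze42) (ke xe9 ye3 ze25) (ke xe11 ye16 ze17) (ke xe18 ye50 ze8) (ke xe9 ye3 ze24) (ke xe26 ye50 ze30) (ke xe26 ye50 ze32) (ke xe20 ye15 ze44) (ke xe10 ye35 ze52) (ke xe9 ye3 ze26) (ke xe26 ye50 ze37) (ke xe17 ye19 ze2) (ke xe17 ye19 ze4) (ke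 xe22 ye37 ze16) (ke xe15 ye44 ze0) (ke xe9 ye3 ze31) (ke xe14 ye59 ze59) (ke xe10 ye42 ze48) (ke xe9 ye3 ze32) (ke xe26 ye50 ze42) (ke xe11 ye40 ze49) (ke xe26 ye50 ze44) (ke xe9 ye3 ze33) (ke xe22 ye38 ze38) (ke xe22 ye32 ze23) (ke xe19 ye3 ze55) (ke xe26 ye50 ze5) (ke xe17 ye12 ze31) (ke xe11 ye35 ze59) (ke xe26 ye50 ze51) (ke xe20 ye27 ze26) (ke xe9 ye3 ze36) (ke xe15 ye4 ze6) (ke xe26 ye50 ze53) (ke xe9 ye3 ze40) (ke xe19 ye25 ze28) (ke xe9 ye3 ze41) (ke xe20 ye20 ze22) (ke xe26 ye50 ze58) (ke xe16 ye51 ze55) (ke xe25 ye40 ze28) (ke xe10 ye31 ze24) (ke xe22 ye42 ze25) (ke xe26 ye51 ze2) (ke xe25 ye40 ze29) (ke xe9 ye24 ze39) (ke xe22 ye32 ze26) (ke xe26 ye51 ze8)) (@D3.rec (fun _ => Pt) (ke xe9 ye3 ze46) (ke xe22 ye42 ze30) (ke xe26 ye51 ze9) (ke xe20 ye40 ze15)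 (ke xe9 ye3 ze49) (ke xe21 ye9 ze27) (ke xe24 ye31 ze52) (ke xe23 ye46 ze25) (ke xe19 ye11 ze36) (ke xe9 ye3 ze53) (ke xe9 ye3 ze54) (ke xe19 ye11 ze37) (ke xe11 ye30 ze28) (ke xe26 ye43 ze58) (ke xe26 ye51 ze22) (ke xe11 ye21 ze25) (ke xe26 ye51 ze25) (ke xe26 ye51 ze26) (ke xe9 ye4 ze1) (ke xe19 ye18 ze58) (ke xe19 ye4 ze23) (ke xe9 ye4 ze2) (ke xe22 ye5 ze12) (ke xe17 ye53 ze43) (ke xe19 ye13 ze37) (ke xe11 ye1 ze16) (ke xe9 ye4 ze4) (ke xe20 ye27 ze50) (ke xe9 ye4 ze6) (ke xe22 ye32 ze27) (ke xe20 ye23 ze25) (ke xe26 ye51 ze48) (ke xe19 ye13 ze38) (ke xe26 ye51 ze52) (ke xe9 ye4 ze9) (ke xe26 ye51 ze56) (ke xe10 ye22 ze44) (ke xe19 ye7 ze32) (ke xe19 ye26 ze55) (ke xe19 ye43 ze43) (ke xe17 ye7 ze53) (ke xe26 ye50 ze55) (ke xe26 ye52 ze6) (ke xe26 ye52 ze9) (ke xe9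 ye4 ze12) (ke xe11 ye56 ze41) (ke xe9 ye38 ze47) (ke xe20 ye23 ze41) (ke xe10 ye11 ze21) (ke xe15 ye4 ze28) (ke xe26 ye52 ze15) (ke xe21 ye0 ze12) (ke xe9 ye4 ze20) (ke xe18 ye16 ze17) (ke xe9 ye4 ze21) (ke xe16 ye51 ze7) (ke xe9 ye4 ze24) (ke xe16 ye41 ze25) (ke xe16 ye39 ze35) (ke xe26 ye52 ze25) (ke xe26 ye52 ze27) (ke xe26 ye51 ze19)) (@D3.rec (fun _ => Pt) (ke xe26 ye52 ze31) (ke xe9 ye4 ze25) (ke xe11 ye22 ze32) (ke xe26 ye52 ze33) (ke xe11 ye21 ze16) (ke xe22 ye36 ze54) (ke xe9 ye4 ze27) (ke xe26 ye52 ze35) (ke xe9 ye4 ze28) (ke xe26 ye52 ze38) (ke xe9 ye4 ze29) (ke xe26 ye52 ze43) (ke xe22 ye46 ze28) (ke xe26 ye52 ze41) (ke xe26 ye49 ze33) (ke xe26 ye52 ze46) (ke xe9 ye4 ze32) (ke xe26 ye52 ze48) (ke xe15 ye44 ze16) (ke xe9 ye4 ze34) (ke xe9 ye5 ze13) (ke xe12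 ye5 ze25) (ke xe9 ye4 ze41) (ke xe21 ye44 ze35) (ke xe9 ye4 ze42) (ke xe15 ye4 ze53) (ke xe17 ye7 ze47) (ke xe9 ye4 ze45) (ke xe15 ye26 ze9) (ke xe26 ye52 ze52) (ke xe9 ye4 ze47) (ke xe20 ye25 ze12) (ke xe26 ye52 ze53) (ke xe20 ye10 ze22) (ke xe26 ye52 ze55) (ke xe9 ye4 ze48) (ke xe17 ye18 ze23) (ke xe19 ye25 ze21) (ke xe10 ye59 ze28) (ke xe11 ye0 ze57) (ke xe23 ye24 ze44) (ke xe19 ye25 ze18) (ke xe9 ye4 ze52) (ke xe11 ye0 ze55) (ke xe20 ye50 ze42) (ke xe11 ye35 ze28) (ke xe11 ye1 ze33) (ke xe11 ye1 ze47) (ke xe11 ye16 ze15) (ke xe17 ye12 ze47) (ke xe11 ye21 ze28) (ke xe9 ye4 ze56) (ke xe11 ye21 ze26) (ke xe11 ye2 ze12) (ke xe19 ye26 ze40) (ke xe21 ye8 ze61) (ke xe17 ye5 ze13) (ke xe26 ye52 ze34) (ke xe21 ye9 ze6) (ke xe26 ye53 ze10) (ke xe11 ye10 ze42) (ke xe17 ye53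 ze42)) (@D3.rec (fun _ => Pt) (ke xe21 ye16 ze15) (ke xe9 ye5 ze2) (ke xe26 ye27 ze12) (ke xe26 ye53 ze11) (ke xe9 ye5 ze8) (ke xe11 ye27 ze6) (ke xe9 ye5 ze9) (ke xe9 ye17 ze18) (ke xe21 ye51 ze26) (ke xe11 ye20 ze45) (ke xe9 ye17 ze19) (ke xe17 ye53 ze45) (ke xe9 ye49 ze21) (ke xe26 ye51 ze36) (ke xe9 ye5 ze15) (ke xe21 ye35 ze12) (ke xe9 ye5 ze16) (ke xe21 ye53 ze52) (ke xe10 ye47 ze1) (ke xe9 ye5 ze18) (ke xe9 ye57 ze20) (ke xe12 ye14 ze5) (ke xe19 ye51 ze27) (ke xe18 ye38 ze22) (ke xe9 ye5 ze22) (ke xe9 ye5 ze23) (ke xe9 ye6 ze9) (ke xe9 ye29 ze52) (ke xe18 ye42 ze45) (ke xe19 ye43 ze28) (ke xe9 ye44 ze16) (ke xe19 ye43 ze40) (ke xe9 ye5 ze41) (ke xe19 ye43 ze30) (ke xe9 ye50 ze57) (ke xe21 ye35 ze50) (ke xe18 ye43 ze29) (ke xe9 ye5 ze48) (ke xe11 ye25 ze20) (ke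 xe9 ye5 ze49) (ke xe10 ye33 ze33) (ke xe11 ye25 ze52) (ke xe18 ye23 ze14) (ke xe9 ye5 ze56) (ke xe9 ye5 ze57) (ke xe10 ye35 ze51) (ke xe10 ye31 ze9) (ke xe15 ye30 ze26) (ke xe9 ye5 ze60) (ke xe15 ye30 ze27) (ke xe9 ye32 ze15) (ke xe9 ye6 ze1) (ke xe9 ye6 ze3) (ke xe17 ye56 ze33) (ke xe26 ye53 ze17) (ke xe9 ye6 ze10) (ke xe26 ye35 ze30) (ke xe26 ye53 ze27) (ke xe25 ye21 ze13) (ke xe9 ye6 ze15) (ke xe20 ye23 ze55) (ke xe19 ye23 ze12)) (@D3.rec (fun _ => Pt) (ke xe20 ye27 ze24) (ke xe9 ye16 ze16) (ke xe9 ye6 ze18) (ke xe11 ye5 ze27) (ke xe9 ye6 ze21) (ke xe11 ye51 ze48) (ke xe19 ye40 ze27) (ke xe11 ye5 ze7) (ke xe26 ye53 ze34) (ke xe26 ye53 ze42) (ke xe13 ye8 ze3) (ke xe11 ye30 ze8) (ke xe24 ye2 ze50) (ke xe26 ye53 ze45) (ke xe9 ye6 ze23) (ke xe26 ye53 ze47) (ke xe9 ye6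 ze24) (ke xe23 ye48 ze7) (ke xe19 ye23 ze18) (ke xe22 ye16 ze10) (ke xe26 ye53 ze55) (ke xe9 ye6 ze27) (ke xe26 ye53 ze60) (ke xe9 ye6 ze28) (ke xe10 ye54 ze30) (ke xe26 ye1 ze55) (ke xe9 ye6 ze31) (ke xe26 ye54 ze5) (ke xe26 ye54 ze7) (ke xe9 ye6 ze32) (ke xe24 ye49 ze47) (ke xe20 ye23 ze13) (ke xe19 ye33 ze59) (ke xe26 ye54 ze12) (ke xe9 ye6 ze35) (ke xe12 ye57 ze42) (ke xe12 ye57 ze43) (ke xe26 ye54 ze15) (ke xe12 ye57 ze46) (ke xe26 ye54 ze20) (ke xe26 ye54 ze22) (ke xe9 ye6 ze38) (ke xe21 ye57 ze37) (ke xe9 ye6 ze39) (ke xe26 ye54 ze25) (ke xe26 ye54 ze26) (ke xe9 ye6 ze40) (ke xe9 ye6 ze42) (ke xe26 ye54 ze30) (ke xe11 ye6 ze1) (ke xe9 ye6 ze43) (ke xe19 ye32 ze49) (ke xe26 ye54 ze33) (ke xe26 ye54 ze35) (ke xe24 ye49 ze52) (ke xe9 ye6 ze47) (ke xe19 ye32 ze60)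 (ke xe19 ye59 ze27) (ke xe26 ye54 ze41) (ke xe26 ye54 ze43) (ke xe9 ye6 ze49) (ke xe26 ye54 ze29)) (@D3.rec (fun _ => Pt) (ke xe9 ye6 ze50) (ke xe18 ye33 ze55) (ke xe19 ye32 ze55) (ke xe12 ye30 ze33) (ke xe12 ye58 ze13) (ke xe24 ye16 ze11) (ke xe9 ye6 ze54) (ke xe26 ye54 ze53) (ke xe10 ye55 ze16) (ke xe9 ye6 ze60) (ke xe26 ye2 ze61) (ke xe26 ye54 ze55) (ke xe26 ye54 ze56) (ke xe9 ye7 ze2) (ke xe26 ye54 ze58) (ke xe9 ye7 ze3) (ke xe26 ye54 ze60) (ke xe19 ye47 ze56) (ke xe15 ye20 ze34) (ke xe26 ye55 ze1) (ke xe26 ye55 ze2) (ke xe9 ye7 ze6) (ke xe19 ye50 ze11) (ke xe10 ye16 ze28) (ke xe11 ye36 ze24) (ke xe20 ye2 ze1) (ke xe24 ye19 ze10) (ke xe21 ye7 ze35) (ke xe9 ye7 ze22) (ke xe25 ye18 ze6) (ke xe23 ye47 ze38) (ke xe26 ye55 ze6) (ke xe12 ye1 ze57) (ke xe20 ye22 ze21)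 (ke xe26 ye55 ze7) (ke xe9 ye7 ze23) (ke xe20 ye51 ze30) (ke xe11 ye38 ze43) (ke xe26 ye55 ze8) (ke xe9 ye7 ze25) (ke xe10 ye23 ze5) (ke xe9 ye7 ze27) (ke xe9 ye7 ze28) (ke xe9 ye7 ze31) (ke xe12 ye1 ze8) (ke xe21 ye38 ze0) (ke xe9 ye7 ze36) (ke xe24 ye30 ze57) (ke xe9 ye7 ze37) (ke xe17 ye3 ze7) (ke xe18 ye15 ze11) (ke xe17 ye7 ze43) (ke xe21 ye33 ze29) (ke xe26 ye11 ze15) (ke xe9 ye7 ze42) (ke xe20 ye19 ze29) (ke xe9 ye15 ze13) (ke xe13 ye6 ze24) (ke xe18 ye39 ze39) (ke xe25 ye16 ze48) (ke xe23 ye42 ze37) (ke xe9 ye7 ze46))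
def f_e_17 : D2 → D3 → Pt := @D2.rec (fun _ => D3 → Pt) (@D3.rec (fun _ => Pt) (ke xe9 ye49 ze36) (ke xe9 ye49 ze31) (ke xe9 ye7 ze47) (ke xe26 ye55 ze16) (ke xe26 ye55 ze17) (ke xe19 ye58 ze60) (ke xe23 ye40 ze56) (ke xe9 ye7 ze49) (ke xe22 ye37 ze0) (ke xe9 ye7 ze50) (ke xe10 ye10 ze42) (ke xe9 ye10 ze43) (ke xe25 ye39 ze45) (ke xe9 ye7 ze53) (ke xe24 ye33 ze13) (ke xe26 ye55 ze24) (ke xe9 ye7 ze56) (ke xe9 ye7 ze57) (ke xe9 ye7 ze59) (ke xe9 ye7 ze60) (ke xe26 ye55 ze27) (ke xe11 ye33 ze6) (ke xe17 ye4 ze24) (ke xe12 ye17 ze45) (ke xe17 ye18 ze9) (ke xe26 ye55 ze30) (ke xe11 ye13 ze15) (ke xe9 ye8 ze4) (ke xe11 ye33 ze27) (ke xe26 ye55 ze36) (ke xe26 ye55 ze34) (ke xe10 ye43 ze18) (ke xe20 ye26 ze5) (ke xe9 ye8 ze7) (ke xe19 ye27 ze25) (ke xe13 ye16 ze43) (ke xe20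 ye10 ze7) (ke xe9 ye8 ze10) (ke xe21 ye14 ze11) (ke xe26 ye29 ze27) (ke xe9 ye8 ze12) (ke xe11 ye33 ze39) (ke xe22 ye49 ze5) (ke xe20 ye34 ze3) (ke xe25 ye16 ze8) (ke xe9 ye8 ze14) (ke xe26 ye55 ze46) (ke xe9 ye8 ze21) (ke xe26 ye55 ze49) (ke xe19 ye27 ze18) (ke xe25 ye42 ze10) (ke xe10 ye35 ze58) (ke xe14 ye22 ze7) (ke xe24 ye26 ze18) (ke xe26 ye55 ze60) (ke xe9 ye8 ze22) (ke xe9 ye8 ze25) (ke xe26 ye56 ze1) (ke xe22 ye40 ze29) (ke xe11 ye33 ze52) (ke xe11 ye34 ze20) (ke xe23 ye14 ze43)) (@D3.rec (fun _ => Pt) (ke xe23 ye14 ze47) (ke xe22 ye47 ze58) (ke xe26 ye56 ze11) (ke xe14 ye42 ze38) (ke xe26 ye56 ze12) (ke xe9 ye8 ze29) (ke xe26 ye56 ze15) (ke xe26 ye28 ze33) (ke xe9 ye8 ze36) (ke xe18 ye52 ze4) (ke xe26 ye28 ze30) (ke xe26 ye56 ze21) (ke xe9 ye8 ze33) (ke xe26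 ye56 ze23) (ke xe13 ye45 ze20) (ke xe9 ye8 ze34) (ke xe23 ye7 ze1) (ke xe22 ye49 ze4) (ke xe14 ye25 ze41) (ke xe18 ye52 ze12) (ke xe24 ye25 ze25) (ke xe18 ye52 ze6) (ke xe9 ye8 ze37) (ke xe9 ye8 ze38) (ke xe9 ye8 ze41) (ke xe9 ye8 ze43) (ke xe26 ye53 ze19) (ke xe9 ye8 ze44) (ke xe19 ye21 ze2) (ke xe9 ye8 ze45) (ke xe9 ye9 ze30) (ke xe26 ye52 ze1) (ke xe9 ye8 ze47) (ke xe21 ye36 ze52) (ke xe9 ye8 ze49) (ke xe9 ye31 ze17) (ke xe26 ye56 ze38) (ke xe17 ye34 ze39) (ke xe26 ye56 ze39) (ke xe26 ye56 ze40) (ke xe26 ye56 ze41) (ke xe9 ye8 ze52) (ke xe26 ye56 ze46) (ke xe9 ye8 ze53) (ke xe19 ye27 ze10) (ke xe26 ye56 ze51) (ke xe26 ye56 ze53) (ke xe9 ye8 ze55) (ke xe26 ye56 ze56) (ke xe26 ye56 ze19) (ke xe9 ye8 ze56) (ke xe9 ye8 ze58) (ke xe26 ye56 ze61) (ke xe26 ye57 ze2) (ke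 xe9 ye8 ze59) (ke xe9 ye14 ze11) (ke xe10 ye36 ze13) (ke xe26 ye57 ze6) (ke xe26 ye57 ze10) (ke xe26 ye57 ze11) (ke xe9 ye9 ze0) (ke xe25 ye40 ze36)) (@D3.rec (fun _ => Pt) (ke xe23 ye45 ze40) (ke xe26 ye57 ze18) (ke xe26 ye56 ze33) (ke xe26 ye57 ze21) (ke xe9 ye9 ze2) (ke xe26 ye57 ze24) (ke xe9 ye9 ze3) (ke xe18 ye41 ze57) (ke xe25 ye40 ze40) (ke xe23 ye46 ze26) (ke xe21 ye50 ze57) (ke xe25 ye45 ze35) (ke xe9 ye9 ze7) (ke xe9 ye9 ze60) (ke xe13 ye3 ze36) (ke xe11 ye5 ze55) (ke xe23 ye59 ze15) (ke xe26 ye2 ze52) (ke xe12 ye54 ze57) (ke xe11 ye56 ze31) (ke xe26 ye57 ze32) (ke xe9 ye9 ze20) (ke xe9 ye9 ze21) (ke xe11 ye33 ze22) (ke xe9 ye9 ze26) (ke xe11 ye12 ze59) (ke xe11 ye34 ze23) (ke xe9 ye9 ze32) (ke xe20 ye0 ze48) (ke xe26 ye57 ze35) (ke xe9 ye9 ze34) (ke xe11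 ye11 ze52) (ke xe26 ye57 ze36) (ke xe11 ye11 ze49) (ke xe26 ye22 ze12) (ke xe9 ye9 ze37) (ke xe12 ye53 ze7) (ke xe9 ye9 ze42) (ke xe20 ye18 ze21) (ke xe9 ye9 ze41) (ke xe26 ye57 ze39) (ke xe9 ye9 ze43) (ke xe20 ye1 ze4) (ke xe14 ye44 ze51) (ke xe21 ye15 ze22) (ke xe22 ye7 ze59) (ke xe18 ye56 ze9) (ke xe20 ye1 ze15) (ke xe21 ye29 ze9) (ke xe9 ye9 ze47) (ke xe9 ye9 ze54) (ke xe9 ye9 ze49) (ke xe9 ye9 ze56) (ke xe23 ye3 ze51) (ke xe19 ye1 ze52) (ke xe9 ye9 ze52) (ke xe26 ye57 ze46) (ke xe26 ye3 ze36) (ke xe9 ye9 ze53) (ke xe23 ye18 ze16) (ke xe26 ye57 ze42) (ke xe9 ye9 ze55)) (@D3.rec (fun _ => Pt) (ke xe9 ye9 ze57) (ke xe12 ye44 ze53) (ke xe26 ye57 ze27) (ke xe14 ye11 ze59) (ke xe12 ye2 ze16) (ke xe9 ye15 ze8) (ke xe11 ye49 ze36) (ke xe16 ye59 ze49) (ke xe10 ye11 ze23)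 (ke xe10 ye3 ze61) (ke xe9 ye19 ze60) (ke xe9 ye10 ze4) (ke xe12 ye15 ze27) (ke xe9 ye19 ze58) (ke xe9 ye10 ze8) (ke xe12 ye15 ze11) (ke xe9 ye10 ze7) (ke xe22 ye3 ze30) (ke xe26 ye52 ze12) (ke xe9 ye10 ze21) (ke xe26 ye57 ze57) (ke xe9 ye10 ze13) (ke xe10 ye57 ze43) (ke xe9 ye10 ze15) (ke xe20 ye19 ze41) (ke xe26 ye58 ze0) (ke xe11 ye38 ze40) (ke xe19 ye9 ze12) (ke xe9 ye10 ze17) (ke xe26 ye58 ze1) (ke xe26 ye58 ze2) (ke xe25 ye41 ze33) (ke xe11 ye5 ze39) (ke xe9 ye31 ze45) (ke xe9 ye14 ze30) (ke xe11 ye12 ze51) (ke xe13 ye33 ze44) (ke xe26 ye58 ze6) (ke xe26 ye58 ze7) (ke xe9 ye10 ze30) (ke xe24 ye9 ze33) (ke xe26 ye58 ze10) (ke xe9 ye10 ze36) (ke xe24 ye59 ze57) (ke xe26 ye58 ze11) (ke xe9 ye10 ze33) (ke xe26 ye58 ze15) (ke xe9 ye10 ze34) (ke xe22 ye50 ze52) (ke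 xe15 ye52 ze15) (ke xe9 ye10 ze37) (ke xe9 ye10 ze42) (ke xe21 ye47 ze36) (ke xe26 ye58 ze19) (ke xe12 ye20 ze46) (ke xe9 ye10 ze40) (ke xe26 ye58 ze21) (ke xe25 ye45 ze14) (ke xe9 ye10 ze41) (ke xe18 ye24 ze15) (ke xe26 ye58 ze24) (ke xe26 ye58 ze25)) (@D3.rec (fun _ => Pt) (ke xe9 ye10 ze44) (ke xe19 ye47 ze59) (ke xe26 ye48 ze26) (ke xe12 ye54 ze54) (ke xe26 ye58 ze29) (ke xe9 ye10 ze49) (ke xe9 ye10 ze50) (ke xe26 ye2 ze40) (ke xe26 ye2 ze41) (ke xe26 ye1 ze17) (ke xe26 ye48 ze21) (ke xe14 ye9 ze38) (ke xe9 ye10 ze55) (ke xe11 ye5 ze45) (ke xe24 ye15 ze34) (ke xe12 ye32 ze60) (ke xe14 ye35 ze55) (ke xe12 ye37 ze46) (ke xe20 ye27 ze0) (ke xe9 ye10 ze61) (ke xe12 ye43 ze54) (ke xe26 ye58 ze41) (ke xe26 ye58 ze44) (ke xe9 ye10 ze59) (ke xe17 ye0 ze22) (ke xe15 ye24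 ze51) (ke xe15 ye24 ze0) (ke xe16 ye40 ze53) (ke xe26 ye58 ze46) (ke xe12 ye10 ze43) (ke xe12 ye47 ze23) (ke xe21 ye48 ze6) (ke xe9 ye11 ze2) (ke xe9 ye22 ze38) (ke xe9 ye12 ze36) (ke xe15 ye5 ze32) (ke xe12 ye55 ze7) (ke xe9 ye11 ze6) (ke xe19 ye59 ze52) (ke xe9 ye13 ze33) (ke xe18 ye43 ze12) (ke xe20 ye59 ze49) (ke xe11 ye0 ze27) (ke xe12 ye9 ze58) (ke xe11 ye0 ze48) (ke xe9 ye11 ze14) (ke xe23 ye50 ze3) (ke xe26 ye57 ze55) (ke xe9 ye49 ze49) (ke xe26 ye58 ze56) (ke xe9 ye11 ze17) (ke xe18 ye10 ze53) (ke xe20 ye54 ze0) (ke xe21 ye35 ze17) (ke xe21 ye23 ze43) (ke xe26 ye58 ze61) (ke xe18 ye50 ze7) (ke xe19 ye10 ze57) (ke xe12 ye47 ze8) (ke xe10 ye23 ze10) (ke xe19 ye58 ze61) (ke xe17 ye9 ze54)) (@D3.rec (fun _ => Pt) (ke xe21 ye42 ze18) (ke xe21 ye51 ze34) (ke xe12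 ye20 ze34) (ke xe12 ye27 ze27) (ke xe12 ye41 ze26) (ke xe20 ye13 ze6) (ke xe9 ye11 ze32) (ke xe12 ye53 ze39) (ke xe12 ye47 ze33) (ke xe9 ye11 ze30) (ke xe12 ye16 ze47) (ke xe9 ye11 ze31) (ke xe9 ye39 ze3) (ke xe16 ye56 ze56) (ke xe10 ye45 ze50) (ke xe21 ye45 ze35) (ke xe19 ye57 ze37) (ke xe9 ye11 ze36) (ke xe11 ye50 ze25) (ke xe17 ye31 ze61) (ke xe9 ye11 ze39) (ke xe17 ye59 ze43) (ke xe9 ye11 ze42) (ke xe11 ye25 ze24) (ke xe12 ye43 ze30) (ke xe10 ye5 ze56) (ke xe26 ye59 ze7) (ke xe9 ye11 ze45) (ke xe12 ye43 ze34) (ke xe20 ye50 ze22) (ke xe26 ye59 ze12) (ke xe25 ye15 ze29) (ke xe25 ye44 ze42) (ke xe26 ye59 ze14) (ke xe9 ye11 ze47) (ke xe9 ye11 ze48) (ke xe9 ye11 ze49) (ke xe20 ye19 ze34) (ke xe12 ye39 ze26) (ke xe11 ye38 ze21) (ke xe12 ye43 ze42) (ke xe9 ye11 ze53) (ke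 xe12 ye43 ze45) (ke xe12 ye42 ze61) (ke xe9 ye11 ze55) (ke xe20 ye51 ze47) (ke xe12 ye42 ze18) (ke xe12 ye2 ze9) (ke xe10 ye4 ze55) (ke xe20 ye22 ze60) (ke xe25 ye40 ze41) (ke xe12 ye44 ze16) (ke xe18 ye17 ze18) (ke xe9 ye11 ze58) (ke xe9 ye11 ze59) (ke xe26 ye59 ze22) (ke xe26 ye5 ze41) (ke xe9 ye12 ze10) (ke xe26 ye59 ze27) (ke xe26 ye59 ze28) (ke xe12 ye44 ze29) (ke xe12 ye49 ze28)) (@D3.rec (fun _ => Pt) (ke xe9 ye12 ze1) (ke xe26 ye10 ze35) (ke xe17 ye49 ze36) (ke xe26 ye59 ze35) (ke xe9 ye12 ze2) (ke xe12 ye44 ze44) (ke xe26 ye59 ze37) (ke xe12 ye44 ze35) (ke xe20 ye0 ze2) (ke xe15 ye24 ze30) (ke xe16 ye13 ze46) (ke xe16 ye13 ze47) (ke xe12 ye2 ze14) (ke xe26 ye59 ze39) (ke xe9 ye12 ze11) (ke xe14 ye50 ze0) (ke xe9 ye12 ze13) (ke xe12 ye9 ze25) (ke xe20 ye32 ze61)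 (ke xe9 ye13 ze29) (ke xe18 ye43 ze14) (ke xe11 ye48 ze11) (ke xe12 ye54 ze4) (ke xe22 ye6 ze6) (ke xe18 ye50 ze53) (ke xe15 ye48 ze36) (ke xe14 ye45 ze58) (ke xe26 ye59 ze45) (ke xe9 ye12 ze19) (ke xe12 ye54 ze26) (ke xe12 ye24 ze6) (ke xe26 ye59 ze47) (ke xe9 ye12 ze21) (ke xe11 ye16 ze25) (ke xe26 ye59 ze51) (ke xe10 ye21 ze51) (ke xe24 ye2 ze17) (ke xe11 ye26 ze11) (ke xe9 ye12 ze23) (ke xe11 ye57 ze57) (ke xe11 ye14 ze56) (ke xe9 ye12 ze28) (ke xe12 ye4 ze4) (ke xe10 ye17 ze17) (ke xe26 ye59 ze56) (ke xe26 ye7 ze55) (ke xe9 ye12 ze32) (ke xe17 ye9 ze43) (ke xe26 ye59 ze59) (ke xe26 ye59 ze60) (ke xe9 ye12 ze34) (ke xe25 ye59 ze50) (ke xe9 ye12 ze37) (ke xe27 ye0 ze4) (ke xe27 ye0 ze5) (ke xe9 ye12 ze38) (ke xe12 ye54 ze17) (ke xe11 ye37 ze3) (ke xe27 ye0 ze10)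 (ke xe11 ye54 ze3) (ke xe27 ye0 ze14) (ke xe27 ye0 ze15)) (@D3.rec (fun _ => Pt) (ke xe9 ye12 ze40) (ke xe11 ye56 ze43) (ke xe19 ye40 ze38) (ke xe16 ye46 ze24) (ke xe22 ye1 ze41) (ke xe27 ye0 ze25) (ke xe27 ye0 ze26) (ke xe9 ye12 ze43) (ke xe26 ye35 ze27) (ke xe26 ye35 ze31) (ke xe26 ye35 ze5) (ke xe12 ye54 ze38) (ke xe27 ye0 ze36) (ke xe27 ye0 ze33) (ke xe27 ye0 ze39) (ke xe22 ye25 ze3) (ke xe9 ye12 ze46) (ke xe12 ye54 ze51) (ke xe12 ye39 ze17) (ke xe11 ye48 ze53) (ke xe9 ye12 ze53) (ke xe18 ye23 ze24) (ke xe9 ye12 ze56) (ke xe9 ye12 ze60) (ke xe11 ye40 ze40) (ke xe9 ye49 ze56) (ke xe22 ye2 ze43) (ke xe9 ye12 ze59) (ke xe16 ye48 ze57) (ke xe20 ye19 ze39) (ke xe18 ye16 ze41) (ke xe9 ye13 ze0) (ke xe21 ye25 ze56) (ke xe12 ye53 ze57) (ke xe9 ye13 ze2) (ke xe27 ye0 ze48)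 (ke xe12 ye4 ze7) (ke xe27 ye0 ze49) (ke xe16 ye7 ze12) (ke xe20 ye19 ze30) (ke xe11 ye28 ze17) (ke xe13 ye0 ze51) (ke xe19 ye52 ze35) (ke xe16 ye59 ze51) (ke xe9 ye13 ze14) (ke xe12 ye55 ze33) (ke xe23 ye38 ze2) (ke xe16 ye56 ze26) (ke xe12 ye55 ze31) (ke xe10 ye45 ze37) (ke xe9 ye13 ze25) (ke xe11 ye48 ze19) (ke xe9 ye13 ze26) (ke xe16 ye55 ze40) (ke xe10 ye6 ze53) (ke xe9 ye13 ze32) (ke xe9 ye13 ze34) (ke xe11 ye20 ze6) (ke xe20 ye17 ze0) (ke xe9 ye13 ze38) (ke xe11 ye6 ze34) (ke xe11 ye30 ze40)) (@D3.rec (fun _ => Pt) (ke xe13 ye1 ze9) (ke xe9 ye13 ze43) (ke xe20 ye34 ze34) (ke xe20 ye19 ze33) (ke xe9 ye13 ze46) (ke xe17 ye10 ze60) (ke xe12 ye47 ze24) (ke xe22 ye2 ze33) (ke xe15 ye25 ze52) (ke xe19 ye48 ze45) (ke xe27 ye0 ze56) (ke xe9 ye13 ze50) (ke xe11 ye48 ze51)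 (ke xe18 ye57 ze59) (ke xe20 ye20 ze38) (ke xe16 ye53 ze55) (ke xe11 ye16 ze12) (ke xe11 ye16 ze7) (ke xe17 ye22 ze27) (ke xe9 ye13 ze56) (ke xe19 ye59 ze14) (ke xe10 ye58 ze37) (ke xe21 ye15 ze8) (ke xe11 ye17 ze24) (ke xe9 ye14 ze3) (ke xe9 ye14 ze4) (ke xe14 ye8 ze6) (ke xe10 ye55 ze3) (ke xe12 ye29 ze56) (ke xe12 ye15 ze34) (ke xe26 ye56 ze26) (ke xe9 ye14 ze10) (ke xe9 ye14 ze12) (ke xe24 ye18 ze13) (ke xe11 ye50 ze41) (ke xe9 ye14 ze14) (ke xe9 ye14 ze16) (ke xe9 ye31 ze23) (ke xe27 ye1 ze1) (ke xe9 ye14 ze19) (ke xe19 ye40 ze47) (ke xe9 ye14 ze21) (ke xe10 ye14 ze27) (ke xe12 ye18 ze10) (ke xe12 ye31 ze13) (ke xe19 ye51 ze28) (ke xe11 ye50 ze56) (ke xe9 ye14 ze28) (ke xe18 ye38 ze23) (ke xe9 ye43 ze61) (ke xe12 ye55 ze47) (ke xe15 ye25 ze42) (ke xe27 ye1 ze5)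 (ke xe9 ye14 ze33) (ke xe10 ye3 ze4) (ke xe10 ye55 ze32) (ke xe12 ye55 ze59) (ke xe17 ye50 ze60) (ke xe15 ye2 ze56) (ke xe9 ye14 ze35) (ke xe21 ye48 ze23) (ke xe21 ye55 ze8)) (@D3.rec (fun _ => Pt) (ke xe16 ye9 ze14) (ke xe12 ye18 ze22) (ke xe25 ye17 ze12) (ke xe9 ye14 ze42) (ke xe19 ye33 ze23) (ke xe11 ye20 ze24) (ke xe23 ye38 ze0) (ke xe20 ye20 ze50) (ke xe11 ye1 ze58) (ke xe9 ye46 ze48) (ke xe27 ye1 ze16) (ke xe9 ye14 ze49) (ke xe18 ye25 ze7) (ke xe27 ye1 ze17) (ke xe9 ye14 ze50) (ke xe27 ye1 ze18) (ke xe27 ye1 ze19) (ke xe9 ye14 ze52) (ke xe27 ye1 ze20) (ke xe9 ye14 ze53) (ke xe14 ye45 ze11) (ke xe27 ye1 ze23) (ke xe9 ye14 ze60) (ke xe20 ye32 ze47) (ke xe18 ye36 ze39) (ke xe15 ye59 ze6) (ke xe26 ye59 ze17) (ke xe27 ye1 ze25) (ke xe9 ye15 ze2) (ke xe27 ye1 ze27)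 (ke xe9 ye15 ze3) (ke xe17 ye51 ze27) (ke xe27 ye1 ze28) (ke xe9 ye15 ze4) (ke xe24 ye15 ze41) (ke xe12 ye10 ze46) (ke xe9 ye15 ze7) (ke xe18 ye10 ze57) (ke xe9 ye15 ze32) (ke xe17 ye59 ze14) (ke xe17 ye41 ze60) (ke xe13 ye6 ze21) (ke xe10 ye10 ze41) (ke xe17 ye6 ze47) (ke xe23 ye47 ze37) (ke xe22 ye3 ze12) (ke xe18 ye15 ze40) (ke xe9 ye15 ze11) (ke xe20 ye51 ze22) (ke xe27 ye1 ze29) (ke xe9 ye15 ze17) (ke xe19 ye32 ze23) (ke xe19 ye25 ze11) (ke xe10 ye45 ze0) (ke xe17 ye4 ze61) (ke xe12 ye44 ze8) (ke xe13 ye0 ze58) (ke xe9 ye15 ze27) (ke xe27 ye1 ze32) (ke xe21 ye40 ze35) (ke xe9 ye15 ze28) (ke xe26 ye55 ze14)) (@D3.rec (fun _ => Pt) (ke xe19 ye26 ze52) (ke xe12 ye16 ze9) (ke xe12 ye42 ze34) (ke xe9 ye15 ze33) (ke xe14 ye11 ze16) (ke xe9 ye15 ze34) (ke xe18 ye23 ze21)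 (ke xe21 ye24 ze16) (ke xe11 ye44 ze59) (ke xe9 ye15 ze41) (ke xe14 ye44 ze34) (ke xe27 ye1 ze34) (ke xe27 ye1 ze36) (ke xe27 ye1 ze37) (ke xe9 ye15 ze48) (ke xe27 ye1 ze41) (ke xe27 ye1 ze43) (ke xe17 ye21 ze42) (ke xe25 ye59 ze6) (ke xe19 ye45 ze48) (ke xe25 ye6 ze27) (ke xe14 ye11 ze38) (ke xe9 ye15 ze54) (ke xe24 ye35 ze58) (ke xe21 ye45 ze61) (ke xe12 ye0 ze25) (ke xe17 ye22 ze15) (ke xe27 ye1 ze53) (ke xe27 ye1 ze55) (ke xe9 ye15 ze58) (ke xe9 ye15 ze60) (ke xe9 ye15 ze61) (ke xe9 ye16 ze0) (ke xe27 ye1 ze58) (ke xe21 ye16 ze28) (ke xe17 ye25 ze11) (ke xe9 ye16 ze5) (ke xe17 ye11 ze31) (ke xe27 ye2 ze1) (ke xe27 ye2 ze2) (ke xe9 ye16 ze3) (ke xe12 ye33 ze43) (ke xe26 ye44 ze55) (ke xe27 ye2 ze6) (ke xe27 ye2 ze7) (ke xe9 ye16 ze7) (ke xe16 ye46 ze42) (ke xe9 ye16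 ze12) (ke xe19 ye59 ze53) (ke xe9 ye16 ze17) (ke xe9 ye16 ze19) (ke xe9 ye22 ze42) (ke xe27 ye2 ze14) (ke xe26 ye43 ze10) (ke xe27 ye2 ze12) (ke xe22 ye2 ze6) (ke xe27 ye2 ze17) (ke xe18 ye25 ze15) (ke xe9 ye16 ze21) (ke xe9 ye16 ze22) (ke xe17 ye8 ze5) (ke xe27 ye2 ze19)) (@D3.rec (fun _ => Pt) (ke xe9 ye16 ze24) (ke xe10 ye19 ze31) (ke xe9 ye26 ze29) (ke xe9 ye16 ze26) (ke xe9 ye16 ze27) (ke xe22 ye37 ze37) (ke xe20 ye11 ze47) (ke xe9 ye16 ze30) (ke xe9 ye26 ze33) (ke xe19 ye29 ze41) (ke xe27 ye2 ze24) (ke xe9 ye16 ze31) (ke xe11 ye45 ze54) (ke xe11 ye46 ze31) (ke xe20 ye46 ze41) (ke xe11 ye40 ze55) (ke xe26 ye2 ze29) (ke xe9 ye16 ze34) (ke xe23 ye1 ze43) (ke xe13 ye53 ze32) (ke xe9 ye16 ze38) (ke xe11 ye58 ze49) (ke xe9 ye16 ze36) (ke xe22 ye54 ze21) (ke xe13 ye49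 ze60) (ke xe18 ye47 ze19) (ke xe21 ye51 ze15) (ke xe9 ye16 ze40) (ke xe23 ye4 ze12) (ke xe18 ye46 ze53) (ke xe12 ye11 ze14) (ke xe17 ye10 ze37) (ke xe25 ye35 ze46) (ke xe9 ye16 ze42) (ke xe22 ye32 ze37) (ke xe18 ye47 ze53) (ke xe22 ye35 ze51) (ke xe9 ye16 ze43) (ke xe25 ye25 ze11) (ke xe9 ye16 ze54) (ke xe27 ye2 ze44) (ke xe20 ye37 ze48) (ke xe27 ye2 ze46) (ke xe27 ye2 ze49) (ke xe9 ye16 ze46) (ke xe27 ye2 ze55) (ke xe9 ye16 ze47) (ke xe27 ye2 ze57) (ke xe9 ye21 ze13) (ke xe14 ye37 ze15) (ke xe14 ye28 ze57) (ke xe12 ye2 ze44) (ke xe26 ye45 ze17) (ke xe26 ye45 ze20) (ke xe27 ye2 ze59) (ke xe27 ye2 ze61) (ke xe9 ye16 ze52) (ke xe25 ye25 ze3) (ke xe9 ye16 ze53) (ke xe22 ye54 ze22) (ke xe25 ye58 ze35) (ke xe9 ye16 ze55)) (@D3.rec (fun _ => Pt) (ke xe24 ye59 ze33) (ke xe9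 ye16 ze58) (ke xe27 ye3 ze9) (ke xe27 ye3 ze13) (ke xe10 ye54 ze0) (ke xe9 ye16 ze60) (ke xe12 ye33 ze14) (ke xe27 ye3 ze15) (ke xe19 ye45 ze40) (ke xe9 ye17 ze3) (ke xe11 ye20 ze16) (ke xe14 ye49 ze6) (ke xe9 ye45 ze24) (ke xe12 ye31 ze11) (ke xe18 ye1 ze4) (ke xe9 ye17 ze8) (ke xe11 ye41 ze5) (ke xe27 ye3 ze19) (ke xe9 ye17 ze9) (ke xe9 ye17 ze11) (ke xe27 ye3 ze20) (ke xe14 ye50 ze38) (ke xe9 ye17 ze15) (ke xe12 ye49 ze33) (ke xe23 ye26 ze31) (ke xe11 ye59 ze6) (ke xe14 ye1 ze4) (ke xe20 ye50 ze57) (ke xe19 ye39 ze30) (ke xe11 ye19 ze53) (ke xe15 ye38 ze45) (ke xe16 ye54 ze41) (ke xe18 ye35 ze13) (ke xe20 ye9 ze42) (ke xe9 ye17 ze28) (ke xe24 ye32 ze47) (ke xe11 ye59 ze23) (ke xe19 ye3 ze20) (ke xe9 ye17 ze33) (ke xe25 ye54 ze16) (ke xe9 ye17 ze34) (ke xe21 ye35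 ze28) (ke xe22 ye0 ze15) (ke xe9 ye17 ze37) (ke xe18 ye26 ze0) (ke xe9 ye17 ze42) (ke xe12 ye4 ze43) (ke xe16 ye56 ze49) (ke xe11 ye50 ze10) (ke xe27 ye3 ze32) (ke xe9 ye17 ze46) (ke xe27 ye3 ze35) (ke xe27 ye3 ze37) (ke xe21 ye51 ze2) (ke xe22 ye2 ze40) (ke xe20 ye24 ze1) (ke xe9 ye17 ze51) (ke xe10 ye58 ze17) (ke xe9 ye17 ze53) (ke xe19 ye59 ze4) (ke xe21 ye38 ze19) (ke xe9 ye17 ze55)) (@D3.rec (fun _ => Pt) (ke xe27 ye3 ze39) (ke xe9 ye17 ze56) (ke xe18 ye16 ze45) (ke xe24 ye53 ze37) (ke xe11 ye17 ze14) (ke xe12 ye53 ze55) (ke xe14 ye8 ze30) (ke xe9 ye51 ze4) (ke xe11 ye43 ze37) (ke xe9 ye18 ze2) (ke xe19 ye32 ze22) (ke xe9 ye18 ze44) (ke xe9 ye36 ze43) (ke xe12 ye20 ze22) (ke xe18 ye1 ze20) (ke xe27 ye3 ze42) (ke xe9 ye18 ze13) (ke xe9 ye19 ze56) (ke xe9 ye20 ze21)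 (ke xe11 ye8 ze36) (ke xe9 ye18 ze27) (ke xe21 ye36 ze46) (ke xe14 ye57 ze3) (ke xe9 ye18 ze54) (ke xe11 ye14 ze31) (ke xe18 ye37 ze59) (ke xe9 ye18 ze21) (ke xe25 ye42 ze24) (ke xe20 ye34 ze25) (ke xe12 ye18 ze13) (ke xe12 ye12 ze7) (ke xe10 ye38 ze51) (ke xe17 ye30 ze39) (ke xe27 ye3 ze53) (ke xe26 ye46 ze39) (ke xe9 ye18 ze25) (ke xe20 ye17 ze39) (ke xe14 ye12 ze11) (ke xe9 ye18 ze26) (ke xe12 ye29 ze22) (ke xe12 ye19 ze26) (ke xe17 ye30 ze26) (ke xe27 ye3 ze61) (ke xe12 ye19 ze43) (ke xe18 ye1 ze28) (ke xe12 ye19 ze36) (ke xe21 ye36 ze47) (ke xe14 ye36 ze32) (ke xe9 ye18 ze36) (ke xe12 ye21 ze31) (ke xe12 ye40 ze12) (ke xe16 ye4 ze42) (ke xe23 ye59 ze3) (ke xe18 ye37 ze42) (ke xe20 ye15 ze56) (ke xe22 ye9 ze36) (ke xe27 ye4 ze1) (ke xe14 ye56 ze13) (ke xe17 ye35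 ze37) (ke xe19 ye22 ze48) (ke xe17 ye48 ze32) (ke xe9 ye36 ze34)) (@D3.rec (fun _ => Pt) (ke xe21 ye32 ze4) (ke xe27 ye4 ze17) (ke xe27 ye1 ze30) (ke xe12 ye56 ze6) (ke xe9 ye18 ze46) (ke xe22 ye9 ze57) (ke xe11 ye59 ze59) (ke xe16 ye40 ze50) (ke xe11 ye57 ze11) (ke xe9 ye18 ze51) (ke xe16 ye48 ze51) (ke xe20 ye16 ze61) (ke xe9 ye34 ze11) (ke xe27 ye4 ze28) (ke xe9 ye18 ze55) (ke xe23 ye36 ze23) (ke xe27 ye4 ze32) (ke xe27 ye4 ze34) (ke xe9 ye18 ze57) (ke xe9 ye18 ze58) (ke xe27 ye4 ze38) (ke xe12 ye40 ze13) (ke xe12 ye16 ze58) (ke xe12 ye16 ze11) (ke xe16 ye8 ze48) (ke xe15 ye42 ze0) (ke xe9 ye19 ze0) (ke xe9 ye19 ze2) (ke xe20 ye15 ze55) (ke xe11 ye10 ze43) (ke xe27 ye4 ze15) (ke xe25 ye16 ze39) (ke xe27 ye4 ze19) (ke xe21 ye59 ze33) (ke xe26 ye39 ze41) (ke xe9 ye19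 ze7) (ke xe27 ye4 ze49) (ke xe9 ye19 ze9) (ke xe21 ye32 ze11) (ke xe18 ye36 ze7) (ke xe9 ye19 ze10) (ke xe24 ye58 ze6) (ke xe9 ye19 ze12) (ke xe25 ye29 ze37) (ke xe25 ye31 ze40) (ke xe27 ye4 ze56) (ke xe27 ye4 ze58) (ke xe9 ye19 ze15) (ke xe9 ye19 ze16) (ke xe19 ye40 ze49) (ke xe12 ye50 ze35) (ke xe27 ye5 ze0) (ke xe21 ye16 ze33) (ke xe9 ye20 ze53) (ke xe12 ye4 ze48) (ke xe9 ye21 ze47) (ke xe9 ye19 ze20) (ke xe12 ye50 ze40) (ke xe12 ye16 ze0) (ke xe20 ye31 ze44) (ke xe23 ye4 ze18) (ke xe9 ye19 ze26)) (@D3.rec (fun _ => Pt) (ke xe26 ye29 ze2) (ke xe16 ye32 ze49) (ke xe12 ye7 ze31) (ke xe27 ye5 ze10) (ke xe15 ye55 ze61) (ke xe17 ye20 ze55) (ke xe12 ye7 ze37) (ke xe27 ye5 ze13) (ke xe20 ye10 ze25) (ke xe27 ye5 ze16) (ke xe9 ye19 ze29) (ke xe22 ye39 ze0) (ke xe9 ye19 ze30)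 (ke xe20 ye32 ze10) (ke xe27 ye5 ze19) (ke xe12 ye23 ze52) (ke xe17 ye53 ze9) (ke xe9 ye19 ze33) (ke xe20 ye31 ze57) (ke xe17 ye55 ze39) (ke xe9 ye19 ze36) (ke xe27 ye5 ze21) (ke xe9 ye19 ze38) (ke xe21 ye44 ze21) (ke xe9 ye19 ze39) (ke xe9 ye19 ze40) (ke xe18 ye41 ze4) (ke xe27 ye5 ze27) (ke xe11 ye13 ze26) (ke xe27 ye5 ze22) (ke xe20 ye25 ze43) (ke xe24 ye58 ze60) (ke xe16 ye35 ze8) (ke xe27 ye5 ze31) (ke xe23 ye4 ze7) (ke xe9 ye19 ze45) (ke xe12 ye9 ze13) (ke xe27 ye5 ze34) (ke xe22 ye32 ze19) (ke xe27 ye5 ze37) (ke xe9 ye19 ze48) (ke xe12 ye9 ze38) (ke xe27 ye5 ze39) (ke xe23 ye16 ze36) (ke xe11 ye17 ze23) (ke xe10 ye57 ze32) (ke xe9 ye19 ze51) (ke xe9 ye19 ze53) (ke xe11 ye12 ze18) (ke xe16 ye6 ze45) (ke xe18 ye24 ze23) (ke xe12 ye20 ze52) (ke xe15 ye49 ze47) (ke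 xe11 ye48 ze45) (ke xe20 ye5 ze38) (ke xe20 ye19 ze28) (ke xe12 ye15 ze31) (ke xe18 ye24 ze14) (ke xe21 ye32 ze2) (ke xe16 ye49 ze42) (ke xe27 ye5 ze43) (ke xe9 ye20 ze5)) (@D3.rec (fun _ => Pt) (ke xe9 ye20 ze6) (ke xe15 ye43 ze12) (ke xe18 ye25 ze1) (ke xe9 ye32 ze52) (ke xe11 ye20 ze39) (ke xe12 ye50 ze49) (ke xe27 ye5 ze49) (ke xe21 ye26 ze19) (ke xe21 ye54 ze42) (ke xe12 ye50 ze48) (ke xe25 ye57 ze7) (ke xe22 ye10 ze30) (ke xe15 ye59 ze11) (ke xe23 ye2 ze49) (ke xe27 ye5 ze54) (ke xe27 ye5 ze55) (ke xe27 ye5 ze56) (ke xe9 ye20 ze23) (ke xe9 ye20 ze24) (ke xe12 ye54 ze7) (ke xe16 ye5 ze24) (ke xe18 ye13 ze59) (ke xe17 ye33 ze58) (ke xe22 ye10 ze1) (ke xe9 ye20 ze31) (ke xe25 ye45 ze50) (ke xe12 ye35 ze28) (ke xe12 ye23 ze60) (ke xe13 ye53 ze26) (ke xe27 ye6 ze3)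 (ke xe9 ye20 ze34) (ke xe12 ye24 ze46) (ke xe12 ye26 ze56) (ke xe15 ye24 ze2) (ke xe12 ye25 ze17) (ke xe10 ye54 ze54) (ke xe11 ye2 ze7) (ke xe11 ye27 ze16) (ke xe13 ye1 ze42) (ke xe12 ye0 ze39) (ke xe12 ye28 ze53) (ke xe24 ye32 ze50) (ke xe10 ye6 ze4) (ke xe9 ye25 ze22) (ke xe18 ye51 ze41) (ke xe27 ye6 ze9) (ke xe15 ye36 ze11) (ke xe9 ye24 ze3) (ke xe18 ye41 ze53) (ke xe15 ye40 ze42) (ke xe15 ye47 ze16) (ke xe9 ye28 ze1) (ke xe9 ye20 ze56) (ke xe21 ye16 ze61) (ke xe27 ye6 ze18) (ke xe16 ye42 ze57) (ke xe27 ye6 ze20) (ke xe27 ye6 ze22) (ke xe9 ye20 ze59) (ke xe9 ye23 ze24) (ke xe22 ye36 ze30) (ke xe17 ye37 ze14)) (@D3.rec (fun _ => Pt) (ke xe9 ye21 ze1) (ke xe9 ye21 ze2) (ke xe20 ye33 ze45) (ke xe27 ye6 ze28) (ke xe14 ye13 ze19) (ke xe14 ye13 ze23) (ke xe9 ye21 ze5)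 (ke xe21 ye16 ze29) (ke xe10 ye44 ze41) (ke xe9 ye21 ze8) (ke xe11 ye36 ze11) (ke xe27 ye6 ze35) (ke xe14 ye32 ze13) (ke xe12 ye4 ze27) (ke xe27 ye2 ze53) (ke xe10 ye44 ze10) (ke xe21 ye5 ze15) (ke xe12 ye0 ze6) (ke xe15 ye32 ze51) (ke xe22 ye25 ze17) (ke xe27 ye6 ze43) (ke xe9 ye21 ze19) (ke xe27 ye6 ze45) (ke xe27 ye6 ze47) (ke xe9 ye21 ze30) (ke xe27 ye2 ze13) (ke xe27 ye6 ze30) (ke xe9 ye21 ze23) (ke xe27 ye6 ze31) (ke xe9 ye21 ze24) (ke xe27 ye6 ze57) (ke xe9 ye21 ze26) (ke xe27 ye6 ze60) (ke xe27 ye7 ze0) (ke xe9 ye21 ze28) (ke xe27 ye7 ze1) (ke xe9 ye21 ze29) (ke xe27 ye7 ze6) (ke xe27 ye7 ze8) (ke xe27 ye6 ze49) (ke xe27 ye3 ze0) (ke xe27 ye7 ze15) (ke xe9 ye21 ze31) (ke xe27 ye7 ze19) (ke xe27 ye7 ze23) (ke xe9 ye21 ze33) (ke xe27 ye7 ze26) (ke xe9 ye21 ze34)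 (ke xe24 ye44 ze39) (ke xe9 ye21 ze36) (ke xe9 ye21 ze40) (ke xe24 ye20 ze18) (ke xe9 ye21 ze43) (ke xe24 ye14 ze20) (ke xe17 ye24 ze41) (ke xe27 ye7 ze33) (ke xe25 ye51 ze43) (ke xe17 ye24 ze49) (ke xe15 ye40 ze41) (ke xe15 ye47 ze17) (ke xe12 ye33 ze16) (ke xe9 ye21 ze49)) (@D3.rec (fun _ => Pt) (ke xe27 ye7 ze43) (ke xe27 ye6 ze38) (ke xe27 ye7 ze50) (ke xe27 ye7 ze39) (ke xe27 ye7 ze55) (ke xe9 ye21 ze50) (ke xe9 ye21 ze52) (ke xe10 ye49 ze37) (ke xe15 ye27 ze7) (ke xe17 ye0 ze24) (ke xe12 ye15 ze53) (ke xe17 ye57 ze44) (ke xe9 ye21 ze61) (ke xe9 ye22 ze0) (ke xe26 ye57 ze59) (ke xe27 ye8 ze0) (ke xe17 ye24 ze22) (ke xe17 ye24 ze30) (ke xe9 ye22 ze3) (ke xe27 ye8 ze5) (ke xe13 ye22 ze50) (ke xe17 ye21 ze16) (ke xe24 ye6 ze18) (ke xe16 ye56 ze36) (ke xe22 ye6 ze58)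 (ke xe25 ye51 ze34) (ke xe27 ye8 ze9) (ke xe9 ye22 ze9) (ke xe26 ye35 ze9) (ke xe24 ye1 ze54) (ke xe9 ye22 ze12) (ke xe20 ye30 ze51) (ke xe20 ye30 ze9) (ke xe27 ye8 ze16) (ke xe9 ye22 ze18) (ke xe20 ye30 ze40) (ke xe26 ye48 ze20) (ke xe24 ye4 ze10) (ke xe9 ye22 ze16) (ke xe10 ye15 ze28) (ke xe27 ye8 ze26) (ke xe9 ye22 ze17) (ke xe27 ye8 ze29) (ke xe27 ye8 ze31) (ke xe27 ye8 ze19) (ke xe9 ye22 ze19) (ke xe9 ye23 ze52) (ke xe21 ye20 ze33) (ke xe9 ye22 ze21) (ke xe24 ye26 ze53) (ke xe9 ye23 ze55) (ke xe17 ye24 ze54) (ke xe15 ye56 ze13) (ke xe15 ye56 ze15) (ke xe11 ye0 ze32) (ke xe22 ye7 ze12) (ke xe9 ye22 ze24) (ke xe27 ye8 ze52) (ke xe10 ye21 ze29) (ke xe9 ye22 ze27) (ke xe14 ye13 ze24) (ke xe27 ye8 ze56)) (@D3.rec (fun _ => Pt) (ke xe9 ye22 ze28) (ke xe9 ye22 ze29) (ke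 xe16 ye54 ze25) (ke xe9 ye22 ze30) (ke xe16 ye54 ze26) (ke xe9 ye22 ze34) (ke xe20 ye52 ze23) (ke xe9 ye22 ze37) (ke xe9 ye22 ze39) (ke xe10 ye21 ze53) (ke xe11 ye26 ze10) (ke xe9 ye22 ze45) (ke xe9 ye22 ze46) (ke xe12 ye57 ze7) (ke xe12 ye57 ze24) (ke xe9 ye28 ze47) (ke xe10 ye46 ze0) (ke xe17 ye34 ze58) (ke xe12 ye11 ze7) (ke xe9 ye22 ze54) (ke xe9 ye28 ze28) (ke xe10 ye4 ze31) (ke xe10 ye20 ze1) (ke xe9 ye32 ze0) (ke xe27 ye9 ze7) (ke xe18 ye53 ze5) (ke xe12 ye59 ze19) (ke xe21 ye16 ze56) (ke xe9 ye28 ze6) (ke xe11 ye25 ze53) (ke xe9 ye23 ze0) (ke xe9 ye23 ze1) (ke xe24 ye19 ze44) (ke xe10 ye4 ze44) (ke xe9 ye23 ze6) (ke xe27 ye9 ze13) (ke xe9 ye23 ze8) (ke xe18 ye42 ze51) (ke xe10 ye20 ze5) (ke xe18 ye49 ze13) (ke xe9 ye23 ze12) (ke xe24 ye15 ze40) (ke xe18 ye46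 ze0) (ke xe12 ye33 ze10) (ke xe17 ye34 ze44) (ke xe18 ye49 ze61) (ke xe9 ye23 ze16) (ke xe21 ye52 ze7) (ke xe9 ye23 ze17) (ke xe10 ye20 ze31) (ke xe9 ye23 ze19) (ke xe10 ye27 ze4) (ke xe24 ye15 ze38) (ke xe27 ye9 ze25) (ke xe11 ye43 ze20) (ke xe9 ye23 ze21) (ke xe12 ye44 ze18) (ke xe9 ye23 ze22) (ke xe19 ye51 ze12) (ke xe12 ye44 ze33) (ke xe9 ye23 ze26) (ke xe17 ye24 ze42)) (@D3.rec (fun _ => Pt) (ke xe10 ye26 ze55) (ke xe27 ye9 ze40) (ke xe23 ye58 ze39) (ke xe17 ye35 ze8) (ke xe27 ye9 ze43) (ke xe9 ye23 ze25) (ke xe27 ye9 ze47) (ke xe19 ye7 ze18) (ke xe27 ye9 ze36) (ke xe16 ye31 ze21) (ke xe18 ye45 ze21) (ke xe19 ye28 ze14) (ke xe9 ye23 ze28) (ke xe14 ye22 ze25) (ke xe25 ye47 ze37) (ke xe9 ye23 ze37) (ke xe25 ye32 ze37) (ke xe11 ye26 ze31) (ke xe27 ye9 ze61) (ke xe16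 ye6 ze59) (ke xe9 ye23 ze32) (ke xe27 ye10 ze2) (ke xe9 ye23 ze33) (ke xe27 ye10 ze7) (ke xe16 ye0 ze25) (ke xe9 ye23 ze35) (ke xe27 ye10 ze9) (ke xe9 ye23 ze36) (ke xe26 ye42 ze5) (ke xe27 ye9 ze57) (ke xe9 ye23 ze38) (ke xe12 ye51 ze17) (ke xe26 ye52 ze60) (ke xe27 ye10 ze16) (ke xe9 ye23 ze39) (ke xe9 ye23 ze40) (ke xe27 ye10 ze19) (ke xe9 ye23 ze42) (ke xe9 ye23 ze43) (ke xe9 ye49 ze38) (ke xe9 ye29 ze33) (ke xe12 ye26 ze38) (ke xe21 ye34 ze5) (ke xe27 ye10 ze24) (ke xe9 ye23 ze49) (ke xe27 ye8 ze34) (ke xe19 ye25 ze34) (ke xe27 ye8 ze38) (ke xe9 ye23 ze53) (ke xe12 ye51 ze35) (ke xe27 ye10 ze30) (ke xe24 ye6 ze40) (ke xe27 ye8 ze41) (ke xe9 ye23 ze56) (ke xe26 ye53 ze20) (ke xe17 ye15 ze5) (ke xe9 ye27 ze36) (ke xe9 ye23 ze58) (ke xe21 ye13 ze40) (ke xe18 ye42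 ze17) (ke xe19 ye22 ze20) (ke xe20 ye59 ze41)) (@D3.rec (fun _ => Pt) (ke xe20 ye2 ze8) (ke xe27 ye10 ze39) (ke xe27 ye10 ze40) (ke xe18 ye47 ze52) (ke xe27 ye10 ze43) (ke xe11 ye35 ze17) (ke xe27 ye10 ze44) (ke xe9 ye24 ze0) (ke xe27 ye10 ze45) (ke xe19 ye41 ze18) (ke xe9 ye24 ze1) (ke xe10 ye46 ze46) (ke xe23 ye45 ze30) (ke xe10 ye33 ze23) (ke xe9 ye24 ze4) (ke xe9 ye28 ze41) (ke xe17 ye18 ze21) (ke xe18 ye48 ze13) (ke xe14 ye42 ze49) (ke xe9 ye32 ze5) (ke xe11 ye1 ze2) (ke xe14 ye16 ze57) (ke xe9 ye24 ze8) (ke xe9 ye24 ze9) (ke xe13 ye18 ze18) (ke xe14 ye13 ze56) (ke xe9 ye24 ze11) (ke xe16 ye49 ze12) (ke xe16 ye49 ze13) (ke xe27 ye10 ze58) (ke xe9 ye24 ze14) (ke xe25 ye46 ze46) (ke xe9 ye24 ze15) (ke xe19 ye40 ze50) (ke xe21 ye5 ze12) (ke xe12 ye52 ze18) (ke xe9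 ye43 ze26) (ke xe12 ye59 ze18) (ke xe17 ye22 ze4) (ke xe13 ye0 ze35) (ke xe27 ye11 ze7) (ke xe21 ye39 ze24) (ke xe17 ye10 ze17) (ke xe16 ye1 ze32) (ke xe15 ye47 ze7) (ke xe14 ye14 ze15) (ke xe9 ye24 ze34) (ke xe27 ye9 ze0) (ke xe26 ye58 ze49) (ke xe9 ye24 ze37) (ke xe10 ye40 ze44) (ke xe15 ye4 ze16) (ke xe9 ye24 ze40) (ke xe19 ye25 ze26) (ke xe27 ye11 ze14) (ke xe19 ye11 ze45) (ke xe13 ye18 ze16) (ke xe17 ye52 ze24) (ke xe27 ye11 ze16) (ke xe25 ye24 ze7) (ke xe12 ye51 ze57) (ke xe9 ye24 ze48)) (@D3.rec (fun _ => Pt) (ke xe27 ye11 ze19) (ke xe18 ye4 ze16) (ke xe9 ye24 ze49) (ke xe10 ye23 ze45) (ke xe17 ye21 ze38) (ke xe15 ye32 ze35) (ke xe9 ye24 ze54) (ke xe27 ye11 ze26) (ke xe15 ye15 ze23) (ke xe9 ye24 ze56) (ke xe25 ye43 ze28) (ke xe15 ye32 ze32) (ke xe15 ye15 ze18)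 (ke xe27 ye11 ze33) (ke xe27 ye11 ze36) (ke xe17 ye10 ze26) (ke xe23 ye11 ze19) (ke xe26 ye1 ze1) (ke xe14 ye14 ze16) (ke xe18 ye43 ze19) (ke xe24 ye53 ze13) (ke xe9 ye25 ze3) (ke xe9 ye25 ze4) (ke xe21 ye3 ze60) (ke xe27 ye11 ze40) (ke xe9 ye26 ze56) (ke xe9 ye25 ze6) (ke xe17 ye8 ze18) (ke xe9 ye25 ze11) (ke xe26 ye57 ze58) (ke xe23 ye57 ze54) (ke xe19 ye23 ze48) (ke xe21 ye30 ze57) (ke xe9 ye25 ze14) (ke xe12 ye23 ze23) (ke xe21 ye30 ze56) (ke xe9 ye25 ze16) (ke xe9 ye25 ze17) (ke xe19 ye59 ze5) (ke xe27 ye11 ze56) (ke xe18 ye46 ze52) (ke xe20 ye33 ze17) (ke xe27 ye11 ze59) (ke xe27 ye12 ze0) (ke xe9 ye25 ze19) (ke xe20 ye45 ze60) (ke xe20 ye26 ze48) (ke xe26 ye42 ze46) (ke xe9 ye25 ze20) (ke xe15 ye37 ze34) (ke xe19 ye31 ze13) (ke xe19 ye11 ze14) (ke xe27 ye12 ze10)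 (ke xe9 ye25 ze24) (ke xe9 ye56 ze1) (ke xe9 ye25 ze26) (ke xe9 ye25 ze27) (ke xe27 ye12 ze11) (ke xe27 ye12 ze12) (ke xe9 ye25 ze33) (ke xe12 ye38 ze11) (ke xe21 ye53 ze51)) (@D3.rec (fun _ => Pt) (ke xe9 ye25 ze35) (ke xe9 ye25 ze36) (ke xe24 ye11 ze5) (ke xe27 ye12 ze18) (ke xe9 ye25 ze38) (ke xe19 ye23 ze41) (ke xe24 ye21 ze42) (ke xe13 ye29 ze41) (ke xe10 ye1 ze48) (ke xe13 ye52 ze17) (ke xe9 ye25 ze41) (ke xe27 ye12 ze24) (ke xe9 ye25 ze42) (ke xe18 ye8 ze46) (ke xe18 ye46 ze5) (ke xe9 ye39 ze20) (ke xe15 ye32 ze11) (ke xe9 ye25 ze47) (ke xe9 ye25 ze49) (ke xe13 ye20 ze13) (ke xe9 ye25 ze52) (ke xe11 ye45 ze30) (ke xe22 ye22 ze10) (ke xe27 ye12 ze26) (ke xe9 ye25 ze54) (ke xe20 ye31 ze34) (ke xe9 ye25 ze57) (ke xe27 ye12 ze29) (ke xe9 ye25 ze59) (ke xe11 ye45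 ze48) (ke xe27 ye12 ze31) (ke xe18 ye4 ze56) (ke xe22 ye36 ze60) (ke xe25 ye52 ze54) (ke xe9 ye26 ze1) (ke xe11 ye43 ze24) (ke xe27 ye12 ze35) (ke xe27 ye12 ze39) (ke xe9 ye26 ze3) (ke xe25 ye53 ze16) (ke xe27 ye12 ze42) (ke xe11 ye58 ze41) (ke xe12 ye15 ze2) (ke xe25 ye45 ze51) (ke xe9 ye26 ze7) (ke xe26 ye50 ze22) (ke xe27 ye12 ze49) (ke xe9 ye48 ze59) (ke xe11 ye46 ze1) (ke xe14 ye38 ze54) (ke xe16 ye52 ze37) (ke xe27 ye12 ze57) (ke xe9 ye26 ze9) (ke xe26 ye32 ze54) (ke xe15 ye25 ze30) (ke xe23 ye1 ze18) (ke xe9 ye26 ze10) (ke xe19 ye45 ze11) (ke xe9 ye26 ze21) (ke xe27 ye13 ze4) (ke xe21 ye52 ze16) (ke xe11 ye46 ze20)) (@D3.rec (fun _ => Pt) (ke xe20 ye33 ze20) (ke xe27 ye13 ze5) (ke xe9 ye26 ze15) (ke xe9 ye26 ze16) (ke xe27 ye13 ze8) (ke xe9 ye26 ze17) (ke xe22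 ye13 ze39) (ke xe21 ye5 ze34) (ke xe9 ye26 ze19) (ke xe19 ye27 ze3) (ke xe24 ye13 ze34) (ke xe9 ye26 ze20) (ke xe25 ye55 ze49) (ke xe15 ye31 ze36) (ke xe27 ye13 ze1) (ke xe27 ye13 ze22) (ke xe27 ye13 ze24) (ke xe9 ye26 ze22) (ke xe9 ye26 ze23) (ke xe20 ye0 ze24) (ke xe9 ye26 ze24) (ke xe18 ye48 ze50) (ke xe17 ye18 ze16) (ke xe27 ye2 ze20) (ke xe15 ye55 ze60) (ke xe18 ye46 ze4) (ke xe27 ye13 ze35) (ke xe9 ye26 ze27) (ke xe27 ye13 ze39) (ke xe10 ye20 ze59) (ke xe17 ye18 ze17) (ke xe22 ye40 ze5) (ke xe27 ye13 ze43) (ke xe12 ye51 ze40) (ke xe9 ye26 ze32) (ke xe9 ye26 ze34) (ke xe27 ye13 ze45) (ke xe26 ye4 ze4) (ke xe9 ye26 ze35) (ke xe26 ye45 ze33) (ke xe18 ye46 ze16) (ke xe17 ye17 ze54) (ke xe17 ye19 ze61) (ke xe27 ye13 ze55) (ke xe9 ye26 ze37) (ke xe18 ye45 ze49) (ke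 xe18 ye46 ze40) (ke xe27 ye13 ze59) (ke xe27 ye14 ze0) (ke xe17 ye17 ze57) (ke xe22 ye1 ze47) (ke xe27 ye14 ze6) (ke xe27 ye14 ze8) (ke xe9 ye26 ze41) (ke xe17 ye18 ze51) (ke xe18 ye48 ze43) (ke xe27 ye14 ze11) (ke xe10 ye21 ze17) (ke xe27 ye10 ze4) (ke xe27 ye14 ze17) (ke xe9 ye26 ze43) (ke xe10 ye19 ze33)) (@D3.rec (fun _ => Pt) (ke xe27 ye14 ze18) (ke xe13 ye47 ze27) (ke xe10 ye19 ze15) (ke xe18 ye45 ze22) (ke xe10 ye19 ze16) (ke xe16 ye25 ze21) (ke xe25 ye25 ze57) (ke xe25 ye51 ze51) (ke xe9 ye26 ze48) (ke xe27 ye14 ze30) (ke xe15 ye59 ze60) (ke xe17 ye10 ze35) (ke xe9 ye26 ze49) (ke xe23 ye56 ze4) (ke xe19 ye38 ze56) (ke xe9 ye27 ze20) (ke xe27 ye14 ze36) (ke xe25 ye58 ze34) (ke xe9 ye26 ze51) (ke xe27 ye14 ze37) (ke xe16 ye53 ze52) (ke xe27 ye14 ze40) (ke xe11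 ye55 ze5) (ke xe25 ye30 ze58) (ke xe22 ye24 ze23) (ke xe27 ye14 ze45) (ke xe9 ye27 ze31) (ke xe27 ye14 ze51) (ke xe16 ye30 ze14) (ke xe18 ye44 ze28) (ke xe27 ye14 ze53) (ke xe9 ye26 ze57) (ke xe23 ye58 ze2) (ke xe12 ye32 ze55) (ke xe27 ye14 ze56) (ke xe23 ye9 ze1) (ke xe9 ye26 ze61) (ke xe9 ye27 ze1) (ke xe27 ye10 ze5) (ke xe15 ye46 ze34) (ke xe18 ye0 ze56) (ke xe27 ye14 ze61) (ke xe27 ye15 ze1) (ke xe9 ye27 ze4) (ke xe19 ye28 ze7) (ke xe27 ye15 ze5) (ke xe9 ye27 ze5) (ke xe27 ye15 ze8) (ke xe27 ye15 ze12) (ke xe9 ye27 ze8) (ke xe24 ye38 ze52) (ke xe18 ye44 ze33) (ke xe9 ye27 ze10) (ke xe25 ye59 ze15) (ke xe27 ye15 ze20) (ke xe27 ye15 ze22) (ke xe9 ye27 ze12) (ke xe25 ye55 ze33) (ke xe27 ye14 ze26) (ke xe27 ye15 ze26) (ke xe9 ye27 ze13) (ke xe27 ye10 ze11)) (@D3.rec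 (fun _ => Pt) (ke xe19 ye7 ze14) (ke xe21 ye53 ze21) (ke xe9 ye27 ze15) (ke xe27 ye15 ze34) (ke xe9 ye27 ze16) (ke xe26 ye42 ze57) (ke xe23 ye0 ze49) (ke xe21 ye16 ze30) (ke xe18 ye47 ze30) (ke xe25 ye54 ze17) (ke xe19 ye6 ze41) (ke xe9 ye27 ze19) (ke xe25 ye58 ze58) (ke xe27 ye15 ze52) (ke xe27 ye14 ze33) (ke xe27 ye15 ze56) (ke xe27 ye15 ze57) (ke xe9 ye27 ze21) (ke xe9 ye27 ze22) (ke xe26 ye42 ze60) (ke xe9 ye27 ze24) (ke xe27 ye16 ze1) (ke xe27 ye16 ze6) (ke xe9 ye27 ze25) (ke xe22 ye25 ze11) (ke xe27 ye12 ze22) (ke xe27 ye16 ze11) (ke xe9 ye27 ze26) (ke xe27 ye16 ze14) (ke xe24 ye0 ze32) (ke xe27 ye16 ze16) (ke xe27 ye16 ze19) (ke xe9 ye27 ze29) (ke xe27 ye16 ze20) (ke xe27 ye16 ze23) (ke xe9 ye27 ze30) (ke xe27 ye16 ze27) (ke xe27 ye16 ze30) (ke xe27 ye14 ze48)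 (ke xe27 ye16 ze34) (ke xe21 ye52 ze26) (ke xe14 ye16 ze59) (ke xe12 ye38 ze1) (ke xe25 ye57 ze12) (ke xe9 ye27 ze35) (ke xe11 ye46 ze48) (ke xe20 ye8 ze38) (ke xe27 ye16 ze38) (ke xe25 ye59 ze27) (ke xe23 ye45 ze27) (ke xe25 ye46 ze59) (ke xe27 ye6 ze10) (ke xe25 ye36 ze3) (ke xe11 ye26 ze12) (ke xe9 ye30 ze13) (ke xe26 ye31 ze41) (ke xe27 ye16 ze42) (ke xe9 ye27 ze42) (ke xe25 ye48 ze4) (ke xe27 ye16 ze45) (ke xe9 ye27 ze43) (ke xe11 ye44 ze55)) (@D3.rec (fun _ => Pt) (ke xe27 ye16 ze48) (ke xe20 ye2 ze39) (ke xe9 ye27 ze45) (ke xe27 ye16 ze54) (ke xe25 ye46 ze60) (ke xe9 ye27 ze48) (ke xe22 ye7 ze28) (ke xe9 ye28 ze36) (ke xe27 ye16 ze58) (ke xe17 ye29 ze7) (ke xe27 ye17 ze3) (ke xe12 ye48 ze61) (ke xe20 ye15 ze12) (ke xe9 ye37 ze18) (ke xe26 ye55 ze59) (ke xe9 ye27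 ze52) (ke xe27 ye17 ze10) (ke xe9 ye27 ze53) (ke xe26 ye55 ze56) (ke xe25 ye55 ze4) (ke xe25 ye59 ze21) (ke xe17 ye43 ze5) (ke xe12 ye15 ze54) (ke xe25 ye23 ze8) (ke xe27 ye17 ze21) (ke xe12 ye33 ze21) (ke xe12 ye58 ze28) (ke xe25 ye5 ze59) (ke xe25 ye7 ze10) (ke xe27 ye17 ze29) (ke xe24 ye41 ze14) (ke xe25 ye5 ze51) (ke xe16 ye2 ze31) (ke xe22 ye3 ze41) (ke xe9 ye28 ze22) (ke xe27 ye17 ze36) (ke xe20 ye12 ze38) (ke xe15 ye32 ze55) (ke xe27 ye17 ze38) (ke xe9 ye28 ze3) (ke xe12 ye59 ze9) (ke xe27 ye17 ze42) (ke xe27 ye17 ze46) (ke xe21 ye4 ze61) (ke xe27 ye9 ze10) (ke xe26 ye54 ze52) (ke xe9 ye28 ze7) (ke xe12 ye59 ze13) (ke xe21 ye50 ze0) (ke xe26 ye4 ze1) (ke xe27 ye17 ze59) (ke xe9 ye28 ze8) (ke xe9 ye28 ze9) (ke xe27 ye17 ze22) (ke xe17 ye29 ze14) (ke xe25 ye43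 ze49) (ke xe27 ye18 ze2) (ke xe9 ye28 ze13) (ke xe25 ye33 ze13) (ke xe27 ye17 ze27) (ke xe27 ye18 ze7) (ke xe27 ye18 ze11)) (@D3.rec (fun _ => Pt) (ke xe9 ye28 ze15) (ke xe9 ye28 ze16) (ke xe27 ye17 ze30) (ke xe25 ye27 ze33) (ke xe15 ye59 ze38) (ke xe27 ye18 ze19) (ke xe9 ye28 ze19) (ke xe21 ye59 ze32) (ke xe21 ye17 ze29) (ke xe9 ye28 ze20) (ke xe15 ye57 ze20) (ke xe27 ye18 ze23) (ke xe27 ye18 ze24) (ke xe27 ye18 ze26) (ke xe27 ye18 ze28) (ke xe27 ye18 ze32) (ke xe9 ye28 ze23) (ke xe22 ye43 ze23) (ke xe9 ye28 ze24) (ke xe25 ye40 ze16) (ke xe9 ye28 ze25) (ke xe27 ye18 ze42) (ke xe9 ye28 ze26) (ke xe25 ye30 ze22) (ke xe25 ye27 ze8) (ke xe21 ye17 ze44) (ke xe26 ye52 ze58) (ke xe14 ye23 ze6) (ke xe27 ye18 ze51) (ke xe14 ye23 ze8) (ke xe27 ye18 ze54) (ke xe13 ye0 ze34) (ke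 xe24 ye35 ze39) (ke xe13 ye17 ze41) (ke xe27 ye18 ze58) (ke xe27 ye18 ze60) (ke xe9 ye28 ze42) (ke xe11 ye43 ze34) (ke xe27 ye16 ze60) (ke xe27 ye19 ze2) (ke xe27 ye19 ze6) (ke xe9 ye28 ze37) (ke xe14 ye42 ze15) (ke xe27 ye19 ze11) (ke xe9 ye28 ze39) (ke xe27 ye19 ze13) (ke xe27 ye19 ze16) (ke xe9 ye28 ze40) (ke xe25 ye39 ze28) (ke xe27 ye10 ze51) (ke xe26 ye34 ze32) (ke xe27 ye2 ze39) (ke xe10 ye40 ze12) (ke xe27 ye19 ze24) (ke xe19 ye13 ze51) (ke xe9 ye28 ze43) (ke xe27 ye19 ze26) (ke xe9 ye28 ze44) (ke xe12 ye50 ze34) (ke xe21 ye5 ze13) (ke xe12 ye26 ze9) (ke xe16 ye45 ze57)) (@D3.rec (fun _ => Pt) (ke xe12 ye36 ze46) (ke xe18 ye16 ze3) (ke xe27 ye19 ze35) (ke xe27 ye19 ze36) (ke xe9 ye28 ze48) (ke xe26 ye2 ze8) (ke xe27 ye19 ze41) (ke xe17 ye27 ze9) (ke xe27 ye19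 ze44) (ke xe12 ye11 ze18) (ke xe27 ye18 ze45) (ke xe9 ye28 ze52) (ke xe27 ye19 ze46) (ke xe27 ye19 ze48) (ke xe17 ye27 ze54) (ke xe13 ye0 ze38) (ke xe20 ye43 ze47) (ke xe16 ye45 ze45) (ke xe25 ye8 ze50) (ke xe25 ye8 ze58) (ke xe12 ye3 ze10) (ke xe12 ye21 ze37) (ke xe14 ye54 ze6) (ke xe24 ye42 ze54) (ke xe27 ye5 ze57) (ke xe12 ye21 ze46) (ke xe12 ye35 ze17) (ke xe20 ye37 ze53) (ke xe12 ye39 ze30) (ke xe17 ye50 ze61) (ke xe15 ye59 ze14) (ke xe27 ye19 ze56) (ke xe15 ye27 ze22) (ke xe22 ye2 ze29) (ke xe27 ye19 ze61) (ke xe21 ye53 ze47) (ke xe9 ye29 ze3) (ke xe17 ye42 ze40) (ke xe27 ye20 ze0) (ke xe25 ye57 ze51) (ke xe9 ye29 ze4) (ke xe27 ye20 ze3) (ke xe23 ye47 ze29) (ke xe17 ye49 ze48) (ke xe26 ye11 ze8) (ke xe9 ye29 ze6) (ke xe21 ye48 ze51) (ke xe9 ye29 ze9) (ke xe13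 ye1 ze54) (ke xe14 ye46 ze32) (ke xe12 ye56 ze19) (ke xe21 ye42 ze36) (ke xe19 ye39 ze46) (ke xe14 ye46 ze37) (ke xe15 ye43 ze8) (ke xe13 ye1 ze11) (ke xe12 ye30 ze39) (ke xe23 ye22 ze0) (ke xe18 ye48 ze35) (ke xe20 ye22 ze17) (ke xe11 ye24 ze25) (ke xe11 ye19 ze44)) (@D3.rec (fun _ => Pt) (ke xe9 ye29 ze24) (ke xe12 ye49 ze42) (ke xe13 ye10 ze61) (ke xe20 ye22 ze3) (ke xe13 ye11 ze4) (ke xe21 ye51 ze18) (ke xe27 ye20 ze19) (ke xe11 ye19 ze52) (ke xe9 ye29 ze22) (ke xe12 ye3 ze57) (ke xe9 ye29 ze23) (ke xe20 ye12 ze34) (ke xe27 ye20 ze22) (ke xe23 ye49 ze45) (ke xe27 ye20 ze26) (ke xe20 ye14 ze8) (ke xe9 ye32 ze48) (ke xe9 ye37 ze58) (ke xe18 ye33 ze40) (ke xe12 ye50 ze6) (ke xe14 ye4 ze48) (ke xe27 ye20 ze28) (ke xe27 ye10 ze21) (ke xe27 ye20 ze29) (ke xe27 ye20 ze30)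 (ke xe9 ye29 ze34) (ke xe17 ye13 ze41) (ke xe18 ye29 ze40) (ke xe17 ye37 ze41) (ke xe12 ye58 ze59) (ke xe27 ye20 ze35) (ke xe15 ye19 ze3) (ke xe9 ye55 ze22) (ke xe25 ye43 ze9) (ke xe20 ye47 ze27) (ke xe9 ye29 ze37) (ke xe27 ye20 ze39) (ke xe21 ye9 ze23) (ke xe9 ye32 ze55) (ke xe17 ye13 ze32) (ke xe12 ye46 ze36) (ke xe20 ye53 ze1) (ke xe11 ye8 ze60) (ke xe9 ye29 ze40) (ke xe12 ye25 ze30) (ke xe26 ye2 ze56) (ke xe27 ye20 ze44) (ke xe12 ye58 ze10) (ke xe17 ye33 ze24) (ke xe13 ye0 ze12) (ke xe27 ye20 ze49) (ke xe9 ye29 ze45) (ke xe21 ye42 ze26) (ke xe27 ye20 ze52) (ke xe21 ye26 ze58) (ke xe27 ye20 ze55) (ke xe20 ye5 ze34) (ke xe9 ye29 ze47) (ke xe21 ye17 ze48) (ke xe21 ye49 ze52) (ke xe12 ye50 ze24) (ke xe21 ye44 ze44)) (@D3.rec (fun _ => Pt) (ke xe21 ye35 ze41) (ke xe18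 ye36 ze9) (ke xe21 ye18 ze5) (ke xe20 ye15 ze8) (ke xe26 ye53 ze18) (ke xe9 ye29 ze51) (ke xe18 ye16 ze60) (ke xe9 ye29 ze54) (ke xe20 ye11 ze33) (ke xe9 ye29 ze56) (ke xe9 ye29 ze57) (ke xe27 ye20 ze59) (ke xe9 ye29 ze59) (ke xe24 ye34 ze40) (ke xe9 ye29 ze61) (ke xe9 ye30 ze0) (ke xe21 ye49 ze39) (ke xe26 ye23 ze34) (ke xe11 ye44 ze10) (ke xe22 ye42 ze33) (ke xe9 ye30 ze5) (ke xe11 ye44 ze16) (ke xe18 ye23 ze15) (ke xe21 ye47 ze22) (ke xe9 ye30 ze3) (ke xe27 ye21 ze5) (ke xe12 ye55 ze36) (ke xe11 ye28 ze12) (ke xe11 ye44 ze33) (ke xe9 ye30 ze10) (ke xe14 ye18 ze32) (ke xe20 ye13 ze35) (ke xe27 ye21 ze11) (ke xe10 ye59 ze48) (ke xe12 ye22 ze56) (ke xe27 ye21 ze6) (ke xe9 ye30 ze16) (ke xe23 ye37 ze1) (ke xe9 ye30 ze18) (ke xe21 ye47 ze12) (ke xe20 ye16 ze33) (ke xe11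 ye44 ze54) (ke xe22 ye18 ze40) (ke xe23 ye7 ze29) (ke xe18 ye5 ze18) (ke xe10 ye59 ze3) (ke xe9 ye30 ze24) (ke xe27 ye21 ze17) (ke xe9 ye30 ze25) (ke xe11 ye39 ze11) (ke xe9 ye30 ze27) (ke xe9 ye30 ze29) (ke xe27 ye21 ze18) (ke xe9 ye30 ze30) (ke xe9 ye30 ze31) (ke xe11 ye40 ze7) (ke xe27 ye13 ze15) (ke xe27 ye21 ze20) (ke xe9 ye30 ze36) (ke xe9 ye30 ze38) (ke xe21 ye47 ze14) (ke xe17 ye5 ze19)) (@D3.rec (fun _ => Pt) (ke xe21 ye38 ze47) (ke xe27 ye21 ze22) (ke xe14 ye16 ze15) (ke xe27 ye21 ze25) (ke xe25 ye36 ze29) (ke xe9 ye30 ze43) (ke xe13 ye1 ze24) (ke xe20 ye42 ze31) (ke xe27 ye21 ze30) (ke xe27 ye21 ze31) (ke xe9 ye30 ze46) (ke xe11 ye47 ze30) (ke xe20 ye9 ze47) (ke xe9 ye30 ze48) (ke xe11 ye10 ze14) (ke xe9 ye30 ze51) (ke xe27 ye21 ze37) (ke xe14 ye26 ze39)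 (ke xe9 ye30 ze52) (ke xe11 ye41 ze58) (ke xe21 ye36 ze53) (ke xe24 ye52 ze15) (ke xe9 ye30 ze53) (ke xe23 ye38 ze1) (ke xe27 ye21 ze38) (ke xe22 ye6 ze29) (ke xe27 ye21 ze39) (ke xe9 ye30 ze55) (ke xe27 ye21 ze41) (ke xe9 ye30 ze56) (ke xe11 ye46 ze56) (ke xe27 ye13 ze11) (ke xe27 ye21 ze46) (ke xe11 ye43 ze0) (ke xe9 ye30 ze58) (ke xe9 ye30 ze60) (ke xe24 ye36 ze49) (ke xe10 ye51 ze26) (ke xe15 ye21 ze4) (ke xe14 ye18 ze30) (ke xe9 ye31 ze1) (ke xe27 ye21 ze49) (ke xe11 ye25 ze33) (ke xe9 ye31 ze2) (ke xe27 ye21 ze52) (ke xe19 ye19 ze34) (ke xe9 ye31 ze3) (ke xe19 ye40 ze39) (ke xe11 ye47 ze42) (ke xe16 ye45 ze31) (ke xe10 ye56 ze57) (ke xe16 ye27 ze29) (ke xe19 ye19 ze45) (ke xe9 ye31 ze7) (ke xe24 ye36 ze50) (ke xe20 ye29 ze8) (ke xe27 ye21 ze55) (ke xe9 ye31 ze8)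 (ke xe27 ye21 ze56) (ke xe9 ye31 ze9) (ke xe16 ye48 ze28) (ke xe20 ye4 ze52)) (@D3.rec (fun _ => Pt) (ke xe27 ye21 ze58) (ke xe9 ye31 ze12) (ke xe19 ye34 ze4) (ke xe9 ye31 ze16) (ke xe24 ye53 ze29) (ke xe27 ye21 ze60) (ke xe18 ye47 ze46) (ke xe9 ye31 ze18) (ke xe11 ye50 ze39) (ke xe20 ye9 ze10) (ke xe26 ye42 ze18) (ke xe21 ye48 ze7) (ke xe9 ye31 ze21) (ke xe11 ye1 ze46) (ke xe23 ye46 ze50) (ke xe17 ye59 ze9) (ke xe26 ye10 ze33) (ke xe9 ye31 ze24) (ke xe11 ye39 ze47) (ke xe11 ye50 ze1) (ke xe14 ye55 ze54) (ke xe26 ye46 ze29) (ke xe12 ye24 ze38) (ke xe9 ye31 ze30) (ke xe17 ye30 ze48) (ke xe12 ye50 ze42) (ke xe27 ye5 ze58) (ke xe12 ye24 ze39) (ke xe12 ye14 ze21) (ke xe10 ye37 ze39) (ke xe9 ye56 ze17) (ke xe12 ye14 ze54) (ke xe26 ye2 ze33) (ke xe26 ye48 ze25) (ke xe26 ye2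 ze18) (ke xe9 ye41 ze61) (ke xe23 ye31 ze4) (ke xe27 ye22 ze15) (ke xe24 ye34 ze7) (ke xe9 ye31 ze39) (ke xe16 ye46 ze29) (ke xe20 ye25 ze35) (ke xe9 ye31 ze43) (ke xe27 ye22 ze17) (ke xe23 ye33 ze22) (ke xe9 ye31 ze47) (ke xe24 ye33 ze54) (ke xe21 ye59 ze11) (ke xe27 ye22 ze21) (ke xe11 ye51 ze20) (ke xe17 ye52 ze11) (ke xe10 ye38 ze44) (ke xe27 ye22 ze25) (ke xe27 ye22 ze28) (ke xe9 ye31 ze54) (ke xe12 ye18 ze16) (ke xe27 ye22 ze30) (ke xe27 ye22 ze32) (ke xe17 ye16 ze22) (ke xe9 ye31 ze55) (ke xe27 ye12 ze46) (ke xe22 ye9 ze60)) (@D3.rec (fun _ => Pt) (ke xe23 ye47 ze54) (ke xe23 ye4 ze17) (ke xe9 ye31 ze57) (ke xe9 ye31 ze58) (ke xe11 ye27 ze56) (ke xe9 ye58 ze2) (ke xe10 ye25 ze47) (ke xe14 ye14 ze14) (ke xe10 ye25 ze55) (ke xe25 ye36 ze13) (ke xe26 ye51 ze5) (ke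 xe25 ye40 ze26) (ke xe21 ye15 ze53) (ke xe25 ye25 ze15) (ke xe13 ye45 ze31) (ke xe27 ye22 ze44) (ke xe9 ye32 ze6) (ke xe19 ye39 ze52) (ke xe9 ye48 ze60) (ke xe24 ye36 ze24) (ke xe21 ye22 ze7) (ke xe19 ye11 ze3) (ke xe12 ye49 ze0) (ke xe27 ye22 ze47) (ke xe9 ye32 ze11) (ke xe19 ye39 ze6) (ke xe27 ye22 ze48) (ke xe9 ye32 ze14) (ke xe20 ye38 ze42) (ke xe27 ye22 ze50) (ke xe26 ye53 ze33) (ke xe15 ye2 ze50) (ke xe27 ye22 ze52) (ke xe9 ye32 ze16) (ke xe11 ye10 ze36) (ke xe24 ye53 ze36) (ke xe20 ye4 ze25) (ke xe9 ye32 ze18) (ke xe21 ye11 ze20) (ke xe17 ye1 ze37) (ke xe27 ye22 ze58) (ke xe27 ye1 ze13) (ke xe9 ye32 ze21) (ke xe19 ye39 ze29) (ke xe17 ye19 ze44) (ke xe16 ye29 ze12) (ke xe9 ye32 ze28) (ke xe9 ye32 ze30) (ke xe13 ye1 ze10) (ke xe12 ye52 ze44) (ke xe21 ye9 ze24)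 (ke xe12 ye39 ze27) (ke xe12 ye20 ze49) (ke xe15 ye49 ze29) (ke xe12 ye38 ze12) (ke xe12 ye46 ze19) (ke xe13 ye13 ze29) (ke xe18 ye8 ze3) (ke xe17 ye19 ze17) (ke xe21 ye20 ze36) (ke xe15 ye38 ze24) (ke xe12 ye39 ze54)) (@D3.rec (fun _ => Pt) (ke xe20 ye13 ze12) (ke xe27 ye23 ze11) (ke xe14 ye11 ze49) (ke xe9 ye32 ze54) (ke xe26 ye25 ze22) (ke xe27 ye20 ze40) (ke xe13 ye9 ze56) (ke xe21 ye10 ze8) (ke xe17 ye20 ze3) (ke xe21 ye10 ze9) (ke xe21 ye34 ze59) (ke xe20 ye37 ze29) (ke xe21 ye52 ze17) (ke xe9 ye32 ze61) (ke xe21 ye22 ze30) (ke xe14 ye12 ze13) (ke xe26 ye15 ze59) (ke xe9 ye33 ze2) (ke xe12 ye35 ze52) (ke xe21 ye49 ze43) (ke xe21 ye49 ze48) (ke xe26 ye15 ze45) (ke xe12 ye45 ze7) (ke xe9 ye33 ze8) (ke xe27 ye23 ze26) (ke xe27 ye23 ze8) (ke xe27 ye23 ze31) (ke xe27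 ye23 ze30) (ke xe9 ye33 ze9) (ke xe21 ye28 ze20) (ke xe24 ye19 ze48) (ke xe20 ye13 ze7) (ke xe15 ye37 ze48) (ke xe9 ye33 ze11) (ke xe27 ye23 ze40) (ke xe20 ye37 ze33) (ke xe21 ye28 ze26) (ke xe17 ye13 ze58) (ke xe13 ye50 ze4) (ke xe9 ye33 ze14) (ke xe9 ye41 ze10) (ke xe18 ye52 ze31) (ke xe27 ye23 ze46) (ke xe9 ye33 ze16) (ke xe10 ye41 ze3) (ke xe26 ye20 ze7) (ke xe15 ye28 ze27) (ke xe27 ye23 ze50) (ke xe27 ye23 ze52) (ke xe15 ye49 ze61) (ke xe27 ye23 ze56) (ke xe9 ye33 ze21) (ke xe27 ye23 ze59) (ke xe25 ye15 ze1) (ke xe27 ye24 ze0) (ke xe25 ye14 ze51) (ke xe9 ye33 ze23) (ke xe25 ye7 ze38) (ke xe25 ye51 ze14) (ke xe9 ye33 ze25) (ke xe9 ye43 ze30) (ke xe19 ye38 ze46)) (@D3.rec (fun _ => Pt) (ke xe15 ye9 ze11) (ke xe9 ye33 ze28) (ke xe25 ye43 ze38) (ke xe9 ye33 ze31) (ke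 xe15 ye15 ze57) (ke xe15 ye16 ze42) (ke xe25 ye50 ze56) (ke xe27 ye24 ze10) (ke xe27 ye24 ze12) (ke xe24 ye27 ze1) (ke xe25 ye54 ze3) (ke xe9 ye33 ze34) (ke xe27 ye24 ze22) (ke xe9 ye47 ze21) (ke xe21 ye11 ze9) (ke xe19 ye48 ze34) (ke xe9 ye33 ze35) (ke xe25 ye50 ze7) (ke xe24 ye30 ze45) (ke xe27 ye17 ze43) (ke xe15 ye45 ze11) (ke xe25 ye13 ze38) (ke xe15 ye33 ze34) (ke xe9 ye33 ze40) (ke xe21 ye43 ze5) (ke xe9 ye33 ze44) (ke xe15 ye37 ze46) (ke xe16 ye20 ze6) (ke xe23 ye1 ze52) (ke xe17 ye41 ze11) (ke xe9 ye33 ze45) (ke xe9 ye33 ze46) (ke xe14 ye57 ze14) (ke xe18 ye27 ze30) (ke xe27 ye24 ze45) (ke xe17 ye40 ze42) (ke xe27 ye24 ze48) (ke xe27 ye24 ze49) (ke xe9 ye33 ze48) (ke xe9 ye33 ze49) (ke xe16 ye8 ze29) (ke xe26 ye0 ze25) (ke xe27 ye24 ze55) (ke xe14 ye57 ze35)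 (ke xe27 ye24 ze56) (ke xe27 ye24 ze57) (ke xe9 ye33 ze52) (ke xe9 ye33 ze53) (ke xe14 ye57 ze33) (ke xe27 ye24 ze60) (ke xe9 ye33 ze56) (ke xe27 ye25 ze2) (ke xe9 ye35 ze19) (ke xe9 ye53 ze30) (ke xe16 ye17 ze23) (ke xe27 ye25 ze5) (ke xe27 ye25 ze8) (ke xe9 ye35 ze14) (ke xe9 ye33 ze60) (ke xe14 ye4 ze35) (ke xe23 ye46 ze58) (ke xe25 ye1 ze26)) (@D3.rec (fun _ => Pt) (ke xe27 ye25 ze14) (ke xe9 ye33 ze61) (ke xe26 ye12 ze5) (ke xe17 ye38 ze5) (ke xe27 ye25 ze19) (ke xe9 ye36 ze21) (ke xe9 ye34 ze1) (ke xe27 ye25 ze16) (ke xe17 ye38 ze41) (ke xe17 ye41 ze25) (ke xe21 ye57 ze12) (ke xe19 ye35 ze61) (ke xe27 ye25 ze26) (ke xe9 ye34 ze5) (ke xe17 ye16 ze61) (ke xe27 ye25 ze29) (ke xe9 ye34 ze8) (ke xe27 ye25 ze32) (ke xe16 ye15 ze46) (ke xe12 ye19 ze29) (ke xe17 ye41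 ze13) (ke xe21 ye55 ze3) (ke xe19 ye0 ze45) (ke xe18 ye5 ze31) (ke xe24 ye44 ze30) (ke xe9 ye34 ze15) (ke xe9 ye34 ze16) (ke xe16 ye18 ze54) (ke xe15 ye18 ze60) (ke xe24 ye44 ze28) (ke xe17 ye41 ze50) (ke xe15 ye23 ze22) (ke xe9 ye35 ze1) (ke xe23 ye1 ze54) (ke xe27 ye25 ze43) (ke xe17 ye39 ze18) (ke xe9 ye34 ze21) (ke xe9 ye34 ze22) (ke xe9 ye44 ze55) (ke xe12 ye19 ze7) (ke xe21 ye42 ze2) (ke xe17 ye30 ze28) (ke xe27 ye25 ze48) (ke xe9 ye34 ze24) (ke xe9 ye34 ze25) (ke xe27 ye25 ze50) (ke xe27 ye25 ze53) (ke xe25 ye7 ze50) (ke xe16 ye6 ze55) (ke xe9 ye34 ze27) (ke xe27 ye25 ze55) (ke xe27 ye25 ze56) (ke xe27 ye25 ze57) (ke xe9 ye34 ze28) (ke xe27 ye25 ze61) (ke xe9 ye34 ze29) (ke xe17 ye41 ze2) (ke xe27 ye26 ze5) (ke xe27 ye26 ze7) (ke xe9 ye34 ze30) (ke xe16 ye19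 ze12) (ke xe9 ye52 ze11)) (@D3.rec (fun _ => Pt) (ke xe27 ye26 ze9) (ke xe26 ye6 ze23) (ke xe27 ye26 ze17) (ke xe9 ye34 ze32) (ke xe27 ye26 ze21) (ke xe17 ye37 ze3) (ke xe9 ye34 ze36) (ke xe27 ye24 ze51) (ke xe16 ye15 ze21) (ke xe21 ye41 ze57) (ke xe9 ye34 ze35) (ke xe15 ye14 ze2) (ke xe23 ye32 ze44) (ke xe15 ye9 ze54) (ke xe23 ye17 ze59) (ke xe16 ye19 ze17) (ke xe17 ye44 ze24) (ke xe15 ye11 ze32) (ke xe15 ye11 ze41) (ke xe24 ye46 ze40) (ke xe22 ye34 ze38) (ke xe9 ye34 ze43) (ke xe14 ye2 ze33) (ke xe17 ye39 ze27) (ke xe14 ye46 ze24) (ke xe9 ye34 ze47) (ke xe22 ye45 ze9) (ke xe9 ye34 ze49) (ke xe27 ye26 ze34) (ke xe27 ye26 ze37) (ke xe22 ye11 ze32) (ke xe9 ye34 ze51) (ke xe17 ye41 ze17) (ke xe27 ye26 ze41) (ke xe21 ye49 ze8) (ke xe17 ye40 ze31) (ke xe9 ye34 ze55) (ke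 xe12 ye17 ze25) (ke xe27 ye26 ze43) (ke xe9 ye34 ze57) (ke xe27 ye26 ze46) (ke xe17 ye37 ze8) (ke xe27 ye25 ze21) (ke xe9 ye34 ze58) (ke xe27 ye26 ze50) (ke xe14 ye58 ze15) (ke xe26 ye12 ze22) (ke xe23 ye1 ze51) (ke xe27 ye26 ze53) (ke xe27 ye24 ze43) (ke xe27 ye26 ze54) (ke xe9 ye44 ze48) (ke xe19 ye59 ze40) (ke xe27 ye26 ze56) (ke xe27 ye25 ze41) (ke xe27 ye26 ze24) (ke xe26 ye47 ze17) (ke xe9 ye35 ze4) (ke xe27 ye26 ze60) (ke xe26 ye48 ze16) (ke xe18 ye6 ze55) (ke xe9 ye35 ze6)) (@D3.rec (fun _ => Pt) (ke xe27 ye26 ze18) (ke xe18 ye7 ze38) (ke xe15 ye52 ze45) (ke xe9 ye35 ze8) (ke xe16 ye17 ze9) (ke xe16 ye17 ze10) (ke xe25 ye32 ze44) (ke xe9 ye35 ze10) (ke xe27 ye27 ze2) (ke xe9 ye36 ze3) (ke xe26 ye3 ze41) (ke xe9 ye35 ze11) (ke xe27 ye27 ze5) (ke xe15 ye34 ze44)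 (ke xe25 ye58 ze56) (ke xe27 ye27 ze9) (ke xe9 ye35 ze13) (ke xe27 ye25 ze4) (ke xe17 ye37 ze35) (ke xe27 ye27 ze15) (ke xe9 ye35 ze18) (ke xe25 ye0 ze27) (ke xe27 ye27 ze19) (ke xe24 ye18 ze31) (ke xe26 ye10 ze48) (ke xe9 ye35 ze17) (ke xe27 ye27 ze22) (ke xe17 ye38 ze23) (ke xe18 ye6 ze10) (ke xe17 ye43 ze36) (ke xe16 ye17 ze45) (ke xe18 ye28 ze31) (ke xe14 ye57 ze36) (ke xe9 ye35 ze22) (ke xe15 ye6 ze40) (ke xe19 ye15 ze59) (ke xe16 ye17 ze35) (ke xe23 ye22 ze37) (ke xe9 ye35 ze25) (ke xe18 ye22 ze51) (ke xe9 ye35 ze28) (ke xe15 ye11 ze2) (ke xe9 ye39 ze21) (ke xe9 ye53 ze0) (ke xe16 ye17 ze26) (ke xe16 ye17 ze27) (ke xe22 ye8 ze19) (ke xe9 ye35 ze33) (ke xe27 ye27 ze29) (ke xe24 ye59 ze7) (ke xe27 ye27 ze30) (ke xe9 ye35 ze35) (ke xe27 ye27 ze31) (ke xe27 ye27 ze33)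 (ke xe9 ye35 ze40) (ke xe27 ye24 ze61) (ke xe9 ye35 ze38) (ke xe16 ye16 ze28) (ke xe17 ye43 ze23) (ke xe9 ye51 ze54) (ke xe24 ye7 ze31) (ke xe27 ye27 ze36)) (@D3.rec (fun _ => Pt) (ke xe9 ye35 ze46) (ke xe17 ye43 ze41) (ke xe17 ye43 ze42) (ke xe27 ye27 ze40) (ke xe21 ye23 ze1) (ke xe27 ye27 ze43) (ke xe27 ye27 ze3) (ke xe27 ye27 ze47) (ke xe9 ye35 ze49) (ke xe27 ye27 ze48) (ke xe21 ye31 ze17) (ke xe16 ye18 ze41) (ke xe9 ye35 ze51) (ke xe26 ye18 ze6) (ke xe15 ye42 ze36) (ke xe18 ye35 ze7) (ke xe17 ye43 ze59) (ke xe27 ye27 ze52) (ke xe27 ye27 ze54) (ke xe27 ye27 ze56) (ke xe9 ye35 ze56) (ke xe17 ye40 ze40) (ke xe9 ye35 ze57) (ke xe24 ye55 ze60) (ke xe9 ye35 ze58) (ke xe22 ye8 ze7) (ke xe26 ye13 ze60) (ke xe17 ye44 ze25) (ke xe25 ye9 ze55) (ke xe27 ye28 ze3) (ke xe9 ye35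 ze61) (ke xe17 ye38 ze35) (ke xe26 ye19 ze42) (ke xe9 ye36 ze1) (ke xe17 ye44 ze12) (ke xe27 ye28 ze6) (ke xe25 ye45 ze24) (ke xe9 ye36 ze2) (ke xe13 ye52 ze34) (ke xe27 ye28 ze11) (ke xe17 ye40 ze21) (ke xe27 ye27 ze46) (ke xe17 ye36 ze35) (ke xe21 ye37 ze11) (ke xe27 ye28 ze17) (ke xe27 ye26 ze40) (ke xe9 ye36 ze7) (ke xe23 ye43 ze59) (ke xe9 ye36 ze17) (ke xe25 ye43 ze3) (ke xe9 ye36 ze8) (ke xe25 ye28 ze60) (ke xe27 ye28 ze23) (ke xe9 ye36 ze9) (ke xe26 ye11 ze22) (ke xe25 ye58 ze53) (ke xe9 ye36 ze10) (ke xe27 ye28 ze26) (ke xe27 ye28 ze29) (ke xe27 ye24 ze39) (ke xe17 ye45 ze20) (ke xe9 ye36 ze11)) (@D3.rec (fun _ => Pt) (ke xe17 ye41 ze26) (ke xe27 ye28 ze33) (ke xe17 ye37 ze56) (ke xe27 ye28 ze34) (ke xe9 ye36 ze13) (ke xe12 ye19 ze60) (ke xe13 ye52 ze22) (ke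 xe24 ye55 ze24) (ke xe27 ye28 ze38) (ke xe27 ye28 ze40) (ke xe9 ye36 ze15) (ke xe17 ye36 ze29) (ke xe27 ye28 ze46) (ke xe17 ye37 ze20) (ke xe26 ye11 ze31) (ke xe27 ye24 ze40) (ke xe26 ye12 ze12) (ke xe17 ye38 ze32) (ke xe27 ye28 ze50) (ke xe27 ye24 ze42) (ke xe18 ye27 ze36) (ke xe9 ye36 ze19) (ke xe27 ye26 ze4) (ke xe18 ye27 ze38) (ke xe9 ye52 ze42) (ke xe17 ye37 ze9) (ke xe17 ye41 ze0) (ke xe27 ye28 ze60) (ke xe27 ye29 ze2) (ke xe24 ye59 ze8) (ke xe25 ye15 ze47) (ke xe9 ye36 ze22) (ke xe9 ye36 ze23) (ke xe27 ye29 ze7) (ke xe25 ye0 ze30) (ke xe9 ye36 ze25) (ke xe14 ye3 ze49) (ke xe26 ye15 ze7) (ke xe26 ye19 ze45) (ke xe10 ye50 ze27) (ke xe9 ye36 ze26) (ke xe27 ye29 ze11) (ke xe23 ye51 ze21) (ke xe9 ye36 ze27) (ke xe11 ye9 ze33) (ke xe16 ye7 ze23) (ke xe9 ye36 ze30)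 (ke xe23 ye22 ze12) (ke xe27 ye29 ze13) (ke xe9 ye36 ze31) (ke xe17 ye37 ze30) (ke xe25 ye42 ze34) (ke xe9 ye37 ze9) (ke xe18 ye34 ze6) (ke xe26 ye6 ze12) (ke xe24 ye20 ze40) (ke xe12 ye35 ze33) (ke xe9 ye36 ze39) (ke xe27 ye29 ze18) (ke xe12 ye12 ze13) (ke xe17 ye9 ze40) (ke xe27 ye29 ze20)) (@D3.rec (fun _ => Pt) (ke xe9 ye36 ze45) (ke xe12 ye26 ze25) (ke xe27 ye3 ze41) (ke xe17 ye52 ze3) (ke xe14 ye55 ze53) (ke xe9 ye36 ze44) (ke xe27 ye29 ze28) (ke xe27 ye29 ze22) (ke xe18 ye34 ze36) (ke xe16 ye0 ze14) (ke xe25 ye33 ze58) (ke xe9 ye42 ze6) (ke xe18 ye34 ze40) (ke xe10 ye24 ze29) (ke xe9 ye36 ze50) (ke xe25 ye17 ze24) (ke xe9 ye36 ze51) (ke xe15 ye3 ze13) (ke xe18 ye35 ze8) (ke xe18 ye35 ze10) (ke xe17 ye45 ze12) (ke xe10 ye6 ze14) (ke xe17 ye52 ze12) (ke xe9 ye36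 ze57) (ke xe18 ye32 ze28) (ke xe27 ye29 ze37) (ke xe27 ye29 ze38) (ke xe18 ye37 ze46) (ke xe9 ye36 ze61) (ke xe27 ye3 ze54) (ke xe12 ye56 ze2) (ke xe27 ye29 ze41) (ke xe9 ye37 ze2) (ke xe12 ye18 ze18) (ke xe21 ye35 ze21) (ke xe18 ye33 ze13) (ke xe9 ye37 ze5) (ke xe24 ye43 ze24) (ke xe27 ye29 ze50) (ke xe9 ye37 ze6) (ke xe17 ye29 ze37) (ke xe27 ye29 ze51) (ke xe27 ye28 ze16) (ke xe18 ye7 ze20) (ke xe24 ye55 ze28) (ke xe9 ye37 ze12) (ke xe16 ye18 ze3) (ke xe27 ye29 ze54) (ke xe26 ye11 ze35) (ke xe9 ye37 ze14) (ke xe27 ye29 ze56) (ke xe25 ye35 ze54) (ke xe9 ye37 ze15) (ke xe22 ye15 ze14) (ke xe27 ye25 ze30) (ke xe27 ye17 ze5) (ke xe27 ye29 ze57) (ke xe27 ye29 ze59) (ke xe26 ye11 ze36) (ke xe9 ye37 ze20) (ke xe9 ye37 ze21) (ke xe27 ye30 ze1)) (@D3.rec (fun _ => Pt) (ke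 xe12 ye24 ze56) (ke xe21 ye25 ze60) (ke xe24 ye56 ze28) (ke xe12 ye30 ze35) (ke xe12 ye19 ze56) (ke xe17 ye27 ze21) (ke xe27 ye30 ze7) (ke xe9 ye37 ze32) (ke xe27 ye30 ze10) (ke xe27 ye30 ze12) (ke xe9 ye37 ze33) (ke xe9 ye37 ze34) (ke xe15 ye39 ze45) (ke xe24 ye58 ze24) (ke xe10 ye51 ze41) (ke xe26 ye17 ze54) (ke xe17 ye56 ze60) (ke xe19 ye26 ze5) (ke xe9 ye37 ze38) (ke xe18 ye5 ze50) (ke xe20 ye2 ze28) (ke xe11 ye2 ze32) (ke xe9 ye37 ze43) (ke xe17 ye39 ze58) (ke xe18 ye6 ze19) (ke xe18 ye8 ze20) (ke xe9 ye37 ze48) (ke xe9 ye44 ze31) (ke xe10 ye15 ze49) (ke xe18 ye8 ze10) (ke xe15 ye45 ze1) (ke xe24 ye54 ze44) (ke xe9 ye37 ze53) (ke xe27 ye30 ze25) (ke xe9 ye37 ze55) (ke xe15 ye13 ze57) (ke xe17 ye39 ze29) (ke xe14 ye9 ze34) (ke xe21 ye45 ze48) (ke xe20 ye46 ze52)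 (ke xe9 ye37 ze61) (ke xe17 ye40 ze1) (ke xe17 ye40 ze2) (ke xe24 ye55 ze46) (ke xe12 ye50 ze47) (ke xe27 ye30 ze31) (ke xe9 ye38 ze1) (ke xe16 ye13 ze44) (ke xe27 ye30 ze33) (ke xe9 ye38 ze3) (ke xe27 ye30 ze37) (ke xe27 ye30 ze39) (ke xe27 ye30 ze35) (ke xe12 ye26 ze53) (ke xe9 ye38 ze6) (ke xe16 ye16 ze56) (ke xe23 ye35 ze51) (ke xe18 ye7 ze2) (ke xe27 ye30 ze44) (ke xe17 ye40 ze16) (ke xe27 ye30 ze47) (ke xe27 ye30 ze48)) (@D3.rec (fun _ => Pt) (ke xe18 ye8 ze42) (ke xe9 ye38 ze9) (ke xe15 ye12 ze33) (ke xe9 ye38 ze10) (ke xe24 ye58 ze61) (ke xe27 ye30 ze52) (ke xe27 ye30 ze53) (ke xe23 ye2 ze12) (ke xe16 ye16 ze16) (ke xe9 ye38 ze14) (ke xe16 ye16 ze20) (ke xe27 ye30 ze57) (ke xe17 ye40 ze34) (ke xe21 ye58 ze32) (ke xe9 ye38 ze16) (ke xe26 ye12 ze48) (ke xe27 ye31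 ze1) (ke xe9 ye38 ze17) (ke xe27 ye31 ze3) (ke xe21 ye24 ze61) (ke xe18 ye26 ze42) (ke xe27 ye27 ze1) (ke xe9 ye38 ze20) (ke xe9 ye38 ze21) (ke xe17 ye38 ze16) (ke xe17 ye40 ze27) (ke xe9 ye38 ze22) (ke xe27 ye31 ze9) (ke xe27 ye31 ze11) (ke xe9 ye38 ze23) (ke xe22 ye15 ze10) (ke xe27 ye31 ze13) (ke xe9 ye38 ze24) (ke xe24 ye56 ze29) (ke xe27 ye31 ze14) (ke xe27 ye31 ze16) (ke xe9 ye38 ze26) (ke xe16 ye15 ze52) (ke xe22 ye18 ze19) (ke xe9 ye38 ze28) (ke xe14 ye57 ze21) (ke xe16 ye15 ze17) (ke xe27 ye31 ze25) (ke xe9 ye38 ze30) (ke xe27 ye25 ze59) (ke xe27 ye25 ze38) (ke xe9 ye38 ze31) (ke xe27 ye5 ze51) (ke xe27 ye31 ze29) (ke xe9 ye38 ze33) (ke xe9 ye38 ze34) (ke xe27 ye31 ze31) (ke xe23 ye36 ze60) (ke xe24 ye56 ze30) (ke xe15 ye36 ze50) (ke xe9 ye38 ze36) (ke xe15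 ye49 ze0) (ke xe15 ye23 ze18) (ke xe9 ye38 ze39) (ke xe15 ye23 ze19) (ke xe17 ye46 ze10) (ke xe9 ye43 ze5)) (@D3.rec (fun _ => Pt) (ke xe20 ye42 ze24) (ke xe11 ye56 ze37) (ke xe18 ye13 ze34) (ke xe15 ye38 ze37) (ke xe21 ye19 ze43) (ke xe18 ye13 ze38) (ke xe9 ye38 ze52) (ke xe9 ye38 ze53) (ke xe9 ye43 ze27) (ke xe21 ye33 ze38) (ke xe18 ye14 ze12) (ke xe18 ye14 ze14) (ke xe17 ye42 ze20) (ke xe18 ye24 ze39) (ke xe9 ye38 ze61) (ke xe24 ye42 ze57) (ke xe9 ye39 ze0) (ke xe27 ye31 ze40) (ke xe27 ye31 ze41) (ke xe9 ye39 ze6) (ke xe17 ye40 ze60) (ke xe27 ye31 ze43) (ke xe9 ye39 ze8) (ke xe22 ye15 ze34) (ke xe27 ye31 ze48) (ke xe27 ye31 ze49) (ke xe9 ye39 ze9) (ke xe27 ye31 ze51) (ke xe21 ye36 ze59) (ke xe27 ye31 ze53) (ke xe27 ye31 ze55) (ke xe9 ye39 ze13) (ke xe27 ye31 ze58)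 (ke xe9 ye39 ze18) (ke xe15 ye24 ze38) (ke xe17 ye46 ze55) (ke xe26 ye20 ze8) (ke xe9 ye53 ze44) (ke xe15 ye11 ze23) (ke xe25 ye23 ze55) (ke xe22 ye49 ze34) (ke xe17 ye54 ze34) (ke xe9 ye39 ze27) (ke xe27 ye32 ze0) (ke xe9 ye39 ze29) (ke xe27 ye32 ze1) (ke xe17 ye46 ze54) (ke xe17 ye46 ze56) (ke xe27 ye32 ze3) (ke xe18 ye56 ze29) (ke xe9 ye39 ze33) (ke xe27 ye32 ze5) (ke xe27 ye32 ze7) (ke xe27 ye32 ze9) (ke xe18 ye13 ze33) (ke xe9 ye39 ze35) (ke xe9 ye39 ze36) (ke xe18 ye20 ze10) (ke xe27 ye32 ze16) (ke xe18 ye13 ze20) (ke xe17 ye47 ze7) (ke xe27 ye32 ze20)) (@D3.rec (fun _ => Pt) (ke xe18 ye33 ze58) (ke xe27 ye32 ze23) (ke xe27 ye32 ze26) (ke xe9 ye39 ze39) (ke xe9 ye39 ze40) (ke xe9 ye58 ze29) (ke xe27 ye32 ze37) (ke xe27 ye32 ze32) (ke xe17 ye47 ze18) (ke xe9 ye58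 ze36) (ke xe17 ye44 ze60) (ke xe27 ye32 ze45) (ke xe9 ye39 ze43) (ke xe27 ye32 ze48) (ke xe24 ye47 ze57) (ke xe27 ye32 ze52) (ke xe27 ye32 ze56) (ke xe9 ye39 ze45) (ke xe9 ye39 ze46) (ke xe27 ye32 ze60) (ke xe17 ye47 ze36) (ke xe18 ye34 ze51) (ke xe27 ye33 ze1) (ke xe27 ye33 ze2) (ke xe9 ye39 ze48) (ke xe20 ye21 ze26) (ke xe17 ye47 ze28) (ke xe27 ye33 ze8) (ke xe22 ye51 ze48) (ke xe22 ye29 ze21) (ke xe9 ye39 ze51) (ke xe27 ye33 ze12) (ke xe27 ye33 ze14) (ke xe21 ye12 ze56) (ke xe27 ye33 ze15) (ke xe9 ye39 ze52) (ke xe18 ye6 ze22) (ke xe9 ye39 ze54) (ke xe9 ye39 ze55) (ke xe27 ye33 ze22) (ke xe9 ye39 ze56) (ke xe9 ye39 ze57) (ke xe18 ye6 ze23) (ke xe9 ye39 ze58) (ke xe24 ye54 ze5) (ke xe9 ye39 ze60) (ke xe26 ye44 ze41) (ke xe26 ye37 ze45) (ke xe27 ye33 ze28) (ke xe27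 ye33 ze38) (ke xe10 ye9 ze51) (ke xe9 ye40 ze0) (ke xe27 ye33 ze40) (ke xe9 ye40 ze1) (ke xe17 ye45 ze46) (ke xe17 ye45 ze35) (ke xe17 ye45 ze47) (ke xe20 ye21 ze33) (ke xe27 ye33 ze44) (ke xe16 ye23 ze38) (ke xe17 ye50 ze36) (ke xe27 ye33 ze47)) (@D3.rec (fun _ => Pt) (ke xe27 ye33 ze49) (ke xe27 ye33 ze51) (ke xe27 ye33 ze53) (ke xe9 ye40 ze7) (ke xe9 ye40 ze8) (ke xe18 ye11 ze61) (ke xe27 ye33 ze57) (ke xe17 ye45 ze60) (ke xe18 ye11 ze44) (ke xe18 ye14 ze18) (ke xe27 ye34 ze5) (ke xe27 ye29 ze47) (ke xe27 ye34 ze8) (ke xe9 ye40 ze12) (ke xe9 ye40 ze13) (ke xe27 ye34 ze15) (ke xe10 ye11 ze46) (ke xe27 ye34 ze12) (ke xe17 ye46 ze8) (ke xe27 ye34 ze20) (ke xe9 ye40 ze15) (ke xe10 ye11 ze51) (ke xe27 ye34 ze23) (ke xe25 ye3 ze34) (ke xe27 ye34 ze24) (ke xe9 ye40 ze18)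 (ke xe9 ye40 ze19) (ke xe22 ye13 ze4) (ke xe17 ye46 ze26) (ke xe18 ye47 ze5) (ke xe27 ye34 ze35) (ke xe22 ye15 ze31) (ke xe20 ye21 ze24) (ke xe9 ye40 ze21) (ke xe9 ye40 ze22) (ke xe27 ye34 ze42) (ke xe17 ye46 ze20) (ke xe27 ye34 ze45) (ke xe27 ye34 ze46) (ke xe27 ye34 ze48) (ke xe27 ye34 ze49) (ke xe27 ye34 ze50) (ke xe9 ye40 ze24) (ke xe27 ye34 ze54) (ke xe27 ye34 ze55) (ke xe10 ye42 ze23) (ke xe26 ye39 ze43) (ke xe9 ye40 ze25) (ke xe27 ye34 ze60) (ke xe9 ye40 ze28) (ke xe9 ye40 ze29) (ke xe27 ye35 ze3) (ke xe9 ye40 ze30) (ke xe9 ye40 ze31) (ke xe27 ye35 ze7) (ke xe27 ye35 ze9) (ke xe27 ye35 ze10) (ke xe9 ye40 ze33) (ke xe19 ye17 ze18) (ke xe19 ye42 ze19) (ke xe27 ye35 ze11) (ke xe27 ye35 ze21)) (@D3.rec (fun _ => Pt) (ke xe9 ye54 ze54) (ke xe9 ye40 ze35) (ke xe20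 ye14 ze44) (ke xe25 ye17 ze16) (ke xe13 ye45 ze51) (ke xe27 ye35 ze25) (ke xe9 ye40 ze37) (ke xe27 ye35 ze26) (ke xe27 ye35 ze29) (ke xe26 ye35 ze56) (ke xe16 ye42 ze22) (ke xe21 ye7 ze45) (ke xe9 ye40 ze39) (ke xe9 ye40 ze40) (ke xe20 ye16 ze27) (ke xe25 ye16 ze37) (ke xe18 ye32 ze42) (ke xe9 ye40 ze42) (ke xe9 ye40 ze43) (ke xe9 ye42 ze39) (ke xe9 ye40 ze45) (ke xe9 ye40 ze47) (ke xe24 ye53 ze35) (ke xe18 ye43 ze45) (ke xe9 ye42 ze17) (ke xe11 ye48 ze52) (ke xe22 ye5 ze47) (ke xe27 ye35 ze39) (ke xe21 ye32 ze30) (ke xe18 ye10 ze23) (ke xe9 ye40 ze51) (ke xe9 ye42 ze55) (ke xe17 ye13 ze60) (ke xe27 ye35 ze44) (ke xe26 ye45 ze43) (ke xe9 ye40 ze54) (ke xe18 ye57 ze40) (ke xe21 ye32 ze27) (ke xe27 ye35 ze49) (ke xe9 ye40 ze55) (ke xe10 ye12 ze8) (ke xe10 ye23 ze14) (ke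 xe27 ye35 ze52) (ke xe9 ye40 ze57) (ke xe9 ye40 ze58) (ke xe18 ye57 ze57) (ke xe15 ye27 ze51) (ke xe25 ye28 ze61) (ke xe16 ye42 ze1) (ke xe27 ye35 ze55) (ke xe27 ye35 ze56) (ke xe9 ye41 ze1) (ke xe26 ye34 ze8) (ke xe9 ye41 ze4) (ke xe25 ye15 ze20) (ke xe18 ye52 ze30) (ke xe27 ye35 ze60) (ke xe27 ye36 ze0) (ke xe27 ye36 ze1) (ke xe9 ye41 ze8) (ke xe10 ye42 ze7) (ke xe27 ye36 ze4)) (@D3.rec (fun _ => Pt) (ke xe16 ye11 ze6) (ke xe27 ye0 ze58) (ke xe10 ye35 ze35) (ke xe27 ye36 ze7) (ke xe27 ye36 ze9) (ke xe9 ye41 ze13) (ke xe9 ye41 ze14) (ke xe21 ye23 ze46) (ke xe25 ye16 ze57) (ke xe21 ye54 ze35) (ke xe18 ye39 ze49) (ke xe15 ye36 ze33) (ke xe24 ye19 ze7) (ke xe14 ye47 ze45) (ke xe27 ye36 ze17) (ke xe27 ye36 ze20) (ke xe9 ye41 ze19) (ke xe9 ye41 ze20) (ke xe27 ye36 ze25)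 (ke xe19 ye10 ze59) (ke xe11 ye31 ze43) (ke xe19 ye40 ze32) (ke xe27 ye36 ze28) (ke xe25 ye8 ze13) (ke xe13 ye31 ze5) (ke xe9 ye41 ze25) (ke xe27 ye36 ze35) (ke xe27 ye36 ze36) (ke xe18 ye12 ze1) (ke xe9 ye41 ze26) (ke xe27 ye36 ze16) (ke xe9 ye41 ze27) (ke xe18 ye36 ze32) (ke xe27 ye36 ze43) (ke xe27 ye36 ze47) (ke xe9 ye41 ze28) (ke xe17 ye6 ze2) (ke xe26 ye37 ze24) (ke xe19 ye10 ze55) (ke xe16 ye42 ze18) (ke xe18 ye37 ze24) (ke xe9 ye41 ze30) (ke xe22 ye36 ze15) (ke xe18 ye36 ze11) (ke xe9 ye41 ze34) (ke xe24 ye19 ze11) (ke xe25 ye17 ze10) (ke xe21 ye50 ze50) (ke xe17 ye29 ze43) (ke xe24 ye51 ze55) (ke xe9 ye41 ze33) (ke xe27 ye36 ze56) (ke xe21 ye59 ze44) (ke xe24 ye49 ze16) (ke xe24 ye19 ze5) (ke xe27 ye36 ze60) (ke xe9 ye41 ze37) (ke xe27 ye37 ze0) (ke xe15 ye1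 ze36) (ke xe9 ye41 ze40) (ke xe27 ye37 ze7) (ke xe15 ye28 ze41)) (@D3.rec (fun _ => Pt) (ke xe10 ye40 ze54) (ke xe27 ye37 ze10) (ke xe27 ye37 ze3) (ke xe9 ye41 ze41) (ke xe21 ye47 ze32) (ke xe20 ye16 ze56) (ke xe14 ye32 ze30) (ke xe14 ye22 ze33) (ke xe9 ye41 ze47) (ke xe27 ye37 ze17) (ke xe27 ye37 ze18) (ke xe27 ye37 ze19) (ke xe9 ye41 ze49) (ke xe10 ye42 ze13) (ke xe18 ye1 ze22) (ke xe27 ye37 ze26) (ke xe10 ye10 ze32) (ke xe9 ye41 ze53) (ke xe10 ye0 ze21) (ke xe9 ye41 ze55) (ke xe18 ye35 ze12) (ke xe9 ye58 ze53) (ke xe27 ye37 ze30) (ke xe18 ye38 ze6) (ke xe9 ye59 ze18) (ke xe18 ye36 ze22) (ke xe27 ye35 ze27) (ke xe27 ye37 ze31) (ke xe11 ye38 ze20) (ke xe9 ye41 ze59) (ke xe18 ye17 ze42) (ke xe27 ye37 ze33) (ke xe21 ye7 ze18) (ke xe12 ye57 ze61) (ke xe26 ye53 ze6) (ke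 xe27 ye11 ze17) (ke xe17 ye46 ze60) (ke xe9 ye42 ze3) (ke xe27 ye37 ze36) (ke xe27 ye37 ze39) (ke xe27 ye29 ze15) (ke xe21 ye59 ze30) (ke xe22 ye4 ze16) (ke xe9 ye42 ze8) (ke xe25 ye17 ze26) (ke xe12 ye54 ze36) (ke xe25 ye16 ze38) (ke xe10 ye3 ze35) (ke xe22 ye52 ze8) (ke xe25 ye33 ze59) (ke xe18 ye33 ze2) (ke xe9 ye42 ze12) (ke xe18 ye41 ze51) (ke xe9 ye42 ze13) (ke xe27 ye37 ze49) (ke xe27 ye37 ze50) (ke xe18 ye39 ze15) (ke xe24 ye33 ze49) (ke xe27 ye37 ze54) (ke xe12 ye35 ze57) (ke xe17 ye8 ze57) (ke xe17 ye29 ze29)) (@D3.rec (fun _ => Pt) (ke xe9 ye58 ze16) (ke xe24 ye50 ze47) (ke xe9 ye42 ze20) (ke xe10 ye0 ze37) (ke xe19 ye6 ze23) (ke xe10 ye10 ze52) (ke xe27 ye38 ze0) (ke xe15 ye56 ze27) (ke xe27 ye38 ze1) (ke xe23 ye12 ze11) (ke xe13 ye36 ze30) (ke xe9 ye42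 ze24) (ke xe9 ye42 ze25) (ke xe15 ye40 ze32) (ke xe9 ye42 ze27) (ke xe12 ye55 ze45) (ke xe24 ye34 ze33) (ke xe9 ye55 ze41) (ke xe9 ye42 ze32) (ke xe27 ye20 ze17) (ke xe24 ye39 ze11) (ke xe20 ye14 ze37) (ke xe26 ye10 ze38) (ke xe21 ye28 ze53) (ke xe13 ye53 ze45) (ke xe9 ye42 ze36) (ke xe25 ye17 ze38) (ke xe17 ye9 ze31) (ke xe21 ye7 ze34) (ke xe27 ye38 ze6) (ke xe10 ye23 ze9) (ke xe18 ye50 ze42) (ke xe25 ye17 ze40) (ke xe12 ye38 ze32) (ke xe27 ye38 ze11) (ke xe9 ye42 ze43) (ke xe15 ye41 ze59) (ke xe27 ye38 ze14) (ke xe15 ye27 ze26) (ke xe27 ye38 ze20) (ke xe11 ye5 ze19) (ke xe27 ye38 ze22) (ke xe27 ye38 ze23) (ke xe9 ye42 ze46) (ke xe22 ye5 ze50) (ke xe22 ye55 ze22) (ke xe18 ye56 ze48) (ke xe24 ye22 ze37) (ke xe27 ye38 ze26) (ke xe9 ye42 ze48) (ke xe16 ye11 ze21) (ke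 xe25 ye2 ze54) (ke xe9 ye42 ze49) (ke xe10 ye10 ze36) (ke xe27 ye38 ze31) (ke xe14 ye39 ze6) (ke xe9 ye42 ze50) (ke xe12 ye41 ze38) (ke xe24 ye21 ze57) (ke xe27 ye38 ze36) (ke xe9 ye42 ze54) (ke xe10 ye2 ze22)) (@D3.rec (fun _ => Pt) (ke xe27 ye38 ze37) (ke xe21 ye17 ze54) (ke xe25 ye17 ze46) (ke xe17 ye42 ze3) (ke xe9 ye42 ze57) (ke xe12 ye1 ze23) (ke xe10 ye11 ze15) (ke xe12 ye34 ze42) (ke xe27 ye38 ze41) (ke xe10 ye23 ze7) (ke xe12 ye12 ze59) (ke xe17 ye33 ze50) (ke xe17 ye42 ze22) (ke xe9 ye43 ze3) (ke xe26 ye10 ze44) (ke xe11 ye51 ze42) (ke xe17 ye52 ze54) (ke xe10 ye14 ze40) (ke xe26 ye16 ze12) (ke xe25 ye35 ze7) (ke xe9 ye43 ze11) (ke xe9 ye43 ze13) (ke xe19 ye42 ze3) (ke xe10 ye22 ze1) (ke xe17 ye21 ze57) (ke xe10 ye32 ze25) (ke xe10 ye32 ze22) (ke xe18 ye57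 ze14) (ke xe10 ye22 ze51) (ke xe9 ye50 ze4) (ke xe9 ye43 ze20) (ke xe23 ye46 ze53) (ke xe9 ye43 ze21) (ke xe18 ye12 ze28) (ke xe9 ye43 ze22) (ke xe25 ye44 ze52) (ke xe21 ye43 ze58) (ke xe9 ye43 ze23) (ke xe11 ye57 ze10) (ke xe18 ye12 ze29) (ke xe10 ye50 ze40) (ke xe24 ye15 ze56) (ke xe27 ye38 ze55) (ke xe11 ye19 ze29) (ke xe19 ye5 ze13) (ke xe24 ye1 ze39) (ke xe10 ye56 ze9) (ke xe27 ye38 ze57) (ke xe24 ye32 ze61) (ke xe9 ye43 ze32) (ke xe10 ye7 ze33) (ke xe21 ye33 ze44) (ke xe26 ye54 ze38) (ke xe24 ye52 ze34) (ke xe17 ye52 ze16) (ke xe10 ye0 ze39) (ke xe18 ye11 ze11) (ke xe9 ye43 ze40) (ke xe14 ye43 ze36) (ke xe25 ye58 ze20) (ke xe24 ye20 ze3) (ke xe9 ye43 ze46)) (@D3.rec (fun _ => Pt) (ke xe26 ye48 ze10) (ke xe14 ye7 ze21) (ke xe27 ye39 ze8) (ke xe9 ye43 ze51) (ke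 xe24 ye52 ze24) (ke xe27 ye39 ze11) (ke xe14 ye7 ze56) (ke xe9 ye43 ze49) (ke xe26 ye6 ze34) (ke xe17 ye15 ze16) (ke xe9 ye43 ze53) (ke xe27 ye39 ze15) (ke xe16 ye25 ze46) (ke xe9 ye43 ze54) (ke xe26 ye6 ze40) (ke xe12 ye22 ze32) (ke xe26 ye21 ze55) (ke xe19 ye43 ze55) (ke xe9 ye43 ze60) (ke xe19 ye43 ze8) (ke xe21 ye9 ze11) (ke xe9 ye44 ze3) (ke xe12 ye5 ze28) (ke xe21 ye31 ze43) (ke xe11 ye12 ze40) (ke xe17 ye58 ze31) (ke xe12 ye18 ze4) (ke xe22 ye6 ze11) (ke xe21 ye54 ze25) (ke xe9 ye44 ze6) (ke xe15 ye8 ze15) (ke xe9 ye44 ze14) (ke xe27 ye39 ze20) (ke xe14 ye0 ze50) (ke xe9 ye44 ze15) (ke xe12 ye31 ze51) (ke xe15 ye8 ze5) (ke xe19 ye24 ze60) (ke xe14 ye50 ze7) (ke xe9 ye44 ze18) (ke xe11 ye22 ze54) (ke xe18 ye2 ze17) (ke xe16 ye56 ze61) (ke xe16 ye55 ze23) (ke xe9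 ye44 ze23) (ke xe16 ye57 ze11) (ke xe14 ye8 ze10) (ke xe16 ye23 ze33) (ke xe18 ye21 ze4) (ke xe18 ye5 ze37) (ke xe16 ye4 ze21) (ke xe16 ye9 ze43) (ke xe24 ye28 ze48) (ke xe26 ye20 ze35) (ke xe9 ye44 ze42) (ke xe24 ye30 ze18) (ke xe27 ye39 ze26) (ke xe24 ye36 ze8) (ke xe21 ye42 ze3) (ke xe26 ye42 ze30) (ke xe9 ye44 ze49) (ke xe26 ye14 ze18)) (@D3.rec (fun _ => Pt) (ke xe9 ye44 ze50) (ke xe27 ye39 ze30) (ke xe9 ye44 ze51) (ke xe27 ye39 ze31) (ke xe18 ye17 ze17) (ke xe18 ye49 ze51) (ke xe9 ye44 ze52) (ke xe21 ye58 ze20) (ke xe23 ye22 ze3) (ke xe16 ye19 ze15) (ke xe27 ye39 ze38) (ke xe9 ye44 ze56) (ke xe16 ye18 ze29) (ke xe27 ye25 ze46) (ke xe23 ye37 ze55) (ke xe27 ye39 ze47) (ke xe15 ye9 ze42) (ke xe27 ye39 ze41) (ke xe26 ye20 ze51) (ke xe27 ye39 ze53) (ke xe9 ye44 ze58)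 (ke xe27 ye39 ze59) (ke xe27 ye39 ze60) (ke xe9 ye44 ze59) (ke xe13 ye29 ze32) (ke xe20 ye0 ze50) (ke xe16 ye19 ze39) (ke xe27 ye40 ze6) (ke xe27 ye28 ze32) (ke xe27 ye40 ze8) (ke xe9 ye44 ze61) (ke xe16 ye18 ze36) (ke xe23 ye6 ze12) (ke xe23 ye6 ze15) (ke xe17 ye45 ze41) (ke xe15 ye13 ze45) (ke xe9 ye45 ze2) (ke xe9 ye45 ze4) (ke xe24 ye44 ze54) (ke xe27 ye40 ze18) (ke xe16 ye33 ze2) (ke xe14 ye57 ze38) (ke xe15 ye11 ze6) (ke xe27 ye40 ze23) (ke xe13 ye49 ze10) (ke xe9 ye45 ze7) (ke xe24 ye54 ze23) (ke xe18 ye25 ze60) (ke xe9 ye45 ze12) (ke xe9 ye45 ze51) (ke xe27 ye40 ze25) (ke xe21 ye11 ze38) (ke xe25 ye41 ze18) (ke xe9 ye45 ze14) (ke xe9 ye45 ze15) (ke xe12 ye49 ze9) (ke xe24 ye36 ze25) (ke xe9 ye45 ze18) (ke xe9 ye45 ze19) (ke xe20 ye42 ze50) (ke xe9 ye45 ze20)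 (ke xe20 ye35 ze51)) (@D3.rec (fun _ => Pt) (ke xe16 ye46 ze17) (ke xe12 ye49 ze30) (ke xe24 ye28 ze12) (ke xe14 ye5 ze26) (ke xe9 ye45 ze29) (ke xe9 ye45 ze32) (ke xe27 ye40 ze35) (ke xe9 ye45 ze33) (ke xe9 ye45 ze35) (ke xe26 ye17 ze10) (ke xe27 ye40 ze37) (ke xe9 ye45 ze36) (ke xe19 ye21 ze1) (ke xe18 ye15 ze38) (ke xe14 ye46 ze33) (ke xe20 ye9 ze16) (ke xe13 ye11 ze2) (ke xe14 ye46 ze34) (ke xe14 ye5 ze13) (ke xe27 ye40 ze38) (ke xe27 ye40 ze39) (ke xe27 ye40 ze40) (ke xe9 ye45 ze40) (ke xe9 ye45 ze41) (ke xe15 ye49 ze48) (ke xe18 ye29 ze45) (ke xe13 ye52 ze40) (ke xe9 ye49 ze22) (ke xe12 ye9 ze52) (ke xe14 ye2 ze9) (ke xe11 ye30 ze59) (ke xe22 ye32 ze30) (ke xe9 ye45 ze50) (ke xe22 ye38 ze34) (ke xe27 ye40 ze48) (ke xe9 ye45 ze54) (ke xe10 ye52 ze29) (ke xe9 ye45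 ze55) (ke xe25 ye11 ze42) (ke xe17 ye15 ze19) (ke xe9 ye45 ze58) (ke xe16 ye3 ze52) (ke xe21 ye46 ze42) (ke xe27 ye40 ze49) (ke xe9 ye45 ze61) (ke xe20 ye16 ze4) (ke xe9 ye46 ze0) (ke xe14 ye3 ze59) (ke xe20 ye50 ze50) (ke xe27 ye40 ze52) (ke xe20 ye24 ze8) (ke xe12 ye27 ze18) (ke xe23 ye23 ze42) (ke xe15 ye45 ze14) (ke xe9 ye46 ze7) (ke xe9 ye46 ze5) (ke xe23 ye30 ze55) (ke xe22 ye44 ze23) (ke xe23 ye44 ze27) (ke xe9 ye46 ze8) (ke xe14 ye8 ze36) (ke xe25 ye23 ze30)) (@D3.rec (fun _ => Pt) (ke xe27 ye41 ze1) (ke xe22 ye38 ze7) (ke xe22 ye38 ze44) (ke xe27 ye41 ze3) (ke xe17 ye59 ze51) (ke xe10 ye0 ze17) (ke xe9 ye46 ze12) (ke xe26 ye48 ze47) (ke xe26 ye28 ze40) (ke xe11 ye31 ze8) (ke xe9 ye46 ze13) (ke xe18 ye18 ze42) (ke xe23 ye40 ze25) (ke xe9 ye46 ze14) (ke xe20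 ye22 ze1) (ke xe21 ye37 ze60) (ke xe27 ye41 ze10) (ke xe23 ye24 ze26) (ke xe9 ye46 ze18) (ke xe14 ye2 ze12) (ke xe9 ye46 ze25) (ke xe9 ye46 ze21) (ke xe9 ye46 ze23) (ke xe9 ye46 ze24) (ke xe27 ye41 ze13) (ke xe21 ye37 ze24) (ke xe20 ye24 ze11) (ke xe27 ye41 ze20) (ke xe27 ye41 ze21) (ke xe20 ye12 ze20) (ke xe13 ye9 ze59) (ke xe14 ye1 ze41) (ke xe20 ye24 ze25) (ke xe16 ye57 ze53) (ke xe12 ye25 ze7) (ke xe26 ye48 ze57) (ke xe26 ye48 ze58) (ke xe11 ye29 ze20) (ke xe17 ye59 ze26) (ke xe20 ye23 ze26) (ke xe10 ye5 ze52) (ke xe19 ye42 ze57) (ke xe10 ye44 ze25) (ke xe11 ye56 ze18) (ke xe25 ye23 ze37) (ke xe16 ye35 ze29) (ke xe9 ye46 ze41) (ke xe26 ye25 ze6) (ke xe23 ye3 ze60) (ke xe11 ye7 ze26) (ke xe19 ye25 ze9) (ke xe9 ye57 ze18) (ke xe9 ye46 ze54) (ke xe27 ye23 ze19) (ke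 xe12 ye37 ze24) (ke xe27 ye41 ze33) (ke xe27 ye41 ze36) (ke xe9 ye46 ze55) (ke xe27 ye41 ze39) (ke xe16 ye27 ze9) (ke xe17 ye43 ze16) (ke xe9 ye46 ze56)) (@D3.rec (fun _ => Pt) (ke xe16 ye25 ze51) (ke xe27 ye39 ze14) (ke xe21 ye12 ze4) (ke xe9 ye46 ze58) (ke xe26 ye20 ze34) (ke xe9 ye46 ze59) (ke xe13 ye26 ze40) (ke xe27 ye41 ze46) (ke xe9 ye46 ze61) (ke xe21 ye11 ze46) (ke xe9 ye47 ze0) (ke xe27 ye41 ze48) (ke xe15 ye20 ze22) (ke xe26 ye24 ze45) (ke xe9 ye47 ze2) (ke xe23 ye46 ze42) (ke xe27 ye41 ze50) (ke xe27 ye41 ze52) (ke xe27 ye41 ze56) (ke xe9 ye47 ze4) (ke xe27 ye41 ze61) (ke xe9 ye47 ze5) (ke xe27 ye42 ze0) (ke xe16 ye27 ze10) (ke xe25 ye28 ze23) (ke xe27 ye42 ze1) (ke xe16 ye26 ze44) (ke xe16 ye27 ze3) (ke xe13 ye37 ze38) (ke xe13 ye5 ze56) (ke xe21 ye11 ze43)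 (ke xe26 ye17 ze44) (ke xe9 ye51 ze23) (ke xe16 ye27 ze23) (ke xe27 ye42 ze5) (ke xe9 ye47 ze12) (ke xe25 ye27 ze45) (ke xe13 ye8 ze34) (ke xe16 ye46 ze3) (ke xe24 ye45 ze54) (ke xe25 ye28 ze33) (ke xe27 ye42 ze12) (ke xe16 ye27 ze45) (ke xe9 ye47 ze23) (ke xe17 ye18 ze11) (ke xe20 ye26 ze11) (ke xe11 ye11 ze25) (ke xe20 ye22 ze51) (ke xe9 ye47 ze26) (ke xe9 ye47 ze27) (ke xe9 ye47 ze30) (ke xe9 ye47 ze32) (ke xe9 ye47 ze33) (ke xe9 ye47 ze34) (ke xe9 ye47 ze36) (ke xe25 ye23 ze46) (ke xe20 ye25 ze58) (ke xe9 ye47 ze41) (ke xe21 ye36 ze14) (ke xe16 ye15 ze36) (ke xe20 ye22 ze0) (ke xe18 ye43 ze50)) (@D3.rec (fun _ => Pt) (ke xe21 ye26 ze26) (ke xe9 ye47 ze45) (ke xe16 ye15 ze25) (ke xe20 ye22 ze12) (ke xe11 ye15 ze0) (ke xe18 ye38 ze17) (ke xe9 ye47 ze51) (ke xe9 ye47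 ze52) (ke xe9 ye47 ze53) (ke xe21 ye9 ze37) (ke xe21 ye27 ze0) (ke xe14 ye55 ze55) (ke xe18 ye43 ze46) (ke xe9 ye48 ze7) (ke xe9 ye48 ze1) (ke xe20 ye28 ze4) (ke xe16 ye46 ze2) (ke xe9 ye48 ze3) (ke xe18 ye43 ze56) (ke xe18 ye25 ze59) (ke xe14 ye33 ze14) (ke xe15 ye30 ze45) (ke xe24 ye17 ze33) (ke xe27 ye42 ze23) (ke xe9 ye48 ze11) (ke xe27 ye42 ze24) (ke xe27 ye41 ze7) (ke xe20 ye25 ze56) (ke xe9 ye48 ze13) (ke xe10 ye41 ze23) (ke xe9 ye48 ze15) (ke xe17 ye53 ze25) (ke xe9 ye48 ze16) (ke xe9 ye48 ze19) (ke xe13 ye7 ze24) (ke xe27 ye41 ze15) (ke xe9 ye48 ze22) (ke xe12 ye56 ze36) (ke xe9 ye48 ze25) (ke xe27 ye42 ze27) (ke xe16 ye27 ze26) (ke xe25 ye45 ze42) (ke xe22 ye37 ze2) (ke xe9 ye48 ze30) (ke xe27 ye42 ze28) (ke xe21 ye24 ze53) (ke xe9 ye48 ze31) (ke xe21 ye19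 ze33) (ke xe21 ye51 ze20) (ke xe9 ye48 ze34) (ke xe20 ye50 ze5) (ke xe11 ye54 ze36) (ke xe19 ye39 ze18) (ke xe19 ye24 ze55) (ke xe9 ye48 ze39) (ke xe9 ye48 ze40) (ke xe19 ye38 ze32) (ke xe27 ye42 ze39) (ke xe9 ye48 ze43) (ke xe19 ye39 ze9) (ke xe27 ye16 ze35) (ke xe27 ye42 ze42)) (@D3.rec (fun _ => Pt) (ke xe15 ye33 ze19) (ke xe24 ye40 ze12) (ke xe21 ye3 ze42) (ke xe25 ye43 ze30) (ke xe27 ye6 ze17) (ke xe9 ye48 ze46) (ke xe27 ye42 ze44) (ke xe9 ye48 ze47) (ke xe16 ye43 ze43) (ke xe17 ye33 ze15) (ke xe11 ye24 ze11) (ke xe24 ye7 ze23) (ke xe12 ye14 ze23) (ke xe21 ye9 ze29) (ke xe17 ye9 ze39) (ke xe9 ye48 ze56) (ke xe12 ye39 ze51) (ke xe16 ye9 ze19) (ke xe9 ye58 ze45) (ke xe27 ye42 ze49) (ke xe21 ye40 ze48) (ke xe10 ye15 ze35) (ke xe27 ye12 ze50) (ke xe19 ye3 ze59) (ke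 xe21 ye23 ze9) (ke xe20 ye37 ze36) (ke xe17 ye56 ze38) (ke xe22 ye4 ze32) (ke xe27 ye42 ze53) (ke xe9 ye49 ze4) (ke xe18 ye50 ze41) (ke xe19 ye46 ze32) (ke xe12 ye10 ze31) (ke xe27 ye0 ze44) (ke xe18 ye17 ze12) (ke xe9 ye49 ze7) (ke xe26 ye53 ze15) (ke xe21 ye22 ze25) (ke xe11 ye19 ze8) (ke xe9 ye49 ze13) (ke xe11 ye19 ze10) (ke xe9 ye49 ze14) (ke xe13 ye24 ze27) (ke xe17 ye5 ze21) (ke xe13 ye9 ze24) (ke xe12 ye17 ze18) (ke xe10 ye19 ze58) (ke xe25 ye17 ze18) (ke xe22 ye23 ze9) (ke xe26 ye53 ze12) (ke xe27 ye40 ze44) (ke xe17 ye56 ze4) (ke xe18 ye41 ze13) (ke xe19 ye46 ze53) (ke xe16 ye28 ze10) (ke xe16 ye30 ze53) (ke xe9 ye49 ze24) (ke xe9 ye49 ze25) (ke xe10 ye45 ze40) (ke xe19 ye27 ze40) (ke xe9 ye49 ze30) (ke xe21 ye50 ze47))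
def f_e_18 : D2 → D3 → Pt := @D2.rec (fun _ => D3 → Pt) (@D3.rec (fun _ => Pt) (ke xe12 ye40 ze47) (ke xe11 ye19 ze39) (ke xe22 ye5 ze20) (ke xe21 ye19 ze42) (ke xe9 ye49 ze34) (ke xe21 ye50 ze42) (ke xe18 ye37 ze37) (ke xe12 ye36 ze1) (ke xe11 ye25 ze47) (ke xe27 ye43 ze4) (ke xe12 ye39 ze52) (ke xe21 ye54 ze48) (ke xe9 ye49 ze41) (ke xe12 ye15 ze18) (ke xe9 ye49 ze42) (ke xe9 ye49 ze43) (ke xe9 ye49 ze44) (ke xe11 ye48 ze48) (ke xe18 ye23 ze22) (ke xe12 ye57 ze59) (ke xe18 ye50 ze46) (ke xe13 ye20 ze27) (ke xe27 ye43 ze6) (ke xe9 ye49 ze47) (ke xe21 ye47 ze16) (ke xe13 ye44 ze27) (ke xe27 ye43 ze8) (ke xe27 ye21 ze2) (ke xe21 ye47 ze29) (ke xe9 ye49 ze50) (ke xe20 ye45 ze0) (ke xe25 ye53 ze17) (ke xe27 ye30 ze28) (ke xe22 ye16 ze8) (ke xe9 ye49 ze58) (ke xe20 ye40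 ze21) (ke xe24 ye39 ze55) (ke xe9 ye49 ze60) (ke xe27 ye43 ze14) (ke xe27 ye43 ze16) (ke xe9 ye49 ze61) (ke xe25 ye45 ze4) (ke xe24 ye20 ze39) (ke xe9 ye50 ze10) (ke xe19 ye3 ze60) (ke xe9 ye50 ze1) (ke xe26 ye46 ze12) (ke xe12 ye38 ze28) (ke xe9 ye50 ze14) (ke xe10 ye27 ze3) (ke xe27 ye9 ze19) (ke xe9 ye50 ze3) (ke xe15 ye48 ze25) (ke xe13 ye25 ze54) (ke xe24 ye20 ze7) (ke xe27 ye19 ze51) (ke xe17 ye25 ze40) (ke xe12 ye40 ze52) (ke xe22 ye37 ze6) (ke xe24 ye41 ze26) (ke xe9 ye50 ze7) (ke xe18 ye17 ze48)) (@D3.rec (fun _ => Pt) (ke xe18 ye18 ze33) (ke xe18 ye57 ze51) (ke xe21 ye55 ze15) (ke xe10 ye15 ze52) (ke xe17 ye12 ze14) (ke xe9 ye50 ze9) (ke xe24 ye33 ze9) (ke xe27 ye43 ze21) (ke xe22 ye43 ze14) (ke xe19 ye11 ze2) (ke xe27 ye4 ze2) (ke xe27 ye43 ze34) (ke xe9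 ye50 ze13) (ke xe19 ye44 ze11) (ke xe27 ye43 ze35) (ke xe27 ye43 ze23) (ke xe27 ye43 ze36) (ke xe18 ye48 ze40) (ke xe12 ye10 ze24) (ke xe22 ye4 ze10) (ke xe17 ye13 ze14) (ke xe10 ye13 ze43) (ke xe17 ye50 ze14) (ke xe27 ye43 ze38) (ke xe9 ye50 ze19) (ke xe27 ye43 ze42) (ke xe27 ye43 ze44) (ke xe9 ye50 ze20) (ke xe17 ye13 ze44) (ke xe9 ye50 ze22) (ke xe24 ye47 ze24) (ke xe26 ye32 ze25) (ke xe22 ye6 ze25) (ke xe9 ye50 ze28) (ke xe24 ye41 ze3) (ke xe9 ye50 ze29) (ke xe9 ye50 ze31) (ke xe27 ye43 ze48) (ke xe9 ye50 ze32) (ke xe9 ye50 ze33) (ke xe27 ye43 ze49) (ke xe9 ye50 ze35) (ke xe9 ye50 ze50) (ke xe15 ye39 ze13) (ke xe21 ye58 ze6) (ke xe21 ye17 ze0) (ke xe9 ye50 ze43) (ke xe27 ye43 ze59) (ke xe27 ye43 ze60) (ke xe9 ye50 ze44) (ke xe12 ye49 ze47) (ke xe19 ye53 ze48) (ke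 xe27 ye41 ze16) (ke xe27 ye44 ze6) (ke xe19 ye19 ze42) (ke xe9 ye50 ze46) (ke xe11 ye31 ze25) (ke xe10 ye41 ze20) (ke xe27 ye41 ze18) (ke xe27 ye44 ze9) (ke xe27 ye44 ze10) (ke xe9 ye50 ze48)) (@D3.rec (fun _ => Pt) (ke xe20 ye15 ze26) (ke xe25 ye12 ze20) (ke xe12 ye43 ze16) (ke xe25 ye4 ze22) (ke xe26 ye10 ze21) (ke xe15 ye39 ze15) (ke xe9 ye50 ze51) (ke xe11 ye12 ze41) (ke xe10 ye26 ze54) (ke xe20 ye12 ze4) (ke xe11 ye26 ze39) (ke xe26 ye58 ze9) (ke xe9 ye51 ze1) (ke xe16 ye30 ze26) (ke xe20 ye34 ze29) (ke xe26 ye28 ze2) (ke xe9 ye51 ze7) (ke xe17 ye53 ze41) (ke xe18 ye26 ze5) (ke xe25 ye21 ze58) (ke xe27 ye44 ze15) (ke xe9 ye51 ze11) (ke xe12 ye43 ze13) (ke xe12 ye41 ze41) (ke xe12 ye46 ze51) (ke xe15 ye19 ze39) (ke xe15 ye19 ze41) (ke xe12 ye51 ze4) (ke xe9 ye51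 ze16) (ke xe21 ye54 ze4) (ke xe16 ye8 ze60) (ke xe21 ye43 ze41) (ke xe27 ye44 ze21) (ke xe9 ye51 ze18) (ke xe27 ye44 ze23) (ke xe25 ye48 ze7) (ke xe9 ye51 ze24) (ke xe27 ye44 ze26) (ke xe16 ye34 ze32) (ke xe15 ye2 ze18) (ke xe19 ye20 ze3) (ke xe14 ye38 ze47) (ke xe25 ye41 ze16) (ke xe9 ye51 ze30) (ke xe10 ye39 ze48) (ke xe27 ye44 ze30) (ke xe14 ye21 ze28) (ke xe22 ye17 ze56) (ke xe9 ye51 ze32) (ke xe9 ye51 ze33) (ke xe27 ye40 ze43) (ke xe18 ye3 ze6) (ke xe25 ye58 ze8) (ke xe15 ye19 ze42) (ke xe9 ye51 ze35) (ke xe23 ye26 ze21) (ke xe27 ye44 ze36) (ke xe9 ye51 ze36) (ke xe22 ye12 ze20) (ke xe27 ye44 ze39) (ke xe27 ye44 ze42) (ke xe16 ye48 ze1)) (@D3.rec (fun _ => Pt) (ke xe27 ye44 ze44) (ke xe16 ye11 ze11) (ke xe26 ye7 ze60) (ke xe9 ye51 ze43) (ke xe9 ye51 ze44) (ke xe27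 ye44 ze51) (ke xe18 ye2 ze51) (ke xe26 ye3 ze10) (ke xe25 ye46 ze28) (ke xe9 ye51 ze47) (ke xe25 ye41 ze13) (ke xe23 ye37 ze14) (ke xe26 ye0 ze50) (ke xe16 ye6 ze15) (ke xe9 ye51 ze49) (ke xe27 ye44 ze57) (ke xe27 ye44 ze60) (ke xe16 ye10 ze11) (ke xe18 ye27 ze40) (ke xe16 ye21 ze39) (ke xe27 ye45 ze1) (ke xe18 ye27 ze27) (ke xe26 ye5 ze23) (ke xe26 ye14 ze28) (ke xe19 ye15 ze20) (ke xe27 ye45 ze6) (ke xe15 ye19 ze6) (ke xe27 ye45 ze8) (ke xe9 ye51 ze56) (ke xe9 ye51 ze57) (ke xe15 ye11 ze27) (ke xe26 ye16 ze34) (ke xe21 ye42 ze15) (ke xe9 ye51 ze59) (ke xe9 ye51 ze60) (ke xe15 ye11 ze48) (ke xe24 ye45 ze32) (ke xe23 ye22 ze53) (ke xe9 ye53 ze54) (ke xe27 ye28 ze4) (ke xe9 ye52 ze0) (ke xe24 ye46 ze51) (ke xe15 ye11 ze52) (ke xe27 ye45 ze18) (ke xe21 ye31 ze54) (ke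 xe9 ye52 ze2) (ke xe9 ye52 ze3) (ke xe23 ye22 ze13) (ke xe9 ye54 ze14) (ke xe15 ye11 ze59) (ke xe26 ye16 ze21) (ke xe27 ye45 ze32) (ke xe24 ye40 ze45) (ke xe9 ye52 ze5) (ke xe9 ye52 ze6) (ke xe9 ye54 ze6) (ke xe27 ye45 ze35) (ke xe27 ye45 ze36) (ke xe18 ye29 ze56) (ke xe9 ye52 ze8) (ke xe27 ye45 ze40) (ke xe16 ye20 ze31)) (@D3.rec (fun _ => Pt) (ke xe24 ye44 ze9) (ke xe27 ye45 ze42) (ke xe9 ye52 ze9) (ke xe27 ye26 ze1) (ke xe20 ye3 ze58) (ke xe20 ye4 ze8) (ke xe27 ye26 ze12) (ke xe9 ye52 ze12) (ke xe14 ye4 ze45) (ke xe27 ye25 ze44) (ke xe9 ye52 ze14) (ke xe26 ye12 ze20) (ke xe27 ye26 ze52) (ke xe18 ye8 ze27) (ke xe18 ye8 ze26) (ke xe25 ye25 ze41) (ke xe17 ye22 ze1) (ke xe11 ye54 ze57) (ke xe18 ye46 ze25) (ke xe27 ye45 ze59) (ke xe14 ye43 ze46) (ke xe22 ye34 ze44) (ke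 xe24 ye8 ze9) (ke xe24 ye8 ze8) (ke xe10 ye53 ze33) (ke xe9 ye52 ze25) (ke xe18 ye30 ze22) (ke xe25 ye1 ze45) (ke xe22 ye11 ze2) (ke xe9 ye52 ze27) (ke xe15 ye54 ze1) (ke xe20 ye4 ze13) (ke xe26 ye12 ze49) (ke xe27 ye46 ze3) (ke xe14 ye57 ze41) (ke xe9 ye52 ze30) (ke xe9 ye52 ze31) (ke xe25 ye4 ze2) (ke xe18 ye26 ze35) (ke xe27 ye39 ze32) (ke xe15 ye11 ze21) (ke xe16 ye22 ze12) (ke xe18 ye8 ze52) (ke xe18 ye26 ze39) (ke xe27 ye46 ze13) (ke xe27 ye31 ze4) (ke xe27 ye31 ze5) (ke xe15 ye37 ze55) (ke xe9 ye52 ze36) (ke xe9 ye52 ze37) (ke xe27 ye26 ze48) (ke xe25 ye10 ze56) (ke xe26 ye17 ze9) (ke xe9 ye52 ze39) (ke xe15 ye5 ze55) (ke xe15 ye10 ze0) (ke xe17 ye23 ze31) (ke xe27 ye46 ze24) (ke xe16 ye16 ze43) (ke xe9 ye52 ze45) (ke xe27 ye28 ze28) (ke xe10 ye39 ze56)) (@D3.rec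 (fun _ => Pt) (ke xe27 ye23 ze23) (ke xe9 ye52 ze46) (ke xe26 ye15 ze52) (ke xe9 ye52 ze47) (ke xe12 ye59 ze1) (ke xe27 ye46 ze31) (ke xe21 ye42 ze8) (ke xe9 ye52 ze48) (ke xe23 ye34 ze17) (ke xe16 ye17 ze59) (ke xe21 ye38 ze23) (ke xe27 ye46 ze6) (ke xe9 ye52 ze52) (ke xe27 ye46 ze34) (ke xe9 ye52 ze55) (ke xe18 ye27 ze17) (ke xe9 ye56 ze52) (ke xe27 ye29 ze1) (ke xe17 ye31 ze44) (ke xe16 ye15 ze2) (ke xe18 ye8 ze19) (ke xe27 ye46 ze39) (ke xe25 ye49 ze38) (ke xe9 ye53 ze4) (ke xe16 ye16 ze4) (ke xe9 ye53 ze5) (ke xe15 ye19 ze1) (ke xe27 ye46 ze45) (ke xe27 ye46 ze48) (ke xe26 ye5 ze14) (ke xe16 ye15 ze53) (ke xe17 ye37 ze23) (ke xe24 ye45 ze0) (ke xe27 ye46 ze50) (ke xe9 ye53 ze9) (ke xe21 ye58 ze34) (ke xe9 ye53 ze11) (ke xe17 ye53 ze49) (ke xe11 ye8 ze56) (ke xe24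 ye58 ze45) (ke xe11 ye8 ze53) (ke xe9 ye53 ze16) (ke xe25 ye14 ze6) (ke xe27 ye46 ze57) (ke xe27 ye46 ze54) (ke xe27 ye46 ze59) (ke xe9 ye53 ze17) (ke xe27 ye47 ze1) (ke xe18 ye27 ze51) (ke xe13 ye18 ze37) (ke xe17 ye43 ze19) (ke xe10 ye24 ze30) (ke xe27 ye47 ze4) (ke xe27 ye47 ze6) (ke xe9 ye53 ze23) (ke xe21 ye4 ze29) (ke xe27 ye47 ze7) (ke xe27 ye47 ze9) (ke xe9 ye53 ze25) (ke xe18 ye28 ze3) (ke xe18 ye28 ze4) (ke xe9 ye53 ze27)) (@D3.rec (fun _ => Pt) (ke xe26 ye11 ze32) (ke xe26 ye10 ze47) (ke xe11 ye59 ze55) (ke xe26 ye15 ze60) (ke xe12 ye34 ze48) (ke xe16 ye17 ze25) (ke xe14 ye4 ze36) (ke xe9 ye53 ze35) (ke xe27 ye26 ze28) (ke xe18 ye28 ze48) (ke xe17 ye39 ze28) (ke xe27 ye47 ze20) (ke xe27 ye26 ze29) (ke xe9 ye53 ze34) (ke xe27 ye30 ze51) (ke xe24 ye45 ze24)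 (ke xe22 ye8 ze37) (ke xe18 ye6 ze25) (ke xe18 ye28 ze51) (ke xe17 ye43 ze24) (ke xe9 ye53 ze39) (ke xe15 ye3 ze46) (ke xe17 ye46 ze36) (ke xe17 ye46 ze42) (ke xe24 ye46 ze43) (ke xe18 ye6 ze17) (ke xe26 ye13 ze53) (ke xe24 ye52 ze28) (ke xe27 ye47 ze29) (ke xe9 ye53 ze48) (ke xe14 ye4 ze23) (ke xe9 ye53 ze53) (ke xe27 ye45 ze10) (ke xe24 ye45 ze30) (ke xe25 ye15 ze58) (ke xe18 ye28 ze22) (ke xe15 ye8 ze35) (ke xe27 ye37 ze28) (ke xe26 ye5 ze25) (ke xe9 ye53 ze55) (ke xe18 ye28 ze29) (ke xe15 ye0 ze26) (ke xe27 ye47 ze37) (ke xe27 ye47 ze41) (ke xe22 ye8 ze49) (ke xe9 ye53 ze58) (ke xe18 ye28 ze56) (ke xe18 ye28 ze57) (ke xe22 ye31 ze14) (ke xe27 ye47 ze45) (ke xe26 ye12 ze17) (ke xe9 ye53 ze60) (ke xe27 ye47 ze48) (ke xe27 ye47 ze52) (ke xe9 ye53 ze61) (ke xe17 ye38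 ze60) (ke xe24 ye43 ze37) (ke xe9 ye54 ze0) (ke xe26 ye6 ze42) (ke xe27 ye45 ze34) (ke xe16 ye1 ze23) (ke xe9 ye54 ze2)) (@D3.rec (fun _ => Pt) (ke xe15 ye59 ze41) (ke xe9 ye54 ze3) (ke xe17 ye43 ze57) (ke xe27 ye47 ze58) (ke xe9 ye54 ze5) (ke xe27 ye30 ze40) (ke xe16 ye17 ze43) (ke xe12 ye50 ze18) (ke xe14 ye55 ze41) (ke xe16 ye18 ze46) (ke xe18 ye29 ze3) (ke xe18 ye29 ze4) (ke xe12 ye19 ze14) (ke xe26 ye21 ze9) (ke xe27 ye47 ze61) (ke xe12 ye24 ze34) (ke xe9 ye54 ze8) (ke xe22 ye8 ze31) (ke xe9 ye54 ze9) (ke xe20 ye16 ze17) (ke xe17 ye42 ze43) (ke xe12 ye1 ze41) (ke xe9 ye54 ze10) (ke xe22 ye23 ze34) (ke xe27 ye48 ze0) (ke xe27 ye45 ze23) (ke xe27 ye48 ze6) (ke xe9 ye54 ze13) (ke xe27 ye45 ze24) (ke xe21 ye37 ze2) (ke xe9 ye54 ze15) (ke xe22 ye36 ze21) (ke xe14 ye12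 ze14) (ke xe9 ye54 ze16) (ke xe14 ye8 ze47) (ke xe9 ye54 ze17) (ke xe27 ye48 ze8) (ke xe9 ye54 ze18) (ke xe17 ye39 ze1) (ke xe27 ye6 ze12) (ke xe9 ye54 ze19) (ke xe27 ye17 ze17) (ke xe22 ye36 ze26) (ke xe9 ye54 ze21) (ke xe18 ye29 ze31) (ke xe13 ye20 ze1) (ke xe9 ye54 ze23) (ke xe27 ye17 ze19) (ke xe9 ye54 ze24) (ke xe18 ye29 ze27) (ke xe14 ye35 ze18) (ke xe27 ye48 ze16) (ke xe21 ye37 ze29) (ke xe9 ye54 ze26) (ke xe20 ye5 ze31) (ke xe27 ye48 ze18) (ke xe9 ye54 ze27) (ke xe12 ye42 ze40) (ke xe12 ye42 ze52) (ke xe9 ye54 ze28) (ke xe25 ye11 ze61) (ke xe26 ye1 ze3)) (@D3.rec (fun _ => Pt) (ke xe21 ye27 ze6) (ke xe9 ye54 ze29) (ke xe25 ye55 ze48) (ke xe17 ye34 ze57) (ke xe21 ye37 ze3) (ke xe9 ye54 ze31) (ke xe27 ye48 ze25) (ke xe27 ye48 ze28) (ke xe24 ye44 ze10) (ke xe21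 ye37 ze31) (ke xe17 ye43 ze29) (ke xe9 ye54 ze33) (ke xe27 ye26 ze51) (ke xe25 ye55 ze39) (ke xe26 ye12 ze34) (ke xe27 ye48 ze33) (ke xe9 ye54 ze35) (ke xe27 ye48 ze34) (ke xe27 ye24 ze46) (ke xe18 ye5 ze20) (ke xe17 ye43 ze25) (ke xe12 ye50 ze11) (ke xe26 ye16 ze57) (ke xe26 ye17 ze5) (ke xe26 ye16 ze60) (ke xe26 ye19 ze6) (ke xe18 ye4 ze14) (ke xe18 ye4 ze13) (ke xe26 ye0 ze24) (ke xe15 ye23 ze27) (ke xe27 ye48 ze49) (ke xe9 ye54 ze39) (ke xe26 ye13 ze35) (ke xe22 ye28 ze26) (ke xe9 ye54 ze40) (ke xe9 ye54 ze41) (ke xe27 ye25 ze35) (ke xe26 ye14 ze12) (ke xe9 ye54 ze45) (ke xe27 ye48 ze58) (ke xe27 ye49 ze0) (ke xe9 ye54 ze43) (ke xe17 ye44 ze0) (ke xe27 ye49 ze2) (ke xe27 ye49 ze3) (ke xe27 ye48 ze56) (ke xe17 ye23 ze13) (ke xe9 ye54 ze46) (ke xe26 ye15 ze61) (ke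 xe25 ye1 ze44) (ke xe9 ye54 ze47) (ke xe18 ye10 ze0) (ke xe18 ye4 ze42) (ke xe27 ye49 ze11) (ke xe27 ye49 ze12) (ke xe16 ye17 ze41) (ke xe9 ye54 ze51) (ke xe27 ye49 ze18) (ke xe18 ye30 ze55) (ke xe16 ye20 ze41) (ke xe9 ye56 ze53) (ke xe27 ye35 ze22)) (@D3.rec (fun _ => Pt) (ke xe15 ye1 ze1) (ke xe18 ye30 ze59) (ke xe18 ye54 ze9) (ke xe14 ye3 ze47) (ke xe19 ye4 ze56) (ke xe27 ye49 ze27) (ke xe9 ye54 ze58) (ke xe9 ye54 ze59) (ke xe18 ye31 ze43) (ke xe27 ye49 ze32) (ke xe18 ye32 ze55) (ke xe18 ye30 ze44) (ke xe12 ye6 ze40) (ke xe27 ye49 ze40) (ke xe9 ye55 ze1) (ke xe26 ye19 ze46) (ke xe9 ye56 ze49) (ke xe9 ye55 ze4) (ke xe9 ye55 ze5) (ke xe27 ye49 ze43) (ke xe18 ye33 ze0) (ke xe27 ye49 ze46) (ke xe27 ye49 ze47) (ke xe27 ye49 ze49) (ke xe9 ye55 ze7) (ke xe27 ye49 ze53)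 (ke xe23 ye50 ze1) (ke xe9 ye55 ze8) (ke xe27 ye49 ze56) (ke xe9 ye55 ze9) (ke xe27 ye49 ze57) (ke xe27 ye49 ze58) (ke xe27 ye49 ze59) (ke xe9 ye55 ze10) (ke xe18 ye14 ze57) (ke xe27 ye50 ze6) (ke xe27 ye50 ze0) (ke xe27 ye50 ze7) (ke xe20 ye10 ze38) (ke xe9 ye55 ze15) (ke xe18 ye33 ze17) (ke xe18 ye31 ze35) (ke xe27 ye29 ze46) (ke xe27 ye50 ze12) (ke xe27 ye50 ze13) (ke xe9 ye55 ze14) (ke xe27 ye50 ze16) (ke xe27 ye50 ze18) (ke xe18 ye13 ze54) (ke xe10 ye12 ze23) (ke xe18 ye31 ze5) (ke xe18 ye31 ze44) (ke xe27 ye6 ze6) (ke xe9 ye55 ze19) (ke xe27 ye50 ze24) (ke xe27 ye50 ze25) (ke xe9 ye55 ze20) (ke xe27 ye46 ze15) (ke xe23 ye33 ze53) (ke xe12 ye19 ze58) (ke xe18 ye31 ze55) (ke xe12 ye19 ze44)) (@D3.rec (fun _ => Pt) (ke xe18 ye8 ze51) (ke xe18 ye31 ze59) (ke xe18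 ye31 ze60) (ke xe27 ye50 ze30) (ke xe27 ye50 ze33) (ke xe9 ye55 ze27) (ke xe27 ye4 ze46) (ke xe27 ye50 ze34) (ke xe9 ye55 ze28) (ke xe9 ye55 ze29) (ke xe27 ye50 ze38) (ke xe18 ye32 ze5) (ke xe9 ye57 ze19) (ke xe13 ye30 ze11) (ke xe18 ye17 ze36) (ke xe18 ye17 ze37) (ke xe18 ye20 ze33) (ke xe13 ye53 ze49) (ke xe9 ye55 ze40) (ke xe16 ye17 ze14) (ke xe9 ye55 ze42) (ke xe18 ye32 ze44) (ke xe21 ye50 ze16) (ke xe17 ye48 ze29) (ke xe9 ye55 ze47) (ke xe9 ye55 ze48) (ke xe20 ye35 ze18) (ke xe18 ye20 ze31) (ke xe9 ye57 ze17) (ke xe10 ye23 ze18) (ke xe27 ye50 ze43) (ke xe23 ye34 ze0) (ke xe9 ye55 ze55) (ke xe24 ye58 ze42) (ke xe27 ye50 ze47) (ke xe9 ye55 ze56) (ke xe19 ye10 ze25) (ke xe27 ye50 ze50) (ke xe10 ye35 ze53) (ke xe14 ye14 ze1) (ke xe27 ye50 ze53) (ke xe13 ye13 ze59)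 (ke xe27 ye50 ze54) (ke xe27 ye50 ze55) (ke xe9 ye56 ze0) (ke xe21 ye35 ze18) (ke xe24 ye45 ze7) (ke xe24 ye45 ze5) (ke xe9 ye56 ze3) (ke xe26 ye15 ze26) (ke xe27 ye50 ze60) (ke xe9 ye56 ze4) (ke xe18 ye14 ze58) (ke xe17 ye4 ze51) (ke xe18 ye33 ze45) (ke xe11 ye29 ze56) (ke xe9 ye56 ze9) (ke xe17 ye9 ze37) (ke xe18 ye32 ze37) (ke xe18 ye32 ze38) (ke xe27 ye51 ze12) (ke xe27 ye51 ze15)) (@D3.rec (fun _ => Pt) (ke xe9 ye56 ze12) (ke xe18 ye50 ze30) (ke xe9 ye56 ze13) (ke xe14 ye12 ze29) (ke xe18 ye20 ze61) (ke xe10 ye55 ze49) (ke xe20 ye38 ze1) (ke xe27 ye22 ze12) (ke xe18 ye32 ze41) (ke xe18 ye33 ze51) (ke xe18 ye32 ze43) (ke xe17 ye52 ze56) (ke xe27 ye51 ze22) (ke xe9 ye56 ze21) (ke xe22 ye14 ze51) (ke xe27 ye51 ze26) (ke xe27 ye51 ze28) (ke xe23 ye54 ze57) (ke xe9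 ye56 ze23) (ke xe9 ye56 ze24) (ke xe27 ye51 ze36) (ke xe27 ye51 ze40) (ke xe27 ye51 ze43) (ke xe27 ye51 ze45) (ke xe27 ye51 ze49) (ke xe9 ye56 ze26) (ke xe9 ye56 ze27) (ke xe27 ye51 ze54) (ke xe27 ye51 ze58) (ke xe27 ye51 ze59) (ke xe11 ye23 ze36) (ke xe27 ye51 ze60) (ke xe9 ye56 ze30) (ke xe18 ye58 ze22) (ke xe27 ye52 ze1) (ke xe27 ye49 ze28) (ke xe27 ye52 ze8) (ke xe27 ye52 ze10) (ke xe27 ye52 ze11) (ke xe9 ye56 ze32) (ke xe9 ye56 ze33) (ke xe27 ye50 ze26) (ke xe18 ye32 ze53) (ke xe27 ye52 ze18) (ke xe17 ye47 ze8) (ke xe18 ye32 ze56) (ke xe15 ye1 ze45) (ke xe27 ye52 ze24) (ke xe27 ye52 ze27) (ke xe27 ye52 ze28) (ke xe27 ye52 ze31) (ke xe9 ye56 ze37) (ke xe9 ye56 ze38) (ke xe27 ye52 ze36) (ke xe11 ye15 ze37) (ke xe27 ye52 ze41) (ke xe27 ye52 ze42) (ke xe18 ye14 ze50)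 (ke xe9 ye56 ze40) (ke xe9 ye56 ze41) (ke xe19 ye13 ze7) (ke xe17 ye47 ze5)) (@D3.rec (fun _ => Pt) (ke xe26 ye19 ze30) (ke xe17 ye49 ze28) (ke xe27 ye52 ze48) (ke xe9 ye56 ze43) (ke xe22 ye29 ze22) (ke xe27 ye52 ze50) (ke xe9 ye56 ze44) (ke xe27 ye52 ze52) (ke xe9 ye56 ze45) (ke xe27 ye52 ze54) (ke xe22 ye12 ze47) (ke xe27 ye52 ze57) (ke xe9 ye56 ze46) (ke xe27 ye49 ze52) (ke xe27 ye52 ze60) (ke xe18 ye14 ze25) (ke xe27 ye53 ze3) (ke xe27 ye53 ze6) (ke xe9 ye56 ze50) (ke xe18 ye31 ze34) (ke xe24 ye57 ze19) (ke xe21 ye12 ze11) (ke xe25 ye26 ze28) (ke xe27 ye53 ze13) (ke xe27 ye53 ze7) (ke xe18 ye14 ze21) (ke xe27 ye49 ze16) (ke xe27 ye53 ze16) (ke xe17 ye52 ze33) (ke xe17 ye52 ze39) (ke xe11 ye4 ze50) (ke xe11 ye4 ze51) (ke xe13 ye0 ze13) (ke xe11 ye4 ze43) (ke xe9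 ye56 ze57) (ke xe9 ye56 ze58) (ke xe27 ye50 ze21) (ke xe27 ye50 ze61) (ke xe21 ye13 ze25) (ke xe27 ye53 ze21) (ke xe9 ye56 ze59) (ke xe21 ye43 ze14) (ke xe26 ye15 ze9) (ke xe20 ye47 ze28) (ke xe27 ye49 ze1) (ke xe16 ye19 ze35) (ke xe9 ye57 ze1) (ke xe18 ye33 ze44) (ke xe18 ye32 ze30) (ke xe19 ye53 ze20) (ke xe9 ye57 ze4) (ke xe27 ye53 ze29) (ke xe10 ye17 ze16) (ke xe12 ye10 ze41) (ke xe9 ye57 ze8) (ke xe27 ye53 ze31) (ke xe9 ye57 ze11) (ke xe18 ye32 ze36) (ke xe22 ye50 ze59) (ke xe27 ye53 ze34) (ke xe12 ye18 ze19) (ke xe21 ye20 ze46)) (@D3.rec (fun _ => Pt) (ke xe20 ye53 ze44) (ke xe18 ye20 ze60) (ke xe15 ye5 ze36) (ke xe11 ye3 ze10) (ke xe27 ye53 ze36) (ke xe27 ye53 ze37) (ke xe9 ye57 ze22) (ke xe19 ye2 ze24) (ke xe27 ye53 ze42) (ke xe9 ye57 ze24) (ke xe18 ye34 ze15)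 (ke xe27 ye53 ze45) (ke xe9 ye57 ze26) (ke xe27 ye53 ze47) (ke xe27 ye53 ze48) (ke xe27 ye53 ze49) (ke xe9 ye57 ze27) (ke xe26 ye4 ze21) (ke xe27 ye53 ze50) (ke xe27 ye33 ze58) (ke xe17 ye45 ze59) (ke xe9 ye57 ze29) (ke xe27 ye53 ze54) (ke xe9 ye57 ze33) (ke xe18 ye35 ze24) (ke xe27 ye53 ze57) (ke xe20 ye21 ze15) (ke xe9 ye57 ze31) (ke xe18 ye31 ze17) (ke xe9 ye57 ze32) (ke xe27 ye53 ze59) (ke xe27 ye53 ze60) (ke xe14 ye12 ze27) (ke xe17 ye45 ze54) (ke xe17 ye45 ze2) (ke xe27 ye54 ze3) (ke xe27 ye54 ze4) (ke xe9 ye57 ze36) (ke xe17 ye45 ze5) (ke xe10 ye54 ze24) (ke xe9 ye57 ze39) (ke xe27 ye54 ze10) (ke xe26 ye32 ze5) (ke xe9 ye57 ze40) (ke xe15 ye25 ze60) (ke xe21 ye41 ze33) (ke xe9 ye57 ze43) (ke xe27 ye54 ze12) (ke xe9 ye57 ze44) (ke xe27 ye39 ze2) (ke xe18 ye16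 ze10) (ke xe9 ye58 ze49) (ke xe27 ye22 ze29) (ke xe12 ye53 ze58) (ke xe18 ye9 ze48) (ke xe12 ye53 ze43) (ke xe14 ye33 ze5) (ke xe18 ye50 ze12) (ke xe26 ye4 ze17) (ke xe17 ye16 ze21) (ke xe27 ye39 ze29) (ke xe27 ye54 ze27)) (@D3.rec (fun _ => Pt) (ke xe18 ye47 ze21) (ke xe9 ye57 ze53) (ke xe11 ye45 ze58) (ke xe27 ye12 ze47) (ke xe12 ye54 ze8) (ke xe21 ye26 ze54) (ke xe9 ye57 ze56) (ke xe10 ye27 ze45) (ke xe14 ye13 ze36) (ke xe26 ye21 ze57) (ke xe18 ye35 ze44) (ke xe16 ye33 ze7) (ke xe17 ye45 ze10) (ke xe12 ye53 ze11) (ke xe17 ye45 ze11) (ke xe10 ye0 ze7) (ke xe27 ye37 ze27) (ke xe9 ye58 ze10) (ke xe17 ye47 ze9) (ke xe27 ye54 ze35) (ke xe27 ye54 ze37) (ke xe18 ye12 ze25) (ke xe9 ye58 ze13) (ke xe9 ye58 ze14) (ke xe26 ye19 ze60) (ke xe18 ye12 ze15) (ke xe18 ye34 ze4) (ke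 xe27 ye37 ze55) (ke xe27 ye40 ze3) (ke xe23 ye6 ze30) (ke xe19 ye2 ze25) (ke xe9 ye58 ze18) (ke xe19 ye10 ze18) (ke xe18 ye35 ze16) (ke xe27 ye54 ze49) (ke xe9 ye58 ze21) (ke xe27 ye54 ze51) (ke xe9 ye58 ze22) (ke xe27 ye54 ze53) (ke xe27 ye54 ze55) (ke xe27 ye54 ze56) (ke xe9 ye58 ze23) (ke xe27 ye36 ze51) (ke xe27 ye53 ze46) (ke xe27 ye54 ze59) (ke xe15 ye57 ze55) (ke xe9 ye58 ze25) (ke xe27 ye55 ze6) (ke xe9 ye58 ze26) (ke xe27 ye55 ze13) (ke xe18 ye11 ze57) (ke xe9 ye58 ze30) (ke xe18 ye34 ze27) (ke xe27 ye55 ze17) (ke xe9 ye58 ze28) (ke xe27 ye32 ze12) (ke xe27 ye55 ze19) (ke xe18 ye9 ze34) (ke xe18 ye10 ze52) (ke xe10 ye10 ze3) (ke xe9 ye58 ze32) (ke xe18 ye34 ze37)) (@D3.rec (fun _ => Pt) (ke xe27 ye55 ze26) (ke xe27 ye55 ze27) (ke xe9 ye58 ze33) (ke xe27 ye32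 ze41) (ke xe27 ye36 ze44) (ke xe27 ye55 ze30) (ke xe27 ye55 ze31) (ke xe15 ye0 ze51) (ke xe9 ye58 ze39) (ke xe23 ye54 ze58) (ke xe9 ye58 ze40) (ke xe16 ye59 ze50) (ke xe9 ye58 ze42) (ke xe23 ye34 ze30) (ke xe26 ye49 ze15) (ke xe12 ye36 ze40) (ke xe20 ye46 ze29) (ke xe16 ye20 ze16) (ke xe27 ye39 ze52) (ke xe9 ye58 ze48) (ke xe18 ye49 ze50) (ke xe27 ye54 ze16) (ke xe9 ye59 ze56) (ke xe27 ye35 ze24) (ke xe18 ye35 ze6) (ke xe18 ye35 ze54) (ke xe18 ye37 ze25) (ke xe12 ye53 ze5) (ke xe9 ye59 ze0) (ke xe12 ye40 ze46) (ke xe9 ye59 ze4) (ke xe9 ye59 ze11) (ke xe27 ye55 ze40) (ke xe20 ye20 ze37) (ke xe9 ye59 ze8) (ke xe12 ye40 ze39) (ke xe11 ye40 ze27) (ke xe9 ye59 ze12) (ke xe17 ye55 ze13) (ke xe9 ye59 ze14) (ke xe17 ye9 ze46) (ke xe27 ye55 ze41) (ke xe21 ye8 ze3) (ke xe10 ye42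 ze24) (ke xe19 ye13 ze14) (ke xe22 ye50 ze31) (ke xe9 ye59 ze19) (ke xe27 ye55 ze44) (ke xe9 ye59 ze21) (ke xe15 ye21 ze37) (ke xe12 ye58 ze21) (ke xe14 ye43 ze6) (ke xe18 ye36 ze27) (ke xe24 ye53 ze55) (ke xe9 ye59 ze24) (ke xe27 ye55 ze47) (ke xe9 ye59 ze25) (ke xe24 ye56 ze36) (ke xe27 ye55 ze49) (ke xe18 ye36 ze5) (ke xe20 ye45 ze10) (ke xe12 ye43 ze40)) (@D3.rec (fun _ => Pt) (ke xe20 ye44 ze52) (ke xe9 ye59 ze28) (ke xe12 ye42 ze21) (ke xe17 ye29 ze1) (ke xe22 ye28 ze58) (ke xe9 ye59 ze30) (ke xe18 ye36 ze50) (ke xe21 ye32 ze8) (ke xe11 ye38 ze28) (ke xe9 ye59 ze35) (ke xe18 ye13 ze50) (ke xe9 ye59 ze36) (ke xe12 ye44 ze28) (ke xe27 ye51 ze16) (ke xe12 ye43 ze55) (ke xe9 ye59 ze40) (ke xe23 ye36 ze47) (ke xe16 ye55 ze53) (ke xe9 ye59 ze41) (ke xe9 ye59 ze42) (ke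 xe18 ye36 ze35) (ke xe19 ye15 ze49) (ke xe18 ye50 ze40) (ke xe10 ye42 ze20) (ke xe9 ye59 ze44) (ke xe26 ye13 ze30) (ke xe16 ye15 ze13) (ke xe9 ye59 ze45) (ke xe27 ye17 ze44) (ke xe18 ye36 ze58) (ke xe24 ye44 ze14) (ke xe21 ye32 ze15) (ke xe9 ye59 ze47) (ke xe27 ye56 ze4) (ke xe27 ye56 ze5) (ke xe9 ye59 ze48) (ke xe27 ye56 ze6) (ke xe18 ye37 ze32) (ke xe24 ye45 ze37) (ke xe26 ye16 ze14) (ke xe9 ye59 ze50) (ke xe17 ye7 ze30) (ke xe9 ye59 ze55) (ke xe21 ye21 ze58) (ke xe9 ye59 ze53) (ke xe17 ye13 ze2) (ke xe12 ye44 ze46) (ke xe9 ye59 ze59) (ke xe27 ye56 ze8) (ke xe27 ye52 ze4) (ke xe9 ye59 ze60) (ke xe12 ye24 ze7) (ke xe27 ye56 ze9) (ke xe9 ye59 ze61) (ke xe27 ye54 ze33) (ke xe10 ye0 ze1) (ke xe10 ye0 ze2) (ke xe18 ye37 ze4) (ke xe27 ye56 ze12) (ke xe21 ye26 ze14) (ke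 xe17 ye31 ze6) (ke xe10 ye0 ze6)) (@D3.rec (fun _ => Pt) (ke xe12 ye43 ze58) (ke xe25 ye40 ze19) (ke xe27 ye40 ze46) (ke xe18 ye50 ze36) (ke xe10 ye0 ze10) (ke xe11 ye30 ze37) (ke xe27 ye41 ze5) (ke xe11 ye30 ze38) (ke xe26 ye56 ze37) (ke xe10 ye0 ze16) (ke xe27 ye41 ze6) (ke xe21 ye42 ze33) (ke xe17 ye59 ze34) (ke xe26 ye16 ze25) (ke xe21 ye42 ze45) (ke xe10 ye0 ze20) (ke xe27 ye35 ze31) (ke xe17 ye54 ze4) (ke xe17 ye5 ze52) (ke xe27 ye56 ze20) (ke xe27 ye56 ze21) (ke xe27 ye56 ze22) (ke xe10 ye0 ze23) (ke xe27 ye56 ze24) (ke xe10 ye0 ze26) (ke xe23 ye47 ze25) (ke xe18 ye38 ze16) (ke xe20 ye53 ze16) (ke xe12 ye14 ze48) (ke xe11 ye50 ze48) (ke xe18 ye38 ze30) (ke xe10 ye0 ze33) (ke xe18 ye38 ze27) (ke xe26 ye18 ze23) (ke xe27 ye37 ze58) (ke xe27 ye56 ze32) (ke xe18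 ye10 ze14) (ke xe18 ye10 ze15) (ke xe26 ye15 ze48) (ke xe10 ye0 ze41) (ke xe10 ye42 ze42) (ke xe10 ye35 ze25) (ke xe17 ye50 ze30) (ke xe15 ye48 ze32) (ke xe21 ye47 ze49) (ke xe12 ye47 ze53) (ke xe10 ye0 ze44) (ke xe11 ye48 ze60) (ke xe18 ye0 ze61) (ke xe10 ye35 ze37) (ke xe27 ye38 ze54) (ke xe10 ye0 ze47) (ke xe19 ye55 ze57) (ke xe14 ye21 ze37) (ke xe19 ye5 ze44) (ke xe23 ye2 ze61) (ke xe10 ye0 ze49) (ke xe10 ye0 ze50) (ke xe19 ye56 ze38) (ke xe16 ye50 ze14) (ke xe15 ye22 ze53) (ke xe14 ye37 ze26)) (@D3.rec (fun _ => Pt) (ke xe11 ye3 ze4) (ke xe14 ye39 ze61) (ke xe27 ye56 ze48) (ke xe27 ye56 ze49) (ke xe19 ye48 ze25) (ke xe10 ye0 ze56) (ke xe10 ye0 ze57) (ke xe27 ye56 ze51) (ke xe26 ye47 ze9) (ke xe24 ye54 ze19) (ke xe24 ye45 ze28) (ke xe27 ye56 ze58) (ke xe10 ye0 ze59)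 (ke xe10 ye0 ze60) (ke xe14 ye11 ze23) (ke xe27 ye56 ze61) (ke xe27 ye57 ze0) (ke xe26 ye48 ze18) (ke xe16 ye39 ze1) (ke xe27 ye57 ze3) (ke xe10 ye1 ze1) (ke xe23 ye52 ze36) (ke xe10 ye1 ze2) (ke xe21 ye22 ze18) (ke xe25 ye2 ze34) (ke xe10 ye1 ze3) (ke xe23 ye35 ze8) (ke xe14 ye0 ze45) (ke xe27 ye57 ze12) (ke xe27 ye57 ze14) (ke xe10 ye1 ze5) (ke xe27 ye57 ze15) (ke xe13 ye53 ze1) (ke xe18 ye1 ze0) (ke xe27 ye57 ze17) (ke xe27 ye57 ze19) (ke xe10 ye1 ze10) (ke xe18 ye40 ze19) (ke xe27 ye57 ze22) (ke xe21 ye29 ze54) (ke xe10 ye1 ze9) (ke xe16 ye25 ze16) (ke xe17 ye56 ze11) (ke xe19 ye31 ze2) (ke xe10 ye1 ze13) (ke xe25 ye37 ze44) (ke xe10 ye1 ze14) (ke xe14 ye59 ze41) (ke xe27 ye57 ze28) (ke xe18 ye40 ze36) (ke xe10 ye1 ze18) (ke xe27 ye42 ze11) (ke xe27 ye57 ze34) (ke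 xe18 ye40 ze41) (ke xe27 ye57 ze36) (ke xe10 ye1 ze20) (ke xe14 ye59 ze50) (ke xe27 ye57 ze40) (ke xe18 ye22 ze55) (ke xe27 ye57 ze42) (ke xe10 ye1 ze25) (ke xe27 ye57 ze47)) (@D3.rec (fun _ => Pt) (ke xe26 ye30 ze11) (ke xe18 ye22 ze59) (ke xe27 ye57 ze48) (ke xe27 ye3 ze30) (ke xe10 ye1 ze28) (ke xe23 ye13 ze55) (ke xe10 ye1 ze30) (ke xe27 ye57 ze55) (ke xe27 ye57 ze56) (ke xe10 ye1 ze31) (ke xe23 ye13 ze47) (ke xe27 ye57 ze59) (ke xe18 ye40 ze48) (ke xe15 ye12 ze51) (ke xe19 ye47 ze33) (ke xe27 ye57 ze60) (ke xe10 ye1 ze33) (ke xe14 ye0 ze31) (ke xe27 ye47 ze56) (ke xe16 ye11 ze46) (ke xe18 ye40 ze60) (ke xe22 ye57 ze38) (ke xe22 ye30 ze14) (ke xe23 ye7 ze23) (ke xe27 ye58 ze14) (ke xe14 ye59 ze23) (ke xe10 ye1 ze36) (ke xe18 ye49 ze10) (ke xe18 ye38 ze38) (ke xe10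 ye3 ze27) (ke xe27 ye40 ze17) (ke xe27 ye58 ze16) (ke xe10 ye1 ze39) (ke xe20 ye6 ze32) (ke xe18 ye38 ze42) (ke xe20 ye34 ze44) (ke xe10 ye3 ze28) (ke xe19 ye0 ze34) (ke xe13 ye30 ze10) (ke xe27 ye58 ze26) (ke xe22 ye51 ze60) (ke xe27 ye58 ze27) (ke xe19 ye46 ze52) (ke xe10 ye1 ze45) (ke xe10 ye1 ze46) (ke xe18 ye39 ze2) (ke xe27 ye58 ze29) (ke xe27 ye58 ze33) (ke xe23 ye6 ze48) (ke xe16 ye32 ze53) (ke xe26 ye21 ze49) (ke xe10 ye3 ze24) (ke xe10 ye1 ze51) (ke xe10 ye1 ze52) (ke xe20 ye36 ze27) (ke xe10 ye1 ze54) (ke xe18 ye59 ze12) (ke xe10 ye1 ze55) (ke xe10 ye1 ze56) (ke xe18 ye38 ze48) (ke xe23 ye6 ze24) (ke xe10 ye1 ze58)) (@D3.rec (fun _ => Pt) (ke xe10 ye2 ze0) (ke xe18 ye38 ze56) (ke xe26 ye57 ze44) (ke xe21 ye29 ze57) (ke xe20 ye1 ze1) (ke xe10 ye1 ze61) (ke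 xe27 ye58 ze50) (ke xe13 ye49 ze28) (ke xe27 ye58 ze45) (ke xe12 ye22 ze1) (ke xe17 ye45 ze57) (ke xe18 ye39 ze3) (ke xe27 ye58 ze55) (ke xe19 ye50 ze7) (ke xe19 ye42 ze28) (ke xe27 ye58 ze59) (ke xe19 ye11 ze48) (ke xe27 ye59 ze0) (ke xe10 ye2 ze6) (ke xe10 ye2 ze7) (ke xe27 ye11 ze18) (ke xe27 ye59 ze4) (ke xe10 ye3 ze48) (ke xe18 ye49 ze9) (ke xe18 ye39 ze7) (ke xe19 ye44 ze12) (ke xe27 ye59 ze10) (ke xe27 ye59 ze12) (ke xe10 ye2 ze13) (ke xe10 ye2 ze14) (ke xe11 ye38 ze48) (ke xe18 ye10 ze27) (ke xe12 ye28 ze30) (ke xe18 ye10 ze16) (ke xe18 ye54 ze10) (ke xe10 ye41 ze8) (ke xe19 ye42 ze30) (ke xe27 ye38 ze35) (ke xe10 ye39 ze61) (ke xe10 ye2 ze24) (ke xe10 ye2 ze25) (ke xe21 ye6 ze55) (ke xe10 ye3 ze44) (ke xe27 ye59 ze19) (ke xe19 ye18 ze3) (ke xe21 ye15 ze17)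 (ke xe10 ye2 ze28) (ke xe18 ye39 ze24) (ke xe18 ye39 ze21) (ke xe21 ye7 ze49) (ke xe12 ye13 ze2) (ke xe16 ye21 ze3) (ke xe12 ye27 ze32) (ke xe18 ye39 ze25) (ke xe27 ye59 ze27) (ke xe22 ye52 ze4) (ke xe12 ye42 ze47) (ke xe10 ye2 ze32) (ke xe10 ye41 ze6) (ke xe14 ye13 ze29) (ke xe18 ye13 ze1) (ke xe18 ye11 ze4)) (@D3.rec (fun _ => Pt) (ke xe27 ye59 ze34) (ke xe10 ye2 ze37) (ke xe10 ye2 ze39) (ke xe13 ye1 ze51) (ke xe17 ye53 ze48) (ke xe11 ye59 ze10) (ke xe12 ye4 ze1) (ke xe21 ye28 ze43) (ke xe10 ye2 ze51) (ke xe27 ye59 ze36) (ke xe10 ye2 ze53) (ke xe12 ye23 ze39) (ke xe27 ye59 ze38) (ke xe10 ye2 ze55) (ke xe27 ye59 ze40) (ke xe27 ye0 ze54) (ke xe27 ye59 ze42) (ke xe10 ye2 ze56) (ke xe21 ye38 ze26) (ke xe27 ye59 ze49) (ke xe27 ye59 ze45) (ke xe18 ye42 ze9) (ke xe20 ye22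 ze32) (ke xe14 ye12 ze54) (ke xe27 ye59 ze54) (ke xe24 ye2 ze49) (ke xe16 ye53 ze38) (ke xe10 ye2 ze59) (ke xe16 ye8 ze55) (ke xe20 ye12 ze26) (ke xe10 ye2 ze61) (ke xe11 ye35 ze40) (ke xe27 ye59 ze56) (ke xe27 ye59 ze58) (ke xe10 ye3 ze3) (ke xe27 ye1 ze6) (ke xe11 ye36 ze3) (ke xe15 ye14 ze27) (ke xe15 ye12 ze30) (ke xe26 ye13 ze9) (ke xe27 ye59 ze60) (ke xe22 ye29 ze10) (ke xe10 ye3 ze8) (ke xe10 ye3 ze9) (ke xe22 ye29 ze8) (ke xe28 ye0 ze0) (ke xe12 ye6 ze37) (ke xe27 ye58 ze36) (ke xe28 ye0 ze2) (ke xe13 ye29 ze21) (ke xe10 ye3 ze15) (ke xe14 ye58 ze29) (ke xe28 ye0 ze3) (ke xe10 ye3 ze20) (ke xe20 ye45 ze22) (ke xe10 ye3 ze21) (ke xe23 ye6 ze22) (ke xe28 ye0 ze4) (ke xe18 ye38 ze51) (ke xe24 ye28 ze28) (ke xe10 ye3 ze25) (ke xe18 ye38 ze55)) (@D3.rec (fun _ =>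 Pt) (ke xe23 ye6 ze49) (ke xe28 ye0 ze14) (ke xe14 ye25 ze43) (ke xe28 ye0 ze16) (ke xe28 ye0 ze10) (ke xe27 ye0 ze1) (ke xe27 ye58 ze20) (ke xe28 ye0 ze20) (ke xe16 ye42 ze36) (ke xe16 ye42 ze41) (ke xe10 ye47 ze58) (ke xe26 ye36 ze32) (ke xe10 ye3 ze33) (ke xe26 ye34 ze48) (ke xe10 ye3 ze34) (ke xe27 ye37 ze35) (ke xe21 ye43 ze40) (ke xe28 ye0 ze24) (ke xe27 ye59 ze20) (ke xe13 ye14 ze5) (ke xe27 ye59 ze18) (ke xe22 ye51 ze61) (ke xe21 ye48 ze52) (ke xe10 ye20 ze15) (ke xe18 ye53 ze6) (ke xe14 ye13 ze28) (ke xe16 ye49 ze10) (ke xe10 ye46 ze30) (ke xe10 ye48 ze6) (ke xe11 ye39 ze12) (ke xe10 ye3 ze55) (ke xe11 ye35 ze36) (ke xe12 ye49 ze23) (ke xe10 ye3 ze57) (ke xe28 ye0 ze25) (ke xe10 ye3 ze58) (ke xe10 ye3 ze59) (ke xe11 ye36 ze0) (ke xe12 ye1 ze29) (ke xe11 ye40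 ze59) (ke xe11 ye59 ze4) (ke xe10 ye4 ze3) (ke xe18 ye22 ze49) (ke xe10 ye4 ze7) (ke xe21 ye30 ze13) (ke xe10 ye4 ze8) (ke xe13 ye49 ze45) (ke xe10 ye4 ze9) (ke xe27 ye3 ze31) (ke xe18 ye22 ze42) (ke xe18 ye42 ze27) (ke xe17 ye39 ze39) (ke xe10 ye4 ze11) (ke xe23 ye16 ze55) (ke xe19 ye1 ze47) (ke xe18 ye18 ze58) (ke xe27 ye4 ze44) (ke xe10 ye4 ze13) (ke xe26 ye25 ze3) (ke xe18 ye19 ze1) (ke xe13 ye0 ze21) (ke xe10 ye4 ze15)) (@D3.rec (fun _ => Pt) (ke xe27 ye39 ze7) (ke xe10 ye4 ze16) (ke xe23 ye20 ze50) (ke xe14 ye1 ze7) (ke xe10 ye4 ze17) (ke xe18 ye42 ze35) (ke xe10 ye4 ze19) (ke xe28 ye0 ze40) (ke xe18 ye59 ze21) (ke xe10 ye4 ze22) (ke xe23 ye58 ze7) (ke xe19 ye11 ze55) (ke xe18 ye42 ze52) (ke xe12 ye9 ze47) (ke xe16 ye57 ze42) (ke xe17 ye31 ze22) (ke xe21 ye51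 ze24) (ke xe10 ye4 ze30) (ke xe28 ye0 ze47) (ke xe20 ye26 ze7) (ke xe12 ye44 ze12) (ke xe17 ye10 ze6) (ke xe18 ye0 ze18) (ke xe20 ye54 ze12) (ke xe17 ye7 ze21) (ke xe21 ye57 ze45) (ke xe11 ye6 ze36) (ke xe14 ye33 ze12) (ke xe14 ye20 ze3) (ke xe13 ye1 ze5) (ke xe12 ye32 ze18) (ke xe20 ye26 ze50) (ke xe10 ye4 ze50) (ke xe14 ye20 ze16) (ke xe10 ye4 ze54) (ke xe21 ye7 ze37) (ke xe11 ye29 ze41) (ke xe20 ye26 ze61) (ke xe10 ye4 ze61) (ke xe25 ye18 ze24) (ke xe10 ye5 ze0) (ke xe21 ye29 ze1) (ke xe28 ye0 ze49) (ke xe10 ye5 ze3) (ke xe25 ye16 ze4) (ke xe10 ye5 ze5) (ke xe20 ye32 ze41) (ke xe10 ye5 ze6) (ke xe15 ye26 ze20) (ke xe28 ye0 ze55) (ke xe23 ye32 ze35) (ke xe15 ye8 ze11) (ke xe10 ye5 ze7) (ke xe23 ye15 ze42) (ke xe20 ye32 ze11) (ke xe13 ye50 ze61) (ke xe11 ye37 ze32)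 (ke xe19 ye51 ze24) (ke xe23 ye31 ze23) (ke xe10 ye5 ze41) (ke xe12 ye44 ze20) (ke xe12 ye43 ze52)) (@D3.rec (fun _ => Pt) (ke xe10 ye7 ze11) (ke xe21 ye41 ze60) (ke xe10 ye5 ze21) (ke xe10 ye5 ze23) (ke xe28 ye0 ze59) (ke xe22 ye47 ze10) (ke xe18 ye37 ze39) (ke xe20 ye26 ze8) (ke xe10 ye5 ze29) (ke xe18 ye37 ze22) (ke xe10 ye5 ze31) (ke xe11 ye58 ze61) (ke xe13 ye2 ze17) (ke xe10 ye5 ze33) (ke xe17 ye15 ze57) (ke xe17 ye3 ze59) (ke xe10 ye5 ze34) (ke xe24 ye19 ze59) (ke xe21 ye26 ze53) (ke xe10 ye5 ze35) (ke xe18 ye36 ze43) (ke xe21 ye20 ze24) (ke xe10 ye10 ze45) (ke xe17 ye15 ze50) (ke xe10 ye5 ze38) (ke xe14 ye35 ze57) (ke xe10 ye5 ze43) (ke xe11 ye27 ze0) (ke xe19 ye0 ze2) (ke xe10 ye5 ze44) (ke xe28 ye1 ze7) (ke xe27 ye9 ze14) (ke xe14 ye13 ze50) (ke xe27 ye41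 ze29) (ke xe10 ye5 ze47) (ke xe20 ye33 ze5) (ke xe11 ye45 ze18) (ke xe12 ye37 ze47) (ke xe10 ye6 ze16) (ke xe17 ye45 ze13) (ke xe10 ye5 ze53) (ke xe10 ye6 ze17) (ke xe26 ye10 ze40) (ke xe10 ye5 ze55) (ke xe27 ye31 ze39) (ke xe27 ye0 ze50) (ke xe11 ye38 ze31) (ke xe12 ye37 ze31) (ke xe12 ye20 ze41) (ke xe12 ye24 ze41) (ke xe10 ye5 ze58) (ke xe10 ye5 ze61) (ke xe10 ye6 ze1) (ke xe28 ye1 ze12) (ke xe28 ye1 ze13) (ke xe10 ye6 ze2) (ke xe12 ye31 ze61) (ke xe28 ye1 ze15) (ke xe20 ye22 ze58) (ke xe21 ye47 ze47) (ke xe12 ye27 ze39) (ke xe16 ye16 ze44)) (@D3.rec (fun _ => Pt) (ke xe10 ye6 ze6) (ke xe17 ye16 ze2) (ke xe12 ye27 ze46) (ke xe28 ye1 ze18) (ke xe22 ye9 ze61) (ke xe12 ye28 ze23) (ke xe11 ye38 ze56) (ke xe17 ye9 ze12) (ke xe10 ye6 ze9) (ke xe28 ye1 ze19) (ke xe15 ye4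 ze35) (ke xe10 ye6 ze10) (ke xe28 ye1 ze21) (ke xe10 ye6 ze12) (ke xe21 ye3 ze11) (ke xe17 ye10 ze57) (ke xe27 ye42 ze19) (ke xe21 ye24 ze10) (ke xe12 ye24 ze1) (ke xe25 ye18 ze54) (ke xe10 ye6 ze18) (ke xe10 ye6 ze19) (ke xe10 ye6 ze20) (ke xe21 ye51 ze60) (ke xe12 ye43 ze43) (ke xe10 ye6 ze23) (ke xe28 ye1 ze26) (ke xe11 ye18 ze12) (ke xe10 ye6 ze25) (ke xe18 ye37 ze61) (ke xe25 ye43 ze1) (ke xe10 ye6 ze26) (ke xe24 ye36 ze16) (ke xe10 ye6 ze28) (ke xe12 ye27 ze25) (ke xe25 ye17 ze57) (ke xe10 ye6 ze31) (ke xe26 ye58 ze22) (ke xe20 ye14 ze23) (ke xe10 ye6 ze36) (ke xe27 ye4 ze10) (ke xe10 ye6 ze33) (ke xe10 ye6 ze37) (ke xe28 ye1 ze33) (ke xe12 ye42 ze45) (ke xe12 ye31 ze25) (ke xe19 ye58 ze32) (ke xe11 ye31 ze20) (ke xe28 ye1 ze35) (ke xe10 ye6 ze43) (ke xe21 ye3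 ze9) (ke xe10 ye6 ze44) (ke xe20 ye40 ze23) (ke xe16 ye47 ze15) (ke xe18 ye43 ze43) (ke xe23 ye48 ze1) (ke xe20 ye19 ze56) (ke xe10 ye6 ze46) (ke xe21 ye0 ze11) (ke xe17 ye58 ze19) (ke xe17 ye54 ze47) (ke xe10 ye6 ze47)) (@D3.rec (fun _ => Pt) (ke xe17 ye12 ze44) (ke xe10 ye7 ze14) (ke xe18 ye43 ze33) (ke xe21 ye13 ze12) (ke xe11 ye22 ze2) (ke xe18 ye2 ze18) (ke xe10 ye7 ze1) (ke xe21 ye47 ze19) (ke xe21 ye47 ze55) (ke xe11 ye16 ze42) (ke xe10 ye7 ze2) (ke xe20 ye42 ze25) (ke xe18 ye37 ze49) (ke xe21 ye6 ze49) (ke xe28 ye1 ze42) (ke xe21 ye35 ze54) (ke xe10 ye7 ze4) (ke xe10 ye7 ze5) (ke xe12 ye23 ze58) (ke xe18 ye37 ze55) (ke xe10 ye7 ze9) (ke xe14 ye33 ze15) (ke xe11 ye22 ze15) (ke xe10 ye7 ze15) (ke xe15 ye30 ze55) (ke xe13 ye18 ze33) (ke xe28 ye1 ze45) (ke xe10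 ye7 ze25) (ke xe27 ye31 ze47) (ke xe25 ye1 ze34) (ke xe21 ye26 ze8) (ke xe21 ye26 ze2) (ke xe10 ye7 ze27) (ke xe10 ye7 ze28) (ke xe25 ye3 ze36) (ke xe18 ye4 ze38) (ke xe15 ye54 ze4) (ke xe18 ye30 ze24) (ke xe18 ye30 ze28) (ke xe18 ye4 ze43) (ke xe28 ye1 ze50) (ke xe27 ye35 ze41) (ke xe17 ye44 ze20) (ke xe22 ye28 ze31) (ke xe10 ye7 ze34) (ke xe16 ye20 ze42) (ke xe28 ye1 ze52) (ke xe28 ye1 ze53) (ke xe23 ye45 ze25) (ke xe10 ye7 ze35) (ke xe10 ye7 ze36) (ke xe15 ye19 ze53) (ke xe28 ye1 ze60) (ke xe27 ye29 ze9) (ke xe28 ye2 ze0) (ke xe15 ye12 ze26) (ke xe10 ye7 ze38) (ke xe10 ye7 ze39) (ke xe28 ye2 ze2) (ke xe13 ye19 ze54) (ke xe28 ye2 ze4) (ke xe10 ye7 ze41)) (@D3.rec (fun _ => Pt) (ke xe26 ye15 ze50) (ke xe14 ye9 ze32) (ke xe10 ye7 ze44) (ke xe28 ye2 ze9) (ke xe28 ye2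 ze12) (ke xe28 ye2 ze6) (ke xe25 ye1 ze0) (ke xe28 ye2 ze15) (ke xe25 ye0 ze26) (ke xe16 ye19 ze14) (ke xe28 ye2 ze20) (ke xe10 ye7 ze48) (ke xe19 ye59 ze39) (ke xe15 ye6 ze27) (ke xe16 ye15 ze14) (ke xe28 ye2 ze26) (ke xe10 ye7 ze52) (ke xe18 ye5 ze15) (ke xe19 ye0 ze6) (ke xe10 ye7 ze56) (ke xe19 ye56 ze49) (ke xe15 ye22 ze56) (ke xe23 ye37 ze46) (ke xe23 ye37 ze49) (ke xe10 ye7 ze60) (ke xe10 ye7 ze61) (ke xe27 ye48 ze57) (ke xe18 ye3 ze21) (ke xe27 ye27 ze8) (ke xe24 ye29 ze34) (ke xe17 ye36 ze33) (ke xe23 ye20 ze32) (ke xe10 ye8 ze4) (ke xe24 ye54 ze4) (ke xe26 ye12 ze6) (ke xe10 ye8 ze2) (ke xe17 ye41 ze20) (ke xe28 ye2 ze36) (ke xe17 ye41 ze23) (ke xe10 ye8 ze6) (ke xe18 ye3 ze18) (ke xe27 ye47 ze57) (ke xe19 ye56 ze55) (ke xe16 ye50 ze11) (ke xe10 ye8 ze13)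 (ke xe13 ye0 ze20) (ke xe10 ye37 ze29) (ke xe19 ye55 ze6) (ke xe20 ye24 ze22) (ke xe25 ye38 ze26) (ke xe28 ye2 ze39) (ke xe18 ye5 ze48) (ke xe22 ye35 ze3) (ke xe28 ye2 ze43) (ke xe10 ye8 ze15) (ke xe19 ye41 ze4) (ke xe27 ye2 ze11) (ke xe10 ye21 ze38) (ke xe12 ye50 ze31) (ke xe28 ye2 ze29) (ke xe15 ye51 ze7) (ke xe10 ye8 ze18)) (@D3.rec (fun _ => Pt) (ke xe28 ye2 ze50) (ke xe28 ye2 ze52) (ke xe10 ye8 ze20) (ke xe18 ye5 ze59) (ke xe18 ye5 ze60) (ke xe28 ye2 ze54) (ke xe10 ye8 ze22) (ke xe16 ye18 ze10) (ke xe28 ye2 ze58) (ke xe28 ye2 ze13) (ke xe10 ye8 ze23) (ke xe14 ye59 ze8) (ke xe28 ye2 ze38) (ke xe21 ye4 ze35) (ke xe21 ye25 ze25) (ke xe10 ye8 ze25) (ke xe23 ye44 ze12) (ke xe10 ye8 ze26) (ke xe28 ye3 ze10) (ke xe10 ye9 ze19) (ke xe10 ye8 ze30) (ke xe16 ye17 ze47) (ke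 xe18 ye6 ze35) (ke xe24 ye46 ze47) (ke xe16 ye22 ze52) (ke xe26 ye14 ze14) (ke xe24 ye55 ze16) (ke xe28 ye3 ze11) (ke xe26 ye12 ze57) (ke xe18 ye6 ze40) (ke xe24 ye47 ze50) (ke xe17 ye39 ze31) (ke xe27 ye31 ze8) (ke xe28 ye3 ze28) (ke xe10 ye8 ze34) (ke xe10 ye8 ze36) (ke xe16 ye22 ze60) (ke xe22 ye55 ze49) (ke xe10 ye8 ze41) (ke xe26 ye14 ze59) (ke xe14 ye57 ze46) (ke xe22 ye55 ze36) (ke xe10 ye8 ze42) (ke xe14 ye58 ze0) (ke xe24 ye28 ze26) (ke xe16 ye18 ze34) (ke xe23 ye35 ze38) (ke xe25 ye0 ze37) (ke xe18 ye6 ze9) (ke xe27 ye38 ze47) (ke xe10 ye8 ze47) (ke xe18 ye6 ze18) (ke xe28 ye2 ze55) (ke xe28 ye3 ze33) (ke xe25 ye0 ze33) (ke xe10 ye8 ze50) (ke xe18 ye6 ze46) (ke xe18 ye6 ze47) (ke xe28 ye3 ze4) (ke xe22 ye35 ze0) (ke xe24 ye55 ze7) (ke xe25 ye0 ze58)) (@D3.rec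 (fun _ => Pt) (ke xe27 ye28 ze54) (ke xe10 ye11 ze38) (ke xe15 ye14 ze37) (ke xe18 ye7 ze10) (ke xe18 ye7 ze11) (ke xe21 ye25 ze23) (ke xe24 ye56 ze14) (ke xe19 ye22 ze27) (ke xe10 ye13 ze40) (ke xe10 ye8 ze58) (ke xe14 ye9 ze41) (ke xe28 ye3 ze44) (ke xe27 ye30 ze50) (ke xe13 ye2 ze39) (ke xe10 ye9 ze2) (ke xe23 ye51 ze26) (ke xe28 ye2 ze7) (ke xe10 ye9 ze3) (ke xe28 ye3 ze47) (ke xe10 ye9 ze4) (ke xe21 ye47 ze24) (ke xe10 ye9 ze5) (ke xe28 ye3 ze51) (ke xe21 ye25 ze0) (ke xe27 ye44 ze40) (ke xe10 ye9 ze6) (ke xe28 ye3 ze55) (ke xe18 ye7 ze49) (ke xe18 ye54 ze23) (ke xe28 ye3 ze31) (ke xe10 ye9 ze8) (ke xe18 ye7 ze44) (ke xe22 ye9 ze2) (ke xe24 ye13 ze61) (ke xe28 ye3 ze60) (ke xe10 ye9 ze9) (ke xe21 ye54 ze50) (ke xe10 ye9 ze10) (ke xe28 ye4 ze0) (ke xe10 ye9 ze11)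 (ke xe17 ye30 ze27) (ke xe12 ye27 ze30) (ke xe28 ye3 ze26) (ke xe24 ye41 ze50) (ke xe10 ye9 ze13) (ke xe17 ye55 ze25) (ke xe28 ye4 ze5) (ke xe27 ye38 ze24) (ke xe10 ye9 ze15) (ke xe23 ye43 ze21) (ke xe24 ye32 ze33) (ke xe10 ye9 ze16) (ke xe23 ye2 ze5) (ke xe23 ye44 ze32) (ke xe25 ye35 ze9) (ke xe27 ye35 ze53) (ke xe18 ye3 ze58) (ke xe24 ye59 ze28) (ke xe15 ye12 ze61) (ke xe15 ye14 ze47) (ke xe25 ye1 ze25) (ke xe23 ye43 ze58)) (@D3.rec (fun _ => Pt) (ke xe14 ye9 ze59) (ke xe10 ye9 ze21) (ke xe21 ye25 ze9) (ke xe15 ye9 ze60) (ke xe23 ye43 ze26) (ke xe28 ye3 ze9) (ke xe27 ye30 ze42) (ke xe10 ye9 ze23) (ke xe23 ye42 ze49) (ke xe27 ye25 ze9) (ke xe10 ye9 ze24) (ke xe28 ye4 ze19) (ke xe27 ye45 ze0) (ke xe10 ye9 ze26) (ke xe27 ye28 ze39) (ke xe28 ye4 ze24) (ke xe10 ye9 ze27)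 (ke xe27 ye40 ze11) (ke xe16 ye18 ze30) (ke xe25 ye2 ze60) (ke xe18 ye31 ze57) (ke xe14 ye59 ze10) (ke xe18 ye4 ze26) (ke xe18 ye31 ze58) (ke xe18 ye26 ze37) (ke xe10 ye9 ze32) (ke xe28 ye4 ze30) (ke xe10 ye9 ze33) (ke xe18 ye26 ze38) (ke xe28 ye4 ze31) (ke xe28 ye4 ze32) (ke xe24 ye53 ze56) (ke xe28 ye4 ze35) (ke xe10 ye9 ze37) (ke xe10 ye9 ze38) (ke xe28 ye4 ze38) (ke xe28 ye4 ze42) (ke xe27 ye33 ze55) (ke xe26 ye4 ze23) (ke xe28 ye4 ze48) (ke xe10 ye9 ze40) (ke xe10 ye9 ze41) (ke xe27 ye56 ze33) (ke xe28 ye4 ze51) (ke xe18 ye9 ze11) (ke xe10 ye38 ze21) (ke xe19 ye32 ze34) (ke xe10 ye38 ze11) (ke xe20 ye11 ze3) (ke xe28 ye4 ze57) (ke xe22 ye49 ze50) (ke xe28 ye4 ze59) (ke xe10 ye9 ze48) (ke xe10 ye9 ze49) (ke xe28 ye5 ze2) (ke xe18 ye8 ze58) (ke xe28 ye4 ze61) (ke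 xe10 ye11 ze9) (ke xe27 ye33 ze39) (ke xe18 ye9 ze1) (ke xe18 ye46 ze21) (ke xe28 ye5 ze13)) (@D3.rec (fun _ => Pt) (ke xe28 ye5 ze14) (ke xe20 ye21 ze21) (ke xe18 ye34 ze44) (ke xe10 ye9 ze56) (ke xe10 ye9 ze57) (ke xe18 ye9 ze50) (ke xe18 ye34 ze43) (ke xe28 ye5 ze21) (ke xe28 ye5 ze25) (ke xe28 ye5 ze26) (ke xe10 ye9 ze59) (ke xe10 ye11 ze6) (ke xe28 ye5 ze31) (ke xe16 ye20 ze36) (ke xe27 ye34 ze11) (ke xe10 ye9 ze61) (ke xe27 ye55 ze9) (ke xe18 ye13 ze28) (ke xe28 ye5 ze37) (ke xe10 ye10 ze1) (ke xe11 ye23 ze33) (ke xe10 ye10 ze2) (ke xe18 ye34 ze35) (ke xe23 ye47 ze57) (ke xe28 ye5 ze43) (ke xe28 ye5 ze44) (ke xe10 ye10 ze4) (ke xe28 ye5 ze47) (ke xe10 ye10 ze6) (ke xe28 ye5 ze52) (ke xe10 ye10 ze7) (ke xe28 ye5 ze58) (ke xe28 ye5 ze61) (ke xe10 ye10 ze11) (ke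 xe18 ye12 ze19) (ke xe18 ye9 ze41) (ke xe27 ye55 ze2) (ke xe26 ye27 ze22) (ke xe28 ye6 ze7) (ke xe10 ye10 ze10) (ke xe27 ye32 ze27) (ke xe28 ye6 ze11) (ke xe27 ye32 ze30) (ke xe18 ye9 ze8) (ke xe18 ye9 ze51) (ke xe28 ye6 ze5) (ke xe10 ye10 ze15) (ke xe28 ye6 ze21) (ke xe28 ye6 ze22) (ke xe10 ye10 ze16) (ke xe26 ye14 ze44) (ke xe28 ye6 ze25) (ke xe28 ye6 ze26) (ke xe10 ye10 ze18) (ke xe25 ye3 ze35) (ke xe18 ye9 ze60) (ke xe26 ye20 ze45) (ke xe18 ye30 ze20) (ke xe18 ye30 ze23) (ke xe18 ye10 ze1) (ke xe18 ye10 ze2) (ke xe16 ye19 ze5)) (@D3.rec (fun _ => Pt) (ke xe26 ye4 ze25) (ke xe23 ye23 ze60) (ke xe10 ye10 ze23) (ke xe10 ye10 ze24) (ke xe20 ye38 ze25) (ke xe18 ye10 ze11) (ke xe10 ye11 ze28) (ke xe12 ye2 ze30) (ke xe11 ye55 ze49) (ke xe18 ye38 ze35) (ke xe28 ye6 ze42)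 (ke xe28 ye6 ze43) (ke xe10 ye10 ze30) (ke xe27 ye36 ze19) (ke xe28 ye6 ze44) (ke xe10 ye10 ze31) (ke xe10 ye10 ze33) (ke xe28 ye6 ze49) (ke xe27 ye55 ze22) (ke xe28 ye6 ze54) (ke xe11 ye21 ze22) (ke xe10 ye10 ze34) (ke xe27 ye56 ze36) (ke xe10 ye11 ze25) (ke xe27 ye38 ze28) (ke xe28 ye6 ze59) (ke xe28 ye6 ze60) (ke xe10 ye10 ze37) (ke xe17 ye42 ze24) (ke xe27 ye42 ze48) (ke xe18 ye12 ze48) (ke xe11 ye58 ze27) (ke xe10 ye10 ze39) (ke xe23 ye47 ze17) (ke xe20 ye22 ze57) (ke xe20 ye19 ze14) (ke xe18 ye12 ze57) (ke xe18 ye10 ze58) (ke xe18 ye10 ze59) (ke xe28 ye1 ze0) (ke xe28 ye1 ze1) (ke xe18 ye11 ze8) (ke xe17 ye48 ze16) (ke xe18 ye11 ze10) (ke xe18 ye10 ze21) (ke xe28 ye7 ze6) (ke xe10 ye10 ze50) (ke xe27 ye37 ze60) (ke xe26 ye18 ze15) (ke xe10 ye10 ze53) (ke xe23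 ye36 ze52) (ke xe10 ye10 ze54) (ke xe28 ye6 ze23) (ke xe18 ye11 ze42) (ke xe11 ye16 ze5) (ke xe18 ye9 ze10) (ke xe18 ye11 ze45) (ke xe28 ye7 ze19) (ke xe21 ye12 ze42) (ke xe10 ye10 ze59) (ke xe27 ye53 ze51) (ke xe27 ye49 ze42)) (@D3.rec (fun _ => Pt) (ke xe18 ye9 ze20) (ke xe19 ye12 ze4) (ke xe17 ye50 ze50) (ke xe10 ye11 ze0) (ke xe28 ye7 ze26) (ke xe10 ye11 ze1) (ke xe28 ye7 ze30) (ke xe10 ye11 ze2) (ke xe28 ye7 ze31) (ke xe28 ye7 ze32) (ke xe10 ye11 ze3) (ke xe28 ye5 ze39) (ke xe28 ye7 ze35) (ke xe17 ye42 ze35) (ke xe28 ye7 ze41) (ke xe28 ye7 ze42) (ke xe10 ye11 ze7) (ke xe18 ye9 ze40) (ke xe28 ye5 ze29) (ke xe28 ye7 ze44) (ke xe28 ye7 ze46) (ke xe28 ye7 ze48) (ke xe23 ye51 ze58) (ke xe18 ye35 ze19) (ke xe28 ye7 ze51) (ke xe19 ye59 ze31) (ke xe19 ye59 ze32) (ke xe10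 ye11 ze36) (ke xe15 ye34 ze56) (ke xe16 ye9 ze32) (ke xe19 ye59 ze28) (ke xe16 ye9 ze35) (ke xe10 ye11 ze13) (ke xe24 ye51 ze29) (ke xe24 ye51 ze28) (ke xe25 ye12 ze55) (ke xe10 ye11 ze16) (ke xe12 ye53 ze44) (ke xe27 ye35 ze40) (ke xe22 ye28 ze38) (ke xe17 ye30 ze18) (ke xe10 ye11 ze18) (ke xe26 ye13 ze39) (ke xe10 ye11 ze19) (ke xe18 ye12 ze47) (ke xe18 ye10 ze54) (ke xe12 ye35 ze10) (ke xe22 ye3 ze27) (ke xe28 ye6 ze46) (ke xe28 ye6 ze57) (ke xe16 ye9 ze18) (ke xe18 ye11 ze9) (ke xe28 ye6 ze35) (ke xe20 ye20 ze33) (ke xe15 ye17 ze48) (ke xe16 ye59 ze1) (ke xe10 ye48 ze53) (ke xe28 ye8 ze6) (ke xe17 ye46 ze0) (ke xe28 ye8 ze8) (ke xe27 ye53 ze8) (ke xe10 ye11 ze32)) (@D3.rec (fun _ => Pt) (ke xe10 ye11 ze33) (ke xe10 ye12 ze28) (ke xe28 ye7 ze45) (ke xe27 ye52 ze61)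 (ke xe18 ye14 ze26) (ke xe10 ye12 ze35) (ke xe17 ye41 ze53) (ke xe20 ye21 ze31) (ke xe28 ye8 ze20) (ke xe26 ye20 ze60) (ke xe25 ye0 ze52) (ke xe28 ye5 ze50) (ke xe28 ye8 ze24) (ke xe28 ye8 ze25) (ke xe10 ye11 ze40) (ke xe18 ye13 ze10) (ke xe28 ye8 ze29) (ke xe10 ye11 ze42) (ke xe28 ye8 ze33) (ke xe10 ye11 ze43) (ke xe27 ye32 ze17) (ke xe21 ye12 ze49) (ke xe28 ye8 ze35) (ke xe16 ye7 ze53) (ke xe22 ye20 ze11) (ke xe28 ye8 ze47) (ke xe10 ye11 ze48) (ke xe18 ye14 ze52) (ke xe27 ye34 ze16) (ke xe28 ye8 ze50) (ke xe28 ye8 ze53) (ke xe28 ye8 ze54) (ke xe10 ye11 ze47) (ke xe24 ye57 ze52) (ke xe28 ye8 ze48) (ke xe18 ye31 ze22) (ke xe17 ye42 ze8) (ke xe18 ye14 ze61) (ke xe27 ye34 ze21) (ke xe28 ye9 ze1) (ke xe17 ye42 ze12) (ke xe11 ye2 ze31) (ke xe10 ye11 ze53) (ke xe18 ye31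 ze6) (ke xe18 ye31 ze2) (ke xe10 ye11 ze54) (ke xe15 ye29 ze36) (ke xe28 ye9 ze8) (ke xe28 ye9 ze9) (ke xe10 ye11 ze57) (ke xe27 ye38 ze44) (ke xe17 ye46 ze21) (ke xe24 ye48 ze25) (ke xe10 ye12 ze44) (ke xe22 ye5 ze59) (ke xe18 ye42 ze55) (ke xe16 ye7 ze19) (ke xe27 ye54 ze42) (ke xe12 ye26 ze22) (ke xe10 ye12 ze1) (ke xe27 ye35 ze38) (ke xe27 ye36 ze45)) (@D3.rec (fun _ => Pt) (ke xe22 ye5 ze48) (ke xe10 ye12 ze2) (ke xe20 ye44 ze55) (ke xe10 ye42 ze12) (ke xe11 ye4 ze44) (ke xe11 ye51 ze16) (ke xe18 ye15 ze24) (ke xe17 ye40 ze15) (ke xe17 ye42 ze18) (ke xe12 ye25 ze18) (ke xe17 ye42 ze19) (ke xe10 ye14 ze1) (ke xe17 ye50 ze20) (ke xe17 ye12 ze32) (ke xe10 ye12 ze17) (ke xe19 ye0 ze27) (ke xe18 ye14 ze33) (ke xe24 ye53 ze50) (ke xe10 ye12 ze22) (ke xe18 ye33 ze23)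 (ke xe19 ye50 ze50) (ke xe10 ye12 ze24) (ke xe28 ye9 ze26) (ke xe10 ye12 ze29) (ke xe18 ye13 ze24) (ke xe24 ye53 ze47) (ke xe10 ye12 ze27) (ke xe28 ye9 ze29) (ke xe27 ye50 ze3) (ke xe27 ye49 ze37) (ke xe12 ye8 ze47) (ke xe28 ye9 ze32) (ke xe10 ye12 ze32) (ke xe28 ye8 ze15) (ke xe28 ye9 ze34) (ke xe10 ye12 ze37) (ke xe10 ye12 ze38) (ke xe26 ye39 ze35) (ke xe28 ye9 ze36) (ke xe10 ye12 ze43) (ke xe18 ye56 ze47) (ke xe10 ye13 ze49) (ke xe28 ye9 ze37) (ke xe10 ye12 ze47) (ke xe18 ye14 ze10) (ke xe28 ye9 ze38) (ke xe12 ye1 ze54) (ke xe10 ye12 ze51) (ke xe28 ye9 ze39) (ke xe26 ye19 ze4) (ke xe14 ye53 ze41) (ke xe10 ye12 ze52) (ke xe12 ye1 ze55) (ke xe16 ye20 ze18) (ke xe18 ye15 ze25) (ke xe27 ye1 ze31) (ke xe12 ye45 ze49) (ke xe21 ye45 ze7) (ke xe10 ye12 ze57) (ke xe10 ye12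 ze58) (ke xe10 ye13 ze22) (ke xe19 ye17 ze40)) (@D3.rec (fun _ => Pt) (ke xe28 ye9 ze45) (ke xe10 ye13 ze0) (ke xe16 ye20 ze25) (ke xe14 ye58 ze21) (ke xe25 ye59 ze30) (ke xe18 ye15 ze59) (ke xe28 ye9 ze52) (ke xe17 ye14 ze39) (ke xe22 ye29 ze15) (ke xe17 ye31 ze1) (ke xe10 ye13 ze3) (ke xe17 ye49 ze43) (ke xe21 ye12 ze17) (ke xe21 ye53 ze22) (ke xe10 ye13 ze4) (ke xe21 ye38 ze61) (ke xe20 ye13 ze50) (ke xe25 ye45 ze33) (ke xe27 ye12 ze53) (ke xe10 ye13 ze8) (ke xe10 ye13 ze9) (ke xe28 ye9 ze56) (ke xe17 ye50 ze25) (ke xe10 ye13 ze12) (ke xe10 ye13 ze13) (ke xe19 ye17 ze37) (ke xe12 ye32 ze47) (ke xe18 ye15 ze52) (ke xe20 ye10 ze42) (ke xe10 ye13 ze18) (ke xe10 ye13 ze19) (ke xe23 ye18 ze17) (ke xe17 ye49 ze32) (ke xe12 ye50 ze59) (ke xe10 ye13 ze21) (ke xe18 ye16 ze20)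 (ke xe22 ye2 ze27) (ke xe12 ye45 ze5) (ke xe12 ye1 ze34) (ke xe17 ye9 ze24) (ke xe10 ye13 ze27) (ke xe25 ye0 ze50) (ke xe10 ye13 ze28) (ke xe18 ye24 ze20) (ke xe10 ye13 ze29) (ke xe26 ye55 ze18) (ke xe26 ye57 ze51) (ke xe10 ye13 ze32) (ke xe11 ye44 ze18) (ke xe12 ye57 ze0) (ke xe18 ye16 ze6) (ke xe10 ye23 ze23) (ke xe22 ye12 ze44) (ke xe10 ye13 ze36) (ke xe26 ye17 ze42) (ke xe23 ye44 ze31) (ke xe10 ye13 ze37) (ke xe27 ye30 ze54) (ke xe18 ye16 ze29) (ke xe22 ye18 ze24) (ke xe21 ye25 ze35) (ke xe10 ye13 ze39)) (@D3.rec (fun _ => Pt) (ke xe12 ye58 ze56) (ke xe23 ye44 ze40) (ke xe14 ye4 ze24) (ke xe13 ye37 ze16) (ke xe18 ye16 ze57) (ke xe21 ye4 ze37) (ke xe10 ye13 ze42) (ke xe12 ye41 ze9) (ke xe12 ye34 ze59) (ke xe22 ye10 ze6) (ke xe10 ye13 ze44) (ke xe27 ye0 ze47) (ke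 xe10 ye13 ze48) (ke xe10 ye13 ze46) (ke xe20 ye16 ze60) (ke xe27 ye40 ze29) (ke xe18 ye42 ze12) (ke xe25 ye44 ze56) (ke xe10 ye13 ze52) (ke xe28 ye10 ze11) (ke xe28 ye10 ze12) (ke xe10 ye13 ze53) (ke xe18 ye24 ze9) (ke xe10 ye13 ze54) (ke xe17 ye49 ze40) (ke xe18 ye15 ze26) (ke xe16 ye8 ze54) (ke xe28 ye9 ze20) (ke xe23 ye2 ze3) (ke xe10 ye13 ze56) (ke xe10 ye13 ze57) (ke xe16 ye18 ze37) (ke xe18 ye16 ze37) (ke xe13 ye37 ze15) (ke xe27 ye39 ze34) (ke xe16 ye7 ze49) (ke xe10 ye13 ze59) (ke xe18 ye0 ze6) (ke xe10 ye14 ze0) (ke xe18 ye24 ze6) (ke xe16 ye15 ze48) (ke xe12 ye53 ze31) (ke xe17 ye13 ze53) (ke xe10 ye14 ze2) (ke xe24 ye2 ze20) (ke xe12 ye41 ze5) (ke xe17 ye42 ze27) (ke xe26 ye55 ze15) (ke xe11 ye19 ze15) (ke xe18 ye26 ze12) (ke xe28 ye10 ze16) (ke xe10 ye14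 ze7) (ke xe21 ye20 ze37) (ke xe28 ye10 ze22) (ke xe22 ye5 ze34) (ke xe18 ye26 ze19) (ke xe15 ye46 ze19) (ke xe28 ye10 ze23) (ke xe10 ye14 ze11) (ke xe17 ye13 ze25) (ke xe21 ye22 ze42) (ke xe18 ye25 ze29)) (@D3.rec (fun _ => Pt) (ke xe21 ye22 ze43) (ke xe12 ye1 ze33) (ke xe25 ye17 ze20) (ke xe28 ye10 ze25) (ke xe10 ye14 ze14) (ke xe16 ye17 ze7) (ke xe17 ye50 ze23) (ke xe28 ye10 ze28) (ke xe28 ye10 ze29) (ke xe21 ye19 ze41) (ke xe10 ye14 ze17) (ke xe28 ye10 ze20) (ke xe14 ye28 ze59) (ke xe10 ye14 ze20) (ke xe21 ye53 ze28) (ke xe11 ye37 ze43) (ke xe18 ye17 ze26) (ke xe17 ye58 ze5) (ke xe10 ye14 ze22) (ke xe12 ye35 ze61) (ke xe27 ye1 ze4) (ke xe10 ye53 ze18) (ke xe16 ye57 ze23) (ke xe17 ye8 ze48) (ke xe10 ye14 ze30) (ke xe12 ye2 ze1) (ke xe11 ye31 ze32) (ke xe18 ye17 ze32)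 (ke xe12 ye46 ze40) (ke xe12 ye27 ze34) (ke xe18 ye17 ze30) (ke xe13 ye30 ze6) (ke xe27 ye38 ze45) (ke xe28 ye10 ze36) (ke xe10 ye14 ze37) (ke xe18 ye32 ze9) (ke xe12 ye14 ze26) (ke xe18 ye56 ze4) (ke xe18 ye19 ze28) (ke xe10 ye16 ze45) (ke xe10 ye14 ze43) (ke xe16 ye30 ze57) (ke xe18 ye19 ze34) (ke xe15 ye7 ze7) (ke xe13 ye41 ze19) (ke xe10 ye14 ze55) (ke xe22 ye18 ze32) (ke xe10 ye14 ze56) (ke xe18 ye19 ze59) (ke xe22 ye51 ze6) (ke xe28 ye10 ze43) (ke xe18 ye21 ze58) (ke xe26 ye17 ze25) (ke xe22 ye50 ze2) (ke xe10 ye14 ze61) (ke xe18 ye21 ze61) (ke xe18 ye20 ze1) (ke xe26 ye3 ze34) (ke xe15 ye6 ze17) (ke xe26 ye8 ze61) (ke xe10 ye14 ze60) (ke xe20 ye32 ze46)) (@D3.rec (fun _ => Pt) (ke xe13 ye59 ze25) (ke xe28 ye10 ze58) (ke xe18 ye19 ze45) (ke xe18 ye20 ze11) (ke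 xe26 ye0 ze57) (ke xe16 ye30 ze54) (ke xe16 ye30 ze59) (ke xe18 ye20 ze24) (ke xe18 ye58 ze6) (ke xe10 ye15 ze9) (ke xe21 ye34 ze55) (ke xe10 ye15 ze10) (ke xe22 ye54 ze25) (ke xe28 ye11 ze8) (ke xe13 ye14 ze34) (ke xe17 ye50 ze56) (ke xe27 ye36 ze34) (ke xe26 ye50 ze7) (ke xe10 ye15 ze13) (ke xe11 ye13 ze12) (ke xe21 ye54 ze15) (ke xe18 ye20 ze48) (ke xe21 ye35 ze29) (ke xe21 ye4 ze46) (ke xe18 ye20 ze47) (ke xe18 ye20 ze53) (ke xe20 ye38 ze13) (ke xe23 ye7 ze17) (ke xe21 ye7 ze27) (ke xe10 ye15 ze18) (ke xe28 ye11 ze16) (ke xe10 ye15 ze21) (ke xe28 ye11 ze18) (ke xe10 ye15 ze23) (ke xe23 ye37 ze37) (ke xe28 ye11 ze19) (ke xe11 ye16 ze34) (ke xe10 ye15 ze26) (ke xe19 ye49 ze4) (ke xe16 ye59 ze58) (ke xe21 ye2 ze35) (ke xe27 ye38 ze5) (ke xe10 ye15 ze31) (ke xe11 ye21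 ze56) (ke xe19 ye10 ze29) (ke xe10 ye34 ze61) (ke xe24 ye19 ze57) (ke xe20 ye17 ze13) (ke xe10 ye15 ze36) (ke xe17 ye49 ze10) (ke xe20 ye22 ze6) (ke xe18 ye58 ze30) (ke xe10 ye24 ze57) (ke xe23 ye59 ze34) (ke xe24 ye23 ze49) (ke xe26 ye14 ze36) (ke xe15 ye41 ze51) (ke xe26 ye47 ze42) (ke xe23 ye30 ze54) (ke xe10 ye32 ze36) (ke xe19 ye54 ze9) (ke xe10 ye20 ze47)) (@D3.rec (fun _ => Pt) (ke xe24 ye17 ze35) (ke xe28 ye11 ze28) (ke xe26 ye5 ze10) (ke xe24 ye56 ze50) (ke xe10 ye15 ze50) (ke xe28 ye11 ze33) (ke xe28 ye11 ze35) (ke xe10 ye15 ze51) (ke xe23 ye19 ze35) (ke xe28 ye11 ze37) (ke xe23 ye25 ze51) (ke xe23 ye46 ze18) (ke xe10 ye15 ze53) (ke xe28 ye11 ze42) (ke xe19 ye10 ze47) (ke xe28 ye11 ze41) (ke xe22 ye30 ze37) (ke xe28 ye11 ze47) (ke xe10 ye15 ze57) (ke xe18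 ye18 ze37) (ke xe19 ye54 ze35) (ke xe23 ye41 ze58) (ke xe28 ye11 ze57) (ke xe13 ye55 ze27) (ke xe25 ye42 ze59) (ke xe27 ye41 ze9) (ke xe26 ye47 ze56) (ke xe23 ye38 ze40) (ke xe10 ye31 ze27) (ke xe10 ye16 ze4) (ke xe28 ye3 ze8) (ke xe27 ye28 ze55) (ke xe28 ye12 ze7) (ke xe28 ye12 ze4) (ke xe22 ye30 ze44) (ke xe28 ye12 ze9) (ke xe18 ye18 ze49) (ke xe28 ye12 ze10) (ke xe27 ye39 ze6) (ke xe10 ye16 ze7) (ke xe26 ye23 ze11) (ke xe18 ye18 ze53) (ke xe28 ye12 ze14) (ke xe13 ye48 ze23) (ke xe13 ye16 ze21) (ke xe10 ye16 ze15) (ke xe23 ye25 ze35) (ke xe28 ye12 ze18) (ke xe18 ye19 ze12) (ke xe28 ye12 ze20) (ke xe10 ye16 ze17) (ke xe26 ye31 ze21) (ke xe28 ye12 ze23) (ke xe14 ye59 ze54) (ke xe14 ye45 ze35) (ke xe13 ye50 ze47) (ke xe10 ye16 ze19) (ke xe28 ye12 ze27) (ke xe23 ye46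 ze60) (ke xe16 ye10 ze23) (ke xe18 ye19 ze20) (ke xe28 ye12 ze30)) (@D3.rec (fun _ => Pt) (ke xe28 ye12 ze31) (ke xe10 ye16 ze21) (ke xe22 ye29 ze40) (ke xe24 ye31 ze42) (ke xe17 ye15 ze26) (ke xe10 ye16 ze22) (ke xe28 ye12 ze38) (ke xe11 ye13 ze29) (ke xe19 ye1 ze37) (ke xe10 ye16 ze26) (ke xe16 ye21 ze28) (ke xe28 ye12 ze40) (ke xe28 ye12 ze41) (ke xe17 ye59 ze52) (ke xe10 ye16 ze27) (ke xe16 ye30 ze56) (ke xe16 ye21 ze32) (ke xe20 ye20 ze11) (ke xe10 ye29 ze34) (ke xe13 ye40 ze59) (ke xe23 ye18 ze45) (ke xe28 ye12 ze47) (ke xe28 ye12 ze48) (ke xe10 ye16 ze32) (ke xe10 ye16 ze33) (ke xe28 ye12 ze50) (ke xe10 ye16 ze35) (ke xe20 ye35 ze53) (ke xe10 ye29 ze31) (ke xe10 ye16 ze38) (ke xe28 ye12 ze55) (ke xe10 ye16 ze39) (ke xe10 ye16 ze42) (ke xe10 ye16 ze43) (ke xe10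 ye16 ze50) (ke xe19 ye11 ze49) (ke xe19 ye11 ze42) (ke xe21 ye13 ze45) (ke xe10 ye16 ze51) (ke xe16 ye40 ze57) (ke xe10 ye16 ze52) (ke xe23 ye20 ze36) (ke xe13 ye30 ze61) (ke xe10 ye16 ze53) (ke xe28 ye11 ze9) (ke xe27 ye36 ze26) (ke xe19 ye12 ze30) (ke xe10 ye16 ze55) (ke xe28 ye13 ze2) (ke xe10 ye16 ze56) (ke xe13 ye31 ze3) (ke xe17 ye50 ze52) (ke xe12 ye2 ze38) (ke xe17 ye16 ze48) (ke xe11 ye9 ze26) (ke xe11 ye2 ze18) (ke xe15 ye44 ze14) (ke xe17 ye2 ze7) (ke xe15 ye44 ze18) (ke xe19 ye32 ze37) (ke xe19 ye32 ze38) (ke xe14 ye19 ze59)) (@D3.rec (fun _ => Pt) (ke xe10 ye17 ze9) (ke xe13 ye41 ze23) (ke xe24 ye32 ze20) (ke xe25 ye32 ze34) (ke xe10 ye17 ze11) (ke xe28 ye13 ze7) (ke xe10 ye17 ze12) (ke xe27 ye2 ze3) (ke xe19 ye7 ze52) (ke xe18 ye21 ze21) (ke xe25 ye18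 ze37) (ke xe10 ye17 ze14) (ke xe18 ye37 ze16) (ke xe11 ye51 ze4) (ke xe12 ye31 ze5) (ke xe12 ye23 ze37) (ke xe11 ye28 ze49) (ke xe17 ye20 ze59) (ke xe10 ye17 ze26) (ke xe19 ye1 ze30) (ke xe10 ye17 ze29) (ke xe27 ye55 ze54) (ke xe18 ye56 ze19) (ke xe10 ye17 ze30) (ke xe19 ye0 ze0) (ke xe11 ye11 ze46) (ke xe10 ye17 ze32) (ke xe18 ye22 ze50) (ke xe16 ye2 ze44) (ke xe21 ye6 ze28) (ke xe28 ye13 ze17) (ke xe10 ye17 ze33) (ke xe28 ye13 ze23) (ke xe16 ye49 ze59) (ke xe16 ye10 ze0) (ke xe18 ye23 ze5) (ke xe28 ye13 ze30) (ke xe28 ye13 ze32) (ke xe25 ye16 ze29) (ke xe10 ye17 ze35) (ke xe26 ye30 ze2) (ke xe26 ye23 ze9) (ke xe28 ye13 ze36) (ke xe28 ye13 ze37) (ke xe14 ye45 ze10) (ke xe16 ye57 ze28) (ke xe11 ye26 ze5) (ke xe27 ye21 ze7) (ke xe10 ye17 ze40) (ke xe28 ye13 ze41) (ke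 xe10 ye17 ze42) (ke xe17 ye19 ze37) (ke xe18 ye23 ze12) (ke xe10 ye17 ze44) (ke xe20 ye45 ze1) (ke xe18 ye34 ze55) (ke xe27 ye36 ze37) (ke xe10 ye17 ze49) (ke xe28 ye13 ze46) (ke xe10 ye17 ze54) (ke xe19 ye27 ze44) (ke xe28 ye13 ze49)) (@D3.rec (fun _ => Pt) (ke xe10 ye17 ze57) (ke xe23 ye19 ze40) (ke xe10 ye17 ze59) (ke xe11 ye28 ze52) (ke xe12 ye56 ze25) (ke xe26 ye32 ze20) (ke xe12 ye9 ze29) (ke xe26 ye45 ze51) (ke xe10 ye18 ze0) (ke xe10 ye18 ze2) (ke xe23 ye42 ze28) (ke xe12 ye5 ze27) (ke xe17 ye4 ze40) (ke xe24 ye47 ze26) (ke xe17 ye6 ze20) (ke xe12 ye49 ze43) (ke xe20 ye23 ze12) (ke xe10 ye19 ze2) (ke xe10 ye18 ze16) (ke xe17 ye22 ze19) (ke xe20 ye27 ze32) (ke xe23 ye19 ze39) (ke xe22 ye48 ze8) (ke xe10 ye18 ze25) (ke xe20 ye22 ze30) (ke xe12 ye48 ze58) (ke xe13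 ye1 ze43) (ke xe21 ye36 ze15) (ke xe10 ye18 ze29) (ke xe16 ye57 ze36) (ke xe10 ye18 ze34) (ke xe12 ye29 ze55) (ke xe19 ye27 ze42) (ke xe18 ye26 ze2) (ke xe28 ye13 ze58) (ke xe10 ye18 ze36) (ke xe19 ye27 ze35) (ke xe27 ye53 ze30) (ke xe20 ye28 ze28) (ke xe10 ye18 ze39) (ke xe12 ye2 ze18) (ke xe20 ye7 ze15) (ke xe10 ye18 ze41) (ke xe18 ye25 ze54) (ke xe12 ye2 ze10) (ke xe17 ye48 ze23) (ke xe17 ye58 ze12) (ke xe28 ye13 ze59) (ke xe10 ye18 ze55) (ke xe11 ye42 ze10) (ke xe17 ye57 ze61) (ke xe10 ye18 ze57) (ke xe12 ye24 ze28) (ke xe12 ye3 ze53) (ke xe10 ye19 ze3) (ke xe27 ye3 ze29) (ke xe17 ye58 ze18) (ke xe10 ye19 ze6) (ke xe21 ye18 ze51) (ke xe27 ye7 ze47) (ke xe18 ye52 ze17) (ke xe23 ye9 ze23)) (@D3.rec (fun _ => Pt) (ke xe10 ye19 ze11) (ke xe28 ye14 ze3) (ke xe23 ye11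 ze43) (ke xe10 ye19 ze12) (ke xe13 ye45 ze28) (ke xe28 ye14 ze7) (ke xe28 ye14 ze9) (ke xe10 ye19 ze13) (ke xe26 ye22 ze30) (ke xe22 ye57 ze9) (ke xe23 ye56 ze56) (ke xe27 ye14 ze22) (ke xe27 ye14 ze23) (ke xe28 ye14 ze19) (ke xe28 ye14 ze21) (ke xe15 ye56 ze8) (ke xe10 ye54 ze33) (ke xe10 ye19 ze18) (ke xe16 ye1 ze8) (ke xe10 ye19 ze20) (ke xe26 ye51 ze32) (ke xe28 ye14 ze24) (ke xe27 ye59 ze44) (ke xe10 ye19 ze22) (ke xe28 ye14 ze28) (ke xe28 ye14 ze30) (ke xe10 ye19 ze23) (ke xe20 ye20 ze10) (ke xe17 ye25 ze29) (ke xe26 ye30 ze3) (ke xe10 ye19 ze25) (ke xe22 ye22 ze25) (ke xe10 ye19 ze26) (ke xe17 ye25 ze51) (ke xe15 ye36 ze13) (ke xe28 ye14 ze35) (ke xe10 ye19 ze28) (ke xe25 ye48 ze27) (ke xe10 ye20 ze28) (ke xe24 ye15 ze24) (ke xe18 ye54 ze3) (ke xe13 ye52 ze13)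 (ke xe22 ye36 ze56) (ke xe28 ye14 ze39) (ke xe22 ye15 ze1) (ke xe22 ye36 ze61) (ke xe10 ye19 ze32) (ke xe18 ye53 ze15) (ke xe28 ye14 ze40) (ke xe18 ye51 ze43) (ke xe28 ye14 ze41) (ke xe27 ye5 ze61) (ke xe10 ye19 ze35) (ke xe10 ye19 ze36) (ke xe15 ye58 ze60) (ke xe27 ye2 ze23) (ke xe10 ye21 ze18) (ke xe10 ye19 ze38) (ke xe18 ye51 ze47) (ke xe24 ye21 ze50) (ke xe28 ye14 ze50) (ke xe28 ye14 ze52)) (@D3.rec (fun _ => Pt) (ke xe10 ye19 ze40) (ke xe10 ye19 ze41) (ke xe25 ye46 ze61) (ke xe10 ye21 ze30) (ke xe28 ye14 ze56) (ke xe28 ye14 ze58) (ke xe13 ye29 ze30) (ke xe25 ye18 ze31) (ke xe10 ye19 ze43) (ke xe10 ye41 ze59) (ke xe28 ye15 ze3) (ke xe14 ye15 ze24) (ke xe28 ye15 ze4) (ke xe10 ye19 ze44) (ke xe28 ye15 ze7) (ke xe10 ye41 ze29) (ke xe20 ye7 ze51) (ke xe10 ye19 ze46)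 (ke xe10 ye19 ze47) (ke xe10 ye59 ze35) (ke xe10 ye19 ze48) (ke xe17 ye20 ze10) (ke xe17 ye25 ze3) (ke xe11 ye44 ze21) (ke xe24 ye55 ze27) (ke xe13 ye0 ze46) (ke xe10 ye19 ze54) (ke xe25 ye47 ze1) (ke xe28 ye15 ze12) (ke xe22 ye23 ze18) (ke xe25 ye52 ze14) (ke xe10 ye46 ze42) (ke xe10 ye19 ze61) (ke xe10 ye41 ze12) (ke xe28 ye15 ze17) (ke xe27 ye9 ze4) (ke xe10 ye59 ze60) (ke xe24 ye18 ze7) (ke xe23 ye34 ze7) (ke xe10 ye39 ze9) (ke xe28 ye15 ze18) (ke xe10 ye20 ze6) (ke xe11 ye45 ze33) (ke xe19 ye50 ze59) (ke xe28 ye15 ze23) (ke xe10 ye20 ze9) (ke xe11 ye43 ze22) (ke xe28 ye15 ze26) (ke xe22 ye15 ze5) (ke xe17 ye24 ze45) (ke xe18 ye53 ze40) (ke xe28 ye15 ze28) (ke xe10 ye20 ze14) (ke xe18 ye53 ze43) (ke xe28 ye15 ze31) (ke xe27 ye32 ze44) (ke xe28 ye15 ze34) (ke xe28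 ye15 ze38) (ke xe10 ye20 ze18) (ke xe10 ye20 ze19) (ke xe26 ye32 ze1) (ke xe10 ye20 ze21)) (@D3.rec (fun _ => Pt) (ke xe17 ye19 ze42) (ke xe28 ye15 ze43) (ke xe28 ye15 ze44) (ke xe10 ye20 ze24) (ke xe17 ye24 ze25) (ke xe17 ye23 ze14) (ke xe10 ye20 ze29) (ke xe15 ye50 ze53) (ke xe11 ye13 ze42) (ke xe16 ye21 ze22) (ke xe21 ye51 ze13) (ke xe10 ye20 ze30) (ke xe20 ye49 ze13) (ke xe28 ye15 ze54) (ke xe10 ye20 ze32) (ke xe19 ye43 ze35) (ke xe17 ye24 ze40) (ke xe10 ye20 ze33) (ke xe28 ye15 ze56) (ke xe22 ye14 ze59) (ke xe10 ye20 ze38) (ke xe18 ye30 ze60) (ke xe28 ye15 ze57) (ke xe12 ye11 ze25) (ke xe28 ye15 ze58) (ke xe18 ye4 ze18) (ke xe10 ye50 ze58) (ke xe26 ye42 ze15) (ke xe10 ye50 ze56) (ke xe10 ye20 ze44) (ke xe28 ye16 ze3) (ke xe10 ye50 ze16) (ke xe15 ye37 ze9) (ke xe28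 ye16 ze4) (ke xe28 ye15 ze61) (ke xe28 ye16 ze7) (ke xe10 ye20 ze45) (ke xe28 ye16 ze8) (ke xe28 ye16 ze9) (ke xe10 ye20 ze48) (ke xe17 ye24 ze46) (ke xe28 ye16 ze15) (ke xe28 ye3 ze56) (ke xe10 ye20 ze50) (ke xe18 ye54 ze25) (ke xe18 ye54 ze26) (ke xe10 ye20 ze52) (ke xe28 ye16 ze21) (ke xe10 ye20 ze53) (ke xe22 ye14 ze47) (ke xe27 ye12 ze44) (ke xe24 ye38 ze54) (ke xe17 ye22 ze40) (ke xe17 ye11 ze29) (ke xe22 ye46 ze22) (ke xe25 ye30 ze61) (ke xe18 ye54 ze51) (ke xe22 ye13 ze34) (ke xe28 ye15 ze48) (ke xe10 ye20 ze58) (ke xe28 ye16 ze38) (ke xe28 ye16 ze40)) (@D3.rec (fun _ => Pt) (ke xe27 ye8 ze55) (ke xe27 ye15 ze17) (ke xe18 ye54 ze53) (ke xe22 ye41 ze32) (ke xe19 ye42 ze7) (ke xe17 ye47 ze29) (ke xe28 ye3 ze19) (ke xe28 ye16 ze50) (ke xe28 ye16 ze53) (ke xe10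 ye21 ze3) (ke xe10 ye21 ze4) (ke xe28 ye7 ze56) (ke xe10 ye21 ze6) (ke xe18 ye54 ze39) (ke xe18 ye54 ze40) (ke xe10 ye36 ze42) (ke xe10 ye21 ze10) (ke xe28 ye16 ze61) (ke xe10 ye21 ze11) (ke xe17 ye11 ze25) (ke xe12 ye44 ze48) (ke xe18 ye14 ze0) (ke xe10 ye21 ze12) (ke xe25 ye46 ze3) (ke xe21 ye39 ze10) (ke xe27 ye14 ze12) (ke xe28 ye14 ze45) (ke xe22 ye36 ze55) (ke xe27 ye13 ze38) (ke xe10 ye36 ze32) (ke xe17 ye26 ze8) (ke xe10 ye21 ze15) (ke xe18 ye54 ze35) (ke xe28 ye17 ze17) (ke xe21 ye40 ze15) (ke xe25 ye48 ze17) (ke xe27 ye10 ze3) (ke xe18 ye54 ze37) (ke xe26 ye53 ze16) (ke xe24 ye25 ze36) (ke xe10 ye21 ze22) (ke xe18 ye54 ze57) (ke xe18 ye54 ze58) (ke xe10 ye49 ze21) (ke xe19 ye51 ze57) (ke xe10 ye21 ze24) (ke xe17 ye33 ze6) (ke xe11 ye27 ze34) (ke xe13 ye7 ze3)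 (ke xe14 ye58 ze49) (ke xe19 ye52 ze37) (ke xe28 ye14 ze54) (ke xe17 ye21 ze3) (ke xe17 ye11 ze35) (ke xe25 ye51 ze33) (ke xe25 ye48 ze21) (ke xe28 ye17 ze30) (ke xe27 ye7 ze2) (ke xe27 ye8 ze53) (ke xe27 ye16 ze53) (ke xe18 ye55 ze7) (ke xe20 ye11 ze40)) (@D3.rec (fun _ => Pt) (ke xe28 ye17 ze36) (ke xe23 ye38 ze53) (ke xe10 ye21 ze32) (ke xe24 ye28 ze5) (ke xe10 ye21 ze33) (ke xe14 ye2 ze57) (ke xe13 ye23 ze31) (ke xe28 ye17 ze41) (ke xe10 ye21 ze34) (ke xe23 ye50 ze13) (ke xe25 ye48 ze23) (ke xe22 ye35 ze2) (ke xe13 ye22 ze49) (ke xe17 ye21 ze17) (ke xe13 ye22 ze51) (ke xe10 ye47 ze15) (ke xe25 ye48 ze24) (ke xe27 ye10 ze18) (ke xe10 ye21 ze39) (ke xe28 ye17 ze51) (ke xe10 ye21 ze40) (ke xe27 ye3 ze25) (ke xe16 ye53 ze39) (ke xe10 ye21 ze41) (ke xe27 ye59 ze53) (ke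 xe13 ye53 ze44) (ke xe28 ye17 ze55) (ke xe10 ye32 ze21) (ke xe28 ye17 ze59) (ke xe10 ye21 ze44) (ke xe26 ye57 ze61) (ke xe10 ye21 ze45) (ke xe25 ye48 ze14) (ke xe28 ye18 ze1) (ke xe10 ye21 ze47) (ke xe17 ye29 ze58) (ke xe10 ye39 ze31) (ke xe26 ye39 ze61) (ke xe19 ye39 ze4) (ke xe10 ye21 ze49) (ke xe18 ye1 ze17) (ke xe21 ye30 ze32) (ke xe27 ye2 ze9) (ke xe17 ye24 ze55) (ke xe10 ye42 ze14) (ke xe26 ye59 ze52) (ke xe11 ye48 ze30) (ke xe11 ye0 ze15) (ke xe15 ye46 ze15) (ke xe10 ye43 ze4) (ke xe17 ye24 ze21) (ke xe28 ye18 ze17) (ke xe10 ye21 ze56) (ke xe13 ye20 ze31) (ke xe15 ye56 ze44) (ke xe10 ye43 ze2) (ke xe10 ye43 ze7) (ke xe24 ye26 ze55) (ke xe28 ye18 ze20) (ke xe10 ye22 ze2) (ke xe14 ye58 ze42) (ke xe19 ye29 ze10)) (@D3.rec (fun _ => Pt) (ke xe10 ye22 ze0) (ke xe23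 ye50 ze12) (ke xe28 ye18 ze25) (ke xe22 ye25 ze50) (ke xe12 ye51 ze22) (ke xe28 ye18 ze21) (ke xe22 ye14 ze45) (ke xe20 ye44 ze35) (ke xe10 ye22 ze3) (ke xe18 ye20 ze23) (ke xe18 ye19 ze27) (ke xe25 ye46 ze4) (ke xe28 ye18 ze38) (ke xe17 ye19 ze39) (ke xe22 ye50 ze7) (ke xe28 ye18 ze42) (ke xe10 ye22 ze9) (ke xe11 ye20 ze10) (ke xe26 ye18 ze60) (ke xe22 ye41 ze30) (ke xe10 ye22 ze13) (ke xe16 ye5 ze38) (ke xe19 ye0 ze17) (ke xe21 ye14 ze45) (ke xe16 ye5 ze43) (ke xe28 ye18 ze48) (ke xe28 ye18 ze49) (ke xe10 ye22 ze18) (ke xe11 ye54 ze29) (ke xe16 ye5 ze57) (ke xe15 ye5 ze50) (ke xe10 ye22 ze24) (ke xe21 ye12 ze29) (ke xe26 ye18 ze34) (ke xe15 ye6 ze23) (ke xe10 ye22 ze29) (ke xe18 ye56 ze13) (ke xe25 ye59 ze32) (ke xe10 ye22 ze27) (ke xe22 ye49 ze35) (ke xe20 ye0 ze29)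 (ke xe28 ye1 ze6) (ke xe10 ye22 ze31) (ke xe20 ye10 ze20) (ke xe10 ye22 ze32) (ke xe22 ye28 ze40) (ke xe26 ye50 ze3) (ke xe12 ye36 ze7) (ke xe12 ye16 ze14) (ke xe21 ye25 ze51) (ke xe18 ye15 ze20) (ke xe17 ye54 ze5) (ke xe27 ye38 ze51) (ke xe24 ye46 ze24) (ke xe10 ye22 ze41) (ke xe19 ye48 ze5) (ke xe18 ye56 ze54) (ke xe22 ye40 ze2) (ke xe26 ye51 ze57) (ke xe10 ye22 ze43) (ke xe21 ye9 ze25) (ke xe17 ye19 ze45)) (@D3.rec (fun _ => Pt) (ke xe28 ye18 ze54) (ke xe13 ye19 ze47) (ke xe10 ye38 ze4) (ke xe26 ye51 ze58) (ke xe25 ye46 ze8) (ke xe10 ye22 ze46) (ke xe10 ye22 ze48) (ke xe17 ye4 ze56) (ke xe16 ye54 ze17) (ke xe21 ye54 ze31) (ke xe16 ye48 ze13) (ke xe10 ye22 ze54) (ke xe18 ye13 ze57) (ke xe12 ye35 ze37) (ke xe28 ye19 ze0) (ke xe10 ye22 ze57) (ke xe28 ye19 ze1) (ke xe10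 ye22 ze58) (ke xe18 ye56 ze58) (ke xe28 ye19 ze2) (ke xe14 ye53 ze46) (ke xe21 ye45 ze0) (ke xe10 ye23 ze0) (ke xe12 ye52 ze41) (ke xe23 ye22 ze59) (ke xe21 ye18 ze54) (ke xe12 ye53 ze53) (ke xe10 ye23 ze2) (ke xe10 ye23 ze4) (ke xe12 ye1 ze30) (ke xe18 ye11 ze1) (ke xe11 ye45 ze16) (ke xe11 ye28 ze6) (ke xe21 ye35 ze49) (ke xe26 ye55 ze25) (ke xe22 ye7 ze53) (ke xe18 ye17 ze3) (ke xe10 ye23 ze8) (ke xe26 ye57 ze28) (ke xe28 ye19 ze8) (ke xe18 ye16 ze22) (ke xe17 ye59 ze30) (ke xe17 ye51 ze31) (ke xe12 ye2 ze24) (ke xe25 ye31 ze6) (ke xe28 ye19 ze10) (ke xe18 ye0 ze20) (ke xe10 ye23 ze12) (ke xe14 ye32 ze8) (ke xe26 ye16 ze11) (ke xe10 ye38 ze6) (ke xe10 ye23 ze15) (ke xe12 ye15 ze12) (ke xe17 ye6 ze24) (ke xe18 ye58 ze5) (ke xe18 ye58 ze2) (ke xe13 ye40 ze53) (ke xe28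 ye19 ze16) (ke xe28 ye10 ze18) (ke xe15 ye32 ze7) (ke xe28 ye10 ze3) (ke xe10 ye23 ze24)) (@D3.rec (fun _ => Pt) (ke xe26 ye54 ze61) (ke xe14 ye53 ze10) (ke xe15 ye32 ze46) (ke xe25 ye26 ze35) (ke xe14 ye53 ze16) (ke xe28 ye19 ze20) (ke xe10 ye23 ze26) (ke xe10 ye23 ze27) (ke xe21 ye27 ze23) (ke xe25 ye10 ze13) (ke xe28 ye19 ze26) (ke xe10 ye23 ze29) (ke xe19 ye8 ze17) (ke xe10 ye23 ze30) (ke xe13 ye32 ze23) (ke xe18 ye55 ze33) (ke xe28 ye19 ze32) (ke xe22 ye6 ze52) (ke xe10 ye23 ze32) (ke xe28 ye19 ze34) (ke xe10 ye23 ze33) (ke xe28 ye19 ze40) (ke xe10 ye23 ze34) (ke xe12 ye33 ze26) (ke xe28 ye19 ze44) (ke xe15 ye37 ze11) (ke xe26 ye5 ze44) (ke xe10 ye24 ze21) (ke xe28 ye19 ze46) (ke xe10 ye56 ze7) (ke xe10 ye23 ze38) (ke xe28 ye19 ze48) (ke xe10 ye36 ze8) (ke xe25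 ye58 ze2) (ke xe25 ye36 ze8) (ke xe19 ye18 ze46) (ke xe28 ye19 ze55) (ke xe23 ye13 ze5) (ke xe13 ye45 ze17) (ke xe10 ye23 ze42) (ke xe10 ye23 ze43) (ke xe17 ye16 ze44) (ke xe28 ye19 ze59) (ke xe18 ye44 ze49) (ke xe24 ye15 ze26) (ke xe12 ye56 ze55) (ke xe10 ye23 ze47) (ke xe18 ye44 ze58) (ke xe24 ye46 ze19) (ke xe13 ye18 ze29) (ke xe13 ye34 ze27) (ke xe10 ye23 ze49) (ke xe19 ye21 ze44) (ke xe19 ye22 ze12) (ke xe28 ye20 ze7) (ke xe28 ye20 ze9) (ke xe15 ye26 ze59) (ke xe10 ye23 ze52) (ke xe19 ye22 ze0) (ke xe14 ye14 ze34) (ke xe28 ye20 ze14) (ke xe23 ye55 ze15)) (@D3.rec (fun _ => Pt) (ke xe10 ye23 ze53) (ke xe26 ye56 ze3) (ke xe28 ye20 ze19) (ke xe28 ye20 ze22) (ke xe17 ye1 ze9) (ke xe10 ye23 ze55) (ke xe17 ye1 ze21) (ke xe10 ye23 ze56) (ke xe21 ye36 ze45) (ke xe19 ye37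 ze50) (ke xe10 ye23 ze58) (ke xe27 ye22 ze45) (ke xe17 ye1 ze19) (ke xe10 ye23 ze60) (ke xe28 ye20 ze28) (ke xe27 ye19 ze59) (ke xe21 ye39 ze41) (ke xe18 ye43 ze60) (ke xe28 ye20 ze32) (ke xe10 ye24 ze1) (ke xe15 ye39 ze35) (ke xe18 ye52 ze59) (ke xe10 ye51 ze37) (ke xe28 ye20 ze33) (ke xe28 ye20 ze34) (ke xe24 ye15 ze17) (ke xe10 ye24 ze4) (ke xe20 ye59 ze18) (ke xe16 ye42 ze59) (ke xe10 ye24 ze7) (ke xe17 ye48 ze55) (ke xe17 ye35 ze41) (ke xe19 ye40 ze15) (ke xe25 ye11 ze52) (ke xe24 ye17 ze32) (ke xe10 ye24 ze10) (ke xe25 ye47 ze2) (ke xe10 ye24 ze16) (ke xe27 ye46 ze35) (ke xe16 ye19 ze60) (ke xe10 ye24 ze19) (ke xe19 ye45 ze1) (ke xe28 ye20 ze37) (ke xe28 ye20 ze39) (ke xe24 ye33 ze47) (ke xe28 ye20 ze40) (ke xe10 ye24 ze22) (ke xe22 ye55 ze19) (ke xe20 ye49 ze61)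 (ke xe22 ye55 ze16) (ke xe28 ye20 ze43) (ke xe10 ye24 ze23) (ke xe26 ye17 ze49) (ke xe25 ye5 ze43) (ke xe10 ye24 ze26) (ke xe11 ye43 ze6) (ke xe15 ye34 ze20) (ke xe16 ye45 ze24) (ke xe11 ye2 ze56) (ke xe18 ye52 ze21) (ke xe19 ye50 ze17) (ke xe28 ye20 ze49)) (@D3.rec (fun _ => Pt) (ke xe28 ye20 ze50) (ke xe22 ye52 ze61) (ke xe10 ye24 ze31) (ke xe10 ye24 ze32) (ke xe23 ye49 ze4) (ke xe17 ye19 ze25) (ke xe18 ye22 ze24) (ke xe18 ye56 ze7) (ke xe12 ye32 ze39) (ke xe19 ye21 ze7) (ke xe28 ye20 ze55) (ke xe22 ye50 ze27) (ke xe28 ye20 ze58) (ke xe10 ye24 ze37) (ke xe10 ye24 ze38) (ke xe18 ye44 ze47) (ke xe28 ye21 ze0) (ke xe28 ye21 ze2) (ke xe10 ye36 ze23) (ke xe28 ye21 ze3) (ke xe10 ye24 ze41) (ke xe28 ye21 ze6) (ke xe28 ye21 ze8) (ke xe28 ye21 ze10) (ke xe24 ye57 ze9) (ke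 xe10 ye24 ze43) (ke xe19 ye39 ze26) (ke xe16 ye18 ze4) (ke xe28 ye21 ze15) (ke xe10 ye24 ze44) (ke xe23 ye0 ze58) (ke xe10 ye24 ze45) (ke xe22 ye24 ze53) (ke xe28 ye21 ze19) (ke xe19 ye46 ze55) (ke xe10 ye24 ze46) (ke xe22 ye18 ze61) (ke xe19 ye45 ze22) (ke xe23 ye13 ze7) (ke xe28 ye21 ze23) (ke xe18 ye45 ze50) (ke xe28 ye21 ze27) (ke xe10 ye24 ze50) (ke xe18 ye45 ze53) (ke xe28 ye21 ze30) (ke xe28 ye21 ze31) (ke xe28 ye21 ze32) (ke xe10 ye24 ze55) (ke xe19 ye31 ze11) (ke xe15 ye18 ze30) (ke xe15 ye18 ze28) (ke xe19 ye18 ze2) (ke xe28 ye21 ze36) (ke xe28 ye21 ze37) (ke xe10 ye24 ze60) (ke xe19 ye18 ze1) (ke xe28 ye21 ze38) (ke xe10 ye24 ze61) (ke xe28 ye21 ze42) (ke xe10 ye25 ze0) (ke xe28 ye21 ze46) (ke xe20 ye50 ze32)) (@D3.rec (fun _ => Pt) (ke xe28 ye21 ze50) (ke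 xe10 ye25 ze1) (ke xe21 ye39 ze8) (ke xe18 ye44 ze40) (ke xe25 ye47 ze35) (ke xe25 ye58 ze4) (ke xe22 ye24 ze47) (ke xe28 ye21 ze55) (ke xe14 ye34 ze57) (ke xe18 ye9 ze2) (ke xe18 ye20 ze34) (ke xe15 ye37 ze28) (ke xe19 ye31 ze19) (ke xe15 ye37 ze30) (ke xe10 ye25 ze12) (ke xe19 ye29 ze31) (ke xe28 ye22 ze0) (ke xe23 ye51 ze57) (ke xe27 ye9 ze15) (ke xe28 ye22 ze5) (ke xe10 ye25 ze13) (ke xe25 ye26 ze46) (ke xe28 ye22 ze10) (ke xe18 ye29 ze28) (ke xe10 ye25 ze15) (ke xe18 ye46 ze44) (ke xe18 ye46 ze45) (ke xe13 ye10 ze54) (ke xe28 ye22 ze15) (ke xe27 ye41 ze49) (ke xe22 ye53 ze37) (ke xe28 ye22 ze21) (ke xe10 ye25 ze20) (ke xe28 ye22 ze25) (ke xe10 ye25 ze21) (ke xe18 ye47 ze32) (ke xe10 ye25 ze23) (ke xe18 ye47 ze37) (ke xe10 ye25 ze28) (ke xe18 ye47 ze13) (ke xe18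 ye47 ze14) (ke xe19 ye3 ze48) (ke xe10 ye25 ze32) (ke xe13 ye45 ze11) (ke xe28 ye22 ze36) (ke xe19 ye12 ze7) (ke xe28 ye22 ze41) (ke xe10 ye25 ze34) (ke xe28 ye22 ze44) (ke xe28 ye22 ze46) (ke xe12 ye33 ze11) (ke xe18 ye46 ze56) (ke xe10 ye25 ze41) (ke xe18 ye47 ze2) (ke xe20 ye20 ze28) (ke xe28 ye22 ze50) (ke xe10 ye25 ze44) (ke xe18 ye47 ze41) (ke xe18 ye47 ze42) (ke xe19 ye33 ze43) (ke xe14 ye16 ze24) (ke xe10 ye25 ze46)) (@D3.rec (fun _ => Pt) (ke xe28 ye22 ze56) (ke xe28 ye22 ze58) (ke xe14 ye26 ze18) (ke xe23 ye52 ze58) (ke xe28 ye23 ze1) (ke xe28 ye23 ze3) (ke xe10 ye25 ze49) (ke xe18 ye47 ze60) (ke xe28 ye23 ze7) (ke xe28 ye23 ze10) (ke xe13 ye39 ze22) (ke xe10 ye25 ze51) (ke xe28 ye23 ze13) (ke xe12 ye3 ze45) (ke xe22 ye18 ze5) (ke xe27 ye22 ze38) (ke xe10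 ye25 ze54) (ke xe14 ye14 ze48) (ke xe15 ye44 ze5) (ke xe27 ye22 ze39) (ke xe22 ye16 ze20) (ke xe10 ye25 ze57) (ke xe22 ye16 ze36) (ke xe25 ye36 ze12) (ke xe28 ye23 ze28) (ke xe25 ye30 ze15) (ke xe10 ye25 ze61) (ke xe28 ye23 ze32) (ke xe28 ye23 ze37) (ke xe10 ye26 ze0) (ke xe22 ye17 ze3) (ke xe28 ye23 ze42) (ke xe10 ye26 ze1) (ke xe18 ye51 ze15) (ke xe28 ye23 ze45) (ke xe15 ye58 ze50) (ke xe28 ye23 ze48) (ke xe12 ye57 ze4) (ke xe28 ye23 ze50) (ke xe10 ye26 ze4) (ke xe28 ye23 ze52) (ke xe26 ye43 ze30) (ke xe10 ye47 ze9) (ke xe10 ye26 ze6) (ke xe14 ye17 ze10) (ke xe10 ye26 ze8) (ke xe28 ye23 ze59) (ke xe12 ye57 ze17) (ke xe28 ye24 ze0) (ke xe28 ye24 ze1) (ke xe10 ye26 ze12) (ke xe12 ye57 ze14) (ke xe12 ye57 ze15) (ke xe10 ye26 ze14) (ke xe12 ye57 ze20) (ke xe10 ye26 ze18)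 (ke xe19 ye5 ze10) (ke xe28 ye24 ze11) (ke xe14 ye15 ze14) (ke xe25 ye32 ze20) (ke xe10 ye26 ze17) (ke xe22 ye1 ze25)) (@D3.rec (fun _ => Pt) (ke xe28 ye24 ze7) (ke xe27 ye30 ze49) (ke xe28 ye24 ze18) (ke xe10 ye26 ze19) (ke xe18 ye38 ze37) (ke xe19 ye42 ze27) (ke xe19 ye29 ze1) (ke xe18 ye53 ze7) (ke xe10 ye26 ze25) (ke xe17 ye2 ze46) (ke xe28 ye24 ze23) (ke xe20 ye10 ze60) (ke xe10 ye26 ze30) (ke xe18 ye49 ze36) (ke xe23 ye6 ze46) (ke xe28 ye24 ze27) (ke xe15 ye8 ze51) (ke xe26 ye58 ze17) (ke xe27 ye14 ze57) (ke xe18 ye42 ze22) (ke xe15 ye45 ze12) (ke xe26 ye20 ze2) (ke xe28 ye24 ze33) (ke xe15 ye45 ze17) (ke xe10 ye32 ze26) (ke xe22 ye50 ze38) (ke xe15 ye45 ze28) (ke xe15 ye45 ze29) (ke xe23 ye6 ze47) (ke xe17 ye45 ze49) (ke xe20 ye21 ze36) (ke xe20 ye17 ze19) (ke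 xe28 ye24 ze37) (ke xe10 ye26 ze43) (ke xe28 ye24 ze39) (ke xe16 ye24 ze27) (ke xe18 ye59 ze15) (ke xe26 ye7 ze31) (ke xe26 ye0 ze45) (ke xe11 ye3 ze42) (ke xe13 ye52 ze3) (ke xe18 ye59 ze22) (ke xe26 ye25 ze14) (ke xe23 ye53 ze6) (ke xe10 ye26 ze53) (ke xe12 ye57 ze38) (ke xe27 ye9 ze38) (ke xe18 ye35 ze40) (ke xe17 ye51 ze46) (ke xe23 ye47 ze0) (ke xe22 ye36 ze16) (ke xe19 ye13 ze16) (ke xe28 ye24 ze50) (ke xe28 ye24 ze52) (ke xe18 ye49 ze56) (ke xe19 ye3 ze31) (ke xe28 ye24 ze56) (ke xe15 ye32 ze49) (ke xe18 ye50 ze18) (ke xe28 ye24 ze58) (ke xe23 ye49 ze10) (ke xe10 ye27 ze8)) (@D3.rec (fun _ => Pt) (ke xe10 ye27 ze6) (ke xe21 ye33 ze37) (ke xe11 ye37 ze14) (ke xe11 ye17 ze2) (ke xe12 ye38 ze54) (ke xe10 ye27 ze12) (ke xe23 ye16 ze35) (ke xe28 ye24 ze61) (ke xe10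 ye27 ze13) (ke xe28 ye25 ze1) (ke xe10 ye27 ze14) (ke xe28 ye25 ze3) (ke xe13 ye14 ze40) (ke xe28 ye25 ze2) (ke xe17 ye52 ze27) (ke xe13 ye44 ze51) (ke xe10 ye27 ze16) (ke xe22 ye59 ze58) (ke xe28 ye25 ze4) (ke xe24 ye6 ze5) (ke xe10 ye27 ze19) (ke xe19 ye53 ze24) (ke xe10 ye27 ze22) (ke xe27 ye3 ze43) (ke xe28 ye25 ze6) (ke xe28 ye25 ze9) (ke xe23 ye54 ze52) (ke xe10 ye27 ze24) (ke xe26 ye46 ze45) (ke xe20 ye36 ze3) (ke xe20 ye40 ze37) (ke xe11 ye25 ze37) (ke xe28 ye25 ze11) (ke xe24 ye7 ze19) (ke xe20 ye34 ze18) (ke xe28 ye25 ze12) (ke xe10 ye27 ze29) (ke xe28 ye25 ze16) (ke xe10 ye27 ze30) (ke xe28 ye25 ze19) (ke xe17 ye48 ze36) (ke xe20 ye34 ze26) (ke xe13 ye9 ze3) (ke xe28 ye25 ze24) (ke xe28 ye25 ze25) (ke xe10 ye27 ze33) (ke xe28 ye25 ze27) (ke xe28 ye25 ze28)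 (ke xe10 ye27 ze34) (ke xe28 ye25 ze30) (ke xe28 ye25 ze29) (ke xe18 ye1 ze1) (ke xe28 ye25 ze32) (ke xe11 ye49 ze3) (ke xe10 ye27 ze36) (ke xe13 ye10 ze0) (ke xe10 ye27 ze37) (ke xe17 ye48 ze45) (ke xe19 ye22 ze47) (ke xe17 ye8 ze13) (ke xe12 ye15 ze21) (ke xe10 ye27 ze41)) (@D3.rec (fun _ => Pt) (ke xe12 ye58 ze37) (ke xe11 ye31 ze36) (ke xe18 ye50 ze55) (ke xe11 ye11 ze8) (ke xe11 ye11 ze6) (ke xe18 ye50 ze54) (ke xe18 ye39 ze8) (ke xe18 ye58 ze18) (ke xe28 ye25 ze35) (ke xe28 ye15 ze40) (ke xe28 ye25 ze37) (ke xe10 ye27 ze51) (ke xe27 ye33 ze24) (ke xe10 ye27 ze54) (ke xe10 ye27 ze56) (ke xe22 ye15 ze23) (ke xe21 ye26 ze34) (ke xe10 ye27 ze60) (ke xe18 ye58 ze7) (ke xe28 ye25 ze43) (ke xe10 ye28 ze3) (ke xe27 ye35 ze2) (ke xe18 ye11 ze33) (ke xe10 ye28 ze5) (ke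 xe10 ye34 ze59) (ke xe10 ye28 ze7) (ke xe22 ye49 ze36) (ke xe10 ye28 ze9) (ke xe28 ye25 ze49) (ke xe10 ye28 ze10) (ke xe18 ye39 ze51) (ke xe23 ye6 ze38) (ke xe24 ye28 ze13) (ke xe15 ye7 ze6) (ke xe20 ye7 ze21) (ke xe12 ye9 ze15) (ke xe28 ye25 ze54) (ke xe10 ye28 ze16) (ke xe28 ye25 ze58) (ke xe10 ye28 ze17) (ke xe26 ye32 ze19) (ke xe20 ye30 ze42) (ke xe28 ye25 ze61) (ke xe16 ye52 ze61) (ke xe20 ye10 ze47) (ke xe13 ye52 ze7) (ke xe10 ye28 ze22) (ke xe16 ye19 ze37) (ke xe25 ye3 ze13) (ke xe23 ye6 ze53) (ke xe10 ye28 ze21) (ke xe26 ye10 ze9) (ke xe19 ye56 ze17) (ke xe28 ye26 ze13) (ke xe16 ye40 ze0) (ke xe26 ye1 ze0) (ke xe23 ye25 ze28) (ke xe26 ye27 ze3) (ke xe15 ye50 ze25) (ke xe28 ye26 ze15) (ke xe16 ye23 ze5) (ke xe10 ye28 ze27)) (@D3.rec (fun _ => Pt) (ke xe23 ye43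 ze30) (ke xe18 ye59 ze47) (ke xe28 ye26 ze16) (ke xe10 ye28 ze29) (ke xe22 ye49 ze55) (ke xe19 ye12 ze21) (ke xe10 ye28 ze30) (ke xe28 ye26 ze24) (ke xe11 ye12 ze56) (ke xe28 ye26 ze20) (ke xe19 ye1 ze21) (ke xe28 ye26 ze27) (ke xe18 ye19 ze56) (ke xe10 ye28 ze35) (ke xe19 ye1 ze25) (ke xe18 ye56 ze36) (ke xe19 ye10 ze9) (ke xe21 ye15 ze1) (ke xe11 ye37 ze27) (ke xe28 ye26 ze33) (ke xe28 ye13 ze44) (ke xe18 ye23 ze8) (ke xe18 ye56 ze41) (ke xe28 ye26 ze39) (ke xe19 ye19 ze2) (ke xe16 ye21 ze48) (ke xe16 ye27 ze36) (ke xe20 ye59 ze32) (ke xe10 ye30 ze56) (ke xe19 ye20 ze6) (ke xe10 ye35 ze54) (ke xe14 ye59 ze20) (ke xe14 ye59 ze21) (ke xe11 ye23 ze15) (ke xe20 ye8 ze7) (ke xe10 ye28 ze47) (ke xe25 ye28 ze35) (ke xe28 ye26 ze52) (ke xe10 ye28 ze50) (ke xe19 ye1 ze50)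 (ke xe26 ye26 ze0) (ke xe28 ye26 ze55) (ke xe24 ye7 ze37) (ke xe21 ye53 ze57) (ke xe20 ye8 ze3) (ke xe27 ye5 ze28) (ke xe28 ye26 ze60) (ke xe18 ye59 ze1) (ke xe10 ye28 ze53) (ke xe28 ye26 ze61) (ke xe10 ye28 ze54) (ke xe13 ye30 ze35) (ke xe20 ye8 ze13) (ke xe10 ye28 ze55) (ke xe19 ye13 ze12) (ke xe22 ye28 ze47) (ke xe28 ye0 ze53) (ke xe19 ye1 ze36) (ke xe20 ye34 ze36) (ke xe10 ye28 ze58) (ke xe19 ye1 ze39) (ke xe11 ye11 ze21))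
def f_e_19 : D2 → D3 → Pt := @D2.rec (fun _ => D3 → Pt) (@D3.rec (fun _ => Pt) (ke xe18 ye42 ze24) (ke xe22 ye30 ze47) (ke xe18 ye24 ze28) (ke xe20 ye21 ze7) (ke xe10 ye28 ze60) (ke xe26 ye32 ze43) (ke xe18 ye27 ze18) (ke xe19 ye0 ze19) (ke xe19 ye1 ze12) (ke xe28 ye27 ze10) (ke xe24 ye46 ze37) (ke xe10 ye29 ze0) (ke xe26 ye32 ze37) (ke xe26 ye20 ze4) (ke xe19 ye0 ze24) (ke xe10 ye29 ze2) (ke xe26 ye48 ze60) (ke xe18 ye49 ze22) (ke xe25 ye0 ze12) (ke xe19 ye0 ze7) (ke xe26 ye20 ze19) (ke xe13 ye30 ze28) (ke xe11 ye15 ze5) (ke xe27 ye33 ze41) (ke xe19 ye0 ze14) (ke xe16 ye19 ze31) (ke xe28 ye27 ze25) (ke xe18 ye35 ze15) (ke xe11 ye15 ze6) (ke xe28 ye27 ze30) (ke xe10 ye29 ze8) (ke xe28 ye27 ze31) (ke xe10 ye29 ze10) (ke xe11 ye59 ze31) (ke xe18 ye19 ze37) (ke xe14 ye57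 ze27) (ke xe28 ye27 ze34) (ke xe16 ye19 ze41) (ke xe10 ye29 ze20) (ke xe28 ye27 ze36) (ke xe28 ye27 ze37) (ke xe10 ye29 ze21) (ke xe12 ye13 ze48) (ke xe12 ye29 ze25) (ke xe12 ye17 ze32) (ke xe17 ye37 ze22) (ke xe28 ye27 ze44) (ke xe12 ye58 ze51) (ke xe20 ye8 ze6) (ke xe24 ye55 ze34) (ke xe28 ye27 ze47) (ke xe10 ye29 ze26) (ke xe28 ye27 ze48) (ke xe27 ye5 ze36) (ke xe28 ye27 ze49) (ke xe10 ye29 ze28) (ke xe28 ye27 ze50) (ke xe10 ye29 ze32) (ke xe28 ye12 ze52) (ke xe28 ye27 ze54) (ke xe20 ye37 ze12) (ke xe28 ye27 ze55)) (@D3.rec (fun _ => Pt) (ke xe27 ye54 ze29) (ke xe20 ye37 ze27) (ke xe28 ye12 ze44) (ke xe22 ye17 ze13) (ke xe20 ye58 ze60) (ke xe16 ye37 ze24) (ke xe10 ye29 ze39) (ke xe28 ye27 ze57) (ke xe24 ye1 ze33) (ke xe19 ye34 ze61) (ke xe16 ye39 ze9) (ke xe10 ye29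 ze40) (ke xe19 ye0 ze8) (ke xe15 ye7 ze30) (ke xe28 ye28 ze0) (ke xe10 ye29 ze44) (ke xe28 ye28 ze3) (ke xe10 ye29 ze45) (ke xe20 ye7 ze25) (ke xe23 ye6 ze17) (ke xe25 ye18 ze13) (ke xe18 ye59 ze10) (ke xe20 ye10 ze56) (ke xe20 ye35 ze49) (ke xe10 ye29 ze50) (ke xe18 ye59 ze14) (ke xe24 ye53 ze58) (ke xe25 ye0 ze5) (ke xe10 ye29 ze48) (ke xe23 ye50 ze25) (ke xe18 ye42 ze19) (ke xe26 ye20 ze10) (ke xe28 ye28 ze14) (ke xe28 ye28 ze15) (ke xe22 ye29 ze36) (ke xe20 ye18 ze22) (ke xe18 ye59 ze57) (ke xe18 ye41 ze8) (ke xe10 ye29 ze61) (ke xe18 ye59 ze60) (ke xe22 ye17 ze5) (ke xe28 ye28 ze21) (ke xe26 ye26 ze36) (ke xe26 ye21 ze12) (ke xe10 ye30 ze2) (ke xe10 ye30 ze3) (ke xe13 ye48 ze18) (ke xe18 ye22 ze54) (ke xe27 ye40 ze16) (ke xe10 ye30 ze6) (ke xe18 ye59 ze39) (ke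 xe13 ye15 ze45) (ke xe17 ye2 ze54) (ke xe10 ye30 ze8) (ke xe24 ye46 ze30) (ke xe14 ye35 ze3) (ke xe10 ye30 ze9) (ke xe23 ye11 ze53) (ke xe16 ye23 ze9) (ke xe14 ye35 ze20) (ke xe10 ye30 ze10) (ke xe22 ye36 ze27)) (@D3.rec (fun _ => Pt) (ke xe16 ye16 ze47) (ke xe10 ye30 ze11) (ke xe26 ye33 ze2) (ke xe28 ye28 ze30) (ke xe27 ye48 ze14) (ke xe10 ye30 ze13) (ke xe28 ye28 ze33) (ke xe10 ye30 ze14) (ke xe10 ye30 ze15) (ke xe28 ye28 ze36) (ke xe10 ye30 ze16) (ke xe22 ye29 ze11) (ke xe28 ye28 ze37) (ke xe26 ye19 ze54) (ke xe25 ye0 ze53) (ke xe10 ye30 ze18) (ke xe16 ye21 ze37) (ke xe26 ye13 ze19) (ke xe16 ye35 ze53) (ke xe22 ye51 ze27) (ke xe27 ye30 ze29) (ke xe10 ye30 ze21) (ke xe11 ye15 ze30) (ke xe28 ye28 ze43) (ke xe18 ye13 ze7) (ke xe18 ye14 ze30) (ke xe16 ye19 ze34) (ke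 xe20 ye7 ze9) (ke xe28 ye28 ze49) (ke xe10 ye30 ze24) (ke xe21 ye51 ze29) (ke xe16 ye52 ze38) (ke xe10 ye30 ze27) (ke xe16 ye54 ze4) (ke xe10 ye30 ze30) (ke xe28 ye5 ze54) (ke xe14 ye20 ze48) (ke xe10 ye31 ze32) (ke xe14 ye38 ze33) (ke xe22 ye49 ze27) (ke xe10 ye30 ze32) (ke xe10 ye30 ze33) (ke xe10 ye31 ze51) (ke xe28 ye28 ze59) (ke xe22 ye49 ze26) (ke xe10 ye34 ze11) (ke xe26 ye0 ze23) (ke xe28 ye1 ze22) (ke xe10 ye31 ze56) (ke xe28 ye29 ze3) (ke xe28 ye29 ze7) (ke xe10 ye30 ze37) (ke xe10 ye30 ze38) (ke xe28 ye29 ze12) (ke xe10 ye34 ze31) (ke xe10 ye31 ze61) (ke xe20 ye40 ze42) (ke xe28 ye29 ze16) (ke xe22 ye20 ze52) (ke xe10 ye30 ze40) (ke xe10 ye30 ze41) (ke xe28 ye29 ze20)) (@D3.rec (fun _ => Pt) (ke xe10 ye34 ze23) (ke xe12 ye11 ze34) (ke xe24 ye26 ze29) (ke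 xe24 ye28 ze45) (ke xe28 ye29 ze25) (ke xe10 ye30 ze43) (ke xe28 ye29 ze27) (ke xe24 ye27 ze54) (ke xe28 ye29 ze28) (ke xe10 ye30 ze44) (ke xe19 ye41 ze2) (ke xe24 ye1 ze40) (ke xe19 ye41 ze52) (ke xe16 ye1 ze37) (ke xe14 ye27 ze18) (ke xe10 ye30 ze48) (ke xe24 ye38 ze38) (ke xe10 ye30 ze49) (ke xe15 ye52 ze8) (ke xe28 ye29 ze35) (ke xe17 ye12 ze37) (ke xe24 ye20 ze54) (ke xe23 ye59 ze26) (ke xe13 ye9 ze43) (ke xe26 ye55 ze55) (ke xe19 ye41 ze20) (ke xe28 ye26 ze43) (ke xe27 ye10 ze49) (ke xe23 ye57 ze33) (ke xe28 ye29 ze41) (ke xe10 ye30 ze57) (ke xe18 ye56 ze55) (ke xe10 ye33 ze37) (ke xe28 ye29 ze46) (ke xe28 ye29 ze48) (ke xe28 ye29 ze49) (ke xe10 ye30 ze59) (ke xe19 ye18 ze0) (ke xe24 ye16 ze1) (ke xe24 ye20 ze60) (ke xe23 ye58 ze33) (ke xe28 ye29 ze54) (ke xe13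 ye19 ze55) (ke xe27 ye23 ze20) (ke xe28 ye3 ze2) (ke xe10 ye31 ze2) (ke xe22 ye29 ze24) (ke xe10 ye31 ze3) (ke xe18 ye54 ze41) (ke xe10 ye31 ze7) (ke xe23 ye58 ze23) (ke xe23 ye45 ze52) (ke xe24 ye15 ze33) (ke xe24 ye12 ze3) (ke xe28 ye30 ze4) (ke xe16 ye54 ze39) (ke xe28 ye29 ze59) (ke xe28 ye30 ze12) (ke xe11 ye26 ze17) (ke xe17 ye59 ze23) (ke xe18 ye0 ze44) (ke xe14 ye36 ze35)) (@D3.rec (fun _ => Pt) (ke xe10 ye31 ze11) (ke xe28 ye30 ze15) (ke xe10 ye31 ze14) (ke xe10 ye31 ze15) (ke xe28 ye17 ze12) (ke xe14 ye35 ze0) (ke xe10 ye31 ze17) (ke xe28 ye30 ze20) (ke xe10 ye33 ze26) (ke xe28 ye30 ze17) (ke xe13 ye19 ze48) (ke xe24 ye40 ze31) (ke xe10 ye31 ze22) (ke xe10 ye36 ze45) (ke xe21 ye30 ze40) (ke xe21 ye30 ze36) (ke xe10 ye54 ze50) (ke xe28 ye30 ze33) (ke xe14 ye18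 ze41) (ke xe28 ye30 ze26) (ke xe28 ye30 ze39) (ke xe26 ye50 ze61) (ke xe11 ye55 ze54) (ke xe16 ye55 ze20) (ke xe28 ye30 ze40) (ke xe10 ye31 ze29) (ke xe24 ye12 ze37) (ke xe14 ye33 ze24) (ke xe14 ye36 ze45) (ke xe22 ye39 ze5) (ke xe28 ye1 ze51) (ke xe10 ye31 ze34) (ke xe10 ye31 ze38) (ke xe28 ye30 ze45) (ke xe10 ye31 ze37) (ke xe10 ye31 ze40) (ke xe10 ye31 ze42) (ke xe25 ye20 ze46) (ke xe10 ye31 ze45) (ke xe14 ye1 ze9) (ke xe10 ye31 ze47) (ke xe10 ye39 ze26) (ke xe28 ye30 ze47) (ke xe10 ye31 ze50) (ke xe28 ye28 ze55) (ke xe14 ye48 ze16) (ke xe10 ye31 ze53) (ke xe28 ye30 ze50) (ke xe22 ye34 ze33) (ke xe10 ye31 ze55) (ke xe27 ye24 ze14) (ke xe28 ye30 ze52) (ke xe21 ye9 ze15) (ke xe10 ye31 ze57) (ke xe28 ye30 ze53) (ke xe28 ye30 ze55) (ke xe18 ye9 ze4) (ke xe10 ye31 ze58)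 (ke xe28 ye30 ze56) (ke xe27 ye22 ze23) (ke xe21 ye3 ze54) (ke xe13 ye6 ze53)) (@D3.rec (fun _ => Pt) (ke xe23 ye7 ze31) (ke xe27 ye59 ze31) (ke xe10 ye32 ze4) (ke xe24 ye26 ze49) (ke xe15 ye50 ze52) (ke xe10 ye32 ze6) (ke xe21 ye16 ze48) (ke xe10 ye32 ze7) (ke xe24 ye0 ze14) (ke xe26 ye38 ze40) (ke xe18 ye55 ze56) (ke xe15 ye31 ze5) (ke xe16 ye18 ze12) (ke xe17 ye52 ze44) (ke xe10 ye32 ze15) (ke xe28 ye30 ze60) (ke xe27 ye35 ze0) (ke xe10 ye32 ze17) (ke xe24 ye49 ze9) (ke xe23 ye36 ze42) (ke xe27 ye23 ze22) (ke xe10 ye32 ze19) (ke xe13 ye53 ze42) (ke xe25 ye31 ze17) (ke xe10 ye42 ze8) (ke xe28 ye17 ze54) (ke xe27 ye55 ze61) (ke xe27 ye16 ze46) (ke xe28 ye31 ze10) (ke xe10 ye32 ze23) (ke xe24 ye39 ze47) (ke xe10 ye32 ze24) (ke xe15 ye30 ze29) (ke xe10 ye35 ze24) (ke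 xe10 ye32 ze28) (ke xe21 ye53 ze18) (ke xe10 ye32 ze29) (ke xe15 ye43 ze59) (ke xe20 ye54 ze38) (ke xe28 ye31 ze11) (ke xe10 ye32 ze32) (ke xe26 ye48 ze12) (ke xe28 ye31 ze15) (ke xe21 ye5 ze55) (ke xe18 ye17 ze54) (ke xe28 ye0 ze30) (ke xe19 ye5 ze61) (ke xe12 ye13 ze34) (ke xe10 ye32 ze38) (ke xe14 ye54 ze42) (ke xe12 ye23 ze57) (ke xe20 ye13 ze53) (ke xe10 ye32 ze39) (ke xe24 ye33 ze28) (ke xe24 ye32 ze5) (ke xe10 ye32 ze42) (ke xe24 ye10 ze8) (ke xe25 ye23 ze12) (ke xe28 ye31 ze22) (ke xe10 ye32 ze45) (ke xe21 ye22 ze15) (ke xe19 ye5 ze46)) (@D3.rec (fun _ => Pt) (ke xe19 ye16 ze35) (ke xe10 ye32 ze47) (ke xe28 ye31 ze26) (ke xe14 ye46 ze49) (ke xe28 ye31 ze27) (ke xe14 ye47 ze20) (ke xe10 ye32 ze50) (ke xe28 ye31 ze30) (ke xe10 ye32 ze51) (ke xe28 ye31 ze38) (ke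 xe10 ye32 ze52) (ke xe26 ye10 ze2) (ke xe19 ye53 ze51) (ke xe28 ye31 ze43) (ke xe16 ye12 ze54) (ke xe24 ye52 ze38) (ke xe10 ye32 ze55) (ke xe28 ye25 ze41) (ke xe28 ye31 ze46) (ke xe28 ye31 ze47) (ke xe10 ye32 ze56) (ke xe10 ye32 ze57) (ke xe28 ye31 ze52) (ke xe17 ye51 ze4) (ke xe10 ye32 ze59) (ke xe10 ye32 ze61) (ke xe21 ye10 ze55) (ke xe24 ye48 ze7) (ke xe15 ye9 ze36) (ke xe10 ye33 ze1) (ke xe28 ye31 ze59) (ke xe24 ye46 ze46) (ke xe21 ye10 ze28) (ke xe10 ye33 ze3) (ke xe28 ye32 ze1) (ke xe28 ye32 ze3) (ke xe25 ye54 ze43) (ke xe10 ye33 ze4) (ke xe10 ye33 ze6) (ke xe26 ye30 ze32) (ke xe21 ye10 ze40) (ke xe17 ye26 ze10) (ke xe28 ye32 ze13) (ke xe28 ye32 ze15) (ke xe28 ye5 ze51) (ke xe28 ye32 ze18) (ke xe19 ye15 ze1) (ke xe22 ye10 ze31) (ke xe10 ye33 ze11) (ke xe28 ye26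 ze42) (ke xe13 ye23 ze12) (ke xe27 ye10 ze50) (ke xe15 ye52 ze25) (ke xe10 ye33 ze13) (ke xe10 ye33 ze14) (ke xe26 ye55 ze47) (ke xe19 ye41 ze19) (ke xe16 ye2 ze2) (ke xe10 ye33 ze19) (ke xe28 ye29 ze50) (ke xe28 ye32 ze29) (ke xe28 ye32 ze31)) (@D3.rec (fun _ => Pt) (ke xe10 ye33 ze20) (ke xe10 ye33 ze21) (ke xe23 ye57 ze59) (ke xe28 ye32 ze37) (ke xe26 ye45 ze29) (ke xe10 ye54 ze51) (ke xe10 ye33 ze24) (ke xe28 ye32 ze42) (ke xe21 ye59 ze48) (ke xe28 ye32 ze44) (ke xe10 ye33 ze25) (ke xe10 ye46 ze1) (ke xe21 ye53 ze12) (ke xe10 ye45 ze58) (ke xe17 ye26 ze0) (ke xe28 ye17 ze13) (ke xe28 ye32 ze47) (ke xe10 ye33 ze27) (ke xe17 ye20 ze7) (ke xe28 ye32 ze52) (ke xe10 ye33 ze29) (ke xe10 ye33 ze31) (ke xe23 ye54 ze36) (ke xe10 ye36 ze3) (ke xe28 ye32 ze55) (ke xe10 ye33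 ze35) (ke xe26 ye27 ze60) (ke xe28 ye32 ze59) (ke xe10 ye33 ze38) (ke xe14 ye52 ze19) (ke xe28 ye29 ze44) (ke xe28 ye33 ze3) (ke xe16 ye55 ze37) (ke xe28 ye33 ze7) (ke xe28 ye33 ze0) (ke xe25 ye40 ze33) (ke xe28 ye33 ze13) (ke xe28 ye33 ze15) (ke xe26 ye28 ze10) (ke xe10 ye33 ze40) (ke xe20 ye51 ze21) (ke xe16 ye47 ze58) (ke xe11 ye51 ze27) (ke xe20 ye56 ze44) (ke xe10 ye33 ze43) (ke xe28 ye33 ze19) (ke xe28 ye33 ze22) (ke xe28 ye25 ze33) (ke xe10 ye33 ze45) (ke xe28 ye33 ze23) (ke xe24 ye4 ze46) (ke xe10 ye39 ze3) (ke xe18 ye42 ze8) (ke xe10 ye33 ze48) (ke xe10 ye39 ze7) (ke xe23 ye0 ze20) (ke xe10 ye33 ze50) (ke xe19 ye28 ze5) (ke xe26 ye22 ze25) (ke xe28 ye33 ze29) (ke xe10 ye33 ze51) (ke xe14 ye21 ze25)) (@D3.rec (fun _ => Pt) (ke xe21 ye53 ze8) (ke xe23 ye0 ze18)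 (ke xe26 ye36 ze43) (ke xe25 ye47 ze22) (ke xe10 ye33 ze53) (ke xe28 ye33 ze40) (ke xe10 ye33 ze54) (ke xe28 ye33 ze46) (ke xe20 ye27 ze14) (ke xe10 ye33 ze58) (ke xe24 ye13 ze4) (ke xe10 ye40 ze4) (ke xe13 ye35 ze22) (ke xe28 ye33 ze54) (ke xe28 ye33 ze56) (ke xe10 ye33 ze57) (ke xe28 ye33 ze59) (ke xe18 ye51 ze12) (ke xe28 ye34 ze2) (ke xe22 ye16 ze16) (ke xe14 ye2 ze26) (ke xe28 ye34 ze5) (ke xe28 ye23 ze43) (ke xe10 ye34 ze0) (ke xe10 ye39 ze50) (ke xe10 ye39 ze51) (ke xe14 ye36 ze44) (ke xe23 ye57 ze17) (ke xe10 ye34 ze4) (ke xe27 ye12 ze52) (ke xe22 ye57 ze13) (ke xe24 ye13 ze50) (ke xe14 ye36 ze52) (ke xe14 ye21 ze21) (ke xe24 ye13 ze51) (ke xe14 ye38 ze32) (ke xe24 ye13 ze13) (ke xe10 ye34 ze10) (ke xe23 ye0 ze33) (ke xe19 ye52 ze17) (ke xe10 ye34 ze8) (ke xe10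 ye39 ze27) (ke xe28 ye34 ze19) (ke xe28 ye34 ze25) (ke xe22 ye26 ze29) (ke xe10 ye34 ze12) (ke xe10 ye39 ze33) (ke xe26 ye50 ze56) (ke xe21 ye3 ze49) (ke xe21 ye3 ze50) (ke xe14 ye52 ze50) (ke xe10 ye40 ze23) (ke xe10 ye40 ze24) (ke xe28 ye34 ze31) (ke xe19 ye37 ze29) (ke xe10 ye34 ze17) (ke xe22 ye21 ze2) (ke xe27 ye43 ze12) (ke xe16 ye43 ze12) (ke xe10 ye34 ze18) (ke xe24 ye39 ze49) (ke xe22 ye17 ze20)) (@D3.rec (fun _ => Pt) (ke xe28 ye29 ze19) (ke xe27 ye16 ze49) (ke xe20 ye27 ze21) (ke xe10 ye34 ze22) (ke xe28 ye29 ze21) (ke xe28 ye34 ze40) (ke xe26 ye24 ze3) (ke xe28 ye34 ze44) (ke xe10 ye40 ze46) (ke xe28 ye34 ze46) (ke xe28 ye34 ze49) (ke xe28 ye34 ze50) (ke xe17 ye3 ze27) (ke xe10 ye34 ze25) (ke xe14 ye28 ze29) (ke xe10 ye34 ze26) (ke xe20 ye52 ze28) (ke xe28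 ye34 ze59) (ke xe14 ye28 ze28) (ke xe10 ye34 ze27) (ke xe28 ye35 ze4) (ke xe24 ye27 ze52) (ke xe28 ye35 ze0) (ke xe28 ye29 ze10) (ke xe22 ye20 ze0) (ke xe27 ye51 ze19) (ke xe10 ye34 ze30) (ke xe28 ye29 ze13) (ke xe28 ye35 ze15) (ke xe28 ye35 ze20) (ke xe21 ye9 ze53) (ke xe10 ye34 ze32) (ke xe28 ye35 ze22) (ke xe25 ye59 ze25) (ke xe10 ye34 ze33) (ke xe10 ye41 ze14) (ke xe28 ye35 ze26) (ke xe10 ye34 ze34) (ke xe10 ye34 ze35) (ke xe28 ye35 ze28) (ke xe10 ye34 ze36) (ke xe23 ye45 ze29) (ke xe10 ye41 ze40) (ke xe28 ye35 ze29) (ke xe20 ye29 ze20) (ke xe10 ye41 ze32) (ke xe21 ye11 ze29) (ke xe23 ye57 ze51) (ke xe28 ye35 ze36) (ke xe28 ye35 ze38) (ke xe19 ye42 ze0) (ke xe10 ye34 ze41) (ke xe14 ye27 ze30) (ke xe28 ye35 ze43) (ke xe10 ye34 ze42) (ke xe28 ye35 ze47) (ke xe24 ye9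 ze8) (ke xe10 ye34 ze43) (ke xe24 ye8 ze61) (ke xe12 ye7 ze36) (ke xe10 ye34 ze56) (ke xe28 ye35 ze54)) (@D3.rec (fun _ => Pt) (ke xe10 ye34 ze44) (ke xe10 ye34 ze46) (ke xe19 ye41 ze14) (ke xe28 ye35 ze58) (ke xe28 ye35 ze59) (ke xe27 ye44 ze14) (ke xe20 ye27 ze17) (ke xe13 ye36 ze58) (ke xe28 ye24 ze26) (ke xe18 ye59 ze16) (ke xe10 ye34 ze50) (ke xe28 ye36 ze5) (ke xe10 ye46 ze57) (ke xe27 ye23 ze47) (ke xe22 ye20 ze3) (ke xe10 ye34 ze52) (ke xe28 ye36 ze14) (ke xe28 ye36 ze17) (ke xe18 ye14 ze32) (ke xe25 ye35 ze16) (ke xe28 ye36 ze24) (ke xe19 ye42 ze29) (ke xe10 ye34 ze54) (ke xe28 ye36 ze29) (ke xe28 ye36 ze32) (ke xe18 ye10 ze36) (ke xe10 ye34 ze55) (ke xe28 ye36 ze35) (ke xe28 ye36 ze36) (ke xe18 ye39 ze44) (ke xe10 ye34 ze60) (ke xe10 ye35 ze10) (ke xe21 ye3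 ze58) (ke xe10 ye35 ze1) (ke xe11 ye47 ze24) (ke xe28 ye36 ze41) (ke xe10 ye35 ze3) (ke xe10 ye35 ze4) (ke xe28 ye36 ze43) (ke xe27 ye54 ze17) (ke xe10 ye35 ze6) (ke xe21 ye36 ze28) (ke xe24 ye20 ze38) (ke xe10 ye35 ze9) (ke xe28 ye36 ze37) (ke xe10 ye35 ze13) (ke xe10 ye35 ze16) (ke xe18 ye40 ze14) (ke xe16 ye16 ze36) (ke xe10 ye53 ze5) (ke xe20 ye28 ze18) (ke xe10 ye35 ze22) (ke xe27 ye3 ze38) (ke xe15 ye25 ze3) (ke xe15 ye33 ze45) (ke xe17 ye49 ze38) (ke xe28 ye36 ze47) (ke xe17 ye4 ze57) (ke xe15 ye24 ze56) (ke xe17 ye49 ze19) (ke xe26 ye5 ze33) (ke xe28 ye36 ze50)) (@D3.rec (fun _ => Pt) (ke xe20 ye47 ze29) (ke xe10 ye35 ze31) (ke xe18 ye1 ze9) (ke xe17 ye34 ze21) (ke xe27 ye36 ze6) (ke xe27 ye12 ze14) (ke xe28 ye36 ze57) (ke xe15 ye48 ze2) (ke xe15 ye47 ze59)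 (ke xe10 ye35 ze38) (ke xe10 ye35 ze40) (ke xe10 ye35 ze45) (ke xe28 ye37 ze2) (ke xe15 ye29 ze4) (ke xe17 ye22 ze51) (ke xe15 ye19 ze57) (ke xe28 ye37 ze8) (ke xe28 ye36 ze60) (ke xe10 ye35 ze46) (ke xe28 ye37 ze12) (ke xe28 ye37 ze13) (ke xe10 ye35 ze47) (ke xe14 ye41 ze36) (ke xe28 ye37 ze15) (ke xe10 ye35 ze48) (ke xe10 ye35 ze49) (ke xe27 ye10 ze52) (ke xe28 ye26 ze44) (ke xe26 ye53 ze23) (ke xe12 ye57 ze3) (ke xe26 ye50 ze33) (ke xe26 ye50 ze35) (ke xe28 ye37 ze27) (ke xe27 ye50 ze51) (ke xe28 ye37 ze29) (ke xe24 ye18 ze37) (ke xe16 ye55 ze8) (ke xe16 ye55 ze11) (ke xe14 ye36 ze6) (ke xe10 ye35 ze60) (ke xe28 ye37 ze34) (ke xe10 ye35 ze61) (ke xe18 ye41 ze36) (ke xe20 ye28 ze10) (ke xe28 ye37 ze35) (ke xe17 ye21 ze55) (ke xe20 ye38 ze14) (ke xe10 ye36 ze4) (ke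 xe18 ye20 ze16) (ke xe18 ye41 ze35) (ke xe28 ye29 ze32) (ke xe14 ye23 ze2) (ke xe22 ye14 ze3) (ke xe23 ye48 ze9) (ke xe26 ye53 ze21) (ke xe18 ye23 ze11) (ke xe25 ye52 ze23) (ke xe28 ye37 ze57) (ke xe28 ye37 ze59) (ke xe10 ye36 ze5) (ke xe24 ye15 ze20) (ke xe28 ye38 ze0)) (@D3.rec (fun _ => Pt) (ke xe28 ye16 ze59) (ke xe10 ye36 ze6) (ke xe10 ye36 ze7) (ke xe13 ye4 ze31) (ke xe18 ye33 ze1) (ke xe24 ye15 ze57) (ke xe28 ye32 ze32) (ke xe18 ye54 ze45) (ke xe24 ye23 ze13) (ke xe10 ye36 ze11) (ke xe28 ye38 ze15) (ke xe28 ye23 ze18) (ke xe28 ye38 ze18) (ke xe21 ye15 ze54) (ke xe28 ye38 ze20) (ke xe28 ye38 ze22) (ke xe23 ye57 ze27) (ke xe20 ye9 ze14) (ke xe10 ye36 ze14) (ke xe28 ye38 ze24) (ke xe10 ye36 ze15) (ke xe18 ye59 ze5) (ke xe28 ye38 ze27) (ke xe10 ye36 ze16) (ke xe28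 ye4 ze54) (ke xe23 ye58 ze29) (ke xe28 ye38 ze30) (ke xe26 ye54 ze8) (ke xe20 ye38 ze2) (ke xe10 ye36 ze20) (ke xe18 ye41 ze46) (ke xe28 ye38 ze44) (ke xe20 ye41 ze56) (ke xe28 ye38 ze42) (ke xe21 ye15 ze51) (ke xe28 ye38 ze46) (ke xe28 ye38 ze48) (ke xe28 ye5 ze10) (ke xe10 ye36 ze21) (ke xe20 ye25 ze31) (ke xe26 ye21 ze56) (ke xe10 ye36 ze22) (ke xe23 ye11 ze48) (ke xe23 ye59 ze23) (ke xe24 ye17 ze55) (ke xe24 ye17 ze11) (ke xe28 ye38 ze56) (ke xe10 ye36 ze25) (ke xe10 ye36 ze26) (ke xe13 ye41 ze18) (ke xe24 ye20 ze43) (ke xe10 ye36 ze29) (ke xe21 ye59 ze45) (ke xe21 ye52 ze36) (ke xe27 ye59 ze52) (ke xe10 ye36 ze31) (ke xe24 ye40 ze32) (ke xe15 ye32 ze16) (ke xe28 ye30 ze18) (ke xe23 ye58 ze14) (ke xe21 ye18 ze8) (ke xe22 ye37 ze61)) (@D3.rec (fun _ => Pt) (ke xe12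 ye11 ze28) (ke xe21 ye59 ze40) (ke xe24 ye9 ze53) (ke xe24 ye24 ze42) (ke xe14 ye44 ze5) (ke xe28 ye39 ze8) (ke xe21 ye39 ze9) (ke xe18 ye11 ze60) (ke xe10 ye36 ze38) (ke xe10 ye39 ze0) (ke xe25 ye46 ze9) (ke xe28 ye17 ze5) (ke xe18 ye59 ze54) (ke xe10 ye36 ze40) (ke xe18 ye15 ze44) (ke xe24 ye25 ze16) (ke xe18 ye56 ze51) (ke xe28 ye39 ze14) (ke xe28 ye34 ze17) (ke xe23 ye45 ze54) (ke xe10 ye36 ze54) (ke xe28 ye39 ze21) (ke xe28 ye30 ze28) (ke xe24 ye14 ze23) (ke xe13 ye11 ze16) (ke xe28 ye39 ze28) (ke xe19 ye19 ze18) (ke xe28 ye39 ze32) (ke xe28 ye39 ze34) (ke xe28 ye39 ze36) (ke xe10 ye36 ze48) (ke xe10 ye36 ze49) (ke xe26 ye39 ze4) (ke xe10 ye36 ze50) (ke xe22 ye24 ze48) (ke xe28 ye39 ze44) (ke xe10 ye36 ze52) (ke xe16 ye55 ze24) (ke xe16 ye55 ze32) (ke xe28 ye39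 ze49) (ke xe26 ye39 ze49) (ke xe24 ye21 ze33) (ke xe28 ye39 ze56) (ke xe28 ye39 ze57) (ke xe10 ye36 ze55) (ke xe25 ye42 ze3) (ke xe28 ye40 ze3) (ke xe19 ye41 ze21) (ke xe12 ye51 ze47) (ke xe28 ye40 ze8) (ke xe16 ye41 ze6) (ke xe17 ye28 ze54) (ke xe28 ye40 ze11) (ke xe10 ye36 ze59) (ke xe28 ye40 ze13) (ke xe10 ye36 ze61) (ke xe28 ye40 ze16) (ke xe28 ye40 ze17) (ke xe10 ye37 ze1) (ke xe28 ye40 ze18) (ke xe28 ye40 ze20) (ke xe10 ye37 ze4)) (@D3.rec (fun _ => Pt) (ke xe16 ye38 ze41) (ke xe28 ye40 ze23) (ke xe26 ye37 ze57) (ke xe10 ye37 ze15) (ke xe11 ye53 ze20) (ke xe19 ye14 ze26) (ke xe28 ye40 ze29) (ke xe28 ye39 ze30) (ke xe28 ye40 ze32) (ke xe10 ye37 ze7) (ke xe28 ye40 ze35) (ke xe10 ye37 ze9) (ke xe27 ye16 ze10) (ke xe19 ye45 ze4) (ke xe27 ye14 ze19) (ke xe10 ye37 ze10)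 (ke xe10 ye37 ze11) (ke xe16 ye39 ze22) (ke xe21 ye16 ze44) (ke xe10 ye37 ze14) (ke xe26 ye46 ze8) (ke xe10 ye37 ze16) (ke xe16 ye39 ze31) (ke xe10 ye37 ze18) (ke xe28 ye40 ze46) (ke xe28 ye40 ze49) (ke xe19 ye14 ze5) (ke xe28 ye40 ze50) (ke xe24 ye19 ze58) (ke xe10 ye37 ze20) (ke xe21 ye6 ze11) (ke xe24 ye23 ze19) (ke xe28 ye40 ze55) (ke xe25 ye38 ze30) (ke xe28 ye40 ze57) (ke xe28 ye40 ze59) (ke xe10 ye37 ze24) (ke xe23 ye45 ze19) (ke xe10 ye37 ze25) (ke xe25 ye1 ze51) (ke xe28 ye41 ze4) (ke xe28 ye41 ze8) (ke xe10 ye37 ze26) (ke xe15 ye44 ze48) (ke xe16 ye10 ze22) (ke xe28 ye41 ze9) (ke xe19 ye56 ze45) (ke xe28 ye41 ze15) (ke xe28 ye41 ze18) (ke xe10 ye37 ze30) (ke xe22 ye45 ze42) (ke xe25 ye38 ze27) (ke xe28 ye41 ze20) (ke xe28 ye41 ze22) (ke xe24 ye44 ze29) (ke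 xe21 ye19 ze54) (ke xe24 ye40 ze44) (ke xe21 ye47 ze20) (ke xe28 ye41 ze26) (ke xe10 ye37 ze35) (ke xe28 ye41 ze27) (ke xe10 ye37 ze36)) (@D3.rec (fun _ => Pt) (ke xe28 ye41 ze29) (ke xe19 ye6 ze46) (ke xe28 ye41 ze30) (ke xe12 ye23 ze28) (ke xe10 ye37 ze41) (ke xe11 ye55 ze33) (ke xe15 ye8 ze54) (ke xe28 ye41 ze31) (ke xe24 ye15 ze15) (ke xe24 ye17 ze20) (ke xe28 ye21 ze11) (ke xe22 ye39 ze14) (ke xe28 ye41 ze33) (ke xe24 ye23 ze23) (ke xe28 ye13 ze34) (ke xe28 ye41 ze35) (ke xe10 ye37 ze50) (ke xe10 ye37 ze51) (ke xe28 ye24 ze43) (ke xe10 ye37 ze52) (ke xe18 ye3 ze24) (ke xe10 ye37 ze53) (ke xe13 ye35 ze61) (ke xe23 ye51 ze48) (ke xe10 ye37 ze55) (ke xe23 ye59 ze4) (ke xe28 ye41 ze39) (ke xe25 ye30 ze54) (ke xe10 ye37 ze57) (ke xe14 ye35 ze13) (ke xe22 ye10 ze34)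 (ke xe14 ye35 ze16) (ke xe28 ye41 ze45) (ke xe10 ye37 ze59) (ke xe10 ye38 ze1) (ke xe28 ye19 ze12) (ke xe21 ye3 ze34) (ke xe21 ye56 ze24) (ke xe23 ye10 ze60) (ke xe13 ye2 ze20) (ke xe21 ye2 ze11) (ke xe25 ye4 ze15) (ke xe13 ye44 ze35) (ke xe28 ye41 ze46) (ke xe28 ye41 ze53) (ke xe28 ye9 ze57) (ke xe14 ye18 ze39) (ke xe10 ye38 ze3) (ke xe28 ye14 ze43) (ke xe18 ye16 ze21) (ke xe28 ye41 ze56) (ke xe20 ye23 ze7) (ke xe28 ye15 ze42) (ke xe10 ye38 ze15) (ke xe28 ye42 ze1) (ke xe23 ye45 ze32) (ke xe19 ye52 ze8) (ke xe10 ye44 ze12) (ke xe10 ye38 ze7) (ke xe17 ye39 ze35) (ke xe10 ye38 ze8) (ke xe24 ye20 ze19)) (@D3.rec (fun _ => Pt) (ke xe28 ye42 ze2) (ke xe19 ye26 ze49) (ke xe10 ye38 ze9) (ke xe24 ye17 ze53) (ke xe24 ye16 ze52) (ke xe15 ye51 ze45) (ke xe19 ye49 ze41) (ke xe10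 ye38 ze12) (ke xe20 ye28 ze26) (ke xe28 ye42 ze10) (ke xe10 ye38 ze13) (ke xe14 ye32 ze25) (ke xe28 ye42 ze16) (ke xe10 ye38 ze14) (ke xe28 ye42 ze19) (ke xe15 ye18 ze8) (ke xe28 ye41 ze60) (ke xe14 ye54 ze17) (ke xe25 ye13 ze53) (ke xe10 ye38 ze16) (ke xe26 ye42 ze37) (ke xe28 ye42 ze31) (ke xe28 ye42 ze32) (ke xe19 ye25 ze14) (ke xe10 ye38 ze18) (ke xe26 ye53 ze22) (ke xe28 ye42 ze38) (ke xe15 ye52 ze53) (ke xe10 ye38 ze19) (ke xe26 ye55 ze54) (ke xe28 ye42 ze40) (ke xe16 ye6 ze8) (ke xe25 ye44 ze17) (ke xe10 ye38 ze25) (ke xe20 ye3 ze42) (ke xe19 ye6 ze0) (ke xe28 ye42 ze41) (ke xe25 ye14 ze44) (ke xe10 ye38 ze38) (ke xe16 ye19 ze55) (ke xe24 ye36 ze5) (ke xe27 ye4 ze42) (ke xe26 ye12 ze32) (ke xe10 ye38 ze28) (ke xe14 ye54 ze14) (ke xe12 ye40 ze19) (ke xe28 ye42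 ze43) (ke xe20 ye47 ze32) (ke xe10 ye38 ze30) (ke xe10 ye38 ze31) (ke xe28 ye42 ze47) (ke xe24 ye43 ze14) (ke xe14 ye46 ze20) (ke xe28 ye42 ze51) (ke xe28 ye42 ze52) (ke xe10 ye38 ze33) (ke xe10 ye38 ze34) (ke xe16 ye10 ze33) (ke xe23 ye24 ze33) (ke xe16 ye14 ze24) (ke xe23 ye3 ze33) (ke xe10 ye38 ze36)) (@D3.rec (fun _ => Pt) (ke xe12 ye19 ze4) (ke xe27 ye39 ze9) (ke xe10 ye38 ze39) (ke xe10 ye38 ze40) (ke xe28 ye42 ze57) (ke xe28 ye42 ze58) (ke xe10 ye38 ze43) (ke xe10 ye38 ze45) (ke xe10 ye38 ze46) (ke xe23 ye12 ze54) (ke xe22 ye3 ze28) (ke xe27 ye3 ze51) (ke xe12 ye25 ze27) (ke xe21 ye43 ze8) (ke xe10 ye38 ze50) (ke xe21 ye30 ze31) (ke xe12 ye12 ze8) (ke xe19 ye22 ze38) (ke xe17 ye47 ze58) (ke xe15 ye41 ze60) (ke xe24 ye26 ze59) (ke xe10 ye38 ze58) (ke xe14 ye34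 ze2) (ke xe10 ye38 ze59) (ke xe10 ye38 ze60) (ke xe28 ye43 ze1) (ke xe28 ye43 ze3) (ke xe28 ye39 ze9) (ke xe19 ye21 ze24) (ke xe28 ye15 ze51) (ke xe24 ye41 ze11) (ke xe24 ye28 ze39) (ke xe24 ye31 ze8) (ke xe10 ye39 ze2) (ke xe28 ye43 ze6) (ke xe10 ye39 ze4) (ke xe21 ye59 ze35) (ke xe18 ye36 ze25) (ke xe27 ye56 ze25) (ke xe28 ye33 ze25) (ke xe18 ye35 ze61) (ke xe26 ye36 ze40) (ke xe28 ye43 ze10) (ke xe22 ye38 ze58) (ke xe13 ye29 ze43) (ke xe10 ye39 ze13) (ke xe10 ye39 ze17) (ke xe28 ye43 ze15) (ke xe12 ye5 ze48) (ke xe13 ye26 ze56) (ke xe10 ye39 ze15) (ke xe28 ye43 ze16) (ke xe28 ye43 ze17) (ke xe10 ye39 ze16) (ke xe20 ye52 ze31) (ke xe15 ye55 ze56) (ke xe23 ye19 ze46) (ke xe14 ye38 ze12) (ke xe28 ye43 ze22) (ke xe10 ye39 ze19) (ke xe20 ye49 ze18) (ke xe28 ye43 ze27))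 (@D3.rec (fun _ => Pt) (ke xe19 ye3 ze37) (ke xe18 ye53 ze55) (ke xe18 ye53 ze51) (ke xe18 ye20 ze44) (ke xe10 ye39 ze21) (ke xe21 ye52 ze3) (ke xe10 ye39 ze23) (ke xe20 ye49 ze16) (ke xe16 ye53 ze28) (ke xe20 ye9 ze34) (ke xe14 ye33 ze46) (ke xe28 ye34 ze23) (ke xe10 ye39 ze28) (ke xe27 ye9 ze23) (ke xe10 ye39 ze30) (ke xe10 ye41 ze42) (ke xe28 ye43 ze36) (ke xe10 ye39 ze35) (ke xe28 ye30 ze49) (ke xe26 ye50 ze54) (ke xe10 ye39 ze37) (ke xe28 ye43 ze40) (ke xe10 ye39 ze41) (ke xe28 ye43 ze42) (ke xe28 ye43 ze44) (ke xe28 ye43 ze46) (ke xe28 ye43 ze50) (ke xe10 ye39 ze43) (ke xe14 ye5 ze10) (ke xe28 ye43 ze55) (ke xe10 ye39 ze47) (ke xe27 ye44 ze29) (ke xe28 ye43 ze57) (ke xe14 ye1 ze58) (ke xe10 ye39 ze45) (ke xe25 ye23 ze20) (ke xe16 ye24 ze61) (ke xe26 ye17 ze13)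 (ke xe22 ye11 ze58) (ke xe14 ye42 ze22) (ke xe26 ye9 ze55) (ke xe23 ye20 ze15) (ke xe10 ye39 ze52) (ke xe24 ye47 ze18) (ke xe10 ye39 ze53) (ke xe14 ye1 ze10) (ke xe18 ye51 ze35) (ke xe28 ye44 ze1) (ke xe27 ye46 ze26) (ke xe10 ye39 ze57) (ke xe26 ye12 ze4) (ke xe27 ye49 ze7) (ke xe28 ye44 ze0) (ke xe28 ye44 ze8) (ke xe10 ye39 ze59) (ke xe28 ye44 ze10) (ke xe26 ye4 ze24) (ke xe10 ye39 ze60) (ke xe16 ye55 ze19) (ke xe25 ye18 ze46) (ke xe20 ye28 ze43) (ke xe10 ye40 ze0)) (@D3.rec (fun _ => Pt) (ke xe10 ye40 ze1) (ke xe14 ye31 ze19) (ke xe18 ye59 ze24) (ke xe28 ye33 ze48) (ke xe13 ye45 ze5) (ke xe10 ye41 ze30) (ke xe28 ye44 ze17) (ke xe10 ye40 ze6) (ke xe23 ye11 ze2) (ke xe14 ye51 ze59) (ke xe10 ye40 ze7) (ke xe28 ye8 ze57) (ke xe19 ye30 ze60) (ke xe13 ye3 ze1) (ke xe20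 ye56 ze36) (ke xe26 ye42 ze39) (ke xe11 ye26 ze16) (ke xe25 ye8 ze17) (ke xe19 ye13 ze26) (ke xe28 ye44 ze26) (ke xe27 ye21 ze10) (ke xe10 ye40 ze15) (ke xe25 ye8 ze7) (ke xe25 ye43 ze27) (ke xe20 ye55 ze1) (ke xe28 ye44 ze35) (ke xe20 ye56 ze25) (ke xe10 ye40 ze17) (ke xe28 ye44 ze39) (ke xe28 ye44 ze40) (ke xe10 ye40 ze19) (ke xe14 ye32 ze42) (ke xe28 ye44 ze42) (ke xe27 ye29 ze25) (ke xe17 ye32 ze45) (ke xe10 ye40 ze20) (ke xe10 ye40 ze21) (ke xe28 ye44 ze46) (ke xe25 ye52 ze61) (ke xe28 ye14 ze53) (ke xe13 ye32 ze43) (ke xe10 ye40 ze25) (ke xe18 ye1 ze54) (ke xe10 ye40 ze26) (ke xe23 ye37 ze0) (ke xe17 ye32 ze52) (ke xe10 ye40 ze29) (ke xe28 ye44 ze48) (ke xe15 ye35 ze34) (ke xe10 ye40 ze31) (ke xe11 ye47 ze55) (ke xe28 ye44 ze50) (ke xe28 ye44 ze52) (ke xe25 ye25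 ze32) (ke xe28 ye44 ze54) (ke xe10 ye40 ze34) (ke xe24 ye18 ze18) (ke xe28 ye19 ze53) (ke xe10 ye40 ze35) (ke xe21 ye11 ze28) (ke xe24 ye4 ze61) (ke xe10 ye40 ze37)) (@D3.rec (fun _ => Pt) (ke xe28 ye44 ze60) (ke xe28 ye44 ze61) (ke xe10 ye40 ze38) (ke xe18 ye2 ze40) (ke xe24 ye53 ze41) (ke xe28 ye45 ze4) (ke xe18 ye59 ze29) (ke xe27 ye59 ze15) (ke xe10 ye40 ze42) (ke xe10 ye40 ze47) (ke xe28 ye45 ze6) (ke xe23 ye50 ze7) (ke xe10 ye40 ze48) (ke xe10 ye40 ze49) (ke xe10 ye40 ze50) (ke xe24 ye27 ze21) (ke xe28 ye45 ze9) (ke xe24 ye48 ze40) (ke xe28 ye45 ze12) (ke xe15 ye2 ze28) (ke xe10 ye40 ze55) (ke xe24 ye49 ze24) (ke xe25 ye22 ze46) (ke xe28 ye45 ze16) (ke xe28 ye45 ze19) (ke xe24 ye50 ze22) (ke xe24 ye50 ze41) (ke xe28 ye45 ze24) (ke xe10 ye40 ze58) (ke xe28 ye45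 ze27) (ke xe28 ye45 ze28) (ke xe10 ye40 ze59) (ke xe22 ye49 ze48) (ke xe10 ye40 ze60) (ke xe28 ye45 ze33) (ke xe13 ye17 ze57) (ke xe10 ye41 ze0) (ke xe10 ye41 ze2) (ke xe28 ye45 ze36) (ke xe10 ye41 ze5) (ke xe28 ye2 ze45) (ke xe10 ye41 ze9) (ke xe21 ye38 ze46) (ke xe26 ye23 ze29) (ke xe10 ye41 ze11) (ke xe28 ye15 ze14) (ke xe25 ye52 ze15) (ke xe28 ye17 ze42) (ke xe28 ye45 ze40) (ke xe10 ye41 ze15) (ke xe28 ye25 ze36) (ke xe27 ye52 ze47) (ke xe10 ye41 ze16) (ke xe14 ye14 ze37) (ke xe28 ye35 ze5) (ke xe21 ye9 ze18) (ke xe22 ye50 ze46) (ke xe10 ye41 ze19) (ke xe19 ye39 ze42) (ke xe11 ye50 ze27) (ke xe28 ye45 ze44) (ke xe10 ye41 ze21)) (@D3.rec (fun _ => Pt) (ke xe20 ye25 ze27) (ke xe17 ye55 ze12) (ke xe17 ye1 ze28) (ke xe27 ye6 ze11) (ke xe10 ye41 ze24) (ke xe23 ye58 ze3)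 (ke xe28 ye15 ze22) (ke xe18 ye53 ze9) (ke xe28 ye45 ze51) (ke xe10 ye41 ze25) (ke xe23 ye52 ze3) (ke xe10 ye41 ze27) (ke xe28 ye45 ze53) (ke xe21 ye13 ze38) (ke xe26 ye29 ze23) (ke xe20 ye30 ze39) (ke xe22 ye18 ze36) (ke xe10 ye41 ze33) (ke xe27 ye55 ze46) (ke xe10 ye41 ze34) (ke xe28 ye43 ze35) (ke xe11 ye48 ze33) (ke xe20 ye29 ze4) (ke xe28 ye45 ze55) (ke xe19 ye17 ze28) (ke xe10 ye41 ze38) (ke xe10 ye41 ze41) (ke xe26 ye29 ze26) (ke xe13 ye17 ze36) (ke xe28 ye45 ze56) (ke xe10 ye41 ze43) (ke xe28 ye45 ze58) (ke xe25 ye40 ze45) (ke xe10 ye41 ze44) (ke xe28 ye15 ze9) (ke xe23 ye6 ze44) (ke xe28 ye46 ze0) (ke xe28 ye46 ze2) (ke xe10 ye41 ze47) (ke xe24 ye18 ze21) (ke xe13 ye19 ze60) (ke xe28 ye16 ze10) (ke xe28 ye46 ze13) (ke xe10 ye41 ze48) (ke xe18 ye51 ze52) (ke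 xe26 ye55 ze53) (ke xe10 ye41 ze53) (ke xe10 ye41 ze50) (ke xe28 ye29 ze39) (ke xe28 ye46 ze22) (ke xe10 ye41 ze51) (ke xe26 ye44 ze14) (ke xe28 ye46 ze6) (ke xe28 ye46 ze16) (ke xe19 ye29 ze59) (ke xe22 ye20 ze2) (ke xe10 ye41 ze54) (ke xe23 ye59 ze50) (ke xe15 ye51 ze2) (ke xe10 ye41 ze55) (ke xe28 ye46 ze28) (ke xe21 ye59 ze55)) (@D3.rec (fun _ => Pt) (ke xe18 ye51 ze58) (ke xe14 ye19 ze27) (ke xe28 ye15 ze0) (ke xe10 ye41 ze57) (ke xe23 ye51 ze18) (ke xe14 ye20 ze6) (ke xe28 ye46 ze37) (ke xe10 ye41 ze58) (ke xe28 ye14 ze59) (ke xe28 ye14 ze61) (ke xe28 ye46 ze41) (ke xe10 ye41 ze60) (ke xe18 ye51 ze53) (ke xe23 ye48 ze45) (ke xe10 ye42 ze2) (ke xe28 ye46 ze44) (ke xe19 ye27 ze43) (ke xe10 ye42 ze0) (ke xe14 ye36 ze12) (ke xe20 ye5 ze27) (ke xe17 ye20 ze60) (ke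 xe10 ye42 ze1) (ke xe28 ye6 ze28) (ke xe10 ye42 ze3) (ke xe28 ye46 ze48) (ke xe10 ye42 ze4) (ke xe27 ye45 ze14) (ke xe18 ye29 ze7) (ke xe27 ye36 ze2) (ke xe23 ye36 ze41) (ke xe26 ye57 ze20) (ke xe28 ye35 ze12) (ke xe14 ye39 ze2) (ke xe27 ye36 ze3) (ke xe28 ye46 ze50) (ke xe28 ye46 ze52) (ke xe10 ye42 ze9) (ke xe27 ye34 ze18) (ke xe19 ye17 ze17) (ke xe10 ye42 ze10) (ke xe28 ye17 ze52) (ke xe27 ye37 ze22) (ke xe28 ye18 ze8) (ke xe24 ye12 ze21) (ke xe11 ye55 ze0) (ke xe25 ye33 ze41) (ke xe28 ye47 ze3) (ke xe18 ye57 ze58) (ke xe17 ye13 ze59) (ke xe25 ye43 ze5) (ke xe12 ye4 ze54) (ke xe21 ye23 ze47) (ke xe13 ye6 ze54) (ke xe23 ye36 ze46) (ke xe24 ye44 ze13) (ke xe27 ye21 ze42) (ke xe10 ye42 ze19) (ke xe15 ye49 ze21) (ke xe22 ye20 ze1) (ke xe28 ye8 ze45) (ke xe28 ye47 ze14)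 (ke xe10 ye42 ze21)) (@D3.rec (fun _ => Pt) (ke xe28 ye47 ze15) (ke xe23 ye50 ze14) (ke xe21 ye9 ze21) (ke xe26 ye30 ze4) (ke xe24 ye36 ze12) (ke xe26 ye30 ze6) (ke xe10 ye42 ze25) (ke xe11 ye25 ze21) (ke xe13 ye6 ze41) (ke xe28 ye47 ze22) (ke xe10 ye42 ze28) (ke xe28 ye47 ze23) (ke xe16 ye57 ze61) (ke xe10 ye42 ze40) (ke xe28 ye47 ze24) (ke xe10 ye42 ze30) (ke xe16 ye22 ze7) (ke xe10 ye42 ze31) (ke xe16 ye58 ze18) (ke xe28 ye47 ze25) (ke xe10 ye42 ze34) (ke xe16 ye9 ze29) (ke xe10 ye42 ze35) (ke xe10 ye42 ze36) (ke xe28 ye47 ze27) (ke xe28 ye47 ze28) (ke xe10 ye42 ze41) (ke xe21 ye27 ze34) (ke xe10 ye42 ze44) (ke xe22 ye7 ze47) (ke xe14 ye18 ze33) (ke xe26 ye50 ze40) (ke xe11 ye29 ze37) (ke xe25 ye49 ze55) (ke xe10 ye42 ze49) (ke xe11 ye3 ze3) (ke xe14 ye37 ze0) (ke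 xe15 ye27 ze10) (ke xe26 ye42 ze54) (ke xe28 ye47 ze34) (ke xe28 ye31 ze16) (ke xe17 ye23 ze5) (ke xe10 ye42 ze54) (ke xe25 ye48 ze28) (ke xe10 ye46 ze24) (ke xe19 ye28 ze25) (ke xe28 ye47 ze38) (ke xe28 ye47 ze39) (ke xe17 ye22 ze31) (ke xe26 ye43 ze7) (ke xe24 ye5 ze46) (ke xe28 ye45 ze5) (ke xe10 ye42 ze59) (ke xe28 ye47 ze45) (ke xe28 ye47 ze47) (ke xe20 ye27 ze19) (ke xe26 ye43 ze36) (ke xe11 ye44 ze45) (ke xe19 ye43 ze16) (ke xe10 ye43 ze1) (ke xe20 ye52 ze43) (ke xe10 ye59 ze30)) (@D3.rec (fun _ => Pt) (ke xe28 ye47 ze51) (ke xe23 ye53 ze41) (ke xe26 ye50 ze14) (ke xe10 ye47 ze19) (ke xe13 ye27 ze29) (ke xe28 ye47 ze57) (ke xe22 ye7 ze0) (ke xe10 ye43 ze6) (ke xe26 ye46 ze15) (ke xe24 ye6 ze37) (ke xe10 ye47 ze26) (ke xe10 ye43 ze10) (ke xe28 ye48 ze1) (ke xe10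 ye43 ze11) (ke xe23 ye58 ze36) (ke xe10 ye43 ze16) (ke xe28 ye30 ze25) (ke xe26 ye49 ze60) (ke xe10 ye43 ze17) (ke xe28 ye48 ze5) (ke xe20 ye39 ze14) (ke xe11 ye27 ze37) (ke xe10 ye43 ze22) (ke xe28 ye48 ze6) (ke xe10 ye43 ze26) (ke xe10 ye49 ze49) (ke xe28 ye48 ze9) (ke xe28 ye42 ze6) (ke xe10 ye43 ze28) (ke xe28 ye48 ze13) (ke xe28 ye48 ze16) (ke xe25 ye33 ze51) (ke xe28 ye48 ze17) (ke xe10 ye43 ze30) (ke xe28 ye48 ze20) (ke xe26 ye5 ze4) (ke xe23 ye1 ze32) (ke xe10 ye43 ze31) (ke xe10 ye43 ze32) (ke xe11 ye43 ze4) (ke xe26 ye41 ze55) (ke xe14 ye40 ze0) (ke xe24 ye58 ze16) (ke xe24 ye58 ze30) (ke xe10 ye43 ze35) (ke xe25 ye36 ze7) (ke xe13 ye32 ze44) (ke xe15 ye58 ze42) (ke xe16 ye1 ze14) (ke xe26 ye41 ze61) (ke xe25 ye29 ze18) (ke xe12 ye52 ze25) (ke xe26 ye41 ze35)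 (ke xe21 ye57 ze34) (ke xe10 ye43 ze44) (ke xe17 ye58 ze53) (ke xe11 ye9 ze25) (ke xe11 ye40 ze4) (ke xe10 ye43 ze45) (ke xe10 ye43 ze46) (ke xe17 ye53 ze37) (ke xe28 ye48 ze33)) (@D3.rec (fun _ => Pt) (ke xe25 ye33 ze10) (ke xe10 ye43 ze48) (ke xe11 ye11 ze58) (ke xe10 ye52 ze34) (ke xe26 ye53 ze56) (ke xe10 ye43 ze50) (ke xe26 ye42 ze22) (ke xe26 ye42 ze31) (ke xe12 ye32 ze5) (ke xe17 ye56 ze50) (ke xe25 ye40 ze39) (ke xe17 ye9 ze52) (ke xe28 ye48 ze38) (ke xe28 ye48 ze39) (ke xe19 ye16 ze23) (ke xe10 ye43 ze57) (ke xe27 ye8 ze10) (ke xe10 ye53 ze47) (ke xe16 ye56 ze41) (ke xe10 ye43 ze60) (ke xe28 ye14 ze51) (ke xe16 ye56 ze37) (ke xe10 ye43 ze61) (ke xe21 ye36 ze43) (ke xe21 ye40 ze20) (ke xe24 ye24 ze35) (ke xe17 ye21 ze53) (ke xe28 ye2 ze44) (ke xe16 ye54 ze49)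 (ke xe10 ye44 ze5) (ke xe12 ye34 ze9) (ke xe14 ye43 ze24) (ke xe28 ye48 ze54) (ke xe20 ye27 ze1) (ke xe17 ye20 ze46) (ke xe28 ye48 ze61) (ke xe26 ye36 ze58) (ke xe12 ye51 ze44) (ke xe26 ye44 ze56) (ke xe27 ye16 ze25) (ke xe19 ye36 ze38) (ke xe28 ye49 ze8) (ke xe10 ye44 ze9) (ke xe27 ye6 ze37) (ke xe10 ye58 ze31) (ke xe20 ye25 ze32) (ke xe20 ye19 ze44) (ke xe19 ye51 ze35) (ke xe28 ye49 ze13) (ke xe28 ye49 ze16) (ke xe10 ye44 ze20) (ke xe25 ye18 ze52) (ke xe13 ye38 ze33) (ke xe10 ye57 ze26) (ke xe10 ye57 ze30) (ke xe26 ye48 ze33) (ke xe10 ye44 ze29) (ke xe10 ye56 ze13) (ke xe28 ye49 ze19) (ke xe10 ye44 ze33) (ke xe27 ye15 ze50) (ke xe24 ye37 ze2)) (@D3.rec (fun _ => Pt) (ke xe20 ye41 ze33) (ke xe27 ye15 ze48) (ke xe10 ye44 ze35) (ke xe25 ye27 ze59) (ke xe10 ye44 ze36)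 (ke xe17 ye43 ze17) (ke xe10 ye44 ze37) (ke xe15 ye58 ze16) (ke xe10 ye44 ze39) (ke xe25 ye4 ze24) (ke xe28 ye49 ze25) (ke xe27 ye59 ze32) (ke xe28 ye49 ze28) (ke xe15 ye59 ze59) (ke xe10 ye44 ze43) (ke xe25 ye4 ze28) (ke xe27 ye9 ze55) (ke xe10 ye44 ze47) (ke xe20 ye22 ze33) (ke xe24 ye20 ze50) (ke xe28 ye41 ze2) (ke xe10 ye44 ze49) (ke xe12 ye23 ze22) (ke xe22 ye45 ze36) (ke xe10 ye44 ze52) (ke xe19 ye56 ze21) (ke xe10 ye44 ze54) (ke xe10 ye57 ze59) (ke xe28 ye49 ze34) (ke xe25 ye37 ze4) (ke xe23 ye21 ze14) (ke xe13 ye59 ze29) (ke xe10 ye44 ze56) (ke xe14 ye38 ze29) (ke xe25 ye37 ze50) (ke xe28 ye49 ze38) (ke xe11 ye0 ze35) (ke xe20 ye40 ze2) (ke xe25 ye38 ze16) (ke xe16 ye47 ze37) (ke xe16 ye56 ze54) (ke xe24 ye53 ze10) (ke xe10 ye58 ze49) (ke xe28 ye49 ze46) (ke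 xe10 ye45 ze2) (ke xe21 ye50 ze6) (ke xe10 ye45 ze3) (ke xe10 ye59 ze5) (ke xe19 ye38 ze37) (ke xe19 ye16 ze1) (ke xe25 ye29 ze45) (ke xe10 ye45 ze9) (ke xe17 ye10 ze0) (ke xe25 ye59 ze39) (ke xe10 ye45 ze11) (ke xe16 ye55 ze38) (ke xe20 ye39 ze59) (ke xe10 ye45 ze14) (ke xe28 ye49 ze50) (ke xe28 ye49 ze51) (ke xe10 ye45 ze15) (ke xe10 ye59 ze25)) (@D3.rec (fun _ => Pt) (ke xe28 ye49 ze54) (ke xe20 ye13 ze23) (ke xe14 ye33 ze23) (ke xe17 ye24 ze9) (ke xe10 ye45 ze19) (ke xe28 ye49 ze55) (ke xe10 ye59 ze58) (ke xe28 ye49 ze58) (ke xe27 ye14 ze54) (ke xe10 ye45 ze21) (ke xe17 ye1 ze44) (ke xe28 ye50 ze3) (ke xe28 ye50 ze4) (ke xe10 ye45 ze22) (ke xe23 ye57 ze45) (ke xe11 ye0 ze43) (ke xe28 ye50 ze6) (ke xe22 ye49 ze23) (ke xe17 ye0 ze49) (ke xe14 ye29 ze48) (ke xe10 ye45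 ze25) (ke xe10 ye45 ze28) (ke xe12 ye9 ze21) (ke xe23 ye30 ze42) (ke xe24 ye53 ze32) (ke xe17 ye0 ze34) (ke xe20 ye51 ze61) (ke xe28 ye50 ze9) (ke xe10 ye45 ze31) (ke xe10 ye45 ze32) (ke xe28 ye13 ze54) (ke xe11 ye0 ze6) (ke xe28 ye50 ze11) (ke xe10 ye45 ze35) (ke xe11 ye0 ze36) (ke xe18 ye43 ze36) (ke xe12 ye9 ze32) (ke xe11 ye44 ze40) (ke xe11 ye25 ze0) (ke xe19 ye52 ze44) (ke xe17 ye59 ze59) (ke xe11 ye31 ze48) (ke xe18 ye43 ze32) (ke xe19 ye22 ze16) (ke xe18 ye42 ze60) (ke xe15 ye4 ze56) (ke xe11 ye49 ze47) (ke xe10 ye45 ze44) (ke xe28 ye50 ze16) (ke xe28 ye50 ze17) (ke xe10 ye45 ze46) (ke xe28 ye50 ze18) (ke xe10 ye45 ze47) (ke xe15 ye5 ze24) (ke xe12 ye23 ze18) (ke xe11 ye29 ze7) (ke xe20 ye17 ze3) (ke xe10 ye45 ze51) (ke xe21 ye3 ze21) (ke xe15 ye49 ze27) (ke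 xe10 ye45 ze54) (ke xe24 ye10 ze14)) (@D3.rec (fun _ => Pt) (ke xe28 ye50 ze20) (ke xe10 ye45 ze55) (ke xe14 ye25 ze20) (ke xe22 ye35 ze52) (ke xe10 ye45 ze56) (ke xe19 ye7 ze57) (ke xe10 ye45 ze57) (ke xe17 ye25 ze44) (ke xe13 ye34 ze4) (ke xe20 ye41 ze4) (ke xe28 ye50 ze24) (ke xe21 ye22 ze12) (ke xe28 ye50 ze26) (ke xe16 ye1 ze49) (ke xe17 ye20 ze11) (ke xe22 ye22 ze9) (ke xe27 ye19 ze29) (ke xe10 ye45 ze61) (ke xe27 ye9 ze3) (ke xe26 ye34 ze25) (ke xe28 ye39 ze3) (ke xe28 ye32 ze45) (ke xe14 ye24 ze51) (ke xe28 ye50 ze31) (ke xe10 ye46 ze2) (ke xe19 ye23 ze45) (ke xe28 ye50 ze34) (ke xe28 ye50 ze37) (ke xe28 ye50 ze39) (ke xe10 ye46 ze5) (ke xe28 ye50 ze45) (ke xe28 ye50 ze47) (ke xe28 ye50 ze49) (ke xe10 ye46 ze6) (ke xe28 ye50 ze53) (ke xe28 ye50 ze55) (ke xe13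 ye32 ze41) (ke xe28 ye50 ze56) (ke xe25 ye51 ze25) (ke xe14 ye41 ze48) (ke xe10 ye46 ze11) (ke xe25 ye51 ze29) (ke xe21 ye54 ze26) (ke xe10 ye46 ze13) (ke xe28 ye15 ze46) (ke xe13 ye45 ze50) (ke xe10 ye46 ze15) (ke xe20 ye23 ze9) (ke xe14 ye11 ze56) (ke xe10 ye46 ze17) (ke xe14 ye29 ze15) (ke xe28 ye50 ze58) (ke xe10 ye46 ze19) (ke xe28 ye51 ze2) (ke xe10 ye46 ze20) (ke xe24 ye19 ze41) (ke xe28 ye47 ze35) (ke xe28 ye51 ze3) (ke xe21 ye0 ze1) (ke xe10 ye46 ze25) (ke xe28 ye51 ze9) (ke xe10 ye46 ze23)) (@D3.rec (fun _ => Pt) (ke xe28 ye47 ze36) (ke xe18 ye56 ze6) (ke xe13 ye7 ze30) (ke xe28 ye51 ze7) (ke xe22 ye25 ze10) (ke xe14 ye25 ze0) (ke xe28 ye51 ze16) (ke xe10 ye46 ze27) (ke xe15 ye57 ze17) (ke xe24 ye46 ze7) (ke xe18 ye48 ze61) (ke xe22 ye21 ze41) (ke xe28 ye51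 ze20) (ke xe28 ye51 ze21) (ke xe20 ye54 ze22) (ke xe10 ye46 ze31) (ke xe10 ye46 ze32) (ke xe15 ye28 ze10) (ke xe28 ye51 ze30) (ke xe24 ye49 ze32) (ke xe14 ye19 ze34) (ke xe24 ye4 ze31) (ke xe10 ye46 ze36) (ke xe28 ye51 ze38) (ke xe10 ye46 ze37) (ke xe28 ye51 ze39) (ke xe10 ye46 ze38) (ke xe28 ye51 ze43) (ke xe23 ye53 ze43) (ke xe28 ye11 ze2) (ke xe10 ye46 ze39) (ke xe18 ye54 ze15) (ke xe28 ye47 ze61) (ke xe28 ye33 ze9) (ke xe25 ye32 ze28) (ke xe27 ye10 ze10) (ke xe13 ye36 ze55) (ke xe10 ye46 ze43) (ke xe25 ye32 ze38) (ke xe22 ye23 ze17) (ke xe28 ye52 ze1) (ke xe17 ye11 ze9) (ke xe28 ye52 ze6) (ke xe28 ye51 ze59) (ke xe28 ye52 ze8) (ke xe14 ye25 ze7) (ke xe22 ye7 ze13) (ke xe27 ye10 ze46) (ke xe27 ye10 ze47) (ke xe14 ye24 ze23) (ke xe24 ye28 ze32) (ke xe10 ye46 ze47)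 (ke xe28 ye52 ze12) (ke xe10 ye46 ze48) (ke xe28 ye35 ze39) (ke xe28 ye52 ze20) (ke xe23 ye57 ze43) (ke xe10 ye46 ze49) (ke xe28 ye52 ze27) (ke xe19 ye21 ze54) (ke xe28 ye52 ze22) (ke xe20 ye59 ze57)) (@D3.rec (fun _ => Pt) (ke xe28 ye52 ze35) (ke xe12 ye57 ze29) (ke xe10 ye46 ze52) (ke xe19 ye41 ze55) (ke xe22 ye0 ze1) (ke xe28 ye52 ze39) (ke xe22 ye1 ze24) (ke xe14 ye24 ze38) (ke xe28 ye52 ze45) (ke xe10 ye46 ze54) (ke xe11 ye45 ze0) (ke xe10 ye46 ze55) (ke xe28 ye5 ze60) (ke xe10 ye46 ze56) (ke xe28 ye36 ze34) (ke xe28 ye4 ze50) (ke xe20 ye59 ze42) (ke xe28 ye47 ze54) (ke xe28 ye36 ze6) (ke xe26 ye43 ze17) (ke xe21 ye9 ze55) (ke xe13 ye33 ze30) (ke xe10 ye46 ze60) (ke xe19 ye41 ze61) (ke xe27 ye7 ze4) (ke xe28 ye52 ze61) (ke xe28 ye53 ze3) (ke xe28 ye53 ze5) (ke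 xe28 ye53 ze6) (ke xe10 ye47 ze0) (ke xe28 ye53 ze9) (ke xe10 ye47 ze2) (ke xe28 ye53 ze14) (ke xe28 ye53 ze11) (ke xe20 ye59 ze51) (ke xe22 ye21 ze54) (ke xe28 ye53 ze17) (ke xe28 ye53 ze19) (ke xe10 ye47 ze4) (ke xe28 ye53 ze24) (ke xe10 ye47 ze5) (ke xe20 ye28 ze35) (ke xe28 ye53 ze26) (ke xe26 ye43 ze26) (ke xe14 ye26 ze41) (ke xe25 ye25 ze1) (ke xe28 ye53 ze35) (ke xe26 ye45 ze0) (ke xe10 ye47 ze10) (ke xe28 ye32 ze39) (ke xe19 ye51 ze36) (ke xe28 ye53 ze43) (ke xe10 ye47 ze11) (ke xe28 ye53 ze45) (ke xe10 ye47 ze13) (ke xe28 ye17 ze46) (ke xe10 ye47 ze16) (ke xe28 ye47 ze53) (ke xe13 ye44 ze38) (ke xe21 ye40 ze28) (ke xe19 ye19 ze12) (ke xe10 ye47 ze21)) (@D3.rec (fun _ => Pt) (ke xe13 ye22 ze54) (ke xe14 ye22 ze10) (ke xe18 ye18 ze43) (ke xe22 ye40 ze16) (ke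 xe12 ye33 ze12) (ke xe15 ye36 ze48) (ke xe24 ye4 ze25) (ke xe10 ye47 ze28) (ke xe28 ye53 ze51) (ke xe20 ye1 ze51) (ke xe10 ye47 ze30) (ke xe18 ye53 ze48) (ke xe10 ye47 ze54) (ke xe17 ye22 ze50) (ke xe24 ye19 ze38) (ke xe28 ye53 ze54) (ke xe10 ye47 ze32) (ke xe22 ye24 ze34) (ke xe10 ye47 ze33) (ke xe18 ye54 ze12) (ke xe14 ye34 ze6) (ke xe25 ye24 ze19) (ke xe19 ye36 ze22) (ke xe28 ye53 ze61) (ke xe25 ye12 ze31) (ke xe24 ye9 ze14) (ke xe10 ye47 ze36) (ke xe10 ye47 ze37) (ke xe28 ye53 ze49) (ke xe16 ye42 ze51) (ke xe25 ye12 ze42) (ke xe25 ye5 ze60) (ke xe26 ye59 ze55) (ke xe25 ye31 ze39) (ke xe19 ye38 ze33) (ke xe28 ye54 ze5) (ke xe10 ye47 ze41) (ke xe28 ye54 ze9) (ke xe16 ye42 ze21) (ke xe10 ye47 ze42) (ke xe20 ye58 ze20) (ke xe16 ye41 ze55) (ke xe10 ye47 ze44) (ke xe11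 ye39 ze39) (ke xe28 ye54 ze14) (ke xe10 ye47 ze46) (ke xe28 ye54 ze18) (ke xe10 ye47 ze47) (ke xe27 ye0 ze7) (ke xe28 ye0 ze22) (ke xe28 ye54 ze20) (ke xe20 ye56 ze37) (ke xe26 ye59 ze23) (ke xe26 ye40 ze43) (ke xe10 ye47 ze52) (ke xe20 ye54 ze4) (ke xe28 ye54 ze38) (ke xe28 ye54 ze40) (ke xe10 ye47 ze50) (ke xe28 ye54 ze41) (ke xe28 ye54 ze43) (ke xe28 ye54 ze45)) (@D3.rec (fun _ => Pt) (ke xe28 ye54 ze34) (ke xe28 ye54 ze46) (ke xe19 ye59 ze29) (ke xe15 ye57 ze5) (ke xe28 ye54 ze50) (ke xe28 ye54 ze51) (ke xe10 ye47 ze55) (ke xe28 ye0 ze21) (ke xe28 ye54 ze52) (ke xe16 ye6 ze7) (ke xe26 ye48 ze35) (ke xe20 ye58 ze56) (ke xe28 ye54 ze54) (ke xe12 ye44 ze38) (ke xe11 ye39 ze48) (ke xe12 ye54 ze18) (ke xe28 ye54 ze56) (ke xe10 ye48 ze3) (ke xe20 ye51 ze59) (ke xe20 ye14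 ze57) (ke xe16 ye37 ze57) (ke xe16 ye52 ze27) (ke xe17 ye13 ze10) (ke xe17 ye9 ze51) (ke xe21 ye36 ze2) (ke xe20 ye18 ze55) (ke xe16 ye52 ze5) (ke xe19 ye53 ze46) (ke xe25 ye34 ze26) (ke xe21 ye18 ze35) (ke xe11 ye12 ze15) (ke xe10 ye48 ze24) (ke xe10 ye48 ze25) (ke xe20 ye50 ze44) (ke xe18 ye30 ze46) (ke xe10 ye48 ze28) (ke xe10 ye48 ze32) (ke xe18 ye41 ze59) (ke xe18 ye41 ze60) (ke xe23 ye58 ze32) (ke xe11 ye25 ze4) (ke xe20 ye27 ze60) (ke xe11 ye40 ze1) (ke xe15 ye26 ze11) (ke xe10 ye48 ze38) (ke xe28 ye55 ze3) (ke xe20 ye58 ze38) (ke xe24 ye51 ze46) (ke xe10 ye48 ze39) (ke xe16 ye58 ze51) (ke xe28 ye36 ze58) (ke xe28 ye55 ze7) (ke xe28 ye55 ze8) (ke xe10 ye48 ze43) (ke xe19 ye43 ze57) (ke xe16 ye59 ze2) (ke xe11 ye7 ze56) (ke xe19 ye58 ze33) (ke xe24 ye51 ze7) (ke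 xe10 ye48 ze46) (ke xe16 ye58 ze56) (ke xe25 ye21 ze25)) (@D3.rec (fun _ => Pt) (ke xe28 ye55 ze15) (ke xe10 ye48 ze48) (ke xe20 ye54 ze18) (ke xe28 ye7 ze55) (ke xe28 ye55 ze17) (ke xe19 ye58 ze8) (ke xe28 ye55 ze26) (ke xe11 ye26 ze45) (ke xe12 ye21 ze25) (ke xe10 ye48 ze50) (ke xe10 ye48 ze54) (ke xe11 ye26 ze61) (ke xe20 ye54 ze24) (ke xe20 ye54 ze25) (ke xe25 ye41 ze25) (ke xe24 ye49 ze28) (ke xe11 ye11 ze23) (ke xe16 ye29 ze29) (ke xe11 ye27 ze58) (ke xe15 ye27 ze12) (ke xe11 ye27 ze43) (ke xe11 ye28 ze23) (ke xe16 ye51 ze11) (ke xe17 ye9 ze4) (ke xe11 ye57 ze31) (ke xe20 ye47 ze4) (ke xe23 ye53 ze9) (ke xe10 ye49 ze16) (ke xe22 ye52 ze58) (ke xe13 ye44 ze29) (ke xe28 ye42 ze26) (ke xe28 ye55 ze37) (ke xe10 ye49 ze18) (ke xe22 ye57 ze45) (ke xe28 ye55 ze39) (ke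 xe28 ye55 ze41) (ke xe10 ye49 ze19) (ke xe20 ye52 ze58) (ke xe28 ye48 ze4) (ke xe28 ye55 ze44) (ke xe21 ye0 ze10) (ke xe24 ye53 ze33) (ke xe24 ye25 ze41) (ke xe18 ye54 ze59) (ke xe20 ye50 ze60) (ke xe19 ye43 ze21) (ke xe12 ye49 ze24) (ke xe10 ye49 ze23) (ke xe11 ye13 ze21) (ke xe12 ye7 ze0) (ke xe28 ye1 ze37) (ke xe10 ye49 ze26) (ke xe28 ye55 ze52) (ke xe20 ye52 ze9) (ke xe10 ye49 ze27) (ke xe10 ye49 ze28) (ke xe27 ye42 ze56) (ke xe10 ye49 ze29) (ke xe21 ye0 ze4) (ke xe16 ye58 ze32) (ke xe23 ye48 ze0) (ke xe26 ye43 ze53)) (@D3.rec (fun _ => Pt) (ke xe28 ye56 ze0) (ke xe10 ye49 ze31) (ke xe28 ye56 ze3) (ke xe10 ye49 ze32) (ke xe17 ye33 ze2) (ke xe28 ye48 ze7) (ke xe28 ye56 ze6) (ke xe26 ye43 ze57) (ke xe24 ye30 ze32) (ke xe23 ye4 ze32) (ke xe10 ye49 ze34) (ke xe11 ye58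 ze11) (ke xe14 ye29 ze53) (ke xe15 ye27 ze8) (ke xe11 ye34 ze4) (ke xe28 ye56 ze19) (ke xe26 ye28 ze14) (ke xe19 ye51 ze32) (ke xe10 ye49 ze41) (ke xe21 ye32 ze38) (ke xe10 ye49 ze43) (ke xe13 ye24 ze20) (ke xe13 ye34 ze29) (ke xe11 ye22 ze35) (ke xe26 ye44 ze61) (ke xe10 ye49 ze46) (ke xe22 ye36 ze49) (ke xe23 ye53 ze46) (ke xe10 ye49 ze47) (ke xe28 ye56 ze23) (ke xe28 ye56 ze25) (ke xe28 ye56 ze26) (ke xe10 ye49 ze48) (ke xe28 ye42 ze13) (ke xe13 ye45 ze4) (ke xe10 ye49 ze50) (ke xe28 ye42 ze14) (ke xe28 ye44 ze12) (ke xe10 ye49 ze51) (ke xe20 ye58 ze18) (ke xe28 ye56 ze30) (ke xe28 ye56 ze33) (ke xe28 ye56 ze36) (ke xe16 ye38 ze23) (ke xe10 ye49 ze54) (ke xe28 ye56 ze39) (ke xe28 ye28 ze60) (ke xe10 ye49 ze55) (ke xe22 ye20 ze40) (ke xe10 ye49 ze56) (ke xe10 ye49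 ze57) (ke xe22 ye3 ze34) (ke xe21 ye20 ze57) (ke xe15 ye32 ze47) (ke xe22 ye1 ze59) (ke xe10 ye49 ze59) (ke xe28 ye56 ze46) (ke xe16 ye38 ze50) (ke xe10 ye49 ze60) (ke xe26 ye37 ze19) (ke xe25 ye31 ze56) (ke xe19 ye1 ze9)) (@D3.rec (fun _ => Pt) (ke xe28 ye56 ze51) (ke xe28 ye56 ze53) (ke xe10 ye50 ze0) (ke xe16 ye42 ze53) (ke xe23 ye24 ze12) (ke xe21 ye50 ze9) (ke xe28 ye56 ze55) (ke xe10 ye50 ze3) (ke xe20 ye58 ze61) (ke xe15 ye51 ze11) (ke xe28 ye56 ze60) (ke xe28 ye57 ze0) (ke xe22 ye9 ze20) (ke xe10 ye50 ze7) (ke xe28 ye57 ze2) (ke xe24 ye25 ze14) (ke xe22 ye57 ze25) (ke xe10 ye50 ze8) (ke xe28 ye57 ze4) (ke xe10 ye50 ze9) (ke xe14 ye27 ze14) (ke xe28 ye57 ze7) (ke xe10 ye50 ze10) (ke xe28 ye57 ze14) (ke xe15 ye31 ze7) (ke xe28 ye57 ze10) (ke xe15 ye40 ze46) (ke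 xe12 ye59 ze11) (ke xe10 ye50 ze14) (ke xe15 ye34 ze41) (ke xe15 ye22 ze6) (ke xe28 ye57 ze27) (ke xe28 ye57 ze23) (ke xe27 ye24 ze6) (ke xe28 ye16 ze1) (ke xe25 ye14 ze46) (ke xe28 ye42 ze9) (ke xe28 ye57 ze35) (ke xe28 ye57 ze36) (ke xe10 ye50 ze18) (ke xe10 ye50 ze19) (ke xe27 ye43 ze56) (ke xe28 ye57 ze39) (ke xe28 ye57 ze41) (ke xe22 ye2 ze58) (ke xe26 ye3 ze54) (ke xe22 ye2 ze45) (ke xe21 ye27 ze11) (ke xe28 ye57 ze42) (ke xe10 ye50 ze25) (ke xe15 ye51 ze9) (ke xe21 ye42 ze21) (ke xe21 ye42 ze24) (ke xe10 ye56 ze18) (ke xe10 ye50 ze30) (ke xe12 ye12 ze61) (ke xe28 ye57 ze49) (ke xe28 ye57 ze51) (ke xe10 ye50 ze31) (ke xe10 ye50 ze32) (ke xe12 ye50 ze28) (ke xe17 ye37 ze11)) (@D3.rec (fun _ => Pt) (ke xe25 ye36 ze25) (ke xe25 ye30 ze45) (ke xe10 ye51 ze0) (ke xe25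 ye22 ze23) (ke xe14 ye34 ze26) (ke xe25 ye55 ze20) (ke xe28 ye58 ze3) (ke xe24 ye1 ze36) (ke xe25 ye19 ze38) (ke xe15 ye38 ze59) (ke xe10 ye50 ze41) (ke xe23 ye33 ze16) (ke xe20 ye41 ze36) (ke xe10 ye50 ze43) (ke xe23 ye56 ze50) (ke xe24 ye3 ze14) (ke xe10 ye50 ze44) (ke xe21 ye39 ze44) (ke xe10 ye50 ze45) (ke xe22 ye53 ze58) (ke xe22 ye52 ze23) (ke xe21 ye39 ze47) (ke xe19 ye31 ze22) (ke xe28 ye58 ze12) (ke xe15 ye28 ze13) (ke xe14 ye32 ze51) (ke xe10 ye50 ze49) (ke xe28 ye58 ze16) (ke xe20 ye5 ze4) (ke xe10 ye50 ze50) (ke xe10 ye50 ze51) (ke xe25 ye29 ze31) (ke xe10 ye50 ze52) (ke xe25 ye29 ze34) (ke xe27 ye29 ze14) (ke xe28 ye15 ze60) (ke xe22 ye2 ze38) (ke xe14 ye33 ze38) (ke xe19 ye25 ze40) (ke xe10 ye50 ze55) (ke xe28 ye15 ze59) (ke xe26 ye11 ze9) (ke xe15 ye57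 ze28) (ke xe20 ye42 ze36) (ke xe28 ye58 ze31) (ke xe10 ye50 ze60) (ke xe28 ye58 ze32) (ke xe28 ye58 ze33) (ke xe27 ye15 ze59) (ke xe10 ye50 ze61) (ke xe21 ye0 ze20) (ke xe28 ye15 ze13) (ke xe28 ye49 ze23) (ke xe13 ye17 ze39) (ke xe26 ye5 ze7) (ke xe25 ye15 ze16) (ke xe28 ye58 ze36) (ke xe14 ye47 ze42) (ke xe10 ye51 ze6) (ke xe25 ye28 ze21) (ke xe10 ye51 ze7) (ke xe28 ye58 ze42)) (@D3.rec (fun _ => Pt) (ke xe19 ye57 ze13) (ke xe25 ye25 ze49) (ke xe28 ye58 ze46) (ke xe24 ye41 ze45) (ke xe24 ye27 ze18) (ke xe28 ye58 ze50) (ke xe10 ye51 ze11) (ke xe12 ye31 ze4) (ke xe10 ye51 ze12) (ke xe28 ye29 ze34) (ke xe10 ye51 ze13) (ke xe21 ye39 ze23) (ke xe28 ye58 ze54) (ke xe28 ye58 ze56) (ke xe25 ye35 ze18) (ke xe10 ye51 ze15) (ke xe25 ye35 ze19) (ke xe27 ye21 ze32) (ke xe16 ye18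 ze60) (ke xe22 ye8 ze5) (ke xe27 ye13 ze10) (ke xe10 ye51 ze18) (ke xe27 ye21 ze34) (ke xe10 ye59 ze23) (ke xe11 ye47 ze26) (ke xe22 ye54 ze45) (ke xe24 ye39 ze33) (ke xe10 ye51 ze20) (ke xe22 ye54 ze54) (ke xe19 ye8 ze54) (ke xe10 ye51 ze21) (ke xe11 ye38 ze15) (ke xe25 ye59 ze57) (ke xe15 ye8 ze1) (ke xe10 ye51 ze22) (ke xe28 ye59 ze15) (ke xe24 ye38 ze47) (ke xe15 ye41 ze1) (ke xe25 ye50 ze11) (ke xe11 ye9 ze51) (ke xe10 ye51 ze24) (ke xe20 ye59 ze8) (ke xe11 ye41 ze33) (ke xe21 ye35 ze61) (ke xe12 ye43 ze18) (ke xe20 ye43 ze40) (ke xe11 ye59 ze39) (ke xe10 ye51 ze28) (ke xe15 ye41 ze5) (ke xe15 ye40 ze53) (ke xe18 ye52 ze9) (ke xe10 ye51 ze30) (ke xe10 ye56 ze12) (ke xe16 ye29 ze7) (ke xe25 ye24 ze15) (ke xe28 ye19 ze41) (ke xe27 ye30 ze13) (ke xe10 ye51 ze32) (ke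 xe21 ye5 ze24) (ke xe12 ye0 ze19) (ke xe15 ye8 ze61) (ke xe26 ye44 ze35)) (@D3.rec (fun _ => Pt) (ke xe10 ye51 ze44) (ke xe27 ye24 ze5) (ke xe26 ye42 ze6) (ke xe10 ye51 ze36) (ke xe28 ye59 ze38) (ke xe15 ye16 ze25) (ke xe15 ye18 ze34) (ke xe25 ye37 ze35) (ke xe21 ye21 ze6) (ke xe25 ye33 ze49) (ke xe15 ye31 ze25) (ke xe25 ye3 ze14) (ke xe28 ye59 ze47) (ke xe10 ye55 ze61) (ke xe10 ye51 ze43) (ke xe28 ye59 ze50) (ke xe28 ye59 ze52) (ke xe26 ye54 ze0) (ke xe24 ye51 ze19) (ke xe28 ye59 ze53) (ke xe10 ye51 ze45) (ke xe24 ye11 ze40) (ke xe28 ye59 ze58) (ke xe23 ye7 ze51) (ke xe15 ye21 ze12) (ke xe11 ye8 ze59) (ke xe10 ye51 ze47) (ke xe26 ye37 ze8) (ke xe25 ye44 ze0) (ke xe27 ye30 ze4) (ke xe10 ye51 ze48) (ke xe15 ye20 ze57) (ke xe17 ye58 ze56) (ke xe19 ye31 ze34) (ke xe24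 ye12 ze8) (ke xe29 ye0 ze3) (ke xe10 ye51 ze51) (ke xe19 ye26 ze48) (ke xe15 ye53 ze44) (ke xe15 ye31 ze28) (ke xe21 ye58 ze55) (ke xe25 ye21 ze27) (ke xe10 ye56 ze3) (ke xe29 ye0 ze11) (ke xe10 ye51 ze57) (ke xe26 ye1 ze2) (ke xe17 ye35 ze61) (ke xe10 ye52 ze4) (ke xe29 ye0 ze13) (ke xe10 ye51 ze60) (ke xe29 ye0 ze15) (ke xe29 ye0 ze9) (ke xe24 ye42 ze46) (ke xe10 ye52 ze0) (ke xe12 ye52 ze31) (ke xe12 ye33 ze18) (ke xe17 ye25 ze14) (ke xe28 ye17 ze45) (ke xe10 ye52 ze5) (ke xe25 ye28 ze44) (ke xe16 ye43 ze22) (ke xe25 ye55 ze6)) (@D3.rec (fun _ => Pt) (ke xe11 ye19 ze18) (ke xe10 ye52 ze7) (ke xe20 ye52 ze44) (ke xe10 ye52 ze8) (ke xe18 ye48 ze38) (ke xe10 ye52 ze9) (ke xe17 ye34 ze25) (ke xe26 ye58 ze28) (ke xe12 ye30 ze61) (ke xe17 ye58 ze59) (ke xe22 ye20 ze27)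 (ke xe29 ye0 ze20) (ke xe11 ye9 ze23) (ke xe29 ye0 ze21) (ke xe29 ye0 ze22) (ke xe10 ye52 ze13) (ke xe13 ye8 ze28) (ke xe10 ye52 ze14) (ke xe17 ye58 ze52) (ke xe29 ye0 ze25) (ke xe26 ye32 ze61) (ke xe16 ye31 ze26) (ke xe29 ye0 ze28) (ke xe10 ye52 ze16) (ke xe10 ye52 ze20) (ke xe29 ye0 ze29) (ke xe18 ye53 ze26) (ke xe10 ye52 ze21) (ke xe19 ye43 ze41) (ke xe17 ye34 ze43) (ke xe17 ye12 ze28) (ke xe22 ye6 ze15) (ke xe15 ye37 ze61) (ke xe10 ye52 ze24) (ke xe10 ye52 ze25) (ke xe20 ye49 ze38) (ke xe25 ye49 ze46) (ke xe16 ye19 ze8) (ke xe22 ye8 ze4) (ke xe23 ye16 ze45) (ke xe23 ye9 ze28) (ke xe10 ye52 ze27) (ke xe19 ye20 ze58) (ke xe10 ye52 ze30) (ke xe20 ye13 ze13) (ke xe20 ye16 ze35) (ke xe17 ye29 ze52) (ke xe20 ye30 ze0) (ke xe23 ye46 ze40) (ke xe10 ye52 ze32) (ke xe25 ye49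 ze43) (ke xe12 ye49 ze37) (ke xe17 ye34 ze17) (ke xe11 ye42 ze61) (ke xe21 ye31 ze59) (ke xe10 ye52 ze37) (ke xe29 ye0 ze40) (ke xe10 ye52 ze38) (ke xe11 ye22 ze13) (ke xe10 ye52 ze40) (ke xe13 ye42 ze23) (ke xe29 ye0 ze41)) (@D3.rec (fun _ => Pt) (ke xe10 ye52 ze43) (ke xe26 ye29 ze41) (ke xe13 ye10 ze48) (ke xe10 ye52 ze44) (ke xe13 ye59 ze17) (ke xe11 ye8 ze8) (ke xe29 ye0 ze43) (ke xe25 ye49 ze57) (ke xe24 ye36 ze28) (ke xe10 ye52 ze47) (ke xe11 ye42 ze19) (ke xe27 ye41 ze17) (ke xe12 ye49 ze48) (ke xe24 ye36 ze30) (ke xe20 ye59 ze29) (ke xe18 ye52 ze32) (ke xe11 ye40 ze3) (ke xe19 ye49 ze34) (ke xe26 ye35 ze38) (ke xe11 ye32 ze16) (ke xe10 ye52 ze54) (ke xe10 ye57 ze4) (ke xe29 ye0 ze54) (ke xe15 ye29 ze55) (ke xe25 ye5 ze9) (ke xe20 ye25 ze10) (ke xe11 ye8 ze9)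 (ke xe16 ye58 ze6) (ke xe10 ye54 ze42) (ke xe20 ye54 ze34) (ke xe22 ye7 ze33) (ke xe26 ye3 ze39) (ke xe17 ye49 ze21) (ke xe20 ye7 ze37) (ke xe10 ye53 ze6) (ke xe20 ye30 ze31) (ke xe11 ye1 ze27) (ke xe20 ye20 ze34) (ke xe17 ye7 ze2) (ke xe17 ye32 ze47) (ke xe11 ye19 ze45) (ke xe29 ye0 ze61) (ke xe11 ye37 ze6) (ke xe12 ye54 ze0) (ke xe16 ye37 ze26) (ke xe10 ye53 ze14) (ke xe11 ye37 ze4) (ke xe17 ye8 ze40) (ke xe24 ye22 ze33) (ke xe17 ye14 ze49) (ke xe17 ye21 ze33) (ke xe29 ye1 ze2) (ke xe25 ye24 ze56) (ke xe10 ye53 ze25) (ke xe20 ye12 ze10) (ke xe25 ye26 ze5) (ke xe23 ye50 ze49) (ke xe10 ye53 ze27) (ke xe22 ye56 ze18) (ke xe29 ye1 ze5) (ke xe10 ye53 ze28) (ke xe14 ye24 ze54)) (@D3.rec (fun _ => Pt) (ke xe22 ye34 ze43) (ke xe25 ye47 ze45) (ke xe19 ye3 ze10) (ke xe14 ye23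 ze15) (ke xe18 ye27 ze55) (ke xe10 ye53 ze32) (ke xe21 ye0 ze53) (ke xe15 ye58 ze59) (ke xe25 ye4 ze30) (ke xe29 ye1 ze8) (ke xe10 ye53 ze37) (ke xe14 ye43 ze25) (ke xe29 ye1 ze11) (ke xe29 ye1 ze12) (ke xe19 ye10 ze2) (ke xe10 ye53 ze40) (ke xe10 ye53 ze41) (ke xe29 ye1 ze15) (ke xe17 ye21 ze9) (ke xe19 ye6 ze56) (ke xe19 ye3 ze25) (ke xe19 ye13 ze47) (ke xe22 ye3 ze46) (ke xe22 ye21 ze52) (ke xe29 ye1 ze20) (ke xe10 ye53 ze44) (ke xe20 ye53 ze3) (ke xe28 ye23 ze55) (ke xe29 ye1 ze24) (ke xe28 ye48 ze40) (ke xe22 ye58 ze54) (ke xe11 ye32 ze12) (ke xe20 ye53 ze6) (ke xe21 ye36 ze39) (ke xe29 ye1 ze26) (ke xe29 ye1 ze28) (ke xe10 ye53 ze50) (ke xe29 ye1 ze33) (ke xe29 ye1 ze35) (ke xe10 ye53 ze51) (ke xe29 ye1 ze42) (ke xe29 ye1 ze44) (ke xe23 ye57 ze37) (ke xe10 ye53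 ze52) (ke xe10 ye53 ze56) (ke xe29 ye1 ze49) (ke xe10 ye53 ze55) (ke xe23 ye24 ze0) (ke xe22 ye34 ze16) (ke xe29 ye1 ze54) (ke xe21 ye13 ze48) (ke xe10 ye53 ze58) (ke xe19 ye3 ze12) (ke xe22 ye56 ze16) (ke xe16 ye44 ze19) (ke xe19 ye30 ze3) (ke xe29 ye2 ze1) (ke xe29 ye2 ze2) (ke xe10 ye53 ze60) (ke xe27 ye8 ze42) (ke xe16 ye44 ze24) (ke xe19 ye30 ze23)) (@D3.rec (fun _ => Pt) (ke xe19 ye9 ze50) (ke xe14 ye21 ze56) (ke xe10 ye54 ze4) (ke xe17 ye52 ze22) (ke xe25 ye48 ze3) (ke xe29 ye2 ze12) (ke xe10 ye54 ze7) (ke xe18 ye47 ze4) (ke xe14 ye23 ze10) (ke xe14 ye29 ze31) (ke xe24 ye58 ze17) (ke xe23 ye12 ze14) (ke xe26 ye45 ze15) (ke xe14 ye28 ze61) (ke xe14 ye29 ze32) (ke xe14 ye13 ze38) (ke xe29 ye2 ze19) (ke xe29 ye2 ze20) (ke xe10 ye54 ze20) (ke xe17 ye47 ze59) (ke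 xe25 ye11 ze17) (ke xe26 ye45 ze21) (ke xe29 ye2 ze25) (ke xe27 ye54 ze6) (ke xe10 ye54 ze23) (ke xe21 ye38 ze39) (ke xe15 ye56 ze18) (ke xe18 ye56 ze5) (ke xe18 ye20 ze14) (ke xe19 ye10 ze21) (ke xe18 ye20 ze36) (ke xe29 ye2 ze32) (ke xe29 ye2 ze34) (ke xe21 ye54 ze33) (ke xe10 ye54 ze32) (ke xe15 ye56 ze9) (ke xe26 ye0 ze41) (ke xe10 ye54 ze34) (ke xe16 ye51 ze36) (ke xe27 ye4 ze14) (ke xe29 ye2 ze36) (ke xe10 ye54 ze36) (ke xe27 ye1 ze33) (ke xe10 ye54 ze38) (ke xe26 ye58 ze35) (ke xe10 ye54 ze39) (ke xe29 ye2 ze43) (ke xe25 ye20 ze42) (ke xe29 ye2 ze39) (ke xe27 ye43 ze53) (ke xe29 ye2 ze48) (ke xe10 ye54 ze41) (ke xe25 ye38 ze17) (ke xe25 ye19 ze35) (ke xe21 ye51 ze31) (ke xe11 ye28 ze44) (ke xe21 ye3 ze4) (ke xe17 ye56 ze41) (ke xe14 ye16 ze34) (ke xe10 ye54 ze49)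 (ke xe29 ye2 ze54) (ke xe27 ye12 ze2)) (@D3.rec (fun _ => Pt) (ke xe10 ye54 ze53) (ke xe12 ye54 ze31) (ke xe26 ye33 ze12) (ke xe28 ye27 ze19) (ke xe10 ye54 ze58) (ke xe29 ye2 ze58) (ke xe29 ye2 ze59) (ke xe10 ye54 ze59) (ke xe17 ye53 ze19) (ke xe11 ye50 ze26) (ke xe15 ye5 ze9) (ke xe11 ye32 ze10) (ke xe11 ye32 ze11) (ke xe29 ye2 ze61) (ke xe10 ye55 ze0) (ke xe11 ye49 ze60) (ke xe19 ye23 ze58) (ke xe13 ye27 ze3) (ke xe29 ye3 ze1) (ke xe10 ye55 ze4) (ke xe11 ye50 ze28) (ke xe19 ye33 ze45) (ke xe21 ye37 ze52) (ke xe19 ye48 ze46) (ke xe10 ye55 ze6) (ke xe21 ye54 ze46) (ke xe28 ye20 ze0) (ke xe10 ye55 ze7) (ke xe16 ye57 ze29) (ke xe16 ye44 ze60) (ke xe16 ye57 ze33) (ke xe11 ye49 ze56) (ke xe11 ye49 ze57) (ke xe29 ye3 ze8) (ke xe10 ye55 ze9) (ke xe18 ye46 ze15) (ke xe28 ye21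 ze45) (ke xe10 ye55 ze10) (ke xe28 ye56 ze22) (ke xe10 ye55 ze11) (ke xe16 ye57 ze31) (ke xe19 ye39 ze28) (ke xe20 ye25 ze34) (ke xe16 ye55 ze39) (ke xe19 ye51 ze37) (ke xe20 ye38 ze7) (ke xe27 ye11 ze39) (ke xe10 ye55 ze17) (ke xe29 ye3 ze13) (ke xe10 ye55 ze18) (ke xe11 ye24 ze32) (ke xe10 ye55 ze20) (ke xe13 ye57 ze28) (ke xe14 ye48 ze54) (ke xe21 ye33 ze2) (ke xe17 ye53 ze17) (ke xe15 ye30 ze46) (ke xe19 ye32 ze54) (ke xe22 ye7 ze48) (ke xe15 ye5 ze38) (ke xe22 ye7 ze49) (ke xe20 ye6 ze10)) (@D3.rec (fun _ => Pt) (ke xe19 ye49 ze0) (ke xe29 ye3 ze18) (ke xe23 ye12 ze60) (ke xe29 ye3 ze20) (ke xe10 ye55 ze39) (ke xe11 ye36 ze51) (ke xe22 ye50 ze61) (ke xe11 ye0 ze37) (ke xe11 ye0 ze44) (ke xe10 ye55 ze44) (ke xe28 ye49 ze18) (ke xe18 ye1 ze13) (ke xe18 ye20 ze25)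 (ke xe27 ye51 ze5) (ke xe27 ye51 ze17) (ke xe24 ye51 ze3) (ke xe10 ye55 ze51) (ke xe11 ye31 ze45) (ke xe11 ye10 ze25) (ke xe21 ye24 ze17) (ke xe23 ye10 ze59) (ke xe21 ye23 ze60) (ke xe24 ye20 ze29) (ke xe10 ye55 ze56) (ke xe29 ye3 ze26) (ke xe10 ye55 ze57) (ke xe15 ye39 ze27) (ke xe21 ye5 ze32) (ke xe24 ye38 ze58) (ke xe10 ye55 ze58) (ke xe14 ye30 ze3) (ke xe29 ye3 ze35) (ke xe29 ye3 ze31) (ke xe24 ye34 ze56) (ke xe25 ye59 ze52) (ke xe15 ye40 ze1) (ke xe10 ye56 ze1) (ke xe23 ye1 ze33) (ke xe20 ye3 ze50) (ke xe28 ye59 ze49) (ke xe21 ye0 ze21) (ke xe16 ye0 ze37) (ke xe23 ye41 ze43) (ke xe26 ye1 ze5) (ke xe29 ye3 ze38) (ke xe29 ye3 ze49) (ke xe29 ye0 ze7) (ke xe29 ye3 ze51) (ke xe21 ye0 ze26) (ke xe15 ye35 ze59) (ke xe29 ye3 ze54) (ke xe26 ye25 ze42) (ke xe10 ye56 ze5)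 (ke xe24 ye16 ze42) (ke xe29 ye3 ze57) (ke xe29 ye3 ze58) (ke xe24 ye22 ze14) (ke xe10 ye56 ze8) (ke xe24 ye49 ze0) (ke xe16 ye4 ze0) (ke xe10 ye56 ze10) (ke xe29 ye3 ze61)) (@D3.rec (fun _ => Pt) (ke xe15 ye23 ze13) (ke xe18 ye52 ze41) (ke xe26 ye4 ze59) (ke xe25 ye55 ze7) (ke xe19 ye14 ze13) (ke xe29 ye4 ze5) (ke xe24 ye7 ze53) (ke xe25 ye19 ze13) (ke xe10 ye56 ze14) (ke xe20 ye4 ze56) (ke xe25 ye24 ze22) (ke xe17 ye23 ze57) (ke xe10 ye56 ze16) (ke xe28 ye59 ze23) (ke xe20 ye17 ze49) (ke xe29 ye4 ze7) (ke xe28 ye57 ze45) (ke xe25 ye47 ze59) (ke xe29 ye4 ze13) (ke xe29 ye4 ze15) (ke xe10 ye56 ze19) (ke xe27 ye38 ze2) (ke xe18 ye53 ze37) (ke xe27 ye20 ze60) (ke xe13 ye33 ze50) (ke xe10 ye56 ze24) (ke xe29 ye4 ze28) (ke xe23 ye27 ze46) (ke xe10 ye56 ze22) (ke xe22 ye2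 ze17) (ke xe29 ye4 ze33) (ke xe10 ye56 ze23) (ke xe13 ye58 ze11) (ke xe29 ye4 ze37) (ke xe29 ye4 ze23) (ke xe29 ye4 ze38) (ke xe15 ye40 ze17) (ke xe25 ye29 ze19) (ke xe29 ye4 ze39) (ke xe10 ye56 ze27) (ke xe17 ye12 ze8) (ke xe29 ye4 ze44) (ke xe25 ye30 ze40) (ke xe10 ye56 ze29) (ke xe15 ye5 ze44) (ke xe22 ye52 ze35) (ke xe29 ye3 ze42) (ke xe10 ye56 ze30) (ke xe17 ye10 ze19) (ke xe29 ye4 ze47) (ke xe10 ye56 ze43) (ke xe29 ye4 ze52) (ke xe26 ye44 ze29) (ke xe29 ye4 ze55) (ke xe29 ye4 ze58) (ke xe10 ye56 ze33) (ke xe10 ye56 ze34) (ke xe25 ye36 ze21) (ke xe10 ye56 ze35) (ke xe15 ye19 ze33) (ke xe22 ye2 ze22) (ke xe29 ye5 ze4)) (@D3.rec (fun _ => Pt) (ke xe10 ye56 ze37) (ke xe25 ye30 ze39) (ke xe10 ye56 ze39) (ke xe10 ye56 ze41) (ke xe29 ye5 ze6) (ke xe29 ye5 ze9) (ke xe15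 ye36 ze3) (ke xe10 ye56 ze42) (ke xe29 ye5 ze13) (ke xe15 ye35 ze55) (ke xe29 ye4 ze49) (ke xe28 ye54 ze6) (ke xe29 ye5 ze16) (ke xe10 ye56 ze44) (ke xe25 ye4 ze48) (ke xe29 ye5 ze19) (ke xe25 ye5 ze14) (ke xe21 ye48 ze2) (ke xe21 ye43 ze21) (ke xe10 ye56 ze46) (ke xe12 ye11 ze56) (ke xe25 ye24 ze18) (ke xe25 ye30 ze20) (ke xe10 ye56 ze47) (ke xe22 ye2 ze46) (ke xe21 ye43 ze20) (ke xe26 ye44 ze42) (ke xe25 ye26 ze20) (ke xe25 ye57 ze47) (ke xe10 ye56 ze49) (ke xe25 ye57 ze49) (ke xe25 ye34 ze22) (ke xe17 ye59 ze31) (ke xe10 ye56 ze53) (ke xe29 ye5 ze36) (ke xe14 ye52 ze53) (ke xe10 ye56 ze55) (ke xe28 ye33 ze61) (ke xe10 ye56 ze56) (ke xe29 ye5 ze37) (ke xe10 ye56 ze60) (ke xe21 ye57 ze41) (ke xe20 ye3 ze21) (ke xe15 ye32 ze38) (ke xe10 ye57 ze0) (ke xe12 ye49 ze22)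 (ke xe11 ye33 ze4) (ke xe29 ye0 ze53) (ke xe21 ye0 ze36) (ke xe21 ye0 ze37) (ke xe29 ye2 ze60) (ke xe10 ye57 ze6) (ke xe18 ye19 ze42) (ke xe17 ye59 ze53) (ke xe23 ye20 ze53) (ke xe18 ye53 ze34) (ke xe10 ye57 ze7) (ke xe20 ye25 ze25) (ke xe16 ye43 ze44) (ke xe21 ye38 ze7) (ke xe23 ye12 ze10) (ke xe26 ye22 ze43)) (@D3.rec (fun _ => Pt) (ke xe29 ye5 ze41) (ke xe10 ye57 ze11) (ke xe12 ye25 ze2) (ke xe19 ye50 ze6) (ke xe10 ye57 ze15) (ke xe26 ye44 ze12) (ke xe20 ye54 ze42) (ke xe10 ye57 ze16) (ke xe26 ye44 ze49) (ke xe20 ye3 ze30) (ke xe23 ye41 ze25) (ke xe10 ye57 ze17) (ke xe11 ye33 ze11) (ke xe10 ye57 ze20) (ke xe29 ye5 ze47) (ke xe10 ye57 ze21) (ke xe20 ye0 ze16) (ke xe25 ye21 ze56) (ke xe19 ye50 ze32) (ke xe29 ye5 ze52) (ke xe10 ye57 ze28) (ke xe20 ye29 ze23) (ke xe28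 ye39 ze51) (ke xe20 ye58 ze24) (ke xe10 ye57 ze31) (ke xe20 ye32 ze60) (ke xe10 ye57 ze33) (ke xe21 ye2 ze46) (ke xe24 ye22 ze21) (ke xe10 ye57 ze35) (ke xe29 ye5 ze55) (ke xe10 ye57 ze36) (ke xe24 ye20 ze51) (ke xe18 ye19 ze14) (ke xe10 ye57 ze37) (ke xe21 ye6 ze40) (ke xe22 ye17 ze50) (ke xe29 ye5 ze57) (ke xe10 ye57 ze38) (ke xe29 ye5 ze59) (ke xe16 ye4 ze39) (ke xe25 ye9 ze12) (ke xe11 ye16 ze19) (ke xe29 ye6 ze2) (ke xe10 ye57 ze40) (ke xe29 ye6 ze4) (ke xe10 ye57 ze42) (ke xe22 ye6 ze53) (ke xe28 ye4 ze10) (ke xe26 ye48 ze52) (ke xe10 ye57 ze45) (ke xe10 ye57 ze46) (ke xe14 ye56 ze22) (ke xe10 ye57 ze48) (ke xe16 ye29 ze42) (ke xe10 ye57 ze49) (ke xe16 ye59 ze17) (ke xe29 ye6 ze12) (ke xe14 ye56 ze20) (ke xe17 ye4 ze1) (ke xe28 ye24 ze59) (ke xe11 ye36 ze16))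 (@D3.rec (fun _ => Pt) (ke xe10 ye57 ze51) (ke xe23 ye46 ze27) (ke xe29 ye6 ze13) (ke xe10 ye57 ze53) (ke xe26 ye49 ze34) (ke xe18 ye49 ze55) (ke xe10 ye57 ze56) (ke xe20 ye32 ze48) (ke xe16 ye13 ze4) (ke xe25 ye10 ze33) (ke xe28 ye31 ze28) (ke xe26 ye48 ze55) (ke xe10 ye57 ze60) (ke xe29 ye6 ze22) (ke xe13 ye16 ze12) (ke xe10 ye57 ze61) (ke xe29 ye6 ze24) (ke xe16 ye35 ze41) (ke xe10 ye58 ze0) (ke xe23 ye15 ze43) (ke xe16 ye35 ze52) (ke xe13 ye59 ze13) (ke xe21 ye30 ze9) (ke xe10 ye58 ze1) (ke xe26 ye0 ze56) (ke xe18 ye18 ze4) (ke xe10 ye58 ze5) (ke xe23 ye31 ze17) (ke xe20 ye29 ze49) (ke xe12 ye5 ze39) (ke xe14 ye54 ze16) (ke xe12 ye49 ze17) (ke xe21 ye19 ze4) (ke xe10 ye58 ze4) (ke xe17 ye36 ze15) (ke xe29 ye6 ze33) (ke xe10 ye58 ze7) (ke xe12 ye53 ze54) (ke xe25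 ye17 ze33) (ke xe16 ye50 ze59) (ke xe21 ye13 ze53) (ke xe10 ye58 ze10) (ke xe29 ye6 ze36) (ke xe10 ye58 ze13) (ke xe25 ye16 ze51) (ke xe17 ye8 ze9) (ke xe19 ye43 ze23) (ke xe11 ye48 ze46) (ke xe10 ye58 ze30) (ke xe14 ye51 ze46) (ke xe24 ye34 ze28) (ke xe10 ye58 ze21) (ke xe10 ye58 ze25) (ke xe21 ye30 ze34) (ke xe24 ye36 ze27) (ke xe27 ye55 ze37) (ke xe21 ye52 ze22) (ke xe10 ye58 ze28) (ke xe21 ye0 ze57) (ke xe12 ye10 ze30) (ke xe15 ye44 ze20) (ke xe12 ye10 ze12)) (@D3.rec (fun _ => Pt) (ke xe19 ye44 ze0) (ke xe11 ye58 ze38) (ke xe12 ye10 ze16) (ke xe26 ye59 ze48) (ke xe18 ye39 ze38) (ke xe12 ye3 ze41) (ke xe24 ye47 ze19) (ke xe24 ye47 ze27) (ke xe29 ye6 ze44) (ke xe24 ye37 ze36) (ke xe10 ye58 ze47) (ke xe10 ye58 ze48) (ke xe29 ye6 ze46) (ke xe24 ye7 ze56) (ke xe29 ye6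 ze47) (ke xe10 ye58 ze50) (ke xe27 ye57 ze25) (ke xe10 ye58 ze51) (ke xe20 ye41 ze60) (ke xe10 ye58 ze54) (ke xe29 ye6 ze52) (ke xe29 ye6 ze53) (ke xe10 ye58 ze55) (ke xe26 ye22 ze41) (ke xe10 ye58 ze56) (ke xe20 ye53 ze7) (ke xe10 ye58 ze58) (ke xe10 ye58 ze59) (ke xe27 ye44 ze1) (ke xe28 ye59 ze6) (ke xe27 ye48 ze37) (ke xe26 ye22 ze40) (ke xe29 ye6 ze55) (ke xe10 ye59 ze1) (ke xe19 ye40 ze17) (ke xe20 ye43 ze37) (ke xe13 ye36 ze56) (ke xe16 ye30 ze61) (ke xe23 ye31 ze51) (ke xe20 ye43 ze42) (ke xe29 ye6 ze59) (ke xe19 ye16 ze6) (ke xe10 ye59 ze6) (ke xe25 ye48 ze33) (ke xe29 ye6 ze61) (ke xe26 ye42 ze24) (ke xe10 ye59 ze8) (ke xe29 ye7 ze3) (ke xe22 ye20 ze25) (ke xe10 ye59 ze9) (ke xe15 ye46 ze37) (ke xe26 ye24 ze41) (ke xe25 ye26 ze0) (ke xe24 ye57 ze4) (ke xe10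 ye59 ze13) (ke xe11 ye43 ze56) (ke xe20 ye4 ze30) (ke xe21 ye35 ze20) (ke xe20 ye24 ze53) (ke xe10 ye59 ze15) (ke xe12 ye23 ze3) (ke xe23 ye17 ze57)) (@D3.rec (fun _ => Pt) (ke xe12 ye38 ze36) (ke xe23 ye32 ze7) (ke xe29 ye7 ze7) (ke xe24 ye31 ze25) (ke xe10 ye59 ze20) (ke xe11 ye27 ze25) (ke xe19 ye47 ze3) (ke xe18 ye20 ze13) (ke xe10 ye59 ze22) (ke xe20 ye15 ze24) (ke xe28 ye57 ze5) (ke xe16 ye59 ze22) (ke xe20 ye17 ze48) (ke xe25 ye23 ze33) (ke xe10 ye59 ze26) (ke xe10 ye59 ze29) (ke xe22 ye36 ze24) (ke xe18 ye52 ze60) (ke xe10 ye59 ze33) (ke xe12 ye5 ze40) (ke xe21 ye31 ze45) (ke xe29 ye7 ze15) (ke xe20 ye52 ze45) (ke xe27 ye35 ze43) (ke xe29 ye7 ze17) (ke xe10 ye59 ze39) (ke xe10 ye59 ze40) (ke xe20 ye41 ze38) (ke xe10 ye59 ze42) (ke xe15 ye24 ze39) (ke xe29 ye7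 ze19) (ke xe25 ye19 ze41) (ke xe19 ye47 ze18) (ke xe29 ye7 ze20) (ke xe10 ye59 ze45) (ke xe10 ye59 ze46) (ke xe21 ye38 ze13) (ke xe11 ye48 ze29) (ke xe11 ye29 ze33) (ke xe21 ye36 ze55) (ke xe19 ye59 ze60) (ke xe14 ye50 ze32) (ke xe16 ye30 ze58) (ke xe11 ye47 ze15) (ke xe14 ye33 ze0) (ke xe29 ye7 ze27) (ke xe10 ye59 ze55) (ke xe13 ye4 ze22) (ke xe10 ye59 ze57) (ke xe25 ye30 ze51) (ke xe18 ye35 ze20) (ke xe10 ye59 ze59) (ke xe26 ye53 ze53) (ke xe12 ye54 ze21) (ke xe14 ye20 ze27) (ke xe11 ye0 ze0) (ke xe29 ye7 ze30) (ke xe14 ye35 ze5) (ke xe11 ye0 ze1) (ke xe18 ye45 ze43) (ke xe11 ye0 ze2) (ke xe29 ye7 ze38)) (@D3.rec (fun _ => Pt) (ke xe11 ye0 ze3) (ke xe23 ye51 ze59) (ke xe22 ye36 ze19) (ke xe11 ye0 ze8) (ke xe22 ye14 ze44) (ke xe20 ye50 ze18) (ke xe11 ye0 ze7) (ke xe12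 ye7 ze39) (ke xe29 ye7 ze41) (ke xe28 ye0 ze58) (ke xe14 ye20 ze31) (ke xe29 ye7 ze43) (ke xe17 ye19 ze58) (ke xe28 ye4 ze56) (ke xe11 ye0 ze11) (ke xe12 ye10 ze17) (ke xe28 ye47 ze50) (ke xe16 ye24 ze41) (ke xe29 ye7 ze46) (ke xe11 ye0 ze13) (ke xe22 ye5 ze38) (ke xe23 ye12 ze52) (ke xe24 ye29 ze2) (ke xe16 ye52 ze46) (ke xe18 ye23 ze57) (ke xe22 ye11 ze55) (ke xe11 ye0 ze26) (ke xe16 ye57 ze22) (ke xe17 ye8 ze45) (ke xe29 ye0 ze49) (ke xe29 ye1 ze10) (ke xe11 ye0 ze29) (ke xe19 ye34 ze17) (ke xe11 ye0 ze30) (ke xe29 ye7 ze55) (ke xe19 ye25 ze47) (ke xe19 ye30 ze50) (ke xe19 ye43 ze44) (ke xe22 ye53 ze2) (ke xe12 ye9 ze30) (ke xe29 ye7 ze59) (ke xe11 ye0 ze38) (ke xe29 ye8 ze0) (ke xe11 ye0 ze40) (ke xe16 ye45 ze17) (ke xe11 ye0 ze42) (ke xe21 ye31 ze57) (ke xe20 ye25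 ze23) (ke xe12 ye9 ze18) (ke xe29 ye8 ze1) (ke xe11 ye0 ze52) (ke xe11 ye0 ze53) (ke xe26 ye49 ze59) (ke xe29 ye8 ze5) (ke xe26 ye51 ze30) (ke xe26 ye52 ze59) (ke xe23 ye24 ze42) (ke xe18 ye47 ze44) (ke xe11 ye0 ze59) (ke xe11 ye0 ze60) (ke xe14 ye13 ze60) (ke xe29 ye8 ze15)) (@D3.rec (fun _ => Pt) (ke xe29 ye8 ze16) (ke xe11 ye1 ze0) (ke xe27 ye19 ze18) (ke xe11 ye1 ze3) (ke xe22 ye38 ze16) (ke xe29 ye8 ze20) (ke xe11 ye34 ze5) (ke xe14 ye20 ze22) (ke xe19 ye15 ze56) (ke xe11 ye1 ze6) (ke xe11 ye1 ze8) (ke xe23 ye58 ze15) (ke xe11 ye1 ze10) (ke xe11 ye1 ze11) (ke xe29 ye2 ze53) (ke xe29 ye8 ze32) (ke xe11 ye1 ze15) (ke xe19 ye8 ze39) (ke xe29 ye8 ze40) (ke xe29 ye8 ze43) (ke xe11 ye1 ze13) (ke xe21 ye8 ze60) (ke xe29 ye8 ze46) (ke xe11 ye1 ze14) (ke xe24 ye6 ze58)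 (ke xe28 ye56 ze8) (ke xe29 ye8 ze35) (ke xe27 ye8 ze28) (ke xe21 ye38 ze22) (ke xe27 ye40 ze50) (ke xe11 ye1 ze17) (ke xe22 ye46 ze41) (ke xe22 ye40 ze37) (ke xe29 ye8 ze54) (ke xe11 ye1 ze18) (ke xe17 ye7 ze42) (ke xe21 ye13 ze11) (ke xe18 ye47 ze50) (ke xe11 ye22 ze10) (ke xe29 ye8 ze59) (ke xe12 ye31 ze8) (ke xe11 ye1 ze23) (ke xe29 ye8 ze60) (ke xe11 ye1 ze24) (ke xe19 ye27 ze39) (ke xe29 ye0 ze59) (ke xe20 ye28 ze29) (ke xe28 ye44 ze14) (ke xe11 ye1 ze28) (ke xe11 ye1 ze29) (ke xe11 ye50 ze55) (ke xe26 ye52 ze61) (ke xe29 ye9 ze3) (ke xe11 ye1 ze35) (ke xe11 ye1 ze36) (ke xe23 ye3 ze53) (ke xe11 ye1 ze37) (ke xe11 ye1 ze39) (ke xe16 ye31 ze38) (ke xe14 ye10 ze49) (ke xe29 ye9 ze7) (ke xe13 ye54 ze52)) (@D3.rec (fun _ => Pt) (ke xe11 ye1 ze41) (ke xe27 ye2 ze35)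 (ke xe11 ye1 ze43) (ke xe26 ye53 ze1) (ke xe11 ye21 ze48) (ke xe26 ye53 ze2) (ke xe11 ye1 ze49) (ke xe14 ye35 ze46) (ke xe11 ye30 ze20) (ke xe12 ye22 ze29) (ke xe21 ye30 ze12) (ke xe11 ye1 ze57) (ke xe21 ye36 ze37) (ke xe22 ye23 ze27) (ke xe20 ye13 ze41) (ke xe11 ye20 ze5) (ke xe19 ye55 ze37) (ke xe11 ye2 ze1) (ke xe27 ye2 ze4) (ke xe11 ye2 ze2) (ke xe18 ye12 ze49) (ke xe29 ye9 ze16) (ke xe11 ye2 ze6) (ke xe11 ye47 ze43) (ke xe18 ye57 ze21) (ke xe12 ye39 ze19) (ke xe29 ye9 ze17) (ke xe11 ye2 ze14) (ke xe24 ye26 ze30) (ke xe29 ye9 ze22) (ke xe11 ye2 ze15) (ke xe29 ye9 ze24) (ke xe15 ye55 ze13) (ke xe15 ye55 ze9) (ke xe15 ye4 ze19) (ke xe13 ye1 ze44) (ke xe11 ye52 ze60) (ke xe15 ye4 ze8) (ke xe11 ye2 ze23) (ke xe24 ye17 ze14) (ke xe29 ye9 ze28) (ke xe29 ye9 ze32) (ke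 xe11 ye2 ze24) (ke xe11 ye54 ze44) (ke xe15 ye15 ze9) (ke xe11 ye54 ze40) (ke xe19 ye32 ze27) (ke xe25 ye32 ze12) (ke xe18 ye1 ze51) (ke xe20 ye5 ze21) (ke xe15 ye34 ze55) (ke xe19 ye6 ze12) (ke xe28 ye49 ze33) (ke xe11 ye2 ze33) (ke xe19 ye56 ze25) (ke xe29 ye9 ze35) (ke xe11 ye2 ze35) (ke xe26 ye1 ze16) (ke xe25 ye2 ze35) (ke xe11 ye2 ze36) (ke xe29 ye9 ze38) (ke xe20 ye3 ze31)) (@D3.rec (fun _ => Pt) (ke xe19 ye54 ze32) (ke xe11 ye2 ze39) (ke xe26 ye14 ze33) (ke xe25 ye10 ze44) (ke xe25 ye9 ze53) (ke xe29 ye9 ze44) (ke xe24 ye37 ze8) (ke xe28 ye58 ze41) (ke xe11 ye2 ze42) (ke xe18 ye39 ze60) (ke xe29 ye9 ze45) (ke xe11 ye2 ze45) (ke xe29 ye9 ze48) (ke xe13 ye59 ze60) (ke xe11 ye2 ze46) (ke xe24 ye33 ze34) (ke xe29 ye9 ze51) (ke xe13 ye48 ze59) (ke xe29 ye9 ze52)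 (ke xe29 ye9 ze53) (ke xe11 ye2 ze50) (ke xe12 ye8 ze12) (ke xe22 ye45 ze19) (ke xe26 ye6 ze32) (ke xe11 ye2 ze54) (ke xe16 ye0 ze30) (ke xe11 ye2 ze57) (ke xe21 ye45 ze18) (ke xe11 ye2 ze59) (ke xe29 ye9 ze55) (ke xe11 ye2 ze61) (ke xe11 ye3 ze0) (ke xe19 ye54 ze0) (ke xe25 ye49 ze52) (ke xe28 ye11 ze48) (ke xe18 ye40 ze20) (ke xe26 ye6 ze57) (ke xe22 ye45 ze48) (ke xe11 ye3 ze5) (ke xe26 ye47 ze13) (ke xe14 ye21 ze2) (ke xe29 ye10 ze20) (ke xe27 ye56 ze47) (ke xe29 ye10 ze25) (ke xe23 ye38 ze27) (ke xe29 ye10 ze15) (ke xe29 ye10 ze29) (ke xe14 ye51 ze25) (ke xe29 ye10 ze32) (ke xe11 ye3 ze7) (ke xe29 ye10 ze33) (ke xe24 ye32 ze1) (ke xe29 ye10 ze34) (ke xe29 ye10 ze35) (ke xe11 ye3 ze11) (ke xe11 ye52 ze58) (ke xe26 ye38 ze2) (ke xe16 ye37 ze41) (ke xe24 ye37 ze48)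 (ke xe24 ye35 ze17) (ke xe11 ye3 ze15) (ke xe11 ye3 ze16)) (@D3.rec (fun _ => Pt) (ke xe29 ye10 ze43) (ke xe11 ye3 ze17) (ke xe29 ye10 ze47) (ke xe28 ye49 ze32) (ke xe29 ye10 ze49) (ke xe11 ye3 ze18) (ke xe18 ye27 ze47) (ke xe26 ye58 ze27) (ke xe29 ye10 ze51) (ke xe26 ye47 ze27) (ke xe26 ye6 ze48) (ke xe22 ye45 ze47) (ke xe11 ye3 ze22) (ke xe26 ye47 ze31) (ke xe29 ye11 ze6) (ke xe13 ye57 ze40) (ke xe29 ye10 ze3) (ke xe29 ye11 ze4) (ke xe23 ye38 ze37) (ke xe14 ye49 ze12) (ke xe29 ye11 ze9) (ke xe20 ye3 ze41) (ke xe24 ye51 ze43) (ke xe22 ye31 ze50) (ke xe11 ye3 ze25) (ke xe23 ye43 ze52) (ke xe29 ye11 ze13) (ke xe29 ye11 ze14) (ke xe11 ye3 ze27) (ke xe24 ye50 ze61) (ke xe26 ye54 ze31) (ke xe29 ye11 ze17) (ke xe11 ye3 ze28) (ke xe16 ye4 ze3) (ke xe23 ye37 ze43) (ke xe22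 ye10 ze12) (ke xe11 ye3 ze29) (ke xe19 ye53 ze16) (ke xe29 ye11 ze23) (ke xe21 ye2 ze24) (ke xe26 ye9 ze41) (ke xe23 ye21 ze6) (ke xe11 ye3 ze32) (ke xe26 ye47 ze47) (ke xe13 ye25 ze40) (ke xe29 ye11 ze34) (ke xe29 ye11 ze38) (ke xe14 ye49 ze2) (ke xe12 ye48 ze55) (ke xe11 ye3 ze34) (ke xe11 ye3 ze35) (ke xe29 ye11 ze40) (ke xe11 ye3 ze36) (ke xe29 ye11 ze44) (ke xe23 ye20 ze54) (ke xe27 ye55 ze51) (ke xe11 ye3 ze37) (ke xe18 ye17 ze52) (ke xe29 ye11 ze48) (ke xe26 ye9 ze56) (ke xe13 ye54 ze60) (ke xe11 ye3 ze40)) (@D3.rec (fun _ => Pt) (ke xe26 ye47 ze60) (ke xe29 ye10 ze24) (ke xe29 ye12 ze0) (ke xe29 ye11 ze58) (ke xe11 ye3 ze41) (ke xe23 ye59 ze11) (ke xe28 ye24 ze44) (ke xe21 ye2 ze19) (ke xe25 ye14 ze34) (ke xe11 ye3 ze44) (ke xe11 ye3 ze45) (ke xe14 ye50 ze39)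 (ke xe29 ye12 ze5) (ke xe26 ye48 ze5) (ke xe13 ye59 ze26) (ke xe11 ye3 ze48) (ke xe29 ye12 ze12) (ke xe18 ye58 ze52) (ke xe23 ye31 ze45) (ke xe11 ye3 ze51) (ke xe22 ye45 ze16) (ke xe19 ye26 ze25) (ke xe11 ye3 ze53) (ke xe29 ye12 ze15) (ke xe29 ye12 ze16) (ke xe19 ye53 ze54) (ke xe26 ye7 ze3) (ke xe16 ye11 ze59) (ke xe29 ye12 ze18) (ke xe29 ye12 ze19) (ke xe29 ye12 ze20) (ke xe11 ye3 ze59) (ke xe29 ye12 ze22) (ke xe11 ye3 ze60) (ke xe27 ye38 ze12) (ke xe11 ye4 ze1) (ke xe21 ye45 ze16) (ke xe23 ye59 ze18) (ke xe18 ye17 ze58) (ke xe23 ye44 ze11) (ke xe13 ye48 ze17) (ke xe16 ye21 ze7) (ke xe22 ye41 ze44) (ke xe11 ye4 ze9) (ke xe24 ye23 ze57) (ke xe19 ye14 ze46) (ke xe22 ye43 ze56) (ke xe26 ye41 ze25) (ke xe11 ye4 ze14) (ke xe18 ye27 ze20) (ke xe11 ye4 ze46) (ke xe15 ye27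 ze50) (ke xe29 ye12 ze27) (ke xe22 ye55 ze30) (ke xe11 ye4 ze16) (ke xe18 ye27 ze42) (ke xe22 ye55 ze31) (ke xe11 ye4 ze21) (ke xe29 ye12 ze30) (ke xe11 ye4 ze22) (ke xe15 ye19 ze30) (ke xe21 ye43 ze18)) (@D3.rec (fun _ => Pt) (ke xe11 ye4 ze26) (ke xe15 ye53 ze54) (ke xe11 ye4 ze28) (ke xe29 ye12 ze35) (ke xe15 ye52 ze28) (ke xe20 ye2 ze15) (ke xe24 ye36 ze59) (ke xe29 ye12 ze38) (ke xe27 ye23 ze2) (ke xe11 ye4 ze31) (ke xe11 ye4 ze32) (ke xe15 ye22 ze1) (ke xe15 ye22 ze15) (ke xe19 ye37 ze0) (ke xe15 ye55 ze0) (ke xe24 ye26 ze9) (ke xe29 ye12 ze44) (ke xe20 ye3 ze54) (ke xe24 ye43 ze28) (ke xe11 ye4 ze36) (ke xe24 ye42 ze41) (ke xe11 ye4 ze37) (ke xe29 ye12 ze50) (ke xe11 ye4 ze38) (ke xe27 ye42 ze6) (ke xe25 ye13 ze18) (ke xe27 ye20 ze36) (ke xe20 ye35 ze15) (ke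 xe29 ye12 ze55) (ke xe16 ye48 ze40) (ke xe11 ye4 ze42) (ke xe26 ye51 ze14) (ke xe21 ye33 ze6) (ke xe21 ye9 ze39) (ke xe15 ye6 ze41) (ke xe29 ye12 ze56) (ke xe11 ye4 ze47) (ke xe17 ye5 ze16) (ke xe12 ye16 ze6) (ke xe12 ye16 ze7) (ke xe11 ye51 ze52) (ke xe12 ye56 ze42) (ke xe20 ye52 ze54) (ke xe11 ye33 ze19) (ke xe20 ye1 ze57) (ke xe16 ye51 ze29) (ke xe29 ye13 ze0) (ke xe26 ye53 ze40) (ke xe24 ye19 ze8) (ke xe24 ye50 ze25) (ke xe11 ye5 ze0) (ke xe11 ye5 ze1) (ke xe20 ye55 ze56) (ke xe29 ye13 ze3) (ke xe24 ye49 ze22) (ke xe25 ye22 ze16) (ke xe29 ye13 ze8) (ke xe25 ye22 ze36) (ke xe11 ye5 ze5) (ke xe24 ye52 ze2) (ke xe26 ye53 ze38) (ke xe29 ye13 ze13)) (@D3.rec (fun _ => Pt) (ke xe11 ye5 ze8) (ke xe29 ye13 ze14) (ke xe11 ye5 ze9) (ke xe29 ye13 ze16) (ke xe11 ye5 ze10) (ke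 xe12 ye57 ze47) (ke xe26 ye53 ze32) (ke xe29 ye13 ze18) (ke xe19 ye33 ze5) (ke xe29 ye13 ze22) (ke xe29 ye13 ze24) (ke xe11 ye5 ze15) (ke xe26 ye6 ze22) (ke xe15 ye16 ze21) (ke xe28 ye51 ze25) (ke xe25 ye22 ze22) (ke xe28 ye37 ze3) (ke xe11 ye5 ze14) (ke xe29 ye2 ze18) (ke xe24 ye50 ze30) (ke xe27 ye11 ze60) (ke xe29 ye13 ze35) (ke xe15 ye27 ze28) (ke xe28 ye51 ze50) (ke xe27 ye38 ze18) (ke xe20 ye58 ze32) (ke xe29 ye13 ze38) (ke xe20 ye1 ze42) (ke xe27 ye36 ze54) (ke xe11 ye5 ze22) (ke xe25 ye11 ze16) (ke xe11 ye5 ze23) (ke xe18 ye25 ze46) (ke xe19 ye32 ze57) (ke xe12 ye57 ze44) (ke xe12 ye57 ze45) (ke xe23 ye58 ze38) (ke xe20 ye42 ze1) (ke xe15 ye30 ze43) (ke xe21 ye37 ze40) (ke xe12 ye2 ze19) (ke xe15 ye30 ze47) (ke xe11 ye31 ze61) (ke xe29 ye13 ze47) (ke xe11 ye50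 ze40) (ke xe24 ye53 ze2) (ke xe21 ye2 ze33) (ke xe25 ye40 ze52) (ke xe23 ye1 ze3) (ke xe29 ye13 ze49) (ke xe23 ye3 ze7) (ke xe11 ye5 ze40) (ke xe25 ye41 ze10) (ke xe15 ye50 ze18) (ke xe16 ye35 ze16) (ke xe11 ye5 ze41) (ke xe26 ye58 ze33) (ke xe25 ye41 ze24) (ke xe29 ye13 ze53) (ke xe21 ye2 ze34) (ke xe17 ye0 ze5) (ke xe17 ye4 ze60)) (@D3.rec (fun _ => Pt) (ke xe25 ye25 ze22) (ke xe16 ye23 ze61) (ke xe11 ye5 ze43) (ke xe11 ye5 ze46) (ke xe17 ye12 ze59) (ke xe17 ye22 ze38) (ke xe22 ye45 ze50) (ke xe11 ye5 ze50) (ke xe23 ye20 ze31) (ke xe11 ye5 ze51) (ke xe12 ye54 ze53) (ke xe26 ye2 ze31) (ke xe29 ye14 ze1) (ke xe26 ye48 ze32) (ke xe17 ye8 ze20) (ke xe15 ye24 ze21) (ke xe11 ye5 ze53) (ke xe11 ye5 ze56) (ke xe15 ye49 ze55) (ke xe24 ye50 ze17) (ke xe29 ye14 ze14) (ke xe29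 ye13 ze17) (ke xe20 ye1 ze45) (ke xe11 ye5 ze60) (ke xe25 ye22 ze37) (ke xe29 ye14 ze21) (ke xe29 ye14 ze23) (ke xe16 ye58 ze57) (ke xe18 ye33 ze30) (ke xe19 ye32 ze2) (ke xe15 ye28 ze12) (ke xe18 ye33 ze25) (ke xe18 ye33 ze26) (ke xe24 ye49 ze23) (ke xe29 ye14 ze28) (ke xe11 ye6 ze6) (ke xe11 ye6 ze8) (ke xe15 ye12 ze59) (ke xe15 ye8 ze44) (ke xe18 ye27 ze12) (ke xe17 ye38 ze52) (ke xe15 ye0 ze31) (ke xe15 ye0 ze33) (ke xe15 ye0 ze34) (ke xe29 ye14 ze34) (ke xe24 ye58 ze50) (ke xe15 ye47 ze31) (ke xe11 ye6 ze15) (ke xe12 ye23 ze34) (ke xe20 ye52 ze7) (ke xe12 ye31 ze33) (ke xe20 ye9 ze24) (ke xe17 ye4 ze38) (ke xe17 ye10 ze48) (ke xe22 ye5 ze10) (ke xe11 ye6 ze26) (ke xe11 ye6 ze27) (ke xe11 ye6 ze28) (ke xe22 ye2 ze53) (ke xe21 ye33 ze26) (ke xe19 ye50 ze40) (ke xe11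 ye6 ze31))
def f_e_20 : D2 → D3 → Pt := @D2.rec (fun _ => D3 → Pt) (@D3.rec (fun _ => Pt) (ke xe11 ye6 ze33) (ke xe11 ye6 ze39) (ke xe17 ye6 ze8) (ke xe11 ye30 ze55) (ke xe11 ye6 ze44) (ke xe11 ye6 ze46) (ke xe14 ye50 ze3) (ke xe15 ye5 ze20) (ke xe23 ye7 ze3) (ke xe25 ye23 ze54) (ke xe11 ye6 ze51) (ke xe28 ye43 ze30) (ke xe26 ye5 ze21) (ke xe11 ye6 ze55) (ke xe16 ye51 ze5) (ke xe11 ye6 ze56) (ke xe19 ye47 ze16) (ke xe11 ye14 ze16) (ke xe11 ye6 ze58) (ke xe20 ye6 ze44) (ke xe11 ye7 ze1) (ke xe11 ye7 ze3) (ke xe11 ye7 ze5) (ke xe15 ye5 ze30) (ke xe17 ye24 ze19) (ke xe20 ye5 ze60) (ke xe11 ye47 ze8) (ke xe21 ye15 ze20) (ke xe20 ye35 ze46) (ke xe18 ye49 ze40) (ke xe11 ye7 ze9) (ke xe21 ye29 ze23) (ke xe26 ye57 ze45) (ke xe11 ye7 ze10) (ke xe25 ye52 ze8) (ke xe15 ye10 ze37)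 (ke xe11 ye25 ze11) (ke xe11 ye7 ze17) (ke xe21 ye57 ze46) (ke xe26 ye44 ze52) (ke xe20 ye6 ze14) (ke xe16 ye30 ze51) (ke xe12 ye8 ze1) (ke xe15 ye8 ze14) (ke xe28 ye47 ze52) (ke xe29 ye14 ze44) (ke xe11 ye7 ze20) (ke xe11 ye7 ze21) (ke xe17 ye2 ze28) (ke xe29 ye7 ze24) (ke xe17 ye54 ze25) (ke xe20 ye6 ze21) (ke xe20 ye52 ze20) (ke xe27 ye20 ze15) (ke xe11 ye7 ze27) (ke xe11 ye7 ze31) (ke xe24 ye53 ze14) (ke xe27 ye11 ze52) (ke xe20 ye20 ze6) (ke xe16 ye25 ze61) (ke xe22 ye56 ze56) (ke xe24 ye9 ze38)) (@D3.rec (fun _ => Pt) (ke xe11 ye7 ze34) (ke xe18 ye20 ze4) (ke xe11 ye7 ze35) (ke xe13 ye43 ze58) (ke xe17 ye2 ze42) (ke xe24 ye9 ze36) (ke xe12 ye22 ze18) (ke xe26 ye25 ze50) (ke xe11 ye7 ze37) (ke xe11 ye7 ze39) (ke xe11 ye20 ze42) (ke xe29 ye14 ze53) (ke xe15 ye4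 ze44) (ke xe11 ye7 ze41) (ke xe11 ye7 ze42) (ke xe17 ye2 ze47) (ke xe15 ye23 ze46) (ke xe11 ye7 ze44) (ke xe11 ye7 ze45) (ke xe29 ye14 ze56) (ke xe24 ye53 ze19) (ke xe11 ye7 ze47) (ke xe13 ye51 ze3) (ke xe11 ye7 ze49) (ke xe11 ye7 ze50) (ke xe15 ye50 ze11) (ke xe11 ye7 ze53) (ke xe27 ye40 ze28) (ke xe20 ye20 ze14) (ke xe26 ye43 ze51) (ke xe11 ye7 ze54) (ke xe11 ye7 ze55) (ke xe28 ye55 ze14) (ke xe28 ye17 ze60) (ke xe20 ye54 ze21) (ke xe11 ye7 ze58) (ke xe23 ye4 ze6) (ke xe14 ye28 ze25) (ke xe11 ye7 ze59) (ke xe20 ye54 ze23) (ke xe11 ye11 ze50) (ke xe29 ye15 ze4) (ke xe19 ye58 ze27) (ke xe28 ye53 ze52) (ke xe25 ye41 ze34) (ke xe19 ye59 ze22) (ke xe15 ye56 ze36) (ke xe29 ye15 ze14) (ke xe11 ye8 ze11) (ke xe29 ye15 ze17) (ke xe27 ye1 ze8) (ke xe19 ye31 ze9) (ke xe29 ye12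 ze25) (ke xe11 ye8 ze13) (ke xe29 ye15 ze21) (ke xe11 ye8 ze14) (ke xe20 ye5 ze23) (ke xe19 ye57 ze44) (ke xe11 ye8 ze22) (ke xe11 ye8 ze24) (ke xe29 ye15 ze27) (ke xe16 ye29 ze3)) (@D3.rec (fun _ => Pt) (ke xe11 ye8 ze27) (ke xe16 ye59 ze25) (ke xe11 ye8 ze28) (ke xe11 ye8 ze29) (ke xe24 ye36 ze36) (ke xe11 ye30 ze26) (ke xe21 ye20 ze25) (ke xe11 ye8 ze32) (ke xe17 ye21 ze0) (ke xe15 ye17 ze47) (ke xe29 ye15 ze29) (ke xe11 ye8 ze39) (ke xe29 ye15 ze30) (ke xe11 ye8 ze40) (ke xe11 ye8 ze41) (ke xe19 ye57 ze5) (ke xe29 ye15 ze39) (ke xe25 ye14 ze8) (ke xe25 ye13 ze56) (ke xe11 ye52 ze61) (ke xe27 ye24 ze35) (ke xe28 ye57 ze21) (ke xe29 ye4 ze46) (ke xe11 ye8 ze44) (ke xe29 ye15 ze47) (ke xe25 ye57 ze56) (ke xe25 ye14 ze13) (ke xe29 ye15 ze54) (ke xe17 ye43 ze20) (ke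 xe11 ye8 ze47) (ke xe11 ye8 ze50) (ke xe29 ye15 ze61) (ke xe27 ye46 ze53) (ke xe25 ye13 ze55) (ke xe25 ye14 ze9) (ke xe15 ye39 ze42) (ke xe15 ye58 ze5) (ke xe25 ye4 ze25) (ke xe26 ye42 ze10) (ke xe17 ye27 ze1) (ke xe25 ye13 ze61) (ke xe29 ye16 ze11) (ke xe26 ye44 ze50) (ke xe23 ye8 ze44) (ke xe23 ye12 ze48) (ke xe23 ye12 ze49) (ke xe11 ye8 ze58) (ke xe24 ye2 ze28) (ke xe21 ye1 ze41) (ke xe29 ye16 ze19) (ke xe25 ye8 ze39) (ke xe25 ye8 ze24) (ke xe23 ye28 ze44) (ke xe29 ye16 ze20) (ke xe25 ye8 ze44) (ke xe29 ye16 ze24) (ke xe29 ye16 ze25) (ke xe11 ye9 ze2) (ke xe27 ye43 ze50) (ke xe11 ye9 ze3) (ke xe11 ye9 ze4) (ke xe29 ye16 ze31)) (@D3.rec (fun _ => Pt) (ke xe26 ye44 ze38) (ke xe25 ye8 ze23) (ke xe25 ye6 ze33) (ke xe29 ye16 ze33) (ke xe25 ye8 ze30) (ke xe29 ye16 ze34)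 (ke xe29 ye16 ze35) (ke xe11 ye9 ze8) (ke xe11 ye9 ze9) (ke xe15 ye29 ze50) (ke xe25 ye14 ze52) (ke xe21 ye57 ze54) (ke xe28 ye57 ze33) (ke xe29 ye16 ze40) (ke xe11 ye9 ze11) (ke xe20 ye15 ze19) (ke xe25 ye14 ze60) (ke xe25 ye14 ze23) (ke xe29 ye16 ze48) (ke xe15 ye29 ze48) (ke xe26 ye44 ze39) (ke xe19 ye46 ze42) (ke xe11 ye9 ze14) (ke xe21 ye1 ze49) (ke xe20 ye49 ze57) (ke xe24 ye12 ze27) (ke xe29 ye16 ze52) (ke xe25 ye24 ze54) (ke xe11 ye9 ze17) (ke xe29 ye16 ze56) (ke xe19 ye47 ze9) (ke xe19 ye53 ze61) (ke xe11 ye9 ze18) (ke xe25 ye9 ze5) (ke xe21 ye1 ze47) (ke xe24 ye4 ze4) (ke xe29 ye16 ze61) (ke xe11 ye9 ze21) (ke xe23 ye1 ze1) (ke xe15 ye52 ze49) (ke xe14 ye45 ze55) (ke xe19 ye55 ze21) (ke xe19 ye16 ze34) (ke xe25 ye22 ze48) (ke xe27 ye53 ze35) (ke xe14 ye18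 ze43) (ke xe28 ye41 ze59) (ke xe29 ye17 ze6) (ke xe11 ye9 ze28) (ke xe29 ye17 ze9) (ke xe19 ye44 ze38) (ke xe26 ye9 ze44) (ke xe11 ye9 ze29) (ke xe11 ye42 ze60) (ke xe19 ye57 ze17) (ke xe29 ye17 ze15) (ke xe29 ye17 ze17) (ke xe11 ye9 ze32) (ke xe18 ye4 ze4) (ke xe29 ye17 ze20) (ke xe15 ye16 ze40) (ke xe25 ye15 ze41)) (@D3.rec (fun _ => Pt) (ke xe14 ye54 ze45) (ke xe15 ye9 ze25) (ke xe23 ye36 ze61) (ke xe11 ye59 ze50) (ke xe25 ye45 ze27) (ke xe29 ye17 ze24) (ke xe12 ye19 ze24) (ke xe12 ye17 ze34) (ke xe18 ye4 ze5) (ke xe29 ye17 ze27) (ke xe11 ye9 ze41) (ke xe22 ye11 ze39) (ke xe14 ye2 ze45) (ke xe18 ye4 ze31) (ke xe27 ye31 ze57) (ke xe11 ye9 ze46) (ke xe27 ye25 ze25) (ke xe20 ye45 ze45) (ke xe25 ye15 ze57) (ke xe11 ye20 ze22) (ke xe11 ye43 ze2) (ke xe28 ye57 ze13) (ke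 xe12 ye41 ze32) (ke xe11 ye9 ze52) (ke xe11 ye9 ze53) (ke xe17 ye34 ze36) (ke xe11 ye42 ze46) (ke xe29 ye17 ze34) (ke xe24 ye36 ze32) (ke xe23 ye32 ze40) (ke xe19 ye49 ze56) (ke xe11 ye40 ze42) (ke xe11 ye9 ze60) (ke xe11 ye9 ze61) (ke xe29 ye17 ze35) (ke xe11 ye10 ze0) (ke xe29 ye17 ze38) (ke xe11 ye10 ze1) (ke xe20 ye18 ze44) (ke xe23 ye37 ze32) (ke xe26 ye46 ze53) (ke xe11 ye10 ze3) (ke xe22 ye6 ze23) (ke xe29 ye17 ze41) (ke xe26 ye46 ze57) (ke xe26 ye18 ze28) (ke xe26 ye18 ze27) (ke xe11 ye10 ze5) (ke xe16 ye48 ze0) (ke xe11 ye19 ze55) (ke xe21 ye3 ze18) (ke xe29 ye17 ze47) (ke xe17 ye32 ze61) (ke xe11 ye10 ze10) (ke xe16 ye43 ze38) (ke xe29 ye17 ze49) (ke xe19 ye45 ze9) (ke xe11 ye10 ze15) (ke xe14 ye4 ze28) (ke xe20 ye17 ze47) (ke xe20 ye9 ze45) (ke xe21 ye2 ze8))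 (@D3.rec (fun _ => Pt) (ke xe20 ye41 ze59) (ke xe21 ye31 ze46) (ke xe16 ye42 ze55) (ke xe27 ye22 ze3) (ke xe19 ye36 ze28) (ke xe11 ye31 ze44) (ke xe24 ye49 ze46) (ke xe24 ye11 ze42) (ke xe15 ye2 ze53) (ke xe29 ye17 ze58) (ke xe11 ye10 ze28) (ke xe29 ye14 ze10) (ke xe27 ye22 ze55) (ke xe11 ye10 ze31) (ke xe25 ye19 ze12) (ke xe15 ye2 ze20) (ke xe29 ye18 ze0) (ke xe11 ye10 ze32) (ke xe24 ye49 ze20) (ke xe26 ye41 ze22) (ke xe29 ye18 ze3) (ke xe19 ye53 ze49) (ke xe11 ye55 ze47) (ke xe20 ye1 ze56) (ke xe15 ye30 ze33) (ke xe28 ye49 ze52) (ke xe11 ye10 ze37) (ke xe19 ye22 ze19) (ke xe21 ye20 ze15) (ke xe12 ye15 ze35) (ke xe15 ye28 ze44) (ke xe18 ye7 ze54) (ke xe13 ye0 ze30) (ke xe11 ye10 ze49) (ke xe17 ye30 ze56) (ke xe29 ye18 ze11) (ke xe11 ye10 ze51) (ke xe14 ye15 ze55) (ke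 xe17 ye15 ze54) (ke xe12 ye55 ze8) (ke xe20 ye19 ze58) (ke xe27 ye20 ze56) (ke xe13 ye38 ze37) (ke xe11 ye19 ze17) (ke xe12 ye45 ze40) (ke xe11 ye10 ze61) (ke xe28 ye8 ze0) (ke xe11 ye11 ze1) (ke xe12 ye12 ze53) (ke xe22 ye10 ze0) (ke xe24 ye28 ze1) (ke xe11 ye11 ze3) (ke xe11 ye11 ze10) (ke xe21 ye9 ze49) (ke xe12 ye55 ze19) (ke xe26 ye27 ze10) (ke xe12 ye7 ze38) (ke xe28 ye55 ze31) (ke xe24 ye36 ze18) (ke xe29 ye18 ze13) (ke xe20 ye0 ze25) (ke xe12 ye22 ze59)) (@D3.rec (fun _ => Pt) (ke xe24 ye57 ze28) (ke xe15 ye6 ze30) (ke xe23 ye4 ze15) (ke xe22 ye31 ze45) (ke xe11 ye11 ze28) (ke xe11 ye11 ze29) (ke xe26 ye22 ze11) (ke xe29 ye18 ze14) (ke xe27 ye39 ze55) (ke xe13 ye27 ze0) (ke xe19 ye43 ze61) (ke xe12 ye7 ze34) (ke xe11 ye11 ze33) (ke xe26 ye58 ze45) (ke xe20 ye0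 ze40) (ke xe11 ye33 ze26) (ke xe29 ye18 ze15) (ke xe13 ye26 ze59) (ke xe22 ye31 ze46) (ke xe11 ye11 ze35) (ke xe12 ye22 ze24) (ke xe20 ye0 ze51) (ke xe20 ye8 ze30) (ke xe15 ye0 ze2) (ke xe29 ye18 ze17) (ke xe11 ye11 ze40) (ke xe11 ye11 ze41) (ke xe12 ye8 ze0) (ke xe11 ye11 ze44) (ke xe23 ye46 ze15) (ke xe28 ye13 ze15) (ke xe16 ye21 ze47) (ke xe18 ye19 ze33) (ke xe24 ye53 ze5) (ke xe23 ye49 ze61) (ke xe13 ye27 ze35) (ke xe29 ye18 ze21) (ke xe11 ye11 ze51) (ke xe16 ye46 ze23) (ke xe29 ye18 ze22) (ke xe11 ye11 ze54) (ke xe11 ye11 ze55) (ke xe13 ye59 ze49) (ke xe12 ye49 ze32) (ke xe20 ye0 ze19) (ke xe14 ye46 ze30) (ke xe27 ye40 ze32) (ke xe20 ye18 ze35) (ke xe20 ye25 ze18) (ke xe20 ye18 ze15) (ke xe12 ye51 ze12) (ke xe24 ye36 ze22) (ke xe11 ye45 ze56) (ke xe11 ye12 ze17)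 (ke xe24 ye32 ze49) (ke xe11 ye50 ze7) (ke xe11 ye12 ze30) (ke xe11 ye30 ze53) (ke xe12 ye52 ze61) (ke xe21 ye28 ze61) (ke xe21 ye18 ze19) (ke xe12 ye26 ze15)) (@D3.rec (fun _ => Pt) (ke xe15 ye49 ze50) (ke xe29 ye18 ze25) (ke xe11 ye12 ze26) (ke xe11 ye17 ze40) (ke xe21 ye21 ze13) (ke xe29 ye18 ze31) (ke xe11 ye12 ze33) (ke xe25 ye16 ze30) (ke xe13 ye14 ze9) (ke xe19 ye2 ze27) (ke xe20 ye17 ze36) (ke xe11 ye56 ze17) (ke xe20 ye25 ze16) (ke xe14 ye7 ze32) (ke xe11 ye27 ze21) (ke xe18 ye43 ze41) (ke xe11 ye49 ze42) (ke xe20 ye20 ze31) (ke xe21 ye51 ze27) (ke xe11 ye12 ze53) (ke xe11 ye20 ze8) (ke xe18 ye58 ze34) (ke xe28 ye27 ze11) (ke xe11 ye12 ze55) (ke xe24 ye40 ze34) (ke xe19 ye1 ze18) (ke xe11 ye12 ze58) (ke xe11 ye13 ze10) (ke xe29 ye18 ze39) (ke xe29 ye18 ze40)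 (ke xe26 ye55 ze35) (ke xe11 ye12 ze60) (ke xe26 ye28 ze17) (ke xe21 ye13 ze8) (ke xe11 ye22 ze1) (ke xe29 ye18 ze42) (ke xe11 ye13 ze0) (ke xe19 ye40 ze33) (ke xe11 ye13 ze3) (ke xe28 ye49 ze9) (ke xe29 ye18 ze46) (ke xe29 ye18 ze47) (ke xe11 ye13 ze4) (ke xe26 ye27 ze11) (ke xe11 ye13 ze5) (ke xe21 ye7 ze54) (ke xe11 ye13 ze7) (ke xe16 ye35 ze34) (ke xe29 ye18 ze38) (ke xe11 ye13 ze9) (ke xe21 ye15 ze28) (ke xe18 ye45 ze16) (ke xe24 ye56 ze57) (ke xe22 ye59 ze45) (ke xe11 ye13 ze16) (ke xe24 ye53 ze22) (ke xe23 ye12 ze6) (ke xe26 ye32 ze17) (ke xe15 ye4 ze14) (ke xe11 ye13 ze22) (ke xe14 ye53 ze43) (ke xe11 ye13 ze25)) (@D3.rec (fun _ => Pt) (ke xe16 ye53 ze14) (ke xe27 ye5 ze29) (ke xe20 ye31 ze25) (ke xe18 ye59 ze44) (ke xe16 ye52 ze57) (ke xe24 ye5 ze25) (ke xe19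 ye0 ze48) (ke xe18 ye59 ze34) (ke xe26 ye20 ze27) (ke xe26 ye49 ze48) (ke xe29 ye18 ze58) (ke xe11 ye13 ze32) (ke xe28 ye27 ze3) (ke xe18 ye59 ze52) (ke xe28 ye10 ze41) (ke xe29 ye18 ze60) (ke xe11 ye13 ze34) (ke xe24 ye45 ze60) (ke xe29 ye19 ze2) (ke xe26 ye18 ze40) (ke xe16 ye46 ze11) (ke xe11 ye13 ze35) (ke xe28 ye43 ze31) (ke xe22 ye28 ze45) (ke xe27 ye38 ze49) (ke xe11 ye13 ze41) (ke xe11 ye55 ze14) (ke xe16 ye32 ze3) (ke xe20 ye52 ze50) (ke xe11 ye13 ze45) (ke xe20 ye6 ze22) (ke xe20 ye44 ze40) (ke xe11 ye13 ze49) (ke xe15 ye5 ze21) (ke xe12 ye10 ze40) (ke xe11 ye34 ze60) (ke xe11 ye13 ze52) (ke xe29 ye19 ze7) (ke xe17 ye26 ze46) (ke xe11 ye33 ze48) (ke xe11 ye37 ze23) (ke xe29 ye19 ze11) (ke xe27 ye9 ze41) (ke xe29 ye19 ze13) (ke xe11 ye13 ze57) (ke xe11 ye13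 ze58) (ke xe12 ye22 ze20) (ke xe26 ye21 ze48) (ke xe12 ye46 ze14) (ke xe12 ye22 ze16) (ke xe29 ye19 ze17) (ke xe11 ye13 ze61) (ke xe29 ye19 ze18) (ke xe20 ye27 ze55) (ke xe11 ye14 ze1) (ke xe22 ye49 ze14) (ke xe11 ye14 ze3) (ke xe29 ye19 ze24) (ke xe29 ye19 ze27) (ke xe16 ye53 ze2) (ke xe11 ye37 ze18) (ke xe12 ye45 ze37)) (@D3.rec (fun _ => Pt) (ke xe26 ye56 ze54) (ke xe11 ye14 ze6) (ke xe26 ye58 ze8) (ke xe20 ye31 ze2) (ke xe29 ye19 ze30) (ke xe12 ye9 ze19) (ke xe21 ye9 ze32) (ke xe16 ye53 ze48) (ke xe11 ye14 ze10) (ke xe29 ye19 ze31) (ke xe17 ye33 ze9) (ke xe14 ye19 ze50) (ke xe11 ye14 ze20) (ke xe16 ye45 ze14) (ke xe19 ye12 ze17) (ke xe11 ye14 ze17) (ke xe17 ye55 ze15) (ke xe20 ye47 ze60) (ke xe20 ye29 ze0) (ke xe16 ye45 ze12) (ke xe16 ye44 ze59) (ke xe16 ye45 ze13)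 (ke xe29 ye19 ze35) (ke xe29 ye3 ze6) (ke xe19 ye59 ze51) (ke xe27 ye2 ze8) (ke xe11 ye14 ze24) (ke xe29 ye19 ze37) (ke xe11 ye14 ze26) (ke xe21 ye51 ze49) (ke xe11 ye14 ze29) (ke xe11 ye16 ze60) (ke xe11 ye43 ze43) (ke xe12 ye10 ze20) (ke xe19 ye18 ze9) (ke xe29 ye19 ze41) (ke xe11 ye14 ze38) (ke xe11 ye23 ze52) (ke xe11 ye17 ze43) (ke xe20 ye9 ze54) (ke xe11 ye18 ze27) (ke xe11 ye14 ze42) (ke xe17 ye12 ze33) (ke xe11 ye14 ze43) (ke xe11 ye18 ze23) (ke xe20 ye4 ze60) (ke xe11 ye16 ze58) (ke xe17 ye32 ze12) (ke xe12 ye18 ze30) (ke xe11 ye14 ze57) (ke xe11 ye14 ze49) (ke xe12 ye6 ze20) (ke xe11 ye14 ze51) (ke xe12 ye45 ze17) (ke xe20 ye9 ze39) (ke xe11 ye14 ze60) (ke xe20 ye12 ze53) (ke xe20 ye12 ze23) (ke xe27 ye12 ze32) (ke xe20 ye49 ze1) (ke xe21 ye9 ze36) (ke xe21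 ye47 ze10)) (@D3.rec (fun _ => Pt) (ke xe28 ye6 ze39) (ke xe27 ye32 ze13) (ke xe28 ye27 ze28) (ke xe14 ye17 ze24) (ke xe29 ye19 ze50) (ke xe23 ye53 ze54) (ke xe20 ye14 ze18) (ke xe17 ye0 ze36) (ke xe29 ye19 ze52) (ke xe29 ye19 ze54) (ke xe11 ye15 ze9) (ke xe29 ye19 ze59) (ke xe27 ye49 ze41) (ke xe29 ye19 ze60) (ke xe11 ye15 ze10) (ke xe27 ye34 ze56) (ke xe29 ye19 ze39) (ke xe29 ye20 ze1) (ke xe16 ye20 ze60) (ke xe11 ye15 ze13) (ke xe18 ye49 ze43) (ke xe29 ye20 ze12) (ke xe16 ye56 ze33) (ke xe27 ye20 ze18) (ke xe29 ye20 ze13) (ke xe17 ye15 ze8) (ke xe26 ye29 ze34) (ke xe29 ye20 ze16) (ke xe11 ye15 ze20) (ke xe11 ye15 ze21) (ke xe16 ye53 ze54) (ke xe11 ye50 ze12) (ke xe11 ye15 ze27) (ke xe20 ye25 ze45) (ke xe25 ye25 ze26) (ke xe29 ye20 ze22) (ke xe11 ye15 ze28) (ke xe11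 ye15 ze29) (ke xe18 ye9 ze38) (ke xe29 ye20 ze25) (ke xe28 ye28 ze39) (ke xe28 ye36 ze12) (ke xe18 ye36 ze28) (ke xe26 ye17 ze27) (ke xe27 ye52 ze37) (ke xe29 ye20 ze31) (ke xe11 ye15 ze32) (ke xe18 ye58 ze44) (ke xe14 ye43 ze2) (ke xe24 ye56 ze33) (ke xe11 ye15 ze34) (ke xe27 ye53 ze52) (ke xe29 ye20 ze34) (ke xe29 ye20 ze35) (ke xe11 ye15 ze35) (ke xe24 ye57 ze35) (ke xe19 ye1 ze22) (ke xe26 ye18 ze31) (ke xe27 ye52 ze39) (ke xe29 ye20 ze40) (ke xe18 ye56 ze11) (ke xe26 ye18 ze35)) (@D3.rec (fun _ => Pt) (ke xe27 ye33 ze6) (ke xe24 ye48 ze24) (ke xe11 ye15 ze39) (ke xe18 ye30 ze48) (ke xe29 ye20 ze47) (ke xe11 ye15 ze40) (ke xe28 ye31 ze50) (ke xe26 ye32 ze9) (ke xe26 ye18 ze14) (ke xe23 ye8 ze40) (ke xe11 ye15 ze41) (ke xe11 ye15 ze42) (ke xe29 ye20 ze58) (ke xe29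 ye20 ze60) (ke xe29 ye20 ze54) (ke xe27 ye52 ze44) (ke xe11 ye15 ze44) (ke xe29 ye21 ze4) (ke xe29 ye21 ze7) (ke xe11 ye15 ze45) (ke xe29 ye21 ze8) (ke xe11 ye15 ze48) (ke xe29 ye21 ze9) (ke xe11 ye15 ze49) (ke xe25 ye45 ze44) (ke xe29 ye21 ze12) (ke xe23 ye4 ze16) (ke xe29 ye21 ze16) (ke xe11 ye15 ze50) (ke xe27 ye22 ze40) (ke xe29 ye21 ze18) (ke xe11 ye15 ze51) (ke xe24 ye53 ze38) (ke xe17 ye31 ze8) (ke xe29 ye21 ze21) (ke xe12 ye3 ze46) (ke xe11 ye50 ze4) (ke xe11 ye48 ze3) (ke xe15 ye55 ze5) (ke xe22 ye40 ze25) (ke xe18 ye47 ze61) (ke xe14 ye16 ze44) (ke xe11 ye15 ze56) (ke xe14 ye3 ze26) (ke xe16 ye53 ze59) (ke xe27 ye47 ze2) (ke xe26 ye49 ze14) (ke xe17 ye11 ze6) (ke xe25 ye26 ze47) (ke xe11 ye15 ze60) (ke xe29 ye21 ze30) (ke xe25 ye52 ze1) (ke xe24 ye47 ze36)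 (ke xe15 ye50 ze59) (ke xe25 ye25 ze36) (ke xe11 ye16 ze0) (ke xe11 ye16 ze1) (ke xe22 ye46 ze31) (ke xe11 ye16 ze3) (ke xe13 ye44 ze56) (ke xe11 ye16 ze4) (ke xe28 ye7 ze10)) (@D3.rec (fun _ => Pt) (ke xe27 ye2 ze5) (ke xe29 ye21 ze39) (ke xe11 ye16 ze8) (ke xe26 ye49 ze22) (ke xe18 ye2 ze9) (ke xe28 ye51 ze32) (ke xe26 ye49 ze27) (ke xe26 ye46 ze13) (ke xe29 ye21 ze42) (ke xe23 ye26 ze34) (ke xe19 ye40 ze54) (ke xe26 ye46 ze28) (ke xe12 ye56 ze50) (ke xe11 ye21 ze53) (ke xe11 ye21 ze14) (ke xe26 ye46 ze31) (ke xe27 ye56 ze1) (ke xe11 ye16 ze21) (ke xe21 ye40 ze40) (ke xe26 ye50 ze31) (ke xe17 ye56 ze29) (ke xe22 ye5 ze2) (ke xe11 ye17 ze12) (ke xe20 ye9 ze57) (ke xe26 ye49 ze31) (ke xe13 ye17 ze2) (ke xe18 ye21 ze29) (ke xe12 ye32 ze21) (ke xe11 ye16 ze30) (ke xe11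 ye36 ze44) (ke xe29 ye6 ze0) (ke xe11 ye16 ze32) (ke xe27 ye3 ze24) (ke xe11 ye18 ze18) (ke xe17 ye30 ze11) (ke xe13 ye1 ze23) (ke xe22 ye6 ze0) (ke xe11 ye16 ze38) (ke xe17 ye27 ze36) (ke xe11 ye16 ze40) (ke xe12 ye47 ze16) (ke xe11 ye16 ze41) (ke xe11 ye37 ze19) (ke xe29 ye12 ze60) (ke xe13 ye2 ze3) (ke xe13 ye56 ze29) (ke xe11 ye16 ze53) (ke xe21 ye9 ze38) (ke xe25 ye17 ze0) (ke xe21 ye51 ze33) (ke xe21 ye51 ze12) (ke xe11 ye16 ze56) (ke xe12 ye52 ze55) (ke xe20 ye9 ze56) (ke xe29 ye19 ze43) (ke xe20 ye46 ze27) (ke xe21 ye3 ze30) (ke xe27 ye22 ze33) (ke xe12 ye36 ze25) (ke xe29 ye21 ze52) (ke xe29 ye21 ze53) (ke xe11 ye16 ze61)) (@D3.rec (fun _ => Pt) (ke xe11 ye17 ze0) (ke xe22 ye11 ze38) (ke xe12 ye22 ze17) (ke xe21 ye21 ze9) (ke xe11 ye17 ze3) (ke xe26 ye58 ze23)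 (ke xe17 ye5 ze5) (ke xe17 ye35 ze31) (ke xe11 ye17 ze6) (ke xe12 ye18 ze5) (ke xe11 ye17 ze7) (ke xe13 ye53 ze20) (ke xe17 ye35 ze0) (ke xe19 ye39 ze44) (ke xe11 ye17 ze10) (ke xe21 ye45 ze44) (ke xe28 ye1 ze17) (ke xe21 ye47 ze48) (ke xe29 ye18 ze26) (ke xe11 ye47 ze1) (ke xe23 ye24 ze27) (ke xe11 ye17 ze15) (ke xe13 ye59 ze2) (ke xe19 ye27 ze1) (ke xe11 ye47 ze14) (ke xe11 ye17 ze19) (ke xe16 ye30 ze20) (ke xe29 ye21 ze61) (ke xe23 ye17 ze51) (ke xe11 ye17 ze20) (ke xe11 ye17 ze21) (ke xe29 ye2 ze35) (ke xe16 ye24 ze49) (ke xe26 ye0 ze48) (ke xe16 ye30 ze45) (ke xe17 ye31 ze31) (ke xe11 ye17 ze28) (ke xe27 ye1 ze14) (ke xe11 ye17 ze27) (ke xe23 ye24 ze28) (ke xe11 ye17 ze30) (ke xe19 ye53 ze14) (ke xe11 ye45 ze60) (ke xe11 ye17 ze36) (ke xe29 ye6 ze35) (ke xe16 ye31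 ze37) (ke xe16 ye14 ze6) (ke xe21 ye47 ze54) (ke xe11 ye17 ze42) (ke xe27 ye44 ze7) (ke xe18 ye36 ze16) (ke xe14 ye45 ze61) (ke xe11 ye17 ze41) (ke xe19 ye5 ze51) (ke xe27 ye13 ze49) (ke xe11 ye17 ze44) (ke xe11 ye44 ze29) (ke xe22 ye46 ze39) (ke xe11 ye17 ze47) (ke xe21 ye32 ze37) (ke xe11 ye22 ze5) (ke xe23 ye42 ze34)) (@D3.rec (fun _ => Pt) (ke xe11 ye17 ze49) (ke xe11 ye17 ze50) (ke xe11 ye17 ze54) (ke xe11 ye17 ze55) (ke xe29 ye22 ze13) (ke xe21 ye54 ze30) (ke xe11 ye17 ze56) (ke xe20 ye52 ze15) (ke xe17 ye30 ze15) (ke xe14 ye34 ze3) (ke xe11 ye18 ze57) (ke xe27 ye20 ze20) (ke xe20 ye29 ze13) (ke xe11 ye17 ze59) (ke xe11 ye32 ze29) (ke xe21 ye24 ze48) (ke xe11 ye18 ze5) (ke xe26 ye22 ze56) (ke xe20 ye10 ze6) (ke xe21 ye31 ze6) (ke xe11 ye18 ze7) (ke xe11 ye33 ze31)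 (ke xe11 ye33 ze34) (ke xe18 ye25 ze38) (ke xe11 ye18 ze8) (ke xe29 ye22 ze18) (ke xe11 ye18 ze9) (ke xe27 ye31 ze38) (ke xe27 ye4 ze18) (ke xe11 ye18 ze10) (ke xe12 ye44 ze3) (ke xe12 ye44 ze26) (ke xe26 ye10 ze37) (ke xe25 ye31 ze0) (ke xe11 ye18 ze13) (ke xe11 ye18 ze17) (ke xe12 ye46 ze18) (ke xe17 ye51 ze21) (ke xe11 ye18 ze15) (ke xe29 ye22 ze24) (ke xe14 ye46 ze36) (ke xe22 ye21 ze44) (ke xe11 ye18 ze16) (ke xe21 ye50 ze15) (ke xe17 ye48 ze2) (ke xe24 ye14 ze50) (ke xe25 ye16 ze44) (ke xe21 ye15 ze21) (ke xe20 ye46 ze2) (ke xe11 ye18 ze19) (ke xe29 ye0 ze37) (ke xe12 ye25 ze25) (ke xe23 ye42 ze44) (ke xe11 ye20 ze19) (ke xe21 ye47 ze26) (ke xe11 ye18 ze24) (ke xe11 ye20 ze7) (ke xe19 ye32 ze19) (ke xe11 ye18 ze28) (ke xe11 ye39 ze2) (ke xe11 ye20 ze34) (ke xe11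 ye18 ze30)) (@D3.rec (fun _ => Pt) (ke xe12 ye27 ze28) (ke xe11 ye19 ze60) (ke xe11 ye18 ze32) (ke xe29 ye21 ze58) (ke xe29 ye22 ze34) (ke xe11 ye18 ze35) (ke xe27 ye23 ze3) (ke xe11 ye18 ze36) (ke xe17 ye31 ze3) (ke xe16 ye51 ze32) (ke xe29 ye22 ze37) (ke xe11 ye18 ze37) (ke xe17 ye27 ze12) (ke xe11 ye18 ze38) (ke xe27 ye43 ze18) (ke xe12 ye47 ze29) (ke xe12 ye44 ze23) (ke xe29 ye22 ze38) (ke xe11 ye18 ze41) (ke xe20 ye3 ze15) (ke xe27 ye54 ze31) (ke xe11 ye18 ze44) (ke xe20 ye40 ze8) (ke xe11 ye42 ze44) (ke xe19 ye50 ze9) (ke xe15 ye54 ze47) (ke xe18 ye2 ze0) (ke xe15 ye21 ze5) (ke xe21 ye50 ze34) (ke xe27 ye43 ze20) (ke xe11 ye18 ze50) (ke xe11 ye18 ze51) (ke xe21 ye49 ze56) (ke xe11 ye18 ze53) (ke xe20 ye37 ze51) (ke xe29 ye22 ze46) (ke xe14 ye49 ze57) (ke xe25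 ye17 ze50) (ke xe11 ye18 ze56) (ke xe12 ye44 ze1) (ke xe11 ye18 ze58) (ke xe29 ye22 ze47) (ke xe27 ye13 ze0) (ke xe11 ye19 ze0) (ke xe16 ye54 ze21) (ke xe29 ye22 ze50) (ke xe23 ye33 ze36) (ke xe11 ye19 ze2) (ke xe14 ye46 ze38) (ke xe23 ye30 ze41) (ke xe21 ye24 ze58) (ke xe13 ye5 ze21) (ke xe28 ye10 ze9) (ke xe12 ye46 ze47) (ke xe11 ye19 ze9) (ke xe17 ye14 ze28) (ke xe17 ye13 ze54) (ke xe12 ye36 ze4) (ke xe29 ye22 ze54) (ke xe11 ye19 ze19) (ke xe15 ye8 ze41) (ke xe11 ye19 ze22)) (@D3.rec (fun _ => Pt) (ke xe26 ye50 ze29) (ke xe29 ye6 ze8) (ke xe20 ye51 ze10) (ke xe11 ye19 ze24) (ke xe17 ye55 ze45) (ke xe24 ye41 ze60) (ke xe11 ye19 ze25) (ke xe24 ye41 ze39) (ke xe12 ye27 ze16) (ke xe12 ye45 ze61) (ke xe27 ye11 ze11) (ke xe15 ye20 ze27) (ke xe11 ye19 ze27) (ke xe26 ye59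 ze16) (ke xe11 ye26 ze21) (ke xe20 ye51 ze48) (ke xe11 ye19 ze28) (ke xe18 ye7 ze19) (ke xe11 ye19 ze31) (ke xe12 ye25 ze46) (ke xe12 ye16 ze39) (ke xe21 ye19 ze36) (ke xe12 ye24 ze32) (ke xe14 ye55 ze37) (ke xe23 ye30 ze29) (ke xe12 ye27 ze17) (ke xe21 ye6 ze8) (ke xe17 ye48 ze14) (ke xe11 ye50 ze44) (ke xe11 ye19 ze49) (ke xe21 ye25 ze47) (ke xe13 ye37 ze6) (ke xe20 ye45 ze35) (ke xe17 ye31 ze40) (ke xe24 ye22 ze31) (ke xe19 ye39 ze45) (ke xe20 ye27 ze5) (ke xe12 ye17 ze7) (ke xe11 ye19 ze40) (ke xe13 ye46 ze3) (ke xe15 ye24 ze20) (ke xe29 ye23 ze9) (ke xe11 ye19 ze41) (ke xe22 ye4 ze61) (ke xe27 ye20 ze13) (ke xe12 ye40 ze51) (ke xe11 ye30 ze44) (ke xe14 ye52 ze34) (ke xe21 ye36 ze49) (ke xe26 ye59 ze4) (ke xe20 ye40 ze29) (ke xe29 ye23 ze11) (ke xe20 ye40 ze26)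 (ke xe11 ye19 ze47) (ke xe13 ye1 ze59) (ke xe29 ye23 ze13) (ke xe17 ye50 ze5) (ke xe29 ye23 ze15) (ke xe28 ye21 ze59) (ke xe11 ye19 ze50) (ke xe18 ye37 ze14) (ke xe17 ye14 ze11)) (@D3.rec (fun _ => Pt) (ke xe17 ye7 ze58) (ke xe13 ye54 ze49) (ke xe29 ye23 ze17) (ke xe19 ye27 ze56) (ke xe14 ye11 ze52) (ke xe29 ye22 ze30) (ke xe26 ye11 ze6) (ke xe27 ye53 ze32) (ke xe11 ye19 ze61) (ke xe13 ye46 ze5) (ke xe27 ye22 ze20) (ke xe29 ye23 ze21) (ke xe11 ye20 ze0) (ke xe18 ye39 ze47) (ke xe21 ye42 ze35) (ke xe20 ye45 ze39) (ke xe11 ye41 ze27) (ke xe13 ye9 ze10) (ke xe20 ye44 ze31) (ke xe18 ye56 ze31) (ke xe11 ye25 ze19) (ke xe11 ye20 ze9) (ke xe22 ye47 ze15) (ke xe11 ye41 ze39) (ke xe20 ye50 ze58) (ke xe11 ye20 ze59) (ke xe20 ye20 ze49) (ke xe29 ye22 ze42) (ke xe21 ye41 ze53)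 (ke xe21 ye41 ze46) (ke xe11 ye20 ze13) (ke xe13 ye10 ze39) (ke xe11 ye20 ze14) (ke xe14 ye11 ze35) (ke xe24 ye5 ze57) (ke xe22 ye19 ze51) (ke xe20 ye7 ze10) (ke xe11 ye20 ze20) (ke xe28 ye9 ze12) (ke xe17 ye13 ze36) (ke xe11 ye20 ze21) (ke xe11 ye47 ze31) (ke xe21 ye29 ze6) (ke xe26 ye25 ze32) (ke xe29 ye23 ze29) (ke xe11 ye20 ze25) (ke xe16 ye48 ze24) (ke xe20 ye4 ze59) (ke xe19 ye50 ze12) (ke xe19 ye45 ze14) (ke xe11 ye20 ze29) (ke xe29 ye0 ze52) (ke xe11 ye20 ze40) (ke xe25 ye43 ze29) (ke xe11 ye20 ze31) (ke xe29 ye23 ze38) (ke xe11 ye20 ze32) (ke xe26 ye46 ze46) (ke xe11 ye47 ze37) (ke xe29 ye22 ze28) (ke xe29 ye23 ze41) (ke xe11 ye20 ze35)) (@D3.rec (fun _ => Pt) (ke xe29 ye23 ze47) (ke xe29 ye23 ze48) (ke xe11 ye20 ze36) (ke xe25 ye10 ze46) (ke xe29 ye16 ze12)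 (ke xe27 ye5 ze44) (ke xe15 ye59 ze47) (ke xe21 ye50 ze26) (ke xe25 ye26 ze21) (ke xe25 ye55 ze24) (ke xe11 ye20 ze41) (ke xe29 ye23 ze55) (ke xe29 ye23 ze58) (ke xe29 ye19 ze15) (ke xe11 ye20 ze43) (ke xe20 ye6 ze49) (ke xe29 ye23 ze60) (ke xe28 ye13 ze48) (ke xe11 ye20 ze46) (ke xe29 ye19 ze21) (ke xe11 ye22 ze4) (ke xe17 ye2 ze38) (ke xe19 ye1 ze35) (ke xe11 ye20 ze51) (ke xe14 ye28 ze33) (ke xe20 ye52 ze49) (ke xe11 ye20 ze52) (ke xe29 ye24 ze6) (ke xe20 ye18 ze31) (ke xe20 ye32 ze50) (ke xe11 ye20 ze53) (ke xe20 ye18 ze28) (ke xe29 ye24 ze12) (ke xe11 ye20 ze57) (ke xe15 ye4 ze54) (ke xe20 ye6 ze47) (ke xe11 ye20 ze55) (ke xe21 ye54 ze2) (ke xe29 ye24 ze15) (ke xe29 ye24 ze16) (ke xe11 ye20 ze56) (ke xe23 ye21 ze43) (ke xe29 ye24 ze17) (ke xe29 ye24 ze13) (ke xe20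 ye4 ze38) (ke xe20 ye30 ze1) (ke xe11 ye20 ze60) (ke xe29 ye0 ze31) (ke xe11 ye20 ze61) (ke xe20 ye30 ze25) (ke xe23 ye20 ze45) (ke xe11 ye21 ze2) (ke xe11 ye21 ze3) (ke xe21 ye32 ze46) (ke xe13 ye45 ze7) (ke xe19 ye32 ze25) (ke xe15 ye26 ze46) (ke xe11 ye21 ze12) (ke xe29 ye21 ze43) (ke xe21 ye9 ze2) (ke xe29 ye21 ze34) (ke xe16 ye24 ze17)) (@D3.rec (fun _ => Pt) (ke xe11 ye22 ze25) (ke xe25 ye24 ze5) (ke xe22 ye58 ze38) (ke xe29 ye24 ze22) (ke xe11 ye21 ze21) (ke xe27 ye51 ze24) (ke xe26 ye31 ze42) (ke xe28 ye6 ze53) (ke xe26 ye52 ze42) (ke xe11 ye21 ze24) (ke xe11 ye21 ze27) (ke xe11 ye21 ze30) (ke xe14 ye36 ze60) (ke xe11 ye21 ze32) (ke xe18 ye32 ze35) (ke xe22 ye42 ze29) (ke xe11 ye21 ze36) (ke xe11 ye21 ze37) (ke xe12 ye24 ze37) (ke xe21 ye36 ze19) (ke xe22 ye47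 ze21) (ke xe12 ye39 ze28) (ke xe29 ye24 ze28) (ke xe11 ye21 ze41) (ke xe21 ye44 ze61) (ke xe12 ye31 ze17) (ke xe20 ye51 ze57) (ke xe20 ye51 ze11) (ke xe17 ye15 ze55) (ke xe16 ye59 ze55) (ke xe17 ye7 ze39) (ke xe20 ye45 ze6) (ke xe11 ye40 ze44) (ke xe17 ye8 ze3) (ke xe17 ye5 ze37) (ke xe21 ye32 ze40) (ke xe16 ye36 ze5) (ke xe11 ye21 ze54) (ke xe20 ye51 ze13) (ke xe17 ye7 ze29) (ke xe26 ye42 ze17) (ke xe17 ye3 ze24) (ke xe12 ye33 ze42) (ke xe12 ye9 ze36) (ke xe19 ye25 ze46) (ke xe20 ye45 ze50) (ke xe12 ye6 ze51) (ke xe14 ye10 ze48) (ke xe22 ye30 ze19) (ke xe21 ye44 ze50) (ke xe21 ye32 ze41) (ke xe20 ye50 ze59) (ke xe21 ye13 ze10) (ke xe27 ye0 ze46) (ke xe12 ye31 ze39) (ke xe11 ye22 ze14) (ke xe18 ye25 ze56) (ke xe12 ye31 ze57) (ke xe20 ye5 ze40) (ke xe16 ye51 ze49) (ke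 xe20 ye51 ze16) (ke xe14 ye18 ze22)) (@D3.rec (fun _ => Pt) (ke xe29 ye8 ze38) (ke xe27 ye58 ze24) (ke xe11 ye22 ze22) (ke xe11 ye38 ze23) (ke xe11 ye38 ze24) (ke xe22 ye32 ze38) (ke xe20 ye0 ze58) (ke xe11 ye37 ze28) (ke xe20 ye50 ze52) (ke xe29 ye24 ze37) (ke xe18 ye44 ze27) (ke xe18 ye41 ze17) (ke xe11 ye22 ze27) (ke xe29 ye24 ze41) (ke xe20 ye1 ze28) (ke xe29 ye24 ze40) (ke xe11 ye36 ze60) (ke xe29 ye6 ze9) (ke xe11 ye22 ze30) (ke xe11 ye36 ze57) (ke xe29 ye9 ze4) (ke xe22 ye9 ze55) (ke xe16 ye54 ze51) (ke xe22 ye11 ze41) (ke xe12 ye3 ze50) (ke xe27 ye42 ze51) (ke xe13 ye23 ze25) (ke xe12 ye32 ze13) (ke xe18 ye54 ze54) (ke xe11 ye22 ze38) (ke xe11 ye22 ze39) (ke xe20 ye7 ze17) (ke xe20 ye30 ze36) (ke xe18 ye33 ze53) (ke xe19 ye40 ze37) (ke xe16 ye47 ze61) (ke xe24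 ye32 ze56) (ke xe18 ye15 ze33) (ke xe17 ye8 ze14) (ke xe13 ye2 ze32) (ke xe21 ye20 ze49) (ke xe11 ye22 ze61) (ke xe28 ye42 ze59) (ke xe28 ye44 ze57) (ke xe25 ye44 ze33) (ke xe11 ye22 ze59) (ke xe11 ye23 ze2) (ke xe15 ye4 ze34) (ke xe16 ye29 ze31) (ke xe20 ye17 ze26) (ke xe17 ye9 ze7) (ke xe11 ye23 ze6) (ke xe11 ye23 ze12) (ke xe13 ye27 ze56) (ke xe11 ye23 ze11) (ke xe29 ye24 ze51) (ke xe11 ye23 ze13) (ke xe11 ye23 ze14) (ke xe28 ye8 ze28) (ke xe11 ye23 ze17) (ke xe11 ye23 ze18) (ke xe14 ye59 ze18)) (@D3.rec (fun _ => Pt) (ke xe29 ye24 ze56) (ke xe11 ye23 ze20) (ke xe11 ye23 ze21) (ke xe11 ye23 ze37) (ke xe11 ye23 ze23) (ke xe29 ye24 ze60) (ke xe11 ye23 ze24) (ke xe19 ye0 ze3) (ke xe28 ye27 ze15) (ke xe21 ye12 ze57) (ke xe27 ye32 ze18) (ke xe11 ye23 ze28) (ke xe22 ye29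 ze19) (ke xe21 ye13 ze16) (ke xe21 ye12 ze52) (ke xe18 ye13 ze26) (ke xe11 ye23 ze30) (ke xe26 ye31 ze34) (ke xe29 ye25 ze8) (ke xe16 ye21 ze21) (ke xe11 ye23 ze35) (ke xe18 ye31 ze1) (ke xe29 ye25 ze12) (ke xe27 ye32 ze6) (ke xe17 ye47 ze32) (ke xe27 ye34 ze29) (ke xe17 ye46 ze25) (ke xe11 ye23 ze38) (ke xe11 ye23 ze39) (ke xe27 ye5 ze26) (ke xe28 ye11 ze13) (ke xe18 ye34 ze7) (ke xe11 ye23 ze41) (ke xe17 ye46 ze57) (ke xe11 ye23 ze43) (ke xe11 ye23 ze44) (ke xe18 ye56 ze30) (ke xe21 ye15 ze6) (ke xe28 ye7 ze24) (ke xe11 ye23 ze48) (ke xe11 ye42 ze28) (ke xe29 ye25 ze21) (ke xe11 ye23 ze49) (ke xe21 ye51 ze43) (ke xe26 ye4 ze5) (ke xe21 ye9 ze19) (ke xe29 ye25 ze26) (ke xe11 ye23 ze51) (ke xe28 ye22 ze42) (ke xe11 ye23 ze54) (ke xe13 ye58 ze37) (ke xe11 ye23 ze61)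 (ke xe29 ye25 ze29) (ke xe21 ye54 ze51) (ke xe22 ye3 ze49) (ke xe22 ye3 ze50) (ke xe14 ye7 ze39) (ke xe15 ye49 ze41) (ke xe26 ye4 ze13) (ke xe11 ye24 ze7) (ke xe11 ye24 ze10) (ke xe14 ye11 ze51)) (@D3.rec (fun _ => Pt) (ke xe17 ye57 ze60) (ke xe17 ye56 ze14) (ke xe14 ye46 ze35) (ke xe17 ye30 ze3) (ke xe11 ye24 ze21) (ke xe20 ye27 ze40) (ke xe18 ye39 ze50) (ke xe11 ye24 ze19) (ke xe12 ye38 ze41) (ke xe11 ye24 ze20) (ke xe27 ye20 ze12) (ke xe11 ye24 ze23) (ke xe17 ye58 ze3) (ke xe11 ye24 ze24) (ke xe27 ye20 ze21) (ke xe23 ye36 ze31) (ke xe11 ye24 ze31) (ke xe17 ye29 ze59) (ke xe12 ye45 ze15) (ke xe25 ye19 ze1) (ke xe11 ye24 ze39) (ke xe16 ye59 ze33) (ke xe11 ye24 ze37) (ke xe12 ye45 ze16) (ke xe11 ye24 ze38) (ke xe26 ye28 ze41) (ke xe24 ye30 ze30) (ke xe11 ye24 ze44)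 (ke xe20 ye27 ze61) (ke xe14 ye20 ze19) (ke xe18 ye43 ze24) (ke xe11 ye24 ze50) (ke xe18 ye21 ze22) (ke xe19 ye26 ze18) (ke xe27 ye42 ze16) (ke xe11 ye25 ze3) (ke xe28 ye55 ze1) (ke xe11 ye25 ze5) (ke xe25 ye11 ze29) (ke xe11 ye29 ze38) (ke xe11 ye25 ze12) (ke xe20 ye51 ze38) (ke xe29 ye25 ze37) (ke xe20 ye26 ze47) (ke xe27 ye14 ze5) (ke xe15 ye4 ze45) (ke xe22 ye38 ze27) (ke xe11 ye25 ze15) (ke xe11 ye25 ze16) (ke xe29 ye25 ze40) (ke xe11 ye25 ze26) (ke xe17 ye57 ze47) (ke xe12 ye5 ze34) (ke xe11 ye34 ze56) (ke xe21 ye46 ze4) (ke xe11 ye25 ze28) (ke xe11 ye25 ze29) (ke xe18 ye32 ze34) (ke xe18 ye24 ze58) (ke xe11 ye25 ze32) (ke xe17 ye5 ze49) (ke xe11 ye25 ze34)) (@D3.rec (fun _ => Pt) (ke xe11 ye58 ze4) (ke xe21 ye38 ze17) (ke xe25 ye50 ze44) (ke xe29 ye25 ze43) (ke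 xe29 ye25 ze44) (ke xe11 ye25 ze38) (ke xe29 ye25 ze47) (ke xe19 ye15 ze51) (ke xe23 ye56 ze32) (ke xe19 ye28 ze47) (ke xe28 ye48 ze56) (ke xe11 ye25 ze41) (ke xe18 ye43 ze16) (ke xe16 ye58 ze31) (ke xe25 ye44 ze29) (ke xe25 ye44 ze46) (ke xe11 ye25 ze46) (ke xe12 ye39 ze8) (ke xe24 ye2 ze26) (ke xe26 ye10 ze39) (ke xe22 ye19 ze58) (ke xe29 ye25 ze52) (ke xe28 ye18 ze11) (ke xe22 ye25 ze36) (ke xe16 ye41 ze5) (ke xe16 ye55 ze30) (ke xe17 ye56 ze39) (ke xe29 ye25 ze60) (ke xe29 ye22 ze3) (ke xe11 ye25 ze56) (ke xe26 ye48 ze56) (ke xe16 ye41 ze32) (ke xe16 ye3 ze16) (ke xe29 ye26 ze0) (ke xe11 ye26 ze1) (ke xe11 ye26 ze2) (ke xe28 ye43 ze33) (ke xe29 ye26 ze2) (ke xe14 ye12 ze46) (ke xe22 ye16 ze19) (ke xe29 ye26 ze5) (ke xe16 ye55 ze47) (ke xe14 ye13 ze54) (ke xe26 ye59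 ze53) (ke xe29 ye26 ze10) (ke xe29 ye26 ze12) (ke xe26 ye51 ze49) (ke xe22 ye26 ze40) (ke xe29 ye26 ze16) (ke xe11 ye26 ze13) (ke xe29 ye26 ze20) (ke xe16 ye48 ze32) (ke xe27 ye11 ze13) (ke xe11 ye26 ze14) (ke xe22 ye25 ze37) (ke xe16 ye57 ze60) (ke xe16 ye41 ze37) (ke xe29 ye26 ze26) (ke xe27 ye18 ze61) (ke xe27 ye19 ze22) (ke xe28 ye30 ze13) (ke xe26 ye59 ze5)) (@D3.rec (fun _ => Pt) (ke xe29 ye22 ze56) (ke xe17 ye12 ze55) (ke xe29 ye24 ze33) (ke xe20 ye46 ze0) (ke xe28 ye39 ze59) (ke xe24 ye25 ze0) (ke xe29 ye26 ze35) (ke xe11 ye26 ze23) (ke xe17 ye55 ze50) (ke xe13 ye58 ze28) (ke xe29 ye26 ze37) (ke xe17 ye56 ze26) (ke xe15 ye45 ze60) (ke xe29 ye10 ze44) (ke xe11 ye26 ze27) (ke xe12 ye32 ze7) (ke xe11 ye26 ze29) (ke xe29 ye26 ze40) (ke xe24 ye25 ze5) (ke xe28 ye39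 ze52) (ke xe11 ye26 ze32) (ke xe29 ye26 ze42) (ke xe18 ye27 ze48) (ke xe11 ye26 ze34) (ke xe11 ye26 ze36) (ke xe17 ye56 ze32) (ke xe25 ye53 ze10) (ke xe29 ye13 ze61) (ke xe27 ye44 ze12) (ke xe11 ye26 ze37) (ke xe27 ye57 ze21) (ke xe11 ye26 ze57) (ke xe25 ye39 ze55) (ke xe16 ye49 ze51) (ke xe11 ye26 ze38) (ke xe24 ye12 ze36) (ke xe16 ye29 ze56) (ke xe24 ye52 ze52) (ke xe16 ye41 ze34) (ke xe11 ye41 ze48) (ke xe29 ye26 ze44) (ke xe27 ye39 ze3) (ke xe11 ye26 ze44) (ke xe29 ye26 ze45) (ke xe14 ye45 ze47) (ke xe29 ye26 ze46) (ke xe11 ye26 ze49) (ke xe11 ye26 ze50) (ke xe11 ye26 ze54) (ke xe25 ye39 ze59) (ke xe11 ye26 ze55) (ke xe12 ye47 ze9) (ke xe27 ye36 ze27) (ke xe19 ye49 ze58) (ke xe29 ye26 ze43) (ke xe23 ye37 ze5) (ke xe28 ye1 ze4) (ke xe11 ye27 ze1) (ke xe14 ye3 ze57)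 (ke xe23 ye24 ze37) (ke xe29 ye26 ze57) (ke xe25 ye12 ze54)) (@D3.rec (fun _ => Pt) (ke xe14 ye32 ze28) (ke xe11 ye27 ze3) (ke xe12 ye32 ze8) (ke xe16 ye29 ze20) (ke xe23 ye4 ze45) (ke xe15 ye4 ze23) (ke xe13 ye23 ze23) (ke xe11 ye27 ze9) (ke xe11 ye27 ze10) (ke xe11 ye31 ze31) (ke xe19 ye40 ze25) (ke xe12 ye5 ze38) (ke xe16 ye56 ze31) (ke xe11 ye31 ze1) (ke xe28 ye48 ze43) (ke xe11 ye27 ze14) (ke xe20 ye7 ze12) (ke xe11 ye27 ze18) (ke xe20 ye6 ze48) (ke xe15 ye8 ze6) (ke xe23 ye19 ze5) (ke xe20 ye28 ze34) (ke xe16 ye47 ze0) (ke xe19 ye51 ze47) (ke xe29 ye27 ze5) (ke xe19 ye46 ze57) (ke xe11 ye27 ze29) (ke xe19 ye21 ze0) (ke xe21 ye16 ze16) (ke xe11 ye27 ze38) (ke xe14 ye20 ze24) (ke xe19 ye12 ze39) (ke xe19 ye25 ze45) (ke xe23 ye53 ze19) (ke xe19 ye43 ze42) (ke xe17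 ye33 ze41) (ke xe16 ye52 ze22) (ke xe12 ye56 ze16) (ke xe22 ye24 ze5) (ke xe14 ye27 ze26) (ke xe28 ye49 ze22) (ke xe11 ye28 ze0) (ke xe29 ye27 ze10) (ke xe17 ye15 ze30) (ke xe11 ye28 ze3) (ke xe20 ye10 ze33) (ke xe11 ye28 ze7) (ke xe11 ye28 ze8) (ke xe11 ye28 ze9) (ke xe11 ye48 ze7) (ke xe16 ye53 ze27) (ke xe15 ye7 ze60) (ke xe11 ye28 ze16) (ke xe27 ye13 ze19) (ke xe11 ye28 ze21) (ke xe26 ye41 ze41) (ke xe17 ye58 ze27) (ke xe11 ye28 ze26) (ke xe17 ye57 ze56) (ke xe11 ye28 ze31) (ke xe20 ye45 ze30) (ke xe11 ye28 ze33)) (@D3.rec (fun _ => Pt) (ke xe11 ye28 ze37) (ke xe20 ye53 ze20) (ke xe29 ye2 ze51) (ke xe11 ye28 ze45) (ke xe12 ye30 ze8) (ke xe17 ye0 ze32) (ke xe15 ye5 ze3) (ke xe18 ye23 ze19) (ke xe18 ye24 ze7) (ke xe11 ye28 ze56) (ke xe11 ye28 ze57) (ke xe17 ye57 ze45)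 (ke xe12 ye56 ze22) (ke xe21 ye30 ze54) (ke xe20 ye51 ze35) (ke xe21 ye54 ze57) (ke xe21 ye7 ze7) (ke xe11 ye29 ze3) (ke xe26 ye28 ze20) (ke xe21 ye15 ze11) (ke xe11 ye29 ze13) (ke xe21 ye14 ze53) (ke xe21 ye30 ze43) (ke xe27 ye41 ze12) (ke xe11 ye29 ze16) (ke xe26 ye28 ze11) (ke xe21 ye29 ze15) (ke xe29 ye2 ze49) (ke xe15 ye30 ze44) (ke xe11 ye29 ze25) (ke xe11 ye29 ze26) (ke xe11 ye29 ze29) (ke xe11 ye29 ze30) (ke xe15 ye29 ze13) (ke xe29 ye27 ze17) (ke xe29 ye18 ze2) (ke xe29 ye27 ze19) (ke xe11 ye29 ze32) (ke xe29 ye7 ze22) (ke xe29 ye27 ze24) (ke xe24 ye50 ze21) (ke xe16 ye12 ze53) (ke xe29 ye27 ze29) (ke xe29 ye14 ze19) (ke xe29 ye27 ze31) (ke xe11 ye29 ze35) (ke xe20 ye59 ze30) (ke xe20 ye22 ze43) (ke xe17 ye22 ze46) (ke xe11 ye29 ze43) (ke xe18 ye23 ze31) (ke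 xe11 ye29 ze44) (ke xe14 ye26 ze17) (ke xe26 ye45 ze35) (ke xe11 ye29 ze47) (ke xe29 ye27 ze35) (ke xe11 ye29 ze48) (ke xe21 ye0 ze3) (ke xe28 ye30 ze24) (ke xe25 ye13 ze49) (ke xe24 ye28 ze47) (ke xe18 ye23 ze37)) (@D3.rec (fun _ => Pt) (ke xe17 ye4 ze18) (ke xe19 ye25 ze33) (ke xe11 ye29 ze53) (ke xe29 ye27 ze38) (ke xe11 ye29 ze57) (ke xe20 ye16 ze36) (ke xe11 ye29 ze58) (ke xe14 ye18 ze60) (ke xe27 ye23 ze58) (ke xe11 ye29 ze61) (ke xe21 ye40 ze16) (ke xe15 ye0 ze52) (ke xe11 ye30 ze0) (ke xe29 ye27 ze41) (ke xe19 ye8 ze8) (ke xe14 ye30 ze52) (ke xe28 ye32 ze40) (ke xe19 ye10 ze6) (ke xe13 ye9 ze0) (ke xe19 ye23 ze55) (ke xe16 ye44 ze20) (ke xe19 ye9 ze2) (ke xe13 ye8 ze14) (ke xe15 ye52 ze16) (ke xe16 ye58 ze0) (ke xe14 ye39 ze28) (ke xe16 ye54 ze44) (ke xe11 ye30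 ze12) (ke xe11 ye30 ze16) (ke xe11 ye30 ze47) (ke xe29 ye23 ze7) (ke xe15 ye27 ze9) (ke xe18 ye43 ze20) (ke xe26 ye53 ze61) (ke xe26 ye51 ze18) (ke xe11 ye30 ze30) (ke xe13 ye53 ze17) (ke xe29 ye12 ze54) (ke xe22 ye36 ze52) (ke xe11 ye30 ze35) (ke xe20 ye22 ze5) (ke xe28 ye47 ze4) (ke xe29 ye27 ze45) (ke xe26 ye10 ze45) (ke xe11 ye30 ze34) (ke xe21 ye28 ze27) (ke xe29 ye27 ze46) (ke xe14 ye57 ze8) (ke xe24 ye36 ze23) (ke xe11 ye30 ze45) (ke xe16 ye55 ze27) (ke xe11 ye30 ze48) (ke xe29 ye6 ze39) (ke xe11 ye30 ze51) (ke xe12 ye8 ze59) (ke xe20 ye8 ze53) (ke xe21 ye44 ze31) (ke xe21 ye44 ze46) (ke xe12 ye9 ze0) (ke xe11 ye31 ze53) (ke xe19 ye32 ze41) (ke xe20 ye22 ze28)) (@D3.rec (fun _ => Pt) (ke xe16 ye51 ze53) (ke xe24 ye32 ze45) (ke xe15 ye4 ze10) (ke xe21 ye0 ze34)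 (ke xe17 ye58 ze15) (ke xe11 ye31 ze16) (ke xe23 ye48 ze2) (ke xe12 ye49 ze34) (ke xe15 ye26 ze7) (ke xe16 ye17 ze57) (ke xe19 ye11 ze43) (ke xe12 ye56 ze38) (ke xe22 ye3 ze23) (ke xe21 ye53 ze15) (ke xe28 ye52 ze26) (ke xe11 ye31 ze39) (ke xe27 ye22 ze60) (ke xe21 ye54 ze7) (ke xe19 ye10 ze50) (ke xe15 ye48 ze20) (ke xe26 ye59 ze54) (ke xe28 ye1 ze23) (ke xe27 ye53 ze23) (ke xe26 ye35 ze16) (ke xe13 ye2 ze47) (ke xe16 ye53 ze25) (ke xe19 ye16 ze8) (ke xe28 ye50 ze15) (ke xe18 ye43 ze38) (ke xe19 ye52 ze46) (ke xe25 ye23 ze38) (ke xe27 ye29 ze39) (ke xe27 ye6 ze4) (ke xe16 ye4 ze12) (ke xe20 ye25 ze21) (ke xe19 ye30 ze41) (ke xe20 ye52 ze56) (ke xe11 ye32 ze18) (ke xe14 ye26 ze29) (ke xe20 ye49 ze35) (ke xe29 ye27 ze61) (ke xe29 ye24 ze4) (ke xe11 ye32 ze1) (ke xe19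 ye18 ze60) (ke xe11 ye32 ze2) (ke xe11 ye32 ze5) (ke xe29 ye28 ze3) (ke xe20 ye30 ze16) (ke xe11 ye32 ze6) (ke xe23 ye8 ze10) (ke xe26 ye24 ze54) (ke xe29 ye28 ze4) (ke xe29 ye28 ze5) (ke xe11 ye32 ze8) (ke xe26 ye39 ze25) (ke xe22 ye14 ze58) (ke xe29 ye1 ze25) (ke xe13 ye23 ze19) (ke xe15 ye35 ze38) (ke xe28 ye59 ze22) (ke xe15 ye51 ze28) (ke xe29 ye0 ze51)) (@D3.rec (fun _ => Pt) (ke xe20 ye9 ze18) (ke xe29 ye27 ze58) (ke xe29 ye1 ze52) (ke xe11 ye55 ze12) (ke xe19 ye21 ze22) (ke xe26 ye50 ze11) (ke xe26 ye50 ze13) (ke xe22 ye6 ze10) (ke xe17 ye32 ze55) (ke xe11 ye32 ze22) (ke xe28 ye42 ze21) (ke xe29 ye28 ze13) (ke xe11 ye32 ze23) (ke xe20 ye14 ze12) (ke xe29 ye28 ze17) (ke xe29 ye28 ze18) (ke xe11 ye32 ze26) (ke xe24 ye58 ze10) (ke xe25 ye57 ze3) (ke xe11 ye32 ze30)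 (ke xe19 ye9 ze44) (ke xe29 ye28 ze21) (ke xe11 ye32 ze31) (ke xe19 ye47 ze21) (ke xe26 ye19 ze55) (ke xe26 ye19 ze58) (ke xe28 ye13 ze9) (ke xe11 ye32 ze34) (ke xe29 ye28 ze27) (ke xe26 ye25 ze46) (ke xe26 ye24 ze50) (ke xe29 ye28 ze28) (ke xe11 ye32 ze36) (ke xe11 ye32 ze37) (ke xe26 ye25 ze17) (ke xe29 ye28 ze35) (ke xe24 ye46 ze35) (ke xe29 ye28 ze38) (ke xe11 ye32 ze39) (ke xe29 ye28 ze41) (ke xe26 ye24 ze0) (ke xe15 ye20 ze52) (ke xe29 ye28 ze42) (ke xe25 ye34 ze27) (ke xe29 ye28 ze44) (ke xe11 ye32 ze41) (ke xe24 ye9 ze16) (ke xe12 ye7 ze9) (ke xe23 ye45 ze20) (ke xe19 ye48 ze28) (ke xe11 ye32 ze46) (ke xe26 ye1 ze39) (ke xe16 ye47 ze56) (ke xe22 ye43 ze28) (ke xe16 ye5 ze37) (ke xe22 ye4 ze6) (ke xe11 ye32 ze50) (ke xe29 ye28 ze48) (ke xe11 ye32 ze51) (ke xe16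 ye47 ze11) (ke xe29 ye28 ze49) (ke xe11 ye32 ze58)) (@D3.rec (fun _ => Pt) (ke xe19 ye39 ze47) (ke xe20 ye18 ze45) (ke xe11 ye32 ze59) (ke xe26 ye48 ze54) (ke xe23 ye4 ze5) (ke xe11 ye32 ze61) (ke xe24 ye56 ze59) (ke xe11 ye33 ze1) (ke xe29 ye28 ze55) (ke xe17 ye18 ze32) (ke xe16 ye32 ze41) (ke xe28 ye18 ze16) (ke xe29 ye28 ze61) (ke xe11 ye33 ze3) (ke xe26 ye45 ze30) (ke xe22 ye17 ze36) (ke xe20 ye28 ze47) (ke xe29 ye29 ze2) (ke xe11 ye33 ze9) (ke xe26 ye49 ze36) (ke xe11 ye33 ze7) (ke xe11 ye33 ze8) (ke xe16 ye33 ze45) (ke xe27 ye58 ze23) (ke xe11 ye33 ze13) (ke xe20 ye18 ze49) (ke xe15 ye0 ze11) (ke xe26 ye55 ze37) (ke xe29 ye29 ze8) (ke xe11 ye33 ze15) (ke xe12 ye55 ze53) (ke xe19 ye40 ze35) (ke xe15 ye4 ze17) (ke xe29 ye2 ze28) (ke xe28 ye14 ze25) (ke xe15 ye56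 ze35) (ke xe20 ye20 ze32) (ke xe11 ye33 ze18) (ke xe29 ye6 ze43) (ke xe19 ye21 ze15) (ke xe17 ye18 ze35) (ke xe29 ye29 ze11) (ke xe18 ye58 ze41) (ke xe11 ye33 ze25) (ke xe27 ye39 ze22) (ke xe26 ye28 ze15) (ke xe29 ye29 ze12) (ke xe16 ye28 ze19) (ke xe24 ye31 ze39) (ke xe29 ye29 ze15) (ke xe12 ye44 ze56) (ke xe17 ye18 ze31) (ke xe26 ye55 ze38) (ke xe14 ye59 ze58) (ke xe27 ye0 ze55) (ke xe27 ye57 ze37) (ke xe11 ye33 ze37) (ke xe26 ye20 ze43) (ke xe13 ye47 ze54) (ke xe11 ye33 ze41) (ke xe25 ye16 ze9) (ke xe28 ye26 ze4)) (@D3.rec (fun _ => Pt) (ke xe12 ye9 ze40) (ke xe26 ye57 ze38) (ke xe20 ye9 ze3) (ke xe14 ye15 ze48) (ke xe24 ye5 ze33) (ke xe11 ye33 ze43) (ke xe23 ye17 ze44) (ke xe11 ye33 ze45) (ke xe29 ye29 ze24) (ke xe11 ye33 ze46) (ke xe21 ye10 ze24) (ke xe29 ye29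 ze25) (ke xe14 ye52 ze31) (ke xe24 ye47 ze2) (ke xe26 ye56 ze4) (ke xe11 ye33 ze55) (ke xe11 ye33 ze56) (ke xe29 ye29 ze29) (ke xe16 ye52 ze1) (ke xe27 ye2 ze28) (ke xe16 ye32 ze37) (ke xe28 ye28 ze17) (ke xe11 ye33 ze58) (ke xe13 ye39 ze43) (ke xe11 ye34 ze1) (ke xe20 ye8 ze2) (ke xe11 ye33 ze61) (ke xe11 ye34 ze0) (ke xe29 ye29 ze38) (ke xe26 ye55 ze32) (ke xe26 ye49 ze47) (ke xe11 ye34 ze2) (ke xe29 ye8 ze7) (ke xe26 ye53 ze4) (ke xe17 ye23 ze25) (ke xe20 ye46 ze61) (ke xe29 ye29 ze39) (ke xe29 ye29 ze41) (ke xe24 ye31 ze16) (ke xe11 ye34 ze7) (ke xe29 ye29 ze43) (ke xe13 ye51 ze24) (ke xe11 ye34 ze8) (ke xe29 ye29 ze45) (ke xe17 ye14 ze59) (ke xe23 ye52 ze28) (ke xe22 ye32 ze7) (ke xe26 ye51 ze34) (ke xe14 ye30 ze11) (ke xe21 ye13 ze32) (ke xe11 ye34 ze13) (ke xe21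 ye15 ze24) (ke xe11 ye34 ze19) (ke xe11 ye34 ze17) (ke xe11 ye34 ze18) (ke xe12 ye54 ze2) (ke xe25 ye40 ze30) (ke xe17 ye15 ze18) (ke xe26 ye10 ze24) (ke xe26 ye27 ze9) (ke xe20 ye47 ze52) (ke xe11 ye34 ze22)) (@D3.rec (fun _ => Pt) (ke xe29 ye29 ze53) (ke xe23 ye20 ze19) (ke xe16 ye23 ze7) (ke xe15 ye10 ze12) (ke xe11 ye34 ze25) (ke xe11 ye34 ze26) (ke xe24 ye59 ze12) (ke xe11 ye34 ze27) (ke xe23 ye14 ze42) (ke xe29 ye19 ze6) (ke xe17 ye15 ze13) (ke xe18 ye23 ze54) (ke xe16 ye35 ze13) (ke xe11 ye34 ze29) (ke xe29 ye29 ze59) (ke xe12 ye7 ze29) (ke xe11 ye34 ze30) (ke xe29 ye29 ze60) (ke xe22 ye31 ze47) (ke xe29 ye29 ze61) (ke xe11 ye34 ze32) (ke xe29 ye30 ze0) (ke xe11 ye34 ze33) (ke xe23 ye32 ze37) (ke xe11 ye34 ze34) (ke xe29 ye30 ze4) (ke xe24 ye59 ze10) (ke xe22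 ye54 ze15) (ke xe11 ye34 ze35) (ke xe29 ye30 ze6) (ke xe22 ye42 ze9) (ke xe22 ye42 ze14) (ke xe22 ye48 ze7) (ke xe28 ye45 ze54) (ke xe13 ye47 ze50) (ke xe22 ye17 ze46) (ke xe11 ye34 ze39) (ke xe23 ye20 ze2) (ke xe11 ye34 ze40) (ke xe13 ye46 ze47) (ke xe29 ye30 ze8) (ke xe18 ye23 ze46) (ke xe25 ye18 ze15) (ke xe28 ye26 ze23) (ke xe11 ye34 ze42) (ke xe24 ye5 ze26) (ke xe18 ye38 ze61) (ke xe17 ye9 ze23) (ke xe19 ye48 ze7) (ke xe26 ye23 ze4) (ke xe20 ye18 ze29) (ke xe23 ye9 ze61) (ke xe11 ye34 ze45) (ke xe11 ye34 ze46) (ke xe29 ye30 ze9) (ke xe23 ye20 ze39) (ke xe11 ye34 ze49) (ke xe11 ye34 ze52) (ke xe11 ye34 ze55) (ke xe16 ye53 ze49) (ke xe19 ye47 ze25) (ke xe17 ye6 ze18)) (@D3.rec (fun _ => Pt) (ke xe11 ye35 ze0) (ke xe14 ye35 ze4) (ke xe27 ye59 ze59) (ke xe11 ye35 ze35)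 (ke xe12 ye49 ze61) (ke xe18 ye24 ze35) (ke xe29 ye29 ze42) (ke xe11 ye35 ze10) (ke xe28 ye28 ze5) (ke xe11 ye35 ze11) (ke xe21 ye2 ze38) (ke xe29 ye30 ze15) (ke xe28 ye27 ze7) (ke xe22 ye32 ze1) (ke xe29 ye30 ze16) (ke xe26 ye56 ze14) (ke xe11 ye35 ze15) (ke xe17 ye22 ze41) (ke xe14 ye19 ze51) (ke xe29 ye30 ze17) (ke xe17 ye24 ze0) (ke xe11 ye35 ze20) (ke xe12 ye10 ze14) (ke xe11 ye35 ze21) (ke xe29 ye30 ze25) (ke xe11 ye35 ze22) (ke xe23 ye19 ze22) (ke xe11 ye35 ze23) (ke xe28 ye28 ze9) (ke xe29 ye7 ze42) (ke xe13 ye34 ze18) (ke xe11 ye35 ze25) (ke xe12 ye45 ze21) (ke xe29 ye30 ze27) (ke xe29 ye30 ze29) (ke xe14 ye4 ze40) (ke xe11 ye35 ze30) (ke xe14 ye26 ze6) (ke xe11 ye35 ze32) (ke xe29 ye30 ze30) (ke xe11 ye35 ze33) (ke xe14 ye29 ze52) (ke xe28 ye56 ze18) (ke xe24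 ye25 ze7) (ke xe14 ye18 ze46) (ke xe17 ye17 ze2) (ke xe29 ye6 ze42) (ke xe11 ye35 ze37) (ke xe14 ye19 ze46) (ke xe14 ye43 ze18) (ke xe11 ye35 ze41) (ke xe29 ye30 ze35) (ke xe14 ye23 ze12) (ke xe29 ye30 ze36) (ke xe29 ye30 ze38) (ke xe11 ye35 ze43) (ke xe25 ye56 ze5) (ke xe29 ye30 ze43) (ke xe29 ye30 ze45) (ke xe25 ye56 ze4) (ke xe11 ye35 ze46) (ke xe11 ye35 ze47)) (@D3.rec (fun _ => Pt) (ke xe11 ye35 ze48) (ke xe16 ye26 ze22) (ke xe11 ye35 ze49) (ke xe17 ye0 ze43) (ke xe29 ye30 ze50) (ke xe11 ye35 ze51) (ke xe24 ye36 ze20) (ke xe29 ye30 ze51) (ke xe24 ye18 ze22) (ke xe11 ye35 ze53) (ke xe14 ye19 ze44) (ke xe11 ye35 ze54) (ke xe26 ye58 ze26) (ke xe11 ye36 ze5) (ke xe11 ye36 ze7) (ke xe29 ye30 ze53) (ke xe11 ye36 ze8) (ke xe12 ye35 ze15) (ke xe18 ye57 ze34) (ke xe21 ye3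 ze47) (ke xe20 ye40 ze61) (ke xe11 ye36 ze10) (ke xe27 ye6 ze32) (ke xe29 ye30 ze55) (ke xe11 ye40 ze38) (ke xe17 ye13 ze28) (ke xe18 ye57 ze41) (ke xe11 ye36 ze13) (ke xe11 ye36 ze18) (ke xe18 ye2 ze14) (ke xe11 ye36 ze20) (ke xe11 ye36 ze21) (ke xe29 ye30 ze57) (ke xe23 ye23 ze41) (ke xe17 ye8 ze2) (ke xe21 ye54 ze32) (ke xe18 ye59 ze58) (ke xe11 ye36 ze23) (ke xe21 ye50 ze48) (ke xe11 ye36 ze28) (ke xe22 ye56 ze49) (ke xe15 ye25 ze16) (ke xe15 ye24 ze49) (ke xe29 ye19 ze10) (ke xe18 ye19 ze35) (ke xe16 ye48 ze25) (ke xe16 ye48 ze33) (ke xe26 ye25 ze61) (ke xe11 ye36 ze33) (ke xe29 ye27 ze8) (ke xe27 ye11 ze45) (ke xe11 ye36 ze36) (ke xe26 ye26 ze58) (ke xe11 ye36 ze37) (ke xe12 ye59 ze23) (ke xe28 ye0 ze60) (ke xe25 ye38 ze59) (ke xe11 ye36 ze41) (ke xe13 ye13 ze40)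 (ke xe26 ye55 ze10) (ke xe23 ye5 ze27) (ke xe11 ye36 ze46)) (@D3.rec (fun _ => Pt) (ke xe12 ye45 ze41) (ke xe26 ye17 ze39) (ke xe11 ye36 ze47) (ke xe29 ye14 ze51) (ke xe11 ye36 ze54) (ke xe27 ye0 ze2) (ke xe29 ye31 ze8) (ke xe28 ye50 ze33) (ke xe29 ye31 ze11) (ke xe11 ye36 ze52) (ke xe14 ye18 ze25) (ke xe28 ye17 ze9) (ke xe13 ye10 ze10) (ke xe25 ye35 ze59) (ke xe29 ye31 ze18) (ke xe19 ye57 ze27) (ke xe11 ye36 ze56) (ke xe24 ye32 ze46) (ke xe18 ye10 ze26) (ke xe27 ye37 ze48) (ke xe11 ye36 ze58) (ke xe11 ye56 ze20) (ke xe21 ye28 ze59) (ke xe16 ye36 ze24) (ke xe26 ye42 ze19) (ke xe12 ye54 ze11) (ke xe26 ye34 ze49) (ke xe12 ye54 ze13) (ke xe11 ye37 ze8) (ke xe29 ye31 ze22) (ke xe27 ye0 ze8) (ke xe26 ye37 ze25) (ke xe29 ye10 ze42) (ke xe29 ye31 ze24) (ke xe20 ye55 ze45)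 (ke xe29 ye31 ze28) (ke xe26 ye34 ze44) (ke xe26 ye40 ze24) (ke xe26 ye37 ze36) (ke xe25 ye7 ze53) (ke xe29 ye31 ze34) (ke xe20 ye57 ze32) (ke xe29 ye31 ze36) (ke xe22 ye26 ze1) (ke xe11 ye37 ze9) (ke xe29 ye31 ze39) (ke xe20 ye0 ze28) (ke xe23 ye10 ze42) (ke xe11 ye37 ze13) (ke xe19 ye1 ze23) (ke xe11 ye37 ze16) (ke xe17 ye54 ze61) (ke xe15 ye25 ze40) (ke xe18 ye41 ze27) (ke xe26 ye58 ze16) (ke xe13 ye33 ze41) (ke xe25 ye18 ze9) (ke xe26 ye58 ze14) (ke xe11 ye37 ze26) (ke xe29 ye31 ze45) (ke xe28 ye26 ze41) (ke xe16 ye34 ze50)) (@D3.rec (fun _ => Pt) (ke xe11 ye37 ze34) (ke xe11 ye50 ze3) (ke xe27 ye0 ze57) (ke xe18 ye57 ze29) (ke xe11 ye57 ze46) (ke xe11 ye37 ze36) (ke xe29 ye22 ze20) (ke xe14 ye56 ze55) (ke xe11 ye37 ze37) (ke xe23 ye14 ze23) (ke xe16 ye23 ze50)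 (ke xe16 ye34 ze54) (ke xe11 ye37 ze42) (ke xe12 ye53 ze4) (ke xe21 ye17 ze49) (ke xe16 ye28 ze29) (ke xe11 ye37 ze48) (ke xe11 ye37 ze46) (ke xe11 ye37 ze47) (ke xe21 ye31 ze26) (ke xe21 ye45 ze40) (ke xe25 ye31 ze7) (ke xe25 ye45 ze48) (ke xe11 ye59 ze24) (ke xe29 ye31 ze54) (ke xe11 ye37 ze51) (ke xe29 ye31 ze56) (ke xe18 ye19 ze54) (ke xe14 ye18 ze20) (ke xe26 ye23 ze3) (ke xe11 ye37 ze54) (ke xe29 ye19 ze57) (ke xe11 ye37 ze55) (ke xe26 ye23 ze2) (ke xe29 ye31 ze59) (ke xe13 ye38 ze51) (ke xe23 ye21 ze37) (ke xe14 ye27 ze7) (ke xe11 ye37 ze57) (ke xe28 ye28 ze23) (ke xe11 ye37 ze58) (ke xe21 ye40 ze9) (ke xe29 ye32 ze1) (ke xe29 ye32 ze3) (ke xe28 ye33 ze21) (ke xe11 ye37 ze60) (ke xe11 ye37 ze61) (ke xe11 ye38 ze0) (ke xe28 ye35 ze52) (ke xe29 ye32 ze8) (ke xe29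 ye32 ze12) (ke xe29 ye32 ze15) (ke xe11 ye38 ze1) (ke xe29 ye32 ze20) (ke xe26 ye38 ze29) (ke xe11 ye38 ze3) (ke xe29 ye18 ze50) (ke xe29 ye32 ze22) (ke xe11 ye38 ze4) (ke xe23 ye10 ze35) (ke xe29 ye32 ze23) (ke xe11 ye38 ze6)) (@D3.rec (fun _ => Pt) (ke xe27 ye24 ze24) (ke xe29 ye31 ze61) (ke xe14 ye27 ze52) (ke xe29 ye32 ze25) (ke xe11 ye38 ze7) (ke xe26 ye57 ze34) (ke xe28 ye0 ze9) (ke xe13 ye43 ze50) (ke xe11 ye38 ze10) (ke xe14 ye27 ze39) (ke xe22 ye27 ze19) (ke xe11 ye38 ze11) (ke xe19 ye0 ze60) (ke xe21 ye40 ze10) (ke xe29 ye31 ze12) (ke xe28 ye39 ze15) (ke xe11 ye38 ze13) (ke xe23 ye57 ze40) (ke xe13 ye11 ze21) (ke xe11 ye38 ze14) (ke xe24 ye0 ze48) (ke xe22 ye59 ze54) (ke xe29 ye32 ze33) (ke xe29 ye32 ze34) (ke xe11 ye38 ze16) (ke xe11 ye38 ze17) (ke xe28 ye0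 ze11) (ke xe19 ye1 ze1) (ke xe15 ye38 ze31) (ke xe17 ye35 ze11) (ke xe25 ye55 ze0) (ke xe25 ye44 ze40) (ke xe26 ye46 ze27) (ke xe17 ye35 ze35) (ke xe22 ye16 ze13) (ke xe11 ye38 ze26) (ke xe17 ye59 ze25) (ke xe21 ye20 ze12) (ke xe12 ye47 ze5) (ke xe11 ye38 ze33) (ke xe12 ye27 ze52) (ke xe25 ye44 ze22) (ke xe25 ye17 ze3) (ke xe11 ye38 ze32) (ke xe29 ye32 ze43) (ke xe24 ye51 ze9) (ke xe29 ye32 ze47) (ke xe11 ye38 ze35) (ke xe17 ye11 ze41) (ke xe25 ye20 ze43) (ke xe21 ye38 ze42) (ke xe20 ye15 ze34) (ke xe21 ye21 ze10) (ke xe17 ye29 ze27) (ke xe28 ye33 ze16) (ke xe21 ye43 ze9) (ke xe21 ye59 ze3) (ke xe12 ye28 ze16) (ke xe28 ye1 ze16) (ke xe27 ye43 ze22) (ke xe11 ye38 ze46) (ke xe16 ye41 ze22)) (@D3.rec (fun _ => Pt) (ke xe11 ye38 ze47) (ke xe18 ye11 ze6) (ke xe19 ye12 ze28)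 (ke xe12 ye27 ze58) (ke xe20 ye52 ze16) (ke xe28 ye6 ze45) (ke xe11 ye38 ze50) (ke xe19 ye43 ze45) (ke xe11 ye38 ze51) (ke xe20 ye49 ze17) (ke xe11 ye38 ze52) (ke xe22 ye52 ze7) (ke xe27 ye59 ze24) (ke xe18 ye39 ze26) (ke xe19 ye11 ze46) (ke xe11 ye38 ze57) (ke xe12 ye42 ze42) (ke xe20 ye52 ze26) (ke xe29 ye32 ze56) (ke xe11 ye38 ze59) (ke xe16 ye39 ze4) (ke xe26 ye52 ze20) (ke xe16 ye39 ze45) (ke xe29 ye25 ze53) (ke xe16 ye48 ze15) (ke xe18 ye32 ze4) (ke xe11 ye39 ze4) (ke xe24 ye53 ze42) (ke xe11 ye39 ze5) (ke xe12 ye43 ze6) (ke xe25 ye25 ze29) (ke xe16 ye40 ze5) (ke xe29 ye33 ze3) (ke xe11 ye39 ze7) (ke xe29 ye33 ze5) (ke xe11 ye39 ze27) (ke xe11 ye39 ze9) (ke xe20 ye55 ze61) (ke xe29 ye33 ze9) (ke xe29 ye10 ze55) (ke xe28 ye55 ze53) (ke xe11 ye39 ze13) (ke xe17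 ye34 ze28) (ke xe29 ye5 ze54) (ke xe29 ye25 ze56) (ke xe29 ye26 ze24) (ke xe11 ye39 ze15) (ke xe29 ye25 ze57) (ke xe11 ye39 ze16) (ke xe22 ye49 ze24) (ke xe11 ye39 ze18) (ke xe16 ye44 ze57) (ke xe11 ye39 ze19) (ke xe26 ye26 ze18) (ke xe16 ye40 ze7) (ke xe25 ye55 ze8) (ke xe29 ye33 ze19) (ke xe29 ye33 ze22) (ke xe11 ye39 ze21) (ke xe11 ye39 ze22) (ke xe16 ye39 ze3) (ke xe16 ye48 ze31)) (@D3.rec (fun _ => Pt) (ke xe29 ye33 ze27) (ke xe11 ye56 ze25) (ke xe16 ye41 ze36) (ke xe29 ye33 ze38) (ke xe11 ye39 ze26) (ke xe28 ye44 ze28) (ke xe16 ye38 ze57) (ke xe26 ye59 ze32) (ke xe27 ye44 ze48) (ke xe29 ye33 ze43) (ke xe11 ye39 ze28) (ke xe29 ye33 ze45) (ke xe29 ye33 ze47) (ke xe11 ye39 ze29) (ke xe19 ye24 ze20) (ke xe16 ye37 ze60) (ke xe28 ye44 ze22) (ke xe25 ye7 ze57) (ke xe29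 ye33 ze51) (ke xe11 ye39 ze33) (ke xe26 ye36 ze33) (ke xe16 ye41 ze54) (ke xe29 ye33 ze58) (ke xe11 ye39 ze35) (ke xe11 ye39 ze36) (ke xe29 ye33 ze60) (ke xe29 ye33 ze61) (ke xe11 ye39 ze37) (ke xe26 ye38 ze28) (ke xe20 ye58 ze22) (ke xe29 ye34 ze3) (ke xe28 ye54 ze12) (ke xe29 ye34 ze7) (ke xe11 ye39 ze40) (ke xe29 ye34 ze13) (ke xe11 ye39 ze41) (ke xe29 ye34 ze18) (ke xe11 ye39 ze42) (ke xe29 ye34 ze25) (ke xe11 ye39 ze43) (ke xe29 ye34 ze29) (ke xe22 ye24 ze58) (ke xe29 ye34 ze31) (ke xe11 ye39 ze45) (ke xe16 ye41 ze45) (ke xe28 ye54 ze15) (ke xe20 ye53 ze61) (ke xe15 ye48 ze34) (ke xe28 ye54 ze55) (ke xe12 ye49 ze55) (ke xe24 ye44 ze20) (ke xe11 ye39 ze50) (ke xe29 ye34 ze39) (ke xe29 ye34 ze40) (ke xe22 ye40 ze15) (ke xe11 ye39 ze52) (ke xe11 ye40 ze53) (ke xe20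 ye48 ze1) (ke xe11 ye40 ze58) (ke xe19 ye26 ze56) (ke xe27 ye4 ze50) (ke xe12 ye27 ze24)) (@D3.rec (fun _ => Pt) (ke xe11 ye39 ze58) (ke xe21 ye59 ze43) (ke xe19 ye26 ze37) (ke xe25 ye14 ze21) (ke xe21 ye35 ze57) (ke xe29 ye34 ze45) (ke xe14 ye8 ze12) (ke xe29 ye34 ze47) (ke xe20 ye15 ze22) (ke xe25 ye40 ze38) (ke xe15 ye37 ze18) (ke xe29 ye34 ze50) (ke xe25 ye26 ze15) (ke xe25 ye56 ze6) (ke xe11 ye40 ze8) (ke xe16 ye55 ze3) (ke xe11 ye41 ze8) (ke xe11 ye40 ze14) (ke xe11 ye40 ze15) (ke xe29 ye34 ze55) (ke xe21 ye54 ze55) (ke xe18 ye0 ze35) (ke xe21 ye37 ze25) (ke xe18 ye25 ze52) (ke xe11 ye40 ze61) (ke xe21 ye42 ze34) (ke xe20 ye16 ze52) (ke xe11 ye40 ze28) (ke xe11 ye40 ze29) (ke xe20 ye16 ze50) (ke xe11 ye40 ze34) (ke xe11 ye40 ze36) (ke xe29 ye34 ze57) (ke xe21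 ye3 ze6) (ke xe12 ye33 ze58) (ke xe27 ye7 ze24) (ke xe26 ye50 ze43) (ke xe18 ye57 ze30) (ke xe28 ye16 ze22) (ke xe11 ye40 ze54) (ke xe20 ye46 ze42) (ke xe29 ye17 ze51) (ke xe19 ye2 ze56) (ke xe29 ye34 ze43) (ke xe11 ye41 ze0) (ke xe11 ye41 ze1) (ke xe24 ye7 ze6) (ke xe29 ye35 ze2) (ke xe29 ye35 ze4) (ke xe29 ye35 ze5) (ke xe11 ye41 ze4) (ke xe29 ye35 ze6) (ke xe11 ye41 ze7) (ke xe26 ye27 ze38) (ke xe29 ye9 ze8) (ke xe29 ye19 ze1) (ke xe23 ye33 ze37) (ke xe11 ye41 ze9) (ke xe11 ye41 ze10) (ke xe28 ye1 ze31) (ke xe11 ye41 ze11) (ke xe20 ye34 ze20)) (@D3.rec (fun _ => Pt) (ke xe15 ye26 ze53) (ke xe26 ye48 ze61) (ke xe11 ye41 ze14) (ke xe12 ye38 ze55) (ke xe19 ye28 ze9) (ke xe11 ye41 ze16) (ke xe13 ye39 ze7) (ke xe29 ye7 ze44) (ke xe24 ye20 ze17) (ke xe11 ye41 ze19) (ke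 xe22 ye37 ze33) (ke xe20 ye47 ze59) (ke xe11 ye41 ze21) (ke xe11 ye43 ze61) (ke xe24 ye30 ze31) (ke xe23 ye36 ze33) (ke xe11 ye44 ze0) (ke xe11 ye41 ze24) (ke xe29 ye35 ze13) (ke xe28 ye18 ze6) (ke xe11 ye41 ze28) (ke xe24 ye7 ze4) (ke xe29 ye35 ze21) (ke xe11 ye41 ze26) (ke xe13 ye4 ze7) (ke xe29 ye35 ze23) (ke xe21 ye47 ze40) (ke xe29 ye35 ze17) (ke xe26 ye46 ze55) (ke xe21 ye2 ze5) (ke xe11 ye41 ze35) (ke xe13 ye32 ze45) (ke xe21 ye21 ze5) (ke xe19 ye26 ze0) (ke xe25 ye50 ze40) (ke xe28 ye57 ze16) (ke xe19 ye36 ze12) (ke xe24 ye39 ze4) (ke xe19 ye50 ze27) (ke xe12 ye55 ze24) (ke xe11 ye41 ze42) (ke xe26 ye59 ze18) (ke xe29 ye35 ze31) (ke xe29 ye35 ze37) (ke xe11 ye41 ze43) (ke xe11 ye41 ze44) (ke xe11 ye41 ze45) (ke xe29 ye35 ze40) (ke xe27 ye59 ze47) (ke xe29 ye35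 ze39) (ke xe11 ye41 ze50) (ke xe13 ye16 ze53) (ke xe29 ye35 ze47) (ke xe28 ye43 ze25) (ke xe11 ye41 ze49) (ke xe29 ye35 ze50) (ke xe19 ye12 ze32) (ke xe29 ye24 ze46) (ke xe29 ye35 ze54) (ke xe20 ye5 ze0) (ke xe19 ye49 ze18) (ke xe20 ye49 ze19)) (@D3.rec (fun _ => Pt) (ke xe11 ye41 ze57) (ke xe19 ye58 ze37) (ke xe15 ye28 ze20) (ke xe11 ye42 ze1) (ke xe29 ye15 ze12) (ke xe29 ye36 ze4) (ke xe11 ye41 ze60) (ke xe29 ye36 ze6) (ke xe25 ye33 ze53) (ke xe27 ye30 ze5) (ke xe29 ye35 ze60) (ke xe29 ye36 ze13) (ke xe29 ye36 ze15) (ke xe29 ye36 ze17) (ke xe29 ye36 ze18) (ke xe11 ye42 ze2) (ke xe11 ye42 ze3) (ke xe27 ye21 ze61) (ke xe11 ye42 ze5) (ke xe11 ye42 ze6) (ke xe11 ye42 ze7) (ke xe29 ye36 ze20) (ke xe23 ye36 ze10) (ke xe12 ye20 ze26) (ke xe17 ye45 ze0) (ke xe18 ye26 ze11)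 (ke xe12 ye17 ze17) (ke xe11 ye42 ze12) (ke xe20 ye50 ze8) (ke xe22 ye11 ze24) (ke xe12 ye17 ze22) (ke xe17 ye32 ze7) (ke xe11 ye42 ze21) (ke xe29 ye0 ze45) (ke xe29 ye36 ze24) (ke xe29 ye36 ze25) (ke xe19 ye36 ze43) (ke xe24 ye16 ze54) (ke xe11 ye42 ze22) (ke xe24 ye53 ze34) (ke xe20 ye59 ze47) (ke xe11 ye42 ze26) (ke xe29 ye36 ze29) (ke xe11 ye42 ze25) (ke xe29 ye36 ze31) (ke xe23 ye58 ze35) (ke xe12 ye3 ze59) (ke xe12 ye3 ze61) (ke xe29 ye36 ze37) (ke xe11 ye42 ze27) (ke xe17 ye54 ze59) (ke xe29 ye36 ze39) (ke xe20 ye43 ze7) (ke xe29 ye36 ze43) (ke xe11 ye42 ze39) (ke xe13 ye12 ze48) (ke xe11 ye42 ze31) (ke xe22 ye14 ze30) (ke xe29 ye36 ze47) (ke xe29 ye36 ze50) (ke xe11 ye42 ze32) (ke xe20 ye48 ze54)) (@D3.rec (fun _ => Pt) (ke xe29 ye36 ze54) (ke xe11 ye42 ze34)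 (ke xe13 ye2 ze60) (ke xe11 ye42 ze35) (ke xe29 ye36 ze56) (ke xe11 ye42 ze37) (ke xe29 ye36 ze59) (ke xe20 ye42 ze52) (ke xe11 ye42 ze38) (ke xe28 ye16 ze29) (ke xe27 ye12 ze43) (ke xe29 ye36 ze44) (ke xe25 ye47 ze15) (ke xe22 ye12 ze43) (ke xe29 ye37 ze7) (ke xe11 ye42 ze41) (ke xe13 ye2 ze55) (ke xe11 ye42 ze42) (ke xe25 ye49 ze44) (ke xe25 ye24 ze44) (ke xe15 ye52 ze34) (ke xe24 ye38 ze53) (ke xe25 ye14 ze7) (ke xe26 ye43 ze40) (ke xe22 ye6 ze18) (ke xe11 ye43 ze5) (ke xe15 ye40 ze4) (ke xe15 ye34 ze14) (ke xe13 ye36 ze26) (ke xe29 ye37 ze14) (ke xe29 ye37 ze15) (ke xe11 ye42 ze49) (ke xe15 ye34 ze11) (ke xe11 ye42 ze50) (ke xe11 ye42 ze52) (ke xe11 ye42 ze53) (ke xe27 ye42 ze40) (ke xe19 ye49 ze35) (ke xe29 ye34 ze53) (ke xe11 ye56 ze12) (ke xe19 ye37 ze45) (ke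 xe11 ye42 ze55) (ke xe19 ye49 ze39) (ke xe11 ye42 ze59) (ke xe29 ye37 ze10) (ke xe25 ye15 ze21) (ke xe27 ye21 ze45) (ke xe17 ye29 ze16) (ke xe25 ye5 ze21) (ke xe24 ye39 ze2) (ke xe11 ye43 ze3) (ke xe26 ye4 ze56) (ke xe28 ye48 ze21) (ke xe13 ye28 ze32) (ke xe12 ye56 ze57) (ke xe25 ye26 ze45) (ke xe15 ye40 ze8) (ke xe11 ye43 ze7) (ke xe29 ye6 ze32) (ke xe11 ye43 ze8) (ke xe25 ye36 ze32) (ke xe11 ye43 ze9)) (@D3.rec (fun _ => Pt) (ke xe23 ye5 ze19) (ke xe28 ye30 ze57) (ke xe15 ye39 ze61) (ke xe11 ye43 ze12) (ke xe29 ye17 ze50) (ke xe15 ye40 ze0) (ke xe25 ye14 ze17) (ke xe11 ye43 ze15) (ke xe29 ye19 ze44) (ke xe28 ye14 ze37) (ke xe11 ye43 ze19) (ke xe27 ye9 ze26) (ke xe28 ye30 ze0) (ke xe12 ye33 ze7) (ke xe13 ye9 ze51) (ke xe20 ye48 ze28) (ke xe29 ye33 ze42) (ke xe29 ye37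 ze55) (ke xe29 ye32 ze29) (ke xe29 ye38 ze4) (ke xe11 ye43 ze21) (ke xe22 ye32 ze44) (ke xe22 ye25 ze30) (ke xe13 ye11 ze36) (ke xe29 ye38 ze8) (ke xe11 ye43 ze29) (ke xe24 ye25 ze57) (ke xe21 ye11 ze14) (ke xe29 ye38 ze11) (ke xe11 ye43 ze26) (ke xe20 ye48 ze26) (ke xe20 ye17 ze18) (ke xe13 ye13 ze21) (ke xe11 ye43 ze28) (ke xe20 ye48 ze25) (ke xe18 ye49 ze7) (ke xe11 ye43 ze30) (ke xe26 ye44 ze9) (ke xe24 ye46 ze4) (ke xe11 ye43 ze31) (ke xe20 ye8 ze31) (ke xe11 ye44 ze32) (ke xe11 ye47 ze18) (ke xe14 ye16 ze14) (ke xe14 ye16 ze11) (ke xe24 ye11 ze32) (ke xe22 ye25 ze42) (ke xe11 ye43 ze35) (ke xe23 ye9 ze44) (ke xe29 ye9 ze5) (ke xe16 ye24 ze33) (ke xe12 ye41 ze8) (ke xe18 ye16 ze0) (ke xe12 ye51 ze33) (ke xe13 ye53 ze57) (ke xe18 ye35 ze2) (ke xe25 ye47 ze13) (ke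 xe11 ye43 ze47) (ke xe26 ye11 ze10) (ke xe22 ye36 ze44) (ke xe27 ye54 ze24) (ke xe11 ye43 ze51)) (@D3.rec (fun _ => Pt) (ke xe18 ye0 ze30) (ke xe18 ye42 ze54) (ke xe13 ye9 ze27) (ke xe27 ye29 ze26) (ke xe20 ye46 ze11) (ke xe21 ye21 ze26) (ke xe20 ye19 ze31) (ke xe11 ye43 ze59) (ke xe23 ye1 ze37) (ke xe22 ye26 ze37) (ke xe18 ye15 ze60) (ke xe16 ye24 ze43) (ke xe11 ye44 ze3) (ke xe21 ye44 ze41) (ke xe26 ye23 ze32) (ke xe21 ye22 ze10) (ke xe23 ye48 ze31) (ke xe29 ye38 ze26) (ke xe11 ye44 ze9) (ke xe26 ye23 ze35) (ke xe22 ye15 ze52) (ke xe14 ye16 ze48) (ke xe18 ye21 ze54) (ke xe24 ye21 ze46) (ke xe13 ye30 ze44) (ke xe26 ye17 ze12) (ke xe29 ye7 ze60) (ke xe15 ye4 ze15) (ke xe29 ye38 ze32) (ke xe13 ye53 ze34) (ke xe20 ye25 ze60) (ke xe29 ye38 ze35) (ke xe21 ye47 ze7) (ke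 xe22 ye18 ze45) (ke xe11 ye44 ze13) (ke xe20 ye16 ze32) (ke xe11 ye44 ze14) (ke xe29 ye38 ze40) (ke xe23 ye21 ze61) (ke xe20 ye17 ze15) (ke xe11 ye44 ze19) (ke xe29 ye38 ze42) (ke xe11 ye44 ze20) (ke xe29 ye38 ze43) (ke xe27 ye50 ze29) (ke xe20 ye4 ze17) (ke xe27 ye40 ze4) (ke xe24 ye59 ze4) (ke xe11 ye44 ze22) (ke xe28 ye0 ze61) (ke xe20 ye19 ze45) (ke xe11 ye44 ze23) (ke xe13 ye27 ze8) (ke xe11 ye44 ze28) (ke xe28 ye10 ze61) (ke xe13 ye11 ze7) (ke xe11 ye44 ze34) (ke xe11 ye44 ze35) (ke xe11 ye44 ze36) (ke xe29 ye30 ze18) (ke xe17 ye22 ze45) (ke xe14 ye30 ze36)) (@D3.rec (fun _ => Pt) (ke xe20 ye24 ze3) (ke xe14 ye30 ze37) (ke xe20 ye14 ze48) (ke xe12 ye9 ze2) (ke xe29 ye30 ze23) (ke xe24 ye4 ze6) (ke xe11 ye44 ze48) (ke xe26 ye52 ze4) (ke xe28 ye9 ze21) (ke xe24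 ye34 ze54) (ke xe11 ye44 ze52) (ke xe20 ye45 ze4) (ke xe29 ye38 ze58) (ke xe21 ye47 ze39) (ke xe11 ye44 ze56) (ke xe13 ye18 ze30) (ke xe14 ye13 ze52) (ke xe29 ye38 ze60) (ke xe29 ye38 ze61) (ke xe11 ye44 ze60) (ke xe29 ye39 ze1) (ke xe25 ye12 ze27) (ke xe11 ye45 ze2) (ke xe21 ye43 ze61) (ke xe23 ye13 ze17) (ke xe28 ye42 ze5) (ke xe11 ye45 ze8) (ke xe20 ye12 ze55) (ke xe11 ye46 ze44) (ke xe18 ye15 ze16) (ke xe12 ye36 ze35) (ke xe11 ye45 ze14) (ke xe12 ye2 ze59) (ke xe14 ye28 ze9) (ke xe11 ye45 ze21) (ke xe11 ye45 ze22) (ke xe11 ye45 ze23) (ke xe29 ye39 ze7) (ke xe24 ye27 ze61) (ke xe13 ye21 ze48) (ke xe11 ye45 ze26) (ke xe17 ye11 ze14) (ke xe20 ye40 ze40) (ke xe26 ye6 ze2) (ke xe11 ye45 ze28) (ke xe11 ye45 ze29) (ke xe29 ye39 ze14) (ke xe11 ye45 ze31) (ke xe11 ye45 ze32)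 (ke xe22 ye8 ze54) (ke xe29 ye39 ze15) (ke xe28 ye15 ze21) (ke xe17 ye43 ze39) (ke xe29 ye39 ze18) (ke xe11 ye45 ze34) (ke xe11 ye45 ze35) (ke xe27 ye10 ze34) (ke xe29 ye29 ze27) (ke xe13 ye16 ze45) (ke xe29 ye39 ze19) (ke xe11 ye45 ze43) (ke xe20 ye31 ze35)) (@D3.rec (fun _ => Pt) (ke xe29 ye39 ze22) (ke xe29 ye8 ze29) (ke xe11 ye45 ze41) (ke xe29 ye39 ze24) (ke xe19 ye33 ze25) (ke xe29 ye39 ze20) (ke xe28 ye45 ze47) (ke xe29 ye39 ze26) (ke xe11 ye45 ze46) (ke xe29 ye39 ze27) (ke xe11 ye45 ze50) (ke xe28 ye15 ze24) (ke xe28 ye36 ze38) (ke xe27 ye27 ze35) (ke xe11 ye45 ze51) (ke xe29 ye39 ze30) (ke xe29 ye25 ze33) (ke xe29 ye39 ze33) (ke xe11 ye45 ze53) (ke xe29 ye35 ze24) (ke xe28 ye16 ze20) (ke xe27 ye2 ze29) (ke xe13 ye2 ze57) (ke xe26 ye49 ze28) (ke xe29 ye39 ze36)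 (ke xe11 ye45 ze61) (ke xe29 ye32 ze49) (ke xe17 ye30 ze34) (ke xe18 ye12 ze43) (ke xe19 ye11 ze0) (ke xe22 ye37 ze19) (ke xe29 ye39 ze38) (ke xe19 ye16 ze47) (ke xe11 ye46 ze2) (ke xe14 ye57 ze4) (ke xe11 ye46 ze3) (ke xe13 ye12 ze3) (ke xe29 ye39 ze43) (ke xe11 ye46 ze4) (ke xe15 ye55 ze58) (ke xe22 ye47 ze38) (ke xe22 ye36 ze57) (ke xe20 ye52 ze12) (ke xe14 ye10 ze28) (ke xe11 ye46 ze6) (ke xe14 ye10 ze38) (ke xe11 ye46 ze7) (ke xe22 ye24 ze20) (ke xe13 ye7 ze44) (ke xe29 ye39 ze11) (ke xe26 ye57 ze0) (ke xe29 ye39 ze54) (ke xe20 ye31 ze60) (ke xe11 ye46 ze10) (ke xe20 ye48 ze35) (ke xe11 ye46 ze35) (ke xe13 ye4 ze41) (ke xe29 ye39 ze57) (ke xe11 ye46 ze12) (ke xe20 ye41 ze11) (ke xe20 ye9 ze17) (ke xe11 ye46 ze15)) (@D3.rec (fun _ => Pt) (ke xe22 ye19 ze30) (ke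 xe20 ye39 ze57) (ke xe11 ye46 ze17) (ke xe13 ye4 ze2) (ke xe29 ye38 ze56) (ke xe11 ye46 ze18) (ke xe29 ye39 ze44) (ke xe22 ye26 ze2) (ke xe29 ye40 ze3) (ke xe22 ye19 ze19) (ke xe29 ye40 ze4) (ke xe13 ye7 ze23) (ke xe13 ye7 ze38) (ke xe22 ye26 ze33) (ke xe11 ye46 ze25) (ke xe29 ye40 ze10) (ke xe29 ye39 ze52) (ke xe22 ye0 ze55) (ke xe11 ye46 ze26) (ke xe14 ye30 ze6) (ke xe21 ye11 ze23) (ke xe11 ye46 ze29) (ke xe29 ye40 ze17) (ke xe11 ye46 ze30) (ke xe13 ye10 ze51) (ke xe20 ye44 ze34) (ke xe20 ye44 ze30) (ke xe14 ye40 ze48) (ke xe20 ye44 ze15) (ke xe29 ye40 ze32) (ke xe28 ye24 ze19) (ke xe26 ye34 ze4) (ke xe29 ye40 ze34) (ke xe11 ye46 ze36) (ke xe11 ye46 ze37) (ke xe20 ye47 ze54) (ke xe21 ye22 ze14) (ke xe14 ye36 ze27) (ke xe14 ye47 ze9) (ke xe14 ye36 ze48) (ke xe11 ye46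 ze40) (ke xe11 ye46 ze42) (ke xe29 ye40 ze39) (ke xe29 ye40 ze41) (ke xe11 ye46 ze47) (ke xe24 ye30 ze23) (ke xe29 ye40 ze42) (ke xe11 ye46 ze49) (ke xe22 ye19 ze39) (ke xe21 ye52 ze46) (ke xe29 ye40 ze48) (ke xe11 ye46 ze50) (ke xe26 ye57 ze14) (ke xe22 ye19 ze36) (ke xe20 ye42 ze61) (ke xe11 ye46 ze53) (ke xe29 ye40 ze54) (ke xe11 ye46 ze54) (ke xe29 ye40 ze58) (ke xe22 ye25 ze60) (ke xe11 ye46 ze57) (ke xe25 ye40 ze25)) (@D3.rec (fun _ => Pt) (ke xe23 ye9 ze41) (ke xe20 ye9 ze59) (ke xe12 ye55 ze55) (ke xe26 ye45 ze50) (ke xe11 ye50 ze57) (ke xe29 ye40 ze60) (ke xe11 ye47 ze0) (ke xe13 ye45 ze58) (ke xe12 ye56 ze10) (ke xe13 ye57 ze8) (ke xe12 ye53 ze41) (ke xe11 ye47 ze3) (ke xe15 ye5 ze18) (ke xe18 ye46 ze12) (ke xe25 ye18 ze27) (ke xe12 ye51 ze34) (ke xe19 ye18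 ze7) (ke xe20 ye38 ze9) (ke xe19 ye17 ze60) (ke xe20 ye41 ze61) (ke xe29 ye41 ze5) (ke xe24 ye21 ze48) (ke xe22 ye25 ze44) (ke xe22 ye19 ze57) (ke xe26 ye46 ze6) (ke xe12 ye47 ze15) (ke xe25 ye12 ze5) (ke xe25 ye8 ze32) (ke xe28 ye59 ze19) (ke xe29 ye41 ze10) (ke xe11 ye47 ze27) (ke xe29 ye41 ze13) (ke xe26 ye47 ze3) (ke xe26 ye41 ze60) (ke xe13 ye43 ze18) (ke xe20 ye28 ze39) (ke xe27 ye21 ze35) (ke xe21 ye3 ze2) (ke xe19 ye39 ze35) (ke xe26 ye5 ze5) (ke xe26 ye41 ze57) (ke xe29 ye41 ze18) (ke xe23 ye54 ze48) (ke xe11 ye47 ze33) (ke xe11 ye47 ze34) (ke xe21 ye36 ze58) (ke xe29 ye41 ze28) (ke xe29 ye23 ze40) (ke xe15 ye17 ze16) (ke xe29 ye41 ze30) (ke xe16 ye0 ze60) (ke xe11 ye47 ze39) (ke xe11 ye47 ze40) (ke xe16 ye49 ze7) (ke xe29 ye0 ze55) (ke xe16 ye15 ze5) (ke xe24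 ye16 ze2) (ke xe20 ye3 ze24) (ke xe29 ye41 ze37) (ke xe29 ye41 ze38) (ke xe11 ye47 ze44) (ke xe18 ye52 ze48)) (@D3.rec (fun _ => Pt) (ke xe29 ye41 ze40) (ke xe29 ye41 ze41) (ke xe29 ye41 ze45) (ke xe11 ye47 ze46) (ke xe11 ye47 ze47) (ke xe17 ye58 ze50) (ke xe29 ye41 ze48) (ke xe12 ye30 ze31) (ke xe20 ye42 ze28) (ke xe13 ye55 ze44) (ke xe29 ye41 ze54) (ke xe26 ye6 ze55) (ke xe29 ye41 ze55) (ke xe25 ye55 ze44) (ke xe11 ye47 ze52) (ke xe15 ye31 ze35) (ke xe25 ye26 ze4) (ke xe24 ye16 ze35) (ke xe19 ye51 ze5) (ke xe29 ye16 ze45) (ke xe11 ye47 ze56) (ke xe25 ye14 ze59) (ke xe17 ye5 ze29) (ke xe16 ye0 ze21) (ke xe11 ye47 ze58) (ke xe25 ye5 ze13) (ke xe27 ye37 ze52) (ke xe29 ye42 ze5) (ke xe11 ye47 ze59) (ke xe29 ye42 ze8) (ke xe24 ye5 ze43) (ke xe29 ye42 ze11) (ke xe18 ye53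 ze61) (ke xe11 ye47 ze61) (ke xe29 ye42 ze16) (ke xe11 ye48 ze0) (ke xe28 ye23 ze33) (ke xe11 ye48 ze1) (ke xe26 ye55 ze3) (ke xe25 ye53 ze30) (ke xe29 ye23 ze54) (ke xe12 ye10 ze6) (ke xe16 ye56 ze44) (ke xe28 ye28 ze2) (ke xe19 ye32 ze33) (ke xe13 ye16 ze27) (ke xe27 ye0 ze52) (ke xe21 ye13 ze6) (ke xe27 ye5 ze6) (ke xe16 ye47 ze17) (ke xe17 ye55 ze48) (ke xe11 ye48 ze18) (ke xe20 ye20 ze8) (ke xe11 ye48 ze21) (ke xe16 ye45 ze8) (ke xe11 ye48 ze23) (ke xe11 ye48 ze28) (ke xe17 ye12 ze27) (ke xe20 ye17 ze24) (ke xe20 ye19 ze51) (ke xe19 ye33 ze44) (ke xe14 ye44 ze59)) (@D3.rec (fun _ => Pt) (ke xe11 ye48 ze32) (ke xe26 ye45 ze52) (ke xe13 ye30 ze27) (ke xe29 ye42 ze20) (ke xe23 ye4 ze4) (ke xe11 ye48 ze35) (ke xe29 ye42 ze23) (ke xe25 ye16 ze60) (ke xe28 ye58 ze21)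 (ke xe11 ye48 ze37) (ke xe20 ye16 ze2) (ke xe20 ye19 ze27) (ke xe13 ye0 ze26) (ke xe20 ye19 ze38) (ke xe23 ye30 ze49) (ke xe26 ye46 ze26) (ke xe20 ye19 ze60) (ke xe27 ye35 ze37) (ke xe22 ye21 ze49) (ke xe14 ye33 ze9) (ke xe27 ye9 ze21) (ke xe19 ye7 ze40) (ke xe17 ye9 ze48) (ke xe11 ye48 ze56) (ke xe11 ye48 ze57) (ke xe29 ye42 ze26) (ke xe12 ye20 ze51) (ke xe26 ye3 ze40) (ke xe12 ye35 ze19) (ke xe12 ye36 ze53) (ke xe16 ye59 ze36) (ke xe12 ye39 ze21) (ke xe11 ye49 ze0) (ke xe11 ye49 ze1) (ke xe23 ye3 ze57) (ke xe20 ye26 ze14) (ke xe23 ye49 ze43) (ke xe11 ye49 ze6) (ke xe20 ye22 ze41) (ke xe21 ye1 ze32) (ke xe11 ye49 ze7) (ke xe11 ye49 ze9) (ke xe11 ye51 ze49) (ke xe25 ye17 ze55) (ke xe21 ye35 ze1) (ke xe27 ye43 ze24) (ke xe11 ye49 ze12) (ke xe17 ye5 ze45) (ke xe20 ye16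 ze15) (ke xe11 ye49 ze15) (ke xe21 ye7 ze26) (ke xe21 ye42 ze46) (ke xe11 ye49 ze22) (ke xe25 ye56 ze20) (ke xe12 ye23 ze31) (ke xe13 ye20 ze39) (ke xe26 ye52 ze47) (ke xe20 ye19 ze26) (ke xe26 ye57 ze54) (ke xe19 ye32 ze18) (ke xe11 ye49 ze39) (ke xe19 ye27 ze26)) (@D3.rec (fun _ => Pt) (ke xe12 ye9 ze23) (ke xe13 ye30 ze23) (ke xe28 ye45 ze45) (ke xe14 ye44 ze45) (ke xe11 ye49 ze48) (ke xe11 ye49 ze52) (ke xe11 ye49 ze54) (ke xe19 ye59 ze49) (ke xe29 ye42 ze31) (ke xe19 ye33 ze53) (ke xe11 ye50 ze2) (ke xe12 ye23 ze13) (ke xe20 ye47 ze42) (ke xe29 ye42 ze32) (ke xe12 ye34 ze47) (ke xe20 ye14 ze7) (ke xe20 ye38 ze4) (ke xe27 ye20 ze25) (ke xe21 ye29 ze3) (ke xe11 ye50 ze9) (ke xe20 ye0 ze52) (ke xe26 ye27 ze2) (ke xe27 ye57 ze50) (ke xe17 ye19 ze6) (ke xe26 ye49 ze12)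 (ke xe26 ye26 ze52) (ke xe20 ye38 ze17) (ke xe14 ye42 ze31) (ke xe19 ye9 ze16) (ke xe11 ye50 ze14) (ke xe15 ye56 ze38) (ke xe19 ye17 ze54) (ke xe26 ye50 ze9) (ke xe28 ye32 ze41) (ke xe11 ye50 ze17) (ke xe21 ye0 ze55) (ke xe29 ye3 ze2) (ke xe29 ye33 ze12) (ke xe11 ye50 ze18) (ke xe22 ye47 ze29) (ke xe11 ye50 ze19) (ke xe29 ye42 ze37) (ke xe12 ye10 ze45) (ke xe19 ye23 ze60) (ke xe19 ye39 ze2) (ke xe19 ye50 ze22) (ke xe12 ye23 ze38) (ke xe11 ye50 ze32) (ke xe28 ye28 ze18) (ke xe20 ye18 ze25) (ke xe20 ye8 ze28) (ke xe15 ye37 ze35) (ke xe11 ye50 ze35) (ke xe24 ye46 ze18) (ke xe19 ye57 ze42) (ke xe14 ye21 ze55) (ke xe20 ye28 ze36) (ke xe27 ye22 ze0) (ke xe19 ye33 ze37) (ke xe26 ye5 ze46) (ke xe14 ye36 ze9) (ke xe11 ye50 ze46)) (@D3.rec (fun _ => Pt) (ke xe12 ye51 ze9) (ke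 xe17 ye30 ze41) (ke xe11 ye50 ze52) (ke xe19 ye41 ze26) (ke xe25 ye42 ze8) (ke xe22 ye26 ze54) (ke xe19 ye41 ze32) (ke xe19 ye49 ze25) (ke xe26 ye45 ze28) (ke xe23 ye57 ze8) (ke xe11 ye50 ze54) (ke xe29 ye9 ze1) (ke xe20 ye57 ze42) (ke xe11 ye50 ze59) (ke xe21 ye22 ze40) (ke xe27 ye12 ze27) (ke xe18 ye17 ze27) (ke xe22 ye9 ze38) (ke xe21 ye22 ze33) (ke xe16 ye48 ze53) (ke xe20 ye26 ze1) (ke xe21 ye22 ze29) (ke xe29 ye42 ze54) (ke xe11 ye51 ze7) (ke xe11 ye51 ze8) (ke xe13 ye6 ze26) (ke xe16 ye4 ze54) (ke xe11 ye51 ze9) (ke xe22 ye4 ze11) (ke xe11 ye51 ze11) (ke xe27 ye37 ze37) (ke xe21 ye50 ze17) (ke xe21 ye20 ze48) (ke xe29 ye42 ze56) (ke xe11 ye51 ze19) (ke xe24 ye58 ze1) (ke xe25 ye52 ze30) (ke xe24 ye51 ze8) (ke xe11 ye51 ze21) (ke xe29 ye42 ze57) (ke xe25 ye19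 ze23) (ke xe25 ye37 ze39) (ke xe11 ye51 ze22) (ke xe21 ye59 ze1) (ke xe18 ye13 ze0) (ke xe25 ye45 ze5) (ke xe26 ye28 ze13) (ke xe15 ye25 ze45) (ke xe29 ye42 ze59) (ke xe11 ye51 ze29) (ke xe29 ye43 ze0) (ke xe27 ye22 ze22) (ke xe29 ye43 ze3) (ke xe29 ye43 ze7) (ke xe11 ye51 ze30) (ke xe21 ye20 ze54) (ke xe26 ye59 ze33) (ke xe11 ye51 ze31) (ke xe26 ye52 ze11) (ke xe29 ye43 ze12) (ke xe11 ye51 ze33) (ke xe20 ye39 ze46)) (@D3.rec (fun _ => Pt) (ke xe17 ye4 ze52) (ke xe29 ye43 ze17) (ke xe11 ye51 ze36) (ke xe15 ye48 ze18) (ke xe19 ye31 ze55) (ke xe11 ye51 ze38) (ke xe26 ye38 ze7) (ke xe29 ye43 ze23) (ke xe11 ye51 ze39) (ke xe29 ye43 ze28) (ke xe26 ye10 ze42) (ke xe27 ye35 ze50) (ke xe18 ye23 ze23) (ke xe24 ye19 ze12) (ke xe29 ye43 ze30) (ke xe11 ye51 ze43) (ke xe11 ye51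 ze44) (ke xe27 ye22 ze53) (ke xe19 ye33 ze2) (ke xe26 ye54 ze28) (ke xe26 ye53 ze36) (ke xe20 ye1 ze34) (ke xe19 ye29 ze14) (ke xe20 ye1 ze39) (ke xe19 ye33 ze12) (ke xe19 ye33 ze13) (ke xe12 ye44 ze6) (ke xe14 ye37 ze4) (ke xe29 ye42 ze29) (ke xe11 ye51 ze50) (ke xe27 ye36 ze10) (ke xe29 ye12 ze57) (ke xe11 ye51 ze54) (ke xe15 ye30 ze34) (ke xe19 ye40 ze29) (ke xe16 ye30 ze1) (ke xe12 ye29 ze15) (ke xe14 ye56 ze24) (ke xe19 ye5 ze38) (ke xe24 ye41 ze55) (ke xe11 ye51 ze60) (ke xe11 ye51 ze61) (ke xe19 ye47 ze6) (ke xe29 ye43 ze48) (ke xe29 ye43 ze49) (ke xe29 ye43 ze50) (ke xe11 ye52 ze1) (ke xe11 ye52 ze2) (ke xe23 ye29 ze5) (ke xe20 ye54 ze52) (ke xe13 ye22 ze10) (ke xe16 ye47 ze55) (ke xe20 ye54 ze49) (ke xe24 ye43 ze32) (ke xe11 ye52 ze6) (ke xe26 ye32 ze55) (ke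 xe13 ye57 ze50) (ke xe22 ye39 ze2) (ke xe11 ye52 ze10) (ke xe25 ye8 ze3) (ke xe11 ye52 ze12) (ke xe28 ye30 ze58)) (@D3.rec (fun _ => Pt) (ke xe16 ye38 ze53) (ke xe19 ye19 ze24) (ke xe11 ye52 ze15) (ke xe11 ye52 ze16) (ke xe29 ye37 ze59) (ke xe16 ye37 ze22) (ke xe29 ye44 ze1) (ke xe15 ye19 ze10) (ke xe11 ye52 ze20) (ke xe16 ye36 ze28) (ke xe29 ye44 ze7) (ke xe28 ye40 ze25) (ke xe11 ye53 ze38) (ke xe25 ye37 ze54) (ke xe26 ye39 ze54) (ke xe16 ye36 ze33) (ke xe29 ye44 ze10) (ke xe29 ye44 ze11) (ke xe11 ye52 ze24) (ke xe11 ye52 ze25) (ke xe11 ye53 ze58) (ke xe11 ye52 ze27) (ke xe11 ye52 ze28) (ke xe11 ye53 ze49) (ke xe21 ye16 ze55) (ke xe29 ye44 ze24) (ke xe22 ye0 ze23) (ke xe29 ye44 ze26) (ke xe29 ye44 ze27) (ke xe11 ye52 ze30) (ke xe27 ye0 ze12) (ke xe29 ye44 ze28) (ke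 xe29 ye44 ze29) (ke xe12 ye52 ze34) (ke xe11 ye52 ze31) (ke xe29 ye44 ze31) (ke xe29 ye44 ze32) (ke xe28 ye56 ze58) (ke xe29 ye44 ze35) (ke xe11 ye52 ze33) (ke xe11 ye52 ze34) (ke xe29 ye44 ze37) (ke xe11 ye52 ze35) (ke xe11 ye52 ze36) (ke xe29 ye3 ze17) (ke xe20 ye35 ze34) (ke xe25 ye22 ze28) (ke xe25 ye10 ze24) (ke xe24 ye50 ze28) (ke xe11 ye52 ze40) (ke xe29 ye44 ze45) (ke xe24 ye51 ze18) (ke xe25 ye9 ze23) (ke xe29 ye44 ze47) (ke xe11 ye52 ze44) (ke xe25 ye22 ze17) (ke xe19 ye57 ze52) (ke xe29 ye10 ze36) (ke xe24 ye23 ze31) (ke xe26 ye37 ze3) (ke xe16 ye36 ze17) (ke xe20 ye38 ze37)) (@D3.rec (fun _ => Pt) (ke xe15 ye37 ze21) (ke xe26 ye37 ze15) (ke xe11 ye52 ze50) (ke xe26 ye42 ze49) (ke xe11 ye52 ze53) (ke xe16 ye38 ze0) (ke xe29 ye45 ze1) (ke xe11 ye52 ze57) (ke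 xe29 ye10 ze40) (ke xe16 ye38 ze12) (ke xe26 ye37 ze9) (ke xe11 ye52 ze56) (ke xe28 ye39 ze19) (ke xe29 ye45 ze6) (ke xe16 ye37 ze32) (ke xe26 ye4 ze46) (ke xe25 ye22 ze21) (ke xe29 ye45 ze8) (ke xe11 ye53 ze1) (ke xe25 ye45 ze8) (ke xe11 ye53 ze2) (ke xe11 ye53 ze3) (ke xe29 ye45 ze15) (ke xe15 ye17 ze36) (ke xe29 ye45 ze10) (ke xe19 ye19 ze26) (ke xe29 ye45 ze23) (ke xe16 ye36 ze13) (ke xe11 ye53 ze7) (ke xe29 ye43 ze60) (ke xe22 ye1 ze16) (ke xe29 ye45 ze30) (ke xe11 ye53 ze6) (ke xe29 ye45 ze31) (ke xe29 ye45 ze33) (ke xe28 ye39 ze26) (ke xe19 ye19 ze14) (ke xe19 ye31 ze51) (ke xe29 ye45 ze37) (ke xe15 ye17 ze32) (ke xe26 ye39 ze30) (ke xe25 ye44 ze48) (ke xe28 ye40 ze42) (ke xe15 ye29 ze7) (ke xe19 ye7 ze43) (ke xe14 ye58 ze4) (ke xe11 ye53 ze13) (ke xe24 ye35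 ze8) (ke xe25 ye10 ze7) (ke xe29 ye33 ze24) (ke xe26 ye57 ze30) (ke xe16 ye39 ze27) (ke xe16 ye40 ze21) (ke xe29 ye45 ze48) (ke xe29 ye45 ze49) (ke xe29 ye33 ze30) (ke xe11 ye53 ze19) (ke xe29 ye45 ze51) (ke xe28 ye35 ze9) (ke xe29 ye45 ze52) (ke xe14 ye41 ze44) (ke xe29 ye45 ze54)) (@D3.rec (fun _ => Pt) (ke xe29 ye28 ze47) (ke xe11 ye53 ze24) (ke xe11 ye53 ze26) (ke xe15 ye21 ze15) (ke xe21 ye17 ze7) (ke xe11 ye53 ze30) (ke xe11 ye53 ze31) (ke xe11 ye53 ze32) (ke xe29 ye45 ze59) (ke xe27 ye14 ze39) (ke xe29 ye44 ze3) (ke xe24 ye26 ze36) (ke xe29 ye46 ze4) (ke xe11 ye53 ze37) (ke xe28 ye40 ze21) (ke xe29 ye46 ze10) (ke xe11 ye53 ze35) (ke xe16 ye39 ze46) (ke xe29 ye46 ze13) (ke xe29 ye46 ze7) (ke xe29 ye46 ze15) (ke xe29 ye46 ze17) (ke xe11 ye53 ze39) (ke xe16 ye39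 ze55) (ke xe29 ye46 ze21) (ke xe29 ye46 ze22) (ke xe11 ye53 ze42) (ke xe16 ye40 ze33) (ke xe16 ye40 ze34) (ke xe11 ye53 ze44) (ke xe29 ye46 ze29) (ke xe29 ye46 ze31) (ke xe20 ye35 ze41) (ke xe29 ye44 ze19) (ke xe26 ye33 ze47) (ke xe29 ye46 ze35) (ke xe26 ye39 ze27) (ke xe11 ye53 ze48) (ke xe29 ye44 ze21) (ke xe28 ye39 ze0) (ke xe15 ye19 ze25) (ke xe26 ye40 ze20) (ke xe20 ye53 ze12) (ke xe11 ye53 ze52) (ke xe16 ye40 ze55) (ke xe29 ye46 ze41) (ke xe29 ye46 ze42) (ke xe11 ye53 ze53) (ke xe16 ye37 ze6) (ke xe26 ye33 ze28) (ke xe11 ye53 ze54) (ke xe29 ye46 ze45) (ke xe29 ye44 ze14) (ke xe26 ye40 ze9) (ke xe29 ye46 ze49) (ke xe11 ye53 ze57) (ke xe29 ye44 ze17) (ke xe29 ye46 ze52) (ke xe26 ye33 ze26) (ke xe11 ye53 ze59) (ke xe11 ye53 ze60) (ke xe16 ye41 ze13)) (@D3.rec (fun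 _ => Pt) (ke xe11 ye53 ze61) (ke xe29 ye46 ze59) (ke xe11 ye54 ze0) (ke xe11 ye54 ze1) (ke xe29 ye46 ze61) (ke xe21 ye3 ze0) (ke xe29 ye3 ze21) (ke xe14 ye24 ze13) (ke xe11 ye54 ze6) (ke xe29 ye47 ze2) (ke xe11 ye54 ze7) (ke xe11 ye54 ze8) (ke xe29 ye47 ze7) (ke xe29 ye47 ze8) (ke xe22 ye21 ze30) (ke xe12 ye37 ze28) (ke xe11 ye54 ze9) (ke xe26 ye39 ze36) (ke xe19 ye34 ze39) (ke xe26 ye33 ze29) (ke xe19 ye31 ze40) (ke xe27 ye0 ze16) (ke xe20 ye39 ze29) (ke xe29 ye47 ze15) (ke xe19 ye47 ze23) (ke xe29 ye44 ze43) (ke xe29 ye47 ze20) (ke xe11 ye54 ze15) (ke xe29 ye47 ze25) (ke xe26 ye40 ze3) (ke xe14 ye22 ze53) (ke xe29 ye44 ze41) (ke xe19 ye58 ze25) (ke xe29 ye13 ze20) (ke xe29 ye47 ze29) (ke xe11 ye54 ze17) (ke xe29 ye14 ze18) (ke xe25 ye19 ze34) (ke xe19 ye32 ze46) (ke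 xe16 ye42 ze31) (ke xe11 ye54 ze19) (ke xe26 ye34 ze35) (ke xe11 ye54 ze20) (ke xe11 ye54 ze21) (ke xe29 ye47 ze34) (ke xe26 ye40 ze38) (ke xe16 ye41 ze40) (ke xe11 ye54 ze23) (ke xe26 ye34 ze36) (ke xe28 ye54 ze22) (ke xe11 ye54 ze24) (ke xe29 ye47 ze36) (ke xe28 ye54 ze10) (ke xe26 ye39 ze34) (ke xe11 ye54 ze26) (ke xe29 ye47 ze39) (ke xe19 ye32 ze11) (ke xe11 ye54 ze27) (ke xe28 ye18 ze50) (ke xe26 ye34 ze61) (ke xe19 ye1 ze4) (ke xe19 ye35 ze8)) (@D3.rec (fun _ => Pt) (ke xe24 ye15 ze7) (ke xe26 ye37 ze4) (ke xe11 ye54 ze31) (ke xe24 ye23 ze53) (ke xe29 ye47 ze44) (ke xe16 ye8 ze24) (ke xe29 ye47 ze47) (ke xe11 ye54 ze34) (ke xe19 ye37 ze41) (ke xe29 ye47 ze50) (ke xe24 ye38 ze22) (ke xe11 ye54 ze37) (ke xe15 ye43 ze18) (ke xe27 ye15 ze58) (ke xe11 ye54 ze41) (ke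 xe15 ye40 ze28) (ke xe16 ye43 ze17) (ke xe29 ye9 ze33) (ke xe18 ye52 ze27) (ke xe16 ye43 ze23) (ke xe25 ye57 ze46) (ke xe21 ye24 ze5) (ke xe29 ye47 ze60) (ke xe27 ye29 ze34) (ke xe23 ye58 ze37) (ke xe11 ye54 ze46) (ke xe15 ye54 ze0) (ke xe11 ye54 ze47) (ke xe26 ye46 ze43) (ke xe19 ye40 ze14) (ke xe20 ye26 ze46) (ke xe11 ye54 ze53) (ke xe18 ye59 ze27) (ke xe23 ye49 ze59) (ke xe14 ye43 ze49) (ke xe11 ye54 ze55) (ke xe24 ye10 ze55) (ke xe29 ye48 ze2) (ke xe24 ye10 ze6) (ke xe29 ye48 ze5) (ke xe29 ye48 ze6) (ke xe17 ye20 ze61) (ke xe19 ye30 ze16) (ke xe29 ye38 ze20) (ke xe28 ye31 ze4) (ke xe29 ye48 ze8) (ke xe11 ye55 ze1) (ke xe20 ye42 ze40) (ke xe11 ye55 ze2) (ke xe17 ye4 ze41) (ke xe11 ye55 ze3) (ke xe19 ye30 ze34) (ke xe29 ye48 ze9) (ke xe12 ye7 ze35) (ke xe16 ye52 ze29)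 (ke xe11 ye55 ze6) (ke xe11 ye55 ze9) (ke xe19 ye29 ze61) (ke xe29 ye48 ze16) (ke xe28 ye2 ze46) (ke xe22 ye41 ze31) (ke xe29 ye48 ze11))
def f_e_21 : D2 → D3 → Pt := @D2.rec (fun _ => D3 → Pt) (@D3.rec (fun _ => Pt) (ke xe29 ye48 ze24) (ke xe19 ye28 ze58) (ke xe29 ye48 ze29) (ke xe20 ye26 ze57) (ke xe19 ye33 ze58) (ke xe16 ye37 ze59) (ke xe11 ye55 ze13) (ke xe26 ye40 ze54) (ke xe28 ye15 ze52) (ke xe14 ye50 ze12) (ke xe19 ye33 ze40) (ke xe18 ye25 ze58) (ke xe16 ye55 ze51) (ke xe25 ye59 ze55) (ke xe12 ye51 ze30) (ke xe29 ye48 ze32) (ke xe11 ye55 ze22) (ke xe29 ye48 ze33) (ke xe11 ye55 ze23) (ke xe25 ye56 ze10) (ke xe19 ye36 ze50) (ke xe19 ye44 ze40) (ke xe25 ye13 ze48) (ke xe15 ye33 ze56) (ke xe11 ye55 ze27) (ke xe16 ye13 ze2) (ke xe19 ye44 ze48) (ke xe15 ye57 ze24)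 (ke xe29 ye48 ze39) (ke xe11 ye55 ze34) (ke xe11 ye55 ze36) (ke xe29 ye9 ze34) (ke xe25 ye4 ze57) (ke xe11 ye55 ze37) (ke xe20 ye28 ze3) (ke xe26 ye24 ze38) (ke xe19 ye46 ze48) (ke xe19 ye46 ze49) (ke xe29 ye16 ze51) (ke xe11 ye55 ze43) (ke xe29 ye14 ze27) (ke xe28 ye6 ze40) (ke xe13 ye5 ze37) (ke xe12 ye47 ze57) (ke xe29 ye48 ze44) (ke xe24 ye1 ze43) (ke xe15 ye51 ze4) (ke xe24 ye1 ze37) (ke xe29 ye48 ze45) (ke xe29 ye48 ze46) (ke xe11 ye55 ze56) (ke xe13 ye3 ze33) (ke xe11 ye56 ze0) (ke xe19 ye41 ze6) (ke xe16 ye46 ze55) (ke xe20 ye52 ze35) (ke xe11 ye56 ze5) (ke xe19 ye48 ze58) (ke xe11 ye56 ze6) (ke xe29 ye14 ze52) (ke xe29 ye37 ze24) (ke xe21 ye58 ze23)) (@D3.rec (fun _ => Pt) (ke xe16 ye47 ze16) (ke xe11 ye56 ze13) (ke xe15 ye20 ze32) (ke xe29 ye48 ze48) (ke xe16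 ye17 ze5) (ke xe25 ye53 ze31) (ke xe23 ye23 ze12) (ke xe27 ye41 ze30) (ke xe16 ye47 ze40) (ke xe29 ye48 ze54) (ke xe16 ye47 ze52) (ke xe29 ye48 ze57) (ke xe11 ye56 ze22) (ke xe13 ye51 ze43) (ke xe26 ye0 ze14) (ke xe29 ye48 ze60) (ke xe11 ye56 ze23) (ke xe24 ye3 ze23) (ke xe26 ye35 ze36) (ke xe11 ye56 ze26) (ke xe16 ye39 ze43) (ke xe29 ye48 ze61) (ke xe11 ye56 ze28) (ke xe29 ye49 ze2) (ke xe22 ye56 ze24) (ke xe11 ye56 ze29) (ke xe29 ye49 ze3) (ke xe29 ye49 ze5) (ke xe11 ye56 ze32) (ke xe22 ye4 ze52) (ke xe11 ye56 ze33) (ke xe27 ye31 ze34) (ke xe20 ye51 ze39) (ke xe26 ye5 ze60) (ke xe29 ye49 ze9) (ke xe11 ye56 ze39) (ke xe22 ye4 ze51) (ke xe26 ye52 ze10) (ke xe16 ye36 ze18) (ke xe11 ye56 ze42) (ke xe27 ye0 ze20) (ke xe20 ye2 ze48) (ke xe29 ye49 ze10) (ke xe29 ye49 ze11)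 (ke xe11 ye56 ze48) (ke xe24 ye16 ze49) (ke xe29 ye49 ze13) (ke xe20 ye3 ze34) (ke xe11 ye56 ze51) (ke xe20 ye3 ze23) (ke xe15 ye22 ze32) (ke xe12 ye29 ze20) (ke xe25 ye55 ze60) (ke xe25 ye55 ze43) (ke xe29 ye49 ze18) (ke xe11 ye56 ze59) (ke xe25 ye23 ze0) (ke xe15 ye18 ze14) (ke xe29 ye49 ze23) (ke xe11 ye56 ze58) (ke xe16 ye27 ze15) (ke xe29 ye49 ze25)) (@D3.rec (fun _ => Pt) (ke xe15 ye22 ze37) (ke xe11 ye57 ze1) (ke xe29 ye49 ze29) (ke xe25 ye28 ze11) (ke xe11 ye57 ze2) (ke xe20 ye41 ze29) (ke xe29 ye49 ze30) (ke xe11 ye57 ze4) (ke xe20 ye4 ze61) (ke xe28 ye36 ze56) (ke xe15 ye25 ze5) (ke xe19 ye15 ze40) (ke xe11 ye57 ze13) (ke xe25 ye37 ze57) (ke xe11 ye57 ze14) (ke xe29 ye49 ze32) (ke xe11 ye57 ze15) (ke xe12 ye48 ze37) (ke xe11 ye57 ze16) (ke xe19 ye56 ze7) (ke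 xe29 ye49 ze35) (ke xe14 ye21 ze42) (ke xe11 ye57 ze20) (ke xe23 ye42 ze55) (ke xe19 ye55 ze39) (ke xe29 ye49 ze48) (ke xe29 ye49 ze50) (ke xe21 ye14 ze27) (ke xe29 ye49 ze42) (ke xe29 ye49 ze55) (ke xe21 ye8 ze28) (ke xe25 ye41 ze12) (ke xe11 ye57 ze22) (ke xe19 ye58 ze46) (ke xe19 ye58 ze59) (ke xe18 ye39 ze40) (ke xe13 ye48 ze27) (ke xe11 ye57 ze36) (ke xe20 ye33 ze10) (ke xe11 ye57 ze39) (ke xe29 ye49 ze59) (ke xe22 ye34 ze4) (ke xe11 ye57 ze40) (ke xe24 ye31 ze15) (ke xe28 ye27 ze1) (ke xe15 ye23 ze49) (ke xe19 ye47 ze27) (ke xe22 ye46 ze14) (ke xe16 ye23 ze47) (ke xe24 ye57 ze16) (ke xe28 ye13 ze45) (ke xe11 ye57 ze48) (ke xe24 ye59 ze35) (ke xe27 ye9 ze28) (ke xe27 ye23 ze16) (ke xe28 ye28 ze25) (ke xe11 ye57 ze49) (ke xe13 ye28 ze38) (ke xe11 ye57 ze50) (ke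 xe12 ye24 ze12) (ke xe26 ye37 ze33) (ke xe11 ye57 ze55)) (@D3.rec (fun _ => Pt) (ke xe20 ye58 ze5) (ke xe14 ye2 ze41) (ke xe20 ye49 ze37) (ke xe13 ye1 ze3) (ke xe19 ye42 ze56) (ke xe27 ye21 ze47) (ke xe20 ye40 ze33) (ke xe12 ye53 ze34) (ke xe11 ye58 ze5) (ke xe18 ye25 ze50) (ke xe29 ye50 ze7) (ke xe18 ye25 ze14) (ke xe14 ye12 ze51) (ke xe12 ye29 ze43) (ke xe21 ye31 ze47) (ke xe11 ye58 ze15) (ke xe14 ye4 ze15) (ke xe11 ye58 ze20) (ke xe20 ye4 ze50) (ke xe11 ye58 ze23) (ke xe29 ye50 ze10) (ke xe19 ye27 ze58) (ke xe11 ye59 ze15) (ke xe27 ye12 ze45) (ke xe11 ye58 ze42) (ke xe26 ye58 ze53) (ke xe27 ye22 ze27) (ke xe11 ye58 ze44) (ke xe22 ye14 ze40) (ke xe27 ye0 ze45) (ke xe20 ye12 ze56) (ke xe27 ye2 ze31) (ke xe11 ye58 ze46) (ke xe11 ye58 ze47) (ke xe19 ye15 ze36) (ke xe14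 ye34 ze20) (ke xe11 ye58 ze56) (ke xe29 ye50 ze14) (ke xe15 ye31 ze34) (ke xe11 ye58 ze51) (ke xe11 ye58 ze52) (ke xe12 ye5 ze32) (ke xe17 ye59 ze2) (ke xe11 ye58 ze55) (ke xe13 ye7 ze58) (ke xe29 ye50 ze15) (ke xe11 ye58 ze57) (ke xe20 ye34 ze19) (ke xe23 ye35 ze52) (ke xe19 ye8 ze48) (ke xe19 ye8 ze49) (ke xe21 ye36 ze50) (ke xe14 ye43 ze28) (ke xe11 ye59 ze1) (ke xe19 ye4 ze60) (ke xe16 ye3 ze19) (ke xe25 ye39 ze53) (ke xe11 ye59 ze7) (ke xe19 ye10 ze32) (ke xe12 ye57 ze48) (ke xe17 ye22 ze23) (ke xe22 ye18 ze0)) (@D3.rec (fun _ => Pt) (ke xe29 ye50 ze20) (ke xe11 ye59 ze11) (ke xe12 ye28 ze51) (ke xe29 ye43 ze56) (ke xe11 ye59 ze21) (ke xe29 ye19 ze42) (ke xe14 ye49 ze8) (ke xe11 ye59 ze22) (ke xe16 ye48 ze42) (ke xe11 ye59 ze27) (ke xe16 ye27 ze44) (ke xe15 ye22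 ze36) (ke xe16 ye27 ze56) (ke xe27 ye58 ze21) (ke xe29 ye50 ze22) (ke xe11 ye59 ze32) (ke xe11 ye59 ze34) (ke xe29 ye24 ze39) (ke xe11 ye59 ze35) (ke xe11 ye59 ze37) (ke xe27 ye5 ze30) (ke xe26 ye20 ze29) (ke xe12 ye5 ze6) (ke xe13 ye31 ze60) (ke xe24 ye46 ze32) (ke xe29 ye50 ze26) (ke xe26 ye15 ze10) (ke xe21 ye32 ze47) (ke xe21 ye57 ze17) (ke xe18 ye5 ze55) (ke xe21 ye58 ze30) (ke xe24 ye45 ze4) (ke xe24 ye45 ze23) (ke xe14 ye14 ze31) (ke xe15 ye11 ze43) (ke xe18 ye28 ze13) (ke xe13 ye19 ze56) (ke xe18 ye37 ze5) (ke xe11 ye59 ze57) (ke xe28 ye47 ze7) (ke xe26 ye16 ze5) (ke xe21 ye59 ze22) (ke xe21 ye59 ze26) (ke xe27 ye4 ze22) (ke xe26 ye16 ze8) (ke xe11 ye59 ze60) (ke xe18 ye39 ze23) (ke xe29 ye50 ze32) (ke xe29 ye50 ze34) (ke xe12 ye0 ze0) (ke xe29 ye50 ze35) (ke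 xe26 ye14 ze45) (ke xe12 ye0 ze1) (ke xe12 ye0 ze3) (ke xe12 ye40 ze21) (ke xe21 ye48 ze59) (ke xe24 ye8 ze6) (ke xe29 ye50 ze37) (ke xe27 ye6 ze40) (ke xe15 ye35 ze21) (ke xe27 ye48 ze17) (ke xe17 ye27 ze43)) (@D3.rec (fun _ => Pt) (ke xe22 ye0 ze20) (ke xe28 ye35 ze61) (ke xe12 ye0 ze9) (ke xe27 ye19 ze42) (ke xe21 ye40 ze3) (ke xe15 ye38 ze8) (ke xe25 ye43 ze31) (ke xe22 ye1 ze57) (ke xe29 ye32 ze39) (ke xe29 ye50 ze47) (ke xe12 ye0 ze13) (ke xe12 ye0 ze14) (ke xe17 ye21 ze34) (ke xe17 ye28 ze59) (ke xe29 ye50 ze48) (ke xe17 ye17 ze16) (ke xe12 ye0 ze49) (ke xe23 ye3 ze5) (ke xe22 ye2 ze1) (ke xe25 ye55 ze12) (ke xe21 ye27 ze3) (ke xe28 ye59 ze28) (ke xe15 ye58 ze3) (ke xe22 ye2 ze8) (ke xe19 ye37 ze58) (ke xe29 ye50 ze59) (ke xe29 ye50 ze60) (ke xe12 ye0 ze24) (ke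 xe21 ye27 ze26) (ke xe25 ye36 ze17) (ke xe23 ye57 ze11) (ke xe22 ye57 ze24) (ke xe19 ye44 ze27) (ke xe15 ye35 ze8) (ke xe17 ye24 ze7) (ke xe16 ye45 ze39) (ke xe16 ye2 ze10) (ke xe25 ye44 ze49) (ke xe22 ye2 ze60) (ke xe29 ye51 ze2) (ke xe12 ye0 ze31) (ke xe16 ye7 ze61) (ke xe22 ye3 ze0) (ke xe28 ye19 ze5) (ke xe12 ye0 ze33) (ke xe21 ye27 ze10) (ke xe29 ye51 ze4) (ke xe12 ye0 ze34) (ke xe16 ye7 ze32) (ke xe12 ye0 ze36) (ke xe21 ye30 ze11) (ke xe12 ye1 ze52) (ke xe12 ye1 ze18) (ke xe12 ye1 ze53) (ke xe12 ye0 ze44) (ke xe19 ye5 ze43) (ke xe21 ye46 ze37) (ke xe29 ye51 ze8) (ke xe29 ye51 ze9) (ke xe12 ye41 ze53) (ke xe29 ye51 ze10) (ke xe21 ye46 ze56)) (@D3.rec (fun _ => Pt) (ke xe21 ye45 ze21) (ke xe24 ye34 ze50) (ke xe12 ye0 ze48) (ke xe21 ye49 ze2) (ke xe16 ye2 ze47) (ke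 xe29 ye50 ze52) (ke xe26 ye3 ze11) (ke xe21 ye46 ze45) (ke xe20 ye16 ze26) (ke xe12 ye0 ze51) (ke xe21 ye45 ze20) (ke xe19 ye14 ze30) (ke xe24 ye42 ze23) (ke xe14 ye9 ze60) (ke xe12 ye0 ze52) (ke xe13 ye13 ze5) (ke xe14 ye10 ze8) (ke xe28 ye10 ze5) (ke xe29 ye10 ze11) (ke xe28 ye3 ze46) (ke xe27 ye1 ze21) (ke xe12 ye0 ze55) (ke xe29 ye51 ze28) (ke xe12 ye0 ze57) (ke xe27 ye44 ze59) (ke xe12 ye0 ze58) (ke xe29 ye51 ze29) (ke xe26 ye25 ze7) (ke xe18 ye42 ze29) (ke xe25 ye39 ze46) (ke xe21 ye49 ze7) (ke xe27 ye46 ze49) (ke xe12 ye0 ze60) (ke xe27 ye44 ze58) (ke xe21 ye49 ze11) (ke xe12 ye18 ze44) (ke xe27 ye24 ze32) (ke xe12 ye1 ze1) (ke xe25 ye37 ze14) (ke xe29 ye51 ze36) (ke xe19 ye47 ze35) (ke xe23 ye44 ze41) (ke xe29 ye30 ze1) (ke xe12 ye1 ze4) (ke xe16 ye12 ze18)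 (ke xe12 ye1 ze5) (ke xe29 ye51 ze42) (ke xe16 ye11 ze61) (ke xe21 ye55 ze55) (ke xe18 ye26 ze13) (ke xe14 ye12 ze28) (ke xe12 ye1 ze11) (ke xe29 ye51 ze45) (ke xe14 ye35 ze51) (ke xe12 ye1 ze17) (ke xe18 ye20 ze41) (ke xe12 ye1 ze19) (ke xe12 ye1 ze22) (ke xe12 ye1 ze27) (ke xe29 ye51 ze47) (ke xe28 ye24 ze35) (ke xe29 ye18 ze8)) (@D3.rec (fun _ => Pt) (ke xe24 ye33 ze15) (ke xe12 ye12 ze48) (ke xe12 ye36 ze15) (ke xe26 ye11 ze18) (ke xe12 ye1 ze39) (ke xe29 ye51 ze48) (ke xe12 ye1 ze40) (ke xe20 ye26 ze16) (ke xe29 ye51 ze49) (ke xe16 ye13 ze57) (ke xe29 ye51 ze50) (ke xe12 ye1 ze45) (ke xe21 ye49 ze51) (ke xe12 ye1 ze48) (ke xe29 ye51 ze52) (ke xe12 ye1 ze49) (ke xe29 ye51 ze54) (ke xe12 ye1 ze50) (ke xe17 ye50 ze32) (ke xe29 ye22 ze55) (ke xe12 ye42 ze20) (ke xe22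 ye12 ze3) (ke xe15 ye49 ze11) (ke xe21 ye18 ze34) (ke xe12 ye2 ze0) (ke xe28 ye10 ze26) (ke xe20 ye51 ze50) (ke xe18 ye39 ze28) (ke xe12 ye2 ze4) (ke xe21 ye59 ze50) (ke xe25 ye33 ze55) (ke xe12 ye52 ze37) (ke xe21 ye49 ze49) (ke xe27 ye38 ze7) (ke xe17 ye51 ze28) (ke xe16 ye59 ze27) (ke xe21 ye21 ze12) (ke xe18 ye23 ze35) (ke xe29 ye13 ze39) (ke xe12 ye2 ze15) (ke xe12 ye23 ze16) (ke xe26 ye46 ze52) (ke xe12 ye28 ze18) (ke xe28 ye11 ze6) (ke xe29 ye51 ze58) (ke xe17 ye48 ze11) (ke xe12 ye2 ze22) (ke xe12 ye2 ze25) (ke xe12 ye2 ze27) (ke xe18 ye20 ze49) (ke xe12 ye14 ze9) (ke xe22 ye51 ze2) (ke xe21 ye35 ze7) (ke xe21 ye35 ze31) (ke xe20 ye7 ze45) (ke xe12 ye45 ze53) (ke xe12 ye2 ze32) (ke xe22 ye29 ze27) (ke xe13 ye41 ze41) (ke xe27 ye5 ze18) (ke xe12 ye2 ze34) (ke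 xe14 ye12 ze0)) (@D3.rec (fun _ => Pt) (ke xe28 ye10 ze31) (ke xe15 ye8 ze57) (ke xe21 ye16 ze46) (ke xe18 ye15 ze42) (ke xe14 ye34 ze47) (ke xe22 ye19 ze52) (ke xe21 ye18 ze53) (ke xe12 ye2 ze51) (ke xe12 ye2 ze54) (ke xe21 ye48 ze24) (ke xe12 ye2 ze60) (ke xe21 ye35 ze45) (ke xe12 ye12 ze47) (ke xe29 ye52 ze0) (ke xe21 ye36 ze27) (ke xe12 ye3 ze0) (ke xe24 ye20 ze2) (ke xe12 ye3 ze3) (ke xe16 ye21 ze5) (ke xe25 ye57 ze50) (ke xe24 ye21 ze59) (ke xe12 ye12 ze46) (ke xe25 ye41 ze4) (ke xe12 ye47 ze44) (ke xe24 ye31 ze60) (ke xe14 ye55 ze28) (ke xe29 ye52 ze2) (ke xe12 ye3 ze12) (ke xe21 ye2 ze30) (ke xe12 ye3 ze15) (ke xe12 ye27 ze0) (ke xe29 ye52 ze5) (ke xe14 ye43 ze34) (ke xe21 ye19 ze49) (ke xe23 ye30 ze35) (ke xe12 ye3 ze28) (ke xe26 ye47 ze50) (ke xe16 ye0 ze58)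 (ke xe26 ye43 ze22) (ke xe21 ye24 ze29) (ke xe25 ye2 ze25) (ke xe29 ye22 ze7) (ke xe12 ye3 ze22) (ke xe29 ye11 ze12) (ke xe25 ye32 ze56) (ke xe13 ye59 ze45) (ke xe28 ye31 ze25) (ke xe12 ye3 ze24) (ke xe23 ye21 ze10) (ke xe15 ye41 ze26) (ke xe15 ye27 ze17) (ke xe29 ye52 ze13) (ke xe12 ye3 ze26) (ke xe28 ye4 ze2) (ke xe12 ye3 ze27) (ke xe29 ye52 ze15) (ke xe28 ye55 ze27) (ke xe29 ye52 ze16) (ke xe27 ye44 ze54) (ke xe12 ye3 ze29) (ke xe19 ye52 ze21) (ke xe16 ye56 ze55)) (@D3.rec (fun _ => Pt) (ke xe22 ye41 ze20) (ke xe12 ye3 ze33) (ke xe20 ye18 ze59) (ke xe27 ye11 ze46) (ke xe29 ye52 ze20) (ke xe12 ye3 ze35) (ke xe16 ye56 ze58) (ke xe13 ye16 ze47) (ke xe29 ye52 ze22) (ke xe12 ye3 ze39) (ke xe12 ye10 ze35) (ke xe17 ye53 ze20) (ke xe14 ye3 ze46) (ke xe12 ye3 ze42) (ke xe16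 ye54 ze7) (ke xe19 ye4 ze52) (ke xe12 ye3 ze43) (ke xe22 ye40 ze20) (ke xe19 ye20 ze55) (ke xe20 ye21 ze45) (ke xe27 ye34 ze31) (ke xe19 ye23 ze2) (ke xe29 ye52 ze25) (ke xe17 ye30 ze37) (ke xe17 ye34 ze50) (ke xe18 ye49 ze60) (ke xe12 ye3 ze48) (ke xe16 ye55 ze5) (ke xe12 ye9 ze8) (ke xe17 ye59 ze13) (ke xe12 ye46 ze28) (ke xe12 ye3 ze52) (ke xe20 ye9 ze6) (ke xe12 ye44 ze47) (ke xe21 ye38 ze6) (ke xe12 ye10 ze38) (ke xe20 ye9 ze60) (ke xe17 ye58 ze9) (ke xe20 ye12 ze47) (ke xe19 ye57 ze33) (ke xe12 ye36 ze24) (ke xe13 ye20 ze28) (ke xe22 ye3 ze19) (ke xe12 ye4 ze10) (ke xe27 ye30 ze30) (ke xe21 ye24 ze11) (ke xe12 ye4 ze11) (ke xe29 ye0 ze19) (ke xe12 ye28 ze29) (ke xe20 ye5 ze53) (ke xe26 ye55 ze23) (ke xe15 ye51 ze32) (ke xe15 ye27 ze1) (ke xe19 ye9 ze30) (ke xe12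 ye4 ze30) (ke xe19 ye30 ze20) (ke xe22 ye41 ze3) (ke xe21 ye17 ze45) (ke xe16 ye2 ze23) (ke xe12 ye31 ze26) (ke xe12 ye58 ze20) (ke xe25 ye43 ze4)) (@D3.rec (fun _ => Pt) (ke xe12 ye58 ze11) (ke xe21 ye22 ze32) (ke xe21 ye33 ze25) (ke xe12 ye51 ze28) (ke xe16 ye16 ze51) (ke xe12 ye58 ze38) (ke xe28 ye47 ze5) (ke xe15 ye45 ze46) (ke xe17 ye35 ze7) (ke xe17 ye35 ze9) (ke xe12 ye39 ze48) (ke xe26 ye10 ze29) (ke xe12 ye4 ze59) (ke xe21 ye41 ze41) (ke xe14 ye57 ze55) (ke xe28 ye0 ze37) (ke xe25 ye34 ze2) (ke xe13 ye0 ze14) (ke xe29 ye52 ze37) (ke xe12 ye5 ze0) (ke xe29 ye52 ze39) (ke xe12 ye5 ze1) (ke xe25 ye18 ze44) (ke xe12 ye5 ze4) (ke xe20 ye31 ze10) (ke xe24 ye28 ze43) (ke xe26 ye28 ze44) (ke xe26 ye55 ze51) (ke xe19 ye6 ze32) (ke xe12 ye5 ze7) (ke xe26 ye28 ze54) (ke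 xe29 ye52 ze50) (ke xe16 ye34 ze5) (ke xe29 ye52 ze51) (ke xe12 ye5 ze9) (ke xe23 ye9 ze16) (ke xe16 ye33 ze36) (ke xe16 ye33 ze60) (ke xe29 ye52 ze55) (ke xe12 ye5 ze11) (ke xe19 ye6 ze40) (ke xe12 ye5 ze12) (ke xe24 ye48 ze14) (ke xe29 ye53 ze0) (ke xe16 ye34 ze16) (ke xe16 ye33 ze46) (ke xe12 ye5 ze14) (ke xe26 ye56 ze10) (ke xe13 ye42 ze39) (ke xe16 ye34 ze11) (ke xe28 ye15 ze33) (ke xe12 ye5 ze16) (ke xe28 ye31 ze53) (ke xe12 ye5 ze17) (ke xe23 ye54 ze13) (ke xe19 ye6 ze26) (ke xe26 ye29 ze17) (ke xe26 ye26 ze5) (ke xe27 ye40 ze36) (ke xe25 ye5 ze11) (ke xe29 ye53 ze16) (ke xe29 ye53 ze17)) (@D3.rec (fun _ => Pt) (ke xe12 ye5 ze22) (ke xe29 ye53 ze22) (ke xe12 ye5 ze23) (ke xe26 ye17 ze46) (ke xe29 ye53 ze23) (ke xe16 ye34 ze39) (ke xe29 ye53 ze24) (ke xe16 ye22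 ze26) (ke xe29 ye53 ze25) (ke xe17 ye36 ze14) (ke xe12 ye5 ze30) (ke xe23 ye5 ze51) (ke xe29 ye53 ze29) (ke xe12 ye5 ze31) (ke xe20 ye44 ze27) (ke xe22 ye6 ze21) (ke xe14 ye19 ze61) (ke xe29 ye24 ze19) (ke xe12 ye5 ze35) (ke xe14 ye10 ze29) (ke xe17 ye34 ze38) (ke xe29 ye26 ze61) (ke xe22 ye24 ze21) (ke xe20 ye48 ze20) (ke xe12 ye8 ze51) (ke xe14 ye41 ze56) (ke xe27 ye5 ze12) (ke xe29 ye53 ze33) (ke xe19 ye19 ze59) (ke xe19 ye9 ze46) (ke xe29 ye53 ze36) (ke xe29 ye53 ze38) (ke xe12 ye5 ze44) (ke xe12 ye5 ze45) (ke xe14 ye38 ze27) (ke xe25 ye44 ze54) (ke xe28 ye43 ze19) (ke xe12 ye5 ze47) (ke xe17 ye54 ze51) (ke xe15 ye6 ze15) (ke xe29 ye53 ze43) (ke xe12 ye5 ze52) (ke xe21 ye15 ze14) (ke xe17 ye57 ze30) (ke xe12 ye5 ze53) (ke xe27 ye57 ze26) (ke xe17 ye57 ze9) (ke xe29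 ye53 ze45) (ke xe12 ye5 ze55) (ke xe29 ye53 ze47) (ke xe22 ye55 ze28) (ke xe12 ye5 ze57) (ke xe29 ye53 ze50) (ke xe12 ye5 ze58) (ke xe12 ye5 ze60) (ke xe13 ye33 ze23) (ke xe12 ye5 ze61) (ke xe12 ye6 ze5) (ke xe27 ye53 ze10) (ke xe28 ye7 ze22) (ke xe12 ye6 ze1) (ke xe23 ye31 ze24)) (@D3.rec (fun _ => Pt) (ke xe29 ye53 ze53) (ke xe24 ye57 ze50) (ke xe29 ye53 ze54) (ke xe12 ye6 ze3) (ke xe17 ye57 ze2) (ke xe13 ye33 ze7) (ke xe24 ye57 ze47) (ke xe27 ye51 ze44) (ke xe28 ye8 ze31) (ke xe28 ye8 ze55) (ke xe29 ye20 ze26) (ke xe18 ye12 ze21) (ke xe12 ye6 ze6) (ke xe12 ye6 ze7) (ke xe27 ye42 ze4) (ke xe26 ye23 ze59) (ke xe12 ye6 ze9) (ke xe18 ye36 ze12) (ke xe12 ye6 ze14) (ke xe26 ye25 ze34) (ke xe13 ye47 ze15) (ke xe13 ye42 ze5) (ke xe12 ye6 ze18) (ke xe13 ye30 ze37) (ke xe12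 ye6 ze22) (ke xe29 ye54 ze3) (ke xe26 ye22 ze39) (ke xe13 ye55 ze17) (ke xe23 ye34 ze45) (ke xe18 ye49 ze32) (ke xe12 ye6 ze26) (ke xe29 ye54 ze5) (ke xe12 ye6 ze30) (ke xe12 ye6 ze31) (ke xe15 ye7 ze41) (ke xe12 ye6 ze33) (ke xe29 ye54 ze8) (ke xe29 ye54 ze9) (ke xe12 ye6 ze35) (ke xe29 ye53 ze57) (ke xe22 ye51 ze55) (ke xe29 ye54 ze11) (ke xe18 ye32 ze58) (ke xe28 ye25 ze51) (ke xe27 ye50 ze8) (ke xe12 ye6 ze41) (ke xe12 ye6 ze42) (ke xe28 ye26 ze8) (ke xe12 ye6 ze44) (ke xe18 ye34 ze21) (ke xe12 ye6 ze45) (ke xe29 ye54 ze24) (ke xe20 ye21 ze14) (ke xe28 ye22 ze43) (ke xe12 ye6 ze47) (ke xe13 ye30 ze52) (ke xe17 ye46 ze33) (ke xe20 ye21 ze9) (ke xe26 ye7 ze22) (ke xe29 ye54 ze27) (ke xe22 ye56 ze11) (ke xe12 ye6 ze53)) (@D3.rec (fun _ => Pt) (ke xe15 ye10 ze29) (ke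 xe12 ye6 ze54) (ke xe12 ye22 ze45) (ke xe22 ye30 ze26) (ke xe12 ye6 ze56) (ke xe12 ye6 ze57) (ke xe20 ye50 ze47) (ke xe12 ye6 ze59) (ke xe20 ye7 ze33) (ke xe26 ye24 ze60) (ke xe20 ye19 ze52) (ke xe19 ye52 ze36) (ke xe18 ye26 ze3) (ke xe29 ye54 ze28) (ke xe29 ye54 ze29) (ke xe12 ye7 ze1) (ke xe20 ye21 ze13) (ke xe24 ye25 ze27) (ke xe12 ye7 ze6) (ke xe29 ye54 ze30) (ke xe12 ye7 ze7) (ke xe29 ye54 ze31) (ke xe12 ye7 ze10) (ke xe12 ye7 ze12) (ke xe29 ye54 ze33) (ke xe18 ye12 ze38) (ke xe29 ye27 ze9) (ke xe28 ye28 ze26) (ke xe29 ye54 ze36) (ke xe12 ye7 ze18) (ke xe12 ye7 ze21) (ke xe29 ye54 ze37) (ke xe20 ye31 ze49) (ke xe12 ye7 ze23) (ke xe29 ye54 ze39) (ke xe12 ye7 ze26) (ke xe26 ye7 ze19) (ke xe12 ye7 ze27) (ke xe19 ye21 ze13) (ke xe29 ye48 ze10) (ke xe17 ye20 ze58) (ke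 xe27 ye5 ze7) (ke xe22 ye39 ze7) (ke xe22 ye29 ze43) (ke xe13 ye14 ze3) (ke xe18 ye41 ze37) (ke xe15 ye51 ze5) (ke xe22 ye20 ze6) (ke xe19 ye41 ze50) (ke xe28 ye35 ze53) (ke xe24 ye9 ze1) (ke xe16 ye30 ze36) (ke xe26 ye32 ze57) (ke xe19 ye48 ze40) (ke xe22 ye46 ze58) (ke xe27 ye5 ze14) (ke xe22 ye11 ze52) (ke xe13 ye39 ze42) (ke xe13 ye29 ze0) (ke xe16 ye32 ze51) (ke xe29 ye55 ze3) (ke xe12 ye7 ze42)) (@D3.rec (fun _ => Pt) (ke xe29 ye55 ze4) (ke xe24 ye14 ze17) (ke xe12 ye7 ze43) (ke xe13 ye41 ze32) (ke xe26 ye29 ze3) (ke xe29 ye7 ze39) (ke xe29 ye55 ze7) (ke xe23 ye55 ze18) (ke xe21 ye53 ze1) (ke xe12 ye7 ze46) (ke xe23 ye20 ze20) (ke xe17 ye0 ze38) (ke xe22 ye51 ze9) (ke xe22 ye42 ze0) (ke xe22 ye42 ze1) (ke xe27 ye58 ze11) (ke xe22 ye13 ze13) (ke xe22 ye47 ze19)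 (ke xe13 ye10 ze7) (ke xe22 ye58 ze59) (ke xe12 ye48 ze0) (ke xe29 ye55 ze12) (ke xe29 ye55 ze14) (ke xe24 ye5 ze7) (ke xe22 ye54 ze31) (ke xe12 ye8 ze11) (ke xe29 ye9 ze54) (ke xe21 ye2 ze27) (ke xe23 ye20 ze30) (ke xe29 ye55 ze18) (ke xe29 ye55 ze19) (ke xe12 ye8 ze14) (ke xe26 ye8 ze36) (ke xe27 ye58 ze3) (ke xe29 ye55 ze21) (ke xe29 ye55 ze22) (ke xe12 ye8 ze16) (ke xe14 ye7 ze30) (ke xe12 ye8 ze19) (ke xe12 ye8 ze22) (ke xe26 ye29 ze12) (ke xe24 ye46 ze57) (ke xe12 ye8 ze26) (ke xe26 ye26 ze9) (ke xe24 ye12 ze13) (ke xe18 ye49 ze23) (ke xe14 ye17 ze12) (ke xe29 ye55 ze27) (ke xe12 ye8 ze29) (ke xe29 ye7 ze6) (ke xe16 ye31 ze57) (ke xe29 ye55 ze29) (ke xe29 ye55 ze30) (ke xe20 ye26 ze21) (ke xe12 ye8 ze33) (ke xe12 ye8 ze36) (ke xe22 ye47 ze27) (ke xe22 ye27 ze38)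 (ke xe24 ye54 ze10) (ke xe27 ye47 ze51) (ke xe12 ye8 ze41) (ke xe22 ye27 ze46)) (@D3.rec (fun _ => Pt) (ke xe28 ye8 ze44) (ke xe18 ye59 ze17) (ke xe12 ye8 ze44) (ke xe12 ye8 ze45) (ke xe16 ye20 ze55) (ke xe28 ye28 ze11) (ke xe20 ye21 ze37) (ke xe13 ye29 ze17) (ke xe17 ye8 ze22) (ke xe12 ye8 ze52) (ke xe29 ye55 ze34) (ke xe20 ye26 ze19) (ke xe12 ye8 ze57) (ke xe12 ye29 ze3) (ke xe21 ye11 ze42) (ke xe24 ye31 ze2) (ke xe21 ye44 ze40) (ke xe18 ye20 ze45) (ke xe16 ye30 ze47) (ke xe24 ye35 ze22) (ke xe20 ye0 ze27) (ke xe20 ye14 ze47) (ke xe17 ye2 ze44) (ke xe15 ye4 ze40) (ke xe20 ye31 ze51) (ke xe26 ye49 ze40) (ke xe12 ye9 ze10) (ke xe12 ye9 ze11) (ke xe20 ye7 ze50) (ke xe29 ye55 ze36) (ke xe12 ye9 ze16) (ke xe29 ye55 ze37) (ke xe28 ye5 ze9) (ke xe29 ye7 ze49) (ke xe23 ye53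 ze44) (ke xe12 ye9 ze17) (ke xe29 ye55 ze40) (ke xe12 ye9 ze35) (ke xe23 ye17 ze46) (ke xe14 ye0 ze12) (ke xe29 ye55 ze41) (ke xe12 ye9 ze41) (ke xe22 ye53 ze18) (ke xe12 ye9 ze39) (ke xe26 ye51 ze43) (ke xe12 ye9 ze45) (ke xe28 ye48 ze36) (ke xe12 ye9 ze57) (ke xe22 ye54 ze8) (ke xe12 ye9 ze61) (ke xe28 ye48 ze42) (ke xe19 ye12 ze34) (ke xe29 ye55 ze48) (ke xe17 ye34 ze12) (ke xe19 ye12 ze13) (ke xe14 ye19 ze40) (ke xe21 ye38 ze15) (ke xe12 ye10 ze10) (ke xe14 ye16 ze13) (ke xe24 ye25 ze37) (ke xe12 ye51 ze48) (ke xe27 ye8 ze40)) (@D3.rec (fun _ => Pt) (ke xe28 ye26 ze59) (ke xe12 ye10 ze18) (ke xe28 ye35 ze48) (ke xe12 ye10 ze21) (ke xe29 ye55 ze54) (ke xe12 ye10 ze23) (ke xe13 ye50 ze35) (ke xe12 ye10 ze26) (ke xe12 ye10 ze27) (ke xe12 ye10 ze28) (ke xe22 ye5 ze16)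 (ke xe24 ye6 ze9) (ke xe22 ye6 ze27) (ke xe13 ye6 ze38) (ke xe12 ye10 ze55) (ke xe16 ye57 ze0) (ke xe20 ye25 ze28) (ke xe12 ye11 ze0) (ke xe12 ye25 ze35) (ke xe14 ye8 ze8) (ke xe15 ye21 ze60) (ke xe25 ye35 ze43) (ke xe29 ye55 ze60) (ke xe21 ye18 ze55) (ke xe29 ye56 ze0) (ke xe12 ye11 ze8) (ke xe12 ye11 ze9) (ke xe27 ye2 ze37) (ke xe17 ye10 ze34) (ke xe17 ye17 ze7) (ke xe17 ye26 ze7) (ke xe26 ye33 ze49) (ke xe28 ye38 ze7) (ke xe17 ye14 ze52) (ke xe25 ye57 ze33) (ke xe27 ye11 ze2) (ke xe25 ye13 ze9) (ke xe29 ye56 ze7) (ke xe29 ye56 ze8) (ke xe12 ye11 ze19) (ke xe12 ye11 ze20) (ke xe24 ye22 ze54) (ke xe12 ye11 ze29) (ke xe29 ye56 ze10) (ke xe19 ye14 ze18) (ke xe12 ye11 ze23) (ke xe21 ye8 ze2) (ke xe12 ye11 ze24) (ke xe19 ye5 ze6) (ke xe23 ye57 ze19) (ke xe24 ye0 ze30)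 (ke xe28 ye39 ze4) (ke xe29 ye56 ze15) (ke xe12 ye11 ze30) (ke xe14 ye23 ze60) (ke xe20 ye55 ze24) (ke xe17 ye19 ze27) (ke xe21 ye40 ze0) (ke xe15 ye16 ze36) (ke xe21 ye28 ze33) (ke xe15 ye9 ze22) (ke xe17 ye16 ze53)) (@D3.rec (fun _ => Pt) (ke xe18 ye1 ze45) (ke xe15 ye37 ze51) (ke xe29 ye56 ze23) (ke xe15 ye38 ze54) (ke xe15 ye33 ze48) (ke xe12 ye11 ze53) (ke xe29 ye56 ze26) (ke xe20 ye57 ze4) (ke xe25 ye10 ze9) (ke xe29 ye56 ze27) (ke xe12 ye11 ze41) (ke xe21 ye39 ze20) (ke xe27 ye22 ze56) (ke xe29 ye56 ze34) (ke xe29 ye56 ze36) (ke xe12 ye11 ze42) (ke xe12 ye11 ze43) (ke xe29 ye56 ze38) (ke xe25 ye34 ze50) (ke xe16 ye1 ze44) (ke xe24 ye40 ze14) (ke xe12 ye11 ze46) (ke xe29 ye5 ze48) (ke xe25 ye13 ze23) (ke xe25 ye43 ze40) (ke xe24 ye40 ze11) (ke xe12 ye11 ze48)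 (ke xe25 ye41 ze50) (ke xe25 ye57 ze23) (ke xe17 ye28 ze8) (ke xe12 ye11 ze49) (ke xe25 ye57 ze0) (ke xe29 ye56 ze47) (ke xe12 ye11 ze52) (ke xe29 ye56 ze52) (ke xe29 ye56 ze54) (ke xe29 ye5 ze32) (ke xe29 ye56 ze58) (ke xe12 ye11 ze54) (ke xe29 ye57 ze2) (ke xe12 ye11 ze55) (ke xe29 ye5 ze25) (ke xe29 ye5 ze27) (ke xe29 ye57 ze6) (ke xe17 ye28 ze25) (ke xe21 ye9 ze57) (ke xe12 ye32 ze25) (ke xe21 ye20 ze11) (ke xe17 ye30 ze58) (ke xe20 ye36 ze14) (ke xe16 ye17 ze51) (ke xe27 ye3 ze40) (ke xe27 ye3 ze49) (ke xe27 ye3 ze50) (ke xe17 ye52 ze1) (ke xe25 ye28 ze10) (ke xe21 ye42 ze49) (ke xe25 ye51 ze3) (ke xe26 ye2 ze14) (ke xe23 ye55 ze3) (ke xe12 ye12 ze14) (ke xe25 ye33 ze29)) (@D3.rec (fun _ => Pt) (ke xe12 ye12 ze16) (ke xe27 ye11 ze3) (ke xe29 ye57 ze22) (ke xe12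 ye12 ze17) (ke xe23 ye2 ze48) (ke xe17 ye31 ze2) (ke xe28 ye9 ze44) (ke xe12 ye12 ze20) (ke xe19 ye12 ze60) (ke xe29 ye57 ze25) (ke xe22 ye15 ze57) (ke xe29 ye57 ze32) (ke xe29 ye57 ze33) (ke xe12 ye12 ze22) (ke xe29 ye57 ze36) (ke xe14 ye44 ze36) (ke xe14 ye54 ze15) (ke xe23 ye40 ze45) (ke xe12 ye12 ze24) (ke xe20 ye6 ze60) (ke xe12 ye12 ze32) (ke xe25 ye23 ze14) (ke xe29 ye57 ze42) (ke xe26 ye12 ze19) (ke xe16 ye50 ze45) (ke xe25 ye23 ze15) (ke xe12 ye12 ze33) (ke xe12 ye12 ze36) (ke xe21 ye18 ze45) (ke xe26 ye2 ze20) (ke xe27 ye27 ze18) (ke xe21 ye46 ze52) (ke xe26 ye6 ze39) (ke xe12 ye12 ze43) (ke xe21 ye7 ze23) (ke xe19 ye32 ze29) (ke xe12 ye12 ze49) (ke xe29 ye21 ze54) (ke xe29 ye18 ze27) (ke xe12 ye36 ze26) (ke xe12 ye12 ze51) (ke xe21 ye42 ze41) (ke xe27 ye20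 ze24) (ke xe21 ye35 ze36) (ke xe25 ye17 ze53) (ke xe21 ye18 ze28) (ke xe29 ye57 ze58) (ke xe12 ye12 ze55) (ke xe12 ye12 ze56) (ke xe21 ye27 ze38) (ke xe21 ye33 ze13) (ke xe18 ye43 ze58) (ke xe12 ye12 ze60) (ke xe21 ye8 ze6) (ke xe18 ye50 ze25) (ke xe21 ye16 ze23) (ke xe21 ye28 ze7) (ke xe12 ye34 ze33) (ke xe16 ye3 ze60) (ke xe28 ye41 ze49) (ke xe21 ye31 ze18) (ke xe26 ye3 ze5)) (@D3.rec (fun _ => Pt) (ke xe12 ye13 ze25) (ke xe29 ye56 ze5) (ke xe21 ye27 ze49) (ke xe27 ye24 ze31) (ke xe19 ye48 ze32) (ke xe29 ye49 ze38) (ke xe12 ye13 ze12) (ke xe12 ye13 ze13) (ke xe13 ye15 ze61) (ke xe14 ye49 ze50) (ke xe14 ye7 ze24) (ke xe12 ye13 ze17) (ke xe12 ye13 ze18) (ke xe14 ye54 ze58) (ke xe15 ye45 ze19) (ke xe23 ye42 ze11) (ke xe23 ye40 ze60) (ke xe12 ye13 ze21) (ke xe12 ye13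 ze22) (ke xe23 ye36 ze1) (ke xe13 ye55 ze52) (ke xe26 ye2 ze35) (ke xe29 ye58 ze23) (ke xe12 ye13 ze24) (ke xe13 ye25 ze38) (ke xe23 ye27 ze6) (ke xe12 ye13 ze27) (ke xe22 ye43 ze36) (ke xe12 ye13 ze29) (ke xe29 ye58 ze34) (ke xe23 ye27 ze43) (ke xe21 ye34 ze41) (ke xe21 ye22 ze28) (ke xe17 ye58 ze47) (ke xe21 ye31 ze21) (ke xe21 ye31 ze22) (ke xe20 ye16 ze21) (ke xe28 ye31 ze17) (ke xe21 ye26 ze20) (ke xe21 ye44 ze0) (ke xe12 ye36 ze3) (ke xe18 ye38 ze9) (ke xe18 ye0 ze3) (ke xe17 ye45 ze4) (ke xe24 ye42 ze22) (ke xe13 ye58 ze26) (ke xe13 ye57 ze34) (ke xe29 ye58 ze41) (ke xe12 ye13 ze41) (ke xe21 ye8 ze33) (ke xe29 ye58 ze44) (ke xe12 ye13 ze42) (ke xe16 ye13 ze40) (ke xe12 ye50 ze16) (ke xe19 ye14 ze55) (ke xe28 ye12 ze5) (ke xe22 ye11 ze14) (ke xe22 ye28 ze27) (ke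 xe12 ye13 ze46) (ke xe22 ye11 ze21) (ke xe27 ye46 ze30) (ke xe23 ye22 ze19)) (@D3.rec (fun _ => Pt) (ke xe22 ye11 ze27) (ke xe27 ye4 ze23) (ke xe12 ye13 ze51) (ke xe21 ye42 ze17) (ke xe12 ye13 ze52) (ke xe13 ye52 ze24) (ke xe21 ye25 ze55) (ke xe28 ye10 ze24) (ke xe12 ye14 ze2) (ke xe21 ye50 ze14) (ke xe24 ye33 ze52) (ke xe21 ye17 ze47) (ke xe20 ye37 ze37) (ke xe12 ye20 ze55) (ke xe12 ye14 ze13) (ke xe20 ye5 ze28) (ke xe16 ye6 ze53) (ke xe12 ye14 ze18) (ke xe12 ye14 ze22) (ke xe27 ye22 ze11) (ke xe22 ye7 ze44) (ke xe21 ye23 ze39) (ke xe29 ye58 ze53) (ke xe12 ye15 ze0) (ke xe18 ye24 ze21) (ke xe20 ye2 ze6) (ke xe12 ye15 ze32) (ke xe21 ye23 ze42) (ke xe12 ye27 ze60) (ke xe26 ye2 ze58) (ke xe12 ye14 ze39) (ke xe14 ye27 ze37) (ke xe12 ye14 ze42) (ke xe17 ye18 ze47) (ke xe12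 ye14 ze43) (ke xe16 ye8 ze41) (ke xe17 ye34 ze59) (ke xe18 ye37 ze52) (ke xe16 ye6 ze50) (ke xe12 ye39 ze13) (ke xe12 ye14 ze57) (ke xe23 ye46 ze48) (ke xe26 ye5 ze59) (ke xe12 ye53 ze20) (ke xe12 ye15 ze8) (ke xe12 ye53 ze18) (ke xe18 ye12 ze61) (ke xe12 ye15 ze37) (ke xe20 ye53 ze32) (ke xe20 ye20 ze40) (ke xe12 ye15 ze28) (ke xe12 ye30 ze25) (ke xe12 ye35 ze30) (ke xe22 ye6 ze7) (ke xe20 ye53 ze55) (ke xe16 ye14 ze14) (ke xe21 ye23 ze54) (ke xe19 ye34 ze52) (ke xe12 ye53 ze36) (ke xe26 ye38 ze4) (ke xe29 ye58 ze61) (ke xe12 ye15 ze39)) (@D3.rec (fun _ => Pt) (ke xe25 ye4 ze27) (ke xe21 ye47 ze8) (ke xe21 ye59 ze54) (ke xe24 ye27 ze30) (ke xe22 ye4 ze57) (ke xe20 ye41 ze32) (ke xe19 ye38 ze8) (ke xe15 ye46 ze58) (ke xe12 ye15 ze58) (ke xe20 ye13 ze3) (ke xe20 ye37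 ze52) (ke xe12 ye16 ze1) (ke xe21 ye7 ze36) (ke xe20 ye7 ze4) (ke xe21 ye21 ze18) (ke xe12 ye26 ze61) (ke xe29 ye18 ze10) (ke xe22 ye12 ze4) (ke xe21 ye21 ze14) (ke xe24 ye57 ze58) (ke xe12 ye16 ze18) (ke xe21 ye48 ze28) (ke xe16 ye14 ze8) (ke xe29 ye43 ze42) (ke xe12 ye16 ze24) (ke xe21 ye48 ze22) (ke xe20 ye45 ze5) (ke xe29 ye49 ze19) (ke xe12 ye16 ze22) (ke xe12 ye57 ze60) (ke xe25 ye22 ze51) (ke xe12 ye16 ze23) (ke xe21 ye54 ze8) (ke xe22 ye4 ze58) (ke xe29 ye59 ze12) (ke xe29 ye59 ze24) (ke xe15 ye46 ze28) (ke xe12 ye42 ze23) (ke xe29 ye59 ze26) (ke xe25 ye51 ze1) (ke xe12 ye16 ze27) (ke xe23 ye42 ze18) (ke xe29 ye59 ze28) (ke xe29 ye6 ze28) (ke xe29 ye59 ze30) (ke xe12 ye16 ze31) (ke xe12 ye27 ze5) (ke xe12 ye47 ze61) (ke xe29 ye55 ze11) (ke xe29 ye59 ze32) (ke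 xe13 ye56 ze7) (ke xe23 ye23 ze35) (ke xe12 ye27 ze13) (ke xe29 ye59 ze34) (ke xe12 ye40 ze23) (ke xe29 ye59 ze35) (ke xe12 ye16 ze37) (ke xe21 ye22 ze47) (ke xe18 ye16 ze43) (ke xe12 ye16 ze44) (ke xe23 ye42 ze15) (ke xe24 ye0 ze7)) (@D3.rec (fun _ => Pt) (ke xe14 ye20 ze54) (ke xe21 ye43 ze28) (ke xe29 ye59 ze40) (ke xe12 ye16 ze50) (ke xe12 ye38 ze39) (ke xe14 ye20 ze56) (ke xe12 ye16 ze51) (ke xe17 ye34 ze20) (ke xe14 ye11 ze34) (ke xe27 ye7 ze28) (ke xe20 ye45 ze15) (ke xe12 ye16 ze53) (ke xe19 ye28 ze11) (ke xe12 ye39 ze7) (ke xe20 ye48 ze36) (ke xe19 ye5 ze60) (ke xe29 ye59 ze43) (ke xe21 ye28 ze13) (ke xe18 ye18 ze23) (ke xe21 ye46 ze59) (ke xe27 ye4 ze35) (ke xe21 ye49 ze13) (ke xe29 ye59 ze47) (ke xe24 ye10 ze48) (ke xe12 ye17 ze0) (ke xe17 ye59 ze37) (ke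 xe12 ye20 ze45) (ke xe12 ye24 ze21) (ke xe21 ye19 ze32) (ke xe20 ye53 ze21) (ke xe17 ye35 ze14) (ke xe12 ye42 ze41) (ke xe21 ye10 ze1) (ke xe20 ye53 ze18) (ke xe14 ye12 ze6) (ke xe16 ye8 ze59) (ke xe12 ye42 ze49) (ke xe12 ye43 ze12) (ke xe29 ye59 ze51) (ke xe24 ye36 ze15) (ke xe20 ye53 ze14) (ke xe12 ye17 ze15) (ke xe18 ye37 ze60) (ke xe18 ye38 ze0) (ke xe27 ye42 ze47) (ke xe24 ye39 ze24) (ke xe12 ye18 ze55) (ke xe21 ye21 ze57) (ke xe15 ye46 ze29) (ke xe21 ye26 ze9) (ke xe21 ye57 ze27) (ke xe14 ye56 ze43) (ke xe28 ye27 ze39) (ke xe24 ye45 ze48) (ke xe29 ye17 ze25) (ke xe12 ye52 ze54) (ke xe21 ye58 ze16) (ke xe26 ye11 ze27) (ke xe21 ye37 ze33) (ke xe27 ye24 ze37) (ke xe15 ye37 ze41) (ke xe12 ye17 ze37)) (@D3.rec (fun _ => Pt) (ke xe16 ye13 ze45) (ke xe17 ye40 ze4) (ke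 xe25 ye45 ze58) (ke xe15 ye5 ze2) (ke xe21 ye30 ze30) (ke xe28 ye44 ze56) (ke xe29 ye1 ze0) (ke xe12 ye17 ze49) (ke xe22 ye11 ze11) (ke xe17 ye59 ze24) (ke xe12 ye17 ze50) (ke xe14 ye47 ze36) (ke xe12 ye17 ze51) (ke xe22 ye5 ze4) (ke xe29 ye59 ze59) (ke xe12 ye25 ze56) (ke xe12 ye19 ze35) (ke xe21 ye32 ze25) (ke xe13 ye53 ze9) (ke xe13 ye24 ze24) (ke xe13 ye8 ze58) (ke xe12 ye55 ze56) (ke xe23 ye13 ze14) (ke xe12 ye55 ze49) (ke xe12 ye19 ze50) (ke xe24 ye45 ze13) (ke xe21 ye31 ze10) (ke xe27 ye48 ze22) (ke xe12 ye18 ze0) (ke xe12 ye20 ze2) (ke xe12 ye20 ze3) (ke xe27 ye35 ze33) (ke xe27 ye43 ze47) (ke xe16 ye47 ze44) (ke xe29 ye21 ze57) (ke xe29 ye22 ze33) (ke xe22 ye2 ze37) (ke xe12 ye55 ze61) (ke xe15 ye59 ze28) (ke xe21 ye20 ze21) (ke xe21 ye43 ze10) (ke xe12 ye56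 ze0) (ke xe21 ye20 ze27) (ke xe17 ye4 ze54) (ke xe16 ye13 ze34) (ke xe16 ye6 ze12) (ke xe17 ye49 ze7) (ke xe19 ye22 ze51) (ke xe14 ye54 ze55) (ke xe12 ye20 ze11) (ke xe24 ye41 ze35) (ke xe15 ye25 ze44) (ke xe12 ye18 ze14) (ke xe12 ye18 ze15) (ke xe21 ye20 ze56) (ke xe27 ye22 ze26) (ke xe12 ye20 ze33) (ke xe12 ye20 ze25) (ke xe27 ye29 ze42) (ke xe25 ye47 ze23) (ke xe19 ye44 ze21) (ke xe25 ye44 ze31)) (@D3.rec (fun _ => Pt) (ke xe12 ye35 ze46) (ke xe22 ye19 ze56) (ke xe12 ye18 ze21) (ke xe13 ye9 ze26) (ke xe23 ye5 ze20) (ke xe20 ye59 ze21) (ke xe26 ye42 ze13) (ke xe22 ye5 ze6) (ke xe30 ye0 ze11) (ke xe12 ye18 ze23) (ke xe18 ye25 ze17) (ke xe21 ye9 ze45) (ke xe27 ye29 ze23) (ke xe28 ye32 ze20) (ke xe30 ye0 ze16) (ke xe12 ye18 ze25) (ke xe17 ye10 ze7) (ke xe19 ye44 ze19)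 (ke xe13 ye52 ze58) (ke xe25 ye38 ze36) (ke xe21 ye55 ze38) (ke xe30 ye0 ze22) (ke xe12 ye18 ze33) (ke xe14 ye44 ze40) (ke xe27 ye47 ze42) (ke xe15 ye42 ze12) (ke xe30 ye0 ze27) (ke xe12 ye18 ze35) (ke xe30 ye0 ze28) (ke xe21 ye8 ze39) (ke xe30 ye0 ze32) (ke xe23 ye39 ze22) (ke xe12 ye18 ze41) (ke xe13 ye53 ze25) (ke xe16 ye4 ze30) (ke xe23 ye26 ze37) (ke xe12 ye18 ze43) (ke xe23 ye40 ze28) (ke xe14 ye55 ze13) (ke xe12 ye18 ze45) (ke xe30 ye0 ze41) (ke xe12 ye18 ze46) (ke xe23 ye42 ze4) (ke xe13 ye56 ze51) (ke xe27 ye4 ze39) (ke xe12 ye18 ze48) (ke xe28 ye1 ze30) (ke xe22 ye31 ze16) (ke xe20 ye14 ze15) (ke xe25 ye44 ze36) (ke xe12 ye18 ze51) (ke xe26 ye1 ze24) (ke xe22 ye44 ze24) (ke xe17 ye58 ze45) (ke xe21 ye34 ze9) (ke xe12 ye25 ze61) (ke xe24 ye32 ze40) (ke xe22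 ye43 ze45) (ke xe20 ye15 ze50) (ke xe30 ye0 ze51) (ke xe27 ye10 ze23) (ke xe17 ye44 ze19)) (@D3.rec (fun _ => Pt) (ke xe18 ye29 ze23) (ke xe12 ye18 ze60) (ke xe12 ye18 ze61) (ke xe24 ye43 ze7) (ke xe27 ye47 ze59) (ke xe12 ye19 ze0) (ke xe23 ye22 ze23) (ke xe27 ye46 ze43) (ke xe26 ye0 ze26) (ke xe18 ye30 ze2) (ke xe12 ye19 ze5) (ke xe14 ye56 ze39) (ke xe26 ye4 ze10) (ke xe30 ye0 ze56) (ke xe12 ye19 ze8) (ke xe12 ye19 ze10) (ke xe12 ye19 ze9) (ke xe25 ye44 ze60) (ke xe30 ye1 ze0) (ke xe12 ye19 ze12) (ke xe26 ye6 ze24) (ke xe27 ye26 ze16) (ke xe12 ye19 ze13) (ke xe18 ye29 ze5) (ke xe21 ye55 ze49) (ke xe18 ye28 ze14) (ke xe23 ye32 ze58) (ke xe12 ye19 ze15) (ke xe30 ye1 ze5) (ke xe12 ye19 ze17) (ke xe23 ye1 ze58) (ke xe12 ye19 ze18) (ke xe15 ye13 ze53) (ke xe27 ye44 ze33)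 (ke xe12 ye19 ze22) (ke xe18 ye36 ze60) (ke xe21 ye58 ze18) (ke xe30 ye1 ze8) (ke xe26 ye14 ze37) (ke xe14 ye2 ze46) (ke xe12 ye50 ze27) (ke xe21 ye30 ze28) (ke xe15 ye33 ze15) (ke xe12 ye19 ze28) (ke xe27 ye56 ze3) (ke xe15 ye34 ze46) (ke xe30 ye1 ze12) (ke xe20 ye16 ze30) (ke xe29 ye58 ze47) (ke xe12 ye19 ze32) (ke xe12 ye43 ze28) (ke xe18 ye49 ze49) (ke xe12 ye24 ze36) (ke xe16 ye9 ze1) (ke xe25 ye45 ze26) (ke xe21 ye20 ze6) (ke xe17 ye7 ze32) (ke xe12 ye36 ze28) (ke xe12 ye37 ze12) (ke xe21 ye58 ze60) (ke xe17 ye43 ze1) (ke xe27 ye48 ze12)) (@D3.rec (fun _ => Pt) (ke xe21 ye57 ze16) (ke xe26 ye14 ze23) (ke xe18 ye26 ze31) (ke xe12 ye19 ze52) (ke xe30 ye1 ze14) (ke xe28 ye2 ze32) (ke xe12 ye19 ze53) (ke xe21 ye31 ze55) (ke xe18 ye26 ze30) (ke xe21 ye22 ze49) (ke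 xe26 ye12 ze3) (ke xe13 ye20 ze0) (ke xe21 ye31 ze53) (ke xe27 ye28 ze35) (ke xe18 ye16 ze59) (ke xe21 ye31 ze52) (ke xe26 ye14 ze1) (ke xe30 ye0 ze60) (ke xe26 ye3 ze57) (ke xe17 ye16 ze7) (ke xe21 ye19 ze38) (ke xe21 ye34 ze10) (ke xe26 ye14 ze43) (ke xe12 ye20 ze5) (ke xe21 ye32 ze17) (ke xe21 ye32 ze18) (ke xe17 ye58 ze0) (ke xe12 ye37 ze56) (ke xe12 ye20 ze9) (ke xe25 ye45 ze2) (ke xe12 ye20 ze13) (ke xe12 ye20 ze14) (ke xe27 ye3 ze46) (ke xe16 ye13 ze58) (ke xe18 ye58 ze16) (ke xe28 ye1 ze25) (ke xe26 ye59 ze1) (ke xe28 ye8 ze38) (ke xe12 ye20 ze20) (ke xe30 ye1 ze22) (ke xe12 ye20 ze28) (ke xe12 ye39 ze47) (ke xe25 ye52 ze25) (ke xe12 ye20 ze31) (ke xe27 ye17 ze52) (ke xe12 ye20 ze37) (ke xe21 ye52 ze1) (ke xe22 ye8 ze60) (ke xe16 ye7 ze57) (ke xe27 ye48 ze32)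 (ke xe28 ye16 ze19) (ke xe12 ye20 ze40) (ke xe29 ye15 ze28) (ke xe18 ye24 ze18) (ke xe18 ye14 ze5) (ke xe29 ye59 ze50) (ke xe28 ye1 ze10) (ke xe21 ye54 ze59) (ke xe17 ye30 ze54) (ke xe12 ye26 ze4) (ke xe12 ye50 ze44) (ke xe12 ye26 ze7)) (@D3.rec (fun _ => Pt) (ke xe17 ye58 ze10) (ke xe27 ye11 ze23) (ke xe25 ye29 ze23) (ke xe21 ye5 ze20) (ke xe23 ye27 ze34) (ke xe12 ye20 ze58) (ke xe18 ye8 ze0) (ke xe27 ye26 ze11) (ke xe24 ye17 ze31) (ke xe12 ye20 ze59) (ke xe21 ye5 ze45) (ke xe19 ye35 ze47) (ke xe25 ye31 ze8) (ke xe30 ye1 ze32) (ke xe12 ye21 ze2) (ke xe25 ye44 ze11) (ke xe12 ye21 ze3) (ke xe15 ye59 ze25) (ke xe15 ye56 ze51) (ke xe25 ye30 ze18) (ke xe29 ye59 ze17) (ke xe12 ye21 ze5) (ke xe30 ye1 ze36) (ke xe18 ye51 ze8) (ke xe27 ye5 ze1) (ke xe15 ye53 ze4) (ke xe21 ye5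 ze28) (ke xe23 ye36 ze25) (ke xe30 ye1 ze41) (ke xe12 ye21 ze9) (ke xe12 ye21 ze11) (ke xe15 ye35 ze6) (ke xe30 ye1 ze45) (ke xe12 ye21 ze12) (ke xe19 ye23 ze27) (ke xe21 ye36 ze11) (ke xe30 ye1 ze49) (ke xe12 ye21 ze15) (ke xe21 ye18 ze49) (ke xe25 ye54 ze55) (ke xe12 ye21 ze16) (ke xe26 ye4 ze0) (ke xe12 ye21 ze17) (ke xe26 ye0 ze20) (ke xe26 ye1 ze31) (ke xe30 ye1 ze51) (ke xe12 ye21 ze19) (ke xe13 ye50 ze58) (ke xe12 ye40 ze11) (ke xe21 ye19 ze2) (ke xe30 ye1 ze58) (ke xe23 ye42 ze17) (ke xe12 ye21 ze23) (ke xe22 ye31 ze55) (ke xe15 ye47 ze57) (ke xe13 ye25 ze60) (ke xe12 ye21 ze26) (ke xe25 ye44 ze9) (ke xe12 ye21 ze27) (ke xe25 ye37 ze6) (ke xe12 ye21 ze28) (ke xe21 ye43 ze57)) (@D3.rec (fun _ => Pt) (ke xe21 ye56 ze29) (ke xe30 ye2 ze0) (ke xe30 ye2 ze5) (ke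 xe12 ye21 ze33) (ke xe23 ye2 ze39) (ke xe27 ye4 ze4) (ke xe26 ye9 ze22) (ke xe21 ye18 ze56) (ke xe13 ye51 ze45) (ke xe30 ye2 ze13) (ke xe30 ye2 ze16) (ke xe30 ye2 ze7) (ke xe30 ye2 ze21) (ke xe21 ye22 ze17) (ke xe27 ye57 ze8) (ke xe12 ye41 ze51) (ke xe23 ye17 ze18) (ke xe12 ye21 ze38) (ke xe26 ye0 ze32) (ke xe30 ye2 ze26) (ke xe17 ye35 ze29) (ke xe30 ye2 ze28) (ke xe12 ye21 ze41) (ke xe30 ye2 ze29) (ke xe30 ye2 ze30) (ke xe12 ye21 ze42) (ke xe17 ye35 ze36) (ke xe20 ye27 ze45) (ke xe26 ye1 ze50) (ke xe12 ye21 ze45) (ke xe21 ye36 ze24) (ke xe22 ye10 ze24) (ke xe16 ye15 ze37) (ke xe21 ye16 ze59) (ke xe12 ye38 ze21) (ke xe12 ye53 ze6) (ke xe12 ye21 ze53) (ke xe26 ye14 ze57) (ke xe12 ye21 ze54) (ke xe16 ye27 ze51) (ke xe24 ye31 ze21) (ke xe22 ye3 ze9) (ke xe29 ye22 ze32)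 (ke xe18 ye21 ze7) (ke xe12 ye21 ze60) (ke xe27 ye58 ze49) (ke xe12 ye22 ze0) (ke xe30 ye2 ze35) (ke xe12 ye22 ze2) (ke xe12 ye32 ze11) (ke xe12 ye22 ze6) (ke xe29 ye31 ze51) (ke xe12 ye37 ze54) (ke xe17 ye51 ze23) (ke xe23 ye3 ze58) (ke xe12 ye22 ze9) (ke xe15 ye27 ze20) (ke xe12 ye22 ze12) (ke xe12 ye22 ze13) (ke xe20 ye35 ze22) (ke xe27 ye36 ze24) (ke xe20 ye6 ze59)) (@D3.rec (fun _ => Pt) (ke xe22 ye56 ze55) (ke xe18 ye23 ze41) (ke xe24 ye57 ze40) (ke xe20 ye52 ze18) (ke xe12 ye22 ze22) (ke xe16 ye25 ze24) (ke xe20 ye17 ze42) (ke xe23 ye3 ze59) (ke xe12 ye22 ze26) (ke xe17 ye2 ze48) (ke xe30 ye2 ze39) (ke xe21 ye52 ze59) (ke xe24 ye24 ze1) (ke xe12 ye22 ze30) (ke xe30 ye2 ze43) (ke xe20 ye26 ze26) (ke xe27 ye39 ze17) (ke xe26 ye6 ze41) (ke xe12 ye22 ze53) (ke xe23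 ye3 ze23) (ke xe16 ye25 ze45) (ke xe28 ye13 ze26) (ke xe12 ye22 ze36) (ke xe20 ye0 ze31) (ke xe12 ye22 ze58) (ke xe14 ye59 ze40) (ke xe26 ye22 ze37) (ke xe13 ye52 ze49) (ke xe30 ye2 ze52) (ke xe12 ye22 ze42) (ke xe30 ye2 ze54) (ke xe15 ye13 ze9) (ke xe26 ye0 ze33) (ke xe28 ye11 ze59) (ke xe12 ye22 ze44) (ke xe26 ye17 ze15) (ke xe28 ye42 ze42) (ke xe28 ye11 ze61) (ke xe12 ye22 ze47) (ke xe24 ye36 ze37) (ke xe30 ye2 ze60) (ke xe12 ye22 ze48) (ke xe26 ye6 ze35) (ke xe30 ye3 ze1) (ke xe30 ye2 ze51) (ke xe13 ye55 ze19) (ke xe23 ye34 ze47) (ke xe15 ye29 ze43) (ke xe22 ye30 ze45) (ke xe16 ye11 ze51) (ke xe12 ye22 ze54) (ke xe30 ye2 ze49) (ke xe30 ye3 ze4) (ke xe14 ye1 ze51) (ke xe18 ye18 ze39) (ke xe30 ye2 ze50) (ke xe28 ye10 ze52) (ke xe18 ye20 ze3) (ke xe15 ye5 ze45) (ke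 xe26 ye18 ze61) (ke xe13 ye33 ze10) (ke xe12 ye23 ze4)) (@D3.rec (fun _ => Pt) (ke xe14 ye7 ze20) (ke xe21 ye30 ze49) (ke xe22 ye32 ze39) (ke xe23 ye16 ze56) (ke xe12 ye23 ze6) (ke xe27 ye40 ze45) (ke xe12 ye23 ze7) (ke xe16 ye35 ze26) (ke xe15 ye4 ze47) (ke xe19 ye48 ze22) (ke xe12 ye23 ze11) (ke xe21 ye5 ze50) (ke xe19 ye53 ze10) (ke xe18 ye22 ze44) (ke xe26 ye26 ze29) (ke xe12 ye23 ze14) (ke xe15 ye47 ze44) (ke xe15 ye47 ze39) (ke xe30 ye3 ze19) (ke xe12 ye23 ze19) (ke xe21 ye50 ze52) (ke xe24 ye51 ze51) (ke xe21 ye45 ze33) (ke xe12 ye23 ze29) (ke xe16 ye0 ze8) (ke xe12 ye23 ze27) (ke xe25 ye16 ze32) (ke xe21 ye34 ze54) (ke xe21 ye25 ze41) (ke xe27 ye19 ze32) (ke xe21 ye23 ze4) (ke xe19 ye17 ze15) (ke xe18 ye48 ze41) (ke xe21 ye57 ze47) (ke xe19 ye48 ze53) (ke xe12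 ye23 ze35) (ke xe19 ye4 ze15) (ke xe27 ye9 ze33) (ke xe14 ye33 ze52) (ke xe12 ye44 ze42) (ke xe19 ye4 ze14) (ke xe12 ye23 ze40) (ke xe12 ye23 ze46) (ke xe20 ye26 ze22) (ke xe13 ye47 ze20) (ke xe26 ye32 ze45) (ke xe12 ye23 ze49) (ke xe14 ye40 ze1) (ke xe13 ye57 ze42) (ke xe21 ye30 ze1) (ke xe22 ye46 ze43) (ke xe12 ye23 ze51) (ke xe15 ye47 ze36) (ke xe12 ye35 ze31) (ke xe20 ye26 ze13) (ke xe12 ye24 ze9) (ke xe17 ye22 ze35) (ke xe17 ye22 ze32) (ke xe22 ye9 ze37) (ke xe27 ye31 ze10) (ke xe16 ye15 ze26) (ke xe16 ye13 ze39)) (@D3.rec (fun _ => Pt) (ke xe25 ye45 ze55) (ke xe23 ye2 ze47) (ke xe25 ye45 ze54) (ke xe12 ye50 ze41) (ke xe12 ye50 ze36) (ke xe25 ye44 ze28) (ke xe20 ye14 ze19) (ke xe28 ye1 ze9) (ke xe26 ye10 ze57) (ke xe22 ye11 ze16) (ke xe21 ye23 ze26) (ke xe22 ye2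 ze28) (ke xe16 ye8 ze40) (ke xe15 ye38 ze32) (ke xe16 ye14 ze28) (ke xe12 ye24 ze27) (ke xe16 ye13 ze48) (ke xe17 ye40 ze10) (ke xe21 ye18 ze60) (ke xe25 ye41 ze1) (ke xe13 ye25 ze16) (ke xe21 ye19 ze34) (ke xe21 ye19 ze35) (ke xe30 ye3 ze30) (ke xe30 ye3 ze25) (ke xe27 ye45 ze15) (ke xe20 ye36 ze19) (ke xe14 ye57 ze10) (ke xe12 ye24 ze35) (ke xe26 ye13 ze1) (ke xe15 ye42 ze29) (ke xe27 ye22 ze4) (ke xe14 ye46 ze27) (ke xe30 ye3 ze37) (ke xe29 ye27 ze56) (ke xe12 ye39 ze44) (ke xe30 ye3 ze38) (ke xe12 ye24 ze40) (ke xe12 ye24 ze42) (ke xe21 ye36 ze16) (ke xe12 ye27 ze29) (ke xe27 ye6 ze5) (ke xe14 ye20 ze44) (ke xe17 ye53 ze23) (ke xe26 ye44 ze10) (ke xe19 ye50 ze20) (ke xe20 ye5 ze1) (ke xe21 ye3 ze14) (ke xe24 ye16 ze34) (ke xe25 ye55 ze42) (ke xe27 ye30 ze2) (ke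 xe27 ye56 ze13) (ke xe21 ye26 ze15) (ke xe21 ye26 ze12) (ke xe18 ye3 ze44) (ke xe21 ye26 ze7) (ke xe14 ye2 ze50) (ke xe19 ye51 ze46) (ke xe12 ye25 ze4) (ke xe19 ye39 ze54) (ke xe30 ye3 ze49) (ke xe27 ye40 ze51)) (@D3.rec (fun _ => Pt) (ke xe16 ye6 ze33) (ke xe16 ye7 ze16) (ke xe17 ye15 ze58) (ke xe12 ye59 ze54) (ke xe17 ye14 ze0) (ke xe12 ye58 ze39) (ke xe13 ye55 ze33) (ke xe12 ye25 ze12) (ke xe18 ye16 ze7) (ke xe21 ye44 ze34) (ke xe21 ye52 ze58) (ke xe17 ye14 ze38) (ke xe12 ye50 ze54) (ke xe14 ye12 ze15) (ke xe24 ye19 ze2) (ke xe18 ye16 ze31) (ke xe12 ye25 ze15) (ke xe21 ye26 ze24) (ke xe21 ye26 ze25) (ke xe21 ye37 ze16) (ke xe28 ye37 ze38) (ke xe12 ye25 ze20) (ke xe30 ye3 ze56) (ke xe27 ye22 ze36) (ke xe12 ye25 ze23) (ke xe21 ye23 ze17) (ke xe14 ye29 ze47) (ke xe17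 ye48 ze37) (ke xe23 ye13 ze2) (ke xe23 ye12 ze61) (ke xe17 ye48 ze28) (ke xe13 ye34 ze23) (ke xe12 ye25 ze28) (ke xe14 ye48 ze36) (ke xe26 ye1 ze11) (ke xe12 ye25 ze31) (ke xe14 ye48 ze15) (ke xe20 ye13 ze59) (ke xe19 ye34 ze19) (ke xe16 ye47 ze18) (ke xe20 ye19 ze35) (ke xe20 ye19 ze50) (ke xe22 ye16 ze49) (ke xe12 ye25 ze43) (ke xe21 ye36 ze33) (ke xe27 ye43 ze31) (ke xe20 ye18 ze53) (ke xe21 ye4 ze27) (ke xe12 ye25 ze50) (ke xe27 ye26 ze39) (ke xe16 ye20 ze0) (ke xe25 ye58 ze54) (ke xe12 ye25 ze53) (ke xe12 ye25 ze54) (ke xe15 ye36 ze32) (ke xe16 ye14 ze20) (ke xe22 ye30 ze18) (ke xe30 ye0 ze49) (ke xe12 ye26 ze0) (ke xe12 ye26 ze1) (ke xe30 ye1 ze25) (ke xe15 ye43 ze32)) (@D3.rec (fun _ => Pt) (ke xe23 ye3 ze52) (ke xe26 ye2 ze6) (ke xe19 ye43 ze54) (ke xe30 ye4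 ze6) (ke xe25 ye55 ze10) (ke xe30 ye1 ze26) (ke xe19 ye57 ze32) (ke xe12 ye26 ze8) (ke xe16 ye45 ze56) (ke xe12 ye50 ze39) (ke xe25 ye42 ze35) (ke xe24 ye44 ze40) (ke xe12 ye27 ze19) (ke xe21 ye18 ze50) (ke xe27 ye17 ze60) (ke xe29 ye6 ze34) (ke xe12 ye26 ze13) (ke xe12 ye36 ze43) (ke xe15 ye36 ze30) (ke xe12 ye26 ze14) (ke xe13 ye57 ze13) (ke xe12 ye47 ze11) (ke xe26 ye47 ze0) (ke xe12 ye26 ze17) (ke xe12 ye39 ze57) (ke xe21 ye10 ze2) (ke xe19 ye59 ze59) (ke xe12 ye26 ze18) (ke xe12 ye26 ze19) (ke xe16 ye59 ze52) (ke xe16 ye7 ze18) (ke xe22 ye5 ze58) (ke xe22 ye14 ze34) (ke xe28 ye9 ze16) (ke xe27 ye41 ze27) (ke xe30 ye4 ze11) (ke xe25 ye42 ze15) (ke xe18 ye57 ze1) (ke xe17 ye45 ze9) (ke xe22 ye11 ze15) (ke xe12 ye26 ze30) (ke xe21 ye33 ze47) (ke xe30 ye4 ze14) (ke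 xe28 ye40 ze53) (ke xe17 ye52 ze51) (ke xe21 ye59 ze37) (ke xe30 ye4 ze16) (ke xe21 ye33 ze41) (ke xe24 ye18 ze32) (ke xe12 ye50 ze22) (ke xe27 ye27 ze4) (ke xe30 ye4 ze17) (ke xe27 ye10 ze22) (ke xe12 ye26 ze39) (ke xe30 ye4 ze18) (ke xe23 ye44 ze15) (ke xe12 ye26 ze40) (ke xe14 ye2 ze48) (ke xe27 ye26 ze61) (ke xe30 ye4 ze21) (ke xe30 ye4 ze22) (ke xe21 ye42 ze11)) (@D3.rec (fun _ => Pt) (ke xe21 ye37 ze10) (ke xe12 ye30 ze40) (ke xe27 ye25 ze60) (ke xe16 ye6 ze54) (ke xe26 ye59 ze15) (ke xe17 ye20 ze42) (ke xe23 ye42 ze46) (ke xe12 ye26 ze52) (ke xe23 ye44 ze19) (ke xe21 ye24 ze54) (ke xe21 ye26 ze21) (ke xe23 ye23 ze51) (ke xe30 ye4 ze26) (ke xe23 ye22 ze47) (ke xe27 ye47 ze22) (ke xe25 ye41 ze0) (ke xe24 ye42 ze15) (ke xe26 ye48 ze14) (ke xe30 ye4 ze31) (ke xe12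 ye27 ze1) (ke xe27 ye26 ze55) (ke xe28 ye31 ze24) (ke xe15 ye43 ze19) (ke xe26 ye22 ze49) (ke xe12 ye27 ze3) (ke xe22 ye38 ze17) (ke xe12 ye27 ze7) (ke xe24 ye38 ze17) (ke xe12 ye40 ze28) (ke xe14 ye5 ze32) (ke xe12 ye27 ze10) (ke xe28 ye41 ze13) (ke xe24 ye38 ze25) (ke xe12 ye27 ze11) (ke xe16 ye5 ze12) (ke xe14 ye6 ze18) (ke xe30 ye4 ze47) (ke xe22 ye44 ze55) (ke xe12 ye27 ze14) (ke xe30 ye4 ze53) (ke xe30 ye4 ze56) (ke xe21 ye19 ze31) (ke xe14 ye56 ze4) (ke xe24 ye37 ze26) (ke xe25 ye18 ze60) (ke xe12 ye27 ze20) (ke xe15 ye53 ze3) (ke xe28 ye57 ze9) (ke xe12 ye27 ze21) (ke xe30 ye4 ze58) (ke xe16 ye7 ze27) (ke xe29 ye51 ze59) (ke xe12 ye27 ze23) (ke xe25 ye44 ze55) (ke xe21 ye30 ze27) (ke xe18 ye39 ze10) (ke xe27 ye37 ze38) (ke xe12 ye27 ze26) (ke xe24 ye44 ze42)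 (ke xe17 ye35 ze10) (ke xe12 ye46 ze5) (ke xe12 ye27 ze40)) (@D3.rec (fun _ => Pt) (ke xe12 ye27 ze41) (ke xe20 ye51 ze44) (ke xe12 ye27 ze44) (ke xe28 ye1 ze8) (ke xe12 ye27 ze51) (ke xe12 ye27 ze54) (ke xe14 ye26 ze52) (ke xe21 ye7 ze52) (ke xe12 ye42 ze29) (ke xe12 ye28 ze6) (ke xe12 ye28 ze5) (ke xe30 ye4 ze60) (ke xe16 ye57 ze15) (ke xe27 ye42 ze21) (ke xe12 ye28 ze12) (ke xe14 ye11 ze18) (ke xe27 ye22 ze37) (ke xe17 ye4 ze53) (ke xe18 ye10 ze45) (ke xe12 ye28 ze28) (ke xe19 ye49 ze57) (ke xe17 ye42 ze34) (ke xe27 ye59 ze13) (ke xe14 ye24 ze5) (ke xe25 ye39 ze25) (ke xe14 ye11 ze48) (ke xe30 ye5 ze5) (ke xe12 ye28 ze35) (ke xe17 ye12 ze41) (ke xe18 ye39 ze22) (ke xe12 ye37 ze21) (ke xe21 ye7 ze53) (ke xe12 ye47 ze19) (ke xe12 ye45 ze1) (ke xe14 ye14 ze19) (ke xe29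 ye23 ze18) (ke xe21 ye18 ze43) (ke xe23 ye50 ze4) (ke xe30 ye5 ze9) (ke xe30 ye5 ze10) (ke xe12 ye28 ze56) (ke xe17 ye31 ze0) (ke xe12 ye28 ze57) (ke xe16 ye31 ze34) (ke xe27 ye43 ze11) (ke xe21 ye8 ze11) (ke xe30 ye5 ze12) (ke xe12 ye28 ze60) (ke xe12 ye28 ze61) (ke xe18 ye50 ze33) (ke xe16 ye57 ze35) (ke xe12 ye29 ze4) (ke xe28 ye10 ze32) (ke xe12 ye29 ze5) (ke xe18 ye26 ze15) (ke xe30 ye5 ze13) (ke xe22 ye13 ze5) (ke xe20 ye40 ze4) (ke xe21 ye50 ze37) (ke xe29 ye18 ze7) (ke xe12 ye29 ze16) (ke xe19 ye37 ze43)) (@D3.rec (fun _ => Pt) (ke xe12 ye29 ze17) (ke xe12 ye29 ze19) (ke xe19 ye32 ze24) (ke xe29 ye22 ze14) (ke xe15 ye46 ze36) (ke xe15 ye22 ze33) (ke xe27 ye3 ze57) (ke xe12 ye29 ze23) (ke xe28 ye27 ze38) (ke xe26 ye5 ze57) (ke xe12 ye29 ze30) (ke xe21 ye27 ze35)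 (ke xe29 ye59 ze52) (ke xe12 ye29 ze31) (ke xe17 ye57 ze58) (ke xe18 ye43 ze27) (ke xe21 ye31 ze39) (ke xe28 ye27 ze42) (ke xe12 ye29 ze33) (ke xe20 ye19 ze19) (ke xe26 ye4 ze6) (ke xe22 ye27 ze53) (ke xe12 ye29 ze35) (ke xe24 ye19 ze45) (ke xe21 ye28 ze30) (ke xe12 ye29 ze38) (ke xe15 ye48 ze17) (ke xe21 ye8 ze14) (ke xe19 ye10 ze41) (ke xe12 ye46 ze61) (ke xe29 ye50 ze8) (ke xe14 ye33 ze41) (ke xe15 ye30 ze25) (ke xe21 ye32 ze44) (ke xe23 ye3 ze46) (ke xe16 ye29 ze19) (ke xe12 ye29 ze57) (ke xe19 ye53 ze12) (ke xe15 ye49 ze5) (ke xe19 ye41 ze33) (ke xe12 ye30 ze14) (ke xe26 ye37 ze31) (ke xe12 ye30 ze6) (ke xe19 ye25 ze23) (ke xe23 ye55 ze24) (ke xe18 ye52 ze8) (ke xe17 ye13 ze21) (ke xe17 ye13 ze46) (ke xe29 ye25 ze39) (ke xe20 ye16 ze48) (ke xe21 ye3 ze51) (ke xe16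 ye47 ze28) (ke xe17 ye1 ze33) (ke xe17 ye32 ze20) (ke xe30 ye5 ze22) (ke xe19 ye50 ze39) (ke xe29 ye41 ze46) (ke xe30 ye5 ze23) (ke xe20 ye49 ze45) (ke xe17 ye45 ze28) (ke xe27 ye20 ze27) (ke xe12 ye30 ze45)) (@D3.rec (fun _ => Pt) (ke xe16 ye15 ze4) (ke xe29 ye17 ze23) (ke xe18 ye7 ze29) (ke xe18 ye8 ze4) (ke xe27 ye20 ze9) (ke xe27 ye30 ze58) (ke xe16 ye14 ze61) (ke xe26 ye48 ze15) (ke xe23 ye16 ze23) (ke xe12 ye30 ze41) (ke xe21 ye34 ze0) (ke xe17 ye40 ze43) (ke xe24 ye55 ze36) (ke xe12 ye30 ze43) (ke xe30 ye5 ze28) (ke xe12 ye30 ze48) (ke xe21 ye32 ze19) (ke xe12 ye30 ze51) (ke xe16 ye52 ze31) (ke xe12 ye30 ze54) (ke xe27 ye42 ze17) (ke xe29 ye19 ze9) (ke xe12 ye30 ze58) (ke xe26 ye43 ze48) (ke xe17 ye56 ze25) (ke xe20 ye40 ze22) (ke xe12 ye31 ze3) (ke xe12 ye31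 ze7) (ke xe12 ye31 ze19) (ke xe18 ye7 ze52) (ke xe23 ye37 ze47) (ke xe18 ye8 ze9) (ke xe12 ye31 ze23) (ke xe21 ye22 ze58) (ke xe12 ye31 ze27) (ke xe12 ye31 ze28) (ke xe12 ye31 ze30) (ke xe12 ye31 ze32) (ke xe25 ye47 ze7) (ke xe12 ye31 ze37) (ke xe19 ye58 ze39) (ke xe12 ye31 ze35) (ke xe22 ye21 ze28) (ke xe12 ye31 ze36) (ke xe15 ye4 ze4) (ke xe12 ye31 ze44) (ke xe12 ye31 ze45) (ke xe30 ye5 ze31) (ke xe12 ye31 ze47) (ke xe12 ye49 ze20) (ke xe22 ye7 ze54) (ke xe26 ye43 ze52) (ke xe19 ye43 ze22) (ke xe12 ye31 ze49) (ke xe26 ye2 ze26) (ke xe30 ye5 ze33) (ke xe12 ye31 ze50) (ke xe12 ye31 ze53) (ke xe23 ye45 ze0) (ke xe12 ye31 ze54) (ke xe17 ye56 ze15) (ke xe24 ye55 ze42)) (@D3.rec (fun _ => Pt) (ke xe16 ye59 ze45) (ke xe28 ye55 ze58) (ke xe12 ye32 ze0) (ke xe29 ye38 ze55)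 (ke xe12 ye32 ze2) (ke xe12 ye32 ze4) (ke xe21 ye9 ze34) (ke xe19 ye46 ze59) (ke xe29 ye26 ze58) (ke xe24 ye32 ze44) (ke xe21 ye53 ze53) (ke xe29 ye18 ze49) (ke xe12 ye32 ze12) (ke xe19 ye50 ze36) (ke xe12 ye32 ze15) (ke xe21 ye15 ze56) (ke xe12 ye32 ze16) (ke xe20 ye23 ze1) (ke xe23 ye43 ze1) (ke xe17 ye12 ze60) (ke xe12 ye32 ze19) (ke xe25 ye17 ze45) (ke xe19 ye52 ze28) (ke xe18 ye5 ze10) (ke xe26 ye13 ze61) (ke xe27 ye2 ze50) (ke xe18 ye21 ze18) (ke xe23 ye46 ze29) (ke xe23 ye46 ze31) (ke xe28 ye26 ze46) (ke xe30 ye5 ze38) (ke xe12 ye32 ze33) (ke xe30 ye5 ze42) (ke xe30 ye5 ze43) (ke xe12 ye32 ze34) (ke xe30 ye5 ze47) (ke xe30 ye5 ze51) (ke xe28 ye52 ze3) (ke xe12 ye32 ze35) (ke xe19 ye42 ze25) (ke xe22 ye40 ze7) (ke xe22 ye40 ze11) (ke xe20 ye37 ze50) (ke xe13 ye1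 ze60) (ke xe30 ye5 ze58) (ke xe12 ye32 ze43) (ke xe19 ye20 ze42) (ke xe17 ye32 ze0) (ke xe13 ye3 ze8) (ke xe28 ye18 ze61) (ke xe12 ye32 ze48) (ke xe13 ye37 ze54) (ke xe30 ye6 ze1) (ke xe30 ye6 ze2) (ke xe12 ye32 ze58) (ke xe23 ye46 ze39) (ke xe12 ye32 ze61) (ke xe12 ye33 ze0) (ke xe12 ye37 ze32) (ke xe22 ye12 ze1) (ke xe12 ye33 ze3) (ke xe18 ye36 ze15)) (@D3.rec (fun _ => Pt) (ke xe12 ye33 ze5) (ke xe30 ye6 ze7) (ke xe29 ye51 ze7) (ke xe24 ye43 ze41) (ke xe30 ye6 ze14) (ke xe12 ye33 ze6) (ke xe13 ye9 ze48) (ke xe23 ye52 ze61) (ke xe18 ye54 ze2) (ke xe19 ye13 ze6) (ke xe18 ye47 ze24) (ke xe30 ye6 ze17) (ke xe12 ye33 ze13) (ke xe27 ye3 ze14) (ke xe25 ye44 ze4) (ke xe27 ye30 ze22) (ke xe27 ye7 ze38) (ke xe25 ye6 ze59) (ke xe23 ye36 ze8) (ke xe12 ye33 ze29) (ke xe21 ye17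 ze11) (ke xe22 ye6 ze19) (ke xe29 ye0 ze18) (ke xe19 ye37 ze11) (ke xe17 ye21 ze41) (ke xe15 ye40 ze23) (ke xe24 ye8 ze45) (ke xe21 ye46 ze35) (ke xe25 ye33 ze32) (ke xe30 ye6 ze29) (ke xe12 ye33 ze22) (ke xe12 ye33 ze23) (ke xe27 ye43 ze52) (ke xe30 ye6 ze21) (ke xe27 ye18 ze12) (ke xe25 ye32 ze55) (ke xe16 ye27 ze25) (ke xe25 ye9 ze9) (ke xe30 ye6 ze38) (ke xe16 ye28 ze42) (ke xe12 ye33 ze27) (ke xe18 ye52 ze16) (ke xe13 ye32 ze21) (ke xe12 ye33 ze28) (ke xe19 ye36 ze17) (ke xe30 ye6 ze42) (ke xe22 ye56 ze5) (ke xe19 ye36 ze21) (ke xe15 ye32 ze57) (ke xe12 ye33 ze31) (ke xe30 ye6 ze50) (ke xe12 ye33 ze32) (ke xe14 ye19 ze28) (ke xe27 ye3 ze12) (ke xe12 ye33 ze35) (ke xe14 ye19 ze42) (ke xe14 ye13 ze20) (ke xe12 ye33 ze41) (ke xe26 ye44 ze54) (ke xe25 ye51 ze42) (ke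 xe12 ye33 ze45) (ke xe16 ye46 ze41)) (@D3.rec (fun _ => Pt) (ke xe21 ye16 ze57) (ke xe15 ye47 ze3) (ke xe15 ye57 ze11) (ke xe21 ye5 ze4) (ke xe22 ye24 ze8) (ke xe30 ye6 ze55) (ke xe25 ye25 ze18) (ke xe12 ye33 ze57) (ke xe29 ye14 ze57) (ke xe20 ye36 ze41) (ke xe20 ye37 ze13) (ke xe25 ye47 ze36) (ke xe30 ye6 ze59) (ke xe12 ye33 ze61) (ke xe30 ye6 ze60) (ke xe18 ye47 ze34) (ke xe20 ye27 ze10) (ke xe16 ye46 ze36) (ke xe29 ye23 ze23) (ke xe30 ye6 ze61) (ke xe19 ye25 ze24) (ke xe12 ye34 ze3) (ke xe23 ye56 ze6) (ke xe12 ye34 ze7) (ke xe30 ye7 ze2) (ke xe12 ye34 ze8) (ke xe13 ye33 ze27) (ke xe24 ye25 ze32) (ke xe19 ye30 ze59) (ke xe12 ye34 ze13) (ke xe12 ye34 ze14) (ke xe12 ye34 ze16) (ke xe12 ye34 ze17) (ke xe22 ye37 ze4) (ke xe12 ye37 ze41) (ke xe17 ye9 ze59) (ke xe29 ye9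 ze2) (ke xe25 ye20 ze9) (ke xe12 ye34 ze19) (ke xe14 ye11 ze31) (ke xe20 ye12 ze18) (ke xe25 ye44 ze20) (ke xe30 ye7 ze9) (ke xe14 ye36 ze2) (ke xe30 ye7 ze10) (ke xe12 ye34 ze23) (ke xe12 ye34 ze24) (ke xe12 ye38 ze26) (ke xe17 ye59 ze20) (ke xe12 ye34 ze26) (ke xe30 ye7 ze12) (ke xe30 ye6 ze5) (ke xe12 ye34 ze35) (ke xe23 ye11 ze37) (ke xe21 ye45 ze15) (ke xe23 ye10 ze55) (ke xe29 ye57 ze61) (ke xe25 ye58 ze19) (ke xe23 ye37 ze18) (ke xe30 ye7 ze19) (ke xe30 ye7 ze21) (ke xe30 ye7 ze24)) (@D3.rec (fun _ => Pt) (ke xe12 ye34 ze36) (ke xe30 ye7 ze26) (ke xe14 ye45 ze30) (ke xe25 ye19 ze2) (ke xe29 ye18 ze12) (ke xe28 ye11 ze21) (ke xe12 ye34 ze43) (ke xe29 ye22 ze45) (ke xe12 ye34 ze44) (ke xe12 ye34 ze45) (ke xe27 ye29 ze40) (ke xe12 ye35 ze36) (ke xe12 ye34 ze49)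 (ke xe12 ye34 ze51) (ke xe22 ye22 ze19) (ke xe23 ye47 ze3) (ke xe13 ye16 ze59) (ke xe14 ye34 ze48) (ke xe24 ye24 ze18) (ke xe25 ye57 ze59) (ke xe12 ye34 ze54) (ke xe26 ye2 ze5) (ke xe30 ye7 ze31) (ke xe12 ye34 ze55) (ke xe13 ye49 ze42) (ke xe28 ye30 ze16) (ke xe14 ye35 ze2) (ke xe12 ye34 ze61) (ke xe12 ye35 ze0) (ke xe12 ye35 ze3) (ke xe13 ye30 ze17) (ke xe12 ye35 ze4) (ke xe25 ye12 ze28) (ke xe18 ye13 ze45) (ke xe12 ye35 ze9) (ke xe12 ye35 ze11) (ke xe12 ye35 ze13) (ke xe29 ye30 ze39) (ke xe16 ye8 ze50) (ke xe12 ye35 ze16) (ke xe16 ye5 ze32) (ke xe21 ye10 ze13) (ke xe12 ye35 ze20) (ke xe12 ye36 ze13) (ke xe23 ye58 ze47) (ke xe12 ye39 ze10) (ke xe20 ye17 ze29) (ke xe21 ye55 ze4) (ke xe26 ye28 ze46) (ke xe12 ye35 ze25) (ke xe16 ye28 ze31) (ke xe13 ye4 ze14) (ke xe12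 ye39 ze14) (ke xe20 ye17 ze28) (ke xe29 ye22 ze43) (ke xe12 ye58 ze57) (ke xe14 ye36 ze40) (ke xe17 ye38 ze9) (ke xe14 ye37 ze5) (ke xe27 ye29 ze43) (ke xe18 ye24 ze1) (ke xe16 ye14 ze33)) (@D3.rec (fun _ => Pt) (ke xe12 ye35 ze53) (ke xe14 ye14 ze32) (ke xe17 ye37 ze40) (ke xe17 ye53 ze58) (ke xe12 ye35 ze42) (ke xe25 ye18 ze7) (ke xe12 ye35 ze44) (ke xe29 ye22 ze44) (ke xe18 ye5 ze6) (ke xe12 ye35 ze47) (ke xe12 ye35 ze48) (ke xe21 ye33 ze61) (ke xe12 ye35 ze51) (ke xe27 ye3 ze56) (ke xe25 ye15 ze37) (ke xe18 ye3 ze32) (ke xe12 ye35 ze54) (ke xe21 ye20 ze3) (ke xe17 ye5 ze0) (ke xe12 ye35 ze56) (ke xe27 ye3 ze44) (ke xe19 ye35 ze51) (ke xe26 ye57 ze50) (ke xe28 ye10 ze30) (ke xe19 ye35 ze52) (ke xe12 ye35 ze59) (ke xe17 ye30 ze52) (ke xe21 ye58 ze59) (ke xe21 ye44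 ze22) (ke xe14 ye33 ze18) (ke xe12 ye40 ze54) (ke xe12 ye40 ze56) (ke xe27 ye43 ze26) (ke xe18 ye17 ze11) (ke xe20 ye40 ze25) (ke xe20 ye17 ze14) (ke xe17 ye29 ze51) (ke xe30 ye5 ze11) (ke xe12 ye36 ze21) (ke xe14 ye36 ze42) (ke xe29 ye43 ze26) (ke xe21 ye18 ze41) (ke xe21 ye45 ze59) (ke xe12 ye36 ze27) (ke xe12 ye36 ze29) (ke xe18 ye17 ze14) (ke xe20 ye51 ze51) (ke xe12 ye41 ze0) (ke xe12 ye36 ze36) (ke xe21 ye17 ze56) (ke xe12 ye36 ze34) (ke xe12 ye36 ze44) (ke xe12 ye59 ze33) (ke xe27 ye23 ze5) (ke xe12 ye36 ze42) (ke xe22 ye2 ze61) (ke xe15 ye35 ze20) (ke xe27 ye19 ze38) (ke xe25 ye55 ze19) (ke xe12 ye36 ze45) (ke xe22 ye8 ze26) (ke xe22 ye8 ze27)) (@D3.rec (fun _ => Pt) (ke xe15 ye44 ze12) (ke xe22 ye31 ze7) (ke xe29 ye58 ze17) (ke xe14 ye55 ze23) (ke xe23 ye24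 ze19) (ke xe17 ye36 ze24) (ke xe12 ye36 ze51) (ke xe29 ye31 ze40) (ke xe19 ye17 ze13) (ke xe20 ye37 ze55) (ke xe21 ye23 ze40) (ke xe14 ye34 ze55) (ke xe12 ye37 ze2) (ke xe25 ye13 ze7) (ke xe18 ye12 ze41) (ke xe15 ye17 ze61) (ke xe12 ye36 ze61) (ke xe12 ye37 ze0) (ke xe19 ye56 ze61) (ke xe25 ye13 ze1) (ke xe19 ye46 ze25) (ke xe19 ye46 ze18) (ke xe25 ye12 ze49) (ke xe12 ye37 ze3) (ke xe15 ye43 ze15) (ke xe30 ye7 ze57) (ke xe15 ye42 ze38) (ke xe30 ye7 ze58) (ke xe21 ye22 ze1) (ke xe30 ye7 ze59) (ke xe30 ye7 ze60) (ke xe30 ye7 ze61) (ke xe12 ye37 ze8) (ke xe23 ye40 ze7) (ke xe16 ye7 ze28) (ke xe25 ye54 ze61) (ke xe12 ye37 ze13) (ke xe12 ye45 ze14) (ke xe12 ye43 ze9) (ke xe16 ye31 ze31) (ke xe18 ye22 ze16) (ke xe18 ye2 ze31) (ke xe15 ye48 ze9) (ke xe14 ye36 ze14) (ke xe12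 ye42 ze16) (ke xe27 ye41 ze31) (ke xe12 ye37 ze26) (ke xe25 ye13 ze3) (ke xe15 ye25 ze32) (ke xe12 ye37 ze25) (ke xe30 ye8 ze4) (ke xe30 ye8 ze9) (ke xe29 ye42 ze28) (ke xe27 ye23 ze15) (ke xe14 ye14 ze2) (ke xe12 ye37 ze30) (ke xe16 ye9 ze27) (ke xe21 ye27 ze61) (ke xe17 ye52 ze36) (ke xe12 ye37 ze33) (ke xe12 ye37 ze34) (ke xe20 ye46 ze23)) (@D3.rec (fun _ => Pt) (ke xe21 ye19 ze39) (ke xe12 ye37 ze36) (ke xe12 ye51 ze14) (ke xe28 ye1 ze43) (ke xe12 ye37 ze40) (ke xe12 ye37 ze39) (ke xe16 ye45 ze53) (ke xe12 ye37 ze45) (ke xe13 ye17 ze48) (ke xe15 ye59 ze3) (ke xe12 ye37 ze44) (ke xe27 ye17 ze32) (ke xe26 ye22 ze55) (ke xe29 ye31 ze47) (ke xe30 ye2 ze37) (ke xe12 ye37 ze52) (ke xe14 ye13 ze41) (ke xe29 ye19 ze12) (ke xe12 ye37 ze53) (ke xe25 ye17 ze37) (ke xe15 ye6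 ze22) (ke xe17 ye15 ze23) (ke xe21 ye42 ze28) (ke xe26 ye12 ze58) (ke xe29 ye14 ze50) (ke xe12 ye37 ze57) (ke xe28 ye12 ze39) (ke xe12 ye37 ze58) (ke xe15 ye59 ze2) (ke xe14 ye16 ze50) (ke xe12 ye37 ze61) (ke xe20 ye27 ze56) (ke xe30 ye8 ze16) (ke xe12 ye38 ze2) (ke xe21 ye32 ze9) (ke xe16 ye56 ze23) (ke xe22 ye47 ze14) (ke xe16 ye28 ze18) (ke xe29 ye24 ze55) (ke xe12 ye38 ze7) (ke xe21 ye15 ze16) (ke xe20 ye45 ze13) (ke xe29 ye22 ze57) (ke xe25 ye19 ze3) (ke xe17 ye30 ze61) (ke xe12 ye38 ze13) (ke xe20 ye27 ze57) (ke xe12 ye45 ze35) (ke xe12 ye38 ze16) (ke xe12 ye46 ze17) (ke xe20 ye19 ze49) (ke xe12 ye38 ze18) (ke xe22 ye14 ze38) (ke xe23 ye16 ze49) (ke xe12 ye53 ze9) (ke xe26 ye22 ze60) (ke xe12 ye38 ze25) (ke xe14 ye34 ze56) (ke xe30 ye8 ze17) (ke xe27 ye43 ze13)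 (ke xe22 ye46 ze34) (ke xe20 ye19 ze24)) (@D3.rec (fun _ => Pt) (ke xe18 ye50 ze21) (ke xe12 ye39 ze25) (ke xe12 ye38 ze49) (ke xe27 ye51 ze4) (ke xe30 ye8 ze18) (ke xe22 ye3 ze15) (ke xe12 ye38 ze53) (ke xe18 ye35 ze57) (ke xe24 ye28 ze49) (ke xe12 ye38 ze56) (ke xe12 ye41 ze60) (ke xe30 ye8 ze22) (ke xe12 ye38 ze60) (ke xe15 ye43 ze13) (ke xe23 ye59 ze10) (ke xe21 ye40 ze54) (ke xe19 ye56 ze36) (ke xe13 ye15 ze13) (ke xe19 ye54 ze27) (ke xe13 ye25 ze11) (ke xe21 ye6 ze10) (ke xe21 ye6 ze0) (ke xe14 ye48 ze38) (ke xe14 ye2 ze19) (ke xe14 ye37 ze27) (ke xe30 ye8 ze27) (ke xe12 ye39 ze3) (ke xe30 ye8 ze28) (ke xe12 ye39 ze6) (ke xe27 ye45 ze48) (ke xe22 ye41 ze16) (ke xe12 ye39 ze15) (ke xe22 ye8 ze39) (ke xe21 ye30 ze22) (ke xe15 ye53 ze2) (ke xe17 ye5 ze15) (ke xe22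 ye33 ze29) (ke xe27 ye17 ze2) (ke xe15 ye56 ze49) (ke xe27 ye11 ze35) (ke xe20 ye36 ze20) (ke xe27 ye19 ze55) (ke xe13 ye40 ze56) (ke xe12 ye39 ze35) (ke xe20 ye13 ze15) (ke xe22 ye10 ze43) (ke xe12 ye39 ze36) (ke xe25 ye17 ze17) (ke xe17 ye43 ze38) (ke xe12 ye39 ze39) (ke xe23 ye23 ze32) (ke xe27 ye23 ze1) (ke xe15 ye39 ze49) (ke xe12 ye39 ze40) (ke xe24 ye2 ze55) (ke xe22 ye37 ze5) (ke xe25 ye43 ze48) (ke xe12 ye39 ze42) (ke xe22 ye37 ze13) (ke xe21 ye42 ze42) (ke xe30 ye1 ze24) (ke xe17 ye10 ze24)) (@D3.rec (fun _ => Pt) (ke xe27 ye59 ze29) (ke xe12 ye39 ze46) (ke xe15 ye39 ze60) (ke xe25 ye4 ze4) (ke xe20 ye22 ze54) (ke xe23 ye34 ze32) (ke xe12 ye54 ze33) (ke xe27 ye23 ze7) (ke xe30 ye8 ze40) (ke xe14 ye55 ze25) (ke xe12 ye39 ze55) (ke xe24 ye7 ze8) (ke xe28 ye59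 ze2) (ke xe30 ye8 ze43) (ke xe12 ye39 ze58) (ke xe25 ye45 ze36) (ke xe27 ye37 ze53) (ke xe25 ye28 ze8) (ke xe12 ye39 ze61) (ke xe30 ye3 ze26) (ke xe22 ye3 ze2) (ke xe27 ye11 ze22) (ke xe30 ye8 ze47) (ke xe26 ye16 ze55) (ke xe15 ye17 ze31) (ke xe15 ye17 ze30) (ke xe25 ye26 ze58) (ke xe12 ye40 ze4) (ke xe12 ye40 ze5) (ke xe28 ye42 ze61) (ke xe26 ye58 ze20) (ke xe29 ye58 ze40) (ke xe15 ye24 ze5) (ke xe13 ye0 ze5) (ke xe16 ye1 ze41) (ke xe21 ye39 ze27) (ke xe16 ye0 ze53) (ke xe21 ye5 ze56) (ke xe12 ye40 ze14) (ke xe12 ye40 ze16) (ke xe27 ye22 ze8) (ke xe26 ye40 ze35) (ke xe17 ye55 ze42) (ke xe12 ye40 ze22) (ke xe25 ye41 ze17) (ke xe21 ye6 ze7) (ke xe23 ye23 ze28) (ke xe27 ye7 ze45) (ke xe30 ye8 ze49) (ke xe12 ye40 ze24) (ke xe14 ye11 ze22) (ke xe24 ye45 ze20) (ke xe21 ye18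 ze31) (ke xe24 ye41 ze59) (ke xe12 ye40 ze26) (ke xe14 ye54 ze47) (ke xe21 ye5 ze61) (ke xe29 ye32 ze48) (ke xe12 ye40 ze30) (ke xe21 ye22 ze19) (ke xe30 ye8 ze56) (ke xe12 ye40 ze33)) (@D3.rec (fun _ => Pt) (ke xe12 ye40 ze34) (ke xe29 ye52 ze9) (ke xe30 ye8 ze59) (ke xe30 ye8 ze60) (ke xe12 ye40 ze36) (ke xe12 ye40 ze37) (ke xe12 ye47 ze20) (ke xe20 ye45 ze32) (ke xe21 ye21 ze1) (ke xe13 ye20 ze37) (ke xe20 ye9 ze61) (ke xe27 ye54 ze32) (ke xe17 ye31 ze39) (ke xe29 ye22 ze23) (ke xe17 ye31 ze60) (ke xe27 ye4 ze3) (ke xe18 ye0 ze24) (ke xe24 ye33 ze58) (ke xe12 ye40 ze61) (ke xe18 ye26 ze7) (ke xe19 ye14 ze57) (ke xe30 ye9 ze2) (ke xe17 ye31 ze23) (ke xe30 ye9 ze4) (ke xe18 ye29 ze20) (ke xe12 ye41 ze3) (ke xe20 ye14 ze54) (ke xe30 ye9 ze5) (ke xe28 ye36 ze42) (ke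 xe18 ye0 ze28) (ke xe29 ye38 ze19) (ke xe22 ye25 ze13) (ke xe17 ye50 ze4) (ke xe12 ye41 ze10) (ke xe14 ye47 ze55) (ke xe14 ye46 ze59) (ke xe17 ye3 ze52) (ke xe12 ye41 ze13) (ke xe22 ye21 ze53) (ke xe20 ye46 ze13) (ke xe20 ye41 ze26) (ke xe29 ye1 ze21) (ke xe12 ye41 ze15) (ke xe15 ye21 ze9) (ke xe25 ye45 ze6) (ke xe14 ye37 ze22) (ke xe24 ye2 ze57) (ke xe18 ye24 ze59) (ke xe20 ye13 ze17) (ke xe18 ye17 ze44) (ke xe12 ye41 ze19) (ke xe30 ye9 ze16) (ke xe12 ye41 ze20) (ke xe24 ye7 ze11) (ke xe20 ye13 ze47) (ke xe18 ye26 ze8) (ke xe30 ye9 ze19) (ke xe12 ye41 ze22) (ke xe24 ye33 ze55) (ke xe30 ye9 ze21) (ke xe12 ye41 ze23) (ke xe25 ye12 ze57)) (@D3.rec (fun _ => Pt) (ke xe25 ye48 ze51) (ke xe12 ye41 ze43) (ke xe19 ye46 ze17) (ke xe25 ye12 ze50) (ke xe12 ye41 ze25) (ke xe22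 ye6 ze2) (ke xe17 ye4 ze31) (ke xe17 ye33 ze11) (ke xe26 ye34 ze7) (ke xe12 ye41 ze27) (ke xe30 ye0 ze17) (ke xe12 ye41 ze28) (ke xe12 ye41 ze29) (ke xe29 ye35 ze26) (ke xe21 ye53 ze50) (ke xe26 ye4 ze54) (ke xe30 ye9 ze33) (ke xe12 ye41 ze30) (ke xe25 ye44 ze58) (ke xe30 ye9 ze36) (ke xe26 ye4 ze49) (ke xe29 ye17 ze31) (ke xe21 ye21 ze25) (ke xe17 ye8 ze60) (ke xe21 ye8 ze9) (ke xe25 ye36 ze36) (ke xe30 ye9 ze42) (ke xe12 ye41 ze35) (ke xe21 ye21 ze21) (ke xe22 ye5 ze49) (ke xe12 ye47 ze47) (ke xe23 ye13 ze28) (ke xe29 ye41 ze50) (ke xe30 ye9 ze48) (ke xe12 ye41 ze39) (ke xe23 ye13 ze25) (ke xe26 ye23 ze18) (ke xe30 ye9 ze55) (ke xe30 ye9 ze56) (ke xe26 ye55 ze0) (ke xe28 ye41 ze55) (ke xe30 ye9 ze24) (ke xe30 ye10 ze1) (ke xe25 ye13 ze5) (ke xe30 ye10 ze3) (ke xe12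 ye41 ze44) (ke xe22 ye5 ze54) (ke xe25 ye12 ze53) (ke xe29 ye16 ze29) (ke xe12 ye41 ze49) (ke xe30 ye7 ze39) (ke xe17 ye29 ze46) (ke xe18 ye22 ze22) (ke xe30 ye10 ze9) (ke xe23 ye27 ze11) (ke xe27 ye53 ze41) (ke xe12 ye41 ze54) (ke xe24 ye9 ze46) (ke xe26 ye0 ze1) (ke xe21 ye4 ze55) (ke xe12 ye41 ze57) (ke xe23 ye29 ze17)) (@D3.rec (fun _ => Pt) (ke xe30 ye10 ze19) (ke xe12 ye41 ze58) (ke xe21 ye6 ze3) (ke xe30 ye8 ze21) (ke xe30 ye10 ze27) (ke xe12 ye41 ze61) (ke xe23 ye22 ze51) (ke xe21 ye6 ze30) (ke xe17 ye38 ze34) (ke xe26 ye47 ze34) (ke xe12 ye42 ze1) (ke xe21 ye6 ze34) (ke xe14 ye3 ze5) (ke xe21 ye22 ze21) (ke xe30 ye10 ze30) (ke xe12 ye42 ze3) (ke xe26 ye1 ze53) (ke xe29 ye14 ze5) (ke xe30 ye10 ze36) (ke xe30 ye10 ze39) (ke xe30 ye10 ze42) (ke xe30 ye10 ze45)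 (ke xe12 ye42 ze6) (ke xe30 ye10 ze48) (ke xe12 ye42 ze7) (ke xe23 ye39 ze11) (ke xe12 ye42 ze8) (ke xe16 ye0 ze34) (ke xe12 ye42 ze9) (ke xe22 ye37 ze48) (ke xe30 ye10 ze57) (ke xe30 ye10 ze58) (ke xe12 ye42 ze11) (ke xe23 ye27 ze18) (ke xe27 ye41 ze32) (ke xe30 ye5 ze61) (ke xe23 ye27 ze17) (ke xe21 ye59 ze31) (ke xe27 ye55 ze56) (ke xe17 ye31 ze16) (ke xe12 ye42 ze25) (ke xe28 ye24 ze2) (ke xe14 ye27 ze1) (ke xe17 ye35 ze19) (ke xe12 ye42 ze30) (ke xe23 ye54 ze2) (ke xe29 ye59 ze25) (ke xe12 ye42 ze31) (ke xe17 ye35 ze20) (ke xe21 ye7 ze32) (ke xe12 ye42 ze35) (ke xe21 ye7 ze12) (ke xe17 ye30 ze59) (ke xe26 ye11 ze20) (ke xe12 ye42 ze39) (ke xe16 ye15 ze60) (ke xe20 ye15 ze32) (ke xe26 ye13 ze6) (ke xe25 ye10 ze0) (ke xe15 ye37 ze50) (ke xe12 ye45 ze42) (ke xe27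 ye59 ze26)) (@D3.rec (fun _ => Pt) (ke xe17 ye27 ze48) (ke xe29 ye56 ze21) (ke xe22 ye3 ze1) (ke xe22 ye2 ze14) (ke xe22 ye0 ze19) (ke xe25 ye28 ze48) (ke xe19 ye26 ze45) (ke xe21 ye58 ze13) (ke xe29 ye56 ze18) (ke xe19 ye35 ze5) (ke xe24 ye42 ze43) (ke xe12 ye42 ze53) (ke xe30 ye11 ze11) (ke xe12 ye42 ze54) (ke xe21 ye20 ze9) (ke xe20 ye14 ze43) (ke xe18 ye10 ze22) (ke xe20 ye53 ze31) (ke xe12 ye43 ze5) (ke xe30 ye3 ze21) (ke xe15 ye25 ze20) (ke xe12 ye43 ze10) (ke xe24 ye18 ze4) (ke xe30 ye11 ze14) (ke xe24 ye16 ze31) (ke xe27 ye19 ze47) (ke xe20 ye18 ze7) (ke xe15 ye8 ze56) (ke xe12 ye46 ze56) (ke xe13 ye36 ze36) (ke xe30 ye11 ze21) (ke xe15 ye19 ze27) (ke xe29 ye3 ze36) (ke xe12 ye43 ze17) (ke xe20 ye15 ze28) (ke xe28 ye59 ze7) (ke xe29 ye4 ze8) (ke xe21 ye35 ze58)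 (ke xe12 ye43 ze19) (ke xe27 ye1 ze51) (ke xe12 ye43 ze20) (ke xe12 ye43 ze25) (ke xe18 ye0 ze5) (ke xe25 ye18 ze53) (ke xe12 ye43 ze29) (ke xe12 ye43 ze32) (ke xe16 ye7 ze21) (ke xe17 ye59 ze61) (ke xe20 ye34 ze38) (ke xe27 ye36 ze32) (ke xe17 ye49 ze47) (ke xe26 ye5 ze39) (ke xe21 ye30 ze20) (ke xe30 ye11 ze27) (ke xe29 ye22 ze61) (ke xe12 ye43 ze49) (ke xe25 ye44 ze41) (ke xe17 ye2 ze10) (ke xe12 ye43 ze48) (ke xe29 ye43 ze15) (ke xe29 ye17 ze11) (ke xe25 ye48 ze60)) (@D3.rec (fun _ => Pt) (ke xe30 ye0 ze7) (ke xe12 ye43 ze50) (ke xe17 ye12 ze53) (ke xe25 ye45 ze43) (ke xe26 ye45 ze56) (ke xe30 ye11 ze31) (ke xe29 ye22 ze19) (ke xe27 ye55 ze60) (ke xe16 ye9 ze28) (ke xe27 ye9 ze24) (ke xe12 ye43 ze56) (ke xe12 ye43 ze59) (ke xe20 ye12 ze50) (ke xe18 ye46 ze10) (ke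 xe12 ye44 ze0) (ke xe17 ye11 ze26) (ke xe23 ye27 ze21) (ke xe29 ye22 ze21) (ke xe17 ye30 ze5) (ke xe28 ye10 ze27) (ke xe17 ye58 ze48) (ke xe12 ye44 ze7) (ke xe29 ye22 ze60) (ke xe12 ye44 ze9) (ke xe18 ye23 ze16) (ke xe25 ye17 ze29) (ke xe16 ye57 ze8) (ke xe20 ye7 ze18) (ke xe14 ye8 ze29) (ke xe19 ye2 ze30) (ke xe16 ye28 ze44) (ke xe19 ye42 ze54) (ke xe25 ye17 ze35) (ke xe20 ye12 ze49) (ke xe17 ye5 ze1) (ke xe27 ye9 ze30) (ke xe12 ye44 ze21) (ke xe26 ye59 ze19) (ke xe26 ye51 ze6) (ke xe28 ye17 ze2) (ke xe12 ye44 ze24) (ke xe16 ye51 ze56) (ke xe12 ye44 ze57) (ke xe20 ye21 ze43) (ke xe12 ye44 ze31) (ke xe29 ye28 ze53) (ke xe12 ye44 ze32) (ke xe26 ye6 ze1) (ke xe27 ye36 ze31) (ke xe20 ye9 ze29) (ke xe21 ye51 ze55) (ke xe12 ye44 ze36) (ke xe12 ye44 ze37) (ke xe16 ye25 ze30)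 (ke xe15 ye49 ze22) (ke xe21 ye51 ze50) (ke xe16 ye38 ze61) (ke xe12 ye44 ze40) (ke xe24 ye53 ze44) (ke xe29 ye52 ze23) (ke xe18 ye25 ze23) (ke xe12 ye44 ze45)) (@D3.rec (fun _ => Pt) (ke xe27 ye9 ze31) (ke xe21 ye26 ze46) (ke xe22 ye36 ze43) (ke xe19 ye18 ze5) (ke xe12 ye44 ze49) (ke xe25 ye31 ze11) (ke xe26 ye58 ze60) (ke xe17 ye19 ze47) (ke xe26 ye57 ze52) (ke xe22 ye6 ze30) (ke xe12 ye44 ze55) (ke xe26 ye33 ze32) (ke xe30 ye11 ze34) (ke xe12 ye44 ze59) (ke xe14 ye20 ze51) (ke xe14 ye12 ze8) (ke xe17 ye23 ze60) (ke xe17 ye35 ze12) (ke xe28 ye10 ze0) (ke xe12 ye45 ze10) (ke xe12 ye45 ze11) (ke xe26 ye50 ze28) (ke xe19 ye48 ze56) (ke xe13 ye16 ze30) (ke xe29 ye28 ze51) (ke xe28 ye13 ze38) (ke xe17 ye26 ze40) (ke xe30 ye11 ze37) (ke xe23 ye45 ze49) (ke xe30 ye11 ze41)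 (ke xe28 ye50 ze13) (ke xe14 ye40 ze49) (ke xe30 ye11 ze44) (ke xe12 ye45 ze24) (ke xe14 ye20 ze53) (ke xe30 ye11 ze46) (ke xe19 ye12 ze53) (ke xe12 ye45 ze26) (ke xe26 ye40 ze14) (ke xe30 ye11 ze50) (ke xe14 ye31 ze35) (ke xe12 ye45 ze28) (ke xe30 ye11 ze56) (ke xe14 ye38 ze1) (ke xe12 ye45 ze29) (ke xe30 ye11 ze57) (ke xe20 ye48 ze49) (ke xe30 ye11 ze60) (ke xe30 ye11 ze61) (ke xe12 ye45 ze31) (ke xe30 ye12 ze0) (ke xe14 ye44 ze19) (ke xe29 ye40 ze14) (ke xe12 ye45 ze33) (ke xe12 ye45 ze34) (ke xe30 ye12 ze3) (ke xe12 ye45 ze36) (ke xe30 ye12 ze5) (ke xe21 ye32 ze10) (ke xe21 ye29 ze11) (ke xe12 ye46 ze32) (ke xe23 ye6 ze50)) (@D3.rec (fun _ => Pt) (ke xe14 ye26 ze51) (ke xe21 ye14 ze8) (ke xe26 ye28 ze21) (ke xe23 ye9 ze9) (ke xe28 ye9 ze41) (ke xe14 ye53 ze40) (ke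 xe12 ye45 ze50) (ke xe12 ye45 ze52) (ke xe19 ye8 ze0) (ke xe30 ye12 ze6) (ke xe12 ye45 ze54) (ke xe26 ye5 ze27) (ke xe19 ye7 ze12) (ke xe25 ye50 ze27) (ke xe12 ye45 ze55) (ke xe20 ye28 ze13) (ke xe28 ye44 ze41) (ke xe12 ye45 ze58) (ke xe19 ye5 ze35) (ke xe24 ye19 ze51) (ke xe12 ye46 ze59) (ke xe17 ye26 ze1) (ke xe18 ye36 ze13) (ke xe25 ye25 ze35) (ke xe27 ye12 ze16) (ke xe23 ye12 ze24) (ke xe12 ye46 ze3) (ke xe29 ye30 ze56) (ke xe18 ye38 ze14) (ke xe29 ye18 ze9) (ke xe12 ye46 ze8) (ke xe12 ye46 ze9) (ke xe26 ye22 ze36) (ke xe12 ye46 ze15) (ke xe12 ye46 ze16) (ke xe12 ye46 ze21) (ke xe15 ye6 ze19) (ke xe23 ye18 ze13) (ke xe30 ye12 ze16) (ke xe12 ye46 ze23) (ke xe16 ye33 ze14) (ke xe12 ye46 ze27) (ke xe21 ye54 ze17) (ke xe12 ye46 ze31) (ke xe13 ye14 ze16) (ke xe23 ye10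 ze48) (ke xe13 ye52 ze8) (ke xe17 ye29 ze35) (ke xe12 ye46 ze35) (ke xe30 ye11 ze13) (ke xe21 ye48 ze14) (ke xe17 ye22 ze61) (ke xe16 ye57 ze17) (ke xe21 ye38 ze10) (ke xe12 ye46 ze41) (ke xe22 ye42 ze11) (ke xe22 ye42 ze45) (ke xe18 ye59 ze43) (ke xe14 ye59 ze45) (ke xe22 ye46 ze44) (ke xe27 ye20 ze51) (ke xe23 ye10 ze46)) (@D3.rec (fun _ => Pt) (ke xe26 ye5 ze28) (ke xe12 ye46 ze46) (ke xe20 ye18 ze37) (ke xe12 ye51 ze7) (ke xe18 ye2 ze29) (ke xe12 ye56 ze28) (ke xe27 ye20 ze1) (ke xe20 ye28 ze17) (ke xe21 ye21 ze32) (ke xe30 ye12 ze25) (ke xe12 ye46 ze50) (ke xe26 ye57 ze13) (ke xe30 ye12 ze26) (ke xe14 ye15 ze59) (ke xe12 ye46 ze52) (ke xe18 ye39 ze20) (ke xe26 ye28 ze3) (ke xe21 ye53 ze42) (ke xe24 ye38 ze32) (ke xe12 ye46 ze54) (ke xe15 ye24 ze15) (ke xe14 ye36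 ze5) (ke xe30 ye11 ze17) (ke xe12 ye46 ze57) (ke xe23 ye47 ze24) (ke xe17 ye53 ze28) (ke xe19 ye28 ze42) (ke xe13 ye19 ze1) (ke xe12 ye47 ze3) (ke xe30 ye12 ze33) (ke xe20 ye14 ze5) (ke xe18 ye50 ze9) (ke xe20 ye34 ze35) (ke xe19 ye42 ze33) (ke xe22 ye3 ze36) (ke xe17 ye49 ze9) (ke xe26 ye46 ze7) (ke xe14 ye50 ze17) (ke xe16 ye25 ze14) (ke xe12 ye47 ze12) (ke xe14 ye37 ze58) (ke xe16 ye31 ze2) (ke xe17 ye16 ze8) (ke xe12 ye47 ze21) (ke xe22 ye2 ze31) (ke xe12 ye47 ze25) (ke xe19 ye43 ze25) (ke xe12 ye47 ze26) (ke xe18 ye0 ze11) (ke xe29 ye27 ze44) (ke xe18 ye29 ze36) (ke xe20 ye21 ze53) (ke xe24 ye30 ze37) (ke xe12 ye47 ze30) (ke xe27 ye43 ze17) (ke xe20 ye40 ze20) (ke xe12 ye47 ze34) (ke xe20 ye26 ze15) (ke xe30 ye12 ze37) (ke xe21 ye26 ze57) (ke xe26 ye18 ze1) (ke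 xe22 ye38 ze50)) (@D3.rec (fun _ => Pt) (ke xe28 ye43 ze12) (ke xe23 ye19 ze45) (ke xe12 ye47 ze40) (ke xe17 ye37 ze21) (ke xe21 ye41 ze47) (ke xe14 ye11 ze30) (ke xe22 ye44 ze20) (ke xe12 ye47 ze45) (ke xe17 ye8 ze61) (ke xe12 ye47 ze48) (ke xe26 ye22 ze34) (ke xe15 ye32 ze0) (ke xe30 ye12 ze42) (ke xe30 ye12 ze44) (ke xe14 ye36 ze38) (ke xe18 ye1 ze2) (ke xe14 ye10 ze4) (ke xe12 ye47 ze58) (ke xe12 ye47 ze59) (ke xe29 ye12 ze11) (ke xe12 ye48 ze28) (ke xe29 ye59 ze31) (ke xe23 ye22 ze10) (ke xe12 ye48 ze1) (ke xe13 ye9 ze34) (ke xe13 ye54 ze40) (ke xe13 ye59 ze28) (ke xe12 ye48 ze4) (ke xe13 ye19 ze21) (ke xe22 ye18 ze31) (ke xe25 ye2 ze17) (ke xe12 ye48 ze14) (ke xe14 ye3 ze4) (ke xe30 ye5 ze17) (ke xe28 ye3 ze52) (ke xe12 ye48 ze9) (ke xe23 ye52 ze34) (ke xe23 ye22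 ze50) (ke xe21 ye24 ze20) (ke xe28 ye28 ze27) (ke xe12 ye48 ze12) (ke xe27 ye48 ze31) (ke xe24 ye44 ze1) (ke xe23 ye44 ze46) (ke xe12 ye48 ze13) (ke xe30 ye12 ze56) (ke xe30 ye1 ze56) (ke xe30 ye13 ze3) (ke xe30 ye4 ze19) (ke xe21 ye25 ze24) (ke xe12 ye48 ze16) (ke xe30 ye13 ze7) (ke xe25 ye1 ze50) (ke xe28 ye12 ze25) (ke xe30 ye13 ze9) (ke xe21 ye6 ze48) (ke xe30 ye8 ze45) (ke xe23 ye43 ze47) (ke xe12 ye48 ze20) (ke xe14 ye56 ze6) (ke xe24 ye41 ze42) (ke xe22 ye45 ze58)) (@D3.rec (fun _ => Pt) (ke xe25 ye37 ze3) (ke xe12 ye48 ze22) (ke xe29 ye11 ze22) (ke xe30 ye13 ze16) (ke xe30 ye13 ze20) (ke xe12 ye48 ze23) (ke xe25 ye32 ze53) (ke xe30 ye13 ze21) (ke xe26 ye9 ze9) (ke xe12 ye48 ze26) (ke xe23 ye21 ze16) (ke xe30 ye13 ze23) (ke xe25 ye37 ze49) (ke xe30 ye12 ze48)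 (ke xe24 ye41 ze37) (ke xe25 ye14 ze45) (ke xe28 ye49 ze36) (ke xe26 ye47 ze58) (ke xe12 ye48 ze31) (ke xe29 ye11 ze46) (ke xe30 ye13 ze28) (ke xe12 ye48 ze33) (ke xe23 ye21 ze11) (ke xe14 ye21 ze29) (ke xe19 ye15 ze37) (ke xe16 ye10 ze47) (ke xe12 ye48 ze35) (ke xe12 ye48 ze36) (ke xe23 ye43 ze42) (ke xe21 ye28 ze0) (ke xe16 ye41 ze51) (ke xe22 ye28 ze8) (ke xe12 ye48 ze39) (ke xe23 ye37 ze35) (ke xe12 ye48 ze40) (ke xe24 ye43 ze49) (ke xe26 ye8 ze0) (ke xe23 ye37 ze22) (ke xe30 ye13 ze33) (ke xe23 ye21 ze13) (ke xe12 ye48 ze43) (ke xe23 ye2 ze7) (ke xe12 ye48 ze44) (ke xe30 ye13 ze39) (ke xe30 ye13 ze40) (ke xe30 ye13 ze43) (ke xe30 ye13 ze44) (ke xe12 ye48 ze45) (ke xe23 ye44 ze21) (ke xe23 ye37 ze29) (ke xe30 ye13 ze50) (ke xe12 ye48 ze47) (ke xe30 ye13 ze54) (ke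 xe16 ye12 ze2) (ke xe14 ye44 ze39) (ke xe22 ye31 ze56) (ke xe12 ye48 ze49) (ke xe14 ye39 ze51) (ke xe30 ye13 ze60) (ke xe14 ye44 ze43) (ke xe22 ye31 ze22) (ke xe12 ye48 ze51)) (@D3.rec (fun _ => Pt) (ke xe23 ye17 ze39) (ke xe25 ye46 ze41) (ke xe14 ye10 ze53) (ke xe30 ye14 ze1) (ke xe24 ye10 ze44) (ke xe12 ye48 ze53) (ke xe24 ye59 ze55) (ke xe14 ye55 ze38) (ke xe12 ye48 ze54) (ke xe12 ye48 ze56) (ke xe28 ye13 ze57) (ke xe24 ye36 ze33) (ke xe17 ye37 ze10) (ke xe25 ye15 ze36) (ke xe30 ye4 ze12) (ke xe30 ye14 ze6) (ke xe21 ye26 ze0) (ke xe21 ye4 ze28) (ke xe16 ye15 ze45) (ke xe30 ye1 ze11) (ke xe28 ye57 ze52) (ke xe12 ye49 ze7) (ke xe12 ye49 ze8) (ke xe27 ye40 ze27) (ke xe12 ye49 ze11) (ke xe12 ye49 ze12) (ke xe26 ye43 ze50) (ke xe21 ye22 ze50) (ke xe13 ye0 ze47) (ke xe27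 ye39 ze19) (ke xe26 ye57 ze53) (ke xe12 ye49 ze15) (ke xe13 ye0 ze60) (ke xe13 ye0 ze61) (ke xe19 ye24 ze53) (ke xe29 ye18 ze5) (ke xe29 ye6 ze14) (ke xe16 ye58 ze42) (ke xe25 ye42 ze9) (ke xe12 ye49 ze19) (ke xe29 ye16 ze49) (ke xe19 ye46 ze41) (ke xe25 ye49 ze48) (ke xe25 ye7 ze47) (ke xe26 ye42 ze32) (ke xe18 ye23 ze25) (ke xe20 ye0 ze38) (ke xe21 ye30 ze33) (ke xe26 ye40 ze12) (ke xe15 ye54 ze33) (ke xe12 ye49 ze35) (ke xe24 ye38 ze6) (ke xe12 ye49 ze36) (ke xe28 ye55 ze55) (ke xe20 ye3 ze11) (ke xe12 ye49 ze39) (ke xe12 ye49 ze56) (ke xe25 ye53 ze60) (ke xe27 ye20 ze14) (ke xe28 ye8 ze4) (ke xe28 ye54 ze11) (ke xe16 ye40 ze3)) (@D3.rec (fun _ => Pt) (ke xe13 ye1 ze2) (ke xe12 ye58 ze15) (ke xe27 ye43 ze61) (ke xe15 ye20 ze31) (ke xe25 ye7 ze6) (ke xe30 ye14 ze17)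 (ke xe18 ye1 ze44) (ke xe29 ye34 ze36) (ke xe15 ye34 ze10) (ke xe14 ye51 ze21) (ke xe29 ye37 ze12) (ke xe29 ye15 ze58) (ke xe22 ye9 ze24) (ke xe21 ye50 ze7) (ke xe12 ye49 ze57) (ke xe12 ye49 ze58) (ke xe21 ye22 ze56) (ke xe30 ye3 ze45) (ke xe21 ye25 ze36) (ke xe23 ye22 ze28) (ke xe17 ye54 ze7) (ke xe12 ye50 ze3) (ke xe16 ye16 ze14) (ke xe21 ye0 ze61) (ke xe13 ye52 ze33) (ke xe25 ye58 ze55) (ke xe22 ye2 ze57) (ke xe16 ye17 ze12) (ke xe14 ye4 ze34) (ke xe12 ye50 ze17) (ke xe21 ye4 ze30) (ke xe27 ye45 ze25) (ke xe17 ye44 ze13) (ke xe12 ye50 ze19) (ke xe18 ye5 ze35) (ke xe16 ye14 ze34) (ke xe24 ye41 ze33) (ke xe15 ye6 ze48) (ke xe12 ye50 ze21) (ke xe16 ye18 ze9) (ke xe30 ye14 ze22) (ke xe23 ye50 ze22) (ke xe26 ye14 ze31) (ke xe27 ye45 ze7) (ke xe29 ye31 ze46) (ke xe26 ye14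 ze25) (ke xe12 ye50 ze26) (ke xe27 ye20 ze57) (ke xe23 ye22 ze20) (ke xe25 ye45 ze30) (ke xe30 ye14 ze24) (ke xe12 ye50 ze30) (ke xe12 ye50 ze33) (ke xe27 ye19 ze30) (ke xe27 ye5 ze2) (ke xe19 ye38 ze40) (ke xe27 ye4 ze59) (ke xe15 ye59 ze23) (ke xe15 ye37 ze19) (ke xe21 ye42 ze27) (ke xe21 ye25 ze59) (ke xe25 ye45 ze52)) (@D3.rec (fun _ => Pt) (ke xe30 ye4 ze8) (ke xe20 ye53 ze43) (ke xe15 ye17 ze26) (ke xe20 ye37 ze56) (ke xe27 ye22 ze5) (ke xe27 ye22 ze6) (ke xe26 ye1 ze51) (ke xe12 ye50 ze43) (ke xe25 ye18 ze56) (ke xe29 ye22 ze48) (ke xe27 ye5 ze47) (ke xe17 ye33 ze47) (ke xe27 ye25 ze6) (ke xe30 ye14 ze33) (ke xe16 ye11 ze20) (ke xe14 ye3 ze2) (ke xe25 ye49 ze10) (ke xe26 ye28 ze7) (ke xe12 ye50 ze53) (ke xe26 ye59 ze2) (ke xe23 ye50 ze23) (ke xe13 ye2 ze27) (ke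 xe21 ye4 ze41) (ke xe15 ye25 ze11) (ke xe12 ye50 ze55) (ke xe26 ye10 ze28) (ke xe21 ye4 ze42) (ke xe12 ye50 ze56) (ke xe26 ye14 ze51) (ke xe12 ye50 ze57) (ke xe17 ye50 ze41) (ke xe21 ye49 ze37) (ke xe17 ye28 ze7) (ke xe17 ye14 ze33) (ke xe30 ye14 ze39) (ke xe19 ye17 ze36) (ke xe12 ye50 ze60) (ke xe21 ye33 ze45) (ke xe16 ye18 ze11) (ke xe12 ye50 ze61) (ke xe19 ye13 ze1) (ke xe26 ye23 ze21) (ke xe12 ye51 ze2) (ke xe20 ye40 ze1) (ke xe17 ye49 ze52) (ke xe19 ye12 ze52) (ke xe14 ye25 ze51) (ke xe30 ye12 ze21) (ke xe19 ye7 ze8) (ke xe26 ye28 ze6) (ke xe21 ye7 ze29) (ke xe16 ye17 ze56) (ke xe24 ye33 ze4) (ke xe14 ye39 ze14) (ke xe21 ye21 ze2) (ke xe19 ye21 ze61) (ke xe12 ye51 ze18) (ke xe27 ye10 ze14) (ke xe30 ye14 ze46) (ke xe23 ye45 ze46) (ke xe30 ye14 ze48) (ke xe28 ye15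 ze10))
def f_e_22 : D2 → D3 → Pt := @D2.rec (fun _ => D3 → Pt) (@D3.rec (fun _ => Pt) (ke xe30 ye14 ze50) (ke xe19 ye30 ze4) (ke xe12 ye51 ze24) (ke xe30 ye14 ze53) (ke xe12 ye51 ze21) (ke xe28 ye18 ze27) (ke xe28 ye18 ze28) (ke xe30 ye14 ze57) (ke xe12 ye51 ze23) (ke xe28 ye18 ze30) (ke xe22 ye24 ze60) (ke xe28 ye15 ze11) (ke xe30 ye15 ze1) (ke xe25 ye31 ze29) (ke xe28 ye50 ze35) (ke xe17 ye12 ze42) (ke xe25 ye13 ze37) (ke xe28 ye48 ze28) (ke xe27 ye26 ze33) (ke xe21 ye50 ze4) (ke xe21 ye5 ze0) (ke xe28 ye34 ze30) (ke xe29 ye17 ze7) (ke xe20 ye55 ze26) (ke xe12 ye51 ze31) (ke xe13 ye30 ze26) (ke xe14 ye35 ze24) (ke xe28 ye23 ze56) (ke xe30 ye15 ze7) (ke xe30 ye15 ze8) (ke xe22 ye58 ze2) (ke xe12 ye51 ze36) (ke xe30 ye15 ze10) (ke xe29 ye27 ze60) (ke xe14 ye16 ze7)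 (ke xe24 ye8 ze3) (ke xe30 ye15 ze12) (ke xe15 ye58 ze46) (ke xe29 ye55 ze55) (ke xe12 ye51 ze39) (ke xe27 ye13 ze44) (ke xe28 ye53 ze46) (ke xe30 ye15 ze15) (ke xe12 ye51 ze41) (ke xe29 ye33 ze46) (ke xe12 ye51 ze43) (ke xe22 ye23 ze48) (ke xe28 ye49 ze2) (ke xe30 ye15 ze27) (ke xe12 ye51 ze45) (ke xe28 ye51 ze12) (ke xe30 ye14 ze60) (ke xe12 ye52 ze2) (ke xe30 ye15 ze32) (ke xe28 ye40 ze6) (ke xe20 ye48 ze17) (ke xe30 ye15 ze33) (ke xe29 ye55 ze51) (ke xe30 ye15 ze35) (ke xe12 ye51 ze49) (ke xe12 ye51 ze50) (ke xe30 ye15 ze38)) (@D3.rec (fun _ => Pt) (ke xe25 ye8 ze9) (ke xe12 ye51 ze51) (ke xe30 ye15 ze16) (ke xe28 ye34 ze27) (ke xe29 ye2 ze5) (ke xe30 ye15 ze40) (ke xe29 ye33 ze1) (ke xe12 ye51 ze53) (ke xe28 ye11 ze17) (ke xe14 ye43 ze59) (ke xe27 ye8 ze39) (ke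 xe29 ye18 ze43) (ke xe27 ye11 ze15) (ke xe12 ye51 ze55) (ke xe30 ye15 ze49) (ke xe22 ye23 ze7) (ke xe20 ye56 ze30) (ke xe12 ye51 ze56) (ke xe22 ye25 ze45) (ke xe12 ye51 ze59) (ke xe29 ye45 ze25) (ke xe25 ye7 ze58) (ke xe12 ye51 ze60) (ke xe29 ye2 ze9) (ke xe19 ye30 ze6) (ke xe18 ye55 ze61) (ke xe30 ye16 ze3) (ke xe28 ye57 ze60) (ke xe12 ye52 ze0) (ke xe30 ye16 ze8) (ke xe28 ye58 ze29) (ke xe12 ye52 ze1) (ke xe30 ye15 ze31) (ke xe30 ye16 ze17) (ke xe28 ye18 ze31) (ke xe28 ye40 ze14) (ke xe30 ye16 ze21) (ke xe12 ye52 ze3) (ke xe12 ye52 ze4) (ke xe30 ye16 ze24) (ke xe29 ye2 ze7) (ke xe17 ye7 ze4) (ke xe12 ye52 ze6) (ke xe26 ye36 ze21) (ke xe12 ye52 ze7) (ke xe28 ye18 ze33) (ke xe13 ye11 ze42) (ke xe17 ye24 ze50) (ke xe27 ye11 ze20) (ke xe29 ye12 ze47) (ke xe30 ye6 ze39)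 (ke xe23 ye55 ze38) (ke xe12 ye52 ze9) (ke xe12 ye52 ze10) (ke xe30 ye16 ze38) (ke xe15 ye46 ze48) (ke xe14 ye44 ze33) (ke xe21 ye5 ze7) (ke xe24 ye50 ze2) (ke xe19 ye34 ze54) (ke xe25 ye8 ze5) (ke xe12 ye52 ze15)) (@D3.rec (fun _ => Pt) (ke xe27 ye2 ze42) (ke xe21 ye5 ze18) (ke xe23 ye9 ze3) (ke xe27 ye10 ze61) (ke xe30 ye8 ze48) (ke xe12 ye52 ze19) (ke xe17 ye10 ze55) (ke xe25 ye53 ze21) (ke xe21 ye5 ze23) (ke xe12 ye52 ze21) (ke xe16 ye49 ze8) (ke xe28 ye59 ze35) (ke xe26 ye5 ze45) (ke xe12 ye52 ze27) (ke xe21 ye50 ze3) (ke xe30 ye16 ze50) (ke xe15 ye17 ze11) (ke xe19 ye45 ze29) (ke xe24 ye3 ze18) (ke xe15 ye17 ze9) (ke xe12 ye52 ze30) (ke xe26 ye23 ze27) (ke xe19 ye45 ze60) (ke xe12 ye52 ze32) (ke xe12 ye52 ze33) (ke xe25 ye56 ze56) (ke xe12 ye52 ze36) (ke xe18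 ye36 ze36) (ke xe21 ye31 ze11) (ke xe17 ye29 ze33) (ke xe12 ye58 ze32) (ke xe21 ye54 ze44) (ke xe22 ye4 ze31) (ke xe17 ye8 ze7) (ke xe12 ye58 ze45) (ke xe27 ye17 ze0) (ke xe25 ye34 ze4) (ke xe21 ye23 ze36) (ke xe19 ye36 ze36) (ke xe27 ye23 ze0) (ke xe17 ye12 ze54) (ke xe24 ye7 ze7) (ke xe25 ye6 ze2) (ke xe17 ye7 ze26) (ke xe12 ye52 ze45) (ke xe19 ye35 ze46) (ke xe19 ye46 ze24) (ke xe15 ye16 ze0) (ke xe15 ye47 ze56) (ke xe29 ye22 ze22) (ke xe12 ye52 ze49) (ke xe16 ye16 ze40) (ke xe23 ye38 ze3) (ke xe19 ye59 ze58) (ke xe12 ye52 ze53) (ke xe13 ye37 ze13) (ke xe30 ye17 ze3) (ke xe21 ye58 ze26) (ke xe19 ye35 ze44) (ke xe15 ye58 ze17) (ke xe21 ye5 ze38) (ke xe21 ye42 ze55)) (@D3.rec (fun _ => Pt) (ke xe21 ye5 ze42) (ke xe21 ye50 ze2) (ke xe21 ye46 ze20) (ke xe28 ye48 ze30)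 (ke xe13 ye42 ze49) (ke xe26 ye22 ze57) (ke xe27 ye55 ze38) (ke xe13 ye4 ze13) (ke xe16 ye13 ze30) (ke xe21 ye28 ze41) (ke xe23 ye18 ze29) (ke xe16 ye24 ze47) (ke xe17 ye9 ze45) (ke xe12 ye53 ze22) (ke xe12 ye53 ze25) (ke xe21 ye45 ze5) (ke xe12 ye53 ze28) (ke xe16 ye9 ze22) (ke xe26 ye59 ze24) (ke xe21 ye9 ze42) (ke xe12 ye53 ze37) (ke xe12 ye53 ze47) (ke xe27 ye41 ze25) (ke xe20 ye28 ze12) (ke xe29 ye40 ze61) (ke xe28 ye7 ze57) (ke xe14 ye25 ze24) (ke xe18 ye33 ze47) (ke xe19 ye17 ze10) (ke xe30 ye17 ze14) (ke xe17 ye3 ze17) (ke xe12 ye53 ze46) (ke xe30 ye16 ze37) (ke xe15 ye41 ze22) (ke xe19 ye34 ze51) (ke xe12 ye53 ze48) (ke xe21 ye54 ze34) (ke xe26 ye55 ze21) (ke xe15 ye59 ze1) (ke xe28 ye9 ze60) (ke xe30 ye8 ze38) (ke xe17 ye27 ze33) (ke xe12 ye53 ze56) (ke xe16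 ye9 ze23) (ke xe27 ye54 ze20) (ke xe12 ye53 ze60) (ke xe19 ye41 ze22) (ke xe29 ye54 ze42) (ke xe12 ye54 ze5) (ke xe20 ye21 ze54) (ke xe20 ye21 ze55) (ke xe25 ye27 ze22) (ke xe30 ye17 ze15) (ke xe12 ye54 ze9) (ke xe26 ye58 ze50) (ke xe30 ye17 ze17) (ke xe12 ye54 ze12) (ke xe29 ye26 ze31) (ke xe30 ye17 ze20) (ke xe24 ye15 ze5) (ke xe25 ye5 ze57) (ke xe12 ye54 ze14)) (@D3.rec (fun _ => Pt) (ke xe12 ye54 ze15) (ke xe27 ye0 ze6) (ke xe28 ye54 ze16) (ke xe28 ye27 ze60) (ke xe16 ye39 ze10) (ke xe27 ye0 ze9) (ke xe20 ye29 ze55) (ke xe14 ye42 ze30) (ke xe12 ye54 ze24) (ke xe23 ye47 ze55) (ke xe18 ye1 ze19) (ke xe20 ye53 ze28) (ke xe30 ye17 ze22) (ke xe30 ye17 ze23) (ke xe12 ye54 ze32) (ke xe12 ye54 ze34) (ke xe17 ye50 ze42) (ke xe26 ye38 ze35) (ke xe12 ye54 ze37) (ke xe12 ye54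 ze39) (ke xe12 ye54 ze40) (ke xe12 ye54 ze42) (ke xe26 ye46 ze21) (ke xe30 ye17 ze37) (ke xe24 ye3 ze25) (ke xe14 ye56 ze15) (ke xe12 ye54 ze44) (ke xe30 ye17 ze39) (ke xe30 ye17 ze40) (ke xe12 ye54 ze46) (ke xe26 ye54 ze57) (ke xe22 ye2 ze32) (ke xe17 ye59 ze27) (ke xe14 ye8 ze13) (ke xe22 ye10 ze20) (ke xe24 ye1 ze28) (ke xe27 ye1 ze26) (ke xe30 ye17 ze43) (ke xe23 ye38 ze19) (ke xe30 ye17 ze45) (ke xe12 ye54 ze55) (ke xe26 ye58 ze32) (ke xe26 ye1 ze41) (ke xe23 ye59 ze12) (ke xe26 ye48 ze3) (ke xe12 ye55 ze1) (ke xe26 ye59 ze3) (ke xe29 ye14 ze37) (ke xe29 ye3 ze3) (ke xe25 ye27 ze14) (ke xe12 ye55 ze2) (ke xe21 ye1 ze36) (ke xe21 ye1 ze29) (ke xe12 ye55 ze4) (ke xe12 ye55 ze5) (ke xe16 ye42 ze17) (ke xe13 ye58 ze16) (ke xe21 ye21 ze4) (ke xe21 ye21 ze33) (ke xe30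 ye17 ze52) (ke xe22 ye45 ze4) (ke xe20 ye16 ze43)) (@D3.rec (fun _ => Pt) (ke xe12 ye55 ze11) (ke xe24 ye33 ze8) (ke xe20 ye12 ze21) (ke xe12 ye55 ze13) (ke xe21 ye23 ze13) (ke xe29 ye23 ze5) (ke xe21 ye24 ze7) (ke xe12 ye55 ze18) (ke xe16 ye52 ze36) (ke xe24 ye33 ze53) (ke xe19 ye59 ze54) (ke xe30 ye17 ze56) (ke xe16 ye55 ze22) (ke xe12 ye55 ze20) (ke xe12 ye55 ze25) (ke xe28 ye38 ze32) (ke xe21 ye16 ze10) (ke xe12 ye55 ze28) (ke xe16 ye44 ze47) (ke xe26 ye59 ze38) (ke xe18 ye0 ze2) (ke xe12 ye55 ze35) (ke xe12 ye55 ze37) (ke xe16 ye4 ze49) (ke xe30 ye17 ze60) (ke xe29 ye52 ze38) (ke xe23 ye37 ze10) (ke xe12 ye55 ze40) (ke xe30 ye18 ze2) (ke xe30 ye18 ze4) (ke xe12 ye55 ze41) (ke xe29 ye54 ze57) (ke xe12 ye55 ze43) (ke xe24 ye51 ze56) (ke xe18 ye37 ze54) (ke xe29 ye39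 ze0) (ke xe16 ye54 ze6) (ke xe24 ye2 ze31) (ke xe19 ye51 ze20) (ke xe30 ye18 ze7) (ke xe12 ye55 ze52) (ke xe13 ye46 ze6) (ke xe27 ye1 ze7) (ke xe29 ye59 ze6) (ke xe30 ye18 ze10) (ke xe12 ye55 ze60) (ke xe12 ye56 ze1) (ke xe17 ye48 ze26) (ke xe18 ye35 ze0) (ke xe21 ye48 ze29) (ke xe17 ye51 ze44) (ke xe15 ye19 ze24) (ke xe22 ye14 ze39) (ke xe12 ye56 ze3) (ke xe21 ye48 ze46) (ke xe14 ye7 ze41) (ke xe30 ye18 ze12) (ke xe12 ye56 ze4) (ke xe21 ye33 ze31) (ke xe18 ye34 ze54) (ke xe29 ye40 ze36) (ke xe26 ye41 ze20)) (@D3.rec (fun _ => Pt) (ke xe20 ye12 ze36) (ke xe12 ye56 ze7) (ke xe21 ye48 ze5) (ke xe23 ye27 ze49) (ke xe23 ye47 ze56) (ke xe23 ye25 ze0) (ke xe17 ye6 ze23) (ke xe21 ye20 ze53) (ke xe12 ye56 ze18) (ke xe12 ye56 ze23) (ke xe20 ye29 ze7) (ke xe17 ye53 ze27) (ke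 xe30 ye2 ze38) (ke xe30 ye18 ze19) (ke xe12 ye56 ze31) (ke xe19 ye39 ze31) (ke xe16 ye43 ze47) (ke xe12 ye56 ze33) (ke xe20 ye43 ze24) (ke xe21 ye39 ze21) (ke xe16 ye45 ze18) (ke xe21 ye11 ze15) (ke xe14 ye50 ze15) (ke xe20 ye4 ze42) (ke xe29 ye12 ze58) (ke xe18 ye1 ze32) (ke xe16 ye47 ze57) (ke xe21 ye16 ze12) (ke xe16 ye48 ze2) (ke xe17 ye32 ze25) (ke xe21 ye52 ze9) (ke xe28 ye19 ze60) (ke xe28 ye19 ze61) (ke xe29 ye30 ze48) (ke xe22 ye54 ze27) (ke xe22 ye47 ze4) (ke xe13 ye46 ze19) (ke xe12 ye56 ze59) (ke xe25 ye35 ze32) (ke xe30 ye18 ze25) (ke xe28 ye10 ze2) (ke xe22 ye48 ze10) (ke xe12 ye57 ze1) (ke xe30 ye18 ze29) (ke xe28 ye37 ze20) (ke xe28 ye37 ze21) (ke xe28 ye23 ze49) (ke xe25 ye29 ze30) (ke xe12 ye57 ze5) (ke xe28 ye23 ze51) (ke xe22 ye16 ze24) (ke xe12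 ye57 ze9) (ke xe18 ye51 ze17) (ke xe19 ye47 ze47) (ke xe28 ye45 ze2) (ke xe22 ye14 ze28) (ke xe30 ye18 ze36) (ke xe30 ye18 ze42) (ke xe17 ye18 ze24) (ke xe12 ye57 ze10) (ke xe12 ye57 ze11) (ke xe13 ye17 ze37)) (@D3.rec (fun _ => Pt) (ke xe19 ye24 ze6) (ke xe24 ye18 ze53) (ke xe30 ye18 ze49) (ke xe12 ye57 ze16) (ke xe28 ye23 ze60) (ke xe12 ye57 ze18) (ke xe30 ye18 ze52) (ke xe28 ye24 ze3) (ke xe15 ye33 ze10) (ke xe30 ye18 ze57) (ke xe13 ye46 ze20) (ke xe13 ye29 ze55) (ke xe17 ye18 ze55) (ke xe19 ye29 ze46) (ke xe12 ye57 ze27) (ke xe27 ye16 ze59) (ke xe14 ye16 ze47) (ke xe30 ye19 ze8) (ke xe30 ye19 ze9) (ke xe12 ye57 ze26) (ke xe30 ye19 ze11) (ke xe30 ye19 ze5) (ke xe28 ye52 ze36) (ke xe27 ye54 ze41) (ke xe12 ye57 ze33) (ke xe15 ye57 ze52) (ke xe16 ye2 ze5) (ke xe24 ye8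 ze31) (ke xe17 ye27 ze6) (ke xe30 ye19 ze18) (ke xe12 ye57 ze37) (ke xe28 ye24 ze47) (ke xe24 ye20 ze20) (ke xe19 ye40 ze30) (ke xe28 ye14 ze18) (ke xe26 ye54 ze13) (ke xe23 ye58 ze26) (ke xe30 ye19 ze22) (ke xe30 ye19 ze23) (ke xe30 ye19 ze24) (ke xe27 ye38 ze21) (ke xe30 ye19 ze25) (ke xe12 ye57 ze49) (ke xe12 ye57 ze58) (ke xe21 ye20 ze20) (ke xe22 ye7 ze55) (ke xe30 ye19 ze26) (ke xe19 ye23 ze29) (ke xe19 ye43 ze58) (ke xe19 ye43 ze60) (ke xe15 ye1 ze34) (ke xe27 ye43 ze5) (ke xe29 ye44 ze51) (ke xe18 ye50 ze35) (ke xe21 ye37 ze50) (ke xe22 ye7 ze45) (ke xe14 ye35 ze22) (ke xe26 ye27 ze58) (ke xe12 ye58 ze2) (ke xe17 ye2 ze45) (ke xe24 ye12 ze59) (ke xe12 ye58 ze6)) (@D3.rec (fun _ => Pt) (ke xe16 ye31 ze7) (ke xe13 ye11 ze3) (ke xe27 ye20 ze45) (ke xe27 ye20 ze46)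 (ke xe19 ye39 ze38) (ke xe19 ye37 ze19) (ke xe16 ye14 ze57) (ke xe17 ye40 ze25) (ke xe26 ye18 ze8) (ke xe26 ye14 ze24) (ke xe29 ye59 ze58) (ke xe30 ye19 ze32) (ke xe12 ye58 ze16) (ke xe26 ye11 ze54) (ke xe27 ye38 ze53) (ke xe25 ye7 ze32) (ke xe22 ye11 ze10) (ke xe30 ye19 ze33) (ke xe12 ye58 ze23) (ke xe17 ye39 ze46) (ke xe12 ye59 ze50) (ke xe12 ye59 ze31) (ke xe12 ye59 ze32) (ke xe27 ye17 ze24) (ke xe25 ye5 ze58) (ke xe12 ye59 ze41) (ke xe21 ye42 ze60) (ke xe21 ye42 ze61) (ke xe27 ye37 ze57) (ke xe27 ye10 ze20) (ke xe13 ye0 ze1) (ke xe18 ye7 ze17) (ke xe12 ye58 ze42) (ke xe26 ye2 ze38) (ke xe13 ye0 ze6) (ke xe12 ye58 ze43) (ke xe13 ye0 ze25) (ke xe18 ye6 ze16) (ke xe30 ye19 ze39) (ke xe21 ye45 ze32) (ke xe26 ye2 ze39) (ke xe26 ye15 ze14) (ke xe16 ye14 ze55) (ke xe15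 ye11 ze61) (ke xe26 ye18 ze9) (ke xe29 ye17 ze28) (ke xe12 ye58 ze53) (ke xe27 ye20 ze32) (ke xe26 ye5 ze17) (ke xe18 ye6 ze44) (ke xe23 ye51 ze30) (ke xe12 ye58 ze58) (ke xe12 ye58 ze60) (ke xe30 ye19 ze40) (ke xe20 ye46 ze49) (ke xe22 ye35 ze16) (ke xe23 ye51 ze49) (ke xe27 ye20 ze54) (ke xe27 ye46 ze29) (ke xe27 ye47 ze10) (ke xe21 ye26 ze47) (ke xe28 ye25 ze7)) (@D3.rec (fun _ => Pt) (ke xe12 ye59 ze3) (ke xe22 ye11 ze48) (ke xe18 ye29 ze32) (ke xe12 ye59 ze4) (ke xe30 ye19 ze45) (ke xe23 ye23 ze39) (ke xe24 ye58 ze5) (ke xe30 ye19 ze46) (ke xe12 ye59 ze6) (ke xe12 ye59 ze7) (ke xe25 ye33 ze25) (ke xe25 ye56 ze49) (ke xe25 ye53 ze20) (ke xe30 ye19 ze49) (ke xe12 ye59 ze10) (ke xe28 ye57 ze22) (ke xe27 ye17 ze51) (ke xe30 ye19 ze50) (ke xe30 ye19 ze52) (ke xe12 ye59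 ze14) (ke xe19 ye35 ze12) (ke xe15 ye39 ze28) (ke xe14 ye39 ze25) (ke xe12 ye59 ze15) (ke xe21 ye58 ze12) (ke xe24 ye5 ze12) (ke xe15 ye40 ze2) (ke xe27 ye9 ze9) (ke xe25 ye24 ze51) (ke xe15 ye58 ze18) (ke xe30 ye19 ze57) (ke xe26 ye55 ze5) (ke xe29 ye31 ze2) (ke xe25 ye7 ze29) (ke xe30 ye19 ze59) (ke xe23 ye47 ze23) (ke xe17 ye13 ze55) (ke xe21 ye30 ze58) (ke xe20 ye53 ze17) (ke xe25 ye13 ze40) (ke xe15 ye34 ze27) (ke xe29 ye12 ze45) (ke xe30 ye19 ze35) (ke xe27 ye23 ze36) (ke xe12 ye59 ze34) (ke xe25 ye43 ze47) (ke xe24 ye7 ze9) (ke xe13 ye31 ze46) (ke xe12 ye59 ze39) (ke xe15 ye39 ze7) (ke xe30 ye20 ze4) (ke xe30 ye20 ze5) (ke xe24 ye8 ze4) (ke xe12 ye59 ze48) (ke xe27 ye15 ze16) (ke xe20 ye20 ze21) (ke xe30 ye3 ze51) (ke xe17 ye14 ze5) (ke xe25 ye59 ze8) (ke xe25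 ye57 ze27) (ke xe17 ye33 ze61) (ke xe18 ye25 ze4)) (@D3.rec (fun _ => Pt) (ke xe20 ye5 ze49) (ke xe17 ye16 ze23) (ke xe26 ye6 ze0) (ke xe13 ye0 ze0) (ke xe15 ye48 ze22) (ke xe13 ye0 ze2) (ke xe18 ye37 ze9) (ke xe29 ye21 ze48) (ke xe30 ye20 ze6) (ke xe16 ye42 ze12) (ke xe26 ye14 ze41) (ke xe25 ye41 ze38) (ke xe19 ye55 ze35) (ke xe23 ye37 ze20) (ke xe23 ye34 ze54) (ke xe30 ye8 ze52) (ke xe27 ye39 ze5) (ke xe13 ye0 ze7) (ke xe30 ye13 ze38) (ke xe30 ye20 ze13) (ke xe22 ye4 ze34) (ke xe13 ye0 ze8) (ke xe30 ye16 ze58) (ke xe15 ye46 ze3) (ke xe21 ye28 ze31) (ke xe15 ye44 ze43) (ke xe25 ye7 ze40) (ke xe26 ye1 ze43) (ke xe30 ye20 ze16) (ke xe13 ye0 ze10) (ke xe17 ye16 ze11) (ke xe19 ye6 ze47) (ke xe26 ye10 ze30) (ke xe27 ye25 ze13) (ke xe19 ye15 ze30) (ke xe13 ye0 ze17) (ke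 xe13 ye0 ze18) (ke xe28 ye0 ze38) (ke xe25 ye32 ze14) (ke xe30 ye20 ze20) (ke xe13 ye0 ze23) (ke xe28 ye24 ze60) (ke xe13 ye0 ze31) (ke xe21 ye45 ze45) (ke xe13 ye30 ze16) (ke xe27 ye38 ze29) (ke xe26 ye14 ze5) (ke xe26 ye42 ze2) (ke xe24 ye37 ze41) (ke xe25 ye9 ze0) (ke xe30 ye11 ze30) (ke xe13 ye0 ze37) (ke xe24 ye0 ze44) (ke xe14 ye31 ze55) (ke xe13 ye0 ze39) (ke xe15 ye34 ze42) (ke xe14 ye27 ze53) (ke xe27 ye19 ze60) (ke xe22 ye57 ze27) (ke xe13 ye0 ze42) (ke xe30 ye20 ze22) (ke xe28 ye50 ze46)) (@D3.rec (fun _ => Pt) (ke xe13 ye0 ze43) (ke xe16 ye17 ze24) (ke xe18 ye4 ze28) (ke xe30 ye7 ze40) (ke xe13 ye0 ze48) (ke xe13 ye0 ze53) (ke xe13 ye22 ze36) (ke xe13 ye2 ze5) (ke xe23 ye44 ze17) (ke xe30 ye14 ze16) (ke xe22 ye8 ze16) (ke xe21 ye23 ze8) (ke xe16 ye9 ze42)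 (ke xe23 ye22 ze32) (ke xe21 ye19 ze56) (ke xe21 ye33 ze39) (ke xe21 ye31 ze9) (ke xe24 ye54 ze52) (ke xe13 ye1 ze15) (ke xe22 ye23 ze6) (ke xe28 ye18 ze40) (ke xe21 ye19 ze59) (ke xe25 ye26 ze14) (ke xe26 ye27 ze14) (ke xe20 ye42 ze29) (ke xe27 ye27 ze57) (ke xe29 ye59 ze54) (ke xe21 ye20 ze0) (ke xe25 ye39 ze22) (ke xe26 ye12 ze35) (ke xe25 ye30 ze0) (ke xe13 ye1 ze28) (ke xe17 ye38 ze30) (ke xe13 ye1 ze32) (ke xe15 ye32 ze22) (ke xe26 ye53 ze24) (ke xe13 ye1 ze48) (ke xe13 ye1 ze50) (ke xe20 ye13 ze1) (ke xe20 ye4 ze11) (ke xe30 ye20 ze26) (ke xe20 ye20 ze23) (ke xe29 ye21 ze50) (ke xe13 ye52 ze27) (ke xe29 ye38 ze41) (ke xe30 ye20 ze27) (ke xe23 ye35 ze45) (ke xe26 ye6 ze25) (ke xe22 ye9 ze1) (ke xe30 ye20 ze29) (ke xe30 ye20 ze30) (ke xe13 ye2 ze6) (ke xe21 ye13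 ze56) (ke xe13 ye2 ze12) (ke xe13 ye2 ze14) (ke xe19 ye51 ze25) (ke xe13 ye2 ze15) (ke xe30 ye20 ze31) (ke xe19 ye18 ze38) (ke xe30 ye20 ze32) (ke xe13 ye2 ze23) (ke xe14 ye31 ze38)) (@D3.rec (fun _ => Pt) (ke xe30 ye14 ze35) (ke xe21 ye38 ze59) (ke xe15 ye27 ze24) (ke xe21 ye7 ze21) (ke xe21 ye21 ze17) (ke xe13 ye2 ze29) (ke xe24 ye42 ze34) (ke xe14 ye51 ze26) (ke xe14 ye3 ze11) (ke xe14 ye38 ze14) (ke xe14 ye51 ze50) (ke xe24 ye40 ze0) (ke xe26 ye6 ze59) (ke xe30 ye20 ze35) (ke xe26 ye7 ze2) (ke xe23 ye21 ze1) (ke xe28 ye10 ze4) (ke xe22 ye45 ze52) (ke xe13 ye5 ze53) (ke xe23 ye19 ze61) (ke xe18 ye2 ze58) (ke xe26 ye3 ze51) (ke xe30 ye20 ze41) (ke xe13 ye2 ze44) (ke xe13 ye2 ze45) (ke xe24 ye38 ze13) (ke xe14 ye10 ze12) (ke xe13 ye2 ze51) (ke xe23 ye55 ze19) (ke xe23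 ye52 ze5) (ke xe14 ye16 ze5) (ke xe30 ye20 ze44) (ke xe30 ye20 ze46) (ke xe30 ye20 ze42) (ke xe29 ye29 ze33) (ke xe13 ye2 ze56) (ke xe22 ye36 ze29) (ke xe14 ye52 ze8) (ke xe29 ye37 ze8) (ke xe22 ye27 ze2) (ke xe30 ye20 ze50) (ke xe29 ye36 ze52) (ke xe13 ye2 ze59) (ke xe20 ye43 ze13) (ke xe18 ye36 ze52) (ke xe27 ye48 ze3) (ke xe13 ye3 ze6) (ke xe18 ye12 ze10) (ke xe23 ye4 ze44) (ke xe29 ye9 ze12) (ke xe13 ye3 ze14) (ke xe23 ye18 ze55) (ke xe29 ye30 ze61) (ke xe13 ye3 ze11) (ke xe29 ye28 ze25) (ke xe13 ye3 ze12) (ke xe30 ye21 ze7) (ke xe26 ye46 ze19) (ke xe13 ye3 ze13) (ke xe22 ye55 ze46) (ke xe22 ye22 ze26) (ke xe30 ye21 ze12)) (@D3.rec (fun _ => Pt) (ke xe13 ye3 ze17) (ke xe30 ye21 ze13) (ke xe30 ye21 ze15) (ke xe13 ye3 ze18) (ke xe17 ye47 ze27) (ke xe21 ye35 ze56)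 (ke xe30 ye21 ze17) (ke xe13 ye3 ze22) (ke xe13 ye3 ze23) (ke xe29 ye35 ze15) (ke xe28 ye47 ze9) (ke xe13 ye3 ze45) (ke xe30 ye21 ze22) (ke xe21 ye14 ze16) (ke xe30 ye21 ze24) (ke xe30 ye21 ze26) (ke xe13 ye3 ze26) (ke xe30 ye21 ze28) (ke xe30 ye21 ze31) (ke xe30 ye21 ze36) (ke xe13 ye3 ze27) (ke xe24 ye9 ze29) (ke xe30 ye21 ze41) (ke xe29 ye36 ze35) (ke xe13 ye3 ze29) (ke xe29 ye39 ze29) (ke xe22 ye40 ze13) (ke xe30 ye21 ze47) (ke xe13 ye3 ze30) (ke xe22 ye14 ze13) (ke xe29 ye39 ze28) (ke xe29 ye34 ze38) (ke xe27 ye2 ze25) (ke xe30 ye5 ze39) (ke xe18 ye46 ze57) (ke xe29 ye48 ze47) (ke xe27 ye7 ze14) (ke xe13 ye3 ze34) (ke xe24 ye56 ze52) (ke xe17 ye24 ze6) (ke xe30 ye21 ze55) (ke xe30 ye21 ze59) (ke xe13 ye3 ze38) (ke xe29 ye36 ze45) (ke xe30 ye22 ze0) (ke xe13 ye3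 ze39) (ke xe24 ye17 ze23) (ke xe28 ye16 ze26) (ke xe30 ye22 ze6) (ke xe30 ye22 ze7) (ke xe13 ye3 ze41) (ke xe30 ye22 ze12) (ke xe13 ye3 ze43) (ke xe13 ye12 ze41) (ke xe30 ye22 ze22) (ke xe22 ye16 ze2) (ke xe30 ye21 ze20) (ke xe30 ye22 ze29) (ke xe30 ye22 ze30) (ke xe13 ye3 ze46) (ke xe13 ye3 ze47) (ke xe14 ye36 ze56)) (@D3.rec (fun _ => Pt) (ke xe30 ye22 ze31) (ke xe13 ye3 ze50) (ke xe30 ye22 ze32) (ke xe19 ye11 ze52) (ke xe13 ye3 ze52) (ke xe29 ye48 ze18) (ke xe28 ye17 ze56) (ke xe30 ye22 ze35) (ke xe13 ye3 ze53) (ke xe30 ye22 ze37) (ke xe30 ye22 ze39) (ke xe13 ye3 ze55) (ke xe28 ye17 ze22) (ke xe22 ye13 ze29) (ke xe13 ye3 ze56) (ke xe30 ye22 ze47) (ke xe13 ye3 ze57) (ke xe14 ye56 ze54) (ke xe30 ye22 ze52) (ke xe13 ye3 ze60) (ke xe29 ye35 ze20) (ke xe14 ye49 ze30)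 (ke xe14 ye51 ze58) (ke xe29 ye39 ze59) (ke xe30 ye22 ze58) (ke xe28 ye26 ze45) (ke xe13 ye4 ze5) (ke xe22 ye27 ze21) (ke xe22 ye6 ze55) (ke xe30 ye23 ze0) (ke xe20 ye42 ze57) (ke xe13 ye4 ze10) (ke xe13 ye4 ze12) (ke xe29 ye29 ze16) (ke xe21 ye33 ze32) (ke xe30 ye7 ze37) (ke xe13 ye34 ze0) (ke xe13 ye32 ze19) (ke xe21 ye44 ze52) (ke xe22 ye5 ze52) (ke xe21 ye3 ze28) (ke xe14 ye53 ze3) (ke xe23 ye58 ze22) (ke xe16 ye32 ze43) (ke xe19 ye51 ze4) (ke xe18 ye49 ze6) (ke xe27 ye30 ze46) (ke xe18 ye46 ze49) (ke xe16 ye20 ze8) (ke xe14 ye58 ze16) (ke xe23 ye1 ze53) (ke xe18 ye11 ze14) (ke xe13 ye4 ze25) (ke xe27 ye45 ze16) (ke xe26 ye21 ze13) (ke xe13 ye6 ze56) (ke xe29 ye54 ze58) (ke xe13 ye4 ze27) (ke xe20 ye28 ze55) (ke xe18 ye46 ze19) (ke xe30 ye23 ze10) (ke xe25 ye58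 ze0)) (@D3.rec (fun _ => Pt) (ke xe28 ye38 ze5) (ke xe18 ye44 ze44) (ke xe13 ye10 ze34) (ke xe13 ye4 ze35) (ke xe13 ye11 ze46) (ke xe18 ye45 ze48) (ke xe30 ye23 ze13) (ke xe22 ye36 ze23) (ke xe27 ye48 ze7) (ke xe27 ye45 ze38) (ke xe17 ye44 ze30) (ke xe13 ye4 ze39) (ke xe27 ye56 ze17) (ke xe26 ye15 ze53) (ke xe17 ye42 ze53) (ke xe24 ye44 ze15) (ke xe28 ye22 ze31) (ke xe28 ye3 ze43) (ke xe16 ye15 ze9) (ke xe24 ye14 ze49) (ke xe13 ye4 ze42) (ke xe22 ye50 ze36) (ke xe13 ye4 ze44) (ke xe18 ye58 ze15) (ke xe14 ye17 ze35) (ke xe13 ye4 ze53) (ke xe24 ye38 ze33) (ke xe13 ye4 ze56) (ke xe24 ye38 ze43) (ke xe28 ye30 ze21) (ke xe28 ye14 ze42) (ke xe17 ye47 ze31) (ke xe24 ye38 ze44) (ke xe13 ye5 ze0) (ke xe17 ye45 ze23) (ke xe27 ye46 ze27) (ke xe14 ye1 ze15) (ke xe13 ye5 ze2) (ke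 xe30 ye23 ze24) (ke xe28 ye12 ze6) (ke xe23 ye36 ze37) (ke xe23 ye22 ze1) (ke xe28 ye21 ze44) (ke xe30 ye23 ze31) (ke xe25 ye35 ze20) (ke xe13 ye5 ze4) (ke xe14 ye48 ze58) (ke xe24 ye10 ze46) (ke xe24 ye39 ze37) (ke xe23 ye42 ze53) (ke xe22 ye45 ze40) (ke xe13 ye5 ze11) (ke xe20 ye45 ze20) (ke xe28 ye32 ze46) (ke xe29 ye30 ze32) (ke xe29 ye38 ze29) (ke xe13 ye5 ze17) (ke xe21 ye18 ze10) (ke xe30 ye23 ze37) (ke xe13 ye5 ze15) (ke xe30 ye23 ze38) (ke xe30 ye23 ze39)) (@D3.rec (fun _ => Pt) (ke xe13 ye5 ze16) (ke xe30 ye23 ze41) (ke xe22 ye13 ze55) (ke xe24 ye5 ze16) (ke xe13 ye5 ze20) (ke xe13 ye5 ze19) (ke xe30 ye23 ze44) (ke xe16 ye53 ze56) (ke xe18 ye0 ze33) (ke xe30 ye23 ze47) (ke xe16 ye58 ze19) (ke xe23 ye5 ze41) (ke xe22 ye38 ze30) (ke xe20 ye37 ze34) (ke xe24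 ye34 ze31) (ke xe30 ye23 ze49) (ke xe19 ye8 ze19) (ke xe26 ye51 ze1) (ke xe26 ye41 ze45) (ke xe20 ye23 ze39) (ke xe18 ye55 ze20) (ke xe30 ye23 ze53) (ke xe13 ye5 ze41) (ke xe30 ye23 ze55) (ke xe22 ye6 ze50) (ke xe13 ye5 ze34) (ke xe26 ye28 ze37) (ke xe13 ye5 ze36) (ke xe29 ye48 ze43) (ke xe13 ye5 ze39) (ke xe30 ye23 ze58) (ke xe26 ye41 ze43) (ke xe13 ye5 ze40) (ke xe25 ye34 ze48) (ke xe30 ye23 ze60) (ke xe28 ye20 ze36) (ke xe18 ye55 ze22) (ke xe13 ye7 ze56) (ke xe30 ye24 ze0) (ke xe26 ye46 ze32) (ke xe13 ye5 ze46) (ke xe22 ye47 ze22) (ke xe13 ye5 ze47) (ke xe30 ye24 ze2) (ke xe13 ye28 ze1) (ke xe13 ye5 ze49) (ke xe29 ye9 ze10) (ke xe13 ye5 ze50) (ke xe23 ye4 ze42) (ke xe21 ye32 ze42) (ke xe13 ye6 ze6) (ke xe23 ye32 ze53) (ke xe23 ye32 ze56) (ke xe13 ye5 ze52) (ke xe23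 ye24 ze51) (ke xe27 ye56 ze23) (ke xe23 ye57 ze5) (ke xe30 ye24 ze8) (ke xe30 ye24 ze9) (ke xe13 ye5 ze54) (ke xe22 ye34 ze8) (ke xe30 ye22 ze54)) (@D3.rec (fun _ => Pt) (ke xe26 ye26 ze13) (ke xe13 ye5 ze57) (ke xe28 ye58 ze61) (ke xe18 ye55 ze30) (ke xe23 ye33 ze38) (ke xe19 ye1 ze40) (ke xe13 ye5 ze59) (ke xe29 ye22 ze49) (ke xe27 ye3 ze18) (ke xe13 ye5 ze61) (ke xe30 ye21 ze5) (ke xe29 ye1 ze23) (ke xe13 ye6 ze0) (ke xe19 ye1 ze3) (ke xe13 ye6 ze1) (ke xe27 ye43 ze10) (ke xe16 ye27 ze4) (ke xe30 ye21 ze9) (ke xe26 ye25 ze45) (ke xe13 ye6 ze3) (ke xe19 ye8 ze61) (ke xe30 ye24 ze4) (ke xe29 ye38 ze31) (ke xe13 ye6 ze5) (ke xe16 ye27 ze8) (ke xe16 ye26 ze43) (ke xe26 ye9 ze6) (ke xe24 ye57 ze46) (ke xe24 ye59 ze50) (ke xe13 ye6 ze7) (ke xe13 ye6 ze8) (ke xe26 ye27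 ze46) (ke xe30 ye24 ze33) (ke xe22 ye51 ze25) (ke xe13 ye6 ze10) (ke xe22 ye32 ze17) (ke xe20 ye30 ze15) (ke xe13 ye6 ze12) (ke xe23 ye0 ze60) (ke xe28 ye19 ze56) (ke xe23 ye18 ze59) (ke xe13 ye6 ze16) (ke xe13 ye6 ze17) (ke xe30 ye24 ze39) (ke xe13 ye6 ze19) (ke xe30 ye24 ze40) (ke xe20 ye32 ze35) (ke xe29 ye25 ze61) (ke xe15 ye45 ze59) (ke xe26 ye26 ze60) (ke xe19 ye47 ze36) (ke xe16 ye3 ze27) (ke xe13 ye6 ze27) (ke xe13 ye52 ze4) (ke xe30 ye17 ze44) (ke xe25 ye2 ze57) (ke xe18 ye2 ze47) (ke xe13 ye6 ze33) (ke xe26 ye50 ze52) (ke xe26 ye49 ze10) (ke xe28 ye9 ze4) (ke xe13 ye8 ze61)) (@D3.rec (fun _ => Pt) (ke xe21 ye3 ze61) (ke xe30 ye8 ze37) (ke xe30 ye24 ze46) (ke xe13 ye6 ze44) (ke xe13 ye6 ze50) (ke xe18 ye55 ze14) (ke xe30 ye24 ze47) (ke xe13 ye6 ze47) (ke xe28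 ye47 ze19) (ke xe27 ye49 ze60) (ke xe13 ye6 ze49) (ke xe27 ye34 ze51) (ke xe28 ye46 ze54) (ke xe26 ye21 ze10) (ke xe27 ye51 ze57) (ke xe15 ye4 ze1) (ke xe30 ye24 ze55) (ke xe13 ye6 ze52) (ke xe24 ye28 ze60) (ke xe17 ye44 ze38) (ke xe26 ye20 ze41) (ke xe26 ye12 ze46) (ke xe26 ye16 ze0) (ke xe14 ye15 ze17) (ke xe18 ye36 ze59) (ke xe15 ye50 ze40) (ke xe29 ye55 ze39) (ke xe13 ye6 ze57) (ke xe29 ye2 ze31) (ke xe30 ye24 ze61) (ke xe23 ye23 ze57) (ke xe21 ye55 ze29) (ke xe18 ye38 ze46) (ke xe26 ye29 ze56) (ke xe13 ye6 ze61) (ke xe27 ye58 ze32) (ke xe19 ye21 ze16) (ke xe23 ye53 ze23) (ke xe22 ye34 ze7) (ke xe30 ye22 ze48) (ke xe17 ye31 ze42) (ke xe23 ye23 ze55) (ke xe28 ye17 ze21) (ke xe24 ye18 ze29) (ke xe13 ye7 ze4) (ke xe20 ye45 ze33) (ke xe23 ye36 ze43) (ke xe28 ye46 ze19)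 (ke xe24 ye40 ze27) (ke xe13 ye7 ze6) (ke xe15 ye7 ze0) (ke xe13 ye7 ze7) (ke xe28 ye46 ze47) (ke xe23 ye36 ze48) (ke xe24 ye40 ze57) (ke xe30 ye25 ze7) (ke xe24 ye46 ze52) (ke xe30 ye25 ze8) (ke xe13 ye7 ze10) (ke xe13 ye40 ze10) (ke xe27 ye59 ze9) (ke xe18 ye53 ze36)) (@D3.rec (fun _ => Pt) (ke xe23 ye6 ze16) (ke xe30 ye25 ze17) (ke xe13 ye7 ze14) (ke xe30 ye25 ze19) (ke xe13 ye7 ze15) (ke xe30 ye25 ze20) (ke xe13 ye7 ze16) (ke xe30 ye25 ze21) (ke xe22 ye28 ze4) (ke xe30 ye25 ze24) (ke xe26 ye56 ze29) (ke xe13 ye7 ze20) (ke xe28 ye55 ze49) (ke xe30 ye25 ze26) (ke xe13 ye7 ze21) (ke xe30 ye25 ze28) (ke xe27 ye17 ze8) (ke xe13 ye7 ze22) (ke xe30 ye25 ze33) (ke xe20 ye48 ze9) (ke xe14 ye40 ze61) (ke xe28 ye2 ze51) (ke xe27 ye42 ze26) (ke xe28 ye39 ze24) (ke xe30 ye25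 ze39) (ke xe29 ye31 ze16) (ke xe30 ye25 ze40) (ke xe13 ye7 ze27) (ke xe22 ye24 ze44) (ke xe25 ye32 ze29) (ke xe20 ye48 ze0) (ke xe30 ye25 ze46) (ke xe30 ye25 ze48) (ke xe13 ye7 ze33) (ke xe28 ye18 ze35) (ke xe13 ye7 ze34) (ke xe20 ye48 ze53) (ke xe28 ye23 ze53) (ke xe13 ye7 ze37) (ke xe20 ye48 ze48) (ke xe14 ye38 ze7) (ke xe29 ye40 ze7) (ke xe13 ye7 ze40) (ke xe30 ye25 ze60) (ke xe30 ye25 ze61) (ke xe13 ye7 ze43) (ke xe30 ye26 ze1) (ke xe13 ye7 ze45) (ke xe13 ye27 ze22) (ke xe24 ye22 ze51) (ke xe13 ye7 ze48) (ke xe20 ye17 ze35) (ke xe21 ye8 ze5) (ke xe23 ye47 ze19) (ke xe13 ye7 ze54) (ke xe13 ye7 ze57) (ke xe21 ye24 ze1) (ke xe20 ye49 ze23) (ke xe20 ye23 ze20) (ke xe22 ye47 ze0) (ke xe30 ye23 ze59) (ke xe30 ye26 ze12)) (@D3.rec (fun _ => Pt) (ke xe19 ye9 ze24) (ke xe19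 ye22 ze58) (ke xe19 ye21 ze55) (ke xe19 ye10 ze14) (ke xe13 ye8 ze6) (ke xe14 ye19 ze29) (ke xe21 ye13 ze47) (ke xe13 ye8 ze8) (ke xe29 ye2 ze16) (ke xe13 ye8 ze10) (ke xe30 ye26 ze18) (ke xe18 ye34 ze24) (ke xe13 ye8 ze12) (ke xe30 ye26 ze22) (ke xe30 ye26 ze24) (ke xe13 ye8 ze13) (ke xe29 ye27 ze43) (ke xe29 ye20 ze61) (ke xe27 ye52 ze17) (ke xe13 ye8 ze15) (ke xe23 ye11 ze39) (ke xe13 ye8 ze16) (ke xe13 ye8 ze17) (ke xe13 ye8 ze19) (ke xe30 ye26 ze26) (ke xe19 ye49 ze48) (ke xe13 ye8 ze20) (ke xe19 ye39 ze10) (ke xe13 ye8 ze21) (ke xe13 ye8 ze38) (ke xe15 ye39 ze48) (ke xe13 ye8 ze23) (ke xe24 ye3 ze45) (ke xe30 ye26 ze31) (ke xe30 ye26 ze33) (ke xe30 ye24 ze1) (ke xe30 ye26 ze36) (ke xe13 ye8 ze25) (ke xe13 ye12 ze26) (ke xe22 ye26 ze49) (ke xe19 ye34 ze48) (ke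 xe24 ye34 ze41) (ke xe28 ye47 ze59) (ke xe13 ye8 ze30) (ke xe30 ye26 ze41) (ke xe13 ye8 ze32) (ke xe24 ye39 ze32) (ke xe27 ye43 ze19) (ke xe30 ye26 ze43) (ke xe13 ye8 ze33) (ke xe27 ye42 ze7) (ke xe26 ye42 ze4) (ke xe19 ye2 ze58) (ke xe24 ye39 ze36) (ke xe23 ye13 ze30) (ke xe13 ye8 ze36) (ke xe29 ye38 ze38) (ke xe28 ye59 ze17) (ke xe24 ye39 ze34) (ke xe16 ye29 ze5) (ke xe30 ye26 ze51) (ke xe30 ye26 ze29)) (@D3.rec (fun _ => Pt) (ke xe28 ye15 ze41) (ke xe13 ye8 ze39) (ke xe19 ye8 ze56) (ke xe30 ye26 ze55) (ke xe29 ye7 ze50) (ke xe13 ye8 ze41) (ke xe25 ye4 ze19) (ke xe22 ye44 ze25) (ke xe14 ye39 ze12) (ke xe13 ye8 ze51) (ke xe13 ye8 ze55) (ke xe23 ye26 ze19) (ke xe26 ye8 ze14) (ke xe13 ye8 ze54) (ke xe25 ye40 ze51) (ke xe30 ye26 ze58) (ke xe30 ye26 ze61) (ke xe27 ye56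 ze55) (ke xe13 ye8 ze59) (ke xe24 ye37 ze55) (ke xe25 ye33 ze28) (ke xe14 ye15 ze60) (ke xe29 ye57 ze27) (ke xe13 ye18 ze21) (ke xe30 ye27 ze0) (ke xe27 ye12 ze7) (ke xe13 ye9 ze1) (ke xe14 ye12 ze48) (ke xe21 ye37 ze42) (ke xe28 ye51 ze34) (ke xe20 ye58 ze14) (ke xe13 ye9 ze7) (ke xe30 ye27 ze3) (ke xe13 ye9 ze5) (ke xe30 ye27 ze7) (ke xe24 ye27 ze13) (ke xe13 ye9 ze6) (ke xe30 ye27 ze11) (ke xe25 ye20 ze5) (ke xe30 ye27 ze2) (ke xe30 ye27 ze15) (ke xe19 ye29 ze11) (ke xe13 ye9 ze8) (ke xe13 ye9 ze9) (ke xe20 ye14 ze41) (ke xe13 ye9 ze11) (ke xe30 ye27 ze17) (ke xe13 ye9 ze12) (ke xe13 ye9 ze28) (ke xe20 ye51 ze18) (ke xe13 ye9 ze14) (ke xe30 ye3 ze58) (ke xe19 ye41 ze23) (ke xe21 ye47 ze38) (ke xe19 ye30 ze35) (ke xe13 ye9 ze17) (ke xe30 ye27 ze19) (ke xe26 ye9 ze21)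 (ke xe13 ye9 ze18) (ke xe22 ye57 ze61) (ke xe13 ye12 ze27) (ke xe29 ye39 ze2)) (@D3.rec (fun _ => Pt) (ke xe24 ye39 ze18) (ke xe28 ye31 ze3) (ke xe22 ye23 ze51) (ke xe13 ye9 ze23) (ke xe30 ye9 ze7) (ke xe24 ye39 ze22) (ke xe13 ye9 ze29) (ke xe30 ye27 ze26) (ke xe13 ye9 ze31) (ke xe19 ye28 ze15) (ke xe17 ye23 ze22) (ke xe23 ye12 ze57) (ke xe26 ye34 ze46) (ke xe13 ye9 ze35) (ke xe13 ye44 ze53) (ke xe13 ye56 ze0) (ke xe13 ye9 ze38) (ke xe22 ye37 ze51) (ke xe13 ye56 ze46) (ke xe21 ye41 ze14) (ke xe25 ye38 ze40) (ke xe14 ye1 ze0) (ke xe13 ye9 ze46) (ke xe29 ye37 ze58) (ke xe25 ye57 ze38) (ke xe18 ye44 ze31) (ke xe22 ye12 ze60) (ke xe15 ye25 ze4) (ke xe24 ye14 ze25) (ke xe28 ye17 ze8) (ke xe13 ye9 ze61) (ke xe23 ye55 ze23) (ke xe28 ye32 ze48) (ke xe13 ye10 ze12) (ke xe25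 ye47 ze21) (ke xe28 ye35 ze42) (ke xe13 ye10 ze3) (ke xe26 ye26 ze37) (ke xe13 ye10 ze4) (ke xe25 ye57 ze34) (ke xe29 ye24 ze36) (ke xe13 ye10 ze6) (ke xe16 ye31 ze10) (ke xe26 ye27 ze56) (ke xe13 ye10 ze8) (ke xe30 ye27 ze37) (ke xe30 ye24 ze11) (ke xe13 ye10 ze11) (ke xe13 ye10 ze13) (ke xe28 ye55 ze2) (ke xe30 ye27 ze38) (ke xe13 ye10 ze15) (ke xe29 ye4 ze16) (ke xe13 ye10 ze16) (ke xe30 ye27 ze40) (ke xe13 ye10 ze18) (ke xe13 ye10 ze25) (ke xe24 ye37 ze24) (ke xe25 ye43 ze14) (ke xe13 ye10 ze20) (ke xe14 ye19 ze18) (ke xe13 ye10 ze21)) (@D3.rec (fun _ => Pt) (ke xe13 ye10 ze23) (ke xe29 ye50 ze45) (ke xe13 ye10 ze24) (ke xe13 ye10 ze26) (ke xe28 ye50 ze2) (ke xe27 ye12 ze34) (ke xe22 ye11 ze19) (ke xe22 ye1 ze15) (ke xe22 ye30 ze17) (ke xe17 ye59 ze48) (ke xe13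 ye10 ze36) (ke xe29 ye23 ze25) (ke xe13 ye10 ze38) (ke xe26 ye10 ze34) (ke xe23 ye11 ze12) (ke xe14 ye21 ze52) (ke xe13 ye10 ze43) (ke xe19 ye29 ze39) (ke xe18 ye45 ze29) (ke xe24 ye14 ze51) (ke xe22 ye36 ze39) (ke xe23 ye18 ze58) (ke xe15 ye8 ze2) (ke xe13 ye10 ze49) (ke xe30 ye27 ze56) (ke xe13 ye10 ze52) (ke xe13 ye39 ze29) (ke xe19 ye53 ze13) (ke xe22 ye36 ze40) (ke xe23 ye20 ze24) (ke xe28 ye22 ze13) (ke xe13 ye10 ze55) (ke xe23 ye52 ze17) (ke xe13 ye10 ze56) (ke xe18 ye7 ze23) (ke xe29 ye14 ze48) (ke xe25 ye18 ze5) (ke xe27 ye20 ze16) (ke xe30 ye27 ze60) (ke xe30 ye28 ze0) (ke xe29 ye38 ze52) (ke xe13 ye11 ze5) (ke xe29 ye39 ze46) (ke xe26 ye50 ze50) (ke xe24 ye34 ze34) (ke xe13 ye11 ze11) (ke xe23 ye24 ze9) (ke xe14 ye41 ze7) (ke xe22 ye0 ze46) (ke xe13 ye12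 ze18) (ke xe29 ye39 ze3) (ke xe22 ye22 ze2) (ke xe13 ye11 ze14) (ke xe13 ye11 ze17) (ke xe30 ye28 ze9) (ke xe14 ye44 ze46) (ke xe13 ye15 ze25) (ke xe29 ye33 ze53) (ke xe13 ye11 ze20) (ke xe29 ye32 ze31) (ke xe24 ye35 ze49) (ke xe29 ye34 ze10)) (@D3.rec (fun _ => Pt) (ke xe14 ye41 ze17) (ke xe13 ye11 ze22) (ke xe29 ye37 ze53) (ke xe28 ye39 ze39) (ke xe13 ye11 ze26) (ke xe20 ye25 ze38) (ke xe23 ye58 ze24) (ke xe22 ye30 ze3) (ke xe21 ye40 ze4) (ke xe30 ye28 ze29) (ke xe30 ye28 ze25) (ke xe14 ye40 ze33) (ke xe13 ye11 ze28) (ke xe14 ye40 ze34) (ke xe13 ye11 ze29) (ke xe24 ye17 ze56) (ke xe24 ye25 ze58) (ke xe30 ye28 ze39) (ke xe30 ye20 ze59) (ke xe13 ye11 ze31) (ke xe20 ye47 ze47) (ke xe21 ye11 ze22) (ke xe13 ye11 ze34) (ke xe17 ye25 ze24) (ke xe30 ye28 ze52) (ke xe14 ye41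 ze13) (ke xe29 ye38 ze6) (ke xe13 ye11 ze37) (ke xe30 ye28 ze55) (ke xe13 ye11 ze39) (ke xe30 ye28 ze57) (ke xe13 ye11 ze40) (ke xe30 ye16 ze31) (ke xe30 ye16 ze32) (ke xe19 ye31 ze17) (ke xe30 ye28 ze61) (ke xe13 ye11 ze43) (ke xe30 ye15 ze47) (ke xe30 ye29 ze3) (ke xe27 ye1 ze11) (ke xe30 ye29 ze8) (ke xe13 ye11 ze44) (ke xe25 ye51 ze41) (ke xe13 ye11 ze48) (ke xe22 ye19 ze28) (ke xe23 ye58 ze20) (ke xe27 ye3 ze6) (ke xe18 ye54 ze6) (ke xe19 ye13 ze34) (ke xe27 ye13 ze51) (ke xe30 ye29 ze19) (ke xe13 ye11 ze49) (ke xe29 ye26 ze59) (ke xe18 ye53 ze32) (ke xe27 ye2 ze33) (ke xe29 ye46 ze32) (ke xe24 ye9 ze30) (ke xe13 ye11 ze55) (ke xe20 ye39 ze41) (ke xe29 ye44 ze42) (ke xe22 ye0 ze10) (ke xe15 ye19 ze19)) (@D3.rec (fun _ => Pt) (ke xe13 ye11 ze56) (ke xe14 ye52 ze6)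 (ke xe22 ye25 ze25) (ke xe17 ye7 ze15) (ke xe13 ye46 ze2) (ke xe29 ye39 ze42) (ke xe30 ye29 ze28) (ke xe13 ye11 ze59) (ke xe22 ye25 ze12) (ke xe29 ye34 ze23) (ke xe19 ye29 ze4) (ke xe17 ye26 ze24) (ke xe22 ye25 ze8) (ke xe21 ye47 ze31) (ke xe15 ye51 ze23) (ke xe13 ye12 ze1) (ke xe15 ye55 ze29) (ke xe17 ye17 ze19) (ke xe13 ye12 ze4) (ke xe30 ye29 ze34) (ke xe30 ye29 ze38) (ke xe13 ye12 ze5) (ke xe14 ye52 ze10) (ke xe22 ye36 ze41) (ke xe15 ye55 ze33) (ke xe22 ye25 ze2) (ke xe26 ye26 ze20) (ke xe30 ye29 ze42) (ke xe13 ye12 ze8) (ke xe30 ye29 ze44) (ke xe20 ye44 ze22) (ke xe28 ye16 ze23) (ke xe22 ye36 ze42) (ke xe15 ye55 ze30) (ke xe28 ye35 ze14) (ke xe30 ye28 ze2) (ke xe20 ye23 ze23) (ke xe20 ye23 ze54) (ke xe30 ye28 ze4) (ke xe30 ye29 ze49) (ke xe30 ye29 ze50) (ke xe13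 ye12 ze14) (ke xe20 ye44 ze46) (ke xe30 ye29 ze54) (ke xe20 ye49 ze22) (ke xe22 ye1 ze18) (ke xe23 ye45 ze45) (ke xe24 ye2 ze1) (ke xe13 ye12 ze16) (ke xe30 ye29 ze58) (ke xe18 ye49 ze3) (ke xe28 ye55 ze50) (ke xe13 ye12 ze17) (ke xe28 ye53 ze31) (ke xe14 ye13 ze10) (ke xe30 ye18 ze54) (ke xe30 ye30 ze0) (ke xe13 ye12 ze19) (ke xe13 ye12 ze20) (ke xe28 ye37 ze52) (ke xe20 ye48 ze59) (ke xe30 ye30 ze4)) (@D3.rec (fun _ => Pt) (ke xe24 ye38 ze37) (ke xe20 ye35 ze43) (ke xe20 ye48 ze7) (ke xe27 ye23 ze51) (ke xe13 ye12 ze23) (ke xe30 ye30 ze7) (ke xe24 ye16 ze22) (ke xe13 ye12 ze24) (ke xe13 ye28 ze48) (ke xe14 ye38 ze60) (ke xe30 ye30 ze9) (ke xe30 ye22 ze26) (ke xe30 ye30 ze11) (ke xe14 ye10 ze37) (ke xe29 ye40 ze6) (ke xe30 ye30 ze12) (ke xe13 ye12 ze29) (ke xe24 ye9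 ze5) (ke xe13 ye12 ze30) (ke xe29 ye40 ze0) (ke xe30 ye30 ze15) (ke xe13 ye12 ze34) (ke xe30 ye22 ze15) (ke xe29 ye32 ze55) (ke xe13 ye12 ze36) (ke xe30 ye30 ze20) (ke xe23 ye11 ze5) (ke xe13 ye12 ze37) (ke xe30 ye30 ze24) (ke xe19 ye8 ze44) (ke xe13 ye53 ze43) (ke xe30 ye30 ze27) (ke xe30 ye22 ze16) (ke xe20 ye48 ze13) (ke xe14 ye37 ze53) (ke xe13 ye12 ze42) (ke xe30 ye28 ze40) (ke xe20 ye45 ze9) (ke xe13 ye33 ze58) (ke xe13 ye12 ze44) (ke xe20 ye23 ze47) (ke xe30 ye28 ze34) (ke xe29 ye38 ze7) (ke xe29 ye26 ze60) (ke xe13 ye13 ze28) (ke xe13 ye27 ze17) (ke xe30 ye30 ze35) (ke xe13 ye12 ze51) (ke xe13 ye53 ze55) (ke xe22 ye20 ze39) (ke xe14 ye3 ze40) (ke xe13 ye22 ze20) (ke xe13 ye12 ze53) (ke xe13 ye44 ze5) (ke xe20 ye53 ze5) (ke xe13 ye12 ze55) (ke xe27 ye8 ze3) (ke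 xe14 ye23 ze20) (ke xe30 ye30 ze39) (ke xe13 ye12 ze58) (ke xe30 ye30 ze41) (ke xe13 ye12 ze59)) (@D3.rec (fun _ => Pt) (ke xe30 ye30 ze46) (ke xe30 ye30 ze48) (ke xe22 ye12 ze39) (ke xe13 ye13 ze1) (ke xe23 ye35 ze32) (ke xe14 ye47 ze61) (ke xe25 ye34 ze54) (ke xe13 ye13 ze4) (ke xe29 ye51 ze22) (ke xe15 ye41 ze32) (ke xe13 ye13 ze6) (ke xe15 ye44 ze26) (ke xe15 ye45 ze35) (ke xe14 ye29 ze33) (ke xe14 ye2 ze36) (ke xe14 ye2 ze25) (ke xe13 ye13 ze10) (ke xe13 ye13 ze11) (ke xe29 ye21 ze19) (ke xe20 ye37 ze10) (ke xe30 ye30 ze55) (ke xe22 ye14 ze27) (ke xe13 ye13 ze13) (ke xe30 ye30 ze58) (ke xe13 ye13 ze14) (ke xe30 ye31 ze0) (ke xe30 ye31 ze1) (ke xe30 ye31 ze3) (ke xe13 ye13 ze15) (ke xe30 ye31 ze8) (ke xe30 ye31 ze10) (ke xe13 ye13 ze18) (ke xe13 ye13 ze19) (ke xe28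 ye45 ze34) (ke xe30 ye31 ze11) (ke xe26 ye35 ze51) (ke xe30 ye31 ze20) (ke xe30 ye30 ze52) (ke xe21 ye14 ze57) (ke xe28 ye48 ze45) (ke xe30 ye24 ze6) (ke xe30 ye31 ze26) (ke xe13 ye13 ze22) (ke xe28 ye3 ze42) (ke xe29 ye38 ze33) (ke xe13 ye13 ze24) (ke xe21 ye14 ze61) (ke xe13 ye33 ze33) (ke xe14 ye24 ze39) (ke xe30 ye31 ze31) (ke xe30 ye31 ze33) (ke xe30 ye30 ze28) (ke xe23 ye54 ze6) (ke xe21 ye36 ze21) (ke xe23 ye36 ze34) (ke xe25 ye29 ze40) (ke xe13 ye13 ze30) (ke xe23 ye45 ze5) (ke xe24 ye34 ze46) (ke xe14 ye38 ze13) (ke xe29 ye11 ze0) (ke xe30 ye31 ze36)) (@D3.rec (fun _ => Pt) (ke xe13 ye13 ze35) (ke xe27 ye44 ze32) (ke xe30 ye31 ze40) (ke xe22 ye45 ze31) (ke xe22 ye19 ze8) (ke xe24 ye40 ze6) (ke xe30 ye2 ze3) (ke xe29 ye31 ze3) (ke xe21 ye56 ze31) (ke xe15 ye13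 ze34) (ke xe14 ye9 ze23) (ke xe24 ye21 ze61) (ke xe25 ye23 ze11) (ke xe13 ye13 ze45) (ke xe28 ye36 ze52) (ke xe29 ye58 ze50) (ke xe14 ye9 ze29) (ke xe24 ye30 ze29) (ke xe22 ye30 ze41) (ke xe13 ye13 ze48) (ke xe22 ye55 ze48) (ke xe13 ye13 ze49) (ke xe13 ye54 ze50) (ke xe29 ye12 ze14) (ke xe14 ye56 ze31) (ke xe27 ye28 ze44) (ke xe18 ye8 ze33) (ke xe21 ye19 ze57) (ke xe13 ye13 ze51) (ke xe26 ye33 ze0) (ke xe28 ye2 ze10) (ke xe18 ye26 ze43) (ke xe23 ye37 ze38) (ke xe23 ye30 ze0) (ke xe23 ye28 ze46) (ke xe29 ye24 ze32) (ke xe24 ye56 ze32) (ke xe13 ye13 ze57) (ke xe18 ye33 ze39) (ke xe22 ye29 ze9) (ke xe18 ye49 ze45) (ke xe29 ye20 ze10) (ke xe13 ye15 ze3) (ke xe22 ye53 ze17) (ke xe13 ye18 ze28) (ke xe20 ye8 ze23) (ke xe27 ye58 ze22) (ke xe18 ye59 ze55) (ke xe28 ye19 ze3)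 (ke xe13 ye14 ze6) (ke xe27 ye38 ze50) (ke xe22 ye29 ze28) (ke xe26 ye19 ze0) (ke xe29 ye18 ze36) (ke xe28 ye19 ze17) (ke xe13 ye14 ze10) (ke xe13 ye41 ze42) (ke xe28 ye9 ze40) (ke xe18 ye16 ze4) (ke xe28 ye3 ze61) (ke xe13 ye14 ze12) (ke xe13 ye14 ze13)) (@D3.rec (fun _ => Pt) (ke xe13 ye15 ze30) (ke xe16 ye23 ze45) (ke xe13 ye24 ze2) (ke xe13 ye49 ze24) (ke xe13 ye40 ze3) (ke xe25 ye12 ze7) (ke xe13 ye14 ze21) (ke xe27 ye39 ze54) (ke xe18 ye21 ze44) (ke xe22 ye28 ze39) (ke xe18 ye21 ze41) (ke xe19 ye2 ze11) (ke xe30 ye25 ze2) (ke xe13 ye14 ze27) (ke xe13 ye14 ze29) (ke xe18 ye36 ze8) (ke xe14 ye58 ze46) (ke xe16 ye35 ze58) (ke xe30 ye31 ze58) (ke xe20 ye21 ze12) (ke xe13 ye14 ze31) (ke xe17 ye46 ze29) (ke xe18 ye12 ze4) (ke xe29 ye19 ze4) (ke xe19 ye3 ze46) (ke xe13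 ye14 ze35) (ke xe13 ye30 ze59) (ke xe21 ye7 ze57) (ke xe22 ye28 ze51) (ke xe25 ye46 ze43) (ke xe27 ye55 ze0) (ke xe13 ye14 ze37) (ke xe29 ye54 ze20) (ke xe13 ye14 ze39) (ke xe27 ye54 ze21) (ke xe15 ye49 ze36) (ke xe19 ye1 ze34) (ke xe30 ye32 ze3) (ke xe13 ye14 ze43) (ke xe30 ye32 ze7) (ke xe18 ye41 ze2) (ke xe13 ye14 ze49) (ke xe14 ye45 ze24) (ke xe21 ye13 ze43) (ke xe30 ye32 ze10) (ke xe13 ye14 ze51) (ke xe30 ye12 ze53) (ke xe30 ye32 ze14) (ke xe13 ye14 ze52) (ke xe22 ye34 ze12) (ke xe30 ye32 ze16) (ke xe24 ye10 ze61) (ke xe30 ye32 ze18) (ke xe14 ye39 ze33) (ke xe14 ye39 ze45) (ke xe30 ye32 ze22) (ke xe30 ye32 ze23) (ke xe13 ye14 ze59) (ke xe24 ye11 ze4) (ke xe13 ye14 ze61) (ke xe30 ye32 ze29) (ke xe22 ye39 ze26)) (@D3.rec (fun _ => Pt) (ke xe13 ye15 ze1) (ke xe30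 ye32 ze31) (ke xe13 ye15 ze2) (ke xe22 ye24 ze7) (ke xe29 ye24 ze31) (ke xe13 ye27 ze61) (ke xe13 ye28 ze0) (ke xe30 ye32 ze34) (ke xe30 ye32 ze36) (ke xe13 ye15 ze8) (ke xe23 ye33 ze50) (ke xe14 ye44 ze55) (ke xe14 ye28 ze55) (ke xe30 ye2 ze14) (ke xe18 ye19 ze22) (ke xe30 ye7 ze42) (ke xe29 ye23 ze2) (ke xe22 ye23 ze8) (ke xe21 ye32 ze56) (ke xe20 ye19 ze48) (ke xe28 ye0 ze56) (ke xe28 ye28 ze7) (ke xe29 ye29 ze22) (ke xe14 ye1 ze1) (ke xe13 ye15 ze23) (ke xe16 ye12 ze6) (ke xe21 ye13 ze3) (ke xe27 ye57 ze54) (ke xe13 ye29 ze16) (ke xe26 ye7 ze48) (ke xe14 ye2 ze1) (ke xe30 ye32 ze44) (ke xe16 ye12 ze9) (ke xe13 ye15 ze34) (ke xe16 ye20 ze26) (ke xe24 ye56 ze56) (ke xe16 ye12 ze21) (ke xe18 ye40 ze16) (ke xe16 ye12 ze22) (ke xe30 ye32 ze47) (ke xe13 ye15 ze40) (ke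 xe22 ye28 ze18) (ke xe13 ye15 ze42) (ke xe26 ye17 ze50) (ke xe18 ye40 ze34) (ke xe21 ye29 ze48) (ke xe13 ye15 ze44) (ke xe19 ye0 ze1) (ke xe26 ye47 ze53) (ke xe27 ye55 ze52) (ke xe13 ye16 ze5) (ke xe30 ye32 ze55) (ke xe30 ye32 ze57) (ke xe13 ye15 ze47) (ke xe24 ye5 ze39) (ke xe13 ye15 ze48) (ke xe13 ye15 ze49) (ke xe24 ye9 ze41) (ke xe26 ye48 ze39) (ke xe14 ye14 ze33) (ke xe28 ye20 ze13) (ke xe28 ye25 ze23)) (@D3.rec (fun _ => Pt) (ke xe30 ye32 ze61) (ke xe29 ye42 ze10) (ke xe30 ye33 ze2) (ke xe30 ye33 ze5) (ke xe13 ye15 ze54) (ke xe24 ye8 ze10) (ke xe14 ye17 ze22) (ke xe21 ye43 ze1) (ke xe27 ye30 ze24) (ke xe13 ye16 ze0) (ke xe16 ye2 ze59) (ke xe27 ye17 ze57) (ke xe13 ye15 ze58) (ke xe30 ye33 ze13) (ke xe18 ye6 ze48) (ke xe13 ye15 ze60) (ke xe21 ye24 ze47) (ke xe24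 ye44 ze6) (ke xe28 ye11 ze44) (ke xe13 ye16 ze1) (ke xe30 ye12 ze18) (ke xe23 ye19 ze52) (ke xe21 ye56 ze60) (ke xe25 ye3 ze6) (ke xe23 ye33 ze41) (ke xe26 ye0 ze54) (ke xe13 ye16 ze8) (ke xe16 ye10 ze31) (ke xe26 ye3 ze24) (ke xe13 ye16 ze10) (ke xe30 ye33 ze29) (ke xe25 ye39 ze13) (ke xe13 ye16 ze11) (ke xe29 ye13 ze54) (ke xe16 ye11 ze29) (ke xe30 ye33 ze37) (ke xe13 ye16 ze13) (ke xe29 ye6 ze26) (ke xe27 ye57 ze57) (ke xe23 ye21 ze49) (ke xe29 ye14 ze47) (ke xe29 ye18 ze19) (ke xe13 ye16 ze15) (ke xe30 ye33 ze38) (ke xe26 ye8 ze53) (ke xe20 ye6 ze3) (ke xe20 ye6 ze18) (ke xe20 ye32 ze18) (ke xe13 ye16 ze17) (ke xe13 ye26 ze23) (ke xe19 ye55 ze23) (ke xe30 ye33 ze40) (ke xe13 ye16 ze19) (ke xe23 ye59 ze36) (ke xe30 ye33 ze43) (ke xe21 ye27 ze53) (ke xe21 ye56 ze55)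 (ke xe30 ye33 ze48) (ke xe28 ye13 ze53) (ke xe13 ye33 ze20) (ke xe13 ye16 ze22) (ke xe30 ye12 ze54)) (@D3.rec (fun _ => Pt) (ke xe25 ye18 ze17) (ke xe20 ye33 ze13) (ke xe25 ye16 ze13) (ke xe30 ye33 ze57) (ke xe23 ye6 ze42) (ke xe30 ye5 ze36) (ke xe13 ye16 ze31) (ke xe20 ye31 ze46) (ke xe13 ye16 ze36) (ke xe23 ye26 ze50) (ke xe30 ye33 ze58) (ke xe13 ye16 ze39) (ke xe29 ye29 ze50) (ke xe13 ye16 ze40) (ke xe29 ye55 ze8) (ke xe30 ye5 ze35) (ke xe13 ye16 ze41) (ke xe22 ye17 ze35) (ke xe13 ye16 ze44) (ke xe17 ye15 ze38) (ke xe13 ye16 ze48) (ke xe13 ye16 ze49) (ke xe13 ye16 ze52) (ke xe16 ye54 ze38) (ke xe13 ye16 ze54) (ke xe30 ye33 ze61) (ke xe16 ye54 ze60) (ke xe16 ye55 ze29) (ke xe13 ye19 ze38) (ke xe23 ye11 ze1) (ke xe17 ye55 ze31) (ke xe13 ye16 ze57) (ke xe14 ye38 ze51)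 (ke xe30 ye34 ze1) (ke xe13 ye21 ze51) (ke xe22 ye44 ze13) (ke xe25 ye51 ze60) (ke xe17 ye11 ze34) (ke xe20 ye20 ze5) (ke xe21 ye30 ze2) (ke xe13 ye17 ze0) (ke xe29 ye39 ze6) (ke xe13 ye21 ze31) (ke xe13 ye17 ze3) (ke xe20 ye44 ze21) (ke xe29 ye20 ze14) (ke xe13 ye22 ze3) (ke xe13 ye17 ze5) (ke xe23 ye0 ze45) (ke xe25 ye52 ze5) (ke xe13 ye33 ze38) (ke xe14 ye16 ze0) (ke xe13 ye18 ze15) (ke xe24 ye24 ze36) (ke xe13 ye17 ze11) (ke xe14 ye42 ze28) (ke xe30 ye34 ze12) (ke xe13 ye17 ze14) (ke xe13 ye23 ze34) (ke xe13 ye33 ze26) (ke xe13 ye33 ze59) (ke xe29 ye48 ze3)) (@D3.rec (fun _ => Pt) (ke xe13 ye17 ze16) (ke xe28 ye2 ze42) (ke xe13 ye17 ze17) (ke xe28 ye2 ze41) (ke xe13 ye19 ze10) (ke xe13 ye17 ze20) (ke xe27 ye32 ze39) (ke xe13 ye17 ze22) (ke xe14 ye17 ze21) (ke xe14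 ye14 ze41) (ke xe24 ye1 ze53) (ke xe13 ye22 ze45) (ke xe30 ye34 ze22) (ke xe13 ye17 ze24) (ke xe28 ye55 ze24) (ke xe13 ye17 ze25) (ke xe30 ye34 ze25) (ke xe30 ye22 ze24) (ke xe24 ye1 ze61) (ke xe30 ye34 ze29) (ke xe24 ye2 ze12) (ke xe30 ye21 ze19) (ke xe13 ye17 ze29) (ke xe13 ye17 ze31) (ke xe28 ye35 ze30) (ke xe25 ye6 ze12) (ke xe28 ye52 ze21) (ke xe13 ye17 ze40) (ke xe13 ye17 ze42) (ke xe21 ye45 ze36) (ke xe13 ye30 ze0) (ke xe14 ye13 ze43) (ke xe30 ye34 ze39) (ke xe14 ye41 ze37) (ke xe14 ye17 ze40) (ke xe14 ye17 ze41) (ke xe13 ye17 ze49) (ke xe22 ye58 ze6) (ke xe13 ye17 ze51) (ke xe22 ye58 ze7) (ke xe13 ye17 ze54) (ke xe30 ye34 ze45) (ke xe13 ye17 ze55) (ke xe28 ye23 ze16) (ke xe30 ye34 ze51) (ke xe13 ye17 ze58) (ke xe14 ye12 ze47) (ke xe28 ye20 ze27) (ke xe14 ye16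 ze43) (ke xe14 ye17 ze11) (ke xe26 ye49 ze1) (ke xe30 ye34 ze55) (ke xe13 ye17 ze61) (ke xe14 ye17 ze34) (ke xe29 ye20 ze2) (ke xe29 ye19 ze49) (ke xe13 ye18 ze1) (ke xe24 ye27 ze10) (ke xe30 ye34 ze42) (ke xe14 ye17 ze27) (ke xe15 ye30 ze40) (ke xe13 ye18 ze5)) (@D3.rec (fun _ => Pt) (ke xe29 ye30 ze14) (ke xe13 ye18 ze6) (ke xe27 ye5 ze32) (ke xe30 ye34 ze60) (ke xe21 ye2 ze41) (ke xe13 ye18 ze9) (ke xe30 ye34 ze61) (ke xe22 ye18 ze38) (ke xe22 ye16 ze60) (ke xe30 ye35 ze5) (ke xe13 ye18 ze12) (ke xe30 ye20 ze56) (ke xe22 ye29 ze49) (ke xe24 ye46 ze6) (ke xe13 ye41 ze36) (ke xe27 ye10 ze54) (ke xe19 ye41 ze48) (ke xe22 ye58 ze36) (ke xe30 ye35 ze11) (ke xe13 ye18 ze22) (ke xe24 ye56 ze60) (ke xe13 ye18 ze24) (ke xe14 ye53 ze31) (ke xe28 ye26 ze22) (ke xe13 ye18 ze26)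 (ke xe24 ye46 ze12) (ke xe13 ye47 ze53) (ke xe27 ye11 ze58) (ke xe30 ye35 ze15) (ke xe14 ye14 ze58) (ke xe26 ye10 ze49) (ke xe13 ye18 ze31) (ke xe28 ye1 ze44) (ke xe19 ye4 ze48) (ke xe13 ye18 ze34) (ke xe30 ye35 ze17) (ke xe13 ye18 ze35) (ke xe13 ye18 ze56) (ke xe17 ye38 ze20) (ke xe30 ye35 ze19) (ke xe13 ye18 ze38) (ke xe23 ye37 ze59) (ke xe13 ye18 ze40) (ke xe19 ye41 ze0) (ke xe18 ye4 ze21) (ke xe14 ye14 ze60) (ke xe27 ye33 ze52) (ke xe30 ye35 ze24) (ke xe13 ye18 ze43) (ke xe28 ye15 ze15) (ke xe25 ye50 ze58) (ke xe30 ye35 ze27) (ke xe13 ye18 ze44) (ke xe23 ye10 ze49) (ke xe13 ye22 ze44) (ke xe28 ye3 ze14) (ke xe13 ye18 ze46) (ke xe30 ye35 ze35) (ke xe14 ye14 ze9) (ke xe14 ye14 ze47) (ke xe30 ye35 ze38) (ke xe13 ye18 ze48)) (@D3.rec (fun _ => Pt) (ke xe18 ye28 ze59)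 (ke xe13 ye18 ze49) (ke xe18 ye48 ze11) (ke xe18 ye27 ze52) (ke xe13 ye23 ze46) (ke xe14 ye15 ze16) (ke xe30 ye35 ze48) (ke xe30 ye35 ze50) (ke xe13 ye18 ze51) (ke xe15 ye6 ze58) (ke xe13 ye18 ze52) (ke xe27 ye48 ze29) (ke xe13 ye18 ze54) (ke xe24 ye46 ze39) (ke xe30 ye25 ze11) (ke xe13 ye18 ze57) (ke xe22 ye8 ze55) (ke xe13 ye18 ze59) (ke xe28 ye38 ze40) (ke xe14 ye35 ze8) (ke xe14 ye15 ze35) (ke xe13 ye18 ze61) (ke xe29 ye58 ze14) (ke xe13 ye21 ze5) (ke xe30 ye12 ze40) (ke xe30 ye35 ze56) (ke xe23 ye47 ze11) (ke xe24 ye2 ze10) (ke xe16 ye24 ze36) (ke xe13 ye19 ze5) (ke xe30 ye7 ze14) (ke xe30 ye35 ze60) (ke xe13 ye19 ze9) (ke xe30 ye36 ze3) (ke xe22 ye38 ze15) (ke xe13 ye19 ze12) (ke xe23 ye23 ze4) (ke xe23 ye20 ze6) (ke xe14 ye18 ze59) (ke xe30 ye36 ze5) (ke xe13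 ye19 ze14) (ke xe24 ye38 ze56) (ke xe30 ye36 ze6) (ke xe13 ye19 ze25) (ke xe23 ye11 ze49) (ke xe13 ye19 ze18) (ke xe30 ye36 ze10) (ke xe13 ye19 ze19) (ke xe26 ye52 ze40) (ke xe30 ye36 ze12) (ke xe13 ye19 ze22) (ke xe17 ye11 ze36) (ke xe19 ye28 ze3) (ke xe13 ye19 ze23) (ke xe30 ye36 ze18) (ke xe30 ye36 ze19) (ke xe13 ye19 ze24) (ke xe30 ye26 ze37) (ke xe16 ye22 ze39) (ke xe13 ye45 ze24) (ke xe30 ye36 ze23) (ke xe13 ye19 ze26)) (@D3.rec (fun _ => Pt) (ke xe13 ye35 ze7) (ke xe22 ye59 ze20) (ke xe13 ye19 ze30) (ke xe13 ye19 ze31) (ke xe30 ye36 ze28) (ke xe13 ye19 ze34) (ke xe30 ye36 ze29) (ke xe24 ye12 ze29) (ke xe30 ye36 ze30) (ke xe24 ye40 ze30) (ke xe30 ye36 ze31) (ke xe13 ye19 ze42) (ke xe13 ye19 ze43) (ke xe13 ye19 ze45) (ke xe28 ye18 ze55) (ke xe17 ye49 ze42) (ke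 xe18 ye56 ze50) (ke xe22 ye50 ze21) (ke xe14 ye1 ze30) (ke xe19 ye51 ze2) (ke xe23 ye36 ze39) (ke xe18 ye7 ze31) (ke xe24 ye14 ze1) (ke xe22 ye15 ze7) (ke xe19 ye50 ze16) (ke xe24 ye56 ze23) (ke xe18 ye7 ze42) (ke xe19 ye1 ze61) (ke xe14 ye28 ze24) (ke xe22 ye12 ze36) (ke xe17 ye16 ze60) (ke xe29 ye55 ze15) (ke xe30 ye36 ze37) (ke xe13 ye20 ze6) (ke xe30 ye36 ze39) (ke xe30 ye36 ze41) (ke xe13 ye20 ze7) (ke xe30 ye36 ze43) (ke xe16 ye0 ze22) (ke xe22 ye23 ze20) (ke xe22 ye23 ze28) (ke xe22 ye25 ze23) (ke xe22 ye25 ze32) (ke xe21 ye52 ze2) (ke xe20 ye44 ze59) (ke xe27 ye13 ze47) (ke xe30 ye36 ze48) (ke xe13 ye20 ze17) (ke xe30 ye36 ze49) (ke xe19 ye34 ze26) (ke xe13 ye20 ze18) (ke xe13 ye20 ze20) (ke xe20 ye27 ze38) (ke xe13 ye20 ze21) (ke xe16 ye56 ze5) (ke xe18 ye47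 ze27) (ke xe18 ye44 ze42) (ke xe20 ye47 ze41) (ke xe24 ye16 ze38) (ke xe25 ye51 ze44) (ke xe17 ye23 ze32) (ke xe18 ye44 ze45)) (@D3.rec (fun _ => Pt) (ke xe17 ye0 ze8) (ke xe25 ye39 ze52) (ke xe17 ye58 ze42) (ke xe26 ye3 ze55) (ke xe21 ye40 ze33) (ke xe21 ye45 ze55) (ke xe18 ye0 ze58) (ke xe13 ye21 ze28) (ke xe30 ye36 ze51) (ke xe23 ye0 ze14) (ke xe29 ye25 ze46) (ke xe29 ye6 ze41) (ke xe24 ye18 ze0) (ke xe21 ye45 ze58) (ke xe24 ye28 ze0) (ke xe13 ye20 ze50) (ke xe16 ye54 ze27) (ke xe13 ye22 ze2) (ke xe30 ye36 ze53) (ke xe20 ye47 ze30) (ke xe13 ye21 ze58) (ke xe23 ye27 ze27) (ke xe13 ye20 ze55) (ke xe13 ye20 ze56) (ke xe13 ye20 ze58) (ke xe30 ye36 ze56) (ke xe30 ye36 ze57) (ke xe13 ye20 ze59) (ke xe30 ye36 ze59) (ke xe13 ye20 ze60) (ke xe30 ye37 ze0) (ke xe13 ye21 ze0)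 (ke xe30 ye37 ze2) (ke xe20 ye41 ze10) (ke xe13 ye21 ze2) (ke xe23 ye52 ze45) (ke xe13 ye21 ze3) (ke xe17 ye11 ze5) (ke xe24 ye24 ze45) (ke xe13 ye22 ze34) (ke xe26 ye22 ze2) (ke xe30 ye37 ze5) (ke xe13 ye21 ze6) (ke xe13 ye24 ze30) (ke xe13 ye21 ze7) (ke xe23 ye34 ze5) (ke xe14 ye10 ze35) (ke xe23 ye5 ze39) (ke xe21 ye49 ze29) (ke xe30 ye37 ze10) (ke xe13 ye21 ze9) (ke xe22 ye22 ze17) (ke xe26 ye22 ze31) (ke xe13 ye21 ze11) (ke xe16 ye31 ze35) (ke xe26 ye26 ze21) (ke xe13 ye32 ze9) (ke xe25 ye51 ze55) (ke xe26 ye58 ze18) (ke xe24 ye24 ze15) (ke xe13 ye21 ze16) (ke xe19 ye12 ze61)) (@D3.rec (fun _ => Pt) (ke xe13 ye47 ze7) (ke xe13 ye21 ze19) (ke xe23 ye42 ze58) (ke xe13 ye21 ze20) (ke xe30 ye37 ze21) (ke xe27 ye12 ze17) (ke xe23 ye0 ze16) (ke xe17 ye56 ze1) (ke xe13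 ye21 ze24) (ke xe23 ye36 ze3) (ke xe13 ye21 ze25) (ke xe13 ye21 ze26) (ke xe13 ye54 ze11) (ke xe26 ye2 ze28) (ke xe14 ye39 ze36) (ke xe22 ye35 ze34) (ke xe19 ye52 ze4) (ke xe21 ye34 ze25) (ke xe24 ye24 ze22) (ke xe24 ye29 ze13) (ke xe13 ye21 ze29) (ke xe30 ye37 ze27) (ke xe30 ye11 ze51) (ke xe13 ye21 ze32) (ke xe14 ye40 ze51) (ke xe13 ye21 ze33) (ke xe28 ye36 ze10) (ke xe20 ye22 ze46) (ke xe13 ye21 ze35) (ke xe15 ye52 ze61) (ke xe22 ye16 ze12) (ke xe28 ye17 ze53) (ke xe13 ye21 ze38) (ke xe13 ye21 ze40) (ke xe17 ye55 ze33) (ke xe30 ye37 ze32) (ke xe24 ye53 ze15) (ke xe13 ye21 ze45) (ke xe16 ye54 ze37) (ke xe28 ye30 ze22) (ke xe15 ye52 ze59) (ke xe23 ye35 ze21) (ke xe23 ye36 ze0) (ke xe14 ye39 ze17) (ke xe17 ye56 ze2) (ke xe28 ye17 ze39) (ke xe24 ye11 ze17) (ke xe25 ye4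 ze18) (ke xe24 ye20 ze30) (ke xe23 ye11 ze9) (ke xe21 ye54 ze61) (ke xe13 ye21 ze53) (ke xe24 ye47 ze34) (ke xe13 ye31 ze6) (ke xe29 ye38 ze30) (ke xe13 ye21 ze54) (ke xe13 ye39 ze5) (ke xe14 ye1 ze25) (ke xe19 ye17 ze43) (ke xe14 ye5 ze28) (ke xe27 ye40 ze31) (ke xe16 ye3 ze12)) (@D3.rec (fun _ => Pt) (ke xe17 ye15 ze11) (ke xe26 ye22 ze45) (ke xe20 ye54 ze57) (ke xe13 ye21 ze59) (ke xe14 ye1 ze26) (ke xe19 ye4 ze29) (ke xe13 ye22 ze1) (ke xe21 ye13 ze42) (ke xe23 ye29 ze42) (ke xe13 ye22 ze4) (ke xe14 ye43 ze38) (ke xe13 ye22 ze7) (ke xe14 ye46 ze6) (ke xe30 ye8 ze24) (ke xe19 ye15 ze11) (ke xe14 ye21 ze12) (ke xe14 ye21 ze11) (ke xe26 ye49 ze16) (ke xe30 ye37 ze44) (ke xe13 ye22 ze13) (ke xe30 ye37 ze46) (ke xe13 ye22 ze14) (ke xe30 ye37 ze50) (ke xe13 ye22 ze16)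 (ke xe30 ye37 ze53) (ke xe30 ye37 ze56) (ke xe22 ye29 ze61) (ke xe13 ye22 ze17) (ke xe30 ye37 ze61) (ke xe26 ye54 ze4) (ke xe13 ye22 ze19) (ke xe23 ye51 ze34) (ke xe30 ye36 ze60) (ke xe30 ye37 ze42) (ke xe30 ye32 ze25) (ke xe28 ye18 ze56) (ke xe30 ye38 ze4) (ke xe30 ye38 ze5) (ke xe13 ye22 ze22) (ke xe29 ye1 ze50) (ke xe13 ye22 ze24) (ke xe30 ye38 ze13) (ke xe23 ye58 ze46) (ke xe14 ye39 ze46) (ke xe22 ye59 ze24) (ke xe13 ye22 ze26) (ke xe30 ye23 ze46) (ke xe13 ye22 ze27) (ke xe14 ye39 ze42) (ke xe30 ye37 ze54) (ke xe24 ye24 ze56) (ke xe28 ye51 ze49) (ke xe13 ye22 ze29) (ke xe30 ye38 ze28) (ke xe13 ye22 ze30) (ke xe30 ye37 ze3) (ke xe22 ye59 ze27) (ke xe28 ye22 ze28) (ke xe13 ye22 ze32) (ke xe30 ye38 ze34) (ke xe13 ye22 ze33) (ke xe22 ye59 ze25)) (@D3.rec (fun _ => Pt)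 (ke xe14 ye39 ze39) (ke xe30 ye32 ze26) (ke xe18 ye49 ze57) (ke xe13 ye22 ze35) (ke xe23 ye28 ze12) (ke xe17 ye24 ze31) (ke xe28 ye15 ze49) (ke xe21 ye38 ze40) (ke xe30 ye38 ze44) (ke xe13 ye22 ze37) (ke xe13 ye49 ze52) (ke xe21 ye38 ze41) (ke xe13 ye22 ze39) (ke xe22 ye13 ze26) (ke xe29 ye50 ze12) (ke xe20 ye39 ze54) (ke xe19 ye31 ze3) (ke xe22 ye56 ze59) (ke xe30 ye3 ze50) (ke xe28 ye45 ze43) (ke xe21 ye9 ze17) (ke xe26 ye4 ze12) (ke xe13 ye22 ze46) (ke xe30 ye38 ze49) (ke xe13 ye22 ze47) (ke xe20 ye11 ze39) (ke xe13 ye56 ze18) (ke xe28 ye17 ze44) (ke xe25 ye51 ze47) (ke xe17 ye0 ze58) (ke xe24 ye28 ze4) (ke xe28 ye53 ze47) (ke xe26 ye53 ze3) (ke xe28 ye6 ze58) (ke xe13 ye22 ze56) (ke xe30 ye38 ze53) (ke xe13 ye22 ze57) (ke xe19 ye52 ze32) (ke xe23 ye24 ze14) (ke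 xe27 ye5 ze20) (ke xe23 ye42 ze13) (ke xe30 ye37 ze15) (ke xe13 ye22 ze60) (ke xe14 ye39 ze57) (ke xe25 ye51 ze32) (ke xe25 ye42 ze31) (ke xe30 ye39 ze3) (ke xe26 ye50 ze19) (ke xe29 ye21 ze59) (ke xe23 ye46 ze11) (ke xe13 ye23 ze1) (ke xe23 ye4 ze37) (ke xe28 ye17 ze38) (ke xe13 ye23 ze6) (ke xe24 ye9 ze58) (ke xe13 ye36 ze35) (ke xe13 ye23 ze5) (ke xe30 ye17 ze34) (ke xe26 ye9 ze19) (ke xe13 ye23 ze7) (ke xe14 ye15 ze30) (ke xe14 ye14 ze42)) (@D3.rec (fun _ => Pt) (ke xe23 ye10 ze50) (ke xe13 ye23 ze11) (ke xe28 ye32 ze23) (ke xe21 ye9 ze56) (ke xe24 ye29 ze39) (ke xe28 ye41 ze12) (ke xe13 ye23 ze15) (ke xe30 ye34 ze16) (ke xe23 ye27 ze19) (ke xe13 ye23 ze17) (ke xe24 ye28 ze16) (ke xe13 ye34 ze16) (ke xe13 ye34 ze15) (ke xe14 ye28 ze18) (ke xe13 ye26 ze48) (ke xe26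 ye43 ze60) (ke xe21 ye45 ze30) (ke xe24 ye28 ze40) (ke xe13 ye54 ze32) (ke xe30 ye34 ze9) (ke xe21 ye9 ze0) (ke xe13 ye34 ze24) (ke xe13 ye42 ze51) (ke xe30 ye39 ze14) (ke xe29 ye48 ze12) (ke xe13 ye23 ze40) (ke xe27 ye37 ze15) (ke xe30 ye39 ze21) (ke xe30 ye34 ze14) (ke xe13 ye52 ze6) (ke xe18 ye49 ze19) (ke xe20 ye59 ze60) (ke xe18 ye47 ze3) (ke xe30 ye39 ze22) (ke xe13 ye23 ze44) (ke xe30 ye39 ze26) (ke xe30 ye23 ze34) (ke xe13 ye23 ze45) (ke xe30 ye35 ze46) (ke xe13 ye23 ze47) (ke xe30 ye39 ze32) (ke xe30 ye39 ze33) (ke xe30 ye32 ze33) (ke xe13 ye51 ze54) (ke xe19 ye56 ze42) (ke xe24 ye53 ze59) (ke xe13 ye23 ze50) (ke xe30 ye32 ze21) (ke xe30 ye39 ze40) (ke xe13 ye23 ze51) (ke xe28 ye53 ze25) (ke xe30 ye39 ze47) (ke xe13 ye23 ze53) (ke xe23 ye13 ze36) (ke xe23 ye54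 ze11) (ke xe13 ye23 ze55) (ke xe24 ye10 ze51) (ke xe23 ye3 ze16) (ke xe13 ye23 ze58) (ke xe28 ye0 ze54) (ke xe16 ye11 ze57) (ke xe13 ye51 ze59)) (@D3.rec (fun _ => Pt) (ke xe21 ye14 ze13) (ke xe21 ye14 ze14) (ke xe13 ye30 ze30) (ke xe30 ye39 ze52) (ke xe14 ye22 ze49) (ke xe16 ye22 ze47) (ke xe15 ye9 ze55) (ke xe13 ye24 ze4) (ke xe23 ye15 ze39) (ke xe20 ye32 ze30) (ke xe13 ye24 ze6) (ke xe21 ye53 ze55) (ke xe13 ye50 ze46) (ke xe13 ye51 ze10) (ke xe20 ye32 ze31) (ke xe28 ye3 ze5) (ke xe13 ye24 ze8) (ke xe23 ye8 ze29) (ke xe23 ye33 ze8) (ke xe13 ye51 ze23) (ke xe30 ye39 ze57) (ke xe29 ye14 ze33) (ke xe13 ye24 ze10) (ke xe15 ye0 ze22) (ke xe13 ye24 ze13) (ke xe16 ye54 ze56) (ke xe26 ye28 ze12) (ke xe30 ye12 ze32) (ke xe13 ye24 ze19) (ke xe20 ye19 ze15) (ke xe16 ye55 ze1)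 (ke xe29 ye27 ze2) (ke xe13 ye24 ze22) (ke xe17 ye31 ze19) (ke xe14 ye9 ze50) (ke xe23 ye1 ze0) (ke xe29 ye17 ze2) (ke xe13 ye24 ze25) (ke xe30 ye39 ze61) (ke xe13 ye24 ze29) (ke xe29 ye14 ze55) (ke xe16 ye25 ze17) (ke xe13 ye24 ze31) (ke xe29 ye38 ze36) (ke xe13 ye24 ze32) (ke xe21 ye53 ze56) (ke xe22 ye42 ze49) (ke xe29 ye53 ze34) (ke xe13 ye24 ze34) (ke xe22 ye42 ze46) (ke xe13 ye24 ze36) (ke xe23 ye28 ze58) (ke xe13 ye24 ze37) (ke xe30 ye4 ze44) (ke xe23 ye26 ze41) (ke xe13 ye55 ze54) (ke xe22 ye44 ze14) (ke xe30 ye40 ze11) (ke xe30 ye40 ze14) (ke xe30 ye40 ze16) (ke xe28 ye47 ze13) (ke xe13 ye24 ze40)) (@D3.rec (fun _ => Pt) (ke xe30 ye40 ze22) (ke xe13 ye24 ze42) (ke xe13 ye25 ze1) (ke xe30 ye40 ze23) (ke xe30 ye40 ze24) (ke xe13 ye24 ze47) (ke xe30 ye40 ze25)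 (ke xe30 ye40 ze4) (ke xe28 ye10 ze56) (ke xe30 ye40 ze26) (ke xe13 ye24 ze49) (ke xe29 ye10 ze5) (ke xe13 ye24 ze50) (ke xe29 ye58 ze43) (ke xe18 ye1 ze8) (ke xe13 ye57 ze36) (ke xe30 ye40 ze35) (ke xe30 ye40 ze36) (ke xe13 ye24 ze52) (ke xe29 ye11 ze55) (ke xe30 ye40 ze40) (ke xe13 ye24 ze53) (ke xe30 ye40 ze44) (ke xe17 ye28 ze17) (ke xe13 ye24 ze54) (ke xe22 ye44 ze59) (ke xe30 ye40 ze47) (ke xe22 ye44 ze44) (ke xe20 ye29 ze53) (ke xe13 ye24 ze56) (ke xe30 ye40 ze48) (ke xe13 ye24 ze57) (ke xe30 ye40 ze51) (ke xe30 ye40 ze54) (ke xe22 ye44 ze49) (ke xe30 ye40 ze56) (ke xe21 ye19 ze27) (ke xe13 ye24 ze59) (ke xe13 ye57 ze31) (ke xe30 ye41 ze2) (ke xe13 ye25 ze0) (ke xe27 ye58 ze8) (ke xe30 ye41 ze4) (ke xe23 ye39 ze49) (ke xe30 ye40 ze41) (ke xe21 ye24 ze57) (ke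 xe13 ye25 ze2) (ke xe13 ye25 ze3) (ke xe14 ye9 ze14) (ke xe22 ye44 ze56) (ke xe30 ye41 ze6) (ke xe24 ye38 ze31) (ke xe13 ye25 ze6) (ke xe13 ye54 ze56) (ke xe22 ye45 ze11) (ke xe14 ye0 ze35) (ke xe19 ye56 ze46) (ke xe26 ye14 ze35) (ke xe22 ye45 ze10) (ke xe23 ye30 ze38) (ke xe24 ye41 ze4) (ke xe22 ye45 ze23)) (@D3.rec (fun _ => Pt) (ke xe22 ye45 ze24) (ke xe13 ye48 ze8) (ke xe14 ye11 ze24) (ke xe29 ye58 ze27) (ke xe23 ye41 ze59) (ke xe30 ye41 ze11) (ke xe23 ye42 ze5) (ke xe13 ye25 ze20) (ke xe26 ye47 ze37) (ke xe13 ye25 ze21) (ke xe29 ye58 ze22) (ke xe23 ye29 ze26) (ke xe14 ye6 ze20) (ke xe22 ye32 ze35) (ke xe22 ye42 ze56) (ke xe30 ye41 ze24) (ke xe30 ye41 ze26) (ke xe30 ye41 ze28) (ke xe30 ye41 ze32) (ke xe13 ye25 ze24) (ke xe21 ye55 ze6) (ke xe23 ye29 ze21) (ke xe30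 ye31 ze46) (ke xe17 ye55 ze57) (ke xe21 ye24 ze52) (ke xe22 ye21 ze7) (ke xe30 ye41 ze40) (ke xe13 ye25 ze29) (ke xe29 ye58 ze9) (ke xe23 ye38 ze42) (ke xe29 ye49 ze47) (ke xe30 ye41 ze44) (ke xe29 ye55 ze25) (ke xe13 ye25 ze32) (ke xe30 ye4 ze36) (ke xe13 ye25 ze33) (ke xe23 ye44 ze28) (ke xe23 ye26 ze45) (ke xe14 ye7 ze36) (ke xe23 ye30 ze2) (ke xe30 ye41 ze55) (ke xe13 ye25 ze35) (ke xe30 ye23 ze32) (ke xe23 ye30 ze1) (ke xe22 ye43 ze27) (ke xe30 ye41 ze60) (ke xe13 ye25 ze37) (ke xe29 ye57 ze53) (ke xe14 ye7 ze33) (ke xe22 ye43 ze34) (ke xe25 ye23 ze18) (ke xe29 ye10 ze28) (ke xe13 ye25 ze41) (ke xe30 ye42 ze7) (ke xe30 ye42 ze10) (ke xe21 ye34 ze37) (ke xe22 ye43 ze49) (ke xe30 ye42 ze13) (ke xe13 ye25 ze44) (ke xe22 ye43 ze25) (ke xe30 ye41 ze8) (ke xe14 ye7 ze5))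 (@D3.rec (fun _ => Pt) (ke xe13 ye58 ze20) (ke xe13 ye25 ze49) (ke xe30 ye42 ze16) (ke xe30 ye42 ze18) (ke xe22 ye4 ze60) (ke xe13 ye25 ze48) (ke xe30 ye2 ze58) (ke xe23 ye27 ze5) (ke xe14 ye40 ze4) (ke xe17 ye38 ze26) (ke xe22 ye43 ze58) (ke xe22 ye43 ze54) (ke xe13 ye37 ze23) (ke xe23 ye0 ze61) (ke xe13 ye38 ze15) (ke xe13 ye26 ze12) (ke xe19 ye56 ze20) (ke xe14 ye6 ze43) (ke xe13 ye37 ze21) (ke xe19 ye54 ze22) (ke xe23 ye13 ze24) (ke xe25 ye2 ze39) (ke xe30 ye0 ze30) (ke xe22 ye43 ze61) (ke xe22 ye44 ze0) (ke xe13 ye26 ze1) (ke xe25 ye52 ze0) (ke xe30 ye42 ze25) (ke xe13 ye26 ze5) (ke xe13 ye51 ze36) (ke xe28 ye4 ze3) (ke xe22 ye28 ze3) (ke xe14 ye38 ze24) (ke xe24 ye41 ze10) (ke xe14 ye28 ze60) (ke xe14 ye45 ze40) (ke xe19 ye26 ze23) (ke xe13 ye26 ze9) (ke xe23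 ye32 ze61) (ke xe23 ye1 ze56) (ke xe22 ye15 ze50) (ke xe23 ye16 ze17) (ke xe19 ye14 ze50) (ke xe30 ye42 ze33) (ke xe13 ye26 ze13) (ke xe13 ye26 ze15) (ke xe13 ye52 ze55) (ke xe19 ye55 ze11) (ke xe19 ye54 ze37) (ke xe13 ye26 ze18) (ke xe19 ye59 ze6) (ke xe30 ye42 ze35) (ke xe22 ye12 ze17) (ke xe24 ye10 ze40) (ke xe30 ye20 ze11) (ke xe13 ye26 ze20) (ke xe14 ye28 ze40) (ke xe25 ye37 ze2) (ke xe21 ye55 ze61) (ke xe30 ye31 ze45) (ke xe30 ye1 ze3) (ke xe14 ye8 ze19)) (@D3.rec (fun _ => Pt) (ke xe14 ye9 ze3) (ke xe24 ye37 ze18) (ke xe30 ye42 ze41) (ke xe14 ye9 ze16) (ke xe27 ye45 ze55) (ke xe30 ye42 ze42) (ke xe30 ye42 ze43) (ke xe26 ye0 ze18) (ke xe13 ye26 ze29) (ke xe30 ye42 ze48) (ke xe24 ye36 ze13) (ke xe13 ye26 ze30) (ke xe24 ye25 ze59) (ke xe15 ye10 ze17) (ke xe21 ye2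 ze47) (ke xe22 ye46 ze37) (ke xe13 ye26 ze42) (ke xe23 ye3 ze37) (ke xe29 ye18 ze20) (ke xe27 ye42 ze59) (ke xe24 ye28 ze7) (ke xe13 ye26 ze49) (ke xe18 ye46 ze54) (ke xe13 ye26 ze50) (ke xe16 ye26 ze4) (ke xe29 ye54 ze6) (ke xe16 ye25 ze59) (ke xe26 ye48 ze45) (ke xe16 ye56 ze12) (ke xe13 ye26 ze58) (ke xe13 ye26 ze60) (ke xe20 ye11 ze57) (ke xe13 ye27 ze1) (ke xe26 ye22 ze27) (ke xe21 ye44 ze60) (ke xe13 ye27 ze4) (ke xe13 ye27 ze5) (ke xe22 ye46 ze15) (ke xe16 ye48 ze60) (ke xe20 ye13 ze57) (ke xe14 ye25 ze23) (ke xe19 ye52 ze31) (ke xe13 ye27 ze10) (ke xe21 ye30 ze50) (ke xe21 ye53 ze59) (ke xe23 ye4 ze22) (ke xe30 ye27 ze43) (ke xe13 ye27 ze13) (ke xe29 ye31 ze13) (ke xe13 ye27 ze14) (ke xe29 ye32 ze7) (ke xe13 ye27 ze15) (ke xe24 ye24 ze39) (ke xe24 ye3 ze2) (ke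 xe14 ye44 ze11) (ke xe24 ye1 ze45) (ke xe13 ye41 ze35) (ke xe14 ye10 ze24) (ke xe21 ye13 ze54) (ke xe13 ye27 ze19) (ke xe13 ye53 ze56) (ke xe24 ye1 ze47)) (@D3.rec (fun _ => Pt) (ke xe22 ye19 ze59) (ke xe13 ye27 ze27) (ke xe13 ye27 ze28) (ke xe24 ye28 ze54) (ke xe22 ye6 ze35) (ke xe23 ye54 ze9) (ke xe30 ye43 ze1) (ke xe16 ye52 ze8) (ke xe28 ye51 ze5) (ke xe13 ye27 ze32) (ke xe18 ye24 ze5) (ke xe25 ye17 ze54) (ke xe13 ye27 ze39) (ke xe14 ye28 ze22) (ke xe21 ye44 ze36) (ke xe20 ye17 ze22) (ke xe23 ye3 ze49) (ke xe16 ye48 ze58) (ke xe13 ye27 ze49) (ke xe21 ye14 ze17) (ke xe26 ye18 ze38) (ke xe20 ye19 ze20) (ke xe22 ye16 ze41) (ke xe13 ye28 ze8) (ke xe13 ye35 ze43) (ke xe14 ye24 ze22) (ke xe30 ye24 ze3) (ke xe21 ye14 ze56) (ke xe23 ye46 ze43) (ke xe20 ye52 ze39) (ke xe13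 ye28 ze2) (ke xe27 ye41 ze57) (ke xe13 ye28 ze3) (ke xe13 ye28 ze4) (ke xe28 ye2 ze27) (ke xe13 ye28 ze6) (ke xe30 ye43 ze11) (ke xe13 ye28 ze7) (ke xe20 ye47 ze40) (ke xe25 ye56 ze15) (ke xe29 ye37 ze34) (ke xe28 ye9 ze47) (ke xe25 ye12 ze58) (ke xe13 ye28 ze11) (ke xe30 ye43 ze13) (ke xe13 ye28 ze12) (ke xe25 ye35 ze8) (ke xe30 ye43 ze16) (ke xe13 ye28 ze14) (ke xe24 ye46 ze34) (ke xe13 ye28 ze15) (ke xe13 ye28 ze16) (ke xe23 ye20 ze26) (ke xe14 ye11 ze13) (ke xe13 ye32 ze16) (ke xe22 ye49 ze12) (ke xe16 ye32 ze5) (ke xe26 ye20 ze25) (ke xe17 ye1 ze1) (ke xe28 ye34 ze39) (ke xe13 ye28 ze20) (ke xe28 ye33 ze60)) (@D3.rec (fun _ => Pt) (ke xe13 ye28 ze22) (ke xe25 ye12 ze43) (ke xe13 ye31 ze58) (ke xe13 ye28 ze24) (ke xe30 ye43 ze14) (ke xe28 ye28 ze28) (ke xe13 ye32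 ze37) (ke xe20 ye32 ze32) (ke xe18 ye43 ze22) (ke xe13 ye28 ze27) (ke xe22 ye6 ze41) (ke xe13 ye28 ze28) (ke xe30 ye37 ze13) (ke xe16 ye28 ze33) (ke xe13 ye32 ze27) (ke xe16 ye43 ze13) (ke xe13 ye28 ze30) (ke xe30 ye43 ze32) (ke xe13 ye28 ze31) (ke xe13 ye28 ze33) (ke xe30 ye43 ze35) (ke xe26 ye28 ze36) (ke xe13 ye28 ze35) (ke xe30 ye43 ze39) (ke xe24 ye59 ze34) (ke xe27 ye21 ze21) (ke xe13 ye28 ze39) (ke xe23 ye21 ze34) (ke xe30 ye43 ze43) (ke xe13 ye33 ze55) (ke xe24 ye57 ze49) (ke xe26 ye23 ze57) (ke xe16 ye32 ze31) (ke xe30 ye43 ze47) (ke xe13 ye28 ze42) (ke xe28 ye58 ze5) (ke xe23 ye52 ze54) (ke xe27 ye16 ze37) (ke xe30 ye43 ze51) (ke xe13 ye28 ze45) (ke xe15 ye39 ze53) (ke xe13 ye28 ze46) (ke xe23 ye34 ze1) (ke xe28 ye14 ze5) (ke xe14 ye28 ze10) (ke xe24 ye28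 ze31) (ke xe30 ye27 ze44) (ke xe28 ye28 ze56) (ke xe30 ye43 ze55) (ke xe30 ye18 ze58) (ke xe13 ye28 ze51) (ke xe14 ye35 ze39) (ke xe30 ye36 ze52) (ke xe13 ye35 ze32) (ke xe14 ye19 ze2) (ke xe14 ye38 ze23) (ke xe30 ye43 ze59) (ke xe13 ye28 ze55) (ke xe30 ye43 ze61) (ke xe13 ye28 ze56) (ke xe14 ye21 ze26) (ke xe24 ye18 ze54)) (@D3.rec (fun _ => Pt) (ke xe13 ye35 ze10) (ke xe14 ye22 ze23) (ke xe29 ye21 ze28) (ke xe24 ye26 ze54) (ke xe17 ye1 ze17) (ke xe17 ye0 ze42) (ke xe13 ye28 ze61) (ke xe14 ye19 ze37) (ke xe29 ye54 ze48) (ke xe24 ye6 ze4) (ke xe22 ye54 ze7) (ke xe13 ye29 ze1) (ke xe22 ye47 ze55) (ke xe13 ye29 ze2) (ke xe20 ye8 ze55) (ke xe13 ye29 ze4) (ke xe30 ye44 ze6) (ke xe22 ye53 ze14) (ke xe13 ye29 ze5) (ke xe27 ye57 ze35) (ke xe28 ye20 ze15) (ke xe30 ye44 ze10)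 (ke xe13 ye29 ze6) (ke xe19 ye27 ze17) (ke xe20 ye38 ze49) (ke xe23 ye0 ze8) (ke xe19 ye2 ze44) (ke xe19 ye2 ze39) (ke xe13 ye29 ze8) (ke xe24 ye6 ze28) (ke xe14 ye31 ze52) (ke xe13 ye29 ze9) (ke xe13 ye29 ze11) (ke xe24 ye46 ze60) (ke xe17 ye45 ze40) (ke xe18 ye49 ze39) (ke xe18 ye58 ze26) (ke xe27 ye40 ze13) (ke xe29 ye25 ze4) (ke xe30 ye44 ze23) (ke xe22 ye57 ze3) (ke xe13 ye29 ze18) (ke xe29 ye38 ze51) (ke xe30 ye44 ze28) (ke xe13 ye38 ze12) (ke xe13 ye29 ze19) (ke xe27 ye49 ze14) (ke xe30 ye44 ze33) (ke xe19 ye20 ze32) (ke xe28 ye9 ze31) (ke xe18 ye30 ze50) (ke xe13 ye38 ze7) (ke xe13 ye29 ze23) (ke xe13 ye29 ze24) (ke xe13 ye29 ze25) (ke xe18 ye59 ze4) (ke xe30 ye44 ze39) (ke xe13 ye29 ze27) (ke xe28 ye25 ze60) (ke xe26 ye20 ze18) (ke xe28 ye14 ze60) (ke xe13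 ye29 ze28)) (@D3.rec (fun _ => Pt) (ke xe13 ye32 ze58) (ke xe22 ye57 ze57) (ke xe18 ye38 ze53) (ke xe27 ye40 ze1) (ke xe28 ye46 ze33) (ke xe13 ye29 ze33) (ke xe24 ye18 ze9) (ke xe18 ye49 ze14) (ke xe29 ye29 ze34) (ke xe28 ye38 ze28) (ke xe13 ye29 ze35) (ke xe27 ye8 ze23) (ke xe13 ye29 ze36) (ke xe28 ye0 ze13) (ke xe23 ye6 ze55) (ke xe30 ye44 ze48) (ke xe13 ye29 ze38) (ke xe30 ye44 ze52) (ke xe13 ye29 ze39) (ke xe28 ye26 ze10) (ke xe26 ye32 ze21) (ke xe22 ye36 ze17) (ke xe30 ye44 ze55) (ke xe13 ye29 ze42) (ke xe27 ye9 ze17) (ke xe30 ye45 ze1) (ke xe28 ye7 ze49) (ke xe18 ye53 ze11) (ke xe13 ye29 ze44) (ke xe16 ye35 ze55) (ke xe14 ye59 ze16) (ke xe18 ye15 ze45) (ke xe16 ye22 ze45) (ke xe30 ye45 ze4) (ke xe13 ye29 ze50) (ke xe13 ye39 ze14) (ke xe22 ye15 ze21) (ke xe23 ye51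 ze19) (ke xe18 ye56 ze25) (ke xe30 ye18 ze60) (ke xe30 ye35 ze57) (ke xe30 ye22 ze20) (ke xe24 ye30 ze7) (ke xe23 ye47 ze42) (ke xe23 ye47 ze44) (ke xe30 ye34 ze36) (ke xe19 ye20 ze56) (ke xe15 ye54 ze45) (ke xe13 ye29 ze61) (ke xe27 ye46 ze56) (ke xe29 ye56 ze25) (ke xe28 ye26 ze28) (ke xe17 ye3 ze48) (ke xe16 ye34 ze45) (ke xe13 ye30 ze2) (ke xe30 ye45 ze21) (ke xe13 ye30 ze4) (ke xe30 ye45 ze25) (ke xe30 ye45 ze28) (ke xe18 ye12 ze58) (ke xe30 ye45 ze32) (ke xe19 ye44 ze6)) (@D3.rec (fun _ => Pt) (ke xe13 ye30 ze7) (ke xe27 ye58 ze40) (ke xe21 ye7 ze51) (ke xe26 ye29 ze29) (ke xe26 ye29 ze30) (ke xe13 ye30 ze13) (ke xe18 ye38 ze49) (ke xe23 ye6 ze23) (ke xe16 ye29 ze54) (ke xe21 ye14 ze12) (ke xe26 ye32 ze33) (ke xe29 ye18 ze56) (ke xe24 ye11 ze36) (ke xe27 ye58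 ze10) (ke xe26 ye32 ze44) (ke xe13 ye30 ze31) (ke xe16 ye53 ze4) (ke xe22 ye54 ze12) (ke xe13 ye30 ze32) (ke xe26 ye32 ze48) (ke xe24 ye47 ze52) (ke xe13 ye30 ze33) (ke xe13 ye40 ze51) (ke xe28 ye27 ze32) (ke xe26 ye49 ze42) (ke xe22 ye17 ze33) (ke xe16 ye34 ze48) (ke xe19 ye2 ze19) (ke xe13 ye30 ze38) (ke xe30 ye45 ze41) (ke xe13 ye30 ze39) (ke xe13 ye30 ze46) (ke xe30 ye45 ze44) (ke xe13 ye30 ze41) (ke xe27 ye40 ze33) (ke xe16 ye33 ze16) (ke xe30 ye14 ze0) (ke xe23 ye7 ze26) (ke xe29 ye38 ze28) (ke xe30 ye25 ze25) (ke xe13 ye30 ze45) (ke xe27 ye9 ze8) (ke xe26 ye29 ze47) (ke xe24 ye29 ze0) (ke xe25 ye25 ze33) (ke xe13 ye30 ze47) (ke xe30 ye45 ze50) (ke xe16 ye33 ze53) (ke xe17 ye46 ze28) (ke xe28 ye9 ze30) (ke xe30 ye45 ze54) (ke xe13 ye30 ze54) (ke xe13 ye30 ze55)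 (ke xe30 ye45 ze57) (ke xe30 ye45 ze58) (ke xe21 ye12 ze40) (ke xe28 ye32 ze5) (ke xe13 ye30 ze57) (ke xe26 ye13 ze16) (ke xe13 ye30 ze60) (ke xe18 ye19 ze40) (ke xe18 ye22 ze21)) (@D3.rec (fun _ => Pt) (ke xe23 ye7 ze19) (ke xe26 ye29 ze52) (ke xe13 ye31 ze1) (ke xe28 ye11 ze11) (ke xe18 ye20 ze55) (ke xe23 ye7 ze16) (ke xe28 ye6 ze38) (ke xe20 ye38 ze11) (ke xe17 ye50 ze48) (ke xe28 ye22 ze18) (ke xe30 ye46 ze2) (ke xe13 ye39 ze35) (ke xe13 ye49 ze55) (ke xe30 ye46 ze4) (ke xe13 ye31 ze12) (ke xe30 ye46 ze6) (ke xe13 ye31 ze13) (ke xe13 ye39 ze54) (ke xe13 ye31 ze15) (ke xe15 ye27 ze0) (ke xe13 ye31 ze16) (ke xe27 ye3 ze5) (ke xe13 ye31 ze18) (ke xe19 ye36 ze20) (ke xe22 ye56 ze54) (ke xe24 ye18 ze46) (ke xe24 ye11 ze19) (ke xe13 ye31 ze19) (ke xe13 ye31 ze55) (ke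 xe30 ye6 ze44) (ke xe13 ye31 ze21) (ke xe24 ye9 ze20) (ke xe25 ye46 ze21) (ke xe30 ye46 ze15) (ke xe13 ye31 ze22) (ke xe19 ye45 ze45) (ke xe13 ye31 ze23) (ke xe24 ye9 ze17) (ke xe29 ye28 ze29) (ke xe13 ye32 ze22) (ke xe28 ye57 ze34) (ke xe15 ye17 ze14) (ke xe13 ye31 ze25) (ke xe13 ye32 ze36) (ke xe30 ye37 ze12) (ke xe30 ye43 ze15) (ke xe28 ye19 ze35) (ke xe30 ye16 ze54) (ke xe13 ye31 ze27) (ke xe30 ye46 ze22) (ke xe13 ye32 ze25) (ke xe16 ye28 ze35) (ke xe30 ye46 ze23) (ke xe15 ye31 ze47) (ke xe13 ye31 ze29) (ke xe30 ye46 ze24) (ke xe13 ye31 ze30) (ke xe13 ye31 ze31) (ke xe19 ye33 ze28) (ke xe13 ye45 ze19) (ke xe13 ye31 ze34) (ke xe18 ye53 ze1)) (@D3.rec (fun _ => Pt) (ke xe13 ye31 ze35) (ke xe28 ye22 ze60) (ke xe19 ye51 ze38) (ke xe13 ye31 ze37) (ke xe26 ye49 ze8) (ke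 xe13 ye31 ze38) (ke xe29 ye30 ze33) (ke xe13 ye31 ze39) (ke xe30 ye46 ze38) (ke xe30 ye39 ze16) (ke xe27 ye58 ze60) (ke xe23 ye48 ze38) (ke xe13 ye31 ze40) (ke xe26 ye31 ze17) (ke xe22 ye49 ze17) (ke xe13 ye31 ze44) (ke xe16 ye32 ze6) (ke xe22 ye28 ze43) (ke xe21 ye15 ze42) (ke xe13 ye35 ze54) (ke xe13 ye31 ze45) (ke xe23 ye9 ze57) (ke xe26 ye25 ze43) (ke xe14 ye50 ze46) (ke xe13 ye31 ze48) (ke xe13 ye31 ze50) (ke xe13 ye31 ze51) (ke xe25 ye32 ze57) (ke xe30 ye46 ze52) (ke xe27 ye58 ze61) (ke xe27 ye51 ze48) (ke xe13 ye31 ze52) (ke xe13 ye31 ze53) (ke xe24 ye7 ze34) (ke xe29 ye50 ze39) (ke xe23 ye10 ze28) (ke xe30 ye37 ze9) (ke xe18 ye54 ze30) (ke xe15 ye32 ze30) (ke xe23 ye25 ze59) (ke xe30 ye46 ze59) (ke xe23 ye9 ze31) (ke xe13 ye31 ze56) (ke xe30 ye7 ze33) (ke xe27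 ye57 ze43) (ke xe13 ye31 ze59) (ke xe13 ye48 ze36) (ke xe30 ye47 ze5) (ke xe13 ye31 ze61) (ke xe26 ye24 ze51) (ke xe14 ye45 ze17) (ke xe13 ye40 ze36) (ke xe26 ye8 ze8) (ke xe26 ye19 ze57) (ke xe14 ye45 ze5) (ke xe30 ye47 ze9) (ke xe13 ye32 ze11) (ke xe13 ye32 ze12) (ke xe19 ye36 ze19) (ke xe16 ye25 ze56) (ke xe30 ye47 ze13) (ke xe30 ye43 ze18)) (@D3.rec (fun _ => Pt) (ke xe25 ye12 ze24) (ke xe13 ye32 ze14) (ke xe24 ye56 ze45) (ke xe26 ye25 ze28) (ke xe30 ye47 ze17) (ke xe30 ye23 ze5) (ke xe13 ye32 ze17) (ke xe22 ye49 ze10) (ke xe21 ye15 ze48) (ke xe28 ye19 ze29) (ke xe22 ye58 ze5) (ke xe13 ye32 ze18) (ke xe22 ye51 ze17) (ke xe26 ye56 ze36) (ke xe26 ye20 ze21) (ke xe20 ye32 ze27) (ke xe22 ye59 ze2) (ke xe30 ye26 ze47) (ke xe30 ye46 ze20) (ke xe25 ye49 ze61) (ke xe30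 ye43 ze29) (ke xe17 ye11 ze23) (ke xe17 ye11 ze59) (ke xe30 ye47 ze27) (ke xe30 ye47 ze28) (ke xe18 ye39 ze12) (ke xe13 ye32 ze26) (ke xe22 ye6 ze34) (ke xe13 ye38 ze1) (ke xe13 ye32 ze28) (ke xe13 ye32 ze29) (ke xe21 ye14 ze24) (ke xe25 ye50 ze2) (ke xe15 ye34 ze35) (ke xe13 ye32 ze32) (ke xe13 ye32 ze33) (ke xe30 ye47 ze31) (ke xe28 ye20 ze31) (ke xe25 ye5 ze16) (ke xe15 ye15 ze51) (ke xe30 ye47 ze32) (ke xe30 ye47 ze33) (ke xe13 ye32 ze35) (ke xe13 ye51 ze29) (ke xe30 ye47 ze35) (ke xe19 ye37 ze25) (ke xe30 ye47 ze39) (ke xe13 ye32 ze38) (ke xe14 ye27 ze13) (ke xe25 ye25 ze46) (ke xe14 ye22 ze34) (ke xe25 ye36 ze24) (ke xe28 ye29 ze15) (ke xe13 ye32 ze40) (ke xe19 ye37 ze28) (ke xe15 ye56 ze61) (ke xe28 ye48 ze26) (ke xe23 ye1 ze36) (ke xe23 ye1 ze27) (ke xe13 ye32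 ze46) (ke xe28 ye23 ze19) (ke xe13 ye32 ze47)) (@D3.rec (fun _ => Pt) (ke xe30 ye47 ze44) (ke xe13 ye32 ze48) (ke xe29 ye37 ze30) (ke xe27 ye21 ze29) (ke xe15 ye39 ze21) (ke xe30 ye47 ze48) (ke xe30 ye47 ze49) (ke xe15 ye34 ze18) (ke xe30 ye47 ze52) (ke xe30 ye47 ze53) (ke xe30 ye47 ze55) (ke xe13 ye32 ze51) (ke xe23 ye8 ze14) (ke xe13 ye32 ze52) (ke xe14 ye29 ze27) (ke xe14 ye37 ze43) (ke xe18 ye52 ze49) (ke xe30 ye47 ze57) (ke xe26 ye1 ze8) (ke xe18 ye52 ze47) (ke xe13 ye32 ze55) (ke xe15 ye32 ze6) (ke xe17 ye51 ze45) (ke xe14 ye47 ze32) (ke xe30 ye24 ze37) (ke xe13 ye32 ze61) (ke xe13 ye33 ze0) (ke xe28 ye26 ze31) (ke xe21 ye11 ze50) (ke xe16 ye34 ze34) (ke xe19 ye56 ze53) (ke xe19 ye56 ze56) (ke xe30 ye48 ze0) (ke xe13 ye33 ze3) (ke xe28 ye4 ze34) (ke xe13 ye33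 ze4) (ke xe18 ye28 ze41) (ke xe26 ye23 ze60) (ke xe29 ye53 ze56) (ke xe29 ye53 ze4) (ke xe29 ye20 ze48) (ke xe26 ye31 ze33) (ke xe30 ye48 ze6) (ke xe25 ye54 ze41) (ke xe13 ye33 ze8) (ke xe24 ye57 ze45) (ke xe22 ye12 ze59) (ke xe13 ye33 ze11) (ke xe22 ye28 ze20) (ke xe18 ye28 ze37) (ke xe13 ye33 ze13) (ke xe30 ye48 ze9) (ke xe28 ye12 ze54) (ke xe24 ye9 ze28) (ke xe13 ye33 ze15) (ke xe13 ye33 ze16) (ke xe30 ye33 ze46) (ke xe24 ye9 ze24) (ke xe27 ye38 ze39) (ke xe30 ye48 ze12) (ke xe13 ye33 ze18) (ke xe23 ye8 ze26)) (@D3.rec (fun _ => Pt) (ke xe29 ye53 ze51) (ke xe29 ye29 ze3) (ke xe30 ye33 ze51) (ke xe30 ye33 ze53) (ke xe30 ye48 ze22) (ke xe21 ye39 ze46) (ke xe23 ye14 ze28) (ke xe13 ye33 ze21) (ke xe23 ye15 ze46) (ke xe28 ye10 ze48) (ke xe13 ye33 ze24) (ke xe21 ye12 ze60)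 (ke xe30 ye48 ze27) (ke xe14 ye17 ze20) (ke xe28 ye18 ze44) (ke xe14 ye13 ze25) (ke xe19 ye41 ze53) (ke xe25 ye55 ze22) (ke xe19 ye40 ze58) (ke xe29 ye32 ze10) (ke xe28 ye29 ze30) (ke xe28 ye50 ze32) (ke xe30 ye48 ze38) (ke xe30 ye48 ze39) (ke xe21 ye1 ze24) (ke xe30 ye48 ze41) (ke xe13 ye33 ze34) (ke xe14 ye22 ze42) (ke xe13 ye33 ze36) (ke xe24 ye27 ze32) (ke xe14 ye23 ze57) (ke xe14 ye24 ze36) (ke xe23 ye3 ze40) (ke xe23 ye18 ze37) (ke xe30 ye45 ze36) (ke xe13 ye33 ze39) (ke xe30 ye48 ze48) (ke xe13 ye33 ze40) (ke xe29 ye31 ze1) (ke xe30 ye48 ze50) (ke xe30 ye48 ze53) (ke xe13 ye33 ze43) (ke xe15 ye37 ze37) (ke xe30 ye48 ze56) (ke xe26 ye25 ze47) (ke xe24 ye34 ze39) (ke xe30 ye48 ze61) (ke xe13 ye33 ze45) (ke xe13 ye33 ze48) (ke xe20 ye34 ze40) (ke xe30 ye47 ze45)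 (ke xe29 ye38 ze22) (ke xe15 ye15 ze47) (ke xe13 ye33 ze52) (ke xe22 ye52 ze24) (ke xe21 ye29 ze0) (ke xe20 ye0 ze60) (ke xe13 ye33 ze56) (ke xe16 ye24 ze19) (ke xe22 ye40 ze17) (ke xe30 ye49 ze6) (ke xe13 ye33 ze60)) (@D3.rec (fun _ => Pt) (ke xe14 ye18 ze13) (ke xe28 ye17 ze43) (ke xe30 ye39 ze51) (ke xe22 ye49 ze40) (ke xe26 ye19 ze8) (ke xe14 ye38 ze22) (ke xe27 ye9 ze54) (ke xe13 ye34 ze56) (ke xe30 ye36 ze20) (ke xe18 ye44 ze9) (ke xe30 ye36 ze8) (ke xe30 ye45 ze15) (ke xe27 ye2 ze43) (ke xe19 ye8 ze30) (ke xe14 ye19 ze17) (ke xe30 ye49 ze11) (ke xe30 ye49 ze13) (ke xe13 ye34 ze6) (ke xe28 ye56 ze61) (ke xe30 ye49 ze18) (ke xe14 ye39 ze27) (ke xe14 ye19 ze14) (ke xe30 ye19 ze51) (ke xe25 ye59 ze53) (ke xe21 ye5 ze31) (ke xe19 ye35 ze16) (ke xe23 ye11 ze41) (ke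 xe22 ye10 ze58) (ke xe30 ye11 ze0) (ke xe13 ye34 ze12) (ke xe25 ye50 ze23) (ke xe30 ye49 ze23) (ke xe13 ye40 ze21) (ke xe13 ye34 ze13) (ke xe23 ye17 ze43) (ke xe29 ye14 ze42) (ke xe27 ye58 ze42) (ke xe30 ye3 ze61) (ke xe18 ye19 ze21) (ke xe30 ye49 ze26) (ke xe13 ye34 ze25) (ke xe26 ye53 ze9) (ke xe13 ye34 ze26) (ke xe28 ye20 ze4) (ke xe30 ye49 ze27) (ke xe19 ye33 ze33) (ke xe13 ye34 ze28) (ke xe28 ye53 ze39) (ke xe30 ye46 ze31) (ke xe24 ye28 ze57) (ke xe13 ye34 ze30) (ke xe30 ye49 ze30) (ke xe30 ye49 ze31) (ke xe13 ye34 ze32) (ke xe30 ye49 ze35) (ke xe24 ye0 ze27) (ke xe13 ye34 ze33) (ke xe22 ye50 ze1) (ke xe13 ye34 ze37) (ke xe14 ye43 ze0) (ke xe13 ye40 ze28) (ke xe22 ye21 ze59)) (@D3.rec (fun _ => Pt) (ke xe30 ye49 ze38) (ke xe30 ye49 ze39) (ke xe22 ye0 ze30) (ke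 xe28 ye55 ze35) (ke xe13 ye34 ze45) (ke xe22 ye54 ze10) (ke xe22 ye33 ze37) (ke xe22 ye33 ze39) (ke xe30 ye49 ze57) (ke xe30 ye32 ze32) (ke xe13 ye34 ze48) (ke xe30 ye23 ze40) (ke xe30 ye49 ze61) (ke xe13 ye34 ze51) (ke xe23 ye48 ze37) (ke xe30 ye50 ze1) (ke xe13 ye34 ze53) (ke xe24 ye37 ze21) (ke xe30 ye44 ze2) (ke xe29 ye11 ze47) (ke xe13 ye34 ze54) (ke xe14 ye1 ze46) (ke xe23 ye21 ze5) (ke xe30 ye50 ze7) (ke xe14 ye52 ze56) (ke xe13 ye34 ze59) (ke xe30 ye50 ze8) (ke xe24 ye31 ze50) (ke xe13 ye35 ze0) (ke xe27 ye14 ze21) (ke xe13 ye35 ze1) (ke xe30 ye50 ze10) (ke xe27 ye15 ze6) (ke xe13 ye35 ze2) (ke xe30 ye50 ze13) (ke xe30 ye50 ze14) (ke xe22 ye34 ze17) (ke xe13 ye35 ze3) (ke xe20 ye19 ze2) (ke xe13 ye35 ze6) (ke xe30 ye44 ze1) (ke xe14 ye20 ze25) (ke xe24 ye30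 ze25) (ke xe30 ye11 ze42) (ke xe14 ye40 ze20) (ke xe30 ye36 ze24) (ke xe30 ye11 ze52) (ke xe14 ye40 ze60) (ke xe13 ye35 ze8) (ke xe29 ye40 ze24) (ke xe14 ye37 ze54) (ke xe13 ye35 ze11) (ke xe14 ye40 ze41) (ke xe30 ye11 ze48) (ke xe19 ye41 ze30) (ke xe14 ye18 ze38) (ke xe29 ye3 ze29) (ke xe13 ye35 ze14) (ke xe14 ye33 ze51) (ke xe21 ye14 ze19) (ke xe13 ye35 ze15) (ke xe13 ye35 ze16)) (@D3.rec (fun _ => Pt) (ke xe30 ye50 ze22) (ke xe13 ye35 ze17) (ke xe22 ye54 ze16) (ke xe13 ye35 ze19) (ke xe14 ye18 ze35) (ke xe30 ye50 ze25) (ke xe14 ye10 ze31) (ke xe28 ye48 ze8) (ke xe30 ye50 ze26) (ke xe13 ye35 ze21) (ke xe28 ye33 ze49) (ke xe28 ye33 ze50) (ke xe30 ye50 ze28) (ke xe13 ye35 ze23) (ke xe28 ye33 ze45) (ke xe13 ye35 ze27) (ke xe30 ye43 ze56) (ke xe14 ye39 ze5) (ke xe30 ye50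 ze35) (ke xe30 ye50 ze32) (ke xe22 ye36 ze1) (ke xe30 ye50 ze39) (ke xe30 ye32 ze24) (ke xe13 ye35 ze30) (ke xe22 ye39 ze44) (ke xe22 ye39 ze61) (ke xe13 ye35 ze33) (ke xe22 ye39 ze56) (ke xe30 ye50 ze43) (ke xe30 ye50 ze46) (ke xe28 ye21 ze51) (ke xe23 ye5 ze21) (ke xe13 ye35 ze36) (ke xe25 ye43 ze20) (ke xe29 ye37 ze37) (ke xe25 ye36 ze14) (ke xe13 ye35 ze42) (ke xe26 ye42 ze36) (ke xe30 ye50 ze51) (ke xe23 ye8 ze11) (ke xe29 ye19 ze3) (ke xe23 ye20 ze25) (ke xe13 ye35 ze48) (ke xe27 ye59 ze41) (ke xe25 ye16 ze2) (ke xe20 ye7 ze53) (ke xe13 ye35 ze50) (ke xe30 ye43 ze44) (ke xe26 ye24 ze18) (ke xe13 ye35 ze52) (ke xe28 ye38 ze12) (ke xe30 ye50 ze57) (ke xe30 ye50 ze58) (ke xe13 ye35 ze53) (ke xe20 ye37 ze21) (ke xe13 ye35 ze55) (ke xe30 ye27 ze53) (ke xe26 ye25 ze40)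 (ke xe18 ye57 ze17) (ke xe13 ye35 ze58) (ke xe30 ye47 ze43) (ke xe13 ye35 ze60))
def f_e_23 : D2 → D3 → Pt := @D2.rec (fun _ => D3 → Pt) (@D3.rec (fun _ => Pt) (ke xe26 ye28 ze43) (ke xe28 ye22 ze3) (ke xe30 ye46 ze28) (ke xe13 ye36 ze1) (ke xe23 ye58 ze5) (ke xe23 ye58 ze6) (ke xe13 ye36 ze3) (ke xe30 ye43 ze22) (ke xe22 ye49 ze25) (ke xe30 ye51 ze4) (ke xe29 ye19 ze36) (ke xe13 ye36 ze5) (ke xe30 ye51 ze5) (ke xe13 ye36 ze6) (ke xe22 ye37 ze9) (ke xe14 ye38 ze36) (ke xe22 ye38 ze6) (ke xe28 ye14 ze8) (ke xe19 ye8 ze1) (ke xe30 ye51 ze7) (ke xe19 ye7 ze55) (ke xe13 ye36 ze9) (ke xe28 ye47 ze48) (ke xe25 ye51 ze23) (ke xe13 ye36 ze10) (ke xe30 ye51 ze10) (ke xe14 ye19 ze16) (ke xe27 ye3 ze2) (ke xe13 ye36 ze11) (ke xe30 ye50 ze41) (ke xe30 ye36 ze26) (ke xe30 ye50 ze24)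 (ke xe30 ye26 ze35) (ke xe19 ye8 ze38) (ke xe13 ye36 ze13) (ke xe13 ye36 ze14) (ke xe24 ye8 ze28) (ke xe13 ye36 ze15) (ke xe30 ye36 ze27) (ke xe30 ye51 ze16) (ke xe24 ye22 ze12) (ke xe30 ye51 ze18) (ke xe30 ye51 ze19) (ke xe13 ye36 ze18) (ke xe30 ye51 ze20) (ke xe22 ye32 ze48) (ke xe13 ye36 ze19) (ke xe13 ye36 ze20) (ke xe23 ye1 ze24) (ke xe17 ye26 ze6) (ke xe13 ye36 ze23) (ke xe13 ye36 ze24) (ke xe30 ye27 ze39) (ke xe23 ye1 ze28) (ke xe25 ye46 ze12) (ke xe25 ye24 ze27) (ke xe13 ye36 ze27) (ke xe30 ye51 ze24) (ke xe18 ye53 ze30) (ke xe13 ye36 ze29) (ke xe22 ye17 ze38) (ke xe22 ye45 ze13)) (@D3.rec (fun _ => Pt) (ke xe22 ye42 ze35) (ke xe20 ye3 ze38) (ke xe13 ye36 ze32) (ke xe19 ye58 ze48) (ke xe13 ye36 ze34) (ke xe29 ye6 ze3) (ke xe27 ye30 ze23) (ke xe23 ye1 ze50) (ke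 xe13 ye36 ze40) (ke xe27 ye43 ze15) (ke xe14 ye52 ze52) (ke xe29 ye54 ze54) (ke xe13 ye36 ze43) (ke xe30 ye51 ze30) (ke xe13 ye36 ze45) (ke xe24 ye27 ze40) (ke xe13 ye36 ze48) (ke xe13 ye36 ze50) (ke xe17 ye23 ze55) (ke xe27 ye15 ze39) (ke xe30 ye51 ze33) (ke xe13 ye36 ze52) (ke xe13 ye36 ze53) (ke xe27 ye13 ze13) (ke xe23 ye0 ze48) (ke xe26 ye42 ze58) (ke xe25 ye27 ze56) (ke xe22 ye54 ze58) (ke xe23 ye0 ze53) (ke xe28 ye15 ze37) (ke xe30 ye51 ze35) (ke xe13 ye36 ze59) (ke xe19 ye24 ze36) (ke xe19 ye44 ze37) (ke xe30 ye9 ze40) (ke xe13 ye36 ze61) (ke xe22 ye54 ze57) (ke xe20 ye45 ze8) (ke xe30 ye51 ze37) (ke xe16 ye19 ze40) (ke xe16 ye19 ze53) (ke xe13 ye37 ze1) (ke xe29 ye39 ze12) (ke xe17 ye11 ze18) (ke xe14 ye56 ze48) (ke xe29 ye22 ze59) (ke xe14 ye10 ze7) (ke xe30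 ye9 ze49) (ke xe13 ye37 ze9) (ke xe14 ye49 ze10) (ke xe23 ye1 ze7) (ke xe17 ye38 ze47) (ke xe17 ye36 ze28) (ke xe22 ye14 ze50) (ke xe17 ye37 ze33) (ke xe13 ye37 ze14) (ke xe22 ye45 ze39) (ke xe23 ye43 ze53) (ke xe21 ye25 ze30) (ke xe30 ye42 ze31) (ke xe13 ye37 ze18) (ke xe24 ye40 ze19)) (@D3.rec (fun _ => Pt) (ke xe30 ye51 ze53) (ke xe14 ye4 ze20) (ke xe16 ye16 ze60) (ke xe18 ye37 ze28) (ke xe29 ye58 ze49) (ke xe18 ye29 ze52) (ke xe14 ye8 ze48) (ke xe21 ye56 ze41) (ke xe27 ye26 ze13) (ke xe30 ye51 ze59) (ke xe13 ye37 ze26) (ke xe27 ye57 ze30) (ke xe17 ye44 ze7) (ke xe23 ye31 ze36) (ke xe13 ye37 ze27) (ke xe25 ye14 ze30) (ke xe13 ye37 ze32) (ke xe13 ye37 ze33) (ke xe30 ye23 ze9) (ke xe28 ye56 ze15) (ke xe16 ye27 ze18) (ke xe23 ye23 ze27) (ke xe23 ye2 ze31) (ke xe13 ye37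 ze36) (ke xe26 ye30 ze49) (ke xe13 ye37 ze37) (ke xe29 ye24 ze27) (ke xe13 ye37 ze40) (ke xe14 ye7 ze50) (ke xe13 ye37 ze41) (ke xe13 ye37 ze42) (ke xe23 ye2 ze22) (ke xe13 ye37 ze43) (ke xe14 ye49 ze54) (ke xe25 ye39 ze26) (ke xe30 ye52 ze9) (ke xe26 ye47 ze51) (ke xe29 ye11 ze49) (ke xe13 ye37 ze46) (ke xe21 ye28 ze4) (ke xe13 ye37 ze47) (ke xe24 ye32 ze42) (ke xe30 ye13 ze17) (ke xe13 ye37 ze48) (ke xe26 ye4 ze15) (ke xe15 ye48 ze16) (ke xe27 ye57 ze18) (ke xe21 ye31 ze1) (ke xe21 ye18 ze4) (ke xe17 ye16 ze13) (ke xe30 ye5 ze18) (ke xe23 ye34 ze61) (ke xe16 ye4 ze36) (ke xe13 ye37 ze55) (ke xe13 ye37 ze56) (ke xe24 ye30 ze40) (ke xe30 ye52 ze22) (ke xe13 ye47 ze31) (ke xe13 ye37 ze60) (ke xe23 ye8 ze58) (ke xe13 ye50 ze23) (ke xe18 ye17 ze55)) (@D3.rec (fun _ =>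 Pt) (ke xe27 ye4 ze43) (ke xe30 ye52 ze25) (ke xe13 ye38 ze2) (ke xe16 ye50 ze26) (ke xe30 ye52 ze32) (ke xe21 ye5 ze17) (ke xe13 ye50 ze59) (ke xe19 ye58 ze50) (ke xe29 ye49 ze60) (ke xe13 ye38 ze4) (ke xe27 ye48 ze51) (ke xe28 ye13 ze18) (ke xe23 ye15 ze58) (ke xe13 ye38 ze5) (ke xe30 ye44 ze37) (ke xe15 ye7 ze57) (ke xe22 ye41 ze57) (ke xe15 ye10 ze60) (ke xe13 ye38 ze9) (ke xe30 ye44 ze25) (ke xe29 ye38 ze50) (ke xe30 ye12 ze51) (ke xe30 ye52 ze44) (ke xe21 ye29 ze19) (ke xe28 ye43 ze58) (ke xe13 ye38 ze16) (ke xe16 ye43 ze58) (ke xe13 ye38 ze18) (ke xe30 ye52 ze45) (ke xe23 ye22 ze43) (ke xe13 ye38 ze22) (ke xe23 ye43 ze2) (ke xe13 ye38 ze23) (ke xe19 ye16 ze60) (ke xe13 ye57 ze45) (ke xe16 ye25 ze11) (ke xe13 ye38 ze29) (ke xe22 ye46 ze17) (ke xe13 ye38 ze32)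 (ke xe13 ye48 ze60) (ke xe22 ye56 ze32) (ke xe26 ye46 ze60) (ke xe13 ye38 ze38) (ke xe13 ye46 ze58) (ke xe24 ye31 ze4) (ke xe16 ye30 ze31) (ke xe21 ye36 ze34) (ke xe26 ye25 ze30) (ke xe13 ye38 ze44) (ke xe22 ye47 ze16) (ke xe13 ye38 ze46) (ke xe17 ye2 ze53) (ke xe21 ye33 ze0) (ke xe19 ye52 ze55) (ke xe13 ye38 ze53) (ke xe15 ye1 ze48) (ke xe16 ye23 ze51) (ke xe20 ye51 ze34) (ke xe21 ye28 ze54) (ke xe21 ye29 ze7) (ke xe17 ye56 ze48) (ke xe13 ye38 ze56)) (@D3.rec (fun _ => Pt) (ke xe29 ye8 ze45) (ke xe13 ye38 ze58) (ke xe16 ye23 ze37) (ke xe30 ye12 ze31) (ke xe20 ye51 ze4) (ke xe20 ye30 ze4) (ke xe20 ye1 ze36) (ke xe17 ye15 ze34) (ke xe29 ye29 ze1) (ke xe26 ye23 ze41) (ke xe24 ye9 ze25) (ke xe13 ye48 ze61) (ke xe17 ye11 ze28) (ke xe29 ye14 ze46) (ke xe13 ye39 ze4) (ke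 xe20 ye6 ze2) (ke xe20 ye11 ze26) (ke xe17 ye34 ze1) (ke xe17 ye14 ze60) (ke xe30 ye52 ze58) (ke xe13 ye39 ze8) (ke xe14 ye45 ze36) (ke xe22 ye46 ze45) (ke xe13 ye41 ze34) (ke xe13 ye39 ze16) (ke xe30 ye52 ze60) (ke xe13 ye39 ze19) (ke xe27 ye16 ze51) (ke xe28 ye53 ze36) (ke xe30 ye52 ze61) (ke xe13 ye39 ze20) (ke xe28 ye20 ze1) (ke xe19 ye34 ze9) (ke xe14 ye26 ze32) (ke xe28 ye23 ze9) (ke xe28 ye23 ze11) (ke xe29 ye21 ze13) (ke xe22 ye40 ze51) (ke xe13 ye39 ze23) (ke xe15 ye4 ze0) (ke xe24 ye55 ze32) (ke xe27 ye57 ze52) (ke xe22 ye16 ze48) (ke xe30 ye53 ze12) (ke xe22 ye12 ze48) (ke xe20 ye25 ze4) (ke xe13 ye39 ze30) (ke xe30 ye53 ze15) (ke xe13 ye39 ze31) (ke xe28 ye26 ze53) (ke xe13 ye39 ze33) (ke xe30 ye53 ze18) (ke xe13 ye39 ze34) (ke xe30 ye46 ze3) (ke xe29 ye27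 ze12) (ke xe16 ye34 ze15) (ke xe30 ye53 ze21) (ke xe13 ye39 ze37) (ke xe13 ye39 ze38) (ke xe30 ye53 ze23) (ke xe13 ye39 ze39) (ke xe23 ye16 ze14)) (@D3.rec (fun _ => Pt) (ke xe13 ye42 ze48) (ke xe30 ye44 ze3) (ke xe13 ye39 ze44) (ke xe25 ye58 ze26) (ke xe13 ye42 ze34) (ke xe26 ye21 ze22) (ke xe30 ye53 ze26) (ke xe13 ye39 ze47) (ke xe24 ye31 ze19) (ke xe30 ye53 ze29) (ke xe13 ye43 ze8) (ke xe13 ye39 ze49) (ke xe13 ye39 ze50) (ke xe26 ye30 ze28) (ke xe26 ye25 ze35) (ke xe13 ye42 ze59) (ke xe13 ye39 ze53) (ke xe30 ye53 ze33) (ke xe30 ye53 ze34) (ke xe20 ye44 ze0) (ke xe21 ye24 ze4) (ke xe22 ye59 ze31) (ke xe13 ye39 ze55) (ke xe13 ye39 ze56) (ke xe30 ye45 ze61) (ke xe26 ye25 ze23) (ke xe13 ye39 ze58) (ke xe20 ye34 ze60) (ke xe13 ye39 ze61) (ke xe13 ye40 ze0) (ke xe23 ye18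 ze27) (ke xe30 ye44 ze9) (ke xe13 ye44 ze2) (ke xe16 ye19 ze50) (ke xe13 ye40 ze5) (ke xe25 ye58 ze28) (ke xe16 ye25 ze19) (ke xe13 ye43 ze49) (ke xe14 ye38 ze18) (ke xe22 ye37 ze47) (ke xe13 ye57 ze22) (ke xe22 ye16 ze11) (ke xe30 ye25 ze12) (ke xe30 ye25 ze13) (ke xe14 ye34 ze16) (ke xe13 ye40 ze13) (ke xe30 ye53 ze48) (ke xe28 ye47 ze33) (ke xe14 ye30 ze24) (ke xe28 ye20 ze12) (ke xe15 ye26 ze58) (ke xe21 ye11 ze11) (ke xe13 ye43 ze30) (ke xe13 ye40 ze19) (ke xe30 ye53 ze50) (ke xe30 ye53 ze52) (ke xe23 ye12 ze20) (ke xe25 ye36 ze27) (ke xe25 ye5 ze18) (ke xe25 ye25 ze38) (ke xe14 ye48 ze46) (ke xe13 ye40 ze22)) (@D3.rec (fun _ => Pt) (ke xe13 ye40 ze27) (ke xe29 ye19 ze14) (ke xe16 ye30 ze11) (ke xe13 ye40 ze31) (ke xe13 ye40 ze32) (ke xe15 ye59 ze27) (ke xe24 ye56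 ze40) (ke xe16 ye24 ze15) (ke xe26 ye8 ze59) (ke xe15 ye6 ze5) (ke xe27 ye29 ze12) (ke xe13 ye40 ze37) (ke xe17 ye54 ze32) (ke xe13 ye40 ze39) (ke xe27 ye45 ze9) (ke xe17 ye54 ze33) (ke xe22 ye19 ze0) (ke xe19 ye1 ze19) (ke xe16 ye22 ze24) (ke xe13 ye40 ze46) (ke xe13 ye40 ze50) (ke xe26 ye49 ze52) (ke xe18 ye21 ze56) (ke xe22 ye51 ze7) (ke xe18 ye19 ze60) (ke xe27 ye20 ze11) (ke xe13 ye40 ze55) (ke xe26 ye15 ze6) (ke xe13 ye40 ze61) (ke xe24 ye56 ze39) (ke xe18 ye14 ze29) (ke xe13 ye41 ze1) (ke xe25 ye3 ze11) (ke xe13 ye41 ze3) (ke xe13 ye41 ze4) (ke xe29 ye52 ze24) (ke xe13 ye41 ze5) (ke xe14 ye20 ze33) (ke xe18 ye58 ze31) (ke xe29 ye14 ze39) (ke xe29 ye19 ze33) (ke xe23 ye53 ze50) (ke xe22 ye32 ze4) (ke xe13 ye41 ze9) (ke xe19 ye21 ze35) (ke xe13 ye41 ze10) (ke xe18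 ye56 ze14) (ke xe18 ye56 ze28) (ke xe18 ye19 ze48) (ke xe18 ye22 ze0) (ke xe21 ye52 ze61) (ke xe30 ye54 ze6) (ke xe13 ye41 ze13) (ke xe18 ye58 ze49) (ke xe29 ye20 ze33) (ke xe22 ye50 ze14) (ke xe13 ye41 ze15) (ke xe14 ye1 ze29) (ke xe13 ye41 ze16) (ke xe30 ye5 ze26) (ke xe13 ye41 ze20) (ke xe13 ye41 ze21)) (@D3.rec (fun _ => Pt) (ke xe23 ye53 ze13) (ke xe17 ye1 ze16) (ke xe13 ye41 ze27) (ke xe20 ye0 ze8) (ke xe16 ye35 ze7) (ke xe30 ye54 ze10) (ke xe29 ye29 ze58) (ke xe30 ye45 ze49) (ke xe13 ye41 ze38) (ke xe13 ye41 ze39) (ke xe30 ye54 ze14) (ke xe13 ye41 ze43) (ke xe13 ye41 ze49) (ke xe27 ye20 ze10) (ke xe13 ye41 ze46) (ke xe27 ye37 ze46) (ke xe22 ye52 ze5) (ke xe18 ye39 ze27) (ke xe27 ye59 ze23) (ke xe22 ye52 ze0) (ke xe27 ye37 ze47) (ke xe27 ye37 ze44) (ke xe13 ye41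 ze53) (ke xe18 ye19 ze23) (ke xe26 ye19 ze34) (ke xe30 ye54 ze19) (ke xe22 ye51 ze37) (ke xe30 ye24 ze60) (ke xe13 ye41 ze58) (ke xe17 ye31 ze43) (ke xe23 ye23 ze56) (ke xe19 ye5 ze0) (ke xe29 ye36 ze57) (ke xe25 ye1 ze29) (ke xe13 ye41 ze61) (ke xe13 ye42 ze0) (ke xe23 ye9 ze7) (ke xe13 ye42 ze2) (ke xe13 ye42 ze3) (ke xe30 ye54 ze26) (ke xe25 ye54 ze9) (ke xe13 ye42 ze4) (ke xe29 ye54 ze2) (ke xe16 ye42 ze46) (ke xe13 ye42 ze6) (ke xe13 ye42 ze32) (ke xe30 ye46 ze61) (ke xe13 ye42 ze8) (ke xe30 ye32 ze4) (ke xe30 ye54 ze29) (ke xe25 ye48 ze52) (ke xe19 ye38 ze23) (ke xe13 ye42 ze9) (ke xe24 ye35 ze3) (ke xe29 ye52 ze56) (ke xe30 ye54 ze32) (ke xe30 ye54 ze33) (ke xe13 ye42 ze11) (ke xe13 ye43 ze6) (ke xe26 ye30 ze27) (ke xe30 ye46 ze7) (ke xe28 ye31 ze61)) (@D3.rec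 (fun _ => Pt) (ke xe15 ye31 ze45) (ke xe13 ye42 ze13) (ke xe30 ye54 ze35) (ke xe13 ye42 ze56) (ke xe26 ye31 ze0) (ke xe13 ye42 ze16) (ke xe13 ye42 ze19) (ke xe13 ye42 ze20) (ke xe29 ye29 ze35) (ke xe30 ye51 ze3) (ke xe20 ye28 ze49) (ke xe22 ye59 ze39) (ke xe29 ye32 ze2) (ke xe13 ye42 ze24) (ke xe22 ye55 ze12) (ke xe30 ye54 ze28) (ke xe30 ye46 ze5) (ke xe24 ye37 ze3) (ke xe13 ye42 ze26) (ke xe30 ye54 ze48) (ke xe13 ye42 ze29) (ke xe13 ye42 ze30) (ke xe30 ye43 ze17) (ke xe30 ye54 ze50) (ke xe24 ye14 ze15) (ke xe30 ye53 ze25) (ke xe22 ye55 ze61) (ke xe23 ye32 ze2) (ke xe30 ye54 ze52) (ke xe22 ye42 ze17) (ke xe13 ye42 ze33) (ke xe30 ye54 ze55) (ke xe13 ye42 ze35) (ke xe26 ye7 ze0) (ke xe24 ye52 ze29) (ke xe30 ye54 ze57) (ke xe13 ye42 ze38) (ke xe29 ye53 ze6) (ke xe29 ye53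 ze7) (ke xe13 ye51 ze18) (ke xe20 ye11 ze9) (ke xe13 ye42 ze40) (ke xe26 ye29 ze7) (ke xe27 ye52 ze30) (ke xe20 ye2 ze43) (ke xe30 ye54 ze60) (ke xe13 ye42 ze43) (ke xe25 ye57 ze36) (ke xe26 ye22 ze52) (ke xe14 ye30 ze18) (ke xe30 ye53 ze24) (ke xe25 ye54 ze8) (ke xe13 ye42 ze45) (ke xe16 ye28 ze15) (ke xe26 ye28 ze8) (ke xe14 ye59 ze46) (ke xe29 ye31 ze50) (ke xe13 ye42 ze50) (ke xe23 ye2 ze59) (ke xe29 ye19 ze5) (ke xe28 ye17 ze47) (ke xe13 ye42 ze53)) (@D3.rec (fun _ => Pt) (ke xe13 ye42 ze54) (ke xe17 ye25 ze35) (ke xe30 ye55 ze5) (ke xe22 ye2 ze2) (ke xe30 ye48 ze23) (ke xe27 ye2 ze30) (ke xe30 ye39 ze58) (ke xe23 ye7 ze36) (ke xe13 ye42 ze57) (ke xe21 ye53 ze3) (ke xe14 ye53 ze44) (ke xe24 ye40 ze23) (ke xe13 ye42 ze60) (ke xe13 ye42 ze61) (ke xe23 ye20 ze29)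 (ke xe16 ye27 ze57) (ke xe21 ye10 ze35) (ke xe13 ye46 ze44) (ke xe24 ye46 ze56) (ke xe30 ye55 ze9) (ke xe13 ye43 ze2) (ke xe13 ye43 ze3) (ke xe29 ye16 ze32) (ke xe18 ye43 ze61) (ke xe30 ye53 ze27) (ke xe30 ye55 ze11) (ke xe26 ye29 ze61) (ke xe13 ye43 ze5) (ke xe19 ye39 ze40) (ke xe25 ye59 ze9) (ke xe13 ye48 ze33) (ke xe22 ye53 ze41) (ke xe23 ye32 ze0) (ke xe13 ye46 ze45) (ke xe13 ye48 ze25) (ke xe13 ye43 ze10) (ke xe25 ye35 ze28) (ke xe27 ye17 ze16) (ke xe25 ye54 ze49) (ke xe28 ye34 ze29) (ke xe13 ye43 ze16) (ke xe20 ye49 ze0) (ke xe26 ye41 ze49) (ke xe30 ye55 ze18) (ke xe20 ye44 ze48) (ke xe13 ye43 ze19) (ke xe26 ye16 ze2) (ke xe26 ye41 ze39) (ke xe24 ye39 ze9) (ke xe29 ye59 ze13) (ke xe30 ye55 ze20) (ke xe23 ye30 ze19) (ke xe30 ye55 ze23) (ke xe30 ye10 ze8) (ke xe28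 ye58 ze4) (ke xe13 ye43 ze23) (ke xe26 ye30 ze29) (ke xe22 ye53 ze21) (ke xe26 ye53 ze13) (ke xe30 ye55 ze27) (ke xe23 ye12 ze4) (ke xe20 ye32 ze51)) (@D3.rec (fun _ => Pt) (ke xe26 ye52 ze51) (ke xe23 ye54 ze44) (ke xe13 ye43 ze31) (ke xe28 ye9 ze48) (ke xe29 ye53 ze44) (ke xe13 ye43 ze34) (ke xe30 ye55 ze32) (ke xe13 ye43 ze36) (ke xe13 ye43 ze37) (ke xe24 ye59 ze49) (ke xe16 ye27 ze2) (ke xe29 ye15 ze2) (ke xe13 ye43 ze39) (ke xe25 ye55 ze26) (ke xe13 ye43 ze40) (ke xe30 ye55 ze34) (ke xe25 ye58 ze17) (ke xe30 ye46 ze16) (ke xe28 ye51 ze46) (ke xe13 ye43 ze42) (ke xe25 ye55 ze23) (ke xe13 ye43 ze43) (ke xe27 ye9 ze50) (ke xe16 ye26 ze20) (ke xe13 ye43 ze45) (ke xe25 ye4 ze12) (ke xe30 ye53 ze46) (ke xe28 ye0 ze46) (ke xe22 ye53 ze35) (ke xe30 ye33 ze54) (ke xe13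 ye43 ze47) (ke xe13 ye43 ze48) (ke xe13 ye43 ze51) (ke xe13 ye43 ze53) (ke xe13 ye43 ze55) (ke xe20 ye36 ze59) (ke xe30 ye53 ze43) (ke xe13 ye43 ze59) (ke xe14 ye24 ze21) (ke xe30 ye53 ze44) (ke xe30 ye55 ze44) (ke xe30 ye55 ze45) (ke xe20 ye35 ze47) (ke xe13 ye43 ze61) (ke xe15 ye4 ze38) (ke xe16 ye26 ze26) (ke xe21 ye53 ze61) (ke xe13 ye44 ze4) (ke xe21 ye53 ze45) (ke xe22 ye34 ze53) (ke xe22 ye41 ze0) (ke xe13 ye44 ze9) (ke xe14 ye26 ze33) (ke xe24 ye2 ze39) (ke xe15 ye55 ze16) (ke xe21 ye40 ze55) (ke xe13 ye44 ze48) (ke xe13 ye44 ze49) (ke xe15 ye55 ze50) (ke xe19 ye44 ze20) (ke xe19 ye15 ze38) (ke xe24 ye4 ze58)) (@D3.rec (fun _ => Pt) (ke xe23 ye19 ze15) (ke xe22 ye32 ze29) (ke xe19 ye19 ze8) (ke xe30 ye55 ze49) (ke xe13 ye44 ze20) (ke xe22 ye26 ze26) (ke xe25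 ye49 ze3) (ke xe13 ye44 ze22) (ke xe24 ye11 ze9) (ke xe22 ye38 ze49) (ke xe13 ye45 ze10) (ke xe28 ye51 ze61) (ke xe22 ye23 ze14) (ke xe25 ye13 ze51) (ke xe14 ye18 ze52) (ke xe30 ye55 ze53) (ke xe26 ye41 ze52) (ke xe24 ye39 ze39) (ke xe13 ye44 ze31) (ke xe17 ye22 ze16) (ke xe15 ye31 ze8) (ke xe30 ye53 ze38) (ke xe28 ye41 ze51) (ke xe26 ye42 ze55) (ke xe30 ye55 ze60) (ke xe30 ye51 ze6) (ke xe13 ye44 ze33) (ke xe28 ye48 ze3) (ke xe28 ye53 ze59) (ke xe13 ye44 ze34) (ke xe13 ye44 ze40) (ke xe26 ye56 ze2) (ke xe13 ye44 ze41) (ke xe30 ye56 ze6) (ke xe13 ye44 ze43) (ke xe30 ye56 ze8) (ke xe13 ye44 ze44) (ke xe21 ye40 ze53) (ke xe13 ye50 ze51) (ke xe22 ye20 ze20) (ke xe27 ye55 ze53) (ke xe22 ye57 ze26) (ke xe13 ye44 ze55) (ke xe18 ye44 ze2) (ke xe30 ye56 ze13) (ke xe28 ye52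 ze17) (ke xe30 ye10 ze61) (ke xe13 ye44 ze57) (ke xe19 ye12 ze42) (ke xe22 ye35 ze44) (ke xe30 ye56 ze14) (ke xe13 ye44 ze60) (ke xe14 ye53 ze36) (ke xe19 ye1 ze57) (ke xe24 ye5 ze27) (ke xe13 ye45 ze0) (ke xe13 ye45 ze1) (ke xe28 ye18 ze46) (ke xe24 ye18 ze36) (ke xe26 ye44 ze2) (ke xe13 ye45 ze8) (ke xe25 ye33 ze19)) (@D3.rec (fun _ => Pt) (ke xe26 ye3 ze50) (ke xe28 ye22 ze33) (ke xe23 ye16 ze12) (ke xe13 ye45 ze12) (ke xe23 ye9 ze60) (ke xe16 ye26 ze29) (ke xe20 ye7 ze56) (ke xe16 ye26 ze54) (ke xe30 ye56 ze19) (ke xe30 ye56 ze20) (ke xe19 ye46 ze60) (ke xe17 ye51 ze9) (ke xe13 ye45 ze16) (ke xe28 ye19 ze57) (ke xe19 ye42 ze11) (ke xe30 ye46 ze25) (ke xe26 ye56 ze24) (ke xe13 ye45 ze21) (ke xe26 ye52 ze30) (ke xe15 ye26 ze49) (ke xe23 ye5 ze56) (ke xe26 ye50 ze39)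 (ke xe14 ye37 ze32) (ke xe13 ye45 ze23) (ke xe21 ye53 ze25) (ke xe28 ye33 ze34) (ke xe30 ye12 ze11) (ke xe30 ye56 ze29) (ke xe13 ye45 ze26) (ke xe26 ye52 ze56) (ke xe25 ye39 ze30) (ke xe13 ye45 ze27) (ke xe24 ye4 ze57) (ke xe25 ye5 ze17) (ke xe28 ye28 ze58) (ke xe27 ye50 ze46) (ke xe27 ye22 ze43) (ke xe24 ye5 ze3) (ke xe13 ye45 ze30) (ke xe14 ye13 ze59) (ke xe24 ye5 ze4) (ke xe24 ye5 ze5) (ke xe14 ye37 ze8) (ke xe28 ye53 ze34) (ke xe13 ye45 ze35) (ke xe14 ye48 ze31) (ke xe13 ye45 ze38) (ke xe30 ye56 ze39) (ke xe20 ye2 ze44) (ke xe20 ye2 ze45) (ke xe13 ye45 ze41) (ke xe30 ye56 ze41) (ke xe19 ye51 ze21) (ke xe13 ye45 ze44) (ke xe19 ye17 ze9) (ke xe13 ye45 ze45) (ke xe15 ye51 ze36) (ke xe22 ye22 ze11) (ke xe30 ye56 ze45) (ke xe30 ye56 ze47) (ke xe19 ye44 ze2) (ke xe21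 ye32 ze29)) (@D3.rec (fun _ => Pt) (ke xe13 ye45 ze57) (ke xe13 ye45 ze59) (ke xe21 ye32 ze28) (ke xe27 ye35 ze42) (ke xe30 ye56 ze49) (ke xe18 ye51 ze37) (ke xe13 ye45 ze61) (ke xe18 ye53 ze38) (ke xe25 ye52 ze49) (ke xe29 ye46 ze26) (ke xe26 ye59 ze40) (ke xe28 ye9 ze55) (ke xe24 ye32 ze6) (ke xe30 ye56 ze54) (ke xe21 ye23 ze22) (ke xe30 ye56 ze55) (ke xe13 ye46 ze8) (ke xe20 ye46 ze24) (ke xe27 ye12 ze40) (ke xe30 ye56 ze58) (ke xe13 ye46 ze12) (ke xe24 ye44 ze21) (ke xe24 ye11 ze3) (ke xe13 ye59 ze43) (ke xe22 ye45 ze20) (ke xe21 ye48 ze35) (ke xe13 ye46 ze14) (ke xe29 ye6 ze19) (ke xe21 ye48 ze31) (ke xe14 ye23 ze9) (ke xe22 ye20 ze54) (ke xe25 ye24 ze59) (ke xe30 ye18 ze44) (ke xe14 ye16 ze51) (ke xe14 ye16 ze58) (ke xe30 ye57 ze4) (ke xe22 ye41 ze53) (ke xe13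 ye46 ze22) (ke xe23 ye25 ze18) (ke xe13 ye46 ze40) (ke xe13 ye59 ze32) (ke xe26 ye9 ze61) (ke xe13 ye46 ze30) (ke xe23 ye32 ze54) (ke xe13 ye46 ze31) (ke xe23 ye25 ze44) (ke xe13 ye46 ze32) (ke xe18 ye19 ze10) (ke xe13 ye46 ze34) (ke xe26 ye7 ze39) (ke xe13 ye46 ze35) (ke xe26 ye0 ze55) (ke xe13 ye46 ze36) (ke xe26 ye26 ze24) (ke xe13 ye46 ze38) (ke xe18 ye19 ze5) (ke xe13 ye46 ze39) (ke xe23 ye23 ze5) (ke xe27 ye4 ze40) (ke xe13 ye56 ze5) (ke xe13 ye48 ze47) (ke xe13 ye46 ze55)) (@D3.rec (fun _ => Pt) (ke xe23 ye17 ze17) (ke xe23 ye17 ze33) (ke xe13 ye46 ze43) (ke xe23 ye46 ze61) (ke xe30 ye2 ze15) (ke xe28 ye25 ze57) (ke xe30 ye57 ze16) (ke xe13 ye46 ze49) (ke xe28 ye12 ze33) (ke xe13 ye47 ze34) (ke xe13 ye48 ze6) (ke xe13 ye46 ze51) (ke xe30 ye57 ze18) (ke xe13 ye46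 ze52) (ke xe30 ye53 ze31) (ke xe26 ye30 ze0) (ke xe13 ye48 ze44) (ke xe30 ye57 ze28) (ke xe13 ye46 ze54) (ke xe26 ye9 ze34) (ke xe28 ye2 ze61) (ke xe30 ye57 ze11) (ke xe30 ye57 ze32) (ke xe20 ye36 ze9) (ke xe13 ye46 ze57) (ke xe28 ye13 ze51) (ke xe30 ye57 ze35) (ke xe13 ye46 ze59) (ke xe22 ye56 ze6) (ke xe30 ye57 ze38) (ke xe13 ye49 ze40) (ke xe15 ye10 ze40) (ke xe15 ye14 ze57) (ke xe23 ye17 ze5) (ke xe13 ye47 ze1) (ke xe25 ye3 ze0) (ke xe15 ye10 ze22) (ke xe13 ye49 ze22) (ke xe13 ye47 ze3) (ke xe30 ye31 ze61) (ke xe28 ye38 ze36) (ke xe13 ye47 ze6) (ke xe20 ye32 ze8) (ke xe17 ye0 ze61) (ke xe13 ye47 ze9) (ke xe30 ye35 ze8) (ke xe13 ye47 ze10) (ke xe17 ye1 ze0) (ke xe16 ye36 ze10) (ke xe13 ye47 ze17) (ke xe30 ye37 ze14) (ke xe13 ye47 ze18) (ke xe13 ye58 ze22) (ke xe13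 ye47 ze22) (ke xe23 ye16 ze47) (ke xe13 ye50 ze18) (ke xe14 ye45 ze32) (ke xe29 ye48 ze55) (ke xe13 ye47 ze32) (ke xe23 ye32 ze25) (ke xe30 ye57 ze48) (ke xe13 ye47 ze33)) (@D3.rec (fun _ => Pt) (ke xe30 ye57 ze17) (ke xe26 ye23 ze31) (ke xe13 ye48 ze31) (ke xe30 ye57 ze19) (ke xe16 ye12 ze44) (ke xe13 ye47 ze35) (ke xe13 ye48 ze4) (ke xe30 ye57 ze57) (ke xe24 ye31 ze29) (ke xe30 ye57 ze61) (ke xe30 ye58 ze0) (ke xe13 ye47 ze37) (ke xe30 ye58 ze3) (ke xe30 ye35 ze2) (ke xe30 ye58 ze5) (ke xe13 ye47 ze39) (ke xe13 ye48 ze43) (ke xe30 ye58 ze9) (ke xe30 ye58 ze13) (ke xe23 ye16 ze58) (ke xe13 ye47 ze41) (ke xe27 ye57 ze45) (ke xe30 ye48 ze32) (ke xe30 ye58 ze16) (ke xe13 ye47 ze43) (ke xe30 ye57 ze29) (ke xe23 ye45 ze8) (ke xe13 ye47 ze44) (ke xe30 ye20 ze36) (ke xe30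 ye58 ze17) (ke xe13 ye48 ze51) (ke xe30 ye58 ze18) (ke xe30 ye58 ze19) (ke xe28 ye41 ze1) (ke xe30 ye33 ze18) (ke xe13 ye47 ze46) (ke xe30 ye1 ze54) (ke xe13 ye47 ze47) (ke xe28 ye32 ze51) (ke xe22 ye42 ze8) (ke xe30 ye58 ze25) (ke xe13 ye47 ze51) (ke xe18 ye23 ze53) (ke xe19 ye48 ze19) (ke xe24 ye47 ze40) (ke xe29 ye18 ze16) (ke xe22 ye56 ze8) (ke xe30 ye58 ze29) (ke xe13 ye47 ze55) (ke xe24 ye59 ze13) (ke xe14 ye45 ze0) (ke xe25 ye16 ze17) (ke xe28 ye10 ze38) (ke xe13 ye47 ze58) (ke xe23 ye33 ze28) (ke xe13 ye47 ze59) (ke xe30 ye58 ze34) (ke xe13 ye47 ze60) (ke xe23 ye3 ze12) (ke xe25 ye16 ze15) (ke xe24 ye31 ze30) (ke xe30 ye58 ze41)) (@D3.rec (fun _ => Pt) (ke xe13 ye48 ze0) (ke xe30 ye58 ze43) (ke xe13 ye48 ze1) (ke xe23 ye18 ze9) (ke xe26 ye30 ze1) (ke xe30 ye47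 ze3) (ke xe13 ye48 ze2) (ke xe30 ye48 ze24) (ke xe23 ye16 ze61) (ke xe30 ye31 ze35) (ke xe23 ye31 ze20) (ke xe23 ye18 ze22) (ke xe23 ye12 ze2) (ke xe30 ye58 ze47) (ke xe23 ye4 ze61) (ke xe13 ye48 ze5) (ke xe14 ye11 ze25) (ke xe22 ye45 ze41) (ke xe13 ye48 ze12) (ke xe13 ye48 ze14) (ke xe30 ye58 ze48) (ke xe13 ye48 ze15) (ke xe24 ye5 ze44) (ke xe21 ye37 ze8) (ke xe30 ye58 ze50) (ke xe30 ye58 ze51) (ke xe13 ye48 ze20) (ke xe24 ye59 ze39) (ke xe23 ye16 ze41) (ke xe30 ye55 ze17) (ke xe30 ye58 ze56) (ke xe28 ye13 ze0) (ke xe13 ye48 ze22) (ke xe16 ye29 ze23) (ke xe25 ye2 ze49) (ke xe18 ye57 ze6) (ke xe17 ye15 ze43) (ke xe24 ye31 ze46) (ke xe13 ye48 ze30) (ke xe30 ye57 ze53) (ke xe30 ye58 ze60) (ke xe23 ye16 ze28) (ke xe30 ye47 ze6) (ke xe30 ye55 ze13) (ke xe30 ye55 ze15) (ke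 xe19 ye39 ze39) (ke xe30 ye59 ze2) (ke xe23 ye14 ze54) (ke xe13 ye48 ze34) (ke xe21 ye44 ze53) (ke xe30 ye34 ze3) (ke xe13 ye48 ze37) (ke xe23 ye20 ze8) (ke xe13 ye48 ze38) (ke xe26 ye20 ze33) (ke xe18 ye22 ze53) (ke xe21 ye30 ze3) (ke xe30 ye58 ze37) (ke xe23 ye15 ze19) (ke xe13 ye48 ze40) (ke xe30 ye58 ze6) (ke xe23 ye16 ze8)) (@D3.rec (fun _ => Pt) (ke xe30 ye57 ze21) (ke xe30 ye59 ze8) (ke xe13 ye48 ze42) (ke xe30 ye58 ze8) (ke xe30 ye57 ze26) (ke xe23 ye14 ze33) (ke xe30 ye58 ze14) (ke xe30 ye59 ze13) (ke xe30 ye59 ze14) (ke xe13 ye48 ze45) (ke xe23 ye18 ze41) (ke xe30 ye48 ze29) (ke xe30 ye47 ze2) (ke xe30 ye59 ze19) (ke xe15 ye13 ze2) (ke xe30 ye59 ze20) (ke xe30 ye59 ze22) (ke xe23 ye14 ze0) (ke xe21 ye28 ze16) (ke xe13 ye48 ze53) (ke xe13 ye48 ze49) (ke xe30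 ye59 ze31) (ke xe30 ye59 ze32) (ke xe28 ye11 ze32) (ke xe30 ye57 ze47) (ke xe13 ye48 ze50) (ke xe23 ye45 ze12) (ke xe30 ye58 ze46) (ke xe30 ye59 ze37) (ke xe14 ye0 ze40) (ke xe13 ye48 ze52) (ke xe29 ye22 ze0) (ke xe30 ye59 ze44) (ke xe23 ye14 ze1) (ke xe30 ye59 ze46) (ke xe30 ye59 ze47) (ke xe25 ye16 ze22) (ke xe13 ye48 ze56) (ke xe30 ye57 ze14) (ke xe21 ye57 ze0) (ke xe13 ye48 ze57) (ke xe23 ye20 ze7) (ke xe16 ye50 ze36) (ke xe22 ye57 ze34) (ke xe20 ye31 ze6) (ke xe30 ye33 ze50) (ke xe21 ye15 ze38) (ke xe30 ye32 ze5) (ke xe13 ye49 ze0) (ke xe30 ye32 ze6) (ke xe13 ye49 ze1) (ke xe20 ye13 ze28) (ke xe30 ye59 ze52) (ke xe15 ye13 ze3) (ke xe13 ye49 ze3) (ke xe25 ye3 ze8) (ke xe13 ye49 ze4) (ke xe19 ye49 ze61) (ke xe25 ye1 ze23) (ke xe17 ye38 ze14) (ke xe24 ye58 ze59) (ke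 xe28 ye3 ze58)) (@D3.rec (fun _ => Pt) (ke xe23 ye31 ze46) (ke xe13 ye49 ze7) (ke xe15 ye10 ze44) (ke xe14 ye0 ze18) (ke xe13 ye49 ze11) (ke xe15 ye10 ze61) (ke xe27 ye40 ze22) (ke xe29 ye18 ze59) (ke xe13 ye49 ze12) (ke xe23 ye16 ze3) (ke xe13 ye49 ze13) (ke xe30 ye32 ze52) (ke xe15 ye10 ze56) (ke xe21 ye53 ze37) (ke xe28 ye43 ze48) (ke xe13 ye49 ze15) (ke xe17 ye2 ze59) (ke xe18 ye36 ze31) (ke xe30 ye57 ze40) (ke xe31 ye0 ze2) (ke xe28 ye2 ze60) (ke xe13 ye49 ze17) (ke xe23 ye16 ze11) (ke xe30 ye57 ze43) (ke xe30 ye50 ze52) (ke xe13 ye49 ze19) (ke xe30 ye59 ze49) (ke xe23 ye5 ze30) (ke xe13 ye49 ze20) (ke xe22 ye3 ze10) (ke xe26 ye23 ze23) (ke xe25 ye59 ze28) (ke xe25 ye0 ze56) (ke xe25 ye16 ze6) (ke xe26 ye22 ze61) (ke xe27 ye58 ze51) (ke xe13 ye49 ze31) (ke xe22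 ye56 ze33) (ke xe24 ye31 ze38) (ke xe31 ye0 ze7) (ke xe13 ye49 ze35) (ke xe23 ye17 ze10) (ke xe30 ye57 ze36) (ke xe30 ye2 ze40) (ke xe30 ye58 ze12) (ke xe18 ye41 ze20) (ke xe13 ye49 ze37) (ke xe28 ye26 ze30) (ke xe30 ye58 ze28) (ke xe25 ye1 ze61) (ke xe24 ye44 ze26) (ke xe31 ye0 ze14) (ke xe13 ye49 ze47) (ke xe24 ye57 ze12) (ke xe28 ye34 ze35) (ke xe22 ye12 ze51) (ke xe13 ye49 ze50) (ke xe27 ye2 ze34) (ke xe22 ye23 ze21) (ke xe22 ye17 ze40) (ke xe29 ye41 ze21) (ke xe26 ye23 ze51)) (@D3.rec (fun _ => Pt) (ke xe13 ye49 ze54) (ke xe14 ye11 ze7) (ke xe31 ye0 ze22) (ke xe26 ye31 ze55) (ke xe16 ye53 ze1) (ke xe20 ye25 ze20) (ke xe31 ye0 ze27) (ke xe30 ye53 ze16) (ke xe29 ye34 ze61) (ke xe13 ye49 ze59) (ke xe27 ye2 ze36) (ke xe29 ye40 ze1) (ke xe29 ye44 ze25) (ke xe13 ye50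 ze2) (ke xe24 ye15 ze53) (ke xe23 ye11 ze0) (ke xe24 ye35 ze50) (ke xe31 ye0 ze31) (ke xe28 ye37 ze48) (ke xe13 ye50 ze6) (ke xe28 ye12 ze17) (ke xe13 ye50 ze8) (ke xe20 ye33 ze26) (ke xe13 ye50 ze9) (ke xe14 ye0 ze21) (ke xe13 ye50 ze10) (ke xe23 ye31 ze56) (ke xe13 ye50 ze12) (ke xe25 ye2 ze46) (ke xe13 ye50 ze13) (ke xe30 ye13 ze25) (ke xe13 ye50 ze14) (ke xe23 ye31 ze3) (ke xe13 ye50 ze16) (ke xe23 ye31 ze14) (ke xe18 ye40 ze8) (ke xe23 ye35 ze9) (ke xe13 ye57 ze39) (ke xe29 ye38 ze53) (ke xe18 ye43 ze21) (ke xe18 ye43 ze1) (ke xe13 ye50 ze26) (ke xe13 ye50 ze28) (ke xe24 ye47 ze35) (ke xe25 ye52 ze3) (ke xe21 ye55 ze1) (ke xe19 ye17 ze56) (ke xe13 ye50 ze36) (ke xe13 ye50 ze37) (ke xe13 ye50 ze40) (ke xe31 ye0 ze40) (ke xe13 ye50 ze45) (ke xe22 ye31 ze21) (ke xe28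 ye12 ze24) (ke xe24 ye29 ze20) (ke xe13 ye51 ze8) (ke xe30 ye39 ze59) (ke xe14 ye10 ze52) (ke xe27 ye57 ze11) (ke xe13 ye50 ze49) (ke xe23 ye44 ze43) (ke xe22 ye12 ze19)) (@D3.rec (fun _ => Pt) (ke xe13 ye51 ze39) (ke xe28 ye25 ze0) (ke xe20 ye32 ze37) (ke xe23 ye35 ze18) (ke xe31 ye0 ze46) (ke xe13 ye50 ze53) (ke xe22 ye35 ze37) (ke xe23 ye17 ze41) (ke xe23 ye16 ze52) (ke xe13 ye50 ze55) (ke xe26 ye8 ze23) (ke xe30 ye2 ze41) (ke xe13 ye50 ze56) (ke xe13 ye51 ze47) (ke xe30 ye52 ze29) (ke xe19 ye18 ze41) (ke xe16 ye12 ze41) (ke xe25 ye24 ze0) (ke xe13 ye51 ze2) (ke xe20 ye32 ze1) (ke xe21 ye14 ze10) (ke xe23 ye54 ze55) (ke xe30 ye39 ze9) (ke xe13 ye51 ze7) (ke xe22 ye23 ze29) (ke xe22 ye59 ze41) (ke xe22 ye47 ze52) (ke xe13 ye51 ze9) (ke xe13 ye51 ze11) (ke xe23 ye9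 ze14) (ke xe21 ye14 ze28) (ke xe19 ye59 ze8) (ke xe18 ye27 ze31) (ke xe26 ye4 ze39) (ke xe13 ye51 ze15) (ke xe23 ye50 ze40) (ke xe18 ye41 ze41) (ke xe13 ye51 ze21) (ke xe24 ye56 ze47) (ke xe20 ye32 ze55) (ke xe15 ye23 ze50) (ke xe25 ye46 ze26) (ke xe15 ye26 ze22) (ke xe13 ye51 ze25) (ke xe15 ye23 ze47) (ke xe20 ye18 ze50) (ke xe31 ye0 ze50) (ke xe13 ye51 ze27) (ke xe31 ye0 ze48) (ke xe28 ye14 ze2) (ke xe18 ye23 ze2) (ke xe28 ye21 ze21) (ke xe30 ye47 ze34) (ke xe19 ye46 ze54) (ke xe19 ye55 ze54) (ke xe16 ye31 ze27) (ke xe13 ye51 ze30) (ke xe26 ye14 ze56) (ke xe13 ye51 ze33) (ke xe15 ye12 ze13) (ke xe13 ye51 ze34) (ke xe31 ye0 ze55)) (@D3.rec (fun _ => Pt) (ke xe15 ye12 ze56) (ke xe22 ye12 ze15) (ke xe31 ye0 ze56) (ke xe13 ye51 ze38) (ke xe31 ye0 ze45) (ke xe22 ye58 ze22)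 (ke xe19 ye55 ze41) (ke xe23 ye32 ze59) (ke xe24 ye52 ze21) (ke xe13 ye51 ze41) (ke xe21 ye8 ze48) (ke xe21 ye56 ze22) (ke xe30 ye51 ze52) (ke xe21 ye56 ze39) (ke xe19 ye26 ze30) (ke xe29 ye48 ze58) (ke xe21 ye56 ze10) (ke xe28 ye0 ze35) (ke xe30 ye2 ze10) (ke xe31 ye0 ze4) (ke xe13 ye51 ze46) (ke xe13 ye51 ze49) (ke xe13 ye51 ze51) (ke xe16 ye12 ze24) (ke xe14 ye0 ze17) (ke xe13 ye51 ze55) (ke xe16 ye12 ze10) (ke xe30 ye39 ze34) (ke xe27 ye47 ze44) (ke xe29 ye30 ze10) (ke xe29 ye19 ze25) (ke xe13 ye51 ze56) (ke xe27 ye57 ze58) (ke xe27 ye58 ze1) (ke xe22 ye48 ze27) (ke xe13 ye51 ze57) (ke xe26 ye29 ze37) (ke xe20 ye36 ze36) (ke xe30 ye44 ze19) (ke xe24 ye31 ze45) (ke xe13 ye51 ze61) (ke xe23 ye35 ze36) (ke xe13 ye52 ze0) (ke xe20 ye18 ze41) (ke xe28 ye24 ze45) (ke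 xe16 ye50 ze57) (ke xe31 ye1 ze14) (ke xe23 ye40 ze22) (ke xe26 ye7 ze32) (ke xe22 ye31 ze39) (ke xe14 ye28 ze19) (ke xe27 ye33 ze27) (ke xe15 ye26 ze19) (ke xe24 ye28 ze19) (ke xe24 ye28 ze25) (ke xe26 ye32 ze7) (ke xe28 ye1 ze46) (ke xe26 ye15 ze33) (ke xe30 ye45 ze43) (ke xe13 ye52 ze14) (ke xe30 ye14 ze23) (ke xe20 ye45 ze38)) (@D3.rec (fun _ => Pt) (ke xe17 ye29 ze57) (ke xe22 ye15 ze41) (ke xe28 ye43 ze23) (ke xe17 ye54 ze8) (ke xe13 ye52 ze16) (ke xe27 ye12 ze21) (ke xe13 ye52 ze20) (ke xe29 ye55 ze50) (ke xe27 ye28 ze36) (ke xe28 ye27 ze35) (ke xe21 ye55 ze22) (ke xe16 ye18 ze52) (ke xe17 ye41 ze47) (ke xe18 ye3 ze47) (ke xe13 ye52 ze37) (ke xe26 ye16 ze61) (ke xe15 ye56 ze58) (ke xe13 ye52 ze26) (ke xe30 ye11 ze36) (ke xe21 ye19 ze61) (ke xe21 ye58 ze48) (ke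 xe24 ye57 ze1) (ke xe13 ye52 ze28) (ke xe21 ye25 ze6) (ke xe31 ye1 ze28) (ke xe25 ye37 ze55) (ke xe13 ye52 ze29) (ke xe13 ye52 ze30) (ke xe21 ye58 ze19) (ke xe26 ye13 ze5) (ke xe30 ye14 ze20) (ke xe15 ye49 ze7) (ke xe22 ye11 ze13) (ke xe25 ye39 ze33) (ke xe25 ye41 ze56) (ke xe13 ye52 ze35) (ke xe16 ye1 ze19) (ke xe17 ye39 ze37) (ke xe26 ye17 ze1) (ke xe31 ye1 ze30) (ke xe28 ye25 ze42) (ke xe13 ye52 ze38) (ke xe13 ye52 ze43) (ke xe23 ye3 ze29) (ke xe23 ye34 ze42) (ke xe25 ye38 ze21) (ke xe27 ye4 ze26) (ke xe21 ye34 ze13) (ke xe27 ye27 ze20) (ke xe13 ye52 ze50) (ke xe21 ye55 ze37) (ke xe21 ye49 ze6) (ke xe31 ye1 ze33) (ke xe18 ye3 ze37) (ke xe13 ye52 ze53) (ke xe28 ye11 ze54) (ke xe13 ye52 ze56) (ke xe27 ye27 ze16) (ke xe13 ye52 ze57) (ke xe18 ye50 ze24) (ke xe30 ye0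 ze18) (ke xe31 ye1 ze34)) (@D3.rec (fun _ => Pt) (ke xe13 ye52 ze60) (ke xe13 ye52 ze61) (ke xe30 ye2 ze44) (ke xe13 ye55 ze15) (ke xe22 ye35 ze36) (ke xe23 ye13 ze57) (ke xe25 ye2 ze29) (ke xe25 ye50 ze37) (ke xe13 ye55 ze16) (ke xe30 ye58 ze45) (ke xe31 ye1 ze38) (ke xe13 ye53 ze5) (ke xe21 ye1 ze6) (ke xe15 ye45 ze53) (ke xe24 ye22 ze29) (ke xe23 ye35 ze20) (ke xe24 ye41 ze22) (ke xe13 ye53 ze11) (ke xe13 ye53 ze12) (ke xe15 ye45 ze9) (ke xe31 ye1 ze41) (ke xe13 ye53 ze14) (ke xe26 ye3 ze29) (ke xe25 ye41 ze35) (ke xe31 ye1 ze42) (ke xe13 ye53 ze15) (ke xe14 ye47 ze60) (ke xe23 ye2 ze21) (ke xe21 ye46 ze46) (ke xe23 ye36 ze19) (ke xe29 ye51 ze24) (ke xe13 ye53 ze19) (ke xe21 ye45 ze50) (ke xe26 ye3 ze12) (ke xe15 ye45 ze51) (ke xe21 ye21 ze51) (ke xe16 ye4 ze31)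 (ke xe25 ye38 ze4) (ke xe27 ye4 ze7) (ke xe22 ye9 ze5) (ke xe27 ye4 ze6) (ke xe20 ye34 ze33) (ke xe17 ye55 ze52) (ke xe25 ye40 ze61) (ke xe23 ye36 ze28) (ke xe26 ye52 ze28) (ke xe13 ye53 ze40) (ke xe24 ye47 ze1) (ke xe26 ye50 ze34) (ke xe28 ye12 ze46) (ke xe24 ye8 ze19) (ke xe21 ye34 ze11) (ke xe13 ye53 ze46) (ke xe29 ye38 ze48) (ke xe27 ye58 ze58) (ke xe22 ye18 ze41) (ke xe23 ye7 ze30) (ke xe22 ye18 ze30) (ke xe31 ye1 ze48) (ke xe24 ye54 ze41) (ke xe18 ye32 ze1) (ke xe27 ye31 ze54)) (@D3.rec (fun _ => Pt) (ke xe19 ye41 ze47) (ke xe13 ye53 ze51) (ke xe27 ye16 ze39) (ke xe27 ye21 ze1) (ke xe24 ye5 ze54) (ke xe30 ye30 ze36) (ke xe31 ye1 ze50) (ke xe31 ye1 ze51) (ke xe24 ye25 ze31) (ke xe22 ye23 ze46) (ke xe14 ye37 ze17) (ke xe13 ye54 ze1) (ke xe19 ye35 ze4) (ke xe13 ye56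 ze15) (ke xe22 ye40 ze38) (ke xe29 ye50 ze36) (ke xe13 ye54 ze4) (ke xe31 ye1 ze54) (ke xe13 ye54 ze10) (ke xe21 ye43 ze4) (ke xe13 ye54 ze7) (ke xe25 ye56 ze25) (ke xe13 ye54 ze9) (ke xe31 ye1 ze57) (ke xe31 ye1 ze55) (ke xe13 ye54 ze12) (ke xe17 ye56 ze17) (ke xe20 ye13 ze20) (ke xe20 ye13 ze39) (ke xe24 ye32 ze41) (ke xe13 ye54 ze26) (ke xe30 ye40 ze5) (ke xe24 ye42 ze52) (ke xe19 ye16 ze58) (ke xe29 ye24 ze18) (ke xe28 ye1 ze3) (ke xe13 ye54 ze29) (ke xe20 ye24 ze59) (ke xe31 ye1 ze61) (ke xe13 ye54 ze30) (ke xe14 ye45 ze39) (ke xe30 ye34 ze15) (ke xe19 ye51 ze56) (ke xe26 ye9 ze30) (ke xe16 ye56 ze40) (ke xe23 ye33 ze6) (ke xe13 ye54 ze33) (ke xe29 ye48 ze53) (ke xe29 ye11 ze42) (ke xe13 ye54 ze43) (ke xe31 ye2 ze8) (ke xe22 ye16 ze54) (ke xe28 ye41 ze32) (ke xe13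 ye54 ze36) (ke xe26 ye47 ze4) (ke xe13 ye54 ze37) (ke xe27 ye44 ze53) (ke xe13 ye54 ze38) (ke xe29 ye52 ze34) (ke xe31 ye2 ze11) (ke xe31 ye2 ze16) (ke xe13 ye54 ze41)) (@D3.rec (fun _ => Pt) (ke xe22 ye6 ze5) (ke xe13 ye54 ze42) (ke xe23 ye42 ze40) (ke xe16 ye13 ze20) (ke xe25 ye42 ze52) (ke xe25 ye39 ze21) (ke xe13 ye54 ze44) (ke xe26 ye48 ze9) (ke xe13 ye54 ze45) (ke xe31 ye2 ze27) (ke xe27 ye1 ze15) (ke xe13 ye54 ze47) (ke xe23 ye37 ze39) (ke xe13 ye59 ze7) (ke xe23 ye37 ze34) (ke xe27 ye29 ze19) (ke xe26 ye20 ze5) (ke xe24 ye43 ze57) (ke xe23 ye13 ze38) (ke xe16 ye47 ze50) (ke xe25 ye2 ze37) (ke xe13 ye54 ze54) (ke xe31 ye2 ze29) (ke xe23 ye31 ze47) (ke xe13 ye54 ze58) (ke xe13 ye58 ze53) (ke xe13 ye59 ze38) (ke xe26 ye47 ze45) (ke xe18 ye58 ze56) (ke xe13 ye54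 ze61) (ke xe25 ye14 ze38) (ke xe31 ye0 ze34) (ke xe14 ye0 ze9) (ke xe26 ye10 ze1) (ke xe26 ye10 ze5) (ke xe18 ye40 ze46) (ke xe13 ye55 ze2) (ke xe29 ye52 ze12) (ke xe14 ye0 ze1) (ke xe30 ye59 ze55) (ke xe13 ye55 ze4) (ke xe26 ye9 ze5) (ke xe15 ye10 ze34) (ke xe16 ye11 ze4) (ke xe23 ye13 ze45) (ke xe30 ye13 ze29) (ke xe13 ye55 ze8) (ke xe13 ye55 ze9) (ke xe13 ye55 ze10) (ke xe29 ye29 ze17) (ke xe13 ye55 ze11) (ke xe18 ye40 ze10) (ke xe31 ye2 ze42) (ke xe14 ye1 ze5) (ke xe13 ye55 ze13) (ke xe31 ye2 ze45) (ke xe27 ye3 ze16) (ke xe14 ye0 ze48) (ke xe31 ye1 ze37) (ke xe22 ye53 ze39) (ke xe29 ye22 ze5) (ke xe27 ye26 ze58)) (@D3.rec (fun _ => Pt) (ke xe13 ye55 ze20) (ke xe29 ye7 ze21) (ke xe31 ye2 ze54) (ke xe13 ye55 ze21) (ke xe31 ye2 ze58) (ke xe29 ye57 ze50) (ke xe13 ye55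 ze31) (ke xe30 ye40 ze3) (ke xe29 ye10 ze6) (ke xe13 ye55 ze24) (ke xe28 ye11 ze58) (ke xe13 ye55 ze26) (ke xe13 ye55 ze29) (ke xe31 ye3 ze5) (ke xe13 ye55 ze30) (ke xe31 ye2 ze61) (ke xe13 ye55 ze32) (ke xe25 ye45 ze56) (ke xe15 ye43 ze42) (ke xe22 ye21 ze11) (ke xe13 ye55 ze35) (ke xe18 ye2 ze55) (ke xe13 ye55 ze39) (ke xe25 ye34 ze38) (ke xe26 ye1 ze15) (ke xe13 ye55 ze40) (ke xe31 ye3 ze7) (ke xe31 ye3 ze9) (ke xe14 ye1 ze49) (ke xe23 ye38 ze45) (ke xe15 ye43 ze26) (ke xe17 ye12 ze24) (ke xe23 ye38 ze51) (ke xe26 ye0 ze39) (ke xe20 ye12 ze9) (ke xe30 ye8 ze0) (ke xe13 ye55 ze47) (ke xe21 ye24 ze35) (ke xe13 ye55 ze49) (ke xe28 ye4 ze18) (ke xe31 ye3 ze16) (ke xe22 ye42 ze54) (ke xe13 ye55 ze51) (ke xe29 ye58 ze18) (ke xe29 ye58 ze19) (ke xe22 ye44 ze37) (ke xe29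 ye58 ze39) (ke xe13 ye56 ze10) (ke xe24 ye42 ze51) (ke xe30 ye40 ze6) (ke xe22 ye32 ze9) (ke xe31 ye3 ze26) (ke xe31 ye3 ze28) (ke xe13 ye55 ze56) (ke xe31 ye3 ze29) (ke xe30 ye10 ze46) (ke xe29 ye56 ze46) (ke xe13 ye55 ze57) (ke xe14 ye0 ze23) (ke xe24 ye34 ze42) (ke xe13 ye55 ze59) (ke xe31 ye3 ze33)) (@D3.rec (fun _ => Pt) (ke xe31 ye3 ze34) (ke xe27 ye17 ze58) (ke xe29 ye10 ze26) (ke xe31 ye3 ze38) (ke xe13 ye56 ze1) (ke xe22 ye45 ze7) (ke xe21 ye19 ze25) (ke xe27 ye4 ze57) (ke xe25 ye57 ze41) (ke xe13 ye56 ze4) (ke xe31 ye3 ze42) (ke xe21 ye48 ze54) (ke xe29 ye59 ze15) (ke xe14 ye6 ze31) (ke xe15 ye46 ze6) (ke xe13 ye57 ze26) (ke xe31 ye3 ze22) (ke xe21 ye49 ze36) (ke xe21 ye49 ze33) (ke xe22 ye41 ze8) (ke xe13 ye56 ze13) (ke xe21 ye51 ze16) (ke xe13 ye56 ze14)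 (ke xe13 ye56 ze17) (ke xe23 ye30 ze25) (ke xe26 ye0 ze37) (ke xe14 ye2 ze54) (ke xe22 ye37 ze21) (ke xe14 ye43 ze57) (ke xe24 ye22 ze25) (ke xe13 ye56 ze27) (ke xe31 ye3 ze52) (ke xe31 ye3 ze53) (ke xe13 ye56 ze24) (ke xe21 ye27 ze4) (ke xe13 ye56 ze26) (ke xe31 ye3 ze56) (ke xe29 ye59 ze19) (ke xe31 ye3 ze51) (ke xe15 ye21 ze21) (ke xe31 ye3 ze58) (ke xe13 ye56 ze28) (ke xe16 ye52 ze7) (ke xe21 ye19 ze30) (ke xe31 ye3 ze61) (ke xe23 ye39 ze20) (ke xe19 ye45 ze27) (ke xe13 ye56 ze30) (ke xe15 ye43 ze47) (ke xe22 ye6 ze3) (ke xe31 ye2 ze19) (ke xe25 ye59 ze1) (ke xe13 ye56 ze33) (ke xe23 ye40 ze8) (ke xe31 ye2 ze18) (ke xe29 ye51 ze17) (ke xe30 ye51 ze41) (ke xe13 ye56 ze35) (ke xe15 ye45 ze39) (ke xe27 ye1 ze46) (ke xe13 ye56 ze36) (ke xe31 ye4 ze8)) (@D3.rec (fun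 _ => Pt) (ke xe25 ye30 ze12) (ke xe13 ye56 ze57) (ke xe24 ye39 ze50) (ke xe30 ye1 ze35) (ke xe13 ye56 ze38) (ke xe31 ye4 ze10) (ke xe13 ye56 ze41) (ke xe13 ye56 ze42) (ke xe29 ye58 ze5) (ke xe13 ye56 ze43) (ke xe29 ye49 ze52) (ke xe30 ye42 ze6) (ke xe22 ye40 ze4) (ke xe31 ye4 ze15) (ke xe25 ye38 ze54) (ke xe31 ye4 ze16) (ke xe29 ye13 ze57) (ke xe31 ye4 ze18) (ke xe13 ye56 ze47) (ke xe29 ye42 ze55) (ke xe14 ye0 ze24) (ke xe31 ye4 ze21) (ke xe13 ye56 ze49) (ke xe31 ye4 ze25) (ke xe23 ye38 ze49) (ke xe23 ye39 ze13) (ke xe30 ye0 ze47) (ke xe31 ye4 ze30) (ke xe13 ye56 ze52) (ke xe29 ye51 ze13) (ke xe29 ye56 ze45) (ke xe23 ye39 ze32) (ke xe31 ye4 ze33) (ke xe31 ye4 ze34) (ke xe13 ye56 ze54) (ke xe23 ye30 ze23) (ke xe13 ye56 ze55) (ke xe29 ye10 ze23) (ke xe23 ye39 ze27) (ke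 xe13 ye56 ze58) (ke xe31 ye4 ze41) (ke xe31 ye4 ze44) (ke xe31 ye4 ze47) (ke xe13 ye56 ze60) (ke xe20 ye2 ze52) (ke xe13 ye56 ze61) (ke xe22 ye28 ze34) (ke xe23 ye41 ze24) (ke xe23 ye39 ze51) (ke xe27 ye2 ze48) (ke xe13 ye57 ze3) (ke xe16 ye11 ze38) (ke xe26 ye7 ze28) (ke xe23 ye58 ze1) (ke xe29 ye50 ze21) (ke xe24 ye32 ze52) (ke xe13 ye57 ze10) (ke xe23 ye40 ze44) (ke xe22 ye42 ze51) (ke xe26 ye55 ze19) (ke xe30 ye40 ze61) (ke xe13 ye57 ze14)) (@D3.rec (fun _ => Pt) (ke xe30 ye33 ze45) (ke xe25 ye19 ze0) (ke xe31 ye5 ze0) (ke xe13 ye57 ze15) (ke xe23 ye29 ze20) (ke xe20 ye54 ze48) (ke xe13 ye57 ze27) (ke xe30 ye40 ze29) (ke xe13 ye57 ze18) (ke xe13 ye57 ze19) (ke xe31 ye5 ze2) (ke xe13 ye57 ze21) (ke xe31 ye5 ze3) (ke xe13 ye57 ze23) (ke xe28 ye31 ze34) (ke xe15 ye46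 ze7) (ke xe13 ye57 ze25) (ke xe21 ye48 ze61) (ke xe23 ye38 ze58) (ke xe25 ye39 ze15) (ke xe23 ye29 ze4) (ke xe22 ye44 ze21) (ke xe13 ye59 ze10) (ke xe26 ye14 ze53) (ke xe31 ye5 ze8) (ke xe13 ye57 ze33) (ke xe22 ye44 ze11) (ke xe30 ye4 ze46) (ke xe24 ye43 ze19) (ke xe30 ye40 ze31) (ke xe30 ye34 ze58) (ke xe13 ye57 ze37) (ke xe29 ye58 ze38) (ke xe30 ye0 ze35) (ke xe30 ye1 ze31) (ke xe27 ye58 ze5) (ke xe26 ye47 ze14) (ke xe30 ye3 ze22) (ke xe27 ye44 ze49) (ke xe13 ye57 ze44) (ke xe30 ye52 ze49) (ke xe14 ye5 ze24) (ke xe22 ye39 ze8) (ke xe29 ye11 ze37) (ke xe31 ye5 ze16) (ke xe13 ye57 ze51) (ke xe31 ye5 ze17) (ke xe26 ye15 ze29) (ke xe13 ye57 ze60) (ke xe31 ye5 ze21) (ke xe30 ye6 ze11) (ke xe13 ye57 ze54) (ke xe31 ye5 ze23) (ke xe13 ye57 ze55) (ke xe13 ye57 ze57) (ke xe31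 ye5 ze26) (ke xe13 ye57 ze58) (ke xe13 ye57 ze59) (ke xe31 ye5 ze28) (ke xe25 ye23 ze21) (ke xe31 ye5 ze20) (ke xe13 ye57 ze61)) (@D3.rec (fun _ => Pt) (ke xe22 ye28 ze33) (ke xe22 ye44 ze43) (ke xe22 ye44 ze39) (ke xe31 ye5 ze31) (ke xe13 ye58 ze1) (ke xe29 ye56 ze41) (ke xe13 ye58 ze2) (ke xe13 ye58 ze4) (ke xe30 ye3 ze35) (ke xe13 ye58 ze5) (ke xe29 ye4 ze22) (ke xe27 ye17 ze45) (ke xe13 ye58 ze12) (ke xe31 ye5 ze40) (ke xe13 ye58 ze7) (ke xe28 ye27 ze29) (ke xe13 ye58 ze8) (ke xe30 ye51 ze27) (ke xe23 ye41 ze39) (ke xe23 ye9 ze51) (ke xe13 ye58 ze10) (ke xe29 ye4 ze35) (ke xe31 ye5 ze47) (ke xe23 ye28 ze35) (ke xe31 ye5 ze38) (ke xe23 ye27 ze24) (ke xe13 ye58 ze13) (ke xe23 ye32 ze14) (ke xe31 ye5 ze53) (ke xe20 ye16 ze24) (ke xe24 ye22 ze16) (ke xe30 ye37 ze17)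 (ke xe13 ye58 ze23) (ke xe14 ye46 ze26) (ke xe24 ye43 ze54) (ke xe21 ye8 ze34) (ke xe24 ye42 ze21) (ke xe13 ye58 ze31) (ke xe22 ye43 ze59) (ke xe14 ye46 ze29) (ke xe29 ye10 ze4) (ke xe20 ye15 ze49) (ke xe19 ye27 ze23) (ke xe13 ye58 ze39) (ke xe15 ye4 ze26) (ke xe23 ye42 ze32) (ke xe23 ye42 ze30) (ke xe16 ye13 ze14) (ke xe13 ye58 ze46) (ke xe20 ye51 ze14) (ke xe13 ye58 ze47) (ke xe26 ye0 ze21) (ke xe23 ye42 ze7) (ke xe30 ye37 ze25) (ke xe18 ye39 ze58) (ke xe17 ye55 ze56) (ke xe30 ye13 ze15) (ke xe25 ye2 ze20) (ke xe13 ye58 ze52) (ke xe31 ye2 ze30) (ke xe23 ye33 ze49) (ke xe13 ye58 ze54)) (@D3.rec (fun _ => Pt) (ke xe13 ye59 ze36) (ke xe31 ye5 ze59) (ke xe13 ye58 ze57) (ke xe23 ye19 ze32) (ke xe17 ye33 ze36) (ke xe31 ye5 ze60) (ke xe29 ye12 ze23) (ke xe13 ye58 ze60) (ke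 xe31 ye2 ze20) (ke xe30 ye33 ze14) (ke xe13 ye59 ze0) (ke xe29 ye11 ze32) (ke xe14 ye40 ze6) (ke xe23 ye43 ze0) (ke xe23 ye19 ze34) (ke xe13 ye59 ze6) (ke xe31 ye0 ze37) (ke xe19 ye48 ze27) (ke xe29 ye18 ze24) (ke xe13 ye59 ze8) (ke xe23 ye16 ze10) (ke xe13 ye59 ze57) (ke xe14 ye49 ze5) (ke xe18 ye23 ze58) (ke xe21 ye11 ze61) (ke xe13 ye59 ze19) (ke xe13 ye59 ze20) (ke xe15 ye31 ze1) (ke xe13 ye59 ze23) (ke xe30 ye32 ze37) (ke xe13 ye59 ze24) (ke xe28 ye10 ze55) (ke xe31 ye0 ze54) (ke xe16 ye31 ze0) (ke xe23 ye40 ze46) (ke xe23 ye55 ze16) (ke xe23 ye2 ze13) (ke xe31 ye5 ze57) (ke xe28 ye11 ze39) (ke xe31 ye6 ze8) (ke xe31 ye5 ze58) (ke xe25 ye2 ze4) (ke xe13 ye59 ze37) (ke xe27 ye56 ze57) (ke xe13 ye59 ze39) (ke xe19 ye56 ze18) (ke xe23 ye18 ze0) (ke xe23 ye25 ze23)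 (ke xe13 ye59 ze46) (ke xe30 ye47 ze0) (ke xe23 ye32 ze8) (ke xe19 ye49 ze38) (ke xe25 ye2 ze2) (ke xe13 ye59 ze48) (ke xe29 ye18 ze23) (ke xe13 ye59 ze52) (ke xe23 ye19 ze26) (ke xe13 ye59 ze53) (ke xe15 ye50 ze26) (ke xe13 ye59 ze54) (ke xe14 ye53 ze24) (ke xe26 ye9 ze53)) (@D3.rec (fun _ => Pt) (ke xe23 ye9 ze32) (ke xe13 ye59 ze56) (ke xe23 ye8 ze27) (ke xe25 ye18 ze12) (ke xe16 ye29 ze41) (ke xe28 ye10 ze59) (ke xe13 ye59 ze58) (ke xe19 ye50 ze1) (ke xe23 ye31 ze50) (ke xe29 ye22 ze11) (ke xe29 ye9 ze47) (ke xe16 ye10 ze59) (ke xe29 ye9 ze49) (ke xe30 ye53 ze60) (ke xe23 ye30 ze27) (ke xe13 ye59 ze61) (ke xe14 ye34 ze27) (ke xe30 ye40 ze39) (ke xe14 ye0 ze2) (ke xe14 ye0 ze3) (ke xe25 ye49 ze36) (ke xe26 ye47 ze44) (ke xe31 ye6 ze19) (ke xe25 ye46 ze24) (ke xe30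 ye39 ze54) (ke xe23 ye14 ze59) (ke xe28 ye11 ze0) (ke xe14 ye0 ze7) (ke xe25 ye2 ze30) (ke xe14 ye47 ze39) (ke xe30 ye33 ze49) (ke xe30 ye55 ze39) (ke xe30 ye35 ze10) (ke xe14 ye0 ze10) (ke xe23 ye33 ze43) (ke xe18 ye23 ze50) (ke xe28 ye13 ze47) (ke xe20 ye32 ze23) (ke xe27 ye5 ze33) (ke xe29 ye29 ze46) (ke xe20 ye4 ze29) (ke xe28 ye10 ze13) (ke xe25 ye3 ze9) (ke xe28 ye10 ze45) (ke xe17 ye38 ze12) (ke xe14 ye0 ze14) (ke xe15 ye10 ze54) (ke xe15 ye10 ze55) (ke xe30 ye42 ze47) (ke xe16 ye12 ze12) (ke xe26 ye7 ze47) (ke xe30 ye42 ze46) (ke xe26 ye7 ze40) (ke xe22 ye16 ze51) (ke xe23 ye13 ze43) (ke xe23 ye52 ze30) (ke xe22 ye16 ze52) (ke xe28 ye24 ze41) (ke xe21 ye25 ze26) (ke xe23 ye21 ze7) (ke xe31 ye0 ze36) (ke xe22 ye45 ze38)) (@D3.rec (fun _ => Pt) (ke xe14 ye0 ze22)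 (ke xe31 ye6 ze33) (ke xe31 ye6 ze35) (ke xe31 ye0 ze42) (ke xe26 ye8 ze20) (ke xe31 ye1 ze10) (ke xe23 ye24 ze45) (ke xe14 ye0 ze26) (ke xe22 ye42 ze18) (ke xe14 ye0 ze27) (ke xe23 ye46 ze20) (ke xe23 ye52 ze37) (ke xe23 ye35 ze12) (ke xe16 ye49 ze56) (ke xe27 ye58 ze2) (ke xe30 ye41 ze9) (ke xe19 ye36 ze11) (ke xe16 ye7 ze8) (ke xe30 ye2 ze1) (ke xe14 ye0 ze37) (ke xe14 ye0 ze43) (ke xe31 ye2 ze43) (ke xe17 ye33 ze44) (ke xe14 ye0 ze46) (ke xe29 ye23 ze3) (ke xe14 ye0 ze49) (ke xe14 ye0 ze52) (ke xe25 ye14 ze49) (ke xe23 ye15 ze54) (ke xe15 ye47 ze29) (ke xe27 ye10 ze6) (ke xe31 ye6 ze42) (ke xe30 ye49 ze10) (ke xe14 ye0 ze55) (ke xe28 ye27 ze18) (ke xe14 ye0 ze57) (ke xe20 ye15 ze46) (ke xe20 ye40 ze56) (ke xe22 ye17 ze4) (ke xe31 ye6 ze48) (ke xe14 ye0 ze61) (ke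 xe22 ye31 ze24) (ke xe30 ye32 ze41) (ke xe23 ye32 ze34) (ke xe26 ye23 ze6) (ke xe31 ye6 ze49) (ke xe31 ye6 ze50) (ke xe14 ye1 ze3) (ke xe27 ye3 ze23) (ke xe23 ye30 ze60) (ke xe22 ye30 ze10) (ke xe30 ye32 ze12) (ke xe28 ye43 ze61) (ke xe18 ye9 ze58) (ke xe14 ye1 ze11) (ke xe16 ye18 ze8) (ke xe14 ye1 ze13) (ke xe27 ye30 ze60) (ke xe27 ye46 ze2) (ke xe28 ye15 ze20) (ke xe28 ye50 ze21) (ke xe14 ye1 ze17)) (@D3.rec (fun _ => Pt) (ke xe18 ye10 ze31) (ke xe22 ye48 ze42) (ke xe14 ye1 ze18) (ke xe30 ye37 ze22) (ke xe31 ye6 ze59) (ke xe22 ye37 ze45) (ke xe14 ye29 ze41) (ke xe18 ye45 ze38) (ke xe26 ye19 ze35) (ke xe27 ye58 ze25) (ke xe27 ye31 ze56) (ke xe25 ye15 ze50) (ke xe30 ye46 ze0) (ke xe14 ye1 ze27) (ke xe28 ye6 ze30) (ke xe26 ye15 ze16) (ke xe23 ye34 ze18) (ke xe18 ye5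 ze8) (ke xe23 ye34 ze16) (ke xe30 ye11 ze55) (ke xe27 ye50 ze42) (ke xe23 ye49 ze53) (ke xe23 ye59 ze43) (ke xe24 ye9 ze54) (ke xe14 ye1 ze33) (ke xe24 ye13 ze54) (ke xe31 ye1 ze25) (ke xe14 ye2 ze44) (ke xe26 ye30 ze9) (ke xe14 ye1 ze36) (ke xe18 ye15 ze13) (ke xe27 ye9 ze1) (ke xe21 ye46 ze5) (ke xe14 ye1 ze39) (ke xe14 ye1 ze40) (ke xe15 ye43 ze29) (ke xe14 ye1 ze47) (ke xe14 ye41 ze33) (ke xe27 ye21 ze12) (ke xe30 ye3 ze5) (ke xe16 ye25 ze5) (ke xe14 ye1 ze53) (ke xe23 ye22 ze44) (ke xe25 ye28 ze49) (ke xe14 ye5 ze8) (ke xe21 ye12 ze28) (ke xe14 ye1 ze55) (ke xe21 ye29 ze46) (ke xe30 ye4 ze27) (ke xe28 ye40 ze52) (ke xe27 ye48 ze44) (ke xe24 ye43 ze16) (ke xe14 ye2 ze5) (ke xe24 ye40 ze61) (ke xe22 ye10 ze14) (ke xe26 ye12 ze18) (ke xe14 ye1 ze61) (ke xe24 ye45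 ze33) (ke xe14 ye2 ze2) (ke xe16 ye8 ze30) (ke xe14 ye2 ze3) (ke xe23 ye2 ze51)) (@D3.rec (fun _ => Pt) (ke xe30 ye3 ze31) (ke xe14 ye2 ze4) (ke xe23 ye35 ze46) (ke xe14 ye2 ze6) (ke xe16 ye5 ze26) (ke xe25 ye42 ze36) (ke xe14 ye5 ze6) (ke xe15 ye50 ze21) (ke xe18 ye18 ze26) (ke xe23 ye19 ze36) (ke xe15 ye13 ze32) (ke xe26 ye25 ze1) (ke xe23 ye33 ze12) (ke xe26 ye9 ze3) (ke xe30 ye38 ze55) (ke xe23 ye35 ze40) (ke xe14 ye2 ze13) (ke xe27 ye44 ze31) (ke xe23 ye20 ze3) (ke xe27 ye17 ze4) (ke xe23 ye23 ze15) (ke xe22 ye38 ze41) (ke xe29 ye24 ze45) (ke xe14 ye2 ze18) (ke xe30 ye8 ze26) (ke xe26 ye47 ze36) (ke xe16 ye6 ze4) (ke xe16 ye5 ze6) (ke xe14 ye2 ze30) (ke xe16 ye19 ze56) (ke xe26 ye0 ze53) (ke xe26 ye1 ze19) (ke xe22 ye27 ze4) (ke xe14 ye2 ze37) (ke xe14 ye19 ze23)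 (ke xe26 ye3 ze25) (ke xe23 ye21 ze41) (ke xe14 ye2 ze38) (ke xe18 ye28 ze46) (ke xe14 ye2 ze39) (ke xe23 ye35 ze15) (ke xe26 ye7 ze6) (ke xe23 ye44 ze59) (ke xe29 ye19 ze28) (ke xe27 ye56 ze2) (ke xe22 ye11 ze46) (ke xe23 ye35 ze2) (ke xe30 ye1 ze10) (ke xe28 ye57 ze46) (ke xe25 ye57 ze5) (ke xe16 ye14 ze36) (ke xe17 ye43 ze56) (ke xe21 ye3 ze48) (ke xe14 ye56 ze61) (ke xe26 ye10 ze56) (ke xe14 ye2 ze49) (ke xe16 ye19 ze9) (ke xe31 ye7 ze26) (ke xe28 ye2 ze21) (ke xe24 ye20 ze9) (ke xe31 ye7 ze17) (ke xe14 ye6 ze2)) (@D3.rec (fun _ => Pt) (ke xe22 ye38 ze42) (ke xe21 ye19 ze19) (ke xe14 ye2 ze60) (ke xe22 ye38 ze9) (ke xe14 ye3 ze1) (ke xe30 ye14 ze34) (ke xe30 ye1 ze28) (ke xe28 ye41 ze14) (ke xe21 ye39 ze18) (ke xe14 ye3 ze6) (ke xe20 ye42 ze22) (ke xe14 ye41 ze11)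 (ke xe25 ye41 ze9) (ke xe31 ye7 ze32) (ke xe16 ye6 ze27) (ke xe27 ye24 ze18) (ke xe14 ye3 ze12) (ke xe14 ye3 ze13) (ke xe16 ye6 ze17) (ke xe23 ye23 ze29) (ke xe14 ye3 ze15) (ke xe26 ye5 ze54) (ke xe27 ye42 ze29) (ke xe17 ye14 ze15) (ke xe31 ye7 ze35) (ke xe21 ye27 ze27) (ke xe14 ye3 ze18) (ke xe15 ye41 ze28) (ke xe23 ye23 ze44) (ke xe14 ye3 ze38) (ke xe14 ye25 ze49) (ke xe20 ye22 ze15) (ke xe14 ye3 ze27) (ke xe20 ye41 ze15) (ke xe22 ye27 ze54) (ke xe25 ye10 ze3) (ke xe14 ye3 ze29) (ke xe22 ye15 ze40) (ke xe14 ye19 ze58) (ke xe22 ye36 ze20) (ke xe14 ye3 ze33) (ke xe19 ye22 ze29) (ke xe19 ye5 ze19) (ke xe22 ye18 ze46) (ke xe24 ye42 ze30) (ke xe27 ye32 ze2) (ke xe19 ye22 ze53) (ke xe18 ye16 ze16) (ke xe22 ye18 ze53) (ke xe14 ye27 ze33) (ke xe29 ye20 ze27) (ke xe14 ye3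 ze45) (ke xe18 ye32 ze50) (ke xe31 ye7 ze38) (ke xe26 ye16 ze42) (ke xe26 ye17 ze35) (ke xe23 ye49 ze60) (ke xe31 ye7 ze43) (ke xe24 ye58 ze52) (ke xe28 ye3 ze23) (ke xe17 ye44 ze52) (ke xe20 ye4 ze2)) (@D3.rec (fun _ => Pt) (ke xe19 ye19 ze44) (ke xe17 ye31 ze37) (ke xe31 ye7 ze47) (ke xe14 ye3 ze52) (ke xe29 ye26 ze53) (ke xe20 ye24 ze55) (ke xe29 ye26 ze55) (ke xe24 ye23 ze37) (ke xe27 ye40 ze53) (ke xe30 ye31 ze43) (ke xe22 ye5 ze26) (ke xe31 ye7 ze53) (ke xe14 ye4 ze9) (ke xe30 ye1 ze61) (ke xe18 ye3 ze11) (ke xe14 ye4 ze0) (ke xe31 ye7 ze55) (ke xe14 ye4 ze1) (ke xe21 ye40 ze58) (ke xe14 ye4 ze3) (ke xe22 ye10 ze13) (ke xe14 ye4 ze4) (ke xe21 ye56 ze37) (ke xe31 ye7 ze58) (ke xe31 ye2 ze44) (ke xe14 ye4 ze7) (ke xe26 ye9 ze25) (ke xe30 ye18 ze14) (ke xe14 ye4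 ze8) (ke xe21 ye56 ze49) (ke xe30 ye33 ze41) (ke xe25 ye39 ze19) (ke xe20 ye4 ze39) (ke xe14 ye9 ze15) (ke xe23 ye25 ze14) (ke xe21 ye56 ze33) (ke xe14 ye4 ze14) (ke xe18 ye39 ze34) (ke xe22 ye28 ze32) (ke xe23 ye25 ze12) (ke xe14 ye8 ze24) (ke xe27 ye57 ze27) (ke xe14 ye4 ze18) (ke xe19 ye55 ze34) (ke xe14 ye4 ze19) (ke xe16 ye30 ze52) (ke xe18 ye27 ze22) (ke xe21 ye37 ze30) (ke xe15 ye6 ze52) (ke xe18 ye27 ze23) (ke xe25 ye12 ze26) (ke xe29 ye56 ze17) (ke xe24 ye44 ze45) (ke xe24 ye44 ze46) (ke xe30 ye14 ze21) (ke xe17 ye54 ze14) (ke xe31 ye8 ze17) (ke xe25 ye49 ze58) (ke xe26 ye16 ze22) (ke xe22 ye34 ze41) (ke xe26 ye15 ze37) (ke xe14 ye4 ze37)) (@D3.rec (fun _ => Pt) (ke xe17 ye9 ze6) (ke xe17 ye32 ze23) (ke xe17 ye7 ze46) (ke xe22 ye2 ze52) (ke xe27 ye3 ze58) (ke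 xe16 ye53 ze33) (ke xe14 ye4 ze50) (ke xe14 ye4 ze52) (ke xe30 ye5 ze30) (ke xe14 ye4 ze56) (ke xe14 ye5 ze0) (ke xe25 ye39 ze60) (ke xe25 ye42 ze40) (ke xe26 ye8 ze26) (ke xe26 ye47 ze22) (ke xe14 ye5 ze4) (ke xe26 ye0 ze49) (ke xe14 ye5 ze5) (ke xe30 ye13 ze45) (ke xe22 ye4 ze38) (ke xe31 ye7 ze13) (ke xe28 ye43 ze53) (ke xe31 ye8 ze26) (ke xe23 ye41 ze60) (ke xe31 ye8 ze27) (ke xe31 ye8 ze28) (ke xe14 ye5 ze14) (ke xe19 ye54 ze44) (ke xe27 ye58 ze7) (ke xe14 ye5 ze17) (ke xe31 ye8 ze37) (ke xe14 ye5 ze19) (ke xe31 ye8 ze39) (ke xe14 ye5 ze20) (ke xe31 ye8 ze43) (ke xe14 ye5 ze22) (ke xe30 ye16 ze61) (ke xe19 ye55 ze18) (ke xe14 ye5 ze23) (ke xe31 ye8 ze51) (ke xe18 ye40 ze27) (ke xe23 ye40 ze51) (ke xe22 ye44 ze29) (ke xe30 ye52 ze50) (ke xe14 ye5 ze25) (ke xe23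 ye26 ze29) (ke xe25 ye39 ze43) (ke xe31 ye9 ze0) (ke xe31 ye7 ze19) (ke xe23 ye28 ze24) (ke xe14 ye5 ze27) (ke xe23 ye26 ze32) (ke xe24 ye28 ze10) (ke xe18 ye48 ze1) (ke xe31 ye9 ze4) (ke xe31 ye6 ze17) (ke xe14 ye5 ze29) (ke xe31 ye6 ze51) (ke xe23 ye29 ze18) (ke xe14 ye5 ze31) (ke xe31 ye9 ze9) (ke xe27 ye48 ze23)) (@D3.rec (fun _ => Pt) (ke xe14 ye5 ze52) (ke xe15 ye20 ze35) (ke xe31 ye9 ze11) (ke xe14 ye5 ze34) (ke xe31 ye9 ze13) (ke xe15 ye42 ze60) (ke xe31 ye9 ze14) (ke xe31 ye9 ze16) (ke xe14 ye5 ze37) (ke xe31 ye9 ze17) (ke xe14 ye5 ze39) (ke xe21 ye49 ze25) (ke xe30 ye40 ze49) (ke xe23 ye28 ze25) (ke xe31 ye9 ze18) (ke xe23 ye41 ze6) (ke xe14 ye5 ze41) (ke xe23 ye41 ze10) (ke xe14 ye5 ze43) (ke xe31 ye7 ze20) (ke xe23 ye27 ze45) (ke xe14 ye5 ze45) (ke xe21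 ye24 ze31) (ke xe31 ye9 ze27) (ke xe14 ye5 ze46) (ke xe30 ye4 ze40) (ke xe31 ye9 ze32) (ke xe23 ye28 ze38) (ke xe31 ye9 ze34) (ke xe14 ye5 ze48) (ke xe31 ye9 ze35) (ke xe31 ye9 ze6) (ke xe23 ye28 ze31) (ke xe31 ye9 ze40) (ke xe14 ye5 ze50) (ke xe14 ye5 ze51) (ke xe31 ye9 ze47) (ke xe31 ye9 ze51) (ke xe23 ye41 ze21) (ke xe31 ye9 ze53) (ke xe31 ye9 ze54) (ke xe14 ye5 ze53) (ke xe14 ye5 ze54) (ke xe31 ye9 ze59) (ke xe31 ye9 ze60) (ke xe31 ye10 ze1) (ke xe14 ye5 ze56) (ke xe31 ye10 ze4) (ke xe14 ye5 ze57) (ke xe22 ye43 ze43) (ke xe30 ye41 ze3) (ke xe23 ye28 ze48) (ke xe14 ye5 ze60) (ke xe14 ye5 ze61) (ke xe14 ye6 ze0) (ke xe31 ye7 ze28) (ke xe14 ye6 ze4) (ke xe29 ye51 ze15) (ke xe26 ye49 ze11) (ke xe29 ye57 ze56) (ke xe14 ye6 ze5) (ke xe30 ye4 ze37)) (@D3.rec (fun _ =>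 Pt) (ke xe14 ye6 ze10) (ke xe30 ye41 ze16) (ke xe31 ye10 ze10) (ke xe14 ye6 ze9) (ke xe27 ye4 ze37) (ke xe31 ye10 ze13) (ke xe14 ye20 ze49) (ke xe21 ye43 ze33) (ke xe23 ye27 ze53) (ke xe30 ye33 ze35) (ke xe14 ye6 ze14) (ke xe14 ye6 ze15) (ke xe30 ye1 ze2) (ke xe24 ye27 ze5) (ke xe14 ye6 ze17) (ke xe30 ye4 ze45) (ke xe14 ye6 ze32) (ke xe29 ye10 ze30) (ke xe14 ye6 ze21) (ke xe31 ye10 ze22) (ke xe31 ye10 ze23) (ke xe14 ye6 ze24) (ke xe23 ye21 ze47) (ke xe31 ye10 ze24) (ke xe14 ye6 ze25) (ke xe17 ye56 ze12) (ke xe30 ye1 ze29) (ke xe14 ye6 ze29) (ke xe21 ye24 ze37) (ke xe31 ye10 ze28) (ke xe25 ye38 ze34) (ke xe29 ye5 ze15) (ke xe31 ye10 ze29) (ke xe14 ye7 ze29) (ke xe31 ye10 ze20) (ke xe27 ye59 ze50) (ke xe14 ye6 ze35) (ke xe16 ye10 ze35) (ke xe14 ye6 ze36) (ke xe31 ye0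 ze49) (ke xe14 ye6 ze38) (ke xe14 ye6 ze40) (ke xe16 ye10 ze52) (ke xe14 ye6 ze45) (ke xe23 ye28 ze57) (ke xe21 ye18 ze17) (ke xe23 ye31 ze34) (ke xe29 ye28 ze46) (ke xe31 ye10 ze36) (ke xe26 ye1 ze33) (ke xe31 ye10 ze32) (ke xe23 ye38 ze41) (ke xe14 ye46 ze7) (ke xe14 ye6 ze48) (ke xe16 ye19 ze59) (ke xe28 ye18 ze14) (ke xe17 ye0 ze6) (ke xe30 ye33 ze25) (ke xe14 ye6 ze52) (ke xe31 ye10 ze42) (ke xe21 ye19 ze16) (ke xe14 ye7 ze2)) (@D3.rec (fun _ => Pt) (ke xe31 ye10 ze46) (ke xe29 ye35 ze49) (ke xe14 ye6 ze55) (ke xe29 ye11 ze27) (ke xe31 ye10 ze49) (ke xe14 ye6 ze56) (ke xe23 ye39 ze15) (ke xe14 ye6 ze58) (ke xe23 ye52 ze53) (ke xe14 ye6 ze59) (ke xe23 ye39 ze17) (ke xe14 ye6 ze60) (ke xe27 ye23 ze33) (ke xe14 ye7 ze0) (ke xe30 ye10 ze25) (ke xe31 ye10 ze55) (ke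 xe14 ye46 ze8) (ke xe14 ye7 ze1) (ke xe30 ye1 ze33) (ke xe30 ye1 ze30) (ke xe23 ye56 ze33) (ke xe23 ye39 ze38) (ke xe14 ye7 ze3) (ke xe30 ye4 ze4) (ke xe23 ye28 ze47) (ke xe19 ye47 ze10) (ke xe27 ye18 ze3) (ke xe14 ye7 ze6) (ke xe31 ye11 ze0) (ke xe14 ye7 ze8) (ke xe14 ye7 ze9) (ke xe14 ye7 ze15) (ke xe16 ye47 ze29) (ke xe31 ye11 ze4) (ke xe14 ye7 ze11) (ke xe31 ye11 ze7) (ke xe14 ye7 ze12) (ke xe30 ye42 ze23) (ke xe25 ye59 ze5) (ke xe23 ye30 ze18) (ke xe31 ye11 ze11) (ke xe31 ye11 ze1) (ke xe25 ye30 ze49) (ke xe19 ye44 ze42) (ke xe29 ye59 ze2) (ke xe31 ye11 ze17) (ke xe29 ye5 ze18) (ke xe14 ye7 ze16) (ke xe14 ye7 ze17) (ke xe31 ye2 ze33) (ke xe27 ye43 ze33) (ke xe30 ye3 ze12) (ke xe25 ye39 ze12) (ke xe31 ye11 ze21) (ke xe14 ye7 ze26) (ke xe30 ye52 ze16) (ke xe14 ye7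 ze28) (ke xe29 ye11 ze5) (ke xe18 ye40 ze21) (ke xe22 ye44 ze4) (ke xe23 ye38 ze23) (ke xe30 ye42 ze2)) (@D3.rec (fun _ => Pt) (ke xe14 ye7 ze34) (ke xe14 ye7 ze38) (ke xe30 ye41 ze51) (ke xe24 ye42 ze13) (ke xe21 ye24 ze42) (ke xe22 ye44 ze6) (ke xe31 ye8 ze4) (ke xe23 ye30 ze52) (ke xe14 ye49 ze32) (ke xe27 ye5 ze42) (ke xe31 ye11 ze27) (ke xe21 ye19 ze15) (ke xe14 ye7 ze43) (ke xe22 ye40 ze40) (ke xe31 ye11 ze28) (ke xe21 ye21 ze60) (ke xe14 ye7 ze44) (ke xe21 ye27 ze51) (ke xe21 ye21 ze41) (ke xe14 ye49 ze39) (ke xe16 ye2 ze52) (ke xe14 ye7 ze47) (ke xe24 ye41 ze61) (ke xe14 ye49 ze42) (ke xe30 ye41 ze50) (ke xe14 ye49 ze51) (ke xe14 ye7 ze58) (ke xe24 ye53 ze18) (ke xe18 ye43 ze10) (ke xe16 ye47 ze24) (ke xe23 ye30 ze46) (ke xe14 ye8 ze5) (ke xe23 ye30 ze45) (ke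 xe29 ye55 ze58) (ke xe20 ye13 ze61) (ke xe15 ye7 ze29) (ke xe24 ye56 ze15) (ke xe16 ye59 ze60) (ke xe30 ye51 ze54) (ke xe15 ye29 ze40) (ke xe23 ye25 ze2) (ke xe30 ye2 ze2) (ke xe27 ye40 ze59) (ke xe31 ye8 ze5) (ke xe20 ye14 ze52) (ke xe31 ye0 ze58) (ke xe21 ye34 ze6) (ke xe14 ye8 ze18) (ke xe30 ye0 ze61) (ke xe18 ye30 ze8) (ke xe15 ye13 ze54) (ke xe14 ye9 ze0) (ke xe30 ye42 ze44) (ke xe22 ye15 ze49) (ke xe30 ye51 ze61) (ke xe21 ye2 ze23) (ke xe14 ye8 ze26) (ke xe14 ye8 ze27) (ke xe22 ye38 ze2) (ke xe16 ye17 ze37) (ke xe31 ye11 ze32) (ke xe26 ye6 ze31)) (@D3.rec (fun _ => Pt) (ke xe23 ye31 ze13) (ke xe21 ye38 ze18) (ke xe23 ye3 ze31) (ke xe14 ye8 ze32) (ke xe14 ye8 ze35) (ke xe31 ye11 ze35) (ke xe15 ye43 ze25) (ke xe26 ye0 ze15) (ke xe31 ye11 ze40) (ke xe31 ye6 ze57)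 (ke xe14 ye8 ze38) (ke xe14 ye9 ze28) (ke xe31 ye8 ze8) (ke xe16 ye25 ze41) (ke xe14 ye40 ze10) (ke xe14 ye8 ze40) (ke xe16 ye23 ze36) (ke xe14 ye8 ze41) (ke xe30 ye51 ze60) (ke xe14 ye9 ze21) (ke xe14 ye45 ze49) (ke xe18 ye29 ze49) (ke xe31 ye6 ze60) (ke xe31 ye11 ze46) (ke xe24 ye55 ze25) (ke xe14 ye8 ze45) (ke xe18 ye30 ze4) (ke xe14 ye9 ze36) (ke xe25 ye3 ze49) (ke xe30 ye19 ze42) (ke xe18 ye59 ze0) (ke xe24 ye46 ze54) (ke xe25 ye24 ze2) (ke xe31 ye11 ze49) (ke xe14 ye8 ze50) (ke xe31 ye11 ze51) (ke xe14 ye8 ze51) (ke xe16 ye50 ze16) (ke xe31 ye11 ze54) (ke xe14 ye8 ze53) (ke xe26 ye3 ze33) (ke xe14 ye8 ze54) (ke xe21 ye56 ze28) (ke xe28 ye36 ze49) (ke xe31 ye11 ze58) (ke xe14 ye8 ze55) (ke xe26 ye8 ze47) (ke xe21 ye55 ze57) (ke xe30 ye25 ze0) (ke xe30 ye33 ze59)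 (ke xe14 ye8 ze58) (ke xe25 ye37 ze45) (ke xe19 ye55 ze25) (ke xe23 ye1 ze57) (ke xe14 ye9 ze30) (ke xe31 ye11 ze43) (ke xe14 ye8 ze60) (ke xe15 ye12 ze17) (ke xe18 ye29 ze61) (ke xe17 ye40 ze47) (ke xe29 ye58 ze51) (ke xe31 ye8 ze7)) (@D3.rec (fun _ => Pt) (ke xe25 ye46 ze36) (ke xe25 ye3 ze60) (ke xe14 ye9 ze1) (ke xe14 ye9 ze4) (ke xe14 ye47 ze41) (ke xe14 ye9 ze5) (ke xe14 ye9 ze6) (ke xe14 ye9 ze8) (ke xe31 ye6 ze26) (ke xe24 ye59 ze53) (ke xe16 ye12 ze19) (ke xe19 ye56 ze39) (ke xe18 ye28 ze16) (ke xe25 ye45 ze32) (ke xe14 ye9 ze12) (ke xe21 ye33 ze55) (ke xe25 ye0 ze1) (ke xe22 ye11 ze8) (ke xe30 ye0 ze53) (ke xe21 ye34 ze8) (ke xe30 ye51 ze56) (ke xe21 ye56 ze48) (ke xe14 ye9 ze17) (ke xe31 ye11 ze38) (ke xe16 ye50 ze19) (ke xe30 ye20 ze8) (ke xe31 ye11 ze44)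 (ke xe17 ye55 ze58) (ke xe22 ye44 ze36) (ke xe14 ye9 ze22) (ke xe31 ye0 ze53) (ke xe18 ye36 ze55) (ke xe18 ye29 ze53) (ke xe14 ye9 ze27) (ke xe27 ye45 ze41) (ke xe29 ye58 ze48) (ke xe30 ye1 ze6) (ke xe15 ye11 ze44) (ke xe28 ye2 ze5) (ke xe27 ye4 ze48) (ke xe18 ye37 ze1) (ke xe21 ye6 ze41) (ke xe26 ye45 ze54) (ke xe23 ye19 ze60) (ke xe14 ye9 ze40) (ke xe31 ye4 ze32) (ke xe21 ye55 ze43) (ke xe15 ye50 ze20) (ke xe14 ye9 ze43) (ke xe14 ye9 ze46) (ke xe31 ye8 ze24) (ke xe14 ye9 ze47) (ke xe28 ye12 ze28) (ke xe31 ye12 ze12) (ke xe30 ye12 ze50) (ke xe31 ye12 ze13) (ke xe14 ye9 ze51) (ke xe28 ye4 ze11) (ke xe30 ye13 ze4) (ke xe23 ye35 ze42) (ke xe14 ye9 ze53) (ke xe14 ye9 ze54)) (@D3.rec (fun _ => Pt) (ke xe21 ye37 ze58) (ke xe31 ye12 ze18) (ke xe28 ye10 ze6) (ke xe30 ye0 ze59)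 (ke xe14 ye9 ze56) (ke xe22 ye27 ze57) (ke xe15 ye10 ze46) (ke xe14 ye9 ze58) (ke xe23 ye15 ze26) (ke xe14 ye10 ze0) (ke xe14 ye10 ze1) (ke xe30 ye13 ze30) (ke xe23 ye17 ze26) (ke xe14 ye10 ze3) (ke xe30 ye12 ze46) (ke xe30 ye58 ze42) (ke xe14 ye10 ze5) (ke xe31 ye2 ze14) (ke xe31 ye12 ze25) (ke xe19 ye14 ze37) (ke xe20 ye29 ze48) (ke xe29 ye51 ze25) (ke xe25 ye4 ze0) (ke xe25 ye0 ze9) (ke xe14 ye10 ze9) (ke xe18 ye26 ze48) (ke xe14 ye10 ze11) (ke xe17 ye26 ze49) (ke xe14 ye10 ze16) (ke xe19 ye9 ze41) (ke xe17 ye21 ze12) (ke xe14 ye10 ze19) (ke xe19 ye15 ze55) (ke xe31 ye12 ze29) (ke xe14 ye10 ze20) (ke xe31 ye12 ze30) (ke xe14 ye10 ze21) (ke xe28 ye52 ze29) (ke xe14 ye10 ze22) (ke xe29 ye55 ze47) (ke xe17 ye2 ze0) (ke xe14 ye10 ze25) (ke xe31 ye12 ze34) (ke xe31 ye12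 ze37) (ke xe14 ye10 ze26) (ke xe22 ye25 ze46) (ke xe21 ye59 ze59) (ke xe14 ye10 ze27) (ke xe30 ye30 ze14) (ke xe21 ye52 ze28) (ke xe25 ye30 ze59) (ke xe29 ye52 ze45) (ke xe19 ye3 ze51) (ke xe29 ye47 ze18) (ke xe19 ye13 ze19) (ke xe31 ye12 ze40) (ke xe29 ye44 ze40) (ke xe14 ye10 ze32) (ke xe30 ye31 ze25) (ke xe14 ye40 ze50) (ke xe31 ye12 ze42) (ke xe14 ye10 ze34)) (@D3.rec (fun _ => Pt) (ke xe14 ye30 ze44) (ke xe14 ye41 ze0) (ke xe30 ye25 ze35) (ke xe29 ye38 ze5) (ke xe30 ye31 ze28) (ke xe14 ye10 ze39) (ke xe30 ye50 ze19) (ke xe30 ye27 ze50) (ke xe29 ye40 ze8) (ke xe26 ye51 ze38) (ke xe14 ye10 ze42) (ke xe22 ye40 ze49) (ke xe31 ye12 ze54) (ke xe14 ye44 ze20) (ke xe14 ye10 ze47) (ke xe20 ye6 ze29) (ke xe14 ye32 ze19) (ke xe30 ye24 ze7) (ke xe18 ye40 ze11) (ke xe25 ye14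 ze57) (ke xe23 ye33 ze10) (ke xe29 ye51 ze27) (ke xe24 ye38 ze30) (ke xe14 ye10 ze50) (ke xe28 ye0 ze52) (ke xe16 ye55 ze7) (ke xe17 ye2 ze9) (ke xe19 ye48 ze1) (ke xe16 ye36 ze11) (ke xe21 ye38 ze27) (ke xe31 ye12 ze58) (ke xe21 ye38 ze28) (ke xe31 ye12 ze59) (ke xe14 ye10 ze60) (ke xe14 ye10 ze61) (ke xe14 ye11 ze1) (ke xe16 ye52 ze15) (ke xe14 ye11 ze3) (ke xe14 ye11 ze4) (ke xe21 ye38 ze55) (ke xe19 ye39 ze48) (ke xe14 ye11 ze6) (ke xe17 ye57 ze15) (ke xe22 ye47 ze28) (ke xe14 ye11 ze9) (ke xe24 ye57 ze7) (ke xe14 ye11 ze10) (ke xe24 ye9 ze15) (ke xe21 ye20 ze41) (ke xe26 ye58 ze54) (ke xe17 ye33 ze14) (ke xe16 ye13 ze53) (ke xe29 ye17 ze5) (ke xe17 ye52 ze31) (ke xe14 ye11 ze20) (ke xe30 ye8 ze50) (ke xe27 ye57 ze5) (ke xe24 ye45 ze22) (ke xe17 ye36 ze60) (ke xe31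 ye6 ze25) (ke xe18 ye40 ze58) (ke xe23 ye14 ze3)) (@D3.rec (fun _ => Pt) (ke xe18 ye56 ze49) (ke xe24 ye19 ze47) (ke xe26 ye25 ze27) (ke xe21 ye41 ze15) (ke xe30 ye8 ze20) (ke xe31 ye13 ze6) (ke xe14 ye11 ze40) (ke xe28 ye25 ze13) (ke xe14 ye25 ze30) (ke xe14 ye11 ze41) (ke xe31 ye13 ze8) (ke xe22 ye35 ze26) (ke xe14 ye11 ze44) (ke xe27 ye2 ze27) (ke xe30 ye19 ze12) (ke xe30 ye19 ze13) (ke xe14 ye11 ze45) (ke xe18 ye32 ze33) (ke xe14 ye11 ze54) (ke xe22 ye19 ze53) (ke xe14 ye11 ze61) (ke xe31 ye13 ze15) (ke xe14 ye12 ze1) (ke xe22 ye9 ze35) (ke xe21 ye54 ze24) (ke xe18 ye17 ze25) (ke xe14 ye12 ze4) (ke xe14 ye24 ze55) (ke xe14 ye12 ze5) (ke xe17 ye29 ze42) (ke xe25 ye23 ze6) (ke xe31 ye13 ze19) (ke xe27 ye4 ze20) (ke xe25 ye51 ze6) (ke xe14 ye12 ze9) (ke xe14 ye12 ze16)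 (ke xe14 ye12 ze19) (ke xe17 ye9 ze44) (ke xe16 ye59 ze30) (ke xe14 ye12 ze24) (ke xe31 ye13 ze21) (ke xe14 ye12 ze25) (ke xe22 ye50 ze43) (ke xe14 ye12 ze31) (ke xe22 ye50 ze44) (ke xe31 ye13 ze25) (ke xe14 ye12 ze34) (ke xe16 ye30 ze48) (ke xe14 ye12 ze35) (ke xe14 ye12 ze36) (ke xe24 ye25 ze22) (ke xe29 ye22 ze9) (ke xe14 ye12 ze40) (ke xe14 ye12 ze41) (ke xe17 ye34 ze0) (ke xe22 ye4 ze9) (ke xe22 ye6 ze4) (ke xe18 ye31 ze23) (ke xe28 ye37 ze50) (ke xe31 ye13 ze28) (ke xe28 ye18 ze57) (ke xe30 ye37 ze30)) (@D3.rec (fun _ => Pt) (ke xe19 ye33 ze60) (ke xe18 ye25 ze55) (ke xe20 ye28 ze6) (ke xe31 ye13 ze32) (ke xe26 ye53 ze46) (ke xe14 ye13 ze0) (ke xe30 ye37 ze29) (ke xe16 ye58 ze17) (ke xe14 ye12 ze57) (ke xe19 ye11 ze53) (ke xe14 ye12 ze58) (ke xe28 ye24 ze28) (ke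 xe31 ye13 ze39) (ke xe14 ye12 ze60) (ke xe29 ye36 ze33) (ke xe14 ye12 ze61) (ke xe31 ye13 ze43) (ke xe26 ye51 ze60) (ke xe31 ye13 ze33) (ke xe28 ye30 ze23) (ke xe30 ye32 ze19) (ke xe14 ye13 ze1) (ke xe24 ye7 ze43) (ke xe28 ye43 ze18) (ke xe14 ye13 ze2) (ke xe31 ye13 ze46) (ke xe14 ye13 ze4) (ke xe14 ye13 ze6) (ke xe14 ye13 ze7) (ke xe29 ye35 ze8) (ke xe14 ye13 ze12) (ke xe20 ye45 ze16) (ke xe30 ye21 ze18) (ke xe14 ye13 ze9) (ke xe27 ye8 ze21) (ke xe30 ye48 ze36) (ke xe31 ye13 ze47) (ke xe22 ye58 ze14) (ke xe22 ye53 ze11) (ke xe28 ye37 ze32) (ke xe27 ye8 ze18) (ke xe30 ye39 ze39) (ke xe14 ye13 ze13) (ke xe23 ye51 ze32) (ke xe31 ye13 ze50) (ke xe19 ye22 ze13) (ke xe26 ye53 ze28) (ke xe28 ye37 ze39) (ke xe14 ye13 ze17) (ke xe31 ye13 ze48) (ke xe14 ye13 ze18) (ke xe24 ye6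 ze60) (ke xe31 ye13 ze51) (ke xe27 ye8 ze20) (ke xe31 ye13 ze53) (ke xe14 ye13 ze21) (ke xe30 ye5 ze46) (ke xe14 ye13 ze22) (ke xe31 ye13 ze58) (ke xe30 ye21 ze49) (ke xe27 ye8 ze58) (ke xe14 ye13 ze31)) (@D3.rec (fun _ => Pt) (ke xe31 ye13 ze60) (ke xe14 ye13 ze32) (ke xe30 ye24 ze36) (ke xe31 ye12 ze32) (ke xe18 ye53 ze4) (ke xe14 ye13 ze35) (ke xe15 ye36 ze4) (ke xe31 ye13 ze61) (ke xe14 ye22 ze44) (ke xe24 ye29 ze58) (ke xe18 ye56 ze60) (ke xe26 ye27 ze49) (ke xe30 ye25 ze29) (ke xe31 ye14 ze4) (ke xe31 ye14 ze5) (ke xe14 ye13 ze44) (ke xe14 ye22 ze57) (ke xe31 ye14 ze8) (ke xe14 ye13 ze46) (ke xe14 ye13 ze47) (ke xe14 ye22 ze61) (ke xe14 ye13 ze49) (ke xe27 ye11 ze48) (ke xe25 ye18 ze19) (ke xe28 ye37 ze19) (ke xe26 ye50 ze38) (ke xe14 ye23 ze3) (ke xe28 ye39 ze60)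 (ke xe14 ye22 ze17) (ke xe31 ye14 ze12) (ke xe14 ye13 ze55) (ke xe29 ye42 ze43) (ke xe31 ye14 ze14) (ke xe14 ye13 ze57) (ke xe14 ye23 ze4) (ke xe30 ye38 ze50) (ke xe14 ye14 ze0) (ke xe28 ye20 ze6) (ke xe29 ye7 ze35) (ke xe30 ye45 ze47) (ke xe30 ye35 ze29) (ke xe14 ye14 ze3) (ke xe26 ye39 ze31) (ke xe20 ye51 ze36) (ke xe30 ye51 ze45) (ke xe17 ye30 ze13) (ke xe27 ye20 ze23) (ke xe14 ye14 ze6) (ke xe31 ye14 ze19) (ke xe14 ye14 ze8) (ke xe27 ye49 ze10) (ke xe14 ye24 ze10) (ke xe30 ye44 ze54) (ke xe23 ye34 ze21) (ke xe15 ye6 ze50) (ke xe14 ye14 ze10) (ke xe14 ye14 ze45) (ke xe15 ye30 ze53) (ke xe14 ye14 ze12) (ke xe20 ye59 ze33) (ke xe23 ye36 ze56) (ke xe20 ye6 ze34)) (@D3.rec (fun _ => Pt) (ke xe28 ye45 ze1) (ke xe18 ye9 ze26) (ke xe14 ye14 ze17) (ke xe17 ye4 ze46) (ke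 xe21 ye35 ze37) (ke xe16 ye17 ze0) (ke xe14 ye14 ze21) (ke xe19 ye20 ze11) (ke xe24 ye7 ze30) (ke xe14 ye14 ze23) (ke xe31 ye14 ze26) (ke xe14 ye14 ze24) (ke xe18 ye49 ze1) (ke xe18 ye48 ze9) (ke xe19 ye23 ze1) (ke xe28 ye7 ze34) (ke xe14 ye14 ze27) (ke xe14 ye14 ze28) (ke xe14 ye15 ze6) (ke xe14 ye43 ze41) (ke xe31 ye14 ze32) (ke xe24 ye44 ze11) (ke xe21 ye58 ze41) (ke xe21 ye59 ze20) (ke xe27 ye4 ze47) (ke xe19 ye1 ze29) (ke xe27 ye33 ze50) (ke xe28 ye25 ze38) (ke xe14 ye14 ze35) (ke xe28 ye38 ze6) (ke xe27 ye52 ze40) (ke xe14 ye14 ze38) (ke xe27 ye49 ze33) (ke xe31 ye7 ze39) (ke xe29 ye20 ze37) (ke xe14 ye14 ze39) (ke xe28 ye7 ze39) (ke xe27 ye32 ze25) (ke xe30 ye35 ze30) (ke xe29 ye32 ze16) (ke xe23 ye20 ze35) (ke xe28 ye35 ze41) (ke xe31 ye14 ze45) (ke xe26 ye14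 ze54) (ke xe31 ye14 ze46) (ke xe14 ye14 ze43) (ke xe30 ye35 ze34) (ke xe16 ye8 ze33) (ke xe16 ye8 ze35) (ke xe19 ye40 ze56) (ke xe14 ye27 ze23) (ke xe15 ye0 ze49) (ke xe31 ye14 ze49) (ke xe14 ye14 ze49) (ke xe31 ye14 ze54) (ke xe31 ye14 ze55) (ke xe14 ye14 ze51) (ke xe28 ye45 ze29) (ke xe27 ye11 ze12) (ke xe30 ye35 ze21) (ke xe31 ye15 ze0) (ke xe15 ye9 ze44)) (@D3.rec (fun _ => Pt) (ke xe25 ye1 ze47) (ke xe27 ye39 ze39) (ke xe14 ye14 ze55) (ke xe30 ye35 ze53) (ke xe24 ye18 ze17) (ke xe23 ye51 ze27) (ke xe29 ye50 ze30) (ke xe30 ye15 ze53) (ke xe14 ye14 ze57) (ke xe26 ye19 ze39) (ke xe24 ye26 ze17) (ke xe31 ye1 ze49) (ke xe14 ye14 ze61) (ke xe24 ye8 ze37) (ke xe31 ye15 ze3) (ke xe14 ye15 ze0) (ke xe31 ye15 ze7) (ke xe14 ye15 ze1) (ke xe19 ye22 ze4) (ke xe22 ye50 ze37)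 (ke xe26 ye16 ze1) (ke xe17 ye41 ze42) (ke xe31 ye14 ze25) (ke xe26 ye20 ze56) (ke xe14 ye15 ze4) (ke xe27 ye23 ze18) (ke xe18 ye29 ze15) (ke xe23 ye51 ze5) (ke xe24 ye53 ze60) (ke xe23 ye53 ze49) (ke xe22 ye8 ze50) (ke xe31 ye15 ze17) (ke xe23 ye48 ze43) (ke xe31 ye13 ze45) (ke xe22 ye39 ze31) (ke xe30 ye39 ze29) (ke xe31 ye14 ze29) (ke xe28 ye22 ze2) (ke xe31 ye15 ze25) (ke xe30 ye44 ze41) (ke xe14 ye15 ze10) (ke xe31 ye15 ze29) (ke xe14 ye17 ze58) (ke xe30 ye35 ze40) (ke xe26 ye13 ze46) (ke xe24 ye54 ze1) (ke xe14 ye15 ze12) (ke xe27 ye48 ze26) (ke xe19 ye15 ze23) (ke xe22 ye8 ze56) (ke xe30 ye35 ze42) (ke xe25 ye32 ze19) (ke xe14 ye17 ze59) (ke xe25 ye3 ze43) (ke xe24 ye15 ze30) (ke xe31 ye14 ze33) (ke xe15 ye12 ze12) (ke xe18 ye54 ze17) (ke xe18 ye33 ze22) (ke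 xe19 ye51 ze1) (ke xe28 ye27 ze61) (ke xe27 ye45 ze57)) (@D3.rec (fun _ => Pt) (ke xe14 ye15 ze26) (ke xe28 ye15 ze16) (ke xe14 ye19 ze47) (ke xe19 ye21 ze10) (ke xe28 ye21 ze12) (ke xe22 ye12 ze29) (ke xe23 ye54 ze54) (ke xe31 ye15 ze39) (ke xe28 ye2 ze1) (ke xe25 ye50 ze24) (ke xe30 ye7 ze38) (ke xe25 ye50 ze18) (ke xe14 ye15 ze33) (ke xe28 ye10 ze39) (ke xe28 ye28 ze35) (ke xe14 ye15 ze34) (ke xe14 ye39 ze7) (ke xe22 ye23 ze32) (ke xe14 ye15 ze37) (ke xe24 ye18 ze24) (ke xe16 ye18 ze15) (ke xe29 ye35 ze38) (ke xe24 ye53 ze30) (ke xe24 ye31 ze14) (ke xe14 ye15 ze41) (ke xe31 ye15 ze41) (ke xe14 ye15 ze43) (ke xe14 ye15 ze44) (ke xe20 ye31 ze45) (ke xe14 ye15 ze47) (ke xe23 ye32 ze55) (ke xe28 ye44 ze47) (ke xe14 ye15 ze49) (ke xe14 ye15 ze51) (ke xe21 ye55 ze36) (ke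 xe24 ye56 ze49) (ke xe18 ye18 ze21) (ke xe23 ye33 ze11) (ke xe14 ye15 ze57) (ke xe14 ye15 ze61) (ke xe30 ye12 ze27) (ke xe31 ye15 ze44) (ke xe30 ye45 ze8) (ke xe30 ye22 ze23) (ke xe31 ye15 ze43) (ke xe22 ye37 ze35) (ke xe26 ye58 ze52) (ke xe26 ye43 ze9) (ke xe14 ye16 ze3) (ke xe30 ye47 ze16) (ke xe14 ye16 ze4) (ke xe31 ye15 ze49) (ke xe29 ye30 ze22) (ke xe23 ye41 ze8) (ke xe22 ye48 ze36) (ke xe28 ye55 ze0) (ke xe14 ye16 ze6) (ke xe14 ye52 ze47) (ke xe18 ye55 ze3) (ke xe31 ye15 ze50) (ke xe14 ye20 ze18) (ke xe21 ye39 ze7)) (@D3.rec (fun _ => Pt) (ke xe14 ye25 ze53) (ke xe23 ye57 ze28) (ke xe14 ye16 ze16) (ke xe31 ye15 ze51) (ke xe26 ye45 ze36) (ke xe29 ye1 ze37) (ke xe18 ye56 ze43) (ke xe31 ye15 ze53) (ke xe26 ye43 ze34) (ke xe19 ye33 ze26) (ke xe14 ye16 ze17) (ke xe31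 ye15 ze54) (ke xe14 ye16 ze18) (ke xe23 ye7 ze0) (ke xe14 ye16 ze19) (ke xe31 ye15 ze55) (ke xe31 ye15 ze56) (ke xe29 ye33 ze13) (ke xe14 ye16 ze21) (ke xe20 ye25 ze33) (ke xe14 ye16 ze22) (ke xe28 ye22 ze54) (ke xe14 ye16 ze25) (ke xe22 ye18 ze37) (ke xe29 ye31 ze14) (ke xe23 ye57 ze41) (ke xe29 ye54 ze60) (ke xe28 ye16 ze57) (ke xe14 ye16 ze27) (ke xe28 ye20 ze25) (ke xe30 ye18 ze43) (ke xe28 ye0 ze42) (ke xe31 ye16 ze3) (ke xe14 ye16 ze29) (ke xe26 ye45 ze5) (ke xe14 ye16 ze31) (ke xe28 ye32 ze50) (ke xe24 ye12 ze31) (ke xe28 ye52 ze18) (ke xe28 ye43 ze32) (ke xe14 ye16 ze32) (ke xe19 ye24 ze1) (ke xe14 ye26 ze27) (ke xe19 ye29 ze28) (ke xe21 ye15 ze34) (ke xe26 ye44 ze0) (ke xe19 ye34 ze27) (ke xe15 ye30 ze49) (ke xe14 ye16 ze36) (ke xe23 ye51 ze29) (ke xe23 ye6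 ze41) (ke xe14 ye16 ze38) (ke xe28 ye23 ze14) (ke xe31 ye16 ze10) (ke xe20 ye10 ze5) (ke xe29 ye20 ze44) (ke xe14 ye16 ze41) (ke xe14 ye56 ze40) (ke xe14 ye17 ze9) (ke xe24 ye18 ze49) (ke xe14 ye16 ze46) (ke xe27 ye15 ze30)) (@D3.rec (fun _ => Pt) (ke xe14 ye16 ze49) (ke xe29 ye37 ze44) (ke xe21 ye49 ze45) (ke xe30 ye56 ze60) (ke xe26 ye4 ze16) (ke xe14 ye16 ze53) (ke xe22 ye27 ze52) (ke xe14 ye16 ze54) (ke xe31 ye16 ze17) (ke xe22 ye47 ze5) (ke xe30 ye57 ze0) (ke xe22 ye41 ze54) (ke xe31 ye16 ze21) (ke xe21 ye10 ze54) (ke xe24 ye2 ze52) (ke xe14 ye16 ze60) (ke xe14 ye17 ze32) (ke xe24 ye27 ze8) (ke xe30 ye34 ze46) (ke xe31 ye16 ze25) (ke xe14 ye17 ze1) (ke xe30 ye49 ze32) (ke xe14 ye17 ze25) (ke xe30 ye34 ze44) (ke xe28 ye7 ze12) (ke xe14 ye17 ze3) (ke xe30 ye18 ze28)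 (ke xe31 ye16 ze37) (ke xe14 ye17 ze5) (ke xe31 ye16 ze40) (ke xe30 ye54 ze53) (ke xe27 ye35 ze17) (ke xe14 ye17 ze6) (ke xe31 ye16 ze11) (ke xe28 ye23 ze26) (ke xe30 ye34 ze52) (ke xe19 ye7 ze22) (ke xe31 ye16 ze46) (ke xe14 ye24 ze35) (ke xe28 ye13 ze16) (ke xe27 ye10 ze8) (ke xe14 ye17 ze13) (ke xe29 ye16 ze5) (ke xe14 ye17 ze14) (ke xe23 ye10 ze1) (ke xe14 ye17 ze16) (ke xe25 ye56 ze47) (ke xe14 ye17 ze17) (ke xe20 ye49 ze42) (ke xe31 ye16 ze53) (ke xe14 ye17 ze18) (ke xe29 ye21 ze14) (ke xe18 ye57 ze26) (ke xe30 ye33 ze8) (ke xe23 ye52 ze6) (ke xe23 ye20 ze21) (ke xe26 ye17 ze34) (ke xe18 ye11 ze17) (ke xe18 ye15 ze9) (ke xe24 ye43 ze46) (ke xe15 ye55 ze10) (ke xe14 ye17 ze26)) (@D3.rec (fun _ => Pt) (ke xe25 ye54 ze31) (ke xe14 ye17 ze28) (ke xe27 ye6 ze24) (ke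 xe21 ye17 ze59) (ke xe14 ye17 ze29) (ke xe28 ye35 ze27) (ke xe29 ye42 ze3) (ke xe29 ye19 ze51) (ke xe31 ye17 ze2) (ke xe14 ye17 ze31) (ke xe14 ye27 ze43) (ke xe30 ye19 ze53) (ke xe15 ye51 ze61) (ke xe14 ye18 ze21) (ke xe14 ye27 ze38) (ke xe18 ye51 ze61) (ke xe23 ye31 ze35) (ke xe24 ye35 ze51) (ke xe21 ye14 ze7) (ke xe22 ye12 ze28) (ke xe30 ye34 ze40) (ke xe14 ye25 ze60) (ke xe14 ye26 ze13) (ke xe22 ye22 ze31) (ke xe21 ye36 ze44) (ke xe14 ye17 ze44) (ke xe30 ye32 ze0) (ke xe14 ye17 ze45) (ke xe31 ye17 ze6) (ke xe14 ye17 ze49) (ke xe14 ye24 ze52) (ke xe30 ye56 ze30) (ke xe14 ye17 ze50) (ke xe14 ye26 ze53) (ke xe29 ye30 ze41) (ke xe28 ye1 ze40) (ke xe29 ye46 ze30) (ke xe14 ye17 ze52) (ke xe22 ye1 ze51) (ke xe14 ye17 ze53) (ke xe30 ye50 ze17) (ke xe14 ye23 ze61) (ke xe25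 ye51 ze22) (ke xe30 ye53 ze45) (ke xe31 ye15 ze31) (ke xe25 ye4 ze45) (ke xe29 ye17 ze56) (ke xe14 ye17 ze60) (ke xe26 ye15 ze58) (ke xe28 ye50 ze40) (ke xe14 ye25 ze9) (ke xe31 ye17 ze17) (ke xe29 ye47 ze3) (ke xe14 ye18 ze0) (ke xe28 ye50 ze50) (ke xe14 ye25 ze1) (ke xe31 ye17 ze21) (ke xe14 ye18 ze2) (ke xe28 ye57 ze58) (ke xe14 ye18 ze3) (ke xe24 ye20 ze32) (ke xe14 ye30 ze2)) (@D3.rec (fun _ => Pt) (ke xe14 ye25 ze21) (ke xe16 ye1 ze11) (ke xe14 ye18 ze6) (ke xe29 ye54 ze44) (ke xe17 ye25 ze13) (ke xe14 ye18 ze8) (ke xe21 ye40 ze22) (ke xe14 ye23 ze49) (ke xe31 ye17 ze26) (ke xe31 ye17 ze27) (ke xe14 ye18 ze10) (ke xe29 ye32 ze9) (ke xe29 ye51 ze1) (ke xe14 ye18 ze11) (ke xe24 ye23 ze9) (ke xe24 ye29 ze24) (ke xe14 ye18 ze15) (ke xe31 ye17 ze31) (ke xe15 ye34 ze39)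 (ke xe25 ye4 ze13) (ke xe25 ye59 ze41) (ke xe29 ye31 ze5) (ke xe14 ye18 ze23) (ke xe28 ye52 ze34) (ke xe14 ye26 ze48) (ke xe14 ye27 ze25) (ke xe30 ye34 ze59) (ke xe25 ye59 ze43) (ke xe14 ye18 ze27) (ke xe31 ye17 ze29) (ke xe14 ye27 ze46) (ke xe27 ye21 ze8) (ke xe20 ye23 ze8) (ke xe23 ye41 ze20) (ke xe14 ye18 ze40) (ke xe28 ye30 ze34) (ke xe31 ye17 ze37) (ke xe14 ye18 ze42) (ke xe28 ye30 ze36) (ke xe31 ye17 ze38) (ke xe29 ye3 ze27) (ke xe14 ye18 ze44) (ke xe31 ye17 ze39) (ke xe31 ye17 ze41) (ke xe14 ye18 ze47) (ke xe14 ye18 ze49) (ke xe28 ye46 ze12) (ke xe14 ye18 ze50) (ke xe14 ye18 ze53) (ke xe30 ye16 ze53) (ke xe19 ye36 ze14) (ke xe29 ye47 ze56) (ke xe29 ye50 ze3) (ke xe25 ye31 ze30) (ke xe30 ye29 ze55) (ke xe25 ye25 ze8) (ke xe18 ye44 ze10) (ke xe16 ye12 ze38) (ke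 xe31 ye17 ze1) (ke xe14 ye19 ze3) (ke xe14 ye19 ze4) (ke xe30 ye56 ze37)) (@D3.rec (fun _ => Pt) (ke xe14 ye19 ze5) (ke xe31 ye17 ze45) (ke xe14 ye19 ze6) (ke xe31 ye17 ze46) (ke xe14 ye19 ze8) (ke xe22 ye16 ze56) (ke xe14 ye19 ze9) (ke xe24 ye21 ze36) (ke xe20 ye53 ze9) (ke xe31 ye7 ze37) (ke xe14 ye19 ze11) (ke xe21 ye5 ze30) (ke xe14 ye19 ze12) (ke xe14 ye30 ze9) (ke xe25 ye59 ze49) (ke xe29 ye54 ze61) (ke xe14 ye19 ze15) (ke xe19 ye8 ze27) (ke xe14 ye31 ze60) (ke xe21 ye16 ze49) (ke xe14 ye19 ze25) (ke xe14 ye19 ze24) (ke xe31 ye17 ze52) (ke xe28 ye44 ze19) (ke xe29 ye39 ze25) (ke xe16 ye44 ze15) (ke xe14 ye19 ze33) (ke xe19 ye12 ze16) (ke xe23 ye53 ze1) (ke xe14 ye19 ze32) (ke xe30 ye53 ze61) (ke xe31 ye17 ze55) (ke xe31 ye17 ze61) (ke xe19 ye3 ze28) (ke xe29 ye8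 ze22) (ke xe14 ye19 ze39) (ke xe28 ye55 ze34) (ke xe19 ye41 ze42) (ke xe29 ye27 ze6) (ke xe14 ye19 ze38) (ke xe20 ye37 ze17) (ke xe23 ye53 ze25) (ke xe26 ye43 ze41) (ke xe19 ye29 ze56) (ke xe31 ye12 ze27) (ke xe19 ye27 ze14) (ke xe16 ye2 ze1) (ke xe28 ye55 ze33) (ke xe24 ye13 ze60) (ke xe30 ye26 ze13) (ke xe31 ye13 ze59) (ke xe19 ye9 ze47) (ke xe31 ye18 ze5) (ke xe14 ye19 ze49) (ke xe17 ye22 ze30) (ke xe29 ye0 ze30) (ke xe28 ye13 ze4) (ke xe14 ye19 ze55) (ke xe14 ye19 ze56) (ke xe19 ye7 ze2) (ke xe31 ye18 ze6) (ke xe14 ye19 ze60)) (@D3.rec (fun _ => Pt) (ke xe14 ye20 ze1) (ke xe23 ye28 ze53) (ke xe17 ye25 ze32) (ke xe19 ye21 ze5) (ke xe25 ye23 ze58) (ke xe23 ye0 ze4) (ke xe23 ye0 ze5) (ke xe18 ye23 ze10) (ke xe14 ye20 ze15) (ke xe29 ye8 ze61) (ke xe29 ye9 ze0) (ke xe31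 ye18 ze10) (ke xe14 ye20 ze21) (ke xe14 ye20 ze45) (ke xe19 ye12 ze59) (ke xe19 ye52 ze11) (ke xe14 ye20 ze26) (ke xe28 ye33 ze32) (ke xe24 ye19 ze37) (ke xe24 ye51 ze31) (ke xe22 ye24 ze45) (ke xe27 ye14 ze9) (ke xe22 ye14 ze42) (ke xe19 ye3 ze50) (ke xe22 ye24 ze6) (ke xe31 ye18 ze13) (ke xe22 ye7 ze36) (ke xe14 ye20 ze37) (ke xe14 ye28 ze4) (ke xe19 ye12 ze25) (ke xe28 ye56 ze9) (ke xe14 ye20 ze40) (ke xe19 ye32 ze39) (ke xe19 ye3 ze40) (ke xe29 ye0 ze32) (ke xe20 ye42 ze45) (ke xe19 ye24 ze14) (ke xe20 ye59 ze24) (ke xe19 ye58 ze36) (ke xe17 ye20 ze2) (ke xe28 ye28 ze52) (ke xe16 ye9 ze58) (ke xe29 ye10 ze1) (ke xe14 ye21 ze20) (ke xe28 ye34 ze10) (ke xe14 ye37 ze10) (ke xe22 ye39 ze42) (ke xe21 ye41 ze44) (ke xe14 ye45 ze57) (ke xe14 ye40 ze18) (ke xe14 ye20 ze57)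 (ke xe14 ye47 ze52) (ke xe30 ye8 ze25) (ke xe31 ye18 ze17) (ke xe14 ye20 ze59) (ke xe14 ye38 ze34) (ke xe14 ye21 ze0) (ke xe14 ye36 ze54) (ke xe31 ye18 ze19) (ke xe14 ye48 ze26) (ke xe31 ye18 ze20) (ke xe14 ye21 ze35)) (@D3.rec (fun _ => Pt) (ke xe31 ye18 ze22) (ke xe14 ye21 ze5) (ke xe25 ye41 ze20) (ke xe17 ye13 ze52) (ke xe19 ye15 ze25) (ke xe14 ye37 ze25) (ke xe31 ye18 ze24) (ke xe31 ye18 ze25) (ke xe14 ye21 ze8) (ke xe16 ye41 ze49) (ke xe21 ye45 ze14) (ke xe19 ye56 ze5) (ke xe22 ye4 ze43) (ke xe14 ye21 ze43) (ke xe27 ye57 ze24) (ke xe17 ye2 ze16) (ke xe25 ye58 ze23) (ke xe24 ye10 ze56) (ke xe19 ye56 ze37) (ke xe14 ye21 ze17) (ke xe30 ye21 ze48) (ke xe14 ye48 ze39) (ke xe27 ye12 ze58) (ke xe19 ye12 ze43) (ke xe14 ye39 ze11) (ke xe14 ye21 ze32) (ke xe19 ye3 ze22)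 (ke xe29 ye10 ze17) (ke xe30 ye34 ze0) (ke xe14 ye39 ze18) (ke xe16 ye50 ze31) (ke xe28 ye44 ze4) (ke xe29 ye50 ze16) (ke xe31 ye18 ze21) (ke xe18 ye39 ze53) (ke xe27 ye56 ze43) (ke xe22 ye31 ze53) (ke xe14 ye39 ze58) (ke xe31 ye18 ze33) (ke xe14 ye21 ze39) (ke xe30 ye34 ze8) (ke xe14 ye39 ze52) (ke xe29 ye40 ze23) (ke xe23 ye34 ze22) (ke xe28 ye39 ze61) (ke xe15 ye27 ze42) (ke xe26 ye54 ze36) (ke xe14 ye21 ze49) (ke xe24 ye4 ze28) (ke xe28 ye37 ze14) (ke xe19 ye21 ze57) (ke xe30 ye56 ze48) (ke xe14 ye21 ze54) (ke xe14 ye30 ze1) (ke xe28 ye48 ze51) (ke xe29 ye1 ze46) (ke xe28 ye20 ze17) (ke xe31 ye18 ze48) (ke xe14 ye25 ze12) (ke xe31 ye18 ze49) (ke xe14 ye21 ze58) (ke xe31 ye17 ze44))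
def f_e_24 : D2 → D3 → Pt := @D2.rec (fun _ => D3 → Pt) (@D3.rec (fun _ => Pt) (ke xe31 ye18 ze53) (ke xe14 ye42 ze17) (ke xe31 ye18 ze54) (ke xe31 ye18 ze56) (ke xe14 ye21 ze60) (ke xe30 ye35 ze59) (ke xe14 ye42 ze8) (ke xe21 ye21 ze61) (ke xe25 ye58 ze22) (ke xe14 ye22 ze0) (ke xe29 ye35 ze52) (ke xe14 ye22 ze2) (ke xe29 ye53 ze27) (ke xe14 ye22 ze3) (ke xe19 ye5 ze8) (ke xe28 ye53 ze48) (ke xe29 ye33 ze36) (ke xe14 ye22 ze11) (ke xe28 ye53 ze57) (ke xe31 ye19 ze4) (ke xe16 ye39 ze20) (ke xe30 ye16 ze14) (ke xe29 ye52 ze7) (ke xe24 ye37 ze28) (ke xe14 ye22 ze14) (ke xe30 ye34 ze5) (ke xe14 ye22 ze16) (ke xe22 ye57 ze55) (ke xe31 ye19 ze12) (ke xe27 ye15 ze40) (ke xe21 ye16 ze50) (ke xe31 ye19 ze13) (ke xe17 ye26 ze29) (ke xe31 ye19 ze14) (ke xe14 ye22 ze24) (ke xe14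 ye22 ze27) (ke xe14 ye22 ze28) (ke xe14 ye22 ze30) (ke xe16 ye43 ze11) (ke xe14 ye22 ze31) (ke xe29 ye37 ze17) (ke xe26 ye15 ze3) (ke xe28 ye50 ze25) (ke xe14 ye52 ze17) (ke xe22 ye10 ze52) (ke xe14 ye22 ze36) (ke xe28 ye14 ze33) (ke xe29 ye49 ze15) (ke xe20 ye37 ze20) (ke xe14 ye22 ze39) (ke xe31 ye19 ze17) (ke xe14 ye22 ze41) (ke xe30 ye17 ze25) (ke xe31 ye19 ze19) (ke xe31 ye19 ze20) (ke xe31 ye19 ze21) (ke xe31 ye19 ze22) (ke xe14 ye22 ze46) (ke xe31 ye19 ze23) (ke xe31 ye19 ze25) (ke xe14 ye22 ze47) (ke xe31 ye19 ze27)) (@D3.rec (fun _ => Pt) (ke xe14 ye22 ze50) (ke xe31 ye19 ze32) (ke xe27 ye0 ze41) (ke xe14 ye22 ze51) (ke xe24 ye25 ze23) (ke xe29 ye47 ze23) (ke xe14 ye22 ze54) (ke xe30 ye25 ze34) (ke xe14 ye22 ze55) (ke xe28 ye39 ze2) (ke xe24 ye25 ze34) (ke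 xe29 ye46 ze37) (ke xe25 ye53 ze8) (ke xe28 ye16 ze12) (ke xe29 ye24 ze24) (ke xe14 ye22 ze58) (ke xe24 ye8 ze34) (ke xe30 ye42 ze61) (ke xe31 ye14 ze9) (ke xe26 ye37 ze54) (ke xe14 ye23 ze0) (ke xe15 ye28 ze2) (ke xe14 ye23 ze1) (ke xe28 ye37 ze49) (ke xe29 ye47 ze28) (ke xe26 ye54 ze14) (ke xe29 ye13 ze1) (ke xe29 ye7 ze23) (ke xe22 ye4 ze35) (ke xe31 ye19 ze43) (ke xe25 ye38 ze13) (ke xe31 ye19 ze46) (ke xe14 ye23 ze7) (ke xe19 ye1 ze8) (ke xe29 ye26 ze29) (ke xe25 ye51 ze38) (ke xe19 ye36 ze7) (ke xe21 ye0 ze47) (ke xe28 ye48 ze55) (ke xe17 ye52 ze45) (ke xe19 ye3 ze11) (ke xe31 ye19 ze50) (ke xe28 ye48 ze50) (ke xe21 ye0 ze45) (ke xe14 ye23 ze21) (ke xe22 ye46 ze55) (ke xe31 ye19 ze52) (ke xe22 ye46 ze61) (ke xe14 ye23 ze23) (ke xe14 ye23 ze24) (ke xe14 ye23 ze26)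 (ke xe31 ye19 ze53) (ke xe31 ye14 ze16) (ke xe22 ye33 ze10) (ke xe17 ye18 ze29) (ke xe31 ye19 ze59) (ke xe14 ye23 ze30) (ke xe30 ye39 ze27) (ke xe14 ye23 ze31) (ke xe31 ye20 ze0) (ke xe31 ye20 ze2) (ke xe22 ye33 ze18)) (@D3.rec (fun _ => Pt) (ke xe31 ye20 ze6) (ke xe22 ye25 ze47) (ke xe14 ye23 ze34) (ke xe30 ye37 ze59) (ke xe14 ye23 ze35) (ke xe31 ye15 ze2) (ke xe14 ye23 ze37) (ke xe31 ye20 ze8) (ke xe24 ye19 ze53) (ke xe14 ye23 ze39) (ke xe22 ye35 ze27) (ke xe14 ye23 ze40) (ke xe22 ye33 ze20) (ke xe26 ye23 ze28) (ke xe31 ye20 ze12) (ke xe14 ye23 ze42) (ke xe14 ye23 ze45) (ke xe17 ye6 ze36) (ke xe14 ye23 ze48) (ke xe26 ye43 ze5) (ke xe18 ye37 ze44) (ke xe31 ye20 ze14) (ke xe29 ye1 ze16) (ke xe30 ye48 ze43) (ke xe31 ye20 ze20) (ke xe14 ye23 ze52) (ke xe20 ye23 ze18)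 (ke xe16 ye42 ze13) (ke xe20 ye2 ze47) (ke xe31 ye20 ze23) (ke xe14 ye23 ze54) (ke xe22 ye5 ze37) (ke xe28 ye56 ze49) (ke xe14 ye23 ze56) (ke xe27 ye23 ze6) (ke xe24 ye5 ze19) (ke xe31 ye20 ze28) (ke xe31 ye20 ze29) (ke xe14 ye23 ze58) (ke xe23 ye10 ze53) (ke xe26 ye43 ze12) (ke xe28 ye55 ze59) (ke xe31 ye20 ze32) (ke xe14 ye24 ze1) (ke xe14 ye24 ze2) (ke xe30 ye9 ze3) (ke xe28 ye47 ze26) (ke xe31 ye20 ze38) (ke xe14 ye24 ze3) (ke xe18 ye21 ze25) (ke xe16 ye58 ze12) (ke xe31 ye20 ze40) (ke xe23 ye54 ze14) (ke xe25 ye6 ze7) (ke xe14 ye24 ze6) (ke xe21 ye45 ze54) (ke xe27 ye3 ze26) (ke xe21 ye47 ze46) (ke xe25 ye56 ze45) (ke xe25 ye7 ze33) (ke xe14 ye24 ze8) (ke xe14 ye24 ze11)) (@D3.rec (fun _ => Pt) (ke xe25 ye47 ze44) (ke xe14 ye40 ze28) (ke xe22 ye46 ze53) (ke xe29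 ye44 ze30) (ke xe14 ye24 ze14) (ke xe31 ye20 ze46) (ke xe31 ye20 ze49) (ke xe14 ye24 ze16) (ke xe31 ye20 ze51) (ke xe14 ye24 ze17) (ke xe15 ye56 ze11) (ke xe25 ye25 ze42) (ke xe14 ye51 ze14) (ke xe25 ye46 ze11) (ke xe19 ye36 ze15) (ke xe14 ye24 ze20) (ke xe31 ye20 ze56) (ke xe25 ye34 ze55) (ke xe22 ye2 ze18) (ke xe31 ye20 ze58) (ke xe26 ye38 ze12) (ke xe16 ye40 ze41) (ke xe14 ye24 ze24) (ke xe21 ye1 ze17) (ke xe31 ye21 ze2) (ke xe22 ye4 ze24) (ke xe14 ye24 ze26) (ke xe25 ye8 ze54) (ke xe31 ye21 ze6) (ke xe14 ye24 ze27) (ke xe31 ye18 ze40) (ke xe16 ye39 ze53) (ke xe30 ye48 ze44) (ke xe14 ye24 ze31) (ke xe14 ye24 ze33) (ke xe30 ye53 ze54) (ke xe25 ye5 ze6) (ke xe25 ye8 ze22) (ke xe28 ye58 ze1) (ke xe27 ye42 ze30) (ke xe24 ye20 ze45) (ke xe24 ye49 ze26) (ke xe26 ye10 ze4)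 (ke xe31 ye21 ze11) (ke xe14 ye24 ze40) (ke xe22 ye20 ze32) (ke xe31 ye21 ze15) (ke xe14 ye24 ze42) (ke xe31 ye21 ze17) (ke xe14 ye24 ze44) (ke xe15 ye56 ze7) (ke xe14 ye24 ze45) (ke xe31 ye21 ze20) (ke xe25 ye53 ze4) (ke xe31 ye21 ze26) (ke xe31 ye21 ze28) (ke xe14 ye24 ze46) (ke xe31 ye21 ze33) (ke xe29 ye6 ze5) (ke xe14 ye24 ze48) (ke xe29 ye1 ze6) (ke xe31 ye21 ze36)) (@D3.rec (fun _ => Pt) (ke xe25 ye56 ze35) (ke xe25 ye55 ze31) (ke xe14 ye24 ze49) (ke xe31 ye21 ze40) (ke xe20 ye3 ze35) (ke xe29 ye1 ze7) (ke xe20 ye46 ze5) (ke xe27 ye8 ze43) (ke xe30 ye49 ze52) (ke xe30 ye35 ze47) (ke xe17 ye18 ze37) (ke xe26 ye40 ze58) (ke xe14 ye24 ze56) (ke xe16 ye13 ze36) (ke xe31 ye21 ze49) (ke xe28 ye35 ze10) (ke xe14 ye24 ze57) (ke xe31 ye21 ze53) (ke xe31 ye21 ze54) (ke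 xe31 ye17 ze20) (ke xe26 ye41 ze40) (ke xe26 ye42 ze16) (ke xe14 ye24 ze59) (ke xe25 ye49 ze54) (ke xe30 ye16 ze44) (ke xe19 ye31 ze6) (ke xe24 ye11 ze51) (ke xe26 ye16 ze3) (ke xe23 ye59 ze48) (ke xe25 ye20 ze33) (ke xe14 ye25 ze2) (ke xe19 ye29 ze21) (ke xe31 ye22 ze1) (ke xe25 ye21 ze19) (ke xe14 ye25 ze3) (ke xe31 ye22 ze5) (ke xe28 ye47 ze43) (ke xe31 ye17 ze16) (ke xe28 ye59 ze55) (ke xe31 ye9 ze46) (ke xe14 ye25 ze5) (ke xe28 ye58 ze9) (ke xe30 ye47 ze30) (ke xe30 ye55 ze29) (ke xe24 ye11 ze45) (ke xe30 ye51 ze15) (ke xe19 ye7 ze50) (ke xe14 ye25 ze10) (ke xe14 ye25 ze11) (ke xe28 ye48 ze37) (ke xe31 ye18 ze41) (ke xe14 ye53 ze13) (ke xe31 ye22 ze11) (ke xe31 ye17 ze22) (ke xe14 ye25 ze14) (ke xe31 ye22 ze12) (ke xe14 ye25 ze15) (ke xe23 ye12 ze32) (ke xe23 ye10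 ze61) (ke xe28 ye19 ze45) (ke xe31 ye0 ze30) (ke xe19 ye19 ze60)) (@D3.rec (fun _ => Pt) (ke xe14 ye25 ze17) (ke xe29 ye17 ze43) (ke xe30 ye19 ze36) (ke xe23 ye12 ze37) (ke xe23 ye12 ze40) (ke xe23 ye12 ze41) (ke xe27 ye44 ze35) (ke xe21 ye14 ze23) (ke xe30 ye21 ze39) (ke xe30 ye42 ze52) (ke xe31 ye22 ze14) (ke xe25 ye25 ze24) (ke xe22 ye9 ze25) (ke xe24 ye34 ze59) (ke xe25 ye52 ze12) (ke xe31 ye22 ze16) (ke xe22 ye16 ze3) (ke xe14 ye25 ze26) (ke xe24 ye20 ze22) (ke xe24 ye2 ze35) (ke xe14 ye29 ze60) (ke xe30 ye34 ze7) (ke xe30 ye50 ze36) (ke xe24 ye40 ze43) (ke xe14 ye29 ze58) (ke xe20 ye8 ze5) (ke xe20 ye32 ze45) (ke xe23 ye11 ze54) (ke xe14 ye25 ze36) (ke xe26 ye28 ze42) (ke xe14 ye25 ze37) (ke xe29 ye39 ze48) (ke xe14 ye25 ze39) (ke xe20 ye31 ze4) (ke xe14 ye25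 ze40) (ke xe26 ye56 ze30) (ke xe31 ye22 ze25) (ke xe14 ye25 ze45) (ke xe24 ye11 ze44) (ke xe22 ye30 ze54) (ke xe28 ye9 ze42) (ke xe15 ye59 ze17) (ke xe27 ye6 ze41) (ke xe20 ye50 ze30) (ke xe23 ye16 ze22) (ke xe14 ye25 ze47) (ke xe19 ye23 ze50) (ke xe14 ye25 ze52) (ke xe27 ye21 ze59) (ke xe28 ye38 ze35) (ke xe30 ye56 ze22) (ke xe31 ye22 ze30) (ke xe14 ye25 ze54) (ke xe24 ye25 ze33) (ke xe23 ye24 ze4) (ke xe31 ye17 ze56) (ke xe14 ye25 ze57) (ke xe20 ye17 ze34) (ke xe31 ye22 ze33) (ke xe14 ye25 ze59) (ke xe14 ye26 ze5) (ke xe26 ye22 ze18)) (@D3.rec (fun _ => Pt) (ke xe29 ye27 ze57) (ke xe14 ye26 ze2) (ke xe14 ye26 ze3) (ke xe31 ye22 ze38) (ke xe22 ye49 ze9) (ke xe18 ye57 ze19) (ke xe30 ye20 ze47) (ke xe28 ye56 ze16) (ke xe31 ye22 ze32) (ke xe21 ye16 ze11) (ke xe31 ye22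 ze42) (ke xe14 ye26 ze12) (ke xe14 ye26 ze10) (ke xe14 ye26 ze14) (ke xe28 ye13 ze11) (ke xe31 ye22 ze43) (ke xe14 ye26 ze15) (ke xe29 ye41 ze6) (ke xe17 ye18 ze22) (ke xe28 ye22 ze61) (ke xe30 ye53 ze53) (ke xe14 ye26 ze20) (ke xe14 ye26 ze21) (ke xe30 ye56 ze23) (ke xe26 ye43 ze27) (ke xe28 ye53 ze15) (ke xe31 ye22 ze48) (ke xe28 ye35 ze35) (ke xe22 ye49 ze29) (ke xe14 ye26 ze25) (ke xe31 ye22 ze52) (ke xe14 ye26 ze26) (ke xe31 ye22 ze54) (ke xe28 ye20 ze2) (ke xe31 ye22 ze56) (ke xe16 ye46 ze32) (ke xe28 ye56 ze21) (ke xe19 ye24 ze9) (ke xe29 ye13 ze45) (ke xe28 ye53 ze10) (ke xe17 ye20 ze51) (ke xe30 ye46 ze32) (ke xe30 ye22 ze55) (ke xe14 ye26 ze31) (ke xe28 ye23 ze57) (ke xe30 ye20 ze55) (ke xe25 ye59 ze23) (ke xe28 ye23 ze54) (ke xe14 ye44 ze12) (ke xe31 ye23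 ze0) (ke xe14 ye26 ze37) (ke xe30 ye36 ze11) (ke xe31 ye15 ze40) (ke xe14 ye26 ze38) (ke xe30 ye26 ze42) (ke xe14 ye35 ze28) (ke xe26 ye53 ze57) (ke xe28 ye53 ze32) (ke xe19 ye52 ze24) (ke xe31 ye23 ze12) (ke xe23 ye48 ze51) (ke xe14 ye26 ze40)) (@D3.rec (fun _ => Pt) (ke xe31 ye23 ze13) (ke xe28 ye36 ze25) (ke xe14 ye26 ze42) (ke xe14 ye26 ze43) (ke xe20 ye41 ze21) (ke xe29 ye26 ze19) (ke xe20 ye40 ze46) (ke xe22 ye2 ze41) (ke xe21 ye46 ze11) (ke xe22 ye9 ze46) (ke xe14 ye26 ze45) (ke xe21 ye47 ze53) (ke xe29 ye35 ze30) (ke xe14 ye26 ze47) (ke xe24 ye39 ze3) (ke xe31 ye23 ze14) (ke xe29 ye49 ze17) (ke xe14 ye26 ze49) (ke xe24 ye29 ze23) (ke xe18 ye57 ze33) (ke xe28 ye0 ze17) (ke xe28 ye34 ze48) (ke xe14 ye26 ze54) (ke xe17 ye59 ze11) (ke xe14 ye26 ze55) (ke xe29 ye54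 ze41) (ke xe16 ye31 ze17) (ke xe30 ye43 ze41) (ke xe14 ye26 ze56) (ke xe27 ye24 ze13) (ke xe23 ye50 ze8) (ke xe17 ye39 ze60) (ke xe16 ye1 ze15) (ke xe14 ye26 ze59) (ke xe22 ye53 ze33) (ke xe14 ye26 ze61) (ke xe14 ye27 ze2) (ke xe18 ye59 ze42) (ke xe14 ye27 ze4) (ke xe26 ye20 ze32) (ke xe14 ye27 ze5) (ke xe14 ye27 ze51) (ke xe30 ye38 ze56) (ke xe23 ye48 ze22) (ke xe30 ye57 ze6) (ke xe14 ye27 ze8) (ke xe31 ye17 ze30) (ke xe24 ye16 ze56) (ke xe14 ye27 ze10) (ke xe15 ye40 ze50) (ke xe31 ye23 ze26) (ke xe14 ye27 ze11) (ke xe14 ye27 ze61) (ke xe19 ye45 ze6) (ke xe28 ye57 ze6) (ke xe26 ye23 ze56) (ke xe19 ye49 ze13) (ke xe29 ye3 ze25) (ke xe14 ye27 ze16) (ke xe14 ye27 ze17) (ke xe28 ye36 ze26) (ke xe28 ye52 ze49)) (@D3.rec (fun _ => Pt) (ke xe26 ye49 ze5) (ke xe31 ye23 ze31)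 (ke xe14 ye27 ze20) (ke xe22 ye0 ze35) (ke xe22 ye9 ze52) (ke xe28 ye50 ze36) (ke xe21 ye4 ze56) (ke xe25 ye12 ze6) (ke xe18 ye4 ze23) (ke xe18 ye4 ze22) (ke xe22 ye31 ze5) (ke xe14 ye27 ze24) (ke xe31 ye6 ze46) (ke xe14 ye27 ze27) (ke xe14 ye27 ze28) (ke xe14 ye27 ze31) (ke xe16 ye31 ze19) (ke xe30 ye8 ze29) (ke xe29 ye31 ze6) (ke xe23 ye23 ze50) (ke xe24 ye13 ze32) (ke xe25 ye49 ze23) (ke xe31 ye17 ze3) (ke xe31 ye9 ze2) (ke xe14 ye27 ze36) (ke xe31 ye23 ze32) (ke xe14 ye44 ze4) (ke xe28 ye47 ze18) (ke xe23 ye0 ze36) (ke xe28 ye34 ze9) (ke xe24 ye14 ze4) (ke xe22 ye7 ze27) (ke xe30 ye53 ze7) (ke xe30 ye55 ze37) (ke xe24 ye1 ze16) (ke xe14 ye27 ze44) (ke xe30 ye12 ze1) (ke xe23 ye51 ze13) (ke xe14 ye27 ze47) (ke xe31 ye23 ze34) (ke xe31 ye23 ze35) (ke xe24 ye14 ze3)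 (ke xe14 ye27 ze50) (ke xe25 ye35 ze49) (ke xe14 ye27 ze54) (ke xe21 ye39 ze26) (ke xe25 ye35 ze53) (ke xe14 ye27 ze56) (ke xe14 ye27 ze57) (ke xe31 ye23 ze37) (ke xe30 ye26 ze50) (ke xe31 ye23 ze39) (ke xe14 ye27 ze59) (ke xe31 ye16 ze34) (ke xe14 ye27 ze60) (ke xe14 ye28 ze0) (ke xe28 ye29 ze4) (ke xe28 ye34 ze12) (ke xe14 ye28 ze2) (ke xe31 ye23 ze40) (ke xe14 ye28 ze3) (ke xe19 ye9 ze58)) (@D3.rec (fun _ => Pt) (ke xe28 ye56 ze5) (ke xe21 ye13 ze50) (ke xe14 ye28 ze5) (ke xe24 ye13 ze33) (ke xe24 ye9 ze7) (ke xe22 ye26 ze17) (ke xe14 ye28 ze6) (ke xe24 ye9 ze4) (ke xe19 ye9 ze56) (ke xe30 ye43 ze52) (ke xe31 ye23 ze45) (ke xe29 ye16 ze14) (ke xe14 ye28 ze8) (ke xe27 ye9 ze11) (ke xe19 ye31 ze25) (ke xe23 ye46 ze47) (ke xe20 ye29 ze46) (ke xe22 ye52 ze37) (ke xe31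 ye23 ze47) (ke xe14 ye28 ze12) (ke xe22 ye52 ze31) (ke xe16 ye28 ze32) (ke xe30 ye55 ze31) (ke xe27 ye58 ze39) (ke xe22 ye55 ze57) (ke xe23 ye4 ze10) (ke xe16 ye25 ze55) (ke xe31 ye1 ze6) (ke xe22 ye55 ze53) (ke xe22 ye13 ze21) (ke xe22 ye24 ze56) (ke xe25 ye32 ze36) (ke xe28 ye34 ze53) (ke xe17 ye3 ze40) (ke xe28 ye26 ze29) (ke xe14 ye28 ze31) (ke xe20 ye1 ze5) (ke xe31 ye23 ze49) (ke xe20 ye0 ze61) (ke xe14 ye28 ze32) (ke xe25 ye29 ze21) (ke xe22 ye30 ze57) (ke xe14 ye28 ze34) (ke xe29 ye53 ze18) (ke xe31 ye23 ze51) (ke xe15 ye44 ze13) (ke xe21 ye48 ze57) (ke xe14 ye28 ze39) (ke xe25 ye36 ze37) (ke xe26 ye1 ze23) (ke xe29 ye57 ze29) (ke xe14 ye38 ze5) (ke xe14 ye28 ze49) (ke xe19 ye13 ze2) (ke xe23 ye34 ze23) (ke xe14 ye28 ze46) (ke xe31 ye23 ze54) (ke xe14 ye28 ze48)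 (ke xe22 ye40 ze54) (ke xe29 ye33 ze34) (ke xe28 ye50 ze52) (ke xe31 ye23 ze33)) (@D3.rec (fun _ => Pt) (ke xe14 ye28 ze50) (ke xe14 ye28 ze52) (ke xe31 ye23 ze56) (ke xe24 ye29 ze11) (ke xe14 ye28 ze54) (ke xe26 ye45 ze16) (ke xe20 ye59 ze38) (ke xe16 ye12 ze37) (ke xe19 ye5 ze56) (ke xe31 ye23 ze58) (ke xe14 ye29 ze0) (ke xe31 ye23 ze59) (ke xe14 ye29 ze1) (ke xe14 ye29 ze6) (ke xe19 ye27 ze61) (ke xe14 ye29 ze8) (ke xe29 ye6 ze37) (ke xe14 ye29 ze9) (ke xe31 ye23 ze60) (ke xe28 ye11 ze25) (ke xe24 ye20 ze10) (ke xe29 ye59 ze48) (ke xe14 ye29 ze12) (ke xe14 ye29 ze13) (ke xe14 ye29 ze16) (ke xe25 ye52 ze11) (ke xe31 ye17 ze23) (ke xe28 ye49 ze10) (ke xe14 ye29 ze20) (ke xe14 ye29 ze21) (ke xe29 ye51 ze61) (ke xe31 ye23 ze61) (ke xe27 ye2 ze0) (ke xe24 ye50 ze54) (ke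 xe14 ye29 ze24) (ke xe14 ye29 ze46) (ke xe16 ye12 ze39) (ke xe16 ye12 ze40) (ke xe31 ye24 ze0) (ke xe14 ye29 ze34) (ke xe22 ye45 ze53) (ke xe31 ye24 ze1) (ke xe30 ye20 ze33) (ke xe14 ye29 ze36) (ke xe21 ye57 ze4) (ke xe31 ye24 ze2) (ke xe22 ye15 ze47) (ke xe14 ye29 ze38) (ke xe21 ye22 ze23) (ke xe14 ye29 ze40) (ke xe28 ye31 ze29) (ke xe22 ye41 ze56) (ke xe28 ye50 ze59) (ke xe29 ye13 ze30) (ke xe14 ye29 ze43) (ke xe20 ye59 ze36) (ke xe23 ye59 ze17) (ke xe14 ye29 ze50) (ke xe31 ye24 ze6) (ke xe31 ye24 ze7) (ke xe31 ye24 ze8) (ke xe22 ye29 ze51)) (@D3.rec (fun _ => Pt) (ke xe26 ye55 ze61) (ke xe31 ye24 ze13) (ke xe14 ye29 ze56) (ke xe23 ye13 ze22) (ke xe22 ye29 ze58) (ke xe17 ye23 ze2) (ke xe31 ye24 ze16) (ke xe14 ye30 ze0) (ke xe14 ye53 ze8) (ke xe23 ye11 ze8) (ke xe31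 ye24 ze18) (ke xe14 ye30 ze7) (ke xe30 ye56 ze0) (ke xe26 ye15 ze54) (ke xe31 ye24 ze19) (ke xe14 ye30 ze13) (ke xe24 ye24 ze41) (ke xe22 ye38 ze46) (ke xe25 ye20 ze12) (ke xe22 ye52 ze26) (ke xe14 ye30 ze15) (ke xe31 ye24 ze26) (ke xe15 ye17 ze54) (ke xe14 ye30 ze16) (ke xe15 ye16 ze46) (ke xe30 ye9 ze51) (ke xe15 ye21 ze43) (ke xe25 ye24 ze31) (ke xe15 ye20 ze21) (ke xe14 ye30 ze19) (ke xe26 ye43 ze4) (ke xe27 ye10 ze48) (ke xe20 ye44 ze45) (ke xe14 ye30 ze21) (ke xe26 ye51 ze24) (ke xe28 ye55 ze46) (ke xe22 ye51 ze12) (ke xe30 ye16 ze33) (ke xe14 ye30 ze23) (ke xe15 ye34 ze60) (ke xe19 ye38 ze21) (ke xe31 ye24 ze32) (ke xe20 ye5 ze7) (ke xe14 ye30 ze25) (ke xe24 ye5 ze38) (ke xe24 ye4 ze44) (ke xe31 ye24 ze22) (ke xe31 ye24 ze40) (ke xe31 ye24 ze43) (ke xe14 ye30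 ze27) (ke xe30 ye55 ze2) (ke xe24 ye4 ze26) (ke xe24 ye16 ze9) (ke xe14 ye30 ze29) (ke xe14 ye30 ze32) (ke xe31 ye24 ze48) (ke xe25 ye32 ze1) (ke xe31 ye24 ze49) (ke xe30 ye26 ze56) (ke xe14 ye30 ze34) (ke xe14 ye30 ze35) (ke xe29 ye9 ze26)) (@D3.rec (fun _ => Pt) (ke xe14 ye30 ze40) (ke xe31 ye24 ze50) (ke xe14 ye30 ze45) (ke xe19 ye3 ze53) (ke xe31 ye24 ze53) (ke xe14 ye30 ze43) (ke xe29 ye26 ze22) (ke xe31 ye24 ze51) (ke xe19 ye38 ze34) (ke xe31 ye24 ze58) (ke xe14 ye30 ze48) (ke xe31 ye24 ze60) (ke xe14 ye30 ze49) (ke xe21 ye14 ze44) (ke xe14 ye30 ze50) (ke xe28 ye47 ze10) (ke xe14 ye30 ze51) (ke xe29 ye27 ze42) (ke xe30 ye45 ze18) (ke xe27 ye55 ze5) (ke xe14 ye30 ze53) (ke xe19 ye22 ze43) (ke xe14 ye30 ze58) (ke xe31 ye25 ze5) (ke xe14 ye30 ze56) (ke xe29 ye49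 ze27) (ke xe14 ye30 ze57) (ke xe20 ye3 ze25) (ke xe25 ye26 ze17) (ke xe22 ye36 ze7) (ke xe31 ye24 ze15) (ke xe23 ye53 ze37) (ke xe14 ye30 ze61) (ke xe24 ye39 ze7) (ke xe27 ye51 ze37) (ke xe14 ye31 ze0) (ke xe20 ye24 ze35) (ke xe19 ye4 ze26) (ke xe31 ye25 ze7) (ke xe14 ye31 ze4) (ke xe28 ye16 ze55) (ke xe14 ye31 ze5) (ke xe14 ye31 ze27) (ke xe27 ye55 ze4) (ke xe14 ye31 ze7) (ke xe31 ye25 ze13) (ke xe16 ye47 ze3) (ke xe14 ye31 ze8) (ke xe14 ye31 ze9) (ke xe16 ye52 ze17) (ke xe30 ye45 ze29) (ke xe14 ye31 ze10) (ke xe27 ye23 ze57) (ke xe31 ye23 ze43) (ke xe26 ye26 ze15) (ke xe14 ye31 ze12) (ke xe14 ye31 ze13) (ke xe31 ye25 ze17) (ke xe14 ye31 ze15) (ke xe22 ye7 ze60) (ke xe30 ye49 ze21) (ke xe28 ye44 ze16)) (@D3.rec (fun _ => Pt) (ke xe14 ye31 ze17) (ke xe31 ye25 ze26)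 (ke xe30 ye47 ze38) (ke xe14 ye31 ze18) (ke xe19 ye8 ze10) (ke xe14 ye40 ze42) (ke xe31 ye24 ze61) (ke xe14 ye31 ze21) (ke xe31 ye25 ze29) (ke xe31 ye25 ze30) (ke xe14 ye31 ze22) (ke xe28 ye32 ze33) (ke xe31 ye25 ze8) (ke xe19 ye8 ze36) (ke xe14 ye31 ze25) (ke xe31 ye23 ze38) (ke xe31 ye25 ze35) (ke xe31 ye25 ze36) (ke xe14 ye31 ze26) (ke xe30 ye26 ze20) (ke xe31 ye16 ze35) (ke xe15 ye33 ze1) (ke xe31 ye25 ze40) (ke xe31 ye25 ze41) (ke xe31 ye25 ze43) (ke xe31 ye25 ze44) (ke xe31 ye25 ze45) (ke xe14 ye31 ze28) (ke xe28 ye54 ze4) (ke xe14 ye31 ze29) (ke xe28 ye32 ze35) (ke xe14 ye31 ze31) (ke xe24 ye8 ze20) (ke xe24 ye9 ze3) (ke xe17 ye24 ze10) (ke xe14 ye31 ze40) (ke xe14 ye31 ze59) (ke xe30 ye37 ze20) (ke xe14 ye36 ze55) (ke xe15 ye40 ze44) (ke xe14 ye31 ze45) (ke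 xe14 ye31 ze47) (ke xe29 ye12 ze33) (ke xe14 ye31 ze48) (ke xe31 ye25 ze49) (ke xe25 ye4 ze35) (ke xe14 ye31 ze50) (ke xe30 ye44 ze17) (ke xe25 ye43 ze12) (ke xe30 ye44 ze18) (ke xe19 ye8 ze31) (ke xe19 ye8 ze34) (ke xe26 ye51 ze45) (ke xe14 ye40 ze36) (ke xe23 ye34 ze25) (ke xe25 ye59 ze42) (ke xe30 ye28 ze33) (ke xe14 ye31 ze56) (ke xe31 ye25 ze55) (ke xe31 ye25 ze56) (ke xe23 ye57 ze48) (ke xe18 ye29 ze33)) (@D3.rec (fun _ => Pt) (ke xe14 ye31 ze58) (ke xe22 ye36 ze22) (ke xe29 ye49 ze20) (ke xe24 ye8 ze41) (ke xe24 ye8 ze30) (ke xe25 ye4 ze38) (ke xe31 ye17 ze36) (ke xe29 ye53 ze20) (ke xe29 ye7 ze5) (ke xe14 ye32 ze1) (ke xe31 ye25 ze58) (ke xe31 ye25 ze59) (ke xe15 ye46 ze53) (ke xe14 ye32 ze2) (ke xe14 ye32 ze4) (ke xe23 ye8 ze24) (ke xe25 ye11 ze41) (ke xe21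 ye14 ze1) (ke xe14 ye32 ze7) (ke xe14 ye32 ze11) (ke xe17 ye17 ze53) (ke xe31 ye25 ze60) (ke xe28 ye42 ze17) (ke xe19 ye13 ze23) (ke xe29 ye51 ze46) (ke xe22 ye22 ze28) (ke xe31 ye26 ze1) (ke xe31 ye22 ze44) (ke xe28 ye49 ze14) (ke xe14 ye32 ze16) (ke xe28 ye14 ze34) (ke xe28 ye21 ze53) (ke xe14 ye32 ze27) (ke xe15 ye51 ze31) (ke xe27 ye14 ze50) (ke xe31 ye26 ze5) (ke xe14 ye32 ze20) (ke xe14 ye32 ze22) (ke xe14 ye32 ze23) (ke xe31 ye26 ze7) (ke xe28 ye42 ze15) (ke xe31 ye26 ze12) (ke xe14 ye32 ze26) (ke xe31 ye26 ze14) (ke xe16 ye37 ze3) (ke xe31 ye26 ze18) (ke xe14 ye32 ze33) (ke xe30 ye5 ze19) (ke xe14 ye32 ze31) (ke xe22 ye15 ze19) (ke xe20 ye14 ze45) (ke xe22 ye23 ze19) (ke xe27 ye37 ze32) (ke xe14 ye32 ze34) (ke xe31 ye26 ze20) (ke xe14 ye32 ze35) (ke xe31 ye26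 ze22) (ke xe14 ye32 ze37) (ke xe28 ye58 ze25) (ke xe26 ye51 ze12) (ke xe14 ye32 ze52) (ke xe31 ye26 ze24)) (@D3.rec (fun _ => Pt) (ke xe26 ye33 ze53) (ke xe14 ye32 ze39) (ke xe14 ye34 ze12) (ke xe15 ye21 ze2) (ke xe15 ye21 ze8) (ke xe22 ye3 ze59) (ke xe14 ye32 ze44) (ke xe20 ye59 ze0) (ke xe14 ye32 ze45) (ke xe29 ye0 ze48) (ke xe14 ye34 ze31) (ke xe31 ye26 ze31) (ke xe14 ye32 ze47) (ke xe31 ye26 ze36) (ke xe14 ye32 ze48) (ke xe19 ye15 ze8) (ke xe14 ye34 ze22) (ke xe18 ye52 ze25) (ke xe14 ye32 ze50) (ke xe29 ye23 ze4) (ke xe19 ye11 ze60) (ke xe14 ye32 ze55) (ke xe28 ye21 ze43) (ke xe14 ye32 ze57) (ke xe18 ye44 ze39) (ke xe28 ye17 ze0) (ke xe18 ye51 ze44) (ke xe28 ye44 ze2) (ke xe14 ye32 ze61) (ke xe16 ye18 ze14) (ke xe23 ye51 ze54) (ke xe14 ye33 ze1) (ke xe15 ye11 ze53)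 (ke xe19 ye3 ze52) (ke xe17 ye4 ze14) (ke xe31 ye26 ze39) (ke xe14 ye33 ze19) (ke xe14 ye35 ze27) (ke xe17 ye19 ze52) (ke xe31 ye26 ze41) (ke xe17 ye19 ze41) (ke xe17 ye9 ze34) (ke xe15 ye15 ze34) (ke xe29 ye41 ze31) (ke xe14 ye33 ze25) (ke xe14 ye33 ze61) (ke xe28 ye34 ze14) (ke xe14 ye33 ze28) (ke xe30 ye56 ze56) (ke xe24 ye44 ze18) (ke xe31 ye26 ze47) (ke xe14 ye33 ze30) (ke xe14 ye33 ze32) (ke xe23 ye19 ze14) (ke xe14 ye33 ze34) (ke xe31 ye26 ze21) (ke xe17 ye52 ze41) (ke xe19 ye12 ze5) (ke xe29 ye16 ze30) (ke xe14 ye33 ze35) (ke xe28 ye58 ze57) (ke xe14 ye33 ze36)) (@D3.rec (fun _ => Pt) (ke xe14 ye34 ze30) (ke xe19 ye3 ze38) (ke xe20 ye49 ze56) (ke xe31 ye26 ze53) (ke xe29 ye0 ze60) (ke xe14 ye33 ze39) (ke xe29 ye10 ze2) (ke xe15 ye20 ze39) (ke xe14 ye34 ze40)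 (ke xe24 ye11 ze52) (ke xe26 ye42 ze28) (ke xe16 ye59 ze5) (ke xe14 ye33 ze42) (ke xe15 ye18 ze6) (ke xe28 ye16 ze0) (ke xe31 ye26 ze57) (ke xe14 ye33 ze48) (ke xe31 ye26 ze60) (ke xe15 ye21 ze13) (ke xe28 ye16 ze5) (ke xe14 ye33 ze49) (ke xe14 ye33 ze53) (ke xe22 ye26 ze6) (ke xe28 ye33 ze20) (ke xe31 ye10 ze5) (ke xe25 ye9 ze52) (ke xe14 ye33 ze55) (ke xe25 ye24 ze30) (ke xe14 ye33 ze57) (ke xe14 ye33 ze58) (ke xe30 ye16 ze51) (ke xe21 ye50 ze24) (ke xe31 ye27 ze3) (ke xe14 ye33 ze59) (ke xe21 ye31 ze48) (ke xe20 ye50 ze17) (ke xe14 ye34 ze0) (ke xe25 ye52 ze57) (ke xe22 ye36 ze58) (ke xe29 ye33 ze39) (ke xe14 ye34 ze4) (ke xe14 ye34 ze7) (ke xe19 ye44 ze53) (ke xe31 ye27 ze10) (ke xe15 ye21 ze20) (ke xe31 ye11 ze18) (ke xe31 ye27 ze13) (ke xe14 ye34 ze13) (ke xe25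 ye27 ze30) (ke xe21 ye1 ze45) (ke xe30 ye19 ze58) (ke xe14 ye34 ze14) (ke xe19 ye16 ze4) (ke xe31 ye26 ze33) (ke xe20 ye42 ze37) (ke xe29 ye41 ze12) (ke xe24 ye7 ze47) (ke xe31 ye27 ze18) (ke xe14 ye34 ze17) (ke xe14 ye34 ze18) (ke xe29 ye22 ze39) (ke xe31 ye20 ze54)) (@D3.rec (fun _ => Pt) (ke xe31 ye27 ze19) (ke xe28 ye57 ze54) (ke xe27 ye12 ze33) (ke xe25 ye15 ze12) (ke xe15 ye40 ze51) (ke xe14 ye34 ze21) (ke xe29 ye45 ze38) (ke xe14 ye34 ze23) (ke xe28 ye52 ze43) (ke xe31 ye27 ze28) (ke xe14 ye34 ze24) (ke xe19 ye12 ze45) (ke xe31 ye27 ze31) (ke xe27 ye15 ze38) (ke xe19 ye53 ze39) (ke xe26 ye42 ze7) (ke xe25 ye32 ze10) (ke xe25 ye30 ze46) (ke xe28 ye44 ze51) (ke xe30 ye15 ze5) (ke xe19 ye15 ze9) (ke xe30 ye38 ze38) (ke xe28 ye58 ze24) (ke xe22 ye13 ze46) (ke xe14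 ye34 ze33) (ke xe24 ye50 ze26) (ke xe26 ye41 ze47) (ke xe29 ye13 ze37) (ke xe29 ye57 ze3) (ke xe14 ye34 ze35) (ke xe14 ye34 ze36) (ke xe21 ye27 ze8) (ke xe18 ye52 ze34) (ke xe17 ye58 ze22) (ke xe27 ye56 ze56) (ke xe18 ye40 ze0) (ke xe31 ye27 ze44) (ke xe14 ye34 ze38) (ke xe29 ye0 ze23) (ke xe28 ye48 ze29) (ke xe26 ye47 ze10) (ke xe31 ye27 ze47) (ke xe14 ye34 ze39) (ke xe14 ye34 ze41) (ke xe25 ye23 ze1) (ke xe31 ye27 ze52) (ke xe31 ye27 ze48) (ke xe31 ye27 ze56) (ke xe31 ye27 ze57) (ke xe31 ye9 ze42) (ke xe25 ye15 ze10) (ke xe25 ye26 ze53) (ke xe31 ye9 ze41) (ke xe19 ye16 ze3) (ke xe14 ye34 ze45) (ke xe19 ye12 ze44) (ke xe22 ye24 ze15) (ke xe14 ye34 ze46) (ke xe28 ye21 ze56) (ke xe25 ye30 ze53) (ke xe24 ye40 ze22) (ke xe15 ye32 ze12)) (@D3.rec (fun _ => Pt) (ke xe22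 ye37 ze12) (ke xe26 ye25 ze33) (ke xe26 ye5 ze53) (ke xe15 ye9 ze34) (ke xe21 ye50 ze22) (ke xe30 ye9 ze22) (ke xe26 ye29 ze58) (ke xe18 ye45 ze37) (ke xe14 ye34 ze61) (ke xe22 ye50 ze6) (ke xe14 ye35 ze1) (ke xe14 ye53 ze49) (ke xe30 ye18 ze48) (ke xe17 ye8 ze33) (ke xe31 ye27 ze60) (ke xe30 ye25 ze36) (ke xe14 ye35 ze7) (ke xe23 ye51 ze4) (ke xe19 ye19 ze56) (ke xe28 ye21 ze1) (ke xe25 ye0 ze18) (ke xe19 ye21 ze39) (ke xe20 ye34 ze8) (ke xe25 ye46 ze52) (ke xe23 ye52 ze19) (ke xe31 ye13 ze4) (ke xe29 ye57 ze7) (ke xe14 ye35 ze17) (ke xe24 ye55 ze18) (ke xe22 ye18 ze43) (ke xe27 ye31 ze17) (ke xe17 ye39 ze23) (ke xe21 ye33 ze48) (ke xe31 ye25 ze11) (ke xe29 ye37 ze29) (ke xe31 ye28 ze1) (ke xe23 ye11 ze58) (ke xe19 ye11 ze35) (ke xe14 ye35 ze25) (ke xe31 ye0 ze21)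 (ke xe31 ye23 ze6) (ke xe31 ye28 ze3) (ke xe29 ye37 ze27) (ke xe14 ye35 ze30) (ke xe25 ye50 ze53) (ke xe14 ye35 ze31) (ke xe22 ye52 ze25) (ke xe29 ye4 ze42) (ke xe29 ye24 ze20) (ke xe23 ye53 ze59) (ke xe14 ye35 ze34) (ke xe29 ye20 ze15) (ke xe14 ye35 ze36) (ke xe22 ye7 ze1) (ke xe22 ye48 ze61) (ke xe14 ye35 ze41) (ke xe31 ye28 ze9) (ke xe31 ye28 ze10) (ke xe14 ye35 ze43) (ke xe30 ye50 ze61) (ke xe29 ye52 ze41) (ke xe14 ye35 ze45)) (@D3.rec (fun _ => Pt) (ke xe14 ye35 ze50) (ke xe27 ye17 ze1) (ke xe21 ye32 ze14) (ke xe31 ye28 ze12) (ke xe14 ye35 ze53) (ke xe17 ye49 ze54) (ke xe26 ye58 ze37) (ke xe17 ye49 ze12) (ke xe19 ye57 ze48) (ke xe14 ye35 ze59) (ke xe16 ye59 ze26) (ke xe17 ye49 ze45) (ke xe20 ye54 ze13) (ke xe30 ye0 ze4) (ke xe14 ye36 ze1) (ke xe30 ye14 ze28) (ke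 xe24 ye51 ze48) (ke xe24 ye21 ze54) (ke xe26 ye3 ze15) (ke xe31 ye28 ze21) (ke xe14 ye36 ze3) (ke xe26 ye5 ze29) (ke xe14 ye39 ze9) (ke xe26 ye23 ze38) (ke xe28 ye32 ze19) (ke xe28 ye46 ze20) (ke xe14 ye51 ze18) (ke xe26 ye57 ze8) (ke xe31 ye28 ze26) (ke xe14 ye36 ze10) (ke xe29 ye23 ze24) (ke xe30 ye11 ze3) (ke xe30 ye8 ze2) (ke xe31 ye28 ze32) (ke xe14 ye36 ze16) (ke xe27 ye12 ze4) (ke xe31 ye28 ze39) (ke xe23 ye58 ze18) (ke xe19 ye31 ze14) (ke xe31 ye28 ze41) (ke xe31 ye28 ze42) (ke xe19 ye28 ze55) (ke xe14 ye36 ze19) (ke xe28 ye47 ze30) (ke xe17 ye19 ze32) (ke xe21 ye36 ze23) (ke xe26 ye11 ze2) (ke xe23 ye47 ze1) (ke xe17 ye35 ze30) (ke xe26 ye36 ze39) (ke xe14 ye36 ze31) (ke xe21 ye53 ze19) (ke xe28 ye37 ze56) (ke xe24 ye2 ze8) (ke xe24 ye24 ze55) (ke xe31 ye28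 ze45) (ke xe14 ye36 ze33) (ke xe18 ye39 ze46) (ke xe19 ye14 ze28) (ke xe18 ye24 ze17) (ke xe26 ye18 ze24) (ke xe31 ye28 ze48)) (@D3.rec (fun _ => Pt) (ke xe14 ye36 ze37) (ke xe30 ye12 ze45) (ke xe21 ye8 ze16) (ke xe17 ye52 ze60) (ke xe15 ye20 ze45) (ke xe24 ye34 ze30) (ke xe14 ye48 ze12) (ke xe18 ye0 ze54) (ke xe31 ye28 ze49) (ke xe23 ye35 ze59) (ke xe24 ye10 ze20) (ke xe14 ye36 ze49) (ke xe14 ye48 ze30) (ke xe24 ye27 ze27) (ke xe14 ye38 ze48) (ke xe28 ye34 ze15) (ke xe31 ye22 ze19) (ke xe20 ye41 ze8) (ke xe17 ye17 ze51) (ke xe19 ye15 ze61) (ke xe22 ye7 ze32) (ke xe25 ye49 ze7) (ke xe24 ye5 ze18) (ke xe25 ye12 ze46) (ke xe14 ye37 ze6) (ke xe24 ye27 ze6) (ke xe31 ye7 ze33) (ke xe25 ye38 ze39) (ke xe30 ye56 ze36) (ke xe19 ye44 ze22) (ke xe22 ye38 ze48) (ke xe14 ye37 ze11)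 (ke xe23 ye55 ze60) (ke xe25 ye5 ze30) (ke xe25 ye12 ze30) (ke xe27 ye36 ze13) (ke xe25 ye23 ze39) (ke xe14 ye37 ze13) (ke xe19 ye10 ze42) (ke xe18 ye0 ze42) (ke xe17 ye41 ze55) (ke xe14 ye37 ze14) (ke xe27 ye2 ze58) (ke xe19 ye12 ze50) (ke xe26 ye51 ze13) (ke xe24 ye3 ze40) (ke xe14 ye39 ze13) (ke xe26 ye47 ze32) (ke xe24 ye38 ze1) (ke xe14 ye37 ze19) (ke xe19 ye26 ze19) (ke xe19 ye47 ze32) (ke xe14 ye37 ze20) (ke xe14 ye39 ze35) (ke xe19 ye3 ze21) (ke xe30 ye10 ze33) (ke xe15 ye42 ze39) (ke xe14 ye39 ze40) (ke xe14 ye39 ze41) (ke xe30 ye38 ze22) (ke xe19 ye3 ze39) (ke xe14 ye39 ze19)) (@D3.rec (fun _ => Pt) (ke xe14 ye45 ze48) (ke xe14 ye39 ze47) (ke xe31 ye29 ze0) (ke xe31 ye29 ze1) (ke xe14 ye37 ze33) (ke xe16 ye12 ze31) (ke xe14 ye37 ze34) (ke xe31 ye29 ze6) (ke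 xe16 ye4 ze60) (ke xe14 ye37 ze36) (ke xe14 ye37 ze37) (ke xe14 ye47 ze17) (ke xe28 ye58 ze38) (ke xe14 ye37 ze39) (ke xe25 ye37 ze40) (ke xe24 ye58 ze14) (ke xe14 ye37 ze40) (ke xe14 ye37 ze44) (ke xe14 ye37 ze45) (ke xe14 ye37 ze50) (ke xe30 ye53 ze3) (ke xe30 ye39 ze4) (ke xe30 ye50 ze15) (ke xe29 ye40 ze22) (ke xe30 ye42 ze55) (ke xe24 ye30 ze28) (ke xe14 ye40 ze30) (ke xe30 ye23 ze12) (ke xe14 ye37 ze55) (ke xe14 ye40 ze38) (ke xe24 ye22 ze40) (ke xe31 ye24 ze55) (ke xe29 ye40 ze27) (ke xe19 ye13 ze41) (ke xe14 ye37 ze57) (ke xe14 ye38 ze0) (ke xe23 ye57 ze7) (ke xe14 ye38 ze2) (ke xe30 ye43 ze57) (ke xe31 ye29 ze21) (ke xe14 ye38 ze4) (ke xe27 ye21 ze9) (ke xe17 ye23 ze6) (ke xe14 ye40 ze54) (ke xe30 ye11 ze53) (ke xe30 ye25 ze59) (ke xe20 ye45 ze23) (ke xe14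 ye38 ze8) (ke xe20 ye49 ze21) (ke xe14 ye41 ze8) (ke xe18 ye44 ze59) (ke xe31 ye29 ze27) (ke xe16 ye22 ze41) (ke xe14 ye38 ze10) (ke xe24 ye19 ze17) (ke xe28 ye53 ze53) (ke xe31 ye29 ze29) (ke xe17 ye51 ze58) (ke xe14 ye38 ze19) (ke xe21 ye8 ze20) (ke xe14 ye38 ze26) (ke xe22 ye28 ze11)) (@D3.rec (fun _ => Pt) (ke xe31 ye29 ze30) (ke xe30 ye33 ze10) (ke xe16 ye52 ze19) (ke xe14 ye38 ze25) (ke xe26 ye25 ze20) (ke xe28 ye49 ze39) (ke xe14 ye38 ze30) (ke xe30 ye49 ze7) (ke xe28 ye34 ze8) (ke xe31 ye5 ze49) (ke xe31 ye18 ze18) (ke xe14 ye48 ze27) (ke xe23 ye0 ze40) (ke xe16 ye9 ze60) (ke xe19 ye44 ze56) (ke xe29 ye16 ze57) (ke xe23 ye30 ze30) (ke xe14 ye38 ze35) (ke xe27 ye19 ze9) (ke xe31 ye28 ze50) (ke xe15 ye39 ze20) (ke xe19 ye47 ze28) (ke xe24 ye38 ze27) (ke xe31 ye29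 ze35) (ke xe14 ye38 ze38) (ke xe23 ye27 ze29) (ke xe24 ye27 ze29) (ke xe31 ye29 ze38) (ke xe14 ye38 ze40) (ke xe23 ye23 ze14) (ke xe24 ye38 ze18) (ke xe20 ye16 ze34) (ke xe14 ye38 ze42) (ke xe19 ye40 ze48) (ke xe14 ye38 ze43) (ke xe14 ye38 ze44) (ke xe27 ye43 ze41) (ke xe17 ye51 ze47) (ke xe14 ye38 ze49) (ke xe14 ye38 ze50) (ke xe24 ye21 ze30) (ke xe14 ye38 ze53) (ke xe27 ye12 ze51) (ke xe14 ye38 ze57) (ke xe14 ye38 ze59) (ke xe14 ye39 ze1) (ke xe28 ye46 ze18) (ke xe31 ye29 ze43) (ke xe14 ye39 ze3) (ke xe31 ye29 ze49) (ke xe25 ye23 ze42) (ke xe22 ye19 ze49) (ke xe28 ye7 ze4) (ke xe27 ye38 ze25) (ke xe21 ye16 ze41) (ke xe14 ye39 ze8) (ke xe31 ye28 ze22) (ke xe30 ye36 ze15) (ke xe30 ye49 ze15) (ke xe29 ye14 ze3) (ke xe16 ye6 ze24) (ke xe24 ye34 ze3)) (@D3.rec (fun _ =>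 Pt) (ke xe25 ye33 ze3) (ke xe16 ye6 ze20) (ke xe25 ye15 ze8) (ke xe29 ye1 ze3) (ke xe14 ye39 ze16) (ke xe31 ye29 ze53) (ke xe14 ye39 ze21) (ke xe25 ye15 ze18) (ke xe14 ye39 ze22) (ke xe23 ye56 ze14) (ke xe30 ye6 ze43) (ke xe30 ye47 ze14) (ke xe29 ye24 ze42) (ke xe19 ye12 ze8) (ke xe31 ye29 ze57) (ke xe31 ye29 ze59) (ke xe26 ye50 ze4) (ke xe27 ye13 ze28) (ke xe15 ye53 ze14) (ke xe19 ye14 ze31) (ke xe25 ye41 ze28) (ke xe31 ye28 ze57) (ke xe27 ye58 ze0) (ke xe19 ye15 ze13) (ke xe24 ye36 ze19) (ke xe30 ye38 ze21) (ke xe14 ye39 ze43) (ke xe29 ye29 ze56) (ke xe31 ye30 ze8) (ke xe14 ye39 ze44) (ke xe30 ye38 ze11) (ke xe20 ye55 ze58) (ke xe14 ye39 ze48) (ke xe26 ye36 ze4) (ke xe14 ye39 ze49) (ke xe16 ye41 ze53) (ke xe24 ye37 ze32) (ke xe23 ye37 ze7) (ke xe31 ye18 ze36) (ke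 xe14 ye45 ze29) (ke xe16 ye12 ze5) (ke xe30 ye14 ze2) (ke xe31 ye30 ze11) (ke xe14 ye39 ze54) (ke xe31 ye14 ze15) (ke xe30 ye46 ze39) (ke xe14 ye39 ze55) (ke xe31 ye29 ze12) (ke xe30 ye38 ze57) (ke xe18 ye39 ze54) (ke xe29 ye58 ze11) (ke xe30 ye38 ze59) (ke xe31 ye30 ze20) (ke xe20 ye59 ze3) (ke xe14 ye39 ze60) (ke xe25 ye22 ze4) (ke xe29 ye49 ze44) (ke xe19 ye56 ze44) (ke xe31 ye29 ze7) (ke xe25 ye22 ze5) (ke xe31 ye30 ze22) (ke xe26 ye41 ze56)) (@D3.rec (fun _ => Pt) (ke xe16 ye25 ze12) (ke xe21 ye29 ze12) (ke xe31 ye30 ze6) (ke xe14 ye40 ze3) (ke xe29 ye34 ze56) (ke xe29 ye42 ze22) (ke xe30 ye20 ze19) (ke xe14 ye40 ze5) (ke xe16 ye24 ze59) (ke xe31 ye29 ze9) (ke xe28 ye48 ze23) (ke xe26 ye19 ze1) (ke xe14 ye40 ze11) (ke xe25 ye15 ze15) (ke xe14 ye40 ze14) (ke xe22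 ye37 ze59) (ke xe14 ye40 ze16) (ke xe16 ye50 ze24) (ke xe21 ye41 ze18) (ke xe14 ye40 ze17) (ke xe30 ye50 ze18) (ke xe14 ye40 ze19) (ke xe22 ye38 ze18) (ke xe14 ye40 ze39) (ke xe31 ye15 ze1) (ke xe14 ye40 ze23) (ke xe31 ye30 ze25) (ke xe31 ye12 ze48) (ke xe14 ye40 ze24) (ke xe31 ye30 ze27) (ke xe14 ye40 ze25) (ke xe30 ye30 ze13) (ke xe31 ye30 ze29) (ke xe14 ye40 ze27) (ke xe28 ye50 ze23) (ke xe19 ye25 ze25) (ke xe22 ye32 ze53) (ke xe30 ye53 ze4) (ke xe30 ye45 ze16) (ke xe22 ye46 ze52) (ke xe14 ye40 ze29) (ke xe24 ye11 ze16) (ke xe19 ye13 ze3) (ke xe14 ye40 ze32) (ke xe30 ye50 ze16) (ke xe22 ye37 ze38) (ke xe30 ye11 ze47) (ke xe30 ye56 ze44) (ke xe31 ye30 ze39) (ke xe14 ye40 ze37) (ke xe29 ye38 ze12) (ke xe29 ye38 ze13) (ke xe30 ye37 ze41) (ke xe30 ye31 ze24) (ke xe31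 ye30 ze42) (ke xe24 ye19 ze54) (ke xe22 ye39 ze50) (ke xe31 ye25 ze24) (ke xe14 ye40 ze43) (ke xe31 ye30 ze45) (ke xe14 ye40 ze44) (ke xe31 ye30 ze50)) (@D3.rec (fun _ => Pt) (ke xe20 ye24 ze5) (ke xe31 ye12 ze41) (ke xe14 ye40 ze46) (ke xe30 ye11 ze43) (ke xe31 ye0 ze39) (ke xe20 ye24 ze18) (ke xe24 ye30 ze8) (ke xe20 ye33 ze43) (ke xe29 ye39 ze53) (ke xe30 ye29 ze31) (ke xe30 ye53 ze11) (ke xe14 ye40 ze53) (ke xe30 ye29 ze29) (ke xe31 ye30 ze56) (ke xe19 ye35 ze15) (ke xe14 ye40 ze55) (ke xe19 ye13 ze15) (ke xe31 ye12 ze45) (ke xe14 ye40 ze57) (ke xe30 ye50 ze20) (ke xe30 ye53 ze10) (ke xe31 ye29 ze25) (ke xe23 ye47 ze50) (ke xe24 ye1 ze4) (ke xe30 ye26 ze10) (ke xe17 ye1 ze20) (ke xe28 ye52 ze31) (ke xe21 ye13 ze17) (ke xe14 ye41 ze3) (ke xe14 ye41 ze4) (ke xe26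 ye9 ze13) (ke xe23 ye24 ze8) (ke xe21 ye40 ze27) (ke xe24 ye5 ze53) (ke xe24 ye1 ze10) (ke xe30 ye28 ze6) (ke xe18 ye47 ze39) (ke xe21 ye15 ze59) (ke xe14 ye41 ze9) (ke xe31 ye31 ze5) (ke xe16 ye32 ze42) (ke xe19 ye33 ze42) (ke xe31 ye31 ze6) (ke xe31 ye31 ze9) (ke xe14 ye41 ze12) (ke xe30 ye28 ze16) (ke xe31 ye31 ze11) (ke xe31 ye31 ze14) (ke xe14 ye41 ze15) (ke xe30 ye15 ze42) (ke xe14 ye41 ze16) (ke xe31 ye31 ze17) (ke xe30 ye16 ze12) (ke xe31 ye18 ze2) (ke xe14 ye41 ze20) (ke xe29 ye42 ze58) (ke xe14 ye41 ze21) (ke xe20 ye44 ze26) (ke xe22 ye24 ze16) (ke xe22 ye46 ze12) (ke xe31 ye31 ze19) (ke xe14 ye41 ze25)) (@D3.rec (fun _ => Pt) (ke xe31 ye31 ze21) (ke xe14 ye41 ze26) (ke xe30 ye38 ze15) (ke xe31 ye31 ze25) (ke xe25 ye10 ze29) (ke xe14 ye41 ze29) (ke xe31 ye7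 ze3) (ke xe14 ye41 ze30) (ke xe14 ye41 ze31) (ke xe19 ye57 ze15) (ke xe14 ye41 ze32) (ke xe31 ye31 ze33) (ke xe31 ye23 ze29) (ke xe25 ye14 ze1) (ke xe30 ye34 ze38) (ke xe30 ye30 ze8) (ke xe14 ye41 ze35) (ke xe23 ye51 ze10) (ke xe17 ye0 ze53) (ke xe31 ye31 ze35) (ke xe14 ye41 ze39) (ke xe28 ye40 ze9) (ke xe31 ye21 ze7) (ke xe31 ye24 ze57) (ke xe14 ye41 ze41) (ke xe27 ye19 ze7) (ke xe29 ye3 ze56) (ke xe31 ye31 ze41) (ke xe29 ye53 ze30) (ke xe19 ye3 ze2) (ke xe19 ye53 ze28) (ke xe28 ye39 ze33) (ke xe14 ye41 ze46) (ke xe30 ye30 ze17) (ke xe14 ye41 ze47) (ke xe31 ye19 ze0) (ke xe20 ye57 ze11) (ke xe28 ye39 ze43) (ke xe14 ye41 ze50) (ke xe31 ye19 ze2) (ke xe14 ye41 ze51) (ke xe29 ye45 ze47) (ke xe31 ye31 ze52) (ke xe16 ye48 ze10) (ke xe29 ye33 ze21) (ke xe28 ye44 ze34) (ke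 xe31 ye31 ze54) (ke xe14 ye41 ze53) (ke xe30 ye15 ze58) (ke xe19 ye5 ze3) (ke xe30 ye29 ze25) (ke xe14 ye41 ze55) (ke xe26 ye52 ze22) (ke xe17 ye18 ze49) (ke xe22 ye49 ze3) (ke xe18 ye48 ze57) (ke xe30 ye18 ze24) (ke xe31 ye31 ze59) (ke xe14 ye42 ze1) (ke xe19 ye17 ze20) (ke xe31 ye32 ze1) (ke xe14 ye42 ze2)) (@D3.rec (fun _ => Pt) (ke xe29 ye28 ze19) (ke xe17 ye36 ze9) (ke xe31 ye18 ze58) (ke xe14 ye51 ze55) (ke xe14 ye42 ze4) (ke xe23 ye40 ze13) (ke xe24 ye20 ze25) (ke xe30 ye56 ze43) (ke xe23 ye54 ze17) (ke xe14 ye42 ze6) (ke xe22 ye33 ze57) (ke xe14 ye42 ze7) (ke xe31 ye32 ze10) (ke xe22 ye21 ze35) (ke xe14 ye42 ze9) (ke xe26 ye1 ze59) (ke xe15 ye2 ze52) (ke xe31 ye32 ze13) (ke xe19 ye37 ze4) (ke xe14 ye42 ze10) (ke xe14 ye52 ze2) (ke xe19 ye20 ze15) (ke xe31 ye32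 ze17) (ke xe31 ye18 ze51) (ke xe26 ye1 ze58) (ke xe31 ye32 ze18) (ke xe14 ye42 ze13) (ke xe24 ye20 ze13) (ke xe25 ye34 ze31) (ke xe24 ye22 ze26) (ke xe21 ye21 ze3) (ke xe31 ye32 ze21) (ke xe22 ye56 ze29) (ke xe14 ye42 ze16) (ke xe14 ye47 ze30) (ke xe29 ye46 ze55) (ke xe14 ye42 ze18) (ke xe31 ye20 ze19) (ke xe14 ye42 ze19) (ke xe14 ye42 ze20) (ke xe23 ye1 ze15) (ke xe27 ye44 ze43) (ke xe31 ye32 ze25) (ke xe31 ye32 ze26) (ke xe27 ye5 ze59) (ke xe14 ye42 ze23) (ke xe31 ye9 ze26) (ke xe14 ye42 ze24) (ke xe24 ye28 ze3) (ke xe14 ye42 ze25) (ke xe31 ye32 ze31) (ke xe24 ye34 ze43) (ke xe19 ye9 ze21) (ke xe14 ye42 ze27) (ke xe19 ye3 ze7) (ke xe30 ye34 ze10) (ke xe31 ye14 ze13) (ke xe28 ye41 ze11) (ke xe14 ye42 ze36) (ke xe25 ye52 ze36) (ke xe31 ye32 ze34) (ke xe20 ye46 ze38))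 (@D3.rec (fun _ => Pt) (ke xe22 ye37 ze14) (ke xe20 ye5 ze50) (ke xe14 ye42 ze43) (ke xe24 ye27 ze48) (ke xe22 ye40 ze30) (ke xe18 ye48 ze3) (ke xe16 ye51 ze60) (ke xe22 ye46 ze20) (ke xe14 ye42 ze51) (ke xe30 ye52 ze57) (ke xe23 ye38 ze52) (ke xe14 ye42 ze53) (ke xe17 ye55 ze2) (ke xe18 ye58 ze32) (ke xe14 ye42 ze56) (ke xe16 ye15 ze43) (ke xe22 ye41 ze10) (ke xe24 ye40 ze39) (ke xe14 ye42 ze59) (ke xe23 ye21 ze53) (ke xe28 ye20 ze21) (ke xe14 ye42 ze60) (ke xe28 ye26 ze17) (ke xe16 ye35 ze35) (ke xe29 ye20 ze8) (ke xe23 ye21 ze54) (ke xe18 ye28 ze44) (ke xe14 ye43 ze4) (ke xe18 ye21 ze59) (ke xe29 ye29 ze18) (ke xe14 ye43 ze8) (ke xe22 ye48 ze45) (ke xe19 ye29 ze50) (ke xe25 ye46 ze56) (ke xe29 ye30 ze49) (ke xe27 ye8 ze7) (ke xe14 ye43 ze17) (ke xe26 ye38 ze30) (ke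 xe26 ye51 ze31) (ke xe19 ye17 ze31) (ke xe22 ye41 ze17) (ke xe27 ye10 ze55) (ke xe31 ye18 ze43) (ke xe21 ye10 ze25) (ke xe14 ye43 ze21) (ke xe19 ye3 ze3) (ke xe29 ye42 ze44) (ke xe20 ye26 ze60) (ke xe17 ye53 ze52) (ke xe21 ye45 ze8) (ke xe29 ye23 ze8) (ke xe26 ye44 ze58) (ke xe31 ye32 ze44) (ke xe28 ye34 ze4) (ke xe22 ye47 ze3) (ke xe14 ye43 ze26) (ke xe25 ye51 ze46) (ke xe22 ye57 ze49) (ke xe14 ye43 ze27) (ke xe28 ye41 ze50) (ke xe22 ye18 ze18) (ke xe25 ye23 ze52)) (@D3.rec (fun _ => Pt) (ke xe22 ye51 ze43) (ke xe14 ye43 ze32) (ke xe19 ye51 ze22) (ke xe31 ye32 ze47) (ke xe14 ye43 ze31) (ke xe15 ye0 ze14) (ke xe26 ye5 ze20) (ke xe31 ye32 ze46) (ke xe25 ye46 ze38) (ke xe16 ye21 ze15) (ke xe14 ye43 ze33) (ke xe24 ye10 ze3) (ke xe25 ye51 ze61) (ke xe22 ye38 ze19) (ke xe14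 ye43 ze35) (ke xe30 ye37 ze38) (ke xe30 ye52 ze26) (ke xe30 ye37 ze39) (ke xe26 ye3 ze38) (ke xe26 ye6 ze45) (ke xe23 ye19 ze54) (ke xe30 ye19 ze41) (ke xe31 ye17 ze43) (ke xe24 ye7 ze18) (ke xe23 ye56 ze15) (ke xe14 ye43 ze43) (ke xe28 ye11 ze38) (ke xe27 ye45 ze60) (ke xe30 ye44 ze49) (ke xe31 ye32 ze58) (ke xe14 ye43 ze47) (ke xe14 ye43 ze50) (ke xe31 ye6 ze55) (ke xe15 ye11 ze15) (ke xe18 ye27 ze29) (ke xe31 ye32 ze61) (ke xe14 ye43 ze54) (ke xe14 ye43 ze56) (ke xe31 ye3 ze48) (ke xe22 ye41 ze4) (ke xe14 ye43 ze58) (ke xe30 ye15 ze46) (ke xe29 ye45 ze22) (ke xe31 ye33 ze5) (ke xe14 ye43 ze60) (ke xe27 ye8 ze36) (ke xe31 ye33 ze10) (ke xe14 ye44 ze0) (ke xe30 ye15 ze21) (ke xe31 ye33 ze11) (ke xe14 ye44 ze1) (ke xe31 ye33 ze15) (ke xe14 ye44 ze2) (ke xe31 ye18 ze39)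 (ke xe30 ye30 ze10) (ke xe28 ye39 ze7) (ke xe24 ye29 ze61) (ke xe31 ye33 ze20) (ke xe23 ye49 ze9) (ke xe14 ye44 ze6) (ke xe30 ye42 ze56) (ke xe24 ye29 ze56)) (@D3.rec (fun _ => Pt) (ke xe31 ye33 ze23) (ke xe14 ye44 ze8) (ke xe28 ye35 ze3) (ke xe30 ye23 ze36) (ke xe14 ye44 ze9) (ke xe31 ye33 ze25) (ke xe31 ye13 ze10) (ke xe22 ye50 ze42) (ke xe24 ye25 ze6) (ke xe24 ye30 ze16) (ke xe28 ye48 ze47) (ke xe14 ye44 ze13) (ke xe31 ye33 ze27) (ke xe31 ye33 ze28) (ke xe14 ye44 ze14) (ke xe31 ye33 ze31) (ke xe24 ye30 ze9) (ke xe31 ye1 ze24) (ke xe17 ye53 ze55) (ke xe31 ye33 ze32) (ke xe31 ye33 ze33) (ke xe14 ye44 ze16) (ke xe26 ye22 ze21) (ke xe20 ye48 ze45) (ke xe31 ye33 ze39) (ke xe22 ye58 ze42) (ke xe14 ye44 ze18) (ke xe28 ye25 ze26) (ke xe24 ye21 ze25) (ke xe22 ye28 ze17) (ke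 xe20 ye22 ze26) (ke xe20 ye41 ze14) (ke xe19 ye34 ze8) (ke xe14 ye44 ze28) (ke xe15 ye6 ze31) (ke xe30 ye11 ze33) (ke xe30 ye31 ze27) (ke xe21 ye54 ze52) (ke xe27 ye59 ze28) (ke xe26 ye8 ze38) (ke xe23 ye2 ze55) (ke xe14 ye44 ze31) (ke xe25 ye27 ze4) (ke xe25 ye29 ze36) (ke xe24 ye43 ze60) (ke xe17 ye36 ze18) (ke xe14 ye44 ze35) (ke xe29 ye57 ze37) (ke xe29 ye56 ze31) (ke xe14 ye44 ze37) (ke xe29 ye59 ze42) (ke xe30 ye13 ze51) (ke xe28 ye1 ze29) (ke xe27 ye45 ze29) (ke xe14 ye44 ze41) (ke xe31 ye33 ze45) (ke xe14 ye44 ze47) (ke xe16 ye59 ze47) (ke xe27 ye23 ze39) (ke xe14 ye44 ze49) (ke xe16 ye13 ze16) (ke xe16 ye25 ze34)) (@D3.rec (fun _ => Pt) (ke xe30 ye32 ze38) (ke xe27 ye59 ze35) (ke xe21 ye15 ze15) (ke xe14 ye44 ze52) (ke xe23 ye3 ze44) (ke xe14 ye44 ze53) (ke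 xe14 ye44 ze56) (ke xe14 ye54 ze10) (ke xe19 ye17 ze32) (ke xe30 ye58 ze26) (ke xe14 ye44 ze60) (ke xe14 ye44 ze61) (ke xe29 ye29 ze57) (ke xe26 ye57 ze47) (ke xe23 ye52 ze23) (ke xe21 ye2 ze43) (ke xe20 ye31 ze38) (ke xe31 ye33 ze50) (ke xe14 ye45 ze2) (ke xe23 ye5 ze8) (ke xe14 ye45 ze3) (ke xe21 ye28 ze40) (ke xe28 ye1 ze59) (ke xe26 ye25 ze37) (ke xe14 ye45 ze12) (ke xe19 ye50 ze3) (ke xe14 ye45 ze13) (ke xe28 ye43 ze43) (ke xe14 ye45 ze18) (ke xe23 ye15 ze8) (ke xe23 ye15 ze60) (ke xe31 ye33 ze56) (ke xe30 ye59 ze18) (ke xe31 ye33 ze57) (ke xe14 ye45 ze20) (ke xe15 ye13 ze43) (ke xe26 ye57 ze40) (ke xe26 ye11 ze57) (ke xe23 ye18 ze38) (ke xe20 ye30 ze48) (ke xe31 ye34 ze4) (ke xe14 ye45 ze23) (ke xe18 ye41 ze3) (ke xe31 ye34 ze5) (ke xe14 ye45 ze25) (ke xe23 ye21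 ze39) (ke xe23 ye16 ze37) (ke xe14 ye45 ze26) (ke xe14 ye45 ze27) (ke xe30 ye7 ze25) (ke xe22 ye58 ze27) (ke xe30 ye34 ze4) (ke xe16 ye55 ze6) (ke xe16 ye11 ze31) (ke xe16 ye11 ze10) (ke xe14 ye45 ze41) (ke xe31 ye34 ze8) (ke xe14 ye45 ze42) (ke xe29 ye45 ze46) (ke xe14 ye45 ze43) (ke xe21 ye8 ze24) (ke xe26 ye37 ze26)) (@D3.rec (fun _ => Pt) (ke xe14 ye45 ze45) (ke xe19 ye54 ze51) (ke xe14 ye45 ze46) (ke xe26 ye59 ze44) (ke xe28 ye39 ze55) (ke xe19 ye5 ze54) (ke xe23 ye13 ze12) (ke xe14 ye45 ze52) (ke xe14 ye45 ze53) (ke xe24 ye42 ze2) (ke xe14 ye46 ze45) (ke xe14 ye47 ze16) (ke xe15 ye18 ze50) (ke xe25 ye2 ze41) (ke xe16 ye41 ze50) (ke xe14 ye47 ze49) (ke xe31 ye34 ze14) (ke xe14 ye46 ze1) (ke xe29 ye58 ze52) (ke xe14 ye46 ze4) (ke xe18 ye42 ze2) (ke xe29 ye15 ze23)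 (ke xe25 ye42 ze1) (ke xe16 ye2 ze38) (ke xe31 ye34 ze15) (ke xe14 ye46 ze11) (ke xe25 ye20 ze35) (ke xe14 ye46 ze12) (ke xe16 ye7 ze11) (ke xe14 ye46 ze15) (ke xe14 ye46 ze16) (ke xe14 ye46 ze18) (ke xe27 ye4 ze11) (ke xe18 ye29 ze50) (ke xe14 ye46 ze21) (ke xe14 ye46 ze23) (ke xe14 ye46 ze25) (ke xe31 ye34 ze16) (ke xe31 ye34 ze17) (ke xe25 ye49 ze59) (ke xe21 ye24 ze56) (ke xe23 ye24 ze29) (ke xe23 ye2 ze41) (ke xe26 ye12 ze36) (ke xe21 ye38 ze9) (ke xe20 ye28 ze1) (ke xe20 ye35 ze17) (ke xe17 ye12 ze35) (ke xe14 ye46 ze40) (ke xe20 ye6 ze54) (ke xe17 ye16 ze41) (ke xe15 ye3 ze5) (ke xe23 ye28 ze55) (ke xe30 ye1 ze59) (ke xe14 ye46 ze44) (ke xe29 ye1 ze1) (ke xe20 ye20 ze36) (ke xe14 ye46 ze46) (ke xe14 ye47 ze14) (ke xe31 ye34 ze18) (ke xe15 ye3 ze1) (ke xe17 ye52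 ze48)) (@D3.rec (fun _ => Pt) (ke xe30 ye11 ze28) (ke xe14 ye46 ze50) (ke xe27 ye38 ze17) (ke xe14 ye46 ze52) (ke xe21 ye59 ze52) (ke xe27 ye38 ze19) (ke xe14 ye46 ze53) (ke xe14 ye47 ze48) (ke xe22 ye5 ze1) (ke xe18 ye1 ze6) (ke xe14 ye47 ze54) (ke xe30 ye8 ze19) (ke xe31 ye34 ze20) (ke xe17 ye0 ze14) (ke xe30 ye8 ze33) (ke xe21 ye7 ze0) (ke xe14 ye46 ze60) (ke xe28 ye51 ze29) (ke xe14 ye47 ze1) (ke xe25 ye21 ze60) (ke xe31 ye34 ze23) (ke xe14 ye47 ze3) (ke xe15 ye0 ze55) (ke xe25 ye9 ze26) (ke xe31 ye34 ze28) (ke xe28 ye54 ze21) (ke xe14 ye47 ze8) (ke xe24 ye37 ze47) (ke xe19 ye5 ze53) (ke xe14 ye47 ze11) (ke xe25 ye19 ze25) (ke xe14 ye47 ze12) (ke xe31 ye19 ze10) (ke xe30 ye51 ze57) (ke xe19 ye54 ze15) (ke xe14 ye47 ze15) (ke xe29 ye48 ze36) (ke xe14 ye47 ze18) (ke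 xe25 ye49 ze47) (ke xe14 ye47 ze21) (ke xe25 ye10 ze32) (ke xe27 ye11 ze30) (ke xe25 ye48 ze15) (ke xe14 ye47 ze22) (ke xe29 ye16 ze55) (ke xe26 ye46 ze3) (ke xe14 ye47 ze26) (ke xe18 ye52 ze44) (ke xe31 ye8 ze41) (ke xe17 ye50 ze57) (ke xe31 ye34 ze37) (ke xe14 ye47 ze27) (ke xe21 ye20 ze10) (ke xe22 ye5 ze9) (ke xe17 ye33 ze46) (ke xe21 ye47 ze58) (ke xe30 ye4 ze57) (ke xe14 ye47 ze29) (ke xe21 ye47 ze17) (ke xe30 ye40 ze34) (ke xe31 ye11 ze34) (ke xe30 ye40 ze42)) (@D3.rec (fun _ => Pt) (ke xe25 ye11 ze9) (ke xe14 ye47 ze33) (ke xe29 ye13 ze2) (ke xe24 ye22 ze61) (ke xe31 ye34 ze42) (ke xe14 ye47 ze34) (ke xe16 ye50 ze17) (ke xe17 ye33 ze38) (ke xe27 ye37 ze24) (ke xe31 ye6 ze20) (ke xe25 ye2 ze31) (ke xe14 ye55 ze49) (ke xe14 ye47 ze40) (ke xe27 ye15 ze44) (ke xe31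 ye28 ze60) (ke xe16 ye9 ze3) (ke xe26 ye15 ze4) (ke xe29 ye58 ze36) (ke xe14 ye47 ze47) (ke xe31 ye18 ze34) (ke xe27 ye19 ze49) (ke xe14 ye47 ze56) (ke xe27 ye25 ze31) (ke xe25 ye37 ze42) (ke xe14 ye47 ze59) (ke xe14 ye48 ze3) (ke xe25 ye38 ze22) (ke xe24 ye42 ze25) (ke xe19 ye48 ze50) (ke xe14 ye48 ze9) (ke xe24 ye20 ze5) (ke xe22 ye16 ze14) (ke xe25 ye47 ze6) (ke xe17 ye51 ze16) (ke xe22 ye23 ze44) (ke xe28 ye33 ze36) (ke xe14 ye48 ze21) (ke xe28 ye34 ze1) (ke xe14 ye48 ze22) (ke xe22 ye56 ze45) (ke xe17 ye31 ze13) (ke xe22 ye20 ze41) (ke xe23 ye26 ze59) (ke xe24 ye27 ze51) (ke xe28 ye33 ze26) (ke xe14 ye48 ze34) (ke xe22 ye27 ze58) (ke xe25 ye24 ze13) (ke xe15 ye25 ze38) (ke xe27 ye43 ze46) (ke xe21 ye6 ze1) (ke xe30 ye4 ze54) (ke xe31 ye34 ze48) (ke xe29 ye57 ze1)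 (ke xe20 ye46 ze9) (ke xe14 ye48 ze44) (ke xe19 ye44 ze33) (ke xe15 ye15 ze13) (ke xe29 ye59 ze11) (ke xe24 ye5 ze13) (ke xe28 ye14 ze10) (ke xe16 ye1 ze27)) (@D3.rec (fun _ => Pt) (ke xe14 ye48 ze49) (ke xe30 ye36 ze47) (ke xe26 ye21 ze26) (ke xe23 ye7 ze53) (ke xe16 ye3 ze7) (ke xe14 ye48 ze53) (ke xe14 ye49 ze3) (ke xe26 ye9 ze27) (ke xe20 ye56 ze47) (ke xe14 ye48 ze59) (ke xe26 ye8 ze19) (ke xe14 ye48 ze60) (ke xe30 ye17 ze29) (ke xe14 ye48 ze61) (ke xe31 ye34 ze60) (ke xe14 ye49 ze1) (ke xe16 ye37 ze35) (ke xe19 ye54 ze59) (ke xe31 ye34 ze55) (ke xe26 ye36 ze30) (ke xe26 ye40 ze29) (ke xe14 ye49 ze4) (ke xe21 ye15 ze19) (ke xe14 ye51 ze5) (ke xe14 ye49 ze9) (ke xe25 ye8 ze40) (ke xe29 ye15 ze37) (ke xe31 ye35 ze7) (ke xe14 ye49 ze20) (ke xe30 ye46 ze49) (ke xe31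 ye35 ze11) (ke xe14 ye49 ze14) (ke xe29 ye58 ze45) (ke xe14 ye50 ze23) (ke xe14 ye50 ze57) (ke xe16 ye11 ze14) (ke xe26 ye40 ze17) (ke xe14 ye49 ze19) (ke xe31 ye35 ze8) (ke xe17 ye28 ze32) (ke xe14 ye49 ze21) (ke xe28 ye11 ze24) (ke xe29 ye9 ze46) (ke xe15 ye53 ze48) (ke xe29 ye59 ze61) (ke xe14 ye51 ze57) (ke xe14 ye49 ze25) (ke xe29 ye58 ze24) (ke xe14 ye51 ze45) (ke xe22 ye23 ze60) (ke xe23 ye19 ze16) (ke xe23 ye55 ze17) (ke xe31 ye11 ze26) (ke xe27 ye17 ze31) (ke xe14 ye49 ze34) (ke xe16 ye4 ze18) (ke xe15 ye35 ze24) (ke xe14 ye49 ze37) (ke xe17 ye10 ze23) (ke xe30 ye1 ze39) (ke xe25 ye47 ze10) (ke xe29 ye23 ze45)) (@D3.rec (fun _ => Pt) (ke xe16 ye7 ze26) (ke xe14 ye49 ze40) (ke xe25 ye39 ze41) (ke xe29 ye51 ze33) (ke xe29 ye0 ze14) (ke xe19 ye16 ze40) (ke xe31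 ye35 ze21) (ke xe14 ye49 ze48) (ke xe17 ye53 ze57) (ke xe26 ye12 ze54) (ke xe31 ye35 ze23) (ke xe14 ye49 ze52) (ke xe19 ye23 ze4) (ke xe22 ye46 ze10) (ke xe16 ye9 ze8) (ke xe21 ye22 ze39) (ke xe18 ye25 ze32) (ke xe14 ye49 ze59) (ke xe20 ye5 ze58) (ke xe24 ye23 ze24) (ke xe20 ye34 ze6) (ke xe27 ye22 ze61) (ke xe20 ye6 ze51) (ke xe20 ye27 ze48) (ke xe17 ye34 ze19) (ke xe17 ye54 ze56) (ke xe28 ye18 ze3) (ke xe19 ye48 ze54) (ke xe19 ye40 ze8) (ke xe14 ye50 ze9) (ke xe19 ye40 ze13) (ke xe16 ye44 ze53) (ke xe20 ye4 ze28) (ke xe21 ye57 ze11) (ke xe16 ye1 ze26) (ke xe28 ye44 ze58) (ke xe20 ye2 ze4) (ke xe21 ye29 ze39) (ke xe31 ye35 ze35) (ke xe14 ye50 ze22) (ke xe31 ye35 ze13) (ke xe24 ye38 ze28) (ke xe14 ye50 ze28) (ke xe29 ye7 ze25) (ke xe14 ye50 ze29) (ke xe28 ye12 ze35)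 (ke xe27 ye3 ze21) (ke xe16 ye30 ze22) (ke xe26 ye45 ze47) (ke xe17 ye32 ze36) (ke xe17 ye32 ze54) (ke xe14 ye50 ze37) (ke xe25 ye30 ze6) (ke xe14 ye50 ze40) (ke xe16 ye11 ze16) (ke xe31 ye35 ze40) (ke xe29 ye17 ze30) (ke xe29 ye47 ze52) (ke xe14 ye50 ze43) (ke xe19 ye57 ze6) (ke xe25 ye35 ze26) (ke xe14 ye50 ze44)) (@D3.rec (fun _ => Pt) (ke xe14 ye51 ze19) (ke xe27 ye20 ze5) (ke xe19 ye25 ze61) (ke xe23 ye8 ze17) (ke xe31 ye35 ze46) (ke xe14 ye50 ze47) (ke xe31 ye35 ze48) (ke xe14 ye50 ze50) (ke xe19 ye54 ze6) (ke xe31 ye35 ze37) (ke xe25 ye49 ze35) (ke xe31 ye35 ze54) (ke xe14 ye50 ze52) (ke xe24 ye51 ze57) (ke xe15 ye37 ze54) (ke xe25 ye49 ze34) (ke xe31 ye6 ze30) (ke xe29 ye6 ze49) (ke xe22 ye46 ze1) (ke xe14 ye50 ze56) (ke xe14 ye50 ze60) (ke xe22 ye58 ze17) (ke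 xe31 ye36 ze0) (ke xe15 ye20 ze50) (ke xe22 ye22 ze57) (ke xe30 ye9 ze20) (ke xe21 ye34 ze43) (ke xe14 ye51 ze4) (ke xe24 ye0 ze23) (ke xe25 ye50 ze39) (ke xe31 ye26 ze50) (ke xe14 ye51 ze8) (ke xe24 ye23 ze36) (ke xe25 ye36 ze44) (ke xe31 ye36 ze6) (ke xe14 ye51 ze11) (ke xe19 ye49 ze9) (ke xe31 ye17 ze28) (ke xe25 ye28 ze5) (ke xe26 ye44 ze22) (ke xe29 ye17 ze39) (ke xe22 ye10 ze48) (ke xe30 ye17 ze41) (ke xe26 ye44 ze51) (ke xe31 ye36 ze8) (ke xe14 ye51 ze24) (ke xe25 ye8 ze25) (ke xe24 ye33 ze27) (ke xe19 ye54 ze58) (ke xe15 ye44 ze58) (ke xe14 ye51 ze27) (ke xe15 ye38 ze21) (ke xe14 ye51 ze28) (ke xe25 ye37 ze9) (ke xe31 ye36 ze9) (ke xe22 ye21 ze19) (ke xe14 ye51 ze30) (ke xe14 ye51 ze32) (ke xe26 ye1 ze48) (ke xe14 ye51 ze33) (ke xe14 ye51 ze35) (ke xe31 ye36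 ze15)) (@D3.rec (fun _ => Pt) (ke xe14 ye51 ze36) (ke xe24 ye20 ze48) (ke xe29 ye59 ze45) (ke xe15 ye41 ze37) (ke xe25 ye12 ze15) (ke xe14 ye51 ze39) (ke xe21 ye57 ze51) (ke xe25 ye11 ze57) (ke xe25 ye50 ze14) (ke xe14 ye51 ze41) (ke xe31 ye35 ze17) (ke xe25 ye11 ze58) (ke xe31 ye36 ze23) (ke xe22 ye12 ze25) (ke xe14 ye51 ze44) (ke xe14 ye51 ze47) (ke xe14 ye51 ze48) (ke xe21 ye34 ze27) (ke xe24 ye22 ze30) (ke xe14 ye51 ze51) (ke xe15 ye55 ze46) (ke xe14 ye51 ze52) (ke xe20 ye59 ze10) (ke xe25 ye48 ze54) (ke xe31 ye36 ze29) (ke xe21 ye34 ze32) (ke xe14 ye51 ze54) (ke xe24 ye22 ze22) (ke xe24 ye36 ze41) (ke xe30 ye42 ze4) (ke xe23 ye46 ze22) (ke xe22 ye43 ze51) (ke xe21 ye54 ze18) (ke xe22 ye15 ze26) (ke xe26 ye30 ze41) (ke xe14 ye52 ze0) (ke xe27 ye37 ze25) (ke xe22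 ye26 ze0) (ke xe19 ye3 ze16) (ke xe14 ye52 ze3) (ke xe30 ye26 ze25) (ke xe29 ye36 ze49) (ke xe26 ye32 ze29) (ke xe22 ye15 ze28) (ke xe22 ye15 ze32) (ke xe14 ye52 ze11) (ke xe31 ye36 ze37) (ke xe19 ye37 ze36) (ke xe31 ye36 ze38) (ke xe31 ye36 ze39) (ke xe15 ye36 ze20) (ke xe14 ye52 ze15) (ke xe17 ye25 ze50) (ke xe20 ye43 ze21) (ke xe18 ye46 ze51) (ke xe14 ye52 ze16) (ke xe22 ye35 ze41) (ke xe28 ye4 ze52) (ke xe19 ye44 ze28) (ke xe30 ye51 ze28) (ke xe27 ye15 ze51) (ke xe14 ye52 ze21)) (@D3.rec (fun _ => Pt) (ke xe28 ye33 ze58) (ke xe14 ye52 ze22) (ke xe20 ye43 ze49) (ke xe24 ye7 ze14) (ke xe20 ye41 ze37) (ke xe30 ye50 ze21) (ke xe14 ye52 ze25) (ke xe24 ye12 ze33) (ke xe14 ye52 ze30) (ke xe23 ye9 ze48) (ke xe31 ye18 ze44) (ke xe17 ye51 ze20) (ke xe14 ye52 ze32) (ke xe26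 ye43 ze3) (ke xe14 ye52 ze38) (ke xe14 ye52 ze39) (ke xe29 ye26 ze56) (ke xe25 ye47 ze46) (ke xe22 ye22 ze0) (ke xe14 ye52 ze42) (ke xe29 ye39 ze4) (ke xe28 ye53 ze7) (ke xe22 ye22 ze5) (ke xe28 ye52 ze54) (ke xe21 ye22 ze45) (ke xe14 ye52 ze46) (ke xe30 ye30 ze5) (ke xe28 ye34 ze28) (ke xe25 ye24 ze43) (ke xe31 ye35 ze16) (ke xe25 ye27 ze54) (ke xe29 ye5 ze35) (ke xe22 ye20 ze46) (ke xe19 ye37 ze26) (ke xe22 ye20 ze58) (ke xe29 ye23 ze6) (ke xe22 ye20 ze53) (ke xe22 ye15 ze48) (ke xe14 ye52 ze60) (ke xe23 ye11 ze17) (ke xe14 ye52 ze61) (ke xe28 ye42 ze29) (ke xe14 ye53 ze5) (ke xe31 ye36 ze48) (ke xe14 ye53 ze6) (ke xe29 ye40 ze57) (ke xe31 ye10 ze7) (ke xe19 ye5 ze30) (ke xe31 ye36 ze51) (ke xe19 ye8 ze60) (ke xe23 ye28 ze2) (ke xe30 ye17 ze13) (ke xe28 ye57 ze56)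 (ke xe14 ye53 ze12) (ke xe30 ye17 ze49) (ke xe18 ye0 ze36) (ke xe25 ye20 ze49) (ke xe15 ye2 ze21) (ke xe31 ye36 ze56) (ke xe31 ye36 ze58) (ke xe25 ye24 ze38) (ke xe31 ye9 ze57)) (@D3.rec (fun _ => Pt) (ke xe22 ye12 ze11) (ke xe28 ye13 ze28) (ke xe31 ye37 ze1) (ke xe14 ye53 ze20) (ke xe30 ye10 ze29) (ke xe26 ye8 ze5) (ke xe22 ye28 ze5) (ke xe31 ye6 ze11) (ke xe31 ye6 ze12) (ke xe14 ye53 ze25) (ke xe27 ye18 ze21) (ke xe21 ye17 ze25) (ke xe17 ye59 ze1) (ke xe29 ye56 ze49) (ke xe21 ye17 ze20) (ke xe28 ye4 ze7) (ke xe14 ye53 ze27) (ke xe29 ye11 ze57) (ke xe25 ye58 ze51) (ke xe23 ye1 ze61) (ke xe14 ye53 ze28) (ke xe14 ye53 ze30) (ke xe24 ye17 ze60) (ke xe23 ye9 ze11) (ke xe14 ye59 ze24) (ke xe14 ye53 ze34) (ke xe16 ye23 ze16) (ke xe22 ye18 ze48) (ke xe28 ye22 ze47) (ke xe14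 ye53 ze37) (ke xe22 ye36 ze9) (ke xe19 ye4 ze11) (ke xe19 ye12 ze56) (ke xe28 ye3 ze40) (ke xe20 ye7 ze24) (ke xe28 ye46 ze7) (ke xe14 ye53 ze45) (ke xe31 ye37 ze14) (ke xe14 ye53 ze47) (ke xe24 ye28 ze17) (ke xe30 ye36 ze61) (ke xe14 ye53 ze51) (ke xe31 ye24 ze14) (ke xe24 ye5 ze23) (ke xe19 ye14 ze56) (ke xe18 ye3 ze52) (ke xe14 ye53 ze53) (ke xe14 ye53 ze54) (ke xe26 ye16 ze39) (ke xe14 ye53 ze55) (ke xe29 ye59 ze53) (ke xe14 ye53 ze57) (ke xe14 ye53 ze58) (ke xe16 ye4 ze35) (ke xe14 ye53 ze59) (ke xe26 ye1 ze35) (ke xe25 ye15 ze27) (ke xe22 ye18 ze54) (ke xe14 ye53 ze60) (ke xe16 ye50 ze48) (ke xe31 ye37 ze21) (ke xe23 ye34 ze53)) (@D3.rec (fun _ => Pt) (ke xe29 ye51 ze18) (ke xe27 ye27 ze24) (ke xe14 ye54 ze0) (ke xe18 ye1 ze34) (ke xe22 ye43 ze60) (ke xe14 ye54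 ze2) (ke xe14 ye54 ze3) (ke xe25 ye41 ze52) (ke xe25 ye34 ze45) (ke xe14 ye54 ze7) (ke xe22 ye45 ze33) (ke xe19 ye17 ze30) (ke xe28 ye57 ze37) (ke xe14 ye54 ze11) (ke xe17 ye27 ze30) (ke xe14 ye54 ze12) (ke xe25 ye41 ze55) (ke xe25 ye30 ze26) (ke xe25 ye29 ze11) (ke xe28 ye42 ze23) (ke xe28 ye41 ze61) (ke xe30 ye1 ze27) (ke xe23 ye23 ze16) (ke xe30 ye9 ze0) (ke xe14 ye54 ze19) (ke xe30 ye2 ze22) (ke xe18 ye0 ze59) (ke xe15 ye41 ze35) (ke xe14 ye54 ze21) (ke xe14 ye54 ze22) (ke xe14 ye54 ze25) (ke xe16 ye5 ze40) (ke xe16 ye5 ze46) (ke xe21 ye58 ze36) (ke xe14 ye54 ze27) (ke xe21 ye23 ze50) (ke xe14 ye54 ze28) (ke xe21 ye56 ze14) (ke xe27 ye29 ze48) (ke xe20 ye16 ze7) (ke xe25 ye41 ze59) (ke xe14 ye54 ze34) (ke xe21 ye55 ze60) (ke xe31 ye37 ze26) (ke xe30 ye47 ze50) (ke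 xe19 ye37 ze3) (ke xe14 ye54 ze37) (ke xe31 ye37 ze32) (ke xe30 ye4 ze42) (ke xe14 ye54 ze39) (ke xe18 ye29 ze43) (ke xe14 ye54 ze41) (ke xe14 ye54 ze44) (ke xe27 ye30 ze59) (ke xe25 ye15 ze38) (ke xe20 ye54 ze39) (ke xe25 ye42 ze55) (ke xe24 ye43 ze36) (ke xe27 ye47 ze46) (ke xe21 ye46 ze53) (ke xe20 ye16 ze5) (ke xe23 ye42 ze22)) (@D3.rec (fun _ => Pt) (ke xe27 ye3 ze47) (ke xe14 ye56 ze11) (ke xe24 ye32 ze9) (ke xe14 ye54 ze49) (ke xe31 ye37 ze35) (ke xe30 ye4 ze28) (ke xe14 ye54 ze51) (ke xe25 ye40 ze60) (ke xe25 ye34 ze53) (ke xe24 ye42 ze17) (ke xe27 ye3 ze48) (ke xe31 ye37 ze38) (ke xe31 ye37 ze41) (ke xe23 ye42 ze3) (ke xe24 ye43 ze51) (ke xe21 ye34 ze16) (ke xe27 ye23 ze28) (ke xe24 ye42 ze9) (ke xe24 ye43 ze55) (ke xe28 ye31 ze13) (ke xe14 ye54 ze60) (ke xe23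 ye30 ze36) (ke xe21 ye19 ze44) (ke xe21 ye6 ze12) (ke xe24 ye44 ze3) (ke xe24 ye34 ze27) (ke xe29 ye11 ze1) (ke xe31 ye37 ze45) (ke xe14 ye55 ze6) (ke xe24 ye42 ze39) (ke xe23 ye36 ze44) (ke xe15 ye43 ze1) (ke xe14 ye55 ze12) (ke xe30 ye0 ze36) (ke xe22 ye12 ze6) (ke xe30 ye42 ze21) (ke xe14 ye55 ze17) (ke xe30 ye4 ze49) (ke xe31 ye12 ze55) (ke xe24 ye42 ze29) (ke xe14 ye55 ze20) (ke xe19 ye57 ze20) (ke xe14 ye55 ze22) (ke xe21 ye50 ze10) (ke xe14 ye55 ze24) (ke xe25 ye39 ze32) (ke xe19 ye38 ze52) (ke xe30 ye8 ze39) (ke xe27 ye11 ze38) (ke xe14 ye55 ze26) (ke xe15 ye13 ze35) (ke xe23 ye26 ze48) (ke xe23 ye24 ze32) (ke xe14 ye55 ze29) (ke xe17 ye29 ze23) (ke xe25 ye39 ze48) (ke xe14 ye55 ze33) (ke xe17 ye45 ze15) (ke xe15 ye45 ze24) (ke xe24 ye52 ze53) (ke xe15 ye53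 ze37) (ke xe15 ye53 ze33)) (@D3.rec (fun _ => Pt) (ke xe14 ye55 ze36) (ke xe29 ye23 ze0) (ke xe27 ye27 ze28) (ke xe14 ye55 ze39) (ke xe31 ye37 ze56) (ke xe14 ye55 ze42) (ke xe29 ye50 ze51) (ke xe21 ye25 ze3) (ke xe14 ye55 ze43) (ke xe30 ye5 ze14) (ke xe16 ye16 ze22) (ke xe14 ye55 ze45) (ke xe25 ye15 ze17) (ke xe31 ye37 ze58) (ke xe19 ye16 ze51) (ke xe28 ye41 ze17) (ke xe23 ye34 ze51) (ke xe26 ye14 ze29) (ke xe14 ye55 ze47) (ke xe23 ye29 ze28) (ke xe16 ye4 ze4) (ke xe15 ye41 ze27) (ke xe14 ye55 ze50) (ke xe26 ye10 ze25) (ke xe17 ye42 ze37) (ke xe15 ye43 ze21) (ke xe27 ye11 ze5) (ke xe14 ye55 ze60) (ke xe19 ye57 ze18) (ke xe16 ye1 ze3) (ke xe30 ye16 ze48) (ke xe14 ye55 ze61) (ke xe20 ye54 ze53) (ke xe31 ye1 ze46) (ke xe27 ye28 ze1) (ke xe14 ye56 ze7) (ke xe24 ye41 ze57)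 (ke xe18 ye6 ze56) (ke xe31 ye1 ze29) (ke xe14 ye56 ze9) (ke xe28 ye47 ze6) (ke xe21 ye39 ze3) (ke xe28 ye9 ze22) (ke xe14 ye56 ze14) (ke xe30 ye31 ze44) (ke xe31 ye38 ze2) (ke xe23 ye54 ze59) (ke xe14 ye56 ze16) (ke xe16 ye5 ze51) (ke xe21 ye56 ze35) (ke xe14 ye56 ze19) (ke xe24 ye42 ze14) (ke xe25 ye28 ze3) (ke xe25 ye28 ze4) (ke xe23 ye30 ze34) (ke xe24 ye42 ze18) (ke xe16 ye17 ze36) (ke xe23 ye25 ze17) (ke xe26 ye3 ze1) (ke xe29 ye6 ze21) (ke xe24 ye30 ze44) (ke xe14 ye56 ze28)) (@D3.rec (fun _ => Pt) (ke xe31 ye38 ze6) (ke xe21 ye55 ze42) (ke xe14 ye56 ze29) (ke xe24 ye42 ze24) (ke xe29 ye54 ze19) (ke xe26 ye23 ze12) (ke xe22 ye31 ze17) (ke xe31 ye38 ze7) (ke xe28 ye3 ze1) (ke xe18 ye4 ze0) (ke xe18 ye8 ze8) (ke xe23 ye50 ze21) (ke xe14 ye56 ze49) (ke xe19 ye22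 ze54) (ke xe18 ye16 ze30) (ke xe22 ye15 ze15) (ke xe28 ye17 ze1) (ke xe26 ye12 ze45) (ke xe24 ye15 ze49) (ke xe14 ye56 ze51) (ke xe20 ye39 ze50) (ke xe23 ye13 ze21) (ke xe30 ye22 ze49) (ke xe27 ye9 ze51) (ke xe24 ye59 ze43) (ke xe29 ye24 ze14) (ke xe23 ye18 ze50) (ke xe14 ye56 ze58) (ke xe17 ye37 ze29) (ke xe19 ye14 ze54) (ke xe17 ye37 ze24) (ke xe14 ye56 ze60) (ke xe31 ye7 ze24) (ke xe16 ye18 ze38) (ke xe14 ye57 ze1) (ke xe31 ye38 ze11) (ke xe31 ye38 ze13) (ke xe27 ye26 ze19) (ke xe14 ye57 ze6) (ke xe17 ye17 ze48) (ke xe21 ye33 ze11) (ke xe14 ye57 ze9) (ke xe21 ye34 ze58) (ke xe27 ye45 ze31) (ke xe14 ye57 ze15) (ke xe23 ye37 ze52) (ke xe23 ye37 ze53) (ke xe31 ye38 ze14) (ke xe14 ye57 ze18) (ke xe14 ye57 ze19) (ke xe27 ye27 ze6) (ke xe15 ye34 ze45) (ke xe27 ye31 ze19)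 (ke xe16 ye15 ze15) (ke xe17 ye54 ze38) (ke xe25 ye0 ze3) (ke xe27 ye31 ze21) (ke xe27 ye48 ze59) (ke xe14 ye57 ze23) (ke xe31 ye38 ze19) (ke xe28 ye27 ze33) (ke xe27 ye24 ze53)) (@D3.rec (fun _ => Pt) (ke xe18 ye5 ze32) (ke xe14 ye57 ze28) (ke xe14 ye57 ze30) (ke xe14 ye57 ze34) (ke xe21 ye4 ze31) (ke xe18 ye10 ze47) (ke xe14 ye57 ze42) (ke xe18 ye10 ze46) (ke xe14 ye57 ze43) (ke xe31 ye38 ze22) (ke xe26 ye14 ze10) (ke xe28 ye3 ze30) (ke xe14 ye57 ze48) (ke xe21 ye23 ze25) (ke xe30 ye8 ze51) (ke xe14 ye57 ze49) (ke xe26 ye15 ze1) (ke xe14 ye57 ze50) (ke xe31 ye37 ze17) (ke xe26 ye2 ze10) (ke xe21 ye46 ze51) (ke xe14 ye57 ze51) (ke xe23 ye46 ze57) (ke xe21 ye4 ze32) (ke xe18 ye6 ze15) (ke xe28 ye4 ze16) (ke xe14 ye57 ze53) (ke xe25 ye43 ze2) (ke xe18 ye18 ze10) (ke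 xe14 ye57 ze57) (ke xe18 ye6 ze33) (ke xe25 ye0 ze40) (ke xe18 ye3 ze36) (ke xe23 ye34 ze57) (ke xe16 ye22 ze56) (ke xe27 ye48 ze42) (ke xe27 ye26 ze59) (ke xe18 ye16 ze38) (ke xe27 ye25 ze10) (ke xe14 ye58 ze1) (ke xe15 ye23 ze29) (ke xe31 ye38 ze33) (ke xe16 ye23 ze2) (ke xe15 ye18 ze40) (ke xe15 ye48 ze58) (ke xe15 ye18 ze59) (ke xe15 ye49 ze18) (ke xe14 ye58 ze12) (ke xe21 ye22 ze53) (ke xe14 ye58 ze14) (ke xe14 ye58 ze22) (ke xe31 ye38 ze36) (ke xe14 ye58 ze24) (ke xe31 ye6 ze10) (ke xe17 ye57 ze39) (ke xe14 ye58 ze25) (ke xe14 ye58 ze28) (ke xe24 ye59 ze51) (ke xe31 ye38 ze40) (ke xe14 ye58 ze30) (ke xe20 ye8 ze17) (ke xe14 ye58 ze31)) (@D3.rec (fun _ => Pt) (ke xe14 ye58 ze33) (ke xe14 ye58 ze35) (ke xe14 ye58 ze36) (ke xe14 ye58 ze38) (ke xe20 ye44 ze38) (ke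 xe28 ye17 ze19) (ke xe22 ye34 ze13) (ke xe19 ye29 ze9) (ke xe16 ye35 ze43) (ke xe31 ye38 ze47) (ke xe14 ye58 ze44) (ke xe28 ye27 ze2) (ke xe22 ye34 ze25) (ke xe14 ye58 ze47) (ke xe31 ye38 ze53) (ke xe14 ye58 ze51) (ke xe16 ye44 ze37) (ke xe14 ye58 ze52) (ke xe20 ye52 ze53) (ke xe18 ye51 ze48) (ke xe31 ye38 ze54) (ke xe28 ye30 ze59) (ke xe14 ye58 ze54) (ke xe26 ye32 ze30) (ke xe18 ye49 ze53) (ke xe14 ye58 ze57) (ke xe28 ye27 ze0) (ke xe28 ye23 ze0) (ke xe14 ye58 ze59) (ke xe14 ye58 ze60) (ke xe19 ye1 ze54) (ke xe16 ye22 ze46) (ke xe21 ye4 ze24) (ke xe14 ye59 ze0) (ke xe22 ye47 ze49) (ke xe20 ye29 ze36) (ke xe14 ye59 ze3) (ke xe19 ye0 ze10) (ke xe16 ye22 ze30) (ke xe22 ye35 ze13) (ke xe17 ye38 ze19) (ke xe16 ye18 ze25) (ke xe16 ye18 ze22) (ke xe18 ye6 ze24) (ke xe31 ye38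 ze61) (ke xe25 ye0 ze32) (ke xe19 ye6 ze31) (ke xe18 ye28 ze23) (ke xe26 ye19 ze5) (ke xe16 ye18 ze51) (ke xe31 ye32 ze57) (ke xe18 ye3 ze41) (ke xe22 ye18 ze56) (ke xe14 ye59 ze17) (ke xe23 ye43 ze31) (ke xe15 ye14 ze45) (ke xe23 ye9 ze18) (ke xe21 ye14 ze41) (ke xe14 ye59 ze27) (ke xe15 ye8 ze10) (ke xe22 ye49 ze33) (ke xe14 ye59 ze31)) (@D3.rec (fun _ => Pt) (ke xe14 ye59 ze36) (ke xe23 ye23 ze47) (ke xe20 ye31 ze13) (ke xe16 ye26 ze16) (ke xe27 ye14 ze29) (ke xe14 ye59 ze38) (ke xe15 ye22 ze47) (ke xe26 ye1 ze12) (ke xe15 ye7 ze49) (ke xe26 ye28 ze5) (ke xe30 ye53 ze30) (ke xe14 ye59 ze48) (ke xe14 ye59 ze52) (ke xe14 ye59 ze55) (ke xe16 ye12 ze49) (ke xe16 ye12 ze48) (ke xe30 ye59 ze36) (ke xe30 ye33 ze42) (ke xe19 ye18 ze43) (ke xe19 ye49 ze6) (ke xe31 ye39 ze4)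 (ke xe28 ye11 ze14) (ke xe15 ye0 ze1) (ke xe26 ye5 ze19) (ke xe18 ye1 ze30) (ke xe15 ye0 ze6) (ke xe18 ye43 ze13) (ke xe19 ye49 ze7) (ke xe29 ye28 ze2) (ke xe31 ye32 ze48) (ke xe15 ye0 ze13) (ke xe28 ye12 ze45) (ke xe16 ye21 ze34) (ke xe28 ye44 ze7) (ke xe22 ye38 ze52) (ke xe23 ye19 ze43) (ke xe20 ye11 ze52) (ke xe15 ye0 ze17) (ke xe31 ye16 ze8) (ke xe15 ye0 ze18) (ke xe23 ye15 ze44) (ke xe15 ye0 ze21) (ke xe30 ye39 ze60) (ke xe16 ye33 ze20) (ke xe27 ye46 ze8) (ke xe15 ye0 ze24) (ke xe16 ye17 ze20) (ke xe29 ye38 ze45) (ke xe16 ye16 ze18) (ke xe27 ye47 ze36) (ke xe18 ye28 ze30) (ke xe15 ye0 ze30) (ke xe22 ye51 ze20) (ke xe29 ye14 ze30) (ke xe29 ye14 ze31) (ke xe28 ye12 ze3) (ke xe31 ye39 ze12) (ke xe17 ye46 ze14) (ke xe31 ye15 ze8) (ke xe31 ye39 ze14) (ke xe15 ye0 ze35)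 (ke xe15 ye0 ze36)) (@D3.rec (fun _ => Pt) (ke xe26 ye31 ze46) (ke xe26 ye20 ze54) (ke xe31 ye39 ze17) (ke xe31 ye39 ze19) (ke xe15 ye0 ze38) (ke xe15 ye0 ze39) (ke xe27 ye51 ze0) (ke xe19 ye6 ze27) (ke xe15 ye0 ze41) (ke xe28 ye31 ze55) (ke xe26 ye32 ze3) (ke xe15 ye0 ze42) (ke xe26 ye31 ze18) (ke xe16 ye32 ze32) (ke xe21 ye10 ze42) (ke xe15 ye0 ze44) (ke xe30 ye45 ze30) (ke xe15 ye0 ze45) (ke xe31 ye39 ze29) (ke xe26 ye21 ze34) (ke xe28 ye4 ze39) (ke xe26 ye30 ze36) (ke xe26 ye31 ze44) (ke xe15 ye0 ze48) (ke xe20 ye11 ze1) (ke xe18 ye34 ze52) (ke xe26 ye29 ze16) (ke xe29 ye53 ze8) (ke xe27 ye52 ze56) (ke xe29 ye27 ze39) (ke xe26 ye29 ze14) (ke xe16 ye34 ze21) (ke xe31 ye39 ze36) (ke xe29 ye35 ze34) (ke xe29 ye29 ze10) (ke xe15 ye0 ze54) (ke xe31 ye34 ze24) (ke xe30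 ye19 ze20) (ke xe15 ye0 ze57) (ke xe15 ye0 ze58) (ke xe19 ye20 ze17) (ke xe31 ye39 ze41) (ke xe26 ye48 ze37) (ke xe31 ye39 ze44) (ke xe25 ye19 ze45) (ke xe15 ye0 ze60) (ke xe15 ye0 ze61) (ke xe15 ye1 ze3) (ke xe27 ye29 ze31) (ke xe25 ye19 ze17) (ke xe31 ye39 ze46) (ke xe15 ye2 ze13) (ke xe15 ye2 ze55) (ke xe15 ye2 ze58) (ke xe29 ye2 ze40) (ke xe31 ye39 ze49) (ke xe26 ye58 ze36) (ke xe31 ye20 ze47) (ke xe15 ye1 ze8) (ke xe31 ye39 ze47) (ke xe31 ye39 ze52) (ke xe28 ye45 ze20)) (@D3.rec (fun _ => Pt) (ke xe19 ye44 ze58) (ke xe15 ye1 ze10) (ke xe15 ye1 ze11) (ke xe31 ye39 ze56) (ke xe25 ye21 ze29) (ke xe28 ye31 ze41) (ke xe28 ye31 ze40) (ke xe31 ye39 ze57) (ke xe15 ye1 ze14) (ke xe19 ye5 ze18) (ke xe28 ye42 ze45) (ke xe29 ye57 ze28) (ke xe15 ye1 ze17) (ke xe28 ye31 ze33)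 (ke xe15 ye1 ze19) (ke xe31 ye28 ze11) (ke xe17 ye49 ze53) (ke xe31 ye40 ze0) (ke xe15 ye1 ze21) (ke xe15 ye1 ze22) (ke xe20 ye5 ze18) (ke xe31 ye40 ze3) (ke xe19 ye57 ze54) (ke xe19 ye59 ze33) (ke xe19 ye20 ze21) (ke xe27 ye12 ze6) (ke xe24 ye3 ze41) (ke xe31 ye40 ze10) (ke xe19 ye33 ze15) (ke xe15 ye1 ze27) (ke xe15 ye1 ze28) (ke xe31 ye40 ze15) (ke xe19 ye29 ze19) (ke xe25 ye41 ze37) (ke xe31 ye40 ze19) (ke xe31 ye40 ze20) (ke xe15 ye1 ze30) (ke xe15 ye1 ze31) (ke xe31 ye17 ze5) (ke xe31 ye40 ze26) (ke xe15 ye1 ze33) (ke xe24 ye51 ze10) (ke xe15 ye1 ze35) (ke xe25 ye19 ze59) (ke xe31 ye28 ze16) (ke xe24 ye49 ze55) (ke xe20 ye5 ze6) (ke xe16 ye58 ze30) (ke xe15 ye1 ze38) (ke xe31 ye40 ze36) (ke xe15 ye1 ze42) (ke xe26 ye46 ze58) (ke xe16 ye58 ze54) (ke xe15 ye1 ze41)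 (ke xe31 ye21 ze59) (ke xe24 ye49 ze45) (ke xe31 ye21 ze21) (ke xe31 ye24 ze35) (ke xe25 ye20 ze11) (ke xe31 ye40 ze39) (ke xe26 ye59 ze11) (ke xe30 ye52 ze52)) (@D3.rec (fun _ => Pt) (ke xe15 ye25 ze22) (ke xe31 ye40 ze41) (ke xe22 ye1 ze58) (ke xe31 ye24 ze20) (ke xe15 ye1 ze49) (ke xe28 ye19 ze42) (ke xe31 ye40 ze42) (ke xe15 ye1 ze52) (ke xe31 ye40 ze43) (ke xe15 ye1 ze53) (ke xe15 ye1 ze54) (ke xe24 ye50 ze31) (ke xe29 ye13 ze6) (ke xe15 ye1 ze55) (ke xe25 ye50 ze33) (ke xe25 ye19 ze5) (ke xe31 ye40 ze49) (ke xe19 ye59 ze19) (ke xe31 ye40 ze56) (ke xe31 ye40 ze58) (ke xe15 ye1 ze60) (ke xe20 ye26 ze40) (ke xe19 ye20 ze25) (ke xe31 ye41 ze1) (ke xe31 ye41 ze3) (ke xe19 ye57 ze49) (ke xe24 ye17 ze25) (ke xe31 ye24 ze31) (ke xe20 ye55 ze48) (ke xe31 ye41 ze5) (ke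 xe19 ye58 ze19) (ke xe24 ye50 ze11) (ke xe31 ye41 ze7) (ke xe15 ye2 ze2) (ke xe29 ye15 ze22) (ke xe31 ye41 ze10) (ke xe15 ye2 ze4) (ke xe25 ye20 ze45) (ke xe15 ye2 ze6) (ke xe31 ye41 ze11) (ke xe26 ye54 ze21) (ke xe19 ye20 ze26) (ke xe15 ye2 ze9) (ke xe31 ye40 ze21) (ke xe31 ye29 ze50) (ke xe25 ye21 ze21) (ke xe15 ye2 ze12) (ke xe17 ye51 ze1) (ke xe31 ye41 ze15) (ke xe15 ye2 ze16) (ke xe25 ye21 ze9) (ke xe27 ye12 ze9) (ke xe31 ye40 ze12) (ke xe31 ye32 ze14) (ke xe24 ye10 ze33) (ke xe15 ye2 ze22) (ke xe28 ye57 ze30) (ke xe31 ye41 ze18) (ke xe31 ye41 ze16) (ke xe28 ye45 ze11) (ke xe29 ye15 ze10) (ke xe19 ye55 ze29)) (@D3.rec (fun _ => Pt) (ke xe15 ye2 ze27) (ke xe25 ye19 ze48) (ke xe31 ye41 ze20) (ke xe19 ye44 ze15) (ke xe15 ye2 ze25) (ke xe25 ye20 ze59) (ke xe28 ye55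 ze16) (ke xe19 ye32 ze58) (ke xe20 ye53 ze37) (ke xe20 ye37 ze45) (ke xe24 ye49 ze41) (ke xe15 ye2 ze29) (ke xe25 ye21 ze5) (ke xe30 ye52 ze53) (ke xe25 ye55 ze1) (ke xe25 ye11 ze8) (ke xe15 ye2 ze33) (ke xe15 ye2 ze35) (ke xe20 ye55 ze51) (ke xe19 ye38 ze18) (ke xe31 ye41 ze22) (ke xe25 ye44 ze3) (ke xe15 ye2 ze36) (ke xe31 ye41 ze26) (ke xe31 ye27 ze38) (ke xe31 ye5 ze55) (ke xe15 ye2 ze39) (ke xe25 ye11 ze12) (ke xe18 ye33 ze34) (ke xe18 ye33 ze33) (ke xe31 ye41 ze28) (ke xe23 ye58 ze19) (ke xe15 ye2 ze42) (ke xe31 ye41 ze31) (ke xe15 ye2 ze43) (ke xe31 ye41 ze36) (ke xe29 ye43 ze34) (ke xe27 ye37 ze20) (ke xe15 ye2 ze44) (ke xe31 ye41 ze39) (ke xe25 ye21 ze37) (ke xe31 ye41 ze8) (ke xe26 ye37 ze43) (ke xe19 ye55 ze22) (ke xe15 ye2 ze47) (ke xe26 ye3 ze20) (ke xe19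 ye32 ze47) (ke xe27 ye36 ze53) (ke xe24 ye19 ze16) (ke xe25 ye21 ze52) (ke xe15 ye2 ze49) (ke xe21 ye30 ze21) (ke xe29 ye17 ze57) (ke xe28 ye19 ze14) (ke xe15 ye2 ze57) (ke xe17 ye49 ze49) (ke xe22 ye5 ze33) (ke xe24 ye37 ze13) (ke xe15 ye2 ze59) (ke xe15 ye41 ze57) (ke xe29 ye36 ze3) (ke xe15 ye2 ze61)) (@D3.rec (fun _ => Pt) (ke xe29 ye32 ze45) (ke xe31 ye41 ze51) (ke xe19 ye57 ze59) (ke xe26 ye2 ze2) (ke xe15 ye41 ze31) (ke xe27 ye22 ze19) (ke xe31 ye41 ze34) (ke xe15 ye3 ze3) (ke xe15 ye3 ze4) (ke xe31 ye36 ze31) (ke xe15 ye3 ze9) (ke xe31 ye41 ze54) (ke xe28 ye14 ze20) (ke xe15 ye3 ze7) (ke xe31 ye41 ze55) (ke xe17 ye32 ze21) (ke xe15 ye3 ze8) (ke xe25 ye23 ze34) (ke xe15 ye3 ze10) (ke xe26 ye54 ze17) (ke xe15 ye3 ze11) (ke xe23 ye21 ze8) (ke xe30 ye13 ze26) (ke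 xe15 ye3 ze17) (ke xe17 ye53 ze4) (ke xe31 ye41 ze57) (ke xe30 ye51 ze47) (ke xe15 ye3 ze16) (ke xe18 ye6 ze27) (ke xe23 ye8 ze34) (ke xe15 ye3 ze22) (ke xe31 ye41 ze59) (ke xe27 ye4 ze25) (ke xe15 ye3 ze23) (ke xe17 ye52 ze53) (ke xe15 ye3 ze27) (ke xe16 ye51 ze43) (ke xe15 ye27 ze57) (ke xe19 ye6 ze15) (ke xe25 ye19 ze9) (ke xe15 ye3 ze29) (ke xe29 ye57 ze24) (ke xe31 ye41 ze60) (ke xe28 ye32 ze43) (ke xe15 ye3 ze30) (ke xe15 ye3 ze32) (ke xe16 ye51 ze44) (ke xe29 ye8 ze58) (ke xe15 ye3 ze37) (ke xe15 ye3 ze38) (ke xe25 ye22 ze43) (ke xe28 ye45 ze7) (ke xe20 ye24 ze37) (ke xe24 ye42 ze59) (ke xe15 ye3 ze44) (ke xe15 ye3 ze48) (ke xe15 ye3 ze49) (ke xe15 ye4 ze22) (ke xe15 ye4 ze12) (ke xe15 ye3 ze51) (ke xe28 ye39 ze12) (ke xe15 ye3 ze52)) (@D3.rec (fun _ => Pt) (ke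 xe31 ye7 ze46) (ke xe15 ye3 ze54) (ke xe19 ye58 ze45) (ke xe24 ye56 ze44) (ke xe31 ye42 ze3) (ke xe20 ye6 ze33) (ke xe30 ye24 ze54) (ke xe15 ye4 ze31) (ke xe27 ye42 ze14) (ke xe29 ye27 ze47) (ke xe19 ye26 ze41) (ke xe15 ye4 ze11) (ke xe30 ye5 ze34) (ke xe17 ye22 ze20) (ke xe20 ye0 ze56) (ke xe22 ye38 ze36) (ke xe26 ye52 ze13) (ke xe15 ye4 ze27) (ke xe23 ye42 ze27) (ke xe20 ye1 ze20) (ke xe28 ye1 ze20) (ke xe28 ye35 ze31) (ke xe20 ye7 ze55) (ke xe15 ye4 ze43) (ke xe15 ye4 ze49) (ke xe31 ye42 ze5) (ke xe15 ye4 ze51) (ke xe15 ye4 ze52) (ke xe26 ye43 ze46) (ke xe17 ye33 ze4) (ke xe23 ye52 ze22) (ke xe15 ye4 ze59) (ke xe19 ye27 ze24) (ke xe19 ye33 ze41) (ke xe20 ye42 ze39) (ke xe17 ye48 ze22) (ke xe17 ye34 ze35) (ke xe17 ye13 ze3) (ke xe20 ye11 ze32) (ke xe27 ye36 ze8) (ke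 xe15 ye5 ze33) (ke xe19 ye20 ze4) (ke xe20 ye38 ze27) (ke xe16 ye51 ze45) (ke xe21 ye51 ze58) (ke xe30 ye3 ze9) (ke xe31 ye42 ze8) (ke xe18 ye35 ze25) (ke xe27 ye46 ze22) (ke xe15 ye5 ze46) (ke xe18 ye35 ze17) (ke xe27 ye54 ze48) (ke xe30 ye3 ze10) (ke xe31 ye42 ze16) (ke xe15 ye5 ze48) (ke xe18 ye15 ze53) (ke xe18 ye30 ze31) (ke xe15 ye5 ze51) (ke xe19 ye1 ze26) (ke xe22 ye41 ze45) (ke xe23 ye51 ze28) (ke xe31 ye42 ze21)) (@D3.rec (fun _ => Pt) (ke xe15 ye5 ze53) (ke xe23 ye51 ze45) (ke xe31 ye42 ze23) (ke xe15 ye5 ze54) (ke xe18 ye27 ze33) (ke xe17 ye46 ze44) (ke xe15 ye5 ze59) (ke xe26 ye17 ze51) (ke xe31 ye39 ze18) (ke xe15 ye6 ze4) (ke xe21 ye14 ze58) (ke xe16 ye25 ze6) (ke xe15 ye6 ze8) (ke xe24 ye57 ze48) (ke xe15 ye6 ze10) (ke xe15 ye6 ze12) (ke xe25 ye10 ze53)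 (ke xe15 ye6 ze13) (ke xe28 ye11 ze51) (ke xe18 ye18 ze9) (ke xe29 ye9 ze40) (ke xe15 ye6 ze16) (ke xe28 ye12 ze51) (ke xe17 ye54 ze46) (ke xe26 ye4 ze26) (ke xe16 ye7 ze44) (ke xe29 ye25 ze14) (ke xe15 ye6 ze20) (ke xe26 ye21 ze60) (ke xe31 ye42 ze33) (ke xe26 ye8 ze60) (ke xe29 ye21 ze3) (ke xe27 ye32 ze59) (ke xe31 ye42 ze37) (ke xe15 ye6 ze25) (ke xe28 ye2 ze22) (ke xe26 ye18 ze55) (ke xe15 ye23 ze36) (ke xe28 ye51 ze1) (ke xe30 ye49 ze53) (ke xe15 ye6 ze32) (ke xe23 ye23 ze59) (ke xe15 ye6 ze34) (ke xe15 ye6 ze37) (ke xe17 ye43 ze31) (ke xe27 ye31 ze59) (ke xe15 ye25 ze57) (ke xe16 ye10 ze20) (ke xe26 ye2 ze50) (ke xe27 ye39 ze45) (ke xe15 ye6 ze47) (ke xe25 ye58 ze39) (ke xe22 ye11 ze17) (ke xe30 ye3 ze29) (ke xe31 ye14 ze47) (ke xe27 ye54 ze2) (ke xe31 ye42 ze42)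 (ke xe25 ye4 ze1) (ke xe27 ye25 ze12) (ke xe29 ye57 ze49) (ke xe15 ye9 ze43) (ke xe15 ye6 ze53)) (@D3.rec (fun _ => Pt) (ke xe27 ye27 ze50) (ke xe15 ye6 ze54) (ke xe31 ye42 ze45) (ke xe15 ye6 ze55) (ke xe31 ye42 ze47) (ke xe15 ye6 ze57) (ke xe30 ye35 ze49) (ke xe18 ye28 ze60) (ke xe31 ye42 ze52) (ke xe15 ye6 ze59) (ke xe28 ye7 ze40) (ke xe28 ye3 ze16) (ke xe26 ye15 ze19) (ke xe15 ye6 ze60) (ke xe30 ye20 ze18) (ke xe26 ye13 ze50) (ke xe18 ye28 ze26) (ke xe27 ye28 ze8) (ke xe24 ye18 ze28) (ke xe25 ye45 ze23) (ke xe15 ye7 ze1) (ke xe26 ye15 ze18) (ke xe15 ye7 ze5) (ke xe28 ye25 ze53) (ke xe17 ye41 ze7) (ke xe23 ye43 ze24) (ke xe31 ye6 ze54) (ke xe18 ye45 ze24) (ke xe17 ye42 ze44) (ke xe15 ye7 ze8) (ke xe31 ye43 ze2) (ke xe27 ye40 ze19) (ke xe23 ye4 ze40) (ke xe15 ye7 ze12)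 (ke xe19 ye0 ze49) (ke xe15 ye7 ze14) (ke xe21 ye37 ze12) (ke xe15 ye7 ze15) (ke xe30 ye25 ze6) (ke xe26 ye20 ze53) (ke xe27 ye25 ze22) (ke xe15 ye7 ze16) (ke xe21 ye37 ze61) (ke xe27 ye47 ze60) (ke xe26 ye13 ze21) (ke xe15 ye7 ze18) (ke xe17 ye43 ze43) (ke xe26 ye21 ze8) (ke xe27 ye45 ze21) (ke xe25 ye29 ze52) (ke xe15 ye7 ze19) (ke xe27 ye33 ze42) (ke xe15 ye8 ze22) (ke xe27 ye40 ze12) (ke xe27 ye27 ze61) (ke xe15 ye7 ze21) (ke xe15 ye14 ze19) (ke xe15 ye13 ze13) (ke xe31 ye38 ze37) (ke xe27 ye47 ze19) (ke xe17 ye40 ze23) (ke xe15 ye7 ze23)) (@D3.rec (fun _ => Pt) (ke xe15 ye11 ze47) (ke xe16 ye1 ze24) (ke xe15 ye7 ze24) (ke xe26 ye13 ze25) (ke xe31 ye43 ze3) (ke xe27 ye28 ze58) (ke xe15 ye7 ze25) (ke xe27 ye28 ze21) (ke xe27 ye26 ze45) (ke xe15 ye7 ze26) (ke xe31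 ye43 ze11) (ke xe15 ye14 ze12) (ke xe26 ye20 ze47) (ke xe15 ye7 ze28) (ke xe18 ye29 ze6) (ke xe23 ye42 ze36) (ke xe15 ye7 ze31) (ke xe31 ye15 ze42) (ke xe15 ye7 ze33) (ke xe29 ye25 ze20) (ke xe15 ye11 ze36) (ke xe27 ye45 ze13) (ke xe15 ye7 ze34) (ke xe22 ye36 ze25) (ke xe27 ye27 ze58) (ke xe15 ye7 ze35) (ke xe15 ye7 ze36) (ke xe15 ye12 ze4) (ke xe17 ye43 ze2) (ke xe17 ye44 ze33) (ke xe17 ye44 ze53) (ke xe27 ye29 ze4) (ke xe22 ye28 ze36) (ke xe20 ye10 ze49) (ke xe31 ye38 ze39) (ke xe15 ye8 ze27) (ke xe18 ye15 ze57) (ke xe31 ye1 ze4) (ke xe15 ye7 ze46) (ke xe23 ye6 ze29) (ke xe23 ye6 ze6) (ke xe15 ye7 ze47) (ke xe26 ye24 ze32) (ke xe27 ye41 ze41) (ke xe24 ye53 ze3) (ke xe22 ye54 ze2) (ke xe15 ye7 ze55) (ke xe23 ye20 ze38) (ke xe15 ye7 ze58) (ke xe23 ye52 ze35) (ke xe18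 ye40 ze3) (ke xe29 ye27 ze11) (ke xe22 ye13 ze38) (ke xe28 ye26 ze2) (ke xe15 ye8 ze4) (ke xe25 ye15 ze53) (ke xe22 ye30 ze35) (ke xe20 ye7 ze52) (ke xe25 ye52 ze9) (ke xe20 ye30 ze6) (ke xe22 ye34 ze20) (ke xe31 ye0 ze23)) (@D3.rec (fun _ => Pt) (ke xe16 ye21 ze9) (ke xe23 ye22 ze21) (ke xe15 ye8 ze12) (ke xe16 ye46 ze10) (ke xe19 ye49 ze53) (ke xe15 ye8 ze16) (ke xe30 ye24 ze21) (ke xe23 ye46 ze45) (ke xe15 ye8 ze23) (ke xe18 ye53 ze24) (ke xe15 ye8 ze21) (ke xe31 ye26 ze51) (ke xe23 ye18 ze53) (ke xe31 ye43 ze23) (ke xe31 ye22 ze4) (ke xe30 ye30 ze38) (ke xe21 ye2 ze49) (ke xe15 ye8 ze25) (ke xe15 ye8 ze53) (ke xe18 ye12 ze20) (ke xe29 ye54 ze0) (ke xe31 ye43 ze28) (ke xe15 ye8 ze29) (ke xe26 ye29 ze24) (ke xe30 ye38 ze10) (ke xe15 ye8 ze30) (ke xe15 ye8 ze31) (ke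 xe31 ye42 ze0) (ke xe20 ye6 ze0) (ke xe29 ye53 ze55) (ke xe15 ye8 ze33) (ke xe27 ye47 ze34) (ke xe31 ye38 ze46) (ke xe16 ye20 ze47) (ke xe26 ye46 ze33) (ke xe20 ye10 ze55) (ke xe15 ye8 ze40) (ke xe31 ye43 ze36) (ke xe15 ye8 ze42) (ke xe28 ye26 ze6) (ke xe21 ye29 ze2) (ke xe27 ye48 ze41) (ke xe15 ye8 ze47) (ke xe25 ye24 ze11) (ke xe15 ye8 ze49) (ke xe22 ye55 ze45) (ke xe22 ye17 ze27) (ke xe21 ye12 ze6) (ke xe24 ye54 ze13) (ke xe22 ye48 ze30) (ke xe21 ye12 ze1) (ke xe28 ye32 ze14) (ke xe18 ye34 ze33) (ke xe31 ye43 ze38) (ke xe15 ye18 ze49) (ke xe25 ye12 ze51) (ke xe31 ye43 ze39) (ke xe31 ye43 ze40) (ke xe21 ye21 ze19) (ke xe25 ye53 ze36) (ke xe15 ye9 ze4) (ke xe27 ye44 ze18)) (@D3.rec (fun _ => Pt) (ke xe31 ye35 ze56) (ke xe20 ye53 ze35) (ke xe15 ye46 ze31) (ke xe15 ye9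 ze5) (ke xe25 ye12 ze9) (ke xe22 ye9 ze6) (ke xe17 ye14 ze41) (ke xe25 ye13 ze13) (ke xe15 ye19 ze40) (ke xe15 ye9 ze12) (ke xe20 ye29 ze17) (ke xe28 ye59 ze48) (ke xe16 ye8 ze19) (ke xe15 ye20 ze12) (ke xe24 ye21 ze15) (ke xe16 ye8 ze23) (ke xe19 ye24 ze42) (ke xe19 ye42 ze10) (ke xe26 ye0 ze6) (ke xe29 ye56 ze22) (ke xe29 ye56 ze14) (ke xe15 ye9 ze23) (ke xe28 ye58 ze34) (ke xe25 ye59 ze61) (ke xe17 ye43 ze13) (ke xe15 ye19 ze29) (ke xe29 ye17 ze22) (ke xe16 ye28 ze58) (ke xe25 ye17 ze61) (ke xe28 ye23 ze40) (ke xe19 ye24 ze43) (ke xe29 ye32 ze40) (ke xe15 ye9 ze30) (ke xe30 ye7 ze55) (ke xe26 ye10 ze58) (ke xe26 ye11 ze1) (ke xe27 ye41 ze34) (ke xe25 ye12 ze59) (ke xe28 ye37 ze6) (ke xe25 ye33 ze24) (ke xe31 ye43 ze56) (ke xe15 ye9 ze33) (ke xe18 ye10 ze33) (ke xe31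 ye43 ze43) (ke xe25 ye13 ze2) (ke xe18 ye5 ze39) (ke xe15 ye22 ze14) (ke xe25 ye10 ze58) (ke xe27 ye39 ze48) (ke xe31 ye42 ze43) (ke xe19 ye59 ze45) (ke xe27 ye28 ze59) (ke xe23 ye36 ze58) (ke xe29 ye7 ze9) (ke xe15 ye9 ze50) (ke xe28 ye18 ze52) (ke xe30 ye2 ze53) (ke xe31 ye43 ze60) (ke xe16 ye35 ze50) (ke xe23 ye17 ze60) (ke xe17 ye15 ze31) (ke xe17 ye44 ze4)) (@D3.rec (fun _ => Pt) (ke xe31 ye43 ze61) (ke xe30 ye54 ze20) (ke xe15 ye9 ze57) (ke xe15 ye9 ze58) (ke xe20 ye45 ze47) (ke xe28 ye4 ze12) (ke xe25 ye1 ze35) (ke xe17 ye39 ze49) (ke xe17 ye41 ze29) (ke xe15 ye10 ze2) (ke xe20 ye32 ze26) (ke xe31 ye33 ze48) (ke xe20 ye32 ze6) (ke xe23 ye15 ze49) (ke xe28 ye31 ze60) (ke xe30 ye51 ze1) (ke xe15 ye10 ze4) (ke xe27 ye58 ze53) (ke xe31 ye44 ze2) (ke xe15 ye10 ze5)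 (ke xe28 ye28 ze34) (ke xe31 ye6 ze4) (ke xe15 ye10 ze9) (ke xe31 ye44 ze3) (ke xe15 ye10 ze10) (ke xe29 ye29 ze55) (ke xe25 ye11 ze45) (ke xe26 ye27 ze17) (ke xe18 ye29 ze57) (ke xe28 ye12 ze22) (ke xe31 ye44 ze6) (ke xe15 ye10 ze16) (ke xe16 ye22 ze38) (ke xe17 ye12 ze0) (ke xe22 ye48 ze24) (ke xe21 ye2 ze52) (ke xe31 ye2 ze26) (ke xe15 ye10 ze19) (ke xe15 ye10 ze20) (ke xe23 ye16 ze27) (ke xe15 ye10 ze23) (ke xe15 ye10 ze24) (ke xe15 ye10 ze25) (ke xe24 ye44 ze24) (ke xe15 ye10 ze27) (ke xe25 ye2 ze0) (ke xe30 ye48 ze16) (ke xe25 ye11 ze35) (ke xe27 ye57 ze13) (ke xe23 ye10 ze9) (ke xe22 ye17 ze28) (ke xe24 ye45 ze57) (ke xe31 ye2 ze21) (ke xe23 ye44 ze9) (ke xe26 ye3 ze31) (ke xe21 ye57 ze6) (ke xe15 ye10 ze35) (ke xe17 ye3 ze43) (ke xe15 ye10 ze42) (ke xe31 ye0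 ze5) (ke xe25 ye2 ze52) (ke xe30 ye21 ze10))
def f_e_25 : D2 → D3 → Pt := @D2.rec (fun _ => D3 → Pt) (@D3.rec (fun _ => Pt) (ke xe25 ye1 ze19) (ke xe23 ye44 ze16) (ke xe16 ye17 ze33) (ke xe24 ye44 ze55) (ke xe25 ye1 ze27) (ke xe19 ye1 ze27) (ke xe15 ye14 ze58) (ke xe28 ye10 ze46) (ke xe30 ye57 ze34) (ke xe23 ye45 ze23) (ke xe26 ye18 ze59) (ke xe27 ye33 ze45) (ke xe19 ye0 ze18) (ke xe15 ye11 ze3) (ke xe30 ye23 ze23) (ke xe27 ye31 ze0) (ke xe31 ye44 ze16) (ke xe15 ye11 ze11) (ke xe24 ye18 ze20) (ke xe31 ye44 ze17) (ke xe31 ye44 ze19) (ke xe31 ye44 ze21) (ke xe31 ye33 ze60) (ke xe15 ye11 ze16) (ke xe31 ye44 ze23) (ke xe15 ye11 ze19) (ke xe18 ye27 ze8) (ke xe17 ye39 ze21) (ke xe27 ye25 ze42) (ke xe26 ye16 ze29) (ke xe17 ye41 ze34) (ke xe25 ye41 ze45) (ke xe24 ye46 ze45)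 (ke xe18 ye28 ze54) (ke xe15 ye11 ze29) (ke xe15 ye11 ze60) (ke xe15 ye11 ze34) (ke xe18 ye28 ze47) (ke xe27 ye26 ze26) (ke xe16 ye23 ze0) (ke xe24 ye45 ze31) (ke xe31 ye35 ze22) (ke xe27 ye29 ze3) (ke xe25 ye3 ze50) (ke xe26 ye16 ze36) (ke xe28 ye12 ze2) (ke xe15 ye11 ze38) (ke xe30 ye45 ze2) (ke xe15 ye11 ze42) (ke xe26 ye15 ze55) (ke xe18 ye36 ze41) (ke xe27 ye29 ze8) (ke xe18 ye34 ze10) (ke xe19 ye2 ze14) (ke xe27 ye45 ze27) (ke xe27 ye45 ze28) (ke xe23 ye18 ze32) (ke xe31 ye44 ze27) (ke xe18 ye28 ze61) (ke xe16 ye19 ze42) (ke xe15 ye12 ze5) (ke xe26 ye16 ze37)) (@D3.rec (fun _ => Pt) (ke xe18 ye27 ze6) (ke xe30 ye31 ze56) (ke xe26 ye4 ze36) (ke xe30 ye3 ze55) (ke xe15 ye12 ze7) (ke xe30 ye23 ze26) (ke xe15 ye12 ze8) (ke xe27 ye45 ze43) (ke xe27 ye28 ze2) (ke xe15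 ye12 ze10) (ke xe30 ye25 ze4) (ke xe15 ye12 ze11) (ke xe30 ye1 ze13) (ke xe27 ye20 ze34) (ke xe27 ye17 ze48) (ke xe26 ye13 ze29) (ke xe15 ye12 ze15) (ke xe15 ye12 ze16) (ke xe15 ye14 ze13) (ke xe25 ye0 ze0) (ke xe31 ye12 ze0) (ke xe15 ye12 ze23) (ke xe15 ye34 ze51) (ke xe23 ye17 ze58) (ke xe15 ye12 ze46) (ke xe18 ye29 ze60) (ke xe17 ye36 ze61) (ke xe25 ye0 ze4) (ke xe16 ye12 ze59) (ke xe23 ye7 ze33) (ke xe15 ye12 ze32) (ke xe16 ye16 ze46) (ke xe15 ye12 ze34) (ke xe31 ye1 ze23) (ke xe18 ye26 ze29) (ke xe24 ye59 ze6) (ke xe31 ye44 ze40) (ke xe26 ye20 ze44) (ke xe31 ye44 ze41) (ke xe31 ye44 ze43) (ke xe15 ye12 ze42) (ke xe26 ye18 ze13) (ke xe26 ye13 ze41) (ke xe15 ye12 ze44) (ke xe18 ye8 ze49) (ke xe18 ye4 ze27) (ke xe28 ye2 ze33) (ke xe23 ye51 ze0) (ke xe31 ye44 ze38)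 (ke xe25 ye2 ze24) (ke xe21 ye55 ze52) (ke xe19 ye14 ze39) (ke xe31 ye44 ze47) (ke xe31 ye44 ze48) (ke xe15 ye12 ze53) (ke xe16 ye34 ze9) (ke xe15 ye12 ze54) (ke xe15 ye12 ze57) (ke xe26 ye45 ze58) (ke xe15 ye12 ze60) (ke xe30 ye59 ze51) (ke xe23 ye18 ze49)) (@D3.rec (fun _ => Pt) (ke xe24 ye59 ze45) (ke xe15 ye13 ze5) (ke xe23 ye31 ze52) (ke xe15 ye13 ze6) (ke xe23 ye31 ze41) (ke xe26 ye24 ze12) (ke xe15 ye13 ze8) (ke xe26 ye9 ze7) (ke xe30 ye24 ze26) (ke xe15 ye13 ze12) (ke xe16 ye19 ze52) (ke xe27 ye12 ze38) (ke xe30 ye13 ze6) (ke xe15 ye13 ze14) (ke xe15 ye13 ze16) (ke xe30 ye31 ze57) (ke xe31 ye44 ze59) (ke xe21 ye55 ze30) (ke xe15 ye13 ze18) (ke xe26 ye8 ze32) (ke xe23 ye30 ze57) (ke xe31 ye44 ze55) (ke xe15 ye13 ze20) (ke xe15 ye13 ze23) (ke xe25 ye1 ze49) (ke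 xe21 ye8 ze40) (ke xe15 ye13 ze24) (ke xe28 ye11 ze40) (ke xe31 ye43 ze8) (ke xe23 ye23 ze6) (ke xe23 ye32 ze28) (ke xe24 ye34 ze10) (ke xe26 ye7 ze41) (ke xe29 ye51 ze20) (ke xe18 ye18 ze24) (ke xe19 ye53 ze58) (ke xe15 ye13 ze30) (ke xe23 ye25 ze20) (ke xe27 ye4 ze9) (ke xe22 ye45 ze21) (ke xe30 ye1 ze60) (ke xe24 ye32 ze13) (ke xe15 ye13 ze37) (ke xe28 ye26 ze3) (ke xe15 ye13 ze39) (ke xe15 ye13 ze40) (ke xe23 ye19 ze28) (ke xe15 ye13 ze42) (ke xe31 ye43 ze59) (ke xe23 ye16 ze34) (ke xe31 ye45 ze4) (ke xe31 ye32 ze52) (ke xe24 ye59 ze60) (ke xe15 ye13 ze49) (ke xe17 ye51 ze51) (ke xe15 ye13 ze52) (ke xe30 ye1 ze7) (ke xe22 ye17 ze55) (ke xe16 ye15 ze57) (ke xe27 ye47 ze25) (ke xe18 ye30 ze19) (ke xe27 ye48 ze52)) (@D3.rec (fun _ => Pt) (ke xe23 ye14 ze35) (ke xe30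 ye49 ze24) (ke xe30 ye59 ze11) (ke xe15 ye13 ze60) (ke xe30 ye59 ze12) (ke xe15 ye13 ze61) (ke xe22 ye31 ze23) (ke xe15 ye14 ze1) (ke xe23 ye17 ze55) (ke xe23 ye32 ze42) (ke xe16 ye23 ze42) (ke xe23 ye6 ze32) (ke xe15 ye14 ze6) (ke xe18 ye58 ze48) (ke xe19 ye38 ze11) (ke xe30 ye44 ze20) (ke xe27 ye47 ze11) (ke xe15 ye14 ze14) (ke xe15 ye14 ze15) (ke xe16 ye20 ze30) (ke xe27 ye47 ze33) (ke xe27 ye40 ze14) (ke xe15 ye14 ze17) (ke xe29 ye54 ze18) (ke xe15 ye14 ze18) (ke xe27 ye47 ze15) (ke xe27 ye26 ze0) (ke xe27 ye45 ze47) (ke xe16 ye17 ze4) (ke xe15 ye14 ze23) (ke xe31 ye45 ze8) (ke xe15 ye14 ze24) (ke xe27 ye45 ze33) (ke xe31 ye15 ze33) (ke xe17 ye47 ze23) (ke xe18 ye31 ze54) (ke xe18 ye26 ze34) (ke xe31 ye32 ze55) (ke xe26 ye12 ze29) (ke xe15 ye14 ze30) (ke xe27 ye45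 ze53) (ke xe30 ye44 ze35) (ke xe15 ye14 ze33) (ke xe23 ye51 ze53) (ke xe31 ye45 ze11) (ke xe15 ye14 ze34) (ke xe25 ye28 ze45) (ke xe26 ye12 ze25) (ke xe25 ye32 ze49) (ke xe23 ye43 ze28) (ke xe25 ye0 ze43) (ke xe27 ye32 ze49) (ke xe30 ye43 ze46) (ke xe15 ye14 ze46) (ke xe31 ye45 ze12) (ke xe25 ye54 ze38) (ke xe15 ye14 ze50) (ke xe30 ye45 ze59) (ke xe15 ye50 ze29) (ke xe15 ye14 ze54) (ke xe23 ye44 ze1) (ke xe15 ye14 ze55)) (@D3.rec (fun _ => Pt) (ke xe23 ye45 ze22) (ke xe24 ye54 ze57) (ke xe18 ye4 ze37) (ke xe16 ye20 ze7) (ke xe21 ye46 ze3) (ke xe30 ye1 ze50) (ke xe15 ye15 ze1) (ke xe15 ye40 ze48) (ke xe31 ye45 ze24) (ke xe15 ye15 ze5) (ke xe26 ye58 ze57) (ke xe15 ye15 ze6) (ke xe23 ye10 ze25) (ke xe23 ye56 ze19) (ke xe26 ye46 ze40) (ke xe19 ye15 ze41) (ke xe15 ye15 ze11)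 (ke xe25 ye24 ze24) (ke xe22 ye38 ze47) (ke xe22 ye21 ze6) (ke xe31 ye29 ze19) (ke xe15 ye15 ze14) (ke xe18 ye2 ze3) (ke xe15 ye15 ze19) (ke xe19 ye26 ze9) (ke xe20 ye2 ze37) (ke xe15 ye37 ze24) (ke xe21 ye21 ze0) (ke xe19 ye26 ze15) (ke xe31 ye45 ze28) (ke xe19 ye41 ze8) (ke xe27 ye11 ze25) (ke xe27 ye11 ze27) (ke xe31 ye45 ze31) (ke xe27 ye29 ze33) (ke xe24 ye13 ze45) (ke xe15 ye15 ze25) (ke xe25 ye24 ze36) (ke xe24 ye14 ze5) (ke xe27 ye44 ze5) (ke xe15 ye15 ze27) (ke xe30 ye20 ze21) (ke xe15 ye38 ze50) (ke xe26 ye31 ze36) (ke xe15 ye15 ze28) (ke xe23 ye55 ze45) (ke xe25 ye31 ze53) (ke xe27 ye44 ze4) (ke xe19 ye46 ze14) (ke xe15 ye38 ze10) (ke xe30 ye19 ze56) (ke xe15 ye15 ze31) (ke xe28 ye19 ze24) (ke xe27 ye0 ze29) (ke xe30 ye9 ze59) (ke xe16 ye27 ze27) (ke xe26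 ye9 ze45) (ke xe21 ye0 ze32) (ke xe31 ye45 ze40) (ke xe15 ye15 ze35) (ke xe31 ye45 ze41) (ke xe15 ye38 ze55)) (@D3.rec (fun _ => Pt) (ke xe15 ye15 ze37) (ke xe27 ye43 ze58) (ke xe31 ye45 ze43) (ke xe25 ye30 ze25) (ke xe31 ye45 ze42) (ke xe15 ye15 ze38) (ke xe24 ye3 ze36) (ke xe15 ye15 ze39) (ke xe26 ye44 ze24) (ke xe19 ye40 ze24) (ke xe15 ye15 ze41) (ke xe21 ye10 ze59) (ke xe15 ye15 ze42) (ke xe20 ye50 ze25) (ke xe19 ye46 ze16) (ke xe15 ye15 ze44) (ke xe22 ye54 ze38) (ke xe23 ye12 ze33) (ke xe23 ye5 ze58) (ke xe30 ye48 ze33) (ke xe15 ye15 ze45) (ke xe20 ye43 ze48) (ke xe15 ye15 ze46) (ke xe25 ye24 ze50) (ke xe30 ye49 ze1) (ke xe31 ye22 ze13) (ke xe31 ye0 ze11) (ke xe15 ye15 ze49) (ke xe15 ye15 ze50) (ke xe31 ye45 ze50) (ke xe24 ye20 ze33) (ke xe25 ye51 ze30) (ke xe31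 ye45 ze52) (ke xe31 ye45 ze54) (ke xe15 ye15 ze53) (ke xe28 ye57 ze38) (ke xe15 ye35 ze0) (ke xe28 ye19 ze43) (ke xe29 ye48 ze49) (ke xe15 ye15 ze55) (ke xe15 ye35 ze50) (ke xe15 ye36 ze47) (ke xe28 ye19 ze37) (ke xe18 ye52 ze53) (ke xe31 ye38 ze35) (ke xe15 ye16 ze54) (ke xe25 ye14 ze25) (ke xe15 ye15 ze60) (ke xe25 ye43 ze25) (ke xe15 ye35 ze53) (ke xe15 ye16 ze2) (ke xe17 ye27 ze31) (ke xe25 ye15 ze5) (ke xe26 ye36 ze60) (ke xe15 ye16 ze1) (ke xe31 ye20 ze24) (ke xe25 ye55 ze36) (ke xe22 ye3 ze60) (ke xe22 ye8 ze24) (ke xe17 ye27 ze27) (ke xe19 ye31 ze31) (ke xe30 ye56 ze1)) (@D3.rec (fun _ => Pt) (ke xe29 ye15 ze31) (ke xe25 ye15 ze28) (ke xe22 ye2 ze42) (ke xe15 ye16 ze9) (ke xe29 ye15 ze24) (ke xe26 ye11 ze13) (ke xe15 ye16 ze10) (ke xe24 ye2 ze53) (ke xe26 ye4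 ze61) (ke xe15 ye16 ze12) (ke xe15 ye35 ze10) (ke xe15 ye40 ze21) (ke xe22 ye33 ze25) (ke xe25 ye14 ze10) (ke xe15 ye16 ze18) (ke xe28 ye30 ze35) (ke xe15 ye16 ze17) (ke xe16 ye29 ze0) (ke xe29 ye47 ze54) (ke xe28 ye59 ze40) (ke xe15 ye16 ze22) (ke xe28 ye59 ze39) (ke xe31 ye46 ze1) (ke xe31 ye46 ze2) (ke xe15 ye16 ze26) (ke xe15 ye16 ze27) (ke xe27 ye30 ze9) (ke xe17 ye10 ze20) (ke xe27 ye11 ze29) (ke xe15 ye16 ze31) (ke xe29 ye4 ze61) (ke xe31 ye46 ze11) (ke xe31 ye46 ze7) (ke xe20 ye3 ze2) (ke xe31 ye46 ze17) (ke xe29 ye56 ze19) (ke xe26 ye34 ze2) (ke xe28 ye59 ze34) (ke xe26 ye44 ze27) (ke xe15 ye20 ze16) (ke xe27 ye15 ze43) (ke xe29 ye17 ze21) (ke xe31 ye34 ze13) (ke xe31 ye46 ze23) (ke xe25 ye48 ze10) (ke xe25 ye54 ze47) (ke xe15 ye20 ze28) (ke xe31 ye46 ze25)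 (ke xe26 ye9 ze11) (ke xe15 ye20 ze5) (ke xe30 ye14 ze18) (ke xe29 ye17 ze60) (ke xe15 ye16 ze49) (ke xe15 ye16 ze50) (ke xe29 ye3 ze55) (ke xe15 ye40 ze9) (ke xe26 ye13 ze49) (ke xe30 ye9 ze52) (ke xe15 ye16 ze56) (ke xe21 ye39 ze17) (ke xe15 ye16 ze60) (ke xe30 ye17 ze1)) (@D3.rec (fun _ => Pt) (ke xe15 ye16 ze61) (ke xe29 ye56 ze2) (ke xe29 ye57 ze60) (ke xe15 ye17 ze1) (ke xe31 ye46 ze33) (ke xe15 ye20 ze42) (ke xe21 ye58 ze4) (ke xe31 ye23 ze17) (ke xe31 ye46 ze37) (ke xe15 ye17 ze4) (ke xe17 ye27 ze28) (ke xe31 ye37 ze22) (ke xe15 ye17 ze7) (ke xe25 ye32 ze60) (ke xe15 ye17 ze8) (ke xe15 ye20 ze60) (ke xe31 ye46 ze41) (ke xe25 ye43 ze44) (ke xe15 ye17 ze10) (ke xe30 ye46 ze18) (ke xe30 ye15 ze6) (ke xe30 ye8 ze41) (ke xe15 ye21 ze25) (ke xe25 ye56 ze1) (ke xe26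 ye23 ze54) (ke xe31 ye46 ze44) (ke xe15 ye17 ze15) (ke xe15 ye21 ze11) (ke xe15 ye17 ze19) (ke xe22 ye9 ze33) (ke xe15 ye33 ze31) (ke xe15 ye17 ze21) (ke xe22 ye8 ze15) (ke xe24 ye2 ze59) (ke xe30 ye9 ze50) (ke xe15 ye17 ze24) (ke xe25 ye54 ze56) (ke xe30 ye16 ze47) (ke xe17 ye35 ze57) (ke xe25 ye48 ze38) (ke xe22 ye10 ze26) (ke xe30 ye1 ze47) (ke xe27 ye19 ze54) (ke xe25 ye53 ze33) (ke xe15 ye35 ze7) (ke xe15 ye53 ze9) (ke xe15 ye53 ze8) (ke xe21 ye57 ze43) (ke xe31 ye46 ze53) (ke xe15 ye17 ze28) (ke xe17 ye37 ze47) (ke xe25 ye27 ze12) (ke xe15 ye17 ze29) (ke xe20 ye35 ze39) (ke xe29 ye1 ze18) (ke xe29 ye45 ze39) (ke xe29 ye44 ze54) (ke xe20 ye39 ze17) (ke xe22 ye1 ze21) (ke xe15 ye17 ze33) (ke xe26 ye38 ze6) (ke xe31 ye46 ze54)) (@D3.rec (fun _ => Pt) (ke xe15 ye17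 ze35) (ke xe27 ye16 ze22) (ke xe15 ye17 ze37) (ke xe20 ye54 ze59) (ke xe26 ye5 ze3) (ke xe22 ye1 ze60) (ke xe15 ye17 ze38) (ke xe19 ye19 ze22) (ke xe29 ye56 ze13) (ke xe22 ye1 ze0) (ke xe16 ye38 ze55) (ke xe28 ye40 ze36) (ke xe15 ye17 ze40) (ke xe17 ye49 ze23) (ke xe31 ye47 ze1) (ke xe15 ye17 ze43) (ke xe16 ye38 ze59) (ke xe19 ye19 ze17) (ke xe31 ye47 ze4) (ke xe31 ye47 ze6) (ke xe15 ye17 ze45) (ke xe31 ye47 ze9) (ke xe24 ye3 ze37) (ke xe20 ye3 ze1) (ke xe20 ye2 ze51) (ke xe24 ye37 ze46) (ke xe25 ye57 ze1) (ke xe26 ye52 ze49) (ke xe30 ye53 ze22) (ke xe30 ye27 ze41) (ke xe20 ye3 ze4) (ke xe31 ye47 ze16) (ke xe20 ye49 ze27) (ke xe15 ye17 ze53) (ke xe31 ye24 ze25) (ke xe30 ye9 ze18) (ke xe15 ye17 ze55) (ke xe25 ye22 ze53) (ke xe29 ye49 ze21) (ke xe20 ye2 ze50) (ke xe24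 ye35 ze25) (ke xe31 ye47 ze26) (ke xe29 ye5 ze44) (ke xe31 ye47 ze29) (ke xe20 ye2 ze54) (ke xe26 ye34 ze1) (ke xe31 ye35 ze1) (ke xe26 ye40 ze22) (ke xe25 ye31 ze57) (ke xe15 ye17 ze59) (ke xe17 ye29 ze18) (ke xe27 ye30 ze8) (ke xe26 ye4 ze48) (ke xe30 ye7 ze49) (ke xe24 ye3 ze27) (ke xe15 ye18 ze0) (ke xe28 ye59 ze24) (ke xe27 ye30 ze14) (ke xe17 ye29 ze19) (ke xe16 ye27 ze20) (ke xe31 ye47 ze37) (ke xe15 ye18 ze9)) (@D3.rec (fun _ => Pt) (ke xe22 ye10 ze49) (ke xe28 ye34 ze43) (ke xe15 ye18 ze11) (ke xe26 ye24 ze1) (ke xe15 ye18 ze13) (ke xe20 ye3 ze33) (ke xe31 ye24 ze38) (ke xe15 ye18 ze17) (ke xe15 ye18 ze18) (ke xe21 ye39 ze37) (ke xe31 ye47 ze40) (ke xe15 ye18 ze21) (ke xe19 ye47 ze41) (ke xe31 ye47 ze41) (ke xe31 ye47 ze42) (ke xe15 ye18 ze32) (ke xe26 ye6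 ze20) (ke xe15 ye18 ze33) (ke xe31 ye47 ze45) (ke xe28 ye59 ze29) (ke xe30 ye7 ze52) (ke xe15 ye18 ze35) (ke xe25 ye10 ze61) (ke xe20 ye55 ze52) (ke xe31 ye47 ze50) (ke xe15 ye18 ze38) (ke xe24 ye33 ze23) (ke xe31 ye47 ze52) (ke xe28 ye45 ze13) (ke xe31 ye47 ze51) (ke xe15 ye19 ze54) (ke xe28 ye36 ze44) (ke xe25 ye33 ze46) (ke xe25 ye35 ze4) (ke xe15 ye18 ze43) (ke xe26 ye4 ze47) (ke xe15 ye18 ze45) (ke xe31 ye47 ze60) (ke xe15 ye18 ze46) (ke xe26 ye44 ze30) (ke xe16 ye2 ze16) (ke xe27 ye30 ze15) (ke xe31 ye48 ze3) (ke xe15 ye18 ze48) (ke xe29 ye58 ze55) (ke xe25 ye20 ze17) (ke xe30 ye53 ze35) (ke xe26 ye41 ze53) (ke xe16 ye49 ze57) (ke xe31 ye1 ze35) (ke xe15 ye18 ze53) (ke xe29 ye23 ze34) (ke xe24 ye16 ze25) (ke xe19 ye54 ze4) (ke xe15 ye18 ze54) (ke xe17 ye40 ze28)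 (ke xe16 ye20 ze5) (ke xe25 ye22 ze52) (ke xe30 ye6 ze24) (ke xe31 ye36 ze10) (ke xe15 ye18 ze58) (ke xe28 ye6 ze32)) (@D3.rec (fun _ => Pt) (ke xe21 ye49 ze58) (ke xe15 ye19 ze5) (ke xe27 ye46 ze42) (ke xe23 ye36 ze35) (ke xe15 ye19 ze12) (ke xe28 ye20 ze47) (ke xe15 ye19 ze7) (ke xe20 ye56 ze48) (ke xe28 ye40 ze38) (ke xe21 ye17 ze8) (ke xe15 ye19 ze9) (ke xe16 ye39 ze25) (ke xe15 ye19 ze11) (ke xe18 ye51 ze9) (ke xe31 ye48 ze5) (ke xe16 ye40 ze13) (ke xe15 ye19 ze17) (ke xe16 ye40 ze17) (ke xe31 ye48 ze6) (ke xe31 ye48 ze7) (ke xe15 ye19 ze16) (ke xe31 ye18 ze59) (ke xe15 ye19 ze21) (ke xe16 ye36 ze48) (ke xe20 ye55 ze47) (ke xe15 ye29 ze25) (ke xe15 ye19 ze22) (ke xe27 ye24 ze11) (ke xe31 ye24 ze24) (ke xe24 ye26 ze4) (ke xe27 ye24 ze25) (ke xe26 ye44 ze17) (ke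 xe24 ye33 ze40) (ke xe19 ye48 ze9) (ke xe15 ye54 ze42) (ke xe31 ye48 ze11) (ke xe29 ye4 ze24) (ke xe15 ye19 ze32) (ke xe31 ye48 ze14) (ke xe31 ye48 ze15) (ke xe15 ye19 ze35) (ke xe31 ye41 ze4) (ke xe15 ye19 ze36) (ke xe29 ye9 ze57) (ke xe19 ye54 ze3) (ke xe28 ye9 ze6) (ke xe20 ye18 ze3) (ke xe29 ye17 ze0) (ke xe31 ye48 ze17) (ke xe15 ye19 ze44) (ke xe15 ye21 ze27) (ke xe30 ye7 ze50) (ke xe15 ye19 ze46) (ke xe24 ye54 ze16) (ke xe15 ye19 ze47) (ke xe31 ye9 ze37) (ke xe18 ye4 ze51) (ke xe31 ye48 ze20) (ke xe24 ye58 ze47) (ke xe28 ye1 ze56) (ke xe15 ye19 ze58) (ke xe25 ye9 ze22)) (@D3.rec (fun _ => Pt) (ke xe15 ye19 ze59) (ke xe31 ye40 ze4) (ke xe25 ye33 ze45) (ke xe25 ye15 ze3) (ke xe15 ye19 ze60) (ke xe28 ye59 ze43) (ke xe31 ye48 ze22) (ke xe25 ye33 ze30) (ke xe24 ye51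 ze15) (ke xe24 ye34 ze0) (ke xe26 ye47 ze39) (ke xe15 ye20 ze2) (ke xe24 ye51 ze27) (ke xe29 ye42 ze25) (ke xe27 ye36 ze33) (ke xe15 ye20 ze1) (ke xe19 ye58 ze30) (ke xe19 ye42 ze20) (ke xe25 ye11 ze20) (ke xe28 ye59 ze31) (ke xe25 ye11 ze18) (ke xe15 ye20 ze6) (ke xe29 ye13 ze32) (ke xe15 ye20 ze7) (ke xe30 ye55 ze43) (ke xe31 ye48 ze31) (ke xe15 ye20 ze10) (ke xe15 ye54 ze29) (ke xe29 ye27 ze37) (ke xe20 ye22 ze38) (ke xe26 ye24 ze11) (ke xe15 ye20 ze13) (ke xe25 ye51 ze0) (ke xe27 ye24 ze19) (ke xe30 ye26 ze28) (ke xe24 ye59 ze47) (ke xe15 ye20 ze17) (ke xe25 ye28 ze15) (ke xe16 ye27 ze1) (ke xe15 ye20 ze20) (ke xe30 ye9 ze23) (ke xe24 ye14 ze16) (ke xe17 ye55 ze38) (ke xe15 ye20 ze24) (ke xe30 ye46 ze19) (ke xe24 ye59 ze26) (ke xe15 ye20 ze29) (ke xe16 ye31 ze44)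 (ke xe26 ye33 ze51) (ke xe25 ye15 ze2) (ke xe30 ye9 ze58) (ke xe26 ye41 ze38) (ke xe18 ye52 ze33) (ke xe30 ye16 ze43) (ke xe15 ye20 ze38) (ke xe31 ye21 ze57) (ke xe15 ye20 ze41) (ke xe24 ye38 ze7) (ke xe24 ye38 ze11) (ke xe15 ye20 ze44) (ke xe31 ye48 ze46) (ke xe18 ye7 ze60)) (@D3.rec (fun _ => Pt) (ke xe26 ye41 ze21) (ke xe15 ye20 ze48) (ke xe15 ye20 ze49) (ke xe29 ye37 ze18) (ke xe27 ye42 ze8) (ke xe20 ye49 ze26) (ke xe24 ye8 ze7) (ke xe22 ye29 ze5) (ke xe15 ye20 ze55) (ke xe24 ye58 ze4) (ke xe26 ye33 ze45) (ke xe16 ye28 ze40) (ke xe15 ye20 ze58) (ke xe15 ye20 ze61) (ke xe15 ye21 ze0) (ke xe24 ye38 ze4) (ke xe31 ye48 ze48) (ke xe28 ye1 ze27) (ke xe31 ye48 ze49) (ke xe15 ye21 ze3) (ke xe18 ye2 ze1) (ke xe31 ye48 ze50) (ke xe16 ye28 ze21) (ke xe15 ye21 ze6) (ke xe22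 ye54 ze0) (ke xe26 ye23 ze53) (ke xe23 ye37 ze50) (ke xe20 ye46 ze21) (ke xe21 ye41 ze32) (ke xe26 ye41 ze34) (ke xe24 ye20 ze34) (ke xe19 ye31 ze24) (ke xe29 ye0 ze5) (ke xe15 ye21 ze16) (ke xe31 ye27 ze8) (ke xe31 ye11 ze16) (ke xe15 ye21 ze17) (ke xe31 ye48 ze57) (ke xe15 ye21 ze18) (ke xe31 ye48 ze60) (ke xe29 ye37 ze21) (ke xe28 ye48 ze19) (ke xe19 ye31 ze30) (ke xe22 ye48 ze1) (ke xe31 ye49 ze0) (ke xe15 ye21 ze26) (ke xe24 ye20 ze23) (ke xe28 ye34 ze11) (ke xe15 ye21 ze28) (ke xe21 ye43 ze22) (ke xe21 ye48 ze3) (ke xe24 ye57 ze55) (ke xe15 ye21 ze30) (ke xe21 ye48 ze47) (ke xe20 ye24 ze61) (ke xe18 ye33 ze35) (ke xe15 ye21 ze31) (ke xe21 ye47 ze61) (ke xe22 ye47 ze42) (ke xe24 ye58 ze37) (ke xe31 ye41 ze48) (ke xe15 ye21 ze33)) (@D3.rec (fun _ => Pt) (ke xe15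 ye21 ze34) (ke xe21 ye43 ze19) (ke xe24 ye58 ze44) (ke xe21 ye43 ze47) (ke xe16 ye13 ze28) (ke xe21 ye48 ze43) (ke xe25 ye31 ze20) (ke xe21 ye43 ze13) (ke xe15 ye21 ze40) (ke xe21 ye16 ze36) (ke xe15 ye21 ze42) (ke xe30 ye9 ze13) (ke xe25 ye31 ze46) (ke xe24 ye58 ze7) (ke xe15 ye52 ze42) (ke xe30 ye51 ze25) (ke xe25 ye53 ze45) (ke xe15 ye21 ze45) (ke xe19 ye57 ze25) (ke xe30 ye6 ze32) (ke xe15 ye21 ze46) (ke xe29 ye12 ze51) (ke xe15 ye21 ze48) (ke xe21 ye17 ze23) (ke xe15 ye21 ze50) (ke xe29 ye57 ze19) (ke xe15 ye57 ze44) (ke xe31 ye49 ze6) (ke xe15 ye21 ze51) (ke xe31 ye35 ze36) (ke xe15 ye21 ze53) (ke xe31 ye46 ze26) (ke xe15 ye21 ze54) (ke xe27 ye39 ze37) (ke xe15 ye21 ze56) (ke xe15 ye56 ze59) (ke xe15 ye21 ze57) (ke xe22 ye0 ze16) (ke xe17 ye36 ze21) (ke xe15 ye21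 ze59) (ke xe22 ye9 ze39) (ke xe27 ye1 ze54) (ke xe15 ye52 ze38) (ke xe28 ye57 ze24) (ke xe15 ye22 ze3) (ke xe16 ye9 ze34) (ke xe28 ye51 ze17) (ke xe15 ye22 ze7) (ke xe21 ye0 ze22) (ke xe20 ye26 ze59) (ke xe15 ye22 ze10) (ke xe23 ye11 ze13) (ke xe15 ye22 ze12) (ke xe19 ye16 ze18) (ke xe29 ye12 ze39) (ke xe20 ye2 ze33) (ke xe20 ye2 ze18) (ke xe25 ye35 ze50) (ke xe25 ye54 ze57) (ke xe29 ye12 ze41) (ke xe31 ye34 ze33) (ke xe20 ye2 ze40)) (@D3.rec (fun _ => Pt) (ke xe15 ye37 ze45) (ke xe24 ye26 ze13) (ke xe15 ye22 ze21) (ke xe31 ye21 ze52) (ke xe15 ye22 ze22) (ke xe15 ye22 ze23) (ke xe18 ye5 ze42) (ke xe20 ye43 ze22) (ke xe20 ye2 ze17) (ke xe20 ye2 ze34) (ke xe25 ye6 ze13) (ke xe31 ye49 ze28) (ke xe29 ye3 ze41) (ke xe20 ye2 ze26) (ke xe31 ye49 ze30) (ke xe31 ye45 ze36) (ke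 xe15 ye22 ze28) (ke xe20 ye44 ze6) (ke xe25 ye49 ze14) (ke xe31 ye49 ze31) (ke xe15 ye22 ze30) (ke xe20 ye40 ze3) (ke xe25 ye49 ze21) (ke xe20 ye3 ze17) (ke xe29 ye49 ze14) (ke xe25 ye5 ze46) (ke xe31 ye49 ze33) (ke xe30 ye48 ze35) (ke xe15 ye22 ze35) (ke xe29 ye57 ze10) (ke xe23 ye2 ze15) (ke xe15 ye22 ze40) (ke xe15 ye22 ze41) (ke xe29 ye14 ze35) (ke xe19 ye56 ze8) (ke xe16 ye9 ze54) (ke xe28 ye10 ze50) (ke xe15 ye22 ze46) (ke xe23 ye25 ze30) (ke xe15 ye22 ze49) (ke xe31 ye29 ze3) (ke xe30 ye32 ze45) (ke xe15 ye22 ze50) (ke xe25 ye58 ze16) (ke xe19 ye16 ze37) (ke xe21 ye56 ze15) (ke xe19 ye35 ze35) (ke xe15 ye22 ze57) (ke xe31 ye49 ze41) (ke xe23 ye33 ze27) (ke xe15 ye22 ze58) (ke xe17 ye35 ze55) (ke xe20 ye3 ze10) (ke xe25 ye49 ze15) (ke xe31 ye49 ze44) (ke xe31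 ye49 ze45) (ke xe15 ye22 ze60) (ke xe23 ye46 ze19) (ke xe15 ye22 ze61) (ke xe20 ye50 ze21) (ke xe20 ye3 ze16) (ke xe25 ye49 ze22)) (@D3.rec (fun _ => Pt) (ke xe30 ye17 ze54) (ke xe17 ye35 ze53) (ke xe25 ye11 ze49) (ke xe25 ye11 ze3) (ke xe15 ye44 ze29) (ke xe25 ye5 ze52) (ke xe15 ye23 ze2) (ke xe25 ye48 ze31) (ke xe24 ye23 ze2) (ke xe30 ye3 ze43) (ke xe24 ye17 ze50) (ke xe15 ye36 ze45) (ke xe24 ye17 ze3) (ke xe16 ye42 ze45) (ke xe15 ye23 ze6) (ke xe24 ye24 ze13) (ke xe19 ye36 ze55) (ke xe24 ye43 ze12) (ke xe24 ye23 ze7) (ke xe15 ye23 ze8) (ke xe17 ye48 ze54) (ke xe20 ye43 ze45) (ke xe31 ye49 ze56) (ke xe29 ye4 ze0) (ke xe15 ye23 ze12) (ke xe29 ye3 ze40) (ke xe26 ye10 ze18) (ke xe24 ye40 ze56) (ke xe25 ye6 ze1) (ke xe17 ye5 ze31) (ke xe27 ye43 ze45) (ke xe15 ye23 ze17)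 (ke xe15 ye26 ze3) (ke xe27 ye31 ze33) (ke xe30 ye20 ze17) (ke xe15 ye26 ze4) (ke xe21 ye57 ze13) (ke xe21 ye42 ze14) (ke xe24 ye41 ze54) (ke xe31 ye49 ze60) (ke xe15 ye23 ze24) (ke xe20 ye3 ze61) (ke xe31 ye14 ze31) (ke xe27 ye26 ze44) (ke xe15 ye23 ze26) (ke xe27 ye48 ze45) (ke xe16 ye18 ze49) (ke xe17 ye41 ze30) (ke xe29 ye38 ze46) (ke xe26 ye12 ze26) (ke xe23 ye34 ze11) (ke xe31 ye50 ze0) (ke xe15 ye23 ze32) (ke xe24 ye56 ze55) (ke xe31 ye2 ze37) (ke xe26 ye18 ze42) (ke xe15 ye23 ze34) (ke xe20 ye4 ze18) (ke xe18 ye6 ze34) (ke xe27 ye27 ze27) (ke xe28 ye13 ze6) (ke xe15 ye23 ze38)) (@D3.rec (fun _ => Pt) (ke xe29 ye29 ze44) (ke xe27 ye57 ze38) (ke xe22 ye59 ze44) (ke xe15 ye23 ze40) (ke xe18 ye23 ze44) (ke xe29 ye30 ze3) (ke xe23 ye18 ze33) (ke xe15 ye23 ze44) (ke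 xe17 ye0 ze44) (ke xe20 ye30 ze60) (ke xe26 ye28 ze32) (ke xe26 ye55 ze40) (ke xe30 ye46 ze27) (ke xe22 ye32 ze2) (ke xe26 ye20 ze26) (ke xe23 ye15 ze59) (ke xe15 ye23 ze51) (ke xe23 ye15 ze51) (ke xe31 ye11 ze42) (ke xe15 ye23 ze53) (ke xe31 ye11 ze31) (ke xe15 ye23 ze54) (ke xe23 ye17 ze36) (ke xe31 ye12 ze17) (ke xe15 ye23 ze55) (ke xe30 ye39 ze55) (ke xe25 ye46 ze42) (ke xe31 ye50 ze1) (ke xe15 ye23 ze57) (ke xe18 ye42 ze38) (ke xe20 ye7 ze7) (ke xe15 ye23 ze60) (ke xe21 ye30 ze26) (ke xe25 ye18 ze55) (ke xe28 ye19 ze9) (ke xe15 ye23 ze61) (ke xe28 ye1 ze28) (ke xe17 ye48 ze15) (ke xe17 ye50 ze46) (ke xe17 ye14 ze31) (ke xe15 ye24 ze6) (ke xe26 ye21 ze53) (ke xe15 ye24 ze8) (ke xe15 ye24 ze9) (ke xe20 ye14 ze46) (ke xe15 ye24 ze10) (ke xe26 ye5 ze30) (ke xe15 ye24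 ze17) (ke xe16 ye59 ze59) (ke xe15 ye25 ze35) (ke xe15 ye24 ze26) (ke xe19 ye48 ze44) (ke xe15 ye24 ze33) (ke xe15 ye24 ze35) (ke xe26 ye33 ze6) (ke xe15 ye24 ze37) (ke xe15 ye24 ze40) (ke xe17 ye49 ze8) (ke xe16 ye51 ze13) (ke xe25 ye17 ze59) (ke xe20 ye51 ze7) (ke xe31 ye50 ze6)) (@D3.rec (fun _ => Pt) (ke xe20 ye12 ze48) (ke xe15 ye24 ze45) (ke xe15 ye24 ze46) (ke xe20 ye37 ze42) (ke xe26 ye3 ze56) (ke xe15 ye24 ze50) (ke xe26 ye14 ze40) (ke xe31 ye50 ze8) (ke xe31 ye50 ze10) (ke xe15 ye24 ze53) (ke xe17 ye49 ze46) (ke xe15 ye24 ze55) (ke xe17 ye9 ze2) (ke xe15 ye24 ze58) (ke xe25 ye53 ze18) (ke xe15 ye25 ze0) (ke xe17 ye48 ze3) (ke xe21 ye45 ze47) (ke xe17 ye59 ze47) (ke xe28 ye1 ze39) (ke xe18 ye38 ze2) (ke xe15 ye25 ze7) (ke xe27 ye44 ze16) (ke xe31 ye34 ze39)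 (ke xe17 ye42 ze15) (ke xe15 ye25 ze9) (ke xe17 ye50 ze44) (ke xe26 ye55 ze20) (ke xe15 ye25 ze13) (ke xe21 ye51 ze25) (ke xe29 ye43 ze54) (ke xe15 ye25 ze14) (ke xe26 ye58 ze40) (ke xe19 ye48 ze38) (ke xe26 ye5 ze47) (ke xe21 ye51 ze32) (ke xe15 ye25 ze17) (ke xe21 ye44 ze19) (ke xe17 ye51 ze26) (ke xe29 ye14 ze0) (ke xe17 ye51 ze32) (ke xe15 ye25 ze34) (ke xe29 ye57 ze26) (ke xe30 ye14 ze41) (ke xe31 ye50 ze13) (ke xe21 ye38 ze21) (ke xe17 ye52 ze2) (ke xe27 ye44 ze13) (ke xe15 ye25 ze48) (ke xe31 ye50 ze14) (ke xe20 ye15 ze37) (ke xe16 ye35 ze28) (ke xe26 ye23 ze5) (ke xe21 ye18 ze44) (ke xe22 ye47 ze11) (ke xe20 ye51 ze43) (ke xe25 ye23 ze49) (ke xe18 ye25 ze35) (ke xe15 ye25 ze58) (ke xe25 ye16 ze59) (ke xe25 ye23 ze19) (ke xe24 ye58 ze28)) (@D3.rec (fun _ => Pt)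 (ke xe28 ye32 ze10) (ke xe25 ye23 ze22) (ke xe31 ye49 ze59) (ke xe31 ye50 ze23) (ke xe30 ye21 ze56) (ke xe22 ye23 ze36) (ke xe16 ye59 ze29) (ke xe21 ye42 ze5) (ke xe15 ye26 ze14) (ke xe20 ye35 ze56) (ke xe15 ye26 ze15) (ke xe15 ye26 ze21) (ke xe23 ye32 ze3) (ke xe19 ye1 ze20) (ke xe15 ye26 ze25) (ke xe20 ye32 ze42) (ke xe15 ye26 ze24) (ke xe22 ye32 ze0) (ke xe15 ye26 ze29) (ke xe23 ye49 ze23) (ke xe15 ye26 ze32) (ke xe16 ye28 ze6) (ke xe15 ye26 ze33) (ke xe26 ye48 ze42) (ke xe18 ye23 ze39) (ke xe15 ye26 ze36) (ke xe30 ye25 ze1) (ke xe20 ye49 ze14) (ke xe31 ye50 ze26) (ke xe15 ye26 ze37) (ke xe15 ye26 ze38) (ke xe18 ye45 ze7) (ke xe15 ye26 ze41) (ke xe15 ye26 ze43) (ke xe15 ye26 ze48) (ke xe31 ye50 ze28) (ke xe15 ye26 ze54) (ke xe18 ye42 ze10) (ke xe31 ye50 ze29) (ke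 xe15 ye26 ze57) (ke xe27 ye15 ze27) (ke xe15 ye26 ze60) (ke xe30 ye43 ze23) (ke xe31 ye50 ze33) (ke xe21 ye10 ze22) (ke xe16 ye44 ze16) (ke xe19 ye18 ze59) (ke xe31 ye50 ze35) (ke xe15 ye27 ze3) (ke xe27 ye8 ze24) (ke xe27 ye39 ze24) (ke xe28 ye55 ze61) (ke xe19 ye25 ze51) (ke xe21 ye50 ze43) (ke xe18 ye25 ze19) (ke xe25 ye16 ze33) (ke xe21 ye59 ze8) (ke xe15 ye27 ze14) (ke xe15 ye27 ze15) (ke xe27 ye36 ze21) (ke xe21 ye34 ze44) (ke xe15 ye27 ze19)) (@D3.rec (fun _ => Pt) (ke xe23 ye29 ze1) (ke xe20 ye22 ze19) (ke xe21 ye41 ze3) (ke xe21 ye44 ze43) (ke xe27 ye35 ze45) (ke xe24 ye50 ze15) (ke xe27 ye38 ze16) (ke xe15 ye27 ze27) (ke xe29 ye17 ze53) (ke xe24 ye52 ze39) (ke xe29 ye5 ze50) (ke xe15 ye27 ze29) (ke xe20 ye5 ze14) (ke xe19 ye45 ze7) (ke xe31 ye50 ze41) (ke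 xe15 ye27 ze30) (ke xe15 ye27 ze31) (ke xe24 ye48 ze49) (ke xe31 ye50 ze45) (ke xe15 ye28 ze57) (ke xe31 ye50 ze50) (ke xe31 ye50 ze51) (ke xe15 ye27 ze35) (ke xe20 ye53 ze40) (ke xe31 ye21 ze23) (ke xe24 ye33 ze30) (ke xe15 ye27 ze36) (ke xe31 ye50 ze52) (ke xe28 ye51 ze48) (ke xe28 ye46 ze60) (ke xe15 ye27 ze38) (ke xe15 ye27 ze39) (ke xe31 ye40 ze51) (ke xe31 ye50 ze57) (ke xe20 ye58 ze37) (ke xe19 ye42 ze53) (ke xe26 ye3 ze14) (ke xe27 ye37 ze21) (ke xe19 ye36 ze8) (ke xe15 ye51 ze26) (ke xe15 ye27 ze47) (ke xe19 ye50 ze31) (ke xe15 ye27 ze55) (ke xe28 ye51 ze24) (ke xe29 ye13 ze5) (ke xe24 ye48 ze44) (ke xe27 ye37 ze41) (ke xe15 ye27 ze56) (ke xe24 ye51 ze1) (ke xe15 ye27 ze59) (ke xe15 ye27 ze60) (ke xe31 ye28 ze17) (ke xe26 ye52 ze44) (ke xe15 ye28 ze0) (ke xe30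 ye3 ze18) (ke xe29 ye6 ze18) (ke xe15 ye28 ze1) (ke xe29 ye10 ze53) (ke xe15 ye28 ze3) (ke xe24 ye49 ze43) (ke xe31 ye51 ze2) (ke xe29 ye32 ze41)) (@D3.rec (fun _ => Pt) (ke xe15 ye28 ze5) (ke xe31 ye51 ze3) (ke xe16 ye37 ze54) (ke xe15 ye28 ze9) (ke xe31 ye50 ze40) (ke xe22 ye21 ze38) (ke xe31 ye40 ze24) (ke xe15 ye28 ze8) (ke xe31 ye51 ze5) (ke xe21 ye40 ze37) (ke xe25 ye22 ze1) (ke xe24 ye49 ze58) (ke xe24 ye11 ze18) (ke xe28 ye58 ze14) (ke xe16 ye37 ze5) (ke xe31 ye51 ze6) (ke xe15 ye28 ze15) (ke xe25 ye9 ze45) (ke xe31 ye49 ze54) (ke xe15 ye28 ze17) (ke xe15 ye28 ze18) (ke xe15 ye28 ze19) (ke xe28 ye51 ze23) (ke xe31 ye51 ze9) (ke xe29 ye35 ze57) (ke xe29 ye15 ze5) (ke xe31 ye51 ze12) (ke xe15 ye28 ze24) (ke xe31 ye50 ze39) (ke xe29 ye11 ze20) (ke xe31 ye51 ze17)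 (ke xe15 ye28 ze23) (ke xe31 ye39 ze40) (ke xe24 ye4 ze29) (ke xe28 ye51 ze40) (ke xe24 ye32 ze26) (ke xe15 ye47 ze34) (ke xe15 ye28 ze26) (ke xe30 ye40 ze0) (ke xe31 ye51 ze19) (ke xe31 ye51 ze20) (ke xe15 ye28 ze28) (ke xe19 ye42 ze47) (ke xe20 ye37 ze49) (ke xe15 ye28 ze30) (ke xe24 ye50 ze37) (ke xe19 ye4 ze37) (ke xe15 ye28 ze32) (ke xe15 ye28 ze33) (ke xe24 ye39 ze56) (ke xe31 ye28 ze20) (ke xe31 ye51 ze28) (ke xe27 ye37 ze5) (ke xe31 ye48 ze28) (ke xe15 ye28 ze35) (ke xe31 ye51 ze39) (ke xe29 ye43 ze37) (ke xe15 ye28 ze40) (ke xe27 ye37 ze13) (ke xe24 ye51 ze5) (ke xe30 ye21 ze23) (ke xe31 ye51 ze47)) (@D3.rec (fun _ => Pt) (ke xe31 ye51 ze48) (ke xe15 ye28 ze39) (ke xe31 ye51 ze51) (ke xe31 ye51 ze43) (ke xe31 ye51 ze54) (ke xe24 ye51 ze12) (ke xe30 ye28 ze30)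 (ke xe31 ye20 ze5) (ke xe15 ye28 ze45) (ke xe24 ye50 ze50) (ke xe15 ye28 ze49) (ke xe15 ye28 ze50) (ke xe31 ye35 ze20) (ke xe16 ye57 ze58) (ke xe25 ye56 ze46) (ke xe31 ye51 ze59) (ke xe26 ye37 ze60) (ke xe15 ye28 ze56) (ke xe31 ye50 ze46) (ke xe24 ye4 ze33) (ke xe15 ye28 ze54) (ke xe24 ye50 ze45) (ke xe26 ye54 ze45) (ke xe31 ye52 ze0) (ke xe31 ye52 ze5) (ke xe19 ye32 ze61) (ke xe26 ye54 ze39) (ke xe19 ye38 ze41) (ke xe15 ye28 ze59) (ke xe24 ye49 ze4) (ke xe15 ye28 ze61) (ke xe28 ye45 ze32) (ke xe28 ye59 ze42) (ke xe31 ye52 ze7) (ke xe28 ye37 ze0) (ke xe31 ye52 ze17) (ke xe15 ye29 ze1) (ke xe24 ye51 ze40) (ke xe29 ye43 ze41) (ke xe15 ye29 ze3) (ke xe28 ye37 ze11) (ke xe31 ye52 ze25) (ke xe28 ye15 ze47) (ke xe31 ye52 ze28) (ke xe31 ye52 ze30) (ke xe31 ye52 ze32) (ke xe15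 ye29 ze6) (ke xe28 ye40 ze43) (ke xe31 ye52 ze35) (ke xe31 ye52 ze37) (ke xe31 ye24 ze21) (ke xe15 ye29 ze8) (ke xe24 ye51 ze49) (ke xe15 ye29 ze9) (ke xe31 ye52 ze39) (ke xe15 ye29 ze10) (ke xe19 ye47 ze17) (ke xe31 ye52 ze41) (ke xe18 ye2 ze19) (ke xe29 ye27 ze15) (ke xe24 ye33 ze19) (ke xe15 ye29 ze14)) (@D3.rec (fun _ => Pt) (ke xe15 ye29 ze15) (ke xe25 ye20 ze10) (ke xe31 ye1 ze47) (ke xe15 ye29 ze16) (ke xe24 ye23 ze55) (ke xe24 ye23 ze59) (ke xe15 ye29 ze17) (ke xe31 ye46 ze57) (ke xe15 ye29 ze18) (ke xe31 ye39 ze43) (ke xe31 ye52 ze48) (ke xe15 ye29 ze20) (ke xe26 ye9 ze51) (ke xe31 ye51 ze35) (ke xe15 ye29 ze22) (ke xe31 ye52 ze52) (ke xe19 ye57 ze55) (ke xe20 ye55 ze55) (ke xe31 ye46 ze0) (ke xe26 ye34 ze21) (ke xe31 ye40 ze46) (ke xe20 ye56 ze16) (ke xe19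 ye58 ze15) (ke xe19 ye36 ze3) (ke xe31 ye52 ze56) (ke xe31 ye43 ze51) (ke xe29 ye47 ze35) (ke xe28 ye54 ze24) (ke xe20 ye55 ze46) (ke xe31 ye52 ze57) (ke xe31 ye41 ze17) (ke xe15 ye29 ze27) (ke xe26 ye34 ze43) (ke xe31 ye40 ze1) (ke xe15 ye29 ze28) (ke xe15 ye29 ze29) (ke xe19 ye57 ze57) (ke xe19 ye59 ze24) (ke xe15 ye29 ze32) (ke xe31 ye52 ze59) (ke xe28 ye51 ze22) (ke xe15 ye29 ze31) (ke xe29 ye36 ze5) (ke xe24 ye52 ze50) (ke xe15 ye29 ze33) (ke xe16 ye9 ze30) (ke xe19 ye20 ze22) (ke xe15 ye29 ze38) (ke xe20 ye3 ze43) (ke xe30 ye31 ze54) (ke xe29 ye38 ze18) (ke xe21 ye21 ze30) (ke xe25 ye9 ze57) (ke xe25 ye8 ze37) (ke xe31 ye27 ze14) (ke xe31 ye48 ze52) (ke xe15 ye29 ze46) (ke xe28 ye47 ze1) (ke xe15 ye29 ze49) (ke xe25 ye29 ze48) (ke xe31 ye49 ze7) (ke xe15 ye29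 ze54)) (@D3.rec (fun _ => Pt) (ke xe21 ye1 ze56) (ke xe24 ye17 ze44) (ke xe31 ye53 ze9) (ke xe31 ye53 ze4) (ke xe26 ye46 ze54) (ke xe28 ye59 ze21) (ke xe23 ye47 ze30) (ke xe15 ye29 ze56) (ke xe17 ye27 ze23) (ke xe15 ye29 ze57) (ke xe15 ye30 ze0) (ke xe22 ye28 ze12) (ke xe19 ye5 ze57) (ke xe26 ye22 ze48) (ke xe21 ye18 ze21) (ke xe21 ye18 ze25) (ke xe15 ye29 ze61) (ke xe31 ye8 ze53) (ke xe22 ye44 ze50) (ke xe25 ye17 ze60) (ke xe19 ye18 ze35) (ke xe23 ye29 ze59) (ke xe25 ye18 ze1) (ke xe15 ye30 ze5) (ke xe29 ye52 ze31) (ke xe31 ye53 ze12) (ke xe15 ye30 ze6) (ke xe15 ye30 ze11) (ke xe15 ye30 ze12) (ke xe16 ye47 ze7) (ke xe17 ye55 ze61) (ke xe28 ye59 ze45) (ke xe15 ye30 ze16) (ke xe19 ye50 ze13) (ke xe24 ye52 ze17) (ke xe31 ye50 ze44) (ke xe16 ye51 ze33) (ke xe17 ye56 ze44)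 (ke xe20 ye28 ze30) (ke xe24 ye20 ze36) (ke xe25 ye40 ze22) (ke xe15 ye30 ze31) (ke xe24 ye22 ze50) (ke xe29 ye18 ze6) (ke xe29 ye43 ze45) (ke xe29 ye43 ze46) (ke xe17 ye57 ze55) (ke xe15 ye30 ze37) (ke xe29 ye13 ze42) (ke xe25 ye17 ze56) (ke xe29 ye13 ze44) (ke xe30 ye45 ze48) (ke xe24 ye28 ze61) (ke xe30 ye35 ze12) (ke xe20 ye0 ze9) (ke xe17 ye45 ze39) (ke xe25 ye34 ze60) (ke xe15 ye30 ze60) (ke xe23 ye58 ze4) (ke xe31 ye14 ze30) (ke xe27 ye2 ze47) (ke xe15 ye31 ze0)) (@D3.rec (fun _ => Pt) (ke xe23 ye20 ze17) (ke xe29 ye20 ze36) (ke xe23 ye43 ze32) (ke xe31 ye53 ze20) (ke xe28 ye9 ze5) (ke xe20 ye19 ze1) (ke xe31 ye53 ze23) (ke xe17 ye21 ze59) (ke xe29 ye37 ze13) (ke xe15 ye31 ze6) (ke xe28 ye57 ze15) (ke xe24 ye57 ze43) (ke xe15 ye31 ze9) (ke xe24 ye34 ze47) (ke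 xe15 ye40 ze6) (ke xe19 ye37 ze54) (ke xe15 ye31 ze14) (ke xe15 ye31 ze13) (ke xe19 ye46 ze21) (ke xe19 ye31 ze21) (ke xe31 ye21 ze58) (ke xe15 ye31 ze17) (ke xe19 ye45 ze10) (ke xe15 ye31 ze19) (ke xe25 ye4 ze17) (ke xe31 ye53 ze27) (ke xe15 ye31 ze21) (ke xe23 ye0 ze55) (ke xe30 ye12 ze30) (ke xe15 ye31 ze22) (ke xe24 ye16 ze27) (ke xe24 ye11 ze27) (ke xe15 ye33 ze53) (ke xe31 ye28 ze54) (ke xe15 ye40 ze58) (ke xe15 ye31 ze29) (ke xe25 ye4 ze37) (ke xe15 ye31 ze31) (ke xe24 ye39 ze60) (ke xe31 ye20 ze44) (ke xe26 ye24 ze42) (ke xe27 ye39 ze4) (ke xe16 ye46 ze0) (ke xe24 ye39 ze28) (ke xe20 ye43 ze19) (ke xe15 ye31 ze40) (ke xe30 ye55 ze4) (ke xe15 ye31 ze41) (ke xe15 ye31 ze42) (ke xe15 ye31 ze43) (ke xe25 ye5 ze23) (ke xe22 ye9 ze28) (ke xe26 ye30 ze60) (ke xe15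 ye31 ze49) (ke xe20 ye3 ze27) (ke xe30 ye6 ze25) (ke xe19 ye40 ze52) (ke xe31 ye53 ze33) (ke xe15 ye31 ze51) (ke xe23 ye13 ze31) (ke xe31 ye53 ze35) (ke xe16 ye7 ze6)) (@D3.rec (fun _ => Pt) (ke xe30 ye26 ze53) (ke xe19 ye30 ze45) (ke xe15 ye31 ze53) (ke xe17 ye11 ze57) (ke xe30 ye26 ze48) (ke xe16 ye46 ze47) (ke xe30 ye50 ze11) (ke xe30 ye12 ze12) (ke xe23 ye56 ze55) (ke xe15 ye40 ze7) (ke xe25 ye25 ze40) (ke xe17 ye11 ze38) (ke xe15 ye31 ze57) (ke xe15 ye31 ze59) (ke xe31 ye48 ze59) (ke xe17 ye34 ze13) (ke xe15 ye31 ze61) (ke xe26 ye33 ze33) (ke xe21 ye40 ze6) (ke xe15 ye32 ze3) (ke xe26 ye21 ze52) (ke xe31 ye53 ze39) (ke xe19 ye59 ze0) (ke xe15 ye32 ze5) (ke xe24 ye5 ze11) (ke xe30 ye23 ze6) (ke xe20 ye10 ze34) (ke xe29 ye19 ze55) (ke xe15 ye32 ze8) (ke xe20 ye38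 ze30) (ke xe16 ye25 ze28) (ke xe31 ye37 ze59) (ke xe19 ye19 ze53) (ke xe22 ye51 ze44) (ke xe28 ye38 ze58) (ke xe21 ye53 ze23) (ke xe20 ye11 ze54) (ke xe31 ye53 ze42) (ke xe23 ye5 ze59) (ke xe15 ye32 ze15) (ke xe25 ye25 ze10) (ke xe18 ye4 ze15) (ke xe24 ye3 ze11) (ke xe30 ye0 ze13) (ke xe15 ye32 ze21) (ke xe26 ye25 ze36) (ke xe22 ye54 ze49) (ke xe15 ye32 ze23) (ke xe31 ye30 ze55) (ke xe19 ye37 ze1) (ke xe15 ye32 ze28) (ke xe30 ye43 ze19) (ke xe26 ye45 ze8) (ke xe30 ye20 ze3) (ke xe16 ye45 ze41) (ke xe25 ye43 ze42) (ke xe16 ye45 ze50) (ke xe17 ye25 ze6) (ke xe16 ye26 ze60) (ke xe16 ye27 ze28) (ke xe30 ye56 ze16) (ke xe15 ye32 ze40)) (@D3.rec (fun _ => Pt) (ke xe19 ye49 ze52) (ke xe15 ye32 ze41) (ke xe29 ye16 ze54) (ke xe15 ye58 ze47) (ke xe20 ye50 ze16) (ke xe19 ye40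 ze55) (ke xe15 ye32 ze48) (ke xe30 ye46 ze10) (ke xe31 ye39 ze51) (ke xe15 ye59 ze24) (ke xe15 ye32 ze53) (ke xe30 ye6 ze45) (ke xe15 ye32 ze54) (ke xe26 ye39 ze18) (ke xe22 ye11 ze22) (ke xe20 ye40 ze12) (ke xe15 ye32 ze56) (ke xe24 ye12 ze28) (ke xe30 ye6 ze46) (ke xe31 ye53 ze49) (ke xe19 ye46 ze27) (ke xe20 ye18 ze8) (ke xe31 ye53 ze50) (ke xe15 ye32 ze60) (ke xe31 ye53 ze53) (ke xe15 ye32 ze61) (ke xe25 ye31 ze38) (ke xe31 ye53 ze57) (ke xe18 ye12 ze22) (ke xe31 ye25 ze1) (ke xe31 ye53 ze60) (ke xe29 ye24 ze21) (ke xe15 ye33 ze2) (ke xe29 ye58 ze59) (ke xe26 ye58 ze58) (ke xe18 ye51 ze3) (ke xe31 ye53 ze61) (ke xe15 ye33 ze4) (ke xe15 ye39 ze2) (ke xe30 ye18 ze45) (ke xe15 ye33 ze6) (ke xe31 ye54 ze1) (ke xe28 ye53 ze38) (ke xe29 ye24 ze25) (ke xe15 ye33 ze8) (ke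 xe20 ye43 ze55) (ke xe18 ye54 ze21) (ke xe20 ye11 ze48) (ke xe15 ye38 ze12) (ke xe15 ye33 ze12) (ke xe15 ye33 ze14) (ke xe29 ye3 ze53) (ke xe15 ye33 ze17) (ke xe24 ye17 ze51) (ke xe28 ye19 ze36) (ke xe15 ye33 ze21) (ke xe27 ye17 ze40) (ke xe27 ye11 ze28) (ke xe21 ye46 ze26) (ke xe15 ye33 ze24) (ke xe31 ye54 ze4) (ke xe27 ye14 ze60)) (@D3.rec (fun _ => Pt) (ke xe28 ye9 ze15) (ke xe15 ye33 ze27) (ke xe15 ye33 ze32) (ke xe15 ye37 ze13) (ke xe24 ye30 ze42) (ke xe29 ye3 ze47) (ke xe31 ye54 ze6) (ke xe31 ye46 ze4) (ke xe17 ye28 ze24) (ke xe29 ye5 ze17) (ke xe31 ye28 ze0) (ke xe15 ye33 ze36) (ke xe25 ye7 ze51) (ke xe15 ye33 ze37) (ke xe22 ye4 ze49) (ke xe15 ye33 ze38) (ke xe29 ye37 ze19) (ke xe25 ye55 ze57) (ke xe15 ye33 ze39) (ke xe15 ye35 ze45) (ke xe15 ye33 ze42) (ke xe25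 ye29 ze4) (ke xe22 ye3 ze51) (ke xe29 ye36 ze23) (ke xe15 ye53 ze6) (ke xe26 ye36 ze55) (ke xe31 ye43 ze42) (ke xe15 ye33 ze46) (ke xe30 ye45 ze12) (ke xe15 ye33 ze49) (ke xe24 ye16 ze48) (ke xe15 ye33 ze54) (ke xe15 ye38 ze57) (ke xe17 ye28 ze3) (ke xe31 ye54 ze10) (ke xe25 ye57 ze18) (ke xe31 ye41 ze23) (ke xe31 ye19 ze39) (ke xe30 ye18 ze59) (ke xe31 ye38 ze43) (ke xe15 ye33 ze60) (ke xe29 ye23 ze51) (ke xe15 ye33 ze61) (ke xe26 ye42 ze34) (ke xe25 ye56 ze59) (ke xe17 ye57 ze36) (ke xe15 ye38 ze6) (ke xe27 ye15 ze36) (ke xe15 ye34 ze2) (ke xe25 ye31 ze37) (ke xe15 ye34 ze6) (ke xe15 ye53 ze0) (ke xe27 ye47 ze12) (ke xe15 ye34 ze8) (ke xe24 ye39 ze30) (ke xe29 ye34 ze37) (ke xe23 ye1 ze26) (ke xe25 ye58 ze50) (ke xe29 ye23 ze31) (ke xe19 ye26 ze3) (ke xe27 ye46 ze51)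 (ke xe29 ye36 ze0)) (@D3.rec (fun _ => Pt) (ke xe16 ye16 ze8) (ke xe25 ye54 ze1) (ke xe30 ye55 ze38) (ke xe24 ye43 ze52) (ke xe24 ye43 ze53) (ke xe24 ye37 ze38) (ke xe15 ye34 ze17) (ke xe31 ye37 ze27) (ke xe21 ye46 ze17) (ke xe15 ye39 ze33) (ke xe21 ye17 ze55) (ke xe21 ye2 ze3) (ke xe15 ye34 ze22) (ke xe25 ye54 ze21) (ke xe28 ye42 ze18) (ke xe25 ye11 ze37) (ke xe15 ye34 ze23) (ke xe30 ye20 ze0) (ke xe27 ye11 ze1) (ke xe31 ye46 ze31) (ke xe15 ye34 ze24) (ke xe19 ye36 ze59) (ke xe25 ye54 ze30) (ke xe17 ye57 ze24) (ke xe15 ye34 ze28) (ke xe31 ye54 ze22) (ke xe15 ye34 ze29) (ke xe29 ye50 ze23) (ke xe15 ye34 ze32) (ke xe28 ye37 ze24) (ke xe16 ye19 ze43) (ke xe15 ye34 ze33) (ke xe31 ye53 ze58) (ke xe17 ye57 ze40) (ke xe15 ye34 ze34) (ke xe18 ye59 ze36) (ke xe16 ye29 ze10)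 (ke xe25 ye46 ze44) (ke xe16 ye28 ze57) (ke xe27 ye12 ze60) (ke xe15 ye34 ze37) (ke xe16 ye19 ze1) (ke xe15 ye40 ze55) (ke xe28 ye57 ze11) (ke xe19 ye38 ze59) (ke xe25 ye3 ze46) (ke xe30 ye12 ze38) (ke xe26 ye18 ze19) (ke xe21 ye50 ze5) (ke xe23 ye34 ze43) (ke xe27 ye17 ze14) (ke xe27 ye26 ze8) (ke xe31 ye38 ze12) (ke xe26 ye11 ze25) (ke xe31 ye54 ze29) (ke xe15 ye34 ze47) (ke xe16 ye15 ze12) (ke xe27 ye55 ze58) (ke xe27 ye24 ze38) (ke xe27 ye26 ze49) (ke xe17 ye40 ze51) (ke xe17 ye48 ze47)) (@D3.rec (fun _ => Pt) (ke xe16 ye1 ze33) (ke xe31 ye54 ze31) (ke xe15 ye36 ze57) (ke xe15 ye34 ze58) (ke xe25 ye27 ze21) (ke xe31 ye29 ze28) (ke xe25 ye34 ze19) (ke xe15 ye34 ze59) (ke xe28 ye22 ze35) (ke xe25 ye57 ze17) (ke xe15 ye35 ze3) (ke xe24 ye41 ze18) (ke xe31 ye1 ze56)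 (ke xe15 ye35 ze5) (ke xe25 ye48 ze35) (ke xe27 ye45 ze44) (ke xe25 ye36 ze59) (ke xe25 ye55 ze2) (ke xe19 ye24 ze50) (ke xe19 ye45 ze37) (ke xe30 ye16 ze45) (ke xe24 ye9 ze40) (ke xe15 ye35 ze18) (ke xe21 ye27 ze2) (ke xe31 ye54 ze35) (ke xe15 ye35 ze19) (ke xe29 ye50 ze38) (ke xe25 ye50 ze4) (ke xe30 ye56 ze24) (ke xe31 ye27 ze42) (ke xe22 ye6 ze47) (ke xe19 ye36 ze31) (ke xe15 ye35 ze25) (ke xe31 ye54 ze37) (ke xe19 ye36 ze33) (ke xe25 ye31 ze25) (ke xe24 ye30 ze43) (ke xe17 ye14 ze43) (ke xe31 ye53 ze46) (ke xe15 ye35 ze28) (ke xe22 ye27 ze55) (ke xe27 ye45 ze52) (ke xe31 ye54 ze40) (ke xe15 ye35 ze29) (ke xe15 ye35 ze30) (ke xe19 ye26 ze50) (ke xe27 ye6 ze14) (ke xe25 ye53 ze32) (ke xe25 ye22 ze59) (ke xe31 ye54 ze41) (ke xe31 ye49 ze9) (ke xe15 ye35 ze32) (ke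 xe24 ye55 ze49) (ke xe15 ye35 ze33) (ke xe28 ye44 ze49) (ke xe25 ye55 ze50) (ke xe15 ye36 ze44) (ke xe30 ye8 ze46) (ke xe25 ye48 ze47) (ke xe15 ye35 ze36) (ke xe25 ye55 ze47) (ke xe31 ye54 ze48)) (@D3.rec (fun _ => Pt) (ke xe22 ye11 ze30) (ke xe31 ye48 ze43) (ke xe31 ye54 ze51) (ke xe15 ye35 ze39) (ke xe29 ye34 ze54) (ke xe15 ye35 ze40) (ke xe24 ye36 ze52) (ke xe30 ye6 ze35) (ke xe15 ye35 ze44) (ke xe27 ye21 ze53) (ke xe25 ye55 ze58) (ke xe31 ye34 ze40) (ke xe23 ye28 ze0) (ke xe31 ye4 ze53) (ke xe29 ye5 ze45) (ke xe18 ye55 ze25) (ke xe31 ye45 ze49) (ke xe29 ye4 ze48) (ke xe21 ye27 ze19) (ke xe25 ye30 ze37) (ke xe19 ye46 ze22) (ke xe15 ye35 ze61) (ke xe17 ye28 ze23) (ke xe28 ye58 ze0) (ke xe29 ye5 ze14) (ke xe25 ye5 ze3) (ke xe24 ye41 ze17) (ke xe30 ye8 ze35) (ke xe31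 ye55 ze0) (ke xe31 ye55 ze2) (ke xe15 ye35 ze56) (ke xe31 ye24 ze44) (ke xe15 ye35 ze57) (ke xe31 ye55 ze3) (ke xe29 ye3 ze52) (ke xe27 ye18 ze37) (ke xe31 ye3 ze27) (ke xe25 ye30 ze19) (ke xe15 ye35 ze60) (ke xe19 ye46 ze1) (ke xe19 ye45 ze42) (ke xe31 ye54 ze57) (ke xe30 ye18 ze51) (ke xe30 ye9 ze32) (ke xe15 ye36 ze0) (ke xe19 ye36 ze1) (ke xe24 ye17 ze17) (ke xe29 ye5 ze10) (ke xe31 ye18 ze3) (ke xe23 ye41 ze42) (ke xe15 ye36 ze6) (ke xe19 ye50 ze49) (ke xe15 ye36 ze10) (ke xe24 ye17 ze59) (ke xe19 ye15 ze27) (ke xe30 ye48 ze46) (ke xe16 ye2 ze17) (ke xe15 ye36 ze15) (ke xe17 ye25 ze23) (ke xe23 ye45 ze50) (ke xe15 ye36 ze19) (ke xe18 ye46 ze55)) (@D3.rec (fun _ => Pt) (ke xe20 ye14 ze33) (ke xe26 ye34 ze6) (ke xe16 ye41 ze59) (ke xe30 ye4 ze9) (ke xe30 ye8 ze44)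 (ke xe15 ye36 ze31) (ke xe18 ye50 ze44) (ke xe20 ye36 ze21) (ke xe21 ye27 ze12) (ke xe27 ye36 ze38) (ke xe15 ye36 ze37) (ke xe21 ye52 ze5) (ke xe31 ye53 ze41) (ke xe30 ye36 ze50) (ke xe16 ye48 ze38) (ke xe31 ye36 ze45) (ke xe15 ye36 ze41) (ke xe19 ye5 ze23) (ke xe15 ye36 ze43) (ke xe31 ye54 ze42) (ke xe25 ye13 ze6) (ke xe30 ye7 ze53) (ke xe31 ye45 ze57) (ke xe31 ye35 ze60) (ke xe15 ye36 ze54) (ke xe25 ye29 ze35) (ke xe29 ye59 ze1) (ke xe25 ye39 ze49) (ke xe28 ye58 ze8) (ke xe22 ye0 ze13) (ke xe23 ye56 ze53) (ke xe15 ye36 ze55) (ke xe15 ye36 ze56) (ke xe31 ye54 ze32) (ke xe31 ye55 ze18) (ke xe15 ye36 ze61) (ke xe25 ye56 ze32) (ke xe25 ye27 ze49) (ke xe25 ye26 ze26) (ke xe19 ye31 ze33) (ke xe17 ye14 ze44) (ke xe28 ye28 ze53) (ke xe15 ye37 ze3) (ke xe15 ye37 ze4) (ke xe31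 ye39 ze24) (ke xe15 ye37 ze5) (ke xe25 ye13 ze12) (ke xe26 ye44 ze43) (ke xe15 ye37 ze7) (ke xe31 ye13 ze1) (ke xe26 ye37 ze7) (ke xe31 ye55 ze22) (ke xe25 ye41 ze53) (ke xe25 ye4 ze46) (ke xe15 ye37 ze14) (ke xe31 ye20 ze25) (ke xe19 ye34 ze60) (ke xe25 ye8 ze48) (ke xe15 ye37 ze15) (ke xe29 ye51 ze5) (ke xe29 ye34 ze48) (ke xe28 ye58 ze27)) (@D3.rec (fun _ => Pt) (ke xe30 ye14 ze25) (ke xe24 ye11 ze56) (ke xe26 ye38 ze20) (ke xe15 ye37 ze20) (ke xe16 ye37 ze44) (ke xe26 ye11 ze14) (ke xe30 ye15 ze57) (ke xe29 ye45 ze3) (ke xe15 ye37 ze22) (ke xe26 ye1 ze4) (ke xe24 ye17 ze16) (ke xe26 ye5 ze0) (ke xe19 ye53 ze47) (ke xe16 ye39 ze48) (ke xe22 ye10 ze38) (ke xe30 ye47 ze58) (ke xe26 ye57 ze29) (ke xe15 ye37 ze26) (ke xe28 ye40 ze5) (ke xe23 ye51 ze51) (ke xe18 ye55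 ze59) (ke xe31 ye55 ze34) (ke xe31 ye55 ze35) (ke xe15 ye37 ze29) (ke xe31 ye28 ze40) (ke xe28 ye21 ze61) (ke xe15 ye37 ze36) (ke xe30 ye48 ze54) (ke xe19 ye29 ze34) (ke xe22 ye19 ze29) (ke xe31 ye55 ze47) (ke xe15 ye37 ze32) (ke xe30 ye25 ze49) (ke xe27 ye12 ze5) (ke xe18 ye42 ze3) (ke xe16 ye29 ze46) (ke xe24 ye9 ze31) (ke xe17 ye20 ze16) (ke xe19 ye29 ze38) (ke xe27 ye24 ze23) (ke xe15 ye37 ze39) (ke xe16 ye16 ze7) (ke xe29 ye59 ze56) (ke xe26 ye19 ze52) (ke xe17 ye39 ze6) (ke xe15 ye37 ze42) (ke xe27 ye1 ze39) (ke xe31 ye55 ze51) (ke xe25 ye38 ze37) (ke xe25 ye3 ze48) (ke xe27 ye19 ze45) (ke xe30 ye48 ze11) (ke xe15 ye37 ze49) (ke xe21 ye56 ze6) (ke xe31 ye55 ze53) (ke xe21 ye39 ze35) (ke xe21 ye8 ze44) (ke xe22 ye53 ze27) (ke xe15 ye37 ze52) (ke xe27 ye46 ze16)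 (ke xe25 ye7 ze13) (ke xe31 ye55 ze55)) (@D3.rec (fun _ => Pt) (ke xe28 ye54 ze59) (ke xe15 ye37 ze59) (ke xe31 ye55 ze56) (ke xe24 ye23 ze0) (ke xe29 ye50 ze44) (ke xe30 ye24 ze28) (ke xe15 ye38 ze0) (ke xe15 ye59 ze45) (ke xe31 ye37 ze5) (ke xe15 ye38 ze1) (ke xe19 ye25 ze0) (ke xe15 ye38 ze5) (ke xe29 ye41 ze61) (ke xe17 ye27 ze58) (ke xe15 ye38 ze3) (ke xe15 ye38 ze4) (ke xe25 ye49 ze13) (ke xe29 ye12 ze42) (ke xe26 ye41 ze31) (ke xe23 ye11 ze61) (ke xe31 ye23 ze18) (ke xe31 ye41 ze47) (ke xe15 ye38 ze9) (ke xe30 ye26 ze40) (ke xe24 ye58 ze39) (ke xe22 ye9 ze10) (ke xe31 ye49 ze39) (ke xe15 ye38 ze20) (ke xe22 ye21 ze20) (ke xe21 ye17 ze61) (ke xe25 ye11 ze7) (ke xe15 ye38 ze14) (ke xe21 ye39 ze28) (ke xe31 ye56 ze1) (ke xe31 ye56 ze2) (ke xe15 ye38 ze15) (ke xe28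 ye57 ze28) (ke xe15 ye38 ze16) (ke xe29 ye59 ze10) (ke xe31 ye56 ze3) (ke xe15 ye38 ze18) (ke xe19 ye22 ze45) (ke xe27 ye30 ze11) (ke xe15 ye38 ze19) (ke xe26 ye6 ze15) (ke xe25 ye11 ze2) (ke xe25 ye9 ze32) (ke xe25 ye37 ze33) (ke xe15 ye38 ze23) (ke xe19 ye38 ze9) (ke xe25 ye57 ze26) (ke xe19 ye24 ze31) (ke xe25 ye44 ze5) (ke xe20 ye42 ze8) (ke xe15 ye38 ze28) (ke xe21 ye7 ze30) (ke xe27 ye31 ze35) (ke xe15 ye38 ze34) (ke xe17 ye42 ze10) (ke xe17 ye50 ze49) (ke xe15 ye38 ze39) (ke xe16 ye34 ze40)) (@D3.rec (fun _ => Pt) (ke xe31 ye39 ze27) (ke xe25 ye42 ze7) (ke xe21 ye10 ze16) (ke xe15 ye38 ze44) (ke xe22 ye2 ze36) (ke xe27 ye44 ze2) (ke xe15 ye38 ze47) (ke xe28 ye36 ze15) (ke xe15 ye38 ze49) (ke xe29 ye20 ze30) (ke xe31 ye56 ze8) (ke xe28 ye46 ze56) (ke xe15 ye38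 ze51) (ke xe27 ye2 ze54) (ke xe30 ye45 ze31) (ke xe15 ye38 ze53) (ke xe25 ye40 ze18) (ke xe26 ye45 ze23) (ke xe15 ye38 ze56) (ke xe25 ye29 ze6) (ke xe15 ye38 ze58) (ke xe15 ye38 ze60) (ke xe19 ye46 ze31) (ke xe15 ye39 ze0) (ke xe31 ye27 ze12) (ke xe15 ye39 ze1) (ke xe19 ye32 ze28) (ke xe20 ye29 ze43) (ke xe31 ye56 ze13) (ke xe15 ye39 ze10) (ke xe31 ye35 ze47) (ke xe24 ye27 ze28) (ke xe27 ye47 ze55) (ke xe31 ye56 ze14) (ke xe15 ye39 ze14) (ke xe30 ye7 ze11) (ke xe25 ye58 ze12) (ke xe28 ye23 ze34) (ke xe23 ye26 ze23) (ke xe15 ye39 ze19) (ke xe25 ye54 ze13) (ke xe31 ye7 ze29) (ke xe30 ye6 ze8) (ke xe25 ye51 ze24) (ke xe15 ye39 ze23) (ke xe24 ye41 ze8) (ke xe29 ye43 ze52) (ke xe15 ye59 ze49) (ke xe22 ye16 ze33) (ke xe15 ye39 ze32) (ke xe21 ye17 ze18) (ke xe31 ye56 ze15)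 (ke xe15 ye39 ze30) (ke xe24 ye42 ze8) (ke xe22 ye27 ze6) (ke xe24 ye3 ze17) (ke xe15 ye39 ze31) (ke xe30 ye54 ze61) (ke xe31 ye26 ze34) (ke xe27 ye30 ze16) (ke xe25 ye23 ze56) (ke xe15 ye39 ze38)) (@D3.rec (fun _ => Pt) (ke xe26 ye44 ze26) (ke xe15 ye39 ze44) (ke xe15 ye39 ze43) (ke xe31 ye47 ze61) (ke xe25 ye9 ze33) (ke xe27 ye30 ze17) (ke xe30 ye26 ze30) (ke xe17 ye52 ze19) (ke xe22 ye47 ze46) (ke xe18 ye29 ze54) (ke xe15 ye39 ze50) (ke xe31 ye56 ze18) (ke xe29 ye40 ze55) (ke xe25 ye53 ze61) (ke xe29 ye28 ze14) (ke xe31 ye56 ze19) (ke xe19 ye10 ze19) (ke xe15 ye39 ze55) (ke xe19 ye37 ze14) (ke xe19 ye37 ze16) (ke xe22 ye15 ze44) (ke xe15 ye39 ze57) (ke xe30 ye17 ze0) (ke xe31 ye56 ze21) (ke xe15 ye39 ze59) (ke xe30 ye49 ze19) (ke xe24 ye36 ze60) (ke xe31 ye56 ze23)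 (ke xe23 ye9 ze36) (ke xe26 ye45 ze10) (ke xe15 ye40 ze5) (ke xe31 ye53 ze25) (ke xe22 ye6 ze38) (ke xe29 ye37 ze31) (ke xe15 ye40 ze10) (ke xe28 ye21 ze5) (ke xe15 ye40 ze11) (ke xe31 ye35 ze9) (ke xe27 ye3 ze3) (ke xe30 ye46 ze17) (ke xe15 ye40 ze14) (ke xe31 ye12 ze60) (ke xe15 ye40 ze15) (ke xe21 ye16 ze21) (ke xe27 ye17 ze23) (ke xe27 ye10 ze53) (ke xe17 ye11 ze32) (ke xe16 ye2 ze13) (ke xe15 ye40 ze18) (ke xe24 ye8 ze43) (ke xe25 ye13 ze57) (ke xe31 ye45 ze60) (ke xe27 ye15 ze54) (ke xe24 ye8 ze46) (ke xe17 ye42 ze51) (ke xe29 ye48 ze34) (ke xe29 ye43 ze2) (ke xe15 ye40 ze25) (ke xe29 ye43 ze6) (ke xe20 ye35 ze13) (ke xe15 ye40 ze26) (ke xe28 ye48 ze24)) (@D3.rec (fun _ => Pt) (ke xe29 ye47 ze53) (ke xe15 ye51 ze50) (ke xe15 ye52 ze2) (ke xe17 ye26 ze52) (ke xe31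 ye56 ze27) (ke xe15 ye40 ze31) (ke xe27 ye3 ze1) (ke xe19 ye24 ze45) (ke xe18 ye51 ze34) (ke xe16 ye0 ze44) (ke xe16 ye46 ze38) (ke xe30 ye23 ze56) (ke xe18 ye55 ze23) (ke xe17 ye34 ze9) (ke xe22 ye59 ze35) (ke xe15 ye40 ze43) (ke xe28 ye57 ze8) (ke xe21 ye5 ze29) (ke xe31 ye45 ze22) (ke xe28 ye57 ze20) (ke xe25 ye57 ze57) (ke xe19 ye45 ze57) (ke xe31 ye45 ze23) (ke xe29 ye57 ze5) (ke xe22 ye54 ze51) (ke xe19 ye36 ze0) (ke xe27 ye12 ze56) (ke xe23 ye5 ze57) (ke xe15 ye40 ze56) (ke xe17 ye32 ze4) (ke xe27 ye59 ze11) (ke xe15 ye40 ze57) (ke xe20 ye43 ze60) (ke xe29 ye7 ze13) (ke xe15 ye41 ze3) (ke xe25 ye59 ze58) (ke xe21 ye48 ze25) (ke xe24 ye9 ze48) (ke xe16 ye14 ze9) (ke xe15 ye41 ze7) (ke xe16 ye8 ze56) (ke xe15 ye41 ze8) (ke xe16 ye14 ze11) (ke xe15 ye41 ze9) (ke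 xe24 ye37 ze33) (ke xe15 ye41 ze11) (ke xe31 ye56 ze39) (ke xe15 ye41 ze12) (ke xe29 ye4 ze60) (ke xe15 ye41 ze14) (ke xe29 ye16 ze36) (ke xe31 ye27 ze11) (ke xe15 ye41 ze15) (ke xe15 ye48 ze48) (ke xe15 ye41 ze19) (ke xe15 ye56 ze46) (ke xe15 ye48 ze0) (ke xe29 ye0 ze1) (ke xe15 ye41 ze23) (ke xe25 ye29 ze16) (ke xe27 ye19 ze43) (ke xe27 ye56 ze39)) (@D3.rec (fun _ => Pt) (ke xe29 ye49 ze34) (ke xe15 ye41 ze29) (ke xe22 ye45 ze57) (ke xe21 ye56 ze0) (ke xe19 ye26 ze29) (ke xe30 ye42 ze40) (ke xe21 ye27 ze59) (ke xe16 ye2 ze54) (ke xe30 ye8 ze61) (ke xe24 ye37 ze53) (ke xe31 ye36 ze17) (ke xe31 ye32 ze19) (ke xe29 ye5 ze58) (ke xe15 ye41 ze42) (ke xe21 ye6 ze38) (ke xe15 ye41 ze41) (ke xe31 ye56 ze50) (ke xe25 ye40 ze8) (ke xe31 ye56 ze47) (ke xe25 ye39 ze16) (ke xe30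 ye51 ze50) (ke xe15 ye41 ze45) (ke xe31 ye56 ze53) (ke xe31 ye56 ze54) (ke xe15 ye41 ze47) (ke xe15 ye41 ze48) (ke xe29 ye43 ze44) (ke xe31 ye41 ze13) (ke xe31 ye56 ze56) (ke xe15 ye41 ze53) (ke xe15 ye41 ze54) (ke xe15 ye41 ze55) (ke xe29 ye44 ze48) (ke xe25 ye33 ze47) (ke xe31 ye41 ze49) (ke xe19 ye38 ze7) (ke xe30 ye27 ze12) (ke xe31 ye21 ze19) (ke xe31 ye51 ze57) (ke xe20 ye53 ze41) (ke xe24 ye21 ze14) (ke xe15 ye42 ze1) (ke xe24 ye34 ze23) (ke xe15 ye43 ze57) (ke xe18 ye18 ze45) (ke xe23 ye43 ze51) (ke xe15 ye42 ze7) (ke xe26 ye1 ze30) (ke xe15 ye42 ze5) (ke xe21 ye56 ze12) (ke xe19 ye26 ze34) (ke xe16 ye47 ze49) (ke xe27 ye1 ze3) (ke xe15 ye42 ze9) (ke xe20 ye55 ze13) (ke xe23 ye22 ze25) (ke xe15 ye42 ze14) (ke xe21 ye2 ze13) (ke xe15 ye42 ze15) (ke xe31 ye57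 ze4) (ke xe26 ye1 ze37) (ke xe15 ye42 ze19)) (@D3.rec (fun _ => Pt) (ke xe30 ye33 ze23) (ke xe31 ye10 ze53) (ke xe31 ye57 ze5) (ke xe29 ye11 ze60) (ke xe23 ye23 ze37) (ke xe30 ye19 ze44) (ke xe30 ye20 ze14) (ke xe15 ye42 ze22) (ke xe15 ye42 ze23) (ke xe15 ye42 ze24) (ke xe31 ye57 ze12) (ke xe29 ye5 ze60) (ke xe15 ye43 ze51) (ke xe24 ye1 ze30) (ke xe15 ye42 ze27) (ke xe25 ye41 ze30) (ke xe19 ye26 ze38) (ke xe19 ye42 ze52) (ke xe25 ye38 ze43) (ke xe30 ye3 ze32) (ke xe31 ye57 ze14) (ke xe23 ye22 ze45) (ke xe24 ye34 ze26) (ke xe15 ye42 ze30) (ke xe26 ye47 ze25) (ke xe15 ye42 ze31) (ke xe18 ye27 ze49) (ke xe19 ye14 ze51) (ke xe15 ye42 ze32) (ke xe31 ye57 ze16) (ke xe19 ye14 ze33) (ke xe31 ye30 ze3) (ke xe15 ye42 ze35) (ke xe25 ye41 ze32) (ke xe23 ye40 ze30) (ke xe31 ye46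 ze9) (ke xe21 ye24 ze19) (ke xe25 ye32 ze48) (ke xe29 ye10 ze22) (ke xe24 ye20 ze27) (ke xe22 ye22 ze20) (ke xe15 ye44 ze42) (ke xe15 ye42 ze44) (ke xe25 ye38 ze18) (ke xe31 ye39 ze55) (ke xe25 ye40 ze5) (ke xe15 ye42 ze46) (ke xe26 ye47 ze6) (ke xe31 ye20 ze48) (ke xe31 ye9 ze12) (ke xe15 ye42 ze47) (ke xe31 ye8 ze61) (ke xe31 ye56 ze49) (ke xe15 ye42 ze59) (ke xe23 ye28 ze14) (ke xe26 ye0 ze43) (ke xe27 ye23 ze34) (ke xe15 ye42 ze52) (ke xe30 ye2 ze32) (ke xe20 ye34 ze56) (ke xe31 ye57 ze36) (ke xe15 ye42 ze53)) (@D3.rec (fun _ => Pt) (ke xe15 ye42 ze54) (ke xe31 ye57 ze38) (ke xe15 ye42 ze55) (ke xe31 ye7 ze59) (ke xe31 ye57 ze41) (ke xe31 ye56 ze46) (ke xe15 ye42 ze57) (ke xe31 ye57 ze48) (ke xe31 ye8 ze60) (ke xe15 ye42 ze58) (ke xe30 ye42 ze14) (ke xe29 ye23 ze16)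 (ke xe23 ye41 ze52) (ke xe22 ye31 ze31) (ke xe26 ye48 ze4) (ke xe23 ye29 ze19) (ke xe25 ye37 ze19) (ke xe31 ye6 ze27) (ke xe15 ye43 ze2) (ke xe23 ye37 ze31) (ke xe15 ye43 ze3) (ke xe23 ye25 ze5) (ke xe22 ye11 ze28) (ke xe31 ye57 ze52) (ke xe15 ye43 ze10) (ke xe21 ye35 ze24) (ke xe23 ye2 ze34) (ke xe26 ye48 ze6) (ke xe17 ye28 ze48) (ke xe26 ye47 ze54) (ke xe23 ye12 ze30) (ke xe15 ye43 ze16) (ke xe24 ye42 ze45) (ke xe23 ye22 ze33) (ke xe15 ye43 ze22) (ke xe27 ye20 ze42) (ke xe30 ye3 ze14) (ke xe31 ye11 ze37) (ke xe31 ye3 ze13) (ke xe31 ye33 ze42) (ke xe15 ye43 ze27) (ke xe24 ye36 ze2) (ke xe31 ye37 ze53) (ke xe23 ye38 ze46) (ke xe15 ye43 ze28) (ke xe17 ye0 ze12) (ke xe21 ye6 ze29) (ke xe15 ye43 ze34) (ke xe24 ye42 ze55) (ke xe25 ye31 ze27) (ke xe27 ye26 ze57) (ke xe15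 ye43 ze41) (ke xe22 ye37 ze1) (ke xe21 ye3 ze56) (ke xe15 ye45 ze49) (ke xe20 ye24 ze32) (ke xe15 ye43 ze45) (ke xe31 ye4 ze1) (ke xe31 ye57 ze61) (ke xe20 ye24 ze49) (ke xe23 ye38 ze11) (ke xe29 ye56 ze56)) (@D3.rec (fun _ => Pt) (ke xe31 ye58 ze2) (ke xe15 ye43 ze55) (ke xe30 ye10 ze47) (ke xe26 ye0 ze42) (ke xe25 ye41 ze40) (ke xe25 ye38 ze45) (ke xe31 ye5 ze43) (ke xe15 ye43 ze52) (ke xe25 ye37 ze17) (ke xe30 ye20 ze15) (ke xe15 ye44 ze33) (ke xe15 ye43 ze53) (ke xe27 ye33 ze35) (ke xe31 ye30 ze21) (ke xe15 ye45 ze38) (ke xe15 ye43 ze54) (ke xe17 ye28 ze19) (ke xe30 ye40 ze43) (ke xe25 ye34 ze16) (ke xe18 ye17 ze1) (ke xe28 ye56 ze41) (ke xe15 ye43 ze58) (ke xe25 ye23 ze40) (ke xe15 ye44 ze37) (ke xe15 ye45 ze41) (ke xe20 ye48 ze61) (ke xe17 ye34 ze11) (ke xe15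 ye44 ze2) (ke xe16 ye54 ze54) (ke xe16 ye54 ze58) (ke xe20 ye31 ze56) (ke xe15 ye44 ze9) (ke xe28 ye20 ze11) (ke xe19 ye7 ze35) (ke xe28 ye23 ze17) (ke xe15 ye44 ze7) (ke xe17 ye1 ze61) (ke xe25 ye57 ze22) (ke xe20 ye40 ze9) (ke xe19 ye25 ze10) (ke xe17 ye2 ze8) (ke xe17 ye5 ze50) (ke xe26 ye51 ze20) (ke xe15 ye44 ze22) (ke xe31 ye58 ze15) (ke xe19 ye21 ze32) (ke xe15 ye44 ze23) (ke xe30 ye25 ze37) (ke xe30 ye30 ze49) (ke xe28 ye41 ze10) (ke xe29 ye9 ze41) (ke xe22 ye21 ze14) (ke xe19 ye58 ze47) (ke xe15 ye44 ze34) (ke xe26 ye3 ze4) (ke xe31 ye57 ze50) (ke xe16 ye4 ze53) (ke xe30 ye14 ze26) (ke xe27 ye24 ze29) (ke xe15 ye46 ze11) (ke xe24 ye42 ze7) (ke xe23 ye23 ze43)) (@D3.rec (fun _ => Pt) (ke xe21 ye34 ze15) (ke xe21 ye31 ze19) (ke xe30 ye13 ze10) (ke xe15 ye44 ze38)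 (ke xe21 ye8 ze22) (ke xe16 ye51 ze6) (ke xe15 ye44 ze39) (ke xe15 ye44 ze40) (ke xe31 ye1 ze44) (ke xe23 ye36 ze12) (ke xe19 ye58 ze52) (ke xe30 ye17 ze47) (ke xe21 ye2 ze31) (ke xe18 ye3 ze10) (ke xe26 ye5 ze8) (ke xe15 ye44 ze45) (ke xe18 ye2 ze42) (ke xe21 ye46 ze44) (ke xe17 ye54 ze52) (ke xe15 ye44 ze49) (ke xe23 ye59 ze2) (ke xe28 ye37 ze16) (ke xe15 ye44 ze51) (ke xe15 ye44 ze53) (ke xe19 ye58 ze57) (ke xe19 ye33 ze14) (ke xe15 ye44 ze54) (ke xe25 ye49 ze11) (ke xe24 ye23 ze20) (ke xe16 ye4 ze34) (ke xe25 ye38 ze15) (ke xe15 ye44 ze56) (ke xe25 ye38 ze33) (ke xe17 ye3 ze31) (ke xe20 ye1 ze44) (ke xe23 ye23 ze23) (ke xe16 ye50 ze4) (ke xe24 ye49 ze33) (ke xe22 ye10 ze11) (ke xe15 ye44 ze59) (ke xe25 ye40 ze4) (ke xe15 ye45 ze10) (ke xe27 ye24 ze34) (ke xe26 ye3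 ze28) (ke xe15 ye45 ze0) (ke xe25 ye0 ze31) (ke xe15 ye45 ze2) (ke xe25 ye42 ze46) (ke xe15 ye45 ze4) (ke xe15 ye45 ze5) (ke xe21 ye17 ze27) (ke xe15 ye45 ze6) (ke xe24 ye41 ze7) (ke xe25 ye31 ze52) (ke xe29 ye0 ze16) (ke xe24 ye41 ze16) (ke xe23 ye22 ze34) (ke xe31 ye58 ze26) (ke xe31 ye58 ze27) (ke xe24 ye41 ze40) (ke xe26 ye15 ze28) (ke xe15 ye45 ze18)) (@D3.rec (fun _ => Pt) (ke xe27 ye1 ze38) (ke xe24 ye32 ze22) (ke xe29 ye58 ze4) (ke xe19 ye13 ze45) (ke xe26 ye43 ze14) (ke xe29 ye2 ze14) (ke xe28 ye43 ze59) (ke xe25 ye34 ze1) (ke xe20 ye53 ze4) (ke xe21 ye57 ze38) (ke xe17 ye0 ze50) (ke xe16 ye47 ze60) (ke xe30 ye30 ze50) (ke xe25 ye46 ze30) (ke xe26 ye2 ze30) (ke xe21 ye33 ze36) (ke xe30 ye16 ze59) (ke xe29 ye59 ze29) (ke xe28 ye49 ze45) (ke xe30 ye42 ze15) (ke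 xe30 ye0 ze0) (ke xe15 ye45 ze42) (ke xe29 ye57 ze14) (ke xe15 ye45 ze43) (ke xe17 ye13 ze27) (ke xe15 ye45 ze45) (ke xe15 ye45 ze47) (ke xe27 ye20 ze47) (ke xe31 ye41 ze61) (ke xe16 ye11 ze36) (ke xe30 ye24 ze42) (ke xe22 ye40 ze45) (ke xe15 ye45 ze57) (ke xe26 ye57 ze56) (ke xe17 ye41 ze51) (ke xe21 ye33 ze10) (ke xe23 ye35 ze5) (ke xe26 ye55 ze13) (ke xe31 ye56 ze51) (ke xe31 ye56 ze45) (ke xe23 ye38 ze12) (ke xe31 ye58 ze41) (ke xe28 ye49 ze44) (ke xe31 ye1 ze43) (ke xe15 ye46 ze1) (ke xe26 ye2 ze37) (ke xe25 ye41 ze47) (ke xe31 ye58 ze44) (ke xe31 ye58 ze45) (ke xe15 ye46 ze4) (ke xe31 ye11 ze55) (ke xe15 ye46 ze5) (ke xe23 ye25 ze4) (ke xe31 ye3 ze45) (ke xe31 ye6 ze7) (ke xe24 ye41 ze56) (ke xe28 ye49 ze41) (ke xe15 ye46 ze9) (ke xe31 ye58 ze49) (ke xe18 ye40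 ze24) (ke xe15 ye46 ze12) (ke xe28 ye18 ze15)) (@D3.rec (fun _ => Pt) (ke xe15 ye46 ze17) (ke xe18 ye25 ze30) (ke xe24 ye45 ze27) (ke xe17 ye40 ze49) (ke xe21 ye9 ze61) (ke xe19 ye22 ze49) (ke xe28 ye11 ze4) (ke xe15 ye46 ze27) (ke xe30 ye53 ze57) (ke xe17 ye30 ze33) (ke xe27 ye56 ze18) (ke xe15 ye46 ze30) (ke xe24 ye13 ze48) (ke xe15 ye46 ze32) (ke xe22 ye22 ze58) (ke xe29 ye6 ze57) (ke xe25 ye56 ze0) (ke xe26 ye24 ze40) (ke xe27 ye1 ze61) (ke xe15 ye46 ze40) (ke xe22 ye59 ze33) (ke xe15 ye46 ze42) (ke xe31 ye58 ze52) (ke xe28 ye54 ze7) (ke xe15 ye46 ze45) (ke xe25 ye5 ze48) (ke xe15 ye46 ze44) (ke xe19 ye19 ze23) (ke xe17 ye22 ze10) (ke xe20 ye17 ze53) (ke xe17 ye59 ze3) (ke xe21 ye5 ze6) (ke xe15 ye46 ze49) (ke xe28 ye14 ze1) (ke xe15 ye46 ze55) (ke xe28 ye54 ze0)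 (ke xe27 ye15 ze10) (ke xe15 ye46 ze59) (ke xe17 ye36 ze2) (ke xe15 ye46 ze61) (ke xe21 ye17 ze24) (ke xe27 ye9 ze56) (ke xe25 ye25 ze55) (ke xe15 ye47 ze2) (ke xe25 ye7 ze17) (ke xe30 ye6 ze53) (ke xe15 ye57 ze12) (ke xe22 ye9 ze45) (ke xe21 ye45 ze56) (ke xe17 ye27 ze55) (ke xe31 ye58 ze59) (ke xe15 ye47 ze6) (ke xe27 ye11 ze4) (ke xe15 ye57 ze32) (ke xe16 ye26 ze2) (ke xe15 ye47 ze9) (ke xe16 ye2 ze12) (ke xe29 ye54 ze52) (ke xe15 ye47 ze11) (ke xe31 ye36 ze40) (ke xe15 ye47 ze15) (ke xe27 ye6 ze13)) (@D3.rec (fun _ => Pt) (ke xe19 ye38 ze28) (ke xe27 ye7 ze37) (ke xe31 ye41 ze21) (ke xe24 ye51 ze21) (ke xe21 ye39 ze14) (ke xe25 ye33 ze52) (ke xe30 ye57 ze10) (ke xe31 ye2 ze12) (ke xe30 ye17 ze61) (ke xe21 ye27 ze57) (ke xe15 ye47 ze25) (ke xe21 ye27 ze15) (ke xe16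 ye2 ze46) (ke xe30 ye59 ze26) (ke xe29 ye10 ze0) (ke xe26 ye23 ze8) (ke xe16 ye11 ze24) (ke xe19 ye16 ze32) (ke xe16 ye50 ze1) (ke xe15 ye47 ze35) (ke xe21 ye40 ze41) (ke xe15 ye47 ze37) (ke xe20 ye37 ze41) (ke xe15 ye47 ze38) (ke xe30 ye14 ze37) (ke xe15 ye47 ze42) (ke xe15 ye47 ze43) (ke xe15 ye47 ze48) (ke xe21 ye31 ze5) (ke xe20 ye23 ze14) (ke xe27 ye22 ze2) (ke xe21 ye23 ze61) (ke xe26 ye58 ze47) (ke xe20 ye20 ze44) (ke xe26 ye5 ze35) (ke xe15 ye47 ze52) (ke xe21 ye24 ze49) (ke xe15 ye47 ze58) (ke xe15 ye49 ze54) (ke xe26 ye5 ze43) (ke xe20 ye37 ze31) (ke xe21 ye50 ze56) (ke xe17 ye5 ze32) (ke xe31 ye50 ze7) (ke xe16 ye43 ze25) (ke xe27 ye56 ze40) (ke xe20 ye23 ze15) (ke xe15 ye48 ze4) (ke xe20 ye56 ze41) (ke xe21 ye5 ze37) (ke xe30 ye16 ze41) (ke xe26 ye58 ze39)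 (ke xe17 ye52 ze35) (ke xe15 ye48 ze12) (ke xe21 ye11 ze35) (ke xe21 ye34 ze53) (ke xe18 ye37 ze17) (ke xe27 ye20 ze53) (ke xe21 ye48 ze18) (ke xe15 ye48 ze15) (ke xe21 ye25 ze17) (ke xe27 ye23 ze17)) (@D3.rec (fun _ => Pt) (ke xe31 ye34 ze45) (ke xe29 ye27 ze51) (ke xe21 ye26 ze29) (ke xe30 ye20 ze7) (ke xe18 ye0 ze41) (ke xe20 ye53 ze45) (ke xe21 ye47 ze44) (ke xe16 ye39 ze2) (ke xe20 ye56 ze19) (ke xe26 ye59 ze31) (ke xe29 ye27 ze53) (ke xe16 ye38 ze11) (ke xe26 ye59 ze42) (ke xe26 ye59 ze43) (ke xe17 ye3 ze57) (ke xe15 ye48 ze40) (ke xe15 ye48 ze42) (ke xe30 ye3 ze8) (ke xe15 ye48 ze46) (ke xe26 ye4 ze30) (ke xe31 ye55 ze48) (ke xe30 ye23 ze16) (ke xe15 ye48 ze55) (ke xe24 ye55 ze19) (ke xe17 ye40 ze36) (ke xe26 ye4 ze35) (ke xe21 ye25 ze54) (ke xe20 ye4 ze4) (ke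 xe16 ye9 ze57) (ke xe16 ye41 ze1) (ke xe21 ye58 ze49) (ke xe31 ye44 ze34) (ke xe23 ye44 ze13) (ke xe18 ye36 ze17) (ke xe15 ye49 ze14) (ke xe17 ye2 ze11) (ke xe21 ye46 ze15) (ke xe15 ye49 ze19) (ke xe28 ye47 ze21) (ke xe30 ye8 ze13) (ke xe31 ye59 ze13) (ke xe15 ye49 ze26) (ke xe17 ye58 ze41) (ke xe21 ye51 ze3) (ke xe20 ye11 ze24) (ke xe27 ye11 ze31) (ke xe26 ye5 ze49) (ke xe30 ye19 ze43) (ke xe20 ye36 ze22) (ke xe15 ye49 ze38) (ke xe17 ye16 ze25) (ke xe17 ye23 ze43) (ke xe21 ye58 ze61) (ke xe16 ye29 ze26) (ke xe21 ye31 ze2) (ke xe21 ye31 ze0) (ke xe23 ye26 ze17) (ke xe16 ye3 ze14) (ke xe21 ye23 ze2) (ke xe27 ye46 ze19) (ke xe31 ye15 ze34) (ke xe27 ye47 ze5)) (@D3.rec (fun _ => Pt) (ke xe27 ye55 ze25) (ke xe15 ye49 ze58) (ke xe15 ye49 ze59) (ke xe18 ye47 ze23) (ke xe18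 ye49 ze11) (ke xe26 ye40 ze55) (ke xe27 ye54 ze61) (ke xe15 ye50 ze0) (ke xe18 ye50 ze4) (ke xe19 ye13 ze10) (ke xe15 ye50 ze2) (ke xe24 ye3 ze13) (ke xe23 ye0 ze54) (ke xe15 ye50 ze6) (ke xe15 ye50 ze7) (ke xe31 ye59 ze21) (ke xe15 ye50 ze9) (ke xe26 ye48 ze51) (ke xe26 ye20 ze6) (ke xe15 ye50 ze12) (ke xe31 ye59 ze23) (ke xe22 ye52 ze32) (ke xe31 ye7 ze12) (ke xe15 ye50 ze13) (ke xe23 ye32 ze23) (ke xe29 ye30 ze7) (ke xe23 ye20 ze41) (ke xe16 ye22 ze20) (ke xe18 ye3 ze8) (ke xe15 ye50 ze19) (ke xe25 ye42 ze13) (ke xe30 ye4 ze10) (ke xe16 ye3 ze25) (ke xe28 ye10 ze53) (ke xe26 ye8 ze25) (ke xe16 ye3 ze37) (ke xe23 ye44 ze0) (ke xe15 ye50 ze28) (ke xe24 ye29 ze8) (ke xe15 ye50 ze33) (ke xe29 ye28 ze33) (ke xe21 ye57 ze1) (ke xe25 ye16 ze26) (ke xe22 ye29 ze29) (ke xe25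 ye28 ze37) (ke xe15 ye50 ze39) (ke xe17 ye21 ze31) (ke xe28 ye46 ze42) (ke xe15 ye50 ze46) (ke xe15 ye50 ze47) (ke xe27 ye10 ze29) (ke xe15 ye50 ze55) (ke xe24 ye18 ze23) (ke xe15 ye50 ze57) (ke xe15 ye51 ze0) (ke xe28 ye46 ze27) (ke xe24 ye28 ze33) (ke xe29 ye54 ze43) (ke xe30 ye26 ze15) (ke xe17 ye26 ze50) (ke xe17 ye27 ze4) (ke xe18 ye45 ze2)) (@D3.rec (fun _ => Pt) (ke xe16 ye2 ze7) (ke xe18 ye45 ze27) (ke xe18 ye52 ze36) (ke xe31 ye59 ze33) (ke xe31 ye59 ze34) (ke xe15 ye51 ze12) (ke xe24 ye34 ze32) (ke xe21 ye37 ze38) (ke xe15 ye51 ze15) (ke xe31 ye28 ze53) (ke xe24 ye35 ze60) (ke xe31 ye59 ze37) (ke xe15 ye51 ze17) (ke xe20 ye44 ze56) (ke xe31 ye59 ze38) (ke xe20 ye43 ze12) (ke xe15 ye51 ze24) (ke xe28 ye57 ze53) (ke xe27 ye42 ze35) (ke xe16 ye22 ze23) (ke xe15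 ye51 ze30) (ke xe22 ye22 ze34) (ke xe19 ye8 ze3) (ke xe21 ye23 ze59) (ke xe15 ye51 ze34) (ke xe15 ye51 ze37) (ke xe15 ye51 ze40) (ke xe15 ye51 ze43) (ke xe29 ye4 ze17) (ke xe15 ye51 ze46) (ke xe26 ye27 ze23) (ke xe15 ye51 ze47) (ke xe27 ye6 ze33) (ke xe31 ye59 ze41) (ke xe25 ye56 ze42) (ke xe18 ye54 ze4) (ke xe21 ye40 ze11) (ke xe17 ye20 ze14) (ke xe27 ye3 ze7) (ke xe27 ye3 ze10) (ke xe15 ye51 ze56) (ke xe31 ye59 ze43) (ke xe15 ye51 ze59) (ke xe15 ye51 ze60) (ke xe24 ye3 ze0) (ke xe19 ye41 ze1) (ke xe24 ye39 ze17) (ke xe15 ye52 ze5) (ke xe29 ye20 ze19) (ke xe30 ye27 ze5) (ke xe28 ye29 ze33) (ke xe15 ye52 ze6) (ke xe31 ye59 ze46) (ke xe15 ye52 ze7) (ke xe27 ye51 ze34) (ke xe27 ye59 ze30) (ke xe31 ye48 ze33) (ke xe15 ye52 ze10) (ke xe30 ye3 ze57) (ke xe19 ye45 ze17) (ke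 xe15 ye52 ze11) (ke xe31 ye25 ze15)) (@D3.rec (fun _ => Pt) (ke xe15 ye52 ze12) (ke xe31 ye59 ze35) (ke xe28 ye19 ze33) (ke xe19 ye42 ze4) (ke xe17 ye26 ze58) (ke xe27 ye55 ze10) (ke xe15 ye52 ze14) (ke xe18 ye2 ze35) (ke xe27 ye35 ze8) (ke xe27 ye54 ze43) (ke xe25 ye6 ze44) (ke xe28 ye17 ze6) (ke xe15 ye52 ze17) (ke xe31 ye59 ze51) (ke xe18 ye48 ze32) (ke xe24 ye33 ze42) (ke xe30 ye19 ze16) (ke xe18 ye47 ze35) (ke xe15 ye58 ze1) (ke xe31 ye59 ze54) (ke xe27 ye15 ze14) (ke xe18 ye47 ze55) (ke xe15 ye52 ze23) (ke xe18 ye48 ze10) (ke xe18 ye48 ze16) (ke xe31 ye59 ze57) (ke xe16 ye1 ze53) (ke xe18 ye44 ze37) (ke xe19 ye23 ze43) (ke xe16 ye6 ze1) (ke xe15 ye52 ze32) (ke xe25 ye15 ze7) (ke xe27 ye10 ze60) (ke xe19 ye49 ze43) (ke xe15 ye52 ze35) (ke xe25 ye29 ze14) (ke xe30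 ye16 ze40) (ke xe15 ye52 ze39) (ke xe25 ye7 ze39) (ke xe15 ye53 ze16) (ke xe31 ye49 ze10) (ke xe31 ye59 ze60) (ke xe25 ye55 ze3) (ke xe15 ye53 ze47) (ke xe15 ye59 ze40) (ke xe15 ye52 ze44) (ke xe27 ye17 ze28) (ke xe25 ye29 ze58) (ke xe15 ye52 ze50) (ke xe15 ye54 ze8) (ke xe28 ye32 ze8) (ke xe21 ye48 ze0) (ke xe23 ye7 ze50) (ke xe32 ye0 ze1) (ke xe24 ye38 ze23) (ke xe25 ye53 ze53) (ke xe15 ye52 ze54) (ke xe15 ye52 ze55) (ke xe15 ye54 ze20) (ke xe15 ye52 ze56) (ke xe21 ye50 ze61) (ke xe15 ye52 ze57)) (@D3.rec (fun _ => Pt) (ke xe27 ye38 ze38) (ke xe15 ye54 ze40) (ke xe32 ye0 ze5) (ke xe23 ye11 ze6) (ke xe15 ye54 ze31) (ke xe15 ye54 ze27) (ke xe30 ye1 ze38) (ke xe24 ye20 ze21) (ke xe31 ye48 ze12) (ke xe15 ye53 ze10) (ke xe21 ye59 ze16) (ke xe25 ye41 ze27) (ke xe15 ye53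 ze11) (ke xe25 ye33 ze16) (ke xe25 ye14 ze18) (ke xe25 ye14 ze53) (ke xe31 ye36 ze4) (ke xe32 ye0 ze8) (ke xe31 ye30 ze2) (ke xe15 ye53 ze13) (ke xe30 ye32 ze11) (ke xe25 ye14 ze22) (ke xe25 ye14 ze61) (ke xe24 ye8 ze21) (ke xe15 ye53 ze18) (ke xe15 ye53 ze19) (ke xe15 ye53 ze21) (ke xe26 ye25 ze53) (ke xe15 ye53 ze24) (ke xe15 ye53 ze25) (ke xe15 ye53 ze27) (ke xe26 ye34 ze14) (ke xe15 ye53 ze30) (ke xe15 ye53 ze31) (ke xe24 ye37 ze15) (ke xe24 ye37 ze10) (ke xe23 ye32 ze20) (ke xe15 ye53 ze36) (ke xe18 ye5 ze22) (ke xe15 ye53 ze41) (ke xe31 ye36 ze11) (ke xe15 ye53 ze42) (ke xe15 ye53 ze45) (ke xe19 ye39 ze50) (ke xe20 ye43 ze18) (ke xe15 ye53 ze51) (ke xe19 ye39 ze36) (ke xe24 ye33 ze38) (ke xe21 ye57 ze42) (ke xe27 ye39 ze12) (ke xe15 ye53 ze57) (ke xe32 ye0 ze14)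 (ke xe19 ye54 ze33) (ke xe15 ye53 ze59) (ke xe24 ye4 ze23) (ke xe19 ye23 ze33) (ke xe15 ye53 ze60) (ke xe19 ye40 ze7) (ke xe23 ye37 ze57) (ke xe24 ye32 ze39) (ke xe27 ye47 ze27) (ke xe22 ye54 ze19)) (@D3.rec (fun _ => Pt) (ke xe15 ye54 ze5) (ke xe32 ye0 ze19) (ke xe22 ye54 ze32) (ke xe15 ye54 ze9) (ke xe25 ye29 ze27) (ke xe15 ye54 ze10) (ke xe15 ye54 ze13) (ke xe17 ye36 ze17) (ke xe15 ye54 ze15) (ke xe28 ye32 ze53) (ke xe15 ye54 ze16) (ke xe19 ye37 ze38) (ke xe29 ye59 ze14) (ke xe15 ye54 ze18) (ke xe24 ye38 ze8) (ke xe30 ye11 ze23) (ke xe32 ye0 ze20) (ke xe29 ye7 ze11) (ke xe23 ye52 ze11) (ke xe28 ye5 ze53) (ke xe26 ye20 ze16) (ke xe28 ye5 ze48) (ke xe15 ye54 ze22) (ke xe22 ye57 ze30) (ke xe23 ye52 ze9) (ke xe15 ye54 ze24) (ke xe32 ye0 ze26) (ke xe21 ye53 ze13) (ke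 xe30 ye35 ze51) (ke xe15 ye54 ze25) (ke xe15 ye54 ze28) (ke xe26 ye44 ze20) (ke xe27 ye23 ze10) (ke xe24 ye50 ze14) (ke xe29 ye47 ze46) (ke xe31 ye49 ze22) (ke xe15 ye54 ze32) (ke xe23 ye23 ze7) (ke xe29 ye23 ze1) (ke xe24 ye37 ze29) (ke xe20 ye41 ze34) (ke xe26 ye44 ze23) (ke xe32 ye0 ze31) (ke xe15 ye54 ze36) (ke xe20 ye23 ze2) (ke xe28 ye49 ze11) (ke xe28 ye19 ze31) (ke xe28 ye41 ze54) (ke xe15 ye54 ze38) (ke xe15 ye54 ze41) (ke xe28 ye23 ze27) (ke xe27 ye41 ze60) (ke xe32 ye0 ze34) (ke xe24 ye18 ze44) (ke xe32 ye0 ze37) (ke xe32 ye0 ze38) (ke xe17 ye36 ze6) (ke xe15 ye54 ze44) (ke xe22 ye34 ze50) (ke xe26 ye31 ze37) (ke xe32 ye0 ze39) (ke xe28 ye1 ze24)) (@D3.rec (fun _ => Pt) (ke xe25 ye11 ze32) (ke xe21 ye21 ze39) (ke xe31 ye32 ze28) (ke xe21 ye17 ze57) (ke xe15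 ye54 ze49) (ke xe31 ye18 ze57) (ke xe23 ye47 ze33) (ke xe15 ye54 ze50) (ke xe32 ye0 ze43) (ke xe29 ye57 ze13) (ke xe15 ye54 ze52) (ke xe32 ye0 ze44) (ke xe31 ye37 ze36) (ke xe15 ye54 ze53) (ke xe17 ye35 ze58) (ke xe15 ye54 ze56) (ke xe27 ye23 ze4) (ke xe15 ye54 ze57) (ke xe15 ye54 ze59) (ke xe32 ye0 ze46) (ke xe31 ye24 ze27) (ke xe15 ye55 ze2) (ke xe23 ye55 ze42) (ke xe23 ye0 ze23) (ke xe25 ye34 ze43) (ke xe19 ye28 ze38) (ke xe28 ye56 ze38) (ke xe27 ye59 ze3) (ke xe16 ye44 ze13) (ke xe19 ye28 ze41) (ke xe25 ye5 ze31) (ke xe15 ye55 ze14) (ke xe22 ye40 ze44) (ke xe18 ye47 ze54) (ke xe17 ye18 ze25) (ke xe15 ye55 ze22) (ke xe16 ye46 ze43) (ke xe30 ye15 ze20) (ke xe24 ye1 ze35) (ke xe31 ye46 ze56) (ke xe16 ye46 ze53) (ke xe22 ye24 ze42) (ke xe21 ye39 ze59) (ke xe17 ye17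 ze56) (ke xe22 ye36 ze59) (ke xe15 ye55 ze27) (ke xe24 ye28 ze56) (ke xe22 ye40 ze28) (ke xe30 ye14 ze61) (ke xe15 ye55 ze36) (ke xe15 ye55 ze38) (ke xe17 ye25 ze7) (ke xe25 ye52 ze51) (ke xe28 ye43 ze11) (ke xe15 ye55 ze43) (ke xe22 ye37 ze57) (ke xe15 ye55 ze44) (ke xe15 ye55 ze45) (ke xe26 ye45 ze53) (ke xe30 ye31 ze38) (ke xe22 ye32 ze36) (ke xe24 ye29 ze12)) (@D3.rec (fun _ => Pt) (ke xe22 ye45 ze26) (ke xe20 ye11 ze51) (ke xe26 ye22 ze10) (ke xe23 ye19 ze44) (ke xe15 ye55 ze53) (ke xe22 ye32 ze49) (ke xe26 ye25 ze19) (ke xe15 ye55 ze54) (ke xe20 ye0 ze34) (ke xe24 ye56 ze58) (ke xe26 ye22 ze29) (ke xe24 ye10 ze25) (ke xe24 ye5 ze14) (ke xe29 ye25 ze31) (ke xe18 ye45 ze30) (ke xe19 ye20 ze46) (ke xe16 ye32 ze38) (ke xe27 ye5 ze5) (ke xe15 ye56 ze3) (ke xe30 ye56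 ze52) (ke xe32 ye0 ze56) (ke xe15 ye56 ze2) (ke xe31 ye26 ze38) (ke xe19 ye11 ze56) (ke xe16 ye38 ze6) (ke xe21 ye26 ze42) (ke xe30 ye28 ze31) (ke xe31 ye20 ze39) (ke xe15 ye56 ze6) (ke xe31 ye21 ze18) (ke xe20 ye53 ze36) (ke xe27 ye39 ze18) (ke xe31 ye52 ze54) (ke xe32 ye0 ze57) (ke xe31 ye20 ze50) (ke xe31 ye20 ze53) (ke xe24 ye27 ze59) (ke xe15 ye56 ze12) (ke xe29 ye55 ze49) (ke xe28 ye50 ze41) (ke xe27 ye8 ze46) (ke xe32 ye0 ze60) (ke xe15 ye56 ze17) (ke xe15 ye56 ze19) (ke xe15 ye56 ze21) (ke xe15 ye56 ze22) (ke xe26 ye45 ze38) (ke xe27 ye6 ze34) (ke xe32 ye0 ze61) (ke xe23 ye13 ze8) (ke xe15 ye56 ze25) (ke xe25 ye51 ze52) (ke xe32 ye1 ze0) (ke xe27 ye35 ze47) (ke xe17 ye23 ze33) (ke xe32 ye1 ze2) (ke xe30 ye9 ze12) (ke xe24 ye16 ze37) (ke xe15 ye56 ze28) (ke xe15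 ye56 ze29) (ke xe15 ye56 ze30) (ke xe19 ye19 ze38)) (@D3.rec (fun _ => Pt) (ke xe32 ye1 ze3) (ke xe15 ye56 ze31) (ke xe32 ye1 ze4) (ke xe15 ye56 ze32) (ke xe24 ye3 ze53) (ke xe26 ye55 ze12) (ke xe15 ye56 ze33) (ke xe26 ye45 ze22) (ke xe24 ye1 ze12) (ke xe29 ye18 ze44) (ke xe20 ye24 ze26) (ke xe27 ye11 ze49) (ke xe29 ye2 ze26) (ke xe28 ye18 ze18) (ke xe15 ye56 ze40) (ke xe26 ye45 ze19) (ke xe17 ye23 ze39) (ke xe18 ye0 ze31) (ke xe25 ye17 ze14) (ke xe26 ye35 ze53) (ke xe22 ye9 ze12) (ke xe22 ye2 ze7) (ke xe27 ye19 ze39) (ke xe28 ye23 ze46) (ke xe32 ye1 ze12) (ke xe27 ye10 ze0) (ke xe27 ye6 ze23) (ke xe15 ye56 ze52) (ke xe29 ye37 ze45) (ke xe15 ye56 ze60) (ke xe20 ye50 ze39) (ke xe21 ye1 ze5) (ke xe25 ye29 ze47) (ke xe25 ye7 ze43) (ke xe15 ye57 ze7) (ke xe27 ye14 ze24)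 (ke xe24 ye57 ze59) (ke xe15 ye57 ze9) (ke xe25 ye55 ze28) (ke xe31 ye58 ze56) (ke xe15 ye57 ze15) (ke xe31 ye37 ze4) (ke xe29 ye48 ze35) (ke xe15 ye57 ze21) (ke xe31 ye27 ze0) (ke xe25 ye13 ze16) (ke xe31 ye9 ze29) (ke xe15 ye59 ze54) (ke xe27 ye15 ze37) (ke xe15 ye57 ze26) (ke xe29 ye48 ze37) (ke xe15 ye57 ze40) (ke xe27 ye46 ze60) (ke xe25 ye48 ze55) (ke xe27 ye46 ze28) (ke xe31 ye36 ze28) (ke xe15 ye57 ze29) (ke xe16 ye16 ze41) (ke xe28 ye48 ze25) (ke xe15 ye57 ze31) (ke xe21 ye57 ze57) (ke xe25 ye35 ze13)) (@D3.rec (fun _ => Pt) (ke xe31 ye27 ze32) (ke xe25 ye28 ze1) (ke xe31 ye33 ze51) (ke xe17 ye36 ze10) (ke xe32 ye1 ze21) (ke xe15 ye57 ze35) (ke xe32 ye1 ze22) (ke xe15 ye57 ze36) (ke xe23 ye8 ze51) (ke xe23 ye7 ze40) (ke xe30 ye47 ze60) (ke xe15 ye57 ze37) (ke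 xe31 ye1 ze45) (ke xe25 ye34 ze40) (ke xe32 ye1 ze17) (ke xe16 ye1 ze5) (ke xe17 ye12 ze39) (ke xe17 ye26 ze9) (ke xe27 ye4 ze13) (ke xe15 ye57 ze45) (ke xe15 ye57 ze42) (ke xe25 ye28 ze13) (ke xe32 ye1 ze29) (ke xe15 ye57 ze43) (ke xe30 ye6 ze40) (ke xe31 ye17 ze24) (ke xe29 ye18 ze33) (ke xe32 ye1 ze35) (ke xe29 ye55 ze59) (ke xe15 ye57 ze47) (ke xe25 ye28 ze22) (ke xe23 ye55 ze0) (ke xe15 ye57 ze49) (ke xe32 ye1 ze38) (ke xe15 ye57 ze50) (ke xe32 ye1 ze39) (ke xe27 ye55 ze3) (ke xe28 ye21 ze48) (ke xe25 ye3 ze55) (ke xe15 ye57 ze53) (ke xe29 ye37 ze43) (ke xe22 ye55 ze43) (ke xe15 ye57 ze54) (ke xe19 ye6 ze36) (ke xe16 ye34 ze1) (ke xe27 ye53 ze58) (ke xe28 ye20 ze44) (ke xe25 ye6 ze45) (ke xe15 ye57 ze57) (ke xe23 ye9 ze38) (ke xe25 ye59 ze54) (ke xe15 ye57 ze61)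 (ke xe16 ye1 ze48) (ke xe31 ye49 ze8) (ke xe15 ye58 ze2) (ke xe21 ye27 ze39) (ke xe25 ye7 ze36) (ke xe25 ye13 ze58) (ke xe29 ye16 ze6) (ke xe25 ye58 ze36) (ke xe15 ye58 ze7) (ke xe21 ye43 ze35)) (@D3.rec (fun _ => Pt) (ke xe20 ye37 ze30) (ke xe24 ye51 ze14) (ke xe25 ye29 ze17) (ke xe25 ye48 ze42) (ke xe17 ye27 ze19) (ke xe27 ye9 ze58) (ke xe19 ye38 ze61) (ke xe19 ye45 ze3) (ke xe20 ye38 ze55) (ke xe30 ye17 ze4) (ke xe21 ye33 ze4) (ke xe16 ye33 ze61) (ke xe21 ye5 ze19) (ke xe27 ye14 ze58) (ke xe30 ye54 ze30) (ke xe15 ye58 ze19) (ke xe31 ye54 ze18) (ke xe32 ye1 ze51) (ke xe15 ye58 ze20) (ke xe21 ye42 ze58) (ke xe19 ye36 ze5) (ke xe29 ye52 ze28) (ke xe22 ye56 ze17) (ke xe23 ye10 ze20) (ke xe20 ye18 ze9) (ke xe15 ye58 ze24) (ke xe23 ye10 ze13) (ke xe15 ye58 ze25) (ke xe25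 ye53 ze38) (ke xe32 ye1 ze55) (ke xe15 ye58 ze26) (ke xe24 ye4 ze1) (ke xe32 ye1 ze56) (ke xe17 ye25 ze57) (ke xe15 ye58 ze29) (ke xe25 ye57 ze19) (ke xe25 ye5 ze56) (ke xe29 ye46 ze34) (ke xe15 ye58 ze30) (ke xe18 ye8 ze13) (ke xe15 ye58 ze31) (ke xe15 ye58 ze32) (ke xe21 ye31 ze49) (ke xe21 ye1 ze53) (ke xe20 ye50 ze13) (ke xe15 ye58 ze34) (ke xe15 ye58 ze38) (ke xe25 ye29 ze60) (ke xe18 ye8 ze2) (ke xe17 ye24 ze12) (ke xe25 ye29 ze55) (ke xe15 ye58 ze40) (ke xe32 ye1 ze59) (ke xe32 ye1 ze60) (ke xe15 ye58 ze41) (ke xe31 ye35 ze34) (ke xe29 ye37 ze40) (ke xe25 ye27 ze17) (ke xe25 ye30 ze10) (ke xe31 ye54 ze0) (ke xe21 ye1 ze52) (ke xe16 ye43 ze50)) (@D3.rec (fun _ => Pt) (ke xe25 ye43 ze16) (ke xe25 ye7 ze23) (ke xe15 ye58 ze48) (ke xe15 ye59 ze37) (ke xe20 ye33 ze59)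 (ke xe20 ye33 ze56) (ke xe20 ye40 ze13) (ke xe27 ye9 ze53) (ke xe15 ye58 ze52) (ke xe15 ye58 ze54) (ke xe21 ye0 ze19) (ke xe16 ye3 ze42) (ke xe28 ye46 ze8) (ke xe27 ye2 ze32) (ke xe28 ye46 ze14) (ke xe22 ye47 ze39) (ke xe15 ye59 ze0) (ke xe30 ye17 ze11) (ke xe29 ye30 ze59) (ke xe30 ye11 ze6) (ke xe20 ye51 ze53) (ke xe32 ye2 ze3) (ke xe15 ye59 ze7) (ke xe32 ye2 ze4) (ke xe15 ye59 ze8) (ke xe23 ye24 ze21) (ke xe26 ye23 ze24) (ke xe15 ye59 ze10) (ke xe26 ye56 ze52) (ke xe15 ye59 ze12) (ke xe31 ye32 ze7) (ke xe15 ye59 ze15) (ke xe25 ye31 ze36) (ke xe28 ye38 ze8) (ke xe30 ye50 ze29) (ke xe24 ye4 ze0) (ke xe27 ye14 ze59) (ke xe32 ye2 ze10) (ke xe15 ye59 ze19) (ke xe32 ye2 ze12) (ke xe15 ye59 ze20) (ke xe28 ye19 ze49) (ke xe25 ye47 ze34) (ke xe15 ye59 ze21) (ke xe28 ye58 ze13)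 (ke xe24 ye2 ze58) (ke xe25 ye21 ze14) (ke xe23 ye54 ze46) (ke xe15 ye59 ze26) (ke xe22 ye9 ze11) (ke xe30 ye47 ze56) (ke xe15 ye59 ze33) (ke xe27 ye6 ze39) (ke xe32 ye2 ze19) (ke xe15 ye59 ze34) (ke xe30 ye16 ze34) (ke xe22 ye2 ze25) (ke xe30 ye36 ze42) (ke xe31 ye55 ze57) (ke xe25 ye27 ze44) (ke xe30 ye19 ze29) (ke xe16 ye6 ze61)) (@D3.rec (fun _ => Pt) (ke xe21 ye17 ze31) (ke xe25 ye8 ze26) (ke xe15 ye59 ze48) (ke xe20 ye29 ze18) (ke xe30 ye47 ze15) (ke xe23 ye35 ze49) (ke xe15 ye59 ze51) (ke xe17 ye16 ze10) (ke xe29 ye23 ze35) (ke xe15 ye59 ze52) (ke xe30 ye6 ze22) (ke xe27 ye14 ze25) (ke xe17 ye26 ze43) (ke xe32 ye2 ze21) (ke xe31 ye16 ze27) (ke xe15 ye59 ze57) (ke xe27 ye15 ze35) (ke xe25 ye29 ze9) (ke xe25 ye27 ze35) (ke xe25 ye55 ze35) (ke xe16 ye26 ze27) (ke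 xe32 ye1 ze16) (ke xe25 ye40 ze37) (ke xe21 ye17 ze28) (ke xe30 ye6 ze19) (ke xe16 ye0 ze1) (ke xe25 ye33 ze50) (ke xe22 ye9 ze59) (ke xe16 ye0 ze10) (ke xe28 ye9 ze53) (ke xe29 ye46 ze40) (ke xe16 ye0 ze13) (ke xe31 ye50 ze37) (ke xe21 ye16 ze34) (ke xe22 ye22 ze39) (ke xe16 ye0 ze19) (ke xe23 ye8 ze47) (ke xe16 ye0 ze20) (ke xe22 ye22 ze24) (ke xe16 ye0 ze24) (ke xe16 ye7 ze4) (ke xe23 ye27 ze8) (ke xe32 ye2 ze28) (ke xe32 ye2 ze30) (ke xe16 ye0 ze26) (ke xe31 ye9 ze44) (ke xe20 ye59 ze20) (ke xe19 ye46 ze28) (ke xe16 ye0 ze29) (ke xe19 ye46 ze30) (ke xe21 ye8 ze19) (ke xe17 ye29 ze39) (ke xe30 ye10 ze44) (ke xe16 ye1 ze31) (ke xe29 ye4 ze56) (ke xe29 ye3 ze43) (ke xe20 ye2 ze25) (ke xe25 ye36 ze20) (ke xe16 ye0 ze40) (ke xe21 ye41 ze19) (ke xe32 ye2 ze38) (ke xe16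 ye0 ze42)) (@D3.rec (fun _ => Pt) (ke xe22 ye14 ze61) (ke xe31 ye1 ze21) (ke xe18 ye51 ze33) (ke xe29 ye31 ze55) (ke xe18 ye54 ze5) (ke xe29 ye17 ze45) (ke xe16 ye0 ze46) (ke xe27 ye7 ze48) (ke xe18 ye2 ze52) (ke xe16 ye0 ze47) (ke xe16 ye0 ze48) (ke xe31 ye37 ze61) (ke xe25 ye34 ze36) (ke xe31 ye16 ze14) (ke xe31 ye3 ze6) (ke xe16 ye0 ze52) (ke xe25 ye14 ze43) (ke xe23 ye10 ze16) (ke xe16 ye0 ze54) (ke xe21 ye40 ze57) (ke xe17 ye52 ze59) (ke xe16 ye0 ze56) (ke xe24 ye0 ze8) (ke xe23 ye59 ze16) (ke xe16 ye28 ze39) (ke xe31 ye49 ze16) (ke xe23 ye5 ze3) (ke xe16 ye0 ze61) (ke xe23 ye5 ze35) (ke xe16 ye1 ze0) (ke xe31 ye34 ze51) (ke xe16 ye1 ze2) (ke xe26 ye31 ze24) (ke xe16 ye1 ze9) (ke xe17 ye25 ze17) (ke xe17 ye11 ze60) (ke xe25 ye54 ze59) (ke xe28 ye19 ze52) (ke xe30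 ye4 ze24) (ke xe24 ye54 ze51) (ke xe27 ye38 ze48) (ke xe31 ye53 ze31) (ke xe27 ye28 ze20) (ke xe16 ye1 ze16) (ke xe32 ye2 ze49) (ke xe16 ye1 ze17) (ke xe28 ye59 ze0) (ke xe31 ye43 ze4) (ke xe16 ye1 ze20) (ke xe29 ye4 ze34) (ke xe25 ye27 ze57) (ke xe24 ye40 ze18) (ke xe27 ye11 ze8) (ke xe17 ye40 ze55) (ke xe21 ye32 ze51) (ke xe21 ye58 ze25) (ke xe17 ye39 ze14) (ke xe31 ye35 ze33) (ke xe17 ye26 ze12) (ke xe29 ye28 ze12) (ke xe16 ye1 ze46) (ke xe29 ye4 ze10)) (@D3.rec (fun _ => Pt) (ke xe16 ye1 ze29) (ke xe23 ye27 ze51) (ke xe16 ye1 ze30) (ke xe32 ye2 ze59) (ke xe31 ye5 ze50) (ke xe23 ye41 ze38) (ke xe17 ye10 ze18) (ke xe28 ye5 ze46) (ke xe22 ye9 ze58) (ke xe23 ye9 ze29) (ke xe30 ye18 ze50) (ke xe32 ye2 ze51) (ke xe29 ye41 ze49) (ke xe32 ye1 ze47) (ke xe30 ye32 ze56) (ke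 xe17 ye25 ze53) (ke xe27 ye23 ze49) (ke xe16 ye26 ze35) (ke xe16 ye1 ze51) (ke xe31 ye55 ze9) (ke xe16 ye1 ze61) (ke xe17 ye27 ze20) (ke xe31 ye32 ze9) (ke xe24 ye6 ze46) (ke xe16 ye1 ze54) (ke xe19 ye9 ze33) (ke xe26 ye26 ze44) (ke xe17 ye26 ze48) (ke xe23 ye18 ze31) (ke xe16 ye1 ze56) (ke xe18 ye36 ze4) (ke xe30 ye32 ze39) (ke xe18 ye49 ze37) (ke xe16 ye1 ze57) (ke xe31 ye58 ze57) (ke xe32 ye3 ze2) (ke xe16 ye1 ze60) (ke xe32 ye1 ze43) (ke xe27 ye55 ze42) (ke xe19 ye26 ze53) (ke xe16 ye2 ze0) (ke xe23 ye56 ze20) (ke xe24 ye13 ze55) (ke xe23 ye56 ze27) (ke xe16 ye2 ze4) (ke xe29 ye1 ze27) (ke xe32 ye2 ze43) (ke xe16 ye26 ze37) (ke xe16 ye26 ze3) (ke xe23 ye57 ze14) (ke xe17 ye6 ze51) (ke xe16 ye2 ze9) (ke xe19 ye44 ze34) (ke xe22 ye57 ze23) (ke xe25 ye54 ze50) (ke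 xe21 ye0 ze13) (ke xe31 ye45 ze39) (ke xe19 ye37 ze32) (ke xe25 ye36 ze35) (ke xe31 ye47 ze59) (ke xe29 ye36 ze26) (ke xe24 ye58 ze23))
def f_e_26 : D2 → D3 → Pt := @D2.rec (fun _ => D3 → Pt) (@D3.rec (fun _ => Pt) (ke xe32 ye0 ze45) (ke xe21 ye48 ze58) (ke xe16 ye2 ze19) (ke xe16 ye2 ze21) (ke xe29 ye52 ze29) (ke xe29 ye52 ze30) (ke xe24 ye58 ze18) (ke xe16 ye2 ze25) (ke xe31 ye58 ze53) (ke xe16 ye2 ze26) (ke xe28 ye41 ze58) (ke xe16 ye2 ze32) (ke xe30 ye20 ze12) (ke xe16 ye2 ze39) (ke xe21 ye1 ze14) (ke xe23 ye43 ze7) (ke xe16 ye4 ze16) (ke xe28 ye24 ze42) (ke xe22 ye46 ze7) (ke xe31 ye2 ze39) (ke xe21 ye27 ze43) (ke xe23 ye30 ze51) (ke xe16 ye2 ze50) (ke xe19 ye2 ze46) (ke xe18 ye8 ze28) (ke xe17 ye36 ze41) (ke xe21 ye25 ze8) (ke xe16 ye4 ze10) (ke xe31 ye1 ze58)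 (ke xe16 ye3 ze1) (ke xe30 ye19 ze48) (ke xe16 ye3 ze2) (ke xe21 ye28 ze18) (ke xe21 ye29 ze32) (ke xe16 ye3 ze6) (ke xe16 ye3 ze9) (ke xe16 ye3 ze11) (ke xe23 ye27 ze25) (ke xe27 ye40 ze30) (ke xe23 ye26 ze33) (ke xe16 ye3 ze18) (ke xe19 ye42 ze36) (ke xe25 ye40 ze3) (ke xe25 ye38 ze55) (ke xe29 ye52 ze18) (ke xe18 ye56 ze38) (ke xe16 ye3 ze23) (ke xe16 ye3 ze24) (ke xe20 ye13 ze33) (ke xe23 ye38 ze16) (ke xe18 ye3 ze12) (ke xe28 ye24 ze38) (ke xe16 ye3 ze28) (ke xe23 ye35 ze30) (ke xe22 ye31 ze25) (ke xe23 ye13 ze51) (ke xe19 ye48 ze24) (ke xe18 ye39 ze4) (ke xe16 ye3 ze32) (ke xe16 ye3 ze35) (ke xe16 ye4 ze24) (ke xe26 ye9 ze38)) (@D3.rec (fun _ => Pt) (ke xe18 ye58 ze55) (ke xe17 ye22 ze17) (ke xe19 ye38 ze45) (ke xe18 ye7 ze61) (ke xe25 ye32 ze9) (ke xe19 ye44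 ze43) (ke xe16 ye3 ze58) (ke xe16 ye3 ze61) (ke xe22 ye55 ze18) (ke xe32 ye3 ze12) (ke xe31 ye37 ze25) (ke xe21 ye32 ze34) (ke xe24 ye47 ze7) (ke xe29 ye9 ze50) (ke xe26 ye14 ze34) (ke xe23 ye26 ze24) (ke xe19 ye53 ze57) (ke xe17 ye4 ze9) (ke xe27 ye25 ze1) (ke xe23 ye35 ze31) (ke xe16 ye4 ze8) (ke xe28 ye31 ze19) (ke xe31 ye29 ze34) (ke xe24 ye9 ze49) (ke xe21 ye24 ze51) (ke xe31 ye34 ze44) (ke xe32 ye3 ze13) (ke xe16 ye4 ze13) (ke xe29 ye49 ze45) (ke xe16 ye4 ze17) (ke xe25 ye37 ze47) (ke xe21 ye27 ze44) (ke xe31 ye1 ze9) (ke xe23 ye40 ze49) (ke xe32 ye2 ze29) (ke xe24 ye40 ze55) (ke xe16 ye4 ze20) (ke xe25 ye37 ze60) (ke xe30 ye13 ze24) (ke xe20 ye29 ze51) (ke xe28 ye9 ze19) (ke xe22 ye4 ze42) (ke xe16 ye36 ze31) (ke xe22 ye10 ze27) (ke xe16 ye4 ze32) (ke xe29 ye51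 ze34) (ke xe31 ye8 ze22) (ke xe31 ye58 ze21) (ke xe24 ye37 ze58) (ke xe16 ye4 ze37) (ke xe21 ye28 ze28) (ke xe21 ye59 ze6) (ke xe26 ye47 ze7) (ke xe21 ye49 ze16) (ke xe26 ye44 ze45) (ke xe16 ye58 ze25) (ke xe16 ye4 ze43) (ke xe16 ye41 ze15) (ke xe24 ye27 ze24) (ke xe24 ye27 ze15) (ke xe28 ye35 ze6) (ke xe16 ye4 ze47)) (@D3.rec (fun _ => Pt) (ke xe32 ye3 ze26) (ke xe16 ye37 ze11) (ke xe24 ye52 ze3) (ke xe16 ye4 ze50) (ke xe26 ye27 ze0) (ke xe21 ye41 ze21) (ke xe21 ye33 ze1) (ke xe31 ye29 ze5) (ke xe17 ye29 ze5) (ke xe16 ye5 ze0) (ke xe24 ye45 ze19) (ke xe16 ye6 ze29) (ke xe16 ye50 ze55) (ke xe26 ye32 ze27) (ke xe21 ye17 ze58) (ke xe16 ye5 ze13) (ke xe16 ye5 ze14) (ke xe31 ye37 ze31) (ke xe17 ye33 ze34) (ke xe16 ye5 ze17) (ke xe21 ye18 ze29) (ke xe16 ye5 ze18) (ke xe28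 ye41 ze23) (ke xe16 ye5 ze20) (ke xe28 ye43 ze52) (ke xe30 ye38 ze54) (ke xe21 ye37 ze54) (ke xe16 ye5 ze23) (ke xe22 ye38 ze13) (ke xe17 ye11 ze16) (ke xe25 ye42 ze14) (ke xe19 ye59 ze11) (ke xe16 ye5 ze25) (ke xe17 ye33 ze32) (ke xe16 ye47 ze39) (ke xe21 ye19 ze21) (ke xe16 ye5 ze29) (ke xe25 ye42 ze45) (ke xe22 ye8 ze33) (ke xe22 ye8 ze40) (ke xe17 ye4 ze7) (ke xe17 ye4 ze8) (ke xe32 ye3 ze32) (ke xe30 ye14 ze9) (ke xe16 ye5 ze35) (ke xe28 ye18 ze45) (ke xe16 ye50 ze35) (ke xe16 ye36 ze27) (ke xe28 ye18 ze47) (ke xe31 ye7 ze9) (ke xe24 ye54 ze48) (ke xe16 ye5 ze44) (ke xe17 ye2 ze17) (ke xe16 ye42 ze42) (ke xe16 ye43 ze30) (ke xe16 ye5 ze52) (ke xe17 ye30 ze45) (ke xe31 ye2 ze7) (ke xe21 ye20 ze29) (ke xe31 ye47 ze47) (ke xe16 ye5 ze56) (ke xe16 ye59 ze10)) (@D3.rec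 (fun _ => Pt) (ke xe16 ye46 ze60) (ke xe24 ye43 ze58) (ke xe26 ye7 ze18) (ke xe16 ye6 ze5) (ke xe25 ye40 ze54) (ke xe21 ye18 ze61) (ke xe29 ye56 ze3) (ke xe16 ye6 ze9) (ke xe30 ye0 ze6) (ke xe16 ye6 ze13) (ke xe18 ye3 ze7) (ke xe21 ye6 ze6) (ke xe23 ye23 ze33) (ke xe27 ye44 ze27) (ke xe25 ye19 ze36) (ke xe24 ye19 ze18) (ke xe28 ye55 ze21) (ke xe29 ye44 ze46) (ke xe16 ye6 ze21) (ke xe32 ye3 ze40) (ke xe24 ye51 ze45) (ke xe28 ye10 ze54) (ke xe16 ye6 ze23) (ke xe27 ye1 ze24) (ke xe22 ye31 ze28) (ke xe23 ye35 ze35) (ke xe16 ye6 ze32) (ke xe31 ye0 ze51) (ke xe25 ye41 ze43) (ke xe23 ye23 ze22) (ke xe31 ye6 ze38) (ke xe24 ye59 ze54) (ke xe16 ye6 ze30) (ke xe23 ye43 ze40) (ke xe18 ye38 ze57) (ke xe16 ye6 ze31) (ke xe17 ye2 ze57) (ke xe29 ye6 ze10) (ke xe24 ye29 ze18) (ke xe19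 ye40 ze31) (ke xe20 ye51 ze27) (ke xe17 ye39 ze10) (ke xe28 ye9 ze49) (ke xe16 ye6 ze56) (ke xe16 ye6 ze57) (ke xe32 ye3 ze45) (ke xe30 ye7 ze0) (ke xe16 ye7 ze0) (ke xe29 ye6 ze29) (ke xe16 ye7 ze3) (ke xe23 ye12 ze0) (ke xe22 ye12 ze21) (ke xe32 ye3 ze43) (ke xe30 ye42 ze38) (ke xe19 ye35 ze45) (ke xe22 ye37 ze3) (ke xe25 ye17 ze4) (ke xe21 ye26 ze18) (ke xe16 ye7 ze15) (ke xe28 ye1 ze32) (ke xe28 ye8 ze32) (ke xe29 ye32 ze52)) (@D3.rec (fun _ => Pt) (ke xe21 ye27 ze41) (ke xe17 ye27 ze49) (ke xe16 ye7 ze35) (ke xe16 ye7 ze37) (ke xe17 ye24 ze37) (ke xe20 ye21 ze44) (ke xe21 ye36 ze20) (ke xe30 ye1 ze23) (ke xe30 ye4 ze59) (ke xe16 ye7 ze39) (ke xe21 ye25 ze12) (ke xe16 ye7 ze40) (ke xe22 ye40 ze21) (ke xe20 ye21 ze58) (ke xe16 ye7 ze47) (ke xe23 ye2 ze44) (ke xe23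 ye54 ze4) (ke xe18 ye13 ze58) (ke xe26 ye16 ze9) (ke xe32 ye3 ze48) (ke xe16 ye7 ze52) (ke xe18 ye13 ze17) (ke xe27 ye55 ze12) (ke xe18 ye30 ze38) (ke xe19 ye18 ze56) (ke xe18 ye32 ze0) (ke xe24 ye54 ze24) (ke xe32 ye3 ze51) (ke xe16 ye7 ze58) (ke xe16 ye8 ze0) (ke xe25 ye45 ze19) (ke xe27 ye51 ze9) (ke xe26 ye16 ze33) (ke xe31 ye44 ze36) (ke xe16 ye8 ze4) (ke xe25 ye45 ze25) (ke xe25 ye1 ze2) (ke xe27 ye40 ze9) (ke xe32 ye3 ze55) (ke xe23 ye20 ze33) (ke xe16 ye8 ze10) (ke xe32 ye3 ze59) (ke xe32 ye3 ze60) (ke xe32 ye4 ze0) (ke xe29 ye34 ze49) (ke xe16 ye8 ze11) (ke xe20 ye56 ze15) (ke xe25 ye9 ze35) (ke xe25 ye8 ze52) (ke xe21 ye48 ze20) (ke xe16 ye8 ze13) (ke xe28 ye58 ze2) (ke xe16 ye8 ze14) (ke xe16 ye45 ze43) (ke xe21 ye48 ze15) (ke xe16 ye36 ze58) (ke xe20 ye43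 ze51) (ke xe29 ye41 ze52) (ke xe16 ye36 ze55) (ke xe19 ye45 ze2) (ke xe16 ye8 ze17) (ke xe25 ye6 ze8)) (@D3.rec (fun _ => Pt) (ke xe25 ye32 ze11) (ke xe31 ye45 ze25) (ke xe16 ye42 ze60) (ke xe25 ye8 ze4) (ke xe19 ye24 ze35) (ke xe20 ye49 ze39) (ke xe16 ye8 ze21) (ke xe19 ye36 ze54) (ke xe25 ye41 ze14) (ke xe30 ye14 ze29) (ke xe18 ye40 ze2) (ke xe27 ye25 ze45) (ke xe16 ye8 ze32) (ke xe27 ye24 ze52) (ke xe18 ye5 ze29) (ke xe31 ye38 ze20) (ke xe26 ye14 ze15) (ke xe22 ye8 ze48) (ke xe16 ye8 ze31) (ke xe24 ye47 ze23) (ke xe24 ye29 ze6) (ke xe20 ye0 ze12) (ke xe16 ye14 ze54) (ke xe18 ye3 ze22) (ke xe26 ye29 ze33) (ke xe18 ye6 ze38) (ke xe16 ye8 ze39) (ke xe21 ye53 ze11) (ke xe21 ye54 ze0) (ke xe24 ye19 ze21) (ke xe25 ye16 ze46) (ke xe28 ye58 ze20) (ke xe16 ye8 ze44) (ke xe19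 ye10 ze60) (ke xe16 ye8 ze46) (ke xe25 ye44 ze34) (ke xe30 ye34 ze11) (ke xe30 ye3 ze28) (ke xe16 ye8 ze49) (ke xe21 ye50 ze51) (ke xe16 ye8 ze51) (ke xe17 ye5 ze56) (ke xe27 ye37 ze40) (ke xe25 ye44 ze39) (ke xe18 ye51 ze26) (ke xe22 ye2 ze12) (ke xe20 ye52 ze59) (ke xe25 ye17 ze34) (ke xe26 ye59 ze10) (ke xe25 ye45 ze46) (ke xe30 ye0 ze48) (ke xe31 ye13 ze16) (ke xe29 ye22 ze31) (ke xe24 ye18 ze2) (ke xe23 ye36 ze21) (ke xe16 ye9 ze13) (ke xe28 ye10 ze8) (ke xe21 ye36 ze9) (ke xe27 ye54 ze19) (ke xe21 ye20 ze42) (ke xe21 ye1 ze33) (ke xe16 ye9 ze26)) (@D3.rec (fun _ => Pt) (ke xe22 ye10 ze2) (ke xe21 ye51 ze47) (ke xe20 ye46 ze43) (ke xe16 ye9 ze24) (ke xe28 ye17 ze4) (ke xe16 ye9 ze25) (ke xe31 ye50 ze9) (ke xe29 ye19 ze56) (ke xe32 ye4 ze18) (ke xe29 ye21 ze41)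 (ke xe31 ye52 ze61) (ke xe32 ye4 ze20) (ke xe17 ye41 ze54) (ke xe28 ye7 ze52) (ke xe30 ye34 ze27) (ke xe25 ye33 ze44) (ke xe32 ye4 ze22) (ke xe32 ye4 ze23) (ke xe31 ye32 ze29) (ke xe16 ye9 ze36) (ke xe25 ye9 ze16) (ke xe31 ye30 ze4) (ke xe19 ye58 ze12) (ke xe17 ye38 ze1) (ke xe21 ye25 ze20) (ke xe22 ye11 ze47) (ke xe30 ye12 ze49) (ke xe32 ye4 ze30) (ke xe29 ye41 ze51) (ke xe16 ye9 ze44) (ke xe16 ye23 ze44) (ke xe23 ye42 ze61) (ke xe19 ye54 ze23) (ke xe16 ye9 ze50) (ke xe17 ye53 ze8) (ke xe21 ye29 ze42) (ke xe32 ye4 ze32) (ke xe29 ye57 ze43) (ke xe16 ye9 ze53) (ke xe21 ye18 ze32) (ke xe17 ye53 ze14) (ke xe21 ye29 ze17) (ke xe18 ye6 ze58) (ke xe29 ye16 ze58) (ke xe32 ye4 ze36) (ke xe24 ye29 ze19) (ke xe28 ye13 ze20) (ke xe28 ye13 ze27) (ke xe19 ye55 ze10) (ke xe16 ye10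 ze3) (ke xe32 ye4 ze37) (ke xe16 ye10 ze4) (ke xe30 ye16 ze36) (ke xe30 ye6 ze41) (ke xe16 ye10 ze5) (ke xe20 ye50 ze11) (ke xe27 ye44 ze50) (ke xe19 ye54 ze36) (ke xe16 ye10 ze6) (ke xe22 ye12 ze12) (ke xe27 ye44 ze37) (ke xe32 ye4 ze39)) (@D3.rec (fun _ => Pt) (ke xe23 ye8 ze33) (ke xe29 ye28 ze32) (ke xe22 ye12 ze14) (ke xe19 ye56 ze26) (ke xe31 ye7 ze27) (ke xe16 ye10 ze12) (ke xe23 ye35 ze41) (ke xe16 ye10 ze13) (ke xe31 ye2 ze25) (ke xe30 ye33 ze15) (ke xe16 ye10 ze14) (ke xe30 ye20 ze9) (ke xe16 ye10 ze16) (ke xe31 ye44 ze61) (ke xe26 ye47 ze28) (ke xe16 ye10 ze17) (ke xe29 ye9 ze56) (ke xe16 ye10 ze19) (ke xe26 ye3 ze2) (ke xe21 ye13 ze36) (ke xe30 ye42 ze45) (ke xe16 ye10 ze27) (ke xe21 ye12 ze58) (ke xe31 ye7 ze15) (ke xe16 ye10 ze30) (ke xe30 ye33 ze24) (ke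 xe16 ye10 ze32) (ke xe32 ye4 ze44) (ke xe23 ye28 ze52) (ke xe30 ye33 ze28) (ke xe16 ye10 ze39) (ke xe18 ye56 ze37) (ke xe23 ye21 ze48) (ke xe31 ye2 ze5) (ke xe26 ye47 ze5) (ke xe16 ye10 ze41) (ke xe16 ye10 ze45) (ke xe30 ye33 ze27) (ke xe31 ye6 ze21) (ke xe23 ye13 ze49) (ke xe23 ye32 ze52) (ke xe25 ye2 ze32) (ke xe16 ye10 ze50) (ke xe28 ye26 ze12) (ke xe16 ye10 ze53) (ke xe16 ye10 ze56) (ke xe16 ye10 ze60) (ke xe23 ye32 ze50) (ke xe22 ye30 ze29) (ke xe16 ye11 ze3) (ke xe27 ye23 ze48) (ke xe31 ye31 ze43) (ke xe31 ye29 ze31) (ke xe16 ye11 ze9) (ke xe26 ye35 ze55) (ke xe17 ye6 ze45) (ke xe30 ye9 ze27) (ke xe16 ye11 ze12) (ke xe16 ye36 ze15) (ke xe16 ye38 ze3) (ke xe18 ye3 ze2) (ke xe30 ye9 ze14)) (@D3.rec (fun _ => Pt) (ke xe21 ye56 ze36) (ke xe16 ye11 ze15) (ke xe16 ye11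 ze19) (ke xe31 ye5 ze25) (ke xe31 ye8 ze31) (ke xe24 ye40 ze5) (ke xe31 ye8 ze48) (ke xe31 ye5 ze24) (ke xe22 ye53 ze52) (ke xe16 ye11 ze26) (ke xe29 ye10 ze50) (ke xe16 ye11 ze27) (ke xe31 ye36 ze30) (ke xe16 ye11 ze28) (ke xe22 ye21 ze12) (ke xe30 ye17 ze59) (ke xe30 ye42 ze28) (ke xe27 ye39 ze16) (ke xe30 ye33 ze34) (ke xe24 ye35 ze10) (ke xe23 ye33 ze4) (ke xe16 ye11 ze33) (ke xe16 ye11 ze34) (ke xe23 ye20 ze10) (ke xe16 ye11 ze37) (ke xe25 ye46 ze34) (ke xe23 ye38 ze13) (ke xe28 ye49 ze35) (ke xe30 ye13 ze14) (ke xe32 ye3 ze21) (ke xe31 ye57 ze24) (ke xe16 ye49 ze52) (ke xe25 ye2 ze19) (ke xe16 ye11 ze42) (ke xe16 ye11 ze43) (ke xe29 ye57 ze54) (ke xe21 ye14 ze32) (ke xe30 ye52 ze21) (ke xe24 ye30 ze39) (ke xe16 ye11 ze48) (ke xe16 ye11 ze49) (ke xe16 ye11 ze52)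 (ke xe26 ye23 ze1) (ke xe29 ye9 ze60) (ke xe32 ye5 ze1) (ke xe16 ye11 ze55) (ke xe16 ye11 ze58) (ke xe23 ye43 ze46) (ke xe29 ye51 ze43) (ke xe32 ye5 ze2) (ke xe32 ye5 ze3) (ke xe16 ye12 ze0) (ke xe31 ye1 ze8) (ke xe22 ye31 ze44) (ke xe30 ye13 ze36) (ke xe30 ye59 ze33) (ke xe16 ye12 ze3) (ke xe28 ye0 ze57) (ke xe16 ye12 ze7) (ke xe23 ye6 ze8) (ke xe24 ye54 ze30) (ke xe18 ye38 ze59)) (@D3.rec (fun _ => Pt) (ke xe16 ye12 ze13) (ke xe30 ye59 ze39) (ke xe16 ye12 ze15) (ke xe23 ye35 ze13) (ke xe16 ye12 ze16) (ke xe23 ye25 ze41) (ke xe22 ye17 ze26) (ke xe25 ye2 ze7) (ke xe16 ye48 ze9) (ke xe21 ye56 ze8) (ke xe16 ye12 ze26) (ke xe25 ye6 ze48) (ke xe30 ye56 ze38) (ke xe24 ye25 ze30) (ke xe32 ye5 ze7) (ke xe16 ye12 ze32) (ke xe31 ye2 ze17) (ke xe16 ye12 ze33) (ke xe31 ye28 ze28)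 (ke xe22 ye40 ze58) (ke xe16 ye12 ze34) (ke xe22 ye21 ze57) (ke xe21 ye28 ze6) (ke xe31 ye33 ze55) (ke xe16 ye12 ze35) (ke xe23 ye37 ze26) (ke xe32 ye5 ze10) (ke xe24 ye35 ze7) (ke xe30 ye57 ze42) (ke xe28 ye12 ze19) (ke xe23 ye24 ze43) (ke xe30 ye58 ze15) (ke xe16 ye12 ze42) (ke xe32 ye5 ze13) (ke xe23 ye14 ze19) (ke xe16 ye12 ze43) (ke xe32 ye5 ze15) (ke xe30 ye58 ze53) (ke xe26 ye0 ze61) (ke xe16 ye12 ze46) (ke xe30 ye0 ze37) (ke xe19 ye55 ze40) (ke xe16 ye12 ze47) (ke xe32 ye5 ze16) (ke xe20 ye3 ze51) (ke xe25 ye4 ze56) (ke xe16 ye12 ze52) (ke xe16 ye12 ze55) (ke xe32 ye5 ze19) (ke xe29 ye2 ze42) (ke xe16 ye12 ze57) (ke xe25 ye22 ze12) (ke xe16 ye13 ze0) (ke xe23 ye31 ze61) (ke xe16 ye13 ze5) (ke xe19 ye18 ze40) (ke xe19 ye55 ze59) (ke xe16 ye13 ze6) (ke xe29 ye5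 ze61) (ke xe16 ye13 ze7) (ke xe29 ye6 ze11) (ke xe23 ye13 ze41)) (@D3.rec (fun _ => Pt) (ke xe16 ye13 ze8) (ke xe23 ye25 ze33) (ke xe19 ye6 ze11) (ke xe32 ye5 ze22) (ke xe24 ye3 ze42) (ke xe23 ye25 ze34) (ke xe26 ye48 ze53) (ke xe16 ye13 ze13) (ke xe16 ye13 ze15) (ke xe18 ye58 ze51) (ke xe26 ye57 ze43) (ke xe31 ye6 ze5) (ke xe30 ye33 ze21) (ke xe31 ye49 ze58) (ke xe27 ye43 ze43) (ke xe16 ye13 ze19) (ke xe26 ye47 ze57) (ke xe31 ye34 ze32) (ke xe25 ye15 ze26) (ke xe16 ye45 ze61) (ke xe16 ye50 ze10) (ke xe18 ye2 ze4) (ke xe16 ye31 ze30) (ke xe29 ye24 ze43) (ke xe20 ye31 ze58) (ke xe24 ye43 ze23) (ke xe16 ye13 ze32) (ke xe16 ye13 ze33) (ke xe21 ye59 ze25) (ke xe21 ye10 ze11) (ke xe22 ye10 ze32) (ke xe16 ye42 ze3) (ke xe27 ye43 ze40) (ke xe17 ye33 ze16) (ke xe22 ye23 ze13)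 (ke xe17 ye6 ze1) (ke xe27 ye36 ze41) (ke xe20 ye14 ze32) (ke xe17 ye51 ze22) (ke xe20 ye23 ze19) (ke xe18 ye24 ze42) (ke xe28 ye56 ze42) (ke xe20 ye54 ze10) (ke xe16 ye13 ze56) (ke xe17 ye52 ze14) (ke xe20 ye27 ze43) (ke xe28 ye25 ze21) (ke xe18 ye6 ze1) (ke xe17 ye39 ze24) (ke xe22 ye34 ze30) (ke xe16 ye13 ze60) (ke xe32 ye5 ze27) (ke xe16 ye13 ze61) (ke xe28 ye25 ze15) (ke xe16 ye14 ze1) (ke xe16 ye16 ze42) (ke xe23 ye35 ze54) (ke xe21 ye31 ze8) (ke xe24 ye58 ze34) (ke xe16 ye14 ze2) (ke xe29 ye48 ze1) (ke xe16 ye14 ze3)) (@D3.rec (fun _ => Pt) (ke xe27 ye29 ze24) (ke xe24 ye58 ze35) (ke xe24 ye19 ze46) (ke xe29 ye22 ze8) (ke xe31 ye54 ze11) (ke xe16 ye14 ze7) (ke xe20 ye17 ze6) (ke xe29 ye59 ze9) (ke xe17 ye29 ze44) (ke xe19 ye36 ze41) (ke xe20 ye44 ze58) (ke xe27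 ye19 ze20) (ke xe32 ye4 ze6) (ke xe25 ye6 ze5) (ke xe25 ye32 ze5) (ke xe16 ye59 ze53) (ke xe16 ye14 ze13) (ke xe28 ye57 ze57) (ke xe21 ye7 ze3) (ke xe16 ye14 ze18) (ke xe21 ye49 ze53) (ke xe16 ye14 ze19) (ke xe17 ye40 ze54) (ke xe32 ye5 ze30) (ke xe32 ye5 ze32) (ke xe25 ye28 ze53) (ke xe16 ye14 ze21) (ke xe21 ye22 ze57) (ke xe28 ye42 ze55) (ke xe27 ye46 ze17) (ke xe27 ye28 ze31) (ke xe17 ye41 ze14) (ke xe18 ye6 ze0) (ke xe16 ye14 ze27) (ke xe27 ye28 ze14) (ke xe17 ye42 ze48) (ke xe17 ye42 ze58) (ke xe16 ye14 ze29) (ke xe30 ye3 ze54) (ke xe28 ye41 ze43) (ke xe27 ye27 ze44) (ke xe31 ye14 ze27) (ke xe32 ye5 ze37) (ke xe16 ye14 ze35) (ke xe27 ye29 ze52) (ke xe32 ye5 ze38) (ke xe16 ye14 ze38) (ke xe16 ye18 ze20) (ke xe32 ye5 ze42) (ke xe16 ye14 ze42) (ke xe32 ye5 ze46) (ke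 xe16 ye14 ze40) (ke xe32 ye5 ze51) (ke xe16 ye14 ze41) (ke xe22 ye8 ze13) (ke xe30 ye59 ze60) (ke xe32 ye5 ze44) (ke xe24 ye31 ze37) (ke xe32 ye5 ze54) (ke xe30 ye59 ze42) (ke xe16 ye14 ze43) (ke xe28 ye29 ze55)) (@D3.rec (fun _ => Pt) (ke xe32 ye5 ze31) (ke xe28 ye41 ze42) (ke xe16 ye14 ze45) (ke xe21 ye26 ze10) (ke xe19 ye18 ze50) (ke xe17 ye37 ze2) (ke xe18 ye27 ze34) (ke xe16 ye14 ze51) (ke xe16 ye14 ze50) (ke xe27 ye28 ze37) (ke xe27 ye46 ze41) (ke xe16 ye14 ze48) (ke xe17 ye41 ze16) (ke xe16 ye14 ze49) (ke xe32 ye5 ze61) (ke xe31 ye54 ze43) (ke xe16 ye14 ze52) (ke xe18 ye6 ze50) (ke xe23 ye34 ze55) (ke xe21 ye18 ze23) (ke xe18 ye4 ze11) (ke xe28 ye1 ze48) (ke xe17 ye38 ze46) (ke xe16 ye14 ze56) (ke xe16 ye14 ze58) (ke xe25 ye3 ze47) (ke xe25 ye15 ze49) (ke xe29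 ye51 ze30) (ke xe31 ye37 ze57) (ke xe25 ye3 ze38) (ke xe16 ye15 ze0) (ke xe27 ye17 ze15) (ke xe19 ye16 ze42) (ke xe16 ye15 ze1) (ke xe18 ye8 ze14) (ke xe22 ye11 ze29) (ke xe24 ye32 ze43) (ke xe16 ye15 ze6) (ke xe27 ye46 ze46) (ke xe28 ye2 ze24) (ke xe31 ye38 ze15) (ke xe27 ye46 ze40) (ke xe28 ye22 ze11) (ke xe16 ye15 ze8) (ke xe16 ye15 ze10) (ke xe24 ye44 ze17) (ke xe22 ye18 ze21) (ke xe31 ye54 ze30) (ke xe17 ye44 ze15) (ke xe18 ye4 ze32) (ke xe32 ye6 ze2) (ke xe16 ye18 ze47) (ke xe16 ye15 ze16) (ke xe16 ye15 ze20) (ke xe24 ye36 ze9) (ke xe26 ye27 ze16) (ke xe16 ye15 ze22) (ke xe18 ye28 ze28) (ke xe21 ye44 ze23) (ke xe16 ye15 ze27) (ke xe30 ye14 ze7) (ke xe28 ye7 ze3)) (@D3.rec (fun _ => Pt) (ke xe16 ye15 ze31) (ke xe21 ye31 ze29) (ke xe16 ye15 ze32) (ke xe28 ye10 ze60)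 (ke xe16 ye15 ze33) (ke xe23 ye22 ze29) (ke xe21 ye49 ze57) (ke xe26 ye16 ze7) (ke xe16 ye15 ze35) (ke xe18 ye21 ze39) (ke xe30 ye53 ze58) (ke xe16 ye15 ze39) (ke xe29 ye59 ze57) (ke xe31 ye1 ze19) (ke xe27 ye3 ze45) (ke xe27 ye38 ze46) (ke xe22 ye51 ze58) (ke xe16 ye15 ze41) (ke xe27 ye46 ze25) (ke xe19 ye2 ze17) (ke xe16 ye15 ze42) (ke xe24 ye55 ze44) (ke xe26 ye24 ze35) (ke xe16 ye15 ze47) (ke xe27 ye31 ze18) (ke xe24 ye56 ze3) (ke xe28 ye3 ze12) (ke xe29 ye39 ze17) (ke xe16 ye15 ze49) (ke xe25 ye1 ze15) (ke xe18 ye16 ze25) (ke xe16 ye15 ze50) (ke xe27 ye48 ze54) (ke xe16 ye15 ze58) (ke xe27 ye48 ze60) (ke xe18 ye8 ze32) (ke xe28 ye3 ze29) (ke xe27 ye33 ze4) (ke xe16 ye15 ze54) (ke xe18 ye33 ze42) (ke xe32 ye6 ze9) (ke xe25 ye1 ze42) (ke xe28 ye3 ze15) (ke xe32 ye6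 ze10) (ke xe32 ye6 ze11) (ke xe16 ye15 ze59) (ke xe23 ye51 ze44) (ke xe32 ye6 ze12) (ke xe16 ye15 ze61) (ke xe25 ye6 ze56) (ke xe24 ye55 ze15) (ke xe31 ye42 ze6) (ke xe16 ye16 ze3) (ke xe18 ye6 ze26) (ke xe27 ye24 ze9) (ke xe32 ye6 ze15) (ke xe16 ye16 ze5) (ke xe31 ye7 ze7) (ke xe32 ye6 ze16) (ke xe16 ye16 ze9) (ke xe17 ye40 ze26) (ke xe21 ye38 ze24)) (@D3.rec (fun _ => Pt) (ke xe32 ye6 ze17) (ke xe21 ye26 ze16) (ke xe27 ye12 ze30) (ke xe30 ye25 ze14) (ke xe16 ye16 ze15) (ke xe22 ye10 ze46) (ke xe16 ye16 ze13) (ke xe30 ye6 ze18) (ke xe29 ye50 ze28) (ke xe31 ye27 ze34) (ke xe24 ye45 ze10) (ke xe27 ye46 ze4) (ke xe18 ye8 ze37) (ke xe16 ye16 ze17) (ke xe18 ye28 ze25) (ke xe26 ye5 ze16) (ke xe16 ye16 ze26) (ke xe30 ye19 ze31) (ke xe17 ye53 ze61) (ke xe31 ye37 ze19) (ke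 xe16 ye16 ze23) (ke xe29 ye14 ze29) (ke xe16 ye16 ze25) (ke xe21 ye26 ze1) (ke xe22 ye8 ze9) (ke xe21 ye58 ze45) (ke xe31 ye7 ze23) (ke xe16 ye16 ze27) (ke xe18 ye3 ze23) (ke xe24 ye43 ze17) (ke xe16 ye16 ze30) (ke xe21 ye58 ze42) (ke xe16 ye16 ze33) (ke xe19 ye54 ze2) (ke xe26 ye1 ze14) (ke xe22 ye43 ze57) (ke xe18 ye39 ze55) (ke xe21 ye25 ze38) (ke xe16 ye16 ze38) (ke xe32 ye6 ze20) (ke xe25 ye17 ze6) (ke xe22 ye10 ze10) (ke xe28 ye43 ze0) (ke xe21 ye26 ze22) (ke xe18 ye31 ze50) (ke xe21 ye4 ze51) (ke xe28 ye26 ze14) (ke xe16 ye16 ze48) (ke xe16 ye16 ze52) (ke xe27 ye30 ze36) (ke xe16 ye16 ze50) (ke xe21 ye59 ze28) (ke xe28 ye3 ze54) (ke xe23 ye29 ze23) (ke xe23 ye50 ze43) (ke xe16 ye16 ze54) (ke xe23 ye20 ze57) (ke xe21 ye28 ze37) (ke xe32 ye6 ze22) (ke xe18 ye28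 ze39) (ke xe16 ye16 ze57) (ke xe16 ye16 ze61)) (@D3.rec (fun _ => Pt) (ke xe30 ye4 ze1) (ke xe24 ye45 ze16) (ke xe27 ye28 ze52) (ke xe24 ye0 ze41) (ke xe24 ye34 ze16) (ke xe16 ye17 ze11) (ke xe23 ye6 ze27) (ke xe17 ye41 ze37) (ke xe27 ye59 ze33) (ke xe18 ye12 ze42) (ke xe21 ye4 ze26) (ke xe16 ye17 ze17) (ke xe27 ye17 ze26) (ke xe16 ye17 ze18) (ke xe22 ye8 ze41) (ke xe16 ye17 ze19) (ke xe23 ye34 ze15) (ke xe27 ye25 ze3) (ke xe24 ye55 ze21) (ke xe24 ye55 ze12) (ke xe16 ye17 ze28) (ke xe16 ye17 ze29) (ke xe32 ye6 ze28) (ke xe16 ye17 ze30) (ke xe27 ye45 ze26) (ke xe16 ye17 ze32) (ke xe18 ye10 ze49) (ke xe27 ye39 ze10) (ke xe25 ye41 ze60) (ke xe23 ye29 ze47) (ke xe27 ye30 ze3) (ke xe26 ye31 ze15) (ke xe16 ye17 ze39) (ke xe23 ye21 ze57) (ke xe32 ye6 ze34) (ke xe16 ye17 ze40)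 (ke xe16 ye34 ze41) (ke xe23 ye37 ze60) (ke xe27 ye49 ze15) (ke xe32 ye6 ze36) (ke xe32 ye6 ze37) (ke xe28 ye3 ze0) (ke xe16 ye17 ze48) (ke xe28 ye4 ze26) (ke xe16 ye17 ze50) (ke xe17 ye35 ze21) (ke xe27 ye48 ze24) (ke xe16 ye17 ze54) (ke xe18 ye17 ze38) (ke xe29 ye7 ze10) (ke xe18 ye27 ze0) (ke xe27 ye46 ze10) (ke xe18 ye5 ze2) (ke xe22 ye15 ze13) (ke xe24 ye11 ze13) (ke xe25 ye0 ze49) (ke xe28 ye2 ze56) (ke xe30 ye14 ze40) (ke xe23 ye55 ze48) (ke xe17 ye35 ze16) (ke xe18 ye6 ze3) (ke xe18 ye8 ze48)) (@D3.rec (fun _ => Pt) (ke xe22 ye18 ze22) (ke xe23 ye51 ze20) (ke xe23 ye9 ze46) (ke xe24 ye4 ze27) (ke xe28 ye17 ze37) (ke xe21 ye4 ze40) (ke xe32 ye5 ze40) (ke xe26 ye13 ze7) (ke xe21 ye4 ze44) (ke xe26 ye4 ze18) (ke xe16 ye18 ze26) (ke xe18 ye50 ze49) (ke xe17 ye52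 ze18) (ke xe16 ye18 ze27) (ke xe18 ye16 ze39) (ke xe27 ye39 ze35) (ke xe27 ye54 ze25) (ke xe32 ye6 ze43) (ke xe32 ye6 ze44) (ke xe27 ye53 ze24) (ke xe16 ye18 ze31) (ke xe18 ye3 ze50) (ke xe23 ye37 ze58) (ke xe16 ye20 ze11) (ke xe26 ye20 ze50) (ke xe18 ye17 ze13) (ke xe28 ye10 ze7) (ke xe28 ye10 ze14) (ke xe31 ye7 ze25) (ke xe25 ye0 ze29) (ke xe28 ye4 ze14) (ke xe31 ye39 ze0) (ke xe26 ye18 ze20) (ke xe26 ye4 ze32) (ke xe18 ye3 ze31) (ke xe16 ye18 ze43) (ke xe25 ye0 ze44) (ke xe25 ye0 ze61) (ke xe16 ye18 ze44) (ke xe24 ye40 ze48) (ke xe16 ye18 ze50) (ke xe32 ye6 ze23) (ke xe23 ye36 ze54) (ke xe32 ye6 ze52) (ke xe27 ye25 ze40) (ke xe16 ye18 ze55) (ke xe27 ye48 ze20) (ke xe16 ye18 ze59) (ke xe16 ye18 ze61) (ke xe27 ye25 ze27) (ke xe30 ye8 ze34) (ke xe31 ye54 ze26) (ke xe29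 ye5 ze26) (ke xe16 ye19 ze3) (ke xe27 ye4 ze55) (ke xe21 ye46 ze23) (ke xe16 ye19 ze4) (ke xe18 ye8 ze22) (ke xe28 ye6 ze31) (ke xe27 ye5 ze48) (ke xe18 ye8 ze24) (ke xe23 ye22 ze15)) (@D3.rec (fun _ => Pt) (ke xe31 ye42 ze61) (ke xe23 ye22 ze38) (ke xe16 ye19 ze7) (ke xe27 ye26 ze3) (ke xe27 ye39 ze28) (ke xe18 ye8 ze23) (ke xe28 ye2 ze16) (ke xe27 ye25 ze58) (ke xe27 ye31 ze45) (ke xe18 ye4 ze52) (ke xe17 ye55 ze9) (ke xe16 ye19 ze20) (ke xe20 ye45 ze25) (ke xe19 ye18 ze37) (ke xe16 ye19 ze21) (ke xe21 ye29 ze35) (ke xe16 ye19 ze23) (ke xe16 ye19 ze24) (ke xe27 ye54 ze18) (ke xe16 ye19 ze26) (ke xe16 ye19 ze28) (ke xe27 ye9 ze37) (ke xe29 ye54 ze25) (ke xe32 ye6 ze58) (ke xe16 ye19 ze29) (ke xe18 ye38 ze52) (ke xe16 ye20 ze34) (ke xe20 ye10 ze43) (ke xe28 ye27 ze21)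 (ke xe31 ye0 ze12) (ke xe29 ye18 ze30) (ke xe32 ye7 ze0) (ke xe16 ye19 ze33) (ke xe27 ye33 ze19) (ke xe23 ye54 ze56) (ke xe23 ye36 ze55) (ke xe27 ye40 ze0) (ke xe28 ye26 ze0) (ke xe27 ye0 ze0) (ke xe20 ye35 ze1) (ke xe27 ye9 ze27) (ke xe29 ye37 ze56) (ke xe18 ye36 ze54) (ke xe26 ye22 ze50) (ke xe17 ye57 ze31) (ke xe32 ye7 ze4) (ke xe21 ye11 ze3) (ke xe16 ye19 ze45) (ke xe16 ye19 ze46) (ke xe18 ye52 ze52) (ke xe22 ye30 ze43) (ke xe24 ye54 ze7) (ke xe16 ye26 ze47) (ke xe16 ye26 ze49) (ke xe17 ye43 ze15) (ke xe16 ye28 ze51) (ke xe31 ye38 ze41) (ke xe27 ye12 ze36) (ke xe29 ye6 ze58) (ke xe29 ye0 ze34) (ke xe27 ye13 ze3) (ke xe26 ye22 ze44)) (@D3.rec (fun _ => Pt) (ke xe31 ye10 ze40) (ke xe21 ye54 ze60) (ke xe32 ye7 ze15) (ke xe16 ye20 ze1) (ke xe27 ye52 ze25) (ke xe16 ye20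 ze2) (ke xe17 ye40 ze13) (ke xe32 ye7 ze16) (ke xe22 ye8 ze8) (ke xe22 ye8 ze44) (ke xe27 ye3 ze59) (ke xe29 ye59 ze39) (ke xe16 ye20 ze9) (ke xe25 ye1 ze41) (ke xe20 ye11 ze8) (ke xe18 ye32 ze48) (ke xe31 ye16 ze29) (ke xe28 ye5 ze3) (ke xe16 ye20 ze12) (ke xe25 ye28 ze47) (ke xe26 ye16 ze32) (ke xe27 ye51 ze7) (ke xe16 ye21 ze2) (ke xe18 ye17 ze33) (ke xe24 ye19 ze60) (ke xe28 ye25 ze48) (ke xe16 ye20 ze27) (ke xe20 ye4 ze46) (ke xe20 ye4 ze45) (ke xe28 ye5 ze32) (ke xe30 ye45 ze22) (ke xe20 ye10 ze57) (ke xe32 ye7 ze21) (ke xe16 ye20 ze38) (ke xe18 ye49 ze33) (ke xe20 ye10 ze61) (ke xe28 ye6 ze15) (ke xe16 ye20 ze40) (ke xe22 ye47 ze20) (ke xe31 ye59 ze29) (ke xe20 ye8 ze19) (ke xe31 ye0 ze24) (ke xe25 ye15 ze55) (ke xe16 ye20 ze44) (ke xe16 ye20 ze45) (ke xe31 ye1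 ze18) (ke xe16 ye20 ze49) (ke xe32 ye7 ze22) (ke xe16 ye20 ze51) (ke xe32 ye7 ze23) (ke xe16 ye20 ze53) (ke xe32 ye7 ze24) (ke xe16 ye20 ze54) (ke xe27 ye40 ze24) (ke xe29 ye53 ze46) (ke xe24 ye54 ze36) (ke xe32 ye7 ze27) (ke xe16 ye20 ze57) (ke xe16 ye20 ze58) (ke xe25 ye0 ze10) (ke xe18 ye49 ze18) (ke xe21 ye29 ze59)) (@D3.rec (fun _ => Pt) (ke xe22 ye28 ze52) (ke xe24 ye24 ze11) (ke xe31 ye5 ze41) (ke xe16 ye21 ze0) (ke xe18 ye35 ze49) (ke xe24 ye46 ze48) (ke xe18 ye8 ze25) (ke xe16 ye21 ze6) (ke xe22 ye57 ze4) (ke xe28 ye0 ze6) (ke xe30 ye27 ze59) (ke xe16 ye24 ze13) (ke xe26 ye29 ze50) (ke xe27 ye25 ze33) (ke xe30 ye55 ze6) (ke xe26 ye28 ze23) (ke xe16 ye21 ze12) (ke xe16 ye32 ze0) (ke xe16 ye21 ze13) (ke xe16 ye21 ze16) (ke xe31 ye22 ze21) (ke xe26 ye30 ze25)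 (ke xe16 ye33 ze9) (ke xe16 ye21 ze19) (ke xe32 ye7 ze32) (ke xe32 ye1 ze45) (ke xe29 ye54 ze22) (ke xe29 ye25 ze5) (ke xe27 ye34 ze6) (ke xe32 ye7 ze33) (ke xe18 ye12 ze0) (ke xe16 ye21 ze24) (ke xe16 ye21 ze25) (ke xe16 ye33 ze12) (ke xe23 ye7 ze24) (ke xe23 ye34 ze8) (ke xe16 ye21 ze30) (ke xe16 ye21 ze31) (ke xe29 ye53 ze14) (ke xe23 ye51 ze9) (ke xe16 ye21 ze35) (ke xe16 ye21 ze38) (ke xe17 ye40 ze32) (ke xe16 ye21 ze40) (ke xe28 ye18 ze0) (ke xe17 ye41 ze38) (ke xe18 ye9 ze15) (ke xe29 ye53 ze59) (ke xe16 ye21 ze44) (ke xe16 ye21 ze49) (ke xe27 ye12 ze25) (ke xe16 ye21 ze55) (ke xe25 ye32 ze43) (ke xe16 ye21 ze56) (ke xe19 ye2 ze13) (ke xe20 ye29 ze24) (ke xe16 ye30 ze3) (ke xe22 ye53 ze53) (ke xe20 ye29 ze25) (ke xe16 ye21 ze60) (ke xe18 ye14 ze24) (ke xe32 ye7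 ze37)) (@D3.rec (fun _ => Pt) (ke xe16 ye21 ze61) (ke xe26 ye32 ze38) (ke xe18 ye56 ze21) (ke xe30 ye39 ze53) (ke xe19 ye0 ze13) (ke xe23 ye25 ze16) (ke xe25 ye46 ze18) (ke xe17 ye35 ze45) (ke xe17 ye45 ze36) (ke xe16 ye31 ze1) (ke xe19 ye1 ze31) (ke xe31 ye23 ze15) (ke xe26 ye32 ze28) (ke xe30 ye43 ze8) (ke xe16 ye22 ze21) (ke xe16 ye22 ze22) (ke xe25 ye50 ze20) (ke xe30 ye29 ze23) (ke xe22 ye49 ze59) (ke xe19 ye0 ze20) (ke xe28 ye27 ze13) (ke xe22 ye54 ze14) (ke xe26 ye30 ze56) (ke xe16 ye22 ze28) (ke xe26 ye55 ze39) (ke xe22 ye47 ze57) (ke xe25 ye16 ze14) (ke xe20 ye8 ze8) (ke xe26 ye25 ze57) (ke xe21 ye4 ze21) (ke xe29 ye12 ze34) (ke xe16 ye22 ze32) (ke xe24 ye7 ze39) (ke xe23 ye16 ze54) (ke xe17 ye57 ze4) (ke xe17 ye53 ze53) (ke xe29 ye4 ze45) (ke xe31 ye44 ze8)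 (ke xe16 ye22 ze42) (ke xe16 ye22 ze43) (ke xe28 ye18 ze41) (ke xe22 ye18 ze20) (ke xe16 ye35 ze57) (ke xe20 ye30 ze57) (ke xe25 ye1 ze37) (ke xe18 ye31 ze56) (ke xe26 ye29 ze51) (ke xe24 ye56 ze12) (ke xe27 ye56 ze15) (ke xe16 ye22 ze53) (ke xe26 ye16 ze24) (ke xe17 ye54 ze18) (ke xe28 ye4 ze41) (ke xe24 ye55 ze39) (ke xe24 ye48 ze1) (ke xe16 ye22 ze57) (ke xe23 ye51 ze23) (ke xe27 ye55 ze15) (ke xe16 ye22 ze58) (ke xe31 ye1 ze27) (ke xe18 ye34 ze9) (ke xe16 ye33 ze4)) (@D3.rec (fun _ => Pt) (ke xe31 ye44 ze28) (ke xe27 ye31 ze2) (ke xe28 ye5 ze28) (ke xe16 ye23 ze1) (ke xe27 ye54 ze30) (ke xe32 ye7 ze51) (ke xe27 ye34 ze37) (ke xe16 ye23 ze3) (ke xe24 ye55 ze47) (ke xe18 ye7 ze13) (ke xe22 ye18 ze13) (ke xe27 ye31 ze28) (ke xe19 ye1 ze43) (ke xe22 ye14 ze54) (ke xe16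 ye23 ze17) (ke xe16 ye33 ze31) (ke xe29 ye42 ze41) (ke xe16 ye23 ze24) (ke xe26 ye28 ze55) (ke xe16 ye33 ze59) (ke xe32 ye7 ze56) (ke xe16 ye23 ze25) (ke xe23 ye5 ze5) (ke xe32 ye7 ze57) (ke xe32 ye7 ze58) (ke xe16 ye23 ze28) (ke xe24 ye35 ze2) (ke xe32 ye6 ze25) (ke xe16 ye23 ze29) (ke xe28 ye36 ze30) (ke xe32 ye6 ze35) (ke xe16 ye23 ze31) (ke xe16 ye32 ze34) (ke xe31 ye25 ze18) (ke xe24 ye48 ze19) (ke xe28 ye55 ze36) (ke xe32 ye8 ze4) (ke xe31 ye45 ze3) (ke xe30 ye2 ze55) (ke xe31 ye11 ze41) (ke xe16 ye23 ze40) (ke xe16 ye23 ze43) (ke xe29 ye54 ze16) (ke xe28 ye4 ze29) (ke xe31 ye45 ze9) (ke xe28 ye7 ze20) (ke xe30 ye32 ze48) (ke xe30 ye24 ze22) (ke xe20 ye8 ze47) (ke xe18 ye19 ze50) (ke xe16 ye23 ze57) (ke xe16 ye24 ze0) (ke xe25 ye25 ze20) (ke xe25 ye16 ze41) (ke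 xe30 ye14 ze30) (ke xe17 ye53 ze16) (ke xe19 ye12 ze40) (ke xe18 ye14 ze9) (ke xe31 ye37 ze46) (ke xe16 ye24 ze8) (ke xe24 ye54 ze28) (ke xe26 ye24 ze2)) (@D3.rec (fun _ => Pt) (ke xe16 ye24 ze22) (ke xe31 ye1 ze3) (ke xe22 ye37 ze40) (ke xe26 ye23 ze30) (ke xe16 ye24 ze24) (ke xe16 ye24 ze28) (ke xe26 ye50 ze21) (ke xe28 ye47 ze49) (ke xe27 ye20 ze61) (ke xe16 ye24 ze30) (ke xe25 ye52 ze2) (ke xe20 ye6 ze6) (ke xe17 ye2 ze34) (ke xe30 ye43 ze37) (ke xe16 ye24 ze37) (ke xe28 ye35 ze33) (ke xe28 ye53 ze33) (ke xe16 ye24 ze42) (ke xe24 ye5 ze61) (ke xe30 ye26 ze39) (ke xe29 ye38 ze23) (ke xe24 ye30 ze22) (ke xe26 ye56 ze16) (ke xe26 ye48 ze48) (ke xe16 ye24 ze45) (ke xe19 ye7 ze58) (ke xe16 ye24 ze46) (ke xe22 ye46 ze33) (ke xe30 ye17 ze8) (ke xe25 ye52 ze10) (ke xe18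 ye44 ze8) (ke xe22 ye37 ze52) (ke xe16 ye51 ze20) (ke xe16 ye24 ze54) (ke xe21 ye55 ze10) (ke xe29 ye22 ze2) (ke xe21 ye53 ze32) (ke xe21 ye29 ze26) (ke xe31 ye42 ze28) (ke xe21 ye12 ze26) (ke xe19 ye49 ze31) (ke xe19 ye49 ze23) (ke xe31 ye42 ze26) (ke xe19 ye46 ze61) (ke xe26 ye17 ze61) (ke xe22 ye39 ze1) (ke xe30 ye40 ze59) (ke xe16 ye25 ze9) (ke xe25 ye23 ze13) (ke xe21 ye34 ze23) (ke xe26 ye17 ze43) (ke xe30 ye59 ze3) (ke xe23 ye8 ze48) (ke xe16 ye25 ze20) (ke xe16 ye25 ze22) (ke xe21 ye44 ze12) (ke xe20 ye14 ze17) (ke xe22 ye3 ze5) (ke xe16 ye25 ze25) (ke xe16 ye25 ze29) (ke xe21 ye44 ze55) (ke xe23 ye18 ze34)) (@D3.rec (fun _ => Pt) (ke xe28 ye10 ze49) (ke xe26 ye8 ze42) (ke xe20 ye36 ze33) (ke xe20 ye36 ze29) (ke xe20 ye32 ze49) (ke xe25 ye17 ze52) (ke xe23 ye33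 ze44) (ke xe16 ye25 ze39) (ke xe25 ye44 ze15) (ke xe18 ye42 ze41) (ke xe31 ye8 ze6) (ke xe18 ye40 ze40) (ke xe24 ye44 ze5) (ke xe16 ye25 ze49) (ke xe16 ye25 ze52) (ke xe32 ye8 ze19) (ke xe16 ye25 ze54) (ke xe30 ye47 ze12) (ke xe21 ye48 ze36) (ke xe16 ye25 ze57) (ke xe29 ye27 ze0) (ke xe21 ye59 ze41) (ke xe28 ye14 ze14) (ke xe23 ye18 ze30) (ke xe25 ye56 ze26) (ke xe16 ye26 ze0) (ke xe16 ye26 ze1) (ke xe22 ye2 ze21) (ke xe24 ye2 ze13) (ke xe19 ye20 ze43) (ke xe26 ye22 ze3) (ke xe23 ye15 ze1) (ke xe20 ye45 ze14) (ke xe28 ye48 ze41) (ke xe17 ye31 ze17) (ke xe20 ye45 ze19) (ke xe27 ye44 ze20) (ke xe16 ye26 ze14) (ke xe24 ye19 ze23) (ke xe30 ye12 ze43) (ke xe31 ye58 ze13) (ke xe23 ye4 ze9) (ke xe16 ye26 ze19) (ke xe29 ye30 ze47) (ke xe16 ye26 ze23) (ke xe16 ye26 ze25) (ke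 xe30 ye24 ze27) (ke xe30 ye33 ze0) (ke xe16 ye26 ze30) (ke xe30 ye17 ze7) (ke xe30 ye54 ze0) (ke xe23 ye18 ze61) (ke xe16 ye26 ze34) (ke xe25 ye12 ze25) (ke xe25 ye7 ze24) (ke xe16 ye26 ze36) (ke xe24 ye7 ze55) (ke xe22 ye48 ze31) (ke xe26 ye24 ze30) (ke xe21 ye12 ze15) (ke xe22 ye55 ze37) (ke xe30 ye24 ze29)) (@D3.rec (fun _ => Pt) (ke xe20 ye29 ze40) (ke xe25 ye9 ze3) (ke xe26 ye21 ze61) (ke xe19 ye9 ze6) (ke xe30 ye55 ze8) (ke xe16 ye26 ze51) (ke xe32 ye8 ze28) (ke xe16 ye26 ze52) (ke xe16 ye27 ze22) (ke xe31 ye54 ze50) (ke xe30 ye21 ze3) (ke xe25 ye11 ze30) (ke xe25 ye2 ze5) (ke xe16 ye26 ze57) (ke xe16 ye26 ze61) (ke xe30 ye51 ze38) (ke xe28 ye18 ze7) (ke xe29 ye35 ze14) (ke xe22 ye59 ze48) (ke xe27 ye41 ze58) (ke xe28 ye24 ze55) (ke xe31 ye58 ze16) (ke xe16 ye27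 ze6) (ke xe29 ye54 ze7) (ke xe26 ye42 ze25) (ke xe32 ye8 ze32) (ke xe16 ye27 ze11) (ke xe26 ye29 ze46) (ke xe16 ye27 ze13) (ke xe29 ye49 ze24) (ke xe26 ye23 ze58) (ke xe31 ye54 ze53) (ke xe24 ye56 ze42) (ke xe16 ye27 ze16) (ke xe30 ye52 ze1) (ke xe26 ye13 ze22) (ke xe28 ye21 ze16) (ke xe16 ye27 ze21) (ke xe21 ye0 ze35) (ke xe30 ye6 ze33) (ke xe25 ye43 ze17) (ke xe19 ye49 ze51) (ke xe25 ye24 ze40) (ke xe30 ye27 ze45) (ke xe31 ye38 ze59) (ke xe17 ye57 ze13) (ke xe31 ye46 ze38) (ke xe16 ye27 ze33) (ke xe16 ye27 ze34) (ke xe16 ye27 ze35) (ke xe20 ye29 ze30) (ke xe22 ye53 ze49) (ke xe16 ye27 ze39) (ke xe26 ye49 ze37) (ke xe20 ye28 ze50) (ke xe29 ye24 ze57) (ke xe16 ye27 ze43) (ke xe26 ye56 ze9) (ke xe31 ye2 ze28) (ke xe16 ye27 ze46) (ke xe21 ye13 ze9) (ke xe26 ye49 ze39))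 (@D3.rec (fun _ => Pt) (ke xe26 ye53 ze14) (ke xe23 ye35 ze11) (ke xe16 ye27 ze49) (ke xe18 ye22 ze58) (ke xe16 ye27 ze52) (ke xe27 ye9 ze42) (ke xe17 ye56 ze47) (ke xe21 ye6 ze27) (ke xe16 ye27 ze54) (ke xe28 ye31 ze44) (ke xe32 ye8 ze43) (ke xe16 ye27 ze59) (ke xe28 ye12 ze32) (ke xe32 ye8 ze44) (ke xe18 ye56 ze42) (ke xe16 ye28 ze3) (ke xe32 ye8 ze40) (ke xe20 ye29 ze34) (ke xe16 ye28 ze7) (ke xe25 ye52 ze6) (ke xe24 ye22 ze4) (ke xe27 ye43 ze1) (ke xe17 ye35 ze4) (ke xe23 ye5 ze25) (ke xe16 ye28 ze13) (ke xe30 ye55 ze0) (ke xe16 ye28 ze16) (ke xe23 ye47 ze2) (ke xe22 ye54 ze3) (ke xe16 ye28 ze23) (ke xe23 ye3 ze47) (ke xe16 ye29 ze24) (ke xe20 ye17 ze43) (ke xe24 ye18 ze1) (ke xe21 ye12 ze19) (ke xe23 ye5 ze14) (ke xe25 ye25 ze45) (ke xe24 ye31 ze23) (ke xe16 ye28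 ze34) (ke xe16 ye28 ze36) (ke xe22 ye59 ze57) (ke xe16 ye28 ze38) (ke xe19 ye44 ze51) (ke xe22 ye53 ze22) (ke xe26 ye57 ze25) (ke xe22 ye17 ze18) (ke xe20 ye29 ze29) (ke xe22 ye56 ze44) (ke xe16 ye28 ze45) (ke xe16 ye29 ze30) (ke xe20 ye1 ze7) (ke xe30 ye33 ze56) (ke xe16 ye28 ze47) (ke xe25 ye49 ze27) (ke xe28 ye34 ze58) (ke xe16 ye28 ze52) (ke xe16 ye28 ze55) (ke xe26 ye20 ze28) (ke xe28 ye23 ze25) (ke xe31 ye43 ze54) (ke xe16 ye28 ze60) (ke xe20 ye34 ze47)) (@D3.rec (fun _ => Pt) (ke xe18 ye59 ze40) (ke xe16 ye29 ze53) (ke xe29 ye15 ze26) (ke xe26 ye28 ze28) (ke xe31 ye42 ze2) (ke xe21 ye10 ze57) (ke xe16 ye29 ze1) (ke xe26 ye28 ze56) (ke xe16 ye33 ze54) (ke xe21 ye14 ze43) (ke xe27 ye22 ze24) (ke xe31 ye38 ze38) (ke xe27 ye58 ze19) (ke xe22 ye17 ze0) (ke xe16 ye29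 ze13) (ke xe24 ye12 ze54) (ke xe30 ye27 ze57) (ke xe16 ye29 ze16) (ke xe20 ye38 ze53) (ke xe28 ye56 ze7) (ke xe22 ye25 ze26) (ke xe22 ye37 ze55) (ke xe16 ye29 ze27) (ke xe27 ye57 ze49) (ke xe23 ye13 ze53) (ke xe16 ye29 ze32) (ke xe16 ye29 ze34) (ke xe31 ye6 ze22) (ke xe16 ye29 ze37) (ke xe21 ye30 ze14) (ke xe28 ye13 ze52) (ke xe16 ye29 ze39) (ke xe29 ye28 ze23) (ke xe32 ye3 ze42) (ke xe26 ye26 ze43) (ke xe28 ye26 ze56) (ke xe19 ye1 ze42) (ke xe22 ye22 ze37) (ke xe16 ye29 ze49) (ke xe32 ye7 ze38) (ke xe30 ye6 ze57) (ke xe29 ye14 ze58) (ke xe16 ye29 ze55) (ke xe26 ye26 ze34) (ke xe25 ye59 ze26) (ke xe32 ye8 ze57) (ke xe29 ye6 ze30) (ke xe16 ye29 ze57) (ke xe16 ye29 ze59) (ke xe16 ye29 ze61) (ke xe26 ye27 ze13) (ke xe28 ye36 ze2) (ke xe20 ye52 ze25) (ke xe16 ye30 ze5)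 (ke xe28 ye33 ze27) (ke xe16 ye30 ze12) (ke xe32 ye8 ze59) (ke xe28 ye14 ze29) (ke xe20 ye34 ze52) (ke xe28 ye28 ze19) (ke xe22 ye17 ze49) (ke xe16 ye30 ze10)) (@D3.rec (fun _ => Pt) (ke xe26 ye2 ze4) (ke xe28 ye28 ze22) (ke xe20 ye52 ze21) (ke xe18 ye58 ze57) (ke xe16 ye30 ze23) (ke xe16 ye30 ze27) (ke xe16 ye30 ze34) (ke xe16 ye30 ze35) (ke xe16 ye30 ze37) (ke xe20 ye31 ze59) (ke xe20 ye5 ze55) (ke xe20 ye7 ze43) (ke xe16 ye57 ze2) (ke xe26 ye26 ze50) (ke xe22 ye11 ze23) (ke xe28 ye12 ze42) (ke xe26 ye12 ze55) (ke xe24 ye59 ze27) (ke xe28 ye11 ze1) (ke xe29 ye12 ze10) (ke xe28 ye10 ze37) (ke xe32 ye8 ze61) (ke xe18 ye31 ze37) (ke xe25 ye47 ze30) (ke xe28 ye28 ze32) (ke xe29 ye52 ze53) (ke xe32 ye9 ze3) (ke xe16 ye31 ze4) (ke xe32 ye8 ze48) (ke xe16 ye31 ze6) (ke xe28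 ye46 ze35) (ke xe16 ye31 ze8) (ke xe30 ye24 ze24) (ke xe28 ye35 ze37) (ke xe16 ye31 ze11) (ke xe27 ye23 ze54) (ke xe16 ye31 ze22) (ke xe30 ye28 ze23) (ke xe20 ye40 ze53) (ke xe16 ye31 ze13) (ke xe28 ye35 ze32) (ke xe32 ye9 ze12) (ke xe16 ye31 ze14) (ke xe28 ye27 ze20) (ke xe27 ye58 ze30) (ke xe30 ye3 ze17) (ke xe22 ye17 ze31) (ke xe16 ye31 ze16) (ke xe27 ye55 ze55) (ke xe23 ye49 ze11) (ke xe31 ye59 ze24) (ke xe32 ye9 ze13) (ke xe28 ye27 ze8) (ke xe29 ye54 ze47) (ke xe30 ye42 ze54) (ke xe30 ye3 ze16) (ke xe22 ye22 ze43) (ke xe31 ye23 ze16) (ke xe22 ye7 ze57) (ke xe29 ye14 ze36) (ke xe19 ye7 ze26) (ke xe32 ye9 ze18)) (@D3.rec (fun _ => Pt) (ke xe16 ye31 ze23) (ke xe16 ye31 ze24) (ke xe18 ye2 ze15) (ke xe21 ye54 ze16) (ke xe29 ye9 ze11) (ke xe24 ye47 ze9) (ke xe21 ye59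 ze49) (ke xe21 ye59 ze17) (ke xe23 ye8 ze54) (ke xe16 ye31 ze33) (ke xe19 ye7 ze38) (ke xe20 ye26 ze25) (ke xe22 ye42 ze26) (ke xe20 ye53 ze46) (ke xe19 ye34 ze16) (ke xe20 ye30 ze45) (ke xe16 ye31 ze40) (ke xe20 ye7 ze32) (ke xe16 ye31 ze42) (ke xe28 ye31 ze21) (ke xe20 ye26 ze18) (ke xe21 ye53 ze2) (ke xe16 ye31 ze52) (ke xe26 ye19 ze15) (ke xe27 ye5 ze24) (ke xe27 ye5 ze23) (ke xe31 ye32 ze37) (ke xe16 ye31 ze59) (ke xe26 ye26 ze3) (ke xe28 ye23 ze2) (ke xe17 ye1 ze10) (ke xe28 ye26 ze49) (ke xe25 ye16 ze10) (ke xe17 ye1 ze7) (ke xe26 ye45 ze12) (ke xe16 ye32 ze1) (ke xe22 ye48 ze21) (ke xe22 ye16 ze26) (ke xe16 ye32 ze4) (ke xe30 ye43 ze20) (ke xe17 ye56 ze8) (ke xe20 ye22 ze25) (ke xe24 ye5 ze29) (ke xe23 ye0 ze0) (ke xe21 ye10 ze26) (ke xe16 ye32 ze8) (ke xe21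 ye41 ze48) (ke xe28 ye13 ze3) (ke xe26 ye30 ze61) (ke xe16 ye32 ze11) (ke xe26 ye31 ze8) (ke xe30 ye55 ze7) (ke xe26 ye31 ze4) (ke xe16 ye32 ze14) (ke xe21 ye10 ze30) (ke xe26 ye21 ze18) (ke xe26 ye26 ze7) (ke xe30 ye53 ze40) (ke xe16 ye32 ze19) (ke xe30 ye47 ze24) (ke xe16 ye32 ze20) (ke xe30 ye54 ze37)) (@D3.rec (fun _ => Pt) (ke xe16 ye32 ze21) (ke xe26 ye29 ze22) (ke xe17 ye15 ze0) (ke xe21 ye14 ze4) (ke xe32 ye8 ze33) (ke xe16 ye32 ze23) (ke xe26 ye30 ze26) (ke xe23 ye8 ze42) (ke xe26 ye31 ze11) (ke xe16 ye32 ze28) (ke xe26 ye31 ze16) (ke xe16 ye32 ze29) (ke xe21 ye14 ze40) (ke xe30 ye43 ze45) (ke xe24 ye48 ze30) (ke xe29 ye20 ze52) (ke xe24 ye48 ze26) (ke xe21 ye10 ze56) (ke xe31 ye32 ze56) (ke xe32 ye9 ze40) (ke xe16 ye32 ze35) (ke xe16 ye32 ze39) (ke xe26 ye29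 ze1) (ke xe19 ye21 ze14) (ke xe24 ye57 ze23) (ke xe27 ye58 ze34) (ke xe19 ye21 ze27) (ke xe17 ye0 ze39) (ke xe16 ye32 ze45) (ke xe22 ye51 ze3) (ke xe22 ye51 ze4) (ke xe16 ye32 ze47) (ke xe16 ye52 ze59) (ke xe26 ye5 ze24) (ke xe20 ye10 ze26) (ke xe16 ye32 ze50) (ke xe27 ye12 ze20) (ke xe23 ye21 ze36) (ke xe26 ye31 ze61) (ke xe30 ye12 ze23) (ke xe16 ye32 ze54) (ke xe19 ye40 ze1) (ke xe26 ye32 ze4) (ke xe30 ye45 ze24) (ke xe16 ye32 ze57) (ke xe31 ye38 ze45) (ke xe26 ye24 ze27) (ke xe22 ye51 ze42) (ke xe16 ye32 ze61) (ke xe16 ye33 ze0) (ke xe26 ye19 ze12) (ke xe26 ye20 ze46) (ke xe22 ye52 ze1) (ke xe27 ye30 ze34) (ke xe27 ye48 ze13) (ke xe16 ye33 ze6) (ke xe22 ye18 ze33) (ke xe32 ye7 ze35) (ke xe24 ye18 ze6) (ke xe29 ye38 ze24) (ke xe16 ye33 ze19) (ke xe23 ye9 ze26)) (@D3.rec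 (fun _ => Pt) (ke xe23 ye14 ze15) (ke xe23 ye16 ze4) (ke xe18 ye42 ze40) (ke xe18 ye44 ze29) (ke xe19 ye23 ze3) (ke xe16 ye33 ze21) (ke xe19 ye23 ze5) (ke xe16 ye33 ze23) (ke xe28 ye24 ze29) (ke xe23 ye34 ze28) (ke xe16 ye33 ze26) (ke xe18 ye19 ze0) (ke xe16 ye33 ze29) (ke xe31 ye59 ze47) (ke xe28 ye38 ze39) (ke xe16 ye33 ze32) (ke xe29 ye42 ze40) (ke xe16 ye33 ze33) (ke xe29 ye28 ze50) (ke xe27 ye47 ze49) (ke xe16 ye33 ze35) (ke xe27 ye44 ze24) (ke xe16 ye33 ze37) (ke xe30 ye44 ze22) (ke xe16 ye33 ze58) (ke xe26 ye19 ze21) (ke xe26 ye29 ze6) (ke xe23 ye7 ze59) (ke xe23 ye5 ze13) (ke xe23 ye9 ze56) (ke xe16 ye33 ze42) (ke xe16 ye33 ze44) (ke xe19 ye6 ze39) (ke xe28 ye32 ze7) (ke xe16 ye33 ze47) (ke xe16 ye34 ze22) (ke xe24 ye48 ze21) (ke xe16 ye33 ze49) (ke xe32 ye10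 ze1) (ke xe30 ye24 ze53) (ke xe16 ye33 ze50) (ke xe24 ye38 ze34) (ke xe16 ye34 ze23) (ke xe29 ye20 ze42) (ke xe30 ye44 ze30) (ke xe28 ye3 ze24) (ke xe16 ye33 ze52) (ke xe30 ye45 ze51) (ke xe28 ye47 ze11) (ke xe23 ye2 ze24) (ke xe16 ye33 ze55) (ke xe30 ye31 ze15) (ke xe16 ye33 ze56) (ke xe32 ye7 ze55) (ke xe26 ye31 ze28) (ke xe29 ye52 ze52) (ke xe26 ye20 ze22) (ke xe29 ye25 ze17) (ke xe31 ye44 ze4) (ke xe31 ye59 ze61) (ke xe25 ye24 ze52) (ke xe26 ye28 ze48)) (@D3.rec (fun _ => Pt) (ke xe23 ye8 ze4) (ke xe29 ye52 ze47) (ke xe31 ye59 ze49) (ke xe32 ye10 ze11) (ke xe26 ye28 ze52) (ke xe29 ye52 ze49) (ke xe27 ye47 ze50) (ke xe16 ye34 ze3) (ke xe26 ye28 ze50) (ke xe30 ye54 ze38) (ke xe30 ye51 ze2) (ke xe26 ye29 ze8) (ke xe16 ye34 ze7) (ke xe30 ye48 ze8) (ke xe30 ye24 ze30)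 (ke xe26 ye15 ze31) (ke xe26 ye29 ze10) (ke xe22 ye53 ze13) (ke xe24 ye48 ze12) (ke xe31 ye44 ze49) (ke xe32 ye10 ze13) (ke xe18 ye40 ze51) (ke xe16 ye34 ze10) (ke xe29 ye16 ze7) (ke xe25 ye58 ze32) (ke xe16 ye34 ze12) (ke xe31 ye42 ze27) (ke xe29 ye53 ze1) (ke xe26 ye30 ze54) (ke xe29 ye52 ze61) (ke xe32 ye6 ze30) (ke xe32 ye10 ze17) (ke xe16 ye34 ze14) (ke xe22 ye55 ze41) (ke xe20 ye21 ze17) (ke xe32 ye9 ze60) (ke xe25 ye4 ze43) (ke xe25 ye50 ze59) (ke xe16 ye34 ze19) (ke xe28 ye31 ze45) (ke xe31 ye39 ze35) (ke xe17 ye26 ze55) (ke xe20 ye19 ze6) (ke xe29 ye14 ze38) (ke xe24 ye48 ze22) (ke xe32 ye10 ze19) (ke xe24 ye48 ze0) (ke xe28 ye6 ze48) (ke xe29 ye21 ze33) (ke xe16 ye34 ze24) (ke xe32 ye8 ze38) (ke xe29 ye20 ze50) (ke xe16 ye34 ze26) (ke xe16 ye34 ze28) (ke xe27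 ye44 ze25) (ke xe23 ye19 ze3) (ke xe29 ye25 ze0) (ke xe31 ye44 ze54) (ke xe16 ye34 ze30) (ke xe27 ye53 ze11) (ke xe16 ye34 ze31) (ke xe26 ye29 ze38)) (@D3.rec (fun _ => Pt) (ke xe29 ye53 ze19) (ke xe18 ye45 ze60) (ke xe16 ye34 ze36) (ke xe24 ye48 ze10) (ke xe26 ye29 ze42) (ke xe18 ye13 ze42) (ke xe28 ye21 ze34) (ke xe23 ye21 ze55) (ke xe28 ye4 ze21) (ke xe20 ye11 ze7) (ke xe16 ye34 ze43) (ke xe30 ye45 ze17) (ke xe32 ye10 ze24) (ke xe16 ye34 ze46) (ke xe31 ye25 ze21) (ke xe32 ye9 ze14) (ke xe30 ye45 ze39) (ke xe20 ye7 ze57) (ke xe16 ye34 ze49) (ke xe18 ye58 ze40) (ke xe18 ye43 ze5) (ke xe22 ye50 ze20) (ke xe16 ye34 ze53) (ke xe29 ye18 ze41) (ke xe16 ye34 ze56) (ke xe18 ye1 ze31) (ke xe16 ye35 ze0) (ke xe26 ye2 ze13) (ke xe26 ye20 ze12) (ke xe24 ye38 ze42) (ke xe24 ye46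 ze23) (ke xe29 ye7 ze16) (ke xe30 ye33 ze32) (ke xe22 ye51 ze10) (ke xe16 ye35 ze19) (ke xe32 ye10 ze2) (ke xe16 ye35 ze20) (ke xe19 ye0 ze12) (ke xe26 ye20 ze1) (ke xe16 ye35 ze22) (ke xe16 ye35 ze23) (ke xe27 ye52 ze16) (ke xe16 ye35 ze24) (ke xe19 ye0 ze5) (ke xe22 ye51 ze14) (ke xe21 ye30 ze45) (ke xe27 ye58 ze17) (ke xe32 ye10 ze29) (ke xe22 ye51 ze19) (ke xe16 ye35 ze27) (ke xe16 ye35 ze31) (ke xe16 ye35 ze36) (ke xe28 ye13 ze50) (ke xe29 ye55 ze35) (ke xe17 ye23 ze53) (ke xe20 ye54 ze55) (ke xe28 ye12 ze16) (ke xe21 ye13 ze52) (ke xe16 ye50 ze61) (ke xe30 ye35 ze41) (ke xe31 ye11 ze39) (ke xe19 ye39 ze20)) (@D3.rec (fun _ => Pt) (ke xe22 ye28 ze29) (ke xe16 ye35 ze59) (ke xe19 ye2 ze2) (ke xe30 ye40 ze1) (ke xe16 ye36 ze1) (ke xe16 ye43 ze56) (ke xe25 ye16 ze54)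 (ke xe29 ye31 ze49) (ke xe29 ye45 ze24) (ke xe32 ye10 ze30) (ke xe16 ye36 ze14) (ke xe29 ye34 ze34) (ke xe19 ye43 ze2) (ke xe26 ye52 ze19) (ke xe16 ye48 ze30) (ke xe27 ye0 ze21) (ke xe26 ye39 ze19) (ke xe27 ye19 ze3) (ke xe16 ye36 ze22) (ke xe16 ye36 ze23) (ke xe32 ye3 ze34) (ke xe29 ye31 ze20) (ke xe16 ye39 ze39) (ke xe28 ye40 ze44) (ke xe16 ye36 ze29) (ke xe29 ye33 ze23) (ke xe20 ye57 ze58) (ke xe16 ye36 ze32) (ke xe20 ye57 ze49) (ke xe20 ye58 ze19) (ke xe32 ye10 ze37) (ke xe16 ye40 ze36) (ke xe21 ye52 ze11) (ke xe25 ye25 ze17) (ke xe16 ye36 ze38) (ke xe16 ye36 ze39) (ke xe31 ye20 ze13) (ke xe29 ye46 ze24) (ke xe16 ye41 ze7) (ke xe16 ye40 ze43) (ke xe29 ye44 ze12) (ke xe29 ye47 ze32) (ke xe16 ye36 ze42) (ke xe32 ye10 ze38) (ke xe16 ye36 ze44) (ke xe25 ye12 ze10) (ke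 xe16 ye36 ze45) (ke xe20 ye57 ze34) (ke xe16 ye36 ze46) (ke xe21 ye16 ze31) (ke xe16 ye36 ze47) (ke xe25 ye11 ze48) (ke xe31 ye31 ze40) (ke xe24 ye15 ze0) (ke xe29 ye4 ze53) (ke xe16 ye36 ze51) (ke xe16 ye36 ze53) (ke xe29 ye26 ze27) (ke xe26 ye34 ze33) (ke xe16 ye36 ze56) (ke xe28 ye56 ze52) (ke xe16 ye36 ze57)) (@D3.rec (fun _ => Pt) (ke xe29 ye31 ze30) (ke xe25 ye8 ze45) (ke xe25 ye6 ze36) (ke xe26 ye34 ze39) (ke xe20 ye48 ze31) (ke xe16 ye36 ze61) (ke xe25 ye31 ze1) (ke xe21 ye48 ze8) (ke xe17 ye48 ze52) (ke xe16 ye42 ze10) (ke xe16 ye37 ze1) (ke xe16 ye42 ze4) (ke xe32 ye10 ze57) (ke xe26 ye40 ze42) (ke xe25 ye49 ze31) (ke xe30 ye16 ze39) (ke xe30 ye16 ze7) (ke xe16 ye37 ze7) (ke xe32 ye10 ze61) (ke xe16 ye37 ze8) (ke xe16 ye37 ze9) (ke xe25 ye22 ze19) (ke xe32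 ye11 ze3) (ke xe32 ye3 ze24) (ke xe32 ye3 ze27) (ke xe19 ye28 ze19) (ke xe16 ye37 ze13) (ke xe31 ye27 ze5) (ke xe16 ye37 ze14) (ke xe32 ye11 ze5) (ke xe16 ye37 ze15) (ke xe16 ye37 ze16) (ke xe17 ye28 ze50) (ke xe26 ye33 ze58) (ke xe29 ye44 ze0) (ke xe20 ye58 ze41) (ke xe20 ye58 ze48) (ke xe16 ye37 ze21) (ke xe16 ye37 ze19) (ke xe26 ye34 ze3) (ke xe30 ye20 ze24) (ke xe30 ye28 ze19) (ke xe26 ye41 ze30) (ke xe25 ye22 ze32) (ke xe20 ye35 ze36) (ke xe16 ye37 ze27) (ke xe22 ye22 ze12) (ke xe16 ye37 ze28) (ke xe18 ye22 ze13) (ke xe20 ye35 ze26) (ke xe29 ye33 ze55) (ke xe32 ye11 ze21) (ke xe16 ye37 ze33) (ke xe26 ye58 ze43) (ke xe28 ye50 ze28) (ke xe26 ye40 ze34) (ke xe16 ye37 ze34) (ke xe30 ye48 ze37) (ke xe16 ye37 ze36) (ke xe31 ye48 ze29) (ke xe16 ye37 ze37) (ke xe20 ye58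 ze59)) (@D3.rec (fun _ => Pt) (ke xe26 ye40 ze31) (ke xe31 ye14 ze2) (ke xe29 ye10 ze39) (ke xe26 ye46 ze37) (ke xe16 ye37 ze40) (ke xe17 ye7 ze10) (ke xe32 ye11 ze30) (ke xe28 ye37 ze17) (ke xe26 ye35 ze54) (ke xe17 ye18 ze28) (ke xe16 ye37 ze43) (ke xe28 ye40 ze24) (ke xe32 ye11 ze32) (ke xe16 ye37 ze45) (ke xe32 ye11 ze34) (ke xe16 ye37 ze48) (ke xe20 ye28 ze23) (ke xe32 ye11 ze36) (ke xe29 ye15 ze7) (ke xe32 ye11 ze37) (ke xe32 ye11 ze38) (ke xe16 ye37 ze50) (ke xe16 ye37 ze51) (ke xe32 ye11 ze41) (ke xe32 ye11 ze39) (ke xe29 ye43 ze61) (ke xe31 ye20 ze59) (ke xe17 ye7 ze8) (ke xe16 ye37 ze53) (ke xe29 ye14 ze26) (ke xe16 ye57 ze56) (ke xe17 ye7 ze9) (ke xe29 ye43 ze58) (ke xe26 ye37 ze23) (ke xe27 ye16 ze21) (ke xe29 ye44 ze56) (ke xe21 ye1 ze18) (ke xe26 ye37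 ze0) (ke xe19 ye40 ze18) (ke xe16 ye44 ze54) (ke xe29 ye33 ze6) (ke xe16 ye38 ze2) (ke xe29 ye44 ze58) (ke xe29 ye44 ze59) (ke xe32 ye11 ze52) (ke xe27 ye8 ze11) (ke xe32 ye11 ze53) (ke xe31 ye26 ze10) (ke xe16 ye38 ze1) (ke xe32 ye11 ze55) (ke xe32 ye11 ze58) (ke xe22 ye27 ze35) (ke xe32 ye11 ze61) (ke xe25 ye53 ze19) (ke xe26 ye35 ze8) (ke xe26 ye7 ze54) (ke xe17 ye48 ze9) (ke xe32 ye12 ze2) (ke xe31 ye27 ze30) (ke xe26 ye59 ze36) (ke xe32 ye12 ze6) (ke xe16 ye38 ze9)) (@D3.rec (fun _ => Pt) (ke xe29 ye46 ze3) (ke xe29 ye46 ze9) (ke xe16 ye38 ze19) (ke xe29 ye42 ze53) (ke xe24 ye23 ze33) (ke xe28 ye39 ze38) (ke xe16 ye38 ze13) (ke xe29 ye44 ze55) (ke xe26 ye37 ze10) (ke xe32 ye12 ze16) (ke xe16 ye38 ze14) (ke xe32 ye12 ze14) (ke xe16 ye38 ze15) (ke xe29 ye12 ze26)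 (ke xe32 ye12 ze21) (ke xe31 ye47 ze3) (ke xe16 ye38 ze17) (ke xe26 ye36 ze53) (ke xe29 ye46 ze1) (ke xe16 ye38 ze18) (ke xe26 ye40 ze48) (ke xe22 ye1 ze43) (ke xe30 ye28 ze18) (ke xe29 ye33 ze11) (ke xe32 ye12 ze32) (ke xe16 ye38 ze20) (ke xe32 ye12 ze36) (ke xe29 ye1 ze19) (ke xe28 ye56 ze37) (ke xe32 ye12 ze39) (ke xe24 ye35 ze19) (ke xe16 ye38 ze24) (ke xe18 ye22 ze11) (ke xe20 ye39 ze20) (ke xe27 ye19 ze8) (ke xe30 ye26 ze3) (ke xe16 ye38 ze26) (ke xe32 ye12 ze44) (ke xe16 ye38 ze28) (ke xe24 ye19 ze49) (ke xe19 ye17 ze41) (ke xe16 ye38 ze36) (ke xe30 ye51 ze17) (ke xe19 ye8 ze2) (ke xe32 ye12 ze46) (ke xe16 ye38 ze30) (ke xe28 ye42 ze33) (ke xe16 ye38 ze32) (ke xe31 ye17 ze48) (ke xe16 ye38 ze37) (ke xe30 ye17 ze24) (ke xe16 ye38 ze39) (ke xe16 ye38 ze40) (ke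 xe26 ye36 ze17) (ke xe16 ye38 ze43) (ke xe25 ye27 ze25) (ke xe16 ye38 ze44) (ke xe26 ye44 ze31) (ke xe19 ye25 ze36) (ke xe29 ye45 ze9) (ke xe25 ye5 ze53) (ke xe16 ye38 ze46)) (@D3.rec (fun _ => Pt) (ke xe26 ye35 ze37) (ke xe29 ye4 ze2) (ke xe29 ye37 ze32) (ke xe20 ye55 ze59) (ke xe20 ye59 ze1) (ke xe16 ye38 ze49) (ke xe31 ye24 ze23) (ke xe25 ye31 ze50) (ke xe19 ye38 ze27) (ke xe20 ye56 ze10) (ke xe26 ye36 ze8) (ke xe16 ye38 ze54) (ke xe27 ye16 ze18) (ke xe26 ye38 ze8) (ke xe28 ye54 ze2) (ke xe20 ye56 ze1) (ke xe16 ye38 ze52) (ke xe27 ye10 ze28) (ke xe16 ye40 ze18) (ke xe19 ye34 ze59) (ke xe31 ye55 ze23) (ke xe28 ye44 ze33) (ke xe16 ye38 ze56) (ke xe26 ye35 ze33) (ke xe17 ye49 ze37) (ke xe20 ye35 ze31) (ke xe24 ye31 ze61) (ke xe27 ye57 ze1) (ke xe27 ye37 ze42) (ke xe29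 ye33 ze29) (ke xe29 ye32 ze57) (ke xe21 ye36 ze41) (ke xe16 ye48 ze54) (ke xe21 ye2 ze60) (ke xe16 ye39 ze6) (ke xe27 ye0 ze17) (ke xe20 ye35 ze38) (ke xe29 ye56 ze9) (ke xe31 ye40 ze61) (ke xe16 ye39 ze11) (ke xe16 ye39 ze13) (ke xe28 ye37 ze10) (ke xe32 ye12 ze60) (ke xe24 ye51 ze42) (ke xe16 ye39 ze15) (ke xe17 ye46 ze47) (ke xe31 ye31 ze47) (ke xe32 ye13 ze0) (ke xe32 ye13 ze2) (ke xe32 ye13 ze3) (ke xe32 ye13 ze4) (ke xe16 ye39 ze26) (ke xe16 ye39 ze28) (ke xe31 ye41 ze45) (ke xe24 ye1 ze19) (ke xe16 ye39 ze29) (ke xe32 ye13 ze6) (ke xe19 ye14 ze2) (ke xe26 ye52 ze23) (ke xe16 ye39 ze36) (ke xe25 ye21 ze16) (ke xe16 ye39 ze37)) (@D3.rec (fun _ => Pt) (ke xe32 ye13 ze8) (ke xe16 ye39 ze38) (ke xe19 ye54 ze56) (ke xe16 ye39 ze41) (ke xe21 ye20 ze59) (ke xe29 ye34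 ze35) (ke xe25 ye7 ze60) (ke xe20 ye54 ze6) (ke xe26 ye37 ze13) (ke xe32 ye13 ze15) (ke xe31 ye31 ze37) (ke xe29 ye33 ze14) (ke xe24 ye3 ze20) (ke xe32 ye12 ze56) (ke xe16 ye39 ze47) (ke xe16 ye39 ze49) (ke xe16 ye39 ze51) (ke xe30 ye24 ze14) (ke xe31 ye20 ze21) (ke xe16 ye39 ze54) (ke xe25 ye32 ze2) (ke xe16 ye39 ze56) (ke xe16 ye41 ze38) (ke xe27 ye0 ze19) (ke xe32 ye13 ze24) (ke xe16 ye39 ze58) (ke xe32 ye13 ze25) (ke xe16 ye39 ze59) (ke xe20 ye39 ze28) (ke xe20 ye36 ze54) (ke xe24 ye28 ze37) (ke xe31 ye59 ze25) (ke xe32 ye13 ze27) (ke xe16 ye40 ze2) (ke xe28 ye59 ze41) (ke xe22 ye4 ze17) (ke xe29 ye5 ze43) (ke xe32 ye3 ze37) (ke xe29 ye44 ze2) (ke xe29 ye33 ze2) (ke xe19 ye5 ze9) (ke xe29 ye33 ze15) (ke xe31 ye56 ze0) (ke xe16 ye40 ze8) (ke xe32 ye12 ze52) (ke xe16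 ye40 ze12) (ke xe31 ye26 ze0) (ke xe32 ye13 ze31) (ke xe16 ye40 ze10) (ke xe29 ye33 ze50) (ke xe16 ye40 ze11) (ke xe31 ye19 ze6) (ke xe32 ye13 ze38) (ke xe31 ye18 ze60) (ke xe28 ye30 ze6) (ke xe16 ye40 ze14) (ke xe29 ye45 ze2) (ke xe16 ye40 ze15) (ke xe32 ye13 ze41) (ke xe29 ye32 ze59) (ke xe16 ye40 ze24) (ke xe31 ye31 ze38)) (@D3.rec (fun _ => Pt) (ke xe32 ye13 ze28) (ke xe16 ye40 ze19) (ke xe32 ye13 ze44) (ke xe16 ye40 ze22) (ke xe19 ye13 ze32) (ke xe16 ye40 ze23) (ke xe16 ye40 ze25) (ke xe16 ye41 ze26) (ke xe16 ye40 ze27) (ke xe16 ye40 ze26) (ke xe27 ye54 ze1) (ke xe16 ye40 ze29) (ke xe16 ye41 ze16) (ke xe16 ye40 ze30) (ke xe32 ye13 ze50) (ke xe28 ye34 ze57) (ke xe16 ye40 ze31) (ke xe28 ye54 ze30) (ke xe25 ye26 ze13) (ke xe26 ye33 ze16) (ke xe30 ye23 ze29) (ke xe28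 ye33 ze37) (ke xe16 ye40 ze37) (ke xe27 ye9 ze34) (ke xe16 ye40 ze39) (ke xe20 ye28 ze54) (ke xe30 ye56 ze51) (ke xe20 ye57 ze36) (ke xe16 ye40 ze42) (ke xe16 ye40 ze46) (ke xe20 ye56 ze40) (ke xe23 ye49 ze42) (ke xe16 ye40 ze48) (ke xe29 ye26 ze25) (ke xe20 ye58 ze53) (ke xe18 ye35 ze37) (ke xe20 ye58 ze17) (ke xe26 ye59 ze21) (ke xe32 ye10 ze45) (ke xe28 ye8 ze39) (ke xe30 ye14 ze38) (ke xe17 ye14 ze34) (ke xe16 ye40 ze56) (ke xe17 ye47 ze46) (ke xe16 ye40 ze58) (ke xe16 ye41 ze0) (ke xe32 ye13 ze57) (ke xe29 ye47 ze16) (ke xe16 ye40 ze60) (ke xe19 ye13 ze40) (ke xe16 ye40 ze61) (ke xe28 ye18 ze12) (ke xe28 ye40 ze12) (ke xe16 ye41 ze8) (ke xe20 ye55 ze14) (ke xe16 ye41 ze10) (ke xe30 ye27 ze61) (ke xe32 ye13 ze58) (ke xe16 ye41 ze17) (ke xe16 ye41 ze19) (ke xe16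 ye41 ze20) (ke xe18 ye48 ze37)) (@D3.rec (fun _ => Pt) (ke xe29 ye25 ze38) (ke xe16 ye41 ze23) (ke xe16 ye41 ze24) (ke xe20 ye58 ze29) (ke xe32 ye13 ze60) (ke xe16 ye41 ze29) (ke xe29 ye17 ze54) (ke xe16 ye41 ze30) (ke xe26 ye41 ze4) (ke xe20 ye57 ze53) (ke xe29 ye26 ze23) (ke xe32 ye13 ze23) (ke xe21 ye57 ze48) (ke xe32 ye13 ze49) (ke xe21 ye52 ze38) (ke xe16 ye41 ze39) (ke xe29 ye47 ze40) (ke xe24 ye35 ze36) (ke xe16 ye41 ze41) (ke xe26 ye47 ze18) (ke xe20 ye57 ze41) (ke xe16 ye41 ze43) (ke xe25 ye8 ze47) (ke xe32 ye14 ze9) (ke xe20 ye35 ze37) (ke xe16 ye42 ze29) (ke xe28 ye56 ze28) (ke xe16 ye41 ze46) (ke xe29 ye25 ze58) (ke xe24 ye35 ze20) (ke xe31 ye29 ze13) (ke xe26 ye35 ze0) (ke xe16 ye41 ze48) (ke xe16 ye42 ze43) (ke xe26 ye34 ze55) (ke xe21 ye46 ze41) (ke xe26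 ye58 ze30) (ke xe32 ye11 ze13) (ke xe20 ye58 ze45) (ke xe16 ye41 ze56) (ke xe30 ye14 ze11) (ke xe16 ye41 ze58) (ke xe26 ye34 ze13) (ke xe19 ye31 ze53) (ke xe32 ye1 ze1) (ke xe32 ye14 ze19) (ke xe16 ye42 ze2) (ke xe27 ye7 ze35) (ke xe26 ye36 ze20) (ke xe32 ye5 ze25) (ke xe32 ye14 ze15) (ke xe28 ye37 ze60) (ke xe16 ye42 ze5) (ke xe27 ye6 ze36) (ke xe21 ye0 ze7) (ke xe25 ye46 ze5) (ke xe16 ye42 ze6) (ke xe31 ye50 ze58) (ke xe24 ye4 ze11) (ke xe28 ye54 ze37) (ke xe16 ye42 ze8) (ke xe16 ye42 ze9)) (@D3.rec (fun _ => Pt) (ke xe28 ye41 ze28) (ke xe16 ye42 ze11) (ke xe29 ye12 ze29) (ke xe16 ye42 ze15) (ke xe26 ye40 ze8) (ke xe29 ye44 ze20) (ke xe16 ye42 ze19) (ke xe29 ye38 ze0) (ke xe16 ye42 ze33) (ke xe31 ye50 ze59) (ke xe16 ye42 ze23) (ke xe16 ye42 ze26) (ke xe16 ye42 ze35)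 (ke xe32 ye14 ze7) (ke xe16 ye42 ze28) (ke xe26 ye47 ze24) (ke xe32 ye14 ze12) (ke xe16 ye42 ze34) (ke xe30 ye8 ze23) (ke xe31 ye35 ze49) (ke xe22 ye5 ze61) (ke xe25 ye12 ze0) (ke xe20 ye5 ze19) (ke xe32 ye13 ze18) (ke xe16 ye42 ze38) (ke xe19 ye56 ze47) (ke xe28 ye44 ze25) (ke xe16 ye42 ze39) (ke xe32 ye14 ze35) (ke xe27 ye44 ze47) (ke xe26 ye34 ze42) (ke xe25 ye33 ze18) (ke xe16 ye42 ze47) (ke xe31 ye24 ze37) (ke xe25 ye12 ze29) (ke xe19 ye24 ze52) (ke xe28 ye56 ze43) (ke xe16 ye42 ze50) (ke xe25 ye11 ze51) (ke xe23 ye9 ze47) (ke xe24 ye4 ze20) (ke xe20 ye25 ze55) (ke xe16 ye42 ze54) (ke xe22 ye16 ze31) (ke xe16 ye42 ze56) (ke xe22 ye16 ze18) (ke xe27 ye42 ze33) (ke xe24 ye17 ze26) (ke xe32 ye4 ze13) (ke xe23 ye9 ze42) (ke xe29 ye31 ze32) (ke xe16 ye42 ze61) (ke xe23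 ye11 ze16) (ke xe25 ye9 ze47) (ke xe16 ye43 ze4) (ke xe19 ye24 ze40) (ke xe24 ye23 ze61) (ke xe20 ye49 ze40) (ke xe32 ye14 ze37) (ke xe16 ye43 ze6) (ke xe20 ye49 ze33) (ke xe19 ye24 ze49)) (@D3.rec (fun _ => Pt) (ke xe31 ye37 ze28) (ke xe16 ye43 ze9) (ke xe22 ye10 ze47) (ke xe28 ye16 ze52) (ke xe22 ye20 ze51) (ke xe17 ye20 ze28) (ke xe19 ye38 ze2) (ke xe24 ye17 ze15) (ke xe29 ye9 ze27) (ke xe16 ye43 ze18) (ke xe20 ye2 ze38) (ke xe16 ye43 ze21) (ke xe16 ye43 ze24) (ke xe21 ye24 ze6) (ke xe16 ye43 ze26) (ke xe18 ye46 ze27) (ke xe24 ye4 ze21) (ke xe20 ye19 ze40) (ke xe17 ye33 ze10) (ke xe20 ye35 ze24) (ke xe26 ye54 ze50) (ke xe29 ye47 ze61) (ke xe19 ye25 ze6) (ke xe29 ye17 ze48) (ke xe19 ye49 ze45) (ke xe26 ye24 ze24) (ke xe16 ye43 ze40) (ke xe16 ye43 ze41) (ke xe24 ye16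 ze10) (ke xe27 ye21 ze36) (ke xe17 ye53 ze59) (ke xe19 ye25 ze7) (ke xe21 ye57 ze44) (ke xe16 ye43 ze48) (ke xe25 ye27 ze43) (ke xe16 ye43 ze52) (ke xe22 ye59 ze37) (ke xe19 ye16 ze20) (ke xe29 ye40 ze9) (ke xe19 ye19 ze15) (ke xe28 ye9 ze7) (ke xe16 ye44 ze0) (ke xe16 ye44 ze1) (ke xe16 ye44 ze2) (ke xe16 ye44 ze3) (ke xe32 ye14 ze45) (ke xe17 ye22 ze47) (ke xe31 ye18 ze14) (ke xe16 ye44 ze6) (ke xe20 ye56 ze3) (ke xe32 ye14 ze46) (ke xe16 ye44 ze9) (ke xe32 ye14 ze48) (ke xe16 ye44 ze10) (ke xe19 ye23 ze38) (ke xe23 ye11 ze23) (ke xe31 ye37 ze16) (ke xe17 ye26 ze5) (ke xe23 ye1 ze25) (ke xe16 ye44 ze14) (ke xe17 ye26 ze19) (ke xe32 ye0 ze48)) (@D3.rec (fun _ => Pt) (ke xe30 ye5 ze44) (ke xe30 ye19 ze19) (ke xe32 ye14 ze54) (ke xe24 ye39 ze13) (ke xe24 ye11 ze30) (ke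 xe24 ye2 ze19) (ke xe16 ye44 ze17) (ke xe19 ye23 ze49) (ke xe30 ye39 ze13) (ke xe23 ye52 ze47) (ke xe17 ye10 ze53) (ke xe29 ye1 ze61) (ke xe24 ye2 ze40) (ke xe16 ye44 ze22) (ke xe25 ye42 ze4) (ke xe28 ye31 ze6) (ke xe29 ye2 ze3) (ke xe19 ye30 ze19) (ke xe29 ye2 ze8) (ke xe16 ye44 ze26) (ke xe16 ye44 ze27) (ke xe29 ye1 ze30) (ke xe21 ye8 ze38) (ke xe32 ye15 ze12) (ke xe16 ye44 ze29) (ke xe29 ye1 ze38) (ke xe19 ye30 ze43) (ke xe24 ye6 ze24) (ke xe16 ye44 ze33) (ke xe31 ye28 ze6) (ke xe18 ye55 ze41) (ke xe16 ye44 ze34) (ke xe29 ye7 ze48) (ke xe32 ye15 ze17) (ke xe23 ye53 ze8) (ke xe16 ye44 ze35) (ke xe19 ye23 ze56) (ke xe28 ye37 ze33) (ke xe16 ye44 ze39) (ke xe16 ye44 ze42) (ke xe20 ye43 ze23) (ke xe23 ye57 ze42) (ke xe27 ye14 ze52) (ke xe32 ye15 ze19) (ke xe16 ye44 ze48)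 (ke xe16 ye44 ze49) (ke xe24 ye53 ze28) (ke xe32 ye15 ze21) (ke xe21 ye37 ze23) (ke xe16 ye44 ze52) (ke xe21 ye57 ze26) (ke xe20 ye1 ze29) (ke xe21 ye37 ze51) (ke xe19 ye33 ze61) (ke xe16 ye44 ze56) (ke xe27 ye22 ze1) (ke xe27 ye0 ze40) (ke xe19 ye34 ze7) (ke xe16 ye55 ze13) (ke xe32 ye15 ze25) (ke xe22 ye41 ze15) (ke xe16 ye45 ze5)) (@D3.rec (fun _ => Pt) (ke xe23 ye53 ze45) (ke xe16 ye45 ze6) (ke xe23 ye11 ze59) (ke xe32 ye15 ze26) (ke xe16 ye46 ze34) (ke xe16 ye45 ze9) (ke xe31 ye16 ze4) (ke xe16 ye45 ze10) (ke xe16 ye45 ze11) (ke xe20 ye44 ze37) (ke xe21 ye31 ze44) (ke xe28 ye49 ze48) (ke xe19 ye47 ze5) (ke xe30 ye18 ze21) (ke xe19 ye21 ze51) (ke xe16 ye45 ze23) (ke xe29 ye4 ze59) (ke xe25 ye10 ze31) (ke xe32 ye15 ze30) (ke xe16 ye45 ze28) (ke xe25 ye50 ze31) (ke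 xe16 ye45 ze30) (ke xe24 ye37 ze39) (ke xe25 ye50 ze41) (ke xe25 ye5 ze8) (ke xe30 ye9 ze46) (ke xe25 ye35 ze0) (ke xe25 ye6 ze38) (ke xe16 ye45 ze48) (ke xe19 ye45 ze52) (ke xe25 ye9 ze39) (ke xe26 ye36 ze57) (ke xe29 ye17 ze18) (ke xe16 ye45 ze44) (ke xe27 ye19 ze10) (ke xe19 ye37 ze61) (ke xe16 ye45 ze47) (ke xe16 ye45 ze49) (ke xe20 ye3 ze0) (ke xe20 ye3 ze20) (ke xe16 ye45 ze51) (ke xe17 ye46 ze46) (ke xe19 ye46 ze26) (ke xe25 ye31 ze47) (ke xe27 ye19 ze33) (ke xe26 ye1 ze54) (ke xe16 ye45 ze60) (ke xe29 ye14 ze45) (ke xe16 ye46 ze4) (ke xe19 ye47 ze8) (ke xe20 ye2 ze42) (ke xe24 ye37 ze43) (ke xe20 ye0 ze39) (ke xe16 ye46 ze21) (ke xe21 ye39 ze58) (ke xe17 ye10 ze42) (ke xe19 ye25 ze38) (ke xe30 ye47 ze8) (ke xe24 ye28 ze51) (ke xe31 ye28 ze23) (ke xe16 ye46 ze30)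 (ke xe19 ye34 ze24)) (@D3.rec (fun _ => Pt) (ke xe19 ye30 ze47) (ke xe29 ye27 ze7) (ke xe31 ye30 ze61) (ke xe31 ye15 ze58) (ke xe16 ye46 ze37) (ke xe23 ye53 ze34) (ke xe32 ye15 ze37) (ke xe16 ye46 ze40) (ke xe25 ye25 ze52) (ke xe31 ye29 ze48) (ke xe25 ye35 ze29) (ke xe16 ye46 ze44) (ke xe26 ye28 ze34) (ke xe16 ye46 ze45) (ke xe30 ye26 ze54) (ke xe19 ye42 ze12) (ke xe24 ye10 ze5) (ke xe17 ye11 ze52) (ke xe28 ye20 ze60) (ke xe25 ye53 ze15) (ke xe17 ye11 ze53) (ke xe19 ye42 ze21) (ke xe25 ye53 ze7) (ke xe25 ye34 ze17) (ke xe16 ye46 ze54) (ke xe28 ye33 ze42) (ke xe16 ye46 ze56) (ke xe16 ye46 ze58) (ke xe20 ye53 ze8) (ke xe19 ye7 ze4) (ke xe20 ye30 ze14) (ke xe30 ye49 ze3) (ke xe16 ye47 ze1) (ke xe17 ye24 ze39) (ke xe16 ye47 ze2) (ke xe20 ye26 ze53) (ke xe23 ye53 ze4) (ke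 xe16 ye47 ze5) (ke xe25 ye52 ze46) (ke xe32 ye15 ze44) (ke xe16 ye47 ze8) (ke xe16 ye47 ze13) (ke xe27 ye45 ze45) (ke xe17 ye48 ze34) (ke xe16 ye47 ze20) (ke xe30 ye5 ze21) (ke xe31 ye11 ze3) (ke xe24 ye36 ze48) (ke xe32 ye6 ze3) (ke xe16 ye47 ze32) (ke xe20 ye49 ze3) (ke xe18 ye43 ze7) (ke xe20 ye51 ze1) (ke xe25 ye51 ze58) (ke xe23 ye44 ze42) (ke xe16 ye47 ze41) (ke xe21 ye51 ze4) (ke xe16 ye47 ze42) (ke xe25 ye1 ze58) (ke xe16 ye47 ze45) (ke xe27 ye1 ze2) (ke xe31 ye35 ze15)) (@D3.rec (fun _ => Pt) (ke xe16 ye47 ze47) (ke xe30 ye2 ze6) (ke xe16 ye47 ze53) (ke xe24 ye33 ze45) (ke xe27 ye30 ze26) (ke xe30 ye18 ze6) (ke xe20 ye49 ze24) (ke xe21 ye54 ze36) (ke xe19 ye14 ze20) (ke xe16 ye48 ze7) (ke xe16 ye48 ze8) (ke xe16 ye48 ze11) (ke xe18 ye0 ze46) (ke xe20 ye12 ze7)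 (ke xe31 ye58 ze29) (ke xe19 ye24 ze8) (ke xe16 ye48 ze21) (ke xe16 ye48 ze22) (ke xe32 ye15 ze48) (ke xe22 ye12 ze57) (ke xe28 ye48 ze31) (ke xe22 ye4 ze22) (ke xe32 ye13 ze47) (ke xe31 ye30 ze57) (ke xe32 ye15 ze50) (ke xe32 ye15 ze51) (ke xe20 ye51 ze15) (ke xe20 ye37 ze32) (ke xe20 ye12 ze11) (ke xe17 ye33 ze21) (ke xe27 ye41 ze26) (ke xe20 ye12 ze15) (ke xe22 ye16 ze39) (ke xe24 ye57 ze34) (ke xe28 ye9 ze43) (ke xe16 ye48 ze49) (ke xe16 ye48 ze50) (ke xe26 ye35 ze3) (ke xe16 ye48 ze55) (ke xe17 ye13 ze34) (ke xe25 ye4 ze14) (ke xe31 ye11 ze15) (ke xe30 ye16 ze5) (ke xe20 ye59 ze28) (ke xe27 ye10 ze56) (ke xe18 ye57 ze28) (ke xe20 ye17 ze57) (ke xe16 ye49 ze20) (ke xe16 ye49 ze21) (ke xe32 ye15 ze56) (ke xe16 ye49 ze26) (ke xe16 ye49 ze27) (ke xe21 ye7 ze41) (ke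 xe20 ye4 ze40) (ke xe25 ye23 ze4) (ke xe20 ye41 ze28) (ke xe31 ye4 ze54) (ke xe20 ye4 ze44) (ke xe24 ye49 ze51) (ke xe16 ye49 ze33) (ke xe23 ye3 ze41) (ke xe16 ye49 ze40)) (@D3.rec (fun _ => Pt) (ke xe21 ye33 ze22) (ke xe27 ye53 ze28) (ke xe16 ye49 ze43) (ke xe20 ye49 ze32) (ke xe23 ye24 ze54) (ke xe26 ye7 ze34) (ke xe25 ye38 ze47) (ke xe26 ye1 ze52) (ke xe16 ye49 ze58) (ke xe18 ye18 ze8) (ke xe24 ye17 ze40) (ke xe28 ye13 ze24) (ke xe16 ye50 ze0) (ke xe19 ye54 ze39) (ke xe23 ye29 ze36) (ke xe32 ye16 ze2) (ke xe31 ye8 ze46) (ke xe17 ye38 ze56) (ke xe26 ye40 ze19) (ke xe16 ye50 ze5) (ke xe31 ye6 ze34) (ke xe16 ye50 ze6) (ke xe23 ye38 ze14) (ke xe16 ye50 ze7) (ke xe26 ye41 ze15) (ke xe25 ye38 ze24) (ke xe32 ye16 ze5) (ke xe19 ye55 ze9) (ke xe26 ye7 ze14) (ke xe30 ye42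 ze34) (ke xe16 ye50 ze12) (ke xe19 ye55 ze13) (ke xe24 ye20 ze47) (ke xe32 ye16 ze0) (ke xe21 ye49 ze9) (ke xe31 ye37 ze47) (ke xe23 ye35 ze25) (ke xe22 ye44 ze8) (ke xe31 ye11 ze52) (ke xe25 ye11 ze10) (ke xe30 ye42 ze30) (ke xe16 ye50 ze18) (ke xe18 ye39 ze57) (ke xe31 ye8 ze2) (ke xe23 ye32 ze21) (ke xe23 ye25 ze27) (ke xe16 ye50 ze22) (ke xe19 ye55 ze43) (ke xe30 ye33 ze9) (ke xe31 ye29 ze10) (ke xe21 ye8 ze36) (ke xe23 ye2 ze36) (ke xe16 ye50 ze25) (ke xe22 ye30 ze48) (ke xe25 ye39 ze29) (ke xe30 ye52 ze30) (ke xe18 ye40 ze26) (ke xe26 ye10 ze16) (ke xe21 ye56 ze17) (ke xe16 ye50 ze29) (ke xe19 ye56 ze0) (ke xe32 ye16 ze18)) (@D3.rec (fun _ => Pt) (ke xe31 ye29 ze55) (ke xe29 ye6 ze23) (ke xe16 ye50 ze33) (ke xe22 ye4 ze44) (ke xe25 ye39 ze14) (ke xe19 ye56 ze13)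 (ke xe25 ye39 ze27) (ke xe16 ye50 ze37) (ke xe16 ye50 ze39) (ke xe23 ye25 ze7) (ke xe17 ye53 ze0) (ke xe16 ye50 ze41) (ke xe19 ye5 ze41) (ke xe16 ye50 ze43) (ke xe21 ye34 ze17) (ke xe21 ye37 ze7) (ke xe17 ye38 ze59) (ke xe27 ye46 ze36) (ke xe18 ye18 ze17) (ke xe16 ye50 ze51) (ke xe17 ye18 ze36) (ke xe17 ye4 ze10) (ke xe28 ye11 ze43) (ke xe28 ye13 ze19) (ke xe16 ye50 ze56) (ke xe17 ye33 ze33) (ke xe17 ye4 ze2) (ke xe31 ye1 ze12) (ke xe27 ye26 ze15) (ke xe16 ye50 ze60) (ke xe31 ye57 ze26) (ke xe31 ye57 ze42) (ke xe19 ye59 ze13) (ke xe19 ye25 ze55) (ke xe26 ye52 ze18) (ke xe19 ye32 ze10) (ke xe29 ye15 ze3) (ke xe24 ye48 ze42) (ke xe16 ye51 ze17) (ke xe22 ye30 ze58) (ke xe16 ye51 ze21) (ke xe31 ye14 ze21) (ke xe25 ye18 ze23) (ke xe16 ye51 ze24) (ke xe16 ye51 ze25) (ke xe22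 ye46 ze27) (ke xe30 ye6 ze58) (ke xe17 ye56 ze7) (ke xe26 ye22 ze23) (ke xe16 ye51 ze30) (ke xe16 ye51 ze34) (ke xe25 ye46 ze17) (ke xe19 ye47 ze49) (ke xe26 ye10 ze6) (ke xe20 ye30 ze3) (ke xe19 ye48 ze11) (ke xe20 ye23 ze30) (ke xe17 ye56 ze35) (ke xe17 ye56 ze36) (ke xe26 ye51 ze27) (ke xe19 ye0 ze16) (ke xe20 ye41 ze1)) (@D3.rec (fun _ => Pt) (ke xe29 ye21 ze46) (ke xe22 ye33 ze50) (ke xe16 ye51 ze59) (ke xe16 ye51 ze61) (ke xe27 ye21 ze13) (ke xe24 ye8 ze0) (ke xe28 ye15 ze25) (ke xe27 ye5 ze8) (ke xe22 ye53 ze4) (ke xe16 ye52 ze2) (ke xe22 ye17 ze59) (ke xe23 ye39 ze58) (ke xe20 ye52 ze24) (ke xe30 ye43 ze3) (ke xe20 ye11 ze46) (ke xe18 ye15 ze14) (ke xe22 ye39 ze17) (ke xe30 ye36 ze21) (ke xe16 ye52 ze16) (ke xe32 ye16 ze30) (ke xe28 ye20 ze56) (ke xe16 ye52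 ze20) (ke xe20 ye12 ze3) (ke xe31 ye3 ze24) (ke xe32 ye16 ze33) (ke xe26 ye53 ze30) (ke xe32 ye16 ze34) (ke xe20 ye12 ze6) (ke xe20 ye47 ze23) (ke xe29 ye35 ze1) (ke xe16 ye52 ze23) (ke xe20 ye12 ze24) (ke xe16 ye52 ze33) (ke xe16 ye56 ze14) (ke xe19 ye48 ze4) (ke xe27 ye12 ze54) (ke xe20 ye30 ze19) (ke xe26 ye24 ze53) (ke xe16 ye52 ze44) (ke xe26 ye24 ze61) (ke xe21 ye15 ze25) (ke xe16 ye52 ze49) (ke xe22 ye51 ze24) (ke xe28 ye15 ze6) (ke xe26 ye49 ze58) (ke xe16 ye52 ze51) (ke xe28 ye0 ze34) (ke xe20 ye31 ze30) (ke xe20 ye8 ze9) (ke xe31 ye43 ze21) (ke xe28 ye0 ze1) (ke xe31 ye0 ze17) (ke xe23 ye6 ze21) (ke xe27 ye58 ze18) (ke xe16 ye53 ze7) (ke xe16 ye53 ze10) (ke xe29 ye24 ze2) (ke xe16 ye53 ze15) (ke xe26 ye49 ze44) (ke xe19 ye51 ze52) (ke xe19 ye24 ze17) (ke xe16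 ye53 ze35)) (@D3.rec (fun _ => Pt) (ke xe29 ye39 ze10) (ke xe16 ye53 ze36) (ke xe30 ye37 ze18) (ke xe18 ye49 ze46) (ke xe24 ye23 ze16) (ke xe16 ye54 ze40) (ke xe27 ye59 ze55) (ke xe18 ye39 ze17) (ke xe16 ye53 ze42) (ke xe20 ye52 ze32) (ke xe29 ye28 ze9) (ke xe20 ye29 ze5) (ke xe16 ye53 ze44) (ke xe20 ye29 ze6) (ke xe19 ye24 ze2) (ke xe16 ye53 ze50) (ke xe27 ye0 ze60) (ke xe27 ye23 ze44) (ke xe16 ye53 ze60) (ke xe22 ye40 ze47) (ke xe16 ye54 ze2) (ke xe26 ye22 ze6) (ke xe17 ye23 ze45) (ke xe27 ye23 ze41) (ke xe16 ye54 ze5) (ke xe28 ye42 ze28) (ke xe16 ye54 ze9) (ke xe16 ye54 ze11) (ke xe21 ye52 ze21) (ke xe20 ye16 ze0) (ke xe16 ye54 ze19) (ke xe20 ye12 ze19) (ke xe16 ye54 ze20) (ke xe19 ye11 ze30) (ke xe23 ye23 ze48) (ke xe19 ye11 ze31) (ke xe30 ye37 ze31) (ke xe16 ye54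 ze24) (ke xe23 ye49 ze25) (ke xe23 ye12 ze21) (ke xe19 ye23 ze31) (ke xe28 ye38 ze3) (ke xe16 ye54 ze33) (ke xe20 ye40 ze36) (ke xe16 ye54 ze35) (ke xe28 ye30 ze5) (ke xe31 ye55 ze14) (ke xe30 ye33 ze60) (ke xe28 ye39 ze46) (ke xe28 ye17 ze27) (ke xe22 ye23 ze43) (ke xe16 ye54 ze43) (ke xe22 ye17 ze58) (ke xe16 ye54 ze47) (ke xe19 ye18 ze19) (ke xe16 ye55 ze41) (ke xe19 ye8 ze47) (ke xe30 ye38 ze61) (ke xe16 ye54 ze52) (ke xe31 ye58 ze12) (ke xe31 ye40 ze8) (ke xe19 ye4 ze21)) (@D3.rec (fun _ => Pt) (ke xe30 ye38 ze52) (ke xe22 ye16 ze17) (ke xe16 ye54 ze57) (ke xe26 ye55 ze43) (ke xe31 ye58 ze5) (ke xe17 ye34 ze10) (ke xe21 ye51 ze38) (ke xe30 ye44 ze16) (ke xe16 ye54 ze61) (ke xe16 ye55 ze2) (ke xe31 ye28 ze47) (ke xe28 ye12 ze59) (ke xe24 ye14 ze59) (ke xe24 ye20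 ze44) (ke xe19 ye57 ze31) (ke xe28 ye37 ze30) (ke xe29 ye37 ze39) (ke xe28 ye37 ze31) (ke xe20 ye27 ze34) (ke xe16 ye55 ze61) (ke xe25 ye40 ze42) (ke xe32 ye15 ze22) (ke xe16 ye55 ze14) (ke xe27 ye7 ze58) (ke xe24 ye11 ze34) (ke xe16 ye55 ze16) (ke xe16 ye55 ze17) (ke xe26 ye48 ze59) (ke xe26 ye55 ze28) (ke xe28 ye39 ze47) (ke xe19 ye51 ze54) (ke xe24 ye28 ze38) (ke xe18 ye44 ze20) (ke xe28 ye33 ze51) (ke xe20 ye31 ze47) (ke xe30 ye17 ze57) (ke xe16 ye57 ze13) (ke xe29 ye41 ze7) (ke xe23 ye46 ze9) (ke xe32 ye16 ze51) (ke xe28 ye30 ze2) (ke xe32 ye16 ze53) (ke xe29 ye46 ze60) (ke xe21 ye15 ze44) (ke xe29 ye25 ze59) (ke xe24 ye13 ze52) (ke xe28 ye39 ze54) (ke xe28 ye43 ze34) (ke xe16 ye55 ze31) (ke xe20 ye23 ze46) (ke xe32 ye13 ze46) (ke xe28 ye30 ze3) (ke xe16 ye55 ze33)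 (ke xe32 ye16 ze54) (ke xe30 ye12 ze19) (ke xe32 ye16 ze56) (ke xe16 ye55 ze35) (ke xe18 ye49 ze58) (ke xe18 ye50 ze3) (ke xe31 ye23 ze7) (ke xe23 ye48 ze17) (ke xe28 ye33 ze4)) (@D3.rec (fun _ => Pt) (ke xe27 ye11 ze53) (ke xe17 ye1 ze31) (ke xe32 ye16 ze42) (ke xe30 ye26 ze4) (ke xe20 ye46 ze7) (ke xe32 ye16 ze60) (ke xe16 ye55 ze42) (ke xe28 ye17 ze50) (ke xe32 ye16 ze61) (ke xe16 ye55 ze43) (ke xe21 ye1 ze37) (ke xe20 ye53 ze58) (ke xe17 ye3 ze18) (ke xe24 ye53 ze16) (ke xe32 ye17 ze0) (ke xe16 ye55 ze50) (ke xe29 ye45 ze35) (ke xe27 ye56 ze0) (ke xe26 ye48 ze34) (ke xe26 ye33 ze13) (ke xe20 ye38 ze21) (ke xe32 ye17 ze4) (ke xe24 ye26 ze52) (ke xe26 ye37 ze58) (ke xe32 ye17 ze5) (ke xe16 ye55 ze59) (ke xe29 ye43 ze21) (ke xe16 ye55 ze60) (ke xe23 ye23 ze45) (ke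 xe29 ye55 ze10) (ke xe23 ye12 ze18) (ke xe16 ye56 ze0) (ke xe28 ye38 ze50) (ke xe16 ye56 ze3) (ke xe16 ye56 ze57) (ke xe16 ye56 ze7) (ke xe32 ye16 ze29) (ke xe32 ye17 ze13) (ke xe16 ye56 ze9) (ke xe28 ye21 ze54) (ke xe22 ye35 ze48) (ke xe16 ye56 ze13) (ke xe20 ye19 ze8) (ke xe16 ye56 ze11) (ke xe25 ye19 ze52) (ke xe28 ye30 ze19) (ke xe16 ye56 ze15) (ke xe20 ye51 ze56) (ke xe16 ye56 ze17) (ke xe25 ye8 ze27) (ke xe30 ye44 ze44) (ke xe23 ye10 ze0) (ke xe16 ye56 ze29) (ke xe16 ye56 ze32) (ke xe28 ye52 ze14) (ke xe16 ye56 ze34) (ke xe23 ye12 ze29) (ke xe27 ye8 ze8) (ke xe17 ye28 ze26) (ke xe19 ye51 ze55) (ke xe17 ye20 ze32) (ke xe19 ye52 ze51)) (@D3.rec (fun _ => Pt) (ke xe28 ye46 ze45) (ke xe19 ye53 ze3) (ke xe19 ye53 ze5) (ke xe22 ye40 ze32) (ke xe20 ye31 ze33) (ke xe31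 ye25 ze54) (ke xe17 ye50 ze34) (ke xe27 ye0 ze51) (ke xe29 ye52 ze21) (ke xe22 ye57 ze41) (ke xe16 ye56 ze59) (ke xe16 ye57 ze3) (ke xe17 ye59 ze49) (ke xe23 ye9 ze58) (ke xe26 ye25 ze0) (ke xe17 ye59 ze36) (ke xe18 ye47 ze38) (ke xe16 ye57 ze54) (ke xe17 ye31 ze4) (ke xe17 ye1 ze26) (ke xe17 ye20 ze54) (ke xe19 ye11 ze54) (ke xe19 ye16 ze25) (ke xe19 ye11 ze28) (ke xe22 ye11 ze35) (ke xe31 ye48 ze24) (ke xe30 ye26 ze60) (ke xe16 ye57 ze57) (ke xe23 ye48 ze46) (ke xe30 ye9 ze11) (ke xe26 ye49 ze25) (ke xe29 ye28 ze52) (ke xe19 ye58 ze6) (ke xe17 ye34 ze30) (ke xe16 ye58 ze8) (ke xe27 ye37 ze1) (ke xe20 ye54 ze20) (ke xe29 ye0 ze56) (ke xe19 ye57 ze60) (ke xe31 ye28 ze13) (ke xe19 ye57 ze47) (ke xe29 ye43 ze32) (ke xe16 ye58 ze9) (ke xe32 ye17 ze1) (ke xe31 ye21 ze32)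 (ke xe16 ye58 ze13) (ke xe23 ye48 ze4) (ke xe16 ye58 ze15) (ke xe31 ye13 ze35) (ke xe28 ye36 ze3) (ke xe30 ye32 ze13) (ke xe28 ye47 ze31) (ke xe28 ye16 ze30) (ke xe19 ye50 ze52) (ke xe32 ye17 ze35) (ke xe16 ye58 ze20) (ke xe19 ye25 ze4) (ke xe24 ye6 ze56) (ke xe30 ye38 ze7) (ke xe32 ye17 ze39) (ke xe16 ye58 ze22) (ke xe20 ye27 ze33)) (@D3.rec (fun _ => Pt) (ke xe19 ye38 ze17) (ke xe29 ye23 ze32) (ke xe32 ye17 ze43) (ke xe27 ye42 ze55) (ke xe22 ye39 ze29) (ke xe16 ye58 ze27) (ke xe28 ye0 ze44) (ke xe16 ye58 ze28) (ke xe19 ye12 ze27) (ke xe29 ye25 ze45) (ke xe31 ye28 ze38) (ke xe31 ye41 ze27) (ke xe16 ye58 ze33) (ke xe22 ye7 ze35) (ke xe24 ye1 ze25) (ke xe16 ye58 ze37) (ke xe31 ye0 ze33) (ke xe24 ye52 ze19) (ke xe31 ye28 ze18) (ke xe26 ye56 ze47) (ke xe16 ye58 ze39) (ke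 xe24 ye50 ze40) (ke xe16 ye58 ze40) (ke xe29 ye28 ze11) (ke xe32 ye17 ze44) (ke xe16 ye58 ze44) (ke xe16 ye58 ze45) (ke xe32 ye17 ze48) (ke xe20 ye54 ze19) (ke xe16 ye58 ze61) (ke xe16 ye58 ze48) (ke xe19 ye55 ze30) (ke xe29 ye43 ze31) (ke xe16 ye58 ze52) (ke xe31 ye34 ze21) (ke xe16 ye58 ze53) (ke xe23 ye59 ze46) (ke xe32 ye17 ze56) (ke xe17 ye52 ze52) (ke xe25 ye21 ze26) (ke xe31 ye39 ze38) (ke xe16 ye58 ze58) (ke xe32 ye17 ze60) (ke xe16 ye58 ze59) (ke xe31 ye17 ze13) (ke xe25 ye21 ze22) (ke xe29 ye15 ze8) (ke xe28 ye7 ze54) (ke xe28 ye55 ze9) (ke xe28 ye8 ze5) (ke xe26 ye42 ze20) (ke xe28 ye55 ze13) (ke xe17 ye27 ze45) (ke xe16 ye59 ze7) (ke xe29 ye25 ze42) (ke xe16 ye59 ze11) (ke xe16 ye59 ze12) (ke xe22 ye4 ze30) (ke xe16 ye59 ze14) (ke xe31 ye9 ze19) (ke xe16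 ye59 ze16) (ke xe18 ye51 ze0)) (@D3.rec (fun _ => Pt) (ke xe21 ye48 ze39) (ke xe16 ye59 ze19) (ke xe16 ye59 ze20) (ke xe20 ye50 ze38) (ke xe28 ye59 ze8) (ke xe22 ye9 ze31) (ke xe16 ye59 ze31) (ke xe16 ye59 ze34) (ke xe16 ye59 ze38) (ke xe27 ye35 ze36) (ke xe20 ye34 ze59) (ke xe28 ye0 ze26) (ke xe25 ye53 ze5) (ke xe25 ye42 ze37) (ke xe17 ye9 ze61) (ke xe18 ye37 ze47) (ke xe17 ye0 ze3) (ke xe17 ye0 ze4) (ke xe18 ye36 ze45) (ke xe23 ye28 ze59) (ke xe25 ye17 ze27) (ke xe22 ye3 ze37) (ke xe29 ye14 ze9) (ke xe21 ye9 ze50) (ke xe17 ye0 ze15) (ke xe18 ye50 ze34) (ke xe28 ye25 ze56) (ke xe17 ye0 ze20) (ke xe26 ye51 ze28) (ke xe29 ye28 ze60) (ke xe17 ye0 ze25) (ke xe30 ye24 ze38) (ke xe20 ye31 ze29) (ke xe32 ye18 ze8) (ke xe17 ye0 ze30) (ke xe20 ye7 ze30) (ke xe17 ye0 ze29) (ke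 xe20 ye30 ze27) (ke xe20 ye30 ze52) (ke xe26 ye20 ze24) (ke xe25 ye16 ze11) (ke xe32 ye9 ze21) (ke xe28 ye20 ze18) (ke xe26 ye51 ze3) (ke xe27 ye5 ze9) (ke xe28 ye20 ze5) (ke xe17 ye0 ze46) (ke xe19 ye6 ze55) (ke xe32 ye18 ze10) (ke xe17 ye0 ze48) (ke xe28 ye50 ze1) (ke xe21 ye10 ze27) (ke xe29 ye40 ze20) (ke xe19 ye21 ze45) (ke xe19 ye16 ze29) (ke xe19 ye3 ze24) (ke xe17 ye27 ze18) (ke xe31 ye42 ze4) (ke xe28 ye20 ze24) (ke xe17 ye27 ze14) (ke xe17 ye0 ze54) (ke xe24 ye11 ze0)) (@D3.rec (fun _ => Pt) (ke xe32 ye18 ze16) (ke xe17 ye0 ze57) (ke xe23 ye11 ze31) (ke xe18 ye52 ze1) (ke xe20 ye31 ze14) (ke xe29 ye19 ze29) (ke xe30 ye27 ze31) (ke xe30 ye44 ze5) (ke xe30 ye51 ze0) (ke xe26 ye24 ze57) (ke xe21 ye10 ze47) (ke xe17 ye1 ze2) (ke xe17 ye1 ze4) (ke xe27 ye9 ze39)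 (ke xe20 ye33 ze15) (ke xe17 ye1 ze6) (ke xe26 ye22 ze22) (ke xe29 ye30 ze34) (ke xe32 ye9 ze22) (ke xe17 ye1 ze49) (ke xe31 ye23 ze42) (ke xe17 ye1 ze11) (ke xe30 ye46 ze34) (ke xe17 ye1 ze13) (ke xe23 ye12 ze16) (ke xe31 ye22 ze22) (ke xe17 ye8 ze30) (ke xe30 ye54 ze8) (ke xe30 ye28 ze43) (ke xe22 ye19 ze10) (ke xe24 ye5 ze35) (ke xe32 ye18 ze24) (ke xe27 ye9 ze52) (ke xe17 ye2 ze2) (ke xe32 ye8 ze56) (ke xe30 ye53 ze51) (ke xe22 ye54 ze13) (ke xe18 ye17 ze8) (ke xe17 ye1 ze36) (ke xe17 ye1 ze38) (ke xe17 ye1 ze39) (ke xe17 ye1 ze40) (ke xe29 ye54 ze40) (ke xe30 ye44 ze11) (ke xe29 ye9 ze23) (ke xe31 ye33 ze8) (ke xe17 ye1 ze42) (ke xe26 ye54 ze19) (ke xe28 ye43 ze13) (ke xe28 ye33 ze24) (ke xe32 ye18 ze29) (ke xe17 ye1 ze45) (ke xe25 ye56 ze28) (ke xe17 ye1 ze46)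 (ke xe20 ye9 ze0) (ke xe32 ye18 ze19) (ke xe17 ye1 ze48) (ke xe29 ye7 ze26) (ke xe29 ye50 ze18) (ke xe31 ye7 ze31) (ke xe31 ye55 ze39) (ke xe17 ye1 ze52)) (@D3.rec (fun _ => Pt) (ke xe20 ye47 ze50) (ke xe30 ye28 ze44) (ke xe17 ye1 ze53) (ke xe29 ye7 ze40) (ke xe31 ye55 ze37) (ke xe32 ye18 ze32) (ke xe17 ye1 ze57) (ke xe28 ye25 ze31) (ke xe24 ye19 ze27) (ke xe32 ye18 ze36) (ke xe17 ye1 ze58) (ke xe17 ye1 ze59) (ke xe28 ye52 ze13) (ke xe21 ye54 ze11) (ke xe20 ye48 ze52) (ke xe28 ye38 ze53) (ke xe30 ye8 ze15) (ke xe29 ye32 ze13) (ke xe17 ye2 ze1) (ke xe31 ye12 ze46) (ke xe19 ye22 ze30) (ke xe17 ye2 ze3) (ke xe30 ye11 ze39) (ke xe28 ye52 ze30) (ke xe17 ye2 ze5) (ke xe26 ye25 ze44) (ke xe31 ye12 ze56) (ke xe17 ye3 ze2) (ke xe18 ye50 ze38) (ke xe25 ye32 ze16) (ke xe20 ye56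 ze50) (ke xe32 ye18 ze41) (ke xe17 ye2 ze20) (ke xe28 ye27 ze51) (ke xe20 ye37 ze5) (ke xe17 ye2 ze29) (ke xe17 ye2 ze32) (ke xe32 ye18 ze46) (ke xe20 ye31 ze1) (ke xe17 ye2 ze40) (ke xe24 ye31 ze36) (ke xe32 ye18 ze47) (ke xe17 ye2 ze60) (ke xe26 ye10 ze10) (ke xe18 ye20 ze2) (ke xe20 ye0 ze32) (ke xe17 ye2 ze56) (ke xe24 ye31 ze13) (ke xe28 ye34 ze51) (ke xe29 ye24 ze1) (ke xe21 ye42 ze22) (ke xe18 ye36 ze46) (ke xe21 ye52 ze8) (ke xe21 ye57 ze30) (ke xe20 ye51 ze58) (ke xe17 ye4 ze47) (ke xe25 ye42 ze33) (ke xe17 ye3 ze20) (ke xe17 ye22 ze29) (ke xe17 ye18 ze14) (ke xe27 ye2 ze51) (ke xe18 ye48 ze30)) (@D3.rec (fun _ => Pt) (ke xe17 ye3 ze25) (ke xe17 ye3 ze29) (ke xe17 ye3 ze30) (ke xe29 ye32 ze27) (ke xe28 ye24 ze24) (ke xe30 ye45 ze37) (ke xe17 ye3 ze37) (ke xe17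 ye3 ze38) (ke xe20 ye9 ze2) (ke xe18 ye2 ze11) (ke xe17 ye3 ze41) (ke xe17 ye3 ze44) (ke xe28 ye36 ze27) (ke xe28 ye51 ze44) (ke xe20 ye35 ze57) (ke xe17 ye3 ze46) (ke xe20 ye35 ze54) (ke xe18 ye56 ze17) (ke xe22 ye37 ze58) (ke xe17 ye3 ze53) (ke xe21 ye46 ze30) (ke xe17 ye3 ze56) (ke xe18 ye25 ze37) (ke xe20 ye13 ze5) (ke xe17 ye3 ze60) (ke xe17 ye3 ze61) (ke xe20 ye34 ze12) (ke xe19 ye55 ze7) (ke xe19 ye39 ze7) (ke xe17 ye4 ze4) (ke xe26 ye40 ze36) (ke xe30 ye7 ze36) (ke xe22 ye4 ze41) (ke xe19 ye58 ze56) (ke xe29 ye20 ze21) (ke xe19 ye42 ze44) (ke xe24 ye48 ze56) (ke xe24 ye19 ze6) (ke xe31 ye50 ze12) (ke xe25 ye44 ze51) (ke xe25 ye17 ze32) (ke xe17 ye4 ze21) (ke xe27 ye36 ze40) (ke xe26 ye34 ze53) (ke xe17 ye4 ze22) (ke xe20 ye6 ze13) (ke xe17 ye4 ze28) (ke xe25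 ye44 ze32) (ke xe30 ye9 ze26) (ke xe17 ye21 ze48) (ke xe22 ye3 ze54) (ke xe30 ye30 ze21) (ke xe23 ye52 ze46) (ke xe21 ye3 ze25) (ke xe23 ye46 ze49) (ke xe32 ye18 ze49) (ke xe17 ye4 ze49) (ke xe25 ye4 ze10) (ke xe25 ye26 ze34) (ke xe30 ye7 ze5) (ke xe21 ye52 ze6) (ke xe17 ye4 ze55)) (@D3.rec (fun _ => Pt) (ke xe28 ye33 ze17) (ke xe21 ye26 ze36) (ke xe21 ye59 ze19) (ke xe22 ye4 ze46) (ke xe20 ye16 ze49) (ke xe20 ye23 ze61) (ke xe27 ye56 ze38) (ke xe17 ye5 ze26) (ke xe27 ye35 ze34) (ke xe32 ye18 ze50) (ke xe26 ye5 ze48) (ke xe24 ye49 ze60) (ke xe17 ye5 ze30) (ke xe29 ye3 ze60) (ke xe17 ye5 ze33) (ke xe21 ye34 ze4) (ke xe20 ye16 ze13) (ke xe17 ye9 ze26) (ke xe20 ye41 ze41) (ke xe21 ye51 ze37) (ke xe27 ye36 ze50) (ke xe26 ye39 ze37) (ke xe17 ye5 ze55) (ke xe19 ye31 ze52)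 (ke xe22 ye3 ze18) (ke xe31 ye19 ze1) (ke xe29 ye49 ze0) (ke xe17 ye5 ze58) (ke xe17 ye5 ze59) (ke xe28 ye18 ze4) (ke xe32 ye5 ze26) (ke xe25 ye45 ze9) (ke xe20 ye39 ze7) (ke xe20 ye53 ze56) (ke xe32 ye13 ze21) (ke xe17 ye6 ze3) (ke xe26 ye35 ze59) (ke xe17 ye6 ze6) (ke xe22 ye5 ze19) (ke xe17 ye6 ze13) (ke xe23 ye13 ze10) (ke xe29 ye59 ze7) (ke xe25 ye45 ze12) (ke xe25 ye45 ze13) (ke xe24 ye32 ze3) (ke xe17 ye6 ze27) (ke xe32 ye18 ze52) (ke xe17 ye6 ze31) (ke xe19 ye49 ze3) (ke xe28 ye18 ze53) (ke xe32 ye18 ze9) (ke xe17 ye6 ze34) (ke xe18 ye48 ze45) (ke xe20 ye23 ze43) (ke xe20 ye28 ze20) (ke xe19 ye31 ze32) (ke xe17 ye6 ze44) (ke xe29 ye43 ze57) (ke xe30 ye26 ze2) (ke xe17 ye6 ze48) (ke xe17 ye6 ze49) (ke xe32 ye8 ze3))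
def f_e_27 : D2 → D3 → Pt := @D2.rec (fun _ => D3 → Pt) (@D3.rec (fun _ => Pt) (ke xe26 ye17 ze38) (ke xe18 ye22 ze5) (ke xe20 ye35 ze5) (ke xe31 ye47 ze36) (ke xe17 ye6 ze53) (ke xe17 ye6 ze54) (ke xe22 ye4 ze1) (ke xe19 ye31 ze48) (ke xe20 ye35 ze30) (ke xe22 ye4 ze5) (ke xe17 ye6 ze58) (ke xe30 ye16 ze18) (ke xe20 ye55 ze30) (ke xe28 ye24 ze17) (ke xe17 ye6 ze60) (ke xe17 ye6 ze61) (ke xe20 ye58 ze21) (ke xe26 ye37 ze35) (ke xe32 ye14 ze18) (ke xe26 ye38 ze23) (ke xe21 ye1 ze40) (ke xe26 ye33 ze15) (ke xe29 ye49 ze8) (ke xe32 ye19 ze2) (ke xe32 ye19 ze5) (ke xe17 ye7 ze5) (ke xe17 ye7 ze6) (ke xe32 ye19 ze8) (ke xe29 ye45 ze57) (ke xe25 ye4 ze53) (ke xe31 ye33 ze6) (ke xe32 ye19 ze12) (ke xe30 ye15 ze55) (ke xe17 ye7 ze13) (ke xe32 ye19 ze13) (ke xe30 ye28 ze1) (ke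 xe17 ye7 ze12) (ke xe28 ye40 ze26) (ke xe32 ye19 ze16) (ke xe17 ye7 ze14) (ke xe26 ye43 ze56) (ke xe24 ye1 ze2) (ke xe30 ye15 ze25) (ke xe32 ye17 ze9) (ke xe17 ye59 ze33) (ke xe21 ye3 ze29) (ke xe20 ye19 ze53) (ke xe18 ye37 ze11) (ke xe17 ye7 ze35) (ke xe17 ye7 ze37) (ke xe18 ye24 ze45) (ke xe26 ye53 ze7) (ke xe20 ye50 ze46) (ke xe29 ye24 ze29) (ke xe18 ye21 ze15) (ke xe20 ye30 ze54) (ke xe17 ye8 ze10) (ke xe20 ye36 ze2) (ke xe17 ye49 ze1) (ke xe29 ye24 ze48) (ke xe26 ye50 ze16) (ke xe28 ye29 ze5)) (@D3.rec (fun _ => Pt) (ke xe28 ye50 ze54) (ke xe17 ye8 ze38) (ke xe26 ye45 ze60) (ke xe25 ye37 ze52) (ke xe18 ye38 ze20) (ke xe17 ye8 ze52) (ke xe18 ye21 ze35) (ke xe22 ye5 ze42) (ke xe20 ye1 ze50) (ke xe27 ye35 ze51) (ke xe30 ye9 ze37) (ke xe22 ye24 ze39) (ke xe28 ye19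 ze11) (ke xe17 ye34 ze41) (ke xe20 ye13 ze37) (ke xe23 ye25 ze10) (ke xe17 ye9 ze10) (ke xe17 ye9 ze13) (ke xe17 ye9 ze15) (ke xe17 ye9 ze16) (ke xe17 ye9 ze18) (ke xe21 ye6 ze20) (ke xe30 ye31 ze42) (ke xe17 ye9 ze21) (ke xe26 ye3 ze23) (ke xe17 ye9 ze27) (ke xe22 ye4 ze36) (ke xe17 ye9 ze29) (ke xe17 ye9 ze32) (ke xe17 ye9 ze49) (ke xe17 ye14 ze2) (ke xe18 ye35 ze55) (ke xe17 ye9 ze58) (ke xe19 ye42 ze42) (ke xe17 ye10 ze11) (ke xe29 ye5 ze0) (ke xe17 ye10 ze12) (ke xe17 ye10 ze13) (ke xe25 ye42 ze0) (ke xe25 ye32 ze46) (ke xe31 ye9 ze22) (ke xe17 ye10 ze15) (ke xe27 ye56 ze11) (ke xe17 ye10 ze16) (ke xe32 ye2 ze54) (ke xe29 ye4 ze21) (ke xe23 ye27 ze59) (ke xe32 ye2 ze60) (ke xe31 ye5 ze37) (ke xe29 ye11 ze53) (ke xe31 ye4 ze19) (ke xe21 ye50 ze39) (ke xe31 ye27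 ze2) (ke xe17 ye10 ze27) (ke xe25 ye13 ze41) (ke xe17 ye10 ze28) (ke xe27 ye13 ze46) (ke xe29 ye39 ze9) (ke xe17 ye10 ze33) (ke xe32 ye1 ze30) (ke xe28 ye38 ze9) (ke xe25 ye43 ze18)) (@D3.rec (fun _ => Pt) (ke xe24 ye10 ze32) (ke xe17 ye10 ze38) (ke xe17 ye10 ze39) (ke xe18 ye42 ze7) (ke xe19 ye53 ze18) (ke xe20 ye12 ze0) (ke xe17 ye10 ze43) (ke xe17 ye10 ze44) (ke xe20 ye9 ze25) (ke xe18 ye48 ze42) (ke xe29 ye1 ze60) (ke xe18 ye27 ze56) (ke xe17 ye10 ze54) (ke xe17 ye17 ze25) (ke xe17 ye10 ze52) (ke xe27 ye8 ze60) (ke xe32 ye19 ze32) (ke xe17 ye10 ze56) (ke xe27 ye11 ze51) (ke xe17 ye10 ze61) (ke xe17 ye24 ze23) (ke xe32 ye19 ze34) (ke xe28 ye51 ze58) (ke xe18 ye44 ze55) (ke xe17 ye11 ze10) (ke xe22 ye13 ze32) (ke xe28 ye52 ze2) (ke xe23 ye47 ze13) (ke xe20 ye31 ze19)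 (ke xe20 ye47 ze21) (ke xe23 ye9 ze5) (ke xe21 ye3 ze31) (ke xe25 ye56 ze13) (ke xe22 ye24 ze54) (ke xe23 ye18 ze57) (ke xe19 ye53 ze1) (ke xe23 ye19 ze10) (ke xe21 ye16 ze27) (ke xe27 ye19 ze27) (ke xe17 ye28 ze51) (ke xe32 ye11 ze11) (ke xe28 ye20 ze59) (ke xe22 ye2 ze0) (ke xe22 ye57 ze12) (ke xe17 ye11 ze40) (ke xe32 ye17 ze12) (ke xe17 ye11 ze42) (ke xe25 ye23 ze60) (ke xe23 ye28 ze49) (ke xe17 ye11 ze43) (ke xe21 ye38 ze25) (ke xe26 ye57 ze60) (ke xe32 ye19 ze36) (ke xe17 ye17 ze14) (ke xe25 ye34 ze13) (ke xe17 ye11 ze45) (ke xe28 ye21 ze4) (ke xe17 ye11 ze47) (ke xe24 ye20 ze42) (ke xe17 ye11 ze54) (ke xe31 ye55 ze20) (ke xe17 ye11 ze55)) (@D3.rec (fun _ => Pt) (ke xe17 ye17 ze40) (ke xe25 ye36 ze6) (ke xe23 ye0 ze27) (ke xe25 ye35 ze38) (ke xe30 ye43 ze26) (ke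 xe22 ye52 ze21) (ke xe22 ye24 ze46) (ke xe25 ye47 ze38) (ke xe28 ye11 ze3) (ke xe17 ye12 ze2) (ke xe25 ye47 ze39) (ke xe32 ye19 ze45) (ke xe21 ye39 ze53) (ke xe17 ye12 ze3) (ke xe21 ye39 ze13) (ke xe17 ye12 ze7) (ke xe23 ye25 ze56) (ke xe27 ye43 ze30) (ke xe22 ye17 ze8) (ke xe17 ye12 ze17) (ke xe17 ye12 ze20) (ke xe24 ye36 ze46) (ke xe31 ye2 ze50) (ke xe23 ye33 ze48) (ke xe20 ye12 ze32) (ke xe18 ye48 ze21) (ke xe24 ye2 ze56) (ke xe32 ye1 ze28) (ke xe28 ye25 ze17) (ke xe18 ye43 ze55) (ke xe18 ye19 ze3) (ke xe18 ye22 ze48) (ke xe17 ye12 ze49) (ke xe28 ye28 ze13) (ke xe28 ye27 ze6) (ke xe17 ye12 ze51) (ke xe29 ye30 ze12) (ke xe17 ye12 ze52) (ke xe19 ye10 ze52) (ke xe17 ye13 ze0) (ke xe21 ye17 ze51) (ke xe17 ye42 ze2) (ke xe17 ye13 ze15) (ke xe18 ye57 ze23) (ke xe21 ye42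 ze20) (ke xe26 ye13 ze14) (ke xe21 ye26 ze32) (ke xe24 ye42 ze0) (ke xe24 ye42 ze10) (ke xe21 ye17 ze52) (ke xe21 ye17 ze53) (ke xe19 ye17 ze11) (ke xe30 ye10 ze7) (ke xe17 ye13 ze33) (ke xe17 ye42 ze29) (ke xe29 ye21 ze47) (ke xe21 ye42 ze13) (ke xe21 ye36 ze6) (ke xe23 ye38 ze4) (ke xe26 ye18 ze10) (ke xe27 ye27 ze59) (ke xe17 ye13 ze42)) (@D3.rec (fun _ => Pt) (ke xe27 ye43 ze39) (ke xe17 ye13 ze56) (ke xe18 ye1 ze10) (ke xe21 ye47 ze15) (ke xe21 ye28 ze5) (ke xe30 ye8 ze54) (ke xe23 ye23 ze40) (ke xe23 ye23 ze38) (ke xe31 ye18 ze23) (ke xe25 ye2 ze38) (ke xe18 ye25 ze40) (ke xe24 ye32 ze32) (ke xe27 ye23 ze38) (ke xe25 ye54 ze18) (ke xe19 ye42 ze39) (ke xe17 ye14 ze30) (ke xe29 ye23 ze27) (ke xe17 ye14 ze1) (ke xe20 ye14 ze28) (ke xe17 ye14 ze32) (ke xe23 ye47 ze32)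 (ke xe29 ye25 ze50) (ke xe21 ye4 ze43) (ke xe21 ye20 ze1) (ke xe27 ye28 ze42) (ke xe24 ye52 ze32) (ke xe23 ye22 ze46) (ke xe32 ye19 ze48) (ke xe17 ye14 ze13) (ke xe30 ye0 ze44) (ke xe31 ye7 ze34) (ke xe32 ye19 ze51) (ke xe17 ye14 ze16) (ke xe27 ye40 ze58) (ke xe17 ye14 ze17) (ke xe21 ye22 ze20) (ke xe30 ye41 ze14) (ke xe23 ye40 ze4) (ke xe17 ye14 ze20) (ke xe21 ye24 ze44) (ke xe23 ye13 ze58) (ke xe30 ye52 ze41) (ke xe19 ye16 ze41) (ke xe23 ye3 ze0) (ke xe18 ye22 ze56) (ke xe27 ye36 ze18) (ke xe18 ye10 ze6) (ke xe23 ye50 ze24) (ke xe23 ye44 ze39) (ke xe17 ye14 ze36) (ke xe20 ye39 ze60) (ke xe31 ye1 ze53) (ke xe28 ye58 ze11) (ke xe27 ye24 ze36) (ke xe29 ye59 ze16) (ke xe26 ye16 ze54) (ke xe17 ye14 ze45) (ke xe23 ye27 ze7) (ke xe17 ye14 ze46) (ke xe21 ye58 ze56) (ke xe28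 ye52 ze53) (ke xe31 ye27 ze55)) (@D3.rec (fun _ => Pt) (ke xe17 ye14 ze51) (ke xe21 ye27 ze24) (ke xe21 ye58 ze54) (ke xe32 ye19 ze55) (ke xe29 ye29 ze47) (ke xe25 ye52 ze17) (ke xe20 ye50 ze48) (ke xe21 ye13 ze41) (ke xe26 ye49 ze7) (ke xe26 ye55 ze44) (ke xe17 ye15 ze3) (ke xe32 ye19 ze56) (ke xe21 ye11 ze26) (ke xe17 ye15 ze7) (ke xe21 ye13 ze55) (ke xe27 ye42 ze25) (ke xe17 ye15 ze9) (ke xe29 ye8 ze37) (ke xe21 ye7 ze59) (ke xe17 ye15 ze14) (ke xe22 ye40 ze39) (ke xe17 ye15 ze21) (ke xe17 ye15 ze29) (ke xe26 ye28 ze25) (ke xe26 ye28 ze24) (ke xe28 ye12 ze36) (ke xe20 ye21 ze29) (ke xe17 ye15 ze27) (ke xe18 ye59 ze45) (ke xe20 ye8 ze1) (ke xe21 ye4 ze20) (ke xe17 ye15 ze33) (ke xe22 ye34 ze2) (ke xe23 ye32 ze38) (ke xe17 ye15 ze37) (ke xe29 ye30 ze5) (ke xe19 ye0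 ze53) (ke xe17 ye15 ze39) (ke xe28 ye26 ze19) (ke xe17 ye15 ze42) (ke xe30 ye46 ze47) (ke xe30 ye18 ze17) (ke xe23 ye42 ze9) (ke xe17 ye15 ze60) (ke xe20 ye18 ze5) (ke xe27 ye48 ze1) (ke xe27 ye45 ze17) (ke xe21 ye59 ze10) (ke xe26 ye16 ze59) (ke xe17 ye16 ze6) (ke xe30 ye1 ze20) (ke xe17 ye44 ze47) (ke xe28 ye57 ze44) (ke xe30 ye8 ze10) (ke xe17 ye16 ze14) (ke xe17 ye16 ze15) (ke xe17 ye16 ze16) (ke xe17 ye29 ze24) (ke xe17 ye33 ze26) (ke xe24 ye27 ze44) (ke xe27 ye54 ze23) (ke xe18 ye44 ze51)) (@D3.rec (fun _ => Pt) (ke xe32 ye17 ze20) (ke xe29 ye29 ze40) (ke xe31 ye25 ze6) (ke xe17 ye16 ze29) (ke xe20 ye28 ze32) (ke xe21 ye31 ze41) (ke xe18 ye9 ze52) (ke xe28 ye19 ze58) (ke xe28 ye5 ze19) (ke xe17 ye16 ze45) (ke xe17 ye26 ze51) (ke xe19 ye21 ze3) (ke xe18 ye7 ze39)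 (ke xe25 ye43 ze61) (ke xe25 ye29 ze46) (ke xe31 ye27 ze33) (ke xe29 ye9 ze15) (ke xe17 ye59 ze4) (ke xe17 ye16 ze54) (ke xe27 ye13 ze21) (ke xe17 ye16 ze56) (ke xe32 ye20 ze3) (ke xe17 ye16 ze57) (ke xe25 ye53 ze26) (ke xe23 ye55 ze2) (ke xe27 ye25 ze28) (ke xe32 ye20 ze7) (ke xe31 ye21 ze41) (ke xe17 ye17 ze3) (ke xe32 ye15 ze4) (ke xe17 ye17 ze26) (ke xe17 ye17 ze28) (ke xe20 ye34 ze22) (ke xe25 ye47 ze32) (ke xe25 ye52 ze47) (ke xe17 ye17 ze11) (ke xe26 ye40 ze53) (ke xe19 ye25 ze43) (ke xe17 ye18 ze1) (ke xe25 ye56 ze52) (ke xe21 ye4 ze58) (ke xe24 ye5 ze42) (ke xe27 ye7 ze9) (ke xe17 ye17 ze20) (ke xe32 ye20 ze14) (ke xe17 ye17 ze22) (ke xe32 ye20 ze16) (ke xe17 ye17 ze23) (ke xe32 ye20 ze19) (ke xe17 ye17 ze39) (ke xe27 ye8 ze57) (ke xe31 ye13 ze11) (ke xe31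 ye22 ze47) (ke xe32 ye20 ze12) (ke xe28 ye17 ze28) (ke xe27 ye59 ze7) (ke xe27 ye8 ze59) (ke xe17 ye17 ze30) (ke xe30 ye5 ze8) (ke xe28 ye16 ze46) (ke xe17 ye17 ze32) (ke xe28 ye16 ze47)) (@D3.rec (fun _ => Pt) (ke xe17 ye17 ze33) (ke xe17 ye17 ze35) (ke xe18 ye47 ze57) (ke xe32 ye20 ze17) (ke xe19 ye30 ze24) (ke xe32 ye19 ze25) (ke xe17 ye17 ze37) (ke xe32 ye20 ze35) (ke xe17 ye17 ze38) (ke xe27 ye6 ze42) (ke xe32 ye20 ze39) (ke xe30 ye5 ze4) (ke xe32 ye19 ze39) (ke xe32 ye19 ze41) (ke xe22 ye13 ze36) (ke xe17 ye17 ze41) (ke xe30 ye38 ze45) (ke xe28 ye16 ze31) (ke xe31 ye38 ze10) (ke xe17 ye17 ze43) (ke xe31 ye52 ze44) (ke xe32 ye20 ze44) (ke xe32 ye20 ze47) (ke xe17 ye17 ze44) (ke xe20 ye40 ze35) (ke xe32 ye20 ze53) (ke xe17 ye17 ze46) (ke xe30 ye38 ze48) (ke xe21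 ye22 ze9) (ke xe29 ye34 ze26) (ke xe29 ye40 ze26) (ke xe30 ye29 ze20) (ke xe27 ye13 ze52) (ke xe17 ye17 ze55) (ke xe28 ye48 ze58) (ke xe26 ye40 ze47) (ke xe32 ye21 ze1) (ke xe25 ye44 ze1) (ke xe21 ye39 ze16) (ke xe17 ye18 ze3) (ke xe30 ye56 ze31) (ke xe29 ye21 ze49) (ke xe32 ye10 ze41) (ke xe17 ye18 ze0) (ke xe31 ye47 ze38) (ke xe21 ye46 ze47) (ke xe32 ye21 ze3) (ke xe18 ye43 ze59) (ke xe25 ye58 ze7) (ke xe32 ye21 ze5) (ke xe17 ye18 ze2) (ke xe32 ye21 ze7) (ke xe29 ye5 ze22) (ke xe32 ye21 ze9) (ke xe28 ye40 ze60) (ke xe17 ye18 ze4) (ke xe31 ye47 ze58) (ke xe27 ye18 ze46) (ke xe26 ye51 ze23) (ke xe27 ye13 ze25) (ke xe30 ye39 ze46) (ke xe31 ye24 ze11)) (@D3.rec (fun _ => Pt) (ke xe17 ye18 ze15) (ke xe29 ye35 ze48) (ke xe32 ye21 ze12) (ke xe22 ye26 ze56) (ke xe27 ye13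 ze42) (ke xe17 ye18 ze19) (ke xe31 ye13 ze17) (ke xe24 ye28 ze35) (ke xe26 ye52 ze57) (ke xe17 ye18 ze26) (ke xe19 ye25 ze16) (ke xe26 ye35 ze45) (ke xe32 ye11 ze31) (ke xe29 ye22 ze17) (ke xe29 ye28 ze57) (ke xe30 ye46 ze37) (ke xe17 ye18 ze33) (ke xe32 ye21 ze15) (ke xe23 ye48 ze40) (ke xe17 ye18 ze44) (ke xe23 ye48 ze53) (ke xe23 ye48 ze34) (ke xe29 ye48 ze31) (ke xe22 ye50 ze11) (ke xe25 ye18 ze49) (ke xe32 ye21 ze18) (ke xe17 ye18 ze40) (ke xe30 ye38 ze29) (ke xe19 ye52 ze27) (ke xe17 ye18 ze42) (ke xe32 ye21 ze21) (ke xe17 ye18 ze43) (ke xe29 ye27 ze3) (ke xe32 ye21 ze22) (ke xe17 ye20 ze45) (ke xe29 ye42 ze34) (ke xe24 ye29 ze45) (ke xe29 ye53 ze31) (ke xe17 ye20 ze47) (ke xe22 ye1 ze10) (ke xe21 ye15 ze61) (ke xe17 ye20 ze52) (ke xe19 ye41 ze59) (ke xe24 ye4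 ze7) (ke xe31 ye31 ze55) (ke xe30 ye5 ze7) (ke xe25 ye52 ze40) (ke xe30 ye18 ze61) (ke xe30 ye19 ze0) (ke xe27 ye59 ze2) (ke xe32 ye14 ze53) (ke xe32 ye14 ze61) (ke xe17 ye18 ze57) (ke xe18 ye47 ze58) (ke xe32 ye20 ze30) (ke xe18 ye47 ze0) (ke xe17 ye18 ze61) (ke xe27 ye6 ze50) (ke xe23 ye48 ze60) (ke xe27 ye6 ze56) (ke xe27 ye2 ze15) (ke xe32 ye20 ze24)) (@D3.rec (fun _ => Pt) (ke xe17 ye21 ze47) (ke xe23 ye34 ze31) (ke xe29 ye2 ze13) (ke xe19 ye28 ze18) (ke xe18 ye45 ze35) (ke xe31 ye12 ze38) (ke xe28 ye20 ze51) (ke xe17 ye19 ze24) (ke xe22 ye51 ze41) (ke xe22 ye9 ze27) (ke xe17 ye27 ze44) (ke xe24 ye9 ze13) (ke xe29 ye19 ze38) (ke xe17 ye19 ze35) (ke xe18 ye24 ze31) (ke xe18 ye54 ze18) (ke xe32 ye21 ze32) (ke xe22 ye50 ze24) (ke xe28 ye18 ze39) (ke xe18 ye0 ze50)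 (ke xe30 ye27 ze30) (ke xe20 ye51 ze20) (ke xe28 ye21 ze39) (ke xe19 ye18 ze13) (ke xe21 ye51 ze9) (ke xe17 ye19 ze53) (ke xe20 ye44 ze11) (ke xe26 ye17 ze40) (ke xe21 ye2 ze53) (ke xe29 ye56 ze1) (ke xe21 ye51 ze35) (ke xe21 ye52 ze0) (ke xe28 ye32 ze28) (ke xe21 ye30 ze37) (ke xe26 ye39 ze23) (ke xe30 ye27 ze34) (ke xe17 ye20 ze8) (ke xe26 ye17 ze21) (ke xe18 ye56 ze46) (ke xe26 ye56 ze13) (ke xe17 ye20 ze1) (ke xe20 ye8 ze42) (ke xe26 ye25 ze5) (ke xe17 ye20 ze4) (ke xe32 ye21 ze33) (ke xe30 ye49 ze28) (ke xe30 ye24 ze18) (ke xe17 ye20 ze6) (ke xe28 ye32 ze49) (ke xe32 ye21 ze35) (ke xe23 ye10 ze22) (ke xe24 ye44 ze23) (ke xe26 ye56 ze32) (ke xe25 ye56 ze7) (ke xe22 ye57 ze6) (ke xe19 ye26 ze16) (ke xe25 ye43 ze41) (ke xe17 ye20 ze29) (ke xe25 ye55 ze5) (ke xe31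 ye30 ze52) (ke xe32 ye21 ze37) (ke xe17 ye20 ze18)) (@D3.rec (fun _ => Pt) (ke xe25 ye53 ze25) (ke xe32 ye21 ze38) (ke xe17 ye20 ze21) (ke xe18 ye47 ze36) (ke xe17 ye24 ze58) (ke xe17 ye25 ze38) (ke xe23 ye33 ze30) (ke xe17 ye20 ze23) (ke xe23 ye54 ze40) (ke xe17 ye20 ze26) (ke xe19 ye29 ze35) (ke xe17 ye25 ze61) (ke xe32 ye1 ze24) (ke xe31 ye34 ze50) (ke xe21 ye59 ze57) (ke xe29 ye54 ze51) (ke xe17 ye20 ze33) (ke xe30 ye35 ze6) (ke xe18 ye48 ze17) (ke xe17 ye20 ze36) (ke xe22 ye8 ze29) (ke xe17 ye30 ze22) (ke xe21 ye33 ze52) (ke xe21 ye24 ze60) (ke xe17 ye20 ze43) (ke xe32 ye21 ze23) (ke xe28 ye48 ze57) (ke xe30 ye17 ze36) (ke xe26 ye37 ze17) (ke xe25 ye46 ze50) (ke xe17 ye20 ze50) (ke xe29 ye7 ze54) (ke xe32 ye2 ze22) (ke xe32 ye18 ze37) (ke xe20 ye46 ze56) (ke xe31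 ye33 ze34) (ke xe29 ye54 ze46) (ke xe31 ye19 ze51) (ke xe28 ye46 ze46) (ke xe17 ye21 ze1) (ke xe17 ye21 ze2) (ke xe27 ye55 ze57) (ke xe32 ye21 ze43) (ke xe17 ye21 ze4) (ke xe17 ye21 ze6) (ke xe17 ye21 ze8) (ke xe19 ye29 ze47) (ke xe19 ye29 ze48) (ke xe24 ye11 ze31) (ke xe19 ye3 ze27) (ke xe19 ye6 ze51) (ke xe17 ye28 ze49) (ke xe19 ye11 ze26) (ke xe25 ye35 ze45) (ke xe22 ye34 ze15) (ke xe24 ye28 ze41) (ke xe26 ye46 ze44) (ke xe32 ye13 ze26) (ke xe17 ye21 ze29) (ke xe28 ye31 ze23) (ke xe25 ye48 ze32) (ke xe22 ye2 ze3)) (@D3.rec (fun _ => Pt) (ke xe27 ye14 ze31) (ke xe25 ye28 ze18) (ke xe21 ye16 ze35) (ke xe21 ye18 ze1) (ke xe25 ye43 ze52) (ke xe24 ye43 ze26) (ke xe28 ye57 ze47) (ke xe17 ye21 ze40) (ke xe25 ye58 ze52) (ke xe31 ye56 ze22) (ke xe32 ye13 ze39) (ke xe20 ye16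 ze10) (ke xe23 ye50 ze58) (ke xe20 ye23 ze52) (ke xe17 ye21 ze54) (ke xe22 ye1 ze12) (ke xe17 ye21 ze58) (ke xe17 ye50 ze35) (ke xe18 ye20 ze20) (ke xe17 ye22 ze0) (ke xe22 ye1 ze48) (ke xe31 ye43 ze41) (ke xe21 ye46 ze21) (ke xe21 ye27 ze1) (ke xe28 ye57 ze40) (ke xe25 ye4 ze31) (ke xe17 ye22 ze7) (ke xe25 ye4 ze32) (ke xe25 ye26 ze57) (ke xe25 ye6 ze28) (ke xe24 ye33 ze41) (ke xe25 ye45 ze45) (ke xe31 ye59 ze6) (ke xe17 ye22 ze13) (ke xe27 ye20 ze6) (ke xe21 ye45 ze39) (ke xe17 ye22 ze14) (ke xe29 ye41 ze29) (ke xe24 ye42 ze48) (ke xe19 ye43 ze46) (ke xe17 ye22 ze24) (ke xe29 ye34 ze17) (ke xe32 ye21 ze49) (ke xe32 ye21 ze47) (ke xe32 ye19 ze4) (ke xe20 ye34 ze50) (ke xe21 ye9 ze3) (ke xe32 ye21 ze51) (ke xe23 ye49 ze22) (ke xe25 ye53 ze11) (ke xe28 ye37 ze5) (ke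 xe27 ye2 ze18) (ke xe20 ye0 ze57) (ke xe26 ye52 ze0) (ke xe29 ye22 ze58) (ke xe27 ye42 ze54) (ke xe17 ye22 ze39) (ke xe30 ye27 ze28) (ke xe22 ye34 ze27) (ke xe17 ye22 ze42) (ke xe19 ye58 ze20) (ke xe31 ye21 ze30)) (@D3.rec (fun _ => Pt) (ke xe17 ye22 ze43) (ke xe28 ye51 ze52) (ke xe19 ye42 ze61) (ke xe31 ye52 ze49) (ke xe24 ye19 ze35) (ke xe25 ye32 ze33) (ke xe24 ye49 ze25) (ke xe22 ye21 ze25) (ke xe32 ye21 ze53) (ke xe24 ye50 ze51) (ke xe17 ye22 ze52) (ke xe17 ye22 ze57) (ke xe17 ye22 ze58) (ke xe30 ye18 ze5) (ke xe19 ye11 ze5) (ke xe29 ye12 ze43) (ke xe21 ye53 ze24) (ke xe22 ye38 ze5) (ke xe17 ye23 ze3) (ke xe30 ye6 ze52) (ke xe26 ye29 ze36) (ke xe23 ye22 ze5) (ke xe17 ye26 ze25) (ke xe28 ye7 ze13) (ke xe17 ye23 ze11) (ke xe26 ye19 ze50) (ke xe17 ye23 ze23) (ke xe20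 ye53 ze15) (ke xe27 ye46 ze23) (ke xe17 ye23 ze27) (ke xe26 ye14 ze2) (ke xe17 ye23 ze30) (ke xe20 ye9 ze58) (ke xe24 ye17 ze2) (ke xe22 ye23 ze5) (ke xe17 ye23 ze36) (ke xe26 ye17 ze57) (ke xe32 ye21 ze59) (ke xe25 ye2 ze11) (ke xe17 ye23 ze37) (ke xe23 ye13 ze18) (ke xe31 ye43 ze19) (ke xe17 ye23 ze40) (ke xe20 ye43 ze10) (ke xe18 ye46 ze50) (ke xe21 ye3 ze23) (ke xe17 ye33 ze60) (ke xe18 ye14 ze3) (ke xe27 ye22 ze16) (ke xe17 ye23 ze46) (ke xe17 ye59 ze22) (ke xe24 ye22 ze42) (ke xe19 ye8 ze29) (ke xe18 ye36 ze18) (ke xe26 ye49 ze35) (ke xe31 ye19 ze15) (ke xe25 ye36 ze26) (ke xe17 ye23 ze51) (ke xe23 ye59 ze22) (ke xe30 ye51 ze32) (ke xe25 ye28 ze39) (ke xe29 ye4 ze6)) (@D3.rec (fun _ => Pt) (ke xe20 ye15 ze42) (ke xe17 ye24 ze14) (ke xe32 ye22 ze4) (ke xe26 ye17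 ze60) (ke xe17 ye23 ze59) (ke xe17 ye24 ze1) (ke xe30 ye21 ze53) (ke xe29 ye37 ze26) (ke xe17 ye24 ze4) (ke xe30 ye51 ze46) (ke xe19 ye37 ze20) (ke xe17 ye32 ze31) (ke xe29 ye37 ze16) (ke xe23 ye1 ze23) (ke xe30 ye6 ze48) (ke xe17 ye31 ze56) (ke xe32 ye22 ze2) (ke xe30 ye6 ze49) (ke xe29 ye28 ze36) (ke xe20 ye25 ze53) (ke xe29 ye37 ze22) (ke xe27 ye6 ze19) (ke xe17 ye24 ze15) (ke xe32 ye22 ze7) (ke xe17 ye24 ze16) (ke xe27 ye7 ze59) (ke xe28 ye18 ze2) (ke xe31 ye35 ze24) (ke xe24 ye23 ze17) (ke xe30 ye38 ze32) (ke xe30 ye38 ze39) (ke xe30 ye38 ze46) (ke xe30 ye28 ze48) (ke xe28 ye15 ze50) (ke xe30 ye19 ze3) (ke xe17 ye24 ze26) (ke xe28 ye22 ze26) (ke xe32 ye9 ze9) (ke xe18 ye47 ze28) (ke xe17 ye24 ze28) (ke xe32 ye22 ze11) (ke xe28 ye2 ze48) (ke xe27 ye8 ze4) (ke xe17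 ye24 ze32) (ke xe22 ye0 ze40) (ke xe17 ye24 ze36) (ke xe27 ye1 ze56) (ke xe22 ye36 ze45) (ke xe29 ye43 ze22) (ke xe20 ye13 ze54) (ke xe28 ye16 ze60) (ke xe22 ye24 ze49) (ke xe27 ye7 ze32) (ke xe29 ye32 ze28) (ke xe29 ye45 ze55) (ke xe17 ye24 ze43) (ke xe27 ye42 ze15) (ke xe28 ye16 ze14) (ke xe32 ye22 ze13) (ke xe17 ye24 ze47) (ke xe32 ye18 ze28) (ke xe32 ye22 ze15)) (@D3.rec (fun _ => Pt) (ke xe17 ye24 ze48) (ke xe31 ye33 ze7) (ke xe32 ye11 ze4) (ke xe32 ye22 ze18) (ke xe30 ye16 ze29) (ke xe20 ye22 ze44) (ke xe17 ye24 ze51) (ke xe28 ye34 ze60) (ke xe17 ye24 ze52) (ke xe23 ye58 ze21) (ke xe32 ye22 ze20) (ke xe17 ye24 ze56) (ke xe18 ye47 ze25) (ke xe28 ye14 ze55) (ke xe27 ye16 ze56) (ke xe30 ye46 ze21) (ke xe27 ye43 ze55) (ke xe17 ye24 ze59) (ke xe17 ye25 ze0) (ke xe19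 ye14 ze14) (ke xe32 ye22 ze24) (ke xe22 ye58 ze29) (ke xe18 ye44 ze11) (ke xe18 ye44 ze12) (ke xe25 ye53 ze35) (ke xe25 ye57 ze11) (ke xe17 ye25 ze58) (ke xe32 ye22 ze28) (ke xe32 ye2 ze5) (ke xe24 ye47 ze4) (ke xe17 ye25 ze9) (ke xe27 ye11 ze0) (ke xe29 ye41 ze33) (ke xe17 ye26 ze14) (ke xe31 ye34 ze53) (ke xe31 ye48 ze55) (ke xe17 ye25 ze16) (ke xe17 ye25 ze19) (ke xe32 ye22 ze29) (ke xe20 ye57 ze9) (ke xe17 ye25 ze21) (ke xe30 ye15 ze51) (ke xe30 ye28 ze46) (ke xe30 ye28 ze47) (ke xe32 ye22 ze30) (ke xe17 ye25 ze25) (ke xe30 ye28 ze14) (ke xe29 ye31 ze33) (ke xe17 ye26 ze38) (ke xe32 ye22 ze32) (ke xe24 ye14 ze34) (ke xe17 ye25 ze27) (ke xe26 ye43 ze42) (ke xe17 ye25 ze30) (ke xe19 ye27 ze8) (ke xe30 ye45 ze13) (ke xe17 ye25 ze34) (ke xe18 ye56 ze18) (ke xe25 ye55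 ze13) (ke xe25 ye56 ze36) (ke xe25 ye26 ze61) (ke xe17 ye25 ze41)) (@D3.rec (fun _ => Pt) (ke xe31 ye15 ze60) (ke xe17 ye25 ze42) (ke xe28 ye50 ze22) (ke xe30 ye53 ze2) (ke xe30 ye33 ze7) (ke xe17 ye25 ze45) (ke xe22 ye58 ze32) (ke xe32 ye8 ze15) (ke xe17 ye25 ze47) (ke xe30 ye51 ze8) (ke xe25 ye43 ze36) (ke xe32 ye22 ze36) (ke xe17 ye25 ze48) (ke xe28 ye17 ze49) (ke xe25 ye48 ze20) (ke xe31 ye35 ze57) (ke xe22 ye9 ze54) (ke xe18 ye47 ze1) (ke xe28 ye14 ze32) (ke xe32 ye22 ze41) (ke xe17 ye25 ze54) (ke xe30 ye5 ze45) (ke xe17 ye25 ze55) (ke xe32 ye8 ze58) (ke xe28 ye49 ze56) (ke xe32 ye1 ze57) (ke xe17 ye25 ze59) (ke xe25 ye18 ze40) (ke xe32 ye8 ze7) (ke xe30 ye50 ze44) (ke xe23 ye53 ze61) (ke xe32 ye1 ze52) (ke xe30 ye54 ze44) (ke xe30 ye46 ze53) (ke xe17 ye26 ze3)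 (ke xe25 ye57 ze16) (ke xe25 ye27 ze47) (ke xe25 ye53 ze48) (ke xe24 ye17 ze13) (ke xe23 ye1 ze19) (ke xe24 ye0 ze29) (ke xe32 ye18 ze57) (ke xe31 ye27 ze6) (ke xe25 ye6 ze40) (ke xe24 ye34 ze13) (ke xe29 ye28 ze37) (ke xe32 ye2 ze50) (ke xe28 ye38 ze16) (ke xe19 ye26 ze1) (ke xe30 ye43 ze40) (ke xe19 ye25 ze60) (ke xe24 ye38 ze60) (ke xe17 ye26 ze13) (ke xe31 ye35 ze38) (ke xe25 ye35 ze52) (ke xe29 ye17 ze44) (ke xe17 ye26 ze15) (ke xe17 ye26 ze16) (ke xe20 ye59 ze13) (ke xe19 ye36 ze48) (ke xe32 ye14 ze49) (ke xe30 ye25 ze50)) (@D3.rec (fun _ => Pt) (ke xe28 ye24 ze16) (ke xe17 ye26 ze21) (ke xe32 ye12 ze29) (ke xe32 ye22 ze59) (ke xe32 ye22 ze60) (ke xe29 ye34 ze16) (ke xe17 ye26 ze22) (ke xe29 ye55 ze44) (ke xe30 ye25 ze45) (ke xe31 ye34 ze56) (ke xe19 ye14 ze12)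 (ke xe17 ye26 ze26) (ke xe31 ye53 ze37) (ke xe29 ye34 ze24) (ke xe17 ye26 ze28) (ke xe32 ye23 ze5) (ke xe17 ye26 ze30) (ke xe32 ye18 ze61) (ke xe26 ye37 ze12) (ke xe17 ye26 ze31) (ke xe17 ye26 ze33) (ke xe26 ye35 ze34) (ke xe25 ye8 ze1) (ke xe17 ye26 ze34) (ke xe30 ye25 ze43) (ke xe19 ye25 ze39) (ke xe31 ye45 ze58) (ke xe17 ye26 ze36) (ke xe32 ye23 ze8) (ke xe32 ye3 ze58) (ke xe17 ye26 ze37) (ke xe29 ye37 ze61) (ke xe27 ye35 ze57) (ke xe29 ye34 ze8) (ke xe17 ye26 ze39) (ke xe17 ye58 ze60) (ke xe31 ye33 ze37) (ke xe22 ye48 ze37) (ke xe17 ye26 ze47) (ke xe23 ye24 ze2) (ke xe28 ye27 ze56) (ke xe30 ye47 ze20) (ke xe17 ye26 ze56) (ke xe28 ye36 ze7) (ke xe29 ye16 ze8) (ke xe17 ye26 ze59) (ke xe19 ye5 ze27) (ke xe28 ye32 ze24) (ke xe17 ye27 ze0) (ke xe19 ye9 ze1) (ke xe30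 ye38 ze33) (ke xe23 ye4 ze27) (ke xe32 ye2 ze18) (ke xe18 ye47 ze59) (ke xe17 ye27 ze3) (ke xe31 ye32 ze35) (ke xe27 ye14 ze14) (ke xe30 ye39 ze25) (ke xe17 ye27 ze8) (ke xe22 ye7 ze15) (ke xe17 ye28 ze38) (ke xe28 ye17 ze32)) (@D3.rec (fun _ => Pt) (ke xe22 ye2 ze35) (ke xe24 ye19 ze1) (ke xe21 ye45 ze37) (ke xe17 ye27 ze10) (ke xe23 ye35 ze19) (ke xe17 ye42 ze55) (ke xe32 ye23 ze26) (ke xe30 ye25 ze56) (ke xe22 ye19 ze16) (ke xe32 ye18 ze25) (ke xe17 ye27 ze16) (ke xe28 ye24 ze6) (ke xe28 ye52 ze38) (ke xe30 ye11 ze7) (ke xe25 ye28 ze50) (ke xe26 ye12 ze31) (ke xe23 ye9 ze37) (ke xe18 ye7 ze41) (ke xe27 ye18 ze55) (ke xe18 ye7 ze47) (ke xe29 ye50 ze13) (ke xe17 ye27 ze24) (ke xe17 ye27 ze53) (ke xe25 ye35 ze44) (ke xe22 ye8 ze23) (ke xe29 ye41 ze11) (ke xe26 ye15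 ze12) (ke xe17 ye27 ze59) (ke xe25 ye48 ze46) (ke xe17 ye27 ze29) (ke xe17 ye28 ze2) (ke xe24 ye35 ze53) (ke xe21 ye44 ze11) (ke xe29 ye0 ze26) (ke xe31 ye26 ze23) (ke xe32 ye23 ze30) (ke xe17 ye27 ze35) (ke xe32 ye13 ze61) (ke xe17 ye27 ze38) (ke xe31 ye20 ze26) (ke xe25 ye26 ze56) (ke xe32 ye23 ze34) (ke xe17 ye27 ze41) (ke xe17 ye36 ze19) (ke xe18 ye16 ze28) (ke xe23 ye30 ze11) (ke xe17 ye27 ze42) (ke xe29 ye50 ze42) (ke xe25 ye1 ze14) (ke xe30 ye51 ze42) (ke xe29 ye4 ze29) (ke xe22 ye9 ze16) (ke xe21 ye26 ze44) (ke xe32 ye23 ze37) (ke xe31 ye10 ze52) (ke xe30 ye37 ze6) (ke xe29 ye4 ze31) (ke xe22 ye31 ze11) (ke xe23 ye27 ze1) (ke xe17 ye27 ze50) (ke xe21 ye33 ze14) (ke xe30 ye55 ze47)) (@D3.rec (fun _ => Pt) (ke xe32 ye23 ze39) (ke xe32 ye23 ze42) (ke xe17 ye27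 ze56) (ke xe23 ye41 ze26) (ke xe31 ye46 ze28) (ke xe29 ye5 ze40) (ke xe29 ye56 ze50) (ke xe17 ye27 ze60) (ke xe31 ye4 ze37) (ke xe27 ye24 ze1) (ke xe29 ye51 ze14) (ke xe17 ye27 ze61) (ke xe21 ye39 ze34) (ke xe30 ye3 ze52) (ke xe29 ye5 ze30) (ke xe32 ye23 ze44) (ke xe32 ye23 ze46) (ke xe31 ye10 ze44) (ke xe32 ye23 ze47) (ke xe17 ye28 ze5) (ke xe31 ye0 ze32) (ke xe24 ye40 ze10) (ke xe32 ye23 ze48) (ke xe17 ye28 ze11) (ke xe17 ye28 ze12) (ke xe29 ye49 ze33) (ke xe17 ye28 ze13) (ke xe31 ye10 ze38) (ke xe17 ye28 ze14) (ke xe32 ye16 ze21) (ke xe31 ye3 ze11) (ke xe30 ye10 ze50) (ke xe17 ye28 ze15) (ke xe29 ye47 ze55) (ke xe29 ye56 ze61) (ke xe30 ye10 ze43) (ke xe28 ye42 ze48) (ke xe25 ye30 ze35) (ke xe30 ye47 ze10) (ke xe32 ye23 ze54) (ke xe30 ye10 ze4) (ke xe31 ye49 ze3)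 (ke xe17 ye28 ze21) (ke xe30 ye10 ze54) (ke xe28 ye17 ze48) (ke xe17 ye29 ze10) (ke xe27 ye7 ze57) (ke xe31 ye54 ze56) (ke xe28 ye48 ze32) (ke xe31 ye54 ze7) (ke xe32 ye11 ze24) (ke xe17 ye28 ze28) (ke xe32 ye11 ze6) (ke xe32 ye18 ze58) (ke xe17 ye28 ze30) (ke xe27 ye17 ze18) (ke xe31 ye35 ze3) (ke xe29 ye44 ze53) (ke xe17 ye28 ze34) (ke xe32 ye11 ze44) (ke xe17 ye28 ze35) (ke xe20 ye23 ze58)) (@D3.rec (fun _ => Pt) (ke xe32 ye23 ze60) (ke xe29 ye8 ze26) (ke xe17 ye28 ze39) (ke xe26 ye33 ze17) (ke xe32 ye19 ze6) (ke xe31 ye46 ze55) (ke xe17 ye28 ze40) (ke xe24 ye26 ze25) (ke xe26 ye36 ze34) (ke xe24 ye22 ze18) (ke xe26 ye44 ze34) (ke xe17 ye28 ze43) (ke xe28 ye52 ze25) (ke xe17 ye28 ze45) (ke xe32 ye24 ze2) (ke xe32 ye24 ze3) (ke xe17 ye28 ze46) (ke xe32 ye20 ze28)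 (ke xe19 ye52 ze2) (ke xe32 ye11 ze9) (ke xe26 ye11 ze11) (ke xe32 ye24 ze5) (ke xe20 ye23 ze59) (ke xe31 ye47 ze32) (ke xe17 ye28 ze53) (ke xe31 ye55 ze32) (ke xe17 ye28 ze56) (ke xe27 ye2 ze38) (ke xe29 ye53 ze42) (ke xe19 ye28 ze16) (ke xe21 ye58 ze53) (ke xe29 ye50 ze49) (ke xe21 ye30 ze29) (ke xe26 ye44 ze44) (ke xe32 ye24 ze8) (ke xe17 ye29 ze2) (ke xe17 ye29 ze3) (ke xe28 ye33 ze33) (ke xe21 ye42 ze57) (ke xe25 ye53 ze22) (ke xe29 ye16 ze26) (ke xe17 ye29 ze6) (ke xe21 ye5 ze3) (ke xe25 ye36 ze60) (ke xe17 ye29 ze8) (ke xe25 ye32 ze50) (ke xe17 ye29 ze12) (ke xe21 ye50 ze25) (ke xe17 ye29 ze13) (ke xe24 ye34 ze20) (ke xe30 ye8 ze11) (ke xe18 ye0 ze55) (ke xe28 ye41 ze19) (ke xe28 ye1 ze41) (ke xe25 ye7 ze42) (ke xe21 ye45 ze41) (ke xe17 ye29 ze31) (ke xe30 ye6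 ze3) (ke xe30 ye16 ze57) (ke xe18 ye52 ze15) (ke xe22 ye10 ze57) (ke xe17 ye29 ze34)) (@D3.rec (fun _ => Pt) (ke xe17 ye29 ze38) (ke xe21 ye54 ze6) (ke xe31 ye34 ze52) (ke xe17 ye29 ze41) (ke xe31 ye13 ze18) (ke xe24 ye37 ze1) (ke xe27 ye11 ze34) (ke xe29 ye31 ze19) (ke xe27 ye48 ze19) (ke xe21 ye37 ze4) (ke xe23 ye7 ze13) (ke xe23 ye6 ze25) (ke xe20 ye22 ze10) (ke xe20 ye16 ze44) (ke xe21 ye57 ze58) (ke xe20 ye0 ze53) (ke xe22 ye23 ze37) (ke xe17 ye51 ze19) (ke xe20 ye10 ze23) (ke xe17 ye30 ze6) (ke xe20 ye14 ze11) (ke xe20 ye22 ze14) (ke xe17 ye30 ze12) (ke xe23 ye49 ze46) (ke xe21 ye18 ze42) (ke xe20 ye52 ze17) (ke xe17 ye30 ze14) (ke xe21 ye36 ze60) (ke xe17 ye30 ze21) (ke xe17 ye30 ze23) (ke xe17 ye30 ze24) (ke xe31 ye44 ze1) (ke xe22 ye8 ze47) (ke xe27 ye39 ze27)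 (ke xe25 ye1 ze13) (ke xe17 ye30 ze30) (ke xe19 ye57 ze26) (ke xe27 ye38 ze32) (ke xe29 ye32 ze51) (ke xe17 ye30 ze36) (ke xe17 ye35 ze5) (ke xe31 ye47 ze17) (ke xe25 ye39 ze35) (ke xe32 ye24 ze12) (ke xe17 ye30 ze46) (ke xe22 ye8 ze2) (ke xe22 ye8 ze3) (ke xe25 ye42 ze27) (ke xe32 ye24 ze13) (ke xe17 ye30 ze50) (ke xe31 ye24 ze3) (ke xe21 ye53 ze60) (ke xe17 ye30 ze53) (ke xe25 ye44 ze57) (ke xe22 ye8 ze57) (ke xe17 ye30 ze55) (ke xe20 ye5 ze41) (ke xe21 ye58 ze47) (ke xe29 ye21 ze24) (ke xe17 ye31 ze11) (ke xe19 ye45 ze23) (ke xe26 ye22 ze8)) (@D3.rec (fun _ => Pt) (ke xe30 ye12 ze10) (ke xe23 ye24 ze3) (ke xe18 ye0 ze27) (ke xe30 ye9 ze8) (ke xe30 ye27 ze18) (ke xe17 ye31 ze25) (ke xe17 ye31 ze35) (ke xe18 ye42 ze47) (ke xe23 ye56 ze31) (ke xe24 ye21 ze41) (ke xe19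 ye19 ze20) (ke xe17 ye31 ze32) (ke xe23 ye34 ze38) (ke xe26 ye49 ze4) (ke xe30 ye54 ze21) (ke xe27 ye31 ze42) (ke xe27 ye58 ze56) (ke xe17 ye31 ze47) (ke xe17 ye31 ze52) (ke xe30 ye6 ze51) (ke xe17 ye31 ze57) (ke xe22 ye48 ze25) (ke xe17 ye32 ze1) (ke xe32 ye24 ze15) (ke xe32 ye3 ze3) (ke xe17 ye32 ze3) (ke xe30 ye26 ze27) (ke xe31 ye36 ze3) (ke xe32 ye0 ze24) (ke xe22 ye55 ze3) (ke xe17 ye32 ze8) (ke xe17 ye32 ze9) (ke xe19 ye37 ze17) (ke xe30 ye14 ze12) (ke xe19 ye37 ze22) (ke xe20 ye49 ze36) (ke xe26 ye42 ze29) (ke xe17 ye32 ze16) (ke xe17 ye32 ze24) (ke xe17 ye32 ze26) (ke xe30 ye39 ze42) (ke xe17 ye32 ze28) (ke xe19 ye22 ze55) (ke xe32 ye24 ze18) (ke xe28 ye59 ze10) (ke xe20 ye43 ze46) (ke xe17 ye32 ze32) (ke xe21 ye3 ze5) (ke xe29 ye22 ze15) (ke xe17 ye32 ze41)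 (ke xe29 ye17 ze61) (ke xe28 ye44 ze43) (ke xe17 ye32 ze44) (ke xe25 ye30 ze9) (ke xe29 ye28 ze39) (ke xe17 ye32 ze56) (ke xe17 ye32 ze58) (ke xe29 ye58 ze46) (ke xe17 ye33 ze0) (ke xe24 ye5 ze48) (ke xe17 ye33 ze5) (ke xe20 ye42 ze17)) (@D3.rec (fun _ => Pt) (ke xe20 ye52 ze57) (ke xe26 ye43 ze55) (ke xe25 ye44 ze30) (ke xe20 ye5 ze3) (ke xe21 ye31 ze31) (ke xe21 ye59 ze4) (ke xe21 ye59 ze5) (ke xe31 ye48 ze4) (ke xe21 ye46 ze40) (ke xe30 ye7 ze4) (ke xe30 ye13 ze35) (ke xe21 ye20 ze19) (ke xe18 ye11 ze7) (ke xe30 ye13 ze46) (ke xe29 ye54 ze1) (ke xe17 ye33 ze37) (ke xe27 ye12 ze48) (ke xe17 ye33 ze43) (ke xe31 ye6 ze40) (ke xe24 ye52 ze5) (ke xe20 ye17 ze10) (ke xe17 ye33 ze48) (ke xe20 ye53 ze51) (ke xe19 ye4 ze59) (ke xe26 ye26 ze10) (ke xe17 ye33 ze52) (ke xe21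 ye23 ze55) (ke xe21 ye3 ze26) (ke xe17 ye33 ze53) (ke xe18 ye13 ze52) (ke xe17 ye33 ze56) (ke xe30 ye47 ze41) (ke xe17 ye33 ze57) (ke xe20 ye12 ze57) (ke xe28 ye45 ze41) (ke xe28 ye46 ze3) (ke xe21 ye32 ze23) (ke xe21 ye35 ze16) (ke xe18 ye55 ze15) (ke xe18 ye55 ze19) (ke xe20 ye11 ze29) (ke xe31 ye57 ze9) (ke xe31 ye58 ze7) (ke xe23 ye12 ze36) (ke xe17 ye34 ze15) (ke xe18 ye52 ze11) (ke xe28 ye2 ze31) (ke xe17 ye34 ze23) (ke xe17 ye34 ze26) (ke xe29 ye35 ze56) (ke xe17 ye34 ze29) (ke xe30 ye7 ze7) (ke xe17 ye34 ze32) (ke xe20 ye54 ze17) (ke xe28 ye55 ze10) (ke xe20 ye5 ze12) (ke xe21 ye17 ze12) (ke xe29 ye41 ze0) (ke xe17 ye34 ze40) (ke xe30 ye9 ze35) (ke xe20 ye28 ze16) (ke xe24 ye36 ze21)) (@D3.rec (fun _ => Pt) (ke xe22 ye2 ze39) (ke xe21 ye45 ze51) (ke xe19 ye57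 ze8) (ke xe20 ye15 ze6) (ke xe25 ye51 ze16) (ke xe21 ye42 ze53) (ke xe24 ye2 ze34) (ke xe21 ye46 ze7) (ke xe17 ye35 ze25) (ke xe27 ye46 ze58) (ke xe25 ye50 ze32) (ke xe17 ye35 ze1) (ke xe32 ye8 ze46) (ke xe31 ye45 ze59) (ke xe31 ye29 ze8) (ke xe21 ye43 ze53) (ke xe21 ye2 ze54) (ke xe25 ye44 ze61) (ke xe23 ye51 ze25) (ke xe17 ye56 ze53) (ke xe19 ye3 ze43) (ke xe28 ye3 ze37) (ke xe19 ye5 ze20) (ke xe18 ye5 ze0) (ke xe30 ye2 ze24) (ke xe31 ye9 ze5) (ke xe17 ye35 ze24) (ke xe32 ye24 ze31) (ke xe24 ye42 ze16) (ke xe29 ye57 ze23) (ke xe17 ye35 ze27) (ke xe17 ye35 ze26) (ke xe31 ye57 ze20) (ke xe23 ye41 ze12) (ke xe25 ye38 ze56) (ke xe30 ye11 ze29) (ke xe22 ye9 ze43) (ke xe29 ye2 ze33) (ke xe27 ye4 ze12) (ke xe24 ye30 ze58) (ke xe17 ye35 ze34) (ke xe26 ye50 ze23) (ke xe29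 ye1 ze22) (ke xe31 ye58 ze28) (ke xe26 ye50 ze17) (ke xe32 ye24 ze36) (ke xe17 ye35 ze42) (ke xe19 ye10 ze13) (ke xe26 ye7 ze50) (ke xe25 ye59 ze16) (ke xe17 ye35 ze47) (ke xe22 ye26 ze3) (ke xe17 ye35 ze48) (ke xe28 ye17 ze7) (ke xe26 ye27 ze35) (ke xe30 ye24 ze19) (ke xe17 ye35 ze50) (ke xe24 ye12 ze52) (ke xe20 ye27 ze8) (ke xe17 ye35 ze52) (ke xe29 ye59 ze44) (ke xe32 ye15 ze36)) (@D3.rec (fun _ => Pt) (ke xe17 ye35 ze54) (ke xe27 ye18 ze9) (ke xe31 ye49 ze34) (ke xe31 ye46 ze51) (ke xe32 ye0 ze41) (ke xe19 ye38 ze1) (ke xe19 ye35 ze33) (ke xe27 ye55 ze11) (ke xe30 ye14 ze27) (ke xe26 ye13 ze54) (ke xe17 ye36 ze7) (ke xe25 ye10 ze27) (ke xe17 ye36 ze8) (ke xe24 ye7 ze29) (ke xe19 ye4 ze50) (ke xe31 ye32 ze6) (ke xe32 ye2 ze6) (ke xe29 ye53 ze28) (ke xe23 ye36 ze15)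 (ke xe25 ye11 ze33) (ke xe32 ye1 ze20) (ke xe32 ye24 ze41) (ke xe17 ye36 ze12) (ke xe25 ye32 ze39) (ke xe20 ye37 ze0) (ke xe25 ye10 ze30) (ke xe31 ye32 ze4) (ke xe29 ye50 ze41) (ke xe29 ye57 ze35) (ke xe25 ye40 ze58) (ke xe30 ye47 ze47) (ke xe21 ye19 ze3) (ke xe21 ye6 ze36) (ke xe31 ye7 ze36) (ke xe25 ye41 ze42) (ke xe20 ye2 ze20) (ke xe27 ye4 ze53) (ke xe21 ye22 ze59) (ke xe25 ye28 ze58) (ke xe17 ye40 ze59) (ke xe17 ye41 ze15) (ke xe32 ye24 ze50) (ke xe17 ye41 ze19) (ke xe17 ye38 ze49) (ke xe31 ye27 ze41) (ke xe17 ye36 ze34) (ke xe18 ye8 ze18) (ke xe32 ye24 ze52) (ke xe17 ye36 ze36) (ke xe17 ye36 ze37) (ke xe27 ye25 ze18) (ke xe17 ye38 ze7) (ke xe26 ye5 ze13) (ke xe24 ye44 ze61) (ke xe27 ye45 ze19) (ke xe17 ye36 ze42) (ke xe17 ye36 ze44) (ke xe17 ye36 ze45) (ke xe27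 ye28 ze47) (ke xe32 ye24 ze53) (ke xe17 ye36 ze49) (ke xe17 ye39 ze55)) (@D3.rec (fun _ => Pt) (ke xe30 ye4 ze25) (ke xe26 ye1 ze18) (ke xe17 ye36 ze51) (ke xe26 ye15 ze17) (ke xe17 ye39 ze17) (ke xe17 ye36 ze55) (ke xe21 ye59 ze12) (ke xe32 ye24 ze55) (ke xe17 ye36 ze56) (ke xe18 ye30 ze9) (ke xe24 ye45 ze38) (ke xe27 ye25 ze51) (ke xe24 ye54 ze58) (ke xe22 ye10 ze33) (ke xe17 ye37 ze0) (ke xe32 ye6 ze13) (ke xe17 ye37 ze7) (ke xe27 ye26 ze22) (ke xe27 ye24 ze50) (ke xe17 ye37 ze4) (ke xe27 ye28 ze51) (ke xe17 ye38 ze42) (ke xe24 ye55 ze40) (ke xe29 ye38 ze47) (ke xe27 ye26 ze47) (ke xe20 ye4 ze16) (ke xe17 ye37 ze12) (ke xe26 ye16 ze49) (ke xe27 ye6 ze25) (ke xe17 ye37 ze15) (ke xe17 ye42 ze54) (ke xe24 ye34 ze22) (ke xe17 ye37 ze17) (ke xe26 ye19 ze13) (ke xe28 ye27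 ze40) (ke xe18 ye8 ze36) (ke xe27 ye27 ze0) (ke xe28 ye4 ze13) (ke xe17 ye44 ze45) (ke xe27 ye28 ze5) (ke xe26 ye16 ze44) (ke xe17 ye38 ze54) (ke xe25 ye0 ze28) (ke xe17 ye37 ze34) (ke xe18 ye4 ze9) (ke xe26 ye5 ze11) (ke xe17 ye54 ze13) (ke xe32 ye24 ze60) (ke xe17 ye37 ze42) (ke xe27 ye31 ze27) (ke xe17 ye37 ze45) (ke xe27 ye25 ze11) (ke xe27 ye52 ze33) (ke xe17 ye37 ze46) (ke xe29 ye50 ze46) (ke xe17 ye37 ze50) (ke xe17 ye37 ze51) (ke xe17 ye37 ze52) (ke xe26 ye17 ze7) (ke xe17 ye44 ze44) (ke xe21 ye34 ze2) (ke xe17 ye37 ze54)) (@D3.rec (fun _ => Pt) (ke xe25 ye3 ze26) (ke xe18 ye4 ze3) (ke xe31 ye59 ze28) (ke xe26 ye17 ze3) (ke xe17 ye41 ze22) (ke xe17 ye37 ze57) (ke xe31 ye12 ze19) (ke xe17 ye37 ze58) (ke xe25 ye28 ze51) (ke xe17 ye38 ze0) (ke xe30 ye51 ze48) (ke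 xe21 ye27 ze7) (ke xe18 ye4 ze6) (ke xe23 ye2 ze8) (ke xe27 ye30 ze55) (ke xe26 ye48 ze28) (ke xe21 ye25 ze21) (ke xe17 ye38 ze2) (ke xe17 ye39 ze0) (ke xe24 ye44 ze37) (ke xe28 ye3 ze7) (ke xe17 ye38 ze4) (ke xe27 ye25 ze17) (ke xe31 ye8 ze10) (ke xe17 ye38 ze55) (ke xe31 ye6 ze24) (ke xe25 ye0 ze38) (ke xe30 ye54 ze7) (ke xe18 ye6 ze8) (ke xe18 ye6 ze12) (ke xe27 ye27 ze23) (ke xe29 ye18 ze45) (ke xe27 ye45 ze11) (ke xe22 ye0 ze18) (ke xe17 ye38 ze28) (ke xe30 ye8 ze55) (ke xe30 ye8 ze36) (ke xe17 ye38 ze29) (ke xe27 ye48 ze36) (ke xe21 ye32 ze49) (ke xe17 ye40 ze45) (ke xe17 ye38 ze33) (ke xe27 ye28 ze30) (ke xe17 ye38 ze38) (ke xe25 ye15 ze43) (ke xe24 ye56 ze8) (ke xe17 ye38 ze40) (ke xe27 ye25 ze24) (ke xe18 ye4 ze50) (ke xe25 ye28 ze59) (ke xe17 ye38 ze44) (ke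 xe18 ye8 ze12) (ke xe18 ye4 ze12) (ke xe17 ye38 ze48) (ke xe17 ye38 ze50) (ke xe21 ye34 ze20) (ke xe17 ye38 ze53) (ke xe25 ye39 ze50) (ke xe23 ye25 ze61) (ke xe24 ye45 ze36) (ke xe17 ye38 ze58) (ke xe21 ye33 ze58)) (@D3.rec (fun _ => Pt) (ke xe27 ye25 ze36) (ke xe17 ye44 ze21) (ke xe17 ye39 ze8) (ke xe17 ye40 ze6) (ke xe21 ye33 ze50) (ke xe17 ye39 ze12) (ke xe24 ye44 ze50) (ke xe32 ye25 ze5) (ke xe18 ye27 ze28) (ke xe17 ye39 ze15) (ke xe31 ye42 ze60) (ke xe27 ye28 ze7) (ke xe31 ye44 ze26) (ke xe32 ye24 ze54) (ke xe28 ye41 ze41) (ke xe17 ye39 ze19) (ke xe23 ye22 ze57) (ke xe32 ye19 ze47) (ke xe21 ye18 ze30) (ke xe17 ye39 ze22) (ke xe23 ye22 ze48) (ke xe30 ye6 ze0) (ke xe17 ye39 ze26) (ke xe27 ye26 ze30) (ke xe24 ye41 ze1) (ke xe28 ye3 ze25) (ke xe29 ye17 ze3) (ke xe25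 ye15 ze59) (ke xe24 ye43 ze2) (ke xe17 ye39 ze48) (ke xe17 ye39 ze50) (ke xe17 ye39 ze52) (ke xe31 ye7 ze8) (ke xe17 ye39 ze53) (ke xe28 ye41 ze21) (ke xe20 ye47 ze13) (ke xe17 ye39 ze61) (ke xe28 ye41 ze38) (ke xe27 ye43 ze7) (ke xe32 ye24 ze57) (ke xe17 ye40 ze3) (ke xe27 ye28 ze13) (ke xe30 ye23 ze17) (ke xe17 ye40 ze5) (ke xe26 ye11 ze40) (ke xe32 ye3 ze44) (ke xe17 ye40 ze41) (ke xe17 ye40 ze7) (ke xe17 ye40 ze9) (ke xe31 ye38 ze32) (ke xe24 ye55 ze0) (ke xe32 ye6 ze0) (ke xe17 ye40 ze17) (ke xe27 ye46 ze38) (ke xe17 ye40 ze18) (ke xe27 ye28 ze43) (ke xe17 ye40 ze19) (ke xe22 ye11 ze25) (ke xe24 ye56 ze24) (ke xe27 ye3 ze60) (ke xe31 ye43 ze9) (ke xe24 ye55 ze54)) (@D3.rec (fun _ => Pt) (ke xe31 ye12 ze20) (ke xe24 ye43 ze34) (ke xe25 ye1 ze8) (ke xe17 ye40 ze29)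 (ke xe18 ye3 ze39) (ke xe27 ye25 ze39) (ke xe17 ye40 ze35) (ke xe27 ye27 ze11) (ke xe24 ye55 ze17) (ke xe27 ye47 ze21) (ke xe31 ye12 ze2) (ke xe17 ye40 ze39) (ke xe31 ye11 ze61) (ke xe27 ye27 ze41) (ke xe26 ye11 ze34) (ke xe27 ye29 ze55) (ke xe17 ye42 ze42) (ke xe17 ye40 ze44) (ke xe31 ye11 ze60) (ke xe32 ye25 ze12) (ke xe25 ye58 ze42) (ke xe24 ye56 ze7) (ke xe30 ye23 ze14) (ke xe17 ye40 ze52) (ke xe30 ye1 ze1) (ke xe27 ye28 ze57) (ke xe17 ye40 ze57) (ke xe32 ye24 ze28) (ke xe18 ye4 ze60) (ke xe17 ye40 ze58) (ke xe27 ye26 ze42) (ke xe26 ye11 ze30) (ke xe17 ye54 ze28) (ke xe17 ye41 ze1) (ke xe17 ye41 ze3) (ke xe21 ye26 ze13) (ke xe23 ye22 ze8) (ke xe26 ye12 ze9) (ke xe17 ye41 ze8) (ke xe18 ye30 ze14) (ke xe17 ye41 ze9) (ke xe31 ye54 ze39) (ke xe27 ye4 ze24) (ke xe27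 ye27 ze55) (ke xe22 ye28 ze25) (ke xe27 ye45 ze54) (ke xe17 ye41 ze12) (ke xe27 ye24 ze58) (ke xe31 ye34 ze0) (ke xe27 ye49 ze9) (ke xe17 ye41 ze18) (ke xe27 ye25 ze20) (ke xe26 ye15 ze2) (ke xe28 ye2 ze35) (ke xe18 ye29 ze0) (ke xe18 ye40 ze31) (ke xe28 ye2 ze17) (ke xe27 ye28 ze25) (ke xe24 ye56 ze5) (ke xe24 ye58 ze51) (ke xe17 ye41 ze27) (ke xe27 ye29 ze0)) (@D3.rec (fun _ => Pt) (ke xe27 ye28 ze61) (ke xe18 ye5 ze17) (ke xe17 ye41 ze28) (ke xe25 ye0 ze42) (ke xe24 ye56 ze31) (ke xe27 ye29 ze53) (ke xe31 ye38 ze24) (ke xe17 ye41 ze33) (ke xe25 ye0 ze51) (ke xe18 ye26 ze53) (ke xe31 ye43 ze58) (ke xe17 ye41 ze41) (ke xe23 ye6 ze10) (ke xe17 ye41 ze48) (ke xe19 ye36 ze34) (ke xe17 ye50 ze40) (ke xe28 ye8 ze17) (ke xe30 ye14 ze31) (ke xe17 ye41 ze58) (ke xe23 ye25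 ze15) (ke xe17 ye41 ze61) (ke xe27 ye51 ze3) (ke xe17 ye42 ze7) (ke xe21 ye24 ze12) (ke xe26 ye11 ze0) (ke xe19 ye19 ze33) (ke xe20 ye45 ze3) (ke xe30 ye26 ze9) (ke xe17 ye42 ze6) (ke xe29 ye47 ze58) (ke xe31 ye21 ze38) (ke xe24 ye48 ze48) (ke xe28 ye9 ze2) (ke xe25 ye4 ze34) (ke xe20 ye59 ze23) (ke xe28 ye5 ze40) (ke xe29 ye52 ze1) (ke xe17 ye42 ze25) (ke xe17 ye42 ze26) (ke xe20 ye28 ze31) (ke xe21 ye41 ze10) (ke xe17 ye42 ze31) (ke xe21 ye23 ze58) (ke xe21 ye41 ze59) (ke xe30 ye5 ze1) (ke xe30 ye5 ze2) (ke xe18 ye9 ze42) (ke xe17 ye47 ze11) (ke xe24 ye41 ze38) (ke xe28 ye10 ze1) (ke xe17 ye42 ze38) (ke xe17 ye42 ze41) (ke xe26 ye11 ze44) (ke xe27 ye29 ze5) (ke xe17 ye42 ze47) (ke xe27 ye28 ze15) (ke xe17 ye42 ze50) (ke xe17 ye42 ze56) (ke xe32 ye25 ze19) (ke xe17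 ye42 ze57) (ke xe32 ye5 ze33) (ke xe31 ye12 ze3)) (@D3.rec (fun _ => Pt) (ke xe31 ye49 ze61) (ke xe17 ye42 ze61) (ke xe21 ye31 ze50) (ke xe26 ye15 ze30) (ke xe19 ye38 ze29) (ke xe20 ye42 ze9) (ke xe31 ye48 ze0) (ke xe17 ye43 ze6) (ke xe25 ye8 ze51) (ke xe25 ye6 ze26) (ke xe17 ye43 ze8) (ke xe25 ye33 ze42) (ke xe17 ye43 ze9) (ke xe19 ye37 ze56) (ke xe25 ye8 ze57) (ke xe25 ye9 ze41) (ke xe25 ye34 ze59) (ke xe25 ye35 ze5) (ke xe32 ye15 ze38) (ke xe28 ye23 ze5) (ke xe32 ye7 ze8) (ke xe27 ye41 ze40) (ke xe21 ye39 ze15) (ke xe23 ye1 ze6) (ke xe22 ye31 ze8) (ke xe17 ye43 ze33) (ke xe26 ye46 ze4) (ke xe31 ye11 ze24) (ke xe18 ye0 ze32) (ke xe19 ye2 ze20) (ke xe21 ye9 ze44) (ke xe17 ye43 ze45) (ke xe29 ye23 ze28) (ke xe17 ye43 ze48) (ke xe26 ye29 ze53) (ke xe17 ye43 ze52) (ke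 xe26 ye14 ze49) (ke xe17 ye43 ze50) (ke xe27 ye48 ze21) (ke xe17 ye43 ze51) (ke xe18 ye7 ze5) (ke xe28 ye4 ze17) (ke xe18 ye30 ze6) (ke xe32 ye2 ze55) (ke xe17 ye43 ze58) (ke xe32 ye25 ze0) (ke xe22 ye14 ze46) (ke xe17 ye43 ze60) (ke xe17 ye43 ze61) (ke xe18 ye56 ze1) (ke xe18 ye29 ze12) (ke xe18 ye6 ze14) (ke xe17 ye44 ze5) (ke xe17 ye44 ze6) (ke xe18 ye36 ze57) (ke xe27 ye26 ze14) (ke xe27 ye48 ze47) (ke xe17 ye44 ze11) (ke xe21 ye37 ze5) (ke xe24 ye41 ze53) (ke xe23 ye33 ze57) (ke xe28 ye2 ze23)) (@D3.rec (fun _ => Pt) (ke xe25 ye0 ze15) (ke xe17 ye44 ze16) (ke xe26 ye21 ze1) (ke xe17 ye44 ze18) (ke xe18 ye4 ze45) (ke xe18 ye4 ze46) (ke xe27 ye45 ze46) (ke xe27 ye45 ze39) (ke xe18 ye28 ze32) (ke xe17 ye44 ze27) (ke xe21 ye30 ze59) (ke xe17 ye44 ze28) (ke xe27 ye50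 ze37) (ke xe17 ye44 ze31) (ke xe17 ye44 ze34) (ke xe28 ye21 ze18) (ke xe17 ye44 ze35) (ke xe24 ye18 ze30) (ke xe26 ye13 ze24) (ke xe24 ye44 ze52) (ke xe32 ye25 ze25) (ke xe24 ye44 ze56) (ke xe28 ye4 ze20) (ke xe31 ye44 ze39) (ke xe31 ye44 ze24) (ke xe17 ye44 ze42) (ke xe30 ye54 ze18) (ke xe27 ye25 ze49) (ke xe26 ye21 ze11) (ke xe17 ye44 ze48) (ke xe31 ye42 ze39) (ke xe17 ye44 ze51) (ke xe31 ye7 ze41) (ke xe25 ye15 ze33) (ke xe21 ye1 ze31) (ke xe25 ye33 ze56) (ke xe30 ye4 ze13) (ke xe27 ye44 ze0) (ke xe20 ye14 ze27) (ke xe18 ye24 ze44) (ke xe17 ye45 ze17) (ke xe17 ye45 ze18) (ke xe27 ye21 ze15) (ke xe17 ye45 ze21) (ke xe30 ye1 ze17) (ke xe26 ye17 ze8) (ke xe30 ye23 ze21) (ke xe18 ye26 ze28) (ke xe17 ye45 ze24) (ke xe17 ye45 ze25) (ke xe32 ye6 ze19) (ke xe17 ye45 ze27)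 (ke xe28 ye21 ze9) (ke xe17 ye45 ze29) (ke xe23 ye23 ze61) (ke xe17 ye45 ze30) (ke xe23 ye34 ze10) (ke xe20 ye4 ze14) (ke xe17 ye45 ze32) (ke xe24 ye54 ze45) (ke xe30 ye31 ze53) (ke xe27 ye40 ze15)) (@D3.rec (fun _ => Pt) (ke xe17 ye45 ze43) (ke xe17 ye45 ze45) (ke xe23 ye36 ze45) (ke xe17 ye45 ze48) (ke xe32 ye25 ze33) (ke xe17 ye45 ze51) (ke xe20 ye21 ze23) (ke xe17 ye45 ze52) (ke xe27 ye32 ze40) (ke xe17 ye45 ze53) (ke xe32 ye25 ze37) (ke xe27 ye54 ze0) (ke xe18 ye14 ze55) (ke xe20 ye10 ze1) (ke xe27 ye58 ze54) (ke xe32 ye25 ze39) (ke xe17 ye45 ze58) (ke xe18 ye34 ze20) (ke xe20 ye21 ze10) (ke xe31 ye44 ze32) (ke xe17 ye45 ze61) (ke xe27 ye34 ze30) (ke xe32 ye25 ze43) (ke xe17 ye46 ze1) (ke xe32 ye25 ze46) (ke xe23 ye50 ze37) (ke xe17 ye46 ze2) (ke xe18 ye31 ze40)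 (ke xe32 ye25 ze53) (ke xe32 ye25 ze47) (ke xe18 ye31 ze42) (ke xe29 ye30 ze58) (ke xe17 ye46 ze7) (ke xe27 ye34 ze13) (ke xe28 ye7 ze37) (ke xe31 ye42 ze53) (ke xe28 ye5 ze36) (ke xe17 ye46 ze6) (ke xe32 ye25 ze54) (ke xe22 ye33 ze6) (ke xe27 ye32 ze8) (ke xe18 ye15 ze3) (ke xe28 ye21 ze33) (ke xe29 ye20 ze6) (ke xe18 ye45 ze55) (ke xe17 ye46 ze11) (ke xe32 ye25 ze57) (ke xe32 ye25 ze58) (ke xe17 ye46 ze13) (ke xe25 ye3 ze51) (ke xe27 ye34 ze3) (ke xe27 ye33 ze7) (ke xe17 ye46 ze15) (ke xe32 ye7 ze53) (ke xe29 ye24 ze53) (ke xe32 ye26 ze0) (ke xe17 ye46 ze16) (ke xe32 ye26 ze2) (ke xe28 ye7 ze0) (ke xe24 ye54 ze32) (ke xe17 ye46 ze19) (ke xe27 ye34 ze43)) (@D3.rec (fun _ => Pt) (ke xe28 ye16 ze54) (ke xe17 ye46 ze22) (ke xe17 ye46 ze23) (ke xe31 ye42 ze40) (ke xe26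 ye13 ze37) (ke xe27 ye34 ze27) (ke xe20 ye11 ze0) (ke xe27 ye32 ze51) (ke xe17 ye46 ze27) (ke xe30 ye45 ze53) (ke xe30 ye24 ze51) (ke xe28 ye25 ze46) (ke xe17 ye46 ze31) (ke xe28 ye6 ze14) (ke xe17 ye46 ze32) (ke xe17 ye46 ze34) (ke xe28 ye8 ze60) (ke xe31 ye42 ze38) (ke xe30 ye31 ze59) (ke xe26 ye17 ze33) (ke xe32 ye26 ze4) (ke xe32 ye26 ze13) (ke xe17 ye46 ze39) (ke xe31 ye32 ze40) (ke xe18 ye58 ze12) (ke xe27 ye35 ze6) (ke xe29 ye20 ze7) (ke xe23 ye21 ze51) (ke xe17 ye46 ze48) (ke xe31 ye59 ze18) (ke xe32 ye26 ze18) (ke xe32 ye12 ze61) (ke xe32 ye26 ze20) (ke xe32 ye26 ze21) (ke xe31 ye16 ze30) (ke xe25 ye40 ze12) (ke xe32 ye26 ze25) (ke xe32 ye26 ze26) (ke xe17 ye46 ze49) (ke xe18 ye30 ze58) (ke xe17 ye46 ze52) (ke xe19 ye0 ze23) (ke xe24 ye55 ze51) (ke xe32 ye26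 ze28) (ke xe17 ye46 ze58) (ke xe25 ye0 ze11) (ke xe29 ye25 ze13) (ke xe17 ye46 ze61) (ke xe27 ye54 ze9) (ke xe17 ye47 ze0) (ke xe23 ye50 ze26) (ke xe17 ye47 ze1) (ke xe22 ye34 ze46) (ke xe17 ye47 ze2) (ke xe32 ye10 ze5) (ke xe18 ye30 ze37) (ke xe29 ye20 ze9) (ke xe17 ye47 ze6) (ke xe18 ye13 ze19) (ke xe27 ye52 ze46) (ke xe28 ye7 ze33) (ke xe28 ye4 ze43)) (@D3.rec (fun _ => Pt) (ke xe32 ye25 ze49) (ke xe31 ye15 ze35) (ke xe27 ye52 ze15) (ke xe27 ye32 ze50) (ke xe32 ye26 ze34) (ke xe17 ye47 ze10) (ke xe26 ye19 ze28) (ke xe29 ye7 ze37) (ke xe17 ye47 ze12) (ke xe28 ye9 ze25) (ke xe28 ye6 ze1) (ke xe18 ye31 ze14) (ke xe17 ye47 ze17) (ke xe27 ye32 ze33) (ke xe32 ye25 ze44) (ke xe17 ye47 ze15) (ke xe18 ye34 ze28) (ke xe32 ye26 ze37) (ke xe19 ye22 ze37) (ke xe32 ye26 ze1) (ke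 xe17 ye47 ze19) (ke xe18 ye34 ze38) (ke xe29 ye19 ze47) (ke xe17 ye47 ze22) (ke xe17 ye47 ze24) (ke xe27 ye55 ze35) (ke xe29 ye50 ze27) (ke xe27 ye33 ze5) (ke xe29 ye31 ze41) (ke xe20 ye21 ze25) (ke xe27 ye32 ze21) (ke xe21 ye9 ze20) (ke xe28 ye3 ze21) (ke xe28 ye46 ze4) (ke xe32 ye26 ze40) (ke xe17 ye47 ze30) (ke xe29 ye20 ze41) (ke xe26 ye21 ze6) (ke xe29 ye24 ze54) (ke xe28 ye8 ze1) (ke xe27 ye54 ze22) (ke xe27 ye53 ze19) (ke xe17 ye47 ze35) (ke xe27 ye32 ze61) (ke xe29 ye20 ze43) (ke xe17 ye47 ze37) (ke xe17 ye47 ze38) (ke xe28 ye3 ze34) (ke xe17 ye47 ze39) (ke xe17 ye47 ze40) (ke xe17 ye47 ze41) (ke xe22 ye18 ze11) (ke xe31 ye56 ze6) (ke xe32 ye26 ze38) (ke xe17 ye47 ze43) (ke xe17 ye47 ze44) (ke xe20 ye10 ze15) (ke xe27 ye59 ze51) (ke xe28 ye5 ze18) (ke xe27 ye54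 ze7) (ke xe17 ye47 ze48) (ke xe31 ye15 ze27)) (@D3.rec (fun _ => Pt) (ke xe19 ye5 ze16) (ke xe27 ye54 ze15) (ke xe18 ye58 ze21) (ke xe17 ye47 ze51) (ke xe32 ye6 ze60) (ke xe30 ye44 ze40) (ke xe27 ye33 ze25) (ke xe17 ye47 ze54) (ke xe25 ye48 ze8) (ke xe17 ye47 ze55) (ke xe17 ye47 ze56) (ke xe17 ye47 ze60) (ke xe27 ye39 ze56) (ke xe32 ye26 ze51) (ke xe29 ye2 ze22) (ke xe32 ye26 ze45) (ke xe32 ye26 ze55) (ke xe23 ye54 ze31) (ke xe31 ye58 ze6) (ke xe32 ye26 ze61) (ke xe32 ye27 ze0) (ke xe17 ye47 ze61) (ke xe18 ye8 ze61) (ke xe29 ye22 ze25) (ke xe18 ye15 ze23) (ke xe17 ye48 ze5) (ke xe17 ye48 ze7) (ke xe17 ye50 ze26) (ke xe32 ye12 ze8) (ke xe17 ye48 ze8) (ke xe30 ye52 ze54) (ke xe18 ye17 ze16) (ke xe27 ye54 ze14) (ke xe21 ye23 ze31) (ke xe26 ye59 ze8) (ke xe27 ye38 ze8)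 (ke xe26 ye55 ze9) (ke xe20 ye51 ze17) (ke xe18 ye34 ze60) (ke xe17 ye48 ze27) (ke xe18 ye33 ze38) (ke xe18 ye26 ze41) (ke xe23 ye13 ze3) (ke xe19 ye50 ze23) (ke xe17 ye48 ze33) (ke xe25 ye19 ze4) (ke xe28 ye25 ze20) (ke xe25 ye52 ze53) (ke xe28 ye59 ze18) (ke xe17 ye48 ze38) (ke xe20 ye54 ze11) (ke xe27 ye1 ze9) (ke xe17 ye48 ze42) (ke xe18 ye29 ze55) (ke xe29 ye47 ze22) (ke xe17 ye48 ze49) (ke xe17 ye48 ze50) (ke xe27 ye16 ze32) (ke xe32 ye10 ze54) (ke xe30 ye15 ze3) (ke xe17 ye48 ze56) (ke xe32 ye27 ze6)) (@D3.rec (fun _ => Pt) (ke xe17 ye48 ze57) (ke xe17 ye48 ze58) (ke xe19 ye22 ze28) (ke xe19 ye22 ze33) (ke xe17 ye48 ze61) (ke xe28 ye59 ze61) (ke xe19 ye11 ze4) (ke xe17 ye49 ze3) (ke xe24 ye53 ze39) (ke xe17 ye49 ze4) (ke xe20 ye54 ze30) (ke xe29 ye7 ze18) (ke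 xe28 ye11 ze20) (ke xe24 ye20 ze35) (ke xe31 ye28 ze14) (ke xe28 ye1 ze2) (ke xe17 ye49 ze30) (ke xe17 ye49 ze14) (ke xe27 ye4 ze45) (ke xe18 ye32 ze13) (ke xe17 ye49 ze15) (ke xe25 ye18 ze59) (ke xe30 ye17 ze53) (ke xe29 ye39 ze41) (ke xe21 ye28 ze60) (ke xe17 ye49 ze18) (ke xe18 ye41 ze45) (ke xe20 ye24 ze52) (ke xe17 ye49 ze22) (ke xe29 ye27 ze52) (ke xe31 ye46 ze60) (ke xe21 ye51 ze48) (ke xe21 ye50 ze49) (ke xe25 ye11 ze14) (ke xe18 ye39 ze16) (ke xe17 ye49 ze26) (ke xe17 ye49 ze27) (ke xe18 ye42 ze56) (ke xe25 ye31 ze9) (ke xe32 ye6 ze56) (ke xe26 ye58 ze42) (ke xe26 ye10 ze36) (ke xe28 ye8 ze30) (ke xe17 ye49 ze33) (ke xe18 ye15 ze4) (ke xe18 ye34 ze61) (ke xe28 ye37 ze58) (ke xe17 ye49 ze34) (ke xe30 ye12 ze22) (ke xe28 ye36 ze46) (ke xe26 ye59 ze20) (ke xe18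 ye14 ze42) (ke xe30 ye18 ze18) (ke xe24 ye51 ze47) (ke xe19 ye58 ze28) (ke xe32 ye27 ze13) (ke xe17 ye49 ze51) (ke xe30 ye14 ze42) (ke xe31 ye39 ze61) (ke xe32 ye27 ze15) (ke xe17 ye49 ze55) (ke xe31 ye41 ze40)) (@D3.rec (fun _ => Pt) (ke xe17 ye49 ze57) (ke xe26 ye53 ze35) (ke xe28 ye43 ze14) (ke xe17 ye50 ze2) (ke xe29 ye27 ze26) (ke xe25 ye20 ze52) (ke xe31 ye40 ze33) (ke xe17 ye49 ze60) (ke xe32 ye27 ze21) (ke xe31 ye41 ze44) (ke xe17 ye50 ze1) (ke xe31 ye41 ze46) (ke xe29 ye11 ze16) (ke xe25 ye20 ze58) (ke xe29 ye23 ze14) (ke xe22 ye41 ze26) (ke xe31 ye42 ze1) (ke xe17 ye50 ze9) (ke xe17 ye50 ze10) (ke xe17 ye50 ze11) (ke xe24 ye51 ze37) (ke xe25 ye19 ze37) (ke xe19 ye22 ze41) (ke xe28 ye47 ze55) (ke xe24 ye34 ze8) (ke xe24 ye38 ze36) (ke xe17 ye50 ze15) (ke xe18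 ye14 ze16) (ke xe18 ye6 ze37) (ke xe30 ye14 ze43) (ke xe17 ye50 ze22) (ke xe17 ye50 ze27) (ke xe24 ye14 ze52) (ke xe17 ye50 ze31) (ke xe31 ye13 ze3) (ke xe18 ye22 ze15) (ke xe17 ye50 ze38) (ke xe20 ye53 ze30) (ke xe21 ye34 ze56) (ke xe17 ye50 ze39) (ke xe26 ye5 ze42) (ke xe25 ye19 ze46) (ke xe26 ye37 ze28) (ke xe27 ye51 ze8) (ke xe23 ye7 ze21) (ke xe27 ye53 ze27) (ke xe23 ye7 ze15) (ke xe23 ye7 ze20) (ke xe20 ye35 ze19) (ke xe17 ye50 ze54) (ke xe17 ye50 ze55) (ke xe30 ye7 ze8) (ke xe20 ye50 ze26) (ke xe21 ye46 ze16) (ke xe17 ye50 ze58) (ke xe18 ye14 ze27) (ke xe29 ye20 ze32) (ke xe22 ye8 ze28) (ke xe18 ye17 ze34) (ke xe32 ye3 ze49) (ke xe18 ye32 ze47) (ke xe29 ye12 ze61)) (@D3.rec (fun _ => Pt) (ke xe17 ye51 ze6) (ke xe17 ye51 ze8) (ke xe19 ye45 ze21) (ke xe28 ye48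 ze44) (ke xe31 ye34 ze38) (ke xe18 ye39 ze41) (ke xe17 ye51 ze29) (ke xe21 ye7 ze33) (ke xe27 ye35 ze35) (ke xe30 ye17 ze51) (ke xe30 ye0 ze14) (ke xe17 ye51 ze34) (ke xe19 ye56 ze34) (ke xe32 ye27 ze24) (ke xe17 ye51 ze37) (ke xe29 ye35 ze35) (ke xe25 ye19 ze6) (ke xe24 ye33 ze2) (ke xe19 ye58 ze24) (ke xe24 ye33 ze5) (ke xe17 ye51 ze39) (ke xe22 ye7 ze40) (ke xe17 ye51 ze41) (ke xe17 ye51 ze42) (ke xe18 ye29 ze47) (ke xe24 ye22 ze53) (ke xe17 ye51 ze48) (ke xe32 ye25 ze1) (ke xe18 ye32 ze24) (ke xe22 ye10 ze45) (ke xe32 ye27 ze26) (ke xe17 ye51 ze54) (ke xe27 ye20 ze37) (ke xe31 ye43 ze5) (ke xe30 ye3 ze39) (ke xe18 ye20 ze37) (ke xe17 ye51 ze59) (ke xe17 ye52 ze0) (ke xe25 ye49 ze0) (ke xe22 ye55 ze58) (ke xe29 ye57 ze11) (ke xe17 ye52 ze8) (ke xe27 ye39 ze1) (ke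 xe27 ye38 ze61) (ke xe18 ye34 ze50) (ke xe18 ye38 ze32) (ke xe26 ye13 ze15) (ke xe18 ye28 ze49) (ke xe25 ye58 ze40) (ke xe20 ye8 ze24) (ke xe22 ye28 ze50) (ke xe18 ye49 ze52) (ke xe28 ye1 ze11) (ke xe22 ye8 ze14) (ke xe18 ye17 ze50) (ke xe17 ye52 ze42) (ke xe31 ye13 ze2) (ke xe17 ye52 ze47) (ke xe31 ye34 ze19) (ke xe27 ye46 ze32) (ke xe29 ye55 ze45) (ke xe27 ye38 ze43)) (@D3.rec (fun _ => Pt) (ke xe29 ye20 ze29) (ke xe27 ye38 ze42) (ke xe18 ye13 ze49) (ke xe20 ye24 ze41) (ke xe25 ye24 ze41) (ke xe22 ye10 ze16) (ke xe18 ye40 ze38) (ke xe18 ye23 ze0) (ke xe17 ye53 ze2) (ke xe19 ye17 ze1) (ke xe26 ye15 ze27) (ke xe17 ye53 ze5) (ke xe25 ye49 ze49) (ke xe29 ye16 ze59) (ke xe17 ye57 ze1) (ke xe17 ye53 ze11) (ke xe26 ye8 ze17) (ke xe21 ye29 ze16) (ke xe25 ye52 ze31) (ke xe21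 ye57 ze29) (ke xe17 ye53 ze32) (ke xe28 ye48 ze52) (ke xe20 ye30 ze44) (ke xe28 ye25 ze55) (ke xe25 ye18 ze50) (ke xe30 ye0 ze19) (ke xe17 ye53 ze56) (ke xe27 ye20 ze33) (ke xe26 ye17 ze4) (ke xe18 ye13 ze60) (ke xe17 ye54 ze1) (ke xe17 ye54 ze3) (ke xe18 ye4 ze39) (ke xe28 ye4 ze8) (ke xe18 ye37 ze34) (ke xe26 ye16 ze15) (ke xe30 ye5 ze29) (ke xe25 ye13 ze33) (ke xe17 ye54 ze10) (ke xe23 ye51 ze1) (ke xe27 ye48 ze50) (ke xe17 ye54 ze17) (ke xe28 ye4 ze27) (ke xe31 ye8 ze14) (ke xe31 ye8 ze15) (ke xe24 ye54 ze49) (ke xe32 ye6 ze33) (ke xe17 ye54 ze15) (ke xe24 ye58 ze48) (ke xe31 ye1 ze22) (ke xe32 ye27 ze34) (ke xe32 ye7 ze46) (ke xe18 ye15 ze18) (ke xe17 ye54 ze19) (ke xe22 ye29 ze7) (ke xe20 ye6 ze8) (ke xe27 ye35 ze12) (ke xe32 ye27 ze36) (ke xe31 ye39 ze20) (ke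 xe17 ye54 ze21) (ke xe17 ye54 ze22) (ke xe31 ye32 ze38)) (@D3.rec (fun _ => Pt) (ke xe26 ye17 ze36) (ke xe22 ye50 ze3) (ke xe28 ye22 ze48) (ke xe18 ye14 ze28) (ke xe20 ye45 ze46) (ke xe32 ye27 ze39) (ke xe17 ye54 ze27) (ke xe31 ye42 ze46) (ke xe17 ye54 ze29) (ke xe26 ye4 ze37) (ke xe27 ye47 ze24) (ke xe18 ye30 ze17) (ke xe24 ye55 ze53) (ke xe22 ye49 ze37) (ke xe25 ye3 ze21) (ke xe27 ye31 ze61) (ke xe19 ye1 ze48) (ke xe18 ye19 ze30) (ke xe17 ye54 ze39) (ke xe24 ye55 ze31) (ke xe32 ye27 ze40) (ke xe32 ye25 ze30) (ke xe23 ye18 ze6) (ke xe17 ye54 ze43) (ke xe26 ye18 ze53) (ke xe17 ye54 ze50) (ke xe28 ye12 ze29) (ke xe21 ye57 ze23) (ke xe20 ye1 ze27) (ke xe18 ye37 ze15) (ke xe26 ye0 ze38) (ke xe22 ye38 ze60) (ke xe20 ye6 ze46) (ke xe22 ye51 ze34) (ke xe30 ye47 ze51) (ke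 xe17 ye55 ze6) (ke xe21 ye10 ze58) (ke xe17 ye55 ze10) (ke xe17 ye55 ze19) (ke xe17 ye55 ze20) (ke xe17 ye55 ze21) (ke xe31 ye2 ze51) (ke xe27 ye44 ze52) (ke xe18 ye2 ze50) (ke xe17 ye59 ze50) (ke xe21 ye30 ze5) (ke xe18 ye17 ze2) (ke xe29 ye27 ze14) (ke xe17 ye55 ze34) (ke xe17 ye55 ze43) (ke xe19 ye52 ze29) (ke xe21 ye31 ze61) (ke xe17 ye55 ze49) (ke xe23 ye37 ze8) (ke xe32 ye27 ze43) (ke xe30 ye41 ze34) (ke xe32 ye27 ze45) (ke xe32 ye27 ze41) (ke xe27 ye4 ze33) (ke xe23 ye42 ze42) (ke xe31 ye5 ze54) (ke xe30 ye41 ze38)) (@D3.rec (fun _ => Pt) (ke xe31 ye12 ze5) (ke xe17 ye56 ze0) (ke xe32 ye27 ze51) (ke xe17 ye56 ze3) (ke xe27 ye42 ze61) (ke xe18 ye17 ze6) (ke xe18 ye17 ze10) (ke xe17 ye58 ze26) (ke xe29 ye26 ze36) (ke xe18 ye40 ze25) (ke xe17 ye56 ze16) (ke xe30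 ye37 ze19) (ke xe20 ye26 ze23) (ke xe17 ye56 ze24) (ke xe29 ye37 ze41) (ke xe17 ye58 ze35) (ke xe18 ye1 ze52) (ke xe19 ye40 ze11) (ke xe18 ye1 ze58) (ke xe32 ye24 ze44) (ke xe17 ye56 ze27) (ke xe17 ye56 ze28) (ke xe29 ye21 ze44) (ke xe29 ye22 ze4) (ke xe31 ye57 ze49) (ke xe22 ye3 ze22) (ke xe26 ye46 ze30) (ke xe21 ye33 ze34) (ke xe29 ye10 ze56) (ke xe18 ye24 ze33) (ke xe21 ye1 ze7) (ke xe21 ye43 ze45) (ke xe21 ye49 ze34) (ke xe17 ye56 ze55) (ke xe24 ye58 ze36) (ke xe30 ye53 ze13) (ke xe17 ye56 ze56) (ke xe30 ye47 ze61) (ke xe32 ye27 ze53) (ke xe17 ye56 ze58) (ke xe27 ye30 ze21) (ke xe24 ye56 ze43) (ke xe27 ye42 ze2) (ke xe29 ye53 ze3) (ke xe32 ye7 ze41) (ke xe28 ye23 ze24) (ke xe17 ye57 ze7) (ke xe28 ye0 ze15) (ke xe17 ye57 ze11) (ke xe18 ye54 ze29) (ke xe17 ye57 ze16)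 (ke xe30 ye50 ze59) (ke xe17 ye57 ze17) (ke xe28 ye34 ze36) (ke xe31 ye50 ze30) (ke xe29 ye36 ze38) (ke xe17 ye57 ze18) (ke xe22 ye47 ze31) (ke xe26 ye24 ze19) (ke xe28 ye34 ze41) (ke xe25 ye50 ze51) (ke xe17 ye57 ze20)) (@D3.rec (fun _ => Pt) (ke xe17 ye57 ze22) (ke xe17 ye57 ze25) (ke xe27 ye41 ze42) (ke xe32 ye7 ze3) (ke xe21 ye12 ze14) (ke xe17 ye57 ze34) (ke xe19 ye57 ze24) (ke xe22 ye20 ze50) (ke xe25 ye12 ze4) (ke xe31 ye0 ze16) (ke xe31 ye6 ze9) (ke xe18 ye18 ze51) (ke xe17 ye57 ze41) (ke xe28 ye55 ze60) (ke xe24 ye53 ze8) (ke xe27 ye13 ze56) (ke xe20 ye22 ze34) (ke xe21 ye37 ze20) (ke xe28 ye1 ze38) (ke xe18 ye25 ze16) (ke xe31 ye58 ze51) (ke xe21 ye35 ze13) (ke xe32 ye27 ze58) (ke xe17 ye58 ze23) (ke xe17 ye58 ze25) (ke xe27 ye5 ze15) (ke xe22 ye19 ze22) (ke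 xe17 ye58 ze39) (ke xe17 ye58 ze44) (ke xe23 ye36 ze22) (ke xe24 ye3 ze39) (ke xe30 ye9 ze47) (ke xe32 ye27 ze60) (ke xe26 ye41 ze46) (ke xe29 ye56 ze55) (ke xe25 ye47 ze18) (ke xe31 ye53 ze26) (ke xe28 ye57 ze32) (ke xe32 ye2 ze23) (ke xe17 ye58 ze57) (ke xe20 ye43 ze36) (ke xe29 ye42 ze0) (ke xe17 ye58 ze61) (ke xe32 ye22 ze52) (ke xe17 ye59 ze6) (ke xe31 ye49 ze49) (ke xe30 ye14 ze14) (ke xe21 ye22 ze44) (ke xe18 ye32 ze29) (ke xe17 ye59 ze19) (ke xe31 ye29 ze2) (ke xe20 ye20 ze25) (ke xe29 ye55 ze56) (ke xe17 ye59 ze28) (ke xe27 ye11 ze55) (ke xe26 ye54 ze3) (ke xe19 ye33 ze56) (ke xe27 ye43 ze3) (ke xe29 ye39 ze47) (ke xe22 ye46 ze19) (ke xe31 ye0 ze18) (ke xe27 ye41 ze4)) (@D3.rec (fun _ => Pt) (ke xe28 ye12 ze43) (ke xe26 ye25 ze21) (ke xe30 ye24 ze20) (ke xe27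 ye42 ze57) (ke xe18 ye0 ze9) (ke xe22 ye7 ze51) (ke xe18 ye0 ze22) (ke xe27 ye27 ze38) (ke xe18 ye0 ze26) (ke xe29 ye21 ze10) (ke xe22 ye17 ze15) (ke xe21 ye35 ze44) (ke xe19 ye8 ze57) (ke xe21 ye44 ze59) (ke xe18 ye0 ze38) (ke xe23 ye1 ze9) (ke xe18 ye0 ze39) (ke xe21 ye54 ze54) (ke xe20 ye15 ze14) (ke xe22 ye20 ze47) (ke xe20 ye15 ze29) (ke xe18 ye1 ze7) (ke xe20 ye37 ze59) (ke xe18 ye1 ze15) (ke xe20 ye51 ze45) (ke xe28 ye42 ze60) (ke xe21 ye42 ze32) (ke xe30 ye18 ze16) (ke xe29 ye40 ze37) (ke xe29 ye10 ze21) (ke xe27 ye3 ze17) (ke xe21 ye32 ze45) (ke xe30 ye40 ze52) (ke xe23 ye41 ze50) (ke xe18 ye1 ze11) (ke xe18 ye1 ze14) (ke xe18 ye1 ze16) (ke xe30 ye17 ze12) (ke xe18 ye1 ze23) (ke xe27 ye4 ze0) (ke xe26 ye10 ze32) (ke xe24 ye22 ze36) (ke xe18 ye1 ze25) (ke xe26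 ye10 ze14) (ke xe18 ye1 ze26) (ke xe25 ye15 ze30) (ke xe24 ye34 ze49) (ke xe21 ye23 ze32) (ke xe18 ye1 ze37) (ke xe18 ye1 ze40) (ke xe20 ye2 ze58) (ke xe32 ye3 ze8) (ke xe21 ye39 ze32) (ke xe19 ye42 ze49) (ke xe32 ye3 ze22) (ke xe27 ye14 ze16) (ke xe19 ye35 ze41) (ke xe29 ye56 ze29) (ke xe25 ye5 ze1) (ke xe18 ye1 ze47) (ke xe18 ye1 ze48) (ke xe21 ye58 ze2)) (@D3.rec (fun _ => Pt) (ke xe27 ye31 ze37) (ke xe19 ye49 ze28) (ke xe25 ye34 ze5) (ke xe32 ye28 ze4) (ke xe25 ye4 ze47) (ke xe25 ye4 ze39) (ke xe18 ye1 ze53) (ke xe20 ye13 ze49) (ke xe31 ye56 ze5) (ke xe18 ye1 ze59) (ke xe18 ye1 ze60) (ke xe29 ye37 ze42) (ke xe20 ye24 ze28) (ke xe25 ye17 ze47) (ke xe19 ye10 ze5) (ke xe18 ye2 ze20) (ke xe25 ye17 ze22) (ke xe29 ye59 ze8) (ke xe24 ye57 ze61) (ke xe30 ye3 ze60) (ke xe26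 ye23 ze36) (ke xe18 ye2 ze32) (ke xe30 ye34 ze49) (ke xe18 ye2 ze34) (ke xe26 ye30 ze21) (ke xe26 ye31 ze54) (ke xe18 ye2 ze37) (ke xe26 ye3 ze13) (ke xe31 ye58 ze18) (ke xe19 ye18 ze31) (ke xe18 ye2 ze45) (ke xe23 ye35 ze17) (ke xe22 ye28 ze1) (ke xe21 ye25 ze33) (ke xe31 ye6 ze18) (ke xe24 ye5 ze6) (ke xe18 ye2 ze56) (ke xe26 ye6 ze60) (ke xe30 ye20 ze37) (ke xe18 ye2 ze59) (ke xe18 ye29 ze24) (ke xe28 ye0 ze33) (ke xe18 ye2 ze60) (ke xe24 ye27 ze41) (ke xe18 ye3 ze0) (ke xe29 ye44 ze57) (ke xe32 ye10 ze31) (ke xe26 ye41 ze29) (ke xe20 ye39 ze8) (ke xe23 ye29 ze38) (ke xe26 ye6 ze56) (ke xe18 ye3 ze5) (ke xe27 ye40 ze42) (ke xe23 ye24 ze56) (ke xe21 ye8 ze58) (ke xe32 ye6 ze21) (ke xe32 ye28 ze17) (ke xe18 ye3 ze15) (ke xe21 ye6 ze33) (ke xe21 ye6 ze24) (ke xe18 ye3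 ze16) (ke xe31 ye7 ze0)) (@D3.rec (fun _ => Pt) (ke xe18 ye30 ze12) (ke xe18 ye3 ze20) (ke xe31 ye38 ze25) (ke xe32 ye23 ze35) (ke xe30 ye32 ze40) (ke xe27 ye48 ze27) (ke xe18 ye3 ze25) (ke xe21 ye58 ze43) (ke xe18 ye3 ze27) (ke xe23 ye6 ze14) (ke xe18 ye6 ze32) (ke xe27 ye26 ze32) (ke xe31 ye38 ze23) (ke xe24 ye56 ze21) (ke xe19 ye22 ze26) (ke xe21 ye31 ze25) (ke xe22 ye14 ze53) (ke xe27 ye5 ze46) (ke xe18 ye3 ze43) (ke xe27 ye24 ze54) (ke xe29 ye23 ze26) (ke xe24 ye55 ze48) (ke xe30 ye3 ze47) (ke xe18 ye7 ze25) (ke xe18 ye7 ze28) (ke xe21 ye58 ze31) (ke xe26 ye15 ze24) (ke xe25 ye0 ze54) (ke xe25 ye0 ze55) (ke xe24 ye30 ze53) (ke xe32 ye6 ze45) (ke xe24 ye44 ze43) (ke xe18 ye3 ze51) (ke xe25 ye3 ze32) (ke xe18 ye6 ze59) (ke xe18 ye3 ze56) (ke xe18 ye3 ze57) (ke xe28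 ye3 ze49) (ke xe22 ye15 ze9) (ke xe27 ye31 ze7) (ke xe18 ye3 ze60) (ke xe23 ye44 ze34) (ke xe18 ye4 ze1) (ke xe25 ye1 ze7) (ke xe25 ye29 ze15) (ke xe26 ye45 ze42) (ke xe27 ye31 ze6) (ke xe25 ye3 ze27) (ke xe21 ye45 ze29) (ke xe31 ye37 ze20) (ke xe31 ye37 ze18) (ke xe30 ye58 ze49) (ke xe25 ye29 ze41) (ke xe25 ye3 ze40) (ke xe27 ye28 ze45) (ke xe22 ye46 ze4) (ke xe27 ye48 ze43) (ke xe23 ye51 ze61) (ke xe30 ye45 ze46) (ke xe18 ye4 ze19) (ke xe24 ye29 ze27) (ke xe28 ye4 ze28)) (@D3.rec (fun _ => Pt) (ke xe29 ye54 ze13) (ke xe29 ye17 ze29) (ke xe23 ye33 ze58) (ke xe18 ye4 ze33) (ke xe26 ye14 ze11) (ke xe28 ye2 ze18) (ke xe18 ye5 ze11) (ke xe31 ye42 ze49) (ke xe24 ye47 ze44) (ke xe30 ye35 ze33) (ke xe26 ye15 ze51) (ke xe31 ye14 ze48) (ke xe30 ye5 ze25) (ke xe18 ye4 ze44)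 (ke xe31 ye14 ze20) (ke xe18 ye9 ze57) (ke xe25 ye32 ze59) (ke xe26 ye11 ze29) (ke xe32 ye25 ze2) (ke xe25 ye45 ze59) (ke xe32 ye6 ze55) (ke xe28 ye1 ze55) (ke xe24 ye53 ze48) (ke xe27 ye12 ze28) (ke xe18 ye4 ze57) (ke xe26 ye13 ze18) (ke xe19 ye18 ze48) (ke xe22 ye15 ze35) (ke xe25 ye53 ze54) (ke xe22 ye8 ze58) (ke xe21 ye19 ze60) (ke xe18 ye5 ze5) (ke xe27 ye38 ze59) (ke xe32 ye24 ze11) (ke xe18 ye5 ze13) (ke xe18 ye52 ze38) (ke xe26 ye48 ze17) (ke xe32 ye25 ze15) (ke xe27 ye27 ze53) (ke xe18 ye5 ze21) (ke xe26 ye12 ze41) (ke xe26 ye12 ze10) (ke xe25 ye10 ze2) (ke xe21 ye25 ze7) (ke xe30 ye12 ze60) (ke xe18 ye5 ze27) (ke xe26 ye12 ze38) (ke xe28 ye42 ze54) (ke xe18 ye5 ze28) (ke xe21 ye6 ze31) (ke xe18 ye5 ze33) (ke xe25 ye27 ze60) (ke xe30 ye8 ze32) (ke xe20 ye2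 ze32) (ke xe18 ye5 ze44) (ke xe31 ye49 ze25) (ke xe22 ye50 ze49) (ke xe18 ye5 ze43) (ke xe27 ye23 ze9) (ke xe18 ye5 ze45) (ke xe25 ye53 ze52) (ke xe29 ye12 ze46)) (@D3.rec (fun _ => Pt) (ke xe28 ye3 ze3) (ke xe18 ye5 ze47) (ke xe20 ye11 ze45) (ke xe32 ye28 ze29) (ke xe18 ye5 ze52) (ke xe25 ye45 ze61) (ke xe18 ye5 ze53) (ke xe18 ye5 ze56) (ke xe30 ye25 ze38) (ke xe18 ye5 ze57) (ke xe22 ye8 ze59) (ke xe25 ye3 ze16) (ke xe25 ye27 ze52) (ke xe28 ye9 ze61) (ke xe27 ye56 ze7) (ke xe25 ye3 ze25) (ke xe29 ye51 ze31) (ke xe31 ye1 ze32) (ke xe31 ye45 ze13) (ke xe24 ye55 ze59) (ke xe18 ye6 ze11) (ke xe27 ye28 ze9) (ke xe21 ye34 ze14) (ke xe27 ye47 ze26) (ke xe27 ye40 ze10) (ke xe25 ye2 ze59) (ke xe27 ye47 ze23) (ke xe25 ye49 ze60) (ke xe27 ye58 ze4) (ke xe18 ye6 ze28) (ke xe30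 ye1 ze16) (ke xe31 ye38 ze27) (ke xe27 ye48 ze53) (ke xe25 ye3 ze20) (ke xe24 ye57 ze31) (ke xe30 ye5 ze27) (ke xe24 ye47 ze49) (ke xe18 ye6 ze42) (ke xe32 ye28 ze32) (ke xe32 ye3 ze56) (ke xe32 ye28 ze33) (ke xe18 ye6 ze43) (ke xe21 ye24 ze24) (ke xe30 ye23 ze19) (ke xe23 ye21 ze28) (ke xe18 ye6 ze49) (ke xe24 ye41 ze58) (ke xe31 ye16 ze58) (ke xe18 ye6 ze52) (ke xe26 ye30 ze19) (ke xe26 ye31 ze6) (ke xe21 ye14 ze59) (ke xe18 ye6 ze53) (ke xe29 ye53 ze10) (ke xe31 ye39 ze22) (ke xe25 ye34 ze32) (ke xe18 ye19 ze18) (ke xe18 ye27 ze41) (ke xe18 ye7 ze3) (ke xe21 ye25 ze4) (ke xe24 ye55 ze43) (ke xe18 ye7 ze14)) (@D3.rec (fun _ => Pt) (ke xe18 ye7 ze24) (ke xe27 ye5 ze45) (ke xe28 ye3 ze48) (ke xe22 ye12 ze45) (ke xe32 ye7 ze30) (ke xe30 ye6 ze31) (ke xe18 ye7 ze26) (ke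 xe22 ye15 ze8) (ke xe18 ye7 ze36) (ke xe29 ye22 ze35) (ke xe28 ye3 ze50) (ke xe30 ye3 ze53) (ke xe21 ye25 ze61) (ke xe26 ye29 ze54) (ke xe19 ye2 ze4) (ke xe29 ye50 ze31) (ke xe18 ye7 ze51) (ke xe21 ye4 ze60) (ke xe18 ye7 ze55) (ke xe27 ye20 ze8) (ke xe26 ye16 ze46) (ke xe27 ye30 ze38) (ke xe21 ye23 ze27) (ke xe23 ye38 ze61) (ke xe26 ye15 ze46) (ke xe18 ye8 ze6) (ke xe23 ye51 ze47) (ke xe27 ye45 ze5) (ke xe18 ye8 ze7) (ke xe22 ye35 ze11) (ke xe31 ye7 ze21) (ke xe21 ye55 ze41) (ke xe21 ye26 ze49) (ke xe18 ye8 ze15) (ke xe18 ye8 ze17) (ke xe30 ye1 ze9) (ke xe27 ye26 ze38) (ke xe19 ye49 ze30) (ke xe31 ye38 ze34) (ke xe30 ye8 ze42) (ke xe32 ye28 ze30) (ke xe24 ye57 ze41) (ke xe24 ye45 ze35) (ke xe27 ye45 ze56) (ke xe23 ye34 ze50) (ke xe25 ye15 ze45) (ke xe30 ye35 ze22) (ke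 xe27 ye30 ze56) (ke xe29 ye29 ze54) (ke xe18 ye8 ze30) (ke xe27 ye39 ze40) (ke xe23 ye3 ze10) (ke xe25 ye2 ze61) (ke xe27 ye47 ze32) (ke xe26 ye13 ze32) (ke xe31 ye38 ze29) (ke xe18 ye8 ze45) (ke xe18 ye27 ze26) (ke xe18 ye8 ze39) (ke xe24 ye44 ze57) (ke xe26 ye13 ze34) (ke xe29 ye54 ze32)) (@D3.rec (fun _ => Pt) (ke xe18 ye8 ze40) (ke xe18 ye12 ze44) (ke xe18 ye8 ze43) (ke xe18 ye8 ze44) (ke xe32 ye6 ze24) (ke xe28 ye6 ze8) (ke xe28 ye25 ze52) (ke xe19 ye18 ze51) (ke xe29 ye54 ze14) (ke xe27 ye28 ze49) (ke xe23 ye49 ze50) (ke xe18 ye8 ze53) (ke xe18 ye8 ze54) (ke xe31 ye42 ze30) (ke xe22 ye49 ze46) (ke xe26 ye15 ze38) (ke xe18 ye12 ze26) (ke xe32 ye28 ze42) (ke xe18 ye8 ze57) (ke xe29 ye16 ze10) (ke xe28 ye6 ze50) (ke xe29 ye20 ze55) (ke xe32 ye27 ze1) (ke xe30 ye50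 ze9) (ke xe27 ye59 ze14) (ke xe32 ye17 ze14) (ke xe28 ye21 ze58) (ke xe18 ye9 ze5) (ke xe18 ye11 ze35) (ke xe28 ye6 ze18) (ke xe27 ye50 ze58) (ke xe28 ye7 ze11) (ke xe18 ye9 ze9) (ke xe23 ye50 ze32) (ke xe32 ye26 ze9) (ke xe32 ye7 ze60) (ke xe28 ye36 ze22) (ke xe18 ye35 ze29) (ke xe27 ye54 ze36) (ke xe32 ye28 ze49) (ke xe18 ye9 ze13) (ke xe20 ye10 ze12) (ke xe18 ye32 ze61) (ke xe18 ye9 ze19) (ke xe31 ye25 ze61) (ke xe29 ye53 ze58) (ke xe18 ye9 ze21) (ke xe18 ye9 ze22) (ke xe32 ye28 ze53) (ke xe18 ye9 ze23) (ke xe30 ye5 ze0) (ke xe32 ye28 ze54) (ke xe18 ye12 ze13) (ke xe18 ye9 ze25) (ke xe31 ye14 ze23) (ke xe28 ye7 ze29) (ke xe18 ye9 ze28) (ke xe18 ye9 ze30) (ke xe18 ye9 ze31) (ke xe18 ye9 ze32) (ke xe22 ye18 ze9) (ke xe29 ye20 ze28)) (@D3.rec (fun _ => Pt) (ke xe18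 ye9 ze36) (ke xe28 ye7 ze36) (ke xe27 ye55 ze20) (ke xe18 ye35 ze28) (ke xe32 ye28 ze61) (ke xe31 ye2 ze4) (ke xe18 ye9 ze35) (ke xe18 ye9 ze37) (ke xe21 ye12 ze44) (ke xe28 ye6 ze3) (ke xe29 ye25 ze16) (ke xe32 ye29 ze2) (ke xe18 ye9 ze43) (ke xe18 ye9 ze44) (ke xe32 ye27 ze44) (ke xe29 ye54 ze23) (ke xe18 ye9 ze46) (ke xe28 ye7 ze38) (ke xe18 ye9 ze47) (ke xe28 ye6 ze16) (ke xe28 ye25 ze44) (ke xe18 ye12 ze36) (ke xe31 ye42 ze32) (ke xe31 ye43 ze33) (ke xe18 ye9 ze54) (ke xe18 ye9 ze55) (ke xe18 ye11 ze41) (ke xe32 ye29 ze7) (ke xe30 ye45 ze60) (ke xe20 ye45 ze44) (ke xe18 ye10 ze3) (ke xe32 ye25 ze31) (ke xe31 ye59 ze30) (ke xe18 ye10 ze4) (ke xe18 ye10 ze7) (ke xe28 ye7 ze7) (ke xe28 ye6 ze34) (ke xe27 ye31 ze12) (ke xe18 ye10 ze10) (ke xe27 ye56 ze34) (ke xe32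 ye29 ze10) (ke xe28 ye7 ze5) (ke xe23 ye34 ze20) (ke xe18 ye10 ze30) (ke xe28 ye19 ze30) (ke xe28 ye15 ze19) (ke xe23 ye12 ze35) (ke xe18 ye10 ze34) (ke xe28 ye36 ze28) (ke xe29 ye38 ze49) (ke xe18 ye10 ze37) (ke xe19 ye11 ze33) (ke xe30 ye56 ze3) (ke xe18 ye10 ze40) (ke xe18 ye10 ze42) (ke xe18 ye10 ze43) (ke xe32 ye29 ze6) (ke xe28 ye6 ze56) (ke xe27 ye49 ze30) (ke xe29 ye48 ze51) (ke xe18 ye10 ze50) (ke xe18 ye12 ze37)) (@D3.rec (fun _ => Pt) (ke xe24 ye48 ze6) (ke xe31 ye25 ze20) (ke xe28 ye7 ze61) (ke xe27 ye29 ze21) (ke xe21 ye45 ze3) (ke xe19 ye44 ze13) (ke xe27 ye58 ze41) (ke xe26 ye18 ze21) (ke xe27 ye37 ze43) (ke xe26 ye4 ze31) (ke xe29 ye32 ze50) (ke xe31 ye43 ze32) (ke xe18 ye10 ze60) (ke xe32 ye6 ze46) (ke xe32 ye29 ze13) (ke xe18 ye10 ze61) (ke xe18 ye16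 ze13) (ke xe19 ye44 ze14) (ke xe28 ye45 ze37) (ke xe19 ye9 ze25) (ke xe28 ye8 ze2) (ke xe28 ye8 ze3) (ke xe18 ye11 ze12) (ke xe28 ye6 ze33) (ke xe20 ye19 ze5) (ke xe30 ye53 ze5) (ke xe18 ye11 ze15) (ke xe30 ye34 ze57) (ke xe18 ye11 ze16) (ke xe29 ye20 ze53) (ke xe32 ye9 ze37) (ke xe27 ye52 ze5) (ke xe28 ye46 ze57) (ke xe31 ye16 ze42) (ke xe25 ye47 ze54) (ke xe29 ye21 ze37) (ke xe18 ye11 ze20) (ke xe24 ye12 ze34) (ke xe31 ye56 ze48) (ke xe31 ye48 ze38) (ke xe18 ye11 ze21) (ke xe32 ye25 ze52) (ke xe32 ye29 ze21) (ke xe18 ye11 ze22) (ke xe21 ye12 ze7) (ke xe18 ye11 ze23) (ke xe28 ye16 ze58) (ke xe32 ye29 ze26) (ke xe22 ye53 ze30) (ke xe18 ye11 ze24) (ke xe28 ye5 ze57) (ke xe32 ye10 ze9) (ke xe27 ye53 ze0) (ke xe32 ye29 ze29) (ke xe18 ye11 ze27) (ke xe27 ye54 ze52) (ke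 xe32 ye29 ze3) (ke xe22 ye18 ze14) (ke xe18 ye11 ze28) (ke xe18 ye11 ze29) (ke xe18 ye11 ze31) (ke xe28 ye17 ze61)) (@D3.rec (fun _ => Pt) (ke xe32 ye29 ze32) (ke xe18 ye11 ze34) (ke xe28 ye5 ze0) (ke xe28 ye25 ze47) (ke xe18 ye16 ze49) (ke xe27 ye51 ze31) (ke xe32 ye8 ze1) (ke xe32 ye28 ze48) (ke xe18 ye11 ze36) (ke xe32 ye29 ze33) (ke xe18 ye11 ze37) (ke xe18 ye11 ze38) (ke xe31 ye14 ze60) (ke xe28 ye7 ze9) (ke xe29 ye19 ze46) (ke xe27 ye34 ze2) (ke xe26 ye32 ze41) (ke xe22 ye20 ze18) (ke xe18 ye11 ze43) (ke xe28 ye5 ze17) (ke xe32 ye6 ze48) (ke xe32 ye29 ze41) (ke xe28 ye7 ze17) (ke xe32 ye28 ze51) (ke xe18 ye11 ze47) (ke xe26 ye18 ze4) (ke xe32 ye5 ze59) (ke xe18 ye11 ze48) (ke xe18 ye11 ze49) (ke xe31 ye59 ze50) (ke xe23 ye8 ze43) (ke xe18 ye11 ze50) (ke xe32 ye25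 ze38) (ke xe27 ye25 ze52) (ke xe31 ye25 ze32) (ke xe32 ye23 ze15) (ke xe18 ye11 ze53) (ke xe20 ye10 ze44) (ke xe32 ye29 ze46) (ke xe20 ye10 ze58) (ke xe23 ye50 ze30) (ke xe18 ye11 ze55) (ke xe18 ye11 ze56) (ke xe29 ye31 ze60) (ke xe20 ye11 ze15) (ke xe27 ye55 ze14) (ke xe27 ye33 ze59) (ke xe19 ye20 ze51) (ke xe18 ye12 ze2) (ke xe32 ye29 ze49) (ke xe18 ye12 ze5) (ke xe28 ye7 ze27) (ke xe18 ye12 ze7) (ke xe28 ye4 ze46) (ke xe18 ye12 ze9) (ke xe30 ye21 ze1) (ke xe24 ye48 ze28) (ke xe18 ye12 ze11) (ke xe32 ye29 ze53) (ke xe32 ye29 ze55) (ke xe18 ye12 ze14) (ke xe18 ye34 ze3)) (@D3.rec (fun _ => Pt) (ke xe27 ye51 ze52) (ke xe32 ye1 ze32) (ke xe28 ye8 ze41) (ke xe18 ye12 ze16) (ke xe28 ye4 ze49) (ke xe32 ye29 ze56) (ke xe18 ye12 ze17) (ke xe18 ye12 ze24) (ke xe18 ye33 ze60)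 (ke xe28 ye6 ze2) (ke xe21 ye11 ze58) (ke xe26 ye31 ze59) (ke xe32 ye29 ze58) (ke xe18 ye12 ze23) (ke xe32 ye28 ze41) (ke xe30 ye48 ze4) (ke xe18 ye12 ze27) (ke xe32 ye29 ze4) (ke xe28 ye7 ze15) (ke xe27 ye34 ze41) (ke xe30 ye49 ze49) (ke xe18 ye12 ze39) (ke xe32 ye30 ze0) (ke xe20 ye28 ze22) (ke xe26 ye16 ze19) (ke xe29 ye32 ze53) (ke xe28 ye7 ze59) (ke xe27 ye37 ze45) (ke xe26 ye47 ze1) (ke xe18 ye12 ze51) (ke xe18 ye43 ze37) (ke xe18 ye12 ze55) (ke xe20 ye17 ze7) (ke xe32 ye30 ze2) (ke xe18 ye12 ze59) (ke xe20 ye3 ze44) (ke xe18 ye13 ze4) (ke xe18 ye13 ze5) (ke xe31 ye42 ze54) (ke xe32 ye30 ze3) (ke xe32 ye30 ze4) (ke xe21 ye48 ze55) (ke xe18 ye13 ze8) (ke xe32 ye27 ze12) (ke xe32 ye28 ze58) (ke xe18 ye13 ze11) (ke xe18 ye14 ze43) (ke xe18 ye13 ze13) (ke xe18 ye13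 ze14) (ke xe18 ye13 ze15) (ke xe18 ye13 ze18) (ke xe18 ye32 ze60) (ke xe20 ye10 ze51) (ke xe32 ye2 ze39) (ke xe18 ye13 ze22) (ke xe32 ye30 ze9) (ke xe28 ye9 ze27) (ke xe18 ye13 ze25) (ke xe25 ye54 ze45) (ke xe18 ye13 ze30) (ke xe18 ye13 ze31) (ke xe28 ye46 ze32)) (@D3.rec (fun _ => Pt) (ke xe27 ye32 ze11) (ke xe26 ye39 ze10) (ke xe24 ye54 ze55) (ke xe18 ye13 ze35) (ke xe18 ye13 ze36) (ke xe32 ye13 ze54) (ke xe19 ye42 ze23) (ke xe27 ye34 ze59) (ke xe28 ye46 ze55) (ke xe27 ye33 ze48) (ke xe18 ye13 ze41) (ke xe31 ye7 ze42) (ke xe18 ye13 ze47) (ke xe32 ye27 ze35) (ke xe27 ye35 ze32) (ke xe27 ye35 ze1) (ke xe18 ye15 ze21) (ke xe19 ye10 ze39) (ke xe26 ye17 ze18) (ke xe26 ye5 ze58) (ke xe22 ye3 ze44) (ke xe22 ye29 ze34) (ke xe27 ye34 ze40) (ke xe27 ye5 ze60) (ke xe20 ye44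 ze60) (ke xe26 ye16 ze16) (ke xe28 ye6 ze52) (ke xe18 ye13 ze61) (ke xe30 ye52 ze56) (ke xe19 ye1 ze0) (ke xe26 ye21 ze4) (ke xe20 ye15 ze20) (ke xe21 ye47 ze11) (ke xe18 ye16 ze54) (ke xe32 ye28 ze59) (ke xe18 ye14 ze19) (ke xe27 ye49 ze38) (ke xe18 ye14 ze20) (ke xe32 ye8 ze27) (ke xe28 ye8 ze52) (ke xe32 ye30 ze14) (ke xe22 ye7 ze23) (ke xe18 ye34 ze57) (ke xe25 ye48 ze9) (ke xe30 ye54 ze2) (ke xe28 ye36 ze11) (ke xe28 ye36 ze20) (ke xe31 ye15 ze22) (ke xe24 ye53 ze51) (ke xe18 ye14 ze34) (ke xe30 ye21 ze2) (ke xe18 ye14 ze36) (ke xe27 ye51 ze55) (ke xe18 ye14 ze38) (ke xe30 ye24 ze13) (ke xe18 ye14 ze39) (ke xe18 ye14 ze40) (ke xe28 ye8 ze13) (ke xe31 ye53 ze21) (ke xe18 ye14 ze44) (ke xe28 ye8 ze36) (ke xe25 ye46 ze6)) (@D3.rec (fun _ => Pt) (ke xe22 ye29 ze30)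 (ke xe31 ye7 ze51) (ke xe18 ye31 ze36) (ke xe25 ye54 ze36) (ke xe24 ye12 ze43) (ke xe24 ye12 ze19) (ke xe18 ye14 ze47) (ke xe28 ye19 ze4) (ke xe32 ye30 ze21) (ke xe18 ye31 ze16) (ke xe25 ye48 ze5) (ke xe27 ye24 ze7) (ke xe26 ye4 ze22) (ke xe18 ye14 ze49) (ke xe27 ye52 ze45) (ke xe26 ye20 ze57) (ke xe29 ye20 ze23) (ke xe18 ye14 ze53) (ke xe32 ye19 ze57) (ke xe18 ye14 ze56) (ke xe27 ye50 ze2) (ke xe28 ye8 ze58) (ke xe18 ye32 ze18) (ke xe28 ye8 ze59) (ke xe29 ye20 ze5) (ke xe25 ye46 ze0) (ke xe18 ye15 ze0) (ke xe18 ye15 ze1) (ke xe32 ye0 ze3) (ke xe32 ye30 ze27) (ke xe18 ye15 ze5) (ke xe18 ye15 ze6) (ke xe31 ye16 ze43) (ke xe28 ye9 ze14) (ke xe32 ye30 ze28) (ke xe27 ye34 ze25) (ke xe29 ye18 ze28) (ke xe19 ye48 ze55) (ke xe22 ye3 ze6) (ke xe29 ye22 ze53) (ke xe18 ye15 ze32)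 (ke xe18 ye15 ze41) (ke xe25 ye59 ze38) (ke xe30 ye36 ze22) (ke xe18 ye15 ze47) (ke xe30 ye32 ze9) (ke xe19 ye21 ze18) (ke xe18 ye15 ze55) (ke xe27 ye58 ze46) (ke xe18 ye15 ze58) (ke xe28 ye0 ze12) (ke xe19 ye55 ze55) (ke xe22 ye30 ze49) (ke xe23 ye11 ze40) (ke xe18 ye42 ze21) (ke xe26 ye27 ze48) (ke xe21 ye49 ze38) (ke xe27 ye10 ze41) (ke xe25 ye28 ze57) (ke xe28 ye9 ze59) (ke xe21 ye51 ze7) (ke xe19 ye5 ze26)) (@D3.rec (fun _ => Pt) (ke xe26 ye52 ze17) (ke xe20 ye12 ze16) (ke xe23 ye35 ze44) (ke xe21 ye25 ze44) (ke xe18 ye16 ze33) (ke xe18 ye16 ze34) (ke xe18 ye16 ze36) (ke xe27 ye47 ze14) (ke xe18 ye16 ze48) (ke xe18 ye16 ze52) (ke xe29 ye59 ze55) (ke xe27 ye1 ze42) (ke xe18 ye16 ze58) (ke xe21 ye31 ze51) (ke xe32 ye21 ze57) (ke xe26 ye20 ze48) (ke xe29 ye55 ze33)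 (ke xe22 ye15 ze12) (ke xe25 ye43 ze10) (ke xe32 ye27 ze2) (ke xe18 ye17 ze19) (ke xe18 ye17 ze20) (ke xe18 ye17 ze21) (ke xe22 ye16 ze55) (ke xe18 ye17 ze23) (ke xe19 ye17 ze38) (ke xe29 ye40 ze46) (ke xe29 ye42 ze51) (ke xe28 ye36 ze16) (ke xe32 ye30 ze24) (ke xe30 ye41 ze23) (ke xe32 ye30 ze32) (ke xe18 ye17 ze35) (ke xe18 ye30 ze42) (ke xe27 ye50 ze39) (ke xe32 ye30 ze38) (ke xe18 ye32 ze22) (ke xe30 ye14 ze10) (ke xe26 ye59 ze6) (ke xe25 ye36 ze61) (ke xe25 ye44 ze45) (ke xe29 ye11 ze50) (ke xe28 ye53 ze20) (ke xe23 ye59 ze35) (ke xe30 ye52 ze23) (ke xe30 ye32 ze51) (ke xe32 ye9 ze54) (ke xe19 ye54 ze42) (ke xe18 ye18 ze2) (ke xe18 ye18 ze3) (ke xe29 ye6 ze27) (ke xe18 ye18 ze7) (ke xe28 ye0 ze31) (ke xe32 ye15 ze58) (ke xe32 ye15 ze59) (ke xe22 ye21 ze17) (ke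 xe24 ye17 ze34) (ke xe23 ye31 ze43) (ke xe18 ye18 ze11) (ke xe29 ye9 ze61) (ke xe28 ye0 ze39) (ke xe18 ye18 ze15)) (@D3.rec (fun _ => Pt) (ke xe18 ye18 ze16) (ke xe26 ye37 ze27) (ke xe32 ye30 ze40) (ke xe18 ye18 ze19) (ke xe31 ye7 ze5) (ke xe23 ye46 ze56) (ke xe28 ye11 ze29) (ke xe31 ye3 ze8) (ke xe21 ye28 ze14) (ke xe28 ye11 ze36) (ke xe31 ye7 ze14) (ke xe23 ye19 ze58) (ke xe18 ye18 ze28) (ke xe24 ye59 ze48) (ke xe18 ye18 ze29) (ke xe18 ye18 ze31) (ke xe32 ye28 ze14) (ke xe18 ye18 ze34) (ke xe23 ye2 ze46) (ke xe18 ye18 ze35) (ke xe31 ye58 ze23) (ke xe20 ye24 ze30) (ke xe18 ye18 ze38) (ke xe30 ye3 ze6) (ke xe23 ye59 ze14) (ke xe19 ye49 ze16) (ke xe21 ye11 ze45) (ke xe23 ye37 ze41) (ke xe18 ye18 ze48) (ke xe28 ye12 ze13) (ke xe23 ye2 ze11) (ke xe27 ye58 ze37) (ke xe30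 ye13 ze32) (ke xe30 ye13 ze34) (ke xe18 ye18 ze52) (ke xe22 ye49 ze19) (ke xe18 ye18 ze54) (ke xe20 ye30 ze55) (ke xe25 ye16 ze1) (ke xe29 ye14 ze59) (ke xe18 ye18 ze57) (ke xe30 ye57 ze49) (ke xe18 ye18 ze59) (ke xe22 ye53 ze44) (ke xe30 ye56 ze15) (ke xe23 ye15 ze21) (ke xe28 ye26 ze48) (ke xe18 ye18 ze61) (ke xe18 ye19 ze2) (ke xe26 ye26 ze23) (ke xe20 ye52 ze22) (ke xe28 ye0 ze27) (ke xe23 ye4 ze41) (ke xe28 ye0 ze29) (ke xe22 ye30 ze27) (ke xe18 ye19 ze7) (ke xe18 ye19 ze8) (ke xe22 ye31 ze38) (ke xe23 ye21 ze32) (ke xe18 ye19 ze11) (ke xe18 ye19 ze15) (ke xe31 ye45 ze1)) (@D3.rec (fun _ => Pt) (ke xe24 ye23 ze22) (ke xe23 ye21 ze33) (ke xe23 ye33 ze14) (ke xe21 ye14 ze33) (ke xe27 ye47 ze28) (ke xe23 ye29 ze35) (ke xe29 ye9 ze58) (ke xe23 ye38 ze28) (ke xe22 ye43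 ze41) (ke xe31 ye2 ze49) (ke xe22 ye51 ze13) (ke xe21 ye14 ze15) (ke xe30 ye1 ze53) (ke xe30 ye10 ze18) (ke xe18 ye19 ze24) (ke xe27 ye58 ze52) (ke xe18 ye19 ze31) (ke xe26 ye32 ze46) (ke xe26 ye49 ze53) (ke xe26 ye26 ze12) (ke xe18 ye22 ze6) (ke xe21 ye4 ze13) (ke xe22 ye28 ze46) (ke xe20 ye30 ze23) (ke xe20 ye20 ze1) (ke xe23 ye34 ze9) (ke xe18 ye19 ze39) (ke xe18 ye19 ze41) (ke xe29 ye0 ze39) (ke xe18 ye19 ze46) (ke xe26 ye27 ze44) (ke xe29 ye31 ze58) (ke xe22 ye18 ze35) (ke xe18 ye19 ze47) (ke xe26 ye29 ze25) (ke xe29 ye20 ze4) (ke xe18 ye21 ze47) (ke xe27 ye57 ze31) (ke xe30 ye12 ze34) (ke xe24 ye9 ze23) (ke xe22 ye51 ze1) (ke xe27 ye51 ze6) (ke xe22 ye57 ze36) (ke xe29 ye11 ze39) (ke xe28 ye12 ze57) (ke xe18 ye20 ze8) (ke xe27 ye55 ze48) (ke xe30 ye32 ze54) (ke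 xe29 ye14 ze49) (ke xe21 ye28 ze45) (ke xe18 ye20 ze6) (ke xe23 ye18 ze35) (ke xe27 ye58 ze15) (ke xe24 ye59 ze17) (ke xe27 ye32 ze14) (ke xe18 ye20 ze12) (ke xe27 ye21 ze16) (ke xe29 ye2 ze30) (ke xe23 ye23 ze54) (ke xe18 ye20 ze15) (ke xe22 ye53 ze10) (ke xe22 ye53 ze29)) (@D3.rec (fun _ => Pt) (ke xe18 ye20 ze17) (ke xe32 ye30 ze50) (ke xe27 ye8 ze49) (ke xe25 ye51 ze27) (ke xe18 ye20 ze21) (ke xe28 ye11 ze5) (ke xe30 ye29 ze61) (ke xe27 ye6 ze55) (ke xe32 ye30 ze51) (ke xe22 ye18 ze60) (ke xe18 ye20 ze26) (ke xe25 ye36 ze30) (ke xe18 ye20 ze27) (ke xe21 ye35 ze22) (ke xe27 ye49 ze24) (ke xe19 ye20 ze7) (ke xe29 ye51 ze55) (ke xe28 ye11 ze7) (ke xe18 ye22 ze20) (ke xe18 ye20 ze43) (ke xe18 ye22 ze18) (ke xe28 ye11 ze12) (ke xe28 ye11 ze10) (ke xe23 ye7 ze18) (ke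 xe20 ye38 ze12) (ke xe28 ye44 ze9) (ke xe21 ye49 ze61) (ke xe18 ye20 ze54) (ke xe24 ye30 ze38) (ke xe21 ye46 ze0) (ke xe25 ye47 ze55) (ke xe19 ye5 ze1) (ke xe19 ye26 ze11) (ke xe26 ye15 ze8) (ke xe18 ye21 ze0) (ke xe24 ye31 ze1) (ke xe18 ye21 ze9) (ke xe30 ye30 ze56) (ke xe18 ye21 ze12) (ke xe28 ye55 ze43) (ke xe18 ye21 ze14) (ke xe22 ye59 ze43) (ke xe18 ye21 ze16) (ke xe29 ye28 ze26) (ke xe18 ye44 ze22) (ke xe18 ye21 ze20) (ke xe28 ye13 ze10) (ke xe20 ye41 ze48) (ke xe28 ye1 ze36) (ke xe18 ye21 ze19) (ke xe23 ye40 ze35) (ke xe27 ye34 ze57) (ke xe19 ye12 ze54) (ke xe18 ye48 ze24) (ke xe18 ye21 ze24) (ke xe26 ye50 ze6) (ke xe18 ye21 ze32) (ke xe31 ye14 ze24) (ke xe18 ye21 ze33) (ke xe20 ye33 ze2) (ke xe18 ye21 ze40) (ke xe29 ye7 ze14))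
def f_e_28 : D2 → D3 → Pt := @D2.rec (fun _ => D3 → Pt) (@D3.rec (fun _ => Pt) (ke xe18 ye21 ze45) (ke xe26 ye49 ze50) (ke xe18 ye21 ze48) (ke xe18 ye21 ze52) (ke xe18 ye21 ze57) (ke xe28 ye10 ze44) (ke xe26 ye19 ze9) (ke xe30 ye48 ze25) (ke xe32 ye8 ze8) (ke xe20 ye37 ze6) (ke xe18 ye22 ze4) (ke xe20 ye37 ze26) (ke xe27 ye55 ze50) (ke xe22 ye50 ze13) (ke xe18 ye22 ze1) (ke xe27 ye41 ze47) (ke xe18 ye22 ze3) (ke xe24 ye7 ze20) (ke xe32 ye18 ze54) (ke xe28 ye35 ze55) (ke xe18 ye22 ze7) (ke xe19 ye32 ze7) (ke xe19 ye31 ze49) (ke xe32 ye30 ze58) (ke xe18 ye22 ze17) (ke xe18 ye22 ze34) (ke xe26 ye55 ze11) (ke xe27 ye57 ze51) (ke xe29 ye50 ze0) (ke xe27 ye57 ze53) (ke xe19 ye5 ze45) (ke xe27 ye56 ze52) (ke xe29 ye42 ze42) (ke xe27 ye44 ze41) (ke xe26 ye49 ze46) (ke xe23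 ye21 ze17) (ke xe30 ye3 ze2) (ke xe21 ye10 ze15) (ke xe22 ye10 ze37) (ke xe27 ye56 ze60) (ke xe18 ye23 ze7) (ke xe28 ye26 ze26) (ke xe23 ye53 ze31) (ke xe29 ye38 ze54) (ke xe26 ye54 ze6) (ke xe32 ye16 ze32) (ke xe23 ye10 ze27) (ke xe18 ye23 ze18) (ke xe31 ye2 ze34) (ke xe18 ye23 ze42) (ke xe30 ye54 ze11) (ke xe29 ye7 ze47) (ke xe23 ye46 ze24) (ke xe18 ye59 ze56) (ke xe22 ye41 ze59) (ke xe18 ye23 ze49) (ke xe22 ye30 ze20) (ke xe26 ye8 ze57) (ke xe19 ye51 ze9) (ke xe18 ye24 ze4) (ke xe20 ye34 ze55) (ke xe20 ye45 ze49)) (@D3.rec (fun _ => Pt) (ke xe18 ye32 ze39) (ke xe18 ye32 ze40) (ke xe27 ye36 ze15) (ke xe23 ye24 ze35) (ke xe20 ye24 ze56) (ke xe28 ye27 ze5) (ke xe18 ye49 ze41) (ke xe18 ye24 ze30) (ke xe21 ye35 ze3) (ke xe21 ye31 ze7) (ke xe21 ye26 ze56) (ke xe27 ye38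 ze52) (ke xe18 ye24 ze53) (ke xe18 ye24 ze54) (ke xe28 ye10 ze17) (ke xe18 ye24 ze57) (ke xe20 ye37 ze58) (ke xe20 ye13 ze16) (ke xe18 ye25 ze3) (ke xe18 ye25 ze9) (ke xe24 ye53 ze20) (ke xe18 ye25 ze12) (ke xe19 ye2 ze47) (ke xe20 ye28 ze21) (ke xe25 ye50 ze61) (ke xe21 ye26 ze35) (ke xe18 ye25 ze26) (ke xe25 ye12 ze17) (ke xe25 ye16 ze36) (ke xe24 ye30 ze52) (ke xe21 ye24 ze46) (ke xe20 ye40 ze59) (ke xe26 ye3 ze59) (ke xe18 ye25 ze43) (ke xe28 ye10 ze19) (ke xe18 ye25 ze48) (ke xe27 ye59 ze48) (ke xe19 ye33 ze50) (ke xe27 ye42 ze18) (ke xe25 ye17 ze19) (ke xe23 ye55 ze35) (ke xe27 ye19 ze53) (ke xe18 ye26 ze14) (ke xe21 ye44 ze3) (ke xe22 ye34 ze32) (ke xe18 ye26 ze26) (ke xe23 ye21 ze56) (ke xe31 ye44 ze29) (ke xe26 ye12 ze21) (ke xe30 ye2 ze27) (ke xe18 ye26 ze40)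 (ke xe19 ye4 ze30) (ke xe18 ye26 ze46) (ke xe18 ye26 ze47) (ke xe30 ye24 ze57) (ke xe27 ye46 ze21) (ke xe25 ye10 ze59) (ke xe31 ye8 ze9) (ke xe32 ye24 ze49) (ke xe24 ye31 ze22) (ke xe18 ye26 ze52) (ke xe32 ye25 ze16)) (@D3.rec (fun _ => Pt) (ke xe18 ye26 ze54) (ke xe23 ye52 ze8) (ke xe18 ye26 ze58) (ke xe31 ye12 ze23) (ke xe18 ye26 ze60) (ke xe23 ye44 ze38) (ke xe18 ye27 ze5) (ke xe18 ye29 ze16) (ke xe32 ye31 ze1) (ke xe18 ye27 ze3) (ke xe22 ye28 ze30) (ke xe32 ye6 ze38) (ke xe18 ye27 ze4) (ke xe18 ye28 ze9) (ke xe30 ye59 ze29) (ke xe18 ye27 ze7) (ke xe26 ye17 ze6) (ke xe27 ye28 ze56) (ke xe27 ye46 ze5) (ke xe32 ye30 ze36) (ke xe18 ye27 ze10) (ke xe23 ye35 ze58) (ke xe24 ye54 ze35) (ke xe27 ye30 ze61) (ke xe26 ye12 ze39) (ke xe32 ye31 ze8) (ke xe18 ye27 ze15) (ke xe22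 ye47 ze34) (ke xe32 ye23 ze12) (ke xe18 ye27 ze59) (ke xe31 ye44 ze25) (ke xe27 ye22 ze46) (ke xe21 ye26 ze5) (ke xe25 ye1 ze46) (ke xe31 ye42 ze58) (ke xe27 ye28 ze53) (ke xe18 ye27 ze37) (ke xe32 ye31 ze9) (ke xe18 ye28 ze12) (ke xe18 ye27 ze50) (ke xe29 ye8 ze12) (ke xe22 ye33 ze3) (ke xe22 ye33 ze1) (ke xe18 ye27 ze53) (ke xe19 ye25 ze27) (ke xe19 ye20 ze40) (ke xe20 ye59 ze59) (ke xe32 ye19 ze27) (ke xe27 ye13 ze41) (ke xe29 ye1 ze59) (ke xe18 ye28 ze0) (ke xe22 ye19 ze21) (ke xe18 ye28 ze1) (ke xe30 ye59 ze17) (ke xe18 ye28 ze5) (ke xe18 ye28 ze52) (ke xe26 ye15 ze56) (ke xe30 ye58 ze7) (ke xe18 ye28 ze8) (ke xe30 ye48 ze30) (ke xe23 ye18 ze20) (ke xe23 ye14 ze20)) (@D3.rec (fun _ => Pt) (ke xe26 ye15 ze41) (ke xe24 ye44 ze8) (ke xe19 ye3 ze44) (ke xe27 ye47 ze0)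 (ke xe18 ye28 ze58) (ke xe22 ye42 ze15) (ke xe28 ye27 ze43) (ke xe27 ye26 ze20) (ke xe18 ye40 ze30) (ke xe18 ye30 ze5) (ke xe18 ye28 ze18) (ke xe18 ye28 ze27) (ke xe26 ye13 ze26) (ke xe31 ye8 ze18) (ke xe22 ye34 ze55) (ke xe26 ye13 ze42) (ke xe24 ye55 ze11) (ke xe28 ye5 ze27) (ke xe32 ye10 ze21) (ke xe18 ye47 ze6) (ke xe32 ye31 ze19) (ke xe27 ye34 ze32) (ke xe29 ye39 ze37) (ke xe23 ye36 ze59) (ke xe26 ye30 ze45) (ke xe27 ye27 ze25) (ke xe18 ye29 ze42) (ke xe32 ye29 ze37) (ke xe18 ye28 ze33) (ke xe26 ye13 ze36) (ke xe24 ye45 ze11) (ke xe18 ye29 ze29) (ke xe31 ye43 ze13) (ke xe18 ye28 ze53) (ke xe27 ye34 ze47) (ke xe30 ye35 ze37) (ke xe31 ye42 ze50) (ke xe27 ye23 ze21) (ke xe32 ye6 ze26) (ke xe32 ye31 ze23) (ke xe24 ye40 ze33) (ke xe29 ye22 ze51) (ke xe22 ye27 ze43) (ke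 xe22 ye15 ze17) (ke xe18 ye29 ze11) (ke xe31 ye9 ze31) (ke xe21 ye6 ze19) (ke xe18 ye29 ze18) (ke xe27 ye48 ze2) (ke xe27 ye45 ze37) (ke xe27 ye48 ze10) (ke xe18 ye29 ze22) (ke xe21 ye55 ze34) (ke xe30 ye0 ze58) (ke xe26 ye14 ze52) (ke xe18 ye29 ze26) (ke xe18 ye46 ze42) (ke xe30 ye4 ze20) (ke xe23 ye17 ze61) (ke xe32 ye6 ze39) (ke xe18 ye29 ze34) (ke xe22 ye28 ze59)) (@D3.rec (fun _ => Pt) (ke xe18 ye29 ze38) (ke xe28 ye22 ze12) (ke xe21 ye8 ze53) (ke xe22 ye45 ze30) (ke xe32 ye31 ze26) (ke xe18 ye29 ze46) (ke xe32 ye25 ze10) (ke xe24 ye40 ze15) (ke xe27 ye39 ze33) (ke xe30 ye23 ze27) (ke xe19 ye47 ze48) (ke xe23 ye44 ze57) (ke xe24 ye59 ze5) (ke xe27 ye25 ze37) (ke xe26 ye16 ze30) (ke xe31 ye42 ze57) (ke xe24 ye45 ze25) (ke xe27 ye30 ze41) (ke xe23 ye26 ze39) (ke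 xe18 ye30 ze11) (ke xe27 ye31 ze22) (ke xe26 ye32 ze8) (ke xe28 ye36 ze51) (ke xe28 ye25 ze40) (ke xe18 ye30 ze15) (ke xe31 ye39 ze21) (ke xe26 ye15 ze43) (ke xe27 ye39 ze42) (ke xe27 ye45 ze61) (ke xe26 ye21 ze43) (ke xe18 ye30 ze26) (ke xe18 ye30 ze29) (ke xe18 ye30 ze30) (ke xe32 ye31 ze31) (ke xe22 ye55 ze34) (ke xe18 ye30 ze32) (ke xe29 ye18 ze34) (ke xe32 ye31 ze32) (ke xe18 ye30 ze35) (ke xe24 ye48 ze20) (ke xe32 ye31 ze34) (ke xe26 ye20 ze52) (ke xe18 ye30 ze36) (ke xe27 ye33 ze61) (ke xe28 ye8 ze43) (ke xe32 ye31 ze38) (ke xe27 ye52 ze53) (ke xe32 ye31 ze39) (ke xe18 ye30 ze39) (ke xe27 ye53 ze4) (ke xe19 ye30 ze15) (ke xe18 ye30 ze43) (ke xe24 ye38 ze57) (ke xe32 ye23 ze59) (ke xe19 ye12 ze24) (ke xe31 ye18 ze1) (ke xe19 ye51 ze13) (ke xe18 ye30 ze49) (ke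 xe32 ye31 ze40) (ke xe18 ye30 ze51) (ke xe32 ye31 ze41) (ke xe18 ye30 ze56)) (@D3.rec (fun _ => Pt) (ke xe27 ye52 ze2) (ke xe32 ye31 ze42) (ke xe18 ye30 ze54) (ke xe26 ye18 ze17) (ke xe32 ye27 ze33) (ke xe32 ye26 ze27) (ke xe32 ye31 ze43) (ke xe29 ye21 ze1) (ke xe31 ye15 ze36) (ke xe21 ye15 ze32) (ke xe19 ye12 ze37) (ke xe31 ye14 ze41) (ke xe30 ye24 ze49) (ke xe18 ye30 ze61) (ke xe18 ye31 ze0) (ke xe28 ye8 ze18) (ke xe32 ye23 ze18) (ke xe27 ye52 ze19) (ke xe27 ye34 ze58) (ke xe27 ye6 ze8) (ke xe29 ye52 ze58) (ke xe18 ye31 ze7) (ke xe32 ye31 ze44) (ke xe30 ye35 ze31) (ke xe31 ye46 ze24) (ke xe18 ye31 ze8) (ke xe18 ye31 ze9) (ke xe28 ye3 ze17) (ke xe26 ye21 ze2) (ke xe18 ye33 ze18) (ke xe32 ye31 ze45) (ke xe18 ye31 ze12) (ke xe26 ye18 ze29) (ke xe28 ye8 ze11) (ke xe28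 ye28 ze41) (ke xe30 ye35 ze25) (ke xe27 ye32 ze36) (ke xe18 ye31 ze18) (ke xe32 ye30 ze23) (ke xe18 ye33 ze11) (ke xe27 ye29 ze35) (ke xe31 ye13 ze26) (ke xe29 ye52 ze59) (ke xe18 ye31 ze24) (ke xe18 ye31 ze25) (ke xe32 ye31 ze48) (ke xe25 ye59 ze7) (ke xe18 ye31 ze27) (ke xe25 ye50 ze21) (ke xe31 ye25 ze16) (ke xe18 ye34 ze11) (ke xe19 ye6 ze44) (ke xe18 ye31 ze29) (ke xe25 ye50 ze19) (ke xe19 ye2 ze35) (ke xe29 ye52 ze57) (ke xe29 ye2 ze4) (ke xe27 ye51 ze50) (ke xe18 ye31 ze31) (ke xe28 ye7 ze25) (ke xe19 ye30 ze12) (ke xe18 ye31 ze32)) (@D3.rec (fun _ => Pt) (ke xe32 ye26 ze36) (ke xe27 ye34 ze10) (ke xe27 ye53 ze9) (ke xe27 ye50 ze9) (ke xe32 ye28 ze37) (ke xe18 ye31 ze45) (ke xe32 ye31 ze60) (ke xe18 ye31 ze38) (ke xe27 ye49 ze5) (ke xe32 ye25 ze48) (ke xe32 ye7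 ze28) (ke xe18 ye31 ze41) (ke xe28 ye8 ze10) (ke xe32 ye26 ze33) (ke xe27 ye33 ze13) (ke xe26 ye18 ze36) (ke xe27 ye50 ze19) (ke xe31 ye14 ze42) (ke xe27 ye49 ze29) (ke xe32 ye32 ze0) (ke xe32 ye32 ze1) (ke xe18 ye31 ze47) (ke xe18 ye31 ze48) (ke xe18 ye32 ze52) (ke xe31 ye5 ze9) (ke xe18 ye31 ze51) (ke xe18 ye31 ze52) (ke xe32 ye9 ze47) (ke xe19 ye22 ze22) (ke xe31 ye42 ze20) (ke xe23 ye34 ze14) (ke xe26 ye16 ze58) (ke xe25 ye9 ze61) (ke xe27 ye51 ze23) (ke xe27 ye50 ze36) (ke xe18 ye33 ze52) (ke xe29 ye32 ze61) (ke xe29 ye33 ze0) (ke xe22 ye52 ze6) (ke xe20 ye10 ze0) (ke xe21 ye0 ze41) (ke xe30 ye31 ze14) (ke xe18 ye32 ze10) (ke xe18 ye32 ze11) (ke xe18 ye32 ze14) (ke xe20 ye38 ze5) (ke xe18 ye33 ze48) (ke xe32 ye10 ze8) (ke xe26 ye31 ze47) (ke xe18 ye32 ze17) (ke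 xe27 ye49 ze20) (ke xe29 ye20 ze45) (ke xe27 ye54 ze26) (ke xe20 ye19 ze7) (ke xe18 ye32 ze19) (ke xe29 ye51 ze56) (ke xe27 ye50 ze57) (ke xe18 ye33 ze49) (ke xe22 ye40 ze33) (ke xe18 ye32 ze25) (ke xe18 ye32 ze26) (ke xe31 ye15 ze9)) (@D3.rec (fun _ => Pt) (ke xe27 ye32 ze58) (ke xe31 ye28 ze46) (ke xe32 ye6 ze5) (ke xe26 ye12 ze61) (ke xe24 ye22 ze52) (ke xe27 ye50 ze41) (ke xe18 ye32 ze45) (ke xe27 ye50 ze35) (ke xe32 ye30 ze11) (ke xe27 ye52 ze13) (ke xe20 ye11 ze61) (ke xe27 ye49 ze31) (ke xe23 ye54 ze24) (ke xe27 ye12 ze23) (ke xe32 ye27 ze37) (ke xe27 ye53 ze18) (ke xe31 ye24 ze59) (ke xe27 ye52 ze22) (ke xe32 ye29 ze45) (ke xe18 ye32 ze57) (ke xe26 ye21 ze45) (ke xe31 ye14 ze44) (ke xe21 ye11 ze59) (ke xe29 ye49 ze28) (ke xe20 ye21 ze38) (ke xe28 ye5 ze59) (ke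 xe18 ye33 ze4) (ke xe27 ye52 ze51) (ke xe32 ye27 ze55) (ke xe27 ye49 ze55) (ke xe18 ye33 ze6) (ke xe18 ye33 ze8) (ke xe18 ye33 ze9) (ke xe27 ye33 ze60) (ke xe23 ye50 ze15) (ke xe18 ye33 ze12) (ke xe27 ye50 ze1) (ke xe27 ye32 ze34) (ke xe27 ye50 ze17) (ke xe23 ye50 ze36) (ke xe24 ye55 ze10) (ke xe18 ye33 ze14) (ke xe18 ye33 ze15) (ke xe31 ye8 ze16) (ke xe18 ye33 ze19) (ke xe18 ye34 ze2) (ke xe18 ye33 ze20) (ke xe32 ye28 ze60) (ke xe18 ye33 ze21) (ke xe22 ye50 ze26) (ke xe31 ye55 ze13) (ke xe18 ye33 ze24) (ke xe26 ye6 ze13) (ke xe32 ye32 ze7) (ke xe26 ye54 ze47) (ke xe19 ye33 ze3) (ke xe18 ye47 ze11) (ke xe22 ye3 ze25) (ke xe29 ye51 ze57) (ke xe27 ye53 ze26) (ke xe32 ye28 ze46) (ke xe27 ye51 ze2)) (@D3.rec (fun _ => Pt) (ke xe20 ye5 ze46) (ke xe27 ye34 ze39) (ke xe27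 ye51 ze20) (ke xe27 ye51 ze21) (ke xe21 ye57 ze59) (ke xe26 ye54 ze49) (ke xe18 ye33 ze57) (ke xe31 ye25 ze34) (ke xe18 ye33 ze59) (ke xe31 ye25 ze52) (ke xe28 ye6 ze12) (ke xe28 ye5 ze33) (ke xe31 ye25 ze38) (ke xe27 ye54 ze57) (ke xe31 ye53 ze59) (ke xe18 ye35 ze33) (ke xe32 ye29 ze36) (ke xe27 ye29 ze16) (ke xe28 ye5 ze15) (ke xe32 ye7 ze49) (ke xe18 ye34 ze8) (ke xe32 ye32 ze11) (ke xe31 ye10 ze2) (ke xe31 ye42 ze11) (ke xe18 ye34 ze12) (ke xe18 ye34 ze13) (ke xe29 ye54 ze21) (ke xe31 ye13 ze27) (ke xe20 ye20 ze58) (ke xe18 ye34 ze16) (ke xe27 ye36 ze42) (ke xe21 ye12 ze8) (ke xe26 ye3 ze60) (ke xe18 ye34 ze18) (ke xe31 ye25 ze0) (ke xe18 ye34 ze22) (ke xe27 ye54 ze60) (ke xe28 ye22 ze45) (ke xe21 ye26 ze37) (ke xe26 ye39 ze39) (ke xe28 ye15 ze53) (ke xe27 ye53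 ze2) (ke xe31 ye23 ze30) (ke xe28 ye4 ze44) (ke xe21 ye15 ze0) (ke xe19 ye22 ze59) (ke xe30 ye30 ze53) (ke xe18 ye34 ze25) (ke xe18 ye34 ze34) (ke xe28 ye25 ze50) (ke xe18 ye34 ze29) (ke xe29 ye20 ze11) (ke xe27 ye54 ze39) (ke xe18 ye34 ze30) (ke xe18 ye34 ze31) (ke xe21 ye12 ze9) (ke xe31 ye43 ze26) (ke xe19 ye19 ze11) (ke xe27 ye55 ze21) (ke xe27 ye55 ze23) (ke xe27 ye33 ze16) (ke xe32 ye7 ze54)) (@D3.rec (fun _ => Pt) (ke xe32 ye22 ze33) (ke xe18 ye34 ze39) (ke xe27 ye29 ze32) (ke xe29 ye2 ze24) (ke xe22 ye17 ze60) (ke xe25 ye24 ze4) (ke xe25 ye10 ze45) (ke xe26 ye42 ze40) (ke xe18 ye34 ze47) (ke xe18 ye34 ze48) (ke xe32 ye6 ze57) (ke xe32 ye32 ze18) (ke xe20 ye17 ze38) (ke xe30 ye18 ze13) (ke xe27 ye55 ze33) (ke xe25 ye27 ze0) (ke xe21 ye33 ze33) (ke xe28 ye16 ze51)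 (ke xe29 ye2 ze15) (ke xe26 ye1 ze40) (ke xe18 ye37 ze27) (ke xe20 ye46 ze8) (ke xe24 ye43 ze42) (ke xe29 ye25 ze19) (ke xe32 ye32 ze5) (ke xe27 ye34 ze9) (ke xe18 ye35 ze22) (ke xe27 ye53 ze56) (ke xe32 ye25 ze26) (ke xe18 ye35 ze27) (ke xe22 ye51 ze49) (ke xe22 ye49 ze49) (ke xe18 ye35 ze31) (ke xe32 ye29 ze40) (ke xe18 ye35 ze34) (ke xe32 ye26 ze42) (ke xe18 ye35 ze38) (ke xe18 ye35 ze42) (ke xe18 ye35 ze45) (ke xe18 ye35 ze48) (ke xe22 ye28 ze57) (ke xe21 ye53 ze4) (ke xe24 ye5 ze40) (ke xe26 ye46 ze34) (ke xe21 ye18 ze6) (ke xe18 ye36 ze0) (ke xe31 ye0 ze3) (ke xe22 ye47 ze41) (ke xe23 ye10 ze3) (ke xe26 ye3 ze42) (ke xe28 ye13 ze14) (ke xe32 ye32 ze23) (ke xe18 ye36 ze6) (ke xe25 ye57 ze29) (ke xe29 ye20 ze20) (ke xe23 ye13 ze11) (ke xe18 ye36 ze21) (ke xe19 ye15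 ze45) (ke xe30 ye59 ze61) (ke xe27 ye55 ze59) (ke xe22 ye3 ze39) (ke xe27 ye47 ze13)) (@D3.rec (fun _ => Pt) (ke xe21 ye52 ze18) (ke xe27 ye29 ze49) (ke xe22 ye6 ze40) (ke xe18 ye50 ze60) (ke xe22 ye12 ze16) (ke xe21 ye6 ze17) (ke xe23 ye45 ze2) (ke xe26 ye16 ze26) (ke xe26 ye5 ze56) (ke xe20 ye15 ze52) (ke xe31 ye59 ze53) (ke xe18 ye37 ze19) (ke xe18 ye37 ze20) (ke xe23 ye32 ze41) (ke xe26 ye16 ze27) (ke xe28 ye16 ze16) (ke xe18 ye37 ze50) (ke xe28 ye1 ze14) (ke xe18 ye50 ze58) (ke xe28 ye1 ze34) (ke xe18 ye38 ze11) (ke xe29 ye24 ze44) (ke xe18 ye37 ze53) (ke xe18 ye37 ze57) (ke xe21 ye20 ze7) (ke xe18 ye38 ze3) (ke xe21 ye7 ze25) (ke xe21 ye51 ze19) (ke xe18 ye38 ze7) (ke xe18 ye38 ze8) (ke xe21 ye42 ze23) (ke xe21 ye8 ze0) (ke xe21 ye35 ze52) (ke xe32 ye32 ze28)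 (ke xe30 ye40 ze10) (ke xe32 ye32 ze30) (ke xe18 ye38 ze33) (ke xe26 ye27 ze20) (ke xe23 ye15 ze52) (ke xe23 ye52 ze13) (ke xe30 ye57 ze13) (ke xe20 ye8 ze14) (ke xe30 ye39 ze37) (ke xe18 ye38 ze50) (ke xe28 ye0 ze5) (ke xe23 ye32 ze43) (ke xe25 ye0 ze7) (ke xe30 ye57 ze15) (ke xe22 ye56 ze9) (ke xe26 ye23 ze0) (ke xe25 ye14 ze36) (ke xe29 ye32 ze38) (ke xe21 ye29 ze56) (ke xe25 ye46 ze33) (ke xe26 ye3 ze21) (ke xe23 ye31 ze31) (ke xe22 ye43 ze8) (ke xe30 ye2 ze11) (ke xe18 ye39 ze1) (ke xe23 ye32 ze5) (ke xe26 ye13 ze3) (ke xe20 ye45 ze54)) (@D3.rec (fun _ => Pt) (ke xe23 ye32 ze26) (ke xe26 ye27 ze18) (ke xe19 ye29 ze29) (ke xe27 ye3 ze8) (ke xe25 ye43 ze6) (ke xe27 ye59 ze5) (ke xe21 ye7 ze43) (ke xe27 ye59 ze17) (ke xe18 ye39 ze13) (ke xe18 ye41 ze44) (ke xe27 ye59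 ze22) (ke xe22 ye52 ze3) (ke xe27 ye59 ze21) (ke xe20 ye21 ze30) (ke xe24 ye47 ze21) (ke xe31 ye58 ze60) (ke xe18 ye39 ze30) (ke xe22 ye1 ze8) (ke xe18 ye39 ze32) (ke xe18 ye39 ze35) (ke xe27 ye36 ze12) (ke xe21 ye41 ze5) (ke xe30 ye27 ze23) (ke xe31 ye30 ze16) (ke xe24 ye35 ze41) (ke xe24 ye10 ze19) (ke xe31 ye9 ze23) (ke xe28 ye58 ze6) (ke xe18 ye40 ze1) (ke xe27 ye57 ze6) (ke xe32 ye14 ze51) (ke xe32 ye32 ze38) (ke xe23 ye17 ze23) (ke xe18 ye40 ze5) (ke xe30 ye57 ze7) (ke xe18 ye40 ze6) (ke xe27 ye57 ze9) (ke xe18 ye40 ze9) (ke xe24 ye29 ze26) (ke xe23 ye31 ze38) (ke xe25 ye2 ze27) (ke xe18 ye40 ze15) (ke xe18 ye40 ze13) (ke xe26 ye48 ze22) (ke xe22 ye31 ze18) (ke xe30 ye17 ze42) (ke xe30 ye40 ze30) (ke xe18 ye40 ze17) (ke xe19 ye54 ze34) (ke xe30 ye40 ze57) (ke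 xe30 ye42 ze17) (ke xe24 ye54 ze18) (ke xe29 ye9 ze59) (ke xe31 ye2 ze57) (ke xe23 ye22 ze55) (ke xe31 ye8 ze33) (ke xe31 ye59 ze5) (ke xe18 ye40 ze22) (ke xe23 ye26 ze10) (ke xe21 ye29 ze33) (ke xe30 ye40 ze60) (ke xe21 ye29 ze37)) (@D3.rec (fun _ => Pt) (ke xe31 ye37 ze0) (ke xe31 ye8 ze52) (ke xe25 ye0 ze45) (ke xe24 ye47 ze55) (ke xe18 ye40 ze33) (ke xe21 ye19 ze55) (ke xe22 ye15 ze39) (ke xe18 ye40 ze32) (ke xe28 ye27 ze53) (ke xe18 ye40 ze35) (ke xe18 ye40 ze37) (ke xe32 ye32 ze46) (ke xe29 ye11 ze45) (ke xe27 ye57 ze29) (ke xe18 ye40 ze42) (ke xe32 ye22 ze45) (ke xe26 ye32 ze56) (ke xe23 ye19 ze20) (ke xe18 ye40 ze47) (ke xe26 ye9 ze29) (ke xe18 ye40 ze49) (ke xe29 ye28 ze45) (ke xe24 ye59 ze29) (ke xe18 ye40 ze52) (ke xe23 ye19 ze53) (ke xe21 ye55 ze53) (ke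 xe30 ye13 ze18) (ke xe18 ye40 ze57) (ke xe23 ye44 ze52) (ke xe27 ye40 ze26) (ke xe18 ye40 ze61) (ke xe18 ye41 ze0) (ke xe26 ye25 ze12) (ke xe23 ye14 ze8) (ke xe30 ye32 ze8) (ke xe24 ye36 ze45) (ke xe27 ye5 ze25) (ke xe30 ye52 ze36) (ke xe18 ye41 ze6) (ke xe21 ye44 ze26) (ke xe18 ye41 ze11) (ke xe18 ye41 ze12) (ke xe26 ye27 ze15) (ke xe27 ye43 ze0) (ke xe19 ye1 ze2) (ke xe24 ye47 ze31) (ke xe23 ye23 ze49) (ke xe18 ye41 ze21) (ke xe18 ye41 ze22) (ke xe28 ye26 ze9) (ke xe18 ye41 ze25) (ke xe24 ye54 ze22) (ke xe19 ye0 ze58) (ke xe29 ye31 ze42) (ke xe22 ye55 ze52) (ke xe18 ye41 ze30) (ke xe30 ye12 ze13) (ke xe27 ye58 ze44) (ke xe28 ye42 ze27) (ke xe26 ye51 ze11) (ke xe28 ye37 ze45) (ke xe28 ye37 ze36)) (@D3.rec (fun _ => Pt) (ke xe23 ye16 ze31) (ke xe28 ye38 ze31) (ke xe18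 ye41 ze48) (ke xe26 ye28 ze47) (ke xe23 ye57 ze56) (ke xe28 ye54 ze61) (ke xe25 ye15 ze60) (ke xe18 ye42 ze5) (ke xe28 ye26 ze38) (ke xe20 ye29 ze26) (ke xe27 ye59 ze46) (ke xe24 ye6 ze14) (ke xe28 ye38 ze49) (ke xe28 ye28 ze10) (ke xe28 ye9 ze50) (ke xe20 ye6 ze30) (ke xe23 ye54 ze39) (ke xe18 ye42 ze30) (ke xe23 ye3 ze11) (ke xe26 ye48 ze23) (ke xe26 ye6 ze46) (ke xe31 ye8 ze23) (ke xe31 ye2 ze60) (ke xe18 ye42 ze32) (ke xe26 ye47 ze11) (ke xe32 ye4 ze49) (ke xe21 ye29 ze21) (ke xe26 ye6 ze47) (ke xe24 ye40 ze1) (ke xe30 ye39 ze56) (ke xe18 ye42 ze36) (ke xe31 ye8 ze57) (ke xe18 ye42 ze37) (ke xe32 ye9 ze50) (ke xe19 ye15 ze14) (ke xe31 ye10 ze9) (ke xe18 ye42 ze42) (ke xe18 ye42 ze43) (ke xe21 ye52 ze25) (ke xe32 ye30 ze54) (ke xe29 ye24 ze8) (ke xe18 ye42 ze49)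 (ke xe28 ye49 ze57) (ke xe30 ye53 ze55) (ke xe18 ye59 ze20) (ke xe21 ye2 ze50) (ke xe18 ye42 ze58) (ke xe23 ye32 ze36) (ke xe20 ye18 ze17) (ke xe18 ye42 ze61) (ke xe26 ye32 ze52) (ke xe23 ye14 ze25) (ke xe26 ye26 ze30) (ke xe22 ye31 ze58) (ke xe19 ye27 ze30) (ke xe29 ye25 ze35) (ke xe30 ye43 ze28) (ke xe21 ye57 ze10) (ke xe18 ye43 ze34) (ke xe18 ye43 ze47) (ke xe28 ye55 ze54) (ke xe30 ye54 ze34)) (@D3.rec (fun _ => Pt) (ke xe29 ye34 ze51) (ke xe25 ye43 ze33) (ke xe23 ye20 ze49) (ke xe18 ye44 ze1) (ke xe30 ye56 ze11) (ke xe22 ye48 ze43) (ke xe30 ye36 ze4) (ke xe18 ye44 ze5) (ke xe23 ye0 ze17) (ke xe18 ye44 ze6) (ke xe24 ye34 ze60) (ke xe31 ye6 ze43) (ke xe28 ye22 ze52) (ke xe31 ye16 ze48) (ke xe26 ye23 ze22) (ke xe29 ye23 ze52) (ke xe29 ye42 ze15) (ke xe31 ye16 ze54)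 (ke xe22 ye7 ze34) (ke xe18 ye44 ze13) (ke xe24 ye52 ze12) (ke xe18 ye44 ze14) (ke xe31 ye15 ze38) (ke xe32 ye25 ze17) (ke xe18 ye44 ze21) (ke xe20 ye30 ze34) (ke xe28 ye21 ze24) (ke xe32 ye14 ze42) (ke xe18 ye44 ze24) (ke xe26 ye26 ze57) (ke xe18 ye44 ze25) (ke xe32 ye15 ze15) (ke xe27 ye15 ze18) (ke xe24 ye0 ze46) (ke xe24 ye14 ze30) (ke xe18 ye44 ze35) (ke xe29 ye41 ze2) (ke xe20 ye44 ze9) (ke xe29 ye3 ze10) (ke xe18 ye44 ze43) (ke xe18 ye44 ze48) (ke xe18 ye44 ze50) (ke xe22 ye15 ze30) (ke xe19 ye15 ze48) (ke xe32 ye19 ze35) (ke xe18 ye47 ze26) (ke xe30 ye5 ze59) (ke xe32 ye19 ze26) (ke xe28 ye51 ze57) (ke xe29 ye8 ze56) (ke xe18 ye44 ze60) (ke xe19 ye25 ze20) (ke xe18 ye44 ze61) (ke xe19 ye19 ze39) (ke xe18 ye47 ze51) (ke xe27 ye14 ze13) (ke xe18 ye45 ze4) (ke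 xe30 ye54 ze4) (ke xe18 ye45 ze5) (ke xe19 ye22 ze8) (ke xe22 ye49 ze60) (ke xe19 ye22 ze9)) (@D3.rec (fun _ => Pt) (ke xe19 ye22 ze2) (ke xe32 ye7 ze45) (ke xe32 ye17 ze21) (ke xe18 ye45 ze10) (ke xe18 ye45 ze12) (ke xe29 ye54 ze49) (ke xe26 ye49 ze43) (ke xe18 ye45 ze14) (ke xe29 ye48 ze4) (ke xe19 ye21 ze34) (ke xe21 ye59 ze61) (ke xe22 ye0 ze11) (ke xe18 ye45 ze28) (ke xe19 ye36 ze51) (ke xe19 ye20 ze45) (ke xe22 ye34 ze49) (ke xe23 ye52 ze1) (ke xe18 ye45 ze34) (ke xe18 ye45 ze40) (ke xe27 ye50 ze45) (ke xe23 ye33 ze59) (ke xe20 ye46 ze51) (ke xe19 ye21 ze6) (ke xe18 ye45 ze44) (ke xe20 ye47 ze11) (ke xe26 ye49 ze6) (ke xe18 ye45 ze47) (ke xe28 ye21 ze25) (ke xe18 ye45 ze51) (ke xe28 ye21 ze28) (ke xe32 ye13 ze55) (ke xe18 ye45 ze54) (ke xe32 ye25 ze56) (ke xe21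 ye10 ze50) (ke xe18 ye45 ze56) (ke xe32 ye25 ze42) (ke xe32 ye33 ze1) (ke xe23 ye1 ze29) (ke xe18 ye45 ze57) (ke xe32 ye9 ze39) (ke xe18 ye58 ze9) (ke xe22 ye21 ze0) (ke xe19 ye15 ze52) (ke xe18 ye46 ze1) (ke xe18 ye46 ze2) (ke xe29 ye40 ze33) (ke xe19 ye28 ze44) (ke xe25 ye21 ze42) (ke xe18 ye46 ze58) (ke xe22 ye40 ze6) (ke xe27 ye13 ze33) (ke xe19 ye17 ze29) (ke xe21 ye0 ze8) (ke xe28 ye8 ze40) (ke xe18 ye46 ze13) (ke xe32 ye33 ze6) (ke xe18 ye46 ze18) (ke xe18 ye46 ze22) (ke xe18 ye46 ze24) (ke xe19 ye36 ze40) (ke xe19 ye36 ze35) (ke xe18 ye46 ze34)) (@D3.rec (fun _ => Pt) (ke xe24 ye16 ze14) (ke xe19 ye35 ze34) (ke xe29 ye56 ze28) (ke xe18 ye46 ze30) (ke xe18 ye46 ze33) (ke xe24 ye16 ze19) (ke xe30 ye44 ze43) (ke xe18 ye46 ze35) (ke xe18 ye46 ze37) (ke xe18 ye46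 ze38) (ke xe19 ye21 ze41) (ke xe32 ye27 ze29) (ke xe24 ye1 ze13) (ke xe30 ye25 ze51) (ke xe27 ye13 ze57) (ke xe18 ye46 ze41) (ke xe28 ye10 ze15) (ke xe28 ye16 ze18) (ke xe28 ye16 ze17) (ke xe21 ye26 ze50) (ke xe20 ye47 ze20) (ke xe18 ye46 ze47) (ke xe20 ye40 ze38) (ke xe22 ye25 ze31) (ke xe29 ye39 ze13) (ke xe30 ye21 ze42) (ke xe22 ye13 ze47) (ke xe31 ye26 ze37) (ke xe28 ye52 ze4) (ke xe20 ye43 ze9) (ke xe26 ye53 ze52) (ke xe27 ye7 ze17) (ke xe31 ye55 ze12) (ke xe28 ye52 ze57) (ke xe28 ye53 ze2) (ke xe29 ye48 ze20) (ke xe32 ye33 ze13) (ke xe32 ye33 ze14) (ke xe18 ye46 ze60) (ke xe32 ye23 ze24) (ke xe18 ye46 ze61) (ke xe32 ye33 ze15) (ke xe32 ye20 ze25) (ke xe28 ye52 ze5) (ke xe32 ye33 ze16) (ke xe30 ye5 ze57) (ke xe27 ye6 ze59) (ke xe27 ye6 ze61) (ke xe29 ye2 ze17)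 (ke xe31 ye45 ze53) (ke xe18 ye47 ze7) (ke xe28 ye9 ze17) (ke xe26 ye42 ze3) (ke xe18 ye47 ze8) (ke xe27 ye33 ze0) (ke xe24 ye12 ze40) (ke xe29 ye53 ze9) (ke xe23 ye53 ze27) (ke xe27 ye51 ze46) (ke xe19 ye12 ze0) (ke xe27 ye13 ze50) (ke xe18 ye47 ze17)) (@D3.rec (fun _ => Pt) (ke xe24 ye15 ze25) (ke xe24 ye44 ze16) (ke xe21 ye51 ze39) (ke xe29 ye39 ze8) (ke xe26 ye6 ze4) (ke xe19 ye13 ze11) (ke xe25 ye48 ze11) (ke xe27 ye23 ze53) (ke xe22 ye22 ze29) (ke xe20 ye35 ze11) (ke xe28 ye27 ze52) (ke xe32 ye18 ze44) (ke xe19 ye4 ze4) (ke xe19 ye7 ze15) (ke xe31 ye37 ze12) (ke xe31 ye17 ze49) (ke xe29 ye34 ze52) (ke xe18 ye47 ze33) (ke xe30 ye9 ze34) (ke xe24 ye46 ze5) (ke xe29 ye8 ze13) (ke xe22 ye18 ze42) (ke xe22 ye14 ze12) (ke xe30 ye30 ze47) (ke xe29 ye8 ze57) (ke xe32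 ye23 ze20) (ke xe30 ye39 ze24) (ke xe26 ye50 ze49) (ke xe27 ye6 ze54) (ke xe30 ye46 ze26) (ke xe18 ye47 ze56) (ke xe32 ye33 ze19) (ke xe27 ye16 ze61) (ke xe32 ye21 ze27) (ke xe32 ye33 ze20) (ke xe32 ye23 ze22) (ke xe18 ye48 ze0) (ke xe26 ye16 ze4) (ke xe22 ye40 ze52) (ke xe22 ye38 ze45) (ke xe30 ye59 ze35) (ke xe18 ye48 ze7) (ke xe19 ye20 ze47) (ke xe22 ye57 ze1) (ke xe22 ye40 ze27) (ke xe19 ye38 ze57) (ke xe19 ye30 ze55) (ke xe23 ye8 ze60) (ke xe27 ye18 ze44) (ke xe27 ye15 ze13) (ke xe26 ye52 ze7) (ke xe18 ye48 ze19) (ke xe19 ye22 ze40) (ke xe22 ye38 ze31) (ke xe19 ye5 ze25) (ke xe18 ye48 ze26) (ke xe22 ye14 ze6) (ke xe30 ye30 ze43) (ke xe32 ye23 ze17) (ke xe18 ye48 ze28) (ke xe20 ye1 ze33) (ke xe27 ye51 ze61)) (@D3.rec (fun _ => Pt) (ke xe26 ye19 ze44) (ke xe18 ye48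 ze33) (ke xe27 ye13 ze26) (ke xe24 ye36 ze26) (ke xe26 ye59 ze29) (ke xe31 ye50 ze31) (ke xe20 ye41 ze19) (ke xe26 ye24 ze16) (ke xe19 ye22 ze42) (ke xe32 ye33 ze27) (ke xe30 ye25 ze55) (ke xe20 ye23 ze22) (ke xe26 ye39 ze51) (ke xe29 ye43 ze55) (ke xe23 ye40 ze55) (ke xe25 ye42 ze61) (ke xe20 ye30 ze11) (ke xe18 ye48 ze51) (ke xe25 ye53 ze13) (ke xe28 ye48 ze18) (ke xe18 ye48 ze58) (ke xe18 ye49 ze5) (ke xe28 ye51 ze18) (ke xe28 ye51 ze19) (ke xe32 ye33 ze31) (ke xe18 ye49 ze2) (ke xe30 ye29 ze59) (ke xe22 ye0 ze5) (ke xe22 ye0 ze6) (ke xe30 ye25 ze47) (ke xe22 ye0 ze9) (ke xe22 ye1 ze34) (ke xe32 ye33 ze34) (ke xe22 ye1 ze45) (ke xe29 ye38 ze1) (ke xe22 ye19 ze34) (ke xe32 ye33 ze36) (ke xe28 ye40 ze15) (ke xe18 ye49 ze12) (ke xe27 ye9 ze18) (ke xe22 ye11 ze20) (ke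 xe26 ye20 ze40) (ke xe18 ye49 ze15) (ke xe30 ye39 ze36) (ke xe22 ye56 ze14) (ke xe26 ye2 ze45) (ke xe23 ye11 ze57) (ke xe26 ye2 ze48) (ke xe18 ye49 ze25) (ke xe18 ye49 ze26) (ke xe20 ye58 ze58) (ke xe29 ye14 ze41) (ke xe24 ye58 ze55) (ke xe26 ye59 ze49) (ke xe18 ye50 ze0) (ke xe22 ye36 ze14) (ke xe22 ye39 ze35) (ke xe23 ye47 ze60) (ke xe32 ye33 ze39) (ke xe32 ye16 ze57) (ke xe32 ye33 ze40) (ke xe21 ye38 ze49)) (@D3.rec (fun _ => Pt) (ke xe18 ye50 ze14) (ke xe18 ye50 ze16) (ke xe18 ye50 ze19) (ke xe22 ye28 ze48) (ke xe27 ye55 ze7) (ke xe21 ye5 ze43) (ke xe29 ye55 ze17) (ke xe30 ye5 ze20) (ke xe18 ye50 ze39) (ke xe25 ye16 ze34) (ke xe18 ye50 ze45) (ke xe27 ye1 ze12) (ke xe19 ye15 ze35) (ke xe31 ye23 ze52) (ke xe24 ye51 ze53) (ke xe31 ye48 ze9) (ke xe18 ye50 ze57) (ke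 xe22 ye28 ze54) (ke xe29 ye44 ze34) (ke xe32 ye32 ze9) (ke xe18 ye51 ze5) (ke xe31 ye17 ze7) (ke xe30 ye1 ze37) (ke xe28 ye49 ze21) (ke xe25 ye4 ze52) (ke xe29 ye59 ze3) (ke xe18 ye51 ze10) (ke xe31 ye36 ze21) (ke xe28 ye34 ze0) (ke xe22 ye54 ze9) (ke xe27 ye50 ze44) (ke xe25 ye50 ze46) (ke xe18 ye51 ze16) (ke xe25 ye48 ze2) (ke xe18 ye51 ze19) (ke xe22 ye52 ze46) (ke xe25 ye26 ze54) (ke xe25 ye5 ze42) (ke xe31 ye18 ze55) (ke xe31 ye1 ze16) (ke xe18 ye51 ze21) (ke xe19 ye37 ze55) (ke xe24 ye50 ze5) (ke xe25 ye5 ze37) (ke xe18 ye51 ze24) (ke xe24 ye4 ze59) (ke xe18 ye51 ze28) (ke xe32 ye33 ze42) (ke xe18 ye51 ze31) (ke xe25 ye56 ze41) (ke xe29 ye42 ze7) (ke xe32 ye32 ze53) (ke xe25 ye58 ze37) (ke xe19 ye19 ze57) (ke xe29 ye7 ze34) (ke xe18 ye51 ze36) (ke xe22 ye17 ze39)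 (ke xe23 ye12 ze13) (ke xe27 ye6 ze7) (ke xe18 ye51 ze42) (ke xe22 ye6 ze31) (ke xe22 ye6 ze32)) (@D3.rec (fun _ => Pt) (ke xe19 ye43 ze26) (ke xe23 ye4 ze31) (ke xe24 ye6 ze33) (ke xe32 ye8 ze13) (ke xe22 ye57 ze43) (ke xe26 ye55 ze45) (ke xe23 ye49 ze37) (ke xe18 ye51 ze54) (ke xe32 ye33 ze44) (ke xe18 ye51 ze55) (ke xe28 ye46 ze30) (ke xe25 ye40 ze32) (ke xe23 ye5 ze49) (ke xe22 ye30 ze60) (ke xe18 ye51 ze60) (ke xe22 ye49 ze20) (ke xe30 ye47 ze25) (ke xe23 ye59 ze56) (ke xe26 ye55 ze42) (ke xe18 ye52 ze2) (ke xe32 ye33 ze46) (ke xe24 ye28 ze20) (ke xe18 ye52 ze3) (ke xe30 ye47 ze18) (ke xe26 ye55 ze58) (ke xe23 ye53 ze29) (ke xe29 ye42 ze39) (ke xe22 ye33 ze47) (ke xe18 ye52 ze14) (ke xe28 ye23 ze29) (ke xe32 ye7 ze40) (ke xe22 ye54 ze37) (ke xe18 ye52 ze18) (ke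 xe18 ye52 ze23) (ke xe18 ye52 ze24) (ke xe32 ye33 ze50) (ke xe22 ye16 ze35) (ke xe18 ye52 ze42) (ke xe32 ye33 ze51) (ke xe18 ye52 ze43) (ke xe18 ye52 ze45) (ke xe31 ye44 ze7) (ke xe29 ye23 ze44) (ke xe18 ye52 ze50) (ke xe25 ye54 ze46) (ke xe32 ye7 ze5) (ke xe29 ye17 ze19) (ke xe25 ye10 ze5) (ke xe31 ye14 ze36) (ke xe18 ye52 ze61) (ke xe18 ye53 ze0) (ke xe27 ye9 ze6) (ke xe28 ye24 ze21) (ke xe28 ye45 ze42) (ke xe30 ye49 ze29) (ke xe18 ye53 ze10) (ke xe26 ye49 ze20) (ke xe29 ye53 ze61) (ke xe18 ye53 ze12) (ke xe27 ye2 ze41) (ke xe26 ye45 ze18) (ke xe28 ye22 ze23)) (@D3.rec (fun _ => Pt) (ke xe18 ye53 ze16) (ke xe24 ye18 ze19) (ke xe18 ye53 ze17) (ke xe18 ye53 ze19) (ke xe27 ye2 ze56) (ke xe25 ye35 ze35) (ke xe18 ye53 ze21) (ke xe28 ye22 ze29) (ke xe18 ye53 ze22) (ke xe27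 ye31 ze52) (ke xe18 ye53 ze23) (ke xe19 ye15 ze10) (ke xe23 ye52 ze4) (ke xe28 ye50 ze7) (ke xe31 ye43 ze7) (ke xe18 ye53 ze28) (ke xe26 ye24 ze36) (ke xe29 ye23 ze57) (ke xe27 ye31 ze15) (ke xe18 ye53 ze33) (ke xe30 ye53 ze17) (ke xe23 ye20 ze51) (ke xe31 ye25 ze50) (ke xe18 ye53 ze39) (ke xe28 ye14 ze26) (ke xe28 ye15 ze27) (ke xe30 ye44 ze53) (ke xe18 ye53 ze41) (ke xe28 ye15 ze29) (ke xe28 ye30 ze54) (ke xe18 ye53 ze44) (ke xe18 ye53 ze45) (ke xe18 ye53 ze46) (ke xe27 ye32 ze42) (ke xe26 ye32 ze6) (ke xe32 ye33 ze55) (ke xe18 ye53 ze52) (ke xe18 ye53 ze53) (ke xe18 ye53 ze56) (ke xe27 ye9 ze22) (ke xe32 ye33 ze58) (ke xe31 ye49 ze18) (ke xe18 ye53 ze58) (ke xe24 ye15 ze22) (ke xe22 ye15 ze42) (ke xe19 ye43 ze36) (ke xe18 ye53 ze60) (ke xe29 ye42 ze13) (ke xe25 ye54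 ze37) (ke xe29 ye43 ze1) (ke xe18 ye54 ze0) (ke xe22 ye59 ze30) (ke xe31 ye0 ze25) (ke xe24 ye14 ze31) (ke xe26 ye52 ze39) (ke xe18 ye54 ze7) (ke xe24 ye17 ze58) (ke xe31 ye16 ze9) (ke xe27 ye49 ze26) (ke xe20 ye16 ze58) (ke xe28 ye53 ze55) (ke xe25 ye32 ze25)) (@D3.rec (fun _ => Pt) (ke xe18 ye54 ze16) (ke xe28 ye51 ze47) (ke xe23 ye51 ze37) (ke xe23 ye0 ze1) (ke xe29 ye41 ze1) (ke xe18 ye54 ze19) (ke xe28 ye38 ze45) (ke xe28 ye46 ze9) (ke xe31 ye54 ze2) (ke xe29 ye45 ze61) (ke xe18 ye54 ze22) (ke xe26 ye12 ze42) (ke xe28 ye4 ze1) (ke xe22 ye23 ze30) (ke xe32 ye27 ze56) (ke xe18 ye54 ze28) (ke xe30 ye55 ze26) (ke xe28 ye28 ze31) (ke xe22 ye52 ze9) (ke xe28 ye38 ze51) (ke xe32 ye34 ze3) (ke xe18 ye54 ze31) (ke xe31 ye56 ze26) (ke xe28 ye20 ze61) (ke xe30 ye50 ze2) (ke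 xe18 ye54 ze33) (ke xe27 ye13 ze36) (ke xe32 ye0 ze49) (ke xe22 ye39 ze57) (ke xe28 ye21 ze7) (ke xe28 ye46 ze40) (ke xe22 ye15 ze16) (ke xe29 ye42 ze14) (ke xe23 ye12 ze1) (ke xe30 ye46 ze29) (ke xe25 ye29 ze8) (ke xe18 ye54 ze44) (ke xe28 ye38 ze13) (ke xe29 ye41 ze42) (ke xe32 ye24 ze46) (ke xe29 ye4 ze18) (ke xe18 ye54 ze46) (ke xe20 ye21 ze48) (ke xe21 ye12 ze53) (ke xe18 ye54 ze48) (ke xe28 ye8 ze37) (ke xe18 ye54 ze49) (ke xe24 ye40 ze28) (ke xe27 ye40 ze2) (ke xe31 ye25 ze23) (ke xe18 ye54 ze55) (ke xe32 ye34 ze12) (ke xe28 ye14 ze12) (ke xe28 ye53 ze42) (ke xe23 ye53 ze21) (ke xe28 ye56 ze4) (ke xe18 ye55 ze0) (ke xe30 ye43 ze49) (ke xe18 ye55 ze1) (ke xe29 ye1 ze29) (ke xe22 ye53 ze1) (ke xe24 ye6 ze19)) (@D3.rec (fun _ => Pt) (ke xe24 ye46 ze27) (ke xe18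 ye55 ze4) (ke xe26 ye28 ze29) (ke xe18 ye55 ze5) (ke xe31 ye58 ze55) (ke xe27 ye30 ze19) (ke xe29 ye25 ze25) (ke xe18 ye55 ze8) (ke xe28 ye30 ze61) (ke xe23 ye4 ze34) (ke xe18 ye55 ze9) (ke xe23 ye4 ze35) (ke xe30 ye26 ze46) (ke xe18 ye55 ze12) (ke xe23 ye53 ze52) (ke xe31 ye43 ze24) (ke xe22 ye33 ze43) (ke xe25 ye40 ze34) (ke xe19 ye12 ze11) (ke xe22 ye54 ze60) (ke xe32 ye24 ze19) (ke xe30 ye23 ze52) (ke xe29 ye50 ze55) (ke xe31 ye59 ze52) (ke xe27 ye41 ze45) (ke xe26 ye25 ze58) (ke xe23 ye54 ze34) (ke xe25 ye50 ze50) (ke xe18 ye55 ze24) (ke xe28 ye20 ze29) (ke xe31 ye23 ze27) (ke xe32 ye30 ze15) (ke xe18 ye55 ze27) (ke xe20 ye50 ze36) (ke xe25 ye34 ze37) (ke xe30 ye47 ze40) (ke xe29 ye43 ze5) (ke xe18 ye55 ze28) (ke xe30 ye21 ze4) (ke xe29 ye27 ze4) (ke xe24 ye58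 ze29) (ke xe31 ye50 ze17) (ke xe18 ye55 ze31) (ke xe19 ye8 ze22) (ke xe32 ye34 ze17) (ke xe18 ye55 ze34) (ke xe25 ye53 ze23) (ke xe31 ye16 ze55) (ke xe18 ye55 ze36) (ke xe22 ye6 ze46) (ke xe18 ye55 ze38) (ke xe22 ye6 ze49) (ke xe18 ye55 ze40) (ke xe22 ye19 ze37) (ke xe24 ye6 ze47) (ke xe19 ye41 ze27) (ke xe22 ye0 ze27) (ke xe24 ye6 ze44) (ke xe32 ye34 ze20) (ke xe18 ye55 ze46) (ke xe22 ye7 ze4) (ke xe32 ye23 ze19)) (@D3.rec (fun _ => Pt) (ke xe18 ye55 ze48) (ke xe18 ye55 ze49) (ke xe21 ye49 ze41) (ke xe22 ye7 ze7) (ke xe30 ye15 ze18) (ke xe29 ye2 ze6) (ke xe27 ye17 ze11) (ke xe18 ye56 ze0) (ke xe31 ye17 ze60) (ke xe30 ye14 ze54) (ke xe32 ye34 ze26) (ke xe18 ye55 ze57) (ke xe29 ye45 ze29) (ke xe30 ye15 ze59) (ke xe30 ye16 ze10) (ke xe32 ye34 ze24) (ke xe27 ye16 ze0)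 (ke xe27 ye0 ze13) (ke xe18 ye56 ze2) (ke xe20 ye48 ze30) (ke xe28 ye51 ze11) (ke xe28 ye20 ze52) (ke xe32 ye22 ze44) (ke xe18 ye56 ze10) (ke xe26 ye58 ze4) (ke xe28 ye29 ze6) (ke xe19 ye10 ze8) (ke xe18 ye56 ze15) (ke xe23 ye48 ze11) (ke xe26 ye30 ze8) (ke xe28 ye31 ze8) (ke xe32 ye16 ze31) (ke xe32 ye19 ze46) (ke xe18 ye56 ze22) (ke xe29 ye14 ze40) (ke xe21 ye6 ze60) (ke xe29 ye25 ze30) (ke xe18 ye56 ze32) (ke xe26 ye0 ze51) (ke xe18 ye56 ze34) (ke xe31 ye12 ze8) (ke xe23 ye32 ze57) (ke xe26 ye0 ze17) (ke xe19 ye15 ze18) (ke xe19 ye56 ze6) (ke xe23 ye21 ze44) (ke xe31 ye45 ze0) (ke xe22 ye7 ze31) (ke xe31 ye22 ze58) (ke xe29 ye42 ze19) (ke xe18 ye56 ze52) (ke xe31 ye54 ze16) (ke xe18 ye56 ze53) (ke xe28 ye29 ze43) (ke xe28 ye29 ze45) (ke xe26 ye24 ze20) (ke xe18 ye56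 ze56) (ke xe31 ye0 ze19) (ke xe18 ye56 ze59) (ke xe19 ye47 ze60) (ke xe22 ye10 ze41) (ke xe18 ye57 ze7)) (@D3.rec (fun _ => Pt) (ke xe23 ye20 ze1) (ke xe18 ye57 ze9) (ke xe18 ye57 ze13) (ke xe18 ye57 ze11) (ke xe18 ye57 ze18) (ke xe31 ye22 ze40) (ke xe18 ye57 ze24) (ke xe22 ye8 ze61) (ke xe31 ye6 ze44) (ke xe18 ye57 ze25) (ke xe29 ye15 ze59) (ke xe18 ye57 ze32) (ke xe18 ye57 ze35) (ke xe23 ye47 ze7) (ke xe29 ye42 ze60) (ke xe26 ye10 ze53) (ke xe18 ye57 ze37) (ke xe27 ye3 ze28) (ke xe31 ye14 ze17) (ke xe18 ye57 ze39) (ke xe27 ye35 ze46) (ke xe26 ye10 ze46) (ke xe32 ye28 ze50) (ke xe22 ye30 ze61) (ke xe18 ye57 ze43) (ke xe18 ye57 ze44) (ke xe24 ye30 ze27) (ke xe18 ye57 ze46) (ke xe18 ye57 ze47) (ke xe18 ye57 ze50) (ke xe18 ye57 ze49) (ke xe26 ye57 ze7) (ke xe18 ye57 ze52)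 (ke xe19 ye7 ze47) (ke xe30 ye44 ze50) (ke xe18 ye58 ze8) (ke xe19 ye20 ze50) (ke xe18 ye58 ze10) (ke xe23 ye50 ze27) (ke xe32 ye34 ze45) (ke xe28 ye4 ze23) (ke xe19 ye6 ze17) (ke xe23 ye22 ze40) (ke xe18 ye58 ze19) (ke xe27 ye50 ze20) (ke xe31 ye42 ze36) (ke xe27 ye33 ze11) (ke xe27 ye52 ze3) (ke xe26 ye18 ze25) (ke xe18 ye58 ze28) (ke xe28 ye8 ze49) (ke xe21 ye12 ze43) (ke xe27 ye49 ze6) (ke xe24 ye55 ze23) (ke xe18 ye58 ze36) (ke xe27 ye39 ze23) (ke xe26 ye55 ze26) (ke xe23 ye14 ze5) (ke xe18 ye58 ze38) (ke xe29 ye18 ze37) (ke xe22 ye49 ze58) (ke xe18 ye58 ze42)) (@D3.rec (fun _ => Pt) (ke xe26 ye17 ze37) (ke xe31 ye2 ze35) (ke xe24 ye56 ze53) (ke xe25 ye2 ze43) (ke xe20 ye30 ze61) (ke xe29 ye24 ze10) (ke xe24 ye57 ze39) (ke xe29 ye51 ze38) (ke xe21 ye12 ze47) (ke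 xe28 ye12 ze49) (ke xe22 ye50 ze19) (ke xe31 ye33 ze47) (ke xe26 ye7 ze43) (ke xe18 ye58 ze53) (ke xe26 ye14 ze46) (ke xe18 ye58 ze59) (ke xe18 ye59 ze2) (ke xe24 ye28 ze22) (ke xe29 ye24 ze7) (ke xe27 ye5 ze38) (ke xe18 ye59 ze9) (ke xe28 ye28 ze4) (ke xe22 ye34 ze23) (ke xe20 ye32 ze43) (ke xe18 ye59 ze7) (ke xe29 ye18 ze55) (ke xe28 ye0 ze41) (ke xe18 ye59 ze11) (ke xe22 ye50 ze51) (ke xe24 ye9 ze34) (ke xe23 ye18 ze47) (ke xe22 ye55 ze27) (ke xe30 ye26 ze49) (ke xe18 ye59 ze19) (ke xe31 ye16 ze2) (ke xe28 ye33 ze30) (ke xe32 ye34 ze49) (ke xe30 ye24 ze32) (ke xe28 ye13 ze8) (ke xe18 ye59 ze23) (ke xe31 ye10 ze50) (ke xe20 ye35 ze60) (ke xe19 ye6 ze49) (ke xe19 ye3 ze26) (ke xe19 ye11 ze27) (ke xe22 ye14 ze25) (ke xe21 ye38 ze29) (ke xe30 ye30 ze42) (ke xe27 ye57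 ze46) (ke xe26 ye28 ze31) (ke xe31 ye46 ze39) (ke xe30 ye54 ze16) (ke xe18 ye59 ze37) (ke xe23 ye4 ze49) (ke xe28 ye49 ze59) (ke xe18 ye59 ze41) (ke xe26 ye26 ze35) (ke xe31 ye6 ze47) (ke xe30 ye57 ze3) (ke xe21 ye16 ze0) (ke xe18 ye59 ze46) (ke xe18 ye59 ze49)) (@D3.rec (fun _ => Pt) (ke xe24 ye46 ze26) (ke xe21 ye2 ze44) (ke xe24 ye46 ze11) (ke xe20 ye8 ze12) (ke xe30 ye31 ze52) (ke xe28 ye1 ze5) (ke xe27 ye3 ze34) (ke xe20 ye33 ze12) (ke xe26 ye27 ze52) (ke xe28 ye32 ze30) (ke xe19 ye0 ze9) (ke xe20 ye7 ze22) (ke xe29 ye30 ze2) (ke xe26 ye20 ze20) (ke xe31 ye6 ze3) (ke xe20 ye21 ze8) (ke xe32 ye7 ze34) (ke xe31 ye6 ze31) (ke xe23 ye33 ze34) (ke xe19 ye43 ze3) (ke xe26 ye27 ze43) (ke xe26 ye17 ze28) (ke xe32 ye34 ze54) (ke xe29 ye24 ze59) (ke xe31 ye3 ze4) (ke xe19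 ye0 ze26) (ke xe32 ye30 ze8) (ke xe32 ye34 ze56) (ke xe20 ye10 ze2) (ke xe23 ye30 ze15) (ke xe19 ye0 ze29) (ke xe19 ye0 ze31) (ke xe22 ye51 ze23) (ke xe24 ye44 ze60) (ke xe19 ye0 ze36) (ke xe23 ye22 ze9) (ke xe19 ye0 ze39) (ke xe19 ye0 ze40) (ke xe21 ye36 ze8) (ke xe21 ye22 ze52) (ke xe27 ye25 ze34) (ke xe32 ye24 ze51) (ke xe21 ye36 ze17) (ke xe28 ye3 ze6) (ke xe19 ye0 ze46) (ke xe29 ye18 ze57) (ke xe30 ye45 ze42) (ke xe19 ye0 ze50) (ke xe19 ye0 ze52) (ke xe19 ye0 ze54) (ke xe19 ye0 ze56) (ke xe26 ye57 ze33) (ke xe28 ye17 ze10) (ke xe28 ye12 ze8) (ke xe19 ye0 ze59) (ke xe19 ye0 ze61) (ke xe27 ye16 ze40) (ke xe19 ye1 ze7) (ke xe31 ye19 ze47) (ke xe32 ye14 ze27) (ke xe22 ye4 ze3) (ke xe23 ye51 ze60)) (@D3.rec (fun _ => Pt) (ke xe19 ye1 ze14) (ke xe31 ye2 ze36) (ke xe20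 ye50 ze43) (ke xe19 ye1 ze16) (ke xe28 ye26 ze21) (ke xe20 ye33 ze8) (ke xe30 ye53 ze59) (ke xe22 ye30 ze21) (ke xe29 ye14 ze54) (ke xe20 ye33 ze28) (ke xe28 ye13 ze13) (ke xe21 ye15 ze5) (ke xe31 ye0 ze35) (ke xe27 ye3 ze33) (ke xe19 ye1 ze32) (ke xe19 ye1 ze33) (ke xe29 ye29 ze37) (ke xe20 ye31 ze21) (ke xe20 ye52 ze48) (ke xe26 ye26 ze59) (ke xe32 ye33 ze53) (ke xe19 ye1 ze41) (ke xe26 ye27 ze1) (ke xe20 ye36 ze39) (ke xe32 ye34 ze60) (ke xe21 ye2 ze55) (ke xe21 ye13 ze27) (ke xe21 ye55 ze39) (ke xe22 ye48 ze5) (ke xe30 ye25 ze3) (ke xe19 ye2 ze3) (ke xe28 ye22 ze17) (ke xe26 ye27 ze24) (ke xe19 ye2 ze6) (ke xe24 ye59 ze20) (ke xe23 ye52 ze14) (ke xe19 ye2 ze9) (ke xe19 ye2 ze12) (ke xe30 ye45 ze40) (ke xe20 ye10 ze40) (ke xe32 ye35 ze0) (ke xe28 ye5 ze34) (ke xe31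 ye2 ze2) (ke xe19 ye2 ze23) (ke xe32 ye30 ze37) (ke xe32 ye35 ze2) (ke xe32 ye31 ze55) (ke xe31 ye16 ze57) (ke xe32 ye7 ze29) (ke xe19 ye2 ze28) (ke xe32 ye31 ze56) (ke xe30 ye50 ze4) (ke xe23 ye58 ze40) (ke xe25 ye31 ze41) (ke xe31 ye25 ze10) (ke xe19 ye4 ze44) (ke xe22 ye48 ze47) (ke xe32 ye35 ze5) (ke xe23 ye12 ze34) (ke xe19 ye2 ze43) (ke xe19 ye34 ze46) (ke xe28 ye47 ze56)) (@D3.rec (fun _ => Pt) (ke xe32 ye30 ze60) (ke xe32 ye35 ze7) (ke xe28 ye59 ze11) (ke xe19 ye2 ze49) (ke xe24 ye8 ze56) (ke xe27 ye0 ze61) (ke xe28 ye24 ze25) (ke xe19 ye2 ze50) (ke xe31 ye32 ze12) (ke xe32 ye16 ze25) (ke xe19 ye9 ze23) (ke xe32 ye23 ze13) (ke xe19 ye2 ze53) (ke xe19 ye9 ze27) (ke xe32 ye8 ze26) (ke xe22 ye54 ze52) (ke xe19 ye2 ze57) (ke xe32 ye16 ze40) (ke xe30 ye22 ze50) (ke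 xe19 ye9 ze0) (ke xe19 ye2 ze61) (ke xe19 ye9 ze4) (ke xe32 ye35 ze15) (ke xe31 ye18 ze42) (ke xe30 ye56 ze42) (ke xe19 ye3 ze4) (ke xe31 ye21 ze0) (ke xe19 ye3 ze6) (ke xe19 ye3 ze8) (ke xe31 ye18 ze52) (ke xe22 ye56 ze20) (ke xe29 ye35 ze29) (ke xe19 ye11 ze50) (ke xe25 ye47 ze50) (ke xe19 ye37 ze9) (ke xe19 ye3 ze19) (ke xe30 ye49 ze36) (ke xe31 ye18 ze29) (ke xe29 ye1 ze17) (ke xe19 ye21 ze48) (ke xe31 ye38 ze56) (ke xe19 ye3 ze29) (ke xe29 ye8 ze23) (ke xe28 ye24 ze53) (ke xe19 ye7 ze30) (ke xe28 ye24 ze54) (ke xe19 ye3 ze33) (ke xe30 ye27 ze49) (ke xe19 ye3 ze34) (ke xe19 ye3 ze35) (ke xe19 ye6 ze59) (ke xe28 ye43 ze24) (ke xe28 ye43 ze28) (ke xe32 ye28 ze25) (ke xe19 ye3 ze41) (ke xe26 ye11 ze61) (ke xe30 ye6 ze16) (ke xe32 ye35 ze25) (ke xe31 ye25 ze28) (ke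 xe19 ye3 ze56) (ke xe30 ye15 ze48) (ke xe29 ye34 ze58)) (@D3.rec (fun _ => Pt) (ke xe20 ye44 ze12) (ke xe29 ye26 ze21) (ke xe26 ye51 ze40) (ke xe26 ye51 ze51) (ke xe19 ye3 ze54) (ke xe26 ye50 ze45) (ke xe26 ye38 ze54) (ke xe29 ye47 ze17) (ke xe31 ye30 ze43) (ke xe29 ye47 ze19) (ke xe32 ye11 ze18) (ke xe31 ye24 ze52) (ke xe19 ye3 ze57) (ke xe20 ye23 ze60) (ke xe31 ye27 ze29) (ke xe19 ye4 ze1) (ke xe21 ye41 ze25) (ke xe19 ye4 ze9) (ke xe19 ye12 ze58) (ke xe26 ye52 ze45) (ke xe19 ye4 ze7) (ke xe22 ye15 ze29) (ke xe22 ye38 ze39) (ke xe23 ye48 ze19) (ke xe20 ye26 ze58) (ke xe19 ye24 ze16) (ke xe19 ye4 ze19) (ke xe31 ye49 ze17) (ke xe19 ye13 ze22) (ke xe29 ye8 ze21) (ke xe28 ye49 ze47) (ke xe32 ye32 ze55) (ke xe32 ye35 ze34) (ke xe19 ye4 ze17) (ke xe23 ye56 ze35) (ke xe25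 ye6 ze15) (ke xe23 ye56 ze38) (ke xe29 ye41 ze53) (ke xe31 ye49 ze11) (ke xe19 ye4 ze20) (ke xe19 ye4 ze24) (ke xe29 ye8 ze4) (ke xe29 ye2 ze55) (ke xe30 ye37 ze37) (ke xe32 ye31 ze28) (ke xe19 ye4 ze33) (ke xe32 ye16 ze41) (ke xe19 ye4 ze42) (ke xe32 ye35 ze3) (ke xe19 ye18 ze18) (ke xe19 ye4 ze47) (ke xe32 ye32 ze22) (ke xe19 ye4 ze51) (ke xe19 ye4 ze54) (ke xe28 ye21 ze29) (ke xe19 ye4 ze55) (ke xe19 ye4 ze58) (ke xe20 ye44 ze1) (ke xe20 ye54 ze61) (ke xe24 ye46 ze21) (ke xe19 ye5 ze15) (ke xe28 ye23 ze8)) (@D3.rec (fun _ => Pt) (ke xe31 ye39 ze59) (ke xe30 ye30 ze22) (ke xe28 ye39 ze42) (ke xe22 ye22 ze1) (ke xe20 ye59 ze44) (ke xe28 ye42 ze8) (ke xe26 ye43 ze15) (ke xe30 ye35 ze39) (ke xe28 ye24 ze30) (ke xe32 ye23 ze16) (ke xe19 ye5 ze28) (ke xe19 ye5 ze39) (ke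 xe29 ye51 ze23) (ke xe24 ye42 ze19) (ke xe28 ye57 ze43) (ke xe19 ye5 ze42) (ke xe19 ye23 ze40) (ke xe21 ye19 ze37) (ke xe29 ye17 ze16) (ke xe26 ye1 ze21) (ke xe31 ye50 ze47) (ke xe26 ye28 ze19) (ke xe19 ye5 ze58) (ke xe27 ye10 ze59) (ke xe21 ye34 ze21) (ke xe21 ye8 ze46) (ke xe19 ye6 ze2) (ke xe19 ye6 ze4) (ke xe19 ye48 ze10) (ke xe24 ye10 ze50) (ke xe19 ye6 ze7) (ke xe31 ye37 ze55) (ke xe29 ye6 ze17) (ke xe24 ye49 ze13) (ke xe23 ye29 ze14) (ke xe31 ye23 ze57) (ke xe31 ye17 ze11) (ke xe31 ye40 ze55) (ke xe19 ye6 ze9) (ke xe31 ye55 ze16) (ke xe24 ye49 ze6) (ke xe24 ye49 ze5) (ke xe32 ye5 ze17) (ke xe19 ye6 ze13) (ke xe26 ye25 ze9) (ke xe26 ye31 ze39) (ke xe19 ye6 ze18) (ke xe19 ye6 ze19) (ke xe31 ye43 ze35) (ke xe29 ye25 ze2) (ke xe20 ye11 ze6) (ke xe32 ye0 ze25) (ke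 xe19 ye6 ze22) (ke xe21 ye10 ze52) (ke xe32 ye26 ze15) (ke xe24 ye48 ze9) (ke xe31 ye16 ze38) (ke xe31 ye39 ze23) (ke xe29 ye53 ze11) (ke xe19 ye6 ze30) (ke xe24 ye59 ze14) (ke xe23 ye7 ze61)) (@D3.rec (fun _ => Pt) (ke xe31 ye39 ze1) (ke xe19 ye6 ze34) (ke xe31 ye6 ze23) (ke xe19 ye6 ze35) (ke xe32 ye0 ze0) (ke xe22 ye51 ze56) (ke xe32 ye1 ze44) (ke xe26 ye30 ze33) (ke xe25 ye48 ze50) (ke xe29 ye52 ze54) (ke xe25 ye18 ze0) (ke xe28 ye58 ze37) (ke xe29 ye53 ze52) (ke xe19 ye6 ze42) (ke xe24 ye57 ze51) (ke xe19 ye6 ze43) (ke xe32 ye5 ze28) (ke xe29 ye7 ze45) (ke xe19 ye6 ze45) (ke xe24 ye19 ze24) (ke xe21 ye24 ze13) (ke xe32 ye34 ze50) (ke xe32 ye11 ze43) (ke xe22 ye41 ze2) (ke xe27 ye16 ze47) (ke xe31 ye27 ze24) (ke xe32 ye0 ze9) (ke xe28 ye51 ze56) (ke xe27 ye9 ze32)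 (ke xe19 ye6 ze60) (ke xe28 ye27 ze9) (ke xe19 ye6 ze61) (ke xe19 ye12 ze6) (ke xe24 ye13 ze11) (ke xe32 ye35 ze48) (ke xe24 ye13 ze30) (ke xe32 ye17 ze34) (ke xe19 ye7 ze3) (ke xe29 ye1 ze41) (ke xe19 ye30 ze49) (ke xe20 ye27 ze16) (ke xe20 ye52 ze33) (ke xe19 ye7 ze7) (ke xe24 ye52 ze43) (ke xe19 ye7 ze9) (ke xe19 ye28 ze21) (ke xe22 ye15 ze53) (ke xe19 ye7 ze16) (ke xe22 ye22 ze32) (ke xe27 ye9 ze48) (ke xe23 ye53 ze36) (ke xe23 ye15 ze38) (ke xe19 ye7 ze19) (ke xe25 ye50 ze9) (ke xe30 ye43 ze53) (ke xe19 ye7 ze24) (ke xe28 ye55 ze45) (ke xe30 ye38 ze23) (ke xe30 ye22 ze57) (ke xe19 ye7 ze27) (ke xe29 ye35 ze45) (ke xe30 ye50 ze30)) (@D3.rec (fun _ => Pt) (ke xe19 ye7 ze34) (ke xe29 ye8 ze24) (ke xe31 ye22 ze61) (ke xe19 ye7 ze31) (ke xe26 ye51 ze61) (ke xe30 ye29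 ze15) (ke xe32 ye36 ze2) (ke xe19 ye7 ze33) (ke xe32 ye16 ze44) (ke xe19 ye29 ze33) (ke xe32 ye35 ze56) (ke xe31 ye35 ze25) (ke xe30 ye43 ze25) (ke xe19 ye7 ze36) (ke xe29 ye35 ze9) (ke xe19 ye7 ze37) (ke xe20 ye37 ze54) (ke xe26 ye59 ze0) (ke xe31 ye36 ze19) (ke xe19 ye7 ze45) (ke xe24 ye16 ze23) (ke xe20 ye36 ze44) (ke xe19 ye7 ze46) (ke xe19 ye7 ze49) (ke xe26 ye56 ze49) (ke xe19 ye17 ze39) (ke xe24 ye34 ze44) (ke xe26 ye26 ze54) (ke xe30 ye36 ze13) (ke xe19 ye7 ze59) (ke xe28 ye26 ze35) (ke xe31 ye17 ze47) (ke xe23 ye58 ze17) (ke xe27 ye19 ze37) (ke xe23 ye12 ze25) (ke xe32 ye34 ze8) (ke xe24 ye34 ze35) (ke xe26 ye39 ze21) (ke xe29 ye2 ze56) (ke xe32 ye32 ze17) (ke xe19 ye8 ze5) (ke xe31 ye25 ze9) (ke xe26 ye45 ze25) (ke xe32 ye9 ze1) (ke xe32 ye9 ze57) (ke xe22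 ye59 ze14) (ke xe19 ye8 ze7) (ke xe32 ye12 ze42) (ke xe19 ye19 ze3) (ke xe22 ye59 ze10) (ke xe22 ye59 ze11) (ke xe26 ye51 ze33) (ke xe31 ye50 ze34) (ke xe29 ye27 ze55) (ke xe19 ye8 ze13) (ke xe31 ye48 ze34) (ke xe19 ye8 ze14) (ke xe30 ye39 ze44) (ke xe24 ye39 ze0) (ke xe19 ye8 ze16) (ke xe22 ye47 ze61) (ke xe19 ye46 ze37)) (@D3.rec (fun _ => Pt) (ke xe28 ye19 ze28) (ke xe24 ye34 ze37) (ke xe19 ye8 ze18) (ke xe31 ye31 ze45) (ke xe24 ye28 ze53) (ke xe19 ye8 ze21) (ke xe31 ye56 ze36) (ke xe29 ye40 ze2) (ke xe24 ye22 ze8) (ke xe24 ye8 ze29) (ke xe23 ye58 ze44) (ke xe25 ye12 ze47) (ke xe24 ye8 ze57) (ke xe31 ye47 ze11) (ke xe24 ye15 ze46) (ke xe24 ye20 ze15) (ke xe28 ye39 ze1) (ke xe19 ye13 ze18) (ke xe28 ye55 ze38) (ke xe19 ye8 ze42) (ke xe30 ye51 ze14) (ke xe29 ye8 ze6)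 (ke xe31 ye0 ze29) (ke xe19 ye18 ze11) (ke xe28 ye39 ze27) (ke xe19 ye8 ze43) (ke xe30 ye30 ze25) (ke xe22 ye1 ze3) (ke xe24 ye39 ze27) (ke xe23 ye9 ze39) (ke xe22 ye0 ze21) (ke xe19 ye8 ze53) (ke xe28 ye59 ze12) (ke xe30 ye26 ze52) (ke xe31 ye17 ze40) (ke xe23 ye18 ze54) (ke xe27 ye41 ze53) (ke xe30 ye24 ze5) (ke xe31 ye53 ze19) (ke xe22 ye47 ze59) (ke xe19 ye9 ze5) (ke xe27 ye41 ze59) (ke xe31 ye4 ze28) (ke xe25 ye9 ze1) (ke xe19 ye9 ze7) (ke xe30 ye24 ze23) (ke xe19 ye9 ze9) (ke xe29 ye0 ze6) (ke xe24 ye7 ze21) (ke xe19 ye9 ze10) (ke xe19 ye9 ze11) (ke xe26 ye57 ze48) (ke xe29 ye36 ze2) (ke xe24 ye9 ze32) (ke xe31 ye18 ze50) (ke xe29 ye42 ze35) (ke xe29 ye30 ze60) (ke xe26 ye39 ze15) (ke xe26 ye25 ze54) (ke xe19 ye9 ze17) (ke xe27 ye14 ze7) (ke xe32 ye35 ze43)) (@D3.rec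 (fun _ => Pt) (ke xe19 ye9 ze22) (ke xe32 ye30 ze59) (ke xe29 ye35 ze32) (ke xe24 ye30 ze2) (ke xe19 ye9 ze20) (ke xe19 ye20 ze54) (ke xe26 ye1 ze60) (ke xe31 ye33 ze18) (ke xe29 ye26 ze6) (ke xe20 ye56 ze58) (ke xe24 ye4 ze15) (ke xe32 ye36 ze16) (ke xe19 ye22 ze31) (ke xe32 ye15 ze7) (ke xe22 ye25 ze34) (ke xe19 ye9 ze28) (ke xe32 ye34 ze18) (ke xe32 ye36 ze19) (ke xe32 ye36 ze22) (ke xe32 ye36 ze23) (ke xe19 ye9 ze29) (ke xe32 ye3 ze0) (ke xe19 ye9 ze32) (ke xe32 ye3 ze1) (ke xe32 ye33 ze22) (ke xe32 ye30 ze56) (ke xe19 ye9 ze36) (ke xe23 ye55 ze5) (ke xe19 ye9 ze39) (ke xe19 ye9 ze43) (ke xe22 ye33 ze24) (ke xe24 ye53 ze21) (ke xe26 ye27 ze40) (ke xe26 ye22 ze15) (ke xe30 ye49 ze40) (ke xe24 ye6 ze27) (ke xe19 ye9 ze48) (ke xe26 ye27 ze33) (ke xe19 ye9 ze49) (ke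 xe19 ye29 ze54) (ke xe29 ye1 ze55) (ke xe23 ye50 ze41) (ke xe22 ye22 ze35) (ke xe19 ye9 ze53) (ke xe29 ye1 ze57) (ke xe32 ye36 ze27) (ke xe31 ye32 ze42) (ke xe19 ye9 ze55) (ke xe21 ye16 ze2) (ke xe30 ye26 ze17) (ke xe30 ye18 ze20) (ke xe30 ye26 ze16) (ke xe20 ye36 ze48) (ke xe21 ye13 ze49) (ke xe19 ye9 ze61) (ke xe28 ye0 ze19) (ke xe29 ye1 ze13) (ke xe28 ye43 ze4) (ke xe19 ye10 ze3) (ke xe19 ye10 ze4) (ke xe29 ye42 ze52) (ke xe21 ye5 ze1)) (@D3.rec (fun _ => Pt) (ke xe32 ye22 ze46) (ke xe29 ye50 ze2) (ke xe26 ye26 ze51) (ke xe26 ye53 ze49) (ke xe32 ye36 ze31) (ke xe19 ye10 ze11) (ke xe19 ye30 ze18) (ke xe27 ye16 ze43) (ke xe30 ye18 ze37) (ke xe29 ye36 ze55) (ke xe22 ye38 ze26) (ke xe27 ye54 ze45) (ke xe20 ye10 ze41) (ke xe32 ye34 ze61) (ke xe19 ye10 ze16) (ke xe25 ye34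 ze7) (ke xe27 ye56 ze28) (ke xe19 ye10 ze17) (ke xe32 ye32 ze10) (ke xe32 ye35 ze1) (ke xe27 ye54 ze46) (ke xe28 ye57 ze50) (ke xe27 ye49 ze36) (ke xe32 ye26 ze17) (ke xe19 ye10 ze20) (ke xe24 ye7 ze1) (ke xe24 ye7 ze60) (ke xe26 ye58 ze12) (ke xe27 ye50 ze48) (ke xe19 ye10 ze23) (ke xe26 ye21 ze29) (ke xe31 ye5 ze33) (ke xe19 ye10 ze24) (ke xe30 ye26 ze19) (ke xe19 ye30 ze14) (ke xe19 ye10 ze27) (ke xe19 ye10 ze28) (ke xe19 ye10 ze44) (ke xe20 ye47 ze12) (ke xe29 ye50 ze17) (ke xe32 ye17 ze18) (ke xe19 ye10 ze35) (ke xe21 ye47 ze28) (ke xe19 ye10 ze38) (ke xe25 ye9 ze31) (ke xe32 ye36 ze35) (ke xe27 ye36 ze49) (ke xe19 ye10 ze56) (ke xe32 ye36 ze36) (ke xe23 ye43 ze43) (ke xe19 ye10 ze61) (ke xe28 ye4 ze22) (ke xe22 ye28 ze14) (ke xe31 ye52 ze53) (ke xe31 ye48 ze26)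 (ke xe29 ye41 ze36) (ke xe21 ye2 ze9) (ke xe19 ye11 ze6) (ke xe19 ye32 ze50) (ke xe29 ye35 ze61) (ke xe19 ye11 ze17) (ke xe32 ye36 ze37)) (@D3.rec (fun _ => Pt) (ke xe25 ye21 ze34) (ke xe32 ye17 ze55) (ke xe19 ye11 ze12) (ke xe19 ye58 ze16) (ke xe32 ye36 ze41) (ke xe27 ye11 ze50) (ke xe24 ye58 ze38) (ke xe31 ye41 ze53) (ke xe19 ye11 ze16) (ke xe32 ye36 ze42) (ke xe26 ye37 ze41) (ke xe25 ye21 ze40) (ke xe19 ye11 ze19) (ke xe19 ye11 ze20) (ke xe23 ye59 ze49) (ke xe19 ye11 ze23) (ke xe25 ye41 ze21) (ke xe26 ye35 ze7) (ke xe31 ye30 ze5) (ke xe23 ye49 ze24) (ke xe22 ye6 ze44) (ke xe22 ye6 ze45) (ke xe30 ye22 ze53) (ke xe29 ye22 ze52) (ke xe25 ye28 ze29) (ke xe31 ye16 ze23) (ke xe29 ye37 ze28) (ke xe19 ye11 ze32) (ke xe30 ye46 ze9) (ke xe19 ye11 ze34) (ke xe26 ye51 ze15)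 (ke xe26 ye51 ze17) (ke xe23 ye48 ze39) (ke xe26 ye43 ze37) (ke xe19 ye11 ze40) (ke xe19 ye11 ze44) (ke xe28 ye12 ze61) (ke xe30 ye49 ze44) (ke xe21 ye32 ze20) (ke xe23 ye48 ze47) (ke xe32 ye15 ze5) (ke xe29 ye42 ze46) (ke xe29 ye32 ze54) (ke xe32 ye17 ze33) (ke xe31 ye58 ze10) (ke xe28 ye12 ze60) (ke xe32 ye33 ze25) (ke xe31 ye58 ze11) (ke xe23 ye19 ze18) (ke xe24 ye1 ze23) (ke xe23 ye47 ze58) (ke xe30 ye22 ze33) (ke xe22 ye25 ze59) (ke xe31 ye13 ze37) (ke xe31 ye10 ze34) (ke xe29 ye35 ze51) (ke xe24 ye19 ze52) (ke xe19 ye11 ze57) (ke xe27 ye36 ze46) (ke xe19 ye11 ze58) (ke xe26 ye40 ze51) (ke xe29 ye41 ze8)) (@D3.rec (fun _ => Pt) (ke xe19 ye11 ze61) (ke xe32 ye25 ze59) (ke xe29 ye39 ze56) (ke xe26 ye50 ze41) (ke xe31 ye26 ze32) (ke xe22 ye15 ze0) (ke xe23 ye50 ze29)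 (ke xe21 ye16 ze32) (ke xe25 ye56 ze33) (ke xe27 ye1 ze60) (ke xe29 ye42 ze6) (ke xe32 ye34 ze36) (ke xe22 ye59 ze50) (ke xe28 ye22 ze37) (ke xe32 ye33 ze59) (ke xe19 ye12 ze10) (ke xe27 ye15 ze47) (ke xe31 ye16 ze52) (ke xe19 ye12 ze12) (ke xe29 ye18 ze48) (ke xe19 ye12 ze14) (ke xe29 ye19 ze32) (ke xe19 ye12 ze15) (ke xe32 ye9 ze31) (ke xe19 ye12 ze19) (ke xe32 ye36 ze60) (ke xe30 ye23 ze57) (ke xe19 ye12 ze22) (ke xe22 ye50 ze9) (ke xe29 ye24 ze0) (ke xe19 ye12 ze26) (ke xe28 ye13 ze1) (ke xe22 ye5 ze15) (ke xe32 ye37 ze6) (ke xe31 ye10 ze47) (ke xe24 ye5 ze49) (ke xe23 ye14 ze40) (ke xe28 ye56 ze12) (ke xe29 ye35 ze43) (ke xe26 ye30 ze14) (ke xe22 ye35 ze18) (ke xe32 ye17 ze41) (ke xe19 ye12 ze33) (ke xe32 ye37 ze11) (ke xe19 ye12 ze31) (ke xe28 ye22 ze6) (ke xe19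 ye12 ze35) (ke xe30 ye34 ze28) (ke xe19 ye12 ze36) (ke xe28 ye13 ze12) (ke xe26 ye52 ze32) (ke xe28 ye22 ze19) (ke xe29 ye5 ze51) (ke xe26 ye57 ze15) (ke xe31 ye22 ze34) (ke xe31 ye30 ze51) (ke xe19 ye12 ze46) (ke xe30 ye38 ze16) (ke xe25 ye25 ze34) (ke xe30 ye11 ze45) (ke xe30 ye28 ze49) (ke xe31 ye18 ze11)) (@D3.rec (fun _ => Pt) (ke xe20 ye57 ze39) (ke xe28 ye34 ze16) (ke xe24 ye1 ze9) (ke xe19 ye28 ze20) (ke xe21 ye16 ze51) (ke xe30 ye29 ze48) (ke xe31 ye30 ze35) (ke xe24 ye29 ze55) (ke xe19 ye13 ze5) (ke xe19 ye17 ze27) (ke xe31 ye38 ze48) (ke xe31 ye29 ze23) (ke xe24 ye52 ze60) (ke xe32 ye37 ze18) (ke xe19 ye13 ze17) (ke xe20 ye37 ze15) (ke xe32 ye36 ze6) (ke xe28 ye44 ze11) (ke xe30 ye15 ze34) (ke xe20 ye56 ze12) (ke xe29 ye47 ze5) (ke xe19 ye13 ze21) (ke xe32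 ye33 ze49) (ke xe29 ye40 ze25) (ke xe22 ye19 ze23) (ke xe29 ye32 ze36) (ke xe20 ye56 ze35) (ke xe28 ye34 ze24) (ke xe19 ye13 ze25) (ke xe28 ye44 ze23) (ke xe19 ye14 ze7) (ke xe30 ye35 ze9) (ke xe19 ye13 ze27) (ke xe24 ye26 ze31) (ke xe19 ye13 ze28) (ke xe32 ye37 ze25) (ke xe19 ye13 ze29) (ke xe29 ye8 ze25) (ke xe26 ye36 ze5) (ke xe22 ye24 ze3) (ke xe30 ye29 ze14) (ke xe29 ye26 ze15) (ke xe28 ye31 ze2) (ke xe24 ye26 ze37) (ke xe19 ye13 ze35) (ke xe31 ye24 ze56) (ke xe26 ye50 ze48) (ke xe26 ye51 ze29) (ke xe32 ye23 ze31) (ke xe19 ye13 ze39) (ke xe31 ye29 ze17) (ke xe19 ye47 ze22) (ke xe20 ye24 ze19) (ke xe32 ye34 ze2) (ke xe26 ye51 ze46) (ke xe24 ye32 ze4) (ke xe19 ye13 ze42) (ke xe19 ye13 ze43) (ke xe31 ye24 ze54) (ke xe20 ye24 ze4) (ke xe23 ye49 ze27) (ke xe23 ye59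 ze44)) (@D3.rec (fun _ => Pt) (ke xe31 ye58 ze30) (ke xe32 ye37 ze39) (ke xe32 ye37 ze41) (ke xe19 ye13 ze46) (ke xe28 ye50 ze29) (ke xe25 ye32 ze18) (ke xe22 ye0 ze54) (ke xe32 ye37 ze45) (ke xe19 ye13 ze49) (ke xe24 ye26 ze21) (ke xe32 ye34 ze23) (ke xe19 ye13 ze52) (ke xe26 ye39 ze52) (ke xe19 ye13 ze54) (ke xe22 ye1 ze35) (ke xe28 ye18 ze37) (ke xe19 ye13 ze56) (ke xe19 ye13 ze57) (ke xe19 ye13 ze59) (ke xe31 ye55 ze33) (ke xe19 ye13 ze60) (ke xe20 ye57 ze14) (ke xe32 ye13 ze9) (ke xe19 ye14 ze1) (ke xe26 ye35 ze11) (ke xe20 ye55 ze11) (ke xe27 ye0 ze37) (ke xe32 ye37 ze54) (ke xe32 ye37 ze55) (ke xe19 ye14 ze6) (ke xe32 ye37 ze24) (ke xe29 ye45 ze34) (ke xe19 ye14 ze8) (ke xe31 ye33 ze4) (ke xe32 ye37 ze57) (ke xe19 ye14 ze10) (ke xe25 ye8 ze11) (ke xe31 ye55 ze24)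 (ke xe25 ye10 ze8) (ke xe32 ye12 ze0) (ke xe31 ye41 ze32) (ke xe32 ye14 ze25) (ke xe20 ye56 ze42) (ke xe25 ye21 ze47) (ke xe26 ye33 ze23) (ke xe29 ye46 ze12) (ke xe19 ye14 ze24) (ke xe29 ye9 ze20) (ke xe31 ye47 ze2) (ke xe19 ye14 ze25) (ke xe19 ye14 ze27) (ke xe29 ye57 ze51) (ke xe23 ye34 ze49) (ke xe21 ye33 ze43) (ke xe30 ye59 ze45) (ke xe19 ye14 ze32) (ke xe29 ye52 ze14) (ke xe19 ye14 ze34) (ke xe30 ye59 ze28) (ke xe19 ye14 ze35) (ke xe27 ye7 ze54) (ke xe31 ye12 ze24)) (@D3.rec (fun _ => Pt) (ke xe29 ye51 ze21) (ke xe23 ye15 ze33) (ke xe19 ye26 ze20) (ke xe30 ye59 ze1) (ke xe19 ye14 ze40) (ke xe29 ye29 ze14) (ke xe30 ye57 ze60) (ke xe32 ye38 ze9) (ke xe19 ye14 ze41) (ke xe19 ye14 ze45) (ke xe25 ye40 ze49) (ke xe24 ye27 ze57) (ke xe22 ye41 ze5) (ke xe21 ye34 ze31)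 (ke xe23 ye36 ze7) (ke xe19 ye14 ze47) (ke xe31 ye2 ze38) (ke xe24 ye43 ze15) (ke xe19 ye14 ze48) (ke xe27 ye19 ze52) (ke xe19 ye14 ze52) (ke xe27 ye27 ze34) (ke xe19 ye14 ze53) (ke xe26 ye2 ze22) (ke xe30 ye1 ze15) (ke xe30 ye39 ze17) (ke xe19 ye14 ze58) (ke xe19 ye14 ze60) (ke xe26 ye41 ze0) (ke xe19 ye15 ze0) (ke xe19 ye15 ze2) (ke xe19 ye15 ze7) (ke xe23 ye24 ze52) (ke xe19 ye15 ze12) (ke xe30 ye59 ze58) (ke xe19 ye15 ze15) (ke xe32 ye32 ze24) (ke xe32 ye34 ze30) (ke xe27 ye27 ze37) (ke xe19 ye15 ze26) (ke xe30 ye27 ze58) (ke xe27 ye27 ze14) (ke xe26 ye12 ze1) (ke xe26 ye11 ze39) (ke xe32 ye5 ze49) (ke xe19 ye15 ze32) (ke xe19 ye15 ze43) (ke xe31 ye23 ze53) (ke xe29 ye34 ze60) (ke xe21 ye18 ze59) (ke xe24 ye28 ze59) (ke xe23 ye11 ze22) (ke xe28 ye59 ze59) (ke xe19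 ye15 ze44) (ke xe25 ye50 ze47) (ke xe21 ye48 ze40) (ke xe19 ye15 ze50) (ke xe29 ye0 ze2) (ke xe26 ye0 ze10) (ke xe20 ye3 ze46) (ke xe19 ye16 ze16) (ke xe24 ye41 ze20)) (@D3.rec (fun _ => Pt) (ke xe31 ye49 ze12) (ke xe19 ye15 ze54) (ke xe19 ye16 ze0) (ke xe30 ye46 ze11) (ke xe29 ye22 ze26) (ke xe20 ye46 ze25) (ke xe19 ye24 ze27) (ke xe29 ye16 ze41) (ke xe28 ye31 ze5) (ke xe19 ye35 ze36) (ke xe19 ye16 ze9) (ke xe29 ye12 ze37) (ke xe32 ye15 ze20) (ke xe19 ye34 ze33) (ke xe19 ye34 ze36) (ke xe24 ye14 ze40) (ke xe19 ye16 ze12) (ke xe24 ye14 ze22) (ke xe25 ye28 ze14) (ke xe19 ye16 ze14) (ke xe30 ye13 ze11) (ke xe20 ye29 ze10) (ke xe31 ye48 ze45) (ke xe24 ye41 ze19) (ke xe31 ye49 ze15) (ke xe29 ye48 ze30) (ke xe19 ye33 ze30) (ke xe28 ye12 ze58) (ke xe26 ye50 ze25) (ke xe24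 ye39 ze41) (ke xe31 ye47 ze8) (ke xe19 ye16 ze21) (ke xe19 ye16 ze22) (ke xe26 ye36 ze46) (ke xe31 ye35 ze26) (ke xe30 ye9 ze25) (ke xe31 ye21 ze12) (ke xe30 ye9 ze57) (ke xe19 ye16 ze26) (ke xe31 ye34 ze58) (ke xe19 ye16 ze30) (ke xe19 ye16 ze36) (ke xe21 ye29 ze36) (ke xe19 ye16 ze46) (ke xe30 ye33 ze44) (ke xe24 ye49 ze10) (ke xe29 ye39 ze40) (ke xe19 ye16 ze50) (ke xe27 ye18 ze36) (ke xe32 ye38 ze14) (ke xe32 ye38 ze13) (ke xe19 ye16 ze53) (ke xe19 ye16 ze54) (ke xe30 ye42 ze22) (ke xe27 ye46 ze47) (ke xe26 ye11 ze28) (ke xe30 ye52 ze46) (ke xe19 ye17 ze4) (ke xe19 ye17 ze5) (ke xe20 ye20 ze42) (ke xe27 ye43 ze25) (ke xe21 ye46 ze29)) (@D3.rec (fun _ => Pt) (ke xe26 ye14 ze42) (ke xe19 ye17 ze25) (ke xe31 ye20 ze45) (ke xe19 ye17 ze26) (ke xe28 ye35 ze57) (ke xe28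 ye52 ze19) (ke xe19 ye17 ze34) (ke xe29 ye8 ze30) (ke xe31 ye28 ze34) (ke xe32 ye17 ze23) (ke xe19 ye17 ze42) (ke xe25 ye51 ze53) (ke xe21 ye55 ze0) (ke xe26 ye56 ze48) (ke xe27 ye37 ze2) (ke xe19 ye17 ze47) (ke xe19 ye17 ze51) (ke xe19 ye17 ze52) (ke xe23 ye48 ze23) (ke xe21 ye11 ze36) (ke xe30 ye57 ze23) (ke xe32 ye29 ze28) (ke xe19 ye17 ze58) (ke xe23 ye22 ze2) (ke xe28 ye29 ze51) (ke xe20 ye41 ze53) (ke xe32 ye38 ze18) (ke xe19 ye17 ze61) (ke xe28 ye29 ze52) (ke xe30 ye50 ze31) (ke xe20 ye0 ze11) (ke xe20 ye8 ze22) (ke xe23 ye53 ze39) (ke xe20 ye23 ze36) (ke xe26 ye51 ze47) (ke xe19 ye21 ze20) (ke xe19 ye18 ze16) (ke xe31 ye31 ze44) (ke xe32 ye9 ze55) (ke xe31 ye10 ze6) (ke xe19 ye18 ze21) (ke xe32 ye38 ze20) (ke xe19 ye18 ze23) (ke xe24 ye31 ze27) (ke xe19 ye18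 ze24) (ke xe30 ye59 ze43) (ke xe19 ye18 ze25) (ke xe30 ye58 ze44) (ke xe23 ye18 ze14) (ke xe32 ye38 ze21) (ke xe19 ye18 ze26) (ke xe30 ye46 ze13) (ke xe26 ye2 ze24) (ke xe23 ye38 ze21) (ke xe30 ye32 ze49) (ke xe19 ye18 ze29) (ke xe29 ye52 ze32) (ke xe19 ye18 ze32) (ke xe23 ye3 ze24) (ke xe25 ye42 ze6) (ke xe32 ye38 ze23) (ke xe23 ye33 ze52)) (@D3.rec (fun _ => Pt) (ke xe19 ye18 ze52) (ke xe19 ye18 ze47) (ke xe24 ye15 ze27) (ke xe32 ye35 ze23) (ke xe23 ye59 ze31) (ke xe32 ye5 ze47) (ke xe32 ye28 ze10) (ke xe24 ye47 ze33) (ke xe19 ye18 ze53) (ke xe27 ye59 ze25) (ke xe19 ye18 ze55) (ke xe28 ye39 ze17) (ke xe19 ye34 ze37) (ke xe30 ye36 ze32) (ke xe19 ye52 ze47) (ke xe29 ye8 ze3) (ke xe24 ye12 ze61) (ke xe19 ye19 ze6) (ke xe29 ye8 ze51) (ke xe23 ye57 ze23) (ke xe29 ye3 ze22)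 (ke xe29 ye45 ze27) (ke xe20 ye39 ze16) (ke xe28 ye39 ze29) (ke xe29 ye10 ze37) (ke xe26 ye41 ze26) (ke xe19 ye19 ze19) (ke xe29 ye45 ze11) (ke xe20 ye39 ze5) (ke xe30 ye56 ze46) (ke xe31 ye17 ze35) (ke xe32 ye18 ze40) (ke xe29 ye56 ze12) (ke xe26 ye37 ze21) (ke xe24 ye26 ze45) (ke xe19 ye19 ze25) (ke xe32 ye23 ze6) (ke xe32 ye38 ze30) (ke xe32 ye38 ze31) (ke xe19 ye19 ze28) (ke xe19 ye19 ze29) (ke xe21 ye53 ze16) (ke xe19 ye19 ze32) (ke xe27 ye21 ze51) (ke xe31 ye35 ze41) (ke xe32 ye19 ze60) (ke xe19 ye19 ze37) (ke xe23 ye52 ze31) (ke xe19 ye19 ze47) (ke xe25 ye29 ze54) (ke xe19 ye19 ze51) (ke xe24 ye17 ze18) (ke xe19 ye19 ze52) (ke xe29 ye8 ze18) (ke xe19 ye19 ze54) (ke xe30 ye24 ze56) (ke xe21 ye23 ze5) (ke xe20 ye20 ze43) (ke xe24 ye36 ze35) (ke xe30 ye28 ze35)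 (ke xe19 ye20 ze0) (ke xe19 ye20 ze1)) (@D3.rec (fun _ => Pt) (ke xe30 ye28 ze41) (ke xe23 ye50 ze0) (ke xe22 ye6 ze54) (ke xe30 ye20 ze58) (ke xe19 ye20 ze5) (ke xe19 ye23 ze51) (ke xe19 ye20 ze10) (ke xe24 ye52 ze51) (ke xe31 ye28 ze35) (ke xe19 ye20 ze16) (ke xe31 ye32 ze16) (ke xe24 ye50 ze59) (ke xe19 ye20 ze18) (ke xe25 ye9 ze28) (ke xe29 ye2 ze45) (ke xe31 ye40 ze40) (ke xe19 ye20 ze23) (ke xe32 ye38 ze34) (ke xe32 ye38 ze35) (ke xe19 ye20 ze24) (ke xe24 ye48 ze61) (ke xe31 ye21 ze24) (ke xe31 ye41 ze0) (ke xe30 ye3 ze20) (ke xe19 ye20 ze27) (ke xe32 ye35 ze41) (ke xe31 ye31 ze28) (ke xe19 ye20 ze29) (ke xe19 ye20 ze30) (ke xe23 ye50 ze57) (ke xe32 ye17 ze37) (ke xe32 ye29 ze20) (ke xe25 ye21 ze31) (ke xe19 ye20 ze34) (ke xe22 ye27 ze33) (ke xe32 ye38 ze37) (ke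 xe19 ye20 ze38) (ke xe27 ye51 ze18) (ke xe30 ye42 ze51) (ke xe32 ye26 ze44) (ke xe19 ye20 ze48) (ke xe27 ye22 ze34) (ke xe28 ye20 ze53) (ke xe22 ye40 ze19) (ke xe19 ye20 ze60) (ke xe20 ye52 ze2) (ke xe31 ye12 ze36) (ke xe20 ye47 ze6) (ke xe29 ye29 ze49) (ke xe30 ye3 ze24) (ke xe30 ye27 ze29) (ke xe19 ye21 ze8) (ke xe30 ye24 ze35) (ke xe19 ye21 ze12) (ke xe20 ye32 ze33) (ke xe19 ye21 ze23) (ke xe19 ye21 ze29) (ke xe29 ye24 ze58) (ke xe19 ye21 ze31) (ke xe31 ye58 ze14) (ke xe30 ye11 ze59) (ke xe32 ye21 ze40)) (@D3.rec (fun _ => Pt) (ke xe19 ye21 ze36) (ke xe32 ye28 ze57) (ke xe19 ye21 ze37) (ke xe27 ye22 ze35) (ke xe27 ye34 ze33) (ke xe32 ye0 ze32) (ke xe19 ye21 ze52) (ke xe24 ye40 ze35) (ke xe25 ye56 ze12) (ke xe28 ye22 ze7) (ke xe31 ye55 ze40) (ke xe29 ye39 ze21) (ke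 xe23 ye56 ze46) (ke xe19 ye21 ze42) (ke xe25 ye56 ze14) (ke xe29 ye40 ze21) (ke xe19 ye21 ze53) (ke xe31 ye18 ze4) (ke xe24 ye22 ze46) (ke xe22 ye18 ze47) (ke xe24 ye19 ze25) (ke xe29 ye28 ze1) (ke xe19 ye21 ze49) (ke xe30 ye54 ze3) (ke xe31 ye29 ze26) (ke xe32 ye30 ze5) (ke xe28 ye52 ze28) (ke xe25 ye46 ze55) (ke xe19 ye21 ze60) (ke xe30 ye14 ze44) (ke xe28 ye20 ze10) (ke xe32 ye37 ze10) (ke xe27 ye53 ze61) (ke xe22 ye50 ze4) (ke xe31 ye15 ze10) (ke xe26 ye27 ze30) (ke xe30 ye26 ze21) (ke xe19 ye22 ze6) (ke xe32 ye38 ze41) (ke xe32 ye38 ze42) (ke xe28 ye22 ze30) (ke xe19 ye22 ze10) (ke xe25 ye46 ze47) (ke xe30 ye36 ze34) (ke xe19 ye22 ze15) (ke xe26 ye53 ze0) (ke xe27 ye10 ze38) (ke xe22 ye18 ze52) (ke xe19 ye22 ze24) (ke xe32 ye21 ze44) (ke xe19 ye22 ze34) (ke xe32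 ye7 ze61) (ke xe19 ye22 ze35) (ke xe31 ye17 ze14) (ke xe22 ye18 ze12) (ke xe27 ye54 ze8) (ke xe25 ye34 ze11) (ke xe27 ye51 ze32) (ke xe32 ye25 ze50) (ke xe31 ye21 ze13) (ke xe25 ye19 ze29) (ke xe32 ye38 ze46)) (@D3.rec (fun _ => Pt) (ke xe29 ye27 ze36) (ke xe25 ye22 ze57) (ke xe32 ye38 ze47) (ke xe19 ye22 ze46) (ke xe20 ye27 ze41) (ke xe21 ye10 ze6) (ke xe24 ye43 ze40) (ke xe21 ye4 ze39) (ke xe28 ye59 ze4) (ke xe22 ye13 ze10) (ke xe24 ye12 ze15) (ke xe26 ye30 ze48) (ke xe30 ye45 ze27) (ke xe22 ye42 ze60) (ke xe19 ye22 ze60) (ke xe19 ye23 ze0) (ke xe31 ye14 ze28) (ke xe29 ye31 ze43) (ke xe24 ye8 ze27) (ke xe22 ye18 ze8) (ke xe32 ye29 ze16) (ke xe25 ye45 ze38) (ke xe19 ye23 ze9) (ke xe19 ye23 ze11) (ke xe19 ye23 ze14) (ke xe19 ye23 ze19) (ke xe24 ye2 ze46) (ke xe19 ye23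 ze24) (ke xe19 ye23 ze25) (ke xe30 ye1 ze43) (ke xe24 ye19 ze43) (ke xe26 ye53 ze51) (ke xe32 ye14 ze50) (ke xe23 ye5 ze47) (ke xe19 ye23 ze39) (ke xe19 ye28 ze56) (ke xe19 ye29 ze0) (ke xe30 ye27 ze51) (ke xe19 ye23 ze46) (ke xe19 ye23 ze47) (ke xe30 ye39 ze19) (ke xe31 ye22 ze26) (ke xe29 ye21 ze11) (ke xe24 ye4 ze36) (ke xe32 ye38 ze11) (ke xe19 ye23 ze53) (ke xe29 ye16 ze15) (ke xe19 ye23 ze54) (ke xe23 ye0 ze22) (ke xe26 ye22 ze7) (ke xe19 ye51 ze16) (ke xe19 ye24 ze0) (ke xe20 ye0 ze44) (ke xe19 ye30 ze57) (ke xe19 ye30 ze17) (ke xe27 ye37 ze23) (ke xe28 ye28 ze61) (ke xe19 ye24 ze5) (ke xe32 ye15 ze47) (ke xe22 ye20 ze42) (ke xe29 ye48 ze25) (ke xe19 ye29 ze32)) (@D3.rec (fun _ => Pt) (ke xe31 ye18 ze27) (ke xe19 ye24 ze12) (ke xe32 ye33 ze61) (ke xe23 ye11 ze27)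 (ke xe19 ye33 ze38) (ke xe19 ye24 ze19) (ke xe19 ye24 ze23) (ke xe19 ye34 ze5) (ke xe22 ye59 ze7) (ke xe19 ye24 ze26) (ke xe32 ye35 ze33) (ke xe32 ye36 ze5) (ke xe29 ye35 ze28) (ke xe19 ye24 ze29) (ke xe32 ye38 ze54) (ke xe29 ye15 ze35) (ke xe19 ye24 ze30) (ke xe19 ye24 ze32) (ke xe28 ye18 ze19) (ke xe25 ye12 ze41) (ke xe19 ye24 ze34) (ke xe20 ye43 ze52) (ke xe30 ye4 ze7) (ke xe24 ye24 ze10) (ke xe25 ye35 ze61) (ke xe25 ye53 ze58) (ke xe22 ye54 ze56) (ke xe32 ye14 ze38) (ke xe22 ye0 ze17) (ke xe24 ye17 ze39) (ke xe22 ye3 ze3) (ke xe26 ye46 ze20) (ke xe27 ye18 ze48) (ke xe19 ye24 ze61) (ke xe29 ye12 ze2) (ke xe32 ye0 ze15) (ke xe21 ye15 ze46) (ke xe24 ye4 ze49) (ke xe19 ye25 ze12) (ke xe19 ye25 ze13) (ke xe19 ye41 ze29) (ke xe26 ye23 ze33) (ke xe21 ye15 ze50) (ke xe20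 ye25 ze14) (ke xe27 ye38 ze3) (ke xe22 ye27 ze39) (ke xe30 ye4 ze38) (ke xe24 ye30 ze10) (ke xe31 ye30 ze32) (ke xe29 ye29 ze52) (ke xe24 ye1 ze42) (ke xe23 ye59 ze54) (ke xe27 ye39 ze21) (ke xe30 ye29 ze9) (ke xe19 ye25 ze32) (ke xe24 ye1 ze38) (ke xe20 ye23 ze10) (ke xe27 ye10 ze26) (ke xe27 ye7 ze34) (ke xe30 ye25 ze53) (ke xe30 ye29 ze24) (ke xe19 ye25 ze35)) (@D3.rec (fun _ => Pt) (ke xe32 ye38 ze61) (ke xe32 ye12 ze50) (ke xe22 ye0 ze47) (ke xe30 ye49 ze12) (ke xe32 ye19 ze11) (ke xe28 ye58 ze26) (ke xe32 ye20 ze11) (ke xe32 ye19 ze24) (ke xe19 ye25 ze41) (ke xe20 ye7 ze39) (ke xe24 ye10 ze27) (ke xe25 ye50 ze45) (ke xe31 ye30 ze49) (ke xe19 ye25 ze48) (ke xe24 ye14 ze28) (ke xe31 ye12 ze50) (ke xe19 ye25 ze49) (ke xe31 ye51 ze32) (ke xe19 ye44 ze10) (ke xe19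 ye25 ze58) (ke xe29 ye7 ze4) (ke xe28 ye19 ze23) (ke xe20 ye25 ze40) (ke xe19 ye36 ze52) (ke xe29 ye4 ze41) (ke xe19 ye26 ze10) (ke xe32 ye30 ze52) (ke xe30 ye9 ze53) (ke xe19 ye26 ze12) (ke xe32 ye2 ze8) (ke xe32 ye28 ze16) (ke xe30 ye42 ze0) (ke xe19 ye55 ze3) (ke xe19 ye53 ze52) (ke xe19 ye26 ze28) (ke xe26 ye8 ze27) (ke xe21 ye56 ze16) (ke xe31 ye0 ze59) (ke xe19 ye26 ze35) (ke xe24 ye22 ze5) (ke xe31 ye37 ze33) (ke xe25 ye42 ze56) (ke xe31 ye57 ze30) (ke xe29 ye34 ze44) (ke xe25 ye42 ze42) (ke xe25 ye42 ze18) (ke xe19 ye26 ze43) (ke xe28 ye30 ze30) (ke xe26 ye44 ze11) (ke xe28 ye56 ze2) (ke xe19 ye26 ze58) (ke xe19 ye26 ze59) (ke xe20 ye5 ze25) (ke xe32 ye21 ze34) (ke xe19 ye27 ze0) (ke xe19 ye27 ze5) (ke xe27 ye15 ze24) (ke xe28 ye13 ze42) (ke xe19 ye27 ze7) (ke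 xe28 ye26 ze54) (ke xe30 ye45 ze14) (ke xe31 ye28 ze33)) (@D3.rec (fun _ => Pt) (ke xe30 ye44 ze14) (ke xe26 ye55 ze50) (ke xe22 ye23 ze4) (ke xe19 ye27 ze11) (ke xe19 ye27 ze12) (ke xe29 ye55 ze5) (ke xe19 ye27 ze16) (ke xe28 ye21 ze13) (ke xe30 ye55 ze25) (ke xe19 ye27 ze27) (ke xe32 ye19 ze20) (ke xe19 ye27 ze32) (ke xe30 ye44 ze15) (ke xe21 ye52 ze30) (ke xe29 ye53 ze41) (ke xe20 ye28 ze27) (ke xe19 ye27 ze48) (ke xe19 ye27 ze49) (ke xe19 ye27 ze51) (ke xe31 ye0 ze47) (ke xe19 ye28 ze0) (ke xe23 ye33 ze60) (ke xe27 ye15 ze2) (ke xe24 ye24 ze34) (ke xe19 ye28 ze10) (ke xe24 ye0 ze42) (ke xe19 ye28 ze12) (ke xe32 ye18 ze59) (ke xe26 ye34 ze54) (ke xe28 ye40 ze4) (ke xe32 ye13 ze11) (ke xe19 ye28 ze23) (ke xe22 ye56 ze21) (ke xe20 ye35 ze7) (ke xe19 ye28 ze26) (ke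 xe22 ye0 ze14) (ke xe24 ye8 ze5) (ke xe19 ye28 ze27) (ke xe30 ye46 ze8) (ke xe19 ye28 ze28) (ke xe23 ye55 ze49) (ke xe25 ye52 ze39) (ke xe32 ye39 ze19) (ke xe31 ye51 ze13) (ke xe32 ye30 ze49) (ke xe19 ye28 ze30) (ke xe22 ye10 ze61) (ke xe19 ye28 ze31) (ke xe30 ye47 ze11) (ke xe19 ye28 ze32) (ke xe23 ye55 ze54) (ke xe32 ye39 ze24) (ke xe24 ye9 ze60) (ke xe19 ye28 ze34) (ke xe27 ye1 ze0) (ke xe19 ye28 ze35) (ke xe19 ye28 ze37) (ke xe32 ye39 ze25) (ke xe19 ye28 ze51) (ke xe24 ye10 ze52) (ke xe32 ye15 ze18) (ke xe29 ye48 ze26)) (@D3.rec (fun _ => Pt) (ke xe29 ye7 ze53) (ke xe24 ye54 ze38) (ke xe19 ye28 ze53) (ke xe19 ye28 ze57) (ke xe31 ye28 ze52) (ke xe22 ye47 ze8) (ke xe31 ye53 ze36) (ke xe19 ye29 ze3) (ke xe29 ye33 ze59) (ke xe19 ye28 ze60) (ke xe32 ye14 ze56) (ke xe28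 ye24 ze20) (ke xe22 ye0 ze50) (ke xe30 ye14 ze51) (ke xe32 ye39 ze28) (ke xe31 ye18 ze38) (ke xe19 ye29 ze6) (ke xe25 ye13 ze46) (ke xe28 ye18 ze22) (ke xe28 ye18 ze23) (ke xe19 ye29 ze12) (ke xe19 ye29 ze13) (ke xe25 ye22 ze40) (ke xe25 ye20 ze22) (ke xe25 ye19 ze43) (ke xe19 ye58 ze14) (ke xe29 ye43 ze39) (ke xe31 ye40 ze14) (ke xe31 ye51 ze4) (ke xe24 ye33 ze17) (ke xe19 ye29 ze18) (ke xe29 ye11 ze18) (ke xe20 ye12 ze5) (ke xe32 ye3 ze23) (ke xe22 ye21 ze29) (ke xe31 ye52 ze18) (ke xe32 ye39 ze34) (ke xe32 ye39 ze35) (ke xe19 ye29 ze23) (ke xe19 ye29 ze25) (ke xe25 ye20 ze34) (ke xe31 ye30 ze0) (ke xe31 ye55 ze36) (ke xe19 ye29 ze27) (ke xe26 ye58 ze13) (ke xe32 ye8 ze36) (ke xe23 ye10 ze18) (ke xe28 ye22 ze1) (ke xe25 ye19 ze28) (ke xe22 ye39 ze51) (ke xe19 ye58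 ze23) (ke xe31 ye23 ze11) (ke xe27 ye12 ze1) (ke xe29 ye35 ze46) (ke xe30 ye22 ze36) (ke xe32 ye39 ze40) (ke xe28 ye32 ze27) (ke xe28 ye14 ze48) (ke xe27 ye2 ze22) (ke xe19 ye29 ze43) (ke xe30 ye22 ze8) (ke xe23 ye11 ze11)) (@D3.rec (fun _ => Pt) (ke xe32 ye39 ze46) (ke xe19 ye29 ze40) (ke xe27 ye2 ze26) (ke xe21 ye38 ze37) (ke xe28 ye16 ze28) (ke xe28 ye16 ze43) (ke xe19 ye29 ze42) (ke xe32 ye39 ze43) (ke xe19 ye29 ze44) (ke xe30 ye19 ze1) (ke xe30 ye19 ze2) (ke xe30 ye26 ze11) (ke xe19 ye29 ze52) (ke xe26 ye57 ze12) (ke xe26 ye52 ze54) (ke xe29 ye53 ze39) (ke xe29 ye48 ze13) (ke xe23 ye11 ze45) (ke xe23 ye53 ze38) (ke xe28 ye43 ze5) (ke xe19 ye29 ze55) (ke xe22 ye33 ze26) (ke xe19 ye29 ze60) (ke xe29 ye1 ze58) (ke xe30 ye12 ze8) (ke xe27 ye19 ze12) (ke xe20 ye28 ze14)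 (ke xe19 ye29 ze58) (ke xe28 ye46 ze26) (ke xe23 ye45 ze37) (ke xe26 ye57 ze23) (ke xe24 ye25 ze26) (ke xe29 ye53 ze40) (ke xe30 ye16 ze0) (ke xe23 ye56 ze23) (ke xe19 ye30 ze0) (ke xe22 ye7 ze22) (ke xe31 ye58 ze54) (ke xe27 ye17 ze12) (ke xe19 ye30 ze5) (ke xe30 ye14 ze58) (ke xe30 ye14 ze52) (ke xe32 ye39 ze54) (ke xe24 ye17 ze8) (ke xe30 ye16 ze1) (ke xe19 ye30 ze8) (ke xe32 ye0 ze47) (ke xe32 ye31 ze59) (ke xe32 ye15 ze8) (ke xe24 ye7 ze61) (ke xe29 ye21 ze36) (ke xe30 ye49 ze22) (ke xe29 ye21 ze40) (ke xe27 ye4 ze60) (ke xe24 ye39 ze23) (ke xe32 ye38 ze12) (ke xe30 ye18 ze35) (ke xe28 ye16 ze33) (ke xe32 ye39 ze57) (ke xe29 ye52 ze27) (ke xe32 ye20 ze13) (ke xe19 ye30 ze25)) (@D3.rec (fun _ => Pt) (ke xe30 ye15 ze61) (ke xe32 ye20 ze36) (ke xe28 ye16 ze34) (ke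 xe19 ye30 ze26) (ke xe30 ye48 ze58) (ke xe19 ye30 ze27) (ke xe19 ye30 ze28) (ke xe24 ye39 ze21) (ke xe30 ye25 ze5) (ke xe19 ye30 ze30) (ke xe24 ye6 ze39) (ke xe19 ye30 ze33) (ke xe29 ye1 ze31) (ke xe31 ye17 ze54) (ke xe19 ye30 ze32) (ke xe24 ye6 ze25) (ke xe31 ye36 ze36) (ke xe19 ye30 ze36) (ke xe30 ye26 ze38) (ke xe19 ye30 ze37) (ke xe27 ye56 ze42) (ke xe30 ye37 ze49) (ke xe32 ye15 ze14) (ke xe32 ye3 ze5) (ke xe19 ye30 ze39) (ke xe22 ye41 ze50) (ke xe19 ye30 ze42) (ke xe29 ye1 ze39) (ke xe30 ye46 ze44) (ke xe32 ye40 ze6) (ke xe32 ye40 ze4) (ke xe22 ye25 ze53) (ke xe24 ye6 ze57) (ke xe26 ye22 ze16) (ke xe23 ye12 ze43) (ke xe19 ye30 ze46) (ke xe23 ye4 ze28) (ke xe32 ye3 ze4) (ke xe25 ye26 ze42) (ke xe22 ye57 ze47) (ke xe29 ye7 ze52) (ke xe29 ye32 ze30) (ke xe28 ye22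 ze53) (ke xe19 ye30 ze51) (ke xe32 ye40 ze10) (ke xe19 ye30 ze53) (ke xe22 ye0 ze41) (ke xe22 ye40 ze31) (ke xe24 ye0 ze15) (ke xe19 ye31 ze28) (ke xe29 ye15 ze18) (ke xe19 ye31 ze8) (ke xe20 ye1 ze43) (ke xe24 ye21 ze55) (ke xe19 ye31 ze15) (ke xe28 ye21 ze60) (ke xe31 ye39 ze7) (ke xe24 ye0 ze18) (ke xe28 ye58 ze7) (ke xe23 ye11 ze28) (ke xe31 ye36 ze44) (ke xe19 ye31 ze23)) (@D3.rec (fun _ => Pt) (ke xe25 ye43 ze35) (ke xe31 ye26 ze52) (ke xe26 ye37 ze14) (ke xe30 ye53 ze36) (ke xe24 ye13 ze28) (ke xe19 ye31 ze35) (ke xe19 ye46 ze11) (ke xe25 ye43 ze23) (ke xe30 ye14 ze59) (ke xe19 ye31 ze37) (ke xe20 ye58 ze52) (ke xe21 ye57 ze60) (ke xe20 ye39 ze31) (ke xe31 ye35 ze51) (ke xe19 ye31 ze44) (ke xe20 ye39 ze45) (ke xe22 ye4 ze2) (ke xe32 ye40 ze12) (ke xe19 ye31 ze46)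 (ke xe31 ye26 ze3) (ke xe19 ye31 ze50) (ke xe24 ye33 ze25) (ke xe20 ye58 ze49) (ke xe30 ye28 ze13) (ke xe25 ye22 ze27) (ke xe29 ye34 ze4) (ke xe32 ye40 ze19) (ke xe28 ye56 ze31) (ke xe29 ye40 ze51) (ke xe29 ye31 ze27) (ke xe26 ye39 ze17) (ke xe30 ye31 ze2) (ke xe29 ye34 ze30) (ke xe32 ye33 ze10) (ke xe19 ye32 ze0) (ke xe32 ye40 ze23) (ke xe29 ye3 ze23) (ke xe26 ye40 ze59) (ke xe19 ye31 ze56) (ke xe32 ye40 ze25) (ke xe19 ye31 ze57) (ke xe19 ye31 ze59) (ke xe29 ye34 ze22) (ke xe19 ye31 ze60) (ke xe29 ye34 ze11) (ke xe19 ye31 ze61) (ke xe19 ye32 ze1) (ke xe29 ye14 ze25) (ke xe31 ye53 ze16) (ke xe32 ye40 ze28) (ke xe19 ye32 ze4) (ke xe19 ye32 ze5) (ke xe19 ye32 ze8) (ke xe29 ye47 ze38) (ke xe19 ye32 ze12) (ke xe20 ye39 ze48) (ke xe19 ye32 ze16) (ke xe28 ye55 ze57) (ke xe32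 ye11 ze28) (ke xe25 ye33 ze0) (ke xe31 ye56 ze12) (ke xe28 ye13 ze5)) (@D3.rec (fun _ => Pt) (ke xe23 ye52 ze55) (ke xe20 ye22 ze36) (ke xe22 ye22 ze49) (ke xe19 ye32 ze45) (ke xe29 ye43 ze38) (ke xe32 ye18 ze48) (ke xe32 ye24 ze25) (ke xe19 ye32 ze51) (ke xe19 ye32 ze52) (ke xe26 ye54 ze48) (ke xe27 ye22 ze54) (ke xe32 ye40 ze33) (ke xe29 ye13 ze15) (ke xe26 ye54 ze51) (ke xe20 ye1 ze32) (ke xe19 ye33 ze0) (ke xe24 ye51 ze6) (ke xe19 ye33 ze4) (ke xe29 ye13 ze19) (ke xe29 ye43 ze36) (ke xe31 ye51 ze40) (ke xe26 ye3 ze16) (ke xe32 ye40 ze44) (ke xe32 ye40 ze47) (ke xe22 ye33 ze14) (ke xe32 ye40 ze50) (ke xe19 ye33 ze6) (ke xe21 ye8 ze56) (ke xe29 ye13 ze40) (ke xe29 ye43 ze40) (ke xe31 ye52 ze21) (ke xe20 ye5 ze57) (ke xe31 ye40 ze13) (ke xe23 ye57 ze47) (ke xe23 ye57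 ze36) (ke xe22 ye58 ze3) (ke xe26 ye21 ze35) (ke xe19 ye33 ze31) (ke xe28 ye34 ze18) (ke xe19 ye33 ze34) (ke xe32 ye10 ze18) (ke xe19 ye33 ze35) (ke xe29 ye42 ze36) (ke xe27 ye59 ze39) (ke xe19 ye33 ze39) (ke xe28 ye32 ze56) (ke xe24 ye11 ze35) (ke xe31 ye12 ze28) (ke xe32 ye37 ze17) (ke xe22 ye19 ze12) (ke xe22 ye25 ze51) (ke xe32 ye21 ze17) (ke xe19 ye33 ze52) (ke xe20 ye38 ze40) (ke xe28 ye13 ze60) (ke xe21 ye57 ze53) (ke xe29 ye46 ze11) (ke xe28 ye54 ze57) (ke xe21 ye38 ze1) (ke xe24 ye2 ze41) (ke xe27 ye42 ze13) (ke xe25 ye18 ze51)) (@D3.rec (fun _ => Pt) (ke xe19 ye34 ze0) (ke xe32 ye40 ze41) (ke xe28 ye49 ze49) (ke xe19 ye34 ze2) (ke xe28 ye22 ze55) (ke xe24 ye9 ze0) (ke xe19 ye34 ze6) (ke xe26 ye26 ze19) (ke xe19 ye52 ze25) (ke xe23 ye58 ze30) (ke xe31 ye22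 ze41) (ke xe30 ye45 ze3) (ke xe28 ye38 ze37) (ke xe32 ye21 ze20) (ke xe32 ye20 ze8) (ke xe23 ye2 ze19) (ke xe24 ye6 ze7) (ke xe29 ye7 ze31) (ke xe20 ye33 ze42) (ke xe19 ye34 ze15) (ke xe32 ye8 ze10) (ke xe24 ye6 ze36) (ke xe19 ye43 ze38) (ke xe19 ye34 ze29) (ke xe30 ye50 ze49) (ke xe19 ye34 ze30) (ke xe19 ye34 ze31) (ke xe32 ye15 ze28) (ke xe26 ye40 ze26) (ke xe32 ye41 ze2) (ke xe19 ye34 ze40) (ke xe28 ye54 ze27) (ke xe32 ye41 ze5) (ke xe19 ye34 ze41) (ke xe32 ye41 ze9) (ke xe29 ye33 ze7) (ke xe19 ye34 ze42) (ke xe26 ye36 ze28) (ke xe25 ye51 ze26) (ke xe19 ye34 ze45) (ke xe29 ye58 ze60) (ke xe25 ye40 ze20) (ke xe26 ye10 ze41) (ke xe26 ye41 ze36) (ke xe31 ye27 ze37) (ke xe30 ye15 ze37) (ke xe19 ye34 ze56) (ke xe32 ye4 ze9) (ke xe31 ye55 ze26) (ke xe24 ye2 ze32) (ke xe32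 ye41 ze13) (ke xe19 ye35 ze0) (ke xe26 ye33 ze60) (ke xe19 ye35 ze1) (ke xe30 ye11 ze10) (ke xe19 ye35 ze6) (ke xe29 ye0 ze8) (ke xe29 ye47 ze41) (ke xe20 ye55 ze37) (ke xe32 ye41 ze14) (ke xe19 ye35 ze10) (ke xe22 ye57 ze18)) (@D3.rec (fun _ => Pt) (ke xe19 ye35 ze11) (ke xe30 ye49 ze20) (ke xe19 ye35 ze14) (ke xe31 ye38 ze52) (ke xe19 ye35 ze18) (ke xe19 ye50 ze10) (ke xe24 ye7 ze54) (ke xe19 ye35 ze21) (ke xe25 ye36 ze16) (ke xe21 ye34 ze47) (ke xe19 ye35 ze25) (ke xe25 ye28 ze43) (ke xe29 ye6 ze45) (ke xe20 ye4 ze21) (ke xe19 ye35 ze23) (ke xe25 ye24 ze10) (ke xe20 ye41 ze35) (ke xe31 ye53 ze32) (ke xe32 ye41 ze18) (ke xe31 ye26 ze26) (ke xe25 ye36 ze19) (ke xe20 ye2 ze21) (ke xe22 ye9 ze15) (ke xe19 ye35 ze32) (ke xe25 ye13 ze43) (ke xe30 ye9 ze39) (ke xe32 ye41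 ze20) (ke xe19 ye35 ze31) (ke xe25 ye33 ze36) (ke xe30 ye7 ze47) (ke xe24 ye50 ze56) (ke xe32 ye24 ze42) (ke xe27 ye42 ze37) (ke xe20 ye3 ze12) (ke xe22 ye52 ze40) (ke xe19 ye35 ze37) (ke xe19 ye35 ze38) (ke xe24 ye41 ze12) (ke xe25 ye5 ze35) (ke xe19 ye35 ze42) (ke xe27 ye11 ze24) (ke xe19 ye35 ze43) (ke xe19 ye35 ze48) (ke xe28 ye31 ze14) (ke xe27 ye5 ze52) (ke xe19 ye45 ze16) (ke xe23 ye35 ze48) (ke xe27 ye11 ze6) (ke xe31 ye53 ze29) (ke xe19 ye35 ze56) (ke xe28 ye36 ze21) (ke xe19 ye35 ze57) (ke xe21 ye57 ze20) (ke xe25 ye47 ze17) (ke xe24 ye17 ze1) (ke xe31 ye55 ze10) (ke xe24 ye39 ze52) (ke xe26 ye11 ze17) (ke xe23 ye55 ze58) (ke xe32 ye23 ze29) (ke xe22 ye1 ze27) (ke xe31 ye31 ze56)) (@D3.rec (fun _ => Pt) (ke xe25 ye30 ze23) (ke xe24 ye3 ze38) (ke xe26 ye4 ze51)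 (ke xe19 ye36 ze6) (ke xe23 ye9 ze54) (ke xe22 ye48 ze35) (ke xe28 ye11 ze27) (ke xe28 ye53 ze58) (ke xe25 ye31 ze28) (ke xe24 ye4 ze41) (ke xe29 ye35 ze27) (ke xe27 ye4 ze52) (ke xe19 ye36 ze23) (ke xe25 ye56 ze44) (ke xe25 ye20 ze13) (ke xe31 ye54 ze45) (ke xe19 ye36 ze27) (ke xe31 ye48 ze58) (ke xe29 ye30 ze52) (ke xe29 ye15 ze1) (ke xe26 ye5 ze31) (ke xe20 ye51 ze8) (ke xe32 ye36 ze48) (ke xe31 ye38 ze5) (ke xe24 ye17 ze22) (ke xe24 ye14 ze58) (ke xe28 ye49 ze5) (ke xe25 ye31 ze61) (ke xe31 ye52 ze45) (ke xe22 ye1 ze30) (ke xe32 ye11 ze7) (ke xe19 ye36 ze44) (ke xe19 ye36 ze46) (ke xe19 ye36 ze47) (ke xe24 ye58 ze22) (ke xe31 ye24 ze33) (ke xe19 ye36 ze56) (ke xe28 ye32 ze11) (ke xe24 ye21 ze12) (ke xe31 ye53 ze45) (ke xe30 ye0 ze9) (ke xe19 ye54 ze7) (ke xe19 ye36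 ze61) (ke xe29 ye12 ze40) (ke xe31 ye28 ze15) (ke xe31 ye26 ze56) (ke xe19 ye37 ze2) (ke xe31 ye37 ze30) (ke xe30 ye51 ze23) (ke xe32 ye29 ze18) (ke xe19 ye37 ze5) (ke xe29 ye47 ze43) (ke xe32 ye41 ze24) (ke xe30 ye51 ze22) (ke xe19 ye37 ze12) (ke xe30 ye20 ze2) (ke xe19 ye37 ze13) (ke xe24 ye15 ze60) (ke xe32 ye0 ze21) (ke xe30 ye19 ze30) (ke xe31 ye56 ze20) (ke xe22 ye17 ze2)) (@D3.rec (fun _ => Pt) (ke xe25 ye58 ze46) (ke xe29 ye50 ze57) (ke xe21 ye46 ze12) (ke xe32 ye21 ze61) (ke xe28 ye47 ze8) (ke xe31 ye45 ze45) (ke xe19 ye49 ze29) (ke xe21 ye50 ze35) (ke xe26 ye55 ze4) (ke xe30 ye47 ze36) (ke xe27 ye21 ze44) (ke xe28 ye29 ze2) (ke xe28 ye34 ze32) (ke xe32 ye41 ze27) (ke xe32 ye35 ze47) (ke xe19 ye37 ze35) (ke xe30 ye43 ze33) (ke xe22 ye20 ze57) (ke xe27 ye35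 ze48) (ke xe20 ye49 ze28) (ke xe29 ye47 ze49) (ke xe25 ye23 ze5) (ke xe20 ye28 ze59) (ke xe19 ye45 ze13) (ke xe25 ye8 ze56) (ke xe30 ye56 ze34) (ke xe31 ye52 ze50) (ke xe29 ye59 ze4) (ke xe21 ye5 ze21) (ke xe25 ye9 ze19) (ke xe29 ye6 ze51) (ke xe25 ye11 ze19) (ke xe31 ye53 ze14) (ke xe31 ye24 ze41) (ke xe25 ye6 ze37) (ke xe22 ye2 ze11) (ke xe32 ye0 ze23) (ke xe31 ye43 ze55) (ke xe19 ye38 ze4) (ke xe25 ye6 ze21) (ke xe25 ye6 ze19) (ke xe26 ye38 ze34) (ke xe25 ye21 ze32) (ke xe25 ye11 ze5) (ke xe31 ye41 ze29) (ke xe25 ye23 ze31) (ke xe29 ye2 ze23) (ke xe19 ye38 ze12) (ke xe24 ye58 ze11) (ke xe19 ye44 ze39) (ke xe19 ye38 ze15) (ke xe31 ye21 ze34) (ke xe19 ye38 ze16) (ke xe19 ye38 ze19) (ke xe31 ye52 ze47) (ke xe24 ye4 ze38) (ke xe31 ye46 ze42) (ke xe31 ye52 ze6) (ke xe19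 ye38 ze22) (ke xe28 ye41 ze52) (ke xe31 ye59 ze8) (ke xe27 ye36 ze5))
def f_e_29 : D2 → D3 → Pt := @D2.rec (fun _ => D3 → Pt) (@D3.rec (fun _ => Pt) (ke xe29 ye37 ze20) (ke xe25 ye36 ze57) (ke xe28 ye41 ze57) (ke xe19 ye38 ze35) (ke xe31 ye31 ze27) (ke xe25 ye12 ze32) (ke xe28 ye34 ze47) (ke xe19 ye44 ze46) (ke xe28 ye56 ze56) (ke xe19 ye38 ze51) (ke xe32 ye24 ze43) (ke xe19 ye38 ze43) (ke xe32 ye10 ze58) (ke xe19 ye38 ze48) (ke xe24 ye36 ze4) (ke xe19 ye38 ze50) (ke xe25 ye41 ze54) (ke xe29 ye56 ze20) (ke xe21 ye39 ze22) (ke xe21 ye9 ze47) (ke xe19 ye39 ze11) (ke xe19 ye39 ze13) (ke xe19 ye39 ze14) (ke xe24 ye17 ze38) (ke xe30 ye6 ze36) (ke xe19 ye39 ze19) (ke xe27 ye17 ze33) (ke xe32 ye8 ze47) (ke xe19 ye39 ze22) (ke xe19 ye39 ze25) (ke xe23 ye57 ze55) (ke xe20 ye18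 ze47) (ke xe23 ye58 ze34) (ke xe29 ye3 ze12) (ke xe26 ye17 ze59) (ke xe30 ye6 ze23) (ke xe31 ye54 ze38) (ke xe20 ye14 ze50) (ke xe31 ye12 ze61) (ke xe27 ye58 ze28) (ke xe19 ye39 ze56) (ke xe19 ye39 ze61) (ke xe29 ye38 ze34) (ke xe19 ye40 ze6) (ke xe29 ye43 ze47) (ke xe20 ye42 ze33) (ke xe29 ye50 ze6) (ke xe31 ye35 ze30) (ke xe24 ye15 ze9) (ke xe19 ye51 ze29) (ke xe29 ye6 ze56) (ke xe20 ye28 ze61) (ke xe20 ye17 ze51) (ke xe19 ye46 ze47) (ke xe19 ye40 ze22) (ke xe20 ye49 ze54) (ke xe26 ye53 ze37) (ke xe29 ye23 ze42) (ke xe29 ye3 ze14) (ke xe19 ye52 ze45) (ke xe24 ye16 ze4) (ke xe19 ye40 ze41)) (@D3.rec (fun _ => Pt) (ke xe21 ye23 ze6) (ke xe24 ye32 ze55) (ke xe19 ye40 ze51) (ke xe24 ye23 ze3) (ke xe29 ye32 ze19) (ke xe19 ye40 ze59) (ke xe24 ye3 ze60) (ke xe24 ye4 ze5)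 (ke xe19 ye41 ze9) (ke xe31 ye22 ze49) (ke xe19 ye51 ze30) (ke xe19 ye41 ze12) (ke xe19 ye41 ze13) (ke xe28 ye35 ze56) (ke xe30 ye27 ze20) (ke xe19 ye41 ze17) (ke xe24 ye2 ze22) (ke xe28 ye29 ze38) (ke xe25 ye7 ze54) (ke xe26 ye36 ze27) (ke xe19 ye41 ze24) (ke xe21 ye47 ze41) (ke xe27 ye23 ze42) (ke xe22 ye17 ze11) (ke xe19 ye41 ze28) (ke xe20 ye28 ze56) (ke xe19 ye41 ze34) (ke xe25 ye59 ze45) (ke xe19 ye41 ze35) (ke xe28 ye22 ze59) (ke xe26 ye43 ze21) (ke xe28 ye53 ze12) (ke xe31 ye33 ze36) (ke xe19 ye41 ze37) (ke xe30 ye53 ze1) (ke xe19 ye41 ze38) (ke xe31 ye22 ze35) (ke xe23 ye53 ze5) (ke xe26 ye43 ze25) (ke xe28 ye53 ze27) (ke xe32 ye34 ze4) (ke xe28 ye32 ze38) (ke xe19 ye41 ze40) (ke xe31 ye25 ze22) (ke xe19 ye41 ze41) (ke xe30 ye35 ze13) (ke xe23 ye59 ze55) (ke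 xe30 ye27 ze22) (ke xe31 ye28 ze56) (ke xe19 ye41 ze45) (ke xe22 ye39 ze39) (ke xe29 ye38 ze25) (ke xe20 ye29 ze2) (ke xe29 ye54 ze45) (ke xe19 ye41 ze49) (ke xe28 ye35 ze40) (ke xe32 ye8 ze21) (ke xe28 ye35 ze44) (ke xe28 ye52 ze23) (ke xe28 ye2 ze49) (ke xe27 ye2 ze10) (ke xe26 ye43 ze11)) (@D3.rec (fun _ => Pt) (ke xe31 ye13 ze55) (ke xe19 ye41 ze56) (ke xe19 ye41 ze57) (ke xe26 ye43 ze16) (ke xe28 ye5 ze56) (ke xe22 ye1 ze4) (ke xe28 ye24 ze5) (ke xe22 ye1 ze40) (ke xe26 ye43 ze18) (ke xe22 ye1 ze23) (ke xe32 ye0 ze51) (ke xe29 ye7 ze1) (ke xe19 ye42 ze5) (ke xe27 ye9 ze2) (ke xe25 ye42 ze5) (ke xe28 ye9 ze18) (ke xe22 ye20 ze8) (ke xe28 ye16 ze48) (ke xe19 ye58 ze18) (ke xe19 ye42 ze16) (ke xe19 ye42 ze17) (ke xe32 ye41 ze50) (ke xe27 ye35 ze14) (ke xe28 ye59 ze46)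 (ke xe28 ye9 ze3) (ke xe19 ye42 ze22) (ke xe25 ye53 ze12) (ke xe30 ye5 ze54) (ke xe20 ye30 ze33) (ke xe30 ye5 ze55) (ke xe27 ye58 ze57) (ke xe22 ye18 ze28) (ke xe19 ye42 ze31) (ke xe27 ye23 ze37) (ke xe19 ye42 ze32) (ke xe20 ye13 ze31) (ke xe19 ye42 ze40) (ke xe31 ye40 ze54) (ke xe29 ye43 ze29) (ke xe19 ye42 ze48) (ke xe24 ye48 ze54) (ke xe31 ye21 ze29) (ke xe26 ye9 ze49) (ke xe19 ye42 ze46) (ke xe31 ye51 ze23) (ke xe28 ye45 ze14) (ke xe29 ye46 ze2) (ke xe32 ye41 ze52) (ke xe19 ye42 ze50) (ke xe20 ye26 ze27) (ke xe31 ye50 ze56) (ke xe20 ye26 ze2) (ke xe30 ye27 ze27) (ke xe19 ye52 ze14) (ke xe19 ye42 ze60) (ke xe28 ye30 ze42) (ke xe28 ye33 ze38) (ke xe31 ye22 ze28) (ke xe19 ye43 ze5) (ke xe19 ye43 ze6) (ke xe19 ye46 ze50) (ke xe19 ye43 ze13)) (@D3.rec (fun _ => Pt) (ke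 xe31 ye43 ze30) (ke xe19 ye43 ze18) (ke xe20 ye52 ze36) (ke xe22 ye4 ze48) (ke xe30 ye23 ze8) (ke xe31 ye35 ze28) (ke xe20 ye9 ze23) (ke xe32 ye34 ze32) (ke xe19 ye43 ze33) (ke xe32 ye41 ze53) (ke xe28 ye14 ze38) (ke xe30 ye49 ze4) (ke xe29 ye0 ze33) (ke xe19 ye43 ze48) (ke xe29 ye0 ze58) (ke xe31 ye38 ze49) (ke xe30 ye19 ze27) (ke xe20 ye55 ze44) (ke xe19 ye44 ze1) (ke xe30 ye55 ze41) (ke xe19 ye44 ze3) (ke xe20 ye58 ze6) (ke xe28 ye44 ze20) (ke xe28 ye54 ze36) (ke xe31 ye28 ze37) (ke xe24 ye7 ze57) (ke xe19 ye44 ze24) (ke xe23 ye56 ze40) (ke xe32 ye41 ze56) (ke xe22 ye58 ze56) (ke xe30 ye54 ze51) (ke xe19 ye44 ze32) (ke xe30 ye9 ze43) (ke xe29 ye23 ze20) (ke xe32 ye41 ze57) (ke xe19 ye44 ze31) (ke xe21 ye50 ze32) (ke xe29 ye28 ze31) (ke xe19 ye44 ze44) (ke xe30 ye9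 ze41) (ke xe25 ye15 ze25) (ke xe25 ye14 ze12) (ke xe19 ye45 ze46) (ke xe25 ye57 ze55) (ke xe31 ye11 ze13) (ke xe31 ye11 ze14) (ke xe31 ye4 ze9) (ke xe25 ye27 ze5) (ke xe31 ye36 ze16) (ke xe19 ye44 ze45) (ke xe30 ye9 ze60) (ke xe19 ye44 ze47) (ke xe25 ye30 ze34) (ke xe25 ye26 ze51) (ke xe19 ye44 ze50) (ke xe25 ye6 ze54) (ke xe24 ye26 ze26) (ke xe19 ye44 ze54) (ke xe19 ye44 ze55) (ke xe32 ye7 ze7) (ke xe26 ye59 ze13) (ke xe19 ye44 ze61)) (@D3.rec (fun _ => Pt) (ke xe25 ye15 ze23) (ke xe31 ye8 ze12) (ke xe26 ye37 ze1) (ke xe32 ye1 ze49) (ke xe32 ye28 ze56) (ke xe19 ye45 ze5) (ke xe27 ye12 ze61) (ke xe19 ye45 ze15) (ke xe21 ye50 ze36) (ke xe29 ye23 ze33) (ke xe25 ye58 ze61) (ke xe31 ye55 ze15) (ke xe30 ye55 ze30) (ke xe19 ye45 ze18) (ke xe32 ye31 ze24) (ke xe19 ye45 ze19)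 (ke xe22 ye22 ze52) (ke xe25 ye47 ze28) (ke xe28 ye22 ze40) (ke xe32 ye42 ze2) (ke xe32 ye42 ze3) (ke xe27 ye1 ze45) (ke xe23 ye30 ze10) (ke xe19 ye45 ze34) (ke xe25 ye10 ze36) (ke xe29 ye17 ze12) (ke xe31 ye52 ze60) (ke xe31 ye4 ze0) (ke xe19 ye45 ze26) (ke xe27 ye17 ze50) (ke xe29 ye37 ze25) (ke xe27 ye17 ze56) (ke xe31 ye4 ze4) (ke xe19 ye45 ze30) (ke xe25 ye58 ze49) (ke xe23 ye30 ze21) (ke xe30 ye54 ze36) (ke xe19 ye45 ze33) (ke xe19 ye45 ze35) (ke xe19 ye45 ze38) (ke xe29 ye28 ze30) (ke xe28 ye49 ze24) (ke xe24 ye18 ze47) (ke xe31 ye47 ze46) (ke xe19 ye45 ze41) (ke xe26 ye20 ze36) (ke xe20 ye2 ze22) (ke xe19 ye45 ze49) (ke xe25 ye30 ze17) (ke xe19 ye46 ze10) (ke xe31 ye36 ze14) (ke xe32 ye13 ze30) (ke xe19 ye45 ze51) (ke xe26 ye33 ze54) (ke xe29 ye15 ze45) (ke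 xe19 ye45 ze53) (ke xe25 ye57 ze54) (ke xe31 ye54 ze27) (ke xe19 ye45 ze54) (ke xe26 ye44 ze16) (ke xe25 ye36 ze48) (ke xe25 ye6 ze30)) (@D3.rec (fun _ => Pt) (ke xe27 ye1 ze35) (ke xe32 ye7 ze6) (ke xe31 ye46 ze5) (ke xe32 ye42 ze22) (ke xe19 ye45 ze61) (ke xe31 ye55 ze5) (ke xe19 ye46 ze4) (ke xe32 ye42 ze23) (ke xe32 ye42 ze25) (ke xe19 ye46 ze5) (ke xe25 ye30 ze47) (ke xe31 ye11 ze12) (ke xe32 ye42 ze17) (ke xe19 ye46 ze8) (ke xe25 ye30 ze24) (ke xe23 ye40 ze31) (ke xe19 ye46 ze12) (ke xe25 ye27 ze9) (ke xe23 ye41 ze46) (ke xe19 ye46 ze15) (ke xe31 ye45 ze46) (ke xe31 ye48 ze18) (ke xe27 ye7 ze52) (ke xe31 ye25 ze47) (ke xe31 ye22 ze18) (ke xe21 ye17 ze41) (ke xe26 ye16 ze52) (ke xe21 ye17 ze42) (ke xe30 ye17 ze2) (ke xe32 ye42 ze33) (ke xe27 ye18 ze14) (ke xe31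 ye53 ze56) (ke xe21 ye17 ze36) (ke xe31 ye57 ze10) (ke xe32 ye2 ze32) (ke xe24 ye39 ze31) (ke xe19 ye46 ze34) (ke xe19 ye46 ze39) (ke xe31 ye49 ze51) (ke xe29 ye48 ze40) (ke xe27 ye18 ze5) (ke xe19 ye47 ze0) (ke xe31 ye48 ze61) (ke xe26 ye38 ze36) (ke xe25 ye8 ze42) (ke xe25 ye30 ze14) (ke xe32 ye42 ze35) (ke xe19 ye47 ze14) (ke xe21 ye17 ze22) (ke xe31 ye40 ze29) (ke xe25 ye19 ze10) (ke xe28 ye38 ze52) (ke xe19 ye47 ze19) (ke xe29 ye8 ze28) (ke xe20 ye38 ze43) (ke xe19 ye47 ze30) (ke xe29 ye51 ze37) (ke xe19 ye47 ze37) (ke xe25 ye37 ze12) (ke xe19 ye47 ze39) (ke xe25 ye38 ze11) (ke xe26 ye9 ze58)) (@D3.rec (fun _ => Pt) (ke xe20 ye12 ze30) (ke xe30 ye46 ze1) (ke xe19 ye47 ze43) (ke xe23 ye1 ze5) (ke xe19 ye47 ze45) (ke xe24 ye3 ze58) (ke xe32 ye3 ze46) (ke xe31 ye36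 ze22) (ke xe20 ye16 ze1) (ke xe20 ye20 ze17) (ke xe26 ye3 ze37) (ke xe26 ye9 ze60) (ke xe19 ye47 ze57) (ke xe19 ye48 ze2) (ke xe21 ye57 ze36) (ke xe29 ye29 ze19) (ke xe32 ye35 ze44) (ke xe28 ye31 ze32) (ke xe25 ye19 ze55) (ke xe23 ye13 ze27) (ke xe30 ye43 ze4) (ke xe24 ye43 ze59) (ke xe19 ye48 ze13) (ke xe26 ye48 ze1) (ke xe19 ye48 ze16) (ke xe32 ye3 ze11) (ke xe22 ye31 ze37) (ke xe27 ye56 ze50) (ke xe21 ye21 ze43) (ke xe26 ye3 ze48) (ke xe26 ye26 ze46) (ke xe29 ye58 ze3) (ke xe20 ye43 ze58) (ke xe19 ye48 ze35) (ke xe21 ye33 ze15) (ke xe20 ye13 ze44) (ke xe19 ye48 ze42) (ke xe24 ye10 ze16) (ke xe30 ye0 ze34) (ke xe20 ye27 ze52) (ke xe31 ye28 ze5) (ke xe22 ye37 ze11) (ke xe20 ye33 ze46) (ke xe20 ye30 ze38) (ke xe19 ye49 ze8) (ke xe28 ye57 ze12) (ke xe19 ye49 ze12) (ke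 xe19 ye49 ze14) (ke xe30 ye11 ze18) (ke xe24 ye37 ze17) (ke xe31 ye40 ze48) (ke xe28 ye59 ze30) (ke xe19 ye49 ze20) (ke xe19 ye49 ze21) (ke xe32 ye42 ze36) (ke xe19 ye49 ze32) (ke xe29 ye0 ze50) (ke xe25 ye43 ze15) (ke xe26 ye17 ze58) (ke xe19 ye49 ze40) (ke xe31 ye59 ze58) (ke xe19 ye49 ze44)) (@D3.rec (fun _ => Pt) (ke xe31 ye54 ze52) (ke xe29 ye2 ze11) (ke xe32 ye42 ze37) (ke xe19 ye49 ze47) (ke xe28 ye49 ze20) (ke xe24 ye14 ze8) (ke xe21 ye14 ze49) (ke xe19 ye50 ze2) (ke xe30 ye54 ze17) (ke xe24 ye58 ze53) (ke xe26 ye15 ze49) (ke xe25 ye50 ze17) (ke xe32 ye40 ze42) (ke xe25 ye36 ze33) (ke xe27 ye59 ze61) (ke xe19 ye50 ze21) (ke xe26 ye32 ze31) (ke xe19 ye50 ze24) (ke xe27 ye36 ze11) (ke xe19 ye50 ze30) (ke xe19 ye50 ze33) (ke xe23 ye26 ze1) (ke xe20 ye26 ze38) (ke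 xe24 ye1 ze27) (ke xe20 ye0 ze49) (ke xe24 ye36 ze43) (ke xe26 ye56 ze57) (ke xe19 ye50 ze45) (ke xe32 ye17 ze26) (ke xe31 ye51 ze29) (ke xe19 ye50 ze56) (ke xe28 ye56 ze17) (ke xe30 ye25 ze32) (ke xe32 ye14 ze41) (ke xe28 ye19 ze54) (ke xe23 ye49 ze38) (ke xe29 ye48 ze0) (ke xe27 ye34 ze7) (ke xe19 ye50 ze61) (ke xe21 ye14 ze5) (ke xe26 ye57 ze3) (ke xe19 ye51 ze8) (ke xe20 ye33 ze29) (ke xe19 ye51 ze11) (ke xe20 ye41 ze7) (ke xe28 ye32 ze17) (ke xe19 ye51 ze18) (ke xe28 ye0 ze51) (ke xe26 ye43 ze32) (ke xe21 ye15 ze33) (ke xe22 ye21 ze4) (ke xe29 ye37 ze4) (ke xe28 ye53 ze40) (ke xe28 ye51 ze0) (ke xe27 ye10 ze31) (ke xe19 ye51 ze34) (ke xe32 ye18 ze17) (ke xe32 ye19 ze59) (ke xe32 ye32 ze52) (ke xe19 ye51 ze40) (ke xe20 ye45 ze26) (ke xe30 ye24 ze15)) (@D3.rec (fun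 _ => Pt) (ke xe19 ye51 ze42) (ke xe19 ye51 ze49) (ke xe30 ye21 ze37) (ke xe28 ye44 ze15) (ke xe28 ye30 ze41) (ke xe19 ye51 ze53) (ke xe28 ye34 ze21) (ke xe20 ye31 ze32) (ke xe32 ye37 ze1) (ke xe30 ye17 ze58) (ke xe31 ye24 ze10) (ke xe32 ye41 ze40) (ke xe28 ye2 ze40) (ke xe28 ye17 ze20) (ke xe30 ye22 ze51) (ke xe19 ye51 ze61) (ke xe19 ye52 ze0) (ke xe32 ye24 ze4) (ke xe28 ye44 ze53) (ke xe32 ye42 ze41) (ke xe19 ye52 ze5) (ke xe28 ye30 ze29) (ke xe23 ye57 ze34) (ke xe28 ye29 ze42) (ke xe28 ye33 ze1) (ke xe28 ye39 ze37) (ke xe27 ye19 ze1) (ke xe32 ye31 ze11) (ke xe29 ye5 ze53) (ke xe20 ye47 ze1) (ke xe28 ye43 ze7) (ke xe32 ye14 ze43) (ke xe19 ye52 ze15) (ke xe29 ye36 ze32) (ke xe32 ye38 ze53) (ke xe19 ye52 ze26) (ke xe31 ye24 ze9) (ke xe27 ye5 ze17) (ke xe20 ye20 ze0)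 (ke xe30 ye22 ze41) (ke xe19 ye52 ze18) (ke xe30 ye28 ze27) (ke xe30 ye22 ze42) (ke xe19 ye52 ze19) (ke xe32 ye42 ze48) (ke xe23 ye4 ze0) (ke xe19 ye52 ze22) (ke xe31 ye23 ze10) (ke xe30 ye22 ze5) (ke xe32 ye38 ze24) (ke xe32 ye40 ze2) (ke xe28 ye44 ze18) (ke xe31 ye18 ze8) (ke xe32 ye42 ze50) (ke xe19 ye52 ze33) (ke xe31 ye22 ze46) (ke xe28 ye14 ze49) (ke xe28 ye17 ze24) (ke xe24 ye52 ze47) (ke xe19 ye52 ze39) (ke xe19 ye52 ze42) (ke xe23 ye58 ze9)) (@D3.rec (fun _ => Pt) (ke xe23 ye58 ze10) (ke xe20 ye53 ze11) (ke xe21 ye40 ze36) (ke xe19 ye52 ze52) (ke xe20 ye20 ze20) (ke xe20 ye44 ze49) (ke xe30 ye53 ze19) (ke xe19 ye52 ze60) (ke xe20 ye40 ze54) (ke xe30 ye23 ze4) (ke xe22 ye16 ze46) (ke xe26 ye28 ze4) (ke xe22 ye12 ze49) (ke xe29 ye11 ze25) (ke xe29 ye11 ze26)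 (ke xe27 ye6 ze16) (ke xe19 ye53 ze21) (ke xe19 ye53 ze26) (ke xe32 ye42 ze43) (ke xe29 ye44 ze8) (ke xe28 ye40 ze47) (ke xe32 ye42 ze51) (ke xe19 ye53 ze29) (ke xe26 ye56 ze44) (ke xe19 ye53 ze31) (ke xe32 ye21 ze29) (ke xe24 ye11 ze61) (ke xe26 ye42 ze8) (ke xe19 ye53 ze40) (ke xe31 ye27 ze25) (ke xe31 ye21 ze47) (ke xe32 ye10 ze48) (ke xe19 ye53 ze41) (ke xe20 ye59 ze17) (ke xe21 ye0 ze31) (ke xe19 ye53 ze55) (ke xe32 ye42 ze53) (ke xe29 ye17 ze1) (ke xe19 ye53 ze60) (ke xe29 ye16 ze60) (ke xe24 ye54 ze20) (ke xe25 ye40 ze50) (ke xe31 ye9 ze25) (ke xe29 ye41 ze57) (ke xe19 ye54 ze5) (ke xe19 ye54 ze10) (ke xe24 ye35 ze42) (ke xe23 ye32 ze10) (ke xe19 ye54 ze12) (ke xe23 ye32 ze12) (ke xe26 ye1 ze13) (ke xe19 ye54 ze16) (ke xe19 ye54 ze18) (ke xe19 ye54 ze19) (ke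 xe21 ye14 ze26) (ke xe19 ye54 ze29) (ke xe26 ye7 ze16) (ke xe25 ye10 ze43) (ke xe27 ye58 ze6) (ke xe28 ye11 ze52) (ke xe26 ye8 ze43) (ke xe27 ye56 ze59)) (@D3.rec (fun _ => Pt) (ke xe25 ye44 ze14) (ke xe23 ye58 ze42) (ke xe24 ye16 ze6) (ke xe19 ye55 ze16) (ke xe23 ye30 ze40) (ke xe22 ye43 ze11) (ke xe23 ye26 ze8) (ke xe29 ye10 ze61) (ke xe30 ye40 ze58) (ke xe31 ye0 ze43) (ke xe32 ye4 ze59) (ke xe21 ye6 ze18) (ke xe32 ye42 ze58) (ke xe30 ye2 ze45) (ke xe31 ye8 ze40) (ke xe19 ye54 ze45) (ke xe31 ye8 ze30) (ke xe23 ye59 ze27) (ke xe32 ye42 ze59) (ke xe32 ye42 ze60) (ke xe19 ye54 ze41) (ke xe27 ye43 ze29) (ke xe25 ye38 ze38) (ke xe23 ye28 ze37) (ke xe19 ye56 ze1) (ke xe19 ye54 ze43) (ke xe23 ye27 ze2) (ke xe31 ye8 ze29) (ke xe22 ye44 ze51) (ke xe19 ye54 ze46) (ke xe23 ye40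 ze17) (ke xe32 ye42 ze55) (ke xe19 ye54 ze48) (ke xe19 ye54 ze50) (ke xe19 ye54 ze52) (ke xe19 ye54 ze53) (ke xe20 ye55 ze57) (ke xe28 ye44 ze24) (ke xe32 ye11 ze47) (ke xe26 ye35 ze2) (ke xe20 ye56 ze8) (ke xe31 ye29 ze46) (ke xe20 ye35 ze32) (ke xe19 ye55 ze0) (ke xe20 ye24 ze13) (ke xe32 ye43 ze4) (ke xe32 ye16 ze4) (ke xe19 ye55 ze2) (ke xe31 ye0 ze41) (ke xe19 ye55 ze4) (ke xe26 ye8 ze10) (ke xe19 ye55 ze8) (ke xe31 ye6 ze32) (ke xe25 ye19 ze57) (ke xe31 ye10 ze30) (ke xe20 ye38 ze39) (ke xe27 ye41 ze28) (ke xe30 ye17 ze5) (ke xe32 ye16 ze6) (ke xe32 ye43 ze7) (ke xe31 ye8 ze47) (ke xe29 ye10 ze7)) (@D3.rec (fun _ => Pt) (ke xe22 ye27 ze60) (ke xe24 ye42 ze26) (ke xe30 ye0 ze40) (ke xe32 ye30 ze45) (ke xe19 ye55 ze17) (ke xe23 ye41 ze57) (ke xe19 ye55 ze14) (ke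 xe32 ye15 ze61) (ke xe32 ye43 ze11) (ke xe19 ye55 ze20) (ke xe32 ye42 ze6) (ke xe31 ye41 ze42) (ke xe21 ye8 ze43) (ke xe19 ye55 ze26) (ke xe19 ye55 ze27) (ke xe32 ye24 ze29) (ke xe27 ye37 ze12) (ke xe19 ye55 ze31) (ke xe28 ye51 ze31) (ke xe32 ye43 ze13) (ke xe25 ye20 ze29) (ke xe30 ye51 ze55) (ke xe21 ye56 ze2) (ke xe19 ye55 ze38) (ke xe30 ye42 ze29) (ke xe29 ye9 ze13) (ke xe29 ye9 ze14) (ke xe23 ye41 ze3) (ke xe31 ye6 ze13) (ke xe29 ye57 ze12) (ke xe32 ye43 ze15) (ke xe29 ye57 ze44) (ke xe23 ye31 ze11) (ke xe32 ye42 ze57) (ke xe19 ye55 ze45) (ke xe31 ye8 ze50) (ke xe30 ye47 ze7) (ke xe23 ye29 ze43) (ke xe19 ye55 ze46) (ke xe27 ye58 ze43) (ke xe19 ye55 ze51) (ke xe32 ye23 ze36) (ke xe23 ye24 ze48) (ke xe30 ye43 ze30) (ke xe19 ye55 ze53) (ke xe28 ye12 ze12) (ke xe21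 ye56 ze19) (ke xe22 ye58 ze19) (ke xe19 ye55 ze58) (ke xe23 ye2 ze37) (ke xe27 ye56 ze41) (ke xe32 ye23 ze53) (ke xe31 ye18 ze26) (ke xe27 ye1 ze49) (ke xe32 ye5 ze20) (ke xe22 ye43 ze19) (ke xe32 ye43 ze18) (ke xe24 ye40 ze17) (ke xe19 ye56 ze3) (ke xe30 ye41 ze43) (ke xe25 ye38 ze3) (ke xe31 ye5 ze32)) (@D3.rec (fun _ => Pt) (ke xe19 ye56 ze2) (ke xe30 ye14 ze8) (ke xe28 ye48 ze34) (ke xe31 ye3 ze23) (ke xe31 ye49 ze37) (ke xe19 ye56 ze12) (ke xe31 ye10 ze39) (ke xe32 ye3 ze17) (ke xe30 ye50 ze48) (ke xe31 ye8 ze55) (ke xe26 ye27 ze19) (ke xe21 ye55 ze19) (ke xe19 ye56 ze16) (ke xe30 ye12 ze52) (ke xe22 ye28 ze23) (ke xe19 ye56 ze23) (ke xe19 ye56 ze24) (ke xe32 ye9 ze53) (ke xe19 ye56 ze28) (ke xe19 ye56 ze29) (ke xe19 ye56 ze30) (ke xe32 ye42 ze54) (ke xe19 ye56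 ze32) (ke xe23 ye31 ze6) (ke xe31 ye6 ze0) (ke xe20 ye1 ze52) (ke xe26 ye36 ze13) (ke xe19 ye56 ze52) (ke xe32 ye16 ze3) (ke xe26 ye41 ze2) (ke xe19 ye56 ze58) (ke xe32 ye7 ze9) (ke xe31 ye43 ze44) (ke xe24 ye13 ze42) (ke xe26 ye20 ze30) (ke xe19 ye57 ze3) (ke xe29 ye15 ze36) (ke xe28 ye42 ze11) (ke xe19 ye57 ze7) (ke xe25 ye13 ze54) (ke xe28 ye58 ze43) (ke xe25 ye13 ze59) (ke xe25 ye33 ze17) (ke xe27 ye12 ze15) (ke xe19 ye57 ze16) (ke xe22 ye9 ze41) (ke xe27 ye46 ze61) (ke xe22 ye1 ze49) (ke xe31 ye49 ze5) (ke xe31 ye46 ze27) (ke xe19 ye57 ze22) (ke xe25 ye13 ze21) (ke xe32 ye20 ze1) (ke xe31 ye46 ze29) (ke xe20 ye27 ze37) (ke xe19 ye57 ze28) (ke xe19 ye57 ze35) (ke xe20 ye54 ze31) (ke xe22 ye6 ze24) (ke xe31 ye22 ze10) (ke xe20 ye12 ze43) (ke xe27 ye37 ze61)) (@D3.rec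 (fun _ => Pt) (ke xe19 ye57 ze46) (ke xe24 ye1 ze26) (ke xe24 ye34 ze2) (ke xe19 ye57 ze53) (ke xe29 ye44 ze50) (ke xe25 ye19 ze44) (ke xe24 ye50 ze12) (ke xe32 ye43 ze22) (ke xe19 ye57 ze56) (ke xe29 ye35 ze33) (ke xe31 ye40 ze6) (ke xe32 ye27 ze3) (ke xe29 ye41 ze25) (ke xe19 ye57 ze61) (ke xe19 ye58 ze1) (ke xe28 ye55 ze12) (ke xe19 ye58 ze3) (ke xe19 ye59 ze21) (ke xe19 ye58 ze7) (ke xe28 ye55 ze18) (ke xe20 ye58 ze33) (ke xe31 ye40 ze22) (ke xe19 ye58 ze9) (ke xe32 ye17 ze27) (ke xe19 ye58 ze10) (ke xe31 ye41 ze9) (ke xe31 ye41 ze41) (ke xe32 ye39 ze4) (ke xe31 ye56 ze57) (ke xe31 ye47 ze57) (ke xe24 ye10 ze53) (ke xe32 ye39 ze21) (ke xe25 ye11 ze22) (ke xe30 ye27 ze4) (ke xe31 ye41 ze6) (ke xe19 ye58 ze21) (ke xe31 ye40 ze45) (ke xe24 ye17 ze27) (ke xe19 ye58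 ze26) (ke xe21 ye7 ze38) (ke xe28 ye55 ze28) (ke xe29 ye35 ze55) (ke xe25 ye23 ze48) (ke xe32 ye5 ze23) (ke xe25 ye23 ze50) (ke xe24 ye6 ze38) (ke xe32 ye43 ze25) (ke xe19 ye58 ze43) (ke xe30 ye12 ze58) (ke xe19 ye58 ze49) (ke xe31 ye11 ze30) (ke xe30 ye52 ze35) (ke xe29 ye49 ze57) (ke xe19 ye58 ze58) (ke xe22 ye31 ze33) (ke xe31 ye56 ze44) (ke xe32 ye3 ze19) (ke xe23 ye28 ze16) (ke xe32 ye43 ze27) (ke xe31 ye57 ze45) (ke xe29 ye21 ze45) (ke xe20 ye24 ze27)) (@D3.rec (fun _ => Pt) (ke xe25 ye17 ze39) (ke xe19 ye59 ze12) (ke xe29 ye56 ze57) (ke xe24 ye22 ze59) (ke xe31 ye3 ze12) (ke xe21 ye49 ze17) (ke xe31 ye58 ze22) (ke xe32 ye2 ze27) (ke xe30 ye41 ze19) (ke xe26 ye55 ze22) (ke xe20 ye5 ze11) (ke xe31 ye40 ze47) (ke xe31 ye52 ze33) (ke xe32 ye43 ze30) (ke xe19 ye59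 ze20) (ke xe29 ye15 ze11) (ke xe31 ye40 ze53) (ke xe31 ye45 ze61) (ke xe20 ye58 ze36) (ke xe20 ye26 ze43) (ke xe32 ye17 ze46) (ke xe19 ye59 ze25) (ke xe32 ye43 ze33) (ke xe19 ye59 ze26) (ke xe32 ye43 ze37) (ke xe28 ye54 ze47) (ke xe26 ye35 ze29) (ke xe21 ye0 ze40) (ke xe19 ye59 ze34) (ke xe26 ye14 ze21) (ke xe24 ye47 ze53) (ke xe24 ye47 ze54) (ke xe29 ye50 ze25) (ke xe22 ye42 ze21) (ke xe19 ye59 ze44) (ke xe25 ye14 ze33) (ke xe26 ye27 ze59) (ke xe22 ye4 ze47) (ke xe26 ye31 ze43) (ke xe23 ye6 ze39) (ke xe28 ye24 ze34) (ke xe28 ye18 ze51) (ke xe22 ye57 ze35) (ke xe29 ye30 ze11) (ke xe20 ye0 ze45) (ke xe26 ye44 ze47) (ke xe23 ye4 ze13) (ke xe22 ye31 ze40) (ke xe22 ye23 ze35) (ke xe27 ye58 ze48) (ke xe21 ye44 ze24) (ke xe20 ye35 ze3) (ke xe21 ye0 ze59) (ke xe20 ye1 ze11)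 (ke xe28 ye28 ze8) (ke xe22 ye42 ze40) (ke xe20 ye1 ze19) (ke xe21 ye40 ze8) (ke xe26 ye26 ze41) (ke xe27 ye57 ze39) (ke xe30 ye2 ze34) (ke xe29 ye18 ze18)) (@D3.rec (fun _ => Pt) (ke xe31 ye35 ze27) (ke xe28 ye58 ze19) (ke xe23 ye10 ze11) (ke xe26 ye48 ze36) (ke xe20 ye1 ze41) (ke xe25 ye20 ze25) (ke xe32 ye12 ze55) (ke xe26 ye35 ze18) (ke xe26 ye54 ze46) (ke xe31 ye40 ze25) (ke xe24 ye50 ze60) (ke xe29 ye14 ze15) (ke xe20 ye42 ze4) (ke xe32 ye43 ze40) (ke xe20 ye1 ze47) (ke xe32 ye18 ze1) (ke xe32 ye17 ze52) (ke xe20 ye1 ze49) (ke xe28 ye53 ze50) (ke xe32 ye43 ze44) (ke xe29 ye27 ze27) (ke xe20 ye1 ze54) (ke xe24 ye50 ze34) (ke xe24 ye32 ze21) (ke xe25 ye6 ze4) (ke xe32 ye36 ze11) (ke xe26 ye26 ze2) (ke xe20 ye1 ze60) (ke xe21 ye26 ze52) (ke xe20 ye2 ze10) (ke xe20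 ye2 ze12) (ke xe25 ye6 ze0) (ke xe29 ye49 ze26) (ke xe31 ye49 ze23) (ke xe31 ye49 ze14) (ke xe28 ye48 ze15) (ke xe29 ye12 ze36) (ke xe24 ye35 ze26) (ke xe32 ye35 ze35) (ke xe20 ye2 ze16) (ke xe31 ye9 ze21) (ke xe29 ye57 ze40) (ke xe31 ye1 ze15) (ke xe32 ye24 ze47) (ke xe32 ye42 ze16) (ke xe29 ye4 ze54) (ke xe32 ye43 ze46) (ke xe20 ye2 ze24) (ke xe32 ye2 ze35) (ke xe31 ye4 ze45) (ke xe32 ye43 ze47) (ke xe31 ye49 ze29) (ke xe31 ye45 ze10) (ke xe32 ye43 ze48) (ke xe20 ye2 ze27) (ke xe29 ye43 ze14) (ke xe31 ye49 ze13) (ke xe31 ye49 ze24) (ke xe21 ye58 ze11) (ke xe28 ye25 ze10) (ke xe30 ye50 ze56) (ke xe20 ye2 ze31)) (@D3.rec (fun _ => Pt) (ke xe32 ye28 ze26) (ke xe29 ye24 ze50) (ke xe32 ye34 ze31) (ke xe32 ye6 ze14) (ke xe31 ye49 ze20) (ke xe23 ye54 ze42) (ke xe25 ye54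 ze58) (ke xe26 ye31 ze23) (ke xe27 ye16 ze44) (ke xe31 ye45 ze16) (ke xe27 ye49 ze19) (ke xe20 ye2 ze41) (ke xe20 ye18 ze4) (ke xe30 ye48 ze3) (ke xe24 ye9 ze11) (ke xe28 ye47 ze46) (ke xe30 ye1 ze34) (ke xe31 ye45 ze56) (ke xe31 ye3 ze43) (ke xe20 ye2 ze49) (ke xe20 ye2 ze53) (ke xe32 ye41 ze58) (ke xe32 ye9 ze32) (ke xe32 ye43 ze52) (ke xe20 ye2 ze55) (ke xe20 ye2 ze56) (ke xe27 ye19 ze40) (ke xe31 ye45 ze47) (ke xe31 ye47 ze7) (ke xe21 ye48 ze48) (ke xe24 ye15 ze58) (ke xe20 ye2 ze61) (ke xe23 ye9 ze22) (ke xe20 ye3 ze3) (ke xe20 ye3 ze5) (ke xe20 ye3 ze6) (ke xe25 ye36 ze50) (ke xe31 ye31 ze31) (ke xe30 ye14 ze13) (ke xe32 ye28 ze1) (ke xe20 ye3 ze13) (ke xe28 ye42 ze7) (ke xe31 ye45 ze35) (ke xe31 ye49 ze46) (ke xe31 ye49 ze32) (ke xe20 ye50 ze19) (ke xe31 ye49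 ze48) (ke xe31 ye37 ze6) (ke xe20 ye3 ze18) (ke xe21 ye57 ze40) (ke xe31 ye45 ze37) (ke xe21 ye0 ze38) (ke xe20 ye3 ze26) (ke xe31 ye53 ze30) (ke xe25 ye26 ze2) (ke xe24 ye33 ze44) (ke xe20 ye3 ze29) (ke xe24 ye22 ze15) (ke xe26 ye6 ze43) (ke xe27 ye39 ze13) (ke xe29 ye9 ze39) (ke xe20 ye3 ze36)) (@D3.rec (fun _ => Pt) (ke xe25 ye10 ze47) (ke xe29 ye9 ze37) (ke xe22 ye42 ze36) (ke xe27 ye27 ze26) (ke xe31 ye59 ze9) (ke xe23 ye46 ze52) (ke xe20 ye3 ze47) (ke xe22 ye0 ze22) (ke xe32 ye4 ze34) (ke xe20 ye3 ze49) (ke xe29 ye59 ze60) (ke xe21 ye50 ze60) (ke xe29 ye4 ze25) (ke xe29 ye28 ze7) (ke xe31 ye19 ze40) (ke xe20 ye3 ze55) (ke xe28 ye31 ze18) (ke xe20 ye3 ze56) (ke xe26 ye44 ze32) (ke xe28 ye20 ze46) (ke xe20 ye3 ze59) (ke xe25 ye6 ze41) (ke xe24 ye58 ze26) (ke xe21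 ye37 ze1) (ke xe20 ye4 ze5) (ke xe21 ye22 ze54) (ke xe30 ye1 ze52) (ke xe20 ye4 ze9) (ke xe22 ye8 ze45) (ke xe27 ye46 ze1) (ke xe24 ye36 ze56) (ke xe21 ye48 ze21) (ke xe31 ye35 ze31) (ke xe31 ye56 ze37) (ke xe20 ye4 ze27) (ke xe20 ye4 ze34) (ke xe32 ye43 ze58) (ke xe31 ye2 ze56) (ke xe20 ye4 ze36) (ke xe24 ye37 ze40) (ke xe29 ye22 ze29) (ke xe20 ye4 ze43) (ke xe29 ye59 ze22) (ke xe24 ye5 ze1) (ke xe27 ye15 ze55) (ke xe25 ye58 ze5) (ke xe29 ye41 ze27) (ke xe20 ye4 ze51) (ke xe26 ye42 ze23) (ke xe20 ye4 ze55) (ke xe20 ye44 ze4) (ke xe20 ye40 ze41) (ke xe29 ye23 ze30) (ke xe25 ye19 ze8) (ke xe26 ye40 ze6) (ke xe31 ye40 ze31) (ke xe23 ye55 ze46) (ke xe24 ye51 ze52) (ke xe20 ye5 ze9) (ke xe29 ye23 ze37) (ke xe25 ye6 ze51) (ke xe27 ye21 ze50)) (@D3.rec (fun _ => Pt) (ke xe20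 ye5 ze16) (ke xe32 ye27 ze8) (ke xe20 ye26 ze35) (ke xe20 ye5 ze20) (ke xe32 ye12 ze57) (ke xe21 ye57 ze35) (ke xe25 ye23 ze43) (ke xe21 ye35 ze59) (ke xe21 ye6 ze61) (ke xe21 ye53 ze29) (ke xe21 ye21 ze16) (ke xe20 ye5 ze35) (ke xe21 ye41 ze4) (ke xe20 ye5 ze59) (ke xe20 ye6 ze7) (ke xe20 ye6 ze16) (ke xe23 ye15 ze45) (ke xe20 ye6 ze24) (ke xe29 ye14 ze61) (ke xe22 ye31 ze41) (ke xe22 ye46 ze18) (ke xe20 ye6 ze36) (ke xe20 ye6 ze39) (ke xe23 ye31 ze54) (ke xe23 ye31 ze18) (ke xe20 ye7 ze1) (ke xe20 ye13 ze18) (ke xe21 ye18 ze38) (ke xe27 ye55 ze36) (ke xe32 ye25 ze51) (ke xe26 ye17 ze30) (ke xe20 ye7 ze5) (ke xe30 ye39 ze35) (ke xe25 ye54 ze26) (ke xe28 ye4 ze36) (ke xe31 ye50 ze2) (ke xe22 ye28 ze53) (ke xe28 ye25 ze59) (ke xe20 ye7 ze48) (ke xe20 ye7 ze28) (ke xe20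 ye7 ze29) (ke xe26 ye32 ze23) (ke xe20 ye7 ze35) (ke xe22 ye1 ze11) (ke xe25 ye53 ze9) (ke xe27 ye26 ze31) (ke xe20 ye7 ze40) (ke xe20 ye7 ze41) (ke xe28 ye38 ze19) (ke xe21 ye38 ze11) (ke xe20 ye36 ze56) (ke xe30 ye45 ze33) (ke xe30 ye43 ze42) (ke xe29 ye29 ze4) (ke xe29 ye23 ze56) (ke xe28 ye26 ze25) (ke xe22 ye51 ze11) (ke xe28 ye27 ze45) (ke xe20 ye8 ze10) (ke xe23 ye18 ze7) (ke xe20 ye8 ze15) (ke xe30 ye58 ze30)) (@D3.rec (fun _ => Pt) (ke xe31 ye0 ze15) (ke xe20 ye40 ze55) (ke xe20 ye8 ze18) (ke xe22 ye59 ze40) (ke xe22 ye29 ze23) (ke xe23 ye8 ze59) (ke xe20 ye32 ze9) (ke xe20 ye8 ze37) (ke xe32 ye33 ze12) (ke xe21 ye37 ze21) (ke xe20 ye34 ze43) (ke xe20 ye8 ze41) (ke xe21 ye44 ze17) (ke xe20 ye8 ze43) (ke xe23 ye6 ze1) (ke xe20 ye18 ze13) (ke xe29 ye24 ze3) (ke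 xe20 ye8 ze50) (ke xe20 ye8 ze52) (ke xe29 ye24 ze5) (ke xe29 ye29 ze5) (ke xe20 ye18 ze19) (ke xe30 ye48 ze21) (ke xe29 ye29 ze36) (ke xe20 ye8 ze57) (ke xe23 ye21 ze30) (ke xe30 ye54 ze39) (ke xe20 ye8 ze58) (ke xe23 ye35 ze43) (ke xe26 ye56 ze5) (ke xe20 ye9 ze4) (ke xe20 ye9 ze9) (ke xe28 ye38 ze21) (ke xe23 ye6 ze40) (ke xe29 ye24 ze47) (ke xe20 ye9 ze22) (ke xe23 ye0 ze10) (ke xe20 ye9 ze27) (ke xe27 ye9 ze12) (ke xe20 ye10 ze16) (ke xe30 ye22 ze44) (ke xe20 ye9 ze35) (ke xe21 ye4 ze5) (ke xe20 ye12 ze54) (ke xe20 ye44 ze8) (ke xe30 ye31 ze60) (ke xe27 ye52 ze14) (ke xe27 ye34 ze22) (ke xe31 ye11 ze6) (ke xe22 ye33 ze55) (ke xe20 ye10 ze4) (ke xe23 ye55 ze7) (ke xe20 ye10 ze8) (ke xe32 ye34 ze40) (ke xe20 ye10 ze9) (ke xe25 ye25 ze27) (ke xe26 ye6 ze7) (ke xe20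 ye36 ze31) (ke xe32 ye8 ze29) (ke xe20 ye10 ze11) (ke xe20 ye10 ze13) (ke xe32 ye29 ze52)) (@D3.rec (fun _ => Pt) (ke xe32 ye35 ze8) (ke xe20 ye10 ze17) (ke xe22 ye33 ze54) (ke xe29 ye38 ze37) (ke xe27 ye58 ze35) (ke xe27 ye55 ze24) (ke xe27 ye32 ze43) (ke xe27 ye33 ze26) (ke xe24 ye28 ze24) (ke xe27 ye33 ze56) (ke xe22 ye28 ze41) (ke xe28 ye8 ze51) (ke xe20 ye10 ze21) (ke xe20 ye10 ze24) (ke xe22 ye32 ze45) (ke xe24 ye18 ze51) (ke xe20 ye10 ze27) (ke xe32 ye16 ze27) (ke xe29 ye25 ze23) (ke xe25 ye47 ze48) (ke xe28 ye9 ze54) (ke xe26 ye58 ze34) (ke xe20 ye10 ze35) (ke xe27 ye55 ze16) (ke xe32 ye30 ze16) (ke xe20 ye10 ze39) (ke xe21 ye12 ze10) (ke xe23 ye36 ze50) (ke xe27 ye49 ze61) (ke xe27 ye39 ze0) (ke xe25 ye34 ze9) (ke xe20 ye10 ze45) (ke xe27 ye37 ze56) (ke xe23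 ye6 ze54) (ke xe20 ye10 ze52) (ke xe20 ye10 ze53) (ke xe25 ye24 ze1) (ke xe23 ye50 ze34) (ke xe30 ye24 ze45) (ke xe31 ye25 ze39) (ke xe20 ye10 ze59) (ke xe27 ye34 ze36) (ke xe26 ye30 ze43) (ke xe27 ye34 ze44) (ke xe23 ye53 ze55) (ke xe28 ye6 ze51) (ke xe30 ye48 ze1) (ke xe20 ye11 ze4) (ke xe22 ye55 ze40) (ke xe32 ye27 ze57) (ke xe26 ye31 ze51) (ke xe30 ye54 ze58) (ke xe26 ye29 ze15) (ke xe27 ye51 ze29) (ke xe20 ye11 ze14) (ke xe27 ye49 ze21) (ke xe32 ye29 ze39) (ke xe32 ye9 ze42) (ke xe20 ye11 ze12) (ke xe32 ye38 ze51) (ke xe20 ye11 ze13) (ke xe22 ye20 ze17)) (@D3.rec (fun _ => Pt) (ke xe31 ye39 ze25) (ke xe28 ye5 ze7) (ke xe32 ye28 ze44) (ke xe24 ye54 ze31) (ke xe20 ye11 ze17) (ke xe32 ye44 ze5) (ke xe32 ye44 ze6) (ke xe20 ye11 ze18) (ke xe20 ye11 ze20) (ke xe20 ye11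 ze22) (ke xe27 ye43 ze9) (ke xe28 ye47 ze42) (ke xe20 ye11 ze25) (ke xe23 ye4 ze36) (ke xe23 ye54 ze51) (ke xe29 ye42 ze61) (ke xe20 ye11 ze27) (ke xe32 ye41 ze8) (ke xe20 ye11 ze30) (ke xe22 ye27 ze18) (ke xe29 ye55 ze31) (ke xe20 ye11 ze34) (ke xe29 ye25 ze28) (ke xe30 ye48 ze49) (ke xe27 ye20 ze58) (ke xe32 ye41 ze10) (ke xe32 ye44 ze9) (ke xe32 ye44 ze10) (ke xe22 ye49 ze2) (ke xe31 ye22 ze36) (ke xe20 ye11 ze50) (ke xe29 ye46 ze14) (ke xe32 ye34 ze6) (ke xe26 ye31 ze48) (ke xe20 ye18 ze60) (ke xe30 ye33 ze55) (ke xe28 ye52 ze50) (ke xe27 ye51 ze35) (ke xe30 ye26 ze34) (ke xe20 ye12 ze1) (ke xe28 ye52 ze52) (ke xe26 ye6 ze9) (ke xe20 ye12 ze8) (ke xe20 ye18 ze58) (ke xe27 ye41 ze22) (ke xe29 ye13 ze60) (ke xe26 ye49 ze0) (ke xe27 ye3 ze55) (ke xe22 ye10 ze7) (ke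 xe27 ye7 ze41) (ke xe22 ye11 ze42) (ke xe29 ye21 ze55) (ke xe20 ye12 ze59) (ke xe20 ye12 ze60) (ke xe21 ye18 ze37) (ke xe29 ye21 ze51) (ke xe29 ye59 ze5) (ke xe21 ye23 ze34) (ke xe20 ye15 ze3) (ke xe22 ye40 ze48) (ke xe30 ye32 ze53) (ke xe20 ye13 ze27)) (@D3.rec (fun _ => Pt) (ke xe23 ye17 ze31) (ke xe30 ye33 ze52) (ke xe26 ye22 ze35) (ke xe20 ye23 ze28) (ke xe27 ye41 ze23) (ke xe23 ye25 ze60) (ke xe31 ye7 ze6) (ke xe21 ye8 ze41) (ke xe26 ye11 ze3) (ke xe23 ye47 ze51) (ke xe29 ye37 ze51) (ke xe23 ye32 ze9) (ke xe31 ye26 ze19) (ke xe20 ye14 ze4) (ke xe21 ye36 ze3) (ke xe27 ye21 ze48) (ke xe32 ye43 ze49) (ke xe27 ye8 ze13) (ke xe20 ye14 ze25) (ke xe21 ye51 ze6) (ke xe20 ye36 ze6) (ke xe21 ye51 ze17) (ke xe22 ye2 ze49) (ke xe21 ye47 ze13) (ke xe20 ye14 ze39) (ke xe27 ye35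 ze23) (ke xe28 ye42 ze4) (ke xe32 ye5 ze29) (ke xe20 ye17 ze59) (ke xe29 ye17 ze40) (ke xe20 ye17 ze5) (ke xe26 ye5 ze52) (ke xe21 ye28 ze42) (ke xe21 ye23 ze35) (ke xe20 ye15 ze4) (ke xe27 ye48 ze9) (ke xe32 ye24 ze22) (ke xe20 ye15 ze10) (ke xe20 ye15 ze17) (ke xe24 ye16 ze60) (ke xe32 ye30 ze61) (ke xe29 ye38 ze17) (ke xe20 ye17 ze27) (ke xe21 ye41 ze54) (ke xe21 ye42 ze7) (ke xe21 ye41 ze7) (ke xe20 ye15 ze35) (ke xe20 ye15 ze41) (ke xe21 ye59 ze9) (ke xe22 ye17 ze7) (ke xe20 ye15 ze45) (ke xe28 ye3 ze41) (ke xe28 ye37 ze23) (ke xe27 ye55 ze39) (ke xe20 ye15 ze58) (ke xe21 ye7 ze19) (ke xe20 ye24 ze0) (ke xe21 ye44 ze42) (ke xe27 ye11 ze54) (ke xe23 ye1 ze45) (ke xe21 ye51 ze22) (ke xe21 ye50 ze54)) (@D3.rec (fun _ => Pt) (ke xe24 ye43 ze1) (ke xe25 ye50 ze38) (ke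 xe22 ye30 ze16) (ke xe23 ye33 ze24) (ke xe24 ye15 ze19) (ke xe22 ye5 ze5) (ke xe24 ye39 ze35) (ke xe20 ye27 ze30) (ke xe24 ye28 ze50) (ke xe20 ye16 ze41) (ke xe31 ye30 ze15) (ke xe20 ye16 ze51) (ke xe30 ye55 ze61) (ke xe20 ye16 ze55) (ke xe27 ye37 ze14) (ke xe20 ye16 ze57) (ke xe25 ye39 ze11) (ke xe20 ye17 ze2) (ke xe21 ye35 ze35) (ke xe29 ye57 ze59) (ke xe29 ye3 ze33) (ke xe20 ye17 ze11) (ke xe29 ye38 ze27) (ke xe21 ye40 ze18) (ke xe24 ye19 ze30) (ke xe22 ye23 ze11) (ke xe27 ye45 ze20) (ke xe27 ye4 ze16) (ke xe27 ye30 ze32) (ke xe20 ye17 ze44) (ke xe29 ye17 ze52) (ke xe25 ye27 ze58) (ke xe26 ye54 ze1) (ke xe29 ye4 ze9) (ke xe25 ye9 ze51) (ke xe25 ye57 ze8) (ke xe32 ye0 ze29) (ke xe29 ye17 ze59) (ke xe20 ye17 ze55) (ke xe29 ye47 ze48) (ke xe20 ye49 ze47) (ke xe20 ye17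 ze60) (ke xe29 ye0 ze57) (ke xe32 ye44 ze18) (ke xe28 ye20 ze42) (ke xe24 ye35 ze61) (ke xe32 ye44 ze19) (ke xe20 ye18 ze0) (ke xe20 ye18 ze1) (ke xe31 ye26 ze61) (ke xe31 ye26 ze45) (ke xe25 ye27 ze41) (ke xe28 ye14 ze15) (ke xe32 ye1 ze53) (ke xe20 ye50 ze40) (ke xe20 ye18 ze11) (ke xe29 ye18 ze54) (ke xe28 ye21 ze17) (ke xe20 ye18 ze12) (ke xe32 ye7 ze1) (ke xe20 ye18 ze16) (ke xe29 ye55 ze38)) (@D3.rec (fun _ => Pt) (ke xe28 ye38 ze29) (ke xe26 ye57 ze49) (ke xe26 ye49 ze56) (ke xe29 ye19 ze16) (ke xe20 ye28 ze41) (ke xe29 ye19 ze19) (ke xe20 ye18 ze27) (ke xe28 ye26 ze18) (ke xe28 ye13 ze40) (ke xe29 ye29 ze20) (ke xe28 ye26 ze5) (ke xe31 ye48 ze42) (ke xe20 ye18 ze32) (ke xe20 ye18 ze43) (ke xe24 ye44 ze25) (ke xe20 ye18 ze38) (ke xe20 ye18 ze39) (ke xe20 ye18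 ze42) (ke xe23 ye24 ze34) (ke xe21 ye11 ze17) (ke xe24 ye18 ze48) (ke xe25 ye26 ze31) (ke xe20 ye19 ze3) (ke xe30 ye31 ze41) (ke xe24 ye1 ze14) (ke xe25 ye26 ze43) (ke xe30 ye57 ze2) (ke xe23 ye2 ze26) (ke xe20 ye19 ze22) (ke xe27 ye0 ze53) (ke xe30 ye7 ze28) (ke xe22 ye30 ze4) (ke xe22 ye28 ze35) (ke xe20 ye24 ze2) (ke xe32 ye22 ze5) (ke xe29 ye51 ze60) (ke xe22 ye22 ze40) (ke xe20 ye20 ze9) (ke xe32 ye35 ze9) (ke xe21 ye4 ze17) (ke xe20 ye20 ze15) (ke xe20 ye20 ze13) (ke xe24 ye23 ze12) (ke xe26 ye10 ze23) (ke xe28 ye10 ze21) (ke xe23 ye35 ze22) (ke xe20 ye41 ze57) (ke xe29 ye19 ze34) (ke xe27 ye0 ze59) (ke xe29 ye58 ze57) (ke xe29 ye16 ze1) (ke xe20 ye20 ze55) (ke xe32 ye10 ze3) (ke xe27 ye32 ze54) (ke xe27 ye34 ze38) (ke xe21 ye44 ze38) (ke xe20 ye21 ze0) (ke xe26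 ye24 ze55) (ke xe28 ye45 ze57) (ke xe28 ye27 ze23) (ke xe20 ye21 ze5) (ke xe32 ye34 ze58)) (@D3.rec (fun _ => Pt) (ke xe26 ye31 ze56) (ke xe29 ye54 ze26) (ke xe28 ye31 ze49) (ke xe32 ye27 ze27) (ke xe22 ye49 ze38) (ke xe26 ye19 ze27) (ke xe30 ye45 ze23) (ke xe31 ye42 ze31) (ke xe20 ye21 ze18) (ke xe29 ye25 ze18) (ke xe32 ye25 ze55) (ke xe32 ye26 ze8) (ke xe20 ye21 ze22) (ke xe27 ye33 ze46) (ke xe24 ye54 ze26) (ke xe32 ye19 ze58) (ke xe27 ye50 ze10) (ke xe26 ye30 ze57) (ke xe29 ye25 ze9) (ke xe28 ye9 ze23) (ke xe24 ye56 ze19) (ke xe20 ye21 ze41) (ke xe32 ye44 ze27) (ke xe29 ye20 ze18) (ke xe30 ye46 ze36) (ke xe28 ye23 ze6) (ke xe20 ye21 ze46) (ke xe31 ye16 ze32) (ke xe29 ye21 ze22) (ke xe20 ye21 ze52) (ke xe28 ye24 ze36) (ke xe25 ye52 ze13) (ke xe32 ye34 ze35) (ke xe20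 ye47 ze16) (ke xe32 ye33 ze52) (ke xe28 ye13 ze55) (ke xe29 ye42 ze33) (ke xe20 ye22 ze42) (ke xe26 ye40 ze0) (ke xe21 ye36 ze48) (ke xe20 ye22 ze49) (ke xe31 ye13 ze44) (ke xe26 ye54 ze54) (ke xe20 ye23 ze3) (ke xe20 ye23 ze4) (ke xe26 ye54 ze9) (ke xe22 ye37 ze10) (ke xe20 ye23 ze6) (ke xe29 ye52 ze26) (ke xe31 ye46 ze20) (ke xe27 ye4 ze21) (ke xe32 ye13 ze45) (ke xe20 ye23 ze21) (ke xe20 ye38 ze23) (ke xe30 ye25 ze52) (ke xe30 ye29 ze46) (ke xe20 ye38 ze44) (ke xe20 ye38 ze47) (ke xe26 ye40 ze28) (ke xe26 ye51 ze44) (ke xe20 ye23 ze27) (ke xe22 ye17 ze47)) (@D3.rec (fun _ => Pt) (ke xe20 ye23 ze33) (ke xe30 ye49 ze48) (ke xe20 ye23 ze37) (ke xe31 ye36 ze43) (ke xe30 ye23 ze51) (ke xe20 ye23 ze40) (ke xe28 ye35 ze8) (ke xe30 ye30 ze51) (ke xe30 ye9 ze29) (ke xe32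 ye10 ze40) (ke xe20 ye23 ze44) (ke xe31 ye30 ze47) (ke xe20 ye23 ze45) (ke xe32 ye13 ze32) (ke xe32 ye13 ze43) (ke xe28 ye39 ze41) (ke xe20 ye23 ze48) (ke xe30 ye29 ze53) (ke xe32 ye44 ze34) (ke xe24 ye7 ze5) (ke xe20 ye23 ze50) (ke xe28 ye30 ze1) (ke xe24 ye12 ze6) (ke xe26 ye40 ze10) (ke xe20 ye38 ze45) (ke xe26 ye39 ze33) (ke xe20 ye23 ze57) (ke xe26 ye33 ze57) (ke xe32 ye42 ze20) (ke xe24 ye1 ze34) (ke xe32 ye35 ze32) (ke xe22 ye3 ze57) (ke xe29 ye47 ze24) (ke xe32 ye37 ze19) (ke xe31 ye29 ze45) (ke xe20 ye24 ze6) (ke xe27 ye41 ze8) (ke xe20 ye24 ze10) (ke xe32 ye26 ze47) (ke xe29 ye55 ze57) (ke xe20 ye24 ze17) (ke xe31 ye30 ze48) (ke xe20 ye24 ze21) (ke xe20 ye24 ze54) (ke xe20 ye24 ze40) (ke xe20 ye24 ze43) (ke xe20 ye24 ze45) (ke xe30 ye4 ze3) (ke xe32 ye44 ze39)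 (ke xe32 ye4 ze53) (ke xe31 ye58 ze36) (ke xe31 ye5 ze10) (ke xe32 ye30 ze30) (ke xe23 ye37 ze4) (ke xe30 ye35 ze61) (ke xe23 ye37 ze6) (ke xe24 ye39 ze16) (ke xe20 ye24 ze60) (ke xe21 ye38 ze8) (ke xe22 ye24 ze52) (ke xe22 ye26 ze43) (ke xe21 ye11 ze21)) (@D3.rec (fun _ => Pt) (ke xe26 ye23 ze20) (ke xe31 ye15 ze46) (ke xe22 ye42 ze31) (ke xe27 ye8 ze32) (ke xe28 ye23 ze39) (ke xe20 ye25 ze24) (ke xe23 ye57 ze38) (ke xe26 ye45 ze1) (ke xe20 ye34 ze49) (ke xe21 ye13 ze26) (ke xe20 ye25 ze42) (ke xe24 ye56 ze51) (ke xe23 ye4 ze54) (ke xe32 ye5 ze6) (ke xe27 ye40 ze47) (ke xe25 ye21 ze59) (ke xe31 ye21 ze27) (ke xe20 ye26 ze34) (ke xe32 ye17 ze54) (ke xe20 ye26 ze36) (ke xe31 ye43 ze46) (ke xe32 ye22 ze38) (ke xe31 ye47 ze53) (ke xe29 ye36 ze8) (ke xe20 ye26 ze39) (ke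 xe32 ye17 ze57) (ke xe27 ye37 ze4) (ke xe29 ye15 ze20) (ke xe32 ye11 ze1) (ke xe20 ye26 ze42) (ke xe32 ye18 ze0) (ke xe20 ye26 ze44) (ke xe31 ye34 ze26) (ke xe32 ye17 ze49) (ke xe32 ye44 ze50) (ke xe20 ye26 ze55) (ke xe28 ye47 ze0) (ke xe25 ye11 ze28) (ke xe20 ye27 ze3) (ke xe24 ye48 ze29) (ke xe32 ye8 ze42) (ke xe20 ye27 ze13) (ke xe24 ye12 ze17) (ke xe22 ye20 ze16) (ke xe21 ye54 ze49) (ke xe20 ye27 ze42) (ke xe20 ye27 ze46) (ke xe24 ye53 ze9) (ke xe29 ye40 ze43) (ke xe32 ye39 ze50) (ke xe30 ye25 ze22) (ke xe25 ye45 ze1) (ke xe27 ye36 ze29) (ke xe25 ye45 ze10) (ke xe29 ye40 ze31) (ke xe28 ye33 ze53) (ke xe21 ye31 ze34) (ke xe24 ye6 ze0) (ke xe20 ye29 ze1) (ke xe30 ye31 ze22) (ke xe22 ye0 ze33) (ke xe20 ye28 ze40)) (@D3.rec (fun _ => Pt) (ke xe31 ye6 ze28) (ke xe28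 ye46 ze21) (ke xe24 ye47 ze28) (ke xe20 ye28 ze46) (ke xe20 ye28 ze51) (ke xe20 ye28 ze52) (ke xe30 ye57 ze44) (ke xe29 ye17 ze13) (ke xe29 ye37 ze49) (ke xe26 ye50 ze10) (ke xe32 ye38 ze39) (ke xe26 ye54 ze23) (ke xe25 ye58 ze59) (ke xe20 ye29 ze11) (ke xe25 ye35 ze14) (ke xe30 ye55 ze42) (ke xe32 ye44 ze53) (ke xe20 ye29 ze14) (ke xe20 ye29 ze15) (ke xe24 ye27 ze0) (ke xe32 ye38 ze56) (ke xe20 ye29 ze21) (ke xe32 ye7 ze36) (ke xe26 ye26 ze32) (ke xe32 ye44 ze1) (ke xe22 ye12 ze54) (ke xe27 ye59 ze43) (ke xe20 ye29 ze28) (ke xe20 ye29 ze31) (ke xe22 ye52 ze38) (ke xe29 ye4 ze40) (ke xe29 ye3 ze37) (ke xe26 ye7 ze1) (ke xe25 ye46 ze40) (ke xe29 ye49 ze16) (ke xe20 ye29 ze35) (ke xe27 ye13 ze18) (ke xe27 ye15 ze45) (ke xe20 ye29 ze37) (ke xe27 ye21 ze54) (ke xe31 ye38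 ze42) (ke xe20 ye29 ze39) (ke xe20 ye29 ze42) (ke xe32 ye44 ze56) (ke xe20 ye29 ze44) (ke xe28 ye12 ze21) (ke xe23 ye40 ze47) (ke xe20 ye57 ze0) (ke xe20 ye29 ze57) (ke xe20 ye29 ze60) (ke xe26 ye30 ze18) (ke xe21 ye52 ze24) (ke xe26 ye53 ze31) (ke xe21 ye51 ze45) (ke xe32 ye36 ze61) (ke xe20 ye30 ze8) (ke xe30 ye39 ze38) (ke xe27 ye8 ze14) (ke xe29 ye36 ze28) (ke xe32 ye39 ze38) (ke xe26 ye55 ze29) (ke xe20 ye30 ze12)) (@D3.rec (fun _ => Pt) (ke xe30 ye24 ze34) (ke xe23 ye4 ze8) (ke xe20 ye30 ze17) (ke xe22 ye56 ze1) (ke xe29 ye18 ze53) (ke xe29 ye19 ze20) (ke xe31 ye50 ze25) (ke xe31 ye38 ze51) (ke xe20 ye30 ze28) (ke xe30 ye30 ze37) (ke xe24 ye48 ze34) (ke xe20 ye30 ze41) (ke xe20 ye30 ze46) (ke xe31 ye34 ze1) (ke xe28 ye41 ze5) (ke xe20 ye30 ze49) (ke xe22 ye14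 ze33) (ke xe23 ye25 ze49) (ke xe24 ye28 ze29) (ke xe29 ye6 ze15) (ke xe29 ye24 ze9) (ke xe31 ye22 ze23) (ke xe22 ye30 ze22) (ke xe32 ye10 ze26) (ke xe20 ye31 ze8) (ke xe20 ye31 ze11) (ke xe31 ye30 ze14) (ke xe20 ye46 ze57) (ke xe32 ye37 ze4) (ke xe20 ye31 ze17) (ke xe30 ye46 ze33) (ke xe32 ye38 ze43) (ke xe31 ye31 ze4) (ke xe22 ye12 ze34) (ke xe22 ye50 ze8) (ke xe23 ye8 ze8) (ke xe29 ye19 ze23) (ke xe28 ye28 ze16) (ke xe20 ye31 ze28) (ke xe20 ye31 ze36) (ke xe27 ye6 ze1) (ke xe20 ye31 ze37) (ke xe20 ye33 ze6) (ke xe20 ye31 ze40) (ke xe25 ye16 ze0) (ke xe20 ye31 ze43) (ke xe23 ye32 ze39) (ke xe27 ye5 ze4) (ke xe30 ye55 ze46) (ke xe28 ye45 ze48) (ke xe22 ye32 ze12) (ke xe30 ye42 ze49) (ke xe28 ye48 ze49) (ke xe20 ye32 ze0) (ke xe27 ye48 ze48) (ke xe24 ye59 ze25) (ke xe24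 ye23 ze27) (ke xe24 ye31 ze12) (ke xe23 ye7 ze6) (ke xe20 ye32 ze14) (ke xe20 ye32 ze17) (ke xe20 ye32 ze19)) (@D3.rec (fun _ => Pt) (ke xe20 ye32 ze21) (ke xe21 ye6 ze42) (ke xe28 ye27 ze12) (ke xe25 ye16 ze5) (ke xe20 ye32 ze25) (ke xe27 ye5 ze35) (ke xe20 ye32 ze29) (ke xe25 ye46 ze25) (ke xe20 ye32 ze40) (ke xe20 ye32 ze54) (ke xe23 ye21 ze29) (ke xe29 ye14 ze43) (ke xe27 ye3 ze36) (ke xe31 ye38 ze60) (ke xe22 ye34 ze0) (ke xe20 ye33 ze11) (ke xe20 ye33 ze14) (ke xe20 ye33 ze19) (ke xe20 ye45 ze59) (ke xe32 ye40 ze8) (ke xe32 ye45 ze0) (ke xe31 ye22 ze37) (ke xe23 ye52 ze52) (ke xe20 ye46 ze4) (ke xe32 ye19 ze52) (ke xe20 ye33 ze24) (ke xe31 ye28 ze7) (ke xe20 ye33 ze33) (ke xe30 ye44 ze4) (ke xe20 ye33 ze34) (ke xe20 ye33 ze39) (ke xe30 ye54 ze5) (ke xe22 ye15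 ze54) (ke xe22 ye53 ze6) (ke xe26 ye56 ze17) (ke xe20 ye33 ze51) (ke xe20 ye33 ze53) (ke xe30 ye54 ze41) (ke xe20 ye33 ze54) (ke xe21 ye41 ze37) (ke xe31 ye19 ze30) (ke xe23 ye55 ze34) (ke xe29 ye41 ze19) (ke xe20 ye33 ze57) (ke xe32 ye44 ze14) (ke xe20 ye33 ze58) (ke xe30 ye47 ze42) (ke xe26 ye23 ze43) (ke xe22 ye6 ze33) (ke xe24 ye28 ze34) (ke xe20 ye34 ze4) (ke xe20 ye34 ze7) (ke xe28 ye58 ze18) (ke xe20 ye34 ze15) (ke xe30 ye36 ze7) (ke xe20 ye34 ze23) (ke xe21 ye53 ze27) (ke xe20 ye34 ze32) (ke xe27 ye32 ze31) (ke xe25 ye56 ze18) (ke xe28 ye34 ze56) (ke xe22 ye12 ze52)) (@D3.rec (fun _ => Pt) (ke xe30 ye21 ze8) (ke xe22 ye56 ze38) (ke xe22 ye9 ze32) (ke xe22 ye28 ze7) (ke xe30 ye8 ze30) (ke xe23 ye56 ze21) (ke xe24 ye8 ze18) (ke xe32 ye34 ze59) (ke xe20 ye35 ze6)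 (ke xe29 ye46 ze33) (ke xe32 ye14 ze11) (ke xe20 ye35 ze8) (ke xe20 ye37 ze14) (ke xe22 ye46 ze48) (ke xe23 ye53 ze24) (ke xe29 ye39 ze55) (ke xe22 ye19 ze25) (ke xe31 ye54 ze3) (ke xe20 ye35 ze14) (ke xe27 ye20 ze7) (ke xe26 ye33 ze21) (ke xe32 ye37 ze48) (ke xe20 ye35 ze29) (ke xe32 ye43 ze3) (ke xe20 ye35 ze33) (ke xe31 ye21 ze51) (ke xe29 ye44 ze38) (ke xe28 ye54 ze29) (ke xe20 ye35 ze35) (ke xe30 ye16 ze27) (ke xe26 ye34 ze0) (ke xe31 ye33 ze9) (ke xe26 ye41 ze50) (ke xe27 ye14 ze47) (ke xe20 ye35 ze40) (ke xe32 ye45 ze8) (ke xe20 ye35 ze42) (ke xe29 ye47 ze27) (ke xe29 ye43 ze10) (ke xe20 ye35 ze45) (ke xe21 ye43 ze7) (ke xe27 ye34 ze28) (ke xe28 ye12 ze53) (ke xe28 ye47 ze17) (ke xe30 ye44 ze8) (ke xe20 ye35 ze59) (ke xe21 ye58 ze44) (ke xe21 ye44 ze13) (ke xe31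 ye50 ze36) (ke xe26 ye33 ze7) (ke xe23 ye8 ze56) (ke xe21 ye28 ze51) (ke xe30 ye3 ze27) (ke xe29 ye43 ze8) (ke xe20 ye36 ze24) (ke xe25 ye58 ze3) (ke xe20 ye36 ze26) (ke xe32 ye36 ze26) (ke xe27 ye58 ze31) (ke xe20 ye36 ze34) (ke xe27 ye52 ze43) (ke xe20 ye37 ze1)) (@D3.rec (fun _ => Pt) (ke xe30 ye49 ze55) (ke xe20 ye36 ze42) (ke xe23 ye8 ze12) (ke xe20 ye36 ze43) (ke xe30 ye53 ze42) (ke xe30 ye14 ze45) (ke xe30 ye52 ze59) (ke xe22 ye46 ze50) (ke xe20 ye36 ze49) (ke xe23 ye56 ze11) (ke xe22 ye56 ze19) (ke xe30 ye15 ze52) (ke xe20 ye36 ze50) (ke xe26 ye57 ze17) (ke xe32 ye45 ze13) (ke xe20 ye36 ze51) (ke xe23 ye50 ze39) (ke xe32 ye28 ze27) (ke xe31 ye33 ze24) (ke xe29 ye1 ze4) (ke xe20 ye36 ze53) (ke xe32 ye45 ze17) (ke xe20 ye36 ze57) (ke xe20 ye36 ze60) (ke xe32 ye24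 ze16) (ke xe20 ye37 ze3) (ke xe32 ye30 ze55) (ke xe26 ye58 ze3) (ke xe27 ye13 ze53) (ke xe20 ye44 ze18) (ke xe28 ye53 ze41) (ke xe22 ye23 ze59) (ke xe29 ye39 ze45) (ke xe20 ye37 ze22) (ke xe20 ye37 ze23) (ke xe29 ye37 ze50) (ke xe28 ye39 ze25) (ke xe32 ye21 ze55) (ke xe28 ye10 ze51) (ke xe21 ye5 ze8) (ke xe24 ye58 ze31) (ke xe25 ye19 ze61) (ke xe32 ye45 ze18) (ke xe20 ye37 ze44) (ke xe29 ye45 ze41) (ke xe24 ye52 ze0) (ke xe31 ye41 ze19) (ke xe20 ye37 ze46) (ke xe21 ye46 ze57) (ke xe20 ye47 ze26) (ke xe27 ye51 ze10) (ke xe27 ye20 ze38) (ke xe26 ye3 ze61) (ke xe27 ye53 ze25) (ke xe28 ye37 ze42) (ke xe22 ye26 ze23) (ke xe20 ye38 ze18) (ke xe26 ye37 ze30) (ke xe30 ye28 ze3) (ke xe26 ye38 ze59) (ke xe32 ye19 ze18) (ke xe28 ye6 ze36)) (@D3.rec (fun _ => Pt) (ke xe28 ye6 ze37)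 (ke xe22 ye1 ze6) (ke xe26 ye38 ze39) (ke xe20 ye38 ze32) (ke xe32 ye24 ze1) (ke xe20 ye38 ze34) (ke xe26 ye35 ze40) (ke xe28 ye56 ze35) (ke xe30 ye29 ze37) (ke xe20 ye38 ze38) (ke xe32 ye45 ze24) (ke xe26 ye36 ze23) (ke xe20 ye52 ze37) (ke xe23 ye53 ze17) (ke xe26 ye38 ze11) (ke xe26 ye38 ze41) (ke xe29 ye45 ze16) (ke xe32 ye45 ze28) (ke xe30 ye27 ze48) (ke xe20 ye38 ze56) (ke xe32 ye12 ze19) (ke xe24 ye26 ze44) (ke xe20 ye38 ze57) (ke xe26 ye33 ze25) (ke xe20 ye56 ze49) (ke xe30 ye14 ze55) (ke xe29 ye45 ze26) (ke xe20 ye39 ze0) (ke xe30 ye29 ze27) (ke xe26 ye37 ze29) (ke xe20 ye56 ze55) (ke xe32 ye45 ze35) (ke xe32 ye45 ze36) (ke xe31 ye19 ze33) (ke xe24 ye9 ze59) (ke xe31 ye21 ze1) (ke xe24 ye0 ze16) (ke xe32 ye45 ze39) (ke xe20 ye39 ze3) (ke xe24 ye16 ze39) (ke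 xe32 ye20 ze56) (ke xe32 ye33 ze30) (ke xe20 ye44 ze16) (ke xe20 ye39 ze9) (ke xe32 ye27 ze11) (ke xe20 ye39 ze11) (ke xe22 ye0 ze44) (ke xe20 ye39 ze12) (ke xe32 ye45 ze43) (ke xe30 ye15 ze24) (ke xe26 ye38 ze49) (ke xe20 ye39 ze18) (ke xe32 ye37 ze28) (ke xe22 ye23 ze57) (ke xe32 ye37 ze52) (ke xe26 ye34 ze50) (ke xe30 ye28 ze56) (ke xe30 ye30 ze54) (ke xe20 ye39 ze22) (ke xe28 ye51 ze8) (ke xe20 ye39 ze25) (ke xe20 ye39 ze26)) (@D3.rec (fun _ => Pt) (ke xe29 ye47 ze12) (ke xe32 ye37 ze37) (ke xe31 ye21 ze42) (ke xe20 ye39 ze30) (ke xe28 ye54 ze25) (ke xe32 ye45 ze49) (ke xe32 ye45 ze50) (ke xe20 ye39 ze32) (ke xe27 ye16 ze33) (ke xe32 ye36 ze54) (ke xe22 ye23 ze61) (ke xe28 ye54 ze44) (ke xe32 ye45 ze51) (ke xe20 ye39 ze34) (ke xe32 ye45 ze52) (ke xe32 ye45 ze10)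 (ke xe27 ye16 ze5) (ke xe27 ye11 ze41) (ke xe20 ye39 ze36) (ke xe32 ye14 ze8) (ke xe29 ye39 ze58) (ke xe32 ye18 ze55) (ke xe28 ye54 ze42) (ke xe22 ye25 ze9) (ke xe27 ye16 ze13) (ke xe20 ye39 ze38) (ke xe27 ye7 ze29) (ke xe32 ye19 ze14) (ke xe30 ye7 ze6) (ke xe20 ye39 ze40) (ke xe28 ye54 ze32) (ke xe20 ye39 ze42) (ke xe29 ye46 ze57) (ke xe32 ye40 ze13) (ke xe26 ye33 ze11) (ke xe26 ye38 ze5) (ke xe21 ye58 ze7) (ke xe25 ye27 ze55) (ke xe22 ye13 ze31) (ke xe20 ye39 ze52) (ke xe20 ye39 ze53) (ke xe30 ye50 ze50) (ke xe30 ye38 ze47) (ke xe20 ye40 ze43) (ke xe28 ye49 ze43) (ke xe20 ye40 ze5) (ke xe32 ye32 ze15) (ke xe20 ye40 ze7) (ke xe25 ye31 ze60) (ke xe26 ye4 ze44) (ke xe20 ye40 ze11) (ke xe28 ye14 ze0) (ke xe28 ye17 ze16) (ke xe20 ye43 ze38) (ke xe25 ye30 ze4) (ke xe20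 ye40 ze19) (ke xe24 ye24 ze4) (ke xe20 ye40 ze32) (ke xe28 ye29 ze61) (ke xe32 ye15 ze35) (ke xe28 ye41 ze48) (ke xe23 ye19 ze8)) (@D3.rec (fun _ => Pt) (ke xe32 ye0 ze22) (ke xe26 ye49 ze29) (ke xe20 ye40 ze47) (ke xe31 ye50 ze61) (ke xe20 ye40 ze48) (ke xe20 ye40 ze49) (ke xe20 ye40 ze51) (ke xe32 ye9 ze10) (ke xe23 ye48 ze29) (ke xe28 ye33 ze14) (ke xe32 ye40 ze1) (ke xe29 ye40 ze35) (ke xe29 ye36 ze36) (ke xe20 ye41 ze18) (ke xe26 ye24 ze17) (ke xe22 ye13 ze9) (ke xe30 ye38 ze18) (ke xe20 ye41 ze27) (ke xe32 ye45 ze57) (ke xe31 ye43 ze20) (ke xe22 ye14 ze20) (ke xe20 ye41 ze22) (ke xe30 ye18 ze38) (ke xe20 ye41 ze25) (ke xe20 ye47 ze19) (ke xe30 ye37 ze1) (ke xe21 ye48 ze13) (ke xe28 ye58 ze10) (ke xe28 ye48 ze12) (ke xe28 ye29 ze31) (ke xe24 ye7 ze12) (ke xe20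 ye41 ze42) (ke xe28 ye35 ze2) (ke xe29 ye13 ze9) (ke xe24 ye48 ze33) (ke xe27 ye38 ze15) (ke xe31 ye34 ze41) (ke xe20 ye41 ze43) (ke xe23 ye52 ze21) (ke xe20 ye41 ze49) (ke xe20 ye41 ze47) (ke xe32 ye45 ze59) (ke xe29 ye42 ze50) (ke xe28 ye38 ze38) (ke xe30 ye49 ze45) (ke xe28 ye32 ze60) (ke xe28 ye51 ze53) (ke xe20 ye41 ze52) (ke xe27 ye8 ze1) (ke xe23 ye41 ze1) (ke xe20 ye41 ze55) (ke xe28 ye37 ze55) (ke xe24 ye0 ze10) (ke xe30 ye22 ze45) (ke xe20 ye41 ze58) (ke xe29 ye13 ze41) (ke xe27 ye22 ze49) (ke xe25 ye20 ze24) (ke xe29 ye44 ze49) (ke xe29 ye50 ze50) (ke xe20 ye42 ze10) (ke xe28 ye36 ze59)) (@D3.rec (fun _ => Pt) (ke xe25 ye27 ze61) (ke xe32 ye21 ze52) (ke xe28 ye34 ze52) (ke xe24 ye51 ze60) (ke xe20 ye42 ze5) (ke xe25 ye22 ze42) (ke xe20 ye42 ze7) (ke xe32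 ye36 ze38) (ke xe29 ye27 ze23) (ke xe32 ye46 ze4) (ke xe32 ye46 ze1) (ke xe32 ye46 ze8) (ke xe32 ye46 ze11) (ke xe20 ye42 ze11) (ke xe29 ye37 ze33) (ke xe20 ye42 ze12) (ke xe32 ye46 ze13) (ke xe20 ye42 ze13) (ke xe20 ye42 ze14) (ke xe32 ye11 ze0) (ke xe20 ye42 ze21) (ke xe31 ye7 ze30) (ke xe32 ye0 ze12) (ke xe25 ye27 ze23) (ke xe20 ye42 ze34) (ke xe20 ye42 ze35) (ke xe25 ye59 ze60) (ke xe31 ye35 ze32) (ke xe29 ye28 ze58) (ke xe20 ye42 ze42) (ke xe32 ye46 ze18) (ke xe20 ye42 ze44) (ke xe29 ye8 ze33) (ke xe23 ye48 ze14) (ke xe30 ye20 ze60) (ke xe22 ye13 ze23) (ke xe29 ye35 ze12) (ke xe20 ye42 ze48) (ke xe27 ye41 ze55) (ke xe20 ye42 ze51) (ke xe29 ye36 ze60) (ke xe29 ye38 ze39) (ke xe32 ye26 ze43) (ke xe20 ye42 ze53) (ke xe20 ye43 ze11) (ke xe22 ye13 ze43) (ke xe30 ye23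 ze1) (ke xe20 ye42 ze58) (ke xe30 ye52 ze7) (ke xe24 ye38 ze41) (ke xe20 ye42 ze59) (ke xe30 ye22 ze40) (ke xe22 ye12 ze41) (ke xe32 ye46 ze20) (ke xe20 ye43 ze0) (ke xe28 ye36 ze9) (ke xe20 ye43 ze4) (ke xe23 ye7 ze32) (ke xe30 ye23 ze45) (ke xe20 ye43 ze6) (ke xe29 ye36 ze40) (ke xe32 ye17 ze31)) (@D3.rec (fun _ => Pt) (ke xe32 ye19 ze61) (ke xe29 ye42 ze47) (ke xe32 ye18 ze13) (ke xe32 ye37 ze8) (ke xe29 ye7 ze51) (ke xe30 ye20 ze61) (ke xe32 ye46 ze23) (ke xe20 ye43 ze14) (ke xe22 ye12 ze38) (ke xe30 ye6 ze34) (ke xe20 ye43 ze44) (ke xe29 ye59 ze18) (ke xe21 ye58 ze10) (ke xe25 ye24 ze8) (ke xe20 ye43 ze29) (ke xe20 ye43 ze30) (ke xe27 ye13 ze12) (ke xe24 ye0 ze40) (ke xe25 ye12 ze3) (ke xe25 ye27 ze16) (ke xe29 ye0 ze0) (ke xe25 ye12 ze40) (ke xe27 ye13 ze20) (ke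 xe32 ye18 ze7) (ke xe21 ye0 ze60) (ke xe29 ye4 ze30) (ke xe27 ye13 ze7) (ke xe24 ye18 ze42) (ke xe28 ye37 ze26) (ke xe24 ye18 ze34) (ke xe22 ye55 ze2) (ke xe25 ye35 ze33) (ke xe26 ye37 ze2) (ke xe29 ye36 ze14) (ke xe22 ye47 ze40) (ke xe29 ye42 ze12) (ke xe31 ye31 ze23) (ke xe22 ye59 ze34) (ke xe31 ye54 ze15) (ke xe26 ye51 ze16) (ke xe25 ye55 ze56) (ke xe27 ye41 ze14) (ke xe27 ye44 ze11) (ke xe25 ye54 ze40) (ke xe23 ye54 ze1) (ke xe25 ye53 ze28) (ke xe29 ye47 ze51) (ke xe31 ye35 ze6) (ke xe31 ye49 ze57) (ke xe29 ye28 ze8) (ke xe29 ye32 ze35) (ke xe29 ye22 ze10) (ke xe30 ye29 ze43) (ke xe22 ye24 ze2) (ke xe32 ye35 ze28) (ke xe20 ye44 ze17) (ke xe26 ye17 ze41) (ke xe32 ye35 ze26) (ke xe22 ye22 ze23) (ke xe20 ye55 ze4) (ke xe29 ye40 ze28) (ke xe27 ye16 ze31)) (@D3.rec (fun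 _ => Pt) (ke xe26 ye41 ze7) (ke xe28 ye18 ze34) (ke xe32 ye14 ze6) (ke xe30 ye52 ze2) (ke xe20 ye44 ze19) (ke xe23 ye46 ze3) (ke xe22 ye24 ze26) (ke xe22 ye26 ze42) (ke xe20 ye44 ze24) (ke xe29 ye52 ze46) (ke xe32 ye46 ze31) (ke xe20 ye44 ze28) (ke xe24 ye24 ze50) (ke xe24 ye24 ze51) (ke xe29 ye40 ze13) (ke xe30 ye30 ze30) (ke xe30 ye22 ze28) (ke xe29 ye22 ze41) (ke xe25 ye22 ze50) (ke xe21 ye47 ze30) (ke xe20 ye59 ze43) (ke xe30 ye21 ze6) (ke xe22 ye56 ze51) (ke xe26 ye22 ze20) (ke xe26 ye29 ze59) (ke xe29 ye1 ze51) (ke xe20 ye45 ze17) (ke xe29 ye23 ze22) (ke xe22 ye51 ze38) (ke xe22 ye15 ze55) (ke xe22 ye38 ze54) (ke xe22 ye17 ze22) (ke xe20 ye45 ze28) (ke xe22 ye27 ze44) (ke xe29 ye0 ze42) (ke xe20 ye45 ze31) (ke xe22 ye42 ze43) (ke xe29 ye20 ze3) (ke xe22 ye20 ze56)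 (ke xe29 ye36 ze41) (ke xe20 ye45 ze37) (ke xe22 ye11 ze44) (ke xe20 ye45 ze41) (ke xe20 ye45 ze43) (ke xe31 ye7 ze44) (ke xe24 ye47 ze47) (ke xe25 ye15 ze48) (ke xe27 ye25 ze23) (ke xe23 ye23 ze53) (ke xe27 ye50 ze49) (ke xe23 ye3 ze20) (ke xe22 ye49 ze42) (ke xe22 ye23 ze40) (ke xe23 ye19 ze38) (ke xe28 ye0 ze43) (ke xe21 ye38 ze3) (ke xe20 ye48 ze4) (ke xe32 ye39 ze20) (ke xe20 ye46 ze12) (ke xe31 ye51 ze21) (ke xe20 ye46 ze17) (ke xe20 ye46 ze18)) (@D3.rec (fun _ => Pt) (ke xe22 ye5 ze35) (ke xe20 ye46 ze20) (ke xe22 ye21 ze61) (ke xe22 ye23 ze50) (ke xe24 ye39 ze20) (ke xe29 ye46 ze23) (ke xe22 ye32 ze41) (ke xe20 ye46 ze37) (ke xe28 ye17 ze3) (ke xe27 ye1 ze57) (ke xe26 ye50 ze0) (ke xe20 ye47 ze49) (ke xe23 ye1 ze42) (ke xe28 ye16 ze24) (ke xe20 ye46 ze46) (ke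 xe20 ye46 ze50) (ke xe32 ye9 ze46) (ke xe26 ye13 ze27) (ke xe20 ye46 ze53) (ke xe20 ye46 ze59) (ke xe20 ye47 ze5) (ke xe28 ye46 ze11) (ke xe20 ye47 ze0) (ke xe32 ye42 ze44) (ke xe20 ye47 ze3) (ke xe23 ye57 ze24) (ke xe20 ye47 ze7) (ke xe20 ye47 ze9) (ke xe22 ye13 ze30) (ke xe22 ye13 ze25) (ke xe20 ye47 ze15) (ke xe32 ye46 ze35) (ke xe31 ye43 ze18) (ke xe20 ye47 ze17) (ke xe30 ye54 ze25) (ke xe32 ye32 ze56) (ke xe20 ye47 ze24) (ke xe28 ye3 ze22) (ke xe20 ye47 ze31) (ke xe30 ye36 ze55) (ke xe28 ye42 ze46) (ke xe27 ye36 ze23) (ke xe22 ye25 ze5) (ke xe20 ye47 ze37) (ke xe20 ye48 ze6) (ke xe29 ye32 ze32) (ke xe22 ye23 ze42) (ke xe27 ye42 ze58) (ke xe24 ye5 ze31) (ke xe31 ye23 ze41) (ke xe29 ye40 ze52) (ke xe30 ye28 ze42) (ke xe20 ye48 ze16) (ke xe24 ye25 ze8) (ke xe20 ye47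 ze51) (ke xe29 ye31 ze15) (ke xe28 ye38 ze2) (ke xe20 ye47 ze57) (ke xe29 ye34 ze20) (ke xe22 ye14 ze23) (ke xe32 ye16 ze28) (ke xe32 ye46 ze37)) (@D3.rec (fun _ => Pt) (ke xe22 ye26 ze19) (ke xe23 ye19 ze11) (ke xe28 ye34 ze7) (ke xe20 ye48 ze8) (ke xe20 ye48 ze10) (ke xe30 ye25 ze27) (ke xe22 ye26 ze14) (ke xe22 ye19 ze41) (ke xe23 ye46 ze8) (ke xe26 ye42 ze38) (ke xe20 ye48 ze15) (ke xe32 ye46 ze38) (ke xe31 ye25 ze53) (ke xe29 ye38 ze14) (ke xe21 ye52 ze52) (ke xe31 ye28 ze27) (ke xe31 ye29 ze40) (ke xe20 ye48 ze22) (ke xe30 ye50 ze60) (ke xe30 ye3 ze59) (ke xe26 ye55 ze52) (ke xe28 ye46 ze15) (ke xe24 ye21 ze23) (ke xe23 ye59 ze42) (ke xe22 ye58 ze49) (ke xe28 ye39 ze23) (ke xe27 ye7 ze30) (ke xe24 ye21 ze32) (ke xe29 ye37 ze60) (ke xe30 ye25 ze41) (ke xe32 ye46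 ze49) (ke xe29 ye27 ze54) (ke xe20 ye48 ze29) (ke xe28 ye15 ze45) (ke xe20 ye48 ze32) (ke xe29 ye35 ze11) (ke xe22 ye5 ze60) (ke xe27 ye43 ze28) (ke xe31 ye26 ze16) (ke xe20 ye48 ze42) (ke xe32 ye36 ze13) (ke xe20 ye48 ze43) (ke xe20 ye48 ze46) (ke xe29 ye27 ze48) (ke xe30 ye25 ze57) (ke xe30 ye11 ze58) (ke xe27 ye56 ze26) (ke xe30 ye51 ze29) (ke xe20 ye48 ze50) (ke xe32 ye9 ze11) (ke xe32 ye9 ze19) (ke xe28 ye54 ze28) (ke xe29 ye39 ze50) (ke xe30 ye26 ze57) (ke xe20 ye48 ze56) (ke xe25 ye35 ze12) (ke xe32 ye46 ze53) (ke xe24 ye39 ze45) (ke xe20 ye48 ze58) (ke xe30 ye2 ze36) (ke xe20 ye49 ze5) (ke xe22 ye3 ze24)) (@D3.rec (fun _ => Pt) (ke xe27 ye22 ze57) (ke xe28 ye22 ze4) (ke xe28 ye14 ze36) (ke xe30 ye44 ze57) (ke xe32 ye46 ze54) (ke xe20 ye49 ze20) (ke xe24 ye6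 ze17) (ke xe26 ye51 ze37) (ke xe28 ye37 ze61) (ke xe31 ye34 ze49) (ke xe20 ye49 ze29) (ke xe27 ye17 ze25) (ke xe24 ye16 ze55) (ke xe20 ye49 ze31) (ke xe31 ye37 ze54) (ke xe31 ye48 ze25) (ke xe31 ye50 ze21) (ke xe30 ye56 ze5) (ke xe20 ye49 ze41) (ke xe29 ye30 ze42) (ke xe32 ye1 ze41) (ke xe23 ye18 ze60) (ke xe31 ye35 ze19) (ke xe29 ye47 ze45) (ke xe31 ye16 ze51) (ke xe29 ye13 ze12) (ke xe31 ye36 ze27) (ke xe29 ye17 ze46) (ke xe20 ye49 ze46) (ke xe27 ye11 ze37) (ke xe20 ye49 ze49) (ke xe24 ye15 ze43) (ke xe30 ye11 ze16) (ke xe27 ye14 ze32) (ke xe32 ye2 ze9) (ke xe31 ye39 ze45) (ke xe28 ye36 ze55) (ke xe20 ye49 ze58) (ke xe20 ye49 ze59) (ke xe31 ye52 ze42) (ke xe20 ye50 ze0) (ke xe20 ye50 ze1) (ke xe28 ye22 ze38) (ke xe32 ye46 ze61) (ke xe32 ye34 ze34) (ke xe20 ye50 ze2)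 (ke xe21 ye36 ze56) (ke xe30 ye46 ze14) (ke xe20 ye50 ze6) (ke xe25 ye59 ze12) (ke xe21 ye48 ze32) (ke xe26 ye6 ze28) (ke xe26 ye4 ze57) (ke xe28 ye30 ze37) (ke xe20 ye50 ze10) (ke xe20 ye50 ze12) (ke xe32 ye1 ze33) (ke xe29 ye9 ze43) (ke xe31 ye47 ze14) (ke xe32 ye22 ze8) (ke xe31 ye35 ze61) (ke xe25 ye33 ze12)) (@D3.rec (fun _ => Pt) (ke xe27 ye42 ze41) (ke xe32 ye22 ze9) (ke xe32 ye22 ze27) (ke xe23 ye55 ze6) (ke xe31 ye32 ze5) (ke xe20 ye50 ze27) (ke xe28 ye38 ze10) (ke xe28 ye19 ze50) (ke xe20 ye50 ze29) (ke xe30 ye49 ze54) (ke xe22 ye31 ze1) (ke xe20 ye50 ze31) (ke xe29 ye37 ze35) (ke xe28 ye21 ze47) (ke xe28 ye22 ze32) (ke xe28 ye14 ze16) (ke xe20 ye50 ze34) (ke xe30 ye45 ze52) (ke xe30 ye23 ze54) (ke xe28 ye24 ze49) (ke xe20 ye51 ze3) (ke xe30 ye50 ze34) (ke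 xe24 ye24 ze5) (ke xe20 ye51 ze6) (ke xe31 ye50 ze5) (ke xe25 ye11 ze13) (ke xe20 ye51 ze25) (ke xe30 ye42 ze32) (ke xe21 ye43 ze52) (ke xe20 ye54 ze28) (ke xe32 ye47 ze3) (ke xe20 ye52 ze8) (ke xe20 ye52 ze13) (ke xe29 ye25 ze36) (ke xe27 ye8 ze35) (ke xe28 ye34 ze55) (ke xe28 ye55 ze42) (ke xe20 ye52 ze41) (ke xe31 ye26 ze4) (ke xe28 ye20 ze26) (ke xe26 ye30 ze16) (ke xe26 ye21 ze16) (ke xe28 ye0 ze32) (ke xe23 ye49 ze31) (ke xe24 ye28 ze46) (ke xe32 ye21 ze54) (ke xe28 ye37 ze41) (ke xe29 ye37 ze1) (ke xe30 ye38 ze8) (ke xe32 ye35 ze59) (ke xe29 ye35 ze42) (ke xe27 ye56 ze27) (ke xe28 ye35 ze60) (ke xe26 ye36 ze3) (ke xe20 ye53 ze22) (ke xe23 ye28 ze19) (ke xe20 ye53 ze33) (ke xe20 ye53 ze39) (ke xe24 ye25 ze55) (ke xe20 ye53 ze48) (ke xe28 ye25 ze14) (ke xe29 ye21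 ze15)) (@D3.rec (fun _ => Pt) (ke xe20 ye53 ze50) (ke xe28 ye21 ze49) (ke xe25 ye35 ze56) (ke xe20 ye53 ze52) (ke xe31 ye46 ze21) (ke xe28 ye23 ze36) (ke xe25 ye35 ze58) (ke xe20 ye53 ze53) (ke xe29 ye31 ze53) (ke xe32 ye18 ze51) (ke xe29 ye31 ze38) (ke xe32 ye33 ze56) (ke xe20 ye53 ze59) (ke xe31 ye36 ze47) (ke xe29 ye15 ze55) (ke xe21 ye50 ze59) (ke xe32 ye46 ze27) (ke xe20 ye54 ze1) (ke xe30 ye29 ze6) (ke xe32 ye13 ze12) (ke xe32 ye37 ze21) (ke xe26 ye52 ze26) (ke xe27 ye13 ze48) (ke xe20 ye54 ze7) (ke xe32 ye10 ze32) (ke xe32 ye47 ze6) (ke xe21 ye42 ze40) (ke xe29 ye47 ze31) (ke xe20 ye54 ze9) (ke xe29 ye2 ze38) (ke xe20 ye54 ze14) (ke xe26 ye54 ze32) (ke xe26 ye53 ze41) (ke xe32 ye17 ze29) (ke xe24 ye51 ze36) (ke xe32 ye10 ze33) (ke xe28 ye55 ze19) (ke xe25 ye20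 ze56) (ke xe28 ye55 ze4) (ke xe28 ye51 ze26) (ke xe28 ye55 ze29) (ke xe25 ye21 ze38) (ke xe21 ye21 ze23) (ke xe32 ye27 ze9) (ke xe25 ye37 ze26) (ke xe25 ye23 ze44) (ke xe25 ye23 ze45) (ke xe29 ye0 ze44) (ke xe20 ye54 ze43) (ke xe20 ye54 ze44) (ke xe20 ye54 ze45) (ke xe31 ye5 ze1) (ke xe25 ye34 ze46) (ke xe31 ye4 ze36) (ke xe25 ye17 ze30) (ke xe28 ye18 ze13) (ke xe21 ye4 ze3) (ke xe26 ye59 ze57) (ke xe26 ye35 ze32) (ke xe31 ye59 ze11) (ke xe20 ye56 ze29) (ke xe26 ye35 ze25)) (@D3.rec (fun _ => Pt) (ke xe26 ye34 ze34) (ke xe20 ye55 ze6) (ke xe26 ye38 ze38) (ke xe20 ye57 ze10) (ke xe32 ye47 ze12) (ke xe32 ye47 ze13) (ke xe32 ye11 ze49) (ke xe20 ye55 ze10) (ke xe29 ye9 ze19) (ke xe32 ye17 ze2) (ke xe20 ye55 ze16) (ke xe20 ye55 ze17) (ke xe26 ye33 ze40) (ke xe29 ye58 ze58)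 (ke xe20 ye57 ze52) (ke xe32 ye47 ze14) (ke xe32 ye3 ze61) (ke xe20 ye57 ze56) (ke xe32 ye40 ze20) (ke xe20 ye57 ze33) (ke xe26 ye41 ze5) (ke xe20 ye57 ze38) (ke xe30 ye16 ze56) (ke xe31 ye21 ze4) (ke xe20 ye55 ze25) (ke xe23 ye19 ze12) (ke xe20 ye55 ze27) (ke xe20 ye55 ze28) (ke xe20 ye55 ze31) (ke xe20 ye55 ze32) (ke xe24 ye3 ze3) (ke xe20 ye55 ze35) (ke xe20 ye55 ze36) (ke xe32 ye4 ze1) (ke xe28 ye19 ze18) (ke xe20 ye55 ze38) (ke xe31 ye43 ze50) (ke xe20 ye55 ze41) (ke xe29 ye31 ze26) (ke xe31 ye40 ze52) (ke xe23 ye45 ze56) (ke xe20 ye58 ze31) (ke xe22 ye24 ze59) (ke xe20 ye58 ze25) (ke xe32 ye10 ze60) (ke xe20 ye55 ze50) (ke xe26 ye3 ze17) (ke xe20 ye55 ze53) (ke xe25 ye37 ze32) (ke xe29 ye35 ze58) (ke xe29 ye13 ze4) (ke xe22 ye7 ze52) (ke xe32 ye37 ze15) (ke xe27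 ye18 ze57) (ke xe25 ye7 ze56) (ke xe26 ye36 ze7) (ke xe26 ye35 ze35) (ke xe27 ye44 ze45) (ke xe26 ye35 ze42) (ke xe26 ye35 ze43) (ke xe32 ye36 ze18) (ke xe32 ye47 ze19)) (@D3.rec (fun _ => Pt) (ke xe32 ye13 ze35) (ke xe20 ye56 ze6) (ke xe26 ye38 ze56) (ke xe25 ye32 ze7) (ke xe32 ye12 ze51) (ke xe32 ye45 ze4) (ke xe20 ye56 ze13) (ke xe32 ye39 ze33) (ke xe20 ye56 ze17) (ke xe26 ye36 ze59) (ke xe20 ye56 ze24) (ke xe28 ye44 ze27) (ke xe32 ye13 ze20) (ke xe32 ye22 ze22) (ke xe30 ye15 ze26) (ke xe20 ye56 ze22) (ke xe29 ye33 ze16) (ke xe32 ye44 ze37) (ke xe30 ye15 ze19) (ke xe32 ye37 ze22) (ke xe32 ye12 ze3) (ke xe32 ye40 ze52) (ke xe24 ye29 ze42) (ke xe20 ye56 ze26) (ke xe26 ye33 ze8) (ke xe22 ye1 ze20) (ke xe29 ye33 ze26) (ke xe28 ye44 ze21) (ke xe30 ye14 ze56) (ke xe28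 ye24 ze12) (ke xe20 ye56 ze31) (ke xe20 ye56 ze33) (ke xe32 ye47 ze26) (ke xe20 ye56 ze34) (ke xe28 ye40 ze31) (ke xe26 ye52 ze16) (ke xe32 ye46 ze52) (ke xe20 ye56 ze38) (ke xe24 ye17 ze6) (ke xe25 ye7 ze55) (ke xe30 ye29 ze10) (ke xe29 ye32 ze44) (ke xe32 ye47 ze29) (ke xe31 ye51 ze45) (ke xe30 ye56 ze57) (ke xe32 ye47 ze30) (ke xe24 ye31 ze58) (ke xe24 ye26 ze41) (ke xe20 ye56 ze53) (ke xe20 ye56 ze54) (ke xe32 ye39 ze6) (ke xe20 ye56 ze57) (ke xe20 ye56 ze59) (ke xe32 ye47 ze32) (ke xe20 ye56 ze61) (ke xe27 ye13 ze54) (ke xe32 ye3 ze36) (ke xe27 ye0 ze28) (ke xe30 ye14 ze49) (ke xe20 ye57 ze8) (ke xe30 ye16 ze23) (ke xe28 ye22 ze9)) (@D3.rec (fun _ => Pt) (ke xe31 ye31 ze48) (ke xe26 ye36 ze18) (ke xe29 ye2 ze46) (ke xe26 ye36 ze0) (ke xe20 ye57 ze12) (ke xe32 ye13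 ze7) (ke xe32 ye12 ze1) (ke xe20 ye57 ze19) (ke xe32 ye33 ze11) (ke xe26 ye36 ze1) (ke xe20 ye57 ze15) (ke xe28 ye55 ze56) (ke xe28 ye40 ze45) (ke xe20 ye57 ze18) (ke xe29 ye21 ze31) (ke xe20 ye57 ze20) (ke xe32 ye10 ze53) (ke xe20 ye57 ze21) (ke xe32 ye47 ze46) (ke xe31 ye55 ze27) (ke xe29 ye46 ze48) (ke xe20 ye57 ze24) (ke xe20 ye57 ze25) (ke xe29 ye39 ze5) (ke xe26 ye33 ze37) (ke xe32 ye14 ze14) (ke xe23 ye13 ze9) (ke xe32 ye47 ze48) (ke xe32 ye37 ze20) (ke xe20 ye57 ze30) (ke xe23 ye55 ze36) (ke xe20 ye57 ze31) (ke xe22 ye24 ze55) (ke xe29 ye31 ze9) (ke xe25 ye55 ze37) (ke xe20 ye57 ze35) (ke xe32 ye47 ze43) (ke xe24 ye1 ze11) (ke xe31 ye58 ze39) (ke xe32 ye45 ze21) (ke xe25 ye57 ze30) (ke xe20 ye57 ze45) (ke xe20 ye57 ze46) (ke xe31 ye19 ze9) (ke xe32 ye40 ze11)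 (ke xe20 ye57 ze51) (ke xe31 ye34 ze29) (ke xe32 ye47 ze50) (ke xe29 ye46 ze20) (ke xe20 ye57 ze54) (ke xe30 ye29 ze21) (ke xe32 ye33 ze33) (ke xe20 ye57 ze57) (ke xe32 ye23 ze0) (ke xe32 ye39 ze0) (ke xe24 ye27 ze35) (ke xe32 ye14 ze28) (ke xe29 ye34 ze32) (ke xe29 ye50 ze5) (ke xe20 ye58 ze1) (ke xe26 ye51 ze42) (ke xe20 ye58 ze4)) (@D3.rec (fun _ => Pt) (ke xe30 ye48 ze52) (ke xe32 ye40 ze0) (ke xe20 ye58 ze9) (ke xe23 ye55 ze52) (ke xe32 ye14 ze22) (ke xe28 ye39 ze20) (ke xe30 ye17 ze18) (ke xe20 ye58 ze12) (ke xe20 ye58 ze13) (ke xe32 ye2 ze2) (ke xe32 ye10 ze35) (ke xe32 ye14 ze32) (ke xe29 ye34 ze0) (ke xe32 ye36 ze9) (ke xe32 ye10 ze43) (ke xe20 ye58 ze23) (ke xe26 ye39 ze47) (ke xe28 ye30 ze7) (ke xe23 ye45 ze53) (ke xe28 ye30 ze9) (ke xe20 ye58 ze26) (ke xe32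 ye14 ze5) (ke xe27 ye35 ze54) (ke xe24 ye1 ze5) (ke xe29 ye26 ze32) (ke xe20 ye58 ze28) (ke xe32 ye47 ze55) (ke xe29 ye31 ze37) (ke xe24 ye1 ze24) (ke xe20 ye58 ze34) (ke xe31 ye50 ze55) (ke xe29 ye43 ze27) (ke xe26 ye33 ze41) (ke xe32 ye11 ze14) (ke xe20 ye58 ze44) (ke xe25 ye22 ze26) (ke xe20 ye58 ze51) (ke xe31 ye29 ze33) (ke xe28 ye54 ze53) (ke xe20 ye58 ze55) (ke xe26 ye40 ze16) (ke xe28 ye56 ze57) (ke xe30 ye26 ze7) (ke xe28 ye58 ze51) (ke xe20 ye59 ze4) (ke xe29 ye41 ze23) (ke xe25 ye50 ze34) (ke xe20 ye59 ze6) (ke xe29 ye23 ze39) (ke xe28 ye59 ze20) (ke xe20 ye59 ze9) (ke xe29 ye37 ze46) (ke xe24 ye36 ze57) (ke xe25 ye36 ze0) (ke xe25 ye6 ze18) (ke xe27 ye18 ze33) (ke xe23 ye56 ze51) (ke xe32 ye2 ze31) (ke xe27 ye29 ze29) (ke xe31 ye9 ze48) (ke xe20 ye59 ze22)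 (ke xe26 ye42 ze21)) (@D3.rec (fun _ => Pt) (ke xe29 ye7 ze36) (ke xe26 ye10 ze60) (ke xe20 ye59 ze37) (ke xe22 ye32 ze61) (ke xe28 ye15 ze8) (ke xe20 ye59 ze39) (ke xe20 ye59 ze40) (ke xe32 ye27 ze59) (ke xe20 ye59 ze45) (ke xe20 ye59 ze52) (ke xe21 ye13 ze39) (ke xe20 ye59 ze61) (ke xe22 ye41 ze24) (ke xe28 ye52 ze16) (ke xe32 ye48 ze1) (ke xe32 ye48 ze2) (ke xe20 ye59 ze58) (ke xe30 ye5 ze52) (ke xe22 ye14 ze5) (ke xe30 ye21 ze52) (ke xe28 ye16 ze35) (ke xe30 ye38 ze41) (ke xe32 ye47 ze61) (ke xe32 ye48 ze3) (ke xe21 ye0 ze0) (ke xe28 ye47 ze60) (ke xe28 ye50 ze61) (ke xe32 ye48 ze5) (ke xe32 ye20 ze37) (ke xe21 ye0 ze2) (ke xe28 ye42 ze25) (ke xe27 ye8 ze22) (ke xe21 ye0 ze15) (ke xe21 ye0 ze17) (ke xe25 ye35 ze55) (ke xe25 ye53 ze42) (ke xe24 ye33 ze36) (ke xe25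 ye53 ze50) (ke xe30 ye4 ze61) (ke xe21 ye0 ze28) (ke xe29 ye5 ze39) (ke xe31 ye49 ze52) (ke xe31 ye40 ze7) (ke xe22 ye16 ze28) (ke xe21 ye0 ze44) (ke xe21 ye0 ze48) (ke xe21 ye0 ze49) (ke xe22 ye13 ze35) (ke xe21 ye1 ze3) (ke xe25 ye5 ze38) (ke xe31 ye1 ze40) (ke xe27 ye50 ze59) (ke xe30 ye57 ze46) (ke xe23 ye24 ze47) (ke xe21 ye1 ze9) (ke xe23 ye14 ze57) (ke xe31 ye59 ze22) (ke xe21 ye1 ze11) (ke xe23 ye21 ze15) (ke xe31 ye58 ze17) (ke xe21 ye1 ze15) (ke xe21 ye1 ze21)) (@D3.rec (fun _ => Pt) (ke xe26 ye59 ze26) (ke xe31 ye34 ze7) (ke xe21 ye1 ze23) (ke xe21 ye1 ze26) (ke xe30 ye48 ze55) (ke xe21 ye1 ze27) (ke xe31 ye31 ze36) (ke xe31 ye26 ze2) (ke xe27 ye0 ze22) (ke xe21 ye1 ze34) (ke xe21 ye1 ze42) (ke xe21 ye1 ze43) (ke xe31 ye46 ze47) (ke xe21 ye1 ze46) (ke xe25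 ye14 ze24) (ke xe24 ye0 ze47) (ke xe29 ye28 ze34) (ke xe24 ye7 ze16) (ke xe21 ye1 ze54) (ke xe21 ye21 ze27) (ke xe24 ye14 ze2) (ke xe25 ye8 ze38) (ke xe32 ye24 ze9) (ke xe21 ye1 ze58) (ke xe26 ye24 ze29) (ke xe21 ye1 ze61) (ke xe29 ye15 ze32) (ke xe24 ye12 ze25) (ke xe28 ye7 ze23) (ke xe21 ye2 ze2) (ke xe21 ye2 ze6) (ke xe31 ye0 ze28) (ke xe21 ye2 ze15) (ke xe27 ye18 ze25) (ke xe25 ye37 ze0) (ke xe21 ye2 ze20) (ke xe30 ye18 ze11) (ke xe31 ye10 ze58) (ke xe21 ye19 ze5) (ke xe32 ye32 ze19) (ke xe31 ye34 ze35) (ke xe30 ye41 ze41) (ke xe21 ye2 ze28) (ke xe31 ye5 ze14) (ke xe24 ye23 ze56) (ke xe26 ye1 ze28) (ke xe32 ye48 ze14) (ke xe22 ye44 ze30) (ke xe21 ye2 ze25) (ke xe31 ye49 ze38) (ke xe21 ye2 ze26) (ke xe29 ye55 ze16) (ke xe23 ye28 ze10) (ke xe30 ye7 ze43) (ke xe32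 ye42 ze61) (ke xe21 ye2 ze29) (ke xe29 ye52 ze3) (ke xe29 ye13 ze52) (ke xe32 ye48 ze15) (ke xe21 ye2 ze40) (ke xe23 ye3 ze8) (ke xe31 ye44 ze9)) (@D3.rec (fun _ => Pt) (ke xe28 ye0 ze28) (ke xe32 ye16 ze24) (ke xe28 ye36 ze1) (ke xe23 ye56 ze52) (ke xe32 ye45 ze46) (ke xe29 ye46 ze58) (ke xe29 ye0 ze46) (ke xe21 ye3 ze10) (ke xe21 ye36 ze30) (ke xe30 ye3 ze42) (ke xe21 ye3 ze20) (ke xe32 ye21 ze60) (ke xe22 ye40 ze14) (ke xe27 ye17 ze20) (ke xe21 ye3 ze37) (ke xe21 ye3 ze45) (ke xe23 ye59 ze32) (ke xe28 ye36 ze39) (ke xe26 ye56 ze58) (ke xe31 ye39 ze58) (ke xe21 ye4 ze0) (ke xe23 ye28 ze54) (ke xe21 ye4 ze14) (ke xe25 ye28 ze27) (ke xe30 ye54 ze42) (ke xe29 ye14 ze32) (ke xe21 ye4 ze25) (ke xe27 ye34 ze26) (ke xe26 ye14 ze8) (ke xe31 ye44 ze35) (ke xe23 ye51 ze6) (ke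 xe27 ye48 ze15) (ke xe21 ye4 ze47) (ke xe32 ye42 ze1) (ke xe21 ye4 ze48) (ke xe21 ye4 ze50) (ke xe23 ye24 ze15) (ke xe21 ye4 ze57) (ke xe25 ye29 ze26) (ke xe22 ye53 ze34) (ke xe30 ye33 ze47) (ke xe27 ye24 ze27) (ke xe27 ye17 ze47) (ke xe31 ye54 ze25) (ke xe25 ye33 ze4) (ke xe22 ye23 ze1) (ke xe27 ye25 ze54) (ke xe21 ye5 ze9) (ke xe21 ye5 ze14) (ke xe27 ye19 ze31) (ke xe29 ye35 ze59) (ke xe24 ye43 ze6) (ke xe21 ye6 ze5) (ke xe30 ye52 ze28) (ke xe31 ye10 ze25) (ke xe28 ye23 ze22) (ke xe30 ye16 ze46) (ke xe28 ye59 ze1) (ke xe31 ye35 ze44) (ke xe21 ye5 ze25) (ke xe21 ye5 ze26) (ke xe31 ye56 ze33)) (@D3.rec (fun _ => Pt) (ke xe30 ye46 ze54) (ke xe23 ye56 ze12) (ke xe21 ye5 ze39) (ke xe31 ye53 ze54) (ke xe21 ye5 ze46) (ke xe25 ye31 ze59) (ke xe32 ye42 ze28) (ke xe21 ye39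 ze2) (ke xe21 ye5 ze57) (ke xe21 ye5 ze58) (ke xe21 ye5 ze60) (ke xe30 ye8 ze53) (ke xe31 ye9 ze8) (ke xe23 ye28 ze29) (ke xe27 ye18 ze10) (ke xe23 ye39 ze57) (ke xe30 ye41 ze49) (ke xe23 ye27 ze55) (ke xe24 ye41 ze0) (ke xe30 ye10 ze22) (ke xe25 ye2 ze33) (ke xe28 ye41 ze0) (ke xe22 ye27 ze8) (ke xe28 ye31 ze12) (ke xe23 ye23 ze30) (ke xe23 ye45 ze21) (ke xe31 ye0 ze44) (ke xe23 ye46 ze21) (ke xe21 ye6 ze22) (ke xe21 ye6 ze26) (ke xe26 ye12 ze27) (ke xe27 ye47 ze16) (ke xe31 ye44 ze52) (ke xe24 ye36 ze3) (ke xe26 ye1 ze45) (ke xe31 ye46 ze45) (ke xe21 ye6 ze39) (ke xe29 ye5 ze56) (ke xe28 ye26 ze7) (ke xe31 ye12 ze15) (ke xe31 ye44 ze57) (ke xe32 ye48 ze25) (ke xe21 ye6 ze46) (ke xe26 ye8 ze48) (ke xe31 ye3 ze55) (ke xe21 ye6 ze52) (ke xe24 ye14 ze24) (ke xe21 ye6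 ze59) (ke xe21 ye7 ze5) (ke xe21 ye7 ze8) (ke xe21 ye7 ze10) (ke xe30 ye11 ze5) (ke xe21 ye7 ze14) (ke xe30 ye5 ze15) (ke xe21 ye7 ze16) (ke xe27 ye59 ze16) (ke xe28 ye6 ze55) (ke xe28 ye7 ze58) (ke xe21 ye7 ze44) (ke xe21 ye34 ze51) (ke xe29 ye24 ze35) (ke xe24 ye10 ze30)) (@D3.rec (fun _ => Pt) (ke xe21 ye8 ze13) (ke xe27 ye29 ze36) (ke xe21 ye8 ze26) (ke xe29 ye49 ze56) (ke xe32 ye4 ze31) (ke xe21 ye8 ze31) (ke xe31 ye34 ze57) (ke xe24 ye0 ze22) (ke xe30 ye0 ze29) (ke xe21 ye47 ze1) (ke xe32 ye6 ze18) (ke xe31 ye0 ze57) (ke xe23 ye25 ze37) (ke xe21 ye8 ze51) (ke xe28 ye40 ze56) (ke xe21 ye8 ze55) (ke xe21 ye8 ze57) (ke xe31 ye6 ze37) (ke xe26 ye0 ze44) (ke xe31 ye36 ze35) (ke xe21 ye9 ze4) (ke xe26 ye53 ze8) (ke xe21 ye9 ze8) (ke xe21 ye51 ze59) (ke xe23 ye6 ze35)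 (ke xe21 ye9 ze22) (ke xe29 ye25 ze48) (ke xe28 ye52 ze59) (ke xe25 ye55 ze21) (ke xe26 ye0 ze4) (ke xe26 ye0 ze5) (ke xe25 ye23 ze24) (ke xe28 ye43 ze56) (ke xe32 ye48 ze30) (ke xe23 ye24 ze58) (ke xe31 ye56 ze40) (ke xe30 ye18 ze15) (ke xe21 ye10 ze18) (ke xe22 ye5 ze25) (ke xe21 ye10 ze20) (ke xe31 ye50 ze32) (ke xe24 ye18 ze60) (ke xe30 ye28 ze45) (ke xe32 ye9 ze24) (ke xe32 ye11 ze51) (ke xe23 ye45 ze51) (ke xe29 ye38 ze9) (ke xe26 ye31 ze1) (ke xe32 ye48 ze31) (ke xe26 ye31 ze5) (ke xe21 ye10 ze31) (ke xe21 ye10 ze33) (ke xe26 ye30 ze55) (ke xe26 ye27 ze25) (ke xe28 ye32 ze9) (ke xe21 ye10 ze38) (ke xe23 ye7 ze54) (ke xe28 ye5 ze55) (ke xe28 ye5 ze20) (ke xe28 ye5 ze42) (ke xe32 ye48 ze33) (ke xe26 ye31 ze29)) (@D3.rec (fun _ => Pt) (ke xe21 ye10 ze43) (ke xe26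 ye31 ze27) (ke xe32 ye8 ze23) (ke xe27 ye41 ze43) (ke xe22 ye55 ze39) (ke xe30 ye45 ze55) (ke xe23 ye8 ze37) (ke xe23 ye8 ze38) (ke xe24 ye48 ze27) (ke xe28 ye16 ze56) (ke xe27 ye47 ze53) (ke xe28 ye31 ze58) (ke xe30 ye36 ze46) (ke xe32 ye8 ze50) (ke xe26 ye19 ze38) (ke xe32 ye8 ze25) (ke xe21 ye10 ze60) (ke xe21 ye10 ze61) (ke xe24 ye9 ze43) (ke xe26 ye32 ze0) (ke xe24 ye14 ze7) (ke xe30 ye6 ze28) (ke xe21 ye11 ze1) (ke xe21 ye11 ze4) (ke xe21 ye11 ze6) (ke xe21 ye11 ze8) (ke xe32 ye45 ze60) (ke xe24 ye0 ze12) (ke xe27 ye24 ze17) (ke xe21 ye11 ze12) (ke xe24 ye26 ze28) (ke xe27 ye8 ze37) (ke xe31 ye7 ze2) (ke xe21 ye11 ze27) (ke xe22 ye42 ze47) (ke xe30 ye42 ze60) (ke xe21 ye11 ze30) (ke xe32 ye40 ze57) (ke xe21 ye11 ze31) (ke xe28 ye52 ze15) (ke xe28 ye52 ze32) (ke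 xe28 ye50 ze14) (ke xe27 ye19 ze28) (ke xe21 ye11 ze40) (ke xe23 ye10 ze4) (ke xe21 ye11 ze47) (ke xe26 ye18 ze54) (ke xe21 ye11 ze49) (ke xe30 ye43 ze34) (ke xe32 ye48 ze39) (ke xe21 ye11 ze52) (ke xe22 ye56 ze0) (ke xe28 ye32 ze12) (ke xe21 ye12 ze0) (ke xe21 ye12 ze2) (ke xe24 ye57 ze29) (ke xe22 ye55 ze38) (ke xe21 ye12 ze39) (ke xe27 ye49 ze45) (ke xe26 ye19 ze47) (ke xe32 ye48 ze40) (ke xe28 ye20 ze57)) (@D3.rec (fun _ => Pt) (ke xe24 ye57 ze20) (ke xe27 ye22 ze14) (ke xe23 ye7 ze42) (ke xe21 ye12 ze25) (ke xe31 ye12 ze10) (ke xe21 ye12 ze31) (ke xe22 ye46 ze25) (ke xe26 ye24 ze23) (ke xe21 ye12 ze36) (ke xe21 ye12 ze37) (ke xe32 ye24 ze56) (ke xe21 ye12 ze41) (ke xe31 ye14 ze52) (ke xe27 ye46 ze0) (ke xe27 ye49 ze8) (ke xe32 ye28 ze31) (ke xe26 ye21 ze42) (ke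 xe32 ye29 ze0) (ke xe25 ye3 ze23) (ke xe24 ye44 ze4) (ke xe22 ye29 ze32) (ke xe28 ye8 ze26) (ke xe26 ye19 ze26) (ke xe27 ye50 ze15) (ke xe21 ye12 ze51) (ke xe26 ye17 ze22) (ke xe29 ye25 ze1) (ke xe21 ye12 ze59) (ke xe21 ye13 ze13) (ke xe21 ye13 ze14) (ke xe21 ye13 ze19) (ke xe21 ye13 ze21) (ke xe27 ye48 ze61) (ke xe21 ye13 ze24) (ke xe31 ye44 ze50) (ke xe31 ye32 ze41) (ke xe21 ye13 ze28) (ke xe21 ye13 ze31) (ke xe32 ye34 ze53) (ke xe21 ye13 ze34) (ke xe26 ye56 ze42) (ke xe24 ye7 ze25) (ke xe22 ye3 ze47) (ke xe25 ye46 ze57) (ke xe23 ye56 ze3) (ke xe29 ye1 ze53) (ke xe27 ye10 ze36) (ke xe26 ye27 ze53) (ke xe22 ye49 ze8) (ke xe28 ye15 ze5) (ke xe32 ye48 ze43) (ke xe27 ye10 ze15) (ke xe25 ye43 ze57) (ke xe30 ye11 ze32) (ke xe23 ye1 ze11) (ke xe31 ye39 ze33) (ke xe31 ye18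 ze15) (ke xe22 ye5 ze31) (ke xe22 ye14 ze56) (ke xe30 ye43 ze50) (ke xe23 ye53 ze26) (ke xe23 ye57 ze15)) (@D3.rec (fun _ => Pt) (ke xe31 ye22 ze39) (ke xe30 ye13 ze61) (ke xe32 ye43 ze16) (ke xe21 ye13 ze60) (ke xe21 ye14 ze0) (ke xe28 ye50 ze5) (ke xe32 ye45 ze1) (ke xe21 ye14 ze6) (ke xe22 ye32 ze14) (ke xe32 ye36 ze53) (ke xe26 ye52 ze29) (ke xe21 ye21 ze48) (ke xe21 ye14 ze21) (ke xe32 ye16 ze14) (ke xe21 ye14 ze22) (ke xe22 ye36 ze31) (ke xe29 ye49 ze51) (ke xe28 ye19 ze6) (ke xe21 ye14 ze29) (ke xe21 ye14 ze30) (ke xe32 ye30 ze44) (ke xe21 ye14 ze34) (ke xe21 ye14 ze35) (ke xe32 ye4 ze40) (ke xe30 ye0 ze39) (ke xe22 ye44 ze32) (ke xe31 ye43 ze16) (ke xe21 ye14 ze47) (ke xe30 ye42 ze1) (ke xe21 ye14 ze51) (ke xe21 ye14 ze52) (ke xe29 ye21 ze20) (ke xe31 ye42 ze25)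 (ke xe27 ye56 ze16) (ke xe21 ye15 ze10) (ke xe26 ye32 ze53) (ke xe21 ye15 ze29) (ke xe21 ye15 ze31) (ke xe29 ye23 ze61) (ke xe22 ye18 ze26) (ke xe21 ye15 ze36) (ke xe21 ye15 ze40) (ke xe30 ye47 ze21) (ke xe32 ye44 ze54) (ke xe27 ye16 ze7) (ke xe27 ye38 ze60) (ke xe32 ye34 ze0) (ke xe23 ye45 ze39) (ke xe21 ye15 ze52) (ke xe25 ye52 ze38) (ke xe23 ye22 ze7) (ke xe22 ye0 ze57) (ke xe30 ye30 ze31) (ke xe32 ye34 ze52) (ke xe21 ye16 ze4) (ke xe22 ye0 ze38) (ke xe27 ye42 ze52) (ke xe29 ye26 ze39) (ke xe23 ye42 ze33) (ke xe25 ye54 ze28) (ke xe21 ye16 ze22) (ke xe30 ye7 ze16)) (@D3.rec (fun _ => Pt) (ke xe21 ye16 ze24) (ke xe27 ye9 ze29) (ke xe25 ye7 ze1) (ke xe26 ye3 ze6) (ke xe32 ye48 ze48) (ke xe21 ye19 ze1) (ke xe31 ye54 ze60) (ke xe21 ye16 ze37) (ke xe21 ye16 ze38) (ke xe26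 ye37 ze37) (ke xe21 ye16 ze43) (ke xe31 ye17 ze51) (ke xe28 ye44 ze32) (ke xe25 ye8 ze8) (ke xe24 ye58 ze20) (ke xe21 ye16 ze52) (ke xe31 ye27 ze23) (ke xe23 ye37 ze51) (ke xe21 ye50 ze8) (ke xe25 ye6 ze35) (ke xe29 ye0 ze17) (ke xe21 ye50 ze1) (ke xe24 ye58 ze19) (ke xe21 ye17 ze2) (ke xe31 ye36 ze5) (ke xe22 ye50 ze50) (ke xe21 ye17 ze6) (ke xe21 ye17 ze9) (ke xe28 ye16 ze2) (ke xe27 ye43 ze57) (ke xe32 ye24 ze10) (ke xe24 ye30 ze48) (ke xe30 ye17 ze50) (ke xe32 ye48 ze52) (ke xe21 ye17 ze13) (ke xe31 ye4 ze22) (ke xe21 ye17 ze14) (ke xe31 ye37 ze44) (ke xe21 ye17 ze17) (ke xe31 ye4 ze31) (ke xe30 ye4 ze0) (ke xe23 ye30 ze5) (ke xe31 ye9 ze30) (ke xe31 ye9 ze10) (ke xe31 ye9 ze55) (ke xe23 ye28 ze30) (ke xe23 ye26 ze56) (ke xe21 ye17 ze32) (ke xe31 ye10 ze18) (ke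 xe24 ye40 ze13) (ke xe27 ye18 ze6) (ke xe29 ye57 ze38) (ke xe21 ye17 ze34) (ke xe31 ye5 ze29) (ke xe21 ye17 ze35) (ke xe27 ye42 ze34) (ke xe25 ye39 ze61) (ke xe29 ye14 ze2) (ke xe21 ye17 ze37) (ke xe30 ye10 ze0) (ke xe32 ye48 ze54) (ke xe27 ye18 ze34)) (@D3.rec (fun _ => Pt) (ke xe32 ye4 ze50) (ke xe24 ye34 ze53) (ke xe21 ye17 ze39) (ke xe24 ye17 ze28) (ke xe32 ye42 ze30) (ke xe25 ye36 ze23) (ke xe21 ye17 ze43) (ke xe24 ye18 ze26) (ke xe30 ye19 ze60) (ke xe31 ye37 ze29) (ke xe25 ye14 ze29) (ke xe27 ye38 ze40) (ke xe29 ye11 ze29) (ke xe25 ye51 ze9) (ke xe25 ye42 ze22) (ke xe30 ye34 ze54) (ke xe31 ye10 ze35) (ke xe31 ye57 ze7) (ke xe31 ye16 ze61) (ke xe25 ye13 ze25) (ke xe32 ye23 ze32) (ke xe31 ye57 ze31) (ke xe21 ye18 ze2) (ke xe27 ye23 ze29) (ke xe24 ye52 ze41) (ke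 xe21 ye18 ze9) (ke xe25 ye17 ze42) (ke xe22 ye21 ze22) (ke xe24 ye49 ze11) (ke xe24 ye9 ze50) (ke xe30 ye13 ze22) (ke xe30 ye13 ze53) (ke xe21 ye18 ze11) (ke xe21 ye18 ze12) (ke xe30 ye13 ze52) (ke xe27 ye24 ze28) (ke xe21 ye18 ze14) (ke xe24 ye30 ze47) (ke xe29 ye56 ze51) (ke xe31 ye27 ze40) (ke xe29 ye15 ze41) (ke xe32 ye49 ze0) (ke xe21 ye18 ze22) (ke xe26 ye6 ze37) (ke xe29 ye11 ze31) (ke xe30 ye0 ze21) (ke xe31 ye4 ze27) (ke xe30 ye7 ze56) (ke xe30 ye2 ze61) (ke xe24 ye54 ze59) (ke xe23 ye26 ze5) (ke xe28 ye40 ze51) (ke xe32 ye4 ze35) (ke xe22 ye44 ze47) (ke xe26 ye8 ze35) (ke xe31 ye37 ze2) (ke xe23 ye39 ze59) (ke xe29 ye58 ze31) (ke xe21 ye18 ze46) (ke xe29 ye23 ze19) (ke xe25 ye7 ze2) (ke xe21 ye40 ze56)) (@D3.rec (fun _ => Pt) (ke xe30 ye1 ze57) (ke xe31 ye6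 ze2) (ke xe32 ye43 ze17) (ke xe29 ye6 ze31) (ke xe25 ye42 ze2) (ke xe23 ye28 ze8) (ke xe29 ye59 ze41) (ke xe32 ye49 ze3) (ke xe31 ye5 ze13) (ke xe22 ye44 ze28) (ke xe32 ye49 ze4) (ke xe24 ye23 ze50) (ke xe30 ye3 ze0) (ke xe31 ye10 ze43) (ke xe22 ye35 ze22) (ke xe32 ye49 ze5) (ke xe30 ye4 ze34) (ke xe21 ye43 ze2) (ke xe23 ye26 ze43) (ke xe23 ye26 ze44) (ke xe31 ye58 ze24) (ke xe31 ye58 ze20) (ke xe22 ye44 ze10) (ke xe21 ye19 ze22) (ke xe24 ye35 ze47) (ke xe31 ye3 ze41) (ke xe32 ye30 ze41) (ke xe22 ye44 ze3) (ke xe30 ye40 ze55) (ke xe30 ye52 ze37) (ke xe31 ye36 ze24) (ke xe29 ye57 ze57) (ke xe31 ye2 ze15) (ke xe30 ye52 ze14) (ke xe21 ye19 ze29) (ke xe31 ye3 ze59) (ke xe24 ye34 ze17) (ke xe30 ye51 ze49) (ke xe23 ye29 ze32) (ke xe23 ye26 ze46) (ke xe21 ye46 ze31) (ke xe21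 ye19 ze47) (ke xe32 ye49 ze11) (ke xe22 ye43 ze13) (ke xe21 ye19 ze50) (ke xe24 ye35 ze32) (ke xe27 ye21 ze57) (ke xe21 ye25 ze48) (ke xe23 ye44 ze35) (ke xe23 ye2 ze4) (ke xe22 ye28 ze15) (ke xe23 ye43 ze60) (ke xe24 ye32 ze18) (ke xe21 ye20 ze22) (ke xe30 ye0 ze3) (ke xe25 ye9 ze44) (ke xe31 ye13 ze0) (ke xe29 ye24 ze49) (ke xe29 ye44 ze13) (ke xe25 ye26 ze33) (ke xe28 ye56 ze40) (ke xe21 ye20 ze60)) (@D3.rec (fun _ => Pt) (ke xe31 ye45 ze26) (ke xe25 ye31 ze26) (ke xe23 ye41 ze44) (ke xe28 ye19 ze25) (ke xe28 ye59 ze27) (ke xe29 ye21 ze56) (ke xe22 ye5 ze43) (ke xe26 ye59 ze41) (ke xe27 ye44 ze17) (ke xe26 ye11 ze7) (ke xe25 ye33 ze38) (ke xe24 ye34 ze58) (ke xe21 ye21 ze34) (ke xe23 ye9 ze49) (ke xe25 ye50 ze12) (ke xe23 ye27 ze12) (ke xe27 ye4 ze54) (ke xe21 ye27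 ze20) (ke xe29 ye37 ze11) (ke xe23 ye27 ze37) (ke xe32 ye1 ze26) (ke xe31 ye35 ze45) (ke xe29 ye17 ze42) (ke xe30 ye31 ze50) (ke xe21 ye21 ze35) (ke xe21 ye49 ze46) (ke xe21 ye21 ze38) (ke xe31 ye4 ze57) (ke xe21 ye21 ze42) (ke xe25 ye42 ze17) (ke xe21 ye21 ze44) (ke xe21 ye55 ze21) (ke xe21 ye21 ze49) (ke xe32 ye49 ze16) (ke xe21 ye21 ze53) (ke xe21 ye21 ze55) (ke xe31 ye28 ze58) (ke xe32 ye23 ze52) (ke xe30 ye10 ze53) (ke xe26 ye18 ze11) (ke xe21 ye22 ze2) (ke xe29 ye58 ze6) (ke xe24 ye30 ze50) (ke xe21 ye22 ze16) (ke xe27 ye23 ze60) (ke xe24 ye38 ze2) (ke xe30 ye11 ze19) (ke xe21 ye22 ze22) (ke xe24 ye10 ze21) (ke xe31 ye29 ze39) (ke xe21 ye26 ze55) (ke xe21 ye22 ze38) (ke xe21 ye36 ze12) (ke xe24 ye40 ze50) (ke xe22 ye11 ze26) (ke xe27 ye56 ze10) (ke xe25 ye32 ze42)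 (ke xe26 ye13 ze12) (ke xe22 ye8 ze10) (ke xe21 ye23 ze14) (ke xe29 ye17 ze10) (ke xe24 ye35 ze44))
def f_e_30 : D2 → D3 → Pt := @D2.rec (fun _ => D3 → Pt) (@D3.rec (fun _ => Pt) (ke xe25 ye42 ze20) (ke xe30 ye21 ze35) (ke xe31 ye46 ze35) (ke xe29 ye58 ze54) (ke xe24 ye19 ze13) (ke xe31 ye56 ze55) (ke xe26 ye3 ze8) (ke xe21 ye51 ze0) (ke xe31 ye59 ze10) (ke xe28 ye58 ze40) (ke xe32 ye0 ze40) (ke xe21 ye24 ze8) (ke xe31 ye49 ze50) (ke xe25 ye25 ze43) (ke xe27 ye38 ze10) (ke xe32 ye40 ze32) (ke xe21 ye24 ze14) (ke xe21 ye48 ze10) (ke xe23 ye22 ze60) (ke xe27 ye39 ze25) (ke xe31 ye10 ze27) (ke xe29 ye57 ze45) (ke xe21 ye24 ze21) (ke xe30 ye41 ze48) (ke xe30 ye0 ze45) (ke xe30 ye42 ze20) (ke xe32 ye49 ze18) (ke xe21 ye24 ze26) (ke xe21 ye24 ze28) (ke xe29 ye52 ze8) (ke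 xe22 ye45 ze22) (ke xe30 ye7 ze46) (ke xe21 ye24 ze30) (ke xe30 ye13 ze0) (ke xe29 ye6 ze38) (ke xe23 ye29 ze33) (ke xe24 ye42 ze33) (ke xe26 ye9 ze40) (ke xe32 ye49 ze20) (ke xe29 ye55 ze24) (ke xe29 ye11 ze2) (ke xe21 ye24 ze40) (ke xe31 ye4 ze39) (ke xe30 ye41 ze13) (ke xe27 ye4 ze29) (ke xe30 ye0 ze24) (ke xe31 ye11 ze25) (ke xe23 ye28 ze26) (ke xe26 ye5 ze50) (ke xe21 ye32 ze57) (ke xe30 ye41 ze35) (ke xe21 ye24 ze59) (ke xe31 ye1 ze26) (ke xe23 ye44 ze18) (ke xe32 ye49 ze22) (ke xe32 ye49 ze24) (ke xe21 ye25 ze13) (ke xe31 ye35 ze59) (ke xe28 ye3 ze53) (ke xe23 ye45 ze3) (ke xe21 ye26 ze17) (ke xe23 ye42 ze48)) (@D3.rec (fun _ => Pt) (ke xe21 ye25 ze18) (ke xe27 ye28 ze24) (ke xe23 ye40 ze12) (ke xe22 ye45 ze60) (ke xe31 ye12 ze22) (ke xe21 ye25 ze28) (ke xe23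 ye44 ze36) (ke xe25 ye2 ze56) (ke xe21 ye25 ze37) (ke xe27 ye48 ze35) (ke xe23 ye35 ze47) (ke xe21 ye57 ze19) (ke xe21 ye25 ze46) (ke xe25 ye1 ze12) (ke xe21 ye26 ze4) (ke xe28 ye41 ze24) (ke xe27 ye47 ze30) (ke xe27 ye31 ze44) (ke xe30 ye3 ze46) (ke xe31 ye37 ze8) (ke xe27 ye5 ze50) (ke xe30 ye23 ze25) (ke xe21 ye26 ze39) (ke xe26 ye4 ze7) (ke xe21 ye45 ze60) (ke xe21 ye32 ze60) (ke xe21 ye33 ze5) (ke xe24 ye41 ze21) (ke xe23 ye36 ze6) (ke xe23 ye40 ze26) (ke xe23 ye41 ze19) (ke xe23 ye29 ze34) (ke xe21 ye27 ze13) (ke xe23 ye41 ze18) (ke xe29 ye16 ze16) (ke xe23 ye28 ze3) (ke xe21 ye27 ze22) (ke xe28 ye19 ze22) (ke xe25 ye49 ze6) (ke xe24 ye35 ze59) (ke xe32 ye49 ze25) (ke xe21 ye27 ze28) (ke xe30 ye26 ze8) (ke xe28 ye47 ze29) (ke xe32 ye7 ze43) (ke xe21 ye27 ze32)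 (ke xe32 ye49 ze28) (ke xe25 ye7 ze41) (ke xe31 ye37 ze52) (ke xe21 ye27 ze36) (ke xe25 ye4 ze5) (ke xe21 ye27 ze45) (ke xe29 ye17 ze26) (ke xe27 ye58 ze12) (ke xe23 ye15 ze36) (ke xe30 ye59 ze21) (ke xe21 ye55 ze46) (ke xe29 ye58 ze0) (ke xe21 ye27 ze50) (ke xe24 ye32 ze53) (ke xe25 ye2 ze40) (ke xe23 ye37 ze13)) (@D3.rec (fun _ => Pt) (ke xe21 ye28 ze1) (ke xe23 ye33 ze18) (ke xe23 ye42 ze41) (ke xe22 ye28 ze6) (ke xe30 ye59 ze4) (ke xe21 ye28 ze2) (ke xe26 ye46 ze1) (ke xe21 ye28 ze11) (ke xe30 ye59 ze24) (ke xe30 ye58 ze11) (ke xe23 ye21 ze18) (ke xe28 ye10 ze57) (ke xe32 ye49 ze31) (ke xe21 ye28 ze9) (ke xe22 ye30 ze13) (ke xe23 ye14 ze4) (ke xe21 ye28 ze10) (ke xe30 ye20 ze38) (ke xe30 ye59 ze30) (ke xe30 ye58 ze23) (ke xe30 ye58 ze24) (ke xe21 ye28 ze12) (ke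 xe24 ye41 ze25) (ke xe30 ye59 ze34) (ke xe27 ye23 ze24) (ke xe32 ye4 ze42) (ke xe21 ye28 ze19) (ke xe28 ye1 ze49) (ke xe21 ye28 ze21) (ke xe21 ye28 ze23) (ke xe21 ye28 ze24) (ke xe32 ye32 ze49) (ke xe25 ye38 ze58) (ke xe30 ye20 ze10) (ke xe29 ye14 ze60) (ke xe21 ye28 ze47) (ke xe29 ye40 ze59) (ke xe21 ye44 ze14) (ke xe22 ye6 ze12) (ke xe21 ye29 ze10) (ke xe23 ye18 ze43) (ke xe23 ye20 ze11) (ke xe31 ye4 ze26) (ke xe21 ye29 ze14) (ke xe23 ye23 ze2) (ke xe29 ye10 ze13) (ke xe32 ye4 ze33) (ke xe32 ye16 ze10) (ke xe31 ye33 ze41) (ke xe21 ye29 ze51) (ke xe21 ye29 ze55) (ke xe21 ye29 ze44) (ke xe21 ye29 ze28) (ke xe24 ye58 ze56) (ke xe21 ye29 ze30) (ke xe26 ye21 ze38) (ke xe32 ye3 ze9) (ke xe32 ye32 ze44) (ke xe22 ye45 ze6) (ke xe30 ye43 ze6) (ke xe21 ye29 ze40) (ke xe29 ye57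 ze48)) (@D3.rec (fun _ => Pt) (ke xe29 ye58 ze12) (ke xe21 ye29 ze43) (ke xe28 ye0 ze36) (ke xe32 ye5 ze0) (ke xe21 ye29 ze52) (ke xe23 ye34 ze39) (ke xe27 ye57 ze23) (ke xe32 ye3 ze50) (ke xe25 ye45 ze17) (ke xe24 ye53 ze45) (ke xe24 ye53 ze52) (ke xe32 ye1 ze46) (ke xe23 ye41 ze51) (ke xe30 ye3 ze23) (ke xe25 ye39 ze36) (ke xe30 ye59 ze5) (ke xe26 ye27 ze55) (ke xe26 ye27 ze45) (ke xe25 ye19 ze54) (ke xe21 ye30 ze18) (ke xe28 ye45 ze23) (ke xe21 ye50 ze19) (ke xe23 ye29 ze37) (ke xe30 ye3 ze13) (ke xe28 ye45 ze49) (ke xe21 ye31 ze24) (ke xe21 ye46 ze19) (ke xe29 ye31 ze52) (ke xe26 ye5 ze37) (ke xe24 ye54 ze53) (ke xe21 ye31 ze23) (ke xe23 ye35 ze0) (ke xe25 ye38 ze19) (ke xe32 ye43 ze9) (ke xe32 ye49 ze39) (ke xe23 ye30 ze8) (ke xe32 ye30 ze34) (ke xe21 ye31 ze33)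 (ke xe21 ye31 ze36) (ke xe27 ye38 ze34) (ke xe31 ye38 ze21) (ke xe32 ye42 ze42) (ke xe29 ye50 ze9) (ke xe25 ye15 ze9) (ke xe30 ye4 ze23) (ke xe21 ye58 ze17) (ke xe30 ye1 ze18) (ke xe27 ye45 ze22) (ke xe32 ye49 ze41) (ke xe21 ye31 ze60) (ke xe22 ye40 ze18) (ke xe22 ye9 ze56) (ke xe27 ye18 ze13) (ke xe27 ye48 ze11) (ke xe26 ye11 ze38) (ke xe25 ye1 ze3) (ke xe21 ye32 ze22) (ke xe25 ye47 ze58) (ke xe22 ye21 ze51) (ke xe29 ye40 ze19) (ke xe27 ye44 ze19) (ke xe22 ye57 ze37)) (@D3.rec (fun _ => Pt) (ke xe29 ye56 ze40) (ke xe26 ye15 ze0) (ke xe31 ye50 ze19) (ke xe29 ye26 ze47) (ke xe23 ye41 ze23) (ke xe32 ye49 ze42) (ke xe21 ye33 ze3) (ke xe28 ye48 ze22) (ke xe21 ye59 ze0) (ke xe25 ye31 ze3) (ke xe25 ye46 ze31) (ke xe21 ye33 ze35) (ke xe21 ye57 ze14) (ke xe27 ye31 ze36) (ke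 xe21 ye33 ze42) (ke xe31 ye38 ze26) (ke xe21 ye33 ze46) (ke xe21 ye33 ze51) (ke xe21 ye33 ze54) (ke xe21 ye55 ze48) (ke xe28 ye3 ze57) (ke xe21 ye33 ze59) (ke xe21 ye33 ze60) (ke xe30 ye3 ze44) (ke xe25 ye58 ze38) (ke xe27 ye25 ze0) (ke xe21 ye34 ze12) (ke xe23 ye34 ze48) (ke xe24 ye42 ze5) (ke xe32 ye3 ze15) (ke xe31 ye5 ze35) (ke xe21 ye34 ze18) (ke xe30 ye35 ze54) (ke xe31 ye37 ze39) (ke xe29 ye58 ze16) (ke xe32 ye49 ze46) (ke xe22 ye44 ze34) (ke xe23 ye39 ze61) (ke xe28 ye48 ze46) (ke xe31 ye44 ze60) (ke xe23 ye39 ze25) (ke xe30 ye41 ze45) (ke xe24 ye41 ze48) (ke xe30 ye10 ze28) (ke xe22 ye42 ze53) (ke xe23 ye40 ze15) (ke xe23 ye29 ze27) (ke xe21 ye34 ze36) (ke xe30 ye58 ze32) (ke xe24 ye42 ze37) (ke xe31 ye57 ze43) (ke xe32 ye49 ze50) (ke xe32 ye23 ze40) (ke xe21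 ye34 ze39) (ke xe24 ye34 ze51) (ke xe31 ye3 ze17) (ke xe21 ye34 ze40) (ke xe24 ye33 ze56) (ke xe21 ye34 ze49) (ke xe26 ye4 ze8) (ke xe21 ye35 ze11) (ke xe29 ye48 ze38)) (@D3.rec (fun _ => Pt) (ke xe27 ye49 ze50) (ke xe27 ye29 ze44) (ke xe27 ye29 ze45) (ke xe32 ye49 ze53) (ke xe27 ye7 ze11) (ke xe21 ye35 ze26) (ke xe30 ye39 ze23) (ke xe27 ye8 ze45) (ke xe27 ye6 ze58) (ke xe21 ye35 ze38) (ke xe21 ye35 ze39) (ke xe21 ye42 ze37) (ke xe21 ye35 ze46) (ke xe21 ye35 ze55) (ke xe24 ye43 ze9) (ke xe29 ye51 ze53) (ke xe31 ye46 ze36) (ke xe21 ye55 ze33) (ke xe23 ye2 ze50) (ke xe24 ye14 ze47) (ke xe28 ye19 ze7) (ke xe26 ye45 ze45) (ke xe21 ye36 ze54) (ke xe21 ye36 ze57) (ke xe30 ye7 ze44) (ke xe27 ye46 ze12) (ke xe23 ye6 ze59) (ke xe27 ye47 ze35) (ke xe21 ye37 ze14) (ke xe27 ye39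 ze36) (ke xe23 ye38 ze8) (ke xe21 ye37 ze47) (ke xe32 ye4 ze41) (ke xe21 ye37 ze55) (ke xe24 ye53 ze12) (ke xe22 ye32 ze15) (ke xe22 ye32 ze5) (ke xe30 ye44 ze59) (ke xe21 ye38 ze30) (ke xe22 ye13 ze33) (ke xe32 ye19 ze42) (ke xe32 ye49 ze58) (ke xe21 ye38 ze32) (ke xe21 ye38 ze33) (ke xe26 ye43 ze0) (ke xe27 ye15 ze21) (ke xe23 ye48 ze56) (ke xe21 ye38 ze35) (ke xe30 ye19 ze7) (ke xe32 ye50 ze3) (ke xe32 ye20 ze32) (ke xe21 ye38 ze36) (ke xe29 ye48 ze17) (ke xe30 ye38 ze43) (ke xe29 ye2 ze27) (ke xe29 ye2 ze29) (ke xe30 ye38 ze42) (ke xe28 ye16 ze45) (ke xe21 ye38 ze44) (ke xe28 ye14 ze46) (ke xe32 ye34 ze9) (ke xe21 ye49 ze35)) (@D3.rec (fun _ => Pt) (ke xe27 ye27 ze21) (ke xe21 ye38 ze52) (ke xe21 ye38 ze53) (ke xe27 ye19 ze57) (ke xe32 ye2 ze44) (ke xe21 ye40 ze51)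 (ke xe30 ye6 ze15) (ke xe21 ye39 ze1) (ke xe25 ye34 ze42) (ke xe30 ye55 ze55) (ke xe30 ye10 ze12) (ke xe23 ye29 ze50) (ke xe31 ye30 ze18) (ke xe30 ye10 ze2) (ke xe21 ye39 ze4) (ke xe30 ye6 ze6) (ke xe28 ye29 ze56) (ke xe21 ye39 ze11) (ke xe26 ye14 ze7) (ke xe25 ye57 ze24) (ke xe32 ye25 ze24) (ke xe21 ye39 ze33) (ke xe25 ye57 ze10) (ke xe29 ye0 ze35) (ke xe25 ye9 ze58) (ke xe25 ye24 ze55) (ke xe30 ye8 ze58) (ke xe31 ye17 ze34) (ke xe29 ye53 ze21) (ke xe21 ye39 ze29) (ke xe31 ye26 ze9) (ke xe27 ye48 ze5) (ke xe25 ye13 ze19) (ke xe26 ye24 ze39) (ke xe29 ye37 ze9) (ke xe25 ye30 ze7) (ke xe29 ye0 ze24) (ke xe31 ye24 ze46) (ke xe21 ye39 ze38) (ke xe22 ye1 ze50) (ke xe25 ye54 ze24) (ke xe26 ye6 ze53) (ke xe21 ye39 ze45) (ke xe24 ye23 ze10) (ke xe22 ye52 ze29) (ke xe25 ye26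 ze11) (ke xe25 ye26 ze18) (ke xe31 ye56 ze9) (ke xe27 ye13 ze14) (ke xe27 ye13 ze17) (ke xe21 ye39 ze50) (ke xe27 ye21 ze19) (ke xe27 ye12 ze19) (ke xe25 ye43 ze45) (ke xe30 ye28 ze26) (ke xe21 ye40 ze5) (ke xe31 ye16 ze5) (ke xe26 ye26 ze40) (ke xe26 ye48 ze46) (ke xe21 ye40 ze12) (ke xe21 ye40 ze14) (ke xe21 ye40 ze19)) (@D3.rec (fun _ => Pt) (ke xe26 ye3 ze46) (ke xe32 ye50 ze15) (ke xe21 ye40 ze24) (ke xe31 ye31 ze0) (ke xe27 ye22 ze9) (ke xe26 ye58 ze59) (ke xe29 ye34 ze28) (ke xe27 ye22 ze51) (ke xe27 ye37 ze51) (ke xe21 ye40 ze42) (ke xe21 ye40 ze44) (ke xe25 ye34 ze35) (ke xe21 ye40 ze50) (ke xe31 ye37 ze60) (ke xe22 ye35 ze30) (ke xe30 ye37 ze40) (ke xe29 ye55 ze61) (ke xe30 ye59 ze41) (ke xe30 ye58 ze59) (ke xe21 ye40 ze59) (ke xe30 ye58 ze2) (ke xe21 ye40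 ze60) (ke xe30 ye58 ze21) (ke xe32 ye31 ze6) (ke xe21 ye40 ze61) (ke xe24 ye31 ze49) (ke xe21 ye41 ze1) (ke xe30 ye36 ze54) (ke xe29 ye24 ze30) (ke xe30 ye48 ze45) (ke xe32 ye50 ze22) (ke xe21 ye41 ze22) (ke xe32 ye32 ze54) (ke xe22 ye53 ze43) (ke xe32 ye8 ze20) (ke xe32 ye50 ze24) (ke xe26 ye58 ze31) (ke xe22 ye14 ze35) (ke xe23 ye52 ze10) (ke xe21 ye48 ze50) (ke xe22 ye11 ze3) (ke xe30 ye12 ze36) (ke xe22 ye30 ze15) (ke xe29 ye49 ze53) (ke xe30 ye5 ze24) (ke xe32 ye48 ze27) (ke xe30 ye0 ze31) (ke xe28 ye57 ze29) (ke xe32 ye0 ze2) (ke xe25 ye8 ze53) (ke xe25 ye10 ze51) (ke xe30 ye56 ze35) (ke xe25 ye9 ze20) (ke xe25 ye31 ze21) (ke xe30 ye18 ze8) (ke xe24 ye58 ze33) (ke xe29 ye57 ze47) (ke xe21 ye43 ze25) (ke xe21 ye43 ze27) (ke xe21 ye43 ze29) (ke xe21 ye43 ze30) (ke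 xe21 ye43 ze31)) (@D3.rec (fun _ => Pt) (ke xe23 ye26 ze35) (ke xe31 ye18 ze47) (ke xe24 ye19 ze32) (ke xe32 ye50 ze27) (ke xe21 ye43 ze50) (ke xe31 ye49 ze2) (ke xe31 ye25 ze4) (ke xe32 ye0 ze42) (ke xe32 ye42 ze5) (ke xe21 ye43 ze51) (ke xe27 ye5 ze53) (ke xe27 ye19 ze50) (ke xe32 ye50 ze28) (ke xe25 ye45 ze39) (ke xe30 ye39 ze49) (ke xe26 ye57 ze16) (ke xe21 ye44 ze32) (ke xe21 ye44 ze58) (ke xe21 ye45 ze4) (ke xe24 ye33 ze11) (ke xe23 ye47 ze4) (ke xe21 ye49 ze3) (ke xe21 ye45 ze11) (ke xe26 ye41 ze18) (ke xe22 ye39 ze13) (ke xe23 ye58 ze52) (ke xe23 ye35 ze24) (ke xe21 ye45 ze25) (ke xe21 ye45 ze27) (ke xe24 ye8 ze17) (ke xe29 ye31 ze4) (ke xe32 ye41 ze38) (ke xe27 ye46 ze52) (ke xe24 ye33 ze14) (ke xe26 ye16 ze50) (ke xe25 ye30 ze27) (ke xe27 ye26 ze36) (ke xe22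 ye18 ze1) (ke xe22 ye3 ze40) (ke xe24 ye42 ze47) (ke xe21 ye46 ze8) (ke xe25 ye7 ze21) (ke xe27 ye48 ze39) (ke xe21 ye46 ze13) (ke xe25 ye31 ze4) (ke xe21 ye55 ze56) (ke xe25 ye29 ze57) (ke xe21 ye46 ze22) (ke xe22 ye2 ze4) (ke xe21 ye46 ze48) (ke xe23 ye46 ze55) (ke xe24 ye45 ze14) (ke xe22 ye10 ze15) (ke xe29 ye51 ze11) (ke xe27 ye4 ze5) (ke xe27 ye26 ze35) (ke xe21 ye46 ze60) (ke xe31 ye45 ze21) (ke xe30 ye6 ze26) (ke xe21 ye47 ze2) (ke xe21 ye47 ze3) (ke xe25 ye37 ze8)) (@D3.rec (fun _ => Pt) (ke xe24 ye41 ze23) (ke xe32 ye30 ze12) (ke xe21 ye47 ze21) (ke xe24 ye2 ze45) (ke xe21 ye47 ze23) (ke xe21 ye47 ze27) (ke xe32 ye36 ze33) (ke xe22 ye22 ze4) (ke xe27 ye21 ze3) (ke xe30 ye29 ze32) (ke xe30 ye22 ze43) (ke xe26 ye53 ze29) (ke xe25 ye52 ze56) (ke xe25 ye13 ze11)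 (ke xe26 ye7 ze61) (ke xe31 ye8 ze11) (ke xe21 ye47 ze51) (ke xe31 ye43 ze52) (ke xe25 ye8 ze35) (ke xe21 ye47 ze56) (ke xe24 ye37 ze25) (ke xe21 ye47 ze59) (ke xe24 ye18 ze5) (ke xe25 ye11 ze40) (ke xe21 ye48 ze41) (ke xe28 ye42 ze35) (ke xe26 ye58 ze48) (ke xe26 ye7 ze56) (ke xe32 ye4 ze7) (ke xe29 ye26 ze8) (ke xe31 ye3 ze47) (ke xe32 ye48 ze46) (ke xe25 ye30 ze43) (ke xe21 ye48 ze16) (ke xe28 ye17 ze18) (ke xe27 ye22 ze59) (ke xe21 ye48 ze19) (ke xe27 ye1 ze10) (ke xe30 ye29 ze7) (ke xe28 ye57 ze25) (ke xe23 ye1 ze34) (ke xe29 ye3 ze39) (ke xe21 ye48 ze26) (ke xe29 ye3 ze32) (ke xe31 ye20 ze55) (ke xe31 ye28 ze55) (ke xe26 ye44 ze25) (ke xe27 ye42 ze31) (ke xe21 ye48 ze33) (ke xe23 ye1 ze47) (ke xe25 ye7 ze34) (ke xe24 ye11 ze25) (ke xe25 ye6 ze57) (ke xe28 ye49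 ze27) (ke xe30 ye37 ze4) (ke xe21 ye48 ze37) (ke xe21 ye48 ze38) (ke xe28 ye42 ze37) (ke xe25 ye11 ze50) (ke xe25 ye4 ze54) (ke xe29 ye3 ze50) (ke xe32 ye50 ze35)) (@D3.rec (fun _ => Pt) (ke xe29 ye56 ze59) (ke xe21 ye48 ze42) (ke xe30 ye6 ze13) (ke xe21 ye48 ze44) (ke xe27 ye18 ze40) (ke xe31 ye23 ze20) (ke xe31 ye55 ze4) (ke xe27 ye3 ze52) (ke xe23 ye9 ze53) (ke xe21 ye48 ze53) (ke xe31 ye4 ze17) (ke xe32 ye48 ze11) (ke xe30 ye6 ze10) (ke xe31 ye12 ze26) (ke xe30 ye41 ze42) (ke xe30 ye52 ze15) (ke xe32 ye4 ze48) (ke xe30 ye36 ze0) (ke xe27 ye58 ze13) (ke xe21 ye49 ze0) (ke xe30 ye55 ze22) (ke xe30 ye37 ze16) (ke xe29 ye51 ze19) (ke xe31 ye9 ze33) (ke xe30 ye52 ze33) (ke xe23 ye41 ze14) (ke xe30 ye35 ze55) (ke xe21 ye49 ze4) (ke xe30 ye4 ze43) (ke xe24 ye40 ze4) (ke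 xe21 ye49 ze14) (ke xe32 ye49 ze8) (ke xe32 ye23 ze41) (ke xe24 ye20 ze55) (ke xe32 ye43 ze5) (ke xe31 ye13 ze23) (ke xe21 ye49 ze18) (ke xe31 ye57 ze28) (ke xe32 ye42 ze8) (ke xe21 ye49 ze19) (ke xe31 ye57 ze46) (ke xe32 ye48 ze61) (ke xe21 ye49 ze20) (ke xe27 ye18 ze35) (ke xe25 ye57 ze52) (ke xe21 ye49 ze21) (ke xe23 ye26 ze55) (ke xe25 ye40 ze2) (ke xe21 ye49 ze23) (ke xe31 ye36 ze33) (ke xe27 ye18 ze31) (ke xe30 ye37 ze11) (ke xe32 ye42 ze34) (ke xe29 ye59 ze38) (ke xe27 ye18 ze43) (ke xe30 ye37 ze8) (ke xe31 ye22 ze6) (ke xe21 ye49 ze30) (ke xe21 ye49 ze31) (ke xe32 ye21 ze10) (ke xe31 ye9 ze24) (ke xe23 ye11 ze46)) (@D3.rec (fun _ => Pt) (ke xe22 ye57 ze28) (ke xe30 ye54 ze23) (ke xe31 ye45 ze20) (ke xe24 ye19 ze31) (ke xe31 ye56 ze42) (ke xe29 ye51 ze51) (ke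 xe25 ye56 ze19) (ke xe27 ye17 ze13) (ke xe30 ye15 ze4) (ke xe31 ye54 ze28) (ke xe28 ye56 ze54) (ke xe21 ye50 ze12) (ke xe30 ye18 ze3) (ke xe21 ye53 ze49) (ke xe21 ye50 ze23) (ke xe30 ye55 ze19) (ke xe29 ye41 ze32) (ke xe21 ye54 ze22) (ke xe29 ye6 ze48) (ke xe29 ye59 ze46) (ke xe30 ye51 ze31) (ke xe21 ye50 ze30) (ke xe31 ye55 ze52) (ke xe25 ye50 ze15) (ke xe30 ye31 ze49) (ke xe32 ye48 ze24) (ke xe31 ye23 ze25) (ke xe21 ye50 ze53) (ke xe24 ye33 ze0) (ke xe27 ye23 ze35) (ke xe22 ye10 ze50) (ke xe21 ye51 ze5) (ke xe29 ye54 ze53) (ke xe24 ye30 ze35) (ke xe21 ye52 ze12) (ke xe31 ye19 ze35) (ke xe23 ye22 ze18) (ke xe21 ye52 ze27) (ke xe31 ye12 ze39) (ke xe26 ye57 ze22) (ke xe31 ye30 ze33) (ke xe21 ye52 ze29) (ke xe22 ye58 ze43) (ke xe24 ye25 ze3) (ke xe21 ye52 ze32) (ke xe28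 ye38 ze59) (ke xe21 ye52 ze35) (ke xe24 ye24 ze46) (ke xe22 ye58 ze53) (ke xe32 ye14 ze4) (ke xe21 ye52 ze39) (ke xe22 ye38 ze22) (ke xe22 ye58 ze46) (ke xe24 ye21 ze44) (ke xe32 ye50 ze39) (ke xe23 ye34 ze19) (ke xe21 ye52 ze42) (ke xe21 ye52 ze45) (ke xe29 ye40 ze45) (ke xe28 ye45 ze60) (ke xe21 ye52 ze47) (ke xe21 ye52 ze48)) (@D3.rec (fun _ => Pt) (ke xe21 ye52 ze50) (ke xe24 ye8 ze36) (ke xe31 ye31 ze34) (ke xe21 ye52 ze55) (ke xe30 ye39 ze1) (ke xe21 ye52 ze57) (ke xe21 ye53 ze9) (ke xe32 ye2 ze46) (ke xe28 ye52 ze24) (ke xe30 ye34 ze37) (ke xe27 ye21 ze0) (ke xe23 ye12 ze26) (ke xe25 ye25 ze7) (ke xe28 ye12 ze56) (ke xe30 ye58 ze27) (ke xe30 ye59 ze56) (ke xe21 ye53 ze38) (ke xe30 ye12 ze28) (ke xe22 ye31 ze20) (ke xe26 ye51 ze54) (ke xe32 ye4 ze14) (ke xe21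 ye59 ze47) (ke xe27 ye36 ze48) (ke xe26 ye29 ze39) (ke xe31 ye48 ze27) (ke xe21 ye54 ze9) (ke xe21 ye54 ze12) (ke xe23 ye52 ze40) (ke xe30 ye12 ze17) (ke xe32 ye3 ze6) (ke xe25 ye24 ze28) (ke xe23 ye4 ze3) (ke xe22 ye42 ze27) (ke xe21 ye54 ze29) (ke xe27 ye58 ze38) (ke xe31 ye14 ze18) (ke xe30 ye7 ze41) (ke xe21 ye54 ze58) (ke xe25 ye28 ze46) (ke xe30 ye41 ze36) (ke xe22 ye35 ze24) (ke xe32 ye8 ze16) (ke xe21 ye55 ze12) (ke xe26 ye23 ze39) (ke xe21 ye55 ze13) (ke xe24 ye20 ze1) (ke xe23 ye45 ze14) (ke xe30 ye20 ze39) (ke xe21 ye56 ze13) (ke xe26 ye6 ze26) (ke xe23 ye44 ze54) (ke xe23 ye3 ze21) (ke xe29 ye12 ze13) (ke xe22 ye29 ze46) (ke xe22 ye31 ze61) (ke xe31 ye44 ze58) (ke xe21 ye55 ze45) (ke xe30 ye57 ze54) (ke xe29 ye13 ze48) (ke xe30 ye33 ze31) (ke xe27 ye46 ze44)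 (ke xe31 ye6 ze16)) (@D3.rec (fun _ => Pt) (ke xe30 ye0 ze33) (ke xe31 ye57 ze57) (ke xe32 ye38 ze6) (ke xe21 ye55 ze47) (ke xe23 ye44 ze58) (ke xe31 ye6 ze39) (ke xe25 ye2 ze12) (ke xe21 ye55 ze51) (ke xe31 ye10 ze26) (ke xe21 ye55 ze54) (ke xe25 ye41 ze2) (ke xe28 ye42 ze20) (ke xe31 ye54 ze20) (ke xe30 ye42 ze37) (ke xe26 ye8 ze28) (ke xe23 ye30 ze56) (ke xe21 ye56 ze3) (ke xe23 ye2 ze42) (ke xe28 ye12 ze26) (ke xe31 ye11 ze53) (ke xe21 ye56 ze4) (ke xe21 ye56 ze7) (ke xe29 ye57 ze30) (ke xe21 ye56 ze11) (ke xe26 ye1 ze38) (ke xe23 ye19 ze30) (ke xe24 ye52 ze22) (ke xe31 ye6 ze53) (ke xe21 ye56 ze20) (ke xe23 ye25 ze45) (ke xe23 ye45 ze11) (ke xe31 ye7 ze56) (ke xe27 ye57 ze32) (ke xe21 ye56 ze38) (ke xe27 ye57 ze33) (ke xe27 ye22 ze10) (ke xe26 ye8 ze54) (ke xe30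 ye40 ze21) (ke xe22 ye10 ze18) (ke xe21 ye56 ze43) (ke xe21 ye56 ze44) (ke xe31 ye2 ze40) (ke xe30 ye42 ze5) (ke xe21 ye56 ze45) (ke xe21 ye56 ze46) (ke xe23 ye38 ze18) (ke xe27 ye22 ze13) (ke xe31 ye9 ze58) (ke xe30 ye42 ze27) (ke xe31 ye8 ze34) (ke xe21 ye56 ze50) (ke xe24 ye30 ze51) (ke xe29 ye57 ze34) (ke xe29 ye57 ze31) (ke xe21 ye56 ze52) (ke xe32 ye21 ze2) (ke xe30 ye50 ze6) (ke xe31 ye29 ze32) (ke xe31 ye4 ze60) (ke xe30 ye33 ze16) (ke xe21 ye56 ze58) (ke xe29 ye55 ze1)) (@D3.rec (fun _ => Pt) (ke xe22 ye51 ze36) (ke xe21 ye57 ze3) (ke xe24 ye23 ze41) (ke xe31 ye7 ze48) (ke xe32 ye3 ze7) (ke xe32 ye43 ze19) (ke xe21 ye57 ze15) (ke xe26 ye12 ze60) (ke xe29 ye12 ze1) (ke xe26 ye2 ze43) (ke xe27 ye56 ze37) (ke xe26 ye40 ze40) (ke xe27 ye21 ze33) (ke xe29 ye16 ze38)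 (ke xe27 ye42 ze46) (ke xe30 ye19 ze55) (ke xe22 ye11 ze9) (ke xe21 ye58 ze5) (ke xe25 ye6 ze50) (ke xe31 ye14 ze34) (ke xe23 ye22 ze30) (ke xe23 ye37 ze54) (ke xe21 ye58 ze40) (ke xe23 ye21 ze60) (ke xe21 ye58 ze50) (ke xe25 ye32 ze0) (ke xe25 ye40 ze57) (ke xe27 ye24 ze8) (ke xe24 ye19 ze15) (ke xe26 ye5 ze9) (ke xe26 ye21 ze54) (ke xe27 ye29 ze17) (ke xe31 ye54 ze9) (ke xe21 ye59 ze13) (ke xe23 ye36 ze5) (ke xe22 ye12 ze0) (ke xe31 ye41 ze58) (ke xe25 ye44 ze24) (ke xe26 ye39 ze40) (ke xe21 ye59 ze34) (ke xe26 ye15 ze57) (ke xe25 ye17 ze43) (ke xe27 ye36 ze57) (ke xe27 ye37 ze29) (ke xe28 ye46 ze29) (ke xe29 ye32 ze5) (ke xe21 ye59 ze58) (ke xe32 ye45 ze33) (ke xe21 ye59 ze60) (ke xe29 ye45 ze58) (ke xe22 ye0 ze0) (ke xe28 ye51 ze13) (ke xe28 ye52 ze41) (ke xe22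 ye0 ze3) (ke xe28 ye24 ze9) (ke xe29 ye33 ze25) (ke xe29 ye45 ze28) (ke xe22 ye0 ze7) (ke xe28 ye52 ze40) (ke xe28 ye54 ze8) (ke xe22 ye0 ze51) (ke xe25 ye51 ze48)) (@D3.rec (fun _ => Pt) (ke xe32 ye13 ze51) (ke xe22 ye0 ze12) (ke xe31 ye57 ze8) (ke xe27 ye35 ze59) (ke xe30 ye11 ze8) (ke xe24 ye17 ze19) (ke xe25 ye7 ze20) (ke xe22 ye0 ze28) (ke xe22 ye0 ze29) (ke xe30 ye49 ze41) (ke xe22 ye0 ze32) (ke xe32 ye32 ze16) (ke xe22 ye0 ze36) (ke xe32 ye12 ze7) (ke xe32 ye12 ze4) (ke xe22 ye0 ze42) (ke xe22 ye1 ze2) (ke xe32 ye12 ze41) (ke xe28 ye24 ze4) (ke xe29 ye45 ze18) (ke xe25 ye51 ze37) (ke xe24 ye29 ze48) (ke xe30 ye28 ze7) (ke xe32 ye39 ze2) (ke xe29 ye33 ze49) (ke xe27 ye0 ze42) (ke xe29 ye45 ze14) (ke xe22 ye0 ze48) (ke xe32 ye45 ze48) (ke xe32 ye10 ze51) (ke xe32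 ye50 ze30) (ke xe22 ye1 ze32) (ke xe22 ye0 ze53) (ke xe22 ye0 ze56) (ke xe28 ye39 ze18) (ke xe22 ye0 ze58) (ke xe32 ye13 ze13) (ke xe28 ye56 ze45) (ke xe22 ye0 ze61) (ke xe32 ye41 ze45) (ke xe22 ye1 ze5) (ke xe32 ye33 ze28) (ke xe24 ye25 ze49) (ke xe32 ye44 ze38) (ke xe32 ye21 ze24) (ke xe32 ye32 ze37) (ke xe24 ye29 ze41) (ke xe22 ye24 ze37) (ke xe28 ye29 ze60) (ke xe22 ye1 ze14) (ke xe30 ye27 ze47) (ke xe27 ye14 ze41) (ke xe29 ye32 ze11) (ke xe23 ye51 ze7) (ke xe32 ye46 ze28) (ke xe27 ye0 ze32) (ke xe32 ye41 ze4) (ke xe25 ye32 ze6) (ke xe24 ye26 ze48) (ke xe28 ye24 ze13) (ke xe32 ye41 ze49) (ke xe28 ye53 ze0)) (@D3.rec (fun _ => Pt) (ke xe28 ye52 ze33) (ke xe28 ye52 ze44) (ke xe32 ye13 ze22) (ke xe22 ye1 ze26) (ke xe31 ye47 ze30) (ke xe26 ye46 ze42) (ke xe32 ye46 ze51)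 (ke xe26 ye34 ze16) (ke xe22 ye1 ze29) (ke xe31 ye31 ze39) (ke xe28 ye24 ze14) (ke xe32 ye51 ze2) (ke xe24 ye25 ze52) (ke xe32 ye44 ze30) (ke xe24 ye0 ze21) (ke xe32 ye34 ze57) (ke xe32 ye45 ze22) (ke xe22 ye1 ze33) (ke xe27 ye0 ze11) (ke xe31 ye31 ze46) (ke xe30 ye30 ze6) (ke xe22 ye1 ze36) (ke xe31 ye30 ze30) (ke xe29 ye45 ze60) (ke xe22 ye1 ze39) (ke xe31 ye17 ze32) (ke xe32 ye41 ze47) (ke xe29 ye31 ze29) (ke xe32 ye40 ze21) (ke xe27 ye14 ze4) (ke xe32 ye33 ze35) (ke xe22 ye24 ze32) (ke xe22 ye24 ze33) (ke xe24 ye11 ze37) (ke xe25 ye56 ze55) (ke xe31 ye20 ze52) (ke xe26 ye6 ze52) (ke xe22 ye3 ze32) (ke xe22 ye1 ze54) (ke xe26 ye34 ze15) (ke xe25 ye48 ze36) (ke xe25 ye44 ze50) (ke xe30 ye19 ze37) (ke xe25 ye11 ze53) (ke xe24 ye4 ze24) (ke xe25 ye29 ze20) (ke xe29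 ye50 ze56) (ke xe25 ye7 ze37) (ke xe24 ye43 ze30) (ke xe32 ye25 ze22) (ke xe22 ye2 ze15) (ke xe24 ye16 ze30) (ke xe31 ye20 ze57) (ke xe23 ye56 ze49) (ke xe22 ye52 ze47) (ke xe31 ye43 ze53) (ke xe29 ye44 ze22) (ke xe27 ye19 ze58) (ke xe22 ye10 ze22) (ke xe25 ye42 ze16) (ke xe32 ye32 ze39) (ke xe23 ye38 ze36)) (@D3.rec (fun _ => Pt) (ke xe25 ye35 ze22) (ke xe25 ye6 ze61) (ke xe29 ye5 ze28) (ke xe22 ye2 ze56) (ke xe25 ye55 ze9) (ke xe29 ye10 ze57) (ke xe30 ye53 ze56) (ke xe26 ye23 ze49) (ke xe26 ye22 ze28) (ke xe32 ye12 ze53) (ke xe32 ye11 ze48) (ke xe25 ye56 ze17) (ke xe27 ye43 ze37) (ke xe24 ye39 ze51) (ke xe22 ye3 ze29) (ke xe22 ye3 ze52) (ke xe32 ye51 ze3) (ke xe22 ye3 ze55) (ke xe29 ye47 ze6) (ke xe31 ye47 ze33) (ke xe22 ye3 ze58) (ke xe32 ye0 ze27) (ke xe22 ye4 ze12)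 (ke xe22 ye4 ze13) (ke xe26 ye36 ze50) (ke xe24 ye0 ze52) (ke xe32 ye13 ze19) (ke xe32 ye4 ze46) (ke xe32 ye12 ze54) (ke xe24 ye35 ze12) (ke xe31 ye20 ze15) (ke xe32 ye51 ze5) (ke xe31 ye20 ze22) (ke xe31 ye17 ze8) (ke xe22 ye40 ze57) (ke xe32 ye18 ze35) (ke xe27 ye10 ze27) (ke xe22 ye4 ze23) (ke xe30 ye59 ze27) (ke xe22 ye4 ze27) (ke xe22 ye4 ze28) (ke xe24 ye37 ze42) (ke xe28 ye11 ze45) (ke xe22 ye4 ze37) (ke xe22 ye17 ze54) (ke xe22 ye4 ze39) (ke xe31 ye59 ze27) (ke xe25 ye41 ze11) (ke xe31 ye48 ze40) (ke xe24 ye39 ze54) (ke xe29 ye56 ze32) (ke xe27 ye38 ze9) (ke xe22 ye4 ze59) (ke xe27 ye36 ze22) (ke xe25 ye15 ze0) (ke xe31 ye22 ze45) (ke xe22 ye5 ze11) (ke xe26 ye51 ze35) (ke xe29 ye8 ze9) (ke xe26 ye8 ze15) (ke xe22 ye5 ze24) (ke xe25 ye44 ze8)) (@D3.rec (fun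 _ => Pt) (ke xe31 ye2 ze48) (ke xe31 ye2 ze41) (ke xe22 ye5 ze28) (ke xe30 ye11 ze12) (ke xe22 ye5 ze29) (ke xe27 ye12 ze13) (ke xe26 ye46 ze5) (ke xe22 ye5 ze39) (ke xe30 ye7 ze54) (ke xe32 ye41 ze31) (ke xe22 ye5 ze44) (ke xe29 ye49 ze36) (ke xe22 ye5 ze56) (ke xe28 ye9 ze13) (ke xe23 ye37 ze27) (ke xe29 ye52 ze36) (ke xe27 ye43 ze27) (ke xe27 ye5 ze41) (ke xe27 ye36 ze52) (ke xe22 ye6 ze13) (ke xe28 ye35 ze50) (ke xe26 ye44 ze13) (ke xe30 ye48 ze14) (ke xe31 ye33 ze12) (ke xe24 ye26 ze56) (ke xe22 ye6 ze39) (ke xe31 ye13 ze54) (ke xe30 ye18 ze56) (ke xe23 ye54 ze26) (ke xe22 ye6 ze43) (ke xe32 ye51 ze13) (ke xe32 ye36 ze44) (ke xe30 ye43 ze2) (ke xe32 ye51 ze15) (ke xe30 ye22 ze11) (ke xe28 ye52 ze56) (ke xe22 ye6 ze56) (ke xe28 ye36 ze8) (ke xe29 ye35 ze22) (ke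 xe30 ye22 ze59) (ke xe31 ye31 ze20) (ke xe32 ye37 ze12) (ke xe22 ye6 ze57) (ke xe23 ye53 ze30) (ke xe23 ye13 ze32) (ke xe25 ye26 ze39) (ke xe30 ye20 ze1) (ke xe32 ye51 ze17) (ke xe24 ye18 ze12) (ke xe22 ye7 ze2) (ke xe25 ye59 ze10) (ke xe25 ye30 ze42) (ke xe22 ye7 ze6) (ke xe31 ye52 ze8) (ke xe22 ye25 ze55) (ke xe32 ye19 ze28) (ke xe30 ye18 ze27) (ke xe22 ye7 ze9) (ke xe22 ye48 ze49) (ke xe25 ye27 ze38) (ke xe22 ye50 ze39) (ke xe27 ye8 ze47)) (@D3.rec (fun _ => Pt) (ke xe27 ye8 ze48) (ke xe28 ye52 ze9) (ke xe28 ye52 ze10) (ke xe27 ye13 ze34) (ke xe32 ye14 ze59) (ke xe22 ye7 ze21) (ke xe32 ye46 ze9) (ke xe30 ye5 ze48) (ke xe22 ye7 ze17) (ke xe22 ye7 ze18) (ke xe32 ye39 ze44) (ke xe22 ye7 ze20) (ke xe23 ye47 ze14) (ke xe23 ye47 ze15) (ke xe32 ye51 ze27) (ke xe30 ye47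 ze59) (ke xe25 ye48 ze16) (ke xe32 ye51 ze31) (ke xe22 ye7 ze29) (ke xe26 ye43 ze1) (ke xe24 ye48 ze37) (ke xe32 ye27 ze22) (ke xe22 ye7 ze37) (ke xe22 ye7 ze38) (ke xe22 ye7 ze39) (ke xe22 ye7 ze41) (ke xe22 ye7 ze46) (ke xe29 ye3 ze16) (ke xe31 ye47 ze56) (ke xe25 ye56 ze60) (ke xe28 ye58 ze59) (ke xe26 ye14 ze17) (ke xe22 ye8 ze11) (ke xe22 ye8 ze17) (ke xe32 ye22 ze39) (ke xe22 ye9 ze42) (ke xe24 ye5 ze2) (ke xe30 ye16 ze42) (ke xe30 ye32 ze43) (ke xe22 ye8 ze38) (ke xe22 ye8 ze53) (ke xe24 ye29 ze21) (ke xe23 ye43 ze29) (ke xe25 ye45 ze47) (ke xe25 ye38 ze5) (ke xe22 ye9 ze4) (ke xe22 ye9 ze7) (ke xe31 ye55 ze58) (ke xe26 ye0 ze30) (ke xe22 ye9 ze13) (ke xe22 ye9 ze17) (ke xe22 ye57 ze22) (ke xe22 ye9 ze18) (ke xe23 ye55 ze11) (ke xe31 ye36 ze42) (ke xe30 ye14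 ze15) (ke xe25 ye4 ze50) (ke xe22 ye9 ze30) (ke xe24 ye16 ze50) (ke xe22 ye9 ze34) (ke xe29 ye57 ze8) (ke xe31 ye49 ze4)) (@D3.rec (fun _ => Pt) (ke xe25 ye28 ze17) (ke xe30 ye18 ze46) (ke xe28 ye58 ze55) (ke xe25 ye25 ze53) (ke xe22 ye9 ze50) (ke xe22 ye9 ze51) (ke xe22 ye10 ze8) (ke xe25 ye45 ze3) (ke xe23 ye44 ze25) (ke xe26 ye7 ze11) (ke xe30 ye2 ze33) (ke xe22 ye45 ze54) (ke xe26 ye0 ze12) (ke xe22 ye10 ze19) (ke xe25 ye38 ze6) (ke xe25 ye40 ze9) (ke xe22 ye10 ze28) (ke xe25 ye15 ze34) (ke xe24 ye55 ze14) (ke xe24 ye24 ze6) (ke xe22 ye10 ze39) (ke xe25 ye4 ze41) (ke xe22 ye10 ze60) (ke xe31 ye31 ze3) (ke xe26 ye34 ze40) (ke xe32 ye8 ze60) (ke xe22 ye11 ze40) (ke xe22 ye11 ze45) (ke xe31 ye7 ze22) (ke xe22 ye11 ze49) (ke xe22 ye11 ze50) (ke xe22 ye11 ze57) (ke xe22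 ye11 ze59) (ke xe24 ye10 ze42) (ke xe31 ye57 ze39) (ke xe22 ye12 ze13) (ke xe23 ye15 ze28) (ke xe27 ye44 ze38) (ke xe30 ye2 ze17) (ke xe30 ye12 ze47) (ke xe32 ye9 ze48) (ke xe22 ye12 ze22) (ke xe22 ye12 ze33) (ke xe32 ye18 ze26) (ke xe22 ye12 ze31) (ke xe32 ye16 ze59) (ke xe22 ye12 ze32) (ke xe24 ye6 ze6) (ke xe32 ye35 ze53) (ke xe32 ye37 ze0) (ke xe22 ye12 ze40) (ke xe30 ye55 ze40) (ke xe32 ye20 ze49) (ke xe32 ye40 ze31) (ke xe30 ye30 ze44) (ke xe24 ye6 ze45) (ke xe22 ye34 ze11) (ke xe32 ye40 ze5) (ke xe28 ye45 ze3) (ke xe22 ye24 ze18) (ke xe29 ye36 ze34) (ke xe29 ye37 ze5)) (@D3.rec (fun _ => Pt) (ke xe31 ye55 ze17) (ke xe27 ye52 ze55) (ke xe27 ye54 ze50) (ke xe26 ye24 ze10) (ke xe28 ye23 ze38) (ke xe22 ye17 ze10) (ke xe29 ye38 ze21) (ke xe22 ye12 ze56) (ke xe29 ye31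 ze0) (ke xe22 ye17 ze17) (ke xe24 ye59 ze61) (ke xe30 ye27 ze32) (ke xe22 ye12 ze61) (ke xe22 ye13 ze1) (ke xe32 ye51 ze40) (ke xe22 ye13 ze2) (ke xe32 ye40 ze27) (ke xe22 ye13 ze6) (ke xe23 ye48 ze32) (ke xe22 ye33 ze21) (ke xe22 ye13 ze56) (ke xe32 ye45 ze11) (ke xe22 ye13 ze12) (ke xe25 ye20 ze60) (ke xe22 ye13 ze14) (ke xe32 ye4 ze24) (ke xe22 ye13 ze15) (ke xe32 ye51 ze44) (ke xe22 ye13 ze17) (ke xe32 ye44 ze58) (ke xe32 ye4 ze19) (ke xe22 ye13 ze18) (ke xe31 ye52 ze23) (ke xe32 ye51 ze45) (ke xe32 ye51 ze47) (ke xe30 ye0 ze1) (ke xe22 ye13 ze19) (ke xe29 ye8 ze2) (ke xe32 ye9 ze7) (ke xe24 ye5 ze8) (ke xe32 ye35 ze58) (ke xe22 ye13 ze22) (ke xe28 ye16 ze25) (ke xe32 ye44 ze61) (ke xe31 ye52 ze26) (ke xe32 ye35 ze61) (ke xe32 ye20 ze50) (ke xe22 ye13 ze27) (ke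 xe23 ye59 ze20) (ke xe23 ye48 ze59) (ke xe32 ye20 ze40) (ke xe32 ye0 ze59) (ke xe29 ye48 ze19) (ke xe27 ye13 ze6) (ke xe32 ye51 ze53) (ke xe22 ye13 ze40) (ke xe25 ye18 ze4) (ke xe31 ye19 ze56) (ke xe32 ye51 ze57) (ke xe22 ye13 ze41) (ke xe31 ye29 ze56) (ke xe32 ye32 ze58)) (@D3.rec (fun _ => Pt) (ke xe22 ye13 ze44) (ke xe32 ye37 ze5) (ke xe32 ye51 ze41) (ke xe32 ye8 ze54) (ke xe32 ye46 ze25) (ke xe29 ye8 ze48) (ke xe22 ye13 ze48) (ke xe22 ye13 ze49) (ke xe28 ye51 ze60) (ke xe32 ye46 ze21) (ke xe32 ye51 ze14) (ke xe30 ye18 ze34) (ke xe22 ye13 ze51) (ke xe32 ye31 ze58) (ke xe31 ye13 ze34) (ke xe22 ye26 ze22) (ke xe22 ye26 ze32) (ke xe32 ye40 ze3) (ke xe30 ye38 ze19) (ke xe30 ye46 ze43) (ke xe22 ye50 ze41) (ke xe32 ye46 ze43) (ke xe22 ye13 ze54) (ke xe23 ye52 ze43) (ke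 xe22 ye33 ze17) (ke xe30 ye23 ze42) (ke xe22 ye26 ze11) (ke xe32 ye52 ze10) (ke xe29 ye38 ze16) (ke xe22 ye13 ze57) (ke xe22 ye13 ze58) (ke xe22 ye14 ze0) (ke xe22 ye14 ze2) (ke xe28 ye37 ze51) (ke xe32 ye33 ze0) (ke xe22 ye14 ze7) (ke xe28 ye51 ze54) (ke xe22 ye14 ze9) (ke xe30 ye37 ze26) (ke xe22 ye14 ze10) (ke xe29 ye36 ze51) (ke xe29 ye8 ze39) (ke xe29 ye8 ze42) (ke xe30 ye9 ze10) (ke xe29 ye19 ze40) (ke xe29 ye35 ze53) (ke xe32 ye36 ze52) (ke xe22 ye14 ze15) (ke xe22 ye18 ze39) (ke xe24 ye44 ze22) (ke xe28 ye29 ze18) (ke xe29 ye8 ze14) (ke xe22 ye14 ze18) (ke xe28 ye37 ze22) (ke xe22 ye16 ze61) (ke xe24 ye6 ze42) (ke xe31 ye15 ze4) (ke xe28 ye32 ze58) (ke xe22 ye14 ze24) (ke xe30 ye18 ze39) (ke xe32 ye16 ze45) (ke xe30 ye49 ze42)) (@D3.rec (fun _ => Pt) (ke xe22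 ye14 ze29) (ke xe29 ye36 ze46) (ke xe30 ye52 ze3) (ke xe32 ye4 ze16) (ke xe29 ye9 ze9) (ke xe22 ye54 ze5) (ke xe25 ye25 ze25) (ke xe32 ye38 ze45) (ke xe29 ye3 ze4) (ke xe23 ye2 ze18) (ke xe22 ye14 ze60) (ke xe31 ye16 ze7) (ke xe24 ye21 ze27) (ke xe22 ye15 ze6) (ke xe27 ye28 ze22) (ke xe32 ye6 ze49) (ke xe25 ye45 ze21) (ke xe27 ye27 ze42) (ke xe32 ye26 ze41) (ke xe27 ye47 ze43) (ke xe31 ye38 ze50) (ke xe27 ye31 ze46) (ke xe32 ye7 ze17) (ke xe25 ye0 ze14) (ke xe22 ye15 ze38) (ke xe30 ye1 ze21) (ke xe25 ye1 ze5) (ke xe28 ye4 ze9) (ke xe32 ye29 ze11) (ke xe26 ye39 ze20) (ke xe31 ye44 ze45) (ke xe22 ye15 ze43) (ke xe22 ye44 ze42) (ke xe30 ye25 ze58) (ke xe22 ye41 ze36) (ke xe32 ye52 ze12) (ke xe24 ye30 ze3) (ke xe22 ye15 ze58) (ke xe22 ye15 ze60) (ke xe22 ye15 ze61) (ke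 xe22 ye58 ze11) (ke xe22 ye16 ze1) (ke xe30 ye22 ze25) (ke xe31 ye22 ze15) (ke xe22 ye16 ze6) (ke xe29 ye36 ze58) (ke xe22 ye39 ze46) (ke xe22 ye16 ze9) (ke xe31 ye18 ze46) (ke xe22 ye16 ze15) (ke xe32 ye16 ze46) (ke xe29 ye26 ze4) (ke xe28 ye23 ze21) (ke xe22 ye16 ze21) (ke xe29 ye42 ze18) (ke xe22 ye16 ze23) (ke xe25 ye36 ze11) (ke xe28 ye38 ze26) (ke xe22 ye16 ze30) (ke xe22 ye19 ze60) (ke xe22 ye16 ze34) (ke xe32 ye52 ze16)) (@D3.rec (fun _ => Pt) (ke xe22 ye16 ze38) (ke xe22 ye20 ze35) (ke xe22 ye16 ze43) (ke xe22 ye47 ze26) (ke xe22 ye17 ze21) (ke xe28 ye34 ze37) (ke xe22 ye27 ze40) (ke xe23 ye46 ze17) (ke xe22 ye16 ze57) (ke xe22 ye16 ze58) (ke xe31 ye6 ze45) (ke xe22 ye22 ze46) (ke xe30 ye27 ze55) (ke xe27 ye54 ze54) (ke xe26 ye38 ze17) (ke xe29 ye7 ze61) (ke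 xe31 ye18 ze32) (ke xe32 ye42 ze39) (ke xe27 ye9 ze46) (ke xe27 ye23 ze55) (ke xe27 ye43 ze2) (ke xe24 ye57 ze6) (ke xe26 ye21 ze47) (ke xe28 ye34 ze45) (ke xe26 ye27 ze32) (ke xe31 ye16 ze22) (ke xe25 ye2 ze8) (ke xe26 ye23 ze46) (ke xe25 ye33 ze5) (ke xe26 ye23 ze61) (ke xe26 ye31 ze14) (ke xe30 ye38 ze20) (ke xe28 ye26 ze37) (ke xe22 ye17 ze32) (ke xe29 ye29 ze0) (ke xe28 ye45 ze52) (ke xe23 ye49 ze2) (ke xe22 ye55 ze24) (ke xe26 ye55 ze31) (ke xe22 ye17 ze43) (ke xe22 ye17 ze45) (ke xe32 ye3 ze20) (ke xe25 ye42 ze30) (ke xe32 ye30 ze26) (ke xe32 ye36 ze10) (ke xe29 ye20 ze38) (ke xe22 ye18 ze2) (ke xe22 ye18 ze6) (ke xe31 ye59 ze45) (ke xe28 ye5 ze12) (ke xe31 ye14 ze50) (ke xe27 ye33 ze10) (ke xe32 ye44 ze3) (ke xe26 ye30 ze39) (ke xe24 ye53 ze6) (ke xe22 ye18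 ze16) (ke xe28 ye44 ze55) (ke xe28 ye1 ze54) (ke xe30 ye44 ze24) (ke xe32 ye23 ze25) (ke xe23 ye7 ze27) (ke xe22 ye18 ze29)) (@D3.rec (fun _ => Pt) (ke xe23 ye43 ze48) (ke xe25 ye18 ze26) (ke xe22 ye29 ze12) (ke xe28 ye28 ze29) (ke xe25 ye1 ze10) (ke xe28 ye53 ze8) (ke xe24 ye55 ze38) (ke xe22 ye18 ze55) (ke xe22 ye18 ze57) (ke xe32 ye21 ze30) (ke xe30 ye36 ze33) (ke xe22 ye35 ze14) (ke xe23 ye5 ze42) (ke xe23 ye5 ze43) (ke xe26 ye14 ze3) (ke xe31 ye17 ze57) (ke xe31 ye39 ze9) (ke xe22 ye19 ze1) (ke xe32 ye21 ze16) (ke xe22 ye19 ze3) (ke xe22 ye19 ze5) (ke xe22 ye19 ze7) (ke xe29 ye27 ze50) (ke xe32 ye44 ze21) (ke xe22 ye19 ze9) (ke xe22 ye51 ze39) (ke xe22 ye19 ze13) (ke xe29 ye40 ze5) (ke xe22 ye19 ze15) (ke xe23 ye49 ze12) (ke xe32 ye20 ze0) (ke xe32 ye45 ze37) (ke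 xe29 ye7 ze32) (ke xe22 ye19 ze18) (ke xe24 ye1 ze7) (ke xe23 ye46 ze2) (ke xe24 ye18 ze15) (ke xe25 ye40 ze47) (ke xe27 ye47 ze8) (ke xe22 ye19 ze24) (ke xe22 ye19 ze26) (ke xe29 ye40 ze29) (ke xe32 ye22 ze16) (ke xe27 ye16 ze24) (ke xe30 ye29 ze22) (ke xe27 ye16 ze8) (ke xe22 ye19 ze31) (ke xe28 ye18 ze29) (ke xe22 ye19 ze32) (ke xe25 ye32 ze32) (ke xe27 ye15 ze61) (ke xe28 ye16 ze13) (ke xe29 ye25 ze54) (ke xe28 ye48 ze59) (ke xe32 ye35 ze14) (ke xe28 ye18 ze10) (ke xe27 ye17 ze7) (ke xe29 ye40 ze44) (ke xe30 ye23 ze33) (ke xe24 ye21 ze45) (ke xe22 ye19 ze43) (ke xe22 ye19 ze44)) (@D3.rec (fun _ => Pt) (ke xe32 ye44 ze2) (ke xe22 ye19 ze46) (ke xe26 ye59 ze58) (ke xe26 ye36 ze35) (ke xe26 ye52 ze3) (ke xe31 ye29 ze42) (ke xe31 ye13 ze12) (ke xe29 ye47 ze42) (ke xe30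 ye1 ze42) (ke xe27 ye29 ze27) (ke xe24 ye25 ze24) (ke xe28 ye52 ze11) (ke xe22 ye19 ze61) (ke xe23 ye57 ze49) (ke xe31 ye59 ze36) (ke xe25 ye46 ze58) (ke xe28 ye35 ze51) (ke xe28 ye35 ze49) (ke xe22 ye20 ze10) (ke xe28 ye36 ze33) (ke xe24 ye13 ze19) (ke xe28 ye46 ze36) (ke xe22 ye20 ze13) (ke xe32 ye52 ze24) (ke xe22 ye20 ze14) (ke xe24 ye38 ze40) (ke xe22 ye20 ze24) (ke xe27 ye21 ze26) (ke xe25 ye11 ze34) (ke xe22 ye20 ze61) (ke xe25 ye35 ze6) (ke xe22 ye20 ze33) (ke xe31 ye30 ze13) (ke xe22 ye20 ze34) (ke xe29 ye21 ze38) (ke xe23 ye0 ze32) (ke xe22 ye20 ze36) (ke xe22 ye35 ze57) (ke xe28 ye53 ze18) (ke xe26 ye22 ze19) (ke xe25 ye33 ze23) (ke xe22 ye20 ze44) (ke xe24 ye6 ze54) (ke xe22 ye20 ze48) (ke xe32 ye52 ze27) (ke xe30 ye43 ze58) (ke xe28 ye23 ze12) (ke xe22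 ye54 ze17) (ke xe25 ye25 ze4) (ke xe28 ye26 ze32) (ke xe24 ye8 ze50) (ke xe22 ye20 ze60) (ke xe28 ye34 ze33) (ke xe25 ye25 ze0) (ke xe26 ye45 ze14) (ke xe22 ye21 ze3) (ke xe24 ye11 ze58) (ke xe29 ye40 ze53) (ke xe22 ye21 ze15) (ke xe31 ye55 ze61) (ke xe26 ye53 ze26) (ke xe22 ye21 ze16)) (@D3.rec (fun _ => Pt) (ke xe22 ye21 ze24) (ke xe31 ye34 ze27) (ke xe22 ye21 ze39) (ke xe22 ye21 ze32) (ke xe29 ye13 ze33) (ke xe25 ye47 ze49) (ke xe32 ye17 ze28) (ke xe22 ye21 ze34) (ke xe30 ye28 ze8) (ke xe31 ye21 ze60) (ke xe32 ye43 ze43) (ke xe22 ye21 ze37) (ke xe25 ye37 ze36) (ke xe31 ye39 ze37) (ke xe31 ye52 ze34) (ke xe22 ye21 ze40) (ke xe32 ye52 ze28) (ke xe22 ye21 ze46) (ke xe27 ye21 ze4) (ke xe22 ye21 ze56) (ke xe29 ye1 ze14) (ke xe31 ye20 ze16) (ke xe29 ye1 ze47) (ke xe28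 ye11 ze22) (ke xe31 ye28 ze44) (ke xe30 ye28 ze37) (ke xe22 ye22 ze7) (ke xe29 ye2 ze52) (ke xe27 ye11 ze57) (ke xe28 ye45 ze50) (ke xe27 ye9 ze20) (ke xe26 ye56 ze6) (ke xe30 ye21 ze11) (ke xe31 ye39 ze34) (ke xe27 ye9 ze35) (ke xe32 ye15 ze42) (ke xe32 ye1 ze14) (ke xe22 ye22 ze45) (ke xe22 ye22 ze50) (ke xe23 ye0 ze52) (ke xe22 ye22 ze54) (ke xe25 ye8 ze29) (ke xe31 ye46 ze40) (ke xe22 ye46 ze46) (ke xe22 ye48 ze46) (ke xe26 ye24 ze43) (ke xe32 ye15 ze39) (ke xe30 ye15 ze50) (ke xe29 ye33 ze18) (ke xe28 ye29 ze47) (ke xe23 ye46 ze7) (ke xe28 ye47 ze37) (ke xe31 ye43 ze17) (ke xe22 ye59 ze56) (ke xe30 ye36 ze44) (ke xe30 ye24 ze12) (ke xe22 ye23 ze24) (ke xe26 ye26 ze16) (ke xe28 ye41 ze40) (ke xe26 ye19 ze10) (ke xe22 ye23 ze38) (ke xe26 ye39 ze56)) (@D3.rec (fun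 _ => Pt) (ke xe22 ye23 ze39) (ke xe27 ye0 ze35) (ke xe22 ye25 ze35) (ke xe29 ye32 ze58) (ke xe22 ye25 ze38) (ke xe30 ye48 ze57) (ke xe24 ye25 ze35) (ke xe30 ye15 ze22) (ke xe30 ye27 ze8) (ke xe22 ye23 ze54) (ke xe32 ye52 ze30) (ke xe32 ye45 ze45) (ke xe30 ye52 ze55) (ke xe28 ye54 ze23) (ke xe27 ye14 ze46) (ke xe32 ye12 ze37) (ke xe24 ye25 ze45) (ke xe31 ye33 ze17) (ke xe26 ye36 ze22) (ke xe26 ye34 ze41) (ke xe32 ye45 ze41) (ke xe31 ye17 ze59) (ke xe32 ye37 ze26) (ke xe26 ye27 ze37) (ke xe32 ye33 ze2) (ke xe22 ye24 ze10) (ke xe30 ye6 ze54) (ke xe29 ye8 ze41) (ke xe31 ye50 ze48) (ke xe22 ye24 ze9) (ke xe25 ye21 ze6) (ke xe25 ye52 ze26) (ke xe32 ye46 ze32) (ke xe24 ye13 ze56) (ke xe22 ye26 ze41) (ke xe28 ye44 ze59) (ke xe31 ye22 ze31) (ke xe30 ye27 ze25) (ke xe31 ye15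 ze45) (ke xe22 ye24 ze17) (ke xe22 ye26 ze36) (ke xe28 ye45 ze0) (ke xe29 ye39 ze51) (ke xe26 ye56 ze28) (ke xe26 ye57 ze1) (ke xe29 ye52 ze42) (ke xe27 ye14 ze42) (ke xe27 ye14 ze43) (ke xe27 ye13 ze32) (ke xe28 ye38 ze60) (ke xe32 ye37 ze43) (ke xe32 ye24 ze7) (ke xe22 ye24 ze24) (ke xe32 ye19 ze0) (ke xe32 ye13 ze36) (ke xe22 ye24 ze28) (ke xe29 ye33 ze56) (ke xe22 ye24 ze30) (ke xe32 ye52 ze44) (ke xe31 ye20 ze42) (ke xe31 ye31 ze13) (ke xe22 ye24 ze35)) (@D3.rec (fun _ => Pt) (ke xe32 ye22 ze55) (ke xe32 ye50 ze60) (ke xe30 ye29 ze35) (ke xe22 ye24 ze38) (ke xe32 ye12 ze30) (ke xe32 ye18 ze60) (ke xe29 ye43 ze18) (ke xe30 ye9 ze38) (ke xe22 ye24 ze40) (ke xe28 ye48 ze53) (ke xe29 ye45 ze40) (ke xe32 ye0 ze52) (ke xe32 ye0 ze53) (ke xe32 ye17 ze11) (ke xe28 ye39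 ze40) (ke xe28 ye33 ze5) (ke xe32 ye16 ze48) (ke xe31 ye33 ze1) (ke xe31 ye51 ze50) (ke xe22 ye24 ze50) (ke xe27 ye7 ze31) (ke xe29 ye46 ze50) (ke xe30 ye25 ze44) (ke xe26 ye20 ze17) (ke xe28 ye48 ze60) (ke xe24 ye26 ze50) (ke xe30 ye29 ze40) (ke xe29 ye33 ze28) (ke xe22 ye25 ze6) (ke xe24 ye25 ze12) (ke xe30 ye55 ze35) (ke xe24 ye25 ze9) (ke xe30 ye9 ze9) (ke xe32 ye47 ze60) (ke xe22 ye25 ze19) (ke xe30 ye29 ze2) (ke xe32 ye52 ze51) (ke xe29 ye33 ze8) (ke xe22 ye25 ze20) (ke xe32 ye4 ze4) (ke xe30 ye29 ze26) (ke xe32 ye8 ze55) (ke xe22 ye25 ze27) (ke xe29 ye37 ze52) (ke xe22 ye25 ze29) (ke xe32 ye39 ze49) (ke xe29 ye25 ze55) (ke xe31 ye19 ze34) (ke xe28 ye39 ze5) (ke xe22 ye25 ze39) (ke xe22 ye25 ze40) (ke xe32 ye44 ze8) (ke xe30 ye39 ze6) (ke xe29 ye26 ze17) (ke xe22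 ye25 ze43) (ke xe23 ye56 ze54) (ke xe32 ye41 ze1) (ke xe31 ye38 ze58) (ke xe22 ye25 ze49) (ke xe28 ye18 ze26) (ke xe31 ye55 ze43) (ke xe27 ye59 ze6)) (@D3.rec (fun _ => Pt) (ke xe22 ye25 ze56) (ke xe31 ye19 ze38) (ke xe32 ye34 ze21) (ke xe32 ye44 ze7) (ke xe22 ye25 ze61) (ke xe24 ye39 ze26) (ke xe30 ye16 ze20) (ke xe22 ye26 ze5) (ke xe24 ye26 ze15) (ke xe22 ye26 ze10) (ke xe24 ye29 ze54) (ke xe22 ye26 ze12) (ke xe22 ye26 ze15) (ke xe24 ye24 ze31) (ke xe23 ye45 ze48) (ke xe22 ye26 ze20) (ke xe31 ye21 ze35) (ke xe24 ye26 ze33) (ke xe32 ye52 ze23) (ke xe30 ye55 ze50) (ke xe22 ye26 ze25) (ke xe26 ye58 ze51) (ke xe28 ye31 ze1) (ke xe32 ye33 ze17) (ke xe22 ye26 ze28) (ke xe28 ye34 ze26) (ke xe32 ye52 ze53) (ke xe22 ye26 ze31) (ke xe22 ye27 ze51) (ke xe32 ye11 ze59) (ke xe29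 ye38 ze15) (ke xe29 ye55 ze52) (ke xe31 ye33 ze26) (ke xe31 ye29 ze61) (ke xe32 ye52 ze56) (ke xe22 ye26 ze46) (ke xe23 ye24 ze5) (ke xe29 ye29 ze9) (ke xe24 ye57 ze15) (ke xe22 ye26 ze58) (ke xe30 ye31 ze19) (ke xe22 ye26 ze60) (ke xe28 ye26 ze47) (ke xe28 ye17 ze57) (ke xe30 ye20 ze54) (ke xe30 ye54 ze24) (ke xe22 ye27 ze0) (ke xe28 ye17 ze23) (ke xe22 ye27 ze1) (ke xe25 ye40 ze48) (ke xe25 ye42 ze12) (ke xe29 ye26 ze7) (ke xe22 ye27 ze37) (ke xe28 ye8 ze46) (ke xe29 ye33 ze57) (ke xe22 ye27 ze20) (ke xe27 ye59 ze37) (ke xe32 ye52 ze22) (ke xe22 ye27 ze23) (ke xe32 ye46 ze41) (ke xe30 ye48 ze59) (ke xe32 ye13 ze52)) (@D3.rec (fun _ => Pt) (ke xe22 ye27 ze25) (ke xe22 ye27 ze26) (ke xe28 ye54 ze31) (ke xe22 ye27 ze27) (ke xe32 ye52 ze33) (ke xe32 ye19 ze38) (ke xe32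 ye23 ze11) (ke xe32 ye52 ze35) (ke xe22 ye27 ze29) (ke xe32 ye50 ze58) (ke xe22 ye27 ze30) (ke xe22 ye27 ze34) (ke xe32 ye27 ze32) (ke xe32 ye17 ze15) (ke xe28 ye6 ze41) (ke xe26 ye30 ze51) (ke xe32 ye36 ze32) (ke xe32 ye11 ze60) (ke xe31 ye13 ze36) (ke xe30 ye30 ze40) (ke xe22 ye27 ze36) (ke xe31 ye29 ze15) (ke xe29 ye27 ze59) (ke xe31 ye7 ze1) (ke xe24 ye24 ze53) (ke xe23 ye45 ze58) (ke xe22 ye27 ze41) (ke xe24 ye30 ze36) (ke xe23 ye46 ze4) (ke xe32 ye53 ze2) (ke xe30 ye38 ze24) (ke xe22 ye27 ze49) (ke xe32 ye31 ze57) (ke xe22 ye27 ze50) (ke xe32 ye27 ze4) (ke xe23 ye16 ze9) (ke xe22 ye27 ze61) (ke xe30 ye58 ze31) (ke xe25 ye51 ze59) (ke xe32 ye8 ze41) (ke xe22 ye28 ze2) (ke xe29 ye24 ze23) (ke xe27 ye1 ze22) (ke xe23 ye37 ze9) (ke xe24 ye43 ze44) (ke xe22 ye45 ze59)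 (ke xe22 ye44 ze22) (ke xe30 ye40 ze33) (ke xe30 ye40 ze38) (ke xe30 ye11 ze24) (ke xe29 ye59 ze23) (ke xe31 ye38 ze28) (ke xe28 ye27 ze4) (ke xe27 ye31 ze60) (ke xe25 ye22 ze49) (ke xe31 ye14 ze39) (ke xe25 ye1 ze1) (ke xe25 ye2 ze15) (ke xe22 ye29 ze18) (ke xe27 ye33 ze18) (ke xe29 ye19 ze45) (ke xe23 ye14 ze39)) (@D3.rec (fun _ => Pt) (ke xe23 ye55 ze26) (ke xe31 ye59 ze31) (ke xe32 ye44 ze59) (ke xe22 ye29 ze37) (ke xe23 ye7 ze48) (ke xe23 ye17 ze47) (ke xe23 ye17 ze49) (ke xe22 ye29 ze39) (ke xe28 ye12 ze34) (ke xe27 ye55 ze45) (ke xe22 ye29 ze44) (ke xe25 ye49 ze20) (ke xe23 ye33 ze51) (ke xe26 ye53 ze50) (ke xe22 ye29 ze47) (ke xe32 ye53 ze6) (ke xe22 ye29 ze50) (ke xe32 ye53 ze7) (ke xe22 ye29 ze52) (ke xe23 ye48 ze20) (ke xe31 ye37 ze13) (ke xe22 ye41 ze47)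 (ke xe22 ye29 ze55) (ke xe22 ye29 ze56) (ke xe22 ye59 ze22) (ke xe22 ye39 ze34) (ke xe22 ye40 ze1) (ke xe32 ye52 ze14) (ke xe32 ye15 ze1) (ke xe22 ye29 ze60) (ke xe30 ye37 ze57) (ke xe22 ye30 ze1) (ke xe22 ye58 ze9) (ke xe22 ye41 ze42) (ke xe22 ye30 ze7) (ke xe31 ye58 ze43) (ke xe22 ye30 ze8) (ke xe23 ye31 ze29) (ke xe24 ye31 ze0) (ke xe25 ye59 ze31) (ke xe27 ye45 ze4) (ke xe23 ye33 ze42) (ke xe31 ye2 ze32) (ke xe30 ye19 ze38) (ke xe22 ye30 ze31) (ke xe25 ye14 ze41) (ke xe31 ye59 ze0) (ke xe22 ye30 ze39) (ke xe26 ye21 ze46) (ke xe28 ye43 ze54) (ke xe31 ye37 ze11) (ke xe27 ye56 ze45) (ke xe23 ye18 ze11) (ke xe29 ye21 ze60) (ke xe27 ye58 ze47) (ke xe22 ye30 ze51) (ke xe25 ye59 ze14) (ke xe22 ye30 ze52) (ke xe30 ye54 ze49) (ke xe32 ye22 ze47) (ke xe31 ye46 ze22) (ke xe22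 ye31 ze0)) (@D3.rec (fun _ => Pt) (ke xe26 ye23 ze47) (ke xe30 ye55 ze28) (ke xe22 ye31 ze2) (ke xe30 ye53 ze32) (ke xe31 ye3 ze30) (ke xe22 ye31 ze3) (ke xe32 ye1 ze11) (ke xe27 ye15 ze4) (ke xe23 ye54 ze53) (ke xe26 ye47 ze48) (ke xe24 ye22 ze1) (ke xe32 ye53 ze12) (ke xe32 ye48 ze44) (ke xe22 ye31 ze13) (ke xe23 ye31 ze9) (ke xe26 ye7 ze9) (ke xe30 ye13 ze59) (ke xe32 ye48 ze58) (ke xe23 ye15 ze34) (ke xe32 ye48 ze49) (ke xe31 ye6 ze1) (ke xe26 ye10 ze12) (ke xe31 ye12 ze4) (ke xe25 ye38 ze0) (ke xe26 ye7 ze25) (ke xe23 ye40 ze57) (ke xe32 ye53 ze14) (ke xe26 ye7 ze37) (ke xe26 ye7 ze29) (ke xe22 ye31 ze30) (ke xe31 ye10 ze57) (ke xe30 ye12 ze59) (ke xe26 ye32 ze32) (ke xe31 ye9 ze45) (ke xe26 ye8 ze18) (ke xe23 ye40 ze9) (ke xe31 ye49 ze27) (ke xe22 ye31 ze35) (ke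 xe22 ye31 ze43) (ke xe31 ye39 ze6) (ke xe22 ye31 ze51) (ke xe23 ye37 ze30) (ke xe24 ye47 ze17) (ke xe22 ye31 ze54) (ke xe28 ye42 ze44) (ke xe23 ye29 ze0) (ke xe22 ye55 ze56) (ke xe29 ye50 ze40) (ke xe22 ye31 ze57) (ke xe23 ye32 ze30) (ke xe23 ye17 ze45) (ke xe22 ye56 ze2) (ke xe29 ye22 ze1) (ke xe22 ye56 ze3) (ke xe23 ye10 ze29) (ke xe29 ye21 ze35) (ke xe26 ye25 ze51) (ke xe22 ye32 ze3) (ke xe22 ye32 ze10) (ke xe23 ye43 ze49) (ke xe26 ye50 ze47) (ke xe22 ye32 ze25)) (@D3.rec (fun _ => Pt) (ke xe23 ye59 ze28) (ke xe22 ye32 ze33) (ke xe32 ye53 ze18) (ke xe23 ye16 ze50) (ke xe24 ye31 ze51) (ke xe24 ye0 ze25) (ke xe30 ye51 ze21) (ke xe24 ye5 ze21) (ke xe23 ye59 ze40) (ke xe22 ye41 ze19) (ke xe24 ye27 ze55) (ke xe26 ye5 ze36) (ke xe22 ye32 ze56) (ke xe32 ye31 ze10) (ke xe22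 ye41 ze28) (ke xe23 ye24 ze41) (ke xe22 ye41 ze7) (ke xe32 ye50 ze42) (ke xe32 ye40 ze35) (ke xe32 ye53 ze9) (ke xe31 ye20 ze9) (ke xe31 ye51 ze46) (ke xe22 ye33 ze12) (ke xe30 ye46 ze42) (ke xe32 ye53 ze20) (ke xe22 ye33 ze16) (ke xe32 ye1 ze6) (ke xe26 ye6 ze14) (ke xe28 ye38 ze47) (ke xe22 ye33 ze19) (ke xe30 ye49 ze60) (ke xe32 ye53 ze25) (ke xe31 ye20 ze10) (ke xe32 ye39 ze9) (ke xe30 ye35 ze44) (ke xe30 ye43 ze27) (ke xe22 ye50 ze45) (ke xe30 ye12 ze9) (ke xe24 ye26 ze14) (ke xe22 ye33 ze32) (ke xe23 ye55 ze20) (ke xe30 ye49 ze50) (ke xe22 ye33 ze58) (ke xe30 ye56 ze9) (ke xe23 ye54 ze23) (ke xe22 ye33 ze41) (ke xe23 ye54 ze18) (ke xe32 ye29 ze24) (ke xe31 ye23 ze3) (ke xe27 ye44 ze22) (ke xe32 ye26 ze56) (ke xe22 ye33 ze44) (ke xe23 ye54 ze35) (ke xe31 ye58 ze34)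 (ke xe29 ye57 ze15) (ke xe22 ye33 ze51) (ke xe32 ye1 ze37) (ke xe27 ye51 ze27) (ke xe23 ye29 ze30) (ke xe23 ye56 ze26) (ke xe22 ye34 ze3) (ke xe22 ye34 ze6)) (@D3.rec (fun _ => Pt) (ke xe30 ye52 ze40) (ke xe31 ye44 ze13) (ke xe23 ye15 ze13) (ke xe32 ye4 ze61) (ke xe32 ye39 ze52) (ke xe22 ye34 ze9) (ke xe27 ye10 ze17) (ke xe30 ye50 ze38) (ke xe23 ye14 ze45) (ke xe28 ye39 ze31) (ke xe23 ye32 ze32) (ke xe22 ye34 ze18) (ke xe25 ye23 ze53) (ke xe29 ye1 ze45) (ke xe32 ye7 ze19) (ke xe22 ye34 ze28) (ke xe30 ye59 ze54) (ke xe22 ye34 ze35) (ke xe31 ye8 ze20) (ke xe22 ye34 ze39) (ke xe32 ye46 ze34) (ke xe23 ye50 ze59) (ke xe27 ye48 ze46) (ke xe32 ye53 ze30) (ke xe22 ye34 ze47) (ke xe28 ye5 ze35) (ke xe32 ye31 ze18) (ke xe22 ye34 ze51) (ke xe30 ye44 ze51) (ke xe23 ye49 ze40) (ke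 xe23 ye50 ze38) (ke xe28 ye5 ze23) (ke xe32 ye5 ze60) (ke xe27 ye46 ze9) (ke xe23 ye50 ze46) (ke xe22 ye34 ze57) (ke xe31 ye18 ze7) (ke xe28 ye3 ze35) (ke xe22 ye34 ze60) (ke xe28 ye31 ze7) (ke xe23 ye51 ze43) (ke xe26 ye32 ze59) (ke xe23 ye51 ze50) (ke xe31 ye23 ze22) (ke xe30 ye34 ze34) (ke xe31 ye20 ze7) (ke xe22 ye41 ze38) (ke xe24 ye4 ze9) (ke xe22 ye35 ze6) (ke xe24 ye55 ze6) (ke xe22 ye35 ze7) (ke xe25 ye50 ze28) (ke xe31 ye7 ze10) (ke xe23 ye51 ze3) (ke xe30 ye4 ze32) (ke xe30 ye10 ze26) (ke xe22 ye35 ze25) (ke xe22 ye50 ze40) (ke xe31 ye15 ze15) (ke xe24 ye0 ze5) (ke xe22 ye35 ze31) (ke xe29 ye26 ze54)) (@D3.rec (fun _ => Pt) (ke xe30 ye10 ze17) (ke xe32 ye32 ze34) (ke xe31 ye27 ze50) (ke xe22 ye35 ze33) (ke xe28 ye14 ze6) (ke xe22 ye35 ze39) (ke xe22 ye35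 ze42) (ke xe29 ye30 ze54) (ke xe22 ye57 ze10) (ke xe31 ye33 ze40) (ke xe22 ye35 ze46) (ke xe24 ye6 ze51) (ke xe22 ye35 ze49) (ke xe28 ye33 ze28) (ke xe30 ye50 ze12) (ke xe24 ye22 ze57) (ke xe31 ye24 ze5) (ke xe32 ye53 ze37) (ke xe22 ye35 ze54) (ke xe22 ye35 ze55) (ke xe22 ye57 ze8) (ke xe26 ye49 ze17) (ke xe27 ye55 ze43) (ke xe22 ye35 ze60) (ke xe22 ye58 ze45) (ke xe30 ye50 ze37) (ke xe23 ye0 ze30) (ke xe23 ye0 ze38) (ke xe22 ye36 ze4) (ke xe22 ye36 ze6) (ke xe22 ye36 ze8) (ke xe22 ye36 ze10) (ke xe28 ye44 ze13) (ke xe30 ye25 ze10) (ke xe28 ye46 ze43) (ke xe32 ye3 ze41) (ke xe32 ye2 ze13) (ke xe22 ye36 ze32) (ke xe32 ye15 ze27) (ke xe22 ye36 ze34) (ke xe32 ye23 ze21) (ke xe22 ye36 ze35) (ke xe25 ye56 ze57) (ke xe22 ye36 ze37) (ke xe30 ye27 ze54) (ke xe31 ye57 ze6) (ke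 xe29 ye53 ze12) (ke xe24 ye35 ze1) (ke xe22 ye36 ze46) (ke xe22 ye36 ze48) (ke xe25 ye31 ze13) (ke xe22 ye37 ze8) (ke xe22 ye48 ze52) (ke xe22 ye37 ze18) (ke xe30 ye7 ze27) (ke xe29 ye39 ze39) (ke xe22 ye37 ze25) (ke xe22 ye37 ze26) (ke xe30 ye39 ze50) (ke xe22 ye37 ze28) (ke xe22 ye39 ze32) (ke xe24 ye40 ze40)) (@D3.rec (fun _ => Pt) (ke xe22 ye37 ze30) (ke xe29 ye35 ze25) (ke xe22 ye37 ze32) (ke xe22 ye39 ze55) (ke xe30 ye9 ze54) (ke xe22 ye37 ze41) (ke xe27 ye17 ze55) (ke xe30 ye56 ze2) (ke xe30 ye10 ze55) (ke xe22 ye53 ze36) (ke xe22 ye37 ze49) (ke xe30 ye10 ze51) (ke xe22 ye52 ze44) (ke xe22 ye48 ze12) (ke xe23 ye14 ze50) (ke xe22 ye40 ze41) (ke xe30 ye10 ze21) (ke xe23 ye30 ze31) (ke xe26 ye50 ze2) (ke xe27 ye41 ze11) (ke xe24 ye13 ze37) (ke xe22 ye38 ze4) (ke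 xe23 ye34 ze3) (ke xe31 ye37 ze51) (ke xe32 ye30 ze43) (ke xe23 ye30 ze53) (ke xe30 ye22 ze38) (ke xe22 ye38 ze21) (ke xe32 ye50 ze38) (ke xe23 ye48 ze6) (ke xe23 ye47 ze61) (ke xe26 ye50 ze36) (ke xe22 ye38 ze35) (ke xe30 ye47 ze29) (ke xe32 ye49 ze21) (ke xe31 ye12 ze21) (ke xe32 ye50 ze18) (ke xe28 ye30 ze43) (ke xe24 ye29 ze15) (ke xe24 ye29 ze17) (ke xe30 ye7 ze15) (ke xe24 ye24 ze52) (ke xe22 ye39 ze33) (ke xe32 ye53 ze44) (ke xe22 ye39 ze18) (ke xe31 ye13 ze14) (ke xe22 ye39 ze20) (ke xe32 ye41 ze15) (ke xe32 ye53 ze46) (ke xe28 ye53 ze21) (ke xe22 ye39 ze22) (ke xe31 ye15 ze18) (ke xe32 ye14 ze47) (ke xe22 ye39 ze24) (ke xe22 ye39 ze49) (ke xe32 ye52 ze15) (ke xe22 ye39 ze25) (ke xe30 ye32 ze30) (ke xe31 ye15 ze19) (ke xe24 ye2 ze3) (ke xe32 ye22 ze34) (ke xe22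 ye39 ze28)) (@D3.rec (fun _ => Pt) (ke xe31 ye28 ze8) (ke xe30 ye45 ze5) (ke xe31 ye15 ze21) (ke xe32 ye21 ze14) (ke xe22 ye39 ze36) (ke xe22 ye39 ze37) (ke xe31 ye23 ze9) (ke xe26 ye53 ze58) (ke xe29 ye42 ze48) (ke xe30 ye49 ze58) (ke xe24 ye57 ze24) (ke xe24 ye23 ze30) (ke xe32 ye49 ze59) (ke xe22 ye39 ze41) (ke xe31 ye18 ze16) (ke xe24 ye26 ze2) (ke xe28 ye38 ze57) (ke xe31 ye30 ze37) (ke xe29 ye35 ze16) (ke xe30 ye22 ze18) (ke xe30 ye24 ze31) (ke xe24 ye23 ze25) (ke xe24 ye20 ze59) (ke xe28 ye32 ze57) (ke xe30 ye31 ze30) (ke xe30 ye50 ze33) (ke xe32 ye41 ze39) (ke xe32 ye53 ze51) (ke xe22 ye39 ze53) (ke xe27 ye8 ze27) (ke xe30 ye50 ze45) (ke xe32 ye42 ze46) (ke xe27 ye13 ze29) (ke xe27 ye16 ze50) (ke xe22 ye39 ze59) (ke xe30 ye50 ze3) (ke xe30 ye50 ze42) (ke xe30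 ye50 ze0) (ke xe24 ye17 ze21) (ke xe27 ye13 ze30) (ke xe32 ye33 ze5) (ke xe29 ye48 ze21) (ke xe30 ye5 ze56) (ke xe30 ye5 ze53) (ke xe22 ye40 ze8) (ke xe27 ye7 ze16) (ke xe27 ye13 ze31) (ke xe29 ye34 ze42) (ke xe27 ye7 ze27) (ke xe22 ye40 ze23) (ke xe23 ye49 ze35) (ke xe30 ye56 ze61) (ke xe26 ye51 ze0) (ke xe22 ye40 ze35) (ke xe26 ye2 ze25) (ke xe23 ye35 ze14) (ke xe24 ye7 ze42) (ke xe24 ye23 ze48) (ke xe32 ye53 ze13) (ke xe24 ye23 ze51) (ke xe32 ye50 ze54) (ke xe26 ye50 ze57)) (@D3.rec (fun _ => Pt) (ke xe32 ye48 ze34) (ke xe30 ye12 ze4) (ke xe32 ye52 ze26) (ke xe22 ye40 ze46) (ke xe24 ye21 ze21) (ke xe31 ye12 ze52) (ke xe30 ye29 ze52) (ke xe30 ye53 ze8) (ke xe32 ye50 ze40) (ke xe23 ye20 ze22) (ke xe32 ye11 ze45) (ke xe31 ye33 ze0) (ke xe31 ye3 ze49) (ke xe26 ye43 ze8)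 (ke xe22 ye41 ze23) (ke xe32 ye15 ze29) (ke xe22 ye53 ze9) (ke xe28 ye41 ze25) (ke xe32 ye17 ze19) (ke xe28 ye47 ze40) (ke xe32 ye43 ze50) (ke xe22 ye41 ze27) (ke xe22 ye41 ze33) (ke xe30 ye5 ze6) (ke xe28 ye17 ze26) (ke xe27 ye16 ze57) (ke xe22 ye41 ze35) (ke xe24 ye1 ze57) (ke xe31 ye32 ze33) (ke xe23 ye51 ze35) (ke xe32 ye52 ze20) (ke xe32 ye53 ze55) (ke xe22 ye41 ze40) (ke xe22 ye41 ze41) (ke xe23 ye21 ze27) (ke xe29 ye18 ze32) (ke xe28 ye18 ze43) (ke xe28 ye10 ze42) (ke xe29 ye28 ze56) (ke xe23 ye48 ze41) (ke xe22 ye41 ze48) (ke xe31 ye22 ze55) (ke xe27 ye21 ze40) (ke xe31 ye24 ze4) (ke xe28 ye33 ze57) (ke xe32 ye16 ze55) (ke xe27 ye7 ze60) (ke xe22 ye41 ze51) (ke xe30 ye57 ze5) (ke xe30 ye8 ze14) (ke xe30 ye36 ze58) (ke xe22 ye57 ze2) (ke xe22 ye42 ze3) (ke xe26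 ye20 ze3) (ke xe23 ye32 ze24) (ke xe25 ye16 ze25) (ke xe28 ye13 ze29) (ke xe22 ye42 ze20) (ke xe23 ye9 ze6) (ke xe23 ye19 ze56) (ke xe24 ye47 ze42) (ke xe22 ye42 ze38)) (@D3.rec (fun _ => Pt) (ke xe25 ye20 ze38) (ke xe26 ye33 ze3) (ke xe32 ye46 ze33) (ke xe23 ye26 ze7) (ke xe22 ye43 ze7) (ke xe23 ye24 ze31) (ke xe23 ye26 ze49) (ke xe31 ye1 ze13) (ke xe32 ye53 ze4) (ke xe32 ye30 ze31) (ke xe28 ye10 ze34) (ke xe22 ye42 ze57) (ke xe32 ye53 ze59) (ke xe32 ye53 ze61) (ke xe22 ye42 ze58) (ke xe32 ye54 ze3) (ke xe22 ye42 ze59) (ke xe32 ye25 ze60) (ke xe32 ye50 ze53) (ke xe32 ye38 ze52) (ke xe30 ye45 ze26) (ke xe30 ye13 ze37) (ke xe22 ye43 ze0) (ke xe22 ye43 ze3) (ke xe22 ye43 ze4) (ke xe22 ye43 ze6) (ke xe22 ye43 ze9) (ke xe31 ye2 ze24) (ke xe32 ye48 ze12) (ke xe23 ye29 ze7)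 (ke xe28 ye11 ze46) (ke xe23 ye29 ze29) (ke xe32 ye49 ze12) (ke xe30 ye31 ze47) (ke xe24 ye33 ze59) (ke xe22 ye43 ze16) (ke xe22 ye43 ze17) (ke xe30 ye41 ze54) (ke xe30 ye31 ze48) (ke xe23 ye32 ze17) (ke xe22 ye43 ze20) (ke xe22 ye43 ze44) (ke xe24 ye33 ze61) (ke xe25 ye40 ze17) (ke xe22 ye43 ze22) (ke xe30 ye41 ze58) (ke xe31 ye36 ze61) (ke xe22 ye43 ze26) (ke xe22 ye43 ze30) (ke xe23 ye39 ze12) (ke xe32 ye26 ze22) (ke xe22 ye43 ze32) (ke xe27 ye43 ze32) (ke xe30 ye42 ze19) (ke xe22 ye43 ze33) (ke xe29 ye58 ze28) (ke xe22 ye43 ze35) (ke xe28 ye11 ze49) (ke xe29 ye10 ze8) (ke xe26 ye22 ze46) (ke xe28 ye11 ze60) (ke xe23 ye28 ze60)) (@D3.rec (fun _ => Pt) (ke xe31 ye57 ze29) (ke xe31 ye5 ze4) (ke xe22 ye43 ze39) (ke xe23 ye39 ze50) (ke xe22 ye43 ze42) (ke xe30 ye42 ze12)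 (ke xe22 ye43 ze50) (ke xe31 ye36 ze26) (ke xe22 ye44 ze60) (ke xe23 ye33 ze15) (ke xe32 ye54 ze13) (ke xe22 ye44 ze5) (ke xe30 ye41 ze15) (ke xe30 ye0 ze43) (ke xe27 ye4 ze36) (ke xe30 ye41 ze12) (ke xe23 ye40 ze1) (ke xe32 ye32 ze47) (ke xe32 ye54 ze14) (ke xe29 ye14 ze8) (ke xe31 ye4 ze11) (ke xe32 ye50 ze36) (ke xe32 ye32 ze29) (ke xe27 ye56 ze30) (ke xe22 ye44 ze15) (ke xe32 ye54 ze16) (ke xe22 ye44 ze16) (ke xe32 ye30 ze6) (ke xe22 ye44 ze17) (ke xe32 ye54 ze18) (ke xe31 ye5 ze6) (ke xe32 ye54 ze19) (ke xe22 ye44 ze18) (ke xe31 ye11 ze56) (ke xe27 ye40 ze55) (ke xe30 ye0 ze50) (ke xe30 ye12 ze39) (ke xe32 ye16 ze17) (ke xe27 ye40 ze61) (ke xe32 ye39 ze11) (ke xe22 ye44 ze26) (ke xe29 ye49 ze41) (ke xe30 ye10 ze14) (ke xe29 ye11 ze59) (ke xe22 ye44 ze31) (ke xe30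 ye4 ze41) (ke xe31 ye49 ze36) (ke xe31 ye30 ze24) (ke xe30 ye0 ze23) (ke xe29 ye51 ze16) (ke xe23 ye42 ze24) (ke xe23 ye42 ze2) (ke xe31 ye11 ze33) (ke xe31 ye3 ze19) (ke xe30 ye40 ze37) (ke xe22 ye44 ze40) (ke xe32 ye28 ze0) (ke xe32 ye25 ze9) (ke xe30 ye40 ze45) (ke xe32 ye46 ze17) (ke xe22 ye44 ze45) (ke xe31 ye4 ze58)) (@D3.rec (fun _ => Pt) (ke xe28 ye49 ze31) (ke xe29 ye55 ze28) (ke xe23 ye41 ze61) (ke xe32 ye53 ze42) (ke xe24 ye38 ze29) (ke xe30 ye13 ze42) (ke xe23 ye28 ze11) (ke xe22 ye44 ze53) (ke xe31 ye11 ze50) (ke xe32 ye44 ze15) (ke xe22 ye44 ze54) (ke xe31 ye8 ze1) (ke xe30 ye41 ze5) (ke xe22 ye44 ze57) (ke xe25 ye39 ze10) (ke xe25 ye42 ze19) (ke xe22 ye45 ze2) (ke xe28 ye11 ze50) (ke xe22 ye45 ze3) (ke xe30 ye40 ze53) (ke xe30 ye0 ze25) (ke xe24 ye42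 ze35) (ke xe28 ye42 ze53) (ke xe23 ye41 ze37) (ke xe31 ye44 ze10) (ke xe22 ye45 ze27) (ke xe31 ye44 ze46) (ke xe30 ye13 ze48) (ke xe26 ye8 ze16) (ke xe29 ye11 ze24) (ke xe26 ye47 ze40) (ke xe23 ye1 ze59) (ke xe29 ye42 ze27) (ke xe22 ye45 ze43) (ke xe26 ye47 ze29) (ke xe22 ye45 ze51) (ke xe31 ye56 ze41) (ke xe30 ye13 ze13) (ke xe26 ye3 ze53) (ke xe32 ye26 ze23) (ke xe25 ye37 ze5) (ke xe22 ye46 ze2) (ke xe22 ye46 ze5) (ke xe22 ye46 ze6) (ke xe23 ye42 ze52) (ke xe26 ye7 ze20) (ke xe23 ye32 ze51) (ke xe23 ye32 ze48) (ke xe22 ye46 ze9) (ke xe29 ye29 ze51) (ke xe32 ye9 ze20) (ke xe28 ye45 ze38) (ke xe24 ye5 ze9) (ke xe31 ye19 ze26) (ke xe26 ye27 ze54) (ke xe24 ye21 ze24) (ke xe24 ye29 ze60) (ke xe31 ye30 ze34) (ke xe31 ye16 ze19) (ke xe31 ye29 ze24) (ke xe29 ye53 ze35) (ke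 xe24 ye1 ze17)) (@D3.rec (fun _ => Pt) (ke xe31 ye29 ze20) (ke xe22 ye47 ze6) (ke xe30 ye18 ze32) (ke xe26 ye49 ze13) (ke xe29 ye6 ze20) (ke xe31 ye6 ze6) (ke xe30 ye2 ze59) (ke xe30 ye52 ze51) (ke xe26 ye20 ze13) (ke xe30 ye53 ze20) (ke xe32 ye22 ze19) (ke xe22 ye47 ze36) (ke xe31 ye49 ze1) (ke xe22 ye47 ze44) (ke xe22 ye48 ze4) (ke xe22 ye52 ze45) (ke xe22 ye47 ze47) (ke xe23 ye8 ze22) (ke xe22 ye53 ze61) (ke xe25 ye25 ze51) (ke xe26 ye28 ze39) (ke xe31 ye22 ze29) (ke xe23 ye0 ze7) (ke xe25 ye18 ze42) (ke xe32 ye9 ze30) (ke xe28 ye33 ze12) (ke xe27 ye3 ze4) (ke xe30 ye34 ze35) (ke xe28 ye13 ze56) (ke xe22 ye54 ze20) (ke xe29 ye11 ze43) (ke xe31 ye39 ze13) (ke xe22 ye48 ze17) (ke xe28 ye59 ze16) (ke xe29 ye53 ze48) (ke xe22 ye48 ze20) (ke xe30 ye44 ze45) (ke xe26 ye22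 ze13) (ke xe31 ye16 ze1) (ke xe22 ye48 ze23) (ke xe27 ye15 ze49) (ke xe24 ye7 ze27) (ke xe29 ye18 ze52) (ke xe22 ye48 ze28) (ke xe22 ye59 ze47) (ke xe26 ye29 ze13) (ke xe25 ye3 ze52) (ke xe22 ye48 ze33) (ke xe31 ye36 ze41) (ke xe28 ye22 ze57) (ke xe29 ye54 ze59) (ke xe22 ye48 ze38) (ke xe24 ye9 ze9) (ke xe28 ye32 ze54) (ke xe31 ye35 ze43) (ke xe22 ye48 ze48) (ke xe22 ye59 ze16) (ke xe24 ye21 ze38) (ke xe30 ye26 ze45) (ke xe22 ye48 ze56) (ke xe30 ye45 ze45) (ke xe22 ye48 ze58)) (@D3.rec (fun _ => Pt) (ke xe32 ye33 ze54) (ke xe22 ye58 ze40) (ke xe22 ye58 ze18) (ke xe23 ye5 ze1) (ke xe29 ye30 ze28) (ke xe26 ye56 ze7) (ke xe22 ye49 ze16) (ke xe30 ye46 ze45) (ke xe29 ye31 ze44) (ke xe23 ye5 ze31) (ke xe22 ye49 ze21) (ke xe26 ye56 ze43) (ke xe30 ye45 ze38) (ke xe30 ye50 ze53)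 (ke xe28 ye50 ze0) (ke xe28 ye50 ze12) (ke xe26 ye51 ze7) (ke xe24 ye13 ze47) (ke xe24 ye13 ze49) (ke xe23 ye21 ze38) (ke xe25 ye3 ze15) (ke xe32 ye4 ze45) (ke xe26 ye30 ze23) (ke xe22 ye49 ze39) (ke xe30 ye24 ze58) (ke xe23 ye3 ze19) (ke xe32 ye25 ze29) (ke xe31 ye44 ze30) (ke xe22 ye49 ze43) (ke xe32 ye7 ze52) (ke xe26 ye30 ze44) (ke xe31 ye43 ze34) (ke xe31 ye44 ze33) (ke xe22 ye49 ze47) (ke xe31 ye15 ze5) (ke xe25 ye3 ze41) (ke xe31 ye42 ze56) (ke xe23 ye3 ze14) (ke xe30 ye58 ze58) (ke xe22 ye49 ze56) (ke xe27 ye35 ze5) (ke xe23 ye51 ze39) (ke xe32 ye27 ze38) (ke xe28 ye16 ze6) (ke xe26 ye52 ze50) (ke xe30 ye43 ze36) (ke xe32 ye54 ze30) (ke xe31 ye56 ze11) (ke xe22 ye50 ze15) (ke xe24 ye29 ze28) (ke xe28 ye25 ze34) (ke xe30 ye35 ze28) (ke xe22 ye50 ze17) (ke xe28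 ye21 ze26) (ke xe23 ye49 ze52) (ke xe22 ye50 ze22) (ke xe31 ye27 ze59) (ke xe29 ye41 ze3) (ke xe30 ye45 ze19) (ke xe30 ye5 ze37) (ke xe32 ye44 ze20) (ke xe32 ye54 ze32)) (@D3.rec (fun _ => Pt) (ke xe32 ye53 ze45) (ke xe22 ye50 ze25) (ke xe25 ye0 ze47) (ke xe28 ye56 ze11) (ke xe22 ye50 ze33) (ke xe30 ye38 ze1) (ke xe31 ye15 ze13) (ke xe32 ye53 ze35) (ke xe23 ye52 ze42) (ke xe30 ye49 ze37) (ke xe32 ye33 ze24) (ke xe31 ye13 ze24) (ke xe25 ye27 ze28) (ke xe27 ye14 ze55) (ke xe28 ye49 ze60) (ke xe22 ye57 ze11) (ke xe24 ye24 ze38) (ke xe26 ye32 ze11) (ke xe24 ye12 ze18) (ke xe30 ye44 ze58) (ke xe32 ye29 ze59) (ke xe22 ye50 ze55) (ke xe26 ye18 ze30) (ke xe29 ye25 ze6) (ke xe26 ye29 ze43) (ke xe22 ye50 ze57) (ke xe30 ye40 ze20) (ke xe28 ye47 ze12) (ke xe22 ye50 ze58) (ke xe24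 ye12 ze50) (ke xe24 ye48 ze16) (ke xe25 ye34 ze14) (ke xe22 ye50 ze60) (ke xe29 ye18 ze51) (ke xe32 ye51 ze35) (ke xe31 ye1 ze17) (ke xe22 ye56 ze34) (ke xe26 ye58 ze5) (ke xe30 ye44 ze12) (ke xe26 ye32 ze16) (ke xe28 ye28 ze38) (ke xe22 ye51 ze29) (ke xe28 ye27 ze46) (ke xe23 ye21 ze58) (ke xe22 ye51 ze32) (ke xe30 ye43 ze60) (ke xe27 ye45 ze58) (ke xe23 ye49 ze39) (ke xe25 ye23 ze51) (ke xe23 ye7 ze7) (ke xe22 ye51 ze46) (ke xe26 ye30 ze47) (ke xe29 ye42 ze17) (ke xe27 ye33 ze9) (ke xe22 ye51 ze50) (ke xe29 ye53 ze5) (ke xe31 ye38 ze18) (ke xe22 ye51 ze53) (ke xe22 ye51 ze54) (ke xe25 ye3 ze57) (ke xe27 ye50 ze28) (ke xe23 ye5 ze24)) (@D3.rec (fun _ => Pt) (ke xe23 ye34 ze12) (ke xe29 ye6 ze1) (ke xe22 ye52 ze10) (ke xe23 ye4 ze53) (ke xe22 ye52 ze13) (ke xe23 ye8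 ze16) (ke xe22 ye52 ze15) (ke xe23 ye7 ze60) (ke xe28 ye50 ze38) (ke xe28 ye37 ze28) (ke xe25 ye26 ze7) (ke xe28 ye42 ze3) (ke xe30 ye48 ze10) (ke xe28 ye43 ze51) (ke xe29 ye41 ze47) (ke xe22 ye52 ze33) (ke xe23 ye10 ze17) (ke xe25 ye35 ze39) (ke xe25 ye7 ze19) (ke xe25 ye11 ze44) (ke xe22 ye54 ze18) (ke xe27 ye14 ze15) (ke xe22 ye52 ze49) (ke xe22 ye52 ze52) (ke xe22 ye52 ze55) (ke xe23 ye12 ze15) (ke xe28 ye17 ze29) (ke xe25 ye16 ze12) (ke xe23 ye0 ze2) (ke xe28 ye22 ze34) (ke xe32 ye34 ze13) (ke xe22 ye57 ze48) (ke xe24 ye6 ze41) (ke xe29 ye29 ze30) (ke xe26 ye56 ze22) (ke xe32 ye40 ze59) (ke xe29 ye25 ze24) (ke xe27 ye8 ze15) (ke xe22 ye53 ze8) (ke xe24 ye23 ze45) (ke xe32 ye35 ze60) (ke xe32 ye0 ze35) (ke xe30 ye34 ze23) (ke xe30 ye22 ze19) (ke xe28 ye53 ze28)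 (ke xe30 ye44 ze7) (ke xe32 ye18 ze21) (ke xe27 ye5 ze40) (ke xe32 ye28 ze5) (ke xe24 ye35 ze29) (ke xe30 ye50 ze23) (ke xe31 ye28 ze4) (ke xe22 ye53 ze28) (ke xe27 ye15 ze33) (ke xe29 ye51 ze0) (ke xe30 ye55 ze36) (ke xe31 ye13 ze22) (ke xe31 ye0 ze8) (ke xe32 ye24 ze58) (ke xe22 ye53 ze40) (ke xe30 ye48 ze28) (ke xe23 ye7 ze46)) (@D3.rec (fun _ => Pt) (ke xe23 ye31 ze49) (ke xe32 ye50 ze21) (ke xe23 ye17 ze12) (ke xe23 ye16 ze5) (ke xe31 ye44 ze53) (ke xe22 ye53 ze47) (ke xe23 ye16 ze42) (ke xe29 ye11 ze36) (ke xe26 ye44 ze57) (ke xe22 ye53 ze55) (ke xe27 ye18 ze38) (ke xe28 ye50 ze48) (ke xe26 ye23 ze17) (ke xe22 ye53 ze60) (ke xe24 ye23 ze11) (ke xe25 ye57 ze4) (ke xe23 ye52 ze49) (ke xe22 ye54 ze4) (ke xe28 ye20 ze23) (ke xe30 ye53 ze49) (ke xe27 ye16 ze41) (ke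 xe29 ye55 ze42) (ke xe30 ye49 ze46) (ke xe32 ye15 ze3) (ke xe26 ye28 ze59) (ke xe28 ye20 ze16) (ke xe30 ye49 ze47) (ke xe22 ye54 ze23) (ke xe22 ye54 ze24) (ke xe30 ye37 ze33) (ke xe24 ye4 ze42) (ke xe22 ye54 ze36) (ke xe22 ye54 ze40) (ke xe22 ye54 ze41) (ke xe23 ye20 ze52) (ke xe22 ye54 ze44) (ke xe28 ye59 ze9) (ke xe32 ye38 ze50) (ke xe24 ye13 ze2) (ke xe22 ye54 ze46) (ke xe28 ye23 ze35) (ke xe27 ye22 ze31) (ke xe29 ye30 ze46) (ke xe22 ye59 ze60) (ke xe22 ye55 ze0) (ke xe22 ye56 ze50) (ke xe31 ye31 ze29) (ke xe27 ye24 ze30) (ke xe22 ye55 ze5) (ke xe22 ye55 ze6) (ke xe24 ye41 ze44) (ke xe27 ye40 ze34) (ke xe22 ye55 ze8) (ke xe22 ye55 ze9) (ke xe32 ye1 ze50) (ke xe22 ye55 ze10) (ke xe25 ye56 ze50) (ke xe22 ye55 ze17) (ke xe25 ye32 ze15) (ke xe30 ye19 ze15) (ke xe25 ye54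 ze10) (ke xe27 ye41 ze37)) (@D3.rec (fun _ => Pt) (ke xe22 ye55 ze32) (ke xe29 ye20 ze46) (ke xe31 ye36 ze50) (ke xe29 ye16 ze13) (ke xe27 ye53 ze15) (ke xe32 ye1 ze42) (ke xe22 ye55 ze42) (ke xe32 ye54 ze39) (ke xe26 ye31 ze13) (ke xe22 ye55 ze51) (ke xe30 ye46 ze12) (ke xe25 ye32 ze51) (ke xe22 ye55 ze59) (ke xe32 ye42 ze13) (ke xe30 ye18 ze22) (ke xe32 ye10 ze0) (ke xe24 ye59 ze46) (ke xe30 ye56 ze17) (ke xe31 ye50 ze24) (ke xe31 ye48 ze47) (ke xe30 ye59 ze50) (ke xe29 ye19 ze22) (ke xe22 ye56 ze4) (ke xe23 ye9 ze4) (ke xe23 ye16 ze7) (ke xe28 ye0 ze7) (ke xe30 ye57 ze37) (ke xe22 ye56 ze12) (ke xe30 ye46 ze60) (ke xe23 ye17 ze11) (ke xe28 ye2 ze59) (ke xe30 ye57 ze41) (ke xe23 ye15 ze22) (ke xe25 ye5 ze19) (ke xe31 ye13 ze9) (ke xe25 ye14 ze27) (ke xe23 ye48 ze35)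 (ke xe26 ye34 ze57) (ke xe22 ye56 ze22) (ke xe22 ye56 ze23) (ke xe32 ye30 ze53) (ke xe22 ye56 ze25) (ke xe32 ye23 ze61) (ke xe24 ye2 ze23) (ke xe24 ye3 ze32) (ke xe30 ye7 ze29) (ke xe25 ye30 ze55) (ke xe32 ye34 ze27) (ke xe22 ye56 ze36) (ke xe29 ye21 ze23) (ke xe22 ye56 ze39) (ke xe30 ye49 ze14) (ke xe29 ye47 ze0) (ke xe22 ye56 ze40) (ke xe25 ye32 ze27) (ke xe29 ye49 ze4) (ke xe22 ye56 ze43) (ke xe30 ye28 ze5) (ke xe28 ye53 ze4) (ke xe30 ye30 ze60) (ke xe32 ye27 ze5) (ke xe22 ye56 ze46)) (@D3.rec (fun _ => Pt) (ke xe31 ye55 ze6) (ke xe25 ye5 ze24) (ke xe31 ye53 ze7) (ke xe26 ye45 ze31) (ke xe29 ye3 ze11) (ke xe32 ye9 ze29) (ke xe22 ye56 ze60) (ke xe24 ye22 ze7) (ke xe32 ye8 ze11) (ke xe32 ye53 ze38) (ke xe23 ye33 ze32) (ke xe22 ye57 ze15) (ke xe28 ye49 ze3) (ke xe22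 ye57 ze16) (ke xe30 ye48 ze51) (ke xe24 ye22 ze58) (ke xe32 ye38 ze16) (ke xe31 ye13 ze7) (ke xe22 ye57 ze19) (ke xe25 ye35 ze25) (ke xe28 ye57 ze1) (ke xe24 ye12 ze60) (ke xe28 ye52 ze51) (ke xe22 ye57 ze31) (ke xe25 ye3 ze1) (ke xe31 ye25 ze25) (ke xe22 ye57 ze39) (ke xe22 ye57 ze44) (ke xe27 ye9 ze45) (ke xe28 ye20 ze54) (ke xe22 ye57 ze51) (ke xe22 ye57 ze52) (ke xe23 ye54 ze21) (ke xe30 ye56 ze10) (ke xe32 ye36 ze24) (ke xe22 ye57 ze54) (ke xe28 ye29 ze36) (ke xe30 ye45 ze9) (ke xe22 ye58 ze0) (ke xe22 ye58 ze1) (ke xe28 ye35 ze34) (ke xe30 ye15 ze9) (ke xe30 ye22 ze61) (ke xe32 ye53 ze52) (ke xe28 ye37 ze37) (ke xe29 ye35 ze44) (ke xe30 ye47 ze22) (ke xe30 ye47 ze26) (ke xe29 ye26 ze1) (ke xe27 ye53 ze20) (ke xe30 ye34 ze41) (ke xe31 ye31 ze57) (ke xe24 ye4 ze8)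 (ke xe24 ye54 ze39) (ke xe29 ye42 ze9) (ke xe29 ye32 ze0) (ke xe32 ye40 ze48) (ke xe22 ye58 ze8) (ke xe30 ye38 ze9) (ke xe32 ye17 ze36) (ke xe30 ye34 ze30) (ke xe22 ye58 ze12)) (@D3.rec (fun _ => Pt) (ke xe30 ye38 ze37) (ke xe22 ye58 ze15) (ke xe28 ye22 ze24) (ke xe30 ye38 ze35) (ke xe28 ye28 ze51) (ke xe32 ye32 ze50) (ke xe30 ye13 ze56) (ke xe22 ye58 ze23) (ke xe22 ye58 ze26) (ke xe27 ye49 ze23) (ke xe22 ye58 ze31) (ke xe25 ye25 ze6) (ke xe30 ye36 ze14) (ke xe22 ye58 ze34) (ke xe22 ye58 ze35) (ke xe24 ye21 ze22) (ke xe24 ye24 ze44) (ke xe23 ye55 ze40) (ke xe24 ye24 ze20) (ke xe23 ye46 ze6) (ke xe24 ye25 ze19) (ke xe24 ye39 ze5) (ke xe22 ye59 ze0) (ke xe30 ye46 ze50) (ke xe23 ye0 ze31) (ke xe22 ye59 ze5) (ke xe22 ye59 ze8) (ke xe32 ye22 ze26) (ke xe22 ye59 ze12) (ke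 xe25 ye56 ze34) (ke xe28 ye32 ze61) (ke xe28 ye43 ze29) (ke xe22 ye59 ze19) (ke xe30 ye38 ze25) (ke xe29 ye42 ze21) (ke xe22 ye59 ze18) (ke xe24 ye5 ze22) (ke xe30 ye36 ze25) (ke xe30 ye35 ze7) (ke xe22 ye59 ze21) (ke xe31 ye13 ze41) (ke xe23 ye0 ze29) (ke xe30 ye38 ze36) (ke xe22 ye59 ze28) (ke xe27 ye15 ze29) (ke xe30 ye38 ze30) (ke xe22 ye59 ze29) (ke xe32 ye22 ze21) (ke xe29 ye12 ze8) (ke xe28 ye56 ze24) (ke xe29 ye34 ze41) (ke xe22 ye59 ze38) (ke xe23 ye18 ze24) (ke xe30 ye44 ze13) (ke xe32 ye1 ze54) (ke xe32 ye24 ze37) (ke xe29 ye15 ze60) (ke xe22 ye59 ze51) (ke xe22 ye59 ze52) (ke xe27 ye41 ze51) (ke xe29 ye40 ze18) (ke xe24 ye18 ze59)) (@D3.rec (fun _ => Pt) (ke xe26 ye56 ze8) (ke xe24 ye59 ze15) (ke xe26 ye31 ze10) (ke xe23 ye8 ze9) (ke xe23 ye0 ze9) (ke xe23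 ye0 ze12) (ke xe23 ye11 ze25) (ke xe23 ye0 ze19) (ke xe27 ye15 ze9) (ke xe32 ye22 ze1) (ke xe23 ye0 ze25) (ke xe31 ye23 ze21) (ke xe32 ye8 ze31) (ke xe32 ye0 ze30) (ke xe28 ye34 ze20) (ke xe24 ye4 ze45) (ke xe23 ye0 ze39) (ke xe26 ye36 ze42) (ke xe23 ye0 ze41) (ke xe23 ye0 ze42) (ke xe23 ye0 ze44) (ke xe30 ye34 ze6) (ke xe28 ye58 ze53) (ke xe28 ye58 ze48) (ke xe23 ye0 ze57) (ke xe25 ye13 ze15) (ke xe30 ye51 ze43) (ke xe23 ye30 ze17) (ke xe24 ye38 ze59) (ke xe29 ye40 ze47) (ke xe23 ye1 ze13) (ke xe30 ye11 ze20) (ke xe27 ye12 ze59) (ke xe23 ye1 ze20) (ke xe32 ye36 ze47) (ke xe23 ye1 ze30) (ke xe32 ye50 ze32) (ke xe23 ye1 ze38) (ke xe26 ye24 ze15) (ke xe32 ye38 ze15) (ke xe32 ye2 ze57) (ke xe23 ye27 ze56) (ke xe27 ye17 ze49) (ke xe30 ye51 ze26) (ke xe31 ye54 ze55) (ke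 xe23 ye49 ze44) (ke xe27 ye13 ze9) (ke xe24 ye52 ze26) (ke xe27 ye26 ze10) (ke xe29 ye58 ze37) (ke xe25 ye37 ze20) (ke xe31 ye5 ze56) (ke xe23 ye21 ze12) (ke xe23 ye2 ze0) (ke xe23 ye42 ze38) (ke xe29 ye11 ze21) (ke xe23 ye44 ze20) (ke xe24 ye33 ze33) (ke xe31 ye44 ze56) (ke xe23 ye2 ze9) (ke xe23 ye43 ze18) (ke xe23 ye42 ze54)) (@D3.rec (fun _ => Pt) (ke xe31 ye11 ze10) (ke xe26 ye24 ze34) (ke xe29 ye38 ze3) (ke xe30 ye23 ze2) (ke xe32 ye29 ze48) (ke xe32 ye30 ze33) (ke xe32 ye44 ze24) (ke xe29 ye36 ze48) (ke xe31 ye5 ze11) (ke xe23 ye2 ze35) (ke xe31 ye4 ze50) (ke xe32 ye49 ze43) (ke xe32 ye52 ze59) (ke xe31 ye9 ze3) (ke xe29 ye58 ze33) (ke xe30 ye10 ze15) (ke xe23 ye41 ze55) (ke xe32 ye48 ze21) (ke xe32 ye50 ze45) (ke xe30 ye52 ze43) (ke xe32 ye4 ze60) (ke xe26 ye8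 ze37) (ke xe23 ye2 ze56) (ke xe27 ye56 ze44) (ke xe32 ye19 ze54) (ke xe23 ye3 ze1) (ke xe24 ye29 ze16) (ke xe30 ye58 ze40) (ke xe29 ye50 ze53) (ke xe23 ye20 ze14) (ke xe26 ye47 ze55) (ke xe32 ye48 ze22) (ke xe23 ye3 ze4) (ke xe30 ye10 ze24) (ke xe32 ye48 ze60) (ke xe29 ye13 ze51) (ke xe28 ye12 ze37) (ke xe29 ye58 ze29) (ke xe30 ye58 ze35) (ke xe31 ye0 ze38) (ke xe30 ye35 ze0) (ke xe27 ye4 ze41) (ke xe32 ye31 ze5) (ke xe30 ye52 ze19) (ke xe23 ye3 ze22) (ke xe23 ye3 ze28) (ke xe28 ye42 ze56) (ke xe31 ye5 ze5) (ke xe32 ye6 ze29) (ke xe23 ye29 ze40) (ke xe23 ye38 ze43) (ke xe30 ye43 ze7) (ke xe24 ye49 ze61) (ke xe24 ye51 ze13) (ke xe27 ye35 ze30) (ke xe30 ye28 ze12) (ke xe27 ye54 ze28) (ke xe24 ye28 ze9) (ke xe23 ye4 ze19) (ke xe29 ye32 ze6) (ke xe23 ye4 ze25) (ke xe23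 ye4 ze29)) (@D3.rec (fun _ => Pt) (ke xe31 ye59 ze56) (ke xe29 ye1 ze34) (ke xe27 ye15 ze3) (ke xe24 ye21 ze20) (ke xe24 ye24 ze37) (ke xe27 ye51 ze25) (ke xe32 ye34 ze14) (ke xe24 ye8 ze32) (ke xe30 ye39 ze7) (ke xe32 ye34 ze15) (ke xe24 ye25 ze20) (ke xe24 ye25 ze10) (ke xe23 ye4 ze43) (ke xe27 ye41 ze35) (ke xe31 ye32 ze43) (ke xe23 ye4 ze47) (ke xe23 ye19 ze7) (ke xe28 ye21 ze20) (ke xe23 ye4 ze51) (ke xe29 ye9 ze6) (ke xe30 ye43 ze9) (ke xe23 ye4 ze56) (ke xe25 ye8 ze28) (ke xe23 ye4 ze59) (ke xe23 ye8 ze50) (ke xe23 ye8 ze25) (ke xe23 ye5 ze6) (ke xe23 ye9 ze24) (ke xe31 ye33 ze52) (ke xe23 ye5 ze9) (ke xe24 ye47 ze10) (ke xe23 ye14 ze14) (ke xe30 ye33 ze3) (ke xe23 ye5 ze17) (ke xe23 ye5 ze18) (ke xe25 ye9 ze46) (ke xe28 ye54 ze3) (ke xe32 ye48 ze37) (ke xe23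 ye11 ze21) (ke xe31 ye47 ze12) (ke xe26 ye28 ze57) (ke xe32 ye2 ze0) (ke xe29 ye32 ze4) (ke xe23 ye10 ze36) (ke xe23 ye10 ze39) (ke xe23 ye55 ze43) (ke xe23 ye10 ze26) (ke xe32 ye4 ze11) (ke xe23 ye5 ze46) (ke xe30 ye47 ze19) (ke xe23 ye5 ze54) (ke xe26 ye56 ze35) (ke xe23 ye5 ze55) (ke xe24 ye6 ze20) (ke xe24 ye3 ze35) (ke xe28 ye13 ze43) (ke xe30 ye17 ze6) (ke xe25 ye43 ze8) (ke xe26 ye13 ze10) (ke xe28 ye28 ze6) (ke xe23 ye32 ze13) (ke xe23 ye57 ze30)) (@D3.rec (fun _ => Pt) (ke xe26 ye23 ze50) (ke xe31 ye43 ze15) (ke xe27 ye54 ze44) (ke xe28 ye46 ze23) (ke xe28 ye14 ze57) (ke xe29 ye30 ze31) (ke xe23 ye6 ze51) (ke xe27 ye26 ze27) (ke xe26 ye56 ze27) (ke xe32 ye51 ze33) (ke xe23 ye7 ze5) (ke xe28 ye0 ze50) (ke xe32 ye55 ze2) (ke xe32 ye19 ze37) (ke xe23 ye7 ze10)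 (ke xe31 ye50 ze3) (ke xe28 ye26 ze51) (ke xe29 ye7 ze8) (ke xe27 ye31 ze26) (ke xe23 ye7 ze25) (ke xe24 ye59 ze1) (ke xe27 ye21 ze14) (ke xe32 ye27 ze7) (ke xe30 ye11 ze1) (ke xe30 ye30 ze45) (ke xe29 ye39 ze34) (ke xe23 ye7 ze39) (ke xe31 ye11 ze29) (ke xe23 ye8 ze15) (ke xe23 ye7 ze49) (ke xe25 ye55 ze14) (ke xe32 ye48 ze32) (ke xe23 ye7 ze55) (ke xe23 ye7 ze56) (ke xe28 ye13 ze61) (ke xe23 ye8 ze2) (ke xe29 ye4 ze36) (ke xe26 ye28 ze61) (ke xe26 ye31 ze9) (ke xe29 ye19 ze26) (ke xe32 ye55 ze3) (ke xe29 ye30 ze37) (ke xe29 ye50 ze24) (ke xe31 ye35 ze10) (ke xe27 ye15 ze32) (ke xe32 ye2 ze25) (ke xe32 ye2 ze24) (ke xe31 ye16 ze26) (ke xe23 ye8 ze19) (ke xe30 ye32 ze58) (ke xe23 ye8 ze23) (ke xe29 ye3 ze30) (ke xe23 ye8 ze28) (ke xe23 ye54 ze30) (ke xe32 ye55 ze5)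 (ke xe23 ye8 ze31) (ke xe32 ye55 ze6) (ke xe23 ye8 ze35) (ke xe29 ye20 ze51) (ke xe31 ye54 ze13) (ke xe23 ye8 ze45) (ke xe25 ye34 ze57)) (@D3.rec (fun _ => Pt) (ke xe26 ye25 ze25) (ke xe31 ye48 ze51) (ke xe24 ye11 ze50) (ke xe31 ye36 ze59) (ke xe25 ye24 ze46) (ke xe23 ye9 ze2) (ke xe26 ye19 ze14) (ke xe26 ye28 ze51) (ke xe26 ye24 ze4) (ke xe23 ye9 ze19) (ke xe31 ye55 ze54) (ke xe23 ye9 ze25) (ke xe31 ye32 ze49) (ke xe23 ye16 ze43) (ke xe32 ye1 ze36) (ke xe23 ye16 ze44) (ke xe31 ye6 ze14) (ke xe23 ye16 ze29) (ke xe23 ye9 ze43) (ke xe30 ye11 ze15) (ke xe23 ye9 ze50) (ke xe32 ye1 ze23) (ke xe30 ye10 ze20) (ke xe23 ye9 ze52) (ke xe31 ye46 ze16) (ke xe28 ye50 ze8) (ke xe28 ye22 ze16) (ke xe23 ye9 ze59) (ke xe30 ye33 ze1) (ke xe24 ye4 ze43) (ke xe29 ye4 ze12) (ke xe24 ye9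 ze22) (ke xe23 ye10 ze6) (ke xe32 ye2 ze7) (ke xe23 ye10 ze15) (ke xe30 ye29 ze30) (ke xe30 ye46 ze55) (ke xe24 ye8 ze33) (ke xe25 ye28 ze2) (ke xe23 ye32 ze31) (ke xe30 ye20 ze51) (ke xe29 ye3 ze19) (ke xe29 ye28 ze15) (ke xe25 ye11 ze24) (ke xe23 ye10 ze40) (ke xe23 ye10 ze41) (ke xe29 ye29 ze48) (ke xe27 ye17 ze61) (ke xe30 ye57 ze45) (ke xe23 ye11 ze3) (ke xe30 ye30 ze19) (ke xe31 ye59 ze39) (ke xe32 ye14 ze57) (ke xe23 ye11 ze15) (ke xe31 ye3 ze35) (ke xe30 ye6 ze9) (ke xe31 ye5 ze48) (ke xe32 ye14 ze52) (ke xe32 ye34 ze7) (ke xe31 ye54 ze58) (ke xe23 ye11 ze24) (ke xe29 ye23 ze12)) (@D3.rec (fun _ => Pt) (ke xe24 ye11 ze12) (ke xe25 ye5 ze61) (ke xe30 ye37 ze7) (ke xe27 ye50 ze52) (ke xe32 ye46 ze59) (ke xe29 ye41 ze17) (ke xe23 ye11 ze33) (ke xe32 ye9 ze38) (ke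 xe23 ye11 ze35) (ke xe30 ye34 ze43) (ke xe30 ye49 ze33) (ke xe28 ye14 ze4) (ke xe32 ye45 ze3) (ke xe23 ye11 ze44) (ke xe23 ye11 ze50) (ke xe27 ye57 ze44) (ke xe25 ye25 ze60) (ke xe30 ye48 ze17) (ke xe32 ye49 ze27) (ke xe23 ye12 ze8) (ke xe23 ye12 ze9) (ke xe32 ye15 ze24) (ke xe24 ye5 ze50) (ke xe24 ye6 ze23) (ke xe25 ye29 ze28) (ke xe32 ye24 ze17) (ke xe32 ye40 ze9) (ke xe32 ye2 ze61) (ke xe32 ye54 ze46) (ke xe23 ye12 ze27) (ke xe23 ye55 ze31) (ke xe27 ye7 ze40) (ke xe32 ye54 ze35) (ke xe32 ye35 ze6) (ke xe28 ye59 ze25) (ke xe30 ye7 ze51) (ke xe24 ye20 ze28) (ke xe23 ye56 ze61) (ke xe26 ye9 ze12) (ke xe23 ye12 ze47) (ke xe31 ye23 ze46) (ke xe23 ye12 ze51) (ke xe28 ye29 ze24) (ke xe24 ye27 ze7) (ke xe24 ye24 ze47) (ke xe23 ye12 ze58) (ke xe28 ye44 ze29) (ke xe23 ye12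 ze59) (ke xe23 ye59 ze51) (ke xe23 ye13 ze4) (ke xe32 ye52 ze34) (ke xe26 ye39 ze26) (ke xe25 ye52 ze19) (ke xe32 ye55 ze8) (ke xe23 ye13 ze13) (ke xe23 ye13 ze15) (ke xe24 ye15 ze48) (ke xe29 ye45 ze44) (ke xe23 ye13 ze19) (ke xe31 ye53 ze34) (ke xe23 ye54 ze3) (ke xe30 ye38 ze51)) (@D3.rec (fun _ => Pt) (ke xe23 ye54 ze10) (ke xe32 ye34 ze16) (ke xe29 ye24 ze26) (ke xe28 ye26 ze58) (ke xe23 ye13 ze35) (ke xe30 ye39 ze48) (ke xe24 ye7 ze44) (ke xe28 ye11 ze34) (ke xe32 ye5 ze4) (ke xe31 ye1 ze36) (ke xe25 ye44 ze6) (ke xe23 ye14 ze21) (ke xe30 ye58 ze61) (ke xe28 ye10 ze40) (ke xe23 ye17 ze38) (ke xe28 ye10 ze47) (ke xe23 ye14 ze6) (ke xe23 ye15 ze0) (ke xe23 ye14 ze12) (ke xe23 ye15 ze3) (ke xe32 ye8 ze18) (ke xe23 ye17 ze0) (ke xe31 ye44 ze11) (ke xe28 ye43 ze20)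 (ke xe32 ye5 ze55) (ke xe31 ye2 ze47) (ke xe23 ye17 ze4) (ke xe30 ye59 ze10) (ke xe23 ye14 ze17) (ke xe23 ye15 ze25) (ke xe30 ye57 ze56) (ke xe31 ye7 ze52) (ke xe23 ye14 ze22) (ke xe31 ye33 ze54) (ke xe25 ye0 ze8) (ke xe23 ye14 ze26) (ke xe23 ye18 ze42) (ke xe30 ye48 ze26) (ke xe23 ye14 ze29) (ke xe32 ye55 ze12) (ke xe23 ye18 ze18) (ke xe30 ye48 ze31) (ke xe26 ye9 ze28) (ke xe23 ye18 ze23) (ke xe29 ye28 ze6) (ke xe30 ye55 ze48) (ke xe29 ye48 ze52) (ke xe23 ye17 ze24) (ke xe23 ye14 ze60) (ke xe27 ye57 ze41) (ke xe32 ye54 ze58) (ke xe30 ye58 ze54) (ke xe31 ye1 ze1) (ke xe23 ye16 ze39) (ke xe30 ye12 ze57) (ke xe30 ye59 ze59) (ke xe30 ye57 ze30) (ke xe23 ye15 ze7) (ke xe32 ye50 ze17) (ke xe32 ye31 ze25) (ke xe28 ye41 ze6) (ke xe23 ye15 ze9)) (@D3.rec (fun _ => Pt) (ke xe23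 ye15 ze10) (ke xe32 ye25 ze18) (ke xe30 ye7 ze20) (ke xe23 ye15 ze12) (ke xe32 ye6 ze40) (ke xe23 ye15 ze14) (ke xe23 ye16 ze60) (ke xe28 ye2 ze57) (ke xe23 ye17 ze3) (ke xe23 ye15 ze17) (ke xe30 ye59 ze57) (ke xe30 ye2 ze9) (ke xe23 ye18 ze44) (ke xe23 ye15 ze18) (ke xe23 ye17 ze6) (ke xe26 ye9 ze31) (ke xe23 ye15 ze23) (ke xe23 ye15 ze29) (ke xe23 ye15 ze31) (ke xe23 ye15 ze32) (ke xe31 ye39 ze2) (ke xe30 ye7 ze22) (ke xe30 ye59 ze9) (ke xe30 ye2 ze19) (ke xe30 ye2 ze20) (ke xe23 ye15 ze40) (ke xe24 ye31 ze9) (ke xe30 ye12 ze14) (ke xe23 ye18 ze48) (ke xe23 ye15 ze47) (ke xe29 ye18 ze61) (ke xe30 ye31 ze37) (ke xe30 ye4 ze48) (ke xe30 ye59 ze48) (ke xe23 ye15 ze56) (ke xe30 ye52 ze38) (ke xe31 ye44 ze51) (ke xe23 ye16 ze57) (ke xe32 ye0 ze54) (ke xe32 ye55 ze10) (ke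 xe30 ye52 ze27) (ke xe23 ye15 ze61) (ke xe23 ye45 ze15) (ke xe23 ye16 ze1) (ke xe28 ye43 ze47) (ke xe23 ye23 ze9) (ke xe23 ye17 ze27) (ke xe23 ye16 ze13) (ke xe23 ye16 ze20) (ke xe27 ye45 ze51) (ke xe23 ye16 ze24) (ke xe23 ye16 ze25) (ke xe32 ye55 ze13) (ke xe26 ye9 ze37) (ke xe30 ye57 ze51) (ke xe32 ye19 ze53) (ke xe23 ye16 ze30) (ke xe32 ye19 ze50) (ke xe30 ye44 ze38) (ke xe30 ye7 ze18) (ke xe23 ye16 ze40) (ke xe30 ye57 ze12)) (@D3.rec (fun _ => Pt) (ke xe31 ye32 ze51) (ke xe28 ye41 ze3) (ke xe23 ye16 ze46) (ke xe26 ye22 ze51) (ke xe30 ye2 ze4) (ke xe30 ye3 ze15) (ke xe32 ye54 ze59) (ke xe32 ye55 ze15) (ke xe23 ye17 ze1) (ke xe30 ye58 ze22) (ke xe30 ye57 ze27) (ke xe25 ye3 ze2) (ke xe25 ye3 ze4) (ke xe23 ye17 ze7) (ke xe23 ye17 ze8) (ke xe32 ye55 ze16) (ke xe30 ye59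 ze23) (ke xe28 ye2 ze53) (ke xe24 ye31 ze32) (ke xe23 ye17 ze13) (ke xe23 ye17 ze15) (ke xe30 ye1 ze55) (ke xe23 ye17 ze16) (ke xe30 ye59 ze16) (ke xe30 ye2 ze8) (ke xe32 ye16 ze9) (ke xe25 ye44 ze13) (ke xe30 ye17 ze38) (ke xe28 ye40 ze58) (ke xe28 ye2 ze14) (ke xe30 ye2 ze18) (ke xe23 ye17 ze21) (ke xe23 ye17 ze22) (ke xe26 ye8 ze55) (ke xe30 ye2 ze23) (ke xe28 ye17 ze40) (ke xe24 ye47 ze16) (ke xe23 ye17 ze28) (ke xe31 ye7 ze16) (ke xe26 ye9 ze1) (ke xe31 ye33 ze59) (ke xe30 ye7 ze17) (ke xe26 ye11 ze59) (ke xe28 ye43 ze45) (ke xe23 ye17 ze32) (ke xe28 ye40 ze54) (ke xe23 ye17 ze34) (ke xe23 ye17 ze35) (ke xe30 ye58 ze33) (ke xe23 ye18 ze26) (ke xe30 ye48 ze20) (ke xe25 ye1 ze60) (ke xe23 ye17 ze52) (ke xe31 ye0 ze52) (ke xe30 ye35 ze16) (ke xe23 ye25 ze39) (ke xe30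 ye12 ze15) (ke xe30 ye58 ze10) (ke xe28 ye41 ze34) (ke xe30 ye57 ze55) (ke xe26 ye11 ze55) (ke xe28 ye9 ze58))
def f_e_31 : D2 → D3 → Pt := @D2.rec (fun _ => D3 → Pt) (@D3.rec (fun _ => Pt) (ke xe32 ye31 ze14) (ke xe32 ye31 ze27) (ke xe23 ye18 ze19) (ke xe28 ye9 ze46) (ke xe23 ye21 ze19) (ke xe24 ye59 ze59) (ke xe31 ye1 ze7) (ke xe23 ye18 ze39) (ke xe30 ye46 ze57) (ke xe31 ye45 ze7) (ke xe32 ye50 ze20) (ke xe25 ye5 ze26) (ke xe26 ye17 ze29) (ke xe32 ye54 ze20) (ke xe23 ye18 ze51) (ke xe29 ye19 ze0) (ke xe27 ye42 ze9) (ke xe26 ye49 ze51) (ke xe27 ye42 ze60) (ke xe28 ye24 ze57) (ke xe31 ye5 ze45) (ke xe24 ye18 ze39) (ke xe23 ye19 ze2) (ke xe24 ye56 ze61) (ke xe26 ye18 ze41) (ke xe28 ye21 ze52) (ke xe31 ye53 ze22) (ke xe23 ye19 ze6) (ke xe29 ye49 ze31) (ke xe28 ye34 ze22)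 (ke xe24 ye4 ze60) (ke xe23 ye19 ze17) (ke xe27 ye18 ze20) (ke xe26 ye54 ze16) (ke xe23 ye25 ze31) (ke xe28 ye28 ze12) (ke xe23 ye32 ze60) (ke xe23 ye31 ze16) (ke xe30 ye52 ze39) (ke xe24 ye25 ze4) (ke xe23 ye19 ze50) (ke xe29 ye10 ze48) (ke xe23 ye33 ze3) (ke xe29 ye10 ze9) (ke xe29 ye51 ze26) (ke xe23 ye21 ze4) (ke xe23 ye20 ze4) (ke xe28 ye50 ze19) (ke xe23 ye20 ze48) (ke xe23 ye40 ze39) (ke xe23 ye20 ze46) (ke xe26 ye3 ze27) (ke xe30 ye59 ze53) (ke xe23 ye44 ze30) (ke xe23 ye31 ze32) (ke xe23 ye20 ze61) (ke xe23 ye21 ze2) (ke xe29 ye52 ze11) (ke xe23 ye42 ze45) (ke xe28 ye49 ze37) (ke xe32 ye4 ze57) (ke xe31 ye57 ze32)) (@D3.rec (fun _ => Pt) (ke xe31 ye1 ze2) (ke xe30 ye57 ze52) (ke xe31 ye1 ze0) (ke xe26 ye22 ze1) (ke xe24 ye56 ze37) (ke xe31 ye50 ze22) (ke xe24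 ye9 ze27) (ke xe31 ye0 ze6) (ke xe26 ye8 ze52) (ke xe26 ye1 ze32) (ke xe23 ye33 ze5) (ke xe31 ye8 ze54) (ke xe26 ye48 ze27) (ke xe30 ye40 ze7) (ke xe23 ye21 ze46) (ke xe29 ye15 ze42) (ke xe28 ye19 ze39) (ke xe30 ye45 ze35) (ke xe26 ye18 ze45) (ke xe26 ye13 ze13) (ke xe32 ye28 ze36) (ke xe25 ye58 ze1) (ke xe27 ye39 ze49) (ke xe25 ye1 ze33) (ke xe24 ye30 ze17) (ke xe23 ye34 ze26) (ke xe30 ye0 ze52) (ke xe26 ye20 ze59) (ke xe23 ye22 ze24) (ke xe24 ye43 ze38) (ke xe23 ye22 ze39) (ke xe32 ye28 ze23) (ke xe27 ye47 ze17) (ke xe23 ye22 ze52) (ke xe23 ye22 ze61) (ke xe25 ye9 ze49) (ke xe30 ye57 ze9) (ke xe23 ye25 ze58) (ke xe23 ye23 ze10) (ke xe31 ye7 ze11) (ke xe29 ye48 ze50) (ke xe23 ye23 ze20) (ke xe23 ye23 ze24) (ke xe25 ye42 ze43) (ke xe25 ye41 ze8) (ke xe25 ye54 ze12)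 (ke xe24 ye43 ze33) (ke xe25 ye22 ze2) (ke xe23 ye23 ze58) (ke xe23 ye51 ze11) (ke xe23 ye24 ze6) (ke xe23 ye24 ze7) (ke xe32 ye48 ze18) (ke xe27 ye4 ze51) (ke xe23 ye24 ze17) (ke xe23 ye24 ze24) (ke xe25 ye29 ze12) (ke xe23 ye24 ze23) (ke xe26 ye0 ze28) (ke xe32 ye55 ze19) (ke xe32 ye27 ze46) (ke xe23 ye24 ze38)) (@D3.rec (fun _ => Pt) (ke xe32 ye30 ze29) (ke xe32 ye53 ze36) (ke xe28 ye28 ze42) (ke xe31 ye27 ze51) (ke xe27 ye50 ze5) (ke xe26 ye7 ze33) (ke xe31 ye6 ze36) (ke xe26 ye2 ze57) (ke xe23 ye24 ze50) (ke xe32 ye5 ze56) (ke xe31 ye57 ze22) (ke xe23 ye24 ze59) (ke xe25 ye44 ze7) (ke xe32 ye4 ze58) (ke xe23 ye45 ze17) (ke xe29 ye58 ze32) (ke xe23 ye24 ze60) (ke xe26 ye9 ze16) (ke xe23 ye27 ze54) (ke xe23 ye27 ze50) (ke xe23 ye31 ze8) (ke xe24 ye59 ze52) (ke xe31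 ye37 ze48) (ke xe31 ye3 ze21) (ke xe30 ye40 ze27) (ke xe26 ye7 ze8) (ke xe24 ye59 ze36) (ke xe23 ye25 ze9) (ke xe26 ye24 ze58) (ke xe23 ye25 ze22) (ke xe23 ye30 ze59) (ke xe31 ye3 ze20) (ke xe30 ye32 ze42) (ke xe23 ye41 ze49) (ke xe28 ye0 ze48) (ke xe28 ye26 ze1) (ke xe28 ye28 ze1) (ke xe25 ye15 ze54) (ke xe28 ye41 ze16) (ke xe26 ye0 ze19) (ke xe30 ye13 ze41) (ke xe30 ye18 ze1) (ke xe23 ye25 ze52) (ke xe23 ye33 ze21) (ke xe23 ye37 ze24) (ke xe23 ye25 ze55) (ke xe32 ye55 ze14) (ke xe30 ye57 ze25) (ke xe30 ye18 ze0) (ke xe27 ye58 ze9) (ke xe27 ye3 ze22) (ke xe27 ye40 ze41) (ke xe32 ye50 ze52) (ke xe32 ye16 ze11) (ke xe23 ye26 ze2) (ke xe32 ye28 ze18) (ke xe29 ye17 ze37) (ke xe28 ye11 ze53) (ke xe23 ye26 ze4) (ke xe31 ye57 ze34) (ke xe28 ye13 ze22) (ke xe23 ye26 ze15))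 (@D3.rec (fun _ => Pt) (ke xe32 ye50 ze51) (ke xe32 ye4 ze56) (ke xe32 ye32 ze43) (ke xe32 ye16 ze1) (ke xe28 ye27 ze24) (ke xe23 ye26 ze13) (ke xe25 ye58 ze14) (ke xe23 ye26 ze26) (ke xe27 ye57 ze7) (ke xe23 ye26 ze27) (ke xe32 ye53 ze57) (ke xe27 ye18 ze30) (ke xe29 ye14 ze4) (ke xe25 ye39 ze38) (ke xe31 ye29 ze36) (ke xe32 ye55 ze24) (ke xe23 ye26 ze40) (ke xe30 ye4 ze55) (ke xe32 ye8 ze22) (ke xe30 ye41 ze53) (ke xe31 ye2 ze31) (ke xe31 ye2 ze23) (ke xe23 ye27 ze16) (ke xe29 ye12 ze3) (ke xe26 ye49 ze23) (ke xe32 ye42 ze4) (ke xe23 ye26 ze51) (ke xe25 ye30 ze36) (ke xe23 ye26 ze52) (ke xe23 ye26 ze54) (ke xe30 ye33 ze4) (ke xe32 ye0 ze10) (ke xe31 ye5 ze39) (ke xe23 ye26 ze61) (ke xe23 ye27 ze0) (ke xe30 ye55 ze54) (ke xe31 ye54 ze36) (ke xe31 ye22 ze7) (ke xe23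 ye27 ze3) (ke xe32 ye21 ze11) (ke xe31 ye10 ze14) (ke xe29 ye58 ze25) (ke xe23 ye27 ze10) (ke xe29 ye16 ze18) (ke xe32 ye0 ze17) (ke xe25 ye42 ze53) (ke xe32 ye1 ze27) (ke xe30 ye9 ze30) (ke xe24 ye29 ze38) (ke xe30 ye39 ze12) (ke xe31 ye24 ze47) (ke xe23 ye27 ze38) (ke xe23 ye27 ze31) (ke xe23 ye27 ze32) (ke xe32 ye49 ze6) (ke xe29 ye51 ze44) (ke xe23 ye27 ze36) (ke xe32 ye49 ze14) (ke xe23 ye27 ze40) (ke xe29 ye58 ze35) (ke xe32 ye55 ze28) (ke xe23 ye27 ze44)) (@D3.rec (fun _ => Pt) (ke xe29 ye4 ze27) (ke xe25 ye39 ze57) (ke xe31 ye57 ze23) (ke xe31 ye8 ze0) (ke xe29 ye4 ze32) (ke xe32 ye54 ze57) (ke xe31 ye36 ze18) (ke xe31 ye9 ze56) (ke xe23 ye27 ze61) (ke xe29 ye3 ze46) (ke xe23 ye28 ze5) (ke xe30 ye41 ze20) (ke xe32 ye55 ze29) (ke xe31 ye58 ze1) (ke xe32 ye24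 ze32) (ke xe23 ye28 ze13) (ke xe23 ye28 ze15) (ke xe30 ye10 ze10) (ke xe23 ye28 ze17) (ke xe27 ye1 ze50) (ke xe32 ye43 ze45) (ke xe23 ye28 ze21) (ke xe29 ye56 ze35) (ke xe32 ye55 ze32) (ke xe31 ye29 ze51) (ke xe23 ye28 ze23) (ke xe30 ye2 ze42) (ke xe29 ye57 ze46) (ke xe28 ye34 ze42) (ke xe32 ye55 ze30) (ke xe23 ye28 ze27) (ke xe29 ye56 ze39) (ke xe23 ye44 ze45) (ke xe23 ye28 ze32) (ke xe23 ye28 ze33) (ke xe31 ye56 ze43) (ke xe29 ye43 ze53) (ke xe27 ye18 ze8) (ke xe31 ye47 ze24) (ke xe30 ye0 ze42) (ke xe32 ye2 ze53) (ke xe23 ye28 ze40) (ke xe31 ye57 ze21) (ke xe31 ye35 ze42) (ke xe23 ye28 ze41) (ke xe29 ye15 ze49) (ke xe32 ye29 ze38) (ke xe23 ye28 ze42) (ke xe31 ye8 ze25) (ke xe31 ye10 ze59) (ke xe30 ye52 ze10) (ke xe31 ye53 ze1) (ke xe32 ye7 ze11) (ke xe25 ye30 ze13)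 (ke xe26 ye46 ze56) (ke xe31 ye58 ze37) (ke xe32 ye30 ze39) (ke xe29 ye59 ze27) (ke xe30 ye41 ze61) (ke xe31 ye8 ze59) (ke xe30 ye13 ze58) (ke xe31 ye7 ze60)) (@D3.rec (fun _ => Pt) (ke xe23 ye29 ze2) (ke xe29 ye43 ze51) (ke xe23 ye29 ze10) (ke xe23 ye29 ze12) (ke xe30 ye41 ze1) (ke xe30 ye52 ze47) (ke xe30 ye41 ze30) (ke xe32 ye26 ze52) (ke xe23 ye29 ze24) (ke xe28 ye6 ze24) (ke xe29 ye26 ze51) (ke xe30 ye52 ze8) (ke xe32 ye49 ze40) (ke xe29 ye58 ze8) (ke xe29 ye49 ze43) (ke xe32 ye16 ze19) (ke xe23 ye29 ze44) (ke xe23 ye29 ze46) (ke xe32 ye32 ze41) (ke xe31 ye59 ze3) (ke xe23 ye29 ze60) (ke xe23 ye29 ze49) (ke xe32 ye50 ze7) (ke xe23 ye29 ze52) (ke xe26 ye8 ze7) (ke xe26 ye8 ze3) (ke xe23 ye29 ze55) (ke xe32 ye6 ze32) (ke xe23 ye29 ze58) (ke xe29 ye56 ze53) (ke xe32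 ye55 ze35) (ke xe23 ye30 ze3) (ke xe29 ye11 ze61) (ke xe28 ye36 ze31) (ke xe31 ye11 ze2) (ke xe30 ye4 ze30) (ke xe32 ye32 ze45) (ke xe27 ye1 ze48) (ke xe23 ye30 ze24) (ke xe31 ye3 ze32) (ke xe23 ye30 ze13) (ke xe26 ye19 ze2) (ke xe32 ye27 ze28) (ke xe25 ye40 ze6) (ke xe32 ye42 ze11) (ke xe31 ye0 ze20) (ke xe32 ye47 ze10) (ke xe23 ye30 ze22) (ke xe30 ye55 ze56) (ke xe24 ye22 ze9) (ke xe25 ye59 ze4) (ke xe31 ye10 ze54) (ke xe32 ye55 ze26) (ke xe23 ye30 ze28) (ke xe27 ye40 ze60) (ke xe24 ye51 ze25) (ke xe30 ye51 ze51) (ke xe23 ye31 ze37) (ke xe23 ye31 ze40) (ke xe23 ye31 ze1) (ke xe23 ye31 ze5) (ke xe31 ye12 ze11)) (@D3.rec (fun _ => Pt) (ke xe29 ye12 ze24) (ke xe30 ye33 ze20) (ke xe29 ye58 ze1) (ke xe28 ye27 ze14) (ke xe24 ye59 ze21) (ke xe26 ye10 ze11) (ke xe30 ye43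 ze5) (ke xe25 ye42 ze54) (ke xe23 ye31 ze39) (ke xe27 ye42 ze10) (ke xe24 ye45 ze53) (ke xe24 ye40 ze7) (ke xe24 ye40 ze8) (ke xe29 ye11 ze28) (ke xe30 ye55 ze16) (ke xe32 ye27 ze50) (ke xe30 ye12 ze61) (ke xe23 ye38 ze55) (ke xe27 ye44 ze34) (ke xe23 ye32 ze22) (ke xe24 ye34 ze9) (ke xe26 ye7 ze38) (ke xe26 ye26 ze27) (ke xe28 ye32 ze2) (ke xe27 ye26 ze25) (ke xe23 ye46 ze59) (ke xe23 ye44 ze8) (ke xe25 ye39 ze17) (ke xe29 ye28 ze0) (ke xe31 ye43 ze12) (ke xe24 ye37 ze16) (ke xe28 ye27 ze17) (ke xe29 ye10 ze52) (ke xe23 ye33 ze1) (ke xe26 ye47 ze20) (ke xe23 ye33 ze2) (ke xe31 ye2 ze6) (ke xe29 ye52 ze17) (ke xe26 ye3 ze30) (ke xe30 ye13 ze5) (ke xe27 ye22 ze18) (ke xe31 ye49 ze42) (ke xe23 ye33 ze31) (ke xe28 ye14 ze11) (ke xe28 ye25 ze8) (ke xe30 ye24 ze10) (ke xe24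 ye8 ze12) (ke xe28 ye26 ze57) (ke xe23 ye33 ze39) (ke xe23 ye33 ze45) (ke xe23 ye33 ze46) (ke xe23 ye38 ze57) (ke xe31 ye57 ze59) (ke xe30 ye13 ze27) (ke xe24 ye55 ze26) (ke xe24 ye29 ze32) (ke xe32 ye3 ze54) (ke xe23 ye43 ze9) (ke xe32 ye44 ze51) (ke xe23 ye34 ze4) (ke xe23 ye43 ze22) (ke xe31 ye44 ze15)) (@D3.rec (fun _ => Pt) (ke xe27 ye44 ze61) (ke xe30 ye31 ze23) (ke xe29 ye53 ze32) (ke xe24 ye26 ze6) (ke xe32 ye32 ze36) (ke xe27 ye57 ze4) (ke xe29 ye22 ze6) (ke xe26 ye13 ze57) (ke xe27 ye27 ze32) (ke xe26 ye2 ze49) (ke xe30 ye35 ze52) (ke xe31 ye1 ze39) (ke xe25 ye46 ze22) (ke xe23 ye38 ze20) (ke xe27 ye57 ze10) (ke xe26 ye7 ze23) (ke xe30 ye59 ze38) (ke xe23 ye35 ze60) (ke xe31 ye12 ze16) (ke xe23 ye38 ze48) (ke xe23 ye39 ze19) (ke xe27 ye48 ze30) (ke xe30 ye20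 ze28) (ke xe26 ye14 ze26) (ke xe24 ye44 ze32) (ke xe26 ye16 ze28) (ke xe23 ye35 ze57) (ke xe26 ye7 ze4) (ke xe23 ye39 ze55) (ke xe25 ye34 ze41) (ke xe29 ye36 ze21) (ke xe26 ye56 ze59) (ke xe23 ye36 ze13) (ke xe24 ye20 ze26) (ke xe27 ye4 ze30) (ke xe23 ye36 ze24) (ke xe27 ye24 ze33) (ke xe23 ye57 ze9) (ke xe23 ye36 ze53) (ke xe23 ye50 ze33) (ke xe32 ye31 ze17) (ke xe27 ye31 ze32) (ke xe27 ye54 ze11) (ke xe23 ye36 ze57) (ke xe29 ye38 ze44) (ke xe32 ye31 ze20) (ke xe24 ye53 ze0) (ke xe23 ye37 ze2) (ke xe30 ye14 ze3) (ke xe32 ye51 ze36) (ke xe32 ye44 ze41) (ke xe27 ye55 ze1) (ke xe30 ye57 ze31) (ke xe23 ye37 ze11) (ke xe32 ye55 ze41) (ke xe23 ye37 ze16) (ke xe30 ye13 ze31) (ke xe32 ye16 ze12) (ke xe23 ye37 ze23) (ke xe25 ye39 ze3) (ke xe31 ye4 ze61) (ke xe31 ye32 ze36))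 (@D3.rec (fun _ => Pt) (ke xe31 ye4 ze3) (ke xe30 ye42 ze11) (ke xe26 ye47 ze43) (ke xe32 ye54 ze5) (ke xe23 ye42 ze6) (ke xe23 ye42 ze43) (ke xe26 ye23 ze10) (ke xe23 ye43 ze61) (ke xe23 ye43 ze12) (ke xe28 ye1 ze57) (ke xe27 ye26 ze23) (ke xe30 ye9 ze15) (ke xe29 ye4 ze1) (ke xe31 ye27 ze4) (ke xe27 ye39 ze43) (ke xe27 ye39 ze44) (ke xe28 ye7 ze43) (ke xe23 ye37 ze56) (ke xe28 ye3 ze13) (ke xe32 ye6 ze6) (ke xe30 ye35 ze18) (ke xe31 ye58 ze0) (ke xe26 ye1 ze46) (ke xe28 ye13 ze21) (ke xe23 ye44 ze50) (ke xe31 ye4 ze48) (ke xe23 ye38 ze22) (ke xe23 ye38 ze24) (ke xe23 ye38 ze25) (ke xe29 ye10 ze27) (ke xe29 ye10 ze16) (ke xe26 ye8 ze4) (ke xe32 ye54 ze9) (ke xe28 ye11 ze55) (ke xe30 ye13 ze49) (ke xe32 ye55 ze42) (ke xe32 ye55 ze43) (ke xe23 ye38 ze30) (ke xe32 ye55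 ze44) (ke xe23 ye38 ze32) (ke xe29 ye10 ze14) (ke xe24 ye33 ze48) (ke xe32 ye30 ze47) (ke xe23 ye38 ze34) (ke xe31 ye37 ze10) (ke xe32 ye4 ze43) (ke xe26 ye47 ze16) (ke xe29 ye10 ze60) (ke xe26 ye8 ze6) (ke xe32 ye32 ze42) (ke xe29 ye11 ze35) (ke xe23 ye38 ze39) (ke xe28 ye12 ze1) (ke xe25 ye23 ze17) (ke xe31 ye1 ze11) (ke xe29 ye12 ze9) (ke xe31 ye10 ze33) (ke xe28 ye13 ze31) (ke xe31 ye10 ze19) (ke xe31 ye4 ze59) (ke xe25 ye39 ze8) (ke xe25 ye38 ze51)) (@D3.rec (fun _ => Pt) (ke xe23 ye38 ze47) (ke xe32 ye23 ze51) (ke xe24 ye8 ze23) (ke xe30 ye52 ze13) (ke xe23 ye38 ze54) (ke xe27 ye23 ze25) (ke xe23 ye39 ze31) (ke xe32 ye55 ze45) (ke xe29 ye51 ze12) (ke xe23 ye38 ze60) (ke xe29 ye56 ze43) (ke xe23 ye39 ze2) (ke xe25 ye38 ze49) (ke xe23 ye39 ze4) (ke xe23 ye39 ze6)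 (ke xe32 ye50 ze50) (ke xe23 ye39 ze7) (ke xe23 ye39 ze9) (ke xe23 ye39 ze14) (ke xe26 ye54 ze59) (ke xe32 ye50 ze37) (ke xe29 ye15 ze40) (ke xe27 ye1 ze40) (ke xe28 ye11 ze26) (ke xe30 ye10 ze60) (ke xe29 ye9 ze42) (ke xe24 ye27 ze46) (ke xe23 ye39 ze23) (ke xe32 ye49 ze48) (ke xe25 ye53 ze46) (ke xe29 ye56 ze42) (ke xe28 ye3 ze45) (ke xe23 ye39 ze26) (ke xe30 ye10 ze23) (ke xe23 ye39 ze28) (ke xe23 ye39 ze30) (ke xe32 ye48 ze16) (ke xe25 ye10 ze55) (ke xe32 ye55 ze47) (ke xe32 ye55 ze48) (ke xe23 ye39 ze33) (ke xe24 ye17 ze52) (ke xe24 ye17 ze49) (ke xe31 ye16 ze49) (ke xe25 ye57 ze45) (ke xe30 ye33 ze33) (ke xe24 ye4 ze39) (ke xe23 ye39 ze36) (ke xe29 ye47 ze59) (ke xe31 ye10 ze16) (ke xe31 ye24 ze36) (ke xe23 ye39 ze37) (ke xe32 ye13 ze5) (ke xe23 ye39 ze39) (ke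 xe23 ye39 ze40) (ke xe29 ye56 ze44) (ke xe31 ye4 ze7) (ke xe24 ye39 ze61) (ke xe30 ye13 ze47) (ke xe23 ye39 ze43) (ke xe23 ye39 ze44) (ke xe32 ye55 ze51)) (@D3.rec (fun _ => Pt) (ke xe32 ye10 ze4) (ke xe23 ye39 ze45) (ke xe28 ye8 ze22) (ke xe32 ye23 ze43) (ke xe23 ye39 ze47) (ke xe24 ye16 ze24) (ke xe28 ye43 ze39) (ke xe24 ye39 ze46) (ke xe32 ye48 ze23) (ke xe28 ye13 ze35) (ke xe23 ye40 ze2) (ke xe32 ye2 ze58) (ke xe32 ye48 ze13) (ke xe23 ye40 ze5) (ke xe31 ye3 ze40) (ke xe32 ye53 ze8) (ke xe31 ye9 ze49) (ke xe31 ye58 ze35) (ke xe29 ye56 ze48) (ke xe31 ye8 ze58) (ke xe23 ye40 ze34) (ke xe32 ye46 ze58) (ke xe23 ye40 ze19) (ke xe23 ye40 ze20) (ke xe23 ye40 ze23) (ke xe29 ye50 ze54) (ke xe30 ye13 ze8) (ke xe30 ye0 ze20) (ke xe23 ye40 ze29) (ke xe23 ye40 ze32) (ke xe29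 ye10 ze54) (ke xe32 ye3 ze16) (ke xe23 ye40 ze50) (ke xe31 ye8 ze56) (ke xe28 ye37 ze54) (ke xe29 ye57 ze16) (ke xe23 ye40 ze48) (ke xe31 ye57 ze19) (ke xe27 ye18 ze27) (ke xe29 ye12 ze6) (ke xe26 ye18 ze0) (ke xe32 ye34 ze11) (ke xe23 ye40 ze59) (ke xe29 ye58 ze13) (ke xe27 ye18 ze17) (ke xe31 ye17 ze33) (ke xe23 ye41 ze0) (ke xe28 ye38 ze34) (ke xe32 ye1 ze25) (ke xe23 ye41 ze4) (ke xe28 ye26 ze40) (ke xe31 ye48 ze35) (ke xe27 ye17 ze54) (ke xe25 ye38 ze1) (ke xe31 ye5 ze51) (ke xe23 ye41 ze15) (ke xe31 ye55 ze59) (ke xe30 ye33 ze30) (ke xe29 ye49 ze37) (ke xe31 ye4 ze49) (ke xe32 ye26 ze49) (ke xe32 ye55 ze53)) (@D3.rec (fun _ => Pt) (ke xe23 ye41 ze28) (ke xe23 ye41 ze41) (ke xe31 ye5 ze34) (ke xe26 ye45 ze46) (ke xe23 ye41 ze33) (ke xe32 ye3 ze52) (ke xe29 ye19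 ze48) (ke xe23 ye41 ze35) (ke xe32 ye50 ze47) (ke xe32 ye54 ze24) (ke xe30 ye52 ze0) (ke xe23 ye41 ze40) (ke xe29 ye5 ze11) (ke xe29 ye3 ze44) (ke xe29 ye3 ze45) (ke xe26 ye46 ze41) (ke xe25 ye12 ze35) (ke xe23 ye41 ze45) (ke xe24 ye16 ze45) (ke xe32 ye50 ze43) (ke xe32 ye55 ze31) (ke xe23 ye41 ze53) (ke xe32 ye43 ze8) (ke xe32 ye54 ze22) (ke xe27 ye30 ze27) (ke xe30 ye0 ze46) (ke xe24 ye35 ze52) (ke xe23 ye42 ze10) (ke xe23 ye42 ze14) (ke xe30 ye54 ze27) (ke xe29 ye13 ze50) (ke xe25 ye16 ze20) (ke xe23 ye42 ze60) (ke xe30 ye41 ze52) (ke xe24 ye33 ze60) (ke xe23 ye43 ze5) (ke xe31 ye55 ze8) (ke xe25 ye39 ze37) (ke xe23 ye44 ze23) (ke xe26 ye32 ze60) (ke xe23 ye43 ze8) (ke xe26 ye21 ze39) (ke xe25 ye16 ze18) (ke xe23 ye43 ze55) (ke xe23 ye44 ze26) (ke xe32 ye38 ze19)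 (ke xe23 ye43 ze23) (ke xe31 ye43 ze0) (ke xe32 ye27 ze52) (ke xe23 ye43 ze33) (ke xe30 ye42 ze8) (ke xe23 ye43 ze35) (ke xe26 ye47 ze38) (ke xe30 ye13 ze19) (ke xe23 ye43 ze38) (ke xe25 ye42 ze50) (ke xe30 ye41 ze33) (ke xe32 ye55 ze18) (ke xe23 ye43 ze44) (ke xe32 ye36 ze43) (ke xe27 ye28 ze18) (ke xe27 ye28 ze12)) (@D3.rec (fun _ => Pt) (ke xe25 ye1 ze20) (ke xe31 ye44 ze0) (ke xe27 ye28 ze10) (ke xe27 ye29 ze61) (ke xe30 ye33 ze22) (ke xe27 ye41 ze0) (ke xe31 ye44 ze18) (ke xe32 ye31 ze2) (ke xe28 ye24 ze40) (ke xe32 ye28 ze19) (ke xe29 ye54 ze4) (ke xe31 ye5 ze61) (ke xe23 ye44 ze53) (ke xe23 ye44 ze55) (ke xe31 ye33 ze46) (ke xe29 ye51 ze39) (ke xe31 ye7 ze18) (ke xe25 ye16 ze23) (ke xe23 ye45 ze1) (ke xe27 ye26 ze6) (ke xe27 ye28 ze0) (ke xe30 ye37 ze35) (ke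 xe30 ye1 ze4) (ke xe28 ye2 ze3) (ke xe28 ye40 ze61) (ke xe23 ye45 ze18) (ke xe30 ye10 ze13) (ke xe23 ye57 ze44) (ke xe28 ye55 ze47) (ke xe23 ye45 ze33) (ke xe23 ye45 ze35) (ke xe32 ye52 ze8) (ke xe23 ye49 ze3) (ke xe32 ye39 ze51) (ke xe23 ye45 ze42) (ke xe32 ye45 ze14) (ke xe28 ye45 ze46) (ke xe23 ye45 ze43) (ke xe27 ye9 ze5) (ke xe30 ye11 ze38) (ke xe23 ye45 ze55) (ke xe24 ye25 ze1) (ke xe23 ye45 ze60) (ke xe32 ye52 ze52) (ke xe32 ye7 ze39) (ke xe24 ye25 ze17) (ke xe26 ye57 ze19) (ke xe32 ye45 ze12) (ke xe24 ye24 ze27) (ke xe31 ye25 ze51) (ke xe28 ye49 ze15) (ke xe32 ye55 ze1) (ke xe30 ye39 ze5) (ke xe32 ye18 ze34) (ke xe23 ye46 ze12) (ke xe24 ye42 ze38) (ke xe26 ye57 ze26) (ke xe32 ye55 ze61) (ke xe23 ye46 ze30) (ke xe23 ye46 ze32) (ke xe25 ye35 ze41) (ke xe29 ye0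 ze38)) (@D3.rec (fun _ => Pt) (ke xe29 ye58 ze56) (ke xe25 ye31 ze49) (ke xe27 ye38 ze56) (ke xe27 ye37 ze34) (ke xe24 ye18 ze25) (ke xe31 ye42 ze48) (ke xe23 ye47 ze5) (ke xe30 ye49 ze17) (ke xe23 ye47 ze10) (ke xe30 ye48 ze34) (ke xe24 ye30 ze6) (ke xe27 ye6 ze51) (ke xe30 ye26 ze6) (ke xe32 ye54 ze47) (ke xe30 ye37 ze45) (ke xe23 ye47 ze21) (ke xe26 ye5 ze51) (ke xe27 ye8 ze6) (ke xe27 ye20 ze4) (ke xe23 ye47 ze31) (ke xe31 ye56 ze24) (ke xe23 ye47 ze40) (ke xe30 ye46 ze56) (ke xe30 ye10 ze35) (ke xe30 ye45 ze11) (ke xe23 ye47 ze45) (ke xe28 ye5 ze41) (ke xe28 ye8 ze27) (ke xe23 ye47 ze59) (ke xe31 ye23 ze8) (ke xe32 ye16 ze36) (ke xe32 ye32 ze57) (ke xe23 ye48 ze3) (ke xe23 ye48 ze18) (ke xe30 ye22 ze14) (ke xe26 ye53 ze48) (ke xe30 ye31 ze18) (ke xe28 ye37 ze53)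 (ke xe32 ye52 ze58) (ke xe23 ye48 ze12) (ke xe31 ye28 ze2) (ke xe30 ye50 ze40) (ke xe31 ye23 ze4) (ke xe23 ye48 ze16) (ke xe29 ye25 ze41) (ke xe23 ye51 ze33) (ke xe23 ye48 ze25) (ke xe23 ye48 ze36) (ke xe23 ye48 ze49) (ke xe32 ye56 ze3) (ke xe23 ye48 ze44) (ke xe23 ye48 ze52) (ke xe32 ye52 ze2) (ke xe23 ye48 ze54) (ke xe30 ye18 ze26) (ke xe29 ye2 ze0) (ke xe32 ye56 ze8) (ke xe32 ye49 ze61) (ke xe23 ye48 ze58) (ke xe23 ye57 ze50) (ke xe23 ye49 ze0) (ke xe23 ye49 ze7)) (@D3.rec (fun _ => Pt) (ke xe32 ye51 ze6) (ke xe31 ye33 ze3) (ke xe26 ye35 ze1) (ke xe32 ye17 ze8) (ke xe23 ye49 ze13) (ke xe23 ye49 ze14) (ke xe32 ye47 ze56) (ke xe32 ye44 ze23) (ke xe23 ye49 ze17) (ke xe24 ye1 ze18) (ke xe31 ye40 ze27) (ke xe32 ye37 ze13) (ke xe23 ye49 ze29) (ke xe24 ye27 ze56) (ke xe23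 ye49 ze32) (ke xe24 ye23 ze44) (ke xe24 ye1 ze52) (ke xe28 ye25 ze18) (ke xe30 ye12 ze35) (ke xe23 ye49 ze48) (ke xe27 ye46 ze14) (ke xe26 ye48 ze41) (ke xe32 ye29 ze42) (ke xe27 ye49 ze54) (ke xe27 ye59 ze57) (ke xe23 ye51 ze22) (ke xe23 ye50 ze10) (ke xe26 ye11 ze41) (ke xe28 ye47 ze16) (ke xe23 ye51 ze36) (ke xe25 ye23 ze59) (ke xe25 ye15 ze42) (ke xe23 ye50 ze20) (ke xe23 ye51 ze55) (ke xe30 ye14 ze19) (ke xe31 ye21 ze8) (ke xe28 ye20 ze48) (ke xe32 ye53 ze31) (ke xe32 ye7 ze20) (ke xe30 ye31 ze55) (ke xe32 ye8 ze0) (ke xe28 ye5 ze11) (ke xe28 ye6 ze17) (ke xe32 ye28 ze39) (ke xe28 ye7 ze21) (ke xe23 ye50 ze42) (ke xe23 ye50 ze44) (ke xe24 ye54 ze54) (ke xe27 ye46 ze11) (ke xe23 ye50 ze52) (ke xe30 ye24 ze50) (ke xe31 ye44 ze42) (ke xe29 ye54 ze12) (ke xe32 ye28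 ze21) (ke xe23 ye50 ze54) (ke xe23 ye50 ze55) (ke xe32 ye29 ze47) (ke xe32 ye21 ze31) (ke xe31 ye37 ze37) (ke xe32 ye53 ze29) (ke xe27 ye52 ze12) (ke xe32 ye21 ze45)) (@D3.rec (fun _ => Pt) (ke xe23 ye50 ze60) (ke xe24 ye24 ze24) (ke xe24 ye2 ze5) (ke xe23 ye51 ze14) (ke xe30 ye22 ze56) (ke xe30 ye44 ze34) (ke xe31 ye45 ze18) (ke xe23 ye51 ze16) (ke xe24 ye47 ze58) (ke xe28 ye6 ze61) (ke xe28 ye46 ze34) (ke xe32 ye9 ze5) (ke xe31 ye16 ze15) (ke xe30 ye45 ze6) (ke xe32 ye53 ze54) (ke xe30 ye35 ze58) (ke xe32 ye48 ze4) (ke xe23 ye51 ze31) (ke xe30 ye37 ze51) (ke xe30 ye37 ze58) (ke xe32 ye48 ze35) (ke xe30 ye38 ze2) (ke xe27 ye54 ze47) (ke xe32 ye3 ze57) (ke xe31 ye42 ze22) (ke xe23 ye51 ze38) (ke xe32 ye9 ze25) (ke xe27 ye34 ze61) (ke xe32 ye39 ze60) (ke xe23 ye51 ze41)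 (ke xe32 ye43 ze21) (ke xe23 ye55 ze44) (ke xe31 ye59 ze17) (ke xe25 ye3 ze33) (ke xe25 ye45 ze60) (ke xe27 ye34 ze1) (ke xe28 ye5 ze8) (ke xe32 ye34 ze47) (ke xe28 ye14 ze22) (ke xe23 ye52 ze7) (ke xe24 ye6 ze52) (ke xe23 ye52 ze25) (ke xe24 ye56 ze17) (ke xe23 ye52 ze44) (ke xe23 ye52 ze41) (ke xe30 ye28 ze38) (ke xe29 ye27 ze1) (ke xe32 ye39 ze58) (ke xe32 ye46 ze19) (ke xe23 ye52 ze51) (ke xe23 ye52 ze59) (ke xe23 ye53 ze3) (ke xe31 ye39 ze32) (ke xe23 ye53 ze7) (ke xe23 ye53 ze11) (ke xe23 ye53 ze15) (ke xe23 ye53 ze16) (ke xe31 ye32 ze8) (ke xe26 ye45 ze3) (ke xe32 ye2 ze11) (ke xe27 ye15 ze0) (ke xe32 ye44 ze16)) (@D3.rec (fun _ => Pt) (ke xe31 ye39 ze5) (ke xe30 ye43 ze38) (ke xe28 ye26 ze34) (ke xe23 ye53 ze32) (ke xe26 ye44 ze6) (ke xe30 ye6 ze56) (ke xe32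 ye37 ze2) (ke xe30 ye23 ze11) (ke xe24 ye47 ze38) (ke xe28 ye21 ze57) (ke xe23 ye53 ze53) (ke xe23 ye54 ze33) (ke xe32 ye45 ze2) (ke xe32 ye36 ze57) (ke xe25 ye58 ze13) (ke xe31 ye15 ze12) (ke xe32 ye55 ze9) (ke xe23 ye54 ze8) (ke xe32 ye1 ze13) (ke xe30 ye42 ze58) (ke xe32 ye54 ze49) (ke xe23 ye54 ze12) (ke xe30 ye24 ze25) (ke xe28 ye37 ze25) (ke xe31 ye39 ze15) (ke xe23 ye54 ze19) (ke xe30 ye54 ze47) (ke xe25 ye57 ze14) (ke xe32 ye34 ze43) (ke xe26 ye18 ze16) (ke xe27 ye33 ze34) (ke xe31 ye23 ze28) (ke xe29 ye25 ze27) (ke xe32 ye35 ze11) (ke xe24 ye8 ze53) (ke xe24 ye13 ze20) (ke xe32 ye56 ze20) (ke xe23 ye54 ze27) (ke xe28 ye31 ze56) (ke xe31 ye58 ze47) (ke xe23 ye54 ze29) (ke xe32 ye50 ze46) (ke xe27 ye51 ze33) (ke xe27 ye55 ze32) (ke xe32 ye26 ze57) (ke xe32 ye39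 ze3) (ke xe23 ye54 ze37) (ke xe31 ye58 ze4) (ke xe28 ye14 ze13) (ke xe31 ye9 ze43) (ke xe31 ye45 ze44) (ke xe29 ye41 ze24) (ke xe28 ye38 ze17) (ke xe23 ye54 ze49) (ke xe28 ye14 ze17) (ke xe28 ye23 ze47) (ke xe32 ye1 ze34) (ke xe28 ye28 ze47) (ke xe27 ye47 ze47) (ke xe32 ye56 ze23) (ke xe32 ye38 ze49) (ke xe29 ye57 ze18)) (@D3.rec (fun _ => Pt) (ke xe31 ye58 ze33) (ke xe23 ye56 ze58) (ke xe23 ye55 ze8) (ke xe24 ye8 ze22) (ke xe31 ye32 ze45) (ke xe24 ye49 ze38) (ke xe23 ye55 ze28) (ke xe28 ye19 ze21) (ke xe30 ye17 ze33) (ke xe32 ye23 ze10) (ke xe32 ye1 ze7) (ke xe28 ye31 ze36) (ke xe32 ye27 ze14) (ke xe26 ye54 ze44) (ke xe28 ye46 ze53) (ke xe32 ye15 ze9) (ke xe24 ye4 ze37) (ke xe23 ye55 ze51) (ke xe32 ye47 ze44) (ke xe32 ye15 ze2) (ke xe24 ye4 ze19) (ke xe23 ye55 ze56)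 (ke xe24 ye4 ze53) (ke xe24 ye10 ze26) (ke xe25 ye54 ze25) (ke xe32 ye36 ze30) (ke xe23 ye56 ze8) (ke xe23 ye56 ze9) (ke xe24 ye37 ze37) (ke xe23 ye56 ze29) (ke xe24 ye7 ze46) (ke xe23 ye56 ze17) (ke xe30 ye16 ze25) (ke xe31 ye10 ze45) (ke xe30 ye6 ze27) (ke xe28 ye44 ze30) (ke xe24 ye14 ze6) (ke xe23 ye56 ze36) (ke xe23 ye56 ze39) (ke xe23 ye56 ze42) (ke xe28 ye34 ze34) (ke xe23 ye56 ze43) (ke xe32 ye45 ze15) (ke xe24 ye29 ze22) (ke xe23 ye59 ze61) (ke xe23 ye57 ze1) (ke xe23 ye57 ze3) (ke xe28 ye33 ze31) (ke xe26 ye36 ze48) (ke xe28 ye17 ze15) (ke xe31 ye29 ze54) (ke xe29 ye56 ze11) (ke xe23 ye57 ze22) (ke xe31 ye41 ze37) (ke xe28 ye53 ze13) (ke xe23 ye57 ze31) (ke xe24 ye5 ze55) (ke xe30 ye25 ze15) (ke xe32 ye56 ze24) (ke xe30 ye28 ze21) (ke xe28 ye24 ze8) (ke xe23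 ye57 ze32)) (@D3.rec (fun _ => Pt) (ke xe32 ye43 ze20) (ke xe28 ye4 ze55) (ke xe24 ye25 ze53) (ke xe25 ye30 ze48) (ke xe28 ye46 ze17) (ke xe23 ye57 ze52) (ke xe23 ye57 ze60) (ke xe30 ye35 ze36) (ke xe29 ye8 ze52) (ke xe32 ye40 ze34) (ke xe23 ye58 ze11) (ke xe28 ye38 ze61) (ke xe31 ye41 ze30) (ke xe23 ye58 ze25) (ke xe26 ye42 ze47) (ke xe29 ye54 ze56) (ke xe30 ye38 ze14) (ke xe23 ye58 ze53) (ke xe24 ye22 ze10) (ke xe23 ye58 ze58) (ke xe23 ye58 ze60) (ke xe23 ye59 ze33) (ke xe23 ye59 ze0) (ke xe27 ye4 ze8) (ke xe23 ye59 ze6) (ke xe23 ye59 ze7) (ke xe29 ye11 ze52) (ke xe28 ye48 ze0) (ke xe32 ye49 ze19) (ke xe28 ye29 ze37) (ke xe31 ye36 ze34) (ke xe31 ye57 ze3) (ke xe30 ye24 ze16) (ke xe23 ye59 ze38) (ke xe24 ye34 ze19) (ke xe32 ye54 ze10) (ke xe24 ye23 ze38) (ke xe31 ye56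 ze60) (ke xe28 ye51 ze15) (ke xe24 ye29 ze53) (ke xe24 ye3 ze30) (ke xe24 ye4 ze50) (ke xe28 ye29 ze23) (ke xe24 ye28 ze42) (ke xe24 ye39 ze10) (ke xe32 ye2 ze45) (ke xe30 ye23 ze48) (ke xe30 ye8 ze1) (ke xe23 ye59 ze57) (ke xe23 ye59 ze59) (ke xe28 ye34 ze54) (ke xe24 ye27 ze23) (ke xe28 ye29 ze29) (ke xe24 ye0 ze0) (ke xe24 ye0 ze2) (ke xe28 ye19 ze38) (ke xe24 ye0 ze3) (ke xe25 ye51 ze5) (ke xe24 ye27 ze2) (ke xe25 ye10 ze21) (ke xe26 ye38 ze53) (ke xe32 ye56 ze27)) (@D3.rec (fun _ => Pt) (ke xe24 ye26 ze35) (ke xe26 ye59 ze25) (ke xe24 ye26 ze39) (ke xe32 ye35 ze30) (ke xe24 ye0 ze19) (ke xe32 ye48 ze29) (ke xe26 ye38 ze51) (ke xe32 ye45 ze29) (ke xe32 ye14 ze29) (ke xe29 ye46 ze43) (ke xe24 ye33 ze32) (ke xe31 ye44 ze22) (ke xe24 ye0 ze28) (ke xe24 ye0 ze31) (ke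 xe24 ye0 ze33) (ke xe27 ye12 ze55) (ke xe32 ye43 ze39) (ke xe24 ye0 ze50) (ke xe32 ye40 ze29) (ke xe24 ye0 ze53) (ke xe24 ye0 ze54) (ke xe24 ye0 ze55) (ke xe24 ye0 ze56) (ke xe24 ye0 ze58) (ke xe32 ye52 ze45) (ke xe24 ye0 ze59) (ke xe30 ye42 ze53) (ke xe24 ye0 ze61) (ke xe32 ye18 ze23) (ke xe31 ye52 ze38) (ke xe29 ye30 ze40) (ke xe32 ye55 ze39) (ke xe24 ye1 ze1) (ke xe29 ye33 ze33) (ke xe30 ye29 ze47) (ke xe30 ye11 ze35) (ke xe31 ye30 ze28) (ke xe32 ye1 ze9) (ke xe30 ye30 ze1) (ke xe25 ye27 ze37) (ke xe29 ye17 ze14) (ke xe31 ye40 ze59) (ke xe32 ye27 ze25) (ke xe24 ye1 ze29) (ke xe32 ye12 ze47) (ke xe32 ye37 ze40) (ke xe24 ye1 ze31) (ke xe28 ye27 ze58) (ke xe32 ye47 ze25) (ke xe31 ye27 ze9) (ke xe24 ye1 ze41) (ke xe27 ye10 ze37) (ke xe24 ye1 ze46) (ke xe24 ye1 ze51)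 (ke xe32 ye54 ze43) (ke xe32 ye38 ze44) (ke xe30 ye21 ze57) (ke xe32 ye16 ze35) (ke xe32 ye56 ze33) (ke xe24 ye1 ze55) (ke xe32 ye38 ze36) (ke xe32 ye56 ze34)) (@D3.rec (fun _ => Pt) (ke xe24 ye1 ze59) (ke xe32 ye56 ze36) (ke xe24 ye1 ze60) (ke xe32 ye39 ze47) (ke xe32 ye4 ze29) (ke xe25 ye21 ze7) (ke xe24 ye2 ze0) (ke xe30 ye35 ze45) (ke xe24 ye2 ze7) (ke xe30 ye34 ze20) (ke xe30 ye34 ze32) (ke xe32 ye9 ze2) (ke xe24 ye2 ze14) (ke xe26 ye33 ze36) (ke xe24 ye2 ze21) (ke xe30 ye17 ze30) (ke xe30 ye27 ze21) (ke xe32 ye19 ze7) (ke xe31 ye27 ze7) (ke xe24 ye27 ze37) (ke xe24 ye2 ze24) (ke xe26 ye38 ze18) (ke xe30 ye17 ze32) (ke xe24 ye2 ze29) (ke xe25 ye5 ze55) (ke xe25 ye31 ze55) (ke xe27 ye17 ze39) (ke xe32 ye23 ze57) (ke xe24 ye2 ze36) (ke xe24 ye2 ze37) (ke xe32 ye23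 ze56) (ke xe32 ye1 ze5) (ke xe24 ye2 ze42) (ke xe32 ye46 ze40) (ke xe32 ye47 ze9) (ke xe31 ye51 ze1) (ke xe32 ye2 ze16) (ke xe31 ye41 ze14) (ke xe24 ye2 ze47) (ke xe25 ye52 ze27) (ke xe24 ye2 ze51) (ke xe31 ye51 ze16) (ke xe30 ye28 ze59) (ke xe31 ye37 ze23) (ke xe25 ye24 ze39) (ke xe28 ye43 ze2) (ke xe24 ye3 ze5) (ke xe24 ye48 ze57) (ke xe25 ye38 ze48) (ke xe24 ye3 ze6) (ke xe25 ye52 ze34) (ke xe24 ye3 ze8) (ke xe30 ye16 ze35) (ke xe25 ye52 ze35) (ke xe24 ye16 ze61) (ke xe30 ye9 ze44) (ke xe24 ye3 ze16) (ke xe30 ye16 ze52) (ke xe24 ye3 ze19) (ke xe26 ye35 ze26) (ke xe32 ye53 ze10) (ke xe32 ye54 ze41)) (@D3.rec (fun _ => Pt) (ke xe28 ye29 ze26) (ke xe29 ye33 ze35) (ke xe24 ye3 ze24) (ke xe32 ye52 ze41) (ke xe29 ye44 ze23) (ke xe31 ye47 ze35) (ke xe24 ye3 ze28) (ke xe24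 ye26 ze22) (ke xe31 ye14 ze35) (ke xe31 ye47 ze10) (ke xe31 ye51 ze61) (ke xe24 ye3 ze43) (ke xe28 ye42 ze36) (ke xe28 ye46 ze59) (ke xe32 ye56 ze39) (ke xe24 ye3 ze46) (ke xe32 ye45 ze58) (ke xe24 ye3 ze48) (ke xe25 ye52 ze29) (ke xe25 ye37 ze37) (ke xe24 ye3 ze52) (ke xe24 ye49 ze56) (ke xe32 ye39 ze13) (ke xe25 ye19 ze24) (ke xe28 ye45 ze21) (ke xe31 ye40 ze32) (ke xe24 ye3 ze54) (ke xe29 ye27 ze16) (ke xe24 ye3 ze55) (ke xe29 ye2 ze41) (ke xe27 ye11 ze61) (ke xe31 ye39 ze53) (ke xe26 ye53 ze44) (ke xe24 ye3 ze57) (ke xe28 ye59 ze51) (ke xe30 ye30 ze16) (ke xe24 ye3 ze61) (ke xe32 ye35 ze52) (ke xe27 ye29 ze30) (ke xe31 ye39 ze54) (ke xe24 ye4 ze3) (ke xe27 ye6 ze27) (ke xe29 ye34 ze2) (ke xe32 ye13 ze53) (ke xe32 ye39 ze16) (ke xe32 ye47 ze57) (ke xe32 ye4 ze12)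 (ke xe29 ye9 ze30) (ke xe32 ye36 ze15) (ke xe24 ye4 ze14) (ke xe31 ye55 ze44) (ke xe29 ye31 ze25) (ke xe25 ye14 ze3) (ke xe24 ye4 ze17) (ke xe24 ye4 ze18) (ke xe31 ye24 ze45) (ke xe32 ye14 ze36) (ke xe25 ye11 ze55) (ke xe25 ye24 ze20) (ke xe24 ye49 ze54) (ke xe30 ye27 ze9) (ke xe31 ye40 ze60)) (@D3.rec (fun _ => Pt) (ke xe31 ye34 ze22) (ke xe24 ye4 ze32) (ke xe32 ye44 ze48) (ke xe31 ye52 ze1) (ke xe24 ye57 ze14) (ke xe24 ye4 ze35) (ke xe30 ye10 ze56) (ke xe31 ye3 ze37) (ke xe32 ye42 ze27) (ke xe31 ye33 ze16) (ke xe29 ye12 ze59) (ke xe24 ye4 ze52) (ke xe24 ye4 ze55) (ke xe25 ye5 ze25) (ke xe24 ye5 ze10) (ke xe30 ye23 ze43) (ke xe24 ye5 ze15) (ke xe31 ye28 ze51) (ke xe29 ye5 ze24) (ke xe24 ye20 ze16) (ke xe32 ye54 ze45) (ke xe26 ye19 ze20) (ke xe26 ye56 ze25) (ke xe29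 ye29 ze21) (ke xe32 ye56 ze29) (ke xe24 ye5 ze36) (ke xe28 ye47 ze41) (ke xe32 ye43 ze61) (ke xe29 ye2 ze57) (ke xe30 ye43 ze21) (ke xe24 ye5 ze51) (ke xe30 ye28 ze36) (ke xe24 ye6 ze8) (ke xe24 ye5 ze58) (ke xe28 ye38 ze54) (ke xe29 ye1 ze36) (ke xe29 ye21 ze29) (ke xe29 ye30 ze21) (ke xe24 ye6 ze3) (ke xe29 ye55 ze0) (ke xe28 ye25 ze5) (ke xe28 ye56 ze10) (ke xe24 ye6 ze10) (ke xe24 ye6 ze15) (ke xe24 ye14 ze27) (ke xe30 ye17 ze55) (ke xe29 ye8 ze55) (ke xe27 ye6 ze52) (ke xe24 ye6 ze26) (ke xe29 ye1 ze9) (ke xe32 ye33 ze57) (ke xe32 ye35 ze57) (ke xe24 ye6 ze30) (ke xe32 ye8 ze14) (ke xe24 ye6 ze32) (ke xe30 ye39 ze41) (ke xe24 ye6 ze34) (ke xe32 ye34 ze19) (ke xe28 ye24 ze48) (ke xe31 ye30 ze38) (ke xe32 ye21 ze13) (ke xe28 ye33 ze2)) (@D3.rec (fun _ => Pt) (ke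 xe24 ye6 ze49) (ke xe32 ye52 ze19) (ke xe32 ye30 ze17) (ke xe30 ye34 ze48) (ke xe31 ye13 ze42) (ke xe32 ye37 ze33) (ke xe24 ye18 ze40) (ke xe26 ye51 ze59) (ke xe31 ye13 ze29) (ke xe30 ye38 ze6) (ke xe29 ye8 ze47) (ke xe28 ye51 ze51) (ke xe24 ye6 ze59) (ke xe24 ye7 ze0) (ke xe24 ye7 ze15) (ke xe26 ye20 ze11) (ke xe26 ye27 ze57) (ke xe25 ye7 ze7) (ke xe25 ye33 ze20) (ke xe32 ye0 ze18) (ke xe30 ye10 ze5) (ke xe30 ye51 ze11) (ke xe30 ye35 ze43) (ke xe32 ye41 ze16) (ke xe31 ye25 ze48) (ke xe30 ye11 ze26) (ke xe24 ye7 ze50) (ke xe28 ye23 ze30) (ke xe31 ye16 ze31) (ke xe24 ye26 ze12) (ke xe28 ye8 ze42) (ke xe24 ye8 ze1) (ke xe24 ye8 ze25) (ke xe24 ye9 ze61) (ke xe24 ye8 ze39) (ke xe24 ye8 ze40) (ke xe32 ye20 ze4) (ke xe24 ye8 ze49) (ke xe24 ye13 ze15) (ke xe24 ye8 ze51) (ke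 xe24 ye8 ze59) (ke xe29 ye39 ze49) (ke xe26 ye56 ze20) (ke xe24 ye12 ze53) (ke xe31 ye25 ze2) (ke xe24 ye9 ze10) (ke xe30 ye56 ze40) (ke xe24 ye9 ze18) (ke xe31 ye30 ze53) (ke xe24 ye9 ze37) (ke xe31 ye54 ze34) (ke xe24 ye9 ze44) (ke xe28 ye19 ze13) (ke xe28 ye41 ze47) (ke xe24 ye9 ze56) (ke xe32 ye39 ze23) (ke xe24 ye10 ze2) (ke xe28 ye31 ze35) (ke xe24 ye10 ze9) (ke xe24 ye10 ze11) (ke xe24 ye10 ze18) (ke xe24 ye10 ze31)) (@D3.rec (fun _ => Pt) (ke xe24 ye10 ze38) (ke xe24 ye10 ze41) (ke xe24 ye10 ze45) (ke xe27 ye20 ze50) (ke xe30 ye39 ze43) (ke xe30 ye36 ze16) (ke xe24 ye10 ze58) (ke xe24 ye10 ze59) (ke xe24 ye10 ze60) (ke xe29 ye8 ze36) (ke xe29 ye8 ze10) (ke xe27 ye7 ze61) (ke xe32 ye18 ze15) (ke xe24 ye11 ze1) (ke xe24 ye40 ze42) (ke xe24 ye12 ze30) (ke xe24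 ye11 ze6) (ke xe31 ye26 ze44) (ke xe24 ye11 ze10) (ke xe24 ye11 ze14) (ke xe24 ye50 ze3) (ke xe25 ye21 ze50) (ke xe24 ye11 ze46) (ke xe26 ye37 ze6) (ke xe25 ye10 ze28) (ke xe25 ye8 ze34) (ke xe24 ye11 ze21) (ke xe25 ye51 ze20) (ke xe32 ye50 ze34) (ke xe32 ye55 ze0) (ke xe32 ye39 ze53) (ke xe24 ye50 ze27) (ke xe24 ye11 ze41) (ke xe28 ye58 ze35) (ke xe32 ye56 ze48) (ke xe24 ye49 ze57) (ke xe31 ye9 ze50) (ke xe26 ye41 ze33) (ke xe25 ye9 ze6) (ke xe31 ye27 ze45) (ke xe24 ye11 ze47) (ke xe28 ye59 ze33) (ke xe32 ye56 ze51) (ke xe24 ye11 ze48) (ke xe25 ye30 ze31) (ke xe31 ye21 ze55) (ke xe30 ye6 ze37) (ke xe31 ye3 ze50) (ke xe24 ye11 ze55) (ke xe24 ye11 ze57) (ke xe24 ye12 ze1) (ke xe24 ye12 ze7) (ke xe28 ye30 ze11) (ke xe24 ye12 ze4) (ke xe28 ye39 ze58) (ke xe24 ye21 ze31)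 (ke xe28 ye39 ze45) (ke xe24 ye26 ze23) (ke xe24 ye12 ze9) (ke xe28 ye7 ze16) (ke xe24 ye12 ze11) (ke xe24 ye13 ze6)) (@D3.rec (fun _ => Pt) (ke xe28 ye8 ze34) (ke xe25 ye26 ze29) (ke xe31 ye23 ze44) (ke xe31 ye53 ze47) (ke xe30 ye8 ze6) (ke xe24 ye12 ze23) (ke xe27 ye6 ze2) (ke xe24 ye12 ze38) (ke xe24 ye13 ze12) (ke xe28 ye33 ze41) (ke xe28 ye28 ze54) (ke xe24 ye18 ze33) (ke xe31 ye45 ze32) (ke xe24 ye12 ze45) (ke xe32 ye9 ze35) (ke xe25 ye47 ze61) (ke xe28 ye5 ze49) (ke xe24 ye12 ze57) (ke xe26 ye21 ze33) (ke xe32 ye28 ze47) (ke xe27 ye51 ze1) (ke xe26 ye32 ze14) (ke xe29 ye1 ze43) (ke xe28 ye22 ze49) (ke xe24 ye24 ze57) (ke xe30 ye49 ze25) (ke xe24 ye13 ze1) (ke xe31 ye30 ze26) (ke xe28 ye29 ze58) (ke xe24 ye13 ze8) (ke xe24 ye13 ze9) (ke xe32 ye55 ze17) (ke xe27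 ye52 ze34) (ke xe32 ye28 ze43) (ke xe28 ye8 ze7) (ke xe24 ye13 ze16) (ke xe24 ye13 ze17) (ke xe32 ye56 ze56) (ke xe28 ye8 ze12) (ke xe29 ye20 ze39) (ke xe24 ye13 ze22) (ke xe24 ye13 ze23) (ke xe32 ye36 ze46) (ke xe24 ye13 ze24) (ke xe24 ye13 ze25) (ke xe24 ye13 ze26) (ke xe31 ye48 ze41) (ke xe29 ye5 ze23) (ke xe31 ye23 ze24) (ke xe24 ye13 ze44) (ke xe28 ye21 ze22) (ke xe31 ye12 ze49) (ke xe28 ye8 ze9) (ke xe29 ye40 ze12) (ke xe26 ye53 ze5) (ke xe24 ye13 ze58) (ke xe24 ye13 ze59) (ke xe32 ye0 ze36) (ke xe24 ye14 ze10) (ke xe24 ye14 ze11) (ke xe24 ye14 ze21) (ke xe27 ye49 ze44)) (@D3.rec (fun _ => Pt) (ke xe26 ye38 ze46) (ke xe24 ye14 ze26) (ke xe29 ye49 ze7) (ke xe28 ye54 ze19) (ke xe29 ye42 ze38) (ke xe24 ye14 ze35) (ke xe31 ye50 ze27) (ke xe24 ye14 ze39) (ke xe31 ye51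 ze42) (ke xe30 ye6 ze30) (ke xe26 ye35 ze47) (ke xe32 ye47 ze53) (ke xe24 ye14 ze41) (ke xe32 ye37 ze36) (ke xe24 ye14 ze43) (ke xe32 ye20 ze58) (ke xe29 ye40 ze38) (ke xe31 ye29 ze16) (ke xe24 ye14 ze45) (ke xe29 ye22 ze12) (ke xe24 ye14 ze54) (ke xe24 ye15 ze55) (ke xe24 ye14 ze56) (ke xe27 ye17 ze34) (ke xe24 ye14 ze61) (ke xe32 ye56 ze58) (ke xe28 ye57 ze19) (ke xe32 ye47 ze16) (ke xe32 ye16 ze39) (ke xe31 ye46 ze15) (ke xe31 ye54 ze5) (ke xe24 ye15 ze11) (ke xe28 ye38 ze4) (ke xe24 ye16 ze53) (ke xe25 ye34 ze58) (ke xe31 ye47 ze21) (ke xe24 ye15 ze13) (ke xe28 ye16 ze27) (ke xe25 ye52 ze22) (ke xe24 ye15 ze35) (ke xe32 ye12 ze43) (ke xe24 ye15 ze39) (ke xe32 ye35 ze39) (ke xe32 ye14 ze39) (ke xe31 ye24 ze17) (ke xe29 ye23 ze50) (ke xe31 ye38 ze9) (ke xe24 ye15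 ze50) (ke xe31 ye36 ze49) (ke xe31 ye56 ze38) (ke xe24 ye37 ze30) (ke xe24 ye57 ze11) (ke xe28 ye54 ze1) (ke xe24 ye16 ze3) (ke xe31 ye54 ze44) (ke xe32 ye0 ze16) (ke xe28 ye58 ze45) (ke xe24 ye16 ze15) (ke xe32 ye35 ze38) (ke xe32 ye35 ze4) (ke xe24 ye16 ze17) (ke xe29 ye23 ze49)) (@D3.rec (fun _ => Pt) (ke xe25 ye53 ze44) (ke xe32 ye24 ze23) (ke xe27 ye1 ze52) (ke xe24 ye16 ze32) (ke xe31 ye8 ze13) (ke xe26 ye34 ze27) (ke xe27 ye15 ze42) (ke xe31 ye20 ze18) (ke xe25 ye12 ze34) (ke xe31 ye19 ze49) (ke xe24 ye16 ze43) (ke xe25 ye36 ze51) (ke xe25 ye34 ze24) (ke xe24 ye16 ze46) (ke xe25 ye22 ze54) (ke xe31 ye45 ze55) (ke xe31 ye49 ze53) (ke xe31 ye47 ze18) (ke xe24 ye16 ze57) (ke xe24 ye17 ze0) (ke xe32 ye6 ze53) (ke xe32 ye4 ze2) (ke xe32 ye45 ze27) (ke xe29 ye56 ze16)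 (ke xe28 ye32 ze25) (ke xe29 ye9 ze29) (ke xe31 ye55 ze30) (ke xe32 ye39 ze55) (ke xe24 ye17 ze9) (ke xe28 ye30 ze14) (ke xe26 ye35 ze58) (ke xe24 ye17 ze12) (ke xe25 ye54 ze0) (ke xe27 ye6 ze15) (ke xe26 ye14 ze9) (ke xe32 ye54 ze8) (ke xe32 ye55 ze55) (ke xe28 ye56 ze44) (ke xe24 ye51 ze24) (ke xe32 ye48 ze53) (ke xe29 ye57 ze39) (ke xe27 ye24 ze44) (ke xe25 ye29 ze29) (ke xe32 ye53 ze60) (ke xe24 ye17 ze36) (ke xe31 ye24 ze39) (ke xe32 ye51 ze38) (ke xe24 ye17 ze41) (ke xe24 ye17 ze46) (ke xe31 ye53 ze6) (ke xe30 ye36 ze2) (ke xe31 ye2 ze3) (ke xe24 ye17 ze45) (ke xe31 ye46 ze8) (ke xe32 ye57 ze7) (ke xe27 ye4 ze61) (ke xe24 ye17 ze47) (ke xe24 ye17 ze48) (ke xe32 ye50 ze29) (ke xe30 ye44 ze56) (ke xe24 ye18 ze14) (ke xe32 ye37 ze9)) (@D3.rec (fun _ => Pt) (ke xe25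 ye27 ze10) (ke xe24 ye18 ze35) (ke xe31 ye13 ze40) (ke xe24 ye18 ze41) (ke xe30 ye46 ze51) (ke xe29 ye6 ze40) (ke xe26 ye43 ze29) (ke xe29 ye30 ze26) (ke xe30 ye38 ze0) (ke xe24 ye18 ze56) (ke xe24 ye18 ze57) (ke xe24 ye49 ze15) (ke xe24 ye19 ze3) (ke xe26 ye53 ze39) (ke xe27 ye36 ze14) (ke xe28 ye58 ze44) (ke xe24 ye49 ze44) (ke xe25 ye19 ze51) (ke xe26 ye54 ze18) (ke xe31 ye50 ze53) (ke xe25 ye20 ze50) (ke xe24 ye19 ze19) (ke xe24 ye22 ze56) (ke xe26 ye44 ze59) (ke xe31 ye29 ze52) (ke xe32 ye15 ze46) (ke xe24 ye19 ze28) (ke xe29 ye40 ze15) (ke xe26 ye9 ze18) (ke xe31 ye31 ze61) (ke xe31 ye32 ze27) (ke xe32 ye54 ze40) (ke xe24 ye19 ze33) (ke xe28 ye49 ze61) (ke xe28 ye43 ze8) (ke xe28 ye45 ze8) (ke xe32 ye42 ze40) (ke xe29 ye3 ze24) (ke xe26 ye54 ze10) (ke xe24 ye19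 ze36) (ke xe25 ye32 ze24) (ke xe24 ye19 ze39) (ke xe24 ye19 ze40) (ke xe31 ye30 ze36) (ke xe30 ye27 ze24) (ke xe24 ye19 ze55) (ke xe28 ye7 ze1) (ke xe26 ye51 ze10) (ke xe24 ye19 ze61) (ke xe24 ye20 ze8) (ke xe24 ye22 ze19) (ke xe31 ye22 ze17) (ke xe28 ye51 ze4) (ke xe25 ye47 ze9) (ke xe25 ye24 ze33) (ke xe30 ye9 ze45) (ke xe29 ye1 ze48) (ke xe24 ye23 ze21) (ke xe29 ye59 ze36) (ke xe32 ye21 ze6) (ke xe24 ye34 ze14) (ke xe32 ye54 ze60)) (@D3.rec (fun _ => Pt) (ke xe24 ye21 ze2) (ke xe24 ye21 ze3) (ke xe27 ye42 ze50) (ke xe25 ye14 ze40) (ke xe32 ye55 ze25) (ke xe26 ye2 ze7) (ke xe24 ye21 ze7) (ke xe24 ye23 ze58) (ke xe27 ye23 ze14) (ke xe24 ye24 ze9) (ke xe26 ye47 ze49) (ke xe31 ye43 ze49) (ke xe24 ye23 ze47) (ke xe26 ye40 ze30) (ke xe32 ye29 ze51) (ke xe30 ye31 ze21)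 (ke xe31 ye26 ze17) (ke xe28 ye39 ze50) (ke xe32 ye38 ze57) (ke xe25 ye4 ze20) (ke xe30 ye43 ze0) (ke xe24 ye21 ze39) (ke xe32 ye9 ze16) (ke xe28 ye39 ze11) (ke xe30 ye42 ze59) (ke xe24 ye25 ze21) (ke xe28 ye46 ze24) (ke xe24 ye21 ze51) (ke xe25 ye29 ze5) (ke xe24 ye21 ze56) (ke xe24 ye22 ze0) (ke xe26 ye7 ze52) (ke xe30 ye13 ze57) (ke xe29 ye47 ze37) (ke xe26 ye1 ze22) (ke xe24 ye22 ze23) (ke xe31 ye3 ze14) (ke xe31 ye32 ze20) (ke xe24 ye22 ze27) (ke xe29 ye59 ze49) (ke xe29 ye40 ze16) (ke xe32 ye37 ze42) (ke xe30 ye26 ze5) (ke xe24 ye22 ze47) (ke xe32 ye15 ze49) (ke xe29 ye26 ze34) (ke xe29 ye10 ze41) (ke xe32 ye10 ze42) (ke xe26 ye45 ze9) (ke xe24 ye22 ze49) (ke xe24 ye50 ze44) (ke xe31 ye4 ze24) (ke xe31 ye28 ze24) (ke xe24 ye23 ze5) (ke xe31 ye17 ze50) (ke xe26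 ye48 ze0) (ke xe30 ye21 ze60) (ke xe24 ye23 ze14) (ke xe32 ye39 ze22) (ke xe24 ye23 ze15) (ke xe31 ye40 ze17) (ke xe30 ye30 ze33)) (@D3.rec (fun _ => Pt) (ke xe28 ye51 ze41) (ke xe32 ye52 ze3) (ke xe25 ye49 ze18) (ke xe25 ye38 ze31) (ke xe26 ye6 ze21) (ke xe28 ye37 ze18) (ke xe24 ye24 ze2) (ke xe32 ye40 ze61) (ke xe24 ye23 ze28) (ke xe32 ye57 ze12) (ke xe32 ye22 ze53) (ke xe24 ye23 ze42) (ke xe32 ye49 ze15) (ke xe30 ye26 ze32) (ke xe29 ye29 ze26) (ke xe29 ye23 ze10) (ke xe28 ye11 ze23) (ke xe32 ye49 ze10) (ke xe30 ye6 ze12) (ke xe32 ye5 ze14) (ke xe24 ye23 ze52) (ke xe25 ye40 ze13) (ke xe24 ye23 ze60) (ke xe32 ye51 ze32) (ke xe30 ye41 ze47) (ke xe24 ye24 ze26) (ke xe31 ye25 ze27) (ke xe24 ye24 ze29) (ke xe31 ye19 ze36) (ke xe24 ye24 ze32) (ke xe30 ye16 ze22) (ke xe32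 ye39 ze61) (ke xe28 ye48 ze48) (ke xe30 ye11 ze40) (ke xe30 ye42 ze57) (ke xe28 ye39 ze6) (ke xe31 ye28 ze43) (ke xe30 ye38 ze17) (ke xe31 ye22 ze59) (ke xe24 ye24 ze48) (ke xe32 ye42 ze47) (ke xe32 ye46 ze22) (ke xe24 ye24 ze54) (ke xe28 ye30 ze8) (ke xe32 ye47 ze17) (ke xe24 ye24 ze59) (ke xe32 ye47 ze49) (ke xe29 ye26 ze11) (ke xe29 ye26 ze41) (ke xe28 ye49 ze12) (ke xe24 ye24 ze61) (ke xe28 ye38 ze55) (ke xe27 ye9 ze59) (ke xe31 ye23 ze48) (ke xe32 ye37 ze3) (ke xe25 ye25 ze48) (ke xe24 ye25 ze13) (ke xe26 ye46 ze23) (ke xe32 ye11 ze20) (ke xe32 ye47 ze51) (ke xe32 ye11 ze26) (ke xe26 ye45 ze2)) (@D3.rec (fun _ => Pt) (ke xe30 ye7 ze3) (ke xe32 ye40 ze58) (ke xe32 ye15 ze23) (ke xe30 ye20 ze23) (ke xe29 ye29 ze32) (ke xe24 ye25 ze39) (ke xe24 ye25 ze42) (ke xe31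 ye34 ze10) (ke xe32 ye38 ze29) (ke xe24 ye25 ze43) (ke xe32 ye41 ze3) (ke xe24 ye25 ze46) (ke xe32 ye56 ze38) (ke xe30 ye28 ze60) (ke xe24 ye25 ze47) (ke xe31 ye33 ze38) (ke xe32 ye37 ze29) (ke xe24 ye25 ze51) (ke xe32 ye57 ze16) (ke xe24 ye25 ze60) (ke xe30 ye18 ze40) (ke xe24 ye26 ze0) (ke xe32 ye14 ze55) (ke xe29 ye37 ze36) (ke xe32 ye40 ze60) (ke xe24 ye26 ze3) (ke xe31 ye53 ze28) (ke xe29 ye0 ze4) (ke xe28 ye45 ze26) (ke xe30 ye47 ze46) (ke xe32 ye0 ze28) (ke xe29 ye16 ze37) (ke xe31 ye53 ze55) (ke xe24 ye26 ze11) (ke xe30 ye12 ze2) (ke xe24 ye26 ze19) (ke xe29 ye49 ze6) (ke xe26 ye38 ze10) (ke xe26 ye38 ze61) (ke xe30 ye16 ze9) (ke xe26 ye33 ze52) (ke xe24 ye26 ze27) (ke xe32 ye11 ze33) (ke xe26 ye7 ze51) (ke xe28 ye43 ze37) (ke xe28 ye34 ze3) (ke xe30 ye16 ze19)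 (ke xe26 ye37 ze46) (ke xe29 ye46 ze0) (ke xe32 ye45 ze44) (ke xe32 ye12 ze24) (ke xe32 ye36 ze4) (ke xe24 ye26 ze42) (ke xe32 ye9 ze17) (ke xe24 ye26 ze46) (ke xe27 ye8 ze44) (ke xe28 ye57 ze61) (ke xe30 ye49 ze51) (ke xe31 ye52 ze9) (ke xe24 ye26 ze57) (ke xe32 ye28 ze7) (ke xe31 ye28 ze29)) (@D3.rec (fun _ => Pt) (ke xe32 ye26 ze29) (ke xe24 ye26 ze60) (ke xe31 ye35 ze52) (ke xe32 ye41 ze33) (ke xe27 ye24 ze26) (ke xe29 ye42 ze4) (ke xe27 ye24 ze15) (ke xe25 ye56 ze30) (ke xe31 ye15 ze57) (ke xe25 ye59 ze22) (ke xe24 ye27 ze12) (ke xe32 ye17 ze32) (ke xe28 ye29 ze8) (ke xe24 ye27 ze17) (ke xe24 ye50 ze53) (ke xe32 ye43 ze41) (ke xe28 ye45 ze10) (ke xe24 ye27 ze22) (ke xe24 ye27 ze25) (ke xe25 ye37 ze11) (ke xe31 ye29 ze37) (ke xe24 ye27 ze31) (ke xe31 ye37 ze34)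 (ke xe32 ye41 ze21) (ke xe31 ye35 ze50) (ke xe24 ye27 ze42) (ke xe24 ye27 ze43) (ke xe31 ye28 ze30) (ke xe25 ye51 ze2) (ke xe26 ye6 ze18) (ke xe31 ye34 ze47) (ke xe24 ye27 ze50) (ke xe32 ye17 ze16) (ke xe30 ye39 ze28) (ke xe24 ye27 ze60) (ke xe27 ye16 ze55) (ke xe31 ye7 ze61) (ke xe26 ye28 ze26) (ke xe27 ye39 ze61) (ke xe31 ye53 ze52) (ke xe27 ye33 ze23) (ke xe29 ye54 ze35) (ke xe28 ye35 ze46) (ke xe30 ye53 ze14) (ke xe24 ye28 ze52) (ke xe31 ye17 ze4) (ke xe24 ye29 ze7) (ke xe24 ye29 ze3) (ke xe24 ye47 ze29) (ke xe30 ye55 ze12) (ke xe32 ye57 ze23) (ke xe30 ye59 ze0) (ke xe25 ye2 ze51) (ke xe32 ye5 ze24) (ke xe32 ye5 ze12) (ke xe25 ye3 ze37) (ke xe26 ye29 ze18) (ke xe24 ye46 ze50) (ke xe24 ye29 ze29) (ke xe32 ye55 ze38) (ke xe32 ye57 ze24) (ke xe24 ye29 ze35)) (@D3.rec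 (fun _ => Pt) (ke xe30 ye39 ze11) (ke xe30 ye29 ze17) (ke xe32 ye35 ze29) (ke xe31 ye14 ze1) (ke xe28 ye40 ze33) (ke xe24 ye29 ze43) (ke xe27 ye0 ze30) (ke xe27 ye14 ze1) (ke xe26 ye56 ze45) (ke xe29 ye31 ze31) (ke xe24 ye29 ze46) (ke xe24 ye29 ze49) (ke xe30 ye18 ze23) (ke xe31 ye50 ze11) (ke xe32 ye51 ze7) (ke xe24 ye29 ze51) (ke xe31 ye22 ze9) (ke xe30 ye28 ze17) (ke xe28 ye35 ze7) (ke xe32 ye12 ze31) (ke xe24 ye29 ze57) (ke xe31 ye51 ze52) (ke xe32 ye52 ze11) (ke xe24 ye30 ze0) (ke xe29 ye32 ze18) (ke xe24 ye30 ze5) (ke xe30 ye30 ze32) (ke xe24 ye30 ze12) (ke xe24 ye30 ze13) (ke xe32 ye46 ze39) (ke xe32 ye16 ze47) (ke xe24 ye30 ze15) (ke xe24 ye30 ze19) (ke xe24 ye30 ze20) (ke xe27 ye10 ze35) (ke xe32 ye36 ze28) (ke xe29 ye1 ze32) (ke xe27 ye16 ze36) (ke xe31 ye31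 ze15) (ke xe24 ye30 ze24) (ke xe30 ye36 ze9) (ke xe30 ye2 ze48) (ke xe25 ye39 ze39) (ke xe32 ye55 ze52) (ke xe31 ye58 ze25) (ke xe24 ye30 ze55) (ke xe31 ye12 ze14) (ke xe28 ye26 ze11) (ke xe24 ye59 ze11) (ke xe32 ye43 ze51) (ke xe24 ye31 ze17) (ke xe25 ye54 ze2) (ke xe30 ye53 ze28) (ke xe31 ye44 ze12) (ke xe30 ye57 ze33) (ke xe26 ye9 ze23) (ke xe24 ye31 ze31) (ke xe24 ye31 ze33) (ke xe32 ye5 ze53) (ke xe30 ye59 ze40) (ke xe25 ye0 ze22) (ke xe32 ye56 ze9)) (@D3.rec (fun _ => Pt) (ke xe27 ye28 ze48) (ke xe29 ye29 ze13) (ke xe32 ye6 ze42) (ke xe32 ye5 ze36) (ke xe24 ye31 ze40) (ke xe24 ye31 ze43) (ke xe32 ye3 ze18) (ke xe29 ye49 ze1) (ke xe24 ye31 ze56) (ke xe32 ye38 ze1) (ke xe31 ye31 ze7) (ke xe32 ye12 ze25) (ke xe32 ye22 ze14) (ke xe25 ye6 ze42) (ke xe24 ye32 ze16)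 (ke xe24 ye32 ze24) (ke xe24 ye32 ze37) (ke xe24 ye32 ze38) (ke xe24 ye32 ze59) (ke xe27 ye38 ze58) (ke xe24 ye33 ze12) (ke xe26 ye54 ze34) (ke xe31 ye22 ze0) (ke xe24 ye33 ze20) (ke xe24 ye48 ze36) (ke xe31 ye47 ze48) (ke xe29 ye27 ze32) (ke xe30 ye27 ze1) (ke xe24 ye33 ze24) (ke xe29 ye46 ze46) (ke xe32 ye52 ze43) (ke xe32 ye48 ze26) (ke xe26 ye10 ze17) (ke xe25 ye13 ze60) (ke xe32 ye49 ze44) (ke xe29 ye49 ze40) (ke xe32 ye16 ze13) (ke xe24 ye33 ze50) (ke xe27 ye38 ze4) (ke xe25 ye17 ze23) (ke xe25 ye30 ze11) (ke xe29 ye35 ze36) (ke xe24 ye34 ze4) (ke xe32 ye22 ze50) (ke xe26 ye1 ze25) (ke xe25 ye45 ze0) (ke xe31 ye35 ze55) (ke xe31 ye32 ze30) (ke xe24 ye34 ze52) (ke xe29 ye41 ze9) (ke xe27 ye10 ze13) (ke xe25 ye58 ze30) (ke xe27 ye20 ze2) (ke xe27 ye14 ze34) (ke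 xe32 ye53 ze40) (ke xe24 ye35 ze18) (ke xe27 ye16 ze9) (ke xe29 ye52 ze6) (ke xe28 ye42 ze39) (ke xe32 ye47 ze42) (ke xe24 ye35 ze14) (ke xe32 ye20 ze61)) (@D3.rec (fun _ => Pt) (ke xe32 ye4 ze8) (ke xe25 ye8 ze46) (ke xe32 ye12 ze40) (ke xe27 ye18 ze56) (ke xe32 ye22 ze61) (ke xe31 ye54 ze46) (ke xe29 ye37 ze47) (ke xe24 ye35 ze27) (ke xe24 ye35 ze38) (ke xe25 ye35 ze37) (ke xe30 ye54 ze43) (ke xe24 ye35 ze30) (ke xe32 ye49 ze13) (ke xe24 ye36 ze40) (ke xe32 ye15 ze55) (ke xe26 ye45 ze61) (ke xe24 ye39 ze29) (ke xe24 ye38 ze10) (ke xe31 ye57 ze13) (ke xe29 ye41 ze22) (ke xe25 ye21 ze12) (ke xe24 ye36 ze6) (ke xe25 ye0 ze41) (ke xe24 ye36 ze10) (ke xe27 ye13 ze27) (ke xe28 ye33 ze11) (ke xe28 ye42 ze34) (ke xe29 ye15 ze0) (ke xe29 ye3 ze5) (ke xe32 ye54 ze56) (ke xe29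 ye0 ze47) (ke xe29 ye17 ze32) (ke xe29 ye36 ze27) (ke xe25 ye58 ze57) (ke xe25 ye55 ze55) (ke xe24 ye36 ze38) (ke xe25 ye13 ze29) (ke xe24 ye37 ze9) (ke xe27 ye15 ze53) (ke xe31 ye36 ze32) (ke xe24 ye36 ze55) (ke xe28 ye44 ze44) (ke xe31 ye4 ze43) (ke xe30 ye43 ze54) (ke xe29 ye50 ze58) (ke xe29 ye59 ze21) (ke xe24 ye37 ze4) (ke xe25 ye34 ze30) (ke xe24 ye37 ze6) (ke xe26 ye41 ze19) (ke xe31 ye32 ze24) (ke xe28 ye54 ze13) (ke xe31 ye32 ze2) (ke xe32 ye42 ze18) (ke xe24 ye37 ze11) (ke xe31 ye34 ze46) (ke xe24 ye58 ze0) (ke xe27 ye15 ze15) (ke xe31 ye41 ze25) (ke xe30 ye0 ze57) (ke xe25 ye31 ze23) (ke xe29 ye41 ze60)) (@D3.rec (fun _ => Pt) (ke xe24 ye37 ze22) (ke xe32 ye22 ze51) (ke xe31 ye37 ze7) (ke xe27 ye21 ze27) (ke xe25 ye49 ze16) (ke xe29 ye56 ze24) (ke xe24 ye37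 ze34) (ke xe32 ye19 ze22) (ke xe24 ye37 ze44) (ke xe24 ye37 ze54) (ke xe25 ye9 ze59) (ke xe25 ye49 ze40) (ke xe32 ye21 ze39) (ke xe31 ye43 ze45) (ke xe29 ye4 ze50) (ke xe24 ye37 ze61) (ke xe29 ye3 ze48) (ke xe25 ye37 ze10) (ke xe31 ye4 ze6) (ke xe28 ye33 ze18) (ke xe31 ye46 ze43) (ke xe28 ye19 ze27) (ke xe29 ye6 ze7) (ke xe24 ye38 ze12) (ke xe29 ye58 ze30) (ke xe32 ye30 ze42) (ke xe30 ye41 ze7) (ke xe29 ye41 ze26) (ke xe25 ye53 ze55) (ke xe24 ye38 ze24) (ke xe26 ye8 ze12) (ke xe24 ye52 ze9) (ke xe31 ye35 ze39) (ke xe30 ye10 ze49) (ke xe31 ye18 ze30) (ke xe29 ye52 ze19) (ke xe28 ye53 ze16) (ke xe24 ye38 ze46) (ke xe24 ye38 ze48) (ke xe24 ye38 ze49) (ke xe25 ye43 ze59) (ke xe30 ye43 ze48) (ke xe30 ye19 ze54) (ke xe29 ye26 ze3) (ke xe28 ye53 ze60) (ke xe25 ye31 ze15) (ke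 xe31 ye53 ze24) (ke xe29 ye43 ze13) (ke xe24 ye39 ze43) (ke xe31 ye26 ze48) (ke xe30 ye48 ze2) (ke xe24 ye39 ze48) (ke xe31 ye43 ze29) (ke xe32 ye2 ze15) (ke xe31 ye50 ze42) (ke xe32 ye15 ze32) (ke xe24 ye39 ze58) (ke xe32 ye43 ze55) (ke xe24 ye39 ze59) (ke xe30 ye55 ze3) (ke xe31 ye52 ze40) (ke xe30 ye40 ze46)) (@D3.rec (fun _ => Pt) (ke xe28 ye12 ze0) (ke xe24 ye40 ze2) (ke xe29 ye57 ze55) (ke xe32 ye43 ze54) (ke xe25 ye53 ze41) (ke xe25 ye33 ze8) (ke xe29 ye16 ze47) (ke xe31 ye36 ze2) (ke xe30 ye1 ze19) (ke xe32 ye16 ze16) (ke xe31 ye8 ze44) (ke xe30 ye32 ze50) (ke xe28 ye17 ze14) (ke xe30 ye32 ze20) (ke xe24 ye40 ze37) (ke xe32 ye53 ze34) (ke xe26 ye42 ze56) (ke xe24 ye45 ze18) (ke xe27 ye45 ze50) (ke xe26 ye14 ze19) (ke xe27 ye45 ze49) (ke xe24 ye40 ze60) (ke xe25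 ye7 ze11) (ke xe31 ye20 ze43) (ke xe31 ye58 ze32) (ke xe26 ye1 ze10) (ke xe24 ye41 ze43) (ke xe25 ye28 ze7) (ke xe26 ye42 ze0) (ke xe29 ye57 ze9) (ke xe28 ye58 ze47) (ke xe26 ye2 ze17) (ke xe24 ye41 ze47) (ke xe28 ye49 ze40) (ke xe31 ye32 ze22) (ke xe24 ye42 ze4) (ke xe25 ye51 ze12) (ke xe31 ye14 ze58) (ke xe24 ye42 ze11) (ke xe30 ye4 ze33) (ke xe32 ye57 ze33) (ke xe24 ye42 ze12) (ke xe32 ye29 ze5) (ke xe32 ye53 ze32) (ke xe29 ye56 ze37) (ke xe24 ye42 ze27) (ke xe26 ye21 ze58) (ke xe26 ye47 ze35) (ke xe31 ye2 ze22) (ke xe32 ye49 ze49) (ke xe31 ye49 ze43) (ke xe30 ye37 ze23) (ke xe30 ye1 ze48) (ke xe25 ye39 ze42) (ke xe29 ye41 ze14) (ke xe28 ye31 ze31) (ke xe24 ye43 ze4) (ke xe26 ye12 ze28) (ke xe24 ye43 ze13) (ke xe25 ye25 ze31) (ke xe30 ye7 ze13) (ke xe25 ye58 ze11))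 (@D3.rec (fun _ => Pt) (ke xe32 ye32 ze20) (ke xe32 ye32 ze32) (ke xe24 ye43 ze45) (ke xe32 ye55 ze20) (ke xe32 ye57 ze6) (ke xe28 ye58 ze23) (ke xe24 ye44 ze0) (ke xe24 ye44 ze7) (ke xe32 ye30 ze25) (ke xe31 ye26 ze46) (ke xe27 ye7 ze18) (ke xe24 ye44 ze35) (ke xe25 ye28 ze52) (ke xe24 ye44 ze36) (ke xe24 ye44 ze47) (ke xe26 ye12 ze40) (ke xe31 ye42 ze29) (ke xe32 ye56 ze54) (ke xe30 ye45 ze56) (ke xe24 ye44 ze59) (ke xe26 ye5 ze15) (ke xe30 ye3 ze40) (ke xe24 ye45 ze9) (ke xe27 ye45 ze12) (ke xe27 ye29 ze6) (ke xe27 ye45 ze2) (ke xe30 ye4 ze15) (ke xe27 ye47 ze31) (ke xe30 ye31 ze51) (ke xe27 ye48 ze55) (ke xe32 ye26 ze5) (ke xe31 ye44 ze37) (ke xe27 ye27 ze49) (ke xe24 ye45 ze41) (ke xe27 ye48 ze38) (ke xe25 ye5 ze44) (ke xe24 ye45 ze51) (ke xe24 ye55 ze58) (ke xe26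 ye26 ze11) (ke xe24 ye56 ze34) (ke xe24 ye45 ze58) (ke xe26 ye17 ze56) (ke xe29 ye28 ze40) (ke xe25 ye27 ze39) (ke xe32 ye22 ze3) (ke xe26 ye29 ze45) (ke xe24 ye57 ze32) (ke xe24 ye46 ze9) (ke xe28 ye39 ze10) (ke xe29 ye3 ze15) (ke xe30 ye23 ze20) (ke xe29 ye29 ze7) (ke xe28 ye57 ze3) (ke xe24 ye46 ze14) (ke xe24 ye46 ze20) (ke xe32 ye43 ze60) (ke xe28 ye29 ze40) (ke xe32 ye19 ze15) (ke xe30 ye29 ze57) (ke xe26 ye24 ze44) (ke xe29 ye30 ze13) (ke xe24 ye46 ze44)) (@D3.rec (fun _ => Pt) (ke xe26 ye16 ze31) (ke xe28 ye32 ze0) (ke xe30 ye58 ze20) (ke xe32 ye53 ze16) (ke xe24 ye47 ze20) (ke xe31 ye16 ze0) (ke xe30 ye33 ze39) (ke xe28 ye53 ze56) (ke xe32 ye30 ze22) (ke xe30 ye25 ze16) (ke xe32 ye56 ze43) (ke xe32 ye6 ze4) (ke xe24 ye47 ze56) (ke xe30 ye43 ze31) (ke xe24 ye47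 ze59) (ke xe31 ye16 ze24) (ke xe31 ye43 ze14) (ke xe24 ye48 ze2) (ke xe24 ye54 ze8) (ke xe24 ye48 ze3) (ke xe27 ye39 ze58) (ke xe28 ye4 ze25) (ke xe27 ye47 ze54) (ke xe28 ye31 ze57) (ke xe25 ye31 ze44) (ke xe29 ye21 ze0) (ke xe31 ye48 ze36) (ke xe25 ye34 ze0) (ke xe32 ye9 ze61) (ke xe24 ye48 ze18) (ke xe32 ye9 ze59) (ke xe31 ye46 ze19) (ke xe31 ye15 ze52) (ke xe29 ye54 ze55) (ke xe30 ye27 ze33) (ke xe26 ye31 ze40) (ke xe24 ye48 ze32) (ke xe30 ye27 ze13) (ke xe26 ye54 ze40) (ke xe31 ye51 ze0) (ke xe25 ye20 ze32) (ke xe24 ye48 ze41) (ke xe32 ye24 ze26) (ke xe25 ye22 ze9) (ke xe24 ye48 ze43) (ke xe29 ye41 ze35) (ke xe24 ye48 ze50) (ke xe24 ye48 ze59) (ke xe31 ye40 ze57) (ke xe24 ye48 ze55) (ke xe31 ye51 ze36) (ke xe25 ye26 ze8) (ke xe24 ye48 ze60) (ke xe31 ye21 ze31) (ke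 xe31 ye21 ze39) (ke xe25 ye38 ze44) (ke xe24 ye49 ze3) (ke xe24 ye49 ze7) (ke xe29 ye50 ze19) (ke xe28 ye31 ze0) (ke xe31 ye57 ze44) (ke xe27 ye36 ze58)) (@D3.rec (fun _ => Pt) (ke xe24 ye49 ze17) (ke xe25 ye22 ze33) (ke xe32 ye57 ze11) (ke xe24 ye49 ze21) (ke xe25 ye11 ze1) (ke xe32 ye32 ze59) (ke xe29 ye13 ze10) (ke xe29 ye48 ze42) (ke xe26 ye50 ze60) (ke xe31 ye40 ze28) (ke xe24 ye49 ze27) (ke xe32 ye49 ze17) (ke xe24 ye50 ze52) (ke xe28 ye55 ze32) (ke xe28 ye51 ze27) (ke xe24 ye49 ze31) (ke xe32 ye57 ze45) (ke xe31 ye29 ze60) (ke xe32 ye51 ze49) (ke xe24 ye49 ze34) (ke xe24 ye49 ze35) (ke xe24 ye50 ze43) (ke xe29 ye13 ze21) (ke xe32 ye49 ze38) (ke xe25 ye20 ze6) (ke xe29 ye15 ze9) (ke xe24 ye49 ze39) (ke xe31 ye14 ze10) (ke xe31 ye40 ze9) (ke xe29 ye5 ze49) (ke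 xe32 ye23 ze1) (ke xe29 ye17 ze55) (ke xe31 ye21 ze25) (ke xe27 ye37 ze6) (ke xe31 ye40 ze37) (ke xe32 ye57 ze48) (ke xe24 ye49 ze49) (ke xe31 ye40 ze34) (ke xe32 ye17 ze61) (ke xe24 ye49 ze59) (ke xe28 ye45 ze15) (ke xe24 ye50 ze1) (ke xe24 ye50 ze6) (ke xe24 ye50 ze8) (ke xe31 ye51 ze7) (ke xe29 ye13 ze36) (ke xe25 ye22 ze20) (ke xe29 ye14 ze11) (ke xe29 ye6 ze50) (ke xe24 ye50 ze16) (ke xe32 ye34 ze38) (ke xe25 ye19 ze32) (ke xe29 ye44 ze39) (ke xe29 ye14 ze16) (ke xe29 ye2 ze37) (ke xe28 ye31 ze37) (ke xe24 ye50 ze18) (ke xe31 ye39 ze48) (ke xe24 ye50 ze19) (ke xe31 ye19 ze41) (ke xe31 ye21 ze61) (ke xe26 ye37 ze38)) (@D3.rec (fun _ => Pt) (ke xe28 ye45 ze22) (ke xe24 ye50 ze23) (ke xe32 ye24 ze21) (ke xe24 ye50 ze24) (ke xe25 ye10 ze41) (ke xe24 ye50 ze29) (ke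 xe29 ye13 ze34) (ke xe24 ye50 ze32) (ke xe24 ye51 ze41) (ke xe29 ye13 ze25) (ke xe24 ye50 ze35) (ke xe24 ye50 ze39) (ke xe31 ye51 ze15) (ke xe25 ye37 ze27) (ke xe31 ye20 ze37) (ke xe24 ye50 ze48) (ke xe24 ye50 ze58) (ke xe25 ye22 ze30) (ke xe24 ye50 ze57) (ke xe29 ye32 ze46) (ke xe24 ye51 ze2) (ke xe25 ye44 ze2) (ke xe24 ye51 ze20) (ke xe25 ye27 ze36) (ke xe32 ye0 ze6) (ke xe31 ye35 ze58) (ke xe24 ye51 ze23) (ke xe26 ye54 ze11) (ke xe24 ye51 ze30) (ke xe28 ye59 ze44) (ke xe31 ye18 ze12) (ke xe24 ye51 ze33) (ke xe28 ye40 ze40) (ke xe31 ye51 ze22) (ke xe24 ye52 ze6) (ke xe32 ye57 ze52) (ke xe24 ye51 ze35) (ke xe31 ye17 ze53) (ke xe32 ye3 ze39) (ke xe24 ye51 ze39) (ke xe27 ye36 ze61) (ke xe29 ye13 ze26) (ke xe29 ye11 ze11) (ke xe31 ye51 ze10) (ke xe27 ye37 ze9) (ke xe26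 ye37 ze53) (ke xe27 ye37 ze11) (ke xe25 ye33 ze21) (ke xe25 ye12 ze60) (ke xe25 ye37 ze34) (ke xe31 ye52 ze31) (ke xe24 ye52 ze1) (ke xe32 ye45 ze20) (ke xe28 ye37 ze7) (ke xe24 ye52 ze11) (ke xe24 ye52 ze14) (ke xe31 ye50 ze43) (ke xe24 ye52 ze25) (ke xe30 ye14 ze36) (ke xe24 ye52 ze31) (ke xe24 ye52 ze42) (ke xe25 ye42 ze28)) (@D3.rec (fun _ => Pt) (ke xe24 ye57 ze27) (ke xe27 ye37 ze16) (ke xe26 ye26 ze4) (ke xe24 ye53 ze4) (ke xe26 ye55 ze57) (ke xe24 ye53 ze25) (ke xe26 ye13 ze51) (ke xe32 ye28 ze24) (ke xe24 ye53 ze46) (ke xe32 ye49 ze37) (ke xe32 ye31 ze21) (ke xe28 ye8 ze23) (ke xe32 ye57 ze54) (ke xe31 ye46 ze12) (ke xe32 ye55 ze21) (ke xe32 ye57 ze55) (ke xe24 ye53 ze53) (ke xe31 ye59 ze32) (ke xe32 ye2 ze48) (ke xe32 ye10 ze22) (ke xe28 ye6 ze29) (ke xe24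 ye53 ze61) (ke xe31 ye15 ze24) (ke xe24 ye54 ze2) (ke xe32 ye31 ze35) (ke xe29 ye55 ze32) (ke xe26 ye22 ze42) (ke xe26 ye31 ze26) (ke xe26 ye22 ze38) (ke xe31 ye38 ze16) (ke xe27 ye49 ze13) (ke xe29 ye25 ze7) (ke xe27 ye50 ze22) (ke xe24 ye54 ze29) (ke xe32 ye29 ze9) (ke xe32 ye30 ze1) (ke xe28 ye25 ze45) (ke xe24 ye54 ze33) (ke xe27 ye33 ze17) (ke xe27 ye31 ze30) (ke xe27 ye33 ze3) (ke xe32 ye10 ze23) (ke xe24 ye54 ze56) (ke xe24 ye58 ze49) (ke xe31 ye55 ze50) (ke xe24 ye55 ze2) (ke xe27 ye40 ze7) (ke xe24 ye55 ze4) (ke xe31 ye13 ze5) (ke xe27 ye46 ze7) (ke xe28 ye3 ze36) (ke xe32 ye35 ze45) (ke xe24 ye55 ze8) (ke xe27 ye32 ze35) (ke xe27 ye53 ze38) (ke xe31 ye45 ze19) (ke xe30 ye44 ze36) (ke xe28 ye4 ze15) (ke xe28 ye2 ze34) (ke xe31 ye54 ze8) (ke xe27 ye27 ze10)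 (ke xe26 ye17 ze0)) (@D3.rec (fun _ => Pt) (ke xe31 ye11 ze47) (ke xe32 ye25 ze11) (ke xe24 ye55 ze30) (ke xe24 ye56 ze4) (ke xe25 ye58 ze47) (ke xe27 ye38 ze33) (ke xe32 ye28 ze11) (ke xe28 ye21 ze14) (ke xe25 ye2 ze28) (ke xe27 ye27 ze60) (ke xe31 ye57 ze53) (ke xe24 ye56 ze10) (ke xe31 ye6 ze29) (ke xe28 ye3 ze32) (ke xe31 ye39 ze16) (ke xe30 ye54 ze1) (ke xe29 ye55 ze26) (ke xe30 ye27 ze52) (ke xe29 ye39 ze32) (ke xe27 ye12 ze41) (ke xe29 ye35 ze19) (ke xe26 ye49 ze49) (ke xe32 ye54 ze61) (ke xe24 ye57 ze13) (ke xe28 ye23 ze15) (ke xe32 ye9 ze36) (ke xe28 ye8 ze56) (ke xe32 ye52 ze57) (ke xe24 ye57 ze21) (ke xe31 ye36 ze52) (ke xe29 ye3 ze0) (ke xe32 ye7 ze50) (ke xe27 ye51 ze11) (ke xe27 ye50 ze23) (ke xe30 ye44 ze31) (ke xe28 ye31 ze48) (ke xe24 ye57 ze37) (ke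 xe31 ye47 ze55) (ke xe24 ye57 ze53) (ke xe24 ye57 ze56) (ke xe24 ye57 ze57) (ke xe27 ye11 ze21) (ke xe25 ye27 ze26) (ke xe24 ye58 ze43) (ke xe29 ye12 ze32) (ke xe31 ye36 ze13) (ke xe29 ye27 ze20) (ke xe32 ye41 ze30) (ke xe31 ye48 ze23) (ke xe31 ye29 ze11) (ke xe29 ye44 ze36) (ke xe25 ye22 ze25) (ke xe30 ye9 ze17) (ke xe30 ye16 ze55) (ke xe26 ye25 ze59) (ke xe28 ye59 ze37) (ke xe24 ye58 ze40) (ke xe32 ye33 ze48) (ke xe27 ye29 ze10) (ke xe25 ye2 ze48) (ke xe24 ye58 ze57) (ke xe24 ye59 ze0)) (@D3.rec (fun _ => Pt) (ke xe31 ye12 ze1) (ke xe27 ye20 ze31) (ke xe24 ye59 ze18) (ke xe24 ye59 ze23) (ke xe26 ye30 ze58) (ke xe31 ye59 ze59) (ke xe24 ye59 ze30) (ke xe28 ye20 ze41) (ke xe26 ye20 ze37) (ke xe29 ye49 ze61) (ke xe30 ye42 ze24) (ke xe30 ye57 ze22) (ke xe31 ye33 ze53)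 (ke xe30 ye35 ze1) (ke xe32 ye51 ze37) (ke xe31 ye6 ze61) (ke xe25 ye0 ze16) (ke xe25 ye0 ze19) (ke xe31 ye12 ze6) (ke xe25 ye0 ze20) (ke xe32 ye31 ze13) (ke xe25 ye0 ze21) (ke xe31 ye19 ze11) (ke xe25 ye0 ze24) (ke xe27 ye31 ze24) (ke xe28 ye2 ze30) (ke xe27 ye27 ze12) (ke xe25 ye0 ze57) (ke xe26 ye21 ze0) (ke xe28 ye1 ze47) (ke xe30 ye44 ze27) (ke xe32 ye7 ze59) (ke xe27 ye32 ze19) (ke xe30 ye44 ze32) (ke xe25 ye45 ze31) (ke xe29 ye50 ze29) (ke xe26 ye4 ze33) (ke xe31 ye38 ze31) (ke xe25 ye1 ze48) (ke xe27 ye31 ze23) (ke xe25 ye1 ze36) (ke xe25 ye1 ze38) (ke xe31 ye14 ze51) (ke xe25 ye1 ze39) (ke xe32 ye7 ze18) (ke xe30 ye23 ze30) (ke xe30 ye42 ze26) (ke xe25 ye1 ze52) (ke xe25 ye1 ze53) (ke xe26 ye31 ze19) (ke xe29 ye54 ze34) (ke xe30 ye58 ze36) (ke xe29 ye51 ze32)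 (ke xe30 ye47 ze4) (ke xe26 ye31 ze57) (ke xe25 ye2 ze21) (ke xe30 ye51 ze58) (ke xe29 ye51 ze40) (ke xe30 ye12 ze55) (ke xe25 ye2 ze16) (ke xe30 ye4 ze39) (ke xe26 ye7 ze13)) (@D3.rec (fun _ => Pt) (ke xe28 ye24 ze46) (ke xe27 ye57 ze61) (ke xe32 ye3 ze10) (ke xe26 ye21 ze37) (ke xe25 ye2 ze50) (ke xe32 ye5 ze34) (ke xe32 ye31 ze4) (ke xe31 ye0 ze9) (ke xe25 ye3 ze30) (ke xe26 ye21 ze44) (ke xe29 ye15 ze52) (ke xe25 ye3 ze44) (ke xe25 ye3 ze54) (ke xe27 ye47 ze18) (ke xe32 ye57 ze58) (ke xe32 ye31 ze22) (ke xe29 ye16 ze9) (ke xe31 ye55 ze19) (ke xe31 ye15 ze6) (ke xe31 ye42 ze55) (ke xe30 ye11 ze2) (ke xe30 ye8 ze57) (ke xe25 ye36 ze18) (ke xe25 ye36 ze22) (ke xe25 ye4 ze8) (ke xe26 ye5 ze1) (ke xe29 ye59 ze0) (ke xe32 ye36 ze55) (ke xe25 ye4 ze29) (ke xe31 ye55 ze21)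 (ke xe32 ye21 ze46) (ke xe25 ye4 ze33) (ke xe31 ye25 ze12) (ke xe32 ye31 ze50) (ke xe32 ye57 ze32) (ke xe29 ye16 ze42) (ke xe25 ye14 ze15) (ke xe29 ye16 ze50) (ke xe32 ye33 ze38) (ke xe25 ye59 ze56) (ke xe25 ye4 ze58) (ke xe25 ye4 ze60) (ke xe25 ye5 ze4) (ke xe25 ye5 ze2) (ke xe31 ye16 ze50) (ke xe28 ye59 ze5) (ke xe29 ye5 ze20) (ke xe29 ye16 ze27) (ke xe32 ye50 ze25) (ke xe25 ye30 ze16) (ke xe25 ye5 ze29) (ke xe32 ye25 ze32) (ke xe25 ye5 ze32) (ke xe28 ye16 ze49) (ke xe25 ye5 ze33) (ke xe31 ye27 ze15) (ke xe29 ye16 ze17) (ke xe25 ye31 ze22) (ke xe27 ye16 ze26) (ke xe27 ye23 ze13) (ke xe25 ye35 ze51) (ke xe29 ye14 ze17)) (@D3.rec (fun _ => Pt) (ke xe25 ye22 ze18) (ke xe25 ye6 ze22) (ke xe25 ye6 ze23) (ke xe32 ye25 ze21) (ke xe25 ye27 ze7) (ke xe29 ye5 ze2) (ke xe32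 ye42 ze26) (ke xe25 ye6 ze32) (ke xe31 ye27 ze53) (ke xe25 ye38 ze35) (ke xe32 ye57 ze34) (ke xe25 ye6 ze31) (ke xe31 ye42 ze13) (ke xe32 ye56 ze10) (ke xe32 ye23 ze33) (ke xe31 ye26 ze29) (ke xe30 ye55 ze24) (ke xe25 ye6 ze34) (ke xe32 ye22 ze49) (ke xe31 ye39 ze31) (ke xe29 ye25 ze49) (ke xe29 ye43 ze4) (ke xe30 ye32 ze60) (ke xe25 ye6 ze43) (ke xe28 ye5 ze24) (ke xe25 ye6 ze47) (ke xe25 ye13 ze31) (ke xe29 ye12 ze49) (ke xe27 ye18 ze4) (ke xe29 ye12 ze53) (ke xe32 ye57 ze60) (ke xe25 ye28 ze19) (ke xe32 ye29 ze44) (ke xe25 ye7 ze4) (ke xe32 ye33 ze41) (ke xe30 ye0 ze2) (ke xe30 ye5 ze16) (ke xe25 ye7 ze8) (ke xe26 ye24 ze46) (ke xe28 ye26 ze50) (ke xe30 ye27 ze42) (ke xe25 ye7 ze16) (ke xe28 ye59 ze56) (ke xe31 ye36 ze20) (ke xe25 ye7 ze25) (ke xe29 ye51 ze35) (ke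 xe32 ye48 ze8) (ke xe29 ye49 ze12) (ke xe32 ye7 ze10) (ke xe31 ye53 ze2) (ke xe32 ye55 ze49) (ke xe27 ye24 ze3) (ke xe32 ye55 ze50) (ke xe25 ye7 ze48) (ke xe25 ye7 ze61) (ke xe27 ye19 ze5) (ke xe25 ye51 ze39) (ke xe25 ye22 ze7) (ke xe32 ye41 ze46) (ke xe32 ye23 ze27) (ke xe27 ye36 ze30) (ke xe32 ye37 ze56)) (@D3.rec (fun _ => Pt) (ke xe32 ye19 ze9) (ke xe25 ye8 ze14) (ke xe28 ye40 ze48) (ke xe26 ye36 ze15) (ke xe25 ye8 ze18) (ke xe32 ye57 ze14) (ke xe25 ye8 ze19) (ke xe29 ye16 ze28) (ke xe28 ye42 ze30) (ke xe25 ye8 ze21) (ke xe31 ye21 ze9) (ke xe28 ye34 ze13) (ke xe30 ye53 ze39) (ke xe32 ye2 ze20) (ke xe29 ye41 ze58) (ke xe32 ye32 ze27) (ke xe25 ye8 ze31) (ke xe27 ye20 ze41) (ke xe31 ye27 ze17) (ke xe32 ye23 ze45) (ke xe32 ye48 ze9) (ke xe31 ye26 ze35) (ke xe32 ye41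 ze59) (ke xe32 ye55 ze7) (ke xe31 ye4 ze38) (ke xe32 ye26 ze19) (ke xe25 ye8 ze41) (ke xe32 ye26 ze12) (ke xe32 ye9 ze51) (ke xe25 ye8 ze43) (ke xe30 ye16 ze4) (ke xe32 ye10 ze49) (ke xe27 ye19 ze23) (ke xe30 ye17 ze19) (ke xe32 ye57 ze1) (ke xe31 ye21 ze5) (ke xe27 ye0 ze3) (ke xe25 ye8 ze60) (ke xe27 ye7 ze44) (ke xe31 ye48 ze53) (ke xe25 ye9 ze10) (ke xe25 ye9 ze13) (ke xe25 ye9 ze14) (ke xe32 ye57 ze51) (ke xe31 ye48 ze30) (ke xe25 ye9 ze18) (ke xe29 ye4 ze43) (ke xe26 ye2 ze59) (ke xe31 ye34 ze25) (ke xe31 ye48 ze21) (ke xe25 ye9 ze24) (ke xe25 ye9 ze29) (ke xe25 ye9 ze27) (ke xe29 ye27 ze22) (ke xe31 ye55 ze60) (ke xe31 ye43 ze37) (ke xe30 ye19 ze28) (ke xe29 ye13 ze29) (ke xe27 ye7 ze56) (ke xe25 ye59 ze59) (ke xe25 ye9 ze37) (ke xe25 ye35 ze3)) (@D3.rec (fun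 _ => Pt) (ke xe27 ye30 ze6) (ke xe32 ye58 ze2) (ke xe31 ye51 ze8) (ke xe25 ye9 ze42) (ke xe27 ye22 ze7) (ke xe25 ye10 ze14) (ke xe25 ye10 ze18) (ke xe25 ye10 ze19) (ke xe32 ye41 ze17) (ke xe28 ye19 ze15) (ke xe32 ye42 ze0) (ke xe25 ye10 ze35) (ke xe25 ye49 ze8) (ke xe32 ye24 ze24) (ke xe25 ye10 ze38) (ke xe25 ye10 ze39) (ke xe32 ye43 ze23) (ke xe25 ye10 ze48) (ke xe29 ye5 ze21) (ke xe32 ye31 ze0) (ke xe25 ye10 ze57) (ke xe31 ye47 ze49) (ke xe25 ye11 ze6) (ke xe31 ye43 ze48) (ke xe26 ye53 ze25) (ke xe29 ye41 ze15) (ke xe28 ye36 ze54) (ke xe30 ye12 ze24) (ke xe25 ye20 ze53) (ke xe26 ye34 ze59) (ke xe31 ye47 ze44) (ke xe25 ye11 ze25) (ke xe31 ye56 ze30) (ke xe25 ye47 ze56) (ke xe28 ye33 ze55) (ke xe31 ye10 ze51) (ke xe31 ye39 ze26) (ke xe32 ye30 ze13) (ke xe27 ye51 ze39)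 (ke xe31 ye54 ze17) (ke xe30 ye17 ze48) (ke xe31 ye25 ze46) (ke xe29 ye24 ze11) (ke xe25 ye30 ze1) (ke xe32 ye38 ze55) (ke xe28 ye42 ze22) (ke xe25 ye11 ze60) (ke xe30 ye48 ze19) (ke xe25 ye12 ze16) (ke xe25 ye12 ze18) (ke xe25 ye12 ze21) (ke xe30 ye55 ze1) (ke xe25 ye22 ze55) (ke xe31 ye47 ze39) (ke xe32 ye2 ze1) (ke xe27 ye14 ze35) (ke xe32 ye55 ze54) (ke xe25 ye12 ze37) (ke xe28 ye58 ze17) (ke xe25 ye25 ze14) (ke xe25 ye12 ze39) (ke xe29 ye5 ze42)) (@D3.rec (fun _ => Pt) (ke xe25 ye12 ze44) (ke xe30 ye43 ze12) (ke xe30 ye8 ze5) (ke xe27 ye18 ze41) (ke xe30 ye19 ze61) (ke xe29 ye12 ze48) (ke xe25 ye13 ze27) (ke xe25 ye22 ze60) (ke xe25 ye54 ze53) (ke xe25 ye29 ze50) (ke xe25 ye48 ze40) (ke xe28 ye30 ze38) (ke xe28 ye42 ze0) (ke xe29 ye15 ze56) (ke xe29 ye15 ze34)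 (ke xe28 ye42 ze24) (ke xe25 ye58 ze25) (ke xe28 ye30 ze27) (ke xe28 ye21 ze41) (ke xe32 ye1 ze18) (ke xe29 ye16 ze4) (ke xe32 ye1 ze48) (ke xe25 ye50 ze35) (ke xe29 ye15 ze33) (ke xe29 ye15 ze57) (ke xe27 ye46 ze55) (ke xe32 ye24 ze33) (ke xe30 ye33 ze36) (ke xe25 ye14 ze11) (ke xe29 ye15 ze51) (ke xe25 ye14 ze14) (ke xe25 ye14 ze19) (ke xe29 ye16 ze44) (ke xe25 ye14 ze26) (ke xe27 ye24 ze2) (ke xe32 ye43 ze38) (ke xe30 ye41 ze46) (ke xe29 ye12 ze4) (ke xe29 ye49 ze49) (ke xe25 ye33 ze26) (ke xe32 ye0 ze7) (ke xe25 ye14 ze48) (ke xe31 ye6 ze41) (ke xe31 ye37 ze50) (ke xe25 ye14 ze54) (ke xe25 ye14 ze55) (ke xe29 ye16 ze43) (ke xe32 ye0 ze11) (ke xe29 ye16 ze46) (ke xe27 ye42 ze45) (ke xe30 ye0 ze12) (ke xe29 ye5 ze38) (ke xe29 ye48 ze41) (ke xe31 ye27 ze16) (ke xe25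 ye20 ze18) (ke xe31 ye50 ze60) (ke xe25 ye15 ze22) (ke xe29 ye37 ze48) (ke xe26 ye10 ze13) (ke xe25 ye18 ze2) (ke xe25 ye15 ze39) (ke xe27 ye30 ze0)) (@D3.rec (fun _ => Pt) (ke xe25 ye15 ze51) (ke xe25 ye16 ze27) (ke xe29 ye18 ze35) (ke xe30 ye54 ze15) (ke xe32 ye8 ze5) (ke xe29 ye42 ze24) (ke xe25 ye16 ze61) (ke xe25 ye44 ze43) (ke xe25 ye17 ze7) (ke xe26 ye6 ze6) (ke xe25 ye17 ze8) (ke xe31 ye33 ze13) (ke xe26 ye58 ze38) (ke xe25 ye17 ze44) (ke xe25 ye17 ze49) (ke xe32 ye58 ze8) (ke xe32 ye46 ze14) (ke xe28 ye23 ze41) (ke xe32 ye29 ze61) (ke xe30 ye4 ze2) (ke xe32 ye44 ze29) (ke xe29 ye41 ze16) (ke xe31 ye1 ze5) (ke xe25 ye18 ze3) (ke xe30 ye48 ze18) (ke xe29 ye29 ze6) (ke xe25 ye18 ze28) (ke xe31 ye26 ze6) (ke xe25 ye18 ze35) (ke xe25 ye18 ze38) (ke xe27 ye41 ze54)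 (ke xe28 ye18 ze5) (ke xe29 ye52 ze40) (ke xe25 ye18 ze43) (ke xe28 ye33 ze52) (ke xe25 ye18 ze47) (ke xe29 ye31 ze48) (ke xe25 ye57 ze32) (ke xe32 ye27 ze10) (ke xe25 ye20 ze28) (ke xe25 ye20 ze4) (ke xe25 ye19 ze14) (ke xe31 ye36 ze54) (ke xe31 ye41 ze56) (ke xe25 ye23 ze35) (ke xe25 ye19 ze18) (ke xe25 ye21 ze18) (ke xe28 ye31 ze20) (ke xe30 ye28 ze28) (ke xe32 ye53 ze56) (ke xe25 ye19 ze20) (ke xe25 ye19 ze21) (ke xe25 ye19 ze27) (ke xe31 ye28 ze19) (ke xe31 ye55 ze41) (ke xe29 ye47 ze30) (ke xe29 ye2 ze50) (ke xe25 ye19 ze33) (ke xe26 ye40 ze57) (ke xe26 ye41 ze9) (ke xe31 ye49 ze55) (ke xe29 ye35 ze3)) (@D3.rec (fun _ => Pt) (ke xe31 ye39 ze39) (ke xe31 ye20 ze35) (ke xe25 ye19 ze60) (ke xe25 ye20 ze1) (ke xe28 ye51 ze28) (ke xe25 ye20 ze8) (ke xe25 ye20 ze15)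 (ke xe31 ye40 ze44) (ke xe31 ye48 ze2) (ke xe25 ye20 ze23) (ke xe31 ye41 ze43) (ke xe32 ye12 ze59) (ke xe25 ye20 ze26) (ke xe28 ye50 ze43) (ke xe32 ye40 ze39) (ke xe31 ye41 ze12) (ke xe31 ye20 ze41) (ke xe25 ye20 ze30) (ke xe32 ye58 ze12) (ke xe25 ye20 ze39) (ke xe25 ye20 ze40) (ke xe29 ye38 ze59) (ke xe31 ye41 ze33) (ke xe29 ye2 ze44) (ke xe32 ye38 ze33) (ke xe32 ye5 ze18) (ke xe32 ye27 ze16) (ke xe32 ye43 ze24) (ke xe25 ye20 ze51) (ke xe29 ye7 ze29) (ke xe32 ye56 ze18) (ke xe32 ye56 ze13) (ke xe28 ye49 ze17) (ke xe32 ye35 ze19) (ke xe32 ye51 ze61) (ke xe25 ye22 ze13) (ke xe31 ye39 ze50) (ke xe31 ye52 ze51) (ke xe32 ye52 ze0) (ke xe25 ye20 ze55) (ke xe28 ye55 ze20) (ke xe32 ye56 ze32) (ke xe31 ye26 ze8) (ke xe25 ye21 ze3) (ke xe32 ye58 ze17) (ke xe29 ye45 ze43) (ke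 xe30 ye34 ze21) (ke xe25 ye20 ze61) (ke xe25 ye21 ze0) (ke xe32 ye50 ze13) (ke xe30 ye29 ze18) (ke xe25 ye21 ze2) (ke xe31 ye33 ze21) (ke xe32 ye54 ze34) (ke xe25 ye21 ze4) (ke xe32 ye47 ze18) (ke xe32 ye44 ze42) (ke xe25 ye37 ze38) (ke xe32 ye46 ze16) (ke xe25 ye21 ze15) (ke xe31 ye52 ze4) (ke xe31 ye21 ze10)) (@D3.rec (fun _ => Pt) (ke xe25 ye21 ze23) (ke xe31 ye22 ze3) (ke xe32 ye18 ze3) (ke xe31 ye52 ze29) (ke xe31 ye51 ze60) (ke xe25 ye21 ze24) (ke xe28 ye59 ze57) (ke xe25 ye21 ze33) (ke xe30 ye18 ze53) (ke xe31 ye31 ze58) (ke xe32 ye20 ze46) (ke xe32 ye41 ze29) (ke xe32 ye51 ze43) (ke xe32 ye57 ze38) (ke xe32 ye20 ze34) (ke xe32 ye23 ze23) (ke xe32 ye58 ze23) (ke xe25 ye21 ze35) (ke xe28 ye51 ze35) (ke xe32 ye52 ze39) (ke xe32 ye47 ze8) (ke xe28 ye55 ze30) (ke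 xe32 ye40 ze43) (ke xe30 ye21 ze32) (ke xe32 ye58 ze24) (ke xe25 ye21 ze41) (ke xe30 ye21 ze44) (ke xe32 ye58 ze26) (ke xe25 ye21 ze43) (ke xe31 ye52 ze3) (ke xe25 ye21 ze44) (ke xe31 ye41 ze50) (ke xe25 ye21 ze45) (ke xe29 ye14 ze12) (ke xe30 ye27 ze14) (ke xe25 ye21 ze48) (ke xe32 ye44 ze44) (ke xe25 ye21 ze49) (ke xe31 ye19 ze29) (ke xe25 ye21 ze54) (ke xe31 ye36 ze60) (ke xe25 ye21 ze57) (ke xe29 ye41 ze39) (ke xe32 ye56 ze12) (ke xe27 ye7 ze20) (ke xe28 ye58 ze28) (ke xe32 ye42 ze14) (ke xe28 ye59 ze54) (ke xe25 ye22 ze10) (ke xe27 ye12 ze3) (ke xe28 ye59 ze26) (ke xe31 ye51 ze37) (ke xe25 ye22 ze15) (ke xe28 ye36 ze53) (ke xe25 ye52 ze32) (ke xe32 ye24 ze6) (ke xe25 ye22 ze24) (ke xe25 ye22 ze29) (ke xe32 ye57 ze37) (ke xe25 ye22 ze39) (ke xe29 ye4 ze26) (ke xe26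 ye6 ze10)) (@D3.rec (fun _ => Pt) (ke xe32 ye34 ze51) (ke xe31 ye4 ze51) (ke xe31 ye46 ze49) (ke xe32 ye58 ze27) (ke xe25 ye23 ze3) (ke xe32 ye43 ze26) (ke xe31 ye27 ze49) (ke xe30 ye49 ze2) (ke xe32 ye53 ze58) (ke xe25 ye23 ze2) (ke xe32 ye3 ze31) (ke xe31 ye57 ze33) (ke xe25 ye23 ze25) (ke xe32 ye20 ze45) (ke xe28 ye59 ze32) (ke xe32 ye58 ze31) (ke xe28 ye54 ze48) (ke xe32 ye4 ze25) (ke xe32 ye46 ze15) (ke xe28 ye34 ze38) (ke xe25 ye24 ze3) (ke xe27 ye54 ze58) (ke xe31 ye0 ze26) (ke xe25 ye24 ze6) (ke xe31 ye36 ze46) (ke xe25 ye35 ze31) (ke xe27 ye42 ze36) (ke xe25 ye24 ze25) (ke xe31 ye31 ze26) (ke xe28 ye57 ze48) (ke xe29 ye16 ze53) (ke xe25 ye58 ze41) (ke xe28 ye57 ze17) (ke xe25 ye24 ze57) (ke xe30 ye56 ze59) (ke xe25 ye24 ze60) (ke xe28 ye51 ze6) (ke xe27 ye16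 ze12) (ke xe31 ye53 ze43) (ke xe25 ye25 ze21) (ke xe32 ye29 ze23) (ke xe25 ye31 ze12) (ke xe25 ye25 ze37) (ke xe31 ye53 ze38) (ke xe31 ye59 ze7) (ke xe28 ye58 ze39) (ke xe25 ye29 ze38) (ke xe31 ye25 ze3) (ke xe32 ye20 ze2) (ke xe25 ye26 ze19) (ke xe25 ye26 ze22) (ke xe31 ye56 ze7) (ke xe31 ye32 ze39) (ke xe25 ye26 ze24) (ke xe29 ye51 ze3) (ke xe31 ye31 ze32) (ke xe29 ye5 ze31) (ke xe25 ye26 ze27) (ke xe25 ye28 ze32) (ke xe28 ye8 ze14) (ke xe25 ye26 ze30) (ke xe25 ye26 ze36)) (@D3.rec (fun _ => Pt) (ke xe25 ye55 ze59) (ke xe25 ye26 ze41) (ke xe28 ye22 ze8) (ke xe29 ye31 ze17) (ke xe25 ye26 ze60) (ke xe31 ye26 ze30) (ke xe25 ye27 ze6) (ke xe27 ye18 ze49) (ke xe31 ye42 ze59) (ke xe30 ye14 ze32) (ke xe25 ye27 ze34) (ke xe26 ye11 ze4) (ke xe31 ye56 ze58) (ke xe30 ye54 ze59)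 (ke xe32 ye22 ze10) (ke xe29 ye37 ze38) (ke xe28 ye24 ze51) (ke xe31 ye48 ze39) (ke xe25 ye55 ze16) (ke xe32 ye19 ze43) (ke xe30 ye13 ze12) (ke xe32 ye58 ze32) (ke xe25 ye28 ze25) (ke xe32 ye2 ze34) (ke xe32 ye24 ze20) (ke xe29 ye50 ze43) (ke xe26 ye16 ze51) (ke xe29 ye4 ze57) (ke xe30 ye11 ze9) (ke xe25 ye28 ze54) (ke xe26 ye12 ze47) (ke xe25 ye29 ze1) (ke xe25 ye31 ze33) (ke xe31 ye56 ze10) (ke xe31 ye23 ze50) (ke xe25 ye29 ze24) (ke xe31 ye3 ze36) (ke xe25 ye29 ze33) (ke xe29 ye0 ze36) (ke xe27 ye28 ze41) (ke xe25 ye29 ze42) (ke xe25 ye29 ze49) (ke xe25 ye31 ze19) (ke xe26 ye12 ze15) (ke xe31 ye26 ze54) (ke xe28 ye58 ze15) (ke xe31 ye35 ze5) (ke xe32 ye1 ze61) (ke xe25 ye29 ze61) (ke xe32 ye41 ze60) (ke xe26 ye24 ze9) (ke xe25 ye30 ze2) (ke xe29 ye7 ze0) (ke xe26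 ye24 ze31) (ke xe32 ye50 ze11) (ke xe30 ye51 ze44) (ke xe27 ye18 ze47) (ke xe25 ye30 ze41) (ke xe30 ye55 ze59) (ke xe32 ye54 ze37) (ke xe29 ye56 ze6) (ke xe32 ye16 ze20)) (@D3.rec (fun _ => Pt) (ke xe25 ye30 ze28) (ke xe31 ye57 ze17) (ke xe25 ye30 ze29) (ke xe25 ye30 ze33) (ke xe30 ye10 ze6) (ke xe29 ye5 ze5) (ke xe30 ye49 ze0) (ke xe32 ye56 ze46) (ke xe31 ye11 ze36) (ke xe25 ye59 ze19) (ke xe28 ye57 ze55) (ke xe32 ye42 ze24) (ke xe28 ye16 ze32) (ke xe28 ye7 ze50) (ke xe26 ye50 ze46) (ke xe29 ye4 ze11) (ke xe28 ye31 ze39) (ke xe30 ye21 ze0) (ke xe25 ye31 ze34) (ke xe31 ye45 ze17) (ke xe27 ye2 ze60) (ke xe31 ye45 ze29) (ke xe25 ye31 ze51) (ke xe26 ye37 ze20) (ke xe28 ye40 ze37) (ke xe32 ye10 ze47) (ke xe28 ye56 ze48) (ke xe29 ye46 ze19) (ke xe32 ye11 ze56) (ke xe32 ye39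 ze1) (ke xe31 ye27 ze26) (ke xe32 ye4 ze10) (ke xe27 ye19 ze25) (ke xe28 ye40 ze19) (ke xe25 ye32 ze21) (ke xe25 ye32 ze22) (ke xe28 ye51 ze42) (ke xe26 ye57 ze4) (ke xe32 ye43 ze59) (ke xe26 ye56 ze60) (ke xe28 ye46 ze10) (ke xe31 ye50 ze54) (ke xe32 ye34 ze1) (ke xe30 ye29 ze60) (ke xe31 ye21 ze50) (ke xe32 ye52 ze21) (ke xe32 ye12 ze38) (ke xe25 ye32 ze30) (ke xe25 ye45 ze20) (ke xe31 ye57 ze55) (ke xe31 ye42 ze44) (ke xe25 ye32 ze47) (ke xe30 ye11 ze22) (ke xe25 ye32 ze54) (ke xe30 ye55 ze10) (ke xe25 ye32 ze61) (ke xe25 ye33 ze2) (ke xe25 ye56 ze58) (ke xe30 ye19 ze47) (ke xe31 ye10 ze56) (ke xe31 ye47 ze54) (ke xe30 ye26 ze59)) (@D3.rec (fun _ => Pt) (ke xe26 ye38 ze42) (ke xe25 ye33 ze33) (ke xe25 ye33 ze34) (ke xe25 ye33 ze39) (ke xe32 ye42 ze32) (ke xe27 ye44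 ze8) (ke xe27 ye34 ze52) (ke xe31 ye53 ze51) (ke xe25 ye34 ze10) (ke xe30 ye6 ze47) (ke xe31 ye54 ze33) (ke xe30 ye44 ze47) (ke xe28 ye54 ze60) (ke xe25 ye34 ze28) (ke xe25 ye34 ze33) (ke xe25 ye34 ze51) (ke xe32 ye43 ze57) (ke xe32 ye57 ze40) (ke xe25 ye35 ze11) (ke xe25 ye35 ze15) (ke xe28 ye58 ze60) (ke xe25 ye35 ze23) (ke xe27 ye11 ze9) (ke xe25 ye35 ze27) (ke xe31 ye13 ze20) (ke xe32 ye4 ze5) (ke xe28 ye22 ze22) (ke xe25 ye36 ze4) (ke xe32 ye21 ze56) (ke xe32 ye19 ze40) (ke xe31 ye48 ze32) (ke xe32 ye49 ze29) (ke xe32 ye43 ze56) (ke xe29 ye50 ze61) (ke xe32 ye50 ze8) (ke xe32 ye2 ze36) (ke xe28 ye34 ze6) (ke xe29 ye17 ze33) (ke xe31 ye26 ze49) (ke xe25 ye36 ze46) (ke xe29 ye52 ze35) (ke xe30 ye42 ze36) (ke xe30 ye11 ze4) (ke xe31 ye4 ze35) (ke xe29 ye13 ze55) (ke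 xe25 ye42 ze39) (ke xe25 ye39 ze5) (ke xe25 ye37 ze18) (ke xe27 ye51 ze38) (ke xe25 ye38 ze52) (ke xe25 ye37 ze16) (ke xe25 ye42 ze38) (ke xe32 ye50 ze6) (ke xe25 ye37 ze22) (ke xe25 ye37 ze23) (ke xe30 ye0 ze5) (ke xe25 ye37 ze28) (ke xe29 ye13 ze28) (ke xe31 ye54 ze12) (ke xe32 ye46 ze12) (ke xe31 ye18 ze37) (ke xe32 ye58 ze18)) (@D3.rec (fun _ => Pt) (ke xe32 ye41 ze35) (ke xe32 ye51 ze23) (ke xe32 ye25 ze23) (ke xe31 ye18 ze31) (ke xe25 ye37 ze59) (ke xe25 ye38 ze2) (ke xe30 ye36 ze45) (ke xe29 ye57 ze17) (ke xe30 ye15 ze2) (ke xe27 ye22 ze41) (ke xe29 ye5 ze33) (ke xe31 ye57 ze27) (ke xe25 ye38 ze10) (ke xe31 ye35 ze18) (ke xe25 ye38 ze20) (ke xe32 ye16 ze7) (ke xe25 ye38 ze29) (ke xe31 ye55 ze1) (ke xe32 ye16 ze22) (ke xe31 ye10 ze37) (ke xe27 ye23 ze32) (ke xe31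 ye4 ze42) (ke xe31 ye2 ze10) (ke xe31 ye4 ze2) (ke xe26 ye8 ze30) (ke xe32 ye55 ze46) (ke xe26 ye48 ze30) (ke xe31 ye57 ze11) (ke xe30 ye10 ze37) (ke xe30 ye41 ze0) (ke xe28 ye49 ze42) (ke xe29 ye57 ze21) (ke xe31 ye0 ze61) (ke xe31 ye53 ze11) (ke xe31 ye2 ze59) (ke xe32 ye50 ze9) (ke xe25 ye38 ze60) (ke xe32 ye50 ze44) (ke xe25 ye39 ze1) (ke xe30 ye20 ze34) (ke xe31 ye58 ze9) (ke xe25 ye39 ze4) (ke xe26 ye48 ze31) (ke xe30 ye4 ze50) (ke xe31 ye39 ze60) (ke xe29 ye13 ze59) (ke xe30 ye10 ze40) (ke xe32 ye26 ze48) (ke xe25 ye39 ze7) (ke xe27 ye41 ze24) (ke xe25 ye40 ze55) (ke xe32 ye26 ze60) (ke xe25 ye39 ze23) (ke xe31 ye43 ze10) (ke xe32 ye55 ze59) (ke xe31 ye55 ze49) (ke xe32 ye15 ze13) (ke xe30 ye13 ze1) (ke xe32 ye33 ze43) (ke xe31 ye6 ze52) (ke xe32 ye41 ze61) (ke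 xe25 ye39 ze58)) (@D3.rec (fun _ => Pt) (ke xe31 ye8 ze21) (ke xe31 ye4 ze13) (ke xe25 ye40 ze0) (ke xe32 ye33 ze7) (ke xe31 ye16 ze47) (ke xe26 ye51 ze4) (ke xe27 ye35 ze18) (ke xe27 ye22 ze42) (ke xe31 ye58 ze19) (ke xe31 ye57 ze40) (ke xe28 ye37 ze44) (ke xe28 ye37 ze47) (ke xe26 ye50 ze59) (ke xe26 ye23 ze40) (ke xe28 ye45 ze59) (ke xe25 ye40 ze44) (ke xe26 ye24 ze21) (ke xe29 ye48 ze59) (ke xe27 ye44 ze28) (ke xe31 ye58 ze8) (ke xe29 ye58 ze21) (ke xe26 ye1 ze47) (ke xe29 ye14 ze6) (ke xe27 ye57 ze20) (ke xe29 ye58 ze20) (ke xe31 ye33 ze44) (ke xe25 ye41 ze57) (ke xe25 ye41 ze58) (ke xe27 ye23 ze43) (ke xe26 ye46 ze14) (ke xe28 ye40 ze0) (ke xe32 ye38 ze3) (ke xe31 ye37 ze24) (ke xe31 ye17 ze0) (ke xe30 ye34 ze53) (ke xe31 ye10 ze17) (ke xe29 ye26 ze50) (ke xe31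 ye4 ze55) (ke xe32 ye52 ze18) (ke xe29 ye46 ze38) (ke xe32 ye29 ze8) (ke xe25 ye42 ze41) (ke xe32 ye58 ze29) (ke xe30 ye32 ze35) (ke xe25 ye42 ze47) (ke xe25 ye42 ze48) (ke xe32 ye48 ze57) (ke xe31 ye16 ze39) (ke xe32 ye39 ze10) (ke xe25 ye42 ze58) (ke xe32 ye31 ze3) (ke xe27 ye42 ze20) (ke xe25 ye43 ze22) (ke xe26 ye0 ze8) (ke xe28 ye52 ze37) (ke xe28 ye23 ze4) (ke xe25 ye53 ze39) (ke xe25 ye59 ze34) (ke xe32 ye0 ze4) (ke xe25 ye43 ze50) (ke xe28 ye11 ze15) (ke xe32 ye4 ze15)) (@D3.rec (fun _ => Pt) (ke xe30 ye32 ze46) (ke xe32 ye28 ze12) (ke xe32 ye48 ze28) (ke xe31 ye5 ze19) (ke xe32 ye15 ze57) (ke xe28 ye11 ze56) (ke xe27 ye11 ze32) (ke xe31 ye53 ze44) (ke xe28 ye59 ze60) (ke xe29 ye17 ze4) (ke xe30 ye0 ze8) (ke xe29 ye43 ze59) (ke xe32 ye27 ze47) (ke xe25 ye45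 ze40) (ke xe32 ye24 ze48) (ke xe32 ye29 ze43) (ke xe32 ye10 ze12) (ke xe31 ye15 ze32) (ke xe27 ye33 ze29) (ke xe32 ye14 ze23) (ke xe32 ye3 ze29) (ke xe25 ye46 ze15) (ke xe29 ye48 ze56) (ke xe25 ye46 ze20) (ke xe26 ye27 ze50) (ke xe26 ye38 ze31) (ke xe32 ye3 ze47) (ke xe30 ye17 ze46) (ke xe27 ye26 ze2) (ke xe26 ye18 ze39) (ke xe27 ye50 ze32) (ke xe30 ye32 ze1) (ke xe31 ye42 ze17) (ke xe25 ye47 ze3) (ke xe25 ye47 ze4) (ke xe25 ye48 ze1) (ke xe30 ye26 ze14) (ke xe25 ye47 ze11) (ke xe25 ye47 ze14) (ke xe30 ye55 ze51) (ke xe32 ye27 ze61) (ke xe25 ye47 ze33) (ke xe32 ye53 ze39) (ke xe25 ye47 ze41) (ke xe32 ye35 ze18) (ke xe30 ye24 ze48) (ke xe25 ye47 ze52) (ke xe26 ye30 ze13) (ke xe32 ye8 ze37) (ke xe26 ye31 ze2) (ke xe27 ye52 ze29) (ke xe25 ye48 ze13) (ke xe28 ye23 ze23)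 (ke xe28 ye10 ze10) (ke xe25 ye48 ze19) (ke xe32 ye22 ze25) (ke xe30 ye53 ze0) (ke xe25 ye48 ze25) (ke xe29 ye6 ze60) (ke xe31 ye44 ze5) (ke xe25 ye48 ze41) (ke xe26 ye30 ze59))
def f_e_32 : D2 → D3 → Pt := @D2.rec (fun _ => D3 → Pt) (@D3.rec (fun _ => Pt) (ke xe28 ye32 ze4) (ke xe25 ye48 ze53) (ke xe30 ye7 ze48) (ke xe27 ye55 ze28) (ke xe31 ye58 ze58) (ke xe25 ye49 ze2) (ke xe31 ye41 ze24) (ke xe31 ye49 ze40) (ke xe25 ye49 ze17) (ke xe28 ye32 ze26) (ke xe31 ye3 ze31) (ke xe31 ye49 ze47) (ke xe29 ye36 ze22) (ke xe32 ye15 ze53) (ke xe25 ye49 ze51) (ke xe28 ye48 ze35) (ke xe31 ye26 ze55) (ke xe31 ye3 ze44) (ke xe31 ye23 ze19) (ke xe25 ye50 ze1) (ke xe25 ye50 ze16) (ke xe28 ye58 ze58) (ke xe29 ye35 ze0) (ke xe28 ye59 ze36) (ke xe27 ye21 ze28) (ke xe28 ye31 ze51) (ke xe25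 ye50 ze26) (ke xe30 ye17 ze21) (ke xe31 ye31 ze30) (ke xe29 ye23 ze36) (ke xe30 ye51 ze13) (ke xe25 ye50 ze42) (ke xe28 ye46 ze5) (ke xe32 ye27 ze54) (ke xe25 ye50 ze52) (ke xe30 ye46 ze41) (ke xe31 ye25 ze57) (ke xe25 ye50 ze54) (ke xe25 ye50 ze55) (ke xe25 ye50 ze60) (ke xe30 ye0 ze10) (ke xe27 ye24 ze4) (ke xe30 ye8 ze7) (ke xe25 ye51 ze8) (ke xe25 ye51 ze11) (ke xe26 ye0 ze0) (ke xe25 ye51 ze19) (ke xe28 ye52 ze46) (ke xe26 ye42 ze61) (ke xe28 ye22 ze27) (ke xe32 ye23 ze9) (ke xe29 ye2 ze10) (ke xe30 ye29 ze11) (ke xe30 ye29 ze12) (ke xe30 ye58 ze38) (ke xe32 ye37 ze51) (ke xe25 ye52 ze20) (ke xe25 ye52 ze33) (ke xe32 ye39 ze18) (ke xe30 ye21 ze51) (ke xe25 ye52 ze41) (ke xe25 ye52 ze48)) (@D3.rec (fun _ => Pt) (ke xe25 ye52 ze52) (ke xe26 ye40 ze44) (ke xe25 ye52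 ze55) (ke xe25 ye53 ze0) (ke xe25 ye53 ze2) (ke xe31 ye20 ze31) (ke xe30 ye34 ze26) (ke xe31 ye17 ze10) (ke xe32 ye44 ze13) (ke xe31 ye19 ze37) (ke xe32 ye15 ze41) (ke xe30 ye33 ze6) (ke xe25 ye53 ze24) (ke xe31 ye16 ze18) (ke xe30 ye27 ze36) (ke xe32 ye22 ze6) (ke xe25 ye57 ze21) (ke xe25 ye54 ze14) (ke xe31 ye49 ze19) (ke xe32 ye25 ze13) (ke xe27 ye24 ze20) (ke xe25 ye54 ze4) (ke xe25 ye54 ze6) (ke xe30 ye55 ze21) (ke xe27 ye10 ze12) (ke xe31 ye10 ze48) (ke xe29 ye59 ze20) (ke xe31 ye3 ze46) (ke xe27 ye3 ze27) (ke xe25 ye54 ze22) (ke xe27 ye1 ze59) (ke xe32 ye47 ze1) (ke xe27 ye53 ze1) (ke xe29 ye41 ze56) (ke xe31 ye16 ze56) (ke xe25 ye54 ze27) (ke xe30 ye55 ze14) (ke xe30 ye34 ze56) (ke xe25 ye54 ze33) (ke xe25 ye54 ze35) (ke xe32 ye58 ze45) (ke xe29 ye41 ze20) (ke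 xe30 ye48 ze5) (ke xe25 ye59 ze37) (ke xe28 ye32 ze6) (ke xe26 ye19 ze25) (ke xe30 ye3 ze11) (ke xe25 ye59 ze13) (ke xe31 ye49 ze21) (ke xe29 ye4 ze3) (ke xe30 ye47 ze54) (ke xe25 ye55 ze17) (ke xe27 ye15 ze31) (ke xe29 ye23 ze53) (ke xe30 ye50 ze54) (ke xe25 ye55 ze29) (ke xe25 ye55 ze32) (ke xe27 ye15 ze25) (ke xe32 ye32 ze26) (ke xe25 ye55 ze52) (ke xe25 ye55 ze53) (ke xe31 ye54 ze47)) (@D3.rec (fun _ => Pt) (ke xe30 ye53 ze41) (ke xe31 ye48 ze54) (ke xe29 ye47 ze9) (ke xe25 ye56 ze21) (ke xe25 ye56 ze23) (ke xe27 ye14 ze28) (ke xe27 ye24 ze16) (ke xe30 ye55 ze33) (ke xe28 ye49 ze29) (ke xe29 ye41 ze34) (ke xe25 ye56 ze37) (ke xe31 ye15 ze59) (ke xe25 ye56 ze39) (ke xe30 ye36 ze36) (ke xe32 ye40 ze46) (ke xe31 ye36 ze53) (ke xe31 ye20 ze36) (ke xe32 ye16 ze23) (ke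 xe27 ye16 ze52) (ke xe25 ye56 ze53) (ke xe31 ye47 ze13) (ke xe25 ye57 ze13) (ke xe27 ye10 ze32) (ke xe27 ye42 ze38) (ke xe30 ye54 ze46) (ke xe30 ye54 ze45) (ke xe32 ye22 ze48) (ke xe29 ye14 ze7) (ke xe25 ye57 ze42) (ke xe26 ye1 ze34) (ke xe25 ye57 ze43) (ke xe29 ye47 ze57) (ke xe29 ye5 ze34) (ke xe32 ye42 ze10) (ke xe31 ye54 ze23) (ke xe29 ye15 ze48) (ke xe31 ye56 ze35) (ke xe32 ye54 ze31) (ke xe25 ye57 ze60) (ke xe27 ye53 ze53) (ke xe32 ye34 ze29) (ke xe32 ye49 ze52) (ke xe32 ye15 ze54) (ke xe25 ye59 ze46) (ke xe30 ye6 ze4) (ke xe31 ye18 ze45) (ke xe30 ye12 ze7) (ke xe32 ye31 ze49) (ke xe31 ye42 ze18) (ke xe25 ye58 ze44) (ke xe27 ye15 ze46) (ke xe25 ye59 ze11) (ke xe32 ye42 ze12) (ke xe31 ye4 ze40) (ke xe27 ye1 ze44) (ke xe27 ye30 ze43) (ke xe32 ye36 ze58) (ke xe30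 ye51 ze40) (ke xe31 ye10 ze11) (ke xe25 ye59 ze3) (ke xe27 ye1 ze47) (ke xe30 ye56 ze27)) (@D3.rec (fun _ => Pt) (ke xe28 ye35 ze21) (ke xe28 ye35 ze23) (ke xe25 ye59 ze35) (ke xe27 ye21 ze24) (ke xe28 ye53 ze37) (ke xe28 ye53 ze23) (ke xe30 ye12 ze29) (ke xe30 ye14 ze4) (ke xe27 ye43 ze51) (ke xe30 ye2 ze56) (ke xe31 ye45 ze2) (ke xe29 ye6 ze25) (ke xe26 ye1 ze9) (ke xe26 ye1 ze26) (ke xe32 ye42 ze9) (ke xe30 ye4 ze29) (ke xe31 ye10 ze31) (ke xe29 ye12 ze7) (ke xe31 ye34 ze6) (ke xe29 ye13 ze56) (ke xe30 ye24 ze41) (ke xe26 ye8 ze29) (ke xe27 ye43 ze54) (ke xe28 ye51 ze33) (ke xe26 ye34 ze23) (ke xe32 ye43 ze34) (ke xe26 ye2 ze0) (ke xe26 ye34 ze24) (ke xe32 ye10 ze27) (ke xe31 ye59 ze20) (ke xe32 ye38 ze22) (ke xe31 ye53 ze10) (ke xe26 ye2 ze42) (ke xe32 ye33 ze37)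 (ke xe26 ye33 ze20) (ke xe32 ye11 ze23) (ke xe29 ye45 ze56) (ke xe26 ye38 ze37) (ke xe32 ye28 ze9) (ke xe31 ye41 ze38) (ke xe26 ye3 ze19) (ke xe30 ye36 ze35) (ke xe26 ye26 ze33) (ke xe26 ye3 ze52) (ke xe27 ye27 ze45) (ke xe26 ye3 ze45) (ke xe29 ye6 ze6) (ke xe31 ye59 ze26) (ke xe26 ye4 ze19) (ke xe27 ye37 ze59) (ke xe30 ye3 ze7) (ke xe26 ye4 ze27) (ke xe31 ye11 ze5) (ke xe32 ye28 ze45) (ke xe31 ye6 ze56) (ke xe26 ye4 ze38) (ke xe27 ye47 ze39) (ke xe31 ye15 ze23) (ke xe27 ye16 ze29) (ke xe26 ye4 ze41) (ke xe26 ye4 ze42) (ke xe29 ye44 ze16)) (@D3.rec (fun _ => Pt) (ke xe26 ye4 ze43) (ke xe29 ye44 ze33) (ke xe31 ye27 ze21) (ke xe32 ye45 ze56) (ke xe30 ye29 ze39) (ke xe31 ye56 ze25) (ke xe26 ye11 ze12) (ke xe30 ye9 ze28) (ke xe31 ye35 ze0) (ke xe28 ye56 ze47) (ke xe31 ye55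 ze31) (ke xe30 ye53 ze47) (ke xe31 ye21 ze46) (ke xe26 ye41 ze48) (ke xe30 ye12 ze20) (ke xe31 ye58 ze61) (ke xe30 ye23 ze3) (ke xe32 ye45 ze16) (ke xe26 ye6 ze8) (ke xe30 ye21 ze30) (ke xe26 ye6 ze11) (ke xe32 ye41 ze32) (ke xe26 ye6 ze16) (ke xe26 ye6 ze17) (ke xe30 ye21 ze25) (ke xe31 ye53 ze17) (ke xe32 ye58 ze25) (ke xe32 ye58 ze10) (ke xe32 ye17 ze42) (ke xe31 ye20 ze4) (ke xe26 ye6 ze27) (ke xe29 ye52 ze4) (ke xe26 ye6 ze36) (ke xe30 ye2 ze46) (ke xe29 ye17 ze8) (ke xe29 ye57 ze52) (ke xe26 ye6 ze44) (ke xe26 ye6 ze50) (ke xe32 ye54 ze12) (ke xe26 ye6 ze61) (ke xe29 ye55 ze23) (ke xe30 ye5 ze32) (ke xe30 ye2 ze25) (ke xe31 ye8 ze45) (ke xe26 ye7 ze27) (ke xe30 ye44 ze21) (ke xe30 ye17 ze27) (ke xe32 ye54 ze23) (ke xe30 ye10 ze16) (ke xe28 ye13 ze25) (ke xe29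 ye57 ze0) (ke xe32 ye26 ze58) (ke xe32 ye43 ze6) (ke xe29 ye26 ze49) (ke xe32 ye30 ze46) (ke xe32 ye53 ze15) (ke xe31 ye3 ze1) (ke xe31 ye0 ze60) (ke xe31 ye2 ze13) (ke xe29 ye10 ze10) (ke xe30 ye52 ze20) (ke xe30 ye35 ze3)) (@D3.rec (fun _ => Pt) (ke xe30 ye3 ze3) (ke xe26 ye8 ze44) (ke xe26 ye8 ze49) (ke xe26 ye8 ze50) (ke xe30 ye57 ze8) (ke xe32 ye15 ze60) (ke xe29 ye27 ze13) (ke xe26 ye9 ze14) (ke xe32 ye53 ze11) (ke xe32 ye54 ze4) (ke xe26 ye9 ze26) (ke xe32 ye53 ze17) (ke xe31 ye32 ze54) (ke xe26 ye9 ze33) (ke xe31 ye30 ze19) (ke xe26 ye9 ze36) (ke xe26 ye9 ze43) (ke xe28 ye31 ze42) (ke xe31 ye51 ze25) (ke xe26 ye9 ze48) (ke xe29 ye11 ze54) (ke xe32 ye39 ze12) (ke xe26 ye10 ze3) (ke xe29 ye13 ze43) (ke xe31 ye32 ze53) (ke xe26 ye40 ze49) (ke xe26 ye59 ze30) (ke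 xe26 ye10 ze51) (ke xe28 ye32 ze16) (ke xe29 ye22 ze27) (ke xe26 ye11 ze23) (ke xe26 ye12 ze0) (ke xe26 ye11 ze24) (ke xe27 ye29 ze60) (ke xe31 ye45 ze5) (ke xe32 ye38 ze4) (ke xe31 ye34 ze3) (ke xe26 ye11 ze42) (ke xe26 ye11 ze45) (ke xe32 ye44 ze60) (ke xe26 ye16 ze6) (ke xe32 ye38 ze10) (ke xe26 ye11 ze48) (ke xe32 ye25 ze3) (ke xe26 ye11 ze56) (ke xe32 ye55 ze11) (ke xe26 ye11 ze50) (ke xe28 ye44 ze5) (ke xe32 ye5 ze58) (ke xe28 ye41 ze44) (ke xe32 ye35 ze24) (ke xe26 ye11 ze52) (ke xe32 ye25 ze14) (ke xe31 ye33 ze58) (ke xe26 ye11 ze58) (ke xe30 ye57 ze24) (ke xe31 ye2 ze9) (ke xe32 ye38 ze5) (ke xe32 ye5 ze48) (ke xe27 ye52 ze26) (ke xe30 ye35 ze32) (ke xe26 ye12 ze14)) (@D3.rec (fun _ => Pt) (ke xe27 ye27 ze51) (ke xe32 ye9 ze45) (ke xe26 ye12 ze50) (ke xe26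 ye45 ze48) (ke xe31 ye39 ze11) (ke xe28 ye7 ze2) (ke xe31 ye8 ze19) (ke xe32 ye58 ze47) (ke xe32 ye7 ze47) (ke xe26 ye13 ze40) (ke xe26 ye13 ze43) (ke xe26 ye13 ze44) (ke xe26 ye13 ze47) (ke xe27 ye25 ze15) (ke xe29 ye16 ze3) (ke xe26 ye13 ze55) (ke xe26 ye13 ze58) (ke xe26 ye14 ze0) (ke xe29 ye52 ze10) (ke xe27 ye31 ze50) (ke xe26 ye14 ze39) (ke xe27 ye44 ze55) (ke xe26 ye14 ze58) (ke xe26 ye16 ze41) (ke xe27 ye49 ze4) (ke xe26 ye21 ze27) (ke xe28 ye3 ze38) (ke xe32 ye8 ze49) (ke xe26 ye15 ze22) (ke xe30 ye52 ze48) (ke xe26 ye31 ze30) (ke xe32 ye16 ze15) (ke xe31 ye5 ze27) (ke xe27 ye39 ze46) (ke xe26 ye15 ze34) (ke xe26 ye21 ze30) (ke xe26 ye15 ze39) (ke xe26 ye15 ze40) (ke xe28 ye2 ze11) (ke xe28 ye3 ze59) (ke xe30 ye58 ze4) (ke xe32 ye49 ze23) (ke xe31 ye34 ze2)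 (ke xe26 ye16 ze17) (ke xe26 ye16 ze18) (ke xe27 ye45 ze30) (ke xe27 ye51 ze13) (ke xe32 ye56 ze19) (ke xe27 ye52 ze20) (ke xe30 ye23 ze15) (ke xe32 ye31 ze29) (ke xe32 ye26 ze3) (ke xe26 ye16 ze43) (ke xe31 ye27 ze20) (ke xe32 ye42 ze31) (ke xe27 ye46 ze20) (ke xe27 ye36 ze39) (ke xe28 ye9 ze10) (ke xe26 ye17 ze23) (ke xe32 ye27 ze23) (ke xe27 ye35 ze4) (ke xe32 ye26 ze14)) (@D3.rec (fun _ => Pt) (ke xe26 ye17 ze31) (ke xe29 ye23 ze59) (ke xe32 ye18 ze53) (ke xe27 ye42 ze3) (ke xe26 ye17 ze45) (ke xe28 ye20 ze45) (ke xe29 ye5 ze1) (ke xe29 ye3 ze59) (ke xe27 ye30 ze20) (ke xe29 ye12 ze31) (ke xe31 ye46 ze48) (ke xe31 ye4 ze52) (ke xe32 ye26 ze53) (ke xe32 ye43 ze53) (ke xe32 ye29 ze1) (ke xe26 ye18 ze2) (ke xe26 ye18 ze7) (ke xe30 ye23 ze22) (ke xe31 ye44 ze44) (ke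 xe30 ye35 ze14) (ke xe31 ye14 ze38) (ke xe26 ye18 ze32) (ke xe26 ye18 ze47) (ke xe26 ye18 ze49) (ke xe26 ye18 ze51) (ke xe32 ye9 ze26) (ke xe32 ye58 ze52) (ke xe26 ye18 ze56) (ke xe28 ye6 ze10) (ke xe28 ye28 ze48) (ke xe27 ye48 ze4) (ke xe32 ye9 ze58) (ke xe26 ye19 ze24) (ke xe26 ye19 ze29) (ke xe28 ye27 ze16) (ke xe26 ye29 ze57) (ke xe29 ye28 ze22) (ke xe26 ye19 ze61) (ke xe26 ye26 ze39) (ke xe31 ye12 ze44) (ke xe28 ye20 ze30) (ke xe27 ye41 ze44) (ke xe32 ye15 ze31) (ke xe30 ye1 ze44) (ke xe32 ye42 ze15) (ke xe28 ye15 ze1) (ke xe27 ye39 ze51) (ke xe32 ye6 ze8) (ke xe32 ye58 ze46) (ke xe28 ye8 ze19) (ke xe31 ye43 ze31) (ke xe26 ye21 ze5) (ke xe30 ye44 ze29) (ke xe27 ye32 ze53) (ke xe28 ye8 ze61) (ke xe26 ye30 ze53) (ke xe26 ye21 ze20) (ke xe26 ye21 ze23) (ke xe26 ye21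 ze24) (ke xe31 ye44 ze31) (ke xe27 ye49 ze35) (ke xe28 ye46 ze51)) (@D3.rec (fun _ => Pt) (ke xe31 ye14 ze40) (ke xe27 ye52 ze6) (ke xe32 ye9 ze33) (ke xe26 ye59 ze61) (ke xe26 ye21 ze36) (ke xe31 ye50 ze4) (ke xe32 ye35 ze13) (ke xe27 ye15 ze28) (ke xe28 ye0 ze8) (ke xe32 ye51 ze42) (ke xe28 ye56 ze20) (ke xe30 ye49 ze8) (ke xe32 ye42 ze38) (ke xe28 ye20 ze3) (ke xe31 ye22 ze53) (ke xe27 ye15 ze7) (ke xe30 ye12 ze41) (ke xe32 ye54 ze11) (ke xe30 ye57 ze20) (ke xe26 ye23 ze15) (ke xe30 ye7 ze34) (ke xe29 ye1 ze56) (ke xe31 ye3 ze18) (ke xe29 ye53 ze2) (ke xe32 ye48 ze17) (ke xe29 ye53 ze15) (ke xe28 ye29 ze14) (ke xe27 ye54 ze38) (ke xe26 ye24 ze6) (ke xe29 ye19 ze58) (ke xe32 ye16 ze43) (ke xe30 ye51 ze12) (ke xe26 ye24 ze25) (ke xe26 ye29 ze4) (ke xe32 ye10 ze10)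 (ke xe32 ye9 ze43) (ke xe28 ye51 ze45) (ke xe31 ye59 ze48) (ke xe26 ye31 ze50) (ke xe32 ye10 ze15) (ke xe26 ye25 ze16) (ke xe30 ye31 ze39) (ke xe29 ye27 ze40) (ke xe26 ye25 ze10) (ke xe26 ye25 ze13) (ke xe32 ye28 ze2) (ke xe27 ye23 ze12) (ke xe29 ye0 ze27) (ke xe26 ye27 ze28) (ke xe32 ye6 ze27) (ke xe29 ye53 ze13) (ke xe32 ye9 ze27) (ke xe32 ye28 ze8) (ke xe32 ye30 ze48) (ke xe30 ye22 ze3) (ke xe30 ye29 ze41) (ke xe26 ye56 ze34) (ke xe26 ye26 ze45) (ke xe27 ye15 ze23) (ke xe26 ye26 ze56) (ke xe30 ye20 ze25) (ke xe26 ye27 ze21)) (@D3.rec (fun _ => Pt) (ke xe32 ye33 ze3) (ke xe28 ye33 ze43) (ke xe31 ye20 ze11) (ke xe26 ye27 ze26) (ke xe32 ye30 ze57) (ke xe31 ye15 ze11) (ke xe32 ye36 ze50) (ke xe30 ye21 ze38) (ke xe32 ye52 ze36) (ke xe27 ye13 ze37) (ke xe29 ye35 ze7) (ke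 xe29 ye40 ze49) (ke xe26 ye27 ze41) (ke xe26 ye27 ze51) (ke xe26 ye32 ze15) (ke xe32 ye29 ze57) (ke xe31 ye29 ze22) (ke xe31 ye31 ze53) (ke xe26 ye27 ze61) (ke xe29 ye40 ze50) (ke xe30 ye42 ze50) (ke xe26 ye55 ze41) (ke xe26 ye56 ze18) (ke xe32 ye16 ze26) (ke xe29 ye52 ze43) (ke xe31 ye15 ze26) (ke xe32 ye7 ze25) (ke xe32 ye8 ze51) (ke xe32 ye21 ze19) (ke xe30 ye49 ze5) (ke xe30 ye43 ze24) (ke xe28 ye38 ze23) (ke xe29 ye16 ze22) (ke xe32 ye8 ze2) (ke xe32 ye41 ze42) (ke xe31 ye25 ze14) (ke xe31 ye43 ze25) (ke xe27 ye51 ze30) (ke xe30 ye56 ze7) (ke xe28 ye15 ze39) (ke xe26 ye29 ze19) (ke xe32 ye41 ze26) (ke xe29 ye20 ze57) (ke xe32 ye8 ze35) (ke xe32 ye44 ze4) (ke xe32 ye6 ze1) (ke xe29 ye39 ze16) (ke xe28 ye6 ze27) (ke xe30 ye20 ze40) (ke xe32 ye28 ze13) (ke xe28 ye13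 ze33) (ke xe31 ye47 ze28) (ke xe32 ye29 ze30) (ke xe29 ye12 ze17) (ke xe27 ye56 ze46) (ke xe28 ye43 ze38) (ke xe32 ye49 ze54) (ke xe28 ye33 ze44) (ke xe32 ye7 ze31) (ke xe31 ye39 ze30) (ke xe26 ye31 ze35) (ke xe31 ye39 ze28)) (@D3.rec (fun _ => Pt) (ke xe30 ye48 ze15) (ke xe26 ye30 ze38) (ke xe26 ye32 ze35) (ke xe29 ye24 ze52) (ke xe31 ye10 ze0) (ke xe27 ye33 ze54) (ke xe32 ye29 ze35) (ke xe32 ye31 ze7) (ke xe28 ye6 ze47) (ke xe27 ye51 ze51) (ke xe32 ye8 ze34) (ke xe26 ye31 ze3) (ke xe31 ye59 ze16) (ke xe26 ye31 ze20) (ke xe32 ye26 ze30) (ke xe32 ye8 ze39) (ke xe32 ye49 ze34) (ke xe26 ye31 ze31) (ke xe28 ye55 ze40) (ke xe26 ye31 ze45) (ke xe32 ye54 ze44) (ke xe28 ye3 ze18) (ke xe31 ye42 ze19) (ke xe31 ye42 ze41) (ke xe26 ye32 ze12) (ke xe32 ye37 ze14) (ke xe29 ye29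 ze23) (ke xe32 ye3 ze28) (ke xe32 ye18 ze20) (ke xe26 ye32 ze47) (ke xe26 ye33 ze9) (ke xe27 ye44 ze46) (ke xe29 ye43 ze24) (ke xe29 ye43 ze35) (ke xe32 ye44 ze35) (ke xe29 ye47 ze10) (ke xe32 ye14 ze26) (ke xe26 ye33 ze30) (ke xe26 ye33 ze43) (ke xe32 ye10 ze56) (ke xe29 ye26 ze9) (ke xe27 ye7 ze42) (ke xe31 ye29 ze47) (ke xe29 ye47 ze14) (ke xe32 ye41 ze44) (ke xe26 ye39 ze38) (ke xe32 ye37 ze50) (ke xe31 ye55 ze25) (ke xe29 ye9 ze31) (ke xe31 ye47 ze31) (ke xe32 ye47 ze40) (ke xe30 ye15 ze29) (ke xe32 ye21 ze0) (ke xe29 ye46 ze16) (ke xe27 ye35 ze58) (ke xe32 ye11 ze19) (ke xe32 ye10 ze39) (ke xe26 ye34 ze12) (ke xe29 ye0 ze12) (ke xe32 ye56 ze14) (ke xe29 ye44 ze44) (ke xe26 ye34 ze18)) (@D3.rec (fun _ => Pt) (ke xe29 ye36 ze19) (ke xe29 ye27 ze28) (ke xe32 ye43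 ze28) (ke xe26 ye34 ze22) (ke xe27 ye14 ze2) (ke xe26 ye34 ze29) (ke xe27 ye18 ze52) (ke xe28 ye58 ze30) (ke xe32 ye58 ze41) (ke xe27 ye19 ze19) (ke xe32 ye38 ze58) (ke xe27 ye2 ze40) (ke xe32 ye45 ze7) (ke xe26 ye40 ze37) (ke xe29 ye47 ze33) (ke xe32 ye50 ze61) (ke xe32 ye13 ze59) (ke xe32 ye40 ze22) (ke xe28 ye30 ze10) (ke xe32 ye10 ze55) (ke xe31 ye30 ze58) (ke xe26 ye34 ze51) (ke xe32 ye43 ze1) (ke xe32 ye3 ze35) (ke xe27 ye18 ze50) (ke xe32 ye11 ze35) (ke xe31 ye30 ze60) (ke xe32 ye17 ze7) (ke xe28 ye54 ze58) (ke xe32 ye56 ze30) (ke xe26 ye35 ze6) (ke xe27 ye8 ze12) (ke xe26 ye35 ze12) (ke xe31 ye31 ze42) (ke xe26 ye35 ze14) (ke xe32 ye11 ze25) (ke xe26 ye35 ze17) (ke xe26 ye35 ze19) (ke xe26 ye35 ze20) (ke xe26 ye35 ze24) (ke xe32 ye12 ze26) (ke xe26 ye35 ze23)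 (ke xe32 ye47 ze45) (ke xe28 ye32 ze22) (ke xe27 ye18 ze59) (ke xe30 ye39 ze10) (ke xe32 ye34 ze25) (ke xe29 ye10 ze38) (ke xe30 ye17 ze10) (ke xe29 ye44 ze6) (ke xe32 ye57 ze26) (ke xe29 ye52 ze44) (ke xe26 ye35 ze44) (ke xe26 ye35 ze46) (ke xe32 ye54 ze26) (ke xe26 ye35 ze49) (ke xe31 ye55 ze28) (ke xe32 ye33 ze9) (ke xe26 ye35 ze50) (ke xe30 ye30 ze29) (ke xe30 ye31 ze17) (ke xe26 ye35 ze52)) (@D3.rec (fun _ => Pt) (ke xe28 ye40 ze39) (ke xe29 ye46 ze6) (ke xe26 ye35 ze57) (ke xe29 ye45 ze20) (ke xe30 ye15 ze14) (ke xe32 ye17 ze6) (ke xe26 ye35 ze60) (ke xe30 ye15 ze13) (ke xe27 ye35 ze28) (ke xe32 ye47 ze37) (ke xe32 ye47 ze41) (ke xe32 ye20 ze59) (ke xe32 ye45 ze25) (ke xe32 ye23 ze4) (ke xe26 ye36 ze11) (ke xe32 ye12 ze48) (ke xe26 ye36 ze9) (ke xe32 ye13 ze37)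 (ke xe32 ye37 ze47) (ke xe29 ye33 ze20) (ke xe32 ye50 ze59) (ke xe26 ye36 ze14) (ke xe32 ye58 ze54) (ke xe32 ye12 ze49) (ke xe31 ye31 ze50) (ke xe31 ye34 ze11) (ke xe32 ye11 ze40) (ke xe32 ye14 ze21) (ke xe32 ye14 ze10) (ke xe27 ye16 ze2) (ke xe30 ye29 ze4) (ke xe31 ye33 ze19) (ke xe26 ye36 ze24) (ke xe32 ye58 ze55) (ke xe32 ye45 ze26) (ke xe32 ye58 ze57) (ke xe26 ye36 ze26) (ke xe30 ye28 ze15) (ke xe31 ye55 ze46) (ke xe26 ye36 ze29) (ke xe31 ye35 ze2) (ke xe30 ye15 ze17) (ke xe28 ye33 ze47) (ke xe31 ye26 ze40) (ke xe26 ye36 ze37) (ke xe32 ye37 ze49) (ke xe26 ye36 ze44) (ke xe31 ye19 ze44) (ke xe32 ye12 ze15) (ke xe32 ye12 ze23) (ke xe28 ye49 ze1) (ke xe29 ye45 ze4) (ke xe26 ye38 ze44) (ke xe30 ye17 ze9) (ke xe30 ye17 ze28) (ke xe29 ye15 ze6) (ke xe26 ye38 ze13) (ke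 xe29 ye18 ze4) (ke xe32 ye50 ze41) (ke xe31 ye51 ze11) (ke xe26 ye37 ze42) (ke xe27 ye33 ze31)) (@D3.rec (fun _ => Pt) (ke xe26 ye37 ze47) (ke xe32 ye43 ze0) (ke xe26 ye37 ze48) (ke xe26 ye37 ze49) (ke xe26 ye37 ze50) (ke xe31 ye9 ze52) (ke xe26 ye37 ze56) (ke xe29 ye46 ze5) (ke xe26 ye38 ze0) (ke xe28 ye40 ze22) (ke xe32 ye46 ze48) (ke xe28 ye50 ze30) (ke xe29 ye43 ze19) (ke xe30 ye15 ze36) (ke xe32 ye33 ze32) (ke xe26 ye38 ze9) (ke xe32 ye38 ze26) (ke xe32 ye40 ze30) (ke xe26 ye41 ze23) (ke xe30 ye17 ze26) (ke xe29 ye45 ze12) (ke xe26 ye59 ze34) (ke xe30 ye16 ze2) (ke xe26 ye40 ze11) (ke xe26 ye38 ze24) (ke xe26 ye38 ze26) (ke xe27 ye10 ze57) (ke xe26 ye38 ze32) (ke xe26 ye39 ze0) (ke xe32 ye45 ze42) (ke xe29 ye4 ze51) (ke xe26 ye38 ze47) (ke xe29 ye26 ze13) (ke xe32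 ye37 ze32) (ke xe32 ye46 ze30) (ke xe29 ye45 ze0) (ke xe30 ye28 ze54) (ke xe32 ye12 ze17) (ke xe26 ye38 ze52) (ke xe27 ye11 ze10) (ke xe32 ye47 ze21) (ke xe26 ye38 ze58) (ke xe32 ye37 ze31) (ke xe29 ye26 ze14) (ke xe26 ye39 ze2) (ke xe29 ye25 ze51) (ke xe26 ye51 ze50) (ke xe26 ye46 ze22) (ke xe32 ye36 ze7) (ke xe26 ye40 ze13) (ke xe26 ye39 ze14) (ke xe30 ye15 ze0) (ke xe30 ye30 ze61) (ke xe31 ye21 ze43) (ke xe27 ye54 ze5) (ke xe28 ye15 ze30) (ke xe32 ye47 ze59) (ke xe26 ye39 ze46) (ke xe26 ye39 ze57) (ke xe32 ye11 ze16) (ke xe26 ye40 ze4) (ke xe27 ye17 ze37)) (@D3.rec (fun _ => Pt) (ke xe32 ye14 ze44) (ke xe32 ye14 ze24) (ke xe32 ye38 ze59) (ke xe32 ye58 ze58) (ke xe30 ye11 ze49) (ke xe29 ye47 ze21) (ke xe29 ye38 ze2) (ke xe26 ye41 ze13) (ke xe29 ye34 ze19) (ke xe26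 ye40 ze23) (ke xe32 ye12 ze28) (ke xe29 ye31 ze10) (ke xe26 ye41 ze16) (ke xe32 ye57 ze8) (ke xe29 ye46 ze25) (ke xe26 ye40 ze50) (ke xe32 ye47 ze7) (ke xe32 ye41 ze6) (ke xe27 ye0 ze18) (ke xe26 ye40 ze45) (ke xe32 ye24 ze14) (ke xe32 ye12 ze27) (ke xe29 ye47 ze4) (ke xe31 ye59 ze19) (ke xe32 ye14 ze1) (ke xe28 ye40 ze41) (ke xe32 ye10 ze36) (ke xe28 ye27 ze59) (ke xe29 ye46 ze56) (ke xe31 ye19 ze8) (ke xe32 ye40 ze53) (ke xe32 ye20 ze60) (ke xe29 ye47 ze11) (ke xe32 ye38 ze28) (ke xe32 ye46 ze45) (ke xe26 ye41 ze28) (ke xe31 ye21 ze56) (ke xe26 ye41 ze58) (ke xe28 ye48 ze27) (ke xe31 ye26 ze43) (ke xe32 ye47 ze52) (ke xe29 ye7 ze33) (ke xe28 ye14 ze27) (ke xe29 ye8 ze31) (ke xe32 ye14 ze0) (ke xe26 ye42 ze45) (ke xe26 ye42 ze50) (ke xe30 ye37 ze52) (ke xe26 ye42 ze52)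 (ke xe27 ye15 ze60) (ke xe28 ye47 ze32) (ke xe28 ye11 ze30) (ke xe30 ye55 ze57) (ke xe27 ye8 ze50) (ke xe26 ye43 ze2) (ke xe31 ye31 ze22) (ke xe28 ye51 ze10) (ke xe30 ye55 ze52) (ke xe32 ye47 ze0) (ke xe30 ye19 ze4) (ke xe32 ye35 ze21) (ke xe27 ye8 ze51)) (@D3.rec (fun _ => Pt) (ke xe32 ye39 ze42) (ke xe30 ye32 ze28) (ke xe31 ye17 ze19) (ke xe30 ye47 ze23) (ke xe27 ye6 ze29) (ke xe28 ye37 ze40) (ke xe32 ye41 ze43) (ke xe28 ye35 ze13) (ke xe28 ye52 ze48) (ke xe31 ye17 ze15) (ke xe32 ye41 ze48) (ke xe32 ye41 ze41) (ke xe26 ye43 ze23) (ke xe31 ye57 ze56) (ke xe28 ye53 ze22) (ke xe28 ye14 ze31) (ke xe32 ye33 ze47) (ke xe26 ye43 ze33) (ke xe28 ye50 ze60) (ke xe26 ye43 ze43) (ke xe28 ye42 ze12) (ke xe26 ye43 ze47) (ke xe26 ye51 ze21) (ke xe31 ye31 ze2) (ke xe30 ye56 ze21)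 (ke xe26 ye43 ze59) (ke xe26 ye44 ze3) (ke xe30 ye36 ze38) (ke xe28 ye56 ze27) (ke xe30 ye39 ze15) (ke xe26 ye44 ze18) (ke xe32 ye7 ze42) (ke xe31 ye36 ze55) (ke xe32 ye22 ze31) (ke xe32 ye47 ze27) (ke xe29 ye34 ze59) (ke xe27 ye23 ze61) (ke xe26 ye45 ze6) (ke xe27 ye30 ze18) (ke xe30 ye27 ze46) (ke xe32 ye54 ze53) (ke xe32 ye1 ze10) (ke xe30 ye27 ze35) (ke xe32 ye34 ze37) (ke xe26 ye45 ze39) (ke xe32 ye51 ze4) (ke xe31 ye28 ze25) (ke xe28 ye47 ze58) (ke xe26 ye46 ze18) (ke xe31 ye29 ze44) (ke xe26 ye46 ze24) (ke xe26 ye46 ze25) (ke xe32 ye47 ze15) (ke xe32 ye0 ze13) (ke xe32 ye2 ze42) (ke xe31 ye35 ze14) (ke xe26 ye46 ze49) (ke xe31 ye59 ze4) (ke xe27 ye56 ze53) (ke xe27 ye56 ze54) (ke xe32 ye5 ze5) (ke xe29 ye11 ze7)) (@D3.rec (fun _ => Pt) (ke xe26 ye47 ze33) (ke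 xe31 ye3 ze3) (ke xe26 ye47 ze15) (ke xe29 ye12 ze28) (ke xe29 ye10 ze46) (ke xe26 ye47 ze26) (ke xe29 ye10 ze58) (ke xe31 ye57 ze15) (ke xe32 ye51 ze39) (ke xe30 ye59 ze25) (ke xe30 ye2 ze47) (ke xe31 ye2 ze53) (ke xe31 ye7 ze57) (ke xe31 ye34 ze36) (ke xe29 ye55 ze13) (ke xe32 ye6 ze31) (ke xe31 ye37 ze9) (ke xe30 ye41 ze37) (ke xe26 ye47 ze61) (ke xe31 ye5 ze15) (ke xe31 ye54 ze61) (ke xe27 ye18 ze29) (ke xe31 ye57 ze18) (ke xe32 ye2 ze17) (ke xe29 ye50 ze1) (ke xe28 ye29 ze9) (ke xe32 ye9 ze23) (ke xe29 ye20 ze17) (ke xe29 ye39 ze60) (ke xe26 ye52 ze36) (ke xe26 ye49 ze19) (ke xe28 ye24 ze31) (ke xe28 ye0 ze45) (ke xe26 ye49 ze24) (ke xe26 ye49 ze26) (ke xe31 ye19 ze57) (ke xe31 ye13 ze30) (ke xe32 ye17 ze40) (ke xe32 ye24 ze35) (ke xe31 ye26 ze28) (ke xe28 ye29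 ze17) (ke xe28 ye30 ze46) (ke xe26 ye52 ze2) (ke xe32 ye8 ze30) (ke xe28 ye33 ze8) (ke xe30 ye22 ze60) (ke xe30 ye23 ze50) (ke xe31 ye33 ze30) (ke xe30 ye29 ze16) (ke xe32 ye36 ze3) (ke xe32 ye59 ze0) (ke xe26 ye51 ze39) (ke xe32 ye52 ze54) (ke xe26 ye51 ze41) (ke xe26 ye51 ze53) (ke xe30 ye39 ze45) (ke xe26 ye51 ze55) (ke xe28 ye18 ze59) (ke xe32 ye56 ze44) (ke xe30 ye20 ze45) (ke xe26 ye52 ze5) (ke xe26 ye52 ze8)) (@D3.rec (fun _ => Pt) (ke xe26 ye52 ze14) (ke xe26 ye53 ze43) (ke xe29 ye44 ze9) (ke xe32 ye22 ze58) (ke xe26 ye52 ze21) (ke xe26 ye52 ze24) (ke xe32 ye12 ze5) (ke xe32 ye11 ze27) (ke xe31 ye14 ze3) (ke xe27 ye0 ze43) (ke xe32 ye32 ze4) (ke xe30 ye29 ze13) (ke xe27 ye2 ze45) (ke xe26 ye52 ze37) (ke xe27 ye49 ze25) (ke xe30 ye31 ze13) (ke xe31 ye32 ze32)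 (ke xe32 ye36 ze59) (ke xe28 ye36 ze40) (ke xe30 ye39 ze18) (ke xe27 ye6 ze0) (ke xe28 ye15 ze2) (ke xe32 ye36 ze39) (ke xe28 ye43 ze9) (ke xe32 ye44 ze57) (ke xe32 ye18 ze11) (ke xe29 ye7 ze28) (ke xe29 ye13 ze23) (ke xe30 ye27 ze6) (ke xe29 ye43 ze33) (ke xe32 ye35 ze40) (ke xe29 ye36 ze61) (ke xe31 ye32 ze11) (ke xe28 ye37 ze43) (ke xe28 ye32 ze36) (ke xe26 ye53 ze54) (ke xe30 ye49 ze59) (ke xe28 ye45 ze30) (ke xe32 ye42 ze45) (ke xe26 ye53 ze59) (ke xe32 ye16 ze37) (ke xe28 ye38 ze41) (ke xe32 ye4 ze28) (ke xe26 ye54 ze2) (ke xe26 ye54 ze24) (ke xe32 ye51 ze60) (ke xe29 ye14 ze20) (ke xe32 ye46 ze6) (ke xe26 ye54 ze27) (ke xe29 ye27 ze33) (ke xe32 ye54 ze48) (ke xe32 ye17 ze53) (ke xe29 ye15 ze16) (ke xe32 ye17 ze51) (ke xe29 ye27 ze18) (ke xe28 ye37 ze1) (ke xe26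 ye54 ze37) (ke xe29 ye27 ze25) (ke xe32 ye44 ze49) (ke xe32 ye43 ze35) (ke xe26 ye54 ze42) (ke xe31 ye40 ze38)) (@D3.rec (fun _ => Pt) (ke xe29 ye27 ze30) (ke xe29 ye15 ze15) (ke xe32 ye44 ze43) (ke xe31 ye52 ze2) (ke xe32 ye32 ze8) (ke xe32 ye21 ze36) (ke xe32 ye22 ze37) (ke xe29 ye37 ze23) (ke xe26 ye55 ze33) (ke xe26 ye59 ze50) (ke xe26 ye55 ze48) (ke xe32 ye17 ze25) (ke xe32 ye47 ze2) (ke xe29 ye37 ze2) (ke xe32 ye33 ze45) (ke xe31 ye24 ze12) (ke xe26 ye56 ze0) (ke xe29 ye7 ze56) (ke xe32 ye35 ze50) (ke xe26 ye56 ze55) (ke xe32 ye10 ze28) (ke xe30 ye46 ze46) (ke xe32 ye45 ze34) (ke xe31 ye19 ze28) (ke xe26 ye56 ze31) (ke xe27 ye17 ze9) (ke xe30 ye20 ze43) (ke xe32 ye20 ze21) (ke xe27 ye13 ze60) (ke xe26 ye56 ze50) (ke xe32 ye34 ze41) (ke xe32 ye40 ze16) (ke xe26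 ye57 ze5) (ke xe32 ye46 ze42) (ke xe31 ye12 ze53) (ke xe30 ye17 ze35) (ke xe26 ye57 ze9) (ke xe27 ye10 ze33) (ke xe32 ye39 ze48) (ke xe32 ye35 ze16) (ke xe28 ye44 ze31) (ke xe26 ye57 ze31) (ke xe32 ye47 ze5) (ke xe32 ye30 ze10) (ke xe28 ye17 ze11) (ke xe32 ye52 ze55) (ke xe26 ye57 ze37) (ke xe26 ye57 ze41) (ke xe28 ye55 ze5) (ke xe26 ye58 ze55) (ke xe26 ye59 ze9) (ke xe29 ye43 ze9) (ke xe26 ye59 ze46) (ke xe32 ye7 ze2) (ke xe28 ye0 ze18) (ke xe29 ye34 ze21) (ke xe32 ye34 ze5) (ke xe27 ye15 ze41) (ke xe27 ye18 ze53) (ke xe28 ye50 ze27) (ke xe30 ye29 ze5) (ke xe27 ye16 ze17)) (@D3.rec (fun _ => Pt) (ke xe30 ye28 ze53) (ke xe32 ye32 ze51) (ke xe27 ye0 ze23) (ke xe32 ye43 ze2) (ke xe27 ye11 ze44) (ke xe27 ye0 ze24) (ke xe27 ye19 ze4) (ke xe31 ye20 ze17) (ke xe27 ye0 ze27)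 (ke xe31 ye47 ze0) (ke xe32 ye37 ze16) (ke xe28 ye49 ze4) (ke xe27 ye0 ze31) (ke xe27 ye0 ze34) (ke xe29 ye34 ze27) (ke xe31 ye38 ze57) (ke xe27 ye0 ze38) (ke xe32 ye20 ze55) (ke xe29 ye32 ze60) (ke xe32 ye40 ze56) (ke xe28 ye50 ze10) (ke xe32 ye42 ze21) (ke xe31 ye36 ze7) (ke xe32 ye55 ze36) (ke xe28 ye49 ze7) (ke xe27 ye7 ze5) (ke xe28 ye14 ze47) (ke xe28 ye2 ze47) (ke xe30 ye18 ze55) (ke xe32 ye22 ze42) (ke xe32 ye20 ze9) (ke xe32 ye57 ze42) (ke xe27 ye2 ze16) (ke xe32 ye51 ze10) (ke xe27 ye2 ze21) (ke xe28 ye14 ze44) (ke xe27 ye2 ze52) (ke xe30 ye54 ze13) (ke xe30 ye31 ze5) (ke xe27 ye7 ze12) (ke xe31 ye56 ze29) (ke xe27 ye7 ze13) (ke xe30 ye5 ze40) (ke xe31 ye54 ze19) (ke xe32 ye32 ze35) (ke xe27 ye3 ze11) (ke xe28 ye24 ze32) (ke xe27 ye27 ze17) (ke xe27 ye4 ze27)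 (ke xe32 ye28 ze15) (ke xe30 ye58 ze57) (ke xe27 ye4 ze31) (ke xe29 ye30 ze24) (ke xe30 ye58 ze55) (ke xe30 ye52 ze24) (ke xe27 ye5 ze3) (ke xe27 ye5 ze11) (ke xe27 ye55 ze18) (ke xe29 ye25 ze15) (ke xe29 ye7 ze57) (ke xe28 ye44 ze45) (ke xe29 ye37 ze0)) (@D3.rec (fun _ => Pt) (ke xe30 ye25 ze30) (ke xe29 ye12 ze52) (ke xe31 ye53 ze48) (ke xe27 ye6 ze21) (ke xe31 ye23 ze36) (ke xe32 ye28 ze6) (ke xe32 ye35 ze51) (ke xe27 ye6 ze26) (ke xe28 ye56 ze14) (ke xe32 ye19 ze30) (ke xe32 ye20 ze20) (ke xe28 ye49 ze6) (ke xe27 ye6 ze53) (ke xe28 ye52 ze60) (ke xe27 ye6 ze44) (ke xe32 ye51 ze11) (ke xe27 ye6 ze46) (ke xe27 ye7 ze3) (ke xe32 ye49 ze56) (ke xe27 ye6 ze48) (ke xe32 ye20 ze10) (ke xe32 ye18 ze27) (ke xe32 ye20 ze41) (ke xe32 ye33 ze18) (ke xe27 ye8 ze61) (ke xe28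 ye16 ze42) (ke xe32 ye51 ze21) (ke xe32 ye51 ze22) (ke xe27 ye19 ze17) (ke xe32 ye41 ze51) (ke xe27 ye8 ze54) (ke xe32 ye32 ze61) (ke xe30 ye5 ze50) (ke xe32 ye56 ze5) (ke xe31 ye52 ze14) (ke xe27 ye7 ze7) (ke xe28 ye53 ze1) (ke xe29 ye48 ze28) (ke xe32 ye39 ze45) (ke xe27 ye7 ze10) (ke xe30 ye21 ze50) (ke xe32 ye20 ze22) (ke xe32 ye56 ze26) (ke xe32 ye59 ze6) (ke xe27 ye7 ze21) (ke xe31 ye53 ze13) (ke xe31 ye52 ze10) (ke xe27 ye7 ze22) (ke xe32 ye33 ze4) (ke xe30 ye20 ze52) (ke xe30 ye21 ze46) (ke xe32 ye51 ze25) (ke xe32 ye56 ze4) (ke xe27 ye7 ze25) (ke xe32 ye51 ze30) (ke xe32 ye19 ze17) (ke xe29 ye33 ze40) (ke xe32 ye22 ze57) (ke xe31 ye26 ze15) (ke xe32 ye12 ze11) (ke xe32 ye14 ze31) (ke xe31 ye34 ze61)) (@D3.rec (fun _ => Pt) (ke xe32 ye10 ze52) (ke xe27 ye7 ze36)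 (ke xe30 ye13 ze55) (ke xe27 ye7 ze46) (ke xe32 ye48 ze59) (ke xe27 ye7 ze49) (ke xe31 ye28 ze59) (ke xe27 ye7 ze51) (ke xe32 ye27 ze42) (ke xe27 ye7 ze53) (ke xe30 ye10 ze59) (ke xe31 ye3 ze39) (ke xe27 ye8 ze2) (ke xe31 ye22 ze60) (ke xe30 ye38 ze3) (ke xe27 ye8 ze17) (ke xe30 ye25 ze18) (ke xe28 ye55 ze51) (ke xe27 ye8 ze25) (ke xe32 ye9 ze28) (ke xe28 ye56 ze13) (ke xe27 ye8 ze30) (ke xe27 ye8 ze33) (ke xe27 ye10 ze25) (ke xe30 ye15 ze44) (ke xe32 ye53 ze53) (ke xe32 ye49 ze55) (ke xe28 ye17 ze33) (ke xe32 ye50 ze2) (ke xe29 ye9 ze25) (ke xe30 ye25 ze9) (ke xe31 ye14 ze57) (ke xe27 ye9 ze16) (ke xe27 ye9 ze44) (ke xe28 ye49 ze53) (ke xe27 ye9 ze49) (ke xe32 ye18 ze5) (ke xe27 ye9 ze60) (ke xe27 ye10 ze1) (ke xe31 ye36 ze12) (ke xe28 ye45 ze61) (ke xe32 ye48 ze41)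 (ke xe32 ye46 ze47) (ke xe27 ye10 ze42) (ke xe28 ye46 ze49) (ke xe31 ye14 ze61) (ke xe31 ye45 ze30) (ke xe27 ye11 ze43) (ke xe32 ye52 ze48) (ke xe27 ye11 ze42) (ke xe32 ye47 ze31) (ke xe27 ye11 ze47) (ke xe29 ye36 ze1) (ke xe27 ye12 ze8) (ke xe29 ye42 ze45) (ke xe29 ye32 ze37) (ke xe31 ye56 ze28) (ke xe27 ye56 ze14) (ke xe32 ye58 ze33) (ke xe27 ye12 ze37) (ke xe29 ye50 ze11) (ke xe28 ye59 ze3)) (@D3.rec (fun _ => Pt) (ke xe32 ye48 ze42) (ke xe30 ye51 ze9) (ke xe27 ye13 ze16) (ke xe31 ye38 ze44) (ke xe27 ye13 ze2) (ke xe29 ye24 ze34) (ke xe32 ye1 ze15) (ke xe27 ye13 ze23) (ke xe29 ye41 ze59) (ke xe29 ye42 ze1) (ke xe31 ye54 ze14) (ke xe27 ye13 ze40) (ke xe32 ye31 ze12) (ke xe27 ye13 ze58) (ke xe31 ye34 ze12) (ke xe27 ye13 ze61) (ke xe30 ye25 ze42) (ke xe32 ye48 ze51)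 (ke xe27 ye14 ze3) (ke xe30 ye43 ze10) (ke xe27 ye14 ze10) (ke xe30 ye50 ze47) (ke xe29 ye45 ze13) (ke xe32 ye41 ze37) (ke xe27 ye14 ze20) (ke xe31 ye59 ze55) (ke xe30 ye50 ze27) (ke xe29 ye42 ze2) (ke xe27 ye14 ze27) (ke xe27 ye14 ze38) (ke xe27 ye14 ze44) (ke xe32 ye15 ze33) (ke xe27 ye14 ze49) (ke xe28 ye9 ze0) (ke xe30 ye37 ze60) (ke xe32 ye49 ze60) (ke xe27 ye15 ze11) (ke xe32 ye18 ze6) (ke xe29 ye27 ze21) (ke xe30 ye19 ze34) (ke xe32 ye35 ze20) (ke xe27 ye15 ze19) (ke xe32 ye19 ze29) (ke xe32 ye50 ze1) (ke xe28 ye24 ze22) (ke xe28 ye12 ze15) (ke xe28 ye36 ze0) (ke xe30 ye32 ze59) (ke xe32 ye2 ze26) (ke xe31 ye46 ze18) (ke xe31 ye34 ze43) (ke xe31 ye36 ze1) (ke xe27 ye42 ze43) (ke xe31 ye30 ze10) (ke xe32 ye50 ze56) (ke xe30 ye29 ze0) (ke xe32 ye57 ze3) (ke xe32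 ye20 ze57) (ke xe32 ye17 ze3) (ke xe27 ye16 ze3) (ke xe27 ye16 ze4) (ke xe31 ye35 ze4)) (@D3.rec (fun _ => Pt) (ke xe29 ye46 ze53) (ke xe31 ye40 ze30) (ke xe32 ye45 ze9) (ke xe32 ye52 ze42) (ke xe32 ye12 ze13) (ke xe27 ye16 ze15) (ke xe28 ye44 ze36) (ke xe32 ye57 ze4) (ke xe27 ye16 ze28) (ke xe32 ye0 ze50) (ke xe31 ye17 ze9) (ke xe30 ye31 ze6) (ke xe28 ye2 ze28) (ke xe28 ye29 ze11) (ke xe32 ye52 ze25) (ke xe27 ye52 ze35) (ke xe28 ye31 ze9) (ke xe28 ye17 ze58) (ke xe28 ye5 ze16) (ke xe28 ye23 ze61) (ke xe28 ye17 ze25) (ke xe30 ye36 ze40) (ke xe28 ye17 ze35) (ke xe31 ye52 ze15) (ke xe28 ye16 ze39) (ke xe30 ye24 ze59) (ke xe27 ye17 ze6) (ke xe31 ye46 ze59) (ke xe32 ye39 ze27) (ke xe28 ye57 ze59) (ke xe27 ye17 ze35) (ke xe28 ye39 ze48) (ke xe29 ye57 ze20) (ke xe31 ye46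 ze14) (ke xe27 ye17 ze41) (ke xe27 ye45 ze3) (ke xe29 ye11 ze41) (ke xe27 ye17 ze53) (ke xe32 ye49 ze9) (ke xe27 ye18 ze0) (ke xe30 ye4 ze52) (ke xe30 ye10 ze32) (ke xe27 ye18 ze1) (ke xe31 ye10 ze3) (ke xe27 ye18 ze15) (ke xe31 ye47 ze19) (ke xe27 ye18 ze16) (ke xe27 ye18 ze18) (ke xe27 ye18 ze22) (ke xe32 ye57 ze5) (ke xe32 ye55 ze27) (ke xe31 ye9 ze1) (ke xe29 ye59 ze37) (ke xe29 ye11 ze51) (ke xe27 ye18 ze39) (ke xe32 ye33 ze21) (ke xe31 ye20 ze30) (ke xe31 ye20 ze27) (ke xe32 ye48 ze36) (ke xe28 ye4 ze53) (ke xe27 ye19 ze0) (ke xe30 ye48 ze42)) (@D3.rec (fun _ => Pt) (ke xe32 ye35 ze17) (ke xe29 ye33 ze4) (ke xe27 ye19 ze14) (ke xe27 ye19 ze15) (ke xe29 ye8 ze17) (ke xe27 ye19 ze21) (ke xe31 ye52 ze55) (ke xe30 ye28 ze51) (ke xe27 ye19 ze34) (ke xe29 ye49 ze22)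 (ke xe29 ye56 ze30) (ke xe27 ye46 ze33) (ke xe27 ye20 ze43) (ke xe27 ye20 ze48) (ke xe32 ye14 ze20) (ke xe27 ye21 ze23) (ke xe29 ye32 ze24) (ke xe30 ye56 ze25) (ke xe27 ye21 ze43) (ke xe28 ye23 ze20) (ke xe31 ye54 ze24) (ke xe31 ye41 ze2) (ke xe29 ye22 ze36) (ke xe31 ye27 ze1) (ke xe31 ye48 ze13) (ke xe28 ye55 ze6) (ke xe31 ye39 ze42) (ke xe32 ye35 ze22) (ke xe27 ye28 ze27) (ke xe29 ye11 ze15) (ke xe32 ye54 ze6) (ke xe27 ye23 ze27) (ke xe31 ye4 ze14) (ke xe31 ye49 ze26) (ke xe32 ye48 ze55) (ke xe32 ye16 ze38) (ke xe27 ye23 ze45) (ke xe30 ye50 ze55) (ke xe32 ye49 ze35) (ke xe32 ye44 ze40) (ke xe32 ye55 ze37) (ke xe27 ye24 ze21) (ke xe28 ye57 ze31) (ke xe29 ye0 ze10) (ke xe27 ye41 ze19) (ke xe32 ye44 ze0) (ke xe28 ye22 ze39) (ke xe29 ye15 ze43) (ke xe31 ye59 ze14) (ke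 xe28 ye1 ze58) (ke xe27 ye24 ze41) (ke xe28 ye27 ze41) (ke xe27 ye24 ze47) (ke xe27 ye24 ze59) (ke xe27 ye27 ze13) (ke xe27 ye25 ze7) (ke xe29 ye54 ze10) (ke xe27 ye27 ze39) (ke xe30 ye46 ze58) (ke xe32 ye38 ze8) (ke xe27 ye25 ze47) (ke xe32 ye55 ze57)) (@D3.rec (fun _ => Pt) (ke xe27 ye30 ze45) (ke xe27 ye38 ze27) (ke xe27 ye46 ze18) (ke xe32 ye5 ze43) (ke xe32 ye31 ze15) (ke xe27 ye27 ze7) (ke xe32 ye25 ze7) (ke xe32 ye25 ze6) (ke xe32 ye57 ze22) (ke xe30 ye41 ze57) (ke xe28 ye4 ze6) (ke xe31 ye43 ze1) (ke xe27 ye28 ze19) (ke xe32 ye1 ze19) (ke xe32 ye5 ze52) (ke xe27 ye46 ze37) (ke xe28 ye1 ze61) (ke xe28 ye14 ze23) (ke xe30 ye58 ze1) (ke xe27 ye29 ze58) (ke xe32 ye58 ze4) (ke xe31 ye46 ze3) (ke xe30 ye16 ze49) (ke xe31 ye57 ze2) (ke xe30 ye6 ze20) (ke xe27 ye31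 ze20) (ke xe28 ye9 ze28) (ke xe32 ye28 ze38) (ke xe32 ye58 ze34) (ke xe30 ye44 ze26) (ke xe27 ye40 ze21) (ke xe27 ye50 ze31) (ke xe31 ye45 ze51) (ke xe27 ye32 ze4) (ke xe32 ye31 ze61) (ke xe32 ye28 ze52) (ke xe32 ye26 ze32) (ke xe27 ye32 ze10) (ke xe27 ye52 ze32) (ke xe27 ye32 ze15) (ke xe32 ye58 ze35) (ke xe32 ye59 ze15) (ke xe28 ye15 ze35) (ke xe27 ye32 ze22) (ke xe27 ye34 ze14) (ke xe32 ye30 ze19) (ke xe27 ye32 ze24) (ke xe27 ye32 ze29) (ke xe28 ye6 ze9) (ke xe27 ye34 ze0) (ke xe28 ye46 ze58) (ke xe29 ye18 ze29) (ke xe27 ye51 ze41) (ke xe27 ye32 ze28) (ke xe27 ye32 ze38) (ke xe29 ye25 ze10) (ke xe28 ye15 ze32) (ke xe27 ye32 ze46) (ke xe27 ye32 ze47) (ke xe28 ye38 ze1) (ke xe30 ye40 ze17) (ke xe32 ye26 ze6)) (@D3.rec (fun _ => Pt) (ke xe27 ye32 ze55) (ke xe27 ye34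 ze19) (ke xe27 ye32 ze57) (ke xe32 ye6 ze51) (ke xe27 ye33 ze20) (ke xe31 ye38 ze30) (ke xe32 ye25 ze61) (ke xe32 ye26 ze39) (ke xe29 ye25 ze11) (ke xe27 ye49 ze34) (ke xe32 ye34 ze46) (ke xe32 ye56 ze22) (ke xe31 ye47 ze27) (ke xe27 ye33 ze21) (ke xe32 ye6 ze61) (ke xe28 ye31 ze54) (ke xe32 ye50 ze49) (ke xe28 ye36 ze23) (ke xe27 ye33 ze30) (ke xe31 ye47 ze25) (ke xe27 ye33 ze32) (ke xe27 ye33 ze33) (ke xe30 ye40 ze50) (ke xe30 ye42 ze39) (ke xe32 ye55 ze33) (ke xe27 ye33 ze36) (ke xe27 ye33 ze37) (ke xe28 ye5 ze5) (ke xe27 ye33 ze43) (ke xe31 ye32 ze0) (ke xe32 ye10 ze14) (ke xe32 ye29 ze22) (ke xe32 ye25 ze36) (ke xe28 ye6 ze13) (ke xe27 ye34 ze4) (ke xe32 ye31 ze46) (ke xe28 ye6 ze0) (ke xe27 ye34 ze17) (ke xe27 ye34 ze53) (ke xe32 ye26 ze7) (ke xe27 ye34 ze34)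 (ke xe30 ye23 ze18) (ke xe28 ye9 ze35) (ke xe29 ye36 ze42) (ke xe28 ye45 ze39) (ke xe27 ye35 ze15) (ke xe32 ye29 ze19) (ke xe29 ye26 ze38) (ke xe31 ye57 ze47) (ke xe31 ye10 ze60) (ke xe32 ye58 ze0) (ke xe27 ye35 ze13) (ke xe31 ye5 ze7) (ke xe32 ye7 ze12) (ke xe32 ye54 ze0) (ke xe27 ye35 ze16) (ke xe30 ye34 ze50) (ke xe31 ye16 ze44) (ke xe32 ye4 ze51) (ke xe32 ye32 ze40) (ke xe31 ye57 ze51) (ke xe27 ye35 ze19)) (@D3.rec (fun _ => Pt) (ke xe27 ye35 ze20) (ke xe27 ye49 ze22) (ke xe27 ye56 ze19) (ke xe29 ye13 ze11) (ke xe30 ye31 ze34) (ke xe30 ye48 ze60) (ke xe27 ye35 ze61) (ke xe30 ye54 ze22) (ke xe29 ye18 ze1) (ke xe29 ye43 ze43) (ke xe31 ye50 ze38) (ke xe29 ye33 ze44) (ke xe27 ye53 ze43) (ke xe27 ye36 ze55) (ke xe31 ye17 ze12) (ke xe27 ye36 ze59) (ke xe31 ye51 ze26)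 (ke xe32 ye56 ze41) (ke xe32 ye59 ze17) (ke xe32 ye46 ze55) (ke xe32 ye59 ze18) (ke xe27 ye37 ze8) (ke xe30 ye19 ze21) (ke xe32 ye6 ze59) (ke xe27 ye38 ze13) (ke xe31 ye19 ze42) (ke xe27 ye38 ze30) (ke xe29 ye25 ze3) (ke xe31 ye5 ze42) (ke xe28 ye16 ze11) (ke xe32 ye55 ze58) (ke xe32 ye28 ze40) (ke xe30 ye31 ze12) (ke xe28 ye5 ze4) (ke xe27 ye39 ze50) (ke xe27 ye54 ze13) (ke xe27 ye39 ze57) (ke xe28 ye7 ze14) (ke xe30 ye44 ze42) (ke xe27 ye40 ze5) (ke xe27 ye40 ze20) (ke xe27 ye40 ze57) (ke xe32 ye21 ze8) (ke xe27 ye40 ze54) (ke xe27 ye50 ze14) (ke xe27 ye40 ze56) (ke xe31 ye1 ze60) (ke xe31 ye59 ze12) (ke xe32 ye55 ze60) (ke xe32 ye49 ze1) (ke xe31 ye6 ze15) (ke xe27 ye41 ze2) (ke xe31 ye11 ze48) (ke xe27 ye41 ze38) (ke xe32 ye0 ze33) (ke xe28 ye7 ze28) (ke xe28 ye22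 ze14) (ke xe29 ye20 ze49) (ke xe27 ye42 ze22) (ke xe29 ye48 ze7) (ke xe27 ye42 ze32) (ke xe31 ye59 ze40)) (@D3.rec (fun _ => Pt) (ke xe30 ye41 ze56) (ke xe29 ye16 ze39) (ke xe32 ye8 ze45) (ke xe32 ye42 ze56) (ke xe27 ye44 ze3) (ke xe30 ye46 ze48) (ke xe32 ye20 ze5) (ke xe31 ye31 ze60) (ke xe32 ye8 ze52) (ke xe32 ye3 ze38) (ke xe28 ye44 ze6) (ke xe31 ye43 ze6) (ke xe31 ye59 ze1) (ke xe32 ye9 ze49) (ke xe27 ye57 ze16) (ke xe32 ye19 ze49) (ke xe28 ye49 ze30) (ke xe27 ye44 ze56) (ke xe31 ye2 ze55) (ke xe31 ye12 ze9) (ke xe32 ye31 ze30) (ke xe31 ye14 ze53) (ke xe32 ye29 ze12) (ke xe31 ye1 ze31) (ke xe31 ye42 ze7) (ke xe28 ye29 ze53) (ke xe29 ye16 ze0) (ke xe29 ye32 ze17) (ke xe32 ye38 ze48) (ke xe27 ye47 ze3) (ke xe27 ye48 ze40) (ke xe29 ye54 ze15) (ke xe27 ye47 ze38) (ke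 xe27 ye47 ze40) (ke xe32 ye52 ze17) (ke xe32 ye49 ze26) (ke xe31 ye1 ze20) (ke xe28 ye6 ze4) (ke xe32 ye25 ze27) (ke xe31 ye14 ze43) (ke xe32 ye27 ze31) (ke xe27 ye53 ze14) (ke xe27 ye49 ze17) (ke xe31 ye25 ze33) (ke xe29 ye21 ze2) (ke xe32 ye3 ze53) (ke xe28 ye7 ze60) (ke xe31 ye25 ze19) (ke xe27 ye52 ze7) (ke xe27 ye49 ze39) (ke xe28 ye25 ze22) (ke xe27 ye52 ze23) (ke xe32 ye25 ze35) (ke xe27 ye49 ze48) (ke xe27 ye49 ze51) (ke xe32 ye48 ze19) (ke xe29 ye4 ze4) (ke xe28 ye46 ze1) (ke xe27 ye53 ze44) (ke xe27 ye54 ze34) (ke xe28 ye7 ze47) (ke xe27 ye50 ze4)) (@D3.rec (fun _ => Pt) (ke xe29 ye54 ze17) (ke xe32 ye7 ze14) (ke xe27 ye50 ze11) (ke xe27 ye51 ze56) (ke xe27 ye53 ze17) (ke xe31 ye37 ze42) (ke xe27 ye50 ze56) (ke xe27 ye50 ze27) (ke xe31 ye58 ze40) (ke xe31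 ye42 ze34) (ke xe27 ye50 ze40) (ke xe30 ye23 ze28) (ke xe32 ye28 ze22) (ke xe27 ye51 ze14) (ke xe32 ye53 ze27) (ke xe32 ye41 ze22) (ke xe28 ye47 ze20) (ke xe32 ye59 ze16) (ke xe28 ye58 ze49) (ke xe32 ye26 ze46) (ke xe28 ye45 ze31) (ke xe27 ye51 ze42) (ke xe32 ye26 ze31) (ke xe31 ye53 ze40) (ke xe30 ye34 ze47) (ke xe32 ye41 ze23) (ke xe27 ye51 ze47) (ke xe32 ye29 ze50) (ke xe28 ye43 ze21) (ke xe27 ye51 ze53) (ke xe32 ye9 ze52) (ke xe32 ye33 ze26) (ke xe27 ye52 ze0) (ke xe27 ye52 ze9) (ke xe32 ye32 ze2) (ke xe32 ye10 ze6) (ke xe28 ye8 ze16) (ke xe28 ye3 ze27) (ke xe31 ye4 ze46) (ke xe29 ye20 ze56) (ke xe28 ye9 ze33) (ke xe27 ye52 ze21) (ke xe31 ye14 ze22) (ke xe31 ye59 ze15) (ke xe31 ye46 ze32) (ke xe28 ye7 ze18) (ke xe27 ye52 ze38) (ke xe31 ye14 ze56) (ke xe30 ye52 ze4)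 (ke xe27 ye52 ze49) (ke xe32 ye29 ze27) (ke xe31 ye29 ze14) (ke xe29 ye19 ze61) (ke xe27 ye52 ze58) (ke xe32 ye36 ze45) (ke xe27 ye52 ze59) (ke xe27 ye53 ze5) (ke xe32 ye9 ze15) (ke xe27 ye53 ze12) (ke xe30 ye45 ze20) (ke xe32 ye52 ze61) (ke xe31 ye50 ze18)) (@D3.rec (fun _ => Pt) (ke xe27 ye53 ze22) (ke xe31 ye42 ze35) (ke xe27 ye53 ze33) (ke xe27 ye53 ze39) (ke xe27 ye53 ze40) (ke xe28 ye46 ze25) (ke xe30 ye41 ze27) (ke xe32 ye31 ze52) (ke xe28 ye27 ze26) (ke xe27 ye53 ze55) (ke xe32 ye18 ze43) (ke xe28 ye7 ze8) (ke xe30 ye9 ze1) (ke xe31 ye48 ze37) (ke xe27 ye54 ze40) (ke xe28 ye23 ze31) (ke xe29 ye20 ze24) (ke xe31 ye23 ze2) (ke xe32 ye32 ze6) (ke xe32 ye25 ze45) (ke xe32 ye55 ze40) (ke xe27 ye55 ze8) (ke xe31 ye39 ze8) (ke xe28 ye5 ze38) (ke xe27 ye56 ze29) (ke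 xe31 ye38 ze8) (ke xe30 ye24 ze43) (ke xe27 ye55 ze29) (ke xe27 ye55 ze34) (ke xe31 ye2 ze0) (ke xe29 ye26 ze52) (ke xe30 ye40 ze9) (ke xe27 ye56 ze31) (ke xe30 ye52 ze5) (ke xe30 ye3 ze36) (ke xe32 ye32 ze33) (ke xe28 ye2 ze19) (ke xe28 ye28 ze44) (ke xe27 ye56 ze35) (ke xe31 ye4 ze56) (ke xe27 ye57 ze2) (ke xe29 ye58 ze26) (ke xe31 ye36 ze25) (ke xe30 ye37 ze24) (ke xe29 ye55 ze20) (ke xe29 ye11 ze3) (ke xe32 ye4 ze54) (ke xe31 ye8 ze42) (ke xe32 ye8 ze53) (ke xe28 ye50 ze44) (ke xe27 ye59 ze1) (ke xe27 ye59 ze8) (ke xe28 ye49 ze26) (ke xe30 ye48 ze40) (ke xe28 ye13 ze39) (ke xe29 ye32 ze26) (ke xe28 ye35 ze25) (ke xe32 ye9 ze4) (ke xe28 ye0 ze23) (ke xe28 ye35 ze1) (ke xe28 ye29 ze0) (ke xe29 ye22 ze40)) (@D3.rec (fun _ => Pt) (ke xe31 ye48 ze19) (ke xe28 ye2 ze8)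 (ke xe31 ye12 ze7) (ke xe31 ye58 ze50) (ke xe31 ye45 ze6) (ke xe30 ye52 ze42) (ke xe30 ye7 ze23) (ke xe32 ye10 ze7) (ke xe28 ye2 ze25) (ke xe28 ye2 ze37) (ke xe30 ye34 ze13) (ke xe29 ye8 ze27) (ke xe32 ye22 ze12) (ke xe31 ye44 ze20) (ke xe31 ye0 ze0) (ke xe32 ye25 ze4) (ke xe32 ye56 ze21) (ke xe31 ye7 ze40) (ke xe30 ye35 ze26) (ke xe28 ye3 ze20) (ke xe31 ye7 ze45) (ke xe31 ye42 ze10) (ke xe31 ye45 ze15) (ke xe28 ye3 ze39) (ke xe29 ye4 ze14) (ke xe30 ye57 ze59) (ke xe28 ye4 ze4) (ke xe31 ye0 ze1) (ke xe28 ye30 ze44) (ke xe32 ye6 ze50) (ke xe32 ye28 ze20) (ke xe28 ye4 ze33) (ke xe28 ye4 ze37) (ke xe32 ye58 ze53) (ke xe28 ye4 ze40) (ke xe31 ye42 ze24) (ke xe32 ye32 ze21) (ke xe32 ye53 ze28) (ke xe28 ye4 ze45) (ke xe28 ye4 ze47) (ke xe28 ye4 ze58) (ke xe28 ye4 ze60) (ke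 xe28 ye5 ze1) (ke xe28 ye5 ze6) (ke xe28 ye5 ze22) (ke xe28 ye5 ze30) (ke xe32 ye26 ze35) (ke xe32 ye56 ze1) (ke xe28 ye5 ze45) (ke xe32 ye2 ze47) (ke xe31 ye45 ze33) (ke xe32 ye38 ze38) (ke xe32 ye30 ze7) (ke xe32 ye48 ze45) (ke xe32 ye56 ze11) (ke xe28 ye28 ze46) (ke xe28 ye28 ze50) (ke xe30 ye31 ze32) (ke xe30 ye22 ze13) (ke xe28 ye52 ze47) (ke xe28 ye6 ze6) (ke xe32 ye25 ze34)) (@D3.rec (fun _ => Pt) (ke xe28 ye6 ze19) (ke xe28 ye6 ze20) (ke xe32 ye29 ze34) (ke xe32 ye55 ze34) (ke xe32 ye17 ze10) (ke xe28 ye9 ze24) (ke xe32 ye30 ze18) (ke xe28 ye7 ze53) (ke xe32 ye18 ze4) (ke xe28 ye19 ze19) (ke xe28 ye36 ze18) (ke xe28 ye8 ze21) (ke xe32 ye56 ze2) (ke xe32 ye34 ze55) (ke xe32 ye59 ze20) (ke xe29 ye34 ze46) (ke xe30 ye15 ze11) (ke xe28 ye33 ze39) (ke xe28 ye9 ze11)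 (ke xe29 ye49 ze39) (ke xe31 ye38 ze0) (ke xe32 ye31 ze36) (ke xe28 ye30 ze51) (ke xe28 ye9 ze51) (ke xe28 ye41 ze36) (ke xe32 ye38 ze7) (ke xe32 ye1 ze58) (ke xe31 ye47 ze15) (ke xe28 ye10 ze33) (ke xe30 ye41 ze22) (ke xe28 ye10 ze35) (ke xe32 ye57 ze9) (ke xe31 ye38 ze1) (ke xe32 ye30 ze35) (ke xe30 ye36 ze1) (ke xe32 ye19 ze44) (ke xe31 ye7 ze4) (ke xe30 ye15 ze45) (ke xe28 ye11 ze31) (ke xe30 ye16 ze60) (ke xe32 ye26 ze59) (ke xe31 ye5 ze18) (ke xe31 ye8 ze49) (ke xe31 ye3 ze2) (ke xe30 ye2 ze57) (ke xe31 ye5 ze36) (ke xe28 ye12 ze11) (ke xe30 ye41 ze17) (ke xe32 ye49 ze32) (ke xe30 ye2 ze31) (ke xe30 ye50 ze5) (ke xe32 ye19 ze1) (ke xe29 ye7 ze58) (ke xe28 ye19 ze51) (ke xe30 ye7 ze32) (ke xe28 ye30 ze31) (ke xe29 ye39 ze35) (ke xe31 ye13 ze31) (ke xe30 ye21 ze61)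 (ke xe31 ye40 ze5) (ke xe32 ye39 ze41) (ke xe32 ye20 ze31)) (@D3.rec (fun _ => Pt) (ke xe30 ye22 ze34) (ke xe28 ye15 ze36) (ke xe30 ye28 ze24) (ke xe32 ye9 ze0) (ke xe32 ye20 ze48) (ke xe30 ye38 ze40) (ke xe28 ye15 ze55) (ke xe31 ye58 ze3) (ke xe32 ye46 ze44) (ke xe32 ye11 ze57) (ke xe28 ye54 ze33) (ke xe29 ye46 ze8) (ke xe29 ye19 ze8) (ke xe28 ye16 ze36) (ke xe28 ye16 ze37) (ke xe28 ye16 ze41) (ke xe28 ye16 ze44) (ke xe30 ye30 ze23) (ke xe32 ye20 ze23) (ke xe28 ye17 ze31) (ke xe28 ye17 ze34) (ke xe32 ye23 ze55) (ke xe28 ye35 ze24) (ke xe32 ye53 ze3) (ke xe30 ye45 ze10) (ke xe28 ye37 ze46) (ke xe32 ye29 ze31) (ke xe28 ye18 ze9) (ke xe30 ye15 ze41) (ke xe32 ye39 ze31) (ke xe29 ye33 ze41) (ke xe28 ye18 ze24) (ke xe32 ye13 ze14) (ke xe29 ye46 ze51) (ke xe28 ye18 ze32)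 (ke xe30 ye16 ze30) (ke xe28 ye18 ze36) (ke xe32 ye3 ze33) (ke xe31 ye45 ze38) (ke xe28 ye18 ze58) (ke xe28 ye18 ze60) (ke xe31 ye46 ze34) (ke xe28 ye19 ze47) (ke xe31 ye57 ze58) (ke xe28 ye20 ze8) (ke xe32 ye18 ze14) (ke xe28 ye20 ze20) (ke xe32 ye15 ze16) (ke xe31 ye43 ze57) (ke xe28 ye39 ze22) (ke xe28 ye20 ze35) (ke xe28 ye20 ze38) (ke xe29 ye25 ze34) (ke xe28 ye28 ze20) (ke xe30 ye44 ze0) (ke xe28 ye21 ze35) (ke xe29 ye43 ze11) (ke xe31 ye22 ze50) (ke xe28 ye21 ze40) (ke xe28 ye38 ze14) (ke xe32 ye59 ze22) (ke xe28 ye48 ze2)) (@D3.rec (fun _ => Pt) (ke xe29 ye55 ze46) (ke xe31 ye55 ze42) (ke xe28 ye39 ze53) (ke xe28 ye22 ze20) (ke xe29 ye1 ze40) (ke xe32 ye18 ze56) (ke xe29 ye21 ze32) (ke xe30 ye55 ze58) (ke xe28 ye33 ze35) (ke xe30 ye5 ze60) (ke xe32 ye44 ze28)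 (ke xe31 ye10 ze41) (ke xe28 ye22 ze51) (ke xe30 ye46 ze30) (ke xe30 ye53 ze6) (ke xe30 ye53 ze9) (ke xe30 ye57 ze1) (ke xe28 ye23 ze44) (ke xe28 ye35 ze16) (ke xe31 ye22 ze57) (ke xe28 ye23 ze58) (ke xe30 ye30 ze2) (ke xe32 ye39 ze26) (ke xe28 ye40 ze10) (ke xe28 ye24 ze15) (ke xe32 ye11 ze46) (ke xe28 ye24 ze10) (ke xe30 ye48 ze47) (ke xe32 ye39 ze30) (ke xe32 ye2 ze40) (ke xe28 ye41 ze37) (ke xe29 ye16 ze2) (ke xe29 ye3 ze7) (ke xe32 ye56 ze45) (ke xe29 ye41 ze44) (ke xe29 ye25 ze32) (ke xe28 ye38 ze11) (ke xe32 ye15 ze43) (ke xe31 ye40 ze50) (ke xe32 ye55 ze4) (ke xe29 ye19 ze53) (ke xe32 ye18 ze30) (ke xe32 ye57 ze19) (ke xe31 ye16 ze28) (ke xe32 ye36 ze49) (ke xe28 ye25 ze39) (ke xe32 ye26 ze10) (ke xe31 ye15 ze37) (ke xe32 ye54 ze28) (ke xe28 ye26 ze36) (ke xe28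 ye32 ze21) (ke xe31 ye53 ze0) (ke xe29 ye55 ze53) (ke xe29 ye54 ze38) (ke xe28 ye27 ze22) (ke xe32 ye32 ze13) (ke xe28 ye27 ze27) (ke xe30 ye16 ze15) (ke xe29 ye24 ze61) (ke xe29 ye31 ze7) (ke xe28 ye28 ze24) (ke xe28 ye36 ze13)) (@D3.rec (fun _ => Pt) (ke xe28 ye28 ze40) (ke xe28 ye36 ze19) (ke xe28 ye28 ze45) (ke xe28 ye30 ze48) (ke xe31 ye26 ze59) (ke xe28 ye28 ze57) (ke xe30 ye56 ze33) (ke xe28 ye29 ze1) (ke xe29 ye20 ze0) (ke xe29 ye24 ze38) (ke xe32 ye41 ze34) (ke xe31 ye16 ze33) (ke xe32 ye44 ze26) (ke xe32 ye8 ze6) (ke xe30 ye25 ze54) (ke xe28 ye29 ze22) (ke xe32 ye18 ze39) (ke xe32 ye24 ze0) (ke xe31 ye59 ze44) (ke xe31 ye51 ze33) (ke xe32 ye22 ze40) (ke xe32 ye14 ze60) (ke xe32 ye24 ze27) (ke xe28 ye44 ze3) (ke xe32 ye5 ze50) (ke xe28 ye29 ze57) (ke xe29 ye37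 ze57) (ke xe32 ye38 ze25) (ke xe29 ye37 ze54) (ke xe31 ye33 ze2) (ke xe31 ye19 ze3) (ke xe32 ye57 ze13) (ke xe29 ye26 ze30) (ke xe28 ye48 ze10) (ke xe28 ye30 ze32) (ke xe29 ye15 ze38) (ke xe32 ye48 ze6) (ke xe32 ye59 ze19) (ke xe31 ye26 ze58) (ke xe31 ye26 ze42) (ke xe32 ye17 ze30) (ke xe28 ye45 ze25) (ke xe32 ye45 ze5) (ke xe28 ye34 ze61) (ke xe29 ye6 ze16) (ke xe31 ye42 ze51) (ke xe32 ye47 ze47) (ke xe28 ye59 ze14) (ke xe28 ye32 ze34) (ke xe32 ye49 ze7) (ke xe32 ye18 ze18) (ke xe32 ye20 ze6) (ke xe31 ye21 ze37) (ke xe30 ye20 ze48) (ke xe32 ye54 ze54) (ke xe32 ye52 ze5) (ke xe28 ye33 ze10) (ke xe31 ye22 ze51) (ke xe30 ye21 ze40) (ke xe29 ye42 ze49) (ke xe30 ye46 ze40) (ke xe30 ye21 ze45)) (@D3.rec (fun _ => Pt) (ke xe32 ye52 ze50) (ke xe32 ye41 ze54) (ke xe28 ye33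 ze6) (ke xe32 ye16 ze49) (ke xe31 ye31 ze51) (ke xe28 ye48 ze11) (ke xe28 ye39 ze16) (ke xe32 ye13 ze48) (ke xe32 ye56 ze57) (ke xe29 ye47 ze13) (ke xe30 ye24 ze44) (ke xe29 ye15 ze25) (ke xe32 ye54 ze25) (ke xe29 ye40 ze40) (ke xe32 ye44 ze31) (ke xe31 ye21 ze48) (ke xe28 ye35 ze11) (ke xe32 ye38 ze27) (ke xe29 ye44 ze60) (ke xe28 ye35 ze17) (ke xe32 ye37 ze30) (ke xe32 ye59 ze25) (ke xe28 ye35 ze18) (ke xe28 ye35 ze19) (ke xe30 ye49 ze34) (ke xe32 ye46 ze60) (ke xe29 ye31 ze57) (ke xe28 ye35 ze45) (ke xe31 ye33 ze35) (ke xe32 ye51 ze8) (ke xe31 ye17 ze25) (ke xe28 ye36 ze4) (ke xe30 ye31 ze16) (ke xe30 ye9 ze6) (ke xe32 ye44 ze45) (ke xe28 ye36 ze45) (ke xe28 ye36 ze48) (ke xe28 ye36 ze61) (ke xe29 ye36 ze7) (ke xe32 ye17 ze22) (ke xe32 ye43 ze36) (ke xe28 ye37 ze4)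 (ke xe28 ye37 ze9) (ke xe31 ye11 ze59) (ke xe30 ye18 ze31) (ke xe32 ye29 ze54) (ke xe31 ye25 ze42) (ke xe30 ye51 ze34) (ke xe28 ye58 ze22) (ke xe32 ye34 ze44) (ke xe32 ye9 ze6) (ke xe32 ye54 ze42) (ke xe30 ye22 ze46) (ke xe29 ye55 ze9) (ke xe29 ye34 ze9) (ke xe31 ye45 ze27) (ke xe32 ye56 ze59) (ke xe31 ye16 ze13) (ke xe32 ye2 ze56) (ke xe32 ye17 ze17) (ke xe28 ye38 ze25) (ke xe29 ye28 ze54)) (@D3.rec (fun _ => Pt) (ke xe30 ye20 ze49) (ke xe29 ye8 ze8) (ke xe31 ye16 ze6) (ke xe31 ye30 ze54) (ke xe29 ye29 ze28) (ke xe30 ye22 ze1) (ke xe28 ye38 ze33) (ke xe32 ye54 ze27) (ke xe29 ye37 ze3) (ke xe31 ye27 ze61) (ke xe28 ye46 ze31) (ke xe28 ye38 ze43) (ke xe30 ye18 ze41) (ke xe31 ye14 ze11) (ke xe32 ye10 ze25) (ke xe29 ye44 ze52) (ke xe32 ye19 ze10) (ke xe28 ye55 ze48) (ke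 xe28 ye39 ze13) (ke xe29 ye26 ze33) (ke xe29 ye46 ze28) (ke xe29 ye43 ze20) (ke xe29 ye45 ze19) (ke xe32 ye45 ze31) (ke xe28 ye40 ze30) (ke xe28 ye39 ze35) (ke xe30 ye28 ze22) (ke xe32 ye46 ze46) (ke xe29 ye33 ze52) (ke xe31 ye31 ze16) (ke xe32 ye36 ze20) (ke xe32 ye13 ze42) (ke xe32 ye13 ze33) (ke xe31 ye23 ze5) (ke xe32 ye52 ze32) (ke xe32 ye40 ze14) (ke xe31 ye26 ze13) (ke xe29 ye34 ze1) (ke xe32 ye38 ze32) (ke xe28 ye40 ze1) (ke xe31 ye19 ze45) (ke xe28 ye40 ze2) (ke xe31 ye29 ze41) (ke xe30 ye28 ze50) (ke xe32 ye59 ze7) (ke xe28 ye40 ze7) (ke xe32 ye59 ze32) (ke xe32 ye12 ze18) (ke xe29 ye31 ze21) (ke xe32 ye12 ze45) (ke xe32 ye10 ze46) (ke xe32 ye0 ze55) (ke xe29 ye33 ze54) (ke xe32 ye44 ze22) (ke xe28 ye40 ze27) (ke xe28 ye40 ze28) (ke xe31 ye46 ze61) (ke xe28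 ye40 ze34) (ke xe32 ye47 ze39) (ke xe32 ye51 ze55) (ke xe32 ye40 ze36) (ke xe32 ye51 ze34)) (@D3.rec (fun _ => Pt) (ke xe32 ye59 ze2) (ke xe31 ye34 ze9) (ke xe32 ye58 ze1) (ke xe31 ye58 ze31) (ke xe32 ye5 ze35) (ke xe32 ye5 ze57) (ke xe30 ye13 ze2) (ke xe32 ye32 ze25) (ke xe32 ye24 ze59) (ke xe28 ye41 ze7) (ke xe32 ye5 ze41) (ke xe28 ye47 ze44) (ke xe28 ye52 ze55) (ke xe28 ye42 ze50) (ke xe28 ye42 ze49) (ke xe30 ye51 ze39) (ke xe30 ye49 ze16) (ke xe32 ye53 ze33) (ke xe28 ye43 ze26) (ke xe31 ye11 ze45) (ke xe28 ye43 ze41) (ke xe28 ye43 ze49) (ke xe32 ye3 ze30) (ke xe28 ye43 ze60) (ke xe29 ye8 ze49) (ke xe32 ye35 ze27) (ke xe32 ye13 ze16) (ke xe32 ye36 ze17) (ke xe32 ye14 ze33) (ke xe31 ye31 ze8) (ke xe28 ye44 ze37) (ke xe28 ye44 ze38) (ke xe32 ye37 ze38) (ke xe31 ye51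 ze24) (ke xe28 ye45 ze17) (ke xe28 ye45 ze18) (ke xe31 ye19 ze60) (ke xe28 ye45 ze35) (ke xe32 ye31 ze51) (ke xe29 ye28 ze10) (ke xe32 ye39 ze17) (ke xe28 ye46 ze38) (ke xe28 ye46 ze39) (ke xe29 ye29 ze31) (ke xe31 ye19 ze55) (ke xe30 ye23 ze7) (ke xe28 ye46 ze61) (ke xe28 ye47 ze2) (ke xe32 ye28 ze28) (ke xe31 ye16 ze60) (ke xe30 ye47 ze37) (ke xe29 ye20 ze59) (ke xe30 ye40 ze19) (ke xe29 ye8 ze34) (ke xe28 ye48 ze14) (ke xe31 ye48 ze44) (ke xe29 ye28 ze20) (ke xe31 ye29 ze18) (ke xe32 ye11 ze10) (ke xe32 ye14 ze2) (ke xe32 ye52 ze49) (ke xe28 ye49 ze0)) (@D3.rec (fun _ => Pt) (ke xe29 ye46 ze54) (ke xe31 ye55 ze29) (ke xe30 ye15 ze23) (ke xe31 ye16 ze45) (ke xe29 ye13 ze27) (ke xe32 ye43 ze14) (ke xe29 ye45 ze50) (ke xe32 ye52 ze1) (ke xe32 ye47 ze36) (ke xe30 ye34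 ze33) (ke xe31 ye58 ze48) (ke xe30 ye41 ze39) (ke xe32 ye5 ze21) (ke xe31 ye21 ze22) (ke xe32 ye57 ze44) (ke xe32 ye57 ze28) (ke xe31 ye21 ze44) (ke xe32 ye38 ze40) (ke xe32 ye0 ze58) (ke xe28 ye50 ze42) (ke xe29 ye38 ze57) (ke xe29 ye13 ze31) (ke xe31 ye29 ze58) (ke xe31 ye23 ze55) (ke xe28 ye50 ze51) (ke xe28 ye50 ze57) (ke xe32 ye34 ze22) (ke xe32 ye23 ze28) (ke xe28 ye51 ze14) (ke xe32 ye47 ze20) (ke xe32 ye34 ze28) (ke xe32 ye33 ze29) (ke xe32 ye57 ze41) (ke xe29 ye45 ze7) (ke xe28 ye51 ze36) (ke xe28 ye51 ze37) (ke xe32 ye54 ze55) (ke xe32 ye56 ze15) (ke xe29 ye28 ze59) (ke xe32 ye56 ze47) (ke xe28 ye51 ze55) (ke xe32 ye32 ze60) (ke xe32 ye15 ze0) (ke xe28 ye52 ze7) (ke xe30 ye19 ze10) (ke xe32 ye20 ze38) (ke xe28 ye52 ze0) (ke xe31 ye20 ze3) (ke xe32 ye18 ze38)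 (ke xe30 ye29 ze45) (ke xe29 ye27 ze49) (ke xe31 ye12 ze33) (ke xe30 ye35 ze4) (ke xe31 ye24 ze30) (ke xe28 ye52 ze42) (ke xe31 ye27 ze27) (ke xe32 ye41 ze11) (ke xe28 ye52 ze58) (ke xe31 ye15 ze47) (ke xe32 ye56 ze6) (ke xe31 ye15 ze28) (ke xe31 ye30 ze31)) (@D3.rec (fun _ => Pt) (ke xe29 ye47 ze1) (ke xe29 ye35 ze10) (ke xe29 ye8 ze50) (ke xe30 ye22 ze17) (ke xe28 ye53 ze30) (ke xe30 ye20 ze57) (ke xe28 ye53 ze29) (ke xe32 ye53 ze47) (ke xe29 ye30 ze19) (ke xe30 ye56 ze26) (ke xe28 ye53 ze44) (ke xe29 ye46 ze44) (ke xe28 ye54 ze17) (ke xe29 ye34 ze33) (ke xe32 ye37 ze35) (ke xe32 ye44 ze33) (ke xe32 ye18 ze31) (ke xe32 ye51 ze1) (ke xe32 ye53 ze43) (ke xe28 ye54 ze26) (ke xe29 ye44 ze18) (ke xe30 ye16 ze28) (ke xe32 ye11 ze17) (ke xe28 ye54 ze35) (ke xe32 ye41 ze55)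 (ke xe28 ye54 ze39) (ke xe32 ye45 ze54) (ke xe30 ye21 ze16) (ke xe28 ye54 ze49) (ke xe31 ye19 ze18) (ke xe32 ye13 ze17) (ke xe30 ye20 ze53) (ke xe30 ye0 ze15) (ke xe28 ye55 ze11) (ke xe31 ye18 ze9) (ke xe30 ye34 ze18) (ke xe32 ye37 ze60) (ke xe32 ye52 ze38) (ke xe32 ye57 ze43) (ke xe31 ye51 ze14) (ke xe32 ye58 ze13) (ke xe28 ye56 ze1) (ke xe29 ye7 ze12) (ke xe31 ye52 ze22) (ke xe28 ye55 ze22) (ke xe32 ye56 ze42) (ke xe32 ye2 ze14) (ke xe28 ye55 ze23) (ke xe30 ye49 ze56) (ke xe32 ye57 ze21) (ke xe28 ye55 ze25) (ke xe32 ye57 ze31) (ke xe29 ye45 ze21) (ke xe32 ye14 ze30) (ke xe32 ye50 ze12) (ke xe32 ye56 ze0) (ke xe32 ye19 ze19) (ke xe29 ye53 ze37) (ke xe31 ye31 ze1) (ke xe30 ye46 ze35) (ke xe31 ye31 ze24) (ke xe31 ye30 ze7)) (@D3.rec (fun _ => Pt) (ke xe32 ye56 ze16)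 (ke xe30 ye29 ze56) (ke xe28 ye56 ze29) (ke xe31 ye31 ze10) (ke xe30 ye15 ze56) (ke xe28 ye56 ze32) (ke xe32 ye14 ze17) (ke xe32 ye45 ze53) (ke xe29 ye21 ze17) (ke xe28 ye56 ze34) (ke xe29 ye21 ze25) (ke xe32 ye39 ze56) (ke xe32 ye42 ze19) (ke xe28 ye56 ze50) (ke xe28 ye56 ze59) (ke xe30 ye37 ze47) (ke xe31 ye23 ze23) (ke xe31 ye48 ze8) (ke xe28 ye57 ze18) (ke xe32 ye50 ze33) (ke xe28 ye57 ze26) (ke xe31 ye32 ze23) (ke xe32 ye29 ze15) (ke xe32 ye29 ze25) (ke xe28 ye58 ze52) (ke xe32 ye48 ze10) (ke xe32 ye9 ze41) (ke xe28 ye59 ze13) (ke xe32 ye50 ze31) (ke xe31 ye52 ze11) (ke xe31 ye43 ze47) (ke xe30 ye18 ze9) (ke xe32 ye4 ze21) (ke xe31 ye32 ze3) (ke xe32 ye35 ze10) (ke xe31 ye57 ze0) (ke xe32 ye50 ze4) (ke xe32 ye22 ze23) (ke xe30 ye8 ze31) (ke xe30 ye38 ze26) (ke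 xe29 ye8 ze11) (ke xe32 ye15 ze11) (ke xe32 ye9 ze34) (ke xe32 ye15 ze6) (ke xe32 ye10 ze44) (ke xe30 ye15 ze39) (ke xe31 ye46 ze58) (ke xe30 ye16 ze26) (ke xe32 ye15 ze10) (ke xe30 ye15 ze60) (ke xe29 ye2 ze21) (ke xe32 ye20 ze29) (ke xe29 ye2 ze47) (ke xe29 ye3 ze9) (ke xe32 ye36 ze1) (ke xe32 ye40 ze24) (ke xe29 ye3 ze28) (ke xe29 ye3 ze34) (ke xe29 ye16 ze21) (ke xe31 ye47 ze22) (ke xe31 ye54 ze49) (ke xe31 ye57 ze60)) (@D3.rec (fun _ => Pt) (ke xe31 ye48 ze10) (ke xe29 ye50 ze33) (ke xe29 ye4 ze19) (ke xe29 ye4 ze20) (ke xe31 ye3 ze25) (ke xe30 ye8 ze8) (ke xe29 ye11 ze10) (ke xe32 ye49 ze2) (ke xe30 ye10 ze38) (ke xe32 ye3 ze14) (ke xe32 ye2 ze33) (ke xe31 ye5 ze44) (ke xe32 ye2 ze52) (ke xe30 ye48 ze13) (ke xe31 ye52 ze46) (ke xe32 ye7 ze44) (ke xe29 ye15 ze44)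 (ke xe29 ye5 ze12) (ke xe31 ye35 ze53) (ke xe32 ye41 ze12) (ke xe29 ye26 ze28) (ke xe32 ye19 ze21) (ke xe29 ye5 ze3) (ke xe29 ye5 ze7) (ke xe31 ye55 ze11) (ke xe29 ye5 ze8) (ke xe31 ye46 ze6) (ke xe31 ye22 ze8) (ke xe29 ye51 ze6) (ke xe32 ye58 ze6) (ke xe29 ye57 ze4) (ke xe32 ye6 ze54) (ke xe31 ye56 ze4) (ke xe29 ye5 ze29) (ke xe30 ye10 ze52) (ke xe29 ye5 ze46) (ke xe29 ye6 ze54) (ke xe29 ye7 ze2) (ke xe32 ye8 ze12) (ke xe30 ye24 ze17) (ke xe31 ye28 ze36) (ke xe29 ye8 ze19) (ke xe30 ye3 ze41) (ke xe29 ye9 ze18) (ke xe29 ye39 ze23) (ke xe32 ye17 ze38) (ke xe30 ye38 ze31) (ke xe31 ye30 ze40) (ke xe29 ye8 ze44) (ke xe32 ye47 ze4) (ke xe29 ye8 ze53) (ke xe29 ye9 ze21) (ke xe32 ye57 ze29) (ke xe29 ye9 ze36) (ke xe29 ye12 ze21) (ke xe29 ye10 ze31) (ke xe32 ye28 ze3) (ke xe29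 ye11 ze33) (ke xe29 ye10 ze12) (ke xe29 ye10 ze18) (ke xe29 ye10 ze19) (ke xe29 ye49 ze54)) (@D3.rec (fun _ => Pt) (ke xe32 ye13 ze1) (ke xe32 ye11 ze22) (ke xe32 ye19 ze3) (ke xe29 ye31 ze23) (ke xe29 ye10 ze45) (ke xe30 ye10 ze34) (ke xe32 ye4 ze52) (ke xe29 ye10 ze59) (ke xe31 ye11 ze22) (ke xe30 ye3 ze33) (ke xe32 ye58 ze61) (ke xe29 ye11 ze8) (ke xe32 ye58 ze14) (ke xe29 ye11 ze19) (ke xe32 ye39 ze5) (ke xe29 ye11 ze30) (ke xe29 ye55 ze2) (ke xe29 ye58 ze2) (ke xe29 ye11 ze56) (ke xe30 ye14 ze5) (ke xe31 ye18 ze0) (ke xe31 ye15 ze30) (ke xe29 ye13 ze7) (ke xe31 ye48 ze16) (ke xe31 ye51 ze27) (ke xe29 ye13 ze46) (ke xe31 ye53 ze5) (ke xe29 ye13 ze58) (ke xe32 ye11 ze2) (ke xe32 ye44 ze47) (ke xe29 ye14 ze13) (ke xe32 ye59 ze41) (ke xe32 ye59 ze42) (ke xe29 ye14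 ze22) (ke xe32 ye3 ze25) (ke xe32 ye17 ze59) (ke xe32 ye36 ze40) (ke xe29 ye14 ze24) (ke xe31 ye49 ze35) (ke xe31 ye19 ze16) (ke xe29 ye15 ze13) (ke xe31 ye32 ze15) (ke xe32 ye51 ze59) (ke xe30 ye27 ze10) (ke xe29 ye15 ze19) (ke xe31 ye4 ze20) (ke xe29 ye15 ze46) (ke xe29 ye15 ze50) (ke xe29 ye15 ze53) (ke xe29 ye22 ze16) (ke xe30 ye39 ze20) (ke xe31 ye33 ze49) (ke xe29 ye16 ze23) (ke xe32 ye7 ze13) (ke xe31 ye37 ze3) (ke xe31 ye36 ze57) (ke xe31 ye56 ze32) (ke xe31 ye56 ze16) (ke xe29 ye17 ze36) (ke xe31 ye55 ze38) (ke xe31 ye38 ze55) (ke xe31 ye22 ze27)) (@D3.rec (fun _ => Pt) (ke xe32 ye24 ze45) (ke xe29 ye28 ze24) (ke xe30 ye26 ze0) (ke xe30 ye24 ze52) (ke xe32 ye9 ze44) (ke xe29 ye21 ze5) (ke xe29 ye21 ze6) (ke xe30 ye30 ze3) (ke xe30 ye29 ze51) (ke xe29 ye21 ze26)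 (ke xe29 ye21 ze27) (ke xe32 ye57 ze25) (ke xe32 ye54 ze33) (ke xe32 ye1 ze8) (ke xe29 ye30 ze44) (ke xe30 ye42 ze9) (ke xe31 ye15 ze61) (ke xe32 ye57 ze35) (ke xe29 ye23 ze43) (ke xe29 ye23 ze46) (ke xe30 ye44 ze60) (ke xe30 ye25 ze23) (ke xe32 ye37 ze53) (ke xe31 ye14 ze7) (ke xe30 ye52 ze6) (ke xe32 ye59 ze9) (ke xe32 ye35 ze12) (ke xe29 ye25 ze22) (ke xe32 ye34 ze10) (ke xe31 ye50 ze20) (ke xe30 ye16 ze13) (ke xe32 ye36 ze14) (ke xe32 ye47 ze34) (ke xe32 ye40 ze15) (ke xe29 ye26 ze18) (ke xe32 ye10 ze34) (ke xe32 ye59 ze27) (ke xe29 ye45 ze17) (ke xe30 ye15 ze43) (ke xe29 ye26 ze48) (ke xe32 ye24 ze39) (ke xe31 ye7 ze50) (ke xe31 ye51 ze56) (ke xe32 ye18 ze2) (ke xe31 ye52 ze36) (ke xe32 ye36 ze34) (ke xe32 ye46 ze0) (ke xe32 ye43 ze29) (ke xe31 ye22 ze2) (ke xe32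 ye17 ze58) (ke xe29 ye27 ze34) (ke xe31 ye6 ze58) (ke xe32 ye55 ze56) (ke xe29 ye28 ze16) (ke xe29 ye55 ze43) (ke xe32 ye58 ze44) (ke xe29 ye28 ze43) (ke xe32 ye17 ze24) (ke xe30 ye21 ze29) (ke xe30 ye32 ze2) (ke xe32 ye5 ze39) (ke xe30 ye21 ze43)) (@D3.rec (fun _ => Pt) (ke xe29 ye30 ze20) (ke xe29 ye55 ze6) (ke xe31 ye16 ze12) (ke xe30 ye56 ze12) (ke xe29 ye45 ze5) (ke xe32 ye35 ze42) (ke xe32 ye46 ze50) (ke xe32 ye11 ze12) (ke xe29 ye31 ze35) (ke xe32 ye23 ze2) (ke xe29 ye34 ze15) (ke xe30 ye21 ze21) (ke xe31 ye12 ze47) (ke xe29 ye32 ze14) (ke xe31 ye12 ze35) (ke xe31 ye17 ze42) (ke xe32 ye4 ze17) (ke xe29 ye32 ze21) (ke xe29 ye32 ze42) (ke xe32 ye51 ze48) (ke xe31 ye41 ze52) (ke xe29 ye46 ze39) (ke xe30 ye16 ze16) (ke xe32 ye59 ze30) (ke xe29 ye33 ze10) (ke xe32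 ye12 ze12) (ke xe32 ye12 ze34) (ke xe31 ye27 ze22) (ke xe29 ye33 ze17) (ke xe31 ye19 ze7) (ke xe32 ye58 ze56) (ke xe32 ye37 ze23) (ke xe32 ye47 ze24) (ke xe30 ye14 ze47) (ke xe32 ye18 ze22) (ke xe29 ye33 ze31) (ke xe29 ye33 ze32) (ke xe30 ye25 ze31) (ke xe32 ye59 ze33) (ke xe29 ye33 ze37) (ke xe32 ye59 ze26) (ke xe30 ye28 ze20) (ke xe32 ye13 ze29) (ke xe29 ye33 ze48) (ke xe31 ye31 ze49) (ke xe30 ye28 ze11) (ke xe29 ye50 ze4) (ke xe32 ye59 ze34) (ke xe30 ye15 ze28) (ke xe29 ye34 ze5) (ke xe29 ye34 ze6) (ke xe29 ye34 ze12) (ke xe29 ye34 ze14) (ke xe32 ye41 ze7) (ke xe32 ye40 ze26) (ke xe32 ye50 ze55) (ke xe32 ye4 ze3) (ke xe29 ye35 ze18) (ke xe31 ye21 ze16) (ke xe29 ye35 ze41) (ke xe29 ye53 ze26) (ke xe32 ye51 ze19)) (@D3.rec (fun _ => Pt) (ke xe32 ye44 ze46) (ke xe29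 ye36 ze10) (ke xe32 ye59 ze49) (ke xe32 ye59 ze47) (ke xe29 ye36 ze9) (ke xe32 ye50 ze0) (ke xe32 ye17 ze47) (ke xe32 ye59 ze50) (ke xe29 ye36 ze11) (ke xe30 ye19 ze6) (ke xe32 ye46 ze24) (ke xe29 ye36 ze12) (ke xe31 ye56 ze59) (ke xe29 ye36 ze16) (ke xe31 ye50 ze16) (ke xe31 ye53 ze18) (ke xe31 ye51 ze58) (ke xe30 ye41 ze59) (ke xe29 ye36 ze30) (ke xe31 ye15 ze48) (ke xe29 ye36 ze53) (ke xe30 ye22 ze9) (ke xe31 ye30 ze41) (ke xe29 ye37 ze6) (ke xe32 ye46 ze10) (ke xe30 ye22 ze4) (ke xe32 ye57 ze15) (ke xe29 ye43 ze16) (ke xe30 ye15 ze54) (ke xe32 ye59 ze24) (ke xe32 ye13 ze34) (ke xe29 ye38 ze10) (ke xe30 ye28 ze32) (ke xe30 ye40 ze2) (ke xe30 ye35 ze20) (ke xe29 ye39 ze31) (ke xe32 ye57 ze56) (ke xe29 ye39 ze61) (ke xe29 ye40 ze11) (ke xe31 ye33 ze29) (ke xe31 ye20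 ze33) (ke xe30 ye30 ze59) (ke xe32 ye18 ze33) (ke xe30 ye22 ze21) (ke xe32 ye33 ze8) (ke xe32 ye14 ze34) (ke xe32 ye37 ze27) (ke xe32 ye21 ze42) (ke xe32 ye13 ze10) (ke xe29 ye40 ze30) (ke xe32 ye45 ze6) (ke xe30 ye16 ze6) (ke xe29 ye45 ze36) (ke xe29 ye40 ze56) (ke xe29 ye41 ze4) (ke xe32 ye27 ze19) (ke xe32 ye57 ze20) (ke xe32 ye55 ze22) (ke xe31 ye10 ze21) (ke xe30 ye56 ze4) (ke xe32 ye36 ze25) (ke xe29 ye41 ze43)) (@D3.rec (fun _ => Pt) (ke xe32 ye14 ze58) (ke xe32 ye1 ze31) (ke xe32 ye18 ze12) (ke xe29 ye42 ze30) (ke xe32 ye42 ze49) (ke xe32 ye18 ze42) (ke xe29 ye43 ze25) (ke xe32 ye14 ze16) (ke xe31 ye52 ze20) (ke xe31 ye20 ze34) (ke xe31 ye5 ze46) (ke xe32 ye48 ze47) (ke xe29 ye44 ze4) (ke xe29 ye44 ze5) (ke xe29 ye44 ze15) (ke xe32 ye15 ze52) (ke xe31 ye26 ze27)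 (ke xe31 ye30 ze44) (ke xe31 ye51 ze55) (ke xe29 ye44 ze61) (ke xe32 ye39 ze29) (ke xe32 ye13 ze40) (ke xe32 ye50 ze16) (ke xe32 ye47 ze38) (ke xe32 ye45 ze32) (ke xe31 ye19 ze48) (ke xe29 ye45 ze32) (ke xe32 ye15 ze34) (ke xe32 ye57 ze47) (ke xe29 ye45 ze42) (ke xe29 ye45 ze45) (ke xe32 ye21 ze50) (ke xe29 ye45 ze53) (ke xe32 ye52 ze47) (ke xe32 ye44 ze32) (ke xe32 ye52 ze37) (ke xe32 ye39 ze8) (ke xe32 ye12 ze9) (ke xe32 ye47 ze23) (ke xe32 ye37 ze58) (ke xe32 ye10 ze50) (ke xe32 ye12 ze10) (ke xe31 ye34 ze59) (ke xe29 ye46 ze36) (ke xe31 ye17 ze18) (ke xe32 ye11 ze42) (ke xe29 ye46 ze18) (ke xe32 ye35 ze46) (ke xe29 ye46 ze27) (ke xe31 ye30 ze46) (ke xe29 ye46 ze47) (ke xe31 ye30 ze59) (ke xe32 ye14 ze40) (ke xe31 ye26 ze11) (ke xe32 ye56 ze25) (ke xe29 ye47 ze26)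 (ke xe31 ye14 ze6) (ke xe31 ye21 ze45) (ke xe32 ye59 ze28) (ke xe32 ye13 ze56) (ke xe30 ye29 ze33) (ke xe29 ye48 ze22)) (@D3.rec (fun _ => Pt) (ke xe32 ye52 ze6) (ke xe29 ye48 ze14) (ke xe29 ye48 ze15) (ke xe29 ye48 ze23) (ke xe31 ye15 ze16) (ke xe29 ye48 ze27) (ke xe32 ye35 ze36) (ke xe32 ye59 ze29) (ke xe31 ye46 ze46) (ke xe31 ye47 ze20) (ke xe32 ye41 ze25) (ke xe30 ye10 ze11) (ke xe30 ye40 ze28) (ke xe31 ye10 ze12) (ke xe29 ye49 ze46) (ke xe29 ye49 ze58) (ke xe31 ye9 ze36) (ke xe32 ye8 ze24) (ke xe31 ye1 ze52) (ke xe32 ye28 ze55) (ke xe32 ye54 ze21) (ke xe30 ye52 ze17) (ke xe30 ye52 ze31) (ke xe31 ye10 ze8) (ke xe30 ye11 ze25) (ke xe29 ye51 ze41) (ke xe31 ye34 ze31) (ke xe30 ye7 ze45) (ke xe31 ye59 ze2) (ke xe31 ye19 ze5) (ke xe29 ye52 ze33) (ke xe29 ye52 ze48) (ke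 xe30 ye54 ze31) (ke xe29 ye52 ze60) (ke xe30 ye39 ze0) (ke xe31 ye15 ze20) (ke xe32 ye23 ze58) (ke xe30 ye53 ze37) (ke xe32 ye49 ze30) (ke xe29 ye53 ze49) (ke xe29 ye53 ze60) (ke xe32 ye21 ze41) (ke xe32 ye22 ze0) (ke xe29 ye54 ze50) (ke xe30 ye33 ze12) (ke xe32 ye31 ze53) (ke xe30 ye9 ze31) (ke xe32 ye47 ze11) (ke xe29 ye56 ze4) (ke xe30 ye33 ze19) (ke xe32 ye56 ze49) (ke xe32 ye22 ze17) (ke xe29 ye56 ze33) (ke xe31 ye27 ze39) (ke xe29 ye56 ze60) (ke xe32 ye24 ze34) (ke xe32 ye49 ze33) (ke xe31 ye58 ze46) (ke xe30 ye33 ze17) (ke xe32 ye21 ze4) (ke xe30 ye52 ze34) (ke xe30 ye10 ze41)) (@D3.rec (fun _ => Pt) (ke xe29 ye57 ze41) (ke xe32 ye27 ze49) (ke xe32 ye42 ze7) (ke xe29 ye58 ze7) (ke xe29 ye58 ze10) (ke xe29 ye58 ze15) (ke xe31 ye3 ze54) (ke xe32 ye35 ze49) (ke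 xe30 ye10 ze31) (ke xe32 ye23 ze38) (ke xe31 ye30 ze17) (ke xe29 ye58 ze42) (ke xe30 ye40 ze32) (ke xe31 ye35 ze12) (ke xe31 ye3 ze57) (ke xe31 ye30 ze12) (ke xe29 ye59 ze33) (ke xe31 ye40 ze11) (ke xe30 ye0 ze26) (ke xe31 ye18 ze28) (ke xe30 ye0 ze38) (ke xe30 ye37 ze34) (ke xe30 ye0 ze54) (ke xe32 ye6 ze41) (ke xe30 ye0 ze55) (ke xe30 ye1 ze40) (ke xe32 ye28 ze35) (ke xe30 ye56 ze18) (ke xe30 ye1 ze46) (ke xe31 ye56 ze31) (ke xe32 ye48 ze38) (ke xe30 ye2 ze12) (ke xe32 ye32 ze48) (ke xe32 ye48 ze56) (ke xe32 ye10 ze16) (ke xe32 ye24 ze38) (ke xe32 ye58 ze50) (ke xe31 ye42 ze9) (ke xe31 ye40 ze23) (ke xe30 ye3 ze34) (ke xe31 ye5 ze12) (ke xe30 ye3 ze48) (ke xe30 ye4 ze5) (ke xe30 ye52 ze11) (ke xe31 ye34 ze34) (ke xe32 ye53 ze41) (ke xe30 ye4 ze35) (ke xe32 ye57 ze57)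 (ke xe31 ye9 ze28) (ke xe31 ye37 ze49) (ke xe30 ye4 ze51) (ke xe32 ye55 ze23) (ke xe32 ye2 ze41) (ke xe30 ye5 ze3) (ke xe32 ye9 ze56) (ke xe32 ye21 ze26) (ke xe32 ye20 ze18) (ke xe32 ye59 ze8) (ke xe30 ye5 ze41) (ke xe30 ye38 ze12) (ke xe32 ye22 ze35) (ke xe31 ye13 ze57)) (@D3.rec (fun _ => Pt) (ke xe32 ye46 ze5) (ke xe32 ye22 ze43) (ke xe32 ye21 ze28) (ke xe30 ye5 ze49) (ke xe32 ye41 ze36) (ke xe32 ye51 ze18) (ke xe31 ye56 ze52) (ke xe31 ye5 ze22) (ke xe31 ye56 ze34) (ke xe31 ye57 ze35) (ke xe32 ye54 ze17) (ke xe31 ye54 ze54) (ke xe32 ye40 ze54) (ke xe31 ye51 ze49) (ke xe32 ye58 ze22) (ke xe30 ye7 ze1) (ke xe32 ye47 ze22) (ke xe30 ye57 ze58) (ke xe30 ye37 ze36) (ke xe32 ye54 ze29) (ke xe31 ye0 ze10) (ke xe30 ye47 ze1) (ke xe30 ye7 ze30) (ke xe32 ye59 ze53) (ke xe30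 ye7 ze35) (ke xe31 ye45 ze48) (ke xe32 ye59 ze54) (ke xe30 ye8 ze3) (ke xe30 ye8 ze12) (ke xe31 ye27 ze58) (ke xe30 ye15 ze30) (ke xe32 ye41 ze28) (ke xe30 ye51 ze36) (ke xe32 ye41 ze19) (ke xe31 ye24 ze28) (ke xe30 ye9 ze61) (ke xe30 ye41 ze21) (ke xe31 ye9 ze20) (ke xe30 ye37 ze28) (ke xe30 ye11 ze54) (ke xe30 ye39 ze8) (ke xe32 ye12 ze58) (ke xe30 ye34 ze17) (ke xe31 ye11 ze19) (ke xe31 ye57 ze37) (ke xe30 ye52 ze18) (ke xe31 ye16 ze41) (ke xe31 ye11 ze8) (ke xe32 ye54 ze1) (ke xe32 ye26 ze16) (ke xe31 ye9 ze15) (ke xe31 ye3 ze0) (ke xe31 ye2 ze52) (ke xe30 ye40 ze18) (ke xe30 ye38 ze60) (ke xe32 ye45 ze55) (ke xe32 ye22 ze54) (ke xe32 ye52 ze46) (ke xe30 ye31 ze9) (ke xe32 ye12 ze20) (ke xe30 ye29 ze1) (ke xe32 ye11 ze15)) (@D3.rec (fun _ => Pt) (ke xe32 ye59 ze38)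 (ke xe32 ye40 ze17) (ke xe30 ye16 ze11) (ke xe30 ye17 ze16) (ke xe32 ye15 ze45) (ke xe30 ye17 ze31) (ke xe31 ye14 ze0) (ke xe31 ye33 ze14) (ke xe32 ye36 ze29) (ke xe32 ye51 ze12) (ke xe32 ye19 ze33) (ke xe32 ye20 ze15) (ke xe32 ye51 ze9) (ke xe30 ye18 ze30) (ke xe30 ye22 ze10) (ke xe30 ye18 ze33) (ke xe32 ye57 ze30) (ke xe30 ye18 ze47) (ke xe32 ye50 ze5) (ke xe32 ye45 ze61) (ke xe32 ye51 ze24) (ke xe32 ye20 ze26) (ke xe32 ye20 ze27) (ke xe31 ye57 ze1) (ke xe32 ye51 ze20) (ke xe32 ye20 ze51) (ke xe32 ye59 ze21) (ke xe30 ye19 ze14) (ke xe32 ye59 ze55) (ke xe32 ye51 ze51) (ke xe32 ye20 ze54) (ke xe30 ye19 ze17) (ke xe31 ye30 ze23) (ke xe30 ye54 ze9) (ke xe32 ye37 ze61) (ke xe30 ye45 ze34) (ke xe31 ye7 ze49) (ke xe31 ye44 ze14) (ke xe31 ye27 ze46) (ke xe32 ye16 ze8) (ke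 xe30 ye21 ze14) (ke xe30 ye22 ze2) (ke xe32 ye8 ze9) (ke xe31 ye52 ze12) (ke xe30 ye21 ze27) (ke xe30 ye21 ze33) (ke xe32 ye59 ze13) (ke xe30 ye21 ze34) (ke xe32 ye45 ze19) (ke xe31 ye40 ze18) (ke xe32 ye57 ze50) (ke xe32 ye51 ze29) (ke xe32 ye59 ze58) (ke xe30 ye21 ze54) (ke xe32 ye56 ze60) (ke xe32 ye37 ze59) (ke xe32 ye59 ze1) (ke xe30 ye21 ze58) (ke xe32 ye56 ze40) (ke xe32 ye43 ze42) (ke xe32 ye17 ze45) (ke xe31 ye51 ze34)) (@D3.rec (fun _ => Pt) (ke xe31 ye51 ze38) (ke xe32 ye39 ze7) (ke xe31 ye13 ze52) (ke xe31 ye30 ze1) (ke xe32 ye56 ze35) (ke xe32 ye35 ze55) (ke xe32 ye48 ze0) (ke xe32 ye53 ze50) (ke xe31 ye12 ze31) (ke xe32 ye52 ze13) (ke xe30 ye22 ze27) (ke xe31 ye33 ze22) (ke xe30 ye23 ze35) (ke xe32 ye52 ze9) (ke xe30 ye32 ze27) (ke xe30 ye37 ze55) (ke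 xe30 ye23 ze61) (ke xe32 ye28 ze34) (ke xe31 ye58 ze38) (ke xe31 ye23 ze1) (ke xe30 ye39 ze30) (ke xe31 ye55 ze45) (ke xe30 ye30 ze57) (ke xe30 ye30 ze18) (ke xe30 ye26 ze23) (ke xe32 ye23 ze14) (ke xe30 ye39 ze2) (ke xe30 ye26 ze44) (ke xe30 ye27 ze16) (ke xe32 ye58 ze11) (ke xe30 ye28 ze10) (ke xe32 ye59 ze11) (ke xe32 ye37 ze34) (ke xe30 ye31 ze4) (ke xe30 ye56 ze50) (ke xe30 ye31 ze7) (ke xe32 ye9 ze8) (ke xe32 ye47 ze35) (ke xe32 ye40 ze37) (ke xe31 ye52 ze19) (ke xe32 ye59 ze4) (ke xe31 ye21 ze3) (ke xe32 ye23 ze3) (ke xe31 ye34 ze30) (ke xe30 ye28 ze58) (ke xe31 ye19 ze24) (ke xe32 ye50 ze57) (ke xe32 ye47 ze33) (ke xe32 ye21 ze48) (ke xe32 ye38 ze60) (ke xe32 ye36 ze0) (ke xe30 ye29 ze36) (ke xe31 ye12 ze43) (ke xe30 ye30 ze26) (ke xe32 ye16 ze52) (ke xe32 ye18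 ze45) (ke xe30 ye30 ze34) (ke xe31 ye43 ze27) (ke xe31 ye13 ze38) (ke xe30 ye52 ze12) (ke xe32 ye58 ze49) (ke xe32 ye29 ze60)) (@D3.rec (fun _ => Pt) (ke xe32 ye59 ze31) (ke xe32 ye53 ze19) (ke xe30 ye31 ze29) (ke xe32 ye33 ze23) (ke xe30 ye40 ze8) (ke xe32 ye54 ze7) (ke xe30 ye32 ze15) (ke xe30 ye32 ze17) (ke xe31 ye10 ze15) (ke xe30 ye34 ze19) (ke xe31 ye20 ze60) (ke xe32 ye5 ze8) (ke xe30 ye33 ze11) (ke xe30 ye38 ze58) (ke xe30 ye33 ze26) (ke xe32 ye4 ze55) (ke xe31 ye39 ze3) (ke xe32 ye5 ze11) (ke xe30 ye34 ze2) (ke xe32 ye53 ze1) (ke xe30 ye34 ze24) (ke xe32 ye56 ze37) (ke xe32 ye58 ze42) (ke xe32 ye54 ze51) (ke xe32 ye54 ze52) (ke xe30 ye34 ze31) (ke xe32 ye54 ze2) (ke xe32 ye29 ze14) (ke xe32 ye31 ze37) (ke xe31 ye14 ze59) (ke xe30 ye35 ze23) (ke xe31 ye14 ze37)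 (ke xe31 ye37 ze43) (ke xe32 ye38 ze17) (ke xe31 ye37 ze15) (ke xe30 ye45 ze7) (ke xe31 ye2 ze1) (ke xe30 ye36 ze17) (ke xe30 ye49 ze9) (ke xe31 ye59 ze42) (ke xe31 ye34 ze54) (ke xe32 ye49 ze45) (ke xe30 ye42 ze3) (ke xe32 ye40 ze18) (ke xe30 ye37 ze43) (ke xe30 ye45 ze0) (ke xe30 ye37 ze48) (ke xe32 ye40 ze7) (ke xe32 ye58 ze15) (ke xe32 ye54 ze50) (ke xe32 ye52 ze7) (ke xe30 ye38 ze27) (ke xe30 ye49 ze43) (ke xe32 ye21 ze25) (ke xe31 ye15 ze14) (ke xe30 ye39 ze31) (ke xe31 ye50 ze49) (ke xe31 ye3 ze10) (ke xe31 ye53 ze8) (ke xe30 ye40 ze12) (ke xe31 ye27 ze43) (ke xe30 ye40 ze13)) (@D3.rec (fun _ => Pt) (ke xe32 ye26 ze54) (ke xe32 ye50 ze48) (ke xe32 ye53 ze26) (ke xe30 ye40 ze15) (ke xe32 ye5 ze9) (ke xe31 ye8 ze3) (ke xe32 ye24 ze30) (ke xe32 ye53 ze5) (ke xe31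 ye27 ze35) (ke xe31 ye8 ze32) (ke xe31 ye18 ze35) (ke xe32 ye8 ze17) (ke xe32 ye4 ze38) (ke xe30 ye41 ze10) (ke xe30 ye41 ze18) (ke xe32 ye57 ze61) (ke xe30 ye41 ze25) (ke xe32 ye50 ze10) (ke xe30 ye41 ze29) (ke xe30 ye41 ze31) (ke xe31 ye0 ze13) (ke xe32 ye48 ze20) (ke xe31 ye11 ze23) (ke xe32 ye4 ze47) (ke xe31 ye11 ze9) (ke xe32 ye36 ze12) (ke xe32 ye11 ze54) (ke xe32 ye37 ze7) (ke xe32 ye34 ze48) (ke xe32 ye50 ze19) (ke xe30 ye44 ze46) (ke xe32 ye2 ze37) (ke xe30 ye44 ze61) (ke xe32 ye44 ze12) (ke xe31 ye51 ze53) (ke xe30 ye56 ze32) (ke xe32 ye58 ze16) (ke xe31 ye54 ze59) (ke xe32 ye56 ze55) (ke xe30 ye48 ze7) (ke xe31 ye28 ze31) (ke xe31 ye20 ze61) (ke xe32 ye36 ze51) (ke xe31 ye19 ze54) (ke xe32 ye10 ze20) (ke xe31 ye22 ze20) (ke xe30 ye56 ze28) (ke xe31 ye13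 ze13) (ke xe32 ye17 ze50) (ke xe31 ye16 ze20) (ke xe32 ye53 ze49) (ke xe32 ye53 ze23) (ke xe32 ye53 ze24) (ke xe32 ye15 ze40) (ke xe32 ye35 ze54) (ke xe32 ye39 ze36) (ke xe31 ye35 ze29) (ke xe31 ye4 ze5) (ke xe30 ye57 ze50) (ke xe30 ye59 ze6) (ke xe31 ye28 ze61) (ke xe31 ye43 ze22)) (@D3.rec (fun _ => Pt) (ke xe31 ye24 ze29) (ke xe31 ye12 ze51) (ke xe30 ye54 ze12) (ke xe30 ye54 ze40) (ke xe32 ye34 ze39) (ke xe30 ye54 ze54) (ke xe30 ye54 ze56) (ke xe31 ye47 ze23) (ke xe30 ye56 ze53) (ke xe31 ye16 ze16) (ke xe30 ye58 ze39) (ke xe32 ye5 ze45) (ke xe30 ye57 ze39) (ke xe30 ye58 ze52) (ke xe31 ye2 ze46) (ke xe30 ye59 ze7) (ke xe30 ye59 ze15) (ke xe31 ye25 ze31) (ke xe31 ye11 ze57) (ke xe31 ye1 ze59) (ke xe31 ye38 ze3) (ke xe31 ye42 ze14) (ke xe32 ye46 ze57) (ke xe32 ye49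 ze51) (ke xe31 ye3 ze15) (ke xe31 ye29 ze4) (ke xe31 ye5 ze52) (ke xe32 ye23 ze50) (ke xe31 ye3 ze60) (ke xe31 ye4 ze12) (ke xe31 ye4 ze29) (ke xe31 ye11 ze20) (ke xe31 ye4 ze23) (ke xe32 ye26 ze24) (ke xe32 ye32 ze3) (ke xe31 ye5 ze30) (ke xe32 ye19 ze23) (ke xe32 ye24 ze40) (ke xe31 ye32 ze59) (ke xe31 ye19 ze31) (ke xe32 ye30 ze20) (ke xe31 ye7 ze54) (ke xe31 ye8 ze35) (ke xe31 ye8 ze36) (ke xe31 ye8 ze38) (ke xe31 ye9 ze7) (ke xe31 ye57 ze25) (ke xe31 ye9 ze38) (ke xe31 ye9 ze39) (ke xe31 ye46 ze50) (ke xe31 ye46 ze52) (ke xe31 ye9 ze61) (ke xe31 ye33 ze43) (ke xe31 ye10 ze61) (ke xe31 ye48 ze56) (ke xe31 ye27 ze36) (ke xe32 ye44 ze52) (ke xe32 ye24 ze61) (ke xe32 ye27 ze30) (ke xe31 ye57 ze54) (ke xe32 ye27 ze48) (ke xe31 ye12 ze57)) (@D3.rec (fun _ => Pt) (ke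 xe32 ye40 ze55) (ke xe32 ye31 ze47) (ke xe32 ye32 ze12) (ke xe31 ye13 ze49) (ke xe32 ye20 ze52) (ke xe32 ye20 ze33) (ke xe32 ye39 ze59) (ke xe32 ye59 ze52) (ke xe31 ye13 ze56) (ke xe31 ye33 ze61) (ke xe31 ye46 ze13) (ke xe32 ye31 ze54) (ke xe31 ye52 ze43) (ke xe31 ye51 ze31) (ke xe32 ye10 ze59) (ke xe32 ye39 ze37) (ke xe32 ye41 ze0) (ke xe32 ye59 ze3) (ke xe31 ye51 ze30) (ke xe32 ye6 ze47) (ke xe31 ye16 ze36) (ke xe32 ye31 ze16) (ke xe32 ye26 ze11) (ke xe31 ye16 ze59) (ke xe31 ye17 ze58) (ke xe32 ye47 ze54) (ke xe32 ye20 ze42) (ke xe31 ye18 ze61) (ke xe32 ye57 ze27) (ke xe31 ye22 ze24) (ke xe32 ye11 ze29) (ke xe32 ye58 ze59) (ke xe31 ye51 ze41) (ke xe31 ye19 ze58) (ke xe31 ye19 ze61) (ke xe32 ye52 ze4) (ke xe31 ye20 ze1) (ke xe32 ye53 ze21) (ke xe31 ye31 ze12) (ke xe31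 ye21 ze14) (ke xe32 ye51 ze58) (ke xe32 ye27 ze17) (ke xe32 ye40 ze45) (ke xe31 ye39 ze10) (ke xe32 ye16 ze58) (ke xe32 ye34 ze33) (ke xe31 ye55 ze7) (ke xe32 ye39 ze39) (ke xe31 ye24 ze34) (ke xe32 ye48 ze50) (ke xe32 ye58 ze40) (ke xe31 ye24 ze42) (ke xe32 ye59 ze37) (ke xe32 ye59 ze39) (ke xe31 ye38 ze17) (ke xe32 ye54 ze38) (ke xe31 ye25 ze37) (ke xe32 ye36 ze8) (ke xe31 ye26 ze25) (ke xe32 ye36 ze56) (ke xe32 ye51 ze54) (ke xe32 ye57 ze10)) (@D3.rec (fun _ => Pt) (ke xe32 ye58 ze60) (ke xe31 ye47 ze34) (ke xe32 ye59 ze45) (ke xe32 ye22 ze56) (ke xe32 ye23 ze7) (ke xe32 ye23 ze49) (ke xe31 ye38 ze4) (ke xe31 ye27 ze54) (ke xe32 ye14 ze13) (ke xe32 ye32 ze31) (ke xe32 ye56 ze61) (ke xe31 ye40 ze2) (ke xe31 ye30 ze9) (ke xe32 ye35 ze31) (ke xe31 ye47 ze5) (ke xe32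 ye46 ze26) (ke xe31 ye31 ze18) (ke xe32 ye57 ze18) (ke xe32 ye57 ze17) (ke xe32 ye34 ze42) (ke xe32 ye46 ze56) (ke xe32 ye40 ze49) (ke xe32 ye25 ze8) (ke xe31 ye32 ze50) (ke xe31 ye32 ze60) (ke xe32 ye44 ze11) (ke xe32 ye11 ze50) (ke xe32 ye56 ze28) (ke xe32 ye39 ze15) (ke xe32 ye42 ze52) (ke xe32 ye51 ze16) (ke xe32 ye40 ze51) (ke xe31 ye45 ze34) (ke xe31 ye37 ze40) (ke xe31 ye46 ze10) (ke xe32 ye44 ze17) (ke xe32 ye57 ze59) (ke xe31 ye52 ze58) (ke xe31 ye52 ze13) (ke xe32 ye57 ze46) (ke xe31 ye56 ze17) (ke xe32 ye39 ze32) (ke xe32 ye19 ze31) (ke xe32 ye40 ze38) (ke xe32 ye39 ze14) (ke xe31 ye40 ze16) (ke xe32 ye57 ze39) (ke xe32 ye47 ze28) (ke xe31 ye40 ze35) (ke xe32 ye59 ze59) (ke xe32 ye51 ze50) (ke xe31 ye47 ze43) (ke xe31 ye41 ze35) (ke xe32 ye59 ze23) (ke xe31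 ye42 ze12) (ke xe31 ye42 ze15) (ke xe32 ye46 ze36) (ke xe32 ye49 ze47) (ke xe31 ye45 ze14) (ke xe32 ye57 ze36) (ke xe31 ye46 ze30) (ke xe32 ye54 ze15)) (@D3.rec (fun _ => Pt) (ke xe32 ye26 ze50) (ke xe32 ye38 ze2) (ke xe31 ye48 ze1) (ke xe32 ye58 ze19) (ke xe32 ye25 ze20) (ke xe32 ye59 ze51) (ke xe32 ye42 ze29) (ke xe32 ye59 ze12) (ke xe31 ye50 ze15) (ke xe32 ye59 ze5) (ke xe32 ye4 ze27) (ke xe32 ye52 ze29) (ke xe31 ye51 ze18) (ke xe32 ye40 ze40) (ke xe32 ye43 ze12) (ke xe32 ye53 ze48) (ke xe32 ye54 ze36) (ke xe31 ye51 ze44) (ke xe31 ye56 ze61) (ke xe32 ye58 ze3) (ke xe32 ye58 ze30) (ke xe32 ye59 ze57) (ke xe32 ye50 ze14) (ke xe31 ye52 ze16) (ke xe31 ye52 ze24) (ke xe32 ye4 ze26) (ke xe31 ye52 ze27) (ke xe31 ye53 ze3) (ke xe32 ye58 ze51) (ke xe31 ye58 ze42) (ke xe32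 ye58 ze20) (ke xe31 ye53 ze15) (ke xe31 ye54 ze21) (ke xe32 ye21 ze58) (ke xe32 ye25 ze28) (ke xe32 ye25 ze40) (ke xe32 ye59 ze46) (ke xe32 ye59 ze56) (ke xe32 ye59 ze36) (ke xe32 ye59 ze14) (ke xe32 ye56 ze50) (ke xe32 ye11 ze8) (ke xe32 ye53 ze22) (ke xe32 ye59 ze44) (ke xe32 ye44 ze55) (ke xe32 ye1 ze40) (ke xe32 ye7 ze48) (ke xe32 ye6 ze7) (ke xe32 ye59 ze43) (ke xe32 ye52 ze60) (ke xe32 ye49 ze36) (ke xe32 ye58 ze28) (ke xe32 ye7 ze26) (ke xe32 ye31 ze33) (ke xe32 ye12 ze22) (ke xe32 ye12 ze33) (ke xe32 ye45 ze30) (ke xe32 ye12 ze35) (ke xe32 ye14 ze3) (ke xe32 ye56 ze31) (ke xe32 ye57 ze0) (ke xe32 ye43 ze10)) (@D3.rec (fun _ => Pt) (ke xe32 ye16 ze50) (ke xe32 ye51 ze56) (ke xe32 ye38 ze0) (ke xe32 ye56 ze17) (ke xe32 ye52 ze40) (ke xe32 ye58 ze9) (ke xe32 ye20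 ze43) (ke xe32 ye37 ze44) (ke xe32 ye49 ze57) (ke xe32 ye44 ze25) (ke xe32 ye59 ze35) (ke xe32 ye52 ze31) (ke xe32 ye58 ze7) (ke xe32 ye51 ze46) (ke xe32 ye58 ze39) (ke xe32 ye25 ze41) (ke xe32 ye29 ze17) (ke xe32 ye27 ze18) (ke xe32 ye27 ze20) (ke xe32 ye35 ze37) (ke xe32 ye32 ze14) (ke xe32 ye51 ze26) (ke xe32 ye33 ze60) (ke xe32 ye57 ze53) (ke xe32 ye46 ze29) (ke xe32 ye36 ze21) (ke xe32 ye45 ze40) (ke xe32 ye44 ze36) (ke xe32 ye47 ze58) (ke xe32 ye48 ze7) (ke xe32 ye45 ze23) (ke xe32 ye53 ze0) (ke xe32 ye37 ze46) (ke xe32 ye45 ze38) (ke xe32 ye45 ze47) (ke xe32 ye59 ze10) (ke xe32 ye58 ze38) (ke xe32 ye56 ze52) (ke xe32 ye51 ze0) (ke xe32 ye56 ze53) (ke xe32 ye59 ze61) (ke xe32 ye43 ze31) (ke xe32 ye43 ze32) (ke xe32 ye58 ze48) (ke xe32 ye58 ze43) (ke xe32 ye57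 ze2) (ke xe32 ye58 ze36) (ke xe32 ye46 ze3) (ke xe32 ye59 ze60) (ke xe32 ye46 ze2) (ke xe32 ye46 ze7) (ke xe32 ye58 ze5) (ke xe32 ye56 ze7) (ke xe32 ye50 ze23) (ke xe32 ye50 ze26) (ke xe32 ye51 ze28) (ke xe32 ye58 ze37) (ke xe32 ye58 ze21) (ke xe32 ye51 ze52) (ke xe32 ye57 ze49) (ke xe32 ye59 ze48) (ke xe32 ye59 ze40))
def f_e : Pt → Pt := @Pt.rec (fun _ => Pt) (@D1.rec (fun _ => D2 → D3 → Pt) f_e_0 f_e_1 f_e_2 f_e_3 f_e_4 f_e_5 f_e_6 f_e_7 f_e_8 f_e_9 f_e_10 f_e_11 f_e_12 f_e_13 f_e_14 f_e_15 f_e_16 f_e_17 f_e_18 f_e_19 f_e_20 f_e_21 f_e_22 f_e_23 f_e_24 f_e_25 f_e_26 f_e_27 f_e_28 f_e_29 f_e_30 f_e_31 f_e_32)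
def fi_e : Pt → Pt := f_e

theorem inv_chk_e : chkInv allPts beqPt f_e fi_e = true := by decide +kernel

end

end Cfsg.Agent.Helper28.S1692
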